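import Mathlib
import Cfsg.Agent.Lib.FusionMeet

/-!
The meet of (weakly) normal subsystems: the invariant family.
-/

set_option autoImplicit false
open Cfsg Cfsg.FusionSystem Cfsg.Agent.Lib.FusionBasic Cfsg.Agent.Lib.FusionSat Cfsg.Agent.Lib.FusionNormal
  Cfsg.Agent.Lib.FusionInvar Cfsg.Agent.Lib.FusionTools Cfsg.Agent.Lib.FusionPP Cfsg.Agent.Lib.FusionStrong
  Cfsg.Agent.Lib.FusionSys Cfsg.Agent.Lib.FusionFrat Cfsg.Agent.Lib.FusionPrime Cfsg.Agent.Lib.FusionTC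
  Cfsg.Agent.Lib.FusionClosed Cfsg.Agent.Lib.FusionStab Cfsg.Agent.Lib.FusionZeta Cfsg.Agent.Lib.FusionCenClosed
  Cfsg.Agent.Lib.FusionLemD Cfsg.Agent.Lib.FusionMeet
open Cfsg.Agent.Lib.FusionThmA (InA inA_id inA_aut Gn sysA sysA_sub tc_of_fullyNormalized mem_of_normalizes pow_mapsTo
  inv_mapsTo trivial_move trivial_fiso GoodTo I1 I2 aut_norm map_norm norm_fiso exists_e)
open Cfsg.Agent.Lib.FusionPIdx (le_normalizer_sup le_normalizer_of_conj map_resid_conj mem_map_resid)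

namespace Cfsg.Agent.Lib.FusionMeet2

variable {Ω : Type*} [Group Ω] {S T : Subgroup Ω} {F : FusionSystem S} {E : FusionSystem T}
  {P Q R U M X Y Z P₁ : Subgroup Ω} {a b f g k θ κ ψ : Ω → Ω} {p : ℕ}
  {ι : Type*} {T' : ι → Subgroup Ω} {E' : ∀ i, FusionSystem (T' i)}

/-- `P C_S(P)` is centric when `P` is fully centralized -/
theorem centric_cent [Finite S] (hP : F.IsFullyCentralized P) : F.IsCentric (P ⊔ centralizerIn S P) := by
  refine ⟨sup_le hP.1 (centralizerIn_le S P), fun R hR => ?_⟩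
  obtain ⟨f, hf⟩ := isConj_iff_fiso.1 hR
  obtain ⟨Q, hQ⟩ := (hf.1.restrict le_sup_left).exists_iso
  have hCfin : Finite (centralizerIn S Q) := finite_of_le (centralizerIn_le S Q)
  have hC : FIso F (centralizerIn S P) (centralizerIn S Q) f :=
    (hf.1.restrict le_sup_right).fiso_of_card (centralizerIn_le S Q) (fun c hc =>
      ⟨hf.1.map_mem (Subgroup.mem_sup_right hc), hQ.map_centralizer hf.1 le_sup_left (Subgroup.mem_sup_right hc) hc.2⟩)
      (hP.2 Q hQ.isConj)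
  have hQR : Q ≤ R := fun y hy => by
    obtain ⟨x, hx, rfl⟩ := hQ.mem_iff.1 hy
    exact hf.mem (Subgroup.mem_sup_left hx)
  intro y hy
  have hyQ : y ∈ centralizerIn S Q := ⟨hy.1, mem_centralizer_iff'.2 fun x hx => mem_centralizer_iff'.1 hy.2 x (hQR hx)⟩
  obtain ⟨x, hx, rfl⟩ := hC.mem_iff.1 hyQ
  exact hf.mem (Subgroup.mem_sup_right hx)

/-- displacement on a product -/
theorem move_sup (hb : FMap F (P ⊔ Q) b) (hbP : ∀ x ∈ P, b x ∈ P) (hQ : ∀ c ∈ Q, c⁻¹ * b c ∈ P)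
    (hn : ∀ c ∈ Q, c ∈ Subgroup.normalizer (P : Set Ω)) : ∀ x ∈ P ⊔ Q, x⁻¹ * b x ∈ P := by
  have hnorm : ∀ x ∈ P ⊔ Q, x ∈ Subgroup.normalizer (P : Set Ω) := fun x hx => (sup_le Subgroup.le_normalizer hn) hx
  let K : Subgroup Ω :=
    { carrier := {x | x ∈ P ⊔ Q ∧ x⁻¹ * b x ∈ P}
      one_mem' := ⟨Subgroup.one_mem _, by rw [hb.map_one]; simp⟩
      mul_mem' := by
        rintro x y ⟨hx, hx'⟩ ⟨hy, hy'⟩
        refine ⟨Subgroup.mul_mem _ hx hy, ?_⟩
        rw [hb.map_mul hx hy]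
        have h2 := (Subgroup.mem_normalizer_iff.1 (Subgroup.inv_mem _ (hnorm y hy)) _).1 hx'
        rw [inv_inv] at h2
        have h3 := P.mul_mem h2 hy'
        have h4 : y⁻¹ * (x⁻¹ * b x) * y * (y⁻¹ * b y) = (x * y)⁻¹ * (b x * b y) := by group
        rwa [h4] at h3
      inv_mem' := by
        rintro x ⟨hx, hx'⟩
        refine ⟨Subgroup.inv_mem _ hx, ?_⟩
        rw [hb.map_inv hx]
        have h2 := (Subgroup.mem_normalizer_iff.1 (hnorm x hx) _).1 (P.inv_mem hx')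
        have h3 : x * (x⁻¹ * b x)⁻¹ * x⁻¹ = x⁻¹⁻¹ * (b x)⁻¹ := by group
        rwa [h3] at h2 }
  have hK : P ⊔ Q ≤ K := sup_le (fun x hx => ⟨Subgroup.mem_sup_left hx, P.mul_mem (P.inv_mem hx) (hbP x hx)⟩)
    fun c hc => ⟨Subgroup.mem_sup_right hc, hQ c hc⟩
  exact fun x hx => (hK hx).2

theorem inter_closed (hE : ∀ i, Inv (E' i) F) (hT' : ∀ x, x ∈ T ↔ x ∈ S ∧ ∀ i, x ∈ T' i) : F.StronglyClosed T := by
  rw [stronglyClosed_iff]
  refine ⟨fun x hx => ((hT' x).1 hx).1, fun P f hP hf x hx => ?_⟩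
  have h1 := (hT' x).1 (hP hx)
  exact (hT' _).2 ⟨hf.map_mem hx, fun i => StronglyClosed.map_mem F (hE i).closed hf hx (h1.2 i)⟩

theorem gx_conj_T (hE : ∀ i, Inv (E' i) F) (hT' : ∀ x, x ∈ T ↔ x ∈ S ∧ ∀ i, x ∈ T' i) (hTC : TC F T P) {t : Ω}
    (ht : t ∈ normalizerIn T P) : Gx F E' P (fun x => t * x * t⁻¹) := by
  have hT := inter_closed hE hT'
  have hTi := ((hT' t).1 ht.1)
  refine ⟨fun x => t * x * t⁻¹, fmap_conj F (sup_le (hTC.1.trans hT.1) (centralizerIn_le S P)) hTi.1, fun _ _ => rfl,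
    fun c hc => ?_, fun i => fmap_conj (E' i) (sup_le (fun x hx => ((hT' x).1 (hTC.1 hx)).2 i)
      (centralizerIn_le _ P)) (hTi.2 i)⟩
  have htS : t ∈ normalizerIn S P := ⟨hTi.1, ht.2⟩
  have h1 : t * c * t⁻¹ ∈ centralizerIn S P := by
    refine ⟨S.mul_mem (S.mul_mem hTi.1 hc.1) (S.inv_mem hTi.1), mem_centralizer_iff'.2 fun x hx => ?_⟩
    have h2 := (Subgroup.mem_normalizer_iff.1 (Subgroup.inv_mem _ ht.2) x).1 hx
    rw [inv_inv] at h2
    have h3 := mem_centralizer_iff'.1 hc.2 _ h2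
    calc t * c * t⁻¹ * x * (t * c * t⁻¹)⁻¹ = t * (c * (t⁻¹ * x * t) * c⁻¹) * t⁻¹ := by group
      _ = x := by rw [h3]; group
  have h2 : c⁻¹ * (t * c * t⁻¹) ∈ centralizerIn S P := Subgroup.mul_mem _ (Subgroup.inv_mem _ hc) h1
  have h3 : c⁻¹ * (t * c * t⁻¹) ∈ T := by
    have h4 := (Subgroup.mem_normalizer_iff.1 (normalizes_of_stronglyClosed hT (S.inv_mem hc.1)) t).1 ht.1
    rw [inv_inv] at h4
    have h5 := T.mul_mem h4 (T.inv_mem ht.1)
    have h6 : c⁻¹ * t * c * t⁻¹ = c⁻¹ * (t * c * t⁻¹) := by group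
    rwa [h6] at h5
  exact hTC.cent hT ⟨h3, h2.2⟩

/-- a good extension of order prime to `p` -/
theorem gx_pp [Finite S] [Fact p.Prime] (hE : ∀ i, Inv (E' i) F) (hPT : ∀ i, P ≤ T' i) (hf : PP F p P f)
    (h : Gx F E' P f) : ∃ b, PP F p (P ⊔ centralizerIn S P) b ∧ (∀ x ∈ P, b x = f x) ∧
      (∀ c ∈ centralizerIn S P, c⁻¹ * b c ∈ P) ∧ ∀ i, FMap (E' i) (P ⊔ centralizerIn (T' i) P) b := by
  obtain ⟨b, h1, h2, h3, h4⟩ := h
  obtain ⟨hb, hbP, hbC, hbE⟩ := gx_data hE hPT (fun x hx => hf.mem hx) h1 h2 h3 h4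
  obtain ⟨n, hn, hn'⟩ := hf.2
  obtain ⟨m, hm, hm'⟩ := exists_pp_power hb (X := P) hn (fun x hx => by
    rw [iter_congr h2 (fun y hy => by rw [h2 y hy]; exact hf.mem hy) hx]; exact hn' x hx)
  refine ⟨b^[m], hm, fun x hx => by rw [hm' x hx, h2 x hx], ?_, fun i => (fiso_iter (hbE i) m).1⟩
  intro c hc
  have h1 : ∀ j : ℕ, c⁻¹ * b^[j] c ∈ P := by
    intro j
    induction j with
    | zero => simp
    | succ j ih =>
      rw [Function.iterate_succ_apply']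
      have h6 : b^[j] c ∈ centralizerIn S P := iter_mem hbC hc j
      have h5 : c⁻¹ * b (b^[j] c) = (c⁻¹ * b^[j] c) * ((b^[j] c)⁻¹ * b (b^[j] c)) := by group
      rw [h5]
      exact P.mul_mem ih (h3 _ h6)
  exact h1 m

/-- maps induced on `P` by `S` with good extension -/
def Kp (F : FusionSystem S) (E' : ∀ i, FusionSystem (T' i)) (P : Subgroup Ω) (b : Ω → Ω) : Prop :=
  (∃ s ∈ normalizerIn S P, ∀ x ∈ P, b x = s * x * s⁻¹) ∧ (∀ c ∈ centralizerIn S P, c⁻¹ * b c ∈ P) ∧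
    ∀ i, FMap (E' i) (P ⊔ centralizerIn (T' i) P) b

theorem Kp.map (h : Kp F E' P b) : ∀ x ∈ P, b x ∈ P := by
  obtain ⟨⟨s, hs, h1⟩, -⟩ := h
  intro x hx
  rw [h1 x hx]; exact (Subgroup.mem_normalizer_iff.1 hs.2 x).1 hx

theorem good_induced [Finite S] [Fact p.Prime] (hS : IsPGroup p S) (hF : F.IsSaturated p) (hE : ∀ i, Inv (E' i) F)
    (hP : F.IsFullyNormalized P) (hPT : ∀ i, P ≤ T' i) (hb : FMap F (P ⊔ centralizerIn S P) b) (hK : Kp F E' P b) :
    ∃ w ∈ normalizerIn S P, ∀ x ∈ P ⊔ centralizerIn S P, b x = w * x * w⁻¹ := by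
  have hPS := hP.1
  obtain ⟨V, hV⟩ : ∃ V, V = centralizerIn S P := ⟨_, rfl⟩
  obtain ⟨M, hM⟩ : ∃ M, M = P ⊔ centralizerIn S P := ⟨_, rfl⟩
  have hPM : P ≤ M := hM ▸ le_sup_left
  have hVM : V ≤ M := by rw [hV, hM]; exact le_sup_right
  have hVN : V ≤ normalizerIn S P := hV ▸ centralizerIn_le_normalizerIn S P
  have hMN : M ≤ normalizerIn S P := hM ▸ sup_le (le_normalizerIn hPS) (centralizerIn_le_normalizerIn S P)
  have hMS : M ≤ S := hMN.trans (normalizerIn_le S P)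
  have hMfin : Finite M := finite_of_le hMS
  have hMn : ∀ s ∈ normalizerIn S P, ∀ x ∈ M, s * x * s⁻¹ ∈ M := by
    intro s hs x hx
    have h1 : M ≤ M.comap (MulAut.conj s).toMonoidHom := by
      rw [hM]
      refine sup_le (fun y hy => Subgroup.mem_sup_left ((Subgroup.mem_normalizer_iff.1 hs.2 y).1 hy)) (fun y hy => ?_)
      refine Subgroup.mem_sup_right ⟨S.mul_mem (S.mul_mem hs.1 hy.1) (S.inv_mem hs.1), mem_centralizer_iff'.2 fun z hz => ?_⟩
      have h2 := (Subgroup.mem_normalizer_iff.1 (Subgroup.inv_mem _ hs.2) z).1 hz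
      rw [inv_inv] at h2
      have h3 := mem_centralizer_iff'.1 hy.2 _ h2
      calc s * y * s⁻¹ * z * (s * y * s⁻¹)⁻¹ = s * (y * (s⁻¹ * z * s) * y⁻¹) * s⁻¹ := by group
        _ = z := by rw [h3]; group
    exact h1 hx
  have hVn : ∀ s ∈ normalizerIn S P, ∀ x ∈ V, s * x * s⁻¹ ∈ V := by
    intro s hs y hy
    rw [hV] at hy ⊢
    refine ⟨S.mul_mem (S.mul_mem hs.1 hy.1) (S.inv_mem hs.1), mem_centralizer_iff'.2 fun z hz => ?_⟩
    have h2 := (Subgroup.mem_normalizer_iff.1 (Subgroup.inv_mem _ hs.2) z).1 hz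
    rw [inv_inv] at h2
    have h3 := mem_centralizer_iff'.1 hy.2 _ h2
    calc s * y * s⁻¹ * z * (s * y * s⁻¹)⁻¹ = s * (y * (s⁻¹ * z * s) * y⁻¹) * s⁻¹ := by group
      _ = z := by rw [h3]; group
  have hnorm : ∀ s ∈ normalizerIn S P, s ∈ Subgroup.normalizer (M : Set Ω) := fun s hs =>
    Subgroup.mem_normalizer_iff.2 fun x => ⟨hMn s hs x, fun h => by
      have := hMn _ ((normalizerIn S P).inv_mem hs) _ h
      rwa [inv_inv, show s⁻¹ * (s * x * s⁻¹) * s = x by group] at this⟩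
  have hlei : ∀ i, P ⊔ centralizerIn (T' i) P ≤ M := fun i => hM ▸ cent_le i fun i => (hE i).closed.1
  -- the group
  let K : Subgroup (MulAut M) :=
    { carrier := {χ | χ ∈ F.autGroup M ∧ Kp F E' P (autFun χ)}
      one_mem' := by
        refine ⟨one_mem _, ⟨1, one_mem _, fun x hx => by rw [autFun_one (hPM hx)]; group⟩, fun c hc => ?_, fun i => ?_⟩
        · rw [autFun_one (hVM (hV ▸ hc)), inv_mul_cancel]; exact P.one_mem
        · exact (fmap_id (E' i) (sup_le (hPT i) (centralizerIn_le _ P))).congr fun x hx => (autFun_one (hlei i hx)).symm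
      mul_mem' := by
        rintro χ ψ ⟨h1, h2⟩ ⟨k1, k2⟩
        have hχ := (fiso_autFun_iff hMS).2 h1
        have hψ := (fiso_autFun_iff hMS).2 k1
        obtain ⟨-, -, hbC, hbE⟩ := gx_data (f := autFun ψ) hE hPT k2.map (hM ▸ hψ.1) (fun _ _ => rfl) k2.2.1 k2.2.2
        obtain ⟨⟨s, hs, h3⟩, h4, h5⟩ := h2
        obtain ⟨⟨t, ht, k3⟩, k4, k5⟩ := id k2
        refine ⟨mul_mem h1 k1, ⟨s * t, mul_mem hs ht, fun x hx => ?_⟩, fun c hc => ?_, fun i => ?_⟩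
        · rw [autFun_mul _ _ (hPM hx), h3 _ (k2.map x hx), k3 x hx]; group
        · have hc' : c ∈ M := hVM (hV ▸ hc)
          rw [autFun_mul _ _ hc']
          have h6 : c⁻¹ * autFun χ (autFun ψ c) = (c⁻¹ * autFun ψ c) * ((autFun ψ c)⁻¹ * autFun χ (autFun ψ c)) := by group
          rw [h6]
          exact P.mul_mem (k4 c hc) (h4 _ (hbC.mem hc))
        · exact ((k5 i).comp (h5 i) fun x hx => (hbE i).mem hx).congr fun x hx => (autFun_mul _ _ (hlei i hx)).symm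
      inv_mem' := by
        rintro χ ⟨h1, h2⟩
        have hχ := (fiso_autFun_iff hMS).2 h1
        obtain ⟨-, hbP, hbC, hbE⟩ := gx_data (f := autFun χ) hE hPT h2.map (hM ▸ hχ.1) (fun _ _ => rfl) h2.2.1 h2.2.2
        obtain ⟨⟨s, hs, h3⟩, h4, h5⟩ := h2
        refine ⟨inv_mem h1, ⟨s⁻¹, inv_mem hs, fun x hx => ?_⟩, fun c hc => ?_, fun i => ?_⟩
        · obtain ⟨y, hy, rfl⟩ := hbP.mem_iff.1 hx
          rw [autFun_inv_apply χ (hPM hy), h3 y hy]; group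
        · obtain ⟨d, hd, rfl⟩ := hbC.mem_iff.1 hc
          rw [autFun_inv_apply χ (hVM (hV ▸ hd))]
          have := P.inv_mem (h4 d hd)
          rwa [mul_inv_rev, inv_inv] at this
        · obtain ⟨c, hc, c1, c2⟩ := (hbE i).symm
          refine hc.1.congr fun y hy => ?_
          obtain ⟨x, hx, rfl⟩ := (hbE i).mem_iff.1 hy
          rw [c1 x hx, autFun_inv_apply χ (hlei i hx)] }
  have hKp : IsPGroup p K := by
    obtain ⟨n, hn⟩ := IsPGroup.iff_card.1 hS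
    intro χ
    obtain ⟨χ, hχ⟩ := χ
    have h1 : ∀ m : ℕ, ∃ s ∈ normalizerIn S P, (∀ x ∈ P, autFun χ x = s * x * s⁻¹) ∧
        ∀ x ∈ P, autFun (χ ^ m) x = s ^ m * x * (s ^ m)⁻¹ := by
      obtain ⟨s, hs, h2⟩ := hχ.2.1
      intro m
      refine ⟨s, hs, h2, ?_⟩
      induction m with
      | zero => intro x hx; rw [pow_zero, autFun_one (hPM hx)]; simp
      | succ m ih =>
        intro x hx
        rw [pow_succ, autFun_mul _ _ (hPM hx), ih _ (hχ.2.map x hx), h2 x hx, pow_succ]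
        group
    obtain ⟨s, hs, -, h2⟩ := h1 (p ^ n)
    have hsn : s ^ p ^ n = 1 := by
      have h9 : (⟨s, hs.1⟩ : S) ^ p ^ n = 1 := by rw [← hn]; exact pow_card_eq_one'
      exact congrArg Subtype.val h9
    have hχn : χ ^ p ^ n ∈ K := K.pow_mem hχ _
    have hPn : ∀ x ∈ P, autFun (χ ^ p ^ n) x = x := fun x hx => by rw [h2 x hx, hsn]; simp
    have hmap : FMap F (P ⊔ centralizerIn S P) (autFun (χ ^ p ^ n)) := hM ▸ ((fiso_autFun_iff hMS).2 hχn.1).1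
    have h3 := move_sup hmap (fun x hx => by rw [hPn x hx]; exact hx) hχn.2.2.1
      (fun c hc => (centralizerIn_le_normalizerIn S P hc).2)
    obtain ⟨k, hk⟩ := stab_pow hS hMS hPM hPn (fun x hx => h3 x (hM ▸ hx))
    refine ⟨n + k, Subtype.ext ?_⟩
    show χ ^ p ^ (n + k) = 1
    rw [pow_add, pow_mul]; exact hk
  -- the normalizer system
  have hNs : (normSys F P hPS).IsSaturated p := normSys_saturated hS hF hP
  have hNp : IsPGroup p ↥(normalizerIn S P) := isPGroup_of_le hS (normalizerIn_le S P)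
  have hNfin : Finite ↥(normalizerIn S P) := finite_of_le (normalizerIn_le S P)
  have hMfn : (normSys F P hPS).IsFullyNormalized M := fullyNormalized_of_normalizes hMN fun s hs => hnorm s hs
  have hMa := fullyAutomized_of_fullyNormalized hNp hNs hMfn
  have hKle : K ≤ (normSys F P hPS).autGroup M := by
    rintro χ ⟨h1, h2⟩
    have hχ := (fiso_autFun_iff hMS).2 h1
    refine (FMap_autFun_iff hMN).1 (fmap_normSys.2 ⟨hMN, fun x hx => hMN (autFun_mem χ hx), autFun χ, ?_, fun _ _ => rfl,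
      fiso_restrict hχ.1 hPM h2.map⟩)
    rw [sup_eq_left.2 hPM]; exact hχ.1
  have hKn : ∀ α ∈ autInducedBy (normalizerIn S P) M, ∀ κ ∈ K, α * κ * α⁻¹ ∈ K := by
    rintro α hα κ ⟨hκ1, hκ2⟩
    obtain ⟨u, hu, h1⟩ := mem_autInducedBy_iff.1 hα
    have hαF : α ∈ F.autGroup M := autInducedBy_le_autGroup hMS (normalizerIn_le S P) hα
    have hα1 : ∀ x ∈ M, autFun α x = u * x * u⁻¹ := fun x hx => by rw [autFun_of_mem _ hx]; exact h1 ⟨x, hx⟩
    have hα2 : ∀ x ∈ M, autFun α⁻¹ x = u⁻¹ * x * u := fun x hx => by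
      have h2 := hα1 _ (autFun_mem α⁻¹ hx)
      rw [autFun_apply_inv α hx] at h2
      calc autFun α⁻¹ x = u⁻¹ * (u * autFun α⁻¹ x * u⁻¹) * u := by group
        _ = _ := by rw [← h2]
    have hu' := (normalizerIn S P).inv_mem hu
    have hval : ∀ x ∈ M, autFun (α * κ * α⁻¹) x = u * autFun κ (u⁻¹ * x * u) * u⁻¹ := fun x hx => by
      rw [autFun_mul _ _ hx, autFun_mul _ _ (autFun_mem _ hx), hα2 x hx, hα1 _ (autFun_mem κ (by
        rw [← hα2 x hx]; exact autFun_mem _ hx))]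
    have hχ := (fiso_autFun_iff hMS).2 hκ1
    obtain ⟨-, hbP, hbC, hbE⟩ := gx_data (f := autFun κ) hE hPT hκ2.map (hM ▸ hχ.1) (fun _ _ => rfl) hκ2.2.1 hκ2.2.2
    obtain ⟨⟨s, hs, h3⟩, h4, h5⟩ := hκ2
    refine ⟨mul_mem (mul_mem hαF hκ1) (inv_mem hαF), ⟨u * s * u⁻¹, mul_mem (mul_mem hu hs) hu', fun x hx => ?_⟩,
      fun c hc => ?_, fun i => ?_⟩
    · have hx' : u⁻¹ * x * u ∈ P := by
        have := (Subgroup.mem_normalizer_iff.1 hu'.2 x).1 hx
        rwa [inv_inv] at this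
      rw [hval x (hPM hx), h3 _ hx']
      group
    · have hc' : u⁻¹ * c * u ∈ centralizerIn S P := by
        have := hVn _ hu' c (hV ▸ hc)
        rwa [inv_inv, hV] at this
      rw [hval c (hVM (hV ▸ hc))]
      have h6 := (Subgroup.mem_normalizer_iff.1 hu.2 _).1 (h4 _ hc')
      have h7 : u * ((u⁻¹ * c * u)⁻¹ * autFun κ (u⁻¹ * c * u)) * u⁻¹ = c⁻¹ * (u * autFun κ (u⁻¹ * c * u) * u⁻¹) := by group
      rwa [h7] at h6
    · have hTi := (hE i).closed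
      have hMi : P ⊔ centralizerIn (T' i) P ≤ T' i := sup_le (hPT i) (centralizerIn_le _ P)
      have hMiS : P ⊔ centralizerIn (T' i) P ≤ S := hMi.trans hTi.1
      have hMifin : Finite ↥(P ⊔ centralizerIn (T' i) P) := finite_of_le hMiS
      have hui : FIso F (P ⊔ centralizerIn (T' i) P) (P ⊔ centralizerIn (T' i) P) (fun x => u * x * u⁻¹) := by
        have h1 := fmap_conj F hMiS hu.1
        refine h1.fiso_of_card hMiS (map_sup_mem h1 (fun x hx => Subgroup.mem_sup_left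
          ((Subgroup.mem_normalizer_iff.1 hu.2 x).1 hx)) (fun c hc => Subgroup.mem_sup_right ?_)) le_rfl
        have h2 : c ∈ V := by rw [hV]; exact ⟨hTi.1 hc.1, hc.2⟩
        have h3 := hVn u hu c h2
        rw [hV] at h3
        exact ⟨(Subgroup.mem_normalizer_iff.1 (normalizes_of_stronglyClosed hTi hu.1) c).1 hc.1, h3.2⟩
      refine ((FusionFrat.Inv.strong (hE i)).transport hMi hui (g := fun x => u⁻¹ * x * u) (fun x _ => by group)
        (hbE i)).congr fun x hx => ?_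
      exact (hval x (hlei i hx)).symm
  have hle := le_of_normalized hMa hKle hKp hKn
  -- conclusion
  have hbM : FMap F M b := hM ▸ hb
  have hbi : FIso F M M b := by
    have := (gx_data (f := b) hE hPT hK.map hb (fun _ _ => rfl) hK.2.1 hK.2.2).1
    rw [← hM] at this; exact this
  obtain ⟨χ, hχ⟩ : ∃ χ : MulAut M, χ = hbi.equiv := ⟨_, rfl⟩
  have hχ1 : ∀ x ∈ M, autFun χ x = b x := fun x hx => by rw [autFun_of_mem _ hx, hχ]; rfl
  have hχK : χ ∈ K := by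
    obtain ⟨⟨s, hs, h3⟩, h4, h5⟩ := hK
    refine ⟨hχ ▸ hbi.equiv_mem_autGroup, ⟨s, hs, fun x hx => by rw [hχ1 x (hPM hx)]; exact h3 x hx⟩, fun c hc => ?_,
      fun i => (h5 i).congr fun x hx => (hχ1 x (hlei i hx)).symm⟩
    rw [hχ1 c (hVM (hV ▸ hc))]; exact h4 c hc
  obtain ⟨w, hw, h6⟩ := mem_autInducedBy_iff.1 (hle hχK)
  refine ⟨w, hw, fun x hx => ?_⟩
  have hxM : x ∈ M := hM ▸ hx
  rw [← hχ1 x hxM, autFun_of_mem _ hxM]
  exact h6 ⟨x, hxM⟩

/-- The automorphisms of `P` with good extension. -/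
def XA (F : FusionSystem S) (E' : ∀ i, FusionSystem (T' i)) (P : Subgroup Ω) [Finite S] (hE : ∀ i, Inv (E' i) F)
    (hPS : P ≤ S) (hPT : ∀ i, P ≤ T' i) : Subgroup (MulAut P) where
  carrier := {α | α ∈ F.autGroup P ∧ Gx F E' P (autFun α)}
  one_mem' := ⟨one_mem _, ⟨fun x => x, fmap_id F (sup_le hPS (centralizerIn_le S P)), fun x hx => (autFun_one hx).symm,
    fun c _ => by simp [P.one_mem], fun i => fmap_id (E' i) (sup_le (hPT i) (centralizerIn_le _ P))⟩⟩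
  mul_mem' := by
    rintro α β ⟨h1, h2⟩ ⟨k1, k2⟩
    exact ⟨mul_mem h1 k1, (gx_comp hE hPT (fun x hx => autFun_mem β hx) (fun x hx => autFun_mem α hx) k2 h2).congr
      fun x hx => (autFun_mul α β hx).symm⟩
  inv_mem' := by
    rintro α ⟨h1, h2⟩
    exact ⟨inv_mem h1, gx_inv hE hPT ((fiso_autFun_iff hPS).2 h1) (fun x hx => autFun_inv_apply α hx) h2⟩

theorem mem_XA [Finite S] {hE : ∀ i, Inv (E' i) F} {hPS : P ≤ S} {hPT : ∀ i, P ≤ T' i} {α : MulAut P} :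
    α ∈ XA F E' P hE hPS hPT ↔ α ∈ F.autGroup P ∧ Gx F E' P (autFun α) := Iff.rfl

theorem XA_normal [Finite S] [Fact p.Prime] (hS : IsPGroup p S) (hF : F.IsSaturated p) {hE : ∀ i, Inv (E' i) F}
    {hPS : P ≤ S} {hPT : ∀ i, P ≤ T' i} (hP : F.IsFullyCentralized P) :
    ∀ α ∈ F.autGroup P, ∀ κ ∈ XA F E' P hE hPS hPT, α * κ * α⁻¹ ∈ XA F E' P hE hPS hPT := by
  rintro α hα κ ⟨h1, h2⟩
  obtain ⟨k, hk, hkP, hk1⟩ := fc_ext hS hF hP hP ((fiso_autFun_iff hPS).2 hα)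
  refine ⟨mul_mem (mul_mem hα h1) (inv_mem hα), ?_⟩
  refine (gx_transport (g := autFun α⁻¹) hE hPT (fun x hx => autFun_mem κ hx) hkP hk (fun x hx => by
    rw [hk1 x hx, autFun_inv_apply α hx]) h2).congr fun x hx => ?_
  rw [autFun_mul _ _ hx, autFun_mul _ _ (autFun_mem _ hx), hk1 _ (autFun_mem κ (autFun_mem _ hx))]

theorem gx_fc [Finite S] [Fact p.Prime] (hS : IsPGroup p S) (hF : F.IsSaturated p) (hE : ∀ i, Inv (E' i) F)
    (hPT : ∀ i, P ≤ T' i) (hP : F.IsFullyCentralized P) (hQ : F.IsFullyCentralized Q) (hf : FIso F P Q f)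
    (hgf : ∀ x ∈ P, g (f x) = x) (ha : ∀ x ∈ P, a x ∈ P) (h : Gx F E' P a) : Gx F E' Q (fun y => f (a (g y))) := by
  obtain ⟨k, hk, hkP, hk1⟩ := fc_ext hS hF hP hQ hf
  refine (gx_transport hE hPT ha hkP hk (g := g) (fun x hx => by rw [hk1 x hx, hgf x hx]) h).congr fun y hy => ?_
  obtain ⟨x, hx, rfl⟩ := hf.mem_iff.1 hy
  rw [hgf x hx, hk1 _ (ha x hx)]

theorem am_le_sup [Finite S] [Fact p.Prime] (hS : IsPGroup p S) (hF : F.IsSaturated p) (hE : ∀ i, Inv (E' i) F)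
    (hT' : ∀ x, x ∈ T ↔ x ∈ S ∧ ∀ i, x ∈ T' i) (hTC : TC F T P) (hP : F.IsFullyNormalized P) (hPT : ∀ i, P ≤ T' i) :
    AM F E' T p P ≤ (pResidual p (XA F E' P hE hP.1 hPT)).map (XA F E' P hE hP.1 hPT).subtype ⊔ autInducedBy T P := by
  have hT := inter_closed hE hT'
  have hPc : F.IsFullyCentralized P := isFullyCentralized_of_receptive (receptive_of_fullyNormalized hS hF hP)
  have hTX : autInducedBy T P ≤ XA F E' P hE hP.1 hPT := by
    intro β hβ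
    obtain ⟨t, ht, h1⟩ := mem_autInducedBy_iff.1 hβ
    exact ⟨autInducedBy_le_autGroup hP.1 hT.1 hβ, (gx_conj_T hE hT' hTC ⟨ht, mem_normalizer_of_aut h1⟩).congr
      fun x hx => by rw [autFun_of_mem _ hx]; exact (h1 ⟨x, hx⟩).symm⟩
  have hXn := XA_normal (hE := hE) (hPS := hP.1) (hPT := hPT) hS hF hPc
  have hn := resid_sup_normal hS hF hT hTC.1 hP (fun α hα => (mem_XA.1 hα).1) hXn hTX
  unfold AM
  rw [Subgroup.closure_le]
  rintro α (⟨h, ho, Q, k, b, hQ, hk, hb, h1⟩ | ⟨Q, k, t, hk, ht, h⟩)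
  · refine Subgroup.mem_sup_left (mem_map_resid ⟨h, ?_⟩ ho)
    obtain ⟨k', hk', e1, e2⟩ := hk.symm
    have hQT : ∀ i, Q ≤ T' i := fun i => le_of_fiso (hE i).closed (hPT i) hk
    have hbQ : ∀ y ∈ Q, b y ∈ Q := fun y hy => by
      obtain ⟨x, hx, rfl⟩ := hk.mem_iff.1 hy
      rw [h1 ⟨x, hx⟩]; exact hk.mem (α ⟨x, hx⟩).2
    refine (gx_fc hS hF hE hQT hQ hPc hk' (g := k) e2 hbQ hb).congr fun x hx => ?_
    rw [h1 ⟨x, hx⟩, e1 _ (α ⟨x, hx⟩).2, autFun_of_mem α hx]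
  · obtain ⟨l, hl, hlN, hlN'⟩ := exists_map_to_fullyNormalized hS hF hP (isConj_symm hk.isConj)
    have hlk := hk.trans hl
    have htN : t ∈ normalizerIn S Q := ⟨hT.1 ht.1, ht.2⟩
    have hlt := hlN' t htN
    have hltT : l t ∈ T := StronglyClosed.map_mem F hT hlN htN ht.1
    obtain ⟨γ, hγ⟩ : ∃ γ : MulAut P, γ = hlk.equiv := ⟨_, rfl⟩
    have hγF : γ ∈ F.autGroup P := hγ ▸ hlk.equiv_mem_autGroup
    have hγ1 : ∀ x : P, ((γ x : P) : Ω) = l (k x) := fun x => by rw [hγ]; rfl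
    have h1 : γ * α * γ⁻¹ ∈ autInducedBy T P := by
      refine mem_autInducedBy_iff.2 ⟨l t, hltT, fun x => ?_⟩
      obtain ⟨w, rfl⟩ := γ.surjective x
      show ((γ (α (γ⁻¹ (γ w))) : P) : Ω) = _
      rw [MulAut.inv_apply_self, hγ1, hγ1, h w, hlN.map_conj htN (le_normalizerIn hk.le_right (hk.mem w.2))]
    have h2 := (Subgroup.mem_normalizer_iff.1 (hn (inv_mem hγF)) _).1 (Subgroup.mem_sup_right h1)
    rwa [inv_inv, show γ⁻¹ * (γ * α * γ⁻¹) * γ = α by group] at h2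

theorem am_syl [Finite S] [Fact p.Prime] (hS : IsPGroup p S) (hF : F.IsSaturated p) (hE : ∀ i, Inv (E' i) F)
    (hEs : ∀ i, (E' i).IsSaturated p) (hT' : ∀ x, x ∈ T ↔ x ∈ S ∧ ∀ i, x ∈ T' i) (hTC : TC F T P)
    (hP : F.IsFullyNormalized P) (hPT : ∀ i, P ≤ T' i) : AM F E' T p P ⊓ autInducedBy S P ≤ autInducedBy T P := by
  have hT := inter_closed hE hT'
  have hPa := automized_receptive_of_fullyNormalized hS hF hP
  have hPc : F.IsFullyCentralized P := isFullyCentralized_of_receptive hPa.2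
  have hXn := XA_normal (hE := hE) (hPS := hP.1) (hPT := hPT) hS hF hPc
  have hPS := hP.1
  rintro β ⟨hβ, hβ'⟩
  have h1 := am_le_sup hS hF hE hT' hTC hP hPT hβ
  have hn : autInducedBy T P ≤ Subgroup.normalizer
      (((pResidual p (XA F E' P hE hP.1 hPT)).map (XA F E' P hE hP.1 hPT).subtype : Subgroup (MulAut P)) : Set (MulAut P)) :=
    le_normalizer_of_conj fun α hα κ hκ => resid_conj (hXn α (autInducedBy_le_autGroup hP.1 hT.1 hα)) hκ
  rw [sup_comm] at h1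
  obtain ⟨τ, hτ, o, ho, h2⟩ := (mem_sup_of_normalizes hn).1 h1
  have h3 : o ∈ autInducedBy S P := by
    have h4 : o = τ⁻¹ * β := by rw [← h2]; group
    rw [h4]
    exact mul_mem (inv_mem (autInducedBy_mono hT.1 hτ)) hβ'
  rw [← h2]
  refine mul_mem hτ (hyper_gen hS hPa.1 (fun α hα => (mem_XA.1 hα).1) hXn ?_ ho h3)
  -- the commutator computation
  intro Q γ κ hQX hQS hγ hγo hγQ hκQ
  have hγF : γ ∈ F.autGroup P := hγ.1
  have hγpp := pp_of_aut hPS hγF hγo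
  obtain ⟨b, hb, hb1, hb2, hb3⟩ := gx_pp hE hPT hγpp hγ.2
  obtain ⟨hbi, hbP, hbC, hbE⟩ := gx_data hE hPT (fun x hx => autFun_mem γ hx) hb.map hb1 hb2 hb3
  obtain ⟨V, hV⟩ : ∃ V, V = centralizerIn S P := ⟨_, rfl⟩
  obtain ⟨M, hM⟩ : ∃ M, M = P ⊔ centralizerIn S P := ⟨_, rfl⟩
  have hPM : P ≤ M := hM ▸ le_sup_left
  have hVM : V ≤ M := by rw [hV, hM]; exact le_sup_right
  have hMN : M ≤ normalizerIn S P := hM ▸ sup_le (le_normalizerIn hPS) (centralizerIn_le_normalizerIn S P)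
  have hlei : ∀ i, P ⊔ centralizerIn (T' i) P ≤ M := fun i => hM ▸ cent_le i fun i => (hE i).closed.1
  -- elements of `Q` are induced by elements with good extension
  have hrep : ∀ ν ∈ Q, ∀ x, FMap F (P ⊔ centralizerIn S P) x → (∀ y ∈ P, x y = autFun ν y) →
      (∀ c ∈ centralizerIn S P, c⁻¹ * x c ∈ P) → (∀ i, FMap (E' i) (P ⊔ centralizerIn (T' i) P) x) →
      ∃ w ∈ normalizerIn S P, (∀ y ∈ P ⊔ centralizerIn S P, x y = w * y * w⁻¹) := by
    intro ν hν x hx hx1 hx2 hx3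
    obtain ⟨s, hs, h5⟩ := mem_autInducedBy_iff.1 (hQS hν)
    refine good_induced hS hF hE hP hPT hx ⟨⟨s, ⟨hs, mem_normalizer_of_aut h5⟩, fun y hy => ?_⟩, hx2, hx3⟩
    rw [hx1 y hy, autFun_of_mem _ hy]; exact h5 ⟨y, hy⟩
  let Q' : Subgroup Ω :=
    { carrier := {w | w ∈ normalizerIn S P ∧ (∃ ν ∈ Q, ∀ x ∈ P, autFun ν x = w * x * w⁻¹) ∧
        (∀ c ∈ centralizerIn S P, c⁻¹ * (w * c * w⁻¹) ∈ P) ∧
        ∀ i, FMap (E' i) (P ⊔ centralizerIn (T' i) P) (fun x => w * x * w⁻¹)}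
      one_mem' := by
        refine ⟨one_mem _, ⟨1, one_mem _, fun x hx => by rw [autFun_one hx]; group⟩, fun c _ => by simp [P.one_mem],
          fun i => ?_⟩
        exact (fmap_id (E' i) (sup_le (hPT i) (centralizerIn_le _ P))).congr fun x hx => by group
      mul_mem' := by
        rintro v w ⟨h1, ⟨ν, hν, h2⟩, h3, h4⟩ ⟨k1, ⟨ν', hν', k2⟩, k3, k4⟩
        have hwS : FMap F (P ⊔ centralizerIn S P) (fun x => w * x * w⁻¹) :=
          fmap_conj F (sup_le hPS (centralizerIn_le S P)) k1.1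
        obtain ⟨-, -, hwC, hwE⟩ := gx_data (f := fun x => w * x * w⁻¹) hE hPT (fun x hx =>
          (Subgroup.mem_normalizer_iff.1 k1.2 x).1 hx) hwS (fun _ _ => rfl) k3 k4
        refine ⟨mul_mem h1 k1, ⟨ν * ν', mul_mem hν hν', fun x hx => ?_⟩, fun c hc => ?_, fun i => ?_⟩
        · rw [autFun_mul _ _ hx, h2 _ (autFun_mem ν' hx), k2 x hx]; group
        · have h5 := P.mul_mem (k3 c hc) (h3 _ (hwC.mem hc))
          have h6 : c⁻¹ * (w * c * w⁻¹) * ((w * c * w⁻¹)⁻¹ * (v * (w * c * w⁻¹) * v⁻¹)) = c⁻¹ * (v * w * c * (v * w)⁻¹) := by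
            group
          rwa [h6] at h5
        · refine ((k4 i).comp (h4 i) fun x hx => (hwE i).mem hx).congr fun x hx => ?_
          show v * (w * x * w⁻¹) * v⁻¹ = _
          group
      inv_mem' := by
        rintro w ⟨k1, ⟨ν, hν, k2⟩, k3, k4⟩
        have hwS : FMap F (P ⊔ centralizerIn S P) (fun x => w * x * w⁻¹) :=
          fmap_conj F (sup_le hPS (centralizerIn_le S P)) k1.1
        obtain ⟨-, hwP, hwC, hwE⟩ := gx_data (f := fun x => w * x * w⁻¹) hE hPT (fun x hx =>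
          (Subgroup.mem_normalizer_iff.1 k1.2 x).1 hx) hwS (fun _ _ => rfl) k3 k4
        refine ⟨inv_mem k1, ⟨ν⁻¹, inv_mem hν, fun x hx => ?_⟩, fun c hc => ?_, fun i => ?_⟩
        · obtain ⟨y, hy, rfl⟩ := hwP.mem_iff.1 hx
          show autFun ν⁻¹ (w * y * w⁻¹) = w⁻¹ * (w * y * w⁻¹) * w⁻¹⁻¹
          rw [← k2 y hy, autFun_inv_apply ν hy, k2 y hy]; group
        · obtain ⟨d, hd, rfl⟩ := hwC.mem_iff.1 hc
          show (w * d * w⁻¹)⁻¹ * (w⁻¹ * (w * d * w⁻¹) * w⁻¹⁻¹) ∈ P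
          have := P.inv_mem (k3 d hd)
          have h6 : (d⁻¹ * (w * d * w⁻¹))⁻¹ = (w * d * w⁻¹)⁻¹ * (w⁻¹ * (w * d * w⁻¹) * w⁻¹⁻¹) := by group
          rwa [h6] at this
        · obtain ⟨c, hc, c1, c2⟩ := (hwE i).symm
          refine hc.1.congr fun y hy => ?_
          obtain ⟨x, hx, rfl⟩ := (hwE i).mem_iff.1 hy
          rw [c1 x hx]; group }
  have hQ'N : Q' ≤ normalizerIn S P := fun w hw => hw.1
  have hQ'S : Q' ≤ S := hQ'N.trans (normalizerIn_le S P)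
  have hCM : centralizerIn S (P ⊔ centralizerIn S P) ≤ Q' := by
    intro c hc
    have h5 : ∀ x ∈ P ⊔ centralizerIn S P, c * x * c⁻¹ = x := fun x hx => mem_centralizer_iff'.1 hc.2 x hx
    have hcP : c ∈ centralizerIn S P := ⟨hc.1, mem_centralizer_iff'.2 fun x hx => h5 x (Subgroup.mem_sup_left hx)⟩
    refine ⟨centralizerIn_le_normalizerIn S P hcP, ⟨1, one_mem _, fun x hx => ?_⟩, fun d hd => ?_, fun i => ?_⟩
    · rw [autFun_one hx, h5 x (Subgroup.mem_sup_left hx)]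
    · rw [h5 d (Subgroup.mem_sup_right hd), inv_mul_cancel]; exact P.one_mem
    · exact (fmap_id (E' i) (sup_le (hPT i) (centralizerIn_le _ P))).congr fun x hx =>
        (h5 x (cent_le i (fun i => (hE i).closed.1) hx)).symm
  have hPCc : F.IsReceptive (P ⊔ centralizerIn S P) :=
    receptive_of_centric hS hF (centric_cent hPc)
  have hact : Q' ≤ actSub hb.1 Q' := by
    rintro w ⟨hw1, ⟨ν, hν, hw2⟩, hw3, hw4⟩
    have hwM : w ∈ Subgroup.normalizer ((P ⊔ centralizerIn S P : Subgroup Ω) : Set Ω) := by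
      refine (le_normalizer_sup (K := normalizerIn S P) (fun s hs => hs.2) (fun s hs => ?_)) hw1
      have key : ∀ s ∈ normalizerIn S P, ∀ y ∈ centralizerIn S P, s * y * s⁻¹ ∈ centralizerIn S P := by
        intro s hs y hy
        refine ⟨S.mul_mem (S.mul_mem hs.1 hy.1) (S.inv_mem hs.1), mem_centralizer_iff'.2 fun z hz => ?_⟩
        have h2 := (Subgroup.mem_normalizer_iff.1 (Subgroup.inv_mem _ hs.2) z).1 hz
        rw [inv_inv] at h2
        have h3 := mem_centralizer_iff'.1 hy.2 _ h2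
        calc s * y * s⁻¹ * z * (s * y * s⁻¹)⁻¹ = s * (y * (s⁻¹ * z * s) * y⁻¹) * s⁻¹ := by group
          _ = z := by rw [h3]; group
      exact le_normalizer_of_conj key hs
    refine mem_actSub.2 ⟨hwM, ?_⟩
    -- transport the good map `c_w` by `b`
    have hwS : FMap F (P ⊔ centralizerIn S P) (fun x => w * x * w⁻¹) :=
      fmap_conj F (sup_le hPS (centralizerIn_le S P)) hw1.1
    obtain ⟨hwi, -, -, -⟩ := gx_data (f := fun x => w * x * w⁻¹) hE hPT (fun x hx =>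
      (Subgroup.mem_normalizer_iff.1 hw1.2 x).1 hx) hwS (fun _ _ => rfl) hw3 hw4
    obtain ⟨b', hb', e1, e2⟩ := hb.1.symm
    have hcomp : FMap F (P ⊔ centralizerIn S P) (fun x => b (w * b' x * w⁻¹)) :=
      (hb'.1.comp hwS fun x hx => hb'.mem hx).comp hb.map fun x hx => hwi.mem (hb'.mem hx)
    have hb'P : FIso F P P b' := by
      refine ⟨hb'.1.restrict le_sup_left, fun y => ⟨fun hy => ⟨b y, hbP.mem hy, e1 y (Subgroup.mem_sup_left hy)⟩, ?_⟩⟩
      rintro ⟨z, hz, rfl⟩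
      obtain ⟨x, hx, rfl⟩ := hbP.mem_iff.1 hz
      rw [e1 x (Subgroup.mem_sup_left hx)]; exact hx
    have hb'C : ∀ c ∈ centralizerIn S P, b' c ∈ centralizerIn S P := fun c hc => by
      obtain ⟨d, hd, rfl⟩ := hbC.mem_iff.1 hc
      rw [e1 d (Subgroup.mem_sup_right hd)]; exact hd
    have hG : Gx F E' P (fun x => b (w * b' x * w⁻¹)) := by
      have := gx_transport (f := fun x => w * x * w⁻¹) (g := b') hE hPT (fun x hx =>
        (Subgroup.mem_normalizer_iff.1 hw1.2 x).1 hx) hbP hb.1 (fun x hx => e1 x (Subgroup.mem_sup_left hx))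
        ⟨fun x => w * x * w⁻¹, hwS, fun _ _ => rfl, hw3, hw4⟩
      exact this
    -- the particular extension
    have hν' := hγQ ν hν
    have hb'γ : ∀ y ∈ P, b' y = autFun γ⁻¹ y := fun y hy => by
      obtain ⟨x, hx, rfl⟩ := hbP.mem_iff.1 hy
      rw [e1 x (Subgroup.mem_sup_left hx), hb1 x hx, autFun_inv_apply γ hx]
    have hval : ∀ y ∈ P, b (w * b' y * w⁻¹) = autFun (γ * ν * γ⁻¹) y := by
      intro y hy
      have h6 : w * b' y * w⁻¹ ∈ P := (Subgroup.mem_normalizer_iff.1 hw1.2 _).1 (hb'P.mem hy)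
      rw [autFun_mul _ _ hy, autFun_mul _ _ (autFun_mem _ hy), hb1 _ h6, hw2 _ (autFun_mem _ hy), hb'γ y hy]
    have hcomm : ∀ c ∈ centralizerIn S P, c⁻¹ * b (w * b' c * w⁻¹) ∈ P := by
      intro c hc
      have hd := hb'C c hc
      have hdM : b' c ∈ P ⊔ centralizerIn S P := Subgroup.mem_sup_right hd
      have h5 : b ((b' c)⁻¹ * (w * b' c * w⁻¹)) = c⁻¹ * b (w * b' c * w⁻¹) := by
        rw [hb.map.map_mul (Subgroup.inv_mem _ hdM) (hwi.mem hdM), hb.map.map_inv hdM, e2 c (Subgroup.mem_sup_right hc)]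
      rw [← h5]
      exact hbP.mem (hw3 _ hd)
    have hEi : ∀ i, FMap (E' i) (P ⊔ centralizerIn (T' i) P) (fun x => b (w * b' x * w⁻¹)) := by
      intro i
      have hTi := (hE i).closed
      obtain ⟨-, -, -, hwE⟩ := gx_data (f := fun x => w * x * w⁻¹) hE hPT (fun x hx =>
        (Subgroup.mem_normalizer_iff.1 hw1.2 x).1 hx) hwS (fun _ _ => rfl) hw3 hw4
      have hMi : P ⊔ centralizerIn (T' i) P ≤ T' i := sup_le (hPT i) (centralizerIn_le _ P)
      have hbEF := sub_fiso (hE i).sub (hbE i)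
      exact (FusionFrat.Inv.strong (hE i)).transport hMi hbEF (fun x hx => e1 x (cent_le i (fun i => (hE i).closed.1) hx))
        (hwE i)
    obtain ⟨w', hw', h7⟩ := hrep _ hν' _ hcomp hval hcomm hEi
    refine ⟨w', ⟨hw', ⟨_, hν', fun x hx => ?_⟩, fun c hc => ?_, fun i => ?_⟩, fun x hx => ?_⟩
    · rw [← hval x hx, h7 x (Subgroup.mem_sup_left hx)]
    · rw [← h7 c (Subgroup.mem_sup_right hc)]; exact hcomm c hc
    · exact (hEi i).congr fun x hx => h7 x (cent_le i (fun i => (hE i).closed.1) hx)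
    · have h8 := h7 (b x) (hb.mem hx)
      have h9 : b (w * b' (b x) * w⁻¹) = w' * b x * w'⁻¹ := h8
      rwa [e1 x hx] at h9
  obtain ⟨σ, hσ, hσ1, hσQ⟩ := ext_grp_pp hPCc hb hQ'S hCM hact
  -- the element `κ`
  obtain ⟨xκ, hx1, hx2, hx3, hx4⟩ := (hQX hκQ).2
  obtain ⟨w, hw, h5⟩ := hrep κ hκQ xκ hx1 hx2 hx3 hx4
  have hκw : ∀ x ∈ P, autFun κ x = w * x * w⁻¹ := fun x hx => by rw [← hx2 x hx, h5 x (Subgroup.mem_sup_left hx)]
  have hwQ' : w ∈ Q' := ⟨hw, ⟨κ, hκQ, hκw⟩, fun c hc => by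
    rw [← h5 c (Subgroup.mem_sup_right hc)]; exact hx3 c hc, fun i => (hx4 i).congr fun x hx =>
      h5 x (cent_le i (fun i => (hE i).closed.1) hx)⟩
  have hwm : w ∈ (P ⊔ centralizerIn S P) ⊔ Q' := Subgroup.mem_sup_right hwQ'
  -- `w⁻¹ σ(w) ∈ T`
  have hmT : w⁻¹ * σ w ∈ T := by
    refine (hT' _).2 ⟨S.mul_mem (S.inv_mem hw.1) (hσ.map.map_mem hwm), fun i => ?_⟩
    have hTi := (hE i).closed
    have hMi : P ⊔ centralizerIn (T' i) P ≤ normalizerIn (T' i) P := sup_le (le_normalizerIn (hPT i))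
      (centralizerIn_le_normalizerIn _ P)
    obtain ⟨t, ht, h6⟩ := lemmaW hS hF (hEs i) (hE i) (hPT i) hP le_sup_left hMi (fun s hs x hx => by
      have h1 : P ⊔ centralizerIn (T' i) P ≤ (P ⊔ centralizerIn (T' i) P).comap (MulAut.conj s).toMonoidHom := by
        refine sup_le (fun y hy => Subgroup.mem_sup_left ((Subgroup.mem_normalizer_iff.1 hs.2 y).1 hy)) (fun y hy => ?_)
        refine Subgroup.mem_sup_right ⟨(Subgroup.mem_normalizer_iff.1 (normalizes_of_stronglyClosed hTi hs.1) y).1 hy.1,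
          mem_centralizer_iff'.2 fun z hz => ?_⟩
        have h2 := (Subgroup.mem_normalizer_iff.1 (Subgroup.inv_mem _ hs.2) z).1 hz
        rw [inv_inv] at h2
        have h3 := mem_centralizer_iff'.1 hy.2 _ h2
        show s * y * s⁻¹ * z * (s * y * s⁻¹)⁻¹ = z
        calc s * y * s⁻¹ * z * (s * y * s⁻¹)⁻¹ = s * (y * (s⁻¹ * z * s) * y⁻¹) * s⁻¹ := by group
          _ = z := by rw [h3]; group
      exact h1 hx) hw (hwQ'.2.2.2 i)
    obtain ⟨c, hc⟩ : ∃ c, c = t⁻¹ * w := ⟨_, rfl⟩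
    have hcV : c ∈ centralizerIn S P := by
      rw [hc]
      refine ⟨S.mul_mem (S.inv_mem (hTi.1 ht.1)) hw.1, mem_centralizer_iff'.2 fun x hx => ?_⟩
      calc t⁻¹ * w * x * (t⁻¹ * w)⁻¹ = t⁻¹ * (w * x * w⁻¹) * t := by group
        _ = x := by rw [h6 x (Subgroup.mem_sup_left hx)]; group
    have hcm : c ∈ (P ⊔ centralizerIn S P) ⊔ Q' := Subgroup.mem_sup_left (Subgroup.mem_sup_right hcV)
    have htw : t = w * c⁻¹ := by rw [hc]; group
    have htm : t ∈ (P ⊔ centralizerIn S P) ⊔ Q' := by rw [htw]; exact Subgroup.mul_mem _ hwm (Subgroup.inv_mem _ hcm)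
    have hσt : σ t ∈ T' i := StronglyClosed.map_mem F hTi hσ.map htm ht.1
    have hwtc : w = t * c := by rw [hc]; group
    have hσc : c⁻¹ * σ c ∈ P := by rw [hσ1 c (Subgroup.mem_sup_right hcV)]; exact hb2 c hcV
    have h8 : w⁻¹ * σ w = (c⁻¹ * (t⁻¹ * σ t) * c) * (c⁻¹ * σ c) := by
      rw [hwtc, hσ.map.map_mul htm hcm]; group
    rw [h8]
    refine (T' i).mul_mem ?_ (hPT i hσc)
    have h9 := (Subgroup.mem_normalizer_iff.1 (normalizes_of_stronglyClosed hTi (S.inv_mem hcV.1)) _).1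
      ((T' i).mul_mem ((T' i).inv_mem ht.1) hσt)
    rwa [inv_inv] at h9
  refine mem_autInducedBy_iff.2 ⟨_, hmT, fun z => ?_⟩
  obtain ⟨u, rfl⟩ := γ.surjective z
  show ((κ⁻¹ (γ (κ (γ⁻¹ (γ u)))) : P) : Ω) = _
  rw [MulAut.inv_apply_self]
  obtain ⟨v, hv⟩ : ∃ v, v = γ (κ u) := ⟨_, rfl⟩
  rw [← hv]
  have hmem : ∀ y : P, (y : Ω) ∈ (P ⊔ centralizerIn S P) ⊔ Q' := fun y => Subgroup.mem_sup_left (Subgroup.mem_sup_left y.2)
  have hσγ : ∀ y : P, σ y = ((γ y : P) : Ω) := fun y => by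
    rw [hσ1 _ (Subgroup.mem_sup_left y.2), hb1 _ y.2, autFun_coe]
  have hκ1 : ∀ y : P, ((κ y : P) : Ω) = w * y * w⁻¹ := fun y => by rw [← autFun_coe, hκw _ y.2]
  have h4 : (v : Ω) = σ w * (γ u : P) * (σ w)⁻¹ := by
    rw [hv, ← hσγ, hκ1, hσ.map.map_conj hwm (hmem u), hσγ]
  have h10 := hκ1 (κ⁻¹ v)
  rw [MulAut.apply_inv_self] at h10
  have h11 : ((κ⁻¹ v : P) : Ω) = w⁻¹ * v * w := by rw [h10]; group
  rw [h11, h4]
  group

end Cfsg.Agent.Lib.FusionMeet2
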