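import Mathlib
import Cfsg.Agent.Lib.FusionMeet2
import Cfsg.Agent.Lib.FusionThmB

/-!
The meet of (weakly) normal subsystems: extension, restriction, and the meet itself.
-/

set_option autoImplicit false
open Cfsg Cfsg.FusionSystem Cfsg.Agent.Lib.FusionBasic Cfsg.Agent.Lib.FusionSat Cfsg.Agent.Lib.FusionNormal
  Cfsg.Agent.Lib.FusionInvar Cfsg.Agent.Lib.FusionTools Cfsg.Agent.Lib.FusionPP Cfsg.Agent.Lib.FusionStrong
  Cfsg.Agent.Lib.FusionSys Cfsg.Agent.Lib.FusionFrat Cfsg.Agent.Lib.FusionPrime Cfsg.Agent.Lib.FusionTC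
  Cfsg.Agent.Lib.FusionClosed Cfsg.Agent.Lib.FusionStab Cfsg.Agent.Lib.FusionZeta Cfsg.Agent.Lib.FusionCenClosed
  Cfsg.Agent.Lib.FusionLemD Cfsg.Agent.Lib.FusionMeet Cfsg.Agent.Lib.FusionMeet2
open Cfsg.Agent.Lib.FusionThmA (InA inA_id inA_aut Gn sysA sysA_sub tc_of_fullyNormalized mem_of_normalizes pow_mapsTo
  inv_mapsTo trivial_move trivial_fiso GoodTo I1 I2 aut_norm map_norm norm_fiso exists_e)
open Cfsg.Agent.Lib.FusionPIdx (le_normalizer_sup le_normalizer_of_conj map_resid_conj mem_map_resid)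
open Cfsg.Agent.Lib.FusionThmB (FamB fc_of_norm)

namespace Cfsg.Agent.Lib.FusionMeet3

variable {Ω : Type*} [Group Ω] {S T : Subgroup Ω} {F : FusionSystem S} {E : FusionSystem T}
  {P Q R U M X Y Z P₁ : Subgroup Ω} {a b f g k θ κ ψ : Ω → Ω} {p : ℕ}
  {ι : Type*} {T' : ι → Subgroup Ω} {E' : ∀ i, FusionSystem (T' i)}

/-- `P C_T(P)` is `T`-centric when `P` is fully centralized -/
theorem tc_cent [Finite S] [Fact p.Prime] (hS : IsPGroup p S) (hF : F.IsSaturated p) (hT : F.StronglyClosed T)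
    (hPT : P ≤ T) (hP : F.IsFullyCentralized P) : TC F T (P ⊔ centralizerIn T P) := by
  refine ⟨sup_le hPT (centralizerIn_le T P), fun R hR => ?_⟩
  obtain ⟨f, hf⟩ := isConj_iff_fiso.1 hR
  obtain ⟨Q, hQ⟩ := (hf.1.restrict le_sup_left).exists_iso
  obtain ⟨g, hg, g1, g2⟩ := hQ.symm
  obtain ⟨k, hk, k1, k2⟩ := exists_extension_centralizer (receptive_of_fullyCentralized hS hF hP) hg
  have hCfin : Finite (centralizerIn T P) := finite_of_le ((centralizerIn_le T P).trans hT.1)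
  have hCfin' : Finite (centralizerIn T Q) := finite_of_le ((centralizerIn_le T Q).trans hT.1)
  have hcard : Nat.card (centralizerIn T Q) ≤ Nat.card (centralizerIn T P) := by
    have hle : centralizerIn T Q ≤ Q ⊔ centralizerIn S Q := fun c hc => Subgroup.mem_sup_right ⟨hT.1 hc.1, hc.2⟩
    refine (hk.restrict hle).card_image_le ?_ ((centralizerIn_le T P).trans hT.1)
    intro c hc
    have hcS : c ∈ centralizerIn S Q := ⟨hT.1 hc.1, hc.2⟩
    exact ⟨StronglyClosed.map_mem F hT hk (Subgroup.mem_sup_right hcS) hc.1, (k2 c hcS).2⟩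
  have hC : FIso F (centralizerIn T P) (centralizerIn T Q) f :=
    (hf.1.restrict le_sup_right).fiso_of_card ((centralizerIn_le T Q).trans hT.1) (fun c hc =>
      ⟨StronglyClosed.map_mem F hT hf.1 (Subgroup.mem_sup_right hc) hc.1,
        hQ.map_centralizer hf.1 le_sup_left (Subgroup.mem_sup_right hc) hc.2⟩) hcard
  have hQR : Q ≤ R := fun y hy => by
    obtain ⟨x, hx, rfl⟩ := hQ.mem_iff.1 hy
    exact hf.mem (Subgroup.mem_sup_left hx)
  intro y hy
  have hyQ : y ∈ centralizerIn T Q := ⟨hy.1, mem_centralizer_iff'.2 fun x hx => mem_centralizer_iff'.1 hy.2 x (hQR hx)⟩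
  obtain ⟨x, hx, rfl⟩ := hC.mem_iff.1 hyQ
  exact hf.mem (Subgroup.mem_sup_right hx)

theorem gx_of_inA [Finite S] [Fact p.Prime] (hS : IsPGroup p S) (hF : F.IsSaturated p) (hE : ∀ i, Inv (E' i) F)
    (hT' : ∀ x, x ∈ T ↔ x ∈ S ∧ ∀ i, x ∈ T' i) (hTC : TC F T P) (hP : F.IsFullyCentralized P)
    (h : InA (AM F E' T p) P a) : Gx F E' P a := by
  have hT := inter_closed hE hT'
  have hPT : ∀ i, P ≤ T' i := fun i x hx => ((hT' x).1 (hTC.1 hx)).2 i
  obtain ⟨Q, hPQ, hQ⟩ := exists_fullyNormalized_conj F hP.1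
  obtain ⟨f, hf⟩ := isConj_iff_fiso.1 hPQ
  obtain ⟨g, hg, g1, g2⟩ := hf.symm
  have hQTC := hTC.conj hT hPQ
  have hQT : ∀ i, Q ≤ T' i := fun i x hx => ((hT' x).1 (hQTC.1 hx)).2 i
  have hQc : F.IsFullyCentralized Q := isFullyCentralized_of_receptive (receptive_of_fullyNormalized hS hF hQ)
  have h1 : InA (AM F E' T p) Q (fun y => f (a (g y))) := inA_transport (fun hf _ => am_transport hf) hf g1 h
  obtain ⟨α, hα, h2⟩ := h1
  have hTX : autInducedBy T Q ≤ XA F E' Q hE hQ.1 hQT := by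
    intro β hβ
    obtain ⟨t, ht, h1⟩ := mem_autInducedBy_iff.1 hβ
    exact ⟨autInducedBy_le_autGroup hQ.1 hT.1 hβ, (gx_conj_T hE hT' hQTC ⟨ht, mem_normalizer_of_aut h1⟩).congr
      fun x hx => by rw [autFun_of_mem _ hx]; exact (h1 ⟨x, hx⟩).symm⟩
  have hQX : α ∈ XA F E' Q hE hQ.1 hQT :=
    (sup_le (Subgroup.map_subtype_le _) hTX) (am_le_sup hS hF hE hT' hQTC hQ hQT hα)
  have h3 : Gx F E' Q (fun y => f (a (g y))) := (mem_XA.1 hQX).2.congr fun x hx => (h2 x hx).symm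
  refine (gx_fc hS hF hE hQT hQc hP hg (g := f) g2 (fun y hy => ?_) h3).congr fun y hy => ?_
  · show f (a (g y)) ∈ Q
    have h4 : f (a (g y)) = autFun α y := h2 y hy
    rw [h4]; exact autFun_mem α hy
  · show g (f (a (g (f y)))) = a y
    rw [g1 y hy, g1 _ (h.mem hy)]

theorem am_normal (hP : P ≤ S) : ∀ α ∈ F.autGroup P, ∀ n ∈ AM F E' T p P, α * n * α⁻¹ ∈ AM F E' T p P := by
  intro α hα n hn
  have h1 : InA (AM F E' T p) P (fun y => autFun α (autFun n (autFun α⁻¹ y))) :=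
    inA_transport (fun hf _ => am_transport hf) ((fiso_autFun_iff hP).2 hα) (fun x hx => autFun_inv_apply α hx)
      (inA_aut.2 hn)
  refine inA_aut.1 (h1.congr fun x hx => ?_)
  rw [← autFun_mul _ _ (autFun_mem _ hx), ← autFun_mul _ _ hx, mul_assoc]

theorem inA_of_gx [Fact p.Prime] (hQc : F.IsFullyCentralized Q) (ha : PP F p Q a) (h : Gx F E' Q a) :
    InA (AM F E' T p) Q a := by
  refine ⟨ha.1.equiv, Subgroup.subset_closure (Or.inl ⟨ha.aut_mem, ha.order, Q, fun x => x, a, hQc,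
    FIso.refl F hQc.1, h, fun x => rfl⟩), fun x hx => ?_⟩
  rw [autFun_of_mem _ hx]; rfl

/-- two automorphisms of order prime to `p`, resp. arbitrary, which agree modulo the stabilizer of a chain -/
theorem inA_of_agree [Finite S] [Fact p.Prime] (hS : IsPGroup p S) {A : ∀ P : Subgroup Ω, Subgroup (MulAut P)}
    (hQ : Q ≤ S) (hn : ∀ α ∈ F.autGroup Q, ∀ n ∈ A Q, α * n * α⁻¹ ∈ A Q) (hPQ : P ≤ Q) (ha : PP F p Q a)
    (hb : FIso F Q Q b) (hbA : InA A Q b) (hbP : ∀ x ∈ P, b x ∈ P) (h1 : ∀ x ∈ P, b x = a x) (h2 : ∀ x ∈ Q, (b x)⁻¹ * a x ∈ P) :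
    InA A Q a := by
  have hQfin : Finite Q := finite_of_le hQ
  obtain ⟨α, hα⟩ : ∃ α : MulAut Q, α = ha.1.equiv := ⟨_, rfl⟩
  obtain ⟨β, hβ⟩ : ∃ β : MulAut Q, β = hb.equiv := ⟨_, rfl⟩
  have hα1 : ∀ x ∈ Q, autFun α x = a x := fun x hx => by rw [autFun_of_mem _ hx, hα]; rfl
  have hβ1 : ∀ x ∈ Q, autFun β x = b x := fun x hx => by rw [autFun_of_mem _ hx, hβ]; rfl
  have hβA : β ∈ A Q := by
    refine inA_aut.1 (hbA.congr fun x hx => (hβ1 x hx).symm)
  have hbi : FIso F P P b := fiso_restrict hb.1 hPQ hbP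
  have hinv : ∀ x ∈ P, autFun β⁻¹ x ∈ P := fun x hx => by
    obtain ⟨y, hy, rfl⟩ := hbi.mem_iff.1 hx
    rw [← hβ1 y (hPQ hy), autFun_inv_apply β (hPQ hy)]; exact hy
  obtain ⟨k, hk⟩ := stab_pow hS hQ hPQ (δ := β⁻¹ * α) (fun x hx => by
    rw [autFun_mul _ _ (hPQ hx), hα1 x (hPQ hx), ← h1 x hx, ← hβ1 x (hPQ hx), autFun_inv_apply β (hPQ hx)]) (fun x hx => by
    rw [autFun_mul _ _ hx, hα1 x hx]
    have h3 : autFun β⁻¹ ((b x)⁻¹ * a x) = x⁻¹ * autFun β⁻¹ (a x) := by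
      have hβF := ((fiso_autFun_iff hQ).2 (Subgroup.inv_mem _ (hβ ▸ hb.equiv_mem_autGroup) : β⁻¹ ∈ F.autGroup Q)).1
      rw [hβF.map_mul (Q.inv_mem (hb.mem hx)) (ha.mem hx), hβF.map_inv (hb.mem hx), ← hβ1 x hx, autFun_inv_apply β hx]
    rw [← h3]; exact hinv _ (h2 x hx))
  have hαA : α ∈ A Q := mem_of_pprime (N := A Q) (x := α) (y := β) (δ := β⁻¹ * α)
    (fun n hn' => hn α (hα ▸ ha.aut_mem) n hn') hβA (by group) (hα ▸ ha.order) ⟨k, hk⟩
  exact ⟨α, hαA, fun x hx => (hα1 x hx).symm⟩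

theorem conj_cent {s : Ω} (hs : s ∈ normalizerIn S P) {y : Ω} (hy : y ∈ centralizerIn S P) :
    s * y * s⁻¹ ∈ centralizerIn S P := by
  refine ⟨S.mul_mem (S.mul_mem hs.1 hy.1) (S.inv_mem hs.1), mem_centralizer_iff'.2 fun z hz => ?_⟩
  have h2 := (Subgroup.mem_normalizer_iff.1 (Subgroup.inv_mem _ hs.2) z).1 hz
  rw [inv_inv] at h2
  have h3 := mem_centralizer_iff'.1 hy.2 _ h2
  calc s * y * s⁻¹ * z * (s * y * s⁻¹)⁻¹ = s * (y * (s⁻¹ * z * s) * y⁻¹) * s⁻¹ := by group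
    _ = z := by rw [h3]; group

theorem cent_norm {s : Ω} (hs : s ∈ normalizerIn S P) :
    s ∈ Subgroup.normalizer ((P ⊔ centralizerIn S P : Subgroup Ω) : Set Ω) :=
  (le_normalizer_sup (K := normalizerIn S P) (fun s hs => hs.2)
    (fun s hs => le_normalizer_of_conj (H := normalizerIn S P) (fun s hs y hy => conj_cent hs hy) hs)) hs

theorem am_ext [Finite S] [Fact p.Prime] (hS : IsPGroup p S) (hF : F.IsSaturated p) (hE : ∀ i, Inv (E' i) F)
    (hEs : ∀ i, (E' i).IsSaturated p) (hT' : ∀ x, x ∈ T ↔ x ∈ S ∧ ∀ i, x ∈ T' i) (hTC : TC F T P)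
    (hP : F.IsFullyNormalized P) (hPQ : P ≤ Q) (hQN : Q ≤ normalizerIn T P) (hQc : F.IsFullyCentralized Q)
    (ha : PP F p Q a) (haP : ∀ x ∈ P, a x ∈ P) (hAM : InA (AM F E' T p) P a) : InA (AM F E' T p) Q a := by
  have hT := inter_closed hE hT'
  have hPS := hP.1
  have hPT : ∀ i, P ≤ T' i := fun i x hx => ((hT' x).1 (hTC.1 hx)).2 i
  have hQT : ∀ i, Q ≤ T' i := fun i x hx => ((hT' x).1 (hQN hx).1).2 i
  have hQS : Q ≤ S := fun x hx => hT.1 (hQN hx).1
  have hPa := automized_receptive_of_fullyNormalized hS hF hP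
  have hPc := isFullyCentralized_of_receptive hPa.2
  have haPP : PP F p P a := ha.restrict hPQ haP
  obtain ⟨b, hb, hb1, hb2, hb3⟩ := gx_pp hE hPT haPP (gx_of_inA hS hF hE hT' hTC hPc hAM)
  obtain ⟨hbi, hbP, hbC, hbE⟩ := gx_data hE hPT haP hb.map hb1 hb2 hb3
  obtain ⟨b', hb', e1, e2⟩ := hb.1.symm
  have hMN : P ⊔ centralizerIn S P ≤ normalizerIn S P := sup_le (le_normalizerIn hPS) (centralizerIn_le_normalizerIn S P)
  have hNSP : ∀ q ∈ Q, q ∈ normalizerIn S P := fun q hq => ⟨hQS hq, (hQN hq).2⟩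
  have hMc : F.IsReceptive (P ⊔ centralizerIn S P) := receptive_of_centric hS hF (centric_cent hPc)
  -- saturation of the normalizer system and full automization of `M`
  have hNs : (normSys F P hPS).IsSaturated p := normSys_saturated hS hF hP
  have hNp : IsPGroup p ↥(normalizerIn S P) := isPGroup_of_le hS (normalizerIn_le S P)
  have hNfin : Finite ↥(normalizerIn S P) := finite_of_le (normalizerIn_le S P)
  have hMfn : (normSys F P hPS).IsFullyNormalized (P ⊔ centralizerIn S P) :=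
    fullyNormalized_of_normalizes hMN fun s hs => cent_norm hs
  have hMa := fullyAutomized_of_fullyNormalized hNp hNs hMfn
  -- the subgroup `V'`
  let V' : Subgroup Ω :=
    { carrier := {s | s ∈ centralizerIn S P ∧ ∀ v ∈ centralizerIn S P, v⁻¹ * (s * v * s⁻¹) ∈ P}
      one_mem' := ⟨one_mem _, fun v _ => by simp [P.one_mem]⟩
      mul_mem' := by
        rintro s t ⟨h1, h2⟩ ⟨k1, k2⟩
        refine ⟨mul_mem h1 k1, fun v hv => ?_⟩
        have hv' : t * v * t⁻¹ ∈ centralizerIn S P := mul_mem (mul_mem k1 hv) (inv_mem k1)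
        have h3 := P.mul_mem (k2 v hv) (h2 _ hv')
        have h4 : v⁻¹ * (t * v * t⁻¹) * ((t * v * t⁻¹)⁻¹ * (s * (t * v * t⁻¹) * s⁻¹)) = v⁻¹ * (s * t * v * (s * t)⁻¹) := by
          group
        rwa [h4] at h3
      inv_mem' := by
        rintro s ⟨h1, h2⟩
        refine ⟨inv_mem h1, fun v hv => ?_⟩
        have hv' : s⁻¹ * v * s ∈ centralizerIn S P := mul_mem (mul_mem (inv_mem h1) hv) h1
        have h3 := P.inv_mem (h2 _ hv')
        have h4 : ((s⁻¹ * v * s)⁻¹ * (s * (s⁻¹ * v * s) * s⁻¹))⁻¹ = v⁻¹ * (s⁻¹ * v * s⁻¹⁻¹) := by group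
        rwa [h4] at h3 }
  have hV'V : V' ≤ centralizerIn S P := fun s hs => hs.1
  -- extension over `Q`
  have hbV : ∀ v ∈ centralizerIn S P, b v ∈ centralizerIn S P := fun v hv => hbC.mem hv
  have hact : V' ⊔ Q ≤ actSub hb.1 (V' ⊔ Q) := by
    refine sup_le ?_ ?_
    · rintro s ⟨h1, h2⟩
      refine mem_actSub.2 ⟨cent_norm (centralizerIn_le_normalizerIn S P h1), b s, Subgroup.mem_sup_left ⟨hbV s h1, fun v hv => ?_⟩,
        fun x hx => hb.map.map_conj (Subgroup.mem_sup_right h1) hx⟩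
      obtain ⟨u, hu, rfl⟩ := hbC.mem_iff.1 hv
      have h3 : b (u⁻¹ * (s * u * s⁻¹)) = (b u)⁻¹ * (b s * b u * (b s)⁻¹) := by
        have hum : u ∈ P ⊔ centralizerIn S P := Subgroup.mem_sup_right hu
        have hsm : s ∈ P ⊔ centralizerIn S P := Subgroup.mem_sup_right h1
        rw [hb.map.map_mul (Subgroup.inv_mem _ hum) (Subgroup.mul_mem _ (Subgroup.mul_mem _ hsm hum) (Subgroup.inv_mem _ hsm)),
          hb.map.map_inv hum, hb.map.map_conj hsm hum]
      rw [← h3]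
      exact hbP.mem (h2 u hu)
    · intro q hq
      have hqN := hNSP q hq
      have haq := hNSP _ (ha.mem hq)
      -- the map `γ`
      have hq' : FIso F (P ⊔ centralizerIn S P) (P ⊔ centralizerIn S P) (fun x => q * x * q⁻¹) :=
        fiso_restrict (fmap_conj F (hMN.trans (normalizerIn_le S P)) hqN.1) le_rfl fun x hx =>
          (Subgroup.mem_normalizer_iff.1 (cent_norm hqN) x).1 hx
      have haq' : FIso F (P ⊔ centralizerIn S P) (P ⊔ centralizerIn S P) (fun x => (a q)⁻¹ * x * (a q)⁻¹⁻¹) :=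
        fiso_restrict (fmap_conj F (hMN.trans (normalizerIn_le S P)) (S.inv_mem haq.1)) le_rfl fun x hx =>
          (Subgroup.mem_normalizer_iff.1 (Subgroup.inv_mem _ (cent_norm haq)) x).1 hx
      have hγ : FIso F (P ⊔ centralizerIn S P) (P ⊔ centralizerIn S P)
          (fun x => (a q)⁻¹ * b (q * b' x * q⁻¹) * (a q)⁻¹⁻¹) := ((hb'.trans hq').trans hb.1).trans haq'
      have hb'P : ∀ x ∈ P, b' x ∈ P := fun x hx => by
        obtain ⟨y, hy, rfl⟩ := hbP.mem_iff.1 hx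
        rw [e1 y (Subgroup.mem_sup_left hy)]; exact hy
      have hb'V : ∀ v ∈ centralizerIn S P, b' v ∈ centralizerIn S P := fun v hv => by
        obtain ⟨u, hu, rfl⟩ := hbC.mem_iff.1 hv
        rw [e1 u (Subgroup.mem_sup_right hu)]; exact hu
      have hγP : ∀ x ∈ P, (a q)⁻¹ * b (q * b' x * q⁻¹) * (a q)⁻¹⁻¹ = x := by
        intro x hx
        have h5 : q * b' x * q⁻¹ ∈ P := (Subgroup.mem_normalizer_iff.1 hqN.2 _).1 (hb'P x hx)
        have h6 : b (q * b' x * q⁻¹) = a q * x * (a q)⁻¹ := by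
          rw [hb1 _ h5, ha.map.map_conj hq (hPQ (hb'P x hx)), ← hb1 _ (hb'P x hx), e2 x (Subgroup.mem_sup_left hx)]
        rw [h6]; group
      have hγV : ∀ v ∈ centralizerIn S P, v⁻¹ * ((a q)⁻¹ * b (q * b' v * q⁻¹) * (a q)⁻¹⁻¹) ∈ P := by
        intro v hv
        have hmv : ∀ r ∈ Q, ∀ u ∈ centralizerIn S P, u⁻¹ * (r * u * r⁻¹) ∈ P := by
          intro r hr u hu
          refine hTC.cent hT ⟨?_, ?_⟩
          · have h4 := (Subgroup.mem_normalizer_iff.1 (normalizes_of_stronglyClosed hT (S.inv_mem hu.1)) r).1 (hQN hr).1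
            rw [inv_inv] at h4
            have h5 := T.mul_mem h4 (T.inv_mem (hQN hr).1)
            have h6 : u⁻¹ * r * u * r⁻¹ = u⁻¹ * (r * u * r⁻¹) := by group
            rwa [h6] at h5
          · exact (mul_mem (inv_mem hu) (conj_cent (hNSP r hr) hu) : u⁻¹ * (r * u * r⁻¹) ∈ centralizerIn S P).2
        have hu := hb'V v hv
        have h5 := hmv q hq _ hu
        have hum : b' v ∈ P ⊔ centralizerIn S P := Subgroup.mem_sup_right hu
        -- b(q u q⁻¹) = v * b(u⁻¹ q u q⁻¹)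
        have h6 : b (q * b' v * q⁻¹) = v * b ((b' v)⁻¹ * (q * b' v * q⁻¹)) := by
          rw [hb.map.map_mul (Subgroup.inv_mem _ hum) (hq'.mem hum), hb.map.map_inv hum, e2 v (Subgroup.mem_sup_right hv)]
          group
        have h7 := hmv _ (Q.inv_mem (ha.mem hq)) v hv
        have h8 := (Subgroup.mem_normalizer_iff.1 (Subgroup.inv_mem _ haq.2) _).1 (hbP.mem h5)
        have h9 : v⁻¹ * ((a q)⁻¹ * (v * b ((b' v)⁻¹ * (q * b' v * q⁻¹))) * (a q)⁻¹⁻¹) =
            v⁻¹ * ((a q)⁻¹ * v * (a q)⁻¹⁻¹) * ((a q)⁻¹ * b ((b' v)⁻¹ * (q * b' v * q⁻¹)) * (a q)⁻¹⁻¹) := by group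
        rw [h6, h9]
        exact P.mul_mem h7 h8
      have hγN : FIso (normSys F P hPS) (P ⊔ centralizerIn S P) (P ⊔ centralizerIn S P)
          (fun x => (a q)⁻¹ * b (q * b' x * q⁻¹) * (a q)⁻¹⁻¹) := by
        refine ⟨fmap_normSys.2 ⟨hMN, fun x hx => hMN (hγ.mem hx), _, ?_, fun _ _ => rfl,
          fiso_restrict hγ.1 le_sup_left fun x hx => by rw [hγP x hx]; exact hx⟩, hγ.2⟩
        rw [sup_eq_left.2 le_sup_left]; exact hγ.1
      have hmove := move_sup (b := fun x => (a q)⁻¹ * b (q * b' x * q⁻¹) * (a q)⁻¹⁻¹) hγ.1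
        (fun x hx => by rw [hγP x hx]; exact hx) hγV (fun c hc => (centralizerIn_le_normalizerIn S P hc).2)
      have hstab : ∀ f, FIso (normSys F P hPS) (P ⊔ centralizerIn S P) (P ⊔ centralizerIn S P) f → ∀ x ∈ P, f x ∈ P := by
        intro f hf x hx
        obtain ⟨-, -, h6⟩ := (fmap_normSys (hX := hPS)).1 hf.1
        obtain ⟨f', hf', h7, h8⟩ := h6
        rw [← h7 x (Subgroup.mem_sup_left hx)]
        exact h8.mem hx
      obtain ⟨s, hs, h5⟩ := chain3 hNp hMa (P := P) (P₁ := P) le_rfl le_sup_left hstab hstab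
        hγN hγP (fun x hx => by rw [hγP x hx]; simp [P.one_mem]) hmove
      have hsP : s ∈ centralizerIn S P := ⟨hs.1.1, mem_centralizer_iff'.2 fun x hx => by
        rw [← h5 x (Subgroup.mem_sup_left hx)]; exact hγP x hx⟩
      have hsV' : s ∈ V' := ⟨hsP, fun v hv => by
        rw [← h5 v (Subgroup.mem_sup_right hv)]; exact hγV v hv⟩
      refine mem_actSub.2 ⟨cent_norm hqN, a q * s, Subgroup.mul_mem _ (Subgroup.mem_sup_right (ha.mem hq))
        (Subgroup.mem_sup_left hsV'), fun x hx => ?_⟩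
      have h6 := h5 (b x) (hb.mem hx)
      have h7 : (a q)⁻¹ * b (q * b' (b x) * q⁻¹) * (a q)⁻¹⁻¹ = s * b x * s⁻¹ := h6
      rw [e1 x hx] at h7
      calc b (q * x * q⁻¹) = a q * ((a q)⁻¹ * b (q * x * q⁻¹) * (a q)⁻¹⁻¹) * (a q)⁻¹ := by group
        _ = _ := by rw [h7]; group
  have hNS : V' ⊔ Q ≤ S := sup_le (hV'V.trans (centralizerIn_le S P)) hQS
  have hCM : centralizerIn S (P ⊔ centralizerIn S P) ≤ V' ⊔ Q := by
    intro c hc
    have h5 : ∀ x ∈ P ⊔ centralizerIn S P, c * x * c⁻¹ = x := fun x hx => mem_centralizer_iff'.1 hc.2 x hx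
    refine Subgroup.mem_sup_left ⟨⟨hc.1, mem_centralizer_iff'.2 fun x hx => h5 x (Subgroup.mem_sup_left hx)⟩, fun v hv => ?_⟩
    rw [h5 v (Subgroup.mem_sup_right hv), inv_mul_cancel]; exact P.one_mem
  obtain ⟨σ, hσ, hσ1, -⟩ := ext_grp_pp hMc hb hNS hCM hact
  have hQm : Q ≤ (P ⊔ centralizerIn S P) ⊔ (V' ⊔ Q) := le_sup_right.trans le_sup_right
  have hMm : P ⊔ centralizerIn S P ≤ (P ⊔ centralizerIn S P) ⊔ (V' ⊔ Q) := le_sup_left
  -- `σ` and `a` differ by elements of `P`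
  have hσa : ∀ q ∈ Q, (a q)⁻¹ * σ q ∈ P := by
    intro q hq
    refine hTC.cent hT ⟨T.mul_mem (T.inv_mem (hQN (ha.mem hq)).1) (StronglyClosed.map_mem F hT hσ.map (hQm hq) (hQN hq).1),
      mem_centralizer_iff'.2 fun x hx => ?_⟩
    obtain ⟨y, hy, rfl⟩ := hbP.mem_iff.1 hx
    have hyM : y ∈ P ⊔ centralizerIn S P := Subgroup.mem_sup_left hy
    have hqy : q * y * q⁻¹ ∈ P := (Subgroup.mem_normalizer_iff.1 (hNSP q hq).2 y).1 hy
    have h5 : σ q * b y * (σ q)⁻¹ = a q * b y * (a q)⁻¹ := by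
      rw [← hσ1 y hyM, ← hσ.map.map_conj (hQm hq) (hMm hyM), hσ1 _ (Subgroup.mem_sup_left hqy), hb1 _ hqy,
        ha.map.map_conj hq (hPQ hy), hσ1 y hyM, hb1 y hy]
    calc (a q)⁻¹ * σ q * b y * ((a q)⁻¹ * σ q)⁻¹ = (a q)⁻¹ * (σ q * b y * (σ q)⁻¹) * a q := by group
      _ = b y := by rw [h5]; group
  have hσQ : ∀ q ∈ Q, σ q ∈ Q := fun q hq => by
    have := Q.mul_mem (ha.mem hq) (hPQ (hσa q hq))
    rwa [mul_inv_cancel_left] at this
  have hσPP : PP F p Q σ := hσ.restrict hQm hσQ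
  have hCQ : centralizerIn S Q ≤ centralizerIn S P := fun c hc =>
    ⟨hc.1, mem_centralizer_iff'.2 fun x hx => mem_centralizer_iff'.1 hc.2 x (hPQ hx)⟩
  have hGx : Gx F E' Q σ := by
    refine ⟨σ, hσ.map.restrict (sup_le hQm ((hCQ.trans le_sup_right).trans hMm)), fun _ _ => rfl, fun c hc => ?_, fun i => ?_⟩
    · rw [hσ1 c (Subgroup.mem_sup_right (hCQ hc))]; exact hPQ (hb2 c (hCQ hc))
    · have hTi := (hE i).closed
      have hCi : centralizerIn (T' i) P ≤ centralizerIn S P := inf_le_inf_right _ hTi.1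
      have hPi : P ⊔ centralizerIn (T' i) P ≤ Q ⊔ centralizerIn (T' i) P := sup_le_sup_right hPQ _
      have hQi : Q ⊔ centralizerIn (T' i) P ≤ (P ⊔ centralizerIn S P) ⊔ (V' ⊔ Q) :=
        sup_le hQm ((hCi.trans le_sup_right).trans hMm)
      have hσV : ∀ c ∈ centralizerIn (T' i) P, σ c ∈ centralizerIn (T' i) P := fun c hc => by
        rw [hσ1 c (Subgroup.mem_sup_right (hCi hc))]
        exact ⟨StronglyClosed.map_mem F hTi hb.map (Subgroup.mem_sup_right (hCi hc)) hc.1, (hbV c (hCi hc)).2⟩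
      have hle : P ⊔ centralizerIn (T' i) P ≤ P ⊔ centralizerIn S P := cent_le i fun i => (hE i).closed.1
      have h5 : PP (E' i) p (Q ⊔ centralizerIn (T' i) P) σ := by
        refine lemmaD hS (hEs i) (hE i) (tc_cent hS hF hTi (hPT i) hPc) hPi (sup_le (hQT i) (centralizerIn_le _ P)) ?_
          (hσ.restrict hQi (map_sup_mem (hσ.map.restrict hQi) (fun x hx => Subgroup.mem_sup_left (hσQ x hx))
            fun x hx => Subgroup.mem_sup_right (hσV x hx)))
          (map_sup_mem (hσ.map.restrict (hPi.trans hQi)) (fun x hx => Subgroup.mem_sup_left (by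
            rw [hσ1 x (Subgroup.mem_sup_left hx)]; exact hbP.mem hx)) fun x hx => Subgroup.mem_sup_right (hσV x hx))
          ((hb3 i).congr fun x hx => (hσ1 x (hle hx)).symm)
        have hk : Q ⊔ centralizerIn (T' i) P ≤ normalizerIn (T' i) P :=
          sup_le (fun q hq => ⟨hQT i hq, (hQN hq).2⟩) (centralizerIn_le_normalizerIn _ P)
        exact fun q hq => cent_norm (hk hq)
      exact h5.map.restrict (sup_le_sup_left (fun c hc =>
        ⟨hc.1, mem_centralizer_iff'.2 fun x hx => mem_centralizer_iff'.1 hc.2 x (hPQ hx)⟩) Q)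
  refine inA_of_agree hS hQS (am_normal hQS) hPQ ha hσPP.1 (inA_of_gx hQc hσPP hGx) (fun x hx => ?_) (fun x hx => ?_)
    (fun x hx => ?_)
  · rw [hσ1 x (Subgroup.mem_sup_left hx)]; exact hbP.mem hx
  · rw [hσ1 x (Subgroup.mem_sup_left hx), hb1 x hx]
  · have := P.inv_mem (hσa x hx)
    rwa [mul_inv_rev, inv_inv] at this

end Cfsg.Agent.Lib.FusionMeet3
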