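import Mathlib
import Cfsg.Agent.Lib.FusionMeet3

/-!
The meet of (weakly) normal subsystems: restriction, and the meet itself.
-/

set_option autoImplicit false
open Cfsg Cfsg.FusionSystem Cfsg.Agent.Lib.FusionBasic Cfsg.Agent.Lib.FusionSat Cfsg.Agent.Lib.FusionNormal
  Cfsg.Agent.Lib.FusionInvar Cfsg.Agent.Lib.FusionTools Cfsg.Agent.Lib.FusionPP Cfsg.Agent.Lib.FusionStrong
  Cfsg.Agent.Lib.FusionSys Cfsg.Agent.Lib.FusionFrat Cfsg.Agent.Lib.FusionPrime Cfsg.Agent.Lib.FusionTC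
  Cfsg.Agent.Lib.FusionClosed Cfsg.Agent.Lib.FusionStab Cfsg.Agent.Lib.FusionZeta Cfsg.Agent.Lib.FusionCenClosed
  Cfsg.Agent.Lib.FusionLemD Cfsg.Agent.Lib.FusionMeet Cfsg.Agent.Lib.FusionMeet2 Cfsg.Agent.Lib.FusionMeet3
  Cfsg.Agent.Lib.FusionCenNormal
open Cfsg.Agent.Lib.FusionThmA (InA inA_id inA_aut Gn sysA sysA_sub tc_of_fullyNormalized mem_of_normalizes pow_mapsTo
  inv_mapsTo trivial_move trivial_fiso GoodTo I1 I2 aut_norm map_norm norm_fiso exists_e)
open Cfsg.Agent.Lib.FusionPIdx (le_normalizer_sup le_normalizer_of_conj map_resid_conj mem_map_resid)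
open Cfsg.Agent.Lib.FusionThmB (FamB fc_of_norm)

namespace Cfsg.Agent.Lib.FusionMeet4

variable {Ω : Type*} [Group Ω] {S T : Subgroup Ω} {F : FusionSystem S} {E : FusionSystem T}
  {P Q R U M X Y Z P₁ N : Subgroup Ω} {a b f g k θ κ ψ : Ω → Ω} {p : ℕ}
  {ι : Type*} {T' : ι → Subgroup Ω} {E' : ∀ i, FusionSystem (T' i)}

theorem am_res [Finite S] [Fact p.Prime] (hS : IsPGroup p S) (hF : F.IsSaturated p) (hE : ∀ i, Inv (E' i) F)
    (hEs : ∀ i, (E' i).IsSaturated p) (hT' : ∀ x, x ∈ T ↔ x ∈ S ∧ ∀ i, x ∈ T' i) (hTC : TC F T P)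
    (hP : F.IsFullyNormalized P) (hNe : N = normalizerIn T P)
    (ha : PP F p N a) (haP : ∀ x ∈ P, a x ∈ P) (hAM : InA (AM F E' T p) N a) : InA (AM F E' T p) P a := by
  have hT := inter_closed hE hT'
  have hPS := hP.1
  have hPN : P ≤ N := hNe ▸ le_normalizerIn hTC.1
  have hNT : N ≤ T := hNe ▸ normalizerIn_le T P
  have hNS : N ≤ S := hNT.trans hT.1
  have hPT : ∀ i, P ≤ T' i := fun i x hx => ((hT' x).1 (hTC.1 hx)).2 i
  have hNT' : ∀ i, N ≤ T' i := fun i x hx => ((hT' x).1 (hNT hx)).2 i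
  have hPa := automized_receptive_of_fullyNormalized hS hF hP
  have hPc := isFullyCentralized_of_receptive hPa.2
  have hNTC : TC F T N := hTC.mono hT hPN hNT
  have hNfin : Finite ↥(normalizerIn S P) := finite_of_le (normalizerIn_le S P)
  -- `N` is normalized by `N_S(P)`
  have hNn : ∀ s ∈ normalizerIn S P, ∀ x ∈ N, s * x * s⁻¹ ∈ N := by
    intro s hs x hx
    rw [hNe] at hx ⊢
    refine ⟨(Subgroup.mem_normalizer_iff.1 (normalizes_of_stronglyClosed hT hs.1) x).1 hx.1, ?_⟩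
    exact Subgroup.mul_mem _ (Subgroup.mul_mem _ hs.2 hx.2) (Subgroup.inv_mem _ hs.2)
  have hNnorm : normalizerIn S P ≤ Subgroup.normalizer (N : Set Ω) := le_normalizer_of_conj hNn
  have hNc : F.IsFullyCentralized N := by
    refine fc_of_norm hS hF hP hPN (fullyNormalized_of_normalizes ?_ hNnorm)
    exact hNe ▸ inf_le_inf_right _ hT.1
  obtain ⟨b, hb, hb1, hb2, hb3⟩ := gx_pp hE hNT' ha (gx_of_inA hS hF hE hT' hNTC hNc hAM)
  obtain ⟨hbi, hbN, hbC, hbE⟩ := gx_data hE hNT' (fun x hx => ha.mem hx) hb.map hb1 hb2 hb3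
  obtain ⟨σ, hσ, hσ1, hσV⟩ := step_ext hS hF hT hTC hP hNe hb (fun x hx => by rw [hb1 x (hPN hx)]; exact haP x hx) hb2
  obtain ⟨W, hW⟩ : ∃ W, W = (N ⊔ centralizerIn S N) ⊔ centralizerIn S P := ⟨_, rfl⟩
  rw [← hW] at hσ
  have hNCW : N ⊔ centralizerIn S N ≤ W := hW ▸ le_sup_left
  have hVW : centralizerIn S P ≤ W := hW ▸ le_sup_right
  have hNW : N ≤ W := le_sup_left.trans hNCW
  have hPW : P ≤ W := hPN.trans hNW
  have hσa : ∀ x ∈ N, σ x = a x := fun x hx => by rw [hσ1 x (Subgroup.mem_sup_left hx), hb1 x hx]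
  have hσP : FIso F P P σ := fiso_restrict hσ.map hPW fun x hx => by rw [hσa x (hPN hx)]; exact haP x hx
  have hσC : FIso F (centralizerIn S P) (centralizerIn S P) σ := fiso_restrict hσ.map hVW hσV
  have hlei : ∀ i, N ⊔ centralizerIn (T' i) N ≤ N ⊔ centralizerIn S N := fun i => cent_le i fun i => (hE i).closed.1
  have hCi : ∀ i, centralizerIn (T' i) P ≤ centralizerIn S P := fun i => inf_le_inf_right _ (hE i).closed.1
  have hσE : ∀ i, FIso (E' i) (N ⊔ centralizerIn (T' i) N) (N ⊔ centralizerIn (T' i) N) σ := fun i =>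
    (hbE i).congr fun x hx => (hσ1 x (hlei i hx)).symm
  have hσVi : ∀ i, ∀ c ∈ centralizerIn (T' i) P, σ c ∈ centralizerIn (T' i) P := fun i c hc =>
    ⟨StronglyClosed.map_mem F (hE i).closed hσ.map (hVW (hCi i hc)) hc.1, (hσV c (hCi i hc)).2⟩
  -- `N C_{T_i}(N)` is normalized by `N_S(P)`
  have hNin : ∀ i, ∀ s ∈ normalizerIn S P, ∀ x ∈ N ⊔ centralizerIn (T' i) N, s * x * s⁻¹ ∈ N ⊔ centralizerIn (T' i) N := by
    intro i s hs x hx
    have h1 : N ⊔ centralizerIn (T' i) N ≤ (N ⊔ centralizerIn (T' i) N).comap (MulAut.conj s).toMonoidHom := by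
      refine sup_le (fun y hy => Subgroup.mem_sup_left (hNn s hs y hy)) (fun y hy => ?_)
      have h2 := conj_cent (S := S) (P := N) (s := s) ⟨hs.1, hNnorm hs⟩ (y := y) ⟨(hE i).closed.1 hy.1, hy.2⟩
      exact Subgroup.mem_sup_right
        ⟨(Subgroup.mem_normalizer_iff.1 (normalizes_of_stronglyClosed (hE i).closed hs.1) y).1 hy.1, h2.2⟩
    exact h1 hx
  have hNile : ∀ i, N ⊔ centralizerIn (T' i) N ≤ normalizerIn (T' i) P := fun i => sup_le
    (fun x hx => ⟨hNT' i hx, by rw [hNe] at hx; exact hx.2⟩)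
    (fun x hx => centralizerIn_le_normalizerIn _ P ⟨hx.1, mem_centralizer_iff'.2 fun y hy =>
      mem_centralizer_iff'.1 hx.2 y (hPN hy)⟩)
  have hGx : Gx F E' P σ := by
    refine ⟨σ, hσ.map.restrict (sup_le hPW hVW), fun _ _ => rfl, fun v hv => ?_, fun i => ?_⟩
    · -- commutators
      have hvN := centralizerIn_le_normalizerIn S P hv
      have hwV : v⁻¹ * σ v ∈ centralizerIn S P := mul_mem (inv_mem hv) (hσV v hv)
      refine hTC.cent hT ⟨(hT' _).2 ⟨hwV.1, fun i => ?_⟩, hwV.2⟩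
      have hTi := (hE i).closed
      have hNiS : N ⊔ centralizerIn (T' i) N ≤ S := (hlei i).trans (sup_le hNS (centralizerIn_le S N))
      have hNiW : N ⊔ centralizerIn (T' i) N ≤ W := (hlei i).trans hNCW
      -- conjugation by `v⁻¹ σ(v)` on `N C_{T_i}(N)`
      have hvi : FIso F (N ⊔ centralizerIn (T' i) N) (N ⊔ centralizerIn (T' i) N) (fun x => v⁻¹ * x * v⁻¹⁻¹) :=
        fiso_restrict (fmap_conj F hNiS (S.inv_mem hv.1)) le_rfl (hNin i _ ((normalizerIn S P).inv_mem hvN))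
      have hwE : FMap (E' i) (N ⊔ centralizerIn (T' i) N) (fun x => v⁻¹ * σ v * x * (v⁻¹ * σ v)⁻¹) := by
        have h1 := (FusionFrat.Inv.strong (hE i)).transport ((hNile i).trans (normalizerIn_le _ P)) hvi
          (g := fun x => v * x * v⁻¹) (fun x _ => by group) (hσE i)
        obtain ⟨σ', hσ', s1, s2⟩ := (hσE i).symm
        refine ((hσ'.1).comp h1 fun x hx => hσ'.mem hx).congr fun x hx => ?_
        have hx' := hσ'.mem hx
        show v⁻¹ * σ (v * σ' x * v⁻¹) * v⁻¹⁻¹ = _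
        rw [hσ.map.map_conj (hVW hv) (hNiW hx'), s2 x hx]
        group
      obtain ⟨t, ht, h2⟩ := lemmaW hS hF (hEs i) (hE i) (hPT i) hP (hPN.trans le_sup_left) (hNile i) (hNin i)
        (centralizerIn_le_normalizerIn S P hwV) hwE
      have htV : t ∈ centralizerIn (T' i) P := ⟨ht.1, mem_centralizer_iff'.2 fun x hx => by
        rw [← h2 x (Subgroup.mem_sup_left (hPN hx))]; exact mem_centralizer_iff'.1 hwV.2 x hx⟩
      have hcS : t⁻¹ * (v⁻¹ * σ v) ∈ centralizerIn S (N ⊔ centralizerIn (T' i) N) := by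
        refine ⟨S.mul_mem (S.inv_mem (hTi.1 ht.1)) hwV.1, mem_centralizer_iff'.2 fun x hx => ?_⟩
        calc t⁻¹ * (v⁻¹ * σ v) * x * (t⁻¹ * (v⁻¹ * σ v))⁻¹ = t⁻¹ * (v⁻¹ * σ v * x * (v⁻¹ * σ v)⁻¹) * t := by group
          _ = x := by rw [h2 x hx]; group
      have hCN : centralizerIn S (N ⊔ centralizerIn (T' i) N) ≤ centralizerIn S N := fun c hc =>
        ⟨hc.1, mem_centralizer_iff'.2 fun x hx => mem_centralizer_iff'.1 hc.2 x (Subgroup.mem_sup_left hx)⟩
      have hCP : centralizerIn S (N ⊔ centralizerIn (T' i) N) ≤ centralizerIn S P := fun c hc =>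
        ⟨hc.1, mem_centralizer_iff'.2 fun x hx => mem_centralizer_iff'.1 hc.2 x (Subgroup.mem_sup_left (hPN hx))⟩
      have hYle : centralizerIn (T' i) P ⊔ centralizerIn S (N ⊔ centralizerIn (T' i) N) ≤ centralizerIn S P :=
        sup_le (hCi i) hCP
      have hnV : ∀ y ∈ centralizerIn S P, y ∈ Subgroup.normalizer ((centralizerIn (T' i) P : Subgroup Ω) : Set Ω) := by
        refine le_normalizer_of_conj fun s hs x hx => ?_
        have h3 := conj_cent (centralizerIn_le_normalizerIn S P hs) (hCi i hx)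
        exact ⟨(Subgroup.mem_normalizer_iff.1 (normalizes_of_stronglyClosed hTi hs.1) x).1 hx.1, h3.2⟩
      have hmove := move_sup (F := F) (P := centralizerIn (T' i) P)
        (Q := centralizerIn S (N ⊔ centralizerIn (T' i) N)) (hσ.map.restrict (hYle.trans hVW)) (hσVi i) (fun c hc => by
          refine ⟨?_, (mul_mem (inv_mem (hCP hc)) (hσV c (hCP hc)) : c⁻¹ * σ c ∈ centralizerIn S P).2⟩
          rw [hσ1 c (Subgroup.mem_sup_right (hCN hc))]
          exact hNT' i (hb2 c (hCN hc))) (fun c hc => hnV c (hCP hc))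
      have hres := PP.step hS hσ (Y := centralizerIn (T' i) P ⊔ centralizerIn S (N ⊔ centralizerIn (T' i) N))
        (Z := centralizerIn (T' i) P) (hYle.trans hVW) le_sup_left (fun y hy z hz => by
          have := (Subgroup.mem_normalizer_iff.1 (Subgroup.inv_mem _ (hnV y (hYle hy))) z).1 hz
          rwa [inv_inv] at this) (hVW hv) (by
          have := Subgroup.mul_mem (centralizerIn (T' i) P ⊔ centralizerIn S (N ⊔ centralizerIn (T' i) N))
            (Subgroup.mem_sup_left htV) (Subgroup.mem_sup_right hcS)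
          rwa [mul_inv_cancel_left] at this) hmove
      exact hres.1
    · have hTi := (hE i).closed
      have hNiW : N ⊔ centralizerIn (T' i) N ≤ W := (hlei i).trans hNCW
      have hQW : (N ⊔ centralizerIn (T' i) N) ⊔ centralizerIn (T' i) P ≤ W := sup_le hNiW ((hCi i).trans hVW)
      have h5 : PP (E' i) p ((N ⊔ centralizerIn (T' i) N) ⊔ centralizerIn (T' i) P) σ := by
        refine lemmaD hS (hEs i) (hE i) (tc_cent hS hF hTi (hNT' i) hNc) le_sup_left
          (sup_le ((hNile i).trans (normalizerIn_le _ P)) (centralizerIn_le _ P)) ?_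
          (hσ.restrict hQW (map_sup_mem (hσ.map.restrict hQW) (fun x hx => Subgroup.mem_sup_left ((hσE i).mem hx))
            fun x hx => Subgroup.mem_sup_right (hσVi i x hx))) (fun x hx => (hσE i).mem hx) (hσE i).1
        refine sup_le Subgroup.le_normalizer ?_
        exact le_normalizer_of_conj fun s hs x hx =>
          hNin i s (centralizerIn_le_normalizerIn S P (hCi i hs)) x hx
      exact h5.map.restrict (sup_le (hPN.trans (le_sup_left.trans le_sup_left)) le_sup_right)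
  have hσPP : PP F p P σ := hσ.restrict hPW fun x hx => hσP.mem hx
  exact (inA_of_gx hPc hσPP hGx).congr fun x hx => hσa x (hPN hx)

theorem am_fam [Finite S] [Fact p.Prime] (hS : IsPGroup p S) (hF : F.IsSaturated p) (hE : ∀ i, Inv (E' i) F)
    (hEs : ∀ i, (E' i).IsSaturated p) (hT' : ∀ x, x ∈ T ↔ x ∈ S ∧ ∀ i, x ∈ T' i) : FamB F T p (AM F E' T p) where
  le := fun P hP => am_le (inter_closed hE hT').1 (hP.1.trans (inter_closed hE hT').1)
  equiv := fun P Q f g a hP hf hg ha => inA_transport (fun hf _ => am_transport hf) hf hg ha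
  ind := by
    intro P hP hPn β hβ
    obtain ⟨t, ht, h1⟩ := mem_autInducedBy_iff.1 hβ
    exact Subgroup.subset_closure (Or.inr ⟨P, fun x => x, t, FIso.refl F hPn.1, ⟨ht, mem_normalizer_of_aut h1⟩, h1⟩)
  syl := fun P hP hPn => am_syl hS hF hE hEs hT' hP hPn fun i x hx => ((hT' x).1 (hP.1 hx)).2 i
  res := fun P a hP hPn ha hAM haP => am_res hS hF hE hEs hT' hP hPn rfl ha haP hAM
  ext := fun P Q a hP hPn hPQ hQN hQc ha haP hAM => am_ext hS hF hE hEs hT' hP hPn hPQ hQN hQc ha haP hAM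

end Cfsg.Agent.Lib.FusionMeet4
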