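import Mathlib
import Cfsg.Agent.Lib.FusionMeet4

/-!
The meet of a family of normal subsystems.
-/

set_option autoImplicit false
open Cfsg Cfsg.FusionSystem Cfsg.Agent.Lib.FusionBasic Cfsg.Agent.Lib.FusionSat Cfsg.Agent.Lib.FusionNormal
  Cfsg.Agent.Lib.FusionInvar Cfsg.Agent.Lib.FusionTools Cfsg.Agent.Lib.FusionPP Cfsg.Agent.Lib.FusionStrong
  Cfsg.Agent.Lib.FusionSys Cfsg.Agent.Lib.FusionFrat Cfsg.Agent.Lib.FusionPrime Cfsg.Agent.Lib.FusionTC
  Cfsg.Agent.Lib.FusionClosed Cfsg.Agent.Lib.FusionStab Cfsg.Agent.Lib.FusionZeta Cfsg.Agent.Lib.FusionCenClosed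
  Cfsg.Agent.Lib.FusionLemD Cfsg.Agent.Lib.FusionMeet Cfsg.Agent.Lib.FusionMeet2 Cfsg.Agent.Lib.FusionMeet3
  Cfsg.Agent.Lib.FusionCenNormal Cfsg.Agent.Lib.FusionMeet4
open Cfsg.Agent.Lib.FusionThmA (InA inA_id inA_aut Gn sysA sysA_sub tc_of_fullyNormalized mem_of_normalizes pow_mapsTo
  inv_mapsTo trivial_move trivial_fiso GoodTo I1 I2 aut_norm map_norm norm_fiso exists_e)
open Cfsg.Agent.Lib.FusionPIdx (le_normalizer_sup le_normalizer_of_conj map_resid_conj mem_map_resid)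
open Cfsg.Agent.Lib.FusionThmB (FamB fc_of_norm)

namespace Cfsg.Agent.Lib.FusionMeet5

variable {Ω : Type*} [Group Ω] {S T : Subgroup Ω} {F : FusionSystem S} {E D : FusionSystem T}
  {P Q R U M X Y Z P₁ N : Subgroup Ω} {a b f g k θ κ ψ : Ω → Ω} {p : ℕ}
  {ι : Type*} {T' : ι → Subgroup Ω} {E' : ∀ i, FusionSystem (T' i)}

theorem inA_am (hf : FIso F P Q f) (hg : ∀ x ∈ P, g (f x) = x) (ha : InA (AM F E' T p) P a) :
    InA (AM F E' T p) Q (fun y => f (a (g y))) :=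
  inA_transport (A := AM F E' T p) (fun hf α hα => am_transport hf hα) hf hg ha

/-- an extension of order prime to `p` -/
theorem extZ_pp [Finite S] [Fact p.Prime] (hf : PP F p P f) (h : ExtZ F P f) :
    ∃ b, PP F p (P ⊔ centralizerIn S P) b ∧ (∀ x ∈ P, b x = f x) ∧
      (∀ c ∈ centralizerIn S P, c⁻¹ * b c ∈ P) := by
  obtain ⟨b, h1, h2, h3⟩ := h
  have hb := extZ_fiso (fun x hx => hf.mem hx) h1 h2 h3
  have hP : FIso F P P b := fiso_restrict h1 le_sup_left fun x hx => by rw [h2 x hx]; exact hf.mem hx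
  have hbC : FIso F (centralizerIn S P) (centralizerIn S P) b := fiso_restrict h1 le_sup_right fun c hc =>
    ⟨h1.map_mem (Subgroup.mem_sup_right hc), hP.map_centralizer h1 le_sup_left (Subgroup.mem_sup_right hc) hc.2⟩
  obtain ⟨n, hn, hn'⟩ := hf.2
  obtain ⟨m, hm, hm'⟩ := exists_pp_power hb (X := P) hn (fun x hx => by
    rw [iter_congr h2 (fun y hy => by rw [h2 y hy]; exact hf.mem hy) hx]; exact hn' x hx)
  refine ⟨b^[m], hm, fun x hx => by rw [hm' x hx, h2 x hx], ?_⟩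
  intro c hc
  have h1 : ∀ j : ℕ, c⁻¹ * b^[j] c ∈ P := by
    intro j
    induction j with
    | zero => simp
    | succ j ih =>
      rw [Function.iterate_succ_apply']
      have h6 : b^[j] c ∈ centralizerIn S P := iter_mem hbC hc j
      have h5 : c⁻¹ * b (b^[j] c) = (c⁻¹ * b^[j] c) * ((b^[j] c)⁻¹ * b (b^[j] c)) := by group
      rw [h5]
      exact P.mul_mem ih (h3 _ h6)
  exact h1 m

theorem strongInv_sub {U : Subgroup Ω} {G : FusionSystem U} (h : StrongInv F E) (hs : G.IsSubsystemOf F) : StrongInv G E :=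
  fun P Q R f g h1 h2 h3 h4 h5 h6 => h P Q R f g h1 h2 h3 h4 (sub_fmap hs h5) h6

theorem stronglyClosed_sub {U : Subgroup Ω} {G : FusionSystem U} (hT : F.StronglyClosed T) (hs : G.IsSubsystemOf F)
    (hTU : T ≤ U) : G.StronglyClosed T := by
  rw [stronglyClosed_iff]
  exact ⟨hTU, fun P f hP hf x hx => StronglyClosed.map_mem F hT (sub_fmap hs hf) hx (hP hx)⟩

theorem tc_sub {U : Subgroup Ω} {G : FusionSystem U} (h : TC F T P) (hs : G.IsSubsystemOf F) : TC G T P :=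
  ⟨h.1, fun R hR => h.2 R (sub_isConj hs hR)⟩

theorem gx_of_normal [Finite S] [Fact p.Prime] (hS : IsPGroup p S) (hF : F.IsSaturated p)
    (hE : ∀ i, Inv (E' i) F) (hEs : ∀ i, (E' i).IsSaturated p) (hDs : D.IsSaturated p) (hD : Inv D F) (hDx : Ext D F)
    (hDE : ∀ i, Inv D (E' i)) (hDEx : ∀ i, Ext D (E' i)) (hTC : TC F T P) (ha : PP D p P a) : Gx F E' P a := by
  have hT := hD.closed
  have hPTi : ∀ i, P ≤ T' i := fun i => hTC.1.trans (hDE i).closed.1
  have haF : PP F p P a := pp_sub hD.sub ha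
  obtain ⟨b, hb, hb1, hb2⟩ := extZ_pp haF (extZ_all hS hF hDs hD hDx P a hTC ha.1)
  have hbP : FIso F P P b := fiso_restrict hb.map le_sup_left fun x hx => by rw [hb1 x hx]; exact ha.mem hx
  refine ⟨b, hb.map, hb1, hb2, fun i => ?_⟩
  have hTi := (hE i).closed
  have hTfin : Finite (T' i) := finite_of_le hTi.1
  have hTp : IsPGroup p (T' i) := isPGroup_of_le hS hTi.1
  have hPi := hPTi i
  obtain ⟨c, hc, hc1, hc2⟩ := extZ_all hTp (hEs i) hDs (hDE i) (hDEx i) P a (tc_sub hTC (hE i).sub) ha.1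
  have hci := extZ_fiso (fun x hx => ha.mem hx) hc hc1 hc2
  have hCi : centralizerIn (T' i) P ≤ centralizerIn S P := inf_le_inf_right _ hTi.1
  have hle : P ⊔ centralizerIn (T' i) P ≤ P ⊔ centralizerIn S P := sup_le_sup_left hCi P
  have hQiS : P ⊔ centralizerIn (T' i) P ≤ S := hle.trans hb.le
  have hbi : PP F p (P ⊔ centralizerIn (T' i) P) b := by
    refine hb.restrict hle (map_sup_mem (hb.map.restrict hle) (fun x hx => Subgroup.mem_sup_left (hbP.mem hx))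
      fun x hx => Subgroup.mem_sup_right ⟨StronglyClosed.map_mem F hTi hb.map (Subgroup.mem_sup_right (hCi hx)) hx.1, ?_⟩)
    exact hbP.map_centralizer hb.map le_sup_left (Subgroup.mem_sup_right (hCi hx)) hx.2
  have hcF : FIso F (P ⊔ centralizerIn (T' i) P) (P ⊔ centralizerIn (T' i) P) c := sub_fiso (hE i).sub hci
  have hnC : ∀ x ∈ centralizerIn (T' i) P, x ∈ Subgroup.normalizer (P : Set Ω) := fun x hx =>
    (centralizerIn_le_normalizerIn _ P hx).2
  have m1 := move_sup (F := F) (P := P) (Q := centralizerIn (T' i) P) hbi.map (fun x hx => hbP.mem hx)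
    (fun x hx => hb2 x (hCi hx)) hnC
  have m2 := move_sup (F := F) (P := P) (Q := centralizerIn (T' i) P) hcF.1 (fun x hx => by rw [hc1 x hx]; exact ha.mem hx)
    (fun x hx => hc2 x hx) hnC
  have hA : InA (fun X => (E' i).autGroup X) (P ⊔ centralizerIn (T' i) P) b := by
    refine inA_of_agree (F := F) hS hQiS ?_ le_sup_left hbi hcF ?_ (fun x hx => by rw [hc1 x hx]; exact ha.mem hx)
      (fun x hx => by rw [hc1 x hx, hb1 x hx]) (fun x hx => ?_)
    · exact StrongInv.autGroup_normal (FusionFrat.Inv.strong (hE i)) hTi.1 (sup_le hPi (centralizerIn_le _ P))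
    · exact ⟨hci.equiv, hci.equiv_mem_autGroup, fun x hx => by rw [autFun_of_mem _ hx]; rfl⟩
    · have := P.mul_mem (P.inv_mem (m2 x hx)) (m1 x hx)
      rwa [show (x⁻¹ * c x)⁻¹ * (x⁻¹ * b x) = (c x)⁻¹ * b x by group] at this
  obtain ⟨β, hβ, h3⟩ := hA
  exact ((fiso_autFun_iff (sup_le hPi (centralizerIn_le _ P))).2 hβ).1.congr fun x hx => (h3 x hx).symm

theorem symm_fmap {V : Subgroup Ω} {G : FusionSystem V} (h1 : FIso E P Q f) (h2 : FMap G P f) (h4 : ∀ x ∈ P, g (f x) = x) : FMap G Q g := by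
  obtain ⟨g', hg', e1, e2⟩ := (show FIso G P Q f from ⟨h2, h1.2⟩).symm
  refine hg'.1.congr fun y hy => ?_
  obtain ⟨x, hx, rfl⟩ := h1.mem_iff.1 hy
  rw [e1 x hx, h4 x hx]

/-- the meet, as a system -/
noncomputable def meetSys (F : FusionSystem S) (E' : ∀ i, FusionSystem (T' i)) (T : Subgroup Ω) (p : ℕ) (hT : T ≤ S) :
    FusionSystem T := sysA F T (AM F E' T p) hT

theorem meet_gx [Finite S] [Fact p.Prime] (hS : IsPGroup p S) (hF : F.IsSaturated p) (hE : ∀ i, Inv (E' i) F)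
    (hEs : ∀ i, (E' i).IsSaturated p) (hT' : ∀ x, x ∈ T ↔ x ∈ S ∧ ∀ i, x ∈ T' i) (hTS : T ≤ S) (hTC : TC F T P)
    (hP : F.IsFullyCentralized P) (hf : FIso (meetSys F E' T p hTS) P P f) : Gx F E' P f :=
  gx_of_inA hS hF hE hT' hTC hP ((Cfsg.Agent.Lib.FusionThmB.inA_iff hS hF (inter_closed hE hT')
    (am_fam hS hF hE hEs hT') hTC).2 hf)

theorem meet_le [Finite S] [Fact p.Prime] (hS : IsPGroup p S) (hF : F.IsSaturated p) (hE : ∀ i, Inv (E' i) F)
    (hEs : ∀ i, (E' i).IsSaturated p) (hT' : ∀ x, x ∈ T ↔ x ∈ S ∧ ∀ i, x ∈ T' i) (hTS : T ≤ S) (i : ι) :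
    (meetSys F E' T p hTS).IsSubsystemOf (E' i) := by
  have hT := inter_closed hE hT'
  have hfam := am_fam hS hF hE hEs hT'
  have hTTi : ∀ i, T ≤ T' i := fun i x hx => ((hT' x).1 hx).2 i
  rw [isSubsystemOf_iff]
  unfold meetSys
  refine genSys_induction (Cfsg.Agent.Lib.FusionThmB.gn_data hfam hT.1) (fun P f => FMap (E' i) P f) ?_ ?_ ?_ ?_ ?_
  · rintro P f ⟨hP, hf⟩
    obtain ⟨Q, hPQ, hQ⟩ := exists_fullyNormalized_conj F (hP.1.trans hT.1)
    obtain ⟨u, hu⟩ := isConj_iff_fiso.1 hPQ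
    obtain ⟨v, hv, v1, v2⟩ := hu.symm
    have hQTC := hP.conj hT hPQ
    have hQc : F.IsFullyCentralized Q := isFullyCentralized_of_receptive (receptive_of_fullyNormalized hS hF hQ)
    have hQi : Q ≤ T' i := hQTC.1.trans (hTTi i)
    have h1 : InA (AM F E' T p) Q (fun y => u (f (v y))) := inA_am hu v1 hf
    obtain ⟨b, -, h2, -, h3⟩ := gx_of_inA hS hF hE hT' hQTC hQc h1
    have hTifin : Finite (T' i) := finite_of_le (hE i).closed.1
    have hbm : ∀ x ∈ Q, b x ∈ Q := fun x hx => by rw [h2 x hx]; exact hu.mem (hf.mem (hv.mem hx))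
    have hbQ : FIso (E' i) Q Q b := fiso_restrict (h3 i) le_sup_left hbm
    refine ((FusionFrat.Inv.strong (hE i)).transport hQi hv v2 hbQ).congr fun x hx => ?_
    rw [h2 _ (hu.mem hx)]
    show v (u (f (v (u x)))) = f x
    rw [v1 x hx, v1 _ (hf.mem hx)]
  · exact fun P s hP hs => fmap_conj (E' i) (hP.trans (hTTi i)) (hTTi i hs)
  · exact fun P Q f g _ h1 _ h2 h3 => h1.comp h2 h3
  · exact fun P Q f g h1 h2 h3 h4 h5 => symm_fmap h1 h2 h4
  · exact fun P f g _ h1 h2 => h1.congr h2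

theorem meet_max_pp [Finite S] [Fact p.Prime] (hS : IsPGroup p S) (hF : F.IsSaturated p) (hE : ∀ i, Inv (E' i) F)
    (hEs : ∀ i, (E' i).IsSaturated p) (hT' : ∀ x, x ∈ T ↔ x ∈ S ∧ ∀ i, x ∈ T' i) (hTS : T ≤ S)
    (hDs' : D.IsSaturated p) (hDi' : Inv D F) (hDx' : Ext D F)
    (h2 : ∀ i, D.IsNormalIn (E' i) p) (hPTC : TC F T P) (hf : PP D p P f) : FMap (meetSys F E' T p hTS) P f := by
  have hT := inter_closed hE hT'
  have hfam := am_fam hS hF hE hEs hT'
  obtain ⟨Q, hPQ, hQ⟩ := exists_fullyNormalized_conj F (hPTC.1.trans hT.1)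
  obtain ⟨u, hu⟩ := isConj_iff_fiso.1 hPQ
  obtain ⟨v, hv, v1, v2⟩ := hu.symm
  have hQTC := hPTC.conj hT hPQ
  have hQc : F.IsFullyCentralized Q := isFullyCentralized_of_receptive (receptive_of_fullyNormalized hS hF hQ)
  have h3 : FMap D Q (fun y => u (f (v y))) := (FusionFrat.Inv.strong hDi').transport hPTC.1 hu v1 hf.1
  have h4 : PP F p Q (fun y => u (f (v y))) := (pp_sub hDi'.sub hf).transport hu hv v1 v2
  have h5 : PP D p Q (fun y => u (f (v y))) := ⟨⟨h3, h4.1.2⟩, h4.2⟩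
  have h6 := gx_of_normal hS hF hE hEs hDs' hDi' hDx' (fun i => (isNormalIn_iff.1 (h2 i)).2.2.1)
    (fun i => (isNormalIn_iff.1 (h2 i)).2.2.2) hQTC h5
  have h7 : InA (AM F E' T p) Q (fun y => u (f (v y))) := inA_of_gx hQc h4 h6
  have h8 : InA (AM F E' T p) P (fun y => v ((fun y => u (f (v y))) (u y))) := inA_am (g := u) hv v2 h7
  have h9 : InA (AM F E' T p) P f := h8.congr fun x hx => by
    show v (u (f (v (u x)))) = f x
    rw [v1 x hx, v1 _ (hf.mem hx)]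
  exact Cfsg.Agent.Lib.FusionThmB.sysA_base hfam hPTC h9

theorem meet_max [Finite S] [Fact p.Prime] (hS : IsPGroup p S) (hF : F.IsSaturated p) (hE : ∀ i, Inv (E' i) F)
    (hEs : ∀ i, (E' i).IsSaturated p) (hT' : ∀ x, x ∈ T ↔ x ∈ S ∧ ∀ i, x ∈ T' i) (hTS : T ≤ S)
    (h1 : D.IsNormalIn F p) (h2 : ∀ i, D.IsNormalIn (E' i) p) : D.IsSubsystemOf (meetSys F E' T p hTS) := by
  have hT := inter_closed hE hT'
  obtain ⟨hDs', -, hDi', hDx'⟩ := isNormalIn_iff.1 h1
  have hTfin : Finite T := finite_of_le hT.1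
  have hTp : IsPGroup p T := isPGroup_of_le hS hT.1
  have hpp := fun P f (hP : TC F T P) (hf : PP D p P f) => meet_max_pp hS hF hE hEs hT' hTS hDs' hDi' hDx' h2 hP hf
  rw [isSubsystemOf_iff]
  generalize meetSys F E' T p hTS = M at *
  refine alperin_induction_cr hTp hDs' (fun P f => FMap M P f) (fun P f g _ h3 h4 => h3.congr h4)
    (fun P s hP hs => fmap_conj _ hP hs) (fun P Q f g _ h3 _ h4 h5 => h3.comp h4 h5)
    (fun P Q f g h1 h2 h3 h4 h5 => symm_fmap h1 h2 h4) ?_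
  intro P a hPn hPc hPr ha
  have hPTC : TC F T P := (centric_iff_tc hDi').1 hPc
  have hPa := fullyAutomized_of_fullyNormalized hTp hDs' hPn
  exact fiso_induction hPa (fun f => FMap M P f) (fun f g h3 h4 => h3.congr h4)
    (fun s hs => fmap_conj _ hPTC.1 hs.1) (fun f g h3 h4 h5 h6 => h5.comp h6 fun x hx => h3.mem hx)
    (fun f g h1 h2 h3 h4 h5 => symm_fmap h1 h3 h4) (fun f hf => hpp P f hPTC hf) a ha

theorem meet_sat [Finite S] [Fact p.Prime] (hS : IsPGroup p S) (hF : F.IsSaturated p) (hE : ∀ i, Inv (E' i) F)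
    (hEs : ∀ i, (E' i).IsSaturated p) (hT' : ∀ x, x ∈ T ↔ x ∈ S ∧ ∀ i, x ∈ T' i) (hTS : T ≤ S) :
    (meetSys F E' T p hTS).IsSaturated p :=
  Cfsg.Agent.Lib.FusionThmB.sysA_saturated hS hF (inter_closed hE hT') (am_fam hS hF hE hEs hT')

theorem meet_inv [Finite S] [Fact p.Prime] (hS : IsPGroup p S) (hF : F.IsSaturated p) (hE : ∀ i, Inv (E' i) F)
    (hEs : ∀ i, (E' i).IsSaturated p) (hT' : ∀ x, x ∈ T ↔ x ∈ S ∧ ∀ i, x ∈ T' i) (hTS : T ≤ S) :
    Inv (meetSys F E' T p hTS) F :=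
  Cfsg.Agent.Lib.FusionThmB.sysA_inv hS hF (inter_closed hE hT') (am_fam hS hF hE hEs hT')

/-- the meet of a family of normal subsystems -/
theorem meet [Finite S] [Fact p.Prime] (hS : IsPGroup p S) (hF : F.IsSaturated p) (hE : ∀ i, Inv (E' i) F)
    (hEs : ∀ i, (E' i).IsSaturated p) (hT' : ∀ x, x ∈ T ↔ x ∈ S ∧ ∀ i, x ∈ T' i) :
    ∃ D : FusionSystem T, D.IsNormalIn F p ∧ (∀ i, D.IsNormalIn (E' i) p) ∧
      ∀ D' : FusionSystem T, D'.IsNormalIn F p → (∀ i, D'.IsNormalIn (E' i) p) → D'.IsSubsystemOf D := by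
  have hT := inter_closed hE hT'
  have hTfn : F.IsFullyNormalized T := fullyNormalized_of_stronglyClosed hT
  have hTc : F.IsFullyCentralized T := isFullyCentralized_of_receptive (receptive_of_fullyNormalized hS hF hTfn)
  have hTTC : TC F T T := tc_self hT
  have hTTi : ∀ i, T ≤ T' i := fun i x hx => ((hT' x).1 hx).2 i
  have hmax := fun (D' : FusionSystem T) h1 h2 => meet_max (D := D') hS hF hE hEs hT' hT.1 h1 h2
  have hDs := meet_sat hS hF hE hEs hT' hT.1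
  have hDi := meet_inv hS hF hE hEs hT' hT.1
  have hDE := meet_le hS hF hE hEs hT' hT.1
  have hgx : ∀ f, FIso (meetSys F E' T p hT.1) T T f → Gx F E' T f := fun f hf => meet_gx hS hF hE hEs hT' hT.1 hTTC hTc hf
  generalize meetSys F E' T p hT.1 = D at *
  -- normality in `F`
  have hDn : D.IsNormalIn F p := by
    refine isNormalIn_iff.2 ⟨hDs, hF, hDi, ext_of_pp hS hF hDs hDi fun f hf => ?_⟩
    obtain ⟨b, h1, h2, h3, -⟩ := hgx f hf.1
    exact ⟨b, h1, h2, h3⟩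
  have hDEi : ∀ i, Inv D (E' i) := fun i => by
    have hTifin : Finite (T' i) := finite_of_le (hE i).closed.1
    exact StrongInv.inv (isPGroup_of_le hS (hE i).closed.1) (hEs i)
      (stronglyClosed_sub hT (hE i).sub (hTTi i)) (hDE i) (strongInv_sub (FusionFrat.Inv.strong hDi) (hE i).sub)
  have hDEn : ∀ i, D.IsNormalIn (E' i) p := by
    intro i
    have hTifin : Finite (T' i) := finite_of_le (hE i).closed.1
    refine isNormalIn_iff.2 ⟨hDs, hEs i, hDEi i, ext_of_pp (isPGroup_of_le hS (hE i).closed.1) (hEs i) hDs (hDEi i)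
      fun f hf => ?_⟩
    obtain ⟨b, h1, h2, h3, h4⟩ := hgx f hf.1
    exact ⟨b, h4 i, h2, fun c hc => h3 c ⟨(hE i).closed.1 hc.1, hc.2⟩⟩
  exact ⟨D, hDn, hDEn, hmax⟩

end Cfsg.Agent.Lib.FusionMeet5
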