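import Mathlib
import Cfsg.Agent.Lib.FusionCP
import Cfsg.Agent.Lib.FusionMeet5

/-!
Central products of normal subsystems are normal.
-/

set_option autoImplicit false
open Cfsg Cfsg.FusionSystem Cfsg.Agent.Lib.FusionBasic Cfsg.Agent.Lib.FusionSat Cfsg.Agent.Lib.FusionNormal
  Cfsg.Agent.Lib.FusionInvar Cfsg.Agent.Lib.FusionTools Cfsg.Agent.Lib.FusionPP Cfsg.Agent.Lib.FusionStrong
  Cfsg.Agent.Lib.FusionSys Cfsg.Agent.Lib.FusionFrat Cfsg.Agent.Lib.FusionPrime Cfsg.Agent.Lib.FusionTC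
  Cfsg.Agent.Lib.FusionClosed Cfsg.Agent.Lib.FusionStab Cfsg.Agent.Lib.FusionZeta Cfsg.Agent.Lib.FusionDich
  Cfsg.Agent.Lib.FusionCP
open Cfsg.Agent.Lib.FusionFocal (fix_of_isCentral)
open Cfsg.Agent.Lib.FusionThmA (tc_of_fullyNormalized)
open Cfsg.Agent.Lib.FusionCenNormal (tc_self ext_of_pp)
open Cfsg.Agent.Lib.FusionMeet5 (extZ_pp)
open scoped commutatorElement

namespace Cfsg.Agent.Lib.FusionCP2

variable {Ω : Type*} [Group Ω] {S T T₁ T₂ K U W : Subgroup Ω} {F : FusionSystem S} {E₁ : FusionSystem T₁} {E₂ : FusionSystem T₂}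
  {D : FusionSystem T} {C : FusionSystem K} {P Q R M X Y Z N : Subgroup Ω} {a b f g k σ f₁ f₂ κ : Ω → Ω} {p : ℕ} {u v : Ω}

theorem comm_le (hc : Comm T₁ T₂) (hT₂ : T₂ ≤ S) : T₂ ≤ centralizerIn S T₁ := fun y hy =>
  ⟨hT₂ hy, mem_centralizer_iff'.2 fun x hx => by rw [← hc x hx y hy]; group⟩

theorem comm_of_bracket (h : ⁅T₁, T₂⁆ = ⊥) : Comm T₁ T₂ := by
  intro x hx y hy
  have h1 : ⁅x, y⁆ ∈ ⁅T₁, T₂⁆ := Subgroup.commutator_mem_commutator hx hy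
  rw [h, Subgroup.mem_bot, commutatorElement_def] at h1
  calc x * y = (x * y * x⁻¹ * y⁻¹) * (y * x) := by group
    _ = y * x := by rw [h1, one_mul]

/-- a normal subsystem commutes with a strongly closed subgroup commuting with its group and meeting it in its centre -/
theorem cen_of_central [Finite S] [Fact p.Prime] (hS : IsPGroup p S) (hF : F.IsSaturated p) (hE₁ : E₁.IsNormalIn F p)
    (hT₂ : F.StronglyClosed T₂) (hc : Comm T₁ T₂) (c₁ : E₁.IsCentral (T₁ ⊓ T₂)) : Cen F E₁ T₂ := by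
  obtain ⟨hEs, -, hE, hx⟩ := isNormalIn_iff.1 hE₁
  have hT := hE.closed
  refine cen_of_fixed hS hF hEs hE hx (comm_le hc hT₂.1) (fun b hb y hy => ?_) fun P a hTC hPn haE haPP haP hac y hy => ?_
  · exact StronglyClosed.map_mem F hT₂ hb.1 (Subgroup.mem_sup_right (comm_le hc hT₂.1 hy)) hy
  · have hPT := hTC.1
    have hyC : y ∈ centralizerIn S P := ⟨hT₂.1 hy, mem_centralizer_iff'.2 fun x hx => by rw [← hc x (hPT hx) y hy]; group⟩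
    have hyM : y ∈ P ⊔ centralizerIn S P := Subgroup.mem_sup_right hyC
    have hle : T₁ ⊓ T₂ ≤ P := fun z hz => hTC.cent hT ⟨hz.1, mem_centralizer_iff'.2 fun x hx => by
      rw [← hc x (hPT hx) z hz.2]; group⟩
    refine haPP.fix hS (Y := T₁ ⊓ T₂) (hle.trans le_sup_left) hyM ⟨hPT (hac y hyC), ?_⟩ fun z hz => ?_
    · exact mul_mem (T₂.inv_mem hy) (StronglyClosed.map_mem F hT₂ haPP.map hyM hy)
    · exact fix_of_isCentral c₁ haE (hle hz) hz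

theorem cp_sub (h : CP E₁ E₂ D) (h₁ : Cen F E₁ T₂) (h₂ : Cen F E₂ T₁) : D.IsSubsystemOf F := by
  refine isSubsystemOf_iff.2 fun P f hf => ?_
  obtain ⟨hP, f₁, f₂, hf₁, hf₂, h3⟩ := (h.map P f).1 hf
  have hP' : P ≤ T₁ ⊔ T₂ := h.top ▸ hP
  have hP'' : P ≤ T₂ ⊔ T₁ := by rwa [sup_comm]
  obtain ⟨g₁, hg₁, a1, a2⟩ := h₁.2 _ _ hf₁
  obtain ⟨g₂, hg₂, b1, b2⟩ := h₂.2 _ _ hf₂
  have hmem : ∀ w ∈ P, ∃ x ∈ T₁, ∃ y ∈ T₂, x * y = w ∧ x ∈ q1 T₁ T₂ P ∧ y ∈ q1 T₂ T₁ P := by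
    intro w hw
    obtain ⟨x, hx, y, hy, rfl⟩ := (mem_sup_comm h.comm).1 (hP' hw)
    exact ⟨x, hx, y, hy, rfl, (mem_q1 h.comm hP').2 ⟨hx, y, hy, hw⟩,
      (mem_q1 h.comm.symm hP'').2 ⟨hy, x, hx, by rwa [← h.comm x hx y hy]⟩⟩
  have hPle : P ≤ q1 T₁ T₂ P ⊔ T₂ := fun w hw => by
    obtain ⟨x, hx, y, hy, rfl, h4, h5⟩ := hmem w hw
    exact mul_mem (Subgroup.mem_sup_left h4) (Subgroup.mem_sup_right hy)
  have hval : ∀ x ∈ q1 T₁ T₂ P, ∀ y ∈ T₂, g₁ (x * y) = f₁ x * y := fun x hx y hy => by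
    rw [hg₁.map_mul (Subgroup.mem_sup_left hx) (Subgroup.mem_sup_right hy), a1 x hx, a2 y hy]
  have hval2 : ∀ x ∈ T₁, ∀ y ∈ q1 T₂ T₁ P, g₂ (x * y) = x * f₂ y := fun x hx y hy => by
    rw [hg₂.map_mul (Subgroup.mem_sup_right hx) (Subgroup.mem_sup_left hy), b1 y hy, b2 x hx]
  refine ((hg₁.restrict hPle).comp hg₂ fun w hw => ?_).congr fun w hw => ?_
  · obtain ⟨x, hx, y, hy, rfl, h4, h5⟩ := hmem w hw
    rw [hval x h4 y hy]
    exact mul_mem (Subgroup.mem_sup_right (hf₁.map_mem h4)) (Subgroup.mem_sup_left h5)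
  · obtain ⟨x, hx, y, hy, rfl, h4, h5⟩ := hmem w hw
    show g₂ (g₁ (x * y)) = f (x * y)
    rw [hval x h4 y hy, hval2 _ (hf₁.map_mem h4) y h5, h3 x hx y hy hw]

/-! ### Conjugation-type maps modulo a subgroup -/

def Cg (R : Subgroup Ω) (u : Ω) (P : Subgroup Ω) (κ : Ω → Ω) : Prop := ∀ x ∈ P, (κ x)⁻¹ * (u * x * u⁻¹) ∈ R

theorem cg_comp (hR : F.StronglyClosed R) (hκ : FIso F P P κ) (hl : FIso F P P f) (hv : v ∈ P)
    (h1 : Cg R u P κ) (h2 : Cg R v P f) : Cg R (u * v) P (fun x => κ (f x)) := by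
  intro x hx
  have hvx : v * x * v⁻¹ ∈ P := mul_mem (mul_mem hv hx) (P.inv_mem hv)
  have hfx := hl.mem hx
  obtain ⟨r, hr⟩ : ∃ r, r = (f x)⁻¹ * (v * x * v⁻¹) := ⟨_, rfl⟩
  have hrR : r ∈ R := hr ▸ h2 x hx
  have hrP : r ∈ P := hr ▸ mul_mem (P.inv_mem hfx) hvx
  have e1 : f x = (v * x * v⁻¹) * r⁻¹ := by rw [hr]; group
  have e2 : κ (f x) = κ (v * x * v⁻¹) * (κ r)⁻¹ := by rw [e1, hκ.1.map_mul hvx (P.inv_mem hrP), hκ.1.map_inv hrP]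
  have h3 := h1 _ hvx
  show (κ (f x))⁻¹ * (u * v * x * (u * v)⁻¹) ∈ R
  have e3 : (κ (f x))⁻¹ * (u * v * x * (u * v)⁻¹) = κ r * ((κ (v * x * v⁻¹))⁻¹ * (u * (v * x * v⁻¹) * u⁻¹)) := by
    rw [e2]; group
  rw [e3]
  exact mul_mem (StronglyClosed.map_mem F hR hκ.1 hrP hrR) h3

theorem cg_inv (hR : F.StronglyClosed R) (hκ' : ∀ x ∈ P, f x ∈ P) (hfκ : ∀ x ∈ P, κ (f x) = x)
    (hu : u ∈ S) (h1 : Cg R u P κ) : Cg R u⁻¹ P f := by
  intro x hx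
  have h2 := h1 _ (hκ' x hx)
  rw [hfκ x hx] at h2
  have hn := normalizes_of_stronglyClosed hR (S.inv_mem hu)
  have h3 := (Subgroup.mem_normalizer_iff.1 hn _).1 (R.inv_mem h2)
  have e : (f x)⁻¹ * (u⁻¹ * x * u⁻¹⁻¹) = u⁻¹ * (x⁻¹ * (u * f x * u⁻¹))⁻¹ * u⁻¹⁻¹ := by group
  rw [e]; exact h3

theorem cg_conj (hR : F.StronglyClosed R) {α α' : Ω → Ω} (hα : FIso F P P α) (hα' : ∀ x ∈ P, α' x ∈ P)
    (e : ∀ x ∈ P, α (α' x) = x) (hκ : ∀ x ∈ P, κ x ∈ P) (hu : u ∈ P) (h1 : Cg R u P κ) :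
    Cg R (α u) P (fun x => α (κ (α' x))) := by
  intro x hx
  have hy := hα' x hx
  have h2 := h1 _ hy
  have h3 : (κ (α' x))⁻¹ * (u * α' x * u⁻¹) ∈ P :=
    mul_mem (P.inv_mem (hκ _ hy)) (mul_mem (mul_mem hu hy) (P.inv_mem hu))
  have h4 := StronglyClosed.map_mem F hR hα.1 h3 h2
  rw [hα.1.map_mul (P.inv_mem (hκ _ hy)) (mul_mem (mul_mem hu hy) (P.inv_mem hu)), hα.1.map_inv (hκ _ hy),
    hα.1.map_conj hu hy, e x hx] at h4
  exact h4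

theorem cg_iter (hR : F.StronglyClosed R) (hκ : FIso F P P κ) (hu : u ∈ P) (h1 : Cg R u P κ) :
    ∀ n : ℕ, Cg R (u ^ n) P (κ^[n])
  | 0 => fun x hx => by
    show x⁻¹ * (u ^ 0 * x * (u ^ 0)⁻¹) ∈ R
    rw [pow_zero]; simp
  | n + 1 => by
    have h2 := cg_comp hR (fiso_iter hκ n) hκ hu (cg_iter hR hκ hu h1 n) h1
    rw [pow_succ]
    exact h2

theorem cg_pp [Finite S] [Fact p.Prime] (hS : IsPGroup p S) (hR : F.StronglyClosed R) (hκ : PP F p P κ) (hu : u ∈ P)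
    (h1 : Cg R u P κ) {x : Ω} (hx : x ∈ P) : x⁻¹ * κ x ∈ R := by
  obtain ⟨hi, n, hn, h2⟩ := id hκ
  have hPS := hκ.le
  have h3 : Cg R (u ^ n) P (fun x => x) := fun y hy => by
    have := cg_iter hR hi hu h1 n y hy
    rwa [h2 y hy] at this
  obtain ⟨m, hm⟩ := hS ⟨u, hPS hu⟩
  have hm' : u ^ p ^ m = 1 := congrArg Subtype.val hm
  have hcop : (orderOf u).Coprime n := by
    refine Nat.Coprime.coprime_dvd_left (orderOf_dvd_of_pow_eq_one hm') ?_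
    exact Nat.Coprime.pow_left m ((Nat.Prime.coprime_iff_not_dvd Fact.out).2 hn)
  obtain ⟨j, hj⟩ := exists_pow_eq_self_of_coprime hcop.symm
  have hid : ∀ k : ℕ, Cg R ((u ^ n) ^ k) P (fun x => x) := by
    intro k
    induction k with
    | zero => intro y hy; simp
    | succ k ih =>
      have := cg_comp hR (FIso.refl F hPS) (FIso.refl F hPS) (pow_mem hu n) ih h3
      rw [pow_succ]
      exact this
  have h4 := hid j
  rw [hj] at h4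
  have h5 := h1 x hx
  have h6 := mul_mem (h4 x hx) (R.inv_mem h5)
  have e : x⁻¹ * (u * x * u⁻¹) * ((κ x)⁻¹ * (u * x * u⁻¹))⁻¹ = x⁻¹ * κ x := by group
  rwa [e] at h6

/-- the automorphisms that are inner modulo `T₁` and modulo `T₂` and trivial on `T₁ ∩ T₂` -/
def Ki (F : FusionSystem S) [Finite S] (h₁ : F.StronglyClosed T₁) (h₂ : F.StronglyClosed T₂) (P : Subgroup Ω) (hPS : P ≤ S) :
    Subgroup (MulAut P) where
  carrier := {κ | κ ∈ F.autGroup P ∧ (∃ u ∈ P, Cg T₂ u P (autFun κ)) ∧ (∃ v ∈ P, Cg T₁ v P (autFun κ)) ∧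
    ∀ z ∈ T₁ ⊓ T₂, z ∈ P → autFun κ z = z}
  one_mem' := ⟨one_mem _, ⟨1, one_mem _, fun x hx => by rw [autFun_one hx]; simp⟩,
    ⟨1, one_mem _, fun x hx => by rw [autFun_one hx]; simp⟩, fun z _ hz => autFun_one hz⟩
  mul_mem' := by
    rintro α β ⟨h1, ⟨u, hu, hu'⟩, ⟨v, hv, hv'⟩, h4⟩ ⟨k1, ⟨u₂, hu₂, hu₂'⟩, ⟨v₂, hv₂, hv₂'⟩, k4⟩
    have hα := (fiso_autFun_iff hPS).2 h1
    have hβ := (fiso_autFun_iff hPS).2 k1
    refine ⟨mul_mem h1 k1, ⟨u * u₂, mul_mem hu hu₂, fun x hx => ?_⟩, ⟨v * v₂, mul_mem hv hv₂, fun x hx => ?_⟩,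
      fun z hz hzP => ?_⟩
    · rw [autFun_mul _ _ hx]; exact cg_comp h₂ hα hβ hu₂ hu' hu₂' x hx
    · rw [autFun_mul _ _ hx]; exact cg_comp h₁ hα hβ hv₂ hv' hv₂' x hx
    · rw [autFun_mul _ _ hzP, k4 z hz hzP, h4 z hz hzP]
  inv_mem' := by
    rintro α ⟨h1, ⟨u, hu, hu'⟩, ⟨v, hv, hv'⟩, h4⟩
    refine ⟨inv_mem h1, ⟨u⁻¹, P.inv_mem hu, ?_⟩, ⟨v⁻¹, P.inv_mem hv, ?_⟩, fun z hz hzP => ?_⟩
    · exact cg_inv h₂ (fun x hx => autFun_mem _ hx) (fun x hx => autFun_apply_inv α hx) (hPS hu) hu'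
    · exact cg_inv h₁ (fun x hx => autFun_mem _ hx) (fun x hx => autFun_apply_inv α hx) (hPS hv) hv'
    · have := autFun_inv_apply α hzP
      rwa [h4 z hz hzP] at this

theorem ki_normal [Finite S] (h₁ : F.StronglyClosed T₁) (h₂ : F.StronglyClosed T₂) {hPS : P ≤ S} :
    ∀ α ∈ F.autGroup P, ∀ κ ∈ Ki F h₁ h₂ P hPS, α * κ * α⁻¹ ∈ Ki F h₁ h₂ P hPS := by
  rintro α hα κ ⟨h1, ⟨u, hu, hu'⟩, ⟨v, hv, hv'⟩, h4⟩
  have hαi := (fiso_autFun_iff hPS).2 hα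
  refine ⟨mul_mem (mul_mem hα h1) (inv_mem hα), ⟨autFun α u, autFun_mem α hu, fun x hx => ?_⟩,
    ⟨autFun α v, autFun_mem α hv, fun x hx => ?_⟩, fun z hz hzP => ?_⟩
  · rw [mul_assoc, autFun_mul _ _ hx, autFun_mul _ _ hx]
    exact cg_conj h₂ hαi (fun x hx => autFun_mem _ hx) (fun x hx => autFun_apply_inv α hx) (fun x hx => autFun_mem _ hx) hu hu' x hx
  · rw [mul_assoc, autFun_mul _ _ hx, autFun_mul _ _ hx]
    exact cg_conj h₁ hαi (fun x hx => autFun_mem _ hx) (fun x hx => autFun_apply_inv α hx) (fun x hx => autFun_mem _ hx) hv hv' x hx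
  · have hαi' := (fiso_autFun_iff hPS).2 (inv_mem hα : α⁻¹ ∈ F.autGroup P)
    have hz' : autFun α⁻¹ z ∈ T₁ ⊓ T₂ :=
      ⟨StronglyClosed.map_mem F h₁ hαi'.1 hzP hz.1, StronglyClosed.map_mem F h₂ hαi'.1 hzP hz.2⟩
    rw [mul_assoc, autFun_mul _ _ hzP, autFun_mul _ _ hzP, h4 _ hz' (autFun_mem _ hzP), autFun_apply_inv α hzP]

theorem ki_le [Finite S] [Fact p.Prime] (hS : IsPGroup p S) (hF : F.IsSaturated p) (h₁ : F.StronglyClosed T₁)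
    (h₂ : F.StronglyClosed T₂) (hPT : T₁ ⊓ T₂ ≤ P) (hP : F.IsFullyNormalized P) : Ki F h₁ h₂ P hP.1 ≤ autInducedBy S P := by
  refine le_autInducedBy_of_pp (fullyAutomized_of_fullyNormalized hS hF hP) (fun κ hκ => hκ.1) (ki_normal h₁ h₂) ?_
  · rintro κ ⟨h1, ⟨u, hu, hu'⟩, ⟨v, hv, hv'⟩, h4⟩ hpp
    refine eq_one_of_autFun fun x hx => ?_
    refine hpp.fix hS hPT hx ⟨?_, ?_⟩ fun z hz => h4 z hz (hPT hz)
    · exact cg_pp hS h₁ hpp hv hv' hx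
    · exact cg_pp hS h₂ hpp hu hu' hx

theorem cp_conjInv [Finite S] (h : CP E₁ E₂ D) (h₁ : Inv E₁ F) (h₂ : Inv E₂ F) : ConjInv F D := by
  intro P Q a f ha hf hQ
  obtain ⟨a', ha', e1, e2⟩ := ha.symm
  obtain ⟨hP, f₁, f₂, hf₁, hf₂, h3⟩ := (h.map P f).1 hf
  have hP' : P ≤ T₁ ⊔ T₂ := h.top ▸ hP
  have hP'' : P ≤ T₂ ⊔ T₁ := by rwa [sup_comm]
  have hQT : Q ≤ T := fun y hy => by
    obtain ⟨x, hx, rfl⟩ := (hQ y).1 hy
    exact ha.mem (hP hx)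
  have hQ' : Q ≤ T₁ ⊔ T₂ := h.top ▸ hQT
  have hQ'' : Q ≤ T₂ ⊔ T₁ := by rwa [sup_comm]
  have ha₁ : FIso F T₁ T₁ a := fiso_restrict ha.1 h.le1 fun x hx => StronglyClosed.map_mem F h₁.closed ha.1 (h.le1 hx) hx
  have ha₂ : FIso F T₂ T₂ a := fiso_restrict ha.1 h.le2 fun x hx => StronglyClosed.map_mem F h₂.closed ha.1 (h.le2 hx) hx
  obtain ⟨Q₁, hQ₁⟩ := (ha₁.1.restrict (q1_le (T₂ := T₂) (P := P))).exists_iso
  obtain ⟨Q₂, hQ₂⟩ := (ha₂.1.restrict (q1_le (T₁ := T₂) (T₂ := T₁) (P := P))).exists_iso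
  obtain ⟨g₁, hg₁, k1⟩ := h₁.conj ha₁ hf₁ (fun y => hQ₁.mem_iff)
  obtain ⟨g₂, hg₂, k2⟩ := h₂.conj ha₂ hf₂ (fun y => hQ₂.mem_iff)
  have hdec : ∀ x ∈ T₁, ∀ y ∈ T₂, x * y ∈ Q → a' x ∈ T₁ ∧ a' y ∈ T₂ ∧ a' x * a' y ∈ P ∧ a' (x * y) = a' x * a' y := by
    intro x hx y hy hxy
    have hx' := StronglyClosed.map_mem F h₁.closed ha'.1 (h.le1 hx) hx
    have hy' := StronglyClosed.map_mem F h₂.closed ha'.1 (h.le2 hy) hy
    have h4 := ha'.1.map_mul (h.le1 hx) (h.le2 hy)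
    refine ⟨hx', hy', ?_, h4⟩
    rw [← h4]
    obtain ⟨w, hw, hwe⟩ := (hQ _).1 hxy
    rw [← hwe, e1 w (hP hw)]; exact hw
  refine ⟨fun y => a (f (a' y)), (h.map _ _).2 ⟨hQT, g₁, g₂, hg₁.restrict fun x hx => ?_, hg₂.restrict fun y hy => ?_,
    fun x hx y hy hxy => ?_⟩, fun x hx => ?_⟩
  · obtain ⟨hx1, y, hy, hxy⟩ := (mem_q1 h.comm hQ').1 hx
    obtain ⟨m1, m2, m3, m4⟩ := hdec x hx1 y hy hxy
    rw [← e2 x (h.le1 hx1)]
    exact hQ₁.mem ((mem_q1 h.comm hP').2 ⟨m1, _, m2, m3⟩)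
  · obtain ⟨hy1, x, hx, hyx⟩ := (mem_q1 h.comm.symm hQ'').1 hy
    rw [← h.comm x hx y hy1] at hyx
    obtain ⟨m1, m2, m3, m4⟩ := hdec x hx y hy1 hyx
    rw [← e2 y (h.le2 hy1)]
    exact hQ₂.mem ((mem_q1 h.comm.symm hP'').2 ⟨m2, _, m1, by rwa [← h.comm _ m1 _ m2]⟩)
  · obtain ⟨m1, m2, m3, m4⟩ := hdec x hx y hy hxy
    have n1 := (mem_q1 h.comm hP').2 ⟨m1, _, m2, m3⟩
    have n2 := (mem_q1 h.comm.symm hP'').2 ⟨m2, _, m1, by rwa [← h.comm _ m1 _ m2]⟩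
    show a (f (a' (x * y))) = g₁ x * g₂ y
    have i1 := hf₁.map_mem n1
    have i2 := hf₂.map_mem n2
    have j1 := k1 _ n1
    have j2 := k2 _ n2
    rw [e2 x (h.le1 hx)] at j1
    rw [e2 y (h.le2 hy)] at j2
    rw [m4, h3 _ m1 _ m2 m3, ha.1.map_mul (h.le1 i1) (h.le2 i2), j1, j2]
  · show a (f (a' (a x))) = a (f x)
    rw [e1 x (hP hx)]

theorem cp_frat [Finite S] [Fact p.Prime] (hS : IsPGroup p S) (hF : F.IsSaturated p) (h : CP E₁ E₂ D) (h₁ : Inv E₁ F)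
    (h₂ : Inv E₂ F) (hT : F.StronglyClosed T) (hsub : D.IsSubsystemOf F) : ∀ P f, P ≤ T → FMap F P f → Frat F D P f := by
  have hcinv := cp_conjInv h h₁ h₂
  refine frattini_of hS hF hT hcinv fun P f hPT hP hf hbig => ?_
  have hP' := automized_receptive_of_fullyNormalized hS hF hP
  by_cases hc : centralizerIn T P ≤ P
  swap
  · obtain ⟨g, hg, hg1, -⟩ := exists_extension_centralizer hP'.2 hf
    have hle : P ⊔ centralizerIn T P ≤ P ⊔ centralizerIn S P := sup_le_sup_left (inf_le_inf_right _ hT.1) _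
    have hlt : P < P ⊔ centralizerIn T P := lt_of_le_of_ne le_sup_left fun h => hc
      ((le_sup_right : centralizerIn T P ≤ P ⊔ centralizerIn T P).trans h.ge)
    obtain ⟨a, f₀, h4, h5, h6⟩ := hbig _ g (sup_le hPT.le (centralizerIn_le T P)) hlt (hg.restrict hle)
    exact ⟨a, f₀, h4, h5, fun x hx => by rw [← hg1 x hx]; exact h6 x hx⟩
  have hTC := tc_of_fullyNormalized hS hF hT hPT.le hP hc
  have hPle : P ≤ T₁ ⊔ T₂ := h.top ▸ hPT.le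
  have hPle' : P ≤ T₂ ⊔ T₁ := by rwa [sup_comm]
  have hzc : ∀ z ∈ T₁ ⊓ T₂, ∀ t ∈ T, z * t * z⁻¹ = t := by
    intro z hz t ht
    rw [h.top] at ht
    obtain ⟨x, hx, y, hy, rfl⟩ := (mem_sup_comm h.comm).1 ht
    have e1 := h.comm z hz.1 y hy
    have e2 := h.comm x hx z hz.2
    calc z * (x * y) * z⁻¹ = (z * x) * y * z⁻¹ := by group
      _ = (x * z) * y * z⁻¹ := by rw [e2]
      _ = x * (z * y) * z⁻¹ := by group
      _ = x * (y * z) * z⁻¹ := by rw [e1]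
      _ = x * y := by group
  have hzP : T₁ ⊓ T₂ ≤ P := fun z hz => hc ⟨h.le1 hz.1, mem_centralizer_iff'.2 fun t ht => hzc z hz t (hPT.le ht)⟩
  have hq1S : q1 T₁ T₂ P ≤ S := q1_le.trans h₁.closed.1
  have hmem : ∀ w ∈ P, ∃ x ∈ T₁, ∃ y ∈ T₂, x * y = w ∧ x ∈ q1 T₁ T₂ P ∧ y ∈ q1 T₂ T₁ P := by
    intro w hw
    obtain ⟨x, hx, y, hy, rfl⟩ := (mem_sup_comm h.comm).1 (hPle hw)
    exact ⟨x, hx, y, hy, rfl, (mem_q1 h.comm hPle).2 ⟨hx, y, hy, hw⟩,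
      (mem_q1 h.comm.symm hPle').2 ⟨hy, x, hx, by rwa [← h.comm x hx y hy]⟩⟩
  have hPR : P ≤ q1 T₁ T₂ P ⊔ q1 T₂ T₁ P := fun w hw => by
    obtain ⟨x, hx, y, hy, rfl, h4, h5⟩ := hmem w hw
    exact mul_mem (Subgroup.mem_sup_left h4) (Subgroup.mem_sup_right h5)
  have hRT : q1 T₁ T₂ P ⊔ q1 T₂ T₁ P ≤ T := sup_le (q1_le.trans h.le1) (q1_le.trans h.le2)
  rcases eq_or_lt_of_le hPR with hR | hR
  · -- `P = P₁P₂`
    have hq1 : q1 T₁ T₂ P ≤ P := le_sup_left.trans hR.ge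
    have hq2 : q1 T₂ T₁ P ≤ P := le_sup_right.trans hR.ge
    have hstr1 := FusionFrat.Inv.strong h₁
    have hstr2 := FusionFrat.Inv.strong h₂
    have hnorm : ∀ α ∈ F.autGroup P, ∀ n ∈ D.autGroup P, α * n * α⁻¹ ∈ D.autGroup P := by
      intro α hα n hn
      have hαi := (fiso_autFun_iff hP.1).2 hα
      have hαi' := (fiso_autFun_iff hP.1).2 (inv_mem hα : α⁻¹ ∈ F.autGroup P)
      obtain ⟨-, n₁, n₂, hn₁, hn₂, h3⟩ := (h.map P _).1 (fmap_of_autGroup hPT.le hn)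
      have e1 : ∀ x ∈ q1 T₁ T₂ P, autFun n x = n₁ x := fun x hx => by
        have := h3 x (q1_le hx) 1 (one_mem _) (by rw [mul_one]; exact hq1 hx)
        rwa [mul_one, hn₂.map_one, mul_one] at this
      have e2 : ∀ y ∈ q1 T₂ T₁ P, autFun n y = n₂ y := fun y hy => by
        have := h3 1 (one_mem _) y (q1_le hy) (by rw [one_mul]; exact hq2 hy)
        rwa [one_mul, hn₁.map_one, one_mul] at this
      have in1 : ∀ x ∈ T₁, x ∈ P → x ∈ q1 T₁ T₂ P := fun x hx hxP => ⟨hx, Subgroup.mem_sup_left hxP⟩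
      have in2 : ∀ x ∈ T₂, x ∈ P → x ∈ q1 T₂ T₁ P := fun x hx hxP => ⟨hx, Subgroup.mem_sup_left hxP⟩
      have m1 : ∀ x ∈ q1 T₁ T₂ P, n₁ x ∈ q1 T₁ T₂ P := fun x hx =>
        in1 _ (hn₁.map_mem hx) (by rw [← e1 x hx]; exact autFun_mem n (hq1 hx))
      have m2 : ∀ x ∈ q1 T₂ T₁ P, n₂ x ∈ q1 T₂ T₁ P := fun x hx =>
        in2 _ (hn₂.map_mem hx) (by rw [← e2 x hx]; exact autFun_mem n (hq2 hx))
      have a1 : ∀ x ∈ q1 T₁ T₂ P, autFun α x ∈ q1 T₁ T₂ P := fun x hx =>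
        in1 _ (StronglyClosed.map_mem F h₁.closed hαi.1 (hq1 hx) (q1_le hx)) (autFun_mem _ (hq1 hx))
      have a2 : ∀ x ∈ q1 T₂ T₁ P, autFun α x ∈ q1 T₂ T₁ P := fun x hx =>
        in2 _ (StronglyClosed.map_mem F h₂.closed hαi.1 (hq2 hx) (q1_le hx)) (autFun_mem _ (hq2 hx))
      have b1 : ∀ x ∈ q1 T₁ T₂ P, autFun α⁻¹ x ∈ q1 T₁ T₂ P := fun x hx =>
        in1 _ (StronglyClosed.map_mem F h₁.closed hαi'.1 (hq1 hx) (q1_le hx)) (autFun_mem _ (hq1 hx))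
      have b2 : ∀ x ∈ q1 T₂ T₁ P, autFun α⁻¹ x ∈ q1 T₂ T₁ P := fun x hx =>
        in2 _ (StronglyClosed.map_mem F h₂.closed hαi'.1 (hq2 hx) (q1_le hx)) (autFun_mem _ (hq2 hx))
      obtain ⟨k₁, hk₁, c1⟩ := hstr1 _ (q1 T₁ T₂ P) (q1 T₁ T₂ P) n₁ (autFun α) le_rfl q1_le hn₁ m1 (hαi.1.restrict hq1)
        (fun y => ⟨fun hy => ⟨_, b1 y hy, autFun_apply_inv α (hq1 hy)⟩, by rintro ⟨x, hx, rfl⟩; exact a1 x hx⟩)
      obtain ⟨k₂, hk₂, c2⟩ := hstr2 _ (q1 T₂ T₁ P) (q1 T₂ T₁ P) n₂ (autFun α) le_rfl q1_le hn₂ m2 (hαi.1.restrict hq2)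
        (fun y => ⟨fun hy => ⟨_, b2 y hy, autFun_apply_inv α (hq2 hy)⟩, by rintro ⟨x, hx, rfl⟩; exact a2 x hx⟩)
      refine (FMap_autFun_iff hPT.le).1 ((h.map P _).2 ⟨hPT.le, k₁, k₂, hk₁, hk₂, fun x hx y hy hxy => ?_⟩)
      have hx1 : x ∈ q1 T₁ T₂ P := (mem_q1 h.comm hPle).2 ⟨hx, y, hy, hxy⟩
      have hy1 : y ∈ q1 T₂ T₁ P := (mem_q1 h.comm.symm hPle').2 ⟨hy, x, hx, by rwa [← h.comm x hx y hy]⟩
      have hxP := hq1 hx1
      have hyP := hq2 hy1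
      have j1 := c1 _ (b1 x hx1)
      rw [autFun_apply_inv α hxP] at j1
      have j2 := c2 _ (b2 y hy1)
      rw [autFun_apply_inv α hyP] at j2
      rw [mul_assoc, autFun_mul _ _ hxy, autFun_mul _ _ hxy, hαi'.1.map_mul hxP hyP,
        h3 _ (q1_le (b1 x hx1)) _ (q1_le (b2 y hy1)) (mul_mem (hq1 (b1 x hx1)) (hq2 (b2 y hy1))),
        hαi.1.map_mul (hq1 (m1 _ (b1 x hx1))) (hq2 (m2 _ (b2 y hy1))), j1, j2]
    have hlt : P < normalizerIn T P := lt_normalizerIn hS hT.1 hPT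
    obtain ⟨g, α, hα, hg, hgP, h1⟩ := exists_frattini_ext hS hP'.1 hP'.2 (D.autGroup P) (sub_autGroup hsub hPT.le) hnorm
      hlt.le (inf_le_inf_right _ hT.1) (autInducedBy_le_autGroup hPT.le (normalizerIn_le T P)) hf
    have h2 := hbig _ g (normalizerIn_le T P) hlt hg
    have h3 : Frat F D P (autFun α) :=
      ⟨fun x => x, autFun α, FIso.refl F hT.1, fmap_of_autGroup hPT.le hα, fun _ _ => rfl⟩
    obtain ⟨a, f₀, h4, h5, h6⟩ := frat_comp hcinv h3 (fun x hx => autFun_mem α hx) hPT.le h2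
    exact ⟨a, f₀, h4, h5, fun x hx => by rw [h1 x hx]; exact h6 x hx⟩
  · -- extension to the normalizer in `P₁P₂`
    have hlt := lt_normalizerIn hS (hRT.trans hT.1) hR
    have hMS : normalizerIn (q1 T₁ T₂ P ⊔ q1 T₂ T₁ P) P ≤ S := (normalizerIn_le _ P).trans (hRT.trans hT.1)
    obtain ⟨g, hg, hg1⟩ := (isReceptive_iff.1 hP'.2).2 P f hf _ hlt.le hMS (fun t ht => ⟨ht.2, by
      have htS := hMS ht
      have hc1 : conjAut P t ht.2 ∈ Ki F h₁.closed h₂.closed P hP.1 := by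
        have hcomm' : Comm (q1 T₁ T₂ P) (q1 T₂ T₁ P) := fun x hx y hy => h.comm x (q1_le hx) y (q1_le hy)
        obtain ⟨y₁, hy₁, y₂, hy₂, he⟩ := (mem_sup_comm hcomm').1 ht.1
        have hval : ∀ x ∈ P, autFun (conjAut P t ht.2) x = t * x * t⁻¹ := fun x hx => by
          rw [autFun_of_mem _ hx, conjAut_apply]
        refine ⟨conjAut_mem_autGroup hP.1 ht.2 htS, ?_, ?_, fun z hz hzP' => ?_⟩
        · obtain ⟨-, w, hw, hyw⟩ := (mem_q1 h.comm hPle).1 hy₁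
          refine ⟨y₁ * w, hyw, fun x hx => ?_⟩
          rw [hval x hx]
          have hn1 := normalizes_of_stronglyClosed h₂.closed (hP.1 hx)
          have hn2 := normalizes_of_stronglyClosed h₂.closed (hP.1 hyw)
          have htt : w⁻¹ * y₂ ∈ T₂ := mul_mem (T₂.inv_mem hw) (q1_le hy₂)
          have h5 := (Subgroup.mem_normalizer_iff.1 (Subgroup.inv_mem _ hn1) _).1 (T₂.inv_mem htt)
          have h6 := mul_mem htt h5
          have h7 := (Subgroup.mem_normalizer_iff.1 hn2 _).1 h6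
          have e : (t * x * t⁻¹)⁻¹ * (y₁ * w * x * (y₁ * w)⁻¹) =
              y₁ * w * (w⁻¹ * y₂ * (x⁻¹ * (w⁻¹ * y₂)⁻¹ * x⁻¹⁻¹)) * (y₁ * w)⁻¹ := by rw [← he]; group
          rw [e]; exact h7
        · obtain ⟨-, w, hw, hyw⟩ := (mem_q1 h.comm.symm hPle').1 hy₂
          refine ⟨y₂ * w, hyw, fun x hx => ?_⟩
          rw [hval x hx]
          have hn1 := normalizes_of_stronglyClosed h₁.closed (hP.1 hx)
          have hn2 := normalizes_of_stronglyClosed h₁.closed (hP.1 hyw)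
          have htt : w⁻¹ * y₁ ∈ T₁ := mul_mem (T₁.inv_mem hw) (q1_le hy₁)
          have h5 := (Subgroup.mem_normalizer_iff.1 (Subgroup.inv_mem _ hn1) _).1 (T₁.inv_mem htt)
          have h6 := mul_mem htt h5
          have h7 := (Subgroup.mem_normalizer_iff.1 hn2 _).1 h6
          have he' : y₂ * y₁ = t := by rw [← he]; exact (h.comm _ (q1_le hy₁) _ (q1_le hy₂)).symm
          have e : (t * x * t⁻¹)⁻¹ * (y₂ * w * x * (y₂ * w)⁻¹) =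
              y₂ * w * (w⁻¹ * y₁ * (x⁻¹ * (w⁻¹ * y₁)⁻¹ * x⁻¹⁻¹)) * (y₂ * w)⁻¹ := by rw [← he']; group
          rw [e]; exact h7
        · rw [hval z hzP']
          have h8 := hzc z hz t (hRT ht.1)
          calc t * z * t⁻¹ = (z * t * z⁻¹) * z * t⁻¹ := by rw [h8]
            _ = z := by group
      have h9 := ki_normal h₁.closed h₂.closed (hPS := hP.1) (hf.equiv : MulAut P) hf.equiv_mem_autGroup _ hc1
      obtain ⟨s, hs, h10⟩ := mem_autInducedBy_iff.1 (ki_le hS hF h₁.closed h₂.closed hzP hP h9)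
      refine ⟨s, hs, fun x hx => ?_⟩
      have h11 := h10 ((hf.equiv : MulAut P) ⟨x, hx⟩)
      rw [MulAut.mul_apply, MulAut.mul_apply, MulAut.inv_apply_self] at h11
      exact h11⟩)
    obtain ⟨a, f₀, h4, h5, h6⟩ := hbig _ g ((normalizerIn_le _ P).trans hRT) hlt hg
    exact ⟨a, f₀, h4, h5, fun x hx => by rw [← hg1 x hx]; exact h6 x hx⟩

end Cfsg.Agent.Lib.FusionCP2
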