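import Mathlib
import Cfsg.Agent.Lib.FusionCP2

/-!
Central products: extension condition, factors are normal, normality inside factors.
-/

set_option autoImplicit false
open Cfsg Cfsg.FusionSystem Cfsg.Agent.Lib.FusionBasic Cfsg.Agent.Lib.FusionSat Cfsg.Agent.Lib.FusionNormal
  Cfsg.Agent.Lib.FusionInvar Cfsg.Agent.Lib.FusionTools Cfsg.Agent.Lib.FusionPP Cfsg.Agent.Lib.FusionStrong
  Cfsg.Agent.Lib.FusionSys Cfsg.Agent.Lib.FusionFrat Cfsg.Agent.Lib.FusionPrime Cfsg.Agent.Lib.FusionTC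
  Cfsg.Agent.Lib.FusionClosed Cfsg.Agent.Lib.FusionStab Cfsg.Agent.Lib.FusionZeta Cfsg.Agent.Lib.FusionDich
  Cfsg.Agent.Lib.FusionCP Cfsg.Agent.Lib.FusionCP2 Cfsg.Agent.Lib.FusionTR Cfsg.Agent.Lib.FusionLayer
open Cfsg.Agent.Lib.FusionFocal (fix_of_isCentral)
open Cfsg.Agent.Lib.FusionThmA (tc_of_fullyNormalized)
open Cfsg.Agent.Lib.FusionCenNormal (tc_self ext_of_pp)
open Cfsg.Agent.Lib.FusionMeet5 (extZ_pp)

namespace Cfsg.Agent.Lib.FusionCP3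

variable {Ω : Type*} [Group Ω] {S T T₁ T₂ K U W : Subgroup Ω} {F : FusionSystem S} {E₁ : FusionSystem T₁} {E₂ : FusionSystem T₂}
  {D : FusionSystem T} {C : FusionSystem K} {P Q R M X Y Z N : Subgroup Ω} {a b f g k σ f₁ f₂ κ : Ω → Ω} {p : ℕ} {u v : Ω}

/-- a good extension of the `T₁`-part fixing `T₂` -/
theorem ext_part [Finite S] [Fact p.Prime] (hS : IsPGroup p S) (hF : F.IsSaturated p) (h : CP E₁ E₂ D)
    (hE₁ : E₁.IsNormalIn F p) (hT₂ : F.StronglyClosed T₂) (hf : PP D p T f) :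
    ∃ b, FMap F (T₁ ⊔ centralizerIn S T₁) b ∧ (∀ x ∈ T₁, b x = f x) ∧ (∀ c ∈ centralizerIn S T₁, c⁻¹ * b c ∈ T₁) ∧
      (∀ y ∈ T₂, b y = y) ∧ ∀ x ∈ T₁, f x ∈ T₁ := by
  obtain ⟨hEs, -, hE, hx⟩ := isNormalIn_iff.1 hE₁
  have hT := hE.closed
  have hT₁fin : Finite T₁ := finite_of_le hT.1
  have hf1 : FMap E₁ T₁ f := (h.fmap1 le_rfl).1 (hf.map.restrict h.le1)
  have hmem : ∀ x ∈ T₁, f x ∈ T₁ := fun x hx => hf1.map_mem hx
  have hi : FIso E₁ T₁ T₁ f := hf1.fiso_of_card le_rfl hmem le_rfl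
  obtain ⟨n, hn, hn'⟩ := hf.2
  have hpp : PP F p T₁ f := ⟨sub_fiso hE.sub hi, n, hn, fun x hx => hn' x (h.le1 hx)⟩
  obtain ⟨b, hb, hb1, hb2⟩ := extZ_pp hpp (extZ_all hS hF hEs hE hx T₁ f (tc_self hT) hi)
  refine ⟨b, hb.map, hb1, hb2, fun y hy => ?_, hmem⟩
  have hyC := comm_le h.comm hT₂.1 hy
  have hyM : y ∈ T₁ ⊔ centralizerIn S T₁ := Subgroup.mem_sup_right hyC
  refine hb.fix hS (Y := T₁ ⊓ T₂) (inf_le_left.trans le_sup_left) hyM ⟨hb2 y hyC, ?_⟩ fun z hz => ?_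
  · exact mul_mem (T₂.inv_mem hy) (StronglyClosed.map_mem F hT₂ hb.map hyM hy)
  · rw [hb1 z hz.1]
    exact fix_of_isCentral h.cen1 hf1 hz.1 hz

theorem cp_inv [Finite S] [Fact p.Prime] (hS : IsPGroup p S) (hF : F.IsSaturated p) (h : CP E₁ E₂ D)
    (hE₁ : E₁.IsNormalIn F p) (hE₂ : E₂.IsNormalIn F p) : Inv D F := by
  obtain ⟨hEs₁, -, hi₁, hx₁⟩ := isNormalIn_iff.1 hE₁
  obtain ⟨hEs₂, -, hi₂, hx₂⟩ := isNormalIn_iff.1 hE₂
  have hT : F.StronglyClosed T := h.top ▸ Cfsg.Agent.S5128.result p hS F hF T₁ T₂ hi₁.closed hi₂.closed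
  have hc1 := cen_of_central hS hF hE₁ hi₂.closed h.comm h.cen1
  have hc2 := cen_of_central hS hF hE₂ hi₁.closed h.comm.symm (inf_comm T₁ T₂ ▸ h.cen2)
  have hsub := cp_sub h hc1 hc2
  exact ⟨hsub, hT, fun h1 h2 h3 => cp_conjInv h hi₁ hi₂ _ _ _ _ h1 h2 h3, fun hP hf => cp_frat hS hF h hi₁ hi₂ hT hsub _ _ hP hf⟩

theorem cp_normal [Finite S] [Fact p.Prime] (hS : IsPGroup p S) (hF : F.IsSaturated p) (h : CP E₁ E₂ D)
    (hDs : D.IsSaturated p) (hE₁ : E₁.IsNormalIn F p) (hE₂ : E₂.IsNormalIn F p) : D.IsNormalIn F p := by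
  obtain ⟨hEs₁, -, hi₁, hx₁⟩ := isNormalIn_iff.1 hE₁
  obtain ⟨hEs₂, -, hi₂, hx₂⟩ := isNormalIn_iff.1 hE₂
  have hinv := cp_inv hS hF h hE₁ hE₂
  have hT := hinv.closed
  refine isNormalIn_iff.2 ⟨hDs, hF, hinv, ext_of_pp hS hF hDs hinv fun f hf => ?_⟩
  have hT₂fin : Finite T₂ := finite_of_le hi₂.closed.1
  obtain ⟨b₁, hb₁, a1, a2, a3, a4⟩ := ext_part hS hF h hE₁ hi₂.closed hf
  obtain ⟨b₂, hb₂, c1, c2, c3, c4⟩ := ext_part hS hF h.symm hE₂ hi₁.closed hf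
  have hM₁ : T ⊔ centralizerIn S T ≤ T₁ ⊔ centralizerIn S T₁ := by
    refine sup_le ?_ ?_
    · rw [h.top]
      exact sup_le_sup_left (comm_le h.comm hi₂.closed.1) _
    · exact le_sup_of_le_right (inf_le_inf_left _ (Subgroup.centralizer_le h.le1))
  have hM₂ : T ⊔ centralizerIn S T ≤ T₂ ⊔ centralizerIn S T₂ := by
    refine sup_le ?_ ?_
    · rw [h.top, sup_comm]
      exact sup_le_sup_left (comm_le h.comm.symm hi₁.closed.1) _
    · exact le_sup_of_le_right (inf_le_inf_left _ (Subgroup.centralizer_le h.le2))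
  have hb₁T : ∀ t ∈ T, b₁ t ∈ T := fun t ht =>
    StronglyClosed.map_mem F hT hb₁ (hM₁ (Subgroup.mem_sup_left ht)) ht
  have hb₁C : ∀ c ∈ centralizerIn S T, c⁻¹ * b₁ c ∈ T₁ := fun c hc =>
    a2 c ⟨hc.1, (Subgroup.centralizer_le h.le1) hc.2⟩
  have hb₂C : ∀ c ∈ centralizerIn S T, c⁻¹ * b₂ c ∈ T₂ := fun c hc =>
    c2 c ⟨hc.1, (Subgroup.centralizer_le h.le2) hc.2⟩
  have hb₁M : ∀ x ∈ T ⊔ centralizerIn S T, b₁ x ∈ T ⊔ centralizerIn S T := by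
    refine map_sup_mem (hb₁.restrict hM₁) (fun x hx => Subgroup.mem_sup_left (hb₁T x hx)) fun c hc => ?_
    have : b₁ c = c * (c⁻¹ * b₁ c) := by group
    rw [this]
    exact mul_mem (Subgroup.mem_sup_right hc) (Subgroup.mem_sup_left (h.le1 (hb₁C c hc)))
  refine ⟨fun x => b₂ (b₁ x), (hb₁.restrict hM₁).comp (hb₂.restrict hM₂) hb₁M, fun t ht => ?_, fun c hc => ?_⟩
  · have ht' : t ∈ T₁ ⊔ T₂ := h.top ▸ ht
    obtain ⟨x, hx, y, hy, rfl⟩ := (mem_sup_comm h.comm).1 ht'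
    show b₂ (b₁ (x * y)) = f (x * y)
    rw [hb₁.map_mul (Subgroup.mem_sup_left hx) (hM₁ (Subgroup.mem_sup_left (h.le2 hy))), a1 x hx, a3 y hy,
      hb₂.map_mul (hM₂ (Subgroup.mem_sup_left (h.le1 (a4 x hx)))) (Subgroup.mem_sup_left hy), c3 _ (a4 x hx), c1 y hy,
      hf.map.map_mul (h.le1 hx) (h.le2 hy)]
  · have h1 := hb₁C c hc
    have hcM := hM₂ (Subgroup.mem_sup_right hc)
    obtain ⟨z, hz⟩ : ∃ z, z = c⁻¹ * b₁ c := ⟨_, rfl⟩
    rw [← hz] at h1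
    have e : b₁ c = c * z := by rw [hz]; group
    have e2 : b₂ (b₁ c) = b₂ c * z := by
      rw [e, hb₂.map_mul hcM (hM₂ (Subgroup.mem_sup_left (h.le1 h1))), c3 _ h1]
    show c⁻¹ * b₂ (b₁ c) ∈ T
    rw [e2, ← mul_assoc]
    exact mul_mem (h.le2 (hb₂C c hc)) (h.le1 h1)

/-- extension of an `E₁`-automorphism by the identity on `T₂` -/
theorem ext_id [Finite T₁] (h : CP E₁ E₂ D) (ha : FMap E₁ T₁ a) : ∃ b, FMap D T b ∧ ∀ x ∈ T₁, ∀ y ∈ T₂, b (x * y) = a x * y := by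
  classical
  have hdec : ∀ w, w ∈ T → ∃ x ∈ T₁, ∃ y ∈ T₂, x * y = w := fun w hw => (mem_sup_comm h.comm).1 (h.top ▸ hw)
  choose! X hX Y hY hXY using hdec
  have key : ∀ x ∈ T₁, ∀ y ∈ T₂, a (X (x * y)) * Y (x * y) = a x * y := by
    intro x hx y hy
    have hw : x * y ∈ T := mul_mem (h.le1 hx) (h.le2 hy)
    have h1 := hX _ hw
    have h2 := hY _ hw
    have h3 := hXY _ hw
    obtain ⟨z, hz⟩ : ∃ z, z = x⁻¹ * X (x * y) := ⟨_, rfl⟩
    have hz' : z = y * (Y (x * y))⁻¹ := by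
      rw [hz]
      have : X (x * y) = x * y * (Y (x * y))⁻¹ := by
        calc X (x * y) = (X (x * y) * Y (x * y)) * (Y (x * y))⁻¹ := by group
          _ = x * y * (Y (x * y))⁻¹ := by rw [h3]
      rw [this]; group
    have hzm : z ∈ T₁ ⊓ T₂ := ⟨hz ▸ mul_mem (T₁.inv_mem hx) h1, hz' ▸ mul_mem hy (T₂.inv_mem h2)⟩
    have e1 : X (x * y) = x * z := by rw [hz]; group
    have e2 : y = z * Y (x * y) := by rw [hz']; group
    have e3 : a (x * z) = a x * z := by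
      rw [ha.map_mul hx hzm.1, fix_of_isCentral h.cen1 ha hzm.1 hzm]
    calc a (X (x * y)) * Y (x * y) = a x * z * Y (x * y) := by rw [e1, e3]
      _ = a x * (z * Y (x * y)) := by group
      _ = a x * y := by rw [← e2]
  refine ⟨fun w => a (X w) * Y w, ?_, key⟩
  rw [h.map]
  exact ⟨le_rfl, a, fun y => y, ha.restrict q1_le, fmap_id E₂ q1_le, fun x hx y hy _ => key x hx y hy⟩

theorem factor_normal [Finite T] (h : CP E₁ E₂ D) (hDs : D.IsSaturated p)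
    (hE₁ : E₁.IsSaturated p) : E₁.IsNormalIn D p := by
  have hT₁fin : Finite T₁ := finite_of_le h.le1
  have hself : Inv E₁ E₁ := inv_self
  have hinv : Inv E₁ D := by
    refine ⟨isSubsystemOf_iff.2 fun P f hf => (h.fmap1 hf.le).2 hf, ?_, ?_, ?_⟩
    · rw [stronglyClosed_iff]
      exact ⟨h.le1, fun P f hP hf x hx => ((h.fmap1 hP).1 hf).map_mem hx⟩
    · intro P Q a f ha hf hQ
      exact hself.conj ⟨(h.fmap1 le_rfl).1 ha.1, ha.2⟩ hf hQ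
    · intro P f hP hf
      exact ⟨fun x => x, f, FIso.refl D h.le1, (h.fmap1 hP).1 hf, fun _ _ => rfl⟩
  refine isNormalIn_iff.2 ⟨hE₁, hDs, hinv, fun a ha => ?_⟩
  obtain ⟨b, hb, hb1⟩ := ext_id h ha.1
  have hM : T₁ ⊔ centralizerIn T T₁ = T := by
    refine le_antisymm (sup_le h.le1 (centralizerIn_le T T₁)) ?_
    conv_lhs => rw [h.top]
    exact sup_le_sup_left (comm_le h.comm h.le2) _
  rw [hM]
  have hbT : ∀ x ∈ T, b x ∈ T := fun x hx => hb.map_mem hx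
  refine ⟨b, hb.fiso_of_card le_rfl hbT le_rfl, fun x hx => ?_, fun c hc => ?_⟩
  · have := hb1 x hx 1 (one_mem _)
    rwa [mul_one, mul_one] at this
  · obtain ⟨x, hx, y, hy, rfl⟩ := (mem_sup_comm h.comm).1 (h.top ▸ hc.1)
    have hax := ha.mem hx
    have hxc : ∀ t ∈ T₁, x * t * x⁻¹ = t := fun t ht => by
      have h1 := mem_centralizer_iff'.1 hc.2 t ht
      have h2 := h.comm t ht y hy
      calc x * t * x⁻¹ = x * (t * y) * y⁻¹ * x⁻¹ := by group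
        _ = x * (y * t) * y⁻¹ * x⁻¹ := by rw [h2]
        _ = x * y * t * (x * y)⁻¹ := by group
        _ = t := h1
    have haxc : ∀ t ∈ T₁, a x * t * (a x)⁻¹ = t := fun t ht => by
      obtain ⟨s, hs, rfl⟩ := ha.mem_iff.1 ht
      rw [← ha.1.map_conj hx hs, hxc s hs]
    have e : (x * y)⁻¹ * b (x * y) = x⁻¹ * a x := by
      rw [hb1 x hx y hy]
      have h1 := h.comm _ (mul_mem (T₁.inv_mem hx) hax) y hy
      calc (x * y)⁻¹ * (a x * y) = y⁻¹ * (x⁻¹ * a x * y) := by group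
        _ = y⁻¹ * (y * (x⁻¹ * a x)) := by rw [h1]
        _ = x⁻¹ * a x := by group
    rw [e]
    refine ⟨mul_mem (T₁.inv_mem hx) hax, mem_centralizer_iff'.2 fun t ht => ?_⟩
    have h1 := haxc t ht
    have h2 := hxc t ht
    calc x⁻¹ * a x * t * (x⁻¹ * a x)⁻¹ = x⁻¹ * (a x * t * (a x)⁻¹) * x := by group
      _ = x⁻¹ * (x * t * x⁻¹) * x := by rw [h1, h2]
      _ = t := by group

/-- normality in a factor gives normality in the product -/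
theorem normal_of_factor [Finite T] [Fact p.Prime] (hT : IsPGroup p T) (h : CP E₁ E₂ D) (hDs : D.IsSaturated p)
    (hC : C.IsNormalIn E₁ p) : C.IsNormalIn D p := by
  have hT₁fin : Finite T₁ := finite_of_le h.le1
  obtain ⟨hCs, hEs, hCi, hCx⟩ := isNormalIn_iff.1 hC
  have hn := factor_normal h hDs hEs
  have hiso : ∀ σ, FIso D T₁ T₁ σ → FIso E₁ K K σ := fun σ hσ => by
    have h1 : FMap E₁ T₁ σ := (h.fmap1 le_rfl).1 hσ.1
    exact fiso_restrict h1 hCi.closed.1 fun x hx => StronglyClosed.map_mem E₁ hCi.closed h1 (hCi.closed.1 hx) hx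
  refine trans_normal hT hC hn ⟨fun σ hσ x hx => (hiso σ hσ).mem hx, fun P Q σ f hσ hf hQ => hCi.conj (hiso σ hσ) hf hQ⟩

end Cfsg.Agent.Lib.FusionCP3
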