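import Mathlib
import Cfsg.Agent.Lib.FusionTC
import Cfsg.Agent.Lib.FusionJoin
import Cfsg.Agent.Lib.FusionQuot
import Cfsg.Agent.Lib.FusionQuotHyp
import Cfsg.Agent.Lib.FusionFocal
import Cfsg.Agent.Lib.FusionNormalSubgroup

/-!
Constrained fusion systems: subnormal subsystems and central quotients are constrained.
-/

set_option autoImplicit false
open Cfsg Cfsg.FusionSystem Cfsg.Agent.Lib.FusionBasic Cfsg.Agent.Lib.FusionSat Cfsg.Agent.Lib.FusionNormal
  Cfsg.Agent.Lib.FusionInvar Cfsg.Agent.Lib.FusionTools Cfsg.Agent.Lib.FusionPP Cfsg.Agent.Lib.FusionStrong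
  Cfsg.Agent.Lib.FusionSys Cfsg.Agent.Lib.FusionFrat Cfsg.Agent.Lib.FusionTC Cfsg.Agent.Lib.FusionQuot

namespace Cfsg.Agent.Lib.FusionConstr

variable {Ω : Type*} [Group Ω] {S T : Subgroup Ω} {F : FusionSystem S} {E : FusionSystem T} {P Q R M X Y Z : Subgroup Ω}
  {a b f g : Ω → Ω} {p : ℕ}

/-- In a constrained system the core contains every element of `S` stabilizing the chain `Q ≥ R ≥ 1`, `R` strongly
closed. -/
theorem stab_le_core [Finite S] [Fact p.Prime] (hS : IsPGroup p S) (hF : F.IsConstrained p) :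
    ∃ Q, F.IsNormal Q ∧ F.IsCentric Q ∧ ∀ R ≤ Q, F.StronglyClosed R → ∀ s ∈ S, (∀ q ∈ Q, q⁻¹ * (s * q * s⁻¹) ∈ R) →
      (∀ r ∈ R, s * r * s⁻¹ = r) → s ∈ Q := by
  obtain ⟨hsat, Q₀, hQ₀, hQ₀c⟩ := hF
  have hcore : F.IsNormal F.core := Cfsg.Agent.Lib.FusionJoin.isNormal_core F
  have hcc : F.IsCentric F.core := isCentric_mono hQ₀c (le_sSup hQ₀) hcore.1
  refine ⟨F.core, hcore, hcc, fun R hRQ hR s hs h1 h2 => ?_⟩
  obtain ⟨Q, hQe⟩ : ∃ Q, Q = F.core := ⟨_, rfl⟩
  rw [← hQe] at hcore hcc hRQ h1 ⊢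
  have hQs := isNormal_stronglyClosed hcore
  have hQn := normalizes_of_stronglyClosed hQs
  have hRn := normalizes_of_stronglyClosed hR
  have hQS := hcore.1
  let L := stabS S R Q
  have hLS : L ≤ S := fun x hx => hx.1.1
  have hsL : s ∈ L := ⟨⟨hs, hQn hs⟩, fun x _ hxR => h2 x hxR, h1⟩
  -- L is strongly closed
  have hLs : F.StronglyClosed L := by
    rw [stronglyClosed_iff]
    refine ⟨hLS, fun P f hP hf x hx => ?_⟩
    obtain ⟨g, hg, hg1, hg2⟩ := ((isNormal_iff F).1 hcore).2 P f hf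
    obtain ⟨k, hk, k1, k2⟩ := hg2.symm
    have hxL := hP hx
    have hxPQ : x ∈ P ⊔ Q := Subgroup.mem_sup_left hx
    have hfx : f x = g x := (hg1 x hx).symm
    have hgx : g x ∈ S := hg.map_mem hxPQ
    rw [hfx]
    have hcalc : ∀ y ∈ Q, g x * g y * (g x)⁻¹ = g (x * y * x⁻¹) := fun y hy =>
      (hg.map_conj hxPQ (Subgroup.mem_sup_right hy)).symm
    have hmapR : ∀ y ∈ R, g y ∈ R := fun y hy =>
      StronglyClosed.map_mem F hR hg (Subgroup.mem_sup_right (hRQ hy)) hy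
    refine ⟨⟨hgx, hQn hgx⟩, fun y hy hyR => ?_, fun y hy => ?_⟩
    · have h3 := k2 y hy
      have h4 : k y ∈ R := StronglyClosed.map_mem F hR hk.1 hy hyR
      rw [← h3, hcalc _ (hk.mem hy), hxL.2.1 _ (hk.mem hy) h4]
    · have h3 := k2 y hy
      have hky := hk.mem hy
      have hconj : x * k y * x⁻¹ ∈ Q := (Subgroup.mem_normalizer_iff.1 (hQn (hLS hxL)) _).1 hky
      rw [← h3, hcalc _ hky]
      have h5 := hmapR _ (hxL.2.2 _ hky)
      rwa [hg.map_mul (Subgroup.mem_sup_right (Q.inv_mem hky)) (Subgroup.mem_sup_right hconj),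
        hg.map_inv (Subgroup.mem_sup_right hky)] at h5
  -- L is contained in every centric radical subgroup
  have hLn : F.IsNormal L := by
    refine isNormal_of_centricRadical hS hsat hLs fun P hPn hPc hPr => ?_
    have hP := hPc.1
    have hQP : Q ≤ P := le_of_isNormal hS hcore hPc hPr
    let LL : Bool → Subgroup Ω := fun j => if j then R else Q
    let MM : Bool → Subgroup Ω := fun j => if j then ⊥ else R
    have hcl : ∀ K : Subgroup Ω, F.StronglyClosed K → ∀ α ∈ F.autGroup P, ∀ x : P, (x : Ω) ∈ K →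
        ((α x : P) : Ω) ∈ K := by
      intro K hK α hα x hx
      have := StronglyClosed.map_mem F hK (fmap_of_autGroup hP hα) x.2 hx
      rwa [autFun_coe] at this
    have hbot : F.StronglyClosed (⊥ : Subgroup Ω) := isNormal_stronglyClosed (isNormal_bot F)
    have hLL : ∀ j, F.StronglyClosed (LL j) := fun j => by cases j; exacts [hQs, hR]
    have hMM : ∀ j, F.StronglyClosed (MM j) := fun j => by cases j; exacts [hR, hbot]
    have hst := Cfsg.Agent.Lib.FusionClosed.famStab_le_inn (F := F) hP hPr LL MM (fun j => hcl _ (hLL j))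
      (fun j => hcl _ (hMM j)) (by
      rintro α ⟨hα, h3⟩ ho
      have hpp := pp_of_aut hP hα ho
      have hR1 : ∀ x ∈ R, autFun α x = x := by
        intro x hx
        have h4 : x⁻¹ * autFun α x ∈ (⊥ : Subgroup Ω) := by
          have := h3 true ⟨x, hQP (hRQ hx)⟩ hx
          rwa [← autFun_coe] at this
        rw [Subgroup.mem_bot, inv_mul_eq_one] at h4
        exact h4.symm
      have hQ1 : ∀ x ∈ Q, autFun α x = x := by
        intro x hx
        have h4 : x⁻¹ * autFun α x ∈ R := by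
          have := h3 false ⟨x, hQP hx⟩ hx
          rwa [← autFun_coe] at this
        exact hpp.fix hS (hRQ.trans hQP) (hQP hx) h4 hR1
      refine eq_one_of_autFun fun x hx => ?_
      refine hpp.fix hS hQP hx (hcc.2 Q (isConj_refl F hQS) ⟨S.mul_mem (S.inv_mem (hP hx)) (hP (hpp.mem hx)),
        mem_centralizer_iff'.2 fun y hy => ?_⟩) hQ1
      have hxy : x * y * x⁻¹ ∈ Q := (Subgroup.mem_normalizer_iff.1 (hQn (hP hx)) _).1 hy
      have h4 := hpp.map.map_conj hx (hQP hy)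
      rw [hQ1 y hy, hQ1 _ hxy] at h4
      calc x⁻¹ * autFun α x * y * (x⁻¹ * autFun α x)⁻¹ = x⁻¹ * (autFun α x * y * (autFun α x)⁻¹) * x := by group
        _ = y := by rw [← h4]; group)
    refine le_of_normalizerIn_le hS hP hLS (normalizes_of_stronglyClosed hLs) fun l hl hln => ?_
    have hlS := hLS hl
    refine Cfsg.Agent.Lib.FusionAlperin.mem_of_conj_mem_inn (hPc.2 P (isConj_refl F hP)) hlS hln (hst
      ⟨conjAut_mem_autGroup hP hln hlS, fun j x hx => ?_⟩) hP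
    rw [conjAut_apply]
    cases j
    · exact hl.2.2 x hx
    · show (x : Ω)⁻¹ * (l * x * l⁻¹) ∈ (⊥ : Subgroup Ω)
      rw [hl.2.1 x (hRQ hx) hx, inv_mul_cancel]
      exact Subgroup.one_mem _
  rw [hQe]
  exact (le_sSup hLn : L ≤ F.core) hsL

/-- A weakly normal subsystem of a constrained system is constrained. -/
theorem constrained_weaklyNormal [Finite S] [Fact p.Prime] (hS : IsPGroup p S) (hF : F.IsConstrained p)
    (hE : E.IsWeaklyNormalIn F p) : E.IsConstrained p := by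
  obtain ⟨hEs, -, hi⟩ := isWeaklyNormalIn_iff.1 hE
  have hT := hi.closed
  have hTfin : Finite T := finite_of_le hT.1
  have hTp := isPGroup_of_le hS hT.1
  obtain ⟨Q, hQ, hQc, hQ1⟩ := stab_le_core hS hF
  have hQs := isNormal_stronglyClosed hQ
  have hQfin : Finite Q := finite_of_le hQ.1
  have hQp := isPGroup_of_le hS hQ.1
  have hnil : Group.IsNilpotent Q := hQp.isNilpotent
  obtain ⟨n, C, hC0, hCn, -, hCle, hCc, hCch⟩ := Cfsg.Agent.Lib.FusionClosed.exists_central_chain Q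
  have hCs : ∀ i, F.StronglyClosed (C i) := fun i =>
    isNormal_stronglyClosed (isNormal_of_characteristic hQ (hCle i) (hCch i))
  have hRs : ∀ K : Subgroup Ω, F.StronglyClosed K → E.StronglyClosed (K ⊓ T) := by
    intro K hK
    rw [stronglyClosed_iff]
    exact ⟨inf_le_right, fun P f hP hf x hx => ⟨StronglyClosed.map_mem F hK (sub_fmap hi.sub hf) hx (hP hx).1,
      hf.map_mem hx⟩⟩
  have hRF : F.StronglyClosed (Q ⊓ T) := by
    rw [stronglyClosed_iff]
    exact ⟨inf_le_right.trans hT.1, fun P f hP hf x hx => ⟨StronglyClosed.map_mem F hQs hf hx (hP hx).1,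
      StronglyClosed.map_mem F hT hf hx (hP hx).2⟩⟩
  have hRn : E.IsNormal (Q ⊓ T) := by
    refine isNormal_of_chain hTp hEs (fun i => C i ⊓ T) n (by rw [hC0, bot_inf_eq]) (by rw [hCn]) fun i _ =>
      ⟨hRs _ (hCs _), ?_⟩
    refine le_inf ?_ ?_
    · refine (Subgroup.commutator_mono inf_le_left inf_le_left).trans ?_
      rw [Subgroup.commutator_comm]
      exact hCc i
    · refine (Subgroup.commutator_mono inf_le_right inf_le_right).trans (Subgroup.commutator_le.2 fun x hx y hy => ?_)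
      exact T.mul_mem (T.mul_mem (T.mul_mem hx hy) (T.inv_mem hx)) (T.inv_mem hy)
  refine ⟨hEs, Q ⊓ T, hRn, ⟨inf_le_right, fun R' hR' => ?_⟩⟩
  obtain ⟨f, hf⟩ := isConj_iff_fiso.1 hR'
  have hle : R' ≤ Q ⊓ T := by
    intro y hy
    obtain ⟨x, hx, rfl⟩ := hf.mem_iff.1 hy
    exact StronglyClosed.map_mem E (isNormal_stronglyClosed hRn) hf.1 hx hx
  have hfin2 : Finite ↥(Q ⊓ T) := finite_of_le (inf_le_right.trans hT.1)
  have hRe : R' = Q ⊓ T := Subgroup.eq_of_le_of_card_ge hle (isConj_card_eq hR').le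
  rw [hRe]
  intro t ht
  refine ⟨hQ1 (Q ⊓ T) inf_le_left hRF t (hT.1 ht.1) (fun q hq => ⟨?_, ?_⟩) (fun r hr =>
    mem_centralizer_iff'.1 ht.2 r hr), ht.1⟩
  · exact Q.mul_mem (Q.inv_mem hq) ((Subgroup.mem_normalizer_iff.1 (normalizes_of_stronglyClosed hQs (hT.1 ht.1)) _).1 hq)
  · have h3 := (Subgroup.mem_normalizer_iff.1 (Subgroup.inv_mem _ (normalizes_of_stronglyClosed hT (hQ.1 hq))) t).1 ht.1
    rw [inv_inv] at h3
    have h4 : q⁻¹ * (t * q * t⁻¹) = (q⁻¹ * t * q) * t⁻¹ := by group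
    rw [h4]
    exact T.mul_mem h3 (T.inv_mem ht.1)

/-- Subnormal subsystems of constrained systems are constrained. -/
theorem constrained_subnormal {T : Subgroup Ω} {E : FusionSystem T}
    {S : Subgroup Ω} {F : FusionSystem S} (hE : E.IsSubnormalIn F p) :
    Fact p.Prime → Finite S → IsPGroup p S → F.IsConstrained p → E.IsConstrained p := by
  induction hE with
  | refl F p => exact fun _ _ _ h => h
  | step h1 h2 ih =>
    intro hpr hfin hp hc
    have hi := (isWeaklyNormalIn_iff.1 h2.1).2.2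
    exact ih hpr (finite_of_le hi.closed.1) (isPGroup_of_le hp hi.closed.1) (constrained_weaklyNormal hp hc h2.1)

section Factor

variable {Ω' : Type*} [Group Ω'] {S' : Subgroup Ω'} {D : FusionSystem S'} {θ : S →* Ω'}

/-- Quotients of constrained systems by central subgroups are constrained. -/
theorem constrained_factor [Finite S] [Fact p.Prime] (hS : IsPGroup p S) (hF : F.IsConstrained p)
    (hZ : F.IsCentral Z) (hD : F.IsFactorSystem Z θ D) : D.IsConstrained p := by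
  have hsat := hF.1
  obtain ⟨-, hker, hrange, -⟩ := id hD
  have hZfix : ∀ {P : Subgroup Ω} {f : Ω → Ω}, FMap F P f → ∀ x ∈ P, x ∈ Z → f x = x := fun hf x hx hxZ =>
    Cfsg.Agent.Lib.FusionFocal.fix_of_isCentral hZ hf hx hxZ
  have hZs : F.StronglyClosed Z := by
    rw [stronglyClosed_iff]
    exact ⟨hZ.1, fun P f hP hf x hx => by rw [hZfix hf x hx (hP hx)]; exact hP hx⟩
  have hZS : ∀ s ∈ S, ∀ z ∈ Z, s * z * s⁻¹ = z := fun s hs z hz => hZfix (fmap_conj F hZ.1 hs) z hz hz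
  have hDs := isSaturated_factor hS hsat hZs hD
  have hS'fin := finite_range (S' := S') hrange
  have hS'p := isPGroup_range hS (S' := S') hrange
  obtain ⟨Q, hQ, hQc, hQ1⟩ := stab_le_core hS hF
  have hZQ : Z ≤ Q := fun z hz => hQc.2 Q (isConj_refl F hQ.1) ⟨hZ.1 hz, mem_centralizer_iff'.2 fun y hy => by
    have h1 := hZS y (hQ.1 hy) z hz
    calc z * y * z⁻¹ = z * y * (y * z * y⁻¹)⁻¹ := by rw [h1]
      _ = z * y * y * z⁻¹ * y⁻¹ := by group
      _ = (y * z * y⁻¹) * y * y * z⁻¹ * y⁻¹ := by rw [h1]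
      _ = y * (z * y * z⁻¹) * y⁻¹ := by group
      _ = y := by
        have h2 : y * z = z * y := by rw [← mul_inv_eq_iff_eq_mul]; exact h1
        rw [← h2]; group⟩
  have hQn : D.IsNormal (imageAlong θ Q) := by
    refine (isNormal_iff D).2 ⟨im_le hrange, fun P' f' hf' => ?_⟩
    obtain ⟨hP', f, hf, h1⟩ := (fmap_factor_iff hD).1 hf'
    obtain ⟨g, hg, hg1, hg2⟩ := ((isNormal_iff F).1 hQ).2 _ f hf
    have hZP : Z ≤ preimageAlong θ P' ⊔ Q := hZQ.trans le_sup_right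
    obtain ⟨g', hg', h2⟩ := exists_induced hZs hD hZP hg
    have hPle : P' ⊔ imageAlong θ Q ≤ imageAlong θ (preimageAlong θ P' ⊔ Q) := by
      refine sup_le (fun y hy => ?_) (fun y hy => ?_)
      · obtain ⟨x, hx, rfl⟩ := exists_ev hrange (hP' hy)
        exact mem_im.2 ⟨x, Subgroup.mem_sup_left (mem_pre.2 ⟨hx, hy⟩), hx, rfl⟩
      · obtain ⟨x, hx, hxS, rfl⟩ := mem_im.1 hy
        exact mem_im.2 ⟨x, Subgroup.mem_sup_right hx, hxS, rfl⟩
    refine ⟨g', hg'.restrict hPle, fun y hy => ?_, ?_⟩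
    · obtain ⟨x, hx, rfl⟩ := exists_ev hrange (hP' hy)
      have hxp : x ∈ preimageAlong θ P' := mem_pre.2 ⟨hx, hy⟩
      rw [h2 x (Subgroup.mem_sup_left hxp), hg1 x hxp, h1 x hxp]
    · refine (hg'.restrict (le_sup_right.trans hPle)).fiso_of_card (im_le hrange) (fun y hy => ?_) le_rfl
      obtain ⟨x, hx, hxS, rfl⟩ := mem_im.1 hy
      rw [h2 x (Subgroup.mem_sup_right hx)]
      exact mem_im.2 ⟨g x, hg2.mem hx, hg2.le_right (hg2.mem hx), rfl⟩
  refine ⟨hDs, imageAlong θ Q, hQn, hQn.1, fun R' hR' => ?_⟩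
  obtain ⟨f, hf⟩ := isConj_iff_fiso.1 hR'
  have hle : R' ≤ imageAlong θ Q := by
    intro y hy
    obtain ⟨x, hx, rfl⟩ := hf.mem_iff.1 hy
    exact StronglyClosed.map_mem D (isNormal_stronglyClosed hQn) hf.1 hx hx
  have hfin2 : Finite ↥(imageAlong θ Q) := finite_of_le hQn.1
  rw [Subgroup.eq_of_le_of_card_ge hle (isConj_card_eq hR').le]
  intro y hy
  obtain ⟨s, hs, rfl⟩ := exists_ev hrange hy.1
  refine mem_im.2 ⟨s, hQ1 Z hZQ hZs s hs (fun q hq => ?_) (fun z hz => hZS s hs z hz), hs, rfl⟩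
  have hqS := hQ.1 hq
  have h1 := mem_centralizer_iff'.1 hy.2 (ev θ q) (mem_im.2 ⟨q, hq, hqS, rfl⟩)
  rw [← ev_conj hs hqS] at h1
  exact (ev_eq_iff hker hqS (S.mul_mem (S.mul_mem hs hqS) (S.inv_mem hs))).1 h1.symm

end Factor

/-! ### Group fusion systems -/

theorem groupFusionSystem_eq {G : Type*} [Group G] (S : Subgroup G) :
    groupFusionSystem S = fusionSystemOfSubgroup ⊤ S le_top := by
  rw [fusion_eq_iff_fmap]
  intro P f
  rw [fmap_group_iff, Cfsg.Agent.Lib.FusionNormalSubgroup.fmap_subgroup_iff]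
  simp

theorem isCentral_bot' : F.IsCentral ⊥ := Cfsg.Agent.Lib.FusionJoin.isCentral_bot F

/-- Isomorphic pairs of groups have isomorphic fusion systems. -/
theorem factor_of_equiv {G₁ G₂ : Type*} [Group G₁] [Group G₂] {H₁ T₁ : Subgroup G₁} {H₂ T₂ : Subgroup G₂}
    (h₁ : T₁ ≤ H₁) (h₂ : T₂ ≤ H₂) (e : H₁ ≃* H₂) (he : ∀ x : H₁, (x : G₁) ∈ T₁ ↔ ((e x : H₂) : G₂) ∈ T₂) :
    (fusionSystemOfSubgroup H₁ T₁ h₁).IsFactorSystem ⊥
      ((H₂.subtype.comp e.toMonoidHom).comp (Subgroup.inclusion h₁)) (fusionSystemOfSubgroup H₂ T₂ h₂) := by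
  set θ : T₁ →* G₂ := (H₂.subtype.comp e.toMonoidHom).comp (Subgroup.inclusion h₁) with hθ
  have hθ1 : ∀ x : T₁, θ x = e (Subgroup.inclusion h₁ x) := fun _ => rfl
  have hinj : Function.Injective θ := by
    intro x y hxy
    have h3 := e.injective (Subtype.ext hxy)
    exact Subtype.ext (congrArg (fun z : H₁ => (z : G₁)) h3)
  refine ⟨bot_le, fun s => ?_, ?_, ?_⟩
  · rw [Subgroup.mem_bot]
    constructor
    · intro h
      have := hinj (h.trans (map_one θ).symm)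
      exact congrArg Subtype.val this
    · intro h
      have : s = 1 := Subtype.ext h
      rw [this, map_one]
  · ext y
    constructor
    · rintro ⟨x, rfl⟩
      exact (he _).1 x.2
    · intro hy
      have h3 : ((e (e.symm ⟨y, h₂ hy⟩) : H₂) : G₂) ∈ T₂ := by rw [MulEquiv.apply_symm_apply]; exact hy
      refine ⟨⟨e.symm ⟨y, h₂ hy⟩, (he _).2 h3⟩, ?_⟩
      rw [hθ1]
      have h4 : Subgroup.inclusion h₁ ⟨(e.symm ⟨y, h₂ hy⟩ : H₁), (he _).2 h3⟩ = e.symm ⟨y, h₂ hy⟩ := Subtype.ext rfl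
      rw [h4, MulEquiv.apply_symm_apply]
  · intro P' φ'
    constructor
    · rintro ⟨hP', hφ', g, hg, h⟩
      refine ⟨hP', ?_⟩
      have hpre : ∀ x : ↥(preimageAlong θ P'), ∃ hx : (x : G₁) ∈ T₁, θ ⟨x, hx⟩ ∈ P' := fun x => by
        obtain ⟨y, hy, hyx⟩ := x.2
        have : (x : G₁) ∈ T₁ := hyx ▸ y.2
        refine ⟨this, ?_⟩
        have h5 : (⟨x, this⟩ : T₁) = y := Subtype.ext hyx.symm
        rw [h5]; exact hy
      set k : H₁ := e.symm ⟨g, hg⟩ with hk
      have hek : ((e k : H₂) : G₂) = g := by rw [hk, MulEquiv.apply_symm_apply]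
      have hkT : ∀ x : ↥(preimageAlong θ P'), (k : G₁) * x * (k : G₁)⁻¹ ∈ T₁ := by
        intro x
        obtain ⟨hx, hx'⟩ := hpre x
        have h6 := (he (k * ⟨x, h₁ hx⟩ * k⁻¹)).2 (by
          rw [map_mul, map_mul, map_inv]
          show (e k : G₂) * (e ⟨x, h₁ hx⟩ : H₂) * (e k : G₂)⁻¹ ∈ T₂
          rw [hek]
          have h7 := hφ' ⟨_, hx'⟩
          rw [h] at h7
          exact h7)
        exact h6
      refine ⟨conjHom _ (k : G₁), ⟨fun x hx => (hpre ⟨x, hx⟩).1, hkT, k, k.2, fun _ => rfl⟩,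
        fun x hx => (hpre ⟨x, hx⟩).1, hkT, fun x => (hpre x).2, fun x => ?_⟩
      rw [h]
      obtain ⟨hx, hx'⟩ := hpre x
      show g * θ ⟨x, _⟩ * g⁻¹ = θ ⟨(k : G₁) * x * (k : G₁)⁻¹, _⟩
      rw [hθ1, hθ1]
      have h6 : Subgroup.inclusion h₁ ⟨(k : G₁) * x * (k : G₁)⁻¹, hkT x⟩ = k * Subgroup.inclusion h₁ ⟨x, hx⟩ * k⁻¹ :=
        Subtype.ext rfl
      rw [h6, map_mul, map_mul, map_inv]
      show _ = (e k : G₂) * _ * (e k : G₂)⁻¹
      rw [hek]
    · rintro ⟨hP', φ, ⟨h3, h4, k, hk, h5⟩, h6, h7, h8, h9⟩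
      have hlift : ∀ y : P', ∃ x : ↥(preimageAlong θ P'), θ ⟨x, h6 x.2⟩ = y := by
        intro y
        have hy2 := hP' y.2
        have h3 : ((e (e.symm ⟨y, h₂ hy2⟩) : H₂) : G₂) ∈ T₂ := by rw [MulEquiv.apply_symm_apply]; exact hy2
        have h4' : θ ⟨e.symm ⟨y, h₂ hy2⟩, (he _).2 h3⟩ = y := by
          rw [hθ1]
          have h4 : Subgroup.inclusion h₁ ⟨(e.symm ⟨(y : G₂), h₂ hy2⟩ : H₁), (he _).2 h3⟩ = e.symm ⟨y, h₂ hy2⟩ :=
            Subtype.ext rfl
          rw [h4, MulEquiv.apply_symm_apply]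
        refine ⟨⟨(e.symm ⟨y, h₂ hy2⟩ : H₁), ⟨⟨_, (he _).2 h3⟩, ?_, rfl⟩⟩, h4'⟩
        show θ _ ∈ P'
        rw [h4']
        exact y.2
      have key : ∀ y : P', φ' y = (e ⟨k, hk⟩ : H₂) * (y : G₂) * (e ⟨k, hk⟩ : G₂)⁻¹ := by
        intro y
        obtain ⟨x, hx⟩ := hlift y
        have h10 := h9 x
        have h11 : (⟨θ ⟨x, h6 x.2⟩, h8 x⟩ : P') = y := Subtype.ext hx
        rw [h11] at h10
        rw [h10, hθ1]
        have h12 : Subgroup.inclusion h₁ ⟨φ x, h7 x⟩ = ⟨k, hk⟩ * Subgroup.inclusion h₁ ⟨x, h6 x.2⟩ * ⟨k, hk⟩⁻¹ := by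
          apply Subtype.ext
          show φ x = k * x * k⁻¹
          exact h5 x
        rw [h12, map_mul, map_mul, map_inv]
        show (e ⟨k, hk⟩ : G₂) * θ ⟨x, h6 x.2⟩ * (e ⟨k, hk⟩ : G₂)⁻¹ = _
        rw [hx]
      refine ⟨hP', fun y => ?_, (e ⟨k, hk⟩ : H₂), (e ⟨k, hk⟩).2, key⟩
      obtain ⟨x, hx⟩ := hlift y
      have h10 := h9 x
      have h11 : (⟨θ ⟨x, h6 x.2⟩, h8 x⟩ : P') = y := Subtype.ext hx
      rw [h11] at h10
      rw [h10]
      exact (he _).1 (h7 x)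

theorem constrained_of_equiv {G₁ G₂ : Type*} [Group G₁] [Group G₂] {H₁ T₁ : Subgroup G₁} {H₂ T₂ : Subgroup G₂}
    [Finite T₁] [Fact p.Prime] (hp : IsPGroup p T₁)
    (h₁ : T₁ ≤ H₁) (h₂ : T₂ ≤ H₂) (e : H₁ ≃* H₂) (he : ∀ x : H₁, (x : G₁) ∈ T₁ ↔ ((e x : H₂) : G₂) ∈ T₂)
    (hc : (fusionSystemOfSubgroup H₁ T₁ h₁).IsConstrained p) : (fusionSystemOfSubgroup H₂ T₂ h₂).IsConstrained p :=
  constrained_factor hp hc isCentral_bot' (factor_of_equiv h₁ h₂ e he)

/-- For a subnormal subgroup `H` of `G` the system of `H` on `S ∩ H` is constrained if that of `G` is. -/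
theorem constrained_of_subnormal {G : Type*} [Group G] [Finite G] [Fact p.Prime] (S : Sylow p G)
    (hF : (groupFusionSystem (S : Subgroup G)).IsConstrained p) (H : Subgroup G) (hH : H.IsSubnormal) :
    (fusionSystemOfSubgroup H ((S : Subgroup G) ⊓ H) inf_le_right).IsConstrained p ∧
      ∃ R : Sylow p H, (R : Subgroup H) = ((S : Subgroup G) ⊓ H).subgroupOf H := by
  induction hH with
  | top =>
    refine ⟨?_, ?_⟩
    · have h1 : (S : Subgroup G) ⊓ ⊤ = S := inf_top_eq _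
      have hc := hF
      rw [groupFusionSystem_eq] at hc
      refine constrained_of_equiv S.isPGroup' le_top inf_le_right (MulEquiv.refl _) (fun x => ?_) hc
      rw [h1]
      rfl
    · exact Cfsg.Agent.Lib.FusionNormalSubgroup.exists_sylow_inf S ⊤
  | step H K hle hK hN ih =>
    obtain ⟨hc, R, hR⟩ := ih
    have hN' : (H.subgroupOf K).Normal := hN
    -- in K
    have hRK : (R : Subgroup K) = (S : Subgroup G).subgroupOf K := by
      rw [hR]; ext x; simp [Subgroup.mem_subgroupOf]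
    have hp1 : IsPGroup p ↥((S : Subgroup G) ⊓ K) := isPGroup_of_le S.isPGroup' inf_le_left
    have hc1 : (groupFusionSystem (R : Subgroup K)).IsConstrained p := by
      rw [groupFusionSystem_eq]
      refine constrained_of_equiv hp1 inf_le_right le_top (Subgroup.topEquiv.symm) (fun x => ?_) hc
      rw [hR]
      show (x : G) ∈ (S : Subgroup G) ⊓ K ↔ ((Subgroup.topEquiv.symm x : (⊤ : Subgroup K)) : K) ∈
        ((S : Subgroup G) ⊓ K).subgroupOf K
      rw [Subgroup.mem_subgroupOf]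
      rfl
    have hn := Cfsg.Agent.Lib.FusionNormalSubgroup.isNormalIn (p := p) R (H.subgroupOf K)
    have hc2 := constrained_weaklyNormal R.isPGroup' hc1 hn.1
    have hp2 : IsPGroup p ↥((R : Subgroup K) ⊓ H.subgroupOf K) := isPGroup_of_le R.isPGroup' inf_le_left
    refine ⟨?_, ?_⟩
    · refine constrained_of_equiv hp2 inf_le_right inf_le_right (Subgroup.subgroupOfEquivOfLe hle) (fun x => ?_) hc2
      rw [hRK]
      show ((x : K) ∈ (S : Subgroup G).subgroupOf K ∧ (x : K) ∈ H.subgroupOf K) ↔ _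
      rw [Subgroup.mem_subgroupOf, Subgroup.mem_subgroupOf]
      exact Iff.rfl
    · obtain ⟨R₂, hR₂⟩ := Cfsg.Agent.Lib.FusionNormalSubgroup.exists_sylow_inf R (H.subgroupOf K)
      obtain ⟨ϕ, hϕ⟩ : ∃ ϕ : H →* (H.subgroupOf K), ϕ = (Subgroup.subgroupOfEquivOfLe hle).symm.toMonoidHom := ⟨_, rfl⟩
      have hinj : Function.Injective ϕ := hϕ ▸ (Subgroup.subgroupOfEquivOfLe hle).symm.injective
      have hsurj : Function.Surjective ϕ := hϕ ▸ (Subgroup.subgroupOfEquivOfLe hle).symm.surjective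
      have hcoe : ∀ x : H, ((ϕ x : K) : G) = x := fun x => by rw [hϕ]; rfl
      have hr : (R₂ : Subgroup (H.subgroupOf K)) ≤ ϕ.range := by rw [MonoidHom.range_eq_top.2 hsurj]; exact le_top
      refine ⟨R₂.comapOfInjective ϕ hinj hr, ?_⟩
      ext x
      rw [Sylow.coe_comapOfInjective, Subgroup.mem_comap, hR₂, hRK]
      simp only [Subgroup.mem_subgroupOf, Subgroup.mem_inf, hcoe]

/-- The same with the system of `H` read in `H`. -/
theorem constrained_subgroup {G : Type*} [Group G] [Finite G] [Fact p.Prime] (S : Sylow p G)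
    (hF : (groupFusionSystem (S : Subgroup G)).IsConstrained p) (H : Subgroup G) (hH : H.IsSubnormal) :
    (groupFusionSystem ((S : Subgroup G).subgroupOf H)).IsConstrained p ∧
      ∃ R : Sylow p H, (R : Subgroup H) = (S : Subgroup G).subgroupOf H := by
  obtain ⟨hc, R, hR⟩ := constrained_of_subnormal S hF H hH
  have hRH : (R : Subgroup H) = (S : Subgroup G).subgroupOf H := by
    rw [hR]; ext x; simp [Subgroup.mem_subgroupOf]
  refine ⟨?_, R, hRH⟩
  have hp1 : IsPGroup p ↥((S : Subgroup G) ⊓ H) := isPGroup_of_le S.isPGroup' inf_le_left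
  rw [groupFusionSystem_eq]
  refine constrained_of_equiv hp1 inf_le_right le_top (Subgroup.topEquiv.symm) (fun x => ?_) hc
  show (x : G) ∈ (S : Subgroup G) ⊓ H ↔ ((Subgroup.topEquiv.symm x : (⊤ : Subgroup H)) : H) ∈
    (S : Subgroup G).subgroupOf H
  rw [Subgroup.mem_subgroupOf]
  exact ⟨fun h => h.1, fun h => ⟨h, x.2⟩⟩

end Cfsg.Agent.Lib.FusionConstr
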