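import Mathlib
import Cfsg.Agent.Lib.FusionMeet5

/-!
Transitivity of normality for invariant subsystems.
-/

set_option autoImplicit false
open Cfsg Cfsg.FusionSystem Cfsg.Agent.Lib.FusionBasic Cfsg.Agent.Lib.FusionSat Cfsg.Agent.Lib.FusionNormal
  Cfsg.Agent.Lib.FusionInvar Cfsg.Agent.Lib.FusionTools Cfsg.Agent.Lib.FusionPP Cfsg.Agent.Lib.FusionStrong
  Cfsg.Agent.Lib.FusionSys Cfsg.Agent.Lib.FusionFrat Cfsg.Agent.Lib.FusionPrime Cfsg.Agent.Lib.FusionTC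
  Cfsg.Agent.Lib.FusionClosed Cfsg.Agent.Lib.FusionStab Cfsg.Agent.Lib.FusionZeta Cfsg.Agent.Lib.FusionCenClosed
  Cfsg.Agent.Lib.FusionLemD Cfsg.Agent.Lib.FusionMeet Cfsg.Agent.Lib.FusionMeet2 Cfsg.Agent.Lib.FusionMeet3
  Cfsg.Agent.Lib.FusionCenNormal Cfsg.Agent.Lib.FusionMeet4 Cfsg.Agent.Lib.FusionMeet5
open Cfsg.Agent.Lib.FusionPIdx (le_normalizer_sup le_normalizer_of_conj map_resid_conj mem_map_resid)

namespace Cfsg.Agent.Lib.FusionTR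

variable {Ω : Type*} [Group Ω] {S T R : Subgroup Ω} {F : FusionSystem S} {E : FusionSystem T} {D : FusionSystem R}
  {P Q U M X Y Z P₁ N : Subgroup Ω} {a b f g k θ κ ψ : Ω → Ω} {p : ℕ}

/-- `E` is invariant under the automorphisms of `R` in `F` -/
def AutInv (F : FusionSystem S) (R : Subgroup Ω) (E : FusionSystem T) : Prop :=
  (∀ σ, FIso F R R σ → ∀ x ∈ T, σ x ∈ T) ∧ ∀ (P Q : Subgroup Ω) (σ f : Ω → Ω), FIso F R R σ → FMap E P f →
    (∀ y, y ∈ Q ↔ ∃ x ∈ P, σ x = y) → ∃ g, FMap E Q g ∧ ∀ x ∈ P, g (σ x) = σ (f x)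

theorem trans_strongInv [Finite S] (hED : Inv E D) (hDF : Inv D F) (hinv : AutInv F R E) : StrongInv F E := by
  intro P Q W f g hPQ hQT hf hfQ hg hW
  have hTR : T ≤ R := hED.closed.1
  obtain ⟨σ, g₀, hσ, hg₀, h1⟩ := hDF.frattini (hQT.trans hTR) hg
  obtain ⟨W₀, hW₀⟩ := (hg₀.restrict hPQ).exists_iso
  obtain ⟨k₀, hk₀, h2⟩ := (FusionFrat.Inv.strong hED) P Q W₀ f g₀ hPQ hQT hf hfQ hg₀ (fun y => hW₀.mem_iff)
  obtain ⟨k, hk, h3⟩ := hinv.2 W₀ W σ k₀ hσ hk₀ (fun y => by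
    rw [hW y]
    constructor
    · rintro ⟨x, hx, rfl⟩
      exact ⟨g₀ x, hW₀.mem hx, (h1 x (hPQ hx)).symm⟩
    · rintro ⟨z, hz, rfl⟩
      obtain ⟨x, hx, rfl⟩ := hW₀.mem_iff.1 hz
      exact ⟨x, hx, h1 x (hPQ hx)⟩)
  refine ⟨k, hk, fun x hx => ?_⟩
  rw [h1 x (hPQ hx), h3 _ (hW₀.mem hx), h2 x hx, h1 _ (hfQ x hx)]

theorem trans_closed [Finite S] (hED : Inv E D) (hDF : Inv D F) (hinv : AutInv F R E) : F.StronglyClosed T := by
  have hTR : T ≤ R := hED.closed.1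
  rw [stronglyClosed_iff]
  refine ⟨hTR.trans hDF.closed.1, fun P f hP hf x hx => ?_⟩
  obtain ⟨σ, g₀, hσ, hg₀, h1⟩ := hDF.frattini (hP.trans hTR) hf
  rw [h1 x hx]
  exact hinv.1 σ hσ _ (StronglyClosed.map_mem D hED.closed hg₀ hx (hP hx))

theorem trans_ext [Finite S] [Fact p.Prime] (hS : IsPGroup p S) (hF : F.IsSaturated p) (hDs : D.IsSaturated p)
    (hEs : E.IsSaturated p) (hED : Inv E D) (hEDx : Ext E D) (hDF : Inv D F) (hDFx : Ext D F) (hE : Inv E F) :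
    Ext E F := by
  refine ext_of_pp hS hF hEs hE fun f hf => ?_
  have hT := hE.closed
  have hR := hDF.closed
  have hTR : T ≤ R := hED.closed.1
  have hRfin : Finite R := finite_of_le hR.1
  have hRp : IsPGroup p R := isPGroup_of_le hS hR.1
  have hTc : F.IsFullyCentralized T :=
    isFullyCentralized_of_receptive (receptive_of_fullyNormalized hS hF (fullyNormalized_of_stronglyClosed hT))
  obtain ⟨f₁, hf₁, hf11, hf12⟩ := extZ_pp (pp_sub hED.sub hf) (extZ_all hRp hDs hEs hED hEDx T f (tc_self hED.closed) hf.1)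
  obtain ⟨Q, hQ⟩ : ∃ Q, Q = T ⊔ centralizerIn R T := ⟨_, rfl⟩
  have hQTC : TC F R Q := hQ ▸ tc_cent hS hF hR hTR hTc
  rw [← hQ] at hf₁
  obtain ⟨f₂, hf₂, hf21, hf22⟩ := extZ_pp (pp_sub hDF.sub hf₁) (extZ_all hS hF hDs hDF hDFx Q f₁ hQTC hf₁.1)
  obtain ⟨M, hM⟩ : ∃ M, M = Q ⊔ centralizerIn S Q := ⟨_, rfl⟩
  rw [← hM] at hf₂
  have hTQ : T ≤ Q := hQ ▸ le_sup_left
  have hCQ : centralizerIn R T ≤ Q := hQ ▸ le_sup_right
  have hQR : Q ≤ R := hQTC.1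
  have hQM : Q ≤ M := hM ▸ le_sup_left
  have hCM : centralizerIn S Q ≤ M := hM ▸ le_sup_right
  have hMS : M ≤ S := hf₂.le
  have hTM : T ≤ M := hTQ.trans hQM
  have hTn := normalizes_of_stronglyClosed hT
  have hRn := normalizes_of_stronglyClosed hR
  -- normalization
  have hQn : ∀ s ∈ S, ∀ x ∈ Q, s * x * s⁻¹ ∈ Q := by
    intro s hs x hx
    have h1 : Q ≤ Q.comap (MulAut.conj s).toMonoidHom := by
      rw [hQ]
      refine sup_le (fun y hy => Subgroup.mem_sup_left ((Subgroup.mem_normalizer_iff.1 (hTn hs) y).1 hy)) (fun y hy => ?_)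
      exact Subgroup.mem_sup_right ⟨(Subgroup.mem_normalizer_iff.1 (hRn hs) y).1 hy.1,
        (conj_cent (S := S) (P := T) ⟨hs, hTn hs⟩ ⟨hR.1 hy.1, hy.2⟩).2⟩
    exact h1 hx
  have hQnm : S ≤ Subgroup.normalizer (Q : Set Ω) := le_normalizer_of_conj hQn
  have hMnm : S ≤ Subgroup.normalizer (M : Set Ω) := fun s hs => hM ▸ cent_norm (S := S) (P := Q) ⟨hs, hQnm hs⟩
  have hQfn : F.IsFullyNormalized Q := fullyNormalized_of_normalizes (hQR.trans hR.1) hQnm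
  have hQc : F.IsFullyCentralized Q := isFullyCentralized_of_receptive (receptive_of_fullyNormalized hS hF hQfn)
  have hMr : F.IsReceptive M := hM ▸ receptive_of_centric hS hF (centric_cent hQc)
  have hMa := fullyAutomized_of_fullyNormalized hS hF (fullyNormalized_of_normalizes hMS hMnm)
  have hsT : ∀ g, FIso F M M g → ∀ x ∈ T, g x ∈ T := fun g hg x hx => StronglyClosed.map_mem F hT hg.1 (hTM hx) hx
  have hsQ : ∀ g, FIso F M M g → ∀ x ∈ Q, g x ∈ Q := by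
    intro g hg x hx
    have hgT : FIso F T T g := fiso_restrict hg.1 hTM (hsT g hg)
    have h1 : T ⊔ centralizerIn R T ≤ M := hQ ▸ hQM
    rw [hQ] at hx ⊢
    have h3 : ∀ c ∈ centralizerIn R T, g c ∈ centralizerIn R T := fun c hc =>
      ⟨StronglyClosed.map_mem F hR hg.1 (h1 (Subgroup.mem_sup_right hc)) hc.1,
        hgT.map_centralizer hg.1 hTM (h1 (Subgroup.mem_sup_right hc)) hc.2⟩
    exact map_sup_mem (hg.1.restrict h1) (fun x hx => Subgroup.mem_sup_left (hgT.mem hx)) (fun c hc =>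
      Subgroup.mem_sup_right (h3 c hc)) x hx
  -- commutators
  have hf₁T : ∀ x ∈ T, f₁ x ∈ T := fun x hx => by rw [hf11 x hx]; exact hf.mem hx
  have hm1 : ∀ x ∈ Q, x⁻¹ * f₁ x ∈ T := by
    have := move_sup (F := D) (P := T) (Q := centralizerIn R T) (hQ ▸ hf₁.map) hf₁T hf12
      (fun c hc => (centralizerIn_le_normalizerIn R T hc).2)
    rw [hQ]; exact this
  have hm2 : ∀ x ∈ M, x⁻¹ * f₂ x ∈ Q := by
    have := move_sup (F := F) (P := Q) (Q := centralizerIn S Q) (hM ▸ hf₂.map) (fun x hx => by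
      rw [hf21 x hx]; exact hf₁.mem hx) hf22 (fun c hc => (centralizerIn_le_normalizerIn S Q hc).2)
    rw [hM]; exact this
  have hm1' : ∀ x ∈ Q, x⁻¹ * f₂ x ∈ T := fun x hx => by rw [hf21 x hx]; exact hm1 x hx
  obtain ⟨f₂', hf₂', e1, e2⟩ := hf₂.1.symm
  have hf₂'T : ∀ x ∈ T, f₂' x ∈ T := hsT f₂' hf₂'
  have hf₂'Q : ∀ x ∈ Q, f₂' x ∈ Q := hsQ f₂' hf₂'
  have hVS : centralizerIn S T ≤ S := centralizerIn_le S T
  have hvi : ∀ v ∈ S, FIso F M M (fun x => v * x * v⁻¹) := fun v hv =>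
    fiso_restrict (fmap_conj F hMS hv) le_rfl fun x hx => (Subgroup.mem_normalizer_iff.1 (hMnm hv) x).1 hx
  have hact : centralizerIn S T ≤ actSub hf₂.1 (centralizerIn S T) := by
    intro v hv
    have hγ : FIso F M M (fun x => v⁻¹ * f₂ (v * f₂' x * v⁻¹) * v⁻¹⁻¹) :=
      ((hf₂'.trans (hvi v hv.1)).trans hf₂.1).trans (hvi v⁻¹ (S.inv_mem hv.1))
    have hvc : ∀ t ∈ T, v * t * v⁻¹ = t := fun t ht => mem_centralizer_iff'.1 hv.2 t ht
    have hvc' : ∀ t ∈ T, v⁻¹ * t * v⁻¹⁻¹ = t := fun t ht =>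
      mem_centralizer_iff'.1 (Subgroup.inv_mem _ hv.2) t ht
    obtain ⟨s, hs, h1⟩ := chain3 hS hMa (P := T) (P₁ := Q) hTQ hQM hsT hsQ hγ (fun x hx => by
        show v⁻¹ * f₂ (v * f₂' x * v⁻¹) * v⁻¹⁻¹ = x
        rw [hvc _ (hf₂'T x hx), e2 x (hTM hx), hvc' x hx]) (fun x hx => by
        show x⁻¹ * (v⁻¹ * f₂ (v * f₂' x * v⁻¹) * v⁻¹⁻¹) ∈ T
        have hy := hf₂'Q x hx
        have hz := hQn v hv.1 _ hy
        have h2 := hm1' _ hz
        have h3 := hm1' _ hy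
        rw [e2 x (hQM hx)] at h3
        have h4 : x⁻¹ * (v⁻¹ * f₂ (v * f₂' x * v⁻¹) * v⁻¹⁻¹) = ((f₂' x)⁻¹ * x)⁻¹ *
            (v⁻¹ * ((v * f₂' x * v⁻¹)⁻¹ * f₂ (v * f₂' x * v⁻¹)) * v⁻¹⁻¹) := by group
        rw [h4, hvc' _ h2]
        exact T.mul_mem (T.inv_mem h3) h2) (fun x hx => by
        show x⁻¹ * (v⁻¹ * f₂ (v * f₂' x * v⁻¹) * v⁻¹⁻¹) ∈ Q
        have hy := hf₂'.mem hx
        have hz : v * f₂' x * v⁻¹ ∈ M := (hvi v hv.1).mem hy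
        have h2 := hQn v⁻¹ (S.inv_mem hv.1) _ (hm2 _ hz)
        have h3 := hm2 _ hy
        rw [e2 x hx] at h3
        have h4 : x⁻¹ * (v⁻¹ * f₂ (v * f₂' x * v⁻¹) * v⁻¹⁻¹) = ((f₂' x)⁻¹ * x)⁻¹ *
            (v⁻¹ * ((v * f₂' x * v⁻¹)⁻¹ * f₂ (v * f₂' x * v⁻¹)) * v⁻¹⁻¹) := by group
        rw [h4]
        exact Q.mul_mem (Q.inv_mem h3) h2)
    have hsV : s ∈ centralizerIn S T := ⟨hs.1, mem_centralizer_iff'.2 fun x hx => by
      rw [← h1 x (hTM hx)]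
      show v⁻¹ * f₂ (v * f₂' x * v⁻¹) * v⁻¹⁻¹ = x
      rw [hvc _ (hf₂'T x hx), e2 x (hTM hx), hvc' x hx]⟩
    refine mem_actSub.2 ⟨hMnm hv.1, v * s, mul_mem hv hsV, fun x hx => ?_⟩
    have h2 := h1 (f₂ x) (hf₂.mem hx)
    have h3 : v⁻¹ * f₂ (v * f₂' (f₂ x) * v⁻¹) * v⁻¹⁻¹ = s * f₂ x * s⁻¹ := h2
    rw [e1 x hx] at h3
    calc f₂ (v * x * v⁻¹) = v * (v⁻¹ * f₂ (v * x * v⁻¹) * v⁻¹⁻¹) * v⁻¹ := by group
      _ = _ := by rw [h3]; group
  have hCMV : centralizerIn S M ≤ centralizerIn S T := fun c hc =>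
    ⟨hc.1, mem_centralizer_iff'.2 fun x hx => mem_centralizer_iff'.1 hc.2 x (hTM hx)⟩
  obtain ⟨σ, hσ, hσ1, hσV⟩ := ext_grp_pp hMr hf₂ hVS hCMV hact
  have hMW : M ≤ M ⊔ centralizerIn S T := le_sup_left
  have hVW : centralizerIn S T ≤ M ⊔ centralizerIn S T := le_sup_right
  refine ⟨σ, hσ.map.restrict (sup_le (hTM.trans hMW) hVW), fun x hx => ?_, fun v hv => ?_⟩
  · rw [hσ1 x (hTM hx), hf21 x (hTQ hx), hf11 x hx]
  -- the commutator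
  have hwV : v⁻¹ * σ v ∈ centralizerIn S T := mul_mem (inv_mem hv) (hσV v hv)
  obtain ⟨f₁', hf₁', d1, d2⟩ := hf₁.1.symm
  have hvQ : FIso F Q Q (fun x => v⁻¹ * x * v⁻¹⁻¹) :=
    fiso_restrict (fmap_conj F (hQR.trans hR.1) (S.inv_mem hv.1)) le_rfl (hQn _ (S.inv_mem hv.1))
  have hwE : FMap D Q (fun x => v⁻¹ * σ v * x * (v⁻¹ * σ v)⁻¹) := by
    have h1 := (FusionFrat.Inv.strong hDF).transport hQR hvQ (g := fun x => v * x * v⁻¹) (fun x _ => by group) hf₁.1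
    refine ((hf₁'.1).comp h1 fun x hx => hf₁'.mem hx).congr fun x hx => ?_
    have hx' := hf₁'.mem hx
    show v⁻¹ * f₁ (v * f₁' x * v⁻¹) * v⁻¹⁻¹ = _
    have h2 : f₁ (v * f₁' x * v⁻¹) = σ v * x * (σ v)⁻¹ := by
      have h3 := hQn v hv.1 _ hx'
      rw [← hf21 _ h3, ← hσ1 _ (hQM h3), hσ.map.map_conj (hVW hv) (hMW (hQM hx')), hσ1 _ (hQM hx'), hf21 _ hx', d2 x hx]
    rw [h2]
    group
  obtain ⟨t, ht, h2⟩ := lemmaW hS hF hDs hDF hQR hQfn le_rfl (le_normalizerIn hQR) (fun s hs x hx => hQn s hs.1 x hx)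
    ⟨hwV.1, hQnm hwV.1⟩ hwE
  have htT : t ∈ centralizerIn R T := ⟨ht.1, mem_centralizer_iff'.2 fun x hx => by
    rw [← h2 x (hTQ hx)]; exact mem_centralizer_iff'.1 hwV.2 x hx⟩
  have hcS : t⁻¹ * (v⁻¹ * σ v) ∈ centralizerIn S Q := by
    refine ⟨S.mul_mem (S.inv_mem (hR.1 ht.1)) hwV.1, mem_centralizer_iff'.2 fun x hx => ?_⟩
    calc t⁻¹ * (v⁻¹ * σ v) * x * (t⁻¹ * (v⁻¹ * σ v))⁻¹ = t⁻¹ * (v⁻¹ * σ v * x * (v⁻¹ * σ v)⁻¹) * t := by group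
      _ = x := by rw [h2 x hx]; group
  have hwM : v⁻¹ * σ v ∈ M := by
    have := M.mul_mem (hQM (hCQ htT)) (hCM hcS)
    rwa [mul_inv_cancel_left] at this
  have hwQ := PP.step hS hσ (Y := M) (Z := Q) hMW hQM (fun y hy z hz => by
    have := hQn y⁻¹ (S.inv_mem (hMS hy)) z hz
    rwa [inv_inv] at this) (hVW hv) hwM (fun y hy => by rw [hσ1 y hy]; exact hm2 y hy)
  exact PP.step hS hσ (Y := Q) (Z := T) (hQM.trans hMW) hTQ (fun y hy z hz => by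
    have := (Subgroup.mem_normalizer_iff.1 (hTn (S.inv_mem (hMS (hQM hy)))) z).1 hz
    rwa [inv_inv] at this) (hVW hv) hwQ (fun y hy => by rw [hσ1 y (hQM hy)]; exact hm1' y hy)

/-- **Transitivity**: a normal subsystem of a normal subsystem `D` over `R` which is invariant under `Aut_F(R)` is normal. -/
theorem trans_normal [Finite S] [Fact p.Prime] (hS : IsPGroup p S) (hE : E.IsNormalIn D p) (hD : D.IsNormalIn F p)
    (hinv : AutInv F R E) : E.IsNormalIn F p := by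
  obtain ⟨hEs, hDs, hED, hEDx⟩ := isNormalIn_iff.1 hE
  obtain ⟨-, hF, hDF, hDFx⟩ := isNormalIn_iff.1 hD
  have hEF : Inv E F := StrongInv.inv hS hF (trans_closed hED hDF hinv) (sub_trans hED.sub hDF.sub)
    (trans_strongInv hED hDF hinv)
  exact isNormalIn_iff.2 ⟨hEs, hF, hEF, trans_ext hS hF hDs hEs hED hEDx hDF hDFx hEF⟩

end Cfsg.Agent.Lib.FusionTR
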