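import Mathlib
import Cfsg.Agent.Lib.FusionTR

/-!
A normal subsystem equal to its focal part commutes with strongly closed subgroups meeting it centrally.
-/

set_option autoImplicit false
open Cfsg Cfsg.FusionSystem Cfsg.Agent.Lib.FusionBasic Cfsg.Agent.Lib.FusionSat Cfsg.Agent.Lib.FusionNormal
  Cfsg.Agent.Lib.FusionInvar Cfsg.Agent.Lib.FusionTools Cfsg.Agent.Lib.FusionPP Cfsg.Agent.Lib.FusionStrong
  Cfsg.Agent.Lib.FusionSys Cfsg.Agent.Lib.FusionFrat Cfsg.Agent.Lib.FusionPrime Cfsg.Agent.Lib.FusionTC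
  Cfsg.Agent.Lib.FusionClosed Cfsg.Agent.Lib.FusionStab Cfsg.Agent.Lib.FusionZeta Cfsg.Agent.Lib.FusionCenClosed
  Cfsg.Agent.Lib.FusionLemD Cfsg.Agent.Lib.FusionMeet Cfsg.Agent.Lib.FusionMeet2 Cfsg.Agent.Lib.FusionMeet3
  Cfsg.Agent.Lib.FusionCenNormal Cfsg.Agent.Lib.FusionMeet4 Cfsg.Agent.Lib.FusionMeet5
open Cfsg.Agent.Lib.FusionPIdx (le_normalizer_sup le_normalizer_of_conj map_resid_conj mem_map_resid)

namespace Cfsg.Agent.Lib.FusionPerp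

variable {Ω : Type*} [Group Ω] {S T V : Subgroup Ω} {F : FusionSystem S} {E : FusionSystem T} {L : FusionSystem V}
  {P Q U M X Y Z P₁ N : Subgroup Ω} {a b f g k θ κ ψ : Ω → Ω} {p : ℕ}

theorem comm_mem (hT : F.StronglyClosed T) (hV : F.StronglyClosed V) {t x : Ω} (ht : t ∈ T) (hx : x ∈ V) :
    x⁻¹ * (t * x * t⁻¹) ∈ V ⊓ T := by
  have h1 := (Subgroup.mem_normalizer_iff.1 (normalizes_of_stronglyClosed hT (S.inv_mem (hV.1 hx))) t).1 ht
  rw [inv_inv] at h1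
  have h2 := (Subgroup.mem_normalizer_iff.1 (normalizes_of_stronglyClosed hV (hT.1 ht)) x).1 hx
  refine ⟨V.mul_mem (V.inv_mem hx) h2, ?_⟩
  have h3 : x⁻¹ * (t * x * t⁻¹) = x⁻¹ * t * x * t⁻¹ := by group
  rw [h3]
  exact T.mul_mem h1 (T.inv_mem ht)

/-- automorphisms of order prime to `p` of fully normalized centric subgroups extend, fixing `T` -/
theorem step_fn [Finite S] [Fact p.Prime] (hS : IsPGroup p S) (hF : F.IsSaturated p) (hLs : L.IsSaturated p)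
    (hL : Inv L F) (hLx : Ext L F) (hT : F.StronglyClosed T) (hfix : ∀ P f, FMap L P f → ∀ x ∈ P, x ∈ T → f x = x)
    (hTC : TC F V P) (hP : F.IsFullyNormalized P) (ha : PP L p P a) : Fix F T P a := by
  have hV := hL.closed
  have hPV := hTC.1
  have hPS := hP.1
  have hPa := automized_receptive_of_fullyNormalized hS hF hP
  have hPc := isFullyCentralized_of_receptive hPa.2
  have hZc : ∀ z ∈ V ⊓ T, ∀ v ∈ V, v * z * v⁻¹ = z := fun z hz v hv => hfix V _ (fmap_conj L le_rfl hv) z hz.1 hz.2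
  have hZP : V ⊓ T ≤ P := fun z hz => hTC.cent hV ⟨hz.1, mem_centralizer_iff'.2 fun x hx => by
    have := hZc z hz x (hPV hx)
    calc z * x * z⁻¹ = (x * z * x⁻¹) * x * z⁻¹ := by rw [this]
      _ = x := by group⟩
  have haF : PP F p P a := pp_sub hL.sub ha
  obtain ⟨a₁, ha₁, h11, h12⟩ := extZ_pp haF (extZ_all hS hF hLs hL hLx P a hTC ha.1)
  obtain ⟨M, hM⟩ : ∃ M, M = P ⊔ centralizerIn S P := ⟨_, rfl⟩
  rw [← hM] at ha₁
  have hPM : P ≤ M := hM ▸ le_sup_left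
  have hCM : centralizerIn S P ≤ M := hM ▸ le_sup_right
  have hMN : M ≤ normalizerIn S P := hM ▸ sup_le (le_normalizerIn hPS) (centralizerIn_le_normalizerIn S P)
  have hMS : M ≤ S := ha₁.le
  have hMr : F.IsReceptive M := hM ▸ receptive_of_centric hS hF (centric_cent hPc)
  have hTN : ∀ t ∈ T, t ∈ normalizerIn S P := fun t ht => ⟨hT.1 ht, by
    refine le_normalizer_of_conj (H := T) (fun s hs x hx => ?_) ht
    have := P.mul_mem hx (hZP (comm_mem hT hV hs (hPV hx)))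
    rwa [mul_inv_cancel_left] at this⟩
  have hnM : ∀ s ∈ normalizerIn S P, s ∈ Subgroup.normalizer (M : Set Ω) := fun s hs => hM ▸ cent_norm hs
  -- the group `G`
  let G : Subgroup Ω :=
    { carrier := {s | s ∈ normalizerIn S P ∧ ∀ x ∈ P, x⁻¹ * (s * x * s⁻¹) ∈ V ⊓ T}
      one_mem' := ⟨one_mem _, fun x _ => by simp [Subgroup.one_mem]⟩
      mul_mem' := by
        rintro s t ⟨h1, h2⟩ ⟨k1, k2⟩
        refine ⟨mul_mem h1 k1, fun x hx => ?_⟩
        have hx' : t * x * t⁻¹ ∈ P := (Subgroup.mem_normalizer_iff.1 k1.2 x).1 hx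
        have h3 := (V ⊓ T).mul_mem (k2 x hx) (h2 _ hx')
        have h4 : x⁻¹ * (t * x * t⁻¹) * ((t * x * t⁻¹)⁻¹ * (s * (t * x * t⁻¹) * s⁻¹)) = x⁻¹ * (s * t * x * (s * t)⁻¹) := by
          group
        rwa [h4] at h3
      inv_mem' := by
        rintro s ⟨h1, h2⟩
        refine ⟨inv_mem h1, fun x hx => ?_⟩
        have hx' : s⁻¹ * x * s ∈ P := by
          have := (Subgroup.mem_normalizer_iff.1 (Subgroup.inv_mem _ h1.2) x).1 hx
          rwa [inv_inv] at this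
        have h3 := (V ⊓ T).inv_mem (h2 _ hx')
        have h4 : ((s⁻¹ * x * s)⁻¹ * (s * (s⁻¹ * x * s) * s⁻¹))⁻¹ = x⁻¹ * (s⁻¹ * x * s⁻¹⁻¹) := by group
        rwa [h4] at h3 }
  have hGS : G ≤ S := fun s hs => hs.1.1
  have hTG : T ≤ G := fun t ht => ⟨hTN t ht, fun x hx => comm_mem hT hV ht (hPV hx)⟩
  have hCMG : centralizerIn S M ≤ G := by
    intro c hc
    have h1 : ∀ x ∈ P, c * x * c⁻¹ = x := fun x hx => mem_centralizer_iff'.1 hc.2 x (hPM hx)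
    refine ⟨centralizerIn_le_normalizerIn S P ⟨hc.1, mem_centralizer_iff'.2 h1⟩, fun x hx => ?_⟩
    rw [h1 x hx, inv_mul_cancel]; exact Subgroup.one_mem _
  -- data on `a₁`
  obtain ⟨a₁', ha₁', e1, e2⟩ := ha₁.1.symm
  have hP₁ : FIso F P P a₁ := fiso_restrict ha₁.map hPM fun x hx => by rw [h11 x hx]; exact ha.mem hx
  have hC₁ : FIso F (centralizerIn S P) (centralizerIn S P) a₁ := fiso_restrict ha₁.map hCM fun c hc =>
    ⟨ha₁.map.map_mem (hCM hc), hP₁.map_centralizer ha₁.map hPM (hCM hc) hc.2⟩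
  have hP₁' : ∀ x ∈ P, a₁' x ∈ P := fun x hx => by
    obtain ⟨y, hy, rfl⟩ := hP₁.mem_iff.1 hx
    rw [e1 y (hPM hy)]; exact hy
  have hZ₁ : ∀ z ∈ V ⊓ T, a₁ z = z := fun z hz => by rw [h11 z (hZP hz)]; exact hfix P a ha.map z (hZP hz) hz.2
  have hZ₁' : ∀ z ∈ V ⊓ T, a₁' z = z := fun z hz => by
    have := e1 z (hPM (hZP hz))
    rwa [hZ₁ z hz] at this
  have hZcl : ∀ s ∈ S, ∀ z ∈ V ⊓ T, s * z * s⁻¹ ∈ V ⊓ T := fun s hs z hz =>
    ⟨(Subgroup.mem_normalizer_iff.1 (normalizes_of_stronglyClosed hV hs) z).1 hz.1,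
      (Subgroup.mem_normalizer_iff.1 (normalizes_of_stronglyClosed hT hs) z).1 hz.2⟩
  have hm1 : ∀ x ∈ M, x⁻¹ * a₁ x ∈ P := by
    have := move_sup (F := F) (P := P) (Q := centralizerIn S P) (hM ▸ ha₁.map) (fun x hx => hP₁.mem hx) h12
      (fun c hc => (centralizerIn_le_normalizerIn S P hc).2)
    rw [hM]; exact this
  -- the normalizer system
  have hNs : (normSys F P hPS).IsSaturated p := normSys_saturated hS hF hP
  have hNp : IsPGroup p ↥(normalizerIn S P) := isPGroup_of_le hS (normalizerIn_le S P)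
  have hNfin : Finite ↥(normalizerIn S P) := finite_of_le (normalizerIn_le S P)
  have hMfn : (normSys F P hPS).IsFullyNormalized M := fullyNormalized_of_normalizes hMN hnM
  have hMa := fullyAutomized_of_fullyNormalized hNp hNs hMfn
  have hsP : ∀ f, FIso (normSys F P hPS) M M f → ∀ x ∈ P, f x ∈ P := by
    intro f hf x hx
    obtain ⟨-, -, f', hf', h7, h8⟩ := (fmap_normSys (hX := hPS)).1 hf.1
    rw [← h7 x (hPM hx)]
    exact h8.mem hx
  have hsZ : ∀ f, FIso (normSys F P hPS) M M f → ∀ x ∈ V ⊓ T, f x ∈ V ⊓ T := by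
    intro f hf x hx
    have h1 : FMap F M f := sub_fmap normSys_sub hf.1
    exact ⟨StronglyClosed.map_mem F hV h1 (hPM (hZP hx)) hx.1, StronglyClosed.map_mem F hT h1 (hPM (hZP hx)) hx.2⟩
  have hvi : ∀ v ∈ normalizerIn S P, FIso F M M (fun x => v * x * v⁻¹) := fun v hv =>
    fiso_restrict (fmap_conj F hMS hv.1) le_rfl fun x hx => (Subgroup.mem_normalizer_iff.1 (hnM v hv) x).1 hx
  have hact : G ≤ actSub ha₁.1 G := by
    rintro s ⟨hs, hsZ'⟩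
    have hγ : FIso F M M (fun x => s⁻¹ * a₁ (s * a₁' x * s⁻¹) * s⁻¹⁻¹) :=
      ((ha₁'.trans (hvi s hs)).trans ha₁.1).trans (hvi s⁻¹ ((normalizerIn S P).inv_mem hs))
    have hγZ : ∀ z ∈ V ⊓ T, s⁻¹ * a₁ (s * a₁' z * s⁻¹) * s⁻¹⁻¹ = z := fun z hz => by
      rw [hZ₁' z hz, hZ₁ _ (hZcl s hs.1 z hz)]; group
    have hγP : ∀ x ∈ P, x⁻¹ * (s⁻¹ * a₁ (s * a₁' x * s⁻¹) * s⁻¹⁻¹) ∈ V ⊓ T := by
      intro x hx
      have hy := hP₁' x hx
      have h2 := hsZ' _ hy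
      -- s y s⁻¹ = y z
      have h3 : a₁ (s * a₁' x * s⁻¹) = x * ((a₁' x)⁻¹ * (s * a₁' x * s⁻¹)) := by
        have h4 : s * a₁' x * s⁻¹ = a₁' x * ((a₁' x)⁻¹ * (s * a₁' x * s⁻¹)) := by group
        rw [h4, ha₁.map.map_mul (hPM hy) (hPM (hZP h2)), e2 x (hPM hx), hZ₁ _ h2]
        group
      rw [h3]
      have h5 := hsZ' (s⁻¹ * x * s) (by
        have := (Subgroup.mem_normalizer_iff.1 (Subgroup.inv_mem _ hs.2) x).1 hx
        rwa [inv_inv] at this)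
      have h6 := hZcl s⁻¹ (S.inv_mem hs.1) _ h2
      have h7 : x⁻¹ * (s⁻¹ * (x * ((a₁' x)⁻¹ * (s * a₁' x * s⁻¹))) * s⁻¹⁻¹) =
          ((s⁻¹ * x * s)⁻¹ * (s * (s⁻¹ * x * s) * s⁻¹))⁻¹ * (s⁻¹ * ((a₁' x)⁻¹ * (s * a₁' x * s⁻¹)) * s⁻¹⁻¹) := by group
      rw [h7]
      exact (V ⊓ T).mul_mem ((V ⊓ T).inv_mem h5) h6
    have hγM : ∀ x ∈ M, x⁻¹ * (s⁻¹ * a₁ (s * a₁' x * s⁻¹) * s⁻¹⁻¹) ∈ P := by
      intro x hx
      have hy := ha₁'.mem hx
      have hz : s * a₁' x * s⁻¹ ∈ M := (hvi s hs).mem hy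
      have h2 := (Subgroup.mem_normalizer_iff.1 (Subgroup.inv_mem _ hs.2) _).1 (hm1 _ hz)
      have h3 := hm1 _ hy
      rw [e2 x hx] at h3
      have h4 : x⁻¹ * (s⁻¹ * a₁ (s * a₁' x * s⁻¹) * s⁻¹⁻¹) = ((a₁' x)⁻¹ * x)⁻¹ *
          (s⁻¹ * ((s * a₁' x * s⁻¹)⁻¹ * a₁ (s * a₁' x * s⁻¹)) * s⁻¹⁻¹) := by group
      rw [h4]
      exact P.mul_mem (P.inv_mem h3) h2
    have hγN : FIso (normSys F P hPS) M M (fun x => s⁻¹ * a₁ (s * a₁' x * s⁻¹) * s⁻¹⁻¹) := by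
      refine ⟨fmap_normSys.2 ⟨hMN, fun x hx => hMN (hγ.mem hx), _, ?_, fun _ _ => rfl,
        fiso_restrict hγ.1 hPM fun x hx => ?_⟩, hγ.2⟩
      · rw [sup_eq_left.2 hPM]; exact hγ.1
      · have := P.mul_mem hx (hZP (hγP x hx))
        rwa [mul_inv_cancel_left] at this
    obtain ⟨u, hu, h1⟩ := chain3 hNp hMa (P := V ⊓ T) (P₁ := P) hZP hPM hsZ hsP hγN hγZ hγP hγM
    have huG : u ∈ G := ⟨hu.1, fun x hx => by rw [← h1 x (hPM hx)]; exact hγP x hx⟩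
    refine mem_actSub.2 ⟨hnM s hs, s * u, G.mul_mem ⟨hs, hsZ'⟩ huG, fun x hx => ?_⟩
    have h2 := h1 (a₁ x) (ha₁.mem hx)
    have h3 : s⁻¹ * a₁ (s * a₁' (a₁ x) * s⁻¹) * s⁻¹⁻¹ = u * a₁ x * u⁻¹ := h2
    rw [e1 x hx] at h3
    calc a₁ (s * x * s⁻¹) = s * (s⁻¹ * a₁ (s * x * s⁻¹) * s⁻¹⁻¹) * s⁻¹ := by group
      _ = _ := by rw [h3]; group
  obtain ⟨σ, hσ, hσ1, hσG⟩ := ext_grp_pp hMr ha₁ hGS hCMG hact
  obtain ⟨W, hW⟩ : ∃ W, W = M ⊔ G := ⟨_, rfl⟩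
  rw [← hW] at hσ
  have hMW : M ≤ W := hW ▸ le_sup_left
  have hGW : G ≤ W := hW ▸ le_sup_right
  have hTW : T ≤ W := hTG.trans hGW
  have hPW : P ≤ W := hPM.trans hMW
  have hσP : ∀ x ∈ P, σ x = a x := fun x hx => by rw [hσ1 x (hPM hx), h11 x hx]
  refine ⟨σ, hσ.map.restrict (sup_le hPW hTW), hσP, fun t ht => ?_⟩
  -- `t⁻¹ σ(t) ∈ V`
  have hwT : t⁻¹ * σ t ∈ T := T.mul_mem (T.inv_mem ht) (StronglyClosed.map_mem F hT hσ.map (hTW ht) ht)
  obtain ⟨a', ha', d1, d2⟩ := ha.1.symm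
  have htN := hTN t ht
  have hcon : ∀ s ∈ normalizerIn S P, ∀ x ∈ P, s * x * s⁻¹ ∈ P := fun s hs x hx =>
    (Subgroup.mem_normalizer_iff.1 hs.2 x).1 hx
  have htP : FIso F P P (fun x => t⁻¹ * x * t⁻¹⁻¹) :=
    fiso_restrict (fmap_conj F hPS (S.inv_mem htN.1)) le_rfl (hcon _ ((normalizerIn S P).inv_mem htN))
  have hwE : FMap L P (fun x => t⁻¹ * σ t * x * (t⁻¹ * σ t)⁻¹) := by
    have h1 := (FusionFrat.Inv.strong hL).transport hPV htP (g := fun x => t * x * t⁻¹) (fun x _ => by group) ha.1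
    refine ((ha'.1).comp h1 fun x hx => ha'.mem hx).congr fun x hx => ?_
    have hx' := ha'.mem hx
    show t⁻¹ * a (t * a' x * t⁻¹) * t⁻¹⁻¹ = _
    have h2 : a (t * a' x * t⁻¹) = σ t * x * (σ t)⁻¹ := by
      have h3 := hcon t htN _ hx'
      rw [← hσP _ h3, hσ.map.map_conj (hTW ht) (hPW hx'), hσP _ hx', d2 x hx]
    rw [h2]
    group
  have hwN : t⁻¹ * σ t ∈ normalizerIn S P := hTN _ hwT
  obtain ⟨v, hv, h2⟩ := lemmaW hS hF hLs hL hPV hP le_rfl (le_normalizerIn hPV) hcon hwN hwE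
  have hcC : v⁻¹ * (t⁻¹ * σ t) ∈ centralizerIn S P := by
    refine ⟨S.mul_mem (S.inv_mem (hV.1 hv.1)) hwN.1, mem_centralizer_iff'.2 fun x hx => ?_⟩
    calc v⁻¹ * (t⁻¹ * σ t) * x * (v⁻¹ * (t⁻¹ * σ t))⁻¹ = v⁻¹ * (t⁻¹ * σ t * x * (t⁻¹ * σ t)⁻¹) * v := by group
      _ = x := by rw [h2 x hx]; group
  have hCW : centralizerIn S P ≤ W := hCM.trans hMW
  have hvW : v ∈ W := by
    have := W.mul_mem (hTW hwT) (W.inv_mem (hCW hcC))
    rwa [show t⁻¹ * σ t * (v⁻¹ * (t⁻¹ * σ t))⁻¹ = v by group] at this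
  have hVWn : ∀ y ∈ W, y ∈ Subgroup.normalizer ((V ⊓ W : Subgroup Ω) : Set Ω) := by
    refine le_normalizer_of_conj fun y hy x hx => ?_
    exact ⟨(Subgroup.mem_normalizer_iff.1 (normalizes_of_stronglyClosed hV (hσ.le hy)) x).1 hx.1,
      W.mul_mem (W.mul_mem hy hx.2) (W.inv_mem hy)⟩
  have hmove := move_sup (F := F) (P := V ⊓ W) (Q := centralizerIn S P) (b := σ)
    (hσ.map.restrict (sup_le inf_le_right hCW)) (fun x hx => ⟨StronglyClosed.map_mem F hV hσ.map hx.2 hx.1, hσ.mem hx.2⟩)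
    (fun c hc => by
      rw [hσ1 c (hCM hc)]
      exact ⟨hPV (h12 c hc), hPW (h12 c hc)⟩) (fun c hc => hVWn c (hCW hc))
  have hwV := PP.step hS hσ (Y := V ⊓ W ⊔ centralizerIn S P) (Z := V ⊓ W) (sup_le inf_le_right hCW) le_sup_left
    (fun y hy z hz => by
      have := (Subgroup.mem_normalizer_iff.1 (Subgroup.inv_mem _
        (hVWn y ((sup_le inf_le_right hCW : V ⊓ W ⊔ centralizerIn S P ≤ W) hy))) z).1 hz
      rwa [inv_inv] at this) (hTW ht) (by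
      have := Subgroup.mul_mem (V ⊓ W ⊔ centralizerIn S P) (Subgroup.mem_sup_left (⟨hv.1, hvW⟩ : v ∈ V ⊓ W))
        (Subgroup.mem_sup_right hcC)
      rwa [mul_inv_cancel_left] at this) hmove
  refine PP.fix hS hσ (Y := V ⊓ T) (hZP.trans hPW) (hTW ht) ⟨hwV.1, hwT⟩ fun z hz => ?_
  rw [hσ1 z (hPM (hZP hz))]; exact hZ₁ z hz

theorem step_all [Finite S] [Fact p.Prime] (hS : IsPGroup p S) (hF : F.IsSaturated p) (hLs : L.IsSaturated p)
    (hL : Inv L F) (hLx : Ext L F) (hT : F.StronglyClosed T) (hfix : ∀ P f, FMap L P f → ∀ x ∈ P, x ∈ T → f x = x)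
    (hTC : TC F V P) (ha : PP L p P a) : Fix F T P a := by
  have hV := hL.closed
  have hPV := hTC.1
  have hPS := hPV.trans hV.1
  have hZc : ∀ z ∈ V ⊓ T, ∀ v ∈ V, v * z * v⁻¹ = z := fun z hz v hv => hfix V _ (fmap_conj L le_rfl hv) z hz.1 hz.2
  have hZP : V ⊓ T ≤ P := fun z hz => hTC.cent hV ⟨hz.1, mem_centralizer_iff'.2 fun x hx => by
    have := hZc z hz x (hPV hx)
    calc z * x * z⁻¹ = (x * z * x⁻¹) * x * z⁻¹ := by rw [this]
      _ = x := by group⟩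
  have hTN : ∀ t ∈ T, t ∈ normalizerIn S P := fun t ht => ⟨hT.1 ht, by
    refine le_normalizer_of_conj (H := T) (fun s hs x hx => ?_) ht
    have := P.mul_mem hx (hZP (comm_mem hT hV hs (hPV hx)))
    rwa [mul_inv_cancel_left] at this⟩
  obtain ⟨Q, k, hQ, hk, hkN, -⟩ := exists_fullyNormalized_map hS hF hPS
  have hQTC := hTC.conj hV hk.isConj
  have hPTN : P ⊔ T ≤ normalizerIn S P := sup_le (le_normalizerIn hPS) hTN
  obtain ⟨W, hW⟩ := (hkN.restrict hPTN).exists_iso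
  obtain ⟨k', hk', e1, e2⟩ := hW.symm
  have hk'Q : FIso F Q P k' := by
    refine ⟨hk'.1.restrict fun y hy => ?_, fun y => ⟨fun hy => ⟨k y, hk.mem hy, e1 y (Subgroup.mem_sup_left hy)⟩, ?_⟩⟩
    · obtain ⟨x, hx, rfl⟩ := hk.mem_iff.1 hy
      exact hW.mem (Subgroup.mem_sup_left hx)
    · rintro ⟨z, hz, rfl⟩
      obtain ⟨x, hx, rfl⟩ := hk.mem_iff.1 hz
      rw [e1 x (Subgroup.mem_sup_left hx)]; exact hx
  have haF : PP F p P a := pp_sub hL.sub ha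
  have h4 : PP F p Q (fun y => k (a (k' y))) := haF.transport hk hk'Q (fun x hx => e1 x (Subgroup.mem_sup_left hx))
    (fun y hy => by
      obtain ⟨x, hx, rfl⟩ := hk.mem_iff.1 hy
      rw [e1 x (Subgroup.mem_sup_left hx)])
  have h3 : FMap L Q (fun y => k (a (k' y))) := (FusionFrat.Inv.strong hL).transport hPV hk
    (fun x hx => e1 x (Subgroup.mem_sup_left hx)) ha.1
  obtain ⟨σ, hσ, s1, s2⟩ := step_fn hS hF hLs hL hLx hT hfix hQTC hQ (⟨⟨h3, h4.1.2⟩, h4.2⟩ : PP L p Q _)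
  -- the image of `P ⊔ T`
  have hTfin : Finite T := finite_of_le hT.1
  have hkT : ∀ t ∈ T, k t ∈ T := fun t ht => StronglyClosed.map_mem F hT hkN (hTN t ht) ht
  have hkTi : FIso F T T k := fiso_restrict (hkN.restrict hTN) le_rfl hkT
  have hWQT : W = Q ⊔ T := by
    refine le_antisymm (fun y hy => ?_) (sup_le (fun y hy => ?_) (fun y hy => ?_))
    · obtain ⟨x, hx, rfl⟩ := hW.mem_iff.1 hy
      exact map_sup_mem hW.1 (fun x hx => Subgroup.mem_sup_left (hk.mem hx)) (fun t ht => Subgroup.mem_sup_right (hkT t ht)) x hx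
    · obtain ⟨x, hx, rfl⟩ := hk.mem_iff.1 hy
      exact hW.mem (Subgroup.mem_sup_left hx)
    · obtain ⟨x, hx, rfl⟩ := hkTi.mem_iff.1 hy
      exact hW.mem (Subgroup.mem_sup_right hx)
  subst hWQT
  have hσm : ∀ y ∈ Q ⊔ T, σ y ∈ Q ⊔ T := map_sup_mem hσ (fun x hx => Subgroup.mem_sup_left (by
    rw [s1 x hx]; exact h4.mem hx)) (fun t ht => Subgroup.mem_sup_right (by rw [s2 t ht]; exact ht))
  refine ⟨fun x => k' (σ (k x)), (hW.1.comp hσ fun x hx => hW.mem hx).comp hk'.1 fun x hx => hσm _ (hW.mem hx),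
    fun x hx => ?_, fun t ht => ?_⟩
  · have h5 : σ (k x) = k (a (k' (k x))) := s1 _ (hk.mem hx)
    show k' (σ (k x)) = a x
    rw [h5, e1 x (Subgroup.mem_sup_left hx), e1 _ (Subgroup.mem_sup_left (ha.mem hx))]
  · show k' (σ (k t)) = t
    rw [s2 _ (hkT t ht), e1 t (Subgroup.mem_sup_right ht)]

/-- induction for saturated systems -/
theorem sat_induction [Finite S] [Fact p.Prime] (hS : IsPGroup p S) (hF : F.IsSaturated p)
    (C : Subgroup Ω → (Ω → Ω) → Prop)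
    (hcongr : ∀ (P : Subgroup Ω) (f g : Ω → Ω), FMap F P f → C P f → (∀ x ∈ P, f x = g x) → C P g)
    (hconj : ∀ (P : Subgroup Ω) (s : Ω), P ≤ S → s ∈ S → C P (fun x => s * x * s⁻¹))
    (hcomp : ∀ (P Q : Subgroup Ω) (f g : Ω → Ω), FMap F P f → C P f → FMap F Q g → C Q g → (∀ x ∈ P, f x ∈ Q) →
      C P (fun x => g (f x)))
    (hinv : ∀ (P Q : Subgroup Ω) (f g : Ω → Ω), FIso F P Q f → C P f → (∀ x ∈ P, g (f x) = x) → C Q g)
    (hpp : ∀ (P : Subgroup Ω) (a : Ω → Ω), F.IsCentric P → PP F p P a → C P a) :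
    ∀ (P : Subgroup Ω) (f : Ω → Ω), FMap F P f → C P f := by
  refine alperin_induction_cr hS hF C hcongr hconj hcomp (fun P Q f g h1 h2 h3 h4 h5 => hinv P Q f g h1 h2 h4) ?_
  intro P a hPn hPc hPr ha
  have hPa := fullyAutomized_of_fullyNormalized hS hF hPn
  refine fiso_induction hPa (fun f => FMap F P f ∧ C P f) (fun f g h3 h4 => ⟨h3.1.congr h4, hcongr P f g h3.1 h3.2 h4⟩)
    (fun s hs => ⟨fmap_conj F hPn.1 hs.1, hconj P s hPn.1 hs.1⟩)
    (fun f g h3 h4 h5 h6 => ⟨h5.1.comp h6.1 fun x hx => h3.mem hx, hcomp P P f g h5.1 h5.2 h6.1 h6.2 fun x hx => h3.mem hx⟩)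
    (fun f g h1 h2 h3 h4 h5 => ⟨h2.1, hinv P P f g h1 h3.2 h4⟩) (fun f hf => ⟨hf.map, hpp P f hPc hf⟩) a ha |>.2

/-- **Theorem**: `L` commutes with `T`. -/
theorem cen_closed [Finite S] [Fact p.Prime] (hS : IsPGroup p S) (hF : F.IsSaturated p) (hLs : L.IsSaturated p)
    (hL : Inv L F) (hLx : Ext L F) (hT : F.StronglyClosed T) (hfix : ∀ P f, FMap L P f → ∀ x ∈ P, x ∈ T → f x = x)
    (hfoc : V ≤ L.focalSubgroup) : Cen F L T := by
  have hV := hL.closed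
  have hVfin : Finite V := finite_of_le hV.1
  have hVp : IsPGroup p V := isPGroup_of_le hS hV.1
  have hZc : ∀ z ∈ V ⊓ T, ∀ v ∈ V, v * z * v⁻¹ = z := fun z hz v hv => hfix V _ (fmap_conj L le_rfl hv) z hz.1 hz.2
  have hχ : ∀ P f, FMap L P f → ∀ t ∈ T, ∀ x ∈ P, (f x)⁻¹ * (t * f x * t⁻¹) = x⁻¹ * (t * x * t⁻¹) := by
    refine sat_induction hVp hLs (fun P f => ∀ t ∈ T, ∀ x ∈ P, (f x)⁻¹ * (t * f x * t⁻¹) = x⁻¹ * (t * x * t⁻¹)) ?_ ?_ ?_ ?_ ?_
    · intro P f g _ h1 h2 t ht x hx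
      rw [← h2 x hx]; exact h1 t ht x hx
    · intro P v hP hv t ht x hx
      show (v * x * v⁻¹)⁻¹ * (t * (v * x * v⁻¹) * t⁻¹) = x⁻¹ * (t * x * t⁻¹)
      have h1 := comm_mem hT hV ht hv
      have h2 := comm_mem hT hV ht (hP hx)
      have h3 := hZc _ h1 _ (hP hx)
      have h4 := hZc _ h2 _ hv
      have h5 : t * v * t⁻¹ = v * (v⁻¹ * (t * v * t⁻¹)) := by group
      have h6 : t * x * t⁻¹ = x * (x⁻¹ * (t * x * t⁻¹)) := by group
      obtain ⟨z, hz⟩ : ∃ z, z = v⁻¹ * (t * v * t⁻¹) := ⟨_, rfl⟩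
      obtain ⟨y, hy⟩ : ∃ y, y = x⁻¹ * (t * x * t⁻¹) := ⟨_, rfl⟩
      have h7 : t * (v * x * v⁻¹) * t⁻¹ = (t * v * t⁻¹) * (t * x * t⁻¹) * (t * v * t⁻¹)⁻¹ := by group
      rw [← hz] at h1 h3 h5
      rw [← hy] at h2 h4 h6 ⊢
      rw [h7, h5, h6]
      have h8 : z * (x * y) * z⁻¹ = x * y := by
        have h9 := hZc z h1 (x * y) (V.mul_mem (hP hx) h2.1)
        calc z * (x * y) * z⁻¹ = ((x * y) * z * (x * y)⁻¹) * (x * y) * z⁻¹ := by rw [h9]
          _ = x * y := by group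
      calc (v * x * v⁻¹)⁻¹ * (v * z * (x * y) * (v * z)⁻¹) = v * x⁻¹ * (z * (x * y) * z⁻¹) * v⁻¹ := by group
        _ = v * y * v⁻¹ := by rw [h8]; group
        _ = y := h4
    · intro P Q f g _ h1 _ h2 h3 t ht x hx
      show (g (f x))⁻¹ * (t * g (f x) * t⁻¹) = _
      rw [h2 t ht _ (h3 x hx), h1 t ht x hx]
    · intro P Q f g h1 h2 h3 t ht y hy
      obtain ⟨x, hx, rfl⟩ := h1.mem_iff.1 hy
      rw [h3 x hx, h2 t ht x hx]
    · intro P a hP ha t ht x hx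
      have hTC : TC F V P := (centric_iff_tc hL).1 hP
      obtain ⟨σ, hσ, s1, s2⟩ := step_all hS hF hLs hL hLx hT hfix hTC ha
      have hZP : V ⊓ T ≤ P := fun z hz => hTC.cent hV ⟨hz.1, mem_centralizer_iff'.2 fun x hx => by
        have := hZc z hz x (hTC.1 hx)
        calc z * x * z⁻¹ = (x * z * x⁻¹) * x * z⁻¹ := by rw [this]
          _ = x := by group⟩
      have h1 := comm_mem hT hV ht (hTC.1 hx)
      have h2 : σ (t * x * t⁻¹) = t * a x * t⁻¹ := by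
        rw [hσ.map_conj (Subgroup.mem_sup_right ht) (Subgroup.mem_sup_left hx), s2 t ht, s1 x hx]
      have h3 : σ (t * x * t⁻¹) = a x * (x⁻¹ * (t * x * t⁻¹)) := by
        have h4 : t * x * t⁻¹ = x * (x⁻¹ * (t * x * t⁻¹)) := by group
        conv_lhs => rw [h4]
        rw [hσ.map_mul (Subgroup.mem_sup_left hx) (Subgroup.mem_sup_left (hZP h1)), s1 x hx, s1 _ (hZP h1),
          hfix P a ha.map _ (hZP h1) h1.2]
      rw [← h2, h3]; group
  have hTV : T ≤ centralizerIn S V := by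
    intro t ht
    refine ⟨hT.1 ht, mem_centralizer_iff'.2 fun v hv => ?_⟩
    have h1 : V ≤ (Subgroup.centralizer ({t} : Set Ω)) ⊓ V := by
      refine hfoc.trans ?_
      rw [Cfsg.Agent.Lib.FusionFocal.focalSubgroup_eq, Subgroup.closure_le]
      rintro y ⟨P, f, hf, x, hx, rfl⟩
      have hxV := hf.le hx
      have hfV := hf.map_mem hx
      refine ⟨Subgroup.mem_centralizer_singleton_iff.2 ?_, V.mul_mem (V.inv_mem hxV) hfV⟩
      have h2 := hχ P f hf t ht x hx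
      obtain ⟨z, hz⟩ : ∃ z, z = x⁻¹ * (t * x * t⁻¹) := ⟨_, rfl⟩
      have hzm : z ∈ V ⊓ T := hz ▸ comm_mem hT hV ht hxV
      rw [← hz] at h2
      have h3 : t * x * t⁻¹ = x * z := by rw [hz]; group
      have h4 : t * f x * t⁻¹ = f x * z := by rw [← h2]; group
      have h5 := hZc z hzm (x⁻¹ * f x) (V.mul_mem (V.inv_mem hxV) hfV)
      have h6 : t * (x⁻¹ * f x) * t⁻¹ = x⁻¹ * f x := by
        calc t * (x⁻¹ * f x) * t⁻¹ = (t * x * t⁻¹)⁻¹ * (t * f x * t⁻¹) := by group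
          _ = z⁻¹ * ((x⁻¹ * f x) * z * (x⁻¹ * f x)⁻¹) * (x⁻¹ * f x) := by rw [h3, h4]; group
          _ = x⁻¹ * f x := by rw [h5]; group
      calc x⁻¹ * f x * t = t * (x⁻¹ * f x) * t⁻¹ * t := by rw [h6]
        _ = t * (x⁻¹ * f x) := by group
    have h2 := Subgroup.mem_centralizer_singleton_iff.1 (h1 hv).1
    calc t * v * t⁻¹ = v * t * t⁻¹ := by rw [h2]
      _ = v := by group
  refine ⟨hTV, ?_⟩
  refine sat_induction hVp hLs (fun P f => Fix F T P f) (fun P f g _ h1 h2 => fix_congr h1 h2) ?_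
    (fun P Q f g _ h1 _ h2 h3 => fix_comp h3 h1 h2) (fun P Q f g h1 h2 h3 => fix_inv (fun y hy => by
      obtain ⟨x, hx, h⟩ := h1.mem_iff.1 hy
      exact ⟨x, hx, h⟩) h3 h2) (fun P a hP ha => step_all hS hF hLs hL hLx hT hfix ((centric_iff_tc hL).1 hP) ha)
  intro P v hP hv
  refine ⟨fun x => v * x * v⁻¹, fmap_conj F (sup_le (hP.trans hV.1) hT.1) (hV.1 hv), fun _ _ => rfl, fun t ht => ?_⟩
  have h1 := mem_centralizer_iff'.1 (hTV ht).2 v hv
  calc v * t * v⁻¹ = (t * v * t⁻¹) * t * v⁻¹ := by rw [h1]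
    _ = t := by group

theorem le_cent_comm (hVS : V ≤ S) (h : T ≤ centralizerIn S V) : V ≤ centralizerIn S T := by
  intro v hv
  refine ⟨hVS hv, mem_centralizer_iff'.2 fun t ht => ?_⟩
  have h1 := mem_centralizer_iff'.1 (h ht).2 v hv
  calc v * t * v⁻¹ = (t * v * t⁻¹) * t * v⁻¹ := by rw [h1]
    _ = t := by group

theorem cen_sub (hT : T ≤ S) (hVS : V ≤ S) (h : Cen F L T) : L.IsSubsystemOf (centSys F T hT) := by
  rw [isSubsystemOf_iff]
  intro P f hf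
  have hVT := le_cent_comm hVS h.1
  have h1 : P ≤ centralizerIn S T := hf.le.trans hVT
  have h2 : ∀ x ∈ P, f x ∈ centralizerIn S T := fun x hx => hVT (hf.map_mem hx)
  exact fmap_centSys.2 ⟨h1, h2, h.2 P f hf⟩

theorem cen_mono (hYZ : Y ≤ Z) (h : Cen F E Z) : Cen F E Y := by
  refine ⟨hYZ.trans h.1, fun P f hf => ?_⟩
  obtain ⟨g, hg, g1, g2⟩ := h.2 P f hf
  exact ⟨g, hg.restrict (sup_le_sup_left hYZ P), g1, fun y hy => g2 y (hYZ hy)⟩

theorem focal_mono' (h : E.IsSubsystemOf F) : E.focalSubgroup ≤ F.focalSubgroup := by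
  rw [Cfsg.Agent.Lib.FusionFocal.focalSubgroup_eq, Cfsg.Agent.Lib.FusionFocal.focalSubgroup_eq]
  refine Subgroup.closure_mono ?_
  rintro y ⟨P, f, hf, x, hx, rfl⟩
  exact ⟨P, f, sub_fmap h hf, x, hx, rfl⟩

/-- a normal subsystem over `T` commutes with the focal part of a system commuting with `T` -/
theorem cen_focal [Finite S] [Fact p.Prime] (hS : IsPGroup p S) (hF : F.IsSaturated p) (hEs : E.IsSaturated p)
    (hE : Inv E F) (hx : Ext E F) (hVS : V ≤ S) (h : Cen F L T) (hfoc : V ≤ L.focalSubgroup) : Cen F E V := by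
  have h4 : L.IsSubsystemOf (centSys F T hE.closed.1) := cen_sub hE.closed.1 hVS h
  have h5 : L.focalSubgroup ≤ (centSys F T hE.closed.1).focalSubgroup := focal_mono' h4
  have h3 : V ≤ focT F T hE.closed.1 := by
    unfold focT
    exact hfoc.trans h5
  exact cen_mono h3 (focT_cen hS hF hEs hE hx)

end Cfsg.Agent.Lib.FusionPerp
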