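import Mathlib
import Cfsg.Agent.Lib.FusionMeet5

/-!
Invariant subsystems over the whole group have index prime to `p`.
-/

set_option autoImplicit false
open Cfsg Cfsg.FusionSystem Cfsg.Agent.Lib.FusionBasic Cfsg.Agent.Lib.FusionSat Cfsg.Agent.Lib.FusionNormal
  Cfsg.Agent.Lib.FusionInvar Cfsg.Agent.Lib.FusionTools Cfsg.Agent.Lib.FusionPP Cfsg.Agent.Lib.FusionStrong
  Cfsg.Agent.Lib.FusionSys Cfsg.Agent.Lib.FusionFrat Cfsg.Agent.Lib.FusionPrime Cfsg.Agent.Lib.FusionTC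
  Cfsg.Agent.Lib.FusionClosed Cfsg.Agent.Lib.FusionStab Cfsg.Agent.Lib.FusionZeta Cfsg.Agent.Lib.FusionCenClosed

namespace Cfsg.Agent.Lib.FusionSameP

variable {Ω : Type*} [Group Ω] {S T : Subgroup Ω} {F D : FusionSystem S} {E : FusionSystem T}
  {P Q R U M X Y Z P₁ N : Subgroup Ω} {a b f g k θ κ ψ : Ω → Ω} {p : ℕ}

/-- an invariant subsystem over `S` of a saturated system over `S` has index prime to `p` -/
theorem primeIndex_of_inv [Finite S] [Fact p.Prime] (hS : IsPGroup p S) (hF : F.IsSaturated p) (hD : Inv D F) :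
    D.HasPrimeToPIndexIn F p := by
  refine ⟨hD.sub, fun P hP => ?_⟩
  obtain ⟨Q, hPQ, hQ⟩ := exists_fullyNormalized_conj F hP
  have hQa := fullyAutomized_of_fullyNormalized hS hF hQ
  obtain ⟨u, hu⟩ := isConj_iff_fiso.1 hPQ
  obtain ⟨v, hv, v1, v2⟩ := hu.symm
  have hst := FusionFrat.Inv.strong hD
  have hn := StrongInv.autGroup_normal hst le_rfl hQ.1
  have hQOP : OP F p Q ≤ D.autGroup Q := by
    rw [op_le_iff]
    rintro α hα ⟨k, hk⟩
    have hK : IsPGroup p (Subgroup.zpowers α) := by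
      intro x
      obtain ⟨m, hm⟩ := x.2
      refine ⟨k, Subtype.ext ?_⟩
      have h1 : (x : MulAut Q) = α ^ m := hm.symm
      show (x : MulAut Q) ^ p ^ k = 1
      rw [h1, ← zpow_natCast, ← zpow_mul, mul_comm, zpow_mul, zpow_natCast, ← hk, pow_orderOf_eq_one, one_zpow]
    obtain ⟨χ, hχ, h1⟩ := exists_conj_le_autInducedBy hQa (Subgroup.zpowers α) ((Subgroup.zpowers_le).2 hα) hK
    have h2 := h1 α (Subgroup.mem_zpowers α)
    have h3 : χ * α * χ⁻¹ ∈ D.autGroup Q := autInducedBy_le_autGroup hQ.1 le_rfl h2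
    have h4 := hn _ (Subgroup.inv_mem _ hχ) _ h3
    rwa [inv_inv, show χ⁻¹ * (χ * α * χ⁻¹) * χ = α by group] at h4
  intro α hα
  have h1 : hu.autEquiv α ∈ OP F p Q := op_transport hu hα
  have h2 := hQOP h1
  have h3 : FIso D Q Q (autFun (hu.autEquiv α)) := (fiso_autFun_iff hQ.1).2 h2
  have h4 : FMap D P (fun y => v (autFun (hu.autEquiv α) (u y))) := hst.transport hQ.1 hv v2 h3
  refine (FMap_autFun_iff hP).1 (h4.congr fun x hx => ?_)
  show v (autFun (hu.autEquiv α) (u x)) = autFun α x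
  rw [autFun_of_mem _ (hu.mem hx)]
  have h5 := hu.autEquiv_coe α ⟨x, hx⟩
  have h6 : (hu.autEquiv α ⟨u x, hu.mem hx⟩ : Ω) = u (α ⟨x, hx⟩) := h5
  rw [h6, v1 _ (α ⟨x, hx⟩).2, autFun_of_mem _ hx]

end Cfsg.Agent.Lib.FusionSameP
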