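import Mathlib
import Cfsg.Agent.Lib.FusionPerp
import Cfsg.Agent.Lib.FusionSameP
import Cfsg.Agent.Lib.FusionQuotHyp
import Cfsg.Agent.Lib.FusionFactor
import Cfsg.Agent.Lib.FusionRes
import Cfsg.Agent.Lib.FusionInnerN

/-!
Images of weakly normal subsystems in factor systems; normal subsystems of quasisimple systems.
-/

set_option autoImplicit false
open Cfsg Cfsg.FusionSystem Cfsg.Agent.Lib.FusionBasic Cfsg.Agent.Lib.FusionSat Cfsg.Agent.Lib.FusionNormal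
  Cfsg.Agent.Lib.FusionInvar Cfsg.Agent.Lib.FusionTools Cfsg.Agent.Lib.FusionPP Cfsg.Agent.Lib.FusionStrong
  Cfsg.Agent.Lib.FusionSys Cfsg.Agent.Lib.FusionFrat Cfsg.Agent.Lib.FusionPrime Cfsg.Agent.Lib.FusionTC
  Cfsg.Agent.Lib.FusionClosed Cfsg.Agent.Lib.FusionStab Cfsg.Agent.Lib.FusionZeta Cfsg.Agent.Lib.FusionCenClosed
  Cfsg.Agent.Lib.FusionLemD Cfsg.Agent.Lib.FusionMeet5
open Cfsg.Agent.Lib.FusionQuot Cfsg.Agent.Lib.FusionQuotHyp
open Cfsg.Agent.Lib.FusionFocal (fix_of_isCentral)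

namespace Cfsg.Agent.Lib.FusionQS

variable {Ω : Type*} [Group Ω] {S T V : Subgroup Ω} {F : FusionSystem S} {E : FusionSystem T}
  {P Q R U M X Y Z P₁ N : Subgroup Ω} {a b f g k : Ω → Ω} {p : ℕ}
variable {Ω' : Type*} [Group Ω'] {S' T' : Subgroup Ω'} {F' : FusionSystem S'} {E' : FusionSystem T'} {θ : S →* Ω'}
  {P' Q' : Subgroup Ω'} {f' g' : Ω' → Ω'}

/-- restriction of `θ` -/
def rho (θ : S →* Ω') (hT : T ≤ S) : T →* Ω' := θ.comp (Subgroup.inclusion hT)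

theorem ev_rho {hT : T ≤ S} {x : Ω} (hx : x ∈ T) : ev (rho θ hT) x = ev θ x := by
  rw [ev_of_mem hx, ev_of_mem (hT hx)]; rfl

theorem rho_ker {hT : T ≤ S} (hθ : ∀ s : S, θ s = 1 ↔ (s : Ω) ∈ Z) : ∀ t : T, rho θ hT t = 1 ↔ (t : Ω) ∈ T ⊓ Z := by
  intro t
  show θ (Subgroup.inclusion hT t) = 1 ↔ _
  rw [hθ]
  exact ⟨fun h => ⟨t.2, h⟩, fun h => h.2⟩

theorem rho_range {hT : T ≤ S} : (rho θ hT).range = imageAlong θ T := by
  ext y
  rw [mem_im]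
  constructor
  · rintro ⟨x, rfl⟩
    exact ⟨x, x.2, hT x.2, by rw [ev_of_mem (hT x.2)]; rfl⟩
  · rintro ⟨x, hx, hxS, rfl⟩
    exact ⟨⟨x, hx⟩, by rw [ev_of_mem hxS]; rfl⟩

/-- images of strongly closed subgroups -/
theorem im_closed (hF' : F.IsFactorSystem Z θ F') (hT : F.StronglyClosed T) : F'.StronglyClosed (imageAlong θ T) := by
  have hr := hF'.2.2.1
  rw [stronglyClosed_iff]
  refine ⟨im_le hr, fun P' f' hP' hf' y hy => ?_⟩
  obtain ⟨hP'S, f, hf, h1⟩ := (fmap_factor_iff hF').1 hf'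
  obtain ⟨x, hx, hxS, rfl⟩ := mem_im.1 (hP' hy)
  have hxP : x ∈ preimageAlong θ P' := mem_pre.2 ⟨hxS, hy⟩
  rw [h1 x hxP]
  exact mem_im.2 ⟨f x, StronglyClosed.map_mem F hT hf hxP hx, hf.map_mem hxP, rfl⟩

/-- a subgroup meeting the kernel of the quotient in a strongly closed subgroup of the subsystem -/
theorem inf_closed (hE : Inv E F) (hZ : F.StronglyClosed Z) : E.StronglyClosed (T ⊓ Z) := by
  rw [stronglyClosed_iff]
  refine ⟨inf_le_left, fun P f hP hf x hx => ⟨hf.map_mem hx, ?_⟩⟩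
  exact StronglyClosed.map_mem F hZ (sub_fmap hE.sub hf) hx (hP hx).2

theorem exists_fac [Finite S] (hF' : F.IsFactorSystem Z θ F') (hE : Inv E F) (hZ : F.StronglyClosed Z) :
    ∃ E' : FusionSystem (imageAlong θ T), E.IsFactorSystem (T ⊓ Z) (rho θ hE.closed.1) E' := by
  have hTfin : Finite T := finite_of_le hE.closed.1
  exact Cfsg.Agent.Lib.FusionFactor.exists_factorSystem E (T ⊓ Z) (inf_closed hE hZ) (rho θ hE.closed.1)
    (rho_ker hF'.2.1) rho_range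

theorem pre_rho {hT : T ≤ S} : preimageAlong (rho θ hT) P' = preimageAlong θ P' ⊓ T := by
  ext x
  rw [mem_pre, Subgroup.mem_inf, mem_pre]
  constructor
  · rintro ⟨h1, h2⟩
    exact ⟨⟨hT h1, by rwa [ev_rho h1] at h2⟩, h1⟩
  · rintro ⟨⟨h1, h2⟩, h3⟩
    exact ⟨h3, by rwa [ev_rho h3]⟩

/-- the image of a weakly normal subsystem is weakly normal -/
theorem fac_weak [Finite S] [Fact p.Prime] (hS : IsPGroup p S) (hF : F.IsSaturated p) (hF' : F.IsFactorSystem Z θ F')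
    (hZ : F.StronglyClosed Z) (hEs : E.IsSaturated p) (hE : Inv E F) {E' : FusionSystem (imageAlong θ T)}
    (hE' : E.IsFactorSystem (T ⊓ Z) (rho θ hE.closed.1) E') : E'.IsWeaklyNormalIn F' p := by
  have hT := hE.closed
  have hTfin : Finite T := finite_of_le hT.1
  have hTp : IsPGroup p T := isPGroup_of_le hS hT.1
  have hr := hF'.2.2.1
  have hrT := hE'.2.2.1
  have hS'fin : Finite S' := finite_range hr
  have hEZ := inf_closed hE hZ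
  have hcl := im_closed hF' hT
  have hsub : E'.IsSubsystemOf F' := by
    rw [isSubsystemOf_iff]
    intro P' f' hf'
    obtain ⟨hP', f, hf, h1⟩ := (fmap_factor_iff hE').1 hf'
    obtain ⟨f'', hf'', h2⟩ := exists_induced_any hS hF hZ hF' (sub_fmap hE.sub hf)
    have h3 : imageAlong θ (preimageAlong (rho θ hT.1) P') = P' := by
      ext y
      rw [mem_im]
      constructor
      · rintro ⟨x, hx, hxS, rfl⟩
        obtain ⟨h4, h5⟩ := mem_pre.1 hx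
        rwa [ev_rho h4] at h5
      · intro hy
        obtain ⟨x, hx, hxS, rfl⟩ := mem_im.1 (hP' hy)
        exact ⟨x, mem_pre.2 ⟨hx, by rwa [ev_rho hx]⟩, hxS, rfl⟩
    rw [h3] at hf''
    refine hf''.congr fun y hy => ?_
    obtain ⟨x, hx, hxS, rfl⟩ := mem_im.1 (hP' hy)
    have hxp : x ∈ preimageAlong (rho θ hT.1) P' := mem_pre.2 ⟨hx, by rwa [ev_rho hx]⟩
    have h4 := h1 x hxp
    rw [ev_rho hx, ev_rho (hf.map_mem hxp)] at h4
    rw [h2 x hxp, h4]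
  refine isWeaklyNormalIn_iff.2 ⟨isSaturated_factor hTp hEs hEZ hE', isSaturated_factor hS hF hZ hF', ?_⟩
  refine StrongInv.inv (isPGroup_range hS hr) (isSaturated_factor hS hF hZ hF') hcl hsub ?_
  intro P' Q' R' f' g' hPQ' hQT' hf' hfQ' hg' hR'
  obtain ⟨-, f, hf, h1⟩ := (fmap_factor_iff hE').1 hf'
  obtain ⟨-, g, hg, h2⟩ := (fmap_factor_iff hF').1 hg'
  have hP := pre_rho (θ := θ) (hT := hT.1) (P' := P')
  have hQ := pre_rho (θ := θ) (hT := hT.1) (P' := Q')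
  obtain ⟨P, hPe⟩ : ∃ P, P = preimageAlong (rho θ hT.1) P' := ⟨_, rfl⟩
  obtain ⟨Q, hQe⟩ : ∃ Q, Q = preimageAlong (rho θ hT.1) Q' := ⟨_, rfl⟩
  rw [← hPe] at hf h1 hP
  rw [← hQe] at hQ
  have hPT : P ≤ T := hP ▸ inf_le_right
  have hQT : Q ≤ T := hQ ▸ inf_le_right
  have hPQ : P ≤ Q := by
    rw [hP, hQ]
    exact inf_le_inf_right _ (Cfsg.Agent.Lib.FusionFactor.preimageAlong_mono θ hPQ')
  have hgQ : FMap F Q g := hg.restrict (hQ ▸ inf_le_left)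
  have hmQ : ∀ x, x ∈ Q ↔ x ∈ T ∧ ev θ x ∈ Q' := by
    intro x
    rw [hQ, Subgroup.mem_inf, mem_pre]
    exact ⟨fun h => ⟨h.2, h.1.2⟩, fun h => ⟨⟨hT.1 h.1, h.2⟩, h.1⟩⟩
  have hmP : ∀ x, x ∈ P ↔ x ∈ T ∧ ev θ x ∈ P' := by
    intro x
    rw [hP, Subgroup.mem_inf, mem_pre]
    exact ⟨fun h => ⟨h.2, h.1.2⟩, fun h => ⟨⟨hT.1 h.1, h.2⟩, h.1⟩⟩
  have h1' : ∀ x ∈ P, f' (ev θ x) = ev θ (f x) := fun x hx => by
    have := h1 x hx
    rwa [ev_rho (hPT hx), ev_rho (hf.map_mem hx)] at this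
  have h2' : ∀ x ∈ Q, g' (ev θ x) = ev θ (g x) := fun x hx => h2 x (by rw [hQ] at hx; exact hx.1)
  have hfQ : ∀ x ∈ P, f x ∈ Q := fun x hx => (hmQ _).2 ⟨hf.map_mem hx, by
    rw [← h1' x hx]; exact hfQ' _ ((hmP x).1 hx).2⟩
  obtain ⟨R, hR⟩ := (hgQ.restrict hPQ).exists_iso
  obtain ⟨k, hk, h3⟩ := (FusionFrat.Inv.strong hE) P Q R f g hPQ hQT hf hfQ hgQ (fun y => hR.mem_iff)
  obtain ⟨k', hk', h4⟩ := exists_induced_any hTp hEs hEZ hE' hk
  have hRT : R ≤ T := hk.le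
  have h4' : ∀ y ∈ R, k' (ev θ y) = ev θ (k y) := fun y hy => by
    have := h4 y hy
    rwa [ev_rho (hRT hy), ev_rho (hk.map_mem hy)] at this
  have hlift : ∀ y ∈ P', ∃ x ∈ P, ev θ x = y := by
    intro y hy
    obtain ⟨x, hx, hxS, rfl⟩ := mem_im.1 ((hPQ'.trans hQT') hy)
    exact ⟨x, (hmP x).2 ⟨hx, hy⟩, rfl⟩
  have hRR : imageAlong (rho θ hT.1) R = R' := by
    ext y
    rw [mem_im, hR' y]
    constructor
    · rintro ⟨x, hx, hxT, rfl⟩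
      obtain ⟨z, hz, rfl⟩ := hR.mem_iff.1 hx
      exact ⟨ev θ z, ((hmP z).1 hz).2, by rw [h2' z (hPQ hz), ev_rho hxT]⟩
    · rintro ⟨z, hz, rfl⟩
      obtain ⟨x, hx, rfl⟩ := hlift z hz
      exact ⟨g x, hR.mem hx, hRT (hR.mem hx), by rw [ev_rho (hRT (hR.mem hx)), h2' x (hPQ hx)]⟩
  rw [hRR] at hk'
  refine ⟨k', hk', fun y hy => ?_⟩
  obtain ⟨x, hx, rfl⟩ := hlift y hy
  rw [h2' x (hPQ hx), h4' _ (hR.mem hx), h3 x hx, h1' x hx, h2' _ (hfQ x hx)]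

end Cfsg.Agent.Lib.FusionQS
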