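import Mathlib
import Cfsg.Agent.Lib.FusionQS
import Cfsg.Agent.Lib.FusionJoin

/-!
Normal subsystems of quasisimple systems.
-/

set_option autoImplicit false
open Cfsg Cfsg.FusionSystem Cfsg.Agent.Lib.FusionBasic Cfsg.Agent.Lib.FusionSat Cfsg.Agent.Lib.FusionNormal
  Cfsg.Agent.Lib.FusionInvar Cfsg.Agent.Lib.FusionTools Cfsg.Agent.Lib.FusionPP Cfsg.Agent.Lib.FusionStrong
  Cfsg.Agent.Lib.FusionSys Cfsg.Agent.Lib.FusionFrat Cfsg.Agent.Lib.FusionPrime Cfsg.Agent.Lib.FusionTC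
  Cfsg.Agent.Lib.FusionClosed Cfsg.Agent.Lib.FusionStab Cfsg.Agent.Lib.FusionZeta Cfsg.Agent.Lib.FusionCenClosed
  Cfsg.Agent.Lib.FusionLemD Cfsg.Agent.Lib.FusionMeet5
open Cfsg.Agent.Lib.FusionQuot Cfsg.Agent.Lib.FusionQuotHyp Cfsg.Agent.Lib.FusionQS
open Cfsg.Agent.Lib.FusionFocal (fix_of_isCentral)

namespace Cfsg.Agent.Lib.FusionQS2

variable {Ω : Type*} [Group Ω] {S T V : Subgroup Ω} {F : FusionSystem S} {E : FusionSystem T}
  {P Q R U M X Y Z P₁ N : Subgroup Ω} {a b f g k : Ω → Ω} {p : ℕ}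
variable {Ω' : Type*} [Group Ω'] {S' T' : Subgroup Ω'} {F' : FusionSystem S'} {E' : FusionSystem T'} {θ : S →* Ω'}
  {P' Q' : Subgroup Ω'} {f' g' : Ω' → Ω'}

theorem central_closed (hZ : F.IsCentral Z) : F.StronglyClosed Z := by
  rw [stronglyClosed_iff]
  exact ⟨hZ.1, fun P f hP hf x hx => by rw [fix_of_isCentral hZ hf hx (hP hx)]; exact hP hx⟩

/-- if `S = T Z` with `Z` central and `T` strongly closed then the focal subgroup lies in `T` -/
theorem focal_le_of_sup (hZ : F.IsCentral Z) (hT : F.StronglyClosed T) (h : ∀ s ∈ S, ∃ t ∈ T, t⁻¹ * s ∈ Z) :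
    F.focalSubgroup ≤ T := by
  rw [Cfsg.Agent.Lib.FusionFocal.focalSubgroup_eq, Subgroup.closure_le]
  rintro y ⟨P, f, hf, x, hx, rfl⟩
  obtain ⟨-, hext⟩ := (isCentral_iff F).1 hZ
  obtain ⟨g, hg, g1, g2⟩ := hext P f hf
  obtain ⟨t, ht, hz⟩ := h x (hf.le hx)
  have htm : t ∈ P ⊔ Z := by
    have := Subgroup.mul_mem _ (Subgroup.mem_sup_left hx : x ∈ P ⊔ Z) (Subgroup.inv_mem _ (Subgroup.mem_sup_right hz : t⁻¹ * x ∈ P ⊔ Z))
    rwa [show x * (t⁻¹ * x)⁻¹ = t by group] at this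
  have hgt : g t ∈ T := StronglyClosed.map_mem F hT hg htm ht
  have h1 : f x = g t * (t⁻¹ * x) := by
    rw [← g1 x hx]
    have h2 : x = t * (t⁻¹ * x) := by group
    conv_lhs => rw [h2]
    rw [hg.map_mul htm (Subgroup.mem_sup_right hz), g2 _ hz]
  have h2 : x⁻¹ * f x = (t⁻¹ * x)⁻¹ * (t⁻¹ * g t) * (t⁻¹ * x) := by rw [h1]; group
  rw [h2]
  have h3 := (Subgroup.mem_normalizer_iff.1 (normalizes_of_stronglyClosed hT (S.inv_mem (hZ.1 hz))) _).1
    (T.mul_mem (T.inv_mem ht) hgt)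
  rwa [inv_inv] at h3

/-- a weakly normal subsystem over `S` with the same image modulo a central subgroup is everything -/
theorem eq_of_image {E : FusionSystem S} [Finite S] [Fact p.Prime] (hS : IsPGroup p S) (hF : F.IsSaturated p)
    (hZ : F.IsCentral Z) (hE : Inv E F) (hF' : F.IsFactorSystem Z θ F') {E' : FusionSystem (imageAlong θ S)}
    (hE' : E.IsFactorSystem (S ⊓ Z) (rho θ hE.closed.1) E')
    (hsub : ∀ P' f', FMap F' P' f' → FMap E' P' f') : F.IsSubsystemOf E := by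
  have hidx := Cfsg.Agent.Lib.FusionSameP.primeIndex_of_inv hS hF hE
  have hZs := central_closed hZ
  have h : F ≤ E := by
    refine alperin_cr hS hF E fun P hP hPc hPr α hα => ?_
    have hPS := hP.1
    have hZP : Z ≤ P := fun z hz => hPc.2 P (isConj_refl F hPS) ⟨hZ.1 hz, mem_centralizer_iff'.2 fun x hx => by
      have h1 := fix_of_isCentral hZ (fmap_conj F le_rfl (hPS hx)) (hZ.1 hz) hz
      calc z * x * z⁻¹ = (x * z * x⁻¹) * x * z⁻¹ := by rw [h1]
        _ = x := by group⟩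
    have hαi := (fiso_autFun_iff hPS).2 hα
    obtain ⟨f', hf', h1⟩ := exists_induced hZs hF' hZP hαi.1
    obtain ⟨-, β, hβ, h2⟩ := (fmap_factor_iff hE').1 (hsub _ _ hf')
    have hpre : preimageAlong (rho θ hE.closed.1) (imageAlong θ P) = P := by
      rw [pre_rho, pre_im hZP hPS hF'.2.1]
      exact inf_eq_left.2 hPS
    rw [hpre] at hβ h2
    have h3 : ∀ x ∈ P, (β x)⁻¹ * autFun α x ∈ Z := fun x hx => by
      have h4 := h2 x hx
      rw [ev_rho (hPS hx), ev_rho (hβ.map_mem hx), h1 x hx] at h4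
      exact (ev_eq_iff hF'.2.1 (hβ.map_mem hx) (hPS (autFun_mem α hx))).1 h4.symm
    have hβP : ∀ x ∈ P, β x ∈ P := fun x hx => by
      have := P.mul_mem (autFun_mem α hx) (P.inv_mem (hZP (h3 x hx)))
      rwa [show autFun α x * ((β x)⁻¹ * autFun α x)⁻¹ = β x by group] at this
    have hβi : FIso E P P β := fiso_restrict hβ le_rfl hβP
    obtain ⟨γ, hγ⟩ : ∃ γ : MulAut P, γ = hβi.equiv := ⟨_, rfl⟩
    have hγ1 : ∀ x ∈ P, autFun γ x = β x := fun x hx => by rw [autFun_of_mem _ hx, hγ]; rfl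
    have hγE : γ ∈ E.autGroup P := hγ ▸ hβi.equiv_mem_autGroup
    have hγF : γ ∈ F.autGroup P := sub_autGroup hE.sub hPS hγE
    have hδF : γ⁻¹ * α ∈ F.autGroup P := mul_mem (inv_mem hγF) hα
    have hγ'F := ((fiso_autFun_iff hPS).2 (inv_mem hγF)).1
    obtain ⟨k, hk⟩ := stab_pow hS hPS hZP (δ := γ⁻¹ * α) (fun x hx => by
      exact fix_of_isCentral hZ ((fiso_autFun_iff hPS).2 hδF).1 (hZP hx) hx) (fun x hx => by
      rw [autFun_mul _ _ hx]
      have h4 : autFun γ⁻¹ ((β x)⁻¹ * autFun α x) = x⁻¹ * autFun γ⁻¹ (autFun α x) := by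
        rw [hγ'F.map_mul (P.inv_mem (hβP x hx)) (autFun_mem α hx), hγ'F.map_inv (hβP x hx), ← hγ1 x hx,
          autFun_inv_apply γ hx]
      rw [← h4, fix_of_isCentral hZ hγ'F (hZP (h3 x hx)) (h3 x hx)]
      exact h3 x hx)
    obtain ⟨j, -, hj⟩ := (Nat.dvd_prime_pow (Fact.out : p.Prime)).1 (orderOf_dvd_of_pow_eq_one hk)
    have h5 : γ⁻¹ * α ∈ E.autGroup P := hidx.2 P hPS (mem_op hδF hj)
    have h6 := mul_mem hγE h5
    rwa [mul_inv_cancel_left] at h6
  exact fun P => h P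

/-- **Lemma**: a normal subsystem of a quasisimple system is over a central subgroup or everything. -/
theorem qs_normal [Finite S] [Fact p.Prime] (hS : IsPGroup p S) (hq : F.Quasisimple p) (hE : E.IsNormalIn F p) :
    T ≤ F.center ∨ (T = S ∧ ∀ P, E.Hom P = F.Hom P) := by
  obtain ⟨hF, hhyp, hsimp⟩ := hq
  obtain ⟨hEs, -, hEi, hEx⟩ := isNormalIn_iff.1 hE
  have hZ : F.IsCentral F.center := Cfsg.Agent.Lib.FusionJoin.isCentral_center F
  have hZs := central_closed hZ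
  have hθ : ∀ s : S, QuotientGroup.mk' ((F.center).subgroupOf S) s = 1 ↔ (s : Ω) ∈ F.center := by
    intro s
    rw [QuotientGroup.mk'_apply, QuotientGroup.eq_one_iff, Subgroup.mem_subgroupOf]
  have hrange : (QuotientGroup.mk' ((F.center).subgroupOf S)).range = ⊤ :=
    MonoidHom.range_eq_top.2 (QuotientGroup.mk'_surjective _)
  obtain ⟨F', hF'⟩ := Cfsg.Agent.Lib.FusionFactor.exists_factorSystem F F.center hZs
    (QuotientGroup.mk' ((F.center).subgroupOf S)) hθ hrange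
  have hsF' := hsimp F' hF'
  generalize QuotientGroup.mk' ((F.center).subgroupOf S) = θ at *
  obtain ⟨E', hE'⟩ := exists_fac hF' hEi hZs
  have hw := fac_weak hS hF hF' hZs hEs hEi hE'
  have hr := Cfsg.Agent.Lib.FusionRes.res_isNormalIn (isPGroup_range hS hrange) hw
  rcases hsF'.2.2 _ _ hr with h1 | ⟨h1, h2⟩
  · left
    intro x hx
    have h3 : ev θ x ∈ imageAlong θ T := mem_im.2 ⟨x, hx, hEi.closed.1 hx, rfl⟩
    rw [h1, Subgroup.mem_bot] at h3
    exact (ev_eq_one_iff hθ (hEi.closed.1 hx)).1 h3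
  · right
    have h3 : ∀ s ∈ S, ∃ t ∈ T, t⁻¹ * s ∈ F.center := by
      intro s hs
      have h4 : ev θ s ∈ imageAlong θ T := by rw [h1]; exact Subgroup.mem_top _
      obtain ⟨t, ht, htS, h5⟩ := mem_im.1 h4
      exact ⟨t, ht, (ev_eq_iff hθ htS hs).1 h5⟩
    have h4 := focal_le_of_sup hZ hEi.closed h3
    have hST : S ≤ T := by
      rw [← hhyp]
      exact Cfsg.Agent.Lib.FusionHyper.hyp_le_focal.trans h4
    obtain rfl : S = T := le_antisymm hST hEi.closed.1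
    refine ⟨rfl, fun P => Set.Subset.antisymm (hEi.sub P) ?_⟩
    have hsub : ∀ P' f', FMap F' P' f' → FMap E' P' f' := by
      intro P' f' hf'
      obtain ⟨φ, hφ, h5⟩ := hf'
      have h6 : φ ∈ (res E' p).Hom P' := by rw [h2]; exact hφ
      exact sub_fmap res_sub ⟨φ, h6, h5⟩
    exact eq_of_image hS hF hZ hEi hF' hE' hsub P

end Cfsg.Agent.Lib.FusionQS2
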