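import Mathlib
import Cfsg.Agent.Lib.FusionThmA2

/-!
Construction of weakly normal subsystems from invariant families of automorphism groups which are given only on a class of
subgroups closed under conjugation and overgroups.
-/

set_option autoImplicit false
open Cfsg Cfsg.FusionSystem Cfsg.Agent.Lib.FusionBasic Cfsg.Agent.Lib.FusionSat Cfsg.Agent.Lib.FusionNormal
  Cfsg.Agent.Lib.FusionInvar Cfsg.Agent.Lib.FusionTools Cfsg.Agent.Lib.FusionPP Cfsg.Agent.Lib.FusionStrong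
  Cfsg.Agent.Lib.FusionSys Cfsg.Agent.Lib.FusionFrat Cfsg.Agent.Lib.FusionPrime Cfsg.Agent.Lib.FusionTC
  Cfsg.Agent.Lib.FusionClosed Cfsg.Agent.Lib.FusionStab Cfsg.Agent.Lib.FusionZeta Cfsg.Agent.Lib.FusionCenClosed
open Cfsg.Agent.Lib.FusionThmA (InA inA_id inA_aut tc_of_fullyNormalized mem_of_normalizes pow_mapsTo
  inv_mapsTo trivial_move trivial_fiso GoodTo I1 I2 aut_norm map_norm norm_fiso exists_e)
open Cfsg.Agent.Lib.FusionThmA2 (Lift goodTo_le not_dvd_relIndex)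

namespace Cfsg.Agent.Lib.FusionThmC

variable {Ω : Type*} [Group Ω] {S T : Subgroup Ω} {F : FusionSystem S} {E : FusionSystem T}
  {P Q R U M X Y Z G G₁ G₂ P₀ R₁ : Subgroup Ω} {a b f g θ κ ψ : Ω → Ω} {p : ℕ} {A : ∀ P : Subgroup Ω, Subgroup (MulAut P)}

/-- A class of subgroups closed under conjugation and overgroups. -/
structure Cls (F : FusionSystem S) (T : Subgroup Ω) where
  CL : Subgroup Ω → Prop
  conj : ∀ {P Q : Subgroup Ω}, P ≤ T → CL P → F.IsConj P Q → CL Q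
  mono : ∀ {P Q : Subgroup Ω}, CL P → P ≤ Q → Q ≤ T → CL Q

/-- `T`-centric members of the class. -/
structure TCC (F : FusionSystem S) (T : Subgroup Ω) (𝒞 : Cls F T) (P : Subgroup Ω) : Prop where
  le : P ≤ T
  all : ∀ Q : Subgroup Ω, F.IsConj P Q → centralizerIn T Q ≤ Q
  cl : 𝒞.CL P

variable {𝒞 : Cls F T}

theorem TCC.tc (h : TCC F T 𝒞 P) : TC F T P := ⟨h.1, h.2⟩

theorem tcc_of (h : TC F T P) (h' : 𝒞.CL P) : TCC F T 𝒞 P := ⟨h.1, h.2, h'⟩

theorem TCC.cent (hT : F.StronglyClosed T) (h : TCC F T 𝒞 P) : centralizerIn T P ≤ P := h.tc.cent hT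

theorem TCC.conj (hT : F.StronglyClosed T) (h : TCC F T 𝒞 P) (hPQ : F.IsConj P Q) : TCC F T 𝒞 Q :=
  tcc_of (h.tc.conj hT hPQ) (𝒞.conj h.1 h.3 hPQ)

theorem TCC.mono (hT : F.StronglyClosed T) (h : TCC F T 𝒞 P) (hPQ : P ≤ Q) (hQ : Q ≤ T) : TCC F T 𝒞 Q :=
  tcc_of (h.tc.mono hT hPQ hQ) (𝒞.mono h.3 hPQ hQ)

/-- The hypotheses on an invariant family. -/
structure FamC (F : FusionSystem S) (T : Subgroup Ω) (p : ℕ) (𝒞 : Cls F T) (A : ∀ P : Subgroup Ω, Subgroup (MulAut P)) :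
    Prop where
  le : ∀ P, TCC F T 𝒞 P → A P ≤ F.autGroup P
  equiv : ∀ (P Q : Subgroup Ω) (f g a : Ω → Ω), TCC F T 𝒞 P → FIso F P Q f → (∀ x ∈ P, g (f x) = x) → InA A P a →
    InA A Q (fun y => f (a (g y)))
  ind : ∀ P, TCC F T 𝒞 P → F.IsFullyNormalized P → autInducedBy T P ≤ A P
  syl : ∀ P, TCC F T 𝒞 P → F.IsFullyNormalized P → A P ⊓ autInducedBy S P ≤ autInducedBy T P
  res : ∀ (P : Subgroup Ω) (a : Ω → Ω), TCC F T 𝒞 P → F.IsFullyNormalized P → PP F p (normalizerIn T P) a →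
    InA A (normalizerIn T P) a → (∀ x ∈ P, a x ∈ P) → InA A P a
  ext : ∀ (P Q : Subgroup Ω) (a : Ω → Ω), TCC F T 𝒞 P → F.IsFullyNormalized P → P ≤ Q → Q ≤ normalizerIn T P →
    F.IsFullyCentralized Q → PP F p Q a → (∀ x ∈ P, a x ∈ P) → InA A P a → InA A Q a
  star : ∀ P, TC F T P → F.IsFullyNormalized P → ¬ 𝒞.CL P → ∃ K : Subgroup (MulAut P), K ≤ F.autGroup P ∧
    (∀ α ∈ F.autGroup P, ∀ κ ∈ K, α * κ * α⁻¹ ∈ K) ∧ IsPGroup p K ∧
    ∃ t ∈ normalizerIn T P, t ∉ P ∧ ∃ κ ∈ K, ∀ x ∈ P, autFun κ x = t * x * t⁻¹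

/-- The condition defining the generators. -/
def GnC (F : FusionSystem S) (T : Subgroup Ω) (𝒞 : Cls F T) (A : ∀ P : Subgroup Ω, Subgroup (MulAut P)) (P : Subgroup Ω)
    (f : Ω → Ω) : Prop := TCC F T 𝒞 P ∧ InA A P f

/-- The system generated by the family. -/
noncomputable def sysC (F : FusionSystem S) (T : Subgroup Ω) (𝒞 : Cls F T) (A : ∀ P : Subgroup Ω, Subgroup (MulAut P))
    (hT : T ≤ S) : FusionSystem T := genSys F T hT (GnC F T 𝒞 A)

theorem sysC_sub {hT : T ≤ S} : (sysC F T 𝒞 A hT).IsSubsystemOf F := genSys_sub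

theorem inA_fiso (hA : FamC F T p 𝒞 A) (hP : TCC F T 𝒞 P) (hT : T ≤ S) (h : InA A P f) : FIso F P P f := by
  obtain ⟨α, hα, h1⟩ := h
  exact ((fiso_autFun_iff (hP.1.trans hT)).2 (hA.le P hP hα)).congr fun x hx => (h1 x hx).symm

theorem FamC.normal (hA : FamC F T p 𝒞 A) (hP : TCC F T 𝒞 P) (hT : T ≤ S) :
    ∀ α ∈ F.autGroup P, ∀ n ∈ A P, α * n * α⁻¹ ∈ A P := by
  intro α hα n hn
  have h1 := hA.equiv P P (autFun α) (autFun α⁻¹) (autFun n) hP ((fiso_autFun_iff (hP.1.trans hT)).2 hα)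
    (fun x hx => autFun_inv_apply α hx) (inA_aut.2 hn)
  refine inA_aut.1 (h1.congr fun x hx => ?_)
  rw [← autFun_mul _ _ (autFun_mem _ hx), ← autFun_mul _ _ hx, mul_assoc]

theorem gn_data (hA : FamC F T p 𝒞 A) (hT : T ≤ S) : ∀ P f, GnC F T 𝒞 A P f → FMap F P f ∧ P ≤ T ∧ ∀ x ∈ P, f x ∈ T := by
  rintro P f ⟨h1, h2⟩
  exact ⟨(inA_fiso hA h1 hT h2).1, h1.1, fun x hx => h1.1 (h2.mem hx)⟩

theorem sysC_base (hA : FamC F T p 𝒞 A) {hT : T ≤ S} (hP : TCC F T 𝒞 P) (h : InA A P f) : FMap (sysC F T 𝒞 A hT) P f :=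
  fmap_genSys_base (gn_data hA hT) ⟨hP, h⟩

theorem sysC_fiso (hA : FamC F T p 𝒞 A) {hT : T ≤ S} (hP : TCC F T 𝒞 P) (h : InA A P f) : FIso (sysC F T 𝒞 A hT) P P f :=
  ⟨sysC_base hA hP h, (inA_fiso hA hP hT h).2⟩

theorem sysC_conjInv (hA : FamC F T p 𝒞 A) {hT : T ≤ S} : ConjInv F (sysC F T 𝒞 A hT) := by
  refine genSys_conjInv (gn_data hA hT) ?_
  rintro P Q a f ha ⟨hP, hf⟩ hQ
  have hPQ : FIso F P Q a := ⟨ha.1.restrict hP.1, hQ⟩
  obtain ⟨a', ha', e1, e2⟩ := hPQ.symm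
  have hQT : Q ≤ T := fun y hy => by
    obtain ⟨x, hx, rfl⟩ := (hQ y).1 hy
    exact ha.mem (hP.1 hx)
  refine ⟨_, ⟨?_, hA.equiv P Q a a' f hP hPQ e1 hf⟩, fun x hx => ?_⟩
  · refine ⟨hQT, fun R hR => hP.2 R (isConj_trans hPQ.isConj hR), 𝒞.conj hP.1 hP.3 hPQ.isConj⟩
  · show a (f (a' (a x))) = a (f x)
    rw [e1 x hx]

/-- the elements of `N_T(P)` acting on `P` as elements of `K` -/
def starM (T P : Subgroup Ω) (K : Subgroup (MulAut P)) : Subgroup Ω where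
  carrier := {t | t ∈ normalizerIn T P ∧ ∃ κ ∈ K, ∀ x ∈ P, autFun κ x = t * x * t⁻¹}
  one_mem' := ⟨Subgroup.one_mem _, 1, K.one_mem, fun x hx => by rw [autFun_one hx]; group⟩
  mul_mem' := by
    rintro s t ⟨h1, κ, h2, h3⟩ ⟨k1, μ, k2, k3⟩
    refine ⟨Subgroup.mul_mem _ h1 k1, κ * μ, K.mul_mem h2 k2, fun x hx => ?_⟩
    rw [autFun_mul _ _ hx, h3 _ (autFun_mem μ hx), k3 x hx]
    group
  inv_mem' := by
    rintro s ⟨h1, κ, h2, h3⟩
    refine ⟨Subgroup.inv_mem _ h1, κ⁻¹, K.inv_mem h2, fun x hx => ?_⟩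
    have h4 := h3 _ (autFun_mem κ⁻¹ hx)
    rw [autFun_apply_inv κ hx] at h4
    calc autFun κ⁻¹ x = s⁻¹ * (s * autFun κ⁻¹ x * s⁻¹) * s := by group
      _ = s⁻¹ * x * s⁻¹⁻¹ := by rw [← h4, inv_inv]

theorem starM_le (T P : Subgroup Ω) (K : Subgroup (MulAut P)) : starM T P K ≤ T := fun _ h => h.1.1

theorem star_ext [Finite S] [Fact p.Prime] (hS : IsPGroup p S) (hT : F.StronglyClosed T)
    (hPa : F.IsFullyAutomized p P) (hPr : F.IsReceptive P) (hPT : P ≤ T) {K : Subgroup (MulAut P)}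
    (hK : K ≤ F.autGroup P) (hKn : ∀ α ∈ F.autGroup P, ∀ κ ∈ K, α * κ * α⁻¹ ∈ K) (hKp : IsPGroup p K) {t : Ω}
    (ht : t ∈ normalizerIn T P) (htP : t ∉ P) {κ : MulAut P} (hκ : κ ∈ K) (hκt : ∀ x ∈ P, autFun κ x = t * x * t⁻¹)
    (hf : FIso F P P f) :
    ∃ g, FMap F (P ⊔ starM T P K) g ∧ (∀ x ∈ P, g x = f x) ∧ P < P ⊔ starM T P K := by
  have hKS := FusionPP.le_autInducedBy_of_normal hPa hK hKp hKn
  obtain ⟨g, hg, hg1⟩ := extend_sup hPr hf (M := starM T P K) (fun m hm => ⟨hT.1 hm.1.1, hm.1.2⟩) (fun m hm => by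
    obtain ⟨-, μ, hμ, hμm⟩ := hm
    have hαF : (hf.equiv : MulAut P) ∈ F.autGroup P := hf.equiv_mem_autGroup
    obtain ⟨s, hs, h1⟩ := mem_autInducedBy_iff.1 (hKS (hKn _ hαF μ hμ))
    refine ⟨s, hs, fun x hx => ?_⟩
    have hα : ∀ x ∈ P, autFun (hf.equiv : MulAut P) x = f x := fun x hx => by rw [autFun_of_mem _ hx]; rfl
    have h2 := h1 ⟨f x, hf.mem hx⟩
    rw [← autFun_coe] at h2
    have h3 : s * f x * s⁻¹ = autFun ((hf.equiv : MulAut P) * μ * (hf.equiv : MulAut P)⁻¹) (f x) := h2.symm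
    rw [h3, ← hμm x hx, ← hα x hx, ← autFun_mul _ _ hx,
      show (hf.equiv : MulAut P) * μ * (hf.equiv : MulAut P)⁻¹ * (hf.equiv : MulAut P) = (hf.equiv : MulAut P) * μ by
        group, autFun_mul _ _ hx, hα _ (autFun_mem μ hx)])
  refine ⟨g, hg, hg1, lt_of_le_of_ne le_sup_left fun h => htP ?_⟩
  rw [h]
  exact Subgroup.mem_sup_right ⟨ht, κ, hκ, hκt⟩

theorem sysC_frat [Finite S] [Fact p.Prime] (hS : IsPGroup p S) (hF : F.IsSaturated p) (hT : F.StronglyClosed T)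
    (hA : FamC F T p 𝒞 A) : ∀ P f, P ≤ T → FMap F P f → Frat F (sysC F T 𝒞 A hT.1) P f := by
  refine frattini_of hS hF hT (sysC_conjInv hA) fun P f hPT hP hf hbig => ?_
  have hP' := automized_receptive_of_fullyNormalized hS hF hP
  by_cases hc : centralizerIn T P ≤ P
  · have hTC0 := tc_of_fullyNormalized hS hF hT hPT.le hP hc
    by_cases hcl : 𝒞.CL P
    swap
    · obtain ⟨K, hK, hKn, hKp, t, ht, htP, κ, hκ, hκt⟩ := hA.star P hTC0 hP hcl
      obtain ⟨g, hg, hg1, hlt⟩ := star_ext hS hT hP'.1 hP'.2 hPT.le hK hKn hKp ht htP hκ hκt hf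
      obtain ⟨a, f₀, h4, h5, h6⟩ := hbig _ g (sup_le hPT.le (starM_le T P K)) hlt hg
      exact ⟨a, f₀, h4, h5, fun x hx => by rw [← hg1 x hx]; exact h6 x hx⟩
    have hTC := tcc_of hTC0 hcl
    have hlt : P < normalizerIn T P := lt_normalizerIn hS hT.1 hPT
    obtain ⟨g, α, hα, hg, hgP, h1⟩ := exists_frattini_ext hS hP'.1 hP'.2 (A P) (hA.le P hTC) (hA.normal hTC hT.1) hlt.le
      (inf_le_inf_right _ hT.1) (fun β hβ => hA.ind P hTC hP (autInducedBy_mono (normalizerIn_le T P) hβ)) hf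
    have h2 := hbig _ g (normalizerIn_le T P) hlt hg
    have h3 : Frat F (sysC F T 𝒞 A hT.1) P (autFun α) :=
      ⟨fun x => x, autFun α, FIso.refl F hT.1, sysC_base hA hTC (inA_aut.2 hα), fun _ _ => rfl⟩
    obtain ⟨a, f₀, h4, h5, h6⟩ := frat_comp (sysC_conjInv hA) h3 (fun x hx => autFun_mem α hx) hPT.le h2
    exact ⟨a, f₀, h4, h5, fun x hx => by rw [h1 x hx]; exact h6 x hx⟩
  · obtain ⟨g, hg, hg1, -⟩ := exists_extension_centralizer hP'.2 hf
    have hle : P ⊔ centralizerIn T P ≤ P ⊔ centralizerIn S P := sup_le_sup_left (inf_le_inf_right _ hT.1) _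
    have hlt : P < P ⊔ centralizerIn T P := lt_of_le_of_ne le_sup_left fun h => hc
      ((le_sup_right : centralizerIn T P ≤ P ⊔ centralizerIn T P).trans h.ge)
    obtain ⟨a, f₀, h4, h5, h6⟩ := hbig _ g (sup_le hPT.le (centralizerIn_le T P)) hlt (hg.restrict hle)
    exact ⟨a, f₀, h4, h5, fun x hx => by rw [← hg1 x hx]; exact h6 x hx⟩

theorem sysC_inv [Finite S] [Fact p.Prime] (hS : IsPGroup p S) (hF : F.IsSaturated p) (hT : F.StronglyClosed T)
    (hA : FamC F T p 𝒞 A) : FusionInvar.Inv (sysC F T 𝒞 A hT.1) F where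
  sub := sysC_sub
  closed := hT
  conj := fun h1 h2 h3 => sysC_conjInv hA _ _ _ _ h1 h2 h3
  frattini := fun hP hf => sysC_frat hS hF hT hA _ _ hP hf

/-- conjugation by elements of `N_T(P)` lies in `A P` -/
theorem inA_conj [Finite S] [Fact p.Prime] (hS : IsPGroup p S) (hF : F.IsSaturated p) (hT : F.StronglyClosed T)
    (hA : FamC F T p 𝒞 A) (hP : TCC F T 𝒞 P) {t : Ω} (ht : t ∈ normalizerIn T P) : InA A P (fun x => t * x * t⁻¹) := by
  have hPS := hP.1.trans hT.1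
  obtain ⟨P₀, k, hP₀, hk, hkN, hkN'⟩ := exists_fullyNormalized_map hS hF hPS
  obtain ⟨k', hk', e1, e2⟩ := hk.symm
  have hTC₀ := hP.conj hT hk.isConj
  have hkt := map_normalizer_inf hT hkN hkN' t ht
  have h1 : InA A P₀ (fun x => k t * x * (k t)⁻¹) := by
    refine ⟨conjAut P₀ (k t) hkt.2, hA.ind P₀ hTC₀ hP₀ (conjAut_mem_autInducedBy hkt.2 hkt.1), fun x hx => ?_⟩
    rw [autFun_of_mem _ hx, conjAut_apply]
  refine (hA.equiv P₀ P k' k _ hTC₀ hk' e2 h1).congr fun x hx => ?_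
  have htN : t ∈ normalizerIn S P := ⟨hT.1 ht.1, ht.2⟩
  rw [← hkN.map_conj htN (le_normalizerIn hPS hx), e1 _ ((Subgroup.mem_normalizer_iff.1 ht.2 x).1 hx)]

/-- a subgroup fully normalized in `N_F(P)` is fully centralized in `F` -/
theorem fc_of_norm [Finite S] [Fact p.Prime] (hS : IsPGroup p S) (hF : F.IsSaturated p) (hP : F.IsFullyNormalized P)
    (hPQ : P ≤ Q) (hQ : (normSys F P hP.1).IsFullyNormalized Q) : F.IsFullyCentralized Q := by
  have hNp : IsPGroup p ↥(normalizerIn S P) := isPGroup_of_le hS (normalizerIn_le S P)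
  have hNfin : Finite ↥(normalizerIn S P) := finite_of_le (normalizerIn_le S P)
  have hNs : (normSys F P hP.1).IsSaturated p := normSys_saturated hS hF hP
  have hQN : Q ≤ normalizerIn S P := hQ.1
  have hQc := isFullyCentralized_of_receptive (receptive_of_fullyNormalized hNp hNs hQ)
  refine ⟨hQN.trans (normalizerIn_le S P), fun R hR => ?_⟩
  obtain ⟨k, hk⟩ := isConj_iff_fiso.1 hR
  obtain ⟨P', hP'⟩ := (hk.1.restrict hPQ).exists_iso
  obtain ⟨j, hj, hjN, hjN'⟩ := exists_map_to_fullyNormalized hS hF hP (isConj_symm hP'.isConj)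
  have hP'R : P' ≤ R := fun y hy => by
    obtain ⟨x, hx, rfl⟩ := hP'.mem_iff.1 hy
    exact hk.mem (hPQ hx)
  have hRN : R ≤ normalizerIn S P' := fun y hy => by
    obtain ⟨x, hx, rfl⟩ := hk.mem_iff.1 hy
    exact ⟨hk.1.map_mem hx, hP'.map_normalizer hk.1 hPQ hx (hQN hx).2⟩
  have hPN' := le_normalizerIn hP'.le_right
  obtain ⟨Q₀, hQ₀⟩ := (hjN.restrict hRN).exists_iso
  have hjkF : FIso F Q Q₀ (fun x => j (k x)) := hk.trans hQ₀
  have hjkP : FIso F P P (fun x => j (k x)) := hP'.trans hj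
  have hQ₀N : Q₀ ≤ normalizerIn S P := fun y hy => by
    obtain ⟨x, hx, rfl⟩ := hQ₀.mem_iff.1 hy
    exact hjN' x (hRN hx)
  have hNS : FIso (normSys F P hP.1) Q Q₀ (fun x => j (k x)) := by
    refine ⟨fmap_normSys.2 ⟨hQN, fun x hx => hQ₀N (hjkF.mem hx), fun x => j (k x), ?_, fun _ _ => rfl, hjkP⟩, hjkF.2⟩
    rw [sup_eq_left.2 hPQ]; exact hjkF.1
  have h1 : Nat.card (centralizerIn S R) ≤ Nat.card (centralizerIn (normalizerIn S P) Q₀) := by
    have hle : centralizerIn S R ≤ normalizerIn S P' := fun c hc =>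
      centralizerIn_le_normalizerIn S P' ⟨hc.1, fun x hx => hc.2 x (hP'R hx)⟩
    refine (hjN.restrict hle).card_image_le (fun c hc => ⟨hjN' c (hle hc), ?_⟩)
      ((centralizerIn_le _ Q₀).trans (normalizerIn_le S P))
    exact hQ₀.map_centralizer hjN hRN (hle hc) hc.2
  have h2 := hQc.2 Q₀ hNS.isConj
  have hCfin : Finite (centralizerIn S Q) := finite_of_le (centralizerIn_le S Q)
  have h3 : Nat.card (centralizerIn (normalizerIn S P) Q) ≤ Nat.card (centralizerIn S Q) :=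
    Nat.card_le_card_of_injective _ (Subgroup.inclusion_injective (inf_le_inf_right _ (normalizerIn_le S P)))
  exact h1.trans (h2.trans h3)

/-- the full extension property -/
theorem FamC.extF [Finite S] [Fact p.Prime] (hA : FamC F T p 𝒞 A) (hS : IsPGroup p S) (hF : F.IsSaturated p)
    (hT : F.StronglyClosed T) (P Q : Subgroup Ω) (a : Ω → Ω) (hP : TCC F T 𝒞 P) (hPn : F.IsFullyNormalized P) (hPQ : P ≤ Q)
    (hQN : Q ≤ normalizerIn T P) (ha : PP F p Q a) (haP : ∀ x ∈ P, a x ∈ P) (haA : InA A P a) : InA A Q a := by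
  have hNp : IsPGroup p ↥(normalizerIn S P) := isPGroup_of_le hS (normalizerIn_le S P)
  have hNfin : Finite ↥(normalizerIn S P) := finite_of_le (normalizerIn_le S P)
  have hNs : (normSys F P hPn.1).IsSaturated p := normSys_saturated hS hF hPn
  have hQNS : Q ≤ normalizerIn S P := hQN.trans (inf_le_inf_right _ hT.1)
  obtain ⟨Q₀, l, hQ₀, hl, -, -⟩ := exists_fullyNormalized_map hNp hNs hQNS
  have hlF := sub_fiso (normSys_sub (F := F) (hX := hPn.1)) hl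
  obtain ⟨-, -, g, hg, g1, g2⟩ := fmap_normSys.1 hl.1
  have hlP : FIso F P P l := g2.congr fun x hx => g1 x (hPQ hx)
  have hPQ₀ : P ≤ Q₀ := fun y hy => by
    obtain ⟨x, hx, rfl⟩ := hlP.mem_iff.1 hy
    exact hl.mem (hPQ hx)
  obtain ⟨l', hl', e1, e2⟩ := hlF.symm
  have hl'P : ∀ y ∈ P, l' y ∈ P := fun y hy => by
    obtain ⟨x, hx, rfl⟩ := hlP.mem_iff.1 hy
    rw [e1 x (hPQ hx)]; exact hx
  have hfc := fc_of_norm hS hF hPn hPQ₀ hQ₀
  have hQ₀N : Q₀ ≤ normalizerIn T P := fun y hy => by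
    obtain ⟨x, hx, rfl⟩ := hl.mem_iff.1 hy
    exact ⟨StronglyClosed.map_mem F hT hlF.1 hx (hQN hx).1, (hQ₀.1 hy).2⟩
  have h1 := hA.equiv P P l l' a hP hlP (fun x hx => e1 x (hPQ hx)) haA
  have h2 := hA.ext P Q₀ _ hP hPn hPQ₀ hQ₀N hfc (ha.transport hlF hl' e1 e2) (fun x hx => h1.mem hx) h1
  have hTCQ₀ : TCC F T 𝒞 Q₀ := hP.mono hT hPQ₀ (hQ₀N.trans (normalizerIn_le T P))
  refine (hA.equiv Q₀ Q l' l _ hTCQ₀ hl' e2 h2).congr fun x hx => ?_
  show l' (l (a (l' (l x)))) = a x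
  rw [e1 x hx, e1 _ (ha.mem hx)]

theorem res_all [Finite S] [Fact p.Prime] (hS : IsPGroup p S) (hF : F.IsSaturated p) (hT : F.StronglyClosed T)
    (hA : FamC F T p 𝒞 A) (hP : TCC F T 𝒞 P) (hPn : F.IsFullyNormalized P) (hQe : Q = normalizerIn T P)
    (h : InA A Q f) (hfP : ∀ x ∈ P, f x ∈ P) : InA A P f := by
  have hPQ : P ≤ Q := hQe ▸ le_normalizerIn hP.1
  have hQT : Q ≤ T := hQe ▸ normalizerIn_le T P
  have hTCQ : TCC F T 𝒞 Q := hP.mono hT hPQ hQT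
  have hQS := hQT.trans hT.1
  obtain ⟨α, hα, h1⟩ := h
  have hfin : Finite Q := finite_of_le hQS
  have hαP : ∀ x ∈ P, autFun α x ∈ P := fun x hx => by rw [← h1 x (hPQ hx)]; exact hfP x hx
  let H : Subgroup (MulAut Q) :=
    { carrier := {β | β ∈ A Q ∧ (∀ x ∈ P, autFun β x ∈ P) ∧ InA A P (autFun β)}
      one_mem' := ⟨one_mem _, fun x hx => by rw [autFun_one (hPQ hx)]; exact hx,
        inA_id.congr fun x hx => (autFun_one (hPQ hx)).symm⟩
      mul_mem' := by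
        rintro β γ ⟨h1, h2, h3⟩ ⟨k1, k2, k3⟩
        exact ⟨mul_mem h1 k1, fun x hx => by rw [autFun_mul _ _ (hPQ hx)]; exact h2 _ (k2 x hx),
          (k3.comp h3).congr fun x hx => (autFun_mul _ _ (hPQ hx)).symm⟩
      inv_mem' := by
        rintro β ⟨h1, h2, h3⟩
        exact ⟨inv_mem h1, inv_mapsTo hPQ hQS (hA.le Q hTCQ h1) h2, h3.inv fun x hx => autFun_inv_apply β (hPQ hx)⟩ }
  have hH : α ∈ H := by
    refine mem_of_parts (p := p) (isOfFinOrder_of_finite α) H (fun n hn => ?_) (fun n hn => ?_)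
    · have hαn : α ^ n ∈ A Q := pow_mem hα n
      refine ⟨hαn, pow_mapsTo hPQ hαP n, ?_⟩
      -- transport to a fully normalized conjugate
      obtain ⟨Q₀, k, hQ₀, hk, -, -⟩ := exists_fullyNormalized_map hS hF hQS
      have hTC₀ := hTCQ.conj hT hk.isConj
      obtain ⟨k', hk', e1, e2⟩ := hk.symm
      have hβ := hA.equiv Q Q₀ k k' _ hTCQ hk e1 (inA_aut.2 hαn)
      obtain ⟨β, hβA, hβ1'⟩ := hβ
      have hβ1 : ∀ x ∈ Q₀, k (autFun (α ^ n) (k' x)) = autFun β x := hβ1'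
      have hβF := hA.le Q₀ hTC₀ hβA
      -- β is a p-element
      have hβe : β = hk.autEquiv (α ^ n) := by
        ext y
        obtain ⟨x, rfl⟩ := hk.equiv.surjective y
        rw [FIso.autEquiv_apply_apply, FIso.equiv_apply, ← autFun_coe, ← hβ1 _ (hk.equiv x).2, FIso.equiv_apply,
          e1 x x.2, autFun_coe]
      have hβp : ∃ j, orderOf β = p ^ j := by
        obtain ⟨j, hj⟩ := hn
        exact ⟨j, by rw [hβe, MulEquiv.orderOf_eq, hj]⟩
      have hK : IsPGroup p (Subgroup.zpowers β) := by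
        obtain ⟨j, hj⟩ := hβp
        exact IsPGroup.of_card (n := j) (by rw [Nat.card_zpowers, hj])
      obtain ⟨χ, hχ, h5⟩ := exists_conj_le_autInducedBy (fullyAutomized_of_fullyNormalized hS hF hQ₀)
        (Subgroup.zpowers β) (by rw [Subgroup.zpowers_le]; exact hβF) hK
      have h6 := h5 β (Subgroup.mem_zpowers β)
      have h7 := hA.syl Q₀ hTC₀ hQ₀ ⟨hA.normal hTC₀ hT.1 χ hχ β hβA, h6⟩
      obtain ⟨t, ht, h8⟩ := mem_autInducedBy_iff.1 h7
      -- m = χ k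
      have hm : FIso F Q Q₀ (fun x => autFun χ (k x)) := hk.trans ((fiso_autFun_iff hQ₀.1).2 hχ)
      obtain ⟨P₁, hP₁⟩ := (hm.1.restrict hPQ).exists_iso
      obtain ⟨m', hm', m1, m2⟩ := hP₁.symm
      have hP₁TC := hP.conj hT hP₁.isConj
      have hact : ∀ x ∈ Q, t * autFun χ (k x) * t⁻¹ = autFun χ (k (autFun (α ^ n) x)) := by
        intro x hx
        have hkx := hk.mem hx
        have h9 := h8 ⟨autFun χ (k x), autFun_mem χ hkx⟩
        rw [← autFun_coe] at h9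
        have h10 : t * autFun χ (k x) * t⁻¹ = autFun (χ * β * χ⁻¹) (autFun χ (k x)) := h9.symm
        rw [h10, ← autFun_mul _ _ hkx, show χ * β * χ⁻¹ * χ = χ * β by group, autFun_mul _ _ hkx, ← hβ1 _ hkx, e1 x hx]
      have htP₁ : t ∈ normalizerIn T P₁ := by
        refine ⟨ht, ?_⟩
        have hfinP : Finite P₁ := finite_of_le hP₁.le_right
        have hmaps : ∀ y ∈ P₁, t * y * t⁻¹ ∈ P₁ := by
          intro y hy
          obtain ⟨x, hx, rfl⟩ := hP₁.mem_iff.1 hy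
          rw [hact x (hPQ hx)]
          exact hP₁.mem (pow_mapsTo hPQ hαP n x hx)
        have hi : FIso F P₁ P₁ (fun y => t * y * t⁻¹) := (fmap_conj F hP₁.le_right (hT.1 ht)).fiso_of_card hP₁.le_right
          hmaps le_rfl
        refine Subgroup.mem_normalizer_iff.2 fun y => ⟨hmaps y, fun hy => ?_⟩
        obtain ⟨z, hz, hze⟩ := hi.mem_iff.1 hy
        have hze' : t * z * t⁻¹ = t * y * t⁻¹ := hze
        have : z = y := by
          have h7 := congrArg (fun z => t⁻¹ * z * t) hze'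
          simpa [mul_assoc] using h7
        rwa [← this]
      refine (hA.equiv P₁ P m' (fun x => autFun χ (k x)) _ hP₁TC hm' m2 (inA_conj hS hF hT hA hP₁TC htP₁)).congr
        fun x hx => ?_
      show m' (t * autFun χ (k x) * t⁻¹) = autFun (α ^ n) x
      rw [hact x (hPQ hx)]
      exact m1 _ (pow_mapsTo hPQ hαP n x hx)
    · have hαn : α ^ n ∈ A Q := pow_mem hα n
      have hpp := pp_of_aut hQS (hA.le Q hTCQ hαn) hn
      exact ⟨hαn, pow_mapsTo hPQ hαP n, hA.res P _ hP hPn (hQe ▸ hpp) (hQe ▸ inA_aut.2 hαn) (pow_mapsTo hPQ hαP n)⟩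
  exact hH.2.2.congr fun x hx => (h1 x (hPQ hx)).symm

theorem dl_aut [Finite S] [Fact p.Prime] (hS : IsPGroup p S) (hF : F.IsSaturated p) (hT : F.StronglyClosed T)
    (hA : FamC F T p 𝒞 A) (hP : TCC F T 𝒞 P) (hPn : F.IsFullyNormalized P)
    (hθ : FIso F (normalizerIn T P) (normalizerIn T P) θ) (hθP : ∀ x ∈ P, θ x ∈ P) (hθA : InA A P θ) :
    ∃ c k, FIso F (normalizerIn T P) (normalizerIn T P) c ∧ (∀ x ∈ P, c x = x) ∧
      FIso (sysC F T 𝒞 A hT.1) (normalizerIn T P) (normalizerIn T P) k ∧ InA A P k ∧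
      ∀ x ∈ normalizerIn T P, θ x = k (c x) := by
  obtain ⟨N, hN⟩ : ∃ N, N = normalizerIn T P := ⟨_, rfl⟩
  rw [← hN] at hθ ⊢
  have hPN : P ≤ N := hN ▸ le_normalizerIn hP.1
  have hNT : N ≤ T := hN ▸ normalizerIn_le T P
  have hNS := hNT.trans hT.1
  have hNn : ∀ n ∈ N, n ∈ normalizerIn T P := fun n hn => hN ▸ hn
  have hTCN := hP.mono hT hPN hNT
  have hfin : Finite N := finite_of_le hNS
  have hinv := sysC_inv hS hF hT hA
  have hstr := FusionFrat.Inv.strong hinv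
  let E' : Subgroup (MulAut N) :=
    { carrier := {β | β ∈ (sysC F T 𝒞 A hT.1).autGroup N ∧ (∀ x ∈ P, autFun β x ∈ P) ∧ InA A P (autFun β)}
      one_mem' := ⟨one_mem _, fun x hx => by rw [autFun_one (hPN hx)]; exact hx,
        inA_id.congr fun x hx => (autFun_one (hPN hx)).symm⟩
      mul_mem' := by
        rintro β γ ⟨h1, h2, h3⟩ ⟨k1, k2, k3⟩
        exact ⟨mul_mem h1 k1, fun x hx => by rw [autFun_mul _ _ (hPN hx)]; exact h2 _ (k2 x hx),
          (k3.comp h3).congr fun x hx => (autFun_mul _ _ (hPN hx)).symm⟩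
      inv_mem' := by
        rintro β ⟨h1, h2, h3⟩
        exact ⟨inv_mem h1, inv_mapsTo hPN hNS (sub_autGroup hinv.sub hNT h1) h2,
          h3.inv fun x hx => autFun_inv_apply β (hPN hx)⟩ }
  let K : Subgroup (MulAut N) :=
    { carrier := {β | β ∈ F.autGroup N ∧ ∀ x ∈ P, autFun β x = x}
      one_mem' := ⟨one_mem _, fun x hx => autFun_one (hPN hx)⟩
      mul_mem' := by
        rintro β γ ⟨h1, h2⟩ ⟨k1, k2⟩
        exact ⟨mul_mem h1 k1, fun x hx => by rw [autFun_mul _ _ (hPN hx), k2 x hx, h2 x hx]⟩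
      inv_mem' := by
        rintro β ⟨h1, h2⟩
        refine ⟨inv_mem h1, fun x hx => ?_⟩
        have := autFun_inv_apply β (hPN hx)
        rwa [h2 x hx] at this }
  have hnorm : E' ≤ Subgroup.normalizer (K : Set (MulAut N)) := by
    have h1 : ∀ β ∈ E', ∀ γ ∈ K, β * γ * β⁻¹ ∈ K := by
      rintro β ⟨b1, b2, b3⟩ γ ⟨c1, c2⟩
      have b1' := sub_autGroup hinv.sub hNT b1
      refine ⟨mul_mem (mul_mem b1' c1) (inv_mem b1'), fun x hx => ?_⟩
      have hx' := inv_mapsTo hPN hNS b1' b2 x hx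
      rw [autFun_mul _ _ (hPN hx), autFun_mul _ _ (hPN hx'), c2 _ hx', autFun_apply_inv β (hPN hx)]
    intro β hβ
    refine Subgroup.mem_normalizer_iff.2 fun γ => ⟨h1 β hβ γ, fun h => ?_⟩
    have := h1 _ (inv_mem hβ) _ h
    rwa [inv_inv, show β⁻¹ * (β * γ * β⁻¹) * β = γ by group] at this
  -- θ as an automorphism
  obtain ⟨α, hα⟩ : ∃ α : MulAut N, α = hθ.equiv := ⟨_, rfl⟩
  have hαF : α ∈ F.autGroup N := hα ▸ hθ.equiv_mem_autGroup
  have hαθ : ∀ x ∈ N, autFun α x = θ x := fun x hx => by rw [autFun_of_mem α hx, hα]; rfl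
  have hαP : ∀ x ∈ P, autFun α x ∈ P := fun x hx => by rw [hαθ x (hPN hx)]; exact hθP x hx
  have hαA : InA A P (autFun α) := hθA.congr fun x hx => (hαθ x (hPN hx)).symm
  have hpowA : ∀ n : ℕ, InA A P (autFun (α ^ n)) := by
    intro n
    induction n with
    | zero => exact inA_id.congr fun x hx => by rw [pow_zero, autFun_one (hPN hx)]
    | succ n ih => exact (hαA.comp ih).congr fun x hx => by rw [pow_succ, autFun_mul _ _ (hPN hx)]
  have hαsup : α ∈ E' ⊔ K := by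
    refine mem_of_parts (p := p) (isOfFinOrder_of_finite α) (E' ⊔ K) (fun n hn => ?_) (fun n hn => ?_)
    · have hαn : α ^ n ∈ F.autGroup N := pow_mem hαF n
      have hi := (fiso_autFun_iff hNS).2 hαn
      have hPi : FIso F P P (autFun (α ^ n)) := fiso_restrict hi.1 hPN (pow_mapsTo hPN hαP n)
      have hmem : (hPi.equiv : MulAut P) ∈ A P := by
        refine inA_aut.1 ((hpowA n).congr fun x hx => ?_)
        rw [autFun_of_mem _ hx]; rfl
      have hmem2 : (hPi.equiv : MulAut P) ∈ autInducedBy S P := by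
        refine mem_of_normalizes (fullyAutomized_of_fullyNormalized hS hF hPn) (hA.le P hP) (hA.normal hP hT.1) hmem ?_ ?_
        · obtain ⟨k, hk⟩ := hn
          have h5 : (hPi.equiv : MulAut P) ^ p ^ k = 1 := by
            ext x
            rw [equiv_pow_apply, ← autFun_pow_apply' _ _ (hPN x.2), ← hk, pow_orderOf_eq_one, autFun_one (hPN x.2)]
            rfl
          obtain ⟨j, -, hj⟩ := (Nat.dvd_prime_pow (Fact.out : p.Prime)).1 (orderOf_dvd_of_pow_eq_one h5)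
          exact ⟨j, hj⟩
        · intro κ hκ
          obtain ⟨t, ht, ht'⟩ := mem_autInducedBy_iff.1 (hA.syl P hP hPn hκ)
          have htN : t ∈ N := hN ▸ ⟨ht, mem_normalizer_of_aut ht'⟩
          refine mem_autInducedBy_iff.2 ⟨autFun (α ^ n) t, hi.1.map_mem htN, fun x => ?_⟩
          obtain ⟨y, hy⟩ := (hPi.equiv : MulAut P).surjective x
          rw [← hy, MulAut.mul_apply, MulAut.mul_apply]
          have h6 : (hPi.equiv : MulAut P)⁻¹ ((hPi.equiv : MulAut P) y) = y := MulAut.inv_apply_self _ _ _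
          rw [h6]
          show autFun (α ^ n) (κ y : P) = autFun (α ^ n) t * autFun (α ^ n) (y : Ω) * (autFun (α ^ n) t)⁻¹
          rw [ht', hi.1.map_conj htN (hPN y.2)]
      obtain ⟨t, ht, ht'⟩ := mem_autInducedBy_iff.1 (hA.syl P hP hPn ⟨hmem, hmem2⟩)
      have htN : t ∈ N := hN ▸ ⟨ht, mem_normalizer_of_aut ht'⟩
      have htn : t ∈ Subgroup.normalizer (N : Set Ω) := Subgroup.le_normalizer htN
      have hc1 : conjAut N t htn ∈ E' := by
        refine ⟨autInducedBy_le_autGroup hNT le_rfl (conjAut_mem_autInducedBy htn ht), fun x hx => ?_, ?_⟩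
        · rw [autFun_of_mem _ (hPN hx), conjAut_apply]
          exact (Subgroup.mem_normalizer_iff.1 (hNn t htN).2 x).1 hx
        · refine (inA_conj hS hF hT hA hP (hNn t htN)).congr fun x hx => ?_
          rw [autFun_of_mem _ (hPN hx), conjAut_apply]
      have hc2 : (conjAut N t htn)⁻¹ * α ^ n ∈ K := by
        have hcF : conjAut N t htn ∈ F.autGroup N := conjAut_mem_autGroup hNS htn (hT.1 ht)
        refine ⟨mul_mem (inv_mem hcF) hαn, fun x hx => ?_⟩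
        have h6 : autFun (α ^ n) x = autFun (conjAut N t htn) x := by
          rw [autFun_of_mem (conjAut N t htn) (hPN hx), conjAut_apply]
          exact ht' ⟨x, hx⟩
        rw [autFun_mul _ _ (hPN hx), h6, autFun_inv_apply _ (hPN hx)]
      have h7 : α ^ n = conjAut N t htn * ((conjAut N t htn)⁻¹ * α ^ n) := by group
      rw [h7]
      exact Subgroup.mul_mem_sup hc1 hc2
    · have hαn : α ^ n ∈ F.autGroup N := pow_mem hαF n
      have hpp := pp_of_aut hNS hαn hn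
      have h8 := hA.extF hS hF hT P N _ hP hPn hPN (hN.le) hpp (pow_mapsTo hPN hαP n) (hpowA n)
      refine Subgroup.mem_sup_left ⟨?_, pow_mapsTo hPN hαP n, hpowA n⟩
      exact (FMap_autFun_iff hNT).1 (sysC_base hA hTCN h8)
  obtain ⟨β, ⟨hβ1, hβ2, hβ3⟩, γ, ⟨hγ1, hγ2⟩, hβγ⟩ := (mem_sup_of_normalizes hnorm).1 hαsup
  refine ⟨autFun γ, autFun β, (fiso_autFun_iff hNS).2 hγ1, hγ2, (fiso_autFun_iff hNT).2 hβ1, hβ3, fun x hx => ?_⟩
  rw [← autFun_mul _ _ hx, hβγ, hαθ x hx]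

/-- **Decomposition lemma.** -/
theorem dl [Finite S] [Fact p.Prime] (hS : IsPGroup p S) (hF : F.IsSaturated p) (hT : F.StronglyClosed T)
    (hA : FamC F T p 𝒞 A) (hP : TCC F T 𝒞 P) (hPn : F.IsFullyNormalized P) (hPR : P ≤ R) (hRN : R ≤ normalizerIn T P)
    (hκ : FMap F R κ) (hκN : ∀ x ∈ R, κ x ∈ normalizerIn T P) (hκP : ∀ x ∈ P, κ x ∈ P) (hκA : InA A P κ) :
    ∃ c k, FIso F (normalizerIn T P) (normalizerIn T P) c ∧ (∀ x ∈ P, c x = x) ∧
      FMap (sysC F T 𝒞 A hT.1) R k ∧ InA A P k ∧ FIso F R R c ∧ ∀ x ∈ R, κ x = k (c x) := by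
  have hPS := hPn.1
  have hTn := normalizes_of_stronglyClosed hT
  have hinv := sysC_inv hS hF hT hA
  have hstr := FusionFrat.Inv.strong hinv
  obtain ⟨N, hN⟩ : ∃ N, N = normalizerIn T P := ⟨_, rfl⟩
  rw [← hN] at hRN hκN ⊢
  have hPN : P ≤ N := hN ▸ le_normalizerIn hP.1
  have hNT : N ≤ T := hN ▸ normalizerIn_le T P
  have hNNS : N ≤ normalizerIn S P := hN ▸ inf_le_inf_right _ hT.1
  have hNn : ∀ n ∈ N, n ∈ normalizerIn T P := fun n hn => hN ▸ hn
  let NS := normSys F P hPS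
  have hNSsub : NS.IsSubsystemOf F := normSys_sub
  have hNSsat : NS.IsSaturated p := normSys_saturated hS hF hPn
  have hNSp : IsPGroup p ↥(normalizerIn S P) := isPGroup_of_le hS (normalizerIn_le S P)
  have hNSfin : Finite ↥(normalizerIn S P) := finite_of_le (normalizerIn_le S P)
  have hPNS : P ≤ normalizerIn S P := hPN.trans hNNS
  -- maps of the normalizer system
  have hmk : ∀ {Q : Subgroup Ω} {f : Ω → Ω}, P ≤ Q → Q ≤ normalizerIn S P → FMap F Q f →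
      (∀ x ∈ Q, f x ∈ normalizerIn S P) → (∀ x ∈ P, f x ∈ P) → FMap NS Q f := by
    intro Q f hPQ hQ hf hfQ hfP
    refine fmap_normSys.2 ⟨hQ, hfQ, f, ?_, fun _ _ => rfl, fiso_restrict hf hPQ hfP⟩
    rw [sup_eq_left.2 hPQ]; exact hf
  have hPinv : ∀ {Q : Subgroup Ω} {f : Ω → Ω}, P ≤ Q → FMap NS Q f → FIso F P P f := by
    intro Q f hPQ hf
    obtain ⟨-, -, g, hg, g1, g2⟩ := fmap_normSys.1 hf
    exact g2.congr fun x hx => g1 x (hPQ hx)
  have hNcl : NS.StronglyClosed N := by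
    rw [stronglyClosed_iff]
    refine ⟨hNNS, fun Q f hQ hf x hx => ?_⟩
    have h1 : f x ∈ normalizerIn S P := hf.map_mem hx
    have h2 := StronglyClosed.map_mem F hT (sub_fmap hNSsub hf) hx (hNT (hQ hx))
    rw [hN]; exact ⟨h2, h1.2⟩
  -- the generated subsystem
  let B : Subgroup Ω → (Ω → Ω) → Prop := fun Q f => P ≤ Q ∧ Q ≤ N ∧ PP F p Q f ∧ (∀ x ∈ P, f x ∈ P) ∧ InA A P f
  have hB : ∀ Q f, B Q f → FMap NS Q f ∧ Q ≤ N ∧ ∀ x ∈ Q, f x ∈ N := by
    rintro Q f ⟨h1, h2, h3, h4, h5⟩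
    exact ⟨hmk h1 (h2.trans hNNS) h3.map (fun x hx => hNNS (h2 (h3.mem hx))) h4, h2, fun x hx => h2 (h3.mem hx)⟩
  obtain ⟨D, hD⟩ : ∃ D, D = genSys NS N hNNS B := ⟨_, rfl⟩
  have hDE : ∀ {Q : Subgroup Ω} {f : Ω → Ω}, FMap D Q f → FMap (sysC F T 𝒞 A hT.1) Q f := by
    intro Q f hf
    rw [hD] at hf
    refine genSys_le hB hNT ?_ hf
    rintro Q f ⟨h1, h2, h3, h4, h5⟩
    exact sysC_base hA (hP.mono hT h1 (h2.trans hNT)) (hA.extF hS hF hT P Q f hP hPn h1 (h2.trans hN.le) h3 h4 h5)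
  have hDNS : D.IsSubsystemOf NS := by rw [hD]; exact genSys_sub
  have hcA : ∀ n ∈ N, InA A P (fun x => n * x * n⁻¹) := fun n hn => inA_conj hS hF hT hA hP (hNn n hn)
  have hDA : ∀ Q f, FMap D Q f → P ≤ Q → InA A P f := by
    intro Q f hf
    rw [hD] at hf
    refine genSys_induction hB (fun Q f => P ≤ Q → InA A P f) ?_ ?_ ?_ ?_ ?_ Q f hf
    · rintro Q f ⟨h1, h2, h3, h4, h5⟩ -
      exact h5
    · intro Q s _ hs _
      exact hcA s hs
    · intro Q Q' f g hf h1 hg h2 h3 hPQ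
      have h4 := h1 hPQ
      have h5 := inA_fiso hA hP hT.1 h4
      have hPQ' : P ≤ Q' := fun y hy => by
        obtain ⟨x, hx, rfl⟩ := h5.mem_iff.1 hy
        exact h3 x (hPQ hx)
      exact h4.comp (h2 hPQ')
    · intro Q Q' f g hf h1 hg hgf hfg hPQ'
      have h5 := hPinv hPQ' (sub_fmap (by exact genSys_sub) hg.1)
      have hPQ : P ≤ Q := fun y hy => by
        obtain ⟨x, hx, rfl⟩ := h5.mem_iff.1 hy
        exact hg.mem (hPQ' hx)
      exact (h1 hPQ).inv fun x hx => hgf x (hPQ hx)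
    · intro Q f g _ h1 h2 hPQ
      exact (h1 hPQ).congr fun x hx => h2 x (hPQ hx)
  have hDc : ConjInv NS D := by
    rw [hD]
    refine genSys_conjInv hB ?_
    rintro Q Q' a f ha ⟨h1, h2, h3, h4, h5⟩ hQ'
    have haQ : FIso NS Q Q' a := ⟨ha.1.restrict h2, hQ'⟩
    have haQF := sub_fiso hNSsub haQ
    obtain ⟨a', ha', e1, e2⟩ := haQF.symm
    have haP := hPinv h1 haQ.1
    have hPQ' : P ≤ Q' := fun y hy => by
      obtain ⟨x, hx, rfl⟩ := haP.mem_iff.1 hy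
      exact haQ.mem (h1 hx)
    have ha'P : ∀ y ∈ P, a' y ∈ P := fun y hy => by
      obtain ⟨x, hx, rfl⟩ := haP.mem_iff.1 hy
      rw [e1 x (h1 hx)]; exact hx
    refine ⟨fun y => a (f (a' y)), ⟨hPQ', fun y hy => ?_, h3.transport haQF ha' e1 e2, fun y hy => ?_, ?_⟩, fun x hx => ?_⟩
    · obtain ⟨x, hx, rfl⟩ := haQ.mem_iff.1 hy
      exact ha.mem (h2 hx)
    · exact haP.mem (h4 _ (ha'P y hy))
    · exact hA.equiv P P a a' f hP haP (fun x hx => e1 x (h1 hx)) h5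
    · show a (f (a' (a x))) = a (f x)
      rw [e1 x hx]
  have hfrat : ∀ Q f, Q ≤ N → FMap NS Q f → Frat NS D Q f := by
    refine frattini_of hNSp hNSsat hNcl hDc fun Q f hQN hQ hf hbig => ?_
    by_cases hPQ : P ≤ Q
    · have hQ' := automized_receptive_of_fullyNormalized hNSp hNSsat hQ
      have hlt : Q < normalizerIn N Q := lt_normalizerIn hNSp hNNS hQN
      have hfinQ : Finite Q := finite_of_le hQ.1
      let N' : Subgroup (MulAut Q) :=
        { carrier := {β | β ∈ NS.autGroup Q ∧ InA A P (autFun β)}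
          one_mem' := ⟨one_mem _, inA_id.congr fun x hx => (autFun_one (hPQ hx)).symm⟩
          mul_mem' := by
            rintro β γ ⟨h1, h3⟩ ⟨k1, k3⟩
            exact ⟨mul_mem h1 k1, (k3.comp h3).congr fun x hx => (autFun_mul _ _ (hPQ hx)).symm⟩
          inv_mem' := by
            rintro β ⟨h1, h3⟩
            exact ⟨inv_mem h1, h3.inv fun x hx => autFun_inv_apply β (hPQ hx)⟩ }
      have hN'n : ∀ α ∈ NS.autGroup Q, ∀ n ∈ N', α * n * α⁻¹ ∈ N' := by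
        rintro α hα n ⟨h1, h2⟩
        refine ⟨mul_mem (mul_mem hα h1) (inv_mem hα), ?_⟩
        have hαi := (fiso_autFun_iff hQ.1).2 hα
        have hαP := hPinv hPQ hαi.1
        have hαi' := (fiso_autFun_iff hQ.1).2 (inv_mem hα : α⁻¹ ∈ NS.autGroup Q)
        have hα'P := hPinv hPQ hαi'.1
        refine (hA.equiv P P (autFun α) (autFun α⁻¹) _ hP hαP (fun x hx => autFun_inv_apply α (hPQ hx)) h2).congr
          fun x hx => ?_
        rw [← autFun_mul _ _ (hPQ (hα'P.mem hx)), ← autFun_mul _ _ (hPQ hx)]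
      let H : Subgroup (MulAut Q) :=
        { carrier := {β | β ∈ NS.autGroup Q ∧ Frat NS D Q (autFun β)}
          one_mem' := ⟨one_mem _, ⟨fun x => x, fun x => x, FIso.refl NS hNNS, fmap_id D hQN.le,
            fun x hx => autFun_one hx⟩⟩
          mul_mem' := by
            rintro β γ ⟨h1, h3⟩ ⟨k1, k3⟩
            refine ⟨mul_mem h1 k1, ?_⟩
            obtain ⟨a, f₀, h4, h5, h6⟩ := frat_comp hDc k3 (fun x hx => autFun_mem γ hx) hQN.le h3
            exact ⟨a, f₀, h4, h5, fun x hx => by rw [autFun_mul _ _ hx]; exact h6 x hx⟩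
          inv_mem' := by
            rintro β ⟨h1, h3⟩
            exact ⟨inv_mem h1, frat_inv hDc ((fiso_autFun_iff hQ.1).2 h1) (fun x hx => autFun_inv_apply β hx) h3⟩ }
      have hN'H : N' ≤ H := by
        refine normal_induction hQ'.1 (fun β hβ => hβ.1) hN'n ?_ ?_
        · rintro β ⟨hβ, hβ'⟩
          refine ⟨hβ.1, ?_⟩
          obtain ⟨s, hs, h1⟩ := mem_autInducedBy_iff.1 hβ'
          have hsN : s ∈ Subgroup.normalizer (N : Set Ω) := normalizes_of_stronglyClosed hNcl hs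
          refine ⟨fun x => s * x * s⁻¹, fun x => x, fiso_conj_of_normalizer NS hNNS hs hsN, fmap_id D hQN.le,
            fun x hx => ?_⟩
          rw [autFun_of_mem β hx]; exact h1 ⟨x, hx⟩
        · rintro κ ⟨hκ, hκ'⟩ hpp
          refine ⟨hκ, ⟨fun x => x, autFun κ, FIso.refl NS hNNS, ?_, fun _ _ => rfl⟩⟩
          rw [hD]
          exact fmap_genSys_base hB ⟨hPQ, hQN.le, pp_sub hNSsub hpp, fun x hx => (hPinv hPQ hpp.map).mem hx, hκ'⟩
      have hMN : autInducedBy (normalizerIn N Q) Q ≤ N' := by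
        intro β hβ
        obtain ⟨t, ht, h1⟩ := mem_autInducedBy_iff.1 hβ
        have htN : t ∈ N := ht.1
        refine ⟨autInducedBy_le_autGroup hQ.1 ((normalizerIn_le N Q).trans hNNS) hβ, (hcA t htN).congr fun x hx => ?_⟩
        rw [autFun_of_mem β (hPQ hx)]; exact (h1 ⟨x, hPQ hx⟩).symm
      obtain ⟨g, α, hα, hg, hgP, h1⟩ := exists_frattini_ext hNSp hQ'.1 hQ'.2 N' (fun β hβ => hβ.1) hN'n hlt.le
        (inf_le_inf_right _ hNNS) hMN hf
      have h2 := hbig _ g (normalizerIn_le N Q) hlt hg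
      obtain ⟨a, f₀, h4, h5, h6⟩ := frat_comp hDc (hN'H hα).2 (fun x hx => autFun_mem α hx) hQN.le h2
      exact ⟨a, f₀, h4, h5, fun x hx => by rw [h1 x hx]; exact h6 x hx⟩
    · obtain ⟨-, -, g, hg, g1, g2⟩ := fmap_normSys.1 hf.1
      have hlt : Q < Q ⊔ P := lt_of_le_of_ne le_sup_left fun h => hPQ (le_sup_right.trans h.ge)
      have hQNS : Q ⊔ P ≤ normalizerIn S P := sup_le hQ.1 hPNS
      have hg' : FMap NS (Q ⊔ P) g := hmk le_sup_right hQNS hg (map_sup_mem hg (fun x hx => by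
        rw [g1 x hx]; exact hf.1.map_mem hx) (fun x hx => hPNS (g2.mem hx))) (fun x hx => g2.mem hx)
      obtain ⟨a, f₀, h4, h5, h6⟩ := hbig _ g (sup_le hQN.le hPN) hlt hg'
      exact ⟨a, f₀, h4, h5, fun x hx => by rw [← g1 x hx]; exact h6 x hx⟩
  -- the decomposition
  have hκNS : FMap NS R κ := hmk hPR (hRN.trans hNNS) hκ (fun x hx => hNNS (hκN x hx)) hκP
  obtain ⟨θ, f₀, hθ, hf₀, h1⟩ := hfrat R κ hRN hκNS
  have hf₀A := hDA R f₀ hf₀ hPR
  have hθF := sub_fiso hNSsub hθ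
  have hθP := hPinv hPN hθ.1
  have hθA : InA A P θ := by
    obtain ⟨f₁, hf₁, e1, e2⟩ := hf₀A.exists_right_inv
    refine (hf₁.comp hκA).congr fun x hx => ?_
    show κ (f₁ x) = θ x
    rw [h1 _ (hPR (hf₁.mem hx)), e2 x hx]
  have hθF' : FIso F (normalizerIn T P) (normalizerIn T P) θ := hN ▸ hθF
  obtain ⟨c, k₁, hc, hcP, hk₁, hk₁A, h2⟩ := dl_aut hS hF hT hA hP hPn hθF' (fun x hx => hθP.mem hx) hθA
  rw [← hN] at hc hk₁ h2
  have hcNS : FIso NS N N c := ⟨hmk hPN hNNS hc.1 (fun x hx => hNNS (hc.mem hx)) (fun x hx => by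
    rw [hcP x hx]; exact hx), hc.2⟩
  have hRT := hRN.trans hNT
  have hRn : ∀ r ∈ R, r ∈ Subgroup.normalizer (P : Set Ω) := fun r hr => (hNn r (hRN hr)).2
  have hcR : FIso F R R c := trivial_fiso hT hP.tc hPR hRT hRn (hc.1.restrict hRN) hcP
  obtain ⟨g, hg, h3⟩ := hDc R R c f₀ hcNS hf₀ hcR.2
  have hgE := hDE hg
  refine ⟨c, fun x => k₁ (g x), hc, hcP, hgE.comp hk₁.1 (fun x hx => ?_), ?_, hcR, fun x hx => ?_⟩
  · exact hg.map_mem hx
  · exact (hDA R g hg hPR).comp hk₁A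
  · show κ x = k₁ (g (c x))
    rw [h1 x hx, h2 _ (hf₀.map_mem hx), h3 x hx]

theorem mstep [Finite S] [Fact p.Prime] (hS : IsPGroup p S) (hF : F.IsSaturated p) (hT : F.StronglyClosed T)
    (hA : FamC F T p 𝒞 A) (hE : E = sysC F T 𝒞 A hT.1)
    (hI : ∀ X, TCC F T 𝒞 X → Nat.card X = Nat.card R → I1 E A X ∧ I2 F E X) (hR : TCC F T 𝒞 R) (hRR₁ : R ≤ R₁) (hR₁T : R₁ ≤ T)
    (hn : ∀ r ∈ R₁, r ∈ Subgroup.normalizer (R : Set Ω)) (hθ : FMap F R₁ θ) (hθE : FMap E R θ) :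
    ∃ κ, FIso F R₁ R₁ κ ∧ (∀ x ∈ R, κ x = x) ∧ FMap E R₁ (fun x => θ (κ x)) := by
  have hinv : FusionInvar.Inv E F := hE ▸ sysC_inv hS hF hT hA
  have hTfin : Finite T := finite_of_le hT.1
  have hRS := hR.1.trans hT.1
  obtain ⟨R', hR'⟩ := hθE.exists_iso
  have hR'F := sub_fiso hinv.sub hR'
  have hR'T : R' ≤ T := hR'.le_right
  obtain ⟨P₀, l₀, hP₀, hl₀, -, -⟩ := exists_fullyNormalized_map hS hF hRS
  have hTC₀ := hR.conj hT hl₀.isConj
  obtain ⟨l, a, e, G, hl, hlN, hlN', ha, he, heG, haG, hae⟩ := exists_e hS hF hinv hP₀ hR.1 hl₀.isConj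
  obtain ⟨m, a', e', G', hm, hmN, hmN', ha', he', he'G, ha'G, hae'⟩ := exists_e hS hF hinv hP₀ hR'T
    (isConj_trans (isConj_symm hR'F.isConj) hl₀.isConj)
  have hTCG : TCC F T 𝒞 G := hR.conj hT (sub_isConj hinv.sub heG.isConj)
  have hTCR' : TCC F T 𝒞 R' := hR.conj hT hR'F.isConj
  have hTCG' : TCC F T 𝒞 G' := hTCR'.conj hT (sub_isConj hinv.sub he'G.isConj)
  have hcG : Nat.card G = Nat.card R := heG.card_eq.symm
  obtain ⟨h, hh, hhG⟩ := (hI G hTCG hcG).2 P₀ G' hP₀ ⟨a, ha, haG⟩ ⟨a', ha', ha'G⟩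
    (isConj_trans (isConj_symm heG.isConj) (isConj_trans hR'.isConj he'G.isConj))
  have hNN := norm_fiso hT.1 ⟨a, ha, haG⟩ ⟨a', ha', ha'G⟩ hTCG.1 hTCG'.1 hh hhG
  obtain ⟨h', hh', h1, h2⟩ := hNN.symm
  have hR₁N : R₁ ≤ normalizerIn T R := fun x hx => ⟨hR₁T hx, hn x hx⟩
  have hR₁NS : R₁ ≤ normalizerIn S R := hR₁N.trans (inf_le_inf_right _ hT.1)
  have hRN := le_normalizerIn hR.1
  obtain ⟨Q₁, hQ₁⟩ := (he.restrict hR₁N).exists_iso
  obtain ⟨W, hW⟩ := (hlN.restrict hR₁NS).exists_iso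
  obtain ⟨l₁, hl₁, l1, l2⟩ := hW.symm
  obtain ⟨a₁, ha₁, a1, a2⟩ := ha.symm
  -- membership facts
  have m1 : ∀ x ∈ R₁, θ x ∈ normalizerIn T R' := fun x hx =>
    ⟨StronglyClosed.map_mem F hT hθ hx (hR₁T hx), hR'F.map_normalizer hθ hRR₁ hx (hn x hx)⟩
  have m2 : ∀ x ∈ normalizerIn T R', e' x ∈ normalizerIn T G' := fun x hx =>
    map_norm he'G he' (le_normalizerIn hR'T) hx hx.2
  have m3 : ∀ x ∈ normalizerIn T G, a x ∈ normalizerIn T P₀ := fun x hx => (aut_norm ha haG hTCG.1).mem hx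
  have hGN := le_normalizerIn hTCG.1
  -- the map κ₀
  have hκ₀ : FMap F W (fun y => a (h' (e' (θ (l₁ y))))) := by
    refine (((hl₁.1.comp hθ fun y hy => hl₁.mem hy).comp (sub_fmap hinv.sub he') fun y hy =>
      m1 _ (hl₁.mem hy)).comp (sub_fmap hinv.sub hh'.1) fun y hy => m2 _ (m1 _ (hl₁.mem hy))).comp
      (ha.1.restrict (normalizerIn_le T G)) fun y hy => hh'.mem (m2 _ (m1 _ (hl₁.mem hy)))
  have hκ₀N : ∀ y ∈ W, a (h' (e' (θ (l₁ y)))) ∈ normalizerIn T P₀ := fun y hy =>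
    m3 _ (hh'.mem (m2 _ (m1 _ (hl₁.mem hy))))
  have hP₀W : P₀ ≤ W := fun y hy => by
    obtain ⟨x, hx, rfl⟩ := hl.mem_iff.1 hy
    exact hW.mem (hRR₁ hx)
  have hWN : W ≤ normalizerIn T P₀ := fun y hy => by
    obtain ⟨x, hx, rfl⟩ := hW.mem_iff.1 hy
    exact ⟨StronglyClosed.map_mem F hT hlN (hR₁NS hx) (hR₁T hx), (hlN' x (hR₁NS hx)).2⟩
  -- on G
  obtain ⟨e₁, he₁, e1, e2⟩ := heG.symm
  obtain ⟨e'₀, he'₀, e'1, e'2⟩ := he'G.symm
  have hh'G : FIso E G' G h' := by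
    refine ⟨hh'.1.restrict (le_normalizerIn hTCG'.1), fun y => ⟨fun hy => ⟨h y, hhG.mem hy, h1 y (hGN hy)⟩, ?_⟩⟩
    rintro ⟨z, hz, rfl⟩
    obtain ⟨w, hw, rfl⟩ := hhG.mem_iff.1 hz
    rw [h1 w (hGN hw)]; exact hw
  have hmG : FIso E G G (fun y => h' (e' (θ (e₁ y)))) := ((he₁.trans hR').trans he'G).trans hh'G
  have hmA := (hI G hTCG hcG).1 _ hmG
  have hκ₀A : InA A P₀ (fun y => a (h' (e' (θ (l₁ y))))) := by
    refine (hA.equiv G P₀ a a₁ _ hTCG haG (fun x hx => a1 x (hTCG.1 hx)) hmA).congr fun y hy => ?_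
    obtain ⟨x, hx, rfl⟩ := hl.mem_iff.1 hy
    show a (h' (e' (θ (e₁ (a₁ (l x)))))) = a (h' (e' (θ (l₁ (l x)))))
    rw [l1 x (hRR₁ hx), hae x (hRN hx), a1 _ (he.map_mem (hRN hx)), e1 x hx]
  obtain ⟨c, k, hc, hcP, hk, hkA, hcW, hck⟩ := dl hS hF hT hA hTC₀ hP₀ hP₀W hWN hκ₀ hκ₀N
    (fun x hx => hκ₀A.mem hx) hκ₀A
  rw [← hE] at hk
  obtain ⟨c', hc', c1, c2⟩ := hcW.symm
  refine ⟨fun x => l₁ (c' (l x)), (hW.trans hc').trans hl₁, fun x hx => ?_, ?_⟩
  · show l₁ (c' (l x)) = x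
    have h3 : c' (l x) = l x := by
      have := c1 (l x) (hW.mem (hRR₁ hx))
      rwa [hcP _ (hl.mem hx)] at this
    rw [h3, l1 x (hRR₁ hx)]
  · obtain ⟨g, hg, hg1⟩ := hinv.conj (Q := Q₁) ha₁ hk (fun y => by
      rw [hQ₁.mem_iff]
      constructor
      · rintro ⟨x, hx, rfl⟩
        exact ⟨l x, hW.mem hx, by rw [hae x (hR₁N hx), a1 _ (he.map_mem (hR₁N hx))]⟩
      · rintro ⟨w, hw, rfl⟩
        obtain ⟨x, hx, rfl⟩ := hW.mem_iff.1 hw
        exact ⟨x, hx, by rw [hae x (hR₁N hx), a1 _ (he.map_mem (hR₁N hx))]⟩)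
    obtain ⟨V', hV'⟩ := he'.exists_iso
    obtain ⟨e'₁, he'₁, e'3, e'4⟩ := hV'.symm
    have hκm : ∀ x ∈ R₁, l₁ (c' (l x)) ∈ R₁ := fun x hx => hl₁.mem (hc'.mem (hW.mem hx))
    have key1 : ∀ x ∈ R₁, g (e x) = h' (e' (θ (l₁ (c' (l x))))) := by
      intro x hx
      have hlx := hW.mem hx
      have hcx := hc'.mem hlx
      have h3 : a (h' (e' (θ (l₁ (c' (l x)))))) = k (l x) := by
        have := hck _ hcx
        rw [c2 _ hlx] at this
        exact this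
      have h4 : e x = a₁ (l x) := by rw [hae x (hR₁N hx), a1 _ (he.map_mem (hR₁N hx))]
      rw [h4, hg1 _ hlx, ← h3, a1 _ (hh'.1.map_mem (m2 _ (m1 _ (hκm x hx))))]
    have key2 : ∀ x ∈ R₁, h (g (e x)) = e' (θ (l₁ (c' (l x)))) := fun x hx => by
      rw [key1 x hx, h2 _ (m2 _ (m1 _ (hκm x hx)))]
    have hcomp : FMap E R₁ (fun x => e'₁ (h (g (e x)))) := by
      refine (((he.restrict hR₁N).comp hg fun x hx => hQ₁.mem hx).comp hh fun x hx => ?_).comp he'₁.1 fun x hx => ?_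
      · show g (e x) ∈ _
        rw [key1 x hx]
        exact hh'.mem (m2 _ (m1 _ (hκm x hx)))
      · show h (g (e x)) ∈ V'
        rw [key2 x hx]
        exact hV'.mem (m1 _ (hκm x hx))
    refine hcomp.congr fun x hx => ?_
    show e'₁ (h (g (e x))) = θ (l₁ (c' (l x)))
    rw [key2 x hx, e'3 _ (m1 _ (hκm x hx))]

theorem lstep [Finite S] [Fact p.Prime] (hS : IsPGroup p S) (hF : F.IsSaturated p) (hT : F.StronglyClosed T)
    (hA : FamC F T p 𝒞 A) (hE : E = sysC F T 𝒞 A hT.1) (hP₀ : F.IsFullyNormalized P₀) (hTC₀ : TCC F T 𝒞 P₀)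
    (hI : ∀ X, TCC F T 𝒞 X → Nat.card P₀ < Nat.card X → I1 E A X ∧ I2 F E X) (hG₁ : GoodTo F T P₀ G₁)
    (hG₂ : GoodTo F T P₀ G₂) : ∀ (n : ℕ) (R : Subgroup Ω) (ψ : Ω → Ω), Nat.card (normalizerIn T G₁) - Nat.card R = n →
      G₁ < R → R ≤ normalizerIn T G₁ → FMap E R ψ → FIso E G₁ G₂ ψ →
      ∃ b h, InA A G₂ b ∧ FMap E (normalizerIn T G₁) h ∧ FIso E G₁ G₂ h ∧ ∀ x ∈ G₁, h x = b (ψ x) := by
  have hinv : FusionInvar.Inv E F := hE ▸ sysC_inv hS hF hT hA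
  have hTfin : Finite T := finite_of_le hT.1
  obtain ⟨a₁, ha₁, haG₁⟩ := id hG₁
  obtain ⟨a₂, ha₂, haG₂⟩ := id hG₂
  have hG₁T : G₁ ≤ T := by
    obtain ⟨a', ha', -, -⟩ := haG₁.symm
    exact le_of_fiso hT hTC₀.1 ha'
  have hG₂T : G₂ ≤ T := by
    obtain ⟨a', ha', -, -⟩ := haG₂.symm
    exact le_of_fiso hT hTC₀.1 ha'
  have hTC₁ : TCC F T 𝒞 G₁ := hTC₀.conj hT (isConj_symm haG₁.isConj)
  have hTC₂ : TCC F T 𝒞 G₂ := hTC₀.conj hT (isConj_symm haG₂.isConj)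
  have hN₁ := aut_norm ha₁ haG₁ hG₁T
  have hN₂ := aut_norm ha₂ haG₂ hG₂T
  obtain ⟨a₁', ha₁', p1, p2⟩ := ha₁.symm
  obtain ⟨a₂', ha₂', q1, q2⟩ := ha₂.symm
  have hG₁N := le_normalizerIn hG₁T
  have hG₂N := le_normalizerIn hG₂T
  have hP₀N := le_normalizerIn hTC₀.1
  have hP₀T := hTC₀.1
  -- inverses restricted
  have haG₁' : FIso F P₀ G₁ a₁' := by
    refine ⟨ha₁'.1.restrict hP₀T, fun y => ⟨fun hy => ⟨a₁ y, haG₁.mem hy, p1 y (hG₁T hy)⟩, ?_⟩⟩
    rintro ⟨z, hz, rfl⟩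
    obtain ⟨w, hw, rfl⟩ := haG₁.mem_iff.1 hz
    rw [p1 w (hG₁T hw)]; exact hw
  have haG₂' : FIso F P₀ G₂ a₂' := by
    refine ⟨ha₂'.1.restrict hP₀T, fun y => ⟨fun hy => ⟨a₂ y, haG₂.mem hy, q1 y (hG₂T hy)⟩, ?_⟩⟩
    rintro ⟨z, hz, rfl⟩
    obtain ⟨w, hw, rfl⟩ := haG₂.mem_iff.1 hz
    rw [q1 w (hG₂T hw)]; exact hw
  have hN₂' := aut_norm ha₂' haG₂' hP₀T
  have hN₁' := aut_norm ha₁' haG₁' hP₀T
  have hP₀' := automized_receptive_of_fullyNormalized hS hF hP₀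
  intro n
  induction n using Nat.strong_induction_on with
  | _ n ih =>
    intro R ψ hn hlt hRN hψ hψG
    have hRT : R ≤ T := hRN.trans (normalizerIn_le T G₁)
    by_cases hRe : R = normalizerIn T G₁
    · subst hRe
      exact ⟨fun x => x, ψ, inA_id, hψ, hψG, fun _ _ => rfl⟩
    · have hRlt : R < normalizerIn T G₁ := lt_of_le_of_ne hRN hRe
      have hR₁lt : R < normalizerIn (normalizerIn T G₁) R :=
        lt_normalizerIn hS ((normalizerIn_le T G₁).trans hT.1) hRlt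
      have hψF := sub_fmap hinv.sub hψ
      have hψGF := sub_fiso hinv.sub hψG
      have hψm : ∀ x ∈ R, ψ x ∈ normalizerIn T G₂ := fun x hx => map_norm hψG hψ hlt.le hx (hRN hx).2
      -- δ on P₀
      have hδ : FIso F P₀ P₀ (fun y => a₂ (ψ (a₁' y))) := (haG₁'.trans hψGF).trans haG₂
      obtain ⟨g, α, hα, hg, hgP, hδg⟩ := exists_frattini_ext hS hP₀'.1 hP₀'.2 (A P₀) (hA.le P₀ hTC₀)
        (hA.normal hTC₀ hT.1) hP₀N (inf_le_inf_right _ hT.1)
        (fun β hβ => hA.ind P₀ hTC₀ hP₀ (autInducedBy_mono (normalizerIn_le T P₀) hβ)) hδ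
      have hgN : FIso F (normalizerIn T P₀) (normalizerIn T P₀) g :=
        hg.fiso_of_card ((normalizerIn_le T P₀).trans hT.1) (fun x hx =>
          ⟨StronglyClosed.map_mem F hT hg hx hx.1, hgP.map_normalizer hg hP₀N hx hx.2⟩) le_rfl
      obtain ⟨g', hg', g1, g2⟩ := hgN.symm
      have hg'P : ∀ y ∈ P₀, g' y ∈ P₀ := fun y hy => by
        obtain ⟨x, hx, rfl⟩ := hgP.mem_iff.1 hy
        rw [g1 x (hP₀N hx)]; exact hx
      -- W
      obtain ⟨W, hW⟩ := ((hN₁.trans hgN).1.restrict hRN).exists_iso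
      have hWv : ∀ y, y ∈ W ↔ ∃ x ∈ R, g (a₁ x) = y := fun y => hW.mem_iff
      have hWN : W ≤ normalizerIn T P₀ := fun y hy => by
        obtain ⟨x, hx, rfl⟩ := (hWv y).1 hy
        exact hgN.mem (hN₁.mem (hRN hx))
      have hP₀W : P₀ ≤ W := fun y hy => by
        obtain ⟨z, hz, rfl⟩ := hgP.mem_iff.1 hy
        obtain ⟨x, hx, rfl⟩ := haG₁.mem_iff.1 hz
        exact (hWv _).2 ⟨x, hlt.le hx, rfl⟩
      have hWb : ∀ y ∈ W, a₁' (g' y) ∈ R := fun y hy => by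
        obtain ⟨x, hx, rfl⟩ := (hWv y).1 hy
        rw [g1 _ (hN₁.mem (hRN hx)), p1 x (hRT hx)]; exact hx
      have hκ : FMap F W (fun y => a₂ (ψ (a₁' (g' y)))) := by
        refine (((hg'.1.restrict hWN).comp (ha₁'.1) fun y hy => (hg'.mem (hWN hy)).1).comp hψF fun y hy =>
          hWb y hy).comp ha₂.1 fun y hy => (hψm _ (hWb y hy)).1
      have hκN : ∀ y ∈ W, a₂ (ψ (a₁' (g' y))) ∈ normalizerIn T P₀ := fun y hy => hN₂.mem (hψm _ (hWb y hy))
      have hκA : InA A P₀ (fun y => a₂ (ψ (a₁' (g' y)))) := by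
        refine (hA.equiv P₀ P₀ g g' _ hTC₀ hgP (fun x hx => g1 x (hP₀N hx)) (inA_aut.2 hα)).congr fun y hy => ?_
        exact (hδg _ (hg'P y hy)).symm
      obtain ⟨c, k, hc, hcP, hk, hkA, hcW, hck⟩ := dl hS hF hT hA hTC₀ hP₀ hP₀W hWN hκ hκN (fun x hx => hκA.mem hx) hκA
      rw [← hE] at hk
      -- θ
      have hθ : FIso F (normalizerIn T G₁) (normalizerIn T G₂) (fun x => a₂' (c (g (a₁ x)))) :=
        ((hN₁.trans hgN).trans hc).trans hN₂'
      -- k₂ = a₂' k a₂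
      obtain ⟨W₂, hW₂⟩ := ((ha₂'.1.restrict (hWN.trans (normalizerIn_le T P₀)))).exists_iso
      obtain ⟨k₂, hk₂, hk₂1⟩ := hinv.conj ha₂' hk (fun y => hW₂.mem_iff)
      obtain ⟨W₃, hW₃⟩ := hk₂.exists_iso
      obtain ⟨k₂', hk₂', r1, r2⟩ := hW₃.symm
      have hθW : ∀ x ∈ R, a₂' (c (g (a₁ x))) ∈ W₂ := fun x hx => hW₂.mem (hcW.mem ((hWv _).2 ⟨x, hx, rfl⟩))
      have hψk : ∀ x ∈ R, ψ x = k₂ (a₂' (c (g (a₁ x)))) := by
        intro x hx
        have hw : g (a₁ x) ∈ W := (hWv _).2 ⟨x, hx, rfl⟩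
        have h3 := hck _ hw
        have h4 : a₂ (ψ (a₁' (g' (g (a₁ x))))) = k (c (g (a₁ x))) := h3
        rw [g1 _ (hN₁.mem (hRN hx)), p1 x (hRT hx)] at h4
        rw [hk₂1 _ (hcW.mem hw), ← h4, q1 _ (hψm x hx).1]
      have hθk : ∀ x ∈ R, a₂' (c (g (a₁ x))) = k₂' (ψ x) := fun x hx => by
        rw [hψk x hx, r1 _ (hθW x hx)]
      have hθE : FMap E R (fun x => a₂' (c (g (a₁ x)))) := by
        refine (hψ.comp hk₂'.1 fun x hx => ?_).congr fun x hx => (hθk x hx).symm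
        rw [hψk x hx]; exact hW₃.mem (hθW x hx)
      -- k₂ on G₂
      have hk₂A : InA A G₂ k₂ := by
        refine (hA.equiv P₀ G₂ a₂' a₂ k hTC₀ haG₂' (fun x hx => q2 x (hP₀T hx)) hkA).congr fun y hy => ?_
        have hay := haG₂.mem hy
        show a₂' (k (a₂ y)) = k₂ y
        rw [← hk₂1 _ (hP₀W hay), q1 y (hG₂T hy)]
      have hG₂W₂ : G₂ ≤ W₂ := fun y hy => by
        have := hW₂.mem (hP₀W (haG₂.mem hy))
        rwa [q1 y (hG₂T hy)] at this
      have hk₂'A : InA A G₂ k₂' := hk₂A.inv fun x hx => r1 x (hG₂W₂ hx)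
      -- mstep
      have hTCR : TCC F T 𝒞 R := hTC₁.mono hT hlt.le hRT
      have hfinR : Finite R := finite_of_le hRT
      have hcR : Nat.card P₀ < Nat.card R := by rw [← haG₁.card_eq]; exact card_lt hlt
      have hR₁T : normalizerIn (normalizerIn T G₁) R ≤ T := (normalizerIn_le _ R).trans (normalizerIn_le T G₁)
      obtain ⟨κ', hκ', hκ'1, hκ'2⟩ := mstep hS hF hT hA hE (fun X hX hXc => hI X hX (by rw [hXc]; exact hcR)) hTCR
        hR₁lt.le hR₁T (fun r hr => hr.2) (hθ.1.restrict (normalizerIn_le _ R)) hθE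
      have hψ'G : FIso E G₁ G₂ (fun x => a₂' (c (g (a₁ (κ' x))))) := by
        have h5 : FIso F G₁ G₂ (fun x => a₂' (c (g (a₁ x)))) := by
          have hcP₀ : FIso F P₀ P₀ c := fiso_restrict hc.1 hP₀N fun x hx => by rw [hcP x hx]; exact hx
          exact ((haG₁.trans hgP).trans hcP₀).trans haG₂'
        have h6 : FIso E G₁ G₂ (fun x => a₂' (c (g (a₁ x)))) := ⟨hθE.restrict hlt.le, h5.2⟩
        exact h6.congr fun x hx => by rw [hκ'1 x (hlt.le hx)]
      have hfinN : Finite (normalizerIn T G₁) := finite_of_le (normalizerIn_le T G₁)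
      have hfinN' : Finite (normalizerIn (normalizerIn T G₁) R) := finite_of_le hR₁T
      have hc1 := card_lt hR₁lt
      have hc2 : Nat.card (normalizerIn (normalizerIn T G₁) R) ≤ Nat.card (normalizerIn T G₁) :=
        Nat.card_le_card_of_injective _ (Subgroup.inclusion_injective (normalizerIn_le _ R))
      obtain ⟨b, h, hb, hh, hhG, hbh⟩ := ih _ (by omega) (normalizerIn (normalizerIn T G₁) R) _ rfl
        (hlt.trans hR₁lt) (normalizerIn_le _ R) hκ'2 hψ'G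
      refine ⟨fun x => b (k₂' x), h, hk₂'A.comp hb, hh, hhG, fun x hx => ?_⟩
      show h x = b (k₂' (ψ x))
      rw [hbh x hx, ← hθk x (hlt.le hx), hκ'1 x (hlt.le hx)]

theorem lift_of_ext [Finite S] [Fact p.Prime] (hS : IsPGroup p S) (hF : F.IsSaturated p) (hT : F.StronglyClosed T)
    (hA : FamC F T p 𝒞 A) (hE : E = sysC F T 𝒞 A hT.1) (hP₀ : F.IsFullyNormalized P₀) (hTC₀ : TCC F T 𝒞 P₀)
    (hI : ∀ X, TCC F T 𝒞 X → Nat.card P₀ < Nat.card X → I1 E A X ∧ I2 F E X)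
    (hXR : X < R) (hRN : R ≤ normalizerIn T X) (hf : FMap E R f) (hfX : FIso E X Y f) : Lift F E A P₀ X Y f := by
  have hinv : FusionInvar.Inv E F := hE ▸ sysC_inv hS hF hT hA
  intro e e' G G' he heG hG he' he'G hG'
  have hXT : X ≤ T := heG.le_left
  have hYT : Y ≤ T := he'G.le_left
  obtain ⟨W, hW⟩ := (he.restrict hRN).exists_iso
  obtain ⟨w, hw, w1, w2⟩ := hW.symm
  have hGT := goodTo_le hT hTC₀.1 hG
  have hGT' := goodTo_le hT hTC₀.1 hG'
  have hTC : TCC F T 𝒞 G := by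
    obtain ⟨a, ha, haG⟩ := hG
    exact hTC₀.conj hT (isConj_symm haG.isConj)
  have hfY : ∀ x ∈ R, f x ∈ normalizerIn T Y := fun x hx => map_norm hfX hf hXR.le hx (hRN hx).2
  have hψ : FMap E W (fun y => e' (f (w y))) := (hw.1.comp hf fun y hy => hw.mem hy).comp he' fun y hy => hfY _ (hw.mem hy)
  have hGW : G < W := by
    refine lt_of_le_of_ne (fun y hy => ?_) fun h => ?_
    · obtain ⟨x, hx, rfl⟩ := heG.mem_iff.1 hy
      exact hW.mem (hXR.le hx)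
    · have hfin : Finite R := finite_of_le (hRN.trans ((normalizerIn_le T X).trans hT.1))
      have h1 := hW.card_eq
      have h2 := heG.card_eq
      rw [h] at h2
      have h3 := card_lt hXR
      omega
  have hWN : W ≤ normalizerIn T G := fun y hy => by
    obtain ⟨x, hx, rfl⟩ := hW.mem_iff.1 hy
    exact map_norm heG he (le_normalizerIn hXT) (hRN hx) (hRN hx).2
  have hψG : FIso E G G' (fun y => e' (f (w y))) := by
    refine ⟨hψ.restrict hGW.le, fun y => ⟨fun hy => ?_, ?_⟩⟩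
    · obtain ⟨x, hx, rfl⟩ := he'G.mem_iff.1 hy
      obtain ⟨z, hz, rfl⟩ := hfX.mem_iff.1 hx
      exact ⟨e z, heG.mem hz, by show e' (f (w (e z))) = _; rw [w1 z (hXR.le hz)]⟩
    · rintro ⟨z, hz, rfl⟩
      obtain ⟨x, hx, rfl⟩ := heG.mem_iff.1 hz
      show e' (f (w (e x))) ∈ G'
      rw [w1 x (hXR.le hx)]
      exact he'G.mem (hfX.mem hx)
  obtain ⟨b, h, hb, hh, hhG, h1⟩ := lstep hS hF hT hA hE hP₀ hTC₀ hI hG hG' _ W _ rfl hGW hWN hψ hψG
  obtain ⟨b', hb', b1, b2⟩ := hb.exists_right_inv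
  refine ⟨b', h, hb', hh, hhG, fun x hx => ?_⟩
  rw [h1 _ (heG.mem hx), w1 x (hXR.le hx), b1 _ (he'G.mem (hfX.mem hx))]

theorem lift_comp [Finite S] [Fact p.Prime] (hS : IsPGroup p S) (hF : F.IsSaturated p) (hT : F.StronglyClosed T)
    (hA : FamC F T p 𝒞 A) (hE : E = sysC F T 𝒞 A hT.1) (hP₀ : F.IsFullyNormalized P₀) (hTC₀ : TCC F T 𝒞 P₀)
    (hY : F.IsConj Y P₀) (hYT : Y ≤ T) (hfX : FIso E X Y f)
    (h : Lift F E A P₀ X Y f) (h' : Lift F E A P₀ Y Z g) : Lift F E A P₀ X Z (fun x => g (f x)) := by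
  have hinv : FusionInvar.Inv E F := hE ▸ sysC_inv hS hF hT hA
  intro e e' G G' he heG hG he' he'G hG'
  obtain ⟨l, a, e'', G'', -, -, -, ha, he'', he''G, haG, -⟩ := exists_e hS hF hinv hP₀ hYT hY
  have hG'' : GoodTo F T P₀ G'' := ⟨a, ha, haG⟩
  obtain ⟨b₁, h₁, hb₁, hh₁, hh₁G, k1⟩ := h e e'' G G'' he heG hG he'' he''G hG''
  obtain ⟨b₂, h₂, hb₂, hh₂, hh₂G, k2⟩ := h' e'' e' G'' G' he'' he''G hG'' he' he'G hG'
  have hGT := goodTo_le hT hTC₀.1 hG
  have hGT' := goodTo_le hT hTC₀.1 hG'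
  have hGT'' := goodTo_le hT hTC₀.1 hG''
  have hTC'' : TCC F T 𝒞 G'' := hTC₀.conj hT (isConj_symm haG.isConj)
  have hN₁ := norm_fiso hT.1 hG hG'' hGT hGT'' hh₁ hh₁G
  have hh₂F := sub_fiso hinv.sub hh₂G
  obtain ⟨h₂', hh₂', q1, q2⟩ := hh₂G.symm
  have hb₁' := hA.equiv G'' G' h₂ h₂' b₁ hTC'' hh₂F q1 hb₁
  refine ⟨_, fun x => h₂ (h₁ x), hb₁'.comp hb₂, hN₁.1.comp hh₂ fun x hx => hN₁.mem hx, hh₁G.trans hh₂G, fun x hx => ?_⟩
  show e' (g (f x)) = b₂ (h₂ (b₁ (h₂' (h₂ (h₁ (e x))))))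
  rw [k2 _ (hfX.mem hx), k1 x hx, q1 _ (hh₁G.mem (heG.mem hx))]

theorem lift_inv [Finite S] [Fact p.Prime] (hS : IsPGroup p S) (hF : F.IsSaturated p) (hT : F.StronglyClosed T)
    (hA : FamC F T p 𝒞 A) (hE : E = sysC F T 𝒞 A hT.1) (hTC₀ : TCC F T 𝒞 P₀)
    (hfX : FIso E X Y f) (hgf : ∀ x ∈ X, g (f x) = x)
    (h : Lift F E A P₀ X Y f) : Lift F E A P₀ Y X g := by
  have hinv : FusionInvar.Inv E F := hE ▸ sysC_inv hS hF hT hA
  intro e e' G G' he heG hG he' he'G hG'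
  obtain ⟨b, k, hb, hk, hkG, k1⟩ := h e' e G' G he' he'G hG' he heG hG
  have hGT := goodTo_le hT hTC₀.1 hG
  have hGT' := goodTo_le hT hTC₀.1 hG'
  have hTC : TCC F T 𝒞 G := by
    obtain ⟨a, ha, haG⟩ := hG
    exact hTC₀.conj hT (isConj_symm haG.isConj)
  have hN := norm_fiso hT.1 hG' hG hGT' hGT hk hkG
  obtain ⟨k', hk', q1, q2⟩ := hN.symm
  have hGN' := le_normalizerIn hGT'
  have hGN := le_normalizerIn hGT
  have hk'G : FIso E G G' k' := by
    refine ⟨hk'.1.restrict hGN, fun y => ⟨fun hy => ⟨k y, hkG.mem hy, q1 y (hGN' hy)⟩, ?_⟩⟩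
    rintro ⟨z, hz, rfl⟩
    obtain ⟨x, hx, rfl⟩ := hkG.mem_iff.1 hz
    rw [q1 x (hGN' hx)]; exact hx
  obtain ⟨b', hb', b1, b2⟩ := hb.exists_right_inv
  have hb'' := hA.equiv G G' k' k b' hTC (sub_fiso hinv.sub hk'G) (fun x hx => q2 x (hGN hx)) hb'
  refine ⟨_, k', hb'', hk'.1, hk'G, fun y hy => ?_⟩
  obtain ⟨x, hx, rfl⟩ := hfX.mem_iff.1 hy
  show e' (g (f x)) = k' (b' (k (k' (e (f x)))))
  rw [hgf x hx, q2 _ (hGN (heG.mem hy)), k1 x hx, b1 _ (hkG.mem (he'G.mem hx)), q1 _ (hGN' (he'G.mem hx))]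

theorem lift_A [Finite S] [Fact p.Prime] (hS : IsPGroup p S) (hF : F.IsSaturated p) (hT : F.StronglyClosed T)
    (hA : FamC F T p 𝒞 A) (hE : E = sysC F T 𝒞 A hT.1) (hP₀ : F.IsFullyNormalized P₀) (hTC₀ : TCC F T 𝒞 P₀)
    (hI : ∀ X, TCC F T 𝒞 X → Nat.card P₀ < Nat.card X → I1 E A X ∧ I2 F E X)
    (hXT : X < T) (hXc : F.IsConj X P₀) (hf : InA A X f) : Lift F E A P₀ X X f := by
  have hinv : FusionInvar.Inv E F := hE ▸ sysC_inv hS hF hT hA
  have hTC : TCC F T 𝒞 X := hTC₀.conj hT (isConj_symm hXc)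
  have hlt : X < normalizerIn T X := lt_normalizerIn hS hT.1 hXT
  have hid : Lift F E A P₀ X X (fun x => x) := lift_of_ext hS hF hT hA hE hP₀ hTC₀ hI hlt le_rfl
    (fmap_id E (normalizerIn_le T X)) (FIso.refl E hXT.le)
  intro e e' G G' he heG hG he' he'G hG'
  obtain ⟨b, k, hb, hk, hkG, k1⟩ := hid e e' G G' he heG hG he' he'G hG'
  obtain ⟨e₁, he₁, q1, q2⟩ := he'G.symm
  have hf' := hA.equiv X G' e' e₁ f hTC (sub_fiso hinv.sub he'G) q1 hf
  refine ⟨_, k, hb.comp hf', hk, hkG, fun x hx => ?_⟩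
  show e' (f x) = e' (f (e₁ (b (k (e x)))))
  rw [← k1 x hx, q1 x hx]

theorem lift_all [Finite S] [Fact p.Prime] (hS : IsPGroup p S) (hF : F.IsSaturated p) (hT : F.StronglyClosed T)
    (hA : FamC F T p 𝒞 A) (hE : E = sysC F T 𝒞 A hT.1) (hP₀ : F.IsFullyNormalized P₀) (hTC₀ : TCC F T 𝒞 P₀)
    (hI : ∀ X, TCC F T 𝒞 X → Nat.card P₀ < Nat.card X → I1 E A X ∧ I2 F E X) (hlt : Nat.card P₀ < Nat.card T) :
    ∀ P f, FMap E P f → ∀ X Y, X ≤ P → FIso E X Y f → F.IsConj X P₀ → Lift F E A P₀ X Y f := by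
  have hinv : FusionInvar.Inv E F := hE ▸ sysC_inv hS hF hT hA
  have hTfin : Finite T := finite_of_le hT.1
  have hXT : ∀ X, X ≤ T → F.IsConj X P₀ → X < T := by
    intro X hX hXc
    refine lt_of_le_of_ne hX fun h => ?_
    obtain ⟨l, hl⟩ := isConj_iff_fiso.1 hXc
    have := hl.card_eq
    rw [h] at this
    omega
  intro P f hf
  rw [hE] at hf
  refine genSys_induction (gn_data hA hT.1) (fun P f => ∀ X Y, X ≤ P → FIso E X Y f → F.IsConj X P₀ →
    Lift F E A P₀ X Y f) ?_ ?_ ?_ ?_ ?_ P f hf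
  · rintro P f ⟨h1, h2⟩ X Y hXP hXY hXc
    have hfE : FMap E P f := hE ▸ sysC_base hA h1 h2
    rcases eq_or_lt_of_le hXP with h | h
    · subst h
      have hY : Y = X := by
        ext y
        rw [hXY.mem_iff]
        obtain ⟨f', hf', e1, e2⟩ := h2.exists_right_inv
        exact ⟨fun ⟨x, hx, hxy⟩ => hxy ▸ h2.mem hx, fun hy => ⟨f' y, hf'.mem hy, e2 y hy⟩⟩
      subst hY
      exact lift_A hS hF hT hA hE hP₀ hTC₀ hI (hXT _ hXY.le_left hXc) hXc h2
    · have hlt' : X < normalizerIn P X := lt_normalizerIn hS (h1.1.trans hT.1) h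
      exact lift_of_ext hS hF hT hA hE hP₀ hTC₀ hI hlt' (inf_le_inf_right _ h1.1) (hfE.restrict (normalizerIn_le P X)) hXY
  · intro P s hP hs X Y hXP hXY hXc
    have hXT' := hXT _ hXY.le_left hXc
    exact lift_of_ext hS hF hT hA hE hP₀ hTC₀ hI (lt_normalizerIn hS hT.1 hXT') le_rfl
      (fmap_conj E (normalizerIn_le T X) hs) hXY
  · intro P Q f g hf h1 hg h2 h3 X Z hXP hXZ hXc
    have hf' : FMap E X f := (hE ▸ hf : FMap E P f).restrict hXP
    obtain ⟨Y, hXY⟩ := hf'.exists_iso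
    have hYQ : Y ≤ Q := fun y hy => by
      obtain ⟨x, hx, rfl⟩ := hXY.mem_iff.1 hy
      exact h3 x (hXP hx)
    have hYZ : FIso E Y Z g := by
      refine ⟨(hE ▸ hg : FMap E Q g).restrict hYQ, fun z => ?_⟩
      rw [hXZ.mem_iff]
      constructor
      · rintro ⟨x, hx, rfl⟩
        exact ⟨f x, hXY.mem hx, rfl⟩
      · rintro ⟨y, hy, rfl⟩
        obtain ⟨x, hx, rfl⟩ := hXY.mem_iff.1 hy
        exact ⟨x, hx, rfl⟩
    have hYc : F.IsConj Y P₀ := isConj_trans (isConj_symm (sub_isConj hinv.sub hXY.isConj)) hXc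
    exact lift_comp hS hF hT hA hE hP₀ hTC₀ hYc hXY.le_right hXY (h1 X Y hXP hXY hXc) (h2 Y Z hYQ hYZ hYc)
  · intro P Q f g hf h1 hg hgf hfg X Y hXQ hXY hXc
    have hfE : FIso E P Q f := hE ▸ hf
    have hYP : Y ≤ P := fun y hy => by
      obtain ⟨x, hx, rfl⟩ := hXY.mem_iff.1 hy
      have hgE : FIso E Q P g := hE ▸ hg
      exact hgE.mem (hXQ hx)
    have hYX : FIso E Y X f := by
      refine ⟨hfE.1.restrict hYP, fun x => ⟨fun hx => ⟨g x, hXY.mem hx, hfg x (hXQ hx)⟩, ?_⟩⟩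
      rintro ⟨y, hy, rfl⟩
      obtain ⟨z, hz, rfl⟩ := hXY.mem_iff.1 hy
      rw [hfg z (hXQ hz)]; exact hz
    have hYc : F.IsConj Y P₀ := isConj_trans (isConj_symm (sub_isConj hinv.sub hXY.isConj)) hXc
    exact lift_inv hS hF hT hA hE hTC₀ hYX (fun x hx => hgf x (hYP hx)) (h1 Y X hYP hYX hYc)
  · intro P f g hf h1 h2 X Y hXP hXY hXc
    exact (h1 X Y hXP (hXY.congr fun x hx => (h2 x (hXP hx)).symm) hXc).congr fun x hx => h2 x (hXP hx)

theorem main [Finite S] [Fact p.Prime] (hS : IsPGroup p S) (hF : F.IsSaturated p) (hT : F.StronglyClosed T)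
    (hA : FamC F T p 𝒞 A) (hE : E = sysC F T 𝒞 A hT.1) : ∀ X, TCC F T 𝒞 X → I1 E A X ∧ I2 F E X := by
  have hinv : FusionInvar.Inv E F := hE ▸ sysC_inv hS hF hT hA
  have hTfin : Finite T := finite_of_le hT.1
  suffices H : ∀ (n : ℕ) (X : Subgroup Ω), TCC F T 𝒞 X → Nat.card T - Nat.card X = n → I1 E A X ∧ I2 F E X from
    fun X hX => H _ X hX rfl
  intro n
  induction n using Nat.strong_induction_on with
  | _ n ih =>
    intro X hX hn
    rcases eq_or_lt_of_le hX.1 with h | h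
    · subst h
      refine ⟨fun f hf => ?_, fun P₀ G' hP₀ hG hG' _ => ?_⟩
      · have hf' : FMap (sysC F X 𝒞 A hT.1) X f := hE ▸ hf.1
        refine genSys_induction (gn_data hA hT.1) (fun P f => P = X → InA A X f) ?_ ?_ ?_ ?_ ?_ X f hf' rfl
        · rintro P f ⟨h1, h2⟩ rfl
          exact h2
        · rintro P s - hs rfl
          exact inA_conj hS hF hT hA hX ⟨hs, Subgroup.le_normalizer hs⟩
        · rintro P Q f g hf h1 hg h2 h3 rfl
          have hQ : Q = P := by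
            refine le_antisymm hg.le fun x hx => ?_
            obtain ⟨f', hf', e1, e2⟩ := (h1 rfl).exists_right_inv
            rw [← e2 x hx]; exact h3 _ (hf'.mem hx)
          exact (h1 rfl).comp (h2 hQ)
        · rintro P Q f g hf h1 hg hgf hfg rfl
          have hP : P = Q := Subgroup.eq_of_le_of_card_ge hf.le_left hf.card_eq.ge
          exact (h1 hP).inv fun x hx => hgf x (hP ▸ hx)
        · rintro P f g hf h1 h2 rfl
          exact (h1 rfl).congr h2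
      · obtain ⟨a, ha, haG⟩ := hG
        obtain ⟨a', ha', haG'⟩ := hG'
        have hP₀X : P₀ = X := by
          ext y
          rw [haG.mem_iff, ha.mem_iff]
        subst hP₀X
        have hG'T : G' ≤ P₀ := goodTo_le hT le_rfl ⟨a', ha', haG'⟩
        have : G' = P₀ := Subgroup.eq_of_le_of_card_ge hG'T haG'.card_eq.ge
        subst this
        exact ⟨fun x => x, fmap_id E (normalizerIn_le G' G'), FIso.refl E le_rfl⟩
    · have hXfin : Finite X := finite_of_le (hX.1.trans hT.1)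
      have hcard := card_lt h
      have key : ∀ P₀, F.IsFullyNormalized P₀ → F.IsConj X P₀ → ∀ P f, FMap E P f → ∀ X Y, X ≤ P → FIso E X Y f →
          F.IsConj X P₀ → Lift F E A P₀ X Y f := by
        intro P₀ hP₀ hc
        obtain ⟨l, hl⟩ := isConj_iff_fiso.1 hc
        have hce := hl.card_eq
        have hTC₀ := hX.conj hT hc
        refine lift_all hS hF hT hA hE hP₀ hTC₀ (fun Z hZ hZc => ?_) (by omega)
        have hZle : Nat.card Z ≤ Nat.card T := Nat.card_le_card_of_injective _ (Subgroup.inclusion_injective hZ.1)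
        exact ih _ (by omega) Z hZ rfl
      refine ⟨fun f hf => ?_, fun P₀ G' hP₀ hG hG' hc => ?_⟩
      · obtain ⟨P₀, k, hP₀, hk, -, -⟩ := exists_fullyNormalized_map hS hF (hX.1.trans hT.1)
        obtain ⟨l, a, e, G, -, -, -, ha, he, heG, haG, -⟩ := exists_e hS hF hinv hP₀ hX.1 hk.isConj
        have hG : GoodTo F T P₀ G := ⟨a, ha, haG⟩
        have hTC₀ := hX.conj hT hk.isConj
        obtain ⟨b, j, hb, hj, hjG, h1⟩ := key P₀ hP₀ hk.isConj X f hf.1 X X le_rfl hf hk.isConj e e G G he heG hG he heG hG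
        have hGT := goodTo_le hT hTC₀.1 hG
        have hTCG : TCC F T 𝒞 G := hTC₀.conj hT (isConj_symm haG.isConj)
        have hGN := le_normalizerIn hGT
        have hN := norm_fiso hT.1 hG hG hGT hGT hj hjG
        have hTCN : TCC F T 𝒞 (normalizerIn T G) := hTCG.mono hT hGN (normalizerIn_le T G)
        have hGlt : G < T := by
          refine lt_of_le_of_ne hGT fun h' => ?_
          have := heG.card_eq
          rw [h'] at this
          omega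
        have hltN : G < normalizerIn T G := lt_normalizerIn hS hT.1 hGlt
        have hNfin : Finite (normalizerIn T G) := finite_of_le (normalizerIn_le T G)
        have hcN := card_lt hltN
        have hcG := heG.card_eq
        have hcNT : Nat.card (normalizerIn T G) ≤ Nat.card T :=
          Nat.card_le_card_of_injective _ (Subgroup.inclusion_injective (normalizerIn_le T G))
        have hjA := (ih _ (by omega) (normalizerIn T G) hTCN rfl).1 j hN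
        have hNa := aut_norm ha haG hGT
        obtain ⟨n', hn', n1, n2⟩ := hNa.symm
        have hn'P : FIso F P₀ G n' := by
          refine ⟨hn'.1.restrict (le_normalizerIn hTC₀.1), fun y => ⟨fun hy => ⟨a y, haG.mem hy, n1 y (hGN hy)⟩, ?_⟩⟩
          rintro ⟨z, hz, rfl⟩
          obtain ⟨w, hw, rfl⟩ := haG.mem_iff.1 hz
          rw [n1 w (hGN hw)]; exact hw
        have hj₀ := hA.equiv _ _ a n' j hTCN hNa n1 hjA
        have hj₁ := res_all hS hF hT hA hTC₀ hP₀ rfl hj₀ (fun x hx => haG.mem (hjG.mem (hn'P.mem hx)))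
        have hjA' : InA A G j := by
          refine (hA.equiv P₀ G n' a _ hTC₀ hn'P (fun x hx => n2 x (le_normalizerIn hTC₀.1 hx)) hj₁).congr fun x hx => ?_
          show n' (a (j (n' (a x)))) = j x
          rw [n1 x (hGN hx), n1 _ (hGN (hjG.mem hx))]
        obtain ⟨e₁, he₁, q1, q2⟩ := heG.symm
        refine (hA.equiv G X e₁ e _ hTCG (sub_fiso hinv.sub he₁) q2 (hjA'.comp hb)).congr fun x hx => ?_
        show e₁ (b (j (e x))) = f x
        rw [← h1 x hx, q1 _ (hf.mem hx)]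
      · have hXc : F.IsConj X P₀ := by
          obtain ⟨a, ha, haG⟩ := hG
          exact haG.isConj
        obtain ⟨f, hf⟩ := isConj_iff_fiso.1 hc
        obtain ⟨b, j, hb, hj, hjG, h1⟩ := key P₀ hP₀ hXc X f hf.1 X G' le_rfl hf hXc (fun x => x) (fun x => x) X G'
          (fmap_id E (normalizerIn_le T X)) (FIso.refl E hX.1) hG (fmap_id E (normalizerIn_le T G'))
          (FIso.refl E hf.le_right) hG'
        exact ⟨j, hj, hjG⟩

theorem autGroup_sysC [Finite S] [Fact p.Prime] (hS : IsPGroup p S) (hF : F.IsSaturated p) (hT : F.StronglyClosed T)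
    (hA : FamC F T p 𝒞 A) (hX : TCC F T 𝒞 X) : (sysC F T 𝒞 A hT.1).autGroup X = A X := by
  ext α
  constructor
  · intro h
    exact inA_aut.1 ((main hS hF hT hA rfl X hX).1 _ ((fiso_autFun_iff hX.1).2 h))
  · intro h
    exact (FMap_autFun_iff hX.1).1 (sysC_base hA hX (inA_aut.2 h))

theorem inA_iff [Finite S] [Fact p.Prime] (hS : IsPGroup p S) (hF : F.IsSaturated p) (hT : F.StronglyClosed T)
    (hA : FamC F T p 𝒞 A) (hX : TCC F T 𝒞 X) : InA A X f ↔ FIso (sysC F T 𝒞 A hT.1) X X f :=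
  ⟨sysC_fiso hA hX, (main hS hF hT hA rfl X hX).1 f⟩

theorem good_automized [Finite S] [Fact p.Prime] (hS : IsPGroup p S) (hF : F.IsSaturated p) (hT : F.StronglyClosed T)
    (hA : FamC F T p 𝒞 A) (hP₀ : F.IsFullyNormalized P₀) (hTC₀ : TCC F T 𝒞 P₀) (ha : FIso F T T a) (haG : FIso F G P₀ a) :
    (sysC F T 𝒞 A hT.1).IsFullyAutomized p G := by
  have hGT := goodTo_le hT hTC₀.1 ⟨a, ha, haG⟩
  have hTCG : TCC F T 𝒞 G := hTC₀.conj hT (isConj_symm haG.isConj)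
  have hTp := isPGroup_of_le hS hT.1
  have hTfin : Finite T := finite_of_le hT.1
  have hGfin : Finite G := finite_of_le hGT
  rw [isFullyAutomized_iff hTp]
  refine ⟨hGT, ?_⟩
  rw [autGroup_sysC hS hF hT hA hTCG]
  obtain ⟨a', ha', q1, q2⟩ := ha.symm
  have hind : autInducedBy T G ≤ A G := by
    rw [← autGroup_sysC hS hF hT hA hTCG]
    exact autInducedBy_le_autGroup hGT le_rfl
  have hpg : IsPGroup p (autInducedBy T G) := isPGroup_autInducedBy hTp le_rfl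
  refine not_dvd_relIndex hind hpg fun K hK hKp => ?_
  have hK₀ : IsPGroup p (K.map haG.autEquiv.toMonoidHom) := hKp.map _
  have hK₀A : K.map haG.autEquiv.toMonoidHom ≤ A P₀ := by
    rintro _ ⟨κ, hκ, rfl⟩
    obtain ⟨a₁, ha₁, e1, e2⟩ := haG.symm
    have h1 := hA.equiv G P₀ a a₁ _ hTCG haG e1 (inA_aut.2 (hK hκ))
    refine inA_aut.1 (h1.congr fun y hy => ?_)
    obtain ⟨x, hx, rfl⟩ := haG.mem_iff.1 hy
    rw [e1 x hx]
    have h2 := haG.autEquiv_coe κ ⟨x, hx⟩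
    rw [autFun_of_mem κ hx, ← h2, autFun_of_mem _ (haG.mem hx)]
    rfl
  obtain ⟨χ, hχ, h1⟩ := exists_conj_le_autInducedBy (fullyAutomized_of_fullyNormalized hS hF hP₀)
    (K.map haG.autEquiv.toMonoidHom) (hK₀A.trans (hA.le P₀ hTC₀)) hK₀
  refine ⟨fun κ => haG.autEquiv.symm (χ * haG.autEquiv κ * χ⁻¹), fun κ κ' h => ?_, fun κ hκ => ?_⟩
  · have h2 := haG.autEquiv.symm.injective h
    have h3 : haG.autEquiv κ = haG.autEquiv κ' := by simpa using h2
    exact haG.autEquiv.injective h3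
  · have h2 : haG.autEquiv κ ∈ K.map haG.autEquiv.toMonoidHom := ⟨κ, hκ, rfl⟩
    have h3 := hA.syl P₀ hTC₀ hP₀ ⟨hA.normal hTC₀ hT.1 χ hχ _ (hK₀A h2), h1 _ h2⟩
    obtain ⟨t, ht, h4⟩ := mem_autInducedBy_iff.1 h3
    refine mem_autInducedBy_iff.2 ⟨a' t, ha'.mem ht, fun x => ?_⟩
    obtain ⟨γ, hγ⟩ : ∃ γ, γ = haG.autEquiv.symm (χ * haG.autEquiv κ * χ⁻¹) := ⟨_, rfl⟩
    have h5 : haG.autEquiv γ = χ * haG.autEquiv κ * χ⁻¹ := by rw [hγ, MulEquiv.apply_symm_apply]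
    show ((haG.autEquiv.symm (χ * haG.autEquiv κ * χ⁻¹) x : G) : Ω) = _
    rw [← hγ]
    have h6 := haG.autEquiv_coe γ x
    rw [h5, h4] at h6
    have h7 : (γ x : Ω) = a' (a (γ x)) := (q1 _ (hGT (γ x).2)).symm
    rw [h7, ← h6]
    show a' (t * a x * t⁻¹) = a' t * x * (a' t)⁻¹
    rw [ha'.1.map_conj ht (ha.mem (hGT x.2)), q1 _ (hGT x.2)]

theorem sysC_saturated [Finite S] [Fact p.Prime] (hS : IsPGroup p S) (hF : F.IsSaturated p) (hT : F.StronglyClosed T)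
    (hA : FamC F T p 𝒞 A) : (sysC F T 𝒞 A hT.1).IsSaturated p := by
  have hinv : FusionInvar.Inv (sysC F T 𝒞 A hT.1) F := sysC_inv hS hF hT hA
  have hTp := isPGroup_of_le hS hT.1
  have hTfin : Finite T := finite_of_le hT.1
  obtain ⟨E, hE⟩ : ∃ E, E = sysC F T 𝒞 A hT.1 := ⟨_, rfl⟩
  rw [← hE] at hinv ⊢
  refine Cfsg.Agent.Lib.FusionCriterion3.saturated_of_criterion hTp E {P | TCC F T 𝒞 P} ?_ ?_ ?_ ?_
  · intro P hP Q hQ
    exact TCC.conj hT hP (sub_isConj hinv.sub hQ)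
  · intro P hP
    have hPTC : TCC F T 𝒞 P := hP
    obtain ⟨P₀, k, hP₀, hk, -, -⟩ := exists_fullyNormalized_map hS hF (hPTC.1.trans hT.1)
    have hTC₀ := hPTC.conj hT hk.isConj
    obtain ⟨l, a, e, G, -, -, -, ha, he, heG, haG, -⟩ := exists_e hS hF hinv hP₀ hPTC.1 hk.isConj
    have hG : GoodTo F T P₀ G := ⟨a, ha, haG⟩
    have hGT := goodTo_le hT hTC₀.1 hG
    have hTCG : TCC F T 𝒞 G := hTC₀.conj hT (isConj_symm haG.isConj)
    refine ⟨G, heG.isConj, hE ▸ good_automized hS hF hT hA hP₀ hTC₀ ha haG, ?_⟩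
    rw [isReceptive_iff]
    refine ⟨hGT, fun X f hf V hXV hVT hV => ?_⟩
    have hfF := sub_fiso hinv.sub hf
    have hXT := hf.le_left
    have hXc : F.IsConj X P₀ := isConj_trans hfF.isConj haG.isConj
    obtain ⟨l', a₁, e', G', -, -, -, ha₁, he', he'G, ha₁G, -⟩ := exists_e hS hF hinv hP₀ hXT hXc
    have hG' : GoodTo F T P₀ G' := ⟨a₁, ha₁, ha₁G⟩
    have hTC' : TCC F T 𝒞 G' := hTC₀.conj hT (isConj_symm ha₁G.isConj)
    obtain ⟨h, hh, hhG⟩ := (main hS hF hT hA hE G' hTC').2 P₀ G hP₀ hG' hG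
      (isConj_trans (isConj_symm he'G.isConj) hf.isConj)
    have hXN := le_normalizerIn hXT
    have hVN : V ≤ normalizerIn T X := fun v hv => ⟨hVT hv, (hV v hv).1⟩
    have he'm : ∀ x ∈ normalizerIn T X, e' x ∈ normalizerIn T G' := fun x hx => map_norm he'G he' hXN hx hx.2
    have hm : FMap E (normalizerIn T X) (fun x => h (e' x)) := he'.comp hh he'm
    have hmG : FIso E X G (fun x => h (e' x)) := he'G.trans hhG
    have hmN : ∀ x ∈ normalizerIn T X, h (e' x) ∈ normalizerIn T G := fun x hx => map_norm hmG hm hXN hx hx.2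
    obtain ⟨m', hm', m1, m2⟩ := hmG.symm
    -- the automorphism `f m⁻¹` of `G`
    have hα := (main hS hF hT hA hE G hTCG).1 _ (hm'.trans hf)
    obtain ⟨a', ha', q1, q2⟩ := ha.symm
    have hα₀ := hA.equiv G P₀ a a' _ hTCG haG (fun x hx => q1 x (hGT hx)) hα
    have hN := aut_norm ha haG hGT
    have ha'P : FIso F P₀ G a' := by
      refine ⟨ha'.1.restrict hTC₀.1, fun y => ⟨fun hy => ⟨a y, haG.mem hy, q1 y (hGT hy)⟩, ?_⟩⟩
      rintro ⟨z, hz, rfl⟩
      obtain ⟨w, hw, rfl⟩ := haG.mem_iff.1 hz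
      rw [q1 w (hGT hw)]; exact hw
    -- the subgroup
    obtain ⟨V', hV'⟩ := (hm.restrict hVN).exists_iso
    obtain ⟨W, hW⟩ := ((sub_fmap hinv.sub hV'.1).comp ha.1 fun x hx => hm.map_mem (hVN hx)).exists_iso
    have hWv : ∀ y, y ∈ W ↔ ∃ x ∈ V, a (h (e' x)) = y := fun y => hW.mem_iff
    have hWN : W ≤ normalizerIn T P₀ := fun y hy => by
      obtain ⟨x, hx, rfl⟩ := (hWv y).1 hy
      exact hN.mem (hmN x (hVN hx))
    have hP₀W : P₀ ≤ W := fun y hy => by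
      obtain ⟨z, hz, rfl⟩ := haG.mem_iff.1 hy
      obtain ⟨x, hx, rfl⟩ := hmG.mem_iff.1 hz
      exact (hWv _).2 ⟨x, hXV hx, rfl⟩
    have hδ := inA_fiso hA hTC₀ hT.1 hα₀
    obtain ⟨g, hg, hg1⟩ := (isReceptive_iff.1 (receptive_of_fullyNormalized hS hF hP₀)).2 P₀ _ hδ W hP₀W
      (hWN.trans ((normalizerIn_le T P₀).trans hT.1)) (fun y hy => by
        refine ⟨(hWN hy).2, ?_⟩
        obtain ⟨v, hv, rfl⟩ := (hWv y).1 hy
        obtain ⟨hvn, s, hs, hs1⟩ := hV v hv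
        refine ⟨a s, hT.1 (ha.mem hs), fun z hz => ?_⟩
        obtain ⟨w, hw, rfl⟩ := haG.mem_iff.1 hz
        obtain ⟨x, hx, rfl⟩ := hmG.mem_iff.1 hw
        show a (f (m' (a' (a (h (e' v)) * a (h (e' x)) * (a (h (e' v)))⁻¹)))) =
          a s * a (f (m' (a' (a (h (e' x)))))) * (a s)⁻¹
        have hvx : v * x * v⁻¹ ∈ X := (Subgroup.mem_normalizer_iff.1 hvn x).1 hx
        have h1 : a (h (e' v)) * a (h (e' x)) * (a (h (e' v)))⁻¹ = a (h (e' (v * x * v⁻¹))) := by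
          have h2 : h (e' (v * x * v⁻¹)) = h (e' v) * h (e' x) * (h (e' v))⁻¹ := hm.map_conj (hVN hv) (hXN hx)
          rw [h2, ha.1.map_conj (hm.map_mem (hVN hv)) (hGT (hmG.mem hx))]
        rw [h1, q1 _ (hGT (hmG.mem hvx)), q1 _ (hGT (hmG.mem hx)), m1 _ hvx, m1 _ hx, hs1 x hx,
          ha.1.map_conj hs (hGT (hf.mem hx))])
    have hgA : InA A P₀ g := hα₀.congr fun x hx => (hg1 x hx).symm
    have hgP : FIso F P₀ P₀ g := inA_fiso hA hTC₀ hT.1 hgA
    have hgN : ∀ x ∈ W, g x ∈ normalizerIn T P₀ := fun x hx =>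
      ⟨StronglyClosed.map_mem F hT hg hx (hWN hx).1, hgP.map_normalizer hg hP₀W hx (hWN hx).2⟩
    obtain ⟨c, k, hc, hcP, hk, hkA, hcW, hck⟩ := dl hS hF hT hA hTC₀ hP₀ hP₀W hWN hg hgN (fun x hx => hgA.mem hx) hgA
    rw [← hE] at hk
    obtain ⟨W₂, hW₂⟩ := ((ha'.1.restrict (hWN.trans (normalizerIn_le T P₀)))).exists_iso
    obtain ⟨k₂, hk₂, hk₂1⟩ := hinv.conj ha' hk (fun y => hW₂.mem_iff)
    have hmW₂ : ∀ x ∈ V, h (e' x) ∈ W₂ := fun x hx => by
      have := hW₂.mem ((hWv _).2 ⟨x, hx, rfl⟩)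
      rwa [q1 _ (hm.map_mem (hVN hx))] at this
    refine ⟨fun x => k₂ (h (e' x)), (hm.restrict hVN).comp hk₂ hmW₂, fun x hx => ?_⟩
    have hy := haG.mem (hmG.mem hx)
    have h1 : k₂ (h (e' x)) = a' (k (a (h (e' x)))) := by
      have := hk₂1 _ (hP₀W hy)
      rwa [q1 _ (hGT (hmG.mem hx))] at this
    have h2 : g (a (h (e' x))) = k (a (h (e' x))) := by
      have := hck _ (hP₀W hy)
      rwa [hcP _ hy] at this
    have h3 : g (a (h (e' x))) = a (f (m' (a' (a (h (e' x)))))) := hg1 _ hy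
    show k₂ (h (e' x)) = f x
    rw [h1, ← h2, h3, q1 _ (hGT (hmG.mem hx)), m1 _ hx, q1 _ (hGT (hf.mem hx))]
  · intro D hD
    rw [le_iff_fmap]
    intro P f hf
    rw [hE] at hf
    refine genSys_le (gn_data hA hT.1) le_rfl (fun Q g hg => ?_) hf
    have h1 : FMap E Q g := hE ▸ sysC_base hA hg.1 hg.2
    exact hom_subset_iff_fmap.1 (hD Q hg.1) g h1
  · intro P hP hP'
    have hPTC : TC F T P := (centric_iff_tc hinv).1 hP
    have hncl : ¬ 𝒞.CL P := fun h => hP' (tcc_of hPTC h)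
    obtain ⟨P₀, k, hP₀, hk, -, -⟩ := exists_fullyNormalized_map hS hF (hPTC.1.trans hT.1)
    have hTC₀ := hPTC.conj hT hk.isConj
    have hncl₀ : ¬ 𝒞.CL P₀ := fun h => hncl (𝒞.conj hTC₀.1 h (isConj_symm hk.isConj))
    obtain ⟨l, a, e, G, -, -, -, ha, he, heG, haG, -⟩ := exists_e hS hF hinv hP₀ hPTC.1 hk.isConj
    have hG : GoodTo F T P₀ G := ⟨a, ha, haG⟩
    have hGT := goodTo_le hT hTC₀.1 hG
    have hTCG : TC F T G := hTC₀.conj hT (isConj_symm haG.isConj)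
    obtain ⟨K, hK, hKn, hKp, t, ht, htP, κ, hκ, hκt⟩ := hA.star P₀ hTC₀ hP₀ hncl₀
    refine ⟨G, heG.isConj, fun hle => ?_⟩
    obtain ⟨a', ha', q1, q2⟩ := ha.symm
    have ha'P : FIso F P₀ G a' := by
      refine ⟨ha'.1.restrict hTC₀.1, fun y => ⟨fun hy => ⟨a y, haG.mem hy, q1 y (hGT hy)⟩, ?_⟩⟩
      rintro ⟨z, hz, rfl⟩
      obtain ⟨w, hw, rfl⟩ := haG.mem_iff.1 hz
      rw [q1 w (hGT hw)]; exact hw
    -- the transported group
    obtain ⟨KG, hKG⟩ : ∃ KG, KG = (K.comap haG.autEquiv.toMonoidHom) ⊓ E.autGroup G := ⟨_, rfl⟩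
    have hKGp : IsPGroup p KG := by
      rw [hKG]
      refine IsPGroup.to_le (hKp.comap_of_injective _ haG.autEquiv.injective) inf_le_left
    have hKGle : KG ≤ (pCore p ↥(E.autGroup G)).map (E.autGroup G).subtype := by
      refine Cfsg.Agent.Lib.FusionCriterion3.le_pCore_map (by rw [hKG]; exact inf_le_right) hKGp fun α hα μ hμ => ?_
      rw [hKG] at hμ ⊢
      refine ⟨?_, mul_mem (mul_mem hα hμ.2) ((E.autGroup G).inv_mem hα)⟩
      show haG.autEquiv (α * μ * α⁻¹) ∈ K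
      rw [map_mul, map_mul, map_inv]
      have hαF : haG.autEquiv α ∈ F.autGroup P₀ := (conj_autGroup haG α).1 (sub_autGroup hinv.sub hGT hα)
      exact hKn _ hαF _ hμ.1
    have htT := ht.1
    have ha't : a' t ∈ T := ha'.mem htT
    have hat : ∀ x ∈ G, a' t * x * (a' t)⁻¹ ∈ G := fun x hx => by
      have h1 : a' (t * a x * t⁻¹) = a' t * x * (a' t)⁻¹ := by
        rw [ha'.1.map_conj htT (ha.mem (hGT hx)), q1 x (hGT hx)]
      rw [← h1]
      exact ha'P.mem ((Subgroup.mem_normalizer_iff.1 ht.2 _).1 (haG.mem hx))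
    have hGfin : Finite G := finite_of_le (hGT.trans hT.1)
    have hnG : a' t ∈ Subgroup.normalizer (G : Set Ω) := by
      have hi : FIso F G G (fun y => a' t * y * (a' t)⁻¹) :=
        (fmap_conj F (hGT.trans hT.1) (hT.1 ha't)).fiso_of_card (hGT.trans hT.1) hat le_rfl
      refine Subgroup.mem_normalizer_iff.2 fun y => ⟨hat y, fun hy => ?_⟩
      obtain ⟨z, hz, hze⟩ := hi.mem_iff.1 hy
      have hze' : a' t * z * (a' t)⁻¹ = a' t * y * (a' t)⁻¹ := hze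
      have : z = y := by
        have h7 := congrArg (fun z => (a' t)⁻¹ * z * (a' t)) hze'
        simpa [mul_assoc] using h7
      rwa [← this]
    have hcI : conjAut G (a' t) hnG ∈ autInducedBy T G := conjAut_mem_autInducedBy hnG ha't
    have hcK : conjAut G (a' t) hnG ∈ KG := by
      rw [hKG]
      refine ⟨?_, autInducedBy_le_autGroup hGT le_rfl hcI⟩
      show haG.autEquiv (conjAut G (a' t) hnG) ∈ K
      have h2 : haG.autEquiv (conjAut G (a' t) hnG) = κ := by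
        ext y
        obtain ⟨x, rfl⟩ := haG.equiv.surjective y
        rw [FIso.autEquiv_apply_apply, FIso.equiv_apply, conjAut_apply, ← autFun_coe κ, FIso.equiv_apply,
          hκt _ (haG.mem x.2), ha.1.map_conj ha't (hGT x.2), q2 t htT]
      rw [h2]; exact hκ
    obtain ⟨g, hg⟩ := hle ⟨hcI, hKGle hcK⟩
    have h3 : (g : Ω)⁻¹ * a' t ∈ centralizerIn T G := by
      refine ⟨T.mul_mem (T.inv_mem (hGT g.2)) ha't, mem_centralizer_iff'.2 fun y hy => ?_⟩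
      have h4 : (conjAut G (a' t) hnG ⟨y, hy⟩ : Ω) = g * y * (g : Ω)⁻¹ := by rw [← hg]; rfl
      rw [conjAut_apply] at h4
      have h5 : a' t * y * (a' t)⁻¹ = g * y * (g : Ω)⁻¹ := h4
      calc (g : Ω)⁻¹ * a' t * y * ((g : Ω)⁻¹ * a' t)⁻¹ = (g : Ω)⁻¹ * (a' t * y * (a' t)⁻¹) * g := by group
        _ = y := by rw [h5]; group
    have h6 := G.mul_mem g.2 (hTCG.cent hT h3)
    rw [mul_inv_cancel_left] at h6
    have h7 := haG.mem h6
    rw [q2 t htT] at h7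
    exact htP h7

/-- **Theorem A**: an invariant family defines a weakly normal subsystem. -/
theorem sysC_weaklyNormal [Finite S] [Fact p.Prime] (hS : IsPGroup p S) (hF : F.IsSaturated p) (hT : F.StronglyClosed T)
    (hA : FamC F T p 𝒞 A) : (sysC F T 𝒞 A hT.1).IsWeaklyNormalIn F p :=
  isWeaklyNormalIn_iff.2 ⟨sysC_saturated hS hF hT hA, hF, sysC_inv hS hF hT hA⟩

end Cfsg.Agent.Lib.FusionThmC
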