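import Mathlib
import Cfsg.Agent.Lib.FusionThmC
import Cfsg.Agent.Lib.FusionMeet5
import Cfsg.Agent.Lib.FusionSolv
import Cfsg.Agent.Lib.FusionCP3
import Cfsg.Agent.Lib.FusionQS2

/-!
Normal subsystems of a factor system modulo a central subgroup: the subsystem of the original system lying over them.
-/

set_option autoImplicit false
open Cfsg Cfsg.FusionSystem Cfsg.Agent.Lib.FusionBasic Cfsg.Agent.Lib.FusionSat Cfsg.Agent.Lib.FusionNormal
  Cfsg.Agent.Lib.FusionInvar Cfsg.Agent.Lib.FusionTools Cfsg.Agent.Lib.FusionPP Cfsg.Agent.Lib.FusionStrong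
  Cfsg.Agent.Lib.FusionSys Cfsg.Agent.Lib.FusionFrat Cfsg.Agent.Lib.FusionPrime Cfsg.Agent.Lib.FusionTC
  Cfsg.Agent.Lib.FusionClosed Cfsg.Agent.Lib.FusionStab Cfsg.Agent.Lib.FusionZeta Cfsg.Agent.Lib.FusionCenClosed
  Cfsg.Agent.Lib.FusionLemD
open Cfsg.Agent.Lib.FusionThmA (InA inA_id inA_aut tc_of_fullyNormalized)
open Cfsg.Agent.Lib.FusionPIdx (le_normalizer_sup le_normalizer_of_conj map_resid_conj mem_map_resid)
open Cfsg.Agent.Lib.FusionThmC (Cls TCC FamC tcc_of)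
open Cfsg.Agent.Lib.FusionQuot (ev ev_of_mem ev_coe ev_mul ev_inv ev_one ev_conj ev_eq_one_iff ev_eq_iff mem_pre pre_le mem_im
  le_pre pre_im im_pre im_le exists_ev ev_mem fmap_factor_iff finite_range isPGroup_range isSaturated_factor)
open Cfsg.Agent.Lib.FusionQuotHyp (exists_induced_any)
open Cfsg.Agent.Lib.FusionFocal (fix_of_isCentral)
open Cfsg.Agent.Lib.FusionMeet (resid_sup_normal hyper_gen autS_norm_T resid_conj)
open Cfsg.Agent.Lib.FusionQS2 (central_closed)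
open Cfsg.Agent.Lib.FusionMeet5 (extZ_pp)
open Cfsg.Agent.Lib.FusionCenNormal (tc_self ext_of_pp)

namespace Cfsg.Agent.Lib.FusionPullN

variable {Ω : Type*} [Group Ω] {S : Subgroup Ω} {F : FusionSystem S} {Ω' : Type*} [Group Ω'] {S' T' : Subgroup Ω'}
  {F' : FusionSystem S'} {E' : FusionSystem T'} {θ : S →* Ω'} {P Q R X Y Z : Subgroup Ω} {a b f g k : Ω → Ω} {p : ℕ}

/-! ### Images -/

theorem im_mono (h : P ≤ Q) : imageAlong θ P ≤ imageAlong θ Q := fun y hy => by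
  obtain ⟨x, hx, hxS, rfl⟩ := mem_im.1 hy
  exact mem_im.2 ⟨x, h hx, hxS, rfl⟩

theorem im_of (hP : P ≤ S) {x : Ω} (hx : x ∈ P) : ev θ x ∈ imageAlong θ P := mem_im.2 ⟨x, hx, hP hx, rfl⟩

theorem im_le_of (hP : P ≤ preimageAlong θ T') : imageAlong θ P ≤ T' := fun y hy => by
  obtain ⟨x, hx, hxS, rfl⟩ := mem_im.1 hy
  exact (mem_pre.1 (hP hx)).2

/-- an isomorphism of `F` induces one of the factor system -/
theorem im_fiso [Finite S] [Fact p.Prime] (hS : IsPGroup p S) (hF : F.IsSaturated p) (hT : F.StronglyClosed Z)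
    (hE : F.IsFactorSystem Z θ F') (hf : FIso F P Q f) :
    ∃ f', FIso F' (imageAlong θ P) (imageAlong θ Q) f' ∧ ∀ x ∈ P, f' (ev θ x) = ev θ (f x) := by
  obtain ⟨f', hf', h1⟩ := exists_induced_any hS hF hT hE hf.1
  refine ⟨f', ⟨hf', fun y => ⟨fun hy => ?_, ?_⟩⟩, h1⟩
  · obtain ⟨z, hz, hzS, rfl⟩ := mem_im.1 hy
    obtain ⟨x, hx, rfl⟩ := hf.mem_iff.1 hz
    exact ⟨ev θ x, im_of hf.le_left hx, h1 x hx⟩
  · rintro ⟨z, hz, rfl⟩
    obtain ⟨x, hx, hxS, rfl⟩ := mem_im.1 hz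
    rw [h1 x hx]
    exact im_of hf.le_right (hf.mem hx)

/-! ### Maps inducing maps of `E'` -/

/-- `f` induces a map of `E'` on the image of `P`. -/
def Ind (θ : S →* Ω') (E' : FusionSystem T') (P : Subgroup Ω) (f : Ω → Ω) : Prop :=
  ∃ f', FMap E' (imageAlong θ P) f' ∧ ∀ x ∈ P, f' (ev θ x) = ev θ (f x)

theorem Ind.congr (h : Ind θ E' P f) (hfg : ∀ x ∈ P, f x = g x) : Ind θ E' P g := by
  obtain ⟨f', h1, h2⟩ := h
  exact ⟨f', h1, fun x hx => by rw [← hfg x hx]; exact h2 x hx⟩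

theorem Ind.restrict (h : Ind θ E' Q f) (hPQ : P ≤ Q) : Ind θ E' P f := by
  obtain ⟨f', h1, h2⟩ := h
  exact ⟨f', h1.restrict (im_mono hPQ), fun x hx => h2 x (hPQ hx)⟩

theorem ind_id (hP : P ≤ preimageAlong θ T') : Ind θ E' P (fun x => x) :=
  ⟨fun x => x, fmap_id E' (im_le_of hP), fun _ _ => rfl⟩

theorem Ind.comp (h : Ind θ E' P f) (h' : Ind θ E' Q g) (hQS : Q ≤ S) (hm : ∀ x ∈ P, f x ∈ Q) :
    Ind θ E' P (fun x => g (f x)) := by
  obtain ⟨f', h1, h2⟩ := h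
  obtain ⟨g', k1, k2⟩ := h'
  refine ⟨fun x => g' (f' x), h1.comp k1 fun y hy => ?_, fun x hx => ?_⟩
  · obtain ⟨x, hx, hxS, rfl⟩ := mem_im.1 hy
    show f' (ev θ x) ∈ _
    rw [h2 x hx]
    exact im_of hQS (hm x hx)
  · show g' (f' (ev θ x)) = _
    rw [h2 x hx, k2 _ (hm x hx)]

/-- the induced map, as an isomorphism -/
theorem ind_fiso (h : Ind θ E' P f) (hf : FIso F P Q f) :
    ∃ f', FIso E' (imageAlong θ P) (imageAlong θ Q) f' ∧ ∀ x ∈ P, f' (ev θ x) = ev θ (f x) := by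
  obtain ⟨f', h1, h2⟩ := h
  refine ⟨f', ⟨h1, fun y => ⟨fun hy => ?_, ?_⟩⟩, h2⟩
  · obtain ⟨z, hz, hzS, rfl⟩ := mem_im.1 hy
    obtain ⟨x, hx, rfl⟩ := hf.mem_iff.1 hz
    exact ⟨ev θ x, im_of hf.le_left hx, h2 x hx⟩
  · rintro ⟨z, hz, rfl⟩
    obtain ⟨x, hx, hxS, rfl⟩ := mem_im.1 hz
    rw [h2 x hx]
    exact im_of hf.le_right (hf.mem hx)

theorem Ind.inv (h : Ind θ E' P f) (hf : FIso F P Q f) (hgf : ∀ x ∈ P, g (f x) = x) : Ind θ E' Q g := by
  obtain ⟨f', h1, h2⟩ := ind_fiso h hf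
  obtain ⟨g', k1, k2, k3⟩ := h1.symm
  refine ⟨g', k1.1, fun y hy => ?_⟩
  obtain ⟨x, hx, rfl⟩ := hf.mem_iff.1 hy
  rw [hgf x hx, ← h2 x hx, k2 _ (im_of hf.le_left hx)]

theorem ind_conj (hP : P ≤ preimageAlong θ T') {t : Ω} (ht : t ∈ preimageAlong θ T') :
    Ind θ E' P (fun x => t * x * t⁻¹) := by
  refine ⟨fun x => ev θ t * x * (ev θ t)⁻¹, fmap_conj E' (im_le_of hP) (mem_pre.1 ht).2, fun x hx => ?_⟩
  exact (ev_conj (mem_pre.1 ht).1 (mem_pre.1 (hP hx)).1).symm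

/-! ### The setting -/

/-- A normal subsystem `E'` of the factor system `F'` of `F` modulo the central subgroup `Z`. -/
structure Dat (p : ℕ) (F : FusionSystem S) (Z : Subgroup Ω) (θ : S →* Ω') (F' : FusionSystem S') (E' : FusionSystem T') :
    Prop where
  hS : IsPGroup p S
  hF : F.IsSaturated p
  hZ : F.IsCentral Z
  hfac : F.IsFactorSystem Z θ F'
  hEs : E'.IsSaturated p
  hE : Inv E' F'
  hx : Ext E' F'

theorem Dat.closedZ (D : Dat p F Z θ F' E') : F.StronglyClosed Z := central_closed D.hZ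

theorem Dat.closed [Finite S] [Fact p.Prime] (D : Dat p F Z θ F' E') : F.StronglyClosed (preimageAlong θ T') :=
  Cfsg.Agent.Lib.FusionSolv.closed_pre D.hS D.hF D.closedZ D.hfac D.hE.closed

theorem Dat.hθ (D : Dat p F Z θ F' E') : ∀ s : S, θ s = 1 ↔ (s : Ω) ∈ Z := D.hfac.2.1

theorem Dat.hrange (D : Dat p F Z θ F' E') : θ.range = S' := D.hfac.2.2.1

theorem Dat.leT (D : Dat p F Z θ F' E') : Z ≤ preimageAlong θ T' := le_pre D.hfac.1 D.hθ

theorem Dat.fin [Finite S] (D : Dat p F Z θ F' E') : Finite S' := finite_range D.hrange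

theorem Dat.pgrp (D : Dat p F Z θ F' E') : IsPGroup p S' := isPGroup_range D.hS D.hrange

theorem Dat.sat [Finite S] [Fact p.Prime] (D : Dat p F Z θ F' E') : F'.IsSaturated p :=
  isSaturated_factor D.hS D.hF D.closedZ D.hfac

theorem Dat.iso [Finite S] [Fact p.Prime] (D : Dat p F Z θ F' E') (hf : FIso F P Q f) :
    ∃ f', FIso F' (imageAlong θ P) (imageAlong θ Q) f' ∧ ∀ x ∈ P, f' (ev θ x) = ev θ (f x) :=
  im_fiso D.hS D.hF D.closedZ D.hfac hf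

theorem Dat.fix (D : Dat p F Z θ F' E') (hf : FMap F P f) (hZP : Z ≤ P) {z : Ω} (hz : z ∈ Z) : f z = z :=
  fix_of_isCentral D.hZ hf (hZP hz) hz

theorem Dat.pre_im (D : Dat p F Z θ F' E') (hZP : Z ≤ P) (hPS : P ≤ S) : preimageAlong θ (imageAlong θ P) = P :=
  Cfsg.Agent.Lib.FusionQuot.pre_im hZP hPS D.hθ

/-- lifting maps of the factor system -/
theorem Dat.lift (D : Dat p F Z θ F' E') (hZP : Z ≤ P) (hPS : P ≤ S) {f' : Ω' → Ω'} (hf : FMap F' (imageAlong θ P) f') :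
    ∃ f, FMap F P f ∧ ∀ x ∈ P, f' (ev θ x) = ev θ (f x) := by
  obtain ⟨-, f, h1, h2⟩ := (fmap_factor_iff D.hfac).1 hf
  rw [D.pre_im hZP hPS] at h1 h2
  exact ⟨f, h1, h2⟩

theorem Dat.transport [Finite S] [Fact p.Prime] (D : Dat p F Z θ F' E') (hPT : P ≤ preimageAlong θ T')
    (hf : FIso F P Q f) (hgf : ∀ x ∈ P, g (f x) = x) (ha : FIso F P P a) (h : Ind θ E' P a) :
    Ind θ E' Q (fun y => f (a (g y))) := by
  obtain ⟨f', hf', h1⟩ := D.iso hf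
  obtain ⟨a', ha', h2⟩ := ind_fiso h ha
  obtain ⟨g', hg', h3, h4⟩ := hf'.symm
  refine ⟨_, (FusionFrat.Inv.strong D.hE).transport (im_le_of hPT) hf' h3 ha', fun y hy => ?_⟩
  obtain ⟨x, hx, rfl⟩ := hf.mem_iff.1 hy
  show f' (a' (g' (ev θ (f x)))) = ev θ (f (a (g (f x))))
  rw [hgf x hx, ← h1 x hx, h3 _ (im_of hf.le_left hx), h2 x hx, h1 _ (ha.mem hx)]

/-- the class of subgroups -/
def Dat.cls [Finite S] [Fact p.Prime] (D : Dat p F Z θ F' E') : Cls F (preimageAlong θ T') where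
  CL P := Z ≤ P ∧ TC F' T' (imageAlong θ P)
  conj := by
    rintro P Q hPT ⟨h1, h2⟩ hPQ
    obtain ⟨f, hf⟩ := isConj_iff_fiso.1 hPQ
    obtain ⟨f', hf', -⟩ := D.iso hf
    refine ⟨fun z hz => ?_, h2.conj D.hE.closed hf'.isConj⟩
    rw [← D.fix hf.1 h1 hz]
    exact hf.mem (h1 hz)
  mono := by
    rintro P Q ⟨h1, h2⟩ hPQ hQT
    exact ⟨h1.trans hPQ, h2.mono D.hE.closed (im_mono hPQ) (im_le_of hQT)⟩

theorem Dat.cls_iff [Finite S] [Fact p.Prime] (D : Dat p F Z θ F' E') :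
    D.cls.CL P ↔ Z ≤ P ∧ TC F' T' (imageAlong θ P) := Iff.rfl

/-! ### The family -/

/-- the automorphisms inducing elements of `E'` -/
def XZ (F : FusionSystem S) (θ : S →* Ω') (E' : FusionSystem T') (P : Subgroup Ω) (hP : P ≤ preimageAlong θ T') :
    Subgroup (MulAut P) where
  carrier := {α | α ∈ F.autGroup P ∧ Ind θ E' P (autFun α)}
  one_mem' := ⟨one_mem _, (ind_id hP).congr fun x hx => (autFun_one hx).symm⟩
  mul_mem' := by
    rintro α β ⟨h1, h2⟩ ⟨k1, k2⟩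
    exact ⟨mul_mem h1 k1, (k2.comp h2 (hP.trans pre_le) fun x hx => autFun_mem β hx).congr fun x hx =>
      (autFun_mul _ _ hx).symm⟩
  inv_mem' := by
    rintro α ⟨h1, h2⟩
    exact ⟨inv_mem h1, h2.inv ((fiso_autFun_iff (hP.trans pre_le)).2 h1) fun x hx => autFun_inv_apply α hx⟩

theorem mem_XZ {hP : P ≤ preimageAlong θ T'} {α : MulAut P} :
    α ∈ XZ F θ E' P hP ↔ α ∈ F.autGroup P ∧ Ind θ E' P (autFun α) := Iff.rfl

theorem Dat.XZ_normal [Finite S] [Fact p.Prime] (D : Dat p F Z θ F' E') {hP : P ≤ preimageAlong θ T'} :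
    ∀ α ∈ F.autGroup P, ∀ κ ∈ XZ F θ E' P hP, α * κ * α⁻¹ ∈ XZ F θ E' P hP := by
  rintro α hα κ ⟨h1, h2⟩
  have hPS := hP.trans pre_le
  refine ⟨mul_mem (mul_mem hα h1) (inv_mem hα), (D.transport hP ((fiso_autFun_iff hPS).2 hα) (fun x hx =>
    autFun_inv_apply α hx) ((fiso_autFun_iff hPS).2 h1) h2).congr fun x hx => ?_⟩
  rw [← autFun_mul _ _ (autFun_mem _ hx), ← autFun_mul _ _ hx, mul_assoc]

/-- The family lying over `E'`. -/
def AZ (F : FusionSystem S) (θ : S →* Ω') (E' : FusionSystem T') (p : ℕ) (P : Subgroup Ω) : Subgroup (MulAut P) :=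
  Subgroup.closure {α | (α ∈ F.autGroup P ∧ (orderOf α).Coprime p ∧ Ind θ E' P (autFun α)) ∨
    ∃ (Q : Subgroup Ω) (k : Ω → Ω) (t : Ω), FIso F P Q k ∧ t ∈ normalizerIn (preimageAlong θ T') Q ∧
      ∀ x : P, k (α x) = t * k x * t⁻¹}

theorem az_le_xz [Finite S] [Fact p.Prime] (D : Dat p F Z θ F' E') (hP : P ≤ preimageAlong θ T') :
    AZ F θ E' p P ≤ XZ F θ E' P hP := by
  unfold AZ
  rw [Subgroup.closure_le]
  rintro α (⟨h1, h2, h3⟩ | ⟨Q, k, t, hk, ht, h⟩)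
  · exact ⟨h1, h3⟩
  · have hαF : α ∈ F.autGroup P :=
      Cfsg.Agent.Lib.FusionPIdx.ap_le (F := F) (p := p) D.closed.1 (hP.trans pre_le)
        (Subgroup.subset_closure (Or.inr ⟨Q, k, t, hk, ht, h⟩))
    obtain ⟨k', hk', e1, e2⟩ := hk.symm
    have hQT : Q ≤ preimageAlong θ T' := le_of_fiso D.closed hP hk
    have hQS : Q ≤ S := hQT.trans pre_le
    have hfin : Finite Q := finite_of_le hQS
    have hc : FIso F Q Q (fun x => t * x * t⁻¹) :=
      (fmap_conj F hQS (D.closed.1 ht.1)).fiso_of_card hQS (fun x hx => (Subgroup.mem_normalizer_iff.1 ht.2 x).1 hx) le_rfl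
    refine ⟨hαF, (D.transport hQT hk' e2 hc (ind_conj hQT ht.1)).congr fun x hx => ?_⟩
    show k' (t * k x * t⁻¹) = _
    rw [← h ⟨x, hx⟩, e1 _ (α ⟨x, hx⟩).2, autFun_of_mem _ hx]

theorem az_le [Finite S] [Fact p.Prime] (D : Dat p F Z θ F' E') (hP : P ≤ preimageAlong θ T') :
    AZ F θ E' p P ≤ F.autGroup P := fun _ h => (az_le_xz D hP h).1

theorem ind_of_inA [Finite S] [Fact p.Prime] (D : Dat p F Z θ F' E') (hP : P ≤ preimageAlong θ T')
    (h : InA (AZ F θ E' p) P f) : Ind θ E' P f := by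
  obtain ⟨α, hα, h1⟩ := h
  exact (az_le_xz D hP hα).2.congr fun x hx => (h1 x hx).symm

theorem az_transport [Finite S] [Fact p.Prime] (D : Dat p F Z θ F' E') (hP : P ≤ preimageAlong θ T')
    (hf : FIso F P Q f) {α : MulAut P} (hα : α ∈ AZ F θ E' p P) : hf.autEquiv α ∈ AZ F θ E' p Q := by
  have h1 : (AZ F θ E' p P).map hf.autEquiv.toMonoidHom ≤ AZ F θ E' p Q := by
    unfold AZ
    rw [MonoidHom.map_closure, Subgroup.closure_le]
    obtain ⟨f', hf', e1, e2⟩ := hf.symm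
    rintro _ ⟨α, (⟨h, ho, hi⟩ | ⟨R, k, t, hk, ht, h⟩), rfl⟩
    · refine Subgroup.subset_closure (Or.inl ⟨?_, ?_, ?_⟩)
      · rw [← hf.map_autGroup]; exact ⟨α, by assumption, rfl⟩
      · show (orderOf (hf.autEquiv α)).Coprime p
        rw [MulEquiv.orderOf_eq]; exact ho
      · refine (D.transport hP hf e1 ((fiso_autFun_iff (hP.trans pre_le)).2 h) hi).congr fun y hy => ?_
        obtain ⟨x, hx, rfl⟩ := hf.mem_iff.1 hy
        show f (autFun α (f' (f x))) = autFun (hf.autEquiv α) (f x)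
        rw [e1 x hx, autFun_of_mem _ hy, autFun_of_mem _ hx]
        exact (hf.autEquiv_coe α ⟨x, hx⟩).symm
    · refine Subgroup.subset_closure (Or.inr ⟨R, fun x => k (f' x), t, hf'.trans hk, ht, fun y => ?_⟩)
      obtain ⟨x, rfl⟩ := hf.equiv.surjective y
      show k (f' (hf.autEquiv α (hf.equiv x) : Q)) = t * k (f' (hf.equiv x : Q)) * t⁻¹
      rw [FIso.autEquiv_apply_apply, FIso.equiv_apply, FIso.equiv_apply, e1 _ (α x).2, e1 _ x.2, h]
  exact h1 ⟨α, hα, rfl⟩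

theorem az_equiv [Finite S] [Fact p.Prime] (D : Dat p F Z θ F' E') (hP : P ≤ preimageAlong θ T') (hf : FIso F P Q f)
    (hg : ∀ x ∈ P, g (f x) = x) (ha : InA (AZ F θ E' p) P a) : InA (AZ F θ E' p) Q (fun y => f (a (g y))) := by
  obtain ⟨α, hα, h1⟩ := ha
  refine ⟨hf.autEquiv α, az_transport D hP hf hα, fun y hy => ?_⟩
  obtain ⟨x, hx, rfl⟩ := hf.mem_iff.1 hy
  show f (a (g (f x))) = _
  rw [hg x hx, h1 x hx, autFun_of_mem _ hy, autFun_of_mem _ hx]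
  exact (hf.autEquiv_coe α ⟨x, hx⟩).symm

theorem inA_of_ind [Finite S] [Fact p.Prime] (ha : PP F p P a) (hi : Ind θ E' P a) : InA (AZ F θ E' p) P a := by
  have h1 : ∀ x ∈ P, a x = autFun (ha.1.equiv : MulAut P) x := fun x hx => by rw [autFun_of_mem _ hx]; rfl
  exact ⟨ha.1.equiv, Subgroup.subset_closure (Or.inl ⟨ha.aut_mem, ha.order, hi.congr h1⟩), h1⟩

theorem az_ind (hP : P ≤ S) : autInducedBy (preimageAlong θ T') P ≤ AZ F θ E' p P := by
  intro β hβ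
  obtain ⟨t, ht, h1⟩ := mem_autInducedBy_iff.1 hβ
  exact Subgroup.subset_closure (Or.inr ⟨P, fun x => x, t, FIso.refl F hP, ⟨ht, mem_normalizer_of_aut h1⟩, h1⟩)

/-! ### The Sylow condition -/

theorem az_le_sup [Finite S] [Fact p.Prime] (D : Dat p F Z θ F' E') (hPT : P ≤ preimageAlong θ T')
    (hP : F.IsFullyNormalized P) :
    AZ F θ E' p P ≤ (pResidual p (XZ F θ E' P hPT)).map (XZ F θ E' P hPT).subtype ⊔
      autInducedBy (preimageAlong θ T') P := by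
  have hT := D.closed
  have hTX : autInducedBy (preimageAlong θ T') P ≤ XZ F θ E' P hPT := (az_ind (p := p) hP.1).trans (az_le_xz D hPT)
  have hXn := D.XZ_normal (hP := hPT)
  have hn := resid_sup_normal D.hS D.hF hT hPT hP (fun α hα => (mem_XZ.1 hα).1) hXn hTX
  unfold AZ
  rw [Subgroup.closure_le]
  rintro α (⟨h, ho, hi⟩ | ⟨Q, k, t, hk, ht, h⟩)
  · exact Subgroup.mem_sup_left (mem_map_resid ⟨h, hi⟩ ho)
  · obtain ⟨l, hl, hlN, hlN'⟩ := exists_map_to_fullyNormalized D.hS D.hF hP (isConj_symm hk.isConj)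
    have hlk := hk.trans hl
    have htN : t ∈ normalizerIn S Q := ⟨hT.1 ht.1, ht.2⟩
    have hlt := hlN' t htN
    have hltT : l t ∈ preimageAlong θ T' := StronglyClosed.map_mem F hT hlN htN ht.1
    obtain ⟨γ, hγ⟩ : ∃ γ : MulAut P, γ = hlk.equiv := ⟨_, rfl⟩
    have hγF : γ ∈ F.autGroup P := hγ ▸ hlk.equiv_mem_autGroup
    have hγ1 : ∀ x : P, ((γ x : P) : Ω) = l (k x) := fun x => by rw [hγ]; rfl
    have h1 : γ * α * γ⁻¹ ∈ autInducedBy (preimageAlong θ T') P := by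
      refine mem_autInducedBy_iff.2 ⟨l t, hltT, fun x => ?_⟩
      obtain ⟨w, rfl⟩ := γ.surjective x
      show ((γ (α (γ⁻¹ (γ w))) : P) : Ω) = _
      rw [MulAut.inv_apply_self, hγ1, hγ1, h w, hlN.map_conj htN (le_normalizerIn hk.le_right (hk.mem w.2))]
    have h2 := (Subgroup.mem_normalizer_iff.1 (hn (inv_mem hγF)) _).1 (Subgroup.mem_sup_right h1)
    rwa [inv_inv, show γ⁻¹ * (γ * α * γ⁻¹) * γ = α by group] at h2

/-! ### Normalizers in the factor system -/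

theorem Dat.mem_im_iff (D : Dat p F Z θ F' E') (hZP : Z ≤ P) (hPS : P ≤ S) {x : Ω} (hx : x ∈ S) :
    ev θ x ∈ imageAlong θ P ↔ x ∈ P := by
  constructor
  · intro h
    rw [← D.pre_im hZP hPS]
    exact mem_pre.2 ⟨hx, h⟩
  · exact fun h => im_of hPS h

theorem Dat.im_norm (D : Dat p F Z θ F' E') (hPS : P ≤ S) {s : Ω} (hs : s ∈ normalizerIn S P) :
    ev θ s ∈ normalizerIn S' (imageAlong θ P) := by
  refine ⟨ev_mem D.hrange hs.1, Subgroup.mem_normalizer_iff.2 fun y => ⟨fun hy => ?_, fun hy => ?_⟩⟩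
  · obtain ⟨x, hx, hxS, rfl⟩ := mem_im.1 hy
    rw [← ev_conj hs.1 hxS]
    exact im_of hPS ((Subgroup.mem_normalizer_iff.1 hs.2 x).1 hx)
  · obtain ⟨x, hx, hxS, h1⟩ := mem_im.1 hy
    have h2 : y = ev θ (s⁻¹ * x * s) := by
      have h3 : ev θ (s⁻¹ * x * s) = ev θ (s⁻¹ * x * s⁻¹⁻¹) := by rw [inv_inv]
      rw [h3, ev_conj (S.inv_mem hs.1) hxS, ev_inv hs.1, h1]
      group
    rw [h2]
    have h3 := (Subgroup.mem_normalizer_iff.1 (Subgroup.inv_mem _ hs.2) x).1 hx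
    rw [inv_inv] at h3
    exact im_of hPS h3

theorem Dat.norm_of (D : Dat p F Z θ F' E') (hZP : Z ≤ P) (hPS : P ≤ S) {s : Ω} (hs : s ∈ S)
    (h : ev θ s ∈ Subgroup.normalizer (imageAlong θ P : Set Ω')) : s ∈ normalizerIn S P := by
  have hn : ∀ x ∈ S, (x ∈ P ↔ s * x * s⁻¹ ∈ P) := fun x hx => by
    rw [← D.mem_im_iff hZP hPS hx, ← D.mem_im_iff hZP hPS (S.mul_mem (S.mul_mem hs hx) (S.inv_mem hs)), ev_conj hs hx]
    exact Subgroup.mem_normalizer_iff.1 h _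
  refine ⟨hs, Subgroup.mem_normalizer_iff.2 fun x => ⟨fun hx => (hn x (hPS hx)).1 hx, fun hx => ?_⟩⟩
  have h2 := S.mul_mem (S.mul_mem (S.inv_mem hs) (hPS hx)) hs
  have h3 : s⁻¹ * (s * x * s⁻¹) * s = x := by group
  rw [h3] at h2
  exact (hn x h2).2 hx

theorem Dat.im_fn [Finite S] [Fact p.Prime] (D : Dat p F Z θ F' E') (hZP : Z ≤ P) (hP : F.IsFullyNormalized P) :
    F'.IsFullyNormalized (imageAlong θ P) := by
  have hfin := D.fin
  refine ⟨im_le D.hrange, fun Q' hQ' => ?_⟩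
  obtain ⟨f', hf'⟩ := isConj_iff_fiso.1 hQ'
  obtain ⟨f, hf, h1⟩ := D.lift hZP hP.1 hf'.1
  obtain ⟨Q, hQ⟩ := hf.exists_iso
  have hQQ : imageAlong θ Q = Q' := by
    ext y
    rw [hf'.mem_iff]
    constructor
    · intro hy
      obtain ⟨z, hz, hzS, rfl⟩ := mem_im.1 hy
      obtain ⟨x, hx, rfl⟩ := hQ.mem_iff.1 hz
      exact ⟨ev θ x, im_of hP.1 hx, h1 x hx⟩
    · rintro ⟨z, hz, rfl⟩
      obtain ⟨x, hx, hxS, rfl⟩ := mem_im.1 hz
      rw [h1 x hx]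
      exact im_of hQ.le_right (hQ.mem hx)
  have hZQ : Z ≤ Q := fun z hz => by
    rw [← D.fix hf hZP hz]; exact hQ.mem (hZP hz)
  obtain ⟨l, hl, hlN, hlN'⟩ := exists_map_to_fullyNormalized D.hS D.hF hP (isConj_symm hQ.isConj)
  obtain ⟨l', hl', h2⟩ := exists_induced_any D.hS D.hF D.closedZ D.hfac hlN
  have hle : normalizerIn S' Q' ≤ imageAlong θ (normalizerIn S Q) := fun y hy => by
    obtain ⟨s, hs, rfl⟩ := exists_ev D.hrange hy.1
    rw [← hQQ] at hy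
    exact im_of (normalizerIn_le S Q) (D.norm_of hZQ hQ.le_right hs hy.2)
  refine (hl'.restrict hle).card_image_le (fun y hy => ?_) (normalizerIn_le S' _)
  obtain ⟨s, hs, hsS, rfl⟩ := mem_im.1 (hle hy)
  rw [h2 s hs]
  exact D.im_norm hP.1 (hlN' s hs)

/-! ### The elements acting trivially modulo `Z` -/

theorem Dat.central_comm (D : Dat p F Z θ F' E') {z s : Ω} (hz : z ∈ Z) (hs : s ∈ S) : s * z = z * s := by
  have h1 := D.fix (fmap_conj F le_rfl hs) D.hfac.1 hz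
  have h2 : s * z * s⁻¹ = z := h1
  rw [← mul_inv_eq_iff_eq_mul]; exact h2

/-- the preimage of the centralizer of the image of `P` -/
def YP (S' : Subgroup Ω') (θ : S →* Ω') (P : Subgroup Ω) : Subgroup Ω :=
  preimageAlong θ (centralizerIn S' (imageAlong θ P))

theorem Dat.mem_YP (D : Dat p F Z θ F' E') (hPS : P ≤ S) {y : Ω} :
    y ∈ YP S' θ P ↔ y ∈ S ∧ ∀ x ∈ P, x⁻¹ * (y * x * y⁻¹) ∈ Z := by
  unfold YP
  rw [mem_pre]
  constructor
  · rintro ⟨h1, h2⟩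
    refine ⟨h1, fun x hx => ?_⟩
    rw [← ev_eq_iff D.hθ (hPS hx) (S.mul_mem (S.mul_mem h1 (hPS hx)) (S.inv_mem h1)), ev_conj h1 (hPS hx)]
    exact (mem_centralizer_iff'.1 h2.2 _ (im_of hPS hx)).symm
  · rintro ⟨h1, h2⟩
    refine ⟨h1, ev_mem D.hrange h1, mem_centralizer_iff'.2 fun z hz => ?_⟩
    obtain ⟨x, hx, hxS, rfl⟩ := mem_im.1 hz
    rw [← ev_conj h1 hxS]
    exact ((ev_eq_iff D.hθ hxS (S.mul_mem (S.mul_mem h1 hxS) (S.inv_mem h1))).2 (h2 x hx)).symm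

theorem Dat.YP_norm (D : Dat p F Z θ F' E') (hZP : Z ≤ P) (hPS : P ≤ S) : YP S' θ P ≤ normalizerIn S P := by
  intro y hy
  have h1 := mem_pre.1 hy
  refine D.norm_of hZP hPS h1.1 ?_
  exact (centralizerIn_le_normalizerIn S' _ h1.2).2

/-- **Lemma A**: lifting the good extension of an automorphism inducing an element of `E'` -/
theorem Dat.lemA [Finite S] [Fact p.Prime] (D : Dat p F Z θ F' E') (hZP : Z ≤ P) (hPT : P ≤ preimageAlong θ T')
    (hTC : TC F' T' (imageAlong θ P)) (hγ : FIso F P P g) (hi : Ind θ E' P g) :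
    ∃ b, FMap F (preimageAlong θ (imageAlong θ P ⊔ centralizerIn S' (imageAlong θ P))) b ∧
      (∀ x ∈ P, (g x)⁻¹ * b x ∈ Z) ∧ ∀ y ∈ YP S' θ P, y⁻¹ * b y ∈ P := by
  have hfin := D.fin
  have hPS : P ≤ S := hPT.trans pre_le
  obtain ⟨g', hg', h1⟩ := ind_fiso hi hγ
  obtain ⟨b', hb', h2, h3⟩ := extZ_all D.pgrp D.sat D.hEs D.hE D.hx _ g' hTC hg'
  obtain ⟨-, b, hb, h4⟩ := (fmap_factor_iff D.hfac).1 hb'
  have hPM : P ≤ preimageAlong θ (imageAlong θ P ⊔ centralizerIn S' (imageAlong θ P)) := fun x hx =>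
    mem_pre.2 ⟨hPS hx, Subgroup.mem_sup_left (im_of hPS hx)⟩
  refine ⟨b, hb, fun x hx => ?_, fun y hy => ?_⟩
  · rw [← ev_eq_iff D.hθ (hPS (hγ.mem hx)) (hb.map_mem (hPM hx)), ← h4 x (hPM hx), h2 _ (im_of hPS hx), h1 x hx]
  · have hy' := mem_pre.1 hy
    have hyM : y ∈ preimageAlong θ (imageAlong θ P ⊔ centralizerIn S' (imageAlong θ P)) :=
      mem_pre.2 ⟨hy'.1, Subgroup.mem_sup_right hy'.2⟩
    have h5 := h3 _ hy'.2
    rw [h4 y hyM, ← ev_inv hy'.1, ← ev_mul (S.inv_mem hy'.1) (hb.map_mem hyM)] at h5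
    exact (D.mem_im_iff hZP hPS (S.mul_mem (S.inv_mem hy'.1) (hb.map_mem hyM))).1 h5

/-- the action of an automorphism inducing an element of `E'` on the conjugations by elements of `YP` -/
theorem Dat.lemB [Finite S] [Fact p.Prime] (D : Dat p F Z θ F' E') (hZP : Z ≤ P) (hPT : P ≤ preimageAlong θ T')
    (hTC : TC F' T' (imageAlong θ P)) (hγ : FIso F P P g) (hi : Ind θ E' P g) {y : Ω} (hy : y ∈ YP S' θ P) :
    ∃ i ∈ P, ∀ u ∈ P, g (y * u * y⁻¹) = y * i * g u * (y * i)⁻¹ := by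
  have hPS : P ≤ S := hPT.trans pre_le
  obtain ⟨b, hb, h1, h2⟩ := D.lemA hZP hPT hTC hγ hi
  have hPM : P ≤ preimageAlong θ (imageAlong θ P ⊔ centralizerIn S' (imageAlong θ P)) := fun x hx =>
    mem_pre.2 ⟨hPS hx, Subgroup.mem_sup_left (im_of hPS hx)⟩
  have hy' := mem_pre.1 hy
  have hyM : y ∈ preimageAlong θ (imageAlong θ P ⊔ centralizerIn S' (imageAlong θ P)) :=
    mem_pre.2 ⟨hy'.1, Subgroup.mem_sup_right hy'.2⟩
  refine ⟨y⁻¹ * b y, h2 y hy, fun u hu => ?_⟩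
  rw [mul_inv_cancel_left]
  -- `y u y⁻¹ = u ζ`
  have hζ := ((D.mem_YP hPS).1 hy).2 u hu
  obtain ⟨ζ, hζe⟩ : ∃ ζ, ζ = u⁻¹ * (y * u * y⁻¹) := ⟨_, rfl⟩
  rw [← hζe] at hζ
  have h3 : y * u * y⁻¹ = u * ζ := by rw [hζe]; group
  have h4 : g (u * ζ) = g u * ζ := by rw [hγ.1.map_mul hu (hZP hζ), D.fix hγ.1 hZP hζ]
  have h5 : b (u * ζ) = b u * ζ := by
    rw [hb.map_mul (hPM hu) (hPM (hZP hζ)), D.fix hb (hZP.trans hPM) hζ]
  have h6 : b y * b u * (b y)⁻¹ = b u * ζ := by rw [← hb.map_conj hyM (hPM hu), h3, h5]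
  obtain ⟨z, hze⟩ : ∃ z, z = (g u)⁻¹ * b u := ⟨_, rfl⟩
  have hz : z ∈ Z := hze ▸ h1 u hu
  have h7 : b u = g u * z := by rw [hze]; group
  have hbyS : b y ∈ S := hb.map_mem hyM
  have hguS : g u ∈ S := hPS (hγ.mem hu)
  have hc1 : z * (b y)⁻¹ = (b y)⁻¹ * z := (D.central_comm hz (S.inv_mem hbyS)).symm
  have hc2 : z * ζ = ζ * z := (D.central_comm hz (D.hfac.1 hζ)).symm
  rw [h3, h4]
  rw [h7] at h6
  have h8 : b y * g u * (b y)⁻¹ * z = g u * ζ * z := by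
    calc b y * g u * (b y)⁻¹ * z = b y * g u * ((b y)⁻¹ * z) := by group
      _ = b y * g u * (z * (b y)⁻¹) := by rw [hc1]
      _ = b y * (g u * z) * (b y)⁻¹ := by group
      _ = g u * z * ζ := h6
      _ = g u * (z * ζ) := by group
      _ = g u * (ζ * z) := by rw [hc2]
      _ = g u * ζ * z := by group
  exact (mul_right_cancel h8).symm

theorem az_syl [Finite S] [Fact p.Prime] (D : Dat p F Z θ F' E') (hPT : P ≤ preimageAlong θ T')
    (hcl : D.cls.CL P) (hP : F.IsFullyNormalized P) :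
    AZ F θ E' p P ⊓ autInducedBy S P ≤ autInducedBy (preimageAlong θ T') P := by
  obtain ⟨hZP, hTC⟩ := hcl
  have hfin := D.fin
  have hT := D.closed
  have hPS := hP.1
  have hPa := automized_receptive_of_fullyNormalized D.hS D.hF hP
  have hXn := D.XZ_normal (hP := hPT)
  rintro β ⟨hβ, hβ'⟩
  have h1 := az_le_sup D hPT hP hβ
  have hn : autInducedBy (preimageAlong θ T') P ≤ Subgroup.normalizer
      (((pResidual p (XZ F θ E' P hPT)).map (XZ F θ E' P hPT).subtype : Subgroup (MulAut P)) : Set (MulAut P)) :=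
    le_normalizer_of_conj fun α hα κ hκ => resid_conj (hXn α (autInducedBy_le_autGroup hP.1 hT.1 hα)) hκ
  rw [sup_comm] at h1
  obtain ⟨τ, hτ, o, ho, h2⟩ := (mem_sup_of_normalizes hn).1 h1
  have h3 : o ∈ autInducedBy S P := by
    have h4 : o = τ⁻¹ * β := by rw [← h2]; group
    rw [h4]
    exact mul_mem (inv_mem (autInducedBy_mono hT.1 hτ)) hβ'
  rw [← h2]
  refine mul_mem hτ (hyper_gen D.hS hPa.1 (fun α hα => (mem_XZ.1 hα).1) hXn ?_ ho h3)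
  -- the commutator computation
  intro Q γ κ hQX hQS hγ hγo hγQ hκQ
  have hγF : γ ∈ F.autGroup P := hγ.1
  have hγi := (fiso_autFun_iff hPS).2 hγF
  obtain ⟨s, hs, h4⟩ := mem_autInducedBy_iff.1 (hQS hκQ)
  have hsN : s ∈ normalizerIn S P := ⟨hs, mem_normalizer_of_aut h4⟩
  obtain ⟨s₁, hs₁, h5⟩ := mem_autInducedBy_iff.1 (hQS (hγQ κ hκQ))
  -- decompose `s`
  obtain ⟨κ', hκ', h6⟩ := (hQX hκQ).2
  have hP'T : imageAlong θ P ≤ T' := im_le_of hPT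
  have hcs : FMap E' (imageAlong θ P) (fun x => ev θ s * x * (ev θ s)⁻¹) := by
    refine hκ'.congr fun y hy => ?_
    obtain ⟨x, hx, hxS, rfl⟩ := mem_im.1 hy
    show κ' (ev θ x) = _
    rw [h6 x hx, ← ev_conj hs hxS, autFun_of_mem _ hx, h4]
  obtain ⟨t', ht', h7⟩ := lemmaW D.pgrp D.sat D.hEs D.hE hP'T (D.im_fn hZP hP) le_rfl (le_normalizerIn hP'T)
    (fun w hw x hx => (Subgroup.mem_normalizer_iff.1 hw.2 x).1 hx) (D.im_norm hPS hsN) hcs
  obtain ⟨t, htS, rfl⟩ := exists_ev D.hrange (D.hE.closed.1 ht'.1)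
  have htT : t ∈ preimageAlong θ T' := mem_pre.2 ⟨htS, ht'.1⟩
  have htN : t ∈ normalizerIn S P := D.norm_of hZP hPS htS ht'.2
  have hy : t⁻¹ * s ∈ YP S' θ P := by
    refine mem_pre.2 ⟨S.mul_mem (S.inv_mem htS) hs, ?_, ?_⟩
    · exact ev_mem D.hrange (S.mul_mem (S.inv_mem htS) hs)
    · refine mem_centralizer_iff'.2 fun x hx => ?_
      rw [ev_mul (S.inv_mem htS) hs, ev_inv htS]
      calc (ev θ t)⁻¹ * ev θ s * x * ((ev θ t)⁻¹ * ev θ s)⁻¹ = (ev θ t)⁻¹ * (ev θ s * x * (ev θ s)⁻¹) * ev θ t := by group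
        _ = x := by rw [h7 x hx]; group
  obtain ⟨y, hye⟩ : ∃ y, y = t⁻¹ * s := ⟨_, rfl⟩
  rw [← hye] at hy
  have hst : s = t * y := by rw [hye]; group
  have hyS : y ∈ S := (mem_pre.1 hy).1
  have hyN := D.YP_norm hZP hPS hy
  obtain ⟨i, hi, h8⟩ := D.lemB hZP hPT hTC hγi hγ.2 hy
  have hκ1 : ∀ x ∈ P, autFun κ x = s * x * s⁻¹ := fun x hx => by rw [autFun_of_mem _ hx]; exact h4 ⟨x, hx⟩
  have hγκ : ∀ x ∈ P, autFun γ (s * x * s⁻¹) = s₁ * autFun γ x * s₁⁻¹ := fun x hx => by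
    have h9 := h5 ⟨autFun γ x, autFun_mem γ hx⟩
    rw [← autFun_coe] at h9
    have h10 : autFun (γ * κ * γ⁻¹) (autFun γ x) = s₁ * autFun γ x * s₁⁻¹ := h9
    rw [← h10, ← autFun_mul _ _ hx, show γ * κ * γ⁻¹ * γ = γ * κ by group, autFun_mul _ _ hx, hκ1 x hx]
  -- `γ c_t γ⁻¹` is induced by an element of `S`
  have hγt : ∀ x ∈ P, autFun γ (t * x * t⁻¹) = (s₁ * (y * i)⁻¹) * autFun γ x * (s₁ * (y * i)⁻¹)⁻¹ := fun x hx => by
    have hx' : y⁻¹ * x * y ∈ P := by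
      have := (Subgroup.mem_normalizer_iff.1 (Subgroup.inv_mem _ hyN.2) x).1 hx
      rwa [inv_inv] at this
    have h9 := h8 _ hx'
    have h10 : y * (y⁻¹ * x * y) * y⁻¹ = x := by group
    rw [h10] at h9
    have h11 := hγκ _ hx'
    have h12 : s * (y⁻¹ * x * y) * s⁻¹ = t * x * t⁻¹ := by rw [hst]; group
    rw [h12] at h11
    rw [h11, h9]
    group
  have hact : Subgroup.zpowers t ≤ actSub hγi S := by
    rw [Subgroup.zpowers_le]
    exact mem_actSub.2 ⟨htN.2, _, S.mul_mem (hs₁) (S.inv_mem (S.mul_mem hyS (hPS hi))), hγt⟩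
  obtain ⟨σ, hσ, hσ1⟩ := extend_sup hPa.2 hγi (M := Subgroup.zpowers t) (by rw [Subgroup.zpowers_le]; exact htN)
    (fun m hm => (hact hm).2)
  have htM : t ∈ P ⊔ Subgroup.zpowers t := Subgroup.mem_sup_right (Subgroup.mem_zpowers t)
  have hσt : σ t ∈ preimageAlong θ T' := StronglyClosed.map_mem F hT hσ htM htT
  have hσconj : ∀ x ∈ P, autFun γ (t * x * t⁻¹) = σ t * autFun γ x * (σ t)⁻¹ := fun x hx => by
    rw [← hσ1 _ ((Subgroup.mem_normalizer_iff.1 htN.2 x).1 hx), hσ.map_conj htM (Subgroup.mem_sup_left hx), hσ1 x hx]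
  have hTn := normalizes_of_stronglyClosed hT
  refine mem_autInducedBy_iff.2 ⟨y⁻¹ * (t⁻¹ * σ t) * y * i, ?_, fun x => ?_⟩
  · refine Subgroup.mul_mem _ ?_ (hPT hi)
    have h9 := (Subgroup.mem_normalizer_iff.1 (hTn (S.inv_mem hyS)) (t⁻¹ * σ t)).1
      (Subgroup.mul_mem _ (Subgroup.inv_mem _ htT) hσt)
    rwa [inv_inv] at h9
  · obtain ⟨w, rfl⟩ := γ.surjective x
    have h9 : ((κ⁻¹ * (γ * κ * γ⁻¹)) (γ w) : P) = κ⁻¹ (γ (κ w)) := by
      simp only [MulAut.mul_apply, MulAut.inv_apply_self]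
    have hwu : y * (w : Ω) * y⁻¹ ∈ P := (Subgroup.mem_normalizer_iff.1 hyN.2 _).1 w.2
    have h10 : ((γ (κ w) : P) : Ω) = (σ t * (y * i)) * ((γ w : P) : Ω) * (σ t * (y * i))⁻¹ := by
      have h11 : ((γ (κ w) : P) : Ω) = autFun γ (t * (y * w * y⁻¹) * t⁻¹) := by
        rw [← autFun_coe, ← autFun_coe κ, hκ1 _ w.2, hst]
        congr 1
        group
      rw [h11, hσconj _ hwu, h8 _ w.2, autFun_coe]
      group
    have h11 : ∀ v : P, ((κ⁻¹ v : P) : Ω) = s⁻¹ * v * s := fun v => by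
      obtain ⟨v', rfl⟩ := κ.surjective v
      rw [MulAut.inv_apply_self, h4 v']
      group
    rw [h9, h11, h10, hst]
    group

end Cfsg.Agent.Lib.FusionPullN
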