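import Mathlib
import Cfsg.Agent.Lib.FusionPullN

/-!
Normal subsystems of a factor system modulo a central subgroup: the normal subsystem of the original system.
-/

set_option autoImplicit false
open Cfsg Cfsg.FusionSystem Cfsg.Agent.Lib.FusionBasic Cfsg.Agent.Lib.FusionSat Cfsg.Agent.Lib.FusionNormal
  Cfsg.Agent.Lib.FusionInvar Cfsg.Agent.Lib.FusionTools Cfsg.Agent.Lib.FusionPP Cfsg.Agent.Lib.FusionStrong
  Cfsg.Agent.Lib.FusionSys Cfsg.Agent.Lib.FusionFrat Cfsg.Agent.Lib.FusionPrime Cfsg.Agent.Lib.FusionTC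
  Cfsg.Agent.Lib.FusionClosed Cfsg.Agent.Lib.FusionStab Cfsg.Agent.Lib.FusionZeta Cfsg.Agent.Lib.FusionCenClosed
  Cfsg.Agent.Lib.FusionLemD Cfsg.Agent.Lib.FusionPullN
open Cfsg.Agent.Lib.FusionThmA (InA inA_id inA_aut tc_of_fullyNormalized)
open Cfsg.Agent.Lib.FusionPIdx (le_normalizer_sup le_normalizer_of_conj map_resid_conj mem_map_resid)
open Cfsg.Agent.Lib.FusionThmC (Cls TCC FamC tcc_of sysC sysC_saturated sysC_inv sysC_base gn_data)
open Cfsg.Agent.Lib.FusionQuot (ev ev_of_mem ev_coe ev_mul ev_inv ev_one ev_conj ev_eq_one_iff ev_eq_iff mem_pre pre_le mem_im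
  le_pre pre_im im_pre im_le exists_ev ev_mem fmap_factor_iff finite_range isPGroup_range isSaturated_factor)
open Cfsg.Agent.Lib.FusionQuotHyp (exists_induced_any)
open Cfsg.Agent.Lib.FusionFocal (fix_of_isCentral)
open Cfsg.Agent.Lib.FusionMeet5 (extZ_pp)
open Cfsg.Agent.Lib.FusionCenNormal (tc_self ext_of_pp)

namespace Cfsg.Agent.Lib.FusionPullN2

variable {Ω : Type*} [Group Ω] {S : Subgroup Ω} {F : FusionSystem S} {Ω' : Type*} [Group Ω'] {S' T' : Subgroup Ω'}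
  {F' : FusionSystem S'} {E' : FusionSystem T'} {θ : S →* Ω'} {P Q R X Y Z : Subgroup Ω} {a b f g k : Ω → Ω} {p : ℕ}

theorem iter_ind {f' : Ω' → Ω'} (hf : ∀ x ∈ P, f x ∈ P) (h : ∀ x ∈ P, f' (ev θ x) = ev θ (f x)) (n : ℕ) :
    ∀ x ∈ P, f'^[n] (ev θ x) = ev θ (f^[n] x) := by
  induction n with
  | zero => exact fun x _ => rfl
  | succ n ih =>
    intro x hx
    rw [Function.iterate_succ_apply, Function.iterate_succ_apply, h x hx]
    exact ih _ (hf x hx)

/-- an automorphism of order prime to `p` induces one on the image -/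
theorem pp_im [Finite S] [Fact p.Prime] (D : Dat p F Z θ F' E') (ha : PP F p P a) :
    ∃ a', PP F' p (imageAlong θ P) a' ∧ ∀ x ∈ P, a' (ev θ x) = ev θ (a x) := by
  obtain ⟨h1, n, hn, h2⟩ := id ha
  obtain ⟨a', ha', h3⟩ := D.iso h1
  refine ⟨a', ⟨ha', n, hn, fun y hy => ?_⟩, h3⟩
  obtain ⟨x, hx, hxS, rfl⟩ := mem_im.1 hy
  rw [iter_ind (fun x hx => ha.mem hx) h3 n x hx, h2 x hx]

/-- the automorphisms trivial modulo `Z` -/
def DZ (F : FusionSystem S) (Z P : Subgroup Ω) (hZF : F.IsCentral Z) (hZP : Z ≤ P) (hPS : P ≤ S) : Subgroup (MulAut P) where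
  carrier := {α | α ∈ F.autGroup P ∧ ∀ x ∈ P, x⁻¹ * autFun α x ∈ Z}
  one_mem' := ⟨one_mem _, fun x hx => by rw [autFun_one hx, inv_mul_cancel]; exact Z.one_mem⟩
  mul_mem' := by
    rintro α β ⟨h1, h2⟩ ⟨k1, k2⟩
    refine ⟨mul_mem h1 k1, fun x hx => ?_⟩
    have h3 := h2 _ (autFun_mem β hx)
    have h4 := Z.mul_mem (k2 x hx) h3
    rw [autFun_mul _ _ hx]
    have h5 : x⁻¹ * autFun β x * ((autFun β x)⁻¹ * autFun α (autFun β x)) = x⁻¹ * autFun α (autFun β x) := by group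
    rwa [h5] at h4
  inv_mem' := by
    rintro α ⟨h1, h2⟩
    refine ⟨inv_mem h1, fun x hx => ?_⟩
    have h3 := Z.inv_mem (h2 _ (autFun_mem α⁻¹ hx))
    rw [autFun_apply_inv α hx, mul_inv_rev, inv_inv] at h3
    exact h3

theorem mem_DZ {hZF : F.IsCentral Z} {hZP : Z ≤ P} {hPS : P ≤ S} {α : MulAut P} :
    α ∈ DZ F Z P hZF hZP hPS ↔ α ∈ F.autGroup P ∧ ∀ x ∈ P, x⁻¹ * autFun α x ∈ Z := Iff.rfl

theorem dz_normal {hZF : F.IsCentral Z} {hZP : Z ≤ P} {hPS : P ≤ S} :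
    ∀ α ∈ F.autGroup P, ∀ κ ∈ DZ F Z P hZF hZP hPS, α * κ * α⁻¹ ∈ DZ F Z P hZF hZP hPS := by
  rintro α hα κ ⟨h1, h2⟩
  refine ⟨mul_mem (mul_mem hα h1) (inv_mem hα), fun x hx => ?_⟩
  have hu := autFun_mem α⁻¹ hx
  have h3 := h2 _ hu
  have hαi := ((fiso_autFun_iff hPS).2 hα).1
  have h4 := fix_of_isCentral hZF hαi (hZP h3) h3
  rw [hαi.map_mul (Subgroup.inv_mem _ hu) (autFun_mem κ hu), hαi.map_inv hu, autFun_apply_inv α hx] at h4
  rw [autFun_mul _ _ hx, autFun_mul _ _ hu, h4]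
  exact h3

theorem dz_pgroup [Finite S] [Fact p.Prime] (hS : IsPGroup p S) {hZF : F.IsCentral Z} {hZP : Z ≤ P} {hPS : P ≤ S} :
    IsPGroup p (DZ F Z P hZF hZP hPS) := by
  intro x
  obtain ⟨k, hk⟩ := stab_pow hS hPS hZP (δ := (x : MulAut P)) (fun z hz =>
    fix_of_isCentral hZF ((fiso_autFun_iff hPS).2 x.2.1).1 (hZP hz) hz) (fun y hy => x.2.2 y hy)
  exact ⟨k, Subtype.ext hk⟩

theorem az_fam [Finite S] [Fact p.Prime] (D : Dat p F Z θ F' E') :
    FamC F (preimageAlong θ T') p D.cls (AZ F θ E' p) where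
  le := fun P hP => az_le D hP.1
  equiv := fun P Q f g a hP hf hg ha => az_equiv D hP.1 hf hg ha
  ind := fun P hP _ => az_ind (hP.1.trans D.closed.1)
  syl := fun P hP hPn => az_syl D hP.1 hP.3 hPn
  res := by
    intro P a hP hPn ha haA haP
    have hPN := le_normalizerIn hP.1
    have h1 := ind_of_inA D (normalizerIn_le _ P) haA
    exact inA_of_ind (ha.restrict hPN haP) (h1.restrict hPN)
  ext := by
    intro P Q a hP hPn hPQ hQN hQc ha haP haA
    have hfin := D.fin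
    have hQT : Q ≤ preimageAlong θ T' := hQN.trans (normalizerIn_le _ P)
    obtain ⟨a', ha', h1⟩ := pp_im D ha
    have hi := ind_of_inA D hP.1 haA
    obtain ⟨a'', ha'', h2⟩ := hi
    have hPS := hPn.1
    have h3 : PP E' p (imageAlong θ Q) a' := by
      refine lemmaD D.pgrp D.hEs D.hE (D.cls_iff.1 hP.3).2 (im_mono hPQ) (im_le_of hQT) (fun q hq => ?_) ha' (fun y hy => ?_)
        (ha''.congr fun y hy => ?_)
      · obtain ⟨x, hx, hxS, rfl⟩ := mem_im.1 hq
        exact (D.im_norm hPS ⟨hxS, (hQN hx).2⟩).2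
      · obtain ⟨x, hx, hxS, rfl⟩ := mem_im.1 hy
        rw [h1 x (hPQ hx)]
        exact im_of hPS (haP x hx)
      · obtain ⟨x, hx, hxS, rfl⟩ := mem_im.1 hy
        rw [h2 x hx, h1 x (hPQ hx)]
    exact inA_of_ind ha ⟨a', h3.map, h1⟩
  star := by
    intro P hP hPn hcl
    have hfin := D.fin
    have hPS := hPn.1
    have hT := D.closed
    have hZP : Z ≤ P := by
      intro z hz
      refine hP.cent hT ⟨D.leT hz, mem_centralizer_iff'.2 fun x hx => ?_⟩
      rw [← D.central_comm hz (hPS hx)]; group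
    have h1 : ¬ centralizerIn T' (imageAlong θ P) ≤ imageAlong θ P := fun h => hcl ⟨hZP,
      tc_of_fullyNormalized D.pgrp D.sat D.hE.closed (im_le_of hP.1) (D.im_fn hZP hPn) h⟩
    obtain ⟨y', hy', hy'P⟩ := SetLike.not_le_iff_exists.1 h1
    obtain ⟨y, hyS, rfl⟩ := exists_ev D.hrange (D.hE.closed.1 hy'.1)
    have hyY : y ∈ YP S' θ P := mem_pre.2 ⟨hyS, D.hE.closed.1 hy'.1, hy'.2⟩
    have hyN := D.YP_norm hZP hPS hyY
    have hyT : y ∈ preimageAlong θ T' := mem_pre.2 ⟨hyS, hy'.1⟩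
    refine ⟨DZ F Z P D.hZ hZP hPS, fun α hα => hα.1, dz_normal, dz_pgroup D.hS, y, ⟨hyT, hyN.2⟩, fun h => ?_,
      conjAut P y hyN.2, ⟨conjAut_mem_autGroup hPS hyN.2 hyS, fun x hx => ?_⟩, fun x hx => ?_⟩
    · exact hy'P (im_of hPS h)
    · rw [autFun_of_mem _ hx, conjAut_apply]
      exact ((D.mem_YP hPS).1 hyY).2 x hx
    · rw [autFun_of_mem _ hx, conjAut_apply]

/-- The subsystem lying over `E'`. -/
noncomputable def pullSys [Finite S] [Fact p.Prime] (D : Dat p F Z θ F' E') : FusionSystem (preimageAlong θ T') :=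
  sysC F (preimageAlong θ T') D.cls (AZ F θ E' p) D.closed.1

theorem pull_sat [Finite S] [Fact p.Prime] (D : Dat p F Z θ F' E') : (pullSys D).IsSaturated p :=
  sysC_saturated D.hS D.hF D.closed (az_fam D)

theorem pull_inv [Finite S] [Fact p.Prime] (D : Dat p F Z θ F' E') : Inv (pullSys D) F :=
  sysC_inv D.hS D.hF D.closed (az_fam D)

/-- every map of the subsystem induces a map of `E'` -/
theorem pull_ind [Finite S] [Fact p.Prime] (D : Dat p F Z θ F' E') (h : FMap (pullSys D) P f) : Ind θ E' P f := by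
  refine genSys_induction (gn_data (az_fam D) D.closed.1) (fun P f => Ind θ E' P f) ?_ ?_ ?_ ?_ ?_ P f h
  · rintro P f ⟨h1, h2⟩
    exact ind_of_inA D h1.1 h2
  · intro P s hP hs
    exact ind_conj hP hs
  · intro P Q f g hf h1 hg h2 h3
    exact h1.comp h2 (hg.le.trans D.closed.1) h3
  · intro P Q f g hf h1 hg hgf hfg
    exact h1.inv (F := F) (sub_fiso genSys_sub hf) hgf
  · intro P f g _ h1 h2
    exact h1.congr h2

theorem pull_ext [Finite S] [Fact p.Prime] (D : Dat p F Z θ F' E') : Ext (pullSys D) F := by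
  have hT := D.closed
  have hinv := pull_inv D
  have hfin := D.fin
  have hTfin : Finite (preimageAlong θ T') := finite_of_le hT.1
  refine ext_of_pp D.hS D.hF (pull_sat D) hinv fun f hf => ?_
  have hfF : PP F p (preimageAlong θ T') f := pp_sub hinv.sub hf
  have hZT := D.leT
  have hTC : TC F' T' (imageAlong θ (preimageAlong θ T')) := by
    rw [im_pre D.hrange D.hE.closed.1]; exact tc_self D.hE.closed
  obtain ⟨b, hb, h1, h2⟩ := D.lemA hZT le_rfl hTC hfF.1 (pull_ind D hf.map)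
  -- the good automorphisms
  let H : Subgroup (MulAut (preimageAlong θ T')) :=
    { carrier := {β | β ∈ F.autGroup (preimageAlong θ T') ∧ ExtZ F (preimageAlong θ T') (autFun β)}
      one_mem' := ⟨one_mem _, extZ_congr (f := fun x => x) ⟨fun x => x, fmap_id F (sup_le hT.1 (centralizerIn_le S _)),
          fun _ _ => rfl, fun c _ => by simp [Subgroup.one_mem]⟩ fun x hx => (autFun_one hx).symm⟩
      mul_mem' := by
        rintro β γ ⟨h1, h3⟩ ⟨k1, k3⟩
        exact ⟨mul_mem h1 k1, extZ_congr (extZ_comp (fun x hx => autFun_mem γ hx) (fun x hx => autFun_mem β hx) k3 h3)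
          fun x hx => (autFun_mul β γ hx).symm⟩
      inv_mem' := by
        rintro β ⟨h1, h2⟩
        exact ⟨inv_mem h1, extZ_inv ((fiso_autFun_iff hT.1).2 h1) ((fiso_autFun_iff hT.1).2 (inv_mem h1))
          (fun x hx => autFun_inv_apply β hx) h2⟩ }
  have hTn := fullyNormalized_of_stronglyClosed (F := F) hT
  have hTr := receptive_of_fullyNormalized D.hS D.hF hTn
  have hHn : ∀ α ∈ F.autGroup (preimageAlong θ T'), ∀ n ∈ H, α * n * α⁻¹ ∈ H := by
    rintro α hα n ⟨k1, k2⟩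
    refine ⟨mul_mem (mul_mem hα k1) (inv_mem hα), ?_⟩
    have hαi := (fiso_autFun_iff hT.1).2 (inv_mem hα : α⁻¹ ∈ F.autGroup (preimageAlong θ T'))
    obtain ⟨c, hc, hc1, -⟩ := exists_extension_centralizer hTr hαi
    refine extZ_pull (f := c) (b := autFun n) (hαi.congr fun x hx => (hc1 x hx).symm) hc k2
      (fun y hy => autFun_mem n hy) fun x hx => ⟨autFun_mem _ hx, ?_⟩
    rw [hc1 _ (autFun_mem _ hx), hc1 x hx, ← autFun_mul _ _ hx, ← autFun_mul _ _ hx,
      show α⁻¹ * (α * n * α⁻¹) = n * α⁻¹ by group]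
  have hPM : preimageAlong θ T' ≤ preimageAlong θ (imageAlong θ (preimageAlong θ T') ⊔
      centralizerIn S' (imageAlong θ (preimageAlong θ T'))) := fun x hx =>
    mem_pre.2 ⟨hT.1 hx, Subgroup.mem_sup_left (im_of hT.1 hx)⟩
  have hYM : YP S' θ (preimageAlong θ T') ≤ preimageAlong θ (imageAlong θ (preimageAlong θ T') ⊔
      centralizerIn S' (imageAlong θ (preimageAlong θ T'))) := fun x hx =>
    mem_pre.2 ⟨(mem_pre.1 hx).1, Subgroup.mem_sup_right (mem_pre.1 hx).2⟩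
  have hCY : centralizerIn S (preimageAlong θ T') ≤ YP S' θ (preimageAlong θ T') := fun c hc =>
    (D.mem_YP hT.1).2 ⟨hc.1, fun x hx => by rw [mem_centralizer_iff'.1 hc.2 x hx, inv_mul_cancel]; exact Z.one_mem⟩
  have hbT : FIso F (preimageAlong θ T') (preimageAlong θ T') b := by
    refine (hb.restrict hPM).fiso_of_card hT.1 (fun x hx => ?_) le_rfl
    have h3 := Subgroup.mul_mem _ (hfF.mem hx) (hZT (h1 x hx))
    rwa [mul_inv_cancel_left] at h3
  obtain ⟨α, hα⟩ : ∃ α : MulAut (preimageAlong θ T'), α = hfF.1.equiv := ⟨_, rfl⟩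
  obtain ⟨β, hβ⟩ : ∃ β : MulAut (preimageAlong θ T'), β = hbT.equiv := ⟨_, rfl⟩
  have hα1 : ∀ x ∈ preimageAlong θ T', autFun α x = f x := fun x hx => by rw [autFun_of_mem _ hx, hα]; rfl
  have hβ1 : ∀ x ∈ preimageAlong θ T', autFun β x = b x := fun x hx => by rw [autFun_of_mem _ hx, hβ]; rfl
  have hβF : β ∈ F.autGroup (preimageAlong θ T') := hβ ▸ hbT.equiv_mem_autGroup
  have hαF : α ∈ F.autGroup (preimageAlong θ T') := hα ▸ hfF.aut_mem
  have hβH : β ∈ H := by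
    refine ⟨hβF, b, hb.restrict (sup_le hPM (hCY.trans hYM)), fun x hx => (hβ1 x hx).symm, fun c hc => h2 c (hCY hc)⟩
  have hδ : β⁻¹ * α ∈ DZ F Z (preimageAlong θ T') D.hZ hZT hT.1 := by
    refine ⟨mul_mem (inv_mem hβF) hαF, fun x hx => ?_⟩
    have hxα := autFun_mem α hx
    rw [autFun_mul _ _ hx]
    -- `β⁻¹ (f x) = x z`
    have hi := ((fiso_autFun_iff hT.1).2 (inv_mem hβF)).1
    have h3 : x⁻¹ * autFun β⁻¹ (autFun α x) = autFun β⁻¹ ((autFun β x)⁻¹ * autFun α x) := by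
      rw [hi.map_mul (Subgroup.inv_mem _ (autFun_mem β hx)) hxα, hi.map_inv (autFun_mem β hx), autFun_inv_apply β hx]
    have h4 : (autFun β x)⁻¹ * autFun α x ∈ Z := by
      rw [hα1 x hx, hβ1 x hx]
      have := Z.inv_mem (h1 x hx)
      rwa [mul_inv_rev, inv_inv] at this
    rw [h3, fix_of_isCentral D.hZ hi (hZT h4) h4]
    exact h4
  obtain ⟨k, hk⟩ := dz_pgroup (hZF := D.hZ) (hZP := hZT) (hPS := hT.1) D.hS ⟨_, hδ⟩
  have hk' : (β⁻¹ * α) ^ p ^ k = 1 := congrArg Subtype.val hk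
  have hαH : α ∈ H := mem_of_pprime (N := H) (x := α) (y := β) (δ := β⁻¹ * α) (fun n hn' => hHn α hαF n hn') hβH
    (by group) (hα ▸ hfF.order) ⟨k, hk'⟩
  exact extZ_congr hαH.2 hα1

/-- **Pullback of a normal subsystem of a central factor system.** -/
theorem pull_normal [Finite S] [Fact p.Prime] (D : Dat p F Z θ F' E') : (pullSys D).IsNormalIn F p :=
  isNormalIn_iff.2 ⟨pull_sat D, D.hF, pull_inv D, pull_ext D⟩

/-- if the pullback is the whole system, so is `E'` -/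
theorem pull_whole [Finite S] [Fact p.Prime] (D : Dat p F Z θ F' E') (h1 : preimageAlong θ T' = S)
    (h2 : ∀ P, (pullSys D).Hom P = F.Hom P) : T' = S' ∧ ∀ P, E'.Hom P = F'.Hom P := by
  have h3 : ∀ P f, FMap F P f → FMap (pullSys D) P f := fun P f hf => by
    exact hom_subset_iff_fmap.1 (h2 P).ge f hf
  have hT : T' = S' := by
    refine le_antisymm D.hE.closed.1 fun y hy => ?_
    obtain ⟨x, hx, rfl⟩ := exists_ev D.hrange hy
    rw [← h1] at hx
    exact (mem_pre.1 hx).2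
  refine ⟨hT, fun P => le_antisymm (D.hE.sub P) ?_⟩
  refine hom_subset_iff_fmap.2 fun f hf => ?_
  obtain ⟨hPS', f₀, h4, h5⟩ := (fmap_factor_iff D.hfac).1 hf
  obtain ⟨f', h6, h7⟩ := pull_ind D (h3 _ _ h4)
  rw [im_pre D.hrange hPS'] at h6
  refine h6.congr fun y hy => ?_
  obtain ⟨x, hx, rfl⟩ := exists_ev D.hrange (hPS' hy)
  have hxP : x ∈ preimageAlong θ P := mem_pre.2 ⟨hx, hy⟩
  rw [h7 x hxP, h5 x hxP]

end Cfsg.Agent.Lib.FusionPullN2
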