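import Mathlib
import Cfsg.Agent.Lib.FusionPullN2
import Cfsg.Agent.Lib.FusionCP4
import Cfsg.Agent.Lib.FusionConstr
import Cfsg.Agent.Lib.FusionRealized
import Cfsg.Agent.Lib.FusionInv

/-!
Constrained systems and components.
-/

set_option autoImplicit false
open Cfsg Cfsg.FusionSystem Cfsg.Agent.Lib.FusionBasic Cfsg.Agent.Lib.FusionSat Cfsg.Agent.Lib.FusionNormal
  Cfsg.Agent.Lib.FusionInvar Cfsg.Agent.Lib.FusionTools Cfsg.Agent.Lib.FusionPP Cfsg.Agent.Lib.FusionStrong
  Cfsg.Agent.Lib.FusionSys Cfsg.Agent.Lib.FusionFrat Cfsg.Agent.Lib.FusionPrime Cfsg.Agent.Lib.FusionTC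
  Cfsg.Agent.Lib.FusionClosed Cfsg.Agent.Lib.FusionStab Cfsg.Agent.Lib.FusionZeta Cfsg.Agent.Lib.FusionCenClosed
  Cfsg.Agent.Lib.FusionPPower Cfsg.Agent.Lib.FusionDich Cfsg.Agent.Lib.FusionLayer Cfsg.Agent.Lib.FusionCP4
  Cfsg.Agent.Lib.FusionPullN Cfsg.Agent.Lib.FusionPullN2
open Cfsg.Agent.Lib.FusionInnerN (inner_isNormalIn)
open Cfsg.Agent.Lib.FusionJoin (isNormal_core isCentral_center)
open Cfsg.Agent.Lib.FusionQS2 (central_closed)
open Cfsg.Agent.Lib.FusionQuot (ev ev_of_mem ev_coe ev_mul ev_inv ev_one ev_conj ev_eq_one_iff ev_eq_iff mem_pre pre_le mem_im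
  le_pre pre_im im_pre im_le exists_ev ev_mem fmap_factor_iff finite_range isPGroup_range isSaturated_factor)
open Cfsg.Agent.Lib.FusionFocal (fix_of_isCentral)

namespace Cfsg.Agent.Lib.FusionConsComp

variable {Ω : Type*} [Group Ω] {S T K U V W : Subgroup Ω} {F : FusionSystem S} {E : FusionSystem T}
  {D : FusionSystem U} {C : FusionSystem K} {P Q R M X Y Z N : Subgroup Ω} {a b f g k σ : Ω → Ω} {p : ℕ}

/-- The largest normal subgroup of a normal subsystem is normal. -/
theorem core_normal [Finite S] [Fact p.Prime] (hS : IsPGroup p S) (hE : E.IsNormalIn F p) : F.IsNormal E.core := by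
  obtain ⟨hEs, hF, hinv, hx⟩ := isNormalIn_iff.1 hE
  have hT := hinv.closed
  have hTfin : Finite T := finite_of_le hT.1
  obtain ⟨Q, hQe⟩ : ∃ Q, Q = E.core := ⟨_, rfl⟩
  have hQ : E.IsNormal Q := hQe ▸ isNormal_core E
  rw [← hQe]
  have hQT : Q ≤ T := hQ.1
  have hQS : Q ≤ S := hQT.trans hT.1
  have hQfin : Finite Q := finite_of_le hQS
  have hQp := isPGroup_of_le hS hQS
  have hnil : Group.IsNilpotent Q := hQp.isNilpotent
  obtain ⟨n, C, hC0, hCn, -, hCle, hCc, hCch⟩ := Cfsg.Agent.Lib.FusionClosed.exists_central_chain Q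
  have haQ : ∀ a, FIso F T T a → FIso F Q Q a := by
    intro a ha
    obtain ⟨R', hR'⟩ := (ha.1.restrict hQT).exists_iso
    have h1 : E.IsNormal R' := Cfsg.Agent.Lib.FusionInv.isNormal_transport hE.1.2.2 ha hQ fun y => hR'.mem_iff
    have h2 : R' ≤ Q := by rw [hQe]; exact le_sSup h1
    exact (ha.1.restrict hQT).fiso_of_card hQS (fun x hx => h2 (hR'.mem hx)) le_rfl
  have hCs : ∀ i, F.StronglyClosed (C i) := by
    intro i
    rw [stronglyClosed_iff]
    refine ⟨(hCle i).trans hQS, fun P f hP hf x hx => ?_⟩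
    obtain ⟨a, f₀, ha, hf₀, h1⟩ := hinv.frattini (hP.trans ((hCle i).trans hQT)) hf
    have h2 : f₀ x ∈ C i := StronglyClosed.map_mem E
      (isNormal_stronglyClosed (isNormal_of_characteristic hQ (hCle i) (hCch i))) hf₀ hx (hP hx)
    rw [h1 x hx]
    have h3 := Subgroup.characteristic_iff_map_eq.1 (hCch i) (haQ a ha).equiv
    have h4 : (haQ a ha).equiv ⟨f₀ x, hCle i h2⟩ ∈ ((C i).subgroupOf Q).map (haQ a ha).equiv.toMonoidHom :=
      ⟨⟨f₀ x, hCle i h2⟩, Subgroup.mem_subgroupOf.2 h2, rfl⟩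
    rw [h3] at h4
    exact h4
  refine isNormal_of_chain hS hF C n hC0 hCn fun i _ => ⟨hCs _, ?_⟩
  rw [Subgroup.commutator_comm]
  exact hCc i

theorem core_le [Finite S] [Fact p.Prime] (hS : IsPGroup p S) (hE : E.IsNormalIn F p) : E.core ≤ F.core :=
  le_sSup (core_normal hS hE)

/-- a subgroup normal in the system containing its centralizer is centric -/
theorem centric_of_normal [Finite S] (hQ : F.IsNormal Q) (h : centralizerIn S Q ≤ Q) : F.IsCentric Q := by
  refine ⟨hQ.1, fun R' hR' => ?_⟩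
  obtain ⟨f, hf⟩ := isConj_iff_fiso.1 hR'
  have hle : R' ≤ Q := by
    intro y hy
    obtain ⟨x, hx, rfl⟩ := hf.mem_iff.1 hy
    exact StronglyClosed.map_mem F (isNormal_stronglyClosed hQ) hf.1 hx hx
  have hfin2 : Finite ↥Q := finite_of_le hQ.1
  have hRe : R' = Q := Subgroup.eq_of_le_of_card_ge hle (isConj_card_eq hR').le
  rw [hRe]
  exact h

theorem constrained_iff_core [Finite S] (hF : F.IsSaturated p) :
    F.IsConstrained p ↔ centralizerIn S F.core ≤ F.core := by
  constructor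
  · intro h
    exact (Cfsg.Agent.Lib.FusionRealized.isCentric_core_of_isConstrained h).2 _ (isConj_refl F (isNormal_core F).1)
  · exact fun h => ⟨hF, F.core, isNormal_core F, centric_of_normal (isNormal_core F) h⟩

/-- a constrained normal subsystem over a subgroup centralizing `O_p(F)` lies in `O_p(F)` -/
theorem le_core_of_constrained [Finite S] [Fact p.Prime] (hS : IsPGroup p S) (hD : D.IsNormalIn F p)
    (hc : D.IsConstrained p) (h : ∀ u ∈ U, ∀ r ∈ F.core, u * r * u⁻¹ = r) : U ≤ F.core := by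
  have hUfin : Finite U := finite_of_le (isNormalIn_iff.1 hD).2.2.1.closed.1
  have h1 := (constrained_iff_core hc.1).1 hc
  have h2 := core_le hS hD
  exact fun u hu => h2 (h1 ⟨hu, mem_centralizer_iff'.2 fun x hx => h u hu x (h2 hx)⟩)

theorem cen_inner (hQS : Q ≤ S) : Cen F (innerFusionSystem Q) (centralizerIn S Q) := by
  refine ⟨le_rfl, fun P f hf => ?_⟩
  obtain ⟨hP, q, hq, h1⟩ := Cfsg.Agent.Lib.FusionBasic.fmap_inner_iff.1 hf
  refine ⟨fun x => q * x * q⁻¹, fmap_conj F (sup_le (hP.trans hQS) (centralizerIn_le S Q)) (hQS hq), fun x hx =>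
    (h1 x hx).symm, fun y hy => ?_⟩
  have h2 := mem_centralizer_iff'.1 hy.2 q hq
  calc q * y * q⁻¹ = (y * q * y⁻¹) * y * q⁻¹ := by rw [h2]
    _ = y := by group

/-- if the hyperfocal subgroup is central then it is trivial -/
theorem hyp_eq_bot_of_central [Finite S] [Fact p.Prime] (hS : IsPGroup p S)
    (hZ : F.IsCentral Z) (h : F.hyperfocalSubgroup p ≤ Z) : F.hyperfocalSubgroup p = ⊥ := by
  rw [eq_bot_iff]
  conv_lhs => rw [Cfsg.Agent.Lib.FusionHyper.hyp_eq]
  rw [Subgroup.closure_le]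
  rintro y ⟨P, β, hP, hβ, ho, x, rfl⟩
  have hpp := pp_of_aut hP hβ ho
  have h1 : (x : Ω)⁻¹ * ((β x : P) : Ω) ∈ Z := h (by
    rw [Cfsg.Agent.Lib.FusionHyper.hyp_eq]
    exact Subgroup.subset_closure ⟨P, β, hP, hβ, ho, x, rfl⟩)
  have h2 : autFun β x = x := hpp.fix hS (Y := Z ⊓ P) inf_le_right x.2 ⟨by rw [autFun_coe]; exact h1,
    Subgroup.mul_mem _ (Subgroup.inv_mem _ x.2) (autFun_mem β x.2)⟩ fun y hy => fix_of_isCentral hZ hpp.map hy.2 hy.1
  rw [autFun_coe] at h2
  rw [h2, inv_mul_cancel]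
  exact Subgroup.one_mem _

theorem normal_top_of_hyp [Finite S] [Fact p.Prime] (hS : IsPGroup p S) (hF : F.IsSaturated p)
    (h : F.hyperfocalSubgroup p = ⊥) : F.IsNormal S := by
  have h1 := Cfsg.Agent.Lib.FusionInner.isInner_iff.1 (Cfsg.Agent.Lib.FusionInner.isInner_of_hyp_eq_bot hS hF h)
  rw [isNormal_iff]
  refine ⟨le_rfl, fun P f hf => ?_⟩
  obtain ⟨s, hs, h2⟩ := h1 P f hf
  refine ⟨fun x => s * x * s⁻¹, fmap_conj F (sup_le hf.le le_rfl) hs, fun x hx => (h2 x hx).symm,
    fiso_conj_of_normalizer F le_rfl hs (Subgroup.le_normalizer hs)⟩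

/-- A nonconstrained system all of whose proper normal subsystems are constrained is quasisimple. -/
theorem quasisimple_of_min [Finite S] [Fact p.Prime] (hS : IsPGroup p S) (hF : F.IsSaturated p)
    (hnc : ¬ F.IsConstrained p) (hmin : ∀ (U : Subgroup Ω) (D : FusionSystem U), D.IsNormalIn F p → ¬ Same D F →
      D.IsConstrained p) : F.Quasisimple p := by
  rw [constrained_iff_core hF] at hnc
  have hRn : F.IsNormal F.core := isNormal_core F
  -- the centralizer of the core
  obtain ⟨G, hG, hGc⟩ := exists_cent hS (inner_isNormalIn hS hF hRn)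
  have hGF : Same G F := by
    by_contra hs
    refine hnc (fun x hx => le_core_of_constrained hS hG (hmin _ G hG hs) (fun u hu r hr => ?_) (le_cenS (cen_inner hRn.1) hx))
    exact mem_centralizer_iff'.1 (cenS_le hu).2 r hr
  have hRc : F.IsCentral F.core := by
    refine central_of_fix hS hF hRn.1 fun P f hf x hx hxR => ?_
    have hf' : FMap G P f := hom_subset_iff_fmap.1 (hGF.2 P).ge f hf
    obtain ⟨g, -, h1, h2⟩ := hGc.2 P f hf'
    rw [← h1 x hx, h2 x hxR]
  have hcom : ∀ u ∈ S, ∀ r ∈ F.core, u * r * u⁻¹ = r := fun u hu r hr =>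
    fix_of_isCentral hRc (fmap_conj F le_rfl hu) (hRn.1 hr) hr
  have hZ : F.center = F.core := by
    refine le_antisymm ?_ (le_sSup hRc)
    have h1 := isCentral_center F
    refine le_sSup (isNormal_of_abelian_stronglyClosed hS hF (central_closed h1) fun x hx y hy => ?_)
    have h2 := fix_of_isCentral h1 (fmap_conj F le_rfl (h1.1 hx)) (h1.1 hy) hy
    have h3 : x * y * x⁻¹ = y := h2
    rw [← mul_inv_eq_iff_eq_mul]; exact h3
  have hSR : ¬ S ≤ F.core := fun h => hnc ((centralizerIn_le _ _).trans h)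
  have hprop : ∀ (U : Subgroup Ω) (D : FusionSystem U), D.IsNormalIn F p → ¬ Same D F → U ≤ F.core := fun U D hD hs =>
    le_core_of_constrained hS hD (hmin U D hD hs) fun u hu r hr => hcom u ((isNormalIn_iff.1 hD).2.2.1.closed.1 hu) r hr
  refine ⟨hF, ?_, fun E' hE' => ?_⟩
  · obtain ⟨D, hD, -, -⟩ := oP_normal hS (isNormalIn_self hF)
    by_cases hs : Same D F
    · exact hs.1
    · exfalso
      have h1 := hprop _ D hD hs
      exact hSR (le_sSup (normal_top_of_hyp hS hF (hyp_eq_bot_of_central hS hRc h1)))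
  · have hcl := central_closed (isCentral_center F)
    have hθ := hE'.2.1
    refine ⟨isSaturated_factor hS hF hcl hE', fun h => ?_, fun T' E'' hE'' => ?_⟩
    · refine hSR fun s hs => ?_
      rw [← hZ, ← hθ ⟨s, hs⟩]
      have h1 : QuotientGroup.mk' ((F.center).subgroupOf S) ⟨s, hs⟩ ∈ (⊤ : Subgroup (S ⧸ (F.center).subgroupOf S)) :=
        Subgroup.mem_top _
      rw [h] at h1
      exact Subgroup.mem_bot.1 h1
    · obtain ⟨hs'', -, hi'', hx''⟩ := isNormalIn_iff.1 hE''
      let D : Dat p F F.center (QuotientGroup.mk' ((F.center).subgroupOf S)) E' E'' :=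
        ⟨hS, hF, isCentral_center F, hE', hs'', hi'', hx''⟩
      by_cases hs : Same (pullSys D) F
      · exact Or.inr (pull_whole D hs.1 hs.2)
      · left
        have h1 := hprop _ _ (pull_normal D) hs
        rw [eq_bot_iff]
        intro y hy
        obtain ⟨x, hx, rfl⟩ := exists_ev D.hrange (D.hE.closed.1 hy)
        have h2 := h1 (mem_pre.2 ⟨hx, hy⟩)
        rw [← hZ] at h2
        rw [Subgroup.mem_bot, ev_eq_one_iff hθ hx]
        exact h2

theorem exists_comp [Fact p.Prime] : ∀ (n : ℕ) {S : Subgroup Ω} [Finite S] (_ : IsPGroup p S) (F : FusionSystem S),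
    F.IsSaturated p → mu F = n → ¬ F.IsConstrained p → ∃ (T : Subgroup Ω) (C : FusionSystem T), C.IsComponentIn F p := by
  intro n
  induction n using Nat.strong_induction_on with
  | _ n ih =>
    intro S _ hS F hF hn hnc
    by_cases h : ∀ (U : Subgroup Ω) (D : FusionSystem U), D.IsNormalIn F p → ¬ Same D F → D.IsConstrained p
    · exact ⟨S, F, IsSubnormalIn.refl F p, quasisimple_of_min hS hF hnc h⟩
    · push Not at h
      obtain ⟨U, D, hD, hs, hDc⟩ := h
      have hi := (isNormalIn_iff.1 hD).2.2.1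
      have hUfin : Finite U := finite_of_le hi.closed.1
      obtain ⟨T, C, hC⟩ := ih _ (hn ▸ mu_lt hi.sub hs) (isPGroup_of_le hS hi.closed.1) D (isNormalIn_iff.1 hD).1 rfl hDc
      exact ⟨T, C, comp_of_sub hD hC⟩

theorem no_comp [Finite S] [Fact p.Prime] (hS : IsPGroup p S) (hF : F.IsSaturated p) (hc : F.IsConstrained p) :
    ¬ ∃ (T : Subgroup Ω) (C : FusionSystem T), C.IsComponentIn F p := by
  rintro ⟨T, C, hC⟩
  have h1 := (constrained_iff_core hF).1 hc
  have h2 := perp_core hS hF hC (isNormal_core F)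
  have hs := sub_le (subnormal_sub hC.1)
  have hTfin : Finite T := finite_of_le hs
  have h3 : T ≤ F.core := fun x hx => h1 ⟨hs hx, mem_centralizer_iff'.2 fun y hy => by
    have h4 := mem_centralizer_iff'.1 (h2.1.1 hy).2 x hx
    calc x * y * x⁻¹ = (y * x * y⁻¹) * y * x⁻¹ := by rw [h4]
      _ = y := by group⟩
  refine not_self_cent (isPGroup_of_le hS hs) hC.2 fun x hx y hy => ?_
  exact mem_centralizer_iff'.1 (h2.1.1 (h3 hx)).2 y hy

/-- A saturated system is constrained if and only if it has no component. -/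
theorem constrained_iff [Finite S] [Fact p.Prime] (hS : IsPGroup p S) (hF : F.IsSaturated p) :
    F.IsConstrained p ↔ ¬ ∃ (T : Subgroup Ω) (C : FusionSystem T), C.IsComponentIn F p := by
  refine ⟨no_comp hS hF, fun h => ?_⟩
  by_contra hnc
  exact h (exists_comp _ hS F hF rfl hnc)

/-! ### The generalized Fitting subsystem -/

/-- the centralizer of a normal subsystem containing the layer lies in `O_p(F)` -/
theorem cenS_le_core [Finite S] [Fact p.Prime] (hS : IsPGroup p S) (hD : D.IsNormalIn F p) (hcore : F.core ≤ U)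
    (hcomp : ∀ (K : Subgroup Ω) (C : FusionSystem K), C.IsComponentIn F p → K ≤ U) : cenS F D ≤ F.core := by
  obtain ⟨hDs, hF, hDi, hDx⟩ := isNormalIn_iff.1 hD
  obtain ⟨G, hG, hGc⟩ := exists_cent hS hD
  have hle : cenS F D ≤ centralizerIn S U := cenS_le
  have hGS : cenS F D ≤ S := hle.trans (centralizerIn_le S U)
  have hGfin : Finite ↥(cenS F D) := finite_of_le hGS
  have hGcons : G.IsConstrained p := by
    rw [constrained_iff (isPGroup_of_le hS hGS) (isNormalIn_iff.1 hG).1]
    rintro ⟨K, C, hC⟩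
    have hCF := comp_of_sub hG hC
    have hKU := hcomp K C hCF
    have hKG := sub_le (subnormal_sub hC.1)
    have hKfin : Finite K := finite_of_le (hKG.trans hGS)
    refine not_self_cent (isPGroup_of_le hS (hKG.trans hGS)) hC.2 fun x hx y hy => ?_
    exact mem_centralizer_iff'.1 (hle (hKG hx)).2 y (hKU hy)
  exact le_core_of_constrained hS hG hGcons fun u hu r hr => mem_centralizer_iff'.1 (hle hu).2 r (hcore hr)

theorem gf_self [Finite S] [Fact p.Prime] (hS : IsPGroup p S) (hF : F.IsSaturated p)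
    (hD : D.IsGeneralizedFittingOf F p) : (D.center ≤ centralizerIn S U ∧ ∀ P : Subgroup Ω, D.Hom P ⊆ F.centralizerHom D.center P) ∧
      ∀ Y : Subgroup Ω, Y ≤ centralizerIn S U → (∀ P : Subgroup Ω, D.Hom P ⊆ F.centralizerHom Y P) → Y ≤ D.center := by
  obtain ⟨T, E, hL, hcp, hDs, hDn⟩ := gf_data hS hF hD
  obtain ⟨-, -, hDi, hDx⟩ := isNormalIn_iff.1 hDn
  have hUS : U ≤ S := hDi.closed.1
  have hUfin : Finite U := finite_of_le hUS
  refine ⟨(cen_iff hUS).1 ?_, fun Y hY h => ?_⟩
  · have hc := isCentral_center D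
    refine ⟨fun z hz => ⟨hUS (hc.1 hz), mem_centralizer_iff'.2 fun u hu => ?_⟩, fun P f hf => ?_⟩
    · have h1 : u * z * u⁻¹ = z := fix_of_isCentral hc (fmap_conj D le_rfl hu) (hc.1 hz) hz
      calc z * u * z⁻¹ = (u * z * u⁻¹) * u * z⁻¹ := by rw [h1]
        _ = u := by group
    · obtain ⟨g, hg, h1, h2⟩ := ((isCentral_iff D).1 hc).2 P f hf
      exact ⟨g, sub_fmap hDi.sub hg, h1, h2⟩
  · have hY' : Y ≤ cenS F D := le_cenS ((cen_iff hUS).2 ⟨hY, h⟩)
    have hcore : F.core ≤ U := hcp.le1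
    have h1 : cenS F D ≤ F.core := cenS_le_core hS hDn hcore fun K C hC =>
      (sub_le (hL.2.1 K C hC)).trans hcp.le2
    have h2 : D.IsCentral Y := central_of_cen hS hDs hUS (cenS_cen hS hF hDs hDi hDx) (hY'.trans (h1.trans hcore)) hY'
    exact le_sSup h2

theorem fmap_bot_id (hP : P ≤ ⊥) (hf : FMap F P f) : ∀ x ∈ P, f x = x := fun x hx => by
  have h1 := Subgroup.mem_bot.1 (hP hx)
  rw [h1, hf.map_one]

theorem constrained_iff_gf [Finite S] [Fact p.Prime] (hS : IsPGroup p S) (hF : F.IsSaturated p) :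
    F.IsConstrained p ↔ (innerFusionSystem F.core).IsGeneralizedFittingOf F p := by
  constructor
  · intro h
    have hno := no_comp hS hF h
    obtain ⟨U, D, hD⟩ := gf_exists hS hF
    obtain ⟨T, E, hL, hcp, hDs, hDn⟩ := gf_data hS hF hD
    have hT : T ≤ ⊥ := sub_le (hL.2.2 ⊥ (innerFusionSystem ⊥) (inner_isNormalIn hS hF (isNormal_bot F))
      fun V C hC => (hno ⟨V, C, hC⟩).elim)
    have hU : U = F.core := by
      rw [hcp.top, sup_eq_left]
      exact hT.trans bot_le
    subst hU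
    have hfin : Finite F.core := finite_of_le (isNormal_core F).1
    have hDe : D = innerFusionSystem F.core := Cfsg.Agent.Lib.FusionMove.fs_ext fun P f => by
      constructor
      · intro hf
        exact (hcp.fmap1 hf.le).1 hf
      · intro hf
        exact (hcp.fmap1 hf.le).2 hf
    rw [← hDe]; exact hD
  · intro h
    rw [constrained_iff hS hF]
    rintro ⟨K, C, hC⟩
    have hn := gf_comp hS hF h hC
    have hs := (isNormalIn_iff.1 hn).2.2.1.sub
    have hQS : F.core ≤ S := (isNormal_core F).1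
    have hQfin : Finite F.core := finite_of_le hQS
    have hKfin : Finite K := finite_of_le ((sub_le hs).trans hQS)
    have h1 := hyperfocal_mono (p := p) hs
    rw [component_hyp hC.2, Cfsg.Agent.Lib.FusionInner.inner_hyp (isPGroup_of_le hS hQS)] at h1
    refine not_self_cent (isPGroup_of_le hS ((sub_le hs).trans hQS)) hC.2 fun x hx y hy => ?_
    rw [Subgroup.mem_bot.1 (h1 hx), Subgroup.mem_bot.1 (h1 hy)]
    group

end Cfsg.Agent.Lib.FusionConsComp
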