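import Cfsg.Agent.Lib.FusionTools

/-! The saturation criterion of Broto-Castellana-Grodal-Levi-Oliver. -/

set_option autoImplicit false
open Cfsg Cfsg.FusionSystem Cfsg.Agent.Lib.FusionBasic Cfsg.Agent.Lib.FusionSat Cfsg.Agent.Lib.FusionTools

namespace Cfsg.Agent.Lib.FusionCriterion

variable {Ω : Type*} [Group Ω] {S : Subgroup Ω} {F : FusionSystem S} {P Q Q' R R' M : Subgroup Ω} {e f g : Ω → Ω} {p : ℕ}

/-- fully automized and receptive -/
def Good (F : FusionSystem S) (p : ℕ) (Q : Subgroup Ω) : Prop := F.IsFullyAutomized p Q ∧ F.IsReceptive Q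

/-- `Q` admits a map `N_S(Q) → S` carrying `Q` onto `P`. -/
def InX (F : FusionSystem S) (P Q : Subgroup Ω) : Prop := ∃ f : Ω → Ω, FMap F (normalizerIn S Q) f ∧ FIso F Q P f

/-- all larger subgroups have good conjugates -/
def Big (F : FusionSystem S) (p : ℕ) (P : Subgroup Ω) : Prop :=
  ∀ R : Subgroup Ω, R ≤ S → Nat.card P < Nat.card R → ∃ R', F.IsConj R R' ∧ Good F p R'

theorem card_lt_of_lt [Finite S] (hQ : Q ≤ S) (h : P < Q) : Nat.card P < Nat.card Q := by
  have := finite_of_le hQ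
  rcases (Subgroup.card_le_of_le h.le).lt_or_eq with h' | h'
  · exact h'
  · exact absurd (Subgroup.eq_of_le_of_card_ge h.le h'.ge) h.ne

theorem map_normalizer_mem (hfR : FMap F R f) (hQR : Q ≤ R) (hQ : FIso F Q Q' f) {x : Ω} (hx : x ∈ R)
    (hxN : x ∈ Subgroup.normalizer (Q : Set Ω)) : f x ∈ normalizerIn S Q' :=
  mem_normalizerIn.2 ⟨hfR.map_mem hx, mem_normalizer_of_transport hQ hxN (fun _ hy => hfR.map_conj hx (hQR hy))⟩

section

variable [Fact p.Prime] [Finite S]

/-- Key lemma for step A. -/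
theorem inX_key (hS : IsPGroup p S) (hP : F.IsFullyNormalized P) (hbig : Big F p P) {R Q : Subgroup Ω} {α : Ω → Ω}
    (hQR : Q < R) (hRN : R ≤ normalizerIn S Q) (hα : FMap F R α) (hQ : FIso F Q P α) : InX F P Q := by
  obtain ⟨n, hn⟩ : ∃ n, n = Nat.card S - Nat.card R := ⟨_, rfl⟩
  induction n using Nat.strong_induction_on generalizing R Q α with
  | _ n ih =>
    by_contra hQX
    have hQS := hQ.le_left
    have hPS := hQ.le_right
    have hRS : R ≤ S := hα.le
    have hfinR := finite_of_le hRS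
    have hRlt : R < normalizerIn S Q := by
      refine lt_of_le_of_ne hRN (fun h => hQX ⟨α, ?_, hQ⟩)
      rw [← h]; exact hα
    have hcardQ : Nat.card Q = Nat.card P := hQ.card_eq
    have hcardR : Nat.card P < Nat.card R := hcardQ ▸ card_lt_of_lt hRS hQR
    -- the image of R
    obtain ⟨R', hR'⟩ := hα.exists_iso
    have hR'S := hR'.le_right
    have hPR' : P ≤ R' := by
      intro y hy
      obtain ⟨x, hx, rfl⟩ := (hQ.2 y).1 hy
      exact hR'.mem (hQR.le hx)
    have hR'N : R' ≤ normalizerIn S P := by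
      intro y hy
      obtain ⟨x, hx, rfl⟩ := (hR'.2 y).1 hy
      exact map_normalizer_mem hα hQR.le hQ hx (hRN hx).2
    obtain ⟨Rg, hRRg, hg1, hg2⟩ := hbig R hRS hcardR
    obtain ⟨e₂, he₂⟩ := isConj_iff_fiso.1 (isConj_trans (isConj_symm hR'.isConj) hRRg)
    have he₁ := hR'.trans he₂
    have hRgS := he₂.le_right
    have hfinRg := finite_of_le hRgS
    obtain ⟨P₁, hP₁⟩ := (he₂.1.restrict hPR').exists_iso
    have hP₁Rg : P₁ ≤ Rg := by
      intro y hy
      obtain ⟨x, hx, rfl⟩ := (hP₁.2 y).1 hy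
      exact he₂.mem (hPR' hx)
    have heP : ∀ x ∈ P, e₂ x ∈ Rg := fun x hx => he₂.mem (hPR' hx)
    -- the stabilizer of P₁
    set L : Subgroup (MulAut Rg) := actLike F Rg P e₂ heP ⊤ with hL
    set K₁ : Subgroup (MulAut Rg) := (autInducedBy (normalizerIn S Q) R).map he₁.autEquiv.toMonoidHom with hK₁
    set K₂ : Subgroup (MulAut Rg) := (autInducedBy (normalizerIn S P) R').map he₂.autEquiv.toMonoidHom with hK₂
    have hK₂L : K₂ ≤ L := by
      rintro _ ⟨κ, hκ, rfl⟩
      obtain ⟨t, ht, hκt⟩ := mem_autInducedBy_iff.1 hκ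
      have htR := mem_normalizer_of_aut hκt
      refine ⟨?_, conjAut P t ht.2, trivial, fun x hx => ?_⟩
      · rw [← he₂.map_autGroup]
        exact ⟨κ, autInducedBy_le_autGroup hR'S (normalizerIn_le S P) hκ, rfl⟩
      · have hκ' : κ = conjAut R' t htR := by
          apply MulEquiv.ext
          intro y
          apply Subtype.ext
          rw [hκt y, conjAut_apply]
        show autFun (he₂.autEquiv κ) (e₂ x) = _
        rw [hκ', autEquiv_conjAut_apply he₂ htR (hPR' hx), autFun_of_mem _ hx, conjAut_apply]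
    have hK₁L : K₁ ≤ L := by
      rintro _ ⟨κ, hκ, rfl⟩
      obtain ⟨t, ht, hκt⟩ := mem_autInducedBy_iff.1 hκ
      have htR := mem_normalizer_of_aut hκt
      refine ⟨?_, hQ.autEquiv (conjAut Q t ht.2), trivial, fun x hx => ?_⟩
      · rw [← he₁.map_autGroup]
        exact ⟨κ, autInducedBy_le_autGroup hRS (normalizerIn_le S Q) hκ, rfl⟩
      · have hκ' : κ = conjAut R t htR := by
          apply MulEquiv.ext
          intro y
          apply Subtype.ext
          rw [hκt y, conjAut_apply]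
        obtain ⟨z, hz, rfl⟩ := (hQ.2 x).1 hx
        show autFun (he₁.autEquiv κ) ((fun x => e₂ (α x)) z) = _
        rw [hκ', autEquiv_conjAut_apply he₁ htR (hQR.le hz), autEquiv_conjAut_apply hQ ht.2 hz]
    have hK₁p : IsPGroup p K₁ := (isPGroup_autInducedBy hS (normalizerIn_le S Q)).map _
    have hK₂p : IsPGroup p K₂ := (isPGroup_autInducedBy hS (normalizerIn_le S P)).map _
    obtain ⟨T, hTL, hTp, hK₁T, -, a, haL, haK⟩ := exists_sylow_pair (p := p) L L K₁ K₂
      (fun l hl n hn => L.mul_mem (L.mul_mem hl hn) (L.inv_mem hl)) (fun l hl => ⟨0, by simpa using hl⟩) hK₁L hK₁p hK₂L hK₂p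
    obtain ⟨ξ, hξ, hξT⟩ := exists_conj_le_autInducedBy hg1 T (hTL.trans (actLike_le F heP ⊤)) hTp
    have hξF : FIso F Rg Rg (autFun ξ) := (fiso_autFun_iff hRgS).2 hξ
    have haF : FIso F Rg Rg (autFun a) := (fiso_autFun_iff hRgS).2 haL.1
    -- the extension σ
    have hσ0 := he₁.trans hξF
    obtain ⟨σ, hσ, hσe⟩ := extend_sup (M := normalizerIn (normalizerIn S Q) R) hg2 hσ0
      (fun x hx => mem_normalizerIn.2 ⟨(hx.1).1, hx.2⟩) (by
        intro t ht
        apply transport_of_conj_mem he₁ ξ ht.2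
        apply hξT
        apply hK₁T
        exact ⟨_, conjAut_mem_autInducedBy ht.2 ht.1, rfl⟩)
    -- the extension τ
    have hτ0 := (he₂.trans haF).trans hξF
    obtain ⟨τ, hτ, hτe⟩ := extend_sup (M := normalizerIn (normalizerIn S P) R') hg2 hτ0
      (fun x hx => mem_normalizerIn.2 ⟨(hx.1).1, hx.2⟩) (by
        intro t ht
        have h1 := transport_of_conj_mem he₂ (ξ * a) ht.2 (by
          have h2 := hξT _ (haK (he₂.autEquiv (conjAut R' t ht.2)) ⟨_, conjAut_mem_autInducedBy ht.2 ht.1, rfl⟩)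
          have h3 : ξ * a * he₂.autEquiv (conjAut R' t ht.2) * (ξ * a)⁻¹ =
              ξ * (a * he₂.autEquiv (conjAut R' t ht.2) * a⁻¹) * ξ⁻¹ := by group
          rw [h3]
          exact h2)
        obtain ⟨s, hs, h4⟩ := h1
        refine ⟨s, hs, fun x hx => ?_⟩
        have hx' : t * x * t⁻¹ ∈ R' := (Subgroup.mem_normalizer_iff.1 ht.2 x).1 hx
        have h5 := h4 x hx
        rw [autFun_mul _ _ (he₂.mem hx), autFun_mul _ _ (he₂.mem hx')] at h5
        exact h5)
    -- the images of Q and P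
    have haP₁ : FIso F P₁ P₁ (autFun a) := by
      obtain ⟨o, -, ho⟩ := haL.2
      refine ⟨haF.1.restrict hP₁Rg, fun y => ?_⟩
      constructor
      · intro hy
        obtain ⟨x, hx, rfl⟩ := (hP₁.2 y).1 hy
        refine ⟨e₂ (autFun o⁻¹ x), hP₁.mem (autFun_mem _ hx), ?_⟩
        rw [ho _ (autFun_mem _ hx), autFun_apply_inv o hx]
      · rintro ⟨z, hz, rfl⟩
        obtain ⟨x, hx, rfl⟩ := (hP₁.2 z).1 hz
        rw [ho x hx]
        exact hP₁.mem (autFun_mem _ hx)
    obtain ⟨Q₂, hQ₂⟩ := (hξF.1.restrict hP₁Rg).exists_iso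
    have hσQ : FIso F Q Q₂ σ := ((hQ.trans hP₁).trans hQ₂).congr (fun x hx => (hσe x (hQR.le hx)).symm)
    have hτP : FIso F P Q₂ τ := ((hP₁.trans haP₁).trans hQ₂).congr (fun x hx => (hτe x (hPR' hx)).symm)
    -- R < R ⊔ M
    have hMlt : R < R ⊔ normalizerIn (normalizerIn S Q) R := by
      have h1 := lt_normalizerIn hS (normalizerIn_le S Q) hRlt
      exact h1.trans_le le_sup_right
    have hMN : R ⊔ normalizerIn (normalizerIn S Q) R ≤ normalizerIn S Q := sup_le hRN inf_le_left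
    have hM'N : R' ⊔ normalizerIn (normalizerIn S P) R' ≤ normalizerIn S P := sup_le hR'N inf_le_left
    have hcR : Nat.card R ≤ Nat.card S := Subgroup.card_le_of_le hRS
    -- Q₂ is not in X
    have hQ₂X : ¬ InX F P Q₂ := by
      rintro ⟨ρ, hρ, hρQ₂⟩
      have h1 : FMap F (R ⊔ normalizerIn (normalizerIn S Q) R) (fun x => ρ (σ x)) :=
        hσ.comp hρ (fun x hx => map_normalizer_mem hσ (hQR.le.trans le_sup_left) hσQ hx (hMN hx).2)
      have hlt := card_lt_of_lt hσ.le hMlt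
      have hle : Nat.card (R ⊔ normalizerIn (normalizerIn S Q) R : Subgroup Ω) ≤ Nat.card S := Subgroup.card_le_of_le hσ.le
      exact hQX (ih _ (by omega) (hQR.trans_le le_sup_left) hMN h1 (hσQ.trans hρQ₂) rfl)
    -- hence R' = N_S(P)
    have hR'eq : R' = normalizerIn S P := by
      by_contra hne
      have hlt' : R' < normalizerIn S P := lt_of_le_of_ne hR'N hne
      have h1 := lt_normalizerIn hS (normalizerIn_le S P) hlt'
      have h2 : R' < R' ⊔ normalizerIn (normalizerIn S P) R' := h1.trans_le le_sup_right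
      obtain ⟨M'', hM''⟩ := hτ.exists_iso
      obtain ⟨τ', hτ', hτ'1, hτ'2⟩ := hM''.symm
      have hQ₂M'' : Q₂ < M'' := by
        refine lt_of_le_of_ne ?_ ?_
        · intro y hy
          obtain ⟨x, hx, rfl⟩ := (hτP.2 y).1 hy
          exact hM''.mem (Subgroup.mem_sup_left (hPR' hx))
        · intro h
          have h3 : Nat.card Q₂ = Nat.card (R' ⊔ normalizerIn (normalizerIn S P) R' : Subgroup Ω) := by
            rw [h]; exact hM''.card_eq.symm
          have h4 := card_lt_of_lt hτ.le h2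
          have h5 := hτP.card_eq
          have h6 := hR'.card_eq
          omega
      have hM''N : M'' ≤ normalizerIn S Q₂ := by
        intro y hy
        obtain ⟨x, hx, rfl⟩ := (hM''.2 y).1 hy
        exact map_normalizer_mem hτ (hPR'.trans le_sup_left) hτP hx (hM'N hx).2
      have hτ'Q₂ : FIso F Q₂ P τ' := by
        refine ⟨hτ'.1.restrict hQ₂M''.le, fun y => ?_⟩
        constructor
        · intro hy
          exact ⟨τ y, hτP.mem hy, hτ'1 y (Subgroup.mem_sup_left (hPR' hy))⟩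
        · rintro ⟨z, hz, rfl⟩
          obtain ⟨x, hx, rfl⟩ := (hτP.2 z).1 hz
          rw [hτ'1 x (Subgroup.mem_sup_left (hPR' hx))]
          exact hx
      have hlt := card_lt_of_lt hτ.le h2
      have h3 := hM''.card_eq
      have h4 := hR'.card_eq
      have h5 : Nat.card M'' ≤ Nat.card S := Subgroup.card_le_of_le hM''.le_right
      exact hQ₂X (ih _ (by omega) hQ₂M'' hM''N hτ'.1 hτ'Q₂ rfl)
    have h1 := hP.2 Q (isConj_symm hQ.isConj)
    have h2 := card_lt_of_lt (normalizerIn_le S Q) hRlt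
    have h3 := hR'.card_eq
    rw [hR'eq] at h3
    omega

theorem inX_step (hS : IsPGroup p S) (hP : F.IsFullyNormalized P) (hbig : Big F p P) (hX : InX F P Q) (hQR : Q < R)
    (hf : FMap F R f) (hQ : FIso F Q Q' f) : InX F P Q' := by
  obtain ⟨ρ, hρ, hρQ⟩ := hX
  have h1 := lt_normalizerIn hS hf.le hQR
  have hle : normalizerIn R Q ≤ R := inf_le_left
  obtain ⟨R₁, hR₁⟩ := (hf.restrict hle).exists_iso
  obtain ⟨f', hf', hf'1, hf'2⟩ := hR₁.symm
  have hQ'R₁ : Q' < R₁ := by
    refine lt_of_le_of_ne ?_ ?_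
    · intro y hy
      obtain ⟨x, hx, rfl⟩ := (hQ.2 y).1 hy
      exact hR₁.mem (h1.le hx)
    · intro h
      have h3 := hR₁.card_eq
      rw [← h, ← hQ.card_eq] at h3
      have h4 := card_lt_of_lt (hle.trans hf.le) h1
      omega
  have hR₁N : R₁ ≤ normalizerIn S Q' := by
    intro y hy
    obtain ⟨x, hx, rfl⟩ := (hR₁.2 y).1 hy
    exact map_normalizer_mem hf hQR.le hQ hx.1 hx.2
  have hf'Q : FIso F Q' Q f' := by
    refine ⟨hf'.1.restrict hQ'R₁.le, fun y => ?_⟩
    constructor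
    · intro hy
      exact ⟨f y, hQ.mem hy, hf'1 y (h1.le hy)⟩
    · rintro ⟨z, hz, rfl⟩
      obtain ⟨x, hx, rfl⟩ := (hQ.2 z).1 hz
      rw [hf'1 x (h1.le hx)]
      exact hx
  exact inX_key hS hP hbig hQ'R₁ hR₁N (hf'.1.comp hρ (fun x hx => by
    have h2 := hf'.mem hx
    exact mem_normalizerIn.2 ⟨hf.le h2.1, h2.2⟩)) (hf'Q.trans hρQ)

end

/-! ### Compositions of restrictions of maps from larger subgroups -/

inductive Comp (F : FusionSystem S) : Subgroup Ω → Subgroup Ω → (Ω → Ω) → Prop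
  | step {Q Q' R : Subgroup Ω} {f : Ω → Ω} : Q < R → FMap F R f → FIso F Q Q' f → Comp F Q Q' f
  | trans {Q Q' Q'' : Subgroup Ω} {f g : Ω → Ω} : Comp F Q Q' f → Comp F Q' Q'' g → Comp F Q Q'' (fun x => g (f x))
  | congr {Q Q' : Subgroup Ω} {f g : Ω → Ω} : Comp F Q Q' f → (∀ x ∈ Q, f x = g x) → Comp F Q Q' g

theorem Comp.fiso (h : Comp F Q Q' f) : FIso F Q Q' f := by
  induction h with
  | step _ _ h => exact h
  | trans _ _ h1 h2 => exact h1.trans h2
  | congr _ h1 h2 => exact h2.congr h1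

theorem Comp.symm [Finite S] (h : Comp F Q Q' f) : ∃ g : Ω → Ω, Comp F Q' Q g ∧ (∀ x ∈ Q, g (f x) = x) := by
  induction h with
  | @step Q Q' R f h1 h2 h3 =>
    obtain ⟨R', hR'⟩ := h2.exists_iso
    obtain ⟨g, hg, hg1, hg2⟩ := hR'.symm
    refine ⟨g, Comp.step (R := R') ?_ hg.1 ?_, fun x hx => hg1 x (h1.le hx)⟩
    · refine lt_of_le_of_ne ?_ ?_
      · intro y hy
        obtain ⟨x, hx, rfl⟩ := (h3.2 y).1 hy
        exact hR'.mem (h1.le hx)
      · intro h
        have h4 := hR'.card_eq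
        rw [← h, ← h3.card_eq] at h4
        have h5 := card_lt_of_lt h2.le h1
        omega
    · refine ⟨hg.1.restrict ?_, fun y => ?_⟩
      · intro y hy
        obtain ⟨x, hx, rfl⟩ := (h3.2 y).1 hy
        exact hR'.mem (h1.le hx)
      constructor
      · intro hy
        exact ⟨f y, h3.mem hy, hg1 y (h1.le hy)⟩
      · rintro ⟨z, hz, rfl⟩
        obtain ⟨x, hx, rfl⟩ := (h3.2 z).1 hz
        rw [hg1 x (h1.le hx)]
        exact hx
  | @trans Q Q' Q'' f g h1 h2 ih1 ih2 =>
    obtain ⟨f', hf', hf'1⟩ := ih1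
    obtain ⟨g', hg', hg'1⟩ := ih2
    refine ⟨fun x => f' (g' x), Comp.trans hg' hf', fun x hx => ?_⟩
    show f' (g' (g (f x))) = x
    rw [hg'1 _ (h1.fiso.mem hx), hf'1 x hx]
  | @congr Q Q' f g h1 h2 ih =>
    obtain ⟨f', hf', hf'1⟩ := ih
    exact ⟨f', hf', fun x hx => by rw [← h2 x hx, hf'1 x hx]⟩

theorem inX_of_comp [Fact p.Prime] [Finite S] (hS : IsPGroup p S) (hP : F.IsFullyNormalized P) (hbig : Big F p P)
    (h : Comp F Q Q' f) : InX F P Q → InX F P Q' := by
  induction h with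
  | step h1 h2 h3 => exact fun hX => inX_step hS hP hbig hX h1 h2 h3
  | trans _ _ h1 h2 => exact fun hX => h2 (h1 hX)
  | congr _ _ h => exact h

theorem inX_self [Finite S] (hP : P ≤ S) : InX F P P :=
  ⟨fun x => x, fmap_id F (normalizerIn_le S P), FIso.refl F hP⟩

end Cfsg.Agent.Lib.FusionCriterion
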