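import Cfsg.Agent.Lib.FusionCriterion
import Cfsg.Agent.Lib.LocBase

/-! The saturation criterion of Broto-Castellana-Grodal-Levi-Oliver, second part. -/

set_option autoImplicit false
open Cfsg Cfsg.FusionSystem Cfsg.Agent.Lib.FusionBasic Cfsg.Agent.Lib.FusionSat Cfsg.Agent.Lib.FusionTools
open Cfsg.Agent.Lib.FusionCriterion

namespace Cfsg.Agent.Lib.FusionCriterion2

variable {Ω : Type*} [Group Ω] {S : Subgroup Ω} {F : FusionSystem S} {P Q Q' R R' M : Subgroup Ω} {e f g : Ω → Ω} {p : ℕ}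

section

variable [Fact p.Prime] [Finite S]

/-- Key lemma for step B: an automorphism of `P` that extends to some `R > P` extends to `R₀ = N_S^O(P)`. -/
theorem ext_key (hS : IsPGroup p S) (hP : F.IsFullyNormalized P) (hbig : Big F p P)
    (hX : ∀ Q, F.IsConj P Q → InX F P Q) (O : Subgroup (MulAut P)) (hOp : IsPGroup p O)
    (hOn : ∀ χ ∈ F.autGroup P, ∀ o ∈ O, χ * o * χ⁻¹ ∈ O) (hPR₀ : P ≤ kNorm S P O) {R : Subgroup Ω} {h : Ω → Ω} (hPR : P < R)
    (hRN : R ≤ normalizerIn S P) (hh : FMap F R h) (hhP : FIso F P P h) :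
    ∃ k : Ω → Ω, FMap F (kNorm S P O) k ∧ ∀ x ∈ P, k x = h x := by
  obtain ⟨n, hn⟩ : ∃ n, n = Nat.card S - Nat.card R := ⟨_, rfl⟩
  induction n using Nat.strong_induction_on generalizing R h with
  | _ n ih =>
    by_cases hR₀R : kNorm S P O ≤ R
    · exact ⟨h, hh.restrict hR₀R, fun x _ => rfl⟩
    have hPS := hP.1
    have hRS : R ≤ S := hh.le
    have hR₀S : kNorm S P O ≤ S := (kNorm_le_normalizerIn S O).trans (normalizerIn_le S P)
    have hfinR := finite_of_le hRS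
    have hcardR : Nat.card P < Nat.card R := card_lt_of_lt hRS hPR
    obtain ⟨R', hR'⟩ := hh.exists_iso
    have hR'S := hR'.le_right
    have hPR' : P ≤ R' := by
      intro y hy
      obtain ⟨x, hx, rfl⟩ := (hhP.2 y).1 hy
      exact hR'.mem (hPR.le hx)
    have hPR'lt : P < R' := by
      refine lt_of_le_of_ne hPR' (fun heq => ?_)
      have := hR'.card_eq
      rw [← heq] at this
      omega
    have hR'N : R' ≤ normalizerIn S P := by
      intro y hy
      obtain ⟨x, hx, rfl⟩ := (hR'.2 y).1 hy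
      exact map_normalizer_mem hh hPR.le hhP hx (hRN hx).2
    obtain ⟨h', hh', hh'1, hh'2⟩ := hR'.symm
    have hh'P : FIso F P P h' := by
      refine ⟨hh'.1.restrict hPR', fun y => ?_⟩
      constructor
      · intro hy
        exact ⟨h y, hhP.mem hy, hh'1 y (hPR.le hy)⟩
      · rintro ⟨z, hz, rfl⟩
        obtain ⟨x, hx, rfl⟩ := (hhP.2 z).1 hz
        rw [hh'1 x (hPR.le hx)]
        exact hx
    -- `R₀` is not contained in `R'`
    have hR₀R' : ¬ kNorm S P O ≤ R' := by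
      intro hle
      apply hR₀R
      have hmap : ∀ x ∈ kNorm S P O, h' x ∈ kNorm S P O := fun x hx => kNorm_map hOn hh'.1 hPR' hh'P (hle hx) hx
      have hiso : FIso F (kNorm S P O) (kNorm S P O) h' := (hh'.1.restrict hle).fiso_of_card hR₀S hmap le_rfl
      intro y hy
      obtain ⟨x, hx, rfl⟩ := (hiso.2 y).1 hy
      exact hh'.mem (hle hx)
    obtain ⟨Rg, hRRg, hg1, hg2⟩ := hbig R hRS hcardR
    obtain ⟨e₂, he₂⟩ := isConj_iff_fiso.1 (isConj_trans (isConj_symm hR'.isConj) hRRg)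
    have he₁ := hR'.trans he₂
    have hRgS := he₂.le_right
    have hfinRg := finite_of_le hRgS
    obtain ⟨P₁, hP₁⟩ := (he₂.1.restrict hPR').exists_iso
    have hP₁Rg : P₁ ≤ Rg := by
      intro y hy
      obtain ⟨x, hx, rfl⟩ := (hP₁.2 y).1 hy
      exact he₂.mem (hPR' hx)
    have heP : ∀ x ∈ P, e₂ x ∈ Rg := fun x hx => he₂.mem (hPR' hx)
    set L : Subgroup (MulAut Rg) := actLike F Rg P e₂ heP O with hL
    set K₁ : Subgroup (MulAut Rg) := (autInducedBy (kNorm S P O) R).map he₁.autEquiv.toMonoidHom with hK₁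
    set K₂ : Subgroup (MulAut Rg) := (autInducedBy (kNorm S P O) R').map he₂.autEquiv.toMonoidHom with hK₂
    have hK₂L : K₂ ≤ L := by
      rintro _ ⟨κ, hκ, rfl⟩
      obtain ⟨t, ht, hκt⟩ := mem_autInducedBy_iff.1 hκ
      have htR := mem_normalizer_of_aut hκt
      have htP := (kNorm_le_normalizerIn S O ht).2
      refine ⟨?_, conjAut P t htP, conjAut_mem_of_kNorm ht htP, fun x hx => ?_⟩
      · rw [← he₂.map_autGroup]
        exact ⟨κ, autInducedBy_le_autGroup hR'S hR₀S hκ, rfl⟩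
      · have hκ' : κ = conjAut R' t htR := by
          apply MulEquiv.ext
          intro y
          apply Subtype.ext
          rw [hκt y, conjAut_apply]
        show autFun (he₂.autEquiv κ) (e₂ x) = _
        rw [hκ', autEquiv_conjAut_apply he₂ htR (hPR' hx), autFun_of_mem _ hx, conjAut_apply]
    have hK₁L : K₁ ≤ L := by
      rintro _ ⟨κ, hκ, rfl⟩
      obtain ⟨t, ht, hκt⟩ := mem_autInducedBy_iff.1 hκ
      have htR := mem_normalizer_of_aut hκt
      have htP := (kNorm_le_normalizerIn S O ht).2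
      refine ⟨?_, hhP.autEquiv (conjAut P t htP), ?_, fun x hx => ?_⟩
      · rw [← he₁.map_autGroup]
        exact ⟨κ, autInducedBy_le_autGroup hRS hR₀S hκ, rfl⟩
      · have h1 : hhP.autEquiv (conjAut P t htP) = hhP.equiv * conjAut P t htP * hhP.equiv⁻¹ := rfl
        rw [h1]
        exact hOn _ hhP.equiv_mem_autGroup _ (conjAut_mem_of_kNorm ht htP)
      · have hκ' : κ = conjAut R t htR := by
          apply MulEquiv.ext
          intro y
          apply Subtype.ext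
          rw [hκt y, conjAut_apply]
        obtain ⟨z, hz, rfl⟩ := (hhP.2 x).1 hx
        show autFun (he₁.autEquiv κ) ((fun x => e₂ (h x)) z) = _
        rw [hκ', autEquiv_conjAut_apply he₁ htR (hPR.le hz), autEquiv_conjAut_apply hhP htP hz]
    have hK₁p : IsPGroup p K₁ := (isPGroup_autInducedBy hS hR₀S).map _
    have hK₂p : IsPGroup p K₂ := (isPGroup_autInducedBy hS hR₀S).map _
    obtain ⟨T, hTL, hTp, hK₁T, -, a, haL, haK⟩ := exists_sylow_pair (p := p) L (actLike F Rg P e₂ heP ⊥) K₁ K₂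
      (fun l hl n hn => actLike_bot_normal hl hn) (fun l hl => actLike_pow hOp hl) hK₁L hK₁p hK₂L hK₂p
    obtain ⟨ξ, hξ, hξT⟩ := exists_conj_le_autInducedBy hg1 T (hTL.trans (actLike_le F heP O)) hTp
    have hξF : FIso F Rg Rg (autFun ξ) := (fiso_autFun_iff hRgS).2 hξ
    have haF : FIso F Rg Rg (autFun a) := (fiso_autFun_iff hRgS).2 haL.1
    have haP : ∀ x ∈ P, autFun a (e₂ x) = e₂ x := (mem_actLike_bot.1 haL).2
    have hσ0 := he₁.trans hξF
    obtain ⟨σ, hσ, hσe⟩ := extend_sup (M := normalizerIn (kNorm S P O) R) hg2 hσ0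
      (fun x hx => mem_normalizerIn.2 ⟨hR₀S hx.1, hx.2⟩) (by
        intro t ht
        apply transport_of_conj_mem he₁ ξ ht.2
        apply hξT
        apply hK₁T
        exact ⟨_, conjAut_mem_autInducedBy ht.2 ht.1, rfl⟩)
    have hτ0 := (he₂.trans haF).trans hξF
    obtain ⟨τ, hτ, hτe⟩ := extend_sup (M := normalizerIn (kNorm S P O) R') hg2 hτ0
      (fun x hx => mem_normalizerIn.2 ⟨hR₀S hx.1, hx.2⟩) (by
        intro t ht
        have h1 := transport_of_conj_mem he₂ (ξ * a) ht.2 (by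
          have h2 := hξT _ (haK (he₂.autEquiv (conjAut R' t ht.2)) ⟨_, conjAut_mem_autInducedBy ht.2 ht.1, rfl⟩)
          have h3 : ξ * a * he₂.autEquiv (conjAut R' t ht.2) * (ξ * a)⁻¹ =
              ξ * (a * he₂.autEquiv (conjAut R' t ht.2) * a⁻¹) * ξ⁻¹ := by group
          rw [h3]
          exact h2)
        obtain ⟨s, hs, h4⟩ := h1
        refine ⟨s, hs, fun x hx => ?_⟩
        have hx' : t * x * t⁻¹ ∈ R' := (Subgroup.mem_normalizer_iff.1 ht.2 x).1 hx
        have h5 := h4 x hx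
        rw [autFun_mul _ _ (he₂.mem hx), autFun_mul _ _ (he₂.mem hx')] at h5
        exact h5)
    -- images of P
    obtain ⟨P₂, hP₂⟩ := (hξF.1.restrict hP₁Rg).exists_iso
    have hσP : FIso F P P₂ σ := ((hhP.trans hP₁).trans hP₂).congr (fun x hx => (hσe x (hPR.le hx)).symm)
    have hτP : FIso F P P₂ τ := (hP₁.trans hP₂).congr (fun x hx => by
      rw [hτe x (hPR' hx)]
      show autFun ξ (e₂ x) = autFun ξ (autFun a (e₂ x))
      rw [haP x hx])
    have hrel : ∀ x ∈ P, τ (h x) = σ x := by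
      intro x hx
      rw [hσe x (hPR.le hx), hτe _ (hPR' (hhP.mem hx))]
      show autFun ξ (autFun a (e₂ (h x))) = autFun ξ (e₂ (h x))
      rw [haP _ (hhP.mem hx)]
    obtain ⟨ρ, hρ, hρP₂⟩ := hX P₂ hσP.isConj
    -- both maps extend to R₀
    have hnorm : ∀ r ∈ normalizerIn S P, ∀ g ∈ kNorm S P O, r * g * r⁻¹ ∈ kNorm S P O :=
      fun r hr g hg => kNorm_normal hPS hOn hr hg
    have hMN : R ⊔ normalizerIn (kNorm S P O) R ≤ normalizerIn S P :=
      sup_le hRN (inf_le_left.trans (kNorm_le_normalizerIn S O))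
    have hM'N : R' ⊔ normalizerIn (kNorm S P O) R' ≤ normalizerIn S P :=
      sup_le hR'N (inf_le_left.trans (kNorm_le_normalizerIn S O))
    have hlt := card_lt_of_lt hσ.le (lt_sup_normalizerIn hS hRS hR₀S (fun r hr => hnorm r (hRN hr)) hR₀R)
    have hlt' := card_lt_of_lt hτ.le (lt_sup_normalizerIn hS hR'S hR₀S (fun r hr => hnorm r (hR'N hr)) hR₀R')
    have hc1 : Nat.card (R ⊔ normalizerIn (kNorm S P O) R : Subgroup Ω) ≤ Nat.card S := Subgroup.card_le_of_le hσ.le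
    have hc2 : Nat.card (R' ⊔ normalizerIn (kNorm S P O) R' : Subgroup Ω) ≤ Nat.card S := Subgroup.card_le_of_le hτ.le
    have hcRR' := hR'.card_eq
    have hPM : P ≤ R ⊔ normalizerIn (kNorm S P O) R := hPR.le.trans le_sup_left
    have hPM' : P ≤ R' ⊔ normalizerIn (kNorm S P O) R' := hPR'.trans le_sup_left
    obtain ⟨k₁, hk₁, hk₁P⟩ := ih _ (by omega) (hPR.trans_le le_sup_left) hMN
      (hσ.comp hρ (fun x hx => map_normalizer_mem hσ hPM hσP hx (hMN hx).2)) (hσP.trans hρP₂) rfl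
    obtain ⟨k₂, hk₂, hk₂P⟩ := ih _ (by omega) (hPR'lt.trans_le le_sup_left) hM'N
      (hτ.comp hρ (fun x hx => map_normalizer_mem hτ hPM' hτP hx (hM'N hx).2)) (hτP.trans hρP₂) rfl
    -- invert k₂ on R₀
    have hk₁iso : FIso F P P k₁ := (hσP.trans hρP₂).congr (fun x hx => (hk₁P x hx).symm)
    have hk₂iso : FIso F P P k₂ := (hτP.trans hρP₂).congr (fun x hx => (hk₂P x hx).symm)
    have hk₁0 : ∀ x ∈ kNorm S P O, k₁ x ∈ kNorm S P O := fun x hx => kNorm_map hOn hk₁ hPR₀ hk₁iso hx hx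
    have hk₂0 : FIso F (kNorm S P O) (kNorm S P O) k₂ :=
      hk₂.fiso_of_card hR₀S (fun x hx => kNorm_map hOn hk₂ hPR₀ hk₂iso hx hx) le_rfl
    obtain ⟨k', hk', hk'1, hk'2⟩ := hk₂0.symm
    refine ⟨fun x => k' (k₁ x), hk₁.comp hk'.1 hk₁0, fun x hx => ?_⟩
    show k' (k₁ x) = h x
    rw [hk₁P x hx]
    show k' (ρ (σ x)) = h x
    rw [← hrel x hx]
    have h1 := hk₂P (h x) (hhP.mem hx)
    have h2 : ρ (τ (h x)) = k₂ (h x) := h1.symm
    rw [h2, hk'1 _ (hPR₀ (hhP.mem hx))]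

/-- Step B: all automorphisms of `P` extend to `R₀`. -/
theorem ext_all (hS : IsPGroup p S) (hP : F.IsFullyNormalized P) (hbig : Big F p P)
    (hX : ∀ Q, F.IsConj P Q → InX F P Q) (O : Subgroup (MulAut P)) (hOp : IsPGroup p O)
    (hOn : ∀ χ ∈ F.autGroup P, ∀ o ∈ O, χ * o * χ⁻¹ ∈ O) (hPR₀ : P ≤ kNorm S P O) {Q Q' : Subgroup Ω} {f : Ω → Ω}
    (hc : Comp F Q Q' f) (hPQ : F.IsConj P Q) :
    ∀ ψ ψ' : Ω → Ω, FMap F (normalizerIn S Q) ψ → FIso F Q P ψ → FMap F (normalizerIn S Q') ψ' → FIso F Q' P ψ' →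
      ∃ k : Ω → Ω, FMap F (kNorm S P O) k ∧ FIso F P P k ∧ ∀ x ∈ Q, k (ψ x) = ψ' (f x) := by
  induction hc with
  | @step Q Q' R f h1 h2 h3 =>
    intro ψ ψ' hψ hψQ hψ' hψ'Q
    have h4 := lt_normalizerIn hS h2.le h1
    have hle : normalizerIn R Q ≤ normalizerIn S Q := fun x hx => mem_normalizerIn.2 ⟨h2.le hx.1, hx.2⟩
    obtain ⟨R₂, hR₂⟩ := (hψ.restrict hle).exists_iso
    obtain ⟨ψi, hψi, hψi1, hψi2⟩ := hR₂.symm
    have hPR₂ : P < R₂ := by
      refine lt_of_le_of_ne ?_ ?_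
      · intro y hy
        obtain ⟨x, hx, rfl⟩ := (hψQ.2 y).1 hy
        exact hR₂.mem (h4.le hx)
      · intro h
        have h5 := hR₂.card_eq
        rw [← h, ← hψQ.card_eq] at h5
        have h6 := card_lt_of_lt (hle.trans (normalizerIn_le S Q)) h4
        omega
    have hR₂N : R₂ ≤ normalizerIn S P := by
      intro y hy
      obtain ⟨x, hx, rfl⟩ := (hR₂.2 y).1 hy
      exact map_normalizer_mem hψ (le_normalizerIn hψQ.le_left) hψQ (hle hx) hx.2
    have hψiP : FIso F P Q ψi := by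
      refine ⟨hψi.1.restrict hPR₂.le, fun y => ?_⟩
      constructor
      · intro hy
        exact ⟨ψ y, hψQ.mem hy, hψi1 y (h4.le hy)⟩
      · rintro ⟨z, hz, rfl⟩
        obtain ⟨x, hx, rfl⟩ := (hψQ.2 z).1 hz
        rw [hψi1 x (h4.le hx)]
        exact hx
    have hh : FMap F R₂ (fun x => ψ' (f (ψi x))) := by
      have h5 : FMap F R₂ (fun x => f (ψi x)) := hψi.1.comp h2 (fun x hx => (hψi.mem hx).1)
      refine h5.comp hψ' (fun x hx => ?_)
      have h6 := hψi.mem hx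
      exact map_normalizer_mem h2 h1.le h3 h6.1 h6.2
    have hhP : FIso F P P (fun x => ψ' (f (ψi x))) := (hψiP.trans h3).trans hψ'Q
    obtain ⟨k, hk, hkP⟩ := ext_key hS hP hbig hX O hOp hOn hPR₀ hPR₂ hR₂N hh hhP
    refine ⟨k, hk, hhP.congr (fun x hx => (hkP x hx).symm), fun x hx => ?_⟩
    rw [hkP _ (hψQ.mem hx)]
    show ψ' (f (ψi (ψ x))) = _
    rw [hψi1 x (h4.le hx)]
  | @trans Q Q' Q'' f g h1 h2 ih1 ih2 =>
    intro ψ ψ' hψ hψQ hψ' hψ'Q
    have hPQ' : F.IsConj P Q' := isConj_trans hPQ h1.fiso.isConj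
    obtain ⟨ρ, hρ, hρQ'⟩ := hX Q' hPQ'
    obtain ⟨k₁, hk₁, hk₁P, hk₁Q⟩ := ih1 hPQ ψ ρ hψ hψQ hρ hρQ'
    obtain ⟨k₂, hk₂, hk₂P, hk₂Q⟩ := ih2 hPQ' ρ ψ' hρ hρQ' hψ' hψ'Q
    refine ⟨fun x => k₂ (k₁ x), hk₁.comp hk₂ (fun x hx => kNorm_map hOn hk₁ hPR₀ hk₁P hx hx), hk₁P.trans hk₂P,
      fun x hx => ?_⟩
    show k₂ (k₁ (ψ x)) = ψ' (g (f x))
    rw [hk₁Q x hx, hk₂Q _ (h1.fiso.mem hx)]
  | @congr Q Q' f g h1 h2 ih =>
    intro ψ ψ' hψ hψQ hψ' hψ'Q
    obtain ⟨k, hk, hkP, hkQ⟩ := ih hPQ ψ ψ' hψ hψQ hψ' hψ'Q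
    exact ⟨k, hk, hkP, fun x hx => by rw [hkQ x hx, h2 x hx]⟩

/-- Steps C and D: if all automorphisms of the fully normalized `P` extend to `R₀ = N_S^O(P) > P` then `P` is fully automized
and receptive. -/
theorem good_of_ext (hS : IsPGroup p S) (hP : F.IsFullyNormalized P) (hbig : Big F p P)
    (hX : ∀ Q, F.IsConj P Q → InX F P Q) (O : Subgroup (MulAut P))
    (hOn : ∀ χ ∈ F.autGroup P, ∀ o ∈ O, χ * o * χ⁻¹ ∈ O) (hPR₀ : P < kNorm S P O)
    (hext : ∀ h : Ω → Ω, FIso F P P h → ∃ k : Ω → Ω, FMap F (kNorm S P O) k ∧ ∀ x ∈ P, k x = h x) : Good F p P := by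
  have hPS := hP.1
  have hfinP := finite_of_le hPS
  set R₀ := kNorm S P O with hR₀
  have hR₀N : R₀ ≤ normalizerIn S P := kNorm_le_normalizerIn S O
  have hR₀S : R₀ ≤ S := hR₀N.trans (normalizerIn_le S P)
  have hNR₀ : ∀ t ∈ normalizerIn S P, t ∈ Subgroup.normalizer (R₀ : Set Ω) := by
    intro t ht
    rw [Subgroup.mem_normalizer_iff]
    intro g
    constructor
    · intro hg
      exact kNorm_normal hPS hOn ht hg
    · intro hg
      have := kNorm_normal hPS hOn (Subgroup.inv_mem _ ht) hg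
      have e : t⁻¹ * (t * g * t⁻¹) * t⁻¹⁻¹ = g := by group
      rwa [e] at this
  obtain ⟨Rg, hRRg, hg1, hg2⟩ := hbig R₀ hR₀S (card_lt_of_lt hR₀S hPR₀)
  obtain ⟨η, hη⟩ := isConj_iff_fiso.1 hRRg
  have hRgS := hη.le_right
  have hfinRg := finite_of_le hRgS
  obtain ⟨P₁, hP₁⟩ := (hη.1.restrict hPR₀.le).exists_iso
  have hP₁Rg : P₁ ≤ Rg := by
    intro y hy
    obtain ⟨x, hx, rfl⟩ := (hP₁.2 y).1 hy
    exact hη.mem (hPR₀.le hx)
  have heP : ∀ x ∈ P, η x ∈ Rg := fun x hx => hη.mem (hPR₀.le hx)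
  -- extension of automorphisms of `P` to automorphisms of `R₀`
  have hext' : ∀ h : Ω → Ω, FIso F P P h → ∃ k : Ω → Ω, FIso F R₀ R₀ k ∧ ∀ x ∈ P, k x = h x := by
    intro h hh
    obtain ⟨k, hk, hkP⟩ := hext h hh
    have hkiso : FIso F P P k := hh.congr (fun x hx => (hkP x hx).symm)
    exact ⟨k, hk.fiso_of_card hR₀S (fun x hx => kNorm_map hOn hk hPR₀.le hkiso hx hx) le_rfl, hkP⟩
  -- general construction
  have main : ∀ (V : Subgroup (MulAut P)), IsPGroup p V → autInducedBy S P ≤ V →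
      ∀ (k : Ω → Ω) (hk : FIso F R₀ R₀ k) (_ : FIso F P P k) (M₁ : Subgroup Ω) (_ : M₁ ≤ normalizerIn S P)
        (_ : ∀ t ∈ M₁, ∃ v ∈ V, ∀ x ∈ P, k (t * x * t⁻¹) = autFun v (k x)),
      ∃ (T : Subgroup (MulAut Rg)) (a ξ : MulAut Rg) (σ τ : Ω → Ω) (P₂ : Subgroup Ω),
        T ≤ actLike F Rg P η heP V ∧ (autInducedBy (normalizerIn S P) R₀).map hη.autEquiv.toMonoidHom ≤ T ∧
        (∀ l ∈ actLike F Rg P η heP V, ∃ t ∈ T, ∃ n ∈ actLike F Rg P η heP ⊥, l = t * n) ∧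
        a ∈ actLike F Rg P η heP ⊥ ∧ ξ ∈ F.autGroup Rg ∧ (∀ t ∈ T, ξ * t * ξ⁻¹ ∈ autInducedBy S Rg) ∧
        FIso F (normalizerIn S P) (normalizerIn S P₂) σ ∧ (∀ x ∈ R₀, σ x = autFun ξ (η x)) ∧
        FMap F (R₀ ⊔ M₁) τ ∧ (∀ x ∈ R₀, τ x = autFun ξ (autFun a (η (k x)))) ∧
        (∀ x ∈ R₀ ⊔ M₁, τ x ∈ normalizerIn S P₂) ∧ FIso F P₁ P₂ (autFun ξ) := by
    intro V hV hSV k hk hkP M₁ hM₁ hM₁V
    have he₂ := hk.trans hη
    set K₁ : Subgroup (MulAut Rg) := (autInducedBy (normalizerIn S P) R₀).map hη.autEquiv.toMonoidHom with hK₁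
    set K₂ : Subgroup (MulAut Rg) := (autInducedBy M₁ R₀).map he₂.autEquiv.toMonoidHom with hK₂
    have hK₁L : K₁ ≤ actLike F Rg P η heP V := by
      rintro _ ⟨κ, hκ, rfl⟩
      obtain ⟨t, ht, hκt⟩ := mem_autInducedBy_iff.1 hκ
      have htR := mem_normalizer_of_aut hκt
      refine ⟨?_, conjAut P t ht.2, hSV (conjAut_mem_autInducedBy ht.2 ht.1), fun x hx => ?_⟩
      · rw [← hη.map_autGroup]
        exact ⟨κ, autInducedBy_le_autGroup hR₀S (normalizerIn_le S P) hκ, rfl⟩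
      · have hκ' : κ = conjAut R₀ t htR := by
          apply MulEquiv.ext
          intro y
          apply Subtype.ext
          rw [hκt y, conjAut_apply]
        show autFun (hη.autEquiv κ) (η x) = _
        rw [hκ', autEquiv_conjAut_apply hη htR (hPR₀.le hx), autFun_of_mem _ hx, conjAut_apply]
    have hK₂L : K₂ ≤ actLike F Rg P η heP V := by
      rintro _ ⟨κ, hκ, rfl⟩
      obtain ⟨t, ht, hκt⟩ := mem_autInducedBy_iff.1 hκ
      have htR := mem_normalizer_of_aut hκt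
      obtain ⟨v, hv, hvt⟩ := hM₁V t ht
      refine ⟨?_, v, hv, fun x hx => ?_⟩
      · rw [← he₂.map_autGroup]
        exact ⟨κ, autInducedBy_le_autGroup hR₀S (hM₁.trans (normalizerIn_le S P)) hκ, rfl⟩
      · have hκ' : κ = conjAut R₀ t htR := by
          apply MulEquiv.ext
          intro y
          apply Subtype.ext
          rw [hκt y, conjAut_apply]
        obtain ⟨z, hz, rfl⟩ := (hkP.2 x).1 hx
        show autFun (he₂.autEquiv κ) ((fun x => η (k x)) z) = _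
        rw [hκ', autEquiv_conjAut_apply he₂ htR (hPR₀.le hz)]
        show η (k (t * z * t⁻¹)) = _
        rw [hvt z hz]
    have hK₁p : IsPGroup p K₁ := (isPGroup_autInducedBy hS (normalizerIn_le S P)).map _
    have hK₂p : IsPGroup p K₂ := (isPGroup_autInducedBy hS (hM₁.trans (normalizerIn_le S P))).map _
    obtain ⟨T, hTL, hTp, hK₁T, hTN, a, haL, haK⟩ := exists_sylow_pair (p := p) (actLike F Rg P η heP V)
      (actLike F Rg P η heP ⊥) K₁ K₂ (fun l hl n hn => actLike_bot_normal hl hn) (fun l hl => actLike_pow hV hl)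
      hK₁L hK₁p hK₂L hK₂p
    obtain ⟨ξ, hξ, hξT⟩ := exists_conj_le_autInducedBy hg1 T (hTL.trans (actLike_le F heP V)) hTp
    have hξF : FIso F Rg Rg (autFun ξ) := (fiso_autFun_iff hRgS).2 hξ
    have haF : FIso F Rg Rg (autFun a) := (fiso_autFun_iff hRgS).2 haL.1
    have haP : ∀ x ∈ P, autFun a (η x) = η x := (mem_actLike_bot.1 haL).2
    obtain ⟨σ, hσ, hσe⟩ := extend_sup (M := normalizerIn S P) hg2 (hη.trans hξF)
      (fun x hx => mem_normalizerIn.2 ⟨hx.1, hNR₀ x hx⟩) (by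
        intro t ht
        apply transport_of_conj_mem hη ξ (hNR₀ t ht)
        apply hξT
        apply hK₁T
        exact ⟨_, conjAut_mem_autInducedBy (hNR₀ t ht) ht, rfl⟩)
    have hσ' : FMap F (normalizerIn S P) σ := hσ.restrict le_sup_right
    obtain ⟨τ, hτ, hτe⟩ := extend_sup (M := M₁) hg2 ((he₂.trans haF).trans hξF)
      (fun x hx => mem_normalizerIn.2 ⟨(hM₁ hx).1, hNR₀ x (hM₁ hx)⟩) (by
        intro t ht
        have htR := hNR₀ t (hM₁ ht)
        have h1 := transport_of_conj_mem he₂ (ξ * a) htR (by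
          have h2 := hξT _ (haK (he₂.autEquiv (conjAut R₀ t htR)) ⟨_, conjAut_mem_autInducedBy htR ht, rfl⟩)
          have h3 : ξ * a * he₂.autEquiv (conjAut R₀ t htR) * (ξ * a)⁻¹ =
              ξ * (a * he₂.autEquiv (conjAut R₀ t htR) * a⁻¹) * ξ⁻¹ := by group
          rw [h3]
          exact h2)
        obtain ⟨s, hs, h4⟩ := h1
        refine ⟨s, hs, fun x hx => ?_⟩
        have hx' : t * x * t⁻¹ ∈ R₀ := (Subgroup.mem_normalizer_iff.1 htR x).1 hx
        have h5 := h4 x hx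
        rw [autFun_mul _ _ (he₂.mem hx), autFun_mul _ _ (he₂.mem hx')] at h5
        exact h5)
    obtain ⟨P₂, hP₂⟩ := (hξF.1.restrict hP₁Rg).exists_iso
    have hσP : FIso F P P₂ σ := (hP₁.trans hP₂).congr (fun x hx => (hσe x (hPR₀.le hx)).symm)
    have hσN : FIso F (normalizerIn S P) (normalizerIn S P₂) σ := by
      refine hσ'.fiso_of_card (normalizerIn_le S P₂) (fun x hx => map_normalizer_mem hσ' (le_normalizerIn hPS) hσP hx hx.2) ?_
      exact hP.2 P₂ hσP.isConj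
    have hτP : FIso F P P₂ τ := ((hkP.trans hP₁).trans hP₂).congr (fun x hx => by
      rw [hτe x (hPR₀.le hx)]
      show autFun ξ (η (k x)) = autFun ξ (autFun a (η (k x)))
      rw [haP _ (hkP.mem hx)])
    refine ⟨T, a, ξ, σ, τ, P₂, hTL, hK₁T, hTN, haL, hξ, hξT, hσN, hσe, hτ, hτe, fun x hx => ?_, hP₂⟩
    exact map_normalizer_mem hτ (hPR₀.le.trans le_sup_left) hτP hx ((sup_le hR₀N hM₁) hx).2
  constructor
  · -- fully automized
    have h1 : IsPGroup p ((autInducedBy S P).subgroupOf (F.autGroup P)) :=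
      (isPGroup_autInducedBy hS le_rfl).comap_of_injective _ (Subgroup.subtype_injective _)
    obtain ⟨V, hV⟩ := h1.exists_le_sylow
    refine ⟨hPS, V, ?_⟩
    refine le_antisymm ?_ hV
    intro v hv
    -- apply main with k = id, M₁ = ⊥
    obtain ⟨T, a, ξ, σ, τ, P₂, hTL, hK₁T, hTN, haL, hξ, hξT, hσN, hσe, hτ, hτe, hτN, hP₂⟩ :=
      main ((V : Subgroup (F.autGroup P)).map (F.autGroup P).subtype) (V.isPGroup'.map _) (by
        intro κ hκ
        exact ⟨⟨κ, autInducedBy_le_autGroup hPS le_rfl hκ⟩, hV (Subgroup.mem_subgroupOf.2 hκ), rfl⟩)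
        (fun x => x) (FIso.refl F hR₀S) (FIso.refl F hPS) ⊥ bot_le (by
          intro t ht
          rw [Subgroup.mem_bot] at ht
          subst ht
          exact ⟨1, Subgroup.one_mem _, fun x hx => by rw [autFun_one hx]; group⟩)
    -- extend v to R₀ and transport to Rg
    obtain ⟨k, hk, hkv⟩ := hext' _ ((fiso_autFun_iff hPS).2 v.2)
    have hl : hη.autEquiv hk.equiv ∈ actLike F Rg P η heP ((V : Subgroup (F.autGroup P)).map (F.autGroup P).subtype) := by
      refine ⟨?_, v, ⟨v, hv, rfl⟩, fun x hx => ?_⟩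
      · rw [← hη.map_autGroup]
        exact ⟨_, hk.equiv_mem_autGroup, rfl⟩
      · rw [autFun_of_mem _ (heP x hx)]
        have h2 := hη.autEquiv_coe hk.equiv ⟨x, hPR₀.le hx⟩
        rw [h2]
        show η (k x) = _
        rw [hkv x hx]
    obtain ⟨t, ht, n, hn, hl'⟩ := hTN _ hl
    obtain ⟨u, hu, hut⟩ := mem_autInducedBy_iff.1 (hξT t ht)
    -- relation on P
    have hξF : FIso F Rg Rg (autFun ξ) := (fiso_autFun_iff hRgS).2 hξ
    have hnP : ∀ x ∈ P, autFun n (η x) = η x := (mem_actLike_bot.1 hn).2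
    have hrel : ∀ x ∈ P, autFun ξ (η (autFun (v : MulAut P) x)) = u * autFun ξ (η x) * u⁻¹ := by
      intro x hx
      obtain ⟨-, o, ho, hox⟩ := hl
      have h2 : autFun (hη.autEquiv hk.equiv) (η x) = η (autFun (v : MulAut P) x) := by
        rw [autFun_of_mem _ (heP x hx)]
        have h2 := hη.autEquiv_coe hk.equiv ⟨x, hPR₀.le hx⟩
        rw [h2]
        show η (k x) = _
        rw [hkv x hx]
      rw [← h2, hl', autFun_mul _ _ (heP x hx), hnP x hx]
      have h3 := hut ⟨autFun ξ (η x), autFun_mem ξ (heP x hx)⟩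
      rw [← h3]
      have h4 : (⟨autFun ξ (η x), autFun_mem ξ (heP x hx)⟩ : Rg) = ξ ⟨η x, heP x hx⟩ :=
        Subtype.ext (autFun_of_mem _ _)
      rw [h4, MulAut.mul_apply, MulAut.mul_apply, MulAut.inv_apply_self,
        autFun_of_mem t (heP x hx), autFun_of_mem ξ (t ⟨η x, heP x hx⟩).2]
    -- u normalizes P₂
    have huP₂ : u ∈ Subgroup.normalizer (P₂ : Set Ω) := by
      have hfinP₂ := finite_of_le hP₂.le_right
      have hmap : ∀ y ∈ P₂, u * y * u⁻¹ ∈ P₂ := by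
        intro y hy
        obtain ⟨z, hz, rfl⟩ := (hP₂.2 y).1 hy
        obtain ⟨x, hx, rfl⟩ := (hP₁.2 z).1 hz
        rw [← hrel x hx]
        exact hP₂.mem (hP₁.mem (autFun_mem _ hx))
      have h2 : FIso F P₂ P₂ (fun y => u * y * u⁻¹) := (fmap_conj F hP₂.le_right hu).fiso_of_card hP₂.le_right hmap le_rfl
      rw [Subgroup.mem_normalizer_iff]
      intro y
      constructor
      · exact hmap y
      · intro hy
        obtain ⟨z, hz, hzy⟩ := (h2.2 _).1 hy
        have : z = y := mul_left_cancel (mul_right_cancel hzy)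
        exact this ▸ hz
    obtain ⟨s, hs, hsu⟩ := (hσN.2 u).1 (mem_normalizerIn.2 ⟨hu, huP₂⟩)
    rw [Subgroup.mem_subgroupOf, mem_autInducedBy_iff]
    refine ⟨s, hs.1, fun x => ?_⟩
    have hx := x.2
    have h2 := hrel x hx
    have h3 : σ (s * (x : Ω) * s⁻¹) = u * autFun ξ (η x) * u⁻¹ := by
      rw [hσN.1.map_conj hs (le_normalizerIn hPS hx), hsu, hσe _ (hPR₀.le hx)]
    have hxs : s * (x : Ω) * s⁻¹ ∈ P := (Subgroup.mem_normalizer_iff.1 hs.2 x).1 hx
    have h4 : autFun (v : MulAut P) (x : Ω) ∈ P := autFun_mem _ hx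
    have h5 : σ (autFun (v : MulAut P) (x : Ω)) = σ (s * (x : Ω) * s⁻¹) := by
      rw [h3, hσe _ (hPR₀.le h4), h2]
    have h6 := hσN.1.inj (le_normalizerIn hPS h4) (le_normalizerIn hPS hxs) h5
    rw [← h6, autFun_coe]
  · -- receptive
    rw [isReceptive_iff]
    refine ⟨hPS, fun Q f hf M hQM hMS hM => ?_⟩
    obtain ⟨ψ, hψ, hψQ⟩ := hX Q (isConj_symm hf.isConj)
    have hQS := hf.le_left
    have hMN : M ≤ normalizerIn S Q := fun t ht => mem_normalizerIn.2 ⟨hMS ht, (hM t ht).1⟩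
    obtain ⟨ψi, hψi, hψi1, hψi2⟩ := hψQ.symm
    -- the automorphism h = f ψ⁻¹ of P
    have hh : FIso F P P (fun x => f (ψi x)) := hψi.trans hf
    obtain ⟨k, hk, hkh⟩ := hext' _ hh
    have hkP : FIso F P P k := hh.congr (fun x hx => (hkh x hx).symm)
    -- M₁ = ψ(M)
    obtain ⟨M₁, hM₁⟩ := (hψ.restrict hMN).exists_iso
    have hM₁N : M₁ ≤ normalizerIn S P := by
      intro y hy
      obtain ⟨x, hx, rfl⟩ := (hM₁.2 y).1 hy
      exact map_normalizer_mem hψ (le_normalizerIn hQS) hψQ (hMN hx) (hMN hx).2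
    obtain ⟨T, a, ξ, σ, τ, P₂, hTL, hK₁T, hTN, haL, hξ, hξT, hσN, hσe, hτ, hτe, hτN, hP₂⟩ :=
      main (autInducedBy S P) (isPGroup_autInducedBy hS le_rfl) le_rfl k hk hkP M₁ hM₁N (by
        intro y hy
        obtain ⟨t, ht, rfl⟩ := (hM₁.2 y).1 hy
        obtain ⟨htn, s, hs, hst⟩ := hM t ht
        have hsn : s ∈ Subgroup.normalizer (P : Set Ω) := mem_normalizer_of_transport hf htn hst
        refine ⟨conjAut P s hsn, conjAut_mem_autInducedBy hsn hs, fun x hx => ?_⟩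
        obtain ⟨z, hz, rfl⟩ := (hψQ.2 x).1 hx
        have hzt : t * z * t⁻¹ ∈ Q := (Subgroup.mem_normalizer_iff.1 htn z).1 hz
        rw [← hψ.map_conj (hMN ht) (le_normalizerIn hQS hz), hkh _ (hψQ.mem hzt), hkh _ hx,
          autFun_of_mem _ (hh.mem hx), conjAut_apply]
        show f (ψi (ψ (t * z * t⁻¹))) = s * f (ψi (ψ z)) * s⁻¹
        rw [hψi1 _ hzt, hψi1 _ hz, hst z hz])
    obtain ⟨σi, hσi, hσi1, hσi2⟩ := hσN.symm
    have haP : ∀ x ∈ P, autFun a (η x) = η x := (mem_actLike_bot.1 haL).2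
    refine ⟨fun x => σi (τ (ψ x)), ?_, fun x hx => ?_⟩
    · have h1 : FMap F M (fun x => τ (ψ x)) :=
        (hψ.restrict hMN).comp (hτ.restrict le_sup_right) (fun x hx => hM₁.mem hx)
      exact h1.comp hσi.1 (fun x hx => hτN _ (Subgroup.mem_sup_right (hM₁.mem hx)))
    · show σi (τ (ψ x)) = f x
      have hψx : ψ x ∈ P := hψQ.mem hx
      rw [hτe _ (hPR₀.le hψx), haP _ (hkP.mem hψx), ← hσe _ (hPR₀.le (hkP.mem hψx)),
        hσi1 _ (le_normalizerIn hPS (hkP.mem hψx)), hkh _ hψx]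
      show f (ψi (ψ x)) = f x
      rw [hψi1 x hx]

end

end Cfsg.Agent.Lib.FusionCriterion2
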