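import Cfsg.Agent.Lib.FusionClosed
import Cfsg.Agent.Lib.PAut
import Cfsg.Agent.Lib.FusionPPower
import Cfsg.Agent.S0120

/-! Normality of strongly closed subgroups from central series of `Ω₁`, odd primes. -/

set_option autoImplicit false

namespace Cfsg.Agent.Lib.FusionOmega

open Cfsg Cfsg.FusionSystem
open Cfsg.Agent.Lib.FusionBasic Cfsg.Agent.Lib.FusionSat Cfsg.Agent.Lib.FusionAlperin Cfsg.Agent.Lib.FusionNormal
open Cfsg.Agent.Lib.FusionClosed

variable {Ω : Type*} [Group Ω] {S : Subgroup Ω} {F : FusionSystem S} {P Q R T W : Subgroup Ω} {f g : Ω → Ω} {p : ℕ}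

/-- restriction of an `F`-automorphism to an invariant subgroup -/
theorem exists_restrict [Finite S] (hR : R ≤ S) {α : MulAut R} (hα : α ∈ F.autGroup R) (hWR : W ≤ R)
    (hW : ∀ x : R, (x : Ω) ∈ W → ((α x : R) : Ω) ∈ W) : ∃ β ∈ F.autGroup W, (∀ x : W, ((β x : W) : Ω) = α ⟨x, hWR x.2⟩) ∧
      orderOf β ∣ orderOf α := by
  obtain ⟨β, hβ, h⟩ := exists_aut_of_fmap ((fmap_of_autGroup hR hα).restrict hWR) (by
    intro x hx
    rw [autFun_of_mem _ (hWR hx)]
    exact hW _ hx)
  have h' : ∀ x : W, ((β x : W) : Ω) = α ⟨x, hWR x.2⟩ := fun x => by rw [h, autFun_of_mem _ (hWR x.2)]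
  exact ⟨β, hβ, h', Cfsg.Agent.Lib.FusionPPower.orderOf_restrict_dvd hWR h'⟩

/-- a `p'`-automorphism stabilizing a chain of invariant subgroups of `R` centralizes the top of the chain -/
theorem fix_of_chain [Finite S] [Fact p.Prime] (hS : IsPGroup p S) (hR : R ≤ S) {α : MulAut R} (hα : α ∈ F.autGroup R)
    (hc : (orderOf α).Coprime p) (C : ℕ → Subgroup Ω) (n : ℕ) (hC0 : C 0 = ⊥) (hle : C n ≤ R)
    (hinv : ∀ x : R, (x : Ω) ∈ C n → ((α x : R) : Ω) ∈ C n)
    (h : ∀ i < n, ∀ x : R, (x : Ω) ∈ C (i + 1) → (x : Ω)⁻¹ * (α x : R) ∈ C i) (x : R) (hx : (x : Ω) ∈ C n) : α x = x := by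
  obtain ⟨β, hβ, h1, h2⟩ := exists_restrict hR hα hle hinv
  have hfin : Finite (C n) := finite_of_le (hle.trans hR)
  have h3 : β = 1 := by
    refine PAut.eq_one_of_chain (isPGroup_of_le hS (hle.trans hR)) (Nat.Coprime.coprime_dvd_left h2 hc) (n := n)
      (fun i => (C (n - i)).subgroupOf (C n)) ?_ ?_ ?_
    · show (C (n - 0)).subgroupOf (C n) = ⊤
      rw [Nat.sub_zero, Subgroup.subgroupOf_self]
    · show (C (n - n)).subgroupOf (C n) = ⊥
      rw [Nat.sub_self, hC0, Subgroup.bot_subgroupOf]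
    · intro i hi y hy
      rw [Subgroup.mem_subgroupOf] at hy ⊢
      have e : n - i = (n - (i + 1)) + 1 := by omega
      rw [e] at hy
      have h4 := h (n - (i + 1)) (by omega) ⟨y, hle y.2⟩ hy
      show (y : Ω)⁻¹ * ((β y : C n) : Ω) ∈ C (n - (i + 1))
      rw [h1]
      exact h4
  apply Subtype.ext
  have h4 := h1 ⟨x, hx⟩
  rw [h3] at h4
  exact h4.symm

open scoped commutatorElement in
/-- S5236, hard direction -/
theorem isNormal_of_omega_chain [Finite S] [Fact p.Prime] (hp : p ≠ 2) (hS : IsPGroup p S) (hF : F.IsSaturated p)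
    (hQ : F.StronglyClosed Q) (C : ℕ → Subgroup Ω) (n : ℕ) (hC0 : C 0 = ⊥) (hle : ∀ i ≤ n, C i ≤ Q)
    (hcomm : ∀ i < n, ⁅C (i + 1), Q⁆ ≤ C i) (hsc : ∀ i ≤ n, F.StronglyClosed (C i))
    (homega : ∀ x ∈ Q, x ^ p = 1 → x ∈ C n) : F.IsNormal Q := by
  refine isNormal_of_centricRadical hS hF hQ fun R _ hc hr => ?_
  have hR := hc.1
  have hfinR : Finite R := finite_of_le hR
  have hCR : C n ≤ R := le_of_weak_chain hS hQ C n hC0 hle hcomm (fun i hi => weaklyClosed_of_stronglyClosed (hsc i hi)) hc hr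
  have hQn := normalizes_of_stronglyClosed hQ
  have inv : ∀ {W : Subgroup Ω}, F.StronglyClosed W → ∀ α ∈ F.autGroup R, ∀ x : R, (x : Ω) ∈ W → ((α x : R) : Ω) ∈ W := by
    intro W hW α hα x hx
    have := StronglyClosed.map_mem F hW (fmap_of_autGroup hR hα) x.2 hx
    rwa [autFun_coe] at this
  have hSsc : F.StronglyClosed S := by
    rw [stronglyClosed_iff]
    exact ⟨le_rfl, fun P f _ hf x hx => hf.map_mem hx⟩
  let L : Option (Fin n) → Subgroup Ω := fun o => o.elim S (fun i => C (i + 1))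
  let M : Option (Fin n) → Subgroup Ω := fun o => o.elim Q (fun i => C i)
  have hL : ∀ j, ∀ α ∈ F.autGroup R, ∀ x : R, (x : Ω) ∈ L j → ((α x : R) : Ω) ∈ L j := by
    rintro (_ | i)
    · exact inv hSsc
    · exact inv (hsc _ i.2)
  have hM : ∀ j, ∀ α ∈ F.autGroup R, ∀ x : R, (x : Ω) ∈ M j → ((α x : R) : Ω) ∈ M j := by
    rintro (_ | i)
    · exact inv hQ
    · exact inv (hsc _ i.2.le)
  refine le_of_normalizerIn_le hS hR hQ.1 hQn fun q hq hqn => ?_
  have hqS := hQ.1 hq
  refine mem_of_conj_mem_inn (hc.2 R (isConj_refl F hR)) hqS hqn ?_ hR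
  refine famStab_le_inn (p := p) hR hr L M hL hM ?_ ?_
  · rintro α ⟨hα, hst⟩ hαp
    -- α trivial on C n
    have h1 : ∀ x : R, (x : Ω) ∈ C n → α x = x :=
      fix_of_chain hS hR hα hαp C n hC0 hCR (inv (hsc n le_rfl) α hα) (fun i hi x hx => hst (some ⟨i, hi⟩) x hx)
    -- α trivial on R ∩ Q
    have hD : R ⊓ Q ≤ R := inf_le_left
    obtain ⟨β, hβ, h2, h3⟩ := exists_restrict hR hα hD (fun x hx => ⟨(α x).2, inv hQ α hα x hx.2⟩)
    have hfinD : Finite ↥(R ⊓ Q) := finite_of_le (hD.trans hR)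
    have hβ1 : β = 1 := by
      refine Cfsg.Agent.S0120.result hp (isPGroup_of_le hS (hD.trans hR)) β (Nat.Coprime.coprime_dvd_left h3 hαp) ?_
      intro x hx
      apply Subtype.ext
      rw [h2]
      have h4 : (x : Ω) ∈ C n := homega x x.2.2 (by rw [← SubmonoidClass.coe_pow, hx]; rfl)
      rw [h1 _ h4]
    refine PAut.eq_one_of_chain (isPGroup_of_le hS hR) hαp (n := 2)
      (fun i => if i = 0 then ⊤ else if i = 1 then (R ⊓ Q).subgroupOf R else ⊥) rfl rfl ?_
    intro i hi x hx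
    have hi' : i = 0 ∨ i = 1 := by omega
    rcases hi' with rfl | rfl
    · show x⁻¹ * α x ∈ (R ⊓ Q).subgroupOf R
      rw [Subgroup.mem_subgroupOf]
      exact ⟨(x⁻¹ * α x).2, hst none x (hR x.2)⟩
    · show x⁻¹ * α x ∈ (⊥ : Subgroup R)
      have hx' : x ∈ (R ⊓ Q).subgroupOf R := hx
      rw [Subgroup.mem_subgroupOf] at hx'
      have h4 := h2 ⟨x, hx'⟩
      rw [hβ1] at h4
      have h5 : α x = x := Subtype.ext h4.symm
      rw [h5, inv_mul_cancel]
      exact Subgroup.one_mem _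
  · refine ⟨conjAut_mem_autGroup hR hqn hqS, ?_⟩
    rintro (_ | i) x hx
    · rw [conjAut_apply]
      show (x : Ω)⁻¹ * (q * x * q⁻¹) ∈ Q
      have h1 := (Subgroup.mem_normalizer_iff.1 (Subgroup.inv_mem _ (hQn (hR x.2))) q).1 hq
      have h2 := Q.mul_mem h1 (Q.inv_mem hq)
      have h3 : (x : Ω)⁻¹ * q * (x : Ω)⁻¹⁻¹ * q⁻¹ = (x : Ω)⁻¹ * (q * x * q⁻¹) := by group
      rwa [h3] at h2
    · rw [conjAut_apply]
      show (x : Ω)⁻¹ * (q * x * q⁻¹) ∈ C i
      refine hcomm i i.2 ?_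
      have h5 : (x : Ω)⁻¹ * (q * x * q⁻¹) = ⁅(x : Ω)⁻¹, q⁆ := by rw [commutatorElement_def]; group
      rw [h5]
      exact Subgroup.commutator_mem_commutator (Subgroup.inv_mem _ hx) hq

theorem omegaOne_le (P : Subgroup Ω) : omegaOne p P ≤ P := by
  unfold omegaOne
  rw [Subgroup.closure_le]
  exact fun x hx => hx.1

theorem omegaOne_characteristic (P : Subgroup Ω) : ((omegaOne p P).subgroupOf P).Characteristic := by
  rw [Subgroup.characteristic_iff_le_comap]
  intro φ
  have h1 : (omegaOne p P).subgroupOf P = Subgroup.closure {x : P | x ^ p = 1} := by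
    apply le_antisymm
    · have h2 : omegaOne p P ≤ (Subgroup.closure {x : P | x ^ p = 1}).map P.subtype := by
        unfold omegaOne
        rw [Subgroup.closure_le]
        rintro x ⟨hx, hxp⟩
        exact ⟨⟨x, hx⟩, Subgroup.subset_closure (by
          show (⟨x, hx⟩ : P) ^ p = 1
          exact Subtype.ext hxp), rfl⟩
      intro x hx
      obtain ⟨y, hy, hyx⟩ := h2 hx
      have : y = x := Subtype.ext hyx
      rw [← this]; exact hy
    · rw [Subgroup.closure_le]
      intro x hx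
      exact Subgroup.subset_closure ⟨x.2, congrArg Subtype.val (hx : x ^ p = 1)⟩
  rw [h1, Subgroup.closure_le]
  intro x hx
  refine Subgroup.subset_closure ?_
  show φ x ^ p = 1
  rw [← map_pow, (hx : x ^ p = 1), map_one]

theorem inf_characteristic {A B : Subgroup Ω} (hA : (A.subgroupOf P).Characteristic) (hB : (B.subgroupOf P).Characteristic) :
    ((A ⊓ B).subgroupOf P).Characteristic := by
  rw [Subgroup.characteristic_iff_le_comap] at hA hB ⊢
  intro φ x hx
  exact ⟨hA φ hx.1, hB φ hx.2⟩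

open scoped commutatorElement in
/-- S5236 -/
theorem isNormal_iff_omega_chain [Finite S] [Fact p.Prime] (hp : p ≠ 2) (hS : IsPGroup p S) (hF : F.IsSaturated p)
    (hP : F.StronglyClosed P) : F.IsNormal P ↔ ∃ (n : ℕ) (Q : Fin (n + 1) → Subgroup Ω), Q 0 = ⊥ ∧
      Q (Fin.last n) = omegaOne p P ∧ Monotone Q ∧ (∀ i : Fin (n + 1), F.StronglyClosed (Q i)) ∧
      ∀ i : Fin n, ⁅Q i.succ, P⁆ ≤ Q i.castSucc := by
  constructor
  · intro hN
    have hQp : IsPGroup p P := isPGroup_of_le hS hP.1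
    have hfin : Finite P := finite_of_le hP.1
    have hnil : Group.IsNilpotent P := hQp.isNilpotent
    obtain ⟨n, C, hC0, hCn, hmono, hle, hcomm, hchar⟩ := exists_central_chain P
    refine ⟨n, fun i => C i ⊓ omegaOne p P, ?_, ?_, ?_, ?_, ?_⟩
    · show C 0 ⊓ omegaOne p P = ⊥
      rw [hC0, bot_inf_eq]
    · show C n ⊓ omegaOne p P = _
      rw [hCn]
      exact inf_eq_right.2 (omegaOne_le P)
    · intro i j hij
      exact inf_le_inf_right _ (hmono hij)
    · intro i
      exact isNormal_stronglyClosed (isNormal_of_characteristic hN (inf_le_left.trans (hle _))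
        (inf_characteristic (hchar _) (omegaOne_characteristic P)))
    · intro i
      refine le_inf ((Subgroup.commutator_mono inf_le_left le_rfl).trans (hcomm i)) ?_
      refine (Subgroup.commutator_mono inf_le_right le_rfl).trans ?_
      have hsc : F.StronglyClosed (omegaOne p P) :=
        isNormal_stronglyClosed (isNormal_of_characteristic hN (omegaOne_le P) (omegaOne_characteristic P))
      have hn := hP.1.trans (normalizes_of_stronglyClosed hsc)
      rw [Subgroup.commutator_le]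
      intro x hx y hy
      have h1 := (Subgroup.mem_normalizer_iff.1 (hn hy) x⁻¹).1 (Subgroup.inv_mem _ hx)
      rw [commutatorElement_def]
      have h2 : x * y * x⁻¹ * y⁻¹ = x * (y * x⁻¹ * y⁻¹) := by group
      rw [h2]
      exact Subgroup.mul_mem _ hx h1
  · rintro ⟨n, C, hC0, hCn, hmono, hsc, hcomm⟩
    let C' : ℕ → Subgroup Ω := fun i => if h : i < n + 1 then C ⟨i, h⟩ else P
    have hC' : ∀ i (h : i < n + 1), C' i = C ⟨i, h⟩ := fun i h => dif_pos h
    refine isNormal_of_omega_chain hp hS hF hP C' n ?_ ?_ ?_ ?_ ?_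
    · rw [hC' 0 (by omega)]; exact hC0
    · intro i hi
      rw [hC' i (by omega)]
      refine (hmono (Fin.le_last _)).trans ?_
      rw [hCn]
      exact omegaOne_le P
    · intro i hi
      rw [hC' i (by omega), hC' (i + 1) (by omega)]
      exact hcomm ⟨i, hi⟩
    · intro i hi
      rw [hC' i (by omega)]
      exact hsc _
    · intro x hx hxp
      rw [hC' n (by omega)]
      have h1 : C ⟨n, by omega⟩ = omegaOne p P := hCn
      rw [h1]
      exact Subgroup.subset_closure ⟨hx, hxp⟩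

end Cfsg.Agent.Lib.FusionOmega
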