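import Cfsg.Agent.Lib.SmallAbel

/-!
Variants of the critical subgroup theorem: a `p'`-automorphism is detected on elements of order `p` (or 4).
-/

set_option autoImplicit false
set_option maxHeartbeats 400000

open Subgroup Cfsg.Agent.Lib.Critical
open scoped commutatorElement

namespace Cfsg.Agent.Lib.H88Small

variable {P : Type*} [Group P]

/-- The core: `H` critical, the commutators `x⁻¹ a(x)` in `T`, elements of `H ∩ T` of order dividing `q` fixed. -/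
theorem crit_core [Finite P] {p : ℕ} [hp : Fact p.Prime] (hP : IsPGroup p P) {q : ℕ}
    (hq : (p ≠ 2 ∧ q = p) ∨ (p = 2 ∧ q = 4)) {H : Subgroup P} (hHc : H.Characteristic)
    (hHP : ⁅H, (⊤ : Subgroup P)⁆ ≤ H ⊓ centralizer (H : Set P)) (hC : centralizer (H : Set P) ≤ H)
    (hpow : ∀ x ∈ H, x ^ p ∈ centralizer (H : Set P)) (T : Subgroup P)
    (a : MulAut P) (ha : Nat.Coprime (orderOf a) p) (hT : ∀ x ∈ H, x⁻¹ * a x ∈ T)
    (hfix : ∀ x ∈ H, x ∈ T → x ^ q = 1 → a x = x) : a = 1 := by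
  have hHn : H.Normal := Subgroup.normal_of_characteristic H
  apply eq_one_of_self_centralizing hP H hHn hC a ha
  have hpq : p ∣ q := by
    rcases hq with ⟨-, rfl⟩ | ⟨rfl, rfl⟩
    · exact dvd_rfl
    · decide
  have haH : ∀ x ∈ H, a x ∈ H := fun x hx => characteristic_iff_le_comap.mp hHc a hx
  have key : ∀ n : ℕ, ∀ x ∈ H, x ∈ centralizer (H : Set P) → x ^ (p ^ n) = 1 → a x = x := by
    intro n
    induction n with
    | zero =>
      intro x _ _ hx1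
      rw [pow_zero, pow_one] at hx1
      rw [hx1, map_one]
    | succ n ih =>
      intro x hx hxC hx1
      have h1 : a (x ^ p) = x ^ p := by
        apply ih _ (pow_mem hx p) (pow_mem hxC p)
        rw [← pow_mul, ← pow_succ', hx1]
      apply fixed_of_fixed hP a ha
      apply hfix _ (H.mul_mem (H.inv_mem hx) (haH x hx)) (hT x hx)
      have h2 : Commute x⁻¹ (a x) := (Commute.inv_left (mem_centralizer_iff.1 hxC (a x) (haH x hx)).symm)
      obtain ⟨r, hr⟩ := hpq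
      have h3 : (x⁻¹ * a x) ^ p = 1 := by rw [h2.mul_pow, ← map_pow, h1, inv_pow, inv_mul_cancel]
      rw [hr, pow_mul, h3, one_pow]
  intro x hx
  apply fixed_of_fixed hP a ha
  have hax : a x ∈ H := haH x hx
  have huH : x⁻¹ * a x ∈ H := H.mul_mem (H.inv_mem hx) hax
  apply hfix _ huH (hT x hx)
  have hxp : a (x ^ p) = x ^ p := by
    obtain ⟨k, hk⟩ := hP (x ^ p)
    exact key k _ (pow_mem hx p) (hpow x hx) hk
  obtain ⟨u, hu⟩ : ∃ u, u = x⁻¹ * a x := ⟨_, rfl⟩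
  have hax' : a x = x * u := by rw [hu]; group
  rw [← hu] at huH ⊢
  have hxu : (x * u) ^ p = x ^ p := by rw [← hax', ← map_pow, hxp]
  have hc : ⁅u⁻¹, x⁻¹⁆ ∈ H ⊓ centralizer (H : Set P) := hHP (commutator_mem_commutator (inv_mem huH) (mem_top _))
  obtain ⟨c, hcdef⟩ : ∃ c, c = ⁅u⁻¹, x⁻¹⁆ := ⟨_, rfl⟩
  rw [← hcdef] at hc
  have e1 : u * x = x * u * c := by
    rw [hcdef, commutatorElement_def]; group
  have hcx : Commute c x := (mem_centralizer_iff.mp hc.2 x hx).symm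
  have hcy : Commute c u := (mem_centralizer_iff.mp hc.2 u huH).symm
  have h2 := PGroupOdd.pow_eq_one_of_comm' e1 hcy (n := p) (by
    have := mem_centralizer_iff.mp (hpow u huH) x hx
    exact this.symm)
  rw [PGroupOdd.mul_pow_of_comm e1 hcx hcy] at hxu
  rcases hq with ⟨hp2, rfl⟩ | ⟨rfl, rfl⟩
  · rw [PGroupOdd.pow_choose_two_eq_one hp.out hp2 h2, mul_one] at hxu
    exact mul_left_cancel (hxu.trans (mul_one _).symm)
  · have h3 : u ^ 2 * c ^ Nat.choose 2 2 = 1 := by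
      rw [mul_assoc] at hxu
      exact mul_left_cancel (hxu.trans (mul_one _).symm)
    rw [Nat.choose_self, pow_one] at h3
    have h4 : u ^ 2 = c⁻¹ := eq_inv_of_mul_eq_one_left h3
    rw [show (4 : ℕ) = 2 * 2 from rfl, pow_mul, h4, inv_pow, h2, inv_one]

/-- A `p'`-automorphism fixing the elements of order `p` (or dividing 4) is trivial. -/
theorem eq_one_of_fix [Finite P] {p : ℕ} [hp : Fact p.Prime] (hP : IsPGroup p P) {q : ℕ}
    (hq : (p ≠ 2 ∧ q = p) ∨ (p = 2 ∧ q = 4)) (a : MulAut P) (ha : Nat.Coprime (orderOf a) p)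
    (h : ∀ x : P, x ^ q = 1 → a x = x) : a = 1 := by
  obtain ⟨H, hHc, -, hHP, hC, hpow⟩ := exists_critical hP
  exact crit_core hP hq hHc hHP hC hpow ⊤ a ha (fun _ _ => mem_top _) (fun x _ _ => h x)

/-- Elements of order dividing `q` of the critical subgroup form a subgroup. -/
theorem exists_small_char [Finite P] {p : ℕ} [hp : Fact p.Prime] (hP : IsPGroup p P) {q : ℕ}
    (hq : (p ≠ 2 ∧ q = p) ∨ (p = 2 ∧ q = 4)) : ∃ D : Subgroup P, D.Characteristic ∧ (∀ x ∈ D, x ^ q = 1) ∧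
      ∀ a : MulAut P, Nat.Coprime (orderOf a) p → (∀ x ∈ D, a x = x) → a = 1 := by
  obtain ⟨H, hHc, -, hHP, hC, hpow⟩ := exists_critical hP
  have hmul : ∀ x ∈ H, ∀ y ∈ H, x ^ q = 1 → y ^ q = 1 → (x * y) ^ q = 1 := by
    intro x hx y hy hx1 hy1
    have hc : ⁅y⁻¹, x⁻¹⁆ ∈ H ⊓ centralizer (H : Set P) := hHP (commutator_mem_commutator (inv_mem hy) (mem_top _))
    obtain ⟨c, hcdef⟩ : ∃ c, c = ⁅y⁻¹, x⁻¹⁆ := ⟨_, rfl⟩
    rw [← hcdef] at hc
    have e1 : y * x = x * y * c := by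
      rw [hcdef, commutatorElement_def]; group
    have hcx : Commute c x := (mem_centralizer_iff.mp hc.2 x hx).symm
    have hcy : Commute c y := (mem_centralizer_iff.mp hc.2 y hy).symm
    have h2 := PGroupOdd.pow_eq_one_of_comm' e1 hcy (n := p) (by
      have := mem_centralizer_iff.mp (hpow y hy) x hx
      exact this.symm)
    rw [PGroupOdd.mul_pow_of_comm e1 hcx hcy, hx1, hy1, one_mul, one_mul]
    rcases hq with ⟨hp2, rfl⟩ | ⟨rfl, rfl⟩
    · exact PGroupOdd.pow_choose_two_eq_one hp.out hp2 h2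
    · have : Nat.choose 4 2 = 2 * 3 := by decide
      rw [this, pow_mul, h2, one_pow]
  let D : Subgroup P :=
    { carrier := {x | x ∈ H ∧ x ^ q = 1}
      one_mem' := ⟨H.one_mem, one_pow _⟩
      mul_mem' := fun {x y} hx hy => ⟨H.mul_mem hx.1 hy.1, hmul x hx.1 y hy.1 hx.2 hy.2⟩
      inv_mem' := fun {x} hx => ⟨H.inv_mem hx.1, by rw [inv_pow, hx.2, inv_one]⟩ }
  refine ⟨D, ?_, fun x hx => hx.2, fun a ha h => ?_⟩
  · rw [characteristic_iff_le_comap]
    intro φ x hx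
    exact ⟨characteristic_iff_le_comap.mp hHc φ hx.1, by rw [← map_pow, hx.2, map_one]⟩
  · exact crit_core hP hq hHc hHP hC hpow ⊤ a ha (fun _ _ => mem_top _) (fun x hx _ hx1 => h x ⟨hx, hx1⟩)

/-- The version with a normal subgroup `T` containing the commutators. -/
theorem eq_one_of_small_in [Finite P] {p : ℕ} [hp : Fact p.Prime] (hP : IsPGroup p P) {q : ℕ}
    (hq : (p ≠ 2 ∧ q = p) ∨ (p = 2 ∧ q = 4)) (T : Subgroup P) [hTn : T.Normal] (a : MulAut P)
    (ha : Nat.Coprime (orderOf a) p) (hT : ∀ x, x⁻¹ * a x ∈ T)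
    (h : ∀ B : Subgroup P, B ≤ T → B.Normal → (∀ x ∈ B, ∀ y ∈ B, x * y = y * x) → (∀ x ∈ B, x ^ q = 1) →
      B ≤ center P ∧ ∀ x ∈ B, a x = x) : a = 1 := by
  obtain ⟨H, hHc, -, hHP, hC, hpow⟩ := exists_critical hP
  have hHn : H.Normal := Subgroup.normal_of_characteristic H
  refine crit_core hP hq hHc hHP hC hpow T a ha (fun x _ => hT x) ?_
  let Zq : Subgroup P :=
    { carrier := {z | z ∈ H ∧ z ∈ T ∧ z ∈ centralizer (H : Set P) ∧ z ^ q = 1}
      one_mem' := ⟨H.one_mem, T.one_mem, Subgroup.one_mem _, one_pow q⟩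
      mul_mem' := by
        rintro x y ⟨h1, h1', h2, h3⟩ ⟨k1, k1', k2, k3⟩
        refine ⟨H.mul_mem h1 k1, T.mul_mem h1' k1', Subgroup.mul_mem _ h2 k2, ?_⟩
        have hc : Commute x y := mem_centralizer_iff.1 k2 x h1
        rw [hc.mul_pow, h3, k3, one_mul]
      inv_mem' := by
        rintro x ⟨h1, h1', h2, h3⟩
        exact ⟨H.inv_mem h1, T.inv_mem h1', Subgroup.inv_mem _ h2, by rw [inv_pow, h3, inv_one]⟩ }
  have hZq : ∀ z, z ∈ Zq ↔ z ∈ H ∧ z ∈ T ∧ z ∈ centralizer (H : Set P) ∧ z ^ q = 1 := fun z => Iff.rfl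
  have hCn : (centralizer (H : Set P)).Normal := inferInstance
  have hZn : Zq.Normal := by
    refine ⟨fun z hz g => ?_⟩
    obtain ⟨h1, h1', h2, h3⟩ := (hZq z).1 hz
    refine (hZq _).2 ⟨hHn.conj_mem z h1 g, hTn.conj_mem z h1' g, hCn.conj_mem z h2 g, ?_⟩
    rw [conj_pow, h3, mul_one, mul_inv_cancel]
  have hZqc : Zq ≤ center P ∧ ∀ x ∈ Zq, a x = x := h Zq (fun z hz => hz.2.1) hZn
    (fun x hx y hy => mem_centralizer_iff.1 ((hZq y).1 hy).2.2.1 x ((hZq x).1 hx).1)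
    (fun x hx => ((hZq x).1 hx).2.2.2)
  intro x hx hxT hxq
  have hcomm : ∀ g : P, g * x * g⁻¹ * x⁻¹ ∈ Zq := by
    intro g
    have h1 : ⁅x, g⁆ ∈ H ⊓ centralizer (H : Set P) := hHP (commutator_mem_commutator hx (mem_top g))
    have h2 : g * x * g⁻¹ * x⁻¹ = ⁅x, g⁆⁻¹ := by rw [commutatorElement_def]; group
    have h3 : g * x * g⁻¹ * x⁻¹ ∈ H ⊓ centralizer (H : Set P) := by rw [h2]; exact Subgroup.inv_mem _ h1
    refine (hZq _).2 ⟨h3.1, T.mul_mem (hTn.conj_mem x hxT g) (T.inv_mem hxT), h3.2, ?_⟩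
    have h4 : (g * x * g⁻¹) ^ q = 1 := by rw [conj_pow, hxq, mul_one, mul_inv_cancel]
    have h5 : Commute (g * x * g⁻¹ * x⁻¹) x := (mem_centralizer_iff.1 h3.2 x hx).symm
    have h6 : (g * x * g⁻¹ * x⁻¹ * x) ^ q = 1 := by rw [inv_mul_cancel_right]; exact h4
    rw [h5.mul_pow, hxq, mul_one] at h6
    exact h6
  let B : Subgroup P :=
    { carrier := {y | ∃ k : ℤ, ∃ z ∈ Zq, y = x ^ k * z}
      one_mem' := ⟨0, 1, Zq.one_mem, by simp⟩
      mul_mem' := by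
        rintro _ _ ⟨k, z, hz, rfl⟩ ⟨l, w, hw, rfl⟩
        refine ⟨k + l, z * w, Zq.mul_mem hz hw, ?_⟩
        have h1 := mem_center_iff.1 (hZqc.1 hz) (x ^ l)
        rw [zpow_add]
        calc x ^ k * z * (x ^ l * w) = x ^ k * (z * x ^ l) * w := by group
          _ = x ^ k * (x ^ l * z) * w := by rw [h1]
          _ = _ := by group
      inv_mem' := by
        rintro _ ⟨k, z, hz, rfl⟩
        refine ⟨-k, z⁻¹, Zq.inv_mem hz, ?_⟩
        have h1 := mem_center_iff.1 (hZqc.1 (Zq.inv_mem hz)) (x ^ (-k))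
        rw [mul_inv_rev, h1, zpow_neg] }
  have hB : ∀ y, y ∈ B ↔ ∃ k : ℤ, ∃ z ∈ Zq, y = x ^ k * z := fun y => Iff.rfl
  have hxB : x ∈ B := (hB x).2 ⟨1, 1, Zq.one_mem, by simp⟩
  have hZB : Zq ≤ B := fun z hz => (hB z).2 ⟨0, z, hz, by simp⟩
  have hBn : B.Normal := by
    refine ⟨fun y hy g => ?_⟩
    obtain ⟨k, z, hz, rfl⟩ := (hB y).1 hy
    have h1 : g * x * g⁻¹ ∈ B := by
      have : g * x * g⁻¹ = (g * x * g⁻¹ * x⁻¹) * x := by group
      rw [this]
      exact B.mul_mem (hZB (hcomm g)) hxB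
    have h2 : g * (x ^ k * z) * g⁻¹ = (g * x * g⁻¹) ^ k * (g * z * g⁻¹) := by
      rw [conj_zpow]; group
    rw [h2]
    exact B.mul_mem (B.zpow_mem h1 k) (hZB (hZn.conj_mem z hz g))
  have h1 := h B (by
    intro y hy
    obtain ⟨k, z, hz, rfl⟩ := (hB y).1 hy
    exact T.mul_mem (T.zpow_mem hxT k) hz.2.1) hBn (by
    intro y hy w hw
    obtain ⟨k, z, hz, rfl⟩ := (hB y).1 hy
    obtain ⟨l, v, hv, rfl⟩ := (hB w).1 hw
    have h1 : Commute z (x ^ l * v) := (mem_center_iff.1 (hZqc.1 hz) _).symm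
    have h2 : Commute (x ^ k) v := mem_center_iff.1 (hZqc.1 hv) _
    have h3 : Commute (x ^ k) (x ^ l) := (Commute.refl x).zpow_zpow k l
    exact (Commute.mul_left (h3.mul_right h2) h1)) (by
    intro y hy
    obtain ⟨k, z, hz, rfl⟩ := (hB y).1 hy
    have h2 : Commute (x ^ k) z := mem_center_iff.1 (hZqc.1 hz) _
    rw [h2.mul_pow, ((hZq z).1 hz).2.2.2, mul_one, ← zpow_natCast, ← zpow_mul, mul_comm, zpow_mul, zpow_natCast, hxq,
      one_zpow])
  exact h1.2 x hxB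

end Cfsg.Agent.Lib.H88Small
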