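import Cfsg.Agent.Lib.FusionNormal
import Cfsg.Agent.Lib.FusionOmega
import Cfsg.Agent.Lib.FusionHyper
import Cfsg.Agent.Lib.FusionRad
import Cfsg.Agent.Lib.H88Small

/-!
Control by cyclic subgroups of order `p` or 4 of the focal / hyperfocal subgroup.
-/

set_option autoImplicit false
set_option maxHeartbeats 400000

namespace Cfsg.Agent.Lib.FusionCyclic

open Cfsg Cfsg.FusionSystem Cfsg.Agent.Lib.FusionBasic Cfsg.Agent.Lib.FusionSat Cfsg.Agent.Lib.FusionNormal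
  Cfsg.Agent.Lib.FusionAlperin

variable {Ω : Type*} [Group Ω] {S : Subgroup Ω} {F : FusionSystem S} {P T : Subgroup Ω} {p q : ℕ}

theorem aut_coe_mem {P T : Subgroup Ω} (hT : F.StronglyClosed T) (hP : P ≤ S) {α : MulAut P} (hα : α ∈ F.autGroup P)
    {y : P} (hy : (y : Ω) ∈ T) : ((α y : P) : Ω) ∈ T := by
  have h1 := StronglyClosed.map_mem F hT (fmap_of_autGroup hP hα) y.2 hy
  rwa [autFun_coe] at h1

/-- the detecting subgroup `D` of `P ∩ T` -/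
theorem exists_detect [Finite S] [Fact p.Prime] (hS : IsPGroup p S) (hq : (p ≠ 2 ∧ q = p) ∨ (p = 2 ∧ q = 4))
    (hT : F.StronglyClosed T) (hhyp : F.hyperfocalSubgroup p ≤ T) (hP : P ≤ S) :
    ∃ D : Subgroup Ω, D ≤ P ∧ D ≤ T ∧ (∀ x ∈ D, x ^ q = 1) ∧
      (∀ α ∈ F.autGroup P, ∀ x : P, (x : Ω) ∈ D → ((α x : P) : Ω) ∈ D) ∧
      ∀ α ∈ F.autGroup P, (orderOf α).Coprime p → (∀ x : P, (x : Ω) ∈ D → α x = x) → α = 1 := by
  have hPfin : Finite P := finite_of_le hP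
  have hRS : P ⊓ T ≤ S := inf_le_left.trans hP
  have hRfin : Finite ↥(P ⊓ T) := finite_of_le hRS
  have hRp : IsPGroup p ↥(P ⊓ T) := hS.to_le hRS
  obtain ⟨D, hDc, hDq, hDa⟩ := Cfsg.Agent.Lib.H88Small.exists_small_char hRp hq
  have hinv : ∀ α ∈ F.autGroup P, ∀ x : P, (x : Ω) ∈ P ⊓ T → ((α x : P) : Ω) ∈ P ⊓ T := fun α hα x hx =>
    ⟨(α x).2, aut_coe_mem hT hP hα hx.2⟩
  refine ⟨D.map (P ⊓ T).subtype, ?_, ?_, ?_, ?_, ?_⟩
  · rintro _ ⟨x, hx, rfl⟩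
    exact x.2.1
  · rintro _ ⟨x, hx, rfl⟩
    exact x.2.2
  · rintro _ ⟨x, hx, rfl⟩
    exact congrArg Subtype.val (hDq x hx)
  · intro α hα x hx
    obtain ⟨y, hy, hyx⟩ := hx
    obtain ⟨β, hβ, hβα, -⟩ := Cfsg.Agent.Lib.FusionOmega.exists_restrict hP hα inf_le_left (hinv α hα)
    refine ⟨β y, Subgroup.characteristic_iff_le_comap.1 hDc β hy, ?_⟩
    show ((β y : ↥(P ⊓ T)) : Ω) = _
    rw [hβα y]
    congr 2
    exact Subtype.ext hyx
  · intro α hα hαo hfix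
    obtain ⟨β, hβ, hβα, hβo⟩ := Cfsg.Agent.Lib.FusionOmega.exists_restrict hP hα inf_le_left (hinv α hα)
    have hβ1 : β = 1 := by
      apply hDa β (Nat.Coprime.coprime_dvd_left hβo hαo)
      intro x hx
      apply Subtype.ext
      rw [hβα x, hfix ⟨x, x.2.1⟩ ⟨x, hx, rfl⟩]
    apply MulEquiv.ext
    intro x
    apply Cfsg.Agent.Lib.Critical.fixed_of_fixed (hS.to_le hP) α hαo
    have h1 : ((x⁻¹ * α x : P) : Ω) ∈ P ⊓ T := by
      refine ⟨(x⁻¹ * α x).2, hhyp ?_⟩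
      rw [Cfsg.Agent.Lib.FusionHyper.hyp_eq]
      exact Subgroup.subset_closure ⟨P, α, hP, hα, hαo, x, rfl⟩
    have h2 := hβα ⟨_, h1⟩
    rw [hβ1] at h2
    exact Subtype.ext h2.symm

/-- a chain stabilized by `S` in a radical centric subgroup -/
theorem eq_top_of_chain [Finite S] [Fact p.Prime] (hS : IsPGroup p S) (hc : F.IsCentric P) (hr : F.IsRadical p P)
    (C : ℕ → Subgroup Ω) (n : ℕ) (hC0 : C 0 = ⊥)
    (hinv : ∀ i, ∀ α ∈ F.autGroup P, ∀ x : P, (x : Ω) ∈ C i → ((α x : P) : Ω) ∈ C i)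
    (hcomm : ∀ i, ∀ s ∈ S, s ∈ Subgroup.normalizer (P : Set Ω) → ∀ x ∈ C (i + 1), x ∈ P → x⁻¹ * (s * x * s⁻¹) ∈ C i)
    (hdet : ∀ α ∈ F.autGroup P, (orderOf α).Coprime p → (∀ x : P, (x : Ω) ∈ C n → α x = x) → α = 1) : P = S := by
  have hP : P ≤ S := hc.1
  have hPfin : Finite P := finite_of_le hP
  let K : Subgroup (MulAut P) :=
    { carrier := {c | c ∈ F.autGroup P ∧ ∀ i, ∀ x : P, (x : Ω) ∈ C (i + 1) → ((x⁻¹ * c x : P) : Ω) ∈ C i}
      one_mem' := ⟨Subgroup.one_mem _, fun i x hx => by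
        show ((x⁻¹ * x : P) : Ω) ∈ C i
        rw [inv_mul_cancel]; exact Subgroup.one_mem _⟩
      mul_mem' := by
        rintro a b ⟨ha, ha'⟩ ⟨hb, hb'⟩
        refine ⟨Subgroup.mul_mem _ ha hb, fun i x hx => ?_⟩
        have h1 := hb' i x hx
        have h2 := ha' i (b x) (hinv _ b hb x hx)
        have h3 : x⁻¹ * (a * b) x = (x⁻¹ * b x) * ((b x)⁻¹ * a (b x)) := by
          rw [MulAut.mul_apply]; group
        rw [h3, Subgroup.coe_mul]
        exact Subgroup.mul_mem _ h1 h2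
      inv_mem' := by
        rintro a ⟨ha, ha'⟩
        refine ⟨Subgroup.inv_mem _ ha, fun i x hx => ?_⟩
        have h1 := ha' i (a⁻¹ x) (hinv _ _ (Subgroup.inv_mem _ ha) x hx)
        rw [MulAut.apply_inv_self] at h1
        have h3 : x⁻¹ * a⁻¹ x = ((a⁻¹ x)⁻¹ * x)⁻¹ := by group
        rw [h3, Subgroup.coe_inv]
        exact Subgroup.inv_mem _ h1 }
  have hKA : K ≤ F.autGroup P := fun c hc => hc.1
  have hKp : IsPGroup p K := by
    have hKfin : Finite K := inferInstance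
    refine Cfsg.Agent.Lib.FusionClosed.isPGroup_of_coprime_trivial fun c hco => ?_
    have hco' : (orderOf (c : MulAut P)).Coprime p := by rw [Subgroup.orderOf_coe]; exact hco
    have h1 : ∀ i, ∀ x : P, (x : Ω) ∈ C i → (c : MulAut P) x = x := by
      intro i
      induction i with
      | zero =>
        intro x hx
        rw [hC0, Subgroup.mem_bot] at hx
        have : x = 1 := Subtype.ext hx
        rw [this, map_one]
      | succ i ih =>
        intro x hx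
        exact Cfsg.Agent.Lib.Critical.fixed_of_fixed (hS.to_le hP) (c : MulAut P) hco' (ih _ (c.2.2 i x hx))
    exact Subtype.ext (hdet _ c.2.1 hco' (h1 n))
  have hKinn : K ≤ Inn P := by
    refine le_inn_of_radical hr hKA hKp ?_
    rintro a ha c ⟨hc1, hc2⟩
    refine ⟨Subgroup.mul_mem _ (Subgroup.mul_mem _ ha hc1) (Subgroup.inv_mem _ ha), fun i x hx => ?_⟩
    have h1 := hc2 i (a⁻¹ x) (hinv _ _ (Subgroup.inv_mem _ ha) x hx)
    have h2 := hinv _ a ha _ h1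
    rw [map_mul, map_inv, MulAut.apply_inv_self] at h2
    exact h2
  by_contra hne
  obtain ⟨t, ht, htP⟩ := SetLike.exists_of_lt (lt_normalizerIn hS (le_refl S) (lt_of_le_of_ne hP hne))
  obtain ⟨htS, htn⟩ := mem_normalizerIn.1 ht
  apply htP
  refine mem_of_conj_mem_inn (hc.2 P (isConj_refl F hP)) htS htn (hKinn ?_) hP
  refine ⟨conjAut_mem_autGroup hP htn htS, fun i x hx => ?_⟩
  exact hcomm i t htS htn x hx x.2

/-- the upper central series of `S` inside the ambient group -/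
def Z (S : Subgroup Ω) (i : ℕ) : Subgroup Ω := (Subgroup.upperCentralSeries S i).map S.subtype

theorem Z_zero : Z S 0 = ⊥ := by
  rw [Z, Subgroup.upperCentralSeries_zero, Subgroup.map_bot]

theorem Z_comm {i : ℕ} {s x : Ω} (hs : s ∈ S) (hx : x ∈ Z S (i + 1)) : x⁻¹ * (s * x * s⁻¹) ∈ Z S i := by
  obtain ⟨y, hy, rfl⟩ := hx
  have h1 := (Subgroup.mem_upperCentralSeries_succ_iff.1 ((Subgroup.upperCentralSeries S (i + 1)).inv_mem hy)) ⟨s, hs⟩
  refine ⟨y⁻¹ * ⟨s, hs⟩ * y⁻¹⁻¹ * ⟨s, hs⟩⁻¹, h1, ?_⟩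
  show (y : Ω)⁻¹ * s * ((y : Ω)⁻¹)⁻¹ * s⁻¹ = _
  rw [inv_inv]
  simp only [mul_assoc]
  rfl

theorem exists_Z_top [Finite S] [Fact p.Prime] (hS : IsPGroup p S) : ∃ n, Z S n = S := by
  have hn : Group.IsNilpotent S := hS.isNilpotent
  obtain ⟨n, hn⟩ := hn.nilpotent'
  refine ⟨n, ?_⟩
  rw [Z, hn]
  ext x
  simp

theorem Z_aut {i : ℕ} {g : Ω → Ω} (hg : FIso F S S g) {x : Ω} (hx : x ∈ Z S i) : g x ∈ Z S i := by
  obtain ⟨y, hy, rfl⟩ := hx
  have hc : (Subgroup.upperCentralSeries S i).Characteristic := inferInstance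
  exact ⟨hg.equiv y, Subgroup.characteristic_iff_le_comap.1 hc hg.equiv hy, rfl⟩

/-- cyclic subgroups generated by an element of order dividing `q` -/
theorem card_cases [Fact p.Prime] (hq : (p ≠ 2 ∧ q = p) ∨ (p = 2 ∧ q = 4)) {x : Ω} (hx : x ^ q = 1) (hx1 : x ≠ 1) :
    Nat.card (Subgroup.zpowers x) = p ∨ Nat.card (Subgroup.zpowers x) = 4 := by
  rw [Nat.card_zpowers]
  have h1 := orderOf_dvd_of_pow_eq_one hx
  have h2 : orderOf x ≠ 1 := fun h => hx1 (orderOf_eq_one_iff.1 h)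
  rcases hq with ⟨-, rfl⟩ | ⟨rfl, rfl⟩
  · left
    exact ((Nat.dvd_prime Fact.out).1 h1).resolve_left h2
  · have h3 : orderOf x ∣ 2 ^ 2 := h1
    obtain ⟨k, hk, hk'⟩ := (Nat.dvd_prime_pow Nat.prime_two).1 h3
    have h4 : k = 1 ∨ k = 2 := by
      rcases Nat.eq_zero_or_pos k with h | h
      · rw [h, pow_zero] at hk'; exact absurd hk' h2
      · omega
    rcases h4 with rfl | rfl
    · left; rw [hk']; rfl
    · right; rw [hk']; rfl

/-- control by cyclic subgroups of order `p` or 4 of the hyperfocal subgroup: elements form -/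
theorem elt_of_homSet [Finite S] [Fact p.Prime] (hS : IsPGroup p S) (hF : F.IsSaturated p)
    (hT : F.StronglyClosed (F.hyperfocalSubgroup p)) (hq : (p ≠ 2 ∧ q = p) ∨ (p = 2 ∧ q = 4))
    (Q : (A : Subgroup Ω) → Set (A →* Ω))
    (h : ∀ A B : Subgroup Ω, A ≤ (F.hyperfocalSubgroup p) → B ≤ (F.hyperfocalSubgroup p) → IsCyclic ↥A →
      (Nat.card ↥A = p ∨ Nat.card ↥A = 4) → IsCyclic ↥B → (Nat.card ↥B = p ∨ Nat.card ↥B = 4) →
      F.homSet A B ⊆ Q A) {x : Ω} (hx : x ∈ F.hyperfocalSubgroup p) (hxq : x ^ q = 1) (hx1 : x ≠ 1)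
    {P : Subgroup Ω} {f : Ω → Ω} (hf : FMap F P f) (hxP : x ∈ P) :
    ∃ φ : Subgroup.zpowers x →* Ω, φ ∈ Q (Subgroup.zpowers x) ∧ φ ⟨x, Subgroup.mem_zpowers x⟩ = f x := by
  have hle : Subgroup.zpowers x ≤ P := by rwa [Subgroup.zpowers_le]
  have hfx : f x ∈ F.hyperfocalSubgroup p := StronglyClosed.map_mem F hT hf hxP hx
  have hfxq : (f x) ^ q = 1 := by rw [← hf.map_pow hxP, hxq, hf.map_one]
  have hfx1 : f x ≠ 1 := fun h => hx1 (hf.eq_one hxP h)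
  obtain ⟨φ, hφ, hφf⟩ := hf.restrict hle
  refine ⟨φ, ?_, hφf _⟩
  refine h (Subgroup.zpowers x) (Subgroup.zpowers (f x)) (by rwa [Subgroup.zpowers_le]) (by rwa [Subgroup.zpowers_le])
    (Subgroup.isCyclic_zpowers x) (card_cases hq hxq hx1) (Subgroup.isCyclic_zpowers (f x)) (card_cases hq hfxq hfx1) ?_
  refine ⟨hφ, ?_⟩
  rintro ⟨_, n, rfl⟩
  rw [hφf]
  show f (x ^ n) ∈ _
  rw [hf.map_zpow hxP]
  exact Subgroup.zpow_mem _ (Subgroup.mem_zpowers _) n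

theorem fiso_top_of_normalizerHom [Finite S] {A : Subgroup Ω} {φ : A →* Ω} (h : φ ∈ F.normalizerHom S A) :
    ∃ g : Ω → Ω, FIso F S S g ∧ ∀ x : A, g x = φ x := by
  obtain ⟨h1, h2, h3, ψ, hψ, hψ2, -⟩ := h
  have h4 : FMap F (A ⊔ S) (toFun ψ) := fmap_toFun.2 hψ
  have h5 := h4.restrict (le_sup_right : S ≤ A ⊔ S)
  refine ⟨toFun ψ, fiso_of_fmap_top h5, fun x => ?_⟩
  rw [← hψ2 x]
  exact toFun_coe ψ (Subgroup.inclusion le_sup_left x)

end Cfsg.Agent.Lib.FusionCyclic
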