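import Cfsg.Agent.Lib.FusionFocal
import Cfsg.Agent.Lib.FusionEss
import Cfsg.Agent.Lib.FusionGrp
import Cfsg.Agent.Lib.RelSylow

/-! Strongly embedded subgroups and abelian essential subgroups (helper87). -/

set_option autoImplicit false
open Cfsg Cfsg.FusionSystem Cfsg.Agent.Lib.FusionBasic Cfsg.Agent.Lib.FusionSat Cfsg.Agent.Lib.FusionAlperin
  Cfsg.Agent.Lib.FusionNormal Cfsg.Agent.Lib

namespace Cfsg.Agent.Lib.FusionEmb

variable {Ω : Type*} [Group Ω] {S P Q R : Subgroup Ω} {F : FusionSystem S} {p : ℕ}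

theorem conjAut_zpow {s : Ω} (hs : s ∈ Subgroup.normalizer (P : Set Ω)) (n : ℤ) (x : P) :
    (((conjAut P s hs) ^ n) x : Ω) = s ^ n * x * (s ^ n)⁻¹ := by
  have hnat : ∀ (n : ℕ) (x : P), (((conjAut P s hs) ^ n) x : Ω) = s ^ n * x * (s ^ n)⁻¹ := by
    intro n
    induction n with
    | zero => intro x; simp
    | succ n ih => intro x; rw [pow_succ', MulAut.mul_apply, conjAut_apply, ih, pow_succ']; group
  obtain ⟨m, rfl | rfl⟩ := n.eq_nat_or_neg
  · rw [zpow_natCast, zpow_natCast]; exact hnat m x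
  · have h1 := hnat m (((conjAut P s hs) ^ (-(m : ℤ))) x)
    rw [← MulAut.mul_apply, zpow_neg, zpow_natCast, mul_inv_cancel] at h1
    have h2 : ((1 : MulAut P) x : Ω) = x := rfl
    rw [h2] at h1
    rw [zpow_neg, zpow_natCast, zpow_neg, zpow_natCast, h1]
    group

/-- transport of a nontrivial element of `Aut_S(P)` into `Aut_S(P)` -/
theorem mem_extAuts [Finite S] [Fact p.Prime] (hS : IsPGroup p S) (hF : F.IsSaturated p) (hP : F.IsEssential p P)
    (hab : ∀ x ∈ P, ∀ y ∈ P, x * y = y * x) {α t : MulAut P} (hα : α ∈ F.autGroup P) (ht : t ∈ autInducedBy S P)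
    (ht1 : t ≠ 1) (hαt : α * t * α⁻¹ ∈ autInducedBy S P) : α ∈ extAuts F P := by
  obtain ⟨τ, hτ, hτt⟩ := mem_autInducedBy_iff.1 ht
  have hτn := mem_normalizer_of_aut hτt
  have hPS := hP.1.1
  have hτP : τ ∉ P := by
    intro h
    apply ht1
    refine MulEquiv.ext fun v => Subtype.ext ?_
    rw [hτt, hab τ h v v.2]
    show (v : Ω) * τ * τ⁻¹ = v
    group
  have hlt : P < P ⊔ Subgroup.zpowers τ :=
    lt_of_le_of_ne le_sup_left fun h1 => hτP (by rw [h1]; exact Subgroup.mem_sup_right (Subgroup.mem_zpowers τ))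
  have hzn : Subgroup.zpowers τ ≤ Subgroup.normalizer (P : Set Ω) := Subgroup.zpowers_le.2 hτn
  have hle : P ⊔ Subgroup.zpowers τ ≤ normalizerIn S P :=
    sup_le (le_normalizerIn hPS) (Subgroup.zpowers_le.2 ⟨hτ, hτn⟩)
  refine mem_extAuts_of_transport (receptive_of_fullyNormalized hS hF hP.2.1) hα hlt hle ?_
  intro w hw
  have hw' : w ∈ Subgroup.zpowers τ ⊔ P := by rw [sup_comm]; exact hw
  obtain ⟨_, ⟨k, rfl⟩, y, hy, hwy⟩ := (mem_sup_of_normalizes hzn).1 hw'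
  have hwy' : τ ^ k * y = w := hwy
  have htc : t = conjAut P τ hτn := MulEquiv.ext fun v => Subtype.ext (by rw [hτt, conjAut_apply])
  have h1 : conjAut P w (hle hw).2 = t ^ k := by
    refine MulEquiv.ext fun v => Subtype.ext ?_
    rw [conjAut_apply, htc, conjAut_zpow, ← hwy']
    have h2 := hab y hy v v.2
    calc τ ^ k * y * (v : Ω) * (τ ^ k * y)⁻¹ = τ ^ k * (y * v) * y⁻¹ * (τ ^ k)⁻¹ := by group
      _ = τ ^ k * (v : Ω) * (τ ^ k)⁻¹ := by rw [h2]; group
  rw [h1, ← conj_zpow]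
  exact Subgroup.zpow_mem _ hαt k

/-- In an abelian essential subgroup there is a conjugate of `Aut_S(P)` none of whose nontrivial elements commutes with a
nontrivial element of `Aut_S(P)`. -/
theorem exists_not_commute [Finite S] [Fact p.Prime] (hS : IsPGroup p S) (hF : F.IsSaturated p) (hP : F.IsEssential p P)
    (hab : ∀ x ∈ P, ∀ y ∈ P, x * y = y * x) : ∃ g ∈ F.autGroup P, ∀ t ∈ autInducedBy S P, ∀ s ∈ autInducedBy S P,
      t ≠ 1 → s ≠ 1 → t * (g * s * g⁻¹) ≠ (g * s * g⁻¹) * t := by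
  have hPS := FusionEss.lt_of_essential hS hF hP
  have hfin : Finite P := finite_of_le hPS.le
  have hH := extAuts_ne_of_essential hS hF hPS hP
  obtain ⟨g, hg, hgH⟩ := SetLike.exists_of_lt (lt_of_le_of_ne (extAuts_le (F := F) (P := P)) hH)
  refine ⟨g, hg, fun t ht s hs ht1 hs1 hcomm => hgH ?_⟩
  have hTA := autInducedBy_le_autGroup (F := F) hPS.le (le_refl S)
  obtain ⟨r, hr⟩ : ∃ r, r = g * s * g⁻¹ := ⟨_, rfl⟩
  have hr1 : r ≠ 1 := by
    intro h
    apply hs1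
    rw [hr] at h
    have h2 : s = g⁻¹ * (g * s * g⁻¹) * g := by group
    rw [h2, h]; group
  have hrA : r ∈ F.autGroup P := by
    rw [hr]; exact Subgroup.mul_mem _ (Subgroup.mul_mem _ hg (hTA hs)) (Subgroup.inv_mem _ hg)
  rw [← hr] at hcomm
  have hrH : r ∈ extAuts F P := by
    refine mem_extAuts hS hF hP hab hrA ht ht1 ?_
    have h2 : r * t * r⁻¹ = t := by rw [← hcomm]; group
    rw [h2]; exact ht
  obtain ⟨hauto, hrec⟩ := automized_receptive_of_fullyNormalized hS hF hP.2.1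
  have hsyl : RelSylow.IsSyl p (autInducedBy S P) (F.autGroup P) :=
    ⟨autInducedBy_le_autGroup hPS.le le_rfl, isPGroup_autInducedBy hS le_rfl, ((isFullyAutomized_iff hS).1 hauto).2⟩
  have hsyl2 : RelSylow.IsSyl p (autInducedBy S P) (extAuts F P) :=
    hsyl.of_le (autInducedBy_le_extAuts hS hPS) extAuts_le
  have hzr : IsPGroup p (Subgroup.zpowers r) := by
    obtain ⟨k, hk⟩ := (isPGroup_autInducedBy hS (le_refl S) : IsPGroup p (autInducedBy S P)) ⟨s, hs⟩
    have hk' : s ^ p ^ k = 1 := congrArg Subtype.val hk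
    have hrk : r ^ p ^ k = 1 := by rw [hr, conj_pow, hk']; group
    rintro ⟨_, n, rfl⟩
    refine ⟨k, Subtype.ext ?_⟩
    show (r ^ n) ^ p ^ k = 1
    rw [← zpow_natCast, ← zpow_mul, mul_comm, zpow_mul, zpow_natCast, hrk, one_zpow]
  obtain ⟨h, hh, hle⟩ := hsyl2.exists_conj_le hzr (Subgroup.zpowers_le.2 hrH)
  obtain ⟨u, hu, h2⟩ := hle (Subgroup.mem_zpowers r)
  have h3 : h * u * h⁻¹ = r := h2
  have h4 : (h⁻¹ * g) * s * (h⁻¹ * g)⁻¹ = u := by
    have h5 : (h⁻¹ * g) * s * (h⁻¹ * g)⁻¹ = h⁻¹ * r * h := by rw [hr]; group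
    rw [h5, ← h3]; group
  have h5 : h⁻¹ * g ∈ extAuts F P := by
    refine mem_extAuts hS hF hP hab (Subgroup.mul_mem _ (Subgroup.inv_mem _ (extAuts_le hh)) hg) hs hs1 ?_
    rw [h4]; exact hu
  have h6 : g = h * (h⁻¹ * g) := by group
  rw [h6]
  exact Subgroup.mul_mem _ hh h5

end Cfsg.Agent.Lib.FusionEmb
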