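import Cfsg.Agent.Lib.FusionEmb

/-! Strongly embedded subgroups of automizers of arbitrary essential subgroups, and chain stabilizers (helper87). -/

set_option autoImplicit false
open Cfsg Cfsg.FusionSystem Cfsg.Agent.Lib.FusionBasic Cfsg.Agent.Lib.FusionSat Cfsg.Agent.Lib.FusionAlperin
  Cfsg.Agent.Lib.FusionNormal Cfsg.Agent.Lib

namespace Cfsg.Agent.Lib.FusionEmbGen

variable {Ω : Type*} [Group Ω] {S P Q R Z L : Subgroup Ω} {F : FusionSystem S} {p : ℕ}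

theorem conjAut_mul {a b : Ω} (ha : a ∈ Subgroup.normalizer (R : Set Ω)) (hb : b ∈ Subgroup.normalizer (R : Set Ω))
    (hab : a * b ∈ Subgroup.normalizer (R : Set Ω)) : conjAut R (a * b) hab = conjAut R a ha * conjAut R b hb := by
  refine MulEquiv.ext fun v => Subtype.ext ?_
  rw [MulAut.mul_apply, conjAut_apply, conjAut_apply, conjAut_apply]; group

theorem conj_conjAut (β : MulAut R) (y : R) (hy : (y : Ω) ∈ Subgroup.normalizer (R : Set Ω))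
    (hy' : (β y : Ω) ∈ Subgroup.normalizer (R : Set Ω)) : β * conjAut R y hy * β⁻¹ = conjAut R (β y) hy' := by
  refine MulEquiv.ext fun v => Subtype.ext ?_
  rw [MulAut.mul_apply, MulAut.mul_apply, conjAut_apply]
  have h1 : conjAut R (y : Ω) hy (β⁻¹ v) = y * β⁻¹ v * y⁻¹ := Subtype.ext (by rw [conjAut_apply]; rfl)
  rw [h1, map_mul, map_mul, map_inv, MulAut.apply_inv_self]
  rfl

theorem conj_conjAut_mem (hRS : R ≤ S) (β : MulAut R) (y : R) (hy : (y : Ω) ∈ Subgroup.normalizer (R : Set Ω)) :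
    β * conjAut R y hy * β⁻¹ ∈ autInducedBy S R := by
  rw [conj_conjAut β y hy (Subgroup.le_normalizer (β y).2)]
  exact conjAut_mem_autInducedBy _ (hRS (β y).2)

/-- transport of `Aut_L(R)` gives transport of `Aut_{RL}(R)` -/
theorem transport_sup (hRS : R ≤ S) {β : MulAut R} (hL : L ≤ Subgroup.normalizer (R : Set Ω))
    (h : ∀ (t : Ω) (ht : t ∈ L), β * conjAut R t (hL ht) * β⁻¹ ∈ autInducedBy S R) {w : Ω} (hw : w ∈ R ⊔ L)
    (hwn : w ∈ Subgroup.normalizer (R : Set Ω)) : β * conjAut R w hwn * β⁻¹ ∈ autInducedBy S R := by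
  have hw' : w ∈ L ⊔ R := by rw [sup_comm]; exact hw
  obtain ⟨l, hl, y, hy, rfl⟩ := (mem_sup_of_normalizes hL).1 hw'
  rw [conjAut_mul (hL hl) (Subgroup.le_normalizer hy) hwn]
  have h1 : β * (conjAut R l (hL hl) * conjAut R y (Subgroup.le_normalizer hy)) * β⁻¹ =
      (β * conjAut R l (hL hl) * β⁻¹) * (β * conjAut R y (Subgroup.le_normalizer hy) * β⁻¹) := by group
  rw [h1]
  exact Subgroup.mul_mem _ (h l hl) (conj_conjAut_mem hRS β ⟨y, hy⟩ _)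

theorem mem_extAuts_of_le [Finite S] [Fact p.Prime] (hS : IsPGroup p S) (hF : F.IsSaturated p)
    (hR : F.IsFullyNormalized R) (hLS : L ≤ S) (hL : L ≤ Subgroup.normalizer (R : Set Ω)) (hLR : ¬ L ≤ R)
    {β : MulAut R} (hβ : β ∈ F.autGroup R)
    (h : ∀ (t : Ω) (ht : t ∈ L), β * conjAut R t (hL ht) * β⁻¹ ∈ autInducedBy S R) : β ∈ extAuts F R := by
  have hRS := hR.1
  have hlt : R < R ⊔ L := lt_of_le_of_ne le_sup_left fun h1 => hLR (by rw [h1]; exact le_sup_right)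
  have hle : R ⊔ L ≤ normalizerIn S R := sup_le (le_normalizerIn hRS) (le_inf hLS hL)
  exact mem_extAuts_of_transport (receptive_of_fullyNormalized hS hF hR) hβ hlt hle
    (fun w hw => transport_sup hRS hL h hw _)

/-- extension of a transporting automorphism to `RL` -/
theorem exists_ext [Finite S] [Fact p.Prime] (hS : IsPGroup p S) (hF : F.IsSaturated p)
    (hR : F.IsFullyNormalized R) (hLS : L ≤ S) (hL : L ≤ Subgroup.normalizer (R : Set Ω))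
    {β : MulAut R} (hβ : β ∈ F.autGroup R)
    (h : ∀ (t : Ω) (ht : t ∈ L), β * conjAut R t (hL ht) * β⁻¹ ∈ autInducedBy S R) :
    ∃ g : Ω → Ω, FMap F (R ⊔ L) g ∧ ∀ x : R, g x = β x := by
  have hRS := hR.1
  have hrec := receptive_of_fullyNormalized hS hF hR
  have hle : R ⊔ L ≤ normalizerIn S R := sup_le (le_normalizerIn hRS) (le_inf hLS hL)
  obtain ⟨g, hg, hg'⟩ := (isReceptive_iff.1 hrec).2 R (autFun β) ((fiso_autFun_iff hRS).2 hβ) (R ⊔ L) le_sup_left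
    (hle.trans (normalizerIn_le S R)) (fun t ht => by
      refine ⟨(hle ht).2, ?_⟩
      obtain ⟨s, hs, h1⟩ := mem_autInducedBy_iff.1 (transport_sup hRS hL h ht (hle ht).2)
      refine ⟨s, hs, fun x hx => ?_⟩
      have h2 := h1 (β ⟨x, hx⟩)
      rw [MulAut.mul_apply, MulAut.mul_apply, MulAut.inv_apply_self] at h2
      rw [autFun_of_mem β hx, ← h2]
      exact autFun_of_mem β ((Subgroup.mem_normalizer_iff.1 (hle ht).2 x).1 hx))
  exact ⟨g, hg, fun x => by rw [hg' x x.2, autFun_coe]⟩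

theorem isSyl [Finite S] [Fact p.Prime] (hS : IsPGroup p S) (hF : F.IsSaturated p) (hR : F.IsFullyNormalized R) :
    RelSylow.IsSyl p (autInducedBy S R) (F.autGroup R) := by
  obtain ⟨hauto, -⟩ := automized_receptive_of_fullyNormalized hS hF hR
  exact ⟨autInducedBy_le_autGroup hR.1 le_rfl, isPGroup_autInducedBy hS le_rfl, ((isFullyAutomized_iff hS).1 hauto).2⟩

/-- strong embedding, general form -/
theorem emb_mem [Finite S] [Fact p.Prime] (hS : IsPGroup p S) (hF : F.IsSaturated p) (hR : F.IsEssential p R)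
    {α : MulAut R} (hα : α ∈ F.autGroup R) {t : Ω} (ht : t ∈ S) (htn : t ∈ Subgroup.normalizer (R : Set Ω))
    (htR : t ∉ R) (h : α⁻¹ * conjAut R t htn * α ∈ extAuts F R) : α ∈ extAuts F R := by
  have hRS := FusionEss.lt_of_essential hS hF hR
  have hfin : Finite R := finite_of_le hRS.le
  have hsyl := isSyl hS hF hR.2.1
  have hsyl2 : RelSylow.IsSyl p (autInducedBy S R) (extAuts F R) :=
    hsyl.of_le (autInducedBy_le_extAuts hS hRS) extAuts_le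
  obtain ⟨r, hr⟩ : ∃ r, r = α⁻¹ * conjAut R t htn * α := ⟨_, rfl⟩
  rw [← hr] at h
  have hzr : IsPGroup p (Subgroup.zpowers r) := by
    obtain ⟨k, hk⟩ := (isPGroup_autInducedBy hS (le_refl S) : IsPGroup p (autInducedBy S R))
      ⟨conjAut R t htn, conjAut_mem_autInducedBy htn ht⟩
    have hk' : (conjAut R t htn) ^ p ^ k = 1 := congrArg Subtype.val hk
    have hrk : r ^ p ^ k = 1 := by
      have h2 : r = α⁻¹ * conjAut R t htn * (α⁻¹)⁻¹ := by rw [hr, inv_inv]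
      rw [h2, conj_pow, hk']; group
    rintro ⟨_, n, rfl⟩
    refine ⟨k, Subtype.ext ?_⟩
    show (r ^ n) ^ p ^ k = 1
    rw [← zpow_natCast, ← zpow_mul, mul_comm, zpow_mul, zpow_natCast, hrk, one_zpow]
  obtain ⟨g, hg, hle⟩ := hsyl2.exists_conj_le hzr (Subgroup.zpowers_le.2 h)
  obtain ⟨u, hu, h2⟩ := hle (Subgroup.mem_zpowers r)
  have h3 : g * u * g⁻¹ = r := h2
  have h4 : (g⁻¹ * α⁻¹) * conjAut R t htn * (g⁻¹ * α⁻¹)⁻¹ = u := by
    have h5 : (g⁻¹ * α⁻¹) * conjAut R t htn * (g⁻¹ * α⁻¹)⁻¹ = g⁻¹ * r * g := by rw [hr]; group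
    rw [h5, ← h3]; group
  have hzn : Subgroup.zpowers t ≤ Subgroup.normalizer (R : Set Ω) := Subgroup.zpowers_le.2 htn
  have h5 : g⁻¹ * α⁻¹ ∈ extAuts F R := by
    refine mem_extAuts_of_le hS hF hR.2.1 (Subgroup.zpowers_le.2 ht) hzn (fun hle => htR (hle (Subgroup.mem_zpowers t)))
      (Subgroup.mul_mem _ (Subgroup.inv_mem _ (extAuts_le hg)) (Subgroup.inv_mem _ hα)) ?_
    rintro _ ⟨k, rfl⟩
    have h6 : conjAut R (t ^ k) (hzn ⟨k, rfl⟩) = conjAut R t htn ^ k :=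
      MulEquiv.ext fun v => Subtype.ext (by rw [conjAut_apply, FusionEmb.conjAut_zpow])
    show (g⁻¹ * α⁻¹) * conjAut R (t ^ k) _ * (g⁻¹ * α⁻¹)⁻¹ ∈ _
    rw [h6, ← conj_zpow, h4]
    exact Subgroup.zpow_mem _ hu k
  have h6 : α = (g * (g⁻¹ * α⁻¹))⁻¹ := by group
  rw [h6]
  exact Subgroup.inv_mem _ (Subgroup.mul_mem _ hg h5)

/-- The stabilizer of the chain `R ≥ Q ≥ Z ≥ 1`. -/
def chainStab (F : FusionSystem S) (R Q Z : Subgroup Ω) (hZQ : Z ≤ Q) : Subgroup (MulAut R) where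
  carrier := {β | β ∈ F.autGroup R ∧ (∀ x : R, (x : Ω)⁻¹ * β x ∈ Q) ∧ (∀ x : R, (x : Ω) ∈ Q → (x : Ω)⁻¹ * β x ∈ Z) ∧
    ∀ x : R, (x : Ω) ∈ Z → β x = x}
  one_mem' := ⟨Subgroup.one_mem _, fun x => by
      show (x : Ω)⁻¹ * x ∈ Q; rw [inv_mul_cancel]; exact Q.one_mem, fun x _ => by
      show (x : Ω)⁻¹ * x ∈ Z; rw [inv_mul_cancel]; exact Z.one_mem, fun x _ => rfl⟩
  mul_mem' := by
    rintro α β ⟨a1, a2, a3, a4⟩ ⟨b1, b2, b3, b4⟩
    have key : ∀ x : R, (x : Ω)⁻¹ * (α * β) x = ((x : Ω)⁻¹ * β x) * ((β x : Ω)⁻¹ * α (β x)) := by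
      intro x; rw [MulAut.mul_apply]; group
    refine ⟨Subgroup.mul_mem _ a1 b1, fun x => ?_, fun x hx => ?_, fun x hx => ?_⟩
    · rw [key]; exact Q.mul_mem (b2 x) (a2 _)
    · rw [key]
      refine Z.mul_mem (b3 x hx) (a3 _ ?_)
      have h1 : (β x : Ω) = x * ((x : Ω)⁻¹ * β x) := by group
      rw [h1]; exact Q.mul_mem hx (hZQ (b3 x hx))
    · rw [MulAut.mul_apply, b4 x hx, a4 x hx]
  inv_mem' := by
    rintro β ⟨b1, b2, b3, b4⟩
    have h2 : ∀ x : R, (x : Ω)⁻¹ * β⁻¹ x ∈ Q := by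
      intro x
      have h := b2 (β⁻¹ x)
      rw [MulAut.apply_inv_self] at h
      have h' := Q.inv_mem h
      rwa [mul_inv_rev, inv_inv] at h'
    have h3 : ∀ x : R, (x : Ω) ∈ Q → (x : Ω)⁻¹ * β⁻¹ x ∈ Z := by
      intro x hx
      have h5 : (β⁻¹ x : Ω) ∈ Q := by
        have h1 : (β⁻¹ x : Ω) = x * ((x : Ω)⁻¹ * β⁻¹ x) := by group
        rw [h1]; exact Q.mul_mem hx (h2 x)
      have h := b3 (β⁻¹ x) h5
      rw [MulAut.apply_inv_self] at h
      have h' := Z.inv_mem h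
      rwa [mul_inv_rev, inv_inv] at h'
    refine ⟨Subgroup.inv_mem _ b1, h2, h3, fun x hx => ?_⟩
    have h5 : (β⁻¹ x : Ω) ∈ Z := by
      have h1 : (β⁻¹ x : Ω) = x * ((x : Ω)⁻¹ * β⁻¹ x) := by group
      rw [h1]; exact Z.mul_mem hx (h3 x (hZQ hx))
    have h := b4 _ h5
    rw [MulAut.apply_inv_self] at h
    exact h.symm

theorem chainStab_conj {hZQ : Z ≤ Q} {γ β : MulAut R} (hγ : γ ∈ F.autGroup R)
    (hQ : ∀ x : R, (x : Ω) ∈ Q ↔ (γ x : Ω) ∈ Q) (hZ : ∀ x : R, (x : Ω) ∈ Z ↔ (γ x : Ω) ∈ Z)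
    (hβ : β ∈ chainStab F R Q Z hZQ) : γ * β * γ⁻¹ ∈ chainStab F R Q Z hZQ := by
  obtain ⟨b1, b2, b3, b4⟩ := hβ
  have key : ∀ x : R, (x : Ω)⁻¹ * (γ * β * γ⁻¹) x = (γ ((γ⁻¹ x)⁻¹ * β (γ⁻¹ x)) : Ω) := by
    intro x
    rw [map_mul, map_inv, MulAut.apply_inv_self]; rfl
  have hQ' : ∀ x : R, (x : Ω) ∈ Q → ((γ⁻¹ x : R) : Ω) ∈ Q := by
    intro x hx; rw [hQ, MulAut.apply_inv_self]; exact hx
  have hZ' : ∀ x : R, (x : Ω) ∈ Z → ((γ⁻¹ x : R) : Ω) ∈ Z := by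
    intro x hx; rw [hZ, MulAut.apply_inv_self]; exact hx
  refine ⟨Subgroup.mul_mem _ (Subgroup.mul_mem _ hγ b1) (Subgroup.inv_mem _ hγ), fun x => ?_, fun x hx => ?_,
    fun x hx => ?_⟩
  · rw [key, ← hQ]; exact b2 _
  · rw [key, ← hZ]; exact b3 _ (hQ' x hx)
  · rw [MulAut.mul_apply, MulAut.mul_apply, b4 _ (hZ' x hx), MulAut.apply_inv_self]

theorem pow_apply_of_fix {β : MulAut R} (h1 : ∀ x : R, β ((x)⁻¹ * β x) = x⁻¹ * β x) (x : R) (n : ℕ) :
    (β ^ n) x = x * (x⁻¹ * β x) ^ n := by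
  induction n with
  | zero => simp
  | succ n ih =>
    rw [pow_succ', MulAut.mul_apply, ih, map_mul, map_pow, h1, pow_succ', ← mul_assoc x, mul_inv_cancel_left]

theorem chainStab_isPGroup [Finite S] [Fact p.Prime] (hS : IsPGroup p S) (hRS : R ≤ S) (hZQ : Z ≤ Q) (hQR : Q ≤ R) :
    IsPGroup p (chainStab F R Q Z hZQ) := by
  rintro ⟨β, b1, b2, b3, b4⟩
  have hQf : Finite Q := finite_of_le (hQR.trans hRS)
  have hQp : IsPGroup p Q := isPGroup_of_le hS (hQR.trans hRS)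
  obtain ⟨n, hn⟩ := IsPGroup.iff_card.1 hQp
  have hexp : ∀ q ∈ Q, q ^ p ^ n = 1 := by
    intro q hq
    have h : (⟨q, hq⟩ : Q) ^ Nat.card Q = 1 := pow_card_eq_one'
    rw [hn] at h
    exact congrArg Subtype.val h
  have h1 : ∀ x : R, (x : Ω) ∈ Q → (β ^ p ^ n) x = x := by
    -- on `Q`
    have hnat : ∀ m : ℕ, ∀ x : R, (x : Ω) ∈ Q → (β ^ m) x = x * (x⁻¹ * β x) ^ m := by
      intro m
      induction m with
      | zero => intro x _; simp
      | succ m ih =>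
        intro x hx
        have h2 : ((x⁻¹ * β x : R) : Ω) ∈ Z := b3 x hx
        rw [pow_succ', MulAut.mul_apply, ih x hx, map_mul, map_pow, b4 _ h2, pow_succ', ← mul_assoc x,
          mul_inv_cancel_left]
    intro x hx
    rw [hnat _ x hx]
    have h2 : ((x⁻¹ * β x : R)) ^ p ^ n = 1 := Subtype.ext (hexp _ (hZQ (b3 x hx)))
    rw [h2, mul_one]
  have hγ : β ^ p ^ n ∈ chainStab F R Q Z hZQ := Subgroup.pow_mem _ (show β ∈ chainStab F R Q Z hZQ from ⟨b1, b2, b3, b4⟩) _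
  refine ⟨n + n, Subtype.ext ?_⟩
  show β ^ p ^ (n + n) = 1
  rw [pow_add, pow_mul]
  refine MulEquiv.ext fun x => ?_
  rw [pow_apply_of_fix (fun y => h1 _ (hγ.2.1 y))]
  have h2 : (x⁻¹ * (β ^ p ^ n) x) ^ p ^ n = 1 := Subtype.ext (hexp _ (hγ.2.1 x))
  rw [h2, mul_one]; rfl

/-- chain stabilizers normalized by `Aut_S(R)` are induced by `S` -/
theorem chainStab_le [Finite S] [Fact p.Prime] (hS : IsPGroup p S) (hF : F.IsSaturated p) (hR : F.IsFullyNormalized R)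
    (hZQ : Z ≤ Q) (hQR : Q ≤ R) (hQ : ∀ γ ∈ autInducedBy S R, ∀ x : R, (x : Ω) ∈ Q → (γ x : Ω) ∈ Q)
    (hZ : ∀ γ ∈ autInducedBy S R, ∀ x : R, (x : Ω) ∈ Z → (γ x : Ω) ∈ Z) :
    chainStab F R Q Z hZQ ≤ autInducedBy S R := by
  have hRS := hR.1
  have hfin : Finite R := finite_of_le hRS
  have hsyl := isSyl hS hF hR
  have hp1 := chainStab_isPGroup (F := F) hS hRS hZQ hQR
  have hn : autInducedBy S R ≤ Subgroup.normalizer (chainStab F R Q Z hZQ : Set (MulAut R)) := by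
    have hmem : ∀ γ ∈ autInducedBy S R, ∀ β ∈ chainStab F R Q Z hZQ, γ * β * γ⁻¹ ∈ chainStab F R Q Z hZQ := by
      intro γ hγ β hβ
      refine chainStab_conj (hsyl.1 hγ) (fun x => ⟨hQ γ hγ x, fun h => ?_⟩) (fun x => ⟨hZ γ hγ x, fun h => ?_⟩) hβ
      · have := hQ γ⁻¹ (Subgroup.inv_mem _ hγ) _ h
        rwa [MulAut.inv_apply_self] at this
      · have := hZ γ⁻¹ (Subgroup.inv_mem _ hγ) _ h
        rwa [MulAut.inv_apply_self] at this
    intro γ hγ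
    rw [Subgroup.mem_normalizer_iff]
    intro β
    refine ⟨hmem γ hγ β, fun h => ?_⟩
    have h2 := hmem γ⁻¹ (Subgroup.inv_mem _ hγ) _ h
    have h3 : γ⁻¹ * (γ * β * γ⁻¹) * γ⁻¹⁻¹ = β := by group
    rwa [h3] at h2
  have hsup : IsPGroup p (autInducedBy S R ⊔ chainStab F R Q Z hZQ : Subgroup (MulAut R)) :=
    IsPGroup.to_sup_of_normal_right' hsyl.2.1 hp1 hn
  have hle : autInducedBy S R ⊔ chainStab F R Q Z hZQ ≤ F.autGroup R := sup_le hsyl.1 fun β hβ => hβ.1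
  rw [hsyl.eq_of_le hsup hle le_sup_left]
  exact le_sup_right

end Cfsg.Agent.Lib.FusionEmbGen
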