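import Cfsg.Agent.Lib.FusionEmbGen

/-! Generalized extraspecial strongly closed subgroups (helper87). -/

set_option autoImplicit false
open Cfsg Cfsg.FusionSystem Cfsg.Agent.Lib.FusionBasic Cfsg.Agent.Lib.FusionSat Cfsg.Agent.Lib.FusionAlperin
  Cfsg.Agent.Lib.FusionNormal Cfsg.Agent.Lib Cfsg.Agent.Lib.FusionEmbGen

namespace Cfsg.Agent.Lib.FusionGES

section zp

variable {Ω : Type*} [Group Ω] {p : ℕ}

theorem zpow_of_dvd {z : Ω} (hz : z ^ p = 1) {k : ℤ} (h : (p : ℤ) ∣ k) : z ^ k = 1 := by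
  obtain ⟨l, rfl⟩ := h
  rw [zpow_mul, zpow_natCast, hz, one_zpow]

theorem dvd_of_zpow [hp : Fact p.Prime] {z : Ω} (hz : z ^ p = 1) (hz1 : z ≠ 1) {k : ℤ} (h : z ^ k = 1) :
    (p : ℤ) ∣ k := by
  have h1 : orderOf z = p := orderOf_eq_prime hz hz1
  rw [← h1]
  exact orderOf_dvd_iff_zpow_eq_one.2 h

theorem exists_inv [hp : Fact p.Prime] {z : Ω} (hz : z ^ p = 1) {k : ℤ} (h : z ^ k ≠ 1) :
    ∃ l : ℤ, (z ^ k) ^ l = z := by
  have h1 : ¬ (p : ℤ) ∣ k := fun h1 => h (zpow_of_dvd hz h1)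
  have hcop : IsCoprime (p : ℤ) k := (Int.prime_iff_natAbs_prime.2 (by simpa using hp.out)).coprime_iff_not_dvd.2 h1
  obtain ⟨a, b, hab⟩ := hcop
  refine ⟨b, ?_⟩
  rw [← zpow_mul]
  have h2 : k * b = 1 - p * a := by linarith
  rw [h2, zpow_sub, zpow_one, zpow_of_dvd hz (Dvd.intro _ rfl), inv_one, mul_one]

theorem mul_pow_aux {t q c : Ω} (htc : Commute t c) (hqc : Commute q c) (h : t * q = c * (q * t)) (n : ℕ) :
    c ^ (n.choose 2) * (t * q) ^ n = t ^ n * q ^ n := by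
  have h' : ∀ n : ℕ, c ^ n * (q ^ n * t) = t * q ^ n := by
    intro n
    induction n with
    | zero => simp
    | succ n ih =>
      have h1 : q ^ n * c = c * q ^ n := (hqc.pow_left n).eq
      calc c ^ (n + 1) * (q ^ (n + 1) * t) = c ^ n * ((c * q ^ n) * (q * t)) := by rw [pow_succ, pow_succ]; group
        _ = c ^ n * (q ^ n * (c * (q * t))) := by rw [← h1]; group
        _ = (c ^ n * (q ^ n * t)) * q := by rw [← h]; group
        _ = t * q ^ (n + 1) := by rw [ih, pow_succ]; group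
  induction n with
  | zero => simp
  | succ n ih =>
    have h1 : t ^ n * c ^ n = c ^ n * t ^ n := (htc.pow_pow n n).eq
    have h2 : (n + 1).choose 2 = n + n.choose 2 := by
      rw [Nat.choose_succ_succ, Nat.choose_one_right]
    calc c ^ ((n + 1).choose 2) * (t * q) ^ (n + 1) = c ^ n * (c ^ (n.choose 2) * (t * q) ^ n) * (t * q) := by
          rw [h2, pow_add, pow_succ]; simp only [mul_assoc]
      _ = (t ^ n * c ^ n) * (q ^ n * t) * q := by rw [ih, h1]; simp only [mul_assoc]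
      _ = t ^ n * (c ^ n * (q ^ n * t)) * q := by simp only [mul_assoc]
      _ = t ^ (n + 1) * q ^ (n + 1) := by rw [h', pow_succ, pow_succ]; simp only [mul_assoc]

end zp

variable {Ω : Type*} [Group Ω] {S P Q R : Subgroup Ω} {F : FusionSystem S} {p : ℕ} {z : Ω}

structure GE (F : FusionSystem S) (p : ℕ) (P : Subgroup Ω) (z : Ω) : Prop where
  hS : IsPGroup p S
  hF : F.IsSaturated p
  hP : F.StronglyClosed P
  hz : z ∈ P
  hz1 : z ≠ 1
  hzp : z ^ p = 1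
  hc : ∀ s ∈ S, s * z = z * s
  hcomm : ∀ x ∈ P, ∀ y ∈ P, ∃ k : ℤ, x * y * x⁻¹ * y⁻¹ = z ^ k
  hpow : ∀ x ∈ P, ∃ k : ℤ, x ^ p = z ^ k

variable [Finite S] [Fact p.Prime]

omit [Finite S] [Fact p.Prime] in
theorem GE.hPS (h : GE F p P z) : P ≤ S := h.hP.1

omit [Finite S] [Fact p.Prime] in
theorem GE.cz (h : GE F p P z) {s : Ω} (hs : s ∈ S) (k : ℤ) : s * z ^ k = z ^ k * s :=
  ((show Commute s z from h.hc s hs).zpow_right k).eq

omit [Finite S] [Fact p.Prime] in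
theorem GE.zR (h : GE F p P z) (hR : F.IsEssential p R) : z ∈ R := by
  have hcR : centralizerIn S R ≤ R := hR.1.2 R (isConj_refl F hR.1.1)
  refine hcR ⟨h.hPS h.hz, ?_⟩
  show z ∈ Subgroup.centralizer (R : Set Ω)
  rw [Subgroup.mem_centralizer_iff]
  intro x hx
  exact h.hc x (hR.1.1 hx)

omit [Finite S] [Fact p.Prime] in
theorem GE.inv (h : GE F p P z) (hRS : R ≤ S) {γ : MulAut R} (hγ : γ ∈ F.autGroup R) (x : R) :
    (x : Ω) ∈ P ↔ (γ x : Ω) ∈ P := by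
  have h1 : ∀ γ ∈ F.autGroup R, ∀ x : R, (x : Ω) ∈ P → (γ x : Ω) ∈ P := by
    intro γ hγ x hx
    have h2 := (fiso_autFun_iff hRS).2 hγ
    rw [← autFun_coe]
    exact StronglyClosed.map_mem F h.hP h2.1 x.2 hx
  refine ⟨h1 γ hγ x, fun hx => ?_⟩
  have h2 := h1 γ⁻¹ (Subgroup.inv_mem _ hγ) (γ x) hx
  rwa [MulAut.inv_apply_self] at h2

/-- normalizer growth inside `P` -/
theorem GE.exists_norm (h : GE F p P z) (hRS : R ≤ S) {C : Subgroup Ω} (hCP : C ≤ P)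
    (hRC : R ≤ Subgroup.normalizer (C : Set Ω)) (hCR : ¬ C ≤ R) :
    ∃ a ∈ C, a ∈ Subgroup.normalizer (R : Set Ω) ∧ a ∉ R := by
  have hlt : R < R ⊔ C := lt_of_le_of_ne le_sup_left fun h1 => hCR (by rw [h1]; exact le_sup_right)
  have h1 := lt_normalizerIn h.hS (sup_le hRS (hCP.trans h.hPS)) hlt
  obtain ⟨x, hx, hxR⟩ := SetLike.exists_of_lt h1
  obtain ⟨b, hb, a, ha, rfl⟩ := (mem_sup_of_normalizes hRC).1 hx.1
  refine ⟨a, ha, ?_, fun haR => hxR (R.mul_mem hb haR)⟩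
  have h2 := Subgroup.mul_mem _ (Subgroup.inv_mem _ (Subgroup.le_normalizer hb)) hx.2
  rwa [inv_mul_cancel_left] at h2

/-- the configuration -/
structure Cfg (F : FusionSystem S) (p : ℕ) (P : Subgroup Ω) (z : Ω) (R : Subgroup Ω) : Prop extends GE F p P z where
  hR : F.IsEssential p R
  hPR : ¬ P ≤ R

omit [Finite S] [Fact p.Prime] in
theorem Cfg.hRS (h : Cfg F p P z R) : R ≤ S := h.hR.1.1

omit [Finite S] [Fact p.Prime] in
theorem Cfg.zle (h : Cfg F p P z R) : Subgroup.zpowers z ≤ P ⊓ R :=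
  Subgroup.zpowers_le.2 ⟨h.hz, h.toGE.zR h.hR⟩

/-- the chain stabilizer is induced by `S` -/
theorem Cfg.stab_le (h : Cfg F p P z R) : chainStab F R (P ⊓ R) (Subgroup.zpowers z) h.zle ≤ autInducedBy S R := by
  refine chainStab_le h.hS h.hF h.hR.2.1 h.zle inf_le_right ?_ ?_
  · intro γ hγ x hx
    exact ⟨(h.toGE.inv h.hRS ((isSyl h.hS h.hF h.hR.2.1).1 hγ) x).1 hx.1, (γ x).2⟩
  · intro γ hγ x hx
    obtain ⟨k, hk⟩ := hx
    obtain ⟨s, hs, h1⟩ := mem_autInducedBy_iff.1 hγ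
    have hk' : z ^ k = x := hk
    rw [h1, ← hk', h.toGE.cz hs k]
    exact ⟨k, by show z ^ k = _; group⟩

omit [Finite S] [Fact p.Prime] in
theorem Cfg.conj_mem (h : Cfg F p P z R) {t : Ω} (ht : t ∈ P) (htn : t ∈ Subgroup.normalizer (R : Set Ω)) :
    conjAut R t htn ∈ chainStab F R (P ⊓ R) (Subgroup.zpowers z) h.zle := by
  refine ⟨mem_autGroup_of_fmap (fmap_conj F h.hRS (h.hPS ht)) (fun x => conjAut_apply t htn x), fun x => ?_,
    fun x hx => ?_, fun x hx => ?_⟩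
  · rw [conjAut_apply]
    refine ⟨?_, ?_⟩
    · have h1 : (x : Ω)⁻¹ * (t * x * t⁻¹) = ((x : Ω)⁻¹ * t * x) * t⁻¹ := by group
      rw [h1]
      refine P.mul_mem ?_ (P.inv_mem ht)
      have h2 := (Subgroup.mem_normalizer_iff.1 (normalizes_of_stronglyClosed h.hP (S.inv_mem (h.hRS x.2))) t).1 ht
      rwa [inv_inv] at h2
    · exact R.mul_mem (R.inv_mem x.2) ((Subgroup.mem_normalizer_iff.1 htn x).1 x.2)
  · obtain ⟨k, hk⟩ := h.hcomm t ht x hx.1
    rw [conjAut_apply]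
    have h1 : (x : Ω)⁻¹ * (t * x * t⁻¹) = (x : Ω)⁻¹ * (t * x * t⁻¹ * (x : Ω)⁻¹) * x := by group
    rw [h1, hk]
    have h2 := h.toGE.cz (h.hRS x.2) k
    refine ⟨k, ?_⟩
    show z ^ k = _
    rw [mul_assoc, ← h2, inv_mul_cancel_left]
  · obtain ⟨k, hk⟩ := hx
    have hk' : z ^ k = x := hk
    apply Subtype.ext
    rw [conjAut_apply, ← hk', h.toGE.cz (h.hPS ht) k]
    group

/-- automorphisms normalizing `⟨z⟩` transport `Aut_P(R)` into `Aut_S(R)` -/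
theorem Cfg.transport (h : Cfg F p P z R) {γ : MulAut R} (hγ : γ ∈ F.autGroup R)
    (hγz : ∀ x : R, (x : Ω) ∈ Subgroup.zpowers z ↔ (γ x : Ω) ∈ Subgroup.zpowers z) {t : Ω} (ht : t ∈ P)
    (htn : t ∈ Subgroup.normalizer (R : Set Ω)) : γ * conjAut R t htn * γ⁻¹ ∈ autInducedBy S R := by
  refine h.stab_le (chainStab_conj hγ (fun x => ?_) hγz (h.conj_mem ht htn))
  constructor
  · intro hx; exact ⟨(h.toGE.inv h.hRS hγ x).1 hx.1, (γ x).2⟩
  · intro hx; exact ⟨(h.toGE.inv h.hRS hγ x).2 hx.1, x.2⟩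

theorem Cfg.mem_ext (h : Cfg F p P z R) {γ : MulAut R} (hγ : γ ∈ F.autGroup R)
    (hγz : ∀ x : R, (x : Ω) ∈ Subgroup.zpowers z ↔ (γ x : Ω) ∈ Subgroup.zpowers z) : γ ∈ extAuts F R := by
  obtain ⟨a, ha, han, haR⟩ := h.toGE.exists_norm h.hRS le_rfl (h.hRS.trans (normalizes_of_stronglyClosed h.hP)) h.hPR
  refine mem_extAuts_of_le h.hS h.hF h.hR.2.1 (L := P ⊓ Subgroup.normalizer (R : Set Ω)) (inf_le_left.trans h.hPS)
    inf_le_right (fun hle => haR (hle ⟨ha, han⟩)) hγ ?_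
  intro t ht
  exact h.transport hγ hγz ht.1 _

omit [Finite S] in
/-- an automorphism mapping some nontrivial power of `z` into `⟨z⟩` normalizes `⟨z⟩` -/
theorem Cfg.iff_of_mem (h : Cfg F p P z R) {γ : MulAut R} {w : R} (hw : (w : Ω) ∈ Subgroup.zpowers z) (hw1 : w ≠ 1)
    (hγw : (γ w : Ω) ∈ Subgroup.zpowers z) :
    ∀ x : R, (x : Ω) ∈ Subgroup.zpowers z ↔ (γ x : Ω) ∈ Subgroup.zpowers z := by
  obtain ⟨zr, hzr⟩ : ∃ zr : R, (zr : Ω) = z := ⟨⟨z, h.toGE.zR h.hR⟩, rfl⟩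
  have hmem : ∀ x : R, (x : Ω) ∈ Subgroup.zpowers z ↔ x ∈ Subgroup.zpowers zr := by
    intro x
    constructor
    · rintro ⟨k, hk⟩
      exact ⟨k, Subtype.ext (by show ((zr ^ k : R) : Ω) = x; rw [← hk]; push_cast; rw [hzr])⟩
    · rintro ⟨k, rfl⟩
      exact ⟨k, by show z ^ k = ((zr ^ k : R) : Ω); push_cast; rw [hzr]⟩
  rw [hmem] at hw hγw
  have hzp : zr ^ p = 1 := Subtype.ext (by push_cast; rw [hzr]; exact h.hzp)
  have hgen : ∀ v : R, v ∈ Subgroup.zpowers zr → v ≠ 1 → Subgroup.zpowers v = Subgroup.zpowers zr := by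
    rintro _ ⟨k, rfl⟩ hv
    obtain ⟨l, hl⟩ := exists_inv hzp hv
    refine le_antisymm (Subgroup.zpowers_le.2 ⟨k, rfl⟩) (Subgroup.zpowers_le.2 ⟨l, hl⟩)
  have h1 := hgen w hw hw1
  have h2 := hgen (γ w) hγw (fun h0 => hw1 (by
    have : γ w = γ 1 := by rw [h0, map_one]
    exact γ.injective this))
  intro x
  rw [hmem, hmem]
  constructor
  · intro hx
    rw [← h1] at hx
    obtain ⟨k, rfl⟩ := hx
    show γ (w ^ k) ∈ _
    rw [map_zpow]
    exact Subgroup.zpow_mem _ hγw k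
  · intro hx
    rw [← h2] at hx
    obtain ⟨k, hk⟩ := hx
    have hk' : (γ w) ^ k = γ x := hk
    rw [← map_zpow] at hk'
    rw [← γ.injective hk']
    exact Subgroup.zpow_mem _ hw k

/-- the element `α z` is not centralized by elements of `N_P(R) ∖ R` -/
theorem Cfg.not_comm (h : Cfg F p P z R) {α : MulAut R} (hα : α ∈ F.autGroup R) (hαn : α ∉ extAuts F R) {zr : R}
    (hzr : (zr : Ω) = z) {t : Ω} (ht : t ∈ P) (htn : t ∈ Subgroup.normalizer (R : Set Ω)) (htR : t ∉ R) :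
    t * (α zr : Ω) ≠ (α zr : Ω) * t := by
  intro hcomm
  apply hαn
  refine emb_mem h.hS h.hF h.hR hα (h.hPS ht) htn htR ?_
  have hfix : (α⁻¹ * conjAut R t htn * α) zr = zr := by
    rw [MulAut.mul_apply, MulAut.mul_apply]
    have h1 : conjAut R t htn (α zr) = α zr := Subtype.ext (by rw [conjAut_apply, hcomm]; group)
    rw [h1, MulAut.inv_apply_self]
  have hzm : (zr : Ω) ∈ Subgroup.zpowers z := by rw [hzr]; exact Subgroup.mem_zpowers z
  refine h.mem_ext ?_ (h.iff_of_mem (w := zr) hzm ?_ ?_)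
  · exact Subgroup.mul_mem _ (Subgroup.mul_mem _ (Subgroup.inv_mem _ hα)
      (mem_autGroup_of_fmap (fmap_conj F h.hRS (h.hPS ht)) (fun x => conjAut_apply t htn x))) hα
  · rintro rfl; exact h.hz1 hzr.symm
  · rw [hfix]; exact hzm

theorem Cfg.exists_alpha (h : Cfg F p P z R) : ∃ α ∈ F.autGroup R, α ∉ extAuts F R := by
  have hRS := FusionEss.lt_of_essential h.hS h.hF h.hR
  obtain ⟨g, hg, hgH⟩ := SetLike.exists_of_lt (lt_of_le_of_ne (extAuts_le (F := F) (P := R))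
    (extAuts_ne_of_essential h.hS h.hF hRS h.hR))
  exact ⟨g, hg, hgH⟩

/-- `P ∩ R` is elementary abelian -/
theorem Cfg.comm (h : Cfg F p P z R) : ∀ x ∈ P ⊓ R, ∀ y ∈ P ⊓ R, x * y = y * x := by
  obtain ⟨α, hα, hαn⟩ := h.exists_alpha
  intro x hx y hy
  by_contra hne
  apply hαn
  let xr : R := ⟨x, hx.2⟩
  let yr : R := ⟨y, hy.2⟩
  have h1 : ∀ a b : R, (a : Ω) ∈ P → (b : Ω) ∈ P → ((a * b * a⁻¹ * b⁻¹ : R) : Ω) ∈ Subgroup.zpowers z := by
    intro a b ha hb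
    obtain ⟨k, hk⟩ := h.hcomm a ha b hb
    exact ⟨k, hk.symm⟩
  refine h.mem_ext hα (h.iff_of_mem (w := xr * yr * xr⁻¹ * yr⁻¹) (h1 xr yr hx.1 hy.1) ?_ ?_)
  · intro h2
    apply hne
    have h3 : x * y * x⁻¹ * y⁻¹ = 1 := congrArg Subtype.val h2
    rw [mul_inv_eq_one, mul_inv_eq_iff_eq_mul] at h3
    exact h3
  · rw [map_mul, map_mul, map_mul, map_inv, map_inv]
    exact h1 _ _ ((h.toGE.inv h.hRS hα xr).1 hx.1) ((h.toGE.inv h.hRS hα yr).1 hy.1)

theorem Cfg.pow (h : Cfg F p P z R) : ∀ x ∈ P ⊓ R, x ^ p = 1 := by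
  obtain ⟨α, hα, hαn⟩ := h.exists_alpha
  intro x hx
  by_contra hne
  apply hαn
  let xr : R := ⟨x, hx.2⟩
  have h1 : ∀ a : R, (a : Ω) ∈ P → ((a ^ p : R) : Ω) ∈ Subgroup.zpowers z := by
    intro a ha
    obtain ⟨k, hk⟩ := h.hpow a ha
    exact ⟨k, hk.symm⟩
  refine h.mem_ext hα (h.iff_of_mem (w := xr ^ p) (h1 xr hx.1) ?_ ?_)
  · intro h2
    exact hne (congrArg Subtype.val h2)
  · rw [map_pow]
    exact h1 _ ((h.toGE.inv h.hRS hα xr).1 hx.1)

omit [Finite S] [Fact p.Prime] in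
/-- the commutators `[t, v]`, `t ∈ P`, `v ∈ P`, are powers of `z` -/
theorem GE.conj_eq (h : GE F p P z) {t v : Ω} (ht : t ∈ P) (hv : v ∈ P) : ∃ k : ℤ, t * v * t⁻¹ = z ^ k * v := by
  obtain ⟨k, hk⟩ := h.hcomm t ht v hv
  exact ⟨k, by rw [← hk]; group⟩

theorem zpow_conj {t v c : Ω} (htc : Commute t c) (htv : t * v * t⁻¹ = c * v) (n : ℤ) :
    t ^ n * v * (t ^ n)⁻¹ = c ^ n * v := by
  have hnat : ∀ n : ℕ, t ^ n * v * (t ^ n)⁻¹ = c ^ n * v := by
    intro n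
    induction n with
    | zero => simp
    | succ n ih =>
      have h1 : t ^ (n + 1) * v * (t ^ (n + 1))⁻¹ = t ^ n * (t * v * t⁻¹) * (t ^ n)⁻¹ := by
        rw [pow_succ]; group
      have h2 : t ^ n * c = c * t ^ n := (htc.pow_left n).eq
      rw [h1, htv]
      calc t ^ n * (c * v) * (t ^ n)⁻¹ = (t ^ n * c) * v * (t ^ n)⁻¹ := by group
        _ = c * (t ^ n * v * (t ^ n)⁻¹) := by rw [h2]; group
        _ = c ^ (n + 1) * v := by rw [ih, pow_succ']; group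
  obtain ⟨m, rfl | rfl⟩ := n.eq_nat_or_neg
  · rw [zpow_natCast, zpow_natCast]; exact hnat m
  · have h1 := hnat m
    rw [zpow_neg, zpow_natCast, zpow_neg, zpow_natCast]
    have h3 : v = (t ^ m)⁻¹ * (c ^ m * v) * t ^ m := by rw [← h1]; group
    have h4 : (t ^ m)⁻¹ * c ^ m = c ^ m * (t ^ m)⁻¹ := ((htc.pow_pow m m).inv_left).eq
    rw [← mul_assoc, h4] at h3
    have h5 : (c ^ m)⁻¹ * v = (t ^ m)⁻¹ * v * (t ^ m)⁻¹⁻¹ := by
      conv_lhs => rw [h3]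
      group
    exact h5.symm

theorem Cfg.main (h : Cfg F p P z R) : ∃ t z' : Ω, t ∈ P ∧ z' ∈ P ⊓ R ∧ t * z' * t⁻¹ = z * z' ∧
    (∀ y ∈ P, ∃ k : ℤ, ∃ q ∈ P ⊓ R, y = t ^ k * q) ∧ (p ≠ 2 → t ^ p = 1) := by
  have hp : p.Prime := Fact.out
  have hRS := h.hRS
  obtain ⟨α, hα, hαn⟩ := h.exists_alpha
  obtain ⟨zr, hzr⟩ : ∃ zr : R, (zr : Ω) = z := ⟨⟨z, h.toGE.zR h.hR⟩, rfl⟩
  have hzrp : zr ^ p = 1 := Subtype.ext (by push_cast; rw [hzr]; exact h.hzp)
  have hzrc : ∀ x : R, x * zr = zr * x := fun x => Subtype.ext (by push_cast; rw [hzr]; exact h.hc _ (hRS x.2))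
  -- the element `z'`
  have hz'P : ((α zr : R) : Ω) ∈ P := (h.toGE.inv hRS hα zr).1 (by rw [hzr]; exact h.hz)
  have hz'c : ∀ x ∈ R, x * (α zr : Ω) = (α zr : Ω) * x := by
    intro x hx
    have h1 := congrArg α (hzrc (α⁻¹ ⟨x, hx⟩))
    rw [map_mul, map_mul, MulAut.apply_inv_self] at h1
    exact congrArg Subtype.val h1
  have hz'p : (α zr : Ω) ^ p = 1 := by
    have h1 := congrArg α hzrp
    rw [map_pow, map_one] at h1
    exact congrArg Subtype.val h1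
  -- centralizer of `z'` in `P`
  have hcent : ∀ y ∈ P, y * (α zr : Ω) = (α zr : Ω) * y → y ∈ R := by
    have hle : P ⊓ Subgroup.centralizer {(α zr : Ω)} ≤ R := by
      by_contra hcon
      have hfC : Finite (P ⊓ Subgroup.centralizer {(α zr : Ω)} : Subgroup Ω) := finite_of_le (inf_le_left.trans h.hPS)
      obtain ⟨a, ha, han, haR⟩ := h.toGE.exists_norm hRS (C := P ⊓ Subgroup.centralizer {(α zr : Ω)}) inf_le_left (by
        refine fun x hx => FusionGrp.mem_normalizer_of_conj_mem fun c hc => ⟨?_, ?_⟩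
        · exact (Subgroup.mem_normalizer_iff.1 (normalizes_of_stronglyClosed h.hP (hRS hx)) c).1 hc.1
        · have h1 : (α zr : Ω) * c = c * (α zr : Ω) := (Subgroup.mem_centralizer_iff.1 hc.2) _ rfl
          show _ ∈ Subgroup.centralizer _
          rw [Subgroup.mem_centralizer_iff]
          rintro _ rfl
          have h2 := hz'c x hx
          have h3 : Commute (α zr : Ω) (x * c * x⁻¹) :=
            ((show Commute (α zr : Ω) x from h2.symm).mul_right h1).mul_right (show Commute (α zr : Ω) x from h2.symm).inv_right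
          exact h3.eq) hcon
      refine h.not_comm hα hαn hzr ha.1 han haR ?_
      exact ((Subgroup.mem_centralizer_iff.1 ha.2) _ rfl).symm
    intro y hy hyc
    refine hle ⟨hy, ?_⟩
    show y ∈ Subgroup.centralizer _
    rw [Subgroup.mem_centralizer_iff]
    rintro _ rfl
    exact hyc.symm
  -- the element `t`
  obtain ⟨t₁, ht₁, ht₁n, ht₁R⟩ := h.toGE.exists_norm hRS le_rfl (hRS.trans (normalizes_of_stronglyClosed h.hP)) h.hPR
  obtain ⟨k₁, hk₁⟩ := h.toGE.conj_eq ht₁ hz'P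
  have hk₁' : z ^ k₁ ≠ 1 := by
    intro h1
    rw [h1, one_mul, mul_inv_eq_iff_eq_mul] at hk₁
    exact h.not_comm hα hαn hzr ht₁ ht₁n ht₁R hk₁
  obtain ⟨l₁, hl₁⟩ := exists_inv h.hzp hk₁'
  obtain ⟨t, ht⟩ : ∃ t, t = t₁ ^ l₁ := ⟨_, rfl⟩
  have htP : t ∈ P := by rw [ht]; exact P.zpow_mem ht₁ _
  have htn : t ∈ Subgroup.normalizer (R : Set Ω) := by rw [ht]; exact Subgroup.zpow_mem _ ht₁n _
  have htz' : t * (α zr : Ω) * t⁻¹ = z * (α zr : Ω) := by
    rw [ht, zpow_conj (show Commute t₁ (z ^ k₁) from h.toGE.cz (h.hPS ht₁) k₁) hk₁, hl₁]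
  have htc : ∀ k : ℤ, Commute t (z ^ k) := fun k => h.toGE.cz (h.hPS htP) k
  have htc1 : Commute t z := by have := htc 1; rwa [zpow_one] at this
  have htR : t ∉ R := by
    intro h1
    have h2 := hz'c t h1
    rw [h2] at htz'
    have h3 : z = 1 := by
      have h4 : z * (α zr : Ω) = 1 * (α zr : Ω) := by rw [← htz']; group
      exact mul_right_cancel h4
    exact h.hz1 h3
  have hgen : ∀ y ∈ P, ∃ k : ℤ, ∃ q ∈ P ⊓ R, y = t ^ k * q := by
    intro y hy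
    obtain ⟨k, hk⟩ := h.toGE.conj_eq hy hz'P
    refine ⟨k, (t ^ k)⁻¹ * y, ⟨?_, ?_⟩, by group⟩
    · exact P.mul_mem (P.inv_mem (P.zpow_mem htP k)) hy
    · refine hcent _ (P.mul_mem (P.inv_mem (P.zpow_mem htP k)) hy) ?_
      have h1 := zpow_conj htc1 htz' k
      have h2 : y * (α zr : Ω) * y⁻¹ = t ^ k * (α zr : Ω) * (t ^ k)⁻¹ := by rw [hk, h1]
      have h3 : y * (α zr : Ω) = t ^ k * (α zr : Ω) * (t ^ k)⁻¹ * y := by rw [← h2]; group
      rw [mul_assoc, h3]; group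
  refine ⟨t, (α zr : Ω), htP, ⟨hz'P, (α zr).2⟩, htz', hgen, fun hp2 => ?_⟩
  -- the involution
  have hαn' : α⁻¹ ∉ extAuts F R := fun h1 => hαn (by have := Subgroup.inv_mem _ h1; rwa [inv_inv] at this)
  have hα' := Subgroup.inv_mem _ hα
  have hz''P : ((α⁻¹ zr : R) : Ω) ∈ P := (h.toGE.inv hRS hα' zr).1 (by rw [hzr]; exact h.hz)
  obtain ⟨i, hi⟩ := h.toGE.conj_eq htP hz''P
  have hi' : z ^ i ≠ 1 := by
    intro h1
    rw [h1, one_mul, mul_inv_eq_iff_eq_mul] at hi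
    exact h.not_comm hα' hαn' hzr htP htn htR hi
  obtain ⟨u, hu⟩ : ∃ u, u = conjAut R t htn := ⟨_, rfl⟩
  have huA : u ∈ F.autGroup R := by
    rw [hu]; exact mem_autGroup_of_fmap (fmap_conj F hRS (h.hPS htP)) (fun x => conjAut_apply t htn x)
  have hu1 : u zr = zr := Subtype.ext (by rw [hu, conjAut_apply, hzr, h.hc t (h.hPS htP)]; group)
  have hu2 : u (α zr) = zr * α zr := Subtype.ext (by rw [hu, conjAut_apply, htz']; push_cast; rw [hzr])
  have hu3 : u (α⁻¹ zr) = zr ^ i * α⁻¹ zr := Subtype.ext (by rw [hu, conjAut_apply, hi]; push_cast; rw [hzr])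
  have hv1 : (α * u * α⁻¹) zr = (α zr) ^ i * zr := by
    rw [MulAut.mul_apply, MulAut.mul_apply, hu3, map_mul, map_zpow, MulAut.apply_inv_self]
  have hv2 : (α * u * α⁻¹) (α zr) = α zr := by
    rw [MulAut.mul_apply, MulAut.mul_apply, MulAut.inv_apply_self, hu1]
  -- choose the power
  have hαzrp : (α zr) ^ p = 1 := by rw [← map_pow, hzrp, map_one]
  have hi'' : (α zr) ^ i ≠ 1 := by
    intro h1
    rw [← map_zpow] at h1
    have h2 : zr ^ i = 1 := α.injective (by rw [h1, map_one])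
    exact hi' (by have := congrArg Subtype.val h2; push_cast at this; rwa [hzr] at this)
  obtain ⟨j, hj⟩ := exists_inv hαzrp hi''
  have hcz : Commute zr (α zr) := (hzrc (α zr)).symm
  have hvpow : ∀ n : ℤ, ((α * u * α⁻¹) ^ n) zr = ((α zr) ^ i) ^ n * zr ∧ ((α * u * α⁻¹) ^ n) (α zr) = α zr := by
    have hnat : ∀ n : ℕ, ((α * u * α⁻¹) ^ n) zr = ((α zr) ^ i) ^ n * zr ∧ ((α * u * α⁻¹) ^ n) (α zr) = α zr := by
      intro n
      induction n with
      | zero => simp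
      | succ n ih =>
        refine ⟨?_, ?_⟩
        · rw [pow_succ', MulAut.mul_apply, ih.1, map_mul, map_pow, map_zpow, hv2, hv1, pow_succ, mul_assoc]
        · rw [pow_succ', MulAut.mul_apply, ih.2, hv2]
    intro n
    obtain ⟨m, rfl | rfl⟩ := n.eq_nat_or_neg
    · rw [zpow_natCast, zpow_natCast]; exact hnat m
    · have h1 := hnat m
      rw [zpow_neg, zpow_natCast, zpow_neg, zpow_natCast]
      obtain ⟨h2, h3⟩ := h1
      obtain ⟨V, hV⟩ : ∃ V, V = (α * u * α⁻¹) ^ m := ⟨_, rfl⟩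
      rw [← hV] at h2 h3 ⊢
      have h4 : V⁻¹ (α zr) = α zr := by
        conv_lhs => rw [← h3]
        rw [MulAut.inv_apply_self]
      refine ⟨?_, h4⟩
      have h5 : V ((((α zr) ^ i) ^ m)⁻¹ * zr) = zr := by
        rw [map_mul, map_inv, map_pow, map_zpow, h3, h2, inv_mul_cancel_left]
      calc V⁻¹ zr = V⁻¹ (V ((((α zr) ^ i) ^ m)⁻¹ * zr)) := by rw [h5]
        _ = _ := MulAut.inv_apply_self _ _ _
  obtain ⟨v, hv⟩ : ∃ v, v = (α * u * α⁻¹) ^ (-j) := ⟨_, rfl⟩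
  have hv3 : v zr = (α zr)⁻¹ * zr := by rw [hv, (hvpow (-j)).1, zpow_neg, hj]
  have hv4 : v (α zr) = α zr := by rw [hv, (hvpow (-j)).2]
  have hvA : v ∈ F.autGroup R := by
    rw [hv]
    exact Subgroup.zpow_mem _ (Subgroup.mul_mem _ (Subgroup.mul_mem _ hα huA) hα') _
  obtain ⟨n, hn⟩ : ∃ n, n = u * v * u := ⟨_, rfl⟩
  have hn1 : n zr = (α zr)⁻¹ := by
    rw [hn, MulAut.mul_apply, MulAut.mul_apply, hu1, hv3, map_mul, map_inv, hu2, hu1, mul_inv_rev]; group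
  have hn2 : n (α zr) = zr := by
    rw [hn, MulAut.mul_apply, MulAut.mul_apply, hu2, map_mul, hv3, hv4]
    have h1 : (α zr)⁻¹ * zr * α zr = zr := by rw [mul_assoc, hcz.eq, inv_mul_cancel_left]
    rw [h1, hu1]
  have hnA : n ∈ F.autGroup R := by rw [hn]; exact Subgroup.mul_mem _ (Subgroup.mul_mem _ huA hvA) huA
  obtain ⟨w, hw⟩ : ∃ w, w = n * n := ⟨_, rfl⟩
  have hw1 : w zr = zr⁻¹ := by rw [hw, MulAut.mul_apply, hn1, map_inv, hn2]
  have hw2 : w (α zr) = (α zr)⁻¹ := by rw [hw, MulAut.mul_apply, hn2, hn1]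
  have hwA : w ∈ F.autGroup R := by rw [hw]; exact Subgroup.mul_mem _ hnA hnA
  have hzm : (zr : Ω) ∈ Subgroup.zpowers z := by rw [hzr]; exact Subgroup.mem_zpowers z
  have hwz := h.iff_of_mem (γ := w) (w := zr) hzm (by rintro rfl; exact h.hz1 hzr.symm) (by
    rw [hw1]; exact Subgroup.inv_mem _ hzm)
  obtain ⟨g, hg, hgw⟩ := exists_ext h.hS h.hF h.hR.2.1 (L := P ⊓ Subgroup.normalizer (R : Set Ω))
    (inf_le_left.trans h.hPS) inf_le_right hwA (fun t ht => h.transport hwA hwz ht.1 _)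
  have htL : t ∈ R ⊔ (P ⊓ Subgroup.normalizer (R : Set Ω)) := Subgroup.mem_sup_right ⟨htP, htn⟩
  have hRL : ∀ x ∈ R, x ∈ R ⊔ (P ⊓ Subgroup.normalizer (R : Set Ω)) := fun x hx => Subgroup.mem_sup_left hx
  have hgtP : g t ∈ P := StronglyClosed.map_mem F h.hP hg htL htP
  obtain ⟨k, q, hq, hgt⟩ := hgen _ hgtP
  have hgz : g z = z⁻¹ := by
    have h1 := hgw zr
    rw [hw1, hzr] at h1
    rw [h1]; push_cast; rw [hzr]
  have hgz' : g (α zr : Ω) = (α zr : Ω)⁻¹ := by rw [hgw, hw2]; rfl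
  have hgzk : ∀ k : ℤ, g (z ^ k) = (z ^ k)⁻¹ := by
    intro k
    rw [hg.map_zpow (hRL z (h.toGE.zR h.hR)), hgz, inv_zpow]
  have hk : z ^ k = z := by
    have h1 := congrArg g htz'
    rw [hg.map_mul (Subgroup.mul_mem _ htL (hRL _ (α zr).2)) (Subgroup.inv_mem _ htL), hg.map_mul htL (hRL _ (α zr).2),
      hg.map_inv htL, hg.map_mul (hRL z (h.toGE.zR h.hR)) (hRL _ (α zr).2), hgz, hgz', hgt] at h1
    have h2 : q * (α zr : Ω)⁻¹ * q⁻¹ = (α zr : Ω)⁻¹ := by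
      have h3 : Commute q (α zr : Ω) := hz'c q hq.2
      rw [h3.inv_right.eq]; group
    have h4 : t ^ k * q * (α zr : Ω)⁻¹ * (t ^ k * q)⁻¹ = (t ^ k * (α zr : Ω) * (t ^ k)⁻¹)⁻¹ := by
      calc t ^ k * q * (α zr : Ω)⁻¹ * (t ^ k * q)⁻¹ = t ^ k * (q * (α zr : Ω)⁻¹ * q⁻¹) * (t ^ k)⁻¹ := by group
        _ = _ := by rw [h2]; group
    rw [h4, zpow_conj htc1 htz' k, mul_inv_rev] at h1
    have h5 : Commute (α zr : Ω) z := by
      have h6 := congrArg Subtype.val (hzrc (α zr))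
      push_cast at h6
      rwa [hzr] at h6
    rw [(h5.inv_inv).eq.symm] at h1
    have h6 := mul_left_cancel h1
    exact inv_injective h6
  have hkd : (p : ℤ) ∣ k - 1 := by
    refine dvd_of_zpow h.hzp h.hz1 ?_
    rw [zpow_sub, hk, zpow_one, mul_inv_cancel]
  obtain ⟨m, hm⟩ := hkd
  obtain ⟨a, ha⟩ := h.hpow t htP
  have hgt' : ∃ q' ∈ P ⊓ R, g t = t * q' := by
    refine ⟨(z ^ a) ^ m * q, (P ⊓ R).mul_mem ((P ⊓ R).zpow_mem ((P ⊓ R).zpow_mem ⟨h.hz, h.toGE.zR h.hR⟩ a) m) hq, ?_⟩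
    rw [hgt, ← ha, ← zpow_natCast, ← zpow_mul, ← hm, ← mul_assoc, ← zpow_one_add]
    congr 2; ring
  obtain ⟨q', hq', hgt'⟩ := hgt'
  obtain ⟨b, hb⟩ := h.toGE.conj_eq htP hq'.1
  -- `(t q')^p = t^p`
  have hqc : Commute q' (z ^ b) := h.toGE.cz (hRS hq'.2) b
  have hpow := mul_pow_aux (htc b) hqc (by rw [mul_inv_eq_iff_eq_mul] at hb; rw [hb, mul_assoc]) p
  have hcb : (z ^ b) ^ (p.choose 2) = 1 := by
    obtain ⟨k, hk⟩ : p ∣ p.choose 2 := hp.dvd_choose_self (by norm_num) (by have := hp.two_le; omega)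
    have hzb : (z ^ b) ^ p = 1 := by
      rw [← zpow_natCast, ← zpow_mul, mul_comm, zpow_mul, zpow_natCast, h.hzp, one_zpow]
    rw [hk, pow_mul, hzb, one_pow]
  rw [hcb, one_mul, h.pow q' hq', mul_one, ← hgt', ← hg.map_pow htL, ha, hgzk a] at hpow
  rw [ha]
  have h2 : z ^ (2 * a) = 1 := by
    rw [two_mul, zpow_add]
    nth_rewrite 1 [← hpow]
    rw [inv_mul_cancel]
  have h3 := dvd_of_zpow h.hzp h.hz1 h2
  have h4 : (p : ℤ) ∣ a := by
    have hcop : IsCoprime (p : ℤ) 2 := by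
      have h5 : Nat.Coprime p 2 := (Nat.coprime_primes hp Nat.prime_two).2 hp2
      exact_mod_cast Nat.isCoprime_iff_coprime.2 h5
    exact hcop.dvd_of_dvd_mul_left h3
  exact zpow_of_dvd h.hzp h4

end Cfsg.Agent.Lib.FusionGES
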