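import Cfsg.Agent.Lib.GESGroup
import Cfsg.Agent.Lib.Tate

/-! Strongly closed generalized extraspecial subgroups are normal (helper87). -/

set_option autoImplicit false
open Cfsg Cfsg.FusionSystem Cfsg.Agent.Lib.FusionBasic Cfsg.Agent.Lib.FusionSat Cfsg.Agent.Lib.FusionAlperin
  Cfsg.Agent.Lib.FusionNormal Cfsg.Agent.Lib Cfsg.Agent.Lib.FusionEmbGen Cfsg.Agent.Lib.FusionGES

namespace Cfsg.Agent.Lib.FusionGESMain
open scoped commutatorElement

/-- normal subgroups of order `p` are central -/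
theorem central_of_card {X : Type*} [Group X] [Finite X] {p : ℕ} [hp : Fact p.Prime] (hX : IsPGroup p X)
    (N : Subgroup X) [N.Normal] (hN : Nat.card N = p) {n : X} (hn : n ∈ N) (x : X) : x * n = n * x := by
  have hne : N ≠ ⊥ := by
    rintro rfl
    rw [Subgroup.card_bot] at hN
    exact hp.out.one_lt.ne hN
  obtain ⟨S0, hS0, hlt, hc, -⟩ := Tate.exists_normal_index_p hX N hne
  have h0 : S0 = ⊥ := by
    have h1 : Nat.card S0 ∣ p := by rw [← hN]; exact Subgroup.card_dvd_of_le hlt.le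
    rcases (Nat.dvd_prime hp.out).1 h1 with h2 | h2
    · exact Subgroup.eq_bot_of_card_eq _ h2
    · exact absurd (Subgroup.eq_of_le_of_card_ge hlt.le (by rw [h2, hN])) hlt.ne
  rw [h0, le_bot_iff] at hc
  have h1 : ⁅n, x⁆ ∈ ⁅N, (⊤ : Subgroup X)⁆ := Subgroup.commutator_mem_commutator hn (Subgroup.mem_top x)
  rw [hc, Subgroup.mem_bot, commutatorElement_eq_one_iff_mul_comm] at h1
  exact h1.symm

variable {Ω : Type*} [Group Ω] {S P Q R : Subgroup Ω} {F : FusionSystem S} {p : ℕ}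

theorem exists_ge [Finite S] [Fact p.Prime] (hS : IsPGroup p S) (hF : F.IsSaturated p) (hP : F.StronglyClosed P)
    (hge : frattini ↥P = commutator ↥P ∧ Nat.card ↥(commutator ↥P) = p) : ∃ z, GE F p P z := by
  have hp : p.Prime := Fact.out
  have hPS := hP.1
  have hPf : Finite P := finite_of_le hPS
  have hPp : IsPGroup p P := isPGroup_of_le hS hPS
  have hne : Nontrivial (commutator ↥P) := by
    rw [← Finite.one_lt_card_iff_nontrivial, hge.2]; exact hp.one_lt
  obtain ⟨w, hw⟩ := exists_ne (1 : commutator ↥P)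
  have hworder : orderOf w = p := by
    have h1 := orderOf_dvd_natCard w
    rw [hge.2] at h1
    exact (hp.eq_one_or_self_of_dvd _ h1).resolve_left fun h2 => hw (orderOf_eq_one_iff.1 h2)
  have hgen : ∀ c : P, c ∈ commutator ↥P → ∃ k : ℤ, (c : Ω) = ((w : P) : Ω) ^ k := by
    intro c hc
    have h1 : Subgroup.zpowers w = ⊤ := by
      apply Subgroup.eq_top_of_card_eq
      rw [Nat.card_zpowers, hworder, hge.2]
    have h2 : (⟨c, hc⟩ : commutator ↥P) ∈ Subgroup.zpowers w := by rw [h1]; trivial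
    obtain ⟨k, hk⟩ := h2
    refine ⟨k, ?_⟩
    have h3 := congrArg (fun x : commutator ↥P => ((x : P) : Ω)) hk
    dsimp only at h3
    rw [← h3]; push_cast; rfl
  -- centrality
  have hcentral : ∀ s ∈ S, s * ((w : P) : Ω) = ((w : P) : Ω) * s := by
    obtain ⟨D, hD⟩ : ∃ D : Subgroup S, D = ((commutator ↥P).map P.subtype).subgroupOf S := ⟨_, rfl⟩
    have hmem : ∀ x : S, x ∈ D ↔ ∃ c : P, c ∈ commutator ↥P ∧ (c : Ω) = x := by
      intro x
      rw [hD, Subgroup.mem_subgroupOf]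
      constructor
      · rintro ⟨c, hc, h⟩; exact ⟨c, hc, h⟩
      · rintro ⟨c, hc, h⟩; exact ⟨c, hc, h⟩
    have hDn : D.Normal := by
      refine ⟨fun d hd s => ?_⟩
      obtain ⟨c, hc, hcd⟩ := (hmem d).1 hd
      have hsn := normalizes_of_stronglyClosed hP s.2
      refine (hmem _).2 ⟨conjAut P (s : Ω) hsn c, ?_, ?_⟩
      · have h1 : (commutator ↥P).map (conjAut P (s : Ω) hsn).toMonoidHom = commutator ↥P :=
          (Subgroup.characteristic_iff_map_eq.1 inferInstance) _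
        rw [← h1]
        exact ⟨c, hc, rfl⟩
      · rw [conjAut_apply, hcd]; rfl
    have hDc : Nat.card D = p := by
      rw [← hge.2]
      refine (Nat.card_congr (Equiv.ofBijective (fun c : commutator ↥P => (⟨⟨(c : P), hPS (c : P).2⟩,
        (hmem _).2 ⟨c, c.2, rfl⟩⟩ : D)) ⟨?_, ?_⟩)).symm
      · intro a b hab
        have := congrArg (fun x : D => ((x : S) : Ω)) hab
        exact Subtype.ext (Subtype.ext this)
      · rintro ⟨x, hx⟩
        obtain ⟨c, hc, hcx⟩ := (hmem x).1 hx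
        exact ⟨⟨c, hc⟩, Subtype.ext (Subtype.ext hcx)⟩
    intro s hs
    have h1 := central_of_card hS D hDc (n := ⟨((w : P) : Ω), hPS (w : P).2⟩) ((hmem _).2 ⟨w, w.2, rfl⟩) ⟨s, hs⟩
    exact congrArg Subtype.val h1
  refine ⟨((w : P) : Ω), hS, hF, hP, (w : P).2, ?_, ?_, hcentral, ?_, ?_⟩
  · intro h
    exact hw (Subtype.ext (Subtype.ext h))
  · have h1 := pow_orderOf_eq_one w
    rw [hworder] at h1
    have h2 := congrArg (fun x : commutator ↥P => ((x : P) : Ω)) h1
    push_cast at h2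
    exact h2
  · intro x hx y hy
    obtain ⟨k, hk⟩ := hgen ⁅(⟨x, hx⟩ : P), (⟨y, hy⟩ : P)⁆
      (Subgroup.commutator_mem_commutator (Subgroup.mem_top _) (Subgroup.mem_top _))
    exact ⟨k, by rw [← hk, commutatorElement_def]; rfl⟩
  · intro x hx
    have h1 := H70Frattini.pow_mem_frattini hPp (⟨x, hx⟩ : P)
    rw [hge.1] at h1
    obtain ⟨k, hk⟩ := hgen _ h1
    exact ⟨k, by rw [← hk]; rfl⟩

theorem main [Finite S] [Fact p.Prime] (hS : IsPGroup p S) (hF : F.IsSaturated p) (hP : F.StronglyClosed P)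
    (hge : frattini ↥P = commutator ↥P ∧ Nat.card ↥(commutator ↥P) = p)
    (h2 : p = 2 → ¬ ∃ (A : Type) (_ : CommGroup A), (∀ a : A, a ^ 2 = 1) ∧ Nonempty (↥P ≃* DihedralGroup 4 × A))
    (hodd : p ≠ 2 → ¬ ∃ (E : Type) (_ : Group E) (A : Type) (_ : CommGroup A), Cfsg.IsExtraspecial p E ∧
      Nat.card E = p ^ 3 ∧ Monoid.exponent E = p ∧ (∀ a : A, a ^ p = 1) ∧ Nonempty (↥P ≃* E × A)) :
    F.IsNormal P := by
  obtain ⟨z, hz⟩ := exists_ge hS hF hP hge
  have hPf : Finite P := finite_of_le hP.1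
  have hPp : IsPGroup p P := isPGroup_of_le hS hP.1
  refine isNormal_of_essential hS hF fun R hR => ?_
  rcases hR with rfl | hR
  · exact ⟨hP.1, fun a ha x hx => StronglyClosed.map_mem F hP ha.1 (hP.1 hx) hx⟩
  by_cases hPR : P ≤ R
  · exact ⟨hPR, fun a ha x hx => StronglyClosed.map_mem F hP ha.1 (hPR hx) hx⟩
  exfalso
  have h : Cfg F p P z R := { hz with hR := hR, hPR := hPR }
  obtain ⟨t, z', ht, hz', htz', hgen, htp⟩ := h.main
  have hGT : GESGroup.GT p (⟨t, ht⟩ : P) ⟨z', hz'.1⟩ ⟨z, hz.hz⟩ (R.subgroupOf P) :=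
    { hz1 := fun h1 => hz.hz1 (congrArg Subtype.val h1)
      hzp := Subtype.ext hz.hzp
      hzc := fun x => Subtype.ext (hz.hc x (hP.1 x.2))
      hvQ := Subgroup.mem_subgroupOf.2 hz'.2
      hzQ := Subgroup.mem_subgroupOf.2 (hz.zR hR)
      htv := Subtype.ext htz'
      hgen := by
        intro y
        obtain ⟨k, q, hq, hy⟩ := hgen y y.2
        refine ⟨k, ⟨q, hq.1⟩, Subgroup.mem_subgroupOf.2 hq.2, Subtype.ext ?_⟩
        rw [hy]; push_cast; rfl
      hQc := fun a ha b hb => Subtype.ext (h.comm a ⟨a.2, Subgroup.mem_subgroupOf.1 ha⟩ b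
        ⟨b.2, Subgroup.mem_subgroupOf.1 hb⟩)
      hQp := fun a ha => Subtype.ext (h.pow a ⟨a.2, Subgroup.mem_subgroupOf.1 ha⟩)
      htp := by
        obtain ⟨k, hk⟩ := hz.hpow t ht
        exact ⟨k, Subtype.ext (by push_cast; exact hk)⟩
      hcomm := by
        intro q hq
        obtain ⟨k, hk⟩ := hz.conj_eq ht q.2
        exact ⟨k, Subtype.ext (by push_cast; exact hk)⟩ }
  by_cases hp2 : p = 2
  · subst hp2
    exact h2 rfl (hGT.two hPp)
  · exact hodd hp2 (hGT.odd hPp hp2 (Subtype.ext (htp hp2)))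

end Cfsg.Agent.Lib.FusionGESMain
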