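import Cfsg.Agent.Lib.TwoTransv

/-! Automorphism groups of an elementary abelian group of order at most `p²` generated by `p`-elements (helper87). -/

set_option autoImplicit false

namespace Cfsg.Agent.Lib.RankTwoInv

open Subgroup Cfsg.Agent.Lib.TwoTransv

variable {E : Type*} [CommGroup E] {p : ℕ}

theorem card_zpowers_eq [hp : Fact p.Prime] {e : E} (he : e ^ p = 1) (he1 : e ≠ 1) : Nat.card (zpowers e) = p := by
  rw [Nat.card_zpowers]
  exact orderOf_eq_prime he he1

/-- two independent elements generate `E` -/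
theorem generate [Finite E] [hp : Fact p.Prime] (hexp : ∀ e : E, e ^ p = 1) (hcard : Nat.card E ≤ p ^ 2) {e f : E}
    (he : e ≠ 1) (hf : f ∉ zpowers e) (v : E) : ∃ i j : ℤ, v = e ^ i * f ^ j := by
  have h1 : zpowers e < zpowers e ⊔ zpowers f := lt_of_le_of_ne le_sup_left fun h => hf (by
    rw [h]; exact mem_sup_right (mem_zpowers f))
  have hE : IsPGroup p E := fun x => ⟨1, by rw [pow_one]; exact hexp x⟩
  obtain ⟨m, hm⟩ := IsPGroup.iff_card.1 (hE.to_subgroup (zpowers e ⊔ zpowers f))
  have h2 : Nat.card (zpowers e) < Nat.card (zpowers e ⊔ zpowers f : Subgroup E) := by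
    by_contra hcon
    exact h1.ne (Subgroup.eq_of_le_of_card_ge h1.le (not_lt.1 hcon))
  rw [card_zpowers_eq (hexp e) he, hm] at h2
  have h3 : 1 < m := by
    by_contra hcon
    have : m ≤ 1 := not_lt.1 hcon
    have h4 : p ^ m ≤ p ^ 1 := Nat.pow_le_pow_right hp.out.pos this
    rw [pow_one] at h4
    omega
  have h4 : (zpowers e ⊔ zpowers f : Subgroup E) = ⊤ := by
    apply Subgroup.eq_top_of_le_card
    rw [hm]
    exact hcard.trans (Nat.pow_le_pow_right hp.out.pos h3)
  have h5 : v ∈ (zpowers e ⊔ zpowers f : Subgroup E) := by rw [h4]; trivial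
  obtain ⟨a, ⟨i, hi⟩, b, ⟨j, hj⟩, hab⟩ := Subgroup.mem_sup.1 h5
  exact ⟨i, j, by rw [← hab]; show a * b = _; rw [← show e ^ i = a from hi, ← show f ^ j = b from hj]⟩

/-- nontrivial `p`-elements are transvections -/
theorem isTrans_of_pElement [Finite E] [hp : Fact p.Prime] (hexp : ∀ e : E, e ^ p = 1) (hcard : Nat.card E ≤ p ^ 2)
    {x : MulAut E} (hx1 : x ≠ 1) {k : ℕ} (hxk : x ^ p ^ k = 1) : ∃ e, IsTrans p x e := by
  have hE : IsPGroup p E := fun x => ⟨1, by rw [pow_one]; exact hexp x⟩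
  obtain ⟨m, hm⟩ := IsPGroup.iff_card.1 hE
  have hm0 : m ≠ 0 := by
    rintro rfl
    rw [pow_zero] at hm
    have := (Nat.card_eq_one_iff_unique.1 hm).1
    exact hx1 (MulEquiv.ext fun v => Subsingleton.elim _ _)
  have hdvd : p ∣ Nat.card E := by rw [hm]; exact dvd_pow_self p hm0
  have hxp : IsPGroup p (zpowers x) := by
    rintro ⟨_, n, rfl⟩
    refine ⟨k, Subtype.ext ?_⟩
    show (x ^ n) ^ p ^ k = 1
    rw [← zpow_natCast, ← zpow_mul, mul_comm, zpow_mul, zpow_natCast, hxk, one_zpow]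
  obtain ⟨e, he, he1⟩ := hxp.exists_fixed_point_of_prime_dvd_card_of_fixed_point E hdvd (a := 1) (fun g => map_one (g : MulAut E))
  have hxe : x e = e := he ⟨x, mem_zpowers x⟩
  refine ⟨e, fun h => he1 h.symm, hexp e, hxe, fun v => ?_, hx1⟩
  by_cases hv : v ∈ zpowers e
  · obtain ⟨n, rfl⟩ := hv
    exact ⟨0, by show x (e ^ n) = _; rw [map_zpow, hxe, zpow_zero, mul_one]⟩
  · obtain ⟨j, i, hij⟩ := generate hexp hcard (fun h => he1 h.symm) hv (x v)
    have hpow : ∀ n : ℕ, ∃ j' : ℤ, (x ^ n) v = e ^ j' * v ^ (i ^ n) := by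
      intro n
      induction n with
      | zero => exact ⟨0, by simp⟩
      | succ n ih =>
        obtain ⟨j', hj'⟩ := ih
        refine ⟨j' + j * i ^ n, ?_⟩
        rw [pow_succ', MulAut.mul_apply, hj', map_mul, map_zpow, map_zpow, hxe, hij, mul_zpow, ← zpow_mul, ← zpow_mul,
          ← mul_assoc, ← zpow_add, pow_succ']
    obtain ⟨j', hj'⟩ := hpow (p ^ k)
    rw [hxk, MulAut.one_apply] at hj'
    -- `v ^ (i ^ (p ^ k) - 1) ∈ ⟨e⟩`
    have h1 : v ^ (i ^ p ^ k - 1) ∈ zpowers e := by
      refine ⟨-j', ?_⟩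
      show e ^ (-j') = _
      rw [zpow_sub, zpow_one, zpow_neg]
      conv_rhs => rw [hj']
      rw [← hj']
      have h2 : v ^ i ^ p ^ k = (e ^ j')⁻¹ * v := by
        conv_rhs => rw [hj']
        rw [inv_mul_cancel_left]
      rw [h2, mul_inv_cancel_right]
    have h2 : (p : ℤ) ∣ i ^ p ^ k - 1 := by
      by_contra hnd
      have hne : v ^ (i ^ p ^ k - 1) ≠ 1 := by
        intro h
        apply hnd
        have hvo : orderOf v = p := orderOf_eq_prime (hexp v) (fun h => hv (by rw [h]; exact one_mem _))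
        have h5 : ((orderOf v : ℕ) : ℤ) ∣ i ^ p ^ k - 1 := orderOf_dvd_iff_zpow_eq_one.2 h
        rwa [hvo] at h5
      have h3 := mem_zpowers_of (hexp v) ⟨i ^ p ^ k - 1, rfl⟩ hne
      exact hv ((zpowers_le.2 h1) h3)
    have h3 : (p : ℤ) ∣ i - 1 := by
      rw [← ZMod.intCast_zmod_eq_zero_iff_dvd] at h2 ⊢
      push_cast at h2 ⊢
      rwa [ZMod.pow_card_pow] at h2
    obtain ⟨c, hc⟩ := h3
    refine ⟨j, ?_⟩
    have h4 : i = 1 + p * c := by linear_combination hc
    rw [hij, h4, zpow_add, zpow_one, zpow_mul, zpow_natCast, hexp, one_zpow, mul_one, mul_comm]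

/-- A group of automorphisms of an elementary abelian group of order at most `p²` generated by `p`-elements is a `p`-group
or contains the inversion. -/
theorem inversion_or_pGroup [Finite E] [hp : Fact p.Prime] (hexp : ∀ e : E, e ^ p = 1) (hcard : Nat.card E ≤ p ^ 2)
    (s : Set (MulAut E)) (hs : ∀ x ∈ s, ∃ k : ℕ, x ^ p ^ k = 1) :
    IsPGroup p (closure s) ∨ ∃ b ∈ closure s, ∀ e, b e = e⁻¹ := by
  by_cases hall : ∀ x ∈ s, x = 1
  · left
    have h1 : closure s = ⊥ := by
      rw [eq_bot_iff, closure_le]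
      intro x hx
      rw [hall x hx]; exact one_mem _
    rw [h1]
    exact IsPGroup.of_bot
  · push Not at hall
    obtain ⟨x, hxs, hx1⟩ := hall
    obtain ⟨k, hk⟩ := hs x hxs
    obtain ⟨e, he⟩ := isTrans_of_pElement hexp hcard hx1 hk
    by_cases hfix : ∀ y ∈ s, y e = e
    · left
      have hact : ∀ y ∈ s, ∀ v, ∃ j : ℤ, y v = v * e ^ j := by
        intro y hy v
        by_cases hy1 : y = 1
        · exact ⟨0, by rw [hy1]; simp⟩
        · obtain ⟨l, hl⟩ := hs y hy
          obtain ⟨f, hf⟩ := isTrans_of_pElement hexp hcard hy1 hl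
          -- `e` is a centre of `y`
          by_cases hfe : f ∈ zpowers e
          · obtain ⟨m, hm⟩ := hfe
            obtain ⟨j, hj⟩ := hf.act v
            have hm' : e ^ m = f := hm
            exact ⟨m * j, by rw [hj, ← hm', zpow_mul]⟩
          · exfalso
            apply hy1
            apply MulEquiv.ext
            intro v
            obtain ⟨i, j, rfl⟩ := generate hexp hcard he.ne hfe v
            rw [map_mul, map_zpow, map_zpow, hfix y hy, hf.fix]; rfl
      have hcl : ∀ g ∈ closure s, g e = e ∧ ∀ v, ∃ j : ℤ, g v = v * e ^ j := by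
        intro g hg
        induction hg using closure_induction with
        | mem y hy => exact ⟨hfix y hy, hact y hy⟩
        | one => exact ⟨rfl, fun v => ⟨0, by simp⟩⟩
        | mul a b _ _ ha hb =>
          refine ⟨by rw [MulAut.mul_apply, hb.1, ha.1], fun v => ?_⟩
          obtain ⟨j, hj⟩ := hb.2 v
          obtain ⟨j', hj'⟩ := ha.2 v
          exact ⟨j' + j, by rw [MulAut.mul_apply, hj, map_mul, map_zpow, ha.1, hj', zpow_add, mul_assoc]⟩
        | inv a _ ha =>
          have h1 : a⁻¹ e = e := by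
            conv_lhs => rw [← ha.1]
            rw [MulAut.inv_apply_self]
          refine ⟨h1, fun v => ?_⟩
          obtain ⟨j, hj⟩ := ha.2 v
          refine ⟨-j, ?_⟩
          have h2 : a (v * e ^ (-j)) = v := by rw [map_mul, map_zpow, ha.1, hj, mul_assoc, ← zpow_add]; simp
          rw [← h2, MulAut.inv_apply_self, h2]
      intro g
      refine ⟨1, Subtype.ext (MulEquiv.ext fun v => ?_)⟩
      obtain ⟨h1, h2⟩ := hcl g g.2
      obtain ⟨j, hj⟩ := h2 v
      rw [Subgroup.coe_pow, Subgroup.coe_one, pow_one, IsTrans.pow_apply h1 hj, ← zpow_natCast, ← zpow_mul, mul_comm j,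
        zpow_mul, zpow_natCast, hexp, one_zpow, mul_one]
      rfl
    · right
      push Not at hfix
      obtain ⟨y, hys, hye⟩ := hfix
      have hy1 : y ≠ 1 := by rintro rfl; exact hye rfl
      obtain ⟨l, hl⟩ := hs y hys
      obtain ⟨f, hf⟩ := isTrans_of_pElement hexp hcard hy1 hl
      have hfe : f ∉ zpowers e := by
        intro h
        have h1 := mem_zpowers_of he.pow h hf.ne
        obtain ⟨m, hm⟩ := h1
        have hm' : f ^ m = e := hm
        exact hye (by rw [← hm', map_zpow, hf.fix])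
      have hxf : x f ≠ f := by
        intro h
        apply hx1
        apply MulEquiv.ext
        intro v
        obtain ⟨i, j, rfl⟩ := generate hexp hcard he.ne hfe v
        rw [map_mul, map_zpow, map_zpow, he.fix, h]; rfl
      obtain ⟨y', e₁, he₁, hyz, hx₁, hy₁, h1, h2⟩ := normal_form he hf hxf hye
      have hfe₁ : f ∉ zpowers e₁ := fun h => hfe ((zpowers_le.2 he₁) h)
      have hy' : y' ∈ closure s := by
        have h3 : y' ∈ zpowers y := by rw [← hyz]; exact mem_zpowers y'
        exact (zpowers_le.2 (subset_closure hys)) h3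
      have hxc : x ∈ closure s := subset_closure hxs
      refine ⟨(x * y' * x) ^ 2, pow_mem (mul_mem (mul_mem hxc hy') hxc) 2, fun v => ?_⟩
      obtain ⟨h3, h4⟩ := central_involution hx₁.fix hy₁.fix h1 h2
      obtain ⟨i, j, rfl⟩ := generate hexp hcard hx₁.ne hfe₁ v
      rw [map_mul, map_zpow, map_zpow, h3, h4, mul_inv, inv_zpow, inv_zpow]

end Cfsg.Agent.Lib.RankTwoInv
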