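import Cfsg.Agent.Lib.FusionRestr
import Cfsg.Agent.Lib.RankTwoInv
import Cfsg.Agent.Lib.FusionPPower
import Cfsg.Agent.Lib.FusionFocal

/-! For odd `p`, a strongly closed subgroup whose elements of order `p` form a group of order at most `p²` is normal (helper87). -/

set_option autoImplicit false
open Cfsg Cfsg.FusionSystem Cfsg.Agent.Lib.FusionBasic Cfsg.Agent.Lib.FusionSat Cfsg.Agent.Lib.FusionAlperin
  Cfsg.Agent.Lib.FusionNormal Cfsg.Agent.Lib.FusionClosed Cfsg.Agent.Lib.FusionStable Cfsg.Agent.Lib.FusionRestr Cfsg.Agent.Lib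

namespace Cfsg.Agent.Lib.FusionMeta

variable {Ω : Type*} [Group Ω] {S P Q R E : Subgroup Ω} {F : FusionSystem S} {f g : Ω → Ω} {p : ℕ}

theorem normal_of_omega_rank_two [Finite S] [Fact p.Prime] (hp2 : p ≠ 2) (hS : IsPGroup p S) (hF : F.IsSaturated p)
    (hP : F.StronglyClosed P) (hE : ∀ x, x ∈ E ↔ x ∈ P ∧ x ^ p = 1) (hEab : ∀ x ∈ E, ∀ y ∈ E, x * y = y * x)
    (hEcard : Nat.card E ≤ p ^ 2) : F.IsNormal P := by
  have hpp : p.Prime := Fact.out
  have hodd : Odd p := hpp.odd_of_ne_two hp2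
  have hPS := hP.1
  have hEP : E ≤ P := fun x hx => ((hE x).1 hx).1
  have hEsc : F.StronglyClosed E := by
    rw [stronglyClosed_iff]
    refine ⟨hEP.trans hPS, fun Q f hQ hf x hx => ?_⟩
    obtain ⟨h1, h2⟩ := (hE x).1 (hQ hx)
    exact (hE _).2 ⟨StronglyClosed.map_mem F hP hf hx h1, by rw [← hf.map_pow hx, h2, hf.map_one]⟩
  have hEn : F.IsNormal E := isNormal_of_abelian_stronglyClosed hS hF hEsc hEab
  refine isNormal_of_centricRadical hS hF hP fun R hRn hRc hRr => ?_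
  have hRS := hRn.1
  have hRfin : Finite R := finite_of_le hRS
  have hER : E ≤ R := le_of_isNormal hS hEn hRc hRr
  have hEfin : Finite E := finite_of_le (hEP.trans hPS)
  have hRE : R ⊓ E = E := inf_eq_right.2 hER
  have hres : ∀ b, FIso F R R b → FIso F E E b := fun b hb => by
    have := fiso_inf_stronglyClosed hEsc hb
    rwa [hRE] at this
  obtain ⟨ρ, hρ⟩ : ∃ ρ, ρ = res F hRS hER hres := ⟨_, rfl⟩
  have hρa : ∀ (β : F.autGroup R) (x : E), ((ρ β x : E) : Ω) = ((β : MulAut R) ⟨x, hER x.2⟩ : R) := by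
    intro β x
    rw [hρ, res_apply']
  obtain ⟨K, hK⟩ : ∃ K, K = trivMod F R P := ⟨_, rfl⟩
  have hKF : K ≤ F.autGroup R := by rw [hK]; exact fun β hβ => hβ.1
  -- `p'`-elements of `K` trivial on `E`
  have hK1 : ∀ β ∈ K, (orderOf β).Coprime p → (∀ x : R, (x : Ω) ∈ E → β x = x) → β = 1 := by
    intro β hβ ho h
    rw [hK] at hβ
    refine eq_one_of_trivMod_omega hp2 hS hRS hP hβ ho fun x hx hxp => h x ((hE _).2 ⟨hx, ?_⟩)
    exact congrArg Subtype.val hxp
  have hnorm : ∀ q ∈ P, q ∈ Subgroup.normalizer (R : Set Ω) → ∃ hn : q ∈ Subgroup.normalizer (R : Set Ω), conjAut R q hn ∈ K := by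
    intro q hq hn
    exact ⟨hn, by rw [hK]; exact conjAut_mem_trivMod hRS hP hq hn⟩
  -- abelian structure on `E`
  let _ : CommGroup E := { (inferInstance : Group E) with mul_comm := fun x y => Subtype.ext (hEab x x.2 y y.2) }
  have hexp : ∀ e : E, e ^ p = 1 := fun e => Subtype.ext ((hE e).1 e.2).2
  obtain ⟨s, hs⟩ : ∃ s : Set (MulAut E), s = {x | ∃ β : F.autGroup R, (β : MulAut R) ∈ K ∧ (∃ k : ℕ, (β : MulAut R) ^ p ^ k = 1) ∧ ρ β = x} :=
    ⟨_, rfl⟩
  have hsp : ∀ x ∈ s, ∃ k : ℕ, x ^ p ^ k = 1 := by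
    rw [hs]
    rintro x ⟨β, -, ⟨k, hk⟩, rfl⟩
    refine ⟨k, ?_⟩
    rw [← map_pow]
    have : β ^ p ^ k = 1 := Subtype.ext hk
    rw [this, map_one]
  refine le_of_normalizerIn_le hS hRS hPS (normalizes_of_stronglyClosed hP) ?_
  rcases RankTwoInv.inversion_or_pGroup hexp hEcard s hsp with hcase | ⟨b, hb, hbi⟩
  · -- generated `p`-group
    obtain ⟨L, hL⟩ : ∃ L, L = Subgroup.closure {β : MulAut R | β ∈ K ∧ ∃ k : ℕ, β ^ p ^ k = 1} := ⟨_, rfl⟩
    have hLK : L ≤ K := by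
      rw [hL, Subgroup.closure_le]
      exact fun β hβ => hβ.1
    have hLs : ∀ β (hβ : β ∈ L), ρ ⟨β, hKF (hLK hβ)⟩ ∈ Subgroup.closure s := by
      have h1 : L ≤ ((Subgroup.closure s).comap ρ).map (F.autGroup R).subtype := by
        rw [hL, Subgroup.closure_le]
        rintro β ⟨hβK, hβp⟩
        refine ⟨⟨β, hKF hβK⟩, Subgroup.subset_closure ?_, rfl⟩
        rw [hs]
        exact ⟨⟨β, hKF hβK⟩, hβK, hβp, rfl⟩
      intro β hβ
      obtain ⟨γ, hγ, hγβ⟩ := h1 hβ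
      have : (⟨β, hKF (hLK hβ)⟩ : F.autGroup R) = γ := Subtype.ext hγβ.symm
      rw [this]
      exact hγ
    have hLp : IsPGroup p L := by
      refine isPGroup_of_coprime_trivial fun β ho => ?_
      have ho' : (orderOf (β : MulAut R)).Coprime p := by rw [Subgroup.orderOf_coe]; exact ho
      refine Subtype.ext (hK1 β (hLK β.2) ho' fun x hx => ?_)
      obtain ⟨γ, hγ⟩ : ∃ γ : F.autGroup R, γ = ⟨β, hKF (hLK β.2)⟩ := ⟨_, rfl⟩
      have h1 : ρ γ = 1 := by
        have h2 : ρ γ ∈ Subgroup.closure s := by rw [hγ]; exact hLs β β.2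
        obtain ⟨k, hk⟩ := hcase ⟨ρ γ, h2⟩
        have hk' : (ρ γ) ^ p ^ k = 1 := congrArg Subtype.val hk
        have h3 : orderOf γ = orderOf (β : MulAut R) := by rw [hγ, ← Subgroup.orderOf_coe]
        have h4 : (orderOf (ρ γ)).Coprime (p ^ k) :=
          Nat.Coprime.pow_right k (Nat.Coprime.coprime_dvd_left (orderOf_map_dvd ρ γ) (by rw [h3]; exact ho'))
        exact orderOf_eq_one_iff.1 (Nat.Coprime.eq_one_of_dvd h4 (orderOf_dvd_of_pow_eq_one hk'))
      have h2 := hρa γ ⟨x, hx⟩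
      rw [h1, hγ] at h2
      exact Subtype.ext h2.symm
    have hLn : ∀ α ∈ F.autGroup R, ∀ κ ∈ L, α * κ * α⁻¹ ∈ L := by
      intro α hα κ hκ
      have h1 : L ≤ L.comap (MulAut.conj α).toMonoidHom := by
        conv_lhs => rw [hL]
        rw [Subgroup.closure_le]
        rintro β ⟨hβK, k, hk⟩
        show α * β * α⁻¹ ∈ L
        rw [hL]
        refine Subgroup.subset_closure ⟨?_, k, ?_⟩
        · rw [hK] at hβK ⊢
          exact trivMod_normal hRS hP hα hβK
        · rw [conj_pow, hk, mul_one, mul_inv_cancel]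
      exact h1 hκ
    have hLinn := le_inn_of_radical hRr (hLK.trans hKF) hLp hLn
    intro q hq hqn
    refine mem_of_conj_mem_inn (hRc.2 R (isConj_refl F hRS)) (hPS hq) hqn (hLinn ?_) hRS
    obtain ⟨hn, hc⟩ := hnorm q hq hqn
    rw [hL]
    refine Subgroup.subset_closure ⟨hc, ?_⟩
    obtain ⟨k, hk⟩ := hS ⟨q, hPS hq⟩
    have hk' : q ^ p ^ k = 1 := congrArg Subtype.val hk
    refine ⟨k, MulEquiv.ext fun x => Subtype.ext ?_⟩
    have h1 : ∀ n : ℕ, (((conjAut R q hqn) ^ n) x : Ω) = q ^ n * x * (q ^ n)⁻¹ := by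
      intro n
      induction n with
      | zero => simp
      | succ n ih => rw [pow_succ', MulAut.mul_apply, conjAut_apply, ih, pow_succ']; group
    rw [h1, hk']; simp
  · -- the inversion is induced
    have hlift : ∃ β : F.autGroup R, (β : MulAut R) ∈ K ∧ ρ β = b := by
      have h1 : Subgroup.closure s ≤ (K.subgroupOf (F.autGroup R)).map ρ := by
        rw [Subgroup.closure_le, hs]
        rintro x ⟨β, hβK, -, rfl⟩
        exact ⟨β, hβK, rfl⟩
      obtain ⟨β, hβ, hβb⟩ := h1 hb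
      exact ⟨β, hβ, hβb⟩
    obtain ⟨β, hβK, hβb⟩ := hlift
    have hβE : ∀ x : R, (x : Ω) ∈ E → (β : MulAut R) x = x⁻¹ := by
      intro x hx
      have h1 := hρa β ⟨x, hx⟩
      rw [hβb, hbi] at h1
      exact Subtype.ext h1.symm
    -- a power of order prime to `p`
    obtain ⟨a, n, hn, han⟩ := Nat.exists_eq_pow_mul_and_not_dvd (orderOf_pos (β : MulAut R)).ne' p hpp.ne_one
    obtain ⟨h, hh⟩ : ∃ h : MulAut R, h = (β : MulAut R) ^ p ^ a := ⟨_, rfl⟩
    have hhK : h ∈ K := by rw [hh]; exact K.pow_mem hβK _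
    have hho : (orderOf h).Coprime p := by
      have h1 : h ^ n = 1 := by rw [hh, ← pow_mul, ← han, pow_orderOf_eq_one]
      exact Nat.Coprime.coprime_dvd_left (orderOf_dvd_of_pow_eq_one h1) ((Nat.Prime.coprime_iff_not_dvd hpp).2 hn).symm
    have hinvpow : ∀ (X : Subgroup Ω) (γ : MulAut X), (∀ x : X, (x : Ω) ∈ E → γ x = x⁻¹) → ∀ m : ℕ, Odd m →
        ∀ x : X, (x : Ω) ∈ E → (γ ^ m) x = x⁻¹ := by
      rintro X γ hγ m ⟨j, rfl⟩ x hx
      have h2 : ∀ j : ℕ, (γ ^ (2 * j)) x = x := by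
        intro j
        induction j with
        | zero => rfl
        | succ j ih =>
          rw [show 2 * (j + 1) = 2 * j + 2 by ring, pow_add, MulAut.mul_apply, pow_two, MulAut.mul_apply, hγ x hx,
            hγ x⁻¹ (E.inv_mem hx), inv_inv, ih]
      rw [pow_succ', MulAut.mul_apply, h2, hγ x hx]
    have hhE : ∀ x : R, (x : Ω) ∈ E → h x = x⁻¹ := by
      intro x hx
      rw [hh]
      exact hinvpow R β hβE _ (hodd.pow) x hx
    have hhF := hKF hhK
    -- K₀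
    let K₀ : Subgroup (MulAut R) :=
      { carrier := {γ | γ ∈ K ∧ ∀ x : R, (x : Ω) ∈ E → γ x = x}
        one_mem' := ⟨K.one_mem, fun x _ => rfl⟩
        mul_mem' := by
          rintro α γ ⟨h1, h2⟩ ⟨k1, k2⟩
          refine ⟨K.mul_mem h1 k1, fun x hx => ?_⟩
          rw [MulAut.mul_apply, k2 x hx, h2 x hx]
        inv_mem' := by
          rintro α ⟨h1, h2⟩
          refine ⟨K.inv_mem h1, fun x hx => ?_⟩
          conv_lhs => rw [← h2 x hx]
          rw [MulAut.inv_apply_self] }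
    have hEinv : ∀ α ∈ F.autGroup R, ∀ x : R, (x : Ω) ∈ E → ((α x : R) : Ω) ∈ E := by
      intro α hα x hx
      have := StronglyClosed.map_mem F hEsc (fmap_of_autGroup hRS hα) x.2 hx
      rwa [autFun_coe] at this
    have hK₀inn : K₀ ≤ Inn R := by
      refine le_inn_of_radical hRr (fun γ hγ => hKF hγ.1) ?_ ?_
      · refine isPGroup_of_coprime_trivial fun γ ho => ?_
        have ho' : (orderOf (γ : MulAut R)).Coprime p := by rw [Subgroup.orderOf_coe]; exact ho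
        exact Subtype.ext (hK1 γ γ.2.1 ho' γ.2.2)
      · rintro α hα κ ⟨h1, h2⟩
        refine ⟨?_, fun x hx => ?_⟩
        · rw [hK] at h1 ⊢
          exact trivMod_normal hRS hP hα h1
        · rw [MulAut.mul_apply, MulAut.mul_apply, h2 _ (hEinv α⁻¹ (Subgroup.inv_mem _ hα) x hx), MulAut.apply_inv_self]
    obtain ⟨M, hM⟩ : ∃ M, M = normalizerIn P R := ⟨_, rfl⟩
    have hMN : M ≤ normalizerIn S R := by rw [hM]; exact inf_le_inf_right _ hPS
    have hMP : M ≤ P := by rw [hM]; exact inf_le_left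
    have hMS := hMP.trans hPS
    have hMfin : Finite M := finite_of_le hMS
    -- commutators with `h`
    have hcomm : ∀ m ∈ M, ∃ r ∈ R, ∀ x ∈ R, autFun h (m * x * m⁻¹) = (r * m) * autFun h x * (r * m)⁻¹ := by
      intro m hm
      have hmn := (hMN hm).2
      obtain ⟨hn', hcK⟩ := hnorm m (hMP hm) hmn
      have h1 : h * conjAut R m hn' * h⁻¹ * (conjAut R m hn')⁻¹ ∈ K₀ := by
        refine ⟨K.mul_mem (K.mul_mem (K.mul_mem hhK hcK) (K.inv_mem hhK)) (K.inv_mem hcK), fun x hx => ?_⟩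
        have e1 := hEinv _ (Subgroup.inv_mem _ (hKF hcK)) x hx
        have e2 : h⁻¹ ((conjAut R m hn')⁻¹ x) = ((conjAut R m hn')⁻¹ x)⁻¹ := by
          rw [MulAut.inv_apply, MulEquiv.symm_apply_eq, map_inv, hhE _ e1, inv_inv]
        rw [MulAut.mul_apply, MulAut.mul_apply, MulAut.mul_apply, e2, map_inv, MulAut.apply_inv_self, map_inv, hhE x hx, inv_inv]
      obtain ⟨r, hr, hrx⟩ := FusionRad.mem_inn_iff.1 (hK₀inn h1)
      refine ⟨r, hr, fun x hx => ?_⟩
      have hmx : m * x * m⁻¹ ∈ R := (Subgroup.mem_normalizer_iff.1 hmn x).1 hx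
      have h2 := hrx (conjAut R m hn' (h ⟨x, hx⟩))
      have h3 : (h * conjAut R m hn' * h⁻¹ * (conjAut R m hn')⁻¹) (conjAut R m hn' (h ⟨x, hx⟩)) =
          h (conjAut R m hn' ⟨x, hx⟩) := by
        rw [MulAut.mul_apply, MulAut.inv_apply_self, MulAut.mul_apply, MulAut.mul_apply, MulAut.inv_apply_self]
      rw [h3, conjAut_apply] at h2
      rw [autFun_of_mem h hmx, autFun_of_mem h hx]
      have h4 : (⟨m * x * m⁻¹, hmx⟩ : R) = conjAut R m hn' ⟨x, hx⟩ := rfl
      rw [h4, h2]; group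
    -- extension
    have hfh : FIso F R R (autFun h) := (fiso_autFun_iff hRS).2 hhF
    obtain ⟨σ, hσ, hσh⟩ := FusionTools.extend_sup (receptive_of_fullyNormalized hS hF hRn) hfh hMN (fun m hm => by
      obtain ⟨r, hr, h1⟩ := hcomm m hm
      exact ⟨r * m, S.mul_mem (hRS hr) (hMS hm), h1⟩)
    have hσR : FIso F R R σ := hfh.congr (fun x hx => (hσh x hx).symm)
    have hσM : FIso F M M σ := by
      refine (hσ.restrict le_sup_right).fiso_of_card hMS (fun m hm => ?_) le_rfl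
      rw [hM]
      exact ⟨StronglyClosed.map_mem F hP hσ (Subgroup.mem_sup_right hm) (hMP hm),
        hσR.map_normalizer hσ le_sup_left (Subgroup.mem_sup_right hm) (hMN hm).2⟩
    obtain ⟨γ, hγ⟩ : ∃ γ : MulAut M, γ = hσM.equiv := ⟨_, rfl⟩
    have hγσ : ∀ x : M, ((γ x : M) : Ω) = σ x := fun x => by rw [hγ, FIso.equiv_apply]
    obtain ⟨Q, hQ⟩ : ∃ Q : Subgroup M, Q = R.subgroupOf M := ⟨_, rfl⟩
    have hQmem : ∀ x : M, x ∈ Q ↔ (x : Ω) ∈ R := fun x => by rw [hQ, Subgroup.mem_subgroupOf]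
    have hQn : Q.Normal := by
      refine ⟨fun x hx m => ?_⟩
      rw [hQmem] at hx ⊢
      exact (Subgroup.mem_normalizer_iff.1 (hMN m.2).2 x).1 hx
    have hγQ : ∀ x ∈ Q, γ x ∈ Q := by
      intro x hx
      rw [hQmem] at hx ⊢
      rw [hγσ]
      exact hσR.mem hx
    have hγQ1 : ∀ m : M, m⁻¹ * γ m ∈ Q := by
      intro m
      rw [hQmem]
      show (m : Ω)⁻¹ * (γ m : M) ∈ R
      rw [hγσ]
      obtain ⟨r, hr, h1⟩ := hcomm m m.2
      have h2 : (r * (m : Ω))⁻¹ * σ m ∈ R := by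
        refine hRc.2 R (isConj_refl F hRS) (mem_centralizerIn.2 ⟨S.mul_mem (S.inv_mem (S.mul_mem (hRS hr) (hMS m.2)))
          (hσ.map_mem (Subgroup.mem_sup_right m.2)), mem_centralizer_iff'.2 fun y hy => ?_⟩)
        obtain ⟨x, hx, rfl⟩ := (hfh.2 y).1 hy
        have hmx : (m : Ω) * x * (m : Ω)⁻¹ ∈ R := (Subgroup.mem_normalizer_iff.1 (hMN m.2).2 x).1 hx
        have h3 : σ ((m : Ω) * x * (m : Ω)⁻¹) = σ m * σ x * (σ m)⁻¹ :=
          hσ.map_conj (Subgroup.mem_sup_right m.2) (Subgroup.mem_sup_left hx)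
        rw [hσh _ hmx, h1 x hx, hσh x hx] at h3
        calc (r * (m : Ω))⁻¹ * σ m * autFun h x * ((r * (m : Ω))⁻¹ * σ m)⁻¹ =
              (r * (m : Ω))⁻¹ * (σ m * autFun h x * (σ m)⁻¹) * (r * (m : Ω)) := by group
          _ = autFun h x := by rw [← h3]; group
      have h3 : (m : Ω)⁻¹ * r * m ∈ R := by
        have := (Subgroup.mem_normalizer_iff.1 (Subgroup.inv_mem _ (hMN m.2).2) r).1 hr
        rwa [inv_inv] at this
      have h4 : (m : Ω)⁻¹ * σ m = ((m : Ω)⁻¹ * r * m) * ((r * (m : Ω))⁻¹ * σ m) := by group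
      rw [h4]
      exact R.mul_mem h3 h2
    have hγE : ∀ x : M, (x : Ω) ∈ E → γ x = x⁻¹ := by
      intro x hx
      apply Subtype.ext
      rw [hγσ, hσh x (hER hx), autFun_of_mem h (hER hx), hhE ⟨x, hER hx⟩ hx]; rfl
    obtain ⟨c, n', hn', hcn⟩ := Nat.exists_eq_pow_mul_and_not_dvd (orderOf_pos γ).ne' p hpp.ne_one
    obtain ⟨δ, hδ⟩ : ∃ δ : MulAut M, δ = γ ^ p ^ c := ⟨_, rfl⟩
    have hδo : (orderOf δ).Coprime p := by
      have h1 : δ ^ n' = 1 := by rw [hδ, ← pow_mul, ← hcn, pow_orderOf_eq_one]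
      exact Nat.Coprime.coprime_dvd_left (orderOf_dvd_of_pow_eq_one h1) ((Nat.Prime.coprime_iff_not_dvd hpp).2 hn').symm
    have hδE : ∀ x : M, (x : Ω) ∈ E → δ x = x⁻¹ := by
      rw [hδ]
      exact hinvpow M γ hγE _ hodd.pow
    have hδQ : ∀ m : M, m⁻¹ * δ m ∈ Q := by
      have h1 : ∀ (n : ℕ) (m : M), m⁻¹ * (γ ^ n) m ∈ Q := by
        intro n
        induction n with
        | zero => intro m; simp
        | succ n ih =>
          intro m
          have h2 := Q.mul_mem (hγQ1 m) (hγQ _ (ih m))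
          have h3 : m⁻¹ * γ m * γ (m⁻¹ * (γ ^ n) m) = m⁻¹ * (γ ^ (n + 1)) m := by
            rw [pow_succ', MulAut.mul_apply, map_mul, map_inv]; group
          rwa [h3] at h2
      rw [hδ]
      exact h1 _
    intro q hq hqn
    by_contra hqR
    have hqM : q ∈ M := by rw [hM]; exact ⟨hq, hqn⟩
    obtain ⟨u, hu, z, hz, huz⟩ := FusionPPower.exists_fixed_mul (hS.to_le hMS) δ hδo Q hδQ ⟨q, hqM⟩
    have hz1 : z ≠ 1 := by
      rintro rfl
      rw [mul_one] at huz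
      rw [hQmem, huz] at hu
      exact hqR hu
    -- a power of `z` of order `p`
    obtain ⟨k, hk⟩ := (IsPGroup.iff_orderOf.1 (hS.to_le hMS)) z
    have hk0 : k ≠ 0 := by
      rintro rfl
      rw [pow_zero, orderOf_eq_one_iff] at hk
      exact hz1 hk
    obtain ⟨l, rfl⟩ := Nat.exists_eq_succ_of_ne_zero hk0
    obtain ⟨w, hw⟩ : ∃ w, w = z ^ p ^ l := ⟨_, rfl⟩
    have hwp : w ^ p = 1 := by rw [hw, ← pow_mul, ← pow_succ, ← Nat.succ_eq_add_one, ← hk, pow_orderOf_eq_one]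
    have hw1 : w ≠ 1 := by
      intro h1
      rw [hw] at h1
      have h2 := orderOf_dvd_of_pow_eq_one h1
      rw [hk, Nat.pow_dvd_pow_iff_le_right hpp.one_lt] at h2
      omega
    have hwE : (w : Ω) ∈ E := (hE _).2 ⟨hMP w.2, congrArg Subtype.val hwp⟩
    have hδw : δ w = w := by rw [hw, map_pow, hz]
    have h1 := hδE w hwE
    rw [hδw] at h1
    have h2 : w ^ 2 = 1 := by rw [pow_two]; exact mul_eq_one_iff_eq_inv.2 h1
    refine hw1 (FusionFocal.pow_eq_one_of_coprime (hS.to_le hMS) (fun hd => hp2 ?_) h2)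
    exact (Nat.prime_dvd_prime_iff_eq hpp Nat.prime_two).1 hd

end Cfsg.Agent.Lib.FusionMeta
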