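import Cfsg.Agent.Lib.FusionBiset

/-! Every fusion system over a finite group is realized inside a finite group (Park). -/

set_option autoImplicit false
set_option maxHeartbeats 400000

namespace Cfsg.Agent.Lib.FusionPark

open Cfsg Cfsg.FusionSystem
open Cfsg.Agent.Lib.FusionBasic Cfsg.Agent.Lib.FusionSat Cfsg.Agent.Lib.Marks Cfsg.Agent.Lib.MarksStable
open Cfsg.Agent.Lib.FusionBiset
open Equiv (Perm)

section Counts

variable {G : Type*} [Group G] [Finite G]

theorem nd_dvd_card (D : Subgroup G) : nd D ∣ Nat.card G :=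
  (Subgroup.index_dvd_card _).trans (Subgroup.card_subgroup_dvd_card _)

theorem mk_rep_scale (c : Subgroup G → ℕ) (k : ℕ) (H : Subgroup G) :
    mk (rep (fun D => k * c D)) H = k * mk (rep c) H := by
  haveI := Fintype.ofFinite (Subgroup G)
  rw [mk_rep, mk_rep, Finset.mul_sum]
  exact Finset.sum_congr rfl fun D _ => by ring

/-- Marks depending only on the order. -/
theorem exists_order_stable (𝓓 : Set (Subgroup G))
    (hconj : ∀ D ∈ 𝓓, ∀ g : G, D.map (MulAut.conj g).toMonoidHom ∈ 𝓓) (D₁ : Subgroup G) (hD₁ : D₁ ∈ 𝓓) (k : ℕ) :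
    ∃ c : Subgroup G → ℕ, 0 < c D₁ ∧ (∀ E, c E ≠ 0 → E ∈ 𝓓) ∧
      ∀ E ∈ 𝓓, ∀ E' ∈ 𝓓, Nat.card E = Nat.card E' → Nat.card G < Nat.card E + k → mk (rep c) E = mk (rep c) E' := by
  classical
  induction k with
  | zero =>
    refine ⟨fun E => if E = D₁ then 1 else 0, by simp, ?_, ?_⟩
    · intro E hE
      have : E = D₁ := by
        by_contra h
        exact hE (if_neg h)
      rwa [this]
    · intro E hE E' hE' _ h
      have := Subgroup.card_le_card_group E
      omega
  | succ k ih =>
    obtain ⟨c, hc1, hc2, hc3⟩ := ih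
    haveI := Fintype.ofFinite (Subgroup G)
    let c₁ : Subgroup G → ℕ := fun D => Nat.card G * c D
    have hG : 0 < Nat.card G := Nat.card_pos
    have hm : ∀ E, mk (rep c₁) E = Nat.card G * mk (rep c) E := fun E => mk_rep_scale c _ E
    let M : ℕ := Finset.univ.sup (fun E : Subgroup G => mk (rep c) E)
    have hM : ∀ E, mk (rep c) E ≤ M := fun E => Finset.le_sup (f := fun E : Subgroup G => mk (rep c) E) (Finset.mem_univ E)
    obtain ⟨c', h1, h2, h3, h4⟩ := exists_fill 𝓓 (fun _ => ()) (fun D hD g => ⟨hconj D hD g, rfl⟩)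
      (Nat.card G - k) (fun _ => Nat.card G * M) _ c₁ (fun E hE hEk => by
        rw [hm]
        refine ⟨Nat.mul_le_mul_left _ (hM E), ?_⟩
        rw [← Nat.mul_sub]
        exact (nd_dvd_card E).mul_right _) rfl
    refine ⟨c', lt_of_lt_of_le (Nat.mul_pos hG hc1) (h1 D₁), ?_, ?_⟩
    · intro E hE
      by_cases h : c' E = c₁ E
      · refine hc2 E fun h0 => hE ?_
        rw [h]
        show Nat.card G * c E = 0
        rw [h0, mul_zero]
      · exact (h2 E h).1
    · intro E hE E' hE' hEE hlt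
      have hp1 : 0 < Nat.card E := Nat.card_pos
      have hp2 : 0 < Nat.card E' := Nat.card_pos
      rcases Nat.lt_or_ge (Nat.card G) (Nat.card E + k) with h | h
      · rw [h4 E (by omega), h4 E' (by omega), hm, hm, hc3 E hE E' hE' hEE h]
      · rw [h3 E hE (by omega), h3 E' hE' (by omega)]

end Counts

universe u

variable {Ω : Type u} [Group Ω] {S : Subgroup Ω}

/-- The map `f × id` on `P × S`. -/
def thetaHom {F : FusionSystem S} {P : Subgroup Ω} {f : Ω → Ω} (hf : FMap F P f) : (P × S) →* (S × S) where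
  toFun x := (⟨f x.1, hf.map_mem x.1.2⟩, x.2)
  map_one' := Prod.ext (Subtype.ext hf.map_one) rfl
  map_mul' x y := Prod.ext (Subtype.ext (hf.map_mul x.1.2 y.1.2)) rfl

theorem map_theta_mem {F : FusionSystem S} {P Q : Subgroup Ω} {f g : Ω → Ω} (hf : FMap F P f) (hg : FMap F P g)
    (K : Subgroup (P × S)) (h : K.map (thetaHom hf) ∈ fam F) : K.map (thetaHom hg) ∈ fam F := by
  obtain ⟨B, hB⟩ := hf.exists_iso
  obtain ⟨k, hk, hk1, hk2⟩ := hB.symm
  obtain ⟨R, r, hR⟩ := h
  have h₁ : FMap F B (fun y => g (k y)) := hk.1.comp hg (fun x hx => hk.mem hx)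
  obtain ⟨R', r', hR', -⟩ := hR.transport (E' := K.map (thetaHom hg)) h₁ (fmap_id F le_rfl) (by
      rintro _ ⟨x, hx, rfl⟩
      exact ⟨hB.mem x.1.2, x.2.2⟩) (by
      intro y
      constructor
      · rintro ⟨x, hx, rfl⟩
        refine ⟨thetaHom hf x, ⟨x, hx, rfl⟩, ?_, rfl⟩
        show g (k (f x.1)) = g x.1
        rw [hk1 _ x.1.2]
      · rintro ⟨_, ⟨x, hx, rfl⟩, h3, h4⟩
        refine ⟨x, hx, Prod.ext (Subtype.ext ?_) (Subtype.ext h4)⟩
        rw [← h3]
        show g x.1 = g (k (f x.1))
        rw [hk1 _ x.1.2])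
  exact ⟨R', r', hR'⟩

theorem thetaHom_injective {F : FusionSystem S} {P : Subgroup Ω} {f : Ω → Ω} (hf : FMap F P f) :
    Function.Injective (thetaHom hf) := by
  intro x y h
  have h1 : f x.1 = f y.1 := congrArg (fun z : S × S => (z.1 : Ω)) h
  have h2 : x.2 = y.2 := congrArg (fun z : S × S => z.2) h
  exact Prod.ext (Subtype.ext (hf.inj x.1.2 y.1.2 h1)) h2

/-- **Park**: every fusion system over a finite group is realized in a finite group. -/
theorem exists_realized [Finite S] (F : FusionSystem S) :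
    ∃ (G : Type u) (_ : Group G) (_ : Finite G) (ι : ↥S →* G), F.IsRealizedBy ι := by
  classical
  have hid : FMap F S (fun x => x) := fmap_id F le_rfl
  obtain ⟨c, hc1, hc2, hc3⟩ := exists_order_stable (fam F) (fun D hD g => (fam_conj hD g).1) (gr hid)
    ⟨S, _, isGr_gr hid⟩ (Nat.card (S × S) + 1)
  have hmk0 : ∀ E, E ∉ fam F → mk (rep c) E = 0 := fun E hE => mk_eq_zero_of_not_fam hc2 hE
  have hstab : ∀ x : XX c, stab (rep c) x ∈ fam F := by
    intro x
    by_contra h
    have := hmk0 _ h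
    rw [mk_eq_zero_iff] at this
    exact this x le_rfl
  let x₀ : XX c := ⟨gr hid, ⟨0, hc1⟩, ((1 : S × S) : (S × S) ⧸ gr hid)⟩
  have hx₀ : stab (rep c) x₀ = gr hid := by
    rw [stab_rep, stab_cosRep]
    ext y
    constructor
    · rintro ⟨z, hz, rfl⟩
      simpa using hz
    · intro hy
      exact ⟨y, hy, by simp⟩
  let rt : S →* Perm (XX c) := (rep c).comp (MonoidHom.inr S S)
  let lf : S →* Perm (XX c) := (rep c).comp (MonoidHom.inl S S)
  have hcomm : ∀ s t : S, lf s * rt t = rt t * lf s := by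
    intro s t
    show rep c (s, 1) * rep c (1, t) = rep c (1, t) * rep c (s, 1)
    rw [← map_mul, ← map_mul]
    congr 1
    simp
  let C : Subgroup (Perm (XX c)) := Subgroup.centralizer (rt.range : Set (Perm (XX c)))
  let ι : ↥S →* C := lf.codRestrict C (fun s => by
    rw [Subgroup.mem_centralizer_iff]
    rintro _ ⟨t, rfl⟩
    exact (hcomm s t).symm)
  haveI : Finite (XX c) := by infer_instance
  refine ⟨C, inferInstance, inferInstance, ι, ?_, ?_⟩
  · -- injectivity
    rw [injective_iff_map_eq_one]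
    intro s hs
    have h1 : lf s = 1 := congrArg Subtype.val hs
    have h2 : ((s, 1) : S × S) ∈ stab (rep c) x₀ := by
      show (rep c (s, 1)) x₀ = x₀
      have : rep c (s, 1) = 1 := h1
      rw [this]; rfl
    rw [hx₀] at h2
    exact Subtype.ext h2.2
  · intro P hP φ hφ
    constructor
    · intro hφF
      obtain ⟨f, hf, hfφ⟩ : ∃ f, FMap F P f ∧ ∀ x : P, φ x = f x :=
        ⟨toFun φ, fmap_toFun.2 hφF, fun x => (toFun_coe φ x).symm⟩
      have hi : FMap F P (fun x => x) := fmap_id F hP
      haveI : Finite P := Finite.of_injective (Subgroup.inclusion hP) (Subgroup.inclusion_injective hP)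
      have key : ∀ K : Subgroup (P × S), mk ((rep c).comp (thetaHom hi)) K = mk ((rep c).comp (thetaHom hf)) K := by
        intro K
        rw [mk_comp, mk_comp]
        by_cases hK : K.map (thetaHom hi) ∈ fam F
        · have hK' := map_theta_mem (Q := P) hi hf K hK
          refine hc3 _ hK _ hK' ?_ (by omega)
          rw [Subgroup.card_map_of_injective (thetaHom_injective hi),
            Subgroup.card_map_of_injective (thetaHom_injective hf)]
        · have hK' : K.map (thetaHom hf) ∉ fam F := fun h => hK (map_theta_mem (Q := P) hf hi K h)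
          rw [hmk0 _ hK, hmk0 _ hK']
      obtain ⟨e, he⟩ := exists_equiv_of_mk_eq _ (XX c) (XX c) ((rep c).comp (thetaHom hi))
        ((rep c).comp (thetaHom hf)) rfl key
      have he1 : ∀ t : S, e * rt t = rt t * e := by
        intro t
        ext1 x
        have := he (1, t) x
        have e1 : (rep c).comp (thetaHom hi) (1, t) = rt t := by
          show rep c _ = rep c _
          congr 1
        have e2 : (rep c).comp (thetaHom hf) (1, t) = rt t := by
          show rep c _ = rep c _
          congr 1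
          exact Prod.ext (Subtype.ext hf.map_one) rfl
        rw [e1, e2] at this
        exact this
      refine ⟨⟨e, ?_⟩, ?_⟩
      · rw [Subgroup.mem_centralizer_iff]
        rintro _ ⟨t, rfl⟩
        exact (he1 t).symm
      · intro x
        rw [eq_mul_inv_iff_mul_eq]
        apply Subtype.ext
        show lf ⟨φ x, hφ x⟩ * e = e * lf ⟨x, hP x.2⟩
        ext1 y
        have := he (x, 1) y
        have e1 : (rep c).comp (thetaHom hi) (x, 1) = lf ⟨x, hP x.2⟩ := by
          show rep c _ = rep c _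
          congr 1
        have e2 : (rep c).comp (thetaHom hf) (x, 1) = lf ⟨φ x, hφ x⟩ := by
          show rep c _ = rep c _
          congr 1
          exact Prod.ext (Subtype.ext (hfφ x).symm) rfl
        rw [e1, e2] at this
        exact this.symm
    · rintro ⟨g, hg⟩
      let y₀ : XX c := (g : Perm (XX c)) x₀
      obtain ⟨R, r, hR⟩ := hstab y₀
      have hgr : ∀ t : S, (g : Perm (XX c)) * rt t = rt t * g := fun t =>
        ((Subgroup.mem_centralizer_iff.1 g.2) (rt t) ⟨t, rfl⟩).symm
      have hmem : ∀ x : P, (⟨φ x, hφ x⟩, ⟨x, hP x.2⟩) ∈ stab (rep c) y₀ := by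
        intro x
        have h1 : lf ⟨φ x, hφ x⟩ * (g : Perm (XX c)) = g * lf ⟨x, hP x.2⟩ := by
          have := hg x
          rw [eq_mul_inv_iff_mul_eq] at this
          exact congrArg Subtype.val this
        have h2 : ((⟨x, hP x.2⟩, ⟨x, hP x.2⟩) : S × S) ∈ stab (rep c) x₀ := by
          rw [hx₀]
          exact ⟨hP x.2, rfl⟩
        show rep c (⟨φ x, hφ x⟩, ⟨x, hP x.2⟩) y₀ = y₀
        have e1 : rep c (⟨φ x, hφ x⟩, ⟨x, hP x.2⟩) = rt ⟨x, hP x.2⟩ * lf ⟨φ x, hφ x⟩ := by
          show _ = rep c (1, _) * rep c (_, 1)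
          rw [← map_mul]
          congr 1
          simp
        have e2 : rep c (⟨x, hP x.2⟩, ⟨x, hP x.2⟩) = rt ⟨x, hP x.2⟩ * lf ⟨x, hP x.2⟩ := by
          show _ = rep c (1, _) * rep c (_, 1)
          rw [← map_mul]
          congr 1
          simp
        have h3 : (rt ⟨x, hP x.2⟩ * lf ⟨φ x, hφ x⟩) * (g : Perm (XX c)) = g * (rt ⟨x, hP x.2⟩ * lf ⟨x, hP x.2⟩) := by
          rw [mul_assoc, h1, ← mul_assoc, ← hgr, mul_assoc]
        rw [e1]
        show ((rt ⟨x, hP x.2⟩ * lf ⟨φ x, hφ x⟩) * (g : Perm (XX c))) x₀ = _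
        rw [h3, ← e2]
        show (g : Perm (XX c)) ((rep c (⟨x, hP x.2⟩, ⟨x, hP x.2⟩)) x₀) = _
        have h4 : (rep c (⟨x, hP x.2⟩, ⟨x, hP x.2⟩)) x₀ = x₀ := h2
        rw [h4]
      have hm2 : ∀ x : P, φ x ∈ R ∧ r (φ x) = x := by
        intro x
        exact (hR.2 _).1 (hmem x)
      obtain ⟨B, hB⟩ := hR.1.exists_iso
      obtain ⟨k, hk, hk1, hk2⟩ := hB.symm
      have hPB : P ≤ B := by
        intro x hx
        have h6 := hm2 ⟨x, hx⟩
        have h7 := hB.mem h6.1
        rw [h6.2] at h7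
        exact h7
      have hkP : FMap F P k := hk.1.restrict hPB
      have : ∀ x : P, φ x = k x := by
        intro x
        have := hm2 x
        have h5 := hk1 _ this.1
        rw [this.2] at h5
        exact h5.symm
      exact hkP.mem this

end Cfsg.Agent.Lib.FusionPark
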