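import Cfsg.Agent.Lib.FusionNormalSubgroup
import Cfsg.Agent.Lib.Cores

/-!
# Pulling back subsystems along a realization `ι : S →* G` (helper89)

`pull ι N`: the fusion system over `{x ∈ S | ι x ∈ N}` whose maps are conjugations by elements of `N`. When `ι`
realizes `F` with Sylow image and `N` is normal, it is a normal subsystem of `F`. Minimal realizations of simple systems
are simple groups.
-/

set_option autoImplicit false

namespace Cfsg.Agent.Lib.FusionPull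

open Cfsg Cfsg.FusionSystem Cfsg.Agent.Lib.FusionBasic Cfsg.Agent.Lib.FusionSat Cfsg.Agent.Lib.FusionInvar

variable {Ω : Type*} [Group Ω] {S : Subgroup Ω} {F : FusionSystem S} {G : Type*} [Group G] (ι : S →* G)

open Classical in
/-- extension of `ι` by `1` -/
noncomputable def j (x : Ω) : G := if h : x ∈ S then ι ⟨x, h⟩ else 1

theorem j_of_mem {x : Ω} (h : x ∈ S) : j ι x = ι ⟨x, h⟩ := dif_pos h

theorem j_coe (x : S) : j ι x = ι x := j_of_mem ι x.2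

theorem j_mul {x y : Ω} (hx : x ∈ S) (hy : y ∈ S) : j ι (x * y) = j ι x * j ι y := by
  rw [j_of_mem ι hx, j_of_mem ι hy, j_of_mem ι (S.mul_mem hx hy), ← map_mul]
  rfl

theorem j_one : j ι (1 : Ω) = 1 := by
  rw [j_of_mem ι S.one_mem]
  exact map_one ι

theorem j_inv {x : Ω} (hx : x ∈ S) : j ι x⁻¹ = (j ι x)⁻¹ := by
  rw [j_of_mem ι hx, j_of_mem ι (S.inv_mem hx), ← map_inv]
  rfl

theorem j_mem_range {x : Ω} (hx : x ∈ S) : j ι x ∈ ι.range := ⟨⟨x, hx⟩, (j_of_mem ι hx).symm⟩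

variable {ι}

theorem j_inj (hι : Function.Injective ι) {x y : Ω} (hx : x ∈ S) (hy : y ∈ S) (h : j ι x = j ι y) : x = y := by
  rw [j_of_mem ι hx, j_of_mem ι hy] at h
  exact congrArg Subtype.val (hι h)

open Classical in
/-- inverse of `j` on the image -/
noncomputable def k (ι : S →* G) (y : G) : Ω := if h : ∃ x : S, ι x = y then (h.choose : Ω) else 1

theorem k_mem {y : G} (hy : y ∈ ι.range) : k ι y ∈ S := by
  have hy' : ∃ x : S, ι x = y := hy
  unfold k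
  rw [dif_pos hy']
  exact (Exists.choose hy').2

theorem j_k {y : G} (hy : y ∈ ι.range) : j ι (k ι y) = y := by
  rw [j_of_mem ι (k_mem hy)]
  have hy' : ∃ x : S, ι x = y := hy
  have : (⟨k ι y, k_mem hy⟩ : S) = Exists.choose hy' := by
    apply Subtype.ext
    show k ι y = _
    unfold k
    rw [dif_pos hy']
  rw [this]
  exact Exists.choose_spec hy'

theorem k_j (hι : Function.Injective ι) {x : Ω} (hx : x ∈ S) : k ι (j ι x) = x :=
  j_inj hι (k_mem (j_mem_range ι hx)) hx (j_k (j_mem_range ι hx))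

/-- the preimage of `N` -/
def T1 (ι : S →* G) (N : Subgroup G) : Subgroup Ω := (N.comap ι).map S.subtype

theorem mem_T1 {N : Subgroup G} {x : Ω} : x ∈ T1 ι N ↔ x ∈ S ∧ j ι x ∈ N := by
  constructor
  · rintro ⟨y, hy, rfl⟩
    exact ⟨y.2, by rw [show (S.subtype y : Ω) = (y : Ω) from rfl, j_coe]; exact hy⟩
  · rintro ⟨h1, h2⟩
    rw [j_of_mem ι h1] at h2
    exact ⟨⟨x, h1⟩, h2, rfl⟩

theorem T1_le (N : Subgroup G) : T1 ι N ≤ S := fun _ hx => (mem_T1.1 hx).1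

/-- untyped maps of a realized system -/
theorem fmap_iff (h : F.IsRealizedBy ι) {P : Subgroup Ω} {f : Ω → Ω} : FMap F P f ↔
    P ≤ S ∧ (∀ x ∈ P, f x ∈ S) ∧ ∃ g : G, ∀ x ∈ P, j ι (f x) = g * j ι x * g⁻¹ := by
  constructor
  · intro hf
    refine ⟨hf.le, fun x hx => hf.map_mem hx, ?_⟩
    obtain ⟨φ, hφ, hφf⟩ := hf
    have h1 := (F.le_of_mem hφ)
    obtain ⟨g, hg⟩ := (h.2 P h1.1 φ h1.2).1 hφ
    refine ⟨g, fun x hx => ?_⟩
    have h2 := hg ⟨x, hx⟩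
    rw [← hφf ⟨x, hx⟩, j_of_mem ι (h1.2 ⟨x, hx⟩), j_of_mem ι (h1.1 hx)]
    exact h2
  · rintro ⟨hP, hf, g, hg⟩
    let φ : P →* Ω := {
      toFun := fun x => f x
      map_one' := by
        apply j_inj h.1 (hf _ P.one_mem) S.one_mem
        show j ι (f 1) = _
        rw [hg 1 P.one_mem, j_one]; group
      map_mul' := by
        intro x y
        apply j_inj h.1 (hf _ (P.mul_mem x.2 y.2)) (S.mul_mem (hf _ x.2) (hf _ y.2))
        show j ι (f ((x : Ω) * y)) = _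
        rw [hg _ (P.mul_mem x.2 y.2), j_mul ι (hP x.2) (hP y.2), j_mul ι (hf _ x.2) (hf _ y.2), hg _ x.2, hg _ y.2]
        group }
    refine ⟨φ, (h.2 P hP φ (fun x => hf x x.2)).2 ⟨g, fun x => ?_⟩, fun x => rfl⟩
    have h1 := hg x x.2
    rw [j_of_mem ι (hf x x.2), j_of_mem ι (hP x.2)] at h1
    exact h1

/-- the fusion system that `N` induces on `ι⁻¹(N)` -/
def pull (hι : Function.Injective ι) (N : Subgroup G) : FusionSystem (T1 ι N) where
  Hom P := {φ | P ≤ T1 ι N ∧ (∀ x : P, φ x ∈ T1 ι N) ∧ ∃ g ∈ N, ∀ x : P, j ι (φ x) = g * j ι x * g⁻¹}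
  le_of_mem h := ⟨h.1, h.2.1⟩
  injective_of_mem := by
    rintro P φ ⟨hP, -, g, -, hg⟩ a b hab
    have h : g * j ι a * g⁻¹ = g * j ι b * g⁻¹ := by rw [← hg, ← hg, hab]
    exact Subtype.ext (j_inj hι (T1_le N (hP a.2)) (T1_le N (hP b.2)) (mul_left_cancel (mul_right_cancel h)))
  conj_mem := by
    intro P g hP hg
    refine ⟨hP, fun x => ?_, j ι g, (mem_T1.1 hg).2, fun x => ?_⟩
    · show g * (x : Ω) * g⁻¹ ∈ T1 ι N
      exact Subgroup.mul_mem _ (Subgroup.mul_mem _ hg (hP x.2)) (Subgroup.inv_mem _ hg)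
    · show j ι (g * (x : Ω) * g⁻¹) = _
      have h1 := T1_le N hg
      have h2 := T1_le N (hP x.2)
      rw [j_mul ι (S.mul_mem h1 h2) (S.inv_mem h1), j_mul ι h1 h2, j_inv ι h1]
  comp_mem := by
    rintro P Q φ ψ ⟨hP, hφS, g, hgN, hg⟩ ⟨-, hψS, u, huN, hu⟩ h
    refine ⟨hP, fun x => hψS _, u * g, N.mul_mem huN hgN, fun x => ?_⟩
    show j ι (ψ (φ.codRestrict Q h x)) = u * g * j ι x * (u * g)⁻¹
    rw [hu]
    show u * j ι (φ x) * u⁻¹ = _
    rw [hg]; group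
  inv_mem := by
    rintro P φ ⟨hP, hφS, g, hgN, hg⟩
    have hinj : Function.Injective φ := by
      intro a b hab
      have h : g * j ι a * g⁻¹ = g * j ι b * g⁻¹ := by rw [← hg, ← hg, hab]
      exact Subtype.ext (j_inj hι (T1_le N (hP a.2)) (T1_le N (hP b.2)) (mul_left_cancel (mul_right_cancel h)))
    let e : P ≃* φ.range := MonoidHom.ofInjective hinj
    have he : ∀ x : P, e.symm ⟨φ x, ⟨x, rfl⟩⟩ = x := by
      intro x
      apply e.injective
      rw [e.apply_symm_apply]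
      rfl
    refine ⟨P.subtype.comp e.symm.toMonoidHom, ⟨?_, ?_, g⁻¹, N.inv_mem hgN, ?_⟩, fun x => ?_⟩
    · rintro _ ⟨x, rfl⟩
      exact hφS x
    · intro y
      exact hP (e.symm y).2
    · rintro ⟨_, x, rfl⟩
      show j ι ((e.symm ⟨φ x, ⟨x, rfl⟩⟩ : P) : Ω) = g⁻¹ * j ι (φ x) * g⁻¹⁻¹
      rw [he, hg]; group
    · show ((e.symm ⟨φ x, ⟨x, rfl⟩⟩ : P) : Ω) = x
      rw [he]

theorem fmap_pull_iff (hι : Function.Injective ι) {N : Subgroup G} {P : Subgroup Ω} {f : Ω → Ω} :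
    FMap (pull hι N) P f ↔
      P ≤ T1 ι N ∧ (∀ x ∈ P, f x ∈ T1 ι N) ∧ ∃ g ∈ N, ∀ x ∈ P, j ι (f x) = g * j ι x * g⁻¹ := by
  constructor
  · rintro ⟨φ, ⟨h1, h2, g, hg, h3⟩, h4⟩
    refine ⟨h1, fun x hx => ?_, g, hg, fun x hx => ?_⟩
    · have := h2 ⟨x, hx⟩; rwa [h4] at this
    · have := h3 ⟨x, hx⟩; rwa [h4] at this
  · rintro ⟨hP, hf, g, hgN, hg⟩
    have hPS : P ≤ S := hP.trans (T1_le N)
    have hfS : ∀ x ∈ P, f x ∈ S := fun x hx => T1_le N (hf x hx)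
    let φ : P →* Ω := {
      toFun := fun x => f x
      map_one' := by
        apply j_inj hι (hfS _ P.one_mem) S.one_mem
        show j ι (f 1) = _
        rw [hg 1 P.one_mem, j_one]; group
      map_mul' := by
        intro x y
        apply j_inj hι (hfS _ (P.mul_mem x.2 y.2)) (S.mul_mem (hfS _ x.2) (hfS _ y.2))
        show j ι (f ((x : Ω) * y)) = _
        rw [hg _ (P.mul_mem x.2 y.2), j_mul ι (hPS x.2) (hPS y.2), j_mul ι (hfS _ x.2) (hfS _ y.2), hg _ x.2,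
          hg _ y.2]
        group }
    exact ⟨φ, ⟨hP, fun x => hf x x.2, g, hgN, fun x => hg x x.2⟩, fun x => rfl⟩

/-- `ι` corestricted to `N` -/
def pullHom (N : Subgroup G) : T1 ι N →* N where
  toFun x := ⟨ι ⟨x, T1_le N x.2⟩, by
    have h := (mem_T1.1 x.2).2
    rwa [j_of_mem ι (T1_le N x.2)] at h⟩
  map_one' := Subtype.ext (map_one ι)
  map_mul' x y := Subtype.ext (map_mul ι ⟨x, T1_le N x.2⟩ ⟨y, T1_le N y.2⟩)

theorem pullHom_coe (N : Subgroup G) (x : T1 ι N) : ((pullHom N x : N) : G) = j ι x := by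
  rw [j_of_mem ι (T1_le N x.2)]
  rfl

theorem pull_isRealizedBy (hι : Function.Injective ι) (N : Subgroup G) : (pull hι N).IsRealizedBy (pullHom (ι := ι) N) := by
  refine ⟨?_, fun P hP φ hφ => ?_⟩
  · intro x y h
    have h1 := congrArg Subtype.val h
    have h2 : j ι (x : Ω) = j ι (y : Ω) := by rw [← pullHom_coe, ← pullHom_coe]; exact h1
    exact Subtype.ext (j_inj hι (T1_le N x.2) (T1_le N y.2) h2)
  · constructor
    · rintro ⟨-, -, g, hgN, hg⟩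
      refine ⟨⟨g, hgN⟩, fun x => Subtype.ext ?_⟩
      rw [pullHom_coe]
      show j ι (φ x) = g * ((pullHom N ⟨(x : Ω), hP x.2⟩ : N) : G) * g⁻¹
      rw [pullHom_coe]
      exact hg x
    · rintro ⟨g, hg⟩
      refine ⟨hP, hφ, g, g.2, fun x => ?_⟩
      have h1 := congrArg Subtype.val (hg x)
      rw [pullHom_coe] at h1
      refine h1.trans ?_
      show (g : G) * ((pullHom N ⟨(x : Ω), hP x.2⟩ : N) : G) * (g : G)⁻¹ = _
      rw [pullHom_coe]

theorem pullHom_range {p : ℕ} (T : Sylow p G) (hT : (T : Subgroup G) = ι.range) (N : Subgroup G) :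
    (pullHom (ι := ι) N).range = ((T : Subgroup G) ⊓ N).subgroupOf N := by
  ext y
  rw [Subgroup.mem_subgroupOf, Subgroup.mem_inf, hT]
  constructor
  · rintro ⟨x, rfl⟩
    refine ⟨?_, (pullHom N x).2⟩
    rw [pullHom_coe]
    exact j_mem_range ι (T1_le N x.2)
  · rintro ⟨⟨x, hx⟩, -⟩
    have hxT : (x : Ω) ∈ T1 ι N := mem_T1.2 ⟨x.2, by rw [j_coe, hx]; exact y.2⟩
    refine ⟨⟨x, hxT⟩, Subtype.ext ?_⟩
    rw [pullHom_coe, ← hx, ← j_coe]

theorem stronglyClosed (h : F.IsRealizedBy ι) (N : Subgroup G) [N.Normal] : F.StronglyClosed (T1 ι N) := by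
  rw [stronglyClosed_iff]
  refine ⟨T1_le N, fun P f hP hf x hx => ?_⟩
  obtain ⟨h1, h2, g, hg⟩ := (fmap_iff h).1 hf
  refine mem_T1.2 ⟨h2 x hx, ?_⟩
  rw [hg x hx]
  exact Subgroup.Normal.conj_mem inferInstance _ (mem_T1.1 (hP hx)).2 g

theorem mem_T0 {p : ℕ} {T : Sylow p G} (hT : (T : Subgroup G) = ι.range) {N : Subgroup G} {x : Ω} (hx : x ∈ S) :
    j ι x ∈ (T : Subgroup G) ⊓ N ↔ x ∈ T1 ι N := by
  rw [mem_T1, Subgroup.mem_inf, hT]
  exact ⟨fun h => ⟨hx, h.2⟩, fun h => ⟨j_mem_range ι hx, h.2⟩⟩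

theorem pull_inv [Finite G] {p : ℕ} [Fact p.Prime] (h : F.IsRealizedBy ι) (T : Sylow p G)
    (hT : (T : Subgroup G) = ι.range) (N : Subgroup G) [N.Normal] : Inv (pull h.1 N) F := by
  have hT1 := T1_le (ι := ι) N
  have hSfin : Finite S := Finite.of_injective _ h.1
  refine ⟨?_, stronglyClosed h N, ?_, ?_⟩
  · rw [isSubsystemOf_iff]
    intro P f hf
    obtain ⟨h1, h2, g, hgN, hg⟩ := (fmap_pull_iff h.1).1 hf
    exact (fmap_iff h).2 ⟨h1.trans hT1, fun x hx => hT1 (h2 x hx), g, hg⟩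
  · intro P Q a f ha hf hQ
    obtain ⟨h1, h2, g, hgN, hg⟩ := (fmap_pull_iff h.1).1 hf
    obtain ⟨-, -, u, hu⟩ := (fmap_iff h).1 ha.1
    obtain ⟨b, hb, hb1, hb2⟩ := ha.symm
    refine ⟨fun y => a (f (b y)), (fmap_pull_iff h.1).2 ⟨?_, ?_, u * g * u⁻¹, ?_, ?_⟩, ?_⟩
    · intro y hy
      obtain ⟨x, hx, rfl⟩ := (hQ y).1 hy
      exact ha.mem (h1 hx)
    · intro y hy
      obtain ⟨x, hx, rfl⟩ := (hQ y).1 hy
      show a (f (b (a x))) ∈ _
      rw [hb1 x (h1 hx)]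
      exact ha.mem (h2 x hx)
    · exact Subgroup.Normal.conj_mem inferInstance _ hgN u
    · intro y hy
      obtain ⟨x, hx, rfl⟩ := (hQ y).1 hy
      show j ι (a (f (b (a x)))) = _
      rw [hb1 x (h1 hx), hu _ (h2 x hx), hg x hx, hu x (h1 hx)]
      group
    · intro x hx
      show a (f (b (a x))) = _
      rw [hb1 x (h1 hx)]
  · intro P f hP hf
    obtain ⟨h1, h2, g, hg⟩ := (fmap_iff h).1 hf
    obtain ⟨u, huN, hu⟩ := FusionNormalSubgroup.exists_normalizer_mul T N g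
    have hfT : ∀ x ∈ P, f x ∈ T1 ι N := fun x hx =>
      StronglyClosed.map_mem F (stronglyClosed h N) hf hx (hP hx)
    -- conjugation by g u⁻¹ on T1
    have hnorm : ∀ y ∈ (T : Subgroup G) ⊓ N, (g * u⁻¹) * y * (g * u⁻¹)⁻¹ ∈ (T : Subgroup G) ⊓ N := fun y hy =>
      (Subgroup.mem_normalizer_iff.1 hu y).1 hy
    have hnorm' : ∀ y ∈ (T : Subgroup G) ⊓ N, (g * u⁻¹)⁻¹ * y * (g * u⁻¹) ∈ (T : Subgroup G) ⊓ N := fun y hy => by
      have := (Subgroup.mem_normalizer_iff.1 (Subgroup.inv_mem _ hu) y).1 hy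
      rwa [inv_inv] at this
    have hr : ∀ {y : G}, y ∈ (T : Subgroup G) ⊓ N → y ∈ ι.range := fun hy => hT ▸ hy.1
    let a : Ω → Ω := fun x => k ι ((g * u⁻¹) * j ι x * (g * u⁻¹)⁻¹)
    let f₀ : Ω → Ω := fun x => k ι (u * j ι x * u⁻¹)
    have haT : ∀ x ∈ T1 ι N, a x ∈ T1 ι N ∧ j ι (a x) = (g * u⁻¹) * j ι x * (g * u⁻¹)⁻¹ := by
      intro x hx
      have h3 := hnorm _ ((mem_T0 hT (hT1 hx)).2 hx)
      refine ⟨mem_T1.2 ⟨k_mem (hr h3), ?_⟩, j_k (hr h3)⟩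
      show j ι (k ι _) ∈ N
      rw [j_k (hr h3)]
      exact h3.2
    have hfP : ∀ x ∈ P, f₀ x ∈ T1 ι N ∧ j ι (f₀ x) = u * j ι x * u⁻¹ := by
      intro x hx
      have h3 : u * j ι x * u⁻¹ ∈ (T : Subgroup G) ⊓ N := by
        have h4 := hnorm' _ ((mem_T0 hT (h2 x hx)).2 (hfT x hx))
        rw [hg x hx] at h4
        have h5 : (g * u⁻¹)⁻¹ * (g * j ι x * g⁻¹) * (g * u⁻¹) = u * j ι x * u⁻¹ := by group
        rwa [h5] at h4
      refine ⟨mem_T1.2 ⟨k_mem (hr h3), ?_⟩, j_k (hr h3)⟩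
      show j ι (k ι _) ∈ N
      rw [j_k (hr h3)]
      exact h3.2
    have haF : FMap F (T1 ι N) a := (fmap_iff h).2 ⟨hT1, fun x hx => hT1 (haT x hx).1, _, fun x hx => (haT x hx).2⟩
    refine ⟨a, f₀, haF.fiso_of_card hT1 (fun x hx => (haT x hx).1) le_rfl,
      (fmap_pull_iff h.1).2 ⟨hP, fun x hx => (hfP x hx).1, u, huN, fun x hx => (hfP x hx).2⟩, fun x hx => ?_⟩
    apply j_inj h.1 (h2 x hx) (hT1 (haT _ (hfP x hx).1).1)
    rw [(haT _ (hfP x hx).1).2, (hfP x hx).2, hg x hx]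
    group

theorem pull_ext [Finite G] {p : ℕ} [Fact p.Prime] (h : F.IsRealizedBy ι) (T : Sylow p G)
    (hT : (T : Subgroup G) = ι.range) (N : Subgroup G) [N.Normal] : Ext (pull h.1 N) F := by
  have hT1 := T1_le (ι := ι) N
  have hSfin : Finite S := Finite.of_injective _ h.1
  have hr : ∀ {y : G}, y ∈ (T : Subgroup G) ⊓ N → y ∈ ι.range := fun hy => hT ▸ hy.1
  have hrT : ∀ {y : G}, y ∈ (T : Subgroup G) → y ∈ ι.range := fun hy => hT ▸ hy
  have hjT : ∀ {x : Ω}, x ∈ S → j ι x ∈ (T : Subgroup G) := fun hx => by rw [hT]; exact j_mem_range ι hx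
  have hkT0 : ∀ y ∈ (T : Subgroup G) ⊓ N, k ι y ∈ T1 ι N := fun y hy => mem_T1.2 ⟨k_mem (hr hy), by
    rw [j_k (hr hy)]; exact hy.2⟩
  -- centralizers correspond
  have hcj : ∀ c ∈ centralizerIn S (T1 ι N), j ι c ∈ centralizerIn (T : Subgroup G) ((T : Subgroup G) ⊓ N) := by
    intro c hc
    refine mem_centralizerIn.2 ⟨hjT hc.1, ?_⟩
    rw [mem_centralizer_iff']
    intro y hy
    have h1 := mem_centralizer_iff'.1 hc.2 (k ι y) (hkT0 y hy)
    have h2 := congrArg (j ι) h1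
    have hkS := hT1 (hkT0 y hy)
    rw [j_mul ι (S.mul_mem hc.1 hkS) (S.inv_mem hc.1), j_mul ι hc.1 hkS, j_inv ι hc.1, j_k (hr hy)] at h2
    exact h2
  have hck : ∀ y ∈ (T : Subgroup G), y ∈ Subgroup.centralizer (((T : Subgroup G) ⊓ N : Subgroup G) : Set G) →
      k ι y ∈ Subgroup.centralizer ((T1 ι N : Subgroup Ω) : Set Ω) := by
    intro y hyT hy
    rw [mem_centralizer_iff']
    intro t ht
    have h1 := mem_centralizer_iff'.1 hy (j ι t) ((mem_T0 hT (hT1 ht)).2 ht)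
    have hkS := k_mem (hrT hyT)
    apply j_inj h.1 (S.mul_mem (S.mul_mem hkS (hT1 ht)) (S.inv_mem hkS)) (hT1 ht)
    rw [j_mul ι (S.mul_mem hkS (hT1 ht)) (S.inv_mem hkS), j_mul ι hkS (hT1 ht), j_inv ι hkS, j_k (hrT hyT)]
    exact h1
  intro a ha
  obtain ⟨-, -, u, huN, hu⟩ := (fmap_pull_iff h.1).1 ha.1
  -- the group side
  have hGa : FIso (fusionSystemOfSubgroup N ((T : Subgroup G) ⊓ N) inf_le_right) ((T : Subgroup G) ⊓ N)
      ((T : Subgroup G) ⊓ N) (fun y => u * y * u⁻¹) := by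
    have h1 : ∀ y ∈ (T : Subgroup G) ⊓ N, u * y * u⁻¹ ∈ (T : Subgroup G) ⊓ N := by
      intro y hy
      have h2 := hu _ (hkT0 y hy)
      rw [j_k (hr hy)] at h2
      rw [← h2]
      exact (mem_T0 hT (hT1 (ha.mem (hkT0 y hy)))).2 (ha.mem (hkT0 y hy))
    have h2 : FMap (fusionSystemOfSubgroup N ((T : Subgroup G) ⊓ N) inf_le_right) ((T : Subgroup G) ⊓ N)
        (fun y => u * y * u⁻¹) :=
      (FusionNormalSubgroup.fmap_subgroup_iff _).2 ⟨le_rfl, h1, u, huN, fun x _ => rfl⟩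
    exact h2.fiso_of_card le_rfl h1 le_rfl
  obtain ⟨b', hb', hb1, hb2⟩ := FusionNormalSubgroup.ext T N _ hGa
  obtain ⟨-, hb'T, g, hg⟩ := fmap_group_iff.1 hb'.1
  have hle : T1 ι N ⊔ centralizerIn S (T1 ι N) ≤ S := sup_le hT1 (centralizerIn_le S _)
  -- j maps the domain into the domain
  have hjU : ∀ x ∈ T1 ι N ⊔ centralizerIn S (T1 ι N),
      j ι x ∈ ((T : Subgroup G) ⊓ N) ⊔ centralizerIn (T : Subgroup G) ((T : Subgroup G) ⊓ N) := by
    intro x hx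
    obtain ⟨y, hy, c, hc, rfl⟩ := mem_sup_centralizerIn.1 hx
    rw [j_mul ι (hT1 hy) hc.1]
    exact mem_sup_centralizerIn.2 ⟨_, (mem_T0 hT (hT1 hy)).2 hy, _, hcj c hc, rfl⟩
  have hkU : ∀ y ∈ ((T : Subgroup G) ⊓ N) ⊔ centralizerIn (T : Subgroup G) ((T : Subgroup G) ⊓ N),
      k ι y ∈ T1 ι N ⊔ centralizerIn S (T1 ι N) := by
    intro z hz
    obtain ⟨y, hy, c, hc, rfl⟩ := mem_sup_centralizerIn.1 hz
    have h1 : k ι (y * c) = k ι y * k ι c := by
      have hy' := k_mem (hr hy)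
      have hc' := k_mem (hrT hc.1)
      have hyc : y * c ∈ ι.range := ι.range.mul_mem (hr hy) (hrT hc.1)
      apply j_inj h.1 (k_mem hyc) (S.mul_mem hy' hc')
      rw [j_mul ι hy' hc', j_k hyc, j_k (hr hy), j_k (hrT hc.1)]
    rw [h1]
    exact mem_sup_centralizerIn.2 ⟨_, hkT0 y hy, _, ⟨k_mem (hrT hc.1), hck c hc.1 hc.2⟩, rfl⟩
  let b : Ω → Ω := fun x => k ι (b' (j ι x))
  have hjb : ∀ x ∈ T1 ι N ⊔ centralizerIn S (T1 ι N), b x ∈ T1 ι N ⊔ centralizerIn S (T1 ι N) ∧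
      j ι (b x) = b' (j ι x) := by
    intro x hx
    have h1 := hb'.mem (hjU x hx)
    have h2 : b' (j ι x) ∈ ι.range := hrT (hb'.le_right h1)
    exact ⟨hkU _ h1, j_k h2⟩
  have hbF : FMap F (T1 ι N ⊔ centralizerIn S (T1 ι N)) b := (fmap_iff h).2
    ⟨hle, fun x hx => hle (hjb x hx).1, g, fun x hx => by rw [(hjb x hx).2, hg _ (hjU x hx)]⟩
  refine ⟨b, hbF.fiso_of_card hle (fun x hx => (hjb x hx).1) le_rfl, fun x hx => ?_, fun c hc => ?_⟩
  · have hxU : x ∈ T1 ι N ⊔ centralizerIn S (T1 ι N) := Subgroup.mem_sup_left hx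
    apply j_inj h.1 (hle (hjb x hxU).1) (hT1 (ha.mem hx))
    rw [(hjb x hxU).2, hb1 _ ((mem_T0 hT (hT1 hx)).2 hx), hu x hx]
  · have hcU : c ∈ T1 ι N ⊔ centralizerIn S (T1 ι N) := Subgroup.mem_sup_right hc
    obtain ⟨h1, h2⟩ := hb2 _ (hcj c hc)
    have hbS := hle (hjb c hcU).1
    have h3 : j ι (c⁻¹ * b c) = (j ι c)⁻¹ * b' (j ι c) := by
      rw [j_mul ι (S.inv_mem hc.1) hbS, j_inv ι hc.1, (hjb c hcU).2]
    have hmS : c⁻¹ * b c ∈ S := S.mul_mem (S.inv_mem hc.1) hbS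
    constructor
    · rw [← mem_T0 hT hmS, h3]; exact h1
    · rw [← h3] at h2
      have h4 := hck _ (hjT hmS) h2
      rwa [k_j h.1 hmS] at h4

/-- The pull-back of a normal subgroup is a normal subsystem. -/
theorem pull_isNormalIn [Finite G] {p : ℕ} [Fact p.Prime] (h : F.IsRealizedBy ι) (T : Sylow p G)
    (hT : (T : Subgroup G) = ι.range) (N : Subgroup G) [N.Normal] : (pull h.1 N).IsNormalIn F p := by
  rw [isNormalIn_iff]
  refine ⟨?_, FusionGroup.isSaturated_of_isRealizedBy _ h T hT, pull_inv h T hT N, pull_ext h T hT N⟩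
  obtain ⟨R, hR⟩ := FusionNormalSubgroup.exists_sylow_inf T N
  exact FusionGroup.isSaturated_of_isRealizedBy _ (pull_isRealizedBy h.1 N) R (by rw [hR, pullHom_range T hT N])

/-- Realization in the quotient by a normal `p'`-subgroup. -/
theorem quotient_isRealizedBy [Finite G] {p : ℕ} [Fact p.Prime] (h : F.IsRealizedBy ι) (T : Sylow p G)
    (hT : (T : Subgroup G) = ι.range) (N : Subgroup G) [N.Normal] (hN : ¬ p ∣ Nat.card N) :
    F.IsRealizedBy ((QuotientGroup.mk' N).comp ι) ∧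
      ∃ T' : Sylow p (G ⧸ N), (T' : Subgroup (G ⧸ N)) = ((QuotientGroup.mk' N).comp ι).range := by
  have hTN : ∀ y ∈ (T : Subgroup G), y ∈ N → y = 1 := by
    intro y hy hyN
    obtain ⟨m, hm⟩ := T.isPGroup' ⟨y, hy⟩
    have h1 : y ^ p ^ m = 1 := congrArg Subtype.val hm
    have h2 : orderOf y ∣ p ^ m := orderOf_dvd_of_pow_eq_one h1
    have h3 : orderOf y ∣ Nat.card N := by
      have := orderOf_dvd_natCard (⟨y, hyN⟩ : N)
      rwa [Subgroup.orderOf_mk] at this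
    have h4 : Nat.Coprime (p ^ m) (Nat.card N) :=
      Nat.Coprime.pow_left _ ((Nat.Prime.coprime_iff_not_dvd (Fact.out : p.Prime)).2 hN)
    rw [← orderOf_eq_one_iff]
    exact Nat.eq_one_of_dvd_coprimes h4 h2 h3
  have hιT : ∀ x : S, ι x ∈ (T : Subgroup G) := fun x => by rw [hT]; exact ⟨x, rfl⟩
  refine ⟨⟨?_, ?_⟩, ?_⟩
  · intro x y hxy
    have h1 : (QuotientGroup.mk' N) (ι x) = (QuotientGroup.mk' N) (ι y) := hxy
    have h2 : ι (x⁻¹ * y) ∈ N := by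
      rw [map_mul, map_inv]
      exact QuotientGroup.eq.1 h1
    have h3 := hTN _ (hιT _) h2
    have h4 := h.1 (h3.trans (map_one ι).symm)
    exact (inv_mul_eq_one.1 h4)
  · intro P hP φ hφ
    rw [h.2 P hP φ hφ]
    constructor
    · rintro ⟨g, hg⟩
      refine ⟨QuotientGroup.mk' N g, fun x => ?_⟩
      show (QuotientGroup.mk' N) (ι _) = (QuotientGroup.mk' N g) * (QuotientGroup.mk' N) (ι _) * (QuotientGroup.mk' N g)⁻¹
      rw [hg x, map_mul, map_mul, map_inv]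
    · rintro ⟨g', hg'⟩
      obtain ⟨g, rfl⟩ := QuotientGroup.mk'_surjective N g'
      have hmod : ∀ x : P, (ι ⟨φ x, hφ x⟩)⁻¹ * (g * ι ⟨x, hP x.2⟩ * g⁻¹) ∈ N := by
        intro x
        have h1 := hg' x
        have h2 : (QuotientGroup.mk' N) (ι ⟨φ x, hφ x⟩) = (QuotientGroup.mk' N) (g * ι ⟨x, hP x.2⟩ * g⁻¹) := by
          rw [map_mul, map_mul, map_inv]
          exact h1
        exact QuotientGroup.eq.1 h2
      -- the subgroups Y = ι(φ P) and X = g ι(P) g⁻¹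
      let φ' : P →* S := { toFun := fun x => ⟨φ x, hφ x⟩, map_one' := Subtype.ext (map_one φ), map_mul' := fun x y => Subtype.ext (map_mul φ x y) }
      let Y : Subgroup G := (ι.comp φ').range
      let X : Subgroup G := ((ι.comp (Subgroup.inclusion hP)).range).map (MulAut.conj g).toMonoidHom
      have hYT : Y ≤ (T : Subgroup G) := by
        rintro _ ⟨x, rfl⟩
        exact hιT _
      have hYp : IsPGroup p Y := T.isPGroup'.to_le hYT
      have hXp : IsPGroup p X := by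
        refine IsPGroup.map (T.isPGroup'.to_le ?_) _
        rintro _ ⟨x, rfl⟩
        exact hιT _
      have hXY : X ≤ Y ⊔ N := by
        rintro _ ⟨_, ⟨x, rfl⟩, rfl⟩
        have h1 : (MulAut.conj g).toMonoidHom ((ι.comp (Subgroup.inclusion hP)) x) =
            ι ⟨φ x, hφ x⟩ * ((ι ⟨φ x, hφ x⟩)⁻¹ * (g * ι ⟨x, hP x.2⟩ * g⁻¹)) := by
          show g * ι ⟨x, hP x.2⟩ * g⁻¹ = _
          group
        rw [h1]
        exact Subgroup.mul_mem _ (Subgroup.mem_sup_left ⟨x, rfl⟩) (Subgroup.mem_sup_right (hmod x))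
      -- Y is a Sylow subgroup of Y ⊔ N
      have hsyl : ∃ R : Sylow p ↥(Y ⊔ N), (R : Subgroup ↥(Y ⊔ N)) = Y.subgroupOf (Y ⊔ N) := by
        rw [SylCard.sylow_iff_card le_sup_left hYp]
        intro K hK hKp
        -- K → Y ⊔ N / N ≅ Y
        have h1 : Function.Injective ((QuotientGroup.mk' N).comp K.subtype) := by
          intro a b hab
          have h2 : (a : G)⁻¹ * b ∈ N := QuotientGroup.eq.1 hab
          obtain ⟨m, hm⟩ := hKp (a⁻¹ * b)
          have h3 : ((a : G)⁻¹ * b) ^ p ^ m = 1 := congrArg Subtype.val hm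
          have h4 : orderOf ((a : G)⁻¹ * b) ∣ p ^ m := orderOf_dvd_of_pow_eq_one h3
          have h5 : orderOf ((a : G)⁻¹ * b) ∣ Nat.card N := by
            have := orderOf_dvd_natCard (⟨(a : G)⁻¹ * b, h2⟩ : N)
            rwa [Subgroup.orderOf_mk] at this
          have h6 : Nat.Coprime (p ^ m) (Nat.card N) :=
            Nat.Coprime.pow_left _ ((Nat.Prime.coprime_iff_not_dvd (Fact.out : p.Prime)).2 hN)
          have h7 : (a : G)⁻¹ * b = 1 := orderOf_eq_one_iff.1 (Nat.eq_one_of_dvd_coprimes h6 h4 h5)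
          exact Subtype.ext (inv_mul_eq_one.1 h7)
        have h2 : ∀ a : K, ∃ y : Y, (QuotientGroup.mk' N) (y : G) = (QuotientGroup.mk' N) (a : G) := by
          intro a
          obtain ⟨y, hy, n, hn, hyn⟩ := Subgroup.mem_sup_of_normal_right.1 (hK a.2)
          refine ⟨⟨y, hy⟩, ?_⟩
          rw [← hyn, map_mul, (QuotientGroup.eq_one_iff n).2 hn |> fun h => (show (QuotientGroup.mk' N) n = 1 from h), mul_one]
        choose r hr using h2
        refine Nat.card_le_card_of_injective r ?_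
        intro a b hab
        apply h1
        show (QuotientGroup.mk' N) (a : G) = (QuotientGroup.mk' N) (b : G)
        rw [← hr a, ← hr b, hab]
      obtain ⟨R, hR⟩ := hsyl
      obtain ⟨w, hw, hw'⟩ := SylCard.exists_conj_mem R hXY hXp
      obtain ⟨y, hy, n, hn, rfl⟩ := Subgroup.mem_sup_of_normal_right.1 hw
      refine ⟨n * g, fun x => ?_⟩
      have hxX : g * ι ⟨x, hP x.2⟩ * g⁻¹ ∈ X := ⟨_, ⟨x, rfl⟩, rfl⟩
      obtain ⟨h1, h2⟩ := hw' _ hxX
      rw [hR, Subgroup.mem_subgroupOf] at h2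
      have h3 : n * (g * ι ⟨x, hP x.2⟩ * g⁻¹) * n⁻¹ ∈ Y := by
        have h4 := Y.mul_mem (Y.mul_mem (Y.inv_mem hy) h2) hy
        have h5 : y⁻¹ * (y * n * (g * ι ⟨x, hP x.2⟩ * g⁻¹) * (y * n)⁻¹) * y = n * (g * ι ⟨x, hP x.2⟩ * g⁻¹) * n⁻¹ := by
          group
        rwa [← h5]
      have h4 : (ι ⟨φ x, hφ x⟩)⁻¹ * (n * (g * ι ⟨x, hP x.2⟩ * g⁻¹) * n⁻¹) ∈ N := by
        have h5 : (ι ⟨φ x, hφ x⟩)⁻¹ * (n * (g * ι ⟨x, hP x.2⟩ * g⁻¹) * n⁻¹) =
            ((ι ⟨φ x, hφ x⟩)⁻¹ * n * ι ⟨φ x, hφ x⟩) * ((ι ⟨φ x, hφ x⟩)⁻¹ * (g * ι ⟨x, hP x.2⟩ * g⁻¹)) * n⁻¹ := by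
          group
        rw [h5]
        refine N.mul_mem (N.mul_mem ?_ (hmod x)) (N.inv_mem hn)
        have := Subgroup.Normal.conj_mem (inferInstance : N.Normal) n hn (ι ⟨φ x, hφ x⟩)⁻¹
        rwa [inv_inv] at this
      have h5 := hTN _ (T.mul_mem (T.inv_mem (hιT _)) (hYT h3)) h4
      rw [inv_mul_eq_one.1 h5]
      group
  · refine ⟨T.mapSurjective (QuotientGroup.mk'_surjective N), ?_⟩
    rw [Sylow.coe_mapSurjective, hT, MonoidHom.range_comp]

end Cfsg.Agent.Lib.FusionPull
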