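import Cfsg.Agent.Lib.FusionSimpleGroup

set_option autoImplicit false

/-!
Simplicity of the fusion system of a finite group `G` (given as a subgroup of an ambient group) with a
self-normalizing Sylow `p`-subgroup `W` such that every nontrivial strongly closed subgroup of `W` is `W`.
-/

namespace Cfsg.Agent.Lib.FusionSelfNorm

open Cfsg Cfsg.Agent.Lib.FusionSimpleGroup

/-- A self-normalizing `p`-subgroup of a finite group is a Sylow subgroup. -/
theorem exists_sylow_eq {G : Type*} [Group G] [Finite G] (p : ℕ) [Fact p.Prime] (W : Subgroup G) (hp : IsPGroup p W)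
    (hN : ∀ g : G, (∀ w ∈ W, g * w * g⁻¹ ∈ W) → g ∈ W) : ∃ P : Sylow p G, (P : Subgroup G) = W := by
  obtain ⟨P, hP⟩ := hp.exists_le_sylow
  refine ⟨P, le_antisymm ?_ hP⟩
  have : Finite (P : Subgroup G) := inferInstance
  have hnil : Group.IsNilpotent (P : Subgroup G) := P.isPGroup'.isNilpotent
  have hnc : NormalizerCondition (P : Subgroup G) := Group.normalizerCondition_of_isNilpotent
  have h1 : Subgroup.normalizer ((W.subgroupOf P : Subgroup P) : Set P) = W.subgroupOf P := by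
    apply le_antisymm _ Subgroup.le_normalizer
    intro g hg
    rw [Subgroup.mem_subgroupOf]
    apply hN
    intro w hw
    have h2 := (Subgroup.mem_normalizer_iff.mp hg ⟨w, hP hw⟩).mp (Subgroup.mem_subgroupOf.mpr hw)
    exact Subgroup.mem_subgroupOf.mp h2
  have h2 : W.subgroupOf P = ⊤ := by
    by_contra h
    have := hnc _ (lt_top_iff_ne_top.mpr h)
    rw [h1] at this
    exact lt_irrefl _ this
  rwa [Subgroup.subgroupOf_eq_top] at h2

theorem simple_of_selfnorm' {G : Type*} [Group G] [Finite G] (p : ℕ) [Fact p.Prime] (W : Subgroup G)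
    (hW : W ≠ ⊥) (hp : IsPGroup p W) (hN : ∀ g : G, (∀ w ∈ W, g * w * g⁻¹ ∈ W) → g ∈ W)
    (hT : ∀ T : Subgroup G, T ≤ W → T ≠ ⊥ → (∀ x ∈ T, ∀ g : G, g * x * g⁻¹ ∈ W → g * x * g⁻¹ ∈ T) → W ≤ T)
    (S : Sylow p G) : (groupFusionSystem (S : Subgroup G)).IsSimple p := by
  obtain ⟨P, hP⟩ := exists_sylow_eq p W hp hN
  have hker : (MonoidHom.id G).ker = ⊥ := (MonoidHom.ker_eq_bot_iff _).mpr Function.injective_id
  refine simple_of_cover (MonoidHom.id G) Function.surjective_id ?_ ?_ P ?_ ?_ S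
  · intro z hz g
    rw [hker, Subgroup.mem_bot] at hz
    rw [hz, mul_one, one_mul]
  · rw [hker, Subgroup.card_bot]
    exact Nat.coprime_one_left p
  · rw [hP]; exact hW
  · rw [hP]
    refine ⟨fun T hTW hTc => ?_, fun g hg => ?_⟩
    · by_cases h : T = ⊥
      · exact Or.inl h
      · exact Or.inr (le_antisymm hTW (hT T hTW h hTc))
    · have hgW : g ∈ W := hN g fun w hw => (Subgroup.mem_normalizer_iff.mp hg w).mp hw
      refine Subgroup.subset_closure ⟨hg, W, le_rfl, Subgroup.le_normalizer, ?_, ?_⟩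
      · intro c hc
        refine Subgroup.mem_sup_left (hN c fun w hw => ?_)
        rw [hc w hw, mul_inv_cancel_right]
        exact hw
      · refine Subgroup.subset_closure ⟨hg, ?_⟩
        obtain ⟨k, hk⟩ := (IsPGroup.iff_orderOf.mp hp) ⟨g, hgW⟩
        exact ⟨k, by rw [← hk, Subgroup.orderOf_mk]⟩

theorem simple_of_selfnorm {Ω : Type*} [Group Ω] [Finite Ω] (p : ℕ) [Fact p.Prime] (G W : Subgroup Ω) (hWG : W ≤ G)
    (hW : W ≠ ⊥) (hp : IsPGroup p W) (hN : ∀ g ∈ G, (∀ w ∈ W, g * w * g⁻¹ ∈ W) → g ∈ W)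
    (hT : ∀ T : Subgroup Ω, T ≤ W → T ≠ ⊥ → (∀ x ∈ T, ∀ g ∈ G, g * x * g⁻¹ ∈ W → g * x * g⁻¹ ∈ T) → W ≤ T)
    (S : Sylow p G) : (groupFusionSystem (S : Subgroup G)).IsSimple p := by
  refine simple_of_selfnorm' p (W.subgroupOf G) ?_ ?_ ?_ ?_ S
  · intro h
    apply hW
    rw [Subgroup.subgroupOf_eq_bot] at h
    rw [← inf_eq_left.mpr hWG]
    exact disjoint_iff.mp h
  · exact hp.comap_of_injective _ (Subgroup.subtype_injective _)
  · intro g hg
    rw [Subgroup.mem_subgroupOf]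
    apply hN g g.2
    intro w hw
    exact Subgroup.mem_subgroupOf.mp (hg ⟨w, hWG hw⟩ (Subgroup.mem_subgroupOf.mpr hw))
  · intro T hTW hT1 hTc
    have h1 := hT (T.map G.subtype) ?_ ?_ ?_
    · intro x hx
      obtain ⟨y, hy, hyx⟩ := h1 (Subgroup.mem_subgroupOf.mp hx)
      have : y = x := Subtype.ext hyx
      rwa [← this]
    · rintro _ ⟨x, hx, rfl⟩
      exact Subgroup.mem_subgroupOf.mp (hTW hx)
    · intro h
      apply hT1
      rw [Subgroup.map_eq_bot_iff] at h
      rw [Subgroup.ker_subtype] at h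
      exact le_bot_iff.mp h
    · rintro _ ⟨x, hx, rfl⟩ g hg hgx
      exact ⟨⟨g, hg⟩ * x * ⟨g, hg⟩⁻¹, hTc x hx ⟨g, hg⟩ (Subgroup.mem_subgroupOf.mpr hgx), rfl⟩

end Cfsg.Agent.Lib.FusionSelfNorm
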