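import Cfsg.Agent.Lib.FusionGroup
import Cfsg.Agent.Lib.FusionTools
import Cfsg.Agent.Lib.FusionFocal

/-! Fusion systems pulled back along an injective homomorphism; the fusion system of `P ⋊ ⟨α⟩` (helper87). -/

set_option autoImplicit false
open Cfsg Cfsg.FusionSystem Cfsg.Agent.Lib.FusionBasic Cfsg.Agent.Lib.FusionSat

namespace Cfsg.Agent.Lib.FusionSemi

theorem conj_aux {G : Type*} [Group G] {g a b x : G} (h : g = a * b) : g * x * g⁻¹ = a * (b * x * b⁻¹) * a⁻¹ := by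
  subst h; group

section Pull

variable {Ω : Type*} [Group Ω] {S : Subgroup Ω} {G : Type*} [Group G]

/-- The fusion system that `G` induces on `S` through the injective homomorphism `ι`. -/
def pull (ι : S →* G) (hι : Function.Injective ι) : FusionSystem S where
  Hom P := {φ | ∃ (hP : P ≤ S) (hφ : ∀ x : P, φ x ∈ S) (g : G), ∀ x : P, ι ⟨φ x, hφ x⟩ = g * ι ⟨x, hP x.2⟩ * g⁻¹}
  le_of_mem := by
    rintro P φ ⟨hP, hφ, -⟩
    exact ⟨hP, hφ⟩
  injective_of_mem := by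
    rintro P φ ⟨hP, hφ, g, hg⟩ x y hxy
    have h1 := hg x
    have h2 := hg y
    have h3 : (⟨φ x, hφ x⟩ : S) = ⟨φ y, hφ y⟩ := Subtype.ext hxy
    rw [h3, h2] at h1
    have h4 := mul_left_cancel (mul_right_cancel h1)
    have h5 := hι h4
    exact Subtype.ext (congrArg Subtype.val h5).symm
  conj_mem := by
    intro P g hP hg
    refine ⟨hP, fun x => S.mul_mem (S.mul_mem hg (hP x.2)) (S.inv_mem hg), ι ⟨g, hg⟩, fun x => ?_⟩
    rw [← map_mul, ← map_inv, ← map_mul]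
    rfl
  comp_mem := by
    rintro P Q φ ψ ⟨hP, hφ, g, hg⟩ ⟨hQ, hψ, k, hk⟩ h
    refine ⟨hP, fun x => hψ _, k * g, fun x => ?_⟩
    have h1 := hk ⟨φ x, h x⟩
    have h2 := hg x
    have h3 : (⟨(ψ.comp (φ.codRestrict Q h)) x, hψ _⟩ : S) = ⟨ψ ⟨φ x, h x⟩, hψ _⟩ := rfl
    rw [h3, h1, show (⟨((⟨φ x, h x⟩ : Q) : Ω), hQ (h x)⟩ : S) = ⟨φ x, hφ x⟩ from rfl, h2]
    group
  inv_mem := by
    rintro P φ ⟨hP, hφ, g, hg⟩
    have hinj : Function.Injective φ := by
      intro x y hxy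
      have h1 := hg x
      have h2 := hg y
      have h3 : (⟨φ x, hφ x⟩ : S) = ⟨φ y, hφ y⟩ := Subtype.ext hxy
      rw [h3, h2] at h1
      have h4 := mul_left_cancel (mul_right_cancel h1)
      have h5 := hι h4
      exact Subtype.ext (congrArg Subtype.val h5).symm
    have h0 : ∀ x : P, (MonoidHom.ofInjective hinj).symm ⟨φ x, ⟨x, rfl⟩⟩ = x := fun x => by
      rw [MulEquiv.symm_apply_eq]
      rfl
    refine ⟨P.subtype.comp (MonoidHom.ofInjective hinj).symm.toMonoidHom, ⟨?_, ?_, g⁻¹, ?_⟩, ?_⟩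
    · rintro _ ⟨x, rfl⟩
      exact hφ x
    · intro y
      exact hP ((MonoidHom.ofInjective hinj).symm y).2
    · rintro ⟨_, x, rfl⟩
      have h1 := hg x
      have h2 : (⟨(P.subtype.comp (MonoidHom.ofInjective hinj).symm.toMonoidHom) ⟨φ x, ⟨x, rfl⟩⟩,
          hP ((MonoidHom.ofInjective hinj).symm ⟨φ x, ⟨x, rfl⟩⟩).2⟩ : S) = ⟨x, hP x.2⟩ := by
        apply Subtype.ext
        show (((MonoidHom.ofInjective hinj).symm ⟨φ x, ⟨x, rfl⟩⟩ : P) : Ω) = x
        rw [h0]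
      rw [h2, h1]
      group
    · intro x
      show (((MonoidHom.ofInjective hinj).symm ⟨φ x, ⟨x, rfl⟩⟩ : P) : Ω) = x
      rw [h0]

theorem pull_isRealizedBy (ι : S →* G) (hι : Function.Injective ι) : (pull ι hι).IsRealizedBy ι := by
  refine ⟨hι, fun P hP φ hφ => ?_⟩
  constructor
  · rintro ⟨_, _, g, hg⟩
    exact ⟨g, hg⟩
  · rintro ⟨g, hg⟩
    exact ⟨hP, hφ, g, hg⟩

theorem fmap_pull_iff (ι : S →* G) (hι : Function.Injective ι) {P : Subgroup Ω} {f : Ω → Ω} : FMap (pull ι hι) P f ↔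
    ∃ (hP : P ≤ S) (hf : ∀ x ∈ P, f x ∈ S) (g : G), ∀ (x : Ω) (hx : x ∈ P), ι ⟨f x, hf x hx⟩ = g * ι ⟨x, hP hx⟩ * g⁻¹ := by
  constructor
  · rintro ⟨φ, ⟨hP, hφ, g, hg⟩, h⟩
    refine ⟨hP, fun x hx => by rw [← h ⟨x, hx⟩]; exact hφ _, g, fun x hx => ?_⟩
    rw [← hg ⟨x, hx⟩]
    congr 1
    exact Subtype.ext (h ⟨x, hx⟩).symm
  · rintro ⟨hP, hf, g, hg⟩
    obtain ⟨φ, hφ, h⟩ := FusionGroup.exists_pullback ι hι hP g (fun x => ⟨⟨f x, hf x x.2⟩, hg x x.2⟩)
    refine ⟨φ, ⟨hP, hφ, g, h⟩, fun x => ?_⟩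
    have h1 := (h x).trans (hg x x.2).symm
    exact congrArg Subtype.val (hι h1)

end Pull

variable {Ω : Type*} [Group Ω] {S T P Q : Subgroup Ω} {F : FusionSystem S} {f g : Ω → Ω} {p : ℕ}

/-- The fusion system of `T ⋊ ⟨α⟩` for a `p'`-automorphism `α ∈ Aut_F(T)` is a saturated subsystem of `F`. -/
theorem exists_semidirect [Finite S] [Fact p.Prime] (hS : IsPGroup p S) (hT : T ≤ S) {α : MulAut T} (hα : α ∈ F.autGroup T)
    (hα' : (orderOf α).Coprime p) : ∃ E : FusionSystem T, E.IsSaturated p ∧ E.IsSubsystemOf F ∧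
      ∀ (P : Subgroup Ω) (f : Ω → Ω), FMap E P f ↔ P ≤ T ∧ ∃ β ∈ Subgroup.zpowers α, ∃ g ∈ T, ∀ x ∈ P, f x = g * autFun β x * g⁻¹ := by
  classical
  have hTfin : Finite T := finite_of_le hT
  have hTp : IsPGroup p T := hS.to_le hT
  let Z := Subgroup.zpowers α
  let φ : Z →* MulAut T := Z.subtype
  let G := T ⋊[φ] Z
  have hGfin : Finite G := Finite.of_equiv (T × Z) (SemidirectProduct.equivProd (φ := φ)).symm
  let ι : T →* G := SemidirectProduct.inl
  have hι : Function.Injective ι := SemidirectProduct.inl_injective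
  have hιp : IsPGroup p ι.range := hTp.of_surjective ι.rangeRestrict ι.rangeRestrict_surjective
  have hidx : ¬ p ∣ ι.range.index := by
    have h1 : ι.range = (SemidirectProduct.rightHom : G →* Z).ker := SemidirectProduct.range_inl_eq_ker_rightHom
    rw [h1, Subgroup.index_ker, MonoidHom.range_eq_top.2 SemidirectProduct.rightHom_surjective, Subgroup.card_top]
    show ¬ p ∣ Nat.card Z
    rw [Nat.card_zpowers]
    intro h
    have h2 := Nat.dvd_gcd h (dvd_refl p)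
    rw [Nat.Coprime.gcd_eq_one hα'] at h2
    exact (Fact.out : p.Prime).one_lt.ne' (Nat.dvd_one.1 h2)
  have hsat : (pull ι hι).IsSaturated p :=
    FusionGroup.isSaturated_of_isRealizedBy ι (pull_isRealizedBy ι hι) (hιp.toSylow hidx) rfl
  have hconj : ∀ (g : G) (x : T), g * ι x * g⁻¹ = ι (g.left * (g.right : MulAut T) x * g.left⁻¹) := by
    intro g x
    have h1 : g = ι g.left * SemidirectProduct.inr g.right := (SemidirectProduct.inl_left_mul_inr_right g).symm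
    have h2 : ι ((g.right : MulAut T) x) = SemidirectProduct.inr g.right * ι x * SemidirectProduct.inr g.right⁻¹ :=
      SemidirectProduct.inl_aut (φ := φ) g.right x
    rw [map_mul, map_mul, h2, map_inv, map_inv]
    exact conj_aux h1
  have key : ∀ (P : Subgroup Ω) (f : Ω → Ω), FMap (pull ι hι) P f ↔
      P ≤ T ∧ ∃ β ∈ Subgroup.zpowers α, ∃ g ∈ T, ∀ x ∈ P, f x = g * autFun β x * g⁻¹ := by
    intro P f
    rw [fmap_pull_iff]
    constructor
    · rintro ⟨hP, hf, g, hg⟩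
      refine ⟨hP, g.right, g.right.2, g.left, g.left.2, fun x hx => ?_⟩
      have h1 := hg x hx
      rw [hconj] at h1
      have h2 := congrArg Subtype.val (hι h1)
      rw [autFun_of_mem _ (hP hx)]
      exact h2
    · rintro ⟨hP, β, hβ, g, hg, h⟩
      have hf : ∀ x ∈ P, f x ∈ T := fun x hx => by
        rw [h x hx]
        exact T.mul_mem (T.mul_mem hg (FusionTools.autFun_mem β (hP hx))) (T.inv_mem hg)
      refine ⟨hP, hf, ⟨⟨g, hg⟩, ⟨β, hβ⟩⟩, fun x hx => ?_⟩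
      rw [hconj]
      congr 1
      apply Subtype.ext
      show f x = g * (β ⟨x, hP hx⟩ : T) * g⁻¹
      rw [h x hx, autFun_of_mem β (hP hx)]
  refine ⟨pull ι hι, hsat, ?_, key⟩
  intro P ψ hψ
  obtain ⟨hP, β, hβ, g, hg, h⟩ := (key P (toFun ψ)).1 (fmap_toFun.2 hψ)
  rw [← fmap_toFun]
  have hβF : β ∈ F.autGroup T := (Subgroup.zpowers_le.2 hα) hβ
  have h1 : FMap F P (autFun β) := (fmap_of_autGroup hT hβF).restrict hP
  have h2 : FMap F P (fun x => g * autFun β x * g⁻¹) :=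
    h1.comp (fmap_conj F hT (hT hg)) (fun x hx => FusionTools.autFun_mem β (hP hx))
  exact h2.congr fun x hx => (h x hx).symm

end Cfsg.Agent.Lib.FusionSemi
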