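import Cfsg.Agent.Lib.FusionSimple
import Cfsg.Agent.Lib.FusionSat
import Cfsg.Agent.Lib.FusionGroup

set_option autoImplicit false

/-!
Simplicity of the fusion system of a finite group `G` from data in a central `p'`-cover.
-/

namespace Cfsg.Agent.Lib.FusionSimpleGroup

open Cfsg Cfsg.FusionSystem Cfsg.Agent.Lib.FusionSimple

/-- The data (for the prime `p`, a Sylow `p`-subgroup `U` and a central subgroup `Z` of `G`) from which the simplicity
of the fusion system of `G / Z` is deduced: no proper nontrivial subgroup of `U` is strongly closed, and `N_G(U)` is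
generated by elements of the groups generated by the `p`-elements of `N_G(R)`, for subgroups `R` normal in `U` with
`C_G(R) ≤ R Z`. -/
def Crit (p : ℕ) {G : Type*} [Group G] (Z U : Subgroup G) : Prop :=
  (∀ T : Subgroup G, T ≤ U → (∀ x ∈ T, ∀ g : G, g * x * g⁻¹ ∈ U → g * x * g⁻¹ ∈ T) → T = ⊥ ∨ T = U) ∧
  ∀ g ∈ Subgroup.normalizer (U : Set G), g ∈ Subgroup.closure {h : G | h ∈ Subgroup.normalizer (U : Set G) ∧
    ∃ R : Subgroup G, R ≤ U ∧ U ≤ Subgroup.normalizer (R : Set G) ∧
      (∀ c : G, (∀ r ∈ R, c * r = r * c) → c ∈ R ⊔ Z) ∧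
      h ∈ Subgroup.closure {x : G | x ∈ Subgroup.normalizer (R : Set G) ∧ ∃ k : ℕ, orderOf x = p ^ k}}

theorem map_normalizer_mem {G H : Type*} [Group G] [Group H] (e : G ≃* H) (U : Subgroup G) {g : G}
    (hg : g ∈ Subgroup.normalizer (U : Set G)) : e g ∈ Subgroup.normalizer ((U.map e.toMonoidHom : Subgroup H) : Set H) := by
  rw [Subgroup.mem_normalizer_iff] at hg ⊢
  intro h
  constructor
  · rintro ⟨u, hu, rfl⟩
    exact ⟨g * u * g⁻¹, (hg u).mp hu, by simp⟩
  · rintro ⟨u, hu, hue⟩
    refine ⟨e.symm h, (hg _).mpr ?_, by simp⟩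
    have h1 : g * e.symm h * g⁻¹ = u := by
      apply e.injective
      rw [map_mul, map_mul, e.apply_symm_apply, map_inv]
      exact hue.symm
    rw [h1]; exact hu

theorem map_closure_mem {G H : Type*} [Group G] [Group H] (f : G →* H) {A : Set G} {B : Set H}
    (hAB : ∀ a ∈ A, f a ∈ B) {g : G} (hg : g ∈ Subgroup.closure A) : f g ∈ Subgroup.closure B := by
  have h1 : Subgroup.closure A ≤ (Subgroup.closure B).comap f := by
    rw [Subgroup.closure_le]
    intro a ha
    exact Subgroup.subset_closure (hAB a ha)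
  exact h1 hg

theorem Crit.map {p : ℕ} {G H : Type*} [Group G] [Group H] (e : G ≃* H) {Z U : Subgroup G} (h : Crit p Z U) :
    Crit p (Z.map e.toMonoidHom) (U.map e.toMonoidHom) := by
  obtain ⟨ha, hb⟩ := h
  refine ⟨?_, ?_⟩
  · intro T hT hTc
    have h1 := ha (T.comap e.toMonoidHom) (by
      intro x hx
      obtain ⟨u, hu, hue⟩ := hT hx
      have : u = x := e.injective hue
      rwa [← this]) (by
      intro x hx g hg
      have h2 := hTc (e x) hx (e g) ⟨g * x * g⁻¹, hg, by simp⟩
      show e (g * x * g⁻¹) ∈ T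
      rw [map_mul, map_mul, map_inv]
      exact h2)
    rcases h1 with h1 | h1
    · left
      rw [eq_bot_iff]
      intro x hx
      have h2 : e.symm x ∈ T.comap e.toMonoidHom := by
        show e (e.symm x) ∈ T
        rwa [e.apply_symm_apply]
      rw [h1, Subgroup.mem_bot] at h2
      rw [Subgroup.mem_bot, ← e.apply_symm_apply x, h2, map_one]
    · right
      apply le_antisymm hT
      rintro _ ⟨u, hu, rfl⟩
      rw [← h1] at hu
      exact hu
  · intro g hg
    have h1 : e.symm g ∈ Subgroup.normalizer (U : Set G) := by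
      rw [Subgroup.mem_normalizer_iff] at hg ⊢
      intro u
      have h2 := hg (e u)
      constructor
      · intro hu
        obtain ⟨v, hv, hve⟩ := h2.mp ⟨u, hu, rfl⟩
        have h3 : v = e.symm g * u * (e.symm g)⁻¹ := by
          apply e.injective
          rw [map_mul, map_mul, map_inv, e.apply_symm_apply]
          exact hve
        rwa [← h3]
      · intro hu
        have h3 : g * e u * g⁻¹ ∈ U.map e.toMonoidHom := ⟨_, hu, by simp⟩
        obtain ⟨v, hv, hve⟩ := h2.mpr h3
        have h4 : v = u := e.injective hve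
        rwa [← h4]
    have h2 := map_closure_mem e.toMonoidHom (B := {h : H | h ∈ Subgroup.normalizer ((U.map e.toMonoidHom : Subgroup H) : Set H) ∧
      ∃ R : Subgroup H, R ≤ U.map e.toMonoidHom ∧ U.map e.toMonoidHom ≤ Subgroup.normalizer (R : Set H) ∧
      (∀ c : H, (∀ r ∈ R, c * r = r * c) → c ∈ R ⊔ Z.map e.toMonoidHom) ∧
      h ∈ Subgroup.closure {x : H | x ∈ Subgroup.normalizer (R : Set H) ∧ ∃ k : ℕ, orderOf x = p ^ k}}) ?_ (hb _ h1)
    · have h3 : e.toMonoidHom (e.symm g) = g := e.apply_symm_apply g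
      rw [h3] at h2
      exact h2
    · rintro a ⟨haU, R, hRU, hUR, hRc, haR⟩
      refine ⟨map_normalizer_mem e U haU, R.map e.toMonoidHom, Subgroup.map_mono hRU, ?_, ?_, ?_⟩
      · rintro _ ⟨u, hu, rfl⟩
        exact map_normalizer_mem e R (hUR hu)
      · intro c hc
        have h3 := hRc (e.symm c) (by
          intro r hr
          apply e.injective
          rw [map_mul, map_mul, e.apply_symm_apply]
          exact hc (e r) ⟨r, hr, rfl⟩)
        rw [← Subgroup.map_sup]
        exact ⟨e.symm c, h3, e.apply_symm_apply c⟩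
      · refine map_closure_mem e.toMonoidHom ?_ haR
        rintro x ⟨hx, k, hk⟩
        refine ⟨map_normalizer_mem e R hx, k, ?_⟩
        rw [← hk]
        exact MulEquiv.orderOf_eq e x

theorem Crit.conj {p : ℕ} {G : Type*} [Group G] {Z U : Subgroup G} (hZ : ∀ z ∈ Z, ∀ g : G, g * z = z * g)
    (h : Crit p Z U) (g : G) : Crit p Z (U.map (MulAut.conj g).toMonoidHom) := by
  have h1 := Crit.map (MulAut.conj g) h
  have h2 : Z.map (MulAut.conj g).toMonoidHom = Z := by
    ext x
    constructor
    · rintro ⟨z, hz, rfl⟩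
      show g * z * g⁻¹ ∈ Z
      rw [hZ z hz g]; simpa using hz
    · intro hx
      refine ⟨x, hx, ?_⟩
      show g * x * g⁻¹ = x
      rw [hZ x hx g]; group
  rw [h2] at h1
  exact h1

/-- If `z` commutes with `u`, `z` lies in a group of order prime to `p` and `u`, `u z` have `p`-power order, then
`z = 1`. -/
theorem eq_one_of_coprime {G : Type*} [Group G] {p : ℕ} [Fact p.Prime] {u z : G} (huz : Commute u z)
    {a b : ℕ} (hu : u ^ p ^ a = 1) (huz' : (u * z) ^ p ^ b = 1) (hz : (orderOf z).Coprime p) : z = 1 := by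
  have h1 : (u * z) ^ p ^ (a + b) = 1 := by rw [pow_add, mul_comm, pow_mul, huz', one_pow]
  have h2 : u ^ p ^ (a + b) = 1 := by rw [pow_add, pow_mul, hu, one_pow]
  rw [huz.mul_pow, h2, one_mul] at h1
  have h3 : orderOf z ∣ p ^ (a + b) := orderOf_dvd_of_pow_eq_one h1
  have h4 : (orderOf z).Coprime (p ^ (a + b)) := hz.pow_right _
  have h5 : orderOf z = 1 := Nat.Coprime.eq_one_of_dvd h4 h3
  exact orderOf_eq_one_iff.mp h5

section main

set_option linter.unusedSectionVars false

variable {p : ℕ} [Fact p.Prime] {G H : Type*} [Group G] [Finite G] [Group H] [Finite H] (π : G →* H)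

/-- p-power orders in p-subgroups -/
theorem exists_pow_eq_one {K : Type*} [Group K] {U : Subgroup K} (hU : IsPGroup p U) {u : K} (hu : u ∈ U) :
    ∃ a : ℕ, u ^ p ^ a = 1 := by
  obtain ⟨k, hk⟩ := hU ⟨u, hu⟩
  exact ⟨k, congrArg (Subtype.val : U → K) hk⟩

/-- If `c` normalizes the image of a `p`-subgroup `R` then it normalizes `R`. -/
theorem conj_mem_of_map (hker : ∀ z ∈ π.ker, ∀ g : G, g * z = z * g) (hkerp : (Nat.card π.ker).Coprime p)
    {R : Subgroup G} (hR : IsPGroup p R) {c : G} (hc : ∀ r ∈ R, ∃ r' ∈ R, π (c * r * c⁻¹) = π r') :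
    ∀ r ∈ R, ∃ r' ∈ R, π (c * r * c⁻¹) = π r' ∧ c * r * c⁻¹ = r' := by
  intro r hr
  obtain ⟨r', hr', h⟩ := hc r hr
  refine ⟨r', hr', h, ?_⟩
  have hz : r'⁻¹ * (c * r * c⁻¹) ∈ π.ker := by
    rw [MonoidHom.mem_ker, map_mul, map_inv, h, inv_mul_cancel]
  obtain ⟨a, ha⟩ := exists_pow_eq_one hR hr'
  obtain ⟨b, hb⟩ := exists_pow_eq_one hR hr
  have h1 : r'⁻¹ * (c * r * c⁻¹) = 1 := by
    refine eq_one_of_coprime (p := p) (u := r') (a := a) (b := b) (hker _ hz r') ha ?_ ?_
    · rw [mul_inv_cancel_left, conj_pow, hb]; group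
    · have h2 : orderOf (r'⁻¹ * (c * r * c⁻¹)) ∣ Nat.card π.ker := Subgroup.orderOf_dvd_natCard π.ker hz
      exact Nat.Coprime.coprime_dvd_left h2 hkerp
  exact (inv_mul_eq_one.mp h1).symm

/-- Main theorem: `F_S(G / Z)` is simple. -/
theorem simple_of_cover (hπ : Function.Surjective π) (hker : ∀ z ∈ π.ker, ∀ g : G, g * z = z * g)
    (hkerp : (Nat.card π.ker).Coprime p) (U : Sylow p G) (hU : (U : Subgroup G) ≠ ⊥)
    (hcrit : Crit p π.ker (U : Subgroup G)) (S : Sylow p H) : (groupFusionSystem (S : Subgroup H)).IsSimple p := by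
  -- a Sylow subgroup of `G` mapping onto `S`
  obtain ⟨g₀, hg₀⟩ : ∃ g₀ : G, (S : Subgroup H) =
      ((U : Subgroup G).map (MulAut.conj g₀).toMonoidHom).map π := by
    obtain ⟨h, hh⟩ := MulAction.exists_smul_eq H (U.mapSurjective hπ) S
    obtain ⟨g₀, rfl⟩ := hπ h
    refine ⟨g₀, ?_⟩
    rw [← hh, Sylow.coe_subgroup_smul]
    ext x
    constructor
    · intro hx
      obtain ⟨y, hy, rfl⟩ := (Subgroup.mem_smul_pointwise_iff_exists _ _ _).mp hx
      obtain ⟨u, hu, rfl⟩ := hy
      refine ⟨g₀ * u * g₀⁻¹, ⟨u, hu, rfl⟩, ?_⟩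
      show π (g₀ * u * g₀⁻¹) = π g₀ * π u * (π g₀)⁻¹
      simp
    · rintro ⟨_, ⟨u, hu, rfl⟩, rfl⟩
      apply (Subgroup.mem_smul_pointwise_iff_exists _ _ _).mpr
      refine ⟨π u, ⟨u, hu, rfl⟩, ?_⟩
      show π g₀ * π u * (π g₀)⁻¹ = π (g₀ * u * g₀⁻¹)
      simp
  set V : Subgroup G := (U : Subgroup G).map (MulAut.conj g₀).toMonoidHom with hV
  have hVcrit : Crit p π.ker V := hcrit.conj hker g₀
  have hVp : IsPGroup p V := U.isPGroup'.map _
  obtain ⟨ha, hb⟩ := hVcrit
  have hF := FusionGroup.groupFusionSystem_isSaturated S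
  have hS1 : (S : Subgroup H) ≠ ⊥ := by
    intro hS
    apply hU
    rw [eq_bot_iff]
    intro u hu
    have h1 : π (g₀ * u * g₀⁻¹) ∈ (S : Subgroup H) := by
      rw [hg₀]; exact ⟨_, ⟨u, hu, rfl⟩, rfl⟩
    rw [hS, Subgroup.mem_bot] at h1
    obtain ⟨a, ha'⟩ := exists_pow_eq_one U.isPGroup' hu
    have h2 : g₀ * u * g₀⁻¹ = 1 := by
      refine eq_one_of_coprime (p := p) (u := 1) (a := 0) (b := a) (Commute.one_left _) (one_pow _) ?_ ?_
      · rw [one_mul, conj_pow, ha']; group
      · exact Nat.Coprime.coprime_dvd_left (Subgroup.orderOf_dvd_natCard π.ker h1) hkerp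
    have h3 : u = g₀⁻¹ * (g₀ * u * g₀⁻¹) * g₀ := by group
    rw [Subgroup.mem_bot, h3, h2]; group
  refine simple_of _ hF hS1 ?_ ?_
  · -- strongly closed subgroups
    intro T hT
    have h1 := ha (T.comap π ⊓ V) inf_le_right (by
      intro x hx g hg
      obtain ⟨hxT, hxV⟩ := Subgroup.mem_inf.mp hx
      refine Subgroup.mem_inf.mpr ⟨?_, hg⟩
      show π (g * x * g⁻¹) ∈ T
      have hxT' : Subgroup.zpowers (π x) ≤ T := (Subgroup.zpowers_le).mpr hxT
      have h2 : conjHom (Subgroup.zpowers (π x)) (π g) ∈ (groupFusionSystem (S : Subgroup H)).Hom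
          (Subgroup.zpowers (π x)) := by
        refine ⟨hxT'.trans hT.1, ?_, π g, fun y => rfl⟩
        rintro ⟨_, m, rfl⟩
        show π g * (π x) ^ m * (π g)⁻¹ ∈ (S : Subgroup H)
        have h3 : π g * (π x) ^ m * (π g)⁻¹ = (π (g * x * g⁻¹)) ^ m := by
          rw [map_mul, map_mul, map_inv, conj_zpow]
        rw [h3, hg₀]
        exact Subgroup.zpow_mem (V.map π) (Subgroup.mem_map_of_mem π hg) m
      have h4 := hT.2 _ hxT' _ h2 ⟨π x, Subgroup.mem_zpowers _⟩
      have h5 : π (g * x * g⁻¹) = π g * π x * (π g)⁻¹ := by simp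
      rw [h5]; exact h4)
    have h6 : T = (T.comap π ⊓ V).map π := by
      apply le_antisymm
      · intro t ht
        have h7 := hT.1 ht
        rw [hg₀] at h7
        obtain ⟨v, hv, rfl⟩ := h7
        exact ⟨v, Subgroup.mem_inf.mpr ⟨ht, hv⟩, rfl⟩
      · rintro _ ⟨v, hv, rfl⟩
        exact (Subgroup.mem_inf.mp hv).1
    rcases h1 with h1 | h1
    · left; rw [h6, h1, Subgroup.map_bot]
    · right; rw [h6, h1, hg₀]
  · intro E hE α hα
    rw [autGroup_group le_rfl] at hα
    obtain ⟨g, -, hg⟩ := exists_of_mem_autInducedBy hα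
    obtain ⟨g, rfl⟩ := hπ g
    -- g normalizes V
    have hconjV : ∀ c : G, (∀ x ∈ (S : Subgroup H), π c * x * (π c)⁻¹ ∈ (S : Subgroup H)) →
        ∀ v ∈ V, c * v * c⁻¹ ∈ V := by
      intro c hc v hv
      obtain ⟨r', hr', -, h⟩ := conj_mem_of_map π hker hkerp hVp (c := c) (by
        intro r hr
        have h1 := hc (π r) (by rw [hg₀]; exact ⟨r, hr, rfl⟩)
        rw [hg₀] at h1
        obtain ⟨r', hr', h⟩ := h1
        refine ⟨r', hr', ?_⟩
        rw [h]; simp) v hv
      rw [h]; exact hr'
    have hgS : ∀ x ∈ (S : Subgroup H), π g * x * (π g)⁻¹ ∈ (S : Subgroup H) := by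
      intro x hx
      have := hg ⟨x, hx⟩
      rw [← this]; exact (α ⟨x, hx⟩).2
    have hgS' : ∀ x ∈ (S : Subgroup H), π g⁻¹ * x * (π g⁻¹)⁻¹ ∈ (S : Subgroup H) := by
      intro x hx
      have h1 := hg (α⁻¹ ⟨x, hx⟩)
      rw [MulAut.apply_inv_self] at h1
      have h2 : π g⁻¹ * x * (π g⁻¹)⁻¹ = ((α⁻¹ ⟨x, hx⟩ : S) : H) := by
        have h3 : x = π g * ((α⁻¹ ⟨x, hx⟩ : S) : H) * (π g)⁻¹ := h1
        rw [map_inv]
        calc (π g)⁻¹ * x * (π g)⁻¹⁻¹ = (π g)⁻¹ * (π g * ((α⁻¹ ⟨x, hx⟩ : S) : H) * (π g)⁻¹) * (π g)⁻¹⁻¹ := by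
              rw [← h3]
          _ = _ := by group
      rw [h2]; exact (α⁻¹ ⟨x, hx⟩).2
    have hgV : g ∈ Subgroup.normalizer (V : Set G) := by
      rw [Subgroup.mem_normalizer_iff]
      intro v
      constructor
      · exact hconjV g hgS v
      · intro hv
        have h1 := hconjV g⁻¹ hgS' _ hv
        have h2 : g⁻¹ * (g * v * g⁻¹) * g⁻¹⁻¹ = v := by group
        rwa [h2] at h1
    have key := hb g hgV
    -- all elements of the closure act as elements of `Aut_E(S)`
    have hcl : π g ∈ Subgroup.normalizer ((S : Subgroup H) : Set H) ∧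
        conjHom (S : Subgroup H) (π g) ∈ E.Hom (S : Subgroup H) := by
      clear hg hgS hgS' hgV
      induction key using Subgroup.closure_induction with
      | mem x hx =>
        obtain ⟨hxV, R, hRV, hVR, hRc, hxR⟩ := hx
        have hpxS : π x ∈ Subgroup.normalizer ((S : Subgroup H) : Set H) := by
          rw [Subgroup.mem_normalizer_iff] at hxV ⊢
          intro y
          constructor
          · intro hy
            rw [hg₀] at hy ⊢
            obtain ⟨v, hv, rfl⟩ := hy
            exact ⟨x * v * x⁻¹, (hxV v).mp hv, by simp⟩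
          · intro hy
            rw [hg₀] at hy ⊢
            obtain ⟨v, hv, hvy⟩ := hy
            refine ⟨x⁻¹ * v * x, ?_, ?_⟩
            · apply (hxV _).mpr
              have : x * (x⁻¹ * v * x) * x⁻¹ = v := by group
              rw [this]; exact hv
            · rw [map_mul, map_mul, hvy, map_inv]; group
        refine ⟨hpxS, ?_⟩
        have hRS : R.map π ≤ (S : Subgroup H) := by
          rw [hg₀]; exact Subgroup.map_mono hRV
        have hRp : IsPGroup p R := hVp.to_le hRV
        have hSR : (S : Subgroup H) ≤ Subgroup.normalizer ((R.map π : Subgroup H) : Set H) := by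
          rw [hg₀]
          rintro _ ⟨v, hv, rfl⟩
          have h1 := hVR hv
          rw [Subgroup.mem_normalizer_iff] at h1 ⊢
          intro y
          constructor
          · rintro ⟨r, hr, rfl⟩
            exact ⟨v * r * v⁻¹, (h1 r).mp hr, by simp⟩
          · rintro ⟨r, hr, hry⟩
            refine ⟨v⁻¹ * r * v, ?_, ?_⟩
            · apply (h1 _).mpr
              have : v * (v⁻¹ * r * v) * v⁻¹ = r := by group
              rw [this]; exact hr
            · rw [map_mul, map_mul, hry, map_inv]; group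
        have hcent : ∀ c : H, (∀ r ∈ R.map π, c * r = r * c) → c ∈ R.map π := by
          intro c hc
          obtain ⟨c, rfl⟩ := hπ c
          have h1 : ∀ r ∈ R, c * r = r * c := by
            intro r hr
            have h2 : π (c * r * c⁻¹) = π r := by
              rw [map_mul, map_mul, hc (π r) ⟨r, hr, rfl⟩, map_inv]; group
            have hz : r⁻¹ * (c * r * c⁻¹) ∈ π.ker := by
              rw [MonoidHom.mem_ker, map_mul, map_inv, h2, inv_mul_cancel]
            obtain ⟨a, ha'⟩ := exists_pow_eq_one hRp hr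
            have h3 : r⁻¹ * (c * r * c⁻¹) = 1 := by
              refine eq_one_of_coprime (p := p) (u := r) (a := a) (b := a) (hker _ hz r) ha' ?_ ?_
              · rw [mul_inv_cancel_left, conj_pow, ha']; group
              · exact Nat.Coprime.coprime_dvd_left (Subgroup.orderOf_dvd_natCard π.ker hz) hkerp
            have h4 : c * r * c⁻¹ = r := (inv_mul_eq_one.mp h3).symm
            calc c * r = c * r * c⁻¹ * c := by group
              _ = r * c := by rw [h4]
          have h5 := hRc c h1
          have h6 : π c ∈ (R ⊔ π.ker).map π := ⟨c, h5, rfl⟩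
          rw [Subgroup.map_sup] at h6
          have h7 : (π.ker).map π = ⊥ := (Subgroup.map_eq_bot_iff _).mpr le_rfl
          rwa [h7, sup_bot_eq] at h6
        have hRcen : (groupFusionSystem (S : Subgroup H)).IsCentric (R.map π) := by
          refine ⟨hRS, ?_⟩
          rintro _ ⟨χ, ⟨-, -, k, hk⟩, rfl⟩
          intro y hy
          have hy2 := Subgroup.mem_centralizer_iff.mp (Subgroup.mem_inf.mp hy).2
          have h1 : k⁻¹ * y * k ∈ R.map π := by
            apply hcent
            intro r hr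
            have h2 := hy2 (χ ⟨r, hr⟩) ⟨_, rfl⟩
            rw [hk] at h2
            have h3 : k⁻¹ * y * k * r = k⁻¹ * (y * (k * r * k⁻¹)) * k := by group
            have h4 : k * r * k⁻¹ * y = y * (k * r * k⁻¹) := h2
            rw [h3, ← h4]; group
          refine ⟨⟨_, h1⟩, ?_⟩
          rw [hk]
          show k * (k⁻¹ * y * k) * k⁻¹ = y
          group
        have hRfn : (groupFusionSystem (S : Subgroup H)).IsFullyNormalized (R.map π) := by
          refine ⟨hRS, fun Q _ => ?_⟩
          have h1 : normalizerIn (S : Subgroup H) (R.map π) = S := inf_eq_left.mpr hSR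
          rw [h1]
          exact Subgroup.card_le_of_le inf_le_left
        have hRfa := FusionSat.fullyAutomized_of_fullyNormalized S.isPGroup' hF hRfn
        have h8 := autInducedBy_closure_le S.isPGroup' hF E hE.1.2.2 (by
          intro Q hQ
          exact FusionSat.receptive_of_fullyCentralized S.isPGroup' hE.1.1 (fullyCentralized_of_centric _ E hE.1.2.2.1 hQ)) hRfa hRcen
        have hmemS : ∀ r : (S : Subgroup H), conjHom (S : Subgroup H) (π x) r ∈ (S : Subgroup H) :=
          fun r => (Subgroup.mem_normalizer_iff.mp hpxS r).mp r.2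
        let β : MulAut (S : Subgroup H) := autOfHom (conjHom (S : Subgroup H) (π x))
          (fun a b hab => Subtype.ext ((MulAut.conj (π x)).injective hab)) hmemS
        have hβ : β ∈ E.autGroup (S : Subgroup H) := by
          apply h8
          refine mem_autInducedBy (g := π x) ?_ (fun r => rfl)
          refine map_closure_mem π ?_ hxR
          rintro y ⟨hyR, k, hk⟩
          refine ⟨?_, ?_⟩
          · rw [Subgroup.mem_normalizer_iff] at hyR ⊢
            intro w
            constructor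
            · rintro ⟨r, hr, rfl⟩
              exact ⟨y * r * y⁻¹, (hyR r).mp hr, by simp⟩
            · rintro ⟨r, hr, hry⟩
              refine ⟨y⁻¹ * r * y, ?_, ?_⟩
              · apply (hyR _).mpr
                have : y * (y⁻¹ * r * y) * y⁻¹ = r := by group
                rw [this]; exact hr
              · rw [map_mul, map_mul, hry, map_inv]; group
          · have h9 : orderOf (π y) ∣ p ^ k := hk ▸ orderOf_map_dvd π y
            obtain ⟨j, -, hj⟩ := (Nat.dvd_prime_pow Fact.out).mp h9
            exact ⟨j, hj⟩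
        exact (mem_autGroup E le_rfl).mp hβ
      | one =>
        refine ⟨by rw [map_one]; exact Subgroup.one_mem _, ?_⟩
        rw [map_one]
        exact E.conj_mem le_rfl (Subgroup.one_mem _)
      | mul x y _ _ hx hy =>
        refine ⟨by rw [map_mul]; exact Subgroup.mul_mem _ hx.1 hy.1, ?_⟩
        refine comp_mem' E hy.2 hx.2 (fun r => (Subgroup.mem_normalizer_iff.mp hy.1 r).mp r.2) ?_
        intro r
        show π (x * y) * r * (π (x * y))⁻¹ = π x * (π y * r * (π y)⁻¹) * (π x)⁻¹
        rw [map_mul]; group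
      | inv x _ hx =>
        refine ⟨by rw [map_inv]; exact Subgroup.inv_mem _ hx.1, ?_⟩
        rw [map_inv]
        have hmemS : ∀ (y : H), y ∈ Subgroup.normalizer ((S : Subgroup H) : Set H) →
            ∀ r : (S : Subgroup H), conjHom (S : Subgroup H) y r ∈ (S : Subgroup H) :=
          fun y hy r => (Subgroup.mem_normalizer_iff.mp hy r).mp r.2
        have hinj : ∀ y : H, Function.Injective (conjHom (S : Subgroup H) y) := fun y a b hab =>
          Subtype.ext ((MulAut.conj y).injective hab)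
        let γ : MulAut (S : Subgroup H) := autOfHom (conjHom _ (π x)) (hinj (π x)) (hmemS _ hx.1)
        let γ' : MulAut (S : Subgroup H) := autOfHom (conjHom _ (π x)⁻¹) (hinj (π x)⁻¹)
          (hmemS _ (Subgroup.inv_mem _ hx.1))
        have hγ : γ ∈ E.autGroup (S : Subgroup H) := mem_autGroup_of E hx.2 (fun r => rfl)
        have hγγ' : γ' = γ⁻¹ := by
          rw [eq_comm, inv_eq_iff_mul_eq_one]
          ext r
          show π x * ((π x)⁻¹ * r * (π x)⁻¹⁻¹) * (π x)⁻¹ = r
          group
        have h3 : γ' ∈ E.autGroup (S : Subgroup H) := by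
          rw [hγγ']; exact (E.autGroup _).inv_mem hγ
        exact (mem_autGroup E le_rfl).mp h3
    exact mem_autGroup_of E hcl.2 hg

end main

end Cfsg.Agent.Lib.FusionSimpleGroup
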