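import Cfsg.Agent.Lib.FusionNormal
import Cfsg.Agent.Lib.FusionSemi
import Cfsg.Agent.Lib.FusionAbel

/-!
Supersoluble fusion systems: chains of strongly closed subgroups with cyclic steps.
-/

set_option autoImplicit false
set_option maxHeartbeats 400000

namespace Cfsg.Agent.Lib.FusionSupersol

open Cfsg Cfsg.FusionSystem Cfsg.Agent.Lib.FusionBasic Cfsg.Agent.Lib.FusionSat Cfsg.Agent.Lib.FusionNormal
open scoped commutatorElement

/-! ### chains -/

theorem rtg_chain {α : Type*} {R : α → α → Prop} {a b : α} (h : Relation.ReflTransGen R a b) :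
    ∃ (n : ℕ) (c : ℕ → α), c 0 = a ∧ c n = b ∧ ∀ i < n, R (c i) (c (i + 1)) := by
  induction h with
  | refl => exact ⟨0, fun _ => a, rfl, rfl, fun i hi => absurd hi (Nat.not_lt_zero i)⟩
  | @tail b' c' _ hbc ih =>
    obtain ⟨n, c, h0, hn, hc⟩ := ih
    refine ⟨n + 1, fun i => if i ≤ n then c i else c', by simpa using h0, by simp, fun i hi => ?_⟩
    rcases Nat.lt_or_ge i n with h1 | h1
    · simp only [h1.le, if_true, Nat.succ_le_of_lt h1]
      exact hc i h1
    · have h2 : i = n := by omega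
      subst h2
      simp only [le_refl, if_true, Nat.not_succ_le_self, if_false, hn]
      exact hbc

theorem chain_rtg {α : Type*} {R : α → α → Prop} {n : ℕ} (c : ℕ → α) (h : ∀ i < n, R (c i) (c (i + 1))) :
    Relation.ReflTransGen R (c 0) (c n) := by
  induction n with
  | zero => exact Relation.ReflTransGen.refl
  | succ n ih => exact (ih fun i hi => h i (by omega)).tail (h n (by omega))

variable {Ω : Type*} [Group Ω] {S : Subgroup Ω} {F : FusionSystem S} {p : ℕ}

/-- a cyclic step -/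
def Step (F : FusionSystem S) (X Y : Subgroup Ω) : Prop :=
  X ≤ Y ∧ F.StronglyClosed Y ∧ ∃ x ∈ S, Y = X ⊔ Subgroup.zpowers x

/-- a cyclic step of order dividing `p` -/
def Step1 (F : FusionSystem S) (p : ℕ) (X Y : Subgroup Ω) : Prop :=
  X ≤ Y ∧ F.StronglyClosed X ∧ F.StronglyClosed Y ∧ ∃ x ∈ S, Y = X ⊔ Subgroup.zpowers x ∧ x ^ p ∈ X

/-- supersoluble, as in the statements -/
def Supersol (F : FusionSystem S) : Prop :=
  ∃ (m : ℕ) (c : Fin (m + 1) → Subgroup Ω), c 0 = ⊥ ∧ c (Fin.last m) = S ∧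
    (∀ i : Fin (m + 1), F.StronglyClosed (c i)) ∧ ∀ i : Fin m, c i.castSucc ≤ c i.succ ∧ ∃ x ∈ S,
      c i.succ = c i.castSucc ⊔ Subgroup.zpowers x

theorem stronglyClosed_bot (F : FusionSystem S) : F.StronglyClosed ⊥ :=
  isNormal_stronglyClosed (isNormal_bot F)

theorem supersol_iff : Supersol F ↔ Relation.ReflTransGen (Step F) ⊥ S := by
  constructor
  · rintro ⟨m, c, h0, hm, hc, h⟩
    let c' : ℕ → Subgroup Ω := fun i => if hi : i < m + 1 then c ⟨i, hi⟩ else ⊤
    have h1 := chain_rtg (R := Step F) (n := m) c' (fun i hi => by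
      have h2 := h ⟨i, hi⟩
      have h3 : c' i = c (Fin.castSucc ⟨i, hi⟩) := dif_pos (by omega)
      have h4 : c' (i + 1) = c (Fin.succ ⟨i, hi⟩) := dif_pos (by omega)
      rw [h3, h4]
      exact ⟨h2.1, hc _, h2.2⟩)
    have h5 : c' 0 = ⊥ := by rw [← h0]; exact dif_pos (by omega)
    have h6 : c' m = S := by rw [← hm]; exact dif_pos (by omega)
    rwa [h5, h6] at h1
  · intro h
    obtain ⟨n, c, h0, hn, hc⟩ := rtg_chain h
    refine ⟨n, fun i => c i, h0, hn, fun i => ?_, fun i => ?_⟩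
    · obtain ⟨i, hi⟩ := i
      rcases Nat.eq_zero_or_pos i with h1 | h1
      · subst h1
        show F.StronglyClosed (c 0)
        rw [h0]
        exact stronglyClosed_bot F
      · obtain ⟨j, rfl⟩ : ∃ j, i = j + 1 := ⟨i - 1, by omega⟩
        exact (hc j (by omega)).2.1
    · exact ⟨(hc i i.2).1, (hc i i.2).2.2⟩

/-- Existence of the chain from one step extensions. -/
theorem supersol_of_step [Finite S] (h : ∀ T : Subgroup Ω, F.StronglyClosed T → T ≠ S →
    ∃ x ∈ S, x ∉ T ∧ F.StronglyClosed (T ⊔ Subgroup.zpowers x)) : Supersol F := by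
  rw [supersol_iff]
  have key : ∀ (n : ℕ) (T : Subgroup Ω), F.StronglyClosed T → Nat.card S - Nat.card T = n →
      Relation.ReflTransGen (Step F) T S := by
    intro n
    induction n using Nat.strong_induction_on with
    | _ n ih =>
      intro T hT hn
      by_cases hTS : T = S
      · rw [hTS]
      · obtain ⟨x, hx, hxT, hx'⟩ := h T hT hTS
        have h1 : T < T ⊔ Subgroup.zpowers x := by
          refine lt_of_le_of_ne le_sup_left fun h2 => hxT ?_
          rw [h2]
          exact Subgroup.mem_sup_right (Subgroup.mem_zpowers x)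
        have hle : T ⊔ Subgroup.zpowers x ≤ S := ((stronglyClosed_iff F).1 hx').1
        have hfin : Finite ↥(T ⊔ Subgroup.zpowers x) := finite_of_le hle
        have h2 : Nat.card T < Nat.card ↥(T ⊔ Subgroup.zpowers x) := by
          apply lt_of_le_of_ne
          · exact Nat.card_le_card_of_injective _ (Subgroup.inclusion_injective h1.le)
          · intro h3
            exact h1.ne (Subgroup.eq_of_le_of_card_ge h1.le h3.ge)
        have h3 : Nat.card ↥(T ⊔ Subgroup.zpowers x) ≤ Nat.card S :=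
          Nat.card_le_card_of_injective _ (Subgroup.inclusion_injective hle)
        refine Relation.ReflTransGen.head ⟨h1.le, hx', x, hx, rfl⟩ (ih _ ?_ _ hx' rfl)
        omega
  exact key _ ⊥ (stronglyClosed_bot F) rfl

/-! ### refining -/

theorem mul_pow_mod {X : Subgroup Ω} {x : Ω} (hx : x ∈ Subgroup.normalizer (X : Set Ω)) {t : Ω} (ht : t ∈ X)
    (n : ℕ) : (x ^ n)⁻¹ * (x * t) ^ n ∈ X := by
  induction n with
  | zero => simp
  | succ n ih =>
    have h1 : (x ^ (n + 1))⁻¹ * (x * t) ^ (n + 1) =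
        (x⁻¹ * ((x ^ n)⁻¹ * (x * t) ^ n) * (x⁻¹)⁻¹) * t := by
      rw [pow_succ, pow_succ]; group
    rw [h1]
    refine X.mul_mem ?_ ht
    have h2 := (Subgroup.mem_normalizer_iff.1 (Subgroup.inv_mem _ hx) ((x ^ n)⁻¹ * (x * t) ^ n)).1 ih
    exact h2

theorem pow_mem_iff_mod {X : Subgroup Ω} {x : Ω} (hx : x ∈ Subgroup.normalizer (X : Set Ω)) {t : Ω} (ht : t ∈ X)
    (n : ℕ) : (x * t) ^ n ∈ X ↔ x ^ n ∈ X := by
  have h1 := mul_pow_mod hx ht n
  constructor
  · intro h
    have h2 := X.mul_mem h1 (X.inv_mem h)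
    rw [mul_inv_cancel_right] at h2
    exact (X.inv_mem_iff).1 h2
  · intro h
    have h2 := X.mul_mem h h1
    rwa [mul_inv_cancel_left] at h2

theorem refine_aux [Finite S] [Fact p.Prime] (hS : IsPGroup p S) {X : Subgroup Ω} (hX : F.StronglyClosed X) :
    ∀ (k : ℕ) (x : Ω), x ∈ S → x ^ p ^ k ∈ X → F.StronglyClosed (X ⊔ Subgroup.zpowers x) →
      Relation.ReflTransGen (Step1 F p) X (X ⊔ Subgroup.zpowers x) := by
  have hn := normalizes_of_stronglyClosed hX
  have hsup : ∀ x ∈ S, ∀ y, y ∈ X ⊔ Subgroup.zpowers x ↔ ∃ i : ℤ, ∃ t ∈ X, x ^ i * t = y := by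
    intro x hx y
    rw [sup_comm, mem_sup_of_normalizes (by rw [Subgroup.zpowers_le]; exact hn hx)]
    constructor
    · rintro ⟨a, ⟨i, rfl⟩, t, ht, h⟩
      exact ⟨i, t, ht, h⟩
    · rintro ⟨i, t, ht, h⟩
      exact ⟨_, ⟨i, rfl⟩, t, ht, h⟩
  intro k
  induction k with
  | zero =>
    intro x hx h _
    rw [pow_zero, pow_one] at h
    rw [sup_eq_left.2 (by rwa [Subgroup.zpowers_le])]
  | succ k ih =>
    intro x hx h hsc
    by_cases h1 : x ^ p ^ k ∈ X
    · exact ih x hx h1 hsc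
    · have hxp : (x ^ p) ∈ S := S.pow_mem hx p
      have hX1 : F.StronglyClosed (X ⊔ Subgroup.zpowers (x ^ p)) := by
        rw [stronglyClosed_iff]
        refine ⟨sup_le ((stronglyClosed_iff F).1 hX).1 (by rwa [Subgroup.zpowers_le]), ?_⟩
        intro P f hP hf y hy
        have hy1 := hP hy
        rw [hsup _ hxp] at hy1
        obtain ⟨i, t, ht, hyt⟩ := hy1
        have hyS : y ∈ S := hf.le hy
        have hyY : y ∈ X ⊔ Subgroup.zpowers x := by
          rw [← hyt]
          refine Subgroup.mul_mem _ (Subgroup.zpow_mem _ (Subgroup.pow_mem _ (Subgroup.mem_sup_right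
            (Subgroup.mem_zpowers x)) _) _) (Subgroup.mem_sup_left ht)
        have hfy : f y ∈ X ⊔ Subgroup.zpowers x :=
          StronglyClosed.map_mem F hsc hf hy hyY
        -- y ^ p ^ k ∈ X
        have hypk : y ^ p ^ k ∈ X := by
          rw [← hyt, pow_mem_iff_mod (Subgroup.zpow_mem _ (hn hxp) i) ht, ← zpow_natCast, ← zpow_mul, mul_comm,
            zpow_mul, zpow_natCast, ← pow_mul, ← pow_succ']
          exact X.zpow_mem h i
        have hfypk : (f y) ^ p ^ k ∈ X := by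
          rw [← hf.map_pow hy]
          exact StronglyClosed.map_mem F hX hf (P.pow_mem hy _) hypk
        obtain ⟨j, t', ht', hfyt⟩ := (hsup x hx _).1 hfy
        rw [← hfyt, pow_mem_iff_mod (Subgroup.zpow_mem _ (hn hx) j) ht'] at hfypk
        -- p ∣ j
        have hpj : (p : ℤ) ∣ j := by
          by_contra hpj
          apply h1
          have hcop : IsCoprime (p : ℤ) j := by
            rw [Int.isCoprime_iff_gcd_eq_one]
            have h2 : Nat.Coprime p j.natAbs :=
              ((Fact.out : p.Prime).coprime_iff_not_dvd).2 (fun h3 => hpj (Int.natCast_dvd.2 h3))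
            exact h2
          obtain ⟨a, b, hab⟩ := hcop
          have h3 : x ^ p ^ k = (x ^ p ^ (k + 1)) ^ a * ((x ^ j) ^ p ^ k) ^ b := by
            rw [← zpow_natCast, ← zpow_natCast, ← zpow_natCast, ← zpow_mul, ← zpow_mul, ← zpow_mul, ← zpow_add]
            congr 1
            push_cast
            rw [pow_succ]
            linear_combination (-(p : ℤ) ^ k) * hab
          rw [h3]
          exact X.mul_mem (X.zpow_mem h a) (X.zpow_mem hfypk b)
        obtain ⟨l, rfl⟩ := hpj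
        rw [hsup _ hxp]
        refine ⟨l, t', ht', ?_⟩
        rw [← hfyt, zpow_mul, zpow_natCast]
      have h2 : X ⊔ Subgroup.zpowers x = (X ⊔ Subgroup.zpowers (x ^ p)) ⊔ Subgroup.zpowers x := by
        apply le_antisymm
        · exact sup_le (le_sup_left.trans le_sup_left) le_sup_right
        · refine sup_le (sup_le le_sup_left ?_) le_sup_right
          rw [Subgroup.zpowers_le]
          exact Subgroup.pow_mem _ (Subgroup.mem_sup_right (Subgroup.mem_zpowers x)) _
      refine (ih (x ^ p) hxp (by rwa [← pow_mul, ← pow_succ']) hX1).tail ?_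
      refine ⟨?_, hX1, hsc, x, hx, h2, Subgroup.mem_sup_right (Subgroup.mem_zpowers _)⟩
      rw [h2]
      exact le_sup_left

theorem Supersol.refine [Finite S] [Fact p.Prime] (hS : IsPGroup p S) (h : Supersol F) :
    Relation.ReflTransGen (Step1 F p) ⊥ S := by
  rw [supersol_iff] at h
  have key : ∀ X : Subgroup Ω, Relation.ReflTransGen (Step F) ⊥ X → F.StronglyClosed X ∧
      Relation.ReflTransGen (Step1 F p) ⊥ X := by
    intro X hX
    induction hX with
    | refl => exact ⟨stronglyClosed_bot F, Relation.ReflTransGen.refl⟩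
    | tail _ hbc ih =>
      obtain ⟨h1, h2, x, hx, rfl⟩ := hbc
      obtain ⟨k, hk⟩ := hS ⟨x, hx⟩
      refine ⟨h2, ih.2.trans (refine_aux hS ih.1 k x hx ?_ h2)⟩
      have : x ^ p ^ k = 1 := congrArg Subtype.val hk
      rw [this]
      exact Subgroup.one_mem _
  exact (key S h).2

theorem central_of_order_p {Q : Type*} [Group Q] [Fact p.Prime] (hQ : IsPGroup p Q) (x : Q) (hx : x ^ p = 1) (s : Q)
    (h : s * x * s⁻¹ ∈ Subgroup.zpowers x) : s * x * s⁻¹ = x := by
  obtain ⟨k, hk⟩ := h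
  change x ^ k = s * x * s⁻¹ at hk
  by_cases hx1 : x = 1
  · rw [hx1]; group
  have hord : orderOf x = p := orderOf_eq_prime hx hx1
  have h2 : ∀ n : ℕ, s ^ n * x * (s ^ n)⁻¹ = x ^ (k ^ n) := by
    intro n
    induction n with
    | zero => simp
    | succ n ih =>
      have h3 : s ^ (n + 1) * x * (s ^ (n + 1))⁻¹ = s * (s ^ n * x * (s ^ n)⁻¹) * s⁻¹ := by
        rw [pow_succ']; group
      rw [h3, ih, ← conj_zpow, ← hk, ← zpow_mul, pow_succ']
  obtain ⟨m, hm⟩ := hQ s
  have h3 := h2 (p ^ m)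
  rw [hm, one_mul, inv_one, mul_one] at h3
  have h4 : x ^ (k ^ p ^ m - 1) = 1 := by
    rw [zpow_sub, ← h3, zpow_one, mul_inv_cancel]
  rw [← orderOf_dvd_iff_zpow_eq_one, hord] at h4
  have h5 : ((k ^ p ^ m - 1 : ℤ) : ZMod p) = 0 := (ZMod.intCast_zmod_eq_zero_iff_dvd _ _).2 h4
  push_cast at h5
  rw [ZMod.pow_card_pow, ← Int.cast_one (R := ZMod p), ← Int.cast_sub, ZMod.intCast_zmod_eq_zero_iff_dvd] at h5
  have h6 : x ^ (k - 1) = 1 := by
    rw [← orderOf_dvd_iff_zpow_eq_one, hord]; exact h5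
  rw [← hk]
  calc x ^ k = x ^ (k - 1) * x := by rw [← zpow_add_one, sub_add_cancel]
    _ = x := by rw [h6, one_mul]

/-- `S` acts trivially on the factors of the refined chain. -/
theorem Step1.commutator_le [Finite S] [Fact p.Prime] (hS : IsPGroup p S) {X Y : Subgroup Ω} (h : Step1 F p X Y) :
    ⁅S, Y⁆ ≤ X := by
  obtain ⟨hXY, hX, hY, x, hx, rfl, hxp⟩ := h
  have hnX := normalizes_of_stronglyClosed hX
  have hnY := normalizes_of_stronglyClosed hY
  have hXS : X ≤ S := ((stronglyClosed_iff F).1 hX).1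
  haveI hN : (X.subgroupOf S).Normal := by
    refine ⟨fun a ha s => ?_⟩
    exact (Subgroup.mem_normalizer_iff.1 (hnX s.2) a).1 ha
  have hmk : ∀ y : S, (QuotientGroup.mk y : S ⧸ X.subgroupOf S) = 1 ↔ (y : Ω) ∈ X := fun y => by
    rw [QuotientGroup.eq_one_iff]; rfl
  have hQ : IsPGroup p (S ⧸ X.subgroupOf S) := hS.to_quotient _
  have key : ∀ s : S, (QuotientGroup.mk s : S ⧸ X.subgroupOf S) * QuotientGroup.mk ⟨x, hx⟩ * (QuotientGroup.mk s)⁻¹ =
      QuotientGroup.mk ⟨x, hx⟩ := by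
    intro s
    apply central_of_order_p hQ
    · rw [← QuotientGroup.mk_pow, hmk]
      exact hxp
    · have h1 : (s : Ω) * x * (s : Ω)⁻¹ ∈ X ⊔ Subgroup.zpowers x :=
        (Subgroup.mem_normalizer_iff.1 (hnY s.2) x).1 (Subgroup.mem_sup_right (Subgroup.mem_zpowers x))
      rw [sup_comm, mem_sup_of_normalizes (by rw [Subgroup.zpowers_le]; exact hnX hx)] at h1
      obtain ⟨_, ⟨k, rfl⟩, t, ht, hk⟩ := h1
      refine ⟨k, ?_⟩
      show (QuotientGroup.mk ⟨x, hx⟩ : S ⧸ X.subgroupOf S) ^ k = QuotientGroup.mk (s * ⟨x, hx⟩ * s⁻¹)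
      rw [← QuotientGroup.mk_zpow, QuotientGroup.eq, Subgroup.mem_subgroupOf]
      show (x ^ k)⁻¹ * (s * x * (s : Ω)⁻¹) ∈ X
      rw [← hk]
      show (x ^ k)⁻¹ * (x ^ k * t) ∈ X
      rw [inv_mul_cancel_left]
      exact ht
  have key2 : ∀ s : S, ∀ y : S, (y : Ω) ∈ X ⊔ Subgroup.zpowers x →
      (QuotientGroup.mk s : S ⧸ X.subgroupOf S) * QuotientGroup.mk y * (QuotientGroup.mk s)⁻¹ = QuotientGroup.mk y := by
    intro s y hy
    rw [sup_comm, mem_sup_of_normalizes (by rw [Subgroup.zpowers_le]; exact hnX hx)] at hy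
    obtain ⟨_, ⟨k, rfl⟩, t, ht, hk⟩ := hy
    have h1 : (QuotientGroup.mk y : S ⧸ X.subgroupOf S) = (QuotientGroup.mk ⟨x, hx⟩) ^ k := by
      rw [← QuotientGroup.mk_zpow]
      symm
      rw [QuotientGroup.eq, Subgroup.mem_subgroupOf]
      show (x ^ k)⁻¹ * (y : Ω) ∈ X
      rw [← hk]
      show (x ^ k)⁻¹ * (x ^ k * t) ∈ X
      rw [inv_mul_cancel_left]
      exact ht
    rw [h1, ← conj_zpow, key]
  rw [Subgroup.commutator_le]
  intro s hs y hy
  have hyS : y ∈ S := (sup_le hXS (by rwa [Subgroup.zpowers_le])) hy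
  have h1 := key2 ⟨s, hs⟩ ⟨y, hyS⟩ hy
  have h2 : (QuotientGroup.mk (⟨s, hs⟩ * ⟨y, hyS⟩ * ⟨s, hs⟩⁻¹ * ⟨y, hyS⟩⁻¹ : S) : S ⧸ X.subgroupOf S) = 1 := by
    show (QuotientGroup.mk ⟨s, hs⟩ : S ⧸ X.subgroupOf S) * QuotientGroup.mk ⟨y, hyS⟩ * (QuotientGroup.mk ⟨s, hs⟩)⁻¹ *
      (QuotientGroup.mk ⟨y, hyS⟩)⁻¹ = 1
    rw [h1, mul_inv_cancel]
  rw [hmk] at h2
  exact h2

/-- A supersoluble saturated fusion system has `S` normal. -/
theorem Supersol.isNormal [Finite S] [Fact p.Prime] (hS : IsPGroup p S) (hF : F.IsSaturated p) (h : Supersol F) :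
    F.IsNormal S := by
  obtain ⟨n, c, h0, hn, hc⟩ := rtg_chain (h.refine hS)
  exact isNormal_of_chain hS hF c n h0 hn (fun i hi => ⟨(hc i hi).2.2.1, (hc i hi).commutator_le hS⟩)

theorem aut_mem {Y : Subgroup Ω} (hY : F.StronglyClosed Y) {α : MulAut S} (hα : α ∈ F.autGroup S) {y : S}
    (hy : (y : Ω) ∈ Y) : ((α y : S) : Ω) ∈ Y := by
  have h1 := StronglyClosed.map_mem F hY (fmap_of_autGroup le_rfl hα) y.2 hy
  rwa [autFun_coe] at h1

/-- automorphisms in `Aut_F(S)` act as powers on the steps of the refined chain -/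
theorem Step1.exists_pow {X Y : Subgroup Ω} (h : Step1 F p X Y) {α : MulAut S} (hα : α ∈ F.autGroup S) :
    ∃ k : ℤ, ∀ y : S, (y : Ω) ∈ Y → (y ^ k)⁻¹ * α y ∈ X.subgroupOf S := by
  obtain ⟨hXY, hX, hY, x, hx, rfl, hxp⟩ := h
  have hnX := normalizes_of_stronglyClosed hX
  have hXS : X ≤ S := ((stronglyClosed_iff F).1 hX).1
  haveI hN : (X.subgroupOf S).Normal := by
    refine ⟨fun a ha s => ?_⟩
    exact (Subgroup.mem_normalizer_iff.1 (hnX s.2) a).1 ha
  have hdec : ∀ y : S, (y : Ω) ∈ X ⊔ Subgroup.zpowers x → ∃ i : ℤ,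
      (QuotientGroup.mk y : S ⧸ X.subgroupOf S) = (QuotientGroup.mk ⟨x, hx⟩) ^ i := by
    intro y hy
    rw [sup_comm, mem_sup_of_normalizes (by rw [Subgroup.zpowers_le]; exact hnX hx)] at hy
    obtain ⟨_, ⟨k, rfl⟩, t, ht, hk⟩ := hy
    refine ⟨k, ?_⟩
    rw [← QuotientGroup.mk_zpow]
    symm
    rw [QuotientGroup.eq, Subgroup.mem_subgroupOf]
    show (x ^ k)⁻¹ * (y : Ω) ∈ X
    rw [← hk]
    show (x ^ k)⁻¹ * (x ^ k * t) ∈ X
    rw [inv_mul_cancel_left]
    exact ht
  obtain ⟨k, hk⟩ := hdec (α ⟨x, hx⟩) (aut_mem hY hα (Subgroup.mem_sup_right (Subgroup.mem_zpowers x)))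
  refine ⟨k, fun y hy => ?_⟩
  rw [← QuotientGroup.eq, QuotientGroup.mk_zpow]
  obtain ⟨i, hi⟩ := hdec y hy
  -- y = x^i t
  have h1 : (⟨x, hx⟩ ^ i : S)⁻¹ * y ∈ X.subgroupOf S := by
    rw [← QuotientGroup.eq, QuotientGroup.mk_zpow]; exact hi.symm
  have h2 : ((α ⟨x, hx⟩) ^ i)⁻¹ * α y ∈ X.subgroupOf S := by
    rw [← map_zpow, ← map_inv, ← map_mul]
    exact aut_mem hX hα h1
  rw [← QuotientGroup.eq, QuotientGroup.mk_zpow, hk] at h2
  rw [hi, ← h2, ← zpow_mul, ← zpow_mul, mul_comm]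

/-- If a coprime automorphism of `S` acts trivially on the steps of the refined chain, it is trivial. -/
theorem eq_one_of_steps [Finite S] [Fact p.Prime] (hS : IsPGroup p S) {Y : Subgroup Ω}
    (h : Relation.ReflTransGen (Step1 F p) ⊥ Y) {γ : MulAut S} (hγ : (orderOf γ).Coprime p)
    (hs : ∀ X Y, Step1 F p X Y → ∀ y : S, (y : Ω) ∈ Y → y⁻¹ * γ y ∈ X.subgroupOf S) :
    ∀ y : S, (y : Ω) ∈ Y → γ y = y := by
  induction h with
  | refl =>
    intro y hy
    have : y = 1 := Subtype.ext (Subgroup.mem_bot.1 hy)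
    rw [this, map_one]
  | @tail X Y _ hXY ih =>
    intro y hy
    have h1 := hs X Y hXY y hy
    have h2 : γ (y⁻¹ * γ y) = y⁻¹ * γ y := ih _ h1
    set c := y⁻¹ * γ y with hc
    have h3 : γ y = y * c := by rw [hc]; group
    have h4 : ∀ n : ℕ, (γ ^ n) y = y * c ^ n := by
      intro n
      induction n with
      | zero => simp
      | succ n ih' =>
        rw [pow_succ', MulAut.mul_apply, ih', map_mul, h3, map_pow, h2, pow_succ', mul_assoc]
    have h5 := h4 (orderOf γ)
    rw [pow_orderOf_eq_one, MulAut.one_apply] at h5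
    have h6 : c ^ orderOf γ = 1 := by
      have := congrArg (fun z => y⁻¹ * z) h5
      simpa using this.symm
    have h7 : c = 1 := by
      obtain ⟨m, hm⟩ := IsPGroup.iff_orderOf.1 hS c
      have h8 := orderOf_dvd_of_pow_eq_one h6
      rw [hm] at h8
      have h9 : p ^ m = 1 := Nat.Coprime.eq_one_of_dvd (Nat.Coprime.pow_left m hγ.symm) h8
      rw [h9] at hm
      exact orderOf_eq_one_iff.1 hm
    rw [h3, h7, mul_one]

/-- the condition on subgroups of `Aut_F(S)` of order prime to `p` -/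
theorem Supersol.abelian [Finite S] [Fact p.Prime] (hS : IsPGroup p S) (h : Supersol F)
    {H : Subgroup (MulAut S)} (hHF : H ≤ F.autGroup S) (hH : (Nat.card H).Coprime p) :
    IsMulCommutative H ∧ ∀ h ∈ H, h ^ (p - 1) = 1 := by
  have hr := h.refine (p := p) hS
  have hcop : ∀ γ ∈ H, (orderOf γ).Coprime p := by
    intro γ hγ
    have h1 := orderOf_dvd_natCard (⟨γ, hγ⟩ : H)
    rw [← Subgroup.orderOf_coe] at h1
    exact Nat.Coprime.coprime_dvd_left h1 hH
  have hnorm : ∀ X : Subgroup Ω, F.StronglyClosed X → (X.subgroupOf S).Normal := by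
    intro X hX
    refine ⟨fun a ha s => ?_⟩
    exact (Subgroup.mem_normalizer_iff.1 (normalizes_of_stronglyClosed hX s.2) a).1 ha
  refine ⟨⟨⟨fun a b => ?_⟩⟩, fun α hα => ?_⟩
  · have hγ : ((a : MulAut S) * b * (a : MulAut S)⁻¹ * (b : MulAut S)⁻¹) = 1 := by
      apply MulEquiv.ext
      intro y
      refine eq_one_of_steps hS hr (hcop _ (H.mul_mem (H.mul_mem (H.mul_mem a.2 b.2) (H.inv_mem a.2)) (H.inv_mem b.2)))
        ?_ y y.2
      intro X Y hXY y hy
      haveI := hnorm X hXY.2.1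
      obtain ⟨k, hk⟩ := hXY.exists_pow (hHF a.2)
      obtain ⟨l, hl⟩ := hXY.exists_pow (hHF b.2)
      have hk' : ∀ y : S, (y : Ω) ∈ Y → (QuotientGroup.mk ((a : MulAut S) y) : S ⧸ X.subgroupOf S) =
          (QuotientGroup.mk y) ^ k := by
        intro y hy
        rw [← QuotientGroup.mk_zpow]
        exact (QuotientGroup.eq.2 (hk y hy)).symm
      have hl' : ∀ y : S, (y : Ω) ∈ Y → (QuotientGroup.mk ((b : MulAut S) y) : S ⧸ X.subgroupOf S) =
          (QuotientGroup.mk y) ^ l := by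
        intro y hy
        rw [← QuotientGroup.mk_zpow]
        exact (QuotientGroup.eq.2 (hl y hy)).symm
      have hz : ((((a : MulAut S)⁻¹ * (b : MulAut S)⁻¹) y : S) : Ω) ∈ Y :=
        aut_mem hXY.2.2.1 (hHF (H.mul_mem (H.inv_mem a.2) (H.inv_mem b.2))) hy
      set z := ((a : MulAut S)⁻¹ * (b : MulAut S)⁻¹) y with hzdef
      have hy1 : y = (b : MulAut S) ((a : MulAut S) z) := by
        rw [hzdef, ← MulAut.mul_apply, ← MulAut.mul_apply]
        have : (b : MulAut S) * (a : MulAut S) * ((a : MulAut S)⁻¹ * (b : MulAut S)⁻¹) = 1 := by group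
        rw [this]; rfl
      have hy2 : ((a : MulAut S) * b * (a : MulAut S)⁻¹ * (b : MulAut S)⁻¹) y = (a : MulAut S) ((b : MulAut S) z) := by
        rw [hzdef, ← MulAut.mul_apply, ← MulAut.mul_apply]
        congr 1
      rw [← QuotientGroup.eq, hy2, hk' _ (aut_mem hXY.2.2.1 (hHF b.2) hz), hl' z hz]
      conv_lhs => rw [hy1]
      rw [hl' _ (aut_mem hXY.2.2.1 (hHF a.2) hz), hk' z hz, ← zpow_mul, ← zpow_mul, mul_comm]
    apply Subtype.ext
    show (a : MulAut S) * b = b * a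
    have h2 : (a : MulAut S) * b * (a : MulAut S)⁻¹ * (b : MulAut S)⁻¹ * (b * a) = a * b := by group
    rw [hγ, one_mul] at h2
    exact h2.symm
  · apply MulEquiv.ext
    intro y
    refine eq_one_of_steps hS hr (hcop _ (H.pow_mem hα _)) ?_ y y.2
    intro X Y hXY y hy
    haveI := hnorm X hXY.2.1
    obtain ⟨k, hk⟩ := hXY.exists_pow (hHF hα)
    have hk' : ∀ y : S, (y : Ω) ∈ Y → (QuotientGroup.mk (α y) : S ⧸ X.subgroupOf S) =
        (QuotientGroup.mk y) ^ k := by
      intro y hy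
      rw [← QuotientGroup.mk_zpow]
      exact (QuotientGroup.eq.2 (hk y hy)).symm
    have hn : ∀ (n : ℕ) (y : S), (y : Ω) ∈ Y → (QuotientGroup.mk ((α ^ n) y) : S ⧸ X.subgroupOf S) =
        (QuotientGroup.mk y) ^ (k ^ n) := by
      intro n
      induction n with
      | zero => intro y _; simp
      | succ n ih =>
        intro y hy
        rw [pow_succ, MulAut.mul_apply, ih _ (aut_mem hXY.2.2.1 (hHF hα) hy), hk' y hy, ← zpow_mul, pow_succ']
    -- elements of Y have p-th power in X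
    have hYp : (QuotientGroup.mk y : S ⧸ X.subgroupOf S) ^ p = 1 := by
      obtain ⟨hXY1, hX, hY, x, hx, rfl, hxp⟩ := hXY
      have hy' := hy
      rw [sup_comm, mem_sup_of_normalizes (by rw [Subgroup.zpowers_le]; exact normalizes_of_stronglyClosed hX hx)] at hy'
      obtain ⟨_, ⟨i, rfl⟩, t, ht, hi⟩ := hy'
      rw [← QuotientGroup.mk_pow, QuotientGroup.eq_one_iff, Subgroup.mem_subgroupOf]
      show (y : Ω) ^ p ∈ X
      rw [← hi]
      show (x ^ i * t) ^ p ∈ X
      rw [pow_mem_iff_mod (normalizes_of_stronglyClosed hX (S.zpow_mem hx i)) ht, ← zpow_natCast, ← zpow_mul, mul_comm,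
        zpow_mul, zpow_natCast]
      exact X.zpow_mem hxp i
    rw [← QuotientGroup.eq, hn _ y hy]
    by_cases hpk : (p : ℤ) ∣ k
    · have h1 : (QuotientGroup.mk (α y) : S ⧸ X.subgroupOf S) = 1 := by
        obtain ⟨j, rfl⟩ := hpk
        rw [hk' y hy, zpow_mul, zpow_natCast, hYp, one_zpow]
      rw [QuotientGroup.eq_one_iff, Subgroup.mem_subgroupOf] at h1
      have h2 : (((α⁻¹ : MulAut S) (α y) : S) : Ω) ∈ X := aut_mem hXY.2.1 (hHF (H.inv_mem hα)) h1
      rw [MulAut.inv_apply_self] at h2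
      have h3 : (QuotientGroup.mk y : S ⧸ X.subgroupOf S) = 1 := by
        rw [QuotientGroup.eq_one_iff, Subgroup.mem_subgroupOf]; exact h2
      rw [h3, one_zpow]
    · have h1 : ((k ^ (p - 1) - 1 : ℤ) : ZMod p) = 0 := by
        push_cast
        rw [ZMod.pow_card_sub_one_eq_one, sub_self]
        intro h2
        exact hpk ((ZMod.intCast_zmod_eq_zero_iff_dvd _ _).1 h2)
      rw [ZMod.intCast_zmod_eq_zero_iff_dvd] at h1
      obtain ⟨j, hj⟩ := h1
      have h2 : k ^ (p - 1) = p * j + 1 := by linarith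
      rw [h2, zpow_add, zpow_mul, zpow_natCast, hYp, one_zpow, one_mul, zpow_one]

/-! ### the fusion system of `S ⋊ H` -/

theorem exists_semi [Finite S] [Fact p.Prime] (hS : IsPGroup p S) (H : Subgroup (MulAut S))
    (hH : (Nat.card H).Coprime p) : ∃ E : FusionSystem S, E.IsSaturated p ∧ H ≤ E.autGroup S ∧
      ∀ (P : Subgroup Ω) (f : Ω → Ω), FMap E P f ↔ P ≤ S ∧ ∃ β ∈ H, ∃ g ∈ S, ∀ x ∈ P, f x = g * autFun β x * g⁻¹ := by
  classical
  let φ : H →* MulAut S := H.subtype
  let G := S ⋊[φ] H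
  have hHfin : Finite H := inferInstance
  have hGfin : Finite G := Finite.of_equiv (S × H) (SemidirectProduct.equivProd (φ := φ)).symm
  let ι : S →* G := SemidirectProduct.inl
  have hι : Function.Injective ι := SemidirectProduct.inl_injective
  have hιp : IsPGroup p ι.range := hS.of_surjective ι.rangeRestrict ι.rangeRestrict_surjective
  have hidx : ¬ p ∣ ι.range.index := by
    have h1 : ι.range = (SemidirectProduct.rightHom : G →* H).ker := SemidirectProduct.range_inl_eq_ker_rightHom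
    rw [h1, Subgroup.index_ker, MonoidHom.range_eq_top.2 SemidirectProduct.rightHom_surjective, Subgroup.card_top]
    show ¬ p ∣ Nat.card H
    intro h
    have h2 := Nat.dvd_gcd h (dvd_refl p)
    rw [Nat.Coprime.gcd_eq_one hH] at h2
    exact (Fact.out : p.Prime).one_lt.ne' (Nat.dvd_one.1 h2)
  have hsat : (FusionSemi.pull ι hι).IsSaturated p :=
    FusionGroup.isSaturated_of_isRealizedBy ι (FusionSemi.pull_isRealizedBy ι hι) (hιp.toSylow hidx) rfl
  have hconj : ∀ (g : G) (x : S), g * ι x * g⁻¹ = ι (g.left * (g.right : MulAut S) x * g.left⁻¹) := by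
    intro g x
    have h1 : g = ι g.left * SemidirectProduct.inr g.right := (SemidirectProduct.inl_left_mul_inr_right g).symm
    have h2 : ι ((g.right : MulAut S) x) = SemidirectProduct.inr g.right * ι x * SemidirectProduct.inr g.right⁻¹ :=
      SemidirectProduct.inl_aut (φ := φ) g.right x
    rw [map_mul, map_mul, h2, map_inv, map_inv]
    exact FusionSemi.conj_aux h1
  have key : ∀ (P : Subgroup Ω) (f : Ω → Ω), FMap (FusionSemi.pull ι hι) P f ↔
      P ≤ S ∧ ∃ β ∈ H, ∃ g ∈ S, ∀ x ∈ P, f x = g * autFun β x * g⁻¹ := by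
    intro P f
    rw [FusionSemi.fmap_pull_iff]
    constructor
    · rintro ⟨hP, hf, g, hg⟩
      refine ⟨hP, g.right, g.right.2, g.left, g.left.2, fun x hx => ?_⟩
      have h1 := hg x hx
      rw [hconj] at h1
      have h2 := congrArg Subtype.val (hι h1)
      rw [autFun_of_mem _ (hP hx)]
      exact h2
    · rintro ⟨hP, β, hβ, g, hg, h⟩
      have hf : ∀ x ∈ P, f x ∈ S := fun x hx => by
        rw [h x hx]
        exact S.mul_mem (S.mul_mem hg (FusionTools.autFun_mem β (hP hx))) (S.inv_mem hg)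
      refine ⟨hP, hf, ⟨⟨g, hg⟩, ⟨β, hβ⟩⟩, fun x hx => ?_⟩
      rw [hconj]
      congr 1
      apply Subtype.ext
      show f x = g * (β ⟨x, hP hx⟩ : S) * g⁻¹
      rw [h x hx, autFun_of_mem β (hP hx)]
  refine ⟨FusionSemi.pull ι hι, hsat, ?_, key⟩
  intro β hβ
  rw [← FMap_autFun_iff le_rfl, key]
  exact ⟨le_rfl, β, hβ, 1, S.one_mem, fun x _ => by group⟩

end Cfsg.Agent.Lib.FusionSupersol
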