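import Cfsg.Agent.Lib.FusionFocal
import Mathlib

/-! Thompson transfer for saturated fusion systems (parity of the biset transfer at an involution). -/

set_option autoImplicit false

namespace Cfsg.Agent.Lib.FusionThompson

open Cfsg Cfsg.FusionSystem
open Cfsg.Agent.Lib.FusionBasic Cfsg.Agent.Lib.FusionSat Cfsg.Agent.Lib.Marks Cfsg.Agent.Lib.MarksStable
open Cfsg.Agent.Lib.FusionBiset Cfsg.Agent.Lib.BisetTransfer Cfsg.Agent.Lib.FusionTransfer Cfsg.Agent.Lib.FusionFocal
open Equiv (Perm)

/-- class counting -/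
theorem dvd_card_mul {S : Type*} [Group S] [Finite S] (B : Set S) (hB : ∀ s b, b ∈ B → s * b * s⁻¹ ∈ B) (c₀ : ℕ)
    (h : ∀ b ∈ B, 2 * Nat.card {s : S // s * b * s⁻¹ = b} ∣ c₀) : 2 * Nat.card S ∣ Nat.card B * c₀ := by
  classical
  let inst : MulAction S B :=
    { smul := fun s b => ⟨s * b * s⁻¹, hB s b b.2⟩
      one_smul := fun b => Subtype.ext (by show (1 : S) * b * 1⁻¹ = b; simp)
      mul_smul := fun s t b => Subtype.ext (by show (s * t) * (b : S) * (s * t)⁻¹ = s * (t * b * t⁻¹) * s⁻¹; group) }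
  have hsm : ∀ (s : S) (b : B), ((s • b : B) : S) = s * b * s⁻¹ := fun s b => rfl
  have : Fintype (Quotient (MulAction.orbitRel S B)) := Fintype.ofFinite _
  have h1 : Nat.card B = ∑ ω : Quotient (MulAction.orbitRel S B), Nat.card (MulAction.orbit S ω.out) := by
    rw [Nat.card_congr (MulAction.selfEquivSigmaOrbits S B), Nat.card_sigma]
  rw [h1, Finset.sum_mul]
  refine Finset.dvd_sum fun ω _ => ?_
  obtain ⟨b, hb⟩ : ∃ b : B, b = ω.out := ⟨_, rfl⟩
  rw [← hb]
  have h2 : Nat.card (MulAction.orbit S b) * Nat.card (MulAction.stabilizer S b) = Nat.card S := by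
    rw [Nat.card_congr (MulAction.orbitEquivQuotientStabilizer S b), mul_comm]
    exact (Subgroup.card_mul_index (MulAction.stabilizer S b))
  have h3 : Nat.card (MulAction.stabilizer S b) = Nat.card {s : S // s * b * s⁻¹ = (b : S)} := by
    refine Nat.card_congr (Equiv.subtypeEquivRight fun s => ?_)
    rw [MulAction.mem_stabilizer_iff, Subtype.ext_iff, hsm]
  obtain ⟨t, ht⟩ := h b b.2
  rw [← h3] at ht
  rw [ht]
  exact ⟨t, by rw [← h2]; ring⟩

section Abstract

variable {P S X : Type*} [Group P] [Group S] {a : P × S →* Perm X}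

/-- points fixed by `(u, b)` with `b` in the kernel -/
def Good (a : P × S →* Perm X) (φ : S →* ℤˣ) (u : P) (x : X) : Prop := ∃ b, φ b = 1 ∧ a (u, b) x = x

theorem good_iff {φ : S →* ℤˣ} {u : P} {x : X} (s : S) : Good a φ u (a (1, s) x) ↔ Good a φ u x := by
  have key : ∀ (s : S) (x : X), Good a φ u x → Good a φ u (a (1, s) x) := by
    rintro s x ⟨b, hb, h⟩
    refine ⟨s * b * s⁻¹, by rw [map_mul, map_mul, hb, map_inv, mul_one, mul_inv_cancel], ?_⟩
    rw [← Perm.mul_apply, ← map_mul]
    have h1 : ((u, s * b * s⁻¹) * (1, s) : P × S) = (1, s) * (u, b) := by simp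
    rw [h1, map_mul, Perm.mul_apply, h]
  constructor
  · intro h
    have h1 := key s⁻¹ _ h
    rw [← Perm.mul_apply, ← map_mul] at h1
    have h2 : ((1, s⁻¹) * (1, s) : P × S) = 1 := by simp
    rwa [h2, map_one, Perm.one_apply] at h1
  · exact key s x

theorem card_good [Finite X] [Finite S] (ha : RFree a) (φ : S →* ℤˣ) (u : P) :
    Nat.card {x // Good a φ u x} = Nat.card {ω : Quotient (rel a) // Good a φ u ω.out} * Nat.card S := by
  rw [← Nat.card_prod]
  refine Nat.card_congr (Equiv.symm (Equiv.ofBijective (fun q : {ω : Quotient (rel a) // Good a φ u ω.out} × S =>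
    (⟨a (1, q.2) q.1.1.out, (good_iff q.2).2 q.1.2⟩ : {x // Good a φ u x})) ⟨?_, ?_⟩))
  · rintro ⟨⟨ω, hω⟩, s⟩ ⟨⟨ω', hω'⟩, s'⟩ h
    have h := congrArg Subtype.val h
    dsimp only at h
    have h1 : ω = ω' := by
      rw [← Quotient.out_eq ω, ← Quotient.out_eq ω']
      refine Quotient.sound ?_
      have h2 : (rel a).r ω.out (a (1, s) ω.out) := ⟨s, rfl⟩
      have h3 : (rel a).r ω'.out (a (1, s) ω.out) := ⟨s', h.symm⟩
      exact (rel a).trans h2 ((rel a).symm h3)
    subst h1
    rw [ha.eq h]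
  · rintro ⟨x, hx⟩
    obtain ⟨s, hs⟩ := Quotient.mk_out (s := rel a) x
    refine ⟨(⟨Quotient.mk (rel a) x, ?_⟩, s), Subtype.ext hs⟩
    rw [← good_iff s, hs]; exact hx

/-- parity of the transfer at an involution -/
theorem tr_eq_neg_one [Finite X] [Finite S] (ha : RFree a) (φ : S →* ℤˣ) {u : P} (hu : u * u = 1)
    (hodd : Odd (Nat.card (Quotient (rel a)))) (heven : 2 * Nat.card S ∣ Nat.card {x // Good a φ u x}) :
    tr a ha φ u = -1 := by
  classical
  obtain ⟨c, hc⟩ := exists_pot ha φ
  rw [tr_eq ha hc]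
  have hfin : Finite (Quotient (rel a)) := inferInstance
  have hF := Fintype.ofFinite (Quotient (rel a))
  unfold T
  rw [finprod_eq_prod_of_fintype]
  -- the involution
  have hinv : ∀ ω : Quotient (rel a), act a u (act a u ω) = ω := by
    intro ω
    rw [← Quotient.out_eq ω, act_mk, act_mk, ← Perm.mul_apply, ← map_mul]
    have h1 : ((u, 1) * (u, 1) : P × S) = 1 := by simp [hu]
    rw [h1, map_one, Perm.one_apply]
  have hval : ∀ ω : Quotient (rel a), val a c u ω.out * val a c u (act a u ω).out = 1 := by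
    intro ω
    rw [← val_out_act hc]
    unfold val
    rw [← Perm.mul_apply, ← map_mul]
    have h1 : ((u, 1) * (u, 1) : P × S) = 1 := by simp [hu]
    rw [h1, map_one, Perm.one_apply, div_mul_div_cancel, div_self']
  rw [← Finset.prod_filter_mul_prod_filter_not Finset.univ (fun ω : Quotient (rel a) => act a u ω = ω)]
  have h2 : ∏ ω ∈ Finset.univ.filter (fun ω : Quotient (rel a) => ¬ act a u ω = ω), val a c u ω.out = 1 := by
    refine Finset.prod_involution (fun ω _ => act a u ω) ?_ ?_ ?_ ?_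
    · intro ω _; exact hval ω
    · intro ω hω _
      exact (Finset.mem_filter.1 hω).2
    · intro ω hω
      refine Finset.mem_filter.2 ⟨Finset.mem_univ _, ?_⟩
      rw [hinv]
      exact fun h => (Finset.mem_filter.1 hω).2 h.symm
    · intro ω _; exact hinv ω
  rw [h2, mul_one]
  -- fixed classes
  have hfix : ∀ ω : Quotient (rel a), act a u ω = ω → ∃ b, a (u, b) ω.out = ω.out ∧ val a c u ω.out = φ b := by
    intro ω hω
    have h3 : Quotient.mk (rel a) (a (u, 1) ω.out) = Quotient.mk (rel a) ω.out := by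
      rw [← act_mk, Quotient.out_eq]; exact hω
    obtain ⟨s, hs⟩ := Quotient.exact h3
    have h4 : a (u, s) ω.out = ω.out := by
      rw [← Perm.mul_apply, ← map_mul] at hs
      simpa using hs
    refine ⟨s, h4, ?_⟩
    unfold val
    have h5 := hc s (a (u, 1) ω.out)
    rw [hs] at h5
    rw [h5]
    exact mul_div_cancel_right _ _
  have hgoodfix : ∀ ω : Quotient (rel a), Good a φ u ω.out → act a u ω = ω := by
    rintro ω ⟨b, -, hb⟩
    rw [← Quotient.out_eq ω, act_mk]
    have hb2 : a (1, b) (a (u, 1) ω.out) = ω.out := by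
      rw [← Perm.mul_apply, ← map_mul]
      simpa using hb
    exact Quotient.sound ⟨b, hb2⟩
  have hw : ∀ ω ∈ Finset.univ.filter (fun ω : Quotient (rel a) => act a u ω = ω), val a c u ω.out =
      if Good a φ u ω.out then 1 else -1 := by
    intro ω hω
    obtain ⟨b, hb, hv⟩ := hfix ω (Finset.mem_filter.1 hω).2
    rw [hv]
    split_ifs with hg
    · obtain ⟨b', hb', hb''⟩ := hg
      have h3 : b = b' := by
        have h4 : a (1, b) (a (u, 1) ω.out) = a (1, b') (a (u, 1) ω.out) := by
          rw [← Perm.mul_apply, ← Perm.mul_apply, ← map_mul, ← map_mul]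
          simp only [Prod.mk_mul_mk, one_mul, mul_one]
          rw [hb, hb'']
        exact ha.eq h4
      rw [h3, hb']
    · rcases Int.units_eq_one_or (φ b) with h3 | h3
      · exact absurd ⟨b, h3, hb⟩ hg
      · exact h3
  rw [Finset.prod_congr rfl hw, Finset.prod_ite, Finset.prod_const_one, one_mul, Finset.prod_const]
  apply Odd.neg_one_pow
  -- parity
  have h5 : (Finset.univ.filter (fun ω : Quotient (rel a) => act a u ω = ω)).card =
      ((Finset.univ.filter (fun ω : Quotient (rel a) => act a u ω = ω)).filter (fun ω => Good a φ u ω.out)).card +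
      ((Finset.univ.filter (fun ω : Quotient (rel a) => act a u ω = ω)).filter (fun ω => ¬ Good a φ u ω.out)).card :=
    (Finset.card_filter_add_card_filter_not _).symm
  have h6 : Odd (Finset.univ.filter (fun ω : Quotient (rel a) => act a u ω = ω)).card := by
    let f : Function.End (Quotient (rel a)) := fun ω => act a u ω
    have h7 : f ^ (2 ^ 1) = 1 := by
      rw [pow_one, pow_two]
      funext ω
      exact hinv ω
    have : Fact (Nat.Prime 2) := ⟨Nat.prime_two⟩
    have h8 := Equiv.Perm.card_fixedPoints_modEq (p := 2) (n := 1) h7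
    have h9 : Fintype.card (Function.fixedPoints f) =
        (Finset.univ.filter (fun ω : Quotient (rel a) => act a u ω = ω)).card := by
      rw [Fintype.card_subtype]
      rfl
    rw [h9] at h8
    rw [Nat.card_eq_fintype_card] at hodd
    rw [Nat.odd_iff] at hodd ⊢
    rw [← hodd]
    exact h8.symm
  have h7 : Even ((Finset.univ.filter (fun ω : Quotient (rel a) => act a u ω = ω)).filter (fun ω => Good a φ u ω.out)).card := by
    have h8 : ((Finset.univ.filter (fun ω : Quotient (rel a) => act a u ω = ω)).filter (fun ω => Good a φ u ω.out)).card =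
        Nat.card {ω : Quotient (rel a) // Good a φ u ω.out} := by
      rw [Nat.card_eq_fintype_card, Fintype.card_subtype]
      congr 1
      ext ω
      simp only [Finset.mem_filter, Finset.mem_univ, true_and]
      exact ⟨fun h => h.2, fun h => ⟨hgoodfix ω h, h⟩⟩
    rw [h8]
    rw [card_good ha] at heven
    have hpos : 0 < Nat.card S := Nat.card_pos
    exact even_iff_two_dvd.2 (Nat.dvd_of_mul_dvd_mul_right hpos heven)
  rw [h5] at h6
  rcases Nat.even_or_odd ((Finset.univ.filter (fun ω : Quotient (rel a) => act a u ω = ω)).filter (fun ω => ¬ Good a φ u ω.out)).card with h | h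
  · exact absurd (h7.add h) (Nat.not_even_iff_odd.2 h6)
  · exact h

end Abstract

/-! ### Fusion systems -/

variable {Ω : Type*} [Group Ω] {S : Subgroup Ω} {F : FusionSystem S} {P Q R : Subgroup Ω} {f g : Ω → Ω} {p : ℕ}

/-- centralizer of an element -/
def Cs {G : Type*} [Group G] (b : G) : Subgroup G where
  carrier := {s | s * b * s⁻¹ = b}
  one_mem' := by simp
  mul_mem' := by
    rintro s t (hs : s * b * s⁻¹ = b) (ht : t * b * t⁻¹ = b)
    show (s * t) * b * (s * t)⁻¹ = b
    have : (s * t) * b * (s * t)⁻¹ = s * (t * b * t⁻¹) * s⁻¹ := by group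
    rw [this, ht, hs]
  inv_mem' := by
    rintro s (hs : s * b * s⁻¹ = b)
    show s⁻¹ * b * s⁻¹⁻¹ = b
    conv_lhs => rw [← hs]
    group

theorem mem_Cs {G : Type*} [Group G] {b s : G} : s ∈ Cs b ↔ s * b * s⁻¹ = b := Iff.rfl

/-- the graph of a conjugation of cyclic subgroups -/
theorem isGr_zpowers {i : S} {f : Ω → Ω} (hf : FMap F (Subgroup.zpowers (i : Ω)) f) {b : S} (hb : f i = b) :
    IsGr F (Subgroup.zpowers ((i, b) : S × S)) (Subgroup.zpowers (i : Ω)) f := by
  refine ⟨hf, fun x => ?_⟩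
  constructor
  · rintro ⟨n, rfl⟩
    refine ⟨⟨n, rfl⟩, ?_⟩
    show f ((i : Ω) ^ n) = (b : Ω) ^ n
    rw [hf.map_zpow (Subgroup.mem_zpowers _), hb]
  · rintro ⟨⟨n, hn⟩, h2⟩
    refine ⟨n, ?_⟩
    have hn' : (i : Ω) ^ n = x.1 := hn
    apply Prod.ext
    · exact Subtype.ext hn'
    · apply Subtype.ext
      show (b : Ω) ^ n = x.2
      rw [← h2, ← hn', hf.map_zpow (Subgroup.mem_zpowers _), hb]

theorem card_fix_eq [Finite S] {c : Subgroup (S × S) → ℕ} (hc : IsChar F c) {i b b' : S} (hb : F.IsConjElt (i : Ω) b)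
    (hb' : F.IsConjElt (i : Ω) b') : Nat.card {x : XX c // rep c (i, b) x = x} = Nat.card {x : XX c // rep c (i, b') x = x} := by
  have h1 : ∀ b : S, Nat.card {x : XX c // rep c (i, b) x = x} = mk (rep c) (Subgroup.zpowers ((i, b) : S × S)) := by
    intro b
    unfold Marks.mk
    refine Nat.card_congr (Equiv.subtypeEquivRight fun x => ?_)
    rw [Subgroup.zpowers_le, mem_stab]
  rw [h1, h1]
  obtain ⟨f, hf, hfb⟩ := (isConjElt_iff F).1 hb
  obtain ⟨f', hf', hfb'⟩ := (isConjElt_iff F).1 hb'
  have hg := isGr_zpowers hf hfb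
  have hg' := isGr_zpowers hf' hfb'
  refine hc.stable _ ⟨_, _, hg⟩ _ ⟨_, _, hg'⟩ ?_
  unfold cls
  rw [hg.dom_eq, hg'.dom_eq]

theorem card_Cs_dvd [Finite S] {c : Subgroup (S × S) → ℕ} (hc : IsChar F c) (i b : S) :
    Nat.card (Cs b) ∣ Nat.card {x : XX c // rep c (i, b) x = x} := by
  let a : Cs b →* Perm (XX c) := (rep c).comp ((MonoidHom.inr S S).comp (Cs b).subtype)
  have ha : ∀ (s : Cs b) x, a s x = rep c (1, (s : S)) x := fun s x => rfl
  have hq : ∀ (s : Cs b) x, rep c (i, b) x = x → rep c (i, b) (a s x) = a s x := by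
    intro s x hx
    rw [ha, ← Perm.mul_apply, ← map_mul]
    have hs := mem_Cs.1 s.2
    rw [mul_inv_eq_iff_eq_mul] at hs
    have h1 : ((i, b) * (1, (s : S)) : S × S) = (1, (s : S)) * (i, b) := by
      simp [hs]
    rw [h1, map_mul, Perm.mul_apply, hx]
  have h2 := index_dvd_card (restr a (fun x => rep c (i, b) x = x) hq) (⊥ : Subgroup (Cs b)) (by
    intro x
    rw [eq_bot_iff]
    intro s hs
    rw [stab_restr, mem_stab, ha] at hs
    rw [Subgroup.mem_bot]
    exact Subtype.ext (hc.rfree _ _ hs))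
  rwa [Subgroup.index_bot] at h2

theorem card_good_eq [Finite S] {c : Subgroup (S × S) → ℕ} (hc : IsChar F c) (φ : S →* ℤˣ) (i : S) :
    Nat.card {x : XX c // Good (rep c) φ i x} =
      Nat.card {b : S | φ b = 1 ∧ F.IsConjElt (i : Ω) b} * Nat.card {x : XX c // rep c (i, i) x = x} := by
  classical
  by_cases hi : (i : Ω) ∈ S
  swap
  · exact absurd i.2 hi
  have h1 : Nat.card {x : XX c // Good (rep c) φ i x} =
      Nat.card (Σ b : {b : S | φ b = 1 ∧ F.IsConjElt (i : Ω) b}, {x : XX c // rep c (i, (b : S)) x = x}) := by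
    refine Nat.card_congr (Equiv.symm (Equiv.ofBijective (fun q => ⟨q.2.1, q.1.1, q.1.2.1, q.2.2⟩) ⟨?_, ?_⟩))
    · rintro ⟨⟨b, hb⟩, ⟨x, hx⟩⟩ ⟨⟨b', hb'⟩, ⟨x', hx'⟩⟩ h
      have h2 : x = x' := congrArg Subtype.val h
      subst h2
      have h3 : b = b' := by
        have h4 : rep c (1, b) (rep c (i, 1) x) = rep c (1, b') (rep c (i, 1) x) := by
          rw [← Perm.mul_apply, ← Perm.mul_apply, ← map_mul, ← map_mul]
          simp only [Prod.mk_mul_mk, one_mul, mul_one]
          exact hx.trans hx'.symm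
        exact hc.rfree.eq h4
      subst h3
      rfl
    · rintro ⟨x, b, hb, hx⟩
      obtain ⟨f, hf, hfb⟩ := hc.exists_map hx
      exact ⟨⟨⟨b, hb, (isConjElt_iff F).2 ⟨f, hf, hfb⟩⟩, ⟨x, hx⟩⟩, rfl⟩
  have hself : F.IsConjElt (i : Ω) i := (isConjElt_iff F).2 ⟨fun x => x, fmap_id F (by simpa using i.2), rfl⟩
  have : Fintype {b : S | φ b = 1 ∧ F.IsConjElt (i : Ω) b} := Fintype.ofFinite _
  rw [h1, Nat.card_sigma, Finset.sum_congr rfl (fun b _ => card_fix_eq hc b.2.2 hself), Finset.sum_const,
    Nat.card_eq_fintype_card (α := {b : S | φ b = 1 ∧ F.IsConjElt (i : Ω) b})]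
  rfl

theorem card_normalizerIn_zpowers {b : S} (hb : b * b = 1) (hb1 : b ≠ 1) :
    Nat.card (normalizerIn S (Subgroup.zpowers (b : Ω))) = Nat.card (Cs b) := by
  have hb1' : (b : Ω) ≠ 1 := fun h => hb1 (Subtype.ext h)
  have hbb : (b : Ω) * b = 1 := congrArg Subtype.val hb
  have hz : ∀ y : Ω, y ∈ Subgroup.zpowers (b : Ω) → y = 1 ∨ y = b := by
    intro y hy
    obtain ⟨n, rfl⟩ := Subgroup.mem_zpowers_iff.1 hy
    have h2 : (b : Ω) ^ (2 : ℤ) = 1 := by rw [zpow_two]; exact hbb
    rcases Int.even_or_odd' n with ⟨k, rfl | rfl⟩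
    · left; rw [zpow_mul, h2, one_zpow]
    · right; rw [zpow_add, zpow_mul, h2, one_zpow, one_mul, zpow_one]
  have hiff : ∀ s : S, (s : Ω) ∈ normalizerIn S (Subgroup.zpowers (b : Ω)) ↔ s ∈ Cs b := by
    intro s
    rw [mem_normalizerIn, mem_Cs, Subgroup.mem_normalizer_iff]
    constructor
    · rintro ⟨-, h⟩
      have h1 := (h b).1 (Subgroup.mem_zpowers _)
      rcases hz _ h1 with h2 | h2
      · exfalso
        rw [mul_inv_eq_one] at h2
        exact hb1' (mul_left_cancel (by rw [h2, mul_one]))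
      · exact Subtype.ext h2
    · intro h
      have h0 : (s : Ω) * b * (s : Ω)⁻¹ = b := congrArg Subtype.val h
      refine ⟨s.2, fun y => ?_⟩
      constructor
      · intro hy
        rcases hz y hy with rfl | rfl
        · simp
        · rw [h0]; exact Subgroup.mem_zpowers _
      · intro hy
        rcases hz _ hy with h1 | h1
        · have : y = 1 := by
            have h2 : y = (s : Ω)⁻¹ * (s * y * (s : Ω)⁻¹) * s := by group
            rw [h2, h1]; simp
          rw [this]; exact Subgroup.one_mem _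
        · have : y = b := by
            have h2 : y = (s : Ω)⁻¹ * (s * y * (s : Ω)⁻¹) * s := by group
            rw [h2, h1]
            have h3 : (b : Ω) = (s : Ω)⁻¹ * (s * b * (s : Ω)⁻¹) * s := by group
            rw [h0] at h3
            exact h3.symm
          rw [this]; exact Subgroup.mem_zpowers _
  refine Nat.card_congr
    { toFun := fun x => ⟨⟨x, (mem_normalizerIn.1 x.2).1⟩, (hiff ⟨x, (mem_normalizerIn.1 x.2).1⟩).1 x.2⟩
      invFun := fun x => ⟨(x : S), (hiff x).2 x.2⟩
      left_inv := fun x => rfl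
      right_inv := fun x => rfl }

theorem not_mem_focal [Finite S] (hS : IsPGroup 2 S) (hF : F.IsSaturated 2) (φ : S →* ℤˣ) {i : S} (hi : i * i = 1)
    (hi1 : i ≠ 1) (h : ∀ j : S, F.IsConjElt (i : Ω) j → F.IsFullyNormalized (Subgroup.zpowers (j : Ω)) → φ j = -1) :
    (i : Ω) ∉ F.focalSubgroup := by
  classical
  have : Fact (Nat.Prime 2) := ⟨Nat.prime_two⟩
  obtain ⟨c, hc, m, hm, hodd⟩ := exists_isChar hS hF
  intro hfoc
  have h1 := ftr_kills hc φ hfoc
  have h2 : ftr hc φ i = -1 := by
    refine tr_eq_neg_one hc.rfree φ hi ?_ ?_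
    · rw [card_eq_mul hc.rfree] at hm
      have := Nat.eq_of_mul_eq_mul_right Nat.card_pos hm
      rw [this, ← Nat.not_even_iff_odd, even_iff_two_dvd]
      exact hodd
    · rw [card_good_eq hc]
      -- facts about conjugates
      have hconj : ∀ b : S, F.IsConjElt (i : Ω) b → b * b = 1 ∧ b ≠ 1 := by
        intro b hb
        obtain ⟨f, hf, hfb⟩ := (isConjElt_iff F).1 hb
        have him := Subgroup.mem_zpowers (i : Ω)
        constructor
        · apply Subtype.ext
          show (b : Ω) * b = 1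
          rw [← hfb, ← hf.map_mul him him]
          have : (i : Ω) * i = 1 := congrArg Subtype.val hi
          rw [this, hf.map_one]
        · intro hb1
          rw [hb1] at hfb
          exact hi1 (Subtype.ext (hf.eq_one him hfb))
      have hself : F.IsConjElt (i : Ω) i := (isConjElt_iff F).2 ⟨fun x => x, fmap_id F (by simpa using i.2), rfl⟩
      refine dvd_card_mul _ ?_ _ ?_
      · rintro s b ⟨hb1, hb2⟩
        refine ⟨by rw [map_mul, map_mul, hb1, map_inv, mul_one, mul_inv_cancel], ?_⟩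
        obtain ⟨f, hf, hfb⟩ := (isConjElt_iff F).1 hb2
        refine (isConjElt_iff F).2 ⟨fun x => (s : Ω) * f x * (s : Ω)⁻¹, ?_, ?_⟩
        · exact hf.comp (fmap_conj F le_rfl s.2) (fun x hx => hf.map_mem hx)
        · show (s : Ω) * f i * (s : Ω)⁻¹ = _
          rw [hfb]; rfl
      · rintro b ⟨hb1, hb2⟩
        obtain ⟨hbb, hbne⟩ := hconj b hb2
        -- fully normalized conjugate
        obtain ⟨Q, f, hQ, hf, -, -⟩ := exists_fullyNormalized_map hS hF (P := Subgroup.zpowers (i : Ω)) (by simpa using i.2)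
        have hQz : Q = Subgroup.zpowers (f i) := by
          ext y
          rw [hf.2 y, Subgroup.mem_zpowers_iff]
          constructor
          · rintro ⟨x, hx, rfl⟩
            obtain ⟨n, rfl⟩ := Subgroup.mem_zpowers_iff.1 hx
            exact ⟨n, (hf.1.map_zpow (Subgroup.mem_zpowers _) n).symm⟩
          · rintro ⟨n, rfl⟩
            exact ⟨(i : Ω) ^ n, ⟨n, rfl⟩, hf.1.map_zpow (Subgroup.mem_zpowers _) n⟩
        obtain ⟨j, hj⟩ : ∃ j : S, j = ⟨f i, hf.1.map_mem (Subgroup.mem_zpowers _)⟩ := ⟨_, rfl⟩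
        have hjc : F.IsConjElt (i : Ω) j := (isConjElt_iff F).2 ⟨f, hf.1, by rw [hj]⟩
        obtain ⟨hjj, hjne⟩ := hconj j hjc
        have hQj : Q = Subgroup.zpowers (j : Ω) := by rw [hQz, hj]
        rw [hQj] at hQ hf
        -- b is not fully normalized
        have hnb : ¬ F.IsFullyNormalized (Subgroup.zpowers (b : Ω)) := by
          intro hb3
          have h3 := h b hb2 hb3
          rw [hb1] at h3
          exact absurd h3 (by decide)
        obtain ⟨fb, hfb, hfbb⟩ := (isConjElt_iff F).1 hb2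
        have hib : F.IsConj (Subgroup.zpowers (i : Ω)) (Subgroup.zpowers (b : Ω)) := by
          refine isConj_iff_fiso.2 ⟨fb, hfb, fun y => ?_⟩
          rw [Subgroup.mem_zpowers_iff]
          constructor
          · rintro ⟨n, rfl⟩
            exact ⟨(i : Ω) ^ n, ⟨n, rfl⟩, by rw [hfb.map_zpow (Subgroup.mem_zpowers _), hfbb]⟩
          · rintro ⟨x, hx, rfl⟩
            obtain ⟨n, rfl⟩ := Subgroup.mem_zpowers_iff.1 hx
            exact ⟨n, by rw [hfb.map_zpow (Subgroup.mem_zpowers _), hfbb]⟩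
        have hjb : F.IsConj (Subgroup.zpowers (j : Ω)) (Subgroup.zpowers (b : Ω)) := isConj_trans (isConj_symm hf.isConj) hib
        have hlt : Nat.card (normalizerIn S (Subgroup.zpowers (b : Ω))) < Nat.card (normalizerIn S (Subgroup.zpowers (j : Ω))) := by
          by_contra hge
          push Not at hge
          apply hnb
          refine ⟨by simpa using b.2, fun R hR => ?_⟩
          exact (hQ.2 R (isConj_trans hjb hR)).trans hge
        rw [card_normalizerIn_zpowers hbb hbne, card_normalizerIn_zpowers hjj hjne] at hlt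
        obtain ⟨n1, hn1⟩ := IsPGroup.iff_card.1 (hS.to_subgroup (Cs b))
        obtain ⟨n2, hn2⟩ := IsPGroup.iff_card.1 (hS.to_subgroup (Cs j))
        have h3 : 2 * Nat.card {s : S // s * b * s⁻¹ = b} ∣ Nat.card (Cs j) := by
          have h4 : Nat.card {s : S // s * b * s⁻¹ = b} = Nat.card (Cs b) := rfl
          rw [h4, hn1, hn2, ← pow_succ']
          apply pow_dvd_pow
          rw [hn1, hn2] at hlt
          exact (Nat.pow_lt_pow_iff_right (by norm_num)).1 hlt
        refine h3.trans ?_
        rw [card_fix_eq hc hself hjc]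
        exact card_Cs_dvd hc i j
  rw [h2] at h1
  exact absurd h1 (by decide)

end Cfsg.Agent.Lib.FusionThompson
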