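import Cfsg.Agent.Lib.WreathCocycle
import Cfsg.Agent.Lib.FusionTate
import Cfsg.Agent.Lib.H70Frattini
import Cfsg.Agent.Lib.FusionInvar
import Cfsg.Agent.Lib.FusionNormSat

/-! Yoshida's theorem for fusion systems (helper87). -/

set_option autoImplicit false

namespace Cfsg.Agent.Lib.FusionYoshida

open Cfsg Cfsg.FusionSystem
open Cfsg.Agent.Lib.FusionBasic Cfsg.Agent.Lib.FusionSat Cfsg.Agent.Lib.FusionTate
open Cfsg.Agent.Lib.FusionFocal Cfsg.Agent.Lib.FusionTransfer Cfsg.Agent.Lib.Marks Cfsg.Agent.Lib.MarksStable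
open Cfsg.Agent.Lib.BisetTransfer Cfsg.Agent.Lib.WreathCocycle Cfsg.Agent.Lib.FusionInvar
open Equiv (Perm)

section biset

variable {P S A X : Type*} [Group P] [Group S] [CommGroup A]

theorem tr_mul [Finite X] {a : P × S →* Perm X} (ha : RFree a) (f g : S →* A) (u : P) :
    tr a ha (f * g) u = tr a ha f u * tr a ha g u := by
  classical
  have hF := Fintype.ofFinite (Quotient (rel a))
  obtain ⟨c, hc⟩ := exists_pot ha f
  obtain ⟨d, hd⟩ := exists_pot ha g
  have hcd : IsPot a (f * g) (fun x => c x * d x) := by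
    intro s x
    show c _ * d _ = f s * g s * (c x * d x)
    rw [hc, hd, mul_mul_mul_comm]
  rw [tr_eq ha hcd, tr_eq ha hc, tr_eq ha hd]
  unfold T
  rw [finprod_eq_prod_of_fintype, finprod_eq_prod_of_fintype, finprod_eq_prod_of_fintype, ← Finset.prod_mul_distrib]
  refine Finset.prod_congr rfl fun ω _ => ?_
  exact mul_div_mul_comm _ _ _ _

theorem tr_one [Finite X] {a : P × S →* Perm X} (ha : RFree a) (u : P) : tr a ha (1 : S →* A) u = 1 := by
  have h := tr_mul ha (1 : S →* A) 1 u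
  rw [mul_one] at h
  exact (mul_eq_left.1 h.symm)

theorem tr_pow [Finite X] {a : P × S →* Perm X} (ha : RFree a) (f : S →* A) (u : P) (n : ℕ) :
    tr a ha (f ^ n) u = tr a ha f u ^ n := by
  induction n with
  | zero => rw [pow_zero, pow_zero, tr_one]
  | succ n ih => rw [pow_succ, pow_succ, tr_mul, ih]

/-- the action on right orbits -/
def actHom (a : P × S →* Perm X) : P →* Perm (Quotient (rel a)) := MonoidHom.mk' (act a) (by
  intro u v
  ext ω
  induction ω using Quotient.inductionOn with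
  | _ x =>
    rw [Perm.mul_apply, act_mk, act_mk, act_mk]
    congr 1
    rw [← Perm.mul_apply, ← map_mul]
    simp)

theorem val_mul {a : P × S →* Perm X} {f : S →* A} {c : X → A} (hc : IsPot a f c) (u v : P)
    (ω : Quotient (rel a)) : val a c (u * v) ω.out = val a c u (act a v ω).out * val a c v ω.out := by
  rw [← val_out_act hc]
  unfold val
  have : a (u * v, 1) ω.out = a (u, 1) (a (v, 1) ω.out) := by
    rw [← Perm.mul_apply, ← map_mul]; simp
  rw [this]
  rw [mul_comm, div_mul_div_cancel]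

/-- a fixed orbit -/
theorem exists_fix {a : P × S →* Perm X} {f : S →* A} {c : X → A} (hc : IsPot a f c) {u : P} {ω : Quotient (rel a)}
    (h : act a u ω = ω) : ∃ s : S, a (u, s) ω.out = ω.out ∧ val a c u ω.out = f s := by
  have h1 : act a u ω = Quotient.mk (rel a) (a (u, 1) ω.out) := by
    conv_lhs => rw [← Quotient.out_eq ω]
    rfl
  have h2 : Quotient.mk (rel a) (a (u, 1) ω.out) = Quotient.mk (rel a) ω.out := by
    rw [← h1, h, Quotient.out_eq]
  obtain ⟨s, hs⟩ := Quotient.exact h2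
  have h3 : a (u, s) ω.out = ω.out := by
    have : ((u, s) : P × S) = (1, s) * (u, 1) := by simp
    rw [this, map_mul, Perm.mul_apply, hs]
  refine ⟨s, h3, ?_⟩
  unfold val
  have h4 := hc s (a (u, 1) ω.out)
  rw [hs] at h4
  rw [h4, mul_div_cancel_right]

end biset

/-- a nontrivial element of an elementary abelian group is detected by a homomorphism to `ZMod p` -/
theorem exists_hom {V : Type*} [CommGroup V] {p : ℕ} [hp : Fact p.Prime] (h : ∀ v : V, v ^ p = 1)
    {x : V} (hx : x ≠ 1) : ∃ φ : V →* Multiplicative (ZMod p), φ x ≠ 1 := by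
  let _ : Module (ZMod p) (Additive V) := AddCommGroup.zmodModule (n := p) (fun x => h x.toMul)
  have h1 : ¬ ∀ φ : Module.Dual (ZMod p) (Additive V), φ (Additive.ofMul x) = 0 := by
    rw [Module.forall_dual_apply_eq_zero_iff]
    exact fun h => hx h
  push Not at h1
  obtain ⟨φ, hφ⟩ := h1
  refine ⟨MonoidHom.mk' (fun v => Multiplicative.ofAdd (φ (Additive.ofMul v))) ?_, ?_⟩
  · intro a b
    rw [ofMul_mul, map_add, ofAdd_add]
  · intro h2
    exact hφ (Multiplicative.ofAdd.injective h2)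

variable {Ω : Type*} [Group Ω] {S : Subgroup Ω} {F : FusionSystem S} {P Q R : Subgroup Ω} {f g : Ω → Ω} {p : ℕ}

/-- step 1: a linear character separating the focal subgroups -/
theorem exists_char [Finite S] [Fact p.Prime] (hS : IsPGroup p S) (hF : F.IsSaturated p) {N : FusionSystem S}
    (hN : N.IsSaturated p) (hNF : N.IsSubsystemOf F) (hne : N.focalSubgroup ≠ F.focalSubgroup) :
    ∃ μ : S →* Multiplicative (ZMod p), (∀ x : S, (x : Ω) ∈ N.focalSubgroup → μ x = 1) ∧
      ∃ y : S, (y : Ω) ∈ F.focalSubgroup ∧ μ y ≠ 1 := by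
  let K : Subgroup S := frattini S ⊔ (N.focalSubgroup).subgroupOf S
  have hfK : frattini S ≤ K := le_sup_left
  have hcK : commutator S ≤ K := (H70Frattini.commutator_le_frattini hS).trans hfK
  have hKn : K.Normal := by
    refine ⟨fun v hv g => ?_⟩
    have h1 : g * v * g⁻¹ = (g * v * g⁻¹ * v⁻¹) * v := by group
    rw [h1]
    exact K.mul_mem (hcK (Subgroup.commutator_mem_commutator (Subgroup.mem_top g) (Subgroup.mem_top v))) hv
  have hlt : ¬ (F.focalSubgroup).subgroupOf S ≤ K := by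
    intro hle
    apply hne
    refine ((tate hS hF hN hNF).1.1 ?_).symm
    refine le_antisymm (sup_le le_sup_left ?_) (sup_le_sup_left (focal_mono hNF) _)
    intro x hx
    have h1 : (⟨x, focal_le F hx⟩ : S) ∈ K := hle (Subgroup.mem_subgroupOf.2 hx)
    have h2 : x ∈ K.map S.subtype := ⟨_, h1, rfl⟩
    rw [Subgroup.map_sup, Subgroup.subgroupOf_map_subtype] at h2
    exact (sup_le_sup_left (show N.focalSubgroup ⊓ S ≤ N.focalSubgroup from inf_le_left)
      ((frattini ↥S).map S.subtype)) h2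
  obtain ⟨y, hy, hyK⟩ := SetLike.not_le_iff_exists.1 hlt
  have hc : IsMulCommutative (S ⧸ K) := (Subgroup.Normal.quotient_commutative_iff_commutator_le).2 hcK
  let _ : CommGroup (S ⧸ K) := { (inferInstance : Group (S ⧸ K)) with mul_comm := hc.is_comm.comm }
  have he : ∀ v : S ⧸ K, v ^ p = 1 := by
    intro v
    induction v using QuotientGroup.induction_on with
    | H z =>
      rw [← QuotientGroup.mk_pow]
      exact (QuotientGroup.eq_one_iff _).2 (hfK (H70Frattini.pow_mem_frattini hS z))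
  have hy1 : (y : S ⧸ K) ≠ 1 := fun h => hyK ((QuotientGroup.eq_one_iff y).1 h)
  obtain ⟨φ, hφ⟩ := exists_hom he hy1
  refine ⟨φ.comp (QuotientGroup.mk' K), fun x hx => ?_, y, Subgroup.mem_subgroupOf.1 hy, hφ⟩
  have h1 : (x : S ⧸ K) = 1 := (QuotientGroup.eq_one_iff x).2 ((le_sup_right : _ ≤ K) (Subgroup.mem_subgroupOf.2 hx))
  show φ (x : S ⧸ K) = 1
  rw [h1, map_one]

theorem main [Finite S] [hp : Fact p.Prime] (hS : IsPGroup p S) (hF : F.IsSaturated p) {N : FusionSystem S}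
    (hN : N.IsSaturated p) (hNF : N.IsSubsystemOf F) (htop : ∀ f, FMap F S f → FMap N S f)
    (hne : N.focalSubgroup ≠ F.focalSubgroup) :
    ∃ (W : Sylow p (Equiv.Perm (Fin (p ^ 2)))) (f : ↥S →* ↥(W : Subgroup (Equiv.Perm (Fin (p ^ 2))))),
      Function.Surjective f := by
  classical
  obtain ⟨μ, hμ, y, hy, hμy⟩ := exists_char hS hF hN hNF hne
  obtain ⟨c, hc, m, hm, hpm⟩ := exists_isChar hS hF
  let τ : S →* Multiplicative (ZMod p) := ftr hc μ
  let φ : S →* Multiplicative (ZMod p) := μ ^ m * τ⁻¹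
  have hexp : ∀ a : Multiplicative (ZMod p), a ^ p = 1 := by
    intro a
    have h1 : Nat.card (Multiplicative (ZMod p)) = p := by
      rw [Nat.card_congr Multiplicative.toAdd, Nat.card_zmod]
    exact orderOf_dvd_iff_pow_eq_one.1 ((orderOf_dvd_natCard a).trans (dvd_of_eq h1))
  have hcop : ∀ a : Multiplicative (ZMod p), a ^ m = 1 → a = 1 := by
    intro a ha
    have h1 := orderOf_dvd_of_pow_eq_one ha
    have h2 := orderOf_dvd_of_pow_eq_one (hexp a)
    rcases hp.out.eq_one_or_self_of_dvd _ h2 with h3 | h3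
    · exact orderOf_eq_one_iff.1 h3
    · rw [h3] at h1; exact absurd h1 hpm
  -- properties of `φ`
  have hφy : φ y ≠ 1 := by
    have h1 : τ y = 1 := ftr_kills hc μ hy
    show μ y ^ m * (τ y)⁻¹ ≠ 1
    rw [h1, inv_one, mul_one]
    exact fun h => hμy (hcop _ h)
  have hφN : ∀ (f : Ω → Ω) (hf : FMap F S f) (x : S), φ ⟨f x, hf.map_mem x.2⟩ = φ x := by
    intro f hf x
    show μ _ ^ m * (τ _)⁻¹ = μ x ^ m * (τ x)⁻¹
    have h1 : τ ⟨f x, hf.map_mem x.2⟩ = τ x := ftr_stable hc μ hf x.2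
    have h2 : μ ⟨f x, hf.map_mem x.2⟩ = μ x := by
      have h3 := hμ (x⁻¹ * ⟨f x, hf.map_mem x.2⟩) (mem_focal (htop f hf) x.2)
      rw [map_mul, map_inv, inv_mul_eq_one] at h3
      exact h3.symm
    rw [h1, h2]
  have hφtr : ∀ x, ftr hc φ x = 1 := by
    intro x
    have h1 : φ * τ = μ ^ m := by
      ext x
      show μ x ^ m * (τ x)⁻¹ * τ x = μ x ^ m
      rw [inv_mul_cancel_right]
    have h2 := tr_mul hc.rfree φ τ x
    rw [h1, tr_pow] at h2
    have h3 : tr (rep c) hc.rfree τ x = τ x ^ m := ftr_of_stable hc τ hm (fun P f hf x hx => ftr_stable hc μ hf hx) x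
    rw [h3] at h2
    exact (mul_eq_right.1 h2.symm)
  -- minimal element
  obtain ⟨n, hn⟩ : ∃ n, ∃ x : S, φ x ≠ 1 ∧ orderOf x = n := ⟨_, y, hφy, rfl⟩
  obtain ⟨n, ⟨x, hx, hxn⟩, hmin⟩ : ∃ n, (∃ x : S, φ x ≠ 1 ∧ orderOf x = n) ∧
      ∀ k < n, ¬ ∃ x : S, φ x ≠ 1 ∧ orderOf x = k :=
    ⟨Nat.find ⟨n, hn⟩, Nat.find_spec (⟨n, hn⟩ : ∃ n, ∃ x : S, φ x ≠ 1 ∧ orderOf x = n), fun k hk => Nat.find_min _ hk⟩
  have hmin' : ∀ z : S, orderOf z < orderOf x → φ z = 1 := by
    intro z hz
    by_contra h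
    exact hmin _ (hxn ▸ hz) ⟨z, h, rfl⟩
  obtain ⟨d, hd⟩ := exists_pot hc.rfree φ
  let _ : MulAction S (Quotient (rel (rep c))) := MulAction.compHom _ (actHom (rep c))
  have hFt := Fintype.ofFinite (Quotient (rel (rep c)))
  have hcoc : IsCoc (fun (u : S) (ω : Quotient (rel (rep c))) => val (rep c) d u ω.out) := by
    intro u v ω
    exact val_mul hd u v ω
  have hcard : Nat.card (Quotient (rel (rep c))) = m := by
    have h4 := card_eq_mul hc.rfree
    rw [hm] at h4
    exact (Nat.eq_of_mul_eq_mul_right Nat.card_pos h4).symm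
  obtain ⟨M, hM, hidx, l, g, x', hprod⟩ := exists_twist hS (by rw [hcard]; exact hpm) hcoc x (by
    intro k ω hk
    obtain ⟨s, hs, hval⟩ := exists_fix hd hk
    show val _ _ _ _ = 1
    rw [hval]
    apply hmin'
    obtain ⟨f, hf, hfs⟩ := hc.exists_map hs
    -- order of s is at most that of x^(pk)
    have hx1 : x ≠ 1 := by rintro rfl; exact hx (map_one φ)
    have h1 : orderOf s ∣ orderOf (x ^ ((p : ℤ) * k)) := by
      apply orderOf_dvd_of_pow_eq_one
      apply Subtype.ext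
      have h2 : ((x ^ ((p : ℤ) * k) : S) : Ω) ^ orderOf (x ^ ((p : ℤ) * k)) = 1 := by
        have := congrArg (fun z : S => (z : Ω)) (pow_orderOf_eq_one (x ^ ((p : ℤ) * k)))
        exact this
      show (s : Ω) ^ _ = 1
      rw [← hfs, ← hf.map_pow (Subgroup.mem_zpowers _), h2, hf.map_one]
    have h3 : orderOf (x ^ ((p : ℤ) * k)) ∣ orderOf (x ^ p) := by
      rw [zpow_mul, zpow_natCast]
      exact orderOf_dvd_of_mem_zpowers ⟨k, rfl⟩
    have h4 : orderOf (x ^ p) < orderOf x := by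
      obtain ⟨j, hj⟩ := IsPGroup.iff_orderOf.1 hS x
      have hj0 : j ≠ 0 := by
        rintro rfl
        rw [pow_zero] at hj
        exact hx1 (orderOf_eq_one_iff.1 hj)
      have h5 : p ∣ orderOf x := by rw [hj]; exact dvd_pow_self p hj0
      rw [orderOf_pow_of_dvd hp.out.ne_zero h5]
      exact Nat.div_lt_self (orderOf_pos x) hp.out.one_lt
    exact lt_of_le_of_lt (Nat.le_of_dvd (orderOf_pos _) (h1.trans h3)) h4) hx (by
    intro ω hω
    obtain ⟨P, f, hP⟩ := hc.stab_mem ω.out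
    have hS' : ∀ u : S, (u : Ω) ∈ P := by
      intro u
      obtain ⟨s, hs, -⟩ := exists_fix hd (hω u)
      exact ((hP.2 (u, s)).1 hs).1
    have hSP : P = S := le_antisymm hP.1.le fun u hu => hS' ⟨u, hu⟩
    subst hSP
    obtain ⟨s, hs, hval⟩ := exists_fix hd (hω x)
    show val _ _ _ _ = φ x
    rw [hval, ← hφN f hP.1 x]
    congr 1
    exact Subtype.ext ((hP.2 (x, s)).1 hs).2.symm) (by
    have h1 := hφtr x
    unfold ftr at h1
    rw [tr_eq hc.rfree hd] at h1
    unfold T at h1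
    rw [finprod_eq_prod_of_fintype] at h1
    exact h1)
  exact WreathQuot.exists_quot hS hM hidx l g x' hprod

theorem main' [Finite S] [hp : Fact p.Prime] (hS : IsPGroup p S) (hF : F.IsSaturated p) {S₁ : Subgroup Ω} (h₁ : S₁ = S)
    (N : FusionSystem S₁) (hN : N.IsSaturated p) (hiff : ∀ (P : Subgroup Ω) (f : Ω → Ω), FMap N P f ↔ P ≤ S₁ ∧
      (∀ x ∈ P, f x ∈ S₁) ∧ ∃ g : Ω → Ω, FMap F (P ⊔ S) g ∧ (∀ x ∈ P, g x = f x) ∧ FIso F S S g)
    (hne : N.focalSubgroup ≠ F.focalSubgroup) :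
    ∃ (W : Sylow p (Equiv.Perm (Fin (p ^ 2)))) (f : ↥S →* ↥(W : Subgroup (Equiv.Perm (Fin (p ^ 2))))),
      Function.Surjective f := by
  subst h₁
  refine main hS hF hN ?_ ?_ hne
  · rw [isSubsystemOf_iff]
    intro P f hf
    obtain ⟨-, -, g, hg, h3, -⟩ := (hiff P f).1 hf
    exact (hg.restrict le_sup_left).congr h3
  · intro f hf
    refine (hiff _ f).2 ⟨le_rfl, fun x hx => hf.map_mem hx, f, ?_, fun x _ => rfl, ?_⟩
    · exact hf.restrict (sup_le le_rfl le_rfl)
    · exact fiso_of_fmap_top hf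

end Cfsg.Agent.Lib.FusionYoshida
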