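import Cfsg.Agent.Lib.SliceK4n
import Cfsg.Agent.Lib.ChevPerf
import Cfsg.Agent.S1055
import Cfsg.Agent.S1059

/-!
# The group `G₂(4)` acting on bit-sliced vectors
-/

set_option autoImplicit false
set_option linter.all false
set_option maxRecDepth 100000

namespace Cfsg.Agent.Lib.G2K4

open Cfsg.Lie Cfsg.Agent.Lib.K4 Cfsg.Agent.Lib.SliceK4 Cfsg.Agent.Lib.SliceK4n
open Cfsg.Agent.Lib.ChevRel
open scoped Matrix MatrixGroups

/-- coordinate indices -/
abbrev Ix : Type := chevG2.Idx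

/-- the position of an index -/
def cd : Ix → ℕ
  | Sum.inl a => a.val
  | Sum.inr s => 2 + s.val

/-- the index at a position -/
def ix (j : ℕ) (h : j < 14) : Ix :=
  if h2 : j < chevG2.rank then Sum.inl ⟨j, h2⟩ else Sum.inr ⟨j - 2, by change ¬ (j < 2) at h2; change j - 2 < 12; omega⟩

theorem cd_lt (j : Ix) : cd j < 14 := by
  rcases j with a | s
  · have : a.val < 2 := a.2
    change a.val < 14; omega
  · have : s.val < 12 := s.2
    change 2 + s.val < 14; omega

theorem ix_cd (j : Ix) : ix (cd j) (cd_lt j) = j := by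
  rcases j with a | s
  · unfold ix
    rw [dif_pos (show cd (Sum.inl a) < chevG2.rank from a.2)]; rfl
  · unfold ix
    rw [dif_neg (show ¬ cd (Sum.inr s) < chevG2.rank from by change ¬ (2 + s.val < 2); omega)]
    congr 1
    apply Fin.ext
    change 2 + s.val - 2 = s.val; omega

theorem cd_ix (j : ℕ) (h : j < 14) : cd (ix j h) = j := by
  unfold ix
  split_ifs with h2
  · rfl
  · change ¬ (j < 2) at h2
    change 2 + (j - 2) = j; omega

/-- the entries of the root elements: `(k, e)` in row `j` means the entry `t ^ e` at `(j, k)` -/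
def base (r : ℕ) : List (List (ℕ × ℕ)) :=
  match r with
  | 0 => [[(0, 0), (13, 1)], [(1, 0)], [(1, 1), (2, 0), (13, 2)], [(3, 0), (8, 1)], [(4, 0), (10, 1)], [(5, 0), (11, 1)], [(6, 0)], [(7, 0), (12, 1)], [(8, 0)], [(9, 0)], [(10, 0)], [(11, 0)], [(12, 0)], [(13, 0)]]
  | 1 => [[(0, 0), (12, 1)], [(1, 0), (12, 1)], [(2, 0), (7, 1)], [(0, 1), (1, 1), (3, 0), (12, 2)], [(4, 0), (9, 1)], [(5, 0)], [(6, 0), (11, 1)], [(7, 0)], [(8, 0), (13, 1)], [(9, 0)], [(10, 0)], [(11, 0)], [(12, 0)], [(13, 0)]]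
  | 2 => [[(0, 0)], [(1, 0), (11, 1)], [(2, 0), (5, 1), (9, 2), (12, 3)], [(3, 0), (6, 1), (10, 2), (13, 3)], [(0, 1), (4, 0), (11, 2)], [(5, 0), (12, 2)], [(6, 0), (13, 2)], [(7, 0)], [(8, 0)], [(9, 0), (12, 1)], [(10, 0), (13, 1)], [(11, 0)], [(12, 0)], [(13, 0)]]
  | 3 => [[(0, 0), (10, 1)], [(1, 0), (10, 1)], [(2, 0), (4, 1), (6, 2), (8, 3)], [(3, 0)], [(4, 0), (8, 2)], [(0, 1), (1, 1), (5, 0), (10, 2)], [(6, 0), (8, 1)], [(7, 0), (9, 1), (11, 2), (13, 3)], [(8, 0)], [(9, 0), (13, 2)], [(10, 0)], [(11, 0), (13, 1)], [(12, 0)], [(13, 0)]]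
  | 4 => [[(0, 0), (9, 1)], [(1, 0)], [(2, 0)], [(3, 0), (4, 1), (5, 2), (7, 3)], [(4, 0), (7, 2)], [(5, 0), (7, 1)], [(1, 1), (6, 0), (9, 2)], [(7, 0)], [(8, 0), (10, 1), (11, 2), (12, 3)], [(9, 0)], [(10, 0), (12, 2)], [(11, 0), (12, 1)], [(12, 0)], [(13, 0)]]
  | 5 => [[(0, 0)], [(1, 0), (8, 1)], [(2, 0), (3, 1)], [(3, 0)], [(4, 0)], [(5, 0), (6, 1)], [(6, 0)], [(0, 1), (7, 0), (8, 2)], [(8, 0)], [(9, 0), (10, 1)], [(10, 0)], [(11, 0)], [(12, 0), (13, 1)], [(13, 0)]]
  | 6 => [[(0, 0)], [(1, 0), (7, 1)], [(2, 0)], [(2, 1), (3, 0)], [(4, 0)], [(5, 0)], [(5, 1), (6, 0)], [(7, 0)], [(0, 1), (7, 2), (8, 0)], [(9, 0)], [(9, 1), (10, 0)], [(11, 0)], [(12, 0)], [(12, 1), (13, 0)]]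
  | 7 => [[(0, 0), (6, 1)], [(1, 0)], [(2, 0)], [(3, 0)], [(3, 1), (4, 0)], [(3, 2), (5, 0)], [(6, 0)], [(3, 3), (4, 2), (5, 1), (7, 0)], [(8, 0)], [(1, 1), (6, 2), (9, 0)], [(8, 1), (10, 0)], [(8, 2), (11, 0)], [(8, 3), (10, 2), (11, 1), (12, 0)], [(13, 0)]]
  | 8 => [[(0, 0), (5, 1)], [(1, 0), (5, 1)], [(2, 0)], [(3, 0)], [(2, 1), (4, 0)], [(5, 0)], [(2, 2), (6, 0)], [(7, 0)], [(2, 3), (4, 2), (6, 1), (8, 0)], [(7, 1), (9, 0)], [(0, 1), (1, 1), (5, 2), (10, 0)], [(7, 2), (11, 0)], [(12, 0)], [(7, 3), (9, 2), (11, 1), (13, 0)]]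
  | 9 => [[(0, 0)], [(1, 0), (4, 1)], [(2, 0)], [(3, 0)], [(4, 0)], [(2, 1), (5, 0)], [(3, 1), (6, 0)], [(7, 0)], [(8, 0)], [(2, 2), (9, 0)], [(3, 2), (10, 0)], [(0, 1), (4, 2), (11, 0)], [(2, 3), (5, 2), (9, 1), (12, 0)], [(3, 3), (6, 2), (10, 1), (13, 0)]]
  | 10 => [[(0, 0), (3, 1)], [(1, 0), (3, 1)], [(2, 0)], [(3, 0)], [(4, 0)], [(5, 0)], [(6, 0)], [(2, 1), (7, 0)], [(8, 0)], [(4, 1), (9, 0)], [(10, 0)], [(6, 1), (11, 0)], [(0, 1), (1, 1), (3, 2), (12, 0)], [(8, 1), (13, 0)]]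
  | 11 => [[(0, 0), (2, 1)], [(1, 0)], [(2, 0)], [(3, 0)], [(4, 0)], [(5, 0)], [(6, 0)], [(7, 0)], [(3, 1), (8, 0)], [(9, 0)], [(4, 1), (10, 0)], [(5, 1), (11, 0)], [(7, 1), (12, 0)], [(1, 1), (2, 2), (13, 0)]]
  | _ => []

/-- powers -/
def pw (t : K4) (e : ℕ) : K4 := if e = 0 then 1 else if e = 1 then t else if e = 2 then t * t else t * t * t

/-- coefficient in a sparse row -/
def coef : List (ℕ × ℕ) → K4 → ℕ → K4
  | [], _, _ => 0
  | p :: row, t, k => (if p.1 = k then pw t p.2 else 0) + coef row t k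

/-- one entry -/
def chkE (r : Fin chevG2.nroots) (t : K4) (j k : Ix) : Bool :=
  decide (chevG2.xMat K4 r t j k = coef ((base r.val).getD (cd j) []) t (cd k))

theorem base_chk : ∀ (r : Fin chevG2.nroots) (t : K4) (j k : Ix), chkE r t j k = true := by decide +kernel

theorem base_eq (r : Fin chevG2.nroots) (t : K4) (j k : Ix) :
    chevG2.xMat K4 r t j k = coef ((base r.val).getD (cd j) []) t (cd k) := of_decide_eq_true (base_chk r t j k)

theorem base_lt : ∀ (r : Fin 12) (j : Fin 14), ∀ p ∈ (base r.val).getD j.val [], p.1 < 14 := by decide +kernel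
theorem base_len : ∀ (r : Fin 12), (base r.val).length = 14 := by decide +kernel

theorem rowV_sum (t : K4) (y : ℕ → K4) : ∀ row : List (ℕ × ℕ), (∀ p ∈ row, p.1 < 14) →
    rowV (row.map (fun p => (p.1, pw t p.2))) y = ∑ k : Ix, coef row t (cd k) * y (cd k) := by
  intro row
  induction row with
  | nil => intro _; simp [rowV, coef]
  | cons p row ih =>
    intro h
    have e1 : rowV ((p :: row).map (fun p => (p.1, pw t p.2))) y = pw t p.2 * y p.1 + rowV (row.map (fun p => (p.1, pw t p.2))) y := by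
      simp [rowV]
    have e2 : ∀ k : Ix, coef (p :: row) t (cd k) * y (cd k) =
        (if p.1 = cd k then pw t p.2 else 0) * y (cd k) + coef row t (cd k) * y (cd k) := by
      intro k
      change ((if p.1 = cd k then pw t p.2 else 0) + coef row t (cd k)) * y (cd k) = _
      rw [add_mul]
    rw [e1, ih (fun q hq => h q (List.mem_cons_of_mem _ hq)), Finset.sum_congr rfl (fun k _ => e2 k), Finset.sum_add_distrib]
    congr 1
    have hp := h p List.mem_cons_self
    rw [Finset.sum_eq_single (ix p.1 hp)]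
    · rw [cd_ix, if_pos rfl]
    · intro k _ hk
      rw [if_neg, zero_mul]
      intro hpk
      apply hk
      have h9 : ∀ (j : ℕ) (hj : j < 14), j = cd k → k = ix j hj := by
        intro j hj h; subst h; exact (ix_cd k).symm
      exact h9 _ hp hpk
    · intro h; exact absurd (Finset.mem_univ _) h

/-- the sparse matrix of a root element -/
def sm (p : ℕ × K4) : List (List (ℕ × K4)) := (base p.1).map (fun row => row.map (fun q => (q.1, pw p.2 q.2)))

/-- the vector at a lane -/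
noncomputable def vec (l : List (ℕ × ℕ)) (i : ℕ) : Ix → K4 := fun j => cv l i (cd j)

theorem vec_sm (p : ℕ × K4) (hp : p.1 < chevG2.nroots) (l : List (ℕ × ℕ)) (i : ℕ) :
    vec ((sm p).map (rowP l)) i = chevG2.x K4 p.1 p.2 *ᵥ vec l i := by
  funext j
  unfold ChevalleyDatum.x
  rw [dif_pos hp]
  change cv ((sm p).map (rowP l)) i (cd j) = ∑ k : Ix, chevG2.xMat K4 ⟨p.1, hp⟩ p.2 j k * cv l i (cd k)
  rw [cv_map]
  have e : (sm p).getD (cd j) [] = ((base p.1).getD (cd j) []).map (fun q => (q.1, pw p.2 q.2)) := by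
    unfold sm
    rw [List.getD_eq_getElem?_getD, List.getD_eq_getElem?_getD, List.getElem?_map]
    cases (base p.1)[cd j]? with
    | some r => rfl
    | none => rfl
  rw [e, rowV_sum _ _ _ (base_lt ⟨p.1, hp⟩ ⟨cd j, cd_lt j⟩)]
  apply Finset.sum_congr rfl
  intro k _
  rw [base_eq ⟨p.1, hp⟩ p.2 j k]

theorem vec_mats (w : List (ℕ × K4)) (hw : ∀ p ∈ w, p.1 < chevG2.nroots) (l : List (ℕ × ℕ)) (i : ℕ) :
    vec (mats ((w.map sm).reverse) l) i = chevG2.wordMat K4 w *ᵥ vec l i := by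
  induction w with
  | nil =>
    change vec l i = (1 : Matrix Ix Ix K4) *ᵥ vec l i
    rw [Matrix.one_mulVec]
  | cons p w ih =>
    have e1 : mats (((p :: w).map sm).reverse) l = (sm p).map (rowP (mats ((w.map sm).reverse) l)) := by
      unfold mats
      rw [List.map_cons, List.reverse_cons, List.foldl_append]; rfl
    have e2 : chevG2.wordMat K4 (p :: w) = chevG2.x K4 p.1 p.2 * chevG2.wordMat K4 w := by
      simp [ChevalleyDatum.wordMat]
    rw [e1, vec_sm p (hw p List.mem_cons_self), ih (fun q hq => hw q (List.mem_cons_of_mem _ hq)), e2, Matrix.mulVec_mulVec]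

/-- the action on the Lie algebra -/
noncomputable def ρ : chevG2.group K4 →* ((Ix → K4) ≃ₗ[K4] (Ix → K4)) :=
  (LinearMap.GeneralLinearGroup.generalLinearEquiv K4 (Ix → K4)).toMonoidHom.comp
    ((Matrix.GeneralLinearGroup.toLin (n := Ix) (R := K4)).toMonoidHom.comp (chevG2.group K4).subtype)

theorem ρ_apply (g : chevG2.group K4) (x : Ix → K4) : ρ g x = ((g : GL Ix K4) : Matrix Ix Ix K4) *ᵥ x := rfl

theorem good : Nonempty (Cfsg.Agent.Lib.ChevGood.Good chevG2) := good_of_mem (by simp)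

/-- the element of a word -/
noncomputable def el (w : List (ℕ × K4)) : chevG2.group K4 :=
  ⟨wg chevG2 K4 w, by obtain ⟨G⟩ := good; exact Cfsg.Agent.Lib.ChevPerf.wg_mem G w⟩

theorem el_apply (w : List (ℕ × K4)) (x : Ix → K4) : ρ (el w) x = chevG2.wordMat K4 w *ᵥ x := by
  rw [ρ_apply]
  obtain ⟨G⟩ := good
  change ((wg chevG2 K4 w : GL Ix K4) : Matrix Ix Ix K4) *ᵥ x = _
  rw [coe_wg G]

theorem simple : IsSimpleGroup (chevG2.group K4) ∧ ¬ IsMulCommutative (chevG2.group K4) :=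
  S1055.result ⟨om, by decide, by decide⟩

theorem card : Nat.card (chevG2.group K4) = 251596800 := by
  rw [S1059.result card_K4]; norm_num

theorem center_bot : Subgroup.center (chevG2.group K4) = ⊥ := by
  obtain ⟨h1, h2⟩ := simple
  rcases Subgroup.Normal.eq_bot_or_eq_top (inferInstance : (Subgroup.center (chevG2.group K4)).Normal) with h | h
  · exact h
  · exfalso
    apply h2
    refine ⟨⟨fun a b => ?_⟩⟩
    have : a ∈ Subgroup.center (chevG2.group K4) := by rw [h]; trivial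
    exact (Subgroup.mem_center_iff.mp this b).symm

/-- a scalar element is trivial -/
theorem eq_one_of_scalar (s : chevG2.group K4) (c : K4) (h : ∀ x, ρ s x = c • x) : s = 1 := by
  have h1 : s ∈ Subgroup.center (chevG2.group K4) := by
    rw [Subgroup.mem_center_iff]
    intro g
    apply Subtype.ext
    apply Units.ext
    apply Matrix.ext_of_mulVec_single
    intro j
    have e1 : ρ (g * s) (Pi.single j 1) = ρ (s * g) (Pi.single j 1) := by
      rw [map_mul, map_mul, LinearEquiv.mul_apply, LinearEquiv.mul_apply, h, h, map_smul]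
    exact e1
  rw [center_bot] at h1
  exact Subgroup.mem_bot.mp h1

/-- an element fixing the points of a frame is trivial -/
theorem eq_one_of_frame (L : List (ℕ × ℕ)) (bl : Fin 14 → ℕ) (fr : ℕ) (Bi : Fin 14 → Fin 14 → K4)
    (h1 : ∀ j k : Fin 14, (∑ m, Bi j m * cv L (bl m) k.val) = if j = k then 1 else 0)
    (h2 : ∀ k : Fin 14, (∑ j : Fin 14, cv L fr j.val * Bi j k) ≠ 0)
    (s : chevG2.group K4) (h : ∀ i, i ∈ Set.range bl ∨ i = fr → ∃ c : K4, ρ s (vec L i) = c • vec L i) : s = 1 := by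
  -- the matrix of the basis
  let B : Matrix (Fin 14) (Fin 14) K4 := Matrix.of fun m k => cv L (bl m) k.val
  let A : Matrix (Fin 14) (Fin 14) K4 := Matrix.of Bi
  have hAB : A * B = 1 := by
    ext j k
    rw [Matrix.mul_apply, Matrix.one_apply]
    exact h1 j k
  have hBA : B * A = 1 := mul_eq_one_comm.mp hAB
  choose c hc using fun k : Fin 14 => h (bl k) (Or.inl ⟨k, rfl⟩)
  obtain ⟨d, hd⟩ := h fr (Or.inr rfl)
  -- the coordinate functionals
  let f : Fin 14 → (Ix → K4) →ₗ[K4] K4 := fun k => ∑ j : Fin 14, (A j k) • LinearMap.proj (ix j.val j.2)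
  have hf : ∀ k x, f k x = ∑ j : Fin 14, A j k * x (ix j.val j.2) := by
    intro k x
    simp only [f, LinearMap.sum_apply, LinearMap.smul_apply, LinearMap.proj_apply, smul_eq_mul]
  have hfv : ∀ i k, f k (vec L i) = ∑ j : Fin 14, cv L i j.val * A j k := by
    intro i k
    rw [hf]
    apply Finset.sum_congr rfl
    intro j _
    unfold vec
    rw [cd_ix, mul_comm]
  have hfb : ∀ l k, f k (vec L (bl l)) = if l = k then 1 else 0 := by
    intro l k
    rw [hfv]
    have := congrFun (congrFun hBA l) k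
    rw [Matrix.mul_apply, Matrix.one_apply] at this
    exact this
  have hexp : ∀ x : Ix → K4, x = ∑ k, f k x • vec L (bl k) := by
    intro x
    funext j
    rw [Finset.sum_apply]
    simp only [Pi.smul_apply, smul_eq_mul, hf]
    have e1 : ∀ k : Fin 14, (∑ j' : Fin 14, A j' k * x (ix j'.val j'.2)) * vec L (bl k) j =
        ∑ j' : Fin 14, x (ix j'.val j'.2) * (A j' k * B k ⟨cd j, cd_lt j⟩) := by
      intro k
      rw [Finset.sum_mul]
      apply Finset.sum_congr rfl
      intro j' _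
      change A j' k * x (ix j'.val j'.2) * cv L (bl k) (cd j) = x (ix j'.val j'.2) * (A j' k * cv L (bl k) (cd j))
      ring
    rw [Finset.sum_congr rfl (fun k _ => e1 k), Finset.sum_comm]
    have e2 : ∀ j' : Fin 14, ∑ k : Fin 14, x (ix j'.val j'.2) * (A j' k * B k ⟨cd j, cd_lt j⟩) =
        x (ix j'.val j'.2) * (if j' = ⟨cd j, cd_lt j⟩ then 1 else 0) := by
      intro j'
      rw [← Finset.mul_sum]
      congr 1
      have := congrFun (congrFun hAB j') ⟨cd j, cd_lt j⟩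
      rw [Matrix.mul_apply, Matrix.one_apply] at this
      exact this
    rw [Finset.sum_congr rfl (fun j' _ => e2 j')]
    simp only [mul_ite, mul_one, mul_zero, Finset.sum_ite_eq', Finset.mem_univ, if_true]
    rw [ix_cd]
  have hρ : ∀ x, ρ s x = ∑ k, (f k x * c k) • vec L (bl k) := by
    intro x
    conv_lhs => rw [hexp x]
    rw [map_sum]
    apply Finset.sum_congr rfl
    intro k _
    rw [map_smul, hc, smul_smul]
  have hcd : ∀ k, c k = d := by
    intro k
    have e1 := congrArg (f k) (hρ (vec L fr))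
    rw [hd, map_smul, map_sum] at e1
    simp only [map_smul, hfb, smul_eq_mul, mul_ite, mul_one, mul_zero, Finset.sum_ite_eq', Finset.mem_univ, if_true] at e1
    have e2 : f k (vec L fr) ≠ 0 := by rw [hfv]; exact h2 k
    rw [mul_comm] at e1
    exact (mul_left_cancel₀ e2 e1).symm
  apply eq_one_of_scalar s d
  intro x
  rw [hρ x]
  conv_rhs => rw [hexp x, Finset.smul_sum]
  apply Finset.sum_congr rfl
  intro k _
  rw [hcd, smul_smul, mul_comm]

end Cfsg.Agent.Lib.G2K4
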