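import Mathlib

set_option autoImplicit false

/-! Operators of order 7 and 13 on a 7-dimensional Lie algebra with invariant form over `𝔽₃`. -/

namespace Cfsg.Agent.Lib.G2ThreeLin

open Module Polynomial

variable {F : Type*} [Field F] {V : Type*} [AddCommGroup V] [Module F V]

/-- a 7-dim'l algebra with invariant form -/
structure LieForm (F V : Type*) [Field F] [AddCommGroup V] [Module F V] where
  c : V →ₗ[F] V →ₗ[F] V
  B : V →ₗ[F] V →ₗ[F] F
  alt : ∀ v, c v v = 0
  jac : ∀ u v w, c (c u v) w + c (c v w) u + c (c w u) v = 0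
  cent : ∀ l, (∀ v, c l v = 0) → l = 0
  perf : ∀ W : Submodule F V, (∀ u v, c u v ∈ W) → W = ⊤
  nondeg : ∀ u, (∀ v, B u v = 0) → u = 0

structure Pres (S : LieForm F V) (T : End F V) : Prop where
  pc : ∀ u v, S.c (T u) (T v) = T (S.c u v)
  pB : ∀ u v, S.B (T u) (T v) = S.B u v

theorem dvd_of_fpf [Finite F] [FiniteDimensional F V] (h3 : Nat.card F = 3) {r : ℕ} [hr : Fact r.Prime]
    {T : End F V} (hT : T ^ r = 1) (U : Submodule F V) (hU : ∀ u ∈ U, T u ∈ U)
    (hfix : ∀ u ∈ U, T u = u → u = 0) : r ∣ 3 ^ finrank F U - 1 := by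
  classical
  have hfin : Finite U := Module.finite_of_finite F
  have : Fintype U := Fintype.ofFinite U
  have hpow : ∀ (k : ℕ) (u : V), u ∈ U → (T ^ k) u ∈ U := by
    intro k
    induction k with
    | zero => intro u hu; simpa using hu
    | succ k ih => intro u hu; rw [pow_succ, Module.End.mul_apply]; exact ih _ (hU u hu)
  let f : Function.End U := fun u => ⟨T u, hU u u.2⟩
  have hf : ∀ k : ℕ, ∀ u : U, ((f ^ k) u : V) = (T ^ k) u := by
    intro k
    induction k with
    | zero => intro u; rfl
    | succ k ih => intro u; rw [pow_succ, pow_succ, Module.End.mul_apply]; exact ih (f u)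
  have hfr : f ^ r ^ 1 = 1 := by
    funext u
    apply Subtype.ext
    rw [hf, pow_one, hT]
    rfl
  have h1 := Equiv.Perm.card_fixedPoints_modEq hfr
  have h2 : Fintype.card (Function.fixedPoints f) = 1 := by
    rw [Fintype.card_eq_one_iff]
    refine ⟨⟨0, ?_⟩, ?_⟩
    · change f 0 = 0
      apply Subtype.ext
      change T ((0 : U) : V) = ((0 : U) : V)
      simp
    · rintro ⟨⟨u, hu⟩, h⟩
      apply Subtype.ext
      apply Subtype.ext
      exact hfix u hu (congrArg Subtype.val h)
  rw [h2] at h1
  have h3' : Fintype.card U = 3 ^ finrank F U := by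
    rw [← Nat.card_eq_fintype_card, Module.natCard_eq_pow_finrank (K := F), h3]
  rw [h3'] at h1
  exact (Nat.modEq_iff_dvd' (Nat.one_le_pow _ _ (by norm_num))).1 h1.symm

theorem dim_seven [Finite F] [FiniteDimensional F V] (h3 : Nat.card F = 3) {T : End F V} (hT : T ^ 7 = 1)
    (U : Submodule F V) (hU : ∀ u ∈ U, T u ∈ U)
    (hfix : ∀ u ∈ U, T u = u → u = 0) (hd : finrank F U ≤ 7) : finrank F U = 0 ∨ finrank F U = 6 := by
  have : Fact (Nat.Prime 7) := ⟨by norm_num⟩
  have h := dvd_of_fpf h3 hT U hU hfix
  generalize finrank F U = d at *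
  interval_cases d <;> revert h <;> decide

theorem dim_thirteen [Finite F] [FiniteDimensional F V] (h3 : Nat.card F = 3) {T : End F V} (hT : T ^ 13 = 1)
    (U : Submodule F V) (hU : ∀ u ∈ U, T u ∈ U)
    (hfix : ∀ u ∈ U, T u = u → u = 0) (hd : finrank F U ≤ 7) :
    finrank F U = 0 ∨ finrank F U = 3 ∨ finrank F U = 6 := by
  have : Fact (Nat.Prime 13) := ⟨by norm_num⟩
  have h := dvd_of_fpf h3 hT U hU hfix
  generalize finrank F U = d at *
  interval_cases d <;> revert h <;> decide

/-- fixed vectors of an operator of order `r` prime to the characteristic -/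
theorem disjoint_ker_range {r : ℕ} (hr : (r : F) ≠ 0) {T : End F V} (hT : T ^ r = 1) {w : V}
    (h : T (T w - w) = T w - w) : T w = w := by
  set u := T w - w with hu
  have h1 : ∀ k : ℕ, (T ^ k) w = w + k • u := by
    intro k
    induction k with
    | zero => simp
    | succ k ih =>
      rw [pow_succ', Module.End.mul_apply, ih, map_add, map_nsmul, h, add_smul, one_smul]
      rw [hu]; abel
  have h2 := h1 r
  rw [hT, Module.End.one_apply] at h2
  have h3 : r • u = 0 := by
    have := h2.symm
    rwa [add_eq_left] at this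
  rw [← Nat.cast_smul_eq_nsmul F] at h3
  have h4 := (smul_eq_zero.1 h3).resolve_left hr
  rw [hu] at h4
  exact sub_eq_zero.1 h4

/-- A subspace `X` on which every `T`-invariant subspace is trivial. -/
def Irr (T : End F V) (X : Submodule F V) : Prop :=
  ∀ U : Submodule F V, U ≤ X → (∀ u ∈ U, T u ∈ U) → U = ⊥ ∨ U = X

/-- stable under the commutant -/
def Stab (T : End F V) (X : Submodule F V) : Prop := ∀ h : End F V, h * T = T * h → ∀ x ∈ X, h x ∈ X

theorem commute_aeval {h T : End F V} (hh : Commute h T) (p : F[X]) : Commute h (aeval T p) := by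
  induction p using Polynomial.induction_on' with
  | add p q hp hq => rw [map_add]; exact hp.add_right hq
  | monomial n a =>
    rw [aeval_monomial]
    exact Commute.mul_right (Algebra.commutes a h).symm (hh.pow_right n)

theorem stab_ker (T : End F V) (p : F[X]) : Stab T (LinearMap.ker (aeval T p)) := by
  intro h hh x hx
  rw [LinearMap.mem_ker] at hx ⊢
  have h2 : Commute h (aeval T p) := commute_aeval hh p
  have := congrArg (fun f : End F V => f x) h2.eq
  simp only [Module.End.mul_apply] at this
  rw [← this, hx, map_zero]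

theorem stab_of_eq_ker {T : End F V} {X : Submodule F V} (p : F[X]) (h : X = LinearMap.ker (aeval T p)) :
    Stab T X := by rw [h]; exact stab_ker T p

/-- fixed space -/
def fx (h : End F V) (a : F) : Submodule F V := LinearMap.ker (h - a • (1 : End F V))

theorem mem_fx {h : End F V} {a : F} {x : V} : x ∈ fx h a ↔ h x = a • x := by
  unfold fx
  rw [LinearMap.mem_ker, LinearMap.sub_apply, sub_eq_zero, LinearMap.smul_apply, Module.End.one_apply]

theorem fx_inv {T h : End F V} (hh : h * T = T * h) {X : Submodule F V} (hX : ∀ x ∈ X, T x ∈ X) (a : F) :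
    ∀ u ∈ X ⊓ fx h a, T u ∈ X ⊓ fx h a := by
  rintro u ⟨h1, h2⟩
  refine ⟨hX u h1, ?_⟩
  rw [SetLike.mem_coe, mem_fx] at h2 ⊢
  have := congrArg (fun f : End F V => f u) hh
  simp only [Module.End.mul_apply] at this
  rw [this, h2, map_smul]

/-- a commuting element of order `3` acts trivially on irreducible pieces -/
theorem fix_of_cube (h3 : (3 : F) = 0) {T h : End F V} (hh : h * T = T * h) (hc : h ^ 3 = 1) {X : Submodule F V}
    (hI : Irr T X) (hT : ∀ x ∈ X, T x ∈ X) (hX : ∀ x ∈ X, h x ∈ X) : ∀ x ∈ X, h x = x := by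
  rcases hI (X ⊓ fx h 1) inf_le_left (fx_inv hh hT 1) with h1 | h1
  · intro x hx
    have key : ∀ y ∈ X, h y = y → y = 0 := by
      intro y hy hyy
      have : y ∈ X ⊓ fx h 1 := ⟨hy, by rw [SetLike.mem_coe, mem_fx, one_smul]; exact hyy⟩
      rw [h1] at this
      exact (Submodule.mem_bot F).1 this
    have hz : h (h (h x)) = x := by
      have := congrArg (fun f : End F V => f x) hc
      rw [pow_succ, pow_succ, pow_one] at this
      simpa [Module.End.mul_apply] using this
    -- (h-1)^3 = 0
    have e1 : ∀ y : V, (3 : ℕ) • y = 0 := fun y => by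
      rw [← Nat.cast_smul_eq_nsmul F]
      have : ((3 : ℕ) : F) = 0 := by exact_mod_cast h3
      rw [this, zero_smul]
    have hx1 := hX x hx
    have hx2 := hX _ hx1
    have a1 : h (h (h x)) - 3 • h (h x) + 3 • h x - x = 0 := by
      rw [e1, e1, hz]; abel
    have b2 := key (h (h x) - 2 • h x + x) (X.add_mem (X.sub_mem hx2 (X.smul_of_tower_mem 2 hx1)) hx) (by
      rw [map_add, map_sub, map_nsmul]
      rw [← sub_eq_zero]
      rw [← a1]
      abel)
    have b3 := key (h x - x) (X.sub_mem hx1 hx) (by
      rw [map_sub, ← sub_eq_zero, ← b2]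
      abel)
    exact sub_eq_zero.1 b3
  · intro x hx
    rw [← h1] at hx
    have := hx.2
    rw [SetLike.mem_coe, mem_fx, one_smul] at this
    exact this

/-- a commuting involution acts as a sign on irreducible pieces -/
theorem sign_of_sq {T h : End F V} (hh : h * T = T * h) (hc : h * h = 1) {X : Submodule F V}
    (hI : Irr T X) (hT : ∀ x ∈ X, T x ∈ X) (hX : ∀ x ∈ X, h x ∈ X) :
    (∀ x ∈ X, h x = x) ∨ (∀ x ∈ X, h x = -x) := by
  rcases hI (X ⊓ fx h 1) inf_le_left (fx_inv hh hT 1) with h1 | h1
  · right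
    intro x hx
    have hz : h (h x) = x := by
      have := congrArg (fun f : End F V => f x) hc
      simpa [Module.End.mul_apply] using this
    have : h x + x ∈ X ⊓ fx h 1 := ⟨X.add_mem (hX x hx) hx, by
      rw [SetLike.mem_coe, mem_fx, one_smul, map_add, hz, add_comm]⟩
    rw [h1] at this
    exact eq_neg_of_add_eq_zero_left ((Submodule.mem_bot F).1 this)
  · left
    intro x hx
    rw [← h1] at hx
    have := hx.2
    rw [SetLike.mem_coe, mem_fx, one_smul] at this
    exact this

theorem irr_of_finrank_one [FiniteDimensional F V] (T : End F V) {X : Submodule F V} (h : finrank F X = 1) : Irr T X := by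
  intro U hU _
  have h1 := Submodule.finrank_mono hU
  rw [h] at h1
  rcases Nat.le_one_iff_eq_zero_or_eq_one.1 h1 with h2 | h2
  · left; exact Submodule.finrank_eq_zero.1 h2
  · right; exact Submodule.eq_of_le_of_finrank_eq hU (by rw [h2, h])

section main

variable [Finite F] [FiniteDimensional F V] (h3 : Nat.card F = 3) (h7 : finrank F V = 7)

include h3 in
theorem char_three : (3 : F) = 0 := by
  have : Fintype F := Fintype.ofFinite F
  have h1 : ((Fintype.card F : ℕ) : F) = 0 := Nat.cast_card_eq_zero F
  rw [← Nat.card_eq_fintype_card, h3] at h1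
  exact_mod_cast h1

include h3 in
theorem two_ne : (2 : F) ≠ 0 := by
  intro h
  have h1 := char_three h3
  exact one_ne_zero (α := F) (by linear_combination h1 - h)

/-- The structure of an operator with `V = W ⊕ L`. -/
structure Dec (T : End F V) (W L : Submodule F V) : Prop where
  top : W ⊔ L = ⊤
  inf : W ⊓ L = ⊥
  dW : finrank F W = 6
  dL : finrank F L = 1
  fL : ∀ x, x ∈ L ↔ T x = x
  rW : ∀ x, T x - x ∈ W
  rW' : ∀ w ∈ W, ∃ x, w = T x - x
  four : ∀ U : Submodule F V, U ≤ W → (∀ u ∈ U, T u ∈ U) → 4 ≤ finrank F U → U = W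

theorem Dec.WT {T : End F V} {W L : Submodule F V} (D : Dec T W L) : ∀ w ∈ W, T w ∈ W := by
  intro w hw
  have := W.add_mem (D.rW w) hw
  rwa [sub_add_cancel] at this

omit [Finite F] [FiniteDimensional F V] in
theorem LieForm.anti (S : LieForm F V) (u v : V) : S.c u v = - S.c v u := by
  have h := S.alt (u + v)
  simp only [map_add, LinearMap.add_apply, S.alt, zero_add, add_zero] at h
  exact eq_neg_of_add_eq_zero_right h

include h3 in
/-- The involution argument. -/
theorem no_involution (S : LieForm F V) {T h : End F V} (pT : Pres S T) (ph : Pres S h) (hh : h * T = T * h)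
    (_hsq : h * h = 1) (h1 : h ≠ 1) {W L : Submodule F V} (D : Dec T W L)
    (sW : (∀ x ∈ W, h x = x) ∨ (∀ x ∈ W, h x = -x)) (sL : (∀ x ∈ L, h x = x) ∨ (∀ x ∈ L, h x = -x)) : False := by
  have h2 := two_ne h3
  have hdec : ∀ x : V, ∃ w ∈ W, ∃ l ∈ L, x = w + l := by
    intro x
    have : x ∈ W ⊔ L := by rw [D.top]; trivial
    obtain ⟨w, hw, l, hl, rfl⟩ := Submodule.mem_sup.1 this
    exact ⟨w, hw, l, hl, rfl⟩
  have hneg : ∀ x : V, x = -x → x = 0 := by
    intro x hx
    have : (2 : F) • x = 0 := by
      rw [two_smul]; nth_rewrite 1 [hx]; simp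
    exact (smul_eq_zero.1 this).resolve_left h2
  -- a central `l`
  have hcent : ∀ l ∈ L, (∀ w ∈ W, S.c l w = 0) → l = 0 := by
    intro l hl hw
    apply S.cent
    intro v
    obtain ⟨w, hw', l', hl', rfl⟩ := hdec v
    rw [map_add, hw w hw', zero_add]
    -- L is one-dimensional
    by_cases hl0 : l = 0
    · rw [hl0]; simp
    · obtain ⟨a, ha⟩ : ∃ a : F, a • l = l' := by
        have h5 := (finrank_eq_one_iff_of_nonzero' (⟨l, hl⟩ : L) (by
          intro h; exact hl0 (congrArg Subtype.val h))).1 D.dL ⟨l', hl'⟩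
        obtain ⟨a, ha⟩ := h5
        exact ⟨a, congrArg Subtype.val ha⟩
      rw [← ha, map_smul, S.alt, smul_zero]
  have hLne : ∃ l ∈ L, l ≠ 0 := by
    have : L ≠ ⊥ := by
      intro h
      have := D.dL
      rw [h, finrank_bot] at this
      exact absurd this (by norm_num)
    exact Submodule.exists_mem_ne_zero_of_ne_bot this
  rcases sW with sW | sW <;> rcases sL with sL | sL
  · -- h = 1
    apply h1
    apply LinearMap.ext
    intro x
    obtain ⟨w, hw, l, hl, rfl⟩ := hdec x
    rw [map_add, sW w hw, sL l hl]; rfl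
  · -- (1,-1)
    obtain ⟨l, hl, hl0⟩ := hLne
    apply hl0
    apply hcent l hl
    intro w hw
    -- c l w ∈ L
    have hcl : ∀ w ∈ W, T (S.c l w) = S.c l w := by
      intro w hw
      have h5 : h (S.c l w) = - S.c l w := by
        rw [← ph.pc, sL l hl, sW w hw, map_neg, LinearMap.neg_apply]
      obtain ⟨a, ha, b, hb, hab⟩ := hdec (S.c l w)
      rw [hab, map_add, sW a ha, sL b hb] at h5
      have : a = 0 := by
        apply hneg
        have : a + -b = -a + -b := by rw [h5]; abel
        exact add_right_cancel this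
      rw [this, zero_add] at hab
      rw [hab]
      exact (D.fL b).1 hb
    obtain ⟨x, rfl⟩ := D.rW' w hw
    obtain ⟨w', hw', l', hl', rfl⟩ := hdec x
    have e1 : T (w' + l') - (w' + l') = T w' - w' := by
      rw [map_add, (D.fL l').1 hl']; abel
    rw [e1, map_sub]
    have h6 := pT.pc l w'
    rw [(D.fL l).1 hl, hcl w' hw'] at h6
    rw [h6, sub_self]
  · -- (-1,1)
    obtain ⟨l0, hl0, hl00⟩ := hLne
    have hWL : ∀ u ∈ W, ∀ v ∈ W, S.c u v ∈ L := by
      intro u hu v hv
      have h5 : h (S.c u v) = S.c u v := by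
        rw [← ph.pc, sW u hu, sW v hv, map_neg, map_neg, LinearMap.neg_apply, neg_neg]
      obtain ⟨a, ha, b, hb, hab⟩ := hdec (S.c u v)
      rw [hab, map_add, sW a ha, sL b hb] at h5
      have : a = 0 := by
        apply hneg
        exact (add_right_cancel h5).symm
      rw [this, zero_add] at hab
      rw [hab]; exact hb
    have hLW : ∀ l ∈ L, ∀ w ∈ W, S.c l w ∈ W := by
      intro l hl v hv
      have h5 : h (S.c l v) = - S.c l v := by
        rw [← ph.pc, sL l hl, sW v hv, map_neg]
      obtain ⟨a, ha, b, hb, hab⟩ := hdec (S.c l v)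
      rw [hab, map_add, sW a ha, sL b hb] at h5
      have : b = 0 := by
        apply hneg
        have : -a + b = -a + -b := by rw [h5]; abel
        exact add_left_cancel this
      rw [this, add_zero] at hab
      rw [hab]; exact ha
    have hspan : ∀ x ∈ L, ∃ a : F, x = a • l0 := by
      intro x hx
      have h5 := (finrank_eq_one_iff_of_nonzero' (⟨l0, hl0⟩ : L) (by
        intro h; exact hl00 (congrArg Subtype.val h))).1 D.dL ⟨x, hx⟩
      obtain ⟨a, ha⟩ := h5
      exact ⟨a, (congrArg Subtype.val ha).symm⟩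
    -- some product in W is nonzero
    obtain ⟨u, hu, v, hv, huv⟩ : ∃ u ∈ W, ∃ v ∈ W, S.c u v ≠ 0 := by
      by_contra hcon
      push Not at hcon
      have hW : W = ⊤ := by
        apply S.perf
        intro x y
        obtain ⟨w, hw, l, hl, rfl⟩ := hdec x
        obtain ⟨w', hw', l', hl', rfl⟩ := hdec y
        simp only [map_add, LinearMap.add_apply]
        rw [hcon w hw w' hw', zero_add]
        obtain ⟨a, ha⟩ := hspan l hl
        obtain ⟨b, hb⟩ := hspan l' hl'
        have h6 : S.c l l' = 0 := by
          rw [ha, hb, map_smul, map_smul, LinearMap.smul_apply, S.alt, smul_zero, smul_zero]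
        rw [h6, add_zero]
        refine W.add_mem (hLW l hl w' hw') ?_
        rw [S.anti w l']
        exact W.neg_mem (hLW l' hl' w hw)
      have := D.inf
      rw [hW, top_inf_eq] at this
      rw [this] at hl0
      exact hl00 ((Submodule.mem_bot F).1 hl0)
    obtain ⟨a, ha⟩ := hspan _ (hWL u hu v hv)
    have ha0 : a ≠ 0 := by
      intro h
      rw [h, zero_smul] at ha
      exact huv ha
    -- A = c l0
    have hA : ∀ w ∈ W, S.c l0 w ∈ Submodule.span F {S.c l0 u, S.c l0 v} := by
      intro w hw
      obtain ⟨b, hb⟩ := hspan _ (hWL v hv w hw)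
      obtain ⟨d, hd⟩ := hspan _ (hWL w hw u hu)
      have hj := S.jac u v w
      rw [ha, hb, hd, map_smul, map_smul, map_smul, LinearMap.smul_apply, LinearMap.smul_apply,
        LinearMap.smul_apply] at hj
      have : S.c l0 w = (-(a⁻¹ * b)) • S.c l0 u + (-(a⁻¹ * d)) • S.c l0 v := by
        have h8 : a • S.c l0 w = -(b • S.c l0 u + d • S.c l0 v) := by
          rw [eq_neg_iff_add_eq_zero, ← hj]; abel
        calc S.c l0 w = a⁻¹ • (a • S.c l0 w) := by rw [smul_smul, inv_mul_cancel₀ ha0, one_smul]
          _ = _ := by rw [h8]; module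
      rw [this]
      exact Submodule.add_mem _ (Submodule.smul_mem _ _ (Submodule.subset_span (by simp)))
        (Submodule.smul_mem _ _ (Submodule.subset_span (by simp)))
    -- kernel of A on W
    let K : Submodule F V := W ⊓ LinearMap.ker (S.c l0)
    have hK : K = W := by
      apply D.four K inf_le_left
      · rintro x ⟨hx1, hx2⟩
        refine ⟨D.WT x hx1, ?_⟩
        rw [SetLike.mem_coe, LinearMap.mem_ker] at hx2 ⊢
        have h6 := pT.pc l0 x
        rw [(D.fL l0).1 hl0, hx2, map_zero] at h6
        exact h6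
      · have h6 := LinearMap.finrank_range_add_finrank_ker ((S.c l0).domRestrict W)
        have h7 : finrank F (LinearMap.range ((S.c l0).domRestrict W)) ≤ 2 := by
          have h8 : LinearMap.range ((S.c l0).domRestrict W) ≤ Submodule.span F {S.c l0 u, S.c l0 v} := by
            rintro _ ⟨w, rfl⟩
            exact hA w w.2
          refine (Submodule.finrank_mono h8).trans ?_
          classical
          have h9 := finrank_span_finset_le_card (R := F) ({S.c l0 u, S.c l0 v} : Finset V)
          rw [Finset.coe_pair] at h9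
          exact h9.trans Finset.card_le_two
        have h8 : finrank F (LinearMap.ker ((S.c l0).domRestrict W)) = finrank F K := by
          have e : K = (LinearMap.ker ((S.c l0).domRestrict W)).map W.subtype := by
            ext x
            simp [K, LinearMap.mem_ker, and_comm]
          rw [e, Submodule.finrank_map_subtype_eq]
        rw [D.dW] at h6
        omega
    apply hl00
    apply hcent l0 hl0
    intro w hw
    rw [← hK] at hw
    exact hw.2
  · -- (-1,-1)
    have hh' : ∀ x, h x = -x := by
      intro x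
      obtain ⟨w, hw, l, hl, rfl⟩ := hdec x
      rw [map_add, sW w hw, sL l hl]; abel
    obtain ⟨l, hl, hl0⟩ := hLne
    apply hl0
    apply S.cent
    intro v
    have := ph.pc l v
    rw [hh', hh', hh', map_neg, map_neg, LinearMap.neg_apply, neg_neg] at this
    exact hneg _ this

/-! ### order 7 -/

omit [Finite F] [FiniteDimensional F V] in
theorem stab_fx (T : End F V) (a : F) : Stab T (fx T a) := by
  intro h hh x hx
  rw [mem_fx] at hx ⊢
  have := congrArg (fun f : End F V => f x) hh
  simp only [Module.End.mul_apply] at this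
  rw [← this, hx, map_smul]

omit [Finite F] [FiniteDimensional F V] in
theorem stab_range (T : End F V) : Stab T (LinearMap.range (T - 1)) := by
  rintro h hh _ ⟨x, rfl⟩
  refine ⟨h x, ?_⟩
  have := congrArg (fun f : End F V => f x) hh
  simp only [Module.End.mul_apply] at this
  rw [LinearMap.sub_apply, LinearMap.sub_apply, map_sub, this]
  rfl

omit [Finite F] [FiniteDimensional F V] in
theorem Stab.self {T : End F V} {X : Submodule F V} (h : Stab T X) : ∀ x ∈ X, T x ∈ X := h T rfl

omit [Finite F] in
theorem ker_range {r : ℕ} (hr : (r : F) ≠ 0) {T : End F V} (hT : T ^ r = 1) :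
    LinearMap.range (T - 1) ⊓ fx T 1 = ⊥ ∧ LinearMap.range (T - 1) ⊔ fx T 1 = ⊤ ∧
      finrank F (LinearMap.range (T - 1)) + finrank F (fx T 1) = finrank F V := by
  have h1 : LinearMap.range (T - 1) ⊓ fx T 1 = ⊥ := by
    rw [Submodule.eq_bot_iff]
    rintro _ ⟨⟨w, rfl⟩, hw⟩
    rw [SetLike.mem_coe, mem_fx, one_smul] at hw
    have := disjoint_ker_range hr hT (w := w) hw
    rw [LinearMap.sub_apply, Module.End.one_apply, this, sub_self]
  have h2 : finrank F (LinearMap.range (T - 1)) + finrank F (fx T 1) = finrank F V := by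
    have := LinearMap.finrank_range_add_finrank_ker (T - 1)
    unfold fx
    rw [one_smul]
    exact this
  refine ⟨h1, ?_, h2⟩
  apply Submodule.eq_top_of_finrank_eq
  have := Submodule.finrank_sup_add_finrank_inf_eq (LinearMap.range (T - 1)) (fx T 1)
  rw [h1, finrank_bot, add_zero] at this
  rw [this, h2]

include h3 h7 in
theorem seven_dec {T : End F V} (hT : T ^ 7 = 1) (hne : T ≠ 1) :
    Dec T (LinearMap.range (T - 1)) (fx T 1) ∧ Irr T (LinearMap.range (T - 1)) := by
  have hr : ((7 : ℕ) : F) ≠ 0 := by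
    intro h
    have h1 := char_three h3
    push_cast at h
    exact one_ne_zero (α := F) (by linear_combination h - 2 * h1)
  obtain ⟨h1, h2, hd⟩ := ker_range hr hT
  rw [h7] at hd
  have key : ∀ U : Submodule F V, U ≤ LinearMap.range (T - 1) → (∀ u ∈ U, T u ∈ U) →
      finrank F U = 0 ∨ finrank F U = 6 := by
    intro U hU hUT
    apply dim_seven h3 hT U hUT
    · intro u hu huT
      have : u ∈ LinearMap.range (T - 1) ⊓ fx T 1 := ⟨hU hu, by rw [SetLike.mem_coe, mem_fx, one_smul]; exact huT⟩
      rw [h1] at this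
      exact (Submodule.mem_bot F).1 this
    · rw [← h7]; exact Submodule.finrank_le U
  have hW6 : finrank F (LinearMap.range (T - 1)) = 6 := by
    rcases key _ le_rfl (stab_range T).self with h | h
    · exfalso
      apply hne
      have h5 := Submodule.finrank_eq_zero.1 h
      rw [LinearMap.range_eq_bot] at h5
      exact sub_eq_zero.1 h5
    · exact h
  refine ⟨⟨h2, h1, hW6, by omega, ?_, ?_, ?_, ?_⟩, ?_⟩
  · intro x; rw [mem_fx, one_smul]
  · intro x; exact ⟨x, rfl⟩
  · rintro _ ⟨x, rfl⟩; exact ⟨x, rfl⟩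
  · intro U hU hUT h4
    rcases key U hU hUT with h | h
    · omega
    · exact Submodule.eq_of_le_of_finrank_eq hU (by rw [h, hW6])
  · intro U hU hUT
    rcases key U hU hUT with h | h
    · left; exact Submodule.finrank_eq_zero.1 h
    · right; exact Submodule.eq_of_le_of_finrank_eq hU (by rw [h, hW6])

omit [Finite F] [FiniteDimensional F V] in
theorem eq_one_of_dec {h : End F V} {W L : Submodule F V} (ht : W ⊔ L = ⊤) (h1 : ∀ x ∈ W, h x = x)
    (h2 : ∀ x ∈ L, h x = x) : h = 1 := by
  apply LinearMap.ext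
  intro x
  have : x ∈ W ⊔ L := by rw [ht]; trivial
  obtain ⟨w, hw, l, hl, rfl⟩ := Submodule.mem_sup.1 this
  rw [map_add, h1 w hw, h2 l hl]; rfl

include h3 h7 in
theorem seven_three {T h : End F V} (hT : T ^ 7 = 1) (hne : T ≠ 1) (hh : h * T = T * h) (hc : h ^ 3 = 1) : h = 1 := by
  obtain ⟨D, hI⟩ := seven_dec h3 h7 hT hne
  apply eq_one_of_dec D.top
  · exact fix_of_cube (char_three h3) hh hc hI (stab_range T).self (stab_range T h hh)
  · exact fix_of_cube (char_three h3) hh hc (irr_of_finrank_one T D.dL) (stab_fx T 1).self (stab_fx T 1 h hh)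

include h3 h7 in
theorem seven_two (S : LieForm F V) {T h : End F V} (pT : Pres S T) (ph : Pres S h) (hT : T ^ 7 = 1) (hne : T ≠ 1)
    (hh : h * T = T * h) (hc : h * h = 1) : h = 1 := by
  by_contra h1
  obtain ⟨D, hI⟩ := seven_dec h3 h7 hT hne
  exact no_involution h3 S pT ph hh hc h1 D
    (sign_of_sq hh hc hI (stab_range T).self (stab_range T h hh))
    (sign_of_sq hh hc (irr_of_finrank_one T D.dL) (stab_fx T 1).self (stab_fx T 1 h hh))

/-! ### order 13 -/

/-- the cubics -/
noncomputable def cub (a b : F) : F[X] := X ^ 3 + C a * X ^ 2 + C b * X - 1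

omit [Finite F] [FiniteDimensional F V] in
theorem aeval_cub (T : End F V) (a b : F) (v : V) :
    aeval T (cub a b) v = T (T (T v)) + a • T (T v) + b • T v - v := by
  unfold cub
  simp only [map_sub, map_add, map_mul, map_pow, aeval_X, aeval_C, map_one, LinearMap.sub_apply, LinearMap.add_apply,
    Module.End.mul_apply, Module.End.one_apply, Module.algebraMap_end_apply, pow_succ, pow_zero, one_mul]

include h3 in
theorem cub_prod : (X ^ 13 - 1 : F[X]) = (X - 1) * (cub 1 0 * cub 1 1 * cub 0 (-1) * cub (-1) (-1)) := by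
  have h : (3 : F[X]) = 0 := by
    have := char_three h3
    have h5 : (C (3 : F) : F[X]) = 0 := by rw [this, map_zero]
    exact_mod_cast h5
  unfold cub
  simp only [map_one, map_zero, map_neg]
  linear_combination (-(X^2 + 2*X^3 + -1*X^4 + -4*X^5 + -3*X^6 + 3*X^7 + 4*X^8 + 1*X^9 + -2*X^10 + -1*X^11) : F[X]) * h

omit [Finite F] [FiniteDimensional F V] in
theorem adj_cub (S : LieForm F V) {T : End F V} (pT : Pres S T) (a b : F) (v v' : V) :
    S.B (T (T (T v))) (aeval T (cub a b) v') = - S.B (aeval T (cub (-b) (-a)) v) v' := by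
  rw [aeval_cub, aeval_cub]
  simp only [map_add, map_sub, map_smul, pT.pB, LinearMap.add_apply, LinearMap.sub_apply, LinearMap.smul_apply,
    neg_smul, map_neg, LinearMap.neg_apply]
  abel

omit [Finite F] [FiniteDimensional F V] in
theorem cub_coprime {T : End F V} (hT : T ^ 13 = 1) (h2 : (2 : F) ≠ 0) {a b : F} (hab : a + b ≠ 0) {v : V}
    (h1 : aeval T (cub a b) v = 0) (h1' : aeval T (cub (-b) (-a)) v = 0) : v = 0 := by
  rw [aeval_cub] at h1 h1'
  have h5 : (a + b) • (T (T v) + T v) = 0 := by
    have : (a + b) • (T (T v) + T v) = (T (T (T v)) + a • T (T v) + b • T v - v) -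
      (T (T (T v)) + (-b) • T (T v) + (-a) • T v - v) := by module
    rw [this, h1, h1', sub_zero]
  have h6 := (smul_eq_zero.1 h5).resolve_left hab
  have hinj : ∀ x : V, T x = 0 → x = 0 := by
    intro x hx
    have : (T ^ 13) x = x := by rw [hT]; rfl
    rw [pow_succ, Module.End.mul_apply, hx, map_zero] at this
    exact this.symm
  have h8 : T v = -v := by
    have : T (T v + v) = 0 := by rw [map_add]; exact h6
    exact eq_neg_of_add_eq_zero_left (hinj _ this)
  have h9 : ∀ k : ℕ, (T ^ (2 * k + 1)) v = -v := by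
    intro k
    induction k with
    | zero => simpa using h8
    | succ k ih =>
      rw [show 2 * (k + 1) + 1 = (2 * k + 1) + 1 + 1 by ring, pow_succ, pow_succ, Module.End.mul_apply,
        Module.End.mul_apply, h8, map_neg, h8, map_neg, map_neg, ih, neg_neg, ]
  have h10 := h9 6
  rw [show 2 * 6 + 1 = 13 by norm_num, hT, Module.End.one_apply] at h10
  have : (2 : F) • v = 0 := by
    rw [two_smul]; nth_rewrite 1 [h10]; simp
  exact (smul_eq_zero.1 this).resolve_left h2

omit [Finite F] [FiniteDimensional F V] in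
theorem fx_eq_ker (T : End F V) : fx T 1 = LinearMap.ker (aeval T (X - 1 : F[X])) := by
  unfold fx
  rw [one_smul, map_sub, aeval_X, map_one]

include h3 h7 in
theorem thirteen_dec (S : LieForm F V) {T : End F V} (pT : Pres S T) (hT : T ^ 13 = 1) (hne : T ≠ 1) :
    ∃ a b : F, ∃ g : F[X], a + b ≠ 0 ∧ finrank F (LinearMap.ker (aeval T (cub a b))) = 3 ∧
      finrank F (LinearMap.ker (aeval T g)) = 3 ∧ finrank F (fx T 1) = 1 ∧
      LinearMap.ker (aeval T (cub a b)) ⊔ LinearMap.ker (aeval T g) = LinearMap.range (T - 1) ∧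
      (∀ v ∈ LinearMap.ker (aeval T (cub a b)), T v = v → v = 0) ∧
      (∀ v ∈ LinearMap.ker (aeval T g), T v = v → v = 0) := by
  have h2 := two_ne h3
  have hr : ((13 : ℕ) : F) ≠ 0 := by
    intro h
    have h1 := char_three h3
    push_cast at h
    exact one_ne_zero (α := F) (by linear_combination h - 4 * h1)
  obtain ⟨hd1, hd2, hd⟩ := ker_range hr hT
  rw [h7] at hd
  have hsep : (X ^ 13 - 1 : F[X]).Separable := by
    have := separable_X_pow_sub_C (1 : F) hr one_ne_zero
    rwa [map_one] at this
  have haz : aeval T (X ^ 13 - 1 : F[X]) = 0 := by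
    rw [map_sub, map_pow, aeval_X, map_one, hT, sub_self]
  -- choose the factor
  obtain ⟨a, b, g, hab, hg, hK⟩ : ∃ a b : F, ∃ g : F[X], a + b ≠ 0 ∧ (X ^ 13 - 1 : F[X]) = (X - 1) * (cub a b * g) ∧
      LinearMap.ker (aeval T (cub a b)) ≠ ⊥ := by
    by_contra hcon
    push Not at hcon
    have hp := cub_prod h3
    have k1 := hcon 1 0 (cub 1 1 * cub 0 (-1) * cub (-1) (-1)) (by simp) (by rw [hp]; ring)
    have k2 := hcon 1 1 (cub 1 0 * cub 0 (-1) * cub (-1) (-1)) (by rw [one_add_one_eq_two]; exact h2) (by rw [hp]; ring)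
    have k3 := hcon 0 (-1) (cub 1 0 * cub 1 1 * cub (-1) (-1)) (by simp) (by rw [hp]; ring)
    have k4 := hcon (-1) (-1) (cub 1 0 * cub 1 1 * cub 0 (-1)) (by
      intro h; apply h2; linear_combination -h) (by rw [hp]; ring)
    rw [LinearMap.ker_eq_bot] at k1 k2 k3 k4
    have k5 : Function.Injective (aeval T (cub 1 0 * cub 1 1 * cub 0 (-1) * cub (-1) (-1) : F[X])) := by
      rw [map_mul, map_mul, map_mul]
      exact ((k1.comp k2).comp k3).comp k4
    apply hne
    have h6 := haz
    rw [hp, mul_comm, map_mul] at h6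
    apply LinearMap.ext
    intro x
    have h7 := congrArg (fun f : End F V => f x) h6
    simp only [Module.End.mul_apply, LinearMap.zero_apply] at h7
    have h8 := k5 (h7.trans (map_zero _).symm)
    rw [map_sub, aeval_X, map_one, LinearMap.sub_apply] at h8
    exact sub_eq_zero.1 h8
  have hs1 : IsCoprime (X - 1 : F[X]) (cub a b * g) := by
    rw [hg] at hsep; exact hsep.isCoprime
  have hs2 : IsCoprime (cub a b) g := by
    rw [hg] at hsep; exact hsep.of_mul_right.isCoprime
  have hs3 : IsCoprime (X - 1 : F[X]) (cub a b) := hs1.of_mul_right_left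
  have hs4 : IsCoprime (X - 1 : F[X]) g := hs1.of_mul_right_right
  have hfixK : ∀ v ∈ LinearMap.ker (aeval T (cub a b)), T v = v → v = 0 := by
    intro v hv hTv
    have := disjoint_ker_aeval_of_isCoprime T hs3
    rw [← fx_eq_ker, disjoint_iff] at this
    have h8 : v ∈ fx T 1 ⊓ LinearMap.ker (aeval T (cub a b)) := ⟨by
      rw [SetLike.mem_coe, mem_fx, one_smul]; exact hTv, hv⟩
    rw [this] at h8
    exact (Submodule.mem_bot F).1 h8
  have hfixR : ∀ v ∈ LinearMap.ker (aeval T g), T v = v → v = 0 := by
    intro v hv hTv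
    have := disjoint_ker_aeval_of_isCoprime T hs4
    rw [← fx_eq_ker, disjoint_iff] at this
    have h8 : v ∈ fx T 1 ⊓ LinearMap.ker (aeval T g) := ⟨by
      rw [SetLike.mem_coe, mem_fx, one_smul]; exact hTv, hv⟩
    rw [this] at h8
    exact (Submodule.mem_bot F).1 h8
  have hle7 : ∀ U : Submodule F V, finrank F U ≤ 7 := fun U => by rw [← h7]; exact Submodule.finrank_le U
  have hKd := dim_thirteen h3 hT _ (stab_ker T (cub a b)).self hfixK (hle7 _)
  have hRd := dim_thirteen h3 hT _ (stab_ker T g).self hfixR (hle7 _)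
  have hK0 : finrank F (LinearMap.ker (aeval T (cub a b))) ≠ 0 := fun h => hK (Submodule.finrank_eq_zero.1 h)
  have hKR := disjoint_ker_aeval_of_isCoprime T hs2
  have hsupKR := sup_ker_aeval_eq_ker_aeval_mul_of_coprime T hs2
  have hsup : fx T 1 ⊔ LinearMap.ker (aeval T (cub a b * g)) = ⊤ := by
    rw [fx_eq_ker, sup_ker_aeval_eq_ker_aeval_mul_of_coprime T hs1, ← hg, haz]
    exact LinearMap.ker_zero
  have hdisj : fx T 1 ⊓ LinearMap.ker (aeval T (cub a b * g)) = ⊥ := by
    have := disjoint_ker_aeval_of_isCoprime T hs1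
    rwa [← fx_eq_ker, disjoint_iff] at this
  have e1 := Submodule.finrank_sup_add_finrank_inf_eq (fx T 1) (LinearMap.ker (aeval T (cub a b * g)))
  rw [hsup, hdisj, finrank_top, finrank_bot, h7] at e1
  have e2 := Submodule.finrank_sup_add_finrank_inf_eq (LinearMap.ker (aeval T (cub a b))) (LinearMap.ker (aeval T g))
  rw [hsupKR, disjoint_iff.1 hKR, finrank_bot] at e2
  -- the kernel of `cub * g` is the range of `T - 1`
  have hrange : LinearMap.ker (aeval T (cub a b * g)) = LinearMap.range (T - 1) := by
    symm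
    apply Submodule.eq_of_le_of_finrank_eq
    · rintro _ ⟨x, rfl⟩
      rw [LinearMap.mem_ker]
      have h8 := congrArg (fun f : End F V => f x) haz
      rw [hg, mul_comm, map_mul] at h8
      simp only [Module.End.mul_apply, LinearMap.zero_apply] at h8
      rw [map_sub, aeval_X, map_one] at h8
      exact h8
    · omega
  -- R ≠ 0
  have hR0 : finrank F (LinearMap.ker (aeval T g)) ≠ 0 := by
    intro h0
    have hR := Submodule.finrank_eq_zero.1 h0
    rw [hR, sup_bot_eq] at hsupKR
    -- f(T) kills the range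
    have hk : ∀ x, aeval T (cub a b) (T x - x) = 0 := by
      intro x
      have : T x - x ∈ LinearMap.ker (aeval T (cub a b)) := by
        rw [hsupKR, hrange]; exact ⟨x, rfl⟩
      exact LinearMap.mem_ker.1 this
    have hk' : ∀ x, T (aeval T (cub (-b) (-a)) x) = aeval T (cub (-b) (-a)) x := by
      intro x
      set y := aeval T (cub (-b) (-a)) x with hy
      have h8 : ∀ v', S.B y (T v' - v') = 0 := by
        intro v'
        have := adj_cub S pT a b x (T v' - v')
        rw [hk, map_zero] at this
        rw [← hy] at this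
        exact neg_eq_zero.1 this.symm
      have h9 : T y - y = 0 := by
        apply S.nondeg
        intro v
        -- B (T y - y) (T v'')
        have hsurj : ∃ v'', T v'' = v := ⟨(T ^ 12) v, by
          rw [← Module.End.mul_apply, ← pow_succ', hT]; rfl⟩
        obtain ⟨v'', rfl⟩ := hsurj
        rw [map_sub, LinearMap.sub_apply, pT.pB]
        have := h8 v''
        rw [map_sub] at this
        rw [← neg_eq_zero, neg_sub]; exact this
      exact sub_eq_zero.1 h9
    apply hne
    apply LinearMap.ext
    intro x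
    have h8 : T x - x = 0 := by
      apply cub_coprime hT h2 hab (hk x)
      rw [map_sub]
      have h9 : aeval T (cub (-b) (-a)) (T x) = T (aeval T (cub (-b) (-a)) x) := by
        have := (commute_aeval (Commute.refl T) (cub (-b) (-a))).eq
        have := congrArg (fun f : End F V => f x) this
        simp only [Module.End.mul_apply] at this
        exact this.symm
      rw [h9, hk', sub_self]
    exact sub_eq_zero.1 h8
  refine ⟨a, b, g, hab, by omega, by omega, by omega, ?_, hfixK, hfixR⟩
  rw [hsupKR, hrange]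

include h3 h7 in
theorem irr_thirteen {T : End F V} (hT : T ^ 13 = 1) {X : Submodule F V} (hX : finrank F X = 3)
    (hfix : ∀ v ∈ X, T v = v → v = 0) : Irr T X := by
  intro U hU hUT
  have hle7 : finrank F U ≤ 7 := by rw [← h7]; exact Submodule.finrank_le U
  have h5 := Submodule.finrank_mono hU
  rcases dim_thirteen h3 hT U hUT (fun u hu => hfix u (hU hu)) hle7 with h | h | h
  · left; exact Submodule.finrank_eq_zero.1 h
  · right; exact Submodule.eq_of_le_of_finrank_eq hU (by rw [h, hX])
  · omega

include h3 h7 in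
theorem thirteen_three (S : LieForm F V) {T h : End F V} (pT : Pres S T) (hT : T ^ 13 = 1) (hne : T ≠ 1)
    (hh : h * T = T * h) (hc : h ^ 3 = 1) : h = 1 := by
  obtain ⟨a, b, g, _, hK, hR, hL, hsup, hfK, hfR⟩ := thirteen_dec h3 h7 S pT hT hne
  have hr : ((13 : ℕ) : F) ≠ 0 := by
    intro h
    have h1 := char_three h3
    push_cast at h
    exact one_ne_zero (α := F) (by linear_combination h - 4 * h1)
  obtain ⟨_, ht, _⟩ := ker_range hr hT
  apply eq_one_of_dec ht
  · intro x hx
    rw [← hsup] at hx
    obtain ⟨k, hk, r, hr, rfl⟩ := Submodule.mem_sup.1 hx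
    rw [map_add, fix_of_cube (char_three h3) hh hc (irr_thirteen h3 h7 hT hK hfK) (stab_ker T _).self
      (stab_ker T _ h hh) k hk, fix_of_cube (char_three h3) hh hc (irr_thirteen h3 h7 hT hR hfR) (stab_ker T _).self
      (stab_ker T _ h hh) r hr]
  · exact fix_of_cube (char_three h3) hh hc (irr_of_finrank_one T hL) (stab_fx T 1).self (stab_fx T 1 h hh)

include h3 h7 in
theorem thirteen_seven (S : LieForm F V) {T h : End F V} (pT : Pres S T) (hT : T ^ 13 = 1) (hne : T ≠ 1)
    (hh : h * T = T * h) (hc : h ^ 7 = 1) : h = 1 := by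
  obtain ⟨a, b, g, _, hK, hR, hL, hsup, hfK, hfR⟩ := thirteen_dec h3 h7 S pT hT hne
  by_contra h1
  obtain ⟨D, hI⟩ := seven_dec h3 h7 hc h1
  -- K and R are h-invariant
  have key : ∀ X : Submodule F V, (∀ x ∈ X, h x ∈ X) → finrank F X ≤ 3 → ∀ x ∈ X, h x = x := by
    intro X hX hd x hx
    have h5 : X ⊓ LinearMap.range (h - 1) = ⊥ := by
      rcases hI (X ⊓ LinearMap.range (h - 1)) inf_le_right (by
        rintro u ⟨hu1, hu2⟩
        exact ⟨hX u hu1, (stab_range h).self u hu2⟩) with h6 | h6
      · exact h6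
      · exfalso
        have h7 := Submodule.finrank_mono (inf_le_left : X ⊓ LinearMap.range (h - 1) ≤ X)
        rw [h6, D.dW] at h7
        omega
    have h6 : h x - x ∈ X ⊓ LinearMap.range (h - 1) := ⟨X.sub_mem (hX x hx) hx, ⟨x, rfl⟩⟩
    rw [h5] at h6
    exact sub_eq_zero.1 ((Submodule.mem_bot F).1 h6)
  apply h1
  have hr : ((13 : ℕ) : F) ≠ 0 := by
    intro h
    have h1 := char_three h3
    push_cast at h
    exact one_ne_zero (α := F) (by linear_combination h - 4 * h1)
  obtain ⟨_, ht, _⟩ := ker_range hr hT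
  apply eq_one_of_dec ht
  · intro x hx
    rw [← hsup] at hx
    obtain ⟨k, hk, r, hr, rfl⟩ := Submodule.mem_sup.1 hx
    rw [map_add, key _ (stab_ker T _ h hh) hK.le k hk, key _ (stab_ker T _ h hh) hR.le r hr]
  · exact key _ (stab_fx T 1 h hh) (by omega)

include h3 h7 in
theorem thirteen_two (S : LieForm F V) {T h : End F V} (pT : Pres S T) (ph : Pres S h) (hT : T ^ 13 = 1) (hne : T ≠ 1)
    (hh : h * T = T * h) (hc : h * h = 1) : h = 1 := by
  by_contra h1
  have h2 := two_ne h3
  obtain ⟨a, b, g, hab, hK, hR, hL, hsup, hfK, hfR⟩ := thirteen_dec h3 h7 S pT hT hne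
  have hr : ((13 : ℕ) : F) ≠ 0 := by
    intro h
    have h1 := char_three h3
    push_cast at h
    exact one_ne_zero (α := F) (by linear_combination h - 4 * h1)
  obtain ⟨hi, ht, hd⟩ := ker_range hr hT
  rw [h7] at hd
  have D : Dec T (LinearMap.range (T - 1)) (fx T 1) := by
    refine ⟨ht, hi, by omega, hL, ?_, ?_, ?_, ?_⟩
    · intro x; rw [mem_fx, one_smul]
    · intro x; exact ⟨x, rfl⟩
    · rintro _ ⟨x, rfl⟩; exact ⟨x, rfl⟩
    · intro U hU hUT h4
      have hle7 : finrank F U ≤ 7 := by rw [← h7]; exact Submodule.finrank_le U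
      have h5 := Submodule.finrank_mono hU
      rcases dim_thirteen h3 hT U hUT (by
        intro u hu huT
        have : u ∈ LinearMap.range (T - 1) ⊓ fx T 1 := ⟨hU hu, by rw [SetLike.mem_coe, mem_fx, one_smul]; exact huT⟩
        rw [hi] at this
        exact (Submodule.mem_bot F).1 this) hle7 with h | h | h
      · omega
      · omega
      · exact Submodule.eq_of_le_of_finrank_eq hU (by omega)
  have sK := sign_of_sq hh hc (irr_thirteen h3 h7 hT hK hfK) (stab_ker T _).self (stab_ker T _ h hh)
  have sR := sign_of_sq hh hc (irr_thirteen h3 h7 hT hR hfR) (stab_ker T _).self (stab_ker T _ h hh)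
  have sL := sign_of_sq hh hc (irr_of_finrank_one T hL) (stab_fx T 1).self (stab_fx T 1 h hh)
  -- K ⊥ L
  have hKL : ∀ x : V, ∀ l ∈ fx T 1, S.B (T x - x) l = 0 := by
    intro x l hl
    rw [mem_fx, one_smul] at hl
    have := pT.pB x l
    rw [hl] at this
    rw [map_sub, LinearMap.sub_apply, this, sub_self]
  -- different signs on K and R are impossible
  have hdiff : (∀ k ∈ LinearMap.ker (aeval T (cub a b)), ∀ r ∈ LinearMap.ker (aeval T g), S.B k r = 0) → False := by
    intro hperp
    have hkill : ∀ k ∈ LinearMap.ker (aeval T (cub a b)), k = 0 := by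
      intro k hk
      apply cub_coprime hT h2 hab (LinearMap.mem_ker.1 hk)
      set y := aeval T (cub (-b) (-a)) k with hy
      have hyK : y ∈ LinearMap.ker (aeval T (cub a b)) :=
        stab_ker T (cub a b) _ (commute_aeval (Commute.refl T) _).symm.eq k hk
      apply S.nondeg
      intro v
      have hv : v ∈ LinearMap.range (T - 1) ⊔ fx T 1 := by rw [ht]; trivial
      obtain ⟨w, hw, l, hl, rfl⟩ := Submodule.mem_sup.1 hv
      rw [← hsup] at hw
      obtain ⟨k', hk', r, hr, rfl⟩ := Submodule.mem_sup.1 hw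
      rw [map_add, map_add, hperp y hyK r hr]
      have e1 : S.B y l = 0 := by
        have : y ∈ LinearMap.range (T - 1) := by
          rw [← hsup]; exact Submodule.mem_sup_left hyK
        obtain ⟨x, hx⟩ := this
        rw [← hx]
        exact hKL x l hl
      have e2 : S.B y k' = 0 := by
        have := adj_cub S pT a b k k'
        rw [LinearMap.mem_ker.1 hk', map_zero, ← hy] at this
        exact neg_eq_zero.1 this.symm
      rw [e1, e2]; simp
    have : LinearMap.ker (aeval T (cub a b)) = ⊥ := (Submodule.eq_bot_iff _).2 hkill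
    rw [this, finrank_bot] at hK
    exact absurd hK (by norm_num)
  have hself : ∀ x : F, x = -x → x = 0 := by
    intro x hx
    have : (2 : F) * x = 0 := by linear_combination hx
    exact (mul_eq_zero.1 this).resolve_left h2
  have sW : (∀ x ∈ LinearMap.range (T - 1), h x = x) ∨ (∀ x ∈ LinearMap.range (T - 1), h x = -x) := by
    rcases sK with sK | sK <;> rcases sR with sR | sR
    · left
      intro x hx
      rw [← hsup] at hx
      obtain ⟨k, hk, r, hr, rfl⟩ := Submodule.mem_sup.1 hx
      rw [map_add, sK k hk, sR r hr]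
    · exfalso
      apply hdiff
      intro k hk r hr
      have := ph.pB k r
      rw [sK k hk, sR r hr, map_neg] at this
      exact hself _ this.symm
    · exfalso
      apply hdiff
      intro k hk r hr
      have := ph.pB k r
      rw [sK k hk, sR r hr, map_neg, LinearMap.neg_apply] at this
      exact hself _ this.symm
    · right
      intro x hx
      rw [← hsup] at hx
      obtain ⟨k, hk, r, hr, rfl⟩ := Submodule.mem_sup.1 hx
      rw [map_add, sK k hk, sR r hr]; abel
  exact no_involution h3 S pT ph hh hc h1 D sW sL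

end main

end Cfsg.Agent.Lib.G2ThreeLin
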