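import Cfsg.Agent.Lib.ChevAuto
import Cfsg.Agent.Lib.ChevOkG2
import Cfsg.Agent.Lib.G2ThreeLin

set_option autoImplicit false

/-! The 7-dimensional ideal of the adjoint module of `G₂(3)`. -/

namespace Cfsg.Agent.Lib.G2Three

open Cfsg.Lie Cfsg.Agent.Lib.ChevX Cfsg.Agent.Lib.ChevGood Cfsg.Agent.Lib.ChevRel Cfsg.Agent.Lib.ChevAuto
open Cfsg.Agent.Lib.G2ThreeLin
open scoped MatrixGroups Matrix

/-- integer matrix of `x_r(1)` -/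
def zM (D : ChevalleyDatum) (r : ℕ) (row col : D.Idx) : ℤ :=
  match col with
  | Sum.inl i => (match row with
     | Sum.inl i' => if i' = i then 1 else 0
     | Sum.inr u => if u.val = r then - ((D.cartanSR.getD i.val #[]).getD r 0) else 0)
  | Sum.inr s =>
     if s.val = r then (match row with | Sum.inr u => if u.val = r then 1 else 0 | Sum.inl _ => 0)
     else if s.val = D.negIdx.getD r 0 then
       (match row with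
        | Sum.inl i => (D.coroot.getD r #[]).getD i.val 0
        | Sum.inr u => if u = s then 1 else if u.val = r then -1 else 0)
     else (match row with
        | Sum.inl _ => 0
        | Sum.inr u => (if u = s then 1 else 0) + ((D.chainCoeff r s.val u.val).map fun km => km.2).sum)

theorem xMat_one (D : ChevalleyDatum) {F : Type*} [Field F] (r : Fin D.nroots) (row col : D.Idx) :
    D.xMat F r 1 row col = ((zM D r row col : ℤ) : F) := by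
  unfold ChevalleyDatum.xMat zM
  simp only [Matrix.of_apply, one_pow, mul_one]
  rcases col with i | s
  · rcases row with i' | u
    · simp only; split_ifs <;> simp
    · simp only [Fin.ext_iff]; split_ifs <;> simp
  · simp only [Fin.ext_iff]
    split_ifs
    · rcases row with i' | u
      · simp
      · simp only; split_ifs <;> simp
    · rcases row with i' | u
      · simp
      · simp only; split_ifs <;> simp
    · rcases row with i' | u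
      · simp
      · simp only
        push_cast
        rw [List.map_map]
        congr 1

/-- the short part -/
def idx : Fin 7 → chevG2.Idx :=
  ![Sum.inl ⟨0, by decide⟩, Sum.inr ⟨2, by decide⟩, Sum.inr ⟨3, by decide⟩, Sum.inr ⟨4, by decide⟩,
    Sum.inr ⟨7, by decide⟩, Sum.inr ⟨8, by decide⟩, Sum.inr ⟨9, by decide⟩]

/-- the rest -/
def idc : Fin 7 → chevG2.Idx :=
  ![Sum.inl ⟨1, by decide⟩, Sum.inr ⟨0, by decide⟩, Sum.inr ⟨1, by decide⟩, Sum.inr ⟨5, by decide⟩,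
    Sum.inr ⟨6, by decide⟩, Sum.inr ⟨10, by decide⟩, Sum.inr ⟨11, by decide⟩]

theorem idx_bij : Function.Bijective (Sum.elim idx idc) := by
  rw [Fintype.bijective_iff_injective_and_card]
  exact ⟨by decide +kernel, by decide +kernel⟩

noncomputable def eI : Fin 7 ⊕ Fin 7 ≃ chevG2.Idx := Equiv.ofBijective _ idx_bij

def A7 : Matrix (Fin 7) (Fin 7) (ZMod 3) := !![1, 0, 0, 1, 0, 0, 0; 0, 1, 0, 0, 0, 0, 0; 0, 2, 1, 0, 0, 0, 0; 0, 0, 0, 1, 0, 0, 0; 1, 0, 0, 2, 1, 0, 0; 0, 0, 0, 0, 0, 1, 0; 0, 0, 0, 0, 0, 1, 1]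

def A6 : Matrix (Fin 7) (Fin 7) (ZMod 3) := !![1, 0, 0, 0, 0, 0, 0; 0, 1, 0, 0, 0, 0, 0; 0, 0, 1, 0, 0, 0, 0; 0, 0, 2, 1, 0, 0, 0; 0, 0, 0, 0, 1, 0, 0; 0, 0, 0, 0, 1, 1, 0; 0, 0, 0, 0, 0, 0, 1]

def A4 : Matrix (Fin 7) (Fin 7) (ZMod 3) := !![1, 0, 0, 0, 2, 0, 0; 0, 1, 2, 0, 0, 0, 0; 0, 0, 1, 0, 0, 0, 0; 2, 0, 0, 1, 2, 0, 0; 0, 0, 0, 0, 1, 0, 0; 0, 0, 0, 0, 0, 1, 1; 0, 0, 0, 0, 0, 0, 1]

def A5 : Matrix (Fin 7) (Fin 7) (ZMod 3) := !![1, 0, 0, 0, 0, 0, 0; 0, 1, 0, 0, 0, 0, 0; 0, 0, 1, 2, 0, 0, 0; 0, 0, 0, 1, 0, 0, 0; 0, 0, 0, 0, 1, 1, 0; 0, 0, 0, 0, 0, 1, 0; 0, 0, 0, 0, 0, 0, 1]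

/-- the matrices of the four generators -/
def AA (r : ℕ) : Matrix (Fin 7) (Fin 7) (ZMod 3) := if r = 7 then A7 else if r = 6 then A6 else if r = 4 then A4 else A5

def ad0 : Matrix (Fin 7) (Fin 7) (ZMod 3) := !![0, 0, 0, 0, 0, 0, 0; 0, 2, 0, 0, 0, 0, 0; 0, 0, 1, 0, 0, 0, 0; 0, 0, 0, 1, 0, 0, 0; 0, 0, 0, 0, 2, 0, 0; 0, 0, 0, 0, 0, 2, 0; 0, 0, 0, 0, 0, 0, 1]

def ad1 : Matrix (Fin 7) (Fin 7) (ZMod 3) := !![0, 0, 0, 0, 0, 0, 1; 1, 0, 0, 0, 0, 0, 0; 0, 0, 0, 0, 1, 0, 0; 0, 0, 0, 0, 0, 2, 0; 0, 0, 0, 0, 0, 0, 0; 0, 0, 0, 0, 0, 0, 0; 0, 0, 0, 0, 0, 0, 0]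

def ad2 : Matrix (Fin 7) (Fin 7) (ZMod 3) := !![0, 0, 0, 0, 0, 2, 0; 0, 0, 0, 1, 0, 0, 0; 2, 0, 0, 0, 0, 0, 0; 0, 0, 0, 0, 0, 0, 0; 0, 0, 0, 0, 0, 0, 2; 0, 0, 0, 0, 0, 0, 0; 0, 0, 0, 0, 0, 0, 0]

def ad3 : Matrix (Fin 7) (Fin 7) (ZMod 3) := !![0, 0, 0, 0, 2, 0, 0; 0, 0, 2, 0, 0, 0, 0; 0, 0, 0, 0, 0, 0, 0; 2, 0, 0, 0, 0, 0, 0; 0, 0, 0, 0, 0, 0, 0; 0, 0, 0, 0, 0, 0, 1; 0, 0, 0, 0, 0, 0, 0]

def ad4 : Matrix (Fin 7) (Fin 7) (ZMod 3) := !![0, 0, 0, 1, 0, 0, 0; 0, 0, 0, 0, 0, 0, 0; 0, 2, 0, 0, 0, 0, 0; 0, 0, 0, 0, 0, 0, 0; 1, 0, 0, 0, 0, 0, 0; 0, 0, 0, 0, 0, 0, 0; 0, 0, 0, 0, 0, 1, 0]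

def ad5 : Matrix (Fin 7) (Fin 7) (ZMod 3) := !![0, 0, 1, 0, 0, 0, 0; 0, 0, 0, 0, 0, 0, 0; 0, 0, 0, 0, 0, 0, 0; 0, 1, 0, 0, 0, 0, 0; 0, 0, 0, 0, 0, 0, 0; 1, 0, 0, 0, 0, 0, 0; 0, 0, 0, 0, 2, 0, 0]

def ad6 : Matrix (Fin 7) (Fin 7) (ZMod 3) := !![0, 2, 0, 0, 0, 0, 0; 0, 0, 0, 0, 0, 0, 0; 0, 0, 0, 0, 0, 0, 0; 0, 0, 0, 0, 0, 0, 0; 0, 0, 1, 0, 0, 0, 0; 0, 0, 0, 2, 0, 0, 0; 2, 0, 0, 0, 0, 0, 0]

/-- the adjoint matrices -/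
def ad : Fin 7 → Matrix (Fin 7) (Fin 7) (ZMod 3) := ![ad0, ad1, ad2, ad3, ad4, ad5, ad6]

def BB : Matrix (Fin 7) (Fin 7) (ZMod 3) := !![2, 0, 0, 0, 0, 0, 0; 0, 0, 0, 0, 0, 0, 1; 0, 0, 0, 0, 0, 1, 0; 0, 0, 0, 0, 1, 0, 0; 0, 0, 0, 1, 0, 0, 0; 0, 0, 1, 0, 0, 0, 0; 0, 1, 0, 0, 0, 0, 0]

/-- the four fundamental roots and their negatives -/
def R4 : List ℕ := [7, 6, 4, 5]

theorem chk_zero : ∀ r ∈ R4, ∀ i j : Fin 7, ((zM chevG2 r (idc i) (idx j) : ℤ) : ZMod 3) = 0 := by decide +kernel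

theorem chk_AA : ∀ r ∈ R4, Matrix.of (fun i j : Fin 7 => ((zM chevG2 r (idx i) (idx j) : ℤ) : ZMod 3)) = AA r := by decide +kernel

theorem chk_B : ∀ r ∈ R4, (AA r)ᵀ * BB * AA r = BB := by decide +kernel

theorem chk_c : ∀ r ∈ R4, ∀ i : Fin 7, AA r * ad i = (∑ k, AA r k i • ad k) * AA r := by decide +kernel

theorem chk_anti : ∀ i j m : Fin 7, ad i m j = - ad j m i := by decide +kernel

theorem chk_jac : ∀ i j : Fin 7, ∑ k, ad i k j • ad k = ad i * ad j - ad j * ad i := by decide +kernel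

def ss : Fin 7 → ZMod 3 := ![2, 2, 1, 1, 2, 2, 1]

theorem chk_cent : ∀ k i : Fin 7, ad i (if k = 0 then 1 else k) (if k = 0 then 1 else 0) = if i = k then (if k = 0 then 2 else - ss k) else 0 := by decide +kernel

theorem chk_perf : ∀ k m : Fin 7, ad (if k = 0 then 1 else 0) m (if k = 0 then 6 else k) = if m = k then (if k = 0 then 1 else ss k) else 0 := by decide +kernel

theorem chk_BB : BB * BB = 1 := by decide +kernel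

end Cfsg.Agent.Lib.G2Three
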