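import Cfsg.Agent.Lib.G2Three
import Cfsg.Agent.Lib.ChevSimple

set_option autoImplicit false

/-! The representation of `G₂(3)` on the 7-dimensional ideal. -/

namespace Cfsg.Agent.Lib.G2Three

open Cfsg.Lie Cfsg.Agent.Lib.ChevX Cfsg.Agent.Lib.ChevGood Cfsg.Agent.Lib.ChevRel Cfsg.Agent.Lib.ChevAuto
open Cfsg.Agent.Lib.G2ThreeLin
open scoped MatrixGroups Matrix

section
variable {F : Type*} [Field F] (f : ZMod 3 →+* F)

/-- adjoint matrices over `F` -/
def adF (i : Fin 7) : Matrix (Fin 7) (Fin 7) F := (ad i).map f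

/-- the bracket -/
noncomputable def cF : (Fin 7 → F) →ₗ[F] (Fin 7 → F) →ₗ[F] (Fin 7 → F) :=
  ∑ i, (LinearMap.proj i : (Fin 7 → F) →ₗ[F] F).smulRight (Matrix.mulVecLin (adF f i))

theorem cF_apply (u v : Fin 7 → F) : cF f u v = ∑ i, u i • (adF f i *ᵥ v) := by
  unfold cF
  simp [LinearMap.sum_apply, LinearMap.smulRight_apply]

/-- the form -/
noncomputable def BF : (Fin 7 → F) →ₗ[F] (Fin 7 → F) →ₗ[F] F := Matrix.toLinearMap₂' F (BB.map f)

theorem BF_apply (u v : Fin 7 → F) : BF f u v = u ⬝ᵥ ((BB.map f) *ᵥ v) := by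
  unfold BF
  rw [Matrix.toLinearMap₂'_apply']

theorem adF_add_mul (i j : Fin 7) : ∑ k, (f (ad i k j)) • adF f k = adF f i * adF f j - adF f j * adF f i := by
  have h : (∑ k, ad i k j • ad k).map f = (ad i * ad j - ad j * ad i).map f := by rw [chk_jac]
  rw [Matrix.map_sub f (fun a b => map_sub f a b), Matrix.map_mul, Matrix.map_mul] at h
  unfold adF
  rw [← h]
  ext a b
  simp [Matrix.sum_apply, Matrix.map_apply]

theorem cF_jac' (u v w : Fin 7 → F) : cF f (cF f u v) w = cF f u (cF f v w) - cF f v (cF f u w) := by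
  have h1 : ∀ i j : Fin 7, cF f (adF f i *ᵥ (Pi.single j 1)) w = (adF f i * adF f j - adF f j * adF f i) *ᵥ w := by
    intro i j
    rw [← adF_add_mul, cF_apply, Matrix.sum_mulVec]
    apply Finset.sum_congr rfl
    intro k _
    rw [Matrix.smul_mulVec]
    congr 1
    simp [adF]
  have h2 : cF f (cF f u v) w = ∑ i, ∑ j, (u i * v j) • cF f (adF f i *ᵥ (Pi.single j 1)) w := by
    have hv : v = ∑ j, v j • (Pi.single j 1 : Fin 7 → F) := by
      ext a
      simp [Finset.sum_apply, Pi.single_apply]
    have : cF f u v = ∑ i, ∑ j, (u i * v j) • (adF f i *ᵥ (Pi.single j 1)) := by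
      rw [cF_apply]
      apply Finset.sum_congr rfl
      intro i _
      conv_lhs => rw [hv]
      rw [Matrix.mulVec_sum, Finset.smul_sum]
      apply Finset.sum_congr rfl
      intro j _
      rw [Matrix.mulVec_smul, smul_smul]
    rw [this, map_sum, LinearMap.sum_apply]
    apply Finset.sum_congr rfl
    intro i _
    rw [map_sum, LinearMap.sum_apply]
    apply Finset.sum_congr rfl
    intro j _
    rw [map_smul, LinearMap.smul_apply]
  rw [h2]
  have e1 : cF f u (cF f v w) = ∑ i, ∑ j, (u i * v j) • ((adF f i * adF f j) *ᵥ w) := by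
    rw [cF_apply]
    apply Finset.sum_congr rfl
    intro i _
    rw [cF_apply, Matrix.mulVec_sum, Finset.smul_sum]
    apply Finset.sum_congr rfl
    intro j _
    rw [Matrix.mulVec_smul, smul_smul, Matrix.mulVec_mulVec]
  have e2 : cF f v (cF f u w) = ∑ i, ∑ j, (u i * v j) • ((adF f j * adF f i) *ᵥ w) := by
    rw [cF_apply, Finset.sum_comm]
    apply Finset.sum_congr rfl
    intro j _
    rw [cF_apply, Matrix.mulVec_sum, Finset.smul_sum]
    apply Finset.sum_congr rfl
    intro i _
    rw [Matrix.mulVec_smul, smul_smul, Matrix.mulVec_mulVec, mul_comm (v j)]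
  rw [e1, e2, ← Finset.sum_sub_distrib]
  apply Finset.sum_congr rfl
  intro i _
  rw [← Finset.sum_sub_distrib]
  apply Finset.sum_congr rfl
  intro j _
  rw [h1, Matrix.sub_mulVec, smul_sub]

theorem cF_anti (u v : Fin 7 → F) : cF f u v = - cF f v u := by
  ext m
  rw [cF_apply, cF_apply]
  simp only [Finset.sum_apply, Pi.smul_apply, Matrix.mulVec, dotProduct, smul_eq_mul, Pi.neg_apply, Finset.mul_sum]
  rw [Finset.sum_comm, ← Finset.sum_neg_distrib]
  apply Finset.sum_congr rfl
  intro j _
  rw [← Finset.sum_neg_distrib]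
  apply Finset.sum_congr rfl
  intro i _
  unfold adF
  rw [Matrix.map_apply, Matrix.map_apply, chk_anti i j m, map_neg]
  ring

theorem cF_single (u : Fin 7 → F) (j m : Fin 7) : cF f u (Pi.single j 1) m = ∑ i, u i * f (ad i m j) := by
  rw [cF_apply]
  simp only [Finset.sum_apply, Pi.smul_apply, smul_eq_mul]
  apply Finset.sum_congr rfl
  intro i _
  congr 1
  simp [adF]

theorem ss_ne (k : Fin 7) : ss k ≠ 0 := by revert k; decide

/-- The Lie algebra with form -/
noncomputable def LF (h2 : (2 : F) ≠ 0) : LieForm F (Fin 7 → F) where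
  c := cF f
  B := BF f
  alt v := by
    have h := cF_anti f v v
    have : (2 : F) • cF f v v = 0 := by
      rw [two_smul]; nth_rewrite 1 [h]; simp
    exact (smul_eq_zero.1 this).resolve_left h2
  jac u v w := by
    rw [cF_jac', cF_anti f (cF f v w) u, cF_anti f (cF f w u) v, cF_anti f w u, map_neg]
    abel
  cent l hl := by
    ext k
    have h1 := congrFun (hl (Pi.single (if k = 0 then 1 else 0) 1)) (if k = 0 then 1 else k)
    rw [cF_single] at h1
    simp only [chk_cent] at h1
    rw [Finset.sum_eq_single k] at h1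
    · rw [if_pos rfl] at h1
      refine (mul_eq_zero.1 h1).resolve_right ?_
      split_ifs
      · intro h
        have := f.injective (h.trans (map_zero f).symm)
        revert this; decide
      · intro h
        have := f.injective (h.trans (map_zero f).symm)
        exact ss_ne k (neg_eq_zero.1 this)
    · intro i _ hik
      rw [if_neg hik, map_zero, mul_zero]
    · intro h; exact absurd (Finset.mem_univ k) h
  perf W hW := by
    rw [eq_top_iff]
    intro x _
    have hx : x = ∑ j, x j • (Pi.single j 1 : Fin 7 → F) := by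
      ext a
      simp [Finset.sum_apply, Pi.single_apply]
    rw [hx]
    apply Submodule.sum_mem
    intro k _
    apply Submodule.smul_mem
    have h1 := hW (Pi.single (if k = 0 then 1 else 0) 1) (Pi.single (if k = 0 then 6 else k) 1)
    have h2 : cF f (Pi.single (if k = 0 then 1 else 0) 1) (Pi.single (if k = 0 then 6 else k) 1) =
        f (if k = 0 then 1 else ss k) • (Pi.single k 1 : Fin 7 → F) := by
      ext m
      rw [cF_single, Finset.sum_eq_single (if k = 0 then 1 else 0)]
      · rw [chk_perf, Pi.single_eq_same, one_mul, Pi.smul_apply, smul_eq_mul, Pi.single_apply]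
        by_cases hm : m = k
        · rw [if_pos hm, if_pos hm, mul_one]
        · rw [if_neg hm, if_neg hm, mul_zero, map_zero]
      · intro b _ hb
        rw [Pi.single_eq_of_ne hb, zero_mul]
      · intro h; exact absurd (Finset.mem_univ _) h
    rw [h2] at h1
    have h3 : f (if k = 0 then 1 else ss k) ≠ 0 := by
      intro h
      have := f.injective (h.trans (map_zero f).symm)
      split_ifs at this
      · exact one_ne_zero this
      · exact ss_ne k this
    have h4 := W.smul_mem (f (if k = 0 then 1 else ss k))⁻¹ h1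
    rwa [smul_smul, inv_mul_cancel₀ h3, one_smul] at h4
  nondeg u hu := by
    have h1 : u ᵥ* (BB.map f) = 0 := by
      ext j
      have := hu (Pi.single j 1)
      rw [BF_apply, Matrix.dotProduct_mulVec] at this
      simpa using this
    have h2 : u ᵥ* (BB.map f) ᵥ* (BB.map f) = 0 := by rw [h1, Matrix.zero_vecMul]
    rw [Matrix.vecMul_vecMul, ← Matrix.map_mul, chk_BB] at h2
    have h3 : (1 : Matrix (Fin 7) (Fin 7) (ZMod 3)).map f = 1 := Matrix.map_one f (map_zero f) (map_one f)
    rw [h3, Matrix.vecMul_one] at h2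
    exact h2

end

end Cfsg.Agent.Lib.G2Three
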