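import Cfsg.Agent.Lib.G2Three2

set_option autoImplicit false

/-! The representation of `G₂(3)` on the 7-dimensional ideal. -/

namespace Cfsg.Agent.Lib.G2Three

open Cfsg.Lie Cfsg.Agent.Lib.ChevX Cfsg.Agent.Lib.ChevGood Cfsg.Agent.Lib.ChevRel Cfsg.Agent.Lib.ChevAuto
open Cfsg.Agent.Lib.G2ThreeLin
open scoped MatrixGroups Matrix

variable {F : Type*} [Field F]

/-- the block -/
def ρ0 (g : Matrix chevG2.Idx chevG2.Idx F) : Matrix (Fin 7) (Fin 7) F := Matrix.of fun i j => g (idx i) (idx j)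

theorem ρ0_mul {g h : Matrix chevG2.Idx chevG2.Idx F} (hh : ∀ i j, h (idc i) (idx j) = 0) :
    ρ0 (g * h) = ρ0 g * ρ0 h := by
  ext i j
  rw [Matrix.mul_apply]
  unfold ρ0
  simp only [Matrix.of_apply]
  rw [Matrix.mul_apply, ← eI.sum_comp, Fintype.sum_sum_type]
  have h1 : ∀ a : Fin 7, eI (Sum.inl a) = idx a := fun a => rfl
  have h2 : ∀ a : Fin 7, eI (Sum.inr a) = idc a := fun a => rfl
  simp only [h1, h2, hh, mul_zero, Finset.sum_const_zero, add_zero]

theorem zero_mul' {g h : Matrix chevG2.Idx chevG2.Idx F} (hg : ∀ i j, g (idc i) (idx j) = 0)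
    (hh : ∀ i j, h (idc i) (idx j) = 0) : ∀ i j, (g * h) (idc i) (idx j) = 0 := by
  intro i j
  rw [Matrix.mul_apply, ← eI.sum_comp, Fintype.sum_sum_type]
  have h1 : ∀ a : Fin 7, eI (Sum.inl a) = idx a := fun a => rfl
  have h2 : ∀ a : Fin 7, eI (Sum.inr a) = idc a := fun a => rfl
  simp only [h1, h2, hh, hg, mul_zero, zero_mul, Finset.sum_const_zero, add_zero]

theorem idx_inj : Function.Injective idx := fun a b h => by
  have := idx_bij.1 (a₁ := Sum.inl a) (a₂ := Sum.inl b) h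
  exact Sum.inl_injective this

theorem idx_ne_idc (a b : Fin 7) : idc a ≠ idx b := fun h => by
  have := idx_bij.1 (a₁ := Sum.inr a) (a₂ := Sum.inl b) h
  exact absurd this (by simp)

theorem ρ0_one : ρ0 (1 : Matrix chevG2.Idx chevG2.Idx F) = 1 := by
  ext i j
  unfold ρ0
  rw [Matrix.of_apply, Matrix.one_apply, Matrix.one_apply]
  simp only [idx_inj.eq_iff]

variable (f : ZMod 3 →+* F)

/-- the structure-preserving matrices -/
def MM : Submonoid (GL chevG2.Idx F) where
  carrier := {g | (∀ i j, (g : Matrix chevG2.Idx chevG2.Idx F) (idc i) (idx j) = 0) ∧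
    (∀ u v, cF f (ρ0 g.1 *ᵥ u) (ρ0 g.1 *ᵥ v) = ρ0 g.1 *ᵥ (cF f u v)) ∧
    (∀ u v, BF f (ρ0 g.1 *ᵥ u) (ρ0 g.1 *ᵥ v) = BF f u v)}
  one_mem' := by
    refine ⟨?_, ?_, ?_⟩
    · intro i j
      rw [Units.val_one, Matrix.one_apply, if_neg (idx_ne_idc i j)]
    · intro u v
      rw [Units.val_one, ρ0_one]; simp
    · intro u v
      rw [Units.val_one, ρ0_one]; simp
  mul_mem' := by
    rintro g h ⟨g1, g2, g3⟩ ⟨h1, h2, h3⟩
    refine ⟨?_, ?_, ?_⟩
    · rw [Units.val_mul]; exact zero_mul' g1 h1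
    · intro u v
      rw [Units.val_mul, ρ0_mul h1, ← Matrix.mulVec_mulVec, ← Matrix.mulVec_mulVec, ← Matrix.mulVec_mulVec, g2, h2]
    · intro u v
      rw [Units.val_mul, ρ0_mul h1, ← Matrix.mulVec_mulVec, ← Matrix.mulVec_mulVec, g3, h3]

theorem ff_int (f : ZMod 3 →+* F) (z : ℤ) : ((z : ℤ) : F) = f (z : ZMod 3) := (map_intCast f z).symm

theorem ρ0_xg {r : ℕ} (hr : r ∈ R4) (hr' : r < chevG2.nroots) :
    (∀ i j, (xg chevG2 F r 1 : Matrix chevG2.Idx chevG2.Idx F) (idc i) (idx j) = 0) ∧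
      ρ0 (xg chevG2 F r 1 : Matrix chevG2.Idx chevG2.Idx F) = (AA r).map f := by
  have e : (xg chevG2 F r 1 : Matrix chevG2.Idx chevG2.Idx F) = chevG2.xMat F ⟨r, hr'⟩ 1 := by
    rw [coe_xg Cfsg.Agent.Lib.ChevOkG2.good]
    unfold ChevalleyDatum.x
    rw [dif_pos hr']
  constructor
  · intro i j
    rw [e, xMat_one, ff_int f, chk_zero r hr, map_zero]
  · ext i j
    unfold ρ0
    rw [Matrix.of_apply, e, xMat_one, ff_int f, Matrix.map_apply, ← chk_AA r hr]
    rfl

theorem xg_mem_MM {r : ℕ} (hr : r ∈ R4) (hr' : r < chevG2.nroots) : xg chevG2 F r 1 ∈ MM f := by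
  obtain ⟨h1, h2⟩ := ρ0_xg f hr hr'
  refine ⟨h1, ?_, ?_⟩
  · intro u v
    rw [h2]
    rw [cF_apply, cF_apply, Matrix.mulVec_sum]
    have key : ∀ i : Fin 7, (AA r).map f * adF f i = (∑ k, f (AA r k i) • adF f k) * (AA r).map f := by
      intro i
      have h : (AA r * ad i).map f = ((∑ k, AA r k i • ad k) * AA r).map f := by rw [chk_c r hr i]
      rw [Matrix.map_mul, Matrix.map_mul] at h
      unfold adF
      rw [h]
      congr 1
      ext a b
      simp [Matrix.sum_apply, Matrix.map_apply]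
    have e1 : ∀ i, (AA r).map f *ᵥ (u i • (adF f i *ᵥ v)) =
        u i • ∑ k, f (AA r k i) • (adF f k *ᵥ ((AA r).map f *ᵥ v)) := by
      intro i
      rw [Matrix.mulVec_smul, Matrix.mulVec_mulVec, key i, ← Matrix.mulVec_mulVec, Matrix.sum_mulVec]
      congr 1
      apply Finset.sum_congr rfl
      intro k _
      rw [Matrix.smul_mulVec]
    simp only [e1]
    simp only [Finset.smul_sum]
    rw [Finset.sum_comm]
    apply Finset.sum_congr rfl
    intro k _
    rw [Matrix.mulVec, dotProduct, Finset.sum_smul]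
    apply Finset.sum_congr rfl
    intro i _
    rw [smul_smul, Matrix.map_apply, mul_comm]
  · intro u v
    rw [h2, BF_apply, BF_apply]
    have key : ((AA r).map f)ᵀ * BB.map f * (AA r).map f = BB.map f := by
      have h : ((AA r)ᵀ * BB * AA r).map f = BB.map f := by rw [chk_B r hr]
      rw [Matrix.map_mul, Matrix.map_mul, Matrix.transpose_map] at h
      exact h
    conv_rhs => rw [← key]
    rw [← Matrix.mulVec_mulVec, ← Matrix.mulVec_mulVec, Matrix.dotProduct_mulVec u, Matrix.vecMul_transpose]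

variable [Fintype F]

theorem elems (hF : Fintype.card F = 3) (t : F) : t = 0 ∨ t = 1 ∨ t = 1 + 1 := by
  have h1 : t ^ 3 = t := by rw [← hF]; exact FiniteField.pow_card t
  have h3 : (3 : F) = 0 := by
    have : ((Fintype.card F : ℕ) : F) = 0 := Nat.cast_card_eq_zero F
    rw [hF] at this; exact_mod_cast this
  have h2 : t * ((t - 1) * (t - (1 + 1))) = 0 := by linear_combination h1 + (t - t ^ 2) * h3
  rcases mul_eq_zero.1 h2 with h | h
  · left; exact h
  · rcases mul_eq_zero.1 h with h | h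
    · right; left; exact sub_eq_zero.1 h
    · right; right; exact sub_eq_zero.1 h

theorem mem_MM (hF : Fintype.card F = 3) {g : GL chevG2.Idx F} (hg : g ∈ chevG2.group F) : g ∈ MM f := by
  have G := Cfsg.Agent.Lib.ChevOkG2.good
  rw [group_eq_simple G] at hg
  have hx : ∀ r ∈ R4, r < chevG2.nroots → ∀ t : F, xg chevG2 F r t ∈ MM f := by
    intro r hr hr' t
    rcases elems hF t with rfl | rfl | rfl
    · rw [xg_zero G]; exact one_mem _
    · exact xg_mem_MM f hr hr'
    · rw [← xg_add G]; exact mul_mem (xg_mem_MM f hr hr') (xg_mem_MM f hr hr')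
  have hR : ∀ i < chevG2.rank, (chevG2.simple i ∈ R4 ∧ chevG2.simple i < chevG2.nroots) ∧
      (chevG2.neg (chevG2.simple i) ∈ R4 ∧ chevG2.neg (chevG2.simple i) < chevG2.nroots) := by
    decide
  refine Subgroup.closure_induction (p := fun g _ => g ∈ MM f) ?_ (one_mem _) (fun _ _ _ _ h h' => mul_mem h h') ?_ hg
  · rintro g ⟨i, hi, t, rfl | rfl⟩
    · exact hx _ (hR i hi).1.1 (hR i hi).1.2 t
    · exact hx _ (hR i hi).2.1 (hR i hi).2.2 t
  · intro x _ hx
    have : x⁻¹ = x ^ (orderOf x - 1) := by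
      rw [inv_eq_iff_mul_eq_one, ← pow_succ', Nat.sub_add_cancel (orderOf_pos x), pow_orderOf_eq_one]
    rw [this]
    exact pow_mem hx _

/-- the representation -/
noncomputable def rho (hF : Fintype.card F = 3) : chevG2.group F →* Module.End F (Fin 7 → F) where
  toFun g := Matrix.toLin' (ρ0 (g : GL chevG2.Idx F).1)
  map_one' := by
    rw [Subgroup.coe_one, Units.val_one, ρ0_one, Matrix.toLin'_one]; rfl
  map_mul' g h := by
    rw [Subgroup.coe_mul, Units.val_mul, ρ0_mul (mem_MM f hF h.2).1, Matrix.toLin'_mul]; rfl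

theorem rho_apply (hF : Fintype.card F = 3) (g : chevG2.group F) (v : Fin 7 → F) :
    rho f hF g v = ρ0 (g : GL chevG2.Idx F).1 *ᵥ v := rfl

theorem two_ne' (hF : Fintype.card F = 3) : (2 : F) ≠ 0 := two_ne (by rw [Nat.card_eq_fintype_card, hF])

theorem rho_pres (hF : Fintype.card F = 3) (g : chevG2.group F) : Pres (LF f (two_ne' hF)) (rho f hF g) := by
  obtain ⟨_, h2, h3⟩ := mem_MM f hF g.2
  exact ⟨fun u v => h2 u v, fun u v => h3 u v⟩

theorem rho_inj (hF : Fintype.card F = 3) : Function.Injective (rho f hF) := by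
  have hs : IsSimpleGroup (chevG2.group F) := (Cfsg.Agent.Lib.ChevSimple.simple (by simp) (fun _ =>
    ⟨(2 : F), two_ne' hF, fun h => one_ne_zero (α := F) (by linear_combination h)⟩)).1
  rw [← MonoidHom.ker_eq_bot_iff]
  rcases hs.eq_bot_or_eq_top_of_normal (rho f hF).ker inferInstance with h | h
  · exact h
  · exfalso
    have hm : (⟨xg chevG2 F 7 1, xg_mem Cfsg.Agent.Lib.ChevOkG2.good 7 1⟩ : chevG2.group F) ∈ (rho f hF).ker := by
      rw [h]; trivial
    rw [MonoidHom.mem_ker] at hm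
    have h1 : ρ0 (xg chevG2 F 7 1 : Matrix chevG2.Idx chevG2.Idx F) = 1 := by
      have : Matrix.toLin' (ρ0 (xg chevG2 F 7 1 : Matrix chevG2.Idx chevG2.Idx F)) = Matrix.toLin' 1 := by
        rw [Matrix.toLin'_one]; exact hm
      exact Matrix.toLin'.injective this
    rw [(ρ0_xg f (r := 7) (by decide) (by decide)).2] at h1
    have h2 := congrFun (congrFun h1 0) 3
    rw [Matrix.map_apply, Matrix.one_apply] at h2
    have h3 : AA 7 0 3 = 1 := by decide +kernel
    rw [h3, map_one] at h2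
    exact one_ne_zero (h2.trans (if_neg (by decide)))

end Cfsg.Agent.Lib.G2Three
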