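import Cfsg.Agent.Lib.FusionGES
import Cfsg.Agent.Lib.FusionYoshida
import Cfsg.Agent.Lib.FusionCentOdd
import Cfsg.Agent.Lib.DihQuat

/-! Generalized extraspecial groups with an elementary abelian subgroup of index `p` (helper87). -/

set_option autoImplicit false
open Subgroup Cfsg.Agent.Lib Cfsg.Agent.Lib.FusionGES

namespace Cfsg.Agent.Lib.GESGroup

/-- nonabelian groups of order `p³` are extraspecial -/
theorem extraspecial_cube {X : Type*} [Group X] [Finite X] {p : ℕ} [hp : Fact p.Prime] (hcard : Nat.card X = p ^ 3)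
    (hna : ¬ ∀ x y : X, x * y = y * x) : Cfsg.IsExtraspecial p X := by
  have hX : IsPGroup p X := IsPGroup.of_card hcard
  have hnt : Nontrivial X := by
    rw [← Finite.one_lt_card_iff_nontrivial, hcard]
    exact Nat.one_lt_pow (by norm_num) hp.out.one_lt
  obtain ⟨k, hk⟩ := hX.index (center X)
  obtain ⟨c, hc⟩ := IsPGroup.iff_card.1 (hX.to_subgroup (center X))
  have h1 := (center X).card_mul_index
  rw [hk, hc, hcard, ← pow_add] at h1
  have h2 := Nat.pow_right_injective hp.out.two_le h1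
  have hc1 : 1 ≤ c := by
    have h3 : Nontrivial (center X) := hX.center_nontrivial
    rw [← Finite.one_lt_card_iff_nontrivial, hc] at h3
    by_contra h4
    have : c = 0 := by omega
    rw [this] at h3; simp at h3
  have hk2 : 2 ≤ k := by
    by_contra h4
    apply hna
    have h5 : IsCyclic (X ⧸ center X) := by
      have hcard' : Nat.card (X ⧸ center X) = p ^ k := hk
      interval_cases k
      · have : Subsingleton (X ⧸ center X) := by
          rw [← Finite.card_le_one_iff_subsingleton, hcard']; simp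
        infer_instance
      · rw [pow_one] at hcard'; exact isCyclic_of_prime_card hcard'
    have h6 := (QuotientGroup.mk' (center X)).isMulCommutative_of_isCyclic_of_ker_le_center (by simp)
    intro x y
    exact h6.is_comm.comm x y
  have hk3 : k = 2 := by
    have h3 : c + k = 3 := h2
    omega
  have hc3 : c = 1 := by
    have h3 : c + k = 3 := h2
    omega
  refine (FusionCentOdd.extraspecial_of hX ?_ hna ?_).1
  · rw [hk, hk3]
  · rw [hc, hc3, pow_one]

structure GT {X : Type*} [Group X] (p : ℕ) (t v z : X) (Q : Subgroup X) : Prop where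
  hz1 : z ≠ 1
  hzp : z ^ p = 1
  hzc : ∀ x, x * z = z * x
  hvQ : v ∈ Q
  hzQ : z ∈ Q
  htv : t * v * t⁻¹ = z * v
  hgen : ∀ y, ∃ k : ℤ, ∃ q ∈ Q, y = t ^ k * q
  hQc : ∀ a ∈ Q, ∀ b ∈ Q, a * b = b * a
  hQp : ∀ a ∈ Q, a ^ p = 1
  htp : ∃ k : ℤ, t ^ p = z ^ k
  hcomm : ∀ q ∈ Q, ∃ k : ℤ, t * q * t⁻¹ = z ^ k * q

variable {X : Type*} [Group X] {p : ℕ} [hp : Fact p.Prime] {t v z : X} {Q : Subgroup X}

omit hp in
theorem GT.tz (h : GT p t v z Q) (k : ℤ) (x : X) : Commute x (z ^ k) := (show Commute x z from h.hzc x).zpow_right k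

omit hp in
theorem GT.conj (h : GT p t v z Q) (n : ℤ) : t ^ n * v * (t ^ n)⁻¹ = z ^ n * v :=
  zpow_conj (h.hzc t) h.htv n

omit hp in
theorem GT.conj' (h : GT p t v z Q) (n : ℤ) : t * v ^ n * t⁻¹ = z ^ n * v ^ n := by
  have h1 : t * v ^ n * t⁻¹ = (t * v * t⁻¹) ^ n := by rw [conj_zpow]
  rw [h1, h.htv, (show Commute z v from (h.hzc v).symm).mul_zpow]

theorem GT.zpow_eq_one (h : GT p t v z Q) {n : ℤ} (hn : z ^ n = 1) : (p : ℤ) ∣ n := dvd_of_zpow h.hzp h.hz1 hn

theorem GT.tn_mem (h : GT p t v z Q) {n : ℤ} (hn : z ^ n = 1) : ∃ k : ℤ, t ^ n = z ^ k := by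
  obtain ⟨m, rfl⟩ := h.zpow_eq_one hn
  obtain ⟨k, hk⟩ := h.htp
  exact ⟨k * m, by rw [zpow_mul, zpow_natCast, hk, zpow_mul]⟩

/-- central elements -/
theorem GT.center_le (h : GT p t v z Q) {x : X} (hx : ∀ y, y * x = x * y) : x ∈ Q := by
  obtain ⟨k, q, hq, rfl⟩ := h.hgen x
  have h1 := h.conj k
  have h2 : t ^ k * v * (t ^ k)⁻¹ = v := by
    have h3 := hx v
    have h4 : q * v = v * q := h.hQc q hq v h.hvQ
    have h5 : t ^ k * v = v * t ^ k := by
      have h6 : (t ^ k * v) * q = (v * t ^ k) * q := by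
        rw [mul_assoc, ← h4, ← mul_assoc, ← h3]; group
      exact mul_right_cancel h6
    rw [h5]; group
  rw [h2] at h1
  have h3 : z ^ k = 1 := by
    have : 1 * v = z ^ k * v := by rw [one_mul]; exact h1
    exact (mul_right_cancel this).symm
  obtain ⟨l, hl⟩ := h.tn_mem h3
  rw [hl]
  exact Q.mul_mem (Q.zpow_mem h.hzQ l) hq

omit hp in
theorem GT.center_of (h : GT p t v z Q) {q : X} (hq : q ∈ Q) (htq : t * q = q * t) : ∀ y, y * q = q * y := by
  intro y
  obtain ⟨k, r, hr, rfl⟩ := h.hgen y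
  have h1 : Commute (t ^ k) q := (show Commute t q from htq).zpow_left k
  have h2 : Commute r q := h.hQc r hr q hq
  exact (h1.mul_left h2).eq

/-- the complement `A` of `⟨z⟩` in the centre -/
theorem GT.exists_A (h : GT p t v z Q) : ∃ A : Subgroup X, A ≤ center X ∧ (∀ k : ℤ, z ^ k ∈ A → z ^ k = 1) ∧
    ∀ c ∈ center X, ∃ k : ℤ, ∃ a ∈ A, c = z ^ k * a := by
  have hexp : ∀ c : center X, c ^ p = 1 := fun c => Subtype.ext (h.hQp c (h.center_le (mem_center_iff.1 c.2)))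
  have hzC : z ∈ center X := mem_center_iff.2 h.hzc
  let _ : CommGroup (center X) := { (inferInstance : Group (center X)) with
    mul_comm := fun a b => Subtype.ext (mem_center_iff.1 b.2 a) }
  obtain ⟨χ, hχ⟩ := FusionYoshida.exists_hom hexp (x := ⟨z, hzC⟩) (fun h1 => h.hz1 (congrArg Subtype.val h1))
  refine ⟨χ.ker.map (center X).subtype, map_subtype_le _, ?_, ?_⟩
  · rintro k ⟨c, hc, hck⟩
    have h1 : c = (⟨z, hzC⟩ : center X) ^ k := Subtype.ext (by rw [← coe_subtype, hck]; rfl)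
    rw [h1] at hc
    have h2 : χ ⟨z, hzC⟩ ^ k = 1 := by rw [← map_zpow]; exact hc
    have h3 : (χ ⟨z, hzC⟩) ^ p = 1 := by rw [← map_pow, hexp, map_one]
    exact zpow_of_dvd h.hzp (dvd_of_zpow h3 hχ h2)
  · intro c hc
    have hcardA : Nat.card (Multiplicative (ZMod p)) = p := by
      rw [Nat.card_congr Multiplicative.toAdd, Nat.card_zmod]
    have h3 : (χ ⟨z, hzC⟩) ^ p = 1 := by rw [← map_pow, hexp, map_one]
    have h4 : χ ⟨c, hc⟩ ∈ zpowers (χ ⟨z, hzC⟩) := by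
      have h5 : zpowers (χ ⟨z, hzC⟩) = ⊤ := by
        apply Subgroup.eq_top_of_card_eq
        rw [Nat.card_zpowers, orderOf_eq_prime h3 hχ, hcardA]
      rw [h5]; trivial
    obtain ⟨k, hk⟩ := h4
    refine ⟨k, (z ^ k)⁻¹ * c, ⟨⟨z, hzC⟩ ^ (-k) * ⟨c, hc⟩, ?_, ?_⟩, by group⟩
    · rw [SetLike.mem_coe, MonoidHom.mem_ker, map_mul, map_zpow, ← hk]
      show _ * (χ ⟨z, hzC⟩) ^ k = 1
      rw [← zpow_add]; simp
    · show ((⟨z, hzC⟩ ^ (-k) * ⟨c, hc⟩ : center X) : X) = _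
      push_cast
      rw [zpow_neg]

/-- the subgroup `E = ⟨t, v⟩` -/
def EE (t v z : X) : Subgroup X := zpowers t ⊔ (zpowers v ⊔ zpowers z)

omit hp in
theorem GT.mem_EE (h : GT p t v z Q) {e : X} : e ∈ EE t v z ↔ ∃ i j k : ℤ, e = t ^ i * v ^ j * z ^ k := by
  have hnz : zpowers v ≤ Subgroup.normalizer (zpowers z : Set X) := by
    rintro _ ⟨j, rfl⟩
    rw [Subgroup.mem_normalizer_iff]
    intro x
    have h1 : ∀ (u x : X), x ∈ zpowers z → u * x * u⁻¹ ∈ zpowers z := by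
      rintro u _ ⟨k, rfl⟩
      exact ⟨k, by show z ^ k = _; rw [(h.tz k u).eq]; group⟩
    refine ⟨h1 _ x, fun hx => ?_⟩
    have h2 := h1 (v ^ j)⁻¹ _ hx
    have h3 : (v ^ j)⁻¹ * (v ^ j * x * (v ^ j)⁻¹) * (v ^ j)⁻¹⁻¹ = x := by group
    have h4 : (v ^ j)⁻¹ * ((fun x => v ^ x) j * x * ((fun x => v ^ x) j)⁻¹) * (v ^ j)⁻¹⁻¹ = x := h3
    rwa [h4] at h2
  have hmem : ∀ x, x ∈ zpowers v ⊔ zpowers z ↔ ∃ j k : ℤ, x = v ^ j * z ^ k := by
    intro x
    rw [FusionNormal.mem_sup_of_normalizes hnz]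
    constructor
    · rintro ⟨_, ⟨j, rfl⟩, _, ⟨k, rfl⟩, rfl⟩; exact ⟨j, k, rfl⟩
    · rintro ⟨j, k, rfl⟩; exact ⟨_, ⟨j, rfl⟩, _, ⟨k, rfl⟩, rfl⟩
  have hnt : zpowers t ≤ Subgroup.normalizer ((zpowers v ⊔ zpowers z : Subgroup X) : Set X) := by
    have h1 : ∀ i : ℤ, ∀ x ∈ zpowers v ⊔ zpowers z, t ^ i * x * (t ^ i)⁻¹ ∈ zpowers v ⊔ zpowers z := by
      intro i x hx
      obtain ⟨j, k, rfl⟩ := (hmem x).1 hx
      refine (hmem _).2 ⟨j, i * j + k, ?_⟩
      have h2 : t ^ i * v ^ j * (t ^ i)⁻¹ = z ^ (i * j) * v ^ j := by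
        rw [← conj_zpow, h.conj, (show Commute (z ^ i) v from (h.tz i v).symm).mul_zpow, ← zpow_mul]
      calc t ^ i * (v ^ j * z ^ k) * (t ^ i)⁻¹ = (t ^ i * v ^ j * (t ^ i)⁻¹) * (t ^ i * z ^ k * (t ^ i)⁻¹) := by group
        _ = z ^ (i * j) * v ^ j * z ^ k := by
          rw [h2, (h.tz k (t ^ i)).eq]; group
        _ = v ^ j * z ^ (i * j + k) := by rw [← (h.tz (i * j) (v ^ j)).eq, mul_assoc, ← zpow_add]
    rintro _ ⟨i, rfl⟩
    rw [Subgroup.mem_normalizer_iff]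
    intro x
    refine ⟨h1 i x, fun hx => ?_⟩
    have h2 := h1 (-i) _ hx
    have h3 : t ^ (-i) * ((fun x => t ^ x) i * x * ((fun x => t ^ x) i)⁻¹) * (t ^ (-i))⁻¹ = x := by
      show t ^ (-i) * (t ^ i * x * (t ^ i)⁻¹) * (t ^ (-i))⁻¹ = x
      group
    rwa [h3] at h2
  unfold EE
  rw [FusionNormal.mem_sup_of_normalizes hnt]
  constructor
  · rintro ⟨_, ⟨i, rfl⟩, y, hy, rfl⟩
    obtain ⟨j, k, rfl⟩ := (hmem y).1 hy
    exact ⟨i, j, k, by rw [mul_assoc]⟩
  · rintro ⟨i, j, k, rfl⟩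
    exact ⟨_, ⟨i, rfl⟩, v ^ j * z ^ k, (hmem _).2 ⟨j, k, rfl⟩, (mul_assoc _ _ _).symm⟩

omit hp in
theorem GT.t_mem : t ∈ EE t v z := mem_sup_left (mem_zpowers t)
omit hp in
theorem GT.v_mem : v ∈ EE t v z := mem_sup_right (mem_sup_left (mem_zpowers v))
omit hp in
theorem GT.z_mem : z ∈ EE t v z := mem_sup_right (mem_sup_right (mem_zpowers z))

theorem GT.center_EE (h : GT p t v z Q) {e : X} (he : e ∈ EE t v z) (hc : ∀ y, y * e = e * y) :
    ∃ k : ℤ, e = z ^ k := by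
  obtain ⟨i, j, k, rfl⟩ := h.mem_EE.1 he
  have hcz : ∀ y, y * (t ^ i * v ^ j) = (t ^ i * v ^ j) * y := by
    intro y
    have h1 := hc y
    have h2 : (y * (t ^ i * v ^ j)) * z ^ k = ((t ^ i * v ^ j) * y) * z ^ k := by
      rw [mul_assoc y, h1, mul_assoc _ y, (h.tz k y).eq, ← mul_assoc _ _ y]
    exact mul_right_cancel h2
  have hi : z ^ i = 1 := by
    have h1 := hcz v
    have h2 : t ^ i * v = v * t ^ i := by
      have h3 : (t ^ i * v) * v ^ j = (v * t ^ i) * v ^ j := by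
        rw [mul_assoc, (Commute.refl v).zpow_right j |>.eq, ← mul_assoc, ← h1, mul_assoc]
      exact mul_right_cancel h3
    have h3 := h.conj i
    rw [h2, mul_assoc, mul_inv_cancel, mul_one] at h3
    have h4 : 1 * v = z ^ i * v := by rw [one_mul]; exact h3
    exact (mul_right_cancel h4).symm
  have hj : z ^ j = 1 := by
    have h1 := hcz t
    have h2 : t * v ^ j = v ^ j * t := by
      have h3 : t ^ i * (t * v ^ j) = t ^ i * (v ^ j * t) := by
        rw [← mul_assoc, ← mul_assoc, ← h1, ← mul_assoc, (Commute.refl t).zpow_right i |>.eq]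
      exact mul_left_cancel h3
    have h3 := h.conj' j
    rw [h2, mul_assoc, mul_inv_cancel, mul_one] at h3
    have h4 : 1 * v ^ j = z ^ j * v ^ j := by rw [one_mul]; exact h3
    exact (mul_right_cancel h4).symm
  obtain ⟨m, hm⟩ := h.tn_mem hi
  obtain ⟨l, rfl⟩ := h.zpow_eq_one hj
  refine ⟨m + k, ?_⟩
  rw [hm, zpow_mul, zpow_natCast, h.hQp v h.hvQ, one_zpow, mul_one, zpow_add]

/-- `X = E × A` -/
theorem GT.exists_equiv (h : GT p t v z Q) : ∃ A : Subgroup X, A ≤ center X ∧ (∀ a ∈ A, a ^ p = 1) ∧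
    Nonempty (X ≃* EE t v z × A) := by
  obtain ⟨A, hA, hA1, hA2⟩ := h.exists_A
  have hcomm : ∀ (e : EE t v z) (a : A), Commute (e : X) (a : X) := fun e a => mem_center_iff.1 (hA a.2) e
  refine ⟨A, hA, fun a ha => h.hQp a (h.center_le (mem_center_iff.1 (hA ha))), ⟨?_⟩⟩
  let f : EE t v z × A →* X := MonoidHom.noncommCoprod (EE t v z).subtype A.subtype hcomm
  have hf : ∀ e a, f (e, a) = (e : X) * a := fun e a => rfl
  refine (MulEquiv.ofBijective f ⟨?_, ?_⟩).symm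
  · rw [injective_iff_map_eq_one]
    rintro ⟨e, a⟩ hea
    rw [hf] at hea
    have h1 : (e : X) = (a : X)⁻¹ := eq_inv_of_mul_eq_one_left hea
    have h2 : (e : X) ∈ A := by rw [h1]; exact A.inv_mem a.2
    obtain ⟨k, hk⟩ := h.center_EE e.2 (mem_center_iff.1 (hA h2))
    have h3 : (e : X) = 1 := by rw [hk]; exact hA1 k (by rw [← hk]; exact h2)
    have h4 : (a : X) = 1 := by rw [h3, one_mul] at hea; exact hea
    exact Prod.ext (Subtype.ext h3) (Subtype.ext h4)
  · intro x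
    obtain ⟨k, q, hq, rfl⟩ := h.hgen x
    obtain ⟨l, hl⟩ := h.hcomm q hq
    have hvl : v ^ (-l) ∈ Q := Q.zpow_mem h.hvQ _
    have hc : ∀ y, y * (q * v ^ (-l)) = (q * v ^ (-l)) * y := by
      refine h.center_of (Q.mul_mem hq hvl) ?_
      rw [← mul_inv_eq_iff_eq_mul]
      calc t * (q * v ^ (-l)) * t⁻¹ = (t * q * t⁻¹) * (t * v ^ (-l) * t⁻¹) := by group
        _ = z ^ l * q * (z ^ (-l) * v ^ (-l)) := by rw [hl, h.conj']
        _ = z ^ l * (q * z ^ (-l)) * v ^ (-l) := by group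
        _ = z ^ l * (z ^ (-l) * q) * v ^ (-l) := by rw [(h.tz (-l) q).eq]
        _ = q * v ^ (-l) := by group
    obtain ⟨m, a, ha, hma⟩ := hA2 _ (mem_center_iff.2 hc)
    refine ⟨(⟨t ^ k * v ^ l * z ^ m, h.mem_EE.2 ⟨k, l, m, rfl⟩⟩, ⟨a, ha⟩), ?_⟩
    rw [hf]
    show t ^ k * v ^ l * z ^ m * a = t ^ k * q
    rw [mul_assoc (t ^ k * v ^ l), ← hma, mul_assoc, ← mul_assoc (v ^ l), (h.hQc _ (Q.zpow_mem h.hvQ l) q hq)]
    group

omit hp in
theorem GT.not_comm (h : GT p t v z Q) : t * v ≠ v * t := by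
  intro h1
  have h2 := h.htv
  rw [h1, mul_assoc, mul_inv_cancel, mul_one] at h2
  have h3 : 1 * v = z * v := by rw [one_mul]; exact h2
  exact h.hz1 (mul_right_cancel h3).symm

theorem zpow_mod {X : Type*} [Group X] {p : ℕ} [hp : Fact p.Prime] {z : X} (hz : z ^ p = 1) (k : ℤ) :
    ∃ n < p, z ^ k = z ^ n := by
  have hp0 : (p : ℤ) ≠ 0 := by exact_mod_cast hp.out.ne_zero
  have h1 := Int.emod_nonneg k hp0
  have h2 := Int.emod_lt_of_pos k (show (0 : ℤ) < p by exact_mod_cast hp.out.pos)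
  refine ⟨(k % p).toNat, by omega, ?_⟩
  rw [← zpow_natCast, Int.toNat_of_nonneg h1]
  conv_lhs => rw [← Int.emod_add_mul_ediv k p, zpow_add, zpow_mul, zpow_natCast, hz, one_zpow, mul_one]

theorem GT.card_EE (h : GT p t v z Q) [Finite X] (hX : IsPGroup p X) : Nat.card (EE t v z) = p ^ 3 := by
  have hE : IsPGroup p (EE t v z) := hX.to_subgroup _
  obtain ⟨c, hc⟩ := IsPGroup.iff_card.1 hE
  have hle : Nat.card (EE t v z) ≤ p ^ 3 := by
    have hsurj : Function.Surjective (fun q : Fin p × Fin p × Fin p =>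
        (⟨t ^ (q.1 : ℕ) * v ^ (q.2.1 : ℕ) * z ^ (q.2.2 : ℕ), h.mem_EE.2 ⟨q.1, q.2.1, q.2.2, by
          simp only [zpow_natCast]⟩⟩ : EE t v z)) := by
      rintro ⟨e, he⟩
      obtain ⟨i, j, k, rfl⟩ := h.mem_EE.1 he
      obtain ⟨a, ha⟩ := h.htp
      have hp0 : (p : ℤ) ≠ 0 := by exact_mod_cast hp.out.ne_zero
      have h1 := Int.emod_nonneg i hp0
      have h2 := Int.emod_lt_of_pos i (show (0 : ℤ) < p by exact_mod_cast hp.out.pos)
      have h3 : t ^ i = t ^ (i % p).toNat * z ^ (a * (i / p)) := by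
        rw [← zpow_natCast, Int.toNat_of_nonneg h1]
        conv_lhs => rw [← Int.emod_add_mul_ediv i p, zpow_add, zpow_mul, zpow_natCast, ha, ← zpow_mul]
      obtain ⟨n2, hn2, h4⟩ := zpow_mod (h.hQp v h.hvQ) j
      obtain ⟨n3, hn3, h5⟩ := zpow_mod h.hzp (a * (i / p) + k)
      refine ⟨(⟨(i % p).toNat, by omega⟩, ⟨n2, hn2⟩, ⟨n3, hn3⟩), Subtype.ext ?_⟩
      show t ^ (i % p).toNat * v ^ n2 * z ^ n3 = t ^ i * v ^ j * z ^ k
      rw [h3, ← h4, ← h5, zpow_add, mul_assoc (t ^ (i % p).toNat) (z ^ _) (v ^ j), ← (h.tz (a * (i / p)) (v ^ j)).eq]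
      simp only [mul_assoc]
    have h1 := Nat.card_le_card_of_surjective _ hsurj
    refine h1.trans (le_of_eq ?_)
    rw [Nat.card_prod, Nat.card_prod, Nat.card_fin]; ring
  rw [hc] at hle
  have hc3 : c ≤ 3 := (Nat.pow_le_pow_iff_right hp.out.one_lt).1 hle
  rw [hc]
  congr 1
  by_contra hne
  have hc2 : c ≤ 2 := by omega
  apply h.not_comm
  have key : ∀ a b : EE t v z, a * b = b * a := by
    interval_cases c
    · rw [pow_zero] at hc
      have := (Nat.card_eq_one_iff_unique.1 hc).1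
      intro a b; exact Subsingleton.elim _ _
    · rw [pow_one] at hc
      have hcyc : IsCyclic (EE t v z) := isCyclic_of_prime_card hc
      intro a b
      obtain ⟨g, hg⟩ := hcyc.exists_generator
      obtain ⟨i, rfl⟩ := hg a
      obtain ⟨j, rfl⟩ := hg b
      exact ((Commute.refl g).zpow_zpow i j).eq
    · exact fun a b => (IsPGroup.isMulCommutative_of_card_eq_prime_sq hc).is_comm.comm a b
  exact congrArg Subtype.val (key ⟨t, GT.t_mem⟩ ⟨v, GT.v_mem⟩)

theorem GT.pow_EE (h : GT p t v z Q) (hp2 : p ≠ 2) (ht : t ^ p = 1) : ∀ e : EE t v z, e ^ p = 1 := by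
  rintro ⟨e, he⟩
  obtain ⟨i, j, k, rfl⟩ := h.mem_EE.1 he
  apply Subtype.ext
  show (t ^ i * v ^ j * z ^ k) ^ p = 1
  rw [((h.tz k (t ^ i * v ^ j))).mul_pow]
  have hzk : (z ^ k) ^ p = 1 := by rw [← zpow_natCast, ← zpow_mul, mul_comm, zpow_mul, zpow_natCast, h.hzp, one_zpow]
  rw [hzk, mul_one]
  have h1 : t ^ i * v ^ j = z ^ (i * j) * (v ^ j * t ^ i) := by
    have h2 : t ^ i * v ^ j * (t ^ i)⁻¹ = z ^ (i * j) * v ^ j := by
      rw [← conj_zpow, h.conj, (show Commute (z ^ i) v from (h.tz i v).symm).mul_zpow, ← zpow_mul]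
    rw [mul_inv_eq_iff_eq_mul] at h2
    rw [h2, mul_assoc]
  have h2 := mul_pow_aux (h.tz (i * j) (t ^ i)) (h.tz (i * j) (v ^ j)) h1 p
  have h3 : (z ^ (i * j)) ^ (p.choose 2) = 1 := by
    obtain ⟨m, hm⟩ : p ∣ p.choose 2 := hp.out.dvd_choose_self (by norm_num) (by have := hp.out.two_le; omega)
    have hzb : (z ^ (i * j)) ^ p = 1 := by
      rw [← zpow_natCast, ← zpow_mul, mul_comm, zpow_mul, zpow_natCast, h.hzp, one_zpow]
    rw [hm, pow_mul, hzb, one_pow]
  have h4 : (t ^ i) ^ p = 1 := by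
    rw [← zpow_natCast, ← zpow_mul, mul_comm, zpow_mul, zpow_natCast, ht, one_zpow]
  have h5 : (v ^ j) ^ p = 1 := h.hQp _ (Q.zpow_mem h.hvQ j)
  rw [h3, one_mul, h4, h5, one_mul] at h2
  exact h2

theorem GT.odd (h : GT p t v z Q) [Finite X] (hX : IsPGroup p X) (hp2 : p ≠ 2) (ht : t ^ p = 1) :
    ∃ (E : Type) (_ : Group E) (A : Type) (_ : CommGroup A), Cfsg.IsExtraspecial p E ∧ Nat.card E = p ^ 3 ∧
      Monoid.exponent E = p ∧ (∀ a : A, a ^ p = 1) ∧ Nonempty (X ≃* E × A) := by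
  obtain ⟨A, hA, hAp, ⟨e⟩⟩ := h.exists_equiv
  let _ : CommGroup A := { (inferInstance : Group A) with
    mul_comm := fun a b => Subtype.ext (mem_center_iff.1 (hA b.2) a) }
  let eE : Shrink.{0} (EE t v z) ≃* EE t v z := Shrink.mulEquiv
  let eA : Shrink.{0} A ≃* A := Shrink.mulEquiv
  have hcard : Nat.card (Shrink.{0} (EE t v z)) = p ^ 3 := by rw [Nat.card_congr eE.toEquiv, h.card_EE hX]
  have hfin : Finite (Shrink.{0} (EE t v z)) := Finite.of_equiv _ eE.symm.toEquiv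
  refine ⟨Shrink.{0} (EE t v z), inferInstance, Shrink.{0} A, inferInstance, extraspecial_cube hcard ?_, hcard, ?_,
    fun a => ?_, ⟨e.trans (eE.symm.prodCongr eA.symm)⟩⟩
  · intro hcomm
    apply h.not_comm
    have h1 := congrArg eE (hcomm (eE.symm ⟨t, GT.t_mem⟩) (eE.symm ⟨v, GT.v_mem⟩))
    rw [map_mul, map_mul, eE.apply_symm_apply, eE.apply_symm_apply] at h1
    exact congrArg Subtype.val h1
  · have h1 : Monoid.exponent (Shrink.{0} (EE t v z)) ∣ p := Monoid.exponent_dvd_of_forall_pow_eq_one fun x => by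
      apply eE.injective
      rw [map_pow, map_one]
      exact h.pow_EE hp2 ht _
    rcases (Nat.dvd_prime hp.out).1 h1 with h2 | h2
    · exfalso
      rw [Monoid.exp_eq_one_iff] at h2
      have h3 : Nat.card (Shrink.{0} (EE t v z)) = 1 := Nat.card_eq_one_iff_unique.2 ⟨h2, ⟨1⟩⟩
      rw [hcard] at h3
      have := Nat.one_lt_pow (n := 3) (by norm_num) hp.out.one_lt
      omega
    · exact h2
  · apply eA.injective
    rw [map_pow, map_one]
    exact Subtype.ext (hAp _ (eA a).2)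

theorem GT.two {t v z : X} {Q : Subgroup X} (h : GT 2 t v z Q) [Finite X] (hX : IsPGroup 2 X) :
    ∃ (A : Type) (_ : CommGroup A), (∀ a : A, a ^ 2 = 1) ∧ Nonempty (X ≃* DihedralGroup 4 × A) := by
  have : Fact (Nat.Prime 2) := ⟨Nat.prime_two⟩
  obtain ⟨A, hA, hAp, ⟨e⟩⟩ := h.exists_equiv
  let _ : CommGroup A := { (inferInstance : Group A) with
    mul_comm := fun a b => Subtype.ext (mem_center_iff.1 (hA b.2) a) }
  let eA : Shrink.{0} A ≃* A := Shrink.mulEquiv
  have hcard := h.card_EE hX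
  have hvv : v * v = 1 := by have := h.hQp v h.hvQ; rwa [pow_two] at this
  have hzz : z * z = 1 := by have := h.hzp; rwa [pow_two] at this
  have htv : t * v = z * v * t := by rw [← mul_inv_eq_iff_eq_mul]; exact h.htv
  have hD : Nonempty (EE t v z ≃* DihedralGroup 4) := by
    have key : ∀ r : EE t v z, (r : X) ^ 2 = z → v * (r : X) * v⁻¹ = (r : X)⁻¹ → Nonempty (EE t v z ≃* DihedralGroup 4) := by
      intro r hr hrv
      have hr4 : orderOf r = 4 := by
        have h1 : r ^ (2 ^ 1) ≠ 1 := by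
          intro h2
          apply h.hz1
          rw [← hr]
          exact congrArg Subtype.val h2
        have h2 : r ^ (2 ^ (1 + 1)) = 1 := Subtype.ext (by
          show (r : X) ^ (2 ^ (1 + 1)) = 1
          have : (r : X) ^ 4 = ((r : X) ^ 2) ^ 2 := by rw [← pow_mul]
          norm_num
          rw [this, hr, h.hzp])
        have := orderOf_eq_prime_pow h1 h2
        norm_num at this
        exact this
      refine DihQuat.dihedral_iso (by norm_num) r ⟨v, GT.v_mem⟩ hr4 (Subtype.ext hvv) (Subtype.ext hrv) ?_ (by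
        rw [hcard]; norm_num)
      rintro ⟨k, hk⟩
      have hk' : (r : X) ^ k = v := by
        have := congrArg Subtype.val hk
        push_cast at this
        exact this
      have h2 : v * (r : X) * v⁻¹ = r := by
        have h3 : (r : X) ^ k * r * ((r : X) ^ k)⁻¹ = r := by group
        exact (congrArg (fun w => w * (r : X) * w⁻¹) hk').symm.trans h3
      rw [hrv] at h2
      apply h.hz1
      rw [← hr, pow_two]
      nth_rewrite 1 [← h2]
      rw [inv_mul_cancel]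
    obtain ⟨k, hk⟩ := h.htp
    have hcase : t ^ 2 = 1 ∨ t ^ 2 = z := by
      obtain ⟨n, hn, hzn⟩ := zpow_mod h.hzp k
      rw [hk, hzn]
      interval_cases n
      · left; rw [pow_zero]
      · right; rw [pow_one]
    rcases hcase with h1 | h1
    · refine key ⟨t * v, mul_mem GT.t_mem GT.v_mem⟩ ?_ ?_
      · show (t * v) ^ 2 = z
        rw [pow_two]
        calc t * v * (t * v) = (t * v) * t * v := by group
          _ = z * v * (t * t) * v := by rw [htv]; group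
          _ = z * (v * v) := by rw [← pow_two t, h1]; group
          _ = z := by rw [hvv, mul_one]
      · show v * (t * v) * v⁻¹ = (t * v)⁻¹
        rw [mul_inv_rev]
        have h2 : v⁻¹ = v := inv_eq_of_mul_eq_one_left hvv
        have h3 : t⁻¹ = t := inv_eq_of_mul_eq_one_left (by rw [← pow_two]; exact h1)
        rw [h2, h3, mul_assoc, mul_assoc, hvv, mul_one]
    · refine key ⟨t, GT.t_mem⟩ h1 ?_
      have h2 : v⁻¹ = v := inv_eq_of_mul_eq_one_left hvv
      show v * t * v⁻¹ = t⁻¹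
      rw [h2]
      have h3 : t⁻¹ = z * t := by
        rw [inv_eq_iff_mul_eq_one, ← mul_assoc, h.hzc t, mul_assoc, ← pow_two, h1, hzz]
      rw [h3, mul_assoc, htv]
      calc v * (z * v * t) = (v * z) * v * t := by group
        _ = z * (v * v) * t := by rw [h.hzc v]; group
        _ = z * t := by rw [hvv, mul_one]
  obtain ⟨eD⟩ := hD
  refine ⟨Shrink.{0} A, inferInstance, fun a => ?_, ⟨e.trans (eD.prodCongr eA.symm)⟩⟩
  apply eA.injective
  rw [map_pow, map_one]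
  exact Subtype.ext (hAp _ (eA a).2)

end Cfsg.Agent.Lib.GESGroup
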