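import Cfsg.Prelude.Def_LinearParabolics
import Mathlib

set_option autoImplicit false

/-!
Block labels of compositions: `compLabel μ i = k` iff `T k ≤ i < T (k+1)` with partial sums `T`.
-/

namespace Cfsg.Agent.Lib.GLLabel

open Cfsg

variable {n : ℕ}

/-- partial sums -/
def T (μ : Fin n → ℕ) (k : ℕ) : ℕ := ∑ l ∈ Finset.univ.filter (fun l : Fin n => l.val < k), μ l

lemma T_zero (μ : Fin n → ℕ) : T μ 0 = 0 := by simp [T]

lemma T_mono (μ : Fin n → ℕ) : Monotone (T μ) := by
  intro a b hab
  apply Finset.sum_le_sum_of_subset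
  intro x hx
  rw [Finset.mem_filter] at hx ⊢
  exact ⟨hx.1, by omega⟩

lemma T_succ (μ : Fin n → ℕ) (k : Fin n) : T μ (k.val + 1) = T μ k.val + μ k := by
  unfold T
  have : Finset.univ.filter (fun l : Fin n => l.val < k.val + 1) = insert k (Finset.univ.filter (fun l : Fin n => l.val < k.val)) := by
    ext l
    simp only [Finset.mem_filter, Finset.mem_univ, true_and, Finset.mem_insert, Fin.ext_iff]
    omega
  rw [this, Finset.sum_insert (by simp)]
  ring

lemma T_top (μ : Fin n → ℕ) : T μ n = ∑ i, μ i := by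
  unfold T
  congr 1
  ext l
  simp

lemma compLabel_eq_aux (μ : Fin n → ℕ) (i : Fin n) :
    compLabel μ i = (Finset.univ.filter fun j : Fin n => T μ (j.val + 1) ≤ i.val).card := by
  unfold compLabel T
  congr 1
  ext j
  simp only [Finset.mem_filter, Finset.mem_univ, true_and]
  have : Finset.univ.filter (fun k : Fin n => k ≤ j) = Finset.univ.filter (fun l : Fin n => l.val < j.val + 1) := by
    ext l
    simp only [Finset.mem_filter, Finset.mem_univ, true_and, Fin.le_def]
    omega
  rw [this]

lemma compLabel_of_between (μ : Fin n → ℕ) (i : Fin n) (k : ℕ) (hk : k ≤ n) (h1 : T μ k ≤ i.val) (h2 : i.val < T μ (k+1)) :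
    compLabel μ i = k := by
  rw [compLabel_eq_aux]
  have : (Finset.univ.filter fun j : Fin n => T μ (j.val + 1) ≤ i.val) = Finset.univ.filter fun j : Fin n => j.val < k := by
    ext j
    simp only [Finset.mem_filter, Finset.mem_univ, true_and]
    constructor
    · intro h
      by_contra hc
      have := T_mono μ (show k + 1 ≤ j.val + 1 by omega)
      omega
    · intro h
      have := T_mono μ (show j.val + 1 ≤ k by omega)
      omega
  rw [this, Fin.card_filter_val_lt]
  simp [hk]

lemma exists_between (μ : Fin n → ℕ) (hμ : ∑ i, μ i = n) (i : Fin n) : ∃ k, k < n ∧ T μ k ≤ i.val ∧ i.val < T μ (k+1) := by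
  have hex : ∃ m, i.val < T μ m := ⟨n, by rw [T_top, hμ]; exact i.isLt⟩
  classical
  have h1 := Nat.find_spec hex
  have h2 : ∀ m, m < Nat.find hex → ¬ (i.val < T μ m) := fun m hm => Nat.find_min hex hm
  set m := Nat.find hex with hm
  have hm0 : m ≠ 0 := by
    intro h0; rw [h0, T_zero] at h1; omega
  have hmn : m ≤ n := Nat.find_min' hex (by rw [T_top, hμ]; exact i.isLt)
  refine ⟨m - 1, by omega, ?_, ?_⟩
  · have := h2 (m - 1) (by omega); omega
  · have : m - 1 + 1 = m := by omega
    rw [this]; exact h1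

lemma compLabel_spec (μ : Fin n → ℕ) (hμ : ∑ i, μ i = n) (i : Fin n) :
    compLabel μ i < n ∧ T μ (compLabel μ i) ≤ i.val ∧ i.val < T μ (compLabel μ i + 1) := by
  obtain ⟨k, hk, h1, h2⟩ := exists_between μ hμ i
  rw [compLabel_of_between μ i k hk.le h1 h2]
  exact ⟨hk, h1, h2⟩

lemma compLabel_lt (μ : Fin n → ℕ) (hμ : ∑ i, μ i = n) (i : Fin n) : compLabel μ i < n := (compLabel_spec μ hμ i).1

lemma compLabel_mono (μ : Fin n → ℕ) : Monotone (compLabel μ) := by
  intro i j hij
  rw [compLabel_eq_aux, compLabel_eq_aux]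
  apply Finset.card_le_card
  intro l hl
  rw [Finset.mem_filter] at hl ⊢
  exact ⟨hl.1, le_trans hl.2 hij⟩

lemma compLabel_eq_iff (μ : Fin n → ℕ) (hμ : ∑ i, μ i = n) (i : Fin n) (k : ℕ) (hk : k ≤ n) :
    compLabel μ i = k ↔ T μ k ≤ i.val ∧ i.val < T μ (k+1) := by
  constructor
  · intro h
    have := compLabel_spec μ hμ i
    rw [h] at this
    exact this.2
  · intro h
    exact compLabel_of_between μ i k hk h.1 h.2

/-- the fibre over `k` has `μ k` elements -/
lemma card_fiber (μ : Fin n → ℕ) (hμ : ∑ i, μ i = n) (k : Fin n) :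
    (Finset.univ.filter fun i : Fin n => compLabel μ i = k.val).card = μ k := by
  have h1 : (Finset.univ.filter fun i : Fin n => compLabel μ i = k.val) =
      (Finset.univ.filter fun i : Fin n => T μ k.val ≤ i.val ∧ i.val < T μ (k.val + 1)) := by
    ext i
    simp only [Finset.mem_filter, Finset.mem_univ, true_and]
    exact compLabel_eq_iff μ hμ i k.val k.isLt.le
  rw [h1]
  have h2 : T μ (k.val + 1) ≤ n := by
    have := T_mono μ (show k.val + 1 ≤ n from k.isLt)
    rw [T_top, hμ] at this
    exact this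
  have h3 : ((Finset.univ.filter fun i : Fin n => T μ k.val ≤ i.val ∧ i.val < T μ (k.val + 1)).map Fin.valEmbedding) =
      Finset.Ico (T μ k.val) (T μ (k.val + 1)) := by
    ext m
    simp only [Finset.mem_map, Finset.mem_filter, Finset.mem_univ, true_and, Fin.valEmbedding_apply, Finset.mem_Ico]
    constructor
    · rintro ⟨i, hi, rfl⟩; exact hi
    · intro hm; exact ⟨⟨m, by omega⟩, hm, rfl⟩
  rw [← Finset.card_map Fin.valEmbedding, h3, Nat.card_Ico, T_succ]
  omega

end Cfsg.Agent.Lib.GLLabel
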