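import Cfsg.Prelude.Def_ParabolicCharacters
import Mathlib

set_option autoImplicit false

/-!
Inner products of permutation characters count double cosets.
-/

namespace Cfsg.Agent.Lib.GLOrbits

open Cfsg MulAction

variable {G : Type*} [Group G]

lemma inner_eq_orbits [Fintype G] (H K : Subgroup G) :
    (Nat.card G : ℂ)⁻¹ * ∑ g : G, fixedPointCharacter H g * fixedPointCharacter K g =
      (Nat.card (orbitRel.Quotient G ((G ⧸ H) × (G ⧸ K))) : ℂ) := by
  classical
  haveI : Fintype (orbitRel.Quotient G ((G ⧸ H) × (G ⧸ K))) := Fintype.ofFinite _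
  haveI : ∀ g : G, Fintype (fixedBy ((G ⧸ H) × (G ⧸ K)) g) := fun g => Fintype.ofFinite _
  have h1 := sum_card_fixedBy_eq_card_orbits_mul_card_group G ((G ⧸ H) × (G ⧸ K))
  have h2 : ∀ g : G, (Fintype.card (fixedBy ((G ⧸ H) × (G ⧸ K)) g) : ℂ) = fixedPointCharacter H g * fixedPointCharacter K g := by
    intro g
    unfold fixedPointCharacter
    rw [← Nat.cast_mul, ← Nat.card_prod, ← Nat.card_eq_fintype_card]
    congr 1
    apply Nat.card_congr
    exact {
      toFun := fun x => (⟨x.1.1, by have := x.2; rw [mem_fixedBy] at this ⊢; exact congrArg Prod.fst this⟩,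
        ⟨x.1.2, by have := x.2; rw [mem_fixedBy] at this ⊢; exact congrArg Prod.snd this⟩)
      invFun := fun y => ⟨(y.1.1, y.2.1), by
        have a := y.1.2; have b := y.2.2
        rw [mem_fixedBy] at a b ⊢
        exact Prod.ext a b⟩
      left_inv := fun x => rfl
      right_inv := fun y => rfl }
  have h3 : (∑ g : G, fixedPointCharacter H g * fixedPointCharacter K g) =
      (Fintype.card (orbitRel.Quotient G ((G ⧸ H) × (G ⧸ K))) : ℂ) * Fintype.card G := by
    rw [← Nat.cast_mul, ← h1, Nat.cast_sum]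
    exact Finset.sum_congr rfl fun g _ => (h2 g).symm
  rw [h3, Nat.card_eq_fintype_card, Nat.card_eq_fintype_card]
  have : (Fintype.card G : ℂ) ≠ 0 := by exact_mod_cast Fintype.card_ne_zero
  field_simp

lemma card_orbits_eq {S X : Type*} (H K : Subgroup G) (f : S → G) (A : S → X)
    (h1 : ∀ g : G, ∃ s : S, ∃ h ∈ H, ∃ k ∈ K, g = h * f s * k)
    (h2 : ∀ s s', (∃ h ∈ H, ∃ k ∈ K, f s' = h * f s * k) ↔ A s = A s') :
    Nat.card (orbitRel.Quotient G ((G ⧸ H) × (G ⧸ K))) = Nat.card (Set.range A) := by
  let Φ : S → orbitRel.Quotient G ((G ⧸ H) × (G ⧸ K)) := fun s =>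
    Quotient.mk'' (((1 : G) : G ⧸ H), ((f s : G) : G ⧸ K))
  have hsurj : Function.Surjective Φ := by
    intro x
    induction x using Quotient.inductionOn' with
    | _ x =>
      obtain ⟨a, b⟩ := x
      induction a using QuotientGroup.induction_on with
      | _ a =>
        induction b using QuotientGroup.induction_on with
        | _ b =>
          obtain ⟨s, h, hh, k, hk, he⟩ := h1 (a⁻¹ * b)
          refine ⟨s, ?_⟩
          apply Quotient.sound'
          change _ ∈ orbit G _
          rw [mem_orbit_iff]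
          refine ⟨h⁻¹ * a⁻¹, ?_⟩
          apply Prod.ext
          · change (((h⁻¹ * a⁻¹) * a : G) : G ⧸ H) = _
            rw [mul_assoc, inv_mul_cancel, mul_one, QuotientGroup.eq]
            simpa using hh
          · change (((h⁻¹ * a⁻¹) * b : G) : G ⧸ K) = _
            rw [mul_assoc, he, QuotientGroup.eq]
            have : (h⁻¹ * (h * f s * k))⁻¹ * f s = k⁻¹ := by group
            rw [this]
            exact K.inv_mem hk
  have hker : ∀ s s', Φ s = Φ s' ↔ A s = A s' := by
    intro s s'
    rw [← h2]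
    constructor
    · intro h
      have h3 := Quotient.exact' h
      change _ ∈ orbit G _ at h3
      rw [mem_orbit_iff] at h3
      obtain ⟨g, hg⟩ := h3
      have e1 : ((g * 1 : G) : G ⧸ H) = ((1 : G) : G ⧸ H) := congrArg Prod.fst hg
      have e2 : ((g * f s' : G) : G ⧸ K) = ((f s : G) : G ⧸ K) := congrArg Prod.snd hg
      rw [QuotientGroup.eq] at e1 e2
      have hg' : g ∈ H := by simpa using H.inv_mem e1
      refine ⟨g⁻¹, H.inv_mem hg', ((g * f s')⁻¹ * f s)⁻¹, K.inv_mem e2, ?_⟩
      group
    · rintro ⟨h, hh, k, hk, he⟩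
      apply Quotient.sound'
      change _ ∈ orbit G _
      rw [mem_orbit_iff]
      refine ⟨h⁻¹, ?_⟩
      apply Prod.ext
      · change ((h⁻¹ * 1 : G) : G ⧸ H) = _
        rw [QuotientGroup.eq]
        simpa using hh
      · change ((h⁻¹ * f s' : G) : G ⧸ K) = _
        rw [he, QuotientGroup.eq]
        have : (h⁻¹ * (h * f s * k))⁻¹ * f s = k⁻¹ := by group
        rw [this]
        exact K.inv_mem hk
  apply Nat.card_congr
  let e1 : Quotient (Setoid.ker Φ) ≃ orbitRel.Quotient G ((G ⧸ H) × (G ⧸ K)) := Setoid.quotientKerEquivOfSurjective Φ hsurj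
  let e2 : Quotient (Setoid.ker A) ≃ Set.range A := Setoid.quotientKerEquivRange A
  have hk : Setoid.ker Φ = Setoid.ker A := by
    ext s s'
    exact hker s s'
  exact e1.symm.trans ((Quotient.congrRight (fun s s' => hker s s')).trans e2)

end Cfsg.Agent.Lib.GLOrbits
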