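import Cfsg.Prelude.Def_LinearParabolics
import Cfsg.Agent.Lib.GLLabel
import Cfsg.Agent.Lib.GLOrbits
import Mathlib

set_option autoImplicit false

/-!
Bruhat decomposition of `GL_n(F)` and double cosets of parabolic subgroups versus Young subgroups.
-/

namespace Cfsg.Agent.Lib.GLBruhat

open Cfsg Matrix
open scoped MatrixGroups

variable {n : ℕ} {F : Type*} [Field F]

/-- permutation matrices as a homomorphism -/
def permHom (n : ℕ) (F : Type*) [Field F] : Equiv.Perm (Fin n) →* Matrix (Fin n) (Fin n) F where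
  toFun σ := Matrix.of fun i j => if i = σ j then 1 else 0
  map_one' := by
    ext i j
    rw [Matrix.of_apply, Matrix.one_apply]
    rfl
  map_mul' σ τ := by
    ext i j
    rw [Matrix.mul_apply, Finset.sum_eq_single (τ j)]
    · rw [Matrix.of_apply, Matrix.of_apply, Matrix.of_apply, if_pos rfl, mul_one]
      rfl
    · intro b _ hb
      rw [Matrix.of_apply, Matrix.of_apply, if_neg hb, mul_zero]
    · simp

/-- permutation matrices in `GL` -/
def permGL (n : ℕ) (F : Type*) [Field F] : Equiv.Perm (Fin n) →* GL (Fin n) F := MonoidHom.toHomUnits (permHom n F)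

lemma permGL_apply (σ : Equiv.Perm (Fin n)) (i j : Fin n) :
    ((permGL n F σ : GL (Fin n) F) : Matrix (Fin n) (Fin n) F) i j = if i = σ j then 1 else 0 := rfl

lemma mul_permGL (M : Matrix (Fin n) (Fin n) F) (σ : Equiv.Perm (Fin n)) (i j : Fin n) :
    (M * ((permGL n F σ : GL (Fin n) F) : Matrix (Fin n) (Fin n) F)) i j = M i (σ j) := by
  rw [Matrix.mul_apply, Finset.sum_eq_single (σ j)]
  · rw [permGL_apply]; simp
  · intro b _ hb; rw [permGL_apply, if_neg hb, mul_zero]
  · simp

lemma permGL_mul (M : Matrix (Fin n) (Fin n) F) (σ : Equiv.Perm (Fin n)) (i j : Fin n) :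
    (((permGL n F σ : GL (Fin n) F) : Matrix (Fin n) (Fin n) F) * M) i j = M (σ⁻¹ i) j := by
  rw [Matrix.mul_apply, Finset.sum_eq_single (σ⁻¹ i)]
  · rw [permGL_apply]; simp
  · intro b _ hb
    rw [permGL_apply, if_neg, zero_mul]
    rintro rfl
    exact hb (by simp)
  · simp

/-- Bruhat decomposition. -/
theorem bruhat (g : GL (Fin n) F) : ∃ w : Equiv.Perm (Fin n), ∃ u ∈ upperTriangularGL n F, ∃ v ∈ upperTriangularGL n F,
    g = u * permGL n F w * v := by
  classical
  let Q : Fin n → ℕ → Prop := fun j m => ∃ x : Fin n → F, (∀ k, j < k → x k = 0) ∧ x j = 1 ∧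
    ∀ k : Fin n, m ≤ k.val → ((g : Matrix (Fin n) (Fin n) F) *ᵥ x) k = 0
  have hQ : ∀ j, ∃ m, Q j m := fun j => ⟨n, Pi.single j 1, fun k hk => by simp [ne_of_gt hk], by simp,
    fun k hk => by have := k.isLt; omega⟩
  let m : Fin n → ℕ := fun j => Nat.find (hQ j)
  have hm : ∀ j, Q j (m j) := fun j => Nat.find_spec (hQ j)
  have hmin : ∀ j k, k < m j → ¬ Q j k := fun j k hk => Nat.find_min (hQ j) hk
  have hmn : ∀ j, m j ≤ n := fun j => Nat.find_min' (hQ j) ⟨Pi.single j 1, fun k hk => by simp [ne_of_gt hk], by simp,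
    fun k hk => by have := k.isLt; omega⟩
  have hm0 : ∀ j, m j ≠ 0 := by
    intro j h0
    obtain ⟨x, h1, h2, h3⟩ := hm j
    rw [h0] at h3
    have h4 : (g : Matrix (Fin n) (Fin n) F) *ᵥ x = 0 := by
      ext k; exact h3 k (Nat.zero_le _)
    have h5 : ((g⁻¹ : GL (Fin n) F) : Matrix (Fin n) (Fin n) F) *ᵥ ((g : Matrix (Fin n) (Fin n) F) *ᵥ x) = x := by
      rw [Matrix.mulVec_mulVec, ← Units.val_mul, inv_mul_cancel, Units.val_one, Matrix.one_mulVec]
    rw [h4, Matrix.mulVec_zero] at h5
    rw [← h5] at h2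
    simp at h2
  choose x hx1 hx2 hx3 using hm
  have hpiv : ∀ j, ∀ k : Fin n, k.val + 1 = m j → ((g : Matrix (Fin n) (Fin n) F) *ᵥ x j) k ≠ 0 := by
    intro j k hk h0
    apply hmin j (m j - 1) (by have := hm0 j; omega)
    refine ⟨x j, hx1 j, hx2 j, ?_⟩
    intro l hl
    by_cases hlk : l = k
    · rw [hlk]; exact h0
    · apply hx3 j l
      have : l.val ≠ k.val := fun h => hlk (Fin.ext h)
      omega
  let w0 : Fin n → Fin n := fun j => ⟨m j - 1, by have := hm0 j; have := hmn j; omega⟩
  have hw0 : ∀ j, (w0 j).val + 1 = m j := fun j => by have := hm0 j; simp only [w0]; omega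
  have hlt : ∀ j j', w0 j = w0 j' → ¬ (j < j') := by
    intro j j' hjj hlt
    have hmm : m j = m j' := by rw [← hw0 j, ← hw0 j', hjj]
    have h1 := hpiv j (w0 j) (hw0 j)
    set c := ((g : Matrix (Fin n) (Fin n) F) *ᵥ x j') (w0 j) / ((g : Matrix (Fin n) (Fin n) F) *ᵥ x j) (w0 j) with hc
    apply hmin j' (m j' - 1) (by have := hm0 j'; omega)
    refine ⟨x j' - c • x j, ?_, ?_, ?_⟩
    · intro k hk
      rw [Pi.sub_apply, Pi.smul_apply, hx1 j' k hk, hx1 j k (lt_trans hlt hk)]; simp
    · rw [Pi.sub_apply, Pi.smul_apply, hx2 j', hx1 j j' hlt]; simp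
    · intro k hk
      rw [Matrix.mulVec_sub, Matrix.mulVec_smul, Pi.sub_apply, Pi.smul_apply]
      by_cases hkw : k = w0 j
      · rw [hkw, hc, smul_eq_mul, div_mul_cancel₀ _ h1, sub_self]
      · have h2 : k.val ≠ (w0 j).val := fun h => hkw (Fin.ext h)
        have h3 := hw0 j
        rw [hx3 j' k (by omega), hx3 j k (by omega)]; simp
  have hinj : Function.Injective w0 := by
    intro j j' h
    rcases lt_trichotomy j j' with h1 | h1 | h1
    · exact absurd h1 (hlt j j' h)
    · exact h1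
    · exact absurd h1 (hlt j' j h.symm)
  let w : Equiv.Perm (Fin n) := Equiv.ofBijective w0 (Finite.injective_iff_bijective.mp hinj)
  have hw : ∀ j, (w j).val + 1 = m j := hw0
  let T : Matrix (Fin n) (Fin n) F := Matrix.of fun k j => x j k
  have hTtri : T.BlockTriangular id := by
    intro i j hij
    exact hx1 j i hij
  have hTdet : T.det = 1 := by
    rw [Matrix.det_of_isUpperTriangular hTtri]
    apply Finset.prod_eq_one
    intro i _
    exact hx2 i
  let TG : GL (Fin n) F := Matrix.GeneralLinearGroup.mkOfDetNeZero T (by rw [hTdet]; exact one_ne_zero)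
  have hTG : (TG : Matrix (Fin n) (Fin n) F) = T := rfl
  have hTmem : TG ∈ upperTriangularGL n F := hTtri
  have hM : ∀ i j, ((g * TG : GL (Fin n) F) : Matrix (Fin n) (Fin n) F) i j = ((g : Matrix (Fin n) (Fin n) F) *ᵥ x j) i := by
    intro i j
    rw [Units.val_mul, hTG]
    rfl
  refine ⟨w, g * TG * (permGL n F w)⁻¹, ?_, TG⁻¹, Subgroup.inv_mem _ hTmem, by group⟩
  intro i j hij
  have h1 : ((g * TG * (permGL n F w)⁻¹ : GL (Fin n) F) : Matrix (Fin n) (Fin n) F) i j =
      ((g * TG : GL (Fin n) F) : Matrix (Fin n) (Fin n) F) i (w⁻¹ j) := by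
    rw [← map_inv, Units.val_mul, mul_permGL]
  rw [h1, hM]
  apply hx3
  have h2 := hw (w⁻¹ j)
  have h3 : w (w⁻¹ j) = j := by simp
  rw [h3] at h2
  have h4 : j.val < i.val := hij
  omega

/-- the parabolic subgroup of a labelling -/
def para (F : Type*) [Field F] (b : Fin n → ℕ) : Subgroup (GL (Fin n) F) where
  carrier := {g | (g : Matrix (Fin n) (Fin n) F).BlockTriangular b}
  mul_mem' := fun {a} {c} ha hc => by
    change ((a : Matrix (Fin n) (Fin n) F) * (c : Matrix (Fin n) (Fin n) F)).BlockTriangular b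
    exact Matrix.BlockTriangular.mul ha hc
  one_mem' := by
    change (1 : Matrix (Fin n) (Fin n) F).BlockTriangular b
    exact Matrix.blockTriangular_one
  inv_mem' := fun {a} ha => by
    change ((a⁻¹ : GL (Fin n) F) : Matrix (Fin n) (Fin n) F).BlockTriangular b
    have : Invertible (a : Matrix (Fin n) (Fin n) F) := a.invertible
    rw [Matrix.coe_units_inv]
    exact Matrix.blockTriangular_inv_of_blockTriangular ha

lemma parabolicGL_eq (μ : Fin n → ℕ) : parabolicGL n F μ = para F (compLabel μ) := rfl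

/-- the Young subgroup of a labelling -/
def young (b : Fin n → ℕ) : Subgroup (Equiv.Perm (Fin n)) where
  carrier := {σ | ∀ i, b (σ i) = b i}
  mul_mem' := fun {a} {c} ha hc i => by
    change b (a (c i)) = b i
    rw [ha, hc]
  one_mem' := fun _ => rfl
  inv_mem' := fun {a} ha i => by
    have h := ha (a⁻¹ i)
    have e : a (a⁻¹ i) = i := by simp
    rw [e] at h
    exact h.symm

lemma youngSubgroup_eq (μ : Fin n → ℕ) : youngSubgroup μ = young (compLabel μ) := rfl

lemma permGL_mem_para {b : Fin n → ℕ} {σ : Equiv.Perm (Fin n)} (h : ∀ i, b (σ i) = b i) : permGL n F σ ∈ para F b := by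
  intro i j hij
  rw [permGL_apply, if_neg]
  rintro rfl
  rw [h j] at hij
  exact lt_irrefl _ hij

lemma upper_mem_para {b : Fin n → ℕ} (hb : Monotone b) {u : GL (Fin n) F} (hu : u ∈ upperTriangularGL n F) : u ∈ para F b := by
  intro i j hij
  apply hu
  by_contra hc
  have hc' : i ≤ j := not_lt.mp hc
  exact absurd (hb hc') (not_le.mpr hij)

/-- the relative position matrix -/
def pos (b c : Fin n → ℕ) (w : Equiv.Perm (Fin n)) : ℕ → ℕ → ℕ := fun s t =>
  (Finset.univ.filter fun j : Fin n => b (w j) = s ∧ c j = t).card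

lemma exists_tau (b c : Fin n → ℕ) (w w' : Equiv.Perm (Fin n)) (h : pos b c w = pos b c w') :
    ∃ τ : Equiv.Perm (Fin n), (∀ j, c (τ j) = c j) ∧ ∀ j, b (w' (τ j)) = b (w j) := by
  classical
  let f : Fin n → ℕ × ℕ := fun j => (b (w j), c j)
  let f' : Fin n → ℕ × ℕ := fun j => (b (w' j), c j)
  have hcard : ∀ y : ℕ × ℕ, Fintype.card {j // f j = y} = Fintype.card {j // f' j = y} := by
    intro y
    have h1 := congrFun (congrFun h y.1) y.2
    unfold pos at h1
    rw [Fintype.card_subtype, Fintype.card_subtype]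
    have e1 : (Finset.univ.filter fun j => f j = y) = Finset.univ.filter fun j : Fin n => b (w j) = y.1 ∧ c j = y.2 := by
      ext j; simp [f, Prod.ext_iff]
    have e2 : (Finset.univ.filter fun j => f' j = y) = Finset.univ.filter fun j : Fin n => b (w' j) = y.1 ∧ c j = y.2 := by
      ext j; simp [f', Prod.ext_iff]
    rw [e1, e2, h1]
  let e : ∀ y : ℕ × ℕ, {j // f j = y} ≃ {j // f' j = y} := fun y => Fintype.equivOfCardEq (hcard y)
  let τ : Equiv.Perm (Fin n) := (Equiv.sigmaFiberEquiv f).symm.trans ((Equiv.sigmaCongrRight e).trans (Equiv.sigmaFiberEquiv f'))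
  have hτ : ∀ j, f' (τ j) = f j := by
    intro j
    change f' ((e (f j) ⟨j, rfl⟩).1) = f j
    exact (e (f j) ⟨j, rfl⟩).2
  exact ⟨τ, fun j => congrArg Prod.snd (hτ j), fun j => congrArg Prod.fst (hτ j)⟩

lemma young_double (b c : Fin n → ℕ) (w w' : Equiv.Perm (Fin n)) :
    (∃ h ∈ young b, ∃ k ∈ young c, w' = h * w * k) ↔ pos b c w = pos b c w' := by
  constructor
  · rintro ⟨h, hh, k, hk, rfl⟩
    funext s t
    unfold pos
    symm
    apply Finset.card_bij (fun j _ => k j)
    · intro j hj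
      rw [Finset.mem_filter] at hj ⊢
      refine ⟨Finset.mem_univ _, ?_, ?_⟩
      · rw [← hj.2.1]
        change b (w (k j)) = b (h (w (k j)))
        exact (hh _).symm
      · rw [← hj.2.2]; exact hk j
    · intro a _ a' _ haa; exact k.injective haa
    · intro j hj
      rw [Finset.mem_filter] at hj
      refine ⟨k⁻¹ j, ?_, by simp⟩
      rw [Finset.mem_filter]
      refine ⟨Finset.mem_univ _, ?_, ?_⟩
      · rw [← hj.2.1]
        change b (h (w (k (k⁻¹ j)))) = b (w j)
        rw [hh]; simp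
      · rw [← hj.2.2]; exact ((young c).inv_mem hk) j
  · intro h
    obtain ⟨τ, h1, h2⟩ := exists_tau b c w w' h
    refine ⟨w' * τ * w⁻¹, ?_, τ⁻¹, (young c).inv_mem h1, by group⟩
    intro i
    change b (w' (τ (w⁻¹ i))) = b i
    rw [h2]; simp

lemma para_double (b c : Fin n → ℕ) (w w' : Equiv.Perm (Fin n)) :
    (∃ p ∈ para F b, ∃ q ∈ para F c, permGL n F w' = p * permGL n F w * q) ↔ pos b c w = pos b c w' := by
  constructor
  · rintro ⟨p, hp, q, hq, he⟩
    have hpi := (para F b).inv_mem hp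
    set M : Matrix (Fin n) (Fin n) F := ((p⁻¹ * permGL n F w' : GL (Fin n) F) : Matrix (Fin n) (Fin n) F) with hM
    have hM2 : M = ((permGL n F w * q : GL (Fin n) F) : Matrix (Fin n) (Fin n) F) := by
      rw [hM, he]; congr 1; group
    have hdet : M.det ≠ 0 := by
      rw [hM]; exact (Matrix.isUnit_iff_isUnit_det _).mp (Units.isUnit _) |>.ne_zero
    obtain ⟨π, hπ⟩ : ∃ π : Equiv.Perm (Fin n), ∀ j, M (π j) j ≠ 0 := by
      by_contra hcon
      push Not at hcon
      apply hdet
      rw [Matrix.det_apply]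
      apply Finset.sum_eq_zero
      intro σ _
      obtain ⟨j, hj⟩ := hcon σ
      have hz : ∏ i, M (σ i) i = 0 := Finset.prod_eq_zero (Finset.mem_univ j) hj
      rw [hz, smul_zero]
    have h1 : ∀ j, b (π j) ≤ b (w' j) := by
      intro j
      by_contra hc
      apply hπ j
      rw [hM, Units.val_mul, mul_permGL]
      exact hpi (not_le.mp hc)
    have h2 : ∀ j, c (w⁻¹ (π j)) ≤ c j := by
      intro j
      by_contra hc
      apply hπ j
      rw [hM2, Units.val_mul, permGL_mul]
      exact hq (not_le.mp hc)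
    have s1 : ∑ j, b (π j) = ∑ j, b (w' j) := by
      rw [Equiv.sum_comp π b, Equiv.sum_comp w' b]
    have s2 : ∑ j, c (w⁻¹ (π j)) = ∑ j, c j := by
      have := Equiv.sum_comp (w⁻¹ * π) c
      simpa using this
    have h1' : ∀ j, b (π j) = b (w' j) := fun j =>
      (Finset.sum_eq_sum_iff_of_le (fun i _ => h1 i)).mp s1 j (Finset.mem_univ _)
    have h2' : ∀ j, c (w⁻¹ (π j)) = c j := fun j =>
      (Finset.sum_eq_sum_iff_of_le (fun i _ => h2 i)).mp s2 j (Finset.mem_univ _)
    rw [← young_double]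
    refine ⟨w' * π⁻¹, ?_, w⁻¹ * π, h2', by group⟩
    intro i
    change b (w' (π⁻¹ i)) = b i
    rw [← h1']; simp
  · intro hpos
    obtain ⟨x, hx, y, hy, he⟩ := (young_double b c w w').mpr hpos
    exact ⟨permGL n F x, permGL_mem_para hx, permGL n F y, permGL_mem_para hy, by rw [he, map_mul, map_mul]⟩

open Cfsg.Agent.Lib.GLOrbits Cfsg.Agent.Lib.GLLabel

/-- number of double cosets for the symmetric group -/
theorem card_orbits_young (b c : Fin n → ℕ) :
    Nat.card (MulAction.orbitRel.Quotient (Equiv.Perm (Fin n)) ((Equiv.Perm (Fin n) ⧸ young b) × (Equiv.Perm (Fin n) ⧸ young c))) =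
      Nat.card (Set.range (pos b c)) := by
  apply card_orbits_eq (young b) (young c) (fun w => w)
  · intro g; exact ⟨g, 1, Subgroup.one_mem _, 1, Subgroup.one_mem _, by simp⟩
  · intro s s'; exact young_double b c s s'

/-- number of double cosets for the general linear group -/
theorem card_orbits_para (b c : Fin n → ℕ) (hb : Monotone b) (hc : Monotone c) :
    Nat.card (MulAction.orbitRel.Quotient (GL (Fin n) F) ((GL (Fin n) F ⧸ para F b) × (GL (Fin n) F ⧸ para F c))) =
      Nat.card (Set.range (pos b c)) := by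
  apply card_orbits_eq (para F b) (para F c) (fun w => permGL n F w)
  · intro g
    obtain ⟨w, u, hu, v, hv, h⟩ := bruhat g
    exact ⟨w, u, upper_mem_para hb hu, v, upper_mem_para hc hv, h⟩
  · intro s s'; exact para_double b c s s'

end Cfsg.Agent.Lib.GLBruhat
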