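import Mathlib
import Cfsg.Agent.Lib.LocBase

/-!
The monomial Sylow `p`-subgroup of `GL(p, F)` for `p ∥ |F| - 1` (helper48).
-/

set_option autoImplicit false

namespace Cfsg.Agent.Lib.GLRedund

open Matrix Cfsg.Agent.Lib.LocBase

variable {F : Type*} [Field F] {p : ℕ} [hp : Fact p.Prime]

/-- diagonal matrices with entries in `μ_p`. -/
noncomputable def dg : (Fin p → rootsOfUnity p F) →* GL (Fin p) F :=
  ((Units.map (Matrix.diagonalRingHom (Fin p) F).toMonoidHom).comp (MulEquiv.piUnits.symm.toMonoidHom)).comp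
   (MonoidHom.compLeft ((rootsOfUnity p F).subtype) (Fin p))

theorem dg_coe (d : Fin p → rootsOfUnity p F) :
    ((dg d : GL (Fin p) F) : Matrix (Fin p) (Fin p) F) = Matrix.diagonal (fun i => (((d i : rootsOfUnity p F) : Fˣ) : F)) := rfl

/-- the permutation matrices of the powers of a `p`-cycle. -/
def pm (k : Fin p) : Matrix (Fin p) (Fin p) F := Matrix.of fun i j => if i = k + j then 1 else 0

theorem pm_zero : (pm 0 : Matrix (Fin p) (Fin p) F) = 1 := by
  ext i j
  simp [pm, Matrix.one_apply]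

theorem pm_mul (k l : Fin p) : (pm (k + l) : Matrix (Fin p) (Fin p) F) = pm k * pm l := by
  ext i j
  simp only [pm, Matrix.mul_apply, Matrix.of_apply]
  rw [Finset.sum_eq_single (l + j)]
  · simp [add_assoc]
  · intro b _ hb
    rw [if_neg hb, mul_zero]
  · intro h; exact absurd (Finset.mem_univ _) h

/-- the hom `k ↦ σ^k`. -/
noncomputable def pk : Multiplicative (Fin p) →* GL (Fin p) F :=
  MonoidHom.toHomUnits
    { toFun := fun k => pm k.toAdd
      map_one' := pm_zero
      map_mul' := fun a b => pm_mul a.toAdd b.toAdd }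

theorem pk_coe (k : Multiplicative (Fin p)) :
    ((pk k : GL (Fin p) F) : Matrix (Fin p) (Fin p) F) = pm k.toAdd := rfl

theorem dgpk_apply (d : Fin p → rootsOfUnity p F) (k : Multiplicative (Fin p)) (i j : Fin p) :
    ((dg d * pk k : GL (Fin p) F) : Matrix (Fin p) (Fin p) F) i j =
      if i = k.toAdd + j then (((d i : rootsOfUnity p F) : Fˣ) : F) else 0 := by
  rw [Units.val_mul, dg_coe, pk_coe, Matrix.diagonal_mul]
  simp [pm]

theorem pk_mul_dg (d : Fin p → rootsOfUnity p F) (k : Multiplicative (Fin p)) :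
    (pk k * dg d : GL (Fin p) F) = dg (fun i => d (i - k.toAdd)) * pk k := by
  apply Units.ext
  ext i j
  rw [dgpk_apply, Units.val_mul, dg_coe, pk_coe, Matrix.mul_diagonal]
  simp only [pm, Matrix.of_apply, ite_mul, one_mul, zero_mul]
  by_cases h : i = k.toAdd + j
  · rw [if_pos h, if_pos h, h, add_sub_cancel_left]
  · rw [if_neg h, if_neg h]

variable (F p) in
/-- the monomial group. -/
noncomputable def Q0 : Subgroup (GL (Fin p) F) := (dg (F := F) (p := p)).range ⊔ (pk (F := F) (p := p)).range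

theorem pk_normalizes : (pk (F := F) (p := p)).range ≤ Subgroup.normalizer (((dg (F := F) (p := p)).range : Subgroup _) : Set (GL (Fin p) F)) := by
  rintro _ ⟨k, rfl⟩
  rw [Subgroup.mem_normalizer_iff]
  have key : ∀ (k : Multiplicative (Fin p)) (h : GL (Fin p) F), h ∈ (dg (F := F) (p := p)).range →
      pk k * h * (pk k)⁻¹ ∈ (dg (F := F) (p := p)).range := by
    rintro k _ ⟨d, rfl⟩
    rw [pk_mul_dg, mul_assoc, mul_inv_cancel, mul_one]
    exact ⟨_, rfl⟩
  intro h
  refine ⟨key k h, fun h2 => ?_⟩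
  have h3 := key k⁻¹ _ h2
  rw [map_inv] at h3
  have : (pk k)⁻¹ * (pk k * h * (pk k)⁻¹) * ((pk k)⁻¹)⁻¹ = h := by group
  rwa [this] at h3

theorem mem_Q0 [Finite F] {x : GL (Fin p) F} (hx : x ∈ Q0 F p) : ∃ d k, x = dg d * pk k := by
  obtain ⟨a, ⟨d, rfl⟩, b, ⟨k, rfl⟩, rfl⟩ := exists_mul_of_mem_sup_of_le pk_normalizes hx
  exact ⟨d, k, rfl⟩

theorem dg_mem (d : Fin p → rootsOfUnity p F) : dg d ∈ Q0 F p := Subgroup.mem_sup_left ⟨d, rfl⟩

theorem pk_mem (k : Multiplicative (Fin p)) : pk k ∈ Q0 F p := Subgroup.mem_sup_right ⟨k, rfl⟩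

/-- entries: the positions of the nonzero entries of an element of `Q₀` have a constant difference. -/
theorem crit [Finite F] {x : GL (Fin p) F} (hx : x ∈ Q0 F p) {i j i' j' : Fin p}
    (h1 : (x : Matrix (Fin p) (Fin p) F) i j ≠ 0) (h2 : (x : Matrix (Fin p) (Fin p) F) i' j' ≠ 0) : i - j = i' - j' := by
  obtain ⟨d, k, rfl⟩ := mem_Q0 hx
  rw [dgpk_apply] at h1 h2
  have e1 : i = k.toAdd + j := by by_contra h; exact h1 (if_neg h)
  have e2 : i' = k.toAdd + j' := by by_contra h; exact h2 (if_neg h)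
  rw [e1, e2, add_sub_cancel_right, add_sub_cancel_right]

theorem isPGroup_Q0 [Finite F] : IsPGroup p ↥(Q0 F p) := by
  apply isPGroup_sup
  · have h1 : IsPGroup p (Fin p → rootsOfUnity p F) := by
      intro d
      refine ⟨1, ?_⟩
      rw [pow_one]
      funext i
      exact Subtype.ext (by simpa using (mem_rootsOfUnity p _).mp (d i).2)
    exact h1.of_surjective (dg (F := F) (p := p)).rangeRestrict (MonoidHom.rangeRestrict_surjective _)
  · have h1 : IsPGroup p (Multiplicative (Fin p)) := by
      apply IsPGroup.of_card (n := 1)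
      rw [pow_one, Nat.card_congr Multiplicative.toAdd, Nat.card_fin]
    exact h1.of_surjective (pk (F := F) (p := p)).rangeRestrict (MonoidHom.rangeRestrict_surjective _)
  · exact pk_normalizes

theorem dg_injective : Function.Injective (dg (F := F) (p := p)) := by
  intro d e h
  funext i
  have h1 := congrArg (fun x : GL (Fin p) F => (x : Matrix (Fin p) (Fin p) F) i i) h
  simp only [dg_coe, Matrix.diagonal_apply_eq] at h1
  exact Subtype.ext (Units.ext h1)

theorem card_GL_factorization [Fintype F] (hp2 : p ≠ 2) (h1 : p ∣ Fintype.card F - 1) (h2 : ¬ p ^ 2 ∣ Fintype.card F - 1) :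
    (Nat.card (GL (Fin p) F)).factorization p = p + 1 := by
  have hq : 1 < Fintype.card F := Fintype.one_lt_card
  set q := Fintype.card F with hqdef
  have hpq : ¬ p ∣ q := by
    intro h
    have := (Nat.dvd_sub h h1)
    rw [show q - (q - 1) = 1 by omega] at this
    exact hp.out.one_lt.ne' (Nat.dvd_one.mp this)
  have hodd : Odd p := hp.out.odd_of_ne_two hp2
  have hv1 : padicValNat p (q - 1) = 1 := by
    have h3 : q - 1 ≠ 0 := by omega
    apply le_antisymm
    · by_contra h
      apply h2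
      exact (padicValNat_dvd_iff_le h3).mpr (by omega)
    · exact (padicValNat_dvd_iff_le h3).mp (by rwa [pow_one])
  have hv : ∀ m : ℕ, m ≠ 0 → padicValNat p (q ^ m - 1) = 1 + padicValNat p m := by
    intro m hm
    have := padicValNat.pow_sub_pow (x := q) (y := 1) (p := p) hodd hq h1 hpq hm
    rw [one_pow] at this
    rw [this, hv1]
  rw [Matrix.card_GL_field, Nat.factorization_prod]
  · rw [Finsupp.finsetSum_apply]
    have h3 : ∀ i : Fin p, ((q ^ p - q ^ (i : ℕ)).factorization p) = 1 + padicValNat p (p - (i : ℕ)) := by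
      intro i
      have hi : (i : ℕ) ≤ p := i.2.le
      have e : q ^ p - q ^ (i : ℕ) = q ^ (i : ℕ) * (q ^ (p - i) - 1) := by
        rw [Nat.mul_sub, mul_one, ← pow_add, Nat.add_sub_cancel' hi]
      have hne : q ^ (p - (i : ℕ)) - 1 ≠ 0 := by
        have : 1 < q ^ (p - (i : ℕ)) := Nat.one_lt_pow (by omega) hq
        omega
      rw [e, Nat.factorization_mul (pow_ne_zero _ (by omega)) hne, Nat.factorization_pow, Finsupp.add_apply]
      simp only [Finsupp.smul_apply, smul_eq_mul]
      rw [Nat.factorization_eq_zero_of_not_dvd hpq, mul_zero, zero_add, Nat.factorization_def _ hp.out, hv _ (by omega)]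
    rw [Finset.sum_congr rfl (fun i _ => h3 i), Finset.sum_add_distrib]
    simp only [Finset.sum_const, Finset.card_univ, Fintype.card_fin, smul_eq_mul, mul_one]
    congr 1
    have h4 : ∀ i : Fin p, padicValNat p (p - (i : ℕ)) = if i = 0 then 1 else 0 := by
      intro i
      by_cases hi : i = 0
      · rw [if_pos hi, hi]
        simp
      · rw [if_neg hi]
        apply padicValNat.eq_zero_of_not_dvd
        intro h
        have h5 : (i : ℕ) ≠ 0 := fun h => hi (Fin.ext (by simpa using h))
        have h6 := Nat.le_of_dvd (by omega) h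
        omega
    rw [Finset.sum_congr rfl (fun i _ => h4 i)]
    simp
  · intro i _
    have hi : (i : ℕ) < p := i.2
    have : q ^ (i : ℕ) < q ^ p := Nat.pow_lt_pow_right hq hi
    exact Nat.sub_ne_zero_of_lt this

theorem exists_sylow [Fintype F] (hp2 : p ≠ 2) (h1 : p ∣ Fintype.card F - 1) (h2 : ¬ p ^ 2 ∣ Fintype.card F - 1)
    {ω : rootsOfUnity p F} (hω : IsPrimitiveRoot ((ω : Fˣ) : F) p) :
    ∃ Q : Sylow p (GL (Fin p) F), (Q : Subgroup (GL (Fin p) F)) = Q0 F p := by
  have : Finite (GL (Fin p) F) := inferInstance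
  obtain ⟨m, hm⟩ := IsPGroup.iff_card.mp (isPGroup_Q0 (F := F) (p := p))
  have hμ : Nat.card (rootsOfUnity p F) = p := hω.card_rootsOfUnity
  have hD : Nat.card (dg (F := F) (p := p)).range = p ^ p := by
    rw [← Nat.card_congr (MonoidHom.ofInjective dg_injective).toEquiv, Nat.card_fun, hμ, Nat.card_fin]
  have hDQ : (dg (F := F) (p := p)).range ≤ Q0 F p := le_sup_left
  have h3 : p ≤ m := by
    have := Subgroup.card_dvd_of_le hDQ
    rw [hD, hm] at this
    exact (Nat.pow_dvd_pow_iff_le_right hp.out.one_lt).mp this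
  have h4 : m ≠ p := by
    rintro rfl
    have h5 : (dg (F := F) (p := m)).range = Q0 F m := Subgroup.eq_of_le_of_card_ge hDQ (by rw [hD, hm])
    have h6 : pk (Multiplicative.ofAdd (1 : Fin m)) ∈ (dg (F := F) (p := m)).range := h5 ▸ pk_mem _
    obtain ⟨d, hd⟩ := h6
    have h7 := congrArg (fun x : GL (Fin m) F => (x : Matrix (Fin m) (Fin m) F) 1 0) hd
    simp only [dg_coe, pk_coe, pm, Matrix.of_apply, toAdd_ofAdd, add_zero, if_true] at h7
    have : Nontrivial (Fin m) := Fin.nontrivial_iff_two_le.mpr hp.out.two_le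
    rw [Matrix.diagonal_apply_ne _ (by
      intro h
      have h8 := congrArg Fin.val h
      rw [Fin.val_zero, Fin.val_one', Nat.mod_eq_of_lt hp.out.one_lt] at h8
      exact one_ne_zero h8)] at h7
    exact zero_ne_one h7
  have h5 : m ≤ p + 1 := by
    rw [← card_GL_factorization hp2 h1 h2]
    apply (Nat.Prime.pow_dvd_iff_le_factorization hp.out Nat.card_pos.ne').mp
    rw [← hm]
    exact Subgroup.card_subgroup_dvd_card _
  have h6 : m = (Nat.card (GL (Fin p) F)).factorization p := by
    rw [card_GL_factorization hp2 h1 h2]; omega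
  exact ⟨Sylow.ofCard (Q0 F p) (by rw [hm, h6]), rfl⟩

/-- `diag(1, …, ω, …, 1)` -/
noncomputable def yy (ω : rootsOfUnity p F) (a : Fin p) : GL (Fin p) F := dg (fun i => if i = a then ω else 1)

theorem yy_entry (ω : rootsOfUnity p F) (a : Fin p) (g : GL (Fin p) F) (i j : Fin p) :
    ((g * yy ω a * g⁻¹ : GL (Fin p) F) : Matrix (Fin p) (Fin p) F) i j =
      (if i = j then 1 else 0) + ((((ω : rootsOfUnity p F) : Fˣ) : F) - 1) *
        ((g : Matrix (Fin p) (Fin p) F) i a * ((g⁻¹ : GL (Fin p) F) : Matrix (Fin p) (Fin p) F) a j) := by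
  have h0 : ∀ l : Fin p, (((if l = a then ω else 1 : rootsOfUnity p F) : Fˣ) : F) =
      1 + ((((ω : rootsOfUnity p F) : Fˣ) : F) - 1) * (if l = a then 1 else 0) := by
    intro l
    by_cases h : l = a
    · rw [if_pos h, if_pos h]; ring
    · rw [if_neg h, if_neg h]; simp
  have h1 : (g : Matrix (Fin p) (Fin p) F) * ((g⁻¹ : GL (Fin p) F) : Matrix (Fin p) (Fin p) F) = 1 := by
    rw [← Units.val_mul, mul_inv_cancel]; rfl
  rw [Units.val_mul, Units.val_mul, yy, dg_coe]
  rw [Matrix.mul_apply]
  simp only [Matrix.mul_diagonal, h0]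
  have h2 : ∀ l : Fin p, (g : Matrix (Fin p) (Fin p) F) i l * (1 + ((((ω : rootsOfUnity p F) : Fˣ) : F) - 1) * (if l = a then 1 else 0)) *
      ((g⁻¹ : GL (Fin p) F) : Matrix (Fin p) (Fin p) F) l j =
      (g : Matrix (Fin p) (Fin p) F) i l * ((g⁻¹ : GL (Fin p) F) : Matrix (Fin p) (Fin p) F) l j +
      (if l = a then ((((ω : rootsOfUnity p F) : Fˣ) : F) - 1) * ((g : Matrix (Fin p) (Fin p) F) i l *
        ((g⁻¹ : GL (Fin p) F) : Matrix (Fin p) (Fin p) F) l j) else 0) := by
    intro l
    by_cases h : l = a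
    · rw [if_pos h, if_pos h]; ring
    · rw [if_neg h, if_neg h]; ring
  rw [Finset.sum_congr rfl (fun l _ => h2 l), Finset.sum_add_distrib, Finset.sum_ite_eq' Finset.univ a]
  rw [if_pos (Finset.mem_univ _)]
  congr 1
  rw [← Matrix.mul_apply, h1, Matrix.one_apply]

theorem three (hp2 : p ≠ 2) (j : Fin p) : ∃ i i' : Fin p, i ≠ j ∧ i' ≠ j ∧ i ≠ i' := by
  have h3 : 2 < p := lt_of_le_of_ne hp.out.two_le (Ne.symm hp2)
  have h1 : 1 < (Finset.univ.erase j : Finset (Fin p)).card := by
    rw [Finset.card_erase_of_mem (Finset.mem_univ _), Finset.card_univ, Fintype.card_fin]; omega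
  obtain ⟨i, hi, i', hi', hne⟩ := Finset.one_lt_card.mp h1
  exact ⟨i, i', Finset.ne_of_mem_erase hi, Finset.ne_of_mem_erase hi', hne⟩

theorem not_mem_col [Finite F] (hp2 : p ≠ 2) {ω : rootsOfUnity p F} (hω : (((ω : rootsOfUnity p F) : Fˣ) : F) ≠ 1) (a : Fin p) (g : GL (Fin p) F)
    {i i' : Fin p} (hne : i ≠ i') (h1 : (g : Matrix (Fin p) (Fin p) F) i a ≠ 0) (h2 : (g : Matrix (Fin p) (Fin p) F) i' a ≠ 0) :
    g * yy ω a * g⁻¹ ∉ Q0 F p := by
  intro hM
  have hω' : ((((ω : rootsOfUnity p F) : Fˣ) : F) - 1) ≠ 0 := sub_ne_zero.mpr hω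
  set M := g * yy ω a * g⁻¹ with hMdef
  have hg : ((g⁻¹ : GL (Fin p) F) : Matrix (Fin p) (Fin p) F) * (g : Matrix (Fin p) (Fin p) F) = 1 := by
    rw [← Units.val_mul, inv_mul_cancel]; rfl
  obtain ⟨j, hj⟩ : ∃ j, ((g⁻¹ : GL (Fin p) F) : Matrix (Fin p) (Fin p) F) a j ≠ 0 := by
    by_contra hcon
    push Not at hcon
    have h3 := congrFun (congrFun hg a) a
    rw [Matrix.mul_apply, Matrix.one_apply_eq] at h3
    rw [Finset.sum_eq_zero (fun l _ => by rw [hcon l, zero_mul])] at h3
    exact zero_ne_one h3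
  -- an off-diagonal nonzero entry
  have hoff : ∀ l : Fin p, l ≠ j → (g : Matrix (Fin p) (Fin p) F) l a ≠ 0 → (M : Matrix (Fin p) (Fin p) F) l j ≠ 0 := by
    intro l hl hg1
    rw [hMdef, yy_entry, if_neg hl, zero_add]
    exact mul_ne_zero hω' (mul_ne_zero hg1 hj)
  obtain ⟨l, hl, hgl⟩ : ∃ l, l ≠ j ∧ (g : Matrix (Fin p) (Fin p) F) l a ≠ 0 := by
    by_cases h : i = j
    · exact ⟨i', fun h' => hne (h.trans h'.symm), h2⟩
    · exact ⟨i, h, h1⟩
  have hdiag : ∀ t : Fin p, (M : Matrix (Fin p) (Fin p) F) t t = 0 := by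
    intro t
    by_contra hcon
    have h3 := crit hM (hoff l hl hgl) hcon
    rw [sub_self, sub_eq_zero] at h3
    exact hl h3
  have hall : ∀ t : Fin p, (g : Matrix (Fin p) (Fin p) F) t a ≠ 0 := by
    intro t ht
    have h3 := hdiag t
    rw [hMdef, yy_entry, if_pos rfl, ht, zero_mul, mul_zero, add_zero] at h3
    exact one_ne_zero h3
  obtain ⟨s, s', hs, hs', hss⟩ := three hp2 j
  have h3 := crit hM (hoff s hs (hall s)) (hoff s' hs' (hall s'))
  exact hss (sub_left_inj.mp h3)

theorem not_mem_row [Finite F] (hp2 : p ≠ 2) {ω : rootsOfUnity p F} (hω : (((ω : rootsOfUnity p F) : Fˣ) : F) ≠ 1) (a : Fin p) (g : GL (Fin p) F)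
    (h1 : ∀ j, ((g⁻¹ : GL (Fin p) F) : Matrix (Fin p) (Fin p) F) a j ≠ 0) :
    g * yy ω a * g⁻¹ ∉ Q0 F p := by
  intro hM
  have hω' : ((((ω : rootsOfUnity p F) : Fˣ) : F) - 1) ≠ 0 := sub_ne_zero.mpr hω
  set M := g * yy ω a * g⁻¹ with hMdef
  have hg : ((g⁻¹ : GL (Fin p) F) : Matrix (Fin p) (Fin p) F) * (g : Matrix (Fin p) (Fin p) F) = 1 := by
    rw [← Units.val_mul, inv_mul_cancel]; rfl
  obtain ⟨i, hi⟩ : ∃ i, (g : Matrix (Fin p) (Fin p) F) i a ≠ 0 := by
    by_contra hcon
    push Not at hcon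
    have h3 := congrFun (congrFun hg a) a
    rw [Matrix.mul_apply, Matrix.one_apply_eq] at h3
    rw [Finset.sum_eq_zero (fun l _ => by rw [hcon l, mul_zero])] at h3
    exact zero_ne_one h3
  obtain ⟨s, s', hs, hs', hss⟩ := three hp2 i
  have hoff : ∀ l : Fin p, l ≠ i → (M : Matrix (Fin p) (Fin p) F) i l ≠ 0 := by
    intro l hl
    rw [hMdef, yy_entry, if_neg (Ne.symm hl), zero_add]
    exact mul_ne_zero hω' (mul_ne_zero hi (h1 l))
  have h3 := crit hM (hoff s hs) (hoff s' hs')
  exact hss (sub_right_inj.mp h3)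

/-- the Vandermonde (discrete Fourier) unit. -/
theorem exists_dft (v : Fin p → rootsOfUnity p F) (hv : Function.Injective v) :
    ∃ V : GL (Fin p) F, (∀ i j, (V : Matrix (Fin p) (Fin p) F) i j = (((v i : rootsOfUnity p F) : Fˣ) : F) ^ (j : ℕ)) ∧
      ∀ k : Fin p, V * pk (Multiplicative.ofAdd k) = dg (fun i => v i ^ (k : ℕ)) * V := by
  have hinj : Function.Injective (fun i => (((v i : rootsOfUnity p F) : Fˣ) : F)) := by
    intro a b h
    exact hv (Subtype.ext (Units.ext h))
  have hdet : (Matrix.vandermonde (fun i => (((v i : rootsOfUnity p F) : Fˣ) : F))).det ≠ 0 :=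
    Matrix.det_vandermonde_ne_zero_iff.mpr hinj
  refine ⟨Matrix.GeneralLinearGroup.mkOfDetNeZero _ hdet, fun i j => rfl, fun k => ?_⟩
  apply Units.ext
  ext i j
  have hp1 : (((v i : rootsOfUnity p F) : Fˣ) : F) ^ p = 1 := by
    have := (mem_rootsOfUnity p _).mp (v i).2
    rw [← Units.val_pow_eq_pow_val, this, Units.val_one]
  rw [Units.val_mul, Units.val_mul, dg_coe, pk_coe, Matrix.diagonal_mul, Matrix.mul_apply]
  simp only [pm, Matrix.of_apply, toAdd_ofAdd]
  rw [Finset.sum_eq_single (k + j)]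
  · rw [if_pos rfl, mul_one]
    change (((v i : rootsOfUnity p F) : Fˣ) : F) ^ ((k + j : Fin p) : ℕ) = _ * (((v i : rootsOfUnity p F) : Fˣ) : F) ^ (j : ℕ)
    rw [Fin.val_add]
    simp only [SubmonoidClass.coe_pow, Units.val_pow_eq_pow_val]
    rw [← pow_add]
    conv_rhs => rw [← Nat.mod_add_div ((k : ℕ) + (j : ℕ)) p, pow_add, pow_mul, hp1, one_pow, mul_one]
  · intro b _ hb
    rw [if_neg hb, mul_zero]
  · intro h; exact absurd (Finset.mem_univ _) h

/-- The claim for elements of `Q₀`. -/
theorem main_claim [Finite F] (hp2 : p ≠ 2) {ω : rootsOfUnity p F} (hωp : IsPrimitiveRoot ((ω : Fˣ) : F) p)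
    {x : GL (Fin p) F} (hx : x ∈ Q0 F p) : ∃ g : GL (Fin p) F, g * x * g⁻¹ ∈ Q0 F p ∧ ∃ y ∈ Q0 F p, g * y * g⁻¹ ∉ Q0 F p := by
  have hω : (((ω : rootsOfUnity p F) : Fˣ) : F) ≠ 1 := by
    intro h
    rw [h] at hωp
    have := hωp.unique IsPrimitiveRoot.one
    exact hp.out.one_lt.ne' this
  have h01 : ∃ e : Fin p, e ≠ 0 := by
    obtain ⟨i, _, hi, _, _⟩ := three hp2 (0 : Fin p)
    exact ⟨i, hi⟩
  have hyy : ∀ a, yy ω a ∈ Q0 F p := fun a => dg_mem _
  have hxord : IsPGroup p ↥(Q0 F p) := isPGroup_Q0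
  obtain ⟨m, hm⟩ := hxord ⟨x, hx⟩
  have hm' : x ^ (p ^ m) = 1 := congrArg Subtype.val hm
  obtain ⟨d, k, rfl⟩ := mem_Q0 hx
  by_cases hk : k.toAdd = 0
  · have hk1 : k = 1 := hk
    subst hk1
    rw [map_one, mul_one]
    rw [map_one, mul_one] at hx
    by_cases hd : Function.Injective d
    · -- all eigenvalues distinct
      obtain ⟨V, hV, hVk⟩ := exists_dft d hd
      obtain ⟨e, he⟩ := h01
      refine ⟨V⁻¹, ?_, yy ω 0, hyy 0, ?_⟩
      · have h1 : (1 : ℕ) < p := hp.out.one_lt
        have h2 := hVk 1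
        have h3 : dg (fun i => d i ^ ((1 : Fin p) : ℕ)) = dg d := by
          congr 1
          funext i
          rw [Fin.val_one', Nat.mod_eq_of_lt h1, pow_one]
        rw [h3] at h2
        have h4 : V⁻¹ * dg d * V⁻¹⁻¹ = pk (Multiplicative.ofAdd (1 : Fin p)) := by
          rw [inv_inv, mul_assoc, ← h2, inv_mul_cancel_left]
        rw [h4]
        exact pk_mem _
      · apply not_mem_row hp2 hω
        intro j
        rw [inv_inv, hV]
        exact pow_ne_zero _ (Units.ne_zero _)
    · -- a repeated eigenvalue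
      rw [Function.Injective] at hd
      push Not at hd
      obtain ⟨i, j, hij, hne⟩ := hd
      have hdet : (Matrix.transvection i j (1 : F)).det ≠ 0 := by
        rw [Matrix.det_transvection_of_ne i j hne]; exact one_ne_zero
      set g : GL (Fin p) F := Matrix.GeneralLinearGroup.mkOfDetNeZero _ hdet with hg
      have hgc : (g : Matrix (Fin p) (Fin p) F) = Matrix.transvection i j (1 : F) := rfl
      have hcomm : g * dg d = dg d * g := by
        apply Units.ext
        ext a b
        rw [Units.val_mul, Units.val_mul, dg_coe, Matrix.diagonal_mul, Matrix.mul_diagonal, hgc]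
        simp only [Matrix.transvection, Matrix.add_apply, Matrix.one_apply, Matrix.single_apply]
        by_cases hab : a = b
        · subst hab; ring
        · rw [if_neg hab]
          by_cases h2 : i = a ∧ j = b
          · rw [if_pos h2, ← h2.1, ← h2.2, hij]; ring
          · rw [if_neg h2]; ring
      refine ⟨g, ?_, yy ω j, hyy j, ?_⟩
      · rw [hcomm, mul_assoc, mul_inv_cancel, mul_one]; exact hx
      · apply not_mem_col hp2 hω j g (i := i) (i' := j) hne
        · rw [hgc]; simp [Matrix.transvection, Matrix.one_apply, Matrix.single_apply, hne]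
        · rw [hgc]; simp [Matrix.transvection, Matrix.one_apply, Matrix.single_apply, hne]
  · set x : GL (Fin p) F := dg d * pk k with hxdef
    set k0 : Fin p := k.toAdd with hk0
    have hxe : ∀ i j, (x : Matrix (Fin p) (Fin p) F) i j = if i = k0 + j then (((d i : rootsOfUnity p F) : Fˣ) : F) else 0 :=
      fun i j => dgpk_apply d k i j
    by_cases hdet : (1 + (x : Matrix (Fin p) (Fin p) F)).det = 0
    · obtain ⟨v, hv0, hv⟩ := Matrix.exists_mulVec_eq_zero_iff.mpr hdet
      have hxv : (x : Matrix (Fin p) (Fin p) F) *ᵥ v = -v := by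
        rw [Matrix.add_mulVec, Matrix.one_mulVec] at hv
        exact (neg_eq_of_add_eq_zero_right hv).symm
      have hpow : ∀ n : ℕ, ((x ^ n : GL (Fin p) F) : Matrix (Fin p) (Fin p) F) *ᵥ v = (-1 : F) ^ n • v := by
        intro n
        induction n with
        | zero => simp
        | succ n ih =>
          rw [pow_succ, Units.val_mul, ← Matrix.mulVec_mulVec, hxv, Matrix.mulVec_neg, ih, pow_succ, mul_neg_one, neg_smul]
      have h2 := hpow (p ^ m)
      rw [hm', Units.val_one, Matrix.one_mulVec] at h2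
      have hodd : Odd (p ^ m) := (hp.out.odd_of_ne_two hp2).pow
      rw [hodd.neg_one_pow, neg_smul, one_smul] at h2
      rw [← h2] at hxv
      have hve : ∀ i, v i = (((d i : rootsOfUnity p F) : Fˣ) : F) * v (i - k0) := by
        intro i
        conv_lhs => rw [← hxv]
        rw [Matrix.mulVec, dotProduct, Finset.sum_eq_single (i - k0)]
        · rw [hxe, if_pos (by abel)]
        · intro b _ hb
          rw [hxe, if_neg (fun h => hb (by rw [h]; abel)), zero_mul]
        · intro h; exact absurd (Finset.mem_univ _) h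
      have hve' : ∀ i, v (i + k0) = (((d (i + k0) : rootsOfUnity p F) : Fˣ) : F) * v i := by
        intro i
        have := hve (i + k0)
        rwa [add_sub_cancel_right] at this
      have hprime : (Nat.card (Fin p)).Prime := by rw [Nat.card_fin]; exact hp.out
      have : Fact (Nat.card (Fin p)).Prime := ⟨hprime⟩
      have hall : ∀ i, v i ≠ 0 := by
        let A : AddSubgroup (Fin p) :=
          { carrier := {t | ∀ i, v i ≠ 0 ↔ v (i + t) ≠ 0}
            zero_mem' := fun i => by rw [add_zero]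
            add_mem' := fun {a b} ha hb i => by rw [ha i, hb (i + a), add_assoc]
            neg_mem' := fun {a} ha i => by
              have := ha (i + -a)
              rw [neg_add_cancel_right] at this
              exact this.symm }
        have hkA : k0 ∈ A := by
          intro i
          rw [hve' i]
          constructor
          · intro h; exact mul_ne_zero (Units.ne_zero _) h
          · intro h h'; exact h (by rw [h', mul_zero])
        have hA : A = ⊤ := by
          rcases A.eq_bot_or_eq_top_of_prime_card with h | h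
          · exfalso
            rw [h, AddSubgroup.mem_bot] at hkA
            exact hk hkA
          · exact h
        obtain ⟨i0, hi0⟩ : ∃ i, v i ≠ 0 := by
          by_contra hcon
          push Not at hcon
          exact hv0 (funext hcon)
        intro i
        have h3 : i - i0 ∈ A := hA ▸ AddSubgroup.mem_top _
        have h4 := (h3 i0).mp hi0
        rwa [add_sub_cancel] at h4
      have hdp : ∀ i, (((d i : rootsOfUnity p F) : Fˣ) : F) ^ p = 1 := by
        intro i
        have := (mem_rootsOfUnity p _).mp (d i).2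
        rw [← Units.val_pow_eq_pow_val, this, Units.val_one]
      have hvp : ∀ i, v i ^ p = v 0 ^ p := by
        let A : AddSubgroup (Fin p) :=
          { carrier := {t | ∀ i, v (i + t) ^ p = v i ^ p}
            zero_mem' := fun i => by rw [add_zero]
            add_mem' := fun {a b} ha hb i => by rw [← add_assoc, hb (i + a), ha i]
            neg_mem' := fun {a} ha i => by
              have := ha (i + -a)
              rw [neg_add_cancel_right] at this
              exact this.symm }
        have hkA : k0 ∈ A := by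
          intro i
          rw [hve' i, mul_pow, hdp, one_mul]
        have hA : A = ⊤ := by
          rcases A.eq_bot_or_eq_top_of_prime_card with h | h
          · exfalso
            rw [h, AddSubgroup.mem_bot] at hkA
            exact hk hkA
          · exact h
        intro i
        have h3 : i ∈ A := hA ▸ AddSubgroup.mem_top _
        have h4 := h3 0
        rwa [zero_add] at h4
      let c : Fin p → rootsOfUnity p F := fun i =>
        ⟨Units.mk0 (v i / v 0) (div_ne_zero (hall i) (hall 0)), by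
          rw [mem_rootsOfUnity]
          apply Units.ext
          rw [Units.val_pow_eq_pow_val, Units.val_mk0, Units.val_one, div_pow, hvp i, div_self (pow_ne_zero _ (hall 0))]⟩
      have hc : ∀ i, (((c i : rootsOfUnity p F) : Fˣ) : F) = v i / v 0 := fun i => rfl
      have hxc : x * dg c = dg c * pk k := by
        apply Units.ext
        ext i j
        rw [dgpk_apply, Units.val_mul, dg_coe, Matrix.mul_diagonal, hxe, ← hk0]
        by_cases h : i = k0 + j
        · rw [if_pos h, if_pos h, hc, hc, hve i, h, add_sub_cancel_left]; ring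
        · rw [if_neg h, if_neg h, zero_mul]
      have hvω : Function.Injective (fun i : Fin p => ω ^ (i : ℕ)) := by
        intro a b hab
        have h5 : (((ω : rootsOfUnity p F) : Fˣ) : F) ^ (a : ℕ) = (((ω : rootsOfUnity p F) : Fˣ) : F) ^ (b : ℕ) := by
          have := congrArg (fun z : rootsOfUnity p F => ((z : Fˣ) : F)) hab
          simpa using this
        exact Fin.ext (hωp.pow_inj a.2 b.2 h5)
      obtain ⟨V, hV, hVk⟩ := exists_dft _ hvω
      refine ⟨V * (dg c)⁻¹, ?_, yy ω 0, hyy 0, ?_⟩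
      · have h5 : V * (dg c)⁻¹ * x * (V * (dg c)⁻¹)⁻¹ = V * pk k * V⁻¹ := by
          have h6 : (dg c)⁻¹ * x * dg c = pk k := by rw [mul_assoc, hxc, inv_mul_cancel_left]
          calc V * (dg c)⁻¹ * x * (V * (dg c)⁻¹)⁻¹ = V * ((dg c)⁻¹ * x * dg c) * V⁻¹ := by group
            _ = _ := by rw [h6]
        have h7 := hVk k0
        have h8 : Multiplicative.ofAdd k0 = k := rfl
        rw [h8] at h7
        rw [h5, h7, mul_assoc, mul_inv_cancel, mul_one]
        exact dg_mem _
      · obtain ⟨e, e', _, _, hee⟩ := three hp2 (0 : Fin p)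
        have h9 : ∀ i, ((V * (dg c)⁻¹ : GL (Fin p) F) : Matrix (Fin p) (Fin p) F) i 0 ≠ 0 := by
          intro i
          rw [← map_inv, Units.val_mul, dg_coe, Matrix.mul_diagonal, hV]
          exact mul_ne_zero (pow_ne_zero _ (Units.ne_zero _)) (Units.ne_zero _)
        exact not_mem_col hp2 hω 0 _ hee (h9 e) (h9 e')
    · set g : GL (Fin p) F := Matrix.GeneralLinearGroup.mkOfDetNeZero _ hdet with hg
      have hgc : (g : Matrix (Fin p) (Fin p) F) = 1 + (x : Matrix (Fin p) (Fin p) F) := rfl
      have hcomm : g * x = x * g := by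
        apply Units.ext
        have e1 : ((g * x : GL (Fin p) F) : Matrix (Fin p) (Fin p) F) = (g : Matrix (Fin p) (Fin p) F) * (x : Matrix (Fin p) (Fin p) F) :=
          Units.val_mul _ _
        have e2 : ((x * g : GL (Fin p) F) : Matrix (Fin p) (Fin p) F) = (x : Matrix (Fin p) (Fin p) F) * (g : Matrix (Fin p) (Fin p) F) :=
          Units.val_mul _ _
        rw [e1, e2, hgc, add_mul, mul_add, one_mul, mul_one]
      refine ⟨g, ?_, yy ω 0, hyy 0, ?_⟩
      · rw [hcomm, mul_assoc, mul_inv_cancel, mul_one]; exact hx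
      · apply not_mem_col hp2 hω 0 g (i := 0) (i' := k0) (Ne.symm hk)
        · rw [hgc, Matrix.add_apply, Matrix.one_apply_eq, hxe, if_neg (by rw [add_zero]; exact Ne.symm hk), add_zero]
          exact one_ne_zero
        · rw [hgc, Matrix.add_apply, Matrix.one_apply_ne hk, hxe, if_pos (add_zero _).symm, zero_add]
          exact Units.ne_zero _

end Cfsg.Agent.Lib.GLRedund
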