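import Cfsg.Agent.Lib.H10Enum

set_option autoImplicit false
set_option maxRecDepth 100000
set_option linter.style.longLine false

/-! Certificate data (coset enumeration). -/

namespace Cfsg.Agent.Lib.GT27A12x7

open Cfsg.Agent.Lib.H10Enum

/-- the facts -/
def T : ℕ := 0x6000000000000020000100400002006000030050000400b000040050000600b000060070000800b000080090000e00f0000c0290000a0290000c00f0000e0240000a012000110200000e0170001101c000150210002201a0001d01e0001d023000270220002102804029029060250290202302706021026040200240401d01d0601701b02019019060140180401301606015015060110110600d00f0600b00e0400a00c0400b00b06006007040050050600300306002002020010010400000002000000020290240402802204027021020260200202501f0602401f0402301e0202201d0202101c0602001c0401f01b0201e01a0601d01a0401c0170201b0160401a015040190140201801302017012060160120201501102014010060130100401200f0401100e0401000d0200f00c0200e00a0200d0090600c0090200b0080600a008040090070400800602007005020060040600500404004003020030020400200106001000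

/-- the relators -/
def R : List (List ℕ) := [[2, 2], [4, 4], [6, 6], [2, 4, 2, 4, 2, 4, 2, 4, 2, 4, 2, 4, 2, 4], [2, 6, 2, 6], [4, 6, 4, 6, 4, 6], [2, 4, 6, 2, 4, 6, 2, 4, 6, 2, 4, 6, 2, 4, 6, 2, 4, 6, 2, 4, 6, 2, 4, 6, 2, 4, 6, 2, 4, 6, 2, 4, 6, 2, 4, 6], [2, 4, 2, 4, 6, 2, 4, 2, 4, 6, 2, 4, 2, 4, 6, 2, 4, 2, 4, 6, 2, 4, 2, 4, 6, 2, 4, 2, 4, 6, 2, 4, 2, 4, 6], [2, 3], [4, 5], [6, 7]]

/-- rules -/
def rs0 : List Rule := [
  ⟨3, 0, 1, 1, [0x3200280020001a0012000e005f000f0013001b0021002900330038, 0x46003c0034002a0022001c0064001f0025002f00390043004f003d]⟩,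
  ⟨3, 1, 1, 1, [0x160010000c0008000600040059000500070009000d001100170030]⟩,
  ⟨4, 0, 1, 1, [0x200550003002b]⟩,
  ⟨4, 1, 1, 1, [0x6005b0007002d, 0xc000b000f002f, 0x160015001d0032, 0x1a0019001f0033, 0x2a006b002b0035, 0x28002700310037, 0x2e002d00370039, 0x420041004d003c, 0x4a00490053003e]⟩,
  ⟨5, 0, 1, 1, [0xa0008005d0009000b002e, 0x1400100060001300190031, 0x26002000680025002d0036, 0x3a0034006d0035003b003a, 0x4000380074003f0049003b]⟩,
  ⟨5, 1, 1, 1, [0x40002005700030005002c, 0x2200670063006600230034]⟩,
  ⟨6, 2, 0, 1, [0x520048003e0036002c0024001e00180012000e000a00080006005a00040058000200560054000300050007005c0009000d00600013001b00680025002f0074003f004b007e003f]⟩,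
  ⟨7, 1, 0, 0, [0x42004100780053008000520048003e0036006f0031007100330072003200280027006e0037003f004b007e008000520079004d007b004f007d0046003c003b0076004500510040]⟩,
  ⟨8, 1, 0, 0, [0x450085007d0042, 0x440088003c0044, 0x2b008c00420046, 0x1d0090002e0049, 0x1d00960053004c, 0x1c009a009d001f004e, 0xd00a4000e0053, 0xd00a600a300170054, 0x700ac00a9000d0056]⟩,
  ⟨9, 1, 0, 0, [0x4e008200500041, 0x76008600460043, 0x35008b0085004e0045, 0x23008e00380047, 0x2300920078004a, 0x6500940024004b, 0x65009a0081004d, 0x1100a000120051, 0x1100a200630052, 0x900a8005f0055, 0x500ae00a600ab00a800ad00090057]⟩,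
  ⟨10, 0, 0, 1, [0xb200ae00a600ab00b100020059]⟩,
  ⟨10, 1, 0, 0, [0x6a008e00410048, 0x15009a009d0018004f, 0x15009a009d0098009f00670050, 0x300b000aa00a700af005b0058]⟩]

/-- all rules -/
def rs : List Rule := rs0

theorem ok : check T 14 36 41 90 [1, 2] [41, 42] R rs = true := by decide +kernel

/-- the target fact 89: letter 3 -/
theorem tgt3 : fct T 89 = 100663296 := by decide +kernel

end Cfsg.Agent.Lib.GT27A12x7
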