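import Mathlib
import Cfsg.Agent.Lib.GT27NS
import Cfsg.Agent.Lib.GT27Trq
import Cfsg.Agent.Lib.DegGrA
import Cfsg.Agent.Lib.CriticalOdd
import Cfsg.Agent.Lib.CFCore
import Cfsg.Agent.Lib.SimpOrdSix

/-!
# Groups of order 12096 with the spectrum of `G₂(2)` have a simple subgroup of index 2 (helper54)
-/

set_option autoImplicit false
set_option linter.all false

namespace Cfsg.Agent.Lib.GT27NS

open Cfsg Subgroup

universe u

section

variable {G : Type u} [Group G] [Finite G] (hcard : Nat.card G = 12096) (hs : ∀ g : G, g ^ 7 = 1 ∨ g ^ 8 = 1 ∨ g ^ 12 = 1)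

include hcard hs

theorem fix_bot {p : G} (hp : orderOf p = 7) {K : Subgroup G} (hK : ¬ 7 ∣ Nat.card K) :
    K ⊓ centralizer (zpowers p : Set G) = ⊥ := by
  rw [eq_bot_iff]
  rintro x ⟨hx, hxc⟩
  have h1 : x ∈ zpowers p := GT27XD.cent7 hcard hs hp ((mem_centralizer_iff.1 hxc p (mem_zpowers p)).symm)
  have h2 : orderOf x ∣ 7 := by rw [← hp, ← Nat.card_zpowers p]; exact (zpowers p).orderOf_dvd_natCard h1
  have h3 : orderOf x ∣ Nat.card K := Subgroup.orderOf_dvd_natCard _ hx
  rcases (Nat.dvd_prime (by norm_num)).1 h2 with h4 | h4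
  · exact mem_bot.2 (orderOf_eq_one_iff.1 h4)
  · rw [h4] at h3; exact absurd h3 hK

theorem core_bot : pPrimeCore 7 G = ⊥ := by
  classical
  haveI : Fact (Nat.Prime 7) := ⟨by norm_num⟩
  haveI : Fact (Nat.Prime 3) := ⟨by norm_num⟩
  by_contra hne
  obtain ⟨K, hKd⟩ : ∃ K, K = pPrimeCore 7 G := ⟨_, rfl⟩
  rw [← hKd] at hne
  haveI hKn : K.Normal := by rw [hKd]; exact CFCore.pPrimeCore_normal 7 G
  have hKc : (Nat.card K).Coprime 7 := by rw [hKd]; exact Cores.coprime_card_pPrimeCore 7 G
  have h7 : ¬ 7 ∣ Nat.card K := by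
    intro h
    have := Nat.Coprime.eq_one_of_dvd hKc.symm h
    norm_num at this
  obtain ⟨p, hp⟩ := exists_prime_orderOf_dvd_card' (G := G) 7 (by rw [hcard]; norm_num)
  have hA : Nat.card (zpowers p) = 7 := by rw [Nat.card_zpowers, hp]
  have hApg : IsPGroup 7 (zpowers p) := IsPGroup.of_card (n := 1) (by rw [hA, pow_one])
  have hAK : zpowers p ≤ normalizer (K : Set G) := by rw [normalizer_eq_top]; exact le_top
  have hmod : Nat.card K ≡ 1 [MOD 7] := by
    have h1 := CriticalOdd.card_modEq_centralizer hApg hAK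
    rw [fix_bot hcard hs hp h7, Subgroup.card_bot] at h1
    exact h1
  -- no 3-part
  have h3 : ¬ 3 ∣ Nat.card K := by
    have hsolv : Group.IsSolvable (zpowers p) := by infer_instance
    obtain ⟨S, h1, h2, h3, h4⟩ := CoprimeAction.exists_invariant_sylow hAK (by rw [hA]; exact hKc.symm) (Or.inl hsolv) 3
    have hS7 : ¬ 7 ∣ Nat.card S := fun h => h7 (h.trans (card_dvd_of_le h1))
    have h5 := CriticalOdd.card_modEq_centralizer hApg h4
    rw [fix_bot hcard hs hp hS7, Subgroup.card_bot] at h5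
    obtain ⟨n, hn⟩ := IsPGroup.iff_card.1 h2
    have h6 : (3 : ℕ) ^ n ∣ 12096 := by rw [← hn, ← hcard]; exact Subgroup.card_subgroup_dvd_card S
    have hn3 : n ≤ 3 := by
      by_contra hcon
      have h8 : (3 : ℕ) ^ 4 ∣ 12096 := (pow_dvd_pow 3 (by omega)).trans h6
      norm_num at h8
    rw [hn] at h5
    have hS1 : Nat.card S = 1 := by
      rw [hn]
      interval_cases n
      · rfl
      · exact absurd h5 (by decide)
      · exact absurd h5 (by decide)
      · exact absurd h5 (by decide)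
    intro h
    apply h3
    have h8 := Subgroup.card_mul_index (S.subgroupOf K)
    rw [Nat.card_congr (Subgroup.subgroupOfEquivOfLe h1).toEquiv, hS1, one_mul] at h8
    change S.relIndex K = _ at h8
    rw [h8]; exact h
  have hdv : Nat.card K ∣ 64 := by
    have h1 : Nat.card K ∣ 64 * 189 := by
      have := Subgroup.card_subgroup_dvd_card K
      rw [hcard] at this
      exact this
    apply Nat.Coprime.dvd_of_dvd_mul_right _ h1
    rw [show 189 = 3 ^ 3 * 7 by norm_num]
    exact Nat.Coprime.mul_right (Nat.Coprime.pow_right _ (((Nat.Prime.coprime_iff_not_dvd (by norm_num)).2 h3).symm)) hKc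
  have hK1 : Nat.card K ≠ 1 := fun h => hne (Subgroup.card_eq_one.1 h)
  have hcases : Nat.card K = 8 ∨ Nat.card K = 64 := by
    have h1 : Nat.card K ∈ Nat.divisors 64 := Nat.mem_divisors.2 ⟨hdv, by norm_num⟩
    rw [show Nat.divisors 64 = {1, 2, 4, 8, 16, 32, 64} by decide +kernel] at h1
    simp only [Finset.mem_insert, Finset.mem_singleton] at h1
    have h2 : Nat.card K % 7 = 1 := hmod
    omega
  rcases hcases with h8 | h64
  · -- order 8
    obtain ⟨C, hCd⟩ : ∃ C, C = centralizer (K : Set G) := ⟨_, rfl⟩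
    haveI hCn : C.Normal := by rw [hCd]; infer_instance
    have hC7 : ¬ 7 ∣ Nat.card C := by
      intro h
      obtain ⟨x, hx⟩ := exists_prime_orderOf_dvd_card' (G := C) 7 h
      have hx' : orderOf (x : G) = 7 := by rw [Subgroup.orderOf_coe, hx]
      have h1 := fix_bot hcard hs hx' h7
      apply hne
      rw [← h1, eq_comm, inf_eq_left]
      intro k hk
      rw [mem_centralizer_iff]
      rintro y ⟨n, rfl⟩
      have hxc : (x : G) ∈ centralizer (K : Set G) := by rw [← hCd]; exact x.2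
      have h2 : k * (x : G) = (x : G) * k := (mem_centralizer_iff.1 hxc k hk)
      exact ((Commute.zpow_right h2 n).eq).symm
    have hCK : C ≤ K := by
      rw [hKd]
      exact Cores.le_pPrimeCore hCn ((Nat.Prime.coprime_iff_not_dvd (by norm_num)).2 hC7).symm
    have hC8 : Nat.card C ∣ 8 := by rw [← h8]; exact card_dvd_of_le hCK
    let f : G →* Equiv.Perm K := (MulAction.toPermHom (MulAut K) K).comp MulAut.conjNormal
    have hker : f.ker ≤ C := by
      intro g hg
      rw [MonoidHom.mem_ker] at hg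
      rw [hCd, mem_centralizer_iff]
      intro k hk
      have h1 : f g ⟨k, hk⟩ = ⟨k, hk⟩ := by rw [hg]; rfl
      have h2 : g * k * g⁻¹ = k := by
        have h3 := congrArg Subtype.val h1
        have h4 : ((f g ⟨k, hk⟩ : K) : G) = g * k * g⁻¹ := by
          change ((MulAut.conjNormal g ⟨k, hk⟩ : K) : G) = _
          rw [MulAut.conjNormal_apply]
        rw [h4] at h3
        exact h3
      calc k * g = (g * k * g⁻¹) * g := by rw [h2]
        _ = g * k := by group
    have h1 : Nat.card f.ker ∣ 8 := (card_dvd_of_le hker).trans hC8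
    have h2 : Nat.card f.ker * Nat.card f.range = 12096 := by
      rw [← hcard, ← f.ker.card_mul_index, Subgroup.index_ker]
    have h3 : Nat.card f.range ∣ 40320 := by
      have h4 := Subgroup.card_subgroup_dvd_card f.range
      have h5 : Nat.card (Equiv.Perm K) = 40320 := by
        rw [Nat.card_perm, h8]; rfl
      rw [h5] at h4
      exact h4
    have h4 : 27 ∣ Nat.card f.range := by
      have h5 : 27 ∣ Nat.card f.ker * Nat.card f.range := by rw [h2]; norm_num
      have h6 : Nat.Coprime 27 (Nat.card f.ker) := Nat.Coprime.coprime_dvd_right h1 (by norm_num)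
      exact h6.dvd_of_dvd_mul_left h5
    have h5 := h4.trans h3
    norm_num at h5
  · -- order 64
    obtain ⟨f, hf, hf6⟩ := GT27Trq.exists_f hcard hs hp
    have hidx : K.index = 189 := by
      have := K.card_mul_index
      rw [h64, hcard] at this
      omega
    have hi : f ^ 3 ∈ K := by
      apply SmallSimple.mem_of_orderOf_coprime_index
      have h1 : orderOf (f ^ 3) ∣ 2 := orderOf_dvd_of_pow_eq_one (by rw [← pow_mul]; exact hf6)
      rw [hidx]
      exact Nat.Coprime.coprime_dvd_left h1 (by norm_num)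
    have hp7 : p ^ 7 = 1 := by rw [← hp]; exact pow_orderOf_eq_one p
    have hconj : f ^ 3 * p * (f ^ 3)⁻¹ = p ^ 27 := by
      calc f ^ 3 * p * (f ^ 3)⁻¹ = f * (f * (f * p * f⁻¹) * f⁻¹) * f⁻¹ := by
            simp only [pow_succ, pow_zero, one_mul, mul_inv_rev, mul_assoc]
        _ = f * (f * p ^ 3 * f⁻¹) * f⁻¹ := by rw [hf]
        _ = f * ((f * p * f⁻¹) ^ 3) * f⁻¹ := by rw [conj_pow]
        _ = f * (p ^ 9) * f⁻¹ := by rw [hf, ← pow_mul]
        _ = (f * p * f⁻¹) ^ 9 := by rw [conj_pow]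
        _ = p ^ 27 := by rw [hf, ← pow_mul]
    have h1 : f ^ 3 * (p * (f ^ 3)⁻¹ * p⁻¹) ∈ K := mul_mem hi (hKn.conj_mem _ (inv_mem hi) p)
    have h2 : f ^ 3 * (p * (f ^ 3)⁻¹ * p⁻¹) = p ^ 26 := by
      calc f ^ 3 * (p * (f ^ 3)⁻¹ * p⁻¹) = (f ^ 3 * p * (f ^ 3)⁻¹) * p⁻¹ := by simp only [mul_assoc]
        _ = p ^ 27 * p⁻¹ := by rw [hconj]
        _ = p ^ 26 := by rw [pow_succ, mul_inv_cancel_right]
    rw [h2] at h1
    have h3 : orderOf (p ^ 26) = 7 := by rw [orderOf_pow' _ (by norm_num), hp]; norm_num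
    have h4 : orderOf (p ^ 26) ∣ Nat.card K := Subgroup.orderOf_dvd_natCard _ h1
    rw [h3] at h4
    exact h7 h4

theorem exists_T : ∃ T : Subgroup G, T.Normal ∧ T.index = 2 ∧ IsSimpleGroup T ∧ Nat.card T = 6048 := by
  classical
  haveI : Fact (Nat.Prime 7) := ⟨by norm_num⟩
  haveI : Nontrivial G := Finite.one_lt_card_iff_nontrivial.1 (by rw [hcard]; norm_num)
  obtain ⟨N, hNn, hN, hmin⟩ := M12DegY.exists_min G
  haveI := hNn
  obtain ⟨hsimp, h7⟩ := DegGr.simple_min (by norm_num : Nat.Prime 7) (by rw [hcard]; norm_num) (core_bot hcard hs) N hN hmin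
  haveI := hsimp
  obtain ⟨P⟩ : Nonempty (Sylow 7 N) := inferInstance
  -- the Sylow subgroup
  have hNd : Nat.card N ∣ 12096 := by rw [← hcard]; exact Subgroup.card_subgroup_dvd_card N
  have hPc : Nat.card ((P : Subgroup N).map N.subtype) = 7 := by
    rw [Subgroup.card_map_of_injective N.subtype_injective]
    obtain ⟨n, hn⟩ := IsPGroup.iff_card.1 P.2
    have h1 : (7 : ℕ) ^ n ∣ 12096 := by rw [← hn]; exact (Subgroup.card_subgroup_dvd_card _).trans hNd
    have h2 : n ≤ 1 := by
      by_contra hcon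
      have h3 : (7 : ℕ) ^ 2 ∣ 12096 := (pow_dvd_pow 7 (by omega)).trans h1
      norm_num at h3
    have h3 : 7 ∣ Nat.card (P : Subgroup N) := P.dvd_card_of_dvd_card h7
    have hn' : Nat.card (P : Subgroup N) = 7 ^ n := hn
    rw [hn'] at h3 ⊢
    interval_cases n
    · norm_num at h3
    · norm_num
  have hcyc : ∃ x : G, orderOf x = 7 ∧ (P : Subgroup N).map N.subtype = zpowers x := by
    obtain ⟨x, hx⟩ := (isCyclic_of_prime_card hPc).exists_generator
    refine ⟨x, ?_, ?_⟩
    · rw [Subgroup.orderOf_coe, orderOf_eq_card_of_forall_mem_zpowers hx, hPc]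
    · apply le_antisymm
      · intro y hy
        obtain ⟨k, hk⟩ := mem_zpowers_iff.1 (hx ⟨y, hy⟩)
        exact mem_zpowers_iff.2 ⟨k, congrArg Subtype.val hk⟩
      · rw [zpowers_le]; exact x.2
  obtain ⟨x, hx, hPx⟩ := hcyc
  have hfr := Sylow.normalizer_sup_eq_top P
  rw [hPx] at hfr
  obtain ⟨H, hHd⟩ : ∃ H, H = normalizer (zpowers x : Set G) := ⟨_, rfl⟩
  rw [← hHd] at hfr
  have hH : Nat.card H = 42 := by rw [hHd]; exact GT27XD.card_norm hcard hs hx
  have h1 : N.relIndex H = N.index := by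
    rw [← Subgroup.relIndex_sup_right H N, hfr, Subgroup.relIndex_top_right]
  have hxN : zpowers x ≤ N ⊓ H := by
    apply le_inf
    · rw [← hPx]; exact Subgroup.map_subtype_le _
    · rw [hHd]; exact le_normalizer
  have h2 : Nat.card (N ⊓ H : Subgroup G) * N.relIndex H = 42 := by
    have h3 := (N.subgroupOf H).card_mul_index
    rw [hH, ← Subgroup.inf_subgroupOf_right, Nat.card_congr (Subgroup.subgroupOfEquivOfLe inf_le_right).toEquiv] at h3
    rw [← Subgroup.inf_relIndex_right]
    exact h3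
  have h3 : 7 ∣ Nat.card (N ⊓ H : Subgroup G) := by
    have := card_dvd_of_le hxN
    rwa [Nat.card_zpowers, hx] at this
  have h4 : N.index ∣ 6 := by
    rw [h1] at h2
    obtain ⟨k, hk⟩ := h3
    rw [hk] at h2
    refine ⟨k, ?_⟩
    have h9 : 7 * (N.index * k) = 7 * 6 := by
      calc 7 * (N.index * k) = 7 * k * N.index := by ring
        _ = 7 * 6 := by rw [h2]
    exact (Nat.eq_of_mul_eq_mul_left (by norm_num) h9).symm
  have h5 := N.card_mul_index
  rw [hcard] at h5
  have hG : ¬ IsMulCommutative N := by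
    apply PBKill.not_comm
    intro hprime
    have h6 : Nat.card N = 7 := ((Nat.prime_dvd_prime_iff_eq (by norm_num) hprime).1 h7).symm
    rw [h6] at h5
    have := Nat.le_of_dvd (by norm_num) h4
    omega
  have h6 : N.index ∈ Nat.divisors 6 := Nat.mem_divisors.2 ⟨h4, by norm_num⟩
  rw [show Nat.divisors 6 = {1, 2, 3, 6} by decide +kernel] at h6
  simp only [Finset.mem_insert, Finset.mem_singleton] at h6
  rcases h6 with h6 | h6 | h6 | h6
  · rw [h6, mul_one] at h5
    exact absurd h5 (ne_12096 hG)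
  · refine ⟨N, hNn, h6, hsimp, ?_⟩
    rw [h6] at h5; omega
  · exfalso
    have h7' : Nat.card N = 4032 := by rw [h6] at h5; omega
    have h8 := SimpOrdSix.orders hG (by rw [h7']; norm_num)
    rw [h7'] at h8
    revert h8; decide
  · exfalso
    have h7' : Nat.card N = 2016 := by rw [h6] at h5; omega
    have h8 := SimpOrdSix.orders hG (by rw [h7']; norm_num)
    rw [h7'] at h8
    revert h8; decide

end

end Cfsg.Agent.Lib.GT27NS
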