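import Mathlib

set_option autoImplicit false
set_option maxRecDepth 100000
set_option linter.style.longLine false

/-!
# The group `PGL(2,7)` on 8 points by codes (for the group `G2(2)`)

A permutation of 8 points is stored as a natural number with 8 hexadecimal digits.
-/

namespace Cfsg.Agent.Lib.GT27XA

/-- digit `i` -/
def ap (c i : ℕ) : ℕ := Nat.mod (Nat.shiftRight c (Nat.mul 4 i)) 16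

/-- composition of codes -/
def mulc (c d : ℕ) : ℕ :=
  Nat.add (ap c (ap d 0)) (Nat.mul 16 (Nat.add (ap c (ap d 1)) (Nat.mul 16 (Nat.add (ap c (ap d 2)) (Nat.mul 16
  (Nat.add (ap c (ap d 3)) (Nat.mul 16 (Nat.add (ap c (ap d 4)) (Nat.mul 16 (Nat.add (ap c (ap d 5)) (Nat.mul 16
  (Nat.add (ap c (ap d 6)) (Nat.mul 16 (ap c (ap d 7)))))))))))))))

/-- the code of a permutation -/
def code (σ : Equiv.Perm (Fin 8)) : ℕ :=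
  (σ 0 : ℕ) + 16 * ((σ 1 : ℕ) + 16 * ((σ 2 : ℕ) + 16 * ((σ 3 : ℕ) + 16 * ((σ 4 : ℕ) + 16 * ((σ 5 : ℕ) +
    16 * ((σ 6 : ℕ) + 16 * (σ 7 : ℕ)))))))

theorem ap_eq (c i : ℕ) : ap c i = c / 2 ^ (4 * i) % 16 := by
  unfold ap
  show (c >>> (4 * i)) % 16 = _
  rw [Nat.shiftRight_eq_div_pow]

theorem ap_code (σ : Equiv.Perm (Fin 8)) (i : Fin 8) : ap (code σ) (i : ℕ) = (σ i : ℕ) := by
  rw [ap_eq]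
  unfold code
  have h0 := (σ 0).isLt
  have h1 := (σ 1).isLt
  have h2 := (σ 2).isLt
  have h3 := (σ 3).isLt
  have h4 := (σ 4).isLt
  have h5 := (σ 5).isLt
  have h6 := (σ 6).isLt
  have h7 := (σ 7).isLt
  obtain ⟨i, hi⟩ := i
  interval_cases i
  · change _ / 2 ^ (4 * 0) % 16 = ((σ 0 : Fin 8) : ℕ); norm_num; omega
  · change _ / 2 ^ (4 * 1) % 16 = ((σ 1 : Fin 8) : ℕ); norm_num; omega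
  · change _ / 2 ^ (4 * 2) % 16 = ((σ 2 : Fin 8) : ℕ); norm_num; omega
  · change _ / 2 ^ (4 * 3) % 16 = ((σ 3 : Fin 8) : ℕ); norm_num; omega
  · change _ / 2 ^ (4 * 4) % 16 = ((σ 4 : Fin 8) : ℕ); norm_num; omega
  · change _ / 2 ^ (4 * 5) % 16 = ((σ 5 : Fin 8) : ℕ); norm_num; omega
  · change _ / 2 ^ (4 * 6) % 16 = ((σ 6 : Fin 8) : ℕ); norm_num; omega
  · change _ / 2 ^ (4 * 7) % 16 = ((σ 7 : Fin 8) : ℕ); norm_num; omega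

theorem code_mul (σ τ : Equiv.Perm (Fin 8)) : code (σ * τ) = mulc (code σ) (code τ) := by
  have h : ∀ i : Fin 8, ap (code σ) (ap (code τ) (i : ℕ)) = ((σ * τ) i : ℕ) := by
    intro i
    rw [ap_code, ap_code, Equiv.Perm.mul_apply]
  have e0 := h 0
  have e1 := h 1
  have e2 := h 2
  have e3 := h 3
  have e4 := h 4
  have e5 := h 5
  have e6 := h 6
  have e7 := h 7
  simp only [Fin.val_zero, Fin.val_one, Fin.val_two] at e0 e1 e2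
  change ap (code σ) (ap (code τ) 3) = _ at e3
  change ap (code σ) (ap (code τ) 4) = _ at e4
  change ap (code σ) (ap (code τ) 5) = _ at e5
  change ap (code σ) (ap (code τ) 6) = _ at e6
  change ap (code σ) (ap (code τ) 7) = _ at e7
  unfold mulc
  rw [e0, e1, e2, e3, e4, e5, e6, e7]
  rfl

theorem code_inj {σ τ : Equiv.Perm (Fin 8)} (h : code σ = code τ) : σ = τ := by
  ext i
  rw [← ap_code, ← ap_code, h]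

theorem code_one : code 1 = 0x76543210 := by decide

/-- the generators (codes) -/
def mc (i : ℕ) : ℕ := match i with
  | 0 => 0x45672310
  | 1 => 0x67534120
  | _ => 0x67453201

/-- value of a word -/
def evl (g : ℕ → ℕ) : List ℕ → ℕ
  | [] => 0x76543210
  | i :: w => mulc (g i) (evl g w)

/-- `a = c0 c2` -/
def ca : ℕ := 0x54762301
/-- `b = c1 c0 c1 c0 c2 c1` -/
def cb : ℕ := 0x17523064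
/-- `v = a b b a b` -/
def cv : ℕ := 0x37426510
/-- `r = c0 c1 c2` -/
def cr : ℕ := 0x45267103
/-- `f = r^2` -/
def cf : ℕ := 0x62154037

/-- letters `a`, `b` -/
def gab (i : ℕ) : ℕ := match i with
  | 0 => 0x54762301
  | _ => 0x17523064

/-- the 336 elements -/
def L : List ℕ := [0x76543210, 0x45672310, 0x67534120, 0x67453201, 0x54627130, 0x54762301, 0x35761420,
  0x76354102, 0x76435021, 0x26451730, 0x45267103, 0x45726031, 0x53716240, 0x53671402, 0x67345012, 0x34670521,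
  0x62415370, 0x62541703, 0x54276013, 0x27540631, 0x17352640, 0x35176204, 0x35617042, 0x43760512, 0x43607251,
  0x14263570, 0x26145307, 0x26514073, 0x72450613, 0x72504361, 0x71325460, 0x71532604, 0x53167024, 0x16530742,
  0x34706152, 0x6342751, 0x34067215, 0x41236750, 0x41623507, 0x62154037, 0x15620473, 0x27405163, 0x5273461,
  0x27054316, 0x23174560, 0x17235406, 0x17523064, 0x61350724, 0x61503472, 0x7431652, 0x43076125, 0x60324571,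
  0x60432715, 0x32147650, 0x14326705, 0x14632057, 0x51260437, 0x51602743, 0x4721563, 0x72045136, 0x50237641,
  0x50723416, 0x32714506, 0x71253046, 0x25710364, 0x16305274, 0x5164372, 0x16053427, 0x70413562, 0x70341625,
  0x23065471, 0x6234517, 0x6423175, 0x23417605, 0x41362075, 0x36410257, 0x15206347, 0x6157243, 0x15062734,
  0x40712653, 0x40271536, 0x32056741, 0x5327614, 0x5732146, 0x23741056, 0x52170346, 0x52701634, 0x3612574,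
  0x61035247, 0x50146732, 0x50614327, 0x14075362, 0x7143526, 0x7314265, 0x32605417, 0x60243157, 0x24601375,
  0x32471065, 0x63140275, 0x63401527, 0x2513647, 0x51026374, 0x60175423, 0x60517234, 0x17046253, 0x4172635,
  0x4217356, 0x23506714, 0x50372164, 0x37501246, 0x47320156, 0x25107436, 0x7256134, 0x25071643, 0x30621754,
  0x30162547, 0x41057632, 0x5416723, 0x5641237, 0x41705326, 0x70134256, 0x13702465, 0x23650147, 0x42061357,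
  0x42610735, 0x74230165, 0x36104725, 0x4365127, 0x36041572, 0x20531467, 0x20153674, 0x71064523, 0x6715432,
  0x6571324, 0x71406235, 0x40127365, 0x12403756, 0x32560174, 0x73051264, 0x73510426, 0x74302516, 0x1524736,
  0x52017463, 0x70265314, 0x70526143, 0x26037154, 0x3261745, 0x3126457, 0x14507623, 0x50461273, 0x46502137,
  0x14750236, 0x31072456, 0x31720645, 0x56321047, 0x24016537, 0x16247035, 0x24160753, 0x47203615, 0x1637425,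
  0x63014752, 0x40356217, 0x40635172, 0x35024167, 0x2351476, 0x2135764, 0x17604532, 0x60751342, 0x75603124,
  0x17460325, 0x21043765, 0x21430576, 0x65231074, 0x37015624, 0x15374026, 0x37150462, 0x3475216, 0x47032561,
  0x10542376, 0x10254763, 0x62073514, 0x7625341, 0x7562413, 0x62307145, 0x30216475, 0x21304657, 0x41570263,
  0x64052173, 0x64520317, 0x57412036, 0x13027546, 0x27136045, 0x13270654, 0x65312407, 0x10425637, 0x42106573,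
  0x61274305, 0x61427053, 0x2746315, 0x74023651, 0x10673245, 0x10367452, 0x53042617, 0x4536271, 0x4653712,
  0x53204176, 0x20315746, 0x31207564, 0x71640352, 0x57063142, 0x57630214, 0x64713025, 0x12034675, 0x34125076,
  0x12340567, 0x56213704, 0x10736524, 0x73105642, 0x51347206, 0x51734062, 0x30457126, 0x30745261, 0x45013276,
  0x1452367, 0x1245673, 0x26703541, 0x70652431, 0x65704213, 0x26370415, 0x75142063, 0x46025713, 0x25463017,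
  0x46250371, 0x75421306, 0x72163405, 0x72316054, 0x13564207, 0x56132470, 0x16724350, 0x16472503, 0x20764135,
  0x20476351, 0x76012345, 0x1763254, 0x1376542, 0x35402671, 0x40563721, 0x56407312, 0x35240716, 0x46173052,
  0x75036412, 0x36752014, 0x75360241, 0x46731205, 0x43152706, 0x43215067, 0x12657304, 0x65123740, 0x15437260,
  0x15743602, 0x54031726, 0x3547162, 0x3754621, 0x54103267, 0x62730451, 0x56074231, 0x56740123, 0x73624015,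
  0x57124603, 0x20647513, 0x64205731, 0x52436107, 0x52643071, 0x24573106, 0x57241360, 0x27613450, 0x27361504,
  0x31546027, 0x31654270, 0x61742530, 0x74615203, 0x67021435, 0x2674153, 0x2467531, 0x67102354, 0x53420761,
  0x65047321, 0x65470132, 0x42537016, 0x64137502, 0x30574612, 0x57306421, 0x63725104, 0x63572041, 0x37642105,
  0x64371250, 0x34512760, 0x34251607, 0x21675034, 0x21567340, 0x51473620, 0x47516302, 0x45301762, 0x45130627,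
  0x37264051, 0x47651023, 0x21756403, 0x75214630, 0x25346170, 0x25634701, 0x42753160, 0x72631540, 0x13456072,
  0x13645720, 0x47165230, 0x76201453, 0x76120534, 0x24357061, 0x74561032, 0x31465702, 0x46317520, 0x36275140,
  0x36527401, 0x73462150, 0x43521670, 0x12765043, 0x12576430, 0x74156320, 0x54310672, 0x73246501, 0x52364710,
  0x24735610, 0x67210543, 0x42375601, 0x63257410, 0x37426510]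

/-- words -/
def WL : List (List ℕ) := [[], [0], [1], [2], [0, 1], [0, 2], [1, 0], [1, 2], [2, 1], [0, 1, 0], [0, 1, 2],
  [0, 2, 1], [1, 0, 1], [1, 0, 2], [1, 2, 1], [2, 1, 0], [0, 1, 0, 1], [0, 1, 0, 2], [0, 1, 2, 1], [0, 2, 1,
  0], [1, 0, 1, 0], [1, 0, 1, 2], [1, 0, 2, 1], [1, 2, 1, 0], [2, 1, 0, 1], [0, 1, 0, 1, 0], [0, 1, 0, 1, 2],
  [0, 1, 0, 2, 1], [0, 1, 2, 1, 0], [0, 2, 1, 0, 1], [1, 0, 1, 0, 1], [1, 0, 1, 0, 2], [1, 0, 1, 2, 1], [1,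
  0, 2, 1, 0], [1, 2, 1, 0, 1], [2, 1, 0, 1, 0], [2, 1, 0, 1, 2], [0, 1, 0, 1, 0, 1], [0, 1, 0, 1, 0, 2], [0,
  1, 0, 1, 2, 1], [0, 1, 0, 2, 1, 0], [0, 1, 2, 1, 0, 1], [0, 2, 1, 0, 1, 0], [0, 2, 1, 0, 1, 2], [1, 0, 1,
  0, 1, 0], [1, 0, 1, 0, 1, 2], [1, 0, 1, 0, 2, 1], [1, 0, 1, 2, 1, 0], [1, 0, 2, 1, 0, 1], [1, 2, 1, 0, 1,
  0], [1, 2, 1, 0, 1, 2], [2, 1, 0, 1, 0, 1], [2, 1, 0, 1, 0, 2], [0, 1, 0, 1, 0, 1, 0], [0, 1, 0, 1, 0, 1,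
  2], [0, 1, 0, 1, 0, 2, 1], [0, 1, 0, 1, 2, 1, 0], [0, 1, 0, 2, 1, 0, 1], [0, 1, 2, 1, 0, 1, 0], [0, 1, 2,
  1, 0, 1, 2], [0, 2, 1, 0, 1, 0, 1], [0, 2, 1, 0, 1, 0, 2], [1, 0, 1, 0, 1, 0, 2], [1, 0, 1, 0, 1, 2, 1],
  [1, 0, 1, 0, 2, 1, 0], [1, 0, 1, 2, 1, 0, 1], [1, 0, 2, 1, 0, 1, 0], [1, 0, 2, 1, 0, 1, 2], [1, 2, 1, 0, 1,
  0, 1], [1, 2, 1, 0, 1, 0, 2], [2, 1, 0, 1, 0, 1, 0], [2, 1, 0, 1, 0, 1, 2], [2, 1, 0, 1, 0, 2, 1], [0, 1,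
  0, 1, 0, 1, 0, 2], [0, 1, 0, 1, 0, 1, 2, 1], [0, 1, 0, 1, 0, 2, 1, 0], [0, 1, 0, 1, 2, 1, 0, 1], [0, 1, 0,
  2, 1, 0, 1, 0], [0, 1, 0, 2, 1, 0, 1, 2], [0, 1, 2, 1, 0, 1, 0, 1], [0, 1, 2, 1, 0, 1, 0, 2], [0, 2, 1, 0,
  1, 0, 1, 0], [0, 2, 1, 0, 1, 0, 1, 2], [0, 2, 1, 0, 1, 0, 2, 1], [1, 0, 1, 0, 1, 0, 2, 1], [1, 0, 1, 0, 1,
  2, 1, 0], [1, 0, 1, 0, 2, 1, 0, 1], [1, 0, 1, 2, 1, 0, 1, 0], [1, 0, 1, 2, 1, 0, 1, 2], [1, 0, 2, 1, 0, 1,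
  0, 1], [1, 0, 2, 1, 0, 1, 0, 2], [1, 2, 1, 0, 1, 0, 1, 0], [1, 2, 1, 0, 1, 0, 1, 2], [1, 2, 1, 0, 1, 0, 2,
  1], [2, 1, 0, 1, 0, 1, 0, 2], [2, 1, 0, 1, 0, 1, 2, 1], [2, 1, 0, 1, 0, 2, 1, 0], [0, 1, 0, 1, 0, 1, 0, 2,
  1], [0, 1, 0, 1, 0, 1, 2, 1, 0], [0, 1, 0, 1, 0, 2, 1, 0, 1], [0, 1, 0, 1, 2, 1, 0, 1, 0], [0, 1, 0, 1, 2,
  1, 0, 1, 2], [0, 1, 0, 2, 1, 0, 1, 0, 1], [0, 1, 0, 2, 1, 0, 1, 0, 2], [0, 1, 2, 1, 0, 1, 0, 1, 0], [0, 1,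
  2, 1, 0, 1, 0, 1, 2], [0, 1, 2, 1, 0, 1, 0, 2, 1], [0, 2, 1, 0, 1, 0, 1, 0, 2], [0, 2, 1, 0, 1, 0, 1, 2,
  1], [0, 2, 1, 0, 1, 0, 2, 1, 0], [1, 0, 1, 0, 1, 0, 2, 1, 0], [1, 0, 1, 0, 1, 2, 1, 0, 1], [1, 0, 1, 0, 2,
  1, 0, 1, 0], [1, 0, 1, 0, 2, 1, 0, 1, 2], [1, 0, 1, 2, 1, 0, 1, 0, 1], [1, 0, 1, 2, 1, 0, 1, 0, 2], [1, 0,
  2, 1, 0, 1, 0, 1, 0], [1, 0, 2, 1, 0, 1, 0, 1, 2], [1, 0, 2, 1, 0, 1, 0, 2, 1], [1, 2, 1, 0, 1, 0, 1, 0,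
  2], [1, 2, 1, 0, 1, 0, 1, 2, 1], [1, 2, 1, 0, 1, 0, 2, 1, 0], [2, 1, 0, 1, 0, 1, 0, 2, 1], [2, 1, 0, 1, 0,
  1, 2, 1, 0], [2, 1, 0, 1, 0, 2, 1, 0, 1], [0, 1, 0, 1, 0, 1, 0, 2, 1, 0], [0, 1, 0, 1, 0, 1, 2, 1, 0, 1],
  [0, 1, 0, 1, 0, 2, 1, 0, 1, 0], [0, 1, 0, 1, 0, 2, 1, 0, 1, 2], [0, 1, 0, 1, 2, 1, 0, 1, 0, 1], [0, 1, 0,
  1, 2, 1, 0, 1, 0, 2], [0, 1, 0, 2, 1, 0, 1, 0, 1, 0], [0, 1, 0, 2, 1, 0, 1, 0, 1, 2], [0, 1, 0, 2, 1, 0, 1,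
  0, 2, 1], [0, 1, 2, 1, 0, 1, 0, 1, 0, 2], [0, 1, 2, 1, 0, 1, 0, 1, 2, 1], [0, 1, 2, 1, 0, 1, 0, 2, 1, 0],
  [0, 2, 1, 0, 1, 0, 1, 0, 2, 1], [0, 2, 1, 0, 1, 0, 1, 2, 1, 0], [0, 2, 1, 0, 1, 0, 2, 1, 0, 1], [1, 0, 1,
  0, 1, 0, 2, 1, 0, 1], [1, 0, 1, 0, 1, 2, 1, 0, 1, 0], [1, 0, 1, 0, 1, 2, 1, 0, 1, 2], [1, 0, 1, 0, 2, 1, 0,
  1, 0, 1], [1, 0, 1, 0, 2, 1, 0, 1, 0, 2], [1, 0, 1, 2, 1, 0, 1, 0, 1, 0], [1, 0, 1, 2, 1, 0, 1, 0, 1, 2],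
  [1, 0, 1, 2, 1, 0, 1, 0, 2, 1], [1, 0, 2, 1, 0, 1, 0, 1, 0, 2], [1, 0, 2, 1, 0, 1, 0, 1, 2, 1], [1, 0, 2,
  1, 0, 1, 0, 2, 1, 0], [1, 2, 1, 0, 1, 0, 1, 0, 2, 1], [1, 2, 1, 0, 1, 0, 1, 2, 1, 0], [1, 2, 1, 0, 1, 0, 2,
  1, 0, 1], [2, 1, 0, 1, 0, 1, 0, 2, 1, 0], [2, 1, 0, 1, 0, 1, 2, 1, 0, 1], [2, 1, 0, 1, 0, 2, 1, 0, 1, 0],
  [2, 1, 0, 1, 0, 2, 1, 0, 1, 2], [0, 1, 0, 1, 0, 1, 0, 2, 1, 0, 1], [0, 1, 0, 1, 0, 1, 2, 1, 0, 1, 0], [0,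
  1, 0, 1, 0, 1, 2, 1, 0, 1, 2], [0, 1, 0, 1, 0, 2, 1, 0, 1, 0, 1], [0, 1, 0, 1, 0, 2, 1, 0, 1, 0, 2], [0, 1,
  0, 1, 2, 1, 0, 1, 0, 1, 0], [0, 1, 0, 1, 2, 1, 0, 1, 0, 1, 2], [0, 1, 0, 1, 2, 1, 0, 1, 0, 2, 1], [0, 1, 0,
  2, 1, 0, 1, 0, 1, 0, 2], [0, 1, 0, 2, 1, 0, 1, 0, 1, 2, 1], [0, 1, 0, 2, 1, 0, 1, 0, 2, 1, 0], [0, 1, 2, 1,
  0, 1, 0, 1, 0, 2, 1], [0, 1, 2, 1, 0, 1, 0, 1, 2, 1, 0], [0, 1, 2, 1, 0, 1, 0, 2, 1, 0, 1], [0, 2, 1, 0, 1,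
  0, 1, 0, 2, 1, 0], [0, 2, 1, 0, 1, 0, 1, 2, 1, 0, 1], [0, 2, 1, 0, 1, 0, 2, 1, 0, 1, 0], [0, 2, 1, 0, 1, 0,
  2, 1, 0, 1, 2], [1, 0, 1, 0, 1, 0, 2, 1, 0, 1, 0], [1, 0, 1, 0, 1, 0, 2, 1, 0, 1, 2], [1, 0, 1, 0, 1, 2, 1,
  0, 1, 0, 1], [1, 0, 1, 0, 1, 2, 1, 0, 1, 0, 2], [1, 0, 1, 0, 2, 1, 0, 1, 0, 1, 0], [1, 0, 1, 0, 2, 1, 0, 1,
  0, 1, 2], [1, 0, 1, 0, 2, 1, 0, 1, 0, 2, 1], [1, 0, 1, 2, 1, 0, 1, 0, 1, 0, 2], [1, 0, 1, 2, 1, 0, 1, 0, 1,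
  2, 1], [1, 0, 1, 2, 1, 0, 1, 0, 2, 1, 0], [1, 0, 2, 1, 0, 1, 0, 1, 0, 2, 1], [1, 0, 2, 1, 0, 1, 0, 1, 2, 1,
  0], [1, 0, 2, 1, 0, 1, 0, 2, 1, 0, 1], [1, 2, 1, 0, 1, 0, 1, 0, 2, 1, 0], [1, 2, 1, 0, 1, 0, 1, 2, 1, 0,
  1], [1, 2, 1, 0, 1, 0, 2, 1, 0, 1, 0], [1, 2, 1, 0, 1, 0, 2, 1, 0, 1, 2], [2, 1, 0, 1, 0, 1, 0, 2, 1, 0,
  1], [2, 1, 0, 1, 0, 1, 2, 1, 0, 1, 0], [2, 1, 0, 1, 0, 1, 2, 1, 0, 1, 2], [2, 1, 0, 1, 0, 2, 1, 0, 1, 0,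
  1], [2, 1, 0, 1, 0, 2, 1, 0, 1, 0, 2], [0, 1, 0, 1, 0, 1, 0, 2, 1, 0, 1, 0], [0, 1, 0, 1, 0, 1, 0, 2, 1, 0,
  1, 2], [0, 1, 0, 1, 0, 1, 2, 1, 0, 1, 0, 1], [0, 1, 0, 1, 0, 1, 2, 1, 0, 1, 0, 2], [0, 1, 0, 1, 0, 2, 1, 0,
  1, 0, 1, 0], [0, 1, 0, 1, 0, 2, 1, 0, 1, 0, 1, 2], [0, 1, 0, 1, 0, 2, 1, 0, 1, 0, 2, 1], [0, 1, 0, 1, 2, 1,
  0, 1, 0, 1, 0, 2], [0, 1, 0, 1, 2, 1, 0, 1, 0, 1, 2, 1], [0, 1, 0, 1, 2, 1, 0, 1, 0, 2, 1, 0], [0, 1, 0, 2,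
  1, 0, 1, 0, 1, 0, 2, 1], [0, 1, 0, 2, 1, 0, 1, 0, 1, 2, 1, 0], [0, 1, 0, 2, 1, 0, 1, 0, 2, 1, 0, 1], [0, 1,
  2, 1, 0, 1, 0, 1, 0, 2, 1, 0], [0, 1, 2, 1, 0, 1, 0, 1, 2, 1, 0, 1], [0, 1, 2, 1, 0, 1, 0, 2, 1, 0, 1, 0],
  [0, 1, 2, 1, 0, 1, 0, 2, 1, 0, 1, 2], [0, 2, 1, 0, 1, 0, 1, 0, 2, 1, 0, 1], [0, 2, 1, 0, 1, 0, 1, 2, 1, 0,
  1, 0], [0, 2, 1, 0, 1, 0, 1, 2, 1, 0, 1, 2], [0, 2, 1, 0, 1, 0, 2, 1, 0, 1, 0, 1], [0, 2, 1, 0, 1, 0, 2, 1,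
  0, 1, 0, 2], [1, 0, 1, 0, 1, 0, 2, 1, 0, 1, 0, 1], [1, 0, 1, 0, 1, 0, 2, 1, 0, 1, 0, 2], [1, 0, 1, 0, 1, 2,
  1, 0, 1, 0, 1, 0], [1, 0, 1, 0, 1, 2, 1, 0, 1, 0, 1, 2], [1, 0, 1, 0, 1, 2, 1, 0, 1, 0, 2, 1], [1, 0, 1, 0,
  2, 1, 0, 1, 0, 1, 0, 2], [1, 0, 1, 0, 2, 1, 0, 1, 0, 1, 2, 1], [1, 0, 1, 0, 2, 1, 0, 1, 0, 2, 1, 0], [1, 0,
  1, 2, 1, 0, 1, 0, 1, 0, 2, 1], [1, 0, 2, 1, 0, 1, 0, 1, 0, 2, 1, 0], [1, 0, 2, 1, 0, 1, 0, 1, 2, 1, 0, 1],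
  [1, 0, 2, 1, 0, 1, 0, 2, 1, 0, 1, 0], [1, 0, 2, 1, 0, 1, 0, 2, 1, 0, 1, 2], [1, 2, 1, 0, 1, 0, 1, 0, 2, 1,
  0, 1], [1, 2, 1, 0, 1, 0, 2, 1, 0, 1, 0, 1], [1, 2, 1, 0, 1, 0, 2, 1, 0, 1, 0, 2], [2, 1, 0, 1, 0, 1, 0, 2,
  1, 0, 1, 0], [2, 1, 0, 1, 0, 1, 0, 2, 1, 0, 1, 2], [2, 1, 0, 1, 0, 2, 1, 0, 1, 0, 1, 2], [2, 1, 0, 1, 0, 2,
  1, 0, 1, 0, 2, 1], [0, 1, 0, 1, 0, 1, 0, 2, 1, 0, 1, 0, 1], [0, 1, 0, 1, 0, 1, 0, 2, 1, 0, 1, 0, 2], [0, 1,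
  0, 1, 0, 1, 2, 1, 0, 1, 0, 1, 0], [0, 1, 0, 1, 0, 1, 2, 1, 0, 1, 0, 1, 2], [0, 1, 0, 1, 0, 1, 2, 1, 0, 1,
  0, 2, 1], [0, 1, 0, 1, 0, 2, 1, 0, 1, 0, 1, 0, 2], [0, 1, 0, 1, 0, 2, 1, 0, 1, 0, 1, 2, 1], [0, 1, 0, 1, 0,
  2, 1, 0, 1, 0, 2, 1, 0], [0, 1, 0, 1, 2, 1, 0, 1, 0, 1, 0, 2, 1], [0, 1, 0, 2, 1, 0, 1, 0, 1, 0, 2, 1, 0],
  [0, 1, 0, 2, 1, 0, 1, 0, 1, 2, 1, 0, 1], [0, 1, 0, 2, 1, 0, 1, 0, 2, 1, 0, 1, 0], [0, 1, 0, 2, 1, 0, 1, 0,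
  2, 1, 0, 1, 2], [0, 1, 2, 1, 0, 1, 0, 1, 0, 2, 1, 0, 1], [0, 1, 2, 1, 0, 1, 0, 2, 1, 0, 1, 0, 1], [0, 1, 2,
  1, 0, 1, 0, 2, 1, 0, 1, 0, 2], [0, 2, 1, 0, 1, 0, 1, 0, 2, 1, 0, 1, 0], [0, 2, 1, 0, 1, 0, 1, 0, 2, 1, 0,
  1, 2], [0, 2, 1, 0, 1, 0, 2, 1, 0, 1, 0, 1, 2], [0, 2, 1, 0, 1, 0, 2, 1, 0, 1, 0, 2, 1], [1, 0, 1, 0, 1, 0,
  2, 1, 0, 1, 0, 1, 0], [1, 0, 1, 0, 1, 0, 2, 1, 0, 1, 0, 1, 2], [1, 0, 1, 0, 1, 0, 2, 1, 0, 1, 0, 2, 1], [1,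
  0, 1, 0, 1, 2, 1, 0, 1, 0, 1, 0, 2], [1, 0, 1, 0, 2, 1, 0, 1, 0, 1, 0, 2, 1], [1, 0, 1, 0, 2, 1, 0, 1, 0,
  1, 2, 1, 0], [1, 0, 1, 0, 2, 1, 0, 1, 0, 2, 1, 0, 1], [1, 0, 1, 2, 1, 0, 1, 0, 1, 0, 2, 1, 0], [1, 0, 2, 1,
  0, 1, 0, 1, 0, 2, 1, 0, 1], [1, 0, 2, 1, 0, 1, 0, 1, 2, 1, 0, 1, 0], [1, 0, 2, 1, 0, 1, 0, 1, 2, 1, 0, 1,
  2], [1, 0, 2, 1, 0, 1, 0, 2, 1, 0, 1, 0, 1], [1, 0, 2, 1, 0, 1, 0, 2, 1, 0, 1, 0, 2], [1, 2, 1, 0, 1, 0, 1,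
  0, 2, 1, 0, 1, 0], [1, 2, 1, 0, 1, 0, 1, 0, 2, 1, 0, 1, 2], [1, 2, 1, 0, 1, 0, 2, 1, 0, 1, 0, 1, 2], [1, 2,
  1, 0, 1, 0, 2, 1, 0, 1, 0, 2, 1], [2, 1, 0, 1, 0, 1, 0, 2, 1, 0, 1, 0, 1], [2, 1, 0, 1, 0, 1, 0, 2, 1, 0,
  1, 0, 2], [2, 1, 0, 1, 0, 2, 1, 0, 1, 0, 1, 2, 1], [2, 1, 0, 1, 0, 2, 1, 0, 1, 0, 2, 1, 0], [0, 1, 0, 1, 0,
  1, 0, 2, 1, 0, 1, 0, 1, 0], [0, 1, 0, 1, 0, 1, 0, 2, 1, 0, 1, 0, 1, 2], [0, 1, 0, 1, 0, 1, 0, 2, 1, 0, 1,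
  0, 2, 1], [0, 1, 0, 1, 0, 1, 2, 1, 0, 1, 0, 1, 0, 2], [0, 1, 0, 1, 0, 2, 1, 0, 1, 0, 1, 0, 2, 1], [0, 1, 0,
  1, 0, 2, 1, 0, 1, 0, 1, 2, 1, 0], [0, 1, 0, 1, 0, 2, 1, 0, 1, 0, 2, 1, 0, 1], [0, 1, 0, 1, 2, 1, 0, 1, 0,
  1, 0, 2, 1, 0], [0, 1, 0, 2, 1, 0, 1, 0, 1, 0, 2, 1, 0, 1], [0, 1, 0, 2, 1, 0, 1, 0, 1, 2, 1, 0, 1, 0], [0,
  1, 0, 2, 1, 0, 1, 0, 1, 2, 1, 0, 1, 2], [0, 1, 0, 2, 1, 0, 1, 0, 2, 1, 0, 1, 0, 1], [0, 1, 0, 2, 1, 0, 1,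
  0, 2, 1, 0, 1, 0, 2], [0, 1, 2, 1, 0, 1, 0, 1, 0, 2, 1, 0, 1, 0], [0, 1, 2, 1, 0, 1, 0, 1, 0, 2, 1, 0, 1,
  2], [0, 1, 2, 1, 0, 1, 0, 2, 1, 0, 1, 0, 1, 2], [0, 1, 2, 1, 0, 1, 0, 2, 1, 0, 1, 0, 2, 1], [0, 2, 1, 0, 1,
  0, 1, 0, 2, 1, 0, 1, 0, 1], [0, 2, 1, 0, 1, 0, 1, 0, 2, 1, 0, 1, 0, 2], [0, 2, 1, 0, 1, 0, 2, 1, 0, 1, 0,
  1, 2, 1], [0, 2, 1, 0, 1, 0, 2, 1, 0, 1, 0, 2, 1, 0], [1, 0, 1, 0, 1, 0, 2, 1, 0, 1, 0, 1, 0, 2], [1, 0, 1,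
  0, 1, 2, 1, 0, 1, 0, 1, 0, 2, 1], [1, 0, 1, 0, 2, 1, 0, 1, 0, 1, 0, 2, 1, 0], [1, 0, 1, 0, 2, 1, 0, 1, 0,
  2, 1, 0, 1, 0], [1, 0, 2, 1, 0, 1, 0, 1, 0, 2, 1, 0, 1, 0], [1, 0, 2, 1, 0, 1, 0, 1, 0, 2, 1, 0, 1, 2], [1,
  0, 2, 1, 0, 1, 0, 2, 1, 0, 1, 0, 1, 2], [1, 0, 2, 1, 0, 1, 0, 2, 1, 0, 1, 0, 2, 1], [1, 2, 1, 0, 1, 0, 1,
  0, 2, 1, 0, 1, 0, 2], [1, 2, 1, 0, 1, 0, 2, 1, 0, 1, 0, 1, 2, 1], [2, 1, 0, 1, 0, 1, 0, 2, 1, 0, 1, 0, 1,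
  2], [2, 1, 0, 1, 0, 1, 0, 2, 1, 0, 1, 0, 2, 1], [2, 1, 0, 1, 0, 2, 1, 0, 1, 0, 1, 2, 1, 0], [0, 1, 0, 1, 0,
  1, 0, 2, 1, 0, 1, 0, 1, 0, 2], [0, 1, 0, 1, 0, 1, 2, 1, 0, 1, 0, 1, 0, 2, 1], [0, 1, 0, 1, 0, 2, 1, 0, 1,
  0, 1, 0, 2, 1, 0], [0, 1, 0, 1, 0, 2, 1, 0, 1, 0, 2, 1, 0, 1, 0], [0, 1, 0, 2, 1, 0, 1, 0, 1, 0, 2, 1, 0,
  1, 0], [0, 1, 0, 2, 1, 0, 1, 0, 1, 0, 2, 1, 0, 1, 2], [0, 1, 0, 2, 1, 0, 1, 0, 2, 1, 0, 1, 0, 1, 2], [0, 1,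
  0, 2, 1, 0, 1, 0, 2, 1, 0, 1, 0, 2, 1], [0, 1, 2, 1, 0, 1, 0, 1, 0, 2, 1, 0, 1, 0, 2], [0, 1, 2, 1, 0, 1,
  0, 2, 1, 0, 1, 0, 1, 2, 1], [0, 2, 1, 0, 1, 0, 1, 0, 2, 1, 0, 1, 0, 1, 2], [0, 2, 1, 0, 1, 0, 1, 0, 2, 1,
  0, 1, 0, 2, 1], [0, 2, 1, 0, 1, 0, 2, 1, 0, 1, 0, 1, 2, 1, 0], [1, 0, 1, 0, 1, 0, 2, 1, 0, 1, 0, 1, 0, 2,
  1], [1, 0, 1, 0, 2, 1, 0, 1, 0, 1, 0, 2, 1, 0, 1], [1, 0, 2, 1, 0, 1, 0, 2, 1, 0, 1, 0, 1, 2, 1], [1, 2, 1,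
  0, 1, 0, 1, 0, 2, 1, 0, 1, 0, 2, 1], [0, 1, 0, 1, 0, 1, 0, 2, 1, 0, 1, 0, 1, 0, 2, 1], [0, 1, 0, 1, 0, 2,
  1, 0, 1, 0, 1, 0, 2, 1, 0, 1], [0, 1, 0, 2, 1, 0, 1, 0, 2, 1, 0, 1, 0, 1, 2, 1], [0, 1, 2, 1, 0, 1, 0, 1,
  0, 2, 1, 0, 1, 0, 2, 1]]

/-- the 24 elements of `<a,b>` -/
def LB : List ℕ := [0x76543210, 0x54762301, 0x17523064, 0x5732146, 0x52170346, 0x61503472, 0x73051264,
  0x40712653, 0x45130627, 0x50614327, 0x67021435, 0x71406235, 0x13456072, 0x24160753, 0x25634701, 0x2674153,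
  0x36041572, 0x37426510, 0x16247035, 0x63257410, 0x4365127, 0x42375601, 0x31207564, 0x20315746]

/-- words -/
def WB : List (List ℕ) := [[], [0], [1], [0, 1], [1, 0], [1, 1], [0, 1, 0], [0, 1, 1], [1, 0, 1], [1, 1, 0],
  [0, 1, 0, 1], [0, 1, 1, 0], [1, 0, 1, 0], [1, 0, 1, 1], [1, 1, 0, 1], [0, 1, 0, 1, 0], [0, 1, 0, 1, 1], [0,
  1, 1, 0, 1], [1, 0, 1, 1, 0], [1, 1, 0, 1, 0], [0, 1, 0, 1, 1, 0], [0, 1, 1, 0, 1, 0], [1, 0, 1, 1, 0, 1],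
  [0, 1, 0, 1, 1, 0, 1]]

/-- the elements conjugating `ab` to `f` -/
def Xs : List ℕ := [0x35176204, 0x72045136, 0x6234517, 0x41362075, 0x14507623, 0x60751342, 0x27613450,
  0x53420761]

theorem evalL : WL.map (evl mc) = L := by decide +kernel
theorem nodupL : L.Nodup := by decide +kernel
theorem lenL : L.length = 336 := by decide +kernel
theorem evalB : WB.map (evl gab) = LB := by decide +kernel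
theorem nodupB : LB.Nodup := by decide +kernel
theorem lenB : LB.length = 24 := by decide +kernel
theorem subB : ∀ x ∈ LB, x ∈ L := by decide +kernel
theorem subX : ∀ x ∈ Xs, x ∈ L ∧ mulc x (mulc ca cb) = mulc cf x := by decide +kernel
theorem vals : mulc (mc 0) (mc 2) = ca ∧ evl mc [1, 0, 1, 0, 2, 1] = cb ∧ evl gab [0, 1, 1, 0, 1] = cv ∧
    evl mc [0, 1, 2] = cr ∧ mulc cr cr = cf := by decide +kernel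
theorem comm0 : mulc cv (mc 0) = mulc (mc 0) cv := by decide +kernel
theorem comm0a : mulc ca (mc 0) = mulc (mc 0) ca := by decide +kernel
theorem c0B : mc 0 ∉ LB := by decide +kernel

/-- the fixed points of `<a,v>` -/
theorem fixK : ∀ x ∈ L, (∃ s ∈ LB, mulc ca x = mulc x s) → (∃ s ∈ LB, mulc cv x = mulc x s) →
    x ∈ LB ∨ mulc (mc 0) x ∈ LB := by decide +kernel

/-- centralizer of `<a,v>` in `<a,b>` -/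
theorem centK : ∀ x ∈ LB, mulc x ca = mulc ca x → mulc x cv = mulc cv x → x = 0x76543210 := by decide +kernel

/-- `S4` is complete -/
theorem autB : ∀ a' ∈ LB, ∀ b' ∈ LB, mulc a' a' = 0x76543210 → a' ≠ 0x76543210 →
    mulc b' (mulc b' b') = 0x76543210 → b' ≠ 0x76543210 →
    mulc (mulc (mulc a' b') (mulc a' b')) (mulc (mulc a' b') (mulc a' b')) = 0x76543210 →
    mulc (mulc a' b') (mulc a' b') ≠ 0x76543210 →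
    ∃ s ∈ LB, mulc s ca = mulc a' s ∧ mulc s cb = mulc b' s := by decide +kernel

/-- orders of `a`, `b`, `ab` -/
theorem ordB : mulc ca ca = 0x76543210 ∧ ca ≠ 0x76543210 ∧ mulc cb (mulc cb cb) = 0x76543210 ∧ cb ≠ 0x76543210 ∧
    mulc (mulc (mulc ca cb) (mulc ca cb)) (mulc (mulc ca cb) (mulc ca cb)) = 0x76543210 ∧
    mulc (mulc ca cb) (mulc ca cb) ≠ 0x76543210 := by decide +kernel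

/-- order 7 test -/
def is7 (w : ℕ) : Bool :=
  Nat.beq (mulc (mulc (mulc w w) (mulc w w)) (mulc (mulc w w) w)) 0x76543210 && !(Nat.beq w 0x76543210)

/-- words of order 7 -/
def ws3 (f t : ℕ) : List ℕ := [mulc (mulc (mulc f f) t) (mulc f (mulc t t)), mulc (mulc f f) t]

/-- words of order 7 -/
def ws8 (r t : ℕ) : List ℕ := [mulc (mulc r r) t, mulc (mulc (mulc (mulc r r) r) t) (mulc r (mulc t t)),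
  mulc (mulc r r) (mulc t t), mulc (mulc (mulc (mulc r r) r) t) (mulc r t),
  mulc (mulc (mulc (mulc r r) r) (mulc t t)) (mulc r (mulc t t))]

theorem gen3 : ∀ t ∈ L, mulc t (mulc t t) = 0x76543210 → t = 0x76543210 ∨ (∃ w ∈ ws3 cf t, is7 w = true) ∨
    ∃ x ∈ Xs, mulc x cb = mulc t x ∨ mulc x (mulc cb cb) = mulc t x := by decide +kernel

theorem gen8 : ∀ t ∈ L, mulc t (mulc t t) = 0x76543210 → t = 0x76543210 ∨ ∃ w ∈ ws8 cr t, is7 w = true := by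
  decide +kernel

end Cfsg.Agent.Lib.GT27XA
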