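import Mathlib

set_option autoImplicit false

/-!
Explicit automorphisms of `QuaternionGroup 2`.
-/

namespace Cfsg.Agent.Lib.H55Q8Aut

open QuaternionGroup

abbrev Q8 := QuaternionGroup 2

/-- the endomorphism with given values at `a 1` and `xa 0` -/
def Psi (p q : Q8) : Q8 → Q8
  | .a n => p ^ n.val
  | .xa n => q * p ^ n.val

def H (p q : Q8) : Prop := p * p = a 2 ∧ q * q = a 2 ∧ q * p * q⁻¹ = p⁻¹

instance (p q : Q8) : Decidable (H p q) := by unfold H; infer_instance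

theorem apply_eq (ψ : MulAut Q8) (x : Q8) : ψ x = Psi (ψ (a 1)) (ψ (xa 0)) x := by
  rcases x with n | n
  · show ψ (a n) = (ψ (a 1)) ^ n.val
    rw [← map_pow, QuaternionGroup.a_one_pow, ZMod.natCast_zmod_val]
  · show ψ (xa n) = ψ (xa 0) * (ψ (a 1)) ^ n.val
    rw [← map_pow, ← map_mul, QuaternionGroup.a_one_pow, ZMod.natCast_zmod_val, QuaternionGroup.xa_mul_a,
      zero_add]

theorem map_a_two (ψ : MulAut Q8) : ψ (a 2) = a 2 := by
  have h1 : ∀ x : Q8, x * x = 1 → x ≠ 1 → x = a 2 := by decide +kernel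
  have h2 : (a 2 : Q8) * a 2 = 1 := by decide +kernel
  have h3 : (a 2 : Q8) ≠ 1 := by decide +kernel
  apply h1
  · rw [← map_mul, h2, map_one]
  · intro h; exact h3 ((map_eq_one_iff ψ ψ.injective).1 h)

theorem H_of (ψ : MulAut Q8) : H (ψ (a 1)) (ψ (xa 0)) := by
  have h1 : (a 1 : Q8) * a 1 = a 2 := by decide +kernel
  have h2 : (xa 0 : Q8) * xa 0 = a 2 := by decide +kernel
  have h3 : (xa 0 : Q8) * a 1 * (xa 0)⁻¹ = (a 1)⁻¹ := by decide +kernel
  refine ⟨?_, ?_, ?_⟩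
  · rw [← map_mul, h1, map_a_two]
  · rw [← map_mul, h2, map_a_two]
  · rw [← map_mul, ← map_inv, ← map_mul, h3, map_inv]

theorem D1 : ∀ p q : Q8, H p q → (∀ x, Psi p q (Psi p q (Psi p q x)) = x) → (∃ x, Psi p q x ≠ x) →
    ∀ p' q' : Q8, H p' q' → (∀ x, Psi p' q' (Psi p' q' x) = x) →
      (∀ x, Psi p q (Psi p' q' (Psi p q x)) = Psi p' q' x) →
      (∃ i : Q8, i * i ≠ 1 ∧ i * Psi p q i = Psi p q (Psi p q i) ∧ Psi p q i * Psi p q i = i * i ∧
        Psi p q i * i * (Psi p q i)⁻¹ = i⁻¹ ∧ Psi p' q' i = i⁻¹ ∧ Psi p' q' (Psi p q i) = (i * Psi p q i)⁻¹) ∧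
      (∀ o, o * Psi p' q' o ≠ a 2) := by
  decide +kernel

theorem D3 : ∀ p q : Q8, H p q → (∀ x, Psi p q (Psi p q (Psi p q x)) = x) → (∃ x, Psi p q x ≠ x) →
    ∀ p' q' : Q8, H p' q' → (∀ x, Psi p' q' (Psi p' q' x) = x) →
      (∀ x, Psi p' q' (Psi p q x) = Psi p q (Psi p' q' x)) → ∀ x, Psi p' q' x = x := by
  decide +kernel

theorem D4 : ∀ p q : Q8, H p q → (∀ x, Psi p q (Psi p q (Psi p q x)) = x) → (∃ x, Psi p q x ≠ x) →
    ∀ x, Psi p q x ≠ x ∨ x * x = 1 := by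
  decide +kernel

/-- an automorphism `υ` of order at most 2 inverting the automorphism `ψ` of order 3 -/
theorem inverting (ψ υ : MulAut Q8) (h3 : ψ * ψ * ψ = 1) (h1 : ψ ≠ 1) (hu : υ * υ = 1)
    (hinv : ψ * υ * ψ = υ) :
    (∃ i : Q8, i * i ≠ 1 ∧ i * ψ i = ψ (ψ i) ∧ ψ i * ψ i = i * i ∧ ψ i * i * (ψ i)⁻¹ = i⁻¹ ∧
      υ i = i⁻¹ ∧ υ (ψ i) = (i * ψ i)⁻¹) ∧ (∀ o, o * υ o ≠ a 2) := by
  have e := apply_eq ψ
  have e' := apply_eq υ
  have := D1 _ _ (H_of ψ) (by
    intro x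
    rw [← e, ← e, ← e]
    have := congrArg (fun f : MulAut Q8 => f x) h3
    simpa using this) (by
    by_contra hcon
    push Not at hcon
    apply h1
    ext x
    rw [e, hcon]; rfl) _ _ (H_of υ) (by
    intro x
    rw [← e', ← e']
    have := congrArg (fun f : MulAut Q8 => f x) hu
    simpa using this) (by
    intro x
    rw [← e, ← e', ← e, ← e']
    have := congrArg (fun f : MulAut Q8 => f x) hinv
    simpa using this)
  simp only [← e, ← e'] at this
  exact this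

theorem commuting (ψ υ : MulAut Q8) (h3 : ψ * ψ * ψ = 1) (h1 : ψ ≠ 1) (hu : υ * υ = 1)
    (hcomm : υ * ψ = ψ * υ) : υ = 1 := by
  have e := apply_eq ψ
  have e' := apply_eq υ
  have := D3 _ _ (H_of ψ) (by
    intro x
    rw [← e, ← e, ← e]
    have := congrArg (fun f : MulAut Q8 => f x) h3
    simpa using this) (by
    by_contra hcon
    push Not at hcon
    apply h1
    ext x
    rw [e, hcon]; rfl) _ _ (H_of υ) (by
    intro x
    rw [← e', ← e']
    have := congrArg (fun f : MulAut Q8 => f x) hu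
    simpa using this) (by
    intro x
    rw [← e, ← e', ← e', ← e]
    have := congrArg (fun f : MulAut Q8 => f x) hcomm
    simpa using this)
  ext x
  rw [e', this]; rfl

theorem fixed (ψ : MulAut Q8) (h3 : ψ * ψ * ψ = 1) (h1 : ψ ≠ 1) (x : Q8) (hx : ψ x = x) :
    x = 1 ∨ x = a 2 := by
  have e := apply_eq ψ
  have h4 : ∀ x : Q8, x * x = 1 → x = 1 ∨ x = a 2 := by decide +kernel
  apply h4
  refine (D4 _ _ (H_of ψ) ?_ ?_ x).resolve_left ?_
  rotate_left 2
  · rw [← e, not_not]; exact hx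
  · exact (by
    intro x
    rw [← e, ← e, ← e]
    have := congrArg (fun f : MulAut Q8 => f x) h3
    simpa using this)
  · exact (by
    by_contra hcon
    push Not at hcon
    apply h1
    ext x
    rw [e, hcon]; rfl)

end Cfsg.Agent.Lib.H55Q8Aut
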