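import Cfsg.Prelude.Def_Transfer
import Cfsg.Agent.S2904
import Cfsg.Agent.Lib.FrobAction
import Cfsg.Agent.Lib.AutTwoGroup
import Cfsg.Agent.Lib.H55Q8Aut
import Cfsg.Agent.Lib.H55Quat
import Cfsg.Agent.Lib.Cores
import Cfsg.Agent.Lib.Cores2
import Cfsg.Agent.Lib.PNilp

/-!
# Solvable groups acting transitively on the nonidentity elements of a `p`-group with `p`-group
stabilizers
-/

set_option autoImplicit false
set_option linter.all false

namespace Cfsg.Agent.Lib.GagSolv

open Cfsg Subgroup Cfsg.Agent.Lib.FrobAction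

universe u v

variable {H : Type u} [Group H] [Finite H] {V : Type v} [CommGroup V] [Finite V] [Nontrivial V]

/-- If the only `u`-invariant subgroups of `V` are trivial then the centralizer of `u` acts
commutatively. -/
theorem comm_of_irreducible (act : H →* MulAut V) {u : H}
    (hirr : ∀ W : Subgroup V, (∀ w ∈ W, act u w ∈ W) → W = ⊥ ∨ W = ⊤) {a b : H}
    (ha : Commute a u) (hb : Commute b u) (v : V) : act a (act b v) = act b (act a v) := by
  by_cases hv : v = 1
  · subst hv; simp
  -- the double commutant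
  let R : Set (V →* V) := {f | ∀ g : V →* V, (∀ w, g (act u w) = act u (g w)) → ∀ w, f (g w) = g (f w)}
  have hRu : ∀ f ∈ R, ∀ w, f (act u w) = act u (f w) := fun f hf w =>
    hf (act u : V →* V) (fun w => rfl) w
  let W : Subgroup V :=
    { carrier := {w | ∃ f ∈ R, f v = w}
      mul_mem' := by
        rintro _ _ ⟨f, hf, rfl⟩ ⟨f', hf', rfl⟩
        refine ⟨f * f', ?_, rfl⟩
        intro g hg w
        rw [MonoidHom.mul_apply, MonoidHom.mul_apply, hf g hg, hf' g hg, map_mul]
      one_mem' := ⟨1, fun g hg w => by simp, rfl⟩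
      inv_mem' := by
        rintro _ ⟨f, hf, rfl⟩
        refine ⟨f⁻¹, ?_, rfl⟩
        intro g hg w
        rw [MonoidHom.inv_apply, MonoidHom.inv_apply, hf g hg, map_inv] }
  have hW : W = ⊤ := by
    rcases hirr W (by
      rintro _ ⟨f, hf, rfl⟩
      refine ⟨(act u : V →* V).comp f, ?_, rfl⟩
      intro g hg w
      show act u (f (g w)) = g (act u (f w))
      rw [hf g hg, hg]) with h | h
    · exfalso
      apply hv
      have : v ∈ W := ⟨MonoidHom.id V, fun g _ w => rfl, rfl⟩
      rw [h, mem_bot] at this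
      exact this
    · exact h
  have hmem : ∀ w : V, ∃ f ∈ R, f v = w := fun w => by
    have : w ∈ W := by rw [hW]; trivial
    exact this
  have hcomm : ∀ {c : H}, Commute c u → ∀ w, (act c : V →* V) (act u w) = act u ((act c : V →* V) w) := by
    intro c hc w
    show act c (act u w) = act u (act c w)
    rw [← MulAut.mul_apply, ← map_mul, hc.eq, map_mul]; rfl
  obtain ⟨f, hf, hfv⟩ := hmem (act a v)
  obtain ⟨f', hf', hfv'⟩ := hmem (act b v)
  have h1 : act b (act a v) = f (f' v) := by
    rw [← hfv]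
    have := hf (act b : V →* V) (hcomm hb) v
    rw [hfv']
    exact this.symm
  have h2 : act a (act b v) = f' (f v) := by
    rw [← hfv']
    have := hf' (act a : V →* V) (hcomm ha) v
    rw [hfv]
    exact this.symm
  rw [h1, h2]
  exact (hf f' (hRu f' hf') v).symm

/-- fixed points of a `r`-element acting -/
theorem card_modEq_one {r : ℕ} [hr : Fact r.Prime] (act : H →* MulAut V) {u : H} {k : ℕ}
    (hu : orderOf u = r ^ k) (hfix : ∀ v : V, act u v = v → v = 1) (W : Subgroup V)
    (hW : ∀ w ∈ W, act u w ∈ W) : Nat.card W ≡ 1 [MOD r] := by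
  classical
  have hWz : ∀ z ∈ zpowers u, ∀ w ∈ W, act z w ∈ W := by
    intro z hz w hw
    obtain ⟨n, rfl⟩ := mem_powers_iff_mem_zpowers.2 hz
    show act (u ^ n) w ∈ W
    clear hz
    induction n with
    | zero => simpa using hw
    | succ n ih =>
      rw [pow_succ', map_mul]
      exact hW _ ih
  letI : MulAction (zpowers u) W :=
    { smul := fun z w => ⟨act z w, hWz z z.2 w w.2⟩
      one_smul := fun w => Subtype.ext (by show act (1 : H) (w : V) = w; simp)
      mul_smul := fun z z' w => Subtype.ext (by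
        show act ((z : H) * z') (w : V) = act z (act z' w)
        rw [map_mul]; rfl) }
  have hp : IsPGroup r (zpowers u) := IsPGroup.of_card (by rw [Nat.card_zpowers, hu])
  have h1 := hp.card_modEq_card_fixedPoints W
  have h2 : Nat.card (MulAction.fixedPoints (zpowers u) W) = 1 := by
    rw [Nat.card_eq_one_iff_unique]
    constructor
    · constructor
      rintro ⟨a, ha⟩ ⟨b, hb⟩
      have h3 : ∀ c : W, c ∈ MulAction.fixedPoints (zpowers u) W → c = 1 := by
        intro c hc
        apply Subtype.ext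
        apply hfix
        exact congrArg Subtype.val (hc ⟨u, mem_zpowers u⟩)
      apply Subtype.ext
      show a = b
      rw [h3 a ha, h3 b hb]
    · exact ⟨⟨1, fun z => Subtype.ext (by show act (z : H) (1 : V) = 1; simp)⟩⟩
  rw [h2] at h1
  exact h1

/-- an automorphism of `Q_8` of `r`-power order, `r ≥ 5`, is trivial -/
theorem aut_Q8 {r : ℕ} [hr : Fact r.Prime] (h5 : 5 ≤ r) (ψ : MulAut (QuaternionGroup 2)) {k : ℕ}
    (hk : ψ ^ r ^ k = 1) : ψ = 1 := by
  classical
  have hp : IsPGroup r (zpowers ψ) := by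
    have h1 : orderOf ψ ∣ r ^ k := orderOf_dvd_of_pow_eq_one hk
    obtain ⟨j, -, hj⟩ := (Nat.dvd_prime_pow hr.out).1 h1
    exact IsPGroup.of_card (by rw [Nat.card_zpowers, hj])
  haveI : Finite (QuaternionGroup 2) := inferInstance
  have h1 := hp.card_modEq_card_fixedPoints (QuaternionGroup 2)
  -- the fixed points form a subgroup
  let K : Subgroup (QuaternionGroup 2) :=
    { carrier := MulAction.fixedPoints (zpowers ψ) (QuaternionGroup 2)
      mul_mem' := by
        intro a b ha hb z
        show (z : MulAut (QuaternionGroup 2)) (a * b) = a * b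
        rw [map_mul]
        have h2 : (z : MulAut (QuaternionGroup 2)) a = a := ha z
        have h3 : (z : MulAut (QuaternionGroup 2)) b = b := hb z
        rw [h2, h3]
      one_mem' := fun z => by show (z : MulAut (QuaternionGroup 2)) 1 = 1; simp
      inv_mem' := by
        intro a ha z
        show (z : MulAut (QuaternionGroup 2)) a⁻¹ = a⁻¹
        rw [map_inv]
        have h2 : (z : MulAut (QuaternionGroup 2)) a = a := ha z
        rw [h2] }
  have hK : Nat.card K = Nat.card (MulAction.fixedPoints (zpowers ψ) (QuaternionGroup 2)) := rfl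
  have h8 : Nat.card (QuaternionGroup 2) = 8 := by
    rw [Nat.card_eq_fintype_card, QuaternionGroup.card]
  rw [← hK, h8] at h1
  have hdvd : Nat.card K ∣ 8 := by rw [← h8]; exact Subgroup.card_subgroup_dvd_card K
  have ha2 : (QuaternionGroup.a 2 : QuaternionGroup 2) ∈ K := fun z => H55Q8Aut.map_a_two _
  have hK1 : Nat.card K ≠ 1 := by
    intro h2
    rw [Subgroup.card_eq_one] at h2
    rw [h2, mem_bot] at ha2
    have : (QuaternionGroup.a 2 : QuaternionGroup 2) ≠ 1 := by decide +kernel
    exact this ha2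
  have hle := Nat.le_of_dvd (by norm_num) hdvd
  have h3 : r ∣ 8 - Nat.card K := (Nat.modEq_iff_dvd' hle).1 h1.symm
  have hK8 : Nat.card K = 8 := by
    by_contra hne
    have h4 := Nat.le_of_dvd (by omega) h3
    have h5' : Nat.card K ∈ Nat.divisors 8 := Nat.mem_divisors.2 ⟨hdvd, by norm_num⟩
    have h6 : Nat.divisors 8 = {1, 2, 4, 8} := by decide +kernel
    rw [h6] at h5'
    simp only [Finset.mem_insert, Finset.mem_singleton] at h5'
    rcases h5' with h7 | h7 | h7 | h7
    · exact hK1 h7
    · rw [h7] at h3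
      have : r ∣ 6 := h3
      have h9 := Nat.le_of_dvd (by norm_num) this
      interval_cases r
      · omega
      · exact absurd hr.out (by norm_num)
    · rw [h7] at h3 h4
      omega
    · exact hne h7
  have htop : K = ⊤ := Subgroup.eq_top_of_card_eq K (by rw [hK8, h8])
  ext x
  have : x ∈ K := by rw [htop]; trivial
  exact this ⟨ψ, mem_zpowers ψ⟩

/-- the centralizer of `O_q(H)` -/
def DD (H : Type u) [Group H] (q : ℕ) : Subgroup H := (MulAut.conjNormal (H := pCore q H)).ker

theorem DD_normal (q : ℕ) : (DD H q).Normal := by unfold DD; infer_instance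

theorem mem_DD {q : ℕ} {g : H} : g ∈ DD H q ↔ ∀ x ∈ pCore q H, g * x * g⁻¹ = x := by
  unfold DD
  rw [MonoidHom.mem_ker]
  constructor
  · intro h x hx
    have := congrArg (fun f : MulAut (pCore q H) => ((f ⟨x, hx⟩ : pCore q H) : H)) h
    simpa using this
  · intro h
    ext ⟨x, hx⟩
    simpa using h x hx

/-- `H / DD q` has a normal `p`-complement and abelian `p`-quotient -/
def GoodQ (p : ℕ) (H : Type u) [Group H] (q : ℕ) : Prop :=
  ∃ K : Subgroup H, K.Normal ∧ (∀ g ∈ K, (∃ k, orderOf g = p ^ k) → g ∈ DD H q) ∧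
    (∀ a b : H, a * b * a⁻¹ * b⁻¹ ∈ K) ∧ ∃ k, K.index = p ^ k

variable {p : ℕ} [hp : Fact p.Prime]

theorem good_of_forall {q : ℕ} (h : ∀ g : H, (∃ k, orderOf g = p ^ k) → g ∈ DD H q) : GoodQ p H q :=
  ⟨⊤, inferInstance, fun g _ hg => h g hg, fun _ _ => trivial, 0, by simp⟩

theorem good_of_comm {q : ℕ} (h : ∀ a b : H, a * b * a⁻¹ * b⁻¹ ∈ DD H q) : GoodQ p H q := by
  classical
  haveI := DD_normal (H := H) q
  letI : CommGroup (H ⧸ DD H q) :=
    { (inferInstance : Group (H ⧸ DD H q)) with
      mul_comm := by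
        intro a b
        obtain ⟨a, rfl⟩ := QuotientGroup.mk_surjective a
        obtain ⟨b, rfl⟩ := QuotientGroup.mk_surjective b
        rw [← QuotientGroup.mk_mul, ← QuotientGroup.mk_mul, QuotientGroup.eq]
        have h1 := h b⁻¹ a⁻¹
        have e : (a * b)⁻¹ * (b * a) = b⁻¹ * a⁻¹ * b⁻¹⁻¹ * a⁻¹⁻¹ := by group
        rw [e]; exact h1 }
  set n := Nat.card (H ⧸ DD H q) with hn
  have hn0 : n ≠ 0 := Nat.card_pos.ne'
  set m := n / p ^ n.factorization p with hm
  have hpm : ¬ p ∣ m := Nat.not_dvd_ordCompl hp.out hn0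
  have hnm : p ^ n.factorization p * m = n := Nat.ordProj_mul_ordCompl_eq_self n p
  let f : H →* H ⧸ DD H q := (powMonoidHom m).comp (QuotientGroup.mk' (DD H q))
  refine ⟨f.ker, inferInstance, ?_, ?_, ?_⟩
  · rintro g hg ⟨k, hk⟩
    rw [MonoidHom.mem_ker] at hg
    have h1 : g ^ m ∈ DD H q := by
      rw [← QuotientGroup.eq_one_iff]
      exact hg
    have hcop : Nat.Coprime (orderOf g) m := by
      rw [hk]
      exact Nat.Coprime.pow_left _ ((hp.out.coprime_iff_not_dvd).2 hpm)
    obtain ⟨r, hr⟩ := exists_pow_eq_self_of_coprime hcop.symm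
    rw [← hr]
    exact Subgroup.pow_mem _ h1 r
  · intro a b
    rw [MonoidHom.mem_ker]
    simp only [map_mul, map_inv]
    rw [mul_comm (f a) (f b)]
    group
  · have hr : IsPGroup p f.range := by
      rintro ⟨_, x, rfl⟩
      refine ⟨n.factorization p, ?_⟩
      apply Subtype.ext
      show ((QuotientGroup.mk' (DD H q) x) ^ m) ^ p ^ n.factorization p = 1
      rw [← pow_mul, mul_comm, hnm]
      exact pow_card_eq_one'
    rw [Subgroup.index_ker]
    exact IsPGroup.iff_card.1 hr

theorem final (hs : Group.IsSolvable H) (hcore : pCore p H = ⊥) (h : ∀ q : ℕ, q.Prime → GoodQ p H q) :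
    HasNormalPComplement p H ∧ ∀ P : Sylow p H, IsMulCommutative (P : Subgroup H) := by
  classical
  choose K hKn hK1 hK2 hK3 using fun q : Nat.Primes => h q q.2
  set N : Subgroup H := ⨅ q, K q with hN
  have hNn : N.Normal := Subgroup.normal_iInf_normal hKn
  have hmemN : ∀ g, g ∈ N ↔ ∀ q, g ∈ K q := fun g => Subgroup.mem_iInf
  have hpN : ¬ p ∣ Nat.card N := by
    intro hd
    obtain ⟨g, hg⟩ := exists_prime_orderOf_dvd_card' p hd
    rw [← Subgroup.orderOf_coe] at hg
    have h1 : ∀ q : Nat.Primes, (g : H) ∈ DD H q := fun q =>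
      hK1 q _ ((hmemN _).1 g.2 q) ⟨1, by rw [hg, pow_one]⟩
    have h2 : (g : H) ∈ centralizer (fittingSubgroup H : Set H) := by
      have h3 : fittingSubgroup H ≤ centralizer ({(g : H)} : Set H) := by
        rw [Cores.fittingSubgroup_eq_iSup]
        apply iSup_le
        intro q x hx
        rw [mem_centralizer_singleton_iff]
        have := (mem_DD.1 (h1 q)) x hx
        exact (mul_inv_eq_iff_eq_mul.1 this).symm
      rw [mem_centralizer_iff]
      intro x hx
      have := h3 hx
      rw [mem_centralizer_singleton_iff] at this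
      exact this
    have h3 := Cores.centralizer_fittingSubgroup_le h2
    -- so `g ∈ Z(F)`, the normal closure is a `p`-group
    have h4 : (⟨(g : H), h3⟩ : fittingSubgroup H) ∈ pCore p (fittingSubgroup H) := by
      haveI : Group.IsNilpotent (fittingSubgroup H) := Cores.isNilpotent_fittingSubgroup H
      have hc : zpowers (⟨(g : H), h3⟩ : fittingSubgroup H) ≤ Subgroup.center (fittingSubgroup H) := by
        rw [zpowers_le, Subgroup.mem_center_iff]
        intro y
        apply Subtype.ext
        exact (mem_centralizer_iff.1 h2 y y.2)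
      have hn : (zpowers (⟨(g : H), h3⟩ : fittingSubgroup H)).Normal := ⟨fun z hz y => by
        have h5 := Subgroup.mem_center_iff.1 (hc hz) y
        rw [h5]
        simpa using hz⟩
      apply Cores.le_pCore hn _ (mem_zpowers _)
      apply IsPGroup.of_card (n := 1)
      rw [Nat.card_zpowers, Subgroup.orderOf_mk, hg, pow_one]
    have h5 := Cores.map_pCore_subtype_le p (fittingSubgroup H)
    have h6 : (g : H) ∈ pCore p H := h5 ⟨_, h4, rfl⟩
    rw [hcore, mem_bot] at h6
    rw [h6, orderOf_one] at hg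
    exact hp.out.one_lt.ne hg
  have hidx : ∃ k, N.index = p ^ k := by
    have h1 : IsPGroup p (H ⧸ N) := by
      intro x
      obtain ⟨g, rfl⟩ := QuotientGroup.mk_surjective x
      refine ⟨Nat.card H, ?_⟩
      rw [← QuotientGroup.mk_pow, QuotientGroup.eq_one_iff, hmemN]
      intro q
      obtain ⟨k, hk⟩ := hK3 q
      have := hKn q
      have h2 : g ^ (K q).index ∈ K q := Subgroup.pow_index_mem _ _
      have h3 : k ≤ Nat.card H := by
        have h4 : p ^ k ≤ Nat.card H := by
          rw [← hk]; exact Nat.le_of_dvd Nat.card_pos (Subgroup.index_dvd_card _)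
        exact (Nat.lt_pow_self hp.out.one_lt).le.trans h4
      obtain ⟨r, hr⟩ := Nat.exists_eq_add_of_le h3
      rw [hr, pow_add, pow_mul, ← hk]
      exact Subgroup.pow_mem _ h2 _
    obtain ⟨k, hk⟩ := IsPGroup.iff_card.1 h1
    exact ⟨k, by rw [Subgroup.index_eq_card, hk]⟩
  refine ⟨PNilp.hasNormalPComplement_iff.2 ⟨N, hNn, hpN, hidx⟩, ?_⟩
  intro P
  refine ⟨⟨fun a b => ?_⟩⟩
  have h1 : (a : H) * b * (a : H)⁻¹ * (b : H)⁻¹ ∈ N := (hmemN _).2 fun q => hK2 q a b
  have h2 : (a : H) * b * (a : H)⁻¹ * (b : H)⁻¹ ∈ (P : Subgroup H) :=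
    mul_mem (mul_mem (mul_mem a.2 b.2) (inv_mem a.2)) (inv_mem b.2)
  have h3 : (a : H) * b * (a : H)⁻¹ * (b : H)⁻¹ = 1 := by
    obtain ⟨k, hk⟩ := (IsPGroup.iff_orderOf.1 P.isPGroup') ⟨_, h2⟩
    rw [Subgroup.orderOf_mk] at hk
    have h4 : orderOf ((a : H) * b * (a : H)⁻¹ * (b : H)⁻¹) ∣ Nat.card N := by
      have := orderOf_dvd_natCard (⟨_, h1⟩ : N)
      rwa [Subgroup.orderOf_mk] at this
    rw [hk] at h4
    rcases Nat.eq_zero_or_pos k with rfl | hk0
    · rw [pow_zero, orderOf_eq_one_iff] at hk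
      exact hk
    · exact absurd ((dvd_pow_self p hk0.ne').trans h4) hpN
  apply Subtype.ext
  show (a : H) * b = b * a
  rw [mul_inv_eq_one, mul_inv_eq_iff_eq_mul] at h3
  exact h3


/-- the setup -/
structure Setup (p : ℕ) (act : H →* MulAut V) : Prop where
  st : ∀ (h : H) (v : V), v ≠ 1 → act h v = v → ∃ k, orderOf h = p ^ k
  core : pCore p H = ⊥
  card : ∃ a n, Nat.card V = p ^ n ∧ Nat.card H = (p ^ n - 1) * p ^ a

theorem eq_one_of_orders {p q : ℕ} (hp : p.Prime) (hq : q.Prime) (hpq : q ≠ p) {g : H} {j k : ℕ}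
    (hj : orderOf g = p ^ j) (hk : orderOf g = q ^ k) : g = 1 := by
  rcases Nat.eq_zero_or_pos k with rfl | hk0
  · rw [pow_zero, orderOf_eq_one_iff] at hk
    exact hk
  · exfalso
    have h1 : q ∣ p ^ j := by rw [← hj, hk]; exact dvd_pow_self q hk0.ne'
    exact hpq ((Nat.prime_dvd_prime_iff_eq hq hp).1 (hq.dvd_of_dvd_pow h1))

theorem Setup.fpf {act : H →* MulAut V} (hS : Setup p act) {q : ℕ} (hq : q.Prime) (hqp : q ≠ p) :
    IsFPF (act.comp (pCore q H).subtype) := by
  intro a ha v hv
  by_contra hv1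
  obtain ⟨j, hj⟩ := hS.st (a : H) v hv1 hv
  haveI : Fact q.Prime := ⟨hq⟩
  obtain ⟨k, hk⟩ := (IsPGroup.iff_orderOf.1 (Cores.isPGroup_pCore q H)) a
  rw [← Subgroup.orderOf_coe] at hk
  exact ha (Subtype.ext (eq_one_of_orders hp.out hq hqp hj hk))

/-- the action on `O_2(H) ≅ Q_8` -/
def ff (e : pCore 2 H ≃* QuaternionGroup 2) : H →* MulAut (QuaternionGroup 2) :=
  (MulAut.congr e).toMonoidHom.comp (MulAut.conjNormal (H := pCore 2 H))

theorem ff_ker (e : pCore 2 H ≃* QuaternionGroup 2) : (ff e).ker = DD H 2 := by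
  ext g
  rw [MonoidHom.mem_ker, DD, MonoidHom.mem_ker, ff, MonoidHom.comp_apply]
  exact map_eq_one_iff (MulAut.congr e).toMonoidHom (MulAut.congr e).injective

theorem mem_DD_of_Q8 (e : pCore 2 H ≃* QuaternionGroup 2) {r : ℕ} (hr : r.Prime) (h5 : 5 ≤ r) {g : H}
    (hg : ∃ k, orderOf g = r ^ k) : g ∈ DD H 2 := by
  obtain ⟨k, hk⟩ := hg
  haveI : Fact r.Prime := ⟨hr⟩
  rw [← ff_ker e, MonoidHom.mem_ker]
  apply aut_Q8 h5 (k := k)
  rw [← map_pow, ← hk, pow_orderOf_eq_one, map_one]

theorem Setup.no_even {act : H →* MulAut V} (hS : Setup 3 act)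
    (e : pCore 2 H ≃* QuaternionGroup 2) (h16 : 16 ∣ Nat.card H) : False := by
  classical
  obtain ⟨a, n, hV, hH⟩ := hS.card
  haveI : Fact (Nat.Prime 3) := ⟨Nat.prime_three⟩
  have hn0 : n ≠ 0 := by
    rintro rfl
    rw [pow_zero] at hV
    have := Finite.one_lt_card (α := V)
    omega
  have h1 : 16 ∣ 3 ^ n - 1 := by
    rw [hH] at h16
    exact Nat.Coprime.dvd_of_dvd_mul_right (Nat.Coprime.pow_right _ (by norm_num)) h16
  have hpos : 1 ≤ 3 ^ n := Nat.one_le_pow _ _ (by norm_num)
  have hn4 : 4 ∣ n := by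
    have h2 : 3 ^ n ≡ 1 [MOD 16] := ((Nat.modEq_iff_dvd' hpos).2 h1).symm
    have h3 : n = 4 * (n / 4) + n % 4 := (Nat.div_add_mod n 4).symm
    have h4 : 3 ^ n ≡ 3 ^ (n % 4) [MOD 16] := by
      conv_lhs => rw [h3, pow_add, pow_mul]
      have h5 : (3 ^ 4) ^ (n / 4) ≡ 1 [MOD 16] := by
        have : 3 ^ 4 ≡ 1 [MOD 16] := by decide
        simpa using this.pow (n / 4)
      simpa using h5.mul_right (3 ^ (n % 4))
    have h5 : 3 ^ (n % 4) ≡ 1 [MOD 16] := h4.symm.trans h2
    have h6 : n % 4 < 4 := Nat.mod_lt _ (by norm_num)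
    apply Nat.dvd_of_mod_eq_zero
    interval_cases h7 : n % 4
    · rfl
    · exact absurd h5 (by decide)
    · exact absurd h5 (by decide)
    · exact absurd h5 (by decide)
  have hn4' : 4 ≤ n := Nat.le_of_dvd (Nat.pos_of_ne_zero hn0) hn4
  obtain ⟨r, hr, hrd, hrm⟩ := Cfsg.Agent.S2904.result 3 n (by norm_num) (by omega) (by omega) (by omega)
  haveI : Fact r.Prime := ⟨hr⟩
  have hr2 : r ≠ 2 := by
    rintro rfl
    exact hrm 1 one_pos (by omega) (by norm_num)
  have hr3 : r ≠ 3 := by
    rintro rfl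
    have h2 : 3 ∣ 3 ^ n := dvd_pow_self 3 hn0
    have h3 : 3 ∣ 3 ^ n - (3 ^ n - 1) := Nat.dvd_sub h2 hrd
    have h4 : 3 ^ n - (3 ^ n - 1) = 1 := by omega
    rw [h4] at h3
    omega
  have hr5 : 5 ≤ r := by
    have := hr.two_le
    by_contra hlt
    push Not at hlt
    interval_cases r
    · exact hr2 rfl
    · exact hr3 rfl
    · exact absurd hr (by norm_num)
  obtain ⟨u, hu⟩ := exists_prime_orderOf_dvd_card' r (show r ∣ Nat.card H by rw [hH]; exact hrd.mul_right _)
  have hufix : ∀ v : V, act u v = v → v = 1 := by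
    intro v hv
    by_contra hv1
    obtain ⟨j, hj⟩ := hS.st u v hv1 hv
    have h2 := eq_one_of_orders Nat.prime_three hr hr3 hj (k := 1) (by rw [hu, pow_one])
    rw [h2, orderOf_one] at hu
    exact hr.one_lt.ne hu
  have hirr : ∀ W : Subgroup V, (∀ w ∈ W, act u w ∈ W) → W = ⊥ ∨ W = ⊤ := by
    intro W hW
    have h2 := card_modEq_one act (r := r) (k := 1) (by rw [hu, pow_one]) hufix W hW
    obtain ⟨j, hj, hWj⟩ := (Nat.dvd_prime_pow Nat.prime_three).1 (by
      rw [← hV]; exact Subgroup.card_subgroup_dvd_card W : Nat.card W ∣ 3 ^ n)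
    rcases Nat.eq_zero_or_pos j with rfl | hj0
    · left
      rw [← Subgroup.card_eq_one, hWj, pow_zero]
    · right
      rcases eq_or_lt_of_le hj with rfl | hlt
      · exact Subgroup.eq_top_of_card_eq W (by rw [hWj, hV])
      · exfalso
        apply hrm j hj0 hlt
        rw [hWj] at h2
        exact (Nat.modEq_iff_dvd' (Nat.one_le_pow _ _ (by norm_num))).1 h2.symm
  have huD := mem_DD_of_Q8 e hr hr5 ⟨1, by rw [hu, pow_one]⟩
  have hcu : ∀ x ∈ pCore 2 H, Commute x u := by
    intro x hx
    have := (mem_DD.1 huD) x hx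
    exact (mul_inv_eq_iff_eq_mul.1 this).symm
  have hfpf := hS.fpf Nat.prime_two (by norm_num)
  have hcomm : ∀ x y : pCore 2 H, x * y = y * x := by
    intro x y
    obtain ⟨v, hv⟩ := exists_ne (1 : V)
    by_contra hne
    apply hv
    have h2 := comm_of_irreducible act hirr (hcu x x.2) (hcu y y.2) v
    apply hfpf ((y * x)⁻¹ * (x * y)) (fun h3 => hne (inv_mul_eq_one.1 h3).symm) v
    show act (((y : H) * x)⁻¹ * (x * y)) v = v
    rw [map_mul, map_inv, MulAut.mul_apply]
    have h3 : act ((x : H) * y) v = act ((y : H) * x) v := by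
      rw [map_mul, map_mul]
      exact h2
    rw [h3]
    exact (act ((y : H) * x)).symm_apply_apply v
  have h2 : e.symm (QuaternionGroup.a 1) * e.symm (QuaternionGroup.xa 0) =
      e.symm (QuaternionGroup.xa 0) * e.symm (QuaternionGroup.a 1) := hcomm _ _
  rw [← map_mul, ← map_mul, e.symm.injective.eq_iff] at h2
  exact absurd h2 (by decide +kernel)

theorem Setup.good_Q8 {act : H →* MulAut V} (hS : Setup 3 act)
    (e : pCore 2 H ≃* QuaternionGroup 2) : GoodQ 3 H 2 := by
  classical
  haveI : Fact (Nat.Prime 3) := ⟨Nat.prime_three⟩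
  haveI : Fact (Nat.Prime 5) := ⟨Nat.prime_five⟩
  haveI := DD_normal (H := H) 2
  set D := DD H 2 with hD
  set R := pCore 2 H with hR
  haveI hRn : R.Normal := by rw [hR]; infer_instance
  set K := R ⊔ D with hK
  have hRcard : Nat.card R = 8 := by
    rw [Nat.card_congr e.toEquiv, Nat.card_eq_fintype_card, QuaternionGroup.card]
  have hDidx : D.index ≤ 24 := by
    rw [hD, ← ff_ker e, Subgroup.index_ker]
    exact (Nat.card_le_card_of_injective _ (Subgroup.subtype_injective _)).trans
      H55Quat.card_mulAut_quaternion_two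
  have hrel : D.relIndex K = D.relIndex R := by
    rw [hK]; exact Subgroup.relIndex_sup_right _ _
  -- `D ∩ R` has order 2
  have hDR : ∀ z : R, (z : H) ∈ D → e z = 1 ∨ e z = QuaternionGroup.a 2 := by
    intro z hz
    have h1 : ∀ y : QuaternionGroup 2, e z * y = y * e z := by
      intro y
      obtain ⟨x, rfl⟩ := e.surjective y
      rw [← map_mul, ← map_mul]
      congr 1
      apply Subtype.ext
      exact mul_inv_eq_iff_eq_mul.1 (mem_DD.1 hz x x.2)
    have h2 : ∀ w : QuaternionGroup 2, (∀ y, w * y = y * w) → w = 1 ∨ w = QuaternionGroup.a 2 := by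
      decide +kernel
    exact h2 _ h1
  have hDRcard : Nat.card (D.subgroupOf R) ≤ 2 := by
    have h1 : Function.Injective (fun z : D.subgroupOf R => if e (z : R) = 1 then (0 : Fin 2) else 1) := by
      intro z w h
      have hz := hDR z (mem_subgroupOf.1 z.2)
      have hw := hDR w (mem_subgroupOf.1 w.2)
      have h12 : (QuaternionGroup.a 2 : QuaternionGroup 2) ≠ 1 := by decide +kernel
      apply Subtype.ext
      apply e.injective
      rcases hz with hz | hz <;> rcases hw with hw | hw <;> simp [hz, hw, h12] at h ⊢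
    have := Nat.card_le_card_of_injective _ h1
    simpa using this
  have hrel4 : 4 ≤ D.relIndex R ∧ D.relIndex R ∣ 8 := by
    have h1 := (D.subgroupOf R).card_mul_index
    rw [hRcard] at h1
    have h2 : (D.subgroupOf R).index = D.relIndex R := rfl
    rw [h2] at h1
    refine ⟨?_, ⟨_, by rw [mul_comm]; exact h1.symm⟩⟩
    by_contra hlt
    push Not at hlt
    have : Nat.card (D.subgroupOf R) * D.relIndex R ≤ 2 * 3 := Nat.mul_le_mul hDRcard (by omega)
    omega
  have hrel4' : 4 ∣ D.relIndex R := by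
    obtain ⟨h1, h2⟩ := hrel4
    have h5' : D.relIndex R ∈ Nat.divisors 8 := Nat.mem_divisors.2 ⟨h2, by norm_num⟩
    have h6 : Nat.divisors 8 = {1, 2, 4, 8} := by decide +kernel
    rw [h6] at h5'
    simp only [Finset.mem_insert, Finset.mem_singleton] at h5'
    omega
  have hDK : D ≤ K := le_sup_right
  have hKidx : D.relIndex K * K.index = D.index := Subgroup.relIndex_mul_index hDK
  have hK6 : K.index ≤ 6 := by
    rw [hrel] at hKidx
    by_contra hlt
    push Not at hlt
    have : 4 * 7 ≤ D.relIndex R * K.index := Nat.mul_le_mul hrel4.1 (by omega)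
    omega
  have hKn : K.Normal := by rw [hK]; infer_instance
  -- order 2 element in `D`
  have h2D : 2 ∣ Nat.card D := by
    have h1 : ((e.symm (QuaternionGroup.a 2) : R) : H) ∈ D := by
      rw [hD, mem_DD]
      intro x hx
      have h2 : ∀ y : QuaternionGroup 2, QuaternionGroup.a 2 * y = y * QuaternionGroup.a 2 := by
        decide +kernel
      have h3 : e.symm (QuaternionGroup.a 2) * (⟨x, hx⟩ : R) = ⟨x, hx⟩ * e.symm (QuaternionGroup.a 2) := by
        apply e.injective
        rw [map_mul, map_mul, MulEquiv.apply_symm_apply]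
        exact h2 _
      exact mul_inv_eq_iff_eq_mul.2 (congrArg Subtype.val h3)
    have h2 : orderOf ((e.symm (QuaternionGroup.a 2) : R) : H) = 2 := by
      rw [Subgroup.orderOf_coe, MulEquiv.orderOf_eq]
      apply orderOf_eq_prime
      · decide +kernel
      · decide +kernel
    have h3 := orderOf_dvd_natCard (⟨_, h1⟩ : D)
    rwa [Subgroup.orderOf_mk, h2] at h3
  have hodd : ¬ 2 ∣ K.index := by
    intro hdvd
    apply hS.no_even e
    have h1 := D.card_mul_index
    rw [← h1, ← hKidx, hrel]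
    have h2 : 16 = 2 * (4 * 2) := by norm_num
    rw [h2]
    exact mul_dvd_mul h2D (mul_dvd_mul hrel4' hdvd)
  have h5 : ¬ 5 ∣ K.index := by
    intro hdvd
    obtain ⟨S⟩ : Nonempty (Sylow 5 H) := inferInstance
    have hSK : (S : Subgroup H) ≤ K := by
      intro g hg
      obtain ⟨k, hk⟩ := (IsPGroup.iff_orderOf.1 S.isPGroup') ⟨g, hg⟩
      rw [Subgroup.orderOf_mk] at hk
      exact hDK (mem_DD_of_Q8 e Nat.prime_five le_rfl ⟨k, hk⟩)
    have h1 : K.index ∣ (S : Subgroup H).index := Subgroup.index_dvd_of_le hSK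
    exact S.not_dvd_index (hdvd.trans h1)
  refine ⟨K, hKn, ?_, ?_, ?_⟩
  · rintro g hg ⟨k, hk⟩
    have h1 : (⟨g, hg⟩ : K) ^ (D.subgroupOf K).index ∈ D.subgroupOf K := Subgroup.pow_index_mem _ _
    have h2 : g ^ D.relIndex K ∈ D := h1
    have h3 : g ^ 8 ∈ D := by
      obtain ⟨c, hc⟩ := hrel4.2
      rw [hc, ← hrel, pow_mul]
      exact Subgroup.pow_mem _ h2 _
    have hcop : Nat.Coprime (orderOf g) 8 := by
      rw [hk]
      exact Nat.Coprime.pow_left _ (by norm_num)
    obtain ⟨r, hr⟩ := exists_pow_eq_self_of_coprime hcop.symm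
    rw [← hr]
    exact Subgroup.pow_mem _ h3 r
  · have hc : ∀ x y : H ⧸ K, x * y = y * x := by
      have h13 : K.index = 1 ∨ K.index = 3 := by
        have : K.index ≠ 0 := Subgroup.index_ne_zero_of_finite
        omega
      rcases h13 with h1 | h3
      · have h1' : Nat.card (H ⧸ K) = 1 := by rw [← Subgroup.index_eq_card, h1]
        intro x y
        exact (Nat.card_eq_one_iff_unique.1 h1').1.elim _ _
      · have hcyc : IsCyclic (H ⧸ K) := isCyclic_of_prime_card (p := 3) (by rw [← Subgroup.index_eq_card, h3])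
        letI := IsCyclic.commGroup (α := H ⧸ K)
        intro x y
        exact mul_comm x y
    intro a b
    rw [← QuotientGroup.eq_one_iff]
    show (QuotientGroup.mk' K) (a * b * a⁻¹ * b⁻¹) = 1
    simp only [map_mul, map_inv]
    rw [hc (QuotientGroup.mk' K a) (QuotientGroup.mk' K b)]
    group
  · have : K.index ≠ 0 := Subgroup.index_ne_zero_of_finite
    have h13 : K.index = 1 ∨ K.index = 3 := by omega
    rcases h13 with h1 | h3
    · exact ⟨0, by rw [h1, pow_zero]⟩
    · exact ⟨1, by rw [h3, pow_one]⟩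

theorem Setup.good {act : H →* MulAut V} (hS : Setup p act) {q : ℕ} (hq : q.Prime) : GoodQ p H q := by
  classical
  haveI : Fact q.Prime := ⟨hq⟩
  by_cases hqp : q = p
  · subst hqp
    apply good_of_forall
    intro g _
    rw [mem_DD]
    intro x hx
    rw [hS.core, mem_bot] at hx
    rw [hx]; group
  · rcases pgroup_cyclic_or_quaternion (hS.fpf hq hqp) (Cores.isPGroup_pCore q H) with hc | ⟨rfl, n, hn, ⟨e⟩⟩
    · apply good_of_comm
      intro a b
      unfold DD
      rw [MonoidHom.mem_ker]
      simp only [map_mul, map_inv]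
      have hcomm : ∀ φ ψ : MulAut (pCore q H), φ * ψ = ψ * φ := by
        intro φ ψ
        apply (IsCyclic.mulAutMulEquiv (pCore q H)).injective
        rw [map_mul, map_mul, mul_comm]
      rw [hcomm (MulAut.conjNormal a)]
      group
    · by_cases hn1 : n = 1
      · subst hn1
        have e' : pCore 2 H ≃* QuaternionGroup 2 := by simpa using e
        by_cases hp3 : p = 3
        · subst hp3
          exact hS.good_Q8 e'
        · apply good_of_forall
          intro g hg
          apply mem_DD_of_Q8 e' hp.out _ hg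
          have h2 := hp.out.two_le
          by_contra hlt
          push Not at hlt
          interval_cases p
          · exact hqp rfl
          · exact hp3 rfl
          · exact absurd hp.out (by norm_num)
      · have h2 : IsPGroup 2 (MulAut (pCore 2 H)) := AutTwoGroup.aut_quaternion (S := pCore 2 H) (n + 2) (by omega) e
        apply good_of_forall
        rintro g ⟨k, hk⟩
        unfold DD
        rw [MonoidHom.mem_ker]
        have h3 : orderOf (MulAut.conjNormal (H := pCore 2 H) g) ∣ p ^ k := by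
          rw [← hk]; exact orderOf_map_dvd _ _
        obtain ⟨j, -, hj⟩ := (Nat.dvd_prime_pow hp.out).1 h3
        obtain ⟨i, hi⟩ := (IsPGroup.iff_orderOf.1 h2) (MulAut.conjNormal (H := pCore 2 H) g)
        exact eq_one_of_orders hp.out Nat.prime_two hqp hj hi

theorem Setup.main {act : H →* MulAut V} (hS : Setup p act) (hs : Group.IsSolvable H) :
    HasNormalPComplement p H ∧ ∀ P : Sylow p H, IsMulCommutative (P : Subgroup H) :=
  final hs hS.core fun q hq => hS.good hq

end Cfsg.Agent.Lib.GagSolv
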