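import Cfsg.Prelude.Def_Transfer
import Cfsg.Agent.Lib.CharBasic2
import Cfsg.Agent.Lib.CharNorm
import Cfsg.Agent.Lib.CharApps
import Cfsg.Agent.Lib.BlockThird
import Cfsg.Agent.Lib.ExtClosedChar
import Cfsg.Agent.Lib.CliffordCorr

/-!
# Characters that are nonzero on exactly two conjugacy classes (Gagola characters)
-/

set_option autoImplicit false
set_option linter.all false

namespace Cfsg.Agent.Lib.Gagola

open Cfsg Subgroup Cfsg.Agent.Lib.CharBasic Cfsg.Agent.Lib.BlockThird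
open Cfsg.Agent.Lib.ExtClosedChar
open scoped ComplexConjugate Pointwise

universe u

variable {G : Type u} [Group G] [Finite G]

/-- `χ` is nonzero exactly on the classes of `1` and `x`. -/
structure Gag (χ : IrrCharacter G) (x : G) : Prop where
  x1 : x ≠ 1
  supp : ∀ g, (χ : G → ℂ) g ≠ 0 ↔ g = 1 ∨ IsConj x g
  ne : χ ≠ triv G

theorem exists_gag (hG : 2 < Nat.card G) (χ : IrrCharacter G)
    (hχ : Nat.card {C : ConjClasses G // ∃ g ∈ C.carrier, (χ : G → ℂ) g ≠ 0} = 2) : ∃ x, Gag χ x := by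
  classical
  have h1 : (χ : G → ℂ) 1 ≠ 0 := χ.2.one_ne_zero
  obtain ⟨⟨A, a, haA, ha⟩, ⟨B, b, hbB, hb⟩, hAB, huniv⟩ := Nat.card_eq_two_iff.1 hχ
  have hmem : ∀ g, (χ : G → ℂ) g ≠ 0 → ConjClasses.mk g = A ∨ ConjClasses.mk g = B := by
    intro g hg
    have : (⟨ConjClasses.mk g, g, ConjClasses.mem_carrier_mk, hg⟩ :
      {C : ConjClasses G // ∃ g ∈ C.carrier, (χ : G → ℂ) g ≠ 0}) ∈
        ({⟨A, a, haA, ha⟩, ⟨B, b, hbB, hb⟩} : Set _) := by rw [huniv]; trivial
    rcases this with h | h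
    · left; exact congrArg Subtype.val h
    · right; exact congrArg Subtype.val h
  have hAB' : A ≠ B := fun h => hAB (Subtype.ext h)
  -- the nontrivial class
  obtain ⟨x, hx0, hx1, hxc⟩ : ∃ x : G, (χ : G → ℂ) x ≠ 0 ∧ x ≠ 1 ∧
      ∀ g, (χ : G → ℂ) g ≠ 0 → g = 1 ∨ IsConj x g := by
    have hmk1 : ∀ g : G, ConjClasses.mk g = ConjClasses.mk 1 → g = 1 := by
      intro g hg
      rw [ConjClasses.mk_eq_mk_iff_isConj] at hg
      obtain ⟨c, hc⟩ := isConj_iff.1 hg.symm
      rw [← hc]; simp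
    rcases hmem 1 h1 with h | h
    · refine ⟨b, hb, ?_, ?_⟩
      · rintro rfl
        rw [ConjClasses.mem_carrier_iff_mk_eq] at hbB
        exact hAB' (h.symm.trans hbB)
      · intro g hg
        rcases hmem g hg with h2 | h2
        · left; exact hmk1 g (h2.trans h.symm)
        · right
          rw [ConjClasses.mem_carrier_iff_mk_eq] at hbB
          exact ConjClasses.mk_eq_mk_iff_isConj.1 (hbB.trans h2.symm)
    · refine ⟨a, ha, ?_, ?_⟩
      · rintro rfl
        rw [ConjClasses.mem_carrier_iff_mk_eq] at haA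
        exact hAB' (haA.symm.trans h)
      · intro g hg
        rcases hmem g hg with h2 | h2
        · right
          rw [ConjClasses.mem_carrier_iff_mk_eq] at haA
          exact ConjClasses.mk_eq_mk_iff_isConj.1 (haA.trans h2.symm)
        · left; exact hmk1 g (h2.trans h.symm)
  refine ⟨x, hx1, ?_, ?_⟩
  · intro g
    refine ⟨hxc g, ?_⟩
    rintro (rfl | h)
    · exact h1
    · rw [← χ.2.isClassFunction.conj_eq h]; exact hx0
  · rintro rfl
    -- then `G` has two classes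
    letI := Fintype.ofFinite G
    have h2 := ClassSum.card_class x
    have h3 : (Finset.univ.filter (fun y : G => IsConj x y)) = Finset.univ.erase 1 := by
      ext g
      rw [Finset.mem_filter, Finset.mem_erase]
      constructor
      · rintro ⟨-, h⟩
        refine ⟨?_, Finset.mem_univ _⟩
        rintro rfl
        obtain ⟨c, hc⟩ := isConj_iff.1 h.symm
        exact hx1 (by rw [← hc]; simp)
      · rintro ⟨h, -⟩
        refine ⟨Finset.mem_univ _, (hxc g (by simp)).resolve_left h⟩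
    rw [h3, Finset.card_erase_of_mem (Finset.mem_univ _), Finset.card_univ,
      ← Nat.card_eq_fintype_card] at h2
    have h4 : (Nat.card G - 1) ∣ Nat.card G := by
      rw [h2]; exact Subgroup.index_dvd_card _
    have h5 : (Nat.card G - 1) ∣ 1 := by
      have : Nat.card G = (Nat.card G - 1) + 1 := by omega
      rw [this] at h4
      simpa using h4
    have h6 := Nat.le_of_dvd one_pos h5
    omega

namespace Gag

variable {χ : IrrCharacter G} {x : G} (h : Gag χ x)

/-- size of the class -/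
noncomputable def kk (x : G) : ℕ := (Subgroup.centralizer ({x} : Set G)).index

theorem kk_pos (x : G) : 0 < kk x := Nat.pos_of_ne_zero Subgroup.index_ne_zero_of_finite

include h

theorem inner (ψ : IrrCharacter G) [Fintype G] :
    (Nat.card G : ℂ) * classInner (χ : G → ℂ) (ψ : G → ℂ) =
      (χ : G → ℂ) 1 * conj ((ψ : G → ℂ) 1) + kk x * ((χ : G → ℂ) x * conj ((ψ : G → ℂ) x)) := by
  classical
  have hG : (Nat.card G : ℂ) ≠ 0 := Nat.cast_ne_zero.mpr Nat.card_pos.ne'
  rw [classInner_def, mul_inv_cancel_left₀ hG, kk, ← ClassSum.card_class]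
  have h1 : ∑ g : G, (χ : G → ℂ) g * conj ((ψ : G → ℂ) g) =
      ∑ g ∈ insert 1 (Finset.univ.filter (fun y : G => IsConj x y)), (χ : G → ℂ) g * conj ((ψ : G → ℂ) g) := by
    symm
    apply Finset.sum_subset (Finset.subset_univ _)
    intro g _ hg
    rw [Finset.mem_insert, Finset.mem_filter] at hg
    push Not at hg
    have : (χ : G → ℂ) g = 0 := by
      by_contra h2
      rcases (h.supp g).1 h2 with h3 | h3
      · exact hg.1 h3
      · exact hg.2 (Finset.mem_univ _) h3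
    rw [this, zero_mul]
  rw [h1, Finset.sum_insert]
  · congr 1
    rw [← nsmul_eq_mul, ← Finset.sum_const]
    refine Finset.sum_congr rfl fun g hg => ?_
    rw [Finset.mem_filter] at hg
    rw [χ.2.isClassFunction.conj_eq hg.2, ψ.2.isClassFunction.conj_eq hg.2]
  · rw [Finset.mem_filter]
    rintro ⟨-, hc⟩
    obtain ⟨c, hc⟩ := isConj_iff.1 hc.symm
    exact h.x1 (by rw [← hc]; simp)

theorem val_x : (kk x : ℂ) * (χ : G → ℂ) x = -(χ : G → ℂ) 1 := by
  classical
  letI := Fintype.ofFinite G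
  have h1 := h.inner (triv G)
  rw [χ.2.classInner_eq_zero (triv G).2 (fun h2 => h.ne (Subtype.ext h2))] at h1
  simp only [coe_triv, map_one, mul_one, mul_zero] at h1
  linear_combination -h1

/-- every other irreducible character has `x` in its kernel -/
theorem other {ψ : IrrCharacter G} (hψ : ψ ≠ χ) : (ψ : G → ℂ) x = (ψ : G → ℂ) 1 := by
  classical
  letI := Fintype.ofFinite G
  have h1 := h.inner ψ
  rw [χ.2.classInner_eq_zero ψ.2 (fun h2 => hψ (Subtype.ext h2.symm)), mul_zero, ← mul_assoc, h.val_x] at h1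
  have h2 : (χ : G → ℂ) 1 * (conj ((ψ : G → ℂ) 1) - conj ((ψ : G → ℂ) x)) = 0 := by
    linear_combination -h1
  have h3 := (mul_eq_zero.1 h2).resolve_left χ.2.one_ne_zero
  rw [sub_eq_zero] at h3
  exact ((starRingEnd ℂ).injective h3).symm

theorem other_conj {ψ : IrrCharacter G} (hψ : ψ ≠ χ) {g : G} (hg : (χ : G → ℂ) g ≠ 0) :
    (ψ : G → ℂ) g = (ψ : G → ℂ) 1 := by
  rcases (h.supp g).1 hg with rfl | h2
  · rfl
  · rw [← ψ.2.isClassFunction.conj_eq h2]
    exact h.other hψ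

/-- support = intersection of the other kernels -/
theorem ne_zero_of_ker {g : G} (hg : ∀ ψ : IrrCharacter G, ψ ≠ χ → (ψ : G → ℂ) g = (ψ : G → ℂ) 1) :
    (χ : G → ℂ) g ≠ 0 := by
  classical
  intro h0
  have hg1 : g ≠ 1 := by
    rintro rfl
    exact χ.2.one_ne_zero h0
  have h1 := column_orthogonality g (1 : G)
  have h2 : ¬ IsConj g (1 : G) := by
    intro hc
    obtain ⟨c, hc⟩ := isConj_iff.1 hc.symm
    exact hg1 (by rw [← hc]; simp)
  rw [if_neg h2, ← Finset.add_sum_erase _ _ (Finset.mem_univ χ), h0, zero_mul, zero_add] at h1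
  have h3 : ∑ ψ ∈ Finset.univ.erase χ, (ψ : G → ℂ) g * conj ((ψ : G → ℂ) 1) =
      ((∑ ψ ∈ Finset.univ.erase χ, ‖(ψ : G → ℂ) 1‖ ^ 2 : ℝ) : ℂ) := by
    push_cast
    refine Finset.sum_congr rfl fun ψ hψ => ?_
    rw [hg ψ (Finset.ne_of_mem_erase hψ), Complex.mul_conj']
  rw [h3] at h1
  have h4 : ∑ ψ ∈ Finset.univ.erase χ, ‖(ψ : G → ℂ) 1‖ ^ 2 = 0 := by exact_mod_cast h1
  rw [Finset.sum_eq_zero_iff_of_nonneg (fun _ _ => by positivity)] at h4
  have h5 := h4 (triv G) (Finset.mem_erase.2 ⟨fun h6 => h.ne h6.symm, Finset.mem_univ _⟩)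
  simp at h5

theorem mem_iff (g : G) : (χ : G → ℂ) g ≠ 0 ↔ ∀ ψ : IrrCharacter G, ψ ≠ χ → (ψ : G → ℂ) g = (ψ : G → ℂ) 1 :=
  ⟨fun hg ψ hψ => h.other_conj hψ hg, h.ne_zero_of_ker⟩

omit h in
/-- the subgroup on which `χ` does not vanish -/
def NN (h : Gag χ x) : Subgroup G where
  carrier := {g | (χ : G → ℂ) g ≠ 0}
  mul_mem' := by
    intro a b ha hb
    rw [Set.mem_setOf_eq, h.mem_iff] at ha hb ⊢
    intro ψ hψ
    rw [char_ker_mul ψ.2.isCharacter (ha ψ hψ), hb ψ hψ]
  one_mem' := χ.2.one_ne_zero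
  inv_mem' := by
    intro a ha
    rw [Set.mem_setOf_eq, h.mem_iff] at ha ⊢
    intro ψ hψ
    exact (kerS ψ.2.isCharacter).inv_mem (show a ∈ kerS ψ.2.isCharacter from ha ψ hψ)

theorem mem_NN {g : G} : g ∈ NN h ↔ (χ : G → ℂ) g ≠ 0 := Iff.rfl

theorem mem_NN' {g : G} : g ∈ NN h ↔ g = 1 ∨ IsConj x g := h.supp g

theorem normal : (NN h).Normal := ⟨fun n hn g => by
  rw [mem_NN] at hn ⊢
  rwa [χ.2.isClassFunction]⟩

theorem x_mem : x ∈ NN h := h.mem_NN'.2 (Or.inr (IsConj.refl x))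

theorem card_NN : Nat.card (NN h) = kk x + 1 := by
  classical
  letI := Fintype.ofFinite G
  rw [kk, ← ClassSum.card_class]
  have h1 : (NN h : Set G) = ((insert 1 (Finset.univ.filter (fun y : G => IsConj x y)) : Finset G) : Set G) := by
    ext g
    rw [SetLike.mem_coe, h.mem_NN']
    simp
  have h2 : Nat.card (NN h) = (insert 1 (Finset.univ.filter (fun y : G => IsConj x y)) : Finset G).card := by
    rw [← Set.ncard_coe_finset, ← h1]
    rfl
  rw [h2, Finset.card_insert_of_notMem]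
  rw [Finset.mem_filter]
  rintro ⟨-, hc⟩
  obtain ⟨c, hc⟩ := isConj_iff.1 hc.symm
  exact h.x1 (by rw [← hc]; simp)

theorem kk_dvd {d : ℕ} (hd : (χ : G → ℂ) 1 = d) : kk x ∣ d := by
  have hk : (kk x : ℂ) ≠ 0 := by exact_mod_cast (kk_pos x).ne'
  apply CharCentral.nat_dvd_of_isIntegral_div (kk_pos x).ne'
  have h1 : (d : ℂ) / (kk x : ℂ) = -(χ : G → ℂ) x := by
    rw [← hd, div_eq_iff hk]
    linear_combination h.val_x
  rw [h1]
  obtain ⟨n, ρ, hρ, h2⟩ := χ.2
  have := CharValues.isIntegral_character ρ x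
  rw [h2] at this
  exact this.neg

/-- degrees and orders: `χ(1) = m k`, `χ(x) = -m`, `|G| = m² k (k+1)` where `k+1 = |N|`. -/
theorem exists_m : ∃ m : ℕ, 0 < m ∧ (χ : G → ℂ) 1 = ((m * kk x : ℕ) : ℂ) ∧ (χ : G → ℂ) x = -(m : ℂ) ∧
    Nat.card G = m ^ 2 * kk x * (kk x + 1) := by
  classical
  letI := Fintype.ofFinite G
  obtain ⟨d, hd0, hd⟩ := χ.2.exists_degree
  obtain ⟨m, hm⟩ := h.kk_dvd hd
  have hk : (kk x : ℂ) ≠ 0 := by exact_mod_cast (kk_pos x).ne'
  have hm0 : 0 < m := by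
    rcases Nat.eq_zero_or_pos m with rfl | hm'
    · rw [mul_zero] at hm; omega
    · exact hm'
  have hx : (χ : G → ℂ) x = -(m : ℂ) := by
    apply mul_left_cancel₀ hk
    rw [h.val_x, hd, hm]; push_cast; ring
  refine ⟨m, hm0, by rw [hd, hm, mul_comm], hx, ?_⟩
  have h1 := h.inner χ
  rw [χ.2.classInner_self, hx, hd, hm] at h1
  simp only [map_neg, map_natCast, mul_one] at h1
  have h2 : (Nat.card G : ℂ) = ((m ^ 2 * kk x * (kk x + 1) : ℕ) : ℂ) := by
    rw [h1]; push_cast; ring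
  exact_mod_cast h2

theorem faithful {g : G} (hg : (χ : G → ℂ) g = (χ : G → ℂ) 1) : g = 1 := by
  obtain ⟨m, hm0, h1, h2, -⟩ := h.exists_m
  have h0 : (χ : G → ℂ) g ≠ 0 := by rw [hg]; exact χ.2.one_ne_zero
  rcases (h.supp g).1 h0 with h3 | h3
  · exact h3
  · exfalso
    rw [← χ.2.isClassFunction.conj_eq h3, h2, h1] at hg
    have h4 : (m : ℤ) * kk x + m = 0 := by
      have : -(m : ℂ) = (m : ℂ) * kk x := by rw [hg]; push_cast; ring
      have h5 : ((m : ℂ) * kk x + m) = 0 := by rw [← this]; ring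
      exact_mod_cast h5
    have h5 : (0 : ℤ) < m := by exact_mod_cast hm0
    have h6 : (0 : ℤ) ≤ m * kk x := by positivity
    omega

/-- `χ` is the only faithful irreducible character. -/
theorem eq_of_faithful {ψ : IrrCharacter G} (hψ : ∀ g, (ψ : G → ℂ) g = (ψ : G → ℂ) 1 → g = 1) : ψ = χ := by
  by_contra hne
  exact h.x1 (hψ x (h.other hne))

/-- every nontrivial normal subgroup contains `N` -/
theorem le_of_normal {K : Subgroup G} (hK : K.Normal) (hK1 : K ≠ ⊥) : NN h ≤ K := by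
  classical
  by_contra hle
  -- `K ∩ N = 1`
  have hKN : ∀ y ∈ K, y ∈ NN h → y = 1 := by
    intro y hy hyN
    by_contra hy1
    apply hle
    have hxy := (h.mem_NN'.1 hyN).resolve_left hy1
    intro z hz
    rcases h.mem_NN'.1 hz with rfl | hxz
    · exact one_mem _
    · obtain ⟨c, rfl⟩ := isConj_iff.1 (hxy.symm.trans hxz)
      exact hK.conj_mem y hy c
  -- `χ` restricted to `K` is a multiple of the regular character
  letI := Fintype.ofFinite G
  letI := Fintype.ofFinite K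
  have h1 : classInner (fun k : K => (χ : G → ℂ) k) (1 : K → ℂ) ≠ 0 := by
    rw [classInner_def, Finset.sum_eq_single (1 : K)]
    · simp only [Pi.one_apply, map_one, mul_one]
      exact mul_ne_zero (inv_ne_zero (Nat.cast_ne_zero.2 Nat.card_pos.ne')) χ.2.one_ne_zero
    · intro b _ hb
      have : (χ : G → ℂ) b = 0 := by
        by_contra h2
        exact hb (Subtype.ext (hKN b b.2 h2))
      rw [this, zero_mul]
    · intro h; exact absurd (Finset.mem_univ _) h
  have h2 := Clifford.res_eq_smul_of_invariant (N := K) χ.2 (isIrrCharacter_one (G := K)) (fun g => rfl) h1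
  obtain ⟨y, hy, hy1⟩ : ∃ y, y ∈ K ∧ y ≠ 1 := by
    by_contra hno
    push Not at hno
    exact hK1 (eq_bot_iff.2 fun x hx => mem_bot.2 (hno x hx))
  apply hy1
  apply h.faithful
  have h3 := congrFun h2 ⟨y, hy⟩
  have h4 := congrFun h2 1
  simp only [Pi.smul_apply, Pi.one_apply, smul_eq_mul, mul_one] at h3 h4
  rw [h3]
  exact h4.symm

/-- the prime -/
theorem exists_prime : ∃ p : ℕ, p.Prime ∧ ∀ y ∈ NN h, y ^ p = 1 := by
  have h1 : orderOf x ≠ 1 := fun h2 => h.x1 (orderOf_eq_one_iff.1 h2)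
  obtain ⟨p, hp, hpx⟩ := Nat.exists_prime_and_dvd h1
  refine ⟨p, hp, ?_⟩
  obtain ⟨r, hr⟩ := hpx
  have h2 : orderOf (x ^ r) = p := by
    rw [orderOf_pow_of_dvd (by rintro rfl; rw [mul_zero] at hr; exact (orderOf_pos x).ne' hr) ⟨p, by rw [hr, mul_comm]⟩, hr]
    exact Nat.mul_div_cancel _ (Nat.pos_of_ne_zero (by rintro rfl; rw [mul_zero] at hr; exact (orderOf_pos x).ne' hr))
  have h3 : x ^ r ∈ NN h := (NN h).pow_mem h.x_mem r
  have h4 : x ^ r ≠ 1 := by
    intro h5
    rw [h5, orderOf_one] at h2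
    exact hp.one_lt.ne h2
  have h5 := (h.mem_NN'.1 h3).resolve_left h4
  intro y hy
  rcases h.mem_NN'.1 hy with rfl | h6
  · exact one_pow p
  · obtain ⟨c, rfl⟩ := isConj_iff.1 (h5.symm.trans h6)
    rw [conj_pow, ← h2, pow_orderOf_eq_one]
    simp

theorem elementary : ∃ p : ℕ, p.Prime ∧ IsPGroup p (NN h) ∧ IsElementaryAbelian p (NN h) := by
  obtain ⟨p, hp, hpow⟩ := h.exists_prime
  haveI : Fact p.Prime := ⟨hp⟩
  have hpg : IsPGroup p (NN h) := by
    rw [IsPGroup.iff_orderOf]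
    intro y
    have h1 : orderOf (y : G) ∣ p := orderOf_dvd_of_pow_eq_one (hpow y y.2)
    rw [Subgroup.orderOf_coe] at h1
    rcases (Nat.dvd_prime hp).1 h1 with h2 | h2
    · exact ⟨0, by rw [h2, pow_zero]⟩
    · exact ⟨1, by rw [h2, pow_one]⟩
  refine ⟨p, hp, hpg, ?_, hpow⟩
  -- the centre is normal in `G`
  haveI hne : Nontrivial (NN h) := ⟨⟨⟨x, h.x_mem⟩, 1, fun h1 => h.x1 (congrArg Subtype.val h1)⟩⟩
  have hZ := hpg.center_nontrivial
  set Z : Subgroup G := (Subgroup.center (NN h)).map (NN h).subtype with hZdef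
  have hZn : Z.Normal := by
    have := h.normal
    infer_instance
  have hZ1 : Z ≠ ⊥ := by
    rw [hZdef, Ne, Subgroup.map_eq_bot_iff_of_injective _ (NN h).subtype_injective]
    rw [Subgroup.nontrivial_iff_ne_bot] at hZ
    exact hZ
  have h1 := h.le_of_normal hZn hZ1
  refine ⟨⟨fun a b => ?_⟩⟩
  obtain ⟨c, hc, hca⟩ := h1 a.2
  have : c = a := Subtype.ext hca
  subst this
  exact (Subgroup.mem_center_iff.1 hc b).symm

end Gag

end Cfsg.Agent.Lib.Gagola
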