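import Cfsg.Agent.Lib.Gagola

/-!
# Gagola characters: Sylow structure
-/

set_option autoImplicit false
set_option linter.all false

namespace Cfsg.Agent.Lib.Gagola

open Cfsg Subgroup Cfsg.Agent.Lib.CharBasic Cfsg.Agent.Lib.BlockThird
open Cfsg.Agent.Lib.ExtClosedChar
open scoped ComplexConjugate Pointwise

universe u

variable {G : Type u} [Group G] [Finite G]

namespace Gag

variable {χ : IrrCharacter G} {x : G} (h : Gag χ x)
include h

theorem card_pow {p : ℕ} [hp : Fact p.Prime] (hNp : IsPGroup p (NN h)) :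
    ∃ n, 0 < n ∧ kk x + 1 = p ^ n := by
  obtain ⟨n, hn⟩ := IsPGroup.iff_card.1 hNp
  rw [h.card_NN] at hn
  refine ⟨n, ?_, hn⟩
  rcases Nat.eq_zero_or_pos n with rfl | hn0
  · rw [pow_zero] at hn
    have := kk_pos x
    omega
  · exact hn0

theorem not_dvd_kk {p : ℕ} [hp : Fact p.Prime] (hNp : IsPGroup p (NN h)) : ¬ p ∣ kk x := by
  obtain ⟨n, hn0, hn⟩ := h.card_pow hNp
  intro hd
  have h1 : p ∣ kk x + 1 := by rw [hn]; exact dvd_pow_self p hn0.ne'
  have h2 := (Nat.dvd_add_right hd).1 h1
  exact hp.out.one_lt.ne' (Nat.dvd_one.1 h2)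

theorem eq_of_conj {y : G} (hy : y ∈ NN h) (hy1 : y ≠ 1) : IsConj x y := (h.mem_NN'.1 hy).resolve_left hy1

theorem m_prime {p : ℕ} [hp : Fact p.Prime] (hNp : IsPGroup p (NN h)) {m : ℕ} (hm0 : 0 < m)
    (hm : (χ : G → ℂ) 1 = ((m * kk x : ℕ) : ℂ)) (hG : Nat.card G = m ^ 2 * kk x * (kk x + 1))
    {q : ℕ} (hq : q.Prime) (hqm : q ∣ m) : q = p := by
  classical
  by_contra hqp
  haveI : Fact q.Prime := ⟨hq⟩
  obtain ⟨n, hn0, hn⟩ := h.card_pow hNp
  obtain ⟨Q⟩ : Nonempty (Sylow q G) := inferInstance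
  letI := Fintype.ofFinite G
  letI : Fintype (Q : Subgroup G) := Fintype.ofFinite _
  -- `χ` vanishes on the nonidentity elements of `Q`
  have hv : ∀ y : (Q : Subgroup G), y ≠ 1 → (χ : G → ℂ) y = 0 := by
    intro y hy
    by_contra h1
    apply hy
    have h2 : (y : G) ∈ NN h := h1
    obtain ⟨a, ha⟩ := (IsPGroup.iff_orderOf.1 hNp) ⟨y, h2⟩
    obtain ⟨b, hb⟩ := (IsPGroup.iff_orderOf.1 Q.isPGroup') y
    rw [Subgroup.orderOf_mk] at ha
    rw [← Subgroup.orderOf_coe, ha] at hb
    have h3 : p ^ a = 1 := by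
      by_contra hne
      have ha0 : a ≠ 0 := by rintro rfl; exact hne (pow_zero p)
      have h4 : p ∣ q ^ b := by rw [← hb]; exact dvd_pow_self p ha0
      exact hqp ((Nat.prime_dvd_prime_iff_eq hp.out hq).1 (hp.out.dvd_of_dvd_pow h4)).symm
    rw [h3, orderOf_eq_one_iff] at ha
    exact Subtype.ext ha
  obtain ⟨c, hc⟩ := (χ.2.isCharacter.restrict (Q : Subgroup G)).classInner_nat
    (isIrrCharacter_one (G := (Q : Subgroup G))).isCharacter
  have h1 : classInner (fun y : (Q : Subgroup G) => (χ : G → ℂ) y) (1 : ↥(Q : Subgroup G) → ℂ) =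
      (Nat.card (Q : Subgroup G) : ℂ)⁻¹ * (χ : G → ℂ) 1 := by
    rw [classInner_def]
    congr 1
    rw [Finset.sum_eq_single (1 : (Q : Subgroup G))]
    · simp
    · intro b _ hb
      rw [hv b hb, zero_mul]
    · intro h; exact absurd (Finset.mem_univ _) h
  rw [h1, hm] at hc
  have hQ0 : (Nat.card (Q : Subgroup G) : ℂ) ≠ 0 := Nat.cast_ne_zero.2 Nat.card_pos.ne'
  have h2 : m * kk x = Nat.card (Q : Subgroup G) * c := by
    have : ((m * kk x : ℕ) : ℂ) = ((Nat.card (Q : Subgroup G) * c : ℕ) : ℂ) := by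
      push_cast at hc ⊢
      rw [← hc]; field_simp
    exact_mod_cast this
  rw [Q.card_eq_multiplicity] at h2
  have hk0 := (kk_pos x).ne'
  have h3 : (Nat.card G).factorization q ≤ (m * kk x).factorization q := by
    rw [← hq.pow_dvd_iff_le_factorization (mul_ne_zero hm0.ne' hk0)]
    exact ⟨c, h2⟩
  rw [hG, Nat.factorization_mul (mul_ne_zero (pow_ne_zero 2 hm0.ne') hk0) (Nat.succ_ne_zero _),
    Nat.factorization_mul (pow_ne_zero 2 hm0.ne') hk0, Nat.factorization_mul hm0.ne' hk0,
    Nat.factorization_pow] at h3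
  simp only [Finsupp.coe_add, Finsupp.coe_smul, Pi.add_apply, Pi.smul_apply, smul_eq_mul] at h3
  have h4 : 0 < m.factorization q := hq.factorization_pos_of_dvd hm0.ne' hqm
  omega

theorem m_pow {p : ℕ} [hp : Fact p.Prime] (hNp : IsPGroup p (NN h)) {m : ℕ} (hm0 : 0 < m)
    (hm : (χ : G → ℂ) 1 = ((m * kk x : ℕ) : ℂ)) (hG : Nat.card G = m ^ 2 * kk x * (kk x + 1)) :
    ∃ a, m = p ^ a :=
  ⟨_, Nat.eq_prime_pow_of_unique_prime_dvd hm0.ne' (fun hq hqm => h.m_prime hNp hm0 hm hG hq hqm)⟩

/-- a subgroup of index `k` is a Sylow `p`-subgroup -/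
theorem exists_sylow {p : ℕ} [hp : Fact p.Prime] (hNp : IsPGroup p (NN h)) {P : Subgroup G}
    (hP : P.index = kk x) : ∃ S : Sylow p G, P = S := by
  obtain ⟨m, hm0, hm, -, hG⟩ := h.exists_m
  obtain ⟨a, rfl⟩ := h.m_pow hNp hm0 hm hG
  obtain ⟨n, hn0, hn⟩ := h.card_pow hNp
  have h1 := P.card_mul_index
  rw [hP, hG] at h1
  have h2 : Nat.card P = p ^ (a * 2 + n) := by
    apply Nat.eq_of_mul_eq_mul_right (kk_pos x)
    rw [h1, hn, pow_add, pow_mul]; ring
  have h3 : IsPGroup p P := IsPGroup.of_card h2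
  refine ⟨h3.toSylow (by rw [hP]; exact h.not_dvd_kk hNp), rfl⟩

theorem centralizer_sylow {p : ℕ} [hp : Fact p.Prime] (hNp : IsPGroup p (NN h)) {y : G}
    (hy : y ∈ NN h) (hy1 : y ≠ 1) : ∃ S : Sylow p G, centralizer ({y} : Set G) = S := by
  classical
  letI := Fintype.ofFinite G
  apply h.exists_sylow hNp
  have h1 := h.eq_of_conj hy hy1
  rw [kk, ← ClassSum.card_class, ← ClassSum.card_class]
  congr 1
  ext z
  simp only [Finset.mem_filter, Finset.mem_univ, true_and]
  exact ⟨fun h2 => h1.trans h2, fun h2 => h1.symm.trans h2⟩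

theorem inertia_sylow {p : ℕ} [hp : Fact p.Prime] (hNp : IsPGroup p (NN h)) [hn : (NN h).Normal]
    (μ : IrrCharacter (NN h)) (hμ : (μ : NN h → ℂ) ≠ fun _ => 1) :
    ∃ S : Sylow p G, Clifford.inertia (NN h) (μ : NN h → ℂ) = S := by
  classical
  letI := Fintype.ofFinite G
  letI : Fintype (NN h) := Fintype.ofFinite _
  apply h.exists_sylow hNp
  obtain ⟨m, hm0, hm, hx, hG⟩ := h.exists_m
  -- the group `N` is abelian
  obtain ⟨q, -, -, hq, -⟩ := h.elementary
  have hμ1 : (μ : NN h → ℂ) 1 = 1 := by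
    letI : CommGroup (NN h) := { (inferInstance : Group (NN h)) with mul_comm := hq.1.comm }
    exact μ.2.one_eq_one_of_comm (fun a b => hq.1.comm a b)
  -- `[χ_N, μ] = m`
  have h1 : classInner (fun y : NN h => (χ : G → ℂ) y) (μ : NN h → ℂ) = m := by
    have h2 : (fun y : NN h => (χ : G → ℂ) y) =
        (fun y : NN h => (if y = 1 then ((m * kk x + m : ℕ) : ℂ) else 0)) - (m : ℂ) • (fun _ => (1 : ℂ)) := by
      funext y
      simp only [Pi.sub_apply, Pi.smul_apply, smul_eq_mul, mul_one]
      split_ifs with hy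
      · rw [hy, OneMemClass.coe_one, hm]; push_cast; ring
      · have h3 := h.eq_of_conj y.2 (fun h4 => hy (Subtype.ext h4))
        rw [← χ.2.isClassFunction.conj_eq h3, hx]; ring
    rw [h2, classInner_sub_left, classInner_smul_left]
    have h3 : classInner (fun _ : NN h => (1 : ℂ)) (μ : NN h → ℂ) = 0 :=
      IsIrrCharacter.classInner_eq_zero isIrrCharacter_fun_one μ.2 (fun h4 => hμ h4.symm)
    rw [h3, mul_zero, sub_zero, classInner_def, Finset.sum_eq_single (1 : NN h)]
    · rw [if_pos rfl, hμ1, h.card_NN, map_one, mul_one]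
      have : ((kk x : ℂ) + 1) ≠ 0 := by exact_mod_cast Nat.succ_ne_zero (kk x)
      push_cast
      field_simp
    · intro b _ hb
      rw [if_neg hb, zero_mul]
    · intro h; exact absurd (Finset.mem_univ _) h
  have h2 := CliffordCorr.degree_clifford χ.2 μ.2 (by rw [h1]; exact_mod_cast hm0.ne')
  rw [h1, hm, hμ1, mul_one] at h2
  have h3 : m * kk x = m * (Clifford.inertia (NN h) (μ : NN h → ℂ)).index := by exact_mod_cast h2
  exact (Nat.eq_of_mul_eq_mul_left hm0 h3).symm

theorem NN_ne_bot : NN h ≠ ⊥ := by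
  intro h0
  have := h.x_mem
  rw [h0, Subgroup.mem_bot] at this
  exact h.x1 this

theorem card_centralizer_quotient [hn : (NN h).Normal] {y : G} (hy : y ∉ NN h) :
    Nat.card (centralizer ({y} : Set G)) = Nat.card (centralizer ({(y : G ⧸ NN h)} : Set (G ⧸ NN h))) := by
  classical
  have h1 := column_orthogonality y y
  rw [if_pos (IsConj.refl y)] at h1
  have h2 := column_orthogonality (y : G ⧸ NN h) (y : G ⧸ NN h)
  rw [if_pos (IsConj.refl _)] at h2
  have h3 : ((Nat.card (centralizer ({y} : Set G)) : ℕ) : ℂ) =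
      ((Nat.card (centralizer ({(y : G ⧸ NN h)} : Set (G ⧸ NN h))) : ℕ) : ℂ) := by
    rw [← h1, ← h2, ← Finset.add_sum_erase _ _ (Finset.mem_univ χ)]
    have h4 : (χ : G → ℂ) y = 0 := by
      by_contra h5
      exact hy h5
    rw [h4, zero_mul, zero_add]
    symm
    refine Finset.sum_bij (fun ψ _ => (⟨fun g => (ψ : G ⧸ NN h → ℂ) (g : G ⧸ NN h), ψ.2.inflate (NN h)⟩ : IrrCharacter G))
      ?_ ?_ ?_ ?_
    · intro ψ _
      rw [Finset.mem_erase]
      refine ⟨?_, Finset.mem_univ _⟩
      intro h5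
      apply h.x1
      apply h.faithful
      rw [← h5]
      show (ψ : G ⧸ NN h → ℂ) (x : G ⧸ NN h) = (ψ : G ⧸ NN h → ℂ) ((1 : G) : G ⧸ NN h)
      have h6 : (x : G ⧸ NN h) = ((1 : G) : G ⧸ NN h) := by
        rw [QuotientGroup.eq, mul_one]
        exact (NN h).inv_mem h.x_mem
      rw [h6]
    · intro ψ _ ψ' _ h5
      apply Subtype.ext
      funext q
      obtain ⟨g, rfl⟩ := QuotientGroup.mk_surjective q
      exact congrFun (congrArg Subtype.val h5) g
    · intro ψ hψ
      rw [Finset.mem_erase] at hψ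
      obtain ⟨ψ', hψ', h5⟩ := ψ.2.deflate (NN h) (fun n hn => h.other_conj hψ.1 hn)
      exact ⟨⟨ψ', hψ'⟩, Finset.mem_univ _, Subtype.ext (funext h5)⟩
    · intro ψ _
      rfl
  exact_mod_cast h3

section sylow

variable {p : ℕ} [hp : Fact p.Prime] (hNp : IsPGroup p (NN h)) (P : Sylow p G)
include hNp

theorem NN_le : NN h ≤ (P : Subgroup G) := by
  have := h.normal
  exact hNp.le_sylow_of_normal P

/-- for `y ∈ P \ N` the centralizer of `y` in `P` has order at most `|P : N|` -/
theorem card_centralizer_le {y : G} (hy : y ∉ NN h) :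
    Nat.card ((P : Subgroup G) ⊓ centralizer ({y} : Set G) : Subgroup G) * Nat.card (NN h) ≤
      Nat.card (P : Subgroup G) := by
  haveI := h.normal
  have h1 := h.card_centralizer_quotient hy
  obtain ⟨a, ha⟩ := IsPGroup.iff_card.1 (P.isPGroup'.to_le
    (inf_le_left : (P : Subgroup G) ⊓ centralizer ({y} : Set G) ≤ P))
  obtain ⟨n, hn⟩ := IsPGroup.iff_card.1 hNp
  -- `p ^ a ∣ |G/N|`
  have h2 : p ^ a ∣ Nat.card (G ⧸ NN h) := by
    rw [← ha]
    refine (card_dvd_of_le (inf_le_right : (P : Subgroup G) ⊓ centralizer ({y} : Set G) ≤ _)).trans ?_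
    rw [h1]
    exact Subgroup.card_subgroup_dvd_card _
  have h3 : Nat.card G = Nat.card (G ⧸ NN h) * Nat.card (NN h) := Subgroup.card_eq_card_quotient_mul_card_subgroup _
  have h4 : p ^ (a + n) ∣ Nat.card G := by
    rw [h3, pow_add, hn]
    exact mul_dvd_mul h2 (dvd_refl _)
  have h5 : p ^ (a + n) ∣ Nat.card (P : Subgroup G) := by
    rw [P.card_eq_multiplicity]
    exact pow_dvd_pow p ((hp.out.pow_dvd_iff_le_factorization Nat.card_pos.ne').1 h4)
  rw [ha, hn, ← pow_add]
  exact Nat.le_of_dvd Nat.card_pos h5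

theorem center_le : (Subgroup.center ↥(P : Subgroup G)).map (P : Subgroup G).subtype ≤ NN h := by
  rintro _ ⟨z, hz, rfl⟩
  by_contra hzN
  have h1 := h.card_centralizer_le hNp P hzN
  have h2 : (P : Subgroup G) ⊓ centralizer ({((P : Subgroup G).subtype z)} : Set G) = P := by
    apply le_antisymm inf_le_left
    apply le_inf le_rfl
    intro g hg
    rw [mem_centralizer_singleton_iff]
    exact (congrArg Subtype.val (Subgroup.mem_center_iff.1 hz ⟨g, hg⟩))
  rw [h2] at h1
  have h3 : 1 < Nat.card (NN h) := by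
    rw [h.card_NN]
    have := kk_pos x
    omega
  have h4 : 0 < Nat.card (P : Subgroup G) := Nat.card_pos
  nlinarith

theorem center_eq_iff : (Subgroup.center ↥(P : Subgroup G)).map (P : Subgroup G).subtype = NN h ↔
    (P : Subgroup G).Normal := by
  haveI := h.normal
  constructor
  · intro h1
    obtain ⟨S, hS⟩ := h.centralizer_sylow hNp h.x_mem h.x1
    -- `P` centralizes `N`
    have h2 : ∀ y ∈ NN h, (P : Subgroup G) ≤ centralizer ({y} : Set G) := by
      intro y hy g hg
      rw [← h1] at hy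
      obtain ⟨z, hz, rfl⟩ := hy
      rw [mem_centralizer_singleton_iff]
      exact (congrArg Subtype.val (Subgroup.mem_center_iff.1 hz ⟨g, hg⟩))
    have h3 : (P : Subgroup G) = centralizer ((NN h : Subgroup G) : Set G) := by
      apply le_antisymm
      · intro g hg
        rw [mem_centralizer_iff]
        intro y hy
        have := h2 y hy hg
        rw [mem_centralizer_singleton_iff] at this
        exact this.symm
      · intro g hg
        have h4 : centralizer ({x} : Set G) = P := by
          have h5 : (P : Subgroup G) ≤ S := by rw [← hS]; exact h2 x h.x_mem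
          rw [hS]
          have h6 : Nat.card (P : Subgroup G) = Nat.card (S : Subgroup G) := by
            rw [P.card_eq_multiplicity, S.card_eq_multiplicity]
          exact (Subgroup.eq_of_le_of_card_ge h5 h6.ge).symm
        rw [← h4, mem_centralizer_singleton_iff]
        exact ((mem_centralizer_iff.1 hg) x h.x_mem).symm
    rw [h3]
    infer_instance
  · intro hPn
    apply le_antisymm (h.center_le hNp P)
    apply h.le_of_normal
    · infer_instance
    · rw [Ne, Subgroup.map_eq_bot_iff_of_injective _ (P : Subgroup G).subtype_injective]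
      haveI : Nontrivial (P : Subgroup G) :=
        ⟨⟨⟨x, h.NN_le hNp P h.x_mem⟩, 1, fun h1 => h.x1 (congrArg Subtype.val h1)⟩⟩
      have := P.isPGroup'.center_nontrivial
      rw [Subgroup.nontrivial_iff_ne_bot] at this
      exact this

/-- `N` is a term of the upper central series of `P` -/
theorem exists_ucs : ∃ i : ℕ, Subgroup.upperCentralSeries ↥(P : Subgroup G) i =
    (NN h).subgroupOf (P : Subgroup G) := by
  classical
  haveI := h.normal
  set N' := (NN h).subgroupOf (P : Subgroup G) with hN'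
  have hcardN : Nat.card N' = Nat.card (NN h) :=
    Nat.card_congr (subgroupOfEquivOfLe (h.NN_le hNp P)).toEquiv
  -- if `Z_i < N` then `Z_{i+1} ≤ N`
  have step : ∀ i, Subgroup.upperCentralSeries ↥(P : Subgroup G) i ≤ N' →
      Subgroup.upperCentralSeries ↥(P : Subgroup G) i ≠ N' →
      Subgroup.upperCentralSeries ↥(P : Subgroup G) (i + 1) ≤ N' := by
    intro i hle hne y hy
    by_contra hyN
    set Z := Subgroup.upperCentralSeries ↥(P : Subgroup G) i with hZ
    have hy' : (y : G) ∉ NN h := fun h1 => hyN (mem_subgroupOf.2 h1)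
    have h1 := h.card_centralizer_le hNp P hy'
    -- the class of `y` is in `Z y`
    have h2 : (centralizer ({y} : Set (P : Subgroup G))).index ≤ Nat.card Z := by
      rw [Subgroup.index_eq_card]
      let f : (↥(P : Subgroup G) ⧸ centralizer ({y} : Set (P : Subgroup G))) → Z := fun q =>
        ⟨q.out * y * (q.out)⁻¹ * y⁻¹, by
          have := Subgroup.mem_upperCentralSeries_succ_iff.1 hy q.out
          have h3 := Z.inv_mem this
          rw [commutatorElement_def] at h3
          have e : (y * q.out * y⁻¹ * (q.out)⁻¹)⁻¹ = q.out * y * (q.out)⁻¹ * y⁻¹ := by group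
          rwa [e] at h3⟩
      apply Nat.card_le_card_of_injective f
      intro a b hab
      have h3 := congrArg Subtype.val hab
      simp only [f] at h3
      have h4 := mul_right_cancel h3
      rw [← a.out_eq, ← b.out_eq, QuotientGroup.eq, mem_centralizer_singleton_iff]
      calc a.out⁻¹ * b.out * y = a.out⁻¹ * (b.out * y * b.out⁻¹) * b.out := by group
        _ = a.out⁻¹ * (a.out * y * a.out⁻¹) * b.out := by rw [h4]
        _ = y * (a.out⁻¹ * b.out) := by group
    have h3 : Nat.card Z < Nat.card N' := by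
      apply lt_of_le_of_ne (Subgroup.card_le_of_le hle)
      intro h4
      exact hne (Subgroup.eq_of_le_of_card_ge hle h4.ge)
    have h4 : Nat.card (centralizer ({y} : Set (P : Subgroup G))) ≤
        Nat.card ((P : Subgroup G) ⊓ centralizer ({(y : G)} : Set G) : Subgroup G) := by
      rw [Nat.card_congr ((centralizer ({y} : Set (P : Subgroup G))).equivMapOfInjective
        (P : Subgroup G).subtype (P : Subgroup G).subtype_injective).toEquiv]
      apply Subgroup.card_le_of_le
      rintro _ ⟨g, hg, rfl⟩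
      refine mem_inf.2 ⟨g.2, ?_⟩
      rw [mem_centralizer_singleton_iff]
      exact congrArg Subtype.val (mem_centralizer_singleton_iff.1 hg)
    have h5 := (centralizer ({y} : Set (P : Subgroup G))).card_mul_index
    have h6 : 0 < Nat.card (centralizer ({y} : Set (P : Subgroup G))) := Nat.card_pos
    rw [hcardN] at h3
    nlinarith
  -- the series reaches `P`
  haveI : Group.IsNilpotent (P : Subgroup G) := P.isPGroup'.isNilpotent
  obtain ⟨c, hc⟩ := this.nilpotent'
  by_contra hno
  push Not at hno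
  have h1 : ∀ i, Subgroup.upperCentralSeries ↥(P : Subgroup G) i ≤ N' := by
    intro i
    induction i with
    | zero => rw [Subgroup.upperCentralSeries_zero]; exact bot_le
    | succ i ih => exact step i ih (hno i)
  have h2 := h1 c
  rw [hc] at h2
  exact hno c (by rw [hc]; exact (top_le_iff.1 h2).symm)

end sylow

end Gag

end Cfsg.Agent.Lib.Gagola
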