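import Cfsg.Agent.Lib.Gagola2
import Cfsg.Agent.Lib.BaerSuzuki
import Cfsg.Agent.Lib.FrobGroup
import Cfsg.Agent.Lib.Cores
import Cfsg.Agent.Lib.SubgroupTools

/-!
# Gagola characters: `N = O_p(G)` iff `G` is a doubly transitive Frobenius group
-/

set_option autoImplicit false
set_option linter.all false

namespace Cfsg.Agent.Lib.Gagola

open Cfsg Subgroup Cfsg.Agent.Lib.CharBasic Cfsg.Agent.Lib.BlockThird
open Cfsg.Agent.Lib.ExtClosedChar
open scoped ComplexConjugate Pointwise

universe u

variable {G : Type u} [Group G] [Finite G]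

namespace Gag

variable {χ : IrrCharacter G} {x : G} (h : Gag χ x)
include h

theorem comm_NN {a b : G} (ha : a ∈ NN h) (hb : b ∈ NN h) : a * b = b * a := by
  obtain ⟨q, -, -, hq, -⟩ := h.elementary
  exact congrArg Subtype.val (hq.1.comm ⟨a, ha⟩ ⟨b, hb⟩)

/-- the Camina property -/
theorem isConj_mul {y z : G} (hy : y ∉ NN h) (hz : z ∈ NN h) : IsConj y (y * z) := by
  classical
  by_contra hno
  have h1 := column_orthogonality y (y * z)
  rw [if_neg hno] at h1
  have hyz : y * z ∉ NN h := fun h2 => hy ((NN h).mul_mem_cancel_right hz |>.1 h2)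
  have h2 : ∀ ψ : IrrCharacter G, (ψ : G → ℂ) (y * z) = (ψ : G → ℂ) y := by
    intro ψ
    by_cases hψ : ψ = χ
    · subst hψ
      have h3 : (ψ : G → ℂ) y = 0 := by by_contra h4; exact hy h4
      have h5 : (ψ : G → ℂ) (y * z) = 0 := by by_contra h4; exact hyz h4
      rw [h3, h5]
    · have h3 := h.other_conj hψ hz
      have h4 := char_ker_mul ψ.2.isCharacter h3 y
      rw [← h4]
      have h5 := ψ.2.isClassFunction (y * z) z
      rw [← h5]
      congr 1
      group
  simp only [h2, Complex.mul_conj'] at h1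
  have h3 : (∑ ψ : IrrCharacter G, ‖(ψ : G → ℂ) y‖ ^ 2 : ℝ) = 0 := by exact_mod_cast h1
  rw [Finset.sum_eq_zero_iff_of_nonneg (fun _ _ => by positivity)] at h3
  have h5 := h3 (triv G) (Finset.mem_univ _)
  simp at h5

section core

variable {p : ℕ} [hp : Fact p.Prime] (hNp : IsPGroup p (NN h)) (hO : NN h = pCore p G)
include hNp

/-- centralizers of nonidentity elements of `N` are `p`-groups -/
theorem isPGroup_centralizer {y : G} (hy : y ∈ NN h) (hy1 : y ≠ 1) :
    IsPGroup p (centralizer ({y} : Set G)) := by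
  obtain ⟨S, hS⟩ := h.centralizer_sylow hNp hy hy1
  rw [hS]
  exact S.isPGroup'

include hO

theorem centralizer_NN_le : centralizer ((NN h : Subgroup G) : Set G) ≤ NN h := by
  haveI := h.normal
  have h1 : IsPGroup p (centralizer ((NN h : Subgroup G) : Set G)) := by
    apply (h.isPGroup_centralizer hNp h.x_mem h.x1).to_le
    intro g hg
    rw [mem_centralizer_singleton_iff]
    exact ((mem_centralizer_iff.1 hg) x h.x_mem).symm
  conv_rhs => rw [hO]
  exact Cores.le_pCore inferInstance h1

end core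

/-- For `p = 2` and `N = O_2(G)` there is no `y ∉ N` with `y² ∈ N`. -/
theorem no_sq (hNp : IsPGroup 2 (NN h)) (hO : NN h = pCore 2 G) {y : G} (hy : y ∉ NN h)
    (hy2 : y * y ∈ NN h) : False := by
  haveI := h.normal
  have hcent := h.centralizer_NN_le hNp hO
  have hsq : ∀ z ∈ NN h, z * z = 1 := by
    obtain ⟨q, hq, hqg, hqe⟩ := h.elementary
    haveI : Fact q.Prime := ⟨hq⟩
    have hx : x ^ q = 1 := hqe.2 x h.x_mem
    have hq2 : q = 2 := by
      have h1 : orderOf x = q := (orderOf_eq_prime hx h.x1)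
      obtain ⟨k, hk⟩ := (IsPGroup.iff_orderOf.1 hNp) ⟨x, h.x_mem⟩
      rw [Subgroup.orderOf_mk, h1] at hk
      have h2 : q ∣ 2 ^ k := by rw [← hk]
      exact (Nat.prime_dvd_prime_iff_eq hq Nat.prime_two).1 (hq.dvd_of_dvd_pow h2)
    subst hq2
    intro z hz
    rw [← pow_two]
    exact hqe.2 z hz
  have hconj : ∀ z ∈ NN h, y⁻¹ * z * y ∈ NN h := by
    intro z hz
    have := h.normal.conj_mem z hz y⁻¹
    rwa [inv_inv] at this
  by_cases hex : ∃ z ∈ NN h, (y * z) * (y * z) = 1
  · obtain ⟨z, hz, hz1⟩ := hex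
    have hall : ∀ z' ∈ NN h, (y * z') * (y * z') = 1 := by
      intro z' hz'
      obtain ⟨c, hc⟩ := isConj_iff.1 ((h.isConj_mul hy hz).symm.trans (h.isConj_mul hy hz'))
      rw [← hc]
      calc c * (y * z) * c⁻¹ * (c * (y * z) * c⁻¹) = c * ((y * z) * (y * z)) * c⁻¹ := by group
        _ = 1 := by rw [hz1]; group
    have hy1 : y * y = 1 := by
      have := hall 1 (one_mem _)
      simpa using this
    apply hy
    apply hcent
    rw [mem_centralizer_iff]
    intro z' hz'
    have h1 := hall z' hz'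
    have h2 := hsq z' hz'
    have h3 : y * z' * y = z' := by
      have : y * z' * y = (y * z') * (y * z') * z'⁻¹ := by group
      rw [this, h1, one_mul, inv_eq_iff_mul_eq_one]
      exact h2
    calc z' * y = y * z' * y * y := by rw [h3]
      _ = y * z' * (y * y) := by group
      _ = y * z' := by rw [hy1, mul_one]
  · push Not at hex
    -- the map `z ↦ (y⁻¹ z y) z`
    letI : CommGroup (NN h) := { (inferInstance : Group (NN h)) with mul_comm := fun a b => Subtype.ext (h.comm_NN a.2 b.2) }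
    let φ : NN h →* NN h :=
      { toFun := fun z => ⟨(y⁻¹ * z * y) * z, (NN h).mul_mem (hconj z z.2) z.2⟩
        map_one' := Subtype.ext (by simp)
        map_mul' := fun a b => Subtype.ext (by
          show y⁻¹ * (a * b : G) * y * (a * b) = (y⁻¹ * a * y * a) * (y⁻¹ * b * y * b)
          have h1 : (a : G) * (y⁻¹ * b * y) = (y⁻¹ * b * y) * a := h.comm_NN a.2 (hconj b b.2)
          calc y⁻¹ * (a * b : G) * y * (a * b) = (y⁻¹ * a * y) * ((y⁻¹ * b * y) * a) * b := by group
            _ = (y⁻¹ * a * y) * (a * (y⁻¹ * b * y)) * b := by rw [h1]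
            _ = _ := by group) }
    set C : Subgroup G := NN h ⊓ centralizer ({y} : Set G) with hC
    have hCmem : ∀ z : NN h, (z : G) ∈ C ↔ y⁻¹ * z * y = z := by
      intro z
      rw [hC, mem_inf, mem_centralizer_singleton_iff]
      constructor
      · rintro ⟨-, h1⟩
        rw [mul_assoc, h1, inv_mul_cancel_left]
      · intro h1
        refine ⟨z.2, ?_⟩
        conv_rhs => rw [← h1]
        group
    have hker : ∀ z : NN h, φ z = 1 ↔ (z : G) ∈ C := by
      intro z
      rw [hCmem]
      constructor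
      · intro h1
        have h2 : (y⁻¹ * z * y) * (z : G) = 1 := congrArg Subtype.val h1
        have h3 := hsq z z.2
        exact mul_right_cancel (h2.trans h3.symm)
      · intro h1
        apply Subtype.ext
        show (y⁻¹ * z * y) * (z : G) = 1
        rw [h1]
        exact hsq z z.2
    have hrange : ∀ z : NN h, ((φ z : NN h) : G) ∈ C := by
      intro z
      rw [hCmem]
      show y⁻¹ * ((y⁻¹ * z * y) * (z : G)) * y = (y⁻¹ * z * y) * (z : G)
      have h1 : (y * y) * (z : G) = z * (y * y) := h.comm_NN hy2 z.2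
      have h2 : y⁻¹ * (y⁻¹ * z * y) * y = (z : G) := by
        calc y⁻¹ * (y⁻¹ * z * y) * y = (y * y)⁻¹ * (z * (y * y)) := by group
          _ = (y * y)⁻¹ * ((y * y) * z) := by rw [h1]
          _ = z := by group
      calc y⁻¹ * ((y⁻¹ * z * y) * (z : G)) * y = (y⁻¹ * (y⁻¹ * z * y) * y) * (y⁻¹ * z * y) := by group
        _ = z * (y⁻¹ * z * y) := by rw [h2]
        _ = (y⁻¹ * z * y) * z := h.comm_NN z.2 (hconj z z.2)
    have hy2C : y * y ∈ C := by
      rw [hC, mem_inf, mem_centralizer_singleton_iff]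
      exact ⟨hy2, by group⟩
    have hnot : ∀ z : NN h, ((φ z : NN h) : G) ≠ (y * y)⁻¹ := by
      intro z hz
      apply hex z z.2
      have h1 : (y⁻¹ * z * y) * (z : G) = (y * y)⁻¹ := hz
      calc (y * z) * (y * z) = (y * y) * ((y⁻¹ * z * y) * (z : G)) := by group
        _ = 1 := by rw [h1, mul_inv_cancel]
    -- cardinalities
    have hCcard : Nat.card φ.ker = Nat.card C := by
      apply Nat.card_congr
      refine ⟨fun z => ⟨(z : NN h), (hker z).1 z.2⟩, fun c => ⟨⟨c, c.2.1⟩, (hker _).2 c.2⟩, fun z => rfl, fun c => rfl⟩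
    have hRcard : Nat.card φ.range < Nat.card C := by
      have h1 : φ.range.map (NN h).subtype < C := by
        apply lt_of_le_of_ne
        · rintro _ ⟨_, ⟨z, rfl⟩, rfl⟩
          exact hrange z
        · intro h2
          have h3 : (y * y)⁻¹ ∈ φ.range.map (NN h).subtype := by
            rw [h2]; exact C.inv_mem hy2C
          obtain ⟨_, ⟨z, rfl⟩, hz⟩ := h3
          exact hnot z hz
      rw [Nat.card_congr (φ.range.equivMapOfInjective (NN h).subtype (NN h).subtype_injective).toEquiv]
      exact lt_of_le_of_ne (Subgroup.card_le_of_le h1.le)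
        (fun h2 => h1.ne (Subgroup.eq_of_le_of_card_ge h1.le h2.ge))
    have hNcard : Nat.card (NN h) < Nat.card C * Nat.card C := by
      have h1 : Nat.card (NN h) = Nat.card φ.ker * Nat.card φ.range := by
        rw [← Subgroup.index_ker, Subgroup.card_mul_index]
      rw [h1, hCcard]
      exact Nat.mul_lt_mul_of_pos_left hRcard Nat.card_pos
    -- Baer-Suzuki
    have hyp : IsPGroup 2 (zpowers y) := by
      obtain ⟨z, hz, hz1⟩ : ∃ z ∈ C, z ≠ 1 := by
        by_contra hno
        push Not at hno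
        have h2 : C = ⊥ := eq_bot_iff.2 fun z hz => mem_bot.2 (hno z hz)
        rw [h2, Subgroup.card_bot] at hRcard
        have := Nat.card_pos (α := φ.range)
        omega
      apply (h.isPGroup_centralizer hNp hz.1 hz1).to_le
      rw [zpowers_le, mem_centralizer_singleton_iff]
      exact (mem_centralizer_singleton_iff.1 hz.2).symm
    obtain ⟨K, hK, hKp, hyK⟩ := BaerSuzuki.baer_suzuki (zpowers y) hyp (by
      intro g
      -- `C ∩ gCg⁻¹ ≠ 1`
      have hgC : MulAut.conj g • C ≤ NN h := by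
        intro z hz
        rw [SubgroupTools.mem_conj_smul] at hz
        have h1 := h.normal.conj_mem _ hz.1 g
        have e : g * (g⁻¹ * z * g) * g⁻¹ = z := by group
        rwa [e] at h1
      obtain ⟨z, hz, hzg, hz1⟩ : ∃ z, z ∈ C ∧ z ∈ MulAut.conj g • C ∧ z ≠ 1 := by
        by_contra hno
        push Not at hno
        have hdisj : Disjoint C (MulAut.conj g • C) := by
          rw [disjoint_iff, eq_bot_iff]
          rintro z ⟨h1, h2⟩
          exact mem_bot.2 (hno z h1 h2)
        have hnorm : MulAut.conj g • C ≤ normalizer (C : Set G) := by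
          refine le_trans ?_ (centralizer_le_normalizer _)
          intro a ha
          rw [mem_centralizer_iff]
          intro b hb
          exact h.comm_NN hb.1 (hgC ha)
        have h1 := SubgroupTools.card_sup_of_disjoint hnorm hdisj
        have h2 : Nat.card (C ⊔ MulAut.conj g • C : Subgroup G) ≤ Nat.card (NN h) :=
          Subgroup.card_le_of_le (sup_le inf_le_left hgC)
        rw [h1, SubgroupTools.card_conj_smul] at h2
        omega
      apply (h.isPGroup_centralizer hNp hz.1 hz1).to_le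
      apply sup_le
      · rw [zpowers_le, mem_centralizer_singleton_iff]
        exact (mem_centralizer_singleton_iff.1 hz.2).symm
      · intro w hw
        rw [SubgroupTools.mem_conj_smul] at hw hzg
        rw [mem_centralizer_singleton_iff]
        have h1 : g⁻¹ * z * g ∈ centralizer ({y} : Set G) := hzg.2
        rw [mem_centralizer_singleton_iff] at h1
        obtain ⟨n, hn⟩ := mem_zpowers_iff.1 hw
        have h2 : Commute (g⁻¹ * z * g) (g⁻¹ * w * g) := by
          rw [← hn]
          exact (show Commute (g⁻¹ * z * g) y from h1).zpow_right n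
        have h3 : g * ((g⁻¹ * z * g) * (g⁻¹ * w * g)) * g⁻¹ = g * ((g⁻¹ * w * g) * (g⁻¹ * z * g)) * g⁻¹ := by
          rw [h2.eq]
        have h4 : g * ((g⁻¹ * z * g) * (g⁻¹ * w * g)) * g⁻¹ = z * w := by group
        have h5 : g * ((g⁻¹ * w * g) * (g⁻¹ * z * g)) * g⁻¹ = w * z := by group
        rw [h4, h5] at h3
        exact h3.symm)
    apply hy
    rw [hO]
    exact Cores.le_pCore hK hKp (hyK (mem_zpowers y))

/-- `p = 2`: `N` is a Sylow subgroup -/
theorem sylow_two (hNp : IsPGroup 2 (NN h)) (hO : NN h = pCore 2 G) (P : Sylow 2 G) :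
    (P : Subgroup G) = NN h := by
  classical
  apply le_antisymm _ (h.NN_le hNp P)
  intro y hy
  by_contra hyN
  obtain ⟨k, hk⟩ := (IsPGroup.iff_orderOf.1 P.isPGroup') ⟨y, hy⟩
  rw [Subgroup.orderOf_mk] at hk
  have hex : ∃ k, y ^ 2 ^ k ∈ NN h := ⟨k, by rw [← hk, pow_orderOf_eq_one]; exact one_mem _⟩
  have h1 := Nat.find_spec hex
  have h0 : Nat.find hex ≠ 0 := by
    intro h2
    rw [h2, pow_zero, pow_one] at h1
    exact hyN h1
  obtain ⟨j, hj⟩ := Nat.exists_eq_succ_of_ne_zero h0
  have h2 : y ^ 2 ^ j ∉ NN h := Nat.find_min hex (by omega)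
  apply h.no_sq hNp hO h2
  rw [hj, pow_succ, mul_two, pow_add] at h1
  exact h1

/-- `p` odd: `N` is a Sylow subgroup -/
theorem sylow_odd {p : ℕ} [hp : Fact p.Prime] (hp2 : p ≠ 2) (hNp : IsPGroup p (NN h))
    (hO : NN h = pCore p G) (P : Sylow p G) : (P : Subgroup G) = NN h := by
  classical
  haveI := h.normal
  have hcent := h.centralizer_NN_le hNp hO
  obtain ⟨m, hm0, hm, hx, hG⟩ := h.exists_m
  obtain ⟨n, hn0, hn⟩ := h.card_pow hNp
  have hpodd : Odd p := hp.out.odd_of_ne_two hp2
  -- an involution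
  have h2G : 2 ∣ Nat.card G := by
    have h1 : Odd (kk x + 1) := by rw [hn]; exact hpodd.pow
    have h3 : 2 ∣ kk x := by
      rcases h1 with ⟨r, hr⟩
      exact ⟨r, by omega⟩
    rw [hG]
    exact (h3.mul_left _).mul_right _
  haveI : Fact (Nat.Prime 2) := ⟨Nat.prime_two⟩
  obtain ⟨u, hu⟩ := exists_prime_orderOf_dvd_card' 2 h2G
  have huu : u * u = 1 := by rw [← pow_two, ← hu]; exact pow_orderOf_eq_one u
  -- `u` acts fixed-point-freely
  have hfix : ∀ z ∈ NN h, u * z = z * u → z = 1 := by
    intro z hz huz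
    by_contra hz1
    obtain ⟨k, hk⟩ := (IsPGroup.iff_orderOf.1 (h.isPGroup_centralizer hNp hz hz1))
      ⟨u, by rw [mem_centralizer_singleton_iff]; exact huz⟩
    rw [Subgroup.orderOf_mk, hu] at hk
    have h1 : 2 ∣ p ^ k := by rw [← hk]
    exact hp2 ((Nat.prime_dvd_prime_iff_eq Nat.prime_two hp.out).1 (Nat.prime_two.dvd_of_dvd_pow h1)).symm
  have hinv : u⁻¹ = u := inv_eq_of_mul_eq_one_left huu
  have hconj : ∀ z ∈ NN h, u * z * u⁻¹ ∈ NN h := fun z hz => h.normal.conj_mem z hz u
  have hinvert : ∀ z ∈ NN h, u * z * u⁻¹ = z⁻¹ := by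
    intro z hz
    have h1 : z * (u * z * u⁻¹) = 1 := by
      apply hfix _ ((NN h).mul_mem hz (hconj z hz))
      have h2 : z * (u * z * u⁻¹) = (u * z * u⁻¹) * z := h.comm_NN hz (hconj z hz)
      calc u * (z * (u * z * u⁻¹)) = u * ((u * z * u⁻¹) * z) := by rw [h2]
        _ = (u * u) * z * u⁻¹ * z := by group
        _ = z * u⁻¹ * z := by rw [huu, one_mul]
        _ = z * u * z := by rw [hinv]
        _ = z * (u * z * u⁻¹) * u := by group
    exact (inv_eq_of_mul_eq_one_right h1).symm
  set C : Subgroup G := centralizer ({u} : Set G) with hC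
  have hmemC : ∀ g, g ∈ C ↔ g * u = u * g := fun g => by rw [hC, mem_centralizer_singleton_iff]
  have hNC : NN h ⊓ C = ⊥ := by
    rw [eq_bot_iff]
    rintro z ⟨hz, hzC⟩
    exact mem_bot.2 (hfix z hz ((hmemC z).1 hzC).symm)
  -- `G = N C`
  have hGNC : ∀ g : G, ∃ n ∈ NN h, ∃ c ∈ C, n * c = g := by
    intro g
    -- `g u g⁻¹ = u n`
    set w := u⁻¹ * (g * u * g⁻¹) with hw
    have hwN : w ∈ NN h := by
      apply hcent
      rw [mem_centralizer_iff]
      intro z hz
      have h1 : g * u * g⁻¹ * z * (g * u * g⁻¹)⁻¹ = z⁻¹ := by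
        have h2 := h.normal.conj_mem z hz g⁻¹
        rw [inv_inv] at h2
        calc g * u * g⁻¹ * z * (g * u * g⁻¹)⁻¹ = g * (u * (g⁻¹ * z * g) * u⁻¹) * g⁻¹ := by group
          _ = g * (g⁻¹ * z * g)⁻¹ * g⁻¹ := by rw [hinvert _ h2]
          _ = z⁻¹ := by group
      have h3 : w * z * w⁻¹ = z := by
        have h4 := hinvert z⁻¹ ((NN h).inv_mem hz)
        rw [inv_inv, ← hinv, inv_inv] at h4
        calc w * z * w⁻¹ = u⁻¹ * (g * u * g⁻¹ * z * (g * u * g⁻¹)⁻¹) * u := by rw [hw]; group
          _ = u⁻¹ * z⁻¹ * u := by rw [h1]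
          _ = z := h4
      exact (mul_inv_eq_iff_eq_mul.1 h3).symm
    -- square roots in `N`
    obtain ⟨v, hv, hvw⟩ : ∃ v ∈ NN h, v * v = w⁻¹ := by
      have h1 : (Nat.card (NN h)).Coprime 2 := by
        rw [h.card_NN, hn]
        exact Nat.Coprime.pow_left _ (Nat.coprime_two_right.2 hpodd)
      have h2 := (powCoprime h1).surjective ⟨w⁻¹, (NN h).inv_mem hwN⟩
      obtain ⟨v, hv⟩ := h2
      refine ⟨v, v.2, ?_⟩
      have h3 := congrArg Subtype.val hv
      rw [powCoprime_apply] at h3
      simpa [pow_two] using h3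
    refine ⟨v, hv, v⁻¹ * g, ?_, by group⟩
    rw [hmemC]
    -- `v u v⁻¹ = u v⁻² = u w = g u g⁻¹`
    have h1 : v * u * v⁻¹ = g * u * g⁻¹ := by
      have h2 := hinvert v hv
      have h3 : v * u = u * v⁻¹ := by
        have h4 : u * v⁻¹ * u⁻¹ = v := by
          have := hinvert v⁻¹ ((NN h).inv_mem hv)
          rwa [inv_inv] at this
        calc v * u = (u * v⁻¹ * u⁻¹) * u := by rw [h4]
          _ = u * v⁻¹ := by group
      calc v * u * v⁻¹ = u * v⁻¹ * v⁻¹ := by rw [h3]
        _ = u * (v * v)⁻¹ := by group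
        _ = u * w := by rw [hvw, inv_inv]
        _ = g * u * g⁻¹ := by rw [hw]; group
    calc v⁻¹ * g * u = v⁻¹ * (g * u * g⁻¹) * g := by group
      _ = v⁻¹ * (v * u * v⁻¹) * g := by rw [h1]
      _ = u * (v⁻¹ * g) := by group
  have hcardG : Nat.card G = Nat.card (NN h) * Nat.card C := by
    have h1 : Nat.card (NN h ⊔ C : Subgroup G) = Nat.card (NN h) * Nat.card C := by
      apply SubgroupTools.card_sup_of_disjoint
      · rw [normalizer_eq_top]; exact le_top
      · rw [disjoint_iff]; exact hNC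
    have h2 : NN h ⊔ C = ⊤ := by
      rw [eq_top_iff]
      intro g _
      obtain ⟨n, hn, c, hc, rfl⟩ := hGNC g
      exact mul_mem (mem_sup_left hn) (mem_sup_right hc)
    rw [h2, Subgroup.card_top] at h1
    exact h1
  -- `p ∤ |C|`
  have hpC : ¬ p ∣ Nat.card C := by
    intro hpC
    obtain ⟨P₀⟩ : Nonempty (Sylow p C) := inferInstance
    set R : Subgroup G := (P₀ : Subgroup C).map C.subtype with hR
    have hRp : IsPGroup p R := P₀.isPGroup'.map _
    obtain ⟨Q, hQ⟩ := hRp.exists_le_sylow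
    have hRC : R ≤ C := map_subtype_le _
    have hNQ := h.NN_le hNp Q
    -- `|Q| = |R| |N|`
    have hcardR : Nat.card R = Nat.card (P₀ : Subgroup C) :=
      Nat.card_congr ((P₀ : Subgroup C).equivMapOfInjective C.subtype C.subtype_injective).symm.toEquiv
    have hcardQ : Nat.card (Q : Subgroup G) = Nat.card R * Nat.card (NN h) := by
      rw [Q.card_eq_multiplicity, hcardR, P₀.card_eq_multiplicity, hcardG, h.card_NN, hn,
        Nat.factorization_mul (pow_ne_zero _ hp.out.ne_zero) Nat.card_pos.ne', hp.out.factorization_pow]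
      simp only [Finsupp.coe_add, Pi.add_apply, Finsupp.single_eq_same]
      rw [pow_add, mul_comm]
    have hRne : R ≠ ⊥ := by
      intro h1
      have h2 : Nat.card (P₀ : Subgroup C) = 1 := by rw [← hcardR, h1, Subgroup.card_bot]
      rw [P₀.card_eq_multiplicity] at h2
      have h3 := hp.out.factorization_pos_of_dvd Nat.card_pos.ne' hpC
      have h4 := Nat.one_lt_pow h3.ne' hp.out.one_lt
      omega
    -- central element
    haveI : Nontrivial R := (Subgroup.nontrivial_iff_ne_bot R).2 hRne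
    haveI := hRp.center_nontrivial
    obtain ⟨⟨y, hy⟩, hy1⟩ := exists_ne (1 : Subgroup.center R)
    have hyR : (y : G) ∈ R := y.2
    have hy1' : (y : G) ≠ 1 := fun h1 => hy1 (Subtype.ext (Subtype.ext h1))
    have hyN : (y : G) ∉ NN h := by
      intro h1
      have : (y : G) ∈ NN h ⊓ C := ⟨h1, hRC hyR⟩
      rw [hNC, mem_bot] at this
      exact hy1' this
    -- an element of `N` centralized by `Q`
    haveI : Nontrivial (Q : Subgroup G) :=
      ⟨⟨⟨x, hNQ h.x_mem⟩, 1, fun h1 => h.x1 (congrArg Subtype.val h1)⟩⟩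
    haveI := Q.isPGroup'.center_nontrivial
    obtain ⟨⟨z, hz⟩, hz1⟩ := exists_ne (1 : Subgroup.center (Q : Subgroup G))
    have hzN : (z : G) ∈ NN h := h.center_le hNp Q ⟨z, hz, rfl⟩
    have hz1' : (z : G) ≠ 1 := fun h1 => hz1 (Subtype.ext (Subtype.ext h1))
    have h1 := h.card_centralizer_le hNp Q hyN
    have h2 : R < (Q : Subgroup G) ⊓ centralizer ({(y : G)} : Set G) := by
      apply lt_of_le_of_ne
      · intro r hr
        refine mem_inf.2 ⟨hQ hr, ?_⟩
        rw [mem_centralizer_singleton_iff]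
        exact congrArg Subtype.val (Subgroup.mem_center_iff.1 hy ⟨r, hr⟩)
      · intro h3
        have h4 : (z : G) ∈ R := by
          rw [h3]
          refine mem_inf.2 ⟨z.2, ?_⟩
          rw [mem_centralizer_singleton_iff]
          exact (congrArg Subtype.val (Subgroup.mem_center_iff.1 hz ⟨y, hQ hyR⟩)).symm
        have : (z : G) ∈ NN h ⊓ C := ⟨hzN, hRC h4⟩
        rw [hNC, mem_bot] at this
        exact hz1' this
    have h3 : Nat.card R < Nat.card ((Q : Subgroup G) ⊓ centralizer ({(y : G)} : Set G) : Subgroup G) :=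
      lt_of_le_of_ne (Subgroup.card_le_of_le h2.le)
        (fun h4 => h2.ne (Subgroup.eq_of_le_of_card_ge h2.le h4.ge))
    rw [hcardQ] at h1
    have h4 := Nat.le_of_mul_le_mul_right h1 Nat.card_pos
    omega
  -- conclusion
  symm
  apply Subgroup.eq_of_le_of_card_ge (h.NN_le hNp P)
  rw [P.card_eq_multiplicity, hcardG, h.card_NN, hn,
    Nat.factorization_mul (pow_ne_zero _ hp.out.ne_zero) Nat.card_pos.ne', hp.out.factorization_pow,
    Finsupp.add_apply, Finsupp.single_eq_same, Nat.factorization_eq_zero_of_not_dvd hpC, add_zero]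

theorem frobenius (hG2 : 2 < Nat.card G) {p : ℕ} [hp : Fact p.Prime] (hNp : IsPGroup p (NN h))
    (hO : NN h = pCore p G) : ∃ H : Subgroup G, IsFrobeniusComplement H ∧
      frobeniusKernel H = (NN h : Set G) ∧ Nat.card H + 1 = Nat.card (NN h) := by
  classical
  haveI := h.normal
  obtain ⟨P⟩ : Nonempty (Sylow p G) := inferInstance
  have hP : (P : Subgroup G) = NN h := by
    by_cases hp2 : p = 2
    · subst hp2
      exact h.sylow_two hNp hO P
    · exact h.sylow_odd hp2 hNp hO P
  obtain ⟨m, hm0, hm, hx, hG⟩ := h.exists_m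
  obtain ⟨n, hn0, hn⟩ := h.card_pow hNp
  obtain ⟨a, rfl⟩ := h.m_pow hNp hm0 hm hG
  have hk := kk_pos x
  have hpk := h.not_dvd_kk hNp
  have hm1 : p ^ a = 1 := by
    have h1 : Nat.card (NN h) = p ^ (a * 2 + n) := by
      rw [← hP, P.card_eq_multiplicity, hG, hn, ← pow_mul]
      congr 1
      rw [Nat.factorization_mul (mul_ne_zero (pow_ne_zero _ hp.out.ne_zero) hk.ne') (pow_ne_zero _ hp.out.ne_zero),
        Nat.factorization_mul (pow_ne_zero _ hp.out.ne_zero) hk.ne', hp.out.factorization_pow, hp.out.factorization_pow]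
      simp only [Finsupp.coe_add, Pi.add_apply, Finsupp.single_eq_same]
      rw [Nat.factorization_eq_zero_of_not_dvd hpk, add_zero]
    rw [h.card_NN, hn] at h1
    have h2 := Nat.pow_right_injective hp.out.two_le h1
    have h3 : a = 0 := by omega
    rw [h3, pow_zero]
  rw [hm1, one_pow, one_mul] at hG
  have hidx : (NN h).index = kk x := by
    have h1 := (NN h).card_mul_index
    rw [h.card_NN, hG, mul_comm (kk x)] at h1
    exact Nat.eq_of_mul_eq_mul_left (Nat.succ_pos _) h1
  have hcop : Nat.Coprime (Nat.card (NN h)) (NN h).index := by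
    rw [hidx, h.card_NN, hn]
    exact Nat.Coprime.pow_left _ ((hp.out.coprime_iff_not_dvd).2 hpk)
  obtain ⟨H, hH⟩ := Subgroup.exists_right_complement'_of_coprime hcop
  have hHcard : Nat.card H = kk x := by
    rw [← hidx, hH.symm.index_eq_card]
  have hHne : H ≠ ⊥ := by
    intro h1
    rw [h1, Subgroup.card_bot] at hHcard
    rw [← hHcard] at hG
    omega
  have hF : IsFrobeniusComplement H := by
    rw [FrobGroup.isFrobeniusComplement_iff hH h.NN_ne_bot hHne]
    intro c hc hc1
    rw [eq_bot_iff]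
    rintro z ⟨hz, hzc⟩
    rw [mem_bot]
    by_contra hz1
    have hz' : z ∈ NN h := hz
    have h1 : c ∈ centralizer ({z} : Set G) := by
      have h2 : z ∈ centralizer ({c} : Set G) := hzc
      rw [mem_centralizer_singleton_iff] at h2 ⊢
      exact h2.symm
    obtain ⟨S, hS⟩ := h.centralizer_sylow hNp hz' hz1
    have h2 : (S : Subgroup G) = NN h := by
      by_cases hp2 : p = 2
      · subst hp2
        exact h.sylow_two hNp hO S
      · exact h.sylow_odd hp2 hNp hO S
    rw [hS, h2] at h1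
    have h3 : c ∈ NN h ⊓ H := ⟨h1, hc⟩
    rw [hH.disjoint.eq_bot, mem_bot] at h3
    exact hc1 h3
  exact ⟨H, hF, FrobGroup.kernel_eq_of_complement hH hF, by rw [hHcard, h.card_NN]⟩

end Gag

end Cfsg.Agent.Lib.Gagola
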