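import Cfsg.Agent.S4583
import Cfsg.Agent.S0865
import Cfsg.Agent.Lib.BlockPow
import Cfsg.Agent.Lib.CharBasic2
import Cfsg.Agent.Lib.SubgroupTools

/-!
# Galois-fixed characters of degree prime to `p` in the principal block, above linear characters of a
Sylow `p`-subgroup (helper95)
-/

set_option autoImplicit false

namespace Cfsg.Agent.Lib.GalPrinc

open Cfsg Cfsg.Agent.Lib Cfsg.Agent.Lib.CharBasic Cfsg.Agent.Lib.BlockRing Cfsg.Agent.Lib.BlockIdem
open Cfsg.Agent.Lib.BlockGA Cfsg.Agent.Lib.BlockCover Cfsg.Agent.Lib.BlockRes Cfsg.Agent.Lib.BlockTop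
open Cfsg.Agent.Lib.BlockDeg Cfsg.Agent.Lib.H76Blk Cfsg.Agent.Lib.H76Blk2
open Cfsg.Agent.Lib.H76Blk3 Cfsg.Agent.Lib.H76Dade
open scoped ComplexConjugate

universe u

variable {G : Type u} [Group G] [Finite G] {p : ℕ} {M : Ideal AlgInt}

/-- the degree of the principal block part of an induced character is prime to `p` -/
theorem not_idl_dsum {G : Type u} [Group G] [Fintype G] {p : ℕ} {M : Ideal AlgInt} (hM : IsPModular p M) {P L : Subgroup G} (hP : IsPGroup p P) (hPi : ¬ p ∣ P.index) (hPL : P ≤ L)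
    (hCL : Subgroup.centralizer (P : Set G) ≤ L) [Fintype L] {η : IrrCharacter L} (hη : η ∈ principalBlock M L)
    (hdeg : ¬ p ∣ charDegree (η : L → ℂ)) : ¬ MemLocalIdeal M (dsum M L (η : L → ℂ)) := by
  classical
  have := isPrime hM
  have hc := eB_mem_center (principalBlock M G)
  have hl : LocA M (eB (principalBlock M G)) := locA_eB isPBlock_principal
  have h1 := Cfsg.Agent.S4583.idl_aug_sub hM hP hPL hCL hc hl
  rw [omega_eB_mem (tr_mem M)] at h1
  have h2 : MemLocalIdeal M (omega (tr L : L → ℂ) (resH L (eB (principalBlock M G))) -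
      omega (η : L → ℂ) (resH L (eB (principalBlock M G)))) :=
    sameBlock_omega (tr L).2.isClassFunction η.2.isClassFunction hη (resH_center hc) (locA_resH hl)
  have h3 := idl_sub_trans h1 h2
  have h4 : ¬ MemLocalIdeal M (omega (η : L → ℂ) (resH L (eB (principalBlock M G)))) := by
    intro h
    have := idl_add h3 h
    rw [sub_add_cancel] at this
    exact one_not_idl this
  have h5 := card_mul_omega (M := M) (G := G) η
  have hηd : (η : L → ℂ) 1 = (charDegree (η : L → ℂ) : ℂ) := (charDegree_cast_irr η).symm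
  have h6 : dsum M L (η : L → ℂ) = (L.index : ℂ) * omega (η : L → ℂ) (resH L (eB (principalBlock M G))) * (charDegree (η : L → ℂ) : ℂ) := by
    rw [h5, ← hηd, div_mul_cancel₀ _ η.2.one_ne_zero]
  have hLi : ¬ p ∣ L.index := fun h => hPi (h.trans (Subgroup.index_dvd_of_le hPL))
  rw [h6]
  intro h
  rw [idl_mul_iff (loc_mul (loc_natCast _) (loc_omega η.2 (resH_center hc) (locA_resH hl))) (loc_natCast _)] at h
  rcases h with h | h
  · rw [idl_mul_iff (loc_natCast _) (loc_omega η.2 (resH_center hc) (locA_resH hl))] at h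
    rcases h with h | h
    · exact hLi ((idl_natCast_iff hM _).1 h)
    · exact h4 h
  · exact hdeg ((idl_natCast_iff hM _).1 h)

omit [Finite G] in
/-- the power map on a subgroup -/
theorem sum_pow_subgroup (L : Subgroup G) [Fintype L] {k : ℕ} (hk : k.Coprime (Nat.card G)) (f : L → ℂ) :
    ∑ x : L, f (x ^ k) = ∑ x : L, f x := by
  have hk' : (Nat.card L).Coprime k := (Nat.Coprime.coprime_dvd_right (Subgroup.card_subgroup_dvd_card L) hk).symm
  exact Equiv.sum_comp (powCoprime hk') f

theorem mem_principal_powIrr_iff {k : ℕ} (hk : k.Coprime (Nat.card G)) (χ : IrrCharacter G) :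
    BlockPow.powIrr hk χ ∈ principalBlock M G ↔ χ ∈ principalBlock M G := by
  constructor
  · intro h
    rw [← BlockPow.image_principal (M := M) hk] at h
    obtain ⟨ψ, hψ, h1⟩ := h
    rw [← BlockPow.powIrr_injective hk h1]
    exact hψ
  · intro h
    rw [← BlockPow.image_principal (M := M) hk]
    exact ⟨χ, h, rfl⟩

/-- The permutation of the irreducible characters given by a power map. -/
noncomputable def powPerm {k : ℕ} (hk : k.Coprime (Nat.card G)) : Equiv.Perm (IrrCharacter G) :=
  Equiv.ofBijective (BlockPow.powIrr hk) (Finite.injective_iff_bijective.mp (BlockPow.powIrr_injective hk))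

theorem powPerm_apply {k : ℕ} (hk : k.Coprime (Nat.card G)) (χ : IrrCharacter G) :
    powPerm hk χ = BlockPow.powIrr hk χ := rfl

theorem powPerm_pow {k : ℕ} (hk : k.Coprime (Nat.card G)) (n : ℕ) (χ : IrrCharacter G) (g : G) :
    ((powPerm hk ^ n) χ : G → ℂ) g = (χ : G → ℂ) (g ^ k ^ n) := by
  induction n generalizing g with
  | zero => simp
  | succ n ih =>
    rw [pow_succ', Equiv.Perm.mul_apply, powPerm_apply, BlockPow.powIrr_apply, ih, ← pow_mul, pow_succ, mul_comm]

/-- a Galois-fixed character of degree prime to `p` in the principal block above a Galois-fixed character in the principal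
block of `L ≥ P C_G(P)` -/
theorem exists_fixed_above (hM : IsPModular p M) {P L : Subgroup G} (hP : IsPGroup p P) (hPi : ¬ p ∣ P.index) (hPL : P ≤ L)
    (hCL : Subgroup.centralizer (P : Set G) ≤ L) [Fintype L] {η : IrrCharacter L} (hη : η ∈ principalBlock M L)
    (hdeg : ¬ p ∣ charDegree (η : L → ℂ)) {k n : ℕ} (hk : k.Coprime (Nat.card G)) (hkn : ∀ g : G, g ^ (k ^ p ^ n) = g)
    (hηk : ∀ x : L, (η : L → ℂ) (x ^ k) = (η : L → ℂ) x) :
    ∃ χ : IrrCharacter G, χ ∈ principalBlock M G ∧ ¬ p ∣ charDegree (χ : G → ℂ) ∧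
      (∀ g : G, (χ : G → ℂ) (g ^ k) = (χ : G → ℂ) g) ∧ classInner (fun x : L => (χ : G → ℂ) x) (η : L → ℂ) ≠ 0 := by
  classical
  have := isPrime hM
  have := Fintype.ofFinite G
  have : Fact p.Prime := ⟨hM.1⟩
  have h0 := not_idl_dsum hM hP hPi hPL hCL hη hdeg
  have hσ : (powPerm hk) ^ (p ^ n) = 1 := by
    apply Equiv.ext
    intro χ
    apply Subtype.ext
    funext g
    rw [powPerm_pow, hkn]
    rfl
  have hS : IsPGroup p (Subgroup.zpowers (powPerm hk)) := by
    apply IsPGroup.of_card (n := (Nat.card (Subgroup.zpowers (powPerm hk))).factorization p)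
    rw [Nat.card_zpowers]
    obtain ⟨j, -, hj⟩ := (Nat.dvd_prime_pow hM.1).1 (orderOf_dvd_of_pow_eq_one hσ)
    rw [hj, hM.1.factorization_pow, Finsupp.single_eq_same]
  let f : IrrCharacter G → ℂ := fun χ => if χ ∈ principalBlock M G then
    (χ : G → ℂ) 1 * classInner (η : L → ℂ) (fun x : L => (χ : G → ℂ) x) else 0
  have hf1 : ∀ χ : IrrCharacter G, f (powPerm hk χ) = f χ := by
    intro χ
    show (if BlockPow.powIrr hk χ ∈ principalBlock M G then _ else _) = (if χ ∈ principalBlock M G then _ else _)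
    rw [powPerm_apply, mem_principal_powIrr_iff hk]
    split_ifs with h
    · rw [BlockPow.powIrr_apply, one_pow]
      congr 1
      rw [classInner, classInner]
      congr 1
      rw [← sum_pow_subgroup L hk (fun x => (η : L → ℂ) x * conj ((χ : G → ℂ) x))]
      refine Finset.sum_congr rfl fun x _ => ?_
      rw [hηk, BlockPow.powIrr_apply]
      rfl
    · rfl
  have hf2 : ∀ (j : ℕ) (χ : IrrCharacter G), f ((powPerm hk ^ j) χ) = f χ := by
    intro j
    induction j with
    | zero => intro χ; simp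
    | succ j ih =>
      intro χ
      rw [pow_succ', Equiv.Perm.mul_apply, hf1, ih]
  have h1 := BlockRes.idl_sum_sub_fixed (X := IrrCharacter G) (P := Subgroup.zpowers (powPerm hk)) hM hS f (by
    rintro ⟨u, hu⟩ χ
    obtain ⟨j, rfl⟩ := (isOfFinOrder_of_finite (powPerm hk)).mem_powers_iff_mem_zpowers.mpr hu
    exact hf2 j χ) (by
    intro χ
    show MemLocalRing M (if χ ∈ principalBlock M G then _ else _)
    split_ifs
    · rw [← charDegree_cast_irr]
      obtain ⟨m, hm⟩ := η.2.isCharacter.classInner_nat (χ.2.isCharacter.restrict L)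
      rw [hm]
      exact loc_mul (loc_natCast _) (loc_natCast _)
    · exact loc_zero)
  have h2 : ∑ χ, f χ = dsum M L (η : L → ℂ) := by
    rw [dsum]
  rw [h2] at h1
  by_contra hcon
  push Not at hcon
  apply h0
  rw [idl_congr h1]
  apply idl_sum
  intro χ hχfix
  rw [Finset.mem_filter] at hχfix
  have hfix : ∀ g : G, (χ : G → ℂ) (g ^ k) = (χ : G → ℂ) g := by
    intro g
    have h3 := hχfix.2 ⟨powPerm hk, Subgroup.mem_zpowers _⟩
    have h4 : powPerm hk χ = χ := h3
    rw [← BlockPow.powIrr_apply hk, ← powPerm_apply, h4]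
  show MemLocalIdeal M (if χ ∈ principalBlock M G then _ else _)
  split_ifs with hχ
  · by_cases hd : p ∣ charDegree (χ : G → ℂ)
    · rw [← charDegree_cast_irr]
      obtain ⟨m, hm⟩ := η.2.isCharacter.classInner_nat (χ.2.isCharacter.restrict L)
      rw [hm]
      exact idl_mul_right ((idl_natCast_iff hM _).2 hd) (loc_natCast _)
    · have h8 := hcon χ hχ hd hfix
      rw [← conj_classInner, h8, map_zero, mul_zero]
      exact idl_zero
  · exact idl_zero

/-- a linear character of `P` extends to a character in the principal block of `P C_G(P)`, with the same order -/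
theorem exists_extension_centralizer (hM : IsPModular p M) (P : Subgroup G) (hP : IsPGroup p P) (hPi : ¬ p ∣ P.index)
    (μ : P →* ℂˣ) : ∃ (L : Subgroup G) (hPL : P ≤ L) (_ : Subgroup.centralizer (P : Set G) ≤ L) (η : L →* ℂˣ),
      (∀ x : P, η ⟨x, hPL x.2⟩ = μ x) ∧ orderOf η = orderOf μ ∧ ∃ j, orderOf η = p ^ j := by
  classical
  have : Fact p.Prime := ⟨hM.1⟩
  obtain ⟨L, hL⟩ : ∃ L : Subgroup G, L = P ⊔ Subgroup.centralizer (P : Set G) := ⟨_, rfl⟩
  have hPL : P ≤ L := by rw [hL]; exact le_sup_left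
  have hCL : Subgroup.centralizer (P : Set G) ≤ L := by rw [hL]; exact le_sup_right
  have hLN : L ≤ Subgroup.normalizer (P : Set G) := by
    rw [hL]
    exact sup_le Subgroup.le_normalizer (Subgroup.centralizer_le_normalizer _)
  have hn : (P.subgroupOf L).Normal := (Subgroup.normal_subgroupOf_iff_le_normalizer hPL).mpr hLN
  let e : P.subgroupOf L ≃* P := Subgroup.subgroupOfEquivOfLe hPL
  let lam : P.subgroupOf L →* ℂˣ := μ.comp e.toMonoidHom
  have hordμ : orderOf lam = orderOf μ := by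
    apply orderOf_eq_orderOf_iff.mpr
    intro n
    constructor
    · intro h
      ext x
      have h1 := congrArg (fun f : P.subgroupOf L →* ℂˣ => f (e.symm x)) h
      simp only [MonoidHom.pow_apply, MonoidHom.one_apply, lam, MonoidHom.comp_apply, MulEquiv.coe_toMonoidHom,
        MulEquiv.apply_symm_apply] at h1
      rw [MonoidHom.pow_apply, MonoidHom.one_apply, h1]
    · intro h
      ext x
      have h1 := congrArg (fun f : P →* ℂˣ => f (e x)) h
      simp only [MonoidHom.pow_apply, MonoidHom.one_apply] at h1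
      rw [MonoidHom.pow_apply, MonoidHom.one_apply]
      show ((μ (e x) ^ n : ℂˣ) : ℂ) = _
      rw [h1]
  obtain ⟨a, ha⟩ := IsPGroup.iff_card.mp hP
  have hordp : orderOf μ ∣ p ^ a := by
    apply orderOf_dvd_of_pow_eq_one
    ext x
    rw [MonoidHom.pow_apply, ← map_pow, ← ha, pow_card_eq_one', map_one]
    rfl
  have hlamc : IsCharacter (P.subgroupOf L) (fun x => (lam x : ℂ)) := isCharacter_of_unitsHom lam
  have hidx : ¬ p ∣ (P.subgroupOf L).index := fun h => hPi (h.trans (Subgroup.relIndex_dvd_index_of_le hPL))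
  have hcoe : orderOf (fun x : P.subgroupOf L => (lam x : ℂ)) = orderOf lam := LinExt.orderOf_coe lam
  have hcop : Nat.Coprime (P.subgroupOf L).index (orderOf (fun x : P.subgroupOf L => (lam x : ℂ))) := by
    rw [hcoe, hordμ]
    exact Nat.Coprime.coprime_dvd_right hordp (Nat.Coprime.pow_right _ ((hM.1.coprime_iff_not_dvd.mpr hidx).symm))
  obtain ⟨ν, ⟨hν, hν1, hνe, hνo⟩, -⟩ := Cfsg.Agent.S0865.result (P.subgroupOf L) (fun x => (lam x : ℂ))
    ⟨hlamc, by simp⟩ (by
      intro g n
      have hg : (g : G) ∈ P ⊔ Subgroup.centralizer (P : Set G) := by rw [← hL]; exact g.2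
      rw [SubgroupTools.mem_sup_of_le_normalizer (Subgroup.centralizer_le_normalizer _)] at hg
      obtain ⟨x, hx, c, hc, hxc⟩ := hg
      have h1 : (⟨g * n * g⁻¹, hn.conj_mem n n.2 g⟩ : P.subgroupOf L) =
          ⟨⟨x, hPL hx⟩, hx⟩ * n * (⟨⟨x, hPL hx⟩, hx⟩ : P.subgroupOf L)⁻¹ := by
        apply Subtype.ext
        apply Subtype.ext
        show (g : G) * (n : L) * (g : G)⁻¹ = x * (n : L) * x⁻¹
        have h2 := Subgroup.mem_centralizer_iff.mp hc ((n : L) : G) n.2
        rw [← hxc]
        calc x * c * ((n : L) : G) * (x * c)⁻¹ = x * (c * ((n : L) : G)) * c⁻¹ * x⁻¹ := by group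
          _ = x * (((n : L) : G) * c) * c⁻¹ * x⁻¹ := by rw [h2]
          _ = x * ((n : L) : G) * x⁻¹ := by group
      rw [h1, map_mul, map_mul, map_inv, mul_right_comm, mul_inv_cancel, one_mul]) hcop
  obtain ⟨η, hη⟩ := hν.exists_hom hν1
  have hνη : ν = fun x => (η x : ℂ) := funext hη
  have hηo : orderOf η = orderOf μ := by
    rw [← LinExt.orderOf_coe η, ← hνη, hνo, hcoe, hordμ]
  refine ⟨L, hPL, hCL, η, ?_, hηo, ?_⟩
  · intro x
    apply Units.ext
    rw [← hη]
    have h1 := hνe ⟨⟨x, hPL x.2⟩, x.2⟩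
    exact h1
  · rw [hηo]
    obtain ⟨j, -, hj⟩ := (Nat.dvd_prime_pow hM.1).1 hordp
    exact ⟨j, hj⟩

/-- **Main tool**: a Galois-fixed character of degree prime to `p` in the principal block above a Galois-fixed linear
character of a Sylow `p`-subgroup -/
theorem exists_fixed_above_linear (hM : IsPModular p M) (P : Subgroup G) (hP : IsPGroup p P) (hPi : ¬ p ∣ P.index)
    [Fintype P] (μ : P →* ℂˣ) {k n : ℕ} (hk : k.Coprime (Nat.card G)) (hkn : ∀ g : G, g ^ (k ^ p ^ n) = g)
    (hμk : ∀ z : ℂˣ, z ^ orderOf μ = 1 → z ^ k = z) :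
    ∃ χ : IrrCharacter G, χ ∈ principalBlock M G ∧ ¬ p ∣ charDegree (χ : G → ℂ) ∧
      (∀ g : G, (χ : G → ℂ) (g ^ k) = (χ : G → ℂ) g) ∧
      classInner (fun x : P => (χ : G → ℂ) x) (fun x : P => (μ x : ℂ)) ≠ 0 := by
  classical
  have := isPrime hM
  obtain ⟨L, hPL, hCL, η, hηe, hηo, j, hj⟩ := exists_extension_centralizer hM P hP hPi μ
  have := Fintype.ofFinite L
  have hηc : IsCharacter L (fun x => (η x : ℂ)) := isCharacter_of_unitsHom η
  have hηi : IsIrrCharacter L (fun x => (η x : ℂ)) := hηc.isIrr_of_one_eq_one (by simp)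
  have hηpow : ∀ x : L, η x ^ orderOf η = 1 := by
    intro x
    rw [← MonoidHom.pow_apply, pow_orderOf_eq_one, MonoidHom.one_apply]
  have hη : (⟨_, hηi⟩ : IrrCharacter L) ∈ principalBlock M L := by
    intro x
    show MemLocalIdeal M (centralChar (fun _ : L => (1 : ℂ)) x - centralChar (fun x : L => (η x : ℂ)) x)
    rw [centralChar, centralChar, map_one, Units.val_one, div_one, div_one, mul_one, ← mul_one_sub]
    apply idl_mul_left (loc_natCast _)
    apply idl_sub_symm
    apply idl_sub_one_of_pow hM (k := j)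
    rw [← hj, ← Units.val_pow_eq_pow_val, hηpow, Units.val_one]
  have hdeg : ¬ p ∣ charDegree ((⟨_, hηi⟩ : IrrCharacter L) : L → ℂ) := by
    have h1 := charDegree_cast hηc
    rw [map_one, Units.val_one] at h1
    have h2 : charDegree (fun x : L => (η x : ℂ)) = 1 := by exact_mod_cast h1
    show ¬ p ∣ charDegree (fun x : L => (η x : ℂ))
    rw [h2]
    exact hM.1.one_lt.ne' ∘ Nat.dvd_one.mp
  obtain ⟨χ, h1, h2, h3, h4⟩ := exists_fixed_above hM hP hPi hPL hCL hη hdeg hk hkn (by
    intro x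
    show ((η (x ^ k) : ℂˣ) : ℂ) = ((η x : ℂˣ) : ℂ)
    rw [map_pow, hμk (η x) (by rw [← hηo]; exact hηpow x)])
  refine ⟨χ, h1, h2, h3, ?_⟩
  obtain ⟨b, hb, hbe⟩ := Clifford.degree_le_of_constituent (χ.2.isCharacter.restrict L) hηi h4
  let ι : P →* L := Subgroup.inclusion hPL
  have hbN : IsCharacter P (fun n => b (ι n)) := hb.comp ι
  have hμc : IsCharacter P (fun x => (μ x : ℂ)) := isCharacter_of_unitsHom μ
  have hμi : IsIrrCharacter P (fun x => (μ x : ℂ)) := hμc.isIrr_of_one_eq_one (by simp)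
  have h5 : (fun n : P => (χ : G → ℂ) n) = (fun x : P => (μ x : ℂ)) + fun n => b (ι n) := by
    funext n
    have h6 := congrFun hbe (ι n)
    rw [Pi.add_apply] at h6 ⊢
    rw [← hηe n]
    exact h6
  rw [h5, classInner_add_left, hμi.classInner_self]
  obtain ⟨m, hm⟩ := hbN.classInner_nat hμi.isCharacter
  rw [hm]
  have : ((1 + m : ℕ) : ℂ) ≠ 0 := by
    rw [Nat.cast_ne_zero]; omega
  push_cast at this
  exact this

end Cfsg.Agent.Lib.GalPrinc
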