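import Cfsg.Agent.Lib.CharBasic2
import Cfsg.Agent.Lib.CharGalois
import Cfsg.Agent.Lib.CharCentral
import Cfsg.Agent.Lib.CosetAvg
set_option autoImplicit false

/-!
# Galois conjugates and means (helper83)

`card_le_sum`: a character with positive real values on a set closed under `g ↦ g^k`
(`k` prime to `|G|`) has mean at least one on this set.
-/

namespace Cfsg.Agent.Lib.GaloisMean
open Cfsg
open Cfsg.Agent.Lib.CharBasic Cfsg.Agent.Lib.CharGalois Cfsg.Agent.Lib.CharCentral
open scoped ComplexConjugate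

variable {G : Type*} [Group G]

/-- the product of the values of a character over a Galois stable set is an integer -/
theorem exists_int_prod [Finite G] {ψ : G → ℂ} (hψ : IsCharacter G ψ) (S : Finset G)
    (hS : ∀ k : ℕ, k.Coprime (Nat.card G) → ∀ g ∈ S, g ^ k ∈ S) :
    ∃ n : ℤ, ∏ g ∈ S, ψ g = (n : ℂ) := by
  classical
  have hint : IsIntegral ℤ (∏ g ∈ S, ψ g) := by
    refine IsIntegral.prod _ fun g _ => ?_
    obtain ⟨n, ρ, rfl⟩ := hψ
    exact CharValues.isIntegral_character ρ g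
  obtain ⟨q, hq⟩ := exists_rat_of_fixed (hint.tower_top) (fun σ => by
    obtain ⟨k, hk, hσ⟩ := exists_pow_of_ringHom (n := Nat.card G) Nat.card_pos σ
    rw [map_prod]
    have h1 : ∀ g, σ (ψ g) = ψ (g ^ k) := by
      intro g
      apply map_apply_eq hψ σ k g
      intro μ hμ
      apply hσ
      obtain ⟨m, hm⟩ := orderOf_dvd_natCard g
      rw [hm, pow_mul, hμ, one_pow]
    simp only [h1]
    have hinj : Function.Injective (fun g : G => g ^ k) := by
      intro a b hab
      exact (powCoprime (G := G) (n := k) hk.symm).injective (by simpa using hab)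
    have himg : S.image (fun g : G => g ^ k) = S := by
      apply Finset.eq_of_subset_of_card_le
      · intro x hx
        rw [Finset.mem_image] at hx
        obtain ⟨g, hg, rfl⟩ := hx
        exact hS k hk g hg
      · rw [Finset.card_image_of_injective _ hinj]
    conv_rhs => rw [← himg]
    rw [Finset.prod_image (fun a _ b _ h => hinj h)])
  exact exists_int_of_isIntegral_rat hint q hq

theorem card_le_sum [Finite G] {ψ : G → ℂ} (hψ : IsCharacter G ψ) (r : G → ℝ) (S : Finset G)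
    (hS : ∀ k : ℕ, k.Coprime (Nat.card G) → ∀ g ∈ S, g ^ k ∈ S)
    (hr : ∀ g ∈ S, ψ g = (r g : ℂ)) (hpos : ∀ g ∈ S, 0 < r g) :
    (S.card : ℝ) ≤ ∑ g ∈ S, r g ∧ (∑ g ∈ S, r g ≤ S.card → ∀ g ∈ S, r g = 1) := by
  obtain ⟨n, hn⟩ := exists_int_prod hψ S hS
  have h1 : (∏ g ∈ S, r g) = (n : ℝ) := by
    have h2 : ((∏ g ∈ S, r g : ℝ) : ℂ) = ((n : ℝ) : ℂ) := by
      push_cast
      rw [← hn]
      exact Finset.prod_congr rfl fun g hg => (hr g hg).symm
    exact_mod_cast h2
  have h3 : 0 < ∏ g ∈ S, r g := Finset.prod_pos hpos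
  have h4 : 1 ≤ ∏ g ∈ S, r g := by
    rw [h1] at h3 ⊢
    have : 0 < n := by exact_mod_cast h3
    exact_mod_cast this
  have h5 : 0 ≤ ∑ g ∈ S, Real.log (r g) := by
    rw [← Real.log_prod (fun g hg => (hpos g hg).ne')]
    exact Real.log_nonneg h4
  have h6 : ∑ g ∈ S, Real.log (r g) ≤ ∑ g ∈ S, (r g - 1) :=
    Finset.sum_le_sum fun g hg => Real.log_le_sub_one_of_pos (hpos g hg)
  have h7 : ∑ g ∈ S, (r g - 1) = ∑ g ∈ S, r g - S.card := by
    rw [Finset.sum_sub_distrib]; simp
  refine ⟨by linarith, ?_⟩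
  intro hle g hg
  by_contra hne
  have h8 : ∑ g ∈ S, Real.log (r g) < ∑ g ∈ S, (r g - 1) :=
    Finset.sum_lt_sum (fun g hg => Real.log_le_sub_one_of_pos (hpos g hg))
      ⟨g, hg, Real.log_lt_sub_one_of_pos (hpos g hg) hne⟩
  linarith

/-- averaging a character over the cosets of a normal subgroup gives a character -/
theorem isCharacter_avg [Finite G] (N : Subgroup G) [N.Normal] [Fintype N] {ψ : G → ℂ}
    (hψ : IsCharacter G ψ) :
    IsCharacter G (fun g => (Nat.card N : ℂ)⁻¹ * ∑ n : N, ψ (n * g)) := by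
  have := Fintype.ofFinite G
  obtain ⟨c, hc, hs⟩ := hψ.exists_coeff
  have key : ∀ γ : IrrCharacter G,
      IsCharacter G (fun g => (Nat.card N : ℂ)⁻¹ * ∑ n : N, (γ : G → ℂ) (n * g)) := by
    intro γ
    by_cases h : ∃ n : N, (γ : G → ℂ) n ≠ (γ : G → ℂ) 1
    · have h2 : (fun g => (Nat.card N : ℂ)⁻¹ * ∑ n : N, (γ : G → ℂ) (n * g)) = 0 := by
        funext g
        rw [CosetAvg.sum_coset_eq_zero γ.2 h g, mul_zero]; rfl
      rw [h2]; exact isCharacter_zero
    · push Not at h
      have h2 : (fun g => (Nat.card N : ℂ)⁻¹ * ∑ n : N, (γ : G → ℂ) (n * g)) = γ := by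
        funext g
        have h3 : ∀ n : N, (γ : G → ℂ) (n * g) = (γ : G → ℂ) g := fun n =>
          CosetAvg.mul_eq_of_const' γ.2.isCharacter h n g
        simp only [h3, Finset.sum_const, Finset.card_univ, ← Nat.card_eq_fintype_card, nsmul_eq_mul]
        rw [inv_mul_cancel_left₀ (Nat.cast_ne_zero.2 Nat.card_pos.ne')]
      rw [h2]; exact γ.2.isCharacter
  have h2 : (fun g => (Nat.card N : ℂ)⁻¹ * ∑ n : N, ψ (n * g)) =
      ∑ γ : IrrCharacter G, (c γ : ℂ) •
        (fun g => (Nat.card N : ℂ)⁻¹ * ∑ n : N, (γ : G → ℂ) (n * g)) := by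
    funext g
    rw [hs]
    simp only [Finset.sum_apply, Pi.smul_apply, smul_eq_mul]
    rw [Finset.sum_comm, Finset.mul_sum]
    refine Finset.sum_congr rfl fun γ _ => ?_
    rw [← Finset.mul_sum]; ring
  rw [h2]
  apply isCharacter_sum
  intro γ _
  exact (key γ).natCast_smul _

end Cfsg.Agent.Lib.GaloisMean
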