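import Mathlib
import Cfsg.Agent.Lib.QuadStd
import Cfsg.Agent.Lib.QuadForms
import Cfsg.Agent.Lib.QuadNorm

/-!
(helper67) Gauss sums of quadratic forms in characteristic two and the type of a form.
-/

set_option autoImplicit false
set_option linter.unusedSectionVars false

namespace Cfsg.Agent.Lib.GaussSign67

open QuadraticMap Module Cfsg.Agent.Lib.Quad

universe u v w

/-- the sign character of `ZMod 2`. -/
def sg : AddChar (ZMod 2) ℤ where
  toFun x := if x = 0 then 1 else -1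
  map_zero_eq_one' := rfl
  map_add_eq_mul' := by decide

theorem exists_char (F : Type u) [Field F] [CharP F 2] : ∃ χ : AddChar F ℤ, χ ≠ 1 ∧ ∀ x, χ x = 1 ∨ χ x = -1 := by
  let _ : Algebra (ZMod 2) F := ZMod.algebra F 2
  obtain ⟨l, hl⟩ : ∃ l : F →ₗ[ZMod 2] ZMod 2, l 1 ≠ 0 := by
    by_contra hcon
    push Not at hcon
    exact one_ne_zero ((Module.forall_dual_apply_eq_zero_iff (ZMod 2) (1 : F)).1 hcon)
  refine ⟨sg.compAddMonoidHom l.toAddMonoidHom, ?_, ?_⟩
  · intro h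
    have h1 := DFunLike.congr_fun h (1 : F)
    have h2 : sg (l 1) = 1 := h1
    have h3 : ∀ x : ZMod 2, sg x = 1 → x = 0 := by decide
    exact hl (h3 _ h2)
  · intro x
    have h3 : ∀ x : ZMod 2, sg x = 1 ∨ sg x = -1 := by decide
    exact h3 (l x)

variable {F : Type u} [Field F]

/-- Gauss sum. -/
noncomputable def gs (χ : AddChar F ℤ) {X : Type v} (f : X → F) : ℤ := ∑ᶠ x, χ (f x)

variable {χ : AddChar F ℤ}

theorem gs_eq {X : Type v} [Fintype X] (f : X → F) : gs χ f = ∑ x, χ (f x) := finsum_eq_sum_of_fintype _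

theorem gs_equiv {X : Type v} {Y : Type w} (e : X ≃ Y) {f : X → F} {g : Y → F} (h : ∀ x, g (e x) = f x) :
    gs χ f = gs χ g := by
  rw [gs, gs, ← finsum_comp_equiv e]
  simp only [h]

theorem gs_prod {X : Type v} {Y : Type w} [Finite X] [Finite Y] (f : X → F) (g : Y → F) :
    gs χ (fun z : X × Y => f z.1 + g z.2) = gs χ f * gs χ g := by
  have := Fintype.ofFinite X
  have := Fintype.ofFinite Y
  rw [gs_eq, gs_eq, gs_eq, Fintype.sum_prod_type, Finset.sum_mul_sum]
  simp only [AddChar.map_add_eq_mul]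

theorem gs_linear (hχ : χ ≠ 1) {W : Type v} [AddCommGroup W] [Module F W] [Finite W] (φ : W →ₗ[F] F) (hφ : φ ≠ 0) :
    gs χ φ = 0 := by
  have := Fintype.ofFinite W
  rw [gs_eq]
  apply AddChar.sum_eq_zero_of_ne_one (ψ := χ.compAddMonoidHom φ.toAddMonoidHom)
  intro h
  apply hχ
  ext x
  obtain ⟨w, hw⟩ : ∃ w, φ w ≠ 0 := by
    by_contra hcon
    push Not at hcon
    exact hφ (LinearMap.ext hcon)
  have h1 := DFunLike.congr_fun h ((x / φ w) • w)
  have h2 : χ (φ ((x / φ w) • w)) = 1 := h1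
  rw [map_smul, smul_eq_mul, div_mul_cancel₀ _ hw] at h2
  rw [h2]; rfl

theorem gs_bilin (hχ : χ ≠ 1) {X : Type v} {Y : Type w} [AddCommGroup X] [Module F X] [Finite X] [AddCommGroup Y] [Module F Y]
    [Finite Y] (B : X →ₗ[F] Y →ₗ[F] F) (hB : Function.Injective B) :
    gs χ (fun z : X × Y => B z.1 z.2) = Nat.card Y := by
  classical
  have := Fintype.ofFinite X
  have := Fintype.ofFinite Y
  rw [gs_eq, Fintype.sum_prod_type]
  have h1 : ∀ x : X, ∑ y : Y, χ (B x y) = if x = 0 then (Nat.card Y : ℤ) else 0 := by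
    intro x
    split_ifs with h
    · subst h
      simp
    · rw [← gs_eq (χ := χ) (fun y => B x y)]
      exact gs_linear hχ (B x) (fun h0 => h (hB (h0.trans (map_zero B).symm)))
  rw [Finset.sum_congr rfl fun x _ => h1 x]
  simp

variable [Finite F]

theorem gs_plus (hχ : χ ≠ 1) (m : ℕ) : gs χ (quadPlus m F) = (Nat.card F : ℤ) ^ m := by
  let B : (Fin m → F) →ₗ[F] (Fin m → F) →ₗ[F] F := LinearMap.mk₂ F (fun x y => ∑ i, x i * y i)
    (by intro x x' y; simp only [Pi.add_apply, add_mul, Finset.sum_add_distrib])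
    (by intro c x y; simp only [Pi.smul_apply, smul_eq_mul, Finset.mul_sum, mul_assoc])
    (by intro x y y'; simp only [Pi.add_apply, mul_add, Finset.sum_add_distrib])
    (by intro c x y; simp only [Pi.smul_apply, smul_eq_mul, Finset.mul_sum]; exact Finset.sum_congr rfl fun i _ => by ring)
  have hB : Function.Injective B := by
    rw [← LinearMap.ker_eq_bot, LinearMap.ker_eq_bot']
    intro x hx
    funext i
    have h1 := LinearMap.congr_fun hx (Pi.single i 1)
    have h2 : ∑ j, x j * (Pi.single i (1 : F) : Fin m → F) j = 0 := h1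
    simpa [Pi.single_apply] using h2
  have h1 := gs_bilin hχ B hB
  rw [Nat.card_fun, Nat.card_fin] at h1
  push_cast at h1
  rw [← h1]
  apply gs_equiv (Equiv.sumArrowEquivProdArrow (Fin m) (Fin m) F)
  intro v
  rfl

/-- the plane `z₁² + a z₁ z₂ + b z₂²`. -/
theorem gs_plane [CharP F 2] (hχ : χ ≠ 1) (a b : F) (hab : ∀ z₁ z₂ : F, z₁ ^ 2 + a * z₁ * z₂ + b * z₂ ^ 2 = 0 → z₁ = 0 ∧ z₂ = 0) :
    gs χ (fun z : F × F => z.1 ^ 2 + a * z.1 * z.2 + b * z.2 ^ 2) = -(Nat.card F : ℤ) := by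
  classical
  have := Fintype.ofFinite F
  have hsum : ∑ x : F, χ x = 0 := AddChar.sum_eq_zero_of_ne_one hχ
  have hsq : Function.Bijective (fun x : F => x ^ 2) := by
    apply Finite.injective_iff_bijective.1
    intro x y hxy
    have h1 : (x + y) ^ 2 = 0 := by
      rw [CharTwo.add_sq]
      show x ^ 2 + y ^ 2 = 0
      have : x ^ 2 = y ^ 2 := hxy
      rw [this, CharTwo.add_self_eq_zero]
    have h2 : x + y = 0 := by simpa using h1
    exact CharTwo.add_eq_zero.1 h2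
  have hsumsq : ∀ c : F, c ≠ 0 → ∑ x : F, χ (c * x ^ 2) = 0 := by
    intro c hc
    rw [← hsum]
    exact Fintype.sum_bijective (fun x : F => c * x ^ 2) ((mulLeft_bijective₀ c hc).comp hsq) _ _ (fun x => rfl)
  rw [gs_eq, Fintype.sum_prod_type_right]
  rw [← Finset.sum_erase_add _ _ (Finset.mem_univ (0 : F))]
  have h0 : ∑ x : F, χ ((x, (0 : F)).1 ^ 2 + a * (x, (0 : F)).1 * (x, (0 : F)).2 + b * (x, (0 : F)).2 ^ 2) = 0 := by
    rw [← hsumsq 1 one_ne_zero]
    apply Finset.sum_congr rfl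
    intro x _
    congr 1
    ring
  rw [h0, add_zero]
  have h1 : ∀ y ∈ Finset.univ.erase (0 : F), ∑ x : F, χ ((x, y).1 ^ 2 + a * (x, y).1 * (x, y).2 + b * (x, y).2 ^ 2) =
      ∑ t : F, χ ((t ^ 2 + a * t + b) * y ^ 2) := by
    intro y hy
    have hy0 := Finset.ne_of_mem_erase hy
    refine (Fintype.sum_bijective (fun t : F => t * y) (mulRight_bijective₀ y hy0) _ _ (fun t => ?_)).symm
    congr 1
    ring
  rw [Finset.sum_congr rfl h1, Finset.sum_comm]
  have h2 : ∀ t : F, ∑ y ∈ Finset.univ.erase (0 : F), χ ((t ^ 2 + a * t + b) * y ^ 2) = -1 := by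
    intro t
    have hne : t ^ 2 + a * t + b ≠ 0 := by
      intro h
      exact one_ne_zero (hab t 1 (by linear_combination h)).2
    have h3 := hsumsq _ hne
    rw [← Finset.sum_erase_add _ _ (Finset.mem_univ (0 : F))] at h3
    have h4 : χ ((t ^ 2 + a * t + b) * 0 ^ 2) = 1 := by
      rw [zero_pow two_ne_zero, mul_zero, AddChar.map_zero_eq_one]
    rw [h4] at h3
    linarith
  rw [Finset.sum_congr rfl fun t _ => h2 t]
  simp

theorem gs_minus [CharP F 2] (hχ : χ ≠ 1) (m : ℕ) (a b : F)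
    (hab : ∀ z₁ z₂ : F, z₁ ^ 2 + a * z₁ * z₂ + b * z₂ ^ 2 = 0 → z₁ = 0 ∧ z₂ = 0) :
    gs χ (quadMinus m F a b) = -(Nat.card F : ℤ) ^ (m + 1) := by
  have h1 := gs_prod (χ := χ) (quadPlus m F) (fun z : F × F => z.1 ^ 2 + a * z.1 * z.2 + b * z.2 ^ 2)
  rw [gs_plus hχ, gs_plane hχ a b hab] at h1
  rw [pow_succ, ← mul_neg, ← h1]
  apply gs_equiv ((Equiv.sumArrowEquivProdArrow (Fin m ⊕ Fin m) (Fin 2) F).trans
    (Equiv.prodCongr (Equiv.refl _) (finTwoArrowEquiv F)))
  intro v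
  rfl

end Cfsg.Agent.Lib.GaussSign67
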