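import Cfsg.Agent.Lib.GlaubStep
import Cfsg.Agent.Lib.BlockCover2

/-!
# Invariant characters above an invariant character of a normal subgroup
-/

set_option autoImplicit false
set_option linter.all false

namespace Cfsg.Agent.Lib.GlaubCorr

open Cfsg Cfsg.Agent.Lib.BlockRing Cfsg.Agent.Lib.BlockGA Cfsg.Agent.Lib.BlockIdem
open Cfsg.Agent.Lib.CharBasic

universe u w

/-- The multiplicity of `θ` in `χ_N` divides the index of `N`. -/
theorem mult_dvd_index {G : Type u} [Group G] [Fintype G] {N : Subgroup G} [hN : N.Normal] [Fintype N]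
    {χ : G → ℂ} (hχ : IsIrrCharacter G χ) {θ : N → ℂ} (hθ : IsIrrCharacter N θ) {e : ℕ}
    (he : classInner (fun n : N => χ n) θ = (e : ℂ)) (he0 : e ≠ 0) : e ∣ N.index := by
  have hne : classInner (fun n : N => χ n) θ ≠ 0 := by
    rw [he]; exact_mod_cast he0
  obtain ⟨c, hc0, hc⟩ := hχ.exists_degree
  obtain ⟨d, hd0, hd⟩ := hθ.exists_degree
  obtain ⟨f, hf, hfd⟩ := DegRatio.degree_ratio hχ hθ hne hc hd
  have h1 := CliffordCorr.degree_clifford hχ hθ hne
  rw [he, hc, hd] at h1
  have h2 : c = e * ((Clifford.inertia N θ).index * d) := by exact_mod_cast h1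
  have h3 : f = e * (Clifford.inertia N θ).index := by
    have h4 : f * d = e * (Clifford.inertia N θ).index * d := by rw [← hf, h2]; ring
    exact Nat.eq_of_mul_eq_mul_right (Nat.pos_of_ne_zero (by
      have := hd0
      omega)) h4
  rw [h3] at hfd
  exact (Dvd.intro _ rfl).trans hfd

/-- the key congruence: comparison of multiplicities -/
theorem above_key {G : Type u} [Group G] [Fintype G] {S : Type w} [Group S] [Finite S]
    {C N D : Type u} [Group C] [Fintype C] [Group N] [Fintype N] [Group D] [Fintype D]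
    {p : ℕ} {M : Ideal AlgInt} {act : S →* MulAut G} {ι : C →* G} (DG : Data p M act ι)
    {actN : S →* MulAut N} {ιN : D →* N} (DN : Data p M actN ιN)
    (jN : N →* G) (jD : D →* C) (hcomm : ∀ d, jN (ιN d) = ι (jD d)) (hact : ∀ s n, jN (actN s n) = act s (jN n))
    {χ : IrrCharacter G} (hχ : Inv act (χ : G → ℂ)) {η : IrrCharacter C} (hη : ¬ p ∣ mult ι χ η)
    {θ : IrrCharacter N} (hθ : Inv actN (θ : N → ℂ)) {θ' : IrrCharacter D} (hθ' : ¬ p ∣ mult ιN θ θ')
    (h : ¬ p ∣ mult jD η θ') : mult jN χ θ ≠ 0 := by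
  classical
  haveI := DG.isPrime
  intro h0
  -- first computation
  have e1 : (fun d => (χ : G → ℂ) (ι (jD d))) =
      ∑ η' : IrrCharacter C, (mult ι χ η' : ℂ) • fun d => (η' : C → ℂ) (jD d) := by
    funext d
    have := congrFun ((χ.2.isCharacter.comp ι).isClassFunction.expansion) (jD d)
    simp only [Finset.sum_apply, Pi.smul_apply] at this ⊢
    rw [this]
    exact Finset.sum_congr rfl fun η' _ => by rw [mult_spec]
  have e2 : classInner (fun d => (χ : G → ℂ) (ι (jD d))) (θ' : D → ℂ) =
      ∑ η' : IrrCharacter C, (mult ι χ η' : ℂ) * (mult jD η' θ' : ℂ) := by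
    rw [e1, classInner_sum_left]
    exact Finset.sum_congr rfl fun η' _ => by rw [classInner_smul_left, mult_spec]
  have e3 : MemLocalIdeal M (classInner (fun d => (χ : G → ℂ) (ι (jD d))) (θ' : D → ℂ) -
      (mult ι χ η : ℂ) * (mult jD η θ' : ℂ)) := by
    rw [e2, ← Finset.add_sum_erase _ _ (Finset.mem_univ η), add_sub_cancel_left]
    refine idl_sum fun η' hη' => idl_mul_right ?_ (loc_natCast _)
    rw [idl_natCast_iff DG.hM]
    by_contra h1
    exact (Finset.mem_erase.1 hη').1 (unique_beta DG hχ h1 hη)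
  -- second computation
  have e4 : (fun d => (χ : G → ℂ) (jN (ιN d))) =
      ∑ ψ : IrrCharacter N, (mult jN χ ψ : ℂ) • fun d => (ψ : N → ℂ) (ιN d) := by
    funext d
    have := congrFun ((χ.2.isCharacter.comp jN).isClassFunction.expansion) (ιN d)
    simp only [Finset.sum_apply, Pi.smul_apply] at this ⊢
    rw [this]
    exact Finset.sum_congr rfl fun η' _ => by rw [mult_spec]
  have e5 : classInner (fun d => (χ : G → ℂ) (jN (ιN d))) (θ' : D → ℂ) =
      ∑ ψ : IrrCharacter N, (mult jN χ ψ : ℂ) * (mult ιN ψ θ' : ℂ) := by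
    rw [e4, classInner_sum_left]
    exact Finset.sum_congr rfl fun η' _ => by rw [classInner_smul_left, mult_spec]
  letI := irrAct actN
  have e6 := BlockRes.idl_sum_sub_fixed (X := IrrCharacter N) (P := S) DG.hM DG.hS
    (fun ψ => (mult jN χ ψ : ℂ) * (mult ιN ψ θ' : ℂ))
    (fun s ψ => by
      show (mult jN χ (tw (actN s⁻¹) ψ) : ℂ) * (mult ιN (tw (actN s⁻¹) ψ) θ' : ℂ) = _
      rw [mult_tw DN]
      congr 2
      have h1 : tw (act s⁻¹) χ = χ := by
        apply Subtype.ext
        funext g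
        exact hχ s⁻¹ g
      have h2 := mult_tw_tw jN (act s⁻¹) (actN s⁻¹) (fun n => hact _ _) χ ψ
      rwa [h1] at h2)
    (fun ψ => loc_mul (loc_natCast _) (loc_natCast _))
  have e7 : MemLocalIdeal M (∑ ψ ∈ Finset.univ.filter (· ∈ MulAction.fixedPoints S (IrrCharacter N)),
      (mult jN χ ψ : ℂ) * (mult ιN ψ θ' : ℂ)) := by
    refine idl_sum fun ψ hψ => ?_
    rw [Finset.mem_filter] at hψ
    have hinv : Inv actN (ψ : N → ℂ) := (fixed_iff actN ψ).1 hψ.2
    by_cases h1 : p ∣ mult ιN ψ θ'
    · exact idl_mul_left (loc_natCast _) ((idl_natCast_iff DG.hM _).2 h1)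
    · have h2 : ψ = θ := unique_chi DN hinv hθ h1 hθ'
      rw [h2, h0, Nat.cast_zero, zero_mul]
      exact idl_zero
  have e8 : (fun d => (χ : G → ℂ) (jN (ιN d))) = fun d => (χ : G → ℂ) (ι (jD d)) := by
    funext d; rw [hcomm]
  rw [← e5, e8] at e6
  have e9 := (idl_congr e6).2 e7
  have e10 := (idl_congr e3).1 e9
  rw [← Nat.cast_mul, idl_natCast_iff DG.hM, DG.hM.1.dvd_mul] at e10
  exact e10.elim hη h

/-- Invariant characters above. -/
theorem above (n : ℕ) : ∀ {G : Type u} [Group G] [Fintype G] (S : Subgroup (MulAut G)), Nat.card S = n →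
    Group.IsSolvable S → (Nat.card G).Coprime (Nat.card S) → ∀ (N : Subgroup G) [N.Normal] [Fintype N],
    (∀ s ∈ S, ∀ x ∈ N, s x ∈ N) → ∀ θ : IrrCharacter N,
    (∀ s ∈ S, ∀ x y : N, (y : G) = s x → (θ : N → ℂ) y = (θ : N → ℂ) x) →
    ∃ χ : IrrCharacter G, (∀ s ∈ S, ∀ g, (χ : G → ℂ) (s g) = (χ : G → ℂ) g) ∧
      classInner (fun x : N => (χ : G → ℂ) x) (θ : N → ℂ) ≠ 0 := by
  induction n using Nat.strong_induction_on with
  | _ n ih =>
  intro G _ _ S hn hsolv hcop N _ _ hNS θ hθ
  classical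
  by_cases hS : S = ⊥
  · obtain ⟨χ, hχ⟩ := BlockCover.exists_above θ
    refine ⟨χ, fun s hs g => ?_, hχ⟩
    rw [hS, Subgroup.mem_bot] at hs
    rw [hs]; rfl
  · obtain ⟨p, M, E, hE, hEb, DG⟩ := exists_step hS hsolv hcop
    haveI : Fintype (fixC S E) := Fintype.ofFinite _
    let C := fixC S E
    let D : Subgroup C := N.subgroupOf C
    haveI : Fintype D := Fintype.ofFinite _
    -- the action on `N`
    let rN : S →* MulAut N :=
      { toFun := fun s => resAut N (s : MulAut G) (fun x hx => hNS _ s.2 x hx)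
          (fun x hx => hNS _ (S.inv_mem s.2) x hx)
        map_one' := by ext x; rfl
        map_mul' := fun s t => by ext x; rfl }
    let actN : E →* MulAut N := rN.comp E.subtype
    let ιN : D →* N :=
      { toFun := fun d => ⟨((d : C) : G), d.2⟩
        map_one' := rfl
        map_mul' := fun _ _ => rfl }
    have DN : Data p M actN ιN :=
      { hM := DG.hM
        hS := DG.hS
        hpG := fun h => DG.hpG (h.trans (Subgroup.card_subgroup_dvd_card N))
        hι := fun a b h => by
          have h1 : ((a : C) : G) = ((b : C) : G) := congrArg (fun x : N => (x : G)) h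
          exact Subtype.ext (Subtype.ext h1)
        hfix := fun g => by
          constructor
          · rintro ⟨d, rfl⟩ s
            apply Subtype.ext
            exact (d : C).2 s
          · intro h
            exact ⟨⟨⟨(g : G), fun e => congrArg Subtype.val (h e)⟩, g.2⟩, rfl⟩ }
    have hθE : Inv actN (θ : N → ℂ) := fun e x => hθ _ (e : S).2 x _ rfl
    obtain ⟨θ', hθ'⟩ := exists_beta DN θ
    -- `θ'` is invariant
    have hDS : ∀ s ∈ (resAct S E).range, ∀ x ∈ D, s x ∈ D := by
      rintro _ ⟨s, rfl⟩ x hx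
      exact hNS _ s.2 _ hx
    have hθ'S : ∀ s ∈ (resAct S E).range, ∀ x y : D, (y : C) = s x → (θ' : D → ℂ) y = (θ' : D → ℂ) x := by
      rintro _ ⟨s, rfl⟩ x y hxy
      let τ : MulAut D := resAut D (resAct S E s) (fun x hx => hDS _ ⟨s, rfl⟩ x hx)
        (fun x hx => hDS _ ⟨s⁻¹, map_inv _ _⟩ x hx)
      have h1 : tw (rN s) θ = θ := by
        apply Subtype.ext
        funext x
        exact hθ _ s.2 x _ rfl
      have h2 := mult_tw_tw ιN (rN s) τ (fun c => rfl) θ θ'
      rw [h1] at h2
      have h3 : tw τ θ' = θ' := by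
        apply unique_beta DN hθE ?_ hθ'
        rw [h2]; exact hθ'
      have h4 : y = τ x := Subtype.ext hxy
      rw [h4]
      exact congrArg (fun β : IrrCharacter D => (β : D → ℂ) x) h3
    haveI : D.Normal := inferInstance
    obtain ⟨η, hη, hηθ⟩ := ih _ (hn ▸ card_range_lt hEb) (resAct S E).range rfl (solvable_range hsolv)
      (coprime_range hcop) D hDS θ' hθ'S
    obtain ⟨χ, hχ, hχη⟩ := exists_chi DG η
    refine ⟨χ, inv_chi DG hχ hη hχη, ?_⟩
    have hkey : mult N.subtype χ θ ≠ 0 := by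
      refine above_key DG DN N.subtype D.subtype (fun d => rfl) (fun s n => rfl) hχ hχη hθE hθ' ?_
      -- the multiplicity divides the index
      have h5 : mult D.subtype η θ' ≠ 0 := by
        intro h6
        apply hηθ
        have h7 := mult_spec D.subtype η θ'
        rw [h6, Nat.cast_zero] at h7
        exact h7
      have h6 := mult_dvd_index η.2 θ'.2 (mult_spec D.subtype η θ') h5
      intro h7
      exact not_dvd_card_C DG ((h7.trans h6).trans (Subgroup.index_dvd_card _))
    intro h8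
    apply hkey
    apply mult_eq
    rw [Nat.cast_zero]
    exact h8

end Cfsg.Agent.Lib.GlaubCorr
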