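import Cfsg.Agent.Lib.LocBase
import Cfsg.Agent.Lib.LocMore
import Cfsg.Agent.Lib.BG08b
import Cfsg.Agent.Lib.H34Basic
import Cfsg.Agent.Lib.NormalRankTwo

set_option autoImplicit false

/-!
# Automorphisms centralising a Sylow subgroup (Glauberman)

Let `P` be a Sylow `p`-subgroup of `K`, `D` a group acting on `K` and centralising `P`, `w ∈ D'` a `p`-element.  Then
`C_K(w)` is transitive on the `w`-invariant Sylow `p`-subgroups of `K` (`transitive`), and `w` is weakly closed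
(`isolated`).  Consequently (`Z*`) `w` is trivial if `p = 2` and `O(K) = 1`.  (helper46)
-/
namespace Cfsg.Agent.Lib.GlaubAut

open Subgroup Cfsg Cfsg.Agent.Lib
open scoped commutatorElement
open Cfsg.Agent.Lib.LocBase Cfsg.Agent.Lib.BG08

section Basic

variable {G : Type*} [Group G]

/-- three subgroups lemma modulo `M`. -/
theorem three_mod {A B C M : Subgroup G} (hA : A ≤ normalizer (M : Set G)) (hB : B ≤ normalizer (M : Set G))
    (hC : C ≤ normalizer (M : Set G)) (h1 : ⁅⁅A, B⁆, C⁆ ≤ M) (h2 : ⁅⁅B, C⁆, A⁆ ≤ M) : ⁅⁅C, A⁆, B⁆ ≤ M := by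
  set N := normalizer (M : Set G) with hN
  have hMn : (M.subgroupOf N).Normal := inferInstance
  set π := QuotientGroup.mk' (M.subgroupOf N) with hπ
  have key : ∀ X Y Z : Subgroup G, X ≤ N → Y ≤ N → Z ≤ N →
      (⁅⁅X, Y⁆, Z⁆ ≤ M ↔ ⁅⁅(X.subgroupOf N).map π, (Y.subgroupOf N).map π⁆, (Z.subgroupOf N).map π⁆ = ⊥) := by
    intro X Y Z hX hY hZ
    rw [← map_commutator, ← map_commutator, Subgroup.map_eq_bot_iff, hπ, QuotientGroup.ker_mk']
    constructor
    · intro h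
      have h3 : (⁅⁅X.subgroupOf N, Y.subgroupOf N⁆, Z.subgroupOf N⁆).map N.subtype ≤ M := by
        rw [map_commutator, map_commutator, map_subgroupOf_eq_of_le hX, map_subgroupOf_eq_of_le hY,
          map_subgroupOf_eq_of_le hZ]
        exact h
      exact map_le_iff_le_comap.1 h3
    · intro h
      have h3 := Subgroup.map_mono (f := N.subtype) h
      rw [map_commutator, map_commutator, map_subgroupOf_eq_of_le hX, map_subgroupOf_eq_of_le hY,
          map_subgroupOf_eq_of_le hZ] at h3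
      exact h3.trans (by rw [subgroupOf_map_subtype]; exact inf_le_left)
  rw [key A B C hA hB hC] at h1
  rw [key B C A hB hC hA] at h2
  rw [key C A B hC hA hB]
  exact commutator_commutator_eq_bot_of_rotate h1 h2

end Basic

variable {G : Type*} [Group G] [Finite G] {p : ℕ} [hp : Fact p.Prime]

/-- a group with a central Sylow `p`-subgroup `V` is `V × O_{p'}`. -/
theorem eq_sup_OP {H V : Subgroup G} (hV : IsSyl p V H) (hc : V ≤ centralizer (H : Set G)) : H = V ⊔ OP p H := by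
  obtain ⟨Q, hQ⟩ := hV.exists_sylow'
  have hQc : (Q : Subgroup H) ≤ center H := by
    intro x hx
    rw [mem_center_iff]
    intro y
    have hxV : (x : G) ∈ V := by rw [← hQ]; exact ⟨x, hx, rfl⟩
    exact Subtype.ext (mem_centralizer_iff.1 (hc hxV) y y.2)
  obtain ⟨K, hKn, hKc, hKp, -⟩ := H34Basic.exists_compl_of_central_sylow Q hQc
  have h1 : K ≤ pPrimeCore p H := Fitting.le_pPrimeCore p hKn hKp
  have h2 : (Q : Subgroup H) ⊔ pPrimeCore p H = ⊤ := by
    rw [eq_top_iff, ← hKc.sup_eq_top, sup_comm]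
    exact sup_le_sup_left h1 _
  have h3 := congrArg (Subgroup.map H.subtype) h2
  rw [Subgroup.map_sup, hQ, ← MonoidHom.range_eq_map, range_subtype] at h3
  exact h3.symm

/-- If `D` centralises `Q` and normalises `K`, and `C_K(Q)` has its Sylow `p`-subgroup inside `Q`, then `D'` acts
trivially on `N_K(Q)` modulo `O_{p'}(C_K(Q))`. -/
theorem commutator_le_OP {K Q D V : Subgroup G} (hDQ : D ≤ centralizer (Q : Set G))
    (hDK : D ≤ normalizer (K : Set G)) (hV : IsSyl p V (K ⊓ centralizer (Q : Set G))) (hVQ : V ≤ Q) :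
    ⁅K ⊓ normalizer (Q : Set G), ⁅D, D⁆⁆ ≤ OP p (K ⊓ centralizer (Q : Set G)) := by
  set H := K ⊓ centralizer (Q : Set G) with hH
  set M := OP p H with hM
  set N := K ⊓ normalizer (Q : Set G) with hN
  have hVH : V ≤ centralizer (H : Set G) := by
    rw [Subgroup.le_centralizer_iff]
    exact inf_le_right.trans (centralizer_le hVQ)
  have hHe : H = V ⊔ M := eq_sup_OP hV hVH
  have hNH : N ≤ normalizer (H : Set G) :=
    le_normalizer_inf (inf_le_left.trans le_normalizer) (le_normalizer_centralizer inf_le_right)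
  have hDH : D ≤ normalizer (H : Set G) :=
    le_normalizer_inf hDK (le_normalizer_centralizer (hDQ.trans (centralizer_le_normalizer _)))
  have hNM : N ≤ normalizer (M : Set G) := hNH.trans (normalizer_le_normalizer_OP p H)
  have hDM : D ≤ normalizer (M : Set G) := hDH.trans (normalizer_le_normalizer_OP p H)
  have h1 : ⁅N, D⁆ ≤ H := by
    refine le_inf ?_ ?_
    · exact (commutator_mono inf_le_left le_rfl).trans (commutator_le_left_of_le hDK)
    · rw [commutator_le]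
      intro n hn d hd
      rw [mem_centralizer_iff]
      intro q hq
      have hd' := mem_centralizer_iff.1 (hDQ hd)
      have hn' := mem_normalizer_iff.1 hn.2
      have e1 : d * q = q * d := (hd' q hq).symm
      have h3 : n⁻¹ * q * n ∈ Q := by
        have := (mem_normalizer_iff.1 (inv_mem hn.2) q).1 hq
        simpa using this
      have e2 : d * (n⁻¹ * q * n) = (n⁻¹ * q * n) * d := (hd' _ h3).symm
      have e3 : d⁻¹ * q = q * d⁻¹ := by
        rw [inv_mul_eq_iff_eq_mul, ← mul_assoc, e1, mul_inv_cancel_right]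
      rw [commutatorElement_def]
      calc q * (n * d * n⁻¹ * d⁻¹) = n * ((n⁻¹ * q * n) * d) * n⁻¹ * d⁻¹ := by group
        _ = n * (d * (n⁻¹ * q * n)) * n⁻¹ * d⁻¹ := by rw [e2]
        _ = n * d * n⁻¹ * (q * d⁻¹) := by group
        _ = n * d * n⁻¹ * (d⁻¹ * q) := by rw [e3]
        _ = n * d * n⁻¹ * d⁻¹ * q := by group
  have h2 : ⁅H, D⁆ ≤ M := by
    rw [commutator_le]
    intro h hh d hd
    rw [hHe, sup_comm] at hh
    obtain ⟨v, hv, m, hm, rfl⟩ := (SubgroupTools.mem_sup_of_le_normalizer'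
      ((hV.le.trans le_normalizer).trans (normalizer_le_normalizer_OP p H))).1 hh
    have hvd : d * v = v * d := (mem_centralizer_iff.1 (hDQ hd) v (hVQ hv)).symm
    have e1 : ⁅v * m, d⁆ = v * (m * (d * m⁻¹ * d⁻¹)) * v⁻¹ := by
      rw [commutatorElement_def]
      have e2 : v⁻¹ * d⁻¹ = d⁻¹ * v⁻¹ := by rw [← mul_inv_rev, ← mul_inv_rev, hvd]
      calc v * m * d * (v * m)⁻¹ * d⁻¹ = v * m * d * m⁻¹ * (v⁻¹ * d⁻¹) := by group
        _ = v * m * d * m⁻¹ * (d⁻¹ * v⁻¹) := by rw [e2]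
        _ = _ := by group
    rw [e1]
    have hvM : v ∈ normalizer (M : Set G) := (le_normalizer.trans (normalizer_le_normalizer_OP p H)) (hV.le hv)
    exact (mem_normalizer_iff.1 hvM _).1
      (M.mul_mem hm ((mem_normalizer_iff.1 (hDM hd) _).1 (M.inv_mem hm)))
  have h3 : ⁅⁅N, D⁆, D⁆ ≤ M := (commutator_mono h1 le_rfl).trans h2
  have h4 : ⁅⁅D, N⁆, D⁆ ≤ M := by rwa [commutator_comm D N]
  rw [commutator_comm]
  exact three_mod hDM hNM hDM h4 h3

/-- invariant Sylow subgroups over invariant `p`-subgroups -/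
theorem exists_inv_syl {L U : Subgroup G} {w : G} (hw : IsPGroup p (zpowers w)) (hwL : w ∈ normalizer (L : Set G))
    (hU : IsPGroup p U) (hUL : U ≤ L) (hwU : w ∈ normalizer (U : Set G)) :
    ∃ R T : Subgroup G, IsSyl p R L ∧ U ≤ R ∧ w ∈ normalizer (R : Set G) ∧ IsSyl p T (L ⊔ zpowers w) ∧ w ∈ T ∧
      T ⊓ L = R := by
  have h1 : IsPGroup p (U ⊔ zpowers w : Subgroup G) := isPGroup_sup hU hw (by rwa [zpowers_le])
  obtain ⟨T, hT, hUT⟩ := exists_isSyl_ge h1 (sup_le_sup_right hUL (zpowers w))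
  have hLn : L ⊔ zpowers w ≤ normalizer (L : Set G) := sup_le le_normalizer (by rwa [zpowers_le])
  have hwT : w ∈ T := hUT (le_sup_right (α := Subgroup G) (mem_zpowers w))
  refine ⟨T ⊓ L, T, hT.inf_normal le_sup_left hLn, le_inf (le_sup_left.trans hUT) hUL, ?_, hT, hwT, rfl⟩
  have h2 : zpowers w ≤ normalizer ((T ⊓ L : Subgroup G) : Set G) := by
    apply le_normalizer_inf
    · rw [zpowers_le]; exact le_normalizer hwT
    · rwa [zpowers_le]
  exact h2 (mem_zpowers w)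

/-- the Sylow `p`-subgroups of `L⟨w⟩` containing `w` meet `L` in `w`-invariant Sylow `p`-subgroups and conversely. -/
theorem exists_syl_sup {L R : Subgroup G} {w : G} (hw : IsPGroup p (zpowers w)) (hwL : w ∈ normalizer (L : Set G))
    (hR : IsSyl p R L) (hwR : w ∈ normalizer (R : Set G)) :
    ∃ T : Subgroup G, IsSyl p T (L ⊔ zpowers w) ∧ w ∈ T ∧ T ⊓ L = R := by
  obtain ⟨R', T, hR', hRR', -, hT, hwT, e⟩ := exists_inv_syl hw hwL hR.pgroup hR.le hwR
  refine ⟨T, hT, hwT, ?_⟩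
  rw [e]; exact (hR.eq_of_le hR'.pgroup hR'.le hRR').symm

/-- If `[x, w]` lies in the central `p`-subgroup `Z` of `K` and `w` centralises a Sylow `p`-subgroup of `K`, the
`p`-element `x ∈ K` commutes with `w`. -/
theorem commute_of_central {K P Z : Subgroup G} {w x : G} (hP : IsSyl p P K) (hPw : P ≤ centralizer {w})
    (hZ : Z ≤ centralizer (K : Set G)) (hwZ : w ∈ centralizer (Z : Set G)) (hZK : Z ≤ K) (hxK : x ∈ K)
    (hx : IsPGroup p (zpowers x)) (hxw : x * w * x⁻¹ * w⁻¹ ∈ Z) : x * w = w * x := by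
  let K₁ : Subgroup G :=
    { carrier := {y | y ∈ K ∧ y * w * y⁻¹ * w⁻¹ ∈ Z}
      one_mem' := ⟨K.one_mem, by simp⟩
      mul_mem' := by
        rintro a b ⟨ha, ha'⟩ ⟨hb, hb'⟩
        refine ⟨K.mul_mem ha hb, ?_⟩
        have h1 : a * b * w * (a * b)⁻¹ * w⁻¹ = (b * w * b⁻¹ * w⁻¹) * (a * w * a⁻¹ * w⁻¹) := by
          have h2 : a * (b * w * b⁻¹ * w⁻¹) = (b * w * b⁻¹ * w⁻¹) * a :=
            mem_centralizer_iff.1 (hZ hb') a ha
          calc a * b * w * (a * b)⁻¹ * w⁻¹ = (a * (b * w * b⁻¹ * w⁻¹)) * w * a⁻¹ * w⁻¹ := by group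
            _ = _ := by rw [h2]; group
        rw [h1]; exact Z.mul_mem hb' ha'
      inv_mem' := by
        rintro a ⟨ha, ha'⟩
        refine ⟨K.inv_mem ha, ?_⟩
        have h2 : a * (a * w * a⁻¹ * w⁻¹) = (a * w * a⁻¹ * w⁻¹) * a :=
            mem_centralizer_iff.1 (hZ ha') a ha
        have h1 : a⁻¹ * w * a⁻¹⁻¹ * w⁻¹ = (a * w * a⁻¹ * w⁻¹)⁻¹ := by
          have h3 : a⁻¹ * (a * w * a⁻¹ * w⁻¹)⁻¹ * a = (a * w * a⁻¹ * w⁻¹)⁻¹ := by
            rw [← mul_inv_rev, ← h2, mul_inv_rev]; group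
          rw [← h3]; group
        rw [h1]; exact Z.inv_mem ha' }
  have hPK₁ : P ≤ K₁ := by
    intro y hy
    refine ⟨hP.le hy, ?_⟩
    have : w * y = y * w := mem_centralizer_iff.1 (hPw hy) w rfl
    rw [← this]; simp
  have hK₁K : K₁ ≤ K := fun y hy => hy.1
  have hP₁ : IsSyl p P K₁ := hP.of_le hPK₁ hK₁K
  have hxK₁ : zpowers x ≤ K₁ := by rw [zpowers_le]; exact ⟨hxK, hxw⟩
  obtain ⟨y, hy, hyx⟩ := hP₁.exists_conj_le hx hxK₁
  have h1 : y * x * y⁻¹ ∈ P := hyx ⟨x, mem_zpowers x, by simp⟩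
  have h2 : w * (y * x * y⁻¹) = (y * x * y⁻¹) * w := mem_centralizer_iff.1 (hPw h1) w rfl
  -- `y⁻¹ w y = z w`
  have hy' := (K₁.inv_mem hy).2
  set z := y⁻¹ * w * y⁻¹⁻¹ * w⁻¹ with hz
  have h3 : y⁻¹ * w * y = z * w := by rw [hz]; group
  have h4 : (z * w) * x = x * (z * w) := by
    rw [← h3]
    calc y⁻¹ * w * y * x = y⁻¹ * (w * (y * x * y⁻¹)) * y := by group
      _ = y⁻¹ * ((y * x * y⁻¹) * w) * y := by rw [h2]
      _ = x * (y⁻¹ * w * y) := by group
  have h5 : z * x = x * z := (mem_centralizer_iff.1 (hZ hy') x hxK).symm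
  have h6 : z * (w * x) = z * (x * w) := by
    calc z * (w * x) = z * w * x := (mul_assoc _ _ _).symm
      _ = x * (z * w) := h4
      _ = (x * z) * w := (mul_assoc _ _ _).symm
      _ = (z * x) * w := by rw [h5]
      _ = z * (x * w) := mul_assoc _ _ _
  exact (mul_left_cancel h6).symm

/-- `Z < S` both normalised by the `p`-group `T ≥ S`: some `x ∈ S \ Z` is central modulo `Z`. -/
theorem exists_central_mod {T S Z : Subgroup G} (hT : IsPGroup p T) (hST : S ≤ T)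
    (hSn : T ≤ normalizer (S : Set G)) (hZn : T ≤ normalizer (Z : Set G)) (hZS : Z < S) :
    ∃ x ∈ S, x ∉ Z ∧ ∀ y ∈ T, x * y * x⁻¹ * y⁻¹ ∈ Z := by
  have hZT : Z ≤ T := hZS.le.trans hST
  have hZ' : (Z.subgroupOf T).Normal := (Subgroup.normal_subgroupOf_iff_le_normalizer hZT).2 hZn
  have hS' : (S.subgroupOf T).Normal := (Subgroup.normal_subgroupOf_iff_le_normalizer hST).2 hSn
  set π := QuotientGroup.mk' (Z.subgroupOf T) with hπ
  have hπs : Function.Surjective π := QuotientGroup.mk'_surjective _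
  have hq : IsPGroup p (⊤ : Subgroup (T ⧸ Z.subgroupOf T)) :=
    (hT.to_quotient _).to_subgroup _
  have hn : ((S.subgroupOf T).map π).Normal := hS'.map π hπs
  have hne : ((S.subgroupOf T).map π) ≠ ⊥ := by
    intro h
    rw [Subgroup.map_eq_bot_iff, hπ, QuotientGroup.ker_mk'] at h
    have : S ≤ Z := by
      intro x hx
      exact h (x := ⟨x, hST hx⟩) hx
    exact absurd this (not_le_of_gt hZS)
  have hqG : IsPGroup p (T ⧸ Z.subgroupOf T) := hT.to_quotient _
  obtain ⟨z, hz, hzc, hzo⟩ := NormalRankTwo.exists_central_of_normal hqG _ hne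
  obtain ⟨x, hx, rfl⟩ := hz
  refine ⟨x, hx, ?_, ?_⟩
  · intro h
    have : π x = 1 := by
      rw [← MonoidHom.mem_ker, hπ, QuotientGroup.ker_mk']
      exact h
    rw [this, orderOf_one] at hzo
    exact hp.out.one_lt.ne hzo
  · intro y hy
    have h1 := Subgroup.mem_center_iff.1 hzc (π ⟨y, hy⟩)
    have h2 : x * ⟨y, hy⟩ * x⁻¹ * (⟨y, hy⟩ : T)⁻¹ ∈ π.ker := by
      rw [MonoidHom.mem_ker, map_mul, map_mul, map_mul, map_inv, map_inv, ← h1]
      group
    rw [hπ, QuotientGroup.ker_mk'] at h2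
    exact h2

/-- **Transitivity.** `P` a Sylow `p`-subgroup of `K`, `D ≤ C(P)` normalising `K`, `w ∈ D'` a `p`-element: `C_K(w)` is
transitive on the `w`-invariant Sylow `p`-subgroups of `K`. -/
theorem transitive {w : G} (hw : IsPGroup p (zpowers w)) (n : ℕ) :
    ∀ K P D S : Subgroup G, Nat.card K = n → IsSyl p P K → D ≤ centralizer (P : Set G) →
      D ≤ normalizer (K : Set G) → w ∈ ⁅D, D⁆ → IsSyl p S K → w ∈ normalizer (S : Set G) →
      ∃ c ∈ K ⊓ centralizer {w}, P.map (MulAut.conj c).toMonoidHom = S := by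
  induction n using Nat.strong_induction_on with
  | _ n ih =>
  intro K P₀ D₀ S₀ hn hP₀ hD₀P hD₀K hwD₀ hS₀ hwS₀
  have hwcc : ∀ D : Subgroup G, w ∈ ⁅D, D⁆ → w ∈ D := fun D h => commutator_le_self D h
  have hwK : w ∈ normalizer (K : Set G) := hD₀K (hwcc _ hwD₀)
  by_contra hbad
  -- good and bad
  let Good : Subgroup G → Prop := fun R => ∃ c ∈ K ⊓ centralizer {w}, P₀.map (MulAut.conj c).toMonoidHom = R
  have hgoodconj : ∀ R, Good R → ∀ c ∈ K ⊓ centralizer {w}, Good (R.map (MulAut.conj c).toMonoidHom) := by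
    rintro R ⟨d, hd, rfl⟩ c hc
    exact ⟨c * d, mul_mem hc hd, by rw [map_conj_mul]⟩
  have hgood1 : Good P₀ := ⟨1, one_mem _, map_conj_one P₀⟩
  have hcw : ∀ c ∈ K ⊓ centralizer {w}, c * w * c⁻¹ = w := by
    intro c hc
    have : w * c = c * w := mem_centralizer_iff.1 hc.2 w rfl
    rw [← this]; group
  have hdata : ∀ R, Good R → IsSyl p R K ∧ ∃ D : Subgroup G, D ≤ centralizer (R : Set G) ∧
      D ≤ normalizer (K : Set G) ∧ w ∈ ⁅D, D⁆ := by
    rintro R ⟨c, hc, rfl⟩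
    have hKc : K.map (MulAut.conj c).toMonoidHom = K := map_conj_eq_of_mem (le_normalizer hc.1)
    refine ⟨?_, D₀.map (MulAut.conj c).toMonoidHom, ?_, ?_, ?_⟩
    · have := hP₀.map_conj c
      rwa [hKc] at this
    · rw [← map_conj_centralizer]
      exact Subgroup.map_mono hD₀P
    · have := Subgroup.map_mono (f := (MulAut.conj c).toMonoidHom) hD₀K
      rwa [map_conj_normalizer, hKc] at this
    · rw [← map_commutator]
      exact ⟨w, hwD₀, hcw c hc⟩
  have hgoodw : ∀ R, Good R → R ≤ centralizer {w} := by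
    intro R hR
    obtain ⟨-, D, hD, -, hwD⟩ := hdata R hR
    intro x hx
    rw [mem_centralizer_iff]
    rintro y rfl
    exact (mem_centralizer_iff.1 (hD (hwcc _ hwD)) x hx).symm
  have hgoodn : ∀ R, Good R → w ∈ normalizer (R : Set G) := by
    intro R hR
    apply centralizer_le_normalizer
    rw [mem_centralizer_iff]
    intro x hx
    exact (mem_centralizer_iff.1 (hgoodw R hR hx) w rfl).symm
  -- a maximal pair
  obtain ⟨⟨P, S⟩, ⟨hPg, hS, hwS, hSb⟩, hmax⟩ := Set.Finite.exists_maximalFor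
    (fun X : Subgroup G × Subgroup G => Nat.card (X.1 ⊓ X.2 : Subgroup G))
    {X : Subgroup G × Subgroup G | Good X.1 ∧ IsSyl p X.2 K ∧ w ∈ normalizer (X.2 : Set G) ∧ ¬ Good X.2}
    (Set.toFinite _) ⟨(P₀, S₀), hgood1, hS₀, hwS₀, hbad⟩
  simp only at hPg hS hwS hSb hmax
  have hmx : ∀ R U : Subgroup G, Good R → IsSyl p U K → w ∈ normalizer (U : Set G) → ¬ Good U →
      Nat.card (R ⊓ U : Subgroup G) ≤ Nat.card (P ⊓ S : Subgroup G) := by
    intro R U h1 h2 h3 h4
    by_contra hlt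
    exact hlt (hmax (j := (R, U)) ⟨h1, h2, h3, h4⟩ (not_le.1 hlt).le)
  obtain ⟨hP, D, hDP, hDK, hwD⟩ := hdata P hPg
  have hPw := hgoodw P hPg
  have hwC : w ∈ centralizer (P : Set G) := hDP (hwcc _ hwD)
  set Q := P ⊓ S with hQ
  have hQp : IsPGroup p Q := hP.pgroup.to_le inf_le_left
  have hwQ : w ∈ centralizer (Q : Set G) := centralizer_le (inf_le_left : Q ≤ P) hwC
  -- the central part
  set Z := P ⊓ centralizer (K : Set G) with hZ
  have hZK : Z ≤ K := inf_le_left.trans hP.le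
  have hZp : IsPGroup p Z := hP.pgroup.to_le inf_le_left
  have hZS : Z ≤ S := by
    have h1 : IsPGroup p (S ⊔ Z : Subgroup G) := by
      apply isPGroup_sup hS.pgroup hZp
      exact (inf_le_right.trans (centralizer_le hS.le)).trans (centralizer_le_normalizer _)
    have h2 := hS.eq_of_le h1 (sup_le hS.le hZK) le_sup_left
    rw [h2]; exact le_sup_right
  have hwZ : w ∈ centralizer (Z : Set G) := centralizer_le (inf_le_left : Z ≤ P) hwC
  -- `C_S(w)` is in a good one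
  set Sw := S ⊓ centralizer {w} with hSw
  have hPsyl : IsSyl p P (K ⊓ centralizer {w}) := hP.of_le (le_inf hP.le hPw) inf_le_left
  have hSwcard : Nat.card Sw ≤ Nat.card Q := by
    obtain ⟨c, hc, hcS⟩ := hPsyl.exists_conj_le (hS.pgroup.to_le (inf_le_left : Sw ≤ S))
      (inf_le_inf_right _ hS.le)
    have h1 : Sw ≤ P.map (MulAut.conj c⁻¹).toMonoidHom := map_conj_le_iff.1 hcS
    have h2 : Sw ≤ P.map (MulAut.conj c⁻¹).toMonoidHom ⊓ S := le_inf h1 inf_le_left
    exact (Subgroup.card_le_of_le h2).trans (hmx _ _ (hgoodconj P hPg _ (inv_mem hc)) hS hwS hSb)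
  have hQSw : Q = Sw := by
    apply Subgroup.eq_of_le_of_card_ge _ hSwcard
    exact le_inf inf_le_right (inf_le_left.trans hPw)
  have hZQ : Z ≤ Q := le_inf inf_le_left hZS
  have hZne : Z ≠ Q := by
    intro hZQe
    have hZneS : Z ≠ S := by
      intro h
      have h1 : S ≤ P := by rw [← h]; exact inf_le_left
      have h2 : S = P := hS.eq_of_le hP.pgroup hP.le h1
      exact hSb (h2 ▸ hPg)
    have hST : IsPGroup p (S ⊔ zpowers w : Subgroup G) := isPGroup_sup hS.pgroup hw (by rwa [zpowers_le])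
    have hSn : S ⊔ zpowers w ≤ normalizer (S : Set G) := sup_le le_normalizer (by rwa [zpowers_le])
    have hZn : S ⊔ zpowers w ≤ normalizer (Z : Set G) := by
      refine sup_le ?_ ?_
      · refine le_trans ?_ (centralizer_le_normalizer _)
        rw [Subgroup.le_centralizer_iff]
        exact inf_le_right.trans (centralizer_le hS.le)
      · rw [zpowers_le]; exact centralizer_le_normalizer _ hwZ
    obtain ⟨x, hxS, hxZ, hx⟩ := exists_central_mod hST le_sup_left hSn hZn (lt_of_le_of_ne hZS hZneS)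
    have h1 := commute_of_central hP hPw (inf_le_right : Z ≤ _) hwZ hZK (hS.le hxS)
      (hS.pgroup.to_le (zpowers_le.2 hxS)) (hx w (le_sup_right (α := Subgroup G) (mem_zpowers w)))
    apply hxZ
    rw [hZQe, hQSw]
    refine ⟨hxS, mem_centralizer_iff.2 ?_⟩
    rintro y rfl
    exact h1.symm
  have hQK : ¬ Q ≤ centralizer (K : Set G) := by
    intro h
    exact hZne (le_antisymm hZQ (le_inf inf_le_left h))
  have hQP : Q < P := by
    refine lt_of_le_of_ne inf_le_left fun h => ?_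
    have h1 : P ≤ S := by rw [← h]; exact inf_le_right
    have h2 : P = S := hP.eq_of_le hS.pgroup hS.le h1
    exact hSb (h2 ▸ hPg)
  have hQS : Q < S := by
    refine lt_of_le_of_ne inf_le_right fun h => ?_
    have h1 : S ≤ P := by rw [← h]; exact inf_le_left
    have h2 : S = P := hS.eq_of_le hP.pgroup hP.le h1
    exact hSb (h2 ▸ hPg)
  have hQK' : Q ≤ K := inf_le_left.trans hP.le
  set H := K ⊓ centralizer (Q : Set G) with hH
  have hHK : H ≤ K := inf_le_left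
  have hHlt : Nat.card H < n := by
    rw [← hn]
    refine lt_of_le_of_ne (Subgroup.card_le_of_le hHK) fun h => ?_
    have h1 : H = K := Subgroup.eq_of_le_of_card_ge hHK h.ge
    apply hQK
    rw [Subgroup.le_centralizer_iff, ← h1]
    exact inf_le_right
  set N := K ⊓ normalizer (Q : Set G) with hN
  have hNK : N ≤ K := inf_le_left
  have hwN : w ∈ normalizer (N : Set G) := by
    have h1 : zpowers w ≤ normalizer (N : Set G) :=
      le_normalizer_inf (by rwa [zpowers_le]) ((show zpowers w ≤ normalizer (Q : Set G) by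
        rw [zpowers_le]; exact centralizer_le_normalizer _ hwQ).trans le_normalizer)
    exact h1 (mem_zpowers w)
  have hHN : H ≤ N := inf_le_inf_left _ (centralizer_le_normalizer _)
  have hNH : N ≤ normalizer (H : Set G) :=
    le_normalizer_inf (inf_le_left.trans le_normalizer) (le_normalizer_centralizer inf_le_right)
  -- the two Sylow subgroups of `N`
  set U₁ := P ⊓ normalizer (Q : Set G) with hU₁
  have hU₁Q : Q < U₁ := LocMore.lt_inf_normalizer hP.pgroup hQP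
  have hU₁w : w ∈ normalizer (U₁ : Set G) := centralizer_le_normalizer _ (centralizer_le inf_le_left hwC)
  obtain ⟨R₁, -, hR₁, hU₁R₁, hwR₁, -, -, -⟩ := exists_inv_syl hw hwN (hP.pgroup.to_le inf_le_left)
    (inf_le_inf_right _ hP.le : U₁ ≤ N) hU₁w
  obtain ⟨P₁, -, hP₁, hRP₁, hwP₁, -, -, -⟩ := exists_inv_syl hw hwK hR₁.pgroup (hR₁.le.trans hNK) hwR₁
  have hP₁g : Good P₁ := by
    by_contra h
    have h1 := hmx P P₁ hPg hP₁ hwP₁ h
    have h2 : U₁ ≤ P ⊓ P₁ := le_inf inf_le_left (hU₁R₁.trans hRP₁)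
    exact absurd (Subgroup.eq_of_le_of_card_ge (hU₁Q.le.trans h2) h1) (hU₁Q.trans_le h2).ne
  set U₂ := S ⊓ normalizer (Q : Set G) with hU₂
  have hU₂Q : Q < U₂ := LocMore.lt_inf_normalizer hS.pgroup hQS
  have hU₂w : w ∈ normalizer (U₂ : Set G) := by
    have h1 : zpowers w ≤ normalizer (U₂ : Set G) :=
      le_normalizer_inf (by rwa [zpowers_le]) ((show zpowers w ≤ normalizer (Q : Set G) by
        rw [zpowers_le]; exact centralizer_le_normalizer _ hwQ).trans le_normalizer)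
    exact h1 (mem_zpowers w)
  obtain ⟨R₂, -, hR₂, hU₂R₂, hwR₂, -, -, -⟩ := exists_inv_syl hw hwN (hS.pgroup.to_le inf_le_left)
    (inf_le_inf_right _ hS.le : U₂ ≤ N) hU₂w
  obtain ⟨P₂, -, hP₂, hRP₂, hwP₂, -, -, -⟩ := exists_inv_syl hw hwK hR₂.pgroup (hR₂.le.trans hNK) hwR₂
  have hP₂b : ¬ Good P₂ := by
    intro h
    have h1 := hmx P₂ S h hS hwS hSb
    have h2 : U₂ ≤ P₂ ⊓ S := le_inf (hU₂R₂.trans hRP₂) inf_le_left
    exact absurd (Subgroup.eq_of_le_of_card_ge (hU₂Q.le.trans h2) h1) (hU₂Q.trans_le h2).ne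
  -- induction in `H`
  obtain ⟨-, D₁, hD₁P, hD₁K, hwD₁⟩ := hdata P₁ hP₁g
  have hQR₁ : Q ≤ R₁ := hU₁Q.le.trans hU₁R₁
  have hQR₂ : Q ≤ R₂ := hU₂Q.le.trans hU₂R₂
  have hD₁Q : D₁ ≤ centralizer (Q : Set G) := hD₁P.trans (centralizer_le (hQR₁.trans hRP₁))
  have hV₁ : IsSyl p (R₁ ⊓ H) H := hR₁.inf_normal hHN hNH
  have hV₂ : IsSyl p (R₂ ⊓ H) H := hR₂.inf_normal hHN hNH
  have hD₁H : D₁ ≤ normalizer (H : Set G) :=
    le_normalizer_inf hD₁K (le_normalizer_centralizer (hD₁Q.trans (centralizer_le_normalizer _)))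
  have hwV₂ : w ∈ normalizer ((R₂ ⊓ H : Subgroup G) : Set G) := by
    have h1 : zpowers w ≤ normalizer ((R₂ ⊓ H : Subgroup G) : Set G) :=
      le_normalizer_inf (by rwa [zpowers_le]) (by rw [zpowers_le]; exact hD₁H (hwcc _ hwD₁))
    exact h1 (mem_zpowers w)
  obtain ⟨c, hc, hcV⟩ := ih _ hHlt H (R₁ ⊓ H) D₁ (R₂ ⊓ H) rfl hV₁
    (hD₁P.trans (centralizer_le (inf_le_left.trans hRP₁))) hD₁H hwD₁ hV₂ hwV₂
  have hcK : c ∈ K ⊓ centralizer {w} := ⟨hc.1.1, hc.2⟩
  have hcN : c ∈ N := hHN hc.1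
  set P₃ := P₁.map (MulAut.conj c).toMonoidHom with hP₃
  have hP₃g : Good P₃ := hgoodconj _ hP₁g c hcK
  set R₃ := R₁.map (MulAut.conj c).toMonoidHom with hR₃def
  have hNc : N.map (MulAut.conj c).toMonoidHom = N := map_conj_eq_of_mem (le_normalizer hcN)
  have hR₃ : IsSyl p R₃ N := by
    have := hR₁.map_conj c
    rwa [hNc] at this
  have hRP₃ : R₃ ≤ P₃ := map_conj_mono c hRP₁
  have hQc : Q.map (MulAut.conj c).toMonoidHom = Q :=
    map_conj_eq_of_mem (centralizer_le_normalizer _ hc.1.2)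
  have hQR₃ : Q ≤ R₃ := by rw [← hQc]; exact map_conj_mono c hQR₁
  have hwR₃ : w ∈ normalizer (R₃ : Set G) :=
    centralizer_le_normalizer _ (by
      rw [mem_centralizer_iff]
      intro x hx
      exact (mem_centralizer_iff.1 (hgoodw P₃ hP₃g (hRP₃ hx)) w rfl).symm)
  have hV₂R₃ : R₂ ⊓ H ≤ R₃ := by rw [← hcV]; exact map_conj_mono c inf_le_left
  have hV₂Q : R₂ ⊓ H ≤ Q := by
    have h1 : Q ⊔ (R₂ ⊓ H) ≤ P₃ ⊓ P₂ :=
      sup_le (le_inf (hQR₃.trans hRP₃) (hQR₂.trans hRP₂)) (le_inf (hV₂R₃.trans hRP₃) (inf_le_left.trans hRP₂))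
    have h2 := (Subgroup.card_le_of_le h1).trans (hmx P₃ P₂ hP₃g hP₂ hwP₂ hP₂b)
    have h3 : Q = Q ⊔ (R₂ ⊓ H) := Subgroup.eq_of_le_of_card_ge le_sup_left h2
    rw [h3]; exact le_sup_right
  obtain ⟨-, D₃, hD₃P, hD₃K, hwD₃⟩ := hdata P₃ hP₃g
  have hD₃Q : D₃ ≤ centralizer (Q : Set G) := hD₃P.trans (centralizer_le (hQR₃.trans hRP₃))
  have hNw := commutator_le_OP hD₃Q hD₃K hV₂ hV₂Q
  obtain ⟨T₁, hT₁, hwT₁, hT₁N⟩ := exists_syl_sup hw hwN hR₃ hwR₃
  obtain ⟨T₂, hT₂, hwT₂, hT₂N⟩ := exists_syl_sup hw hwN hR₂ hwR₂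
  obtain ⟨g, hg, hgT⟩ := hT₂.conj hT₁
  obtain ⟨y, hy, v, hv, rfl⟩ := exists_mul_of_mem_sup_of_le (show zpowers w ≤ normalizer (N : Set G) by
    rwa [zpowers_le]) hg
  have hyT : T₁.map (MulAut.conj y).toMonoidHom = T₂ := by
    rw [map_conj_mul, map_conj_eq_of_mem (le_normalizer ((zpowers_le.2 hwT₁) hv))] at hgT
    exact hgT
  have hyw : y * w * y⁻¹ ∈ T₂ := by
    rw [← hyT]; exact ⟨w, hwT₁, by simp⟩
  have hyw2 : y * w * y⁻¹ * w⁻¹ = 1 := by
    have h1 : y * w * y⁻¹ * w⁻¹ ∈ OP p (K ⊓ centralizer (Q : Set G)) := by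
      have := hNw (commutator_mem_commutator hy hwD₃)
      rwa [commutatorElement_def] at this
    have h2 : y * w * y⁻¹ * w⁻¹ ∈ T₂ := T₂.mul_mem hyw (T₂.inv_mem hwT₂)
    have h3 : T₂ ⊓ OP p (K ⊓ centralizer (Q : Set G)) = ⊥ := by
      apply inf_eq_bot_of_coprime
      obtain ⟨k, hk⟩ := IsPGroup.iff_card.1 hT₂.pgroup
      rw [hk]
      exact (coprime_card_OP p _).symm.pow_left k
    exact (mem_bot.1 (h3 ▸ (⟨h2, h1⟩ : _ ∈ T₂ ⊓ OP p (K ⊓ centralizer (Q : Set G)))))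
  have hyC : y ∈ K ⊓ centralizer {w} := by
    refine ⟨hy.1, mem_centralizer_iff.2 ?_⟩
    rintro z rfl
    exact (mul_inv_eq_iff_eq_mul.1 (mul_inv_eq_one.1 hyw2)).symm
  have hP₄g := hgoodconj _ hP₃g y hyC
  have h1 := hmx _ P₂ hP₄g hP₂ hwP₂ hP₂b
  have hyR : R₃.map (MulAut.conj y).toMonoidHom = R₂ := by
    rw [← hT₁N, ← hT₂N, Subgroup.map_inf _ _ _ (MulAut.conj y).injective, hyT,
      map_conj_eq_of_mem (le_normalizer hy)]
  have h2 : R₂ ≤ P₃.map (MulAut.conj y).toMonoidHom ⊓ P₂ := by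
    refine le_inf ?_ hRP₂
    rw [← hyR]; exact map_conj_mono y hRP₃
  exact absurd (Subgroup.eq_of_le_of_card_ge (hQR₂.trans h2) h1)
    ((hU₂Q.trans_le hU₂R₂).trans_le h2).ne

end Cfsg.Agent.Lib.GlaubAut
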