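import Cfsg.Agent.Lib.GlaubAut
import Cfsg.Agent.Lib.ZStarIso
import Cfsg.Agent.Lib.BrauerSuzuki

set_option autoImplicit false

/-!
# 2-elements of the derived group of the centraliser of a Sylow 2-subgroup (Glauberman)  (helper46)
-/
namespace Cfsg.Agent.Lib.GlaubAut

open Subgroup Cfsg Cfsg.Agent.Lib
open scoped commutatorElement
open Cfsg.Agent.Lib.LocBase Cfsg.Agent.Lib.BG08

universe u

theorem brauerSuzuki : Cfsg.Agent.Lib.ZStar.BrauerSuzukiStatement.{u} :=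
  fun _ _ _ S n e hO => Cfsg.Agent.Lib.BrauerSuzuki.card_center_eq_two S n e hO

variable {G : Type u} [Group G] [Finite G] {p : ℕ} [hp : Fact p.Prime]

/-- `w` is not fused in `K⟨w⟩` to another element of a Sylow `p`-subgroup over `P`. -/
theorem isolated {K P D T : Subgroup G} {w : G} (hw : IsPGroup p (zpowers w)) (hP : IsSyl p P K)
    (hDP : D ≤ centralizer (P : Set G)) (hDK : D ≤ normalizer (K : Set G)) (hwD : w ∈ ⁅D, D⁆)
    (hT : IsPGroup p T) (hwT : w ∈ T) (hTK : T ⊓ K = P) {g : G} (hg : g ∈ K ⊔ zpowers w)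
    (hgT : g * w * g⁻¹ ∈ T) : g * w * g⁻¹ = w := by
  have hwD' : w ∈ D := commutator_le_self D hwD
  have hwK : w ∈ normalizer (K : Set G) := hDK hwD'
  obtain ⟨k, hk, v, hv, rfl⟩ := exists_mul_of_mem_sup_of_le (show zpowers w ≤ normalizer (K : Set G) by
    rwa [zpowers_le]) hg
  have hvw : v * w * v⁻¹ = w := by
    obtain ⟨j, rfl⟩ := mem_zpowers_iff.1 hv
    group
  have e1 : k * v * w * (k * v)⁻¹ = k * w * k⁻¹ := by
    calc k * v * w * (k * v)⁻¹ = k * (v * w * v⁻¹) * k⁻¹ := by group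
      _ = _ := by rw [hvw]
  rw [e1] at hgT ⊢
  have hkw : k * w * k⁻¹ ∈ normalizer (P : Set G) := by
    have h1 : T ⊓ normalizer (K : Set G) ≤ normalizer (P : Set G) := by
      rw [← hTK]
      exact le_normalizer_inf (inf_le_left.trans le_normalizer) inf_le_right
    exact h1 ⟨hgT, Subgroup.mul_mem _ (Subgroup.mul_mem _ (le_normalizer hk) hwK)
      (Subgroup.inv_mem _ (le_normalizer hk))⟩
  set S := P.map (MulAut.conj k⁻¹).toMonoidHom with hS
  have hSK : IsSyl p S K := by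
    have := hP.map_conj k⁻¹
    rwa [map_conj_eq_of_mem (le_normalizer (inv_mem hk))] at this
  have hwS : w ∈ normalizer (S : Set G) := by
    rw [hS, ← map_conj_normalizer]
    refine ⟨_, hkw, ?_⟩
    simp [mul_assoc]
  obtain ⟨c, hc, hcS⟩ := transitive hw _ K P D S rfl hP hDP hDK hwD hSK hwS
  have hcw : c * w * c⁻¹ = w := by
    have : w * c = c * w := mem_centralizer_iff.1 hc.2 w rfl
    rw [← this]; group
  have hkc : k * c ∈ K ⊓ normalizer (P : Set G) := by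
    refine ⟨mul_mem hk hc.1, ?_⟩
    apply mem_normalizer_of_map_conj_eq
    rw [map_conj_mul, hcS, hS, ← map_conj_mul, mul_inv_cancel, map_conj_one]
  have hV : IsSyl p (P ⊓ (K ⊓ centralizer (P : Set G))) (K ⊓ centralizer (P : Set G)) := by
    refine (hP.of_le (le_inf hP.le le_normalizer) inf_le_left : IsSyl p P (K ⊓ normalizer (P : Set G))).inf_normal
      (inf_le_inf_left _ (centralizer_le_normalizer _)) ?_
    exact le_normalizer_inf (inf_le_left.trans le_normalizer) (le_normalizer_centralizer inf_le_right)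
  have h1 := commutator_le_OP hDP hDK hV inf_le_left (commutator_mem_commutator hkc hwD)
  rw [commutatorElement_def] at h1
  have e2 : k * c * w * (k * c)⁻¹ * w⁻¹ = k * w * k⁻¹ * w⁻¹ := by
    calc k * c * w * (k * c)⁻¹ * w⁻¹ = k * (c * w * c⁻¹) * k⁻¹ * w⁻¹ := by group
      _ = _ := by rw [hcw]
  rw [e2] at h1
  have h2 : k * w * k⁻¹ * w⁻¹ ∈ T := T.mul_mem hgT (T.inv_mem hwT)
  have h3 : Disjoint T (OP p (K ⊓ centralizer (P : Set G))) := by
    apply Subgroup.disjoint_of_coprime_natCard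
    obtain ⟨j, hj⟩ := IsPGroup.iff_card.1 hT
    rw [hj]
    exact (coprime_card_OP p _).symm.pow_left j
  have h4 : k * w * k⁻¹ * w⁻¹ = 1 := Subgroup.disjoint_def.1 h3 h2 h1
  exact mul_inv_eq_one.1 h4

/-- **Theorem G** (Glauberman): `P` a Sylow 2-subgroup of `K`, `O(K) = 1`, `D ≤ C(P)` normalising `K`. The
2-elements of `D'` centralise `K`. -/
theorem mem_centralizer_of_commutator {K P D : Subgroup G} {w : G} (hw : IsPGroup 2 (zpowers w))
    (hP : IsSyl 2 P K) (hDP : D ≤ centralizer (P : Set G)) (hDK : D ≤ normalizer (K : Set G)) (hwD : w ∈ ⁅D, D⁆)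
    (hO : OP 2 K = ⊥) : w ∈ centralizer (K : Set G) := by
  have h2 : Fact (Nat.Prime 2) := ⟨Nat.prime_two⟩
  have hwD' : w ∈ D := commutator_le_self D hwD
  have hwK : w ∈ normalizer (K : Set G) := hDK hwD'
  obtain ⟨T, hT, hwT, hTK⟩ := exists_syl_sup hw hwK hP (centralizer_le_normalizer _ (hDP hwD'))
  set Y := K ⊔ zpowers w with hY
  obtain ⟨S, hS⟩ := hT.exists_sylow
  have hwY : w ∈ Y := (le_sup_right (α := Subgroup G) (mem_zpowers w))
  have h1 := ZStarIso.inZStar_of_sylow brauerSuzuki ↥Y S (x := ⟨w, hwY⟩) (by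
    change (⟨w, hwY⟩ : Y) ∈ (S : Subgroup Y)
    rw [hS]; exact hwT) (by
    intro g hg
    have hg' : g * (⟨w, hwY⟩ : Y) * g⁻¹ ∈ (S : Subgroup Y) := hg
    rw [hS] at hg'
    exact Subtype.ext (isolated hw hP hDP hDK hwD hT.pgroup hwT hTK g.2 hg'))
  rw [mem_centralizer_iff]
  intro k hk
  have h3 := h1 ⟨k, (le_sup_left : K ≤ Y) hk⟩
  have h4 : k * w * k⁻¹ * w⁻¹ ∈ OP 2 Y := ⟨_, h3, rfl⟩
  have h5 : k * w * k⁻¹ * w⁻¹ ∈ K := by
    have : k * w * k⁻¹ * w⁻¹ = k * (w * k⁻¹ * w⁻¹) := by group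
    rw [this]
    exact K.mul_mem hk ((mem_normalizer_iff.1 hwK _).1 (K.inv_mem hk))
  have h6 : OP 2 Y ⊓ K ≤ OP 2 K := OP_inf_le le_sup_left
  have h7 := h6 ⟨h4, h5⟩
  rw [hO, mem_bot, mul_inv_eq_one, mul_inv_eq_iff_eq_mul] at h7
  exact h7

end Cfsg.Agent.Lib.GlaubAut
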