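import Cfsg.Agent.Lib.GlaubAut
import Cfsg.Agent.Lib.CopCom
import Cfsg.Agent.Lib.CoprimeAction
import Cfsg.Agent.Lib.H32Perf
import Cfsg.Agent.Lib.Cores

set_option autoImplicit false
set_option linter.unusedSectionVars false

/-!
# Towards `L`-balance for 2-groups: groups generated by 2-elements and covering lemmas (helper46)
-/
namespace Cfsg.Agent.Lib.GlaubBal

open Subgroup Cfsg Cfsg.Agent.Lib
open scoped commutatorElement
open Cfsg.Agent.Lib.LocBase Cfsg.Agent.Lib.BG08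

universe u

section

variable {G G' : Type*} [Group G] [Group G']

/-- generated by 2-elements -/
def Gen2 (L : Subgroup G) : Prop := ∀ M : Subgroup G, (∀ x ∈ L, (∃ k : ℕ, x ^ 2 ^ k = 1) → x ∈ M) → L ≤ M

theorem Gen2.map {L : Subgroup G} (h : Gen2 L) (f : G →* G') : Gen2 (L.map f) := by
  intro M hM
  rw [map_le_iff_le_comap]
  apply h
  rintro x hx ⟨k, hk⟩
  exact hM (f x) ⟨x, hx, rfl⟩ ⟨k, by rw [← map_pow, hk, map_one]⟩

theorem Gen2.subgroupOf {L Y : Subgroup G} (h : Gen2 L) (hLY : L ≤ Y) : Gen2 (L.subgroupOf Y) := by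
  intro M hM
  have h1 : L ≤ M.map Y.subtype := by
    apply h
    rintro x hx ⟨k, hk⟩
    exact ⟨⟨x, hLY hx⟩, hM ⟨x, hLY hx⟩ hx ⟨k, Subtype.ext hk⟩, rfl⟩
  rintro ⟨x, hxY⟩ hx
  obtain ⟨y, hy, e⟩ := h1 hx
  have : y = ⟨x, hxY⟩ := Subtype.ext e
  rwa [← this]

theorem mem_of_two_pow_of_odd {R : Subgroup G} {x : G} {k n : ℕ} (hn : Odd n) (h1 : x ^ 2 ^ k ∈ R)
    (h2 : x ^ n ∈ R) : x ∈ R := by
  have hc : IsCoprime ((2 ^ k : ℕ) : ℤ) (n : ℤ) :=
    Nat.isCoprime_iff_coprime.2 ((Nat.coprime_two_left.2 hn).pow_left k)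
  obtain ⟨a, b, hab⟩ := hc
  have h3 : x = (x ^ 2 ^ k) ^ a * (x ^ n) ^ b := by
    rw [← zpow_natCast, ← zpow_natCast, ← zpow_mul, ← zpow_mul, ← zpow_add]
    conv_lhs => rw [← zpow_one x, ← hab]
    congr 1; ring
  rw [h3]
  exact R.mul_mem (R.zpow_mem h1 a) (R.zpow_mem h2 b)

/-- a 2-element of `A R`, `A` of odd order normalising `R`, is in `R`. -/
theorem Gen2.le_of_odd [Finite G] {L A R : Subgroup G} (h : Gen2 L) (hLA : L ≤ A ⊔ R)
    (hAR : A ≤ normalizer (R : Set G)) (hA : Odd (Nat.card A)) : L ≤ R := by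
  apply h
  rintro x hx ⟨k, hk⟩
  have h0 : x ∈ R ⊔ A := by rw [sup_comm]; exact hLA hx
  obtain ⟨r, hr, a, ha, rfl⟩ := exists_mul_of_mem_sup_of_le hAR h0
  have h1 := mul_pow_mem_coset hr (hAR ha) (Nat.card A)
  have h2 : a ^ Nat.card A = 1 := by
    have h3 : (⟨a, ha⟩ : A) ^ Nat.card A = 1 := pow_card_eq_one'
    exact congrArg Subtype.val h3
  rw [h2, inv_one, mul_one] at h1
  exact mem_of_two_pow_of_odd hA (by rw [hk]; exact R.one_mem) h1

/-- the 2-part of an element -/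
theorem exists_two_part [Finite G] {N : Subgroup G} {u : G} {k : ℕ} (h : u ^ 2 ^ k ∈ N) :
    ∃ v ∈ zpowers u, (∃ j : ℕ, v ^ 2 ^ j = 1) ∧ u * v⁻¹ ∈ N := by
  obtain ⟨j, m, hm, hj⟩ := Nat.exists_eq_two_pow_mul_odd (n := orderOf u) (orderOf_pos u).ne'
  have hc : IsCoprime (m : ℤ) ((2 ^ k : ℕ) : ℤ) :=
    Nat.isCoprime_iff_coprime.2 ((Nat.coprime_two_left.2 hm).pow_left k).symm
  obtain ⟨a, b, hab⟩ := hc
  refine ⟨u ^ (a * m), zpow_mem (mem_zpowers u) _, ⟨j, ?_⟩, ?_⟩
  · rw [← zpow_natCast, ← zpow_mul]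
    have h1 : a * (m : ℤ) * ((2 ^ j : ℕ) : ℤ) = (orderOf u : ℤ) * a := by
      rw [hj]; push_cast; ring
    rw [h1, zpow_mul, zpow_natCast, pow_orderOf_eq_one, one_zpow]
  · have h1 : u * (u ^ (a * (m : ℤ)))⁻¹ = (u ^ 2 ^ k) ^ b := by
      rw [← zpow_natCast, ← zpow_mul, ← zpow_neg]
      have h2 : ((2 ^ k : ℕ) : ℤ) * b = 1 + -(a * m) := by rw [← hab]; ring
      rw [h2, zpow_add, zpow_one]
    rw [h1]
    exact N.zpow_mem h b

theorem commutator_sup_le {P A B N : Subgroup G} (hA : A ≤ normalizer (N : Set G)) (hB : B ≤ normalizer (N : Set G))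
    (h1 : ⁅P, A⁆ ≤ N) (h2 : ⁅P, B⁆ ≤ N) : ⁅P, A ⊔ B⁆ ≤ N := by
  rw [commutator_comm, sup_eq_closure]
  apply LocBase.commutator_closure_le
  · rw [← sup_eq_closure]; exact sup_le hA hB
  · rintro x (hx | hx) a ha
    · exact (commutator_comm P A ▸ h1) (commutator_mem_commutator hx ha)
    · exact (commutator_comm P B ▸ h2) (commutator_mem_commutator hx ha)

theorem commutator_sup_sup_le {N U : Subgroup G} (hU : U ≤ normalizer (N : Set G)) :
    ⁅N ⊔ U, N ⊔ U⁆ ≤ N ⊔ ⁅U, U⁆ := by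
  have hUW : U ≤ normalizer ((N ⊔ ⁅U, U⁆ : Subgroup G) : Set G) :=
    le_normalizer_sup hU (le_normalizer_commutator le_normalizer le_normalizer)
  have hNW : N ≤ normalizer ((N ⊔ ⁅U, U⁆ : Subgroup G) : Set G) := le_sup_left.trans le_normalizer
  have hUN : ⁅N, U⁆ ≤ N ⊔ ⁅U, U⁆ := (commutator_le_left_of_le hU).trans le_sup_left
  apply commutator_sup_le hNW hUW
  · rw [commutator_comm]
    exact commutator_sup_le hNW hUW (commutator_le_self N |>.trans le_sup_left) hUN
  · rw [commutator_comm]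
    exact commutator_sup_le hNW hUW ((commutator_comm N U) ▸ hUN) le_sup_right

end

section

variable {G : Type u} [Group G] [Finite G]

/-- **Covering lemma**: `N` of odd order, `S` a 2-group, `[S, L] ≤ N`, `L` perfect and generated by 2-elements:
modulo `N`, `L` is covered by such a group centralising `S`. -/
theorem cover {N S L : Subgroup G} (hN : Odd (Nat.card N)) (hS : IsPGroup 2 S)
    (hSN : S ≤ normalizer (N : Set G)) (hLN : L ≤ normalizer (N : Set G)) (hSL : ⁅S, L⁆ ≤ N)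
    (hL : ⁅L, L⁆ = L) (hL2 : Gen2 L) :
    ∃ L' : Subgroup G, ⁅L', L'⁆ = L' ∧ Gen2 L' ∧ L' ≤ centralizer (S : Set G) ∧ N ⊔ L' = N ⊔ L := by
  have h2 : Fact (Nat.Prime 2) := ⟨Nat.prime_two⟩
  set C₁ := (N ⊔ L) ⊓ centralizer (S : Set G) with hC₁
  have hcop : (Nat.card S).Coprime (Nat.card N) := by
    obtain ⟨k, hk⟩ := IsPGroup.iff_card.1 hS
    rw [hk]; exact (Nat.coprime_two_left.2 hN).pow_left k
  have hsolv : Group.IsSolvable S := by
    have := hS.isNilpotent
    infer_instance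
  have h1 : N ⊔ C₁ = N ⊔ L := by
    apply le_antisymm (sup_le le_sup_left inf_le_left)
    refine sup_le le_sup_left fun x hx => ?_
    obtain ⟨c, hc, hxc⟩ := CoprimeAction.exists_mem_centralizer_of_quotient hSN hcop (Or.inl hsolv) x (hLN hx)
      (fun a ha => hSL (commutator_mem_commutator ha hx))
    have hcL : c ∈ N ⊔ L := by
      have : c = x * (x⁻¹ * c) := by group
      rw [this]
      exact mul_mem (mem_sup_right hx) (mem_sup_left hxc)
    have : x = c * (x⁻¹ * c)⁻¹ := by group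
    rw [this]
    exact mul_mem (mem_sup_right ⟨hcL, hc⟩) (mem_sup_left (N.inv_mem hxc))
  obtain ⟨U, ⟨hUC, hUN⟩, hmin⟩ := Set.Finite.exists_minimal
    (s := {U : Subgroup G | U ≤ C₁ ∧ N ⊔ U = N ⊔ L}) (Set.toFinite _) ⟨C₁, le_rfl, h1⟩
  have hUn : U ≤ normalizer (N : Set G) := (hUC.trans inf_le_left).trans (sup_le le_normalizer hLN)
  refine ⟨U, ?_, ?_, hUC.trans inf_le_right, hUN⟩
  · apply le_antisymm (commutator_le_self U)
    apply hmin ⟨(commutator_le_self U).trans hUC, ?_⟩ (commutator_le_self U)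
    apply le_antisymm
    · rw [← hUN]; exact sup_le_sup_left (commutator_le_self U) _
    · refine sup_le le_sup_left ?_
      have h3 : L ≤ N ⊔ U := by rw [hUN]; exact le_sup_right
      calc L = ⁅L, L⁆ := hL.symm
        _ ≤ ⁅N ⊔ U, N ⊔ U⁆ := commutator_mono h3 h3
        _ ≤ _ := commutator_sup_sup_le hUn
  · intro M hM
    have h4 : U ≤ U ⊓ M := by
      apply hmin ⟨inf_le_left.trans hUC, ?_⟩ inf_le_left
      apply le_antisymm
      · rw [← hUN]; exact sup_le_sup_left inf_le_left _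
      · refine sup_le le_sup_left ?_
        apply hL2
        rintro x hx ⟨k, hk⟩
        have h3 : x ∈ N ⊔ U := by rw [hUN]; exact mem_sup_right hx
        obtain ⟨n, hn, y, hy, rfl⟩ := exists_mul_of_mem_sup_of_le hUn h3
        have h5 := mul_pow_mem_coset hn (hUn hy) (2 ^ k)
        rw [hk, one_mul] at h5
        obtain ⟨v, hv, ⟨j, hj⟩, hyv⟩ := exists_two_part (N := N) (u := y) (k := k) (by
          simpa using N.inv_mem h5)
        have hvU : v ∈ U := (zpowers_le.2 hy) hv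
        have : n * y = n * (y * v⁻¹) * v := by group
        rw [this]
        exact mul_mem (mem_sup_left (N.mul_mem hn hyv)) (mem_sup_right ⟨hvU, hM v hvU ⟨j, hj⟩⟩)
    exact h4.trans inf_le_right

end

/-! ### `O_{p'}` and homomorphisms -/

section

variable {G G' : Type*} [Group G] [Group G'] [Finite G] [Finite G'] {p : ℕ}

theorem map_OP_le (f : G →* G') (A : Subgroup G) : (OP p A).map f ≤ OP p (A.map f) := by
  apply le_OP (Subgroup.map_mono (OP_le p A))
  · rintro _ ⟨a, ha, rfl⟩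
    exact le_normalizer_map f ⟨a, le_normalizer_OP p A ha, rfl⟩
  · exact Nat.Coprime.coprime_dvd_left (Cores.card_map_dvd' _ f) (coprime_card_OP p A)

theorem map_OP_of_injective {f : G →* G'} (hf : Function.Injective f) (A : Subgroup G) :
    (OP p A).map f = OP p (A.map f) := by
  apply le_antisymm (map_OP_le f A)
  have h1 : OP p (A.map f) ≤ f.range := (OP_le p _).trans (map_le_range f A)
  have h2 : ((OP p (A.map f)).comap f).map f = OP p (A.map f) := map_comap_eq_self h1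
  rw [← h2]
  apply Subgroup.map_mono
  apply le_OP
  · intro x hx
    obtain ⟨a, ha, e⟩ := OP_le p _ hx
    rwa [← hf e]
  · intro a ha
    rw [mem_normalizer_iff]
    intro x
    rw [mem_comap, mem_comap, map_mul, map_mul, map_inv]
    exact mem_normalizer_iff.1 (le_normalizer_OP p _ (mem_map_of_mem f ha)) _
  · have h3 := Nat.card_congr (((OP p (A.map f)).comap f).equivMapOfInjective f hf).toEquiv
    rw [h2] at h3
    rw [h3]; exact coprime_card_OP p _

theorem OP_subgroupOf {A Y : Subgroup G} (h : A ≤ Y) : OP p (A.subgroupOf Y) = (OP p A).subgroupOf Y := by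
  apply Subgroup.map_injective Y.subtype_injective
  rw [map_OP_of_injective Y.subtype_injective, map_subgroupOf_eq_of_le h,
    map_subgroupOf_eq_of_le ((OP_le p A).trans h)]

/-- preimage of `O_{p'}(K/N)` when `N` is a normal `p'`-subgroup -/
theorem comap_OP_le {N K : Subgroup G} [N.Normal] (hNK : N ≤ K) (hN : (Nat.card N).Coprime p) :
    (OP p (K.map (QuotientGroup.mk' N))).comap (QuotientGroup.mk' N) ≤ OP p K := by
  set π := QuotientGroup.mk' N with hπ
  apply le_OP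
  · intro x hx
    obtain ⟨k, hk, e⟩ := OP_le p _ hx
    have h1 : k⁻¹ * x ∈ N := by
      rw [← QuotientGroup.ker_mk' N, MonoidHom.mem_ker, map_mul, map_inv]
      change (π k)⁻¹ * π x = 1
      rw [e, inv_mul_cancel]
    have : x = k * (k⁻¹ * x) := by group
    rw [this]; exact K.mul_mem hk (hNK h1)
  · intro a ha
    rw [mem_normalizer_iff]
    intro x
    rw [mem_comap, mem_comap, map_mul, map_mul, map_inv]
    exact mem_normalizer_iff.1 (le_normalizer_OP p _ (mem_map_of_mem π ha)) _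
  · rw [Cores.card_comap_mk]
    exact Nat.Coprime.mul_left hN (coprime_card_OP p _)

/-- subgroups containing the kernel -/
theorem map_inf_of_ker_le {f : G →* G'} {A B : Subgroup G} (h : f.ker ≤ A) : (A ⊓ B).map f = A.map f ⊓ B.map f := by
  apply le_antisymm (Subgroup.map_inf_le _ _ _)
  rintro _ ⟨⟨a, ha, rfl⟩, b, hb, e⟩
  have h1 : a⁻¹ * b ∈ A := h (by rw [MonoidHom.mem_ker, map_mul, map_inv, e, inv_mul_cancel])
  have h2 : b ∈ A := by
    have := A.mul_mem ha h1
    rwa [mul_inv_cancel_left] at this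
  exact ⟨b, ⟨h2, hb⟩, e⟩

end

end Cfsg.Agent.Lib.GlaubBal
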