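import Cfsg.Agent.Lib.GlaubBalA
import Cfsg.Agent.Lib.GlaubAutG
import Cfsg.Agent.Lib.PConstrained

set_option autoImplicit false
set_option linter.unusedSectionVars false

/-!
# Towards `L`-balance for 2-groups: the main induction (helper46)
-/
namespace Cfsg.Agent.Lib.GlaubBal

open Subgroup Cfsg Cfsg.Agent.Lib
open scoped commutatorElement
open Cfsg.Agent.Lib.LocBase Cfsg.Agent.Lib.BG08 Cfsg.Agent.Lib.GlaubAut

universe u

/-- the situation: a 2-group `T` and a perfect group `L ≤ C(T)` generated by 2-elements act on `K`, and `L` acts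
trivially on `C_K(T) / O(C_K(T))`. -/
structure Sit {G : Type*} [Group G] (K T L : Subgroup G) : Prop where
  TK : T ≤ normalizer (K : Set G)
  LK : L ≤ normalizer (K : Set G)
  T2 : IsPGroup 2 T
  LT : L ≤ centralizer (T : Set G)
  perf : ⁅L, L⁆ = L
  gen : Gen2 L
  act : ⁅K ⊓ centralizer (T : Set G), L⁆ ≤ OP 2 (K ⊓ centralizer (T : Set G))

/-- the statement for `|K| = n` -/
def StB (n : ℕ) : Prop := ∀ (G : Type u) [Group G] [Finite G] (K T L : Subgroup G), Nat.card K = n → Sit K T L →
  ⁅K, L⁆ ≤ OP 2 K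

section Quot

variable {G : Type u} [Group G] [Finite G]

theorem inf_eq_bot_of_coprime_two {A B : Subgroup G} (hA : IsPGroup 2 A) (hB : (Nat.card B).Coprime 2) :
    A ⊓ B = ⊥ := by
  have h2 : Fact (Nat.Prime 2) := ⟨Nat.prime_two⟩
  obtain ⟨k, hk⟩ := IsPGroup.iff_card.1 hA
  exact disjoint_iff.1 (Subgroup.disjoint_of_coprime_natCard (by rw [hk]; exact hB.symm.pow_left k))

theorem card_map_mk_lt {N K : Subgroup G} [N.Normal] (hNK : N ≤ K) (hN : N ≠ ⊥) :
    Nat.card (K.map (QuotientGroup.mk' N)) < Nat.card K := by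
  rw [← Cores.card_map_mk hNK]
  have h1 : 1 < Nat.card N := by
    rw [Subgroup.one_lt_card_iff_ne_bot]; exact hN
  have h2 : 0 < Nat.card (K.map (QuotientGroup.mk' N)) := Nat.card_pos
  nlinarith

theorem Sit.quotient_odd {K T L N : Subgroup G} [N.Normal] (h : Sit K T L) (hNK : N ≤ K) (hN : Odd (Nat.card N)) :
    Sit (K.map (QuotientGroup.mk' N)) (T.map (QuotientGroup.mk' N)) (L.map (QuotientGroup.mk' N)) := by
  have h2 : Fact (Nat.Prime 2) := ⟨Nat.prime_two⟩
  have hC := PConstrained.map_centralizer_of_pgroup (p := 2) (N := N) (by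
    rw [← even_iff_two_dvd, Nat.not_even_iff_odd]; exact hN) h.T2
  have hCK : K.map (QuotientGroup.mk' N) ⊓ centralizer (T.map (QuotientGroup.mk' N) : Set (G ⧸ N)) =
      (K ⊓ centralizer (T : Set G)).map (QuotientGroup.mk' N) := by
    rw [map_inf_of_ker_le (by rw [QuotientGroup.ker_mk']; exact hNK), hC]
  refine ⟨?_, ?_, h.T2.map _, ?_, ?_, h.gen.map _, ?_⟩
  · exact (Subgroup.map_mono h.TK).trans (le_normalizer_map _)
  · exact (Subgroup.map_mono h.LK).trans (le_normalizer_map _)
  · rw [← hC]; exact Subgroup.map_mono h.LT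
  · rw [← map_commutator, h.perf]
  · rw [hCK, ← map_commutator]
    exact (Subgroup.map_mono h.act).trans (map_OP_le _ _)

/-- Step 1: `O(K) ≠ 1`. -/
theorem step1 {K T L : Subgroup G} (hK : K.Normal) (h : Sit K T L)
    (ih : ∀ m < Nat.card K, StB.{u} m) (hO : OP 2 K ≠ ⊥) : ⁅K, L⁆ ≤ OP 2 K := by
  have hN : (OP 2 K).Normal := by
    rw [← normalizer_eq_top_iff, eq_top_iff]
    refine le_trans ?_ (normalizer_le_normalizer_OP 2 K)
    rw [normalizer_eq_top_iff.2 hK]
  set N := OP 2 K with hNdef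
  have hNK : N ≤ K := OP_le 2 K
  have hNc : (Nat.card N).Coprime 2 := coprime_card_OP 2 K
  have h1 := h.quotient_odd hNK (Nat.coprime_two_right.1 hNc)
  have h2 := ih _ (card_map_mk_lt hNK hO) _ _ _ _ rfl h1
  rw [← map_commutator, map_le_iff_le_comap] at h2
  exact h2.trans (comap_OP_le hNK hNc)

/-- Step 2: `O(K) = 1`, `O_2(K) ≠ 1`. -/
theorem step2 {K T L : Subgroup G} (hK : K.Normal) (h : Sit K T L)
    (ih : ∀ m < Nat.card K, StB.{u} m) (hO : OP 2 K = ⊥) (hV : pCoreOf 2 K ≠ ⊥) : ⁅K, L⁆ ≤ OP 2 K := by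
  have h2 : Fact (Nat.Prime 2) := ⟨Nat.prime_two⟩
  have hN : (pCoreOf 2 K).Normal := by
    rw [← normalizer_eq_top_iff, eq_top_iff]
    refine le_trans ?_ (normalizer_le_normalizer_pCoreOf 2 K)
    rw [normalizer_eq_top_iff.2 hK]
  set V := pCoreOf 2 K with hVdef
  have hVK : V ≤ K := pCoreOf_le K
  have hV2 : IsPGroup 2 V := isPGroup_pCoreOf 2 K
  have hnV : ∀ A : Subgroup G, A ≤ normalizer (V : Set G) := fun A => by
    rw [normalizer_eq_top_iff.2 hN]; exact le_top
  have hnK : ∀ A : Subgroup G, A ≤ normalizer (K : Set G) := fun A => by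
    rw [normalizer_eq_top_iff.2 hK]; exact le_top
  -- `L` centralises `V`
  have hVL : ⁅V, L⁆ = ⊥ := by
    apply CopCom.thompson_PxQ hV2 h.T2 (hnV T) (hnV L) (H32Perf.pRes_eq_self_of_perfect h.perf)
    · rw [commutator_comm, commutator_eq_bot_iff_le_centralizer]
      exact h.LT
    · rw [eq_bot_iff, ← inf_eq_bot_of_coprime_two (A := V) hV2 (coprime_card_OP 2 (K ⊓ centralizer (T : Set G)))]
      refine le_inf ?_ ?_
      · exact (commutator_mono inf_le_left le_rfl).trans (commutator_le_left_of_le (hnV L))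
      · exact (commutator_mono (inf_le_inf_right _ hVK) le_rfl).trans h.act
  have hLV : ⁅L, V⁆ = ⊥ := by rw [commutator_comm]; exact hVL
  set π := QuotientGroup.mk' V with hπ
  have hker : π.ker = V := QuotientGroup.ker_mk' V
  set K₁ := K ⊓ (centralizer (T.map π : Set (G ⧸ V))).comap π with hK₁
  have hK₁m : K₁.map π = K.map π ⊓ centralizer (T.map π : Set (G ⧸ V)) := by
    rw [hK₁, map_inf_of_ker_le (by rw [hker]; exact hVK),
      map_comap_eq_self_of_surjective (QuotientGroup.mk'_surjective V)]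
  have hK₁T : ⁅K₁, T⁆ ≤ V := by
    rw [← hker, ← (Subgroup.map_eq_bot_iff (f := π) (H := ⁅K₁, T⁆)), map_commutator,
      commutator_eq_bot_iff_le_centralizer, hK₁m]
    exact inf_le_right
  have hLK₁ : L ≤ normalizer (K₁ : Set G) := by
    apply le_normalizer_inf (hnK L)
    have h3 : L.map π ≤ normalizer (centralizer (T.map π : Set (G ⧸ V)) : Set (G ⧸ V)) := by
      apply le_normalizer_centralizer
      refine le_trans ?_ (centralizer_le_normalizer _)
      rw [← commutator_eq_bot_iff_le_centralizer, ← map_commutator,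
        commutator_eq_bot_iff_le_centralizer.2 h.LT, Subgroup.map_bot]
    intro x hx
    rw [mem_normalizer_iff]
    intro y
    rw [mem_comap, mem_comap, map_mul, map_mul, map_inv]
    exact mem_normalizer_iff.1 (h3 (mem_map_of_mem π hx)) _
  have hJ : ⁅K₁, L⁆ ≤ K ⊓ centralizer (T : Set G) := by
    refine le_inf ((commutator_le_left_of_le hLK₁).trans inf_le_left) ?_
    rw [← commutator_eq_bot_iff_le_centralizer, commutator_comm K₁ L]
    apply commutator_commutator_eq_bot_of_rotate (H₁ := L) (H₂ := K₁) (H₃ := T)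
    · rw [eq_bot_iff, ← hVL]; exact commutator_mono hK₁T le_rfl
    · rw [commutator_eq_bot_iff_le_centralizer.2 (show T ≤ centralizer (L : Set G) from
        Subgroup.le_centralizer_iff.1 h.LT), commutator_bot_left]
  have hJL : ⁅⁅K₁, L⁆, L⁆ ≤ OP 2 K₁ := by
    have h3 : ⁅⁅K₁, L⁆, L⁆ ≤ OP 2 (⁅K₁, L⁆) := by
      refine le_trans ?_ (OP_inf_le (p := 2) hJ)
      exact le_inf ((commutator_mono hJ le_rfl).trans h.act)
        (commutator_mono (commutator_le_left_of_le hLK₁) le_rfl)
    refine h3.trans (le_OP ((OP_le 2 _).trans (commutator_le_left_of_le hLK₁)) ?_ (coprime_card_OP 2 _))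
    exact (normalizer_commutator_ge_left K₁ L).trans (normalizer_le_normalizer_OP 2 _)
  have hLM : L ≤ normalizer (OP 2 K₁ : Set G) := hLK₁.trans (normalizer_le_normalizer_OP 2 _)
  have hK₁L : ⁅K₁, L⁆ ≤ OP 2 K₁ := by
    have h3 := three_mod (A := L) (B := K₁) (C := L) hLM (le_normalizer_OP 2 K₁) hLM
      (by rw [commutator_comm L K₁]; exact hJL) hJL
    rw [h.perf, commutator_comm] at h3
    exact h3
  have hsit : Sit (K.map π) (T.map π) (L.map π) := by
    refine ⟨?_, ?_, h.T2.map _, ?_, ?_, h.gen.map _, ?_⟩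
    · exact (Subgroup.map_mono h.TK).trans (le_normalizer_map _)
    · exact (Subgroup.map_mono h.LK).trans (le_normalizer_map _)
    · rw [← commutator_eq_bot_iff_le_centralizer, ← map_commutator,
        commutator_eq_bot_iff_le_centralizer.2 h.LT, Subgroup.map_bot]
    · rw [← map_commutator, h.perf]
    · rw [← hK₁m, ← map_commutator]
      exact (Subgroup.map_mono hK₁L).trans (map_OP_le _ _)
  have hind := ih _ (card_map_mk_lt hVK hV) _ _ _ _ rfl hsit
  set W := (OP 2 (K.map π)).comap π with hW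
  have hKL : ⁅K, L⁆ ≤ W := by
    rw [← map_commutator, map_le_iff_le_comap] at hind
    exact hind
  have hVW : V ≤ W := by
    rw [← hker]; exact fun x hx => by
      rw [hW, mem_comap, MonoidHom.mem_ker.1 hx]; exact one_mem _
  have hWK : W ≤ K := by
    intro x hx
    obtain ⟨k, hk, e⟩ := OP_le 2 _ hx
    have h3 : k⁻¹ * x ∈ V := by
      rw [← hker, MonoidHom.mem_ker, map_mul, map_inv, e, inv_mul_cancel]
    have : x = k * (k⁻¹ * x) := by group
    rw [this]; exact K.mul_mem hk (hVK h3)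
  have hKmn : (K.map π).Normal := hK.map π (QuotientGroup.mk'_surjective V)
  have hWn : W.Normal := by
    have : (OP 2 (K.map π)).Normal := by
      rw [← normalizer_eq_top_iff, eq_top_iff]
      refine le_trans ?_ (normalizer_le_normalizer_OP 2 _)
      rw [normalizer_eq_top_iff.2 hKmn]
    exact this.comap π
  have hnW : ∀ A : Subgroup G, A ≤ normalizer (W : Set G) := fun A => by
    rw [normalizer_eq_top_iff.2 hWn]; exact le_top
  have hWm : W.map π = OP 2 (K.map π) := by
    rw [hW, map_comap_eq_self_of_surjective (QuotientGroup.mk'_surjective V)]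
  -- `V` is a Sylow 2-subgroup of `W`
  have hVsyl : IsSyl 2 V W := by
    obtain ⟨S, hS, hVS⟩ := exists_isSyl_ge hV2 hVW
    have h3 : S.map π = ⊥ := by
      rw [eq_bot_iff, ← inf_eq_bot_of_coprime_two (A := S.map π) (hS.pgroup.map π) (coprime_card_OP 2 (K.map π))]
      refine le_inf le_rfl ?_
      rw [← hWm]; exact Subgroup.map_mono hS.le
    rw [Subgroup.map_eq_bot_iff, hker] at h3
    rwa [le_antisymm hVS h3]
  -- `C_W(V) ≤ V`
  have hWV : W ⊓ centralizer (V : Set G) ≤ V := by
    set H := W ⊓ centralizer (V : Set G) with hH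
    have hnH : ∀ A : Subgroup G, A ≤ normalizer (H : Set G) := fun A =>
      le_normalizer_inf (hnW A) (le_normalizer_centralizer (hnV A))
    have h3 : IsSyl 2 (V ⊓ H) H := hVsyl.inf_normal inf_le_left (hnH W)
    have h4 := eq_sup_OP h3 (by
      rw [Subgroup.le_centralizer_iff]
      exact inf_le_right.trans (centralizer_le inf_le_left))
    have h5 : OP 2 H ≤ OP 2 K := by
      apply le_OP ((OP_le 2 H).trans (inf_le_left.trans hWK)) _ (coprime_card_OP 2 H)
      exact (hnH K).trans (normalizer_le_normalizer_OP 2 H)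
    rw [hO, le_bot_iff] at h5
    rw [h5, sup_bot_eq] at h4
    rw [h4]; exact inf_le_left
  have hWL : ⁅W, L⁆ ≤ V := by
    refine le_trans (le_inf (commutator_le_left_of_le (hnW L)) ?_) hWV
    rw [← commutator_eq_bot_iff_le_centralizer]
    apply commutator_commutator_eq_bot_of_rotate (H₁ := W) (H₂ := L) (H₃ := V)
    · rw [hLV, commutator_bot_left]
    · rw [eq_bot_iff, ← hVL]; exact commutator_mono (commutator_le_left_of_le (hnV W)) le_rfl
  have hperf : ∀ A : Subgroup G, ⁅⁅A, L⁆, L⁆ = ⊥ → ⁅A, L⁆ = ⊥ := by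
    intro A hA
    have h3 := commutator_commutator_eq_bot_of_rotate (H₁ := L) (H₂ := L) (H₃ := A)
      (by rw [commutator_comm L A]; exact hA) hA
    rw [h.perf, commutator_comm] at h3
    exact h3
  have hWL0 : ⁅W, L⁆ = ⊥ := hperf W (by
    rw [eq_bot_iff, ← hVL]; exact commutator_mono hWL le_rfl)
  have hKL0 : ⁅K, L⁆ = ⊥ := hperf K (by
    rw [eq_bot_iff, ← hWL0]; exact commutator_mono hKL le_rfl)
  rw [hKL0]; exact bot_le

end Quot

end Cfsg.Agent.Lib.GlaubBal
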