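import Cfsg.Agent.Lib.GlaubBalB

set_option autoImplicit false
set_option linter.unusedSectionVars false
set_option linter.unusedVariables false

/-!
# `L`-balance for 2-groups, local form: the end of the main induction (helper46)
-/
namespace Cfsg.Agent.Lib.GlaubBal

open Subgroup Cfsg Cfsg.Agent.Lib
open scoped commutatorElement
open Cfsg.Agent.Lib.LocBase Cfsg.Agent.Lib.BG08 Cfsg.Agent.Lib.GlaubAut

universe u

variable {G : Type u} [Group G] [Finite G]

theorem isPGroup_zpowers_of_pow {w : G} {k : ℕ} (hk : w ^ 2 ^ k = 1) : IsPGroup 2 (zpowers w) := by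
  rintro ⟨_, j, rfl⟩
  refine ⟨k, Subtype.ext ?_⟩
  change (w ^ j) ^ 2 ^ k = 1
  rw [← zpow_natCast, ← zpow_mul, mul_comm, zpow_mul, zpow_natCast, hk, one_zpow]

/-- elements acting trivially on the section `C / O` -/
def trivOn (C O : Subgroup G) : Subgroup G where
  carrier := {y | y ∈ normalizer (O : Set G) ∧ ∀ c ∈ C, c * y * c⁻¹ * y⁻¹ ∈ O}
  one_mem' := ⟨Subgroup.one_mem _, fun c _ => by simp⟩
  mul_mem' := by
    rintro a b ⟨ha, ha'⟩ ⟨hb, hb'⟩
    refine ⟨Subgroup.mul_mem _ ha hb, fun c hc => ?_⟩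
    have h1 : c * (a * b) * c⁻¹ * (a * b)⁻¹ = (c * a * c⁻¹ * a⁻¹) * (a * (c * b * c⁻¹ * b⁻¹) * a⁻¹) := by group
    rw [h1]
    exact O.mul_mem (ha' c hc) ((mem_normalizer_iff.1 ha _).1 (hb' c hc))
  inv_mem' := by
    rintro a ⟨ha, ha'⟩
    refine ⟨Subgroup.inv_mem _ ha, fun c hc => ?_⟩
    have h1 : c * a⁻¹ * c⁻¹ * a⁻¹⁻¹ = a⁻¹ * (c * a * c⁻¹ * a⁻¹)⁻¹ * a⁻¹⁻¹ := by group
    rw [h1]
    exact (mem_normalizer_iff.1 (Subgroup.inv_mem _ ha) _).1 (O.inv_mem (ha' c hc))

theorem le_trivOn {C O L : Subgroup G} (hL : L ≤ normalizer (O : Set G)) (h : ⁅C, L⁆ ≤ O) : L ≤ trivOn C O :=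
  fun y hy => ⟨hL hy, fun c hc => h (commutator_mem_commutator hc hy)⟩

theorem commutator_trivOn_le (C O : Subgroup G) : ⁅C, trivOn C O⁆ ≤ O := by
  rw [commutator_le]
  intro c hc y hy
  exact hy.2 c hc

theorem le_normalizer_trivOn {C O A : Subgroup G} (hC : A ≤ normalizer (C : Set G)) (hO : A ≤ normalizer (O : Set G)) :
    A ≤ normalizer (trivOn C O : Set G) := by
  intro a ha
  apply mem_normalizer_of_map_conj_le
  rintro _ ⟨y, hy, rfl⟩
  change a * y * a⁻¹ ∈ trivOn C O
  refine ⟨Subgroup.mul_mem _ (Subgroup.mul_mem _ (hO ha) hy.1) (Subgroup.inv_mem _ (hO ha)), fun c hc => ?_⟩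
  have h1 : c * (a * y * a⁻¹) * c⁻¹ * (a * y * a⁻¹)⁻¹ =
      a * ((a⁻¹ * c * a) * y * (a⁻¹ * c * a)⁻¹ * y⁻¹) * a⁻¹ := by group
  rw [h1]
  exact (mem_normalizer_iff.1 (hO ha) _).1 (hy.2 _ (conj_mem_of_le_normalizer' hC ha hc))

theorem Sit.le_normalizer_cent {K T L : Subgroup G} (h : Sit K T L) :
    L ≤ normalizer ((K ⊓ centralizer (T : Set G) : Subgroup G) : Set G) :=
  le_normalizer_inf h.LK (h.LT.trans le_normalizer)

theorem Sit.T_le_normalizer_cent {K T L : Subgroup G} (h : Sit K T L) :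
    T ≤ normalizer ((K ⊓ centralizer (T : Set G) : Subgroup G) : Set G) :=
  le_normalizer_inf h.TK (le_normalizer_centralizer le_normalizer)

/-- changing `L` modulo a subgroup of odd order. -/
theorem Sit.cover {K T L N U : Subgroup G} (h : Sit K T L) (hNK : N ≤ K) (hN : Odd (Nat.card N))
    (hLN : L ≤ normalizer (N : Set G)) (hTN : T ≤ normalizer (N : Set G)) (hU : IsPGroup 2 U) (hUN : U ≤ normalizer (N : Set G))
    (hTU : T ≤ normalizer (U : Set G)) (hUL : ⁅U, L⁆ ≤ N) (hNC : N ⊓ centralizer (T : Set G) ≤ K ⊓ centralizer (T : Set G)) :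
    ∃ L' : Subgroup G, Sit K T L' ∧ U ≤ centralizer (L' : Set G) ∧ K ⊔ L' = K ⊔ L := by
  have h2 : Fact (Nat.Prime 2) := ⟨Nat.prime_two⟩
  have hTL : ⁅L, T⁆ = ⊥ := commutator_eq_bot_iff_le_centralizer.2 h.LT
  obtain ⟨L', h1, h3, h4, h5⟩ := GlaubBal.cover hN (S := U ⊔ T) (isPGroup_sup hU h.T2 hTU) (sup_le hUN hTN) hLN
    (by
      rw [commutator_comm]
      exact commutator_sup_le hUN hTN (by rw [commutator_comm]; exact hUL) (by rw [hTL]; exact bot_le))
    h.perf h.gen
  have h6 : L' ≤ N ⊔ L := by rw [← h5]; exact le_sup_right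
  have h7 : L' ≤ centralizer (T : Set G) := h4.trans (centralizer_le (show T ≤ U ⊔ T from le_sup_right))
  refine ⟨L', ⟨h.TK, h6.trans (sup_le (hNK.trans le_normalizer) h.LK), h.T2, h7, h1, h3, ?_⟩, ?_, ?_⟩
  · set C := K ⊓ centralizer (T : Set G) with hC
    set R := trivOn C (OP 2 C) with hR
    have hLR : L ≤ R := le_trivOn (h.le_normalizer_cent.trans (normalizer_le_normalizer_OP 2 _)) h.act
    have hAR : N ⊓ centralizer (T : Set G) ≤ normalizer (R : Set G) :=
      le_normalizer_trivOn (hNC.trans le_normalizer) (hNC.trans (le_normalizer_OP 2 C))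
    have h8 : L' ≤ (N ⊓ centralizer (T : Set G)) ⊔ R := by
      intro x hx
      obtain ⟨n, hn, l, hl, rfl⟩ := exists_mul_of_mem_sup_of_le hLN (h6 hx)
      refine mul_mem (mem_sup_left ⟨hn, ?_⟩) (mem_sup_right (hLR hl))
      have h9 := (centralizer (T : Set G)).mul_mem (h7 hx) ((centralizer (T : Set G)).inv_mem (h.LT hl))
      rwa [mul_inv_cancel_right] at h9
    have h9 : L' ≤ R := by
      apply h3.le_of_odd h8 hAR
      exact Odd.of_dvd_nat hN (Subgroup.card_dvd_of_le inf_le_left)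
    exact (commutator_mono le_rfl h9).trans (commutator_trivOn_le _ _)
  · rw [Subgroup.le_centralizer_iff]
    exact h4.trans (centralizer_le (show U ≤ U ⊔ T from le_sup_left))
  · calc K ⊔ L' = K ⊔ (N ⊔ L') := by rw [← sup_assoc, sup_eq_left.2 hNK]
      _ = K ⊔ (N ⊔ L) := by rw [h5]
      _ = K ⊔ L := by rw [← sup_assoc, sup_eq_left.2 hNK]

theorem inf_centralizer_eq_bot {K : Subgroup G} (hO : OP 2 K = ⊥) (hV : pCoreOf 2 K = ⊥) :
    K ⊓ centralizer (K : Set G) = ⊥ := by
  have h2 : Fact (Nat.Prime 2) := ⟨Nat.prime_two⟩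
  set Z := K ⊓ centralizer (K : Set G) with hZ
  have hn : ∀ A : Subgroup G, A ≤ Z → K ≤ normalizer (A : Set G) := by
    intro A hA
    refine le_trans ?_ (centralizer_le_normalizer _)
    rw [Subgroup.le_centralizer_iff]
    exact hA.trans inf_le_right
  obtain ⟨S, hS, -⟩ := exists_isSyl_ge (p := 2) (A := ⊥) (H := Z) IsPGroup.of_bot bot_le
  have h3 : S ≤ pCoreOf 2 K := le_pCoreOf (hS.le.trans inf_le_left) (hn S hS.le) hS.pgroup
  rw [hV, le_bot_iff] at h3
  have h4 := hS.ndvd
  rw [h3, Subgroup.relIndex_bot_left] at h4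
  have h5 : Z ≤ OP 2 K := le_OP inf_le_left (hn Z le_rfl) ((Nat.Prime.coprime_iff_not_dvd Nat.prime_two).2 h4).symm
  rwa [hO, le_bot_iff] at h5

/-- Step 3: `O(K) = O_2(K) = 1`. -/
theorem step3 {K T L : Subgroup G} (h : Sit K T L)
    (ih : ∀ m < Nat.card K, StB.{u} m) (hO : OP 2 K = ⊥) (hV : pCoreOf 2 K = ⊥) : ⁅K, L⁆ ≤ OP 2 K := by
  have h2 : Fact (Nat.Prime 2) := ⟨Nat.prime_two⟩
  by_cases hK : K = ⊥
  · rw [hK, commutator_bot_left]; exact bot_le
  -- an invariant Sylow subgroup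
  obtain ⟨S, hS, hTS⟩ := exists_isSyl_ge (H := K ⊔ T) h.T2 le_sup_right
  set P := S ⊓ K with hPdef
  have hP : IsSyl 2 P K := hS.inf_normal le_sup_left (sup_le le_normalizer h.TK)
  have hTP : T ≤ normalizer (P : Set G) := le_normalizer_inf (hTS.trans le_normalizer) h.TK
  have hPne : P ≠ ⊥ := by
    intro h3
    have h4 := hP.ndvd
    rw [h3, Subgroup.relIndex_bot_left] at h4
    have h5 : K ≤ OP 2 K := le_OP le_rfl le_normalizer ((Nat.Prime.coprime_iff_not_dvd Nat.prime_two).2 h4).symm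
    rw [hO, le_bot_iff] at h5
    exact hK h5
  have hCne : P ⊓ centralizer (T : Set G) ≠ ⊥ := by
    obtain ⟨x, hxP, hx1, hx⟩ := exists_central_mod (T := P ⊔ T) (S := P) (Z := ⊥)
      (isPGroup_sup hP.pgroup h.T2 hTP) le_sup_left (sup_le le_normalizer hTP)
      (by rw [normalizer_eq_top_iff.2 inferInstance]; exact le_top) (bot_lt_iff_ne_bot.2 hPne)
    intro h3
    apply hx1
    rw [← h3]
    refine ⟨hxP, ?_⟩
    apply mem_centralizer_iff.2
    intro t ht
    have h4 := hx t (mem_sup_right ht)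
    rw [mem_bot, mul_inv_eq_one, mul_inv_eq_iff_eq_mul] at h4
    exact h4.symm
  -- a maximal choice of `L`
  obtain ⟨L', ⟨hL', hKL'⟩, hmax⟩ := Set.Finite.exists_maximalFor
    (fun X : Subgroup G => Nat.card (P ⊓ centralizer (X : Set G) : Subgroup G))
    {X : Subgroup G | Sit K T X ∧ K ⊔ X = K ⊔ L} (Set.toFinite _) ⟨L, h, rfl⟩
  simp only at hmax
  have hmx : ∀ X : Subgroup G, Sit K T X → K ⊔ X = K ⊔ L →
      Nat.card (P ⊓ centralizer (X : Set G) : Subgroup G) ≤ Nat.card (P ⊓ centralizer (L' : Set G) : Subgroup G) := by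
    intro X h1 h2
    by_contra hlt
    exact hlt (hmax (j := X) ⟨h1, h2⟩ (not_le.1 hlt).le)
  set Q := P ⊓ centralizer (L' : Set G) with hQ
  have hQne : Q ≠ ⊥ := by
    intro hQ1
    obtain ⟨X, hX, hUX, hKX⟩ := h.cover (N := OP 2 (K ⊓ centralizer (T : Set G)))
      (U := P ⊓ centralizer (T : Set G)) ((OP_le 2 _).trans inf_le_left)
      (Nat.coprime_two_right.1 (coprime_card_OP 2 _))
      (h.le_normalizer_cent.trans (normalizer_le_normalizer_OP 2 _))
      (h.T_le_normalizer_cent.trans (normalizer_le_normalizer_OP 2 _))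
      (hP.pgroup.to_le inf_le_left)
      ((inf_le_inf_right _ hP.le).trans (le_normalizer_OP 2 _))
      (le_normalizer_inf hTP (le_normalizer_centralizer le_normalizer))
      ((commutator_mono (inf_le_inf_right _ hP.le) le_rfl).trans h.act)
      (inf_le_inf_right _ ((OP_le 2 _).trans inf_le_left))
    have h3 := hmx X hX hKX
    rw [hQ1, Subgroup.card_bot] at h3
    have h4 : P ⊓ centralizer (T : Set G) ≤ P ⊓ centralizer (X : Set G) := le_inf inf_le_left hUX
    have h5 := (Subgroup.card_le_of_le h4).trans h3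
    apply hCne
    rw [← Subgroup.card_le_one_iff_eq_bot]
    exact h5
  have hTQ : T ≤ normalizer (Q : Set G) := by
    apply le_normalizer_inf hTP
    refine le_trans ?_ (le_normalizer_centralizer (centralizer_le_normalizer _))
    rw [Subgroup.le_centralizer_iff]; exact hL'.LT
  have hL'Q : L' ≤ centralizer (Q : Set G) := by
    rw [Subgroup.le_centralizer_iff]; exact inf_le_right
  have hQK : Q ≤ K := inf_le_left.trans hP.le
  have hPL' : P ≤ centralizer (L' : Set G) := by
    by_contra hne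
    have hQP : Q < P := by
      refine lt_of_le_of_ne inf_le_left fun h3 => hne ?_
      rw [← h3]; exact inf_le_right
    set M := K ⊓ normalizer (Q : Set G) with hM
    have hMK : M ≤ K := inf_le_left
    have hMlt : Nat.card M < Nat.card K := by
      refine lt_of_le_of_ne (Subgroup.card_le_of_le hMK) fun h3 => ?_
      have h4 : M = K := Subgroup.eq_of_le_of_card_ge hMK h3.ge
      have h5 : Q ≤ pCoreOf 2 K := le_pCoreOf hQK (by rw [← h4]; exact inf_le_right)
        (hP.pgroup.to_le inf_le_left)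
      rw [hV, le_bot_iff] at h5
      exact hQne h5
    have hTM : T ≤ normalizer (M : Set G) := le_normalizer_inf h.TK (hTQ.trans le_normalizer)
    have hL'M : L' ≤ normalizer (M : Set G) :=
      le_normalizer_inf hL'.LK ((hL'Q.trans (centralizer_le_normalizer _)).trans le_normalizer)
    have hsit : Sit M T L' := by
      refine ⟨hTM, hL'M, h.T2, hL'.LT, hL'.perf, hL'.gen, ?_⟩
      have h3 : M ⊓ centralizer (T : Set G) ≤ K ⊓ centralizer (T : Set G) := inf_le_inf_right _ hMK
      refine le_trans (le_inf ((commutator_mono h3 le_rfl).trans hL'.act) ?_) (OP_inf_le h3)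
      exact commutator_le_left_of_le (le_normalizer_inf hL'M (hL'.LT.trans le_normalizer))
    have hind := ih _ hMlt G M T L' rfl hsit
    obtain ⟨X, hX, hUX, hKX⟩ := hL'.cover (N := OP 2 M)
      (U := P ⊓ normalizer (Q : Set G)) ((OP_le 2 _).trans hMK)
      (Nat.coprime_two_right.1 (coprime_card_OP 2 _))
      (hL'M.trans (normalizer_le_normalizer_OP 2 _))
      (hTM.trans (normalizer_le_normalizer_OP 2 _))
      (hP.pgroup.to_le inf_le_left)
      ((inf_le_inf_right _ hP.le).trans (le_normalizer_OP 2 _))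
      (le_normalizer_inf hTP (hTQ.trans le_normalizer))
      ((commutator_mono (inf_le_inf_right _ hP.le) le_rfl).trans hind)
      (inf_le_inf_right _ ((OP_le 2 _).trans hMK))
    have h3 := hmx X hX (hKX.trans hKL')
    have h4 : P ⊓ normalizer (Q : Set G) ≤ P ⊓ centralizer (X : Set G) := le_inf inf_le_left hUX
    have h5 : Q < P ⊓ normalizer (Q : Set G) := LocMore.lt_inf_normalizer hP.pgroup hQP
    exact absurd (Subgroup.eq_of_le_of_card_ge (h5.le.trans h4) h3) (h5.trans_le h4).ne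
  -- Theorem G
  have hL'K : L' ≤ centralizer (K : Set G) := by
    apply hL'.gen
    rintro w hw ⟨k, hk⟩
    have hw2 : IsPGroup 2 (zpowers w) := by
      apply isPGroup_zpowers_of_pow hk
    exact mem_centralizer_of_commutator hw2 hP (by rw [Subgroup.le_centralizer_iff]; exact hPL') hL'.LK
      (by rw [hL'.perf]; exact hw) hO
  -- the end
  set R := centralizer (K : Set G) with hR
  set C := K ⊓ centralizer (T : Set G) with hC
  have hKR : K ≤ normalizer (R : Set G) := le_normalizer_centralizer le_normalizer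
  have hTR : T ≤ normalizer (R : Set G) := le_normalizer_centralizer h.TK
  have hLC : L ≤ C ⊔ R := by
    intro x hx
    have h3 : x ∈ R ⊔ K := by
      have h4 : x ∈ K ⊔ L' := by rw [hKL']; exact mem_sup_right hx
      rw [sup_comm]
      exact sup_le_sup_left hL'K K h4
    obtain ⟨k, hk, c, hc, rfl⟩ := exists_mul_of_mem_sup_of_le' hKR h3
    refine mul_mem (mem_sup_left ⟨hk, ?_⟩) (mem_sup_right hc)
    apply mem_centralizer_iff.2
    intro t ht
    have h5 : t * (k * c) = (k * c) * t := mem_centralizer_iff.1 (h.LT hx) t ht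
    have h6 : k⁻¹ * (t * k * t⁻¹) = c * (t * c * t⁻¹)⁻¹ := by
      have h7 : t * k * c * t⁻¹ = k * c := by
        rw [mul_assoc t k c, h5]; group
      have h8 : t * k * t⁻¹ = k * c * (t * c * t⁻¹)⁻¹ := by
        rw [← h7]; group
      rw [h8]; group
    have h7 : k⁻¹ * (t * k * t⁻¹) ∈ K ⊓ centralizer (K : Set G) := by
      refine ⟨K.mul_mem (K.inv_mem hk) ((mem_normalizer_iff.1 (h.TK ht) _).1 hk), ?_⟩
      rw [h6]
      exact R.mul_mem hc (R.inv_mem ((mem_normalizer_iff.1 (hTR ht) _).1 hc))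
    rw [inf_centralizer_eq_bot hO hV, mem_bot, inv_mul_eq_one, eq_mul_inv_iff_mul_eq] at h7
    exact h7.symm
  have hCn : C ≤ normalizer ((OP 2 C ⊔ R : Subgroup G) : Set G) :=
    le_normalizer_sup (le_normalizer_OP 2 C) (inf_le_left.trans hKR)
  have hRn : R ≤ normalizer ((OP 2 C ⊔ R : Subgroup G) : Set G) := le_sup_right.trans le_normalizer
  have hLOR : L ≤ OP 2 C ⊔ R := by
    calc L = ⁅L, L⁆ := h.perf.symm
      _ ≤ ⁅L, C ⊔ R⁆ := commutator_mono le_rfl hLC
      _ ≤ OP 2 C ⊔ R := by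
        apply commutator_sup_le hCn hRn
        · rw [commutator_comm]; exact h.act.trans le_sup_left
        · exact (commutator_le_right_of_le (le_normalizer_centralizer h.LK)).trans le_sup_right
  have hLR : L ≤ R := h.gen.le_of_odd hLOR (((OP_le 2 C).trans inf_le_left).trans hKR)
    (Nat.coprime_two_right.1 (coprime_card_OP 2 C))
  have : ⁅K, L⁆ = ⊥ := by
    rw [commutator_comm, commutator_eq_bot_iff_le_centralizer]; exact hLR
  rw [this]; exact bot_le

/-- **Theorem B.** -/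
theorem thmB (n : ℕ) : StB.{u} n := by
  induction n using Nat.strong_induction_on with
  | _ n ih =>
  intro G _ _ K T L hn h
  set Y := normalizer (K : Set G) with hY
  have hKY : K ≤ Y := le_normalizer
  have hcent : ∀ A : Subgroup G, A ≤ Y → centralizer ((A.subgroupOf Y : Subgroup Y) : Set Y) =
      (centralizer (A : Set G)).subgroupOf Y := by
    intro A hA
    ext x
    rw [mem_subgroupOf, mem_centralizer_iff, mem_centralizer_iff]
    constructor
    · intro h1 a ha
      exact congrArg Subtype.val (h1 ⟨a, hA ha⟩ ha)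
    · intro h1 a ha
      exact Subtype.ext (h1 a ha)
  have hmap : ∀ A : Subgroup G, A ≤ Y → (A.subgroupOf Y).map Y.subtype = A := fun A hA =>
    map_subgroupOf_eq_of_le hA
  have hCY : K ⊓ centralizer (T : Set G) ≤ Y := inf_le_left.trans hKY
  have hinf : K.subgroupOf Y ⊓ centralizer ((T.subgroupOf Y : Subgroup Y) : Set Y) =
      (K ⊓ centralizer (T : Set G)).subgroupOf Y := by
    rw [hcent T h.TK]; rfl
  have hcomm : ∀ A B : Subgroup G, A ≤ Y → B ≤ Y → ⁅A.subgroupOf Y, B.subgroupOf Y⁆ = ⁅A, B⁆.subgroupOf Y := by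
    intro A B hA hB
    apply Subgroup.map_injective Y.subtype_injective
    rw [map_commutator, hmap A hA, hmap B hB, hmap _ ((commutator_le_sup _ _).trans (sup_le hA hB))]
  have hKn : (K.subgroupOf Y).Normal := by
    rw [← normalizer_eq_top_iff, ← subgroupOf_normalizer_eq hKY]
    exact subgroupOf_self Y
  have hsit : Sit (K.subgroupOf Y) (T.subgroupOf Y) (L.subgroupOf Y) := by
    refine ⟨by rw [normalizer_eq_top_iff.2 hKn]; exact le_top, by rw [normalizer_eq_top_iff.2 hKn]; exact le_top,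
      h.T2.comap_subtype, ?_, ?_, h.gen.subgroupOf h.LK, ?_⟩
    · rw [hcent T h.TK]
      exact fun x hx => h.LT hx
    · rw [hcomm L L h.LK h.LK, h.perf]
    · rw [hinf, hcomm _ _ hCY h.LK, OP_subgroupOf hCY]
      exact fun x hx => h.act hx
  have hcard : Nat.card (K.subgroupOf Y) = Nat.card K := Nat.card_congr (subgroupOfEquivOfLe hKY).toEquiv
  have hmain : ⁅K.subgroupOf Y, L.subgroupOf Y⁆ ≤ OP 2 (K.subgroupOf Y) := by
    have ih' : ∀ m < Nat.card (K.subgroupOf Y), StB.{u} m := fun m hm => ih m (by rwa [hcard, hn] at hm)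
    by_cases hO : OP 2 (K.subgroupOf Y) = ⊥
    · by_cases hV : pCoreOf 2 (K.subgroupOf Y) = ⊥
      · exact step3 hsit ih' hO hV
      · exact step2 hKn hsit ih' hO hV
    · exact step1 hKn hsit ih' hO
  rw [hcomm K L hKY h.LK, OP_subgroupOf hKY] at hmain
  have h3 := Subgroup.map_mono (f := Y.subtype) hmain
  rwa [hmap _ ((commutator_le_sup _ _).trans (sup_le hKY h.LK)), hmap _ ((OP_le 2 K).trans hKY)] at h3

end Cfsg.Agent.Lib.GlaubBal
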