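import Cfsg.Agent.Lib.GlaubLBal

set_option autoImplicit false
set_option linter.unusedVariables false
set_option linter.unusedSectionVars false

/-!
# Components of centralisers of involutions inside the layer (helper46)
-/
namespace Cfsg.Agent.Lib.GlaubComp

open Subgroup Cfsg Cfsg.Agent.Lib
open scoped commutatorElement
open Cfsg.Agent.Lib.LocBase Cfsg.Agent.Lib.GlaubBal
open Cfsg.Agent.Lib.Components Cfsg.Agent.Lib.Layer Cfsg.Agent.Lib.PComponents

universe u

variable {G : Type u} [Group G] [Finite G]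

/-- `D^t` -/
abbrev cj (t : G) (D : Subgroup G) : Subgroup G := D.map (MulAut.conj t).toMonoidHom

theorem tt_eq {t : G} (ht : orderOf t = 2) : t * t = 1 := by
  rw [← pow_two, ← ht, pow_orderOf_eq_one]

theorem inv_eq_self' {t : G} (ht : orderOf t = 2) : t⁻¹ = t := inv_eq_of_mul_eq_one_left (tt_eq ht)

theorem cj_cj {t : G} (ht : orderOf t = 2) (D : Subgroup G) : cj t (cj t D) = D := by
  unfold cj
  rw [← map_conj_mul, tt_eq ht, map_conj_one]

theorem centralizes_of {E M L : Subgroup G} {t : G} (hL : ⁅L, L⁆ = L) (hLE : L ≤ E)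
    (hLt : L ≤ centralizer ({t} : Set G)) (hMn : E ≤ normalizer (M : Set G)) (htM : t ∈ normalizer (M : Set G))
    (hE : E ≤ M ⊔ centralizer (M : Set G)) (hLM : ⁅L, M ⊓ centralizer ({t} : Set G)⁆ = ⊥) :
    L ≤ centralizer (M : Set G) := by
  set C := centralizer (M : Set G) with hC
  have hMC : normalizer (M : Set G) ≤ normalizer (C : Set G) := le_normalizer_centralizer le_rfl
  have hLC : L ≤ normalizer (C : Set G) := (hLE.trans hMn).trans hMC
  have htC : t ∈ normalizer (C : Set G) := hMC htM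
  set P := (L ⊔ C) ⊓ M with hP
  have hPC : P ≤ normalizer (C : Set G) := inf_le_right.trans (le_normalizer.trans hMC)
  have hz : ∀ m ∈ P, ∃ z ∈ M ⊓ C, t * m * t⁻¹ = m * z := by
    intro m hm
    have h1 : m ∈ C ⊔ L := by rw [sup_comm]; exact hm.1
    obtain ⟨l, hl, c, hc, e⟩ := exists_mul_of_mem_sup_of_le' hLC h1
    have hlt : t * l = l * t := mem_centralizer_iff.1 (hLt hl) t rfl
    refine ⟨m⁻¹ * (t * m * t⁻¹), ⟨M.mul_mem (M.inv_mem hm.2) ((mem_normalizer_iff.1 htM m).1 hm.2), ?_⟩, by group⟩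
    have h2 : m⁻¹ * (t * m * t⁻¹) = c⁻¹ * (t * c * t⁻¹) := by
      rw [e]
      calc (l * c)⁻¹ * (t * (l * c) * t⁻¹) = c⁻¹ * l⁻¹ * (t * l) * c * t⁻¹ := by group
        _ = c⁻¹ * (t * c * t⁻¹) := by rw [hlt]; group
    rw [h2]
    exact C.mul_mem (C.inv_mem hc) ((mem_normalizer_iff.1 htC c).1 hc)
  have hPP : ⁅P, P⁆ ≤ M ⊓ centralizer ({t} : Set G) := by
    refine le_inf ((commutator_le_self P).trans inf_le_right) ?_
    rw [commutator_le]
    intro a ha b hb
    obtain ⟨y, hy, ey⟩ := hz a ha
    obtain ⟨z, hz', ez⟩ := hz b hb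
    have hcy : ∀ m ∈ M, m * y = y * m := fun m hm => mem_centralizer_iff.1 hy.2 m hm
    have hcz : ∀ m ∈ M, m * z = z * m := fun m hm => mem_centralizer_iff.1 hz'.2 m hm
    rw [mem_centralizer_iff]
    intro y' hy'
    rw [show y' = t from hy', ← mul_inv_eq_iff_eq_mul]
    have h1 : t * ⁅a, b⁆ * t⁻¹ = (t * a * t⁻¹) * (t * b * t⁻¹) * (t * a * t⁻¹)⁻¹ * (t * b * t⁻¹)⁻¹ := by
      rw [commutatorElement_def]; group
    rw [h1, ey, ez, commutatorElement_def]
    have h2 : a * y * (b * z) * (a * y)⁻¹ = a * b * a⁻¹ * z := by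
      calc a * y * (b * z) * (a * y)⁻¹ = a * (y * (b * z)) * y⁻¹ * a⁻¹ := by group
        _ = a * ((b * z) * y) * y⁻¹ * a⁻¹ := by rw [hcy (b * z) (M.mul_mem hb.2 hz'.1)]
        _ = a * b * (z * a⁻¹) := by group
        _ = a * b * (a⁻¹ * z) := by rw [hcz a⁻¹ (M.inv_mem ha.2)]
        _ = _ := by group
    rw [h2]
    group
  have hLPC : L ≤ C ⊔ P := by
    intro l hl
    obtain ⟨c, hc, m, hm, e⟩ := exists_mul_of_mem_sup_of_le (show M ≤ normalizer (C : Set G) from
      le_normalizer.trans hMC) ((sup_comm M C ▸ hE) (hLE hl))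
    refine e ▸ mul_mem (mem_sup_left hc) (mem_sup_right ⟨?_, hm⟩)
    have : m = c⁻¹ * l := by rw [e]; group
    rw [this]
    exact mul_mem (mem_sup_right (C.inv_mem hc)) (mem_sup_left hl)
  have h4 : L ≤ C ⊔ ⁅P, P⁆ := by
    calc L = ⁅L, L⁆ := hL.symm
      _ ≤ ⁅C ⊔ P, C ⊔ P⁆ := commutator_mono hLPC hLPC
      _ ≤ _ := commutator_sup_sup_le hPC
  calc L = ⁅L, L⁆ := hL.symm
    _ ≤ ⁅L, C ⊔ ⁅P, P⁆⁆ := commutator_mono le_rfl h4
    _ ≤ C := by
      apply GlaubBal.commutator_sup_le le_normalizer ((commutator_le_self P).trans hPC)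
      · exact commutator_le_right_of_le hLC
      · have : ⁅L, ⁅P, P⁆⁆ = ⊥ := by
          rw [eq_bot_iff, ← hLM]; exact commutator_mono le_rfl hPP
        rw [this]; exact bot_le

section Trich

variable {t : G} {L : Subgroup G}

theorem sup_le_layer {D : Subgroup G} (hD : IsComponent D) (t : G) : D ⊔ cj t D ≤ layer G :=
  sup_le (component_le_layer hD) (component_le_layer (isComponent_conj t hD))

theorem layer_le_normalizer_sup {D : Subgroup G} (hD : IsComponent D) (t : G) :
    layer G ≤ normalizer ((D ⊔ cj t D : Subgroup G) : Set G) :=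
  le_normalizer_sup (layer_le_normalizer_component hD) (layer_le_normalizer_component (isComponent_conj t hD))

theorem sup_isSubnormal {D : Subgroup G} (hD : IsComponent D) (t : G) : (D ⊔ cj t D).IsSubnormal := by
  have h1 : ((D ⊔ cj t D).subgroupOf (layer G)).Normal :=
    (Subgroup.normal_subgroupOf_iff_le_normalizer (sup_le_layer hD t)).2 (layer_le_normalizer_sup hD t)
  have h2 := h1.isSubnormal.trans' (layer_normal G).isSubnormal
  rwa [map_subgroupOf_eq_of_le (sup_le_layer hD t)] at h2

theorem layer_le_sup_centralizer {D : Subgroup G} (hD : IsComponent D) (t : G) :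
    layer G ≤ (D ⊔ cj t D) ⊔ centralizer ((D ⊔ cj t D : Subgroup G) : Set G) := by
  apply sSup_le
  intro K hK
  by_cases h1 : K = D
  · exact h1 ▸ (le_sup_left.trans le_sup_left)
  by_cases h2 : K = cj t D
  · exact h2 ▸ (le_sup_right.trans le_sup_left)
  refine le_trans ?_ le_sup_right
  exact le_centralizer_sup (components_commute hK hD h1) (components_commute hK (isComponent_conj t hD) h2)

theorem t_mem_normalizer_sup (ht : orderOf t = 2) (D : Subgroup G) :
    t ∈ normalizer ((D ⊔ cj t D : Subgroup G) : Set G) := by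
  apply mem_normalizer_of_map_conj_eq
  rw [Subgroup.map_sup]
  change cj t D ⊔ cj t (cj t D) = D ⊔ cj t D
  rw [cj_cj ht, sup_comm]

/-- `L` lies in `D D^t` for some component `D`. -/
theorem exists_component_le (ht : orderOf t = 2) (hLt : L ≤ centralizer ({t} : Set G))
    (hL : IsComponent (L.subgroupOf (centralizer ({t} : Set G)))) (hLE : L ≤ layer G) :
    ∃ D, IsComponent D ∧ L ≤ D ⊔ cj t D := by
  by_contra hcon
  push Not at hcon
  have hperf : ⁅L, L⁆ = L := by
    have h1 := congrArg (Subgroup.map (centralizer ({t} : Set G)).subtype) (component_perfect hL)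
    rwa [map_commutator, map_subgroupOf_eq_of_le hLt] at h1
  have key : ∀ D : Subgroup G, IsComponent D → L ≤ centralizer (D : Set G) := by
    intro D hD
    set M := D ⊔ cj t D with hM
    have h1 : L ≤ centralizer (M : Set G) := by
      apply centralizes_of hperf hLE hLt (layer_le_normalizer_sup hD t) (t_mem_normalizer_sup ht D)
        (layer_le_sup_centralizer hD t)
      have h2 : (M.subgroupOf (centralizer ({t} : Set G))).IsSubnormal := (sup_isSubnormal hD t).subgroupOf
      rcases component_le_or_commutator_eq_bot hL h2 with h3 | h3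
      · exfalso
        apply hcon D hD
        intro x hx
        exact h3 (x := ⟨x, hLt hx⟩) hx
      · have h4 := congrArg (Subgroup.map (centralizer ({t} : Set G)).subtype) h3
        rw [map_commutator, map_subgroupOf_eq_of_le hLt, subgroupOf_map_subtype, Subgroup.map_bot] at h4
        exact h4
    have hDM : D ≤ M := le_sup_left
    exact h1.trans (centralizer_le hDM)
  have h1 : L ≤ centralizer (layer G : Set G) := le_centralizer_sSup key
  have h2 : L = ⊥ := eq_bot_of_perfect_of_le_centralizer hperf (h1.trans (centralizer_le hLE))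
  exact component_ne_bot hL (by rw [h2]; exact bot_subgroupOf _)

/-- the diagonal homomorphism -/
def diag (ht : orderOf t = 2) {D : Subgroup G} (hc : D ≤ centralizer (cj t D : Set G)) : D →* G where
  toFun d := d * (t * d * t⁻¹)
  map_one' := by simp
  map_mul' a b := by
    have h1 : (t * (a : G) * t⁻¹) * (b : G) = b * (t * a * t⁻¹) :=
      mem_centralizer_iff.1 (hc b.2) _ ⟨a, a.2, rfl⟩
    simp only [Subgroup.coe_mul]
    calc (a : G) * b * (t * (a * b) * t⁻¹) = a * (b * (t * a * t⁻¹)) * (t * b * t⁻¹) := by group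
      _ = a * ((t * a * t⁻¹) * b) * (t * b * t⁻¹) := by rw [h1]
      _ = _ := by group

theorem diag_apply (ht : orderOf t = 2) {D : Subgroup G} (hc : D ≤ centralizer (cj t D : Set G)) (d : D) :
    diag ht hc d = d * (t * d * t⁻¹) := rfl

theorem trichotomy (ht : orderOf t = 2) (hLt : L ≤ centralizer ({t} : Set G))
    (hL : IsComponent (L.subgroupOf (centralizer ({t} : Set G)))) (hLE : L ≤ layer G) :
    ∃ D, IsComponent D ∧ (L = D ∨ (L < D ∧ cj t D = D ∧ D = ⁅D, zpowers t⁆) ∨ (cj t D ≠ D ∧
      (∀ x, x ∈ L ↔ ∃ d ∈ D, x = d * (t * d * t⁻¹)) ∧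
      L = (layer ↥((D ⊔ cj t D) ⊓ centralizer ({t} : Set G))).map
        ((D ⊔ cj t D) ⊓ centralizer ({t} : Set G)).subtype)) := by
  have hperf : ⁅L, L⁆ = L := by
    have h1 := congrArg (Subgroup.map (centralizer ({t} : Set G)).subtype) (component_perfect hL)
    rwa [map_commutator, map_subgroupOf_eq_of_le hLt] at h1
  obtain ⟨D, hD, hLD⟩ := exists_component_le ht hLt hL hLE
  refine ⟨D, hD, ?_⟩
  by_cases hDt : cj t D = D
  · rw [hDt, sup_idem] at hLD
    rcases hLD.eq_or_lt with h1 | h1
    · exact Or.inl h1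
    · refine Or.inr (Or.inl ⟨h1, hDt, ?_⟩)
      have htD : zpowers t ≤ normalizer (D : Set G) := by
        rw [zpowers_le]; exact mem_normalizer_of_map_conj_eq hDt
      have h2 : ⁅D, zpowers t⁆ ≤ D := commutator_le_left_of_le htD
      have h3 : (⁅D, zpowers t⁆).IsSubnormal := by
        have h4 : ((⁅D, zpowers t⁆).subgroupOf D).Normal :=
          (Subgroup.normal_subgroupOf_iff_le_normalizer h2).2 (normalizer_commutator_ge_left D (zpowers t))
        have h5 := h4.isSubnormal.trans' hD.1
        rwa [map_subgroupOf_eq_of_le h2] at h5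
      rcases subnormal_le_component hD h3 h2 with h4 | h4
      · exfalso
        -- `[D, t] ≤ Z(D)`, so `[D, t] = 1`
        have h5 : ⁅⁅D, zpowers t⁆, D⁆ = ⊥ := by
          rw [commutator_comm, commutator_eq_bot_iff_le_centralizer]; exact h4
        have h6 := commutator_commutator_eq_bot_of_rotate (H₁ := D) (H₂ := D) (H₃ := zpowers t) h5
          (by rw [commutator_comm (zpowers t) D]; exact h5)
        rw [component_perfect hD, commutator_eq_bot_iff_le_centralizer] at h6
        have h7 : D ≤ centralizer ({t} : Set G) := h6.trans (centralizer_le (by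
          simp))
        have h8 : IsComponent (D.subgroupOf (centralizer ({t} : Set G))) := isComponent_subgroupOf h7 hD
        have h9 := component_eq_of_le hL h8 (Subgroup.comap_mono h1.le)
        have h10 := congrArg (Subgroup.map (centralizer ({t} : Set G)).subtype) h9
        rw [map_subgroupOf_eq_of_le hLt, map_subgroupOf_eq_of_le h7] at h10
        exact h1.ne h10
      · exact h4.symm
  · refine Or.inr (Or.inr ⟨hDt, ?_⟩)
    set D' := cj t D with hD'
    have hD'c : IsComponent D' := isComponent_conj t hD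
    have hc : D ≤ centralizer (D' : Set G) := components_commute hD hD'c (Ne.symm hDt)
    set C := centralizer ({t} : Set G) with hC
    set M := D ⊔ D' with hM
    set δ := diag ht hc with hδ
    set Δ := δ.range with hΔ
    set Z := D ⊓ D' with hZ
    have hZM : M ≤ centralizer (Z : Set G) := by
      apply sup_le
      · exact hc.trans (centralizer_le inf_le_right)
      · exact (le_centralizer_comm hc).trans (centralizer_le inf_le_left)
    have hδM : ∀ d : D, δ d ∈ M ⊓ C := by
      intro d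
      refine ⟨mul_mem (mem_sup_left d.2) (mem_sup_right ⟨d, d.2, rfl⟩), ?_⟩
      apply mem_centralizer_iff.2
      intro y' hy'
      rw [show y' = t from hy', hδ, diag_apply]
      have h1 : (t * (d : G) * t⁻¹) * (d : G) = d * (t * d * t⁻¹) :=
        mem_centralizer_iff.1 (hc d.2) _ ⟨d, d.2, rfl⟩
      have h2 : t⁻¹ = t := inv_eq_self' ht
      have h3 : t * t = 1 := tt_eq ht
      rw [h2] at h1 ⊢
      calc t * ((d : G) * (t * d * t)) = (t * d * t) * d * t := by group
        _ = d * (t * d * t) * t := by rw [h1]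
        _ = _ := by group
    have hΔM : Δ ≤ M ⊓ C := by rintro _ ⟨d, rfl⟩; exact hδM d
    have hMΔ : M ⊓ C ≤ Δ ⊔ Z := by
      rintro x ⟨hxM, hxC⟩
      obtain ⟨a, ha, b, hb, rfl⟩ := exists_mul_of_mem_sup_of_le (le_centralizer_comm hc |>.trans
        (centralizer_le_normalizer _)) hxM
      obtain ⟨b', hb', rfl⟩ := hb
      change a * (t * b' * t⁻¹) ∈ C at hxC
      change a * (t * b' * t⁻¹) ∈ _
      have h1 : t * (a * (t * b' * t⁻¹)) = a * (t * b' * t⁻¹) * t := mem_centralizer_iff.1 hxC t rfl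
      have h2 : t⁻¹ = t := inv_eq_self' ht
      have h3 : t * t = 1 := tt_eq ht
      have h4 : (t * a * t⁻¹) * b' = a * (t * b' * t⁻¹) := by
        have h5 : (t * a * t⁻¹) * b' = t * (a * (t * b' * t⁻¹)) * t⁻¹ := by
          rw [h2]
          calc t * a * t * b' = t * a * t * b' * (t * t) := by rw [h3, mul_one]
            _ = _ := by group
        rw [h5, h1]; group
      -- `z = a⁻¹ b'`
      have h5 : b' * (t * a * t⁻¹) = (t * a * t⁻¹) * b' := (mem_centralizer_iff.1 (hc hb') _ ⟨a, ha, rfl⟩).symm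
      have h6 : a⁻¹ * b' = (t * b' * t⁻¹) * (t * a * t⁻¹)⁻¹ := by
        rw [eq_mul_inv_iff_mul_eq, mul_assoc, h5, h4]; group
      have h7 : a⁻¹ * b' ∈ Z := by
        refine ⟨D.mul_mem (D.inv_mem ha) hb', ?_⟩
        rw [h6]
        exact D'.mul_mem ⟨b', hb', rfl⟩ (D'.inv_mem ⟨a, ha, rfl⟩)
      have h8 : t * (a⁻¹ * b') * t⁻¹ ∈ Z := by
        refine ⟨?_, ⟨_, h7.1, rfl⟩⟩
        rw [h6, h2]
        have : t * (t * b' * t * (t * a * t)⁻¹) * t = b' * a⁻¹ := by
          have h9 : (t * a * t)⁻¹ = t * a⁻¹ * t := by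
            rw [mul_inv_rev, mul_inv_rev, h2, mul_assoc]
          rw [h9]
          calc t * (t * b' * t * (t * a⁻¹ * t)) * t = (t * t) * b' * (t * t) * a⁻¹ * (t * t) := by group
            _ = b' * a⁻¹ := by rw [h3]; group
        rw [this]
        exact D.mul_mem hb' (D.inv_mem ha)
      have h9 : a * (t * b' * t⁻¹) = δ ⟨a, ha⟩ * (t * (a⁻¹ * b') * t⁻¹) := by
        rw [hδ, diag_apply]; group
      rw [h9]
      exact mul_mem (mem_sup_left ⟨_, rfl⟩) (mem_sup_right h8)
    have hΔZ : Δ ⊔ Z ≤ centralizer (Z : Set G) :=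
      sup_le ((hΔM.trans inf_le_left).trans hZM) ((inf_le_left.trans le_sup_left).trans hZM)
    have hΔp : ⁅Δ, Δ⁆ = Δ := by
      have h1 : ⁅(⊤ : Subgroup D), (⊤ : Subgroup D)⁆ = ⊤ := by
        apply Subgroup.map_injective D.subtype_injective
        rw [Subgroup.map_commutator, ← MonoidHom.range_eq_map, range_subtype, component_perfect hD]
      rw [hΔ, MonoidHom.range_eq_map, ← map_commutator, h1]
    have hLΔ : L ≤ Δ := perfect_le_of_le_sup_central hperf ((le_inf hLD hLt).trans hMΔ) hΔZ
    have hΔne : Δ ≠ ⊥ := fun h => component_ne_bot hL (by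
      rw [show L = ⊥ from le_bot_iff.1 (h ▸ hLΔ)]; exact bot_subgroupOf _)
    have hΔq : IsQuasisimple Δ := by
      have h1 : Nontrivial Δ := (Subgroup.nontrivial_iff_ne_bot _).2 hΔne
      exact quasisimple_of_surjective hD.2 δ.rangeRestrict δ.rangeRestrict_surjective
    have hΔeq : ⁅M ⊓ C, M ⊓ C⁆ = Δ := by
      apply le_antisymm
      · calc ⁅M ⊓ C, M ⊓ C⁆ ≤ ⁅Δ ⊔ Z, Δ ⊔ Z⁆ := commutator_mono hMΔ hMΔ
          _ = ⁅Δ, Δ⁆ := commutator_sup_central hΔZ
          _ = Δ := hΔp
      · calc Δ = ⁅Δ, Δ⁆ := hΔp.symm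
          _ ≤ _ := commutator_mono hΔM hΔM
    have hΔC : Δ ≤ C := hΔM.trans inf_le_right
    have hΔn : (Δ.subgroupOf (M ⊓ C)).Normal := by
      rw [Subgroup.normal_subgroupOf_iff_le_normalizer hΔM]
      have := normalizer_commutator_ge_left (M ⊓ C) (M ⊓ C)
      rwa [hΔeq] at this
    have hΔcomp : IsComponent (Δ.subgroupOf C) := by
      refine ⟨?_, (quasisimple_subgroupOf hΔC).2 hΔq⟩
      have h1 : ((M ⊓ C).subgroupOf C).IsSubnormal := by
        rw [inf_subgroupOf_right]
        exact (sup_isSubnormal hD t).subgroupOf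
      have h2 : (((Δ.subgroupOf C)).subgroupOf ((M ⊓ C).subgroupOf C)).Normal := by
        have hle : Δ.subgroupOf C ≤ (M ⊓ C).subgroupOf C := Subgroup.comap_mono hΔM
        rw [Subgroup.normal_subgroupOf_iff_le_normalizer hle]
        intro x hx
        rw [mem_normalizer_iff]
        intro y
        have h3 := (Subgroup.normal_subgroupOf_iff_le_normalizer hΔM).1 hΔn (show (x : G) ∈ M ⊓ C from hx)
        exact mem_normalizer_iff.1 h3 y
      have h3 := h2.isSubnormal.trans' h1
      have hle : Δ.subgroupOf C ≤ (M ⊓ C).subgroupOf C := Subgroup.comap_mono hΔM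
      rwa [map_subgroupOf_eq_of_le hle] at h3
    have hLΔe : L = Δ := by
      have h9 := component_eq_of_le hL hΔcomp (Subgroup.comap_mono hLΔ)
      have h10 := congrArg (Subgroup.map C.subtype) h9
      rwa [map_subgroupOf_eq_of_le hLt, map_subgroupOf_eq_of_le hΔC] at h10
    refine ⟨?_, ?_⟩
    · intro x
      rw [hLΔe, hΔ, MonoidHom.mem_range]
      constructor
      · rintro ⟨d, rfl⟩; exact ⟨d, d.2, rfl⟩
      · rintro ⟨d, hd, rfl⟩; exact ⟨⟨d, hd⟩, rfl⟩
    · rw [hLΔe]
      have hcomp : IsComponent (Δ.subgroupOf (M ⊓ C)) := ⟨hΔn.isSubnormal, (quasisimple_subgroupOf hΔM).2 hΔq⟩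
      have h1 : layer ↥(M ⊓ C) = Δ.subgroupOf (M ⊓ C) := by
        apply le_antisymm
        · apply sSup_le
          intro K hK
          have h2 := component_perfect hK
          rw [← h2]
          have h3 : ⁅(⊤ : Subgroup ↥(M ⊓ C)), (⊤ : Subgroup ↥(M ⊓ C))⁆ = Δ.subgroupOf (M ⊓ C) := by
            apply Subgroup.map_injective (M ⊓ C).subtype_injective
            rw [Subgroup.map_commutator, ← MonoidHom.range_eq_map, range_subtype, hΔeq,
              map_subgroupOf_eq_of_le hΔM]
          rw [← h3]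
          exact commutator_mono le_top le_top
        · exact component_le_layer hcomp
      rw [h1, map_subgroupOf_eq_of_le hΔM]

end Trich

end Cfsg.Agent.Lib.GlaubComp
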