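import Cfsg.Agent.Lib.GlaubComp
import Cfsg.Agent.Lib.ProdCard
import Cfsg.Prelude.Def_Balance

set_option autoImplicit false
set_option linter.unusedVariables false
set_option linter.unusedSectionVars false

/-!
# More on components of centralisers of involutions (helper46)
-/
namespace Cfsg.Agent.Lib.GlaubComp

open Subgroup Cfsg Cfsg.Agent.Lib
open scoped commutatorElement
open Cfsg.Agent.Lib.LocBase Cfsg.Agent.Lib.GlaubBal
open Cfsg.Agent.Lib.Components Cfsg.Agent.Lib.Layer Cfsg.Agent.Lib.PComponents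

universe u

variable {G : Type u} [Group G] [Finite G]

theorem isPGroup_zpowers_two {t : G} (ht : orderOf t = 2) : IsPGroup 2 (zpowers t) := by
  apply IsPGroup.of_card (n := 1)
  rw [Nat.card_zpowers, ht, pow_one]

theorem centralizer_singleton_eq (t : G) : centralizer ({t} : Set G) = centralizer (zpowers t : Set G) := by
  apply le_antisymm
  · rw [Subgroup.le_centralizer_iff, zpowers_le]
    rw [mem_centralizer_iff]
    intro x hx
    exact (mem_centralizer_iff.1 hx t rfl).symm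
  · exact centralizer_le (by simp)

theorem lBalance' {T C : Subgroup G} (hT : IsPGroup 2 T) (hC : C = centralizer (T : Set G)) :
    (pLayer 2 ↥C).map C.subtype ≤ pLayer 2 G := by
  subst hC
  exact lBalance T hT

/-- **L-balance** for an involution -/
theorem lBalance_two {t : G} (ht : orderOf t = 2) :
    (pLayer 2 ↥(centralizer ({t} : Set G))).map (centralizer ({t} : Set G)).subtype ≤ pLayer 2 G :=
  lBalance' (isPGroup_zpowers_two ht) (centralizer_singleton_eq t)

theorem component_le_pLayer_two {C L : Subgroup G} (hLC : L ≤ C) (hL : IsComponent (L.subgroupOf C))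
    (hodd : ¬ Odd (Nat.card L)) : IsPComponent 2 (L.subgroupOf C) := by
  apply isPComponent_of_isComponent hL
  intro h
  apply hodd
  have h1 := Subgroup.card_dvd_of_le h
  rw [Nat.card_congr (subgroupOfEquivOfLe hLC).toEquiv] at h1
  exact Odd.of_dvd_nat (Nat.coprime_two_right.1 (Cores.coprime_card_pPrimeCore 2 C)) h1

/-- an even order component of the centraliser of an involution lies in the 2-layer. -/
theorem le_pLayer {t : G} {L : Subgroup G} (ht : orderOf t = 2) (hLt : L ≤ centralizer ({t} : Set G))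
    (hL : IsComponent (L.subgroupOf (centralizer ({t} : Set G)))) (hodd : ¬ Odd (Nat.card L)) : L ≤ pLayer 2 G := by
  refine le_trans ?_ (lBalance_two ht)
  have h1 := pComponent_le_pLayer (component_le_pLayer_two hLt hL hodd)
  have h2 := Subgroup.map_mono (f := (centralizer ({t} : Set G)).subtype) h1
  rwa [map_subgroupOf_eq_of_le hLt] at h2

/-- if the core commutes with the 2-layer, the 2-layer is in the layer. -/
theorem pLayer_le_layer {p : ℕ} [hp : Fact p.Prime] (h : ⁅pLayer p G, pPrimeCore p G⁆ = ⊥) : pLayer p G ≤ layer G := by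
  apply sSup_le
  intro H hH
  apply component_le_layer
  refine ⟨hH.1, ?_⟩
  set π := QuotientGroup.mk' (pPrimeCore p G) with hπ
  have h1 : Group.IsPerfect H := isPerfect_iff'.2 (pComponent_perfect hH)
  apply quasisimple_of_central_quotient h1 (π.subgroupMap H) _ (π.subgroupMap_surjective H) hH.2.1.2
  intro x hx
  have h2 : (x : G) ∈ pPrimeCore p G := by
    rw [← QuotientGroup.ker_mk' (pPrimeCore p G), MonoidHom.mem_ker]
    exact congrArg Subtype.val hx
  rw [mem_center_iff]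
  intro y
  have h3 : ⁅(y : G), (x : G)⁆ ∈ ⁅pLayer p G, pPrimeCore p G⁆ :=
    commutator_mem_commutator (pComponent_le_pLayer hH y.2) h2
  rw [h, mem_bot, commutatorElement_def, mul_inv_eq_one, mul_inv_eq_iff_eq_mul] at h3
  exact Subtype.ext h3

/-- the rank argument -/
theorem exists_bigger {t : G} (ht : orderOf t = 2) {D B E : Subgroup G} (hc : D ≤ centralizer (cj t D : Set G))
    (hinj : ∀ d ∈ D, d * (t * d * t⁻¹) = 1 → d = 1) (hBc : IsMulCommutative B) (hB2 : ∀ x ∈ B, x ^ 2 = 1)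
    (htB : t ∈ B) (hBL : ∀ x ∈ B, ∀ d ∈ D, x * (d * (t * d * t⁻¹)) = d * (t * d * t⁻¹) * x)
    (hperm : ∀ x ∈ B, cj x D = D ∨ cj x D = cj t D) (hED : E ≤ D) (hEc : IsMulCommutative E)
    (hE2 : ∀ x ∈ E, x ^ 2 = 1) (hE : 2 < Nat.card E) :
    ∃ A : Subgroup G, IsMulCommutative A ∧ (∀ x ∈ A, x ^ 2 = 1) ∧ A ≤ B ⊔ cj t D ∧ A ≤ centralizer (D : Set G) ∧
      Nat.card B < Nat.card A := by
  have htt : t * t = 1 := tt_eq ht
  have hti : t⁻¹ = t := inv_eq_self' ht
  have hcomm : ∀ x ∈ B, ∀ y ∈ B, x * y = y * x := fun x hx y hy => by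
    have := hBc.1.1 (⟨x, hx⟩ : B) ⟨y, hy⟩
    exact congrArg Subtype.val this
  have hEcomm : ∀ x ∈ E, ∀ y ∈ E, x * y = y * x := fun x hx y hy => by
    have := hEc.1.1 (⟨x, hx⟩ : E) ⟨y, hy⟩
    exact congrArg Subtype.val this
  set B₀ := B ⊓ normalizer (D : Set G) with hB₀
  have hdiag : ∀ a b : D, diag ht hc a = diag ht hc b → a = b := by
    intro a b hab
    have h1 : diag ht hc (a * b⁻¹) = 1 := by rw [map_mul, map_inv, hab, mul_inv_cancel]
    have h2 := hinj _ (a * b⁻¹).2 h1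
    have h3 : a * b⁻¹ = 1 := Subtype.ext h2
    exact mul_inv_eq_one.1 h3
  -- `B₀` centralises `D`
  have hB₀D : B₀ ≤ centralizer (D : Set G) := by
    intro x hx
    rw [mem_centralizer_iff]
    intro d hd
    have hxd : x * d * x⁻¹ ∈ D := (mem_normalizer_iff.1 hx.2 d).1 hd
    have h1 := hBL x hx.1 d hd
    have hxt : x * t = t * x := hcomm x hx.1 t htB
    have h2 : diag ht hc ⟨x * d * x⁻¹, hxd⟩ = diag ht hc ⟨d, hd⟩ := by
      rw [diag_apply, diag_apply]
      calc x * d * x⁻¹ * (t * (x * d * x⁻¹) * t⁻¹) = x * d * x⁻¹ * ((t * x) * d * (x⁻¹ * t⁻¹)) := by group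
        _ = x * d * x⁻¹ * ((x * t) * d * (t * x)⁻¹) := by rw [← mul_inv_rev, hxt]
        _ = x * d * x⁻¹ * ((x * t) * d * (x * t)⁻¹) := by rw [hxt]
        _ = x * (d * (t * d * t⁻¹)) * x⁻¹ := by group
        _ = d * (t * d * t⁻¹) := by rw [h1]; group
    have h3 := congrArg Subtype.val (hdiag _ _ h2)
    change x * d * x⁻¹ = d at h3
    rw [mul_inv_eq_iff_eq_mul] at h3
    exact h3.symm
  have hcjB₀ : ∀ x ∈ B, t * x * t⁻¹ = x := by
    intro x hx
    rw [hcomm t htB x hx]; group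
  have hB₀D' : B₀ ≤ centralizer (cj t D : Set G) := by
    intro x hx
    have h1 : t * x * t⁻¹ ∈ cj t (centralizer (D : Set G)) := ⟨x, hB₀D hx, rfl⟩
    rw [hcjB₀ x hx.1] at h1
    have h2 := map_conj_centralizer D t
    unfold cj at h1 ⊢
    rwa [h2] at h1
  have hEt : cj t E ≤ cj t D := Subgroup.map_mono hED
  have hB₀E : cj t E ≤ centralizer (B₀ : Set G) := le_centralizer_comm (hB₀D'.trans (centralizer_le hEt))
  have hdisj : B₀ ⊓ cj t E = ⊥ := by
    rw [eq_bot_iff]
    rintro x ⟨hx, hxE⟩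
    have h1 : x ∈ D := by
      have h2 : t * x * t⁻¹ ∈ cj t (cj t D) := ⟨x, hEt hxE, rfl⟩
      rwa [cj_cj ht, hcjB₀ x hx.1] at h2
    rw [mem_bot]
    apply hinj x h1
    rw [hcjB₀ x hx.1, ← pow_two, hB2 x hx.1]
  have hcardE : Nat.card (cj t E) = Nat.card E := card_map_conj E t
  have hBcard : Nat.card B ≤ 2 * Nat.card B₀ := by
    have h1 : B ≤ B₀ ⊔ zpowers t := by
      intro x hx
      rcases hperm x hx with h2 | h2
      · exact mem_sup_left ⟨hx, mem_normalizer_of_map_conj_eq h2⟩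
      · have h3 : t * x ∈ normalizer (D : Set G) := by
          apply mem_normalizer_of_map_conj_eq
          rw [map_conj_mul]
          change cj t (cj x D) = D
          rw [h2, cj_cj ht]
        have h4 : x = (x * t) * t := by rw [mul_assoc, htt, mul_one]
        rw [h4]
        refine mul_mem (mem_sup_left ⟨B.mul_mem hx htB, ?_⟩) (mem_sup_right (mem_zpowers t))
        rw [← hcomm t htB x hx]; exact h3
    have h2 : zpowers t ≤ centralizer (B₀ : Set G) := by
      rw [zpowers_le, mem_centralizer_iff]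
      intro x hx
      exact hcomm x hx.1 t htB
    calc Nat.card B ≤ Nat.card (B₀ ⊔ zpowers t : Subgroup G) := Subgroup.card_le_of_le h1
      _ ≤ Nat.card (zpowers t) * Nat.card B₀ := by
        have h3 := ProdCard.card_sup_mul_card_inf (h2.trans (centralizer_le_normalizer _))
        rw [sup_comm, ← h3]
        exact Nat.le_mul_of_pos_right _ Nat.card_pos
      _ = 2 * Nat.card B₀ := by rw [Nat.card_zpowers, ht]
  set A := B₀ ⊔ cj t E with hA
  have hAcard : Nat.card A = Nat.card E * Nat.card B₀ := by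
    have h3 := ProdCard.card_sup_mul_card_inf (hB₀E.trans (centralizer_le_normalizer _))
    rw [inf_comm, hdisj, Subgroup.card_bot, mul_one, sup_comm, hcardE] at h3
    exact h3
  have hform : ∀ x ∈ A, ∃ b ∈ B₀, ∃ e ∈ E, x = b * (t * e * t⁻¹) := by
    intro x hx
    obtain ⟨b, hb, y, hy, rfl⟩ := exists_mul_of_mem_sup_of_le (hB₀E.trans (centralizer_le_normalizer _)) hx
    obtain ⟨e, he, rfl⟩ := hy
    exact ⟨b, hb, e, he, rfl⟩
  have hbe : ∀ b ∈ B₀, ∀ e ∈ E, b * (t * e * t⁻¹) = (t * e * t⁻¹) * b := fun b hb e he =>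
    mem_centralizer_iff.1 (hB₀E ⟨e, he, rfl⟩) b hb
  refine ⟨A, ⟨⟨?_⟩⟩, ?_, ?_, ?_, ?_⟩
  · rintro ⟨x, hx⟩ ⟨y, hy⟩
    apply Subtype.ext
    change x * y = y * x
    obtain ⟨b, hb, e, he, rfl⟩ := hform x hx
    obtain ⟨b', hb', e', he', rfl⟩ := hform y hy
    have h1 := hbe b hb e he
    have h2 := hbe b hb e' he'
    have h3 := hbe b' hb' e he
    have h4 := hcomm b hb.1 b' hb'.1
    have h5 : (t * e * t⁻¹) * (t * e' * t⁻¹) = (t * e' * t⁻¹) * (t * e * t⁻¹) := by
      calc (t * e * t⁻¹) * (t * e' * t⁻¹) = t * (e * e') * t⁻¹ := by group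
        _ = t * (e' * e) * t⁻¹ := by rw [hEcomm e he e' he']
        _ = _ := by group
    calc b * (t * e * t⁻¹) * (b' * (t * e' * t⁻¹)) = b * ((t * e * t⁻¹) * b') * (t * e' * t⁻¹) := by group
      _ = b * (b' * (t * e * t⁻¹)) * (t * e' * t⁻¹) := by rw [h3]
      _ = (b * b') * ((t * e * t⁻¹) * (t * e' * t⁻¹)) := by group
      _ = (b' * b) * ((t * e' * t⁻¹) * (t * e * t⁻¹)) := by rw [h4, h5]
      _ = b' * (b * (t * e' * t⁻¹)) * (t * e * t⁻¹) := by group
      _ = b' * ((t * e' * t⁻¹) * b) * (t * e * t⁻¹) := by rw [h2]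
      _ = _ := by group
  · intro x hx
    obtain ⟨b, hb, e, he, rfl⟩ := hform x hx
    have h1 := hbe b hb e he
    rw [pow_two]
    calc b * (t * e * t⁻¹) * (b * (t * e * t⁻¹)) = b * ((t * e * t⁻¹) * b) * (t * e * t⁻¹) := by group
      _ = b * (b * (t * e * t⁻¹)) * (t * e * t⁻¹) := by rw [h1]
      _ = b ^ 2 * (t * (e ^ 2) * t⁻¹) := by rw [pow_two, pow_two]; group
      _ = 1 := by rw [hB2 b hb.1, hE2 e he]; group
  · exact sup_le_sup inf_le_left hEt
  · exact sup_le hB₀D (hEt.trans (le_centralizer_comm hc))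
  · rw [hAcard]
    have h1 : 0 < Nat.card B₀ := Nat.card_pos
    nlinarith

end Cfsg.Agent.Lib.GlaubComp
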