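import Cfsg.Agent.Lib.GlaubCorr
import Cfsg.Agent.Lib.H76Char

/-!
# Conjugation action of a subgroup on a normalised subgroup
-/

set_option autoImplicit false
set_option linter.all false

namespace Cfsg.Agent.Lib.GlaubCorr

open Cfsg Cfsg.Agent.Lib.BlockRing Cfsg.Agent.Lib.BlockGA Cfsg.Agent.Lib.BlockIdem
open Cfsg.Agent.Lib.CharBasic

universe u

/-- conjugation action of a subgroup `S` on a subgroup `G` which it normalises -/
def conjAct {Γ : Type u} [Group Γ] (G S : Subgroup Γ) (hnorm : ∀ s ∈ S, ∀ g ∈ G, s * g * s⁻¹ ∈ G) :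
    S →* MulAut G where
  toFun s :=
    { toFun := fun g => ⟨s * g * (s : Γ)⁻¹, hnorm s s.2 g g.2⟩
      invFun := fun g => ⟨(s : Γ)⁻¹ * g * s, by
        have := hnorm (s : Γ)⁻¹ (S.inv_mem s.2) g g.2
        rwa [inv_inv] at this⟩
      left_inv := fun g => by apply Subtype.ext; simp [mul_assoc]
      right_inv := fun g => by apply Subtype.ext; simp [mul_assoc]
      map_mul' := fun a b => by apply Subtype.ext; simp [mul_assoc] }
  map_one' := by ext g; simp
  map_mul' := fun s t => by ext g; simp [mul_assoc]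

theorem conjAct_coe {Γ : Type u} [Group Γ] {G S : Subgroup Γ}
    (hnorm : ∀ s ∈ S, ∀ g ∈ G, s * g * s⁻¹ ∈ G) (s : S) (g : G) :
    ((conjAct G S hnorm s g : G) : Γ) = s * g * (s : Γ)⁻¹ := rfl

theorem inv_conjAct_iff {Γ : Type u} [Group Γ] {G S : Subgroup Γ}
    (hnorm : ∀ s ∈ S, ∀ g ∈ G, s * g * s⁻¹ ∈ G) (χ : G → ℂ) :
    Inv (conjAct G S hnorm) χ ↔
      ∀ s ∈ S, ∀ g g' : G, (g' : Γ) = s * g * s⁻¹ → χ g' = χ g := by
  constructor
  · intro h s hs g g' hg
    have : g' = conjAct G S hnorm ⟨s, hs⟩ g := Subtype.ext hg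
    rw [this]
    exact h ⟨s, hs⟩ g
  · intro h s g
    exact h s s.2 g _ (conjAct_coe hnorm s g)

theorem data_conj {Γ : Type u} [Group Γ] [Finite Γ] {G S : Subgroup Γ}
    (hnorm : ∀ s ∈ S, ∀ g ∈ G, s * g * s⁻¹ ∈ G) {p : ℕ} {M : Ideal AlgInt} (hM : IsPModular p M)
    (hS : IsPGroup p S) (hpG : ¬ p ∣ Nat.card G) {C : Subgroup Γ}
    (hC : C = G ⊓ Subgroup.centralizer (S : Set Γ)) (hCG : C ≤ G) :
    Data p M (conjAct G S hnorm) (Subgroup.inclusion hCG) where
  hM := hM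
  hS := hS
  hpG := hpG
  hι := Subgroup.inclusion_injective hCG
  hfix := by
    intro g
    constructor
    · rintro ⟨c, rfl⟩ s
      apply Subtype.ext
      rw [conjAct_coe]
      show (s : Γ) * c * (s : Γ)⁻¹ = c
      have h1 : (c : Γ) ∈ Subgroup.centralizer (S : Set Γ) := (Subgroup.mem_inf.1 (hC.le c.2)).2
      rw [Subgroup.mem_centralizer_iff] at h1
      rw [h1 s s.2, mul_inv_cancel_right]
    · intro h
      have h1 : (g : Γ) ∈ C := by
        rw [hC]
        refine Subgroup.mem_inf.2 ⟨g.2, ?_⟩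
        rw [Subgroup.mem_centralizer_iff]
        intro s hs
        have := congrArg Subtype.val (h ⟨s, hs⟩)
        rw [conjAct_coe] at this
        exact mul_inv_eq_iff_eq_mul.mp this
      exact ⟨⟨g, h1⟩, rfl⟩

end Cfsg.Agent.Lib.GlaubCorr
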