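import Cfsg.Agent.Lib.GlaubCorrConj
import Cfsg.Agent.Lib.SubgroupTools

/-!
# Invariant characters and invariant classes under coprime solvable action
-/

set_option autoImplicit false
set_option linter.all false

namespace Cfsg.Agent.Lib.GlaubCorr

open Cfsg Cfsg.Agent.Lib.BlockRing Cfsg.Agent.Lib.BlockGA Cfsg.Agent.Lib.BlockIdem
open Cfsg.Agent.Lib.CharBasic

universe u

section fix

variable {G : Type u} [Group G]

/-- fixed points of a subgroup of a group of automorphisms -/
def fixC (S : Subgroup (MulAut G)) (E : Subgroup S) : Subgroup G where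
  carrier := {g | ∀ e : E, ((e : S) : MulAut G) g = g}
  mul_mem' := fun {a b} ha hb e => by rw [map_mul, ha e, hb e]
  one_mem' := fun e => map_one _
  inv_mem' := fun {a} ha e => by rw [map_inv, ha e]

theorem mem_fixC {S : Subgroup (MulAut G)} {E : Subgroup S} {g : G} :
    g ∈ fixC S E ↔ ∀ e : E, ((e : S) : MulAut G) g = g := Iff.rfl

theorem smul_mem_fixC {S : Subgroup (MulAut G)} {E : Subgroup S} [E.Normal] (s : S) {g : G}
    (hg : g ∈ fixC S E) : (s : MulAut G) g ∈ fixC S E := by
  intro e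
  have h1 : s⁻¹ * (e : S) * s ∈ E := by
    have := (inferInstance : E.Normal).conj_mem e e.2 s⁻¹
    rwa [inv_inv] at this
  have h2 := hg ⟨_, h1⟩
  have h3 : ((e : S) : MulAut G) ((s : MulAut G) g) =
      (s : MulAut G) (((s⁻¹ * (e : S) * s : S) : MulAut G) g) := by
    rw [← MulAut.mul_apply, ← MulAut.mul_apply]
    congr 1
    push_cast
    group
  rw [h3]
  congr 1

/-- action of `S` on the fixed points of a normal subgroup -/
def resAct (S : Subgroup (MulAut G)) (E : Subgroup S) [E.Normal] : S →* MulAut (fixC S E) where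
  toFun s :=
    { toFun := fun g => ⟨(s : MulAut G) g, smul_mem_fixC s g.2⟩
      invFun := fun g => ⟨((s⁻¹ : S) : MulAut G) g, smul_mem_fixC s⁻¹ g.2⟩
      left_inv := fun g => by
        apply Subtype.ext
        show ((s⁻¹ : S) : MulAut G) ((s : MulAut G) g) = g
        rw [← MulAut.mul_apply, ← Subgroup.coe_mul, inv_mul_cancel]; rfl
      right_inv := fun g => by
        apply Subtype.ext
        show (s : MulAut G) (((s⁻¹ : S) : MulAut G) g) = g
        rw [← MulAut.mul_apply, ← Subgroup.coe_mul, mul_inv_cancel]; rfl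
      map_mul' := fun a b => by apply Subtype.ext; exact map_mul _ _ _ }
  map_one' := by ext g; rfl
  map_mul' := fun s t => by ext g; rfl

theorem resAct_coe {S : Subgroup (MulAut G)} {E : Subgroup S} [E.Normal] (s : S) (c : fixC S E) :
    ((resAct S E s c : fixC S E) : G) = (s : MulAut G) c := rfl

end fix

theorem count (n : ℕ) : ∀ {G : Type u} [Group G] [Finite G] (S : Subgroup (MulAut G)), Nat.card S = n →
    Group.IsSolvable S → (Nat.card G).Coprime (Nat.card S) →
    Nat.card {χ : IrrCharacter G // ∀ s ∈ S, ∀ g, (χ : G → ℂ) (s g) = (χ : G → ℂ) g} =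
    Nat.card {K : ConjClasses G // ∀ s ∈ S, ∀ g, ConjClasses.mk g = K → ConjClasses.mk (s g) = K} := by
  induction n using Nat.strong_induction_on with
  | _ n ih =>
  intro G _ _ S hn hsolv hcop
  classical
  by_cases hS : S = ⊥
  · have h1 : ∀ χ : IrrCharacter G, ∀ s ∈ S, ∀ g, (χ : G → ℂ) (s g) = (χ : G → ℂ) g := by
      intro χ s hs g
      rw [hS, Subgroup.mem_bot] at hs
      rw [hs]; rfl
    have h2 : ∀ K : ConjClasses G, ∀ s ∈ S, ∀ g, ConjClasses.mk g = K → ConjClasses.mk (s g) = K := by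
      intro K s hs g hg
      rw [hS, Subgroup.mem_bot] at hs
      rw [hs]; exact hg
    rw [Nat.card_congr (Equiv.subtypeUnivEquiv h1), Nat.card_congr (Equiv.subtypeUnivEquiv h2), card_irr]
  haveI hnt : Nontrivial S := (Subgroup.nontrivial_iff_ne_bot S).2 hS
  haveI hfinS : Finite S := inferInstance
  obtain ⟨p, E, hp, hEbot, hEchar, -, hEp⟩ := SubgroupTools.exists_characteristic_elementary S
  haveI : E.Normal := Subgroup.normal_of_characteristic E
  have hpE : IsPGroup p E := SubgroupTools.isPGroup_of_forall_pow_eq_one hEp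
  haveI : Fact p.Prime := ⟨hp⟩
  have hpdvd : p ∣ Nat.card S := by
    haveI : Nontrivial E := (Subgroup.nontrivial_iff_ne_bot E).2 hEbot
    obtain ⟨k, hk, hk'⟩ := (IsPGroup.nontrivial_iff_card hpE).1 inferInstance
    have h1 : p ∣ Nat.card E := by rw [hk']; exact dvd_pow_self p hk.ne'
    exact h1.trans (Subgroup.card_subgroup_dvd_card E)
  have hpG : ¬ p ∣ Nat.card G := by
    intro h
    have h2 := Nat.dvd_gcd h hpdvd
    rw [hcop] at h2
    exact hp.one_lt.ne' (Nat.dvd_one.1 h2)
  obtain ⟨M, hM⟩ := H76Char.exists_isPModular p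
  let act : E →* MulAut G := S.subtype.comp E.subtype
  let C := fixC S E
  let ι : C →* G := C.subtype
  have D : Data p M act ι :=
    { hM := hM, hS := hpE, hpG := hpG, hι := C.subtype_injective
      hfix := fun g => ⟨fun ⟨c, hc⟩ => hc ▸ c.2, fun h => ⟨⟨g, h⟩, rfl⟩⟩ }
  haveI : Fintype C := Fintype.ofFinite C
  let r := resAct S E
  -- the smaller group
  have hker : E ≤ r.ker := by
    intro e he
    rw [MonoidHom.mem_ker]
    ext c
    exact c.2 ⟨e, he⟩
  have hlt : Nat.card r.range < n := by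
    have h1 : r.ker.index = Nat.card r.range := Subgroup.index_ker r
    have h2 := r.ker.card_mul_index
    rw [h1, hn] at h2
    have h3 : 1 < Nat.card r.ker := by
      rw [Subgroup.one_lt_card_iff_ne_bot]
      intro h
      rw [h, le_bot_iff] at hker
      exact hEbot hker
    have h4 : 0 < Nat.card r.range := Nat.card_pos
    rw [← h2]
    nlinarith
  have hsolv' : Group.IsSolvable r.range :=
    Group.isSolvable_of_surjective (f := r.rangeRestrict) r.rangeRestrict_surjective
  have hcop' : (Nat.card C).Coprime (Nat.card r.range) := by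
    refine Nat.Coprime.coprime_dvd_left (Subgroup.card_subgroup_dvd_card C) ?_
    refine Nat.Coprime.coprime_dvd_right ?_ hcop
    rw [← Subgroup.index_ker r]
    exact Subgroup.index_dvd_card _
  have hih := ih _ hlt r.range rfl hsolv' hcop'
  -- equivariance
  have hequi : ∀ (s : S) (χ : IrrCharacter G) (β : IrrCharacter C),
      mult ι (tw (s : MulAut G) χ) (tw (r s) β) = mult ι χ β := by
    intro s χ β
    apply mult_eq
    rw [← mult_spec ι χ β, classInner, classInner]
    congr 1
    rw [← Equiv.sum_comp (r s).toEquiv (fun c => (χ : G → ℂ) (ι c) * (starRingEnd ℂ) ((β : C → ℂ) c))]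
    rfl
  have hinvE : ∀ χ : IrrCharacter G, (∀ s ∈ S, ∀ g, (χ : G → ℂ) (s g) = (χ : G → ℂ) g) →
      Inv act (χ : G → ℂ) := fun χ hχ e g => hχ _ (e : S).2 g
  have htwInv : ∀ (s : S) (χ : IrrCharacter G), Inv act (χ : G → ℂ) → Inv act (tw (s : MulAut G) χ : G → ℂ) := by
    intro s χ hχ e g
    rw [tw_apply, tw_apply]
    have h1 : s * (e : S) * s⁻¹ ∈ E := (inferInstance : E.Normal).conj_mem e e.2 s
    have h2 := hχ ⟨_, h1⟩ ((s : MulAut G) g)
    rw [← h2]
    refine congrArg (χ : G → ℂ) ?_
    show (s : MulAut G) (((e : S) : MulAut G) g) = ((s * (e : S) * s⁻¹ : S) : MulAut G) ((s : MulAut G) g)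
    rw [← MulAut.mul_apply, ← MulAut.mul_apply]
    congr 1
    push_cast
    group
  have hA : Nat.card {χ : IrrCharacter G // ∀ s ∈ S, ∀ g, (χ : G → ℂ) (s g) = (χ : G → ℂ) g} =
      Nat.card {β : IrrCharacter C // ∀ s ∈ r.range, ∀ g, (β : C → ℂ) (s g) = (β : C → ℂ) g} := by
    choose f hf1 hf2 using fun β : IrrCharacter C => exists_chi D β
    have hfinv : ∀ β : IrrCharacter C, (∀ s ∈ r.range, ∀ g, (β : C → ℂ) (s g) = (β : C → ℂ) g) →
        ∀ s ∈ S, ∀ g, (f β : G → ℂ) (s g) = (f β : G → ℂ) g := by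
      intro β hβ s hs g
      have h1 : tw (r ⟨s, hs⟩) β = β := by
        apply Subtype.ext
        funext c
        exact hβ _ ⟨⟨s, hs⟩, rfl⟩ c
      have h2 := hequi ⟨s, hs⟩ (f β) β
      rw [h1] at h2
      have h3 : tw s (f β) = f β := by
        apply unique_chi D (htwInv ⟨s, hs⟩ _ (hf1 β)) (hf1 β) ?_ (hf2 β)
        rw [h2]
        exact hf2 β
      exact congrArg (fun χ : IrrCharacter G => (χ : G → ℂ) g) h3
    symm
    refine Nat.card_congr (Equiv.ofBijective (fun β => ⟨f β.1, hfinv β.1 β.2⟩) ⟨?_, ?_⟩)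
    · intro β β' h
      have h1 : f β.1 = f β'.1 := congrArg Subtype.val h
      apply Subtype.ext
      apply unique_beta D (hf1 β.1) (hf2 β.1)
      rw [h1]
      exact hf2 β'.1
    · intro χ
      obtain ⟨β, hβ⟩ := exists_beta D χ.1
      have hχ := hinvE χ.1 χ.2
      have hβinv : ∀ s ∈ r.range, ∀ g, (β : C → ℂ) (s g) = (β : C → ℂ) g := by
        rintro _ ⟨s, rfl⟩ g
        have h1 : tw (s : MulAut G) χ.1 = χ.1 := by
          apply Subtype.ext
          funext c
          exact χ.2 _ s.2 c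
        have h2 := hequi s χ.1 β
        rw [h1] at h2
        have h3 : tw (r s) β = β := by
          apply unique_beta D hχ ?_ hβ
          rw [h2]
          exact hβ
        exact congrArg (fun β : IrrCharacter C => (β : C → ℂ) g) h3
      refine ⟨⟨β, hβinv⟩, Subtype.ext ?_⟩
      exact unique_chi D (hf1 β) hχ (hf2 β) hβ
  have hB : Nat.card {K : ConjClasses C // ∀ s ∈ r.range, ∀ g, ConjClasses.mk g = K → ConjClasses.mk (s g) = K} =
      Nat.card {K : ConjClasses G // ∀ s ∈ S, ∀ g, ConjClasses.mk g = K → ConjClasses.mk (s g) = K} := by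
    have hmapinj : Function.Injective (ConjClasses.map ι) := by
      intro a b h
      obtain ⟨a, rfl⟩ := ConjClasses.mk_surjective a
      obtain ⟨b, rfl⟩ := ConjClasses.mk_surjective b
      have h1 : ConjClasses.mk (ι a) = ConjClasses.mk (ι b) := h
      rw [ConjClasses.mk_eq_mk_iff_isConj] at h1 ⊢
      exact isConj_of_isConj D h1
    have hwd : ∀ K : ConjClasses C, (∀ s ∈ r.range, ∀ g, ConjClasses.mk g = K → ConjClasses.mk (s g) = K) →
        ∀ s ∈ S, ∀ g, ConjClasses.mk g = ConjClasses.map ι K → ConjClasses.mk (s g) = ConjClasses.map ι K := by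
      intro K hK s hs g hg
      obtain ⟨c, rfl⟩ := ConjClasses.mk_surjective K
      have h0 : ConjClasses.map ι (ConjClasses.mk c) = ConjClasses.mk (ι c) := rfl
      rw [h0, ConjClasses.mk_eq_mk_iff_isConj] at hg ⊢
      have h1 := s.toMonoidHom.map_isConj hg
      have h2 := hK _ ⟨⟨s, hs⟩, rfl⟩ c rfl
      rw [ConjClasses.mk_eq_mk_iff_isConj] at h2
      exact h1.trans (ι.map_isConj h2)
    refine Nat.card_congr (Equiv.ofBijective (fun K => ⟨ConjClasses.map ι K.1, hwd K.1 K.2⟩) ⟨?_, ?_⟩)
    · intro K K' h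
      exact Subtype.ext (hmapinj (congrArg Subtype.val h))
    · rintro ⟨K, hK⟩
      obtain ⟨g, rfl⟩ := ConjClasses.mk_surjective K
      obtain ⟨c, hc⟩ := exists_isConj D (g := g) (fun e => by
        have := hK _ (e : S).2 g rfl
        rw [ConjClasses.mk_eq_mk_iff_isConj] at this
        exact this.symm)
      refine ⟨⟨ConjClasses.mk c, ?_⟩, Subtype.ext ?_⟩
      · rintro _ ⟨s, rfl⟩ c' hc'
        rw [ConjClasses.mk_eq_mk_iff_isConj] at hc' ⊢
        apply isConj_of_isConj D
        have h1 : IsConj (ι c') g := (ι.map_isConj hc').trans hc.symm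
        have h2 := hK _ s.2 (ι c') (by rw [ConjClasses.mk_eq_mk_iff_isConj]; exact h1)
        rw [ConjClasses.mk_eq_mk_iff_isConj] at h2
        exact h2.trans hc
      · show ConjClasses.mk (ι c) = ConjClasses.mk g
        rw [ConjClasses.mk_eq_mk_iff_isConj]
        exact hc.symm
  rw [hA, hih, hB]

end Cfsg.Agent.Lib.GlaubCorr
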