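import Cfsg.Agent.Lib.H76Coset
import Cfsg.Agent.Lib.SchurZassenhaus
import Cfsg.Agent.Lib.CharGalois
import Cfsg.Agent.Lib.CanonExt
import Cfsg.Agent.Lib.CharApps

set_option autoImplicit false
set_option linter.unusedSectionVars false

/-!
# Coprime action of a cyclic group `S` on `G`: the coset `G s` in `Γ = G S` (helper74)

For a generator `s` of `S` and `C = C_G(S)` every element of the coset `G s` is `G`-conjugate to `c s`
with `c ∈ C` unique up to `C`-conjugacy.  For canonical extensions `χ̂` the function `c ↦ χ̂ (c s)` is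
`±` an irreducible character of `C`.
-/

namespace Cfsg.Agent.Lib.GlaubCyc

open scoped ComplexConjugate
open Cfsg Cfsg.Agent.Lib.CharBasic Cfsg.Agent.Lib.Clifford

universe u v

/-! ### slices of characters of direct products -/

theorem slice {A : Type u} {B : Type v} [Group A] [Group B] [Fintype A] [Finite B] {θ : A × B → ℂ}
    (hθ : IsCharacter (A × B) θ) {β : A → ℂ} (hβ : IsIrrCharacter A β) :
    IsCharacter B (fun t => classInner (fun a => θ (a, t)) β) := by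
  have := Fintype.ofFinite B
  apply isCharacter_of_classInner
  · intro a b
    show classInner (fun x => θ (x, b * a * b⁻¹)) β = classInner (fun x => θ (x, a)) β
    refine congrArg (fun f => classInner f β) (funext fun x => ?_)
    have := hθ.isClassFunction (x, a) (1, b)
    simpa using this
  · intro lam hlam
    obtain ⟨n, hn⟩ := hθ.classInner_nat (CharApps.isIrrCharacter_prod hβ hlam).isCharacter
    refine ⟨n, ?_⟩
    rw [← hn, classInner_def, classInner_def, Fintype.sum_prod_type, Nat.card_prod, Nat.cast_mul,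
      mul_inv, mul_comm (Nat.card A : ℂ)⁻¹, mul_assoc, Finset.sum_comm, Finset.mul_sum (a := (Nat.card A : ℂ)⁻¹)]
    congr 1
    apply Finset.sum_congr rfl
    intro t _
    rw [classInner_def, mul_assoc, Finset.sum_mul]
    congr 1
    apply Finset.sum_congr rfl
    intro a _
    rw [map_mul]
    ring

/-! ### the coset `G s` -/

section coset

variable {Γ : Type u} [Group Γ] [Finite Γ] {G S C : Subgroup Γ}

/-- `Γ = G S` with `S` acting coprimely on the normal subgroup `G`, `C = C_G(S)`. -/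
structure Cyc (G S C : Subgroup Γ) : Prop where
  hn : G.Normal
  hcop : (Nat.card G).Coprime (Nat.card S)
  htop : G ⊔ S = ⊤
  hC : C = G ⊓ Subgroup.centralizer (S : Set Γ)

theorem Cyc.inf_eq (h : Cyc G S C) : G ⊓ S = ⊥ := Subgroup.inf_eq_bot_of_coprime h.hcop

theorem Cyc.index (h : Cyc G S C) : G.index = Nat.card S := by
  have := h.hn
  have hc : G.IsComplement' S := by
    apply Subgroup.isComplement'_of_disjoint_and_mul_eq_univ
    · rw [disjoint_iff]; exact h.inf_eq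
    · rw [← Subgroup.normal_mul, h.htop]; rfl
  have h3 := hc.card_mul
  rw [← G.card_mul_index] at h3
  exact (Nat.eq_of_mul_eq_mul_left Nat.card_pos h3).symm

theorem Cyc.exp (h : Cyc G S C) (k : ℕ) : ∃ e : ℕ, e ≡ k [MOD Nat.card S] ∧ e ≡ 0 [MOD Nat.card G] := by
  obtain ⟨e, he⟩ := Nat.chineseRemainder h.hcop.symm k 0
  exact ⟨e, he.1, he.2⟩

theorem Cyc.exp' (h : Cyc G S C) (k : ℕ) : ∃ e : ℕ, e ≡ k [MOD Nat.card S] ∧ e ≡ 1 [MOD Nat.card G] := by
  obtain ⟨e, he⟩ := Nat.chineseRemainder h.hcop.symm k 1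
  exact ⟨e, he.1, he.2⟩

theorem pow_modEq {H : Subgroup Γ} {x : Γ} (hx : x ∈ H) {a b : ℕ} (hab : a ≡ b [MOD Nat.card H]) :
    x ^ a = x ^ b := by
  rw [pow_eq_pow_iff_modEq]
  exact hab.of_dvd (H.orderOf_dvd_natCard hx)

theorem mem_gen {s : Γ} (hs : Subgroup.zpowers s = S) : s ∈ S := by
  rw [← hs]; exact Subgroup.mem_zpowers s

theorem Cyc.mem_C (h : Cyc G S C) {s : Γ} (hs : Subgroup.zpowers s = S) {c : Γ} :
    c ∈ C ↔ c ∈ G ∧ Commute c s := by
  rw [h.hC, Subgroup.mem_inf, Subgroup.mem_centralizer_iff]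
  constructor
  · rintro ⟨h1, h2⟩
    exact ⟨h1, (h2 s (mem_gen hs)).symm⟩
  · rintro ⟨h1, h2⟩
    refine ⟨h1, ?_⟩
    intro t ht
    rw [SetLike.mem_coe, ← hs] at ht
    obtain ⟨k, rfl⟩ := Subgroup.mem_zpowers_iff.mp ht
    exact (h2.zpow_right k).symm

theorem Cyc.comm (h : Cyc G S C) {c t : Γ} (hc : c ∈ C) (ht : t ∈ S) : Commute c t := by
  rw [h.hC] at hc
  exact (Subgroup.mem_centralizer_iff.mp hc.2 t ht).symm

/-- every element of `G s` is conjugate to `c s` with `c ∈ C` -/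
theorem Cyc.exists_conj (h : Cyc G S C) {s : Γ} (hs : Subgroup.zpowers s = S) {x : Γ} (hx : x * s⁻¹ ∈ G) :
    ∃ g ∈ G, ∃ c ∈ C, x = g * (c * s) * g⁻¹ := by
  have := h.hn
  obtain ⟨e, he1, he0⟩ := h.exp 1
  have hsS := mem_gen hs
  have hq : ∀ {y : Γ}, y * s⁻¹ ∈ G ↔ (y : Γ ⧸ G) = (s : Γ ⧸ G) := by
    intro y
    rw [QuotientGroup.eq, ← G.inv_mem_iff (x := y⁻¹ * s)]
    rw [show (y⁻¹ * s)⁻¹ = s⁻¹ * y by group]
    exact ⟨fun h => this.mem_comm h, fun h => this.mem_comm h⟩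
  have hse : s ^ e = s := by
    have := pow_modEq hsS he1
    rwa [pow_one] at this
  have hy : x ^ e * s⁻¹ ∈ G := by
    rw [hq]
    rw [QuotientGroup.mk_pow, hq.mp hx, ← QuotientGroup.mk_pow, hse]
  have hxn : x ^ Nat.card S ∈ G := by
    rw [← h.index]
    exact Subgroup.pow_index_mem G x
  have hyn : (x ^ e) ^ Nat.card S = 1 := by
    rw [← pow_mul, mul_comm, pow_mul]
    have := pow_modEq hxn he0
    rwa [pow_zero] at this
  let K := Subgroup.zpowers (x ^ e)
  have hKdvd : Nat.card K ∣ Nat.card S := by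
    rw [Nat.card_zpowers]
    exact orderOf_dvd_of_pow_eq_one hyn
  have hGK : G ⊔ K = ⊤ := by
    rw [eq_top_iff, ← h.htop, sup_le_iff]
    refine ⟨le_sup_left, ?_⟩
    rw [← hs, Subgroup.zpowers_le]
    have h1 : s = (x ^ e * s⁻¹)⁻¹ * (x ^ e) := by group
    rw [h1]
    exact (G ⊔ K).mul_mem (Subgroup.mem_sup_left (G.inv_mem hy))
      (Subgroup.mem_sup_right (Subgroup.mem_zpowers _))
  have hsolv : Group.IsSolvable K := inferInstance
  obtain ⟨a, ha, hconj⟩ := SchurZassenhaus.conj_of_solvable (N := G) (H := K) (K := S)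
    Subgroup.le_normalizer_of_normal Subgroup.le_normalizer_of_normal (by rw [hGK, h.htop])
    (h.hcop.coprime_dvd_right hKdvd) h.hcop (Or.inr hsolv)
  have h1 : a * x ^ e * a⁻¹ ∈ S := by
    rw [← hconj, Subgroup.mem_pointwise_smul_iff_inv_smul_mem]
    have : (MulAut.conj a)⁻¹ • (a * x ^ e * a⁻¹) = x ^ e := by
      rw [MulAut.smul_def, MulAut.conj_inv_apply]; group
    rw [this]
    exact Subgroup.mem_zpowers _
  have hconjq : ∀ y : Γ, ((a * y * a⁻¹ : Γ) : Γ ⧸ G) = (y : Γ ⧸ G) := by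
    intro y
    rw [QuotientGroup.mk_mul, QuotientGroup.mk_mul, QuotientGroup.mk_inv, (QuotientGroup.eq_one_iff a).2 ha]
    simp
  have h2 : a * x ^ e * a⁻¹ = s := by
    have h3 : (a * x ^ e * a⁻¹) * s⁻¹ ∈ G ⊓ S := by
      refine ⟨?_, S.mul_mem h1 (S.inv_mem hsS)⟩
      show a * x ^ e * a⁻¹ * s⁻¹ ∈ G
      rw [hq, hconjq]
      exact hq.mp hy
    rw [h.inf_eq, Subgroup.mem_bot] at h3
    exact mul_inv_eq_one.mp h3
  have h3 : (a * x * a⁻¹) ^ e = s := by
    rw [conj_pow, h2]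
  have h4 : Commute (a * x * a⁻¹) s := by
    have := (Commute.refl (a * x * a⁻¹)).pow_right e
    rwa [h3] at this
  refine ⟨a⁻¹, G.inv_mem ha, a * x * a⁻¹ * s⁻¹, ?_, by group⟩
  rw [h.mem_C hs]
  refine ⟨?_, h4.mul_left (Commute.refl s).inv_left⟩
  rw [hq, hconjq]
  exact hq.mp hx

theorem Cyc.eq_of_conj (h : Cyc G S C) {s : Γ} (hs : Subgroup.zpowers s = S) {c c' g : Γ} (hc : c ∈ C)
    (hc' : c' ∈ C) (hg : g * (c * s) * g⁻¹ = c' * s) : Commute g s ∧ g * c * g⁻¹ = c' := by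
  obtain ⟨e, he1, he0⟩ := h.exp 1
  have hsS := mem_gen hs
  have hse : s ^ e = s := by
    have := pow_modEq hsS he1
    rwa [pow_one] at this
  have hce : ∀ {d : Γ}, d ∈ C → (d * s) ^ e = s := by
    intro d hd
    have h1 := (h.mem_C hs).mp hd
    have h2 := pow_modEq h1.1 he0
    rw [h1.2.mul_pow, hse, h2, pow_zero, one_mul]
  have h1 := congrArg (fun y => y ^ e) hg
  simp only [conj_pow, hce hc, hce hc'] at h1
  have h2 : g * s * g⁻¹ = s := h1
  have h3 : g * s = s * g := by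
    rw [mul_inv_eq_iff_eq_mul] at h2
    exact h2
  refine ⟨h3, ?_⟩
  have h4 : g * (c * s) * g⁻¹ = (g * c * g⁻¹) * (g * s * g⁻¹) := by group
  rw [h4, h2] at hg
  exact mul_right_cancel hg

theorem Cyc.C_le (h : Cyc G S C) : C ≤ G := by rw [h.hC]; exact inf_le_left

/-- the averaging formula over the coset -/
theorem Cyc.sum_coset (h : Cyc G S C) [Fintype G] [Fintype C] {s : Γ} (hs : Subgroup.zpowers s = S) {F : Γ → ℂ}
    (hF : IsClassFunction Γ F) :
    (Nat.card C : ℂ) * ∑ g : G, F (g * s) = (Nat.card G : ℂ) * ∑ c : C, F (c * s) := by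
  classical
  have := h.hn
  have hsS := mem_gen hs
  -- the map
  let φ : C × G → G := fun p => ⟨p.2 * (p.1 * s) * (p.2 : Γ)⁻¹ * s⁻¹, by
    have h1 : (p.2 : Γ) * (p.1 * s) * (p.2 : Γ)⁻¹ * s⁻¹ = p.2 * p.1 * (s * (p.2 : Γ)⁻¹ * s⁻¹) := by group
    rw [h1]
    exact G.mul_mem (G.mul_mem p.2.2 (h.C_le p.1.2)) (this.conj_mem _ (G.inv_mem p.2.2) s)⟩
  have hφ : ∀ p : C × G, ((φ p : G) : Γ) * s = p.2 * (p.1 * s) * (p.2 : Γ)⁻¹ := by
    intro p
    show (p.2 : Γ) * (p.1 * s) * (p.2 : Γ)⁻¹ * s⁻¹ * s = _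
    group
  have h1 : ∑ p : C × G, F ((φ p : G) * s) = (Nat.card G : ℂ) * ∑ c : C, F (c * s) := by
    rw [Fintype.sum_prod_type, Finset.mul_sum]
    apply Finset.sum_congr rfl
    intro c _
    have : ∀ g : G, F ((φ (c, g) : G) * s) = F (c * s) := fun g => by
      rw [hφ]
      exact hF _ _
    rw [Finset.sum_congr rfl fun g _ => this g, Finset.sum_const, Finset.card_univ, nsmul_eq_mul,
      Nat.card_eq_fintype_card]
  have h2 : ∀ y : G, (Finset.univ.filter (fun p : C × G => φ p = y)).card = Nat.card C := by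
    intro y
    have hy : ((y : Γ) * s) * s⁻¹ ∈ G := by rw [mul_inv_cancel_right]; exact y.2
    obtain ⟨g0, hg0, c0, hc0, hx⟩ := h.exists_conj hs hy
    rw [Nat.card_eq_fintype_card, ← Finset.card_univ]
    symm
    apply Finset.card_bij (fun (k : C) _ => ((⟨(k : Γ)⁻¹ * c0 * k, C.mul_mem (C.mul_mem (C.inv_mem k.2) hc0) k.2⟩ : C),
      (⟨g0 * k, G.mul_mem hg0 (h.C_le k.2)⟩ : G)))
    · intro k _
      rw [Finset.mem_filter]
      refine ⟨Finset.mem_univ _, Subtype.ext ?_⟩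
      apply mul_right_cancel (b := s)
      rw [hφ, hx]
      have hk : (k : Γ) * s = s * k := ((h.mem_C hs).mp k.2).2
      have hk' : s = (k : Γ) * s * (k : Γ)⁻¹ := by rw [hk]; group
      show g0 * k * ((k : Γ)⁻¹ * c0 * k * s) * (g0 * k)⁻¹ = g0 * (c0 * s) * g0⁻¹
      calc g0 * k * ((k : Γ)⁻¹ * c0 * k * s) * (g0 * k)⁻¹ = g0 * (c0 * (k * s * (k : Γ)⁻¹)) * g0⁻¹ := by group
        _ = _ := by rw [← hk']
    · intro k _ k' _ hkk
      have := congrArg (fun p : C × G => (p.2 : Γ)) hkk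
      exact Subtype.ext (mul_left_cancel this)
    · rintro ⟨c, g⟩ hp
      rw [Finset.mem_filter] at hp
      have h3 : ((φ (c, g) : G) : Γ) * s = y * s := by rw [hp.2]
      rw [hφ, hx] at h3
      have h4 : (g0⁻¹ * g) * (c * s) * (g0⁻¹ * g)⁻¹ = c0 * s := by
        have : (g0⁻¹ * g) * (c * s) * (g0⁻¹ * g)⁻¹ = g0⁻¹ * (g * (c * s) * (g : Γ)⁻¹) * g0 := by group
        rw [this]
        have h5 : (g : Γ) * (c * s) * (g : Γ)⁻¹ = g0 * (c0 * s) * g0⁻¹ := h3
        rw [h5]; group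
      obtain ⟨h5, h6⟩ := h.eq_of_conj hs c.2 hc0 h4
      have hk : g0⁻¹ * g ∈ C := (h.mem_C hs).mpr ⟨G.mul_mem (G.inv_mem hg0) g.2, h5⟩
      refine ⟨⟨g0⁻¹ * g, hk⟩, Finset.mem_univ _, ?_⟩
      apply Prod.ext
      · apply Subtype.ext
        show (g0⁻¹ * (g : Γ))⁻¹ * c0 * (g0⁻¹ * g) = c
        rw [← h6]; group
      · apply Subtype.ext
        show g0 * (g0⁻¹ * (g : Γ)) = g
        group
  rw [← h1, ← Finset.sum_fiberwise_of_maps_to (s := Finset.univ) (t := Finset.univ) (g := φ) (fun _ _ => Finset.mem_univ _),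
    Finset.mul_sum]
  apply Finset.sum_congr rfl
  intro y _
  have h3 : ∀ p ∈ Finset.univ.filter (fun p : C × G => φ p = y), F ((φ p : G) * s) = F (y * s) := by
    intro p hp
    rw [(Finset.mem_filter.mp hp).2]
  rw [Finset.sum_congr rfl h3, Finset.sum_const, h2, nsmul_eq_mul]

end coset

end Cfsg.Agent.Lib.GlaubCyc
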