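import Cfsg.Agent.Lib.GlaubCorrCount
import Cfsg.Agent.Lib.DegRatio

/-!
# Glauberman correspondence: the inductive step for solvable operator groups
-/

set_option autoImplicit false
set_option linter.all false

namespace Cfsg.Agent.Lib.GlaubCorr

open Cfsg Cfsg.Agent.Lib.BlockRing Cfsg.Agent.Lib.BlockGA Cfsg.Agent.Lib.BlockIdem
open Cfsg.Agent.Lib.CharBasic

universe u w

section general

variable {G : Type u} [Group G] [Finite G] {C : Type u} [Group C] [Finite C]

/-- General equivariance of multiplicities. -/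
theorem mult_tw_tw (ι : C →* G) [Fintype C] (σ : MulAut G) (τ : MulAut C) (h : ∀ c, ι (τ c) = σ (ι c))
    (χ : IrrCharacter G) (β : IrrCharacter C) : mult ι (tw σ χ) (tw τ β) = mult ι χ β := by
  apply mult_eq
  rw [← mult_spec ι χ β, classInner, classInner]
  congr 1
  rw [← Equiv.sum_comp τ.toEquiv (fun c => (χ : G → ℂ) (ι c) * (starRingEnd ℂ) ((β : C → ℂ) c))]
  refine Finset.sum_congr rfl fun c _ => ?_
  show (χ : G → ℂ) (σ (ι c)) * _ = (χ : G → ℂ) (ι (τ c)) * _
  rw [h]; rfl

/-- restriction of an automorphism to a stable subgroup -/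
def resAut (H : Subgroup G) (σ : MulAut G) (h : ∀ x ∈ H, σ x ∈ H) (h' : ∀ x ∈ H, σ⁻¹ x ∈ H) : MulAut H where
  toFun x := ⟨σ x, h x x.2⟩
  invFun x := ⟨σ⁻¹ x, h' x x.2⟩
  left_inv x := by
    apply Subtype.ext
    show σ⁻¹ (σ x) = x
    rw [← MulAut.mul_apply, inv_mul_cancel]; rfl
  right_inv x := by
    apply Subtype.ext
    show σ (σ⁻¹ x) = x
    rw [← MulAut.mul_apply, mul_inv_cancel]; rfl
  map_mul' a b := by apply Subtype.ext; exact map_mul _ _ _

theorem resAut_coe (H : Subgroup G) (σ : MulAut G) (h : ∀ x ∈ H, σ x ∈ H) (h' : ∀ x ∈ H, σ⁻¹ x ∈ H) (x : H) :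
    ((resAut H σ h h' x : H) : G) = σ x := rfl

end general

section step

variable {G : Type u} [Group G] [Finite G]

/-- A nontrivial solvable coprime operator group has a normal `p`-subgroup to start with. -/
theorem exists_step {S : Subgroup (MulAut G)} (hS : S ≠ ⊥) (hsolv : Group.IsSolvable S)
    (hcop : (Nat.card G).Coprime (Nat.card S)) :
    ∃ (p : ℕ) (M : Ideal AlgInt) (E : Subgroup S), E.Normal ∧ E ≠ ⊥ ∧
      Data p M (S.subtype.comp E.subtype) (fixC S E).subtype := by
  haveI hnt : Nontrivial S := (Subgroup.nontrivial_iff_ne_bot S).2 hS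
  haveI hfinS : Finite S := inferInstance
  obtain ⟨p, E, hp, hEbot, hEchar, -, hEp⟩ := SubgroupTools.exists_characteristic_elementary S
  haveI : E.Normal := Subgroup.normal_of_characteristic E
  have hpE : IsPGroup p E := SubgroupTools.isPGroup_of_forall_pow_eq_one hEp
  haveI : Fact p.Prime := ⟨hp⟩
  have hpdvd : p ∣ Nat.card S := by
    haveI : Nontrivial E := (Subgroup.nontrivial_iff_ne_bot E).2 hEbot
    obtain ⟨k, hk, hk'⟩ := (IsPGroup.nontrivial_iff_card hpE).1 inferInstance
    have h1 : p ∣ Nat.card E := by rw [hk']; exact dvd_pow_self p hk.ne'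
    exact h1.trans (Subgroup.card_subgroup_dvd_card E)
  have hpG : ¬ p ∣ Nat.card G := by
    intro h
    have h2 := Nat.dvd_gcd h hpdvd
    rw [hcop] at h2
    exact hp.one_lt.ne' (Nat.dvd_one.1 h2)
  obtain ⟨M, hM⟩ := H76Char.exists_isPModular p
  exact ⟨p, M, E, inferInstance, hEbot,
    { hM := hM, hS := hpE, hpG := hpG, hι := Subgroup.subtype_injective _
      hfix := fun g => ⟨fun ⟨c, hc⟩ => hc ▸ c.2, fun h => ⟨⟨g, h⟩, rfl⟩⟩ }⟩

variable {S : Subgroup (MulAut G)} {E : Subgroup S} [hEn : E.Normal]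

theorem card_range_lt (hE : E ≠ ⊥) : Nat.card (resAct S E).range < Nat.card S := by
  have hker : E ≤ (resAct S E).ker := by
    intro e he
    rw [MonoidHom.mem_ker]
    ext c
    exact c.2 ⟨e, he⟩
  have h1 : (resAct S E).ker.index = Nat.card (resAct S E).range := Subgroup.index_ker _
  have h2 := (resAct S E).ker.card_mul_index
  rw [h1] at h2
  have h3 : 1 < Nat.card (resAct S E).ker := by
    rw [Subgroup.one_lt_card_iff_ne_bot]
    intro h
    rw [h, le_bot_iff] at hker
    exact hE hker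
  have h4 : 0 < Nat.card (resAct S E).range := Nat.card_pos
  rw [← h2]
  nlinarith

theorem solvable_range (hsolv : Group.IsSolvable S) : Group.IsSolvable (resAct S E).range :=
  Group.isSolvable_of_surjective (f := (resAct S E).rangeRestrict) (resAct S E).rangeRestrict_surjective

theorem coprime_range (hcop : (Nat.card G).Coprime (Nat.card S)) :
    (Nat.card (fixC S E)).Coprime (Nat.card (resAct S E).range) := by
  refine Nat.Coprime.coprime_dvd_left (Subgroup.card_subgroup_dvd_card _) ?_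
  refine Nat.Coprime.coprime_dvd_right ?_ hcop
  rw [← Subgroup.index_ker (resAct S E)]
  exact Subgroup.index_dvd_card _

theorem inv_of_inv {χ : G → ℂ} (hχ : ∀ s ∈ S, ∀ g, χ (s g) = χ g) : Inv (S.subtype.comp E.subtype) χ :=
  fun e g => hχ _ (e : S).2 g

theorem inv_tw (s : S) {χ : IrrCharacter G} (hχ : Inv (S.subtype.comp E.subtype) (χ : G → ℂ)) :
    Inv (S.subtype.comp E.subtype) (tw (s : MulAut G) χ : G → ℂ) := by
  intro e g
  rw [tw_apply, tw_apply]
  have h1 : s * (e : S) * s⁻¹ ∈ E := (inferInstance : E.Normal).conj_mem e e.2 s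
  have h2 := hχ ⟨_, h1⟩ ((s : MulAut G) g)
  rw [← h2]
  refine congrArg (χ : G → ℂ) ?_
  show (s : MulAut G) (((e : S) : MulAut G) g) = ((s * (e : S) * s⁻¹ : S) : MulAut G) ((s : MulAut G) g)
  rw [← MulAut.mul_apply, ← MulAut.mul_apply]
  congr 1
  push_cast
  group

variable {p : ℕ} {M : Ideal AlgInt}

theorem inv_beta (D : Data p M (S.subtype.comp E.subtype) (fixC S E).subtype) [Fintype (fixC S E)]
    {χ : IrrCharacter G} (hχ : ∀ s ∈ S, ∀ g, (χ : G → ℂ) (s g) = (χ : G → ℂ) g) {β : IrrCharacter (fixC S E)}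
    (hβ : ¬ p ∣ mult (fixC S E).subtype χ β) :
    ∀ s ∈ (resAct S E).range, ∀ g, (β : fixC S E → ℂ) (s g) = (β : fixC S E → ℂ) g := by
  rintro _ ⟨s, rfl⟩ g
  have h1 : tw (s : MulAut G) χ = χ := by
    apply Subtype.ext
    funext c
    exact hχ _ s.2 c
  have h2 := mult_tw_tw (fixC S E).subtype (s : MulAut G) (resAct S E s) (fun c => rfl) χ β
  rw [h1] at h2
  have h3 : tw (resAct S E s) β = β := by
    apply unique_beta D (inv_of_inv hχ) ?_ hβ
    rw [h2]
    exact hβ
  exact congrArg (fun β : IrrCharacter (fixC S E) => (β : fixC S E → ℂ) g) h3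

theorem inv_chi (D : Data p M (S.subtype.comp E.subtype) (fixC S E).subtype) [Fintype (fixC S E)]
    {χ : IrrCharacter G} (hχ : Inv (S.subtype.comp E.subtype) (χ : G → ℂ)) {β : IrrCharacter (fixC S E)}
    (hinv : ∀ s ∈ (resAct S E).range, ∀ g, (β : fixC S E → ℂ) (s g) = (β : fixC S E → ℂ) g)
    (hβ : ¬ p ∣ mult (fixC S E).subtype χ β) : ∀ s ∈ S, ∀ g, (χ : G → ℂ) (s g) = (χ : G → ℂ) g := by
  intro s hs g
  have h1 : tw (resAct S E ⟨s, hs⟩) β = β := by
    apply Subtype.ext
    funext c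
    exact hinv _ ⟨⟨s, hs⟩, rfl⟩ c
  have h2 := mult_tw_tw (fixC S E).subtype s (resAct S E ⟨s, hs⟩) (fun c => rfl) χ β
  rw [h1] at h2
  have h3 : tw s χ = χ := by
    apply unique_chi D (inv_tw ⟨s, hs⟩ hχ) hχ ?_ hβ
    rw [h2]
    exact hβ
  exact congrArg (fun χ : IrrCharacter G => (χ : G → ℂ) g) h3

/-- The correspondence between invariant characters in the inductive step. -/
theorem card_step (D : Data p M (S.subtype.comp E.subtype) (fixC S E).subtype) :
    Nat.card {χ : IrrCharacter G // ∀ s ∈ S, ∀ g, (χ : G → ℂ) (s g) = (χ : G → ℂ) g} =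
      Nat.card {β : IrrCharacter (fixC S E) // ∀ s ∈ (resAct S E).range, ∀ g,
        (β : fixC S E → ℂ) (s g) = (β : fixC S E → ℂ) g} := by
  classical
  haveI : Fintype (fixC S E) := Fintype.ofFinite _
  choose f hf1 hf2 using fun β : IrrCharacter (fixC S E) => exists_chi D β
  symm
  refine Nat.card_congr (Equiv.ofBijective
    (fun β => ⟨f β.1, inv_chi D (hf1 β.1) β.2 (hf2 β.1)⟩) ⟨?_, ?_⟩)
  · intro β β' h
    have h1 : f β.1 = f β'.1 := congrArg Subtype.val h
    apply Subtype.ext
    apply unique_beta D (hf1 β.1) (hf2 β.1)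
    rw [h1]
    exact hf2 β'.1
  · intro χ
    obtain ⟨β, hβ⟩ := exists_beta D χ.1
    have hχ : Inv (S.subtype.comp E.subtype) (χ.1 : G → ℂ) := inv_of_inv χ.2
    refine ⟨⟨β, inv_beta D χ.2 hβ⟩, Subtype.ext ?_⟩
    exact unique_chi D (hf1 β) hχ (hf2 β) hβ

end step

/-! ### characters of isomorphic groups -/

/-- transport of irreducible characters -/
def irrCongr {G H : Type u} [Group G] [Group H] (e : G ≃* H) : IrrCharacter H ≃ IrrCharacter G where
  toFun χ := ⟨fun g => (χ : H → ℂ) (e g), χ.2.comp_surjective e.toMonoidHom e.surjective⟩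
  invFun χ := ⟨fun g => (χ : G → ℂ) (e.symm g), χ.2.comp_surjective e.symm.toMonoidHom e.symm.surjective⟩
  left_inv χ := by apply Subtype.ext; funext h; simp
  right_inv χ := by apply Subtype.ext; funext h; simp

/-- fixed points of `S` -/
def fixAll {G : Type u} [Group G] (S : Subgroup (MulAut G)) : Subgroup G where
  carrier := {g | ∀ s ∈ S, s g = g}
  mul_mem' := fun {a b} ha hb s hs => by rw [map_mul, ha s hs, hb s hs]
  one_mem' := fun s _ => map_one _
  inv_mem' := fun {a} ha s hs => by rw [map_inv, ha s hs]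

/-- fixed points in two steps -/
def fixEquiv {G : Type u} [Group G] (S : Subgroup (MulAut G)) (E : Subgroup S) [E.Normal] :
    fixAll (resAct S E).range ≃* fixAll S where
  toFun x := ⟨((x : fixC S E) : G), fun s hs => congrArg Subtype.val (x.2 _ ⟨⟨s, hs⟩, rfl⟩)⟩
  invFun x := ⟨⟨(x : G), fun e => x.2 _ (e : S).2⟩, by
    rintro _ ⟨s, rfl⟩
    apply Subtype.ext
    exact x.2 _ s.2⟩
  left_inv x := rfl
  right_inv x := rfl
  map_mul' x y := rfl

/-- **The Glauberman correspondence** (counting form): the number of invariant irreducible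
characters is the number of irreducible characters of the fixed point subgroup. -/
theorem countC (n : ℕ) : ∀ {G : Type u} [Group G] [Finite G] (S : Subgroup (MulAut G)), Nat.card S = n →
    Group.IsSolvable S → (Nat.card G).Coprime (Nat.card S) →
    Nat.card {χ : IrrCharacter G // ∀ s ∈ S, ∀ g, (χ : G → ℂ) (s g) = (χ : G → ℂ) g} =
    Nat.card (IrrCharacter (fixAll S)) := by
  induction n using Nat.strong_induction_on with
  | _ n ih =>
  intro G _ _ S hn hsolv hcop
  by_cases hS : S = ⊥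
  · have h1 : ∀ χ : IrrCharacter G, ∀ s ∈ S, ∀ g, (χ : G → ℂ) (s g) = (χ : G → ℂ) g := by
      intro χ s hs g
      rw [hS, Subgroup.mem_bot] at hs
      rw [hs]; rfl
    rw [Nat.card_congr (Equiv.subtypeUnivEquiv h1)]
    have h2 : fixAll S = ⊤ := by
      rw [eq_top_iff]
      intro g _ s hs
      rw [hS, Subgroup.mem_bot] at hs
      rw [hs]; rfl
    have e : fixAll S ≃* G := (MulEquiv.subgroupCongr h2).trans Subgroup.topEquiv
    exact Nat.card_congr (irrCongr e)
  · obtain ⟨p, M, E, hE, hEb, D⟩ := exists_step hS hsolv hcop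
    rw [card_step D, ih _ (hn ▸ card_range_lt hEb) (resAct S E).range rfl (solvable_range hsolv)
      (coprime_range hcop)]
    exact Nat.card_congr (irrCongr (fixEquiv S E).symm)

end Cfsg.Agent.Lib.GlaubCorr
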