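import Cfsg.Agent.Lib.GlaubCyc
import Cfsg.Agent.Lib.GlaubStep
import Cfsg.Agent.Lib.GlaubCorrConj
import Cfsg.Agent.Lib.CoprimeCount

set_option autoImplicit false
set_option linter.unusedSectionVars false

/-!
# Canonical extensions on the coset `G s` (helper74)
-/

namespace Cfsg.Agent.Lib.GlaubCyc

open scoped ComplexConjugate
open Cfsg Cfsg.Agent.Lib.CharBasic Cfsg.Agent.Lib.Clifford

universe u v

/-! ### Galois conjugation and determinants -/

theorem detChar_map {G : Type u} [Group G] [Finite G] {χ : G → ℂ} (hχ : IsCharacter G χ) (σ : ℂ →+* ℂ) (g : G) :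
    detChar (fun g => σ (χ g)) g = σ (detChar χ g) := by
  obtain ⟨n, ρ, rfl⟩ := hχ
  let M : G →* Matrix (Fin n) (Fin n) ℂ :=
    { toFun := fun g => (LinearMap.toMatrix' (ρ g)).map σ
      map_one' := by
        rw [map_one, Module.End.one_eq_id, LinearMap.toMatrix'_id]
        simp
      map_mul' := by
        intro a b
        rw [map_mul, Module.End.mul_eq_comp, LinearMap.toMatrix'_comp, Matrix.map_mul] }
  let τ : Representation ℂ G (Fin n → ℂ) :=
    { toFun := fun g => Matrix.toLin' (M g)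
      map_one' := by rw [map_one, Matrix.toLin'_one]; rfl
      map_mul' := by intro a b; rw [map_mul, Matrix.toLin'_mul]; rfl }
  have hτ : (fun g => σ (ρ.character g)) = τ.character := by
    funext g
    have h1 : τ.character g = LinearMap.trace ℂ (Fin n → ℂ) (Matrix.toLin' (M g)) := rfl
    have h2 : ρ.character g = (LinearMap.toMatrix' (ρ g)).trace := by
      unfold Representation.character
      exact LinearMap.trace_eq_matrix_trace ℂ (Pi.basisFun ℂ (Fin n)) (ρ g)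
    rw [h1, Matrix.trace_toLin'_eq, h2]
    simp [M, Matrix.trace, map_sum]
  rw [hτ, DetChar.detChar_character, DetChar.detChar_character]
  have h1 : τ g = Matrix.toLin' (M g) := rfl
  rw [h1, LinearMap.det_toLin']
  have h2 : M g = (LinearMap.toMatrix' (ρ g)).map σ := rfl
  rw [h2]
  have h3 : ((LinearMap.toMatrix' (ρ g)).map σ).det = σ (LinearMap.toMatrix' (ρ g)).det := by
    rw [RingHom.map_det]; rfl
  rw [h3, LinearMap.det_toMatrix']

theorem detOrder_map {G : Type u} [Group G] [Finite G] {χ : G → ℂ} (hχ : IsCharacter G χ) (σ : ℂ →+* ℂ) :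
    detOrder (fun g => σ (χ g)) = detOrder χ := by
  unfold detOrder
  have h1 : detChar (fun g => σ (χ g)) = fun g => σ (detChar χ g) := funext (detChar_map hχ σ)
  rw [h1]
  let f : (G → ℂ) →* (G → ℂ) :=
    { toFun := fun φ g => σ (φ g)
      map_one' := by funext g; simp
      map_mul' := fun a b => by funext g; simp }
  have hf : Function.Injective f := by
    intro a b hab
    funext g
    exact σ.injective (congrFun hab g)
  exact orderOf_injective f hf (detChar χ)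

theorem detOrder_pow {G : Type u} [Group G] [Finite G] {χ : G → ℂ} (hχ : IsCharacter G χ) {k : ℕ}
    (hk : k.Coprime (Nat.card G)) : detOrder (fun g => χ (g ^ k)) = detOrder χ := by
  obtain ⟨σ, hσ⟩ := CharGalois.exists_ringHom_pow (n := Nat.card G) Nat.card_pos hk
  have h1 : (fun g => χ (g ^ k)) = fun g => σ (χ g) := by
    funext g
    rw [CharGalois.map_apply_eq hχ σ k g]
    intro μ hμ
    apply hσ
    obtain ⟨m, hm⟩ := orderOf_dvd_natCard g
    rw [hm, pow_mul, hμ, one_pow]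
  rw [h1, detOrder_map hχ]

/-! ### canonical extensions -/

section ext

variable {Γ : Type u} [Group Γ] [Finite Γ] {G S C : Subgroup Γ}

theorem canon_unique [G.Normal] {ϑ : G → ℂ} (hϑ : IsIrrCharacter G ϑ) (hcop : (Nat.card G).Coprime G.index)
    {χ χ' : Γ → ℂ} (hχ : IsIrrCharacter Γ χ) (hχ' : IsIrrCharacter Γ χ') (hext : ∀ n : G, χ n = ϑ n)
    (hext' : ∀ n : G, χ' n = ϑ n) (hd : Nat.Coprime G.index (detOrder χ))
    (hd' : Nat.Coprime G.index (detOrder χ')) : χ = χ' := by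
  have := Fintype.ofFinite Γ
  obtain ⟨d, hd1, hd2⟩ := GlaubCorr.charDegree_eq ⟨ϑ, hϑ⟩
  have hc : Nat.Coprime G.index (detOrder ϑ * d) := by
    apply Nat.Coprime.mul_right
    · exact hcop.symm.coprime_dvd_right (CoprimeCount.detOrder_dvd_card hϑ.isCharacter)
    · exact hcop.symm.coprime_dvd_right hd2
  obtain ⟨ψ, -, hψ⟩ := CanonExt.canonical_extension hϑ
    (fun g => CanonExt.cj_eq_of_ext hχ.isClassFunction hext g) hd1 hc
  rw [hψ χ hχ hext hd, hψ χ' hχ' hext' hd']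

theorem canon_exists [G.Normal] {ϑ : G → ℂ} (hϑ : IsIrrCharacter G ϑ) (hinv : ∀ g : Γ, cj G g ϑ = ϑ)
    (hcop : (Nat.card G).Coprime G.index) :
    ∃ χ : Γ → ℂ, IsIrrCharacter Γ χ ∧ (∀ n : G, χ n = ϑ n) ∧ Nat.Coprime G.index (detOrder χ) := by
  have := Fintype.ofFinite Γ
  obtain ⟨d, hd1, hd2⟩ := GlaubCorr.charDegree_eq ⟨ϑ, hϑ⟩
  have hc1 := hcop.symm.coprime_dvd_right (CoprimeCount.detOrder_dvd_card hϑ.isCharacter)
  have hc : Nat.Coprime G.index (detOrder ϑ * d) := by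
    apply Nat.Coprime.mul_right
    · exact hc1
    · exact hcop.symm.coprime_dvd_right hd2
  obtain ⟨ψ, ⟨h1, h2, h3⟩, -⟩ := CanonExt.canonical_extension hϑ hinv hd1 hc
  exact ⟨ψ, h1, h2, by rw [h3]; exact hc1⟩

/-- Galois invariance of the canonical extension. -/
theorem canon_pow [G.Normal] {ϑ : G → ℂ} (hϑ : IsIrrCharacter G ϑ) (hcop : (Nat.card G).Coprime G.index)
    {χ : Γ → ℂ} (hχ : IsIrrCharacter Γ χ) (hext : ∀ n : G, χ n = ϑ n)
    (hd : Nat.Coprime G.index (detOrder χ)) {e : ℕ} (he1 : e ≡ 1 [MOD Nat.card G])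
    (he2 : e.Coprime G.index) (x : Γ) : χ (x ^ e) = χ x := by
  have heG : e.Coprime (Nat.card G) := by
    have := he1.gcd_eq
    rw [Nat.gcd_one_left] at this
    exact this
  have he : e.Coprime (Nat.card Γ) := by
    rw [← G.card_mul_index]
    exact heG.mul_right he2
  have h1 := CharGalois.isIrrCharacter_pow hχ he
  have h2 := canon_unique hϑ hcop h1 hχ (by
    intro n
    have : (n : Γ) ^ e = n := by
      have := pow_modEq n.2 he1
      rwa [pow_one] at this
    rw [this, hext]) hext (by rw [detOrder_pow hχ.isCharacter he]; exact hd) hd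
  exact congrFun h2 x

/-- the function `c ↦ χ (c s)` -/
def sl (C : Subgroup Γ) (s : Γ) (χ : Γ → ℂ) : C → ℂ := fun c => χ (c * s)

/-- `C × S → Γ` -/
def mulHom (h : Cyc G S C) : C × S →* Γ where
  toFun p := (p.1 : Γ) * p.2
  map_one' := by simp
  map_mul' p q := by
    have := (h.comm q.1.2 p.2.2).eq
    show (p.1 : Γ) * q.1 * (p.2 * q.2) = p.1 * p.2 * (q.1 * q.2)
    calc (p.1 : Γ) * q.1 * (p.2 * q.2) = p.1 * (q.1 * p.2) * q.2 := by group
      _ = p.1 * (p.2 * q.1) * q.2 := by rw [this]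
      _ = _ := by group

theorem mulHom_apply (h : Cyc G S C) (c : C) (t : S) : mulHom h (c, t) = (c : Γ) * t := rfl

/-- the character of `S` on the `β`-part of `χ` restricted to `C S` -/
theorem Cyc.isCharacter_slice (h : Cyc G S C) [Fintype C] {χ : Γ → ℂ} (hχ : IsCharacter Γ χ) {β : C → ℂ}
    (hβ : IsIrrCharacter C β) : IsCharacter S (fun t : S => classInner (sl C (t : Γ) χ) β) := by
  have h1 := slice (hχ.comp (mulHom h)) hβ
  exact h1

theorem Cyc.coset_inner (h : Cyc G S C) [Fintype Γ] [Fintype C] [G.Normal] {s : Γ} (hs : Subgroup.zpowers s = S)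
    {χ ψ : Γ → ℂ} (hχ : IsClassFunction Γ χ) (hψ : IsClassFunction Γ ψ) :
    classInner (sl C s χ) (sl C s ψ) = classInner (fun x => H76Coset.cosetInd G s x * χ x) ψ := by
  classical
  have := Fintype.ofFinite G
  have hab : ∀ a b : Γ ⧸ G, a * b = b * a := by
    have hcyc : ∀ a : Γ ⧸ G, a ∈ Subgroup.zpowers (s : Γ ⧸ G) := by
      intro a
      obtain ⟨x, rfl⟩ := QuotientGroup.mk_surjective a
      have hx : x ∈ ((G ⊔ S : Subgroup Γ) : Set Γ) := by rw [h.htop]; exact Subgroup.mem_top x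
      rw [Subgroup.normal_mul] at hx
      obtain ⟨g, hg, t, ht, rfl⟩ := hx
      rw [SetLike.mem_coe, ← hs] at ht
      obtain ⟨k, rfl⟩ := Subgroup.mem_zpowers_iff.mp ht
      refine Subgroup.mem_zpowers_iff.mpr ⟨k, ?_⟩
      show _ = ((g * s ^ k : Γ) : Γ ⧸ G)
      rw [QuotientGroup.mk_mul, (QuotientGroup.eq_one_iff g).2 hg, one_mul, QuotientGroup.mk_zpow]
    intro a b
    obtain ⟨k, rfl⟩ := Subgroup.mem_zpowers_iff.mp (hcyc a)
    obtain ⟨l, rfl⟩ := Subgroup.mem_zpowers_iff.mp (hcyc b)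
    rw [← zpow_add, ← zpow_add, add_comm]
  have hF : IsClassFunction Γ (fun x => χ x * conj (ψ x)) := by
    intro a b
    show χ (b * a * b⁻¹) * conj (ψ (b * a * b⁻¹)) = _
    rw [hχ, hψ]
  have h1 := h.sum_coset hs hF
  have h2 : ∑ x : Γ, H76Coset.cosetInd G s x * χ x * conj (ψ x) = (G.index : ℂ) * ∑ g : G, χ (g * s) * conj (ψ (g * s)) := by
    have h3 : ∀ x : Γ, H76Coset.cosetInd G s x * χ x * conj (ψ x) =
        if x * s⁻¹ ∈ G then (G.index : ℂ) * (χ x * conj (ψ x)) else 0 := by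
      intro x
      have hq : (x : Γ ⧸ G) = (s : Γ ⧸ G) ↔ x * s⁻¹ ∈ G := by
        rw [QuotientGroup.eq, ← G.inv_mem_iff (x := x⁻¹ * s)]
        rw [show (x⁻¹ * s)⁻¹ = s⁻¹ * x by group]
        exact ⟨fun h => (inferInstance : G.Normal).mem_comm h, fun h => (inferInstance : G.Normal).mem_comm h⟩
      rw [H76Coset.cosetInd_apply G hab]
      simp only [hq]
      split_ifs
      · ring
      · ring
    rw [Finset.sum_congr rfl fun x _ => h3 x, ← Finset.sum_filter, ← Finset.mul_sum]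
    congr 1
    symm
    apply Finset.sum_bij (fun (g : G) _ => (g : Γ) * s)
    · intro g _
      rw [Finset.mem_filter]
      exact ⟨Finset.mem_univ _, by rw [mul_inv_cancel_right]; exact g.2⟩
    · intro g _ g' _ hgg
      exact Subtype.ext (mul_right_cancel hgg)
    · intro x hx
      rw [Finset.mem_filter] at hx
      exact ⟨⟨x * s⁻¹, hx.2⟩, Finset.mem_univ _, by simp⟩
    · intro g _
      rfl
  rw [classInner_def, classInner_def, h2, ← G.card_mul_index, Nat.cast_mul, mul_inv, mul_assoc,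
    inv_mul_cancel_left₀ (Nat.cast_ne_zero.2 Subgroup.index_ne_zero_of_finite)]
  have hC0 : (Nat.card C : ℂ) ≠ 0 := Nat.cast_ne_zero.2 Nat.card_pos.ne'
  have hG0 : (Nat.card G : ℂ) ≠ 0 := Nat.cast_ne_zero.2 Nat.card_pos.ne'
  rw [inv_mul_eq_iff_eq_mul₀ hC0, mul_comm, mul_assoc, eq_comm, inv_mul_eq_iff_eq_mul₀ hG0, mul_comm, h1]
  rfl

/-- canonical data: `χh` irreducible, extends `χ`, and is canonical -/
structure Can (G : Subgroup Γ) (χ : G → ℂ) (χh : Γ → ℂ) : Prop where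
  irr : IsIrrCharacter G χ
  irr' : IsIrrCharacter Γ χh
  ext : ∀ g : G, χh g = χ g
  det : Nat.Coprime G.index (detOrder χh)

theorem Cyc.norm_one (h : Cyc G S C) [Fintype C] {s : Γ} (hs : Subgroup.zpowers s = S)
    {χ : G → ℂ} {χh : Γ → ℂ} (c : Can G χ χh) :
    classInner (sl C s χh) (sl C s χh) = 1 := by
  have := Fintype.ofFinite Γ
  have := h.hn
  rw [h.coset_inner hs c.irr'.isClassFunction c.irr'.isClassFunction]
  exact H76Coset.sum_coset G c.irr c.irr' c.ext s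

theorem Cyc.orth (h : Cyc G S C) [Fintype C] {s : Γ} (hs : Subgroup.zpowers s = S)
    {χ ψ : G → ℂ} {χh ψh : Γ → ℂ} (c : Can G χ χh) (d : Can G ψ ψh) (hne : χ ≠ ψ) :
    classInner (sl C s χh) (sl C s ψh) = 0 := by
  classical
  have := Fintype.ofFinite Γ
  have := Fintype.ofFinite G
  have hn := h.hn
  rw [h.coset_inner hs c.irr'.isClassFunction d.irr'.isClassFunction]
  have h1 : (fun x => H76Coset.cosetInd G s x * χh x) = ∑ lam : IrrCharacter (Γ ⧸ G),
      conj ((lam : Γ ⧸ G → ℂ) (s : Γ ⧸ G)) • (H76Coset.infl G (lam : Γ ⧸ G → ℂ) * χh) := by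
    funext x
    simp only [H76Coset.cosetInd, Finset.sum_mul, Finset.sum_apply, Pi.smul_apply, Pi.mul_apply, smul_eq_mul, H76Coset.infl]
    exact Finset.sum_congr rfl fun _ _ => by ring
  rw [h1, classInner_sum_left]
  apply Finset.sum_eq_zero
  intro lam _
  rw [classInner_smul_left]
  have h2 := (H76Coset.infl_mul_ext G c.irr c.irr' c.ext lam).1
  rw [h2.classInner_eq_zero d.irr', mul_zero]
  intro h3
  have h4 : ψ = ((lam : Γ ⧸ G → ℂ) 1) • χ := by
    funext g
    rw [← d.ext g, ← h3]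
    simp only [Pi.mul_apply, Pi.smul_apply, smul_eq_mul, H76Coset.infl, (QuotientGroup.eq_one_iff (g : Γ)).2 g.2,
      c.ext]
  have h5 := c.irr.classInner_eq_zero d.irr hne
  rw [h4, classInner_smul_right, c.irr.classInner_self, mul_one] at h5
  exact lam.2.one_ne_zero ((map_eq_zero _).1 h5)

theorem Cyc.gen_eq (h : Cyc G S C) {s t : Γ} (hs : Subgroup.zpowers s = S) (ht : Subgroup.zpowers t = S)
    {χ : G → ℂ} {χh : Γ → ℂ} (c : Can G χ χh) : sl C t χh = sl C s χh := by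
  classical
  have hn := h.hn
  have ht' : t ∈ Subgroup.zpowers s := by rw [hs]; exact mem_gen ht
  obtain ⟨k, -, hk⟩ := (mem_zpowers_iff_mem_range_orderOf.mp ht' |> Finset.mem_image.mp)
  have hk' : s ^ k = t := hk
  have hos : orderOf s = Nat.card S := by rw [← hs, Nat.card_zpowers]
  have hot : orderOf t = Nat.card S := by rw [← ht, Nat.card_zpowers]
  have hkc : k.Coprime (Nat.card S) := by
    rw [← hk', orderOf_pow, hos] at hot
    have h1 : 0 < Nat.card S := Nat.card_pos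
    have h2 : Nat.gcd (Nat.card S) k = 1 := by
      have h3 := Nat.div_mul_cancel (Nat.gcd_dvd_left (Nat.card S) k)
      rw [hot] at h3
      exact Nat.eq_of_mul_eq_mul_left h1 (by rw [h3, mul_one])
    exact (Nat.coprime_iff_gcd_eq_one.2 h2).symm
  obtain ⟨e, he1, he2⟩ := h.exp' k
  funext x
  show χh (x * t) = χh (x * s)
  have hx := (h.mem_C hs).mp x.2
  have h1 : ((x : Γ) * s) ^ e = x * t := by
    rw [hx.2.mul_pow, pow_modEq hx.1 he2, pow_modEq (mem_gen hs) he1, pow_one, hk']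
  rw [← h1]
  refine canon_pow c.irr (by rw [h.index]; exact h.hcop) c.irr' c.ext c.det he2 ?_ _
  rw [h.index]
  have := he1.gcd_eq
  rw [Nat.Coprime, this]
  exact hkc

theorem Cyc.int (h : Cyc G S C) [Fintype C] {s : Γ} (hs : Subgroup.zpowers s = S)
    {χ : G → ℂ} {χh : Γ → ℂ} (c : Can G χ χh) {β : C → ℂ} (hβ : IsIrrCharacter C β) :
    ∃ a : ℤ, classInner (sl C s χh) β = a := by
  have hn := h.hn
  have hch := h.isCharacter_slice c.irr'.isCharacter hβ
  obtain ⟨q, hq⟩ := CharGalois.exists_rat_of_pow hch ⟨s, mem_gen hs⟩ (by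
    intro k hk
    show classInner (sl C ((⟨s, mem_gen hs⟩ ^ k : S) : Γ) χh) β = classInner (sl C s χh) β
    have h1 : ((⟨s, mem_gen hs⟩ ^ k : S) : Γ) = s ^ k := rfl
    rw [h1, h.gen_eq hs (t := s ^ k) ?_ c]
    rw [← hs]
    have hos : orderOf s = Nat.card S := by rw [← hs, Nat.card_zpowers]
    apply le_antisymm
    · rw [Subgroup.zpowers_le]
      exact (Subgroup.zpowers s).pow_mem (Subgroup.mem_zpowers s) k
    · rw [Subgroup.zpowers_le]
      have h2 : k.Coprime (orderOf s) := by rw [hos]; exact hk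
      obtain ⟨m, hm⟩ := exists_pow_eq_self_of_coprime h2
      have h5 := (Subgroup.zpowers (s ^ k)).pow_mem (Subgroup.mem_zpowers _) m
      rwa [hm] at h5)
  obtain ⟨n, ρ, hρ⟩ := hch
  have hq' : ρ.character ⟨s, mem_gen hs⟩ = (q : ℂ) := by rw [hρ]; exact hq
  obtain ⟨m, hm⟩ := CharCentral.exists_int_of_isIntegral_rat (CharValues.isIntegral_character ρ ⟨s, mem_gen hs⟩) q hq'
  exact ⟨m, by rw [← hm, hρ]⟩

theorem Cyc.isClassFunction_sl (h : Cyc G S C) {s : Γ} (hs : Subgroup.zpowers s = S) {F : Γ → ℂ}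
    (hF : IsClassFunction Γ F) : IsClassFunction C (sl C s F) := by
  intro a b
  show F (b * a * (b : Γ)⁻¹ * s) = F (a * s)
  have hb := ((h.mem_C hs).mp b.2).2
  have h1 : (b : Γ) * a * (b : Γ)⁻¹ * s = b * (a * s) * (b : Γ)⁻¹ := by
    have h2 : (b : Γ)⁻¹ * s = s * (b : Γ)⁻¹ := hb.inv_left.eq
    rw [mul_assoc, h2]; group
  rw [h1]
  exact hF _ _

theorem Cyc.exists_beta (h : Cyc G S C) {s : Γ} (hs : Subgroup.zpowers s = S)
    {χ : G → ℂ} {χh : Γ → ℂ} (c : Can G χ χh) :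
    ∃ β : IrrCharacter C, ∃ ε : ℤ, (ε = 1 ∨ ε = -1) ∧ ∀ x : C, ∀ t : Γ, Subgroup.zpowers t = S →
      χh (x * t) = (ε : ℂ) * (β : C → ℂ) x := by
  have := Fintype.ofFinite C
  have h1 : IsGeneralizedCharacter C (sl C s χh) :=
    isGeneralized_of_classInner (h.isClassFunction_sl hs c.irr'.isClassFunction) fun β hβ => h.int hs c hβ
  rcases h1.irr_or_neg_irr (h.norm_one hs c) with h2 | h2
  · refine ⟨⟨_, h2⟩, 1, Or.inl rfl, fun x t ht => ?_⟩
    rw [Int.cast_one, one_mul]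
    exact congrFun (h.gen_eq hs ht c) x
  · refine ⟨⟨_, h2⟩, -1, Or.inr rfl, fun x t ht => ?_⟩
    show χh (x * t) = ((-1 : ℤ) : ℂ) * (- sl C s χh x)
    rw [Int.cast_neg, Int.cast_one, neg_mul_neg, one_mul]
    exact congrFun (h.gen_eq hs ht c) x

/-- two irreducible characters equal up to sign are equal -/
theorem eq_of_sign {C : Type u} [Group C] [Finite C] {β β' : IrrCharacter C} {ε ε' : ℤ}
    (hε : ε = 1 ∨ ε = -1) (hε' : ε' = 1 ∨ ε' = -1)
    (h : ∀ x : C, (ε : ℂ) * (β : C → ℂ) x = (ε' : ℂ) * (β' : C → ℂ) x) : β = β' ∧ ε = ε' := by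
  have := Fintype.ofFinite C
  obtain ⟨n, hn, hn'⟩ := β.2.exists_degree
  obtain ⟨m, hm, hm'⟩ := β'.2.exists_degree
  have h1 := h 1
  rw [hn', hm'] at h1
  have h2 : ε * (n : ℤ) = ε' * (m : ℤ) := by exact_mod_cast h1
  have h3 : ε = ε' := by
    rcases hε with rfl | rfl <;> rcases hε' with rfl | rfl
    · rfl
    · exfalso; omega
    · exfalso; omega
    · rfl
  subst h3
  refine ⟨Subtype.ext (funext fun x => ?_), rfl⟩
  have h4 := h x
  have h5 : (ε : ℂ) ≠ 0 := by rcases hε with rfl | rfl <;> norm_num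
  exact mul_left_cancel₀ h5 h4

/-- `β` is a constituent of the restriction -/
theorem Cyc.constituent (h : Cyc G S C) [Fintype C] {s : Γ} (hs : Subgroup.zpowers s = S)
    {χ : G → ℂ} {χh : Γ → ℂ} (c : Can G χ χh) {β : IrrCharacter C} {ε : ℤ} (hε : ε = 1 ∨ ε = -1)
    (hβ : ∀ x : C, χh (x * s) = (ε : ℂ) * (β : C → ℂ) x) :
    classInner (fun x : C => χ ⟨x, h.C_le x.2⟩) (β : C → ℂ) ≠ 0 := by
  have hch := h.isCharacter_slice c.irr'.isCharacter β.2
  intro h0
  have h1 : classInner (sl C ((1 : S) : Γ) χh) (β : C → ℂ) = 0 := by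
    rw [← h0]
    refine congrArg (fun f => classInner f (β : C → ℂ)) (funext fun x => ?_)
    show χh (x * (1 : Γ)) = _
    rw [mul_one, ← c.ext ⟨x, h.C_le x.2⟩]
  have h2 := hch.eq_zero_of_one_eq_zero h1
  have h3 := congrFun h2 ⟨s, mem_gen hs⟩
  have h4 : sl C s χh = (ε : ℂ) • (β : C → ℂ) := funext fun x => hβ x
  have h5 : classInner (sl C s χh) (β : C → ℂ) = 0 := h3
  rw [h4, classInner_smul_left, β.2.classInner_self, mul_one] at h5
  rcases hε with rfl | rfl <;> norm_num at h5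

/-- distinct `χ` give distinct `β` -/
theorem Cyc.inj (h : Cyc G S C) {s : Γ} (hs : Subgroup.zpowers s = S)
    {χ ψ : G → ℂ} {χh ψh : Γ → ℂ} (c : Can G χ χh) (d : Can G ψ ψh) {β : IrrCharacter C} {ε ε' : ℤ}
    (hε : ε = 1 ∨ ε = -1) (hε' : ε' = 1 ∨ ε' = -1)
    (hβ : ∀ x : C, χh (x * s) = (ε : ℂ) * (β : C → ℂ) x)
    (hβ' : ∀ x : C, ψh (x * s) = (ε' : ℂ) * (β : C → ℂ) x) : χ = ψ := by
  have := Fintype.ofFinite C
  by_contra hne
  have h1 := h.orth hs c d hne
  have h2 : sl C s χh = (ε : ℂ) • (β : C → ℂ) := funext fun x => hβ x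
  have h3 : sl C s ψh = (ε' : ℂ) • (β : C → ℂ) := funext fun x => hβ' x
  rw [h2, h3, classInner_smul_left, classInner_smul_right, β.2.classInner_self, mul_one] at h1
  rcases hε with rfl | rfl <;> rcases hε' with rfl | rfl <;> norm_num at h1

theorem Cyc.decomp (h : Cyc G S C) (x : Γ) : ∃ g ∈ G, ∃ t ∈ S, g * t = x := by
  have := h.hn
  have hx : x ∈ ((G ⊔ S : Subgroup Γ) : Set Γ) := by rw [h.htop]; exact Subgroup.mem_top x
  rw [Subgroup.normal_mul] at hx
  obtain ⟨g, hg, t, ht, rfl⟩ := hx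
  exact ⟨g, hg, t, ht, rfl⟩

theorem Cyc.exists_can (h : Cyc G S C) {χ : G → ℂ} (hχ : IsIrrCharacter G χ)
    (hinv : ∀ s ∈ S, ∀ g g' : G, (g' : Γ) = s * g * s⁻¹ → χ g' = χ g) : ∃ χh : Γ → ℂ, Can G χ χh := by
  have hn := h.hn
  obtain ⟨χh, h1, h2, h3⟩ := canon_exists hχ (fun x => by
    obtain ⟨g, hg, t, ht, rfl⟩ := h.decomp x
    rw [cj_mem_mul hχ.isClassFunction hg]
    funext n
    rw [cj_apply]
    exact hinv t ht n _ rfl) (by rw [h.index]; exact h.hcop)
  exact ⟨χh, hχ, h1, h2, h3⟩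

/-- every irreducible character of `C` arises -/
theorem Cyc.surj (h : Cyc G S C) (hcyc : IsCyclic S) {s : Γ} (hs : Subgroup.zpowers s = S) (β : IrrCharacter C) :
    ∃ (χ : IrrCharacter G) (χh : Γ → ℂ) (ε : ℤ),
      (∀ s ∈ S, ∀ g g' : G, (g' : Γ) = s * g * s⁻¹ → (χ : G → ℂ) g' = (χ : G → ℂ) g) ∧
      Can G (χ : G → ℂ) χh ∧ (ε = 1 ∨ ε = -1) ∧
      ∀ x : C, ∀ t : Γ, Subgroup.zpowers t = S → χh (x * t) = (ε : ℂ) * (β : C → ℂ) x := by
  classical
  have hn := h.hn
  have hnorm : ∀ s ∈ S, ∀ g ∈ G, s * g * s⁻¹ ∈ G := fun s _ g hg => hn.conj_mem g hg s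
  let r := GlaubCorr.conjAct G S hnorm
  have hsolvS : Group.IsSolvable S := inferInstance
  have hsolv' : Group.IsSolvable r.range :=
    Group.isSolvable_of_surjective (f := r.rangeRestrict) r.rangeRestrict_surjective
  have hcop' : (Nat.card G).Coprime (Nat.card r.range) := by
    refine Nat.Coprime.coprime_dvd_right ?_ h.hcop
    rw [← Subgroup.index_ker r]
    exact Subgroup.index_dvd_card _
  have hcount := GlaubCorr.countC (Nat.card r.range) r.range rfl hsolv' hcop'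
  let X := {χ : IrrCharacter G // ∀ s ∈ r.range, ∀ g, (χ : G → ℂ) (s g) = (χ : G → ℂ) g}
  let e : C ≃* GlaubCorr.fixAll r.range :=
    { toFun := fun x => ⟨⟨x, h.C_le x.2⟩, by
        rintro _ ⟨t, rfl⟩
        apply Subtype.ext
        show (t : Γ) * x * (t : Γ)⁻¹ = x
        have := (h.comm x.2 t.2).eq
        rw [← this, mul_inv_cancel_right]⟩
      invFun := fun y => ⟨((y : G) : Γ), by
        rw [h.mem_C hs]
        refine ⟨(y : G).2, ?_⟩
        have h1 := congrArg Subtype.val (y.2 _ ⟨⟨s, mem_gen hs⟩, rfl⟩)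
        have h2 : s * ((y : G) : Γ) * s⁻¹ = (y : G) := h1
        exact (mul_inv_eq_iff_eq_mul.1 h2).symm⟩
      left_inv := fun x => rfl
      right_inv := fun y => rfl
      map_mul' := fun x y => rfl }
  have hcard : Nat.card X = Nat.card (IrrCharacter C) := by
    rw [hcount]
    exact Nat.card_congr (GlaubCorr.irrCongr e)
  have hinvX : ∀ χ : X, ∀ s ∈ S, ∀ g g' : G, (g' : Γ) = s * g * s⁻¹ →
      ((χ : IrrCharacter G) : G → ℂ) g' = ((χ : IrrCharacter G) : G → ℂ) g := by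
    intro χ t ht g g' hg
    have h1 := χ.2 (r ⟨t, ht⟩) ⟨_, rfl⟩ g
    rw [← h1]
    refine congrArg ((χ : IrrCharacter G) : G → ℂ) ?_
    exact Subtype.ext hg
  have hex : ∀ χ : X, ∃ (χh : Γ → ℂ) (β : IrrCharacter C) (ε : ℤ),
      Can G ((χ : IrrCharacter G) : G → ℂ) χh ∧ (ε = 1 ∨ ε = -1) ∧
      ∀ x : C, ∀ t : Γ, Subgroup.zpowers t = S → χh (x * t) = (ε : ℂ) * (β : C → ℂ) x := by
    intro χ
    obtain ⟨χh, hc⟩ := h.exists_can (χ : IrrCharacter G).2 (hinvX χ)
    obtain ⟨β, ε, h1, h2⟩ := h.exists_beta hs hc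
    exact ⟨χh, β, ε, hc, h1, h2⟩
  choose χh f ε hc hε hf using hex
  have hfinj : Function.Injective f := by
    intro χ ψ hχψ
    apply Subtype.ext
    apply Subtype.ext
    refine h.inj hs (hc χ) (hc ψ) (hε χ) (hε ψ) (β := f χ) (fun x => hf χ x s hs) (fun x => ?_)
    rw [hχψ]
    exact hf ψ x s hs
  have hfbij : Function.Bijective f := (Nat.bijective_iff_injective_and_card f).2 ⟨hfinj, hcard⟩
  obtain ⟨χ, rfl⟩ := hfbij.2 β
  exact ⟨χ, χh χ, ε χ, hinvX χ, hc χ, hε χ, hf χ⟩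

end ext

end Cfsg.Agent.Lib.GlaubCyc
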