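import Cfsg.Agent.Lib.GlaubBalC
import Cfsg.Agent.Lib.H31LBal

set_option autoImplicit false
set_option linter.unusedVariables false

/-!
# `L`-balance for the prime 2 (helper46)
-/
namespace Cfsg.Agent.Lib.GlaubBal

open Subgroup Cfsg Cfsg.Agent.Lib
open scoped commutatorElement
open Cfsg.Agent.Lib.LocBase Cfsg.Agent.Lib.BG08 Cfsg.Agent.Lib.GlaubAut
open Cfsg.Agent.Lib.Components Cfsg.Agent.Lib.Layer Cfsg.Agent.Lib.PComponents
open Cfsg.Agent.Lib.LocalLayer Cfsg.Agent.Lib.H31LBal

universe u

variable {X : Type u} [Group X] [Finite X]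

theorem gen2_of_pEl {L : Subgroup X} (h : pEl 2 L = L) : Gen2 L := by
  intro M hM
  rw [← h]
  exact (closure_le M).2 fun x hx => hM x hx.1 hx.2

theorem gen2_pComponent {L : Subgroup X} (h : IsPComponent 2 L) : Gen2 L := by
  have h2 : Fact (Nat.Prime 2) := ⟨Nat.prime_two⟩
  exact gen2_of_pEl (pComponent_pEl h)

theorem OP_eq_bot_of_normal {E : Subgroup X} [hE : E.Normal] (hO : pPrimeCore 2 X = ⊥) : OP 2 E = ⊥ := by
  have h1 : (OP 2 E).Normal := by
    rw [← normalizer_eq_top_iff, eq_top_iff]
    refine le_trans ?_ (normalizer_le_normalizer_OP 2 E)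
    rw [normalizer_eq_top_iff.2 hE]
  have h2 := Cores.le_pPrimeCore h1 (coprime_card_OP 2 E)
  rwa [hO, le_bot_iff] at h2

/-- the image of a 2-component of `C(T)` is in the layer of `X/O(X)`. -/
theorem map_pComponent_le_layer {T C : Subgroup X} (hT : IsPGroup 2 T) (hC : C = centralizer (T : Set X))
    {L₀ : Subgroup C} (hL₀ : IsPComponent 2 L₀) :
    (L₀.map C.subtype).map (QuotientGroup.mk' (pPrimeCore 2 X)) ≤
      layer (X ⧸ pPrimeCore 2 X) := by
  have h2 : Fact (Nat.Prime 2) := ⟨Nat.prime_two⟩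
  set L := L₀.map C.subtype with hL
  set N := pPrimeCore 2 X with hN
  set π := QuotientGroup.mk' N with hπ
  set E := layer (X ⧸ N) with hE
  have hLC : L ≤ C := map_subtype_le _
  have hO : pPrimeCore 2 (X ⧸ N) = ⊥ := Cores.pPrimeCore_quotient_pPrimeCore 2 X
  have hperf₀ : ⁅L₀, L₀⁆ = L₀ := pComponent_perfect hL₀
  have hgen₀ : Gen2 L₀ := gen2_pComponent hL₀
  have hperf : ⁅L, L⁆ = L := by rw [hL, ← map_commutator, hperf₀]
  have hgen : Gen2 L := hgen₀.map _
  have hCm : C.map π = centralizer (T.map π : Set (X ⧸ N)) := by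
    rw [hC]; exact PConstrained.map_centralizer_of_pgroup (p := 2) not_dvd_card_core hT
  set D₀ := (E.comap π).subgroupOf C with hD₀
  have hD₀n : D₀.Normal := (inferInstance : (E.comap π).Normal).subgroupOf C
  set σ := QuotientGroup.mk' (pPrimeCore 2 C) with hσ
  have hσs : Function.Surjective σ := QuotientGroup.mk'_surjective _
  have hD₀m : (D₀.map σ).IsSubnormal := (hD₀n.map σ hσs).isSubnormal
  rcases component_le_or_le_centralizer hL₀.2.1 hD₀m with hA | hB
  · -- case A
    have h1 : L₀ ≤ pPrimeCore 2 C ⊔ D₀ := by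
      have h3 := map_le_iff_le_comap.1 hA
      rw [comap_map_eq, QuotientGroup.ker_mk', sup_comm] at h3
      exact h3
    have h3 : L₀ ≤ D₀ := hgen₀.le_of_odd h1 (by rw [normalizer_eq_top_iff.2 hD₀n]; exact le_top)
      (Nat.coprime_two_right.1 (Cores.coprime_card_pPrimeCore 2 C))
    rw [map_le_iff_le_comap]
    rintro _ ⟨x, hx, rfl⟩
    exact h3 hx
  · -- case B
    have hLD : ⁅E.comap π ⊓ C, L⁆ ≤ OP 2 C := by
      have h3 : ⁅D₀, L₀⁆ ≤ pPrimeCore 2 C := by
        rw [← QuotientGroup.ker_mk' (pPrimeCore 2 C), ← Subgroup.map_eq_bot_iff, map_commutator, commutator_comm,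
          commutator_eq_bot_iff_le_centralizer]
        exact hB
      have h4 := Subgroup.map_mono (f := C.subtype) h3
      rw [map_commutator, hD₀, subgroupOf_map_subtype] at h4
      exact h4
    have hLT : L.map π ≤ centralizer (T.map π : Set (X ⧸ N)) := by
      rw [← hCm]; exact Subgroup.map_mono hLC
    have hsit : Sit E (T.map π) (L.map π) := by
      refine ⟨by rw [normalizer_eq_top_iff.2 inferInstance]; exact le_top,
        by rw [normalizer_eq_top_iff.2 inferInstance]; exact le_top, hT.map _, hLT, ?_, hgen.map _, ?_⟩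
      · rw [← map_commutator, hperf]
      · have h3 : E ⊓ centralizer (T.map π : Set (X ⧸ N)) = (E.comap π ⊓ C).map π := by
          rw [map_inf_of_ker_le (fun x hx => by rw [mem_comap, MonoidHom.mem_ker.1 hx]; exact one_mem _),
            map_comap_eq_self_of_surjective (QuotientGroup.mk'_surjective N), hCm]
        have h4 : ⁅E ⊓ centralizer (T.map π : Set (X ⧸ N)), L.map π⁆ ≤ OP 2 (centralizer (T.map π : Set (X ⧸ N))) := by
          rw [h3, ← map_commutator, ← hCm]
          exact (Subgroup.map_mono hLD).trans (map_OP_le _ _)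
        refine le_trans (le_inf h4 ?_) (OP_inf_le (inf_le_right : E ⊓ centralizer (T.map π : Set (X ⧸ N)) ≤ _))
        apply commutator_le_left_of_le
        exact le_normalizer_inf (by rw [normalizer_eq_top_iff.2 inferInstance]; exact le_top)
          (hLT.trans le_normalizer)
    have h3 := thmB _ _ E (T.map π) (L.map π) rfl hsit
    rw [OP_eq_bot_of_normal hO, le_bot_iff] at h3
    have h4 : L.map π ≤ centralizer (E : Set (X ⧸ N)) := by
      rw [← commutator_eq_bot_iff_le_centralizer, commutator_comm]; exact h3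
    have h5 : L.map π ≤ centralizer (pCore 2 (X ⧸ N) : Set (X ⧸ N)) := by
      refine le_trans ?_ (EpreIn_normalizer_le_centralizer_pCore (P := T.map π) (hT.map _))
      refine le_trans ?_ (EpreIn_le_EpreIn (C := centralizer (T.map π : Set (X ⧸ N))) le_rfl
        (centralizer_le_normalizer' _) (normalizer_le_normalizer_centralizer _) (EpreIn_le _))
      rw [← hCm]
      refine le_trans (Subgroup.map_mono ?_) (map_EpreIn_le' π C)
      rw [EpreIn, Epre_eq]
      exact Subgroup.map_mono ((pComponent_le_pLayer hL₀).trans le_sup_left)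
    have hF : fittingSubgroup (X ⧸ N) = pCore 2 (X ⧸ N) := Cores.fittingSubgroup_eq_pCore hO
    have h6 : L.map π ≤ centralizer (generalizedFittingSubgroup (X ⧸ N) : Set (X ⧸ N)) := by
      apply le_centralizer_comm
      apply sup_le
      · exact le_centralizer_comm h4
      · rw [hF]; exact le_centralizer_comm h5
    have h7 : L.map π = ⊥ := by
      rw [← hperf, map_commutator, commutator_eq_bot_iff_le_centralizer]
      exact h6.trans (centralizer_le (h6.trans centralizer_genFitting_le))
    rw [h7]; exact bot_le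

/-- **`L`-balance** -/
theorem lBalance (T : Subgroup X) (hT : IsPGroup 2 T) :
    (pLayer 2 ↥(centralizer (T : Set X))).map (centralizer (T : Set X)).subtype ≤ pLayer 2 X := by
  have h2 : Fact (Nat.Prime 2) := ⟨Nat.prime_two⟩
  have hn : (pLayer 2 X).Normal := H23Basic.pLayer_normal 2
  have h3 : ¬ 2 ∣ (pLayer 2 X).relIndex (pLayer 2 X ⊔ pPrimeCore 2 X) := by
    intro h
    exact not_dvd_card_core (h.trans (relIndex_sup_dvd (pLayer 2 X)))
  have h4 : pEl 2 (pLayer 2 X) = pEl 2 (pLayer 2 X ⊔ pPrimeCore 2 X) :=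
    pEl_eq_of_subnormal le_sup_left (hn.subgroupOf _).isSubnormal h3
  rw [map_le_iff_le_comap]
  apply sSup_le
  intro K hK
  rw [← map_le_iff_le_comap, ← pComponent_pEl hK, pEl_map_subtype]
  refine (pEl_mono 2 ?_).trans (h4.symm.le.trans (pEl_le 2 _))
  rw [← Epre_eq]
  exact map_le_iff_le_comap.1 (map_pComponent_le_layer hT rfl hK)

end Cfsg.Agent.Lib.GlaubBal
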