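import Cfsg.Agent.Lib.GlaubComp2

set_option autoImplicit false
set_option linter.unusedVariables false
set_option linter.unusedSectionVars false

/-!
# Standard subgroups with an involution in the centraliser (helper46)
-/
namespace Cfsg.Agent.Lib.GlaubStd

open Subgroup Cfsg Cfsg.Agent.Lib
open scoped commutatorElement
open Cfsg.Agent.Lib.LocBase Cfsg.Agent.Lib.GlaubBal Cfsg.Agent.Lib.GlaubComp
open Cfsg.Agent.Lib.Components Cfsg.Agent.Lib.Layer Cfsg.Agent.Lib.PComponents

universe u

variable {G : Type u} [Group G] [Finite G]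

theorem exists_invol_of_not_odd {Z : Subgroup G} (h : ¬ Odd (Nat.card Z)) : ∃ s ∈ Z, orderOf s = 2 := by
  have h2 : Fact (Nat.Prime 2) := ⟨Nat.prime_two⟩
  rw [Nat.not_odd_iff_even, even_iff_two_dvd] at h
  obtain ⟨s, hs⟩ := exists_prime_orderOf_dvd_card' 2 h
  exact ⟨s, s.2, (Subgroup.orderOf_coe s).trans hs⟩

theorem not_odd_of_subnormal (hO : oddCore G = ⊥) {Z : Subgroup G} (hZ : Z.IsSubnormal) (hne : Z ≠ ⊥) :
    ¬ Odd (Nat.card Z) := by
  intro h
  apply hne
  have h1 := Cores.le_pPrimeCore_of_isSubnormal hZ (Nat.coprime_two_right.2 h)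
  change Z ≤ oddCore G at h1
  rwa [hO, le_bot_iff] at h1

theorem centralizer_invol_le {A : Subgroup G} (hA : IsStandardSubgroup A) {s : G} (hs : orderOf s = 2)
    (hsA : s ∈ centralizer (A : Set G)) : centralizer ({s} : Set G) ≤ normalizer (A : Set G) := by
  obtain ⟨-, ht, -, hn⟩ := hA
  intro g hg
  rw [hn]
  by_contra hgn
  have h1 := ht.2 g hgn
  have h2 : s ∈ centralizer (A : Set G) ⊓ (centralizer (A : Set G)).map (MulAut.conj g).toMonoidHom := by
    refine ⟨hsA, s, hsA, ?_⟩
    change g * s * g⁻¹ = s
    have : s * g = g * s := mem_centralizer_iff.1 hg s rfl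
    rw [← this]; group
  have h3 : orderOf (⟨s, h2⟩ : ↥(centralizer (A : Set G) ⊓ (centralizer (A : Set G)).map (MulAut.conj g).toMonoidHom)) = 2 := by
    rw [Subgroup.orderOf_mk]; exact hs
  have h4 := orderOf_dvd_natCard (⟨s, h2⟩ : ↥(centralizer (A : Set G) ⊓ (centralizer (A : Set G)).map (MulAut.conj g).toMonoidHom))
  rw [h3] at h4
  exact (Nat.not_even_iff_odd.2 h1) (even_iff_two_dvd.2 h4)

theorem isSimple_of {D : Subgroup G} (hD : IsComponent D) (hZ : D ⊓ centralizer (D : Set G) = ⊥) : IsSimpleGroup D := by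
  have h1 : center D = ⊥ := by
    rw [eq_bot_iff]
    intro x hx
    have h2 : (x : G) ∈ D ⊓ centralizer (D : Set G) := by
      refine ⟨x.2, mem_centralizer_iff.2 fun y hy => ?_⟩
      exact congrArg Subtype.val (mem_center_iff.1 hx ⟨y, hy⟩)
    rw [hZ, mem_bot] at h2
    exact Subtype.ext h2
  have h3 := hD.2.2
  have e : (D ⧸ center D) ≃* D := (QuotientGroup.quotientMulEquivOfEq h1).trans QuotientGroup.quotientBot
  exact MulEquiv.isSimpleGroup (e.symm)

theorem center_subnormal {D : Subgroup G} (hD : D.IsSubnormal) : (D ⊓ centralizer (D : Set G)).IsSubnormal := by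
  have h1 : ((D ⊓ centralizer (D : Set G)).subgroupOf D).Normal := by
    rw [Subgroup.normal_subgroupOf_iff_le_normalizer inf_le_left]
    exact le_normalizer_inf le_normalizer (le_normalizer_centralizer le_normalizer)
  have h2 := h1.isSubnormal.trans' hD
  rwa [map_subgroupOf_eq_of_le inf_le_left] at h2

/-- Standard subgroups of even order -/
theorem main (A : Subgroup G) (hA : IsStandardSubgroup A) (hO : oddCore G = ⊥) (t : G) (ht : orderOf t = 2)
    (htA : t ∈ centralizer (A : Set G)) (heven : ¬ Odd (Nat.card A)) :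
    A.Normal ∨ (∃ X : Subgroup G, IsSimpleGroup ↥X ∧ ¬ IsMulCommutative ↥X ∧ Nonempty (↥X ≃* ↥A) ∧
      (∀ a ∈ X, ∀ b ∈ X.map (MulAut.conj t).toMonoidHom, a * b = b * a) ∧
      X ⊓ X.map (MulAut.conj t).toMonoidHom = ⊥ ∧ X ⊔ X.map (MulAut.conj t).toMonoidHom = layer G ∧
      centralizer (A : Set G) = zpowers t) ∨
    (A ≤ layer G ∧ IsSimpleGroup ↥(layer G) ∧ ¬ IsMulCommutative ↥(layer G)) := by
  have hAt : A ≤ centralizer ({t} : Set G) := by
    intro x hx
    exact mem_centralizer_iff.2 fun y hy => by
      rw [show y = t from hy]; exact (mem_centralizer_iff.1 htA x hx).symm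
  have hCA := centralizer_invol_le hA ht htA
  have hAc : IsComponent (A.subgroupOf (centralizer ({t} : Set G))) := by
    refine ⟨?_, (quasisimple_subgroupOf hAt).2 hA.1⟩
    exact ((Subgroup.normal_subgroupOf_iff_le_normalizer hAt).2 hCA).isSubnormal
  have hAE : A ≤ layer G := by
    have h1 := le_pLayer ht hAt hAc heven
    rwa [pLayer_eq_layer_of_core_eq_bot hO] at h1
  obtain ⟨D, hD, h1 | ⟨h1, h2, -⟩ | ⟨h1, h2, -⟩⟩ := trichotomy ht hAt hAc hAE
  · left
    have hn : ∀ g : G, A.map (MulAut.conj g).toMonoidHom = A := by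
      intro g
      by_contra hne
      apply hA.2.2.1 g hne
      rw [h1] at hne ⊢
      exact components_commutator hD (isComponent_conj g hD) (Ne.symm hne)
    rw [← normalizer_eq_top_iff, eq_top_iff]
    intro g _
    exact mem_normalizer_of_map_conj_eq (hn g)
  · right; right
    have hnot : ¬ D ≤ normalizer (A : Set G) := by
      intro h3
      have h4 : (A.subgroupOf D).Normal := (Subgroup.normal_subgroupOf_iff_le_normalizer h1.le).2 h3
      have h5 := h4.isSubnormal.trans' hD.1
      rw [map_subgroupOf_eq_of_le h1.le] at h5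
      rcases subnormal_le_component hD h5 h1.le with h6 | h6
      · have h7 : A = ⊥ := eq_bot_of_perfect_of_le_centralizer (isPerfect_iff'.1 hA.1.1) (h1.le.trans h6)
        have := nontrivial_of_quasisimple hA.1
        rw [h7] at this
        exact not_subsingleton (⊥ : Subgroup G) inferInstance
      · exact h1.ne h6
    have hnoinv : ∀ s : G, orderOf s = 2 → s ∈ centralizer (D : Set G) → False := by
      intro s hs hsD
      apply hnot
      refine le_trans ?_ (centralizer_invol_le hA hs (centralizer_le h1.le hsD))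
      intro x hx
      exact mem_centralizer_iff.2 fun y hy => by
        rw [show y = s from hy]; exact (mem_centralizer_iff.1 hsD x hx).symm
    have huniq : ∀ K, IsComponent K → K = D := by
      intro K hK
      by_contra hne
      have h3 := components_commute hK hD hne
      obtain ⟨s, hs, hs2⟩ := exists_invol_of_not_odd (not_odd_of_subnormal hO hK.1 (component_ne_bot hK))
      exact hnoinv s hs2 (h3 hs)
    have hlayer : layer G = D := by
      apply le_antisymm
      · exact sSup_le fun K hK => (huniq K hK).le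
      · exact component_le_layer hD
    have hZ : D ⊓ centralizer (D : Set G) = ⊥ := by
      by_contra hne
      obtain ⟨s, hs, hs2⟩ := exists_invol_of_not_odd (not_odd_of_subnormal hO (center_subnormal hD.1) hne)
      exact hnoinv s hs2 hs.2
    rw [hlayer]
    exact ⟨h1.le, isSimple_of hD hZ, not_isMulCommutative_of_quasisimple hD.2⟩
  · right; left
    have hD' := isComponent_conj t hD
    have hc : D ≤ centralizer (cj t D : Set G) := components_commute hD hD' (Ne.symm h1)
    have hAD : A ≤ D ⊔ cj t D := by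
      intro x hx
      obtain ⟨d, hd, rfl⟩ := (h2 x).1 hx
      exact mul_mem (mem_sup_left hd) (mem_sup_right ⟨d, hd, rfl⟩)
    have htt : t * t = 1 := tt_eq ht
    have hnot : ¬ D ≤ normalizer (A : Set G) := by
      intro h3
      have h4 : ⁅D, D⁆ ≤ A := by
        rw [commutator_le]
        intro x hx y hy
        have h5 : y * (t * y * t⁻¹) ∈ A := (h2 _).2 ⟨y, hy, rfl⟩
        have h6 := (mem_normalizer_iff.1 (h3 hx) _).1 h5
        have h7 := A.mul_mem h6 (A.inv_mem h5)
        have h8 : (t * y * t⁻¹) * x⁻¹ = x⁻¹ * (t * y * t⁻¹) := mem_centralizer_iff.1 (hc (D.inv_mem hx)) _ ⟨y, hy, rfl⟩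
        have h9 : x * (y * (t * y * t⁻¹)) * x⁻¹ * (y * (t * y * t⁻¹))⁻¹ = ⁅x, y⁆ := by
          rw [commutatorElement_def]
          calc x * (y * (t * y * t⁻¹)) * x⁻¹ * (y * (t * y * t⁻¹))⁻¹
              = x * y * ((t * y * t⁻¹) * x⁻¹) * (t * y * t⁻¹)⁻¹ * y⁻¹ := by group
            _ = x * y * (x⁻¹ * (t * y * t⁻¹)) * (t * y * t⁻¹)⁻¹ * y⁻¹ := by rw [h8]
            _ = _ := by group
        rwa [h9] at h7
      rw [component_perfect hD] at h4
      apply h1
      apply map_conj_eq_of_mem
      apply centralizer_le_normalizer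
      rw [mem_centralizer_iff]
      intro d hd
      exact (mem_centralizer_iff.1 (hAt (h4 hd)) t rfl).symm
    have hnoinv : ∀ s : G, orderOf s = 2 → s ∈ centralizer ((D ⊔ cj t D : Subgroup G) : Set G) → False := by
      intro s hs hsD
      apply hnot
      refine le_trans ?_ (centralizer_invol_le hA hs (centralizer_le hAD hsD))
      intro x hx
      exact mem_centralizer_iff.2 fun y hy => by
        rw [show y = s from hy]; exact (mem_centralizer_iff.1 hsD x (mem_sup_left hx)).symm
    have huniq : ∀ K, IsComponent K → K = D ∨ K = cj t D := by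
      intro K hK
      by_contra hne
      push Not at hne
      have h3 := le_centralizer_sup (components_commute hK hD hne.1) (components_commute hK hD' hne.2)
      obtain ⟨s, hs, hs2⟩ := exists_invol_of_not_odd (not_odd_of_subnormal hO hK.1 (component_ne_bot hK))
      exact hnoinv s hs2 (h3 hs)
    have hlayer : D ⊔ cj t D = layer G := by
      apply le_antisymm (sup_le_layer hD t)
      apply sSup_le
      intro K hK
      rcases huniq K hK with h3 | h3
      · rw [h3]; exact le_sup_left
      · rw [h3]; exact le_sup_right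
    have hZ : D ⊓ centralizer (D : Set G) = ⊥ := by
      by_contra hne
      obtain ⟨s, hs, hs2⟩ := exists_invol_of_not_odd (not_odd_of_subnormal hO (center_subnormal hD.1) hne)
      exact hnoinv s hs2 (le_centralizer_sup (L := D ⊓ centralizer (D : Set G)) inf_le_right (inf_le_left.trans hc) hs)
    have hDD : D ⊓ cj t D = ⊥ := by
      rw [eq_bot_iff, ← hZ]
      exact le_inf inf_le_left (inf_le_right.trans (le_centralizer_comm hc))
    set δ := diag ht hc with hδ
    have hδA : δ.range = A := by
      ext x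
      rw [h2 x, MonoidHom.mem_range]
      constructor
      · rintro ⟨d, rfl⟩; exact ⟨d, d.2, rfl⟩
      · rintro ⟨d, hd, rfl⟩; exact ⟨⟨d, hd⟩, rfl⟩
    have hδi : Function.Injective δ := by
      rw [← MonoidHom.ker_eq_bot_iff, eq_bot_iff]
      intro d hd
      have h3 : (d : G) * (t * d * t⁻¹) = 1 := hd
      have h4 : (d : G) ∈ D ⊓ cj t D := by
        refine ⟨d.2, ?_⟩
        rw [mul_eq_one_iff_eq_inv.1 h3]
        exact (cj t D).inv_mem ⟨d, d.2, rfl⟩
      rw [hDD, mem_bot] at h4
      exact Subtype.ext h4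
    -- the centraliser of the layer
    have hCl : centralizer (layer G : Set G) = ⊥ := by
      by_contra hne
      have h3 : (centralizer (layer G : Set G)).Normal := inferInstance
      obtain ⟨s, hs, hs2⟩ := exists_invol_of_not_odd (not_odd_of_subnormal hO h3.isSubnormal hne)
      rw [← hlayer] at hs
      exact hnoinv s hs2 hs
    have hkey : ∀ x : G, x ∈ centralizer (A : Set G) → cj x D = D → x = 1 := by
      intro x hx hxD
      have hxn : x ∈ normalizer (D : Set G) := mem_normalizer_of_map_conj_eq hxD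
      have hxD' : cj x (cj t D) = cj t D := by
        rcases huniq _ (isComponent_conj x hD') with h3 | h3
        · exfalso
          apply h1
          have h4 : cj x D = cj x (cj t D) := hxD.trans h3.symm
          exact ((map_conj_inj x).1 h4).symm
        · exact h3
      have hxn' : x ∈ normalizer (cj t D : Set G) := mem_normalizer_of_map_conj_eq hxD'
      have h3 : ∀ d ∈ D, x * d * x⁻¹ = d ∧ x * (t * d * t⁻¹) * x⁻¹ = t * d * t⁻¹ := by
        intro d hd
        have h4 : d * (t * d * t⁻¹) * x = x * (d * (t * d * t⁻¹)) :=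
          mem_centralizer_iff.1 hx _ ((h2 _).2 ⟨d, hd, rfl⟩)
        have h5 : (x * d * x⁻¹) * (x * (t * d * t⁻¹) * x⁻¹) = d * (t * d * t⁻¹) := by
          calc (x * d * x⁻¹) * (x * (t * d * t⁻¹) * x⁻¹) = x * (d * (t * d * t⁻¹)) * x⁻¹ := by group
            _ = _ := by rw [← h4]; group
        have h6 : d⁻¹ * (x * d * x⁻¹) = (t * d * t⁻¹) * (x * (t * d * t⁻¹) * x⁻¹)⁻¹ := by
          rw [eq_mul_inv_iff_mul_eq, mul_assoc, h5]; group
        have h7 : d⁻¹ * (x * d * x⁻¹) ∈ D ⊓ cj t D := by
          refine ⟨D.mul_mem (D.inv_mem hd) ((mem_normalizer_iff.1 hxn d).1 hd), ?_⟩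
          rw [h6]
          have h8 : t * d * t⁻¹ ∈ cj t D := ⟨d, hd, rfl⟩
          exact (cj t D).mul_mem h8 ((cj t D).inv_mem ((mem_normalizer_iff.1 hxn' _).1 h8))
        rw [hDD, mem_bot] at h7
        rw [h7] at h6
        refine ⟨(inv_mul_eq_one.1 h7).symm, ?_⟩
        exact (mul_inv_eq_one.1 h6.symm).symm
      have h4 : x ∈ centralizer (layer G : Set G) := by
        rw [← hlayer]
        have h5 : zpowers x ≤ centralizer ((D ⊔ cj t D : Subgroup G) : Set G) := by
          apply le_centralizer_sup
          · rw [zpowers_le, mem_centralizer_iff]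
            intro d hd
            exact (mul_inv_eq_iff_eq_mul.1 (h3 d hd).1).symm
          · rw [zpowers_le, mem_centralizer_iff]
            rintro _ ⟨d, hd, rfl⟩
            exact (mul_inv_eq_iff_eq_mul.1 (h3 d hd).2).symm
        exact h5 (mem_zpowers x)
      rwa [hCl, mem_bot] at h4
    refine ⟨D, isSimple_of hD hZ, not_isMulCommutative_of_quasisimple hD.2, ?_, ?_, hDD, hlayer, ?_⟩
    · exact ⟨(MonoidHom.ofInjective hδi).trans (MulEquiv.subgroupCongr hδA)⟩
    · intro a ha b hb
      exact (mem_centralizer_iff.1 (hc ha) b hb).symm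
    · apply le_antisymm
      · intro x hx
        rcases huniq _ (isComponent_conj x hD) with h3 | h3
        · rw [hkey x hx h3]; exact one_mem _
        · have h4 : t * x = 1 := by
            apply hkey
            · exact mul_mem htA hx
            · unfold cj at h3 ⊢
              rw [map_conj_mul, h3, ← map_conj_mul, htt, map_conj_one]
          have h5 : x = t⁻¹ := eq_inv_of_mul_eq_one_right h4
          rw [h5]; exact inv_mem (mem_zpowers t)
      · rw [zpowers_le]; exact htA

end Cfsg.Agent.Lib.GlaubStd
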