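import Cfsg.Agent.Lib.GolayElts

/-!
Elements of order 2 and 3 of `M24`: numbers of fixed points, subgroups of order 3, commuting elements.
-/

set_option autoImplicit false
set_option linter.constructorNameAsVariable false
set_option linter.unusedVariables false

namespace Cfsg.Agent.Lib.Golay

open Cfsg Cfsg.Agent.Lib.GolayCoset
open scoped Pointwise

theorem card_fix_code {c : ℕ} (hv : valid c = true) :
    (Finset.univ.filter fun p => toPerm c p = p).card = cntLt 24 fun i => Nat.beq (img c i) i := by
  rw [cntLt_eq]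
  have h : (Finset.univ.filter fun p => toPerm c p = p) =
      ((Finset.range 24).filter fun n => Nat.beq (img c n) n = true).image pt := by
    ext p
    simp only [Finset.mem_filter, Finset.mem_univ, true_and, Finset.mem_image, Finset.mem_range, Nat.beq_eq]
    constructor
    · intro hp
      refine ⟨ix p, ⟨ix_lt p, ?_⟩, pt_ix p⟩
      rw [← ix_toPerm hv, hp]
    · rintro ⟨n, ⟨hn, h1⟩, rfl⟩
      rw [toPerm_pt hv hn, h1]
  rw [h, Finset.card_image_of_injOn]
  intro a ha b hb hab
  rw [Finset.mem_coe, Finset.mem_filter, Finset.mem_range] at ha hb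
  have := congrArg ix hab
  rwa [ix_pt ha.1, ix_pt hb.1] at this

theorem card_fix_conj (u g : Equiv.Perm GolayPt) :
    (Finset.univ.filter fun p => (u * g * u⁻¹) p = p).card = (Finset.univ.filter fun p => g p = p).card := by
  have h : (Finset.univ.filter fun p => (u * g * u⁻¹) p = p) = u • (Finset.univ.filter fun p => g p = p) := by
    ext p
    rw [Finset.mem_filter, ← Finset.inv_smul_mem_iff, Finset.mem_filter, Equiv.Perm.mul_apply, Equiv.Perm.mul_apply]
    simp only [Finset.mem_univ, true_and, Equiv.Perm.smul_def]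
    constructor
    · intro h1
      apply u.injective
      rw [h1, perm_apply_inv]
    · intro h1
      rw [h1, perm_apply_inv]
  rw [h, Finset.card_smul_finset]

theorem cZ_fix : (cntLt 24 fun i => Nat.beq (img cZ i) i) = 6 := by decide +kernel
theorem cX_fix : (cntLt 24 fun i => Nat.beq (img cX i) i) = 0 := by decide +kernel
theorem cA_fix : (cntLt 24 fun i => Nat.beq (img cA i) i) = 8 := by decide +kernel
theorem cB_fix : (cntLt 24 fun i => Nat.beq (img cB i) i) = 0 := by decide +kernel

theorem fix_three {g : Equiv.Perm GolayPt} (hg : g ∈ M24) (h3 : orderOf g = 3) :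
    ((∃ u ∈ M24, u * g * u⁻¹ = toPerm cZ) ∧ (Finset.univ.filter fun p => g p = p).card = 6) ∨
    ((∃ u ∈ M24, u * g * u⁻¹ = toPerm cX) ∧ (Finset.univ.filter fun p => g p = p).card = 0) := by
  have hp : g ^ 3 = 1 := by rw [← h3]; exact pow_orderOf_eq_one g
  have h1 : g ≠ 1 := by
    rintro rfl
    rw [orderOf_one] at h3
    exact absurd h3 (by norm_num)
  by_cases h : ∃ p, g p = p
  · left
    obtain ⟨u, hu, e⟩ := class3A hg hp h1 h
    refine ⟨⟨u, hu, e⟩, ?_⟩
    rw [← card_fix_conj u g, e, card_fix_code (valid_of_inM inM_cZ), cZ_fix]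
  · right
    push Not at h
    obtain ⟨u, hu, e⟩ := class3B hg hp h
    refine ⟨⟨u, hu, e⟩, ?_⟩
    rw [← card_fix_conj u g, e, card_fix_code (valid_of_inM inM_cX), cX_fix]

theorem fix_two {g : Equiv.Perm GolayPt} (hg : g ∈ M24) (h2 : orderOf g = 2) :
    ((∃ u ∈ M24, u * g * u⁻¹ = toPerm cA) ∧ (Finset.univ.filter fun p => g p = p).card = 8) ∨
    ((∃ u ∈ M24, u * g * u⁻¹ = toPerm cB) ∧ (Finset.univ.filter fun p => g p = p).card = 0) := by
  have hp : g ^ 2 = 1 := by rw [← h2]; exact pow_orderOf_eq_one g
  have h1 : g ≠ 1 := by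
    rintro rfl
    rw [orderOf_one] at h2
    exact absurd h2 (by norm_num)
  by_cases h : ∃ p, g p = p
  · left
    obtain ⟨u, hu, e⟩ := class2A hg hp h1 h
    refine ⟨⟨u, hu, e⟩, ?_⟩
    rw [← card_fix_conj u g, e, card_fix_code (valid_of_inM inM_cA), cA_fix]
  · right
    push Not at h
    obtain ⟨u, hu, e⟩ := class2B hg hp h
    refine ⟨⟨u, hu, e⟩, ?_⟩
    rw [← card_fix_conj u g, e, card_fix_code (valid_of_inM inM_cB), cB_fix]

theorem orderOf_cZ : orderOf (toPerm cZ) = 3 := by
  have : Fact (Nat.Prime 3) := ⟨Nat.prime_three⟩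
  apply orderOf_eq_prime
  · rw [pow_succ, pow_two, cZ_mul]
    have := cZ_inv
    rw [← this, inv_mul_cancel]
  · intro h
    have h1 := cZ_fix
    rw [← card_fix_code (valid_of_inM inM_cZ), h] at h1
    simp [card_pt] at h1

theorem cX_cube : mulC cX (mulC cX cX) = cId := by decide +kernel

theorem orderOf_cX : orderOf (toPerm cX) = 3 := by
  have : Fact (Nat.Prime 3) := ⟨Nat.prime_three⟩
  have hv := valid_of_inM inM_cX
  apply orderOf_eq_prime
  · rw [pow_succ', pow_two, ← toPerm_mulC hv hv, ← toPerm_mulC hv (valid_mulC hv hv), cX_cube, toPerm_cId]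
  · intro h
    have h1 := cX_fix
    rw [← card_fix_code (valid_of_inM inM_cX), h] at h1
    simp [card_pt] at h1

/-- a permutation of the points of the frame `fII` without fixed points on it and of order two is not centralised by
`cZ` -/
theorem no_comm_II : ([cId, cZ, cZ'].all fun d =>
    cond (inM (mulC c2bII d)) (cond (allLt 24 fun i => Nat.beq (img (mulC c2bII d) (img cZ i)) (img cZ (img (mulC c2bII d) i)))
      false true) false) = true := by decide +kernel

theorem allLt_of {n : ℕ} {p : ℕ → Bool} (h : ∀ i < n, p i = true) : allLt n p = true := by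
  cases h1 : allLt n p with
  | true => rfl
  | false =>
    obtain ⟨i, hi, h2⟩ := allLt_false h1
    rw [h i hi] at h2
    exact h2.symm

/-- an involution commuting with an element of class 3A has fixed points -/
theorem comm_three_two {x s : Equiv.Perm GolayPt} (hx : x ∈ M24) (hs : s ∈ M24) (h3 : orderOf x = 3) (h2 : orderOf s = 2)
    (hc : Commute x s) (h6 : (Finset.univ.filter fun p => x p = p).card = 6) :
    (Finset.univ.filter fun p => s p = p).card = 8 := by
  rcases fix_two hs h2 with h | h
  · exact h.2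
  · exfalso
    have hs2 : s ^ 2 = 1 := by rw [← h2]; exact pow_orderOf_eq_one s
    have tc := two_cycle hs2
    have hnf : ∀ p, s p ≠ p := by
      intro p hp
      have := Finset.card_eq_zero.mp h.2
      have h1 : p ∈ (Finset.univ.filter fun p => s p = p) := Finset.mem_filter.mpr ⟨Finset.mem_univ _, hp⟩
      rw [this] at h1
      simp at h1
    have hsF : ∀ p ∈ (Finset.univ.filter fun p => x p = p), s p ∈ (Finset.univ.filter fun p => x p = p) := by
      intro p hp
      rw [Finset.mem_filter] at hp ⊢
      refine ⟨Finset.mem_univ _, ?_⟩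
      have := DFunLike.congr_fun hc.eq p
      rw [Equiv.Perm.mul_apply, Equiv.Perm.mul_apply, hp.2] at this
      exact this
    -- three pairs
    obtain ⟨a, ha⟩ : ∃ a, a ∈ (Finset.univ.filter fun p => x p = p) := Finset.card_pos.mp (by rw [h6]; norm_num)
    obtain ⟨b, hb, hb'⟩ : ∃ b ∈ (Finset.univ.filter fun p => x p = p), b ∉ ({a, s a} : Finset GolayPt) := by
      by_contra hcon
      push Not at hcon
      have := Finset.card_le_card (show (Finset.univ.filter fun p => x p = p) ⊆ {a, s a} from hcon)
      have h5 := Finset.card_le_two (a := a) (b := s a)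
      omega
    obtain ⟨c, hcc, hc'⟩ : ∃ c ∈ (Finset.univ.filter fun p => x p = p), c ∉ ({a, s a, b, s b} : Finset GolayPt) := by
      by_contra hcon
      push Not at hcon
      have := Finset.card_le_card (show (Finset.univ.filter fun p => x p = p) ⊆ {a, s a, b, s b} from hcon)
      have h5 := Finset.card_le_four (a := a) (b := s a) (c := b) (d := s b)
      omega
    simp only [Finset.mem_insert, Finset.mem_singleton, not_or] at hb' hc'
    obtain ⟨y1, y2⟩ := hb'
    obtain ⟨z1, z2, z3, z4⟩ := hc'
    have hne : ∀ q r, q ≠ s r → s q ≠ r := fun q r h h' => h (by rw [← h', tc])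
    have hinj : Function.Injective ![a, s a, b, s b, c, s c] := by
      apply inj6
      simp only [List.nodup_cons, List.mem_cons, List.not_mem_nil, or_false, not_or, not_false_eq_true, List.nodup_nil,
        and_true]
      exact ⟨⟨(hnf a).symm, (Ne.symm y1), (hne _ _ y2).symm, (Ne.symm z1), (hne _ _ z2).symm⟩,
        ⟨(Ne.symm y2), fun h => y1 (s.injective h).symm, (Ne.symm z2), fun h => z1 (s.injective h).symm⟩,
        ⟨(hnf b).symm, (Ne.symm z3), (hne _ _ z4).symm⟩, ⟨(Ne.symm z4), fun h => z3 (s.injective h).symm⟩, (hnf c).symm⟩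
    have hπ : ∀ i, s (![a, s a, b, s b, c, s c] i) = ![a, s a, b, s b, c, s c] (pi2 i) := by
      intro i
      fin_cases i
      exacts [rfl, tc a, rfl, tc b, rfl, tc c]
    have hfx : ∀ i, x (![a, s a, b, s b, c, s c] i) = ![a, s a, b, s b, c, s c] i := by
      have key : ∀ p ∈ (Finset.univ.filter fun p => x p = p), x p = p := fun p hp => (Finset.mem_filter.mp hp).2
      intro i
      fin_cases i
      exacts [key _ ha, key _ (hsF _ ha), key _ hb, key _ (hsF _ hb), key _ hcc, key _ (hsF _ hcc)]
    have hx3 : x ^ 3 = 1 := by rw [← h3]; exact pow_orderOf_eq_one x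
    have hx1 : x ≠ 1 := by
      rintro rfl
      rw [orderOf_one] at h3
      exact absurd h3 (by norm_num)
    by_cases hI : InOct ![a, s a, b, s b, c, s c]
    · -- then x fixes a type I frame pointwise: it has even order
      obtain ⟨k, hk, h1⟩ := exists_from_fI hinj hI
      obtain ⟨d, hd, e⟩ := fixI (g := k⁻¹ * x * k) (M24.mul_mem (M24.mul_mem (M24.inv_mem hk) hx) hk) (fun i => by
        rw [Equiv.Perm.mul_apply, Equiv.Perm.mul_apply, h1, hfx, ← h1, perm_inv_apply])
      have h4 := List.all_eq_true.mp cand_2A d hd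
      cases h5 : Nat.beq d cId with
      | true =>
        apply hx1
        have : x = k * (k⁻¹ * x * k) * k⁻¹ := by group
        rw [this, e, Nat.eq_of_beq_eq_true h5, toPerm_cId]; group
      | false =>
        rw [h5, cond_false] at h4
        obtain ⟨u, hu, hu'⟩ := isoC_spec (valid_of_inM inM_cA) (valid_of_inM (lvl_mem lvl6 hd).1) h4
        have h7 : (Finset.univ.filter fun p => x p = p).card = 8 := by
          rw [← cA_fix, ← card_fix_code (valid_of_inM inM_cA), ← hu', card_fix_conj, ← e]
          have h8 := card_fix_conj k⁻¹ x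
          rw [inv_inv] at h8
          exact h8.symm
        rw [h6] at h7
        exact absurd h7 (by norm_num)
    · obtain ⟨k, hk, h1⟩ := exists_from_fII hinj hI
      have hxk := fixII (g := k⁻¹ * x * k) (M24.mul_mem (M24.mul_mem (M24.inv_mem hk) hx) hk) (fun i => by
        rw [Equiv.Perm.mul_apply, Equiv.Perm.mul_apply, h1, hfx, ← h1, perm_inv_apply])
      have hsk := cosetII (g := k⁻¹ * s * k) (M24.mul_mem (M24.mul_mem (M24.inv_mem hk) hs) hk) pat_2bII.1 (fun i => by
        rw [Equiv.Perm.mul_apply, Equiv.Perm.mul_apply, h1, hπ, pat_of pat_2bII.1 pat_2bII.2, ← h1, perm_inv_apply])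
      have hck : Commute (k⁻¹ * x * k) (k⁻¹ * s * k) := by
        show (k⁻¹ * x * k) * (k⁻¹ * s * k) = (k⁻¹ * s * k) * (k⁻¹ * x * k)
        have e1 : (k⁻¹ * x * k) * (k⁻¹ * s * k) = k⁻¹ * (x * s) * k := by group
        have e2 : (k⁻¹ * s * k) * (k⁻¹ * x * k) = k⁻¹ * (s * x) * k := by group
        rw [e1, e2, hc.eq]
      have hcz : Commute (toPerm cZ) (k⁻¹ * s * k) := by
        rcases hxk with e | e | e
        · exfalso
          apply hx1
          have : x = k * (k⁻¹ * x * k) * k⁻¹ := by group
          rw [this, e]; group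
        · rw [← e]; exact hck
        · rw [e, ← cZ_inv] at hck
          exact (Commute.inv_left_iff.mp hck)
      obtain ⟨d, hd, e⟩ : ∃ d ∈ [cId, cZ, cZ'], k⁻¹ * s * k = toPerm (mulC c2bII d) := by
        rcases hsk with e | e | e
        · refine ⟨cId, by simp, ?_⟩
          rw [e, toPerm_mulC (valid_of_inM pat_2bII.1) (valid_of_inM inM_cId), toPerm_cId, mul_one]
        · exact ⟨cZ, by simp, e⟩
        · exact ⟨cZ', by simp, e⟩
      have h4 := List.all_eq_true.mp no_comm_II d hd
      obtain ⟨h5, h6'⟩ := cond_false_eq.mp h4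
      have hv := valid_of_inM h5
      have hvz := valid_of_inM inM_cZ
      rw [e] at hcz
      have h7 : (allLt 24 fun i => Nat.beq (img (mulC c2bII d) (img cZ i)) (img cZ (img (mulC c2bII d) i))) = true := by
        apply allLt_of
        intro i hi
        have h8 := DFunLike.congr_fun hcz.eq (pt i)
        rw [Equiv.Perm.mul_apply, Equiv.Perm.mul_apply] at h8
        have h9 := congrArg ix h8
        rw [ix_toPerm hvz, ix_toPerm hv, ix_toPerm hv, ix_toPerm hvz, ix_pt hi] at h9
        rw [Nat.beq_eq]
        exact h9.symm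
      rw [h7, cond_true] at h6'
      simp at h6'

end Cfsg.Agent.Lib.Golay
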