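import Cfsg.Agent.Lib.GolayM12b

/-!
The stabiliser in `M12` of three points of the dodecad has order 72 and is transitive on the complement (`S1600`).
-/

set_option autoImplicit false
set_option linter.constructorNameAsVariable false
set_option linter.unusedVariables false

namespace Cfsg.Agent.Lib.GolayM12c

open Cfsg Cfsg.Agent.Lib.Golay
open scoped Pointwise

theorem emb2 {a b : GolayPt} (h : a ≠ b) : ∃ x : Fin 2 ↪ GolayPt, x 0 = a ∧ x 1 = b := by
  refine ⟨⟨![a, b], ?_⟩, rfl, rfl⟩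
  intro i j hij; fin_cases i <;> fin_cases j <;> simp_all

theorem emb3 {a b c : GolayPt} (h1 : a ≠ b) (h2 : a ≠ c) (h3 : b ≠ c) :
    ∃ x : Fin 3 ↪ GolayPt, x 0 = a ∧ x 1 = b ∧ x 2 = c := by
  refine ⟨⟨![a, b, c], ?_⟩, rfl, rfl, rfl⟩
  intro i j hij; fin_cases i <;> fin_cases j <;> simp_all

theorem forall2 {P : Fin 2 → Prop} (h0 : P 0) (h1 : P 1) : ∀ i, P i := by
  intro i; fin_cases i
  · exact h0
  · exact h1

theorem forall3 {P : Fin 3 → Prop} (h0 : P 0) (h1 : P 1) (h2 : P 2) : ∀ i, P i := by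
  intro i; fin_cases i
  · exact h0
  · exact h1
  · exact h2

variable {d : Finset GolayPt}

theorem smul_mem_d {g : M24} (h : g ∈ MulAction.stabilizer M24 d) {x : GolayPt} : (g : Equiv.Perm GolayPt) x ∈ d ↔ x ∈ d := by
  have h1 : g.1 • d = d := h
  conv_lhs => rw [← h1]
  exact smul_mem_smul g.1 d x

theorem card_two (hd : d ∈ dodecads) {p q : GolayPt} (hp : p ∈ d) (hq : q ∈ d) (hpq : p ≠ q) :
    Nat.card ↥(MulAction.stabilizer M24 d ⊓ MulAction.stabilizer M24 p ⊓ MulAction.stabilizer M24 q) = 720 := by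
  have h := card_eq_mul_inf_stabilizer (MulAction.stabilizer M24 d ⊓ MulAction.stabilizer M24 p) q
    ((d.erase p : Finset GolayPt) : Set GolayPt)
    (fun g hg => by
      rw [Finset.mem_coe, Finset.mem_erase]
      refine ⟨?_, (smul_mem_d hg.1).mpr hq⟩
      intro h1
      have h2 : g.1 p = p := hg.2
      exact hpq (g.1.injective (h2.trans h1.symm)))
    (fun x hx => by
      rw [Finset.mem_coe, Finset.mem_erase] at hx
      obtain ⟨e, e0, e1⟩ := emb2 hpq
      obtain ⟨f, f0, f1⟩ := emb2 (Ne.symm hx.1)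
      obtain ⟨g, hg, hgd, hgx⟩ := exists_le_five_dodecad hd (n := 2) (by norm_num) e f
        (forall2 (by rw [e0]; exact hp) (by rw [e1]; exact hq)) (forall2 (by rw [f0]; exact hp) (by rw [f1]; exact hx.2))
      refine ⟨⟨g, hg⟩, ⟨hgd, ?_⟩, ?_⟩
      · have := hgx 0; rw [e0, f0] at this; exact this
      · have := hgx 1; rw [e1, f1] at this; exact this)
  rw [card_stab_dodecad_point hd hp, Set.ncard_coe_finset, Finset.card_erase_of_mem hp, hd.2] at h
  omega

theorem card_three (hd : d ∈ dodecads) {p q r : GolayPt} (hp : p ∈ d) (hq : q ∈ d) (hr : r ∈ d) (hpq : p ≠ q)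
    (hpr : p ≠ r) (hqr : q ≠ r) :
    Nat.card ↥(MulAction.stabilizer M24 d ⊓ MulAction.stabilizer M24 p ⊓ MulAction.stabilizer M24 q ⊓
      MulAction.stabilizer M24 r) = 72 := by
  have h := card_eq_mul_inf_stabilizer (MulAction.stabilizer M24 d ⊓ MulAction.stabilizer M24 p ⊓
      MulAction.stabilizer M24 q) r
    (((d.erase p).erase q : Finset GolayPt) : Set GolayPt)
    (fun g hg => by
      rw [Finset.mem_coe, Finset.mem_erase, Finset.mem_erase]
      refine ⟨?_, ?_, (smul_mem_d hg.1.1).mpr hr⟩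
      · intro h1
        have h2 : g.1 q = q := hg.2
        exact hqr (g.1.injective (h2.trans h1.symm))
      · intro h1
        have h2 : g.1 p = p := hg.1.2
        exact hpr (g.1.injective (h2.trans h1.symm)))
    (fun x hx => by
      rw [Finset.mem_coe, Finset.mem_erase, Finset.mem_erase] at hx
      obtain ⟨e, e0, e1, e2⟩ := emb3 hpq hpr hqr
      obtain ⟨f, f0, f1, f2⟩ := emb3 hpq (Ne.symm hx.2.1) (Ne.symm hx.1)
      obtain ⟨g, hg, hgd, hgx⟩ := exists_le_five_dodecad hd (n := 3) (by norm_num) e f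
        (forall3 (by rw [e0]; exact hp) (by rw [e1]; exact hq) (by rw [e2]; exact hr))
        (forall3 (by rw [f0]; exact hp) (by rw [f1]; exact hq) (by rw [f2]; exact hx.2.2))
      refine ⟨⟨g, hg⟩, ⟨⟨hgd, ?_⟩, ?_⟩, ?_⟩
      · have := hgx 0; rw [e0, f0] at this; exact this
      · have := hgx 1; rw [e1, f1] at this; exact this
      · have := hgx 2; rw [e2, f2] at this; exact this)
  rw [card_two hd hp hq hpq, Set.ncard_coe_finset,
    Finset.card_erase_of_mem (Finset.mem_erase.mpr ⟨Ne.symm hpq, hq⟩), Finset.card_erase_of_mem hp, hd.2] at h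
  omega

theorem compl_dodecad (hd : d ∈ dodecads) : dᶜ ∈ dodecads := by
  refine ⟨compl_mem_supports hd.1, ?_⟩
  rw [Finset.card_compl, card_pt, hd.2]

theorem smul_compl_fix {g : Equiv.Perm GolayPt} (h : g • dᶜ = dᶜ) : g • d = d := by
  ext q
  obtain ⟨p, rfl⟩ := g.surjective q
  rw [smul_mem_smul]
  have h1 : g p ∈ dᶜ ↔ p ∈ dᶜ := by
    conv_lhs => rw [← h]
    exact smul_mem_smul g _ p
  rw [Finset.mem_compl, Finset.mem_compl] at h1
  tauto

theorem trans_compl (hd : d ∈ dodecads) {p q r : GolayPt} (hp : p ∈ d) (hq : q ∈ d) (hr : r ∈ d) (hpq : p ≠ q)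
    (hpr : p ≠ r) (hqr : q ≠ r) : ∀ x ∉ d, ∀ y ∉ d,
    ∃ g ∈ (MulAction.stabilizer M24 d ⊓ MulAction.stabilizer M24 p ⊓ MulAction.stabilizer M24 q ⊓
      MulAction.stabilizer M24 r), ((g : ↥M24) : Equiv.Perm GolayPt) x = y := by
  intro x hx y hy
  have hd' := compl_dodecad hd
  have hx' : x ∈ dᶜ := Finset.mem_compl.mpr hx
  have hy' : y ∈ dᶜ := Finset.mem_compl.mpr hy
  obtain ⟨m, hm, hmd, hmx⟩ := exists_le_five_dodecad hd' (n := 1) (by norm_num)
    ⟨fun _ => x, fun _ _ _ => Subsingleton.elim _ _⟩ ⟨fun _ => y, fun _ _ _ => Subsingleton.elim _ _⟩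
    (fun _ => hx') (fun _ => hy')
  have hmx : m x = y := hmx 0
  have hmd' := smul_compl_fix hmd
  have hmem : ∀ z ∈ d, m z ∉ dᶜ := by
    intro z hz
    rw [Finset.mem_compl, not_not]
    have := (smul_mem_smul m d z).mpr hz
    rwa [hmd'] at this
  obtain ⟨e, e0, e1, e2⟩ := emb3 (m.injective.ne hpq) (m.injective.ne hpr) (m.injective.ne hqr)
  obtain ⟨f, f0, f1, f2⟩ := emb3 hpq hpr hqr
  have hnn : ∀ z ∈ d, z ∉ dᶜ := fun z hz => by rw [Finset.mem_compl, not_not]; exact hz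
  obtain ⟨n, hn, hnd, hny, hnx⟩ := M11_three_transitive_compl hd' hy' e f
    (forall3 (by rw [e0]; exact hmem p hp) (by rw [e1]; exact hmem q hq) (by rw [e2]; exact hmem r hr))
    (forall3 (by rw [f0]; exact hnn p hp) (by rw [f1]; exact hnn q hq) (by rw [f2]; exact hnn r hr))
  have hnd' := smul_compl_fix hnd
  refine ⟨⟨n * m, M24.mul_mem hn hm⟩, ⟨⟨⟨?_, ?_⟩, ?_⟩, ?_⟩, ?_⟩
  · show (n * m) • d = d
    rw [mul_smul, hmd', hnd']
  · have := hnx 0; rw [e0, f0] at this; exact this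
  · have := hnx 1; rw [e1, f1] at this; exact this
  · have := hnx 2; rw [e2, f2] at this; exact this
  · show n (m x) = y
    rw [hmx, hny]

end Cfsg.Agent.Lib.GolayM12c
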