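import Cfsg.Agent.Lib.GolayTrans
import Cfsg.Agent.Lib.GolayCoset
import Cfsg.Agent.Lib.GolayFix

/-!
Invariant subspaces of the permutation module of the automorphism group of the length-24 code.
-/

set_option autoImplicit false

namespace Cfsg.Agent.Lib.GolayModule

open Cfsg Cfsg.Agent.Lib.Golay Cfsg.Agent.Lib.GolayCoset
open scoped Pointwise

/-- the coordinate permutation action -/
abbrev act (σ : Equiv.Perm GolayPt) (w : GolayPt → ZMod 2) : GolayPt → ZMod 2 := fun p => w (σ.symm p)

theorem support_act (σ : Equiv.Perm GolayPt) (w : GolayPt → ZMod 2) :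
    support₂ (act σ w) = σ • support₂ w := by
  ext q
  obtain ⟨p, rfl⟩ := σ.surjective q
  rw [smul_mem_smul]
  simp [support₂, act]

theorem act_wordOf (σ : Equiv.Perm GolayPt) (s : Finset GolayPt) : act σ (wordOf s) = wordOf (σ • s) := by
  apply support₂_injective
  rw [support_act, support₂_wordOf, support₂_wordOf]

theorem wordOf_support (w : GolayPt → ZMod 2) : wordOf (support₂ w) = w := by
  apply support₂_injective
  rw [support₂_wordOf]

theorem wordOf_symmDiff (s t : Finset GolayPt) : wordOf (symmDiff s t) = wordOf s + wordOf t := by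
  apply support₂_injective
  rw [support₂_wordOf, support₂_add, support₂_wordOf, support₂_wordOf]

theorem wordOf_mset (m : ℕ) : wordOf (mset m) = wd m := by
  apply support₂_injective
  rw [support₂_wordOf, support₂_wd]

theorem wordOf_mem_iff (s : Finset GolayPt) : wordOf s ∈ golayCode ↔ s ∈ CS := by
  constructor
  · intro h; exact ⟨_, h, support₂_wordOf s⟩
  · rintro ⟨u, hu, h⟩
    rw [← h, wordOf_support]; exact hu

theorem z2 : ∀ z : ZMod 2, z = 0 ∨ z = 1 := by decide

theorem act_mem {σ : Equiv.Perm GolayPt} (hσ : σ ∈ M24) {w : GolayPt → ZMod 2} (hw : w ∈ golayCode) :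
    act σ w ∈ golayCode := by
  rw [← wordOf_support w] at hw ⊢
  rw [act_wordOf, wordOf_mem_iff]
  exact (smul_mem_supports_iff hσ _).2 ((wordOf_mem_iff _).1 hw)

/-- counting check for the pointwise stabiliser of the octad `oct0` -/
theorem tr6_count : allLt 24 (fun i => allLt 24 (fun j =>
    Nat.beq ((tr6.countP fun c => Nat.beq (img c i) j) % 2)
      (cond (oct0.testBit i) 0 (cond (oct0.testBit j) 0 1)))) = true := by decide +kernel

theorem tr6_inM : ∀ c ∈ tr6, inM c = true := fun _ hc => (lvl_mem lvl6 hc).1

theorem sum_tr6 (w : GolayPt → ZMod 2) :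
    (tr6.map fun c => act (toPerm c) w).sum =
      (∑ p ∈ Finset.univ.filter (fun p => p ∉ mset oct0), w p) • wordOf (mset oct0)ᶜ := by
  funext q
  have h1 : ∀ l : List ℕ, (∀ c ∈ l, inM c = true) → (l.map fun c => act (toPerm c) w).sum q =
      ∑ p, w p * ((l.countP fun c => Nat.beq (img c (ix p)) (ix q) : ℕ) : ZMod 2) := by
    intro l
    induction l with
    | nil => intro _; simp
    | cons c l ih =>
      intro hl
      have hc := hl c (by simp)
      rw [List.map_cons, List.sum_cons, Pi.add_apply, ih fun d hd => hl d (by simp [hd])]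
      have h2 : act (toPerm c) w q = ∑ p, w p * ((if Nat.beq (img c (ix p)) (ix q) then 1 else 0 : ℕ) : ZMod 2) := by
        rw [Finset.sum_eq_single ((toPerm c).symm q)]
        · have : img c (ix ((toPerm c).symm q)) = ix q := by
            rw [← ix_toPerm (valid_of_inM hc), Equiv.apply_symm_apply]
          rw [this, Nat.beq_refl]
          simp [act]
        · intro p _ hp
          have : ¬ (Nat.beq (img c (ix p)) (ix q) = true) := by
            intro h
            apply hp
            rw [Nat.beq_eq] at h
            rw [← ix_toPerm (valid_of_inM hc), ix_inj] at h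
            rw [← h, Equiv.symm_apply_apply]
          rw [if_neg this]; simp
        · intro h; exact absurd (Finset.mem_univ _) h
      rw [h2, ← Finset.sum_add_distrib]
      apply Finset.sum_congr rfl
      intro p _
      rw [List.countP_cons, ← mul_add, ← Nat.cast_add]
      congr 2
      ring
  rw [h1 tr6 tr6_inM, Pi.smul_apply, smul_eq_mul, Finset.sum_filter, Finset.sum_mul]
  apply Finset.sum_congr rfl
  intro p _
  have h3 := allLt_iff.mp (allLt_iff.mp tr6_count (ix p) (ix_lt p)) (ix q) (ix_lt q)
  have h4 := Nat.eq_of_beq_eq_true h3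
  have h5 : ((tr6.countP fun c => Nat.beq (img c (ix p)) (ix q) : ℕ) : ZMod 2) =
      ((cond (oct0.testBit (ix p)) 0 (cond (oct0.testBit (ix q)) 0 1) : ℕ) : ZMod 2) := by
    rw [← h4, ZMod.natCast_mod]
  rw [h5]
  have h6 : ∀ p : GolayPt, p ∈ mset oct0 ↔ oct0.testBit (ix p) = true := fun p => mem_mset
  simp only [wordOf, Finset.mem_compl, h6]
  cases oct0.testBit (ix p) <;> cases oct0.testBit (ix q) <;> simp

theorem oct0_octad : mset oct0 ∈ octads := oct0_mem

/-- the twelve basis words in `W` force the code into `W` -/
theorem code_le_of_bas {W : Submodule (ZMod 2) (GolayPt → ZMod 2)} (h2 : ∀ j < 12, wd (bas j) ∈ W) :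
    golayCode ≤ W := by
  have h3 : ∀ m j x, wd x ∈ W → wd (sel m j x) ∈ W := by
    intro m j x hx
    rw [sel_eq]
    split
    · exact hx
    · rw [wd_zero]; exact W.zero_mem
  intro w hw
  obtain ⟨n, _, rfl⟩ := mem_golayCode_iff.1 hw
  rw [enc_def]
  simp only [wd_xor]
  exact Submodule.add_mem _ (h3 _ _ _ (h2 0 (by norm_num))) <|
    Submodule.add_mem _ (h3 _ _ _ (h2 1 (by norm_num))) <|
    Submodule.add_mem _ (h3 _ _ _ (h2 2 (by norm_num))) <|
    Submodule.add_mem _ (h3 _ _ _ (h2 3 (by norm_num))) <|
    Submodule.add_mem _ (h3 _ _ _ (h2 4 (by norm_num))) <|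
    Submodule.add_mem _ (h3 _ _ _ (h2 5 (by norm_num))) <|
    Submodule.add_mem _ (h3 _ _ _ (h2 6 (by norm_num))) <|
    Submodule.add_mem _ (h3 _ _ _ (h2 7 (by norm_num))) <|
    Submodule.add_mem _ (h3 _ _ _ (h2 8 (by norm_num))) <|
    Submodule.add_mem _ (h3 _ _ _ (h2 9 (by norm_num))) <|
    Submodule.add_mem _ (h3 _ _ _ (h2 10 (by norm_num)))
      (h3 _ _ _ (h2 11 (by norm_num)))

/-- every octad word in `W` forces the code into `W` -/
theorem code_le_of_octad {W : Submodule (ZMod 2) (GolayPt → ZMod 2)}
    (hW : ∀ σ ∈ M24, ∀ w ∈ W, act σ w ∈ W) {o : Finset GolayPt} (ho : o ∈ octads) (h : wordOf o ∈ W) :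
    golayCode ≤ W := by
  have h1 : ∀ o' ∈ octads, wordOf o' ∈ W := by
    intro o' ho'
    obtain ⟨g, hg, hgo⟩ := octad_transitive ho ho'
    have := hW g hg _ h
    rwa [act_wordOf, hgo] at this
  exact code_le_of_bas fun j hj => by
    rw [← wordOf_mset]; exact h1 _ (bas_octad j hj)

/-- the linear form `v ↦ v · w` -/
def dotWith (w : GolayPt → ZMod 2) : (GolayPt → ZMod 2) →ₗ[ZMod 2] ZMod 2 where
  toFun := fun v => ∑ i, v i * w i
  map_add' := fun a b => by simp only [Pi.add_apply, add_mul, Finset.sum_add_distrib]
  map_smul' := fun r a => by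
    simp only [Pi.smul_apply, smul_eq_mul, mul_assoc, ← Finset.mul_sum, RingHom.id_apply]

theorem dotWith_apply (w v : GolayPt → ZMod 2) : dotWith w v = ∑ i, v i * w i := rfl

theorem mem_of_dot_bas {w : GolayPt → ZMod 2} (h : ∀ j < 12, ∑ i, wd (bas j) i * w i = 0) :
    w ∈ golayCode := by
  have h7 : golayCode ≤ LinearMap.ker (dotWith w) := code_le_of_bas fun j hj => by
    rw [LinearMap.mem_ker, dotWith_apply]
    exact h j hj
  apply Cfsg.Agent.Lib.GolayFix.dual_mem
  intro v hv
  have h8 := h7 hv
  rw [LinearMap.mem_ker, dotWith_apply] at h8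
  exact h8

theorem four_octads : ∃ j < 12, ∃ k < 12, pc (bas j &&& bas k) = 4 := by
  have : (allLt 12 fun j => allLt 12 fun k => !(Nat.beq (pc (Nat.land (bas j) (bas k))) 4)) = false := by
    decide +kernel
  by_contra h
  push Not at h
  apply absurd this
  rw [Bool.not_eq_false]
  rw [allLt_iff]
  intro j hj
  rw [allLt_iff]
  intro k hk
  rw [Bool.not_eq_true']
  rw [← Bool.not_eq_true]
  intro h1
  exact h j hj k hk (Nat.eq_of_beq_eq_true h1)

/-- the complement of an octad in `W` forces the code into `W` -/
theorem code_le_of_compl {W : Submodule (ZMod 2) (GolayPt → ZMod 2)}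
    (hW : ∀ σ ∈ M24, ∀ w ∈ W, act σ w ∈ W) {o : Finset GolayPt} (ho : o ∈ octads) (h : wordOf oᶜ ∈ W) :
    golayCode ≤ W := by
  have h1 : ∀ o' ∈ octads, wordOf o'ᶜ ∈ W := by
    intro o' ho'
    obtain ⟨g, hg, hgo⟩ := octad_transitive ho ho'
    have := hW g hg _ h
    rw [act_wordOf] at this
    have h2 : g • oᶜ = o'ᶜ := by
      rw [← hgo]
      ext q
      obtain ⟨p, rfl⟩ := g.surjective q
      rw [smul_mem_smul, Finset.mem_compl, Finset.mem_compl, smul_mem_smul]
    rwa [h2] at this
  obtain ⟨j, hj, k, hk, hjk⟩ := four_octads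
  have ho1 := bas_octad j hj
  have ho2 := bas_octad k hk
  have h3 : symmDiff (mset (bas j)) (mset (bas k)) = symmDiff (mset (bas j))ᶜ (mset (bas k))ᶜ := by
    rw [compl_symmDiff_compl]
  have h4 : symmDiff (mset (bas j)) (mset (bas k)) ∈ octads := by
    refine ⟨symmDiff_mem_supports ho1.1 ho2.1, ?_⟩
    have h5 := card_symmDiff_add (mset (bas j)) (mset (bas k))
    have h6 : (mset (bas j) ∩ mset (bas k)).card = 4 := by
      rw [← mset_and, card_mset]; exact hjk
    have h7 := ho1.2
    have h8 := ho2.2
    omega
  apply code_le_of_octad hW h4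
  rw [h3, wordOf_symmDiff]
  exact W.add_mem (h1 _ ho1) (h1 _ ho2)

theorem act_add (σ : Equiv.Perm GolayPt) (v w : GolayPt → ZMod 2) : act σ (v + w) = act σ v + act σ w := rfl

/-- a non-constant word in `W` forces the code into `W` -/
theorem code_le_of_nonconst {W : Submodule (ZMod 2) (GolayPt → ZMod 2)}
    (hW : ∀ σ ∈ M24, ∀ w ∈ W, act σ w ∈ W) {w : GolayPt → ZMod 2} (hw : w ∈ W) {p q : GolayPt}
    (hpq : w p ≠ w q) : golayCode ≤ W := by
  classical
  by_cases hwC : w ∈ golayCode
  · -- move the two points outside of the standard octad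
    wlog hp : w p = 1 generalizing p q
    · refine this (p := q) (q := p) hpq.symm ?_
      rcases z2 (w p) with h1 | h1
      · rcases z2 (w q) with h2 | h2
        · exact absurd (h1.trans h2.symm) hpq
        · exact h2
      · exact absurd h1 hp
    have hq : w q = 0 := by
      rcases z2 (w q) with h | h
      · exact h
      · exact absurd (hp.trans h.symm) hpq
    have hne : p ≠ q := fun e => hpq (by rw [e])
    have h45 : pt 4 ≠ pt 6 := pt_ne (by norm_num) (by norm_num) (by norm_num)
    obtain ⟨g, hg, hgp, hgq⟩ := exists_two hne h45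
    have h6 : pt 6 ∈ mset 8241104 := by decide +kernel
    obtain ⟨c, hc, hcM, _, hc4⟩ := lvl_exists lvl6 (by simp) (by norm_num) h6
    -- the difference
    set w1 := act g w with hw1
    have hw1W : w1 ∈ W := hW g hg w hw
    have hw1C : w1 ∈ golayCode := act_mem hg hwC
    set w2 := w1 + act (toPerm c) w1 with hw2
    have hw2W : w2 ∈ W := W.add_mem hw1W (hW _ hcM _ hw1W)
    have hw2C : w2 ∈ golayCode := golayCode.add_mem hw1C (act_mem hcM hw1C)
    have e4 : w1 (pt 4) = 1 := by
      change w (g.symm (pt 4)) = 1
      rw [← hgp, Equiv.symm_apply_apply]; exact hp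
    have e6 : w1 (pt 6) = 0 := by
      change w (g.symm (pt 6)) = 0
      rw [← hgq, Equiv.symm_apply_apply]; exact hq
    have hne6 : w2 (pt 6) = 1 := by
      change w1 (pt 6) + w1 ((toPerm c).symm (pt 6)) = 1
      rw [← hc4, Equiv.symm_apply_apply, hc4, e4, e6, zero_add]
    have hfix : ∀ p ∈ mset oct0, toPerm c p = p := by
      have h7 : allLt 24 (fun i => tr6.all fun c => cond (oct0.testBit i) (Nat.beq (img c i) i) true) = true := by
        decide +kernel
      intro p hp
      have h8 := List.all_eq_true.mp (allLt_iff.mp h7 (ix p) (ix_lt p)) c hc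
      rw [mem_mset] at hp
      rw [hp] at h8
      apply ix_injective
      rw [ix_toPerm (valid_of_inM (tr6_inM c hc))]
      exact Nat.eq_of_beq_eq_true h8
    have hzero : ∀ p ∈ mset oct0, w2 p = 0 := by
      intro p hp
      change w1 p + w1 ((toPerm c).symm p) = 0
      have h8 : (toPerm c).symm p = p := by
        conv_lhs => rw [← hfix p hp]
        exact Equiv.symm_apply_apply _ _
      rw [h8]
      rcases z2 (w1 p) with h | h <;> rw [h] <;> decide
    -- its support
    have hBS : support₂ w2 ∈ CS := ⟨w2, hw2C, rfl⟩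
    have hdis : support₂ w2 ∩ mset oct0 = ∅ := by
      ext x
      simp only [Finset.mem_inter, Finset.notMem_empty, iff_false, not_and]
      intro h1 h2
      simp only [support₂, Finset.mem_filter] at h1
      exact h1.2 (hzero x h2)
    have h9 := card_cases hBS
    have h10 := card_cases (symmDiff_mem_supports hBS oct0_octad.1)
    have h11 := card_symmDiff_add (support₂ w2) (mset oct0)
    rw [hdis, Finset.card_empty] at h11
    have h12 : (mset oct0).card = 8 := oct0_octad.2
    have h13 : (support₂ w2).card ≠ 0 := by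
      intro h0
      rw [Finset.card_eq_zero] at h0
      have : pt 6 ∈ support₂ w2 := by simp [support₂, hne6]
      rw [h0] at this
      exact absurd this (Finset.notMem_empty _)
    have h14 : (support₂ w2).card = 8 ∨ (support₂ w2).card = 16 := by omega
    rcases h14 with h14 | h14
    · apply code_le_of_octad hW (o := support₂ w2) ⟨hBS, h14⟩
      rw [wordOf_support]; exact hw2W
    · apply code_le_of_compl hW oct0_octad
      have h15 : support₂ w2 = (mset oct0)ᶜ := by
        apply Finset.eq_of_subset_of_card_le
        · intro x hx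
          rw [Finset.mem_compl]
          intro hx'
          have : x ∈ support₂ w2 ∩ mset oct0 := Finset.mem_inter.2 ⟨hx, hx'⟩
          rw [hdis] at this
          exact absurd this (Finset.notMem_empty _)
        · rw [Finset.card_compl, card_pt, h12, h14]
      rw [← h15, wordOf_support]; exact hw2W
  · -- some octad with an odd number of points of `w` outside
    have h1 : ∃ o ∈ octads, (∑ p ∈ Finset.univ.filter (fun p => p ∉ o), w p) = 1 := by
      by_contra hcon
      push Not at hcon
      have h2 : ∀ o ∈ octads, (∑ p ∈ Finset.univ.filter (fun p => p ∉ o), w p) = 0 := fun o ho =>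
        (z2 _).resolve_right (hcon o ho)
      have h3 : ∀ o ∈ octads, ∑ p, w p * wordOf o p = ∑ p, w p := by
        intro o ho
        have h4 := h2 o ho
        have h5 := Finset.sum_filter_add_sum_filter_not Finset.univ (fun p => p ∉ o) w
        rw [h4, zero_add] at h5
        rw [← h5]
        rw [Finset.sum_filter]
        apply Finset.sum_congr rfl
        intro p _
        by_cases hp : p ∈ o <;> simp [wordOf, hp]
      obtain ⟨j, hj, k, hk, hjk⟩ := four_octads
      have ho1 := bas_octad j hj
      have ho2 := bas_octad k hk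
      have h4 : symmDiff (mset (bas j)) (mset (bas k)) ∈ octads := by
        refine ⟨symmDiff_mem_supports ho1.1 ho2.1, ?_⟩
        have h5 := card_symmDiff_add (mset (bas j)) (mset (bas k))
        have h6 : (mset (bas j) ∩ mset (bas k)).card = 4 := by
          rw [← mset_and, card_mset]; exact hjk
        have h7 := ho1.2
        have h8 := ho2.2
        omega
      have h5 := h3 _ h4
      simp only [wordOf_symmDiff, Pi.add_apply, mul_add, Finset.sum_add_distrib] at h5
      rw [h3 _ ho1, h3 _ ho2] at h5
      have h6 : ∑ p, w p = 0 := by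
        rcases z2 (∑ p, w p) with h | h
        · exact h
        · rw [h] at h5; exact absurd h5 (by decide)
      apply hwC
      -- self-duality
      apply mem_of_dot_bas
      intro j hj
      rw [← h6, ← h3 _ (bas_octad j hj), wordOf_mset]
      exact Finset.sum_congr rfl fun i _ => mul_comm _ _
    obtain ⟨o, ho, h1⟩ := h1
    obtain ⟨g, hg, hgo⟩ := octad_transitive ho oct0_octad
    apply code_le_of_compl hW oct0_octad
    have h2 := sum_tr6 (act g w)
    have h3 : (∑ p ∈ Finset.univ.filter (fun p => p ∉ mset oct0), act g w p) = 1 := by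
      rw [← h1]
      apply Finset.sum_nbij' (fun p => g.symm p) (fun p => g p)
      · intro p hp
        simp only [Finset.mem_filter, Finset.mem_univ, true_and] at hp ⊢
        intro h
        apply hp
        rw [← hgo, mem_smul_iff]
        exact ⟨_, h, Equiv.apply_symm_apply _ _⟩
      · intro p hp
        simp only [Finset.mem_filter, Finset.mem_univ, true_and] at hp ⊢
        rw [← hgo, smul_mem_smul]
        exact hp
      · intro p _; exact Equiv.apply_symm_apply _ _
      · intro p _; exact Equiv.symm_apply_apply _ _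
      · intro p _; rfl
    rw [h3, one_smul] at h2
    rw [← h2]
    apply W.list_sum_mem
    intro x hx
    rw [List.mem_map] at hx
    obtain ⟨c, hc, rfl⟩ := hx
    exact hW _ (toPerm_mem_M24 (tr6_inM c hc)) _ (hW g hg w hw)

/-- an invariant subspace not inside the code contains all even words -/
theorem even_le_of_not_le {W : Submodule (ZMod 2) (GolayPt → ZMod 2)}
    (hW : ∀ σ ∈ M24, ∀ w ∈ W, act σ w ∈ W) {w : GolayPt → ZMod 2} (hw : w ∈ W) (hwC : w ∉ golayCode) :
    ∀ v : GolayPt → ZMod 2, ∑ p, v p = 0 → v ∈ W := by
  classical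
  have hnc : ∃ p q, w p ≠ w q := by
    by_contra h
    push Not at h
    apply hwC
    have h1 : w = w none • fun _ => (1 : ZMod 2) := by
      funext p; simp [h p none]
    rw [h1]
    exact golayCode.smul_mem _ (Submodule.subset_span (Set.mem_union_right _ rfl))
  obtain ⟨p, q, hpq⟩ := hnc
  have hC := code_le_of_nonconst hW hw hpq
  obtain ⟨t, ht4, ht⟩ := exists_leader (support₂ w)
  have htW : wordOf t ∈ W := by
    have h1 : wordOf (symmDiff (support₂ w) t) ∈ W := hC ((wordOf_mem_iff _).2 ht)
    have h2 : wordOf t = w + wordOf (symmDiff (support₂ w) t) := by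
      rw [wordOf_symmDiff, wordOf_support, ← add_assoc]
      have : w + w = 0 := by
        funext x; rcases z2 (w x) with h | h <;> simp [h]; decide
      rw [this, zero_add]
    rw [h2]; exact W.add_mem hw h1
  have ht0 : t.Nonempty := by
    rw [Finset.nonempty_iff_ne_empty]
    rintro rfl
    apply hwC
    rw [← wordOf_support w, wordOf_mem_iff]
    have h0 : symmDiff (support₂ w) ∅ = support₂ w := symmDiff_bot _
    rw [h0] at ht
    exact ht
  obtain ⟨x, hx⟩ := ht0
  obtain ⟨y, hy⟩ : ∃ y, y ∉ t := by
    by_contra h
    push Not at h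
    have : t = Finset.univ := Finset.eq_univ_iff_forall.2 h
    rw [this, Finset.card_univ, card_pt] at ht4
    omega
  -- a pair
  have hxy : x ≠ y := fun e => hy (e ▸ hx)
  have hpair0 : wordOf {x, y} ∈ W := by
    let e := t.equivFin
    obtain ⟨g, hg, hgi⟩ := exists_emb_of_le (n := t.card) (by omega)
      ⟨fun i => (e.symm i : GolayPt), fun i j hij => e.symm.injective (Subtype.ext hij)⟩
      ⟨fun i => Equiv.swap x y (e.symm i : GolayPt), fun i j hij =>
        e.symm.injective (Subtype.ext ((Equiv.swap x y).injective hij))⟩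
    have hgt : ∀ z ∈ t, g z = Equiv.swap x y z := by
      intro z hz
      have h1 : g ((e.symm (e ⟨z, hz⟩) : t) : GolayPt) = Equiv.swap x y (e.symm (e ⟨z, hz⟩) : GolayPt) :=
        hgi (e ⟨z, hz⟩)
      rwa [Equiv.symm_apply_apply] at h1
    have h1 := W.add_mem htW (hW g hg _ htW)
    rw [act_wordOf, ← wordOf_symmDiff] at h1
    have h2 : symmDiff t (g • t) = {x, y} := by
      have h3 : g • t = Equiv.swap x y • t := by
        ext q
        rw [mem_smul_iff, mem_smul_iff]
        constructor
        · rintro ⟨p, hp, rfl⟩; exact ⟨p, hp, (hgt p hp).symm⟩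
        · rintro ⟨p, hp, rfl⟩; exact ⟨p, hp, hgt p hp⟩
      rw [h3]
      ext q
      rw [Finset.mem_symmDiff, mem_smul_iff, Finset.mem_insert, Finset.mem_singleton]
      have h4 : (∃ p ∈ t, (Equiv.swap x y) p = q) ↔ Equiv.swap x y q ∈ t := by
        constructor
        · rintro ⟨p, hp, rfl⟩; rwa [Equiv.swap_apply_self]
        · intro h; exact ⟨_, h, Equiv.swap_apply_self _ _ _⟩
      rw [h4]
      by_cases hqx : q = x
      · subst hqx
        rw [Equiv.swap_apply_left]
        simp [hx, hy]
      · by_cases hqy : q = y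
        · subst hqy
          rw [Equiv.swap_apply_right]
          simp [hx, hy]
        · rw [Equiv.swap_apply_of_ne_of_ne hqx hqy]
          simp [hqx, hqy]
    rwa [h2] at h1
  have hpair : ∀ a b : GolayPt, a ≠ b → wordOf {a, b} ∈ W := by
    intro a b hab
    obtain ⟨g, hg, hga, hgb⟩ := exists_two hxy hab
    have := hW g hg _ hpair0
    rw [act_wordOf] at this
    have h2 : g • ({x, y} : Finset GolayPt) = {a, b} := by
      ext q
      obtain ⟨p, rfl⟩ := g.surjective q
      rw [smul_mem_smul, ← hga, ← hgb]
      simp
    rwa [h2] at this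
  intro v hv
  have h1 : v = ∑ p ∈ Finset.univ.filter (fun p => v p = 1 ∧ p ≠ none), wordOf {p, none} := by
    funext q
    rw [Finset.sum_apply]
    by_cases hq : q = none
    · subst hq
      have h2 : ∀ p ∈ Finset.univ.filter (fun p => v p = 1 ∧ p ≠ none), wordOf {p, none} none = v p := by
        intro p hp
        simp only [Finset.mem_filter] at hp
        rw [hp.2.1]; simp [wordOf]
      rw [Finset.sum_congr rfl h2]
      have h3 : ∑ p ∈ Finset.univ.filter (fun p => v p = 1 ∧ p ≠ none), v p =
          ∑ p ∈ Finset.univ.erase none, v p := by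
        apply Finset.sum_subset_zero_on_sdiff
        · intro p hp
          simp only [Finset.mem_filter] at hp
          exact Finset.mem_erase.2 ⟨hp.2.2, Finset.mem_univ _⟩
        · intro p hp
          simp only [Finset.mem_sdiff, Finset.mem_erase, Finset.mem_filter, Finset.mem_univ, true_and,
            and_true, not_and, not_not] at hp
          rcases z2 (v p) with h | h
          · exact h
          · exact absurd (hp.2 h) hp.1
        · intro p _; rfl
      rw [h3]
      have h4 := Finset.add_sum_erase Finset.univ v (Finset.mem_univ none)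
      rw [hv] at h4
      have h5 : v none + v none = 0 := by
        have h6 : ∀ z : ZMod 2, z + z = 0 := by decide
        exact h6 _
      have h6 : v none + ∑ p ∈ Finset.univ.erase none, v p = v none + v none := by rw [h4, h5]
      exact (add_left_cancel h6).symm
    · have h2 : ∀ p ∈ Finset.univ.filter (fun p => v p = 1 ∧ p ≠ none), wordOf {p, none} q =
          if p = q then 1 else 0 := by
        intro p _
        simp only [wordOf, Finset.mem_insert, Finset.mem_singleton, hq, or_false]
        by_cases h : q = p
        · simp [h]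
        · rw [if_neg h, if_neg (fun e => h e.symm)]
      rw [Finset.sum_congr rfl h2, Finset.sum_ite_eq']
      simp only [Finset.mem_filter, Finset.mem_univ, true_and]
      rcases z2 (v q) with h | h
      · rw [h]; simp
      · rw [h]; simp [hq]
  rw [h1]
  apply W.sum_mem
  intro p hp
  exact hpair p none (by simp only [Finset.mem_filter] at hp; exact hp.2.2)

/-- the invariant subspaces -/
theorem invariant_cases (W : Submodule (ZMod 2) (GolayPt → ZMod 2))
    (hW : ∀ σ ∈ M24, ∀ w ∈ W, act σ w ∈ W) :
    W = ⊥ ∨ W = Submodule.span (ZMod 2) {fun _ => (1 : ZMod 2)} ∨ W = golayCode ∨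
      (W : Set (GolayPt → ZMod 2)) = {w | ∑ p, w p = 0} ∨ W = ⊤ := by
  classical
  by_cases h1 : ∃ w ∈ W, ∃ p q, w p ≠ w q
  · obtain ⟨w, hw, p, q, hpq⟩ := h1
    have hC := code_le_of_nonconst hW hw hpq
    by_cases h2 : W ≤ golayCode
    · right; right; left; exact le_antisymm h2 hC
    · obtain ⟨u, huW, huC⟩ := SetLike.not_le_iff_exists.1 h2
      have hE := even_le_of_not_le hW huW huC
      right; right; right
      by_cases h3 : ∀ w ∈ W, ∑ p, w p = 0
      · left
        ext v
        exact ⟨fun h => h3 v h, fun h => hE v h⟩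
      · right
        push Not at h3
        obtain ⟨u, huW, hu⟩ := h3
        rw [eq_top_iff]
        intro v _
        rcases z2 (∑ p, v p) with h4 | h4
        · exact hE v h4
        · have h5 : v - u ∈ W := by
            apply hE
            simp only [Pi.sub_apply, Finset.sum_sub_distrib, h4, (z2 _).resolve_left hu, sub_self]
          have := W.add_mem h5 huW
          rwa [sub_add_cancel] at this
  · push Not at h1
    have h2 : ∀ w ∈ W, w = w none • fun _ => (1 : ZMod 2) := by
      intro w hw; funext p; simp [h1 w hw p none]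
    by_cases h3 : ∃ w ∈ W, w ≠ 0
    · obtain ⟨w, hw, hw0⟩ := h3
      have h4 : w none = 1 := by
        rcases z2 (w none) with h | h
        · exfalso; apply hw0; rw [h2 w hw, h, zero_smul]
        · exact h
      right; left
      apply le_antisymm
      · intro v hv
        rw [h2 v hv]
        exact Submodule.smul_mem _ _ (Submodule.mem_span_singleton_self _)
      · rw [Submodule.span_singleton_le_iff_mem]
        have := h2 w hw
        rw [h4, one_smul] at this
        rw [← this]; exact hw
    · left
      push Not at h3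
      rw [eq_bot_iff]
      intro w hw
      exact h3 w hw

end Cfsg.Agent.Lib.GolayModule
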