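import Cfsg.Agent.Lib.CosetGe

/-!
# Groups `2¹¹.M₂₃` given by 23 commuting involutions

`E` acts on 23 commuting involutions through `ρ`, `N` is the pointwise stabilizer.
Elementary abelian subgroups normalized by `N` are in `N` or have order at most `2¹⁰`.
-/

set_option autoImplicit false
set_option linter.all false

namespace Cfsg.Agent.Lib.GolayNrm

structure Dat {E : Type*} [Group E] (ρ : E →* Equiv.Perm (Fin 23)) (t : Fin 23 → E) (N : Subgroup E) : Prop where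
  fin : Finite E
  nrm : N.Normal
  tN : ∀ i, t i ∈ N
  tconj : ∀ g i, g * t i * g⁻¹ = t (ρ g i)
  tinj : Function.Injective t
  tsq : ∀ i, t i * t i = 1
  comm : ∀ a ∈ N, ∀ b ∈ N, a * b = b * a
  r4 : t 0 * t 1 ≠ t 2 * t 3
  ker : ∀ g, ρ g 0 = 0 → ρ g 1 = 1 → ρ g 2 = 2 → ρ g 3 = 3 → ρ g 4 = 4 → ρ g 20 = 20 → g ∈ N
  fixN : ∀ g ∈ N, ∀ i, ρ g i = i
  card : Nat.card N = 2048
  tr0 : ∀ i, ∃ g, ρ g 0 = i
  tr1 : ∀ i, i ≠ 0 → ∃ g, ρ g 0 = 0 ∧ ρ g 1 = i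
  tr2 : ∀ i, i ≠ 0 → i ≠ 1 → ∃ g, ρ g 0 = 0 ∧ ρ g 1 = 1 ∧ ρ g 2 = i
  tr3 : ∀ i, i ≠ 0 → i ≠ 1 → i ≠ 2 → ∃ g, ρ g 0 = 0 ∧ ρ g 1 = 1 ∧ ρ g 2 = 2 ∧ ρ g 3 = i
  tr4 : ∀ i, 4 ≤ i → i < 20 → ∃ g, ρ g 0 = 0 ∧ ρ g 1 = 1 ∧ ρ g 2 = 2 ∧ ρ g 3 = 3 ∧ ρ g 4 = i
  tr5 : ∀ i, 20 ≤ i → ∃ g, ρ g 0 = 0 ∧ ρ g 1 = 1 ∧ ρ g 2 = 2 ∧ ρ g 3 = 3 ∧ ρ g 4 = 4 ∧ ρ g 20 = i
  st4 : ∀ g, ρ g 0 = 0 → ρ g 1 = 1 → ρ g 2 = 2 → ρ g 3 = 3 → ρ g 4 < 20
  st5 : ∀ g, ρ g 0 = 0 → ρ g 1 = 1 → ρ g 2 = 2 → ρ g 3 = 3 → ρ g 4 = 4 → 20 ≤ ρ g 20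

variable {E : Type*} [Group E] {ρ : E →* Equiv.Perm (Fin 23)} {t : Fin 23 → E} {N : Subgroup E}

namespace Dat

variable (D : Dat ρ t N)
include D

omit D in
theorem inv_ne {g : E} {i b : Fin 23} (h : b ≠ ρ g i) : ρ g⁻¹ b ≠ i := by
  intro h1
  apply h
  rw [← h1, ← Equiv.Perm.mul_apply, ← map_mul, mul_inv_cancel, map_one]; rfl

omit D in
theorem app_inv (g : E) (b : Fin 23) : ρ g (ρ g⁻¹ b) = b := by
  rw [← Equiv.Perm.mul_apply, ← map_mul, mul_inv_cancel, map_one]; rfl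

omit D in
theorem inv_app (g : E) (b : Fin 23) : ρ g⁻¹ (ρ g b) = b := by
  rw [← Equiv.Perm.mul_apply, ← map_mul, inv_mul_cancel, map_one]; rfl

/-- the action is 4-transitive -/
theorem four {a b c d : Fin 23} (hab : a ≠ b) (hac : a ≠ c) (had : a ≠ d) (hbc : b ≠ c) (hbd : b ≠ d) (hcd : c ≠ d) :
    ∃ g, ρ g 0 = a ∧ ρ g 1 = b ∧ ρ g 2 = c ∧ ρ g 3 = d := by
  obtain ⟨g0, h0⟩ := D.tr0 a
  obtain ⟨g1, h10, h11⟩ := D.tr1 (ρ g0⁻¹ b) (inv_ne (by rw [h0]; exact hab.symm))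
  have e1 : ρ (g0 * g1) 0 = a := by rw [map_mul, Equiv.Perm.mul_apply, h10, h0]
  have e2 : ρ (g0 * g1) 1 = b := by rw [map_mul, Equiv.Perm.mul_apply, h11, app_inv]
  obtain ⟨g2, h20, h21, h22⟩ := D.tr2 (ρ (g0 * g1)⁻¹ c) (inv_ne (by rw [e1]; exact hac.symm))
    (inv_ne (by rw [e2]; exact hbc.symm))
  have f1 : ρ (g0 * g1 * g2) 0 = a := by rw [map_mul, Equiv.Perm.mul_apply, h20, e1]
  have f2 : ρ (g0 * g1 * g2) 1 = b := by rw [map_mul, Equiv.Perm.mul_apply, h21, e2]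
  have f3 : ρ (g0 * g1 * g2) 2 = c := by rw [map_mul, Equiv.Perm.mul_apply, h22, app_inv]
  obtain ⟨g3, h30, h31, h32, h33⟩ := D.tr3 (ρ (g0 * g1 * g2)⁻¹ d) (inv_ne (by rw [f1]; exact had.symm))
    (inv_ne (by rw [f2]; exact hbd.symm)) (inv_ne (by rw [f3]; exact hcd.symm))
  refine ⟨g0 * g1 * g2 * g3, ?_, ?_, ?_, ?_⟩
  · rw [map_mul, Equiv.Perm.mul_apply, h30, f1]
  · rw [map_mul, Equiv.Perm.mul_apply, h31, f2]
  · rw [map_mul, Equiv.Perm.mul_apply, h32, f3]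
  · rw [map_mul, Equiv.Perm.mul_apply, h33, app_inv]

theorem tc (i j : Fin 23) : t i * t j = t j * t i := D.comm _ (D.tN i) _ (D.tN j)

/-- products of pairs -/
theorem pairs {a b c d : Fin 23} (hab : a ≠ b) (h : t a * t b = t c * t d) : (c = a ∧ d = b) ∨ (c = b ∧ d = a) := by
  by_cases hcd : c = d
  · exfalso
    rw [hcd, D.tsq d] at h
    have h1 : t a = t b := by
      have h2 := D.tsq b
      exact mul_right_cancel (h.trans h2.symm)
    exact hab (D.tinj h1)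
  by_cases hca : c = a
  · left
    refine ⟨hca, ?_⟩
    rw [hca] at h
    exact (D.tinj (mul_left_cancel h)).symm
  by_cases hcb : c = b
  · right
    refine ⟨hcb, ?_⟩
    rw [hcb, D.tc] at h
    exact (D.tinj (mul_left_cancel h)).symm
  by_cases hda : d = a
  · right
    refine ⟨?_, hda⟩
    rw [hda, D.tc c] at h
    exact (D.tinj (mul_left_cancel h)).symm
  by_cases hdb : d = b
  · left
    refine ⟨?_, hdb⟩
    rw [hdb] at h
    exact (D.tinj (mul_right_cancel h)).symm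
  exfalso
  obtain ⟨g, h0, h1, h2, h3⟩ := D.four (a := a) (b := b) (c := c) (d := d) hab (Ne.symm hca) (Ne.symm hda) (Ne.symm hcb)
    (Ne.symm hdb) hcd
  apply D.r4
  rw [← h0, ← h1, ← h2, ← h3, ← D.tconj, ← D.tconj, ← D.tconj, ← D.tconj] at h
  have e : ∀ x y : E, g * x * g⁻¹ * (g * y * g⁻¹) = g * (x * y) * g⁻¹ := fun x y => by group
  rw [e, e] at h
  exact mul_left_cancel (mul_right_cancel h)

omit D in
/-- fixed points of conjugates -/
theorem conj_fix {g h : E} {i : Fin 23} (hi : ρ g (ρ h i) = ρ h i) : ρ (h⁻¹ * g * h) i = i := by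
  rw [map_mul, map_mul, Equiv.Perm.mul_apply, Equiv.Perm.mul_apply, hi, inv_app]

theorem mem_conj {g h : E} (hc : h⁻¹ * g * h ∈ N) : g ∈ N := by
  have h1 := D.nrm.conj_mem _ hc h
  have h2 : h * (h⁻¹ * g * h) * h⁻¹ = g := by group
  rwa [h2] at h1

theorem sq_conj {g h : E} (hg : g * g ∈ N) : (h⁻¹ * g * h) * (h⁻¹ * g * h) ∈ N := by
  have h1 := D.nrm.conj_mem _ hg h⁻¹
  have h2 : h⁻¹ * (g * g) * h⁻¹⁻¹ = (h⁻¹ * g * h) * (h⁻¹ * g * h) := by group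
  rwa [h2] at h1

/-- involutions fixing the first five points -/
theorem mem5 {g : E} (hg : g * g ∈ N) (h0 : ρ g 0 = 0) (h1 : ρ g 1 = 1) (h2 : ρ g 2 = 2) (h3 : ρ g 3 = 3) (h4 : ρ g 4 = 4) :
    g ∈ N := by
  have hst : ∀ j : Fin 23, 20 ≤ j → 20 ≤ ρ g j := by
    intro j hj
    obtain ⟨h, k0, k1, k2, k3, k4, k5⟩ := D.tr5 j hj
    have := D.st5 (g * h) (by rw [map_mul, Equiv.Perm.mul_apply, k0, h0]) (by rw [map_mul, Equiv.Perm.mul_apply, k1, h1])
      (by rw [map_mul, Equiv.Perm.mul_apply, k2, h2]) (by rw [map_mul, Equiv.Perm.mul_apply, k3, h3])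
      (by rw [map_mul, Equiv.Perm.mul_apply, k4, h4])
    rwa [map_mul, Equiv.Perm.mul_apply, k5] at this
  have hsq : ∀ j, ρ g (ρ g j) = j := by
    intro j
    rw [← Equiv.Perm.mul_apply, ← map_mul]
    exact D.fixN _ hg j
  have hex : ∃ j : Fin 23, 20 ≤ j ∧ ρ g j = j := by
    have a0 := hst 20 (by decide)
    have a1 := hst 21 (by decide)
    have a2 := hst 22 (by decide)
    have b0 := hsq 20
    have b1 := hsq 21
    have b2 := hsq 22
    have hcase : ∀ j : Fin 23, 20 ≤ j → j = 20 ∨ j = 21 ∨ j = 22 := by decide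
    rcases hcase _ a0 with c0 | c0 | c0
    · exact ⟨20, by decide, c0⟩
    · rcases hcase _ a2 with c2 | c2 | c2
      · rw [c2, c0] at b2; exact absurd b2 (by decide)
      · rw [c2] at b2
        rw [c0] at b0
        rw [b0] at b2; exact absurd b2 (by decide)
      · exact ⟨22, by decide, c2⟩
    · rcases hcase _ a1 with c1 | c1 | c1
      · rw [c1, c0] at b1; exact absurd b1 (by decide)
      · exact ⟨21, by decide, c1⟩
      · rw [c1] at b1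
        rw [c0] at b0
        rw [b0] at b1; exact absurd b1 (by decide)
  obtain ⟨j, hj, hjj⟩ := hex
  obtain ⟨h, k0, k1, k2, k3, k4, k5⟩ := D.tr5 j hj
  apply D.mem_conj (h := h)
  apply D.ker
  · exact conj_fix (by rw [k0, h0])
  · exact conj_fix (by rw [k1, h1])
  · exact conj_fix (by rw [k2, h2])
  · exact conj_fix (by rw [k3, h3])
  · exact conj_fix (by rw [k4, h4])
  · exact conj_fix (by rw [k5, hjj])

/-- involutions fixing the first four points and a point outside the heptad -/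
theorem mem4 {g : E} (hg : g * g ∈ N) (h0 : ρ g 0 = 0) (h1 : ρ g 1 = 1) (h2 : ρ g 2 = 2) (h3 : ρ g 3 = 3) {i : Fin 23}
    (hi4 : 4 ≤ i) (hi20 : i < 20) (hi : ρ g i = i) : g ∈ N := by
  obtain ⟨h, k0, k1, k2, k3, k4⟩ := D.tr4 i hi4 hi20
  apply D.mem_conj (h := h)
  apply D.mem5 (D.sq_conj hg)
  · exact conj_fix (by rw [k0, h0])
  · exact conj_fix (by rw [k1, h1])
  · exact conj_fix (by rw [k2, h2])
  · exact conj_fix (by rw [k3, h3])
  · exact conj_fix (by rw [k4, hi])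

/-- fixed points of a permutation -/
def fx (σ : Equiv.Perm (Fin 23)) : Finset (Fin 23) := Finset.univ.filter (fun i => σ i = i)

omit D in
theorem mem_fx {σ : Equiv.Perm (Fin 23)} {i : Fin 23} : i ∈ fx σ ↔ σ i = i := by simp [fx]

/-- a nontrivial involution fixes at most seven points -/
theorem fix_le {g : E} (hg : g * g ∈ N) (hgN : g ∉ N) : (fx (ρ g)).card ≤ 7 := by
  by_contra hcon
  push Not at hcon
  obtain ⟨a, ha, S1, hS1, c1⟩ : ∃ a ∈ fx (ρ g), ∃ S : Finset (Fin 23), S = (fx (ρ g)).erase a ∧ S.card = (fx (ρ g)).card - 1 := by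
    obtain ⟨a, ha⟩ : (fx (ρ g)).Nonempty := Finset.card_pos.mp (by omega)
    exact ⟨a, ha, _, rfl, Finset.card_erase_of_mem ha⟩
  obtain ⟨b, hb, S2, hS2, c2⟩ : ∃ a ∈ S1, ∃ S : Finset (Fin 23), S = S1.erase a ∧ S.card = S1.card - 1 := by
    obtain ⟨a, ha⟩ : S1.Nonempty := Finset.card_pos.mp (by omega)
    exact ⟨a, ha, _, rfl, Finset.card_erase_of_mem ha⟩
  obtain ⟨c, hc, S3, hS3, c3⟩ : ∃ a ∈ S2, ∃ S : Finset (Fin 23), S = S2.erase a ∧ S.card = S2.card - 1 := by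
    obtain ⟨a, ha⟩ : S2.Nonempty := Finset.card_pos.mp (by omega)
    exact ⟨a, ha, _, rfl, Finset.card_erase_of_mem ha⟩
  obtain ⟨d, hd⟩ : S3.Nonempty := Finset.card_pos.mp (by omega)
  rw [hS3, Finset.mem_erase, hS2, Finset.mem_erase, hS1, Finset.mem_erase] at hd
  rw [hS2, Finset.mem_erase, hS1, Finset.mem_erase] at hc
  rw [hS1, Finset.mem_erase] at hb
  obtain ⟨h, k0, k1, k2, k3⟩ := D.four (a := a) (b := b) (c := c) (d := d) hb.1.symm hc.2.1.symm hd.2.2.1.symm hc.1.symm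
    hd.2.1.symm hd.1.symm
  have hc' : (fx (ρ (h⁻¹ * g * h))).card = (fx (ρ g)).card := by
    apply Finset.card_bij (fun i _ => ρ h i)
    · intro i hi
      rw [mem_fx] at hi ⊢
      have h1 := congrArg (ρ h) hi
      rw [map_mul, map_mul, Equiv.Perm.mul_apply, Equiv.Perm.mul_apply, app_inv] at h1
      exact h1
    · intro i _ j _ hij
      exact (ρ h).injective hij
    · intro i hi
      rw [mem_fx] at hi
      refine ⟨ρ h⁻¹ i, ?_, app_inv _ _⟩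
      rw [mem_fx]
      apply conj_fix
      rw [app_inv, hi]
  -- a further fixed point
  obtain ⟨i, hi, hni⟩ : ∃ i ∈ fx (ρ (h⁻¹ * g * h)), i ∉ ({0, 1, 2, 3, 20, 21, 22} : Finset (Fin 23)) := by
    by_contra hall
    push Not at hall
    have := Finset.card_le_card (show fx (ρ (h⁻¹ * g * h)) ⊆ ({0, 1, 2, 3, 20, 21, 22} : Finset (Fin 23)) from hall)
    have h7 : ({0, 1, 2, 3, 20, 21, 22} : Finset (Fin 23)).card = 7 := by decide
    omega
  have hrange : ∀ i : Fin 23, i ∉ ({0, 1, 2, 3, 20, 21, 22} : Finset (Fin 23)) → 4 ≤ i ∧ i < 20 := by decide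
  obtain ⟨r1, r2⟩ := hrange i hni
  apply hgN
  apply D.mem_conj (h := h)
  refine D.mem4 (D.sq_conj hg) ?_ ?_ ?_ ?_ r1 r2 (mem_fx.mp hi)
  · exact conj_fix (by rw [k0]; exact mem_fx.mp ha)
  · exact conj_fix (by rw [k1]; exact mem_fx.mp hb.2)
  · exact conj_fix (by rw [k2]; exact mem_fx.mp hc.2.2)
  · exact conj_fix (by rw [k3]; exact mem_fx.mp hd.2.2.2)

section quad

variable {A : Subgroup E} (hN : ∀ n ∈ N, ∀ a ∈ A, n * a * n⁻¹ ∈ A) (hc : ∀ a ∈ A, ∀ b ∈ A, a * b = b * a)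
  (hs : ∀ a ∈ A, a * a = 1)
include hN hc hs

theorem quad {g h : E} (hg : g ∈ A) (hh : h ∈ A) (i : Fin 23) : ρ g i = i ∨ ρ h i = i ∨ ρ h i = ρ g i := by
  by_cases hgi : ρ g i = i
  · exact Or.inl hgi
  right
  have e1 : t i * g * (t i)⁻¹ * g⁻¹ ∈ A := A.mul_mem (hN _ (D.tN i) g hg) (A.inv_mem hg)
  have ti : ∀ i, (t i)⁻¹ = t i := fun i => inv_eq_of_mul_eq_one_left (D.tsq i)
  have e2 : t i * g * (t i)⁻¹ * g⁻¹ = t i * t (ρ g i) := by
    rw [ti, ← D.tconj g i]; group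
  rw [e2] at e1
  have e3 := hc _ hh _ e1
  have e4 : t (ρ h i) * t (ρ h (ρ g i)) = t i * t (ρ g i) := by
    rw [← D.tconj h i, ← D.tconj h (ρ g i)]
    have : h * t i * h⁻¹ * (h * t (ρ g i) * h⁻¹) = h * (t i * t (ρ g i)) * h⁻¹ := by group
    rw [this, e3]; group
  rcases D.pairs (Ne.symm hgi) e4.symm with h5 | h5
  · exact Or.inl h5.1
  · exact Or.inr h5.1

theorem two {g h : E} (hg : g ∈ A) (hh : h ∈ A) (hgN : g ∉ N) (hhN : h ∉ N) : g⁻¹ * h ∈ N := by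
  by_contra hgh
  have m1 : g⁻¹ * h ∈ A := A.mul_mem (A.inv_mem hg) hh
  have c1 := D.fix_le (g := g) (by rw [hs g hg]; exact N.one_mem) hgN
  have c2 := D.fix_le (g := h) (by rw [hs h hh]; exact N.one_mem) hhN
  have c3 := D.fix_le (g := g⁻¹ * h) (by rw [hs _ m1]; exact N.one_mem) hgh
  have hcov : (Finset.univ : Finset (Fin 23)) ⊆ fx (ρ g) ∪ (fx (ρ h) ∪ fx (ρ (g⁻¹ * h))) := by
    intro i _
    rw [Finset.mem_union, Finset.mem_union, mem_fx, mem_fx, mem_fx]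
    rcases D.quad hN hc hs hg hh i with h1 | h1 | h1
    · exact Or.inl h1
    · exact Or.inr (Or.inl h1)
    · refine Or.inr (Or.inr ?_)
      rw [map_mul, Equiv.Perm.mul_apply, h1, inv_app]
  have h1 := Finset.card_le_card hcov
  have h2 := Finset.card_union_le (fx (ρ g)) (fx (ρ h) ∪ fx (ρ (g⁻¹ * h)))
  have h3 := Finset.card_union_le (fx (ρ h)) (fx (ρ (g⁻¹ * h)))
  have h4 : (Finset.univ : Finset (Fin 23)).card = 23 := by decide
  omega

end quad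

/-- centralizers in `N` of elements outside `N` -/
theorem cent_le {g : E} (hg : g * g ∈ N) (hgN : g ∉ N) :
    4 * Nat.card (N ⊓ Subgroup.centralizer {g} : Subgroup E) ≤ 2048 := by
  classical
  have _ := D.fin
  have hfx := D.fix_le hg hgN
  obtain ⟨p, hp⟩ : ∃ p, ρ g p ≠ p := by
    by_contra hall
    push Not at hall
    have : fx (ρ g) = Finset.univ := Finset.eq_univ_of_forall (fun i => mem_fx.mpr (hall i))
    rw [this] at hfx
    exact absurd hfx (by decide)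
  obtain ⟨q, hq, hqp, hqg⟩ : ∃ q, ρ g q ≠ q ∧ q ≠ p ∧ q ≠ ρ g p := by
    by_contra hall
    push Not at hall
    have hsub : (Finset.univ : Finset (Fin 23)) ⊆ fx (ρ g) ∪ {p, ρ g p} := by
      intro i _
      rw [Finset.mem_union, mem_fx, Finset.mem_insert, Finset.mem_singleton]
      by_cases h1 : ρ g i = i
      · exact Or.inl h1
      by_cases h2 : i = p
      · exact Or.inr (Or.inl h2)
      exact Or.inr (Or.inr (hall i h1 h2))
    have h1 := Finset.card_le_card hsub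
    have h2 := Finset.card_union_le (fx (ρ g)) {p, ρ g p}
    have h3 : ({p, ρ g p} : Finset (Fin 23)).card ≤ 2 := Finset.card_le_two
    have h4 : (Finset.univ : Finset (Fin 23)).card = 23 := by decide
    omega
  have ti : ∀ i, (t i)⁻¹ = t i := fun i => inv_eq_of_mul_eq_one_left (D.tsq i)
  have key := CosetGe.coset_ge (T := N ⊓ Subgroup.centralizer {g}) (J := N) inf_le_left (fun n => n * g * n⁻¹)
    (by
      intro n _ c hc
      have h1 : c * g = g * c := Subgroup.mem_centralizer_singleton_iff.mp hc.2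
      show n * c * g * (n * c)⁻¹ = n * g * n⁻¹
      calc n * c * g * (n * c)⁻¹ = n * (c * g) * c⁻¹ * n⁻¹ := by group
        _ = n * (g * c) * c⁻¹ * n⁻¹ := by rw [h1]
        _ = n * g * n⁻¹ := by group)
    [1, t p, t q, t p * t q] (by
      intro x hx
      simp only [List.mem_cons, List.not_mem_nil, or_false] at hx
      rcases hx with rfl | rfl | rfl | rfl
      · exact N.one_mem
      · exact D.tN p
      · exact D.tN q
      · exact N.mul_mem (D.tN p) (D.tN q)) ?_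
  · rw [D.card] at key
    exact key
  · have f1 : (1 : E) * g * 1⁻¹ = 1 * g := by group
    have f2 : ∀ i, t i * g * (t i)⁻¹ = t i * t (ρ g i) * g := by
      intro i
      rw [ti, ← D.tconj g i]; group
    have f4 : t p * t q * g * (t p * t q)⁻¹ = t p * t (ρ g p) * (t q * t (ρ g q)) * g := by
      have h1 : t p * t q * g * (t p * t q)⁻¹ = t p * (t q * g * (t q)⁻¹) * (t p)⁻¹ := by group
      rw [h1, f2, ti]
      have h2 : g * t p = t (ρ g p) * g := by rw [← D.tconj g p]; group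
      calc t p * (t q * t (ρ g q) * g) * t p = t p * (t q * t (ρ g q)) * (g * t p) := by group
        _ = t p * ((t q * t (ρ g q)) * t (ρ g p)) * g := by rw [h2]; group
        _ = t p * (t (ρ g p) * (t q * t (ρ g q))) * g := by
            rw [D.comm (t q * t (ρ g q)) (N.mul_mem (D.tN _) (D.tN _)) (t (ρ g p)) (D.tN _)]
        _ = _ := by group
    have n1 : ∀ i, ρ g i ≠ i → t i * t (ρ g i) ≠ 1 := by
      intro i hi h
      rw [← D.tsq i] at h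
      exact hi (D.tinj (mul_left_cancel h))
    have n2 : t p * t (ρ g p) ≠ t q * t (ρ g q) := by
      intro h
      rcases D.pairs (Ne.symm hp) h with h1 | h1
      · exact hqp h1.1
      · exact hqg h1.1
    show List.Nodup [(1 : E) * g * 1⁻¹, t p * g * (t p)⁻¹, t q * g * (t q)⁻¹, t p * t q * g * (t p * t q)⁻¹]
    rw [f1, f2, f2, f4]
    simp only [List.nodup_cons, List.mem_cons, List.not_mem_nil, or_false, not_or, not_false_eq_true, List.nodup_nil,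
      and_true, mul_left_inj]
    refine ⟨⟨(n1 p hp).symm, (n1 q hq).symm, ?_⟩, ⟨n2, ?_⟩, ?_⟩
    · intro h
      apply n2
      have h1 : ∀ i, (t i * t (ρ g i)) * (t i * t (ρ g i)) = 1 := by
        intro i
        rw [D.tc i (ρ g i)]
        calc t (ρ g i) * t i * (t (ρ g i) * t i) = t (ρ g i) * (t i * t (ρ g i)) * t i := by group
          _ = t (ρ g i) * (t (ρ g i) * t i) * t i := by rw [D.tc i]
          _ = (t (ρ g i) * t (ρ g i)) * (t i * t i) := by group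
          _ = 1 := by rw [D.tsq, D.tsq, one_mul]
      have h2 := h1 q
      rw [h] at h2
      exact (mul_right_cancel h2).symm
    · intro h
      have : t q * t (ρ g q) = 1 := by
        have h2 : t p * t (ρ g p) * 1 = t p * t (ρ g p) * (t q * t (ρ g q)) := by rw [mul_one]; exact h
        exact (mul_left_cancel h2).symm
      exact n1 q hq this
    · intro h
      have : t p * t (ρ g p) = 1 := by
        have h2 : 1 * (t q * t (ρ g q)) = t p * t (ρ g p) * (t q * t (ρ g q)) := by rw [one_mul]; exact h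
        exact (mul_right_cancel h2).symm
      exact n1 p hp this

/-- elementary abelian subgroups normalized by `N` -/
theorem main1 {A : Subgroup E} (hN : ∀ n ∈ N, ∀ a ∈ A, n * a * n⁻¹ ∈ A) (hc : ∀ a ∈ A, ∀ b ∈ A, a * b = b * a)
    (hs : ∀ a ∈ A, a * a = 1) : A ≤ N ∨ Nat.card A ≤ 1024 := by
  by_cases hAN : A ≤ N
  · exact Or.inl hAN
  right
  have _ := D.fin
  obtain ⟨g, hg, hgN⟩ := SetLike.not_le_iff_exists.mp hAN
  have h1 : (A ⊓ N).relIndex A = 2 := by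
    rw [Subgroup.relIndex_eq_two_iff]
    refine ⟨g, hg, fun b hb => ?_⟩
    by_cases hbN : b ∈ N
    · right
      refine ⟨⟨hb, hbN⟩, fun h => hgN ?_⟩
      have := N.mul_mem (N.inv_mem hbN) h.2
      rwa [inv_mul_cancel_left] at this
    · left
      refine ⟨⟨A.mul_mem hb hg, ?_⟩, fun h => hbN h.2⟩
      have h2 := D.two hN hc hs hg hb hgN hbN
      have h3 : g⁻¹ = g := inv_eq_of_mul_eq_one_left (hs g hg)
      rw [h3, hc g hg b hb] at h2
      exact h2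
  have h2 := CosetGe.card_rel (T := A ⊓ N) (J := A) inf_le_left
  rw [h1] at h2
  have h3 : Nat.card (A ⊓ N : Subgroup E) ≤ Nat.card (N ⊓ Subgroup.centralizer {g} : Subgroup E) := by
    apply Nat.card_le_card_of_injective (Subgroup.inclusion (show A ⊓ N ≤ N ⊓ Subgroup.centralizer {g} from ?_))
      (Subgroup.inclusion_injective _)
    intro x hx
    exact ⟨hx.2, Subgroup.mem_centralizer_singleton_iff.mpr (hc x hx.1 g hg)⟩
  have h4 := D.cent_le (g := g) (by rw [hs g hg]; exact N.one_mem) hgN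
  omega

end Dat

/-! ### the order -/

section order

variable {α : Type*} (ρ' : E →* Equiv.Perm α)

def st (J : Subgroup E) (q : α) : Subgroup E where
  carrier := {g | g ∈ J ∧ ρ' g q = q}
  one_mem' := ⟨J.one_mem, by rw [map_one]; rfl⟩
  mul_mem' := by
    rintro a b ⟨ha, ha'⟩ ⟨hb, hb'⟩
    exact ⟨J.mul_mem ha hb, by rw [map_mul, Equiv.Perm.mul_apply, hb', ha']⟩
  inv_mem' := by
    rintro a ⟨ha, ha'⟩
    refine ⟨J.inv_mem ha, ?_⟩
    rw [map_inv, Equiv.Perm.inv_eq_iff_eq]; exact ha'.symm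

def ob (J : Subgroup E) (q : α) : Set α := {j | ∃ g ∈ J, ρ' g q = j}

theorem relIndex_st (J : Subgroup E) (q : α) : (st ρ' J q).relIndex J = (ob ρ' J q).ncard := by
  let _ : MulAction E α := MulAction.compHom α ρ'
  have h := MulAction.index_stabilizer J q
  have h1 : (st ρ' J q).subgroupOf J = MulAction.stabilizer J q := by
    ext ⟨g, hg⟩
    rw [Subgroup.mem_subgroupOf, MulAction.mem_stabilizer_iff]
    exact ⟨fun h => h.2, fun h => ⟨hg, h⟩⟩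
  have h2 : MulAction.orbit J q = ob ρ' J q := by
    ext j
    constructor
    · rintro ⟨⟨g, hg⟩, h⟩; exact ⟨g, hg, h⟩
    · rintro ⟨g, hg, h⟩; exact ⟨⟨g, hg⟩, h⟩
  rw [Subgroup.relIndex, h1, h, h2]

theorem card_st (J : Subgroup E) (q : α) : Nat.card (st ρ' J q) * (ob ρ' J q).ncard = Nat.card J := by
  rw [← relIndex_st]
  exact CosetGe.card_rel (fun _ h => h.1)

end order

theorem Dat.card_E (D : Dat ρ t N) : Nat.card E = 23 * 22 * 21 * 20 * 16 * 3 * 2048 := by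
  obtain ⟨J1, hJ1⟩ : ∃ J, J = st ρ ⊤ 0 := ⟨_, rfl⟩
  obtain ⟨J2, hJ2⟩ : ∃ J, J = st ρ J1 1 := ⟨_, rfl⟩
  obtain ⟨J3, hJ3⟩ : ∃ J, J = st ρ J2 2 := ⟨_, rfl⟩
  obtain ⟨J4, hJ4⟩ : ∃ J, J = st ρ J3 3 := ⟨_, rfl⟩
  obtain ⟨J5, hJ5⟩ : ∃ J, J = st ρ J4 4 := ⟨_, rfl⟩
  obtain ⟨J6, hJ6⟩ : ∃ J, J = st ρ J5 20 := ⟨_, rfl⟩
  have m1 : ∀ g, g ∈ J1 ↔ ρ g 0 = 0 := fun g => by
    rw [hJ1]; exact ⟨fun h => h.2, fun h => ⟨trivial, h⟩⟩
  have m2 : ∀ g, g ∈ J2 ↔ ρ g 0 = 0 ∧ ρ g 1 = 1 := fun g => by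
    rw [hJ2]
    exact ⟨fun h => ⟨(m1 g).mp h.1, h.2⟩, fun h => ⟨(m1 g).mpr h.1, h.2⟩⟩
  have m3 : ∀ g, g ∈ J3 ↔ ρ g 0 = 0 ∧ ρ g 1 = 1 ∧ ρ g 2 = 2 := fun g => by
    rw [hJ3]
    exact ⟨fun h => ⟨((m2 g).mp h.1).1, ((m2 g).mp h.1).2, h.2⟩, fun h => ⟨(m2 g).mpr ⟨h.1, h.2.1⟩, h.2.2⟩⟩
  have m4 : ∀ g, g ∈ J4 ↔ ρ g 0 = 0 ∧ ρ g 1 = 1 ∧ ρ g 2 = 2 ∧ ρ g 3 = 3 := fun g => by
    rw [hJ4]
    exact ⟨fun h => ⟨((m3 g).mp h.1).1, ((m3 g).mp h.1).2.1, ((m3 g).mp h.1).2.2, h.2⟩,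
      fun h => ⟨(m3 g).mpr ⟨h.1, h.2.1, h.2.2.1⟩, h.2.2.2⟩⟩
  have m5 : ∀ g, g ∈ J5 ↔ ρ g 0 = 0 ∧ ρ g 1 = 1 ∧ ρ g 2 = 2 ∧ ρ g 3 = 3 ∧ ρ g 4 = 4 := fun g => by
    rw [hJ5]
    exact ⟨fun h => ⟨((m4 g).mp h.1).1, ((m4 g).mp h.1).2.1, ((m4 g).mp h.1).2.2.1, ((m4 g).mp h.1).2.2.2, h.2⟩,
      fun h => ⟨(m4 g).mpr ⟨h.1, h.2.1, h.2.2.1, h.2.2.2.1⟩, h.2.2.2.2⟩⟩
  have m6 : J6 = N := by
    ext g
    constructor
    · intro h
      rw [hJ6] at h
      obtain ⟨a0, a1, a2, a3, a4⟩ := (m5 g).mp h.1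
      exact D.ker g a0 a1 a2 a3 a4 h.2
    · intro h
      have hf := D.fixN g h
      rw [hJ6]
      exact ⟨(m5 g).mpr ⟨hf _, hf _, hf _, hf _, hf _⟩, hf _⟩
  have o0 : (ob ρ ⊤ 0).ncard = 23 := by
    have : ob ρ ⊤ 0 = Set.univ := by
      ext i
      refine ⟨fun _ => trivial, fun _ => ?_⟩
      obtain ⟨g, hg⟩ := D.tr0 i
      exact ⟨g, trivial, hg⟩
    rw [this, Set.ncard_univ, Nat.card_eq_fintype_card, Fintype.card_fin]
  have nc : ∀ (p : Fin 23 → Prop) [DecidablePred p], {i : Fin 23 | p i}.ncard = (Finset.univ.filter p).card := by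
    intro p _
    rw [← Set.ncard_coe_finset]
    congr 1
    ext i
    simp
  have inj : ∀ (g : E) (a b : Fin 23), ρ g a = a → b ≠ a → ρ g b ≠ a := by
    intro g a b h1 h2 h3
    exact h2 ((ρ g).injective (h3.trans h1.symm))
  have o1 : (ob ρ J1 1).ncard = 22 := by
    have : ob ρ J1 1 = {i | i ≠ 0} := by
      ext i
      constructor
      · rintro ⟨g, hg, rfl⟩
        exact inj g 0 1 ((m1 g).mp hg) (by decide)
      · intro hi
        obtain ⟨g, a0, a1⟩ := D.tr1 i hi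
        exact ⟨g, (m1 g).mpr a0, a1⟩
    rw [this, nc]; decide
  have o2 : (ob ρ J2 2).ncard = 21 := by
    have : ob ρ J2 2 = {i | i ≠ 0 ∧ i ≠ 1} := by
      ext i
      constructor
      · rintro ⟨g, hg, rfl⟩
        obtain ⟨a0, a1⟩ := (m2 g).mp hg
        exact ⟨inj g 0 2 a0 (by decide), inj g 1 2 a1 (by decide)⟩
      · rintro ⟨hi, hi'⟩
        obtain ⟨g, a0, a1, a2⟩ := D.tr2 i hi hi'
        exact ⟨g, (m2 g).mpr ⟨a0, a1⟩, a2⟩
    rw [this, nc]; decide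
  have o3 : (ob ρ J3 3).ncard = 20 := by
    have : ob ρ J3 3 = {i | i ≠ 0 ∧ i ≠ 1 ∧ i ≠ 2} := by
      ext i
      constructor
      · rintro ⟨g, hg, rfl⟩
        obtain ⟨a0, a1, a2⟩ := (m3 g).mp hg
        exact ⟨inj g 0 3 a0 (by decide), inj g 1 3 a1 (by decide), inj g 2 3 a2 (by decide)⟩
      · rintro ⟨hi, hi', hi''⟩
        obtain ⟨g, a0, a1, a2, a3⟩ := D.tr3 i hi hi' hi''
        exact ⟨g, (m3 g).mpr ⟨a0, a1, a2⟩, a3⟩
    rw [this, nc]; decide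
  have o4 : (ob ρ J4 4).ncard = 16 := by
    have : ob ρ J4 4 = {i | 4 ≤ i ∧ i < 20} := by
      ext i
      constructor
      · rintro ⟨g, hg, rfl⟩
        obtain ⟨a0, a1, a2, a3⟩ := (m4 g).mp hg
        refine ⟨?_, D.st4 g a0 a1 a2 a3⟩
        have hdec : ∀ j : Fin 23, j ≠ 0 → j ≠ 1 → j ≠ 2 → j ≠ 3 → 4 ≤ j := by decide
        exact hdec _ (inj g 0 4 a0 (by decide)) (inj g 1 4 a1 (by decide)) (inj g 2 4 a2 (by decide))
          (inj g 3 4 a3 (by decide))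
      · rintro ⟨hi, hi'⟩
        obtain ⟨g, a0, a1, a2, a3, a4⟩ := D.tr4 i hi hi'
        exact ⟨g, (m4 g).mpr ⟨a0, a1, a2, a3⟩, a4⟩
    rw [this, nc]; decide
  have o5 : (ob ρ J5 20).ncard = 3 := by
    have : ob ρ J5 20 = {i | 20 ≤ i} := by
      ext i
      constructor
      · rintro ⟨g, hg, rfl⟩
        obtain ⟨a0, a1, a2, a3, a4⟩ := (m5 g).mp hg
        exact D.st5 g a0 a1 a2 a3 a4
      · intro hi
        obtain ⟨g, a0, a1, a2, a3, a4, a5⟩ := D.tr5 i hi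
        exact ⟨g, (m5 g).mpr ⟨a0, a1, a2, a3, a4⟩, a5⟩
    rw [this, nc]; decide
  have c0 := card_st ρ ⊤ 0
  have c1 := card_st ρ J1 1
  have c2 := card_st ρ J2 2
  have c3 := card_st ρ J3 3
  have c4 := card_st ρ J4 4
  have c5 := card_st ρ J5 20
  rw [← hJ1, o0] at c0
  rw [← hJ2, o1] at c1
  rw [← hJ3, o2] at c2
  rw [← hJ4, o3] at c3
  rw [← hJ5, o4] at c4
  rw [← hJ6, o5, m6, D.card] at c5
  rw [← Subgroup.card_top (G := E), ← c0, ← c1, ← c2, ← c3, ← c4, ← c5]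

end Cfsg.Agent.Lib.GolayNrm
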