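import Cfsg.Agent.Lib.GolayOrbOct
import Cfsg.Agent.Lib.Steiner

/-!
The stabiliser of an octad induces the alternating group on it; complements; `S1553`, `S1554`, `S1555`.
-/

set_option autoImplicit false
set_option linter.constructorNameAsVariable false
set_option linter.unusedVariables false

namespace Cfsg.Agent.Lib.Golay

open Cfsg
open scoped Pointwise

/-- stabiliser of `o` in `M24`, as a subgroup of the symmetric group -/
abbrev OctSt (o : Finset GolayPt) : Subgroup (Equiv.Perm GolayPt) :=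
  M24 ⊓ MulAction.stabilizer (Equiv.Perm GolayPt) o

theorem mem_iff_of_smul_eq {o : Finset GolayPt} {g : Equiv.Perm GolayPt} (h : g • o = o) (x : GolayPt) :
    g x ∈ o ↔ x ∈ o := by
  conv_lhs => rw [← h]
  exact smul_mem_smul g o x

theorem smul_eq_of_mem_iff {o : Finset GolayPt} {g : Equiv.Perm GolayPt} (h : ∀ x, g x ∈ o ↔ x ∈ o) : g • o = o := by
  ext q
  rw [mem_smul_iff]
  constructor
  · rintro ⟨p, hp, rfl⟩; exact (h p).mpr hp
  · intro hq
    refine ⟨g⁻¹ q, ?_, perm_apply_inv _ _⟩
    rw [← h, perm_apply_inv]; exact hq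

/-- restriction to the octad -/
def octRes (o : Finset GolayPt) : OctSt o →* Equiv.Perm ↥o where
  toFun g := g.1.subtypePerm (fun x => mem_iff_of_smul_eq g.2.2 x)
  map_one' := by ext x; rfl
  map_mul' := fun g h => by ext x; rfl

theorem octRes_apply {o : Finset GolayPt} (g : OctSt o) (x : ↥o) : ((octRes o g x : ↥o) : GolayPt) = g.1 x := rfl

theorem card_OctSt {o : Finset GolayPt} (ho : o ∈ octads) : Nat.card (OctSt o) = 322560 := by
  have h := card_eq_mul_inf_stabilizer M24 o octads
    (fun g hg => (smul_mem_octads hg).mpr ho)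
    (fun x hx => octad_transitive ho hx)
  rw [natCard_M24, ncard_octads] at h
  show Nat.card ↥(M24 ⊓ MulAction.stabilizer (Equiv.Perm GolayPt) o) = 322560
  omega

theorem mem_ker_octRes {o : Finset GolayPt} {g : OctSt o} : g ∈ (octRes o).ker ↔ g.1 ∈ OctPt o := by
  rw [MonoidHom.mem_ker, mem_OctPt]
  constructor
  · intro h
    refine ⟨g.2.1, fun p hp => ?_⟩
    have := congrArg (fun e : Equiv.Perm ↥o => ((e ⟨p, hp⟩ : ↥o) : GolayPt)) h
    exact this
  · rintro ⟨_, h⟩
    apply Equiv.ext
    rintro ⟨p, hp⟩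
    exact Subtype.ext (h p hp)

theorem card_ker_octRes {o : Finset GolayPt} (ho : o ∈ octads) : Nat.card (octRes o).ker = 16 := by
  rw [← card_OctPt ho]
  apply Nat.card_congr
  exact
    { toFun := fun g => ⟨g.1.1, mem_ker_octRes.mp g.2⟩
      invFun := fun g => ⟨⟨g.1, (mem_OctPt.mp g.2).1, smul_eq_of_mem_iff fun x => by
        constructor
        · intro hx
          by_contra hxo
          have h1 := (mem_OctPt.mp g.2).2 _ hx
          exact hxo (by rwa [← g.1.injective h1])
        · intro hx; rw [(mem_OctPt.mp g.2).2 x hx]; exact hx⟩, mem_ker_octRes.mpr g.2⟩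
      left_inv := fun g => rfl
      right_inv := fun g => rfl }

theorem range_octRes {o : Finset GolayPt} (ho : o ∈ octads) : (octRes o).range = alternatingGroup ↥o := by
  apply Equiv.Perm.eq_alternatingGroup_of_index_eq_two
  have h1 : Nat.card (OctSt o) = Nat.card (octRes o).ker * Nat.card (octRes o).range := by
    rw [← Subgroup.index_ker, Subgroup.card_mul_index]
  rw [card_OctSt ho, card_ker_octRes ho] at h1
  have h2 := Subgroup.card_mul_index (octRes o).range
  rw [Nat.card_eq_fintype_card (α := Equiv.Perm ↥o), Fintype.card_perm, Fintype.card_coe, ho.2] at h2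
  have h3 : Nat.card (octRes o).range = 20160 := by omega
  rw [h3] at h2
  have h4 : Nat.factorial 8 = 40320 := by norm_num [Nat.factorial]
  rw [h4] at h2
  omega

/-- `S1553` -/
theorem octad_induced (o : Finset GolayPt) (ho : o ∈ octads) :
    {e : Equiv.Perm ↥o | ∃ g : Equiv.Perm GolayPt, g ∈ M24 ∧ ∃ h : (∀ x, g x ∈ o ↔ x ∈ o), g.subtypePerm h = e} =
      (alternatingGroup ↥o : Set (Equiv.Perm ↥o)) := by
  rw [← range_octRes ho]
  ext e
  rw [Set.mem_ofPred_eq, SetLike.mem_coe, MonoidHom.mem_range]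
  constructor
  · rintro ⟨g, hg, h, rfl⟩
    exact ⟨⟨g, hg, smul_eq_of_mem_iff h⟩, rfl⟩
  · rintro ⟨g, rfl⟩
    exact ⟨g.1, g.2.1, fun x => mem_iff_of_smul_eq g.2.2 x, rfl⟩

theorem OctPt_fix_eq_one {o : Finset GolayPt} (ho : o ∈ octads) {p : GolayPt} (hp : p ∉ o) {g : Equiv.Perm GolayPt}
    (hg : g ∈ OctPt o) (hgp : g p = p) : g = 1 := by
  -- an abelian transitive group is semiregular
  apply Equiv.ext
  intro q
  by_cases hq : q ∈ o
  · exact (mem_OctPt.mp hg).2 q hq
  · obtain ⟨h, hh, hpq⟩ := OctPt_transitive ho hp hq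
    rw [Equiv.Perm.one_apply, ← hpq]
    have := OctPt_comm ho hg hh
    rw [← Equiv.Perm.mul_apply, this, Equiv.Perm.mul_apply, hgp]

/-- `S1554` -/
theorem octad_complement (o : Finset GolayPt) (ho : o ∈ octads) (p : GolayPt) (hp : p ∉ o) :
    (M24 ⊓ fixingSubgroup (Equiv.Perm GolayPt) (o : Set GolayPt)) ⊓
      (M24 ⊓ MulAction.stabilizer (Equiv.Perm GolayPt) o ⊓ MulAction.stabilizer (Equiv.Perm GolayPt) p) = ⊥ ∧
    (M24 ⊓ fixingSubgroup (Equiv.Perm GolayPt) (o : Set GolayPt)) ⊔
      (M24 ⊓ MulAction.stabilizer (Equiv.Perm GolayPt) o ⊓ MulAction.stabilizer (Equiv.Perm GolayPt) p) =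
      (M24 ⊓ MulAction.stabilizer (Equiv.Perm GolayPt) o) ∧
    Nonempty (↥(M24 ⊓ MulAction.stabilizer (Equiv.Perm GolayPt) o ⊓ MulAction.stabilizer (Equiv.Perm GolayPt) p) ≃*
      alternatingGroup (Fin 8)) := by
  have hsub : ∀ g ∈ OctPt o, g ∈ OctSt o := by
    intro g hg
    have hg' := mem_OctPt.mp hg
    refine ⟨hg'.1, smul_eq_of_mem_iff fun x => ?_⟩
    constructor
    · intro hx
      by_contra hxo
      have h1 := hg'.2 _ hx
      exact hxo (by rwa [← g.injective h1])
    · intro hx; rw [hg'.2 x hx]; exact hx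
  have hbot : (OctPt o) ⊓ (OctSt o ⊓ MulAction.stabilizer (Equiv.Perm GolayPt) p) = ⊥ := by
    rw [eq_bot_iff]
    rintro g ⟨h1, _, h2⟩
    rw [Subgroup.mem_bot]
    exact OctPt_fix_eq_one ho hp h1 h2
  refine ⟨hbot, ?_, ?_⟩
  · apply le_antisymm
    · exact sup_le (fun g hg => hsub g hg) inf_le_left
    · intro g hg
      have hgp : g p ∉ o := by rw [mem_iff_of_smul_eq hg.2]; exact hp
      obtain ⟨h, hh, hq⟩ := OctPt_transitive ho hp hgp
      have h1 : h⁻¹ * g ∈ OctSt o ⊓ MulAction.stabilizer (Equiv.Perm GolayPt) p := by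
        refine ⟨(OctSt o).mul_mem ((OctSt o).inv_mem (hsub h hh)) hg, ?_⟩
        show (h⁻¹ * g) p = p
        rw [Equiv.Perm.mul_apply, ← hq, perm_inv_apply]
      have h2 : g = h * (h⁻¹ * g) := by group
      rw [h2]
      exact Subgroup.mul_mem_sup hh h1
  · let H := OctSt o ⊓ MulAction.stabilizer (Equiv.Perm GolayPt) p
    let φ : H →* Equiv.Perm ↥o := (octRes o).comp (Subgroup.inclusion inf_le_left)
    have hinj : Function.Injective φ := by
      rw [injective_iff_map_eq_one]
      intro g hg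
      have h1 : (Subgroup.inclusion (inf_le_left : H ≤ OctSt o) g) ∈ (octRes o).ker := hg
      rw [mem_ker_octRes] at h1
      have h2 : (g : Equiv.Perm GolayPt) = 1 := OctPt_fix_eq_one ho hp h1 g.2.2
      exact Subtype.ext h2
    have hrange : φ.range = alternatingGroup ↥o := by
      rw [← range_octRes ho]
      apply le_antisymm
      · rintro _ ⟨g, rfl⟩; exact ⟨_, rfl⟩
      · rintro _ ⟨g, rfl⟩
        have hgp : g.1 p ∉ o := by rw [mem_iff_of_smul_eq g.2.2]; exact hp
        obtain ⟨h, hh, hq⟩ := OctPt_transitive ho hp hgp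
        have h1 : h⁻¹ * g.1 ∈ OctSt o ⊓ MulAction.stabilizer (Equiv.Perm GolayPt) p := by
          refine ⟨(OctSt o).mul_mem ((OctSt o).inv_mem (hsub h hh)) g.2, ?_⟩
          show (h⁻¹ * g.1) p = p
          rw [Equiv.Perm.mul_apply, ← hq, perm_inv_apply]
        refine ⟨⟨_, h1⟩, ?_⟩
        apply Equiv.ext
        rintro ⟨x, hx⟩
        apply Subtype.ext
        show (h⁻¹ * g.1) x = g.1 x
        rw [Equiv.Perm.mul_apply]
        have h3 : g.1 x ∈ o := (mem_iff_of_smul_eq g.2.2 x).mpr hx
        have h4 := (mem_OctPt.mp ((OctPt o).inv_mem hh)).2 _ h3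
        exact h4
    have e1 : H ≃* φ.range := MonoidHom.ofInjective hinj
    have e2 : φ.range ≃* alternatingGroup ↥o := MulEquiv.subgroupCongr hrange
    have e3 : alternatingGroup ↥o ≃* alternatingGroup (Fin 8) :=
      Equiv.altCongrHom (o.equivFinOfCardEq ho.2)
    exact ⟨e1.trans (e2.trans e3)⟩

/-- `S1555` -/
theorem octads_meeting (o : Finset GolayPt) (ho : o ∈ octads) (s : Finset GolayPt) (hs : s ⊆ o) :
    (s.card = 2 → {o' : Finset GolayPt | o' ∈ octads ∧ o ∩ o' = s}.ncard = 16) ∧
    (s.card = 4 → {o' : Finset GolayPt | o' ∈ octads ∧ o ∩ o' = s}.ncard = 4) := by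
  constructor
  · intro h2
    obtain ⟨p, q, hpq, rfl⟩ := Finset.card_eq_two.mp h2
    have hp : p ∈ o := hs (by simp)
    have hq : q ∈ o := hs (by simp)
    rw [← (oct_orb_C4 ho hp hq hpq wtC4_2).1]
    congr 1
    ext x
    rw [Set.mem_ofPred_eq, Set.mem_ofPred_eq]
    constructor
    · rintro ⟨h1, h3⟩
      refine ⟨h1, ?_, ?_, by rw [h3, h2]⟩
      · have : p ∈ o ∩ x := by rw [h3]; simp
        exact (Finset.mem_inter.mp this).2
      · have : q ∈ o ∩ x := by rw [h3]; simp
        exact (Finset.mem_inter.mp this).2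
    · rintro ⟨h1, h3, h4, h5⟩
      refine ⟨h1, ?_⟩
      symm
      apply Finset.eq_of_subset_of_card_le
      · intro y hy
        simp only [Finset.mem_insert, Finset.mem_singleton] at hy
        rw [Finset.mem_inter]
        rcases hy with rfl | rfl
        · exact ⟨hp, h3⟩
        · exact ⟨hq, h4⟩
      · rw [h5, h2]
  · intro h4
    have h := Steiner.octads_containing (α := GolayPt) (B := octads) (by rw [card_pt]) octads_steiner s 4 5 h4
      (by norm_num) (by norm_num [Nat.choose])
    have hset : {o' : Finset GolayPt | o' ∈ octads ∧ o ∩ o' = s} =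
        (((Steiner.bl octads).filter fun b => s ⊆ b).erase o : Finset (Finset GolayPt)) := by
      ext x
      rw [Finset.mem_coe, Finset.mem_erase, Finset.mem_filter, Steiner.mem_bl, Set.mem_ofPred_eq]
      constructor
      · rintro ⟨h1, h2⟩
        refine ⟨?_, h1, by rw [← h2]; exact Finset.inter_subset_right⟩
        rintro rfl
        rw [Finset.inter_self] at h2
        rw [← h2, ho.2] at h4
        omega
      · rintro ⟨h1, h2, h3⟩
        refine ⟨h2, ?_⟩
        symm
        apply Finset.eq_of_subset_of_card_le (Finset.subset_inter hs h3)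
        rcases octad_inter_vals ho h2 with h5 | h5 | h5 | ⟨_, h5⟩
        · omega
        · omega
        · omega
        · exact absurd h5.symm h1
    rw [hset, Set.ncard_coe_finset, Finset.card_erase_of_mem, h]
    rw [Finset.mem_filter, Steiner.mem_bl]
    exact ⟨ho, hs⟩

end Cfsg.Agent.Lib.Golay
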