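import Cfsg.Agent.Lib.GolayCertOct

/-!
Orbits on octads of the stabiliser of an octad (and of an octad with one or two points).
-/

set_option autoImplicit false
set_option linter.constructorNameAsVariable false
set_option linter.unusedVariables false

namespace Cfsg.Agent.Lib.Golay

open Cfsg
open scoped Pointwise

theorem mset_bit_subset {i : ℕ} (hi : i < 24) {m : ℕ} (hm : ∀ p ∈ mset m, p = pt i) (hmi : pt i ∈ mset m)
    (x : Finset GolayPt) : mset m ⊆ x ↔ pt i ∈ x := by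
  constructor
  · intro h; exact h hmi
  · intro h p hp; rw [hm p hp]; exact h

theorem mset_23 : (∀ p ∈ mset (2 ^ 23), p = pt 23) ∧ pt 23 ∈ mset (2 ^ 23) := by decide +kernel
theorem mset_4 : (∀ p ∈ mset (2 ^ 4), p = pt 4) ∧ pt 4 ∈ mset (2 ^ 4) := by decide +kernel
theorem mset_230 : (∀ p ∈ mset 8388609, p = pt 23 ∨ p = pt 0) ∧ pt 23 ∈ mset 8388609 ∧ pt 0 ∈ mset 8388609 := by
  decide +kernel
theorem mset_234 : (∀ p ∈ mset 8388624, p = pt 23 ∨ p = pt 4) ∧ pt 23 ∈ mset 8388624 ∧ pt 4 ∈ mset 8388624 := by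
  decide +kernel

theorem mem_Sw_C2 {k : ℕ} {x : Finset GolayPt} :
    x ∈ Sw 8 8388608 0 8536111 k ↔ x ∈ octads ∧ pt 23 ∈ x ∧ (mset 8536111 ∩ x).card = k := by
  unfold Sw
  rw [Set.mem_ofPred_eq, mset_zero]
  have h := mset_bit_subset (by norm_num) mset_23.1 mset_23.2 x
  rw [show (2 : ℕ) ^ 23 = 8388608 from by norm_num] at h
  rw [h]
  exact ⟨fun ⟨h1, h2, _, h3⟩ => ⟨h1, h2, h3⟩, fun ⟨h1, h2, h3⟩ => ⟨h1, h2, Finset.disjoint_empty_left _, h3⟩⟩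

theorem mset_disj_single {i m : ℕ} (hm : (∀ p ∈ mset m, p = pt i) ∧ pt i ∈ mset m) (x : Finset GolayPt) :
    Disjoint (mset m) x ↔ pt i ∉ x := by
  rw [Finset.disjoint_left]
  constructor
  · intro h; exact h hm.2
  · intro h p hp; rw [hm.1 p hp]; exact h

theorem mem_Sw_C3 {k : ℕ} {x : Finset GolayPt} :
    x ∈ Sw 8 0 16 8536111 k ↔ x ∈ octads ∧ pt 4 ∉ x ∧ (mset 8536111 ∩ x).card = k := by
  unfold Sw
  rw [Set.mem_ofPred_eq, mset_zero]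
  have h := mset_disj_single mset_4 x
  rw [show (2 : ℕ) ^ 4 = 16 from by norm_num] at h
  rw [h]
  exact ⟨fun ⟨h1, _, h2, h3⟩ => ⟨h1, h2, h3⟩, fun ⟨h1, h2, h3⟩ => ⟨h1, Finset.empty_subset _, h2, h3⟩⟩

theorem mem_Sw_C1 {k : ℕ} {x : Finset GolayPt} :
    x ∈ Sw 8 0 0 8536111 k ↔ x ∈ octads ∧ (mset 8536111 ∩ x).card = k := by
  unfold Sw
  rw [Set.mem_ofPred_eq, mset_zero]
  exact ⟨fun ⟨h1, _, h2, h3⟩ => ⟨h1, h3⟩, fun ⟨h1, h3⟩ => ⟨h1, Finset.empty_subset _, Finset.disjoint_empty_left _, h3⟩⟩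

theorem mem_Sw_C4 {k : ℕ} {x : Finset GolayPt} :
    x ∈ Sw 8 8388609 0 8536111 k ↔ x ∈ octads ∧ pt 23 ∈ x ∧ pt 0 ∈ x ∧ (mset 8536111 ∩ x).card = k := by
  unfold Sw
  rw [Set.mem_ofPred_eq, mset_zero]
  constructor
  · rintro ⟨h1, h2, _, h3⟩; exact ⟨h1, h2 mset_230.2.1, h2 mset_230.2.2, h3⟩
  · rintro ⟨h1, h2, h4, h3⟩
    refine ⟨h1, ?_, Finset.disjoint_empty_left _, h3⟩
    intro p hp
    rcases mset_230.1 p hp with h | h <;> rw [h] <;> assumption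

theorem mem_Sw_C5 {k : ℕ} {x : Finset GolayPt} :
    x ∈ Sw 8 8388608 16 8536111 k ↔ x ∈ octads ∧ pt 23 ∈ x ∧ pt 4 ∉ x ∧ (mset 8536111 ∩ x).card = k := by
  unfold Sw
  rw [Set.mem_ofPred_eq]
  have h := mset_bit_subset (by norm_num) mset_23.1 mset_23.2 x
  rw [show (2 : ℕ) ^ 23 = 8388608 from by norm_num] at h
  have h' := mset_disj_single mset_4 x
  rw [show (2 : ℕ) ^ 4 = 16 from by norm_num] at h'
  rw [h, h']
  exact Iff.rfl

/-- flags: a point in an octad -/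
theorem exists_flag_in {o : Finset GolayPt} (ho : o ∈ octads) {a : GolayPt} (ha : a ∈ o) :
    ∃ g ∈ M24, g (pt 23) = a ∧ g • mset 8536111 = o := by
  have h8 := ho.2
  obtain ⟨b, hb, hb1⟩ := exists_mem_of_card_lt (s := o) (t := {a}) (by rw [h8]; simp)
  obtain ⟨x, hx⟩ := exists_notMem_octad ho
  obtain ⟨c, hc, hc1⟩ := exists_mem_of_card_lt (s := o) (t := {a, b}) (by
    rw [h8]; exact lt_of_le_of_lt Finset.card_le_two (by norm_num))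
  obtain ⟨d, hd, hd1⟩ := exists_mem_of_card_lt (s := o) (t := {a, b, c}) (by
    rw [h8]; exact lt_of_le_of_lt Finset.card_le_three (by norm_num))
  obtain ⟨e, he, he1⟩ := exists_mem_of_card_lt (s := o) (t := {a, b, c, d}) (by
    rw [h8]; exact lt_of_le_of_lt Finset.card_le_four (by norm_num))
  obtain ⟨f, hf, hf1⟩ := exists_mem_of_card_lt (s := o) (t := {a, b, c, d, e}) (by
    rw [h8]; exact lt_of_le_of_lt Finset.card_le_five (by norm_num))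
  simp only [Finset.mem_insert, Finset.mem_singleton, not_or] at hb1 hc1 hd1 he1 hf1
  obtain ⟨g, hg, h1, h2, h3, h4, h5, h6, h7, h8⟩ := exists_from_seven ho (Ne.symm hb1) (Ne.symm hc1.1)
    (Ne.symm hd1.1) (Ne.symm he1.1) (Ne.symm hc1.2) (Ne.symm hd1.2.1) (Ne.symm he1.2.1) (Ne.symm hd1.2.2)
    (Ne.symm he1.2.2.1) (Ne.symm he1.2.2.2) ha hb hc hd he hf (Ne.symm hf1.1) (Ne.symm hf1.2.1) (Ne.symm hf1.2.2.1)
    (Ne.symm hf1.2.2.2.1) (Ne.symm hf1.2.2.2.2) hx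
  exact ⟨g, hg, h1, h8⟩

/-- two points in an octad and a point outside -/
theorem exists_flag_three {o : Finset GolayPt} (ho : o ∈ octads) {a b x : GolayPt} (ha : a ∈ o) (hb : b ∈ o)
    (hab : a ≠ b) (hx : x ∉ o) :
    ∃ g ∈ M24, g (pt 23) = a ∧ g (pt 0) = b ∧ g (pt 4) = x ∧ g • mset 8536111 = o := by
  have h8 := ho.2
  obtain ⟨c, hc, hc1⟩ := exists_mem_of_card_lt (s := o) (t := {a, b}) (by
    rw [h8]; exact lt_of_le_of_lt Finset.card_le_two (by norm_num))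
  obtain ⟨d, hd, hd1⟩ := exists_mem_of_card_lt (s := o) (t := {a, b, c}) (by
    rw [h8]; exact lt_of_le_of_lt Finset.card_le_three (by norm_num))
  obtain ⟨e, he, he1⟩ := exists_mem_of_card_lt (s := o) (t := {a, b, c, d}) (by
    rw [h8]; exact lt_of_le_of_lt Finset.card_le_four (by norm_num))
  obtain ⟨f, hf, hf1⟩ := exists_mem_of_card_lt (s := o) (t := {a, b, c, d, e}) (by
    rw [h8]; exact lt_of_le_of_lt Finset.card_le_five (by norm_num))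
  simp only [Finset.mem_insert, Finset.mem_singleton, not_or] at hc1 hd1 he1 hf1
  obtain ⟨g, hg, h1, h2, h3, h4, h5, h6, h7, h8⟩ := exists_from_seven ho hab (Ne.symm hc1.1)
    (Ne.symm hd1.1) (Ne.symm he1.1) (Ne.symm hc1.2) (Ne.symm hd1.2.1) (Ne.symm he1.2.1) (Ne.symm hd1.2.2)
    (Ne.symm he1.2.2.1) (Ne.symm he1.2.2.2) ha hb hc hd he hf (Ne.symm hf1.1) (Ne.symm hf1.2.1) (Ne.symm hf1.2.2.1)
    (Ne.symm hf1.2.2.2.1) (Ne.symm hf1.2.2.2.2) hx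
  exact ⟨g, hg, h1, h2, h7, h8⟩

theorem exists_flag_two {o : Finset GolayPt} (ho : o ∈ octads) {a b : GolayPt} (ha : a ∈ o) (hb : b ∈ o)
    (hab : a ≠ b) : ∃ g ∈ M24, g (pt 23) = a ∧ g (pt 0) = b ∧ g • mset 8536111 = o := by
  obtain ⟨x, hx⟩ := exists_notMem_octad ho
  obtain ⟨g, hg, h1, h2, h3, h4⟩ := exists_flag_three ho ha hb hab hx
  exact ⟨g, hg, h1, h2, h4⟩

theorem exists_flag_inout {o : Finset GolayPt} (ho : o ∈ octads) {a x : GolayPt} (ha : a ∈ o) (hx : x ∉ o) :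
    ∃ g ∈ M24, g (pt 23) = a ∧ g (pt 4) = x ∧ g • mset 8536111 = o := by
  obtain ⟨b, hb, hb1⟩ := exists_mem_of_card_lt (s := o) (t := {a}) (by rw [ho.2]; simp)
  rw [Finset.mem_singleton] at hb1
  obtain ⟨g, hg, h1, h2, h3, h4⟩ := exists_flag_three ho ha hb (Ne.symm hb1) hx
  exact ⟨g, hg, h1, h3, h4⟩

theorem exists_flag_out {o : Finset GolayPt} (ho : o ∈ octads) {x : GolayPt} (hx : x ∉ o) :
    ∃ g ∈ M24, g (pt 4) = x ∧ g • mset 8536111 = o := by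
  obtain ⟨a, ha⟩ : o.Nonempty := by rw [← Finset.card_pos, ho.2]; norm_num
  obtain ⟨g, hg, h1, h2, h3⟩ := exists_flag_inout ho ha hx
  exact ⟨g, hg, h2, h3⟩

theorem octad_inter_vals {o o' : Finset GolayPt} (ho : o ∈ octads) (ho' : o' ∈ octads) :
    (o ∩ o').card = 0 ∨ (o ∩ o').card = 2 ∨ (o ∩ o').card = 4 ∨ (o ∩ o').card = 8 ∧ o = o' := by
  have h1 := even_inter ho.1 ho'.1
  have h2 : (o ∩ o').card ≤ 8 := ho.2 ▸ Finset.card_le_card Finset.inter_subset_left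
  by_cases h : 5 ≤ (o ∩ o').card
  · have := octad_eq_of_five ho ho' h
    subst this
    rw [Finset.inter_self]
    exact Or.inr (Or.inr (Or.inr ⟨ho.2, rfl⟩))
  · omega

theorem smul_mem_iff_pt {g : Equiv.Perm GolayPt} {p a : GolayPt} (h : g p = a) (x : Finset GolayPt) :
    a ∈ g • x ↔ p ∈ x := by rw [← h]; exact smul_mem_smul g x p

theorem inter_smul_card {g : Equiv.Perm GolayPt} {s t : Finset GolayPt} (h : g • s = t) (x : Finset GolayPt) :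
    (t ∩ g • x).card = (s ∩ x).card := by rw [← h, ← smul_inter', card_smul']

/-! ### no point -/

theorem oct_orb_C1 {o : Finset GolayPt} (ho : o ∈ octads) {k N : ℕ}
    (h : (Sw 8 0 0 8536111 k).ncard = N ∧ ∀ x ∈ Sw 8 0 0 8536111 k, ∀ y ∈ Sw 8 0 0 8536111 k,
      ∃ g ∈ Hs 8536111 0, g • x = y) :
    {o' | o' ∈ octads ∧ (o ∩ o').card = k}.ncard = N ∧ ∀ x ∈ {o' | o' ∈ octads ∧ (o ∩ o').card = k},
      ∀ y ∈ {o' | o' ∈ octads ∧ (o ∩ o').card = k}, ∃ g ∈ M24, g • o = o ∧ g • x = y := by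
  obtain ⟨g, hg, rfl⟩ := exists_smul_oct0 ho
  obtain ⟨h1, h2⟩ := transport_Sw hg (T := {o' | o' ∈ octads ∧ ((g • mset 8536111) ∩ o').card = k}) (by
    intro x
    rw [mem_Sw_C1, Set.mem_ofPred_eq, smul_mem_octads hg, inter_smul_card rfl]) h
  refine ⟨h1, fun x hx y hy => ?_⟩
  obtain ⟨k, k1, k2, k3, k4⟩ := h2 x hx y hy
  exact ⟨k, k1, k2, k4⟩

theorem octad_pair_transitive (o o' o'' : Finset GolayPt) (ho : o ∈ octads) (ho' : o' ∈ octads)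
    (ho'' : o'' ∈ octads) (h : (o ∩ o').card = (o ∩ o'').card) :
    ∃ g : Equiv.Perm GolayPt, g ∈ M24 ∧ g • o = o ∧ g • o' = o'' := by
  rcases octad_inter_vals ho ho' with h1 | h1 | h1 | ⟨h1, rfl⟩
  · exact (oct_orb_C1 ho wtC1_0).2 o' ⟨ho', h1⟩ o'' ⟨ho'', by rw [← h, h1]⟩
  · exact (oct_orb_C1 ho wtC1_2).2 o' ⟨ho', h1⟩ o'' ⟨ho'', by rw [← h, h1]⟩
  · exact (oct_orb_C1 ho wtC1_4).2 o' ⟨ho', h1⟩ o'' ⟨ho'', by rw [← h, h1]⟩
  · rw [h1] at h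
    have := octad_eq_of_five ho ho'' (by omega)
    subst this
    exact ⟨1, M24.one_mem, one_smul _ _, one_smul _ _⟩

/-! ### one point in the octad -/

theorem oct_orb_C2 {o : Finset GolayPt} (ho : o ∈ octads) {p : GolayPt} (hp : p ∈ o) {k N : ℕ}
    (h : (Sw 8 8388608 0 8536111 k).ncard = N ∧ ∀ x ∈ Sw 8 8388608 0 8536111 k, ∀ y ∈ Sw 8 8388608 0 8536111 k,
      ∃ g ∈ Hs 8536111 8388608, g • x = y) :
    {o' | o' ∈ octads ∧ p ∈ o' ∧ (o ∩ o').card = k}.ncard = N ∧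
      ∀ x ∈ {o' | o' ∈ octads ∧ p ∈ o' ∧ (o ∩ o').card = k},
      ∀ y ∈ {o' | o' ∈ octads ∧ p ∈ o' ∧ (o ∩ o').card = k}, ∃ g ∈ M24, g p = p ∧ g • o = o ∧ g • x = y := by
  obtain ⟨g, hg, g1, rfl⟩ := exists_flag_in ho hp
  obtain ⟨h1, h2⟩ := transport_Sw hg (T := {o' | o' ∈ octads ∧ p ∈ o' ∧ ((g • mset 8536111) ∩ o').card = k}) (by
    intro x
    rw [mem_Sw_C2, Set.mem_ofPred_eq, smul_mem_octads hg, inter_smul_card rfl, smul_mem_iff_pt g1]) h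
  refine ⟨h1, fun x hx y hy => ?_⟩
  obtain ⟨k, k1, k2, k3, k4⟩ := h2 x hx y hy
  refine ⟨k, k1, ?_, k2, k4⟩
  have := k3 (pt 23) mset_23.2
  rwa [g1] at this

/-! ### one point outside the octad -/

theorem oct_orb_C3 {o : Finset GolayPt} (ho : o ∈ octads) {p : GolayPt} (hp : p ∉ o) {k N : ℕ}
    (h : (Sw 8 0 16 8536111 k).ncard = N ∧ ∀ x ∈ Sw 8 0 16 8536111 k, ∀ y ∈ Sw 8 0 16 8536111 k,
      ∃ g ∈ Hs 8536111 16, g • x = y) :
    {o' | o' ∈ octads ∧ p ∉ o' ∧ (o ∩ o').card = k}.ncard = N ∧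
      ∀ x ∈ {o' | o' ∈ octads ∧ p ∉ o' ∧ (o ∩ o').card = k},
      ∀ y ∈ {o' | o' ∈ octads ∧ p ∉ o' ∧ (o ∩ o').card = k}, ∃ g ∈ M24, g p = p ∧ g • o = o ∧ g • x = y := by
  obtain ⟨g, hg, g1, rfl⟩ := exists_flag_out ho hp
  obtain ⟨h1, h2⟩ := transport_Sw hg (T := {o' | o' ∈ octads ∧ p ∉ o' ∧ ((g • mset 8536111) ∩ o').card = k}) (by
    intro x
    rw [mem_Sw_C3, Set.mem_ofPred_eq, smul_mem_octads hg, inter_smul_card rfl, smul_mem_iff_pt g1]) h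
  refine ⟨h1, fun x hx y hy => ?_⟩
  obtain ⟨k, k1, k2, k3, k4⟩ := h2 x hx y hy
  refine ⟨k, k1, ?_, k2, k4⟩
  have := k3 (pt 4) mset_4.2
  rwa [g1] at this

/-! ### two points in the octad -/

theorem oct_orb_C4 {o : Finset GolayPt} (ho : o ∈ octads) {p q : GolayPt} (hp : p ∈ o) (hq : q ∈ o) (hpq : p ≠ q)
    {k N : ℕ}
    (h : (Sw 8 8388609 0 8536111 k).ncard = N ∧ ∀ x ∈ Sw 8 8388609 0 8536111 k, ∀ y ∈ Sw 8 8388609 0 8536111 k,
      ∃ g ∈ Hs 8536111 8388609, g • x = y) :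
    {o' | o' ∈ octads ∧ p ∈ o' ∧ q ∈ o' ∧ (o ∩ o').card = k}.ncard = N ∧
      ∀ x ∈ {o' | o' ∈ octads ∧ p ∈ o' ∧ q ∈ o' ∧ (o ∩ o').card = k},
      ∀ y ∈ {o' | o' ∈ octads ∧ p ∈ o' ∧ q ∈ o' ∧ (o ∩ o').card = k},
        ∃ g ∈ M24, g p = p ∧ g q = q ∧ g • o = o ∧ g • x = y := by
  obtain ⟨g, hg, g1, g2, rfl⟩ := exists_flag_two ho hp hq hpq
  obtain ⟨h1, h2⟩ := transport_Sw hg
    (T := {o' | o' ∈ octads ∧ p ∈ o' ∧ q ∈ o' ∧ ((g • mset 8536111) ∩ o').card = k}) (by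
    intro x
    rw [mem_Sw_C4, Set.mem_ofPred_eq, smul_mem_octads hg, inter_smul_card rfl, smul_mem_iff_pt g1,
      smul_mem_iff_pt g2]) h
  refine ⟨h1, fun x hx y hy => ?_⟩
  obtain ⟨k, k1, k2, k3, k4⟩ := h2 x hx y hy
  refine ⟨k, k1, ?_, ?_, k2, k4⟩
  · have := k3 (pt 23) mset_230.2.1
    rwa [g1] at this
  · have := k3 (pt 0) mset_230.2.2
    rwa [g2] at this

/-! ### one point inside, one outside -/

theorem oct_orb_C5 {o : Finset GolayPt} (ho : o ∈ octads) {p q : GolayPt} (hp : p ∈ o) (hq : q ∉ o)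
    {k N : ℕ}
    (h : (Sw 8 8388608 16 8536111 k).ncard = N ∧ ∀ x ∈ Sw 8 8388608 16 8536111 k, ∀ y ∈ Sw 8 8388608 16 8536111 k,
      ∃ g ∈ Hs 8536111 8388624, g • x = y) :
    {o' | o' ∈ octads ∧ p ∈ o' ∧ q ∉ o' ∧ (o ∩ o').card = k}.ncard = N ∧
      ∀ x ∈ {o' | o' ∈ octads ∧ p ∈ o' ∧ q ∉ o' ∧ (o ∩ o').card = k},
      ∀ y ∈ {o' | o' ∈ octads ∧ p ∈ o' ∧ q ∉ o' ∧ (o ∩ o').card = k},
        ∃ g ∈ M24, g p = p ∧ g q = q ∧ g • o = o ∧ g • x = y := by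
  obtain ⟨g, hg, g1, g2, rfl⟩ := exists_flag_inout ho hp hq
  obtain ⟨h1, h2⟩ := transport_Sw hg
    (T := {o' | o' ∈ octads ∧ p ∈ o' ∧ q ∉ o' ∧ ((g • mset 8536111) ∩ o').card = k}) (by
    intro x
    rw [mem_Sw_C5, Set.mem_ofPred_eq, smul_mem_octads hg, inter_smul_card rfl, smul_mem_iff_pt g1,
      smul_mem_iff_pt g2]) h
  refine ⟨h1, fun x hx y hy => ?_⟩
  obtain ⟨k, k1, k2, k3, k4⟩ := h2 x hx y hy
  refine ⟨k, k1, ?_, ?_, k2, k4⟩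
  · have := k3 (pt 23) mset_234.2.1
    rwa [g1] at this
  · have := k3 (pt 4) mset_234.2.2
    rwa [g2] at this

/-- `S1604` -/
theorem orbits_two_in (p q : GolayPt) (hpq : p ≠ q) (o o' o'' : Finset GolayPt) (ho : o ∈ octads)
    (ho' : o' ∈ octads) (ho'' : o'' ∈ octads) (hp : p ∈ o ∧ p ∈ o' ∧ p ∈ o'') (hq : q ∈ o ∧ q ∈ o' ∧ q ∈ o'')
    (h : (o ∩ o').card = (o ∩ o'').card) :
    {x : Finset GolayPt | x ∈ octads ∧ p ∈ x ∧ q ∈ x ∧ (o ∩ x).card = 2}.ncard = 16 ∧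
    {x : Finset GolayPt | x ∈ octads ∧ p ∈ x ∧ q ∈ x ∧ (o ∩ x).card = 4}.ncard = 60 ∧
    ∃ g : Equiv.Perm GolayPt, g ∈ M24 ∧ g p = p ∧ g q = q ∧ g • o = o ∧ g • o' = o'' := by
  refine ⟨(oct_orb_C4 ho hp.1 hq.1 hpq wtC4_2).1, (oct_orb_C4 ho hp.1 hq.1 hpq wtC4_4).1, ?_⟩
  rcases octad_inter_vals ho ho' with h1 | h1 | h1 | ⟨h1, rfl⟩
  · exfalso
    rw [Finset.card_eq_zero] at h1
    have : p ∈ o ∩ o' := Finset.mem_inter.mpr ⟨hp.1, hp.2.1⟩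
    rw [h1] at this
    exact absurd this (Finset.notMem_empty _)
  · exact (oct_orb_C4 ho hp.1 hq.1 hpq wtC4_2).2 o' ⟨ho', hp.2.1, hq.2.1, h1⟩ o''
      ⟨ho'', hp.2.2, hq.2.2, by rw [← h, h1]⟩
  · exact (oct_orb_C4 ho hp.1 hq.1 hpq wtC4_4).2 o' ⟨ho', hp.2.1, hq.2.1, h1⟩ o''
      ⟨ho'', hp.2.2, hq.2.2, by rw [← h, h1]⟩
  · rw [h1] at h
    have := octad_eq_of_five ho ho'' (by omega)
    subst this
    exact ⟨1, M24.one_mem, rfl, rfl, one_smul _ _, one_smul _ _⟩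

theorem ncard_octads_inout (p q : GolayPt) (hpq : p ≠ q) :
    {x : Finset GolayPt | (x ∈ octads ∧ p ∈ x ∧ q ∉ x)}.ncard = 176 := by
  obtain ⟨g, hg, g1, g2⟩ := exists_two (a := pt 23) (b := pt 4) (a' := p) (b' := q)
    (pt_ne (by norm_num) (by norm_num) (by norm_num)) hpq
  have h0 : {x : Finset GolayPt | x ∈ octads ∧ pt 23 ∈ x ∧ pt 4 ∉ x}.ncard = 176 := by
    have : {x : Finset GolayPt | x ∈ octads ∧ pt 23 ∈ x ∧ pt 4 ∉ x} = Sw 8 8388608 16 0 0 := by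
      ext x
      unfold Sw
      rw [Set.mem_ofPred_eq, Set.mem_ofPred_eq, mset_zero, Finset.empty_inter, Finset.card_empty]
      have h := mset_bit_subset (by norm_num) mset_23.1 mset_23.2 x
      rw [show (2 : ℕ) ^ 23 = 8388608 from by norm_num] at h
      have h' := mset_disj_single mset_4 x
      rw [show (2 : ℕ) ^ 4 = 16 from by norm_num] at h'
      rw [h, h']
      exact ⟨fun ⟨h1, h2, h3⟩ => ⟨h1, h2, h3, rfl⟩, fun ⟨h1, h2, h3, _⟩ => ⟨h1, h2, h3⟩⟩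
    rw [this, ncard_Sw (by norm_num)]
    decide +kernel
  rw [← h0]
  have : {x : Finset GolayPt | (x ∈ octads ∧ p ∈ x ∧ q ∉ x)} =
      (fun s : Finset GolayPt => g • s) '' {x : Finset GolayPt | x ∈ octads ∧ pt 23 ∈ x ∧ pt 4 ∉ x} := by
    ext s
    rw [Set.mem_image]
    constructor
    · rintro ⟨h1, h2, h3⟩
      refine ⟨g⁻¹ • s, ⟨(smul_mem_octads (M24.inv_mem hg)).mpr h1, ?_, ?_⟩, smul_inv_smul _ _⟩
      · rw [← smul_mem_iff_pt g1 (g⁻¹ • s), smul_inv_smul]; exact h2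
      · rw [← smul_mem_iff_pt g2 (g⁻¹ • s), smul_inv_smul]; exact h3
    · rintro ⟨t, ⟨h1, h2, h3⟩, rfl⟩
      refine ⟨(smul_mem_octads hg).mpr h1, ?_, ?_⟩
      · rw [smul_mem_iff_pt g1]; exact h2
      · rw [smul_mem_iff_pt g2]; exact h3
  rw [this, Set.ncard_image_of_injective _ (MulAction.injective g)]

/-- `S1605` -/
theorem orbits_inout (p q : GolayPt) (hpq : p ≠ q) :
    {x : Finset GolayPt | (x ∈ octads ∧ p ∈ x ∧ q ∉ x)}.ncard = 176 ∧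
    (∀ o o' : Finset GolayPt, (o ∈ octads ∧ p ∈ o ∧ q ∉ o) → (o' ∈ octads ∧ p ∈ o' ∧ q ∉ o') →
      ∃ g : Equiv.Perm GolayPt, g ∈ M24 ∧ g p = p ∧ g q = q ∧ g • o = o') ∧
    ∀ o : Finset GolayPt, (o ∈ octads ∧ p ∈ o ∧ q ∉ o) →
      {x : Finset GolayPt | (x ∈ octads ∧ p ∈ x ∧ q ∉ x) ∧ (o ∩ x).card = 2}.ncard = 70 ∧
      {x : Finset GolayPt | (x ∈ octads ∧ p ∈ x ∧ q ∉ x) ∧ (o ∩ x).card = 4}.ncard = 105 ∧
      ∀ o' o'' : Finset GolayPt, (o' ∈ octads ∧ p ∈ o' ∧ q ∉ o') → (o'' ∈ octads ∧ p ∈ o'' ∧ q ∉ o'') →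
        (o ∩ o').card = (o ∩ o'').card →
        ∃ g : Equiv.Perm GolayPt, g ∈ M24 ∧ g p = p ∧ g q = q ∧ g • o = o ∧ g • o' = o'' := by
  refine ⟨ncard_octads_inout p q hpq, ?_, ?_⟩
  · rintro o o' ⟨ho, hp, hq⟩ ⟨ho', hp', hq'⟩
    obtain ⟨g, hg, g1, g2, g3⟩ := exists_flag_inout ho hp hq
    obtain ⟨k, hk, k1, k2, k3⟩ := exists_flag_inout ho' hp' hq'
    have hi : ∀ j k : GolayPt, g j = k → g⁻¹ k = j := fun j k e => by rw [← e, perm_inv_apply]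
    refine ⟨k * g⁻¹, M24.mul_mem hk (M24.inv_mem hg), ?_, ?_, ?_⟩
    · rw [Equiv.Perm.mul_apply, hi _ _ g1, k1]
    · rw [Equiv.Perm.mul_apply, hi _ _ g2, k2]
    · rw [mul_smul, ← g3, inv_smul_smul, k3]
  · rintro o ⟨ho, hp, hq⟩
    have e : ∀ k, {x : Finset GolayPt | (x ∈ octads ∧ p ∈ x ∧ q ∉ x) ∧ (o ∩ x).card = k} =
        {o' | o' ∈ octads ∧ p ∈ o' ∧ q ∉ o' ∧ (o ∩ o').card = k} := by
      intro k; ext x; simp only [Set.mem_ofPred_eq, and_assoc]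
    rw [e, e]
    refine ⟨(oct_orb_C5 ho hp hq wtC5_2).1, (oct_orb_C5 ho hp hq wtC5_4).1, ?_⟩
    rintro o' o'' ⟨ho', hp', hq'⟩ ⟨ho'', hp'', hq''⟩ h
    rcases octad_inter_vals ho ho' with h1 | h1 | h1 | ⟨h1, rfl⟩
    · exfalso
      rw [Finset.card_eq_zero] at h1
      have : p ∈ o ∩ o' := Finset.mem_inter.mpr ⟨hp, hp'⟩
      rw [h1] at this
      exact absurd this (Finset.notMem_empty _)
    · exact (oct_orb_C5 ho hp hq wtC5_2).2 o' ⟨ho', hp', hq', h1⟩ o'' ⟨ho'', hp'', hq'', by rw [← h, h1]⟩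
    · exact (oct_orb_C5 ho hp hq wtC5_4).2 o' ⟨ho', hp', hq', h1⟩ o'' ⟨ho'', hp'', hq'', by rw [← h, h1]⟩
    · rw [h1] at h
      have := octad_eq_of_five ho ho'' (by omega)
      subst this
      exact ⟨1, M24.one_mem, rfl, rfl, one_smul _ _, one_smul _ _⟩

/-- `S1607` -/
theorem orbits_in (x : GolayPt) (o : Finset GolayPt) (ho : o ∈ octads) (hx : x ∈ o) :
    {o' : Finset GolayPt | o' ∈ octads ∧ x ∈ o' ∧ (o ∩ o').card = 2}.ncard = 112 ∧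
    {o' : Finset GolayPt | o' ∈ octads ∧ x ∈ o' ∧ (o ∩ o').card = 4}.ncard = 140 ∧
    ∀ o' o'' : Finset GolayPt, o' ∈ octads → o'' ∈ octads → x ∈ o' → x ∈ o'' →
      (o ∩ o').card = (o ∩ o'').card → ∃ g : Equiv.Perm GolayPt, g ∈ M24 ∧ g x = x ∧ g • o = o ∧ g • o' = o'' := by
  refine ⟨(oct_orb_C2 ho hx wtC2_2).1, (oct_orb_C2 ho hx wtC2_4).1, ?_⟩
  intro o' o'' ho' ho'' hx' hx'' h
  rcases octad_inter_vals ho ho' with h1 | h1 | h1 | ⟨h1, rfl⟩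
  · exfalso
    rw [Finset.card_eq_zero] at h1
    have : x ∈ o ∩ o' := Finset.mem_inter.mpr ⟨hx, hx'⟩
    rw [h1] at this
    exact absurd this (Finset.notMem_empty _)
  · exact (oct_orb_C2 ho hx wtC2_2).2 o' ⟨ho', hx', h1⟩ o'' ⟨ho'', hx'', by rw [← h, h1]⟩
  · exact (oct_orb_C2 ho hx wtC2_4).2 o' ⟨ho', hx', h1⟩ o'' ⟨ho'', hx'', by rw [← h, h1]⟩
  · rw [h1] at h
    have := octad_eq_of_five ho ho'' (by omega)
    subst this
    exact ⟨1, M24.one_mem, rfl, one_smul _ _, one_smul _ _⟩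

/-- `S1608` -/
theorem orbits_out (x : GolayPt) (o : Finset GolayPt) (ho : o ∈ octads) (hx : x ∉ o) :
    {o' : Finset GolayPt | o' ∈ octads ∧ x ∉ o' ∧ (o ∩ o').card = 0}.ncard = 15 ∧
    {o' : Finset GolayPt | o' ∈ octads ∧ x ∉ o' ∧ (o ∩ o').card = 4}.ncard = 210 ∧
    {o' : Finset GolayPt | o' ∈ octads ∧ x ∉ o' ∧ (o ∩ o').card = 2}.ncard = 280 ∧
    ∀ o' o'' : Finset GolayPt, o' ∈ octads → o'' ∈ octads → x ∉ o' → x ∉ o'' →
      (o ∩ o').card = (o ∩ o'').card → ∃ g : Equiv.Perm GolayPt, g ∈ M24 ∧ g x = x ∧ g • o = o ∧ g • o' = o'' := by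
  refine ⟨(oct_orb_C3 ho hx wtC3_0).1, (oct_orb_C3 ho hx wtC3_4).1, (oct_orb_C3 ho hx wtC3_2).1, ?_⟩
  intro o' o'' ho' ho'' hx' hx'' h
  rcases octad_inter_vals ho ho' with h1 | h1 | h1 | ⟨h1, rfl⟩
  · exact (oct_orb_C3 ho hx wtC3_0).2 o' ⟨ho', hx', h1⟩ o'' ⟨ho'', hx'', by rw [← h, h1]⟩
  · exact (oct_orb_C3 ho hx wtC3_2).2 o' ⟨ho', hx', h1⟩ o'' ⟨ho'', hx'', by rw [← h, h1]⟩
  · exact (oct_orb_C3 ho hx wtC3_4).2 o' ⟨ho', hx', h1⟩ o'' ⟨ho'', hx'', by rw [← h, h1]⟩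
  · rw [h1] at h
    have := octad_eq_of_five ho ho'' (by omega)
    subst this
    exact ⟨1, M24.one_mem, rfl, one_smul _ _, one_smul _ _⟩

theorem octads_finite' : octads.Finite := octads_finite

/-- `S1565`: the stabiliser of an octad is maximal -/
theorem octad_stab_maximal (o : Finset GolayPt) (ho : o ∈ octads) : IsCoatom (MulAction.stabilizer M24 o) := by
  have hc : ∀ k N, {o' | o' ∈ octads ∧ (o ∩ o').card = k}.ncard = N → {o' | o' ∈ octads ∧ (o ∩ o').card = k}.ncard = N :=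
    fun _ _ h => h
  let f : Finset GolayPt → Fin 4 := fun x =>
    if (o ∩ x).card = 0 then 0 else if (o ∩ x).card = 2 then 1 else if (o ∩ x).card = 4 then 2 else 3
  have hf0 : ∀ x, f x = 0 ↔ (o ∩ x).card = 0 := by
    intro x; simp only [f]; split_ifs <;> simp_all
  have hf1 : ∀ x, f x = 1 ↔ (o ∩ x).card = 2 := by
    intro x; simp only [f]; split_ifs <;> simp_all
  have hf2 : ∀ x, f x = 2 ↔ (o ∩ x).card = 4 := by
    intro x; simp only [f]; split_ifs <;> simp_all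
  have hf3 : ∀ x ∈ octads, f x = 3 ↔ x = o := by
    intro x hx
    rcases octad_inter_vals ho hx with h1 | h1 | h1 | ⟨h1, rfl⟩
    · constructor
      · intro h; rw [(hf0 x).mpr h1] at h; exact absurd h (by decide)
      · rintro rfl; rw [Finset.inter_self, ho.2] at h1; omega
    · constructor
      · intro h; rw [(hf1 x).mpr h1] at h; exact absurd h (by decide)
      · rintro rfl; rw [Finset.inter_self, ho.2] at h1; omega
    · constructor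
      · intro h; rw [(hf2 x).mpr h1] at h; exact absurd h (by decide)
      · rintro rfl; rw [Finset.inter_self, ho.2] at h1; omega
    · refine ⟨fun _ => rfl, fun _ => ?_⟩
      simp only [f, h1]; rfl
  have hfo : f o = 3 := (hf3 o ho).mpr rfl
  have hinter : ∀ x ∈ octads, ∀ y ∈ octads, f x = f y → (o ∩ x).card = (o ∩ y).card := by
    intro x hx y hy h
    rcases octad_inter_vals ho hx with h1 | h1 | h1 | ⟨h1, h2⟩
    · rw [h1, ((hf0 y).mp (h ▸ (hf0 x).mpr h1))]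
    · rw [h1, ((hf1 y).mp (h ▸ (hf1 x).mpr h1))]
    · rw [h1, ((hf2 y).mp (h ▸ (hf2 x).mpr h1))]
    · rw [← h2] at h
      rw [hfo] at h
      rw [(hf3 y hy).mp h.symm, ← h2]
  refine isCoatom_of_classes (S := octads) octads_finite ?_ ?_ f ![30, 448, 280, 1] ?_ ?_ ?_ ?_ ?_
  · intro y hy
    obtain ⟨g, hg, h⟩ := octad_transitive ho hy
    exact ⟨⟨g, hg⟩, h⟩
  · intro g; exact (smul_mem_octads g.2).mpr ho
  · intro y hy z hz hyz
    obtain ⟨g, hg, h1, h2⟩ := octad_pair_transitive o y z ho hy hz (hinter y hy z hz hyz)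
    exact ⟨⟨g, hg⟩, h1, h2⟩
  · intro y hy h; rw [hfo] at h; exact (hf3 y hy).mp h
  · intro i
    fin_cases i
    · show {y | y ∈ octads ∧ f y = 0}.ncard = 30
      simp only [hf0]; exact (oct_orb_C1 ho wtC1_0).1
    · show {y | y ∈ octads ∧ f y = 1}.ncard = 448
      simp only [hf1]; exact (oct_orb_C1 ho wtC1_2).1
    · show {y | y ∈ octads ∧ f y = 2}.ncard = 280
      simp only [hf2]; exact (oct_orb_C1 ho wtC1_4).1
    · show {y | y ∈ octads ∧ f y = 3}.ncard = 1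
      have : {y | y ∈ octads ∧ f y = 3} = {o} := by
        ext y
        rw [Set.mem_ofPred_eq, Set.mem_singleton_iff]
        exact ⟨fun h => (hf3 y h.1).mp h.2, fun h => ⟨h ▸ ho, (hf3 y (h ▸ ho)).mpr h⟩⟩
      rw [this, Set.ncard_singleton]
  · rw [ncard_octads]; norm_num
  · rw [hfo, ncard_octads]; decide

end Cfsg.Agent.Lib.Golay
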