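import Cfsg.Agent.Lib.GolayDodecad
import Cfsg.Agent.Lib.SimpleCrit

/-!
Orbit certificates for subgroups of `Equiv.Perm GolayPt` acting on coded objects, and a maximality
criterion for stabilisers from subdegrees.

`OrbitCert`: objects are coded by numbers (`dec : ℕ → Ω`), a kernel check on two packed arrays `A` (codes,
`w` bits each) and `B` (parent index, generator, rank) shows that the first object is carried by the group
to all the others and that they are all different.
-/

set_option autoImplicit false
set_option linter.constructorNameAsVariable false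
set_option linter.unusedVariables false

namespace Cfsg.Agent.Lib.Golay

open Cfsg
open scoped Pointwise

/-- `i`-th entry of a packed array with `w` bits per entry -/
def arr (w A i : ℕ) : ℕ := Nat.mod (Nat.shiftRight A (Nat.mul w i)) (Nat.pow 2 w)

/-- The kernel check. `P` validity of a code, `key` canonical key, `act s y` = action of generator number
`s` on the code `y`; `B` has 32 bits per entry: parent index (16), rank (8), generator (8).
Entry 0 of rank 0 is the root: `rt` is its index. -/
def orbChk (P : ℕ → Bool) (key : ℕ → ℕ) (act : ℕ → ℕ → ℕ) (w A B rt N : ℕ) : Bool :=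
  allLt N fun i =>
    force (arr w A i) fun y =>
    force (arr 32 B i) fun b =>
    force (key y) fun ky =>
    cond (P y)
      (cond (cond (Nat.ble N (Nat.succ i)) true (Nat.ble (Nat.succ ky) (key (arr w A (Nat.succ i)))))
        (cond (Nat.beq i rt) true
          (force (Nat.mod b 65536) fun p =>
            cond (Nat.ble (Nat.succ p) N)
              (cond (Nat.ble (Nat.succ (Nat.mod (Nat.shiftRight (arr 32 B p) 16) 256))
                  (Nat.mod (Nat.shiftRight b 16) 256))
                (Nat.beq (key (act (Nat.shiftRight b 24) (arr w A p))) ky) false) false)) false) false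

theorem orbChk_spec {P : ℕ → Bool} {key : ℕ → ℕ} {act : ℕ → ℕ → ℕ} {w A B rt N : ℕ}
    (h : orbChk P key act w A B rt N = true) {i : ℕ} (hi : i < N) :
    P (arr w A i) = true ∧ (i + 1 < N → key (arr w A i) < key (arr w A (i + 1))) ∧
    (i ≠ rt → ∃ p < N, ∃ s, (arr 32 B p >>> 16) % 256 < (arr 32 B i >>> 16) % 256 ∧
      key (act s (arr w A p)) = key (arr w A i)) := by
  have h1 := allLt_iff.mp h i hi
  simp only [force_eq, cond_false_eq] at h1
  obtain ⟨hP, hk, hr⟩ := h1
  refine ⟨hP, ?_, ?_⟩
  · intro hi1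
    have : Nat.ble N (Nat.succ i) = false := by
      rw [← Bool.not_eq_true, Nat.ble_eq]; omega
    rw [this, cond_false] at hk
    exact Nat.le_of_ble_eq_true hk
  · intro hne
    have : Nat.beq i rt = false := by
      rw [← Bool.not_eq_true, Nat.beq_eq]; exact hne
    rw [this, cond_false] at hr
    simp only [cond_false_eq] at hr
    obtain ⟨h3, h4, h5⟩ := hr
    exact ⟨_, Nat.le_of_ble_eq_true h3, _, Nat.le_of_ble_eq_true h4, Nat.eq_of_beq_eq_true h5⟩

variable {Ω : Type*} [MulAction (Equiv.Perm GolayPt) Ω]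

/-- Soundness of an orbit certificate. -/
theorem orbChk_orbit {P : ℕ → Bool} {key : ℕ → ℕ} {act : ℕ → ℕ → ℕ} {w A B rt N : ℕ}
    (h : orbChk P key act w A B rt N = true) (hrt : rt < N)
    (H : Subgroup (Equiv.Perm GolayPt)) (dec : ℕ → Ω)
    (hact : ∀ s y, P y = true → P (act s y) = true ∧ ∃ g ∈ H, dec (act s y) = g • dec y)
    (hkey : ∀ y z, P y = true → P z = true → key y = key z → dec y = dec z) :
    ∀ i < N, ∃ g ∈ H, g • dec (arr w A rt) = dec (arr w A i) := by
  have key1 : ∀ r i : ℕ, i < N → (arr 32 B i >>> 16) % 256 = r →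
      ∃ g ∈ H, g • dec (arr w A rt) = dec (arr w A i) := by
    intro r
    induction r using Nat.strong_induction_on with
    | _ r ih =>
      intro i hi hr
      by_cases hne : i = rt
      · rw [hne]; exact ⟨1, H.one_mem, one_smul _ _⟩
      · obtain ⟨hP, _, h3⟩ := orbChk_spec h hi
        obtain ⟨p, hp, s, hrk, hk⟩ := h3 hne
        obtain ⟨g, hg, hg1⟩ := ih _ (by rw [← hr]; exact hrk) p hp rfl
        have hPp := (orbChk_spec h hp).1
        obtain ⟨hPa, k, hk1, hk2⟩ := hact s _ hPp
        refine ⟨k * g, H.mul_mem hk1 hg, ?_⟩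
        rw [mul_smul, hg1, ← hk2]
        exact hkey _ _ hPa hP hk
  intro i hi
  exact key1 _ i hi rfl

theorem orbChk_keys {P : ℕ → Bool} {key : ℕ → ℕ} {act : ℕ → ℕ → ℕ} {w A B rt N : ℕ}
    (h : orbChk P key act w A B rt N = true) : ∀ j < N, ∀ i < j, key (arr w A i) < key (arr w A j) := by
  intro j
  induction j with
  | zero => intro _ i hi; exact absurd hi (Nat.not_lt_zero _)
  | succ j ih =>
    intro hj i hi
    have h1 := (orbChk_spec h (Nat.lt_of_succ_lt hj)).2.1 hj
    rcases Nat.lt_succ_iff_lt_or_eq.mp hi with h2 | h2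
    · exact lt_trans (ih (Nat.lt_of_succ_lt hj) i h2) h1
    · rw [h2]; exact h1

/-- The orbit has at least `N` elements. -/
theorem orbChk_le_ncard {P : ℕ → Bool} {key : ℕ → ℕ} {act : ℕ → ℕ → ℕ} {w A B rt N : ℕ}
    (h : orbChk P key act w A B rt N = true) (hrt : rt < N)
    (H : Subgroup (Equiv.Perm GolayPt)) (dec : ℕ → Ω)
    (hact : ∀ s y, P y = true → P (act s y) = true ∧ ∃ g ∈ H, dec (act s y) = g • dec y)
    (hkey : ∀ y z, P y = true → P z = true → key y = key z → dec y = dec z)
    (hinj : ∀ y z, P y = true → P z = true → dec y = dec z → key y = key z)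
    {S : Set Ω} (hS : S.Finite) (hroot : dec (arr w A rt) ∈ S) (hinv : ∀ g ∈ H, ∀ x ∈ S, g • x ∈ S) :
    N ≤ S.ncard := by
  have hsub : (fun i => dec (arr w A i)) '' (Set.Iio N) ⊆ S := by
    rintro _ ⟨i, hi, rfl⟩
    obtain ⟨g, hg, h1⟩ := orbChk_orbit h hrt H dec hact hkey i hi
    show dec (arr w A i) ∈ S
    rw [← h1]; exact hinv g hg _ hroot
  have hc : ((fun i => dec (arr w A i)) '' (Set.Iio N)).ncard = N := by
    rw [Set.InjOn.ncard_image]
    · rw [← Finset.coe_Iio, Set.ncard_coe_finset, Nat.card_Iio]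
    · intro i hi j hj hij
      have h1 := hinj _ _ (orbChk_spec h hi).1 (orbChk_spec h hj).1 hij
      rcases lt_trichotomy i j with h2 | h2 | h2
      · have := orbChk_keys h j hj i h2
        omega
      · exact h2
      · have := orbChk_keys h i hi j h2
        omega
  rw [← hc]
  exact Set.ncard_le_ncard hsub hS

/-- If an invariant finite set has exactly `N` elements, the certificate shows it is one orbit. -/
theorem orbChk_transitive {P : ℕ → Bool} {key : ℕ → ℕ} {act : ℕ → ℕ → ℕ} {w A B rt N : ℕ}
    (h : orbChk P key act w A B rt N = true) (hrt : rt < N)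
    (H : Subgroup (Equiv.Perm GolayPt)) (dec : ℕ → Ω)
    (hact : ∀ s y, P y = true → P (act s y) = true ∧ ∃ g ∈ H, dec (act s y) = g • dec y)
    (hkey : ∀ y z, P y = true → P z = true → key y = key z → dec y = dec z)
    (hinj : ∀ y z, P y = true → P z = true → dec y = dec z → key y = key z)
    {S : Set Ω} (hS : S.Finite) (hroot : dec (arr w A rt) ∈ S) (hinv : ∀ g ∈ H, ∀ x ∈ S, g • x ∈ S)
    (hcard : S.ncard ≤ N) : ∀ x ∈ S, ∃ g ∈ H, g • dec (arr w A rt) = x := by
  have hsub : (fun i => dec (arr w A i)) '' (Set.Iio N) ⊆ S := by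
    rintro _ ⟨i, hi, rfl⟩
    obtain ⟨g, hg, h1⟩ := orbChk_orbit h hrt H dec hact hkey i hi
    show dec (arr w A i) ∈ S
    rw [← h1]; exact hinv g hg _ hroot
  have hc : ((fun i => dec (arr w A i)) '' (Set.Iio N)).ncard = N := by
    rw [Set.InjOn.ncard_image]
    · rw [← Finset.coe_Iio, Set.ncard_coe_finset, Nat.card_Iio]
    · intro i hi j hj hij
      have h1 := hinj _ _ (orbChk_spec h hi).1 (orbChk_spec h hj).1 hij
      rcases lt_trichotomy i j with h2 | h2 | h2
      · have := orbChk_keys h j hj i h2
        omega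
      · exact h2
      · have := orbChk_keys h i hi j h2
        omega
  have heq := Set.eq_of_subset_of_ncard_le hsub (by rw [hc]; exact hcard) hS
  intro x hx
  rw [← heq] at hx
  obtain ⟨i, hi, rfl⟩ := hx
  exact orbChk_orbit h hrt H dec hact hkey i hi

end Cfsg.Agent.Lib.Golay
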