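import Mathlib

/-!
Maximality of point stabilisers from subdegrees (counting only).
-/

set_option autoImplicit false
set_option linter.constructorNameAsVariable false
set_option linter.unusedVariables false

namespace Cfsg.Agent.Lib.Golay

open MulAction

variable {G : Type*} [Group G] {Ω : Type*} [MulAction G Ω]

theorem ncard_classes {α : Type*} {k : ℕ} (f : α → Fin k) {S : Set α} (hfin : S.Finite) (J : Finset (Fin k)) :
    {y | y ∈ S ∧ f y ∈ J}.ncard = ∑ i ∈ J, {y | y ∈ S ∧ f y = i}.ncard := by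
  classical
  induction J using Finset.induction_on with
  | empty => simp
  | insert a J ha ih =>
    rw [Finset.sum_insert ha, ← ih, ← Set.ncard_union_eq (by
      rw [Set.disjoint_left]
      rintro y ⟨_, h1⟩ ⟨_, h2⟩
      rw [h1] at h2; exact ha h2) (hfin.subset (fun y h => h.1)) (hfin.subset (fun y h => h.1))]
    congr 1
    ext y
    simp only [Set.mem_ofPred_eq, Finset.mem_insert, Set.mem_union]
    tauto

/-- A point stabiliser is maximal if no sum of subdegrees including 1 divides the degree, apart from the two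
obvious ones. -/
theorem isCoatom_of_classes {x : Ω} {S : Set Ω} (hfin : S.Finite)
    (htr : ∀ y ∈ S, ∃ g : G, g • x = y) (hinv : ∀ g : G, g • x ∈ S)
    {k : ℕ} (f : Ω → Fin k) (n : Fin k → ℕ)
    (hf : ∀ y ∈ S, ∀ z ∈ S, f y = f z → ∃ h : G, h • x = x ∧ h • y = z)
    (hx : ∀ y ∈ S, f y = f x → y = x)
    (hn : ∀ i, {y | y ∈ S ∧ f y = i}.ncard = n i)
    (h1 : 1 < S.ncard)
    (hJ : ∀ J : Finset (Fin k), f x ∈ J → (∑ i ∈ J, n i) ∣ S.ncard → J = {f x} ∨ J = Finset.univ) :
    IsCoatom (stabilizer G x) := by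
  classical
  have hxS : x ∈ S := by simpa using hinv 1
  have hSorb : orbit G x = S := by
    ext y
    constructor
    · rintro ⟨g, rfl⟩; exact hinv g
    · intro hy; obtain ⟨g, hg⟩ := htr y hy; exact ⟨g, hg⟩
  constructor
  · intro htop
    have : S ⊆ {x} := by
      intro y hy
      obtain ⟨g, hg⟩ := htr y hy
      have hg2 : g ∈ stabilizer G x := by rw [htop]; exact Subgroup.mem_top _
      rw [Set.mem_singleton_iff, ← hg]
      exact mem_stabilizer_iff.mp hg2
    have h2 := Set.ncard_le_ncard this (Set.finite_singleton x)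
    rw [Set.ncard_singleton] at h2
    omega
  · intro K hK
    have hHK := hK.le
    have hT : ∀ y, y ∈ orbit K x → y ∈ S := by
      rintro y ⟨g, rfl⟩; exact hinv g
    have hidx : (orbit K x).ncard ∣ S.ncard := by
      rw [← index_stabilizer, ← hSorb, ← index_stabilizer]
      have h3 : stabilizer K x = (stabilizer G x).subgroupOf K := by
        ext g
        rw [mem_stabilizer_iff, Subgroup.mem_subgroupOf, mem_stabilizer_iff]
        rfl
      rw [h3]
      exact ⟨K.index, (Subgroup.relIndex_mul_index hHK).symm⟩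
    have hcl : ∀ y ∈ orbit K x, ∀ z ∈ S, f y = f z → z ∈ orbit K x := by
      rintro y ⟨g, rfl⟩ z hz hyz
      obtain ⟨h, h4, h5⟩ := hf _ (hinv g) z hz hyz
      exact ⟨⟨h * g, K.mul_mem (hHK (mem_stabilizer_iff.mpr h4)) g.2⟩, by
        rw [← h5]
        show (h * (g : G)) • x = h • ((g : G) • x)
        rw [mul_smul]⟩
    let J : Finset (Fin k) := Finset.univ.filter fun i => ∃ y ∈ orbit K x, f y = i
    have hTJ : orbit K x = {y | y ∈ S ∧ f y ∈ J} := by
      ext y
      simp only [Set.mem_ofPred_eq, J, Finset.mem_filter, Finset.mem_univ, true_and]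
      constructor
      · intro hy; exact ⟨hT y hy, y, hy, rfl⟩
      · rintro ⟨hy, z, hz, hzy⟩; exact hcl z hz y hy hzy
    have hsum : (orbit K x).ncard = ∑ i ∈ J, n i := by
      rw [hTJ, ncard_classes f hfin]
      exact Finset.sum_congr rfl fun i _ => hn i
    have hxJ : f x ∈ J := by
      simp only [J, Finset.mem_filter, Finset.mem_univ, true_and]
      exact ⟨x, mem_orbit_self x, rfl⟩
    rcases hJ J hxJ (by rw [← hsum]; exact hidx) with h | h
    · exfalso
      apply hK.not_ge
      intro g hg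
      have h6 : g • x ∈ orbit K x := ⟨⟨g, hg⟩, rfl⟩
      rw [hTJ, h] at h6
      rw [mem_stabilizer_iff]
      exact hx _ h6.1 (by simpa using h6.2)
    · rw [eq_top_iff]
      intro g _
      have h6 : g • x ∈ orbit K x := by
        rw [hTJ, h]
        exact ⟨hinv g, Finset.mem_univ _⟩
      obtain ⟨k, hk⟩ := h6
      have h7 : (k : G)⁻¹ * g ∈ stabilizer G x := by
        rw [mem_stabilizer_iff, mul_smul, ← hk]
        show (k : G)⁻¹ • ((k : G) • x) = x
        rw [inv_smul_smul]
      have := K.mul_mem k.2 (hHK h7)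
      rwa [mul_inv_cancel_left] at this

/-- Lower bounds for orbits adding up to the whole set are exact. -/
theorem subdegrees {H : Subgroup G} {S : Set Ω} (hfin : S.Finite) (hinv : ∀ g ∈ H, ∀ y ∈ S, g • y ∈ S)
    {k : ℕ} (r : Fin k → Ω) (n : Fin k → ℕ) (hr : ∀ i, r i ∈ S)
    (hn : ∀ i, n i ≤ (orbit H (r i)).ncard)
    (hne : ∀ i j, i ≠ j → r j ∉ orbit H (r i)) (hcard : S.ncard = ∑ i, n i) :
    (∀ i, (orbit H (r i)).ncard = n i) ∧ S = ⋃ i, orbit H (r i) := by
  classical
  have hsub : ∀ i, orbit H (r i) ⊆ S := by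
    rintro i _ ⟨g, rfl⟩; exact hinv g g.2 _ (hr i)
  have hdis : ∀ i j, i ≠ j → Disjoint (orbit H (r i)) (orbit H (r j)) := by
    intro i j hij
    rw [Set.disjoint_left]
    intro y h1 h2
    apply hne i j hij
    have h3 : orbit H y = orbit H (r i) := orbit_eq_iff.mpr h1
    have h4 : orbit H y = orbit H (r j) := orbit_eq_iff.mpr h2
    rw [← h3, h4]; exact mem_orbit_self _
  have hU : ∀ J : Finset (Fin k), (⋃ i ∈ J, orbit H (r i)).ncard = ∑ i ∈ J, (orbit H (r i)).ncard := by
    intro J
    induction J using Finset.induction_on with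
    | empty => simp
    | insert a J ha ih =>
      rw [Finset.sum_insert ha, ← ih, Finset.set_biUnion_insert, Set.ncard_union_eq (by
        rw [Set.disjoint_left]
        intro y h1 h2
        rw [Set.mem_iUnion₂] at h2
        obtain ⟨j, hj, h2⟩ := h2
        exact Set.disjoint_left.mp (hdis a j (by rintro rfl; exact ha hj)) h1 h2)
        (hfin.subset (hsub a)) (hfin.subset (by
        intro y hy
        rw [Set.mem_iUnion₂] at hy
        obtain ⟨j, hj, h2⟩ := hy
        exact hsub j h2))]
  have hUS : (⋃ i ∈ (Finset.univ : Finset (Fin k)), orbit H (r i)) ⊆ S := by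
    intro y hy
    rw [Set.mem_iUnion₂] at hy
    obtain ⟨j, hj, h2⟩ := hy
    exact hsub j h2
  have hle := Set.ncard_le_ncard hUS hfin
  rw [hU, hcard] at hle
  have heq : ∀ i, (orbit H (r i)).ncard = n i := by
    have h2 : ∑ i, n i = ∑ i, (orbit H (r i)).ncard :=
      le_antisymm (Finset.sum_le_sum fun i _ => hn i) hle
    intro i
    exact ((Finset.sum_eq_sum_iff_of_le (fun i _ => hn i)).mp h2 i (Finset.mem_univ i)).symm
  refine ⟨heq, ?_⟩
  have h5 := Set.eq_of_subset_of_ncard_le hUS (by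
    rw [hU, hcard]
    exact le_of_eq (Finset.sum_congr rfl fun i _ => (heq i).symm)) hfin
  rw [← h5]
  ext y
  simp

/-- Combination: maximality from orbit lower bounds. -/
theorem isCoatom_of_orbits {x : Ω} {S : Set Ω} (hfin : S.Finite)
    (htr : ∀ y ∈ S, ∃ g : G, g • x = y) (hinv : ∀ g : G, g • x ∈ S)
    {k : ℕ} (r : Fin k → Ω) (n : Fin k → ℕ) (i0 : Fin k) (hi0 : r i0 = x)
    (hn : ∀ i, (orbit (stabilizer G x) (r i)).ncard = n i)
    (hne : ∀ i j, i ≠ j → r j ∉ orbit (stabilizer G x) (r i))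
    (hS : S = ⋃ i, orbit (stabilizer G x) (r i)) (h1 : 1 < S.ncard)
    (hJ : ∀ J : Finset (Fin k), i0 ∈ J → (∑ i ∈ J, n i) ∣ S.ncard → J = {i0} ∨ J = Finset.univ) :
    IsCoatom (stabilizer G x) := by
  classical
  have hex : ∀ y ∈ S, ∃ i, y ∈ orbit (stabilizer G x) (r i) := by
    intro y hy; rw [hS, Set.mem_iUnion] at hy; exact hy
  let f : Ω → Fin k := fun y => if h : ∃ i, y ∈ orbit (stabilizer G x) (r i) then h.choose else i0
  have hf1 : ∀ y ∈ S, y ∈ orbit (stabilizer G x) (r (f y)) := by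
    intro y hy
    have h := hex y hy
    have : f y = h.choose := dif_pos h
    rw [this]; exact h.choose_spec
  have huniq : ∀ y i j, y ∈ orbit (stabilizer G x) (r i) → y ∈ orbit (stabilizer G x) (r j) → i = j := by
    intro y i j h2 h3
    by_contra hij
    apply hne i j hij
    have h4 : orbit (stabilizer G x) y = _ := orbit_eq_iff.mpr h2
    have h5 : orbit (stabilizer G x) y = _ := orbit_eq_iff.mpr h3
    rw [← h4, h5]; exact mem_orbit_self _
  have hxS : x ∈ S := by simpa using hinv 1
  have hfx : f x = i0 := huniq x _ _ (hf1 x hxS) (by rw [hi0]; exact mem_orbit_self _)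
  refine isCoatom_of_classes hfin htr hinv f n ?_ ?_ ?_ h1 (by rw [hfx]; exact hJ)
  · intro y hy z hz hyz
    have h2 := hf1 y hy
    have h3 := hf1 z hz
    rw [← hyz] at h3
    have h4 : orbit (stabilizer G x) y = _ := orbit_eq_iff.mpr h2
    rw [← h4] at h3
    obtain ⟨g, hg⟩ := h3
    exact ⟨g, mem_stabilizer_iff.mp g.2, hg⟩
  · intro y hy hyx
    have h2 := hf1 y hy
    rw [hyx, hfx, hi0] at h2
    obtain ⟨g, hg⟩ := h2
    rw [← hg]; exact mem_stabilizer_iff.mp g.2
  · intro i
    rw [← hn i]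
    congr 1
    ext y
    constructor
    · rintro ⟨hy, rfl⟩; exact hf1 y hy
    · intro hy
      have hyS : y ∈ S := by rw [hS, Set.mem_iUnion]; exact ⟨i, hy⟩
      exact ⟨hyS, huniq y _ _ (hf1 y hyS) hy⟩

end Cfsg.Agent.Lib.Golay
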