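import Cfsg.Agent.Lib.GolayTrans
import Cfsg.Agent.Lib.GolaySubdeg

/-!
Transitivity of `M24` on ordered 7-tuples `(a,b,c,d,e,f,x)` with `a..f` in an octad and `x` outside, on special and
umbral hexads, subdegrees on pairs and triples, maximality of the stabilisers of 2-sets and 3-sets.
-/

set_option autoImplicit false
set_option linter.constructorNameAsVariable false
set_option linter.unusedVariables false

namespace Cfsg.Agent.Lib.Golay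

open Cfsg
open scoped Pointwise

theorem mem_oct0_cases : ∀ p ∈ mset 8536111, p ∈ mset 147488 ∨ p = pt 23 ∨ p = pt 0 ∨ p = pt 1 ∨ p = pt 2 ∨
    p = pt 3 := by decide +kernel

theorem pts_mem_oct0 : pt 23 ∈ mset 8536111 ∧ pt 0 ∈ mset 8536111 ∧ pt 1 ∈ mset 8536111 ∧ pt 2 ∈ mset 8536111 ∧
    pt 3 ∈ mset 8536111 ∧ pt 5 ∈ mset 8536111 ∧ pt 4 ∉ mset 8536111 := by decide +kernel

theorem five_card {a b c d e : GolayPt} (hab : a ≠ b) (hac : a ≠ c) (had : a ≠ d)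
    (hae : a ≠ e) (hbc : b ≠ c) (hbd : b ≠ d) (hbe : b ≠ e) (hcd : c ≠ d) (hce : c ≠ e) (hde : d ≠ e) :
    ({a, b, c, d, e} : Finset GolayPt).card = 5 := by
  rw [Finset.card_insert_of_notMem, Finset.card_insert_of_notMem, Finset.card_insert_of_notMem,
    Finset.card_insert_of_notMem, Finset.card_singleton]
  all_goals simp only [Finset.mem_insert, Finset.mem_singleton, not_or]
  exacts [hde, ⟨hcd, hce⟩, ⟨hbc, hbd, hbe⟩, ⟨hab, hac, had, hae⟩]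

theorem octad_eq_of_pts {o o' : Finset GolayPt} (ho : o ∈ octads) (ho' : o' ∈ octads) {a b c d e : GolayPt}
    (hab : a ≠ b) (hac : a ≠ c) (had : a ≠ d)
    (hae : a ≠ e) (hbc : b ≠ c) (hbd : b ≠ d) (hbe : b ≠ e) (hcd : c ≠ d) (hce : c ≠ e) (hde : d ≠ e)
    (ha : a ∈ o ∧ a ∈ o') (hb : b ∈ o ∧ b ∈ o') (hc : c ∈ o ∧ c ∈ o') (hd : d ∈ o ∧ d ∈ o')
    (he : e ∈ o ∧ e ∈ o') : o = o' := by
  apply octad_eq_of_five ho ho'
  rw [← five_card hab hac had hae hbc hbd hbe hcd hce hde]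
  apply Finset.card_le_card
  intro x hx
  simp only [Finset.mem_insert, Finset.mem_singleton] at hx
  rw [Finset.mem_inter]
  rcases hx with rfl | rfl | rfl | rfl | rfl <;> assumption

/-- images of the full base -/
theorem exists_from_seven {o : Finset GolayPt} (ho : o ∈ octads) {a b c d e f x : GolayPt}
    (hab : a ≠ b) (hac : a ≠ c) (had : a ≠ d)
    (hae : a ≠ e) (hbc : b ≠ c) (hbd : b ≠ d) (hbe : b ≠ e) (hcd : c ≠ d) (hce : c ≠ e) (hde : d ≠ e)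
    (ha : a ∈ o) (hb : b ∈ o) (hc : c ∈ o) (hd : d ∈ o) (he : e ∈ o) (hf : f ∈ o)
    (hfa : a ≠ f) (hfb : b ≠ f) (hfc : c ≠ f) (hfd : d ≠ f) (hfe : e ≠ f) (hx : x ∉ o) :
    ∃ g ∈ M24, g (pt 23) = a ∧ g (pt 0) = b ∧ g (pt 1) = c ∧ g (pt 2) = d ∧ g (pt 3) = e ∧ g (pt 5) = f ∧
      g (pt 4) = x ∧ g • mset 8536111 = o := by
  obtain ⟨g, hg, g1, g2, g3, g4, g5⟩ := exists_from_base hab hac had hae hbc hbd hbe hcd hce hde
  obtain ⟨m1, m2, m3, m4, m5, m6, m7⟩ := pts_mem_oct0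
  have hgo : g • mset 8536111 = o := by
    refine octad_eq_of_pts ((smul_mem_octads hg).mpr oct0_mem) ho hab hac had hae hbc hbd hbe hcd hce hde
      ⟨?_, ha⟩ ⟨?_, hb⟩ ⟨?_, hc⟩ ⟨?_, hd⟩ ⟨?_, he⟩
    · rw [← g1]; exact (smul_mem_smul g _ _).mpr m1
    · rw [← g2]; exact (smul_mem_smul g _ _).mpr m2
    · rw [← g3]; exact (smul_mem_smul g _ _).mpr m3
    · rw [← g4]; exact (smul_mem_smul g _ _).mpr m4
    · rw [← g5]; exact (smul_mem_smul g _ _).mpr m5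
  have key : ∀ {g : Equiv.Perm GolayPt} {x y z : GolayPt}, g y = z → z ≠ x → g⁻¹ x ≠ y := by
    intro g x y z h1 h2 h3
    apply h2
    rw [← h1, ← h3, perm_apply_inv]
  have h1 : g⁻¹ f ∈ mset 8536111 := by
    rw [← smul_mem_smul g, hgo, perm_apply_inv]; exact hf
  obtain ⟨c5, _, n5, f5, e5⟩ := lvl_exists (x := g⁻¹ f) lvl5 (by decide) (by norm_num)
    (notMem_orb5 _ h1 (key g1 hfa) (key g2 hfb) (key g3 hfc) (key g4 hfd) (key g5 hfe))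
  have a1 : (g * toPerm c5) (pt 23) = a := by rw [Equiv.Perm.mul_apply, f5 23 (by decide), g1]
  have a2 : (g * toPerm c5) (pt 0) = b := by rw [Equiv.Perm.mul_apply, f5 0 (by decide), g2]
  have a3 : (g * toPerm c5) (pt 1) = c := by rw [Equiv.Perm.mul_apply, f5 1 (by decide), g3]
  have a4 : (g * toPerm c5) (pt 2) = d := by rw [Equiv.Perm.mul_apply, f5 2 (by decide), g4]
  have a5 : (g * toPerm c5) (pt 3) = e := by rw [Equiv.Perm.mul_apply, f5 3 (by decide), g5]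
  have a6 : (g * toPerm c5) (pt 5) = f := by rw [Equiv.Perm.mul_apply, e5, perm_apply_inv]
  have hk := M24.mul_mem hg n5
  have hko : (g * toPerm c5) • mset 8536111 = o := by
    rw [mul_smul, smul_oct0 n5 (f5 23 (by decide)) (f5 0 (by decide)) (f5 1 (by decide)) (f5 2 (by decide))
      (f5 3 (by decide)), hgo]
  generalize g * toPerm c5 = k at a1 a2 a3 a4 a5 a6 hk hko
  have h2 : k⁻¹ x ∉ mset 8536111 := by
    rw [← smul_mem_smul k, hko, perm_apply_inv]; exact hx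
  obtain ⟨c6, _, n6, f6, e6⟩ := lvl_exists (x := k⁻¹ x) lvl6 (by decide) (by norm_num) (notMem_orb6 _ h2)
  refine ⟨k * toPerm c6, M24.mul_mem hk n6, ?_, ?_, ?_, ?_, ?_, ?_, ?_, ?_⟩
  · rw [Equiv.Perm.mul_apply, f6 23 (by decide), a1]
  · rw [Equiv.Perm.mul_apply, f6 0 (by decide), a2]
  · rw [Equiv.Perm.mul_apply, f6 1 (by decide), a3]
  · rw [Equiv.Perm.mul_apply, f6 2 (by decide), a4]
  · rw [Equiv.Perm.mul_apply, f6 3 (by decide), a5]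
  · rw [Equiv.Perm.mul_apply, f6 5 (by decide), a6]
  · rw [Equiv.Perm.mul_apply, e6, perm_apply_inv]
  · rw [mul_smul, smul_oct0 n6 (f6 23 (by decide)) (f6 0 (by decide)) (f6 1 (by decide)) (f6 2 (by decide))
      (f6 3 (by decide)), hko]

/-- seven points `a..f` in an octad `o`, `x` outside, can be moved to any other such configuration -/
theorem exists_seven {o o' : Finset GolayPt} (ho : o ∈ octads) (ho' : o' ∈ octads) {a b c d e f x a' b' c' d' e' f' x' : GolayPt}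
    (hab : a ≠ b) (hac : a ≠ c) (had : a ≠ d)
    (hae : a ≠ e) (hbc : b ≠ c) (hbd : b ≠ d) (hbe : b ≠ e) (hcd : c ≠ d) (hce : c ≠ e) (hde : d ≠ e)
    (ha : a ∈ o) (hb : b ∈ o) (hc : c ∈ o) (hd : d ∈ o) (he : e ∈ o) (hf : f ∈ o)
    (hfa : a ≠ f) (hfb : b ≠ f) (hfc : c ≠ f) (hfd : d ≠ f) (hfe : e ≠ f) (hx : x ∉ o)
    (hab' : a' ≠ b') (hac' : a' ≠ c') (had' : a' ≠ d')
    (hae' : a' ≠ e') (hbc' : b' ≠ c') (hbd' : b' ≠ d') (hbe' : b' ≠ e') (hcd' : c' ≠ d') (hce' : c' ≠ e') (hde' : d' ≠ e')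
    (ha' : a' ∈ o') (hb' : b' ∈ o') (hc' : c' ∈ o') (hd' : d' ∈ o') (he' : e' ∈ o') (hf' : f' ∈ o')
    (hfa' : a' ≠ f') (hfb' : b' ≠ f') (hfc' : c' ≠ f') (hfd' : d' ≠ f') (hfe' : e' ≠ f') (hx' : x' ∉ o') :
    ∃ g ∈ M24, g a = a' ∧ g b = b' ∧ g c = c' ∧ g d = d' ∧ g e = e' ∧ g f = f' ∧ g x = x' ∧ g • o = o' := by
  obtain ⟨g, hg, g1, g2, g3, g4, g5, g6, g7, g8⟩ := exists_from_seven ho hab hac had hae hbc hbd hbe hcd hce hde
    ha hb hc hd he hf hfa hfb hfc hfd hfe hx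
  obtain ⟨k, hk, k1, k2, k3, k4, k5, k6, k7, k8⟩ := exists_from_seven ho' hab' hac' had' hae' hbc' hbd' hbe' hcd' hce' hde'
    ha' hb' hc' hd' he' hf' hfa' hfb' hfc' hfd' hfe' hx'
  have hi : ∀ j k : GolayPt, g j = k → g⁻¹ k = j := fun j k e => by rw [← e, perm_inv_apply]
  refine ⟨k * g⁻¹, M24.mul_mem hk (M24.inv_mem hg), ?_, ?_, ?_, ?_, ?_, ?_, ?_, ?_⟩
  · rw [Equiv.Perm.mul_apply, hi _ _ g1, k1]
  · rw [Equiv.Perm.mul_apply, hi _ _ g2, k2]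
  · rw [Equiv.Perm.mul_apply, hi _ _ g3, k3]
  · rw [Equiv.Perm.mul_apply, hi _ _ g4, k4]
  · rw [Equiv.Perm.mul_apply, hi _ _ g5, k5]
  · rw [Equiv.Perm.mul_apply, hi _ _ g6, k6]
  · rw [Equiv.Perm.mul_apply, hi _ _ g7, k7]
  · rw [mul_smul, ← g8, inv_smul_smul, k8]

theorem exists_mem_of_card_lt {s t : Finset GolayPt} (h : t.card < s.card) : ∃ x ∈ s, x ∉ t := by
  by_contra hcon
  push Not at hcon
  exact absurd (Finset.card_le_card (fun x hx => hcon x hx)) (not_le.mpr h)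

theorem exists_notMem_octad {o : Finset GolayPt} (ho : o ∈ octads) : ∃ x, x ∉ o := by
  obtain ⟨x, _, hx⟩ := exists_mem_of_card_lt (s := Finset.univ) (t := o) (by
    rw [Finset.card_univ, card_pt, ho.2]; norm_num)
  exact ⟨x, hx⟩

/-- umbral hexads: `a..e` in an octad, `x` outside -/
theorem exists_umbral {o o' : Finset GolayPt} (ho : o ∈ octads) (ho' : o' ∈ octads) {a b c d e x a' b' c' d' e' x' : GolayPt}
    (hab : a ≠ b) (hac : a ≠ c) (had : a ≠ d)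
    (hae : a ≠ e) (hbc : b ≠ c) (hbd : b ≠ d) (hbe : b ≠ e) (hcd : c ≠ d) (hce : c ≠ e) (hde : d ≠ e)
    (ha : a ∈ o) (hb : b ∈ o) (hc : c ∈ o) (hd : d ∈ o) (he : e ∈ o) (hx : x ∉ o)
    (hab' : a' ≠ b') (hac' : a' ≠ c') (had' : a' ≠ d')
    (hae' : a' ≠ e') (hbc' : b' ≠ c') (hbd' : b' ≠ d') (hbe' : b' ≠ e') (hcd' : c' ≠ d') (hce' : c' ≠ e') (hde' : d' ≠ e')
    (ha' : a' ∈ o') (hb' : b' ∈ o') (hc' : c' ∈ o') (hd' : d' ∈ o') (he' : e' ∈ o') (hx' : x' ∉ o') :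
    ∃ g ∈ M24, g a = a' ∧ g b = b' ∧ g c = c' ∧ g d = d' ∧ g e = e' ∧ g x = x' ∧ g • o = o' := by
  obtain ⟨f, hf, hf1⟩ := exists_mem_of_card_lt (s := o) (t := {a, b, c, d, e}) (by
    rw [five_card hab hac had hae hbc hbd hbe hcd hce hde, ho.2]; norm_num)
  obtain ⟨f', hf', hf1'⟩ := exists_mem_of_card_lt (s := o') (t := {a', b', c', d', e'}) (by
    rw [five_card hab' hac' had' hae' hbc' hbd' hbe' hcd' hce' hde', ho'.2]; norm_num)
  simp only [Finset.mem_insert, Finset.mem_singleton, not_or] at hf1 hf1'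
  obtain ⟨g, hg, h1, h2, h3, h4, h5, h6, h7, h8⟩ := exists_seven ho ho' hab hac had hae hbc hbd hbe hcd hce hde
    ha hb hc hd he hf (Ne.symm hf1.1) (Ne.symm hf1.2.1) (Ne.symm hf1.2.2.1) (Ne.symm hf1.2.2.2.1) (Ne.symm hf1.2.2.2.2) hx
    hab' hac' had' hae' hbc' hbd' hbe' hcd' hce' hde'
    ha' hb' hc' hd' he' hf' (Ne.symm hf1'.1) (Ne.symm hf1'.2.1) (Ne.symm hf1'.2.2.1) (Ne.symm hf1'.2.2.2.1) (Ne.symm hf1'.2.2.2.2) hx'
  exact ⟨g, hg, h1, h2, h3, h4, h5, h7, h8⟩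

/-- special hexads -/
theorem exists_special {o o' : Finset GolayPt} (ho : o ∈ octads) (ho' : o' ∈ octads) {a b c d e f a' b' c' d' e' f' : GolayPt}
    (hab : a ≠ b) (hac : a ≠ c) (had : a ≠ d)
    (hae : a ≠ e) (hbc : b ≠ c) (hbd : b ≠ d) (hbe : b ≠ e) (hcd : c ≠ d) (hce : c ≠ e) (hde : d ≠ e)
    (ha : a ∈ o) (hb : b ∈ o) (hc : c ∈ o) (hd : d ∈ o) (he : e ∈ o) (hf : f ∈ o)
    (hfa : a ≠ f) (hfb : b ≠ f) (hfc : c ≠ f) (hfd : d ≠ f) (hfe : e ≠ f)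
    (hab' : a' ≠ b') (hac' : a' ≠ c') (had' : a' ≠ d')
    (hae' : a' ≠ e') (hbc' : b' ≠ c') (hbd' : b' ≠ d') (hbe' : b' ≠ e') (hcd' : c' ≠ d') (hce' : c' ≠ e') (hde' : d' ≠ e')
    (ha' : a' ∈ o') (hb' : b' ∈ o') (hc' : c' ∈ o') (hd' : d' ∈ o') (he' : e' ∈ o') (hf' : f' ∈ o')
    (hfa' : a' ≠ f') (hfb' : b' ≠ f') (hfc' : c' ≠ f') (hfd' : d' ≠ f') (hfe' : e' ≠ f') :
    ∃ g ∈ M24, g a = a' ∧ g b = b' ∧ g c = c' ∧ g d = d' ∧ g e = e' ∧ g f = f' ∧ g • o = o' := by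
  obtain ⟨x, hx⟩ := exists_notMem_octad ho
  obtain ⟨x', hx'⟩ := exists_notMem_octad ho'
  obtain ⟨g, hg, h1, h2, h3, h4, h5, h6, h7, h8⟩ := exists_seven ho ho' hab hac had hae hbc hbd hbe hcd hce hde
    ha hb hc hd he hf hfa hfb hfc hfd hfe hx
    hab' hac' had' hae' hbc' hbd' hbe' hcd' hce' hde'
    ha' hb' hc' hd' he' hf' hfa' hfb' hfc' hfd' hfe' hx'
  exact ⟨g, hg, h1, h2, h3, h4, h5, h6, h8⟩

end Cfsg.Agent.Lib.Golay
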