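import Cfsg.Agent.Lib.GolayGraph
import Cfsg.Agent.Lib.GolayFrames
import Cfsg.Prelude.Def_SporadicCombinatorics

/-!
Tables for octads, dodecads, sextets; counting and orbit computations on them.

* `OC`, `DC`, `SX` : 4096-bit masks of the information words of octads and dodecads, of the syndromes of sextets
* `synd m` : the syndrome (12 bits) of the set with mask `m`; `synd_eq_iff`
* `sxx S` : the syndrome of a sextet `S`
* `ncard_octads_filter`, `ncard_dodecads_filter`, `ncard_sextets_filter` : counting by kernel evaluation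
-/

set_option autoImplicit false
set_option linter.constructorNameAsVariable false
set_option linter.unusedVariables false

namespace Cfsg.Agent.Lib.Golay

open Cfsg Cfsg.Agent.Lib.GolayCoset
open scoped Pointwise

/-- bit test, kernel-friendly -/
def tb (X n : ℕ) : Bool := Nat.beq (Nat.land (Nat.shiftRight X n) 1) 1

/-- mask of the information words of octads -/
@[irreducible] def OC : ℕ := 0x100000100000000000000000000080011000000000001000000000001000004200000000000000016000100421001030500000000000000400000000201000001000000000001000300010014001025060000000100000201000410000012011d002000050401111801000913024741b700000000000000020000000400011000000000000010000500010021010006430000001000000104020000010041011b0004000301028111001015090427127d00010000000001010000011000240817000000190204142140020305011711db00000402100900350011018705036356010112410053076f011e247739955f3f0000000000000001001000000000020400000000000100240000000701014112000000080000100100000101010600530001001102400503040221140035199f000000010002010000000401000510390004001210000915020111810463035f0100001000140427000302658111174b00014306011b21d71059053f172d7e77000000010400001000000102000301950002004100011309010418112056053f00010100002102470005403611182d1710000625011d147b0193035f4b1777e7000020040011011e010900531241472701100503018742770035166f1d1bb77d004201170305599314211b1d067f35ff081711bd65363f5f2747d77b53ff9ffe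

/-- mask of the information words of dodecads -/
@[irreducible] def DC : ℕ := 0x6003521141d1b05039359427717ee0053009f47277bd736655f3f1777bdee41122747099653ff11bd1e7e3f5ff35f1b1d7db735ff6f69877e77bdcffafcfa1811172d053f363f21d7477d5a9ffff6174be77793fc5ffc1dbe7bebff6f5af9035f95fa77e7dd7e6f336fff7dedbee2565f3ffabb7eeee7f6fff6cc7db8be4811814b17035f65f5147b277b9f3c6fff2d17777e59af3ffa1bded7def6fff93c053f39cf7e777ebb556ffff6b7bedee463f35ffc7edd7eeeff6faaf67bd8ed82066653ffd77bbede3f5ffcaf77db77e835ff9f667d7bebde3ff5fcfaeee8ee24b77d7b7d0ff6ffcadbee7e78fafc9ca9debeedbeffacf0907ee1db88c66aa0c00305566311db877e090f35ff7db77d7b95393f5f1e7e77db53ff6ff0bedebeed247717775f3faffc7bd7debe66f9ffac17eedbeef53ffafc7b7ddeebffca666041b71bde6f55f6ff777ebb7e3ffacfc6277b7ded6ffff6aadd7eee7ef39cfca03c9fff6f7beb7bd85ffcf59a7eeee8b4fff63cf9dee4de28afa6fac0e8d28188127d1dbe336fff6fe7777edd5ffcfa6a477db7befff6ccf67ebbe7ee5fa9fac09f5af6ffd7de7db83ffa3fc9eee7d2e86ffff95abee2eb84fc6cfca0b4e888185f3f5ff3bdee7ee196f6ffacedbeb8d8facffafc7e78bd88ffca6990e2e4488277bdeee8fcfaa66cebdee4e2f900ca0077e8ee429ac9c0a0d8b82884ac006000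

/-- mask of the syndromes of sextets -/
@[irreducible] def SX : ℕ := 0x9469699669168669698616699669699269969629966861969269699449969669699686618669088692696996699486699249699669968669209292699269691629969668966961969661699668969649964961966196106169968669962961969649699669928669699694291669699649049649964961969249699669969668699696299269699496616896499696699629290249969629499696290449499616686996699686696996964996296196699694299661699692696996499696689661499669869669611096619661299668969629966961969661699649969668699692699469691686616996699696689649699629969668699616689668688069869661926969968608698669869469166968966996964969869669966129969661611069968661698696611669699669969661942969969269499669969668966949966994962969869269166969966992966986696196946969166996966868969661166969961669699601161668964929966996966869969668166868809269499620929269698696699269691669949629926969969669619649969668699696619249699694692996699696688669699669961668691696689668688049960449926949969661499669969668966949966916966829969668966868809629499669969668699696681668688061969668966868809668688068808000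

theorem OC_ok : allLt 4096 (fun n => cond (tb OC n) (Nat.beq (pc (enc n)) 8)
    (cond (Nat.beq (pc (enc n)) 8) false true)) = true := by decide +kernel

theorem DC_ok : allLt 4096 (fun n => cond (tb DC n) (Nat.beq (pc (enc n)) 12)
    (cond (Nat.beq (pc (enc n)) 12) false true)) = true := by decide +kernel

theorem bool_of_cond {a b : Bool} (h : cond a b (cond b false true) = true) : a = b := by
  revert h; cases a <;> cases b <;> decide

theorem tb_gen {X w : ℕ} (h : allLt 4096 (fun n => cond (tb X n) (Nat.beq (pc (enc n)) w)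
    (cond (Nat.beq (pc (enc n)) w) false true)) = true) {n : ℕ} (hn : n < 4096) :
    tb X n = true ↔ pc (enc n) = w := by
  rw [bool_of_cond (allLt_iff.mp h n hn), Nat.beq_eq]

theorem tb_OC {n : ℕ} (hn : n < 4096) : tb OC n = true ↔ pc (enc n) = 8 := tb_gen OC_ok hn

theorem tb_DC {n : ℕ} (hn : n < 4096) : tb DC n = true ↔ pc (enc n) = 12 := tb_gen DC_ok hn

theorem mem_octads_tb {s : Finset GolayPt} : s ∈ octads ↔ ∃ n < 4096, tb OC n = true ∧ s = mset (enc n) := by
  rw [← mem_wordsF_eight, mem_wordsF]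
  constructor
  · rintro ⟨n, hn, h1, h2⟩; exact ⟨n, hn, (tb_OC hn).mpr h2, h1⟩
  · rintro ⟨n, hn, h1, h2⟩; exact ⟨n, hn, h2, (tb_OC hn).mp h1⟩

theorem mem_dodecads_tb {s : Finset GolayPt} : s ∈ dodecads ↔ ∃ n < 4096, tb DC n = true ∧ s = mset (enc n) := by
  rw [← mem_wordsF_twelve, mem_wordsF]
  constructor
  · rintro ⟨n, hn, h1, h2⟩; exact ⟨n, hn, (tb_DC hn).mpr h2, h1⟩
  · rintro ⟨n, hn, h1, h2⟩; exact ⟨n, hn, h2, (tb_DC hn).mp h1⟩

theorem mset_enc_injOn {a b : ℕ} (ha : a < 4096) (hb : b < 4096) (h : mset (enc a) = mset (enc b)) : a = b :=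
  enc_injOn ha hb (mset_injOn (enc_lt _) (enc_lt _) h)

/-- general counting principle -/
theorem ncard_filter_of {X : Type*} (A : Set X) (f : ℕ → X) (t : ℕ → Bool) (N : ℕ)
    (hA : ∀ x, x ∈ A ↔ ∃ n < N, t n = true ∧ x = f n)
    (hf : ∀ a < N, ∀ b < N, t a = true → t b = true → f a = f b → a = b)
    (P : X → Prop) (p : ℕ → Bool) (h : ∀ n < N, t n = true → (P (f n) ↔ p n = true)) :
    {x | x ∈ A ∧ P x}.ncard = cntLt N (fun n => cond (t n) (p n) false) := by
  classical
  rw [cntLt_eq]
  have hset : {x | x ∈ A ∧ P x} = f '' (((Finset.range N).filter fun n => cond (t n) (p n) false = true : Finset ℕ) : Set ℕ) := by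
    ext x
    simp only [Set.mem_ofPred_eq, Set.mem_image, Finset.coe_filter, Finset.mem_range]
    constructor
    · rintro ⟨hx, hP⟩
      obtain ⟨n, hn, ht, rfl⟩ := (hA x).mp hx
      exact ⟨n, ⟨hn, by rw [ht]; exact (h n hn ht).mp hP⟩, rfl⟩
    · rintro ⟨n, ⟨hn, h1⟩, rfl⟩
      cases ht : t n with
      | false => rw [ht] at h1; exact absurd h1 (by simp)
      | true =>
        rw [ht] at h1
        exact ⟨(hA _).mpr ⟨n, hn, ht, rfl⟩, (h n hn ht).mpr h1⟩
  rw [hset, Set.InjOn.ncard_image, Set.ncard_coe_finset]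
  intro a ha b hb hab
  rw [Finset.mem_coe, Finset.mem_filter, Finset.mem_range] at ha hb
  refine hf a ha.1 b hb.1 ?_ ?_ hab
  · cases ht : t a with
    | false => rw [ht] at ha; exact absurd ha.2 (by simp)
    | true => rfl
  · cases ht : t b with
    | false => rw [ht] at hb; exact absurd hb.2 (by simp)
    | true => rfl

theorem ncard_octads_filter (P : Finset GolayPt → Prop) (p : ℕ → Bool)
    (h : ∀ n < 4096, tb OC n = true → (P (mset (enc n)) ↔ p n = true)) :
    {o | o ∈ octads ∧ P o}.ncard = cntLt 4096 (fun n => cond (tb OC n) (p n) false) :=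
  ncard_filter_of octads (fun n => mset (enc n)) (tb OC) 4096 (fun _ => mem_octads_tb)
    (fun a ha b hb _ _ h => mset_enc_injOn ha hb h) P p h

theorem ncard_dodecads_filter (P : Finset GolayPt → Prop) (p : ℕ → Bool)
    (h : ∀ n < 4096, tb DC n = true → (P (mset (enc n)) ↔ p n = true)) :
    {o | o ∈ dodecads ∧ P o}.ncard = cntLt 4096 (fun n => cond (tb DC n) (p n) false) :=
  ncard_filter_of dodecads (fun n => mset (enc n)) (tb DC) 4096 (fun _ => mem_dodecads_tb)
    (fun a ha b hb _ _ h => mset_enc_injOn ha hb h) P p h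

/-! ### Syndromes -/

/-- reduction modulo the code -/
def ured (m : ℕ) : ℕ := Nat.xor m (enc (Nat.land m 4095))

/-- syndrome -/
def synd (m : ℕ) : ℕ := Nat.shiftRight (Nat.xor m (enc (Nat.land m 4095))) 12

theorem synd_def (m : ℕ) : synd m = ured m >>> 12 := rfl

theorem ured_xor (a b : ℕ) : ured (a ^^^ b) = ured a ^^^ ured b := by
  show (a ^^^ b) ^^^ enc ((a ^^^ b) &&& 4095) = (a ^^^ enc (a &&& 4095)) ^^^ (b ^^^ enc (b &&& 4095))
  rw [Nat.and_xor_distrib_right, enc_xor]
  ac_rfl

theorem ured_eq_zero_iff (m : ℕ) : ured m = 0 ↔ isCode m = true := by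
  show m ^^^ enc (m &&& 4095) = 0 ↔ Nat.beq (enc (m &&& 4095)) m = true
  rw [Nat.xor_eq_zero_iff]
  constructor
  · intro h; rw [← h]; exact Nat.beq_refl _
  · intro h; exact (Nat.eq_of_beq_eq_true h).symm

theorem ured_and (m : ℕ) : ured m &&& 4095 = 0 := by
  show (m ^^^ enc (m &&& 4095)) &&& 4095 = 0
  rw [Nat.and_xor_distrib_right, enc_and (lt_of_le_of_lt Nat.and_le_right (by norm_num)), Nat.xor_self]

theorem synd_eq_iff {a b : ℕ} : synd a = synd b ↔ isCode (a ^^^ b) = true := by
  rw [← ured_eq_zero_iff, ured_xor, Nat.xor_eq_zero_iff, synd_def, synd_def]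
  constructor
  · intro h
    apply Nat.eq_of_testBit_eq
    intro i
    by_cases hi : i < 12
    · have h12 : ∀ m, (ured m).testBit i = false := by
        intro m
        have h1 := congrArg (fun x => Nat.testBit x i) (ured_and m)
        simp only [Nat.testBit_and, Nat.zero_testBit] at h1
        have h2 : (4095 : ℕ).testBit i = true := by
          have : (4095 : ℕ) = 2 ^ 12 - 1 := by norm_num
          rw [this, Nat.testBit_two_pow_sub_one, decide_eq_true_eq]; exact hi
        rwa [h2, Bool.and_true] at h1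
      rw [h12, h12]
    · have h1 := congrArg (fun x => Nat.testBit x (i - 12)) h
      simp only [Nat.testBit_shiftRight] at h1
      rwa [show 12 + (i - 12) = i by omega] at h1
  · intro h; rw [h]

theorem synd_eq_iff' {a b : ℕ} (ha : a < 2 ^ 24) (hb : b < 2 ^ 24) :
    synd a = synd b ↔ symmDiff (mset a) (mset b) ∈ CS := by
  rw [synd_eq_iff, ← mset_xor, mset_mem_supports_iff (Nat.xor_lt_two_pow ha hb)]

theorem synd_lt {m : ℕ} (hm : m < 2 ^ 24) : synd m < 4096 := by
  rw [synd_def, Nat.shiftRight_eq_div_pow]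
  have : ured m < 2 ^ 24 := Nat.xor_lt_two_pow hm (enc_lt _)
  omega

theorem synd_shift {s : ℕ} : synd (s <<< 12) = s := by
  have h0 : s <<< 12 &&& 4095 = 0 := by
    apply Nat.eq_of_testBit_eq
    intro i
    rw [Nat.testBit_and, Nat.testBit_shiftLeft, Nat.zero_testBit]
    have : (4095 : ℕ) = 2 ^ 12 - 1 := by norm_num
    rw [this, Nat.testBit_two_pow_sub_one]
    by_cases hi : i < 12
    · have : ¬ (12 ≤ i) := by omega
      simp [this]
    · simp [hi]
  have h1 : ured (s <<< 12) = s <<< 12 := by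
    show (s <<< 12) ^^^ enc (s <<< 12 &&& 4095) = _
    rw [h0, enc_zero, Nat.xor_zero]
  rw [synd_def, h1]
  apply Nat.eq_of_testBit_eq
  intro i
  rw [Nat.testBit_shiftRight, Nat.testBit_shiftLeft]
  simp

theorem shift_lt {s : ℕ} (hs : s < 4096) : s <<< 12 < 2 ^ 24 := by
  rw [Nat.shiftLeft_eq]; omega

/-! ### Sextets -/

theorem self_mem_sextetOf {t : Finset GolayPt} (ht : t.card = 4) : t ∈ sextetOf t :=
  mem_sextetOf.mpr ⟨ht, by rw [symmDiff_self]; exact empty_mem⟩

theorem sextetOf_eq {t t' : Finset GolayPt} (h : symmDiff t t' ∈ CS) : sextetOf t = sextetOf t' := by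
  ext u
  rw [mem_sextetOf, mem_sextetOf]
  constructor
  · rintro ⟨h1, h2⟩
    exact ⟨h1, trans_mem (by rw [symmDiff_comm]; exact h) h2⟩
  · rintro ⟨h1, h2⟩
    exact ⟨h1, trans_mem h h2⟩

theorem sextetOf_mem {t : Finset GolayPt} (ht : t.card = 4) : sextetOf t ∈ sextets := by
  refine ⟨card_sextetOf ht, fun u hu => (mem_sextetOf.mp hu).1, fun u hu v hv hne => ?_⟩
  have hu' := mem_sextetOf.mp hu
  have hv' := mem_sextetOf.mp hv
  have h1 : symmDiff u v ∈ CS := trans_mem (by rw [symmDiff_comm]; exact hu'.2) hv'.2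
  have h2 := disjoint_of_tetrads h1 hu'.1 hv'.1 hne
  rw [symmDiff_of_disjoint h2] at h1
  exact ⟨h1, by rw [Finset.card_union_of_disjoint h2, hu'.1, hv'.1]⟩

theorem sextet_eq {S : Finset (Finset GolayPt)} (hS : S ∈ sextets) {t : Finset GolayPt} (ht : t ∈ S) :
    S = sextetOf t := by
  have ht4 := hS.2.1 t ht
  apply Finset.eq_of_subset_of_card_le
  · intro u hu
    by_cases hne : t = u
    · rw [← hne]; exact self_mem_sextetOf ht4
    · have h8 := hS.2.2 t ht u hu hne
      have h1 := hS.2.1 u hu
      have h2 : (t ∩ u).card = 0 := by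
        have := Finset.card_union_add_card_inter t u
        rw [h8.2, ht4, h1] at this
        omega
      have h3 : Disjoint t u := Finset.disjoint_iff_inter_eq_empty.mpr (Finset.card_eq_zero.mp h2)
      rw [mem_sextetOf]
      exact ⟨h1, by rw [symmDiff_of_disjoint h3]; exact h8.1⟩
  · rw [card_sextetOf ht4, hS.1]

theorem smul_mem_smulF (g : Equiv.Perm GolayPt) (S : Finset (Finset GolayPt)) (t : Finset GolayPt) :
    g • t ∈ g • S ↔ t ∈ S := Finset.smul_mem_smul_finset_iff g

theorem smul_sextetOf {g : Equiv.Perm GolayPt} (hg : g ∈ M24) (t : Finset GolayPt) :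
    g • sextetOf t = sextetOf (g • t) := by
  ext u
  constructor
  · intro hu
    rw [Finset.mem_smul_finset] at hu
    obtain ⟨v, hv, rfl⟩ := hu
    rw [mem_sextetOf] at hv ⊢
    rw [card_smul', ← smul_symmDiff', smul_mem_supports_iff hg]
    exact hv
  · intro hu
    rw [mem_sextetOf] at hu
    rw [Finset.mem_smul_finset]
    refine ⟨g⁻¹ • u, ?_, smul_inv_smul g u⟩
    rw [mem_sextetOf, card_smul', ← smul_mem_supports_iff hg, smul_symmDiff', smul_inv_smul]
    exact hu

theorem smul_mem_sextets93 {g : Equiv.Perm GolayPt} (hg : g ∈ M24) {S : Finset (Finset GolayPt)} (hS : S ∈ sextets) :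
    g • S ∈ sextets := by
  obtain ⟨t, ht⟩ : ∃ t, t ∈ S := by
    apply Finset.card_pos.mp
    rw [hS.1]; norm_num
  rw [sextet_eq hS ht, smul_sextetOf hg]
  exact sextetOf_mem (by rw [card_smul']; exact hS.2.1 t ht)

theorem exists_mask_mem {S : Finset (Finset GolayPt)} (hS : S ∈ sextets) : ∃ m < 2 ^ 24, mset m ∈ S := by
  obtain ⟨t, ht⟩ : ∃ t, t ∈ S := by
    apply Finset.card_pos.mp
    rw [hS.1]; norm_num
  obtain ⟨m, hm, rfl⟩ := exists_mset t
  exact ⟨m, hm, ht⟩

open Classical in
/-- the syndrome of a sextet -/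
noncomputable def sxx (S : Finset (Finset GolayPt)) : ℕ :=
  if h : ∃ m < 2 ^ 24, mset m ∈ S then synd h.choose else 0

theorem sx_eq {S : Finset (Finset GolayPt)} (hS : S ∈ sextets) {m : ℕ} (hm : m < 2 ^ 24) (h : mset m ∈ S) :
    sxx S = synd m := by
  have hex : ∃ m < 2 ^ 24, mset m ∈ S := ⟨m, hm, h⟩
  rw [sxx, dif_pos hex, synd_eq_iff' hex.choose_spec.1 hm]
  have h1 := hex.choose_spec.2
  rw [sextet_eq hS h1, mem_sextetOf] at h
  exact h.2

theorem sx_sextetOf {m : ℕ} (hm : m < 2 ^ 24) (h4 : (mset m).card = 4) : sxx (sextetOf (mset m)) = synd m :=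
  sx_eq (sextetOf_mem h4) hm (self_mem_sextetOf h4)

theorem sx_inj {S S' : Finset (Finset GolayPt)} (hS : S ∈ sextets) (hS' : S' ∈ sextets) (h : sxx S = sxx S') :
    S = S' := by
  obtain ⟨m, hm, h1⟩ := exists_mask_mem hS
  obtain ⟨m', hm', h1'⟩ := exists_mask_mem hS'
  rw [sx_eq hS hm h1, sx_eq hS' hm' h1', synd_eq_iff' hm hm'] at h
  rw [sextet_eq hS h1, sextet_eq hS' h1', sextetOf_eq h]

theorem sx_lt {S : Finset (Finset GolayPt)} (hS : S ∈ sextets) : sxx S < 4096 := by
  obtain ⟨m, hm, h1⟩ := exists_mask_mem hS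
  rw [sx_eq hS hm h1]
  exact synd_lt hm

/-- action of a coded permutation on syndromes -/
def actS (c s : ℕ) : ℕ := synd (imgM c (Nat.shiftLeft s 12))

theorem isCode_imgM {c : ℕ} (hc : inM c = true) {m : ℕ} (hm : m < 2 ^ 24) :
    isCode (imgM c m) = isCode m := by
  have hv := valid_of_inM hc
  rw [Bool.eq_iff_iff, ← mset_mem_supports_iff (imgM_lt hv _), ← mset_mem_supports_iff hm, ← toPerm_smul_mset hv]
  exact smul_mem_supports_iff (toPerm_mem_M24 hc) _

theorem imgM_xor {c : ℕ} (hc : inM c = true) (a b : ℕ) : imgM c (a ^^^ b) = imgM c a ^^^ imgM c b := by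
  have hv := valid_of_inM hc
  apply mset_injOn (imgM_lt hv _) (Nat.xor_lt_two_pow (imgM_lt hv _) (imgM_lt hv _))
  rw [mset_xor, ← toPerm_smul_mset hv, ← toPerm_smul_mset hv, ← toPerm_smul_mset hv, mset_xor, smul_symmDiff']

theorem synd_imgM {c : ℕ} (hc : inM c = true) {m m' : ℕ} (hm : m < 2 ^ 24) (hm' : m' < 2 ^ 24)
    (h : synd m = synd m') : synd (imgM c m) = synd (imgM c m') := by
  rw [synd_eq_iff, ← imgM_xor hc, isCode_imgM hc (Nat.xor_lt_two_pow hm hm'), ← synd_eq_iff]
  exact h

theorem sx_smul {c : ℕ} (hc : inM c = true) {S : Finset (Finset GolayPt)} (hS : S ∈ sextets) :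
    sxx (toPerm c • S) = actS c (sxx S) := by
  have hv := valid_of_inM hc
  obtain ⟨m, hm, h1⟩ := exists_mask_mem hS
  have h2 : mset (imgM c m) ∈ toPerm c • S := by
    rw [← toPerm_smul_mset hv]; exact (smul_mem_smulF _ _ _).mpr h1
  rw [sx_eq (smul_mem_sextets93 (toPerm_mem_M24 hc) hS) (imgM_lt hv _) h2]
  unfold actS
  apply synd_imgM hc hm (shift_lt (sx_lt hS))
  rw [synd_shift, sx_eq hS hm h1]

/-- tetrad masks through the point 23 -/
def tet (i j k : ℕ) : ℕ :=
  Nat.lor 8388608 (Nat.lor (Nat.shiftLeft 1 i) (Nat.lor (Nat.shiftLeft 1 j) (Nat.shiftLeft 1 k)))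

theorem SX_ok : allLt 23 (fun i => allLt i (fun j => allLt j (fun k => tb SX (synd (tet i j k))))) = true := by
  decide +kernel

theorem SX_count : cntLt 4096 (tb SX) = 1771 := by decide +kernel

theorem mem_mset_tet {i j k : ℕ} (p : GolayPt) :
    p ∈ mset (tet i j k) ↔ ix p = 23 ∨ ix p = i ∨ ix p = j ∨ ix p = k := by
  have h : tet i j k = 2 ^ 23 ||| (Nat.shiftLeft 1 i ||| (Nat.shiftLeft 1 j ||| Nat.shiftLeft 1 k)) := rfl
  rw [mem_mset, h]
  simp only [Nat.testBit_or, Bool.or_eq_true, testBit_one_shiftLeft, Nat.testBit_two_pow, decide_eq_true_eq]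
  tauto

theorem tet_lt {i j k : ℕ} (hi : i < 24) (hj : j < 24) (hk : k < 24) : tet i j k < 2 ^ 24 := by
  have h : ∀ i, i < 24 → Nat.shiftLeft 1 i < 2 ^ 24 := by
    intro i hi
    show 1 <<< i < 2 ^ 24
    rw [Nat.one_shiftLeft]
    exact Nat.pow_lt_pow_right (by norm_num) hi
  exact Nat.or_lt_two_pow (by norm_num) (Nat.or_lt_two_pow (h i hi) (Nat.or_lt_two_pow (h j hj) (h k hk)))

theorem exists_tet_of {t : Finset GolayPt} (ht : t.card = 4) (hn : none ∈ t) :
    ∃ i < 23, ∃ j < i, ∃ k < j, t = mset (tet i j k) := by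
  have h3 : (t.erase none).card = 3 := by rw [Finset.card_erase_of_mem hn, ht]
  obtain ⟨x, y, z, hxy, hxz, hyz, hset⟩ := Finset.card_eq_three.mp h3
  have hmem : ∀ p, p ∈ t ↔ p = none ∨ p = x ∨ p = y ∨ p = z := by
    intro p
    have : p ∈ t.erase none ↔ p = x ∨ p = y ∨ p = z := by rw [hset]; simp
    rw [Finset.mem_erase] at this
    by_cases hp : p = none
    · subst hp; simp [hn]
    · constructor
      · intro h; right; exact this.mp ⟨hp, h⟩
      · rintro (h | h)
        · exact absurd h hp
        · exact (this.mpr h).2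
  have hx : x ≠ none := by
    have : x ∈ t.erase none := by rw [hset]; simp
    exact (Finset.mem_erase.mp this).1
  have hy : y ≠ none := by
    have : y ∈ t.erase none := by rw [hset]; simp
    exact (Finset.mem_erase.mp this).1
  have hz : z ≠ none := by
    have : z ∈ t.erase none := by rw [hset]; simp
    exact (Finset.mem_erase.mp this).1
  have hlt : ∀ p : GolayPt, p ≠ none → ix p < 23 := by decide +kernel
  have h23 : ∀ p : GolayPt, ix p = 23 ↔ p = none := by decide +kernel
  have nxy : ix x ≠ ix y := fun h => hxy (ix_inj.mp h)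
  have nxz : ix x ≠ ix z := fun h => hxz (ix_inj.mp h)
  have nyz : ix y ≠ ix z := fun h => hyz (ix_inj.mp h)
  have key : ∀ i j k : ℕ, (∀ p : GolayPt, (ix p = i ∨ ix p = j ∨ ix p = k) ↔ (ix p = ix x ∨ ix p = ix y ∨ ix p = ix z)) →
      t = mset (tet i j k) := by
    intro i j k h
    ext p
    rw [hmem, mem_mset_tet, h, ix_inj, ix_inj, ix_inj, h23]
  rcases lt_or_gt_of_ne nxy with h1 | h1 <;> rcases lt_or_gt_of_ne nxz with h2 | h2 <;>
    rcases lt_or_gt_of_ne nyz with h4 | h4
  · exact ⟨_, hlt z hz, _, h4, _, h1, key _ _ _ (by intro p; tauto)⟩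
  · exact ⟨_, hlt y hy, _, h4, _, h2, key _ _ _ (by intro p; tauto)⟩
  · omega
  · exact ⟨_, hlt y hy, _, h1, _, h2, key _ _ _ (by intro p; tauto)⟩
  · exact ⟨_, hlt z hz, _, h2, _, h1, key _ _ _ (by intro p; tauto)⟩
  · omega
  · exact ⟨_, hlt x hx, _, h2, _, h4, key _ _ _ (by intro p; tauto)⟩
  · exact ⟨_, hlt x hx, _, h1, _, h4, key _ _ _ (by intro p; tauto)⟩

theorem exists_tet {S : Finset (Finset GolayPt)} (hS : S ∈ sextets) :
    ∃ i < 23, ∃ j < i, ∃ k < j, mset (tet i j k) ∈ S ∧ sxx S = synd (tet i j k) := by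
  obtain ⟨t, ht⟩ : ∃ t, t ∈ S := by
    apply Finset.card_pos.mp
    rw [hS.1]; norm_num
  obtain ⟨u, hu, hn⟩ := exists_tetrad_through (hS.2.1 t ht) none
  rw [← sextet_eq hS ht] at hu
  obtain ⟨i, hi, j, hj, k, hk, rfl⟩ := exists_tet_of (hS.2.1 u hu) hn
  exact ⟨i, hi, j, hj, k, hk, hu, sx_eq hS (tet_lt (by omega) (by omega) (by omega)) hu⟩

theorem tb_sx {S : Finset (Finset GolayPt)} (hS : S ∈ sextets) : tb SX (sxx S) = true := by
  obtain ⟨i, hi, j, hj, k, hk, -, h⟩ := exists_tet hS
  rw [h]
  exact allLt_iff.mp (allLt_iff.mp (allLt_iff.mp SX_ok i hi) j hj) k hk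

theorem card_tetrads_none : ((Finset.univ : Finset (Finset GolayPt)).filter fun t => t.card = 4 ∧ none ∈ t).card = 1771 := by
  classical
  have h : ((Finset.univ : Finset (Finset GolayPt)).filter fun t => t.card = 4 ∧ none ∈ t) =
      (((Finset.univ : Finset GolayPt).erase none).powersetCard 3).image (fun u => insert none u) := by
    ext t
    simp only [Finset.mem_filter, Finset.mem_univ, true_and, Finset.mem_image, Finset.mem_powersetCard]
    constructor
    · rintro ⟨h4, hn⟩
      refine ⟨t.erase none, ⟨?_, by rw [Finset.card_erase_of_mem hn, h4]⟩, Finset.insert_erase hn⟩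
      exact Finset.erase_subset_erase _ (Finset.subset_univ _)
    · rintro ⟨u, ⟨hu, h3⟩, rfl⟩
      have hnu : (none : GolayPt) ∉ u := fun h => (Finset.mem_erase.mp (hu h)).1 rfl
      exact ⟨by rw [Finset.card_insert_of_notMem hnu, h3], Finset.mem_insert_self _ _⟩
  rw [h, Finset.card_image_of_injOn, Finset.card_powersetCard, Finset.card_erase_of_mem (Finset.mem_univ _),
    Finset.card_univ, card_pt]
  · decide +kernel
  · intro u hu v hv huv
    rw [Finset.mem_coe, Finset.mem_powersetCard] at hu hv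
    have hnu : (none : GolayPt) ∉ u := fun h => (Finset.mem_erase.mp (hu.1 h)).1 rfl
    have hnv : (none : GolayPt) ∉ v := fun h => (Finset.mem_erase.mp (hv.1 h)).1 rfl
    have huv' : insert none u = insert none v := huv
    rw [← Finset.erase_insert hnu, huv', Finset.erase_insert hnv]

theorem ncard_sextets93 : sextets.ncard = 1771 := by
  classical
  have hset : sextets = sextetOf '' (((Finset.univ : Finset (Finset GolayPt)).filter fun t => t.card = 4 ∧ none ∈ t :
      Finset (Finset GolayPt)) : Set (Finset GolayPt)) := by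
    ext S
    simp only [Set.mem_image, Finset.coe_filter, Finset.mem_univ, true_and, Set.mem_ofPred_eq]
    constructor
    · intro hS
      obtain ⟨t, ht⟩ : ∃ t, t ∈ S := by
        apply Finset.card_pos.mp
        rw [hS.1]; norm_num
      obtain ⟨u, hu, hn⟩ := exists_tetrad_through (hS.2.1 t ht) none
      rw [← sextet_eq hS ht] at hu
      exact ⟨u, ⟨hS.2.1 u hu, hn⟩, (sextet_eq hS hu).symm⟩
    · rintro ⟨t, ⟨h4, -⟩, rfl⟩
      exact sextetOf_mem h4
  rw [hset, Set.InjOn.ncard_image, Set.ncard_coe_finset, card_tetrads_none]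
  intro t ht u hu htu
  rw [Finset.mem_coe, Finset.mem_filter] at ht hu
  by_contra hne
  have h1 : u ∈ sextetOf t := by
    have htu' : sextetOf t = sextetOf u := htu
    rw [htu']; exact self_mem_sextetOf hu.2.1
  have h2 := disjoint_of_tetrads (mem_sextetOf.mp h1).2 ht.2.1 hu.2.1 hne
  exact Finset.disjoint_left.mp h2 ht.2.2 hu.2.2

theorem exists_sextet_of_tb {s : ℕ} (hs : s < 4096) (h : tb SX s = true) : ∃ S ∈ sextets, sxx S = s := by
  classical
  have hfin : (sxx '' sextets) = (((Finset.range 4096).filter fun n => tb SX n = true : Finset ℕ) : Set ℕ) := by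
    apply Set.eq_of_subset_of_ncard_le
    · rintro _ ⟨S, hS, rfl⟩
      rw [Finset.mem_coe, Finset.mem_filter, Finset.mem_range]
      exact ⟨sx_lt hS, tb_sx hS⟩
    · rw [Set.ncard_coe_finset, ← cntLt_eq, SX_count, Set.InjOn.ncard_image, ncard_sextets93]
      intro S hS S' hS' e
      exact sx_inj hS hS' e
    · exact Finset.finite_toSet _
  have : s ∈ sxx '' sextets := by
    rw [hfin, Finset.mem_coe, Finset.mem_filter, Finset.mem_range]
    exact ⟨hs, h⟩
  obtain ⟨S, hS, e⟩ := this
  exact ⟨S, hS, e⟩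

open Classical in
/-- the sextet with a given syndrome -/
noncomputable def ofS (s : ℕ) : Finset (Finset GolayPt) :=
  if h : ∃ S ∈ sextets, sxx S = s then h.choose else ∅

theorem ofS_sx {S : Finset (Finset GolayPt)} (hS : S ∈ sextets) : ofS (sxx S) = S := by
  have h : ∃ S' ∈ sextets, sxx S' = sxx S := ⟨S, hS, rfl⟩
  rw [ofS, dif_pos h]
  exact sx_inj h.choose_spec.1 hS h.choose_spec.2

theorem sx_ofS {s : ℕ} (hs : s < 4096) (h : tb SX s = true) : ofS s ∈ sextets ∧ sxx (ofS s) = s := by
  have h1 := exists_sextet_of_tb hs h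
  rw [ofS, dif_pos h1]
  exact h1.choose_spec

theorem mem_sextets_tb {S : Finset (Finset GolayPt)} :
    S ∈ sextets ↔ ∃ s < 4096, tb SX s = true ∧ S = ofS s := by
  constructor
  · intro hS; exact ⟨sxx S, sx_lt hS, tb_sx hS, (ofS_sx hS).symm⟩
  · rintro ⟨s, hs, h, h'⟩
    rw [h']
    exact (sx_ofS hs h).1

theorem ofS_inj {a b : ℕ} (ha : a < 4096) (hb : b < 4096) (ta : tb SX a = true) (tb' : tb SX b = true)
    (e : ofS a = ofS b) : a = b := by
  have h1 := (sx_ofS ha ta).2
  rw [e, (sx_ofS hb tb').2] at h1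
  exact h1.symm

theorem ncard_sextets_filter (P : Finset (Finset GolayPt) → Prop) (p : ℕ → Bool)
    (h : ∀ S ∈ sextets, (P S ↔ p (sxx S) = true)) :
    {S | S ∈ sextets ∧ P S}.ncard = cntLt 4096 (fun n => cond (tb SX n) (p n) false) := by
  apply ncard_filter_of sextets ofS (tb SX) 4096 (fun _ => mem_sextets_tb)
  · intro a ha b hb ta tb' e
    exact ofS_inj ha hb ta tb' e
  · intro n hn hn'
    rw [h _ (sx_ofS hn hn').1, (sx_ofS hn hn').2]

end Cfsg.Agent.Lib.Golay
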