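import Cfsg.Agent.Lib.GolayOrbit
import Cfsg.Agent.Lib.GolaySeven
import Cfsg.Agent.Lib.GolayOctad
import Cfsg.Agent.Lib.GolayM12b

/-!
Orbits of the subgroup of `M24` fixing a coded set `o` and the points of a coded set `F` on code words, by
kernel-checked certificates.
-/

set_option autoImplicit false
set_option linter.constructorNameAsVariable false
set_option linter.unusedVariables false

namespace Cfsg.Agent.Lib.Golay

open Cfsg
open scoped Pointwise

/-- elements of `M24` fixing the set coded by `o` and the points coded by `F` -/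
def Hs (o F : ℕ) : Subgroup (Equiv.Perm GolayPt) :=
  M24 ⊓ MulAction.stabilizer (Equiv.Perm GolayPt) (mset o) ⊓
    fixingSubgroup (Equiv.Perm GolayPt) (mset F : Set GolayPt)

theorem mem_Hs {o F : ℕ} {g : Equiv.Perm GolayPt} :
    g ∈ Hs o F ↔ g ∈ M24 ∧ g • mset o = mset o ∧ ∀ p ∈ mset F, g p = p := by
  unfold Hs
  rw [Subgroup.mem_inf, Subgroup.mem_inf, mem_fixingSubgroup_iff, MulAction.mem_stabilizer_iff]
  constructor
  · rintro ⟨⟨h1, h2⟩, h3⟩
    exact ⟨h1, h2, fun p hp => h3 p (Finset.mem_coe.mpr hp)⟩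
  · rintro ⟨h1, h2, h3⟩
    exact ⟨⟨h1, h2⟩, fun p hp => h3 p (Finset.mem_coe.mp hp)⟩

/-- check that the coded permutations of the list are in `Hs o F` -/
def wGens (o F : ℕ) (L : List ℕ) : Bool :=
  L.all fun c => cond (inM c) (cond (Nat.beq (imgM c o) o) (fixesOK F [c]) false) false

theorem wGens_spec {o F : ℕ} {L : List ℕ} (h : wGens o F L = true) {c : ℕ} (hc : c ∈ L) :
    inM c = true ∧ toPerm c ∈ Hs o F := by
  have h1 := List.all_eq_true.mp h c hc
  simp only [cond_false_eq] at h1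
  obtain ⟨h1, h2, h3⟩ := h1
  have hv := valid_of_inM h1
  refine ⟨h1, mem_Hs.mpr ⟨toPerm_mem_M24 h1, ?_, ?_⟩⟩
  · rw [toPerm_smul_mset hv, Nat.eq_of_beq_eq_true h2]
  · intro p hp
    exact fixes_of_OK h3 (List.mem_singleton.mpr rfl) hv hp

/-- action of generator number `s` on masks -/
def wdAct (L : List ℕ) (s y : ℕ) : ℕ := imgM (L.getD s idC) y

theorem lt_of_isCode' {y : ℕ} (h : isCode y = true) : y < 2 ^ 24 := by
  obtain ⟨n, hn, rfl⟩ := isCode_iff.mp h
  exact enc_lt n

theorem inM_idC : inM idC = true := by decide +kernel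

theorem wdAct_spec {o F : ℕ} {L : List ℕ} (hL : wGens o F L = true) (s y : ℕ) (hy : isCode y = true) :
    isCode (wdAct L s y) = true ∧ ∃ g ∈ Hs o F, mset (wdAct L s y) = g • mset y := by
  have key : ∀ c, inM c = true → isCode (imgM c y) = true := by
    intro c hc
    rw [← mset_mem_supports_iff (imgM_lt (valid_of_inM hc) y), ← toPerm_smul_mset (valid_of_inM hc),
      smul_mem_supports_iff (toPerm_mem_M24 hc), mset_mem_supports_iff (lt_of_isCode' hy)]
    exact hy
  unfold wdAct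
  by_cases hs : s < L.length
  · have hmem : L.getD s idC ∈ L := by
      rw [List.getD_eq_getElem _ _ hs]; exact List.getElem_mem _
    obtain ⟨h1, h2⟩ := wGens_spec hL hmem
    exact ⟨key _ h1, _, h2, (toPerm_smul_mset (valid_of_inM h1) y).symm⟩
  · have : L.getD s idC = idC := List.getD_eq_default _ _ (not_lt.mp hs)
    rw [this]
    refine ⟨key _ inM_idC, 1, Subgroup.one_mem _, ?_⟩
    rw [← toPerm_smul_mset (valid_of_inM inM_idC), toPerm_idC]

/-- code words of weight `w` containing `a`, disjoint from `b`, meeting `o` in `k` points -/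
def Sw (w a b o k : ℕ) : Set (Finset GolayPt) :=
  {x | x ∈ wordsOfWeight (golayCode : Set (GolayPt → ZMod 2)) w ∧ mset a ⊆ x ∧ Disjoint (mset b) x ∧
    (mset o ∩ x).card = k}

/-- the same as a Boolean test on masks -/
def Qw (w a b o k y : ℕ) : Bool :=
  cond (Nat.beq (pc y) w) (cond (Nat.beq (Nat.land y a) a) (cond (Nat.beq (Nat.land y b) 0)
    (Nat.beq (pc (Nat.land o y)) k) false) false) false

theorem mset_subset_iff {a y : ℕ} (ha : a < 2 ^ 24) (hy : y < 2 ^ 24) :
    mset a ⊆ mset y ↔ Nat.land y a = a := by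
  have h : mset (Nat.land y a) = mset y ∩ mset a := mset_and y a
  constructor
  · intro h1
    apply mset_injOn (lt_of_le_of_lt Nat.and_le_right ha) ha
    show mset (Nat.land y a) = mset a
    rw [h, Finset.inter_eq_right]; exact h1
  · intro h1
    rw [h1] at h
    rw [h]; exact Finset.inter_subset_left

theorem mset_disjoint_iff {b y : ℕ} (hy : y < 2 ^ 24) :
    Disjoint (mset b) (mset y) ↔ Nat.land y b = 0 := by
  have h : mset (Nat.land y b) = mset y ∩ mset b := mset_and y b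
  rw [disjoint_comm, Finset.disjoint_iff_inter_eq_empty, ← h, ← mset_zero]
  constructor
  · intro h1
    exact mset_injOn (lt_of_le_of_lt Nat.and_le_left hy) (by norm_num) h1
  · intro h1; rw [h1]

theorem Qw_iff {w a b o k y : ℕ} (ha : a < 2 ^ 24) (hy : isCode y = true) :
    Qw w a b o k y = true ↔ mset y ∈ Sw w a b o k := by
  have hy2 := lt_of_isCode' hy
  unfold Qw Sw
  simp only [cond_false_eq, Nat.beq_eq, Set.mem_ofPred_eq]
  rw [mset_subset_iff ha hy2, mset_disjoint_iff hy2]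
  have h1 : (mset o ∩ mset y).card = pc (Nat.land o y) := by
    rw [← card_mset]; congr 1; exact (mset_and o y).symm
  rw [h1]
  have h2 : mset y ∈ wordsOfWeight (golayCode : Set (GolayPt → ZMod 2)) w ↔ pc y = w := by
    rw [← card_mset]
    exact ⟨fun h => h.2, fun h => ⟨(mset_mem_supports_iff hy2).mpr hy, h⟩⟩
  rw [h2]

theorem ncard_Sw {w a b o k : ℕ} (ha : a < 2 ^ 24) :
    (Sw w a b o k).ncard = cntLt 4096 (fun n => force (enc n) fun y => Qw w a b o k y) := by
  apply ncard_code_sets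
  intro s
  have hcode : ∀ n < 4096, isCode (enc n) = true := fun n hn => isCode_iff.mpr ⟨n, hn, rfl⟩
  constructor
  · intro hs
    obtain ⟨n, hn, rfl⟩ := mem_supports_iff.mp hs.1.1
    exact ⟨n, hn, rfl, by rw [force_eq]; exact (Qw_iff ha (hcode n hn)).mpr hs⟩
  · rintro ⟨n, hn, rfl, h⟩
    rw [force_eq] at h
    exact (Qw_iff ha (hcode n hn)).mp h

theorem Sw_inv {w a b o F k : ℕ} (haF : Nat.land a F = a) (hbF : Nat.land b F = b) :
    ∀ g ∈ Hs o F, ∀ x ∈ Sw w a b o k, g • x ∈ Sw w a b o k := by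
  intro g hg x hx
  obtain ⟨h1, h2, h3⟩ := mem_Hs.mp hg
  obtain ⟨h4, h5, h6, h7⟩ := hx
  have hsub : ∀ c : ℕ, Nat.land c F = c → ∀ p ∈ mset c, g p = p := by
    intro c hc p hp
    apply h3
    have : mset (Nat.land c F) = mset c ∩ mset F := mset_and c F
    rw [hc] at this
    rw [this] at hp
    exact (Finset.mem_inter.mp hp).2
  refine ⟨⟨(smul_mem_supports_iff h1 x).mpr h4.1, by rw [card_smul']; exact h4.2⟩, ?_, ?_, ?_⟩
  · intro p hp
    rw [← hsub a haF p hp]
    exact (smul_mem_smul g x p).mpr (h5 hp)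
  · rw [Finset.disjoint_left] at h6 ⊢
    intro p hp hpx
    rw [← hsub b hbF p hp] at hpx
    exact h6 hp ((smul_mem_smul g x p).mp hpx)
  · rw [← h7, ← card_smul' g (mset o ∩ x), smul_inter', h2]

/-- The certificate theorem. -/
theorem Sw_transitive {w a b o F k : ℕ} {L : List ℕ} {A B rt N : ℕ} (hL : wGens o F L = true)
    (h : orbChk isCode (fun y => y) (wdAct L) 24 A B rt N = true) (hrt : rt < N)
    (ha : a < 2 ^ 24) (haF : Nat.land a F = a) (hbF : Nat.land b F = b)
    (hroot : Qw w a b o k (arr 24 A rt) = true)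
    (hcnt : cntLt 4096 (fun n => force (enc n) fun y => Qw w a b o k y) = N) :
    (Sw w a b o k).ncard = N ∧ ∀ x ∈ Sw w a b o k, ∀ y ∈ Sw w a b o k, ∃ g ∈ Hs o F, g • x = y := by
  have hc : (Sw w a b o k).ncard = N := by rw [ncard_Sw ha]; exact hcnt
  refine ⟨hc, ?_⟩
  have hP := (orbChk_spec h hrt).1
  have h1 := orbChk_transitive h hrt (Hs o F) (fun y => mset y)
    (fun s y hy => wdAct_spec hL s y hy) (fun y z _ _ e => by rw [e])
    (fun y z hy hz e => mset_injOn (lt_of_isCode' hy) (lt_of_isCode' hz) e)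
    (S := Sw w a b o k) (Set.toFinite _) ((Qw_iff ha hP).mp hroot) (Sw_inv haF hbF) (le_of_eq hc)
  intro x hx y hy
  obtain ⟨g, hg, hgx⟩ := h1 x hx
  obtain ⟨k', hk, hky⟩ := h1 y hy
  refine ⟨k' * g⁻¹, (Hs o F).mul_mem hk ((Hs o F).inv_mem hg), ?_⟩
  rw [mul_smul, ← hgx, inv_smul_smul, hky]

/-- transport of a set of words by an element of `M24` -/
theorem transport_Sw {w a b o F k : ℕ} {g : Equiv.Perm GolayPt} (hg : g ∈ M24) {T : Set (Finset GolayPt)}
    (hT : ∀ x, g • x ∈ T ↔ x ∈ Sw w a b o k) {N : ℕ}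
    (h : (Sw w a b o k).ncard = N ∧ ∀ x ∈ Sw w a b o k, ∀ y ∈ Sw w a b o k, ∃ g ∈ Hs o F, g • x = y) :
    T.ncard = N ∧ ∀ x ∈ T, ∀ y ∈ T, ∃ k ∈ M24, k • (g • mset o) = g • mset o ∧
      (∀ p ∈ mset F, k (g p) = g p) ∧ k • x = y := by
  obtain ⟨h1, h2⟩ := h
  constructor
  · rw [← h1]
    have : T = (fun s : Finset GolayPt => g • s) '' Sw w a b o k := by
      ext s
      rw [Set.mem_image]
      constructor
      · intro hs
        exact ⟨g⁻¹ • s, (hT _).mp (by rwa [smul_inv_smul]), smul_inv_smul _ _⟩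
      · rintro ⟨t, ht, rfl⟩; exact (hT t).mpr ht
    rw [this, Set.ncard_image_of_injective _ (MulAction.injective g)]
  · intro x hx y hy
    obtain ⟨k, hk, hkx⟩ := h2 (g⁻¹ • x) ((hT _).mp (by rwa [smul_inv_smul])) (g⁻¹ • y)
      ((hT _).mp (by rwa [smul_inv_smul]))
    obtain ⟨k1, k2, k3⟩ := mem_Hs.mp hk
    refine ⟨g * k * g⁻¹, M24.mul_mem (M24.mul_mem hg k1) (M24.inv_mem hg), ?_, ?_, ?_⟩
    · rw [mul_smul, mul_smul, inv_smul_smul, k2]
    · intro p hp
      rw [Equiv.Perm.mul_apply, Equiv.Perm.mul_apply, perm_inv_apply, k3 p hp]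
    · rw [mul_smul, mul_smul, hkx, smul_inv_smul]

end Cfsg.Agent.Lib.Golay
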