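import Mathlib

/-!
Exceptional characters for groups of Ree type: final combinatorics and arithmetic (seat helper95).
-/

set_option autoImplicit false

namespace Cfsg.Agent.Lib.GoldC195

open Finset

/-- a `3 × 4` sign matrix with orthogonal rows -/
theorem core (s : Fin 3 → Fin 4 → ℚ) (hs : ∀ i k, s i k * s i k = 1) (orth : ∀ i j, i ≠ j → ∑ k, s i k * s j k = 0)
    (x : Fin 4 → ℚ) (k : Fin 4) :
    4 * x k = s 0 k * (∑ l, s 0 l * x l) + s 1 k * (∑ l, s 1 l * x l) + s 2 k * (∑ l, s 2 l * x l) +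
      (s 0 k * s 1 k * s 2 k) * (∑ l, (s 0 l * s 1 l * s 2 l) * x l) := by
  let M : Matrix (Fin 4) (Fin 4) ℚ := ![s 0, s 1, s 2, fun l => s 0 l * s 1 l * s 2 l]
  have e01 := orth 0 1 (by decide)
  have e02 := orth 0 2 (by decide)
  have e12 := orth 1 2 (by decide)
  have n0 : ∀ l, s 0 l * s 0 l = 1 := hs 0
  have n1 : ∀ l, s 1 l * s 1 l = 1 := hs 1
  have n2 : ∀ l, s 2 l * s 2 l = 1 := hs 2
  have key : M * ((1 / 4 : ℚ) • M.transpose) = 1 := by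
    ext i j
    rw [Matrix.mul_smul, Matrix.smul_apply, Matrix.mul_apply, Matrix.one_apply, smul_eq_mul]
    simp only [Matrix.transpose_apply]
    have q1 : ∀ l, s 0 l * (s 0 l * s 1 l * s 2 l) = s 1 l * s 2 l := fun l => by
      linear_combination (s 1 l * s 2 l) * n0 l
    have q2 : ∀ l, s 1 l * (s 0 l * s 1 l * s 2 l) = s 0 l * s 2 l := fun l => by
      linear_combination (s 0 l * s 2 l) * n1 l
    have q3 : ∀ l, s 2 l * (s 0 l * s 1 l * s 2 l) = s 0 l * s 1 l := fun l => by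
      linear_combination (s 0 l * s 1 l) * n2 l
    have q4 : ∀ l, (s 0 l * s 1 l * s 2 l) * (s 0 l * s 1 l * s 2 l) = 1 := fun l => by
      linear_combination (s 1 l * s 1 l * s 2 l * s 2 l) * n0 l + (s 2 l * s 2 l) * n1 l + n2 l
    have q1' : ∀ l, (s 0 l * s 1 l * s 2 l) * s 0 l = s 1 l * s 2 l := fun l => by
      linear_combination (s 1 l * s 2 l) * n0 l
    have q2' : ∀ l, (s 0 l * s 1 l * s 2 l) * s 1 l = s 0 l * s 2 l := fun l => by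
      linear_combination (s 0 l * s 2 l) * n1 l
    have q3' : ∀ l, (s 0 l * s 1 l * s 2 l) * s 2 l = s 0 l * s 1 l := fun l => by
      linear_combination (s 0 l * s 1 l) * n2 l
    have c4 : (∑ _l : Fin 4, (1 : ℚ)) = 4 := by simp
    fin_cases i <;> fin_cases j
    · show 1 / 4 * ∑ l, s 0 l * s 0 l = 1
      simp only [n0, c4]; norm_num
    · show 1 / 4 * ∑ l, s 0 l * s 1 l = 0
      rw [e01, mul_zero]
    · show 1 / 4 * ∑ l, s 0 l * s 2 l = 0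
      rw [e02, mul_zero]
    · show 1 / 4 * ∑ l, s 0 l * (s 0 l * s 1 l * s 2 l) = 0
      simp only [q1]; rw [e12, mul_zero]
    · show 1 / 4 * ∑ l, s 1 l * s 0 l = 0
      rw [orth 1 0 (by decide), mul_zero]
    · show 1 / 4 * ∑ l, s 1 l * s 1 l = 1
      simp only [n1, c4]; norm_num
    · show 1 / 4 * ∑ l, s 1 l * s 2 l = 0
      rw [e12, mul_zero]
    · show 1 / 4 * ∑ l, s 1 l * (s 0 l * s 1 l * s 2 l) = 0
      simp only [q2]; rw [e02, mul_zero]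
    · show 1 / 4 * ∑ l, s 2 l * s 0 l = 0
      rw [orth 2 0 (by decide), mul_zero]
    · show 1 / 4 * ∑ l, s 2 l * s 1 l = 0
      rw [orth 2 1 (by decide), mul_zero]
    · show 1 / 4 * ∑ l, s 2 l * s 2 l = 1
      simp only [n2, c4]; norm_num
    · show 1 / 4 * ∑ l, s 2 l * (s 0 l * s 1 l * s 2 l) = 0
      simp only [q3]; rw [e01, mul_zero]
    · show 1 / 4 * ∑ l, (s 0 l * s 1 l * s 2 l) * s 0 l = 0
      simp only [q1']; rw [e12, mul_zero]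
    · show 1 / 4 * ∑ l, (s 0 l * s 1 l * s 2 l) * s 1 l = 0
      simp only [q2']; rw [e02, mul_zero]
    · show 1 / 4 * ∑ l, (s 0 l * s 1 l * s 2 l) * s 2 l = 0
      simp only [q3']; rw [e01, mul_zero]
    · show 1 / 4 * ∑ l, (s 0 l * s 1 l * s 2 l) * (s 0 l * s 1 l * s 2 l) = 1
      simp only [q4, c4]; norm_num
  have key2 : ((1 / 4 : ℚ) • M.transpose) * M = 1 := mul_eq_one_comm.1 key
  have h4 := congrFun (congrArg (fun A => Matrix.mulVec A x) key2) k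
  simp only [Matrix.one_mulVec, Matrix.smul_mul, Matrix.smul_mulVec, Pi.smul_apply, smul_eq_mul] at h4
  rw [← Matrix.mulVec_mulVec] at h4
  have e : ∀ v : Fin 4 → ℚ, (M.transpose.mulVec v) k = s 0 k * v 0 + s 1 k * v 1 + s 2 k * v 2 + (s 0 k * s 1 k * s 2 k) * v 3 := by
    intro v
    rw [Matrix.mulVec, dotProduct, Fin.sum_univ_four]
    rfl
  rw [e] at h4
  have f0 : (M.mulVec x) 0 = ∑ l, s 0 l * x l := rfl
  have f1 : (M.mulVec x) 1 = ∑ l, s 1 l * x l := rfl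
  have f2 : (M.mulVec x) 2 = ∑ l, s 2 l * x l := rfl
  have f3 : (M.mulVec x) 3 = ∑ l, (s 0 l * s 1 l * s 2 l) * x l := rfl
  rw [f0, f1, f2, f3] at h4
  linarith

theorem core2 {ι : Type*} (S : Finset ι) (hS : S.card = 4) (s : Fin 3 → ι → ℚ) (hs : ∀ i, ∀ k ∈ S, s i k * s i k = 1)
    (orth : ∀ i j, i ≠ j → ∑ k ∈ S, s i k * s j k = 0) (x : ι → ℚ) {k : ι} (hk : k ∈ S) :
    4 * x k = s 0 k * (∑ l ∈ S, s 0 l * x l) + s 1 k * (∑ l ∈ S, s 1 l * x l) + s 2 k * (∑ l ∈ S, s 2 l * x l) +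
      (s 0 k * s 1 k * s 2 k) * (∑ l ∈ S, (s 0 l * s 1 l * s 2 l) * x l) := by
  classical
  let e := S.equivFinOfCardEq hS
  have hsum : ∀ f : ι → ℚ, ∑ l ∈ S, f l = ∑ m : Fin 4, f (e.symm m) := by
    intro f
    rw [← Finset.sum_coe_sort, ← Equiv.sum_comp e.symm]
  have h := core (fun i m => s i (e.symm m)) (fun i m => hs i _ (e.symm m).2)
    (fun i j hij => by rw [← hsum (fun l => s i l * s j l)]; exact orth i j hij) (fun m => x (e.symm m)) (e ⟨k, hk⟩)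
  simp only [Equiv.symm_apply_apply] at h
  rw [hsum (fun l => s 0 l * x l), hsum (fun l => s 1 l * x l), hsum (fun l => s 2 l * x l),
    hsum (fun l => (s 0 l * s 1 l * s 2 l) * x l)]
  exact h

theorem arith (n : ℕ) (hn : 1 ≤ n) (g f : ℕ) (b c σ : ℤ) (hσ : σ = 1 ∨ σ = -1) (hb : b = c + σ * (3 ^ (2 * n + 1) - 1)) (hf : 0 < f)
    (h : b * g = f * (3 ^ (2 * n + 1)) ^ 3 * ((3 ^ (2 * n + 1)) ^ 2 - 1))
    (hc : 12 * (3 ^ (2 * n + 1) - 1 : ℤ) ^ 2 + 4 * c ^ 2 ≤ 3 ^ (2 * n + 1) * ((3 ^ (2 * n + 1)) ^ 2 - 1)) :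
    3 ^ (2 * n + 2) ∣ g := by
  by_contra hcon
  have hq27 : (27 : ℤ) ≤ 3 ^ (2 * n + 1) := by
    calc (27 : ℤ) = 3 ^ 3 := by norm_num
      _ ≤ 3 ^ (2 * n + 1) := pow_le_pow_right₀ (by norm_num) (by omega)
  obtain ⟨q, hq⟩ : ∃ q : ℤ, q = 3 ^ (2 * n + 1) := ⟨_, rfl⟩
  have hg0 : g ≠ 0 := by rintro rfl; exact hcon (dvd_zero _)
  -- g = 3^k g', k ≤ 2n+1
  obtain ⟨k, g', hg', hgk⟩ := Nat.exists_eq_pow_mul_and_not_dvd hg0 3 (by norm_num)
  have hk : k ≤ 2 * n + 1 := by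
    by_contra hk
    apply hcon
    rw [hgk]
    exact (pow_dvd_pow 3 (by omega)).trans (Dvd.intro _ rfl)
  have h1 : (3 : ℤ) ^ (3 * (2 * n + 1)) ∣ b * g := by
    rw [h]
    refine Dvd.dvd.mul_right (Dvd.dvd.mul_left ?_ _) _
    rw [← pow_mul, mul_comm]
  have h2 : (3 : ℤ) ^ (2 * (2 * n + 1)) ∣ b := by
    have h3 : (3 : ℤ) ^ (2 * (2 * n + 1)) * 3 ^ (2 * n + 1) ∣ (b * g') * 3 ^ (2 * n + 1) := by
      rw [← pow_add, show 2 * (2 * n + 1) + (2 * n + 1) = 3 * (2 * n + 1) by ring]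
      refine h1.trans ?_
      rw [hgk]
      push_cast
      obtain ⟨m, hm⟩ := Nat.exists_eq_add_of_le hk
      rw [hm, pow_add]
      exact ⟨3 ^ m, by ring⟩
    have h4 := Int.dvd_of_mul_dvd_mul_right (by positivity) h3
    have h5 : IsCoprime ((3 : ℤ) ^ (2 * (2 * n + 1))) (g' : ℤ) := by
      apply IsCoprime.pow_left
      rw [Int.isCoprime_iff_gcd_eq_one]
      have : Nat.Coprime 3 g' := (Nat.Prime.coprime_iff_not_dvd Nat.prime_three).2 hg'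
      exact this
    exact h5.dvd_of_dvd_mul_right h4
  have hqq : (3 : ℤ) ^ (2 * (2 * n + 1)) = q ^ 2 := by rw [hq, ← pow_mul, mul_comm]
  rw [hqq] at h2
  rw [← hq] at h hc hb hq27
  have hb0 : b ≠ 0 := by
    rintro rfl
    rw [zero_mul] at h
    have : (0 : ℤ) < f * q ^ 3 * (q ^ 2 - 1) := by
      have h6 : (0 : ℤ) < f := by exact_mod_cast hf
      have h7 : (0 : ℤ) < q ^ 2 - 1 := by nlinarith
      have h8 : (0 : ℤ) < q ^ 3 := by positivity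
      positivity
    omega
  have hble : q ^ 2 ≤ |b| := Int.le_of_dvd (abs_pos.2 hb0) ((dvd_abs _ _).2 h2)
  have hcle : q ^ 2 - q ≤ |c| := by
    have h6 : |b| ≤ |c| + (q - 1) := by
      rw [hb]
      refine (abs_add_le _ _).trans ?_
      rw [abs_mul]
      have h7 : |σ| = 1 := by rcases hσ with rfl | rfl <;> simp
      rw [h7, one_mul, abs_of_nonneg (show (0 : ℤ) ≤ q - 1 by omega)]
    omega
  have h9 : (q ^ 2 - q) ^ 2 ≤ c ^ 2 := by
    rw [← sq_abs c]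
    apply pow_le_pow_left₀ _ hcle
    nlinarith
  nlinarith [sq_nonneg (q - 1), mul_nonneg (sub_nonneg.2 hq27) (sq_nonneg q), mul_nonneg (sub_nonneg.2 hq27) (sq_nonneg (q * q - q))]

theorem main {ι : Type*} [Fintype ι] (n : ℕ) (hn : 1 ≤ n) (g : ℕ) (a : Fin 3 → ι → ℤ) (d : ι → ℕ) (hd : ∀ χ, 0 < d χ) (t : ι → ℤ)
    (h4 : ∀ i, ∑ χ, a i χ ^ 2 = 4) (horth : ∀ i j, i ≠ j → ∑ χ, a i χ * a j χ = 0) (hpar : ∀ i j χ, (2 : ℤ) ∣ a i χ - a j χ)
    (hdeg : ∀ i, ∑ χ, a i χ * (d χ : ℤ) = 0) (ht : ∀ i, ∑ χ, a i χ * t χ = 4 * (3 ^ (2 * n + 1) - 1))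
    (hsq : ∑ χ, t χ ^ 2 = 3 ^ (2 * n + 1) * ((3 ^ (2 * n + 1)) ^ 2 - 1))
    (hN : (∑ χ, (a 0 χ : ℚ) * (t χ : ℚ) ^ 2 / (d χ : ℚ)) * g = 8 * (3 ^ (2 * n + 1)) ^ 3 * (3 ^ (2 * n + 1) - 1) ^ 2 * (3 ^ (2 * n + 1) + 1)) :
    3 ^ (2 * n + 2) ∣ g := by
  classical
  obtain ⟨q, hq⟩ : ∃ q : ℤ, q = 3 ^ (2 * n + 1) := ⟨_, rfl⟩
  have hq27 : (27 : ℤ) ≤ q := by
    rw [hq]
    calc (27 : ℤ) = 3 ^ 3 := by norm_num
      _ ≤ 3 ^ (2 * n + 1) := pow_le_pow_right₀ (by norm_num) (by omega)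
  -- entries are at most 1 in absolute value
  have hle : ∀ i χ, a i χ ^ 2 ≤ 1 := by
    intro i χ
    by_contra hcon
    push Not at hcon
    have h1 : 4 ≤ a i χ ^ 2 := by
      have : 2 ≤ |a i χ| := by
        by_contra h2
        push Not at h2
        have h3 : |a i χ| ≤ 1 := by omega
        have : a i χ ^ 2 ≤ 1 := by rw [← sq_abs]; nlinarith [abs_nonneg (a i χ)]
        omega
      rw [← sq_abs]; nlinarith
    have h2 : ∀ ψ, ψ ≠ χ → a i ψ = 0 := by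
      intro ψ hψ
      by_contra hne
      have h3 : a i χ ^ 2 + a i ψ ^ 2 ≤ ∑ φ, a i φ ^ 2 := by
        rw [← Finset.sum_pair (f := fun φ => a i φ ^ 2) hψ.symm]
        exact Finset.sum_le_sum_of_subset_of_nonneg (Finset.subset_univ _) (fun _ _ _ => sq_nonneg _)
      rw [h4] at h3
      have h5 : 0 < a i ψ ^ 2 := by positivity
      omega
    have h3 := hdeg i
    rw [Finset.sum_eq_single χ (fun ψ _ hψ => by rw [h2 ψ hψ, zero_mul]) (fun h => absurd (Finset.mem_univ _) h)] at h3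
    rcases mul_eq_zero.1 h3 with h5 | h5
    · rw [h5] at h1; norm_num at h1
    · have := hd χ; omega
  set S : Finset ι := Finset.univ.filter (fun χ => a 0 χ ^ 2 = 1) with hSd
  have hzo : ∀ i χ, a i χ ^ 2 = 0 ∨ a i χ ^ 2 = 1 := by
    intro i χ
    have h1 := hle i χ
    have h2 := sq_nonneg (a i χ)
    omega
  have hSi : ∀ i χ, a i χ ^ 2 = 1 ↔ χ ∈ S := by
    intro i χ
    rw [hSd, Finset.mem_filter]
    have h1 := hpar i 0 χ
    have hev : ∀ z : ℤ, z ^ 2 = 0 ∨ z ^ 2 = 1 → (z ^ 2 = 1 ↔ ¬ (2 : ℤ) ∣ z) := by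
      intro z hz
      constructor
      · intro h h2
        obtain ⟨m, rfl⟩ := h2
        have : (2 * m) ^ 2 = 2 * (2 * m ^ 2) := by ring
        omega
      · intro h
        rcases hz with hz | hz
        · exfalso; apply h
          have : z = 0 := by simpa using hz
          rw [this]; exact dvd_zero 2
        · exact hz
    rw [hev _ (hzo i χ), hev _ (hzo 0 χ)]
    constructor
    · intro h
      exact ⟨Finset.mem_univ _, fun h2 => h (by omega)⟩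
    · rintro ⟨-, h⟩ h2
      exact h (by omega)
  have hout : ∀ i χ, χ ∉ S → a i χ = 0 := by
    intro i χ hχ
    rcases hzo i χ with h | h
    · simpa using h
    · exact absurd ((hSi i χ).1 h) hχ
  have hsum : ∀ (i : Fin 3) (F : ι → ℚ), ∑ χ, (a i χ : ℚ) * F χ = ∑ χ ∈ S, (a i χ : ℚ) * F χ := by
    intro i F
    symm
    apply Finset.sum_subset (Finset.subset_univ S)
    intro χ _ hχ
    rw [hout i χ hχ]; simp
  have hS4 : S.card = 4 := by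
    have h1 := h4 0
    have h2 : ∑ χ, a 0 χ ^ 2 = ∑ χ ∈ S, a 0 χ ^ 2 := by
      symm
      apply Finset.sum_subset (Finset.subset_univ S)
      intro χ _ hχ
      rw [hout 0 χ hχ]; norm_num
    rw [h2, Finset.sum_congr rfl (fun χ hχ => (hSi 0 χ).2 hχ)] at h1
    simp at h1
    exact_mod_cast h1
  have hs1 : ∀ i, ∀ χ ∈ S, (a i χ : ℚ) * a i χ = 1 := by
    intro i χ hχ
    have := (hSi i χ).2 hχ
    rw [pow_two] at this
    exact_mod_cast this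
  have horth' : ∀ i j, i ≠ j → ∑ χ ∈ S, (a i χ : ℚ) * a j χ = 0 := by
    intro i j hij
    rw [← hsum i (fun χ => (a j χ : ℚ))]
    exact_mod_cast horth i j hij
  have hcore := fun (x : ι → ℚ) {k : ι} (hk : k ∈ S) => core2 S hS4 (fun i χ => (a i χ : ℚ)) hs1 horth' x hk
  -- degrees
  have hD := fun i => (hsum i (fun χ => (d χ : ℚ))).symm
  have hD' : ∀ i, ∑ χ ∈ S, (a i χ : ℚ) * d χ = 0 := by
    intro i; rw [hD]; exact_mod_cast hdeg i
  set e : ι → ℚ := fun χ => (a 0 χ : ℚ) * a 1 χ * a 2 χ with he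
  have he1 : ∀ χ ∈ S, e χ * e χ = 1 := by
    intro χ hχ
    have n0 := hs1 0 χ hχ
    have n1 := hs1 1 χ hχ
    have n2 := hs1 2 χ hχ
    simp only [he]
    linear_combination ((a 1 χ : ℚ) * a 1 χ * a 2 χ * a 2 χ) * n0 + ((a 2 χ : ℚ) * a 2 χ) * n1 + n2
  have hdd : ∀ χ ∈ S, 4 * (d χ : ℚ) = e χ * (∑ l ∈ S, e l * d l) := by
    intro χ hχ
    have h1 := hcore (fun χ => (d χ : ℚ)) hχ
    rw [hD', hD', hD'] at h1
    simp only [mul_zero, zero_add] at h1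
    exact h1
  set Dd := ∑ l ∈ S, e l * (d l : ℚ) with hDd
  obtain ⟨χ₀, hχ₀⟩ : S.Nonempty := by rw [← Finset.card_pos, hS4]; norm_num
  have hDd0 : 0 < e χ₀ * Dd := by
    rw [← hdd χ₀ hχ₀]
    have := hd χ₀
    positivity
  have heconst : ∀ χ ∈ S, e χ = e χ₀ := by
    intro χ hχ
    have h1 : 0 < e χ * Dd := by
      rw [← hdd χ hχ]
      have := hd χ
      positivity
    have h2 := he1 χ hχ
    have h3 := he1 χ₀ hχ₀
    have h5 : (e χ - e χ₀) * (e χ + e χ₀) = 0 := by linear_combination h2 - h3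
    rcases mul_eq_zero.1 h5 with h6 | h6
    · linarith
    · exfalso
      have h7 : e χ = - e χ₀ := by linarith
      rw [h7] at h1
      linarith
  obtain ⟨σ, hσd⟩ : ∃ σ : ℤ, σ = a 0 χ₀ * a 1 χ₀ * a 2 χ₀ := ⟨_, rfl⟩
  have hσe : e χ₀ = σ := by rw [hσd]; push_cast; rfl
  have hσσ : σ * σ = 1 := by
    have := he1 χ₀ hχ₀
    rw [hσe] at this
    exact_mod_cast this
  have hσ1 : σ = 1 ∨ σ = -1 := by
    have : (σ - 1) * (σ + 1) = 0 := by linear_combination hσσ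
    rcases mul_eq_zero.1 this with h | h
    · left; omega
    · right; omega
  have heσ : ∀ χ ∈ S, (a 0 χ : ℚ) * a 1 χ * a 2 χ = σ := fun χ hχ => (heconst χ hχ).trans hσe
  -- all degrees equal
  have hdf : ∀ χ ∈ S, d χ = d χ₀ := by
    intro χ hχ
    have h1 := hdd χ hχ
    have h2 := hdd χ₀ hχ₀
    rw [heconst χ hχ, ← h2] at h1
    have h3 : (d χ : ℚ) = d χ₀ := by linarith
    exact_mod_cast h3
  -- values
  obtain ⟨p, hp⟩ : ∃ p : ℚ, p = (q : ℚ) - 1 := ⟨_, rfl⟩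
  have hT : ∀ i, ∑ χ ∈ S, (a i χ : ℚ) * t χ = 4 * p := by
    intro i
    rw [← hsum i (fun χ => (t χ : ℚ)), hp, hq]
    exact_mod_cast ht i
  set E : ι → ℚ := fun χ => (a 0 χ : ℚ) + a 1 χ + a 2 χ with hE
  obtain ⟨c, hc⟩ : ∃ c : ℚ, ∀ χ ∈ S, (t χ : ℚ) = p * E χ + c := by
    refine ⟨σ * (∑ l ∈ S, e l * (t l : ℚ)) / 4, fun χ hχ => ?_⟩
    have h1 := hcore (fun χ => (t χ : ℚ)) hχ
    rw [hT, hT, hT, heσ χ hχ] at h1
    simp only [hE]
    simp only [he]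
    linarith
  -- sums
  have hz : ∀ i, ∑ χ ∈ S, (a i χ : ℚ) = 0 := by
    have key : ∀ i j k : Fin 3, (∀ χ ∈ S, (a i χ : ℚ) * a j χ * a k χ = σ) → j ≠ k → ∑ χ ∈ S, (a i χ : ℚ) = 0 := by
      intro i j k hijk hjk
      have h1 := horth' j k hjk
      have h2 : ∑ χ ∈ S, (a i χ : ℚ) = σ * ∑ χ ∈ S, (a j χ : ℚ) * a k χ := by
        rw [Finset.mul_sum]
        apply Finset.sum_congr rfl
        intro χ hχ
        have n1 := hijk χ hχ
        have n2 := hs1 j χ hχ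
        have n3 := hs1 k χ hχ
        rw [← n1]
        linear_combination (-(a i χ : ℚ) * (a j χ : ℚ) ^ 2) * n3 - (a i χ : ℚ) * n2
      rw [h2, h1, mul_zero]
    intro i
    fin_cases i
    · exact key 0 1 2 heσ (by decide)
    · exact key 1 0 2 (fun χ hχ => by rw [← heσ χ hχ]; ring) (by decide)
    · exact key 2 0 1 (fun χ hχ => by rw [← heσ χ hχ]; ring) (by decide)
  have hEE : ∀ χ ∈ S, E χ * E χ = 3 + 2 * σ * E χ := by
    intro χ hχ
    have n0 := hs1 0 χ hχ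
    have n1 := hs1 1 χ hχ
    have n2 := hs1 2 χ hχ
    simp only [hE]
    rw [← heσ χ hχ]
    linear_combination (1 - 2 * (a 1 χ : ℚ) * a 2 χ) * n0 + (1 - 2 * (a 0 χ : ℚ) * a 2 χ) * n1 + (1 - 2 * (a 0 χ : ℚ) * a 1 χ) * n2
  have hEsum : ∑ χ ∈ S, E χ = 0 := by
    simp only [hE]
    rw [Finset.sum_add_distrib, Finset.sum_add_distrib, hz, hz, hz]; norm_num
  have hE2 : ∑ χ ∈ S, E χ * E χ = 12 := by
    rw [Finset.sum_congr rfl hEE, Finset.sum_add_distrib, ← Finset.mul_sum, hEsum]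
    simp [hS4]; norm_num
  have hn4 : ∑ χ ∈ S, (a 0 χ : ℚ) * a 0 χ = 4 := by
    rw [Finset.sum_congr rfl (hs1 0)]; simp [hS4]
  have haE : ∑ χ ∈ S, (a 0 χ : ℚ) * E χ = 4 := by
    have : ∀ χ, (a 0 χ : ℚ) * E χ = (a 0 χ : ℚ) * a 0 χ + (a 0 χ : ℚ) * a 1 χ + (a 0 χ : ℚ) * a 2 χ := by
      intro χ; simp only [hE]; ring
    rw [Finset.sum_congr rfl (fun χ _ => this χ), Finset.sum_add_distrib, Finset.sum_add_distrib, hn4,
      horth' 0 1 (by decide), horth' 0 2 (by decide)]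
    norm_num
  have haEE : ∑ χ ∈ S, (a 0 χ : ℚ) * (E χ * E χ) = 8 * σ := by
    have : ∀ χ ∈ S, (a 0 χ : ℚ) * (E χ * E χ) = 3 * (a 0 χ : ℚ) + 2 * σ * ((a 0 χ : ℚ) * E χ) := by
      intro χ hχ; rw [hEE χ hχ]; ring
    rw [Finset.sum_congr rfl this, Finset.sum_add_distrib, ← Finset.mul_sum, ← Finset.mul_sum, hz, haE]
    ring
  -- class constant
  have hd0 : (d χ₀ : ℚ) ≠ 0 := by
    have := hd χ₀
    positivity
  have hNN : (8 * p * (c + σ * p)) * g = d χ₀ * (8 * q ^ 3 * (q - 1) ^ 2 * (q + 1)) := by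
    have h1 : ∑ χ, (a 0 χ : ℚ) * (t χ : ℚ) ^ 2 / (d χ : ℚ) = (8 * p * (c + σ * p)) / d χ₀ := by
      have h2 : ∀ χ, (a 0 χ : ℚ) * (t χ : ℚ) ^ 2 / (d χ : ℚ) = (a 0 χ : ℚ) * ((t χ : ℚ) ^ 2 / (d χ : ℚ)) := by
        intro χ; ring
      rw [Finset.sum_congr rfl (fun χ _ => h2 χ), hsum 0]
      have h3 : ∀ χ ∈ S, (a 0 χ : ℚ) * ((t χ : ℚ) ^ 2 / (d χ : ℚ)) =
          (p ^ 2 * ((a 0 χ : ℚ) * (E χ * E χ)) + 2 * p * c * ((a 0 χ : ℚ) * E χ) + c ^ 2 * (a 0 χ : ℚ)) * (1 / d χ₀) := by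
        intro χ hχ
        rw [hc χ hχ, hdf χ hχ]
        field_simp
        ring
      rw [Finset.sum_congr rfl h3, ← Finset.sum_mul, Finset.sum_add_distrib, Finset.sum_add_distrib, ← Finset.mul_sum,
        ← Finset.mul_sum, ← Finset.mul_sum, haEE, haE, hz]
      field_simp
      ring
    have h5 : (3 : ℚ) ^ (2 * n + 1) = q := by rw [hq]; push_cast; rfl
    rw [h1, h5] at hN
    field_simp at hN
    linarith
  -- integrality
  obtain ⟨cz, hcz⟩ : ∃ cz : ℤ, (cz : ℚ) = c := by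
    refine ⟨t χ₀ - (q - 1) * (a 0 χ₀ + a 1 χ₀ + a 2 χ₀), ?_⟩
    have := hc χ₀ hχ₀
    push_cast
    rw [this, hp]
    simp only [hE]
    ring
  have hq1 : (q : ℚ) - 1 ≠ 0 := by
    have : (27 : ℚ) ≤ q := by exact_mod_cast hq27
    linarith
  have hb : ((cz + σ * (q - 1) : ℤ) : ℚ) * g = d χ₀ * q ^ 3 * (q ^ 2 - 1) := by
    push_cast
    rw [hcz]
    rw [hp] at hNN
    have h1 : (8 * ((q : ℚ) - 1)) * ((c + σ * (q - 1)) * g) = (8 * ((q : ℚ) - 1)) * (d χ₀ * q ^ 3 * (q ^ 2 - 1)) := by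
      linear_combination hNN
    exact mul_left_cancel₀ (mul_ne_zero (by norm_num) hq1) h1
  have hb' : (cz + σ * (q - 1)) * (g : ℤ) = d χ₀ * q ^ 3 * (q ^ 2 - 1) := by exact_mod_cast hb
  -- square sum
  have hsqS : ∑ χ ∈ S, (t χ : ℚ) ^ 2 = 12 * p ^ 2 + 4 * c ^ 2 := by
    have h3 : ∀ χ ∈ S, (t χ : ℚ) ^ 2 = p ^ 2 * (E χ * E χ) + 2 * p * c * E χ + c ^ 2 := by
      intro χ hχ
      rw [hc χ hχ]; ring
    rw [Finset.sum_congr rfl h3, Finset.sum_add_distrib, Finset.sum_add_distrib, ← Finset.mul_sum, ← Finset.mul_sum,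
      hE2, hEsum]
    simp [hS4]; ring
  have hsqle : ∑ χ ∈ S, t χ ^ 2 ≤ q * (q ^ 2 - 1) := by
    rw [hq, ← hsq]
    exact Finset.sum_le_sum_of_subset_of_nonneg (Finset.subset_univ _) (fun _ _ _ => sq_nonneg _)
  have hcle : 12 * (q - 1) ^ 2 + 4 * cz ^ 2 ≤ q * (q ^ 2 - 1) := by
    have h1 : (12 * ((q : ℚ) - 1) ^ 2 + 4 * (cz : ℚ) ^ 2) ≤ q * (q ^ 2 - 1) := by
      rw [hcz, ← hp, ← hsqS]
      exact_mod_cast hsqle
    exact_mod_cast h1
  rw [hq] at hb' hcle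
  exact arith n hn g (d χ₀) _ cz σ hσ1 rfl (hd χ₀) hb' hcle

end Cfsg.Agent.Lib.GoldC195
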