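import Mathlib
import Cfsg.Agent.Lib.GoldD95e
import Cfsg.Agent.Lib.GoldU95
import Cfsg.Agent.Lib.GoldC95
import Cfsg.Agent.Lib.S3Sec

/-!
Groups of Ree type involve `S₃` (seat helper95).
-/

set_option autoImplicit false

namespace Cfsg.Agent.Lib.GoldD95

open Subgroup

theorem S3F.of_free {G : Type*} [Group G] (h : ¬ Involves (Equiv.Perm (Fin 3)) G) : S3F G := by
  intro u s hu hs hus
  obtain ⟨j, hj⟩ := hs
  have hu' : u⁻¹ = u := inv_eq_of_mul_eq_one_left hu
  induction j generalizing s with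
  | zero => simpa using hj
  | succ j ih =>
    have h3 : s ^ 3 = 1 := by
      apply ih (s ^ 3)
      · rw [← conj_pow, hus, inv_pow]
      · rw [← pow_mul, ← pow_succ']; exact hj
    by_contra hne
    apply h
    refine S3Sec.involves_perm_three s u h3 hne hu ?_
    calc u * s * u = u * s * u⁻¹ := by rw [hu']
      _ = s⁻¹ := hus

theorem KD.four {G : Type*} [Group G] {F : Type*} [Field F] [Fintype F] {n : ℕ} (hF : Fintype.card F = 3 ^ n)
    {t : G} {K : Subgroup G} (h : KD F t K) : ∃ i ∈ K, ∃ j ∈ K, ∃ w ∈ K, i * i = 1 ∧ j * j = 1 ∧ i ≠ 1 ∧ j ≠ 1 ∧ i ≠ j ∧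
      j * i = i * j ∧ w * i * w⁻¹ = i * j ∧ w * j * w⁻¹ = i ∧ w ^ 3 = 1 := by
  obtain ⟨-, -, ⟨e⟩⟩ := h
  obtain ⟨i, j, w, hii, hjj, hi1, hj1, hij, hji, hwi, hwj, hwww⟩ := psl_four (two_ne hF)
  have key : ∀ a b : Matrix.ProjectiveSpecialLinearGroup (Fin 2) F, a = b ↔ (e.symm a : G) = (e.symm b : G) := by
    intro a b
    constructor
    · intro h; rw [h]
    · intro h; exact e.symm.injective (Subtype.ext h)
  refine ⟨e.symm i, (e.symm i).2, e.symm j, (e.symm j).2, e.symm w, (e.symm w).2, ?_, ?_, ?_, ?_, ?_, ?_, ?_, ?_, ?_⟩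
  · have := (key _ _).1 hii; simpa using this
  · have := (key _ _).1 hjj; simpa using this
  · intro h; apply hi1; rw [key]; simpa using h
  · intro h; apply hj1; rw [key]; simpa using h
  · intro h; apply hij; rw [key]; simpa using h
  · have := (key _ _).1 hji; simpa using this
  · have := (key _ _).1 hwi; simpa using this
  · have := (key _ _).1 hwj; simpa using this
  · have := (key _ _).1 hwww
    rw [pow_succ, pow_two]; simpa using this

theorem ree_involves {G : Type*} [Group G] [Finite G] (h : IsReeType G) : Involves (Equiv.Perm (Fin 3)) G := by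
  by_contra hcon
  have hS := S3F.of_free hcon
  obtain ⟨F, iF, iFt, n, hn, hF, hR, t, ht⟩ := R.of_ree h
  obtain ⟨K, hK⟩ := hR.cen t ht
  obtain ⟨i, hiK, j, hjK, y, hyK, hi, hj, hi1, hj1, hij, hji, hyi, hyj, hy3⟩ := hK.four hF
  have hoi := order_two_of hi hi1
  have hoj := order_two_of hj hj1
  obtain ⟨U, hU, hUc, hU4, hUw⟩ := GoldU95.main hn hF hR j i hoj hoi hij.symm hji
  have hy1 : y ≠ 1 := by rintro rfl; apply hij; rw [← hyj]; group
  have : Fact (Nat.Prime 3) := ⟨Nat.prime_three⟩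
  have hy3o : orderOf y = 3 := orderOf_eq_prime hy3 hy1
  by_cases hyU : ∀ u ∈ U, y * u = u * y
  · exact caseA hn hF hR hS hK hiK hjK hyK hi hj hi1 hj1 hij hji hyi hyj hy3 U hU hUc hU4 hUw hyU
  · push Not at hyU
    obtain ⟨u, hu, hyu⟩ := hyU
    obtain ⟨L, hL⟩ := hR.cen j hoj
    apply v3 hn hF hR hS hK hyK hy3o
    refine GoldC95.main n hn hF j i y L U hoj hoi hij hji.symm hL.2.1 hL.2.2 hyj ?_ hy3o hUc ?_ ?_ ?_ ?_ ?_
    · rw [hyi, hji]
    · rw [hU4, hF]
    · intro w hw; exact ((hU w).1 hw).1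
    · intro w hw; exact ((hU w).1 hw).2.1
    · intro w hw
      obtain ⟨h1, h2, h3⟩ := (hU w).1 hw
      rw [hU]
      -- y⁻¹ normalizes
      have ej : j = y * (j * i) * y⁻¹ := by
        calc j = i * (i * j) := by rw [← mul_assoc, hi, one_mul]
          _ = (y * j * y⁻¹) * (y * i * y⁻¹) := by rw [hyi, hyj]
          _ = _ := by group
      have h12 : w * (j * i) = (j * i) * w := by rw [← mul_assoc, h1, mul_assoc, h2, mul_assoc]
      refine ⟨?_, ?_, ?_⟩
      · calc y * w * y⁻¹ * j = y * w * y⁻¹ * (y * (j * i) * y⁻¹) := by rw [← ej]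
          _ = y * (w * (j * i)) * y⁻¹ := by group
          _ = y * ((j * i) * w) * y⁻¹ := by rw [h12]
          _ = (y * (j * i) * y⁻¹) * (y * w * y⁻¹) := by group
          _ = j * (y * w * y⁻¹) := by rw [← ej]
      · calc y * w * y⁻¹ * i = y * w * y⁻¹ * (y * j * y⁻¹) := by rw [hyj]
          _ = y * (w * j) * y⁻¹ := by group
          _ = y * (j * w) * y⁻¹ := by rw [h1]
          _ = (y * j * y⁻¹) * (y * w * y⁻¹) := by group
          _ = i * (y * w * y⁻¹) := by rw [hyj]
      · rw [conj_pow, h3]; group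
    · refine ⟨u, hu, fun h => hyu ?_⟩
      calc y * u = (y * u * y⁻¹) * y := by group
        _ = u * y := by rw [h]

end Cfsg.Agent.Lib.GoldD95
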