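import Mathlib

set_option autoImplicit false

/-!
# Involutions of `A_m`, `m ≥ 6`, lie in the derived group of their centralizer
-/

namespace Cfsg.Agent.Lib.H10AltInv

open Equiv Equiv.Perm
open scoped commutatorElement

variable {α : Type*} [Fintype α] [DecidableEq α]

/-- even permutations commuting with `σ` -/
def D (σ : Perm α) : Subgroup (Perm α) := Subgroup.centralizer {σ} ⊓ alternatingGroup α

theorem mem_D {σ x : Perm α} : x ∈ D σ ↔ x * σ = σ * x ∧ sign x = 1 := by
  rw [D, Subgroup.mem_inf, Subgroup.mem_centralizer_singleton_iff, mem_alternatingGroup]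

omit [Fintype α] in
theorem conj_swap (σ : Perm α) (a b : α) : σ * swap a b = swap (σ a) (σ b) * σ := by
  rw [swap_apply_apply, inv_mul_cancel_right]

omit [Fintype α] in
theorem swap_comm_inv {σ : Perm α} (h2 : ∀ x, σ (σ x) = x) (a : α) : swap a (σ a) * σ = σ * swap a (σ a) := by
  rw [conj_swap, h2, swap_comm]

theorem exists_ef (h6 : 6 ≤ Fintype.card α) {σ : Perm α} (h2 : ∀ x, σ (σ x) = x) (a c : α) :
    ∃ e f : α, e ≠ f ∧ (e ≠ a ∧ e ≠ σ a ∧ e ≠ c ∧ e ≠ σ c) ∧ (f ≠ a ∧ f ≠ σ a ∧ f ≠ c ∧ f ≠ σ c) ∧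
      swap e f * σ = σ * swap e f := by
  classical
  have hcard : ∀ s : Finset α, s.card ≤ 5 → ∃ e, e ∉ s := by
    intro s hs
    by_contra hno
    push Not at hno
    have h1 : s = Finset.univ := Finset.eq_univ_iff_forall.2 hno
    rw [h1, Finset.card_univ] at hs
    omega
  have key : ∀ e, (e ≠ a ∧ e ≠ σ a ∧ e ≠ c ∧ e ≠ σ c) → (σ e ≠ a ∧ σ e ≠ σ a ∧ σ e ≠ c ∧ σ e ≠ σ c) := by
    rintro e ⟨h3, h4, h5, h6⟩
    refine ⟨fun h => h4 (by rw [← h, h2]), fun h => h3 (σ.injective h), fun h => h6 (by rw [← h, h2]),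
      fun h => h5 (σ.injective h)⟩
  obtain ⟨e, he⟩ := hcard {a, σ a, c, σ c} (by
    refine le_trans (Finset.card_le_four) (by norm_num))
  simp only [Finset.mem_insert, Finset.mem_singleton, not_or] at he
  by_cases hσ : σ e = e
  · obtain ⟨f, hf⟩ := hcard {e, a, σ a, c, σ c} (Finset.card_le_five)
    simp only [Finset.mem_insert, Finset.mem_singleton, not_or] at hf
    by_cases hf2 : σ f = f
    · refine ⟨e, f, fun h => hf.1 h.symm, he, hf.2, ?_⟩
      rw [conj_swap, hσ, hf2]
    · exact ⟨f, σ f, fun h => hf2 h.symm, hf.2, key f hf.2, swap_comm_inv h2 f⟩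
  · exact ⟨e, σ e, fun h => hσ h.symm, he, key e he, swap_comm_inv h2 e⟩

theorem two_swaps (h6 : 6 ≤ Fintype.card α) {σ : Perm α} (h2 : ∀ x, σ (σ x) = x) {a c : α} (ha : σ a ≠ a) (hc : σ c ≠ c)
    (hca : c ≠ a) (hca' : c ≠ σ a) : swap c (σ c) * swap a (σ a) ∈ ⁅D σ, D σ⁆ := by
  obtain ⟨e, f, hef, he, hf, hcomm⟩ := exists_ef h6 h2 a c
  have hbd : σ a ≠ σ c := fun h => hca (σ.injective h).symm
  have had : a ≠ σ c := fun h => hca' (by rw [h, h2])
  have ha' : a ≠ σ a := fun h => ha h.symm
  have hc' : c ≠ σ c := fun h => hc h.symm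
  set A := swap a c * swap (σ a) (σ c) with hA
  set B := swap a (σ a) * swap e f with hB
  have hAm : A ∈ D σ := by
    rw [mem_D]
    constructor
    · rw [hA, ← mul_assoc σ, conj_swap σ a c, mul_assoc _ σ, conj_swap σ (σ a) (σ c), h2, h2, ← mul_assoc]
      congr 1
      have hdis : Disjoint (swap a c) (swap (σ a) (σ c)) := by
        apply disjoint_swap_swap
        simp [ha', hc', hca', had, hca.symm, hbd]
      exact hdis.commute
    · rw [hA, Perm.sign_mul, sign_swap hca.symm, sign_swap hbd]; rfl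
  have hBm : B ∈ D σ := by
    rw [mem_D]
    constructor
    · rw [hB, mul_assoc, hcomm, ← mul_assoc, swap_comm_inv h2, mul_assoc]
    · rw [hB, Perm.sign_mul, sign_swap ha', sign_swap hef]; rfl
  have h3 : (⁅A, B⁆ : Perm α) = swap c (σ c) * swap a (σ a) := by
    rw [commutatorElement_def]
    have e1 : A * B = swap c (σ c) * swap e f * A := by
      rw [hB, ← mul_assoc, conj_swap A a (σ a), mul_assoc _ A, conj_swap A e f, ← mul_assoc]
      have h4 : A a = c := by
        rw [hA, Perm.mul_apply, swap_apply_of_ne_of_ne ha' had, swap_apply_left]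
      have h5 : A (σ a) = σ c := by
        rw [hA, Perm.mul_apply, swap_apply_left, swap_apply_of_ne_of_ne (fun h => had h.symm) (fun h => hc h)]
      have h6 : A e = e := by
        rw [hA, Perm.mul_apply, swap_apply_of_ne_of_ne he.2.1 he.2.2.2, swap_apply_of_ne_of_ne he.1 he.2.2.1]
      have h7 : A f = f := by
        rw [hA, Perm.mul_apply, swap_apply_of_ne_of_ne hf.2.1 hf.2.2.2, swap_apply_of_ne_of_ne hf.1 hf.2.2.1]
      rw [h4, h5, h6, h7]
    rw [e1, mul_inv_cancel_right, hB, mul_inv_rev, swap_inv, swap_inv, mul_assoc, ← mul_assoc (swap e f),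
      swap_mul_self, one_mul]
  rw [← h3]
  exact Subgroup.commutator_mem_commutator hAm hBm

theorem sub_mem (h6 : 6 ≤ Fintype.card α) {σ : Perm α} (h2 : ∀ x, σ (σ x) = x) : ∀ (n : ℕ) (ρ : Perm α),
    (Finset.univ.filter (fun x => ρ x ≠ x)).card ≤ n → (∀ x, ρ x = x ∨ ρ x = σ x) → sign ρ = 1 → ρ ∈ ⁅D σ, D σ⁆ := by
  intro n
  induction n using Nat.strong_induction_on with
  | _ n ih =>
    intro ρ hn hρ hs
    -- removing a transposition
    have rem : ∀ (ρ : Perm α) (a : α), (∀ x, ρ x = x ∨ ρ x = σ x) → ρ a ≠ a →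
        ρ a = σ a ∧ (∀ x, (swap a (σ a) * ρ) x = x ∨ (swap a (σ a) * ρ) x = σ x) ∧
        (swap a (σ a) * ρ) a = a ∧ (swap a (σ a) * ρ) (σ a) = σ a ∧
        (∀ x, ρ x = x → (swap a (σ a) * ρ) x = x) := by
      intro ρ a hρ ha
      have h3 : ρ a = σ a := (hρ a).resolve_left ha
      have h4 : ρ (σ a) = a := by
        rcases hρ (σ a) with h | h
        · exact absurd (ρ.injective (h3.trans h.symm)) (fun h5 => ha (h3.trans h5.symm))
        · rw [h, h2]
      have h5 : (swap a (σ a) * ρ) a = a := by rw [Perm.mul_apply, h3, swap_apply_right]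
      have h6 : (swap a (σ a) * ρ) (σ a) = σ a := by rw [Perm.mul_apply, h4, swap_apply_left]
      have h7 : ∀ x, x ≠ a → x ≠ σ a → (swap a (σ a) * ρ) x = ρ x := by
        intro x hx hx'
        rw [Perm.mul_apply, swap_apply_of_ne_of_ne]
        · intro h; exact hx' (ρ.injective (h.trans h4.symm))
        · intro h; exact hx (ρ.injective (h.trans h3.symm))
      refine ⟨h3, ?_, h5, h6, ?_⟩
      · intro x
        by_cases hx : x = a
        · rw [hx]; exact Or.inl h5
        · by_cases hx' : x = σ a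
          · rw [hx']; exact Or.inl h6
          · rw [h7 x hx hx']; exact hρ x
      · intro x hx
        by_cases hx1 : x = a
        · rw [hx1]; exact h5
        · by_cases hx' : x = σ a
          · rw [hx']; exact h6
          · rw [h7 x hx1 hx']; exact hx
    by_cases h1 : ρ = 1
    · rw [h1]; exact Subgroup.one_mem _
    · obtain ⟨a, ha⟩ : ∃ a, ρ a ≠ a := by
        by_contra hno; push Not at hno; exact h1 (Equiv.ext hno)
      obtain ⟨r1, r2, r3, r4, r5⟩ := rem ρ a hρ ha
      have haσ : a ≠ σ a := fun h => ha (r1.trans h.symm)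
      set ρ' := swap a (σ a) * ρ with hρ'
      have hs' : sign ρ' = -1 := by rw [hρ', Perm.sign_mul, sign_swap haσ, hs, mul_one]
      have hne : ρ' ≠ 1 := by intro h; rw [h, Perm.sign_one] at hs'; exact absurd hs' (by decide)
      obtain ⟨c, hc⟩ : ∃ c, ρ' c ≠ c := by
        by_contra hno; push Not at hno; exact hne (Equiv.ext hno)
      obtain ⟨q1, q2, q3, q4, q5⟩ := rem ρ' c r2 hc
      have hcσ : c ≠ σ c := fun h => hc (q1.trans h.symm)
      set ρ'' := swap c (σ c) * ρ' with hρ''
      have hca : c ≠ a := fun h => hc (by rw [h]; exact r3)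
      have hca' : c ≠ σ a := fun h => hc (by rw [h]; exact r4)
      have hs'' : sign ρ'' = 1 := by rw [hρ'', Perm.sign_mul, sign_swap hcσ, hs']; decide
      have hlt : (Finset.univ.filter (fun x => ρ'' x ≠ x)).card < (Finset.univ.filter (fun x => ρ x ≠ x)).card := by
        apply Finset.card_lt_card
        rw [Finset.ssubset_iff_of_subset]
        · refine ⟨c, ?_, ?_⟩
          · rw [Finset.mem_filter]
            exact ⟨Finset.mem_univ _, fun h => hc (r5 c h)⟩
          · rw [Finset.mem_filter]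
            exact fun h => h.2 q3
        · intro x hx
          rw [Finset.mem_filter] at hx ⊢
          exact ⟨hx.1, fun h => hx.2 (q5 x (r5 x h))⟩
      have h3 := ih _ (lt_of_lt_of_le hlt hn) ρ'' le_rfl q2 hs''
      have h4 : ρ = swap a (σ a) * swap c (σ c) * ρ'' := by
        rw [hρ'', hρ', mul_assoc, ← mul_assoc (swap c (σ c)), swap_mul_self, one_mul, ← mul_assoc, swap_mul_self, one_mul]
      rw [h4]
      refine Subgroup.mul_mem _ ?_ h3
      have h5 := Subgroup.inv_mem _ (two_swaps h6 h2 (fun h => haσ h.symm) (fun h => hcσ h.symm) hca hca')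
      rwa [mul_inv_rev, swap_inv, swap_inv] at h5

theorem mem_commutator (h6 : 6 ≤ Fintype.card α) {σ : Perm α} (h2 : σ * σ = 1) (hs : sign σ = 1) : σ ∈ ⁅D σ, D σ⁆ :=
  sub_mem h6 (fun x => by rw [← Perm.mul_apply, h2, Perm.one_apply]) _ σ le_rfl (fun _ => Or.inr rfl) hs

/-- for any group isomorphic to an alternating group of degree at least 6 -/
theorem mem_commutator_of_equiv {T : Type*} [Group T] (e : T ≃* alternatingGroup α) (h6 : 6 ≤ Fintype.card α)
    {i : T} (h2 : i * i = 1) : i ∈ ⁅Subgroup.centralizer ({i} : Set T), Subgroup.centralizer ({i} : Set T)⁆ := by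
  have h3 : ((e i : alternatingGroup α) : Perm α) * (e i : alternatingGroup α) = 1 := by
    rw [← Subgroup.coe_mul, ← map_mul, h2, map_one, Subgroup.coe_one]
  have h4 := mem_commutator h6 h3 (mem_alternatingGroup.1 (e i).2)
  -- transport
  let f : T →* Perm α := (alternatingGroup α).subtype.comp e.toMonoidHom
  have hf : Function.Injective f := (Subgroup.subtype_injective _).comp e.injective
  have h5 : (Subgroup.centralizer ({i} : Set T)).map f = D ((e i : alternatingGroup α) : Perm α) := by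
    ext x
    rw [Subgroup.mem_map, mem_D]
    constructor
    · rintro ⟨y, hy, rfl⟩
      rw [Subgroup.mem_centralizer_singleton_iff] at hy
      refine ⟨?_, ?_⟩
      · show f y * f i = f i * f y
        rw [← map_mul, ← map_mul, hy]
      · exact mem_alternatingGroup.1 (e y).2
    · rintro ⟨h6, h7⟩
      refine ⟨e.symm ⟨x, mem_alternatingGroup.2 h7⟩, ?_, ?_⟩
      · rw [Subgroup.mem_centralizer_singleton_iff]
        apply hf
        show ((e (_ * i) : alternatingGroup α) : Perm α) = ((e (i * _) : alternatingGroup α) : Perm α)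
        rw [map_mul, map_mul, Subgroup.coe_mul, Subgroup.coe_mul, e.apply_symm_apply]
        exact h6
      · show ((e (e.symm _) : alternatingGroup α) : Perm α) = x
        rw [e.apply_symm_apply]
  rw [← h5, ← Subgroup.map_commutator] at h4
  obtain ⟨y, hy, hy2⟩ := h4
  have h6 : y = i := hf hy2
  rw [h6] at hy
  exact hy

end Cfsg.Agent.Lib.H10AltInv
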