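import Mathlib

/-!
The average number of fixed points, on the logarithmic scale, of a `p`-group acting on an abelian `p'`-group.
-/

set_option autoImplicit false

namespace Cfsg.Agent.Lib.H10CopAvg

open Finset

variable {A M : Type*} [Group A] [CommGroup M] [MulDistribMulAction A M]

/-- fixed points of one element -/
def fx (M : Type*) [CommGroup M] [MulDistribMulAction A M] (x : A) : Subgroup M where
  carrier := {m | x • m = m}
  one_mem' := smul_one x
  mul_mem' {a b} ha hb := by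
    change x • (a * b) = a * b
    rw [smul_mul', show x • a = a from ha, show x • b = b from hb]
  inv_mem' {a} ha := by
    change x • a⁻¹ = a⁻¹
    rw [smul_inv', show x • a = a from ha]

theorem mem_fx {x : A} {m : M} : m ∈ fx M x ↔ x • m = m := Iff.rfl

/-- fixed points of the whole group -/
def fxAll (A M : Type*) [Group A] [CommGroup M] [MulDistribMulAction A M] : Subgroup M :=
  ⨅ x : A, fx M x

theorem mem_fxAll {m : M} : m ∈ fxAll A M ↔ ∀ x : A, x • m = m := by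
  simp [fxAll, Subgroup.mem_iInf, mem_fx]

theorem fixed_of_pow {p : ℕ} (hp : p.Prime) {z : A} {m : M} (hzp : z ^ p • m = m) {k : ℕ}
    (hk0 : 0 < k) (hkp : k < p) (h : z ^ k • m = m) : z • m = m := by
  have h1 : z ^ k ∈ MulAction.stabilizer A m := h
  have h2 : z ^ p ∈ MulAction.stabilizer A m := hzp
  have hcop : k.Coprime p := by
    rw [Nat.coprime_comm, hp.coprime_iff_not_dvd]
    exact Nat.not_dvd_of_pos_of_lt hk0 hkp
  have h3 : z ∈ MulAction.stabilizer A m := by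
    have h4 := Nat.gcd_eq_gcd_ab k p
    rw [hcop.gcd_eq_one] at h4
    have h5 : z = (z ^ k) ^ (Nat.gcdA k p) * (z ^ p) ^ (Nat.gcdB k p) := by
      rw [← zpow_natCast, ← zpow_natCast, ← zpow_mul, ← zpow_mul, ← zpow_add, ← h4]
      simp
    rw [h5]
    exact Subgroup.mul_mem _ (Subgroup.zpow_mem _ h1 _) (Subgroup.zpow_mem _ h2 _)
  exact h3

theorem indep {p : ℕ} (hp : p.Prime) {U : Subgroup M} {z x : A}
    (hU : ∀ a : A, ∀ m ∈ U, a • m ∈ U)
    (hz : ∀ m ∈ U, z • m = m → m = 1) (hzp : ∀ m ∈ U, z ^ p • m = m)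
    (hzc : ∀ m ∈ U, x • z • m = z • x • m) (j : ℕ) : ∀ (_ : j ≤ p) (v : ℕ → M),
    (∀ i < j, v i ∈ U ∧ (x * z ^ i) • v i = v i) → ∏ i ∈ range j, v i = 1 → ∀ i < j, v i = 1 := by
  have hzcp : ∀ (k : ℕ), ∀ m ∈ U, x • z ^ k • m = z ^ k • x • m := by
    intro k
    induction k with
    | zero => intro m _; simp
    | succ k ih =>
      intro m hm
      rw [pow_succ, mul_smul, ih _ (hU z m hm), hzc m hm, mul_smul]
  induction j with
  | zero => intro _ v _ _ i hi; omega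
  | succ j ih =>
    intro hj v hv hprod
    have hfix : (x * z ^ j) • ∏ i ∈ range j, v i = ∏ i ∈ range j, v i := by
      rw [prod_range_succ] at hprod
      have h1 : ∏ i ∈ range j, v i = (v j)⁻¹ := eq_inv_of_mul_eq_one_left hprod
      rw [h1, smul_inv', (hv j (Nat.lt_succ_self j)).2]
    have hstep : ∀ i < j, (x * z ^ j) • v i = z ^ (j - i) • v i := by
      intro i hi
      have h1 : x * z ^ j = x * z ^ i * z ^ (j - i) := by
        rw [mul_assoc, ← pow_add, Nat.add_sub_cancel' hi.le]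
      have hvi := hv i (Nat.lt_succ_of_lt hi)
      rw [h1, mul_smul, mul_smul, ← mul_smul (z ^ i), ← pow_add, Nat.add_comm i, pow_add, mul_smul,
        hzcp _ _ (hU _ _ hvi.1), ← mul_smul x, hvi.2]
    have hw : ∀ i < j, (z ^ (j - i) • v i) / v i = 1 := by
      apply ih (by omega) (fun i => (z ^ (j - i) • v i) / v i)
      · intro i hi
        have hvi := hv i (Nat.lt_succ_of_lt hi)
        refine ⟨U.div_mem (hU _ _ hvi.1) hvi.1, ?_⟩
        rw [smul_div', hvi.2, mul_smul, ← mul_smul (z ^ i), ← pow_add, Nat.add_comm i, pow_add,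
          mul_smul, hzcp _ _ (hU _ _ hvi.1), ← mul_smul x, hvi.2]
      · rw [prod_div_distrib, div_eq_one]
        conv_rhs => rw [← hfix]
        rw [smul_prod']
        exact prod_congr rfl fun i hi => (hstep i (mem_range.mp hi)).symm
    have hv1 : ∀ i < j, v i = 1 := by
      intro i hi
      have hvi := hv i (Nat.lt_succ_of_lt hi)
      exact hz _ hvi.1 (fixed_of_pow hp (hzp _ hvi.1) (by omega) (by omega)
        (div_eq_one.mp (hw i hi)))
    intro i hi
    rcases Nat.lt_succ_iff_lt_or_eq.mp hi with h | rfl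
    · exact hv1 i h
    · rw [prod_range_succ, prod_eq_one (fun k hk => hv1 k (mem_range.mp hk)), one_mul] at hprod
      exact hprod

theorem prod_card_le [Finite M] {p : ℕ} (hp : p.Prime) {U : Subgroup M} {z x : A}
    (hU : ∀ a : A, ∀ m ∈ U, a • m ∈ U)
    (hz : ∀ m ∈ U, z • m = m → m = 1) (hzp : ∀ m ∈ U, z ^ p • m = m)
    (hzc : ∀ m ∈ U, x • z • m = z • x • m) :
    ∏ i ∈ range p, Nat.card (U ⊓ fx M (x * z ^ i) : Subgroup M) ≤ Nat.card U := by
  classical
  rw [prod_range, ← Nat.card_pi]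
  apply Nat.card_le_card_of_injective (fun v : (i : Fin p) → (U ⊓ fx M (x * z ^ (i : ℕ)) : Subgroup M) =>
    (⟨∏ i : Fin p, ((v i : M)), U.prod_mem fun i _ => (v i).2.1⟩ : U))
  intro v w hvw
  have h1 : ∏ i : Fin p, ((v i : M)) = ∏ i : Fin p, ((w i : M)) := congrArg Subtype.val hvw
  let t : ℕ → M := fun i => if h : i < p then (v ⟨i, h⟩ : M) / (w ⟨i, h⟩ : M) else 1
  have h2 := indep hp hU hz hzp hzc p le_rfl t (by
    intro i hi
    simp only [t, dif_pos hi]
    refine ⟨U.div_mem (v ⟨i, hi⟩).2.1 (w ⟨i, hi⟩).2.1, ?_⟩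
    exact (fx M (x * z ^ i)).div_mem (v ⟨i, hi⟩).2.2 (w ⟨i, hi⟩).2.2) (by
    rw [prod_range]
    have : ∀ i : Fin p, t i = (v i : M) / (w i : M) := fun i => by
      simp only [t, dif_pos i.2, Fin.eta]
    simp only [this]
    rw [prod_div_distrib, h1, div_self'])
  funext i
  have h3 := h2 i i.2
  simp only [t, dif_pos i.2, Fin.eta] at h3
  exact Subtype.ext (div_eq_one.mp h3)

theorem direct [Finite M] [Fintype A] {p : ℕ} (hp : p.Prime) {U : Subgroup M} {z : A}
    (hU : ∀ a : A, ∀ m ∈ U, a • m ∈ U)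
    (hz : ∀ m ∈ U, z • m = m → m = 1) (hzp : ∀ m ∈ U, z ^ p • m = m)
    (hzc : ∀ x : A, ∀ m ∈ U, x • z • m = z • x • m) :
    (p : ℝ) * ∑ x : A, Real.log (Nat.card (U ⊓ fx M x : Subgroup M)) ≤
      Fintype.card A * Real.log (Nat.card U) := by
  have h1 : ∀ i : ℕ, ∑ x : A, Real.log (Nat.card (U ⊓ fx M (x * z ^ i) : Subgroup M)) =
      ∑ x : A, Real.log (Nat.card (U ⊓ fx M x : Subgroup M)) := fun i =>
    Fintype.sum_equiv (Equiv.mulRight (z ^ i)) _ _ (fun x => rfl)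
  have hpos : ∀ x : A, (0 : ℝ) < Nat.card (U ⊓ fx M x : Subgroup M) := fun x => by
    exact_mod_cast Nat.card_pos
  calc (p : ℝ) * ∑ x : A, Real.log (Nat.card (U ⊓ fx M x : Subgroup M))
      = ∑ i ∈ range p, ∑ x : A, Real.log (Nat.card (U ⊓ fx M (x * z ^ i) : Subgroup M)) := by
        simp only [h1, sum_const, card_range, nsmul_eq_mul]
    _ = ∑ x : A, ∑ i ∈ range p, Real.log (Nat.card (U ⊓ fx M (x * z ^ i) : Subgroup M)) :=
        sum_comm
    _ = ∑ x : A, Real.log (∏ i ∈ range p, (Nat.card (U ⊓ fx M (x * z ^ i) : Subgroup M) : ℝ)) := by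
        refine sum_congr rfl fun x _ => ?_
        rw [Real.log_prod]
        intro i _
        exact (hpos _).ne'
    _ ≤ ∑ _x : A, Real.log (Nat.card U) := by
        refine sum_le_sum fun x _ => Real.log_le_log (prod_pos fun i _ => hpos _) ?_
        exact_mod_cast prod_card_le hp hU hz hzp (hzc x)
    _ = _ := by rw [sum_const, card_univ, nsmul_eq_mul]

/-- splitting of fixed points -/
theorem card_split [Finite M] {U U₁ U₂ : Subgroup M} (h1 : ∀ m ∈ U₁, m ∈ U) (h2 : ∀ m ∈ U₂, m ∈ U)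
    (hinf : ∀ m ∈ U₁, m ∈ U₂ → m = 1) (hsup : ∀ m ∈ U, ∃ a ∈ U₁, ∃ b ∈ U₂, a * b = m)
    (F : Subgroup M) (hF : ∀ a ∈ U₁, ∀ b ∈ U₂, a * b ∈ F → a ∈ F ∧ b ∈ F) :
    Nat.card (U ⊓ F : Subgroup M) =
      Nat.card (U₁ ⊓ F : Subgroup M) * Nat.card (U₂ ⊓ F : Subgroup M) := by
  rw [← Nat.card_prod]
  symm
  apply Nat.card_congr
  refine Equiv.ofBijective (fun v : (U₁ ⊓ F : Subgroup M) × (U₂ ⊓ F : Subgroup M) =>
    (⟨(v.1 : M) * (v.2 : M), U.mul_mem (h1 _ v.1.2.1) (h2 _ v.2.2.1),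
      F.mul_mem v.1.2.2 v.2.2.2⟩ : (U ⊓ F : Subgroup M))) ⟨?_, ?_⟩
  · rintro ⟨⟨a, ha⟩, ⟨b, hb⟩⟩ ⟨⟨a', ha'⟩, ⟨b', hb'⟩⟩ h
    have h3 : a * b = a' * b' := congrArg Subtype.val h
    have h4 : a / a' = b' / b := by
      rw [div_eq_div_iff_mul_eq_mul, h3, mul_comm]
    have h5 : a / a' = 1 := hinf _ (U₁.div_mem ha.1 ha'.1) (h4 ▸ U₂.div_mem hb'.1 hb.1)
    have h6 : b' / b = 1 := h4 ▸ h5
    have h7 := div_eq_one.mp h5
    have h8 := div_eq_one.mp h6
    subst h7
    subst h8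
    rfl
  · rintro ⟨m, hm, hmF⟩
    obtain ⟨a, ha, b, hb, rfl⟩ := hsup m hm
    obtain ⟨h3, h4⟩ := hF a ha b hb hmF
    exact ⟨(⟨a, ha, h3⟩, ⟨b, hb, h4⟩), rfl⟩

theorem exists_z [Finite A] {p : ℕ} [hp : Fact p.Prime] (hA : IsPGroup p A) (K : Subgroup A)
    [K.Normal] (hK : K ≠ ⊤) :
    ∃ z : A, z ∉ K ∧ z ^ p ∈ K ∧ ∀ x : A, (x * z)⁻¹ * (z * x) ∈ K := by
  have hq : IsPGroup p (A ⧸ K) := hA.to_quotient K
  have hnt : Nontrivial (A ⧸ K) := by
    obtain ⟨g, hg⟩ : ∃ g, g ∉ K := by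
      by_contra hc
      push Not at hc
      exact hK ((Subgroup.eq_top_iff' K).mpr hc)
    exact ⟨QuotientGroup.mk g, 1, fun h => hg ((QuotientGroup.eq_one_iff g).mp h)⟩
  have hc := hq.center_nontrivial
  obtain ⟨⟨c, hc⟩, hc1⟩ := exists_ne (1 : Subgroup.center (A ⧸ K))
  have hc1' : c ≠ 1 := fun h => hc1 (Subtype.ext h)
  obtain ⟨k, hk⟩ := (IsPGroup.iff_orderOf.mp hq) c
  rcases k with _ | k
  · rw [pow_zero, orderOf_eq_one_iff] at hk
    exact absurd hk hc1'
  obtain ⟨y, rfl⟩ := QuotientGroup.mk_surjective c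
  refine ⟨y ^ p ^ k, ?_, ?_, ?_⟩
  · intro h
    have h1 : (QuotientGroup.mk y : A ⧸ K) ^ p ^ k = 1 := by
      rw [← QuotientGroup.mk_pow]
      exact (QuotientGroup.eq_one_iff _).mpr h
    have h2 := orderOf_dvd_of_pow_eq_one h1
    rw [hk] at h2
    have h3 := Nat.le_of_dvd (pow_pos hp.out.pos k) h2
    have h4 : p ^ k < p ^ (k + 1) := Nat.pow_lt_pow_right hp.out.one_lt (Nat.lt_succ_self k)
    omega
  · rw [← QuotientGroup.eq_one_iff, ← pow_mul, ← pow_succ, QuotientGroup.mk_pow, ← hk,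
      pow_orderOf_eq_one]
  · intro x
    rw [← QuotientGroup.eq, QuotientGroup.mk_mul, QuotientGroup.mk_mul, QuotientGroup.mk_pow]
    exact Subgroup.mem_center_iff.mp (Subgroup.pow_mem _ hc _) _

theorem log_card_nonneg (U : Subgroup M) : 0 ≤ Real.log (Nat.card U) :=
  Real.log_natCast_nonneg _

theorem abelian [Finite M] [Fintype A] {p : ℕ} [hp : Fact p.Prime] (hA : IsPGroup p A) (n : ℕ) :
    ∀ U : Subgroup M, Nat.card U = n → (∀ a : A, ∀ m ∈ U, a • m ∈ U) → (Nat.card U).Coprime p →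
    (p : ℝ) * ∑ x : A, Real.log (Nat.card (U ⊓ fx M x : Subgroup M)) ≤
      Fintype.card A * (Real.log (Nat.card U) +
        (p - 1) * Real.log (Nat.card (U ⊓ fxAll A M : Subgroup M))) := by
  induction n using Nat.strong_induction_on with
  | h n ih =>
  intro U hUn hU hcop
  let K : Subgroup A :=
    { carrier := {a | ∀ m ∈ U, a • m = m}
      one_mem' := fun m _ => one_smul A m
      mul_mem' := fun {a b} ha hb m hm => by rw [mul_smul, hb m hm, ha m hm]
      inv_mem' := fun {a} ha m hm => by rw [inv_smul_eq_iff, ha m hm] }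
  have hKmem : ∀ a, a ∈ K ↔ ∀ m ∈ U, a • m = m := fun a => Iff.rfl
  have hKn : K.Normal := by
    refine ⟨fun a ha g m hm => ?_⟩
    rw [mul_smul, mul_smul, (hKmem a).mp ha _ (hU g⁻¹ m hm), smul_inv_smul]
  by_cases hKt : K = ⊤
  · have h1 : ∀ x : A, U ⊓ fx M x = U := fun x =>
      inf_eq_left.mpr fun m hm => (hKmem x).mp (hKt ▸ Subgroup.mem_top x) m hm
    have h2 : U ⊓ fxAll A M = U := inf_eq_left.mpr fun m hm =>
      mem_fxAll.mpr fun x => (hKmem x).mp (hKt ▸ Subgroup.mem_top x) m hm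
    simp only [h1, h2, sum_const, card_univ, nsmul_eq_mul]
    apply le_of_eq
    ring
  obtain ⟨z, hzK, hzp, hzc⟩ := exists_z hA K hKt
  have hzp' : ∀ m ∈ U, z ^ p • m = m := hzp
  have hzc' : ∀ x : A, ∀ m ∈ U, x • z • m = z • x • m := by
    intro x m hm
    have h1 := (hKmem _).mp (hzc x) m hm
    rw [mul_smul, inv_smul_eq_iff, mul_smul, mul_smul] at h1
    exact h1.symm
  -- the splitting
  let δ : M →* M := MonoidHom.mk' (fun m => (z • m) / m) (fun a b => by
    rw [smul_mul', mul_div_mul_comm])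
  have hδ : ∀ m, δ m = (z • m) / m := fun m => rfl
  set U₁ : Subgroup M := U ⊓ fx M z with hU₁
  set U₂ : Subgroup M := U.map δ with hU₂
  have hU₁U : ∀ m ∈ U₁, m ∈ U := fun m hm => hm.1
  have hU₂U : ∀ m ∈ U₂, m ∈ U := by
    rintro _ ⟨m, hm, rfl⟩
    exact U.div_mem (hU z m hm) hm
  have hinf : ∀ m ∈ U₁, m ∈ U₂ → m = 1 := by
    rintro u ⟨huU, huz⟩ ⟨m, hm, hmu⟩
    have h1 : z • m = u * m := by
      rw [← hmu, hδ, div_mul_cancel]
    have h2 : ∀ k : ℕ, z ^ k • m = u ^ k * m := by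
      intro k
      induction k with
      | zero => simp
      | succ k ihk =>
        rw [pow_succ', mul_smul, ihk, smul_mul', smul_pow', show z • u = u from huz, h1, pow_succ,
          mul_assoc]
    have h3 := h2 p
    rw [hzp' m hm] at h3
    have h4 : u ^ p = 1 := (right_eq_mul.mp h3)
    have h5 : (⟨u, huU⟩ : U) ^ p = 1 := Subtype.ext h4
    have h6 : (⟨u, huU⟩ : U) ^ Nat.card U = 1 := pow_card_eq_one'
    have h7 : (⟨u, huU⟩ : U) = 1 := by
      have := (pow_gcd_eq_one).mpr ⟨h6, h5⟩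
      rwa [hcop.gcd_eq_one, pow_one] at this
    exact congrArg Subtype.val h7
  have hcard : Nat.card U₁ * Nat.card U₂ = Nat.card U := by
    let f : U →* M := δ.comp U.subtype
    have h1 := Subgroup.card_mul_index f.ker
    rw [Subgroup.index_ker] at h1
    have h2 : Nat.card f.ker = Nat.card U₁ := by
      apply Nat.card_congr
      exact
        { toFun := fun v => ⟨v.1.1, v.1.2, div_eq_one.mp v.2⟩
          invFun := fun v => ⟨⟨v.1, v.2.1⟩, div_eq_one.mpr v.2.2⟩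
          left_inv := fun _ => rfl
          right_inv := fun _ => rfl }
    have h3 : f.range = U₂ := by
      rw [hU₂, MonoidHom.range_comp, Subgroup.range_subtype]
    rw [h2, h3] at h1
    exact h1
  have hsup : ∀ m ∈ U, ∃ a ∈ U₁, ∃ b ∈ U₂, a * b = m := by
    let g : U₁ × U₂ → U := fun v => ⟨(v.1 : M) * (v.2 : M),
      U.mul_mem (hU₁U _ v.1.2) (hU₂U _ v.2.2)⟩
    have hg : Function.Injective g := by
      rintro ⟨⟨a, ha⟩, ⟨b, hb⟩⟩ ⟨⟨a', ha'⟩, ⟨b', hb'⟩⟩ h
      have h3 : a * b = a' * b' := congrArg Subtype.val h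
      have h4 : a / a' = b' / b := by
        rw [div_eq_div_iff_mul_eq_mul, h3, mul_comm]
      have h5 : a / a' = 1 := hinf _ (U₁.div_mem ha ha') (h4 ▸ U₂.div_mem hb' hb)
      have h6 : b' / b = 1 := h4 ▸ h5
      have h7 := div_eq_one.mp h5
      have h8 := div_eq_one.mp h6
      subst h7
      subst h8
      rfl
    have hgb := ((Nat.bijective_iff_injective_and_card g).mpr
      ⟨hg, by rw [Nat.card_prod, hcard]⟩).2
    intro m hm
    obtain ⟨⟨a, b⟩, hab⟩ := hgb ⟨m, hm⟩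
    exact ⟨a, a.2, b, b.2, congrArg Subtype.val hab⟩
  have hinv₁ : ∀ a : A, ∀ m ∈ U₁, a • m ∈ U₁ := by
    rintro a m ⟨hm, hmz⟩
    refine ⟨hU a m hm, ?_⟩
    change z • a • m = a • m
    rw [← hzc' a m hm, show z • m = m from hmz]
  have hinv₂ : ∀ a : A, ∀ m ∈ U₂, a • m ∈ U₂ := by
    rintro a _ ⟨m, hm, rfl⟩
    refine ⟨a • m, hU a m hm, ?_⟩
    rw [hδ, hδ, smul_div', hzc' a m hm]
  by_cases h1 : ∀ m ∈ U, z • m = m → m = 1
  · refine (direct hp.out hU h1 hzp' hzc').trans ?_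
    apply mul_le_mul_of_nonneg_left _ (by positivity)
    have h2 := log_card_nonneg (U ⊓ fxAll A M)
    have h3 : (1 : ℝ) ≤ p := by exact_mod_cast hp.out.one_lt.le
    nlinarith
  · push Not at h1
    obtain ⟨m₁, hm₁, hm₁z, hm₁1⟩ := h1
    have hU₁1 : 1 < Nat.card U₁ := by
      rw [Subgroup.one_lt_card_iff_ne_bot]
      intro hb
      have : m₁ ∈ U₁ := ⟨hm₁, hm₁z⟩
      rw [hb, Subgroup.mem_bot] at this
      exact hm₁1 this
    have hU₂1 : 1 < Nat.card U₂ := by
      rw [Subgroup.one_lt_card_iff_ne_bot]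
      intro hb
      apply hzK
      intro m hm
      have : δ m ∈ U₂ := ⟨m, hm, rfl⟩
      rw [hb, Subgroup.mem_bot, hδ] at this
      exact div_eq_one.mp this
    have hlt₁ : Nat.card U₁ < n := by rw [← hUn, ← hcard]; nlinarith
    have hlt₂ : Nat.card U₂ < n := by rw [← hUn, ← hcard]; nlinarith
    have e1 := ih _ hlt₁ U₁ rfl hinv₁ (hcop.coprime_dvd_left (Dvd.intro _ hcard))
    have e2 := ih _ hlt₂ U₂ rfl hinv₂ (hcop.coprime_dvd_left (Dvd.intro_left _ hcard))
    have hposs : ∀ V : Subgroup M, (Nat.card V : ℝ) ≠ 0 := fun V => by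
      exact_mod_cast Nat.card_pos.ne'
    have hfx : ∀ x : A, ∀ a ∈ U₁, ∀ b ∈ U₂, x • (a * b) = a * b → x • a = a ∧ x • b = b := by
      intro x a ha b hb h
      rw [smul_mul'] at h
      have h4 : (x • a) / a = b / (x • b) := by
        rw [div_eq_div_iff_mul_eq_mul, h, mul_comm]
      have h5 : (x • a) / a = 1 := hinf _ (U₁.div_mem (hinv₁ x a ha) ha)
        (h4 ▸ U₂.div_mem hb (hinv₂ x b hb))
      exact ⟨div_eq_one.mp h5, (div_eq_one.mp (h4 ▸ h5)).symm⟩
    have s1 : ∀ x : A, Real.log (Nat.card (U ⊓ fx M x : Subgroup M)) =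
        Real.log (Nat.card (U₁ ⊓ fx M x : Subgroup M)) +
        Real.log (Nat.card (U₂ ⊓ fx M x : Subgroup M)) := by
      intro x
      rw [card_split hU₁U hU₂U hinf hsup (fx M x) (fun a ha b hb h => hfx x a ha b hb h),
        Nat.cast_mul, Real.log_mul (hposs _) (hposs _)]
    have s2 : Real.log (Nat.card (U ⊓ fxAll A M : Subgroup M)) =
        Real.log (Nat.card (U₁ ⊓ fxAll A M : Subgroup M)) +
        Real.log (Nat.card (U₂ ⊓ fxAll A M : Subgroup M)) := by
      rw [card_split hU₁U hU₂U hinf hsup (fxAll A M) (fun a ha b hb h =>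
        ⟨mem_fxAll.mpr fun x => (hfx x a ha b hb (mem_fxAll.mp h x)).1,
          mem_fxAll.mpr fun x => (hfx x a ha b hb (mem_fxAll.mp h x)).2⟩),
        Nat.cast_mul, Real.log_mul (hposs _) (hposs _)]
    have s3 : Real.log (Nat.card U) = Real.log (Nat.card U₁) + Real.log (Nat.card U₂) := by
      rw [← hcard, Nat.cast_mul, Real.log_mul (hposs _) (hposs _)]
    simp only [s1, s2, s3, sum_add_distrib]
    linarith

end Cfsg.Agent.Lib.H10CopAvg
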