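import Mathlib
import Cfsg.Agent.Lib.H10CopAvg
import Cfsg.Agent.Lib.CoprimeAction

/-!
The average number of fixed points, on the logarithmic scale, of a `p`-group acting on a `p'`-group.
-/

set_option autoImplicit false

namespace Cfsg.Agent.Lib.H10CopAvg

open Finset Subgroup
open scoped Pointwise

universe u v

variable {A : Type v} [Group A]

/-- fixed points in `N` of the element `x` -/
def cE {G : Type u} [Group G] (N : Subgroup G) (x : G) : Subgroup G :=
  N ⊓ centralizer ({x} : Set G)

/-- fixed points in `N` of the image of `f` -/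
def cA {G : Type u} [Group G] (f : A →* G) (N : Subgroup G) : Subgroup G :=
  N ⊓ centralizer (f.range : Set G)

/-- the inequality -/
def Ineq {G : Type u} [Group G] [Fintype A] (p : ℕ) (f : A →* G) (N : Subgroup G) : Prop :=
  (p : ℝ) * ∑ x : A, Real.log (Nat.card (cE N (f x))) ≤
      Fintype.card A * (Real.log (Nat.card N) + (p - 1) * Real.log (Nat.card (cA f N)))

theorem ineq_abelian {G : Type u} [Group G] [Finite G] [Fintype A] {p : ℕ} [hp : Fact p.Prime]
    (hA : IsPGroup p A) (f : A →* G) (V : Subgroup G) (hV : ∀ a ∈ V, ∀ b ∈ V, a * b = b * a)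
    (hf : ∀ a, f a ∈ normalizer (V : Set G)) (hcop : (Nat.card V).Coprime p) : Ineq p f V := by
  let _ : CommGroup V := { (inferInstance : Group V) with
    mul_comm := fun a b => Subtype.ext (hV a a.2 b b.2) }
  let _ : MulDistribMulAction A V :=
    { smul := fun a v => ⟨f a * v * (f a)⁻¹, (mem_normalizer_iff.mp (hf a) v).mp v.2⟩
      one_smul := fun v => Subtype.ext (by
        change f 1 * (v : G) * (f 1)⁻¹ = v
        simp)
      mul_smul := fun a b v => Subtype.ext (by
        change f (a * b) * (v : G) * (f (a * b))⁻¹ = f a * (f b * v * (f b)⁻¹) * (f a)⁻¹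
        rw [map_mul]; group)
      smul_mul := fun a v w => Subtype.ext (by
        change f a * ((v : G) * w) * (f a)⁻¹ = (f a * v * (f a)⁻¹) * (f a * w * (f a)⁻¹)
        group)
      smul_one := fun a => Subtype.ext (by
        change f a * (1 : G) * (f a)⁻¹ = 1
        group) }
  have hsm : ∀ (a : A) (v : V), ((a • v : V) : G) = f a * v * (f a)⁻¹ := fun a v => rfl
  have h := abelian hA _ (⊤ : Subgroup V) rfl (fun _ _ _ => mem_top _) (by rwa [card_top])
  have hfix : ∀ (a : A) (v : V), a • v = v ↔ (v : G) * f a = f a * v := by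
    intro a v
    rw [Subtype.ext_iff, hsm, mul_inv_eq_iff_eq_mul]
    exact eq_comm
  have h1 : ∀ x : A, Nat.card ((⊤ : Subgroup V) ⊓ fx V x : Subgroup V) = Nat.card (cE V (f x)) := by
    intro x
    apply Nat.card_congr
    exact
      { toFun := fun v => ⟨v.1, v.1.2, mem_centralizer_singleton_iff.mpr ((hfix x v.1).mp v.2.2)⟩
        invFun := fun v => ⟨⟨v.1, v.2.1⟩, mem_top _,
          (hfix x ⟨v.1, v.2.1⟩).mpr (mem_centralizer_singleton_iff.mp v.2.2)⟩
        left_inv := fun _ => rfl
        right_inv := fun _ => rfl }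
  have h2 : Nat.card ((⊤ : Subgroup V) ⊓ fxAll A V : Subgroup V) = Nat.card (cA f V) := by
    apply Nat.card_congr
    exact
      { toFun := fun v => ⟨v.1, v.1.2, mem_centralizer_iff.mpr (by
          rintro _ ⟨x, rfl⟩
          exact ((hfix x v.1).mp (mem_fxAll.mp v.2.2 x)).symm)⟩
        invFun := fun v => ⟨⟨v.1, v.2.1⟩, mem_top _, mem_fxAll.mpr fun x =>
          (hfix x ⟨v.1, v.2.1⟩).mpr (mem_centralizer_iff.mp v.2.2 (f x) ⟨x, rfl⟩).symm⟩
        left_inv := fun _ => rfl
        right_inv := fun _ => rfl }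
  simp only [h1, h2, card_top] at h
  exact h

theorem mem_cE {G : Type u} [Group G] {N : Subgroup G} {x g : G} :
    g ∈ cE N x ↔ g ∈ N ∧ g * x = x * g :=
  and_congr_right fun _ => mem_centralizer_singleton_iff

theorem mem_cA {G : Type u} [Group G] {f : A →* G} {N : Subgroup G} {g : G} :
    g ∈ cA f N ↔ g ∈ N ∧ ∀ a, g * f a = f a * g := by
  refine and_congr_right fun _ => mem_centralizer_iff.trans ⟨fun h a => (h _ ⟨a, rfl⟩).symm, ?_⟩
  rintro h _ ⟨a, rfl⟩
  exact (h a).symm

theorem card_map_ker {G H : Type*} [Group G] [Group H] (φ : G →* H) (K : Subgroup G) :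
    Nat.card (K ⊓ φ.ker : Subgroup G) * Nat.card (K.map φ) = Nat.card K := by
  have h1 := Subgroup.card_mul_index (φ.comp K.subtype).ker
  rw [Subgroup.index_ker, MonoidHom.range_comp, Subgroup.range_subtype] at h1
  rw [← h1]
  congr 1
  apply Nat.card_congr
  exact
    { toFun := fun v => ⟨⟨v.1, v.2.1⟩, v.2.2⟩
      invFun := fun v => ⟨v.1.1, v.1.2, v.2⟩
      left_inv := fun _ => rfl
      right_inv := fun _ => rfl }

/-- passage to a quotient -/
theorem ineq_of_quotient {G : Type u} [Group G] [Finite G] [Fintype A] {p : ℕ} [hp : Fact p.Prime]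
    (hA : IsPGroup p A) (f : A →* G) (N Z : Subgroup G) [hZn : Z.Normal] (hZN : Z ≤ N)
    (hcop : (Nat.card N).Coprime p) (h1 : Ineq p f Z)
    (h2 : Ineq p ((QuotientGroup.mk' Z).comp f) (N.map (QuotientGroup.mk' Z))) : Ineq p f N := by
  have hpos : ∀ {X : Type u} [Group X] [Finite X] (V : Subgroup X), (0 : ℝ) < Nat.card V :=
    fun V => by exact_mod_cast Nat.card_pos
  have hker : (QuotientGroup.mk' Z).ker = Z := QuotientGroup.ker_mk' Z
  have e1 : Real.log (Nat.card N) =
      Real.log (Nat.card Z) + Real.log (Nat.card (N.map (QuotientGroup.mk' Z))) := by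
    rw [← card_map_ker (QuotientGroup.mk' Z) N, hker, inf_eq_right.mpr hZN, Nat.cast_mul,
      Real.log_mul (hpos _).ne' (hpos _).ne']
  have e2 : ∀ x : A, Real.log (Nat.card (cE N (f x))) ≤ Real.log (Nat.card (cE Z (f x))) +
      Real.log (Nat.card (cE (N.map (QuotientGroup.mk' Z)) ((QuotientGroup.mk' Z).comp f x))) := by
    intro x
    rw [← Real.log_mul (hpos _).ne' (hpos _).ne', ← Nat.cast_mul]
    apply Real.log_le_log (hpos _)
    rw [← card_map_ker (QuotientGroup.mk' Z) (cE N (f x)), hker]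
    have h3 : cE N (f x) ⊓ Z = cE Z (f x) := by
      rw [cE, cE, inf_right_comm, inf_eq_right.mpr hZN]
    rw [h3]
    have h4 : (cE N (f x)).map (QuotientGroup.mk' Z) ≤
        cE (N.map (QuotientGroup.mk' Z)) ((QuotientGroup.mk' Z).comp f x) := by
      rintro _ ⟨g, hg, rfl⟩
      rw [SetLike.mem_coe, mem_cE] at hg
      rw [mem_cE]
      refine ⟨mem_map_of_mem _ hg.1, ?_⟩
      rw [MonoidHom.comp_apply, ← map_mul, hg.2, map_mul]
    exact_mod_cast Nat.mul_le_mul_left _ (card_le_of_le h4)
  have e3 : Real.log (Nat.card (cA f Z)) +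
      Real.log (Nat.card (cA ((QuotientGroup.mk' Z).comp f) (N.map (QuotientGroup.mk' Z)))) ≤
      Real.log (Nat.card (cA f N)) := by
    rw [← Real.log_mul (hpos _).ne' (hpos _).ne', ← Nat.cast_mul]
    apply Real.log_le_log (mul_pos (hpos _) (hpos _) |> fun h => by exact_mod_cast h)
    rw [← card_map_ker (QuotientGroup.mk' Z) (cA f N), hker]
    have h3 : cA f N ⊓ Z = cA f Z := by
      rw [cA, cA, inf_right_comm, inf_eq_right.mpr hZN]
    rw [h3]
    have h4 : cA ((QuotientGroup.mk' Z).comp f) (N.map (QuotientGroup.mk' Z)) ≤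
        (cA f N).map (QuotientGroup.mk' Z) := by
      intro y hy
      rw [mem_cA] at hy
      obtain ⟨⟨n, hn, rfl⟩, hy⟩ := hy
      have hfp : IsPGroup p f.range := by
        intro ⟨_, a, rfl⟩
        obtain ⟨k, hk⟩ := hA a
        exact ⟨k, Subtype.ext (by
          change (f a) ^ p ^ k = 1
          rw [← map_pow, hk, map_one])⟩
      have hcop' : (Nat.card f.range).Coprime (Nat.card Z) := by
        obtain ⟨k, hk⟩ := IsPGroup.iff_card.mp hfp
        rw [hk]
        exact (Nat.Coprime.pow_left k ((hcop.symm).coprime_dvd_right (card_dvd_of_le hZN)))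
      obtain ⟨d, hd, hnd⟩ := CoprimeAction.exists_mul_mem_centralizer
        (A := f.range) (D := Z) (by rw [normalizer_eq_top]; exact le_top) hcop'
        (Or.inl (by
          have := hfp.isNilpotent
          infer_instance)) n (by
          rintro _ ⟨a, rfl⟩
          have h5 := hy a
          rw [MonoidHom.comp_apply, ← map_mul, ← map_mul] at h5
          have h6 : (n * f a)⁻¹ * (f a * n) ∈ Z := QuotientGroup.eq.mp h5
          have h7 : n⁻¹ * (f a * n * (f a)⁻¹) = f a * ((n * f a)⁻¹ * (f a * n)) * (f a)⁻¹ := by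
            group
          rw [h7]
          exact hZn.conj_mem _ h6 _)
      refine ⟨n * d, ⟨N.mul_mem hn (hZN hd), hnd⟩, ?_⟩
      rw [map_mul, (QuotientGroup.eq_one_iff d).mpr hd |> fun h => (show QuotientGroup.mk' Z d = 1 from h),
        mul_one]
    exact_mod_cast Nat.mul_le_mul_left _ (card_le_of_le h4)
  unfold Ineq at h1 h2 ⊢
  have hp1 : (0 : ℝ) ≤ (p : ℝ) - 1 := by
    have : (1 : ℝ) ≤ p := by exact_mod_cast hp.out.one_lt.le
    linarith
  have hp0 : (0 : ℝ) ≤ (p : ℝ) := by positivity
  calc (p : ℝ) * ∑ x : A, Real.log (Nat.card (cE N (f x)))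
      ≤ (p : ℝ) * ∑ x : A, (Real.log (Nat.card (cE Z (f x))) + Real.log (Nat.card
          (cE (N.map (QuotientGroup.mk' Z)) ((QuotientGroup.mk' Z).comp f x)))) :=
        mul_le_mul_of_nonneg_left (sum_le_sum fun x _ => e2 x) hp0
    _ = (p : ℝ) * ∑ x : A, (Real.log (Nat.card (cE Z (f x)))) + p * ∑ x : A, Real.log (Nat.card
          (cE (N.map (QuotientGroup.mk' Z)) ((QuotientGroup.mk' Z).comp f x))) := by
        rw [sum_add_distrib, mul_add]
    _ ≤ Fintype.card A * (Real.log (Nat.card Z) + (p - 1) * Real.log (Nat.card (cA f Z))) +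
        Fintype.card A * (Real.log (Nat.card (N.map (QuotientGroup.mk' Z))) + (p - 1) *
          Real.log (Nat.card (cA ((QuotientGroup.mk' Z).comp f) (N.map (QuotientGroup.mk' Z))))) :=
        add_le_add h1 h2
    _ = Fintype.card A * (Real.log (Nat.card N) + (p - 1) * (Real.log (Nat.card (cA f Z)) +
          Real.log (Nat.card (cA ((QuotientGroup.mk' Z).comp f) (N.map (QuotientGroup.mk' Z)))))) := by
        rw [e1]; ring
    _ ≤ _ := by
        apply mul_le_mul_of_nonneg_left _ (by positivity)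
        have := mul_le_mul_of_nonneg_left e3 hp1
        linarith

theorem ineq_of_subgroup {G : Type u} [Group G] [Finite G] [Fintype A] {p : ℕ} (H : Subgroup G)
    (f : A →* H) (N : Subgroup H) (h : Ineq p f N) :
    Ineq p (H.subtype.comp f) (N.map H.subtype) := by
  have h1 : ∀ x : A, Nat.card (cE (N.map H.subtype) (H.subtype.comp f x)) = Nat.card (cE N (f x)) := by
    intro x
    have : cE (N.map H.subtype) (H.subtype.comp f x) = (cE N (f x)).map H.subtype := by
      ext g
      constructor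
      · intro hg
        rw [mem_cE] at hg
        obtain ⟨⟨n, hn, rfl⟩, hg⟩ := hg
        exact ⟨n, mem_cE.mpr ⟨hn, Subtype.ext hg⟩, rfl⟩
      · rintro ⟨n, hn, rfl⟩
        rw [SetLike.mem_coe, mem_cE] at hn
        rw [mem_cE]
        exact ⟨mem_map_of_mem _ hn.1, congrArg Subtype.val hn.2⟩
    rw [this, card_map_of_injective H.subtype_injective]
  have h2 : Nat.card (cA (H.subtype.comp f) (N.map H.subtype)) = Nat.card (cA f N) := by
    have : cA (H.subtype.comp f) (N.map H.subtype) = (cA f N).map H.subtype := by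
      ext g
      constructor
      · intro hg
        rw [mem_cA] at hg
        obtain ⟨⟨n, hn, rfl⟩, hg⟩ := hg
        exact ⟨n, mem_cA.mpr ⟨hn, fun a => Subtype.ext (hg a)⟩, rfl⟩
      · rintro ⟨n, hn, rfl⟩
        rw [SetLike.mem_coe, mem_cA] at hn
        rw [mem_cA]
        exact ⟨mem_map_of_mem _ hn.1, fun a => congrArg Subtype.val (hn.2 a)⟩
    rw [this, card_map_of_injective H.subtype_injective]
  have h3 : Nat.card (N.map H.subtype) = Nat.card N := card_map_of_injective H.subtype_injective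
  unfold Ineq at h ⊢
  simp only [h1, h2, h3]
  exact h

theorem ineq_normal_pgroup [Fintype A] {p r : ℕ} [hp : Fact p.Prime] [hr : Fact r.Prime]
    (hA : IsPGroup p A) (hpr : r ≠ p) (n : ℕ) : ∀ {G : Type u} [Group G] [Finite G] (f : A →* G)
    (N : Subgroup G) [N.Normal], Nat.card N = n → IsPGroup r N → Ineq p f N := by
  induction n using Nat.strong_induction_on with
  | h n ih =>
  intro G _ _ f N hNn hn hN
  have hcopN : ∀ {X : Type u} [Group X] [Finite X] (V : Subgroup X), IsPGroup r V →
      (Nat.card V).Coprime p := by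
    intro X _ _ V hV
    obtain ⟨k, hk⟩ := IsPGroup.iff_card.mp hV
    rw [hk]
    exact Nat.Coprime.pow_left k ((Nat.coprime_primes hr.out hp.out).mpr hpr)
  by_cases hbot : N = ⊥
  · subst hbot
    exact ineq_abelian hA f ⊥ (fun a ha b hb => by
      rw [mem_bot.mp ha, mem_bot.mp hb]) (fun a => by rw [normalizer_eq_top]; exact mem_top _)
      (hcopN _ hN)
  set Z : Subgroup G := N ⊓ centralizer (N : Set G) with hZ
  have hZn : Z.Normal := inferInstance
  have hZN : Z ≤ N := inf_le_left
  have hZab : ∀ a ∈ Z, ∀ b ∈ Z, a * b = b * a := fun a ha b hb =>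
    (mem_centralizer_iff.mp hb.2 a ha.1)
  have hZp : IsPGroup r Z := hN.to_le hZN
  have hZ1 : 1 < Nat.card Z := by
    have hnt : Nontrivial N := (nontrivial_iff_ne_bot N).mpr hbot
    have hc := hN.center_nontrivial
    obtain ⟨⟨⟨c, hcN⟩, hc⟩, hc1⟩ := exists_ne (1 : center N)
    rw [one_lt_card_iff_ne_bot]
    intro hb
    have : c ∈ Z := ⟨hcN, mem_centralizer_iff.mpr fun y hy =>
      congrArg Subtype.val (mem_center_iff.mp hc ⟨y, hy⟩)⟩
    rw [hb, mem_bot] at this
    exact hc1 (Subtype.ext (Subtype.ext this))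
  have h1 := ineq_abelian hA f Z hZab (fun a => by rw [normalizer_eq_top]; exact mem_top _)
    (hcopN _ hZp)
  have hcm := card_map_ker (QuotientGroup.mk' Z) N
  rw [QuotientGroup.ker_mk', inf_eq_right.mpr hZN] at hcm
  have hlt : Nat.card (N.map (QuotientGroup.mk' Z)) < n := by
    rw [← hn, ← hcm]
    have : 0 < Nat.card (N.map (QuotientGroup.mk' Z)) := Nat.card_pos
    nlinarith
  have hNm : (N.map (QuotientGroup.mk' Z)).Normal :=
    Subgroup.Normal.map hNn _ (QuotientGroup.mk'_surjective Z)
  exact ineq_of_quotient hA f N Z hZN (hcopN _ hN) h1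
    (ih _ hlt ((QuotientGroup.mk' Z).comp f) (N.map (QuotientGroup.mk' Z)) rfl (hN.map _))

theorem ineq_pgroup {G : Type u} [Group G] [Finite G] [Fintype A] {p r : ℕ} [hp : Fact p.Prime]
    [hr : Fact r.Prime] (hA : IsPGroup p A) (hpr : r ≠ p) (f : A →* G) (R : Subgroup G)
    (hf : ∀ a, f a ∈ normalizer (R : Set G)) (hR : IsPGroup r R) : Ineq p f R := by
  let f' : A →* normalizer (R : Set G) := f.codRestrict _ hf
  have hn : (R.subgroupOf (normalizer (R : Set G))).Normal := normal_in_normalizer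
  have h1 := ineq_normal_pgroup hA hpr _ f' (R.subgroupOf (normalizer (R : Set G))) rfl
    (hR.of_equiv (subgroupOfEquivOfLe le_normalizer).symm)
  have h2 := ineq_of_subgroup _ f' _ h1
  have h3 : (R.subgroupOf (normalizer (R : Set G))).map (normalizer (R : Set G)).subtype = R := by
    rw [map_subgroupOf_eq_of_le le_normalizer]
  rw [h3] at h2
  exact h2

theorem card_eq_prod {n m : ℕ} (hn : n ≠ 0) (hmn : m ∣ n) :
    m = ∏ r ∈ n.primeFactors, r ^ m.factorization r := by
  have hm : m ≠ 0 := fun h => hn (by rw [h] at hmn; exact Nat.eq_zero_of_zero_dvd hmn)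
  conv_lhs => rw [← Nat.prod_factorization_pow_eq_self hm]
  apply Finsupp.prod_of_support_subset
  · rw [Nat.support_factorization]
    exact Nat.primeFactors_mono hmn hn
  · intro i _
    exact pow_zero i

/-- the general inequality -/
theorem ineq {G : Type u} [Group G] [Finite G] [Fintype A] {p : ℕ} [hp : Fact p.Prime]
    (hA : IsPGroup p A) (f : A →* G) (N : Subgroup G)
    (hf : ∀ a, f a ∈ normalizer (N : Set G)) (hcop : (Nat.card N).Coprime p) : Ineq p f N := by
  classical
  have hle : f.range ≤ normalizer (N : Set G) := by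
    rintro _ ⟨a, rfl⟩
    exact hf a
  have hfp : IsPGroup p f.range := by
    intro ⟨_, a, rfl⟩
    obtain ⟨k, hk⟩ := hA a
    exact ⟨k, Subtype.ext (by
      change (f a) ^ p ^ k = 1
      rw [← map_pow, hk, map_one])⟩
  have hcopR : ∀ K : Subgroup G, K ≤ f.range → (Nat.card K).Coprime (Nat.card N) := by
    intro K hK
    obtain ⟨k, hk⟩ := IsPGroup.iff_card.mp (hfp.to_le hK)
    rw [hk]
    exact Nat.Coprime.pow_left k hcop.symm
  have hsolv : ∀ K : Subgroup G, K ≤ f.range → Group.IsSolvable K := by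
    intro K hK
    have := (hfp.to_le hK).isNilpotent
    infer_instance
  -- invariant Sylow subgroups
  have hex : ∀ r : ℕ, ∃ R : Subgroup G, r.Prime → (R ≤ N ∧ IsPGroup r R ∧ ¬ r ∣ R.relIndex N ∧
      f.range ≤ normalizer (R : Set G)) := by
    intro r
    by_cases hr : r.Prime
    · have : Fact r.Prime := ⟨hr⟩
      obtain ⟨R, h⟩ := CoprimeAction.exists_invariant_sylow hle (hcopR _ le_rfl)
        (Or.inl (hsolv _ le_rfl)) r
      exact ⟨R, fun _ => h⟩
    · exact ⟨⊥, fun h => absurd h hr⟩
  choose R hR using hex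
  set S := (Nat.card N).primeFactors with hS
  have hprime : ∀ r ∈ S, r.Prime := fun r hr => Nat.prime_of_mem_primeFactors hr
  have hne : ∀ r ∈ S, r ≠ p := by
    rintro r hr rfl
    exact (Nat.coprime_primes (hprime r hr) (hprime r hr)).mp
      (hcop.coprime_dvd_left (Nat.dvd_of_mem_primeFactors hr)) rfl
  have hN0 : Nat.card N ≠ 0 := Nat.card_pos.ne'
  have hpos : ∀ V : Subgroup G, (0 : ℝ) < Nat.card V := fun V => by exact_mod_cast Nat.card_pos
  have hsum : ∀ r ∈ S, Ineq p f (R r) := by
    intro r hr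
    have : Fact r.Prime := ⟨hprime r hr⟩
    obtain ⟨-, h2, -, h4⟩ := hR r (hprime r hr)
    exact ineq_pgroup hA (hne r hr) f (R r) (fun a => h4 ⟨a, rfl⟩) h2
  -- the order of `R r`
  have e1 : Real.log (Nat.card N) = ∑ r ∈ S, Real.log (Nat.card (R r)) := by
    rw [← Real.log_prod (fun r _ => (hpos _).ne')]
    congr 1
    have h1 := card_eq_prod hN0 (dvd_refl _)
    rw [h1]
    push_cast
    refine prod_congr rfl fun r hr => ?_
    obtain ⟨h2, h3, h4, -⟩ := hR r (hprime r hr)
    have : Fact r.Prime := ⟨hprime r hr⟩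
    obtain ⟨k, hk⟩ := IsPGroup.iff_card.mp h3
    rw [hk]
    have h5 : Nat.card (R r) * (R r).relIndex N = Nat.card N := by
      rw [Subgroup.relIndex, ← Nat.card_congr (Subgroup.subgroupOfEquivOfLe h2).toEquiv,
        Subgroup.card_mul_index]
    have h6 : (Nat.card N).factorization r = k := by
      rw [← h5, hk, Nat.factorization_mul (pow_pos (hprime r hr).pos k).ne'
        (fun h => by rw [h, mul_zero] at h5; exact hN0 h5.symm), Finsupp.add_apply,
        (hprime r hr).factorization_pow, Finsupp.single_eq_same,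
        Nat.factorization_eq_zero_of_not_dvd h4, add_zero]
    rw [h6]
    push_cast
    rfl
  have e2 : ∀ x : A, Real.log (Nat.card (cE N (f x))) ≤
      ∑ r ∈ S, Real.log (Nat.card (cE (R r) (f x))) := by
    intro x
    rw [← Real.log_prod (fun r _ => (hpos _).ne')]
    apply Real.log_le_log (hpos _)
    have h1 : Nat.card (cE N (f x)) = ∏ r ∈ (Nat.card N).primeFactors,
        r ^ (Nat.card (cE N (f x))).factorization r :=
      card_eq_prod hN0 (card_dvd_of_le inf_le_left)
    rw [h1]
    push_cast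
    refine prod_le_prod (fun r _ => by positivity) fun r hr => ?_
    have hrF : Fact r.Prime := ⟨hprime r hr⟩
    obtain ⟨h2, h3, h4, h5⟩ := hR r (hprime r hr)
    -- a Sylow subgroup of the centralizer
    obtain ⟨T⟩ : Nonempty (Sylow r (cE N (f x))) := inferInstance
    set T' : Subgroup G := (T : Subgroup (cE N (f x))).map (cE N (f x)).subtype with hT'
    have hT'le : T' ≤ cE N (f x) := map_subtype_le _
    have hxle : zpowers (f x) ≤ f.range := by rw [zpowers_le]; exact ⟨x, rfl⟩
    have hxT' : zpowers (f x) ≤ normalizer (T' : Set G) := by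
      rw [zpowers_le]
      apply centralizer_le_normalizer
      rw [mem_centralizer_iff]
      intro t ht
      exact (mem_cE.mp (hT'le ht)).2
    obtain ⟨Q, hTQ, hQN, hQp, hQi, hQx⟩ := CoprimeAction.exists_invariant_sylow_ge
      (A := zpowers (f x)) (K := N) (hxle.trans hle) (hcopR _ hxle) (Or.inl (hsolv _ hxle))
      (hT'le.trans inf_le_left) (T.2.map _) hxT'
    obtain ⟨c, hc, hcQ⟩ := CoprimeAction.invariant_sylow_conj
      (A := zpowers (f x)) (K := N) (hxle.trans hle) (hcopR _ hxle) (Or.inl (hsolv _ hxle))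
      hQN h2 hQp h3 hQi h4 hQx (hxle.trans h5)
    have h6 : MulAut.conj c • T' ≤ cE (R r) (f x) := by
      intro y hy
      obtain ⟨t, ht, rfl⟩ := Subgroup.mem_smul_pointwise_iff_exists _ _ _ |>.mp hy
      rw [mem_cE]
      refine ⟨hcQ ▸ Subgroup.smul_mem_pointwise_smul _ _ _ (hTQ ht), ?_⟩
      have h7 : t * f x = f x * t := (mem_cE.mp (hT'le ht)).2
      have h8 : f x * c = c * f x := mem_centralizer_iff.mp hc.2 _ (mem_zpowers _)
      have h8' : f x * c⁻¹ = c⁻¹ * f x := by
        rw [eq_inv_mul_iff_mul_eq, ← mul_assoc, ← h8, mul_inv_cancel_right]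
      rw [MulAut.smul_def, MulAut.conj_apply]
      calc c * t * c⁻¹ * f x = c * t * (c⁻¹ * f x) := by group
        _ = c * (t * f x) * c⁻¹ := by rw [← h8']; group
        _ = (c * f x) * t * c⁻¹ := by rw [h7]; group
        _ = f x * (c * t * c⁻¹) := by rw [← h8]; group
    have h9 : r ^ (Nat.card (cE N (f x))).factorization r ≤ Nat.card (cE (R r) (f x)) := by
      have h10 : Nat.card (MulAut.conj c • T' : Subgroup G) =
          r ^ (Nat.card (cE N (f x))).factorization r := by
        rw [← T.card_eq_multiplicity]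
        rw [Nat.card_congr (Subgroup.equivSMul (MulAut.conj c) T').symm.toEquiv, hT',
          card_map_of_injective (subtype_injective _)]
      rw [← h10]
      exact card_le_of_le h6
    exact_mod_cast h9
  have e3 : ∑ r ∈ S, Real.log (Nat.card (cA f (R r))) ≤ Real.log (Nat.card (cA f N)) := by
    rw [← Real.log_prod (fun r _ => (hpos _).ne')]
    apply Real.log_le_log (prod_pos fun r _ => hpos _)
    have h1 : ∏ r ∈ S, Nat.card (cA f (R r)) ∣ Nat.card (cA f N) := by
      apply Finset.prod_dvd_of_isRelPrime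
      · intro r hr s hs hrs
        have hrF : Fact r.Prime := ⟨hprime r hr⟩
        have hsF : Fact s.Prime := ⟨hprime s hs⟩
        obtain ⟨k, hk⟩ : ∃ k, Nat.card (cA f (R r)) = r ^ k := IsPGroup.iff_card.mp
          ((hR r (hprime r hr)).2.1.to_le (inf_le_left : cA f (R r) ≤ R r))
        obtain ⟨l, hl⟩ : ∃ l, Nat.card (cA f (R s)) = s ^ l := IsPGroup.iff_card.mp
          ((hR s (hprime s hs)).2.1.to_le (inf_le_left : cA f (R s) ≤ R s))
        rw [Function.onFun, hk, hl]
        exact Nat.coprime_iff_isRelPrime.mp (((Nat.coprime_primes hrF.out hsF.out).mpr hrs).pow k l)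
      · intro r hr
        exact card_dvd_of_le (inf_le_inf_right _ (hR r (hprime r hr)).1)
    exact_mod_cast Nat.le_of_dvd Nat.card_pos h1
  have hp1 : (0 : ℝ) ≤ (p : ℝ) - 1 := by
    have : (1 : ℝ) ≤ p := by exact_mod_cast hp.out.one_lt.le
    linarith
  unfold Ineq at hsum ⊢
  calc (p : ℝ) * ∑ x : A, Real.log (Nat.card (cE N (f x)))
      ≤ (p : ℝ) * ∑ x : A, ∑ r ∈ S, Real.log (Nat.card (cE (R r) (f x))) :=
        mul_le_mul_of_nonneg_left (sum_le_sum fun x _ => e2 x) (by positivity)
    _ = ∑ r ∈ S, (p : ℝ) * ∑ x : A, Real.log (Nat.card (cE (R r) (f x))) := by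
        rw [sum_comm, mul_sum]
    _ ≤ ∑ r ∈ S, Fintype.card A * (Real.log (Nat.card (R r)) +
          (p - 1) * Real.log (Nat.card (cA f (R r)))) := sum_le_sum hsum
    _ = Fintype.card A * (Real.log (Nat.card N) +
          (p - 1) * ∑ r ∈ S, Real.log (Nat.card (cA f (R r)))) := by
        rw [← mul_sum, sum_add_distrib, ← mul_sum, e1]
    _ ≤ _ := by
        apply mul_le_mul_of_nonneg_left _ (by positivity)
        have := mul_le_mul_of_nonneg_left e3 hp1
        linarith

end Cfsg.Agent.Lib.H10CopAvg
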