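import Cfsg.Agent.Lib.RelDeg4
import Cfsg.Agent.S4466

set_option autoImplicit false

/-! The degree graph of a solvable group: two components (from the relative degree graph over the derived
subgroup). -/

namespace Cfsg.Agent.Lib.H10DegGraph

open Cfsg Cfsg.Agent.Lib.RelDeg Cfsg.Agent.Lib.CharBasic Subgroup

universe u
variable {G : Type u} [Group G]

/-- degree one and the derived subgroup -/
theorem exists_ne_of_degree [Finite G] (χ : IrrCharacter G) (h : charDegree (χ : G → ℂ) ≠ 1) :
    ∃ x ∈ commutator G, (χ : G → ℂ) x ≠ (χ : G → ℂ) 1 := by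
  by_contra hcon
  push Not at hcon
  obtain ⟨ψ, hψ, hψχ⟩ := χ.2.deflate (commutator G) hcon
  apply h
  have h1 : ψ 1 = 1 := hψ.one_eq_one_of_comm (fun a b => by
    obtain ⟨a, rfl⟩ := QuotientGroup.mk_surjective a
    obtain ⟨b, rfl⟩ := QuotientGroup.mk_surjective b
    rw [← QuotientGroup.mk_mul, ← QuotientGroup.mk_mul, QuotientGroup.eq]
    have h2 : (a * b)⁻¹ * (b * a) = b⁻¹ * a⁻¹ * b⁻¹⁻¹ * a⁻¹⁻¹ := by group
    rw [h2]
    exact Subgroup.commutator_mem_commutator (mem_top _) (mem_top _))
  have h3 : (χ : G → ℂ) 1 = 1 := by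
    rw [← hψχ 1, QuotientGroup.mk_one, h1]
  simp [charDegree, h3]

theorem mem_rel [Finite G] {d : ℕ} : d ∈ relCharDegrees (commutator G) ↔ d ∈ charDegrees G ∧ d ≠ 1 := by
  constructor
  · rintro ⟨χ, ⟨x, hx, hne⟩, rfl⟩
    refine ⟨⟨χ, rfl⟩, ?_⟩
    intro h1
    obtain ⟨lam, hlam⟩ := exists_lf_of_degree χ.2 h1
    apply hne
    have h2 : lam.val x = 1 := by
      have h3 := comap_commutator lam
      have h4 := congrArg (fun μ : Lin (commutator G) => μ.val ⟨x, hx⟩) h3
      exact h4
    change (χ : G → ℂ) x = (χ : G → ℂ) 1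
    rw [hlam]
    simp [lf, h2]
  · rintro ⟨⟨χ, rfl⟩, h1⟩
    exact ⟨χ, exists_ne_of_degree χ h1, rfl⟩

theorem charDegree_eq_one_of_bot [Finite G] (h : commutator G = ⊥) (χ : IrrCharacter G) :
    charDegree (χ : G → ℂ) = 1 := by
  by_contra hne
  obtain ⟨x, hx, hx1⟩ := exists_ne_of_degree χ hne
  rw [h, mem_bot] at hx
  exact hx1 (by rw [hx])

/-- reachability in the prime graph -/
def PR (G : Type u) [Group G] (p q : ℕ) : Prop :=
  ∃ (hp : p ∈ degreePrimes G) (hq : q ∈ degreePrimes G),
    ((degreeGraph G).induce (degreePrimes G)).Reachable ⟨p, hp⟩ ⟨q, hq⟩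

theorem PR.trans {p q r : ℕ} (h : PR G p q) (h' : PR G q r) : PR G p r := by
  obtain ⟨hp, hq, h⟩ := h
  obtain ⟨hq', hr, h'⟩ := h'
  exact ⟨hp, hr, h.trans h'⟩

theorem pr_of_dvd {a p q : ℕ} (ha : a ∈ charDegrees G) (hp : p.Prime) (hq : q.Prime) (hpa : p ∣ a) (hqa : q ∣ a) :
    PR G p q := by
  refine ⟨⟨hp, a, ha, hpa⟩, ⟨hq, a, ha, hqa⟩, ?_⟩
  by_cases h : p = q
  · subst h; exact SimpleGraph.Reachable.refl _
  · apply SimpleGraph.Adj.reachable
    exact ⟨h, hp, hq, a, ha, Nat.Coprime.mul_dvd_of_dvd_of_dvd ((Nat.coprime_primes hp hq).2 h) hpa hqa⟩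

theorem pr_of_rch [Finite G] {a b : ℕ} (h : Rch (commutator G) a b) {p q : ℕ} (hp : p.Prime) (hq : q.Prime)
    (hpa : p ∣ a) (hqb : q ∣ b) : PR G p q := by
  obtain ⟨ha, hb, h⟩ := h
  obtain ⟨w⟩ := h
  have key : ∀ (u v : ↥(relCharDegrees (commutator G)))
      (w : (commonDivisorGraph.induce (relCharDegrees (commutator G))).Walk u v) (p : ℕ), p.Prime → p ∣ (u : ℕ) →
      q ∣ (v : ℕ) → PR G p q := by
    intro u v w
    induction w with
    | nil =>
      intro p hp hpa hqb
      exact pr_of_dvd (mem_rel.1 (Subtype.mem _)).1 hp hq hpa hqb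
    | cons hadj w ih =>
      intro p hp hpa hqb
      obtain ⟨-, hg⟩ := hadj
      obtain ⟨s, hs, hsg⟩ := Nat.exists_prime_and_dvd hg.ne'
      exact (pr_of_dvd (mem_rel.1 (Subtype.mem _)).1 hp hs hpa (hsg.trans (Nat.gcd_dvd_left _ _))).trans
        (ih s hs (hsg.trans (Nat.gcd_dvd_right _ _)) hqb)
  exact key _ _ w p hp hpa hqb

theorem commutator_lt [Finite G] [Group.IsSolvable G] (h : commutator G ≠ ⊥) :
    ⁅commutator G, commutator G⁆ < commutator G := by
  refine lt_of_le_of_ne (Subgroup.commutator_le_left _ _) ?_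
  intro heq
  have : Nontrivial (commutator G) := (Subgroup.nontrivial_iff_ne_bot _).2 h
  have h1 := Group.IsSolvable.commutator_lt_top_of_nontrivial (commutator G)
  apply h1.ne
  have h2 := subgroupOf_commutator (commutator G)
  rw [← h2, heq, subgroupOf_self]

theorem two_components [Finite G] [Group.IsSolvable G] :
    Nat.card ((degreeGraph G).induce (degreePrimes G)).ConnectedComponent ≤ 2 := by
  classical
  have := Fintype.ofFinite G
  have := Fintype.ofFinite (commutator G)
  by_cases hbot : commutator G = ⊥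
  · have : IsEmpty ((degreeGraph G).induce (degreePrimes G)).ConnectedComponent := by
      refine ⟨fun c => ?_⟩
      obtain ⟨hp, d, ⟨χ, rfl⟩, hd⟩ := c.out.2
      rw [charDegree_eq_one_of_bot hbot χ] at hd
      exact hp.one_lt.ne' (Nat.dvd_one.1 hd)
    rw [Nat.card_of_isEmpty]
    omega
  · obtain ⟨r, hr, hrm⟩ := exists_prime_relIndex (commutator_lt hbot)
    let Γ := (degreeGraph G).induce (degreePrimes G)
    have hex : ∀ c : Γ.ConnectedComponent, ∃ d ∈ relCharDegrees (commutator G), (c.out : ℕ) ∣ d := by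
      intro c
      obtain ⟨hp, d, hd, hpd⟩ := c.out.2
      refine ⟨d, mem_rel.2 ⟨hd, ?_⟩, hpd⟩
      rintro rfl
      exact hp.one_lt.ne' (Nat.dvd_one.1 hpd)
    choose dg hdg hdvd using hex
    have hf : Function.Injective (fun c : Γ.ConnectedComponent => decide (r ∣ dg c)) := by
      intro c d hcd
      by_contra hne
      have h1 : ¬ Rch (commutator G) (dg c) (dg d) := by
        intro h
        obtain ⟨_, _, h'⟩ := pr_of_rch h c.out.2.1 d.out.2.1 (hdvd c) (hdvd d)
        apply hne
        have h2 := SimpleGraph.ConnectedComponent.sound h'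
        have h3 : Γ.connectedComponentMk c.out = c := Quot.out_eq c
        have h4 : Γ.connectedComponentMk d.out = d := Quot.out_eq d
        have h5 : Γ.connectedComponentMk c.out = Γ.connectedComponentMk d.out := h2
        rw [h3, h4] at h5
        exact h5
      have h2 := disc le_rfl hr hrm (hdg c) (hdg d) h1
      have h3 : (r ∣ dg c) ↔ (r ∣ dg d) := by simpa using hcd
      by_cases h4 : r ∣ dg c
      · exact h2.1 ⟨h4, h3.mp h4⟩
      · exact h2.2.1 ⟨h4, fun h => h4 (h3.mpr h)⟩
    have h1 := Nat.card_le_card_of_injective _ hf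
    rw [Nat.card_eq_fintype_card (α := Bool), Fintype.card_bool] at h1
    exact h1

theorem three_degrees [Finite G] (hprime : ∀ d ∈ charDegrees G, d = 1 ∨ d.Prime) :
    Nat.card ↥(charDegrees G) ≤ 3 := by
  classical
  have := Fintype.ofFinite G
  have := Fintype.ofFinite (commutator G)
  have hsol : Group.IsSolvable G := Cfsg.Agent.S4466.result (fun χ hχ =>
    (hprime _ ⟨χ, rfl⟩).resolve_left hχ)
  by_cases hbot : commutator G = ⊥
  · have h1 : Nat.card ↥(charDegrees G) ≤ 1 := by
      have : Subsingleton ↥(charDegrees G) := by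
        refine ⟨?_⟩
        rintro ⟨_, χ, rfl⟩ ⟨_, ψ, rfl⟩
        apply Subtype.ext
        change charDegree (χ : G → ℂ) = charDegree (ψ : G → ℂ)
        rw [charDegree_eq_one_of_bot hbot χ, charDegree_eq_one_of_bot hbot ψ]
      exact Finite.card_le_one_iff_subsingleton.2 this
    omega
  · obtain ⟨r, hr, hrm⟩ := exists_prime_relIndex (commutator_lt hbot)
    have hrch : ∀ a b, Rch (commutator G) a b → a = b := by
      rintro a b ⟨ha, hb, ⟨w⟩⟩
      have key : ∀ (u v : ↥(relCharDegrees (commutator G)))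
          (w : (commonDivisorGraph.induce (relCharDegrees (commutator G))).Walk u v), u = v := by
        intro u v w
        induction w with
        | nil => rfl
        | @cons u v x hadj w ih =>
          exfalso
          obtain ⟨hne, hg⟩ := hadj
          have hu := mem_rel.1 u.2
          have hv := mem_rel.1 v.2
          have hup := (hprime _ hu.1).resolve_left hu.2
          have hvp := (hprime _ hv.1).resolve_left hv.2
          have := (Nat.coprime_primes hup hvp).2 hne
          rw [Nat.Coprime] at this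
          have hg' : 1 < Nat.gcd (u : ℕ) (v : ℕ) := hg
          omega
      exact congrArg Subtype.val (key _ _ w)
    let f : ↥(charDegrees G) → Fin 3 := fun d => if (d : ℕ) = 1 then 0 else if r ∣ (d : ℕ) then 1 else 2
    have hf : Function.Injective f := by
      intro c d hcd
      by_contra hne
      have hne' : (c : ℕ) ≠ d := fun h => hne (Subtype.ext h)
      simp only [f] at hcd
      by_cases hc1 : (c : ℕ) = 1
      · have hd1 : (d : ℕ) ≠ 1 := fun h => hne' (hc1.trans h.symm)
        rw [if_pos hc1, if_neg hd1] at hcd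
        split_ifs at hcd <;> exact absurd hcd (by decide)
      · by_cases hd1 : (d : ℕ) = 1
        · rw [if_neg hc1, if_pos hd1] at hcd
          split_ifs at hcd <;> exact absurd hcd (by decide)
        · have h2 := disc le_rfl hr hrm (mem_rel.2 ⟨c.2, hc1⟩) (mem_rel.2 ⟨d.2, hd1⟩) (fun h => hne' (hrch _ _ h))
          rw [if_neg hc1, if_neg hd1] at hcd
          by_cases h3 : r ∣ (c : ℕ)
          · by_cases h4 : r ∣ (d : ℕ)
            · exact h2.1 ⟨h3, h4⟩
            · rw [if_pos h3, if_neg h4] at hcd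
              exact absurd hcd (by decide)
          · by_cases h4 : r ∣ (d : ℕ)
            · rw [if_neg h3, if_pos h4] at hcd
              exact absurd hcd (by decide)
            · exact h2.2.1 ⟨h3, h4⟩
    have h1 := Nat.card_le_card_of_injective _ hf
    rwa [Nat.card_eq_fintype_card (α := Fin 3), Fintype.card_fin] at h1

end Cfsg.Agent.Lib.H10DegGraph
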