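import Cfsg.Agent.Lib.GlaubStd
import Cfsg.Agent.Lib.H23Basic

set_option autoImplicit false
set_option linter.unusedSectionVars false

/-!
# Self-centralizing elementary abelian Sylow 2-subgroups of order 8 with one class of involutions
-/

namespace Cfsg.Agent.Lib.H10Eight

open Cfsg Subgroup

variable {G : Type*} [Group G] [Finite G]

structure Hyp (S : Sylow 2 G) (J : G) : Prop where
  card : Nat.card S = 8
  ord : ∀ s ∈ (S : Subgroup G), s ≠ 1 → orderOf s = 2
  cent : centralizer ((S : Subgroup G) : Set G) ≤ S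
  mem : J ∈ (S : Subgroup G)
  ne : J ≠ 1
  tr : ∀ s ∈ (S : Subgroup G), s ≠ 1 → ∃ n ∈ normalizer ((S : Subgroup G) : Set G), n * J * n⁻¹ = s
  core : oddCore G = ⊥
  nn : ¬ (S : Subgroup G).Normal

variable {S : Sylow 2 G} {J : G}

/-- the involutions of `S` -/
def X (S : Sylow 2 G) : Type _ := {s : G // s ∈ (S : Subgroup G) ∧ s ≠ 1}

noncomputable instance : MulAction (normalizer ((S : Subgroup G) : Set G)) (X S) where
  smul n s := ⟨n.1 * s.1 * n.1⁻¹, (mem_normalizer_iff.1 n.2 _).1 s.2.1, fun h => s.2.2 (by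
    rw [mul_inv_eq_one] at h
    exact mul_left_cancel (a := n.1) (by rw [h, mul_one]))⟩
  one_smul s := Subtype.ext (by show (1 : G) * s.1 * (1 : G)⁻¹ = s.1; group)
  mul_smul a b s := Subtype.ext (by
    show (a.1 * b.1) * s.1 * (a.1 * b.1)⁻¹ = a.1 * (b.1 * s.1 * b.1⁻¹) * a.1⁻¹; group)

theorem smul_val (n : normalizer ((S : Subgroup G) : Set G)) (s : X S) : (n • s).1 = n.1 * s.1 * n.1⁻¹ := rfl

theorem card_X (h : Nat.card S = 8) : Nat.card (X S) = 7 := by
  classical
  have := Fintype.ofFinite S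
  have e : X S ≃ {s : S // s ≠ 1} :=
    { toFun := fun s => ⟨⟨s.1, s.2.1⟩, fun h => s.2.2 (congrArg Subtype.val h)⟩
      invFun := fun s => ⟨s.1.1, s.1.2, fun h => s.2 (Subtype.ext h)⟩
      left_inv := fun s => rfl
      right_inv := fun s => rfl }
  rw [Nat.card_congr e, Nat.card_eq_fintype_card, Fintype.card_subtype_compl, Fintype.card_subtype_eq,
    ← Nat.card_eq_fintype_card]
  show Nat.card S - 1 = 7
  rw [h]

namespace Hyp

theorem comm (h : Hyp S J) {a b : G} (ha : a ∈ (S : Subgroup G)) (hb : b ∈ (S : Subgroup G)) : a * b = b * a := by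
  have sq : ∀ x ∈ (S : Subgroup G), x * x = 1 := by
    intro x hx
    by_cases h1 : x = 1
    · rw [h1, mul_one]
    · rw [← sq, ← h.ord x hx h1, pow_orderOf_eq_one]
  have h1 := sq a ha
  have h2 := sq b hb
  have h3 := sq (a * b) (mul_mem ha hb)
  calc a * b = (a * b) * ((b * a) * (b * a)) := by rw [sq (b * a) (mul_mem hb ha), mul_one]
    _ = a * (b * b) * a * (b * a) := by group
    _ = b * a := by rw [h2, mul_one, h1, one_mul]

theorem sub_norm (_h : Hyp S J) : (S : Subgroup G) ≤ normalizer ((S : Subgroup G) : Set G) := le_normalizer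

/-- a normal subgroup of `N(S)` not contained in `S` is transitive on the involutions -/
theorem trans_of_normal (h : Hyp S J) (R : Subgroup G) (hRN : R ≤ normalizer ((S : Subgroup G) : Set G))
    (hR : ∀ n ∈ normalizer ((S : Subgroup G) : Set G), ∀ r ∈ R, n * r * n⁻¹ ∈ R)
    (hRS : ¬ R ≤ S) {a b : G} (ha : a ∈ (S : Subgroup G)) (ha1 : a ≠ 1) (hb : b ∈ (S : Subgroup G)) (hb1 : b ≠ 1) :
    ∃ r ∈ R, r * a * r⁻¹ = b := by
  have hp : MulAction.IsPretransitive (normalizer ((S : Subgroup G) : Set G)) (X S) := by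
    constructor
    rintro ⟨x, hx, hx1⟩ ⟨y, hy, hy1⟩
    obtain ⟨n, hn, hn2⟩ := h.tr x hx hx1
    obtain ⟨n', hn', hn2'⟩ := h.tr y hy hy1
    refine ⟨⟨n' * n⁻¹, mul_mem hn' (inv_mem hn)⟩, Subtype.ext ?_⟩
    show n' * n⁻¹ * x * (n' * n⁻¹)⁻¹ = y
    rw [← hn2, ← hn2']
    group
  have hpr : MulAction.IsPreprimitive (normalizer ((S : Subgroup G) : Set G)) (X S) :=
    MulAction.IsPreprimitive.of_prime_card (by rw [card_X h.card]; norm_num)
  have hnorm : (R.subgroupOf (normalizer ((S : Subgroup G) : Set G))).Normal := by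
    constructor
    intro r hr n
    rw [mem_subgroupOf] at hr ⊢
    exact hR n n.2 r hr
  have h1 : MulAction.IsPretransitive (R.subgroupOf (normalizer ((S : Subgroup G) : Set G))) (X S) := by
    apply MulAction.IsQuasiPreprimitive.isPretransitive_of_normal
    intro hfix
    apply hRS
    intro r hr
    apply h.cent
    rw [mem_centralizer_iff]
    intro s hs
    by_cases hs1 : s = 1
    · rw [hs1, one_mul, mul_one]
    · have h2 : (⟨s, hs, hs1⟩ : X S) ∈ MulAction.fixedPoints
          (R.subgroupOf (normalizer ((S : Subgroup G) : Set G))) (X S) := by rw [hfix]; trivial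
      have h3 := congrArg Subtype.val (h2 ⟨⟨r, hRN hr⟩, mem_subgroupOf.2 hr⟩)
      change r * s * r⁻¹ = s at h3
      rw [mul_inv_eq_iff_eq_mul] at h3
      exact h3.symm
  obtain ⟨⟨n, hn⟩, hn2⟩ := h1.exists_smul_eq (⟨a, ha, ha1⟩ : X S) ⟨b, hb, hb1⟩
  refine ⟨n.1, mem_subgroupOf.1 hn, ?_⟩
  exact congrArg Subtype.val hn2

/-- the normal closure of `S` -/
theorem S_le : (S : Subgroup G) ≤ normalClosure ((S : Subgroup G) : Set G) := le_normalClosure

theorem frattini (M : Subgroup G) [M.Normal] (hM : (S : Subgroup G) ≤ M) (g : G) :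
    ∃ m ∈ M, m * g ∈ normalizer ((S : Subgroup G) : Set G) := by
  have h1 : (g : G) ∈ M ⊔ normalizer ((S : Subgroup G) : Set G) := by
    have h2 := Sylow.normalizer_sup_eq_top (S.subtype hM)
    have h3 : ((S.subtype hM : Sylow 2 M) : Subgroup M).map M.subtype = S := by
      rw [Sylow.coe_subtype, subgroupOf_map_subtype, inf_eq_left.2 hM]
    rw [h3] at h2
    rw [sup_comm, h2]
    trivial
  rw [← SetLike.mem_coe, normal_mul] at h1
  obtain ⟨m, hm, n, hn, hmn⟩ := h1
  refine ⟨m⁻¹, inv_mem hm, ?_⟩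
  rw [← hmn]
  simpa using hn

/-- every involution of `G` is conjugate to `J` -/
theorem conj (h : Hyp S J) {v : G} (hv : orderOf v = 2) : IsConj J v := by
  have hp : IsPGroup 2 (zpowers v) := by
    rw [IsPGroup.iff_card]
    exact ⟨1, by rw [Nat.card_zpowers, hv, pow_one]⟩
  obtain ⟨Q, hQ⟩ := hp.exists_le_sylow
  obtain ⟨g, hg⟩ := MulAction.exists_smul_eq G Q S
  have h1 : g * v * g⁻¹ ∈ (S : Subgroup G) := by
    rw [← hg, Sylow.smul_def, Sylow.pointwise_smul_def]
    exact ⟨v, hQ (mem_zpowers v), rfl⟩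
  have h2 : g * v * g⁻¹ ≠ 1 := by
    intro h3
    rw [mul_inv_eq_one] at h3
    have h4 : v = 1 := mul_left_cancel (a := g) (by rw [h3, mul_one])
    rw [h4, orderOf_one] at hv
    omega
  obtain ⟨n, -, hn⟩ := h.tr _ h1 h2
  exact (isConj_iff.2 ⟨n, hn⟩ : IsConj J (g * v * g⁻¹)).trans (isConj_iff.2 ⟨g, rfl⟩ : IsConj v (g * v * g⁻¹)).symm

/-- `N_M(S)` is not contained in `S`, for a normal subgroup `M` containing `S` -/
theorem norm_not_le (h : Hyp S J) (M : Subgroup G) [M.Normal] (hM : (S : Subgroup G) ≤ M) :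
    ¬ M ⊓ normalizer ((S : Subgroup G) : Set G) ≤ S := by
  intro hle
  -- Burnside
  let P : Sylow 2 M := S.subtype hM
  have hP : normalizer ((P : Subgroup M) : Set M) ≤ centralizer ((P : Subgroup M) : Set M) := by
    intro x hx
    have hxS : (x : G) ∈ (S : Subgroup G) := by
      apply hle
      refine Subgroup.mem_inf.2 ⟨x.2, mem_normalizer_iff.2 ?_⟩
      intro s
      constructor
      · intro hs
        have := (mem_normalizer_iff.1 hx ⟨s, hM hs⟩).1 (mem_subgroupOf.2 hs)
        exact mem_subgroupOf.1 this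
      · intro hs
        have hsM : s ∈ M := by
          have h3 := hM hs
          have h4 := M.mul_mem (M.mul_mem (M.inv_mem x.2) h3) x.2
          simpa [mul_assoc] using h4
        have := (mem_normalizer_iff.1 hx ⟨s, hsM⟩).2 (mem_subgroupOf.2 hs)
        exact mem_subgroupOf.1 this
    rw [mem_centralizer_iff]
    intro y hy
    exact Subtype.ext (h.comm (mem_subgroupOf.1 hy) hxS)
  have hc : (MonoidHom.transferSylow P hP).ker.IsComplement' P := MonoidHom.ker_transferSylow_isComplement' P hP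
  set K := (MonoidHom.transferSylow P hP).ker with hK
  have hcard : Nat.card K * Nat.card P = Nat.card M := hc.card_mul_card
  have hodd : ¬ 2 ∣ Nat.card K := by
    have h1 := P.not_dvd_index
    have h2 := (P : Subgroup M).index_mul_card
    have h3 : (P : Subgroup M).index = Nat.card K := by
      apply Nat.eq_of_mul_eq_mul_right (Nat.card_pos (α := P))
      rw [hcard]; exact h2
    rwa [h3] at h1
  have hKbot : K = ⊥ := by
    by_contra hne
    have hsub : (K.map M.subtype).IsSubnormal := by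
      have h1 : K.IsSubnormal := Subgroup.Normal.isSubnormal inferInstance
      have h2 : M.IsSubnormal := Subgroup.Normal.isSubnormal inferInstance
      exact h1.trans' h2
    apply Lib.GlaubStd.not_odd_of_subnormal h.core hsub
    · intro h1
      exact hne ((Subgroup.map_eq_bot_iff_of_injective _ M.subtype_injective).1 h1)
    · rw [card_map_of_injective M.subtype_injective]
      exact Nat.odd_iff.2 (Nat.two_dvd_ne_zero.1 hodd)
  have hMS : M = S := by
    apply le_antisymm _ hM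
    intro m hm
    have h1 : Nat.card P = Nat.card M := by
      rw [hKbot, card_bot, one_mul] at hcard
      exact hcard
    have h2 : (P : Subgroup M) = ⊤ := eq_top_of_card_eq _ h1
    have h3 : (⟨m, hm⟩ : M) ∈ (P : Subgroup M) := by rw [h2]; trivial
    exact mem_subgroupOf.1 h3
  exact h.nn (hMS ▸ inferInstance)

/-- the normal closure of `S` is simple -/
theorem simple (h : Hyp S J) : IsSimpleGroup (normalClosure ((S : Subgroup G) : Set G)) := by
  set M := normalClosure ((S : Subgroup G) : Set G) with hMdef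
  have hM : (S : Subgroup G) ≤ M := S_le
  have hR := h.norm_not_le M hM
  have hnt : Nontrivial M := by
    refine ⟨⟨J, hM h.mem⟩, 1, fun h1 => h.ne (congrArg Subtype.val h1)⟩
  refine { hnt with eq_bot_or_eq_top_of_normal := ?_ }
  intro K hK
  by_cases hKbot : K = ⊥
  · exact Or.inl hKbot
  right
  set K' := K.map M.subtype with hK'
  have hK'M : K' ≤ M := by rw [hK']; exact map_subtype_le K
  have hsub : K'.IsSubnormal := (Subgroup.Normal.isSubnormal hK).trans' (Subgroup.Normal.isSubnormal inferInstance)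
  have hne : K' ≠ ⊥ := fun h1 => hKbot ((Subgroup.map_eq_bot_iff_of_injective _ M.subtype_injective).1 h1)
  obtain ⟨v, hvK, hv⟩ := Lib.GlaubStd.exists_invol_of_not_odd (Lib.GlaubStd.not_odd_of_subnormal h.core hsub hne)
  have hKn : ∀ m ∈ M, ∀ k ∈ K', m * k * m⁻¹ ∈ K' := by
    rintro m hm _ ⟨k, hk, rfl⟩
    exact ⟨⟨m, hm⟩ * k * ⟨m, hm⟩⁻¹, hK.conj_mem k hk _, rfl⟩
  -- conjugate `v` into `S` inside `M`
  obtain ⟨w, hwS, hw1, hwK⟩ : ∃ w ∈ (S : Subgroup G), w ≠ 1 ∧ w ∈ K' := by
    have hp : IsPGroup 2 (zpowers (⟨v, hK'M hvK⟩ : M)) := by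
      rw [IsPGroup.iff_card]
      exact ⟨1, by rw [Nat.card_zpowers, Subgroup.orderOf_mk, hv, pow_one]⟩
    obtain ⟨Q, hQ⟩ := hp.exists_le_sylow
    obtain ⟨g, hg⟩ := MulAction.exists_smul_eq M Q (S.subtype hM)
    have h1 : g * ⟨v, hK'M hvK⟩ * g⁻¹ ∈ ((S.subtype hM : Sylow 2 M) : Subgroup M) := by
      rw [← hg, Sylow.smul_def, Sylow.pointwise_smul_def]
      exact ⟨_, hQ (mem_zpowers _), rfl⟩
    refine ⟨g.1 * v * g.1⁻¹, mem_subgroupOf.1 h1, ?_, hKn g.1 g.2 v hvK⟩
    intro h3
    rw [mul_inv_eq_one] at h3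
    have h4 : v = 1 := mul_left_cancel (a := g.1) (by rw [h3, mul_one])
    rw [h4, orderOf_one] at hv
    omega
  have hSK : (S : Subgroup G) ≤ K' := by
    intro s hs
    by_cases hs1 : s = 1
    · rw [hs1]; exact one_mem _
    obtain ⟨r, hr, hr2⟩ := h.trans_of_normal (M ⊓ normalizer ((S : Subgroup G) : Set G)) inf_le_right (by
      intro n hn r hr
      have hr' := Subgroup.mem_inf.1 hr
      exact Subgroup.mem_inf.2 ⟨(inferInstance : M.Normal).conj_mem r hr'.1 n,
        Subgroup.mul_mem _ (Subgroup.mul_mem _ hn hr'.2) (Subgroup.inv_mem _ hn)⟩) hR hwS hw1 hs hs1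
    rw [← hr2]
    exact hKn r hr.1 w hwK
  have hMK : M ≤ K' := by
    rw [hMdef, normalClosure, closure_le]
    intro x hx
    rw [Group.mem_conjugatesOfSet_iff] at hx
    obtain ⟨s, hs, hsx⟩ := hx
    obtain ⟨g, hg⟩ := isConj_iff.1 hsx
    obtain ⟨m, hm, hmn⟩ := frattini M hM g
    have h1 : (m * g) * s * (m * g)⁻¹ ∈ (S : Subgroup G) := (mem_normalizer_iff.1 hmn s).1 hs
    have h2 := hKn m⁻¹ (inv_mem hm) _ (hSK h1)
    rw [← hg]
    have h3 : g * s * g⁻¹ = m⁻¹ * (m * g * s * (m * g)⁻¹) * m⁻¹⁻¹ := by group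
    rw [h3]; exact h2
  rw [eq_top_iff]
  intro m _
  obtain ⟨k, hk, hk2⟩ := hMK m.2
  have h5 : k = m := Subtype.ext hk2
  rwa [← h5]

/-- `N(S) ≤ N_M(S) C(J)` -/
theorem norm_le (h : Hyp S J) (M : Subgroup G) [M.Normal] (hM : (S : Subgroup G) ≤ M) {n : G}
    (hn : n ∈ normalizer ((S : Subgroup G) : Set G)) :
    ∃ m ∈ M ⊓ normalizer ((S : Subgroup G) : Set G), (m * n) * J = J * (m * n) := by
  have h1 : n * J * n⁻¹ ∈ (S : Subgroup G) := (mem_normalizer_iff.1 hn J).1 h.mem
  have h2 : n * J * n⁻¹ ≠ 1 := by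
    intro h3
    rw [mul_inv_eq_one] at h3
    exact h.ne (mul_left_cancel (a := n) (by rw [h3, mul_one]))
  obtain ⟨r, hr, hr2⟩ := h.trans_of_normal (M ⊓ normalizer ((S : Subgroup G) : Set G)) inf_le_right (by
      intro n hn r hr
      have hr' := Subgroup.mem_inf.1 hr
      exact Subgroup.mem_inf.2 ⟨(inferInstance : M.Normal).conj_mem r hr'.1 n,
        Subgroup.mul_mem _ (Subgroup.mul_mem _ hn hr'.2) (Subgroup.inv_mem _ hn)⟩)
      (h.norm_not_le M hM) h1 h2 h.mem h.ne
  refine ⟨r, hr, ?_⟩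
  have h3 : r * n * J * (r * n)⁻¹ = J := by
    calc r * n * J * (r * n)⁻¹ = r * (n * J * n⁻¹) * r⁻¹ := by group
      _ = J := hr2
  rw [mul_inv_eq_iff_eq_mul] at h3
  exact h3

/-- a normal subgroup containing `C(J)` and `S` is everything -/
theorem eq_top (h : Hyp S J) (M : Subgroup G) [M.Normal] (hM : (S : Subgroup G) ≤ M)
    (hC : centralizer ({J} : Set G) ≤ M) : M = ⊤ := by
  rw [eq_top_iff]
  intro g _
  obtain ⟨m, hm, hmg⟩ := frattini M hM g
  obtain ⟨r, hr, hr2⟩ := h.norm_le M hM hmg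
  have h1 : r * (m * g) ∈ M := hC (mem_centralizer_singleton_iff.2 hr2)
  have h2 : g = m⁻¹ * (r⁻¹ * (r * (m * g))) := by group
  rw [h2]
  exact mul_mem (inv_mem hm) (mul_mem (inv_mem hr.1) h1)

end Hyp

end Cfsg.Agent.Lib.H10Eight
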