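import Mathlib

set_option autoImplicit false

/-!
# A small verified checker for coset enumerations (with coincidences)

Facts `f a = x c • f b` about points `f 0, f 1, ...` of a `G`-set are stored in one natural number (32 bits per fact:
source `a`, target `b`, letter `c`). A fact is either a definition, or a stabilizer fact at the base point, or it is
justified by a path of earlier facts which spells a relator (identity edges = coincidences may be inserted).
-/

namespace Cfsg.Agent.Lib.H10Enum

/-- fact number `k` -/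
def fct (T k : ℕ) : ℕ := Nat.mod (Nat.shiftRight T (Nat.mul 32 k)) 4294967296
/-- source node -/
def fsrc (v : ℕ) : ℕ := Nat.mod v 4096
/-- target node -/
def fdst (v : ℕ) : ℕ := Nat.mod (Nat.shiftRight v 12) 4096
/-- letter -/
def flet (v : ℕ) : ℕ := Nat.shiftRight v 24

/-- the inverse letter code -/
def flipc (a : ℕ) : ℕ := bif Nat.beq (Nat.mod a 2) 0 then Nat.succ a else Nat.pred a

/-- comparison of letter codes (`2c` for `x c`, `2c+1` for its inverse) up to involutions -/
def eqc (iv l code : ℕ) : Bool :=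
  Nat.beq l code || (Nat.beq (Nat.div l 2) (Nat.div code 2) && Nat.testBit iv (Nat.div l 2))

/-- one step of a path -/
def stp (iv code node : ℕ) (L : List ℕ) (rec : List ℕ → ℕ → Bool) : Bool :=
  bif Nat.blt code 2 then rec L node
  else match L with
    | [] => false
    | l :: L' => eqc iv l code && rec L' node

/-- follow a path of facts below `bound` spelling `L` -/
def walk (T bound iv : ℕ) : ℕ → ℕ → List ℕ → ℕ → ℕ → Bool
  | 0, _, _, _, _ => false
  | n + 1, p, L, cur, tgt =>
    bif Nat.beq p 0 then (L.isEmpty && Nat.beq cur tgt)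
    else
      let r := Nat.mod p 65536
      let k := Nat.sub (Nat.div r 2) 1
      let v := fct T k
      Nat.blt k bound &&
      (bif Nat.beq (Nat.mod r 2) 0 then
        (Nat.beq (fsrc v) cur && stp iv (flet v) (fdst v) L
          (fun L' node => walk T bound iv n (Nat.div p 65536) L' node tgt))
      else
        (Nat.beq (fdst v) cur && stp iv (flipc (flet v)) (fsrc v) L
          (fun L' node => walk T bound iv n (Nat.div p 65536) L' node tgt)))

/-- the value of a letter code -/
def val {G : Type*} [Group G] (x : ℕ → G) (c : ℕ) : G := if c % 2 = 0 then x (c / 2) else (x (c / 2))⁻¹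

/-- the value of a word -/
def wval {G : Type*} [Group G] (x : ℕ → G) (L : List ℕ) : G := (L.map (val x)).prod

theorem wval_nil {G : Type*} [Group G] (x : ℕ → G) : wval x [] = 1 := rfl
theorem wval_cons {G : Type*} [Group G] (x : ℕ → G) (a : ℕ) (L : List ℕ) : wval x (a :: L) = val x a * wval x L := by
  simp [wval]
theorem wval_append {G : Type*} [Group G] (x : ℕ → G) (L M : List ℕ) : wval x (L ++ M) = wval x L * wval x M := by
  simp [wval]

theorem val_even {G : Type*} [Group G] (x : ℕ → G) (c : ℕ) : val x (2 * c) = x c := by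
  simp [val]
theorem val_odd {G : Type*} [Group G] (x : ℕ → G) (c : ℕ) : val x (2 * c + 1) = (x c)⁻¹ := by
  have h1 : (2 * c + 1) % 2 = 1 := by omega
  have h2 : (2 * c + 1) / 2 = c := by omega
  simp [val, h1, h2]

theorem val_flipc {G : Type*} [Group G] (x : ℕ → G) (a : ℕ) : val x (flipc a) = (val x a)⁻¹ := by
  unfold flipc
  cases h : Nat.beq (Nat.mod a 2) 0 with
  | true =>
    have h1 : a % 2 = 0 := Nat.eq_of_beq_eq_true h
    rw [cond_true]
    obtain ⟨c, rfl⟩ : ∃ c, a = 2 * c := ⟨a / 2, by omega⟩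
    rw [val_even]; exact val_odd x c
  | false =>
    have h1 : a % 2 ≠ 0 := Nat.ne_of_beq_eq_false h
    rw [cond_false]
    obtain ⟨c, rfl⟩ : ∃ c, a = 2 * c + 1 := ⟨a / 2, by omega⟩
    rw [val_odd, inv_inv]
    exact val_even x c

theorem val_eqc {G : Type*} [Group G] {x : ℕ → G} {iv l code : ℕ} (hiv : ∀ c, iv.testBit c = true → (x c)⁻¹ = x c)
    (h : eqc iv l code = true) : val x l = val x code := by
  unfold eqc at h
  rw [Bool.or_eq_true, Bool.and_eq_true] at h
  rcases h with h | ⟨h1, h2⟩
  · rw [Nat.eq_of_beq_eq_true h]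
  · have h3 : l / 2 = code / 2 := Nat.eq_of_beq_eq_true h1
    have h4 := hiv (l / 2) h2
    unfold val
    rw [← h3, h4]
    simp

section sound

variable {G X : Type*} [Group G] [MulAction G X]

/-- the statement of fact `k` -/
def Good (T : ℕ) (x : ℕ → G) (f : ℕ → X) (k : ℕ) : Prop :=
  f (fsrc (fct T k)) = val x (flet (fct T k)) • f (fdst (fct T k))

theorem stp_sound {x : ℕ → G} {f : ℕ → X} {iv code node : ℕ} {L : List ℕ} {rec : List ℕ → ℕ → Bool} {y : X}
    (hx0 : x 0 = 1) (hiv : ∀ c, iv.testBit c = true → (x c)⁻¹ = x c)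
    (hrec : ∀ L' node', rec L' node' = true → f node' = wval x L' • y)
    (h : stp iv code node L rec = true) : val x code • f node = wval x L • y := by
  unfold stp at h
  cases hc : Nat.blt code 2 with
  | true =>
    rw [hc, cond_true] at h
    have h1 := hrec _ _ h
    have h2 : code < 2 := Nat.lt_of_lt_of_le (Nat.lt_succ_self _) (Nat.le_of_ble_eq_true hc)
    have h3 : val x code = 1 := by
      rcases (show code = 0 ∨ code = 1 by omega) with rfl | rfl <;> simp [val, hx0]
    rw [h3, one_smul, h1]
  | false =>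
    rw [hc, cond_false] at h
    match L, h with
    | [], h => exact absurd h (by simp)
    | l :: L', h =>
      rw [Bool.and_eq_true] at h
      rw [wval_cons, mul_smul, ← hrec _ _ h.2, val_eqc hiv h.1]

theorem walk_sound {T bound iv : ℕ} {x : ℕ → G} {f : ℕ → X}
    (hx0 : x 0 = 1) (hiv : ∀ c, iv.testBit c = true → (x c)⁻¹ = x c)
    (hgood : ∀ k < bound, Good T x f k) :
    ∀ (n p : ℕ) (L : List ℕ) (cur tgt : ℕ), walk T bound iv n p L cur tgt = true → f cur = wval x L • f tgt := by
  intro n
  induction n with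
  | zero => intro p L cur tgt h; exact absurd h (by simp [walk])
  | succ n ih =>
    intro p L cur tgt h
    unfold walk at h
    cases hp : Nat.beq p 0 with
    | true =>
      rw [hp, cond_true, Bool.and_eq_true] at h
      have h1 : L = [] := List.isEmpty_iff.1 h.1
      rw [h1, Nat.eq_of_beq_eq_true h.2, wval_nil, one_smul]
    | false =>
      rw [hp, cond_false] at h
      simp only [] at h
      rw [Bool.and_eq_true] at h
      obtain ⟨hk, h⟩ := h
      have hk' : Nat.sub (Nat.div (Nat.mod p 65536) 2) 1 < bound :=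
        Nat.lt_of_lt_of_le (Nat.lt_succ_self _) (Nat.le_of_ble_eq_true hk)
      have hg := hgood _ hk'
      unfold Good at hg
      generalize fct T (Nat.sub (Nat.div (Nat.mod p 65536) 2) 1) = v at h hg
      cases hr : Nat.beq (Nat.mod (Nat.mod p 65536) 2) 0 with
      | true =>
        rw [hr, cond_true, Bool.and_eq_true] at h
        have h1 := stp_sound (f := f) (y := f tgt) hx0 hiv (fun L' node' hw => ih _ _ _ _ hw) h.2
        rw [← h1, ← Nat.eq_of_beq_eq_true h.1, hg]
      | false =>
        rw [hr, cond_false, Bool.and_eq_true] at h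
        have h1 := stp_sound (f := f) (y := f tgt) hx0 hiv (fun L' node' hw => ih _ _ _ _ hw) h.2
        rw [val_flipc] at h1
        rw [← h1, ← Nat.eq_of_beq_eq_true h.1, hg, inv_smul_smul]

/-! ### relator words -/

/-- the inverse of a word -/
def invw : List ℕ → List ℕ
  | [] => []
  | a :: L => invw L ++ [flipc a]

theorem wval_invw (x : ℕ → G) (L : List ℕ) : wval x (invw L) = (wval x L)⁻¹ := by
  induction L with
  | nil => simp [invw, wval]
  | cons a L ih =>
    rw [invw, wval_append, ih, wval_cons x a L, mul_inv_rev]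
    congr 1
    rw [wval_cons, wval_nil, mul_one, val_flipc]

/-- rotation of a word -/
def rot : ℕ → List ℕ → List ℕ
  | 0, L => L
  | _ + 1, [] => []
  | n + 1, a :: L => rot n (L ++ [a])

theorem wval_rot {x : ℕ → G} : ∀ (n : ℕ) (L : List ℕ), wval x L = 1 → wval x (rot n L) = 1
  | 0, _, h => h
  | _ + 1, [], h => h
  | n + 1, a :: L, h => by
    rw [rot]
    apply wval_rot n
    rw [wval_cons] at h
    rw [wval_append, wval_cons, wval_nil, mul_one]
    exact mul_eq_one_iff_eq_inv.2 (by rw [← mul_eq_one_iff_inv_eq.1 h])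

/-- split off the last letter -/
def lastw : List ℕ → List ℕ × ℕ
  | [] => ([], 0)
  | [a] => ([], a)
  | a :: b :: L => (a :: (lastw (b :: L)).1, (lastw (b :: L)).2)

theorem wval_lastw (x : ℕ → G) : ∀ (L : List ℕ), L ≠ [] → wval x L = wval x (lastw L).1 * val x (lastw L).2
  | [], h => absurd rfl h
  | [a], _ => by simp [lastw, wval]
  | a :: b :: L, _ => by
    rw [wval_cons, wval_lastw x (b :: L) (by simp), lastw, wval_cons, mul_assoc]

/-- a group of justifications with the same relator word: relator number `j`, rotation `i`, inversion flag, kind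
(`0`: coincidence, `1`: edge); every justification is `k + 65536 * path`. -/
structure Rule where
  j : ℕ
  i : ℕ
  fl : ℕ
  kd : ℕ
  js : List ℕ

/-- the list lookup -/
def nthw : List (List ℕ) → ℕ → List ℕ
  | [], _ => []
  | a :: _, 0 => a
  | _ :: L, n + 1 => nthw L n

theorem nthw_spec {x : ℕ → G} : ∀ (R : List (List ℕ)) (_ : ∀ w ∈ R, wval x w = 1) (n : ℕ), wval x (nthw R n) = 1
  | [], _, _ => rfl
  | a :: _, h, 0 => h a (by simp)
  | _ :: R, h, n + 1 => nthw_spec R (fun w hw => h w (List.mem_cons_of_mem _ hw)) n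

/-- the rotated word of a rule -/
def rword (R : List (List ℕ)) (r : Rule) : List ℕ :=
  rot r.i (bif Nat.beq r.fl 0 then nthw R r.j else invw (nthw R r.j))

theorem wval_rword {x : ℕ → G} {R : List (List ℕ)} (h : ∀ w ∈ R, wval x w = 1) (r : Rule) : wval x (rword R r) = 1 := by
  unfold rword
  apply wval_rot
  cases Nat.beq r.fl 0 with
  | true => rw [cond_true]; exact nthw_spec R h _
  | false => rw [cond_false, wval_invw, nthw_spec R h, inv_one]

/-- check a list of justifications -/
def chkJ (T iv fuel : ℕ) (L : List ℕ) (c : ℕ) : List ℕ → Bool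
  | [] => true
  | e :: js =>
    let k := Nat.mod e 65536
    let v := fct T k
    eqc iv (flet v) c && walk T k iv fuel (Nat.div e 65536) L (fsrc v) (fdst v) && chkJ T iv fuel L c js

theorem chkJ_sound {T iv fuel : ℕ} {x : ℕ → G} {f : ℕ → X} {L : List ℕ} {c : ℕ}
    (hx0 : x 0 = 1) (hiv : ∀ c, iv.testBit c = true → (x c)⁻¹ = x c) (hL : wval x L = val x c) :
    ∀ (js : List ℕ), chkJ T iv fuel L c js = true → ∀ e ∈ js, (∀ k < e % 65536, Good T x f k) → Good T x f (e % 65536)
  | [], _ => by simp
  | e :: js, h => by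
    unfold chkJ at h
    simp only [] at h
    rw [Bool.and_eq_true, Bool.and_eq_true] at h
    intro e' he' hg
    rcases List.mem_cons.1 he' with rfl | he'
    · have h1 := walk_sound hx0 hiv hg _ _ _ _ _ h.1.2
      unfold Good
      have h2 : val x (flet (fct T (e' % 65536))) = val x c := val_eqc (x := x) hiv h.1.1
      rw [h2, ← hL]
      exact h1
    · exact chkJ_sound hx0 hiv hL js h.2 e' he' hg

/-- check a rule -/
def chkR (T iv fuel : ℕ) (R : List (List ℕ)) (r : Rule) : Bool :=
  let w := rword R r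
  bif Nat.beq r.kd 0 then chkJ T iv fuel w 0 r.js
  else
    let q := lastw w
    (!w.isEmpty) && chkJ T iv fuel q.1 (flipc q.2) r.js

theorem chkR_sound {T iv fuel : ℕ} {x : ℕ → G} {f : ℕ → X} {R : List (List ℕ)}
    (hx0 : x 0 = 1) (hiv : ∀ c, iv.testBit c = true → (x c)⁻¹ = x c) (hR : ∀ w ∈ R, wval x w = 1)
    (r : Rule) (h : chkR T iv fuel R r = true) :
    ∀ e ∈ r.js, (∀ k < e % 65536, Good T x f k) → Good T x f (e % 65536) := by
  unfold chkR at h
  have hw := wval_rword hR r
  cases hk : Nat.beq r.kd 0 with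
  | true =>
    rw [hk, cond_true] at h
    exact chkJ_sound hx0 hiv (by rw [hw]; simp [val, hx0]) r.js h
  | false =>
    rw [hk, cond_false] at h
    simp only [] at h
    rw [Bool.and_eq_true] at h
    obtain ⟨h1, h3⟩ := h
    have hne : rword R r ≠ [] := by
      intro h0
      rw [h0] at h1
      simp at h1
    refine chkJ_sound hx0 hiv ?_ r.js h3
    rw [wval_lastw x _ hne] at hw
    rw [val_flipc]
    exact eq_inv_of_mul_eq_one_left hw

/-- check all rules -/
def chkRs (T iv fuel : ℕ) (R : List (List ℕ)) : List Rule → Bool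
  | [] => true
  | r :: rs => chkR T iv fuel R r && chkRs T iv fuel R rs

theorem chkRs_spec {T iv fuel : ℕ} {R : List (List ℕ)} : ∀ (rs : List Rule), chkRs T iv fuel R rs = true →
    ∀ r ∈ rs, chkR T iv fuel R r = true
  | [], _ => by simp
  | r :: rs, h => by
    rw [chkRs, Bool.and_eq_true] at h
    intro r' hr'
    rcases List.mem_cons.1 hr' with rfl | hr'
    · exact h.1
    · exact chkRs_spec rs h.2 r' hr'

/-- definitions: fact `k < m` defines the node `k + 1` -/
def chkD (T : ℕ) : ℕ → Bool
  | 0 => true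
  | m + 1 => Nat.beq (fdst (fct T m)) (Nat.succ m) && Nat.ble (fsrc (fct T m)) m && chkD T m

theorem chkD_spec {T : ℕ} : ∀ (m : ℕ), chkD T m = true → ∀ k < m, fdst (fct T k) = k + 1 ∧ fsrc (fct T k) ≤ k
  | 0, _ => by intro k hk; omega
  | m + 1, h => by
    rw [chkD, Bool.and_eq_true, Bool.and_eq_true] at h
    intro k hk
    rcases Nat.lt_succ_iff_lt_or_eq.1 hk with hk | rfl
    · exact chkD_spec m h.2 k hk
    · exact ⟨Nat.eq_of_beq_eq_true h.1.1, Nat.le_of_ble_eq_true h.1.2⟩

/-- the points -/
noncomputable def pts (T : ℕ) (x : ℕ → G) (p : X) : ℕ → X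
  | 0 => p
  | k + 1 => if fsrc (fct T k) < k + 1 then (val x (flet (fct T k)))⁻¹ • pts T x p (fsrc (fct T k)) else p

theorem pts_zero (T : ℕ) (x : ℕ → G) (p : X) : pts T x p 0 = p := by
  unfold pts; rfl

theorem good_def {T m : ℕ} {x : ℕ → G} {p : X} (h : chkD T m = true) {k : ℕ} (hk : k < m) :
    Good T x (pts T x p) k := by
  obtain ⟨h1, h2⟩ := chkD_spec m h k hk
  unfold Good
  rw [h1]
  conv_rhs => rw [pts]
  rw [if_pos (by omega), smul_inv_smul]

/-- membership -/
def memN (c : ℕ) : List ℕ → Bool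
  | [] => false
  | a :: L => Nat.beq a c || memN c L

theorem memN_spec {c : ℕ} : ∀ (L : List ℕ), memN c L = true → c ∈ L
  | [], h => by simp [memN] at h
  | a :: L, h => by
    rw [memN, Bool.or_eq_true] at h
    rcases h with h | h
    · rw [Nat.eq_of_beq_eq_true h]; exact List.mem_cons_self
    · exact List.mem_cons_of_mem _ (memN_spec L h)

/-- stabilizer facts -/
def chkS (T : ℕ) (sub : List ℕ) : List ℕ → Bool
  | [] => true
  | k :: S => Nat.beq (fsrc (fct T k)) 0 && Nat.beq (fdst (fct T k)) 0 &&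
      memN (Nat.div (flet (fct T k)) 2) sub && Nat.beq (Nat.mod (flet (fct T k)) 2) 0 && chkS T sub S

theorem chkS_sound {T : ℕ} {sub : List ℕ} {x : ℕ → G} {p : X} (hsub : ∀ c ∈ sub, x c • p = p) :
    ∀ (S : List ℕ), chkS T sub S = true → ∀ k ∈ S, Good T x (pts T x p) k
  | [], _ => by simp
  | k :: S, h => by
    rw [chkS, Bool.and_eq_true, Bool.and_eq_true, Bool.and_eq_true, Bool.and_eq_true] at h
    intro k' hk'
    rcases List.mem_cons.1 hk' with rfl | hk'
    · unfold Good
      have h1 : flet (fct T k') % 2 = 0 := Nat.eq_of_beq_eq_true h.1.2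
      have h2 := hsub _ (memN_spec _ h.1.1.2)
      have h3 : val x (flet (fct T k')) = x (Nat.div (flet (fct T k')) 2) := by
        unfold val; rw [if_pos h1]; rfl
      rw [Nat.eq_of_beq_eq_true h.1.1.1.1, Nat.eq_of_beq_eq_true h.1.1.1.2, pts_zero, h3, h2]
    · exact chkS_sound hsub S h.2 k' hk'

/-- coverage masks -/
def mskJ : List ℕ → ℕ → ℕ
  | [], acc => acc
  | e :: js, acc => mskJ js (Nat.lor acc (Nat.shiftLeft 1 (Nat.mod e 65536)))

theorem testBit_mskJ : ∀ (js : List ℕ) (acc k : ℕ), (mskJ js acc).testBit k = true →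
    acc.testBit k = true ∨ ∃ e ∈ js, e % 65536 = k
  | [], acc, k, h => Or.inl h
  | e :: js, acc, k, h => by
    rw [mskJ] at h
    rcases testBit_mskJ js _ k h with h | ⟨e', he', h⟩
    · change (acc ||| (1 <<< (e % 65536))).testBit k = true at h
      rw [Nat.testBit_or, Bool.or_eq_true] at h
      rcases h with h | h
      · exact Or.inl h
      · right
        refine ⟨e, List.mem_cons_self, ?_⟩
        rw [Nat.shiftLeft_eq, one_mul, Nat.testBit_two_pow] at h
        simpa using h
    · exact Or.inr ⟨e', List.mem_cons_of_mem _ he', h⟩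

def mskR : List Rule → ℕ → ℕ
  | [], acc => acc
  | r :: rs, acc => mskR rs (mskJ r.js acc)

theorem testBit_mskR : ∀ (rs : List Rule) (acc k : ℕ), (mskR rs acc).testBit k = true →
    acc.testBit k = true ∨ ∃ r ∈ rs, ∃ e ∈ r.js, e % 65536 = k
  | [], acc, k, h => Or.inl h
  | r :: rs, acc, k, h => by
    rw [mskR] at h
    rcases testBit_mskR rs _ k h with h | ⟨r', hr', h⟩
    · rcases testBit_mskJ _ _ _ h with h | h
      · exact Or.inl h
      · exact Or.inr ⟨r, List.mem_cons_self, h⟩
    · exact Or.inr ⟨r', List.mem_cons_of_mem _ hr', h⟩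

/-- the complete check: `m` definitions, `S` stabilizer facts, the rules, and all facts below `N` are covered -/
def check (T iv fuel m N : ℕ) (sub S : List ℕ) (R : List (List ℕ)) (rs : List Rule) : Bool :=
  chkD T m && chkS T sub S && chkRs T iv fuel R rs &&
    Nat.beq (mskR rs (mskJ S (Nat.sub (Nat.pow 2 m) 1))) (Nat.sub (Nat.pow 2 N) 1) && (S.all fun k => Nat.blt k 65536)

theorem sound {T iv fuel m N : ℕ} {sub S : List ℕ} {R : List (List ℕ)} {rs : List Rule} {x : ℕ → G} {p : X}
    (hx0 : x 0 = 1) (hiv : ∀ c, iv.testBit c = true → (x c)⁻¹ = x c) (hR : ∀ w ∈ R, wval x w = 1)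
    (hsub : ∀ c ∈ sub, x c • p = p) (h : check T iv fuel m N sub S R rs = true) :
    ∀ k < N, Good T x (pts T x p) k := by
  unfold check at h
  rw [Bool.and_eq_true, Bool.and_eq_true, Bool.and_eq_true, Bool.and_eq_true] at h
  obtain ⟨⟨⟨⟨h1, h2⟩, h3⟩, h4⟩, h5⟩ := h
  intro k
  induction k using Nat.strong_induction_on with
  | _ k ih =>
    intro hk
    have hb : (Nat.sub (Nat.pow 2 N) 1).testBit k = true := by
      change (2 ^ N - 1).testBit k = true
      rw [Nat.testBit_two_pow_sub_one]
      simpa using hk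
    rw [← Nat.eq_of_beq_eq_true h4] at hb
    rcases testBit_mskR _ _ _ hb with hb | ⟨r, hr, e, he, hek⟩
    · rcases testBit_mskJ _ _ _ hb with hb | ⟨e, he, hek⟩
      · change (2 ^ m - 1).testBit k = true at hb
        rw [Nat.testBit_two_pow_sub_one] at hb
        exact good_def h1 (by simpa using hb)
      · have h6 : e < 65536 := by
          have := (List.all_eq_true.1 h5) e he
          exact Nat.lt_of_lt_of_le (Nat.lt_succ_self _) (Nat.le_of_ble_eq_true this)
        rw [Nat.mod_eq_of_lt h6] at hek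
        rw [← hek]
        exact chkS_sound hsub S h2 e he
    · have := chkR_sound (f := pts T x p) hx0 hiv hR r (chkRs_spec rs h3 r hr) e he
      rw [hek] at this
      exact this (fun k' hk' => ih k' hk' (hk'.trans hk))

/-- closure of the first `n` points under the letter `c`: `E` is a table of fact numbers -/
def chkC (T iv n N E c : ℕ) : ℕ → Bool
  | 0 => true
  | j + 1 =>
    let k := Nat.mod (Nat.shiftRight E (Nat.mul 16 j)) 65536
    let v := fct T k
    Nat.blt k N && ((Nat.beq (fdst v) j && Nat.blt (fsrc v) n && eqc iv (flet v) (Nat.mul 2 c)) ||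
      (Nat.beq (fsrc v) j && Nat.blt (fdst v) n && eqc iv (flet v) (Nat.succ (Nat.mul 2 c)))) && chkC T iv n N E c j

theorem chkC_sound {T iv n N E c : ℕ} {x : ℕ → G} {f : ℕ → X} (hiv : ∀ c, iv.testBit c = true → (x c)⁻¹ = x c)
    (hgood : ∀ k < N, Good T x f k) :
    ∀ (m : ℕ), chkC T iv n N E c m = true → ∀ j < m, ∃ i < n, x c • f j = f i
  | 0, _ => by intro j hj; omega
  | m + 1, h => by
    unfold chkC at h
    simp only [] at h
    rw [Bool.and_eq_true, Bool.and_eq_true] at h
    obtain ⟨⟨h1, h2⟩, h3⟩ := h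
    intro j hj
    rcases Nat.lt_succ_iff_lt_or_eq.1 hj with hj | rfl
    · exact chkC_sound hiv hgood m h3 j hj
    · have hk : Nat.mod (Nat.shiftRight E (Nat.mul 16 j)) 65536 < N :=
        Nat.lt_of_lt_of_le (Nat.lt_succ_self _) (Nat.le_of_ble_eq_true h1)
      have hg := hgood _ hk
      unfold Good at hg
      rw [Bool.or_eq_true, Bool.and_eq_true, Bool.and_eq_true, Bool.and_eq_true, Bool.and_eq_true] at h2
      rcases h2 with ⟨⟨h4, h5⟩, h6⟩ | ⟨⟨h4, h5⟩, h6⟩
      · refine ⟨_, Nat.lt_of_lt_of_le (Nat.lt_succ_self _) (Nat.le_of_ble_eq_true h5), ?_⟩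
        rw [Nat.eq_of_beq_eq_true h4, val_eqc (x := x) hiv h6] at hg
        rw [hg]
        congr 1
        exact (val_even x c).symm
      · refine ⟨_, Nat.lt_of_lt_of_le (Nat.lt_succ_self _) (Nat.le_of_ble_eq_true h5), ?_⟩
        rw [Nat.eq_of_beq_eq_true h4, val_eqc (x := x) hiv h6] at hg
        have h7 : val x (Nat.succ (Nat.mul 2 c)) = (x c)⁻¹ := val_odd x c
        rw [h7] at hg
        rw [hg, smul_inv_smul]

/-- a finite nonempty set of points closed under generators of a transitive group is everything -/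
theorem card_le_of_closed [MulAction.IsPretransitive G X] {f : ℕ → X} {n : ℕ} (hn : 0 < n) (A : Set G)
    (hA : Subgroup.closure A = ⊤) (h : ∀ a ∈ A, ∀ j < n, ∃ i < n, a • f j = f i) :
    Finite X ∧ Nat.card X ≤ n := by
  classical
  let Y : Finset X := (Finset.range n).image f
  have hY : ∀ a ∈ A, ∀ y ∈ Y, a • y ∈ Y := by
    intro a ha y hy
    obtain ⟨j, hj, rfl⟩ := Finset.mem_image.1 hy
    obtain ⟨i, hi, hij⟩ := h a ha j (Finset.mem_range.1 hj)
    rw [hij]
    exact Finset.mem_image_of_mem f (Finset.mem_range.2 hi)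
  let S : Submonoid G :=
    { carrier := {g | ∀ y ∈ Y, g • y ∈ Y}
      one_mem' := fun y hy => by rwa [one_smul]
      mul_mem' := fun {a b} ha hb y hy => by rw [mul_smul]; exact ha _ (hb _ hy) }
  have hinv : ∀ g ∈ S, g⁻¹ ∈ S := by
    intro g hg y hy
    have h1 : Y.image (g • ·) = Y := by
      apply Finset.eq_of_subset_of_card_le
      · intro z hz
        obtain ⟨w, hw, rfl⟩ := Finset.mem_image.1 hz
        exact hg w hw
      · rw [Finset.card_image_of_injective _ (MulAction.injective g)]
    rw [← h1] at hy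
    obtain ⟨w, hw, rfl⟩ := Finset.mem_image.1 hy
    change g⁻¹ • g • w ∈ Y
    rwa [inv_smul_smul]
  let K : Subgroup G := { S with inv_mem' := fun {g} hg => hinv g hg }
  have hK : K = ⊤ := by
    rw [eq_top_iff, ← hA, Subgroup.closure_le]
    exact fun a ha y hy => hY a ha y hy
  have hall : ∀ z : X, z ∈ Y := by
    intro z
    obtain ⟨g, hg⟩ := MulAction.exists_smul_eq G (f 0) z
    have h2 : g ∈ K := hK ▸ Subgroup.mem_top g
    rw [← hg]
    exact h2 _ (Finset.mem_image_of_mem f (Finset.mem_range.2 hn))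
  have hfin : Finite X := Set.finite_univ_iff.1 ((Y.finite_toSet).subset fun z _ => hall z)
  refine ⟨hfin, ?_⟩
  have h3 : Nat.card X ≤ Nat.card (Y : Set X) := by
    apply Nat.card_le_card_of_injective (fun z => (⟨z, hall z⟩ : (Y : Set X)))
    intro a b hab
    exact congrArg Subtype.val hab
  refine h3.trans ?_
  have h4 : Nat.card (Y : Set X) = Y.card := by
    rw [Nat.card_coe_set_eq, Set.ncard_coe_finset]
  rw [h4]
  exact Finset.card_image_le.trans (by simp)

end sound

end Cfsg.Agent.Lib.H10Enum
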