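import Cfsg.Agent.S2905
import Cfsg.Agent.Lib.Layer
import Cfsg.Agent.Lib.H32Perf
import Cfsg.Agent.Lib.SubgroupTools
import Cfsg.Prelude.Def_LocalEven

/-!
`p`-minimal groups with `O_p = 1`: components.
-/

set_option autoImplicit false

namespace Cfsg.Agent.Lib.H10PMin

open Subgroup Cfsg Cfsg.Agent.Lib Cfsg.Agent.Lib.LocBase Cfsg.Agent.Lib.Components
open Cfsg.Agent.Lib.Layer

theorem existsUnique_coatom {H : Type*} [Group H] {S M : Subgroup H} (hSM : S ≤ M) (hM : M ≠ ⊤)
    (hU : ∀ U : Subgroup H, S ≤ U → U ≠ ⊤ → U ≤ M) : ∃! N : Subgroup H, IsCoatom N ∧ S ≤ N := by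
  refine ⟨M, ⟨⟨hM, fun U hMU => ?_⟩, hSM⟩, ?_⟩
  · by_contra h
    exact not_le_of_gt hMU (hU U (hSM.trans hMU.le) h)
  · rintro N ⟨hN, hSN⟩
    have h1 := hU N hSN hN.1
    rcases h1.eq_or_lt with h2 | h2
    · exact h2
    · exact (hM (hN.2 M h2)).elim

variable {G : Type*} [Group G] [Finite G] {p : ℕ} [hp : Fact p.Prime]

/-- Ambient criterion for `p`-minimality. -/
theorem isPMinimal_of {S₀ P₀ M₀ : Subgroup G} (hS : IsSyl p S₀ P₀)
    (hn : ¬ P₀ ≤ normalizer (S₀ : Set G)) (hSM : S₀ ≤ M₀) (hM : M₀ < P₀)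
    (hU : ∀ U : Subgroup G, S₀ ≤ U → U < P₀ → U ≤ M₀) : IsPMinimal p ↥P₀ := by
  intro S
  have hS' := isSyl_map_subtype S
  obtain ⟨g, hg, hgS⟩ := hS'.conj hS
  have hgn : g ∈ normalizer (P₀ : Set G) := le_normalizer hg
  constructor
  · intro h
    apply hn
    have h1 : P₀ ≤ normalizer (((S : Subgroup ↥P₀).map P₀.subtype : Subgroup G) : Set G) := by
      rw [le_normalizer_iff]
      rintro x hx _ ⟨y, hy, rfl⟩
      exact ⟨⟨x, hx⟩ * y * ⟨x, hx⟩⁻¹, h.conj_mem y hy _, rfl⟩
    rw [← hgS, ← map_conj_normalizer] at h1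
    rw [← map_conj_le_map_conj g, map_conj_eq_of_mem hgn]
    exact h1
  · have hMS : (S : Subgroup ↥P₀) ≤ (M₀.map (MulAut.conj g).toMonoidHom).subgroupOf P₀ := by
      rw [← Subgroup.map_subtype_le_map_subtype, Subgroup.map_subgroupOf_eq_of_le, ← hgS]
      · exact map_conj_mono g hSM
      · rw [← map_conj_eq_of_mem hgn]; exact map_conj_mono g hM.le
    refine existsUnique_coatom hMS ?_ ?_
    · intro h
      rw [subgroupOf_eq_top] at h
      have h' : P₀.map (MulAut.conj g).toMonoidHom ≤ M₀.map (MulAut.conj g).toMonoidHom := by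
        rwa [map_conj_eq_of_mem hgn]
      rw [map_conj_le_map_conj] at h'
      exact not_le_of_gt hM h'
    · intro U hSU hUt
      have h1 : (U.map P₀.subtype).map (MulAut.conj g⁻¹).toMonoidHom ≤ M₀ := by
        apply hU
        · rw [← map_conj_le_iff, hgS]
          exact Subgroup.map_mono hSU
        · rw [lt_iff_le_and_ne]
          constructor
          · rw [map_conj_le_iff, inv_inv, map_conj_eq_of_mem hgn]; exact map_subtype_le _
          · intro h
            apply hUt
            rw [eq_top_iff]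
            intro x _
            have h2 : (U.map P₀.subtype) = P₀ := by
              have h3 := congrArg (Subgroup.map (MulAut.conj g).toMonoidHom) h
              rwa [← map_conj_mul, mul_inv_cancel, map_conj_one, map_conj_eq_of_mem hgn] at h3
            have h3 : (x : G) ∈ U.map P₀.subtype := by rw [h2]; exact x.2
            obtain ⟨y, hy, hyx⟩ := h3
            rwa [← Subtype.ext hyx]
      rw [map_conj_le_iff, inv_inv] at h1
      intro x hx
      rw [mem_subgroupOf]
      exact h1 ⟨x, hx, rfl⟩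

variable {P : Type*} [Group P] [Finite P]

/-- a perfect normal `p'`-subgroup of a `p`-minimal group is trivial. -/
theorem eq_bot_of_perfect_coprime (hP : IsPMinimal p P) {N : Subgroup P} (hN : N.Normal)
    (hperf : ⁅N, N⁆ = N) (hcop : ¬ p ∣ Nat.card N) : N = ⊥ := by
  by_contra hne
  obtain ⟨S⟩ : Nonempty (Sylow p P) := inferInstance
  obtain ⟨M, ⟨hM, hSM⟩, -⟩ := (hP S).2
  have hle : ∀ U : Subgroup P, (S : Subgroup P) ≤ U → U ≠ ⊤ → U ≤ M := fun U h1 h2 =>
    S2905.le_of_coatom hP S M hM hSM h1 h2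
  have hSs : IsSyl p (S : Subgroup P) ⊤ := isSyl_top S
  -- S-invariant Sylow subgroups of `N`
  have hinv : ∀ r : ℕ, r.Prime → ∃ R, IsSyl r R N ∧ (S : Subgroup P) ≤ normalizer (R : Set P) ∧
      N ⊔ normalizer (R : Set P) = ⊤ := by
    intro r hr
    have : Fact r.Prime := ⟨hr⟩
    obtain ⟨R, hR⟩ := exists_isSyl r N
    have h1 : N ⊔ normalizer (R : Set P) = ⊤ := by
      have := hR.frattini_sup (H := ⊤) le_top (by rw [normalizer_eq_top])
      rwa [top_inf_eq] at this
    obtain ⟨S₁, hS₁⟩ := exists_isSyl p (normalizer (R : Set P))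
    have hS₁t : IsSyl p S₁ ⊤ := by
      refine ⟨le_top, hS₁.pgroup, ?_⟩
      rw [← relIndex_mul_relIndex S₁ (normalizer (R : Set P)) ⊤ hS₁.le le_top]
      intro h
      rcases (Fact.out : p.Prime).dvd_mul.mp h with h | h
      · exact hS₁.ndvd h
      · apply hcop
        refine h.trans ?_
        rw [← h1]
        have e1 := SubgroupTools.card_sup_mul_card_inf (N := N) (H := normalizer (R : Set P))
          (by rw [normalizer_eq_top N]; exact le_top)
        have e2 := SubgroupTools.card_mul_relIndex_of_le (le_sup_right : normalizer (R : Set P) ≤ N ⊔ normalizer (R : Set P))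
        have e3 : (normalizer (R : Set P)).relIndex (N ⊔ normalizer (R : Set P)) *
            Nat.card ↥(N ⊓ normalizer (R : Set P)) = Nat.card ↥N := by
          have hpos : 0 < Nat.card ↥(normalizer (R : Set P)) := Nat.card_pos
          apply Nat.eq_of_mul_eq_mul_left hpos
          rw [← mul_assoc, e2, e1, mul_comm]
        exact Dvd.intro _ e3
    obtain ⟨g, -, hg⟩ := hSs.conj hS₁t
    have hgN : g ∈ normalizer (N : Set P) := by rw [normalizer_eq_top]; trivial
    refine ⟨R.map (MulAut.conj g).toMonoidHom, ?_, ?_, ?_⟩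
    · have := hR.map_conj g
      rwa [map_conj_eq_of_mem hgN] at this
    · rw [← hg, ← map_conj_normalizer]
      exact map_conj_mono g hS₁.le
    · have := (hR.map_conj g).frattini_sup (H := ⊤) le_top (by rw [map_conj_eq_of_mem hgN, normalizer_eq_top])
      rwa [map_conj_eq_of_mem hgN, top_inf_eq] at this
  have hRM : ∀ r : ℕ, r.Prime → ∀ R : Subgroup P, IsSyl r R N → (S : Subgroup P) ≤ normalizer (R : Set P) → R ≤ M := by
    intro r hr R hR hSR
    have : Fact r.Prime := ⟨hr⟩
    by_contra hRM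
    have h1 : R ⊔ (S : Subgroup P) = ⊤ := by
      by_contra h
      exact hRM (le_sup_left.trans (hle _ le_sup_right h))
    apply hne
    have h2 : N ≤ R := by
      intro x hx
      have hx' : x ∈ R ⊔ (S : Subgroup P) := by rw [h1]; trivial
      obtain ⟨a, ha, s, hs, rfl⟩ := exists_mul_of_mem_sup_of_le hSR hx'
      have hsN : s ∈ N := by
        have := N.mul_mem (N.inv_mem (hR.le ha)) hx
        rwa [inv_mul_cancel_left] at this
      have hs1 : s = 1 := by
        apply eq_one_of_isPGroup_of_pow S.2 hs (n := Nat.card N)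
        · exact ((hp.out.coprime_iff_not_dvd).mpr hcop).symm
        · have := pow_card_eq_one' (x := (⟨s, hsN⟩ : ↥N))
          exact congrArg Subtype.val this
      rw [hs1, mul_one]; exact ha
    have h3 : IsPGroup r ↥N := hR.pgroup.to_le h2
    have h4 := H32Perf.pRes_eq_self_of_perfect (q := r) hperf
    rw [← h4]
    exact isPGroup_iff_pRes_eq_bot.mp h3
  have hNM : N ≤ M := by
    rw [← relIndex_eq_one]
    by_contra hne1
    obtain ⟨q, hq, hqd⟩ := Nat.exists_prime_and_dvd hne1
    obtain ⟨R, hR, hSR, -⟩ := hinv q hq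
    apply hR.ndvd
    exact hqd.trans (relIndex_dvd_of_le_left N (hRM q hq R hR hSR))
  have hnorm : ∀ r : ℕ, r.Prime → ∃ R, IsSyl r R N ∧ R.Normal := by
    intro r hr
    obtain ⟨R, hR, hSR, hfr⟩ := hinv r hr
    refine ⟨R, hR, ?_⟩
    rw [← normalizer_eq_top_iff]
    by_contra h
    apply hM.1
    rw [eq_top_iff, ← hfr]
    exact sup_le hNM (hle _ hSR h)
  have hnil : Group.IsNilpotent ↥N := by
    refine ((Group.isNilpotent_of_finite_tfae (G := ↥N)).out 0 3 rfl rfl).mpr ?_
    intro r hr T
    obtain ⟨R, hR, hRn⟩ := hnorm r hr.out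
    have h1 := isSyl_map_subtype T
    obtain ⟨g, hg, hgR⟩ := h1.conj hR
    rw [map_conj_eq_of_mem (A := R) (by rw [normalizer_eq_top]; trivial)] at hgR
    have h2 : (T : Subgroup ↥N) = R.subgroupOf N := by
      rw [hgR, subgroupOf, comap_map_eq_self_of_injective N.subtype_injective]
    rw [h2]
    infer_instance
  apply hne
  have h1 : Group.IsPerfect ↥N := Components.isPerfect_iff'.mpr hperf
  by_contra hne2
  have h2 : Nontrivial ↥N := (Subgroup.nontrivial_iff_ne_bot N).mpr hne2
  exact Group.IsPerfect.not_isNilpotent _ hnil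

/-- perfect normal subgroups `≠ 1` of a `p`-minimal group with `O_p = 1` are `O^p(P)` and not in the maximal subgroup
over `S`. -/
theorem perfect_normal (hP : IsPMinimal p P) (hOp : pCore p P = ⊥) {S : Sylow p P} {M : Subgroup P}
    (hM : IsCoatom M) (hSM : (S : Subgroup P) ≤ M) {N : Subgroup P} (hN : N.Normal)
    (hperf : ⁅N, N⁆ = N) (hne : N ≠ ⊥) : pResidual p P = N ∧ ¬ N ≤ M := by
  obtain ⟨c1, -, c3, -, -⟩ := S2905.result hP S M hM hSM
  have hNM : ¬ N ≤ M := by
    intro h
    apply hne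
    apply eq_bot_of_perfect_coprime hP hN hperf
    have h1 := c1 N hN.isSubnormal h
    rw [hOp, le_bot_iff, inf_comm] at h1
    have h2 : IsSyl p ((S : Subgroup P) ⊓ N) N := (isSyl_top S).inf_normal le_top (by rw [normalizer_eq_top])
    have h3 := h2.ndvd
    rwa [h1, relIndex_bot_left] at h3
  refine ⟨?_, hNM⟩
  rcases c3 N hN with h | h
  · apply le_antisymm h
    rw [pResidual_eq, ← H32Perf.pRes_eq_self_of_perfect (q := p) hperf]
    exact pRes_mono le_top
  · exact (hNM (h.trans (normalCore_le M))).elim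


theorem relIndex_sup_of_le_normalizer {N H : Subgroup G} (h : H ≤ normalizer (N : Set G)) :
    H.relIndex (N ⊔ H) = (N ⊓ H).relIndex N := by
  have e1 := SubgroupTools.card_sup_mul_card_inf h
  have e2 := SubgroupTools.card_mul_relIndex_of_le (le_sup_right : H ≤ N ⊔ H)
  have e3 := SubgroupTools.card_mul_relIndex_of_le (inf_le_left : N ⊓ H ≤ N)
  have hpos : 0 < Nat.card ↥H * Nat.card ↥(N ⊓ H) := Nat.mul_pos Nat.card_pos Nat.card_pos
  apply Nat.eq_of_mul_eq_mul_left hpos
  calc Nat.card ↥H * Nat.card ↥(N ⊓ H) * H.relIndex (N ⊔ H)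
      = (Nat.card ↥H * H.relIndex (N ⊔ H)) * Nat.card ↥(N ⊓ H) := by ring
    _ = Nat.card ↥N * Nat.card ↥H := by rw [e2, e1]
    _ = (Nat.card ↥(N ⊓ H) * (N ⊓ H).relIndex N) * Nat.card ↥H := by rw [e3]
    _ = _ := by ring

theorem pResidual_le_of_sup_eq_top {S : Subgroup P} (hS : IsPGroup p S) {N : Subgroup P} (hN : N.Normal)
    (h1 : N ⊔ S = ⊤) : pResidual p P ≤ N := by
  rw [pResidual_eq, pRes_le_iff]
  intro x _ hxo
  have hx : x ∈ N ⊔ S := by rw [h1]; trivial
  obtain ⟨n, hn, s, hs, rfl⟩ := exists_mul_of_mem_sup_of_le (A := N) (B := S)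
    (by rw [normalizer_eq_top]; exact le_top) hx
  obtain ⟨k, hk⟩ := hS ⟨s, hs⟩
  have hk' : s ^ p ^ k = 1 := congrArg Subtype.val hk
  apply mem_of_coprime_of_pow_mem hxo (k := k)
  have h5 := mul_pow_mem_coset (S := N) hn (r := s) (by rw [normalizer_eq_top]; trivial) (p ^ k)
  rw [hk', inv_one, mul_one] at h5
  exact h5

/-- The join of the conjugates of `D` under `S`. -/
theorem le_normalizer_iSup_conj (S D : Subgroup G) :
    S ≤ normalizer ((⨆ s : ↥S, D.map (MulAut.conj (s : G)).toMonoidHom : Subgroup G) : Set G) := by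
  intro s hs
  apply mem_normalizer_of_map_conj_le
  rw [Subgroup.map_iSup]
  apply iSup_le
  rintro ⟨t, ht⟩
  rw [← map_conj_mul]
  exact le_iSup (fun s : S => D.map (MulAut.conj (s : G)).toMonoidHom) ⟨s * t, mul_mem hs ht⟩

theorem le_iSup_conj (S D : Subgroup G) :
    D ≤ ⨆ s : ↥S, D.map (MulAut.conj (s : G)).toMonoidHom := by
  have h7 := le_iSup (fun s : S => D.map (MulAut.conj (s : G)).toMonoidHom) 1
  have h8 : D.map (MulAut.conj ((1 : S) : G)).toMonoidHom = D := map_conj_one D
  rwa [h8] at h7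

theorem main (hP : IsPMinimal p P) (hOp : pCore p P = ⊥) (S : Sylow p P) (K : Subgroup P)
    (hK : IsComponent K) :
    pResidual p P = generalizedFittingSubgroup P ∧ generalizedFittingSubgroup P = layer P ∧
      layer P = ⨆ s : ↥(S : Subgroup P), K.map (MulAut.conj (s : P)).toMonoidHom ∧
      IsPMinimal p ↥(K ⊔ ((S : Subgroup P) ⊓ Subgroup.normalizer (K : Set P))) := by
  obtain ⟨M, ⟨hM, hSM⟩, -⟩ := (hP S).2
  have hle : ∀ U : Subgroup P, (S : Subgroup P) ≤ U → U ≠ ⊤ → U ≤ M := fun U h1 h2 =>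
    S2905.le_of_coatom hP S M hM hSM h1 h2
  have hSs : IsSyl p (S : Subgroup P) ⊤ := isSyl_top S
  have hEn : (layer P).Normal := by
    have := layer_characteristic P
    infer_instance
  have hEne : layer P ≠ ⊥ := fun h => component_ne_bot hK (le_bot_iff.mp (h ▸ component_le_layer hK))
  obtain ⟨hE1, hE2⟩ := perfect_normal hP hOp hM hSM hEn (layer_perfect P) hEne
  have hF : fittingSubgroup P ≤ layer P := by
    have h4 : (Nat.card ↥(fittingSubgroup P)).Coprime p := by
      have h3 := coprime_card_map_fitting (G := P) p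
      have h5 : Function.Injective (QuotientGroup.mk' (pCore p P)) := by
        rw [← MonoidHom.ker_eq_bot_iff, QuotientGroup.ker_mk', hOp]
      rwa [← Nat.card_congr ((fittingSubgroup P).equivMapOfInjective _ h5).toEquiv] at h3
    rw [← hE1, pResidual_eq]
    intro x hx
    exact mem_pRes (mem_top x) (Nat.Coprime.coprime_dvd_left (Subgroup.orderOf_dvd_natCard _ hx) h4)
  have hFs : generalizedFittingSubgroup P = layer P := by
    unfold generalizedFittingSubgroup
    exact sup_eq_left.mpr hF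
  set E₁ : Subgroup P := ⨆ s : ↥(S : Subgroup P), K.map (MulAut.conj (s : P)).toMonoidHom with hE₁
  have hKE₁ : K ≤ E₁ := le_iSup_conj _ _
  have hSE₁ : (S : Subgroup P) ≤ normalizer (E₁ : Set P) := le_normalizer_iSup_conj _ _
  have hES : layer P ⊔ (S : Subgroup P) = ⊤ := by
    rw [← hE1, pResidual_eq, sup_comm]; exact hSs.sup_pRes
  have hEE₁ : layer P ≤ normalizer (E₁ : Set P) := by
    intro x hx
    apply mem_normalizer_of_map_conj_le
    rw [hE₁, Subgroup.map_iSup]
    apply iSup_le
    rintro ⟨t, ht⟩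
    have h1 := layer_le_normalizer_component (isComponent_conj t hK) hx
    rw [map_conj_eq_of_mem h1]
    exact le_iSup (fun s : (S : Subgroup P) => K.map (MulAut.conj (s : P)).toMonoidHom) ⟨t, ht⟩
  have hE₁n : E₁.Normal := by
    rw [← normalizer_eq_top_iff, ← top_le_iff, ← hES]
    exact sup_le hEE₁ hSE₁
  have hE₁p : ⁅E₁, E₁⁆ = E₁ := by
    rw [hE₁]
    apply sSup_perfect
    rintro _ ⟨s, rfl⟩
    exact component_perfect (isComponent_conj (s : P) hK)
  have hE₁ne : E₁ ≠ ⊥ := fun h => component_ne_bot hK (le_bot_iff.mp (h ▸ hKE₁))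
  obtain ⟨hE3, hE4⟩ := perfect_normal hP hOp hM hSM hE₁n hE₁p hE₁ne
  refine ⟨by rw [hFs, hE1], hFs, by rw [← hE1, hE3], ?_⟩
  set S₀ : Subgroup P := (S : Subgroup P) ⊓ normalizer (K : Set P) with hS₀
  have hKS : K ⊓ S₀ = (S : Subgroup P) ⊓ K := by
    rw [hS₀, ← inf_assoc, inf_comm K, inf_assoc, inf_eq_left.mpr (le_normalizer : K ≤ normalizer (K : Set P))]
  have hsylK : IsSyl p ((S : Subgroup P) ⊓ K) K := (subn_top_iff.mpr hK.1).isSyl hSs
  have hS₀K : S₀ ≤ normalizer (K : Set P) := inf_le_right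
  apply isPMinimal_of (S₀ := S₀) (M₀ := (K ⊔ S₀) ⊓ M)
  · refine ⟨le_sup_right, S.2.to_le inf_le_left, ?_⟩
    rw [relIndex_sup_of_le_normalizer hS₀K, hKS]
    exact hsylK.ndvd
  · intro h
    have h1 : K ≤ normalizer (((S : Subgroup P) ⊓ K : Subgroup P) : Set P) := by
      rw [← hKS]
      exact le_normalizer_inf le_normalizer (le_sup_left.trans h)
    have h2 : (S : Subgroup P) ⊓ K ≤ pCoreOf p K := le_pCoreOf inf_le_right h1 (S.2.to_le inf_le_left)
    have h3 := h2.trans (subn_top_iff.mpr hK.1).pCoreOf_le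
    rw [pCoreOf_top, hOp, le_bot_iff] at h3
    have h4 := hsylK.ndvd
    rw [h3, relIndex_bot_left] at h4
    have h5 := subnormal_coprime_le_pPrimeCore hK.1 ((hp.out.coprime_iff_not_dvd.mpr h4).symm)
    have h6 : E₁ ≤ pPrimeCore p P := by
      rw [hE₁]
      apply iSup_le
      intro s
      rw [← map_conj_eq_of_mem (A := pPrimeCore p P) (k := (s : P)) (by
        rw [normalizer_eq_top]; trivial)]
      exact map_conj_mono _ h5
    apply hE₁ne
    apply eq_bot_of_perfect_coprime hP hE₁n hE₁p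
    intro h7
    exact ((hp.out.coprime_iff_not_dvd).mp (Cores.coprime_card_pPrimeCore p P).symm)
      (h7.trans (Subgroup.card_dvd_of_le h6))
  · exact le_inf le_sup_right (inf_le_left.trans hSM)
  · refine lt_of_le_of_ne inf_le_left fun h => hE4 ?_
    have h1 : K ≤ M := (le_sup_left.trans h.ge).trans inf_le_right
    rw [hE₁]
    apply iSup_le
    rintro s
    rw [map_conj_le_iff, map_conj_eq_of_mem (le_normalizer (M.inv_mem (hSM s.2)))]
    exact h1
  · intro U hS₀U hU
    have hDed : U = (K ⊓ U) ⊔ S₀ := by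
      apply le_antisymm
      · intro u hu
        obtain ⟨k, hk, s, hs, rfl⟩ := exists_mul_of_mem_sup_of_le hS₀K (hU.le hu)
        refine mul_mem_sup ⟨hk, ?_⟩ hs
        have := U.mul_mem hu (U.inv_mem (hS₀U hs))
        rwa [mul_inv_cancel_right] at this
      · exact sup_le inf_le_right hS₀U
    refine le_inf hU.le ?_
    set D := K ⊓ U with hD
    set D' : Subgroup P := ⨆ s : ↥(S : Subgroup P), D.map (MulAut.conj (s : P)).toMonoidHom with hD'
    have hDM : D ≤ M := by
      by_contra hcon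
      have h1 : D' ⊔ (S : Subgroup P) = ⊤ := by
        by_contra h
        exact hcon ((le_iSup_conj (S : Subgroup P) D).trans (le_sup_left.trans (hle _ le_sup_right h)))
      have h2 : D'.Normal := by
        rw [← normalizer_eq_top_iff, ← top_le_iff, ← h1]
        exact sup_le le_normalizer (le_normalizer_iSup_conj _ _)
      have h3 := pResidual_le_of_sup_eq_top S.2 h2 h1
      have h4 : K ≤ D' := (component_le_layer hK).trans (by rw [← hE1]; exact h3)
      have h5 : D' ≤ D ⊔ centralizer (K : Set P) := by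
        rw [hD']
        apply iSup_le
        rintro ⟨s, hs⟩
        by_cases hsK : s ∈ normalizer (K : Set P)
        · have h6 : s ∈ normalizer (D : Set P) :=
            (le_normalizer_inf hS₀K (hS₀U.trans le_normalizer)) ⟨hs, hsK⟩
          rw [map_conj_eq_of_mem h6]
          exact le_sup_left
        · refine le_trans ?_ le_sup_right
          have h6 : K.map (MulAut.conj s).toMonoidHom ≠ K := fun h => hsK (mem_normalizer_of_map_conj_eq h)
          exact (map_conj_mono s inf_le_left).trans (components_commute (isComponent_conj s hK) hK h6)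
      have h6 : K ≤ D ⊔ (K ⊓ centralizer (K : Set P)) := by
        intro k hk
        obtain ⟨c, hc, d, hd, rfl⟩ := exists_mul_of_mem_sup_of_le (A := centralizer (K : Set P)) (B := D)
          (inf_le_left.trans (le_normalizer_centralizer le_normalizer)) (by rw [sup_comm]; exact h5 (h4 hk))
        rw [sup_comm]
        refine mul_mem_sup ⟨?_, hc⟩ hd
        have := K.mul_mem hk (K.inv_mem ((inf_le_left : D ≤ K) hd))
        rwa [mul_inv_cancel_right] at this
      have h7 : K ≤ D := by
        refine perfect_le_of_le_sup_central (component_perfect hK) h6 ?_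
        refine sup_le ?_ ?_
        · exact (inf_le_left.trans (le_centralizer_comm (inf_le_right)))
        · exact inf_le_left.trans (le_centralizer_comm inf_le_right)
      exact not_le_of_gt hU (sup_le (h7.trans inf_le_right) hS₀U)
    rw [hDed]
    exact sup_le hDM (inf_le_left.trans hSM)

end Cfsg.Agent.Lib.H10PMin
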