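import Cfsg.Agent.Lib.WeakCl
import Cfsg.Agent.Lib.LargeSub

/-!
The weak closure of a weakly closed subgroup in a product `H₁H₂` (helper10).
-/

set_option autoImplicit false

namespace Cfsg.Agent.Lib.H10WclProd

open Subgroup Cfsg.Agent.Lib Cfsg.Agent.Lib.LocBase Cfsg.Agent.Lib.PIrred Cfsg.Agent.Lib.PReduced
open Cfsg.Agent.Lib.LocTrace Cfsg.Agent.Lib.LocMore Cfsg.Agent.Lib.WeakCl
open scoped commutatorElement

variable {G : Type*} [Group G]

theorem commutator_commutator_le_of_rotate {A B C N : Subgroup G} [N.Normal] (h1 : ⁅⁅B, C⁆, A⁆ ≤ N)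
    (h2 : ⁅⁅C, A⁆, B⁆ ≤ N) : ⁅⁅A, B⁆, C⁆ ≤ N := by
  have key : ∀ X Y Z : Subgroup G, ⁅⁅X, Y⁆, Z⁆ ≤ N ↔
      ⁅⁅X.map (QuotientGroup.mk' N), Y.map (QuotientGroup.mk' N)⁆, Z.map (QuotientGroup.mk' N)⁆ = ⊥ := by
    intro X Y Z
    rw [← Subgroup.map_commutator, ← Subgroup.map_commutator, Subgroup.map_eq_bot_iff, QuotientGroup.ker_mk']
  rw [key] at h1 h2 ⊢
  exact commutator_commutator_eq_bot_of_rotate h1 h2

variable [Finite G] {p : ℕ} [hp : Fact p.Prime]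

omit hp in
theorem pRes_sup_le {X Q : Subgroup G} (hQ : IsPGroup p Q) (hn : Q ≤ normalizer (X : Set G)) :
    pRes p (X ⊔ Q) ≤ X := by
  rw [pRes_le_iff]
  intro x hx hxo
  obtain ⟨n, hn', s, hs, rfl⟩ := exists_mul_of_mem_sup_of_le hn hx
  obtain ⟨k, hk⟩ := hQ ⟨s, hs⟩
  have hk' : s ^ p ^ k = 1 := congrArg Subtype.val hk
  apply mem_of_coprime_of_pow_mem hxo (k := k)
  have h5 := mul_pow_mem_coset (S := X) hn' (r := s) (hn hs) (p ^ k)
  rw [hk', inv_one, mul_one] at h5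
  exact h5

omit [Finite G] hp in
theorem weakClosure_weakClosure (Q L : Subgroup G) :
    Cfsg.weakClosure Q (Cfsg.weakClosure Q L) = Cfsg.weakClosure Q L := by
  apply le_antisymm weakClosure_le
  rw [weakClosure_le_iff]
  intro g hg
  exact conj_le_weakClosure (conj_le_weakClosure hg)

/-- `L° = O^p(L°) Q`. -/
theorem weakClosure_eq_sup {Q L : Subgroup G} (hQ : IsPGroup p Q) (hw : WCl Q ⊤) (hQL : Q ≤ L) :
    Cfsg.weakClosure Q L = pRes p (Cfsg.weakClosure Q L) ⊔ Q := by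
  have hQW : Q ≤ Cfsg.weakClosure Q L := le_weakClosure hQL
  apply le_antisymm _ (sup_le (pRes_le _ _) hQW)
  have h1 : Subn (pRes p (Cfsg.weakClosure Q L) ⊔ Q) (Cfsg.weakClosure Q L) :=
    Subn.of_pRes_le (sup_le (pRes_le _ _) hQW) le_sup_left
  have h2 := hw.weakClosure_le_subn hQ le_sup_right h1
  rwa [weakClosure_weakClosure] at h2

theorem pRes_commutator {Q L : Subgroup G} (hQ : IsPGroup p Q) (hw : WCl Q ⊤) (hQL : Q ≤ L) :
    ⁅pRes p (Cfsg.weakClosure Q L), Q⁆ = pRes p (Cfsg.weakClosure Q L) := by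
  set W := Cfsg.weakClosure Q L with hW
  set K := pRes p W with hK
  have hQW : Q ≤ W := le_weakClosure hQL
  have hWK : W = K ⊔ Q := weakClosure_eq_sup hQ hw hQL
  have hQK : Q ≤ normalizer (K : Set G) := hQW.trans (le_normalizer_pRes p W)
  have hXK : ⁅K, Q⁆ ≤ K := commutator_le_left_of_le hQK
  apply le_antisymm hXK
  have hn : W ≤ normalizer ((Q ⊔ ⁅Q, K⁆ : Subgroup G) : Set G) := by
    rw [hWK]
    exact sup_le LargeSub.le_normalizer_sup_commutator (le_sup_left.trans le_normalizer)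
  have h1 : Q ⊔ ⁅Q, K⁆ ≤ W := sup_le hQW (by rw [commutator_comm]; exact hXK.trans (pRes_le _ _))
  have h2 := hw.weakClosure_le_subn hQ le_sup_left (Subn.of_normal h1 hn)
  rw [hW, weakClosure_weakClosure, ← hW] at h2
  have h3 : Q ≤ normalizer ((⁅K, Q⁆ : Subgroup G) : Set G) := normalizer_commutator_ge_right K Q
  calc K = pRes p W := rfl
    _ ≤ pRes p (⁅K, Q⁆ ⊔ Q) := pRes_mono (by rw [sup_comm, commutator_comm]; exact h2)
    _ ≤ ⁅K, Q⁆ := pRes_sup_le hQ h3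

omit hp in
theorem commutator_sup_le {A B C R : Subgroup G} (hB : B ≤ normalizer (C : Set G)) (h1 : ⁅A, B⁆ ≤ R)
    (h2 : ⁅A, C⁆ ≤ R) (hC : C ≤ normalizer (R : Set G)) : ⁅A, B ⊔ C⁆ ≤ R := by
  rw [commutator_le]
  intro a ha x hx
  obtain ⟨c, hc, b, hb, rfl⟩ := exists_mul_of_mem_sup_of_le (A := C) (B := B) hB (by rw [sup_comm]; exact hx)
  have e : ⁅a, c * b⁆ = ⁅a, c⁆ * (c * ⁅a, b⁆ * c⁻¹) := by simp only [commutatorElement_def]; group
  rw [e]
  exact R.mul_mem (h2 (commutator_mem_commutator ha hc))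
    ((mem_normalizer_iff.mp (hC hc) _).mp (h1 (commutator_mem_commutator ha hb)))

structure Setup (p : ℕ) (Q H₁ H₂ Hc : Subgroup G) : Prop where
  pg : IsPGroup p Q
  wcl : WCl Q ⊤
  hHc : Hc = Cfsg.weakClosure Q ⊤
  le₁ : H₁ ≤ Hc
  n₁ : Hc ≤ normalizer (H₁ : Set G)
  le₂ : H₂ ≤ Hc
  n₂ : Hc ≤ normalizer (H₂ : Set G)
  prod : H₁ ⊔ H₂ = Hc
  comm : ⁅H₁, H₂⁆ ≤ normalizer (Q : Set G)

variable {Q H₁ H₂ Hc : Subgroup G}

omit [Finite G] hp in
theorem Setup.symm (h : Setup p Q H₁ H₂ Hc) : Setup p Q H₂ H₁ Hc :=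
  ⟨h.pg, h.wcl, h.hHc, h.le₂, h.n₂, h.le₁, h.n₁, by rw [sup_comm]; exact h.prod,
    by rw [commutator_comm]; exact h.comm⟩

omit [Finite G] hp in
theorem Setup.hQ (h : Setup p Q H₁ H₂ Hc) : Q ≤ Hc := by rw [h.hHc]; exact le_weakClosure le_top

omit [Finite G] hp in
theorem Setup.normal (h : Setup p Q H₁ H₂ Hc) : Hc.Normal := by
  rw [← normalizer_eq_top_iff, ← top_le_iff, h.hHc]
  have := normalizer_le_normalizer_weakClosure Q (⊤ : Subgroup G)
  rwa [normalizer_eq_top] at this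

omit [Finite G] hp in
theorem Setup.normal_core (h : Setup p Q H₁ H₂ Hc) : (pCoreOf p Hc).Normal := by
  have := h.normal
  rw [← normalizer_eq_top_iff, ← top_le_iff, ← normalizer_eq_top Hc]
  exact normalizer_le_normalizer_pCoreOf p Hc

theorem Setup.eq_ncl (h : Setup p Q H₁ H₂ Hc) : Hc = ncl Hc Q := by
  rw [← h.wcl.weakClosure_eq h.pg h.hQ, h.hHc, weakClosure_weakClosure]

theorem Setup.comm_le (h : Setup p Q H₁ H₂ Hc) : ⁅(⁅H₁, H₂⁆ : Subgroup G), Hc⁆ ≤ pCoreOf p Hc := by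
  have hR : Hc ≤ normalizer ((⁅H₁, H₂⁆ : Subgroup G) : Set G) := le_normalizer_commutator h.n₁ h.n₂
  have h1 : Q ⊓ ⁅H₁, H₂⁆ ≤ pCoreOf p Hc := LargeSub.inf_le_pCoreOf h.pg h.hQ hR h.comm
  have h2 : ⁅(⁅H₁, H₂⁆ : Subgroup G), Q⁆ ≤ pCoreOf p Hc :=
    (le_inf (commutator_le_right_of_le h.comm) (commutator_le_left_of_le (h.hQ.trans hR))).trans h1
  have h3 := commutator_ncl_le hR (le_normalizer_pCoreOf p Hc) h.hQ h2
  rwa [← h.eq_ncl] at h3

theorem Setup.side (h : Setup p Q H₁ H₂ Hc) {K₁ : Subgroup G}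
    (hK₁ : K₁ = pRes p (Cfsg.weakClosure Q (H₁ ⊔ Q))) :
    ⁅K₁, Q⁆ = K₁ ∧ ⁅K₁, H₁⁆ = K₁ ∧ K₁ ≤ ⁅H₁, H₁⁆ ∧ Hc ≤ normalizer (K₁ : Set G) ∧
      ⁅K₁, H₂⁆ ≤ pCoreOf p Hc := by
  have hnP := h.normal_core
  have hR : Hc ≤ normalizer ((⁅H₁, H₂⁆ : Subgroup G) : Set G) := le_normalizer_commutator h.n₁ h.n₂
  have c1 : ⁅K₁, Q⁆ = K₁ := by rw [hK₁]; exact pRes_commutator h.pg h.wcl le_sup_right
  have hQH : Q ≤ normalizer (H₁ : Set G) := h.hQ.trans h.n₁
  have hK₁H : K₁ ≤ H₁ := by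
    rw [hK₁]
    exact (pRes_mono weakClosure_le).trans (pRes_sup_le h.pg hQH)
  have hHK : H₁ ⊔ Q ≤ normalizer (K₁ : Set G) := by
    rw [hK₁]
    exact (le_normalizer.trans (normalizer_le_normalizer_weakClosure Q _)).trans
      (normalizer_le_normalizer_pRes p _)
  have hres : pRes p K₁ = K₁ := by rw [hK₁, pRes_pRes]
  set P₀ := pCoreOf p Hc with hP₀
  set X := ⁅K₁, H₁⁆ with hX
  have hXK : X ≤ K₁ := commutator_le_left_of_le (le_sup_left.trans hHK)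
  have hHX : H₁ ≤ normalizer (X : Set G) := le_normalizer_commutator (le_sup_left.trans hHK) le_normalizer
  have hQX : Q ≤ normalizer (X : Set G) := le_normalizer_commutator (le_sup_right.trans hHK) hQH
  have c2 : ⁅K₁, H₁⁆ = K₁ := by
    apply le_antisymm hXK
    have h1 : K₁ ≤ X ⊔ ⁅H₁, H₂⁆ := by
      have h2 : ⁅K₁, H₂ ⊔ H₁⁆ ≤ X ⊔ ⁅H₁, H₂⁆ := by
        refine commutator_sup_le (h.le₂.trans h.n₁) ?_ le_sup_left ?_
        · exact (commutator_mono hK₁H le_rfl).trans le_sup_right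
        · exact le_normalizer_sup hHX (h.le₁.trans hR)
      rw [sup_comm H₂, h.prod] at h2
      calc K₁ = ⁅K₁, Q⁆ := c1.symm
        _ ≤ ⁅K₁, Hc⁆ := commutator_mono le_rfl h.hQ
        _ ≤ _ := h2
    have h2 : ⁅K₁, Q⁆ ≤ X ⊔ (P₀ ⊓ K₁) := by
      rw [commutator_le]
      intro k hk q hq
      obtain ⟨r, hr, x, hx, rfl⟩ := exists_mul_of_mem_sup_of_le (A := ⁅H₁, H₂⁆) (B := X)
        ((hXK.trans hK₁H).trans (h.le₁.trans hR)) (by rw [sup_comm]; exact h1 hk)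
      have e : ⁅r * x, q⁆ = (r * ⁅x, q⁆ * r⁻¹) * ⁅r, q⁆ := by simp only [commutatorElement_def]; group
      have hxK : x ∈ K₁ := hXK hx
      have hrK : r ∈ K₁ := by
        have := K₁.mul_mem hk (K₁.inv_mem hxK)
        rwa [mul_inv_cancel_right] at this
      rw [e]
      apply mul_mem
      · apply mem_sup_left
        have h3 : ⁅x, q⁆ ∈ X := commutator_le_left_of_le hQX (commutator_mem_commutator hx hq)
        exact (mem_normalizer_iff.mp (hHX (hK₁H hrK)) _).mp h3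
      · apply mem_sup_right
        refine ⟨?_, ?_⟩
        · exact h.comm_le (commutator_mem_commutator hr (h.hQ hq))
        · exact commutator_le_left_of_le (le_sup_right.trans hHK) (commutator_mem_commutator hrK hq)
    rw [c1] at h2
    have h4 : P₀ ⊓ K₁ ≤ normalizer (X : Set G) := (inf_le_right.trans hK₁H).trans hHX
    calc K₁ = pRes p K₁ := hres.symm
      _ ≤ pRes p (X ⊔ (P₀ ⊓ K₁)) := pRes_mono h2
      _ ≤ X := pRes_sup_le ((isPGroup_pCoreOf p Hc).to_le inf_le_left) h4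
  have c3 : K₁ ≤ ⁅H₁, H₁⁆ := by
    calc K₁ = ⁅K₁, H₁⁆ := c2.symm
      _ ≤ _ := commutator_mono hK₁H le_rfl
  have c5 : ⁅K₁, H₂⁆ ≤ P₀ := by
    refine (commutator_mono c3 le_rfl).trans ?_
    apply commutator_commutator_le_of_rotate
    · exact (commutator_mono le_rfl h.le₁).trans h.comm_le
    · rw [commutator_comm H₂ H₁]
      exact (commutator_mono le_rfl h.le₁).trans h.comm_le
  have c4 : Hc ≤ normalizer (K₁ : Set G) := by
    have h0 : P₀ ≤ normalizer (Q : Set G) := by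
      have h1 : IsPGroup p ↥(P₀ ⊔ Q) := isPGroup_sup (isPGroup_pCoreOf p Hc) h.pg (by
        rw [normalizer_eq_top]; exact le_top)
      exact le_sup_left.trans (h.wcl.le_normalizer h1 le_sup_right le_top)
    have h1 : P₀ ≤ normalizer (K₁ : Set G) := by
      have h2 : P₀ ≤ normalizer ((H₁ ⊔ Q : Subgroup G) : Set G) :=
        le_normalizer_sup ((pCoreOf_le Hc).trans h.n₁) h0
      rw [hK₁]
      exact (h2.trans (normalizer_le_normalizer_weakClosure Q _)).trans (normalizer_le_normalizer_pRes p _)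
    have h2 : pRes p (K₁ ⊔ P₀) = K₁ := by
      apply le_antisymm (pRes_sup_le (isPGroup_pCoreOf p Hc) h1)
      calc K₁ = pRes p K₁ := hres.symm
        _ ≤ _ := pRes_mono le_sup_left
    have h3 : H₂ ≤ normalizer ((K₁ ⊔ P₀ : Subgroup G) : Set G) := by
      rw [le_normalizer_iff_commutator_le_left]
      rw [commutator_le]
      intro x hx b hb
      obtain ⟨u, hu, k, hk, rfl⟩ := exists_mul_of_mem_sup_of_le (A := P₀) (B := K₁)
        (by rw [normalizer_eq_top]; exact le_top) (by rw [sup_comm]; exact hx)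
      have e : ⁅u * k, b⁆ = (u * ⁅k, b⁆ * u⁻¹) * ⁅u, b⁆ := by simp only [commutatorElement_def]; group
      rw [e]
      have h4 : ⁅k, b⁆ ∈ P₀ := c5 (commutator_mem_commutator hk hb)
      apply mem_sup_right
      apply mul_mem
      · exact mul_mem (mul_mem hu h4) (inv_mem hu)
      · rw [commutatorElement_def]
        have : b * u⁻¹ * b⁻¹ ∈ P₀ := hnP.conj_mem _ (inv_mem hu) b
        have e2 : u * b * u⁻¹ * b⁻¹ = u * (b * u⁻¹ * b⁻¹) := by group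
        rw [e2]
        exact mul_mem hu this
    have h4 : H₂ ≤ normalizer (K₁ : Set G) := by
      rw [← h2]
      exact h3.trans (normalizer_le_normalizer_pRes p _)
    rw [← h.prod]
    exact sup_le (le_sup_left.trans hHK) h4
  exact ⟨c1, c2, c3, c4, c5⟩

theorem Setup.main (h : Setup p Q H₁ H₂ Hc) {K₁ K₂ : Subgroup G}
    (hK₁ : K₁ = pRes p (Cfsg.weakClosure Q (H₁ ⊔ Q))) (hK₂ : K₂ = pRes p (Cfsg.weakClosure Q (H₂ ⊔ Q))) :
    (⁅K₁, Q⁆ = K₁ ∧ ⁅K₁, H₁⁆ = K₁ ∧ K₁ ≤ ⁅H₁, H₁⁆ ∧ Hc ≤ normalizer (K₁ : Set G)) ∧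
    (⁅K₂, Q⁆ = K₂ ∧ ⁅K₂, H₂⁆ = K₂ ∧ K₂ ≤ ⁅H₂, H₂⁆ ∧ Hc ≤ normalizer (K₂ : Set G)) ∧
    K₁ ⊔ K₂ = pRes p Hc ∧ ⁅K₁, K₂⁆ ≤ pCoreOf p Hc := by
  obtain ⟨a1, a2, a3, a4, a5⟩ := h.side hK₁
  obtain ⟨b1, b2, b3, b4, b5⟩ := h.symm.side hK₂
  refine ⟨⟨a1, a2, a3, a4⟩, ⟨b1, b2, b3, b4⟩, ?_, ?_⟩
  · have hW : ∀ L : Subgroup G, Cfsg.weakClosure Q L ≤ Hc := by
      intro L
      rw [h.hHc]
      exact weakClosure_mono le_top
    apply le_antisymm
    · rw [hK₁, hK₂]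
      exact sup_le (pRes_mono (hW _)) (pRes_mono (hW _))
    · have hn : Hc ≤ normalizer ((K₁ ⊔ K₂ : Subgroup G) : Set G) := le_normalizer_sup a4 b4
      have key : ∀ A K : Subgroup G, A ≤ Hc → K ≤ K₁ ⊔ K₂ → K = pRes p (Cfsg.weakClosure Q (A ⊔ Q)) →
          A ≤ normalizer (((K₁ ⊔ K₂) ⊔ Q : Subgroup G) : Set G) := by
        intro A K hA hK hKe a ha
        apply mem_normalizer_of_map_conj_le
        rw [Subgroup.map_sup, map_conj_eq_of_mem (hn (hA ha))]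
        apply sup_le le_sup_left
        have h1 : Q.map (MulAut.conj a).toMonoidHom ≤ Cfsg.weakClosure Q (A ⊔ Q) := by
          apply conj_le_weakClosure
          have h2 : a ∈ normalizer ((A ⊔ Q : Subgroup G) : Set G) := le_normalizer (mem_sup_left ha)
          rw [← map_conj_eq_of_mem h2]
          exact map_conj_mono a le_sup_right
        rw [weakClosure_eq_sup h.pg h.wcl le_sup_right, ← hKe] at h1
        exact h1.trans (sup_le_sup_right hK Q)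
      have h3 : Hc ≤ normalizer (((K₁ ⊔ K₂) ⊔ Q : Subgroup G) : Set G) := by
        rw [← h.prod]
        exact sup_le (key H₁ K₁ h.le₁ le_sup_left hK₁) (key H₂ K₂ h.le₂ le_sup_right hK₂)
      have h4 : Hc ≤ (K₁ ⊔ K₂) ⊔ Q := by
        rw [h.eq_ncl]
        exact ncl_le le_sup_right h3
      exact (pRes_mono h4).trans (pRes_sup_le h.pg (h.hQ.trans hn))
  · refine (commutator_mono le_rfl (b3.trans ?_)).trans a5
    exact commutator_le_left_of_le le_normalizer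

end Cfsg.Agent.Lib.H10WclProd
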