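import Cfsg.Agent.Lib.PIrred
import Cfsg.Agent.Lib.H10PMin
import Cfsg.Agent.Lib.H10WclProd
import Cfsg.Agent.S2828

/-!
Groups generated (up to a `p`-group) by a transitive family of `p`-minimal or strongly `p`-irreducible
subgroups (helper10).
-/

set_option autoImplicit false

namespace Cfsg.Agent.Lib.H10Family

open Subgroup Cfsg Cfsg.Agent.Lib Cfsg.Agent.Lib.LocBase Cfsg.Agent.Lib.PIrred
open scoped commutatorElement

variable {G : Type*} [Group G]

/-! ### p-minimal members -/

/-- `N` is the largest proper subgroup of `F` over `A`, and `F` is generated by the conjugates of `A`. -/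
structure PM (F A N : Subgroup G) : Prop where
  le : A ≤ N
  lt : N < F
  max : ∀ U : Subgroup G, A ≤ U → U < F → U ≤ N
  gen : ∀ X : Subgroup G, A ≤ X → X ≤ F → F ≤ normalizer (X : Set G) → X = F

theorem PM.conj {F A N : Subgroup G} (h : PM F A N) (g : G) :
    PM (F.map (MulAut.conj g).toMonoidHom) (A.map (MulAut.conj g).toMonoidHom)
      (N.map (MulAut.conj g).toMonoidHom) := by
  have key : ∀ U : Subgroup G, U = (U.map (MulAut.conj g⁻¹).toMonoidHom).map (MulAut.conj g).toMonoidHom := by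
    intro U
    rw [← map_conj_mul, mul_inv_cancel, map_conj_one]
  refine ⟨map_conj_mono g h.le, ?_, ?_, ?_⟩
  · refine lt_of_le_of_ne (map_conj_mono g h.lt.le) fun e => h.lt.ne ?_
    rwa [map_conj_inj] at e
  · intro U h1 h2
    rw [key U] at h1 h2 ⊢
    rw [map_conj_le_map_conj] at h1 ⊢
    apply h.max _ h1
    refine lt_of_le_of_ne ?_ fun e => h2.ne (by rw [e])
    have := h2.le
    rwa [map_conj_le_map_conj] at this
  · intro X h1 h2 h3
    rw [key X] at h1 h2 h3 ⊢
    rw [map_conj_le_map_conj] at h1 h2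
    rw [← map_conj_normalizer, map_conj_le_map_conj] at h3
    rw [h.gen _ h1 h2 h3]

theorem PM.unique {F A N N' : Subgroup G} (h : PM F A N) (h' : PM F A N') : N = N' :=
  le_antisymm (h'.max N h.le h.lt) (h.max N' h'.le h'.lt)

variable [Finite G] {p : ℕ} [hp : Fact p.Prime]

omit hp in
/-- from `IsMinimalOver` -/
theorem pm_of_minimalOver {E A : Subgroup G} {T : Subgroup ↥E} (hT : T.map E.subtype = A)
    (h : IsMinimalOver T) : ∃ M, PM E A M := by
  obtain ⟨hcl, M, ⟨hM, hTM⟩, huniq⟩ := h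
  refine ⟨M.map E.subtype, ?_, ?_, ?_, ?_⟩
  · rw [← hT]; exact Subgroup.map_mono hTM
  · refine lt_of_le_of_ne (map_subtype_le _) fun e => hM.1 ?_
    rw [eq_top_iff]
    intro x _
    have h1 : (x : G) ∈ M.map E.subtype := by rw [e]; exact x.2
    obtain ⟨y, hy, hyx⟩ := h1
    rwa [← Subtype.ext hyx]
  · intro U hAU hUE
    have h1 : T ≤ U.subgroupOf E := by
      intro x hx
      rw [mem_subgroupOf]
      exact hAU (hT ▸ ⟨x, hx, rfl⟩)
    have h2 : U.subgroupOf E ≠ ⊤ := by
      intro e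
      rw [subgroupOf_eq_top] at e
      exact not_le_of_gt hUE e
    obtain ⟨M', hM', hUM'⟩ := (eq_top_or_exists_le_coatom (U.subgroupOf E)).resolve_left h2
    have h3 := huniq M' ⟨hM', h1.trans hUM'⟩
    rw [← map_subgroupOf_eq_of_le hUE.le, ← h3]
    exact Subgroup.map_mono hUM'
  · intro X hAX hXE hn
    have h1 : T ≤ X.subgroupOf E := by
      intro x hx
      rw [mem_subgroupOf]
      exact hAX (hT ▸ ⟨x, hx, rfl⟩)
    have h2 : (X.subgroupOf E).Normal := normal_subgroupOf_of_le_normalizer hn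
    have h3 : normalClosure (T : Set ↥E) ≤ X.subgroupOf E := normalClosure_le_normal h1
    rw [hcl, top_le_iff, subgroupOf_eq_top] at h3
    exact le_antisymm hXE h3

omit hp in
theorem dedekind {A B U : Subgroup G} (hn : B ≤ normalizer (A : Set G)) (hA : A ≤ U) (hU : U ≤ B ⊔ A) :
    U = (U ⊓ B) ⊔ A := by
  apply le_antisymm _ (sup_le inf_le_left hA)
  intro u hu
  obtain ⟨a, ha, b, hb, rfl⟩ := exists_mul_of_mem_sup_of_le hn (by rw [sup_comm]; exact hU hu)
  rw [sup_comm]
  refine mul_mem_sup ha ⟨?_, hb⟩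
  have := U.mul_mem (U.inv_mem (hA ha)) hu
  rwa [inv_mul_cancel_left] at this

omit hp in
theorem PM.sup {E A M O : Subgroup G} (h : PM E A M) (hO : O.Normal) (hOE : E ⊓ O ≤ A) :
    PM (E ⊔ O) (A ⊔ O) (M ⊔ O) := by
  have hn : ∀ B : Subgroup G, B ≤ normalizer (O : Set G) := fun B => by rw [normalizer_eq_top]; exact le_top
  have hAE : A ≤ E := h.le.trans h.lt.le
  refine ⟨sup_le_sup_right h.le _, ?_, ?_, ?_⟩
  · refine lt_of_le_of_ne (sup_le_sup_right h.lt.le _) fun e => ?_
    apply not_le_of_gt h.lt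
    intro x hx
    have hx' : x ∈ M ⊔ O := by rw [e]; exact mem_sup_left hx
    obtain ⟨a, ha, b, hb, rfl⟩ := exists_mul_of_mem_sup_of_le (A := O) (B := M) (hn M) (by rw [sup_comm]; exact hx')
    refine M.mul_mem ?_ hb
    apply h.le
    apply hOE
    refine ⟨?_, ha⟩
    have := E.mul_mem hx (E.inv_mem (h.lt.le hb))
    rwa [mul_inv_cancel_right] at this
  · intro U h1 h2
    rw [dedekind (hn E) (le_sup_right.trans h1) h2.le]
    apply sup_le_sup_right
    apply h.max _ (le_inf (le_sup_left.trans h1) hAE)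
    refine lt_of_le_of_ne inf_le_right fun e => not_le_of_gt h2 ?_
    exact sup_le (inf_eq_right.mp e) (le_sup_right.trans h1)
  · intro X h1 h2 h3
    apply le_antisymm h2
    have h4 := h.gen (X ⊓ E) (le_inf (le_sup_left.trans h1) hAE) inf_le_right
      (le_normalizer_inf (le_sup_left.trans h3) le_normalizer)
    exact sup_le (inf_eq_right.mp h4) (le_sup_right.trans h1)

/-- The common setting. -/
structure Fam (p : ℕ) (𝒦 : Set (Subgroup G)) : Prop where
  ne : 𝒦.Nonempty
  inv : ∀ h : G, ∀ E ∈ 𝒦, E.map (MulAut.conj h).toMonoidHom ∈ 𝒦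
  tr : ∀ E ∈ 𝒦, ∀ K ∈ 𝒦, ∃ h : G, K = E.map (MulAut.conj h).toMonoidHom
  res : pRes p ⊤ ≤ sSup 𝒦
  norm : ∀ E ∈ 𝒦, sSup 𝒦 ⊔ pCore p G ≤ normalizer ((E ⊔ pCore p G : Subgroup G) : Set G)

variable {𝒦 : Set (Subgroup G)}

omit [Finite G] hp in
theorem Fam.normal (h : Fam p 𝒦) : (sSup 𝒦).Normal := by
  refine ⟨fun x hx g => ?_⟩
  have h1 : (sSup 𝒦).map (MulAut.conj g).toMonoidHom ≤ sSup 𝒦 := by
    rw [sSup_eq_iSup, Subgroup.map_iSup]
    apply iSup_le
    intro E
    rw [Subgroup.map_iSup]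
    apply iSup_le
    intro hE
    exact le_iSup_of_le (E.map (MulAut.conj g).toMonoidHom) (le_iSup_of_le (h.inv g E hE) le_rfl)
  exact h1 ⟨x, hx, rfl⟩

theorem Fam.sup_eq_top (h : Fam p 𝒦) (T : Sylow p G) : sSup 𝒦 ⊔ (T : Subgroup G) = ⊤ := by
  rw [eq_top_iff, ← (isSyl_top T).sup_pRes]
  exact sup_le le_sup_right (h.res.trans le_sup_left)

omit [Finite G] hp in
theorem Fam.subn (h : Fam p 𝒦) {E : Subgroup G} (hE : E ∈ 𝒦) : Subn (E ⊔ pCore p G) ⊤ := by
  have hR := h.normal
  refine Subn.step (sup_le_sup_right (le_sSup hE) _) (h.norm E hE) ?_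
  refine Subn.of_normal le_top ?_
  have : (sSup 𝒦 ⊔ pCore p G).Normal := inferInstance
  rw [normalizer_eq_top]

theorem pCore_le_sylow (T : Sylow p G) : pCore p G ≤ (T : Subgroup G) := by
  have := (isSyl_top T).pCoreOf_le
  rwa [pCoreOf_top] at this

theorem Fam.isSyl (h : Fam p 𝒦) (T : Sylow p G) {E : Subgroup G} (hE : E ∈ 𝒦) :
    IsSyl p ((T : Subgroup G) ⊓ E) E ∧
      (T : Subgroup G) ⊓ (E ⊔ pCore p G) = ((T : Subgroup G) ⊓ E) ⊔ pCore p G := by
  have hO := pCore_le_sylow T
  have hn : ∀ B : Subgroup G, B ≤ normalizer (pCore p G : Set G) := fun B => by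
    rw [normalizer_eq_top]; exact le_top
  have hF : IsSyl p ((T : Subgroup G) ⊓ (E ⊔ pCore p G)) (E ⊔ pCore p G) := (h.subn hE).isSyl (isSyl_top T)
  have e1 : (T : Subgroup G) ⊓ (E ⊔ pCore p G) = ((T : Subgroup G) ⊓ E) ⊔ pCore p G := by
    have h1 := dedekind (A := pCore p G) (B := E) (U := (T : Subgroup G) ⊓ (E ⊔ pCore p G)) (hn E)
      (le_inf hO le_sup_right) inf_le_right
    rw [h1]
    congr 1
    rw [inf_assoc, inf_eq_right.mpr (le_sup_left : E ≤ E ⊔ pCore p G)]
  refine ⟨?_, e1⟩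
  obtain ⟨S, hS, hTS⟩ := exists_isSyl_ge (p := p) (A := (T : Subgroup G) ⊓ E) (H := E)
    (T.2.to_le inf_le_left) inf_le_right
  have h2 : IsPGroup p ↥(pCore p G ⊔ S) := isPGroup_sup (isPGroup_pCore p G) hS.pgroup (hn S)
  have h3 := hF.eq_of_le h2 (sup_le le_sup_right (hS.le.trans le_sup_left)) (by
    rw [e1, sup_comm]; exact sup_le_sup_left hTS _)
  have h4 : S ≤ (T : Subgroup G) ⊓ E := by
    refine le_inf ?_ hS.le
    exact (le_sup_right.trans h3.ge).trans inf_le_left
  rw [le_antisymm hTS h4]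
  exact hS

theorem Fam.top_le (h : Fam p 𝒦) (T : Sylow p G) {E U : Subgroup G} (hE : E ∈ 𝒦) (hEU : E ≤ U)
    (hTU : (T : Subgroup G) ≤ U) : U = ⊤ := by
  have hR := h.normal
  rw [eq_top_iff, ← h.sup_eq_top T]
  refine sup_le (sSup_le fun K hK => ?_) hTU
  obtain ⟨g, rfl⟩ := h.tr E hE K hK
  have hg : g ∈ sSup 𝒦 ⊔ (T : Subgroup G) := by rw [h.sup_eq_top T]; trivial
  obtain ⟨t, ht, r, hr, rfl⟩ := exists_mul_of_mem_sup_of_le' (A := sSup 𝒦) (B := (T : Subgroup G))
    (by rw [normalizer_eq_top]; exact le_top) hg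
  have h1 : (E ⊔ pCore p G).map (MulAut.conj r).toMonoidHom = E ⊔ pCore p G :=
    map_conj_eq_of_mem (h.norm E hE (mem_sup_left hr))
  calc E.map (MulAut.conj (t * r)).toMonoidHom ≤ (E ⊔ pCore p G).map (MulAut.conj (t * r)).toMonoidHom :=
        map_conj_mono _ le_sup_left
    _ = (E ⊔ pCore p G).map (MulAut.conj t).toMonoidHom := by rw [map_conj_mul, h1]
    _ ≤ U.map (MulAut.conj t).toMonoidHom :=
        map_conj_mono t (sup_le hEU ((pCore_le_sylow T).trans hTU))
    _ = U := map_conj_eq_of_mem (le_normalizer (hTU ht))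

theorem Fam.minimal (h : Fam p 𝒦)
    (hmin : ∀ E ∈ 𝒦, ∀ T : Sylow p ↥E, IsMinimalOver (T : Subgroup ↥E)) (T : Sylow p G) :
    IsMinimalOver (T : Subgroup G) := by
  have hR := h.normal
  set R := sSup 𝒦 with hRdef
  set O := pCore p G with hO
  have hOT : O ≤ (T : Subgroup G) := pCore_le_sylow T
  have hM : ∀ E ∈ 𝒦, ∃ M, PM E ((T : Subgroup G) ⊓ E) M := by
    intro E hE
    obtain ⟨S, hS⟩ := (h.isSyl T hE).1.exists_sylow'
    exact pm_of_minimalOver hS (hmin E hE S)
  have hN : ∀ E ∈ 𝒦, ∃ N, PM (E ⊔ O) ((T : Subgroup G) ⊓ (E ⊔ O)) N := by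
    intro E hE
    obtain ⟨M, hM⟩ := hM E hE
    rw [(h.isSyl T hE).2]
    exact ⟨_, hM.sup inferInstance (le_inf (inf_le_right.trans hOT) inf_le_left)⟩
  choose! N hN using hN
  constructor
  · -- generation
    set C := normalClosure ((T : Subgroup G) : Set G) with hC
    have hTC : (T : Subgroup G) ≤ C := subset_normalClosure
    obtain ⟨E, hE⟩ := h.ne
    apply h.top_le T hE _ hTC
    obtain ⟨M, hM⟩ := hM E hE
    have h1 := hM.gen (C ⊓ E) (inf_le_inf_right E hTC) inf_le_right
      (le_normalizer_inf (by rw [normalizer_eq_top]; exact le_top) le_normalizer)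
    exact inf_eq_right.mp h1
  -- the maximal subgroup
  let B : Subgroup G := R ⊓ ⨅ E : 𝒦, normalizer (N E : Set G)
  have hB : ∀ x, x ∈ B ↔ x ∈ R ∧ ∀ E ∈ 𝒦, x ∈ normalizer (N E : Set G) := by
    intro x
    simp only [B, mem_inf, mem_iInf, Subtype.forall]
  have hFn : ∀ E ∈ 𝒦, ∀ x ∈ R, (E ⊔ O).map (MulAut.conj x).toMonoidHom = E ⊔ O := fun E hE x hx =>
    map_conj_eq_of_mem (h.norm E hE (mem_sup_left hx))
  -- criterion for membership in `normalizer (N E)`
  have hcrit : ∀ E ∈ 𝒦, ∀ x ∈ R, ((T : Subgroup G) ⊓ (E ⊔ O)).map (MulAut.conj x).toMonoidHom ≤ N E →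
      x ∈ normalizer (N E : Set G) := by
    intro E hE x hx hle
    have h1 : (N E).map (MulAut.conj x⁻¹).toMonoidHom ≤ N E := by
      apply (hN E hE).max
      · rwa [← map_conj_le_iff]
      · have h2 := (hN E hE).lt
        refine lt_of_le_of_ne ?_ fun e => ?_
        · have h3 := map_conj_mono x⁻¹ h2.le
          rwa [hFn E hE _ (R.inv_mem hx)] at h3
        · rw [← hFn E hE _ (R.inv_mem hx), map_conj_inj] at e
          exact h2.ne e
    have h2 := mem_normalizer_of_map_conj_le h1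
    simpa using (normalizer (N E : Set G)).inv_mem h2
  have hTB : (T : Subgroup G) ≤ normalizer (B : Set G) := by
    rw [le_normalizer_iff]
    intro t ht x hx
    rw [hB] at hx ⊢
    refine ⟨hR.conj_mem x hx.1 t, fun E hE => ?_⟩
    have h1 := hx.2 _ (h.inv t⁻¹ E hE)
    have h2 : N (E.map (MulAut.conj t⁻¹).toMonoidHom) = (N E).map (MulAut.conj t⁻¹).toMonoidHom := by
      refine (hN _ (h.inv t⁻¹ E hE)).unique ?_
      have h3 := (hN E hE).conj t⁻¹
      have hO1 : O.map (MulAut.conj t⁻¹).toMonoidHom = O :=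
        map_conj_eq_of_mem (by rw [normalizer_eq_top]; trivial)
      rw [Subgroup.map_inf _ _ _ (MulAut.conj t⁻¹).injective, Subgroup.map_sup, hO1,
        map_conj_eq_of_mem (A := (T : Subgroup G)) (le_normalizer ((T : Subgroup G).inv_mem ht))] at h3
      exact h3
    rw [h2, ← map_conj_normalizer, mem_map_conj, inv_inv] at h1
    exact h1
  have hTRB : (T : Subgroup G) ⊓ R ≤ B := by
    rintro x ⟨hxT, hxR⟩
    rw [hB]
    refine ⟨hxR, fun E hE => hcrit E hE x hxR ?_⟩
    rw [Subgroup.map_inf _ _ _ (MulAut.conj x).injective, hFn E hE x hxR,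
      map_conj_eq_of_mem (A := (T : Subgroup G)) (le_normalizer hxT)]
    exact (hN E hE).le
  refine H10PMin.existsUnique_coatom (M := B ⊔ (T : Subgroup G)) le_sup_right ?_ ?_
  · intro htop
    have h1 : R ≤ B := by
      intro r hr
      obtain ⟨b, hb, t, ht, rfl⟩ := exists_mul_of_mem_sup_of_le hTB (show r ∈ B ⊔ (T : Subgroup G) by
        rw [htop]; trivial)
      refine B.mul_mem hb (hTRB ⟨ht, ?_⟩)
      have := R.mul_mem (R.inv_mem ((hB b).mp hb).1) hr
      rwa [inv_mul_cancel_left] at this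
    obtain ⟨E, hE⟩ := h.ne
    have h2 : E ⊔ O ≤ normalizer (N E : Set G) := by
      apply sup_le
      · intro x hx
        exact ((hB x).mp (h1 (le_sSup hE hx))).2 E hE
      · have h3 : O ≤ N E := (le_inf hOT le_sup_right).trans (hN E hE).le
        exact h3.trans le_normalizer
    have h3 := (hN E hE).gen (N E) (hN E hE).le (hN E hE).lt.le h2
    exact (hN E hE).lt.ne h3
  · intro U hTU hUt
    have hU : U = (U ⊓ R) ⊔ (T : Subgroup G) := by
      apply le_antisymm _ (sup_le inf_le_left hTU)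
      intro u hu
      obtain ⟨r, hr, t, ht, rfl⟩ := exists_mul_of_mem_sup_of_le (A := R) (B := (T : Subgroup G))
        (by rw [normalizer_eq_top]; exact le_top) (show u ∈ R ⊔ (T : Subgroup G) by
          rw [h.sup_eq_top T]; trivial)
      refine mul_mem_sup ⟨?_, hr⟩ ht
      have := U.mul_mem hu (U.inv_mem (hTU ht))
      rwa [mul_inv_cancel_right] at this
    rw [hU]
    apply sup_le_sup_right
    rintro x ⟨hxU, hxR⟩
    rw [hB]
    refine ⟨hxR, fun E hE => hcrit E hE x hxR ?_⟩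
    have hV : U ⊓ (E ⊔ O) ≤ N E := by
      apply (hN E hE).max _ (inf_le_inf_right _ hTU)
      refine lt_of_le_of_ne inf_le_right fun e => hUt ?_
      exact h.top_le T hE (le_sup_left.trans (inf_eq_right.mp e)) hTU
    refine le_trans ?_ hV
    rw [Subgroup.map_inf _ _ _ (MulAut.conj x).injective, hFn E hE x hxR]
    apply inf_le_inf_right
    rw [← map_conj_eq_of_mem (le_normalizer hxU)]
    exact map_conj_mono x hTU


/-! ### strongly p-irreducible members -/

/-- strong `p`-irreducibility of a subgroup, ambient form -/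
def SPI (p : ℕ) (F : Subgroup G) : Prop :=
  ¬ IsPClosed p ↥F ∧ ∀ N : Subgroup G, N ≤ F → F ≤ normalizer (N : Set G) → ¬ ⁅N, F⁆ ≤ pCoreOf p F →
    pRes p F ≤ N

omit [Finite G] hp in
theorem spi_of {F : Subgroup G} (h : IsStronglyPIrreducible p ↥F) : SPI p F := by
  refine ⟨h.1, fun N hN hn hc => ?_⟩
  have h1 := h.2 (N.subgroupOf F) (normal_subgroupOf_of_le_normalizer hn) (fun hle => hc ?_)
  · have h2 := Subgroup.map_mono (f := F.subtype) h1
    rwa [map_pResidual, map_subgroupOf_eq_of_le hN] at h2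
  · have h2 := Subgroup.map_mono (f := F.subtype) hle
    rw [Subgroup.map_commutator, map_subgroupOf_eq_of_le hN, ← MonoidHom.range_eq_map, range_subtype] at h2
    exact h2

theorem SPI.map {F D : Subgroup G} [D.Normal] (hD : IsPGroup p D) (h : SPI p F) :
    SPI p (F.map (QuotientGroup.mk' D)) := by
  refine ⟨fun hc => h.1 ((isPClosed_map_iff hD F).mp hc), fun N hN hn hc => ?_⟩
  set π := QuotientGroup.mk' D with hπ
  have e1 : (N.comap π ⊓ F).map π = N := by
    apply le_antisymm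
    · rw [Subgroup.map_le_iff_le_comap]; exact inf_le_left
    · intro x hx
      obtain ⟨y, hy, rfl⟩ := hN hx
      exact ⟨y, ⟨hx, hy⟩, rfl⟩
  have h1 : F ≤ normalizer ((N.comap π ⊓ F : Subgroup G) : Set G) := by
    apply le_normalizer_inf _ le_normalizer
    exact (Subgroup.le_comap_map π F).trans ((Subgroup.comap_mono hn).trans (le_normalizer_comap π))
  rw [← pRes_map, ← e1]
  apply Subgroup.map_mono
  apply h.2 _ inf_le_right h1
  intro h2
  apply hc
  rw [← e1, ← Subgroup.map_commutator]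
  refine (Subgroup.map_mono h2).trans ?_
  apply le_pCoreOf (Subgroup.map_mono (pCoreOf_le F))
  · exact (Subgroup.map_mono (le_normalizer_pCoreOf p F)).trans (le_normalizer_map π)
  · exact (isPGroup_pCoreOf p F).map _

theorem SPI.eq_of_isSyl_le {E C T : Subgroup G} (h : SPI p E) (hE : pCoreOf p E = ⊥) (hC : C ≤ E)
    (hn : E ≤ normalizer (C : Set G)) (hT : IsSyl p T E) (hTC : T ≤ C) : C = E := by
  by_cases h1 : ⁅C, E⁆ ≤ pCoreOf p E
  · exfalso
    apply h.1
    apply isPClosed_of_isSyl_normal hT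
    rw [hE, le_bot_iff] at h1
    have h2 : E ≤ centralizer (C : Set G) := by
      rw [commutator_comm] at h1
      exact commutator_eq_bot_iff_le_centralizer.mp h1
    exact (h2.trans (centralizer_le hTC)).trans (centralizer_le_normalizer _)
  · have h2 := h.2 C hC hn h1
    apply le_antisymm hC
    rw [← hT.sup_pRes]
    exact sup_le hTC h2

omit [Finite G] hp in
theorem conj_mem_of_le {E N : Subgroup G} (h : E ≤ normalizer (N : Set G)) {e n : G} (he : e ∈ E)
    (hn : n ∈ N) : e * n * e⁻¹ ∈ N := (mem_normalizer_iff.mp (h he) n).mp hn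

/-- `[x, y]` central in `E`, `x ∈ E` a `p`-element, `O_p(E) = 1`. -/
theorem commutator_eq_one {E T : Subgroup G} (hE : pCoreOf p E = ⊥) (hT : IsPGroup p T)
    {x y : G} (hx : x ∈ T) (hxE : x ∈ E) (hz : ⁅x, y⁆ ∈ E) (hzc : ∀ e ∈ E, ⁅x, y⁆ * e = e * ⁅x, y⁆) :
    ⁅x, y⁆ = 1 := by
  set z := ⁅x, y⁆ with hzdef
  obtain ⟨k, hk⟩ := hT ⟨x, hx⟩
  have hk' : x ^ p ^ k = 1 := congrArg Subtype.val hk
  have h1 : y * x * y⁻¹ = z⁻¹ * x := by
    rw [hzdef, commutatorElement_def]; group
  have hcomm : Commute z⁻¹ x := (show Commute z x from hzc x hxE).inv_left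
  have h2 : z⁻¹ ^ p ^ k = 1 := by
    have h3 : (y * x * y⁻¹) ^ p ^ k = 1 := by rw [conj_pow, hk', mul_one, mul_inv_cancel]
    rw [h1, hcomm.mul_pow, hk', mul_one] at h3
    exact h3
  have h4 : z ^ p ^ k = 1 := by rwa [inv_pow, inv_eq_one] at h2
  have h5 : zpowers z ≤ pCoreOf p E := by
    apply le_pCoreOf
    · rwa [zpowers_le]
    · rw [le_normalizer_iff]
      intro e he w hw
      obtain ⟨m, rfl⟩ := mem_zpowers_iff.mp hw
      have h6 : Commute e (z ^ m) := (show Commute e z from (hzc e he).symm).zpow_right m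
      rw [h6.eq, mul_inv_cancel_right]
      exact hw
    · intro w
      obtain ⟨m, hm⟩ := mem_zpowers_iff.mp w.2
      refine ⟨k, ?_⟩
      apply Subtype.ext
      rw [SubmonoidClass.coe_pow, ← hm, OneMemClass.coe_one]
      rw [← zpow_natCast, ← zpow_mul, mul_comm, zpow_mul, zpow_natCast, h4, one_zpow]
  rw [hE, le_bot_iff, zpowers_eq_bot] at h5
  exact h5

omit [Finite G] hp in
theorem mem_centralizer_of {K : Set G} {x : G} (h : ∀ y ∈ K, ⁅y, x⁆ = 1) : x ∈ centralizer K :=
  mem_centralizer_iff_commutator_eq_one.mpr h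

structure SFam (p : ℕ) (𝒦 : Set (Subgroup G)) : Prop where
  ne : 𝒦.Nonempty
  inv : ∀ h : G, ∀ E ∈ 𝒦, E.map (MulAut.conj h).toMonoidHom ∈ 𝒦
  tr : ∀ E ∈ 𝒦, ∀ K ∈ 𝒦, ∃ h : G, K = E.map (MulAut.conj h).toMonoidHom
  res : pRes p ⊤ ≤ sSup 𝒦
  norm : ∀ E ∈ 𝒦, sSup 𝒦 ≤ normalizer (E : Set G)
  core : pCore p G = ⊥
  spi : ∀ E ∈ 𝒦, SPI p E

omit [Finite G] hp in
theorem SFam.fam (h : SFam p 𝒦) : Fam p 𝒦 :=
  ⟨h.ne, h.inv, h.tr, h.res, fun E hE => by rw [h.core, sup_bot_eq, sup_bot_eq]; exact h.norm E hE⟩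

omit [Finite G] hp in
theorem SFam.core_eq (h : SFam p 𝒦) {E : Subgroup G} (hE : E ∈ 𝒦) : pCoreOf p E = ⊥ := by
  have h1 := h.fam.subn hE
  rw [h.core, sup_bot_eq] at h1
  have h2 := h1.pCoreOf_le (p := p)
  rwa [pCoreOf_top, h.core, le_bot_iff] at h2

theorem SFam.pair (h : SFam p 𝒦) {E K : Subgroup G} (hE : E ∈ 𝒦) (hK : K ∈ 𝒦) :
    pRes p E = pRes p K ∨ ⁅E, K⁆ = ⊥ := by
  have hEK : E ≤ normalizer (K : Set G) := (le_sSup hE).trans (h.norm K hK)
  have hKE : K ≤ normalizer (E : Set G) := (le_sSup hK).trans (h.norm E hE)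
  have hcard : ∀ A B : Subgroup G, A ∈ 𝒦 → B ∈ 𝒦 → pRes p A ≤ pRes p B → pRes p A = pRes p B := by
    intro A B hA hB hAB
    obtain ⟨g, rfl⟩ := h.tr A hA B hB
    apply Subgroup.eq_of_le_of_card_ge hAB
    rw [← pRes_map_conj, card_map_conj]
  by_cases h1 : ⁅E ⊓ K, E⁆ ≤ pCoreOf p E
  · by_cases h2 : ⁅E ⊓ K, K⁆ ≤ pCoreOf p K
    · right
      rw [h.core_eq hE, le_bot_iff, commutator_eq_bot_iff_le_centralizer] at h1
      obtain ⟨T, hT⟩ := exists_isSyl p E
      have h3 : E ⊓ centralizer (K : Set G) = E := by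
        apply (h.spi E hE).eq_of_isSyl_le (h.core_eq hE) inf_le_left
          (le_normalizer_inf le_normalizer (le_normalizer_centralizer hEK)) hT
        intro x hx
        refine ⟨hT.le hx, mem_centralizer_of fun y hy => ?_⟩
        have hz1 : ⁅x, y⁆ ∈ E ⊓ K := by
          refine ⟨commutator_le_left_of_le hKE (commutator_mem_commutator (hT.le hx) hy),
            commutator_le_right_of_le hEK (commutator_mem_commutator (hT.le hx) hy)⟩
        have h4 : ⁅x, y⁆ = 1 := by
          apply commutator_eq_one (h.core_eq hE) hT.pgroup hx (hT.le hx) hz1.1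
          intro e he
          exact ((mem_centralizer_iff.mp (h1 hz1)) e he).symm
        rw [← commutatorElement_inv, h4, inv_one]
      rw [commutator_eq_bot_iff_le_centralizer]
      exact inf_eq_left.mp h3
    · left
      have h3 := (h.spi K hK).2 (E ⊓ K) inf_le_right (le_normalizer_inf hKE le_normalizer) h2
      exact (hcard K E hK hE (by rw [← pRes_pRes]; exact pRes_mono (h3.trans inf_le_left))).symm
  · left
    have h3 := (h.spi E hE).2 (E ⊓ K) inf_le_left (le_normalizer_inf le_normalizer hEK) h1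
    exact hcard E K hE hK (by rw [← pRes_pRes]; exact pRes_mono (h3.trans inf_le_right))

theorem SFam.irreducible (h : SFam p 𝒦) : IsPIrreducible p G := by
  have hR := h.fam.normal
  set R := sSup 𝒦 with hRdef
  obtain ⟨E₀, hE₀⟩ := h.ne
  refine ⟨fun hc => (h.spi E₀ hE₀).1 (isPClosed_mono (isPClosed_top_iff.mpr hc) le_top), ?_⟩
  intro N hN hNc
  have hNn : ∀ A : Subgroup G, A ≤ normalizer (N : Set G) := fun A => by rw [normalizer_eq_top]; exact le_top
  have hRn : ∀ A : Subgroup G, A ≤ normalizer (R : Set G) := fun A => by rw [normalizer_eq_top]; exact le_top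
  rw [pResidual_eq]
  by_cases hA : ∃ E ∈ 𝒦, ¬ ⁅N ⊓ E, E⁆ ≤ pCoreOf p E
  · obtain ⟨E, hE, hEc⟩ := hA
    have h1 := ((h.spi E hE).2 (N ⊓ E) inf_le_right (le_normalizer_inf (hNn E) le_normalizer) hEc).trans inf_le_left
    have h2 : ∀ K ∈ 𝒦, pRes p K ≤ N := by
      intro K hK
      obtain ⟨g, rfl⟩ := h.tr E hE K hK
      rw [← pRes_map_conj, ← map_conj_eq_of_mem (A := N) (k := g) (by rw [normalizer_eq_top]; trivial)]
      exact map_conj_mono g h1
    set π := QuotientGroup.mk' N with hπ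
    have h3 : IsPGroup p ↥(R.map π) := by
      have h4 : R.map π ≤ pCoreOf p (R.map π) := by
        rw [Subgroup.map_le_iff_le_comap]
        refine sSup_le fun K hK => ?_
        rw [← Subgroup.map_le_iff_le_comap]
        apply le_pCoreOf (Subgroup.map_mono (le_sSup hK))
        · exact (Subgroup.map_mono (h.norm K hK)).trans (le_normalizer_map π)
        · rw [isPGroup_iff_pRes_eq_bot, ← pRes_map, Subgroup.map_eq_bot_iff, QuotientGroup.ker_mk']
          exact h2 K hK
      exact (isPGroup_pCoreOf p _).to_le h4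
    rw [isPGroup_iff_pRes_eq_bot, ← pRes_map, Subgroup.map_eq_bot_iff, QuotientGroup.ker_mk'] at h3
    rw [← pRes_pRes]
    exact (pRes_mono h.res).trans h3
  · push Not at hA
    exfalso
    apply hNc
    set N₀ := N ⊓ R with hN₀
    have hN₀n : N₀.Normal := inferInstance
    have hcE : ∀ E ∈ 𝒦, ∀ n ∈ N ⊓ E, ∀ e ∈ E, n * e = e * n := by
      intro E hE n hn e he
      have h1 := hA E hE
      rw [h.core_eq hE, le_bot_iff, commutator_eq_bot_iff_le_centralizer] at h1
      exact ((mem_centralizer_iff.mp (h1 hn)) e he).symm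
    obtain ⟨T⟩ : Nonempty (Sylow p G) := inferInstance
    have hTE : ∀ E ∈ 𝒦, IsSyl p ((T : Subgroup G) ⊓ E) E := fun E hE => (h.fam.isSyl T hE).1
    -- `R` centralizes `N₀`
    have h1 : R ≤ centralizer (N₀ : Set G) := by
      refine sSup_le fun E hE => ?_
      have hEN₀ : E ≤ normalizer (N₀ : Set G) := by rw [normalizer_eq_top]; exact le_top
      have h3 : E ⊓ centralizer (N₀ : Set G) = E := by
        apply (h.spi E hE).eq_of_isSyl_le (h.core_eq hE) inf_le_left
          (le_normalizer_inf le_normalizer (le_normalizer_centralizer hEN₀)) (hTE E hE)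
        intro x hx
        refine ⟨hx.2, mem_centralizer_of fun y hy => ?_⟩
        have hz1 : ⁅x, y⁆ ∈ N ⊓ E := by
          refine ⟨commutator_le_right_of_le (hNn E) (commutator_mem_commutator hx.2 hy.1),
            commutator_le_left_of_le (h.norm E hE) (commutator_mem_commutator hx.2 hy.2)⟩
        have h4 : ⁅x, y⁆ = 1 :=
          commutator_eq_one (h.core_eq hE) (hTE E hE).pgroup hx hx.2 hz1.2 (hcE E hE _ hz1)
        rw [← commutatorElement_inv, h4, inv_one]
      exact inf_eq_left.mp h3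
    have hcomm : ∀ r ∈ R, ∀ n ∈ N₀, n * r = r * n := fun r hr n hn => mem_centralizer_iff.mp (h1 hr) n hn
    -- `p`-elements of `N₀` are trivial
    have h2 : (T : Subgroup G) ⊓ N₀ = ⊥ := by
      rw [eq_bot_iff]
      rw [← h.core]
      refine le_trans ?_ (show pCoreOf p N₀ ≤ pCore p G from ?_)
      · apply le_pCoreOf inf_le_right _ (T.2.to_le inf_le_left)
        refine (inf_le_right.trans h1).trans ?_
        exact (centralizer_le inf_le_right).trans (centralizer_le_normalizer _)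
      · rw [← pCoreOf_top]
        exact (Subn.of_normal le_top (by rw [normalizer_eq_top])).pCoreOf_le
    have hTN : IsSyl p ((T : Subgroup G) ⊓ N) N := (isSyl_top T).inf_normal le_top (by rw [normalizer_eq_top])
    -- `R` centralizes `T ∩ N`
    have h5 : R ≤ centralizer (((T : Subgroup G) ⊓ N : Subgroup G) : Set G) := by
      refine sSup_le fun E hE => ?_
      have h3 : E ⊓ centralizer (((T : Subgroup G) ⊓ N : Subgroup G) : Set G) = E := by
        refine (h.spi E hE).eq_of_isSyl_le (h.core_eq hE) inf_le_left ?_ (hTE E hE) ?_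
        · rw [le_normalizer_iff]
          intro e he c hc
          refine ⟨E.mul_mem (E.mul_mem he hc.1) (E.inv_mem he), mem_centralizer_iff.mpr fun t ht => ?_⟩
          have heR : e ∈ R := (le_sSup hE) he
          have hcR : c ∈ R := (le_sSup hE) hc.1
          have htc : t * c = c * t := mem_centralizer_iff.mp hc.2 t ht
          have hn : ⁅t, e⁆ ∈ N₀ := ⟨commutator_le_left_of_le (hNn R) (commutator_mem_commutator ht.2 heR),
            commutator_le_right_of_le (hRn N) (commutator_mem_commutator ht.2 heR)⟩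
          have h7 := hcomm (e * c * e⁻¹) (mul_mem (mul_mem heR hcR) (inv_mem heR)) _ hn
          have h8 : t * (e * c * e⁻¹) = ⁅t, e⁆ * (e * c * e⁻¹) * ⁅t, e⁆⁻¹ * t := by
            have e1 : t * e = ⁅t, e⁆ * e * t := by rw [commutatorElement_def]; group
            calc t * (e * c * e⁻¹) = (t * e) * c * e⁻¹ := by group
              _ = ⁅t, e⁆ * e * (t * c) * e⁻¹ := by rw [e1]; group
              _ = ⁅t, e⁆ * e * c * (t * e⁻¹) := by rw [htc]; group
              _ = _ := by
                have e2 : t * e⁻¹ = e⁻¹ * ⁅t, e⁆⁻¹ * t := by rw [commutatorElement_def]; group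
                rw [e2]; group
          rw [h8, h7, mul_inv_cancel_right]
        · intro x hx
          refine ⟨hx.2, mem_centralizer_of fun t ht => ?_⟩
          have hxR : x ∈ R := (le_sSup hE) hx.2
          have h6 : ⁅t, x⁆ ∈ (T : Subgroup G) ⊓ N₀ := by
            refine ⟨?_, ?_, ?_⟩
            · rw [commutatorElement_def]
              have h7 := (T : Subgroup G).mul_mem (mul_mem ht.1 hx.1) ((T : Subgroup G).inv_mem ht.1)
              exact (T : Subgroup G).mul_mem h7 ((T : Subgroup G).inv_mem hx.1)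
            · exact commutator_le_left_of_le (hNn R) (commutator_mem_commutator ht.2 hxR)
            · exact commutator_le_right_of_le (hRn N) (commutator_mem_commutator ht.2 hxR)
          rw [h2, mem_bot] at h6
          exact h6
      exact inf_eq_left.mp h3
    apply isPClosed_of_isSyl_normal hTN
    rw [← hTN.sup_pRes]
    refine sup_le ?_ ?_
    · rw [hTN.sup_pRes]; exact le_normalizer
    · rw [hTN.sup_pRes]
      exact (((pRes_mono le_top).trans h.res).trans h5).trans (centralizer_le_normalizer _)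

end Cfsg.Agent.Lib.H10Family
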