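import Cfsg.Agent.Lib.H10JanW1
import Cfsg.Agent.Lib.H10JanW2
import Cfsg.Agent.Lib.H10JanW3
import Cfsg.Agent.Lib.H10JanW4

set_option autoImplicit false
set_option linter.style.longLine false

/-! Coset enumerations for Janko's group `J₁` (relations of the amalgam `2 × A₅`, `2³:7:3` plus one commutator). -/

namespace Cfsg.Agent.Lib.H10Jan

open Cfsg.Agent.Lib.H10Enum

/-- the amalgam relations -/
structure Base {G : Type*} [Group G] (t x u z : G) : Prop where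
  tt : t * t = 1
  xxx : x * x * x = 1
  uu : u * u = 1
  z7 : z ^ 7 = 1
  xt : x * t = t * x
  ut : u * t = t * u
  xz : x⁻¹ * z * x = z * z
  tzt : t * (z⁻¹ * t * z) * ((z ^ 3)⁻¹ * t * z ^ 3) = 1
  tc : t * (z⁻¹ * t * z) = (z⁻¹ * t * z) * t
  ux : u * x * (u * x) = 1
  tu : (z⁻¹ * t * z) * u * ((z⁻¹ * t * z) * u) * ((z⁻¹ * t * z) * u) = 1

/-- the letters -/
def lett {G : Type*} [Group G] (t x u z w : G) : ℕ → G
  | 0 => 1
  | 1 => t
  | 2 => z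
  | 3 => x
  | 4 => u
  | 5 => z⁻¹ * t * z
  | 6 => z⁻¹ * (z⁻¹ * t * z) * z
  | 7 => (z * z)⁻¹ * (z⁻¹ * (z⁻¹ * t * z) * z) * (z * z)
  | 8 => z * x⁻¹ * z⁻¹
  | 9 => z * t * z⁻¹
  | 10 => u * (z⁻¹ * t * z) * x⁻¹ * (z⁻¹ * t * z) * u
  | 11 => (z⁻¹ * t * z) * u * x
  | 12 => w
  | _ + 13 => 1

variable {G : Type*} [Group G] {t x u z w : G}

namespace Base

theorem conj_sq (h : Base t x u z) (g : G) : (g⁻¹ * t * g) * (g⁻¹ * t * g) = 1 := by
  have : (g⁻¹ * t * g) * (g⁻¹ * t * g) = g⁻¹ * (t * t) * g := by group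
  rw [this, h.tt]; group

theorem r4 (h : Base t x u z) : x⁻¹ * t * x * t⁻¹ = 1 := by
  have : x⁻¹ * t * x * t⁻¹ = x⁻¹ * (t * x) * t⁻¹ := by group
  rw [this, ← h.xt]; group

theorem r5 (h : Base t x u z) : u * t * u * t = 1 := by
  have : u * t * u * t = u * t * (u * t) := by group
  rw [this]
  nth_rewrite 2 [h.ut]
  have : u * t * (t * u) = u * (t * t) * u := by group
  rw [this, h.tt, mul_one, h.uu]

theorem r6 (h : Base t x u z) : x⁻¹ * z * x * z⁻¹ * z⁻¹ = 1 := by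
  rw [h.xz]; group

theorem r7 (h : Base t x u z) : t * z⁻¹ * t * z⁻¹ * z⁻¹ * t * z * z * z = 1 := by
  have : t * z⁻¹ * t * z⁻¹ * z⁻¹ * t * z * z * z = t * (z⁻¹ * t * z) * ((z ^ 3)⁻¹ * t * z ^ 3) := by
    simp only [pow_succ, pow_zero, one_mul, mul_inv_rev]; group
  rw [this, h.tzt]

theorem tinv (h : Base t x u z) : t⁻¹ = t := inv_eq_of_mul_eq_one_left h.tt

theorem r8 (h : Base t x u z) : t⁻¹ * z⁻¹ * t⁻¹ * z * t * z⁻¹ * t * z = 1 := by
  have h1 : t⁻¹ * z⁻¹ * t⁻¹ * z * t * z⁻¹ * t * z = (z⁻¹ * t * z * t)⁻¹ * (t * (z⁻¹ * t * z)) := by group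
  rw [h1, h.tc]; group

theorem r9 (h : Base t x u z) : u * x * u * x = 1 := by
  have : u * x * u * x = u * x * (u * x) := by group
  rw [this, h.ux]

theorem r10 (h : Base t x u z) : z⁻¹ * t * z * u * z⁻¹ * t * z * u * z⁻¹ * t * z * u = 1 := by
  refine Eq.trans ?_ h.tu
  group

end Base

theorem sqc0 (h : Base t x u z) : (z⁻¹ * t * z) * ((z⁻¹ * t * z) * 1) = 1 := by
  rw [mul_one, h.conj_sq]

theorem sqc1 (h : Base t x u z) : (z⁻¹ * (z⁻¹ * t * z) * z) * ((z⁻¹ * (z⁻¹ * t * z) * z) * 1) = 1 := by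
  have h1 := h.conj_sq (z * z)
  refine Eq.trans ?_ h1
  group

theorem sqc2 (h : Base t x u z) : ((z * z)⁻¹ * (z⁻¹ * (z⁻¹ * t * z) * z) * (z * z)) *
    (((z * z)⁻¹ * (z⁻¹ * (z⁻¹ * t * z) * z) * (z * z)) * 1) = 1 := by
  have h1 := h.conj_sq (z * z * z * z)
  refine Eq.trans ?_ h1
  group

theorem sqc3 (h : Base t x u z) : (z * t * z⁻¹) * ((z * t * z⁻¹) * 1) = 1 := by
  have h1 := h.conj_sq z⁻¹
  refine Eq.trans ?_ h1
  group

theorem commc (hc : w * x = x * w) : w⁻¹ * (x⁻¹ * (w * (x * 1))) = 1 := by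
  rw [mul_one, hc]; group

theorem wtriv (x : ℕ → G) (a : ℕ) : wval x [2 * a, 2 * a + 1] = 1 := by
  rw [wval_cons, wval_cons, wval_nil, mul_one, val_even, val_odd, mul_inv_cancel]

theorem invol (h : Base t x u z) (c : ℕ) (hc : (754 : ℕ).testBit c = true) :
    (lett t x u z w c)⁻¹ = lett t x u z w c := by
  have hlt : c < 10 := by
    by_contra hge
    push Not at hge
    have : (754 : ℕ) < 2 ^ c := lt_of_lt_of_le (by norm_num) (Nat.pow_le_pow_right (by norm_num) hge)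
    rw [Nat.testBit_lt_two_pow this] at hc
    exact absurd hc (by simp)
  interval_cases c
  · exact absurd hc (by decide)
  · exact h.tinv
  · exact absurd hc (by decide)
  · exact absurd hc (by decide)
  · exact inv_eq_of_mul_eq_one_left h.uu
  · have := sqc0 h; rw [mul_one] at this; exact inv_eq_of_mul_eq_one_left this
  · have := sqc1 h; rw [mul_one] at this; exact inv_eq_of_mul_eq_one_left this
  · have := sqc2 h; rw [mul_one] at this; exact inv_eq_of_mul_eq_one_left this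
  · exact absurd hc (by decide)
  · have := sqc3 h; rw [mul_one] at this; exact inv_eq_of_mul_eq_one_left this

/-- the element `w1` -/
def w1 {G : Type*} [Group G] (t x u z : G) : G := z⁻¹ * t * z * u * z⁻¹ * x⁻¹ * z⁻¹ * t * z * u * z * u * z⁻¹ * t * z

theorem rels1 (h : Base t x u z) (hw : w = w1 t x u z) (hc : w * x = x * w) :
    ∀ W ∈ H10JanW1.R, wval (lett t x u z w) W = 1 := by
  intro W hW
  simp only [H10JanW1.R, List.mem_cons, List.not_mem_nil, or_false] at hW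
  rcases hW with rfl | rfl | rfl | rfl | rfl | rfl | rfl | rfl | rfl | rfl | rfl | rfl | rfl | rfl | rfl | rfl | rfl | rfl | rfl | rfl | rfl | rfl | rfl | rfl | rfl | rfl | rfl | rfl | rfl | rfl | rfl | rfl | rfl | rfl | rfl | rfl
  · show t * (t * 1) = 1
    refine Eq.trans (b := t * t) (by group) h.tt
  · show x * (x * (x * 1)) = 1
    refine Eq.trans (b := x * x * x) (by group) h.xxx
  · show u * (u * 1) = 1
    refine Eq.trans (b := u * u) (by group) h.uu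
  · show z * (z * (z * (z * (z * (z * (z * 1)))))) = 1
    simpa [pow_succ, mul_assoc] using h.z7
  · show x⁻¹ * (t * (x * (t⁻¹ * 1))) = 1
    refine Eq.trans (b := x⁻¹ * t * x * t⁻¹) (by group) h.r4
  · show u * (t * (u * (t * 1))) = 1
    refine Eq.trans (b := u * t * u * t) (by group) h.r5
  · show x⁻¹ * (z * (x * (z⁻¹ * (z⁻¹ * 1)))) = 1
    refine Eq.trans (b := x⁻¹ * z * x * z⁻¹ * z⁻¹) (by group) h.r6
  · show t * (z⁻¹ * (t * (z⁻¹ * (z⁻¹ * (t * (z * (z * (z * 1)))))))) = 1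
    refine Eq.trans (b := t * z⁻¹ * t * z⁻¹ * z⁻¹ * t * z * z * z) (by group) h.r7
  · show t⁻¹ * (z⁻¹ * (t⁻¹ * (z * (t * (z⁻¹ * (t * (z * 1))))))) = 1
    refine Eq.trans (b := t⁻¹ * z⁻¹ * t⁻¹ * z * t * z⁻¹ * t * z) (by group) h.r8
  · show u * (x * (u * (x * 1))) = 1
    refine Eq.trans (b := u * x * u * x) (by group) h.r9
  · show z⁻¹ * (t * (z * (u * (z⁻¹ * (t * (z * (u * (z⁻¹ * (t * (z * (u * 1))))))))))) = 1
    refine Eq.trans (b := z⁻¹ * t * z * u * z⁻¹ * t * z * u * z⁻¹ * t * z * u) (by group) h.r10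
  · show (z⁻¹ * t * z)⁻¹ * (z⁻¹ * (t * (z * 1))) = 1
    group
  · show (z⁻¹ * (z⁻¹ * t * z) * z)⁻¹ * (z⁻¹ * ((z⁻¹ * t * z) * (z * 1))) = 1
    group
  · show ((z * z)⁻¹ * (z⁻¹ * (z⁻¹ * t * z) * z) * (z * z))⁻¹ * (z⁻¹ * (z⁻¹ * ((z⁻¹ * (z⁻¹ * t * z) * z) * (z * (z * 1))))) = 1
    group
  · show (z * x⁻¹ * z⁻¹)⁻¹ * (z * (x⁻¹ * (z⁻¹ * 1))) = 1
    group
  · show (z * t * z⁻¹)⁻¹ * (z * (t * (z⁻¹ * 1))) = 1
    group
  · show (u * (z⁻¹ * t * z) * x⁻¹ * (z⁻¹ * t * z) * u)⁻¹ * (u * ((z⁻¹ * t * z) * (x⁻¹ * ((z⁻¹ * t * z) * (u * 1))))) = 1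
    group
  · show ((z⁻¹ * t * z) * u * x)⁻¹ * ((z⁻¹ * t * z) * (u * (x * 1))) = 1
    group
  · show (z⁻¹ * t * z) * ((z⁻¹ * t * z) * 1) = 1
    exact sqc0 h
  · show (z⁻¹ * (z⁻¹ * t * z) * z) * ((z⁻¹ * (z⁻¹ * t * z) * z) * 1) = 1
    exact sqc1 h
  · show ((z * z)⁻¹ * (z⁻¹ * (z⁻¹ * t * z) * z) * (z * z)) * (((z * z)⁻¹ * (z⁻¹ * (z⁻¹ * t * z) * z) * (z * z)) * 1) = 1
    exact sqc2 h
  · show (z * t * z⁻¹) * ((z * t * z⁻¹) * 1) = 1
    exact sqc3 h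
  · show w⁻¹ * (z⁻¹ * (t * (z * (u * (z⁻¹ * (x⁻¹ * (z⁻¹ * (t * (z * (u * (z * (u * (z⁻¹ * (t * (z * 1))))))))))))))) = 1
    rw [hw, w1]; group
  · show w⁻¹ * (x⁻¹ * (w * (x * 1))) = 1
    exact commc hc
  · exact wtriv (lett t x u z w) 1
  · exact wtriv (lett t x u z w) 2
  · exact wtriv (lett t x u z w) 3
  · exact wtriv (lett t x u z w) 4
  · exact wtriv (lett t x u z w) 5
  · exact wtriv (lett t x u z w) 6
  · exact wtriv (lett t x u z w) 7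
  · exact wtriv (lett t x u z w) 8
  · exact wtriv (lett t x u z w) 9
  · exact wtriv (lett t x u z w) 10
  · exact wtriv (lett t x u z w) 11
  · exact wtriv (lett t x u z w) 12

/-- the element `w3` -/
def w3 {G : Type*} [Group G] (t x u z : G) : G := z⁻¹ * t * z * u * z⁻¹ * z⁻¹ * z⁻¹ * x * z⁻¹ * t * z * u * z * z * z * u * z⁻¹ * t * z

theorem rels3 (h : Base t x u z) (hw : w = w3 t x u z) (hc : w * x = x * w) :
    ∀ W ∈ H10JanW3.R, wval (lett t x u z w) W = 1 := by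
  intro W hW
  simp only [H10JanW3.R, List.mem_cons, List.not_mem_nil, or_false] at hW
  rcases hW with rfl | rfl | rfl | rfl | rfl | rfl | rfl | rfl | rfl | rfl | rfl | rfl | rfl | rfl | rfl | rfl | rfl | rfl | rfl | rfl | rfl | rfl | rfl | rfl | rfl | rfl | rfl | rfl | rfl | rfl | rfl | rfl | rfl | rfl | rfl | rfl
  · show t * (t * 1) = 1
    refine Eq.trans (b := t * t) (by group) h.tt
  · show x * (x * (x * 1)) = 1
    refine Eq.trans (b := x * x * x) (by group) h.xxx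
  · show u * (u * 1) = 1
    refine Eq.trans (b := u * u) (by group) h.uu
  · show z * (z * (z * (z * (z * (z * (z * 1)))))) = 1
    simpa [pow_succ, mul_assoc] using h.z7
  · show x⁻¹ * (t * (x * (t⁻¹ * 1))) = 1
    refine Eq.trans (b := x⁻¹ * t * x * t⁻¹) (by group) h.r4
  · show u * (t * (u * (t * 1))) = 1
    refine Eq.trans (b := u * t * u * t) (by group) h.r5
  · show x⁻¹ * (z * (x * (z⁻¹ * (z⁻¹ * 1)))) = 1
    refine Eq.trans (b := x⁻¹ * z * x * z⁻¹ * z⁻¹) (by group) h.r6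
  · show t * (z⁻¹ * (t * (z⁻¹ * (z⁻¹ * (t * (z * (z * (z * 1)))))))) = 1
    refine Eq.trans (b := t * z⁻¹ * t * z⁻¹ * z⁻¹ * t * z * z * z) (by group) h.r7
  · show t⁻¹ * (z⁻¹ * (t⁻¹ * (z * (t * (z⁻¹ * (t * (z * 1))))))) = 1
    refine Eq.trans (b := t⁻¹ * z⁻¹ * t⁻¹ * z * t * z⁻¹ * t * z) (by group) h.r8
  · show u * (x * (u * (x * 1))) = 1
    refine Eq.trans (b := u * x * u * x) (by group) h.r9
  · show z⁻¹ * (t * (z * (u * (z⁻¹ * (t * (z * (u * (z⁻¹ * (t * (z * (u * 1))))))))))) = 1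
    refine Eq.trans (b := z⁻¹ * t * z * u * z⁻¹ * t * z * u * z⁻¹ * t * z * u) (by group) h.r10
  · show (z⁻¹ * t * z)⁻¹ * (z⁻¹ * (t * (z * 1))) = 1
    group
  · show (z⁻¹ * (z⁻¹ * t * z) * z)⁻¹ * (z⁻¹ * ((z⁻¹ * t * z) * (z * 1))) = 1
    group
  · show ((z * z)⁻¹ * (z⁻¹ * (z⁻¹ * t * z) * z) * (z * z))⁻¹ * (z⁻¹ * (z⁻¹ * ((z⁻¹ * (z⁻¹ * t * z) * z) * (z * (z * 1))))) = 1
    group
  · show (z * x⁻¹ * z⁻¹)⁻¹ * (z * (x⁻¹ * (z⁻¹ * 1))) = 1
    group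
  · show (z * t * z⁻¹)⁻¹ * (z * (t * (z⁻¹ * 1))) = 1
    group
  · show (u * (z⁻¹ * t * z) * x⁻¹ * (z⁻¹ * t * z) * u)⁻¹ * (u * ((z⁻¹ * t * z) * (x⁻¹ * ((z⁻¹ * t * z) * (u * 1))))) = 1
    group
  · show ((z⁻¹ * t * z) * u * x)⁻¹ * ((z⁻¹ * t * z) * (u * (x * 1))) = 1
    group
  · show (z⁻¹ * t * z) * ((z⁻¹ * t * z) * 1) = 1
    exact sqc0 h
  · show (z⁻¹ * (z⁻¹ * t * z) * z) * ((z⁻¹ * (z⁻¹ * t * z) * z) * 1) = 1
    exact sqc1 h
  · show ((z * z)⁻¹ * (z⁻¹ * (z⁻¹ * t * z) * z) * (z * z)) * (((z * z)⁻¹ * (z⁻¹ * (z⁻¹ * t * z) * z) * (z * z)) * 1) = 1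
    exact sqc2 h
  · show (z * t * z⁻¹) * ((z * t * z⁻¹) * 1) = 1
    exact sqc3 h
  · show w⁻¹ * (z⁻¹ * (t * (z * (u * (z⁻¹ * (z⁻¹ * (z⁻¹ * (x * (z⁻¹ * (t * (z * (u * (z * (z * (z * (u * (z⁻¹ * (t * (z * 1))))))))))))))))))) = 1
    rw [hw, w3]; group
  · show w⁻¹ * (x⁻¹ * (w * (x * 1))) = 1
    exact commc hc
  · exact wtriv (lett t x u z w) 1
  · exact wtriv (lett t x u z w) 2
  · exact wtriv (lett t x u z w) 3
  · exact wtriv (lett t x u z w) 4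
  · exact wtriv (lett t x u z w) 5
  · exact wtriv (lett t x u z w) 6
  · exact wtriv (lett t x u z w) 7
  · exact wtriv (lett t x u z w) 8
  · exact wtriv (lett t x u z w) 9
  · exact wtriv (lett t x u z w) 10
  · exact wtriv (lett t x u z w) 11
  · exact wtriv (lett t x u z w) 12

/-- the element `w4` -/
def w4 {G : Type*} [Group G] (t x u z : G) : G := z⁻¹ * t * z * u * z⁻¹ * z⁻¹ * z⁻¹ * x * z⁻¹ * t * z * x⁻¹ * u * z * z * z * u * z⁻¹ * t * z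

theorem rels4 (h : Base t x u z) (hw : w = w4 t x u z) (hc : w * x = x * w) :
    ∀ W ∈ H10JanW4.R, wval (lett t x u z w) W = 1 := by
  intro W hW
  simp only [H10JanW4.R, List.mem_cons, List.not_mem_nil, or_false] at hW
  rcases hW with rfl | rfl | rfl | rfl | rfl | rfl | rfl | rfl | rfl | rfl | rfl | rfl | rfl | rfl | rfl | rfl | rfl | rfl | rfl | rfl | rfl | rfl | rfl | rfl | rfl | rfl | rfl | rfl | rfl | rfl | rfl | rfl | rfl | rfl | rfl | rfl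
  · show t * (t * 1) = 1
    refine Eq.trans (b := t * t) (by group) h.tt
  · show x * (x * (x * 1)) = 1
    refine Eq.trans (b := x * x * x) (by group) h.xxx
  · show u * (u * 1) = 1
    refine Eq.trans (b := u * u) (by group) h.uu
  · show z * (z * (z * (z * (z * (z * (z * 1)))))) = 1
    simpa [pow_succ, mul_assoc] using h.z7
  · show x⁻¹ * (t * (x * (t⁻¹ * 1))) = 1
    refine Eq.trans (b := x⁻¹ * t * x * t⁻¹) (by group) h.r4
  · show u * (t * (u * (t * 1))) = 1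
    refine Eq.trans (b := u * t * u * t) (by group) h.r5
  · show x⁻¹ * (z * (x * (z⁻¹ * (z⁻¹ * 1)))) = 1
    refine Eq.trans (b := x⁻¹ * z * x * z⁻¹ * z⁻¹) (by group) h.r6
  · show t * (z⁻¹ * (t * (z⁻¹ * (z⁻¹ * (t * (z * (z * (z * 1)))))))) = 1
    refine Eq.trans (b := t * z⁻¹ * t * z⁻¹ * z⁻¹ * t * z * z * z) (by group) h.r7
  · show t⁻¹ * (z⁻¹ * (t⁻¹ * (z * (t * (z⁻¹ * (t * (z * 1))))))) = 1
    refine Eq.trans (b := t⁻¹ * z⁻¹ * t⁻¹ * z * t * z⁻¹ * t * z) (by group) h.r8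
  · show u * (x * (u * (x * 1))) = 1
    refine Eq.trans (b := u * x * u * x) (by group) h.r9
  · show z⁻¹ * (t * (z * (u * (z⁻¹ * (t * (z * (u * (z⁻¹ * (t * (z * (u * 1))))))))))) = 1
    refine Eq.trans (b := z⁻¹ * t * z * u * z⁻¹ * t * z * u * z⁻¹ * t * z * u) (by group) h.r10
  · show (z⁻¹ * t * z)⁻¹ * (z⁻¹ * (t * (z * 1))) = 1
    group
  · show (z⁻¹ * (z⁻¹ * t * z) * z)⁻¹ * (z⁻¹ * ((z⁻¹ * t * z) * (z * 1))) = 1
    group
  · show ((z * z)⁻¹ * (z⁻¹ * (z⁻¹ * t * z) * z) * (z * z))⁻¹ * (z⁻¹ * (z⁻¹ * ((z⁻¹ * (z⁻¹ * t * z) * z) * (z * (z * 1))))) = 1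
    group
  · show (z * x⁻¹ * z⁻¹)⁻¹ * (z * (x⁻¹ * (z⁻¹ * 1))) = 1
    group
  · show (z * t * z⁻¹)⁻¹ * (z * (t * (z⁻¹ * 1))) = 1
    group
  · show (u * (z⁻¹ * t * z) * x⁻¹ * (z⁻¹ * t * z) * u)⁻¹ * (u * ((z⁻¹ * t * z) * (x⁻¹ * ((z⁻¹ * t * z) * (u * 1))))) = 1
    group
  · show ((z⁻¹ * t * z) * u * x)⁻¹ * ((z⁻¹ * t * z) * (u * (x * 1))) = 1
    group
  · show (z⁻¹ * t * z) * ((z⁻¹ * t * z) * 1) = 1
    exact sqc0 h
  · show (z⁻¹ * (z⁻¹ * t * z) * z) * ((z⁻¹ * (z⁻¹ * t * z) * z) * 1) = 1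
    exact sqc1 h
  · show ((z * z)⁻¹ * (z⁻¹ * (z⁻¹ * t * z) * z) * (z * z)) * (((z * z)⁻¹ * (z⁻¹ * (z⁻¹ * t * z) * z) * (z * z)) * 1) = 1
    exact sqc2 h
  · show (z * t * z⁻¹) * ((z * t * z⁻¹) * 1) = 1
    exact sqc3 h
  · show w⁻¹ * (z⁻¹ * (t * (z * (u * (z⁻¹ * (z⁻¹ * (z⁻¹ * (x * (z⁻¹ * (t * (z * (x⁻¹ * (u * (z * (z * (z * (u * (z⁻¹ * (t * (z * 1)))))))))))))))))))) = 1
    rw [hw, w4]; group
  · show w⁻¹ * (x⁻¹ * (w * (x * 1))) = 1
    exact commc hc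
  · exact wtriv (lett t x u z w) 1
  · exact wtriv (lett t x u z w) 2
  · exact wtriv (lett t x u z w) 3
  · exact wtriv (lett t x u z w) 4
  · exact wtriv (lett t x u z w) 5
  · exact wtriv (lett t x u z w) 6
  · exact wtriv (lett t x u z w) 7
  · exact wtriv (lett t x u z w) 8
  · exact wtriv (lett t x u z w) 9
  · exact wtriv (lett t x u z w) 10
  · exact wtriv (lett t x u z w) 11
  · exact wtriv (lett t x u z w) 12

/-- the element `w2` -/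
def w2 {G : Type*} [Group G] (t x u z : G) : G := z⁻¹ * t * z * u * z⁻¹ * x * u * z⁻¹ * t * z * x * z * u * z⁻¹ * t * z

theorem rels2 (h : Base t x u z) (hw : w = w2 t x u z) (hc : w * x = x * w) :
    ∀ W ∈ H10JanW2.R, wval (lett t x u z w) W = 1 := by
  intro W hW
  simp only [H10JanW2.R, List.mem_cons, List.not_mem_nil, or_false] at hW
  rcases hW with rfl | rfl | rfl | rfl | rfl | rfl | rfl | rfl | rfl | rfl | rfl | rfl | rfl | rfl | rfl | rfl | rfl | rfl | rfl | rfl | rfl | rfl | rfl | rfl | rfl | rfl | rfl | rfl | rfl | rfl | rfl | rfl | rfl | rfl | rfl | rfl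
  · show t * (t * 1) = 1
    refine Eq.trans (b := t * t) (by group) h.tt
  · show x * (x * (x * 1)) = 1
    refine Eq.trans (b := x * x * x) (by group) h.xxx
  · show u * (u * 1) = 1
    refine Eq.trans (b := u * u) (by group) h.uu
  · show z * (z * (z * (z * (z * (z * (z * 1)))))) = 1
    simpa [pow_succ, mul_assoc] using h.z7
  · show x⁻¹ * (t * (x * (t⁻¹ * 1))) = 1
    refine Eq.trans (b := x⁻¹ * t * x * t⁻¹) (by group) h.r4
  · show u * (t * (u * (t * 1))) = 1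
    refine Eq.trans (b := u * t * u * t) (by group) h.r5
  · show x⁻¹ * (z * (x * (z⁻¹ * (z⁻¹ * 1)))) = 1
    refine Eq.trans (b := x⁻¹ * z * x * z⁻¹ * z⁻¹) (by group) h.r6
  · show t * (z⁻¹ * (t * (z⁻¹ * (z⁻¹ * (t * (z * (z * (z * 1)))))))) = 1
    refine Eq.trans (b := t * z⁻¹ * t * z⁻¹ * z⁻¹ * t * z * z * z) (by group) h.r7
  · show t⁻¹ * (z⁻¹ * (t⁻¹ * (z * (t * (z⁻¹ * (t * (z * 1))))))) = 1
    refine Eq.trans (b := t⁻¹ * z⁻¹ * t⁻¹ * z * t * z⁻¹ * t * z) (by group) h.r8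
  · show u * (x * (u * (x * 1))) = 1
    refine Eq.trans (b := u * x * u * x) (by group) h.r9
  · show z⁻¹ * (t * (z * (u * (z⁻¹ * (t * (z * (u * (z⁻¹ * (t * (z * (u * 1))))))))))) = 1
    refine Eq.trans (b := z⁻¹ * t * z * u * z⁻¹ * t * z * u * z⁻¹ * t * z * u) (by group) h.r10
  · show (z⁻¹ * t * z)⁻¹ * (z⁻¹ * (t * (z * 1))) = 1
    group
  · show (z⁻¹ * (z⁻¹ * t * z) * z)⁻¹ * (z⁻¹ * ((z⁻¹ * t * z) * (z * 1))) = 1
    group
  · show ((z * z)⁻¹ * (z⁻¹ * (z⁻¹ * t * z) * z) * (z * z))⁻¹ * (z⁻¹ * (z⁻¹ * ((z⁻¹ * (z⁻¹ * t * z) * z) * (z * (z * 1))))) = 1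
    group
  · show (z * x⁻¹ * z⁻¹)⁻¹ * (z * (x⁻¹ * (z⁻¹ * 1))) = 1
    group
  · show (z * t * z⁻¹)⁻¹ * (z * (t * (z⁻¹ * 1))) = 1
    group
  · show (u * (z⁻¹ * t * z) * x⁻¹ * (z⁻¹ * t * z) * u)⁻¹ * (u * ((z⁻¹ * t * z) * (x⁻¹ * ((z⁻¹ * t * z) * (u * 1))))) = 1
    group
  · show ((z⁻¹ * t * z) * u * x)⁻¹ * ((z⁻¹ * t * z) * (u * (x * 1))) = 1
    group
  · show (z⁻¹ * t * z) * ((z⁻¹ * t * z) * 1) = 1
    exact sqc0 h
  · show (z⁻¹ * (z⁻¹ * t * z) * z) * ((z⁻¹ * (z⁻¹ * t * z) * z) * 1) = 1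
    exact sqc1 h
  · show ((z * z)⁻¹ * (z⁻¹ * (z⁻¹ * t * z) * z) * (z * z)) * (((z * z)⁻¹ * (z⁻¹ * (z⁻¹ * t * z) * z) * (z * z)) * 1) = 1
    exact sqc2 h
  · show (z * t * z⁻¹) * ((z * t * z⁻¹) * 1) = 1
    exact sqc3 h
  · show w⁻¹ * (z⁻¹ * (t * (z * (u * (z⁻¹ * (x * (u * (z⁻¹ * (t * (z * (x * (z * (u * (z⁻¹ * (t * (z * 1)))))))))))))))) = 1
    rw [hw, w2]; group
  · show w⁻¹ * (x⁻¹ * (w * (x * 1))) = 1
    exact commc hc
  · exact wtriv (lett t x u z w) 1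
  · exact wtriv (lett t x u z w) 2
  · exact wtriv (lett t x u z w) 3
  · exact wtriv (lett t x u z w) 4
  · exact wtriv (lett t x u z w) 5
  · exact wtriv (lett t x u z w) 6
  · exact wtriv (lett t x u z w) 7
  · exact wtriv (lett t x u z w) 8
  · exact wtriv (lett t x u z w) 9
  · exact wtriv (lett t x u z w) 10
  · exact wtriv (lett t x u z w) 11
  · exact wtriv (lett t x u z w) 12


/-- the subgroup `2³:7:3` -/
def Hsub (t x z : G) : Subgroup G := Subgroup.closure {t, x, z}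

theorem sub_fix (c : ℕ) (hc : c ∈ [1, 2, 3]) : lett t x u z w c • ((1 : G) : G ⧸ Hsub t x z) = ((1 : G) : G ⧸ Hsub t x z) := by
  have h1 : lett t x u z w c ∈ Hsub t x z := by
    simp only [List.mem_cons, List.not_mem_nil, or_false] at hc
    rcases hc with rfl | rfl | rfl
    · exact Subgroup.subset_closure (by simp [lett])
    · exact Subgroup.subset_closure (by simp [lett])
    · exact Subgroup.subset_closure (by simp [lett])
  change ((lett t x u z w c * 1 : G) : G ⧸ Hsub t x z) = _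
  rw [mul_one]
  exact (QuotientGroup.eq.2 (by simpa using Subgroup.inv_mem _ h1))

theorem mem_of_fact {T k : ℕ} (hk : fct T k = 134217728)
    (hg : Good T (lett t x u z w) (pts T (lett t x u z w) ((1 : G) : G ⧸ Hsub t x z)) k) : u ∈ Hsub t x z := by
  unfold Good at hg
  rw [hk] at hg
  have h1 : fsrc 134217728 = 0 := by decide +kernel
  have h2 : fdst 134217728 = 0 := by decide +kernel
  have h3 : flet 134217728 = 2 * 4 := by decide +kernel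
  rw [h1, h2, h3, pts_zero, val_even] at hg
  change ((1 : G) : G ⧸ Hsub t x z) = ((u * 1 : G) : G ⧸ Hsub t x z) at hg
  rw [QuotientGroup.eq] at hg
  simpa using hg

theorem mem_of_comm1 (h : Base t x u z) (hc : w1 t x u z * x = x * w1 t x u z) : u ∈ Hsub t x z :=
  mem_of_fact H10JanW1.tgt4 (sound rfl (invol h) (rels1 h rfl hc) (sub_fix (w := w1 t x u z)) H10JanW1.ok _ (by norm_num))

theorem mem_of_comm3 (h : Base t x u z) (hc : w3 t x u z * x = x * w3 t x u z) : u ∈ Hsub t x z :=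
  mem_of_fact H10JanW3.tgt4 (sound rfl (invol h) (rels3 h rfl hc) (sub_fix (w := w3 t x u z)) H10JanW3.ok _ (by norm_num))

theorem mem_of_comm4 (h : Base t x u z) (hc : w4 t x u z * x = x * w4 t x u z) : u ∈ Hsub t x z :=
  mem_of_fact H10JanW4.tgt4 (sound rfl (invol h) (rels4 h rfl hc) (sub_fix (w := w4 t x u z)) H10JanW4.ok _ (by norm_num))

/-- the index of `2³:7:3` in a group satisfying the relations of `J₁` -/
theorem index_le (h : Base t x u z) (hc : w2 t x u z * x = x * w2 t x u z)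
    (htop : Subgroup.closure {t, x, u, z} = ⊤) :
    Finite (G ⧸ Hsub t x z) ∧ Nat.card (G ⧸ Hsub t x z) ≤ 1045 := by
  have hg := sound (T := H10JanW2.T) (p := ((1 : G) : G ⧸ Hsub t x z)) rfl (invol h) (rels2 h rfl hc)
    (sub_fix (w := w2 t x u z)) H10JanW2.ok
  apply card_le_of_closed (f := pts H10JanW2.T (lett t x u z (w2 t x u z)) ((1 : G) : G ⧸ Hsub t x z)) (by norm_num) _ htop
  intro a ha
  simp only [Set.mem_insert_iff, Set.mem_singleton_iff] at ha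
  rcases ha with rfl | rfl | rfl | rfl
  · exact chkC_sound (invol h) hg _ H10JanW2.cl1
  · exact chkC_sound (invol h) hg _ H10JanW2.cl3
  · exact chkC_sound (invol h) hg _ H10JanW2.cl4
  · exact chkC_sound (invol h) hg _ H10JanW2.cl2

end Cfsg.Agent.Lib.H10Jan
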