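import Cfsg.Agent.Lib.JOneBase

/-!
Simplicity of the Janko group `J₁`; its involutions form one class.
-/

set_option autoImplicit false

namespace Cfsg.Agent.Lib.JOne

open Cfsg Cfsg.Agent.Lib.PackMat Cfsg.Agent.Lib.PackLane
open Cfsg.Agent.Lib.Golay (allLt allLt_iff)

/-- inverse of a word from codes -/
theorem ev_inv {h h' : List Bool} (e : Nat.beq (mu (evc h) (evc h')) Ic = true) : (ev h)⁻¹ = ev h' := by
  apply inv_eq_of_mul_eq_one_right
  apply cd_inj
  rw [cd_mul, cd_ev, cd_ev, cd_one]
  exact Nat.eq_of_beq_eq_true e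

/-- powers of `z` moving the involutions of `E8` to the first one -/
def kz (v : ℕ) : ℕ :=
  match v with
  | 1 => 0
  | 2 => 6
  | 3 => 4
  | 4 => 5
  | 5 => 1
  | 6 => 3
  | _ => 2

theorem kz_ok : allLt 8 (fun v => cond (Nat.beq v 0) true
    (Nat.beq (mu (pc (evc wz) (kz v)) (evc (we v))) (mu (evc (we 1)) (pc (evc wz) (kz v))))) = true := by
  decide +kernel

theorem conj_we {v : ℕ} (hv : v < 8) (h0 : v ≠ 0) : ev wz ^ (kz v) * ev (we v) * (ev wz ^ (kz v))⁻¹ = ev (we 1) := by
  rw [mul_inv_eq_iff_eq_mul]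
  apply cd_inj
  rw [cd_mul, cd_mul, cd_pow, cd_ev, cd_ev, cd_ev]
  have h := (allLt_iff.1 kz_ok) v hv
  have h1 : Nat.beq v 0 = false := by
    cases h2 : Nat.beq v 0 with
    | true => exact absurd (Nat.eq_of_beq_eq_true h2) h0
    | false => rfl
  rw [h1] at h
  exact Nat.eq_of_beq_eq_true h

theorem fact_card (p : ℕ) (m : ℕ) (hm : Nat.card W = p * m) (hp : p.Prime) (hpm : ¬ p ∣ m) :
    (Nat.card W).factorization p = 1 := by
  rw [hm, Nat.factorization_mul hp.ne_zero (by rintro rfl; exact hpm (dvd_zero p))]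
  rw [Finsupp.add_apply, hp.factorization_self, Nat.factorization_eq_zero_of_not_dvd hpm]

/-- a normal subgroup of order divisible by `p` contains all elements of order `p`, if `p` divides the group order once -/
theorem mem_of_dvd {N : Subgroup W} (hN : N.Normal) (p m : ℕ) (hp : p.Prime) (hm : Nat.card W = p * m)
    (hpm : ¬ p ∣ m) (hd : p ∣ Nat.card N) {a : W} (ha : orderOf a = p) : a ∈ N := by
  have : Fact p.Prime := ⟨hp⟩
  obtain ⟨y, hy⟩ := exists_prime_orderOf_dvd_card' p hd
  have hy' : orderOf (y : W) = p := by rw [Subgroup.orderOf_coe]; exact hy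
  have hf := fact_card p m hm hp hpm
  let P : Sylow p W := Sylow.ofCard (Subgroup.zpowers (y : W)) (by rw [Nat.card_zpowers, hy', hf, pow_one])
  let Q : Sylow p W := Sylow.ofCard (Subgroup.zpowers a) (by rw [Nat.card_zpowers, ha, hf, pow_one])
  obtain ⟨g, hg⟩ := MulAction.exists_smul_eq W P Q
  have h1 : a ∈ (Q : Subgroup W) := Subgroup.mem_zpowers a
  rw [← hg] at h1
  obtain ⟨b, hb, hab⟩ := h1
  have hbN : b ∈ N := by
    have h3 : (P : Subgroup W) ≤ N := by
      show Subgroup.zpowers (y : W) ≤ N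
      rw [Subgroup.zpowers_le]
      exact y.2
    exact h3 hb
  rw [← hab]
  exact hN.conj_mem b hbN g

/-- every involution is conjugate to the first one of `E8` -/
theorem isConj_involution {y : W} (hy : orderOf y = 2) : IsConj y (ev (we 1)) := by
  have : Fact (Nat.Prime 2) := ⟨Nat.prime_two⟩
  have hf : (Nat.card W).factorization 2 = 3 := by
    rw [card_W, show (175560 : ℕ) = 2 ^ 3 * 21945 by norm_num,
      Nat.factorization_mul (by norm_num) (by norm_num), Finsupp.add_apply, Nat.prime_two.factorization_pow,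
      Nat.factorization_eq_zero_of_not_dvd (by norm_num : ¬ 2 ∣ 21945)]
    simp
  let Q : Sylow 2 W := Sylow.ofCard E8 (by rw [card_E8, hf]; norm_num)
  have hP : IsPGroup 2 (Subgroup.zpowers y) := by
    apply IsPGroup.of_card (n := 1)
    rw [Nat.card_zpowers, hy, pow_one]
  obtain ⟨P, hP'⟩ := hP.exists_le_sylow
  obtain ⟨g, hg⟩ := MulAction.exists_smul_eq W P Q
  have h1 : g * y * g⁻¹ ∈ (Q : Subgroup W) := by
    rw [← hg]
    exact ⟨y, hP' (Subgroup.mem_zpowers y), rfl⟩
  obtain ⟨v, hv, hv2⟩ : g * y * g⁻¹ ∈ E8 := h1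
  have h0 : v ≠ 0 := by
    rintro rfl
    have h2 : g * y * g⁻¹ = 1 := hv2
    have h3 : y = 1 := by
      have : y = g⁻¹ * (g * y * g⁻¹) * g := by group
      rw [this, h2]; group
    rw [h3, orderOf_one] at hy
    exact absurd hy (by norm_num)
  refine (isConj_iff.2 ⟨g, hv2⟩).trans (isConj_iff.2 ⟨ev wz ^ (kz v), conj_we hv h0⟩)

/-- an element of order `q` in the normal closure -/
theorem dvd_of_conj {N : Subgroup W} (hN : N.Normal) (q : ℕ) [Fact q.Prime] (wa wh wh' : List Bool)
    (h1 : Nat.beq (mu (evc wh) (evc wh')) Ic = true)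
    (h2 : Nat.beq (pc (mu (evc wa) (mu (mu (evc wh) (evc wa)) (evc wh'))) q) Ic = true)
    (h3 : Nat.beq (mu (evc wa) (mu (mu (evc wh) (evc wa)) (evc wh'))) Ic = false)
    (ha : ev wa ∈ N) : q ∣ Nat.card N := by
  let y : W := ev wa * (ev wh * ev wa * (ev wh)⁻¹)
  have hy : y ∈ N := N.mul_mem ha (hN.conj_mem _ ha _)
  have hc : cd y = mu (evc wa) (mu (mu (evc wh) (evc wa)) (evc wh')) := by
    show cd (ev wa * (ev wh * ev wa * (ev wh)⁻¹)) = _
    rw [ev_inv h1, cd_mul, cd_mul, cd_mul, cd_ev, cd_ev, cd_ev]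
  have ho : orderOf y = q := by
    apply orderOf_eq_prime
    · apply cd_inj
      rw [cd_pow, cd_one, hc]
      exact Nat.eq_of_beq_eq_true h2
    · intro h
      rw [h, cd_one] at hc
      rw [← hc] at h3
      exact absurd h3 (by decide +kernel)
  have ho' : orderOf (⟨y, hy⟩ : N) = q := by rw [← ho]; exact (Subgroup.orderOf_coe (⟨y, hy⟩ : N)).symm
  rw [← ho']
  exact orderOf_dvd_natCard _

theorem ev_x : xW = ev [false] := by show xW = xW * 1; rw [mul_one]

theorem ev_y : yW = ev [true] := by show yW = yW * 1; rw [mul_one]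

theorem top_of_seven {N : Subgroup W} (hN : N.Normal) (h7 : 7 ∣ Nat.card N) : N = ⊤ := by
  have hx : xW ∈ N := mem_of_dvd hN 7 25080 (by norm_num) (by rw [card_W]) (by norm_num) h7 order_x
  have : Fact (Nat.Prime 5) := ⟨by norm_num⟩
  have h5 : 5 ∣ Nat.card N := by
    rw [ev_x] at hx
    exact dvd_of_conj hN 5 [false] [true, true, true, false, true] [false, true, true, true, true, false, true, false, true] (by decide +kernel) (by decide +kernel) (by decide +kernel) hx
  have hy : yW ∈ N := mem_of_dvd hN 5 35112 (by norm_num) (by rw [card_W]) (by norm_num) h5 order_y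
  rw [eq_top_iff]
  intro g _
  apply W_induction (p := fun g => g ∈ N) (N.one_mem) (fun g hg => N.mul_mem hx hg) (fun g hg => N.mul_mem hy hg)

theorem dvd_cases {p : ℕ} (hp : p.Prime) (h : p ∣ 175560) : p = 2 ∨ p = 3 ∨ p = 5 ∨ p = 7 ∨ p = 11 ∨ p = 19 := by
  have h1 : p ∣ 2 ^ 3 * 3 * 5 * 7 * 11 * 19 := h
  rcases hp.dvd_mul.1 h1 with h1 | h1
  · rcases hp.dvd_mul.1 h1 with h1 | h1
    · rcases hp.dvd_mul.1 h1 with h1 | h1
      · rcases hp.dvd_mul.1 h1 with h1 | h1
        · rcases hp.dvd_mul.1 h1 with h1 | h1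
          · exact Or.inl ((Nat.prime_dvd_prime_iff_eq hp Nat.prime_two).1 (hp.dvd_of_dvd_pow h1))
          · exact Or.inr (Or.inl ((Nat.prime_dvd_prime_iff_eq hp Nat.prime_three).1 h1))
        · exact Or.inr (Or.inr (Or.inl ((Nat.prime_dvd_prime_iff_eq hp (by norm_num)).1 h1)))
      · exact Or.inr (Or.inr (Or.inr (Or.inl ((Nat.prime_dvd_prime_iff_eq hp (by norm_num)).1 h1))))
    · exact Or.inr (Or.inr (Or.inr (Or.inr (Or.inl ((Nat.prime_dvd_prime_iff_eq hp (by norm_num)).1 h1)))))
  · exact Or.inr (Or.inr (Or.inr (Or.inr (Or.inr ((Nat.prime_dvd_prime_iff_eq hp (by norm_num)).1 h1)))))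

theorem simple_W : IsSimpleGroup W := by
  have hnt : Nontrivial W := ⟨xW, 1, fun h => by
    have := order_x
    rw [h, orderOf_one] at this
    exact absurd this (by norm_num)⟩
  refine { eq_bot_or_eq_top_of_normal := fun N hN => ?_ }
  by_cases hb : N = ⊥
  · exact Or.inl hb
  right
  have h1 : Nat.card N ≠ 1 := fun h => hb (Subgroup.eq_bot_of_card_eq N h)
  obtain ⟨p, hp, hpN⟩ := Nat.exists_prime_and_dvd h1
  have hpW : p ∣ 175560 := by rw [← card_W]; exact hpN.trans (Subgroup.card_subgroup_dvd_card N)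
  have : Fact (Nat.Prime 7) := ⟨by norm_num⟩
  apply top_of_seven hN
  rcases dvd_cases hp hpW with rfl | rfl | rfl | rfl | rfl | rfl
  · have : Fact (Nat.Prime 2) := ⟨Nat.prime_two⟩
    obtain ⟨y, hy⟩ := exists_prime_orderOf_dvd_card' 2 hpN
    have hy' : orderOf (y : W) = 2 := by rw [Subgroup.orderOf_coe]; exact hy
    obtain ⟨c, hc⟩ := isConj_iff.1 (isConj_involution hy')
    have he : ev (we 1) ∈ N := by rw [← hc]; exact hN.conj_mem _ y.2 c
    exact dvd_of_conj hN 7 (we 1) [true, true, false] [false, false, false, false, false, false, true, true, true] (by decide +kernel) (by decide +kernel) (by decide +kernel) he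
  · have ha : ev w3 ∈ N := mem_of_dvd hN 3 58520 (by norm_num) (by rw [card_W]) (by norm_num) hpN order_w3
    exact dvd_of_conj hN 7 w3 [false, false] [false, false, false, false, false] (by decide +kernel) (by decide +kernel) (by decide +kernel) ha
  · have ha : yW ∈ N := mem_of_dvd hN 5 35112 (by norm_num) (by rw [card_W]) (by norm_num) hpN order_y
    rw [ev_y] at ha
    exact dvd_of_conj hN 7 [true] [false, false, true, false, false, false] [true, true, true, false, false, true, false, false, false, true, true, true] (by decide +kernel) (by decide +kernel) (by decide +kernel) ha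
  · exact hpN
  · have ha : ev w11 ∈ N := mem_of_dvd hN 11 15960 (by norm_num) (by rw [card_W]) (by norm_num) hpN order_w11
    exact dvd_of_conj hN 7 w11 [true, true, true, false, false, true] [true, true, true, true, false, false, false, false, false, true, true] (by decide +kernel) (by decide +kernel) (by decide +kernel) ha
  · have ha : ev w19 ∈ N := mem_of_dvd hN 19 9240 (by norm_num) (by rw [card_W]) (by norm_num) hpN order_w19
    exact dvd_of_conj hN 7 w19 [true, true, false, false] [false, false, false, false, false, true, true, true] (by decide +kernel) (by decide +kernel) (by decide +kernel) ha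

end Cfsg.Agent.Lib.JOne
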