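import Cfsg.Agent.Lib.H10Jan
import Cfsg.Agent.Lib.H10JanH
import Cfsg.Agent.Lib.JOneSimple

set_option autoImplicit false

/-! Identification of `J₁` from the relations `Base` and `comm2`. -/

namespace Cfsg.Agent.Lib.H10JanJ1

open Cfsg.Agent.Lib.H10Enum Cfsg.Agent.Lib.H10Jan Cfsg.Agent.Lib.JOne

/-- an involution of `J₁` -/
def tW : W := ev [false, true, true, true, true, false, true]
/-- an element of order three -/
def rW : W := ev [false, false, true, true, false, false, true, true, false, true, false, true, false, false, true, true, false, true, false, true, true]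
/-- an involution inverting `rW` -/
def uW : W := ev [true, true, false, false, false, false, true, false, true, true, true, false, true, true, true]
/-- an element of order seven -/
def zW : W := xW

theorem tt : tW * tW = 1 := by
  apply cd_inj
  rw [cd_mul, cd_one, tW, cd_ev]
  decide +kernel

theorem rrr : rW * rW * rW = 1 := by
  apply cd_inj
  rw [cd_mul, cd_mul, cd_one, rW, cd_ev]
  decide +kernel

theorem uu : uW * uW = 1 := by
  apply cd_inj
  rw [cd_mul, cd_one, uW, cd_ev]
  decide +kernel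

theorem tinv : tW⁻¹ = tW := inv_eq_of_mul_eq_one_left tt
theorem rinv : rW⁻¹ = rW * rW := inv_eq_of_mul_eq_one_left (by rw [rrr])
theorem zinv : zW⁻¹ = zW ^ 6 := x_inv
theorem zinv3 : (zW ^ 3)⁻¹ = zW ^ 4 := inv_eq_of_mul_eq_one_left (by rw [← pow_add]; exact x_pow)

theorem base : Base tW rW uW zW where
  tt := tt
  xxx := rrr
  uu := uu
  z7 := x_pow
  xt := by
    apply cd_inj
    rw [cd_mul, cd_mul, rW, tW, cd_ev, cd_ev]
    decide +kernel
  ut := by
    apply cd_inj
    rw [cd_mul, cd_mul, uW, tW, cd_ev, cd_ev]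
    decide +kernel
  xz := by
    rw [rinv]
    apply cd_inj
    simp only [cd_mul, rW, zW, cd_ev, cd_x]
    decide +kernel
  tzt := by
    rw [zinv, zinv3]
    apply cd_inj
    simp only [cd_mul, cd_pow, cd_one, tW, zW, cd_ev, cd_x]
    decide +kernel
  tc := by
    rw [zinv]
    apply cd_inj
    simp only [cd_mul, cd_pow, tW, zW, cd_ev, cd_x]
    decide +kernel
  ux := by
    apply cd_inj
    simp only [cd_mul, cd_one, uW, rW, cd_ev]
    decide +kernel
  tu := by
    rw [zinv]
    apply cd_inj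
    simp only [cd_mul, cd_pow, cd_one, tW, uW, zW, cd_ev, cd_x]
    decide +kernel

theorem comm : w2 tW rW uW zW * rW = rW * w2 tW rW uW zW := by
  unfold w2
  rw [zinv]
  apply cd_inj
  simp only [cd_mul, cd_pow, tW, uW, zW, rW, cd_ev, cd_x]
  decide +kernel

theorem y_eq : yW = uW * zW * rW * uW * zW * zW * tW * zW * rW * uW * zW * tW * zW * uW := by
  apply cd_inj
  simp only [cd_mul, tW, uW, zW, rW, cd_ev, cd_x, cd_y]
  decide +kernel

theorem closure_top : Subgroup.closure {tW, rW, uW, zW} = (⊤ : Subgroup W) := by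
  rw [eq_top_iff]
  intro g _
  have ht : tW ∈ Subgroup.closure ({tW, rW, uW, zW} : Set W) := Subgroup.subset_closure (by simp)
  have hr : rW ∈ Subgroup.closure ({tW, rW, uW, zW} : Set W) := Subgroup.subset_closure (by simp)
  have hu : uW ∈ Subgroup.closure ({tW, rW, uW, zW} : Set W) := Subgroup.subset_closure (by simp)
  have hz : zW ∈ Subgroup.closure ({tW, rW, uW, zW} : Set W) := Subgroup.subset_closure (by simp)
  have hy : yW ∈ Subgroup.closure ({tW, rW, uW, zW} : Set W) := by
    rw [y_eq]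
    have m : ∀ {a b : W}, a ∈ Subgroup.closure ({tW, rW, uW, zW} : Set W) →
        b ∈ Subgroup.closure ({tW, rW, uW, zW} : Set W) → a * b ∈ Subgroup.closure ({tW, rW, uW, zW} : Set W) :=
      fun ha hb => mul_mem ha hb
    exact m (m (m (m (m (m (m (m (m (m (m (m (m hu hz) hr) hu) hz) hz) ht) hz) hr) hu) hz) ht) hz) hu
  exact W_induction (one_mem _) (fun g hg => mul_mem hz hg) (fun g hg => mul_mem hy hg) g

/-! ### the order of `2³:7:3` -/

section H

variable {G : Type*} [Group G] {t x u z : G}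

/-- the letters for the small enumeration -/
def letH (t x z : G) : ℕ → G
  | 0 => 1
  | 1 => t
  | 2 => z
  | 3 => x
  | 4 => z⁻¹ * t * z
  | 5 => z⁻¹ * (z⁻¹ * t * z) * z
  | 6 => (z * z)⁻¹ * (z⁻¹ * (z⁻¹ * t * z) * z) * (z * z)
  | _ + 7 => 1

theorem involH (h : Base t x u z) (c : ℕ) (hc : (114 : ℕ).testBit c = true) :
    (letH t x z c)⁻¹ = letH t x z c := by
  have hlt : c < 7 := by
    by_contra hge
    push Not at hge
    have : (114 : ℕ) < 2 ^ c := lt_of_lt_of_le (by norm_num) (Nat.pow_le_pow_right (by norm_num) hge)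
    rw [Nat.testBit_lt_two_pow this] at hc
    exact absurd hc (by simp)
  interval_cases c
  · exact absurd hc (by decide)
  · exact h.tinv
  · exact absurd hc (by decide)
  · exact absurd hc (by decide)
  · have := sqc0 h; rw [mul_one] at this; exact inv_eq_of_mul_eq_one_left this
  · have := sqc1 h; rw [mul_one] at this; exact inv_eq_of_mul_eq_one_left this
  · have := sqc2 h; rw [mul_one] at this; exact inv_eq_of_mul_eq_one_left this

theorem relsH (h : Base t x u z) : ∀ W ∈ H10JanH.R, wval (letH t x z) W = 1 := by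
  intro W hW
  simp only [H10JanH.R, List.mem_cons, List.not_mem_nil, or_false] at hW
  rcases hW with rfl | rfl | rfl | rfl | rfl | rfl | rfl | rfl | rfl | rfl | rfl | rfl | rfl | rfl | rfl | rfl | rfl | rfl | rfl
  · show t * (t * 1) = 1
    refine Eq.trans (b := t * t) (by group) h.tt
  · show x * (x * (x * 1)) = 1
    refine Eq.trans (b := x * x * x) (by group) h.xxx
  · show z * (z * (z * (z * (z * (z * (z * 1)))))) = 1
    simpa [pow_succ, mul_assoc] using h.z7
  · show x⁻¹ * (t * (x * (t⁻¹ * 1))) = 1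
    refine Eq.trans (b := x⁻¹ * t * x * t⁻¹) (by group) h.r4
  · show x⁻¹ * (z * (x * (z⁻¹ * (z⁻¹ * 1)))) = 1
    refine Eq.trans (b := x⁻¹ * z * x * z⁻¹ * z⁻¹) (by group) h.r6
  · show t * (z⁻¹ * (t * (z⁻¹ * (z⁻¹ * (t * (z * (z * (z * 1)))))))) = 1
    refine Eq.trans (b := t * z⁻¹ * t * z⁻¹ * z⁻¹ * t * z * z * z) (by group) h.r7
  · show t⁻¹ * (z⁻¹ * (t⁻¹ * (z * (t * (z⁻¹ * (t * (z * 1))))))) = 1
    refine Eq.trans (b := t⁻¹ * z⁻¹ * t⁻¹ * z * t * z⁻¹ * t * z) (by group) h.r8
  · show (z⁻¹ * t * z)⁻¹ * (z⁻¹ * (t * (z * 1))) = 1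
    group
  · show (z⁻¹ * (z⁻¹ * t * z) * z)⁻¹ * (z⁻¹ * ((z⁻¹ * t * z) * (z * 1))) = 1
    group
  · show ((z * z)⁻¹ * (z⁻¹ * (z⁻¹ * t * z) * z) * (z * z))⁻¹ * (z⁻¹ * (z⁻¹ * ((z⁻¹ * (z⁻¹ * t * z) * z) * (z * (z * 1))))) = 1
    group
  · exact sqc0 h
  · exact sqc1 h
  · exact sqc2 h
  · exact wtriv (letH t x z) 1
  · exact wtriv (letH t x z) 2
  · exact wtriv (letH t x z) 3
  · exact wtriv (letH t x z) 4
  · exact wtriv (letH t x z) 5
  · exact wtriv (letH t x z) 6

theorem val_map {G' : Type*} [Group G'] (φ : G →* G') (y : ℕ → G) (c : ℕ) : φ (val y c) = val (fun n => φ (y n)) c := by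
  unfold val
  split_ifs
  · rfl
  · rw [map_inv]

theorem wval_map {G' : Type*} [Group G'] (φ : G →* G') (y : ℕ → G) (L : List ℕ) :
    φ (wval y L) = wval (fun n => φ (y n)) L := by
  induction L with
  | nil => rw [wval_nil, wval_nil, map_one]
  | cons a L ih => rw [wval_cons, wval_cons, map_mul, ih, val_map]

/-- the group `⟨t, x, z⟩` has order at most `168` -/
theorem card_Hsub_le (h : Base t x u z) : Finite (Hsub t x z) ∧ Nat.card (Hsub t x z) ≤ 168 := by
  have ht : t ∈ Hsub t x z := Subgroup.subset_closure (by simp)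
  have hx : x ∈ Hsub t x z := Subgroup.subset_closure (by simp)
  have hz : z ∈ Hsub t x z := Subgroup.subset_closure (by simp)
  let y : ℕ → Hsub t x z := letH ⟨t, ht⟩ ⟨x, hx⟩ ⟨z, hz⟩
  have hy : ∀ n, (Hsub t x z).subtype (y n) = letH t x z n := by
    intro n
    match n with
    | 0 => rfl
    | 1 => rfl
    | 2 => rfl
    | 3 => rfl
    | 4 => rfl
    | 5 => rfl
    | 6 => rfl
    | n + 7 => rfl
  have hrel : ∀ W ∈ H10JanH.R, wval y W = 1 := by
    intro W hW
    apply Subtype.val_injective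
    have h1 := wval_map (Hsub t x z).subtype y W
    rw [show (fun n => (Hsub t x z).subtype (y n)) = letH t x z from funext hy, relsH h W hW] at h1
    exact h1
  have hinv : ∀ c, (114 : ℕ).testBit c = true → (y c)⁻¹ = y c := by
    intro c hc
    apply Subtype.val_injective
    have h1 := involH h c hc
    rw [← hy c] at h1
    exact h1
  have hg := sound (T := H10JanH.T) (p := (1 : Hsub t x z)) (x := y) rfl hinv hrel (by simp) H10JanH.ok
  have htop : Subgroup.closure {(⟨t, ht⟩ : Hsub t x z), ⟨x, hx⟩, ⟨z, hz⟩} = ⊤ := by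
    have h2 := Subgroup.closure_closure_coe_preimage (k := ({t, x, z} : Set G))
    have h3 : (((↑) : Subgroup.closure ({t, x, z} : Set G) → G) ⁻¹' ({t, x, z} : Set G)) =
        ({⟨t, ht⟩, ⟨x, hx⟩, ⟨z, hz⟩} : Set (Subgroup.closure ({t, x, z} : Set G))) := by
      ext g
      simp only [Set.mem_preimage, Set.mem_insert_iff, Set.mem_singleton_iff]
      constructor
      · rintro (h | h | h)
        · exact Or.inl (Subtype.ext h)
        · exact Or.inr (Or.inl (Subtype.ext h))
        · exact Or.inr (Or.inr (Subtype.ext h))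
      · rintro (h | h | h)
        · exact Or.inl (congrArg Subtype.val h)
        · exact Or.inr (Or.inl (congrArg Subtype.val h))
        · exact Or.inr (Or.inr (congrArg Subtype.val h))
    rw [h3] at h2
    exact h2
  apply card_le_of_closed (G := Hsub t x z) (X := Hsub t x z) (f := pts H10JanH.T y (1 : Hsub t x z)) (by norm_num) _ htop
  intro a ha
  simp only [Set.mem_insert_iff, Set.mem_singleton_iff] at ha
  rcases ha with rfl | rfl | rfl
  · exact chkC_sound hinv hg _ H10JanH.cl1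
  · exact chkC_sound hinv hg _ H10JanH.cl3
  · exact chkC_sound hinv hg _ H10JanH.cl2

/-- the order of a group with the relations of `J₁` -/
theorem card_le (h : Base t x u z) (hc : w2 t x u z * x = x * w2 t x u z)
    (htop : Subgroup.closure {t, x, u, z} = ⊤) : Finite G ∧ Nat.card G ≤ 175560 := by
  obtain ⟨h1, h2⟩ := index_le h hc htop
  obtain ⟨h3, h4⟩ := card_Hsub_le h
  have h5 : (Hsub t x z).index ≠ 0 := by
    rw [Subgroup.index]
    have : Nonempty (G ⧸ Hsub t x z) := ⟨((1 : G) : G ⧸ Hsub t x z)⟩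
    exact (Nat.card_pos).ne'
  have h6 : Finite G := by
    have : (Hsub t x z).FiniteIndex := ⟨h5⟩
    exact Finite.of_equiv _ (Subgroup.groupEquivQuotientProdSubgroup (s := Hsub t x z)).symm
  refine ⟨h6, ?_⟩
  have h7 := (Hsub t x z).card_mul_index
  rw [← h7, Subgroup.index]
  calc Nat.card (Hsub t x z) * Nat.card (G ⧸ Hsub t x z) ≤ 168 * 1045 := Nat.mul_le_mul h4 h2
    _ = 175560 := by norm_num

end H

/-! ### the identification -/

theorem base_map {G G' : Type*} [Group G] [Group G'] (φ : G →* G') {t x u z : G}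
    (h : Base t x u z) : Base (φ t) (φ x) (φ u) (φ z) where
  tt := by rw [← map_mul, h.tt, map_one]
  xxx := by rw [← map_mul, ← map_mul, h.xxx, map_one]
  uu := by rw [← map_mul, h.uu, map_one]
  z7 := by rw [← map_pow, h.z7, map_one]
  xt := by rw [← map_mul, ← map_mul, h.xt]
  ut := by rw [← map_mul, ← map_mul, h.ut]
  xz := by rw [← map_inv, ← map_mul, ← map_mul, h.xz, map_mul]
  tzt := by simp only [← map_inv, ← map_pow, ← map_mul, h.tzt, map_one]
  tc := by simp only [← map_inv, ← map_mul, h.tc]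
  ux := by simp only [← map_mul, h.ux, map_one]
  tu := by simp only [← map_inv, ← map_mul, h.tu, map_one]

theorem w2_map {G G' : Type*} [Group G] [Group G'] (φ : G →* G') (t x u z : G) :
    φ (w2 t x u z) = w2 (φ t) (φ x) (φ u) (φ z) := by
  simp only [w2, map_mul, map_inv]

theorem base_prod {G G' : Type*} [Group G] [Group G'] {t x u z : G} {t' x' u' z' : G'}
    (h : Base t x u z) (h' : Base t' x' u' z') : Base (t, t') (x, x') (u, u') (z, z') where
  tt := Prod.ext h.tt h'.tt
  xxx := Prod.ext h.xxx h'.xxx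
  uu := Prod.ext h.uu h'.uu
  z7 := Prod.ext h.z7 h'.z7
  xt := Prod.ext h.xt h'.xt
  ut := Prod.ext h.ut h'.ut
  xz := Prod.ext h.xz h'.xz
  tzt := Prod.ext h.tzt h'.tzt
  tc := Prod.ext h.tc h'.tc
  ux := Prod.ext h.ux h'.ux
  tu := Prod.ext h.tu h'.tu

/-- the subgroup generated by the elements is a group in which the relations hold -/
theorem base_sub {G : Type*} [Group G] (K : Subgroup G) {t x u z : K} (h : Base (t : G) (x : G) (u : G) (z : G)) :
    Base t x u z where
  tt := Subtype.ext h.tt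
  xxx := Subtype.ext h.xxx
  uu := Subtype.ext h.uu
  z7 := Subtype.ext h.z7
  xt := Subtype.ext h.xt
  ut := Subtype.ext h.ut
  xz := Subtype.ext h.xz
  tzt := Subtype.ext h.tzt
  tc := Subtype.ext h.tc
  ux := Subtype.ext h.ux
  tu := Subtype.ext h.tu

/-- **Recognition of `J₁` by its presentation.** -/
theorem iso {G : Type*} [Group G] [Nontrivial G] {t x u z : G} (h : Base t x u z)
    (hc : w2 t x u z * x = x * w2 t x u z) (htop : Subgroup.closure {t, x, u, z} = ⊤) : Nonempty (G ≃* W) := by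
  classical
  have hP := base_prod h base
  let K : Subgroup (G × W) := Subgroup.closure {(t, tW), (x, rW), (u, uW), (z, zW)}
  have ht : (t, tW) ∈ K := Subgroup.subset_closure (by simp)
  have hx : (x, rW) ∈ K := Subgroup.subset_closure (by simp)
  have hu : (u, uW) ∈ K := Subgroup.subset_closure (by simp)
  have hz : (z, zW) ∈ K := Subgroup.subset_closure (by simp)
  have hK : Base (⟨_, ht⟩ : K) ⟨_, hx⟩ ⟨_, hu⟩ ⟨_, hz⟩ := base_sub K hP
  have hcK : w2 (⟨_, ht⟩ : K) ⟨_, hx⟩ ⟨_, hu⟩ ⟨_, hz⟩ * ⟨_, hx⟩ = ⟨_, hx⟩ * w2 (⟨_, ht⟩ : K) ⟨_, hx⟩ ⟨_, hu⟩ ⟨_, hz⟩ := by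
    apply Subtype.ext
    exact Prod.ext hc comm
  have htopK : Subgroup.closure {(⟨_, ht⟩ : K), ⟨_, hx⟩, ⟨_, hu⟩, ⟨_, hz⟩} = ⊤ := by
    have h2 := Subgroup.closure_closure_coe_preimage (k := ({(t, tW), (x, rW), (u, uW), (z, zW)} : Set (G × W)))
    have h3 : (((↑) : K → G × W) ⁻¹' ({(t, tW), (x, rW), (u, uW), (z, zW)} : Set (G × W))) =
        ({⟨_, ht⟩, ⟨_, hx⟩, ⟨_, hu⟩, ⟨_, hz⟩} : Set K) := by
      ext g
      simp only [Set.mem_preimage, Set.mem_insert_iff, Set.mem_singleton_iff, Subtype.ext_iff]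
    change Subgroup.closure (((↑) : K → G × W) ⁻¹' ({(t, tW), (x, rW), (u, uW), (z, zW)} : Set (G × W))) = ⊤ at h2
    rw [h3] at h2
    exact h2
  obtain ⟨hfin, hcard⟩ := card_le hK hcK htopK
  let f1 : K →* G := (MonoidHom.fst G W).comp K.subtype
  let f2 : K →* W := (MonoidHom.snd G W).comp K.subtype
  have hs1 : Function.Surjective f1 := by
    rw [← MonoidHom.range_eq_top, eq_top_iff, ← htop, Subgroup.closure_le]
    rintro a (rfl | rfl | rfl | rfl)
    · exact ⟨⟨_, ht⟩, rfl⟩
    · exact ⟨⟨_, hx⟩, rfl⟩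
    · exact ⟨⟨_, hu⟩, rfl⟩
    · exact ⟨⟨_, hz⟩, rfl⟩
  have hs2 : Function.Surjective f2 := by
    rw [← MonoidHom.range_eq_top, eq_top_iff, ← closure_top, Subgroup.closure_le]
    rintro a (rfl | rfl | rfl | rfl)
    · exact ⟨⟨_, ht⟩, rfl⟩
    · exact ⟨⟨_, hx⟩, rfl⟩
    · exact ⟨⟨_, hu⟩, rfl⟩
    · exact ⟨⟨_, hz⟩, rfl⟩
  have hb2 : Function.Bijective f2 := by
    rw [Nat.bijective_iff_surjective_and_card]
    refine ⟨hs2, le_antisymm ?_ (Nat.card_le_card_of_surjective f2 hs2)⟩
    rw [card_W]; exact hcard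
  let e := MulEquiv.ofBijective f2 hb2
  let ψ : W →* G := f1.comp e.symm.toMonoidHom
  have hψs : Function.Surjective ψ := hs1.comp e.symm.surjective
  have hsim := simple_W
  have hker : ψ.ker = ⊥ := by
    rcases hsim.eq_bot_or_eq_top_of_normal ψ.ker inferInstance with h0 | h0
    · exact h0
    · exfalso
      obtain ⟨g, hg⟩ := exists_ne (1 : G)
      obtain ⟨w, hw⟩ := hψs g
      have : w ∈ ψ.ker := h0 ▸ Subgroup.mem_top w
      exact hg (by rw [← hw]; exact this)
  exact ⟨(MulEquiv.ofBijective ψ ⟨(MonoidHom.ker_eq_bot_iff ψ).1 hker, hψs⟩).symm⟩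

end Cfsg.Agent.Lib.H10JanJ1
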