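import Cfsg.Agent.Lib.H10JanV1
import Cfsg.Agent.Lib.H10JanV3
import Cfsg.Agent.Lib.H10JanV4
import Cfsg.Agent.Lib.H10JanJ1

set_option autoImplicit false

/-! Final assembly for the recognition of `J₁` by elements and relations. -/

namespace Cfsg.Agent.Lib.H10JanFin

open Cfsg.Agent.Lib.H10Enum Cfsg.Agent.Lib.H10Jan

variable {G : Type*} [Group G] {t x u z w : G}

/-- the subgroup `2 × A₅` -/
def Csub (t x u z : G) : Subgroup G := Subgroup.closure {z⁻¹ * t * z, x, u, t}

theorem sub_fix (c : ℕ) (hc : c ∈ [1, 3, 4, 5]) :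
    lett t x u z w c • ((1 : G) : G ⧸ Csub t x u z) = ((1 : G) : G ⧸ Csub t x u z) := by
  have h1 : lett t x u z w c ∈ Csub t x u z := by
    simp only [List.mem_cons, List.not_mem_nil, or_false] at hc
    rcases hc with rfl | rfl | rfl | rfl
    · exact Subgroup.subset_closure (by simp [lett])
    · exact Subgroup.subset_closure (by simp [lett])
    · exact Subgroup.subset_closure (by simp [lett])
    · exact Subgroup.subset_closure (by simp [lett])
  change ((lett t x u z w c * 1 : G) : G ⧸ Csub t x u z) = _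
  rw [mul_one]
  exact (QuotientGroup.eq.2 (by simpa using Subgroup.inv_mem _ h1))

theorem mem_of_fact {T k : ℕ} (hk : fct T k = 67108864)
    (hg : Good T (lett t x u z w) (pts T (lett t x u z w) ((1 : G) : G ⧸ Csub t x u z)) k) : z ∈ Csub t x u z := by
  unfold Good at hg
  rw [hk] at hg
  have h1 : fsrc 67108864 = 0 := by decide +kernel
  have h2 : fdst 67108864 = 0 := by decide +kernel
  have h3 : flet 67108864 = 2 * 2 := by decide +kernel
  rw [h1, h2, h3, pts_zero, val_even] at hg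
  change ((1 : G) : G ⧸ Csub t x u z) = ((z * 1 : G) : G ⧸ Csub t x u z) at hg
  rw [QuotientGroup.eq] at hg
  simpa using hg

theorem z_mem1 (h : Base t x u z) (hc : w1 t x u z * x = x * w1 t x u z) : z ∈ Csub t x u z :=
  mem_of_fact H10JanV1.tgt2 (sound (R := H10JanV1.R) rfl (invol h) (rels1 h rfl hc) (sub_fix (w := w1 t x u z)) H10JanV1.ok _ (by norm_num))

theorem z_mem3 (h : Base t x u z) (hc : w3 t x u z * x = x * w3 t x u z) : z ∈ Csub t x u z :=
  mem_of_fact H10JanV3.tgt2 (sound (R := H10JanV3.R) rfl (invol h) (rels3 h rfl hc) (sub_fix (w := w3 t x u z)) H10JanV3.ok _ (by norm_num))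

theorem z_mem4 (h : Base t x u z) (hc : w4 t x u z * x = x * w4 t x u z) : z ∈ Csub t x u z :=
  mem_of_fact H10JanV4.tgt2 (sound (R := H10JanV4.R) rfl (invol h) (rels4 h rfl hc) (sub_fix (w := w4 t x u z)) H10JanV4.ok _ (by norm_num))

/-- **Recognition of `J₁`.** -/
theorem isoJ1_of_elements [Nontrivial G] (h : Base t x u z)
    (hor : w1 t x u z * x = x * w1 t x u z ∨ w2 t x u z * x = x * w2 t x u z ∨ w3 t x u z * x = x * w3 t x u z ∨
      w4 t x u z * x = x * w4 t x u z)
    (htop : Subgroup.closure {t, x, u, z} = ⊤) (hz : z ∉ Subgroup.closure {z⁻¹ * t * z, x, u, t}) :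
    Cfsg.Spor.IsoJ1 G := by
  rcases hor with hc | hc | hc | hc
  · exact absurd (z_mem1 h hc) hz
  · exact H10JanJ1.iso h hc htop
  · exact absurd (z_mem3 h hc) hz
  · exact absurd (z_mem4 h hc) hz

/-- **Recognition of `J₁`**, form without generation: the subgroup generated by the elements is `J₁`. -/
theorem isoJ1_closure (h : Base t x u z) (hx : x ≠ 1)
    (hor : w1 t x u z * x = x * w1 t x u z ∨ w2 t x u z * x = x * w2 t x u z ∨ w3 t x u z * x = x * w3 t x u z ∨
      w4 t x u z * x = x * w4 t x u z)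
    (hz : z ∉ Subgroup.closure {z⁻¹ * t * z, x, u, t}) :
    Cfsg.Spor.IsoJ1 (Subgroup.closure {t, x, u, z}) := by
  have mt : t ∈ Subgroup.closure ({t, x, u, z} : Set G) := Subgroup.subset_closure (by simp)
  have mx : x ∈ Subgroup.closure ({t, x, u, z} : Set G) := Subgroup.subset_closure (by simp)
  have mu : u ∈ Subgroup.closure ({t, x, u, z} : Set G) := Subgroup.subset_closure (by simp)
  have mz : z ∈ Subgroup.closure ({t, x, u, z} : Set G) := Subgroup.subset_closure (by simp)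
  have hK : Base (⟨t, mt⟩ : Subgroup.closure ({t, x, u, z} : Set G)) ⟨x, mx⟩ ⟨u, mu⟩ ⟨z, mz⟩ :=
    H10JanJ1.base_sub _ h
  have hnt : Nontrivial (Subgroup.closure ({t, x, u, z} : Set G)) :=
    ⟨⟨x, mx⟩, 1, fun h0 => hx (congrArg Subtype.val h0)⟩
  refine isoJ1_of_elements hK ?_ ?_ ?_
  · rcases hor with hc | hc | hc | hc
    · exact Or.inl (Subtype.ext hc)
    · exact Or.inr (Or.inl (Subtype.ext hc))
    · exact Or.inr (Or.inr (Or.inl (Subtype.ext hc)))
    · exact Or.inr (Or.inr (Or.inr (Subtype.ext hc)))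
  · have h2 := Subgroup.closure_closure_coe_preimage (k := ({t, x, u, z} : Set G))
    have h3 : (((↑) : Subgroup.closure ({t, x, u, z} : Set G) → G) ⁻¹' ({t, x, u, z} : Set G)) =
        ({⟨t, mt⟩, ⟨x, mx⟩, ⟨u, mu⟩, ⟨z, mz⟩} : Set (Subgroup.closure ({t, x, u, z} : Set G))) := by
      ext g
      simp only [Set.mem_preimage, Set.mem_insert_iff, Set.mem_singleton_iff, Subtype.ext_iff]
    rw [h3] at h2
    exact h2
  · intro h0
    apply hz
    have h1 : (Subgroup.closure ({t, x, u, z} : Set G)).subtype ⟨z, mz⟩ ∈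
        (Subgroup.closure {(⟨z, mz⟩ : Subgroup.closure ({t, x, u, z} : Set G))⁻¹ * ⟨t, mt⟩ * ⟨z, mz⟩, ⟨x, mx⟩, ⟨u, mu⟩, ⟨t, mt⟩}).map
          (Subgroup.closure ({t, x, u, z} : Set G)).subtype := Subgroup.mem_map_of_mem _ h0
    rw [MonoidHom.map_closure] at h1
    have h4 : (Subgroup.closure ({t, x, u, z} : Set G)).subtype ''
        {(⟨z, mz⟩ : Subgroup.closure ({t, x, u, z} : Set G))⁻¹ * ⟨t, mt⟩ * ⟨z, mz⟩, ⟨x, mx⟩, ⟨u, mu⟩, ⟨t, mt⟩} =
        {z⁻¹ * t * z, x, u, t} := by
      simp only [Set.image_insert_eq, Set.image_singleton]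
      rfl
    rw [h4] at h1
    exact h1

end Cfsg.Agent.Lib.H10JanFin
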