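import Mathlib
import Cfsg.Agent.Lib.H58AltSpec
import Cfsg.Agent.Lib.FrobDvd

set_option autoImplicit false

/-! Numbers of elements of given order: arithmetic search. -/

namespace Cfsg.Agent.Lib.H10Nse

open Finset Nat

/-- Numerical data of the counting function of element orders. -/
structure Data (c : ℕ → ℕ) (N : ℕ) (S : List ℕ) : Prop where
  one : c 1 = 1
  tot : ∀ m, Nat.totient m ∣ c m
  frob : ∀ d, d ∣ N → d ∣ ∑ m ∈ d.divisors, c m
  mem : ∀ m, c m ≠ 0 → c m ∈ S
  down : ∀ m k, k ∣ m → c m ≠ 0 → c k ≠ 0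
  cauchy : ∀ p, p.Prime → p ∣ N → c p ≠ 0
  supp : ∀ m, c m ≠ 0 → m ∣ N
  total : ∑ m ∈ N.divisors, c m = N
  all : ∀ s ∈ S, ∃ m, m ∣ N ∧ c m = s
  pos : 0 < N

def ok (T : List (ℕ × ℕ)) (P : List ℕ) (n2 : ℕ) (acc : List (ℕ × ℕ)) (d v : ℕ) : Bool :=
  (d != 1 || v == 1) && (d != 2 || v == n2) && (!(P.contains d) || v != 0) &&
  (v == 0 || acc.all fun p => (d % p.1 != 0) || (p.2 != 0)) &&
  (T.all fun q => (d % q.1 != 0) || (v % q.2 == 0)) &&
  ((((acc.filter (fun p => d % p.1 == 0)).map Prod.snd).sum + v) % d == 0)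

def go (T : List (ℕ × ℕ)) (P S : List ℕ) (n2 : ℕ) : List ℕ → List (ℕ × ℕ) → List (List (ℕ × ℕ))
  | [], acc => [acc]
  | d :: ds, acc => ((0 :: S).filter (fun v => ok T P n2 acc d v)).flatMap fun v => go T P S n2 ds ((d, v) :: acc)

theorem mem_go (T : List (ℕ × ℕ)) (P S : List ℕ) (n2 : ℕ) (c : ℕ → ℕ) :
    ∀ (ds : List ℕ) (acc : List (ℕ × ℕ)),
      (∀ pre d suf, ds = pre ++ d :: suf →
        ok T P n2 ((pre.map (fun m => (m, c m))).reverse ++ acc) d (c d) = true ∧ c d ∈ 0 :: S) →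
      (ds.map (fun m => (m, c m))).reverse ++ acc ∈ go T P S n2 ds acc
  | [], acc, _ => by simp [go]
  | d :: ds, acc, h => by
    obtain ⟨h1, h2⟩ := h [] d ds rfl
    have h3 := mem_go T P S n2 c ds ((d, c d) :: acc) (by
      intro pre e suf he
      have := h (d :: pre) e suf (by rw [he]; rfl)
      simpa using this)
    rw [go, List.mem_flatMap]
    refine ⟨c d, List.mem_filter.2 ⟨h2, by simpa using h1⟩, ?_⟩
    simpa using h3

theorem ok_of_data {c : ℕ → ℕ} {N : ℕ} {S : List ℕ} (hD : Data c N S) (T : List (ℕ × ℕ)) (P : List ℕ)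
    (hT : ∀ q ∈ T, Nat.totient q.1 = q.2) (hP : ∀ p ∈ P, p.Prime) (d0 : ℕ) (hd0 : d0 ∣ N) (L : List ℕ)
    (hL1 : ∀ m, m ∣ d0 → m ∈ L) (hL2 : ∀ m ∈ L, m ∣ d0) (hL3 : L.Nodup)
    (hL4 : L.Pairwise (fun m m' => ¬ m' ∣ m)) (pre : List ℕ) (d : ℕ) (suf : List ℕ) (hL : L = pre ++ d :: suf) :
    ok T P (c 2) (pre.map (fun m => (m, c m))).reverse d (c d) = true := by
  have hdL : d ∈ L := by rw [hL]; simp
  have hd : d ∣ d0 := hL2 d hdL
  have hdN : d ∣ N := hd.trans hd0
  have hdpos : 0 < d := Nat.pos_of_dvd_of_pos hdN hD.pos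
  have hsum : (((pre.map (fun m => (m, c m))).reverse.filter (fun p => d % p.1 == 0)).map Prod.snd).sum + c d
      = ∑ m ∈ d.divisors, c m := by
    have e1 : (((pre.map (fun m => (m, c m))).reverse.filter (fun p => d % p.1 == 0)).map Prod.snd).sum
        = ((pre.filter (fun m => d % m == 0)).map c).sum := by
      rw [List.filter_reverse, List.map_reverse, List.sum_reverse, List.filter_map, List.map_map]
      rfl
    have hnd : (pre.filter (fun m => d % m == 0)).Nodup := by
      rw [hL, List.nodup_append] at hL3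
      exact hL3.1.filter _
    have hnotmem : d ∉ (pre.filter (fun m => d % m == 0)).toFinset := by
      rw [List.mem_toFinset, List.mem_filter]
      rintro ⟨h1, -⟩
      rw [hL, List.nodup_append] at hL3
      exact hL3.2.2 d h1 d (by simp) rfl
    have e2 : d.divisors = insert d (pre.filter (fun m => d % m == 0)).toFinset := by
      ext m
      rw [Nat.mem_divisors, Finset.mem_insert, List.mem_toFinset, List.mem_filter]
      constructor
      · rintro ⟨h1, -⟩
        have h2 := hL1 m (h1.trans hd)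
        rw [hL, List.mem_append, List.mem_cons] at h2
        rcases h2 with h2 | h2 | h2
        · right
          refine ⟨h2, ?_⟩
          simpa using Nat.mod_eq_zero_of_dvd h1
        · left; exact h2
        · exfalso
          rw [hL, List.pairwise_append, List.pairwise_cons] at hL4
          exact hL4.2.1.1 m h2 h1
      · rintro (h1 | ⟨-, h1⟩)
        · rw [h1]; exact ⟨dvd_refl _, hdpos.ne'⟩
        · refine ⟨?_, hdpos.ne'⟩
          exact Nat.dvd_of_mod_eq_zero (by simpa using h1)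
    rw [e1, e2, Finset.sum_insert hnotmem, List.sum_toFinset _ hnd, add_comm]
  unfold ok
  simp only [Bool.and_eq_true, Bool.or_eq_true, bne_iff_ne, beq_iff_eq, ne_eq, Bool.not_eq_true', List.all_eq_true]
  refine ⟨⟨⟨⟨⟨?_, ?_⟩, ?_⟩, ?_⟩, ?_⟩, ?_⟩
  · by_cases h : d = 1
    · right; rw [h]; exact hD.one
    · left; exact h
  · by_cases h : d = 2
    · right; rw [h]
    · left; exact h
  · by_cases h : d ∈ P
    · right; exact hD.cauchy d (hP d h) hdN
    · left; simpa using h
  · by_cases h : c d = 0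
    · left; exact h
    · right
      intro p hp
      rw [List.mem_reverse, List.mem_map] at hp
      obtain ⟨m, hm, rfl⟩ := hp
      by_cases h2 : d % m = 0
      · right
        exact hD.down d m (Nat.dvd_of_mod_eq_zero h2) h
      · left; exact h2
  · intro q hq
    by_cases h2 : d % q.1 = 0
    · right
      rw [← hT q hq]
      exact Nat.mod_eq_zero_of_dvd ((Nat.totient_dvd_of_dvd (Nat.dvd_of_mod_eq_zero h2)).trans (hD.tot d))
    · left; exact h2
  · rw [hsum]
    exact Nat.mod_eq_zero_of_dvd (hD.frob d hdN)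

theorem mem_go_of_data {c : ℕ → ℕ} {N : ℕ} {S : List ℕ} (hD : Data c N S) (T : List (ℕ × ℕ)) (P : List ℕ)
    (hT : ∀ q ∈ T, Nat.totient q.1 = q.2) (hP : ∀ p ∈ P, p.Prime) (d0 : ℕ) (hd0 : d0 ∣ N) (L : List ℕ)
    (hL1 : ∀ m, m ∣ d0 → m ∈ L) (hL2 : ∀ m ∈ L, m ∣ d0) (hL3 : L.Nodup)
    (hL4 : L.Pairwise (fun m m' => ¬ m' ∣ m)) :
    (L.map (fun m => (m, c m))).reverse ∈ go T P S (c 2) L [] := by
  have := mem_go T P S (c 2) c L [] (by
    intro pre d suf h
    refine ⟨?_, ?_⟩
    · rw [List.append_nil]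
      exact ok_of_data hD T P hT hP d0 hd0 L hL1 hL2 hL3 hL4 pre d suf h
    · rw [List.mem_cons]
      by_cases h0 : c d = 0
      · left; exact h0
      · right; exact hD.mem d h0)
  rwa [List.append_nil] at this

/-! ### prime powers -/

theorem not_prime_pow_dvd {c : ℕ → ℕ} {N : ℕ} {S : List ℕ} (hD : Data c N S) (T : List (ℕ × ℕ)) (P : List ℕ)
    (hT : ∀ q ∈ T, Nat.totient q.1 = q.2) (hP : ∀ p ∈ P, p.Prime) (p k n2 : ℕ) (hp : p.Prime) (h2 : c 2 = n2)
    (h : go T P S n2 ((List.range (k + 1)).map (fun i => p ^ i)) [] = []) : ¬ p ^ k ∣ N := by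
  intro hd
  have h1 := mem_go_of_data hD T P hT hP (p ^ k) hd ((List.range (k + 1)).map (fun i => p ^ i)) ?_ ?_ ?_ ?_
  · rw [h2, h] at h1
    simp at h1
  · intro m hm
    obtain ⟨j, hj, rfl⟩ := (Nat.dvd_prime_pow hp).1 hm
    exact List.mem_map.2 ⟨j, List.mem_range.2 (by omega), rfl⟩
  · intro m hm
    obtain ⟨j, hj, rfl⟩ := List.mem_map.1 hm
    exact pow_dvd_pow p (by have := List.mem_range.1 hj; omega)
  · exact (List.nodup_range).map (Nat.pow_right_injective hp.two_le)
  · rw [List.pairwise_map]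
    refine (List.pairwise_lt_range).imp ?_
    intro a b hab hdvd
    have := (Nat.pow_dvd_pow_iff_le_right hp.one_lt).1 hdvd
    omega

/-- the odd count -/
theorem c_two {c : ℕ → ℕ} {N : ℕ} {S : List ℕ} (hD : Data c N S) (n2 : ℕ) (hodd : n2 % 2 = 1) (h1 : n2 ≠ 1)
    (hmem : n2 ∈ S) : c 2 = n2 := by
  obtain ⟨m, hmN, hm⟩ := hD.all n2 hmem
  have hmpos : 0 < m := Nat.pos_of_dvd_of_pos hmN hD.pos
  by_cases h2 : m = 2
  · rw [← h2]; exact hm
  · exfalso
    by_cases h3 : m = 1
    · rw [h3, hD.one] at hm; omega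
    · have h4 := Nat.totient_even (n := m) (by omega)
      have h5 := hD.tot m
      rw [hm] at h5
      obtain ⟨k, hk⟩ := h4
      have : 2 ∣ n2 := (Dvd.intro k (by omega)).trans h5
      omega

/-- the whole search -/
theorem search {c : ℕ → ℕ} {N : ℕ} {S : List ℕ} (hD : Data c N S) (T : List (ℕ × ℕ)) (P : List ℕ)
    (hT : ∀ q ∈ T, Nat.totient q.1 = q.2) (hP : ∀ p ∈ P, p.Prime) (n2 M : ℕ) (h2 : c 2 = n2) (hM : N ∣ M)
    (L : List ℕ) (hL1 : ∀ m, m ∣ M → m ∈ L) (hL3 : L.Nodup)
    (hL4 : L.Pairwise (fun m m' => ¬ m' ∣ m)) (R : ℕ → List (ℕ × ℕ) → Bool)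
    (hR : ∀ N' ∈ L, ∀ o ∈ go T P S n2 (L.filter (fun m => N' % m == 0)) [],
      (o.map Prod.snd).sum = N' → (∀ s ∈ S, ∃ p ∈ o, p.2 = s) → R N' o = true) :
    ∃ o : List (ℕ × ℕ), (∀ p ∈ o, p.2 = c p.1) ∧ R N o = true := by
  have hmemL : ∀ m, m ∈ L.filter (fun m => N % m == 0) ↔ m ∣ N := by
    intro m
    rw [List.mem_filter]
    constructor
    · rintro ⟨-, h⟩
      exact Nat.dvd_of_mod_eq_zero (by simpa using h)
    · intro h
      exact ⟨hL1 m (h.trans hM), by simpa using Nat.mod_eq_zero_of_dvd h⟩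
  have h3 := mem_go_of_data hD T P hT hP N (dvd_refl N) (L.filter (fun m => N % m == 0))
    (fun m hm => (hmemL m).2 hm) (fun m hm => (hmemL m).1 hm) (hL3.filter _) (hL4.filter _)
  rw [h2] at h3
  refine ⟨_, ?_, hR N (hL1 N hM) _ h3 ?_ ?_⟩
  · intro p hp
    rw [List.mem_reverse, List.mem_map] at hp
    obtain ⟨m, -, rfl⟩ := hp
    rfl
  · rw [List.map_reverse, List.sum_reverse, List.map_map]
    have e1 : ((L.filter (fun m => N % m == 0)).map (Prod.snd ∘ fun m => (m, c m))).sum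
        = ∑ m ∈ (L.filter (fun m => N % m == 0)).toFinset, c m := by
      rw [List.sum_toFinset _ (hL3.filter _)]
      rfl
    rw [e1]
    have e2 : (L.filter (fun m => N % m == 0)).toFinset = N.divisors := by
      ext m
      rw [List.mem_toFinset, hmemL, Nat.mem_divisors]
      exact ⟨fun h => ⟨h, hD.pos.ne'⟩, fun h => h.1⟩
    rw [e2, hD.total]
  · intro s hs
    obtain ⟨m, hmN, hm⟩ := hD.all s hs
    exact ⟨(m, c m), by
      rw [List.mem_reverse, List.mem_map]
      exact ⟨m, (hmemL m).2 hmN, rfl⟩, hm⟩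

/-! ### groups -/

theorem sum_eq {G : Type*} [Group G] [Finite G] (d : ℕ) (hd : 0 < d) :
    Nat.card {x : G // x ^ d = 1} = ∑ m ∈ d.divisors, Nat.card {g : G // orderOf g = m} := by
  classical
  have := Fintype.ofFinite G
  have e : ∀ m, Nat.card {g : G // orderOf g = m} = ({g : G | orderOf g = m} : Finset G).card := by
    intro m
    rw [Nat.card_eq_fintype_card, Fintype.card_subtype]
  rw [Nat.card_eq_fintype_card, Fintype.card_subtype, Finset.sum_congr rfl (fun m _ => e m)]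
  rw [Finset.card_eq_sum_card_fiberwise (f := fun g : G => orderOf g) (t := d.divisors)]
  · apply Finset.sum_congr rfl
    intro m hm
    congr 1
    ext g
    simp only [Finset.mem_filter, Finset.mem_univ, true_and]
    constructor
    · rintro ⟨-, h⟩; exact h
    · intro h
      refine ⟨?_, h⟩
      rw [← orderOf_dvd_iff_pow_eq_one, h]
      exact (Nat.mem_divisors.1 hm).1
  · intro g hg
    have h1 : g ^ d = 1 := by simpa using hg
    exact Finset.mem_coe.2 (Nat.mem_divisors.2 ⟨orderOf_dvd_iff_pow_eq_one.2 h1, hd.ne'⟩)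

theorem card_ne_zero {G : Type*} [Group G] [Finite G] (m : ℕ) :
    Nat.card {g : G // orderOf g = m} ≠ 0 ↔ ∃ g : G, orderOf g = m := by
  rw [Nat.card_ne_zero]
  constructor
  · rintro ⟨⟨g⟩, -⟩; exact ⟨g.1, g.2⟩
  · rintro ⟨g, hg⟩; exact ⟨⟨g, hg⟩, inferInstance⟩

theorem data {G : Type*} [Group G] [Finite G] (S : List ℕ)
    (hS : ((fun m : ℕ => Nat.card {g : G // orderOf g = m}) '' Set.range (orderOf : G → ℕ)) = {s | s ∈ S}) :
    Data (fun m => Nat.card {g : G // orderOf g = m}) (Nat.card G) S where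
  one := by
    rw [Nat.card_eq_one_iff_unique]
    exact ⟨⟨fun a b => Subtype.ext ((orderOf_eq_one_iff.1 a.2).trans (orderOf_eq_one_iff.1 b.2).symm)⟩,
      ⟨⟨1, orderOf_one⟩⟩⟩
  tot := by
    intro m
    apply FrobDvd.dvd_card_of_fibers (fun g : {g : G // orderOf g = m} => Subgroup.zpowers g.1)
    intro b
    by_cases hb : ∃ g : {g : G // orderOf g = m}, Subgroup.zpowers g.1 = b
    · obtain ⟨g, rfl⟩ := hb
      have e := FrobDvd.card_zpowers_eq g.1
      rw [g.2] at e
      rw [← e]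
      apply dvd_of_eq
      apply Nat.card_congr
      refine ⟨fun x => ⟨⟨x.1, ?_⟩, x.2⟩, fun x => ⟨x.1.1, x.2⟩, fun x => rfl, fun x => rfl⟩
      rw [← Nat.card_zpowers, x.2, Nat.card_zpowers, g.2]
    · have : IsEmpty {a : {g : G // orderOf g = m} // Subgroup.zpowers a.1 = b} := ⟨fun a => hb ⟨a.1, a.2⟩⟩
      rw [Nat.card_of_isEmpty]
      exact dvd_zero _
  frob := by
    intro d hd
    rw [← sum_eq d (Nat.pos_of_dvd_of_pos hd Nat.card_pos)]
    exact FrobDvd.frobenius_dvd d hd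
  mem := by
    intro m hm
    rw [card_ne_zero] at hm
    obtain ⟨g, hg⟩ := hm
    have : Nat.card {g : G // orderOf g = m} ∈ {s | s ∈ S} := by
      rw [← hS]; exact ⟨m, ⟨g, hg⟩, rfl⟩
    exact this
  down := by
    intro m k hk hm
    rw [card_ne_zero] at hm ⊢
    obtain ⟨g, hg⟩ := hm
    obtain ⟨j, hj⟩ := hk
    refine ⟨g ^ j, ?_⟩
    have hj0 : j ≠ 0 := by
      rintro rfl
      rw [mul_zero] at hj
      have := orderOf_pos g
      omega
    have h1 := orderOf_pow_of_dvd (x := g) hj0 (by rw [hg, hj]; exact dvd_mul_left _ _)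
    rw [h1, hg, hj, Nat.mul_div_cancel _ (Nat.pos_of_ne_zero hj0)]
  cauchy := by
    intro p hp hd
    have : Fact p.Prime := ⟨hp⟩
    rw [card_ne_zero]
    exact exists_prime_orderOf_dvd_card' p hd
  supp := by
    intro m hm
    rw [card_ne_zero] at hm
    obtain ⟨g, rfl⟩ := hm
    exact orderOf_dvd_natCard g
  total := by
    rw [← sum_eq (G := G) _ Nat.card_pos]
    exact Nat.card_congr (Equiv.subtypeUnivEquiv (fun x => pow_card_eq_one'))
  all := by
    intro s hs
    have : s ∈ ((fun m : ℕ => Nat.card {g : G // orderOf g = m}) '' Set.range (orderOf : G → ℕ)) := by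
      rw [hS]; exact hs
    obtain ⟨m, ⟨g, rfl⟩, rfl⟩ := this
    exact ⟨orderOf g, orderOf_dvd_natCard g, rfl⟩
  pos := Nat.card_pos

/-! ### alternating groups -/

open H58AltSpec in
def types (n : ℕ) : Finset (Multiset ℕ) := (List.map Multiset.ofList (parts n n n)).toFinset

def cnt (n m : ℕ) : ℕ := ∑ b ∈ types n, if b.lcm = m then
  (if (b.sum ≤ n ∧ ∀ a ∈ b, 2 ≤ a) ∧ Even (b.sum + Multiset.card b) then
    n ! / ((n - b.sum)! * (b.prod * ∏ k ∈ b.toFinset, (b.count k)!)) else 0) else 0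

theorem card_alt (n m : ℕ) : Nat.card {g : alternatingGroup (Fin n) // orderOf g = m} = cnt n m := by
  classical
  rw [Nat.card_eq_fintype_card, Fintype.card_subtype,
    Finset.card_eq_sum_card_fiberwise (f := fun g : alternatingGroup (Fin n) => (g : Equiv.Perm (Fin n)).cycleType)
      (t := types n)]
  · unfold cnt
    apply Finset.sum_congr rfl
    intro b _
    split_ifs with h1 h2
    · have h3 := AlternatingGroup.card_of_cycleType (Fin n) b
      rw [Fintype.card_fin, if_pos h2] at h3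
      rw [← h3]
      congr 1
      ext g
      simp only [Finset.mem_filter, Finset.mem_univ, true_and, and_iff_right_iff_imp]
      intro h4
      rw [← Subgroup.orderOf_coe, ← Equiv.Perm.lcm_cycleType, h4, h1]
    · have h3 := AlternatingGroup.card_of_cycleType (Fin n) b
      rw [Fintype.card_fin, if_neg h2] at h3
      rw [Finset.card_eq_zero] at h3 ⊢
      rw [Finset.eq_empty_iff_forall_notMem] at h3 ⊢
      intro g hg
      apply h3 g
      simp only [Finset.mem_filter, Finset.mem_univ, true_and] at hg ⊢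
      exact hg.2
    · rw [Finset.card_eq_zero, Finset.eq_empty_iff_forall_notMem]
      intro g hg
      simp only [Finset.mem_filter, Finset.mem_univ, true_and] at hg
      apply h1
      rw [← hg.2, Equiv.Perm.lcm_cycleType, Subgroup.orderOf_coe, hg.1]
  · intro g _
    obtain ⟨l, hl, hlg⟩ := H58AltSpec.exists_list (g : Equiv.Perm (Fin n))
    rw [Finset.mem_coe, types, List.mem_toFinset, List.mem_map]
    exact ⟨l, hl, hlg⟩

theorem nse_alt (n : ℕ) (O : Finset ℕ) (S : List ℕ)
    (hO : Set.range (orderOf : alternatingGroup (Fin n) → ℕ) = O) (h : O.image (cnt n) = S.toFinset) :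
    ((fun m : ℕ => Nat.card {g : alternatingGroup (Fin n) // orderOf g = m}) ''
      Set.range (orderOf : alternatingGroup (Fin n) → ℕ)) = {s | s ∈ S} := by
  ext s
  rw [hO, Set.mem_image, Set.mem_ofPred_eq, ← List.mem_toFinset, ← h, Finset.mem_image]
  simp only [Finset.mem_coe, card_alt]

theorem nse4 : ((fun m : ℕ => Nat.card {g : alternatingGroup (Fin 4) // orderOf g = m}) ''
      Set.range (orderOf : alternatingGroup (Fin 4) → ℕ)) = {s | s ∈ [1, 3, 8]} :=
  nse_alt 4 {1, 2, 3} _ (H58AltSpec.range_alternating 4 _ (by decide) (by decide)) (by decide +kernel)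

theorem nse5 : ((fun m : ℕ => Nat.card {g : alternatingGroup (Fin 5) // orderOf g = m}) ''
      Set.range (orderOf : alternatingGroup (Fin 5) → ℕ)) = {s | s ∈ [1, 15, 20, 24]} :=
  nse_alt 5 {1, 2, 3, 5} _ (H58AltSpec.range_alternating 5 _ (by decide) (by decide)) (by decide +kernel)

theorem nse6 : ((fun m : ℕ => Nat.card {g : alternatingGroup (Fin 6) // orderOf g = m}) ''
      Set.range (orderOf : alternatingGroup (Fin 6) → ℕ)) = {s | s ∈ [1, 45, 80, 90, 144]} :=
  nse_alt 6 {1, 2, 3, 4, 5} _ H58AltSpec.range_A6 (by decide +kernel)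

end Cfsg.Agent.Lib.H10Nse
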