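import Cfsg.Agent.Lib.H10Nse

set_option autoImplicit false

/-! The alternating groups of degree 4, 5, 6 by their sets nse: the arithmetic part. -/

namespace Cfsg.Agent.Lib.H10Nse

open Finset Nat

theorem dvd_M {N M : ℕ} (h : ∀ p, p.Prime → p ∣ N → ∃ e, ¬ p ^ (e + 1) ∣ N ∧ p ^ e ∣ M) : N ∣ M := by
  rw [Nat.dvd_iff_prime_pow_dvd_dvd]
  intro p k hp hk
  rcases Nat.eq_zero_or_pos k with rfl | hk0
  · rw [pow_zero]; exact one_dvd _
  · obtain ⟨e, he1, he2⟩ := h p hp ((dvd_pow_self p hk0.ne').trans hk)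
    by_cases hke : k ≤ e
    · exact (pow_dvd_pow p hke).trans he2
    · exact absurd ((pow_dvd_pow p (by omega)).trans hk) he1

theorem prime_spec {c : ℕ → ℕ} {N : ℕ} {S : List ℕ} (hD : Data c N S) {p : ℕ} (hp : p.Prime) (hd : p ∣ N) :
    ∃ v ∈ S, v ≠ 0 ∧ p ∣ 1 + v ∧ (p - 1) ∣ v := by
  have h1 := hD.cauchy p hp hd
  refine ⟨c p, hD.mem p h1, h1, ?_, ?_⟩
  · have h2 := hD.frob p hd
    rw [hp.divisors, Finset.sum_pair hp.one_lt.ne, hD.one] at h2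
    exact h2
  · have h2 := hD.tot p
    rwa [Nat.totient_prime hp] at h2

def prodL (A B C E : List ℕ) : List ℕ :=
  A.flatMap fun x => B.flatMap fun y => C.flatMap fun z => E.map fun w => x * y * z * w

theorem mem_prodL {a b c e : ℕ} {A B C E : List ℕ} (hA : ∀ x, x ∣ a → x ∈ A) (hB : ∀ x, x ∣ b → x ∈ B)
    (hC : ∀ x, x ∣ c → x ∈ C) (hE : ∀ x, x ∣ e → x ∈ E) (m : ℕ) (hm : m ∣ a * b * c * e) : m ∈ prodL A B C E := by
  obtain ⟨k, w, hk, hw, rfl⟩ := Nat.dvd_mul.1 hm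
  obtain ⟨k', z, hk', hz, rfl⟩ := Nat.dvd_mul.1 hk
  obtain ⟨x, y, hx, hy, rfl⟩ := Nat.dvd_mul.1 hk'
  simp only [prodL, List.mem_flatMap, List.mem_map]
  exact ⟨x, hA x hx, y, hB y hy, z, hC z hz, w, hE w hw, rfl⟩

theorem mem_of_dvd {a : ℕ} (ha : 0 < a) {A : List ℕ} (h : ∀ x ∈ Finset.range (a + 1), x ∣ a → x ∈ A) (x : ℕ) (hx : x ∣ a) :
    x ∈ A := h x (Finset.mem_range.2 (Nat.lt_succ_of_le (Nat.le_of_dvd ha hx))) hx

/-! ### degree 4 -/

def T4 : List (ℕ × ℕ) := [(3, 2), (4, 2), (6, 2), (8, 4), (9, 6), (12, 4), (16, 8), (18, 6), (24, 8), (27, 18), (32, 16), (36, 12), (48, 16), (54, 18)]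

theorem hT4 : ∀ q ∈ T4, Nat.totient q.1 = q.2 := by decide +kernel

def P4 : List ℕ := [2, 3]

theorem hP4 : ∀ p ∈ P4, p.Prime := by
  intro p hp
  simp only [P4, List.mem_cons, List.not_mem_nil, or_false] at hp
  rcases hp with rfl | rfl <;> norm_num

theorem primes4 {c : ℕ → ℕ} {N : ℕ} (hD : Data c N [1, 3, 8]) {p : ℕ} (hp : p.Prime) (hd : p ∣ N) : p ∈ P4 := by
  obtain ⟨v, hv, hv0, h1, h2⟩ := prime_spec hD hp hd
  have hle : p ≤ 9 := by
    have h3 := Nat.le_of_dvd (by omega) h1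
    have h4 : ∀ v ∈ [1, 3, 8], v ≤ 8 := by decide
    have := h4 v hv
    omega
  have key : ∀ p ∈ Finset.range 10, 1 < p → ∀ v ∈ [1, 3, 8], v ≠ 0 → p ∣ 1 + v → (p - 1) ∣ v → p ∈ [2, 3, 4, 9] := by
    decide +kernel
  have h5 := key p (Finset.mem_range.2 (by omega)) hp.one_lt v hv hv0 h1 h2
  simp only [List.mem_cons, List.not_mem_nil, or_false] at h5
  rcases h5 with rfl | rfl | rfl | rfl <;> first | decide | (exfalso; revert hp; norm_num)

theorem dvd4 {c : ℕ → ℕ} {N : ℕ} (hD : Data c N [1, 3, 8]) (h2 : c 2 = 3) : N ∣ 4 * 9 * 1 * 1 := by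
  apply dvd_M
  intro p hp hd
  have h := primes4 hD hp hd
  simp only [P4, List.mem_cons, List.not_mem_nil, or_false] at h
  rcases h with rfl | rfl
  · exact ⟨2, not_prime_pow_dvd hD T4 P4 hT4 hP4 2 3 3 (by norm_num) h2 (by decide +kernel), by norm_num⟩
  · exact ⟨2, not_prime_pow_dvd hD T4 P4 hT4 hP4 3 3 3 (by norm_num) h2 (by decide +kernel), by norm_num⟩

def L4 : List ℕ := prodL [1, 2, 4] [1, 3, 9] [1] [1]

theorem memL4 (m : ℕ) (hm : m ∣ 4 * 9 * 1 * 1) : m ∈ L4 :=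
  mem_prodL (mem_of_dvd (by norm_num) (by decide +kernel)) (mem_of_dvd (by norm_num) (by decide +kernel)) (mem_of_dvd (by norm_num) (by decide +kernel)) (mem_of_dvd (by norm_num) (by decide +kernel)) m hm

theorem final4 {c : ℕ → ℕ} {N : ℕ} (hD : Data c N [1, 3, 8]) : N = 12 ∧ c 1 = 1 ∧ c 2 = 3 ∧ c 3 = 8 := by
  have h2 : c 2 = 3 := c_two hD 3 (by norm_num) (by norm_num) (by decide)
  obtain ⟨o, ho, hR⟩ := search hD T4 P4 hT4 hP4 3 _ h2 (dvd4 hD h2) L4 memL4 (by decide +kernel)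
    (by decide +kernel)
    (fun N' o => (N' == 12) && o.contains (1, 1) && o.contains (2, 3) && o.contains (3, 8)) (by decide +kernel)
  simp only [Bool.and_eq_true, beq_iff_eq, List.contains_iff_mem] at hR

  obtain ⟨⟨⟨h0, k0⟩, k1⟩, k2⟩ := hR
  exact ⟨h0, (ho _ k0).symm, (ho _ k1).symm, (ho _ k2).symm⟩

/-! ### degree 5 -/

def T5 : List (ℕ × ℕ) := [(3, 2), (4, 2), (5, 4), (6, 2), (8, 4), (9, 6), (10, 4), (12, 4), (15, 8), (16, 8), (18, 6), (20, 8), (24, 8), (25, 20), (27, 18), (30, 8), (32, 16), (36, 12), (40, 16), (45, 24), (48, 16), (50, 20), (54, 18), (60, 16)]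

theorem hT5 : ∀ q ∈ T5, Nat.totient q.1 = q.2 := by decide +kernel

def P5 : List ℕ := [2, 3, 5]

theorem hP5 : ∀ p ∈ P5, p.Prime := by
  intro p hp
  simp only [P5, List.mem_cons, List.not_mem_nil, or_false] at hp
  rcases hp with rfl | rfl | rfl <;> norm_num

theorem primes5 {c : ℕ → ℕ} {N : ℕ} (hD : Data c N [1, 15, 20, 24]) {p : ℕ} (hp : p.Prime) (hd : p ∣ N) : p ∈ P5 := by
  obtain ⟨v, hv, hv0, h1, h2⟩ := prime_spec hD hp hd
  have hle : p ≤ 25 := by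
    have h3 := Nat.le_of_dvd (by omega) h1
    have h4 : ∀ v ∈ [1, 15, 20, 24], v ≤ 24 := by decide
    have := h4 v hv
    omega
  have key : ∀ p ∈ Finset.range 26, 1 < p → ∀ v ∈ [1, 15, 20, 24], v ≠ 0 → p ∣ 1 + v → (p - 1) ∣ v → p ∈ [2, 3, 4, 5, 16, 21, 25] := by
    decide +kernel
  have h5 := key p (Finset.mem_range.2 (by omega)) hp.one_lt v hv hv0 h1 h2
  simp only [List.mem_cons, List.not_mem_nil, or_false] at h5
  rcases h5 with rfl | rfl | rfl | rfl | rfl | rfl | rfl <;> first | decide | (exfalso; revert hp; norm_num)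

theorem dvd5 {c : ℕ → ℕ} {N : ℕ} (hD : Data c N [1, 15, 20, 24]) (h2 : c 2 = 15) : N ∣ 64 * 9 * 25 * 1 := by
  apply dvd_M
  intro p hp hd
  have h := primes5 hD hp hd
  simp only [P5, List.mem_cons, List.not_mem_nil, or_false] at h
  rcases h with rfl | rfl | rfl
  · exact ⟨6, not_prime_pow_dvd hD T5 P5 hT5 hP5 2 7 15 (by norm_num) h2 (by decide +kernel), by norm_num⟩
  · exact ⟨2, not_prime_pow_dvd hD T5 P5 hT5 hP5 3 3 15 (by norm_num) h2 (by decide +kernel), by norm_num⟩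
  · exact ⟨2, not_prime_pow_dvd hD T5 P5 hT5 hP5 5 3 15 (by norm_num) h2 (by decide +kernel), by norm_num⟩

def L5 : List ℕ := prodL [1, 2, 4, 8, 16, 32, 64] [1, 3, 9] [1, 5, 25] [1]

theorem memL5 (m : ℕ) (hm : m ∣ 64 * 9 * 25 * 1) : m ∈ L5 :=
  mem_prodL (mem_of_dvd (by norm_num) (by decide +kernel)) (mem_of_dvd (by norm_num) (by decide +kernel)) (mem_of_dvd (by norm_num) (by decide +kernel)) (mem_of_dvd (by norm_num) (by decide +kernel)) m hm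

theorem final5 {c : ℕ → ℕ} {N : ℕ} (hD : Data c N [1, 15, 20, 24]) : N = 60 ∧ c 1 = 1 ∧ c 2 = 15 ∧ c 3 = 20 ∧ c 5 = 24 ∧ c 10 = 0 ∧ c 4 = 0 ∧ c 15 = 0 := by
  have h2 : c 2 = 15 := c_two hD 15 (by norm_num) (by norm_num) (by decide)
  obtain ⟨o, ho, hR⟩ := search hD T5 P5 hT5 hP5 15 _ h2 (dvd5 hD h2) L5 memL5 (by decide +kernel)
    (by decide +kernel)
    (fun N' o => (N' == 60) && o.contains (1, 1) && o.contains (2, 15) && o.contains (3, 20) && o.contains (5, 24) && o.contains (10, 0) && o.contains (4, 0) && o.contains (15, 0)) (by decide +kernel)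
  simp only [Bool.and_eq_true, beq_iff_eq, List.contains_iff_mem] at hR

  obtain ⟨⟨⟨⟨⟨⟨⟨h0, k0⟩, k1⟩, k2⟩, k3⟩, k4⟩, k5⟩, k6⟩ := hR
  exact ⟨h0, (ho _ k0).symm, (ho _ k1).symm, (ho _ k2).symm, (ho _ k3).symm, (ho _ k4).symm, (ho _ k5).symm, (ho _ k6).symm⟩

/-! ### degree 6 -/

def T6 : List (ℕ × ℕ) := [(3, 2), (4, 2), (5, 4), (6, 2), (7, 6), (8, 4), (9, 6), (10, 4), (12, 4), (14, 6), (15, 8), (16, 8), (18, 6), (20, 8), (21, 12), (24, 8), (25, 20), (27, 18), (28, 12), (30, 8), (32, 16), (35, 24), (36, 12), (40, 16), (42, 12), (45, 24), (48, 16), (49, 42), (50, 20), (54, 18), (56, 24), (60, 16)]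

theorem hT6 : ∀ q ∈ T6, Nat.totient q.1 = q.2 := by decide +kernel

def P6 : List ℕ := [2, 3, 5, 7]

theorem hP6 : ∀ p ∈ P6, p.Prime := by
  intro p hp
  simp only [P6, List.mem_cons, List.not_mem_nil, or_false] at hp
  rcases hp with rfl | rfl | rfl | rfl <;> norm_num

theorem primes6 {c : ℕ → ℕ} {N : ℕ} (hD : Data c N [1, 45, 80, 90, 144]) {p : ℕ} (hp : p.Prime) (hd : p ∣ N) : p ∈ P6 := by
  obtain ⟨v, hv, hv0, h1, h2⟩ := prime_spec hD hp hd
  have hle : p ≤ 145 := by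
    have h3 := Nat.le_of_dvd (by omega) h1
    have h4 : ∀ v ∈ [1, 45, 80, 90, 144], v ≤ 144 := by decide
    have := h4 v hv
    omega
  have key : ∀ p ∈ Finset.range 146, 1 < p → ∀ v ∈ [1, 45, 80, 90, 144], v ≠ 0 → p ∣ 1 + v → (p - 1) ∣ v → p ∈ [2, 3, 5, 7, 9, 46, 81, 91, 145] := by
    decide +kernel
  have h5 := key p (Finset.mem_range.2 (by omega)) hp.one_lt v hv hv0 h1 h2
  simp only [List.mem_cons, List.not_mem_nil, or_false] at h5
  rcases h5 with rfl | rfl | rfl | rfl | rfl | rfl | rfl | rfl | rfl <;> first | decide | (exfalso; revert hp; norm_num)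

theorem dvd6 {c : ℕ → ℕ} {N : ℕ} (hD : Data c N [1, 45, 80, 90, 144]) (h2 : c 2 = 45) : N ∣ 8 * 81 * 25 * 7 := by
  apply dvd_M
  intro p hp hd
  have h := primes6 hD hp hd
  simp only [P6, List.mem_cons, List.not_mem_nil, or_false] at h
  rcases h with rfl | rfl | rfl | rfl
  · exact ⟨3, not_prime_pow_dvd hD T6 P6 hT6 hP6 2 4 45 (by norm_num) h2 (by decide +kernel), by norm_num⟩
  · exact ⟨4, not_prime_pow_dvd hD T6 P6 hT6 hP6 3 5 45 (by norm_num) h2 (by decide +kernel), by norm_num⟩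
  · exact ⟨2, not_prime_pow_dvd hD T6 P6 hT6 hP6 5 3 45 (by norm_num) h2 (by decide +kernel), by norm_num⟩
  · exact ⟨1, not_prime_pow_dvd hD T6 P6 hT6 hP6 7 2 45 (by norm_num) h2 (by decide +kernel), by norm_num⟩

def L6 : List ℕ := prodL [1, 2, 4, 8] [1, 3, 9, 27, 81] [1, 5, 25] [1, 7]

theorem memL6 (m : ℕ) (hm : m ∣ 8 * 81 * 25 * 7) : m ∈ L6 :=
  mem_prodL (mem_of_dvd (by norm_num) (by decide +kernel)) (mem_of_dvd (by norm_num) (by decide +kernel)) (mem_of_dvd (by norm_num) (by decide +kernel)) (mem_of_dvd (by norm_num) (by decide +kernel)) m hm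

theorem final6 {c : ℕ → ℕ} {N : ℕ} (hD : Data c N [1, 45, 80, 90, 144]) : N = 360 ∧ c 1 = 1 ∧ c 2 = 45 ∧ c 3 = 80 ∧ c 4 = 90 ∧ c 5 = 144 ∧ c 10 = 0 ∧ c 15 = 0 := by
  have h2 : c 2 = 45 := c_two hD 45 (by norm_num) (by norm_num) (by decide)
  obtain ⟨o, ho, hR⟩ := search hD T6 P6 hT6 hP6 45 _ h2 (dvd6 hD h2) L6 memL6 (by decide +kernel)
    (by decide +kernel)
    (fun N' o => (N' == 360) && o.contains (1, 1) && o.contains (2, 45) && o.contains (3, 80) && o.contains (4, 90) && o.contains (5, 144) && o.contains (10, 0) && o.contains (15, 0)) (by decide +kernel)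
  simp only [Bool.and_eq_true, beq_iff_eq, List.contains_iff_mem] at hR

  obtain ⟨⟨⟨⟨⟨⟨⟨h0, k0⟩, k1⟩, k2⟩, k3⟩, k4⟩, k5⟩, k6⟩ := hR
  exact ⟨h0, (ho _ k0).symm, (ho _ k1).symm, (ho _ k2).symm, (ho _ k3).symm, (ho _ k4).symm, (ho _ k5).symm, (ho _ k6).symm⟩

end Cfsg.Agent.Lib.H10Nse
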