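import Cfsg.Agent.Lib.H10Nse2
import Cfsg.Agent.Lib.H10Order360

set_option autoImplicit false

/-! The alternating groups of degree 4, 5, 6 by their sets nse: identification. -/

namespace Cfsg.Agent.Lib.H10Nse

open Subgroup
open Cfsg.Agent.Lib.SmallSimple
open Cfsg.Agent.Lib.Simple168 (exists_mem_orderOf_eq card_orderOf_eq)

variable {G : Type*} [Group G] [Finite G]

theorem card_modEq_one_of_fpf {p : ℕ} [Fact p.Prime] {x : G} (hx : orderOf x = p) (H : Subgroup G)
    (hH : x ∈ normalizer (H : Set G)) (hfix : ∀ u ∈ H, Commute x u → u = 1) : Nat.card H ≡ 1 [MOD p] := by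
  classical
  have hyp : IsPGroup p (zpowers x) := IsPGroup.of_card (n := 1) (by rw [Nat.card_zpowers, hx, pow_one])
  have hyN : ∀ g : zpowers x, (g : G) ∈ normalizer (H : Set G) := by
    rintro ⟨g, hg⟩
    exact (zpowers_le.2 hH) hg
  let _ : MulAction (zpowers x) H :=
    { smul := fun g u => ⟨(g : G) * u * (g : G)⁻¹, (mem_normalizer_iff.1 (hyN g) u).1 u.2⟩
      one_smul := fun u => Subtype.ext (by change (1 : G) * u * (1 : G)⁻¹ = u; group)
      mul_smul := fun a b u => Subtype.ext (by
        change ((a : G) * b) * u * ((a : G) * b)⁻¹ = (a : G) * ((b : G) * u * (b : G)⁻¹) * (a : G)⁻¹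
        group) }
  have h7 := hyp.card_modEq_card_fixedPoints H
  have h8 : Nat.card (MulAction.fixedPoints (zpowers x) H) = 1 := by
    rw [Nat.card_eq_one_iff_unique]
    have key : ∀ u : H, u ∈ MulAction.fixedPoints (zpowers x) H → u = 1 := by
      intro u hu
      have h9 : x * (u : G) * x⁻¹ = u := congrArg Subtype.val (hu ⟨x, mem_zpowers x⟩)
      have h10 : Commute x (u : G) := by
        change x * (u : G) = u * x
        calc x * (u : G) = (x * (u : G) * x⁻¹) * x := by group
          _ = u * x := by rw [h9]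
      exact Subtype.ext (hfix u u.2 h10)
    refine ⟨⟨fun a b => Subtype.ext ((key _ a.2).trans (key _ b.2).symm)⟩, ⟨⟨1, ?_⟩⟩⟩
    intro g
    apply Subtype.ext
    change (g : G) * 1 * (g : G)⁻¹ = 1
    group
  rwa [h8] at h7

theorem fix_trivial {x : G} (hx : orderOf x = 5) (H : Subgroup G) (hH : ∀ q : ℕ, q.Prime → q ∣ Nat.card H → q = 2 ∨ q = 3)
    (h10 : Nat.card {g : G // orderOf g = 10} = 0) (h15 : Nat.card {g : G // orderOf g = 15} = 0) :
    ∀ u ∈ H, Commute x u → u = 1 := by
  intro u hu hxu
  by_contra hne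
  have h1 : orderOf u ≠ 1 := fun h => hne (orderOf_eq_one_iff.1 h)
  obtain ⟨q, hq, hqu⟩ := Nat.exists_prime_and_dvd h1
  have hqH : q ∣ Nat.card H := hqu.trans (Simple168.orderOf_dvd_card_of_mem hu)
  obtain ⟨k, hk⟩ := hqu
  have hk0 : k ≠ 0 := by
    rintro rfl
    rw [mul_zero] at hk
    have := orderOf_pos u
    omega
  have h2 : orderOf (u ^ k) = q := by
    rw [orderOf_pow_of_dvd hk0 (by rw [hk]; exact dvd_mul_left _ _), hk, Nat.mul_div_cancel _ (Nat.pos_of_ne_zero hk0)]
  have h3 : Commute x (u ^ k) := hxu.pow_right k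
  have h4 := hH q hq hqH
  have h5 : orderOf (x * u ^ k) = 5 * q := by
    rw [h3.orderOf_mul_eq_mul_orderOf_of_coprime, hx, h2]
    rw [hx, h2]
    rcases h4 with rfl | rfl <;> decide
  rcases h4 with rfl | rfl
  · exact (card_ne_zero 10).2 ⟨_, h5⟩ h10
  · exact (card_ne_zero 15).2 ⟨_, h5⟩ h15

/-- all elements of order `p` lie in a normal subgroup of index coprime to `p`. -/
theorem mem_of_index (N : Subgroup G) [N.Normal] {p : ℕ} (h : p.Coprime N.index) {g : G} (hg : orderOf g = p) : g ∈ N :=
  mem_of_orderOf_coprime_index N g (by rw [hg]; exact h)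

theorem card_ge_two (N : Subgroup G) [N.Normal] (p q a b : ℕ) (hpq : p ≠ q) (hp1 : p ≠ 1) (hq1 : q ≠ 1)
    (hp : p.Coprime N.index) (hq : q.Coprime N.index)
    (ha : Nat.card {g : G // orderOf g = p} = a) (hb : Nat.card {g : G // orderOf g = q} = b) : 1 + a + b ≤ Nat.card N := by
  classical
  have := Fintype.ofFinite G
  have e : ∀ m, Nat.card {g : G // orderOf g = m} = ({g : G | orderOf g = m} : Finset G).card := by
    intro m
    rw [Nat.card_eq_fintype_card, Fintype.card_subtype]
  rw [← ha, ← hb, e, e]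
  have h1 : ({1} : Finset G).card = 1 := Finset.card_singleton _
  rw [← h1, ← Finset.card_union_of_disjoint, ← Finset.card_union_of_disjoint]
  · rw [Nat.card_eq_fintype_card, ← Fintype.card_coe]
    apply Fintype.card_le_of_injective (fun g : (({1} ∪ ({g : G | orderOf g = p} : Finset G)) ∪ ({g : G | orderOf g = q} : Finset G) : Finset G) =>
      (⟨g.1, by
        have hg := g.2
        rw [Finset.mem_union, Finset.mem_union, Finset.mem_singleton, Finset.mem_filter, Finset.mem_filter] at hg
        rcases hg with (hg | hg) | hg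
        · rw [hg]; exact N.one_mem
        · exact mem_of_index N hp hg.2
        · exact mem_of_index N hq hg.2⟩ : N))
    intro x y hxy
    exact Subtype.ext (congrArg (fun z : N => (z : G)) hxy)
  · rw [Finset.disjoint_left]
    intro g hg hg2
    rw [Finset.mem_union, Finset.mem_singleton, Finset.mem_filter] at hg
    rw [Finset.mem_filter] at hg2
    rcases hg with hg | hg
    · rw [hg, orderOf_one] at hg2; exact hq1 hg2.2.symm
    · exact hpq (hg.2.symm.trans hg2.2)
  · rw [Finset.disjoint_left]
    intro g hg hg2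
    rw [Finset.mem_singleton] at hg
    rw [Finset.mem_filter, hg, orderOf_one] at hg2
    exact hp1 hg2.2.symm

theorem card_ge_one (N : Subgroup G) [N.Normal] (p a : ℕ) (hp1 : p ≠ 1)
    (hp : p.Coprime N.index) (ha : Nat.card {g : G // orderOf g = p} = a) : 1 + a ≤ Nat.card N := by
  classical
  have := Fintype.ofFinite G
  have e : ∀ m, Nat.card {g : G // orderOf g = m} = ({g : G | orderOf g = m} : Finset G).card := by
    intro m
    rw [Nat.card_eq_fintype_card, Fintype.card_subtype]
  rw [← ha, e]
  have h1 : ({1} : Finset G).card = 1 := Finset.card_singleton _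
  rw [← h1, ← Finset.card_union_of_disjoint]
  · rw [Nat.card_eq_fintype_card, ← Fintype.card_coe]
    apply Fintype.card_le_of_injective (fun g : (({1} ∪ ({g : G | orderOf g = p} : Finset G)) : Finset G) =>
      (⟨g.1, by
        have hg := g.2
        rw [Finset.mem_union, Finset.mem_singleton, Finset.mem_filter] at hg
        rcases hg with hg | hg
        · rw [hg]; exact N.one_mem
        · exact mem_of_index N hp hg.2⟩ : N))
    intro x y hxy
    exact Subtype.ext (congrArg (fun z : N => (z : G)) hxy)
  · rw [Finset.disjoint_left]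
    intro g hg hg2
    rw [Finset.mem_singleton] at hg
    rw [Finset.mem_filter, hg, orderOf_one] at hg2
    exact hp1 hg2.2.symm

theorem iso4 (h : Nat.card G = 12) (h3 : Nat.card {g : G // orderOf g = 3} = 8) :
    Nonempty (G ≃* alternatingGroup (Fin 4)) := by
  classical
  have hG3 : Nat.card G = 3 ^ 1 * 4 := by rw [h]; norm_num
  have hc : ∀ P : Sylow 3 G, Nat.card (P : Subgroup G) = 3 := by
    intro P
    have := sylow_card_of hG3 (by norm_num) P
    rw [show Nat.card (P : Subgroup G) = 3 ^ 1 from this]; norm_num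
  have hn : Nat.card (Sylow 3 G) = 4 := by
    have := card_orderOf_eq hc
    rw [h3] at this
    omega
  have : Fintype (Sylow 3 G) := Fintype.ofFinite _
  have hN : ∀ P : Sylow 3 G, normalizer ((P : Subgroup G) : Set G) = P := by
    intro P
    symm
    apply eq_of_le_of_card_ge le_normalizer
    have h5 := card_normalizer_mul_nsyl P
    rw [hn, h] at h5
    rw [hc P]
    omega
  have hnt : Nontrivial (Sylow 3 G) := by
    rw [← Finite.one_lt_card_iff_nontrivial, hn]; norm_num
  obtain ⟨P, Q, hPQ⟩ := hnt
  have hker : (MulAction.toPermHom G (Sylow 3 G)).ker = ⊥ := by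
    rw [eq_bot_iff]
    intro g hg
    have h1 : ∀ R : Sylow 3 G, g ∈ (R : Subgroup G) := by
      intro R
      rw [← hN R]
      apply (Sylow.smul_eq_iff_mem_normalizer (P := R)).1
      exact congrArg (fun f : Equiv.Perm (Sylow 3 G) => f R) (MonoidHom.mem_ker.1 hg)
    by_contra hg1
    rw [mem_bot] at hg1
    apply hPQ
    have key : ∀ R : Sylow 3 G, (R : Subgroup G) = zpowers g := by
      intro R
      symm
      apply eq_of_le_of_card_ge (zpowers_le.2 (h1 R))
      rw [hc R]
      have h2 : Nat.card (zpowers g) ∣ 3 := by rw [← hc R]; exact card_dvd_of_le (zpowers_le.2 (h1 R))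
      rcases (Nat.dvd_prime Nat.prime_three).1 h2 with h3 | h3
      · rw [Nat.card_zpowers, orderOf_eq_one_iff] at h3
        exact absurd h3 hg1
      · rw [h3]
    apply Sylow.ext
    rw [key P, key Q]
  apply Cfsg.Agent.Lib.ClSmall.equiv_alternating_of_injective (α := Sylow 3 G) 4
    (by rw [← Nat.card_eq_fintype_card]; exact hn) (by norm_num) (MulAction.toPermHom G (Sylow 3 G))
    ((MonoidHom.ker_eq_bot_iff _).1 hker)
  rw [h]; rfl

theorem simple5 (h : Nat.card G = 60) (h3 : Nat.card {g : G // orderOf g = 3} = 20)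
    (h5 : Nat.card {g : G // orderOf g = 5} = 24) (h10 : Nat.card {g : G // orderOf g = 10} = 0)
    (h15 : Nat.card {g : G // orderOf g = 15} = 0) : IsSimpleGroup G := by
  have hnt : Nontrivial G := by
    rw [← Finite.one_lt_card_iff_nontrivial, h]; norm_num
  refine ⟨fun N hN => ?_⟩
  by_contra hcon
  push Not at hcon
  obtain ⟨hbot, htop⟩ := hcon
  have hmul := N.card_mul_index
  rw [h] at hmul
  have hidx1 : N.index ≠ 1 := fun h1 => htop (index_eq_one.1 h1)
  have hcard1 : Nat.card N ≠ 1 := fun h1 => hbot (eq_bot_of_card_eq N h1)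
  obtain ⟨x, hx⟩ := (card_ne_zero (G := G) 5).1 (by rw [h5]; norm_num)
  have hNd : Nat.card N ∣ 60 := Dvd.intro _ hmul
  have hNle : Nat.card N ≤ 60 := Nat.le_of_dvd (by norm_num) hNd
  by_cases hd5 : 5 ∣ Nat.card N
  · -- then 5 does not divide the index
    have hc5 : (5 : ℕ).Coprime N.index := by
      rw [Nat.Prime.coprime_iff_not_dvd (by norm_num)]
      intro h6
      have := Nat.mul_dvd_mul hd5 h6
      rw [hmul] at this
      revert this; decide
    have h7 := card_ge_one N 5 24 (by norm_num) hc5 h5
    have h8 : N.index = 2 := by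
      have : N.index < 3 := by
        by_contra hlt
        have : 3 ≤ N.index := by omega
        nlinarith
      have : N.index ≠ 0 := by intro h0; rw [h0] at hmul; omega
      omega
    have h9 := card_ge_two N 5 3 24 20 (by norm_num) (by norm_num) (by norm_num) hc5 (by rw [h8]; decide) h5 h3
    rw [h8] at hmul
    omega
  · by_cases hd3 : 3 ∣ Nat.card N
    · have hc3 : (3 : ℕ).Coprime N.index := by
        rw [Nat.Prime.coprime_iff_not_dvd (by norm_num)]
        intro h6
        have := Nat.mul_dvd_mul hd3 h6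
        rw [hmul] at this
        revert this; decide
      have h7 := card_ge_one N 3 20 (by norm_num) hc3 h3
      have h8 : Nat.card N ∣ 12 := by
        have : (Nat.card N).Coprime 5 := ((Nat.Prime.coprime_iff_not_dvd (by norm_num)).2 hd5).symm
        apply this.dvd_of_dvd_mul_right
        exact hNd
      have := Nat.le_of_dvd (by norm_num) h8
      omega
    · have h8 : Nat.card N ∣ 4 := by
        have e1 : (Nat.card N).Coprime 5 := ((Nat.Prime.coprime_iff_not_dvd (by norm_num)).2 hd5).symm
        have e2 : (Nat.card N).Coprime 3 := ((Nat.Prime.coprime_iff_not_dvd (by norm_num)).2 hd3).symm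
        apply (Nat.Coprime.mul_right e2 e1).dvd_of_dvd_mul_right
        exact hNd
      have hq : ∀ q : ℕ, q.Prime → q ∣ Nat.card N → q = 2 ∨ q = 3 := by
        intro q hq hqN
        left
        exact (Nat.prime_dvd_prime_iff_eq hq Nat.prime_two).1 (hq.dvd_of_dvd_pow (n := 2) (hqN.trans h8))
      have h9 := card_modEq_one_of_fpf hx N (by rw [normalizer_eq_top]; trivial) (fix_trivial hx N hq h10 h15)
      have h10 : Nat.card N ≤ 4 := Nat.le_of_dvd (by norm_num) h8
      have h11 : Nat.card N % 5 = 1 := h9
      omega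

theorem simple6 (h : Nat.card G = 360) (h3 : Nat.card {g : G // orderOf g = 3} = 80)
    (h5 : Nat.card {g : G // orderOf g = 5} = 144) (h10 : Nat.card {g : G // orderOf g = 10} = 0)
    (h15 : Nat.card {g : G // orderOf g = 15} = 0) : IsSimpleGroup G := by
  have hnt : Nontrivial G := by
    rw [← Finite.one_lt_card_iff_nontrivial, h]; norm_num
  refine ⟨fun N hN => ?_⟩
  by_contra hcon
  push Not at hcon
  obtain ⟨hbot, htop⟩ := hcon
  have hmul := N.card_mul_index
  rw [h] at hmul
  have hidx1 : N.index ≠ 1 := fun h1 => htop (index_eq_one.1 h1)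
  have hcard1 : Nat.card N ≠ 1 := fun h1 => hbot (eq_bot_of_card_eq N h1)
  obtain ⟨x, hx⟩ := (card_ne_zero (G := G) 5).1 (by rw [h5]; norm_num)
  have hNd : Nat.card N ∣ 360 := Dvd.intro _ hmul
  by_cases hd5 : 5 ∣ Nat.card N
  · have hc5 : (5 : ℕ).Coprime N.index := by
      rw [Nat.Prime.coprime_iff_not_dvd (by norm_num)]
      intro h6
      have := Nat.mul_dvd_mul hd5 h6
      rw [hmul] at this
      revert this; decide
    have h7 := card_ge_one N 5 144 (by norm_num) hc5 h5
    have h8 : N.index = 2 := by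
      have : N.index < 3 := by
        by_contra hlt
        have : 3 ≤ N.index := by omega
        nlinarith
      have : N.index ≠ 0 := by intro h0; rw [h0] at hmul; omega
      omega
    have h9 := card_ge_two N 5 3 144 80 (by norm_num) (by norm_num) (by norm_num) hc5 (by rw [h8]; decide) h5 h3
    rw [h8] at hmul
    omega
  · have h72 : Nat.card N ∣ 72 := by
      have : (Nat.card N).Coprime 5 := ((Nat.Prime.coprime_iff_not_dvd (by norm_num)).2 hd5).symm
      apply this.dvd_of_dvd_mul_right
      exact hNd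
    have hq : ∀ H : Subgroup G, Nat.card H ∣ 72 → ∀ q : ℕ, q.Prime → q ∣ Nat.card H → q = 2 ∨ q = 3 := by
      intro H hH q hq hqN
      have h1 : q ∣ 2 ^ 3 * 3 ^ 2 := (hqN.trans hH).trans (by norm_num)
      rcases (Nat.Prime.dvd_mul hq).1 h1 with h2 | h2
      · left; exact (Nat.prime_dvd_prime_iff_eq hq Nat.prime_two).1 (hq.dvd_of_dvd_pow h2)
      · right; exact (Nat.prime_dvd_prime_iff_eq hq Nat.prime_three).1 (hq.dvd_of_dvd_pow h2)
    have h9 := card_modEq_one_of_fpf hx N (by rw [normalizer_eq_top]; trivial) (fix_trivial hx N (hq N h72) h10 h15)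
    have h11 : Nat.card N % 5 = 1 := h9
    have hle : Nat.card N ≤ 72 := Nat.le_of_dvd (by norm_num) h72
    have h12 : Nat.card N = 6 ∨ Nat.card N = 36 := by
      have key : ∀ n ∈ Finset.range 73, n ∣ 72 → n % 5 = 1 → n ≠ 1 → n = 6 ∨ n = 36 := by decide
      exact key _ (Finset.mem_range.2 (by omega)) h72 h11 hcard1
    rcases h12 with h12 | h12
    · -- order 6
      have hN3 : Nat.card N = 3 ^ 1 * 2 := by rw [h12]; norm_num
      have h13 := nsyl_mem hN3 (by norm_num)
      have h14 : (Nat.divisors 2).filter (fun d => d % 3 = 1) = {1} := by decide +kernel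
      rw [h14, Finset.mem_singleton] at h13
      obtain ⟨R⟩ : Nonempty (Sylow 3 N) := inferInstance
      have hRn : (R : Subgroup N).Normal := normal_of_nsyl_eq_one h13 R
      have hRc : (R : Subgroup N).Characteristic := R.characteristic_of_normal hRn
      have hRcard : Nat.card (R : Subgroup N) = 3 := by
        have := sylow_card_of hN3 (by norm_num) R
        rw [show Nat.card (R : Subgroup N) = 3 ^ 1 from this]; norm_num
      have hM : ((R : Subgroup N).map N.subtype).Normal := inferInstance
      have hMcard : Nat.card ((R : Subgroup N).map N.subtype) = 3 := by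
        rw [Subgroup.card_map_of_injective N.subtype_injective, hRcard]
      have h16 := card_modEq_one_of_fpf hx ((R : Subgroup N).map N.subtype) (by rw [normalizer_eq_top]; trivial)
        (fix_trivial hx _ (hq _ (by rw [hMcard]; norm_num)) h10 h15)
      rw [hMcard] at h16
      revert h16; decide
    · rw [h12] at hmul
      have h17 : N.index = 10 := by omega
      have := card_ge_one N 3 80 (by norm_num) (by rw [h17]; decide) h3
      omega

theorem main {G : Type*} [Group G] [Finite G] (n : ℕ) (hn : n = 4 ∨ n = 5 ∨ n = 6)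
    (h : ((fun m : ℕ => Nat.card {g : G // orderOf g = m}) '' Set.range (orderOf : G → ℕ)) = ((fun m : ℕ => Nat.card {g : ↥(alternatingGroup (Fin n)) // orderOf g = m}) '' Set.range (orderOf : ↥(alternatingGroup (Fin n)) → ℕ))) :
    Nonempty (G ≃* ↥(alternatingGroup (Fin n))) := by
  rcases hn with rfl | rfl | rfl
  · rw [nse4] at h
    obtain ⟨h1, h2, h3, h4⟩ := final4 (data _ h)
    exact iso4 h1 h4
  · rw [nse5] at h
    obtain ⟨h0, h1, h2, h3, h4, h5, h6, h7⟩ := final5 (data _ h)
    have := simple5 h0 h3 h4 h5 h7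
    exact Cfsg.Agent.Lib.ClSmall.equiv_alternating_five h0
  · rw [nse6] at h
    obtain ⟨h0, h1, h2, h3, h4, h5, h6, h7⟩ := final6 (data _ h)
    have := simple6 h0 h3 h5 h6 h7
    exact Cfsg.Agent.Lib.H10Order360.main h0

end Cfsg.Agent.Lib.H10Nse
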