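import Mathlib
import Cfsg.Prelude.Def_Local
import Cfsg.Agent.Lib.H10CopAvg2
import Cfsg.Agent.Lib.H32PSolv

/-!
The number of `p`-elements of a `p`-solvable group.
-/

set_option autoImplicit false

namespace Cfsg.Agent.Lib.H10PElts

open Finset Subgroup Cfsg.Agent.Lib.H10CopAvg
open scoped Pointwise

universe u v

/-- the number of Sylow subgroups containing `x` -/
noncomputable def lam (p : ℕ) {G : Type u} [Group G] (x : G) : ℕ :=
  Nat.card {Q : Sylow p G // x ∈ (Q : Subgroup G)}

set_option linter.unusedSectionVars false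

section

variable {G : Type u} [Group G] [Finite G] {p : ℕ} [hp : Fact p.Prime]

theorem exists_sylow_mem {x : G} (hx : IsPGroup p (zpowers x)) (H : Subgroup G) (Q : Sylow p G)
    (hQ : (Q : Subgroup G) ≤ H) (hxH : x ∈ H) : ∃ h ∈ H, x ∈ ((h • Q : Sylow p G) : Subgroup G) := by
  have h1 : IsPGroup p (zpowers (⟨x, hxH⟩ : H)) := by
    apply hx.of_injective ((H.subtype.comp (zpowers (⟨x, hxH⟩ : H)).subtype).codRestrict (zpowers x) ?_) ?_
    · rintro ⟨_, k, rfl⟩
      exact ⟨k, by simp⟩
    · intro a b hab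
      have := congrArg Subtype.val hab
      exact Subtype.ext (Subtype.ext this)
  obtain ⟨T, hT⟩ := h1.exists_le_sylow
  obtain ⟨h, hh⟩ := MulAction.exists_smul_eq H (Q.subtype hQ) T
  refine ⟨h, h.2, ?_⟩
  have h2 : (⟨x, hxH⟩ : H) ∈ ((h • Q.subtype hQ : Sylow p H) : Subgroup H) := by
    rw [hh]; exact hT (mem_zpowers _)
  rw [Sylow.coe_subgroup_smul, Subgroup.mem_pointwise_smul_iff_inv_smul_mem] at h2 ⊢
  exact h2

theorem smul_eq_iff (N : Subgroup G) [hN : N.Normal] (hcop : (Nat.card N).Coprime p) (Q : Sylow p G)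
    {n : G} (hn : n ∈ N) : n • Q = Q ↔ n ∈ N ⊓ centralizer ((Q : Subgroup G) : Set G) := by
  rw [Sylow.smul_eq_iff_mem_normalizer]
  constructor
  · intro h
    refine ⟨hn, mem_centralizer_iff.mpr fun q hq => ?_⟩
    have h1 : n * q * n⁻¹ * q⁻¹ ∈ (Q : Subgroup G) :=
      mul_mem ((mem_normalizer_iff.mp h q).mp hq) (inv_mem hq)
    have h2 : n * q * n⁻¹ * q⁻¹ ∈ N := by
      have : n * q * n⁻¹ * q⁻¹ = n * (q * n⁻¹ * q⁻¹) := by group
      rw [this]
      exact N.mul_mem hn (hN.conj_mem _ (N.inv_mem hn) q)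
    have h3 : N ⊓ (Q : Subgroup G) = ⊥ := by
      apply disjoint_iff.mp
      apply Subgroup.disjoint_of_coprime_natCard
      obtain ⟨k, hk⟩ := IsPGroup.iff_card.mp Q.isPGroup'
      rw [hk]
      exact Nat.Coprime.pow_right k hcop
    have h4 : n * q * n⁻¹ * q⁻¹ ∈ N ⊓ (Q : Subgroup G) := ⟨h2, h1⟩
    rw [h3, mem_bot] at h4
    calc q * n = (n * q * n⁻¹ * q⁻¹) * (q * n) := by rw [h4, one_mul]
      _ = n * q := by group
  · intro h
    exact centralizer_le_normalizer _ h.2

/-- two Sylow subgroups containing `x` with equal image modulo `N` are conjugate in `C_N(x)` -/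
theorem exists_smul_eq (N : Subgroup G) [hN : N.Normal] (hcop : (Nat.card N).Coprime p)
    {Q Q' : Sylow p G} {x : G} (hx : x ∈ (Q : Subgroup G)) (hx' : x ∈ (Q' : Subgroup G))
    (h : (Q : Subgroup G).map (QuotientGroup.mk' N) = (Q' : Subgroup G).map (QuotientGroup.mk' N)) :
    ∃ n ∈ cE N x, n • Q = Q' := by
  have hQ' : (Q' : Subgroup G) ≤ N ⊔ Q := by
    intro y hy
    have h1 : QuotientGroup.mk' N y ∈ (Q : Subgroup G).map (QuotientGroup.mk' N) := by
      rw [h]; exact mem_map_of_mem _ hy
    obtain ⟨q, hq, hqy⟩ := h1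
    have h2 : q⁻¹ * y ∈ N := QuotientGroup.eq.mp hqy
    have h3 : y = q * (q⁻¹ * y) := by group
    rw [h3]
    exact mul_mem ((le_sup_right : (Q : Subgroup G) ≤ N ⊔ Q) hq) ((le_sup_left : N ≤ N ⊔ Q) h2)
  have hQ : (Q : Subgroup G) ≤ N ⊔ Q := le_sup_right
  obtain ⟨g, hg⟩ := MulAction.exists_smul_eq (N ⊔ Q : Subgroup G) (Q.subtype hQ) (Q'.subtype hQ')
  have hg' : (g : G) • Q = Q' := by
    apply Sylow.ext
    have h1 := congrArg (fun T : Sylow p (N ⊔ Q : Subgroup G) =>
      (T : Subgroup (N ⊔ Q : Subgroup G)).map (N ⊔ Q : Subgroup G).subtype) hg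
    have h2 : ((Q'.subtype hQ' : Sylow p (N ⊔ Q : Subgroup G)) : Subgroup (N ⊔ Q : Subgroup G)).map
        (N ⊔ Q : Subgroup G).subtype = Q' := map_subgroupOf_eq_of_le hQ'
    simp only [h2] at h1
    rw [← h1]
    ext y
    rw [Sylow.coe_subgroup_smul, Subgroup.mem_pointwise_smul_iff_inv_smul_mem]
    constructor
    · intro hy
      have hy1 : (g : G)⁻¹ * y * g ∈ (Q : Subgroup G) := by
        have := hy
        rwa [← MulAut.conj_inv_apply]
      have hyN : y ∈ (N ⊔ Q : Subgroup G) := by
        have : y = g * ((g : G)⁻¹ * y * g) * (g : G)⁻¹ := by group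
        rw [this]
        exact mul_mem (mul_mem g.2 (hQ hy1)) (inv_mem g.2)
      refine ⟨⟨y, hyN⟩, ?_, rfl⟩
      rw [SetLike.mem_coe, Sylow.coe_subgroup_smul, Subgroup.mem_pointwise_smul_iff_inv_smul_mem]
      exact hy1
    · rintro ⟨⟨y, hyN⟩, hy, rfl⟩
      rw [SetLike.mem_coe, Sylow.coe_subgroup_smul,
        Subgroup.mem_pointwise_smul_iff_inv_smul_mem] at hy
      exact hy
  obtain ⟨n, hn, q, hq, hnq⟩ := mem_sup_of_normal_left.mp g.2
  have hnQ : n • Q = Q' := by
    rw [← hg', ← hnq, mul_smul]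
    congr 1
    exact (Sylow.smul_eq_iff_mem_normalizer.mpr (le_normalizer hq)).symm
  refine ⟨n, mem_cE.mpr ⟨hn, ?_⟩, hnQ⟩
  have h1 : n⁻¹ * x * n ∈ (Q : Subgroup G) := by
    rw [← hnQ, Sylow.coe_subgroup_smul, Subgroup.mem_pointwise_smul_iff_inv_smul_mem] at hx'
    exact hx'
  have h2 : n⁻¹ * x * n * x⁻¹ ∈ N := by
    have : n⁻¹ * x * n * x⁻¹ = n⁻¹ * (x * n * x⁻¹) := by group
    rw [this]
    exact N.mul_mem (N.inv_mem hn) (hN.conj_mem _ hn x)
  have h3 : N ⊓ (Q : Subgroup G) = ⊥ := by
    apply disjoint_iff.mp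
    apply Subgroup.disjoint_of_coprime_natCard
    obtain ⟨k, hk⟩ := IsPGroup.iff_card.mp Q.isPGroup'
    rw [hk]
    exact Nat.Coprime.pow_right k hcop
  have h4 : n⁻¹ * x * n * x⁻¹ ∈ N ⊓ (Q : Subgroup G) :=
    ⟨h2, (Q : Subgroup G).mul_mem h1 ((Q : Subgroup G).inv_mem hx)⟩
  rw [h3, mem_bot] at h4
  calc n * x = n * (n⁻¹ * x * n * x⁻¹) * x := by rw [h4, mul_one]
    _ = x * n := by group

theorem card_cen_eq (N : Subgroup G) [hN : N.Normal] (P Q : Sylow p G) :
    Nat.card (N ⊓ centralizer ((Q : Subgroup G) : Set G) : Subgroup G) =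
      Nat.card (N ⊓ centralizer ((P : Subgroup G) : Set G) : Subgroup G) := by
  obtain ⟨g, rfl⟩ := MulAction.exists_smul_eq G Q P
  have h1 : (N ⊓ centralizer (((g • Q : Sylow p G) : Subgroup G) : Set G) : Subgroup G) =
      MulAut.conj g • (N ⊓ centralizer ((Q : Subgroup G) : Set G) : Subgroup G) := by
    ext y
    rw [Subgroup.mem_pointwise_smul_iff_inv_smul_mem]
    have h2 : (MulAut.conj g)⁻¹ • y = g⁻¹ * y * g := MulAut.conj_inv_apply _ _
    rw [h2]
    constructor
    · rintro ⟨hy, hy'⟩
      refine ⟨?_, mem_centralizer_iff.mpr fun q hq => ?_⟩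
      · have := hN.conj_mem y hy g⁻¹
        rwa [inv_inv] at this
      · have h3 : g * q * g⁻¹ ∈ ((g • Q : Sylow p G) : Subgroup G) := by
          rw [Sylow.coe_subgroup_smul, Subgroup.mem_pointwise_smul_iff_inv_smul_mem]
          change g⁻¹ * (g * q * g⁻¹) * g ∈ (Q : Subgroup G)
          rwa [show g⁻¹ * (g * q * g⁻¹) * g = q by group]
        have h4 := mem_centralizer_iff.mp hy' _ h3
        calc q * (g⁻¹ * y * g) = g⁻¹ * (g * q * g⁻¹ * y) * g := by group
          _ = g⁻¹ * (y * (g * q * g⁻¹)) * g := by rw [h4]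
          _ = g⁻¹ * y * g * q := by group
    · rintro ⟨hy, hy'⟩
      refine ⟨?_, mem_centralizer_iff.mpr fun q hq => ?_⟩
      · have := hN.conj_mem _ hy g
        rwa [show g * (g⁻¹ * y * g) * g⁻¹ = y by group] at this
      · have h3 : g⁻¹ * q * g ∈ (Q : Subgroup G) := by
          rw [SetLike.mem_coe, Sylow.coe_subgroup_smul,
            Subgroup.mem_pointwise_smul_iff_inv_smul_mem] at hq
          exact hq
        have h4 := mem_centralizer_iff.mp hy' _ h3
        calc q * y = g * (g⁻¹ * q * g * (g⁻¹ * y * g)) * g⁻¹ := by group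
          _ = g * (g⁻¹ * y * g * (g⁻¹ * q * g)) * g⁻¹ := by rw [h4]
          _ = y * q := by group
  rw [h1]
  exact Nat.card_congr (Subgroup.equivSMul (MulAut.conj g) _).toEquiv

/-- the counting formula -/
theorem lam_mul (N : Subgroup G) [hN : N.Normal] (hcop : (Nat.card N).Coprime p) (P : Sylow p G)
    {x : G} (hx : IsPGroup p (zpowers x)) :
    lam p x * Nat.card (N ⊓ centralizer ((P : Subgroup G) : Set G) : Subgroup G) =
      lam p (QuotientGroup.mk' N x) * Nat.card (cE N x) := by
  classical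
  have hsurj := QuotientGroup.mk'_surjective N
  let X := {Q : Sylow p G // x ∈ (Q : Subgroup G)}
  let Y := {Q : Sylow p (G ⧸ N) // QuotientGroup.mk' N x ∈ (Q : Subgroup (G ⧸ N))}
  let Φ : X → Y := fun Q => ⟨Q.1.mapSurjective hsurj, mem_map_of_mem _ Q.2⟩
  have hX : Fintype X := Fintype.ofFinite X
  have hY : Fintype Y := Fintype.ofFinite Y
  have hΦ : Function.Surjective Φ := by
    rintro ⟨R, hR⟩
    obtain ⟨Q, hQ⟩ := Sylow.mapSurjective_surjective hsurj p R
    have hQH : (Q : Subgroup G) ≤ (R : Subgroup (G ⧸ N)).comap (QuotientGroup.mk' N) := by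
      rw [← hQ]
      exact le_comap_map _ _
    obtain ⟨h, hh, hxh⟩ := exists_sylow_mem hx _ Q hQH hR
    refine ⟨⟨h • Q, hxh⟩, Subtype.ext (Sylow.ext ?_)⟩
    change ((h • Q : Sylow p G) : Subgroup G).map (QuotientGroup.mk' N) = R
    have h1 : ((h • Q : Sylow p G) : Subgroup G).map (QuotientGroup.mk' N) =
        MulAut.conj (QuotientGroup.mk' N h) • ((Q : Subgroup G).map (QuotientGroup.mk' N)) := by
      ext y
      constructor
      · rintro ⟨g, hg, rfl⟩
        rw [SetLike.mem_coe, Sylow.coe_subgroup_smul,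
          Subgroup.mem_pointwise_smul_iff_inv_smul_mem] at hg
        rw [Subgroup.mem_pointwise_smul_iff_inv_smul_mem]
        refine ⟨h⁻¹ * g * h, hg, ?_⟩
        have h5 : (MulAut.conj (QuotientGroup.mk' N h))⁻¹ • (QuotientGroup.mk' N g) =
            (QuotientGroup.mk' N h)⁻¹ * QuotientGroup.mk' N g * QuotientGroup.mk' N h :=
          MulAut.conj_inv_apply _ _
        rw [map_mul, map_mul, map_inv]
        exact h5.symm
      · intro hy
        rw [Subgroup.mem_pointwise_smul_iff_inv_smul_mem] at hy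
        obtain ⟨g, hg, hgy⟩ := hy
        have hgy' : QuotientGroup.mk' N g =
            (QuotientGroup.mk' N h)⁻¹ * y * QuotientGroup.mk' N h := hgy
        refine ⟨h * g * h⁻¹, ?_, ?_⟩
        · rw [SetLike.mem_coe, Sylow.coe_subgroup_smul,
            Subgroup.mem_pointwise_smul_iff_inv_smul_mem]
          change h⁻¹ * (h * g * h⁻¹) * h ∈ (Q : Subgroup G)
          rwa [show h⁻¹ * (h * g * h⁻¹) * h = g by group]
        · rw [map_mul, map_mul, hgy', map_inv]
          group
    rw [h1]
    have h2 : (Q : Subgroup G).map (QuotientGroup.mk' N) = R := congrArg Sylow.toSubgroup hQ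
    rw [h2]
    exact Subgroup.conj_smul_eq_self_of_mem hh
  -- fibres
  have hfib : ∀ y : Y, (univ.filter fun Q => Φ Q = y).card *
      Nat.card (N ⊓ centralizer ((P : Subgroup G) : Set G) : Subgroup G) = Nat.card (cE N x) := by
    intro y
    obtain ⟨⟨Q, hxQ⟩, rfl⟩ := hΦ y
    have h1 := Subgroup.card_mul_index (MulAction.stabilizer (cE N x) Q)
    have h2 : (MulAction.stabilizer (cE N x) Q).index = Nat.card (MulAction.orbit (cE N x) Q) :=
      MulAction.index_stabilizer _ _
    have h3 : Nat.card (MulAction.orbit (cE N x) Q) =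
        (univ.filter fun Q' => Φ Q' = Φ ⟨Q, hxQ⟩).card := by
      rw [← Fintype.card_subtype, ← Nat.card_eq_fintype_card]
      apply Nat.card_congr
      symm
      refine Equiv.ofBijective (fun Q' => ⟨Q'.1.1, ?_⟩) ⟨?_, ?_⟩
      · have h5 : (Q'.1.1 : Subgroup G).map (QuotientGroup.mk' N) =
            (Q : Subgroup G).map (QuotientGroup.mk' N) :=
          congrArg (fun T : Y => (T.1 : Subgroup (G ⧸ N))) Q'.2
        obtain ⟨d, hd, hdQ⟩ := exists_smul_eq N hcop hxQ Q'.1.2 h5.symm
        exact ⟨⟨d, hd⟩, hdQ⟩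
      · intro a b hab
        have h7 := congrArg Subtype.val hab
        exact Subtype.ext (Subtype.ext h7)
      · rintro ⟨R, ⟨d, hd⟩, rfl⟩
        have hdx := (mem_cE.mp hd).2
        have hdN := (mem_cE.mp hd).1
        have h6 : x ∈ ((d • Q : Sylow p G) : Subgroup G) := by
          rw [Sylow.coe_subgroup_smul, Subgroup.mem_pointwise_smul_iff_inv_smul_mem]
          change d⁻¹ * x * d ∈ (Q : Subgroup G)
          rwa [mul_assoc, ← hdx, inv_mul_cancel_left]
        refine ⟨⟨⟨d • Q, h6⟩, ?_⟩, rfl⟩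
        apply Subtype.ext
        apply Sylow.ext
        change ((d • Q : Sylow p G) : Subgroup G).map (QuotientGroup.mk' N) =
          (Q : Subgroup G).map (QuotientGroup.mk' N)
        have hd1 : (QuotientGroup.mk' N) d = 1 := (QuotientGroup.eq_one_iff d).mpr hdN
        ext y
        constructor
        · rintro ⟨g, hg, rfl⟩
          rw [SetLike.mem_coe, Sylow.coe_subgroup_smul,
            Subgroup.mem_pointwise_smul_iff_inv_smul_mem] at hg
          refine ⟨d⁻¹ * g * d, hg, ?_⟩
          rw [map_mul, map_mul, map_inv, hd1]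
          group
        · rintro ⟨g, hg, rfl⟩
          refine ⟨d * g * d⁻¹, ?_, ?_⟩
          · rw [SetLike.mem_coe, Sylow.coe_subgroup_smul,
              Subgroup.mem_pointwise_smul_iff_inv_smul_mem]
            change d⁻¹ * (d * g * d⁻¹) * d ∈ (Q : Subgroup G)
            rwa [show d⁻¹ * (d * g * d⁻¹) * d = g by group]
          · rw [map_mul, map_mul, map_inv, hd1]
            group
    have h4 : Nat.card (MulAction.stabilizer (cE N x) Q) =
        Nat.card (N ⊓ centralizer ((P : Subgroup G) : Set G) : Subgroup G) := by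
      rw [← card_cen_eq N P Q]
      apply Nat.card_congr
      refine Equiv.ofBijective (fun d => ⟨d.1.1, ?_⟩) ⟨?_, ?_⟩
      · exact (smul_eq_iff N hcop Q (mem_cE.mp d.1.2).1).mp d.2
      · intro a b hab
        have h7 := congrArg Subtype.val hab
        exact Subtype.ext (Subtype.ext h7)
      · rintro ⟨d, hd⟩
        exact ⟨⟨⟨d, mem_cE.mpr ⟨hd.1, (mem_centralizer_iff.mp hd.2 x hxQ).symm⟩⟩,
          (smul_eq_iff N hcop Q hd.1).mpr hd⟩, rfl⟩
    rw [← h3, ← h2, ← h4, mul_comm, h1]
  have h1 : Fintype.card X = ∑ y : Y, (univ.filter fun Q => Φ Q = y).card := by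
    rw [← card_univ]
    exact card_eq_sum_card_fiberwise (fun _ _ => mem_univ _)
  have h2 : lam p x = Fintype.card X := Nat.card_eq_fintype_card
  have h3 : lam p (QuotientGroup.mk' N x) = Fintype.card Y := Nat.card_eq_fintype_card
  rw [h2, h3, h1, sum_mul, sum_congr rfl (fun y _ => hfib y), sum_const, card_univ, smul_eq_mul]

theorem le_sylow_of_normal (N : Subgroup G) [hN : N.Normal] (hNp : IsPGroup p N) (Q : Sylow p G) :
    N ≤ Q := by
  obtain ⟨T, hT⟩ := hNp.exists_le_sylow
  obtain ⟨g, rfl⟩ := MulAction.exists_smul_eq G T Q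
  intro n hn
  rw [Sylow.coe_subgroup_smul, Subgroup.mem_pointwise_smul_iff_inv_smul_mem]
  apply hT
  have := hN.conj_mem n hn g⁻¹
  rw [inv_inv] at this
  exact this

theorem lam_eq_of_pGroup (N : Subgroup G) [hN : N.Normal] (hNp : IsPGroup p N) (x : G) :
    lam p (QuotientGroup.mk' N x) = lam p x := by
  have hsurj := QuotientGroup.mk'_surjective N
  symm
  apply Nat.card_congr
  have hmem : ∀ (Q : Sylow p G) (y : G),
      QuotientGroup.mk' N y ∈ (Q : Subgroup G).map (QuotientGroup.mk' N) → y ∈ (Q : Subgroup G) := by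
    rintro Q y ⟨q, hq, hqy⟩
    have h1 : q⁻¹ * y ∈ N := QuotientGroup.eq.mp hqy
    have h2 := mul_mem hq (le_sylow_of_normal N hNp Q h1)
    rwa [mul_inv_cancel_left] at h2
  refine Equiv.ofBijective (fun Q => ⟨Q.1.mapSurjective hsurj, mem_map_of_mem _ Q.2⟩) ⟨?_, ?_⟩
  · intro Q Q' h
    have h7 := congrArg Subtype.val h
    have h8 : (Q.1 : Subgroup G).map (QuotientGroup.mk' N) =
      (Q'.1 : Subgroup G).map (QuotientGroup.mk' N) := congrArg Sylow.toSubgroup h7
    apply Subtype.ext
    apply Sylow.ext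
    ext y
    constructor
    · intro hy
      apply hmem
      rw [← h8]
      exact mem_map_of_mem _ hy
    · intro hy
      apply hmem
      rw [h8]
      exact mem_map_of_mem _ hy
  · rintro ⟨R, hR⟩
    obtain ⟨Q, rfl⟩ := Sylow.mapSurjective_surjective hsurj p R
    exact ⟨⟨Q, hmem Q x hR⟩, rfl⟩

theorem exists_normal (h : IsPSolvable p G) (hG : (⊤ : Subgroup G) ≠ ⊥) :
    ∃ N : Subgroup G, N.Normal ∧ N ≠ ⊥ ∧ (IsPGroup p N ∨ (Nat.card N).Coprime p) := by
  obtain ⟨n, H, h0, hn, hmono, hnorm, hstep⟩ := h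
  by_contra hcon
  have hall : ∀ i, H i = ⊥ := by
    intro i
    induction i using Fin.induction with
    | zero => exact h0
    | succ j ih =>
      by_contra hne
      have h2 := hstep j
      rw [ih, relIndex_bot_left] at h2
      rcases h2 with ⟨m, hm⟩ | h2
      · exact hcon ⟨_, hnorm _, hne, Or.inl (IsPGroup.of_card hm)⟩
      · exact hcon ⟨_, hnorm _, hne, Or.inr h2⟩
  exact hG (hn ▸ hall _)

theorem lam_pos {x : G} (hx : IsPGroup p (zpowers x)) : 0 < lam p x := by
  obtain ⟨Q, hQ⟩ := hx.exists_le_sylow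
  have : Nonempty {Q : Sylow p G // x ∈ (Q : Subgroup G)} := ⟨⟨Q, hQ (mem_zpowers x)⟩⟩
  exact Nat.card_pos

theorem isPGroup_zpowers_map {A : Type v} [Group A] (hA : IsPGroup p A) (f : A →* G) (a : A) :
    IsPGroup p (zpowers (f a)) := by
  have h1 : IsPGroup p f.range := hA.of_surjective f.rangeRestrict f.rangeRestrict_surjective
  exact h1.to_le (zpowers_le.mpr ⟨a, rfl⟩)

end

theorem main_log {p : ℕ} [hp : Fact p.Prime] {A : Type v} [Group A] [Fintype A]
    (hA : IsPGroup p A) : ∀ (n : ℕ) (G : Type u) [Group G] [Finite G], Nat.card G = n →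
    IsPSolvable p G → ∀ (f : A →* G) (P : Sylow p G), f.range = (P : Subgroup G) →
    (p : ℝ) * ∑ a : A, Real.log (lam p (f a)) ≤ Fintype.card A * Real.log (lam p (1 : G)) := by
  intro n
  induction n using Nat.strong_induction_on with
  | _ n ih =>
  intro G _ _ hn hG f P hf
  by_cases htop : (⊤ : Subgroup G) = ⊥
  · have hsub : Subsingleton G := by
      constructor
      intro a b
      have ha : a ∈ (⊥ : Subgroup G) := htop ▸ mem_top a
      have hb : b ∈ (⊥ : Subgroup G) := htop ▸ mem_top b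
      rw [mem_bot.mp ha, mem_bot.mp hb]
    have h1 : ∀ x : G, lam p x = 1 := by
      intro x
      have h2 : 0 < lam p x := by
        obtain rfl : x = 1 := Subsingleton.elim _ _
        apply lam_pos
        rw [zpowers_one_eq_bot]
        exact IsPGroup.of_bot
      have h3 : lam p x ≤ 1 := by
        have : Subsingleton {Q : Sylow p G // x ∈ (Q : Subgroup G)} := by
          constructor
          rintro ⟨Q, _⟩ ⟨Q', _⟩
          apply Subtype.ext
          apply Sylow.ext
          exact Subsingleton.elim _ _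
        exact Finite.card_le_one_iff_subsingleton.mpr this
      omega
    simp [h1]
  · obtain ⟨N, hN, hN1, hNc⟩ := exists_normal hG htop
    have hlt : Nat.card (G ⧸ N) < n := by
      rw [← hn, card_eq_card_quotient_mul_card_subgroup N]
      have h1 : 1 < Nat.card N := by
        have := (Subgroup.one_lt_card_iff_ne_bot N).mpr hN1
        exact this
      have h2 : 0 < Nat.card (G ⧸ N) := Nat.card_pos
      nlinarith
    have hIH := ih _ hlt (G ⧸ N) rfl (H32PSolv.isPSolvable_quotient hG N)
      ((QuotientGroup.mk' N).comp f) (P.mapSurjective (QuotientGroup.mk'_surjective N)) (by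
        rw [MonoidHom.range_comp, hf]; rfl)
    simp only [MonoidHom.comp_apply] at hIH
    rw [← map_one (QuotientGroup.mk' N)] at hIH
    rcases hNc with hNp | hcop
    · simp only [lam_eq_of_pGroup N hNp] at hIH
      exact hIH
    · have hineq := ineq hA f N (fun a => by
        rw [normalizer_eq_top]; exact mem_top _) hcop
      have hcA : Nat.card (cA f N) = Nat.card (N ⊓ centralizer ((P : Subgroup G) : Set G) : Subgroup G) := by
        rw [cA, hf]
      have hcpos : 0 < Nat.card (cA f N) := Nat.card_pos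
      have hone : ∀ x : G, IsPGroup p (zpowers x) → Real.log (lam p x) + Real.log (Nat.card (cA f N)) =
          Real.log (lam p (QuotientGroup.mk' N x)) + Real.log (Nat.card (cE N x)) := by
        intro x hx
        have h1 := lam_mul N hcop P hx
        rw [← hcA] at h1
        have h2 : 0 < lam p x := lam_pos hx
        have h3 : 0 < lam p (QuotientGroup.mk' N x) := by
          rcases Nat.eq_zero_or_pos (lam p (QuotientGroup.mk' N x)) with h | h
          · rw [h, zero_mul] at h1
            have := Nat.mul_pos h2 hcpos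
            omega
          · exact h
        have h4 : 0 < Nat.card (cE N x) := Nat.card_pos
        rw [← Real.log_mul (by positivity) (by positivity), ← Real.log_mul (by positivity) (by positivity)]
        exact_mod_cast congrArg (fun k : ℕ => Real.log k) h1
      have h1 := hone 1 (by rw [zpowers_one_eq_bot]; exact IsPGroup.of_bot)
      have h2 : cE N (1 : G) = N := by
        rw [cE]
        apply inf_eq_left.mpr
        intro y _
        rw [mem_centralizer_singleton_iff]
        simp
      rw [h2] at h1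
      have h3 : ∑ a : A, Real.log (lam p (f a)) = ∑ a : A, Real.log (lam p (QuotientGroup.mk' N (f a)))
          + ∑ a : A, Real.log (Nat.card (cE N (f a))) - Fintype.card A * Real.log (Nat.card (cA f N)) := by
        have h4 : ∀ a : A, Real.log (lam p (f a)) = Real.log (lam p (QuotientGroup.mk' N (f a)))
            + Real.log (Nat.card (cE N (f a))) - Real.log (Nat.card (cA f N)) := by
          intro a
          have := hone (f a) (isPGroup_zpowers_map hA f a)
          linarith
        rw [sum_congr rfl (fun a _ => h4 a), sum_sub_distrib, sum_add_distrib, sum_const, card_univ,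
          nsmul_eq_mul]
      rw [Ineq] at hineq
      have h5 : Real.log (lam p (1 : G)) = Real.log (lam p (QuotientGroup.mk' N 1)) +
          Real.log (Nat.card N) - Real.log (Nat.card (cA f N)) := by linarith
      rw [h3, h5]
      nlinarith [hIH, hineq]

section final

variable {G : Type u} [Group G] [Finite G] {p : ℕ} [hp : Fact p.Prime]

theorem lam_conj (h x : G) : lam p (h * x * h⁻¹) = lam p x := by
  symm
  apply Nat.card_congr
  refine Equiv.ofBijective (fun Q => ⟨h • Q.1, ?_⟩) ⟨?_, ?_⟩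
  · rw [Sylow.coe_subgroup_smul, Subgroup.mem_pointwise_smul_iff_inv_smul_mem]
    change h⁻¹ * (h * x * h⁻¹) * h ∈ (Q.1 : Subgroup G)
    rw [show h⁻¹ * (h * x * h⁻¹) * h = x by group]
    exact Q.2
  · intro a b hab
    have h7 := congrArg Subtype.val hab
    exact Subtype.ext (smul_left_cancel h h7)
  · rintro ⟨Q, hQ⟩
    refine ⟨⟨h⁻¹ • Q, ?_⟩, ?_⟩
    · rw [Sylow.coe_subgroup_smul, Subgroup.mem_pointwise_smul_iff_inv_smul_mem]
      have h5 : (MulAut.conj h⁻¹)⁻¹ • x = h * x * h⁻¹ := by
        rw [map_inv, inv_inv]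
        rfl
      rw [h5]
      exact hQ
    · apply Subtype.ext
      exact smul_inv_smul h Q

theorem sum_lam [Fintype G] [Fintype (Sylow p G)] [∀ H : Subgroup G, Fintype H] (g : G → ℝ) :
    ∑ x : G, (lam p x : ℝ) * g x = ∑ Q : Sylow p G, ∑ x : (Q : Subgroup G), g x := by
  classical
  have h1 : ∀ x : G, (lam p x : ℝ) = ∑ Q : Sylow p G, if x ∈ (Q : Subgroup G) then (1 : ℝ) else 0 := by
    intro x
    rw [lam, Nat.card_eq_fintype_card, Fintype.card_subtype, card_filter]
    push_cast
    rfl
  have h2 : ∀ Q : Sylow p G, ∑ x : (Q : Subgroup G), g x =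
      ∑ x : G, if x ∈ (Q : Subgroup G) then g x else 0 := by
    intro Q
    rw [← sum_filter]
    symm
    apply sum_subtype
    intro x
    simp
  rw [sum_congr rfl (fun Q _ => h2 Q), sum_comm]
  apply sum_congr rfl
  intro x _
  rw [h1, sum_mul]
  apply sum_congr rfl
  intro Q _
  split_ifs <;> simp

theorem sum_sylow [Fintype G] [Fintype (Sylow p G)] [∀ H : Subgroup G, Fintype H] (P : Sylow p G) (g : G → ℝ)
    (hg : ∀ h x, g (h * x * h⁻¹) = g x) :
    ∑ Q : Sylow p G, ∑ x : (Q : Subgroup G), g x =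
      Fintype.card (Sylow p G) * ∑ x : (P : Subgroup G), g x := by
  have h1 : ∀ Q : Sylow p G, ∑ x : (Q : Subgroup G), g x = ∑ x : (P : Subgroup G), g x := by
    intro Q
    obtain ⟨h, rfl⟩ := MulAction.exists_smul_eq G P Q
    symm
    apply Fintype.sum_equiv (Subgroup.equivSMul (MulAut.conj h) (P : Subgroup G)).toEquiv
    intro x
    exact (hg h x).symm
  rw [sum_congr rfl (fun Q _ => h1 Q), sum_const, card_univ, nsmul_eq_mul]

theorem final (hG : IsPSolvable p G) (P : Sylow p G) :
    Nat.card (P : Subgroup G) ^ p * Nat.card (Sylow p G) ^ (p - 1) ≤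
      Nat.card {g : G // ∃ k : ℕ, orderOf g = p ^ k} ^ p := by
  classical
  let _ : Fintype G := Fintype.ofFinite G
  let _ : Fintype (Sylow p G) := Fintype.ofFinite _
  let _ : ∀ H : Subgroup G, Fintype H := fun H => Fintype.ofFinite H
  set U : Finset G := univ.filter fun g : G => ∃ k : ℕ, orderOf g = p ^ k with hU
  have hu : Nat.card {g : G // ∃ k : ℕ, orderOf g = p ^ k} = U.card := by
    rw [Nat.card_eq_fintype_card, Fintype.card_subtype]
  have hUmem : ∀ g, g ∈ U ↔ IsPGroup p (zpowers g) := by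
    intro g
    rw [hU, mem_filter, IsPGroup.iff_card, Nat.card_zpowers]
    simp
  have hlam1 : lam p (1 : G) = Fintype.card (Sylow p G) := by
    rw [lam, ← Nat.card_eq_fintype_card]
    exact Nat.card_congr (Equiv.subtypeUnivEquiv fun Q => one_mem _)
  have hnU : ∀ x, x ∉ U → lam p x = 0 := by
    intro x hx
    rw [hUmem] at hx
    rw [lam]
    have : IsEmpty {Q : Sylow p G // x ∈ (Q : Subgroup G)} := by
      constructor
      rintro ⟨Q, hQ⟩
      exact hx (Q.isPGroup'.to_le (zpowers_le.mpr hQ))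
    exact Nat.card_of_isEmpty
  have hupos : 0 < U.card := card_pos.mpr ⟨1, by
    rw [hUmem, zpowers_one_eq_bot]; exact IsPGroup.of_bot⟩
  have hnpos : 0 < Fintype.card (Sylow p G) := Fintype.card_pos
  have hPpos : 0 < Fintype.card (P : Subgroup G) := Fintype.card_pos
  set u : ℝ := (U.card : ℝ) with hudef
  set nn : ℝ := (Fintype.card (Sylow p G) : ℝ) with hnn
  set q : ℝ := (Fintype.card (P : Subgroup G) : ℝ) with hq
  have hu0 : 0 < u := by rw [hudef]; exact_mod_cast hupos
  have hn0 : 0 < nn := by rw [hnn]; exact_mod_cast hnpos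
  have hq0 : 0 < q := by rw [hq]; exact_mod_cast hPpos
  -- total mass
  have hmass : ∑ x : G, (lam p x : ℝ) = nn * q := by
    have h1 := sum_lam (p := p) (G := G) (fun _ => (1 : ℝ))
    rw [sum_sylow P (fun _ => (1 : ℝ)) (fun _ _ => rfl)] at h1
    simpa using h1
  have hlog := sum_lam (p := p) (G := G) (fun x => Real.log (lam p x))
  rw [sum_sylow P (fun x => Real.log (lam p x)) (fun h x => by rw [lam_conj])] at hlog
  have hmain := main_log P.isPGroup' _ G rfl hG (P : Subgroup G).subtype P (by simp)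
  rw [hlam1] at hmain
  simp only [coe_subtype] at hmain
  -- the pointwise inequality
  have hpt : ∀ x ∈ U, (lam p x : ℝ) * (Real.log (nn * q) - Real.log u - Real.log (lam p x)) ≤
      nn * q / u - lam p x := by
    intro x hx
    have hl : (0 : ℝ) < lam p x := by exact_mod_cast lam_pos ((hUmem x).mp hx)
    have h1 := Real.log_le_sub_one_of_pos (show 0 < nn * q / (u * lam p x) by positivity)
    rw [Real.log_div (by positivity) (by positivity), Real.log_mul hu0.ne' hl.ne'] at h1
    have h2 : (lam p x : ℝ) * (nn * q / (u * lam p x) - 1) = nn * q / u - lam p x := by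
      field_simp
    rw [← h2]
    apply mul_le_mul_of_nonneg_left _ hl.le
    linarith
  have hsum := sum_le_sum hpt
  have hU1 : ∀ g : G → ℝ, ∑ x ∈ U, (lam p x : ℝ) * g x = ∑ x : G, (lam p x : ℝ) * g x := by
    intro g
    apply sum_subset (subset_univ _)
    intro x _ hx
    rw [hnU x hx]
    simp
  rw [hU1, sum_sub_distrib, sum_const, nsmul_eq_mul] at hsum
  have h3 : ∑ x ∈ U, (lam p x : ℝ) = nn * q := by
    rw [← hmass]
    have := hU1 (fun _ => 1)
    simpa using this
  rw [h3] at hsum
  have h4 : (U.card : ℝ) * (nn * q / u) = nn * q := by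
    rw [← hudef]; field_simp
  rw [h4, sub_self] at hsum
  have h5 : ∑ x : G, (lam p x : ℝ) * (Real.log (nn * q) - Real.log u - Real.log (lam p x)) =
      nn * q * (Real.log (nn * q) - Real.log u) - nn * ∑ x : (P : Subgroup G), Real.log (lam p (x : G)) := by
    have h6 : ∀ x : G, (lam p x : ℝ) * (Real.log (nn * q) - Real.log u - Real.log (lam p x)) =
        (lam p x : ℝ) * (Real.log (nn * q) - Real.log u) - (lam p x : ℝ) * Real.log (lam p x) := by
      intro x; ring
    rw [sum_congr rfl (fun x _ => h6 x), sum_sub_distrib, ← sum_mul, hmass, hlog]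
  rw [h5] at hsum
  have hp1 : 1 ≤ p := hp.out.one_lt.le
  have hp0 : (0 : ℝ) < p := by exact_mod_cast hp.out.pos
  rw [Real.log_mul hn0.ne' hq0.ne'] at hsum
  -- p * (log q) + (p-1) log n <= p log u
  have h7 : (p : ℝ) * Real.log q + (p - 1) * Real.log nn ≤ p * Real.log u := by
    have h8 : q * (Real.log nn + Real.log q - Real.log u) ≤ ∑ x : (P : Subgroup G), Real.log (lam p (x : G)) := by
      have : nn * (q * (Real.log nn + Real.log q - Real.log u)) ≤
          nn * ∑ x : (P : Subgroup G), Real.log (lam p (x : G)) := by linarith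
      exact le_of_mul_le_mul_left this hn0
    have h9 : (p : ℝ) * (q * (Real.log nn + Real.log q - Real.log u)) ≤ q * Real.log nn := by
      calc _ ≤ (p : ℝ) * ∑ x : (P : Subgroup G), Real.log (lam p (x : G)) :=
            mul_le_mul_of_nonneg_left h8 hp0.le
        _ ≤ _ := hmain
    have h10 : q * (p * (Real.log nn + Real.log q - Real.log u)) ≤ q * Real.log nn := by linarith
    have h11 := le_of_mul_le_mul_left h10 hq0
    linarith
  have h12 : Real.log (q ^ p * nn ^ (p - 1)) ≤ Real.log (u ^ p) := by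
    rw [Real.log_mul (by positivity) (by positivity), Real.log_pow, Real.log_pow, Real.log_pow,
      Nat.cast_sub hp1, Nat.cast_one]
    exact h7
  rw [Real.log_le_log_iff (by positivity) (by positivity)] at h12
  rw [hu, Nat.card_eq_fintype_card (α := (P : Subgroup G)), Nat.card_eq_fintype_card (α := Sylow p G)]
  rw [hudef, hnn, hq] at h12
  exact_mod_cast h12

end final

end Cfsg.Agent.Lib.H10PElts
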