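import Mathlib
import Cfsg.Agent.Lib.SwapOrbits
import Cfsg.Agent.Lib.Cores
import Cfsg.Agent.Lib.Burnside
import Cfsg.Agent.S0493

/-!
Groups without solvable normal subgroups, permutation groups of degree 5 and 6 (seat helper53).
-/

set_option autoImplicit false

namespace Cfsg.Agent.Lib.H53Sub8b

open Equiv MulAction

/-- no nontrivial solvable normal subgroup -/
def Good (G : Type*) [Group G] : Prop := ∀ N : Subgroup G, N.Normal → Group.IsSolvable N → N = ⊥

theorem Good.equiv {G H : Type*} [Group G] [Group H] (hG : Good G) (e : G ≃* H) : Good H := by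
  intro N hN hs
  have h1 : (N.map e.symm.toMonoidHom).Normal := hN.map _ e.symm.surjective
  let e' : N ≃* N.map e.symm.toMonoidHom := N.equivMapOfInjective _ e.symm.injective
  have h2 : Group.IsSolvable (N.map e.symm.toMonoidHom) := Group.isSolvable_of_surjective (f := e'.toMonoidHom) e'.surjective
  have h3 := hG _ h1 h2
  rw [eq_bot_iff]
  intro x hx
  have h4 : e.symm x ∈ N.map e.symm.toMonoidHom := ⟨x, hx, rfl⟩
  rw [h3, Subgroup.mem_bot] at h4
  exact (MulEquiv.map_eq_one_iff e.symm).1 h4

theorem Good.not_solvable {G : Type*} [Group G] [Nontrivial G] (hG : Good G) : ¬ Group.IsSolvable G := by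
  intro h
  have h1 : Group.IsSolvable (⊤ : Subgroup G) := Group.isSolvable_of_surjective (f := (Subgroup.topEquiv (G := G)).symm.toMonoidHom)
    (Subgroup.topEquiv (G := G)).symm.surjective
  exact top_ne_bot (hG ⊤ inferInstance h1)

universe u

/-- a nonsolvable group has order divisible by a number which is 60 or larger than 100 -/
theorem exists_dvd (n : ℕ) : ∀ (G : Type u) [Group G] [Finite G], Nat.card G = n → ¬ Group.IsSolvable G →
    ∃ d, d ∣ n ∧ (d = 60 ∨ 101 ≤ d) := by
  induction n using Nat.strong_induction_on with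
  | _ n ih =>
    intro G _ _ hn hs
    have hnt : Nontrivial G := by
      by_contra h
      rw [not_nontrivial_iff_subsingleton] at h
      exact hs (Group.isSolvable_of_comm (fun a b => Subsingleton.elim _ _))
    by_cases hsim : IsSimpleGroup G
    · have hc : ¬ IsCyclic G := by
        intro h
        apply hs
        apply Group.isSolvable_of_comm
        intro a b
        obtain ⟨g, hg⟩ := h
        obtain ⟨i, rfl⟩ := hg a
        obtain ⟨j, rfl⟩ := hg b
        show g ^ i * g ^ j = g ^ j * g ^ i
        rw [← zpow_add, ← zpow_add, add_comm]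
      by_cases h100 : Nat.card G ≤ 100
      · exact ⟨n, dvd_rfl, Or.inl (by rw [← hn]; exact Cfsg.Agent.S0493.result hc h100)⟩
      · exact ⟨n, dvd_rfl, Or.inr (by omega)⟩
    · have : ∃ N : Subgroup G, N.Normal ∧ N ≠ ⊥ ∧ N ≠ ⊤ := by
        by_contra hcon
        push Not at hcon
        apply hsim
        refine ⟨fun N hN => ?_⟩
        by_cases h : N = ⊥
        · exact Or.inl h
        · exact Or.inr (hcon N hN h)
      obtain ⟨N, hN, hN1, hN2⟩ := this
      rw [Group.isSolvable_iff_subgroup_quotient N, not_and_or] at hs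
      have hcard := Subgroup.card_mul_index N
      have hidx : 1 < N.index := Subgroup.one_lt_index_of_ne_top hN2
      have hc1 : 1 < Nat.card N := (Subgroup.one_lt_card_iff_ne_bot N).2 hN1
      rcases hs with h | h
      · obtain ⟨d, hd1, hd2⟩ := ih (Nat.card N) (by
          rw [← hn, ← hcard]
          exact (Nat.lt_mul_iff_one_lt_right Nat.card_pos).2 hidx) N rfl h
        exact ⟨d, hd1.trans (by rw [← hn]; exact Subgroup.card_subgroup_dvd_card N), hd2⟩
      · obtain ⟨d, hd1, hd2⟩ := ih (Nat.card (G ⧸ N)) (by
          rw [← Subgroup.index_eq_card, ← hn, ← hcard]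
          exact (Nat.lt_mul_iff_one_lt_left (by omega)).2 hc1) (G ⧸ N) rfl h
        exact ⟨d, hd1.trans (by rw [← hn, ← Subgroup.index_eq_card]; exact Subgroup.index_dvd_card N), hd2⟩

theorem solvable_of_card {G : Type u} [Group G] [Finite G] (h60 : ¬ 60 ∣ Nat.card G) (h : Nat.card G ≤ 100) :
    Group.IsSolvable G := by
  by_contra hs
  obtain ⟨d, hd, rfl | hd2⟩ := exists_dvd (Nat.card G) G rfl hs
  · exact h60 hd
  · have := Nat.le_of_dvd Nat.card_pos hd
    omega

/-- `Good` groups of order 60 or 168 are simple -/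
theorem simple_of_good {G : Type u} [Group G] [Finite G] (hG : Good G) (h : Nat.card G = 60 ∨ Nat.card G = 168) :
    IsSimpleGroup G := by
  have hnt : Nontrivial G := by
    rw [← Finite.one_lt_card_iff_nontrivial]; omega
  refine ⟨fun N hN => ?_⟩
  by_contra hcon
  push Not at hcon
  obtain ⟨h1, h2⟩ := hcon
  apply h1
  apply hG N hN
  have hcard := Subgroup.card_mul_index N
  have hidx : 1 < N.index := Subgroup.one_lt_index_of_ne_top h2
  have hdvd : Nat.card N ∣ Nat.card G := Subgroup.card_subgroup_dvd_card N
  have hle : 2 * Nat.card N ≤ Nat.card G := by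
    rw [← hcard, mul_comm]
    exact Nat.mul_le_mul_left _ hidx
  apply solvable_of_card
  · intro h60
    rcases h with h | h
    · have := Nat.le_of_dvd Nat.card_pos h60
      omega
    · rw [h] at hdvd
      have := h60.trans hdvd
      norm_num at this
  · omega

theorem solvable_two_primes {G : Type*} [Group G] [Finite G] {p q a b : ℕ} (hp : p.Prime) (hq : q.Prime)
    (h : Nat.card G ∣ p ^ a * q ^ b) : Group.IsSolvable G := by
  obtain ⟨x, y, hx, hy, hxy⟩ := (Nat.dvd_mul).1 h
  obtain ⟨a', -, rfl⟩ := (Nat.dvd_prime_pow hp).1 hx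
  obtain ⟨b', -, rfl⟩ := (Nat.dvd_prime_pow hq).1 hy
  exact Burnside.isSolvable_of_card_eq _ p q a' b' hp hq hxy.symm rfl

section Degree

variable {α : Type u} [Fintype α] [DecidableEq α]

theorem card_dvd (G : Subgroup (Perm α)) : Nat.card G ∣ (Fintype.card α).factorial := by
  have h := Subgroup.card_subgroup_dvd_card G
  rwa [Nat.card_perm, Nat.card_eq_fintype_card (α := α)] at h

theorem degree_dvd [Nonempty α] (G : Subgroup (Perm α)) [IsPretransitive G α] : Fintype.card α ∣ Nat.card G := by
  obtain ⟨a⟩ := (inferInstance : Nonempty α)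
  have h := MulAction.index_stabilizer_of_transitive G a
  rw [Nat.card_eq_fintype_card (α := α)] at h
  rw [← h]; exact Subgroup.index_dvd_card _

/-- degree 5 -/
theorem deg5 (hα : Fintype.card α = 5) (G : Subgroup (Perm α)) [IsPretransitive G α]
    (hs : ¬ Group.IsSolvable G) : alternatingGroup α ≤ G := by
  have hd := card_dvd G
  rw [hα] at hd
  have h3 : 3 ∣ Nat.card G := by
    by_contra h3
    apply hs
    have h1 : Nat.card G ∣ 2 ^ 3 * 5 ^ 1 * 3 := by
      have : Nat.factorial 5 = 2 ^ 3 * 5 ^ 1 * 3 := by decide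
      rwa [this] at hd
    have h2 : Nat.Coprime (Nat.card G) 3 := ((Nat.Prime.coprime_iff_not_dvd Nat.prime_three).2 h3).symm
    exact solvable_two_primes Nat.prime_two Nat.prime_five (h2.dvd_of_dvd_mul_right h1)
  have : Fact (Nat.Prime 3) := ⟨Nat.prime_three⟩
  obtain ⟨g, hg⟩ := exists_prime_orderOf_dvd_card' 3 h3
  have hprim : IsPreprimitive G α := IsPreprimitive.of_prime_card (by rw [Nat.card_eq_fintype_card, hα]; norm_num)
  have hg' : orderOf (g : Perm α) = 3 := by rw [Subgroup.orderOf_coe]; exact hg
  have hcyc : (g : Perm α).IsThreeCycle := by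
    have h4 : (orderOf (g : Perm α)).Prime := by rw [hg']; norm_num
    obtain ⟨k, hk⟩ := Perm.cycleType_prime_order h4
    have h5 := Perm.sum_cycleType (g : Perm α)
    have h6 := Finset.card_le_univ (g : Perm α).support
    rw [hk, hg', Multiset.sum_replicate, smul_eq_mul] at h5
    rw [hα] at h6
    have hk0 : k = 0 := by omega
    rw [Perm.IsThreeCycle, hk, hg', hk0]; rfl
  exact Equiv.Perm.alternatingGroup_le_of_isPreprimitive_of_isThreeCycle_mem hprim hcyc g.2

/-- index at most 5 in the symmetric group of degree 6 -/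
theorem alternating_le_of_card (hα : Fintype.card α = 6) (G : Subgroup (Perm α)) (hG : 120 < Nat.card G) :
    alternatingGroup α ≤ G := by
  have hcard := Subgroup.card_mul_index G
  rw [Nat.card_perm, Nat.card_eq_fintype_card (α := α), hα] at hcard
  have hf : Nat.factorial 6 = 720 := by decide
  rw [hf] at hcard
  have hidx : G.index ≤ 5 := by
    by_contra h
    have : 121 * 6 ≤ Nat.card G * G.index := Nat.mul_le_mul hG (by omega)
    omega
  have hnt : Nontrivial G.normalCore := by
    rw [Subgroup.nontrivial_iff_ne_bot]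
    intro hb
    have hker : (MulAction.toPermHom (Perm α) (Perm α ⧸ G)).ker = ⊥ := by
      rw [← Subgroup.normalCore_eq_ker]; exact hb
    have hinj := (MonoidHom.ker_eq_bot_iff _).1 hker
    have h1 := Nat.card_le_card_of_injective _ hinj
    rw [Nat.card_perm, Nat.card_perm, Nat.card_eq_fintype_card, hα, ← Subgroup.index_eq_card, hf] at h1
    have h2 : G.index.factorial ≤ Nat.factorial 5 := Nat.factorial_le hidx
    have h3 : Nat.factorial 5 = 120 := by decide
    omega
  exact (Equiv.Perm.alternatingGroup_le_of_normal (by rw [Nat.card_eq_fintype_card, hα]; norm_num) hnt).trans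
    (Subgroup.normalCore_le G)

/-- degree 6 -/
theorem deg6 (hα : Fintype.card α = 6) (G : Subgroup (Perm α)) [IsPretransitive G α]
    (hs : Good G) (hnt : Nontrivial G) : alternatingGroup α ≤ G ∨ Nat.card G = 60 ∨ Nat.card G = 120 := by
  by_cases hc : 120 < Nat.card G
  · exact Or.inl (alternating_le_of_card hα G hc)
  · right
    have hns := hs.not_solvable
    have hd := card_dvd G
    rw [hα] at hd
    have h5 : 5 ∣ Nat.card G := by
      by_contra h5
      apply hns
      have h1 : Nat.card G ∣ 2 ^ 4 * 3 ^ 2 * 5 := by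
        have : Nat.factorial 6 = 2 ^ 4 * 3 ^ 2 * 5 := by decide
        rwa [this] at hd
      have h2 : Nat.Coprime (Nat.card G) 5 := ((Nat.Prime.coprime_iff_not_dvd Nat.prime_five).2 h5).symm
      exact solvable_two_primes Nat.prime_two Nat.prime_three (h2.dvd_of_dvd_mul_right h1)
    have hne : Nonempty α := Fintype.card_pos_iff.1 (by omega)
    have h6 : 6 ∣ Nat.card G := by
      rw [← hα]; exact degree_dvd G
    have h30 : 30 ∣ Nat.card G := by
      have : Nat.Coprime 5 6 := by decide
      exact this.mul_dvd_of_dvd_of_dvd h5 h6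
    have h60 : 60 ∣ Nat.card G := by
      by_contra h60
      apply hns
      apply solvable_of_card h60
      obtain ⟨k, hk⟩ := h30
      have : k ≤ 4 := by omega
      interval_cases k <;> omega
    obtain ⟨k, hk⟩ := h60
    have : k ≤ 2 := by omega
    have hpos : 0 < Nat.card G := Nat.card_pos
    interval_cases k <;> omega

end Degree

end Cfsg.Agent.Lib.H53Sub8b
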