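import Cfsg.Agent.Lib.H10Eight
import Cfsg.Agent.Lib.H10AltInv
import Cfsg.Agent.Lib.ThompsonTransfer
import Cfsg.Agent.Lib.H55Thompson
import Cfsg.Agent.Lib.H53Sub8b

set_option autoImplicit false
set_option linter.unusedSectionVars false

/-!
# Involution centralizers `2 × A₄`, `2 × A₅`: local analysis
-/

namespace Cfsg.Agent.Lib.H10TCI

open Cfsg Subgroup Cfsg.Agent.Lib

set_option synthInstance.maxHeartbeats 400000 in
set_option synthInstance.maxSize 2000 in
theorem a4_t3 : ∀ a : alternatingGroup (Fin 4), (a * a = 1 ∧ a ≠ 1) → ∀ b : alternatingGroup (Fin 4),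
    (b * b = 1 ∧ b ≠ 1 ∧ a ≠ b ∧ a * b = b * a) → ∀ x : alternatingGroup (Fin 4),
    (x * a = a * x ∧ x * b = b * x) → (x = 1 ∨ x = a ∨ x = b ∨ x = a * b) := by decide +kernel
set_option synthInstance.maxHeartbeats 400000 in
set_option synthInstance.maxSize 2000 in
theorem a4_t4 : ∀ a : alternatingGroup (Fin 4), (a * a = 1 ∧ a ≠ 1) → ∀ b : alternatingGroup (Fin 4),
    (b * b = 1 ∧ b ≠ 1 ∧ a ≠ b ∧ a * b = b * a) → ∃ x : alternatingGroup (Fin 4),
    x * a = b * x ∧ x * b = a * b * x ∧ x * x * x = 1 := by decide +kernel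
theorem a4_t5 : ∀ c : alternatingGroup (Fin 4), c ≠ 1 → ∃ g : alternatingGroup (Fin 4), c * g ≠ g * c ∧
    (c * g * c⁻¹ * g⁻¹) * (c * g * c⁻¹ * g⁻¹) = 1 := by decide +kernel
theorem a4_sq : ∀ x : alternatingGroup (Fin 4), x ^ 4 = 1 → x * x = 1 := by decide +kernel
set_option synthInstance.maxHeartbeats 400000 in
set_option synthInstance.maxSize 2000 in
theorem a5_t3 : ∀ a : alternatingGroup (Fin 5), (a * a = 1 ∧ a ≠ 1) → ∀ b : alternatingGroup (Fin 5),
    (b * b = 1 ∧ b ≠ 1 ∧ a ≠ b ∧ a * b = b * a) → ∀ x : alternatingGroup (Fin 5),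
    (x * a = a * x ∧ x * b = b * x) → (x = 1 ∨ x = a ∨ x = b ∨ x = a * b) := by decide +kernel
set_option synthInstance.maxHeartbeats 400000 in
set_option synthInstance.maxSize 2000 in
theorem a5_t4 : ∀ a : alternatingGroup (Fin 5), (a * a = 1 ∧ a ≠ 1) → ∀ b : alternatingGroup (Fin 5),
    (b * b = 1 ∧ b ≠ 1 ∧ a ≠ b ∧ a * b = b * a) → ∃ x : alternatingGroup (Fin 5),
    x * a = b * x ∧ x * b = a * b * x ∧ x * x * x = 1 := by decide +kernel
theorem a5_sq : ∀ x : alternatingGroup (Fin 5), x ^ 4 = 1 → x * x = 1 := by decide +kernel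

/-- the facts about `A₄`, `A₅` that are used -/
structure TF (T : Type*) [Group T] : Prop where
  sq : ∀ x : T, x ^ 4 = 1 → x * x = 1
  t3 : ∀ a : T, (a * a = 1 ∧ a ≠ 1) → ∀ b : T, (b * b = 1 ∧ b ≠ 1 ∧ a ≠ b ∧ a * b = b * a) → ∀ x : T,
    (x * a = a * x ∧ x * b = b * x) → (x = 1 ∨ x = a ∨ x = b ∨ x = a * b)
  t4 : ∀ a : T, (a * a = 1 ∧ a ≠ 1) → ∀ b : T, (b * b = 1 ∧ b ≠ 1 ∧ a ≠ b ∧ a * b = b * a) → ∃ x : T,
    x * a = b * x ∧ x * b = a * b * x ∧ x * x * x = 1
  odd : ∀ K : Subgroup T, K.Normal → Odd (Nat.card K) → K = ⊥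
  card : Nat.card T = 12 ∨ Nat.card T = 60

theorem TF.congr {T T' : Type*} [Group T] [Group T'] (e : T ≃* T') (h : TF T') : TF T where
  sq x hx := e.injective (by
    rw [map_mul, map_one]; exact h.sq (e x) (by rw [← map_pow, hx, map_one]))
  t3 a ha b hb x hx := by
    have h1 := h.t3 (e a) ⟨by rw [← map_mul, ha.1, map_one], fun h2 => ha.2 (e.injective (h2.trans (map_one e).symm))⟩
      (e b) ⟨by rw [← map_mul, hb.1, map_one], fun h2 => hb.2.1 (e.injective (h2.trans (map_one e).symm)),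
        fun h2 => hb.2.2.1 (e.injective h2), by rw [← map_mul, ← map_mul, hb.2.2.2]⟩ (e x)
      ⟨by rw [← map_mul, ← map_mul, hx.1], by rw [← map_mul, ← map_mul, hx.2]⟩
    rcases h1 with h1 | h1 | h1 | h1
    · exact Or.inl (e.injective (h1.trans (map_one e).symm))
    · exact Or.inr (Or.inl (e.injective h1))
    · exact Or.inr (Or.inr (Or.inl (e.injective h1)))
    · exact Or.inr (Or.inr (Or.inr (e.injective (by rw [h1, map_mul]))))
  t4 a ha b hb := by
    obtain ⟨x, h1, h2, h3⟩ := h.t4 (e a) ⟨by rw [← map_mul, ha.1, map_one], fun h2 => ha.2 (e.injective (h2.trans (map_one e).symm))⟩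
      (e b) ⟨by rw [← map_mul, hb.1, map_one], fun h2 => hb.2.1 (e.injective (h2.trans (map_one e).symm)),
        fun h2 => hb.2.2.1 (e.injective h2), by rw [← map_mul, ← map_mul, hb.2.2.2]⟩
    refine ⟨e.symm x, e.injective ?_, e.injective ?_, e.injective ?_⟩
    · rw [map_mul, map_mul, e.apply_symm_apply]; exact h1
    · rw [map_mul, map_mul, map_mul, e.apply_symm_apply]; exact h2
    · rw [map_mul, map_mul, map_one, e.apply_symm_apply]; exact h3
  odd K hK hKo := by
    have h1 : (K.map e.toMonoidHom).Normal := hK.map _ e.surjective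
    have h2 := h.odd (K.map e.toMonoidHom) h1 (by
      rw [card_map_of_injective (f := e.toMonoidHom) e.injective]; exact hKo)
    exact (Subgroup.map_eq_bot_iff_of_injective _ (f := e.toMonoidHom) e.injective).1 h2
  card := by rw [Nat.card_congr e.toEquiv]; exact h.card

theorem card_A5 : Nat.card (alternatingGroup (Fin 5)) = 60 := by
  rw [nat_card_alternatingGroup]; simp [Nat.factorial]

theorem card_A4 : Nat.card (alternatingGroup (Fin 4)) = 12 := by
  rw [nat_card_alternatingGroup]; simp [Nat.factorial]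

theorem tf4 : TF (alternatingGroup (Fin 4)) where
  sq := a4_sq
  t3 := a4_t3
  t4 := a4_t4
  odd K hK hKo := by
    rw [eq_bot_iff]
    intro c hc
    rw [mem_bot]
    by_contra hc1
    obtain ⟨g, hg1, hg2⟩ := a4_t5 c hc1
    have h1 : c * g * c⁻¹ * g⁻¹ ∈ K := by
      have h2 : c * (g * c⁻¹ * g⁻¹) ∈ K := K.mul_mem hc (hK.conj_mem _ (K.inv_mem hc) g)
      simpa [mul_assoc] using h2
    have h2 : orderOf (⟨c * g * c⁻¹ * g⁻¹, h1⟩ : K) = 2 := by
      rw [Subgroup.orderOf_mk]
      apply orderOf_eq_prime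
      · rw [pow_two]; exact hg2
      · intro h3
        apply hg1
        have h4 : c * g * c⁻¹ = g := mul_inv_eq_one.1 h3
        exact mul_inv_eq_iff_eq_mul.1 h4
    have h3 := orderOf_dvd_natCard (⟨c * g * c⁻¹ * g⁻¹, h1⟩ : K)
    rw [h2] at h3
    exact (Nat.not_even_iff_odd.2 hKo) (even_iff_two_dvd.2 h3)
  card := Or.inl card_A4

theorem tf5 : TF (alternatingGroup (Fin 5)) where
  sq := a5_sq
  t3 := a5_t3
  t4 := a5_t4
  odd K hK hKo := by
    rcases hK.eq_bot_or_eq_top with h1 | h1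
    · exact h1
    · rw [h1, card_top, card_A5] at hKo
      exact absurd hKo (by decide)
  card := Or.inr card_A5

variable {G : Type*} [Group G] [Finite G]

/-- `C(J) = ⟨J⟩ × T` -/
structure CS (J : G) (T : Subgroup G) : Prop where
  ord : orderOf J = 2
  comm : ∀ a ∈ T, a * J = J * a
  notin : J ∉ T
  cent : ∀ c, c * J = J * c → c ∈ T ∨ c * J ∈ T

theorem CS.of_direct {J : G} {T : Subgroup G} (hJ : orderOf J = 2)
    (h : IsInternalDirectProduct (zpowers J) T (centralizer ({J} : Set G))) : CS J T := by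
  obtain ⟨-, h2, h3, h4, h5⟩ := h
  refine ⟨hJ, fun a ha => mem_centralizer_singleton_iff.1 (h2 ha), ?_, ?_⟩
  · intro h6
    have h7 : J ∈ zpowers J ⊓ T := ⟨mem_zpowers J, h6⟩
    rw [h4, mem_bot] at h7
    rw [h7, orderOf_one] at hJ
    omega
  · intro c hc
    have h6 : c ∈ zpowers J ⊔ T := by rw [h5]; exact mem_centralizer_singleton_iff.2 hc
    have hc1 : ∀ a ∈ T, a * J = J * a := fun a ha => mem_centralizer_singleton_iff.1 (h2 ha)
    have hJJ : J * J = 1 := by rw [← sq, ← hJ, pow_orderOf_eq_one]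
    let D : Subgroup G :=
      { carrier := {c | c * J = J * c ∧ (c ∈ T ∨ c * J ∈ T)}
        one_mem' := ⟨by rw [one_mul, mul_one], Or.inl T.one_mem⟩
        mul_mem' := by
          rintro a b ⟨ca, ha⟩ ⟨cb, hb⟩
          refine ⟨by rw [mul_assoc, cb, ← mul_assoc, ca, mul_assoc], ?_⟩
          rcases ha with ha | ha <;> rcases hb with hb | hb
          · exact Or.inl (T.mul_mem ha hb)
          · right; show a * b * J ∈ T; rw [mul_assoc]; exact T.mul_mem ha hb
          · right
            show a * b * J ∈ T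
            have h8 : a * b * J = (a * J) * b := by rw [mul_assoc, cb, mul_assoc]
            rw [h8]; exact T.mul_mem ha hb
          · left
            have h8 : a * b = (a * J) * (b * J) := by
              calc a * b = a * (b * (J * J)) := by rw [hJJ, mul_one]
                _ = a * ((b * J) * J) := by rw [mul_assoc b]
                _ = a * ((J * b) * J) := by rw [cb]
                _ = a * J * (b * J) := by group
            show a * b ∈ T
            rw [h8]; exact T.mul_mem ha hb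
        inv_mem' := by
          rintro a ⟨ca, ha⟩
          have cc : Commute a J := ca
          refine ⟨cc.inv_left, ?_⟩
          rcases ha with ha | ha
          · exact Or.inl (T.inv_mem ha)
          · right
            show a⁻¹ * J ∈ T
            have h11 : J⁻¹ = J := by rw [inv_eq_iff_mul_eq_one, hJJ]
            have h8 : a⁻¹ * J = (a * J)⁻¹ := by
              rw [mul_inv_rev, h11]
              exact cc.inv_left
            rw [h8]; exact T.inv_mem ha }
    have h7 : zpowers J ⊔ T ≤ D := by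
      apply sup_le
      · rw [zpowers_le]
        exact ⟨rfl, Or.inr (by rw [hJJ]; exact T.one_mem)⟩
      · exact fun a ha => ⟨hc1 a ha, Or.inl ha⟩
    exact (h7 h6).2

namespace CS

variable {J : G} {T : Subgroup G}

theorem JJ (h : CS J T) : J * J = 1 := by rw [← sq, ← h.ord, pow_orderOf_eq_one]

theorem ne (h : CS J T) : J ≠ 1 := fun h1 => by
  have := h.ord; rw [h1, orderOf_one] at this; omega

theorem T_le (h : CS J T) : T ≤ centralizer ({J} : Set G) := fun a ha => mem_centralizer_singleton_iff.2 (h.comm a ha)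

theorem relIndex (h : CS J T) (P : Subgroup G) (hJ : J ∈ P) (hP : ∀ x ∈ P, x * J = J * x) : T.relIndex P = 2 := by
  rw [Subgroup.relIndex, index_eq_two_iff]
  refine ⟨⟨J, hJ⟩, ?_⟩
  rintro ⟨b, hb⟩
  rw [mem_subgroupOf, mem_subgroupOf]
  show Xor (b * J ∈ T) (b ∈ T)
  rcases h.cent b (hP b hb) with h1 | h1
  · right
    refine ⟨h1, fun h2 => h.notin ?_⟩
    have := T.mul_mem (T.inv_mem h1) h2
    rwa [inv_mul_cancel_left] at this
  · left
    refine ⟨h1, fun h2 => h.notin ?_⟩
    have := T.mul_mem (T.inv_mem h2) h1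
    rwa [inv_mul_cancel_left] at this

theorem card_cent (h : CS J T) : Nat.card (centralizer ({J} : Set G)) = 2 * Nat.card T := by
  have h1 := h.relIndex (centralizer ({J} : Set G)) (mem_centralizer_singleton_iff.2 rfl)
    (fun x hx => mem_centralizer_singleton_iff.1 hx)
  have h2 := (T.subgroupOf (centralizer ({J} : Set G))).index_mul_card
  rw [Nat.card_congr (subgroupOfEquivOfLe h.T_le).toEquiv] at h2
  rw [← h2, ← h1, Subgroup.relIndex]

end CS

end Cfsg.Agent.Lib.H10TCI
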