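import Cfsg.Agent.Lib.H10TCI

set_option autoImplicit false
set_option linter.unusedSectionVars false

/-!
# Involution centralizers `2 × A₄`, `2 × A₅`: Sylow 2-subgroups and fusion
-/

namespace Cfsg.Agent.Lib.H10TCI

open Cfsg Subgroup Cfsg.Agent.Lib
open scoped commutatorElement

variable {G : Type*} [Group G] [Finite G] {J : G} {T : Subgroup G}

/-- `m ≥ 6` is impossible -/
theorem CS.false_of_six (h : CS J T) (h2 : ∀ N : Subgroup G, N.Normal → N.index ≠ 2) (P : Sylow 2 G)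
    (hJP : J ∈ (P : Subgroup G)) (hP : ∀ x ∈ (P : Subgroup G), x * J = J * x)
    (hinv : ∀ i : T, i * i = 1 → i ∈ ⁅centralizer ({i} : Set T), centralizer ({i} : Set T)⁆) : False := by
  obtain ⟨g, hg⟩ : ∃ g : G, g * J * g⁻¹ ∈ T := by
    by_contra hno
    push Not at hno
    obtain ⟨M, hM, hM2, -⟩ := ThompsonTransfer.thompson_transfer P T (h.relIndex P hJP hP) J h.ord hJP hno
    exact h2 M hM hM2
  have hi2 : (⟨g * J * g⁻¹, hg⟩ : T) * ⟨g * J * g⁻¹, hg⟩ = 1 := by
    apply Subtype.ext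
    show g * J * g⁻¹ * (g * J * g⁻¹) = 1
    calc g * J * g⁻¹ * (g * J * g⁻¹) = g * (J * J) * g⁻¹ := by group
      _ = 1 := by rw [h.JJ]; group
  have h1 := hinv _ hi2
  -- map to `C(J)`
  have h3 : ⁅centralizer ({(⟨g * J * g⁻¹, hg⟩ : T)} : Set T), centralizer ({(⟨g * J * g⁻¹, hg⟩ : T)} : Set T)⁆ ≤
      T.comap ((MulAut.conj g⁻¹).toMonoidHom.comp T.subtype) := by
    rw [commutator_le]
    intro a ha b hb
    rw [mem_centralizer_singleton_iff] at ha hb
    rw [mem_comap, map_commutatorElement]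
    set a' := ((MulAut.conj g⁻¹).toMonoidHom.comp T.subtype) a with ha'
    set b' := ((MulAut.conj g⁻¹).toMonoidHom.comp T.subtype) b with hb'
    have ca : a' * J = J * a' := by
      have h4 : (a : G) * (g * J * g⁻¹) = (g * J * g⁻¹) * a := congrArg Subtype.val ha
      show g⁻¹ * a * g⁻¹⁻¹ * J = J * (g⁻¹ * a * g⁻¹⁻¹)
      calc g⁻¹ * a * g⁻¹⁻¹ * J = g⁻¹ * (a * (g * J * g⁻¹)) * g := by group
        _ = J * (g⁻¹ * a * g⁻¹⁻¹) := by rw [h4]; group
    have cb : b' * J = J * b' := by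
      have h4 : (b : G) * (g * J * g⁻¹) = (g * J * g⁻¹) * b := congrArg Subtype.val hb
      show g⁻¹ * b * g⁻¹⁻¹ * J = J * (g⁻¹ * b * g⁻¹⁻¹)
      calc g⁻¹ * b * g⁻¹⁻¹ * J = g⁻¹ * (b * (g * J * g⁻¹)) * g := by group
        _ = J * (g⁻¹ * b * g⁻¹⁻¹) := by rw [h4]; group
    have key : ∀ x : G, x * J = J * x → ∃ y ∈ T, x = y ∨ x = y * J := by
      intro x hx
      rcases h.cent x hx with h5 | h5
      · exact ⟨x, h5, Or.inl rfl⟩
      · exact ⟨x * J, h5, Or.inr (by rw [mul_assoc, h.JJ, mul_one])⟩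
    obtain ⟨y, hy, hy2⟩ := key a' ca
    obtain ⟨z, hz, hz2⟩ := key b' cb
    have hcy : Commute y J := h.comm y hy
    have hcz : Commute z J := h.comm z hz
    have e : ⁅a', b'⁆ = ⁅y, z⁆ := by
      rcases hy2 with e1 | e1 <;> rcases hz2 with e2 | e2 <;> simp only [e1, e2, commutatorElement_def]
      · rw [mul_inv_rev]
        calc y * (z * J) * y⁻¹ * (J⁻¹ * z⁻¹) = y * z * (J * y⁻¹) * J⁻¹ * z⁻¹ := by group
          _ = y * z * (y⁻¹ * J) * J⁻¹ * z⁻¹ := by rw [hcy.inv_left.eq]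
          _ = _ := by group
      · rw [mul_inv_rev]
        calc y * J * z * (J⁻¹ * y⁻¹) * z⁻¹ = y * (J * z) * J⁻¹ * y⁻¹ * z⁻¹ := by group
          _ = y * (z * J) * J⁻¹ * y⁻¹ * z⁻¹ := by rw [hcz.eq]
          _ = _ := by group
      · rw [mul_inv_rev, mul_inv_rev]
        calc y * J * (z * J) * (J⁻¹ * y⁻¹) * (J⁻¹ * z⁻¹) = y * (J * z) * (y⁻¹ * J⁻¹) * z⁻¹ := by group
          _ = y * (z * J) * (J⁻¹ * y⁻¹) * z⁻¹ := by rw [hcz.eq, (hcy.inv_inv).eq]
          _ = _ := by group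
    rw [e, commutatorElement_def]
    exact T.mul_mem (T.mul_mem (T.mul_mem hy hz) (T.inv_mem hy)) (T.inv_mem hz)
  have h4 := h3 h1
  rw [mem_comap] at h4
  have h5 : ((MulAut.conj g⁻¹).toMonoidHom.comp T.subtype) (⟨g * J * g⁻¹, hg⟩ : T) = J := by
    show g⁻¹ * (g * J * g⁻¹) * g⁻¹⁻¹ = J
    group
  rw [h5] at h4
  exact h.notin h4

/-- local data at a Sylow 2-subgroup -/
structure Loc (J : G) (T : Subgroup G) (P : Sylow 2 G) (a b : G) : Prop where
  cs : CS J T
  tf : TF T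
  JP : J ∈ (P : Subgroup G)
  cP : ∀ x ∈ (P : Subgroup G), x * J = J * x
  card : Nat.card P = 8
  aT : a ∈ T
  bT : b ∈ T
  aP : a ∈ (P : Subgroup G)
  bP : b ∈ (P : Subgroup G)
  aa : a * a = 1
  bb : b * b = 1
  a1 : a ≠ 1
  b1 : b ≠ 1
  ab : a ≠ b
  comm : a * b = b * a
  all : ∀ p ∈ (P : Subgroup G), p ∈ T → (p = 1 ∨ p = a ∨ p = b ∨ p = a * b)

theorem card_P (h : CS J T) (tf : TF T) (P : Sylow 2 G)
    (_hJP : J ∈ (P : Subgroup G)) (hP : ∀ x ∈ (P : Subgroup G), x * J = J * x) : Nat.card P = 8 := by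
  have hle : (P : Subgroup G) ≤ centralizer ({J} : Set G) := fun x hx => mem_centralizer_singleton_iff.2 (hP x hx)
  have h1 := h.card_cent
  have h2 : Nat.card P ∣ Nat.card (centralizer ({J} : Set G)) := card_dvd_of_le hle
  obtain ⟨k, hk⟩ := IsPGroup.iff_card.1 P.2
  have h3 : ¬ 2 ∣ ((P : Subgroup G).subgroupOf (centralizer ({J} : Set G))).index := by
    intro h4
    exact P.not_dvd_index (h4.trans (relIndex_dvd_index_of_le hle))
  have h4 := ((P : Subgroup G).subgroupOf (centralizer ({J} : Set G))).index_mul_card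
  rw [Nat.card_congr (subgroupOfEquivOfLe hle).toEquiv] at h4
  set n := ((P : Subgroup G).subgroupOf (centralizer ({J} : Set G))).index with hn
  change n * Nat.card (P : Subgroup G) = _ at h4
  change Nat.card (P : Subgroup G) = 8
  rw [hk] at h4 ⊢
  have h5 : n * 2 ^ k = 24 ∨ n * 2 ^ k = 120 := by
    rw [h4, h1]
    rcases tf.card with h6 | h6 <;> rw [h6] <;> simp
  have hk3 : k ≤ 6 := by
    by_contra hcon
    have h6 : 2 ^ 7 ∣ 2 ^ k := pow_dvd_pow 2 (by omega)
    have h7 : 2 ^ 7 ∣ n * 2 ^ k := Dvd.dvd.mul_left h6 n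
    rcases h5 with h5 | h5 <;> rw [h5] at h7 <;> omega
  interval_cases k <;> omega

theorem exists_loc (h : CS J T) (tf : TF T) (P : Sylow 2 G)
    (hJP : J ∈ (P : Subgroup G)) (hP : ∀ x ∈ (P : Subgroup G), x * J = J * x) : ∃ a b, Loc J T P a b := by
  have h8 := card_P h tf P hJP hP
  have h1 := h.relIndex P hJP hP
  have hle : (P : Subgroup G) ⊓ T ≤ P := inf_le_left
  have h2 := (T.subgroupOf (P : Subgroup G)).index_mul_card
  change (T.relIndex (P : Subgroup G)) * _ = _ at h2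
  rw [h1] at h2
  change 2 * _ = Nat.card P at h2
  rw [h8] at h2
  have h3 : Nat.card ((P : Subgroup G) ⊓ T : Subgroup G) = 4 := by
    have h4 : (T.subgroupOf (P : Subgroup G)) = ((P : Subgroup G) ⊓ T).subgroupOf P := by
      ext x; simp [mem_subgroupOf]
    rw [h4, Nat.card_congr (subgroupOfEquivOfLe hle).toEquiv] at h2
    omega
  have hsq : ∀ x ∈ ((P : Subgroup G) ⊓ T : Subgroup G), x * x = 1 := by
    intro x hx
    have hx2 : x ∈ T := (mem_inf.1 hx).2
    have h5 : (⟨x, hx⟩ : ((P : Subgroup G) ⊓ T : Subgroup G)) ^ 4 = 1 := by rw [← h3]; exact pow_card_eq_one'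
    have h6 : x ^ 4 = 1 := congrArg Subtype.val h5
    have h7 := tf.sq ⟨x, hx2⟩ (Subtype.ext h6)
    exact congrArg Subtype.val h7
  have hab : ∀ x ∈ ((P : Subgroup G) ⊓ T : Subgroup G), ∀ y ∈ ((P : Subgroup G) ⊓ T : Subgroup G), x * y = y * x := by
    intro x hx y hy
    have h5 := hsq x hx
    have h6 := hsq y hy
    have h7 := hsq _ (mul_mem hy hx)
    calc x * y = (x * y) * ((y * x) * (y * x)) := by rw [h7, mul_one]
      _ = x * (y * y) * x * (y * x) := by group
      _ = y * x := by rw [h6, mul_one, h5, one_mul]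
  obtain ⟨a, ha, ha1⟩ : ∃ a ∈ ((P : Subgroup G) ⊓ T : Subgroup G), a ≠ 1 := by
    by_contra hno
    push Not at hno
    have h5 : ((P : Subgroup G) ⊓ T : Subgroup G) = ⊥ := (eq_bot_iff_forall _).2 hno
    rw [h5, card_bot] at h3
    omega
  obtain ⟨b, hb, hb1, hba⟩ : ∃ b ∈ ((P : Subgroup G) ⊓ T : Subgroup G), b ≠ 1 ∧ b ≠ a := by
    by_contra hno
    push Not at hno
    have h5 : ((P : Subgroup G) ⊓ T : Subgroup G) ≤ zpowers a := by
      intro x hx
      by_cases hx1 : x = 1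
      · rw [hx1]; exact one_mem _
      · rw [hno x hx hx1]; exact mem_zpowers a
    have h6 := card_dvd_of_le h5
    rw [h3, Nat.card_zpowers] at h6
    have h7 : orderOf a ∣ 2 := orderOf_dvd_of_pow_eq_one (by rw [sq]; exact hsq a ha)
    have := Nat.le_of_dvd (by norm_num) (h6.trans h7)
    omega
  refine ⟨a, b, h, tf, hJP, hP, h8, (mem_inf.1 ha).2, (mem_inf.1 hb).2, (mem_inf.1 ha).1, (mem_inf.1 hb).1,
    hsq a ha, hsq b hb, ha1, hb1, fun e => hba e.symm, hab a ha b hb, ?_⟩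
  intro p hp hpT
  have h9 := tf.t3 ⟨a, (mem_inf.1 ha).2⟩ ⟨Subtype.ext (hsq a ha), fun e => ha1 (congrArg Subtype.val e)⟩
    ⟨b, (mem_inf.1 hb).2⟩ ⟨Subtype.ext (hsq b hb), fun e => hb1 (congrArg Subtype.val e),
      fun e => hba (congrArg Subtype.val e).symm, Subtype.ext (hab a ha b hb)⟩ ⟨p, hpT⟩
    ⟨Subtype.ext (hab p (mem_inf.2 ⟨hp, hpT⟩) a ha), Subtype.ext (hab p (mem_inf.2 ⟨hp, hpT⟩) b hb)⟩
  rcases h9 with h9 | h9 | h9 | h9
  · exact Or.inl (congrArg Subtype.val h9)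
  · exact Or.inr (Or.inl (congrArg Subtype.val h9))
  · exact Or.inr (Or.inr (Or.inl (congrArg Subtype.val h9)))
  · exact Or.inr (Or.inr (Or.inr (congrArg Subtype.val h9)))

namespace Loc

variable {P : Sylow 2 G} {a b : G}

theorem swap_mem (h : Loc J T P a b) : a * b ∈ T ∧ a * b ∈ (P : Subgroup G) :=
  ⟨T.mul_mem h.aT h.bT, mul_mem h.aP h.bP⟩

theorem sq (h : Loc J T P a b) : ∀ x ∈ (P : Subgroup G), x * x = 1 := by
  have key : ∀ x ∈ (P : Subgroup G), x ∈ T → x * x = 1 := by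
    intro x hx hxT
    rcases h.all x hx hxT with e | e | e | e <;> rw [e]
    · rw [mul_one]
    · exact h.aa
    · exact h.bb
    · calc a * b * (a * b) = a * (b * a) * b := by group
        _ = a * (a * b) * b := by rw [h.comm]
        _ = (a * a) * (b * b) := by group
        _ = 1 := by rw [h.aa, h.bb, mul_one]
  intro x hx
  rcases h.cs.cent x (h.cP x hx) with h1 | h1
  · exact key x hx h1
  · have h2 := key _ (mul_mem hx h.JP) h1
    calc x * x = x * (J * J) * x := by rw [h.cs.JJ, mul_one]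
      _ = x * J * (J * x) := by group
      _ = x * J * (x * J) := by rw [h.cP x hx]
      _ = 1 := h2

theorem ab_P (h : Loc J T P a b) : ∀ x ∈ (P : Subgroup G), ∀ y ∈ (P : Subgroup G), x * y = y * x := by
  intro x hx y hy
  have h5 := h.sq x hx
  have h6 := h.sq y hy
  have h7 := h.sq _ (mul_mem hy hx)
  calc x * y = (x * y) * ((y * x) * (y * x)) := by rw [h7, mul_one]
    _ = x * (y * y) * x * (y * x) := by group
    _ = y * x := by rw [h6, mul_one, h5, one_mul]

theorem ord (h : Loc J T P a b) : ∀ x ∈ (P : Subgroup G), x ≠ 1 → orderOf x = 2 := by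
  intro x hx hx1
  exact orderOf_eq_prime (by rw [_root_.sq]; exact h.sq x hx) hx1

theorem cent (h : Loc J T P a b) : centralizer ((P : Subgroup G) : Set G) ≤ P := by
  have key : ∀ c ∈ T, c ∈ centralizer ((P : Subgroup G) : Set G) → c ∈ (P : Subgroup G) := by
    intro c hcT hc
    have h9 := h.tf.t3 ⟨a, h.aT⟩ ⟨Subtype.ext h.aa, fun e => h.a1 (congrArg Subtype.val e)⟩
      ⟨b, h.bT⟩ ⟨Subtype.ext h.bb, fun e => h.b1 (congrArg Subtype.val e),
      fun e => h.ab (congrArg Subtype.val e), Subtype.ext h.comm⟩ ⟨c, hcT⟩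
      ⟨Subtype.ext (mem_centralizer_iff.1 hc a h.aP).symm, Subtype.ext (mem_centralizer_iff.1 hc b h.bP).symm⟩
    rcases h9 with h9 | h9 | h9 | h9
    · rw [show c = 1 from congrArg Subtype.val h9]; exact one_mem _
    · rw [show c = a from congrArg Subtype.val h9]; exact h.aP
    · rw [show c = b from congrArg Subtype.val h9]; exact h.bP
    · rw [show c = a * b from congrArg Subtype.val h9]; exact mul_mem h.aP h.bP
  intro c hc
  rcases h.cs.cent c (mem_centralizer_iff.1 hc J h.JP).symm with h1 | h1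
  · exact key c h1 hc
  · have h2 : J ∈ centralizer ((P : Subgroup G) : Set G) := mem_centralizer_iff.2 fun x hx => h.cP x hx
    have h3 := key _ h1 (mul_mem hc h2)
    have h4 : c = c * J * J := by rw [mul_assoc, h.cs.JJ, mul_one]
    rw [h4]
    exact mul_mem h3 h.JP

/-- an element of order 3 permuting `a`, `b`, `ab` -/
theorem exists_rot (h : Loc J T P a b) : ∃ x ∈ T, x * a * x⁻¹ = b ∧ x * b * x⁻¹ = a * b ∧
    x * (a * b) * x⁻¹ = a ∧ x * x * x = 1 ∧ x * J * x⁻¹ = J ∧ x ∈ normalizer ((P : Subgroup G) : Set G) := by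
  obtain ⟨x, h1, h2, h3⟩ := h.tf.t4 ⟨a, h.aT⟩ ⟨Subtype.ext h.aa, fun e => h.a1 (congrArg Subtype.val e)⟩
      ⟨b, h.bT⟩ ⟨Subtype.ext h.bb, fun e => h.b1 (congrArg Subtype.val e),
      fun e => h.ab (congrArg Subtype.val e), Subtype.ext h.comm⟩
  have h1' : (x : G) * a = b * x := congrArg Subtype.val h1
  have h2' : (x : G) * b = a * b * x := congrArg Subtype.val h2
  have h3' : (x : G) * x * x = 1 := congrArg Subtype.val h3
  have e1 : (x : G) * a * (x : G)⁻¹ = b := by rw [h1']; group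
  have e2 : (x : G) * b * (x : G)⁻¹ = a * b := by rw [h2']; group
  have e3 : (x : G) * (a * b) * (x : G)⁻¹ = a := by
    calc (x : G) * (a * b) * (x : G)⁻¹ = ((x : G) * a * (x : G)⁻¹) * ((x : G) * b * (x : G)⁻¹) := by group
      _ = b * (a * b) := by rw [e1, e2]
      _ = a := by rw [h.comm, ← mul_assoc, h.bb, one_mul]
  have e4 : (x : G) * J * (x : G)⁻¹ = J := by rw [h.cs.comm x x.2]; group
  refine ⟨x, x.2, e1, e2, e3, h3', e4, ?_⟩
  have key : ∀ p ∈ (P : Subgroup G), p ∈ T → (x : G) * p * (x : G)⁻¹ ∈ (P : Subgroup G) := by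
    intro p hp hpT
    rcases h.all p hp hpT with e | e | e | e <;> rw [e]
    · have : (x : G) * 1 * (x : G)⁻¹ = 1 := by group
      rw [this]; exact one_mem _
    · rw [e1]; exact h.bP
    · rw [e2]; exact mul_mem h.aP h.bP
    · rw [e3]; exact h.aP
  have key2 : ∀ p ∈ (P : Subgroup G), (x : G) * p * (x : G)⁻¹ ∈ (P : Subgroup G) := by
    intro p hp
    rcases h.cs.cent p (h.cP p hp) with h5 | h5
    · exact key p hp h5
    · have h6 := key _ (mul_mem hp h.JP) h5
      have h7 : (x : G) * p * (x : G)⁻¹ = (x : G) * (p * J) * (x : G)⁻¹ * ((x : G) * J * (x : G)⁻¹) := by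
        calc (x : G) * p * (x : G)⁻¹ = (x : G) * (p * (J * J)) * (x : G)⁻¹ := by rw [h.cs.JJ, mul_one]
          _ = _ := by group
      rw [h7, e4]
      exact mul_mem h6 h.JP
  rw [mem_normalizer_iff]
  intro p
  refine ⟨key2 p, fun hp => ?_⟩
  have h6 := key2 _ (key2 _ hp)
  have h7 : (x : G) * ((x : G) * ((x : G) * p * (x : G)⁻¹) * (x : G)⁻¹) * (x : G)⁻¹ = p := by
    calc (x : G) * ((x : G) * ((x : G) * p * (x : G)⁻¹) * (x : G)⁻¹) * (x : G)⁻¹ = ((x : G) * x * x) * p * ((x : G) * x * x)⁻¹ := by group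
      _ = p := by rw [h3']; group
  rwa [h7] at h6

/-- **fusion**: all involutions of `P` are conjugate to `J` in `N(P)` -/
theorem fusion (h : Loc J T P a b) (h2 : ∀ N : Subgroup G, N.Normal → N.index ≠ 2) :
    ∀ s ∈ (P : Subgroup G), s ≠ 1 → ∃ n ∈ normalizer ((P : Subgroup G) : Set G), n * J * n⁻¹ = s := by
  obtain ⟨x, hxT, x1, x2, x3, x4, x5, hxN⟩ := h.exists_rot
  -- Thompson transfer
  obtain ⟨g, hg⟩ : ∃ g : G, g * J * g⁻¹ ∈ (P : Subgroup G) ⊓ T := by
    by_contra hno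
    push Not at hno
    have h3 : ((P : Subgroup G) ⊓ T).relIndex (P : Subgroup G) = 2 := by
      rw [inf_relIndex_left]
      exact h.cs.relIndex P h.JP h.cP
    obtain ⟨M, hM, hM2, -⟩ := ThompsonTransfer.thompson_transfer P ((P : Subgroup G) ⊓ T) h3 J h.cs.ord h.JP hno
    exact h2 M hM hM2
  obtain ⟨n, hn, hn2⟩ := H55Thompson.exists_conj_into P (b := J) (c := g * J * g⁻¹) (h := g)
    (fun y hy => h.ab_P y hy _ (mem_inf.1 hg).1) rfl
  obtain ⟨hiP, hiT⟩ := mem_inf.1 hg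
  rw [← hn] at hiP hiT
  have hnN : n ∈ normalizer ((P : Subgroup G) : Set G) := by
    have hle : (P : Subgroup G).map (MulAut.conj n).toMonoidHom = P := by
      apply eq_of_le_of_card_ge
      · rintro _ ⟨y, hy, rfl⟩
        exact hn2 y hy (h.cP y hy)
      · rw [card_map_of_injective (f := (MulAut.conj n).toMonoidHom) (MulAut.conj n).injective]
    rw [mem_normalizer_iff]
    intro y
    constructor
    · intro hy; exact hn2 y hy (h.cP y hy)
    · intro hy
      rw [← hle] at hy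
      obtain ⟨z, hz, hz2⟩ := hy
      have h5 : z = y := (MulAut.conj n).injective hz2
      rwa [← h5]
  set N := normalizer ((P : Subgroup G) : Set G) with hN
  let O : G → Prop := fun s => ∃ n ∈ N, n * J * n⁻¹ = s
  have Ocl : ∀ m ∈ N, ∀ s, O s → O (m * s * m⁻¹) := by
    rintro m hm s ⟨k, hk, rfl⟩
    exact ⟨m * k, mul_mem hm hk, by group⟩
  have OJ : O J := ⟨1, one_mem _, by group⟩
  have Oi : O (n * J * n⁻¹) := ⟨n, hnN, rfl⟩
  have hJ1 := h.cs.ne
  have hi1 : n * J * n⁻¹ ≠ 1 := by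
    intro h3
    exact hJ1 (mul_left_cancel (a := n) (by rw [mul_inv_eq_one.1 h3, mul_one]))
  have Oab : O a ∧ O b ∧ O (a * b) := by
    rcases h.all _ hiP hiT with e | e | e | e
    · exact absurd e hi1
    · rw [e] at Oi
      have o2 := Ocl x hxN a Oi
      rw [x1] at o2
      have o3 := Ocl x hxN b o2
      rw [x2] at o3
      exact ⟨Oi, o2, o3⟩
    · rw [e] at Oi
      have o3 := Ocl x hxN b Oi
      rw [x2] at o3
      have o1 := Ocl x hxN _ o3
      rw [x3] at o1
      exact ⟨o1, Oi, o3⟩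
    · rw [e] at Oi
      have o1 := Ocl x hxN _ Oi
      rw [x3] at o1
      have o2 := Ocl x hxN a o1
      rw [x1] at o2
      exact ⟨o1, o2, Oi⟩
  have rotJ : ∀ y z : G, x * y * x⁻¹ = z → O (J * y) → O (J * z) := by
    intro y z hyz hy
    have o1 := Ocl x hxN _ hy
    have e : x * (J * y) * x⁻¹ = J * z := by
      rw [← hyz]
      calc x * (J * y) * x⁻¹ = (x * J * x⁻¹) * (x * y * x⁻¹) := by group
        _ = _ := by rw [x5]
    rwa [e] at o1
  have OJa : O (J * a) := by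
    by_contra hno
    have hnob : ¬ O (J * b) := fun o => hno (rotJ _ _ x3 (rotJ _ _ x2 o))
    have hnoab : ¬ O (J * (a * b)) := fun o => hno (rotJ _ _ x3 o)
    have hnoJ : ∀ y ∈ (P : Subgroup G), y ∈ T → y ≠ 1 → ¬ O (J * y) := by
      intro y hy hyT hy1
      rcases h.all y hy hyT with e | e | e | e
      · exact absurd e hy1
      · rw [e]; exact hno
      · rw [e]; exact hnob
      · rw [e]; exact hnoab
    -- elements of `O` in `P` are `J` or in `T`
    have hOT : ∀ y ∈ (P : Subgroup G), y ≠ J → O y → y ∈ T := by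
      intro y hy hyJ hOy
      rcases h.cs.cent y (h.cP y hy) with h5 | h5
      · exact h5
      · exfalso
        have h6 : y * J ≠ 1 := by
          intro h7
          apply hyJ
          have : y = J⁻¹ := eq_inv_of_mul_eq_one_left h7
          rw [this, inv_eq_iff_mul_eq_one, h.cs.JJ]
        apply hnoJ (y * J) (mul_mem hy h.JP) h5 h6
        have h7 : J * (y * J) = y := by
          rw [h.cP y hy, ← mul_assoc, h.cs.JJ, one_mul]
        rwa [h7]
    have na := (mem_normalizer_iff.1 hnN a).1 h.aP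
    have nb := (mem_normalizer_iff.1 hnN b).1 h.bP
    have oa := Ocl n hnN a Oab.1
    have ob := Ocl n hnN b Oab.2.1
    have oab := Ocl n hnN _ Oab.2.2
    have eab : n * (a * b) * n⁻¹ = (n * a * n⁻¹) * (n * b * n⁻¹) := by group
    rw [eab] at oab
    have inj : ∀ y z : G, n * y * n⁻¹ = n * z * n⁻¹ → y = z := fun y z hyz =>
      mul_left_cancel (mul_right_cancel hyz)
    have ne1 : ∀ y : G, y ≠ 1 → n * y * n⁻¹ ≠ 1 := fun y hy h5 =>
      hy (inj y 1 (by rw [h5]; group))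
    have hJT := h.cs.notin
    by_cases ea : n * a * n⁻¹ = J
    · have eb : n * b * n⁻¹ ≠ J := fun e => h.ab (inj _ _ (ea.trans e.symm))
      have hbT := hOT _ nb eb ob
      rw [ea] at oab
      exact hnoJ _ nb hbT (ne1 b h.b1) oab
    · have haT := hOT _ na ea oa
      by_cases eb : n * b * n⁻¹ = J
      · rw [eb, h.cP _ na] at oab
        exact hnoJ _ na haT (ne1 a h.a1) oab
      · have hbT := hOT _ nb eb ob
        have h9 := h.tf.t3 ⟨_, haT⟩ ⟨Subtype.ext (h.sq _ na), fun e => ne1 a h.a1 (congrArg Subtype.val e)⟩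
          ⟨_, hbT⟩ ⟨Subtype.ext (h.sq _ nb), fun e => ne1 b h.b1 (congrArg Subtype.val e),
          fun e => h.ab (inj _ _ (congrArg Subtype.val e)), Subtype.ext (h.ab_P _ na _ nb)⟩ ⟨_, hiT⟩
          ⟨Subtype.ext (h.ab_P _ hiP _ na), Subtype.ext (h.ab_P _ hiP _ nb)⟩
        rcases h9 with h9 | h9 | h9 | h9
        · exact hi1 (congrArg Subtype.val h9)
        · have := inj _ _ (congrArg Subtype.val h9)
          exact hJT (by rw [this]; exact h.aT)
        · have := inj _ _ (congrArg Subtype.val h9)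
          exact hJT (by rw [this]; exact h.bT)
        · have h10 : n * J * n⁻¹ = n * a * n⁻¹ * (n * b * n⁻¹) := congrArg Subtype.val h9
          rw [← eab] at h10
          have := inj _ _ h10
          exact hJT (by rw [this]; exact T.mul_mem h.aT h.bT)
  have OJb := rotJ _ _ x1 OJa
  have OJab := rotJ _ _ x2 OJb
  intro s hs hs1
  rcases h.cs.cent s (h.cP s hs) with h5 | h5
  · rcases h.all s hs h5 with e | e | e | e
    · exact absurd e hs1
    · rw [e]; exact Oab.1
    · rw [e]; exact Oab.2.1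
    · rw [e]; exact Oab.2.2
  · have h6 : s = J * (s * J) := by rw [h.cP s hs, ← mul_assoc, h.cs.JJ, one_mul]
    rw [h6]
    rcases h.all _ (mul_mem hs h.JP) h5 with e | e | e | e
    · rw [e, mul_one]; exact OJ
    · rw [e]; exact OJa
    · rw [e]; exact OJb
    · rw [e]; exact OJab

end Loc

end Cfsg.Agent.Lib.H10TCI
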