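import Cfsg.Agent.Lib.H10TCI2

set_option autoImplicit false
set_option linter.unusedSectionVars false

/-!
# Involution centralizers `2 × A₄`, `2 × A₅`: the odd core, simplicity
-/

namespace Cfsg.Agent.Lib.H10TCI

open Cfsg Subgroup Cfsg.Agent.Lib

variable {G : Type*} [Group G] [Finite G] {J : G} {T : Subgroup G}

/-- an involution acting without fixed points on a normal subgroup inverts it -/
theorem inverts {K : Subgroup G} [K.Normal] {v : G} (hv : v * v = 1) (hfix : ∀ k ∈ K, k * v = v * k → k = 1) :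
    ∀ k ∈ K, v * k * v⁻¹ = k⁻¹ := by
  have hf : MonoidHom.FixedPointFree (MulAut.conjNormal v : MulAut K).toMonoidHom := by
    intro k hk
    have h1 : v * (k : G) * v⁻¹ = k := by
      have := congrArg Subtype.val hk
      simpa [MulAut.conjNormal_apply] using this
    exact Subtype.ext (hfix k k.2 (mul_inv_eq_iff_eq_mul.1 h1).symm)
  have h2 : Function.Involutive (MulAut.conjNormal v : MulAut K).toMonoidHom := by
    intro k
    apply Subtype.ext
    show ((MulAut.conjNormal v (MulAut.conjNormal v k) : K) : G) = k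
    rw [MulAut.conjNormal_apply, MulAut.conjNormal_apply]
    calc v * (v * (k : G) * v⁻¹) * v⁻¹ = (v * v) * k * (v * v)⁻¹ := by group
      _ = k := by rw [hv]; group
  intro k hk
  have h3 := congrFun (hf.coe_eq_inv_of_involutive h2) ⟨k, hk⟩
  have h4 := congrArg Subtype.val h3
  simpa [MulAut.conjNormal_apply] using h4

namespace Loc

variable {P : Sylow 2 G} {a b : G}

theorem core (h : Loc J T P a b) (h2 : ∀ N : Subgroup G, N.Normal → N.index ≠ 2) : oddCore G = ⊥ := by
  set K := oddCore G with hK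
  have hKn : K.Normal := by rw [hK]; infer_instance
  have hodd : Odd (Nat.card K) := H23Basic.odd_card_oddCore
  -- `C_K(J) = 1`
  have s1 : ∀ k ∈ K, k * J = J * k → k = 1 := by
    intro k hk hkJ
    have hko : Odd (orderOf k) := by
      have h3 : orderOf (⟨k, hk⟩ : K) ∣ Nat.card K := orderOf_dvd_natCard _
      rw [Subgroup.orderOf_mk] at h3
      exact Odd.of_dvd_nat hodd h3
    have hkT : k ∈ T := by
      rcases h.cs.cent k hkJ with h3 | h3
      · exact h3
      · exfalso
        apply h.cs.notin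
        have h4 : (k * J) ^ orderOf k = J := by
          have hc : Commute k J := hkJ
          rw [hc.mul_pow, pow_orderOf_eq_one, one_mul]
          obtain ⟨m, hm⟩ := hko
          rw [hm, pow_succ, pow_mul, _root_.sq, h.cs.JJ, one_pow, one_mul]
        rw [← h4]
        exact T.pow_mem h3 _
    have hn : (K.subgroupOf T).Normal := inferInstance
    have h3 := h.tf.odd (K.subgroupOf T) hn (by
      have h4 : Nat.card (K.subgroupOf T) ∣ Nat.card K := by
        have h5 := card_comap_dvd_of_injective K T.subtype T.subtype_injective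
        exact h5
      exact Odd.of_dvd_nat hodd h4)
    have h4 : (⟨k, hkT⟩ : T) ∈ K.subgroupOf T := mem_subgroupOf.2 hk
    rw [h3, mem_bot] at h4
    exact congrArg Subtype.val h4
  have s2 : ∀ v ∈ (P : Subgroup G), v ≠ 1 → ∀ k ∈ K, k * v = v * k → k = 1 := by
    intro v hv hv1 k hk hkv
    obtain ⟨n, -, hn⟩ := h.fusion h2 v hv hv1
    have h3 := s1 (n⁻¹ * k * n⁻¹⁻¹) (hKn.conj_mem k hk n⁻¹) (by
      rw [← hn] at hkv
      calc n⁻¹ * k * n⁻¹⁻¹ * J = n⁻¹ * (k * (n * J * n⁻¹)) * n := by group
        _ = J * (n⁻¹ * k * n⁻¹⁻¹) := by rw [hkv]; group)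
    calc k = n * (n⁻¹ * k * n⁻¹⁻¹) * n⁻¹ := by group
      _ = 1 := by rw [h3]; group
  rw [eq_bot_iff]
  intro k hk
  rw [mem_bot]
  have ia := inverts (K := K) h.aa (s2 a h.aP h.a1)
  have ib := inverts (K := K) h.bb (s2 b h.bP h.b1)
  apply s2 (a * b) (mul_mem h.aP h.bP) (by
    intro h3
    apply h.ab
    have h4 : a = b⁻¹ := eq_inv_of_mul_eq_one_left h3
    rw [h4, inv_eq_iff_mul_eq_one, h.bb]) k hk
  have h3 : (a * b) * k * (a * b)⁻¹ = k := by
    calc (a * b) * k * (a * b)⁻¹ = a * (b * k * b⁻¹) * a⁻¹ := by group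
      _ = a * k⁻¹ * a⁻¹ := by rw [ib k hk]
      _ = k⁻¹⁻¹ := ia _ (K.inv_mem hk)
      _ = k := inv_inv k
  exact (mul_inv_eq_iff_eq_mul.1 h3).symm

theorem hyp (h : Loc J T P a b) (h2 : ∀ N : Subgroup G, N.Normal → N.index ≠ 2) (hnn : ¬ (P : Subgroup G).Normal) :
    H10Eight.Hyp P J where
  card := h.card
  ord := h.ord
  cent := h.cent
  mem := h.JP
  ne := h.cs.ne
  tr := h.fusion h2
  core := h.core h2
  nn := hnn

/-- the case `T` simple -/
theorem simple_of (h : Loc J T P a b) (h2 : ∀ N : Subgroup G, N.Normal → N.index ≠ 2) (hT : IsSimpleGroup T)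
    (h60 : Nat.card T = 60) : IsSimpleGroup G := by
  -- a normal subgroup of `T` containing `a` is everything
  have hTn : ∀ M : Subgroup G, (M.subgroupOf T).Normal → a ∈ M → T ≤ M := by
    intro M hM ha
    rcases hM.eq_bot_or_eq_top with h3 | h3
    · exfalso
      have h4 : (⟨a, h.aT⟩ : T) ∈ M.subgroupOf T := mem_subgroupOf.2 ha
      rw [h3, mem_bot] at h4
      exact h.a1 (congrArg Subtype.val h4)
    · exact subgroupOf_eq_top.1 h3
  have hnn : ¬ (P : Subgroup G).Normal := by
    intro hn
    have h3 : T ≤ P := hTn P inferInstance h.aP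
    have h4 := card_dvd_of_le h3
    rw [h60] at h4
    have h5 := h.card
    change Nat.card (P : Subgroup G) = 8 at h5
    rw [h5] at h4
    omega
  have hy := h.hyp h2 hnn
  have hs := hy.simple
  have htop : normalClosure ((P : Subgroup G) : Set G) = ⊤ := by
    apply hy.eq_top _ H10Eight.Hyp.S_le
    intro c hc
    have hTM : T ≤ normalClosure ((P : Subgroup G) : Set G) := hTn _ inferInstance (H10Eight.Hyp.S_le h.aP)
    have hJM : J ∈ normalClosure ((P : Subgroup G) : Set G) := H10Eight.Hyp.S_le h.JP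
    rcases h.cs.cent c (mem_centralizer_singleton_iff.1 hc) with h3 | h3
    · exact hTM h3
    · have h4 : c = c * J * J := by rw [mul_assoc, h.cs.JJ, mul_one]
      rw [h4]
      exact mul_mem (hTM h3) hJM
  rw [htop] at hs
  exact (MulEquiv.isSimpleGroup_congr (topEquiv (G := G))).1 hs

end Loc

end Cfsg.Agent.Lib.H10TCI
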