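import Cfsg.Agent.Lib.H10TwoA4Comb
import Cfsg.Agent.Lib.AbTI
import Cfsg.Agent.Lib.CharValues

set_option autoImplicit false
set_option linter.unusedSectionVars false

/-!
# Characters of a group with an involution centralizer `2 × A₄`

`card_eq`: such a group (perfect, one class of involutions) would have order `2376`.
-/

namespace Cfsg.Agent.Lib.H10TwoA4

open scoped ComplexConjugate
open Cfsg Cfsg.Agent.Lib.CharBasic Cfsg.Agent.Lib.AbTI Cfsg.Agent.Lib.H10TwoA4Comb

universe u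

section Root

/-- a primitive cube root of unity -/
noncomputable def om : ℂ := Complex.exp (2 * Real.pi * Complex.I / 3)

theorem om_prim : IsPrimitiveRoot om 3 := Complex.isPrimitiveRoot_exp 3 (by norm_num)

theorem om3 : om ^ 3 = 1 := om_prim.pow_eq_one

theorem om2 : om ^ 2 + om + 1 = 0 := by
  have h1 : (om - 1) * (om ^ 2 + om + 1) = 0 := by
    have := om3
    linear_combination this
  rcases mul_eq_zero.1 h1 with h2 | h2
  · exact absurd (sub_eq_zero.1 h2) (om_prim.ne_one (by norm_num))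
  · exact h2

theorem root3 {z : ℂ} (h : z ^ 3 = 1) : z = 1 ∨ z = om ∨ z = om ^ 2 := by
  have h1 : (z - 1) * ((z - om) * (z - om ^ 2)) = 0 := by
    linear_combination h + (z - z ^ 2) * om2 + (z - 1) * om3
  rcases mul_eq_zero.1 h1 with h2 | h2
  · exact Or.inl (sub_eq_zero.1 h2)
  · rcases mul_eq_zero.1 h2 with h2 | h2
    · exact Or.inr (Or.inl (sub_eq_zero.1 h2))
    · exact Or.inr (Or.inr (sub_eq_zero.1 h2))

theorem root6 {z : ℂ} (h : z ^ 6 = 1) : ∃ a b c : ℤ, z ^ 3 = a + b + c ∧ z ^ 1 = a + b * om + c * om ^ 2 ∧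
    z ^ 5 = a + b * om ^ 2 + c * om := by
  have h3 := om3
  have key : ∀ s : ℤ, s ^ 2 = 1 → z ^ 3 = s → ∃ a b c : ℤ, z ^ 3 = a + b + c ∧ z ^ 1 = a + b * om + c * om ^ 2 ∧
    z ^ 5 = a + b * om ^ 2 + c * om := by
    intro s hs hz
    have hs' : (s : ℂ) ^ 2 = 1 := by exact_mod_cast hs
    have h1 : (s * z) ^ 3 = 1 := by
      rw [mul_pow, hz]
      linear_combination ((s : ℂ) ^ 2 + 1) * hs'
    have hz5 : z ^ 5 = s * z ^ 2 := by rw [← hz]; ring
    rcases root3 h1 with h2 | h2 | h2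
    · have h4 : z = s := by linear_combination (s : ℂ) * h2 - z * hs'
      refine ⟨s, 0, 0, ?_, ?_, ?_⟩
      · rw [hz]; simp
      · rw [h4]; simp
      · rw [hz5, h4]; push_cast; linear_combination (s : ℂ) * hs'
    · have h4 : z = s * om := by linear_combination (s : ℂ) * h2 - z * hs'
      refine ⟨0, s, 0, ?_, ?_, ?_⟩
      · rw [hz]; simp
      · rw [h4]; simp
      · rw [hz5, h4]; push_cast; linear_combination (s : ℂ) * om ^ 2 * hs'
    · have h4 : z = s * om ^ 2 := by linear_combination (s : ℂ) * h2 - z * hs'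
      refine ⟨0, 0, s, ?_, ?_, ?_⟩
      · rw [hz]; simp
      · rw [h4]; simp
      · rw [hz5, h4]; push_cast; linear_combination (s : ℂ) * om ^ 4 * hs' + (s : ℂ) * om * h3
  have h1 : (z ^ 3 - 1) * (z ^ 3 + 1) = 0 := by linear_combination h
  rcases mul_eq_zero.1 h1 with h2 | h2
  · exact key 1 (by norm_num) (by push_cast; linear_combination h2)
  · exact key (-1) (by norm_num) (by push_cast; linear_combination h2)

end Root

section Main

variable {G : Type u} [Group G] [Finite G]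

theorem exists_abc {y : G} (hy : orderOf y = 6) (χ : IrrCharacter G) : ∃ a b c : ℤ,
    (χ : G → ℂ) (y ^ 3) = a + b + c ∧ (χ : G → ℂ) y = a + b * om + c * om ^ 2 ∧
    (χ : G → ℂ) y⁻¹ = a + b * om ^ 2 + c * om := by
  obtain ⟨n, ρ, -, hρ⟩ := χ.2
  obtain ⟨μ, h1, h2⟩ := Cfsg.Agent.Lib.CharValues.exists_eigenvalues ρ y
  rw [hy] at h1
  choose a b c ha hb hc using fun i => root6 (h1 i)
  have e1 : (χ : G → ℂ) (y ^ 3) = ∑ i, μ i ^ 3 := by rw [← hρ]; exact h2 3
  have e2 : (χ : G → ℂ) y = ∑ i, μ i ^ 1 := by rw [← hρ]; have := h2 1; rwa [pow_one] at this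
  have e3 : (χ : G → ℂ) y⁻¹ = ∑ i, μ i ^ 5 := by
    rw [← hρ]
    have h5 : y⁻¹ = y ^ 5 := by
      rw [inv_eq_iff_mul_eq_one, ← pow_succ']
      show y ^ 6 = 1
      rw [← hy, pow_orderOf_eq_one]
    rw [h5]; exact h2 5
  refine ⟨∑ i, a i, ∑ i, b i, ∑ i, c i, ?_, ?_, ?_⟩
  · rw [e1]; push_cast; rw [← Finset.sum_add_distrib, ← Finset.sum_add_distrib]
    exact Finset.sum_congr rfl fun i _ => ha i
  · rw [e2]; push_cast; rw [Finset.sum_mul, Finset.sum_mul, ← Finset.sum_add_distrib, ← Finset.sum_add_distrib]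
    exact Finset.sum_congr rfl fun i _ => hb i
  · rw [e3]; push_cast; rw [Finset.sum_mul, Finset.sum_mul, ← Finset.sum_add_distrib, ← Finset.sum_add_distrib]
    exact Finset.sum_congr rfl fun i _ => hc i

/-- the number of `a` with `t · t^a` conjugate to `t` (the centralizer need not be abelian) -/
theorem card_pairs' {t : G} (ht : orderOf t = 2)
    (hconj : ∀ s ∈ Subgroup.centralizer ({t} : Set G), orderOf s = 2 → IsConj t s) :
    Nat.card {a : G // IsConj (t * a * t * a⁻¹) t⁻¹} =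
      (Nat.card {s : G // s ∈ Subgroup.centralizer ({t} : Set G) ∧ orderOf s = 2} - 1) *
        Nat.card (Subgroup.centralizer ({t} : Set G)) := by
  classical
  have := Fintype.ofFinite G
  have hti : t⁻¹ = t := inv_of_order_two ht
  have htt : t * t = 1 := by rw [← sq, ← ht, pow_orderOf_eq_one]
  have ht1 : t ≠ 1 := by rintro rfl; simp at ht
  have key : ∀ a : G, IsConj (t * a * t * a⁻¹) t⁻¹ ↔
      ((a * t * a⁻¹) ∈ Subgroup.centralizer ({t} : Set G) ∧ orderOf (a * t * a⁻¹) = 2 ∧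
        a * t * a⁻¹ ≠ t) := by
    intro a
    have hoa : orderOf (a * t * a⁻¹) = 2 := by
      rw [← ht]
      exact orderOf_injective (MulAut.conj a).toMonoidHom (MulAut.conj a).injective t
    set s := a * t * a⁻¹ with hs
    have hsi : s⁻¹ = s := inv_of_order_two hoa
    have hss : s * s = 1 := by rw [← sq, ← hoa, pow_orderOf_eq_one]
    have e : t * a * t * a⁻¹ = t * s := by rw [hs]; group
    rw [e, hti]
    constructor
    · intro h
      obtain ⟨c, hc⟩ := isConj_iff.1 h.symm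
      have ho : orderOf (t * s) = 2 := by
        rw [← hc, ← ht]
        exact orderOf_injective (MulAut.conj c).toMonoidHom (MulAut.conj c).injective t
      have h1 : (t * s) * (t * s) = 1 := by rw [← sq, ← ho, pow_orderOf_eq_one]
      refine ⟨?_, hoa, ?_⟩
      · rw [Subgroup.mem_centralizer_singleton_iff]
        calc s * t = t * (t * s * (t * s)) * s := by
              calc s * t = (t * t) * (s * t) * (s * s) := by rw [htt, hss]; group
                _ = t * (t * s * (t * s)) * s := by group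
          _ = t * s := by rw [h1]; group
      · intro h2
        rw [h2, htt] at ho
        simp at ho
    · rintro ⟨h1, -, h3⟩
      have h2 := Subgroup.mem_centralizer_singleton_iff.1 h1
      apply (hconj _ _ _).symm
      · rw [Subgroup.mem_centralizer_singleton_iff]
        rw [mul_assoc, h2]
      · rw [orderOf_eq_prime_iff (p := 2)]
        constructor
        · rw [sq]
          calc t * s * (t * s) = t * (s * t) * s := by group
            _ = t * t * (s * s) := by rw [h2]; group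
            _ = 1 := by rw [htt, hss, mul_one]
        · intro h4
          apply h3
          have : s = t⁻¹ := (inv_eq_of_mul_eq_one_right h4).symm
          rw [this, hti]
  have e1 : {a : G // IsConj (t * a * t * a⁻¹) t⁻¹} ≃
      Σ s : {s : {s : G // s ∈ Subgroup.centralizer ({t} : Set G) ∧ orderOf s = 2} // s.1 ≠ t},
        {a : G // a * t * a⁻¹ = s.1.1} :=
    { toFun := fun a => ⟨⟨⟨a.1 * t * a.1⁻¹, ((key a.1).1 a.2).1, ((key a.1).1 a.2).2.1⟩,
          ((key a.1).1 a.2).2.2⟩, ⟨a.1, rfl⟩⟩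
      invFun := fun p => ⟨p.2.1, (key _).2 (by
        rw [p.2.2]; exact ⟨p.1.1.2.1, p.1.1.2.2, p.1.2⟩)⟩
      left_inv := fun a => rfl
      right_inv := by
        rintro ⟨⟨⟨s, h1, h2⟩, h3⟩, a, h4⟩
        dsimp only at h4
        subst h4
        rfl }
  rw [Nat.card_congr e1, Nat.card_sigma]
  have h2 : ∀ s : {s : {s : G // s ∈ Subgroup.centralizer ({t} : Set G) ∧ orderOf s = 2} //
      s.1 ≠ t}, Nat.card {a : G // a * t * a⁻¹ = s.1.1} =
        Nat.card (Subgroup.centralizer ({t} : Set G)) := by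
    rintro ⟨⟨s, h1, h2⟩, h3⟩
    obtain ⟨c, hc⟩ := isConj_iff.1 (hconj s h1 h2)
    exact card_fiber t s c hc
  rw [Finset.sum_congr rfl (fun s _ => h2 s), Finset.sum_const, smul_eq_mul, Finset.card_univ,
    ← Nat.card_eq_fintype_card]
  congr 1
  have htm : t ∈ Subgroup.centralizer ({t} : Set G) ∧ orderOf t = 2 :=
    ⟨Subgroup.mem_centralizer_singleton_iff.2 rfl, ht⟩
  have e2 : {s : {s : G // s ∈ Subgroup.centralizer ({t} : Set G) ∧ orderOf s = 2} // s.1 ≠ t} ≃
      {s : {s : G // s ∈ Subgroup.centralizer ({t} : Set G) ∧ orderOf s = 2} // ¬ (s = ⟨t, htm⟩)} :=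
    Equiv.subtypeEquivRight (fun s => by
      constructor
      · intro h1 h2; exact h1 (congrArg Subtype.val h2)
      · intro h1 h2; exact h1 (Subtype.ext h2))
  rw [Nat.card_congr e2, Nat.card_eq_fintype_card, Fintype.card_subtype_compl,
    Fintype.card_subtype_eq, ← Nat.card_eq_fintype_card]

theorem sum_at_t' {t : G} (ht : orderOf t = 2)
    (hconj : ∀ s ∈ Subgroup.centralizer ({t} : Set G), orderOf s = 2 → IsConj t s) :
    (Nat.card G : ℂ) * ∑ χ : IrrCharacter G, (χ : G → ℂ) t ^ 2 / (χ : G → ℂ) 1 * (χ : G → ℂ) t =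
      ((Nat.card {s : G // s ∈ Subgroup.centralizer ({t} : Set G) ∧ orderOf s = 2} - 1 : ℕ) : ℂ) *
        Nat.card (Subgroup.centralizer ({t} : Set G)) ^ 2 := by
  classical
  have := Fintype.ofFinite G
  have hti : t⁻¹ = t := inv_of_order_two ht
  have hG : (Nat.card G : ℂ) ≠ 0 := by exact_mod_cast Nat.card_pos.ne'
  simp only [term_eq, finsum_eq_sum_of_fintype]
  rw [← Finset.mul_sum, Finset.sum_comm, mul_inv_cancel_left₀ hG]
  have h2 : ∀ a : G, ∑ χ : IrrCharacter G, (χ : G → ℂ) (t * a * t * a⁻¹) *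
      conj ((χ : G → ℂ) t⁻¹) = if IsConj (t * a * t * a⁻¹) t⁻¹ then
        (Nat.card (Subgroup.centralizer ({t} : Set G)) : ℂ) else 0 := by
    intro a
    rw [column_orthogonality]
    by_cases h : IsConj (t * a * t * a⁻¹) t⁻¹
    · rw [if_pos h, if_pos h, card_centralizer_of_isConj h, hti]
    · rw [if_neg h, if_neg h]
  simp only [h2]
  rw [← Finset.sum_filter, Finset.sum_const, nsmul_eq_mul]
  have h3 : ((Finset.univ.filter (fun a : G => IsConj (t * a * t * a⁻¹) t⁻¹)).card : ℂ) =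
      (Nat.card {a : G // IsConj (t * a * t * a⁻¹) t⁻¹} : ℂ) := by
    rw [Nat.card_eq_fintype_card, Fintype.card_subtype]
  rw [h3, card_pairs' ht hconj]
  push_cast
  ring

theorem false_one_conj {a : G} (h : IsConj a 1) : a = 1 := isConj_one_left.mp h

/-- **The order of a perfect group with one class of involutions and involution centralizer `2 × A₄`.** -/
theorem card_eq {t y : G} (ht : orderOf t = 2) (hy : orderOf y = 6) (hyt : y ^ 3 = t)
    (hCt : Nat.card (Subgroup.centralizer ({t} : Set G)) = 24)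
    (hCy : Nat.card (Subgroup.centralizer ({y} : Set G)) = 6)
    (hyi : ¬ IsConj y y⁻¹)
    (hconj : ∀ s ∈ Subgroup.centralizer ({t} : Set G), orderOf s = 2 → IsConj t s)
    (h7 : Nat.card {s : G // s ∈ Subgroup.centralizer ({t} : Set G) ∧ orderOf s = 2} = 7)
    (hlin : ∀ χ : IrrCharacter G, (χ : G → ℂ) 1 = 1 → (χ : G → ℂ) = 1)
    (S : Subgroup G) (hS : Nat.card S = 8) (hSt : ∀ s ∈ S, s ≠ 1 → IsConj t s) :
    Nat.card G = 2376 := by
  classical
  have hti : t⁻¹ = t := inv_of_order_two ht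
  have hy3 : ∀ χ : IrrCharacter G, ∃ a b c : ℤ, (χ : G → ℂ) t = a + b + c ∧
      (χ : G → ℂ) y = a + b * om + c * om ^ 2 ∧ (χ : G → ℂ) y⁻¹ = a + b * om ^ 2 + c * om := by
    intro χ
    have := exists_abc hy χ
    rwa [hyt] at this
  choose A B C hT hY hY' using hy3
  choose D hD0 hD using fun χ : IrrCharacter G => χ.2.exists_degree
  -- expressions of `A`, `B`, `C`
  have h2 := om2
  have h3 := om3
  have eA : ∀ χ : IrrCharacter G, (A χ : ℂ) = ((χ : G → ℂ) t + (χ : G → ℂ) y + (χ : G → ℂ) y⁻¹) / 3 := by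
    intro χ; rw [hT, hY, hY']
    linear_combination (-(B χ : ℂ) / 3 - (C χ : ℂ) / 3) * h2
  have eB : ∀ χ : IrrCharacter G, (B χ : ℂ) = ((χ : G → ℂ) t + om ^ 2 * (χ : G → ℂ) y + om * (χ : G → ℂ) y⁻¹) / 3 := by
    intro χ; rw [hT, hY, hY']
    linear_combination (-(A χ : ℂ) / 3 - (C χ : ℂ) / 3) * h2 + (-2 * (B χ : ℂ) / 3 - (C χ : ℂ) / 3 * om) * h3
  have eC : ∀ χ : IrrCharacter G, (C χ : ℂ) = ((χ : G → ℂ) t + om * (χ : G → ℂ) y + om ^ 2 * (χ : G → ℂ) y⁻¹) / 3 := by
    intro χ; rw [hT, hY, hY']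
    linear_combination (-(A χ : ℂ) / 3 - (B χ : ℂ) / 3) * h2 + (-2 * (C χ : ℂ) / 3 - (B χ : ℂ) / 3 * om) * h3
  -- conjugates
  have cT : ∀ χ : IrrCharacter G, conj ((χ : G → ℂ) t) = (χ : G → ℂ) t := fun χ => by
    rw [← χ.2.inv, hti]
  have cY : ∀ χ : IrrCharacter G, conj ((χ : G → ℂ) y⁻¹) = (χ : G → ℂ) y := fun χ => by
    rw [← χ.2.inv, inv_inv]
  have cY' : ∀ χ : IrrCharacter G, conj ((χ : G → ℂ) y) = (χ : G → ℂ) y⁻¹ := fun χ => by
    rw [← χ.2.inv]
  have cD : ∀ χ : IrrCharacter G, conj ((χ : G → ℂ) 1) = (D χ : ℂ) := fun χ => by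
    rw [hD]; simp
  have ord : ∀ {a b : G}, IsConj a b → orderOf a = orderOf b := fun {a b} h => by
    obtain ⟨c, hc⟩ := isConj_iff.1 h
    rw [← hc]
    exact (orderOf_injective (MulAut.conj c).toMonoidHom (MulAut.conj c).injective a).symm
  have hoi : orderOf y⁻¹ = 6 := by rw [orderOf_inv, hy]
  have nty : ¬ IsConj t y := fun h => by have := ord h; omega
  have nty' : ¬ IsConj t y⁻¹ := fun h => by have := ord h; omega
  have nt1 : ¬ IsConj t 1 := fun h => by have := ord h; rw [ht, orderOf_one] at this; omega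
  have ny1 : ¬ IsConj y 1 := fun h => by have := ord h; rw [hy, orderOf_one] at this; omega
  have ny'1 : ¬ IsConj y⁻¹ 1 := fun h => by have := ord h; rw [hoi, orderOf_one] at this; omega
  have sTT : ∑ χ : IrrCharacter G, (χ : G → ℂ) t * (χ : G → ℂ) t = 24 := by
    have h1 := column_orthogonality t t
    rw [if_pos (IsConj.refl t), hCt] at h1
    simpa only [cT, Nat.cast_ofNat] using h1
  have sYY' : ∑ χ : IrrCharacter G, (χ : G → ℂ) y * (χ : G → ℂ) y⁻¹ = 6 := by
    have h1 := column_orthogonality y y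
    rw [if_pos (IsConj.refl y), hCy] at h1
    simpa only [cY', Nat.cast_ofNat] using h1
  have sYY : ∑ χ : IrrCharacter G, (χ : G → ℂ) y * (χ : G → ℂ) y = 0 := by
    have h1 := column_orthogonality y y⁻¹
    rw [if_neg hyi] at h1
    simpa only [cY] using h1
  have sY'Y' : ∑ χ : IrrCharacter G, (χ : G → ℂ) y⁻¹ * (χ : G → ℂ) y⁻¹ = 0 := by
    have h1 := column_orthogonality y⁻¹ y
    rw [if_neg (fun h => hyi h.symm)] at h1
    simpa only [cY'] using h1
  have sTY : ∑ χ : IrrCharacter G, (χ : G → ℂ) t * (χ : G → ℂ) y = 0 := by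
    have h1 := column_orthogonality t y⁻¹
    rw [if_neg nty'] at h1
    simpa only [cY] using h1
  have sTY' : ∑ χ : IrrCharacter G, (χ : G → ℂ) t * (χ : G → ℂ) y⁻¹ = 0 := by
    have h1 := column_orthogonality t y
    rw [if_neg nty] at h1
    simpa only [cY'] using h1
  have sTD : ∑ χ : IrrCharacter G, (χ : G → ℂ) t * (D χ : ℂ) = 0 := by
    have h1 := column_orthogonality t 1
    rw [if_neg nt1] at h1
    simpa only [cD] using h1
  have sYD : ∑ χ : IrrCharacter G, (χ : G → ℂ) y * (D χ : ℂ) = 0 := by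
    have h1 := column_orthogonality y 1
    rw [if_neg ny1] at h1
    simpa only [cD] using h1
  have sY'D : ∑ χ : IrrCharacter G, (χ : G → ℂ) y⁻¹ * (D χ : ℂ) = 0 := by
    have h1 := column_orthogonality y⁻¹ 1
    rw [if_neg ny'1] at h1
    simpa only [cD] using h1
  -- quadratic relations
  have quad : ∀ p q r p' q' r' : ℂ, ∑ χ : IrrCharacter G,
      ((p * (χ : G → ℂ) t + q * (χ : G → ℂ) y + r * (χ : G → ℂ) y⁻¹) *
      (p' * (χ : G → ℂ) t + q' * (χ : G → ℂ) y + r' * (χ : G → ℂ) y⁻¹)) = 24 * (p * p') + 6 * (q * r' + r * q') := by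
    intro p q r p' q' r'
    have h1 : ∀ χ : IrrCharacter G, ((p * (χ : G → ℂ) t + q * (χ : G → ℂ) y + r * (χ : G → ℂ) y⁻¹) *
      (p' * (χ : G → ℂ) t + q' * (χ : G → ℂ) y + r' * (χ : G → ℂ) y⁻¹)) =
      p * p' * ((χ : G → ℂ) t * (χ : G → ℂ) t) + q * q' * ((χ : G → ℂ) y * (χ : G → ℂ) y) +
      r * r' * ((χ : G → ℂ) y⁻¹ * (χ : G → ℂ) y⁻¹) + (p * q' + q * p') * ((χ : G → ℂ) t * (χ : G → ℂ) y) +
      (p * r' + r * p') * ((χ : G → ℂ) t * (χ : G → ℂ) y⁻¹) + (q * r' + r * q') * ((χ : G → ℂ) y * (χ : G → ℂ) y⁻¹) := by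
      intro χ; ring
    rw [Finset.sum_congr rfl fun χ _ => h1 χ]
    simp only [Finset.sum_add_distrib, ← Finset.mul_sum, sTT, sYY, sY'Y', sTY, sTY', sYY']
    ring
  have linD : ∀ p q r : ℂ, ∑ χ : IrrCharacter G,
      ((p * (χ : G → ℂ) t + q * (χ : G → ℂ) y + r * (χ : G → ℂ) y⁻¹) * (D χ : ℂ)) = 0 := by
    intro p q r
    have h1 : ∀ χ : IrrCharacter G, ((p * (χ : G → ℂ) t + q * (χ : G → ℂ) y + r * (χ : G → ℂ) y⁻¹) * (D χ : ℂ)) =
      p * ((χ : G → ℂ) t * (D χ : ℂ)) + q * ((χ : G → ℂ) y * (D χ : ℂ)) + r * ((χ : G → ℂ) y⁻¹ * (D χ : ℂ)) := by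
      intro χ; ring
    rw [Finset.sum_congr rfl fun χ _ => h1 χ]
    simp only [Finset.sum_add_distrib, ← Finset.mul_sum, sTD, sYD, sY'D]
    ring
  -- structure constants
  have hnoinv : ∀ g : G, g = y ∨ g = y⁻¹ → ∀ h : G, (h * t * h⁻¹) * g * (h * t * h⁻¹)⁻¹ ≠ g⁻¹ := by
    intro g hg h he
    apply hyi
    rcases hg with rfl | rfl
    · exact isConj_iff.2 ⟨_, he⟩
    · rw [inv_inv] at he
      exact (isConj_iff.2 ⟨_, he⟩ : IsConj y⁻¹ y).symm
  have kY := sum_eq_zero ht (hnoinv y (Or.inl rfl))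
  have kY' := sum_eq_zero ht (hnoinv y⁻¹ (Or.inr rfl))
  have kT := sum_at_t' ht hconj
  rw [h7, hCt] at kT
  have hG : (Nat.card G : ℂ) ≠ 0 := by exact_mod_cast Nat.card_pos.ne'
  have kT' : ∑ χ : IrrCharacter G, (χ : G → ℂ) t ^ 2 / (χ : G → ℂ) 1 * (χ : G → ℂ) t = 3456 / (Nat.card G : ℂ) := by
    rw [eq_div_iff hG, mul_comm, kT]
    norm_num
  have linK : ∀ p q r : ℂ, ∑ χ : IrrCharacter G,
      ((p * (χ : G → ℂ) t + q * (χ : G → ℂ) y + r * (χ : G → ℂ) y⁻¹) * ((χ : G → ℂ) t ^ 2 / (χ : G → ℂ) 1)) =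
      p * (3456 / (Nat.card G : ℂ)) := by
    intro p q r
    have h1 : ∀ χ : IrrCharacter G, ((p * (χ : G → ℂ) t + q * (χ : G → ℂ) y + r * (χ : G → ℂ) y⁻¹) *
      ((χ : G → ℂ) t ^ 2 / (χ : G → ℂ) 1)) =
      p * ((χ : G → ℂ) t ^ 2 / (χ : G → ℂ) 1 * (χ : G → ℂ) t) + q * ((χ : G → ℂ) t ^ 2 / (χ : G → ℂ) 1 * (χ : G → ℂ) y) +
      r * ((χ : G → ℂ) t ^ 2 / (χ : G → ℂ) 1 * (χ : G → ℂ) y⁻¹) := by
      intro χ; ring
    rw [Finset.sum_congr rfl fun χ _ => h1 χ]
    simp only [Finset.sum_add_distrib, ← Finset.mul_sum, kT', kY, kY']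
    ring
  -- the data
  have o1 : ((⟨1, isIrrCharacter_one⟩ : IrrCharacter G) : G → ℂ) = 1 := rfl
  have data : Data A B C (fun χ => (D χ : ℤ)) (⟨1, isIrrCharacter_one⟩ : IrrCharacter G) (1152 / (Nat.card G : ℚ)) := by
    refine ⟨?_, ?_, ?_, ?_, ?_, ?_, ?_, ?_, ?_, ?_, ?_, ?_, ?_, ?_, ?_, ?_, ?_, ?_, ?_⟩
    · intro χ; exact_mod_cast hD0 χ
    · have h1 := eA ⟨1, isIrrCharacter_one⟩
      simp only [Pi.one_apply] at h1
      have h4 : (A ⟨1, isIrrCharacter_one⟩ : ℂ) = ((1 : ℤ) : ℂ) := by rw [h1]; norm_num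
      exact_mod_cast h4
    · have h1 := eB ⟨1, isIrrCharacter_one⟩
      simp only [Pi.one_apply] at h1
      have h4 : (B ⟨1, isIrrCharacter_one⟩ : ℂ) = ((0 : ℤ) : ℂ) := by rw [h1]; push_cast; linear_combination h2 / 3
      exact_mod_cast h4
    · have h1 := eC ⟨1, isIrrCharacter_one⟩
      simp only [Pi.one_apply] at h1
      have h4 : (C ⟨1, isIrrCharacter_one⟩ : ℂ) = ((0 : ℤ) : ℂ) := by rw [h1]; push_cast; linear_combination h2 / 3
      exact_mod_cast h4
    · have h1 := hD ⟨1, isIrrCharacter_one⟩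
      simp only [Pi.one_apply] at h1
      exact_mod_cast h1.symm
    · intro χ hχ
      apply Subtype.ext
      rw [o1]
      apply hlin χ
      rw [hD]
      exact_mod_cast hχ
    · have h1 := quad (1/3) (1/3) (1/3) (1/3) (1/3) (1/3)
      have h4 : ∑ χ, (A χ : ℂ) ^ 2 = ((4 : ℤ) : ℂ) := by
        rw [← Finset.sum_congr rfl (fun χ _ => show _ = _ from ?_), h1]
        · norm_num
        · rw [eA χ]; ring
      exact_mod_cast h4
    · have h1 := quad (1/3) (om^2/3) (om/3) (1/3) (om^2/3) (om/3)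
      have h4 : ∑ χ, (B χ : ℂ) ^ 2 = ((4 : ℤ) : ℂ) := by
        rw [← Finset.sum_congr rfl (fun χ _ => show _ = _ from ?_), h1]
        · push_cast; linear_combination (4/3 : ℂ) * h3
        · rw [eB χ]; ring
      exact_mod_cast h4
    · have h1 := quad (1/3) (om/3) (om^2/3) (1/3) (om/3) (om^2/3)
      have h4 : ∑ χ, (C χ : ℂ) ^ 2 = ((4 : ℤ) : ℂ) := by
        rw [← Finset.sum_congr rfl (fun χ _ => show _ = _ from ?_), h1]
        · push_cast; linear_combination (4/3 : ℂ) * h3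
        · rw [eC χ]; ring
      exact_mod_cast h4
    · have h1 := quad (1/3) (1/3) (1/3) (1/3) (om^2/3) (om/3)
      have h4 : ∑ χ, (A χ : ℂ) * B χ = ((2 : ℤ) : ℂ) := by
        rw [← Finset.sum_congr rfl (fun χ _ => show _ = _ from ?_), h1]
        · push_cast; linear_combination (2/3 : ℂ) * h2
        · rw [eA χ, eB χ]; ring
      exact_mod_cast h4
    · have h1 := quad (1/3) (1/3) (1/3) (1/3) (om/3) (om^2/3)
      have h4 : ∑ χ, (A χ : ℂ) * C χ = ((2 : ℤ) : ℂ) := by
        rw [← Finset.sum_congr rfl (fun χ _ => show _ = _ from ?_), h1]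
        · push_cast; linear_combination (2/3 : ℂ) * h2
        · rw [eA χ, eC χ]; ring
      exact_mod_cast h4
    · have h1 := quad (1/3) (om^2/3) (om/3) (1/3) (om/3) (om^2/3)
      have h4 : ∑ χ, (B χ : ℂ) * C χ = ((2 : ℤ) : ℂ) := by
        rw [← Finset.sum_congr rfl (fun χ _ => show _ = _ from ?_), h1]
        · push_cast; linear_combination (2/3 : ℂ) * h2 + (2/3 : ℂ) * om * h3
        · rw [eB χ, eC χ]; ring
      exact_mod_cast h4
    · have h1 := linD (1/3) (1/3) (1/3)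
      have h4 : ∑ χ, (A χ : ℂ) * ((D χ : ℤ) : ℂ) = ((0 : ℤ) : ℂ) := by
        rw [← Finset.sum_congr rfl (fun χ _ => show _ = _ from ?_), h1]
        · norm_num
        · rw [eA χ]; push_cast; ring
      exact_mod_cast h4
    · have h1 := linD (1/3) (om^2/3) (om/3)
      have h4 : ∑ χ, (B χ : ℂ) * ((D χ : ℤ) : ℂ) = ((0 : ℤ) : ℂ) := by
        rw [← Finset.sum_congr rfl (fun χ _ => show _ = _ from ?_), h1]
        · norm_num
        · rw [eB χ]; push_cast; ring
      exact_mod_cast h4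
    · have h1 := linD (1/3) (om/3) (om^2/3)
      have h4 : ∑ χ, (C χ : ℂ) * ((D χ : ℤ) : ℂ) = ((0 : ℤ) : ℂ) := by
        rw [← Finset.sum_congr rfl (fun χ _ => show _ = _ from ?_), h1]
        · norm_num
        · rw [eC χ]; push_cast; ring
      exact_mod_cast h4
    · have h1 := linK (1/3) (1/3) (1/3)
      have h4 : ((∑ χ, (A χ : ℚ) * (((A χ + B χ + C χ : ℤ) : ℚ) ^ 2 / ((D χ : ℤ) : ℚ)) : ℚ) : ℂ) = ((1152 / (Nat.card G : ℚ) : ℚ) : ℂ) := by
        push_cast
        rw [← Finset.sum_congr rfl (fun χ _ => show _ = _ from ?_), h1]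
        · ring
        · rw [← hT χ, eA χ, hD χ]; ring
      exact_mod_cast h4
    · have h1 := linK (1/3) (om^2/3) (om/3)
      have h4 : ((∑ χ, (B χ : ℚ) * (((A χ + B χ + C χ : ℤ) : ℚ) ^ 2 / ((D χ : ℤ) : ℚ)) : ℚ) : ℂ) = ((1152 / (Nat.card G : ℚ) : ℚ) : ℂ) := by
        push_cast
        rw [← Finset.sum_congr rfl (fun χ _ => show _ = _ from ?_), h1]
        · ring
        · rw [← hT χ, eB χ, hD χ]; ring
      exact_mod_cast h4
    · have h1 := linK (1/3) (om/3) (om^2/3)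
      have h4 : ((∑ χ, (C χ : ℚ) * (((A χ + B χ + C χ : ℤ) : ℚ) ^ 2 / ((D χ : ℤ) : ℚ)) : ℚ) : ℂ) = ((1152 / (Nat.card G : ℚ) : ℚ) : ℂ) := by
        push_cast
        rw [← Finset.sum_congr rfl (fun χ _ => show _ = _ from ?_), h1]
        · ring
        · rw [← hT χ, eC χ, hD χ]; ring
      exact_mod_cast h4
    · intro χ
      have := Fintype.ofFinite S
      obtain ⟨n, hn⟩ := (χ.2.isCharacter.restrict S).classInner_nat isCharacter_one
      have h1 : ∑ s : S, (χ : G → ℂ) s = D χ + 7 * ((A χ + B χ + C χ : ℤ) : ℂ) := by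
        rw [← Finset.add_sum_erase Finset.univ _ (Finset.mem_univ (1 : S))]
        congr 1
        · exact hD χ
        · rw [Finset.sum_congr rfl (g := fun _ => ((A χ + B χ + C χ : ℤ) : ℂ)), Finset.sum_const, nsmul_eq_mul,
            Finset.card_erase_of_mem (Finset.mem_univ _), Finset.card_univ, ← Nat.card_eq_fintype_card, hS]
          · norm_num
          · intro s hs
            have h5 : (s : G) ≠ 1 := fun h => (Finset.ne_of_mem_erase hs) (Subtype.ext h)
            rw [← χ.2.isClassFunction.conj_eq (hSt s s.2 h5), hT]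
            push_cast; ring
      rw [classInner_def, hS] at hn
      simp only [Pi.one_apply, map_one, mul_one] at hn
      rw [h1] at hn
      have h4 : ((D χ + 7 * (A χ + B χ + C χ) : ℤ) : ℂ) = ((8 * n : ℤ) : ℂ) := by
        push_cast
        push_cast at hn
        linear_combination 8 * hn
      have h5 : (D χ : ℤ) + 7 * (A χ + B χ + C χ) = 8 * n := by exact_mod_cast h4
      show (8 : ℤ) ∣ (D χ : ℤ) - (A χ + B χ + C χ)
      omega
  have hK := Cfsg.Agent.Lib.H10TwoA4Comb.main data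
  have hG' : (Nat.card G : ℚ) ≠ 0 := by exact_mod_cast Nat.card_pos.ne'
  rw [div_eq_div_iff hG' (by norm_num)] at hK
  have h9 : (Nat.card G : ℚ) = 2376 := by linarith
  exact_mod_cast h9

end Main

end Cfsg.Agent.Lib.H10TwoA4
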