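import Mathlib
import Cfsg.Agent.Lib.Involutions
import Cfsg.Agent.Lib.InvLocal
import Cfsg.Agent.Lib.StrongEmb
import Cfsg.Agent.Lib.BrauerFowler

/-!
# Small fusion results: cyclic Sylow of a centralizer, Klein four Sylow, TI index (helper4)
-/

set_option autoImplicit false

namespace Cfsg.Agent.Lib.SmallFusion

open Cfsg.Agent.Lib.Involutions Cfsg.Agent.Lib.InvLocal
open scoped Pointwise

universe u

variable {G : Type u} [Group G]

theorem unique_involution_of_cyclic {S : Subgroup G} [Finite G] (hS : IsCyclic S) {x y : G}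
    (hx : x ∈ S) (hy : y ∈ S) (hx2 : orderOf x = 2) (hy2 : orderOf y = 2) : x = y := by
  obtain ⟨⟨r, hr⟩, hgen⟩ := hS.exists_generator
  have h1 : x ∈ Subgroup.zpowers r := by
    obtain ⟨k, hk⟩ := hgen ⟨x, hx⟩
    exact ⟨k, congrArg Subtype.val hk⟩
  have h2 : y ∈ Subgroup.zpowers r := by
    obtain ⟨k, hk⟩ := hgen ⟨y, hy⟩
    exact ⟨k, congrArg Subtype.val hk⟩
  rw [(eq_pow_half_of_mem_zpowers hx2 h1).2, (eq_pow_half_of_mem_zpowers hy2 h2).2]

/-- If `x` is an involution and `C(x)` has cyclic Sylow 2-subgroups, `G` has a subgroup of index 2. -/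
theorem exists_index_two_of_centralizer_cyclic [Finite G] (x : G) (hx : orderOf x = 2)
    (C : Subgroup G) (hC : C = Subgroup.centralizer ({x} : Set G))
    (S : Sylow 2 C) (hS : IsCyclic (S : Subgroup C)) :
    ∃ H : Subgroup G, H.index = 2 := by
  have hxC : x ∈ C := by rw [hC]; exact Subgroup.mem_centralizer_singleton_iff.2 rfl
  -- x is in S
  have hxS : (⟨x, hxC⟩ : C) ∈ (S : Subgroup C) := by
    have hnorm : (Subgroup.zpowers (⟨x, hxC⟩ : C)).Normal := by
      refine ⟨fun n hn g => ?_⟩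
      obtain ⟨k, rfl⟩ := hn
      have h1 : g * ⟨x, hxC⟩ * g⁻¹ = ⟨x, hxC⟩ := by
        apply Subtype.ext
        have h0 : (g : G) ∈ Subgroup.centralizer ({x} : Set G) := by
          rw [← hC]
          exact g.2
        have := Subgroup.mem_centralizer_singleton_iff.1 h0
        show (g : G) * x * (g : G)⁻¹ = x
        rw [this]; group
      simp only
      rw [← conj_zpow, h1]
      exact ⟨k, rfl⟩
    have hp : IsPGroup 2 (Subgroup.zpowers (⟨x, hxC⟩ : C)) := by
      apply IsPGroup.of_card (n := 1)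
      rw [Nat.card_zpowers, Subgroup.orderOf_mk, hx, pow_one]
    exact hp.le_sylow_of_normal S (Subgroup.mem_zpowers _)
  set T : Subgroup G := (S : Subgroup C).map C.subtype with hT
  have hTC : T ≤ C := by
    rintro y ⟨z, -, rfl⟩
    exact z.2
  have hTp : IsPGroup 2 T := S.isPGroup'.map _
  have hTcyc : IsCyclic T := by
    have e : (S : Subgroup C) ≃* T := (S : Subgroup C).equivMapOfInjective C.subtype C.subtype_injective
    exact (MulEquiv.isCyclic e).1 hS
  have hxT : x ∈ T := ⟨⟨x, hxC⟩, hxS, rfl⟩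
  -- normalizer of T lies in C
  have hN : Subgroup.normalizer (T : Set G) ≤ C := by
    intro g hg
    have h1 : g * x * g⁻¹ ∈ T := (Subgroup.mem_normalizer_iff.1 hg x).1 hxT
    have h2 := unique_involution_of_cyclic hTcyc h1 hxT (by rw [orderOf_conj, hx]) hx
    rw [hC, Subgroup.mem_centralizer_singleton_iff]
    calc g * x = (g * x * g⁻¹) * g := by group
      _ = x * g := by rw [h2]
  have hmax : ∀ R : Subgroup G, IsPGroup 2 R → T ≤ R → R = T := by
    intro R hR hTR
    refine StrongEmb.isSylow_of_normalizer ?_ hR hTR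
    intro Q hQ hTQ hQN
    have hQC : Q ≤ C := hQN.trans hN
    have h1 : IsPGroup 2 (Q.subgroupOf C) := hQ.comap_of_injective C.subtype C.subtype_injective
    have h2 : (S : Subgroup C) ≤ Q.subgroupOf C := by
      intro y hy
      rw [Subgroup.mem_subgroupOf]
      exact hTQ ⟨y, hy, rfl⟩
    have h3 := S.is_maximal' h1 h2
    rw [hT, ← h3, Subgroup.subgroupOf_map_subtype, inf_eq_left.2 hQC]
  let P : Sylow 2 G := ⟨T, hTp, fun {R} hR hTR => hmax R hR hTR⟩
  have heven : Even (Nat.card G) := by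
    have := orderOf_dvd_natCard x
    rw [hx] at this
    exact even_iff_two_dvd.2 this
  exact BrauerFowler.exists_index_two_of_cyclic heven P hTcyc

/-- If `A` is the centralizer of each of its nontrivial elements, `|N(A) : A|` divides `|A| - 1`. -/
theorem index_dvd_of_self_centralizing [Finite G] (A : Subgroup G)
    (hA : ∀ x ∈ A, x ≠ 1 → Subgroup.centralizer ({x} : Set G) = A) :
    (A.subgroupOf (Subgroup.normalizer (A : Set G))).index ∣ Nat.card A - 1 := by
  classical
  set N := Subgroup.normalizer (A : Set G) with hN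
  let X := {x : A // x ≠ 1}
  let act : MulAction N X :=
    { smul := fun n x => ⟨⟨n * x.1.1 * (n : G)⁻¹, (Subgroup.mem_normalizer_iff.1 n.2 _).1 x.1.2⟩, by
        intro h
        apply x.2
        apply Subtype.ext
        have h1 : (n : G) * x.1.1 * (n : G)⁻¹ = 1 := congrArg Subtype.val h
        have h2 : x.1.1 = (n : G)⁻¹ * ((n : G) * x.1.1 * (n : G)⁻¹) * n := by group
        rw [h2, h1]
        simp⟩
      one_smul := by
        intro x
        apply Subtype.ext
        apply Subtype.ext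
        show (1 : G) * x.1.1 * (1 : G)⁻¹ = x.1.1
        simp
      mul_smul := by
        intro a b x
        apply Subtype.ext
        apply Subtype.ext
        show ((a : G) * b) * x.1.1 * ((a : G) * b)⁻¹ = a * (b * x.1.1 * (b : G)⁻¹) * (a : G)⁻¹
        group }
  have hstab : ∀ x : X, MulAction.stabilizer N x = A.subgroupOf N := by
    intro x
    ext n
    rw [MulAction.mem_stabilizer_iff, Subgroup.mem_subgroupOf]
    have hx1 : (x.1 : G) ≠ 1 := fun h => x.2 (Subtype.ext h)
    constructor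
    · intro h
      have h1 : (n : G) * x.1.1 * (n : G)⁻¹ = x.1.1 :=
        congrArg (fun y : X => y.1.1) h
      rw [← hA x.1.1 x.1.2 hx1, Subgroup.mem_centralizer_singleton_iff]
      calc (n : G) * x.1.1 = (n * x.1.1 * (n : G)⁻¹) * n := by group
        _ = x.1.1 * n := by rw [h1]
    · intro h
      rw [← hA x.1.1 x.1.2 hx1, Subgroup.mem_centralizer_singleton_iff] at h
      apply Subtype.ext
      apply Subtype.ext
      show (n : G) * x.1.1 * (n : G)⁻¹ = x.1.1
      rw [h]
      group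
  have hcard : Nat.card X = Nat.card A - 1 := by
    have e : Option X ≃ A := Equiv.optionSubtypeNe 1
    rw [← Nat.card_congr e, Finite.card_option]
    rfl
  have horb : ∀ ω : MulAction.orbitRel.Quotient N X,
      Nat.card ω.orbit = (A.subgroupOf N).index := by
    intro ω
    induction ω using Quotient.inductionOn' with
    | h x =>
      rw [← hstab x, MulAction.index_stabilizer, MulAction.orbitRel.Quotient.orbit_mk]
      rfl
  have := Fintype.ofFinite (MulAction.orbitRel.Quotient N X)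
  have h1 : Nat.card X = ∑ ω : MulAction.orbitRel.Quotient N X, Nat.card ω.orbit := by
    rw [← Nat.card_sigma]
    exact Nat.card_congr (MulAction.selfEquivSigmaOrbits' N X)
  rw [← hcard, h1, Finset.sum_congr rfl (fun ω _ => horb ω), Finset.sum_const, smul_eq_mul]
  exact Dvd.intro_left _ rfl

/-! ### Klein four Sylow 2-subgroups -/

/-- An element of 2-power order normalizing the Sylow 2-subgroup `P` lies in `P`. -/
theorem mem_sylow_of_mem_normalizer [Finite G] {p : ℕ} [Fact p.Prime] (P : Sylow p G) {n : G}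
    (hn : n ∈ Subgroup.normalizer ((P : Subgroup G) : Set G)) {k : ℕ} (ho : orderOf n = p ^ k) :
    n ∈ P := by
  have h1 : IsPGroup p (Subgroup.zpowers n) := by
    apply IsPGroup.of_card (n := k)
    rw [Nat.card_zpowers, ho]
  have h2 := h1.inf_normalizer_sylow P
  have h3 : n ∈ Subgroup.zpowers n ⊓ Subgroup.normalizer ((P : Subgroup G) : Set G) :=
    ⟨Subgroup.mem_zpowers n, hn⟩
  have h4 : n ∈ Subgroup.zpowers n ⊓ (P : Subgroup G) := by
    rw [← h2]
    exact h3
  exact h4.2

theorem orderOf_of_mem_klein {P : Subgroup G} (hP : IsKleinFour P) {a : G} (ha : a ∈ P)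
    (h1 : a ≠ 1) : orderOf a = 2 := by
  rw [orderOf_eq_two_iff']
  refine ⟨?_, h1⟩
  exact congrArg Subtype.val (IsKleinFour.mul_self (⟨a, ha⟩ : P))

theorem comm_of_mem_klein {P : Subgroup G} (hP : IsKleinFour P) {a b : G} (ha : a ∈ P)
    (hb : b ∈ P) : a * b = b * a := by
  have := IsKleinFour.isMulCommutative (G := P)
  exact congrArg Subtype.val (this.is_comm.comm (⟨a, ha⟩ : P) ⟨b, hb⟩)

/-- In a group with Klein four Sylow 2-subgroup `P`, if two distinct involutions of `P` are
conjugate then all involutions are conjugate. -/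
theorem klein_all_conj [Finite G] (P : Sylow 2 G) (hP : IsKleinFour (P : Subgroup G)) {a b : G}
    (ha : a ∈ P) (hb : b ∈ P) (ha1 : a ≠ 1) (hb1 : b ≠ 1) (hab : a ≠ b) (hc : IsConj a b) :
    ∀ s t : G, orderOf s = 2 → orderOf t = 2 → IsConj s t := by
  have hcommP : IsMulCommutative P := IsKleinFour.isMulCommutative
  obtain ⟨g, hg⟩ := isConj_iff.1 hc
  obtain ⟨n, hn, hn2⟩ := P.conj_eq_normalizer_conj_of_mem a g⁻¹ ha (by rw [inv_inv, hg]; exact hb)
  rw [inv_inv, hg] at hn2
  -- n⁻¹ a n = b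
  have hcP : a * b ∈ (P : Subgroup G) := mul_mem ha hb
  have hnb : n⁻¹ * b * n ∈ (P : Subgroup G) := by
    have := (Subgroup.mem_normalizer_iff.1 (inv_mem hn) b).1 hb
    rwa [inv_inv] at this
  have hnb1 : n⁻¹ * b * n ≠ 1 := by
    intro h
    apply hb1
    have : b = n * (n⁻¹ * b * n) * n⁻¹ := by group
    rw [this, h]
    group
  have hnbb : n⁻¹ * b * n ≠ b := by
    intro h
    apply hab
    have : n⁻¹ * a * n = n⁻¹ * b * n := by rw [← hn2, h]
    exact mul_left_cancel (mul_right_cancel this)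
  have hnba : n⁻¹ * b * n ≠ a := by
    intro h
    -- n swaps a and b
    have h2a : (n ^ 2)⁻¹ * a * n ^ 2 = a := by
      calc (n ^ 2)⁻¹ * a * n ^ 2 = n⁻¹ * (n⁻¹ * a * n) * n := by rw [pow_two]; group
        _ = a := by rw [← hn2, h]
    obtain ⟨k, m, hm, ho⟩ := Nat.exists_eq_two_pow_mul_odd (orderOf_pos n).ne'
    have hnm : n ^ m ∈ P := by
      apply mem_sylow_of_mem_normalizer P (pow_mem hn m) (k := k)
      rw [orderOf_pow, ho, Nat.gcd_eq_right (Dvd.intro_left _ rfl)]
      exact Nat.mul_div_cancel _ (by obtain ⟨j, hj⟩ := hm; omega)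
    obtain ⟨j, hj⟩ := hm
    have hcom : Commute (n ^ 2) a := by
      show n ^ 2 * a = a * n ^ 2
      nth_rewrite 1 [← h2a]
      group
    have hcomj : Commute ((n ^ 2) ^ j) a := hcom.pow_left j
    have h3 : (n ^ m)⁻¹ * a * n ^ m = b := by
      rw [hj, pow_succ, pow_mul]
      calc ((n ^ 2) ^ j * n)⁻¹ * a * ((n ^ 2) ^ j * n)
          = n⁻¹ * (((n ^ 2) ^ j)⁻¹ * (a * (n ^ 2) ^ j)) * n := by group
        _ = n⁻¹ * (((n ^ 2) ^ j)⁻¹ * ((n ^ 2) ^ j * a)) * n := by rw [hcomj.eq]
        _ = n⁻¹ * a * n := by group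
        _ = b := hn2.symm
    apply hab
    rw [← h3, mul_assoc, comm_of_mem_klein hP ha hnm]
    group
  have hprod : n⁻¹ * b * n = a * b := by
    have := IsKleinFour.eq_mul_of_ne_all (x := (⟨a, ha⟩ : P)) (y := ⟨b, hb⟩)
      (z := ⟨n⁻¹ * b * n, hnb⟩) (fun h => ha1 (congrArg Subtype.val h))
      (fun h => hb1 (congrArg Subtype.val h)) (fun h => hab (congrArg Subtype.val h))
      (fun h => hnb1 (congrArg Subtype.val h)) (fun h => hnba (congrArg Subtype.val h))
      (fun h => hnbb (congrArg Subtype.val h))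
    exact congrArg Subtype.val this
  have hconjc : IsConj b (a * b) := by
    rw [← hprod]
    exact isConj_iff.2 ⟨n⁻¹, by rw [inv_inv]⟩
  -- every involution is conjugate to a
  have hall : ∀ s : G, orderOf s = 2 → IsConj s a := by
    intro s hs
    have h1 : IsPGroup 2 (Subgroup.zpowers s) := by
      apply IsPGroup.of_card (n := 1)
      rw [Nat.card_zpowers, hs, pow_one]
    obtain ⟨Q, hQ⟩ := h1.exists_le_sylow
    obtain ⟨x, hx⟩ := MulAction.exists_smul_eq G Q P
    have hsQ : s ∈ Q := hQ (Subgroup.mem_zpowers s)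
    have hxs : x * s * x⁻¹ ∈ P := by
      rw [← hx]
      show x * s * x⁻¹ ∈ MulAut.conj x • (Q : Subgroup G)
      rw [Subgroup.mem_pointwise_smul_iff_inv_smul_mem, ← map_inv]
      have e : MulAut.conj x⁻¹ • (x * s * x⁻¹) = s := by simp [mul_assoc]
      rw [e]
      exact hsQ
    have hxs1 : x * s * x⁻¹ ≠ 1 := ne_one (by rw [orderOf_conj, hs])
    have h2 : IsConj s (x * s * x⁻¹) := isConj_iff.2 ⟨x, rfl⟩
    refine h2.trans ?_
    by_cases e1 : x * s * x⁻¹ = a
    · rw [e1]
    · by_cases e2 : x * s * x⁻¹ = b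
      · rw [e2]; exact hc.symm
      · have := IsKleinFour.eq_mul_of_ne_all (x := (⟨a, ha⟩ : P)) (y := ⟨b, hb⟩)
          (z := ⟨x * s * x⁻¹, hxs⟩) (fun h => ha1 (congrArg Subtype.val h))
          (fun h => hb1 (congrArg Subtype.val h)) (fun h => hab (congrArg Subtype.val h))
          (fun h => hxs1 (congrArg Subtype.val h)) (fun h => e1 (congrArg Subtype.val h))
          (fun h => e2 (congrArg Subtype.val h))
        have h3 : x * s * x⁻¹ = a * b := congrArg Subtype.val this
        rw [h3]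
        exact hconjc.symm.trans hc.symm
  intro s t hs ht
  exact (hall s hs).trans (hall t ht).symm

/-- classes of involutions -/
abbrev InvClasses (G : Type u) [Group G] : Type u :=
  {C : ConjClasses G // ∃ t : G, orderOf t = 2 ∧ ConjClasses.mk t = C}

theorem klein_exists_conj_mem [Finite G] (P : Sylow 2 G) (s : G) (hs : orderOf s = 2) :
    ∃ a ∈ P, IsConj s a := by
  have h1 : IsPGroup 2 (Subgroup.zpowers s) := by
    apply IsPGroup.of_card (n := 1)
    rw [Nat.card_zpowers, hs, pow_one]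
  obtain ⟨Q, hQ⟩ := h1.exists_le_sylow
  obtain ⟨x, hx⟩ := MulAction.exists_smul_eq G Q P
  have hsQ : s ∈ Q := hQ (Subgroup.mem_zpowers s)
  refine ⟨x * s * x⁻¹, ?_, isConj_iff.2 ⟨x, rfl⟩⟩
  rw [← hx]
  show x * s * x⁻¹ ∈ MulAut.conj x • (Q : Subgroup G)
  rw [Subgroup.mem_pointwise_smul_iff_inv_smul_mem, ← map_inv]
  have e : MulAut.conj x⁻¹ • (x * s * x⁻¹) = s := by simp [mul_assoc]
  rw [e]
  exact hsQ

theorem card_invClasses_eq_one [Finite G] (heven : Even (Nat.card G))
    (h : ∀ s t : G, orderOf s = 2 → orderOf t = 2 → IsConj s t) :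
    Nat.card (InvClasses G) = 1 := by
  rw [Nat.card_eq_one_iff_unique]
  constructor
  · constructor
    rintro ⟨C, s, hs, rfl⟩ ⟨D, t, ht, rfl⟩
    apply Subtype.ext
    exact ConjClasses.mk_eq_mk_iff_isConj.2 (h s t hs ht)
  · obtain ⟨t, ht⟩ := exists_involution heven
    exact ⟨⟨ConjClasses.mk t, t, ht, rfl⟩⟩

/-- If no two distinct elements of `P` are conjugate, there are three classes of involutions. -/
theorem card_invClasses_eq_three [Finite G] (P : Sylow 2 G) (hP : IsKleinFour (P : Subgroup G))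
    (h : ∀ a ∈ P, ∀ b ∈ P, IsConj a b → a = b) : Nat.card (InvClasses G) = 3 := by
  have e : {a : (P : Subgroup G) // a ≠ 1} ≃ InvClasses G := by
    refine Equiv.ofBijective (fun a => ⟨ConjClasses.mk a.1.1, a.1.1,
      orderOf_of_mem_klein hP a.1.2 (fun h => a.2 (Subtype.ext h)), rfl⟩) ⟨?_, ?_⟩
    · rintro ⟨⟨a, ha⟩, ha1⟩ ⟨⟨b, hb⟩, hb1⟩ hab
      have h1 := congrArg Subtype.val hab
      have h2 := ConjClasses.mk_eq_mk_iff_isConj.1 h1
      have h3 : a = b := h a ha b hb h2
      subst h3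
      rfl
    · rintro ⟨C, s, hs, rfl⟩
      obtain ⟨a, ha, hsa⟩ := klein_exists_conj_mem P s hs
      have ha2 : orderOf a = 2 := by rw [← orderOf_eq_of_isConj hsa, hs]
      refine ⟨⟨⟨a, ha⟩, fun h => ne_one ha2 (congrArg Subtype.val h)⟩, ?_⟩
      apply Subtype.ext
      exact ConjClasses.mk_eq_mk_iff_isConj.2 hsa.symm
  rw [← Nat.card_congr e]
  classical
  have e2 : Option {a : (P : Subgroup G) // a ≠ 1} ≃ (P : Subgroup G) := Equiv.optionSubtypeNe 1
  have h1 := Nat.card_congr e2
  have h2 : Nat.card (P : Subgroup G) = 4 := hP.card_four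
  rw [Finite.card_option, h2] at h1
  omega

theorem klein_dichotomy [Finite G] (P : Sylow 2 G) (hP : IsKleinFour (P : Subgroup G)) :
    (∀ s t : G, orderOf s = 2 → orderOf t = 2 → IsConj s t) ∨
      (∀ a ∈ P, ∀ b ∈ P, IsConj a b → a = b) := by
  by_cases h : ∀ a ∈ P, ∀ b ∈ P, IsConj a b → a = b
  · exact Or.inr h
  · left
    push Not at h
    obtain ⟨a, ha, b, hb, hab, hne⟩ := h
    have ha1 : a ≠ 1 := by
      rintro rfl
      apply hne
      obtain ⟨c, hc⟩ := isConj_iff.1 hab
      rw [← hc]; group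
    have hb1 : b ≠ 1 := by
      rintro rfl
      apply hne
      obtain ⟨c, hc⟩ := isConj_iff.1 hab.symm
      rw [← hc]; group
    exact klein_all_conj P hP ha hb ha1 hb1 hne hab

theorem even_card_of_klein [Finite G] (P : Sylow 2 G) (hP : IsKleinFour (P : Subgroup G)) :
    Even (Nat.card G) := by
  have h1 : Nat.card P ∣ Nat.card G := Subgroup.card_subgroup_dvd_card _
  have h2 : Nat.card P = 4 := IsKleinFour.card_four
  rw [h2] at h1
  rw [even_iff_two_dvd]
  omega

theorem klein_one_or_three [Finite G] (P : Sylow 2 G) (hP : IsKleinFour (P : Subgroup G)) :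
    Nat.card (InvClasses G) = 1 ∨ Nat.card (InvClasses G) = 3 := by
  rcases klein_dichotomy P hP with h | h
  · exact Or.inl (card_invClasses_eq_one (even_card_of_klein P hP) h)
  · exact Or.inr (card_invClasses_eq_three P hP h)

theorem klein_three_iff [Finite G] (P : Sylow 2 G) (hP : IsKleinFour (P : Subgroup G)) :
    Nat.card (InvClasses G) = 3 ↔
      ∃ N : Subgroup G, N.Normal ∧ Subgroup.IsComplement' N (P : Subgroup G) := by
  constructor
  · intro h3
    have h : ∀ a ∈ P, ∀ b ∈ P, IsConj a b → a = b := by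
      rcases klein_dichotomy P hP with h | h
      · have := card_invClasses_eq_one (even_card_of_klein P hP) h
        omega
      · exact h
    have hN : Subgroup.normalizer ((P : Subgroup G) : Set G) ≤
        Subgroup.centralizer ((P : Subgroup G) : Set G) := by
      intro n hn
      rw [Subgroup.mem_centralizer_iff]
      intro a ha
      have h1 := (Subgroup.mem_normalizer_iff.1 hn a).1 ha
      have h2 := h a ha (n * a * n⁻¹) h1 (isConj_iff.2 ⟨n, rfl⟩)
      calc a * n = (n * a * n⁻¹) * n := by rw [← h2]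
        _ = n * a := by group
    exact ⟨_, inferInstance, MonoidHom.ker_transferSylow_isComplement' P hN⟩
  · rintro ⟨N, hN, hc⟩
    apply card_invClasses_eq_three P hP
    intro a ha b hb hab
    obtain ⟨g, hg⟩ := isConj_iff.1 hab
    obtain ⟨⟨⟨n, hn⟩, ⟨q, hq⟩⟩, hnq⟩ := hc.2 g
    have hnq : n * q = g := hnq
    subst hnq
    have h1 : b = n * a * n⁻¹ := by
      rw [← hg]
      calc n * q * a * (n * q)⁻¹ = n * (q * a) * (q⁻¹ * n⁻¹) := by group
        _ = n * (a * q) * (q⁻¹ * n⁻¹) := by rw [comm_of_mem_klein hP hq ha]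
        _ = n * a * n⁻¹ := by group
    have h2 : b * a⁻¹ ∈ N := by
      have : b * a⁻¹ = n * (a * n⁻¹ * a⁻¹) := by rw [h1]; group
      rw [this]
      exact mul_mem hn (hN.conj_mem _ (inv_mem hn) a)
    have h3 : b * a⁻¹ ∈ (P : Subgroup G) := mul_mem hb (inv_mem ha)
    have h4 : b * a⁻¹ ∈ N ⊓ (P : Subgroup G) := ⟨h2, h3⟩
    rw [hc.disjoint.eq_bot, Subgroup.mem_bot] at h4
    exact (mul_inv_eq_one.1 h4).symm

end Cfsg.Agent.Lib.SmallFusion
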