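import Cfsg.Agent.Lib.H55KleinChar2
import Cfsg.Agent.Lib.SmallSimple2
import Cfsg.Agent.Lib.SmallFusion
import Cfsg.Agent.Lib.TransferApps2
import Cfsg.Agent.Lib.ClSmall

set_option autoImplicit false

/-!
Simple groups with a Klein four Sylow 2-subgroup `S`, all involutions conjugate and
`C(t) = S × K`, `|K|` odd, are isomorphic to `A_5`.
-/

namespace Cfsg.Agent.Lib.H55KleinFinal

open scoped commutatorElement
open Cfsg Cfsg.Agent.Lib Cfsg.Agent.Lib.H55Invol Cfsg.Agent.Lib.H55Klein Cfsg.Agent.Lib.H55KleinSetup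

universe u

variable {G : Type u} [Group G] {t : G} {S K : Subgroup G}

theorem centralizer_le (h : Setup t S K) :
    Subgroup.centralizer ({t} : Set G) ≤ Subgroup.normalizer (S : Set G) := by
  intro g hg
  rw [Subgroup.mem_centralizer_singleton_iff] at hg
  obtain ⟨s, hs, k, hk, rfl⟩ := h.hcent g hg
  have hkc : ∀ y ∈ S, (s * k) * y * (s * k)⁻¹ = y := by
    intro y hy
    have h1 := h.hcomm y hy k hk
    have h2 := klein_comm h.hS hs hy
    calc s * k * y * (s * k)⁻¹ = s * (k * y) * k⁻¹ * s⁻¹ := by group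
      _ = s * (y * k) * k⁻¹ * s⁻¹ := by rw [h1]
      _ = (s * y) * s⁻¹ := by group
      _ = (y * s) * s⁻¹ := by rw [h2]
      _ = y := by group
  rw [Subgroup.mem_normalizer_iff]
  intro y
  constructor
  · intro hy
    rw [hkc y hy]; exact hy
  · intro hy
    have h3 := hkc _ hy
    have h4 : s * k * y * (s * k)⁻¹ = y := by
      have h5 : s * k * (s * k * y * (s * k)⁻¹) * (s * k)⁻¹ = s * k * y * (s * k)⁻¹ := h3
      exact mul_left_cancel (mul_right_cancel h5)
    rw [h4] at hy; exact hy

theorem card_normalizer [Finite G] (h : Setup t S K) :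
    Nat.card ↥(Subgroup.normalizer (S : Set G)) = 3 * Nat.card ↥(Subgroup.centralizer ({t} : Set G)) := by
  classical
  have : Fact (Nat.Prime 2) := ⟨Nat.prime_two⟩
  let P : Sylow 2 G := (klein_isPGroup h.hS).toSylow h.hidx
  have hP : (P : Subgroup G) = S := rfl
  have hcommP : IsMulCommutative (P : Subgroup G) := by
    have := h.hS
    exact (IsKleinFour.isMulCommutative : IsMulCommutative ↥S)
  have hex : ∀ u : {u : ↥S // u ≠ 1}, ∃ n ∈ Subgroup.normalizer (S : Set G), n * t * n⁻¹ = (u : ↥S) := by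
    intro u
    have hu1 : ((u : ↥S) : G) ≠ 1 := fun h1 => u.2 (Subtype.ext h1)
    obtain ⟨g, hg⟩ := isConj_iff.1 (h.hconj t ((u : ↥S) : G) h.ht (h.orderOf_of_mem (u : ↥S).2 hu1))
    obtain ⟨n, hn, hn2⟩ := P.conj_eq_normalizer_conj_of_mem t g⁻¹ (by rw [← hP] at *; exact h.htS)
      (by rw [inv_inv, hg]; exact (u : ↥S).2)
    rw [inv_inv, hg] at hn2
    exact ⟨n⁻¹, inv_mem hn, by rw [inv_inv]; exact hn2.symm⟩
  choose x hx1 hx2 using hex
  have e : ↥(Subgroup.normalizer (S : Set G)) ≃ {u : ↥S // u ≠ 1} × ↥(Subgroup.centralizer ({t} : Set G)) := by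
    refine Equiv.ofBijective (fun n =>
      let u : {u : ↥S // u ≠ 1} := ⟨⟨(n : G) * t * (n : G)⁻¹, (Subgroup.mem_normalizer_iff.1 n.2 t).1 h.htS⟩, ?_⟩
      (u, ⟨(x u)⁻¹ * n, ?_⟩)) ⟨?_, ?_⟩
    · intro h1
      have h2 : (n : G) * t * (n : G)⁻¹ = 1 := congrArg Subtype.val h1
      apply ne_one h.ht
      calc t = (n : G)⁻¹ * (n * t * (n : G)⁻¹) * n := by group
        _ = 1 := by rw [h2]; group
    · rw [Subgroup.mem_centralizer_singleton_iff]
      have h1 : x u * t * (x u)⁻¹ = (n : G) * t * (n : G)⁻¹ := hx2 u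
      calc (x u)⁻¹ * (n : G) * t = (x u)⁻¹ * ((n : G) * t * (n : G)⁻¹) * n := by group
        _ = (x u)⁻¹ * (x u * t * (x u)⁻¹) * n := by rw [h1]
        _ = t * ((x u)⁻¹ * n) := by group
    · intro a b hab
      have h1 := congrArg Prod.fst hab
      have h2 := congrArg (fun p : {u : ↥S // u ≠ 1} × ↥(Subgroup.centralizer ({t} : Set G)) => (p.2 : G)) hab
      simp only at h1 h2
      rw [h1] at h2
      exact Subtype.ext (mul_left_cancel h2)
    · rintro ⟨u, c⟩
      have hc := Subgroup.mem_centralizer_singleton_iff.1 c.2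
      have h1 : x u * c * t * (x u * c)⁻¹ = ((u : ↥S) : G) := by
        rw [← hx2 u]
        calc x u * c * t * (x u * c)⁻¹ = x u * (c * t) * (c : G)⁻¹ * (x u)⁻¹ := by group
          _ = x u * (t * c) * (c : G)⁻¹ * (x u)⁻¹ := by rw [hc]
          _ = x u * t * (x u)⁻¹ := by group
      refine ⟨⟨x u * c, mul_mem (hx1 u) (centralizer_le h c.2)⟩, ?_⟩
      have h2 : (⟨⟨x u * c * t * (x u * c)⁻¹, (Subgroup.mem_normalizer_iff.1
          (mul_mem (hx1 u) (centralizer_le h c.2)) t).1 h.htS⟩, by
          intro h3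
          apply u.2
          apply Subtype.ext
          rw [← h1]
          exact congrArg Subtype.val h3⟩ : {u : ↥S // u ≠ 1}) = u := Subtype.ext (Subtype.ext h1)
      apply Prod.ext
      · exact h2
      · apply Subtype.ext
        show (x _)⁻¹ * (x u * c) = (c : G)
        rw [h2]; group
  rw [Nat.card_congr e, Nat.card_prod]
  congr 1
  have h4 := h.hS.card_four
  have : Fintype ↥S := Fintype.ofFinite _
  rw [Nat.card_eq_fintype_card] at h4 ⊢
  rw [Fintype.card_subtype_compl, h4, Fintype.card_subtype_eq]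

theorem noncomm [Finite G] [IsSimpleGroup G] (h : Setup t S K) : ¬ IsMulCommutative G := by
  intro hc
  have hcomm : ∀ a b : G, a * b = b * a := fun a b => hc.is_comm.comm a b
  have hn : (Subgroup.zpowers t).Normal := by
    refine ⟨fun n hn g => ?_⟩
    rw [hcomm g n, mul_assoc, mul_inv_cancel, mul_one]; exact hn
  have hSn : S.Normal := by
    refine ⟨fun n hn g => ?_⟩
    rw [hcomm g n, mul_assoc, mul_inv_cancel, mul_one]; exact hn
  have h4 := h.hS.card_four
  have ht2 : Nat.card ↥(Subgroup.zpowers t) = 2 := by rw [Nat.card_zpowers, h.ht]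
  rcases hSn.eq_bot_or_eq_top with h1 | h1
  · rw [h1, Subgroup.card_bot] at h4; omega
  · rw [h1, Subgroup.card_top] at h4
    rcases hn.eq_bot_or_eq_top with h2 | h2
    · rw [h2, Subgroup.card_bot] at ht2; omega
    · rw [h2, Subgroup.card_top] at ht2; omega

theorem commutator_eq_top [Finite G] [IsSimpleGroup G] (hG : ¬ IsMulCommutative G) : commutator G = ⊤ := by
  rcases IsSimpleGroup.eq_bot_or_eq_top_of_normal (commutator G) inferInstance with h | h
  · exfalso
    apply hG
    refine ⟨⟨fun a b => ?_⟩⟩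
    have h1 : ⁅a, b⁆ ∈ commutator G := Subgroup.commutator_mem_commutator (Subgroup.mem_top a) (Subgroup.mem_top b)
    rw [h, Subgroup.mem_bot, commutatorElement_eq_one_iff_mul_comm] at h1
    exact h1
  · exact h

theorem equiv [Finite G] [IsSimpleGroup G] (h : Setup t S K) :
    Nonempty (G ≃* ↥(alternatingGroup (Fin 5))) := by
  have hG := noncomm h
  have := Fintype.ofFinite G
  have hI := H55KleinChar.index_le h (commutator_eq_top hG)
  set C := Subgroup.centralizer ({t} : Set G) with hC
  set N := Subgroup.normalizer (S : Set G) with hN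
  have hNC : Nat.card ↥N = 3 * Nat.card ↥C := card_normalizer h
  have hC4 : Nat.card ↥C = 4 * Nat.card ↥K := h.card_cent
  have h1 := C.card_mul_index
  have h2 := N.card_mul_index
  have hCpos : 0 < Nat.card ↥C := Nat.card_pos
  have hKpos : 0 < Nat.card ↥K := Nat.card_pos
  have h3 : C.index = 3 * N.index := by
    have h4 : Nat.card ↥C * C.index = Nat.card ↥C * (3 * N.index) := by
      rw [h1, ← h2, hNC]; ring
    exact Nat.eq_of_mul_eq_mul_left hCpos h4
  have hNne : N ≠ ⊤ := by
    intro hNt
    have hSn : S.Normal := Subgroup.normalizer_eq_top_iff.1 hNt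
    have h4 := h.hS.card_four
    rcases hSn.eq_bot_or_eq_top with h5 | h5
    · rw [h5, Subgroup.card_bot] at h4; omega
    · apply hG
      have hc : IsMulCommutative ↥S := by
        have := h.hS
        exact IsKleinFour.isMulCommutative
      refine ⟨⟨fun a b => ?_⟩⟩
      have := hc.is_comm.comm (⟨a, by rw [h5]; trivial⟩ : ↥S) ⟨b, by rw [h5]; trivial⟩
      exact congrArg Subtype.val this
  have h5 := SmallSimple.two_mul_card_dvd_factorial_index hG N hNne
  have h6 : N.index ≤ 5 := by omega
  have h7 : N.index ≠ 1 := by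
    intro h8
    exact hNne (Subgroup.index_eq_one.1 h8)
  have h8 : N.index ≠ 0 := Subgroup.index_ne_zero_of_finite
  have h9 : Nat.card G = 12 * Nat.card ↥K * N.index := by
    rw [← h2, hNC, hC4]; ring
  have h60 : Nat.card G = 60 := by
    rw [h9] at h5 ⊢
    generalize Nat.card ↥K = κ at *
    interval_cases hn : N.index
    · exact absurd rfl h8
    · exact absurd rfl h7
    · exfalso
      have := Nat.le_of_dvd (by decide) h5
      simp [Nat.factorial] at this
      omega
    · exfalso
      have := Nat.le_of_dvd (by decide) h5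
      simp [Nat.factorial] at this
      omega
    · exfalso
      have := Nat.le_of_dvd (by decide) h5
      simp [Nat.factorial] at this
      omega
    · have := Nat.le_of_dvd (by decide) h5
      simp [Nat.factorial] at this
      omega
  exact ClSmall.equiv_alternating_five h60

end Cfsg.Agent.Lib.H55KleinFinal
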