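import Cfsg.Agent.Lib.H10TCI3
import Cfsg.Agent.Lib.H10TwoA4
import Cfsg.Agent.Lib.H55KleinFinal
import Cfsg.Agent.Lib.H55KleinChar2
import Cfsg.Agent.Lib.ElemCent3
import Cfsg.Agent.Lib.PSLOut
import Cfsg.Agent.Lib.MobCard
import Cfsg.Agent.S0813

set_option autoImplicit false
set_option linter.unusedSectionVars false

/-!
# Involution centralizers `2 × A₄`: `Aut PSL(2,8)`
-/

namespace Cfsg.Agent.Lib.H10TCI

open Cfsg Subgroup Cfsg.Agent.Lib

theorem a4_cent3 : ∀ x : alternatingGroup (Fin 4), (x * x * x = 1 ∧ x ≠ 1) → ∀ c : alternatingGroup (Fin 4), c * x = x * c →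
  c = 1 ∨ c = x ∨ c = x * x := by decide +kernel
theorem a4_noinv : ∀ x : alternatingGroup (Fin 4), (x * x * x = 1 ∧ x ≠ 1) → ∀ g : alternatingGroup (Fin 4),
  g * x ≠ x⁻¹ * g := by decide +kernel
theorem a4_comm : ∀ x : alternatingGroup (Fin 4), x * x = 1 → ∀ g : alternatingGroup (Fin 4), g * g = 1 →
  g * x = x * g := by decide +kernel

universe u

variable {G : Type u} [Group G] [Finite G] {J : G} {T : Subgroup G}

theorem isSolvable_of_pgroup {p : ℕ} [Fact p.Prime] {H : Type*} [Group H] [Finite H] (h : IsPGroup p H) : Group.IsSolvable H := by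
  have := h.isNilpotent
  infer_instance

namespace Loc

variable {P : Sylow 2 G} {a b : G}

/-- `P` is not normal -/
theorem nn_four (h : Loc J T P a b) (h2 : ∀ N : Subgroup G, N.Normal → N.index ≠ 2) (h12 : Nat.card T = 12)
    (hns : ¬ Group.IsSolvable G) : ¬ (P : Subgroup G).Normal := by
  intro hn
  apply hns
  have hconj : ∀ x : G, IsConj J x ↔ (x ∈ (P : Subgroup G) ∧ x ≠ 1) := by
    intro x
    constructor
    · intro hx
      obtain ⟨g, hg⟩ := isConj_iff.1 hx
      rw [← hg]
      refine ⟨hn.conj_mem J h.JP g, fun h3 => h.cs.ne (mul_left_cancel (a := g) ?_)⟩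
      rw [mul_inv_eq_one.1 h3, mul_one]
    · rintro ⟨hx, hx1⟩
      obtain ⟨n, -, hn⟩ := h.fusion h2 x hx hx1
      exact isConj_iff.2 ⟨n, hn⟩
  have h3 := CharBasic.card_isConj_mul_card_centralizer J
  have h4 : Nat.card {x : G // IsConj J x} = 7 := by
    rw [← H10Eight.card_X (S := P) h.card]
    exact Nat.card_congr (Equiv.subtypeEquivRight hconj)
  rw [h4, h.cs.card_cent, h12] at h3
  have h5 := (P : Subgroup G).index_mul_card
  have h6 := h.card
  change Nat.card (P : Subgroup G) = 8 at h6
  rw [h6, ← h3] at h5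
  have h7 : Nat.card (G ⧸ (P : Subgroup G)) = 21 := by
    change (P : Subgroup G).index = 21
    omega
  have hs1 : Group.IsSolvable (G ⧸ (P : Subgroup G)) := H53Sub8b.solvable_of_card (by rw [h7]; decide) (by rw [h7]; decide)
  have hs2 : Group.IsSolvable (P : Subgroup G) := isSolvable_of_pgroup P.2
  exact Group.isSolvable_of_ker_le_range (P : Subgroup G).subtype (QuotientGroup.mk' (P : Subgroup G)) (by
    rw [QuotientGroup.ker_mk', range_subtype])

/-- no simple group -/
theorem not_simple (h : Loc J T P a b) (h2 : ∀ N : Subgroup G, N.Normal → N.index ≠ 2)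
    (e : T ≃* alternatingGroup (Fin 4)) (hy : H10Eight.Hyp P J) (hs : IsSimpleGroup G) : False := by
  obtain ⟨x, hxT, x1, x2, x3, x4, x5, hxN⟩ := h.exists_rot
  have hcJ : Commute J x := (h.cs.comm x hxT).symm
  have hx1 : x ≠ 1 := by
    intro hx
    rw [hx] at x1
    apply h.ab
    rw [← x1]; group
  have ox : orderOf x = 3 := by
    have : Fact (Nat.Prime 3) := ⟨by norm_num⟩
    exact orderOf_eq_prime (by rw [← x4, pow_succ, _root_.sq]) hx1
  have oy : orderOf (J * x) = 6 := by
    rw [hcJ.orderOf_mul_eq_mul_orderOf_of_coprime (by rw [h.cs.ord, ox]; norm_num), h.cs.ord, ox]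
  have hJ3 : J ^ 3 = J := by rw [pow_succ, _root_.sq, h.cs.JJ, one_mul]
  have hx3 : x ^ 3 = 1 := by rw [← x4, pow_succ, _root_.sq]
  have y3 : (J * x) ^ 3 = J := by rw [hcJ.mul_pow, hJ3, hx3, mul_one]
  have tx : (e ⟨x, hxT⟩ * e ⟨x, hxT⟩ * e ⟨x, hxT⟩ = 1 ∧ e ⟨x, hxT⟩ ≠ 1) := by
    refine ⟨?_, fun h3 => hx1 ?_⟩
    · rw [← map_mul, ← map_mul, ← map_one e]
      exact congrArg e (Subtype.ext x4)
    · have := e.injective (h3.trans (map_one e).symm)
      exact congrArg Subtype.val this
  -- centralizer of `y`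
  have cxT : ∀ c ∈ T, c * x = x * c → c = 1 ∨ c = x ∨ c = x * x := by
    intro c hc hcx
    have h3 := a4_cent3 _ tx (e ⟨c, hc⟩) (by
      rw [← map_mul, ← map_mul]; exact congrArg e (Subtype.ext hcx))
    rcases h3 with h3 | h3 | h3
    · exact Or.inl (congrArg Subtype.val (e.injective (h3.trans (map_one e).symm)))
    · exact Or.inr (Or.inl (congrArg Subtype.val (e.injective h3)))
    · rw [← map_mul] at h3
      exact Or.inr (Or.inr (congrArg Subtype.val (e.injective h3)))
  have commJ : ∀ c, c * (J * x) = (J * x) * c → c * J = J * c := by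
    intro c hc
    have h3 : Commute c (J * x) := hc
    have h4 := h3.pow_right 3
    rw [y3] at h4
    exact h4
  have commx : ∀ c, c * (J * x) = (J * x) * c → c * x = x * c := by
    intro c hc
    have h3 := commJ c hc
    have h4 : J * (c * x) = J * (x * c) := by rw [← mul_assoc, ← h3, mul_assoc, hc, mul_assoc]
    exact mul_left_cancel h4
  have hCy : Nat.card (centralizer ({J * x} : Set G)) = 6 := by
    have h3 : centralizer ({J * x} : Set G) = zpowers (J * x) := by
      apply le_antisymm
      · intro c hc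
        rw [mem_centralizer_singleton_iff] at hc
        have hx' : x ∈ zpowers (J * x) := by
          have h4 : (J * x) ^ 4 = x := by
            rw [hcJ.mul_pow, show (4 : ℕ) = 2 * 2 from rfl, pow_mul, pow_mul, _root_.sq J, h.cs.JJ, one_pow, one_mul,
              ← pow_mul, show 2 * 2 = 3 + 1 from rfl, pow_succ, hx3, one_mul]
          have h5 := (zpowers (J * x)).pow_mem (mem_zpowers (J * x)) 4
          rwa [h4] at h5
        have hJ' : J ∈ zpowers (J * x) := by
          have h5 := (zpowers (J * x)).pow_mem (mem_zpowers (J * x)) 3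
          rwa [y3] at h5
        have key : ∀ c' ∈ T, c' * x = x * c' → c' ∈ zpowers (J * x) := by
          intro c' hc' hcx
          rcases cxT c' hc' hcx with h4 | h4 | h4 <;> rw [h4]
          · exact one_mem _
          · exact hx'
          · exact mul_mem hx' hx'
        rcases h.cs.cent c (commJ c hc) with h4 | h4
        · exact key c h4 (commx c hc)
        · have h5 := key (c * J) h4 (by rw [mul_assoc, hcJ.eq, ← mul_assoc, commx c hc, mul_assoc])
          have h6 : c = c * J * J := by rw [mul_assoc, h.cs.JJ, mul_one]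
          rw [h6]
          exact mul_mem h5 hJ'
      · rw [zpowers_le, mem_centralizer_singleton_iff]
    rw [h3, Nat.card_zpowers, oy]
  have hyi : ¬ IsConj (J * x) (J * x)⁻¹ := by
    intro hc
    obtain ⟨g, hg⟩ := isConj_iff.1 hc
    have hg1 : g * (J * x) = (J * x)⁻¹ * g := mul_inv_eq_iff_eq_mul.1 hg
    have hJi : J⁻¹ = J := by rw [inv_eq_iff_mul_eq_one, h.cs.JJ]
    have hgJ : g * J = J * g := by
      have h3 : g * (J * x) ^ 3 * g⁻¹ = ((J * x)⁻¹) ^ 3 := by rw [← hg, conj_pow]
      rw [inv_pow, y3, hJi] at h3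
      exact mul_inv_eq_iff_eq_mul.1 h3
    have hgx : g * x = x⁻¹ * g := by
      have h4 : J * (g * x) = J * (x⁻¹ * g) := by
        rw [← mul_assoc, ← hgJ, mul_assoc, hg1, mul_inv_rev, hJi]
        rw [← mul_assoc]
        congr 1
        exact (hcJ.inv_right.eq).symm
      exact mul_left_cancel h4
    have key : ∀ g' ∈ T, g' * x = x⁻¹ * g' → False := by
      intro g' hg' h3
      apply a4_noinv _ tx (e ⟨g', hg'⟩)
      rw [← map_inv, ← map_mul, ← map_mul]
      exact congrArg e (Subtype.ext h3)
    rcases h.cs.cent g hgJ with h4 | h4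
    · exact key g h4 hgx
    · apply key _ h4
      rw [mul_assoc, hcJ.eq, ← mul_assoc, hgx, mul_assoc]
  have hconj : ∀ s ∈ centralizer ({J} : Set G), orderOf s = 2 → IsConj J s := fun s _ hs => hy.conj hs
  have hinvol : ∀ s : G, (s ∈ centralizer ({J} : Set G) ∧ orderOf s = 2) ↔ (s ∈ (P : Subgroup G) ∧ s ≠ 1) := by
    intro s
    constructor
    · rintro ⟨hs, hs2⟩
      have hss : s * s = 1 := by rw [← _root_.sq, ← hs2, pow_orderOf_eq_one]
      refine ⟨?_, fun h3 => by rw [h3, orderOf_one] at hs2; omega⟩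
      have hsJ := mem_centralizer_singleton_iff.1 hs
      have key : ∀ s' ∈ T, s' * s' = 1 → s' ∈ (P : Subgroup G) := by
        intro s' hs' hss'
        have cm : ∀ g ∈ T, g * g = 1 → s' * g = g * s' := by
          intro g hg hgg
          have h3 := a4_comm (e ⟨g, hg⟩) (by rw [← map_mul, ← map_one e]; exact congrArg e (Subtype.ext hgg))
            (e ⟨s', hs'⟩) (by rw [← map_mul, ← map_one e]; exact congrArg e (Subtype.ext hss'))
          rw [← map_mul, ← map_mul] at h3
          exact congrArg Subtype.val (e.injective h3)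
        have h9 := h.tf.t3 ⟨a, h.aT⟩ ⟨Subtype.ext h.aa, fun e => h.a1 (congrArg Subtype.val e)⟩
          ⟨b, h.bT⟩ ⟨Subtype.ext h.bb, fun e => h.b1 (congrArg Subtype.val e),
          fun e => h.ab (congrArg Subtype.val e), Subtype.ext h.comm⟩ ⟨s', hs'⟩
          ⟨Subtype.ext (cm a h.aT h.aa), Subtype.ext (cm b h.bT h.bb)⟩
        rcases h9 with h9 | h9 | h9 | h9
        · rw [show s' = 1 from congrArg Subtype.val h9]; exact one_mem _
        · rw [show s' = a from congrArg Subtype.val h9]; exact h.aP
        · rw [show s' = b from congrArg Subtype.val h9]; exact h.bP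
        · rw [show s' = a * b from congrArg Subtype.val h9]; exact mul_mem h.aP h.bP
      rcases h.cs.cent s hsJ with h4 | h4
      · exact key s h4 hss
      · have h5 := key _ h4 (by
          calc s * J * (s * J) = s * (J * s) * J := by group
            _ = (s * s) * (J * J) := by rw [← hsJ]; group
            _ = 1 := by rw [hss, h.cs.JJ, mul_one])
        have h6 : s = s * J * J := by rw [mul_assoc, h.cs.JJ, mul_one]
        rw [h6]
        exact mul_mem h5 h.JP
    · rintro ⟨hs, hs1⟩
      exact ⟨mem_centralizer_singleton_iff.2 (h.cP s hs), h.ord s hs hs1⟩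
  have h7 : Nat.card {s : G // s ∈ centralizer ({J} : Set G) ∧ orderOf s = 2} = 7 := by
    rw [← H10Eight.card_X (S := P) h.card]
    exact Nat.card_congr (Equiv.subtypeEquivRight hinvol)
  have hCt : Nat.card (centralizer ({J} : Set G)) = 24 := by
    rw [h.cs.card_cent, Nat.card_congr e.toEquiv, card_A4]
  have hnc : ¬ IsMulCommutative G := by
    rintro ⟨⟨hc⟩⟩
    apply h.ab
    rw [← x1, hc x a]; group
  have hFG := Fintype.ofFinite G
  have hlin : ∀ χ : IrrCharacter G, (χ : G → ℂ) 1 = 1 → (χ : G → ℂ) = 1 := fun χ hχ =>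
    H55KleinChar.eq_one_of_perfect (H55KleinFinal.commutator_eq_top hnc) χ.2.isCharacter hχ
  have hG := H10TwoA4.card_eq h.cs.ord oy y3 hCt hCy hyi hconj h7 hlin P h.card (by
    intro s hs hs1
    obtain ⟨n, -, hn⟩ := h.fusion h2 s hs hs1
    exact isConj_iff.2 ⟨n, hn⟩)
  -- `7` divides the order
  have h8 : 7 ∣ Nat.card G := by
    have hp : MulAction.IsPretransitive (normalizer ((P : Subgroup G) : Set G)) (H10Eight.X P) := by
      constructor
      rintro ⟨x, hx, hx1⟩ ⟨y, hy, hy1⟩
      obtain ⟨n, hn, hn2⟩ := h.fusion h2 x hx hx1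
      obtain ⟨n', hn', hn2'⟩ := h.fusion h2 y hy hy1
      refine ⟨⟨n' * n⁻¹, mul_mem hn' (inv_mem hn)⟩, Subtype.ext ?_⟩
      show n' * n⁻¹ * x * (n' * n⁻¹)⁻¹ = y
      rw [← hn2, ← hn2']
      group
    let xJ : H10Eight.X P := ⟨J, h.JP, h.cs.ne⟩
    have h9 := MulAction.index_stabilizer_of_transitive (normalizer ((P : Subgroup G) : Set G)) xJ
    rw [H10Eight.card_X h.card] at h9
    rw [← h9]
    exact (index_dvd_card _).trans (card_subgroup_dvd_card _)
  rw [hG] at h8
  omega

/-- **the case `m = 4`** -/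
theorem main_four (h : Loc J T P a b) (h2 : ∀ N : Subgroup G, N.Normal → N.index ≠ 2)
    (e : T ≃* alternatingGroup (Fin 4)) (hns : ¬ Group.IsSolvable G) :
    ∃ (F : Type) (_ : Field F) (_ : Fintype F), Fintype.card F = 8 ∧
        Nonempty (G ≃* MulAut (Matrix.ProjectiveSpecialLinearGroup (Fin 2) F)) := by
  have hT12 : Nat.card T = 12 := by rw [Nat.card_congr e.toEquiv, card_A4]
  have hy := h.hyp h2 (h.nn_four h2 hT12 hns)
  have hC24 : Nat.card (centralizer ({J} : Set G)) = 24 := by rw [h.cs.card_cent, hT12]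
  set M := normalClosure ((P : Subgroup G) : Set G) with hMdef
  have hMs : IsSimpleGroup M := hy.simple
  have hPM : (P : Subgroup G) ≤ M := H10Eight.Hyp.S_le
  have hPC : (P : Subgroup G) ≤ centralizer ({J} : Set G) := fun x hx => mem_centralizer_singleton_iff.2 (h.cP x hx)
  have h8 : Nat.card (P : Subgroup G) = 8 := h.card
  have hCM : ¬ centralizer ({J} : Set G) ≤ M := by
    intro hle
    have htop := hy.eq_top M hPM hle
    apply h.not_simple h2 e hy
    have hMs' := hMs
    rw [htop] at hMs'
    exact (MulEquiv.isSimpleGroup_congr (topEquiv (G := G))).1 hMs'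
  -- `M ∩ C(J) = P`
  have hD : M ⊓ centralizer ({J} : Set G) = P := by
    have hle : (P : Subgroup G) ≤ M ⊓ centralizer ({J} : Set G) := le_inf hPM hPC
    have d1 := card_dvd_of_le hle
    have d2 : Nat.card (M ⊓ centralizer ({J} : Set G) : Subgroup G) ∣ Nat.card (centralizer ({J} : Set G)) :=
      card_dvd_of_le inf_le_right
    rw [h8] at d1
    rw [hC24] at d2
    obtain ⟨k, hk⟩ := d1
    have hk3 : k ∣ 3 := by
      rw [hk] at d2
      exact Nat.dvd_of_mul_dvd_mul_left (by norm_num : 0 < 8) (by simpa using d2)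
    rcases (Nat.dvd_prime (by norm_num : Nat.Prime 3)).1 hk3 with e1 | e1
    · rw [e1, mul_one] at hk
      exact (eq_of_le_of_card_ge hle (by rw [hk, h8])).symm
    · exfalso
      apply hCM
      rw [e1] at hk
      have h9 : M ⊓ centralizer ({J} : Set G) = centralizer ({J} : Set G) :=
        eq_of_le_of_card_ge inf_le_right (by rw [hk, hC24])
      rw [← h9]
      exact inf_le_left
  -- centralizers of involutions in `M`
  let PM : Sylow 2 M := P.subtype hPM
  have hPMc : Nat.card PM = 8 := by
    change Nat.card ((P : Subgroup G).subgroupOf M) = 8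
    rw [Nat.card_congr (subgroupOfEquivOfLe hPM).toEquiv, h8]
  have hcentM : ∀ t : M, orderOf t = 2 → IsMulCommutative (centralizer ({t} : Set M)) ∧
      ∀ c ∈ centralizer ({t} : Set M), c ^ 2 = 1 := by
    intro t ht
    obtain ⟨g, hg⟩ := isConj_iff.1 (hy.conj (v := (t : G)) (by rw [Subgroup.orderOf_coe]; exact ht))
    have key : ∀ c ∈ centralizer ({t} : Set M), g⁻¹ * (c : G) * g ∈ (P : Subgroup G) := by
      intro c hc
      have hc' : (c : G) * t = t * c := congrArg Subtype.val (mem_centralizer_singleton_iff.1 hc)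
      rw [← hD]
      refine mem_inf.2 ⟨?_, ?_⟩
      · have := (inferInstance : M.Normal).conj_mem c c.2 g⁻¹
        rwa [inv_inv] at this
      · rw [mem_centralizer_singleton_iff]
        rw [← hg] at hc'
        calc g⁻¹ * (c : G) * g * J = g⁻¹ * (c * (g * J * g⁻¹)) * g := by group
          _ = J * (g⁻¹ * c * g) := by rw [hc']; group
    constructor
    · refine ⟨⟨?_⟩⟩
      rintro ⟨c, hc⟩ ⟨d, hd⟩
      apply Subtype.ext
      apply Subtype.ext
      show (c : G) * d = d * c
      have h9 := h.ab_P _ (key c hc) _ (key d hd)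
      calc (c : G) * d = g * ((g⁻¹ * c * g) * (g⁻¹ * d * g)) * g⁻¹ := by group
        _ = (d : G) * c := by rw [h9]; group
    · intro c hc
      apply Subtype.ext
      show (c : G) ^ 2 = 1
      have h9 := h.sq _ (key c hc)
      rw [_root_.sq]
      calc (c : G) * c = g * ((g⁻¹ * c * g) * (g⁻¹ * c * g)) * g⁻¹ := by group
        _ = 1 := by rw [h9]; group
  have hnc : ¬ IsCyclic (PM : Subgroup M) := by
    intro hc
    obtain ⟨g, hg⟩ := hc.exists_generator
    have h9 : orderOf g = 8 := by
      rw [orderOf_eq_card_of_forall_mem_zpowers hg]; exact hPMc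
    have h10 : orderOf g ∣ 2 := by
      apply orderOf_dvd_of_pow_eq_one
      apply Subtype.ext
      apply Subtype.ext
      show (((g : M) : G)) ^ 2 = 1
      rw [_root_.sq]
      exact h.sq _ (mem_subgroupOf.1 g.2)
    rw [h9] at h10
    omega
  have hnn : ¬ (PM : Subgroup M).Normal := by
    intro hn
    rcases hn.eq_bot_or_eq_top with h9 | h9
    · change Nat.card (PM : Subgroup M) = 8 at hPMc
      rw [h9, card_bot] at hPMc
      omega
    · have h10 : M ≤ P := subgroupOf_eq_top.1 h9
      have h11 : (P : Subgroup G) = M := le_antisymm hPM h10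
      exact hy.nn (h11 ▸ inferInstance)
  obtain ⟨F, hF1, hF2, hF8, ⟨f⟩⟩ := ElemCent.psl_two PM hnc hnn hcentM
  rw [hPMc] at hF8
  refine ⟨F, hF1, hF2, hF8, ?_⟩
  -- orders
  have hcardM : Nat.card M = 504 := by
    rw [Nat.card_congr f.toEquiv]
    have := MobCount.card_P2 (F := F) hF8
    norm_num at this
    exact this
  have hidx : M.index = 3 := by
    have h9 : M ⊔ centralizer ({J} : Set G) = ⊤ := by
      rw [eq_top_iff]
      intro g _
      obtain ⟨m, hm, hmg⟩ := H10Eight.Hyp.frattini M hPM g
      obtain ⟨r, hr, hr2⟩ := hy.norm_le M hPM hmg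
      have h10 : g = m⁻¹ * r⁻¹ * (r * (m * g)) := by group
      rw [h10]
      exact mul_mem_sup (M.mul_mem (M.inv_mem hm) (M.inv_mem hr.1)) (mem_centralizer_singleton_iff.2 hr2)
    have h10 : M.relIndex (centralizer ({J} : Set G)) = M.index := by
      rw [← relIndex_top_right, ← h9, sup_comm, relIndex_sup_right]
    have h11 := (M.subgroupOf (centralizer ({J} : Set G))).index_mul_card
    have h12 : M.subgroupOf (centralizer ({J} : Set G)) = (P : Subgroup G).subgroupOf (centralizer ({J} : Set G)) := by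
      rw [← hD]; ext x; simp [mem_subgroupOf]
    have h13 : Nat.card (M.subgroupOf (centralizer ({J} : Set G))) = 8 := by
      rw [h12, Nat.card_congr (subgroupOfEquivOfLe hPC).toEquiv, h8]
    rw [h13, hC24] at h11
    rw [← h10]
    change (M.subgroupOf (centralizer ({J} : Set G))).index = 3
    omega
  have hcardG : Nat.card G = 1512 := by
    rw [← M.index_mul_card, hidx, hcardM]
  have hcardA : Nat.card (MulAut M) = 1512 := by
    rw [Nat.card_congr (MulAut.congr f).toEquiv, S0813.result 2 3 (by norm_num) (by rw [hF8]; norm_num) 2 le_rfl (fun _ => by norm_num)]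
    have := MobCount.card_G2 (F := F) hF8
    rw [this]
    norm_num
  -- faithful action
  have hinj : Function.Injective (MulAut.conjNormal : G →* MulAut M) := by
    rw [injective_iff_map_eq_one]
    intro g hg
    have hgM : ∀ m ∈ M, g * m * g⁻¹ = m := by
      intro m hm
      have h9 := DFunLike.congr_fun hg (⟨m, hm⟩ : M)
      have h10 := congrArg Subtype.val h9
      simpa [MulAut.conjNormal_apply] using h10
    have hgP : g ∈ (P : Subgroup G) := by
      apply h.cent
      rw [mem_centralizer_iff]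
      intro p hp
      exact (mul_inv_eq_iff_eq_mul.1 (hgM p (hPM hp))).symm
    by_contra hg1
    have hz : (⟨g, hPM hgP⟩ : M) ∈ center M := by
      rw [mem_center_iff]
      intro m
      exact Subtype.ext (mul_inv_eq_iff_eq_mul.1 (hgM m m.2)).symm
    rcases (inferInstance : (center M).Normal).eq_bot_or_eq_top with h9 | h9
    · rw [h9, mem_bot] at hz
      exact hg1 (congrArg Subtype.val hz)
    · -- `M` abelian: contradiction with the order
      apply hnn
      constructor
      intro x hx m
      have h10 : m ∈ center M := by rw [h9]; trivial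
      have h11 : m * x = x * m := (mem_center_iff.1 h10 x).symm
      rw [h11, mul_inv_cancel_right]
      exact hx
  have hbij : Function.Bijective (MulAut.conjNormal : G →* MulAut M) := by
    rw [Nat.bijective_iff_injective_and_card]
    exact ⟨hinj, by rw [hcardG, hcardA]⟩
  exact ⟨(MulEquiv.ofBijective _ hbij).trans (MulAut.congr f)⟩

end Loc

end Cfsg.Agent.Lib.H10TCI
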