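import Cfsg.Agent.Lib.H10TCI4
import Cfsg.Agent.Lib.BrauerFowler
import Cfsg.Prelude.Def_SporadicB
import Cfsg.Prelude.Def_Spor_J1

set_option autoImplicit false
set_option linter.unusedSectionVars false

/-!
# Involution centralizers `2 × A_m`
-/

namespace Cfsg.Agent.Lib.H10TCI

open Cfsg Subgroup Cfsg.Agent.Lib

universe u

variable {G : Type u} [Group G] [Finite G] {J : G} {T : Subgroup G}

theorem CS.disj (h : CS J T) : zpowers J ⊓ T = ⊥ := by
  rw [eq_bot_iff]
  intro x hx
  obtain ⟨hx1, hx2⟩ := mem_inf.1 hx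
  rw [mem_bot]
  obtain ⟨k, hk⟩ := mem_zpowers_iff.1 hx1
  rcases Int.even_or_odd' k with ⟨m, hm | hm⟩
  · rw [← hk, hm, zpow_mul, zpow_ofNat, _root_.sq, h.JJ, one_zpow]
  · exfalso
    apply h.notin
    rw [hm, zpow_add, zpow_mul, zpow_ofNat, _root_.sq, h.JJ, one_zpow, one_mul, zpow_one] at hk
    rw [hk]; exact hx2

theorem CS.zJ_le (_h : CS J T) : zpowers J ≤ centralizer ({J} : Set G) := by
  rw [zpowers_le, mem_centralizer_singleton_iff]

theorem CS.comm' (h : CS J T) (z : zpowers J) (τ : T) :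
    Commute (inclusion h.zJ_le z) (inclusion h.T_le τ) := by
  apply Subtype.ext
  show (z : G) * τ = τ * z
  obtain ⟨k, hk⟩ := mem_zpowers_iff.1 z.2
  rw [← hk]
  have h1 : Commute (τ : G) J := h.comm τ τ.2
  exact (h1.zpow_right k).symm.eq

noncomputable def CS.f (h : CS J T) : (zpowers J) × T →* centralizer ({J} : Set G) :=
  MonoidHom.noncommCoprod (inclusion h.zJ_le) (inclusion h.T_le) h.comm'

theorem CS.f_bij (h : CS J T) : Function.Bijective h.f := by
  rw [Nat.bijective_iff_injective_and_card]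
  constructor
  · rw [injective_iff_map_eq_one]
    rintro ⟨z, τ⟩ hz
    have h1 : (z : G) * τ = 1 := congrArg Subtype.val hz
    have h2 : (τ : G) ∈ zpowers J ⊓ T := by
      refine mem_inf.2 ⟨?_, τ.2⟩
      rw [eq_inv_of_mul_eq_one_right h1]
      exact (zpowers J).inv_mem z.2
    rw [h.disj, mem_bot] at h2
    rw [h2, mul_one] at h1
    exact Prod.ext (Subtype.ext h1) (Subtype.ext h2)
  · rw [Nat.card_prod, Nat.card_zpowers, h.ord, h.card_cent]

theorem CS.equiv (h : CS J T) (e : T ≃* alternatingGroup (Fin 5)) :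
    Nonempty (centralizer ({J} : Set G) ≃* Multiplicative (ZMod 2) × alternatingGroup (Fin 5)) := by
  have h1 : Nat.card (zpowers J) = Nat.card (Multiplicative (ZMod 2)) := by
    rw [Nat.card_zpowers, h.ord]
    show 2 = Nat.card (ZMod 2)
    rw [Nat.card_zmod]
  have : IsCyclic (Multiplicative (ZMod 2)) := inferInstance
  have e1 : zpowers J ≃* Multiplicative (ZMod 2) := mulEquivOfCyclicCardEq h1
  exact ⟨(MulEquiv.ofBijective _ h.f_bij).symm.trans (e1.prodCongr e)⟩

theorem s3285 (hns : ¬ Group.IsSolvable G) (h2 : ∀ N : Subgroup G, N.Normal → N.index ≠ 2)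
    (hJ : Cfsg.IsTwoCentralInvolution J) (m : ℕ)
    (hT : Nonempty (↥T ≃* ↥(alternatingGroup (Fin m))))
    (hd : Cfsg.IsInternalDirectProduct (Subgroup.zpowers J) T (Subgroup.centralizer ({J} : Set G)))
    (hJ1 : IsSimpleGroup G → Nonempty (centralizer ({J} : Set G) ≃* Multiplicative (ZMod 2) × alternatingGroup (Fin 5)) →
      Cfsg.Spor.IsoJ1 G) :
    (m = 4 ∧ ∃ (F : Type) (_ : Field F) (_ : Fintype F), Fintype.card F = 8 ∧
        Nonempty (G ≃* MulAut (Matrix.ProjectiveSpecialLinearGroup (Fin 2) F))) ∨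
      (m = 5 ∧ Cfsg.Spor.IsoJ1 G) := by
  obtain ⟨e⟩ := hT
  obtain ⟨hJ2, P, hJP, hP⟩ := hJ
  have cs := CS.of_direct hJ2 hd
  have small : m ≤ 3 → False := by
    intro hm
    have hodd : ¬ 2 ∣ Nat.card T := by
      rw [Nat.card_congr e.toEquiv]
      interval_cases m
      · have : Nat.card (alternatingGroup (Fin 0)) = 1 := by
          rw [Nat.card_eq_one_iff_unique]; exact ⟨inferInstance, ⟨1⟩⟩
        rw [this]; decide
      · have : Nat.card (alternatingGroup (Fin 1)) = 1 := by
          rw [Nat.card_eq_one_iff_unique]; exact ⟨inferInstance, ⟨1⟩⟩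
        rw [this]; decide
      · rw [nat_card_alternatingGroup]; simp [Nat.factorial]
      · rw [nat_card_alternatingGroup]; simp [Nat.factorial]
    have hle : (P : Subgroup G) ≤ centralizer ({J} : Set G) := fun x hx => mem_centralizer_singleton_iff.2 (hP x hx)
    have h3 : Nat.card (P : Subgroup G) ∣ 2 * Nat.card T := by
      rw [← cs.card_cent]; exact card_dvd_of_le hle
    obtain ⟨k, hk⟩ := IsPGroup.iff_card.1 P.2
    have hk1 : k ≤ 1 := by
      by_contra hcon
      have h4 : 2 ^ 2 ∣ 2 ^ k := pow_dvd_pow 2 (by omega)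
      rw [hk] at h3
      have h5 : 2 * 2 ∣ 2 * Nat.card T := by
        have := h4.trans h3
        rwa [_root_.sq] at this
      exact hodd (Nat.dvd_of_mul_dvd_mul_left (by norm_num) h5)
    have h4 := (P : Subgroup G).index_mul_card
    have h5 := P.not_dvd_index
    have h6 : 2 ∣ Nat.card G := by
      rw [← hJ2]; exact orderOf_dvd_natCard J
    have h7 : Nat.card G % 4 = 2 := by
      rw [hk] at h4
      have : k = 0 ∨ k = 1 := by omega
      rcases this with rfl | rfl
      · rw [pow_zero, mul_one] at h4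
        exact absurd (h4 ▸ h6) h5
      · rw [pow_one] at h4
        omega
    obtain ⟨H, hH⟩ := BrauerFowler.exists_index_two_of_two_mod_four h7
    exact h2 H (normal_of_index_eq_two hH) hH
  rcases lt_or_ge m 4 with hm | hm
  · exact (small (by omega)).elim
  rcases lt_or_ge m 6 with hm6 | hm6
  · have hm' : m = 4 ∨ m = 5 := by omega
    rcases hm' with rfl | rfl
    · obtain ⟨a, b, hl⟩ := exists_loc cs (tf4.congr e) P hJP hP
      exact Or.inl ⟨rfl, hl.main_four h2 e hns⟩
    · obtain ⟨a, b, hl⟩ := exists_loc cs (tf5.congr e) P hJP hP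
      have hTs : IsSimpleGroup T := (MulEquiv.isSimpleGroup_congr e).2 (alternatingGroup.isSimpleGroup (by simp))
      exact Or.inr ⟨rfl, hJ1 (hl.simple_of h2 hTs (by rw [Nat.card_congr e.toEquiv, card_A5])) (cs.equiv e)⟩
  · exfalso
    apply cs.false_of_six h2 P hJP hP
    intro i hi
    exact H10AltInv.mem_commutator_of_equiv e (by rw [Fintype.card_fin]; exact hm6) hi

end Cfsg.Agent.Lib.H10TCI
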