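import Mathlib

set_option autoImplicit false
set_option linter.unusedSectionVars false

/-!
# Combinatorics for involution centralizer `2 × A₄`

Three integer vectors with Gram matrix `4` on the diagonal and `2` off the diagonal.
-/

namespace Cfsg.Agent.Lib.H10TwoA4Comb

variable {ι : Type*} [Fintype ι] [DecidableEq ι]

theorem sq_one_of_le {a : ℤ} (h0 : a ≠ 0) (h : a ^ 2 ≤ 3) : a ^ 2 = 1 := by
  have h1 : a ≤ 1 := by nlinarith
  have h2 : -1 ≤ a := by nlinarith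
  have h3 : a = -1 ∨ a = 0 ∨ a = 1 := by omega
  rcases h3 with rfl | rfl | rfl <;> simp_all

theorem exists_two (s : Finset ι) (f : ι → ℤ) (h : ∑ i ∈ s, f i ^ 2 = 2) :
    ∃ x ∈ s, ∃ y ∈ s, x ≠ y ∧ f x ^ 2 = 1 ∧ f y ^ 2 = 1 ∧ ∀ i ∈ s, i ≠ x → i ≠ y → f i = 0 := by
  classical
  let T := s.filter (fun i => f i ≠ 0)
  have h1 : ∑ i ∈ T, f i ^ 2 = 2 := by
    rw [← h]
    apply Finset.sum_subset (Finset.filter_subset _ _)
    intro i hi hn
    have : f i = 0 := by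
      by_contra h0
      exact hn (Finset.mem_filter.2 ⟨hi, h0⟩)
    rw [this]; norm_num
  have h2 : ∀ i ∈ T, f i ^ 2 = 1 := by
    intro i hi
    have h3 : f i ^ 2 ≤ ∑ j ∈ T, f j ^ 2 := Finset.single_le_sum (fun j _ => sq_nonneg (f j)) hi
    exact sq_one_of_le (Finset.mem_filter.1 hi).2 (by omega)
  have h4 : T.card = 2 := by
    rw [Finset.sum_congr rfl h2, Finset.sum_const, nsmul_eq_mul, mul_one] at h1
    exact_mod_cast h1
  obtain ⟨x, y, hxy, hT⟩ := Finset.card_eq_two.1 h4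
  have hx : x ∈ T := by rw [hT]; simp
  have hy : y ∈ T := by rw [hT]; simp
  refine ⟨x, (Finset.mem_filter.1 hx).1, y, (Finset.mem_filter.1 hy).1, hxy, h2 x hx, h2 y hy, ?_⟩
  intro i hi hix hiy
  by_contra h0
  have : i ∈ T := Finset.mem_filter.2 ⟨hi, h0⟩
  rw [hT] at this
  simp [hix, hiy] at this

theorem exists_three (s : Finset ι) (f : ι → ℤ) (h : ∑ i ∈ s, f i ^ 2 = 3) :
    ∃ x ∈ s, ∃ y ∈ s, ∃ z ∈ s, x ≠ y ∧ x ≠ z ∧ y ≠ z ∧ f x ^ 2 = 1 ∧ f y ^ 2 = 1 ∧ f z ^ 2 = 1 ∧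
      ∀ i ∈ s, i ≠ x → i ≠ y → i ≠ z → f i = 0 := by
  classical
  let T := s.filter (fun i => f i ≠ 0)
  have h1 : ∑ i ∈ T, f i ^ 2 = 3 := by
    rw [← h]
    apply Finset.sum_subset (Finset.filter_subset _ _)
    intro i hi hn
    have : f i = 0 := by
      by_contra h0
      exact hn (Finset.mem_filter.2 ⟨hi, h0⟩)
    rw [this]; norm_num
  have h2 : ∀ i ∈ T, f i ^ 2 = 1 := by
    intro i hi
    have h3 : f i ^ 2 ≤ ∑ j ∈ T, f j ^ 2 := Finset.single_le_sum (fun j _ => sq_nonneg (f j)) hi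
    exact sq_one_of_le (Finset.mem_filter.1 hi).2 (by omega)
  have h4 : T.card = 3 := by
    rw [Finset.sum_congr rfl h2, Finset.sum_const, nsmul_eq_mul, mul_one] at h1
    exact_mod_cast h1
  obtain ⟨x, y, z, hxy, hxz, hyz, hT⟩ := Finset.card_eq_three.1 h4
  have hx : x ∈ T := by rw [hT]; simp
  have hy : y ∈ T := by rw [hT]; simp
  have hz : z ∈ T := by rw [hT]; simp
  refine ⟨x, (Finset.mem_filter.1 hx).1, y, (Finset.mem_filter.1 hy).1, z, (Finset.mem_filter.1 hz).1, hxy, hxz, hyz,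
    h2 x hx, h2 y hy, h2 z hz, ?_⟩
  intro i hi hix hiy hiz
  by_contra h0
  have : i ∈ T := Finset.mem_filter.2 ⟨hi, h0⟩
  rw [hT] at this
  simp [hix, hiy, hiz] at this

theorem sum_four {f : ι → ℤ} {a b c d : ι} (hab : a ≠ b) (hac : a ≠ c) (had : a ≠ d) (hbc : b ≠ c) (hbd : b ≠ d)
    (hcd : c ≠ d) (h : ∀ i, i ≠ a → i ≠ b → i ≠ c → i ≠ d → f i = 0) (g : ι → ℚ) :
    ∑ i, (f i : ℚ) * g i = f a * g a + f b * g b + f c * g c + f d * g d := by
  have h1 : ∑ i ∈ ({a, b, c, d} : Finset ι), (f i : ℚ) * g i = ∑ i, (f i : ℚ) * g i := by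
    apply Finset.sum_subset (Finset.subset_univ _)
    intro i _ hi
    simp only [Finset.mem_insert, Finset.mem_singleton, not_or] at hi
    rw [h i hi.1 hi.2.1 hi.2.2.1 hi.2.2.2]
    simp
  rw [← h1, Finset.sum_insert (by simp [hab, hac, had]), Finset.sum_insert (by simp [hbc, hbd]),
    Finset.sum_insert (by simp [hcd]), Finset.sum_singleton]
  ring

/-- the data -/
structure Data (A B C D : ι → ℤ) (o : ι) (K : ℚ) : Prop where
  pos : ∀ i, 0 < D i
  Ao : A o = 1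
  Bo : B o = 0
  Co : C o = 0
  Do : D o = 1
  one : ∀ i, D i = 1 → i = o
  AA : ∑ i, A i ^ 2 = 4
  BB : ∑ i, B i ^ 2 = 4
  CC : ∑ i, C i ^ 2 = 4
  AB : ∑ i, A i * B i = 2
  AC : ∑ i, A i * C i = 2
  BC : ∑ i, B i * C i = 2
  AD : ∑ i, A i * D i = 0
  BD : ∑ i, B i * D i = 0
  CD : ∑ i, C i * D i = 0
  KA : ∑ i, (A i : ℚ) * (((A i + B i + C i : ℤ) : ℚ) ^ 2 / D i) = K
  KB : ∑ i, (B i : ℚ) * (((A i + B i + C i : ℤ) : ℚ) ^ 2 / D i) = K
  KC : ∑ i, (C i : ℚ) * (((A i + B i + C i : ℤ) : ℚ) ^ 2 / D i) = K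
  cong : ∀ i, (8 : ℤ) ∣ D i - (A i + B i + C i)

theorem Data.swap {A B C D : ι → ℤ} {o : ι} {K : ℚ} (h : Data A B C D o K) : Data A C B D o K where
  pos := h.pos
  Ao := h.Ao
  Bo := h.Co
  Co := h.Bo
  Do := h.Do
  one := h.one
  AA := h.AA
  BB := h.CC
  CC := h.BB
  AB := h.AC
  AC := h.AB
  BC := by rw [← h.BC]; exact Finset.sum_congr rfl fun i _ => mul_comm _ _
  AD := h.AD
  BD := h.CD
  CD := h.BD
  KA := by rw [← h.KA]; exact Finset.sum_congr rfl fun i _ => by rw [add_right_comm]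
  KB := by rw [← h.KC]; exact Finset.sum_congr rfl fun i _ => by rw [add_right_comm]
  KC := by rw [← h.KB]; exact Finset.sum_congr rfl fun i _ => by rw [add_right_comm]
  cong := fun i => by rw [add_right_comm]; exact h.cong i

/-- a vector of norm 4 and degree 0 has entries `0, ±1` -/
theorem le_one {f D : ι → ℤ} (hpos : ∀ i, 0 < D i) (h : ∑ i, f i ^ 2 = 4) (hD : ∑ i, f i * D i = 0) (i : ι) :
    f i = 0 ∨ f i = 1 ∨ f i = -1 := by
  have h1 : f i ^ 2 ≤ ∑ j, f j ^ 2 := Finset.single_le_sum (fun j _ => sq_nonneg (f j)) (Finset.mem_univ i)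
  rw [h] at h1
  by_contra hne
  push Not at hne
  have h2 : f i ^ 2 = 4 := by
    have h3 : f i ≤ 2 := by nlinarith
    have h4 : -2 ≤ f i := by nlinarith
    have h5 : f i = -2 ∨ f i = -1 ∨ f i = 0 ∨ f i = 1 ∨ f i = 2 := by omega
    rcases h5 with h | h | h | h | h
    · rw [h]; norm_num
    · exact absurd h hne.2.2
    · exact absurd h hne.1
    · exact absurd h hne.2.1
    · rw [h]; norm_num
  have h3 : ∀ j, j ≠ i → f j = 0 := by
    intro j hj
    have h4 := Finset.add_sum_erase Finset.univ (fun j => f j ^ 2) (Finset.mem_univ i)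
    simp only [h] at h4
    have h5 : ∑ j ∈ Finset.univ.erase i, f j ^ 2 = 0 := by omega
    have h6 := (Finset.sum_eq_zero_iff_of_nonneg (fun j _ => sq_nonneg (f j))).1 h5 j
      (Finset.mem_erase.2 ⟨hj, Finset.mem_univ j⟩)
    exact pow_eq_zero_iff (two_ne_zero) |>.1 h6
  have h4 : ∑ j, f j * D j = f i * D i := by
    apply Finset.sum_eq_single i
    · intro j _ hj; rw [h3 j hj, zero_mul]
    · intro h; exact absurd (Finset.mem_univ i) h
  rw [h4] at hD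
  have h5 := hpos i
  rcases mul_eq_zero.1 hD with h | h
  · rw [h] at h2; norm_num at h2
  · omega

theorem rest_zero {f : ι → ℤ} {a b c d : ι} (hab : a ≠ b) (hac : a ≠ c) (had : a ≠ d) (hbc : b ≠ c) (hbd : b ≠ d)
    (hcd : c ≠ d) (h : ∑ i, f i ^ 2 = 4) (ha : f a ^ 2 = 1) (hb : f b ^ 2 = 1) (hc : f c ^ 2 = 1) (hd : f d ^ 2 = 1) :
    ∀ i, i ≠ a → i ≠ b → i ≠ c → i ≠ d → f i = 0 := by
  intro i h1 h2 h3 h4
  have h5 : ∑ j ∈ ({i, a, b, c, d} : Finset ι), f j ^ 2 ≤ ∑ j, f j ^ 2 :=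
    Finset.sum_le_sum_of_subset_of_nonneg (Finset.subset_univ _) (fun j _ _ => sq_nonneg (f j))
  rw [Finset.sum_insert (by simp [h1, h2, h3, h4]), Finset.sum_insert (by simp [hab, hac, had]),
    Finset.sum_insert (by simp [hbc, hbd]), Finset.sum_insert (by simp [hcd]), Finset.sum_singleton, h] at h5
  have h6 : f i ^ 2 = 0 := le_antisymm (by omega) (sq_nonneg _)
  exact pow_eq_zero_iff (two_ne_zero) |>.1 h6

theorem term {s D v k : ℤ} (hs : s ^ 2 = 1) (hD : 0 < D) (hv : v = k * s) :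
    (s : ℚ) * ((v : ℚ) ^ 2 / D) = (k : ℚ) ^ 2 / ((s * D : ℤ) : ℚ) := by
  have h1 : (s : ℚ) ^ 2 = 1 := by exact_mod_cast hs
  have h2 : (D : ℚ) ≠ 0 := by exact_mod_cast hD.ne'
  have h3 : (s : ℚ) ≠ 0 := by
    intro h; rw [h] at h1; norm_num at h1
  rw [hv]
  push_cast
  field_simp
  linear_combination (s : ℚ) ^ 2 * h1 * (k : ℚ) ^ 2 + h1 * (k : ℚ) ^ 2

theorem prod_cases {a b : ℤ} (ha : a ^ 2 = 1) (hb : b = 0 ∨ b = 1 ∨ b = -1) :
    (a * b = 1 ∧ b = a) ∨ (a * b = 0 ∧ b = 0) ∨ (a * b = -1) := by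
  have ha' : a = 1 ∨ a = -1 := by
    have : (a - 1) * (a + 1) = 0 := by ring_nf; omega
    rcases mul_eq_zero.1 this with h | h
    · left; omega
    · right; omega
  rcases ha' with rfl | rfl <;> rcases hb with rfl | rfl | rfl <;> simp

/-- the arithmetic of case I -/
theorem arithI {c d e : ℤ} (hc : c ≠ 0) (hd : d ≠ 0) (he : e ≠ 0) (h1 : 1 + c = d + e)
    (h2 : 1 + 1 / (c : ℚ) = 1 / (d : ℚ) + 1 / (e : ℚ)) : c = -1 ∨ d = 1 ∨ e = 1 := by
  have hc' : (c : ℚ) ≠ 0 := by exact_mod_cast hc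
  have hd' : (d : ℚ) ≠ 0 := by exact_mod_cast hd
  have he' : (e : ℚ) ≠ 0 := by exact_mod_cast he
  field_simp at h2
  have h3 : (c + 1) * (d * e) = (d + e) * c := by
    have : ((c + 1 : ℤ) : ℚ) * ((d * e : ℤ) : ℚ) = ((d + e : ℤ) : ℚ) * c := by
      push_cast; linear_combination h2
    exact_mod_cast this
  have h4 : (1 + c) * ((d - 1) * (e - 1)) = 0 := by
    linear_combination h3 + (1 + c - c) * h1 + c * h1 - c * h1
  rcases mul_eq_zero.1 h4 with h | h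
  · left; omega
  · rcases mul_eq_zero.1 h with h | h
    · right; left; omega
    · right; right; omega

/-- the arithmetic of case II -/
theorem arithII {c d e : ℤ} (hc : c ≠ 0) (hd : d ≠ 0) (he : e ≠ 0) (h1 : 1 + c = d + e)
    (h2 : 1 + 4 / (c : ℚ) = 4 / (d : ℚ) + 1 / (e : ℚ)) (hc8 : (8 : ℤ) ∣ c - 2) (hd8 : (8 : ℤ) ∣ d - 2) :
    e = 1 ∨ (c = -6 ∧ d = 10) := by
  have hc' : (c : ℚ) ≠ 0 := by exact_mod_cast hc
  have hd' : (d : ℚ) ≠ 0 := by exact_mod_cast hd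
  have he' : (e : ℚ) ≠ 0 := by exact_mod_cast he
  field_simp at h2
  have h3 : (c + 4) * (d * e) = (4 * e + d) * c := by
    have : ((c + 4 : ℤ) : ℚ) * ((d * e : ℤ) : ℚ) = ((4 * e + d : ℤ) : ℚ) * c := by
      push_cast; linear_combination h2
    exact_mod_cast this
  have he2 : e = 1 + c - d := by omega
  subst he2
  have h4 : (c - d) * ((c + 4) * (d - 4) + 12) = 0 := by linear_combination h3
  rcases mul_eq_zero.1 h4 with h | h
  · left; omega
  · have h5 : (c + 4) * (d - 4) = -12 := by omega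
    obtain ⟨m, hm⟩ := hc8
    obtain ⟨n, hn⟩ := hd8
    have hc2 : c = 8 * m + 2 := by omega
    have hd2 : d = 8 * n + 2 := by omega
    subst hc2 hd2
    have h6 : (4 * m + 3) * (4 * n - 1) = -3 := by nlinarith
    have h7 : (4 * m + 3) ∣ 3 := ⟨-(4 * n - 1), by linarith⟩
    have h8 : 4 * m + 3 ≤ 3 := Int.le_of_dvd (by norm_num) h7
    have h9 : -(4 * m + 3) ≤ 3 := Int.le_of_dvd (by norm_num) ((neg_dvd).2 h7)
    have h10 : m = -1 ∨ m = 0 := by omega
    rcases h10 with rfl | rfl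
    · right
      constructor
      · norm_num
      · omega
    · left
      omega

/-- case I is impossible -/
theorem caseI {A B C D : ι → ℤ} {o : ι} {K : ℚ} (h : Data A B C D o K) {X Y Z : ι} (hXY : X ≠ Y) (hXZ : X ≠ Z)
    (hYZ : Y ≠ Z) (hX : X ≠ o) (hY : Y ≠ o) (hZ : Z ≠ o) (aX : A X ^ 2 = 1) (aY : A Y ^ 2 = 1) (aZ : A Z ^ 2 = 1)
    (hA : ∀ i, i ≠ o → i ≠ X → i ≠ Y → i ≠ Z → A i = 0) (bX : B X = A X) (bY : B Y = A Y) (bZ : B Z = 0)
    (cX : C X = A X) (cY : C Y = A Y) (cZ : C Z = 0) : False := by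
  have hBrest : ∑ i ∈ Finset.univ \ {o, X, Y, Z}, B i ^ 2 = 2 := by
    have h1 := Finset.sum_sdiff (f := fun i => B i ^ 2) (Finset.subset_univ ({o, X, Y, Z} : Finset ι))
    rw [Finset.sum_insert (by simp [hX.symm, hY.symm, hZ.symm]), Finset.sum_insert (by simp [hXY, hXZ]),
      Finset.sum_insert (by simp [hYZ]), Finset.sum_singleton, h.BB, h.Bo, bX, bY, bZ, aX, aY] at h1
    omega
  obtain ⟨P, hP, Q, hQ, hPQ, bP, bQ, hB⟩ := exists_two _ _ hBrest
  simp only [Finset.mem_sdiff, Finset.mem_univ, true_and, Finset.mem_insert, Finset.mem_singleton, not_or] at hP hQ hB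
  have hXP : X ≠ P := fun e => hP.2.1 e.symm
  have hXQ : X ≠ Q := fun e => hQ.2.1 e.symm
  have hYP : Y ≠ P := fun e => hP.2.2.1 e.symm
  have hYQ : Y ≠ Q := fun e => hQ.2.2.1 e.symm
  have hB' : ∀ i, i ≠ X → i ≠ Y → i ≠ P → i ≠ Q → B i = 0 := by
    intro i h1 h2 h3 h4
    by_cases ho : i = o
    · rw [ho, h.Bo]
    by_cases hz : i = Z
    · rw [hz, bZ]
    exact hB i ⟨ho, h1, h2, hz⟩ h3 h4
  have EB := sum_four hXY hXP hXQ hYP hYQ hPQ hB'
  have EA := sum_four hX.symm hY.symm hZ.symm hXY hXZ hYZ hA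
  have hBC : B P * C P + B Q * C Q = 0 := by
    have h1 := EB (fun i => (C i : ℚ))
    have h2 : ∑ i, (B i : ℚ) * (C i : ℚ) = 2 := by exact_mod_cast h.BC
    rw [h2, bX, bY, cX, cY] at h1
    have h3 : (A X : ℚ) * A X = 1 := by have := aX; rw [sq] at this; exact_mod_cast this
    have h4 : (A Y : ℚ) * A Y = 1 := by have := aY; rw [sq] at this; exact_mod_cast this
    have h5 : (B P : ℚ) * C P + (B Q : ℚ) * C Q = 0 := by linear_combination -h1 - h3 - h4
    exact_mod_cast h5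
  have hCP : C P = 0 ∧ C Q = 0 := by
    rcases prod_cases bP (le_one h.pos h.CC h.CD P) with h1 | h1 | h1
    · exfalso
      rcases prod_cases bQ (le_one h.pos h.CC h.CD Q) with h2 | h2 | h2
      · omega
      · omega
      · -- C P = B P, C Q = - B Q
        have cP : C P = B P := h1.2
        have cQ : C Q = - B Q := by
          have h3 : B Q * (C Q + B Q) = 0 := by rw [mul_add, h2, ← sq, bQ]; norm_num
          rcases mul_eq_zero.1 h3 with h4 | h4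
          · rw [h4] at bQ; norm_num at bQ
          · omega
        have EC := sum_four hXY hXP hXQ hYP hYQ hPQ
          (rest_zero hXY hXP hXQ hYP hYQ hPQ h.CC (by rw [cX, aX]) (by rw [cY, aY])
            (by rw [cP, bP]) (by rw [cQ, neg_sq, bQ]))
        have e1 := EB (fun i => (D i : ℚ))
        have e2 := EC (fun i => (D i : ℚ))
        have e3 : ∑ i, (B i : ℚ) * (D i : ℚ) = 0 := by exact_mod_cast h.BD
        have e4 : ∑ i, (C i : ℚ) * (D i : ℚ) = 0 := by exact_mod_cast h.CD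
        rw [e3] at e1
        rw [e4, cX, cY, cP, cQ] at e2
        rw [bX, bY] at e1
        push_cast at e2
        have e5 : (B Q : ℚ) * D Q = 0 := by linear_combination -(1 / 2 : ℚ) * e1 + (1 / 2 : ℚ) * e2
        have e6 : B Q * D Q = 0 := by exact_mod_cast e5
        have e7 := h.pos Q
        rcases mul_eq_zero.1 e6 with h4 | h4
        · rw [h4] at bQ; norm_num at bQ
        · omega
    · refine ⟨h1.2, ?_⟩
      have h2 : B Q * C Q = 0 := by omega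
      rcases mul_eq_zero.1 h2 with h4 | h4
      · rw [h4] at bQ; norm_num at bQ
      · exact h4
    · exfalso
      rcases prod_cases bQ (le_one h.pos h.CC h.CD Q) with h2 | h2 | h2
      · have cQ : C Q = B Q := h2.2
        have cP : C P = - B P := by
          have h3 : B P * (C P + B P) = 0 := by rw [mul_add, h1, ← sq, bP]; norm_num
          rcases mul_eq_zero.1 h3 with h4 | h4
          · rw [h4] at bP; norm_num at bP
          · omega
        have EC := sum_four hXY hXP hXQ hYP hYQ hPQ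
          (rest_zero hXY hXP hXQ hYP hYQ hPQ h.CC (by rw [cX, aX]) (by rw [cY, aY])
            (by rw [cP, neg_sq, bP]) (by rw [cQ, bQ]))
        have e1 := EB (fun i => (D i : ℚ))
        have e2 := EC (fun i => (D i : ℚ))
        have e3 : ∑ i, (B i : ℚ) * (D i : ℚ) = 0 := by exact_mod_cast h.BD
        have e4 : ∑ i, (C i : ℚ) * (D i : ℚ) = 0 := by exact_mod_cast h.CD
        rw [e3] at e1
        rw [e4, cX, cY, cP, cQ] at e2
        rw [bX, bY] at e1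
        push_cast at e2
        have e5 : (B P : ℚ) * D P = 0 := by linear_combination -(1 / 2 : ℚ) * e1 + (1 / 2 : ℚ) * e2
        have e6 : B P * D P = 0 := by exact_mod_cast e5
        have e7 := h.pos P
        rcases mul_eq_zero.1 e6 with h4 | h4
        · rw [h4] at bP; norm_num at bP
        · omega
      · omega
      · omega
  obtain ⟨cP, cQ⟩ := hCP
  have aP : A P = 0 := hA P hP.1 hP.2.1 hP.2.2.1 hP.2.2.2
  have aQ : A Q = 0 := hA Q hQ.1 hQ.2.1 hQ.2.2.1 hQ.2.2.2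
  have tX : A X + B X + C X = 3 * A X := by rw [bX, cX]; ring
  have tY : A Y + B Y + C Y = 3 * A Y := by rw [bY, cY]; ring
  have tZ : A Z + B Z + C Z = 1 * A Z := by rw [bZ, cZ]; ring
  have tP : A P + B P + C P = 1 * B P := by rw [aP, cP]; ring
  have tQ : A Q + B Q + C Q = 1 * B Q := by rw [aQ, cQ]; ring
  have tO : A o + B o + C o = 1 * A o := by rw [h.Bo, h.Co]; ring
  have kA := EA (fun i => (((A i + B i + C i : ℤ) : ℚ) ^ 2 / D i))
  have kB := EB (fun i => (((A i + B i + C i : ℤ) : ℚ) ^ 2 / D i))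
  rw [h.KA] at kA
  rw [h.KB] at kB
  have ao : A o ^ 2 = 1 := by rw [h.Ao]; norm_num
  have bX2 : B X ^ 2 = 1 := by rw [bX, aX]
  have bY2 : B Y ^ 2 = 1 := by rw [bY, aY]
  have xX := term aX (h.pos X) tX
  have xY := term aY (h.pos Y) tY
  have xZ := term aZ (h.pos Z) tZ
  have xO := term ao (h.pos o) tO
  have xP := term bP (h.pos P) tP
  have xQ := term bQ (h.pos Q) tQ
  have xX' := term bX2 (h.pos X) (show A X + B X + C X = 3 * B X by rw [tX, bX])
  have xY' := term bY2 (h.pos Y) (show A Y + B Y + C Y = 3 * B Y by rw [tY, bY])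
  rw [xX, xY, xZ, xO, h.Ao, h.Do] at kA
  rw [xX', xY', xP, xQ, bX, bY] at kB
  have dA := EA (fun i => (D i : ℚ))
  have dB := EB (fun i => (D i : ℚ))
  have e1 : ∑ i, (A i : ℚ) * (D i : ℚ) = 0 := by exact_mod_cast h.AD
  have e2 : ∑ i, (B i : ℚ) * (D i : ℚ) = 0 := by exact_mod_cast h.BD
  rw [e1, h.Ao, h.Do] at dA
  rw [e2, bX, bY] at dB
  have f1 : 1 + A Z * D Z = B P * D P + B Q * D Q := by
    have : (1 : ℚ) + A Z * D Z = B P * D P + B Q * D Q := by push_cast at dA dB; linear_combination dB - dA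
    exact_mod_cast this
  have f2 : 1 + 1 / ((A Z * D Z : ℤ) : ℚ) = 1 / ((B P * D P : ℤ) : ℚ) + 1 / ((B Q * D Q : ℤ) : ℚ) := by
    push_cast at kA kB ⊢
    linear_combination kB - kA
  have nz : ∀ {s d : ℤ}, s ^ 2 = 1 → 0 < d → s * d ≠ 0 := by
    intro s d h1 h2 h3
    rcases mul_eq_zero.1 h3 with h4 | h4
    · rw [h4] at h1; norm_num at h1
    · omega
  have abs1 : ∀ {s d : ℤ}, s ^ 2 = 1 → 0 < d → (s * d = 1 ∨ s * d = -1) → d = 1 := by
    intro s d h1 h2 h3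
    have h4 : (s * d) ^ 2 = 1 := by rcases h3 with h3 | h3 <;> rw [h3] <;> norm_num
    rw [mul_pow, h1, one_mul] at h4
    nlinarith
  rcases arithI (nz aZ (h.pos Z)) (nz bP (h.pos P)) (nz bQ (h.pos Q)) f1 f2 with g | g | g
  · exact hZ (h.one Z (abs1 aZ (h.pos Z) (Or.inr g)))
  · exact hP.1 (h.one P (abs1 bP (h.pos P) (Or.inl g)))
  · exact hQ.1 (h.one Q (abs1 bQ (h.pos Q) (Or.inl g)))

theorem nz {s d : ℤ} (h1 : s ^ 2 = 1) (h2 : 0 < d) : s * d ≠ 0 := by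
  intro h3
  rcases mul_eq_zero.1 h3 with h4 | h4
  · rw [h4] at h1; norm_num at h1
  · omega

theorem abs1 {s d : ℤ} (h1 : s ^ 2 = 1) (h2 : 0 < d) (h3 : s * d = 1) : d = 1 := by
  have h4 : (s * d) ^ 2 = 1 := by rw [h3]; norm_num
  rw [mul_pow, h1, one_mul] at h4
  nlinarith

theorem cong2 {s d v : ℤ} (h1 : s ^ 2 = 1) (h2 : (8 : ℤ) ∣ d - v) (h3 : v = 2 * s) : (8 : ℤ) ∣ s * d - 2 := by
  have h4 : s * d - 2 = s * (d - v) := by rw [h3]; linear_combination 2 * h1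
  rw [h4]
  exact Dvd.dvd.mul_left h2 s

/-- case II: only one value of `K` -/
theorem caseII {A B C D : ι → ℤ} {o : ι} {K : ℚ} (h : Data A B C D o K) {X Y Z : ι} (hXY : X ≠ Y) (hXZ : X ≠ Z)
    (hYZ : Y ≠ Z) (hX : X ≠ o) (hY : Y ≠ o) (hZ : Z ≠ o) (aX : A X ^ 2 = 1) (aY : A Y ^ 2 = 1) (aZ : A Z ^ 2 = 1)
    (hA : ∀ i, i ≠ o → i ≠ X → i ≠ Y → i ≠ Z → A i = 0) (bX : B X = A X) (bY : B Y = A Y) (bZ : B Z = 0)
    (cX : C X = A X) (cY : C Y = 0) (cZ : C Z = A Z) : K = 16 / 33 := by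
  have hBrest : ∑ i ∈ Finset.univ \ {o, X, Y, Z}, B i ^ 2 = 2 := by
    have h1 := Finset.sum_sdiff (f := fun i => B i ^ 2) (Finset.subset_univ ({o, X, Y, Z} : Finset ι))
    rw [Finset.sum_insert (by simp [hX.symm, hY.symm, hZ.symm]), Finset.sum_insert (by simp [hXY, hXZ]),
      Finset.sum_insert (by simp [hYZ]), Finset.sum_singleton, h.BB, h.Bo, bX, bY, bZ, aX, aY] at h1
    omega
  have hCrest : ∑ i ∈ Finset.univ \ {o, X, Y, Z}, C i ^ 2 = 2 := by
    have h1 := Finset.sum_sdiff (f := fun i => C i ^ 2) (Finset.subset_univ ({o, X, Y, Z} : Finset ι))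
    rw [Finset.sum_insert (by simp [hX.symm, hY.symm, hZ.symm]), Finset.sum_insert (by simp [hXY, hXZ]),
      Finset.sum_insert (by simp [hYZ]), Finset.sum_singleton, h.CC, h.Co, cX, cY, cZ, aX, aZ] at h1
    omega
  obtain ⟨P, hP, Q, hQ, hPQ, bP, bQ, hB⟩ := exists_two _ _ hBrest
  simp only [Finset.mem_sdiff, Finset.mem_univ, true_and, Finset.mem_insert, Finset.mem_singleton, not_or] at hP hQ hB
  -- choose `P` with `C P = B P`, `C Q = 0`
  obtain ⟨P, Q, hP, hQ, hPQ, bP, bQ, hB, cP, cQ⟩ : ∃ P Q : ι, (¬P = o ∧ ¬P = X ∧ ¬P = Y ∧ ¬P = Z) ∧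
      (¬Q = o ∧ ¬Q = X ∧ ¬Q = Y ∧ ¬Q = Z) ∧ P ≠ Q ∧ B P ^ 2 = 1 ∧ B Q ^ 2 = 1 ∧
      (∀ (i : ι), ¬i = o ∧ ¬i = X ∧ ¬i = Y ∧ ¬i = Z → i ≠ P → i ≠ Q → B i = 0) ∧ C P = B P ∧ C Q = 0 := by
    have hXP : X ≠ P := fun e => hP.2.1 e.symm
    have hXQ : X ≠ Q := fun e => hQ.2.1 e.symm
    have hYP : Y ≠ P := fun e => hP.2.2.1 e.symm
    have hYQ : Y ≠ Q := fun e => hQ.2.2.1 e.symm
    have hB' : ∀ i, i ≠ X → i ≠ Y → i ≠ P → i ≠ Q → B i = 0 := by
      intro i h1 h2 h3 h4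
      by_cases ho : i = o
      · rw [ho, h.Bo]
      by_cases hz : i = Z
      · rw [hz, bZ]
      exact hB i ⟨ho, h1, h2, hz⟩ h3 h4
    have EB := sum_four hXY hXP hXQ hYP hYQ hPQ hB'
    have hBC : B P * C P + B Q * C Q = 1 := by
      have h1 := EB (fun i => (C i : ℚ))
      have h2 : ∑ i, (B i : ℚ) * (C i : ℚ) = 2 := by exact_mod_cast h.BC
      rw [h2, bX, bY, cX, cY] at h1
      have h3 : (A X : ℚ) * A X = 1 := by have := aX; rw [sq] at this; exact_mod_cast this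
      have h5 : (B P : ℚ) * C P + (B Q : ℚ) * C Q = 1 := by push_cast at h1; linear_combination -h1 - h3
      exact_mod_cast h5
    rcases prod_cases bP (le_one h.pos h.CC h.CD P) with h1 | h1 | h1 <;>
      rcases prod_cases bQ (le_one h.pos h.CC h.CD Q) with h2 | h2 | h2
    · omega
    · exact ⟨P, Q, hP, hQ, hPQ, bP, bQ, hB, h1.2, h2.2⟩
    · omega
    · exact ⟨Q, P, hQ, hP, hPQ.symm, bQ, bP, fun i hi h3 h4 => hB i hi h4 h3, h2.2, h1.2⟩
    · omega
    · omega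
    · omega
    · omega
    · omega
  have hXP : X ≠ P := fun e => hP.2.1 e.symm
  have hXQ : X ≠ Q := fun e => hQ.2.1 e.symm
  have hYP : Y ≠ P := fun e => hP.2.2.1 e.symm
  have hYQ : Y ≠ Q := fun e => hQ.2.2.1 e.symm
  have hZP : Z ≠ P := fun e => hP.2.2.2 e.symm
  have hB' : ∀ i, i ≠ X → i ≠ Y → i ≠ P → i ≠ Q → B i = 0 := by
    intro i h1 h2 h3 h4
    by_cases ho : i = o
    · rw [ho, h.Bo]
    by_cases hz : i = Z
    · rw [hz, bZ]
    exact hB i ⟨ho, h1, h2, hz⟩ h3 h4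
  have EB := sum_four hXY hXP hXQ hYP hYQ hPQ hB'
  have EA := sum_four hX.symm hY.symm hZ.symm hXY hXZ hYZ hA
  -- the last point of `C`
  obtain ⟨F, hF, hFP, cF, hC⟩ : ∃ F : ι, (¬F = o ∧ ¬F = X ∧ ¬F = Y ∧ ¬F = Z) ∧ P ≠ F ∧ C F ^ 2 = 1 ∧
      (∀ (i : ι), ¬i = o ∧ ¬i = X ∧ ¬i = Y ∧ ¬i = Z → i ≠ P → i ≠ F → C i = 0) := by
    obtain ⟨R, hR, T, hT, hRT, cR, cT, hC⟩ := exists_two _ _ hCrest
    simp only [Finset.mem_sdiff, Finset.mem_univ, true_and, Finset.mem_insert, Finset.mem_singleton, not_or] at hR hT hC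
    by_cases h1 : P = R
    · subst h1
      exact ⟨T, hT, hRT, cT, hC⟩
    · by_cases h2 : P = T
      · subst h2
        exact ⟨R, hR, fun e => hRT e.symm, cR, fun i hi h3 h4 => hC i hi h4 h3⟩
      · exfalso
        have h3 := hC P hP h1 h2
        rw [cP] at h3
        rw [h3] at bP
        norm_num at bP
  have hFQ : F ≠ Q := by
    rintro rfl
    rw [cQ] at cF; norm_num at cF
  have hXF : X ≠ F := fun e => hF.2.1 e.symm
  have hZF : Z ≠ F := fun e => hF.2.2.2 e.symm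
  have hC' : ∀ i, i ≠ X → i ≠ Z → i ≠ P → i ≠ F → C i = 0 := by
    intro i h1 h2 h3 h4
    by_cases ho : i = o
    · rw [ho, h.Co]
    by_cases hy : i = Y
    · rw [hy, cY]
    exact hC i ⟨ho, h1, hy, h2⟩ h3 h4
  have EC := sum_four hXZ hXP hXF hZP hZF hFP hC'
  have aP : A P = 0 := hA P hP.1 hP.2.1 hP.2.2.1 hP.2.2.2
  have aQ : A Q = 0 := hA Q hQ.1 hQ.2.1 hQ.2.2.1 hQ.2.2.2
  have aF : A F = 0 := hA F hF.1 hF.2.1 hF.2.2.1 hF.2.2.2
  have bF : B F = 0 := hB' F hF.2.1 hF.2.2.1 (fun e => hFP e.symm) hFQ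
  have tX : A X + B X + C X = 3 * A X := by rw [bX, cX]; ring
  have tY : A Y + B Y + C Y = 2 * A Y := by rw [bY, cY]; ring
  have tZ : A Z + B Z + C Z = 2 * A Z := by rw [bZ, cZ]; ring
  have tP : A P + B P + C P = 2 * B P := by rw [aP, cP]; ring
  have tQ : A Q + B Q + C Q = 1 * B Q := by rw [aQ, cQ]; ring
  have tF : A F + B F + C F = 1 * C F := by rw [aF, bF]; ring
  have tO : A o + B o + C o = 1 * A o := by rw [h.Bo, h.Co]; ring
  have kA := EA (fun i => (((A i + B i + C i : ℤ) : ℚ) ^ 2 / D i))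
  have kB := EB (fun i => (((A i + B i + C i : ℤ) : ℚ) ^ 2 / D i))
  have kC := EC (fun i => (((A i + B i + C i : ℤ) : ℚ) ^ 2 / D i))
  rw [h.KA] at kA
  rw [h.KB] at kB
  rw [h.KC] at kC
  have ao : A o ^ 2 = 1 := by rw [h.Ao]; norm_num
  have bX2 : B X ^ 2 = 1 := by rw [bX, aX]
  have bY2 : B Y ^ 2 = 1 := by rw [bY, aY]
  have cX2 : C X ^ 2 = 1 := by rw [cX, aX]
  have cZ2 : C Z ^ 2 = 1 := by rw [cZ, aZ]
  have cP2 : C P ^ 2 = 1 := by rw [cP, bP]
  have xX := term aX (h.pos X) tX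
  have xY := term aY (h.pos Y) tY
  have xZ := term aZ (h.pos Z) tZ
  have xO := term ao (h.pos o) tO
  have xP := term bP (h.pos P) tP
  have xQ := term bQ (h.pos Q) tQ
  have xF := term cF (h.pos F) tF
  have xX' := term bX2 (h.pos X) (show A X + B X + C X = 3 * B X by rw [tX, bX])
  have xY' := term bY2 (h.pos Y) (show A Y + B Y + C Y = 2 * B Y by rw [tY, bY])
  have xX'' := term cX2 (h.pos X) (show A X + B X + C X = 3 * C X by rw [tX, cX])
  have xZ'' := term cZ2 (h.pos Z) (show A Z + B Z + C Z = 2 * C Z by rw [tZ, cZ])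
  have xP'' := term cP2 (h.pos P) (show A P + B P + C P = 2 * C P by rw [tP, cP])
  rw [xX, xY, xZ, xO, h.Ao, h.Do] at kA
  rw [xX', xY', xP, xQ, bX, bY] at kB
  rw [xX'', xZ'', xP'', xF, cX, cZ, cP] at kC
  have dA := EA (fun i => (D i : ℚ))
  have dB := EB (fun i => (D i : ℚ))
  have dC := EC (fun i => (D i : ℚ))
  have e1 : ∑ i, (A i : ℚ) * (D i : ℚ) = 0 := by exact_mod_cast h.AD
  have e2 : ∑ i, (B i : ℚ) * (D i : ℚ) = 0 := by exact_mod_cast h.BD
  have e3 : ∑ i, (C i : ℚ) * (D i : ℚ) = 0 := by exact_mod_cast h.CD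
  rw [e1, h.Ao, h.Do] at dA
  rw [e2, bX, bY] at dB
  rw [e3, cX, cZ, cP] at dC
  have f1 : 1 + A Z * D Z = B P * D P + B Q * D Q := by
    have : (1 : ℚ) + A Z * D Z = B P * D P + B Q * D Q := by push_cast at dA dB; linear_combination dB - dA
    exact_mod_cast this
  have f2 : 1 + 4 / ((A Z * D Z : ℤ) : ℚ) = 4 / ((B P * D P : ℤ) : ℚ) + 1 / ((B Q * D Q : ℤ) : ℚ) := by
    push_cast at kA kB ⊢
    norm_num at kA kB
    linear_combination kB - kA
  have g1 : 1 + A Y * D Y = B P * D P + C F * D F := by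
    have : (1 : ℚ) + A Y * D Y = B P * D P + C F * D F := by push_cast at dA dC; linear_combination dC - dA
    exact_mod_cast this
  have g2 : 1 + 4 / ((A Y * D Y : ℤ) : ℚ) = 4 / ((B P * D P : ℤ) : ℚ) + 1 / ((C F * D F : ℤ) : ℚ) := by
    push_cast at kA kC ⊢
    norm_num at kA kC
    linear_combination kC - kA
  have cg1 := cong2 aZ (h.cong Z) tZ
  have cg2 := cong2 aY (h.cong Y) tY
  have cg3 := cong2 bP (h.cong P) tP
  rcases arithII (nz aZ (h.pos Z)) (nz bP (h.pos P)) (nz bQ (h.pos Q)) f1 f2 cg1 cg3 with g | ⟨g3, g4⟩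
  · exact absurd (h.one Q (abs1 bQ (h.pos Q) g)) hQ.1
  rcases arithII (nz aY (h.pos Y)) (nz bP (h.pos P)) (nz cF (h.pos F)) g1 g2 cg2 cg3 with g | ⟨g5, -⟩
  · exact absurd (h.one F (abs1 cF (h.pos F) g)) hF.1
  have g6 : A X * D X = 11 := by
    have : (A X : ℚ) * D X = 11 := by
      have h5 : (A Z : ℚ) * D Z = -6 := by exact_mod_cast g3
      have h6 : (A Y : ℚ) * D Y = -6 := by exact_mod_cast g5
      push_cast at dA
      linear_combination -dA - h5 - h6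
    exact_mod_cast this
  rw [kA, g6, g5, g3]
  norm_num

/-- **The combinatorial conclusion.** -/
theorem main {A B C D : ι → ℤ} {o : ι} {K : ℚ} (h : Data A B C D o K) : K = 16 / 33 := by
  -- the support of `A`
  have hArest : ∑ i ∈ Finset.univ.erase o, A i ^ 2 = 3 := by
    have h1 := Finset.add_sum_erase Finset.univ (fun j => A j ^ 2) (Finset.mem_univ o)
    simp only [h.AA, h.Ao] at h1
    omega
  obtain ⟨X, hX, Y, hY, Z, hZ, hXY, hXZ, hYZ, aX, aY, aZ, hA⟩ := exists_three _ _ hArest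
  have hX := Finset.ne_of_mem_erase hX
  have hY := Finset.ne_of_mem_erase hY
  have hZ := Finset.ne_of_mem_erase hZ
  have hA' : ∀ i, i ≠ o → i ≠ X → i ≠ Y → i ≠ Z → A i = 0 := fun i h0 h1 h2 h3 =>
    hA i (Finset.mem_erase.2 ⟨h0, Finset.mem_univ i⟩) h1 h2 h3
  have key : ∀ (f : ι → ℤ), f o = 0 → ∑ i, A i * f i = 2 → A X * f X + A Y * f Y + A Z * f Z = 2 := by
    intro f h0 h1
    have h2 := sum_four hX.symm hY.symm hZ.symm hXY hXZ hYZ hA' (fun i => (f i : ℚ))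
    have h3 : ∑ i, (A i : ℚ) * (f i : ℚ) = 2 := by exact_mod_cast h1
    rw [h3, h0] at h2
    have h4 : (A X : ℚ) * f X + A Y * f Y + A Z * f Z = 2 := by push_cast at h2; linear_combination -h2
    exact_mod_cast h4
  have pB := key B h.Bo h.AB
  have pC := key C h.Co h.AC
  -- all permutations
  have fin : ∀ (X Y Z : ι), X ≠ Y → X ≠ Z → Y ≠ Z → X ≠ o → Y ≠ o → Z ≠ o → A X ^ 2 = 1 → A Y ^ 2 = 1 → A Z ^ 2 = 1 →
      (∀ i, i ≠ o → i ≠ X → i ≠ Y → i ≠ Z → A i = 0) → B X = A X → B Y = A Y → B Z = 0 →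
      A X * C X + A Y * C Y + A Z * C Z = 2 → K = 16 / 33 := by
    intro X Y Z hXY hXZ hYZ hX hY hZ aX aY aZ hA bX bY bZ pC
    rcases prod_cases aX (le_one h.pos h.CC h.CD X) with h1 | h1 | h1 <;>
      rcases prod_cases aY (le_one h.pos h.CC h.CD Y) with h2 | h2 | h2 <;>
      rcases prod_cases aZ (le_one h.pos h.CC h.CD Z) with h3 | h3 | h3
    · omega
    · exact (caseI h hXY hXZ hYZ hX hY hZ aX aY aZ hA bX bY bZ h1.2 h2.2 h3.2).elim
    · omega
    · exact caseII h hXY hXZ hYZ hX hY hZ aX aY aZ hA bX bY bZ h1.2 h2.2 h3.2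
    · omega
    · omega
    · omega
    · omega
    · omega
    · exact caseII h hXY.symm hYZ hXZ hY hX hZ aY aX aZ (fun i h0 h4 h5 h6 => hA i h0 h5 h4 h6) bY bX bZ h2.2 h1.2 h3.2
    all_goals omega
  rcases prod_cases aX (le_one h.pos h.BB h.BD X) with h1 | h1 | h1 <;>
    rcases prod_cases aY (le_one h.pos h.BB h.BD Y) with h2 | h2 | h2 <;>
    rcases prod_cases aZ (le_one h.pos h.BB h.BD Z) with h3 | h3 | h3
  · omega
  · exact fin X Y Z hXY hXZ hYZ hX hY hZ aX aY aZ hA' h1.2 h2.2 h3.2 pC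
  · omega
  · exact fin X Z Y hXZ hXY hYZ.symm hX hZ hY aX aZ aY (fun i h0 h4 h5 h6 => hA' i h0 h4 h6 h5) h1.2 h3.2 h2.2 (by omega)
  · omega
  · omega
  · omega
  · omega
  · omega
  · exact fin Y Z X hYZ hXY.symm hXZ.symm hY hZ hX aY aZ aX (fun i h0 h4 h5 h6 => hA' i h0 h6 h4 h5) h2.2 h3.2 h1.2 (by omega)
  all_goals omega

end Cfsg.Agent.Lib.H10TwoA4Comb
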