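import Cfsg.Agent.Lib.JanElt
import Cfsg.Agent.Lib.H10JanFin

set_option autoImplicit false
set_option linter.all false

/-!
# Recognition of Janko's first group by an involution centralizer `Z2 × A5` (helper17, helper10)
-/

namespace Cfsg.Agent.Lib.JanFin

open Cfsg.Agent.Lib.JanH Cfsg.Agent.Lib.JanLoc Cfsg.Agent.Lib.H10Jan Subgroup

universe u

variable {G : Type u} [Group G]

theorem base {κ : H →* G} {z : G} (J : Jan κ) (D : ZD κ z) : Base (κ z0) (κ x0) (κ u0) z where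
  tt := by rw [← map_mul, z0_sq, map_one]
  xxx := by rw [← map_mul, ← map_mul, x0_cube, map_one]
  uu := by rw [← map_mul, u0_sq, map_one]
  z7 := D.z7
  xt := by rw [← map_mul, ← map_mul, z0_central]
  ut := by rw [← map_mul, ← map_mul, z0_central]
  xz := by rw [D.xz, sq]
  tzt := by
    rw [D.zt, D.E3, ← map_mul, ← map_mul, show z0 * v1 * (z0 * v1) = 1 by decide +kernel, map_one]
  tc := by rw [D.zt, ← map_mul, ← map_mul, z0_central]
  ux := by rw [← map_mul, ← map_mul, show u0 * x0 * (u0 * x0) = 1 by decide +kernel, map_one]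
  tu := by
    rw [D.zt, ← map_mul, ← map_mul, ← map_mul, show v1 * u0 * (v1 * u0) * (v1 * u0) = 1 from v1_u0, map_one]

theorem isoJ1_of_jan [Finite G] [IsSimpleGroup G] {ι : H →* G} (J : Jan ι) : Cfsg.Spor.IsoJ1 G := by
  obtain ⟨κ, z, Jκ, e1, D, hor⟩ := J.elements
  have hB := base Jκ D
  have hx1 : κ x0 ≠ 1 := fun e => x0_ne (Jκ.inj (by rw [e, map_one]))
  have hor' : w1 (κ z0) (κ x0) (κ u0) z * κ x0 = κ x0 * w1 (κ z0) (κ x0) (κ u0) z ∨
      w2 (κ z0) (κ x0) (κ u0) z * κ x0 = κ x0 * w2 (κ z0) (κ x0) (κ u0) z ∨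
      w3 (κ z0) (κ x0) (κ u0) z * κ x0 = κ x0 * w3 (κ z0) (κ x0) (κ u0) z ∨
      w4 (κ z0) (κ x0) (κ u0) z * κ x0 = κ x0 * w4 (κ z0) (κ x0) (κ u0) z := by
    have q1 : w1 (κ z0) (κ x0) (κ u0) z = (κ v1 * κ u0 * z⁻¹) * κ h1 * (z * κ u0 * κ v1) := by
      unfold w1 h1
      rw [map_mul, map_mul, map_inv, ← D.zt]
      group
    have q2 : w2 (κ z0) (κ x0) (κ u0) z = (κ v1 * κ u0 * z⁻¹) * κ h2 * (z * κ u0 * κ v1) := by
      unfold w2 h2
      rw [map_mul, map_mul, map_mul, ← D.zt]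
      group
    have q3 : w3 (κ z0) (κ x0) (κ u0) z = (κ v1 * κ u0 * (z ^ 3)⁻¹) * κ h3 * (z ^ 3 * κ u0 * κ v1) := by
      unfold w3 h3
      rw [map_mul, map_mul, ← D.zt]
      simp only [pow_succ, pow_zero, one_mul]
      group
    have q4 : w4 (κ z0) (κ x0) (κ u0) z = (κ v1 * κ u0 * (z ^ 3)⁻¹) * κ h4 * (z ^ 3 * κ u0 * κ v1) := by
      unfold w4 h4
      rw [map_mul, map_mul, map_mul, map_inv, ← D.zt]
      simp only [pow_succ, pow_zero, one_mul]
      group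
    rw [q1, q2, q3, q4]
    exact hor
  have hz : z ∉ Subgroup.closure {z⁻¹ * κ z0 * z, κ x0, κ u0, κ z0} := by
    intro hmem
    have hle : Subgroup.closure {z⁻¹ * κ z0 * z, κ x0, κ u0, κ z0} ≤ κ.range := by
      rw [Subgroup.closure_le]
      rintro g (rfl | rfl | rfl | rfl)
      · rw [D.zt]; exact ⟨v1, rfl⟩
      · exact ⟨x0, rfl⟩
      · exact ⟨u0, rfl⟩
      · exact ⟨z0, rfl⟩
    obtain ⟨h, hh⟩ := hle hmem
    apply Jκ.z_fix D.z7 D.z1 (k := 1) (by norm_num)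
    rw [pow_one, ← hh, ← map_mul, ← map_mul, z0_central]
  have hiso := Cfsg.Agent.Lib.H10JanFin.isoJ1_closure hB hx1 hor' hz
  obtain ⟨φ⟩ := hiso
  have htop : Subgroup.closure {κ z0, κ x0, κ u0, z} = ⊤ := by
    apply Subgroup.eq_top_of_card_eq
    rw [Nat.card_congr φ.toEquiv, J.order]
    exact Cfsg.Agent.Lib.JOne.card_W
  rw [htop] at φ
  exact ⟨Subgroup.topEquiv.symm.trans φ⟩

/-- the final theorem -/
theorem isoJ1 [Finite G] [IsSimpleGroup G] (t : G) (ht : Cfsg.IsTwoCentralInvolution t)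
    (e : Subgroup.centralizer ({t} : Set G) ≃* Multiplicative (ZMod 2) × alternatingGroup (Fin 5)) :
    Cfsg.Spor.IsoJ1 G := by
  obtain ⟨ι, J, -⟩ := exists_jan t ht e
  exact isoJ1_of_jan J

end Cfsg.Agent.Lib.JanFin
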