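import Cfsg.Agent.Lib.H10Wk4
import Cfsg.Agent.S3285

set_option autoImplicit false
set_option linter.unusedSectionVars false

/-!
# Weak closure `2 × A₅`: the case where `C(t)` and `N(V)` generate
-/

namespace Cfsg.Agent.Lib.H10Wk

open Cfsg Subgroup Cfsg.Agent.Lib
open Cfsg.Agent.Lib.H10TCI (TF tf5)
open scoped commutatorElement

/-- the centralizer of `⟨t⟩ T` -/
def C0 {G : Type*} [Group G] (t : G) (T : Subgroup G) : Subgroup G := centralizer ({t} : Set G) ⊓ centralizer (T : Set G)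

theorem mem_C0 {G : Type*} [Group G] {t : G} {T : Subgroup G} {c : G} :
    c ∈ C0 t T ↔ c * t = t * c ∧ ∀ x ∈ T, c * x = x * c := by
  rw [C0, mem_inf, mem_centralizer_singleton_iff, mem_centralizer_iff]
  constructor
  · rintro ⟨h1, h2⟩
    exact ⟨h1, fun x hx => (h2 x hx).symm⟩
  · rintro ⟨h1, h2⟩
    exact ⟨h1, fun x hx => (h2 x hx).symm⟩

namespace WL

variable {G : Type*} [Group G] {t : G} {T : Subgroup G} {S : Sylow 2 G} {a b : G} (h : WL t T S a b)
include h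

/-- `C(t)` normalizes `C0` -/
theorem C0_conj {c d : G} (hc : c * t = t * c) (hd : d ∈ C0 t T) : c * d * c⁻¹ ∈ C0 t T := by
  rw [mem_C0] at hd ⊢
  refine ⟨?_, fun x hx => ?_⟩
  · have h1 : Commute c t := hc
    have h2 : Commute d t := hd.1
    exact ((h1.mul_left h2).mul_left h1.inv_left).eq
  · have h3 : c⁻¹ * t = t * c⁻¹ := (Commute.inv_left (show Commute c t from hc)).eq
    have h4 := h.nT c⁻¹ h3 x hx
    rw [inv_inv] at h4
    have h5 := hd.2 _ h4
    calc c * d * c⁻¹ * x = c * (d * (c⁻¹ * x * c)) * c⁻¹ := by group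
      _ = c * ((c⁻¹ * x * c) * d) * c⁻¹ := by rw [h5]
      _ = x * (c * d * c⁻¹) := by group

variable [Finite G]

theorem exists_C0 {c : G} (hc : c * t = t * c) : ∃ τ ∈ T, ∃ d ∈ C0 t T, c = τ * d := by
  obtain ⟨τ, hτ, h2⟩ := h.exists_split hc
  refine ⟨τ, hτ, τ⁻¹ * c, mem_C0.2 ⟨?_, h2⟩, by group⟩
  have h1 : Commute c t := hc
  have h3 : Commute τ t := h.comm τ hτ
  exact (h3.inv_left.mul_left h1).eq

/-- the centralizer of `V` -/
theorem exists_CV {c : G} (hc : ∀ v ∈ h.V, c * v = v * c) :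
    ∃ τ : G, (τ = 1 ∨ τ = a ∨ τ = b ∨ τ = a * b) ∧ ∃ d ∈ C0 t T, c = τ * d := by
  obtain ⟨τ, hτ, d, hd, rfl⟩ := h.exists_C0 (hc t h.tV)
  refine ⟨τ, ?_, d, hd, rfl⟩
  have hcm : ∀ u ∈ T, (τ * d) * u = u * (τ * d) → τ * u = u * τ := by
    intro u huT hu
    have h2 := (mem_C0.1 hd).2 u huT
    apply mul_right_cancel (b := d)
    calc τ * u * d = τ * (u * d) := by group
      _ = τ * (d * u) := by rw [h2]
      _ = (τ * d) * u := by group
      _ = u * (τ * d) := hu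
      _ = u * τ * d := by group
  have h9 := h.tf.t3 ⟨a, h.aT⟩ ⟨Subtype.ext h.aa, fun e => h.a1 (congrArg Subtype.val e)⟩
    ⟨b, h.bT⟩ ⟨Subtype.ext h.bb, fun e => h.b1 (congrArg Subtype.val e),
    fun e => h.ab (congrArg Subtype.val e), Subtype.ext h.cab⟩ ⟨τ, hτ⟩
    ⟨Subtype.ext (hcm a h.aT (hc a h.aV)), Subtype.ext (hcm b h.bT (hc b h.bV))⟩
  rcases h9 with h9 | h9 | h9 | h9
  · exact Or.inl (congrArg Subtype.val h9)
  · exact Or.inr (Or.inl (congrArg Subtype.val h9))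
  · exact Or.inr (Or.inr (Or.inl (congrArg Subtype.val h9)))
  · exact Or.inr (Or.inr (Or.inr (congrArg Subtype.val h9)))

theorem V0_V {τ : G} (hτ : τ = 1 ∨ τ = a ∨ τ = b ∨ τ = a * b) : τ ∈ h.V ∧ τ ∈ T := by
  rcases hτ with e | e | e | e <;> rw [e]
  · exact ⟨one_mem _, one_mem _⟩
  · exact ⟨h.aV, h.aT⟩
  · exact ⟨h.bV, h.bT⟩
  · exact ⟨mul_mem h.aV h.bV, mul_mem h.aT h.bT⟩

theorem C0_V {d : G} (hd : d ∈ C0 t T) : ∀ v ∈ h.V, d * v = v * d :=
  h.comm_V (mem_C0.1 hd).1 ((mem_C0.1 hd).2 a h.aT) ((mem_C0.1 hd).2 b h.bT)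

theorem mem_CV {c : G} : c ∈ centralizer (h.V : Set G) ↔ ∀ v ∈ h.V, c * v = v * c := by
  rw [mem_centralizer_iff]
  exact ⟨fun h1 v hv => (h1 v hv).symm, fun h1 v hv => (h1 v hv).symm⟩

/-- normal subgroups centralized by `t` are trivial -/
theorem bot_of_normal (htop : normalClosure ({t} : Set G) = ⊤) (hZ : center G = ⊥) {D : Subgroup G} (hD : D.Normal)
    (htD : ∀ d ∈ D, d * t = t * d) : D = ⊥ := by
  have h1 : (centralizer (D : Set G)).Normal := normal_centralizer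
  have h2 : normalClosure ({t} : Set G) ≤ centralizer (D : Set G) := by
    apply normalClosure_le_normal
    rw [Set.singleton_subset_iff, SetLike.mem_coe, mem_centralizer_iff]
    exact htD
  rw [htop] at h2
  rw [eq_bot_iff, ← hZ]
  intro d hd
  rw [mem_center_iff]
  intro g
  exact ((mem_centralizer_iff.1 (h2 (mem_top g))) d hd).symm

/-- a subgroup normalized by `C(t)` and `N(V)` is normal in the case at hand -/
theorem normal_of (hM : ∀ M : Subgroup G, centralizer ({t} : Set G) ≤ M → normalizer (h.V : Set G) ≤ M → M = ⊤)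
    {D : Subgroup G} (h1 : ∀ c : G, c * t = t * c → ∀ d ∈ D, c * d * c⁻¹ ∈ D)
    (h2 : ∀ n ∈ normalizer (h.V : Set G), ∀ d ∈ D, n * d * n⁻¹ ∈ D) : D.Normal := by
  rw [← normalizer_eq_top_iff]
  apply hM
  · intro c hc
    exact SylowTools.mem_normalizer_of_forall (h1 c (mem_centralizer_singleton_iff.1 hc))
  · intro n hn
    exact SylowTools.mem_normalizer_of_forall (h2 n hn)

theorem CV_conj {n c : G} (hn : n ∈ normalizer (h.V : Set G)) (hc : c ∈ centralizer (h.V : Set G)) :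
    n * c * n⁻¹ ∈ centralizer (h.V : Set G) := by
  rw [h.mem_CV] at hc ⊢
  intro v hv
  have h1 : n⁻¹ * v * n ∈ h.V := by
    have := (mem_normalizer_iff.1 (inv_mem hn) v).1 hv
    rwa [inv_inv] at this
  calc n * c * n⁻¹ * v = n * (c * (n⁻¹ * v * n)) * n⁻¹ := by group
    _ = n * ((n⁻¹ * v * n) * c) * n⁻¹ := by rw [hc _ h1]
    _ = v * (n * c * n⁻¹) := by group

theorem C0_comm (htop : normalClosure ({t} : Set G) = ⊤) (hZ : center G = ⊥)
    (hM : ∀ M : Subgroup G, centralizer ({t} : Set G) ≤ M → normalizer (h.V : Set G) ≤ M → M = ⊤) :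
    ∀ c ∈ C0 t T, ∀ d ∈ C0 t T, c * d = d * c := by
  set A := centralizer (h.V : Set G) with hA
  have hCA : C0 t T ≤ A := fun c hc => h.mem_CV.2 (h.C0_V hc)
  have e1 : ⁅A, A⁆ = ⁅C0 t T, C0 t T⁆ := by
    apply le_antisymm
    · rw [commutator_le]
      intro c hc d hd
      obtain ⟨σ, hσ, c', hc', rfl⟩ := h.exists_CV (h.mem_CV.1 hc)
      obtain ⟨τ, hτ, d', hd', rfl⟩ := h.exists_CV (h.mem_CV.1 hd)
      have s1 : Commute σ c' := (h.C0_V hc' σ (h.V0_V hσ).1).symm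
      have s2 : Commute σ d' := (h.C0_V hd' σ (h.V0_V hσ).1).symm
      have s3 : Commute τ c' := (h.C0_V hc' τ (h.V0_V hτ).1).symm
      have s4 : Commute τ d' := (h.C0_V hd' τ (h.V0_V hτ).1).symm
      have s5 : Commute σ τ := h.V_comm σ (h.V0_V hσ).1 τ (h.V0_V hτ).1
      have e2 : ⁅σ * c', τ * d'⁆ = ⁅c', d'⁆ := by
        rw [commutatorElement_def, commutatorElement_def, mul_inv_rev, mul_inv_rev]
        have a1 : Commute σ (c' * (τ * d') * c'⁻¹) :=
          (s1.mul_right (s5.mul_right s2)).mul_right s1.inv_right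
        have a2 : Commute τ c'⁻¹ := s3.inv_right
        calc σ * c' * (τ * d') * (c'⁻¹ * σ⁻¹) * (d'⁻¹ * τ⁻¹)
            = σ * (c' * (τ * d') * c'⁻¹) * σ⁻¹ * (d'⁻¹ * τ⁻¹) := by group
          _ = (c' * (τ * d') * c'⁻¹) * (d'⁻¹ * τ⁻¹) := by rw [a1.eq]; group
          _ = (c' * τ) * d' * c'⁻¹ * d'⁻¹ * τ⁻¹ := by group
          _ = (τ * c') * d' * c'⁻¹ * d'⁻¹ * τ⁻¹ := by rw [s3.eq]
          _ = τ * (c' * d' * c'⁻¹ * d'⁻¹) * τ⁻¹ := by group
          _ = c' * d' * c'⁻¹ * d'⁻¹ := by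
            rw [((s3.mul_right s4).mul_right s3.inv_right |>.mul_right s4.inv_right).eq]; group
      rw [e2]
      exact commutator_mem_commutator hc' hd'
    · exact commutator_mono hCA hCA
  have e3 : ⁅A, A⁆ = ⊥ := by
    apply h.bot_of_normal htop hZ
    · apply h.normal_of hM
      · intro c hc d hd
        rw [e1] at hd ⊢
        have h1 : (⁅C0 t T, C0 t T⁆).map (MulAut.conj c).toMonoidHom ≤ ⁅C0 t T, C0 t T⁆ := by
          rw [map_commutator]
          apply commutator_mono <;>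
          · rintro _ ⟨x, hx, rfl⟩
            exact h.C0_conj hc hx
        exact h1 ⟨d, hd, rfl⟩
      · intro n hn d hd
        have h1 : (⁅A, A⁆).map (MulAut.conj n).toMonoidHom ≤ ⁅A, A⁆ := by
          rw [map_commutator]
          apply commutator_mono <;>
          · rintro _ ⟨x, hx, rfl⟩
            exact h.CV_conj hn hx
        exact h1 ⟨d, hd, rfl⟩
    · intro d hd
      rw [e1] at hd
      have h1 : ⁅C0 t T, C0 t T⁆ ≤ C0 t T := by
        rw [commutator_le]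
        intro x hx y hy
        exact mul_mem (mul_mem (mul_mem hx hy) (inv_mem hx)) (inv_mem hy)
      exact (mem_C0.1 (h1 hd)).1
  intro c hc d hd
  have h1 : ⁅c, d⁆ ∈ ⁅A, A⁆ := commutator_mem_commutator (hCA hc) (hCA hd)
  rw [e3, mem_bot, commutatorElement_eq_one_iff_mul_comm] at h1
  exact h1

theorem C0_sq (htop : normalClosure ({t} : Set G) = ⊤) (hZ : center G = ⊥)
    (hM : ∀ M : Subgroup G, centralizer ({t} : Set G) ≤ M → normalizer (h.V : Set G) ≤ M → M = ⊤) :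
    ∀ c ∈ C0 t T, c * c = 1 := by
  set A := centralizer (h.V : Set G) with hA
  have hCA : C0 t T ≤ A := fun c hc => h.mem_CV.2 (h.C0_V hc)
  set E := closure {x | ∃ c ∈ A, c * c = x} with hE
  have hsq : ∀ c ∈ A, ∃ d ∈ C0 t T, c * c = d * d := by
    intro c hc
    obtain ⟨σ, hσ, c', hc', rfl⟩ := h.exists_CV (h.mem_CV.1 hc)
    refine ⟨c', hc', ?_⟩
    have s1 : Commute σ c' := (h.C0_V hc' σ (h.V0_V hσ).1).symm
    calc σ * c' * (σ * c') = σ * (c' * σ) * c' := by group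
      _ = σ * (σ * c') * c' := by rw [s1.eq]
      _ = (σ * σ) * (c' * c') := by group
      _ = c' * c' := by rw [h.V_sq σ (h.V0_V hσ).1, one_mul]
  have e1 : E = closure {x | ∃ c ∈ C0 t T, c * c = x} := by
    apply le_antisymm
    · rw [hE, closure_le]
      rintro _ ⟨c, hc, rfl⟩
      obtain ⟨d, hd, e⟩ := hsq c hc
      exact subset_closure ⟨d, hd, e.symm⟩
    · exact closure_mono (fun _ ⟨c, hc, e⟩ => ⟨c, hCA hc, e⟩)
  have e3 : E = ⊥ := by
    apply h.bot_of_normal htop hZ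
    · apply h.normal_of hM
      · intro c hc d hd
        rw [e1] at hd ⊢
        have h1 : (closure {x | ∃ c ∈ C0 t T, c * c = x}).map (MulAut.conj c).toMonoidHom ≤
            closure {x | ∃ c ∈ C0 t T, c * c = x} := by
          rw [MonoidHom.map_closure, closure_le]
          rintro _ ⟨_, ⟨y, hy, rfl⟩, rfl⟩
          refine subset_closure ⟨c * y * c⁻¹, h.C0_conj hc hy, ?_⟩
          simp only [MulEquiv.toMonoidHom_eq_coe, MonoidHom.coe_coe, MulAut.conj_apply]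
          group
        exact h1 ⟨d, hd, rfl⟩
      · intro n hn d hd
        have h1 : E.map (MulAut.conj n).toMonoidHom ≤ E := by
          rw [hE, MonoidHom.map_closure, closure_le]
          rintro _ ⟨_, ⟨y, hy, rfl⟩, rfl⟩
          refine subset_closure ⟨n * y * n⁻¹, h.CV_conj hn hy, ?_⟩
          simp only [MulEquiv.toMonoidHom_eq_coe, MonoidHom.coe_coe, MulAut.conj_apply]
          group
        exact h1 ⟨d, hd, rfl⟩
    · have h1 : E ≤ centralizer ({t} : Set G) := by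
        rw [e1, closure_le]
        rintro _ ⟨c, hc, rfl⟩
        have := (mem_C0.1 hc).1
        exact mul_mem (mem_centralizer_singleton_iff.2 this) (mem_centralizer_singleton_iff.2 this)
      intro d hd
      exact mem_centralizer_singleton_iff.1 (h1 hd)
  intro c hc
  have h1 : c * c ∈ E := subset_closure ⟨c, hCA hc, rfl⟩
  rw [e3, mem_bot] at h1
  exact h1

theorem S_eq (htop : normalClosure ({t} : Set G) = ⊤) (hZ : center G = ⊥)
    (hM : ∀ M : Subgroup G, centralizer ({t} : Set G) ≤ M → normalizer (h.V : Set G) ≤ M → M = ⊤) :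
    centralizer (h.V : Set G) = S := by
  have h1 : (S : Subgroup G) ≤ centralizer (h.V : Set G) := fun s hs => h.mem_CV.2 (h.S_comm_V hs)
  have h2 : IsPGroup 2 (centralizer (h.V : Set G)) := by
    intro x
    refine ⟨1, Subtype.ext ?_⟩
    obtain ⟨σ, hσ, c', hc', e⟩ := h.exists_CV (h.mem_CV.1 x.2)
    have s1 : Commute σ c' := (h.C0_V hc' σ (h.V0_V hσ).1).symm
    show (x : G) ^ 2 ^ 1 = 1
    rw [e, pow_one, sq]
    calc σ * c' * (σ * c') = σ * (c' * σ) * c' := by group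
      _ = σ * (σ * c') * c' := by rw [s1.eq]
      _ = (σ * σ) * (c' * c') := by group
      _ = 1 := by rw [h.V_sq σ (h.V0_V hσ).1, h.C0_sq htop hZ hM c' hc', mul_one]
  exact S.is_maximal' h2 h1

theorem S_isComm (htop : normalClosure ({t} : Set G) = ⊤) (hZ : center G = ⊥)
    (hM : ∀ M : Subgroup G, centralizer ({t} : Set G) ≤ M → normalizer (h.V : Set G) ≤ M → M = ⊤) :
    IsMulCommutative (S : Subgroup G) := by
  have hS := h.S_eq htop hZ hM
  refine ⟨⟨fun x y => Subtype.ext ?_⟩⟩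
  have hx : (x : G) ∈ centralizer (h.V : Set G) := by rw [hS]; exact x.2
  have hy : (y : G) ∈ centralizer (h.V : Set G) := by rw [hS]; exact y.2
  obtain ⟨σ, hσ, c', hc', ex⟩ := h.exists_CV (h.mem_CV.1 hx)
  obtain ⟨τ, hτ, d', hd', ey⟩ := h.exists_CV (h.mem_CV.1 hy)
  have s1 : Commute σ d' := (h.C0_V hd' σ (h.V0_V hσ).1).symm
  have s2 : Commute c' τ := h.C0_V hc' τ (h.V0_V hτ).1
  have s3 : Commute c' d' := h.C0_comm htop hZ hM c' hc' d' hd'
  have s4 : Commute σ τ := h.V_comm σ (h.V0_V hσ).1 τ (h.V0_V hτ).1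
  show (x : G) * y = y * x
  rw [ex, ey]
  exact ((s4.mul_right s1).mul_left (s2.mul_right s3)).eq

theorem C0_le_CV (h' : WL t T S a b) : C0 t T ≤ centralizer (h'.V : Set G) := fun _ hc => h'.mem_CV.2 (h'.C0_V hc)

/-- `N(V)` acts trivially on `S / V` -/
theorem NV_trivial (htop : normalClosure ({t} : Set G) = ⊤) (hZ : center G = ⊥)
    (hM : ∀ M : Subgroup G, centralizer ({t} : Set G) ≤ M → normalizer (h.V : Set G) ≤ M → M = ⊤)
    {n s : G} (hn : n ∈ normalizer (h.V : Set G)) (hs : s ∈ (S : Subgroup G)) : n * s * n⁻¹ * s⁻¹ ∈ h.V := by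
  have hS := h.S_eq htop hZ hM
  have hNS : ∀ n ∈ normalizer (h.V : Set G), ∀ s ∈ (S : Subgroup G), n * s * n⁻¹ ∈ (S : Subgroup G) := by
    intro n hn s hs
    rw [← hS] at hs ⊢
    exact h.CV_conj hn hs
  have hNV : ∀ n ∈ normalizer (h.V : Set G), ∀ v ∈ h.V, n * v * n⁻¹ ∈ h.V := fun n hn v hv => (mem_normalizer_iff.1 hn v).1 hv
  have key : ∀ c ∈ normalizer (h.V : Set G), c * t = t * c → ∀ s ∈ (S : Subgroup G), c * s * c⁻¹ * s⁻¹ ∈ h.V := by
    intro c hcN hc s hs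
    rw [← hS] at hs
    obtain ⟨σ, hσ, d, hd, e⟩ := h.exists_CV (h.mem_CV.1 hs)
    obtain ⟨τ, hτ, d', hd', e'⟩ := h.exists_C0 hc
    have h1 : c * d * c⁻¹ = d := by
      have s1 : Commute τ d := ((mem_C0.1 hd).2 τ hτ).symm
      have s2 : Commute d' d := h.C0_comm htop hZ hM d' hd' d hd
      rw [e', (s1.mul_left s2).eq]
      group
    have h2 : c * s * c⁻¹ * s⁻¹ = (c * σ * c⁻¹) * σ⁻¹ := by
      rw [e]
      calc c * (σ * d) * c⁻¹ * (σ * d)⁻¹ = (c * σ * c⁻¹) * (c * d * c⁻¹) * (σ * d)⁻¹ := by group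
        _ = (c * σ * c⁻¹) * σ⁻¹ := by rw [h1]; group
    rw [h2]
    exact mul_mem (hNV c hcN σ (h.V0_V hσ).1) (inv_mem (h.V0_V hσ).1)
  let K : Subgroup G :=
    { carrier := {n | n ∈ normalizer (h.V : Set G) ∧ ∀ s ∈ (S : Subgroup G), n * s * n⁻¹ * s⁻¹ ∈ h.V}
      one_mem' := ⟨one_mem _, fun s _ => by simp⟩
      mul_mem' := by
        rintro n m ⟨hn, hn2⟩ ⟨hm, hm2⟩
        refine ⟨mul_mem hn hm, fun s hs => ?_⟩
        have e : n * m * s * (n * m)⁻¹ * s⁻¹ = (n * (m * s * m⁻¹ * s⁻¹) * n⁻¹) * (n * s * n⁻¹ * s⁻¹) := by group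
        rw [e]
        exact mul_mem (hNV n hn _ (hm2 s hs)) (hn2 s hs)
      inv_mem' := by
        rintro n ⟨hn, hn2⟩
        refine ⟨inv_mem hn, fun s hs => ?_⟩
        have h1 : n⁻¹ * s * n ∈ (S : Subgroup G) := by
          have := hNS n⁻¹ (inv_mem hn) s hs
          rwa [inv_inv] at this
        have e2 : n⁻¹ * s * n⁻¹⁻¹ * s⁻¹ = (n * (n⁻¹ * s * n) * n⁻¹ * (n⁻¹ * s * n)⁻¹)⁻¹ := by group
        rw [e2]
        exact inv_mem (hn2 _ h1) }
  have hKN : K ≤ normalizer (h.V : Set G) := fun n hn => hn.1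
  have hKn : ∀ m ∈ normalizer (h.V : Set G), ∀ n ∈ K, m * n * m⁻¹ ∈ K := by
    rintro m hm n ⟨hn, hn2⟩
    refine ⟨mul_mem (mul_mem hm hn) (inv_mem hm), fun s hs => ?_⟩
    have h1 : m⁻¹ * s * m ∈ (S : Subgroup G) := by
      have := hNS m⁻¹ (inv_mem hm) s hs
      rwa [inv_inv] at this
    have e : m * n * m⁻¹ * s * (m * n * m⁻¹)⁻¹ * s⁻¹ = m * (n * (m⁻¹ * s * m) * n⁻¹ * (m⁻¹ * s * m)⁻¹) * m⁻¹ := by group
    rw [e]
    exact hNV m hm _ (hn2 _ h1)
  obtain ⟨y, hyT, y1, y2, y3, y4, y5⟩ := h.exists_rot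
  have hyN : y ∈ normalizer (h.V : Set G) := by
    apply h.weakly_closed
    intro z hz
    have hyi : y * t * y⁻¹ = t := by rw [y5]; group
    have e1 : ∀ u v : G, y * (u * v) * y⁻¹ = (y * u * y⁻¹) * (y * v * y⁻¹) := fun u v => by group
    rcases h.V_cases hz with (e | e | e | e) | (e | e | e | e) <;> rw [e]
    · simp
    · rw [y1]; exact h.bS
    · rw [y2]; exact mul_mem h.aS h.bS
    · rw [y3]; exact h.aS
    · rw [hyi]; exact h.tS
    · rw [e1, y1, hyi]; exact mul_mem h.bS h.tS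
    · rw [e1, y2, hyi]; exact mul_mem (mul_mem h.aS h.bS) h.tS
    · rw [e1, y3, hyi]; exact mul_mem h.aS h.tS
  have hyK : y ∈ K := ⟨hyN, key y hyN y5⟩
  obtain ⟨k, hk, hk2⟩ := h.normal_trans K hKN hKn ⟨y, hyK, a, h.aV, fun e => h.ab (by rw [← y1, e]; group)⟩
    h.tV h.t1 (hNV n hn t h.tV) (fun e => h.t1 (by
      rw [mul_inv_eq_one] at e
      exact mul_left_cancel (a := n) (by rw [e, mul_one])))
  have h3 : k⁻¹ * n ∈ K := by
    have h4 : (k⁻¹ * n) * t = t * (k⁻¹ * n) := by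
      calc (k⁻¹ * n) * t = k⁻¹ * (n * t * n⁻¹) * n := by group
        _ = t * (k⁻¹ * n) := by rw [← hk2]; group
    have h5 : k⁻¹ * n ∈ normalizer (h.V : Set G) := mul_mem (inv_mem (hKN hk)) hn
    exact ⟨h5, key _ h5 h4⟩
  have h4 : n ∈ K := by
    have := mul_mem hk h3
    rwa [mul_inv_cancel_left] at this
  exact h4.2 s hs

end WL

end Cfsg.Agent.Lib.H10Wk
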