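import Cfsg.Agent.Lib.H10Wk5

set_option autoImplicit false
set_option linter.unusedSectionVars false

/-!
# Weak closure `2 × A₅`: the case where `C(t)` and `N(V)` generate, conclusion
-/

namespace Cfsg.Agent.Lib.H10Wk

open Cfsg Subgroup Cfsg.Agent.Lib
open Cfsg.Agent.Lib.H10TCI (TF tf5)
open scoped commutatorElement

namespace WL

variable {G : Type*} [Group G] {t : G} {T : Subgroup G} {S : Sylow 2 G} {a b : G} (h : WL t T S a b)
include h
variable [Finite G]

theorem S_le_V (htop : normalClosure ({t} : Set G) = ⊤) (hZ : center G = ⊥)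
    (hM : ∀ M : Subgroup G, centralizer ({t} : Set G) ≤ M → normalizer (h.V : Set G) ≤ M → M = ⊤) :
    (S : Subgroup G) ≤ h.V := by
  have hS := h.S_eq htop hZ hM
  have hSc := h.S_isComm htop hZ hM
  have hperf := h.perfect htop
  obtain ⟨N, hN, ⟨e⟩⟩ := TransferApps.abelian_sylow_quotient S hSc
  obtain ⟨h1, h2⟩ := TransferApps.abelian_sylow_decomp S hSc
  set X := (S : Subgroup G) ⊓ centralizer (normalizer (S : Set G) : Set G) with hX
  have hNtop : N = ⊤ := by
    rw [eq_top_iff, ← hperf, commutator_def, commutator_le]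
    intro x _ y _
    rw [← QuotientGroup.eq_one_iff]
    apply e.injective
    rw [map_one, ← QuotientGroup.mk'_apply, map_commutatorElement, map_commutatorElement, commutatorElement_eq_one_iff_mul_comm]
    apply Subtype.ext
    have h3 := (e (QuotientGroup.mk' N x)).2
    have h4 := (e (QuotientGroup.mk' N y)).2
    have h5 := hSc.is_comm.comm (⟨_, (mem_inf.1 h3).1⟩ : (S : Subgroup G)) ⟨_, (mem_inf.1 h4).1⟩
    have h6 : ((e (QuotientGroup.mk' N x) : X) : G) * (e (QuotientGroup.mk' N y) : X) =
        (e (QuotientGroup.mk' N y) : X) * (e (QuotientGroup.mk' N x) : X) := congrArg Subtype.val h5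
    exact h6
  have hXb : X = ⊥ := by
    rw [← card_eq_one, ← Nat.card_congr e.toEquiv, hNtop]
    exact (Nat.card_eq_one_iff_unique.2 ⟨QuotientGroup.subsingleton_quotient_top, ⟨1⟩⟩)
  rw [hXb, bot_sup_eq] at h1
  rw [← h1, commutator_le]
  intro s hs n hn
  have hnN : n ∈ normalizer (h.V : Set G) := by
    apply h.weakly_closed
    intro x hx
    exact (mem_normalizer_iff.1 hn x).1 hx.1
  have h3 := h.NV_trivial htop hZ hM hnN hs
  have h4 : ⁅s, n⁆ = (n * s * n⁻¹ * s⁻¹)⁻¹ := by
    rw [commutatorElement_def]; group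
  rw [h4]
  exact inv_mem h3

theorem C0_cases (htop : normalClosure ({t} : Set G) = ⊤) (hZ : center G = ⊥)
    (hM : ∀ M : Subgroup G, centralizer ({t} : Set G) ≤ M → normalizer (h.V : Set G) ≤ M → M = ⊤)
    {c : G} (hc : c ∈ C0 t T) : c = 1 ∨ c = t := by
  have h1 : c ∈ centralizer (h.V : Set G) := h.mem_CV.2 (h.C0_V hc)
  rw [h.S_eq htop hZ hM] at h1
  have h2 := h.S_le_V htop hZ hM h1
  obtain ⟨-, h3 | h3⟩ := h2
  · exact Or.inl (h.center_T h3 (mem_C0.1 hc).2)
  · right
    have h4 : c * t = 1 := h.center_T h3 (fun y hy => by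
      have e1 := (mem_C0.1 hc).2 y hy
      have e2 := h.comm y hy
      calc c * t * y = c * (t * y) := by group
        _ = c * (y * t) := by rw [e2]
        _ = (c * y) * t := by group
        _ = (y * c) * t := by rw [e1]
        _ = y * (c * t) := by group)
    rw [eq_inv_of_mul_eq_one_left h4, h.ti]

theorem case_top (htop : normalClosure ({t} : Set G) = ⊤) (hZ : center G = ⊥)
    (hM : ∀ M : Subgroup G, centralizer ({t} : Set G) ≤ M → normalizer (h.V : Set G) ≤ M → M = ⊤) :
    Cfsg.Spor.IsoJ1 G := by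
  have hperf := h.perfect htop
  have hnt : Nontrivial G := ⟨⟨t, 1, h.t1⟩⟩
  have hns : ¬ Group.IsSolvable G := by
    intro hs
    have := Group.IsSolvable.commutator_lt_top_of_nontrivial (G := G)
    rw [hperf] at this
    exact lt_irrefl _ this
  have h2 : ∀ N : Subgroup G, N.Normal → N.index ≠ 2 := by
    intro N hN hi
    have hN2 : N = ⊤ := by
      rw [eq_top_iff, ← hperf, commutator_def, commutator_le]
      intro x _ y _
      rw [commutatorElement_def, mul_mem_iff_of_index_two hi, mul_mem_iff_of_index_two hi, mul_mem_iff_of_index_two hi,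
        inv_mem_iff, inv_mem_iff]
      tauto
    rw [hN2, index_top] at hi
    omega
  have hti : IsTwoCentralInvolution t := ⟨h.ord, S, h.tS, h.cS⟩
  have hzp : ∀ x ∈ zpowers t, x = 1 ∨ x = t := by
    intro x hx
    obtain ⟨k, rfl⟩ := mem_zpowers_iff.1 hx
    rcases Int.even_or_odd k with ⟨m, rfl⟩ | ⟨m, rfl⟩
    · left; rw [zpow_add, ← (Commute.refl t).mul_zpow, h.tt, one_zpow]
    · right; rw [zpow_add, two_mul, zpow_add, ← (Commute.refl t).mul_zpow, h.tt, one_zpow, zpow_one, one_mul]
  have hd : IsInternalDirectProduct (zpowers t) T (centralizer ({t} : Set G)) := by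
    refine ⟨?_, ?_, ?_, ?_, ?_⟩
    · rw [zpowers_le, mem_centralizer_singleton_iff]
    · intro x hx
      exact mem_centralizer_singleton_iff.2 (h.comm x hx)
    · intro x hx y hy
      rcases hzp x hx with rfl | rfl
      · simp
      · exact (h.comm y hy).symm
    · rw [eq_bot_iff]
      rintro x ⟨hx, hxT⟩
      rcases hzp x hx with rfl | rfl
      · exact one_mem _
      · exact absurd hxT h.notin
    · apply le_antisymm
      · rw [sup_le_iff, zpowers_le]
        exact ⟨mem_centralizer_singleton_iff.2 rfl, fun x hx => mem_centralizer_singleton_iff.2 (h.comm x hx)⟩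
      · intro c hc
        obtain ⟨τ, hτ, d, hd, rfl⟩ := h.exists_C0 (mem_centralizer_singleton_iff.1 hc)
        refine mul_mem (mem_sup_right hτ) (mem_sup_left ?_)
        rcases h.C0_cases htop hZ hM hd with rfl | rfl
        · exact one_mem _
        · exact mem_zpowers _
  rcases Cfsg.Agent.S3285.result hns h2 t hti 5 T h.e5 hd with ⟨h3, -⟩ | ⟨-, h3⟩
  · omega
  · exact h3

end WL

end Cfsg.Agent.Lib.H10Wk
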