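import Cfsg.Agent.Lib.H10Wk6
import Cfsg.Agent.Lib.H10Wk7
import Cfsg.Agent.Lib.CoprimeGen
import Cfsg.Agent.S0215
import Cfsg.Agent.S0223
import Cfsg.Agent.S1225

set_option autoImplicit false
set_option linter.unusedSectionVars false

/-!
# Weak closure `2 × A₅`: the strongly embedded case
-/

namespace Cfsg.Agent.Lib.H10Wk

open Cfsg Subgroup Cfsg.Agent.Lib
open Cfsg.Agent.Lib.H10TCI (TF tf5)

/-- two involutions whose product lies in a subgroup of odd order -/
theorem conj_of_odd {G : Type*} [Group G] [Finite G] {N : Subgroup G} (hN : Odd (Nat.card N)) {s t : G}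
    (hs : s * s = 1) (ht : t * t = 1) (hst : s * t ∈ N) : ∃ n ∈ N, n * t * n⁻¹ = s := by
  obtain ⟨k, hk⟩ := hN
  set c := s * t with hc
  have h1 : c ^ (2 * k + 1) = 1 := by
    have := pow_card_eq_one' (x := (⟨c, hst⟩ : N))
    rw [hk] at this
    exact congrArg Subtype.val this
  have hti : t⁻¹ = t := inv_eq_of_mul_eq_one_left ht
  have h2 : t * c * t = c⁻¹ := by
    rw [hc, mul_inv_rev, hti, inv_eq_of_mul_eq_one_left hs]
    calc t * (s * t) * t = t * s * (t * t) := by group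
      _ = t * s := by rw [ht, mul_one]
  have h3 : ∀ m : ℕ, t * c ^ m * t = (c ^ m)⁻¹ := by
    intro m
    have : (t * c * t⁻¹) ^ m = t * c ^ m * t⁻¹ := conj_pow
    rw [hti, h2, inv_pow] at this
    exact this.symm
  refine ⟨c ^ (k + 1), pow_mem hst _, ?_⟩
  have h4 : t * (c ^ (k + 1))⁻¹ = c ^ (k + 1) * t := by
    rw [← h3 (k + 1)]
    calc t * (t * c ^ (k + 1) * t) = (t * t) * c ^ (k + 1) * t := by group
      _ = _ := by rw [ht, one_mul]
  rw [mul_assoc, h4, ← mul_assoc, ← pow_add]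
  have h5 : k + 1 + (k + 1) = (2 * k + 1) + 1 := by ring
  rw [h5, pow_succ, h1, one_mul, hc, mul_assoc, ht, mul_one]

structure Big {G : Type*} [Group G] [Finite G] {t : G} {T : Subgroup G} {S : Sylow 2 G} {a b : G} (h : WL t T S a b)
    (L : Subgroup G) : Prop where
  J : Cfsg.Spor.IsoJ1 L
  tL : t ∈ L
  TL : T ≤ L
  Ht : ∀ c : G, c * t = t * c → c ∈ normalizer (L : Set G)
  HV : normalizer (h.V : Set G) ≤ normalizer (L : Set G)
  Hne : normalizer (L : Set G) ≠ ⊤
  top : normalClosure ({t} : Set G) = ⊤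
  Zb : center G = ⊥
  IH : IHsub T t a

namespace Big

variable {G : Type*} [Group G] [Finite G] {t : G} {T : Subgroup G} {S : Sylow 2 G} {a b : G} {h : WL t T S a b}
  {L : Subgroup G} (B : Big h L)
include B

/-- involutions of `L` are conjugate to `t` in `L` -/
theorem conjL {x : G} (hx : x ∈ L) (hxx : x * x = 1) (hx1 : x ≠ 1) : ∃ l ∈ L, l * t * l⁻¹ = x := by
  have h1 : orderOf (⟨t, B.tL⟩ : L) = 2 := by rw [Subgroup.orderOf_mk]; exact h.ord
  have h2 : orderOf (⟨x, hx⟩ : L) = 2 := orderOf_eq_prime (by rw [sq]; exact Subtype.ext hxx)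
    (fun e => hx1 (congrArg Subtype.val e))
  obtain ⟨l, hl⟩ := JF.conj B.J h1 h2
  exact ⟨l, l.2, congrArg Subtype.val hl⟩

/-- elements of the normalizer of `L` induce inner automorphisms of `L` -/
theorem split {g : G} (hg : g ∈ normalizer (L : Set G)) : ∃ l ∈ L, l⁻¹ * g ∈ centralizer (L : Set G) := by
  have hn := mem_normalizer_iff.1 hg
  let α : MulAut L := MulEquiv.mk'
    (Equiv.mk (fun x => ⟨g * x * g⁻¹, (hn x).1 x.2⟩)
      (fun x => ⟨g⁻¹ * x * g, (hn _).2 (by
        have : g * (g⁻¹ * (x : G) * g) * g⁻¹ = x := by group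
        rw [this]; exact x.2)⟩)
      (fun x => Subtype.ext (by show g⁻¹ * (g * (x : G) * g⁻¹) * g = x; group))
      (fun x => Subtype.ext (by show g * (g⁻¹ * (x : G) * g) * g⁻¹ = x; group)))
    (fun x y => Subtype.ext (by show g * ((x : G) * y) * g⁻¹ = (g * x * g⁻¹) * (g * y * g⁻¹); group))
  obtain ⟨c, hc⟩ := JF.inner B.J α
  refine ⟨c, c.2, ?_⟩
  rw [mem_centralizer_iff]
  intro x hx
  have h1 : g * x * g⁻¹ = (c : G) * x * (c : G)⁻¹ := congrArg Subtype.val (hc ⟨x, hx⟩)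
  calc x * ((c : G)⁻¹ * g) = (c : G)⁻¹ * ((c : G) * x * (c : G)⁻¹) * g := by group
    _ = (c : G)⁻¹ * g * x := by rw [← h1]; group

theorem Q_comm {q : G} (hq : q ∈ centralizer (L : Set G)) {x : G} (hx : x ∈ L) : q * x = x * q :=
  (mem_centralizer_iff.1 hq x hx).symm

theorem Q_le : centralizer (L : Set G) ≤ normalizer (L : Set G) := centralizer_le_normalizer _

theorem Q_conj {g q : G} (hg : g ∈ normalizer (L : Set G)) (hq : q ∈ centralizer (L : Set G)) :
    g * q * g⁻¹ ∈ centralizer (L : Set G) := by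
  rw [mem_centralizer_iff] at hq ⊢
  intro x hx
  have h1 : g⁻¹ * x * g ∈ L := by
    have := (mem_normalizer_iff.1 (inv_mem hg) x).1 hx
    rwa [inv_inv] at this
  calc x * (g * q * g⁻¹) = g * ((g⁻¹ * x * g) * q) * g⁻¹ := by group
    _ = g * (q * (g⁻¹ * x * g)) * g⁻¹ := by rw [hq _ h1]
    _ = g * q * g⁻¹ * x := by group

theorem LQ {x : G} (hx : x ∈ L) (hq : x ∈ centralizer (L : Set G)) : x = 1 := by
  by_contra hx1
  have hs := JF.simple B.J
  have h1 : center L = ⊥ ∨ center L = ⊤ := (inferInstance : (center L).Normal).eq_bot_or_eq_top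
  rcases h1 with h1 | h1
  · have h2 : (⟨x, hx⟩ : L) ∈ center L := by
      rw [mem_center_iff]
      intro g
      exact Subtype.ext (mem_centralizer_iff.1 hq g g.2)
    rw [h1, mem_bot] at h2
    exact hx1 (congrArg Subtype.val h2)
  · apply h.a1
    apply h.center_T h.aT
    intro y hy
    have h2 : (⟨a, B.TL h.aT⟩ : L) ∈ center L := by rw [h1]; trivial
    exact (congrArg Subtype.val (mem_center_iff.1 h2 ⟨y, B.TL hy⟩)).symm

theorem VL : h.V ≤ L := h.V_le_of B.TL B.tL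

/-- `L` is generated by the `L`-conjugates of `t` -/
theorem le_ncl {Y : Subgroup G} (hLY : L ≤ Y) : L ≤ ncl Y t := by
  have hs := JF.simple B.J
  have h1 : ((ncl L t).subgroupOf L).Normal := by
    constructor
    intro n hn g
    rw [mem_subgroupOf] at hn ⊢
    exact ncl_conj g.2 hn
  rcases h1.eq_bot_or_eq_top with h2 | h2
  · exfalso
    have h3 : (⟨t, B.tL⟩ : L) ∈ (ncl L t).subgroupOf L := mem_subgroupOf.2 mem_ncl
    rw [h2, mem_bot] at h3
    exact h.t1 (congrArg Subtype.val h3)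
  · exact (subgroupOf_eq_top.1 h2).trans (ncl_mono hLY t)

/-- centralizers of elements of `Q` -/
theorem cent_q {q : G} (hq : q ∈ centralizer (L : Set G)) (hq1 : q ≠ 1) {g : G} (hg : g * q = q * g) :
    g ∈ normalizer (L : Set G) := by
  set Y := centralizer ({q} : Set G) with hY
  have hLY : L ≤ Y := fun x hx => mem_centralizer_singleton_iff.2 (B.Q_comm hq hx).symm
  have hYne : Y ≠ ⊤ := by
    intro e
    apply hq1
    have : q ∈ center G := by
      rw [mem_center_iff]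
      intro x
      have hx : x ∈ Y := by rw [e]; trivial
      exact mem_centralizer_singleton_iff.1 hx
    rwa [B.Zb, mem_bot] at this
  obtain ⟨l, hl, hl2⟩ := B.conjL (B.TL h.aT) h.aa h.a1
  have h1 := B.IH Y hYne (B.TL.trans hLY) (hLY B.tL) ⟨l, hLY hl, hl2⟩
  have h2 : ncl Y t = L := (eq_of_le_of_card_ge (B.le_ncl hLY) (by rw [JF.card h1, JF.card B.J])).symm
  apply SylowTools.mem_normalizer_of_forall
  intro x hx
  rw [← h2] at hx ⊢
  exact ncl_conj (mem_centralizer_singleton_iff.2 hg) hx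

/-- centralizers of involutions of `L` -/
theorem cent_l {x : G} (hx : x ∈ L) (hxx : x * x = 1) (hx1 : x ≠ 1) {g : G} (hg : g * x = x * g) :
    g ∈ normalizer (L : Set G) := by
  obtain ⟨l, hl, rfl⟩ := B.conjL hx hxx hx1
  have h1 : (l⁻¹ * g * l) * t = t * (l⁻¹ * g * l) := by
    calc (l⁻¹ * g * l) * t = l⁻¹ * (g * (l * t * l⁻¹)) * l := by group
      _ = l⁻¹ * ((l * t * l⁻¹) * g) * l := by rw [hg]
      _ = t * (l⁻¹ * g * l) := by group
  have h2 := B.Ht _ h1
  have h3 : g = l * (l⁻¹ * g * l) * l⁻¹ := by group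
  rw [h3]
  have hlN := le_normalizer (H := L) hl
  exact mul_mem (mul_mem hlN h2) (inv_mem hlN)

/-- centralizers of the involutions `t q` -/
theorem cent_tq {q : G} (hq : q ∈ centralizer (L : Set G)) (hqq : q * q = 1) (hq1 : q ≠ 1) {g : G} (hg : g * (t * q) = (t * q) * g) :
    g ∈ normalizer (L : Set G) := by
  set X := centralizer ({t * q} : Set G) with hX
  have hmemX : ∀ {x : G}, x ∈ X ↔ x * (t * q) = (t * q) * x := fun {x} => mem_centralizer_singleton_iff
  have hinX : ∀ x : G, x * t = t * x → x * q = q * x → x ∈ X := by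
    intro x h1 h2
    rw [hmemX]
    exact (Commute.mul_right (show Commute x t from h1) h2).eq
  have htX : t ∈ X := hinX t rfl (B.Q_comm hq B.tL).symm
  have hTX : T ≤ X := fun x hx => hinX x (h.comm x hx) (B.Q_comm hq (B.TL hx)).symm
  have hVX : h.V ≤ X := h.V_le_of hTX htX
  have hV2 : IsPGroup 2 (h.V.subgroupOf X) := h.V_two.comap_subtype
  obtain ⟨P, hP⟩ := hV2.exists_le_sylow
  have hPin : ∀ x (hx : x ∈ h.V), (⟨x, hVX hx⟩ : X) ∈ (P : Subgroup X) := fun x hx => hP (mem_subgroupOf.2 hx)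
  have hR2 : IsPGroup 2 ((P : Subgroup X).map X.subtype) := P.2.map _
  have hcomm : ∀ s : X, s ∈ (P : Subgroup X) → ∀ x ∈ h.V, (s : G) * x = x * s := by
    intro s hs
    exact h.two_comm hR2 ⟨_, hPin t h.tV, rfl⟩ ⟨_, hPin a h.aV, rfl⟩ ⟨_, hPin b h.bV, rfl⟩ s ⟨s, hs, rfl⟩
  obtain ⟨N, hN, hNodd, hNc⟩ := Cfsg.Agent.S0215.result P (⟨t, htX⟩ : X) (by rw [Subgroup.orderOf_mk]; exact h.ord)
    (hPin t h.tV) (by
      intro x hx
      apply Subtype.ext
      show (x : G) * t * (x : G)⁻¹ = t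
      by_contra hne
      have hc := hcomm _ hx t h.tV
      change ((x : G) * t * (x : G)⁻¹) * t = t * ((x : G) * t * (x : G)⁻¹) at hc
      obtain ⟨w, hw, hw2⟩ := h.conj_into hc hne
      set g' := w * (x : G) with hg'
      have hgX : g' ∈ X := X.mul_mem (hTX hw) x.2
      obtain ⟨v, hvV, hv, hvt⟩ : ∃ v ∈ h.V, g' * t * g'⁻¹ = v ∧ v ≠ t := by
        have e1 : g' * t * g'⁻¹ = w * ((x : G) * t * (x : G)⁻¹) * w⁻¹ := by rw [hg']; group
        rcases hw2 with hw2 | hw2
        · exact ⟨a, h.aV, e1.trans hw2, fun e => h.notin (e ▸ h.aT)⟩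
        · refine ⟨a * t, mul_mem h.aV h.tV, e1.trans hw2, fun e => h.a1 ?_⟩
          exact mul_right_cancel (b := t) (by rw [e, one_mul])
      have hvv := h.V_sq v hvV
      have hgq : g' * q * g'⁻¹ = v * t * q := by
        have h1 := hmemX.1 hgX
        have h2 : g' * (t * q) * g'⁻¹ = t * q := by rw [h1]; group
        calc g' * q * g'⁻¹ = (g' * t * g'⁻¹)⁻¹ * (g' * (t * q) * g'⁻¹) := by group
          _ = v⁻¹ * (t * q) := by rw [hv, h2]
          _ = v * t * q := by rw [inv_eq_of_mul_eq_one_left hvv]; group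
      have hVq : ∀ u ∈ h.V, u * q = q * u := fun u hu => (B.Q_comm hq (B.VL hu)).symm
      obtain ⟨n, hn, hn2, -⟩ := h.control (x := q) (y := v * t * q) (g := g') hVq (by
        intro u hu
        have c1 : Commute u v := h.V_comm u hu v hvV
        have c2 : Commute u t := h.V_comm u hu t h.tV
        have c3 : Commute u q := hVq u hu
        exact ((c1.mul_right c2).mul_right c3).eq) hgq
      have h3 := B.Q_conj (B.HV hn) hq
      rw [hn2] at h3
      have h4 : v * t ∈ centralizer (L : Set G) := by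
        have := mul_mem h3 (inv_mem hq)
        rwa [mul_inv_cancel_right] at this
      have h5 := B.LQ (L.mul_mem (B.VL hvV) B.tL) h4
      exact hvt (by rw [eq_inv_of_mul_eq_one_left h5, h.ti]))
  -- the odd normal subgroup lies in the normalizer of `L`
  set N' := N.map X.subtype with hN'
  have hN'odd : Odd (Nat.card N') := by
    rw [hN', ← Nat.card_congr (equivMapOfInjective N X.subtype X.subtype_injective).toEquiv]
    exact hNodd
  have hXN' : ∀ x ∈ X, ∀ n ∈ N', x * n * x⁻¹ ∈ N' := by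
    rintro x hx _ ⟨n, hn, rfl⟩
    exact ⟨_, hN.conj_mem n hn ⟨x, hx⟩, rfl⟩
  have hVc : IsMulCommutative h.V := ⟨⟨fun x y => Subtype.ext (h.V_comm x x.2 y y.2)⟩⟩
  have hVnc : ¬ IsCyclic h.V := by
    intro hcyc
    obtain ⟨⟨g, hgV⟩, hgen⟩ := hcyc
    have h1 : ∀ x ∈ h.V, x = 1 ∨ x = g := by
      intro x hx
      obtain ⟨k, hk⟩ := mem_zpowers_iff.1 (hgen ⟨x, hx⟩)
      have hk' : g ^ k = x := congrArg Subtype.val hk
      have hgg := h.V_sq g hgV
      rw [← hk']
      rcases Int.even_or_odd k with ⟨m, rfl⟩ | ⟨m, rfl⟩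
      · left; rw [zpow_add, ← (Commute.refl g).mul_zpow, hgg, one_zpow]
      · right; rw [zpow_add, two_mul, zpow_add, ← (Commute.refl g).mul_zpow, hgg, one_zpow, zpow_one, one_mul]
    have h2 := (h1 a h.aV).resolve_left h.a1
    have h3 := (h1 b h.bV).resolve_left h.b1
    exact h.ab (h2.trans h3.symm)
  have hgen := CoprimeGen.iSup_centralizer_eq (A := h.V) (K := N') hVc hVnc
    (fun v hv => SylowTools.mem_normalizer_of_forall (hXN' v (hVX hv)))
    (by rw [h.card_V, show (8 : ℕ) = 2 ^ 3 by norm_num]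
        exact Nat.Coprime.pow_left _ (Nat.coprime_two_left.2 hN'odd))
  have hN'H : N' ≤ normalizer (L : Set G) := by
    rw [← hgen]
    refine iSup₂_le fun v hv => ?_
    rintro x ⟨-, hx⟩
    exact B.cent_l (B.VL hv.1) (h.V_sq v hv.1) hv.2 (mem_centralizer_singleton_iff.1 hx)
  -- Frattini
  have hgX : g ∈ X := hmemX.2 hg
  have h1 : (g * t * g⁻¹) * t ∈ N' := by
    have h2 := hNc ⟨g, hgX⟩
    have h3 : t * g * t⁻¹ * g⁻¹ ∈ N' := ⟨_, h2, rfl⟩
    have h4 := hXN' t⁻¹ (X.inv_mem htX) _ h3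
    have h5 : t⁻¹ * (t * g * t⁻¹ * g⁻¹) * t⁻¹⁻¹ = (g * t * g⁻¹) * t := by
      rw [inv_inv]
      calc t⁻¹ * (t * g * t⁻¹ * g⁻¹) * t = (g * t⁻¹ * g⁻¹) * t := by group
        _ = (g * t * g⁻¹) * t := by rw [h.ti]
    rwa [h5] at h4
  obtain ⟨n, hn, hn2⟩ := conj_of_odd hN'odd (s := g * t * g⁻¹) (t := t) (by
    calc g * t * g⁻¹ * (g * t * g⁻¹) = g * (t * t) * g⁻¹ := by group
      _ = 1 := by rw [h.tt]; group) h.tt h1
  have h6 : (n⁻¹ * g) * t = t * (n⁻¹ * g) := by
    calc (n⁻¹ * g) * t = n⁻¹ * (g * t * g⁻¹) * g := by group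
      _ = t * (n⁻¹ * g) := by rw [← hn2]; group
  have h7 := mul_mem (hN'H hn) (B.Ht _ h6)
  rwa [mul_inv_cancel_left] at h7

theorem two_split {u : G} (hu : u ∈ normalizer (L : Set G)) (huu : u * u = 1) :
    ∃ l ∈ L, ∃ q ∈ centralizer (L : Set G), u = l * q ∧ l * l = 1 ∧ q * q = 1 := by
  obtain ⟨l, hl, hq⟩ := B.split hu
  set q := l⁻¹ * u with hqd
  have hlq : u = l * q := by rw [hqd]; group
  have hc : q * l = l * q := B.Q_comm hq hl
  have h1 : (l * l) * (q * q) = 1 := by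
    calc (l * l) * (q * q) = l * (l * q) * q := by group
      _ = l * (q * l) * q := by rw [hc]
      _ = (l * q) * (l * q) := by group
      _ = 1 := by rw [← hlq, huu]
  have h2 : l * l = (q * q)⁻¹ := eq_inv_of_mul_eq_one_left h1
  have h3 : l * l = 1 := B.LQ (L.mul_mem hl hl) (by rw [h2]; exact inv_mem (mul_mem hq hq))
  refine ⟨l, hl, q, hq, hlq, h3, ?_⟩
  rw [h3, one_mul] at h1
  exact h1

/-- every involution of `N(L)` is `L`-conjugate to one of `t`, `q`, `t q` -/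
theorem inv_cases {u : G} (hu : u ∈ normalizer (L : Set G)) (huu : u * u = 1) (hu1 : u ≠ 1) :
    ∃ l ∈ L, ∃ q ∈ centralizer (L : Set G), q * q = 1 ∧ ((q ≠ 1 ∧ u = l * q * l⁻¹) ∨ (u = l * (t * q) * l⁻¹)) := by
  obtain ⟨l, hl, q, hq, e, h1, h2⟩ := B.two_split hu huu
  by_cases hl1 : l = 1
  · subst hl1
    refine ⟨1, one_mem _, q, hq, h2, Or.inl ⟨?_, ?_⟩⟩
    · rintro rfl
      exact hu1 (by rw [e, one_mul])
    · rw [e]; group
  · obtain ⟨m, hm, hm2⟩ := B.conjL hl h1 hl1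
    refine ⟨m, hm, q, hq, h2, Or.inr ?_⟩
    have h3 : q * m = m * q := B.Q_comm hq hm
    calc u = l * q := e
      _ = m * t * m⁻¹ * q := by rw [hm2]
      _ = m * t * m⁻¹ * (q * m) * m⁻¹ := by group
      _ = m * t * m⁻¹ * (m * q) * m⁻¹ := by rw [h3]
      _ = m * (t * q) * m⁻¹ := by group

theorem cent_inv {u : G} (hu : u ∈ normalizer (L : Set G)) (huu : u * u = 1) (hu1 : u ≠ 1) {g : G} (hg : g * u = u * g) :
    g ∈ normalizer (L : Set G) := by
  obtain ⟨l, hl, q, hq, hqq, h1⟩ := B.inv_cases hu huu hu1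
  have hlN := le_normalizer (H := L) hl
  have key : ∀ w : G, u = l * w * l⁻¹ → (l⁻¹ * g * l) * w = w * (l⁻¹ * g * l) := by
    intro w hw
    calc (l⁻¹ * g * l) * w = l⁻¹ * (g * (l * w * l⁻¹)) * l := by group
      _ = l⁻¹ * ((l * w * l⁻¹) * g) * l := by rw [← hw, hg]
      _ = w * (l⁻¹ * g * l) := by group
  have h2 : l⁻¹ * g * l ∈ normalizer (L : Set G) := by
    rcases h1 with ⟨hq1, h1⟩ | h1
    · exact B.cent_q hq hq1 (key q h1)
    · by_cases hq1 : q = 1
      · subst hq1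
        exact B.Ht _ (key t (by rw [h1, mul_one]))
      · exact B.cent_tq hq hqq hq1 (key _ h1)
  have h3 : g = l * (l⁻¹ * g * l) * l⁻¹ := by group
  rw [h3]
  exact mul_mem (mul_mem hlN h2) (inv_mem hlN)

theorem exists_comm {u : G} (hu : u ∈ normalizer (L : Set G)) (huu : u * u = 1) (hu1 : u ≠ 1) :
    ∃ l ∈ L, ∀ v ∈ h.V, v * (l⁻¹ * u * l) = (l⁻¹ * u * l) * v := by
  obtain ⟨l, hl, q, hq, hqq, h1⟩ := B.inv_cases hu huu hu1
  refine ⟨l, hl, fun v hv => ?_⟩
  have c1 : Commute v t := h.V_comm v hv t h.tV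
  have c2 : Commute v q := (B.Q_comm hq (B.VL hv)).symm
  rcases h1 with ⟨-, h1⟩ | h1
  · have : l⁻¹ * u * l = q := by rw [h1]; group
    rw [this]; exact c2.eq
  · have : l⁻¹ * u * l = t * q := by rw [h1]; group
    rw [this]; exact (c1.mul_right c2).eq

theorem strong : IsStronglyEmbedded (normalizer (L : Set G)) := by
  have htN : t ∈ normalizer (L : Set G) := le_normalizer B.tL
  have heven : Even (Nat.card (normalizer (L : Set G))) := by
    have h1 : orderOf (⟨t, htN⟩ : normalizer (L : Set G)) ∣ Nat.card (normalizer (L : Set G)) := orderOf_dvd_natCard _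
    rw [Subgroup.orderOf_mk, h.ord] at h1
    exact even_iff_two_dvd.2 h1
  have hsq : ∀ u : G, orderOf u = 2 → u * u = 1 ∧ u ≠ 1 := by
    intro u hu
    refine ⟨?_, ?_⟩
    · have := pow_orderOf_eq_one u
      rwa [hu, sq] at this
    · rintro rfl
      rw [orderOf_one] at hu
      omega
  rw [Cfsg.Agent.S0223.result _ B.Hne heven]
  refine ⟨fun u hu hu2 g hg => ?_, fun u hu w hw hu2 hw2 huw => ?_⟩
  · exact B.cent_inv hu (hsq u hu2).1 (hsq u hu2).2 (mem_centralizer_singleton_iff.1 hg)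
  · obtain ⟨g, hg⟩ := isConj_iff.1 huw
    obtain ⟨l, hl, h1⟩ := B.exists_comm hu (hsq u hu2).1 (hsq u hu2).2
    obtain ⟨m, hm, h2⟩ := B.exists_comm hw (hsq w hw2).1 (hsq w hw2).2
    obtain ⟨n, hn, hn2, -⟩ := h.control (x := l⁻¹ * u * l) (y := m⁻¹ * w * m) (g := m⁻¹ * g * l) h1 h2 (by
      rw [← hg]; group)
    have hlN := le_normalizer (H := L) hl
    have hmN := le_normalizer (H := L) hm
    refine ⟨m * n * l⁻¹, mul_mem (mul_mem hmN (B.HV hn)) (inv_mem hlN), ?_⟩
    calc m * n * l⁻¹ * u * (m * n * l⁻¹)⁻¹ = m * (n * (l⁻¹ * u * l) * n⁻¹) * m⁻¹ := by group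
      _ = w := by rw [hn2]; group

theorem final : False := by
  have hst := B.strong
  have htN : t ∈ normalizer (L : Set G) := le_normalizer B.tL
  -- a conjugate of `t` outside
  obtain ⟨g, hg⟩ : ∃ g : G, g * t * g⁻¹ ∉ normalizer (L : Set G) := by
    by_contra hcon
    push Not at hcon
    apply B.Hne
    rw [eq_top_iff, ← B.top, ← ncl_top, ncl, closure_le]
    rintro _ ⟨g, -, rfl⟩
    exact hcon g
  set u := g * t * g⁻¹ with hu
  have huo : orderOf u = 2 := by rw [hu, SylowTools.orderOf_conj']; exact h.ord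
  set D := normalizer (L : Set G) ⊓ (normalizer (L : Set G)).map (MulAut.conj u).toMonoidHom with hD
  have hDodd : Odd (Nat.card D) := hst.2.2 u hg
  -- the quotient
  set N := normalizer (L : Set G) with hN
  set Q := (centralizer (L : Set G)).subgroupOf N with hQ
  have hQn : Q.Normal := by
    constructor
    intro q hq n
    rw [hQ, mem_subgroupOf] at hq ⊢
    exact B.Q_conj n.2 hq
  let f : L →* N ⧸ Q := (QuotientGroup.mk' Q).comp (inclusion (le_normalizer (H := L)))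
  have hfinj : Function.Injective f := by
    rw [injective_iff_map_eq_one]
    intro x hx
    have h1 : inclusion (le_normalizer (H := L)) x ∈ Q := (QuotientGroup.eq_one_iff _).1 hx
    rw [hQ, mem_subgroupOf] at h1
    exact Subtype.ext (B.LQ x.2 h1)
  have hfsurj : Function.Surjective f := by
    rintro ⟨n⟩
    obtain ⟨l, hl, hq⟩ := B.split n.2
    refine ⟨⟨l, hl⟩, ?_⟩
    show (QuotientGroup.mk (inclusion (le_normalizer (H := L)) ⟨l, hl⟩) : N ⧸ Q) = QuotientGroup.mk n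
    rw [QuotientGroup.eq, hQ, mem_subgroupOf]
    exact hq
  let e : L ≃* N ⧸ Q := MulEquiv.ofBijective f ⟨hfinj, hfsurj⟩
  have hJ : Cfsg.Spor.IsoJ1 (N ⧸ Q) := isoJ1_congr e B.J
  refine JF.no_odd hJ ((D.subgroupOf N).map (QuotientGroup.mk' Q)) ?_ (x := e ⟨t, B.tL⟩)
    (by rw [MulEquiv.orderOf_eq, Subgroup.orderOf_mk]; exact h.ord) ?_
  · have h1 : Nat.card ((D.subgroupOf N).map (QuotientGroup.mk' Q)) ∣ Nat.card (D.subgroupOf N) := card_map_dvd _ _
    have h2 : Nat.card (D.subgroupOf N) = Nat.card D := by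
      rw [SmallSimple.card_subgroupOf, inf_eq_left.2 inf_le_left]
    rw [h2] at h1
    exact Odd.of_dvd_nat hDodd h1
  · intro y hy
    obtain ⟨x, rfl⟩ := e.surjective y
    rw [MulEquiv.orderOf_eq] at hy
    have hxo : orderOf (x : G) = 2 := by rw [Subgroup.orderOf_coe]; exact hy
    obtain ⟨⟨d, hd, hd2⟩, -⟩ := Cfsg.Agent.S1225.result N hst u huo hg t (x : G) h.ord htN hxo (le_normalizer x.2)
    refine ⟨QuotientGroup.mk' Q ⟨d, (mem_inf.1 hd).1⟩, ⟨_, mem_subgroupOf.2 hd, rfl⟩, ?_⟩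
    show QuotientGroup.mk' Q _ * QuotientGroup.mk' Q _ * (QuotientGroup.mk' Q _)⁻¹ = QuotientGroup.mk' Q _
    rw [← map_inv, ← map_mul, ← map_mul]
    congr 1
    exact Subtype.ext hd2

end Big

end Cfsg.Agent.Lib.H10Wk
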