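import Mathlib

set_option autoImplicit false
set_option linter.all false

/-!
# The group `Z2 × A5`: explicit facts (helper17)
-/

namespace Cfsg.Agent.Lib.JanH

open Equiv

/-- the group -/
abbrev H := Multiplicative (ZMod 2) × alternatingGroup (Fin 5)

/-- an even permutation in `H` -/
def mk (σ : Perm (Fin 5)) (h : Perm.sign σ = 1) : H := (1, ⟨σ, Equiv.Perm.mem_alternatingGroup.2 h⟩)

/-- the central involution -/
def z0 : H := (Multiplicative.ofAdd 1, 1)
/-- order 3, normalizes the four-group -/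
def x0 : H := mk (swap 0 1 * swap 1 2) (by decide)
/-- order 5 -/
def y0 : H := mk (swap 0 1 * swap 1 2 * swap 2 3 * swap 3 4) (by decide)
/-- involutions of the four-group -/
def v1 : H := mk (swap 0 1 * swap 2 3) (by decide)
def v2 : H := mk (swap 0 2 * swap 1 3) (by decide)
def v3 : H := mk (swap 0 3 * swap 1 2) (by decide)
/-- inverts `x0` -/
def u0 : H := mk (swap 0 1 * swap 3 4) (by decide)
/-- order 3, inverted by `v1` -/
def X0 : H := mk (swap 0 1 * swap 1 4) (by decide)
/-- inverts `y0` -/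
def s0 : H := mk (swap 0 1 * swap 2 4) (by decide)

theorem center_eq : ∀ h : H, (∀ k : H, h * k = k * h) → h = 1 ∨ h = z0 := by decide +kernel
theorem z0_central : ∀ h : H, h * z0 = z0 * h := by decide +kernel
theorem z0_ne : z0 ≠ 1 := by decide +kernel
theorem z0_sq : z0 * z0 = 1 := by decide +kernel
theorem x0_cube : x0 * x0 * x0 = 1 := by decide +kernel
theorem x0_ne : x0 ≠ 1 := by decide +kernel
theorem y0_five : y0 * y0 * y0 * y0 * y0 = 1 := by decide +kernel
theorem y0_ne : y0 ≠ 1 := by decide +kernel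
theorem X0_cube : X0 * X0 * X0 = 1 := by decide +kernel
theorem X0_ne : X0 ≠ 1 := by decide +kernel
theorem v1_sq : v1 * v1 = 1 := by decide +kernel
theorem v1_ne : v1 ≠ 1 := by decide +kernel
theorem u0_sq : u0 * u0 = 1 := by decide +kernel
theorem s0_sq : s0 * s0 = 1 := by decide +kernel
theorem u0_x0 : u0 * x0 * u0 = x0⁻¹ := by decide +kernel
theorem v1_X0 : v1 * X0 * v1 = X0⁻¹ := by decide +kernel
theorem s0_y0 : s0 * y0 * s0 = y0⁻¹ := by decide +kernel
theorem v1_u0 : (v1 * u0) * (v1 * u0) * (v1 * u0) = 1 := by decide +kernel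
theorem x0_v1 : x0⁻¹ * v1 * x0 = v2 := by decide +kernel
theorem x0_v2 : x0⁻¹ * v2 * x0 = v3 := by decide +kernel
theorem x0_v3 : x0⁻¹ * v3 * x0 = v1 := by decide +kernel
theorem card_H : Nat.card H = 120 := by rw [Nat.card_eq_fintype_card]; decide +kernel
theorem cent_v1_list' : ∀ h : H, h * v1 = v1 * h → h ∈ ([1, z0, v1, v2, v3, z0 * v1, z0 * v2, z0 * v3] : List H) := by
  decide +kernel
theorem cent_v1_list {h : H} (hh : h * v1 = v1 * h) :
    h = 1 ∨ h = z0 ∨ h = v1 ∨ h = v2 ∨ h = v3 ∨ h = z0 * v1 ∨ h = z0 * v2 ∨ h = z0 * v3 := by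
  simpa using cent_v1_list' h hh
theorem card_cent_v1 : Fintype.card {h : H // h * v1 = v1 * h} = 8 := by decide +kernel
theorem card_cent_zx : Fintype.card {h : H // h * (z0 * x0) = (z0 * x0) * h} = 6 := by decide +kernel
theorem card_cent_zy : Fintype.card {h : H // h * (z0 * y0) = (z0 * y0) * h} = 10 := by decide +kernel
theorem card_cent_zy2 : Fintype.card {h : H // h * (z0 * (y0 * y0)) = (z0 * (y0 * y0)) * h} = 10 := by decide +kernel
theorem not_conj_y : ∀ h : H, h * (z0 * y0) ≠ (z0 * (y0 * y0)) * h := by decide +kernel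
theorem count_t : Fintype.card {h : H // h * h = 1 ∧ h ≠ 1 ∧ h ≠ z0} = 30 := by decide +kernel
theorem count_x : Fintype.card {h : H // h * h = 1 ∧ h ≠ 1 ∧ h * (z0 * x0) * h = (z0 * x0)⁻¹} = 6 := by decide +kernel
theorem count_y : Fintype.card {h : H // h * h = 1 ∧ h ≠ 1 ∧ h * (z0 * y0) * h = (z0 * y0)⁻¹} = 10 := by decide +kernel
theorem count_y2 : Fintype.card {h : H // h * h = 1 ∧ h ≠ 1 ∧ h * (z0 * (y0 * y0)) * h = (z0 * (y0 * y0))⁻¹} = 10 := by decide +kernel

end Cfsg.Agent.Lib.JanH
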