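import Cfsg.Agent.Lib.H10Wk8
import Cfsg.Agent.Lib.JanH

set_option autoImplicit false
set_option linter.unusedSectionVars false

/-!
# Weak closure `2 × A₅`: the induction
-/

namespace Cfsg.Agent.Lib.H10Wk

open Cfsg Subgroup Cfsg.Agent.Lib
open Cfsg.Agent.Lib.H10TCI (TF tf5)

universe u

theorem main (n : ℕ) : ∀ (G : Type u) [Group G] [Finite G], Nat.card G = n → ∀ (t : G) (T : Subgroup G) (S : Sylow 2 G) (a b : G),
    WL t T S a b → Cfsg.Spor.IsoJ1 (normalClosure ({t} : Set G)) := by
  induction n using Nat.strong_induction_on with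
  | _ n ih =>
  intro G _ _ hn t T S a b h
  subst hn
  have IH : IHsub T t a := by
    intro Y hY hTY htY haY
    obtain ⟨S', h'⟩ := h.restrict hTY htY haY
    have hlt : Nat.card Y < Nat.card G := by
      refine lt_of_le_of_ne (card_le_card_group Y) (fun e => hY (eq_top_of_card_eq Y e))
    exact ncl_iso htY (ih _ hlt Y rfl _ _ _ _ _ h')
  by_cases htop : normalClosure ({t} : Set G) = ⊤
  · have hZ : center G = ⊥ := by
      apply h.center_bot htop
      intro Z hZn hZ hZc
      obtain ⟨S', h'⟩ := h.quot hZc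
      have hlt : Nat.card (G ⧸ Z) < Nat.card G := by
        rw [card_eq_card_quotient_mul_card_subgroup Z]
        have h1 : Nat.card Z ≠ 1 := fun e => hZ (card_eq_one.1 e)
        have h2 : 0 < Nat.card Z := Nat.card_pos
        have h3 : 0 < Nat.card (G ⧸ Z) := Nat.card_pos
        nlinarith [show 2 ≤ Nat.card Z by omega]
      exact ih _ hlt (G ⧸ Z) rfl _ _ _ _ _ h'
    by_cases hM : ∀ M : Subgroup G, centralizer ({t} : Set G) ≤ M → normalizer (h.V : Set G) ≤ M → M = ⊤
    · rw [htop]
      exact isoJ1_congr (topEquiv (G := G)).symm (h.case_top htop hZ hM)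
    · push Not at hM
      obtain ⟨M, hM1, hM2, hMne⟩ := hM
      exfalso
      have htM : t ∈ M := hM1 (mem_centralizer_singleton_iff.2 rfl)
      have hTM : T ≤ M := fun x hx => hM1 (mem_centralizer_singleton_iff.2 (h.comm x hx))
      obtain ⟨n, hn, hna⟩ := h.O_all h.aV h.a1
      have hJ := IH M hMne hTM htM ⟨n, hM2 hn, hna⟩
      have hML : M ≤ normalizer ((ncl M t : Subgroup G) : Set G) := by
        intro m hm
        exact SylowTools.mem_normalizer_of_forall (fun x hx => ncl_conj hm hx)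
      have haL : a ∈ ncl M t := subset_closure ⟨n, hM2 hn, hna⟩
      refine Big.final (h := h) (L := ncl M t) ⟨hJ, mem_ncl, ?_, ?_, ?_, ?_, htop, hZ, IH⟩
      · exact h.T_le_of (fun x hx n hn => ncl_conj (hTM hx) hn) ⟨a, haL, h.aT, h.a1⟩
      · intro c hc
        exact hML (hM1 (mem_centralizer_singleton_iff.2 hc))
      · exact hM2.trans hML
      · intro e
        have hnorm : (ncl M t).Normal := normalizer_eq_top_iff.1 e
        have h1 : normalClosure ({t} : Set G) ≤ ncl M t := by
          apply normalClosure_le_normal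
          rw [Set.singleton_subset_iff]
          exact mem_ncl
        rw [htop] at h1
        exact hMne (top_le_iff.1 (h1.trans (ncl_le htM)))
  · exact h.step1 IH htop

/-- every element of `A₅` is a product of two squares -/
theorem a5_squares : ∀ s : alternatingGroup (Fin 5), ∃ u v : alternatingGroup (Fin 5), s = u * u * (v * v) := by
  decide +kernel

theorem a5_noncomm : ∃ u v : alternatingGroup (Fin 5), u * v ≠ v * u := by decide +kernel

theorem zm2 : ∀ u : Multiplicative (ZMod 2), u = 1 ∨ u = Multiplicative.ofAdd 1 := by decide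

theorem zm2' : (Multiplicative.ofAdd 1 : Multiplicative (ZMod 2)) * Multiplicative.ofAdd 1 = 1 := by decide

/-- the subgroup generated by the conjugates of `t` commuting with `t` -/
def wcl {G : Type*} [Group G] (t : G) : Subgroup G := closure {x : G | ∃ g : G, x = g * t * g⁻¹ ∧ x * t = t * x}

theorem exists_WL {G : Type*} [Group G] [Finite G] (t : G) (ht : orderOf t = 2) (S : Sylow 2 G) (htS : t ∈ (S : Subgroup G))
    (htc : ∀ s ∈ (S : Subgroup G), s * t = t * s) (e : wcl t ≃* (Multiplicative (ZMod 2) × alternatingGroup (Fin 5))) :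
    ∃ T a b, WL t T S a b := by
  have htt : t * t = 1 := by
    have := pow_orderOf_eq_one t
    rwa [ht, sq] at this
  have ht1 : t ≠ 1 := by
    rintro rfl
    rw [orderOf_one] at ht
    omega
  have htW : t ∈ wcl t := subset_closure ⟨1, by group, rfl⟩
  have hWt : ∀ w ∈ wcl t, w * t = t * w := by
    have : wcl t ≤ centralizer ({t} : Set G) := by
      rw [wcl, closure_le]
      rintro x ⟨g, -, hx⟩
      exact mem_centralizer_singleton_iff.2 hx
    intro w hw
    exact mem_centralizer_singleton_iff.1 (this hw)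
  have hWc : ∀ c : G, c * t = t * c → ∀ w ∈ wcl t, c * w * c⁻¹ ∈ wcl t := by
    intro c hc w hw
    have h1 : (wcl t).map (MulAut.conj c).toMonoidHom ≤ wcl t := by
      conv_lhs => rw [wcl]
      rw [MonoidHom.map_closure, closure_le]
      rintro _ ⟨x, ⟨g, rfl, hx⟩, rfl⟩
      refine subset_closure ⟨c * g, ?_, ?_⟩
      · simp only [MulEquiv.toMonoidHom_eq_coe, MonoidHom.coe_coe, MulAut.conj_apply]
        group
      · show c * (g * t * g⁻¹) * c⁻¹ * t = t * (c * (g * t * g⁻¹) * c⁻¹)
        have h2 : Commute c t := hc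
        have h3 : Commute (g * t * g⁻¹) t := hx
        exact ((h2.mul_left h3).mul_left h2.inv_left).eq
    exact h1 ⟨w, hw, by simp only [MulEquiv.toMonoidHom_eq_coe, MonoidHom.coe_coe, MulAut.conj_apply]⟩
  -- `t` corresponds to the central involution
  have hz : e ⟨t, htW⟩ = JanH.z0 := by
    refine (JanH.center_eq (e ⟨t, htW⟩) (fun k => ?_)).resolve_left (fun e1 => ht1 ?_)
    · obtain ⟨w, rfl⟩ := e.surjective k
      rw [← map_mul, ← map_mul]
      exact congrArg e (Subtype.ext (hWt w w.2).symm)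
    · exact congrArg Subtype.val (e.injective (e1.trans (map_one e).symm))
  -- the subgroup `T`
  let f : alternatingGroup (Fin 5) →* G := (wcl t).subtype.comp (e.symm.toMonoidHom.comp (MonoidHom.inr _ _))
  have hfinj : Function.Injective f := by
    intro x y hxy
    have h1 : e.symm (1, x) = e.symm (1, y) := Subtype.ext hxy
    have h2 := e.symm.injective h1
    exact congrArg Prod.snd h2
  set T : Subgroup G := f.range with hT
  have eT : alternatingGroup (Fin 5) ≃* T := MonoidHom.ofInjective hfinj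
  have hTW : T ≤ wcl t := by
    rintro _ ⟨x, rfl⟩
    exact (e.symm (1, x)).2
  have hsplit : ∀ w ∈ wcl t, w ∈ T ∨ w * t ∈ T := by
    intro w hw
    rcases hcase : e ⟨w, hw⟩ with ⟨u, x⟩
    have hu : u = 1 ∨ u = Multiplicative.ofAdd 1 := zm2 u
    rcases hu with rfl | rfl
    · left
      refine ⟨x, ?_⟩
      show ((e.symm (1, x) : wcl t) : G) = w
      rw [← hcase, e.symm_apply_apply]
    · right
      refine ⟨x, ?_⟩
      show ((e.symm (1, x) : wcl t) : G) = w * t
      have h1 : e (⟨w, hw⟩ * ⟨t, htW⟩) = (1, x) := by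
        rw [map_mul, hcase, hz]
        exact Prod.ext zm2' (mul_one x)
      rw [← h1, e.symm_apply_apply]
      rfl
  have hsqT : ∀ w ∈ wcl t, w * w ∈ T := by
    intro w hw
    rcases hsplit w hw with h1 | h1
    · exact mul_mem h1 h1
    · have h2 : w * w = (w * t) * (w * t) := by
        calc w * w = w * (t * t) * w := by rw [htt, mul_one]
          _ = (w * t) * (t * w) := by group
          _ = (w * t) * (w * t) := by rw [hWt w hw]
      rw [h2]
      exact mul_mem h1 h1
  have hTn : ∀ c : G, c * t = t * c → ∀ x ∈ T, c * x * c⁻¹ ∈ T := by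
    rintro c hc _ ⟨x, rfl⟩
    obtain ⟨u, v, rfl⟩ := a5_squares x
    have hu : f u ∈ wcl t := hTW ⟨u, rfl⟩
    have hv : f v ∈ wcl t := hTW ⟨v, rfl⟩
    have h1 := hsqT _ (hWc c hc _ hu)
    have h2 := hsqT _ (hWc c hc _ hv)
    have h3 := T.mul_mem h1 h2
    have h4 : c * f (u * u * (v * v)) * c⁻¹ = c * f u * c⁻¹ * (c * f u * c⁻¹) * (c * f v * c⁻¹ * (c * f v * c⁻¹)) := by
      rw [map_mul, map_mul, map_mul]; group
    rw [h4]
    exact h3
  have hTcomm : ∀ x ∈ T, x * t = t * x := fun x hx => hWt x (hTW hx)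
  have tf : TF T := TF.congr eT.symm tf5
  have hT60 : Nat.card T = 60 := by
    rw [← Nat.card_congr eT.toEquiv, Nat.card_eq_fintype_card]; rfl
  -- the Sylow intersection
  have hSC : (S : Subgroup G) ≤ centralizer ({t} : Set G) := fun s hs => mem_centralizer_singleton_iff.2 (htc s hs)
  have h4dvd : 4 ∣ Nat.card ((S : Subgroup G) ⊓ T : Subgroup G) := by
    obtain ⟨P0⟩ : Nonempty (Sylow 2 T) := inferInstance
    have hP0 : Nat.card P0 = 4 := by
      rw [Sylow.card_eq_multiplicity, hT60, show 60 = 2 ^ 2 * 15 by norm_num,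
        Nat.factorization_mul (by norm_num) (by norm_num), Nat.Prime.factorization_pow Nat.prime_two,
        Finsupp.add_apply, Finsupp.single_eq_same, Nat.factorization_eq_zero_of_not_dvd (by norm_num : ¬ 2 ∣ 15)]
      norm_num
    set H := (P0 : Subgroup T).map T.subtype with hH
    have hHcard : Nat.card H = 4 := by
      rw [← hP0]
      exact (Nat.card_congr (equivMapOfInjective (P0 : Subgroup T) T.subtype T.subtype_injective).toEquiv).symm
    have hHT : H ≤ T := map_subtype_le _
    obtain ⟨c, hc, hc2⟩ := SylowTools.conj_into_of_sylow_of_subgroup hSC S.2 (SylowTools.not_dvd_relIndex_of_sylow S hSC)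
      (H := H) (fun x hx => mem_centralizer_singleton_iff.2 (hTcomm x (hHT hx))) (P0.2.map _)
    have h1 : H.map (MulAut.conj c).toMonoidHom ≤ (S : Subgroup G) ⊓ T := by
      rintro _ ⟨x, hx, rfl⟩
      exact mem_inf.2 ⟨hc2 x hx, hTn c (mem_centralizer_singleton_iff.1 hc) x (hHT hx)⟩
    have h2 := card_dvd_of_le h1
    rwa [← Nat.card_congr (equivMapOfInjective H (MulAut.conj c).toMonoidHom (MulAut.conj c).injective).toEquiv, hHcard] at h2
  have h3 : Nat.card ((S : Subgroup G) ⊓ T : Subgroup G) = 4 := by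
    have h5 : IsPGroup 2 ((S : Subgroup G) ⊓ T : Subgroup G) := S.2.to_le inf_le_left
    obtain ⟨k, hk⟩ := IsPGroup.iff_card.1 h5
    have h6 : Nat.card ((S : Subgroup G) ⊓ T : Subgroup G) ∣ 60 := hT60 ▸ card_dvd_of_le inf_le_right
    rw [hk] at h6 h4dvd ⊢
    have hk2 : k < 3 := by
      by_contra hcon
      push Not at hcon
      have := (pow_dvd_pow 2 hcon).trans h6
      omega
    interval_cases k <;> omega
  have hsq : ∀ x ∈ ((S : Subgroup G) ⊓ T : Subgroup G), x * x = 1 := by
    intro x hx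
    have hx2 : x ∈ T := (mem_inf.1 hx).2
    have h5 : (⟨x, hx⟩ : ((S : Subgroup G) ⊓ T : Subgroup G)) ^ 4 = 1 := by rw [← h3]; exact pow_card_eq_one'
    have h6 : x ^ 4 = 1 := congrArg Subtype.val h5
    have h7 := tf.sq ⟨x, hx2⟩ (Subtype.ext h6)
    exact congrArg Subtype.val h7
  have hab : ∀ x ∈ ((S : Subgroup G) ⊓ T : Subgroup G), ∀ y ∈ ((S : Subgroup G) ⊓ T : Subgroup G), x * y = y * x := by
    intro x hx y hy
    have h5 := hsq x hx
    have h6 := hsq y hy
    have h7 := hsq _ (mul_mem hy hx)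
    calc x * y = (x * y) * ((y * x) * (y * x)) := by rw [h7, mul_one]
      _ = x * (y * y) * x * (y * x) := by group
      _ = y * x := by rw [h6, mul_one, h5, one_mul]
  obtain ⟨a, ha, ha1⟩ : ∃ a ∈ ((S : Subgroup G) ⊓ T : Subgroup G), a ≠ 1 := by
    by_contra hno
    push Not at hno
    have h5 : ((S : Subgroup G) ⊓ T : Subgroup G) = ⊥ := (eq_bot_iff_forall _).2 hno
    rw [h5, card_bot] at h3
    omega
  obtain ⟨b, hb, hb1, hba⟩ : ∃ b ∈ ((S : Subgroup G) ⊓ T : Subgroup G), b ≠ 1 ∧ b ≠ a := by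
    by_contra hno
    push Not at hno
    have h5 : ((S : Subgroup G) ⊓ T : Subgroup G) ≤ zpowers a := by
      intro x hx
      by_cases hx1 : x = 1
      · rw [hx1]; exact one_mem _
      · rw [hno x hx hx1]; exact mem_zpowers a
    have h6 := card_dvd_of_le h5
    rw [h3, Nat.card_zpowers] at h6
    have h7 : orderOf a ∣ 2 := orderOf_dvd_of_pow_eq_one (by rw [sq]; exact hsq a ha)
    have := Nat.le_of_dvd (by norm_num) (h6.trans h7)
    omega
  refine ⟨T, a, b, {
    ord := ht
    tS := htS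
    cS := htc
    e5 := ⟨eT.symm⟩
    comm := hTcomm
    nT := hTn
    wc := fun g hg => hsplit _ (subset_closure ⟨g, rfl, hg⟩)
    ex := ?_
    aT := (mem_inf.1 ha).2
    bT := (mem_inf.1 hb).2
    aS := (mem_inf.1 ha).1
    bS := (mem_inf.1 hb).1
    aa := hsq a ha
    bb := hsq b hb
    a1 := ha1
    b1 := hb1
    ab := fun e => hba e.symm
    cab := hab a ha b hb
    all := ?_ }⟩
  · by_contra hcon
    push Not at hcon
    obtain ⟨u, v, huv⟩ := a5_noncomm
    apply huv
    have h1 : wcl t ≤ zpowers t := by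
      rw [wcl, closure_le]
      rintro x ⟨g, rfl, hx⟩
      rw [hcon g hx]
      exact mem_zpowers t
    obtain ⟨i, hi⟩ := mem_zpowers_iff.1 (h1 (hTW ⟨u, rfl⟩))
    obtain ⟨j, hj⟩ := mem_zpowers_iff.1 (h1 (hTW ⟨v, rfl⟩))
    apply hfinj
    rw [map_mul, map_mul, ← hi, ← hj, ← zpow_add, ← zpow_add, add_comm]
  · intro p hp hpT
    have h9 := tf.t3 ⟨a, (mem_inf.1 ha).2⟩ ⟨Subtype.ext (hsq a ha), fun e => ha1 (congrArg Subtype.val e)⟩
      ⟨b, (mem_inf.1 hb).2⟩ ⟨Subtype.ext (hsq b hb), fun e => hb1 (congrArg Subtype.val e),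
        fun e => hba (congrArg Subtype.val e).symm, Subtype.ext (hab a ha b hb)⟩ ⟨p, hpT⟩
      ⟨Subtype.ext (hab p (mem_inf.2 ⟨hp, hpT⟩) a ha), Subtype.ext (hab p (mem_inf.2 ⟨hp, hpT⟩) b hb)⟩
    rcases h9 with h9 | h9 | h9 | h9
    · exact Or.inl (congrArg Subtype.val h9)
    · exact Or.inr (Or.inl (congrArg Subtype.val h9))
    · exact Or.inr (Or.inr (Or.inl (congrArg Subtype.val h9)))
    · exact Or.inr (Or.inr (Or.inr (congrArg Subtype.val h9)))

theorem s3239 {G : Type*} [Group G] [Finite G]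
    (t : G) (ht : orderOf t = 2) (S : Sylow 2 G) (htS : t ∈ (S : Subgroup G)) (htc : ∀ s ∈ (S : Subgroup G), s * t = t * s)
    (hW : Nonempty (↥(Subgroup.closure {x : G | ∃ g : G, x = g * t * g⁻¹ ∧ x * t = t * x}) ≃*
      (Multiplicative (ZMod 2) × ↥(alternatingGroup (Fin 5))))) :
    Cfsg.Spor.IsoJ1 ↥(Subgroup.normalClosure ({t} : Set G)) := by
  obtain ⟨e⟩ := hW
  obtain ⟨T, a, b, h⟩ := exists_WL t ht S htS htc e
  exact main _ G rfl t T S a b h

end Cfsg.Agent.Lib.H10Wk
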