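import Cfsg.Agent.Lib.H12Van2
import Cfsg.Agent.Lib.Codegree

set_option autoImplicit false

/-!
# An element seen by only one nonlinear character: the character theory (helper12)
-/

namespace Cfsg.Agent.Lib.H12Cam1

open Cfsg Cfsg.Agent.Lib.CharBasic Cfsg.Agent.Lib.Codegree
open scoped ComplexConjugate commutatorElement

universe u

variable {G : Type u} [Group G] [Finite G]

theorem charDegree_eq_one_iff (χ : IrrCharacter G) :
    charDegree (χ : G → ℂ) = 1 ↔ (χ : G → ℂ) 1 = 1 := by
  have h2 := DefectZero.charDegree_eq χ.2.isCharacter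
  constructor
  · intro h
    rw [h] at h2
    exact_mod_cast h2.symm
  · intro h
    rw [h] at h2
    exact_mod_cast h2

open scoped Classical in
/-- The sum of the linear characters. -/
theorem sum_linear (x : G) :
    ∑ χ ∈ (Finset.univ.filter (fun χ : IrrCharacter G => (χ : G → ℂ) 1 = 1)), (χ : G → ℂ) x =
      if x ∈ commutator G then ((commutator G).index : ℂ) else 0 := by
  by_cases hx : x ∈ commutator G
  · rw [if_pos hx]
    have h1 : ∀ χ ∈ (Finset.univ.filter (fun χ : IrrCharacter G => (χ : G → ℂ) 1 = 1)),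
        (χ : G → ℂ) x = 1 := by
      intro χ hχ
      exact χ.2.isCharacter.eq_one_on_commutator (Finset.mem_filter.mp hχ).2 hx
    rw [Finset.sum_congr rfl h1, Finset.sum_const, nsmul_eq_mul, mul_one]
    rw [← card_linear (G := G), Nat.card_eq_fintype_card, Fintype.card_subtype]
  · rw [if_neg hx]
    have : Fintype (G →* ℂˣ) := Fintype.ofEquiv _ (linEquiv G).symm
    have e1 : ∑ χ ∈ (Finset.univ.filter (fun χ : IrrCharacter G => (χ : G → ℂ) 1 = 1)),
        (χ : G → ℂ) x = ∑ f : G →* ℂˣ, (f x : ℂ) := by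
      rw [Finset.sum_subtype (p := fun χ : IrrCharacter G => (χ : G → ℂ) 1 = 1)
        (Finset.univ.filter (fun χ : IrrCharacter G => (χ : G → ℂ) 1 = 1)) (by simp)
        (fun χ => (χ : G → ℂ) x)]
      rw [← Equiv.sum_comp (linEquiv G)]
      rfl
    rw [e1]
    have hx1 : (Abelianization.of x : Abelianization G) ≠ 1 := by
      intro h
      apply hx
      exact (QuotientGroup.eq_one_iff x).mp h
    have : NeZero (Monoid.exponent (Abelianization G)) := ⟨Monoid.exponent_ne_zero_of_finite⟩
    obtain ⟨φ, hφ⟩ := CommGroup.exists_apply_ne_one_of_hasEnoughRootsOfUnity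
      (Abelianization G) ℂ hx1
    set f0 : G →* ℂˣ := φ.comp Abelianization.of with hf0
    have h2 : ∑ f : G →* ℂˣ, (f x : ℂ) = (f0 x : ℂ) * ∑ f : G →* ℂˣ, (f x : ℂ) := by
      rw [Finset.mul_sum]
      rw [← Equiv.sum_comp (Equiv.mulLeft f0)]
      apply Finset.sum_congr rfl
      intro f _
      simp
    have h3 : (f0 x : ℂ) ≠ 1 := by
      intro h
      apply hφ
      apply Units.ext
      simpa [hf0] using h
    have h4 : (1 - (f0 x : ℂ)) * ∑ f : G →* ℂˣ, (f x : ℂ) = 0 := by
      linear_combination h2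
    rcases mul_eq_zero.mp h4 with h | h
    · exact absurd (sub_eq_zero.mp h).symm h3
    · exact h

section
variable {g : G} (hg : g ∉ Subgroup.center G) {χ : IrrCharacter G}
  (hχ1 : charDegree (χ : G → ℂ) ≠ 1) (hχg : (χ : G → ℂ) g ≠ 0)
  (hother : ∀ ψ : IrrCharacter G, charDegree (ψ : G → ℂ) ≠ 1 → ψ ≠ χ → (ψ : G → ℂ) g = 0)
include hχ1 hother

open scoped Classical in
theorem ortho (y : G) :
    (if y * g⁻¹ ∈ commutator G then ((commutator G).index : ℂ) else 0) +
      (χ : G → ℂ) y * conj ((χ : G → ℂ) g) =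
    if IsConj y g then (Nat.card (Subgroup.centralizer ({y} : Set G)) : ℂ) else 0 := by
  rw [← column_orthogonality y g, ← sum_linear (y * g⁻¹)]
  rw [← Finset.sum_filter_add_sum_filter_not Finset.univ
    (fun χ : IrrCharacter G => (χ : G → ℂ) 1 = 1)
    (fun χ : IrrCharacter G => (χ : G → ℂ) y * conj ((χ : G → ℂ) g))]
  congr 1
  · apply Finset.sum_congr rfl
    intro ψ hψ
    have h1 := (Finset.mem_filter.mp hψ).2
    rw [ψ.2.isCharacter.map_mul_of_linear h1, ψ.2.isCharacter.inv]
  · rw [Finset.sum_eq_single χ]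
    · intro ψ hψ hne
      have h1 := (Finset.mem_filter.mp hψ).2
      rw [← charDegree_eq_one_iff] at h1
      rw [hother ψ h1 hne, map_zero, mul_zero]
    · intro h
      exfalso
      apply h
      rw [Finset.mem_filter]
      exact ⟨Finset.mem_univ _, fun h' => hχ1 ((charDegree_eq_one_iff χ).mpr h')⟩

include hg hχg

theorem mem_commutator_and_value : g ∈ commutator G ∧
    (χ : G → ℂ) g = -(((commutator G).index : ℂ) / (χ : G → ℂ) 1) := by
  classical
  have h := ortho hχ1 hother 1
  have hg1 : ¬ IsConj 1 g := by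
    intro h'
    rw [isConj_one_right] at h'
    exact hg (h' ▸ one_mem _)
  rw [if_neg hg1, one_mul] at h
  have h1 := χ.2.one_ne_zero
  by_cases hgm : g⁻¹ ∈ commutator G
  · rw [if_pos hgm] at h
    refine ⟨by simpa using hgm, ?_⟩
    have h2 : conj ((χ : G → ℂ) g) = -(((commutator G).index : ℂ) / (χ : G → ℂ) 1) := by
      field_simp
      linear_combination h
    have h3 := congrArg (starRingEnd ℂ) h2
    rw [Complex.conj_conj] at h3
    rw [h3]
    obtain ⟨n, -, hn⟩ := χ.2.exists_degree
    rw [hn]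
    simp
  · rw [if_neg hgm, zero_add] at h
    exfalso
    rcases mul_eq_zero.mp h with h | h
    · exact h1 h
    · apply hχg
      have := congrArg (starRingEnd ℂ) h
      rwa [Complex.conj_conj, map_zero] at this

theorem zero_off (x : G) (hx : x ∉ commutator G) : (χ : G → ℂ) x = 0 := by
  classical
  obtain ⟨hgm, -⟩ := mem_commutator_and_value hg hχ1 hχg hother
  have h := ortho hχ1 hother x
  have h1 : ¬ (x * g⁻¹ ∈ commutator G) := by
    intro h'
    apply hx
    have := mul_mem h' hgm
    simpa using this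
  have h2 : ¬ IsConj x g := by
    intro h'
    apply hx
    rw [isConj_comm, isConj_iff] at h'
    obtain ⟨c, hc⟩ := h'
    rw [← hc]
    exact (inferInstance : (commutator G).Normal).conj_mem _ hgm c
  rw [if_neg h1, if_neg h2, zero_add] at h
  rcases mul_eq_zero.mp h with h | h
  · exact h
  · exfalso; apply hχg
    have := congrArg (starRingEnd ℂ) h
    rwa [Complex.conj_conj, map_zero] at this

theorem commutator_eq : (commutator G : Set G) =
    {x : G | (χ : G → ℂ) x = (χ : G → ℂ) 1} ∪ {h : G | IsConj g h} := by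
  classical
  obtain ⟨hgm, hval⟩ := mem_commutator_and_value hg hχ1 hχg hother
  have h1 := χ.2.one_ne_zero
  apply Set.Subset.antisymm
  · intro x hx
    by_cases hc : IsConj x g
    · right; exact hc.symm
    left
    have h := ortho hχ1 hother x
    rw [if_pos (mul_mem hx (inv_mem hgm)), if_neg hc] at h
    show (χ : G → ℂ) x = (χ : G → ℂ) 1
    have h2 : conj ((χ : G → ℂ) g) = (χ : G → ℂ) g := by
      rw [hval]
      obtain ⟨n, -, hn⟩ := χ.2.exists_degree
      rw [hn]
      simp
    rw [h2] at h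
    have h3 : (χ : G → ℂ) 1 * (χ : G → ℂ) g = -((commutator G).index : ℂ) := by
      rw [hval]; field_simp
    have h4 : ((χ : G → ℂ) x - (χ : G → ℂ) 1) * (χ : G → ℂ) g = 0 := by
      linear_combination h - h3
    rcases mul_eq_zero.mp h4 with h5 | h5
    · exact sub_eq_zero.mp h5
    · exact absurd h5 hχg
  · rintro x (hx | hx)
    · by_contra hxn
      have := zero_off hg hχ1 hχg hother x hxn
      rw [Set.mem_setOf_eq, this] at hx
      exact h1 hx.symm
    · obtain ⟨c, hc⟩ := isConj_iff.mp hx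
      rw [← hc]
      exact (inferInstance : (commutator G).Normal).conj_mem _ hgm c

theorem unique (ψ : IrrCharacter G) (hψ : charDegree (ψ : G → ℂ) ≠ 1)
    (hker : ∀ x : G, (χ : G → ℂ) x = (χ : G → ℂ) 1 → (ψ : G → ℂ) x = (ψ : G → ℂ) 1) : ψ = χ := by
  classical
  by_contra hne
  have := Fintype.ofFinite G
  have h0 : (ψ : G → ℂ) g = 0 := hother ψ hψ hne
  have h1 : classInner (ψ : G → ℂ) (χ : G → ℂ) = 0 :=
    ψ.2.classInner_eq_zero χ.2 (fun h => hne (Subtype.ext h))
  rw [classInner_def] at h1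
  have h2 : ∀ x : G, (ψ : G → ℂ) x * conj ((χ : G → ℂ) x) =
      if (χ : G → ℂ) x = (χ : G → ℂ) 1 then (ψ : G → ℂ) 1 * (χ : G → ℂ) 1 else 0 := by
    intro x
    have hr : conj ((χ : G → ℂ) 1) = (χ : G → ℂ) 1 := by
      obtain ⟨n, -, hn⟩ := χ.2.exists_degree
      rw [hn]; simp
    by_cases hx : (χ : G → ℂ) x = (χ : G → ℂ) 1
    · rw [if_pos hx, hker x hx, hx, hr]
    · rw [if_neg hx]
      by_cases hxc : x ∈ commutator G
      · have h3 := commutator_eq hg hχ1 hχg hother
        have h4 : x ∈ (commutator G : Set G) := hxc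
        rw [h3] at h4
        rcases h4 with h4 | h4
        · exact absurd h4 hx
        · rw [← ψ.2.isClassFunction.conj_eq h4, h0, zero_mul]
      · rw [zero_off hg hχ1 hχg hother x hxc, map_zero, mul_zero]
  rw [Finset.sum_congr rfl (fun x _ => h2 x), ← Finset.sum_filter, Finset.sum_const] at h1
  have h5 : (0 : ℕ) < (Finset.univ.filter (fun x : G => (χ : G → ℂ) x = (χ : G → ℂ) 1)).card :=
    Finset.card_pos.mpr ⟨1, by simp⟩
  have h6 : ((Finset.univ.filter (fun x : G => (χ : G → ℂ) x = (χ : G → ℂ) 1)).card : ℂ) ≠ 0 := by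
    exact_mod_cast h5.ne'
  have h7 : (Nat.card G : ℂ) ≠ 0 := by exact_mod_cast Nat.card_pos.ne'
  have h8 := χ.2.one_ne_zero
  have h9 := ψ.2.one_ne_zero
  rw [nsmul_eq_mul] at h1
  revert h1
  have h10 : (Fintype.card G : ℂ) ≠ 0 := by
    rw [← Nat.card_eq_fintype_card]; exact h7
  simp [h6, h8, h9, h10]

/-- The group-theoretic configuration. -/
theorem config : ∃ K : Subgroup G, K.Normal ∧ K < commutator G ∧
    (∀ x ∈ commutator G, x ∉ K → ∀ y ∈ commutator G, y ∉ K → IsConj x y) ∧
    (∀ z : G, (∀ y : G, ⁅z, y⁆ ∈ K) → z ∈ commutator G) := by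
  classical
  have hc := χ.2.isCharacter
  obtain ⟨hgm, hval⟩ := mem_commutator_and_value hg hχ1 hχg hother
  have hceq := commutator_eq hg hχ1 hχg hother
  have h1 := χ.2.one_ne_zero
  have hle : kerS hc ≤ commutator G := by
    intro x hx
    have : x ∈ (commutator G : Set G) := by
      rw [hceq]; exact Or.inl hx
    exact this
  have hcl : ∀ x ∈ commutator G, x ∉ kerS hc → IsConj g x := by
    intro x hx hxk
    have : x ∈ (commutator G : Set G) := hx
    rw [hceq] at this
    exact this.resolve_left hxk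
  refine ⟨kerS hc, kerS_normal hc, lt_of_le_of_ne hle ?_, ?_, ?_⟩
  · intro he
    have h2 : (χ : G → ℂ) g = (χ : G → ℂ) 1 := by
      have : g ∈ kerS hc := he ▸ hgm
      exact this
    have h3 : (χ : G → ℂ) 1 * (χ : G → ℂ) g = -((commutator G).index : ℂ) := by
      rw [hval]; field_simp
    rw [h2] at h3
    obtain ⟨n, -, hn⟩ := χ.2.exists_degree
    rw [hn] at h3
    have h4 : ((n * n + (commutator G).index : ℕ) : ℂ) = 0 := by
      push_cast; rw [h3]; ring
    have h5 : n * n + (commutator G).index = 0 := by exact_mod_cast h4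
    have h6 : (commutator G).index ≠ 0 := Subgroup.index_ne_zero_of_finite
    omega
  · intro x hx hxk y hy hyk
    exact (hcl x hx hxk).symm.trans (hcl y hy hyk)
  · intro z hz
    by_contra hzn
    have h2 := zero_off hg hχ1 hχg hother z hzn
    have := kerS_normal hc
    obtain ⟨ψ, hψ, hψv⟩ := χ.2.deflate (kerS hc) (fun n hn => hn)
    have hz' : ((z : G) : G ⧸ kerS hc) ∈ Subgroup.center (G ⧸ kerS hc) := by
      rw [Subgroup.mem_center_iff]
      intro w
      obtain ⟨w, rfl⟩ := QuotientGroup.mk_surjective w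
      have h3 : ((⁅z, w⁆ : G) : G ⧸ kerS hc) = 1 := (QuotientGroup.eq_one_iff _).mpr (hz w)
      have h4 : ⁅((z : G) : G ⧸ kerS hc), ((w : G) : G ⧸ kerS hc)⁆ = 1 := h3
      rw [commutatorElement_eq_one_iff_mul_comm] at h4
      exact h4.symm
    have h5 := H12Van2.ne_zero_of_central (⟨ψ, hψ⟩ : IrrCharacter (G ⧸ kerS hc)) hz'
    apply h5
    show ψ (z : G ⧸ kerS hc) = 0
    rw [hψv, h2]

end

end Cfsg.Agent.Lib.H12Cam1
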