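import Cfsg.Agent.Lib.H12Cam1
import Cfsg.Agent.Lib.H12Cam5
import Cfsg.Agent.Lib.H12Cam7
import Cfsg.Agent.Lib.BG15Core2
import Cfsg.Agent.Lib.FourClass
import Cfsg.Agent.Lib.QDFusion3
import Cfsg.Agent.S0205

set_option autoImplicit false

/-!
# Camina type configurations are solvable (helper12)
-/

namespace Cfsg.Agent.Lib.H12Cam8

open Cfsg Cfsg.Agent.Lib.H12Cam4
open scoped commutatorElement

universe u

theorem solvable_of_npc {K : Type u} [Group K] [Finite K] (h : Cfsg.HasNormalPComplement 2 K) :
    Group.IsSolvable K := by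
  obtain ⟨P, M, hM, hc⟩ := h
  have hodd : Odd (Nat.card M) := by
    have h4 : (P : Subgroup K).index = Nat.card M := hc.index_eq_card
    rw [← h4, Nat.odd_iff]
    have := P.not_dvd_index
    omega
  have hMs : Group.IsSolvable M := Cfsg.Agent.S0205.result hodd
  have hQs : Group.IsSolvable (K ⧸ M) := by
    have h1 : M.index = Nat.card P := hc.symm.index_eq_card
    obtain ⟨n, hn⟩ := IsPGroup.iff_card.mp P.isPGroup'
    have h2 : IsPGroup 2 (K ⧸ M) := by
      apply IsPGroup.of_card (n := n)
      rw [← hn, ← h1]; rfl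
    have h3 : Group.IsNilpotent (K ⧸ M) := h2.isNilpotent
    infer_instance
  exact Group.isSolvable_of_ker_le_range M.subtype (QuotientGroup.mk' M)
    (by rw [QuotientGroup.ker_mk', Subgroup.range_subtype])

theorem solvable_main {G : Type u} [Group G] [Finite G] {K N : Subgroup G} {p m : ℕ}
    (h : Cfg K N p m) : Group.IsSolvable K := by
  have hfp : Fact p.Prime := ⟨h.hp⟩
  have hKn := h.hK
  by_cases hm : m = 1
  · subst hm
    obtain ⟨x, hxN, hxK⟩ : ∃ x ∈ N, x ∉ K := by
      by_contra hcon
      push Not at hcon
      exact H12Cam6.not_le h hcon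
    have hC := h.hcent x hxN hxK
    rw [pow_one] at hC
    have hx1 : x ≠ 1 := by rintro rfl; exact hxK (one_mem _)
    have hxC : x ∈ Subgroup.centralizer ({x} : Set G) := by
      rw [Subgroup.mem_centralizer_singleton_iff]
    have hord : orderOf x = p := by
      have h1 := Subgroup.orderOf_dvd_natCard _ hxC
      rw [hC] at h1
      rcases (Nat.dvd_prime h.hp).mp h1 with h2 | h2
      · exact absurd (orderOf_eq_one_iff.mp h2) hx1
      · exact h2
    have hnil := BG15Core.nilpotent_of_free K x (by rw [hord]; exact h.hp)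
      (by rw [Subgroup.normalizer_eq_top_iff.mpr hKn]; trivial)
      (by
        rw [eq_bot_iff]
        intro g hg
        rw [Subgroup.mem_bot]
        by_contra hg1
        have h1 : Subgroup.zpowers g ≤ Subgroup.centralizer ({x} : Set G) := by
          rw [Subgroup.zpowers_le]; exact hg.2
        have h2 := Subgroup.card_dvd_of_le h1
        rw [hC, Nat.card_zpowers] at h2
        have h3 : Subgroup.zpowers g = Subgroup.centralizer ({x} : Set G) := by
          apply Subgroup.eq_of_le_of_card_ge h1
          rw [hC, Nat.card_zpowers]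
          rcases (Nat.dvd_prime h.hp).mp h2 with h4 | h4
          · exact absurd (orderOf_eq_one_iff.mp h4) hg1
          · exact h4.ge
        rw [← h3] at hxC
        apply hxK
        have h4 : Subgroup.zpowers g ≤ K := by rw [Subgroup.zpowers_le]; exact hg.1
        exact h4 hxC)
    infer_instance
  · have hm2 : 2 ≤ m := by have := h.hm; omega
    by_cases hr : ∃ r, r.Prime ∧ r ≠ p ∧ r ∣ Nat.card K
    · obtain ⟨r, hr, hrp, hrK⟩ := hr
      have : Fact r.Prime := ⟨hr⟩
      have h4 := H12Cam7.main_arith h hm2 hrp hrK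
      exact FourClass.solvable_of_not_four_dvd (fun G _ _ hG => Cfsg.Agent.S0205.result hG) K
        (fun x h5 => h4 (h5.trans (Subgroup.index_dvd_card _)))
    · push Not at hr
      have h1 : Nat.card K = p ^ (Nat.card K).primeFactorsList.length :=
        Nat.eq_prime_pow_of_unique_prime_dvd Nat.card_pos.ne' (fun {d} hd hdK => by
          by_contra hne
          exact hr d hd hne hdK)
      have h2 : IsPGroup p K := IsPGroup.of_card h1
      have h3 : Group.IsNilpotent K := h2.isNilpotent
      infer_instance

theorem solvable {G : Type u} [Group G] [Finite G] (K : Subgroup G) (hK : K.Normal)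
    (hlt : K < commutator G)
    (hcl : ∀ x ∈ commutator G, x ∉ K → ∀ y ∈ commutator G, y ∉ K → IsConj x y)
    (hZ : ∀ z : G, (∀ y : G, ⁅z, y⁆ ∈ K) → z ∈ commutator G) : Group.IsSolvable G := by
  obtain ⟨p, m, h⟩ := config K hK hlt hcl hZ
  have hKs : Group.IsSolvable K := by
    rcases h with h | ⟨h, rfl, rfl, hc⟩
    · exact solvable_main h
    · obtain ⟨S⟩ : Nonempty (Sylow 2 K) := inferInstance
      exact solvable_of_npc (QDFusion.npc_of_cyclic S (H12Cam5.sylow_cyclic h hc hcl hZ S))
  have hb : Base K (commutator G) p m := by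
    rcases h with h | h
    · exact h.toBase
    · exact h.1
  have hQ : Group.IsSolvable (G ⧸ K) := by
    rw [Group.isSolvable_def]
    refine ⟨2, ?_⟩
    rw [← map_derivedSeries_eq (QuotientGroup.mk'_surjective K), Subgroup.map_eq_bot_iff,
      QuotientGroup.ker_mk', derivedSeries_succ, Subgroup.commutator_le]
    intro a ha b hb'
    have e : derivedSeries G 1 = commutator G := derivedSeries_one G
    rw [e] at ha hb'
    exact hb.hNN a ha b hb'
  exact Group.isSolvable_of_ker_le_range K.subtype (QuotientGroup.mk' K)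
    (by rw [QuotientGroup.ker_mk', Subgroup.range_subtype])

end Cfsg.Agent.Lib.H12Cam8
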