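import Mathlib

/-!
# A counting lemma for Marggraff's theorem
-/

set_option autoImplicit false
set_option linter.unusedSectionVars false

namespace Cfsg.Agent.Lib.MarggraffCount

variable {Ω : Type*} [Fintype Ω] [DecidableEq Ω]

theorem card_erase_eq {k : ℕ} {T : Finset Ω} (hT : T.card = k + 1) (Γ : Finset Ω) (i : ℕ) :
    ((Finset.powersetCard k Finset.univ).filter
      (fun K : Finset Ω => (K ∩ Γ).card = i ∧ K ⊆ T)).card =
      (T.filter (fun t => ((T.erase t) ∩ Γ).card = i)).card := by
  symm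
  refine Finset.card_bij (fun t _ => T.erase t) ?_ ?_ ?_
  · intro t ht
    rw [Finset.mem_filter] at ht
    rw [Finset.mem_filter, Finset.mem_powersetCard]
    refine ⟨⟨Finset.subset_univ _, ?_⟩, ht.2, Finset.erase_subset _ _⟩
    rw [Finset.card_erase_of_mem ht.1, hT]; rfl
  · intro a ha b hb hab
    rw [Finset.mem_filter] at ha hb
    by_contra hne
    have h1 : a ∈ T.erase b := Finset.mem_erase.2 ⟨hne, ha.1⟩
    rw [← hab] at h1
    exact (Finset.notMem_erase a T) h1
  · intro K hK
    rw [Finset.mem_filter, Finset.mem_powersetCard] at hK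
    obtain ⟨⟨-, hKc⟩, hKi, hKT⟩ := hK
    have h1 : (T \ K).card = 1 := by
      rw [Finset.card_sdiff_of_subset hKT, hT, hKc]; omega
    obtain ⟨t, ht⟩ := Finset.card_eq_one.1 h1
    have ht' : t ∈ T \ K := by rw [ht]; exact Finset.mem_singleton_self t
    rw [Finset.mem_sdiff] at ht'
    have h2 : T.erase t = K := by
      symm
      apply Finset.eq_of_subset_of_card_le
      · intro z hz
        rw [Finset.mem_erase]
        refine ⟨?_, hKT hz⟩
        rintro rfl
        exact ht'.2 hz
      · rw [Finset.card_erase_of_mem ht'.1, hT, hKc]; rfl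
    exact ⟨t, Finset.mem_filter.2 ⟨ht'.1, by rw [h2]; exact hKi⟩, h2⟩

theorem card_filter_erase {k : ℕ} {T : Finset Ω} (hT : T.card = k + 1) (Γ : Finset Ω) (i : ℕ) :
    (T.filter (fun t => ((T.erase t) ∩ Γ).card = i)).card =
      (if (T ∩ Γ).card = i then k + 1 - i else 0) +
      (if (T ∩ Γ).card = i + 1 then i + 1 else 0) := by
  have hmem : ∀ t ∈ T, ((T.erase t) ∩ Γ).card = if t ∈ Γ then (T ∩ Γ).card - 1 else (T ∩ Γ).card := by
    intro t ht
    rw [Finset.erase_inter]
    split_ifs with h
    · exact Finset.card_erase_of_mem (Finset.mem_inter.2 ⟨ht, h⟩)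
    · rw [Finset.erase_eq_of_notMem]
      intro h'
      exact h (Finset.mem_inter.1 h').2
  have hsplit : T.filter (fun t => ((T.erase t) ∩ Γ).card = i) =
      (if (T ∩ Γ).card = i then T \ Γ else ∅) ∪ (if (T ∩ Γ).card = i + 1 then T ∩ Γ else ∅) := by
    ext t
    rw [Finset.mem_filter, Finset.mem_union]
    constructor
    · rintro ⟨ht, h⟩
      rw [hmem t ht] at h
      by_cases htΓ : t ∈ Γ
      · rw [if_pos htΓ] at h
        right
        have h0 : 0 < (T ∩ Γ).card := Finset.card_pos.2 ⟨t, Finset.mem_inter.2 ⟨ht, htΓ⟩⟩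
        rw [if_pos (by omega)]
        exact Finset.mem_inter.2 ⟨ht, htΓ⟩
      · rw [if_neg htΓ] at h
        left
        rw [if_pos h]
        exact Finset.mem_sdiff.2 ⟨ht, htΓ⟩
    · rintro (h | h)
      · split_ifs at h with hi
        · rw [Finset.mem_sdiff] at h
          refine ⟨h.1, ?_⟩
          rw [hmem t h.1, if_neg h.2]; exact hi
        · exact absurd h (Finset.notMem_empty t)
      · split_ifs at h with hi
        · rw [Finset.mem_inter] at h
          refine ⟨h.1, ?_⟩
          rw [hmem t h.1, if_pos h.2, hi]; rfl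
        · exact absurd h (Finset.notMem_empty t)
  rw [hsplit]
  have h1 : (T \ Γ).card + (T ∩ Γ).card = k + 1 := by rw [Finset.card_sdiff_add_card_inter, hT]
  by_cases hi : (T ∩ Γ).card = i
  · rw [if_pos hi, if_pos hi, if_neg (by omega), if_neg (by omega), Finset.union_empty]
    omega
  · rw [if_neg hi, if_neg hi, Finset.empty_union]
    split_ifs with h2
    · omega
    · simp

/-- double counting -/
theorem dc {k d : ℕ} (𝒯 : Finset (Finset Ω)) (hT : ∀ T ∈ 𝒯, T.card = k + 1)
    (hd : ∀ K : Finset Ω, K.card = k → (𝒯.filter (fun T => K ⊆ T)).card = d) (Γ : Finset Ω)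
    (i : ℕ) :
    d * ((Finset.powersetCard k Finset.univ).filter
      (fun K : Finset Ω => (K ∩ Γ).card = i)).card =
    (k + 1 - i) * (𝒯.filter (fun T => (T ∩ Γ).card = i)).card +
      (i + 1) * (𝒯.filter (fun T => (T ∩ Γ).card = i + 1)).card := by
  have h := Finset.sum_card_bipartiteAbove_eq_sum_card_bipartiteBelow
    (s := (Finset.powersetCard k Finset.univ).filter (fun K : Finset Ω => (K ∩ Γ).card = i))
    (t := 𝒯) (fun K T => K ⊆ T)
  have h1 : ∑ K ∈ (Finset.powersetCard k Finset.univ).filter (fun K : Finset Ω => (K ∩ Γ).card = i),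
      (Finset.bipartiteAbove (fun K T => K ⊆ T) 𝒯 K).card =
      d * ((Finset.powersetCard k Finset.univ).filter
        (fun K : Finset Ω => (K ∩ Γ).card = i)).card := by
    rw [Finset.sum_congr rfl (g := fun _ => d), Finset.sum_const, smul_eq_mul, mul_comm]
    intro K hK
    rw [Finset.mem_filter, Finset.mem_powersetCard] at hK
    exact hd K hK.1.2
  have h2 : ∀ T ∈ 𝒯, (Finset.bipartiteBelow (fun K T => K ⊆ T)
      ((Finset.powersetCard k Finset.univ).filter (fun K : Finset Ω => (K ∩ Γ).card = i)) T).card =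
      (if (T ∩ Γ).card = i then k + 1 - i else 0) +
      (if (T ∩ Γ).card = i + 1 then i + 1 else 0) := by
    intro T hTT
    rw [← card_filter_erase (hT T hTT), ← card_erase_eq (hT T hTT)]
    unfold Finset.bipartiteBelow
    rw [Finset.filter_filter]
  rw [h1, Finset.sum_congr rfl h2, Finset.sum_add_distrib, ← Finset.sum_filter, ← Finset.sum_filter,
    Finset.sum_const, Finset.sum_const, smul_eq_mul, smul_eq_mul] at h
  rw [h]
  ring

theorem card_inter_eq (Γ : Finset Ω) (i j : ℕ) :
    ((Finset.powersetCard (i + j) Finset.univ).filter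
      (fun T : Finset Ω => (T ∩ Γ).card = i)).card = Γ.card.choose i * (Γᶜ.card).choose j := by
  rw [← Finset.card_powersetCard, ← Finset.card_powersetCard, ← Finset.card_product]
  refine Finset.card_bij (fun T _ => (T ∩ Γ, T \ Γ)) ?_ ?_ ?_
  · intro T hT
    rw [Finset.mem_filter, Finset.mem_powersetCard] at hT
    rw [Finset.mem_product, Finset.mem_powersetCard, Finset.mem_powersetCard]
    refine ⟨⟨Finset.inter_subset_right, hT.2⟩, ?_, ?_⟩
    · intro z hz
      rw [Finset.mem_sdiff] at hz
      rw [Finset.mem_compl]; exact hz.2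
    · have := Finset.card_sdiff_add_card_inter T Γ
      simp only
      omega
  · intro A _ B _ hAB
    simp only [Prod.mk.injEq] at hAB
    rw [← Finset.sdiff_union_inter A Γ, ← Finset.sdiff_union_inter B Γ, hAB.1, hAB.2]
  · rintro ⟨A, B⟩ hAB
    rw [Finset.mem_product, Finset.mem_powersetCard, Finset.mem_powersetCard] at hAB
    obtain ⟨⟨hA1, hA2⟩, hB1, hB2⟩ := hAB
    simp only at hA1 hA2 hB1 hB2
    have hBΓ : ∀ z ∈ B, z ∉ Γ := fun z hz => by
      have := hB1 hz
      rwa [Finset.mem_compl] at this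
    have e1 : (A ∪ B) ∩ Γ = A := by
      ext z
      rw [Finset.mem_inter, Finset.mem_union]
      constructor
      · rintro ⟨h | h, h'⟩
        · exact h
        · exact absurd h' (hBΓ z h)
      · intro h; exact ⟨Or.inl h, hA1 h⟩
    have e2 : (A ∪ B) \ Γ = B := by
      ext z
      rw [Finset.mem_sdiff, Finset.mem_union]
      constructor
      · rintro ⟨h | h, h'⟩
        · exact absurd (hA1 h) h'
        · exact h
      · intro h; exact ⟨Or.inr h, hBΓ z h⟩
    refine ⟨A ∪ B, ?_, by rw [e1, e2]⟩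
    rw [Finset.mem_filter, Finset.mem_powersetCard, e1]
    refine ⟨⟨Finset.subset_univ _, ?_⟩, hA2⟩
    rw [Finset.card_union_of_disjoint, hA2, hB2]
    rw [Finset.disjoint_left]
    intro z hz hz'
    exact hBΓ z hz' (hA1 hz)

theorem choose_lt {a b k : ℕ} (hab : a < b) (hk : 1 ≤ k) (hkb : k ≤ b) :
    a.choose k < b.choose k := by
  rcases Nat.lt_or_ge a k with h | h
  · rw [Nat.choose_eq_zero_of_lt h]; exact Nat.choose_pos hkb
  · obtain ⟨j, rfl⟩ : ∃ j, k = j + 1 := ⟨k - 1, by omega⟩
    have h1 : a.choose (j + 1) < (a + 1).choose (j + 1) := by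
      rw [Nat.choose_succ_succ']
      have : 0 < a.choose j := Nat.choose_pos (by omega)
      omega
    exact h1.trans_le (Nat.choose_le_choose _ hab)

/-- The counting contradiction. -/
theorem design_contra (Γ : Finset Ω) {k e : ℕ} (hk : 2 ≤ k) (he : 0 < e) (𝒮 : Finset (Finset Ω))
    (hcard : ∀ T ∈ 𝒮, T.card = k + 1)
    (hdes : ∀ K : Finset Ω, K.card = k → (𝒮.filter (fun T => K ⊆ T)).card = e)
    (h1 : ∀ T ∈ 𝒮, (T ∩ Γ).card ≠ 1) (hm : 0 < Γ.card) (hM : Γ.card < (Γᶜ).card)
    (hkM : k ≤ (Γᶜ).card) : False := by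
  set n := Fintype.card Ω with hn
  have hsum : Γ.card + (Γᶜ).card = n := Finset.card_add_card_compl Γ
  set m := Γ.card with hmdef
  set M := (Γᶜ).card with hMdef
  set τ : ℕ → ℕ := fun i => (𝒮.filter (fun T => (T ∩ Γ).card = i)).card with hτ
  set P : ℕ → ℕ := fun i => ((Finset.powersetCard (k + 1) Finset.univ).filter
      (fun T : Finset Ω => (T ∩ Γ).card = i)).card with hP
  set N : ℕ → ℕ := fun i => ((Finset.powersetCard k Finset.univ).filter
      (fun K : Finset Ω => (K ∩ Γ).card = i)).card with hN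
  have hτ1 : τ 1 = 0 := by
    simp only [hτ]
    rw [Finset.card_eq_zero, Finset.filter_eq_empty_iff]
    exact fun T hT => h1 T hT
  have r1 : ∀ i, e * N i = (k + 1 - i) * τ i + (i + 1) * τ (i + 1) := fun i =>
    dc 𝒮 hcard hdes Γ i
  have hall : ∀ K : Finset Ω, K.card = k →
      ((Finset.powersetCard (k + 1) (Finset.univ : Finset Ω)).filter (fun T => K ⊆ T)).card = n - k := by
    intro K hK
    have : (Kᶜ).card = n - k := by rw [Finset.card_compl, hK]
    rw [← this]
    symm
    refine Finset.card_bij (fun t _ => insert t K) ?_ ?_ ?_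
    · intro t ht
      rw [Finset.mem_compl] at ht
      rw [Finset.mem_filter, Finset.mem_powersetCard]
      exact ⟨⟨Finset.subset_univ _, by rw [Finset.card_insert_of_notMem ht, hK]⟩,
        Finset.subset_insert _ _⟩
    · intro a ha b hb hab
      rw [Finset.mem_compl] at ha hb
      have h2 : a ∈ insert b K := by rw [← hab]; exact Finset.mem_insert_self a K
      rw [Finset.mem_insert] at h2
      exact h2.resolve_right ha
    · intro T hT
      rw [Finset.mem_filter, Finset.mem_powersetCard] at hT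
      obtain ⟨⟨-, hTc⟩, hKT⟩ := hT
      have h2 : (T \ K).card = 1 := by
        rw [Finset.card_sdiff_of_subset hKT, hTc, hK]; omega
      obtain ⟨t, ht⟩ := Finset.card_eq_one.1 h2
      have ht' : t ∈ T \ K := by rw [ht]; exact Finset.mem_singleton_self t
      rw [Finset.mem_sdiff] at ht'
      refine ⟨t, Finset.mem_compl.2 ht'.2, ?_⟩
      apply Finset.eq_of_subset_of_card_le
      · intro z hz
        rw [Finset.mem_insert] at hz
        rcases hz with rfl | hz
        · exact ht'.1
        · exact hKT hz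
      · rw [Finset.card_insert_of_notMem ht'.2, hTc, hK]
  have r2 : ∀ i, (n - k) * N i = (k + 1 - i) * P i + (i + 1) * P (i + 1) := fun i =>
    dc (Finset.powersetCard (k + 1) Finset.univ) (fun T hT => (Finset.mem_powersetCard.1 hT).2)
      hall Γ i
  -- the difference
  set D : ℕ → ℤ := fun i => ((n - k : ℕ) : ℤ) * τ i - e * P i with hD
  have r3 : ∀ i, i ≤ k → ((k + 1 - i : ℕ) : ℤ) * D i + (i + 1) * D (i + 1) = 0 := by
    intro i _
    have a1 : (e : ℤ) * N i = ((k + 1 - i : ℕ) : ℤ) * τ i + (i + 1) * τ (i + 1) := by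
      exact_mod_cast r1 i
    have a2 : ((n - k : ℕ) : ℤ) * N i = ((k + 1 - i : ℕ) : ℤ) * P i + (i + 1) * P (i + 1) := by
      exact_mod_cast r2 i
    simp only [hD]
    linear_combination (e : ℤ) * a2 - ((n - k : ℕ) : ℤ) * a1
  have r4 : ∀ j, j ≤ k → ((k + 1 : ℕ) : ℤ) * D (1 + j) =
      (-1) ^ j * ((k + 1).choose (1 + j) : ℤ) * D 1 := by
    intro j
    induction j with
    | zero => intro _; simp
    | succ j ih =>
      intro hj
      have ih' := ih (by omega)
      have h3 := r3 (1 + j) (by omega)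
      have h4 := Nat.choose_succ_right_eq (k + 1) (1 + j)
      have h5 : (((k + 1).choose (1 + j + 1) : ℕ) : ℤ) * ((1 + j : ℕ) + 1) =
          ((k + 1).choose (1 + j) : ℤ) * ((k + 1 - (1 + j) : ℕ) : ℤ) := by exact_mod_cast h4
      have h6 : (((1 + j : ℕ) : ℤ) + 1) ≠ 0 := by positivity
      apply mul_left_cancel₀ h6
      have e1 : 1 + (j + 1) = 1 + j + 1 := by ring
      rw [e1, pow_succ]
      linear_combination ((k + 1 : ℕ) : ℤ) * h3 - ((k + 1 - (1 + j) : ℕ) : ℤ) * ih' +
        (-1) ^ j * D 1 * h5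
  have hD1 : D 1 = -(e * P 1) := by simp only [hD]; rw [hτ1]; simp
  have hP1 : P 1 = m * M.choose k := by
    have := card_inter_eq Γ 1 k
    rw [Nat.choose_one_right, add_comm 1 k] at this
    exact this
  -- positivity for odd `i`
  have r5 : ∀ j, j ≤ k → Even j → (k + 1).choose (1 + j) * P 1 ≤ (k + 1) * P (1 + j) := by
    intro j hj hev
    have h3 := r4 j hj
    rw [hev.neg_one_pow, one_mul, hD1] at h3
    have h4 : -((e : ℤ) * P (1 + j)) ≤ D (1 + j) := by
      simp only [hD]
      have : 0 ≤ ((n - k : ℕ) : ℤ) * τ (1 + j) := by positivity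
      linarith
    have h5 : (e : ℤ) * ((k + 1).choose (1 + j) * P 1) ≤ e * (((k + 1 : ℕ) : ℤ) * P (1 + j)) := by
      have h6 : ((k + 1 : ℕ) : ℤ) * -((e : ℤ) * P (1 + j)) ≤ ((k + 1 : ℕ) : ℤ) * D (1 + j) :=
        mul_le_mul_of_nonneg_left h4 (by positivity)
      rw [h3] at h6
      linarith
    have he' : (0 : ℤ) < e := by exact_mod_cast he
    have h7 := le_of_mul_le_mul_left h5 he'
    exact_mod_cast h7
  obtain ⟨m', hm'⟩ : ∃ m', m = m' + 1 := ⟨m - 1, by omega⟩
  rcases Nat.even_or_odd k with hev | hodd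
  · have h3 := r5 k le_rfl hev
    have hPk : P (1 + k) = m.choose (k + 1) := by
      have := card_inter_eq Γ (k + 1) 0
      rw [Nat.choose_zero_right, mul_one, add_zero] at this
      rw [add_comm 1 k]
      exact this
    rw [add_comm 1 k] at h3 hPk
    rw [Nat.choose_self, one_mul, hPk, hP1, hm'] at h3
    have h4 := Nat.add_one_mul_choose_eq m' k
    rw [mul_comm (k + 1), ← h4] at h3
    have h5 := Nat.le_of_mul_le_mul_left h3 (by omega)
    have h6 : m'.choose k < M.choose k := choose_lt (by omega) (by omega) hkM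
    omega
  · have hk3 : 3 ≤ k := by
      obtain ⟨a, ha⟩ := hodd
      omega
    obtain ⟨k', hk'⟩ : ∃ k', k = k' + 1 := ⟨k - 1, by omega⟩
    have hev' : Even k' := by
      rw [hk'] at hodd
      exact (Nat.odd_add_one.1 hodd |> Nat.not_odd_iff_even.1)
    have h3 := r5 k' (by omega) hev'
    have hPk : P (1 + k') = m.choose k * M := by
      have := card_inter_eq Γ k 1
      rw [Nat.choose_one_right] at this
      rw [add_comm 1 k', ← hk']
      exact this
    rw [hPk, hP1, add_comm 1 k', ← hk'] at h3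
    have e1 : (k + 1).choose k = k + 1 := Nat.choose_succ_self_right k
    rw [e1] at h3
    have h4 : m * M.choose k ≤ m.choose k * M := Nat.le_of_mul_le_mul_left h3 (by omega)
    obtain ⟨M', hM'⟩ : ∃ M', M = M' + 1 := ⟨M - 1, by omega⟩
    have h5 := Nat.add_one_mul_choose_eq m' k'
    have h6 := Nat.add_one_mul_choose_eq M' k'
    rw [hm', hM', hk'] at h4
    have h7 : (m' + 1) * ((M' + 1) * M'.choose k') ≤ (m' + 1) * ((M' + 1) * m'.choose k') := by
      calc (m' + 1) * ((M' + 1) * M'.choose k') = ((m' + 1) * (M' + 1).choose (k' + 1)) * (k' + 1) := by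
            rw [h6]; ring
        _ ≤ ((m' + 1).choose (k' + 1) * (M' + 1)) * (k' + 1) := Nat.mul_le_mul_right _ h4
        _ = (M' + 1) * ((m' + 1).choose (k' + 1) * (k' + 1)) := by ring
        _ = _ := by rw [← h5]; ring
    have h8 := Nat.le_of_mul_le_mul_left (Nat.le_of_mul_le_mul_left h7 (by omega)) (by omega)
    have h9 : m'.choose k' < M'.choose k' := choose_lt (by omega) (by omega) (by omega)
    omega

end Cfsg.Agent.Lib.MarggraffCount
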