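import Mathlib
import Cfsg.Agent.Lib.MarggraffCount

/-!
# Marggraff's theorem: primitive groups with a small Jordan set
-/

set_option autoImplicit false
set_option linter.unusedSectionVars false

namespace Cfsg.Agent.Lib.Marggraff

open scoped Pointwise
open MulAction

section Basic

variable {G Ω : Type*} [Group G] [MulAction G Ω] [DecidableEq Ω]

theorem disj_smul (g : G) {A B : Finset Ω} : Disjoint (g • A) (g • B) ↔ Disjoint A B := by
  simp only [Finset.disjoint_left]
  constructor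
  · intro h a ha hb
    exact h (Finset.smul_mem_smul_finset ha) (Finset.smul_mem_smul_finset hb)
  · intro h a ha hb
    exact h (Finset.inv_smul_mem_iff.2 ha) (Finset.inv_smul_mem_iff.2 hb)

/-- `X` is a Jordan set: the pointwise stabilizer of the complement is transitive on `X`. -/
def Jor (G : Type*) {Ω : Type*} [Group G] [MulAction G Ω] (X : Finset Ω) : Prop :=
  ∀ x ∈ X, ∀ y ∈ X, ∃ j : G, (∀ z, z ∉ X → j • z = z) ∧ j • x = y

theorem Jor.smul {X : Finset Ω} (h : Jor G X) (g : G) : Jor G (g • X) := by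
  intro x hx y hy
  have hx' := Finset.inv_smul_mem_iff.2 hx
  have hy' := Finset.inv_smul_mem_iff.2 hy
  obtain ⟨j, hj1, hj2⟩ := h _ hx' _ hy'
  refine ⟨g * j * g⁻¹, ?_, ?_⟩
  · intro z hz
    have hz' : g⁻¹ • z ∉ X := fun h => hz (Finset.inv_smul_mem_iff.1 h)
    rw [mul_smul, mul_smul, hj1 _ hz', smul_inv_smul]
  · rw [mul_smul, mul_smul, hj2, smul_inv_smul]

/-- elementwise form of `k`-transitivity -/
def Tr (G Ω : Type*) [Group G] [MulAction G Ω] (k : ℕ) : Prop :=
  ∀ s : Finset Ω, s.card < k → ∀ x, x ∉ s → ∀ y, y ∉ s →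
    ∃ g : G, (∀ a ∈ s, g • a = a) ∧ g • x = y

theorem Tr.exists_smul {k : ℕ} (h : Tr G Ω k) : ∀ j ≤ k, ∀ s t : Finset Ω, s.card = j →
    t.card = j → ∃ g : G, g • s = t := by
  intro j
  induction j with
  | zero =>
    intro _ s t hs ht
    rw [Finset.card_eq_zero] at hs ht
    exact ⟨1, by rw [hs, ht]; simp⟩
  | succ j ih =>
    intro hj s t hs ht
    obtain ⟨a, s', ha, rfl, hs'⟩ := Finset.card_eq_succ.1 hs
    obtain ⟨b, t', hb, rfl, ht'⟩ := Finset.card_eq_succ.1 ht
    obtain ⟨g, hg⟩ := ih (by omega) s' t' hs' ht'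
    have hga : g • a ∉ t' := by
      rw [← hg, Finset.smul_mem_smul_finset_iff]; exact ha
    obtain ⟨h', hh1, hh2⟩ := h t' (by omega) (g • a) hga b hb
    refine ⟨h' * g, ?_⟩
    rw [Finset.smul_finset_insert, mul_smul, hh2, mul_smul, hg]
    congr 1
    ext z
    rw [← Finset.inv_smul_mem_iff]
    constructor
    · intro hz
      have := hh1 _ hz
      rw [smul_inv_smul] at this
      rw [this]; exact hz
    · intro hz
      have := hh1 _ hz
      rw [inv_smul_eq_iff.2 this.symm]; exact hz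

/-- the group generated by the Jordan groups of the translates of `Γ` avoiding `S` -/
def LL (G : Type*) {Ω : Type*} [Group G] [MulAction G Ω] [DecidableEq Ω] (Γ S : Finset Ω) :
    Subgroup G :=
  Subgroup.closure {j : G | ∃ g : G, Disjoint (g • Γ) S ∧ ∀ z, z ∉ g • Γ → j • z = z}

theorem LL_fix {Γ S : Finset Ω} {l : G} (hl : l ∈ LL G Γ S) : ∀ a ∈ S, l • a = a := by
  intro a ha
  induction hl using Subgroup.closure_induction with
  | mem x hx =>
    obtain ⟨g, hg, hx⟩ := hx
    exact hx a (fun h => (Finset.disjoint_left.1 hg h) ha)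
  | one => exact one_smul _ _
  | mul x y _ _ hx hy => rw [mul_smul, hy, hx]
  | inv x _ hx => rw [inv_smul_eq_iff, hx]

theorem LL_conj {Γ S : Finset Ω} {l h : G} (hl : l ∈ LL G Γ S) (hh : ∀ a ∈ S, h • a = a) :
    h * l * h⁻¹ ∈ LL G Γ S := by
  have hSh : h • S = S := by
    ext z
    rw [← Finset.inv_smul_mem_iff]
    constructor
    · intro hz
      have := hh _ hz
      rw [smul_inv_smul] at this
      rw [this]; exact hz
    · intro hz
      have := hh _ hz
      rw [inv_smul_eq_iff.2 this.symm]; exact hz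
  induction hl using Subgroup.closure_induction with
  | mem x hx =>
    obtain ⟨g, hg, hx⟩ := hx
    apply Subgroup.subset_closure
    refine ⟨h * g, ?_, ?_⟩
    · rw [mul_smul]
      have := (disj_smul h).2 hg
      rwa [hSh] at this
    · intro z hz
      have hz' : h⁻¹ • z ∉ g • Γ := by
        intro h'
        apply hz
        rw [mul_smul]
        exact Finset.inv_smul_mem_iff.1 h'
      rw [mul_smul, mul_smul, hx _ hz', smul_inv_smul]
  | one => rw [mul_one, mul_inv_cancel]; exact Subgroup.one_mem _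
  | mul x y _ _ hx hy =>
    have : h * (x * y) * h⁻¹ = (h * x * h⁻¹) * (h * y * h⁻¹) := by group
    rw [this]; exact Subgroup.mul_mem _ hx hy
  | inv x _ hx =>
    have : h * x⁻¹ * h⁻¹ = (h * x * h⁻¹)⁻¹ := by group
    rw [this]; exact Subgroup.inv_mem _ hx

variable [Fintype Ω]

theorem exists_translate {Γ : Finset Ω} {k : ℕ} (hk : Tr G Ω k) (hk1 : 1 ≤ k)
    (hkM : k + Γ.card < Fintype.card Ω) (hΓ : Γ.Nonempty) {S : Finset Ω} (hS : S.card + 1 = k)
    {x : Ω} (hx : x ∉ S) : ∃ g : G, Disjoint (g • Γ) S ∧ x ∈ g • Γ := by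
  have hcard : k - 1 ≤ (Γᶜ).card := by
    rw [Finset.card_compl]; omega
  obtain ⟨S', hS'1, hS'2⟩ := Finset.exists_subset_card_eq hcard
  obtain ⟨g, hg⟩ := hk.exists_smul (k - 1) (by omega) S' S hS'2 (by omega)
  have hdisj : Disjoint (g • Γ) S := by
    rw [← hg, disj_smul]
    rw [Finset.disjoint_right]
    intro a ha
    have := hS'1 ha
    rwa [Finset.mem_compl] at this
  obtain ⟨γ, hγ⟩ := hΓ
  have hγ' : g • γ ∈ g • Γ := Finset.smul_mem_smul_finset hγ
  obtain ⟨h, hh1, hh2⟩ := hk S (by omega) (g • γ) (Finset.disjoint_left.1 hdisj hγ') x hx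
  have hSh : h • S = S := by
    ext z
    rw [← Finset.inv_smul_mem_iff]
    constructor
    · intro hz
      have := hh1 _ hz
      rw [smul_inv_smul] at this
      rw [this]; exact hz
    · intro hz
      have := hh1 _ hz
      rw [inv_smul_eq_iff.2 this.symm]; exact hz
  refine ⟨h * g, ?_, ?_⟩
  · rw [mul_smul]
    have := (disj_smul h).2 hdisj
    rwa [hSh] at this
  · rw [mul_smul, ← hh2]
    exact Finset.smul_mem_smul_finset hγ'

/-- `LL` is transitive on the complement of `S`. -/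
theorem connect (hprim : IsPreprimitive G Ω) {Γ : Finset Ω} (hJ : Jor G Γ) (hm : 1 < Γ.card)
    {k : ℕ} (hk : Tr G Ω k) (hk1 : 1 ≤ k) (hkM : k + Γ.card < Fintype.card Ω) {S : Finset Ω}
    (hS : S.card + 1 = k) : ∀ x, x ∉ S → ∀ y, y ∉ S → ∃ l ∈ LL G Γ S, l • x = y := by
  classical
  intro x hx
  set U : Finset Ω := Finset.univ.filter (fun y => ∃ l ∈ LL G Γ S, l • x = y) with hU
  have hmemU : ∀ y, y ∈ U ↔ ∃ l ∈ LL G Γ S, l • x = y := fun y => by simp [hU]
  have hxU : x ∈ U := (hmemU x).2 ⟨1, Subgroup.one_mem _, one_smul _ _⟩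
  have hΓne : Γ.Nonempty := Finset.card_pos.1 (by omega)
  have hUS : Disjoint U S := by
    rw [Finset.disjoint_left]
    intro y hy hyS
    obtain ⟨l, hl, hly⟩ := (hmemU y).1 hy
    have h1 := LL_fix hl y hyS
    rw [← hly, smul_left_cancel_iff, hly] at h1
    exact hx (h1 ▸ hyS)
  -- a translate avoiding `S` and meeting `U` is contained in `U`
  have hXU : ∀ g : G, Disjoint (g • Γ) S → ∀ u ∈ U, u ∈ g • Γ → g • Γ ⊆ U := by
    intro g hg u hu hug v hv
    obtain ⟨j, hj1, hj2⟩ := hJ.smul g u hug v hv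
    obtain ⟨l, hl, hlu⟩ := (hmemU u).1 hu
    refine (hmemU v).2 ⟨j * l, Subgroup.mul_mem _ (Subgroup.subset_closure ⟨g, hg, hj1⟩) hl, ?_⟩
    rw [mul_smul, hlu, hj2]
  have hLU : ∀ l ∈ LL G Γ S, ∀ u ∈ U, l • u ∈ U := by
    intro l hl u hu
    obtain ⟨l', hl', hlu⟩ := (hmemU u).1 hu
    exact (hmemU _).2 ⟨l * l', Subgroup.mul_mem _ hl hl', by rw [mul_smul, hlu]⟩
  -- local generation
  have hlocal : ∀ g : G, Disjoint (g • U) S → ∀ l ∈ LL G Γ S, ∀ u ∈ U,
      ∃ l' ∈ LL G Γ S, l' • (g • u) = g • (l • u) := by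
    intro g hg l hl
    induction hl using Subgroup.closure_induction with
    | mem j hj =>
      intro u hu
      obtain ⟨a, ha, hj⟩ := hj
      by_cases hua : u ∈ a • Γ
      · have hsub := hXU a ha u hu hua
        refine ⟨g * j * g⁻¹, ?_, by rw [mul_smul, mul_smul, inv_smul_smul]⟩
        apply Subgroup.subset_closure
        refine ⟨g * a, ?_, ?_⟩
        · rw [mul_smul]
          exact Disjoint.mono_left (Finset.smul_finset_subset_smul_finset hsub) hg
        · intro z hz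
          have hz' : g⁻¹ • z ∉ a • Γ := by
            intro h'
            apply hz
            rw [mul_smul]
            exact Finset.inv_smul_mem_iff.1 h'
          rw [mul_smul, mul_smul, hj _ hz', smul_inv_smul]
      · exact ⟨1, Subgroup.one_mem _, by rw [hj u hua, one_smul]⟩
    | one => intro u _; exact ⟨1, Subgroup.one_mem _, by rw [one_smul, one_smul]⟩
    | mul a b ha hb iha ihb =>
      intro u hu
      obtain ⟨b', hb', hb2⟩ := ihb u hu
      obtain ⟨a', ha', ha2⟩ := iha (b • u) (hLU b hb u hu)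
      refine ⟨a' * b', Subgroup.mul_mem _ ha' hb', ?_⟩
      rw [mul_smul, hb2, ha2, mul_smul]
    | inv a ha iha =>
      intro u hu
      have hau : a⁻¹ • u ∈ U := hLU _ (Subgroup.inv_mem _ ha) u hu
      obtain ⟨a', ha', ha2⟩ := iha _ hau
      refine ⟨a'⁻¹, Subgroup.inv_mem _ ha', ?_⟩
      rw [smul_inv_smul] at ha2
      rw [← ha2, inv_smul_smul]
  -- translates of `U` avoiding `S` are orbits
  have horb : ∀ g : G, Disjoint (g • U) S → ∀ v w, v ∈ g • U → w ∈ g • U →
      ∃ l ∈ LL G Γ S, l • v = w := by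
    have key : ∀ g : G, Disjoint (g • U) S → ∀ v, v ∈ g • U → ∃ l ∈ LL G Γ S, l • (g • x) = v := by
      intro g hg v hv
      have hv' := Finset.inv_smul_mem_iff.2 hv
      obtain ⟨l, hl, hlv⟩ := (hmemU _).1 hv'
      obtain ⟨l', hl', h2⟩ := hlocal g hg l hl x hxU
      refine ⟨l', hl', ?_⟩
      rw [h2, hlv, smul_inv_smul]
    intro g hg v w hv hw
    obtain ⟨a, ha, ha2⟩ := key g hg v hv
    obtain ⟨b, hb, hb2⟩ := key g hg w hw
    refine ⟨b * a⁻¹, Subgroup.mul_mem _ hb (Subgroup.inv_mem _ ha), ?_⟩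
    rw [mul_smul, ← ha2, inv_smul_smul, hb2]
  intro y hy
  by_contra hcon
  have hyU : y ∉ U := by
    rw [hmemU]
    rintro ⟨l, hl, hl2⟩
    exact hcon ⟨l, hl, hl2⟩
  have hfixS : ∀ h : G, (∀ a ∈ S, h • a = a) → h • S = S := by
    intro h hh
    ext z
    rw [← Finset.inv_smul_mem_iff]
    constructor
    · intro hz
      have := hh _ hz
      rw [smul_inv_smul] at this
      rw [this]; exact hz
    · intro hz
      have := hh _ hz
      rw [inv_smul_eq_iff.2 this.symm]; exact hz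
  have hdisjh : ∀ h : G, (∀ a ∈ S, h • a = a) → Disjoint (h • U) S := by
    intro h hh
    have := (disj_smul h).2 hUS
    rwa [hfixS h hh] at this
  -- invariance of `h • U`
  have hLhU : ∀ h : G, (∀ a ∈ S, h • a = a) → ∀ l ∈ LL G Γ S, ∀ v ∈ h • U, l • v ∈ h • U := by
    intro h hh l hl v hv
    rw [← Finset.inv_smul_mem_iff] at hv ⊢
    have hh' : ∀ a ∈ S, h⁻¹ • a = a := fun a ha => by
      rw [inv_smul_eq_iff, hh a ha]
    have h1 := LL_conj hl hh'
    rw [inv_inv] at h1
    have h2 := hLU _ h1 _ hv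
    rw [mul_smul, mul_smul, smul_inv_smul] at h2
    exact h2
  -- size
  have hsize : 2 * U.card + S.card ≤ Fintype.card Ω := by
    obtain ⟨h, hh1, hh2⟩ := hk S (by omega) x hx y hy
    have hd : Disjoint (h • U) U := by
      rw [Finset.disjoint_left]
      intro z hz1 hz2
      have hyh : y ∈ h • U := by rw [← hh2]; exact Finset.smul_mem_smul_finset hxU
      obtain ⟨l, hl, hlz⟩ := horb h (hdisjh h hh1) z y hz1 hyh
      exact hyU (hlz ▸ hLU l hl z hz2)
    have h1 : ((h • U) ∪ U ∪ S).card = (h • U).card + U.card + S.card := by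
      rw [Finset.card_union_of_disjoint, Finset.card_union_of_disjoint hd]
      rw [Finset.disjoint_union_left]
      exact ⟨hdisjh h hh1, hUS⟩
    rw [Finset.card_smul_finset] at h1
    have h2 := Finset.card_le_univ ((h • U) ∪ U ∪ S)
    omega
  -- `U` is a block
  have hblock : ∀ g : G, ((g • U) ∩ U).Nonempty → g • U = U := by
    rintro g ⟨w, hw⟩
    rw [Finset.mem_inter] at hw
    have h1 : (g • U ∪ U).card + 1 ≤ 2 * U.card := by
      have h2 := Finset.card_union_add_card_inter (g • U) U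
      have h3 : 0 < ((g • U) ∩ U).card := Finset.card_pos.2 ⟨w, Finset.mem_inter.2 hw⟩
      rw [Finset.card_smul_finset] at h2
      omega
    have h2 : k - 1 ≤ ((g • U ∪ U)ᶜ).card := by
      rw [Finset.card_compl]; omega
    obtain ⟨S', hS'1, hS'2⟩ := Finset.exists_subset_card_eq h2
    obtain ⟨h, hh⟩ := hk.exists_smul (k - 1) (by omega) S' S hS'2 (by omega)
    have hd1 : Disjoint (h • U) S := by
      rw [← hh, disj_smul, Finset.disjoint_right]
      intro a ha hau
      have := hS'1 ha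
      rw [Finset.mem_compl, Finset.mem_union] at this
      exact this (Or.inr hau)
    have hd2 : Disjoint ((h * g) • U) S := by
      rw [← hh, mul_smul, disj_smul, Finset.disjoint_right]
      intro a ha hau
      have := hS'1 ha
      rw [Finset.mem_compl, Finset.mem_union] at this
      exact this (Or.inl hau)
    have hw1 : h • w ∈ h • U := Finset.smul_mem_smul_finset hw.2
    have hw2 : h • w ∈ (h * g) • U := by
      rw [mul_smul]; exact Finset.smul_mem_smul_finset hw.1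
    have hwS : h • w ∉ S := Finset.disjoint_left.1 hd1 hw1
    obtain ⟨h', hh'1, hh'2⟩ := hk S (by omega) x hx (h • w) hwS
    have hw3 : h • w ∈ h' • U := by rw [← hh'2]; exact Finset.smul_mem_smul_finset hxU
    have e1 : h • U = h' • U := by
      apply Finset.eq_of_subset_of_card_le
      · intro v hv
        obtain ⟨l, hl, hlv⟩ := horb h hd1 (h • w) v hw1 hv
        rw [← hlv]; exact hLhU h' hh'1 l hl _ hw3
      · rw [Finset.card_smul_finset, Finset.card_smul_finset]
    have e2 : (h * g) • U = h' • U := by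
      apply Finset.eq_of_subset_of_card_le
      · intro v hv
        obtain ⟨l, hl, hlv⟩ := horb (h * g) hd2 (h • w) v hw2 hv
        rw [← hlv]; exact hLhU h' hh'1 l hl _ hw3
      · rw [Finset.card_smul_finset, Finset.card_smul_finset]
    rw [← e1, mul_smul] at e2
    exact smul_left_cancel h e2
  have hB : IsBlock G (U : Set Ω) := by
    rw [isBlock_iff_smul_eq_or_disjoint]
    intro g
    by_cases hne : ((g • U) ∩ U).Nonempty
    · left
      rw [← Finset.coe_smul_finset, hblock g hne]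
    · right
      rw [← Finset.coe_smul_finset, Finset.disjoint_coe, Finset.disjoint_iff_inter_eq_empty]
      exact Finset.not_nonempty_iff_eq_empty.1 hne
  rcases hprim.isTrivialBlock_of_isBlock hB with h | h
  · obtain ⟨g, hg, hxg⟩ := exists_translate hk hk1 hkM hΓne hS hx
    have h1 := hXU g hg x hxU hxg
    have h2 : 1 < (g • Γ).card := by rw [Finset.card_smul_finset]; exact hm
    obtain ⟨a, ha, b, hb, hab⟩ := Finset.one_lt_card.1 h2
    exact hab (h (Finset.mem_coe.2 (h1 ha)) (Finset.mem_coe.2 (h1 hb)))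
  · apply hyU
    have : y ∈ (U : Set Ω) := by rw [h]; exact Set.mem_univ _
    exact this

theorem smul_eq_of_fix {S : Finset Ω} {h : G} (hh : ∀ a ∈ S, h • a = a) : h • S = S := by
  ext z
  rw [← Finset.inv_smul_mem_iff]
  constructor
  · intro hz
    have := hh _ hz
    rw [smul_inv_smul] at this
    rw [this]; exact hz
  · intro hz
    have := hh _ hz
    rw [inv_smul_eq_iff.2 this.symm]; exact hz

/-- `T` meets no translate of `Γ` in exactly one point. -/
theorem special {Γ : Finset Ω} {k : ℕ} (hk : Tr G Ω k) {S B : Finset Ω} (hS : S.card + 1 = k)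
    (hBS : Disjoint B S) (hB : ∀ g : G, Disjoint (g • Γ) S → ∀ b ∈ B, b ∈ g • Γ → B ⊆ g • Γ)
    {y z : Ω} (hy : y ∈ B) (hz : z ∈ B) (hyz : y ≠ z) (g : G) :
    ((insert y (insert z S)) ∩ (g • Γ)).card ≠ 1 := by
  classical
  intro h1
  obtain ⟨p, hp⟩ := Finset.card_eq_one.1 h1
  have hyS : y ∉ S := Finset.disjoint_left.1 hBS hy
  have hzS : z ∉ S := Finset.disjoint_left.1 hBS hz
  have hmem : ∀ q, q ∈ insert y (insert z S) → q ∈ g • Γ → q = p := by
    intro q hq hq'
    have : q ∈ (insert y (insert z S)) ∩ (g • Γ) := Finset.mem_inter.2 ⟨hq, hq'⟩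
    rw [hp] at this
    exact Finset.mem_singleton.1 this
  have hpm : p ∈ (insert y (insert z S)) ∩ (g • Γ) := by rw [hp]; exact Finset.mem_singleton_self p
  rw [Finset.mem_inter] at hpm
  obtain ⟨hpT, hpX⟩ := hpm
  have hyT : y ∈ insert y (insert z S) := Finset.mem_insert_self _ _
  have hzT : z ∈ insert y (insert z S) := Finset.mem_insert_of_mem (Finset.mem_insert_self _ _)
  have hST : ∀ a ∈ S, a ∈ insert y (insert z S) := fun a ha =>
    Finset.mem_insert_of_mem (Finset.mem_insert_of_mem ha)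
  by_cases hpS : p ∈ S
  · -- `p = σ ∈ S`
    have hyX : y ∉ g • Γ := fun h => hyS (hmem y hyT h ▸ hpS)
    have hzX : z ∉ g • Γ := fun h => hzS (hmem z hzT h ▸ hpS)
    set K : Finset Ω := insert y (S.erase p) with hK
    have hKcard : K.card < k := by
      rw [hK, Finset.card_insert_of_notMem (fun h => hyS (Finset.mem_of_mem_erase h)),
        Finset.card_erase_of_mem hpS]
      have : 0 < S.card := Finset.card_pos.2 ⟨p, hpS⟩
      omega
    have hpy : p ≠ y := fun h => hyS (h ▸ hpS)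
    have hpK : p ∉ K := by
      rw [hK, Finset.mem_insert]
      rintro (h | h)
      · exact hpy h
      · exact (Finset.notMem_erase p S) h
    have hzK : z ∉ K := by
      rw [hK, Finset.mem_insert]
      rintro (h | h)
      · exact hyz h.symm
      · exact hzS (Finset.mem_of_mem_erase h)
    obtain ⟨h, hh1, hh2⟩ := hk K hKcard p hpK z hzK
    have hhK := smul_eq_of_fix hh1
    let D : Ω → Finset (Finset Ω) := fun q => Finset.univ.filter (fun X : Finset Ω =>
      (∃ g : G, X = g • Γ) ∧ Disjoint X K ∧ q ∈ X)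
    have hDmem : ∀ q X, X ∈ D q ↔ ((∃ g : G, X = g • Γ) ∧ Disjoint X K ∧ q ∈ X) := fun q X => by
      simp [D]
    have hcard : (D p).card ≤ (D z).card := by
      apply Finset.card_le_card_of_injOn (fun X => h • X)
      · intro X hX
        rw [Finset.mem_coe, hDmem] at hX ⊢
        obtain ⟨⟨a, rfl⟩, hX2, hX3⟩ := hX
        refine ⟨⟨h * a, by rw [mul_smul]⟩, ?_, ?_⟩
        · have := (disj_smul h).2 hX2
          rwa [hhK] at this
        · rw [← hh2]; exact Finset.smul_mem_smul_finset hX3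
      · intro X _ Y _ hXY
        exact smul_left_cancel h hXY
    have hsub : D z ⊆ D p := by
      intro X hX
      rw [hDmem] at hX ⊢
      obtain ⟨⟨a, rfl⟩, hX2, hX3⟩ := hX
      refine ⟨⟨a, rfl⟩, hX2, ?_⟩
      by_contra hpa
      have hd : Disjoint (a • Γ) S := by
        rw [Finset.disjoint_left]
        intro q hq hqS
        have hqp : q ≠ p := fun h => hpa (h ▸ hq)
        exact Finset.disjoint_left.1 hX2 hq
          (Finset.mem_insert_of_mem (Finset.mem_erase.2 ⟨hqp, hqS⟩))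
      have h2 := hB a hd z hz hX3 hy
      exact Finset.disjoint_left.1 hX2 h2 (Finset.mem_insert_self _ _)
    have heq := Finset.eq_of_subset_of_card_le hsub hcard
    have h3 : g • Γ ∈ D p := by
      rw [hDmem]
      refine ⟨⟨g, rfl⟩, ?_, hpX⟩
      rw [Finset.disjoint_left]
      intro q hq hqK
      rw [hK, Finset.mem_insert] at hqK
      rcases hqK with rfl | hqK
      · exact hyX hq
      · rw [Finset.mem_erase] at hqK
        exact hqK.1 (hmem q (hST q hqK.2) hq)
    rw [← heq, hDmem] at h3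
    exact hzX h3.2.2
  · -- `p = y` or `p = z`
    have hd : Disjoint (g • Γ) S := by
      rw [Finset.disjoint_left]
      intro q hq hqS
      exact hpS (hmem q (hST q hqS) hq ▸ hqS)
    have hpB : p ∈ B := by
      rw [Finset.mem_insert, Finset.mem_insert] at hpT
      rcases hpT with rfl | rfl | h
      · exact hy
      · exact hz
      · exact absurd h hpS
    have hsub := hB g hd p hpB hpX
    have e1 := hmem y hyT (hsub hy)
    have e2 := hmem z hzT (hsub hz)
    exact hyz (e1.trans e2.symm)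

theorem block_full (hprim : IsPreprimitive G Ω) {Γ : Finset Ω} (hJ : Jor G Γ) (hm : 1 < Γ.card)
    (hΓ2 : 2 * Γ.card < Fintype.card Ω) {k : ℕ} (hk : Tr G Ω k) (hk2 : 2 ≤ k)
    (hkM : k + Γ.card < Fintype.card Ω) {S : Finset Ω} (hS : S.card + 1 = k) {B : Finset Ω}
    (hBS : Disjoint B S) (hBne : 1 < B.card)
    (hB : ∀ h : G, (∀ a ∈ S, h • a = a) → ((h • B) ∩ B).Nonempty → h • B = B) :
    ∀ y, y ∉ S → y ∈ B := by
  classical
  have hdich : ∀ g : G, Disjoint (g • Γ) S → ∀ b ∈ B, b ∈ g • Γ → g • Γ ⊆ B ∨ B ⊆ g • Γ := by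
    intro g hg b hb hbg
    by_contra hcon
    push Not at hcon
    obtain ⟨hc1, hc2⟩ := hcon
    obtain ⟨y, hy, hyB⟩ := Finset.not_subset.1 hc1
    obtain ⟨b', hb', hb'g⟩ := Finset.not_subset.1 hc2
    obtain ⟨j, hj1, hj2⟩ := hJ.smul g b hbg y hy
    have hjS : ∀ a ∈ S, j • a = a := fun a ha =>
      hj1 a (fun h => Finset.disjoint_left.1 hg h ha)
    have h1 : j • B = B := by
      apply hB j hjS
      refine ⟨b', Finset.mem_inter.2 ⟨?_, hb'⟩⟩
      have := hj1 b' hb'g
      rw [← this]; exact Finset.smul_mem_smul_finset hb'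
    apply hyB
    rw [← h1, ← hj2]
    exact Finset.smul_mem_smul_finset hb
  obtain ⟨x, hxB⟩ : B.Nonempty := Finset.card_pos.1 (by omega)
  have hxS : x ∉ S := Finset.disjoint_left.1 hBS hxB
  by_cases hA : ∃ g : G, Disjoint (g • Γ) S ∧ ∃ b ∈ B, b ∈ g • Γ ∧ g • Γ ⊆ B
  · -- `B` is a union of translates
    obtain ⟨g₀, -, -, -, -, hg₀B⟩ := hA
    have hcard : Γ.card ≤ B.card := by
      have := Finset.card_le_card hg₀B
      rwa [Finset.card_smul_finset] at this
    have hsub : ∀ g : G, Disjoint (g • Γ) S → ∀ b ∈ B, b ∈ g • Γ → g • Γ ⊆ B := by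
      intro g hg b hb hbg
      rcases hdich g hg b hb hbg with h | h
      · exact h
      · have h1 : B = g • Γ := by
          apply Finset.eq_of_subset_of_card_le h
          rw [Finset.card_smul_finset]; exact hcard
        rw [← h1]
    have hinv : ∀ l ∈ LL G Γ S, l • B = B := by
      intro l hl
      induction hl using Subgroup.closure_induction with
      | mem j hj =>
        obtain ⟨g, hg, hj⟩ := hj
        apply Finset.eq_of_subset_of_card_le
        · intro v hv
          rw [← Finset.inv_smul_mem_iff] at hv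
          by_cases hvg : j⁻¹ • v ∈ g • Γ
          · have h1 := hsub g hg _ hv hvg
            by_contra hvB
            have hvg' : v ∉ g • Γ := fun h => hvB (h1 h)
            have h2 := hj v hvg'
            rw [inv_smul_eq_iff.2 h2.symm] at hv
            exact hvB hv
          · have h2 := hj _ hvg
            rw [smul_inv_smul] at h2
            rw [h2]; exact hv
        · rw [Finset.card_smul_finset]
      | one => exact one_smul _ _
      | mul a b _ _ ha hb => rw [mul_smul, hb, ha]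
      | inv a _ ha => rw [inv_smul_eq_iff, ha]
    intro y hy
    obtain ⟨l, hl, hly⟩ := connect hprim hJ hm hk (by omega) hkM hS x hxS y hy
    rw [← hinv l hl, ← hly]
    exact Finset.smul_mem_smul_finset hxB
  · exfalso
    push Not at hA
    have hsup : ∀ g : G, Disjoint (g • Γ) S → ∀ b ∈ B, b ∈ g • Γ → B ⊆ g • Γ := by
      intro g hg b hb hbg
      rcases hdich g hg b hb hbg with h | h
      · exact absurd h (hA g hg b hb hbg)
      · exact h
    obtain ⟨y, hy, z, hz, hyz⟩ := Finset.one_lt_card.1 hBne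
    have hyS : y ∉ S := Finset.disjoint_left.1 hBS hy
    have hzS : z ∉ S := Finset.disjoint_left.1 hBS hz
    set T₀ : Finset Ω := insert y (insert z S) with hT₀
    have hT₀card : T₀.card = k + 1 := by
      rw [hT₀, Finset.card_insert_of_notMem, Finset.card_insert_of_notMem hzS]
      · omega
      · rw [Finset.mem_insert]
        rintro (h | h)
        · exact hyz h
        · exact hyS h
    set 𝒮 : Finset (Finset Ω) := Finset.univ.filter (fun T : Finset Ω =>
      T.card = k + 1 ∧ ∀ g : G, (T ∩ (g • Γ)).card ≠ 1) with h𝒮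
    have hmemS : ∀ T, T ∈ 𝒮 ↔ (T.card = k + 1 ∧ ∀ g : G, (T ∩ (g • Γ)).card ≠ 1) := fun T => by
      simp [h𝒮]
    have hT₀S : T₀ ∈ 𝒮 := (hmemS T₀).2 ⟨hT₀card, fun g => special hk hS hBS hsup hy hz hyz g⟩
    have hinv : ∀ (h : G) (T : Finset Ω), T ∈ 𝒮 → h • T ∈ 𝒮 := by
      intro h T hT
      rw [hmemS] at hT ⊢
      refine ⟨by rw [Finset.card_smul_finset]; exact hT.1, fun g => ?_⟩
      have h1 := hT.2 (h⁻¹ * g)
      have h2 : (h • T) ∩ (g • Γ) = h • (T ∩ ((h⁻¹ * g) • Γ)) := by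
        rw [Finset.smul_finset_inter, ← mul_smul, mul_inv_cancel_left]
      rw [h2, Finset.card_smul_finset]
      exact h1
    have hle : ∀ K K' : Finset Ω, K.card = k → K'.card = k →
        (𝒮.filter (fun T => K ⊆ T)).card ≤ (𝒮.filter (fun T => K' ⊆ T)).card := by
      intro K K' hK hK'
      obtain ⟨h, hh⟩ := hk.exists_smul k le_rfl K K' hK hK'
      apply Finset.card_le_card_of_injOn (fun X => h • X)
      · intro T hT
        rw [Finset.mem_coe, Finset.mem_filter] at hT ⊢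
        exact ⟨hinv h T hT.1, by rw [← hh]; exact Finset.smul_finset_subset_smul_finset hT.2⟩
      · intro X _ Y _ hXY
        exact smul_left_cancel h hXY
    obtain ⟨K₀, hK₀T, hK₀⟩ := Finset.exists_subset_card_eq (s := T₀) (n := k) (by omega)
    apply MarggraffCount.design_contra Γ hk2 (e := (𝒮.filter (fun T => K₀ ⊆ T)).card)
      (Finset.card_pos.2 ⟨T₀, Finset.mem_filter.2 ⟨hT₀S, hK₀T⟩⟩) 𝒮
      (fun T hT => ((hmemS T).1 hT).1)
      (fun K hK => le_antisymm (hle K K₀ hK hK₀) (hle K₀ K hK₀ hK))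
    · intro T hT
      have := ((hmemS T).1 hT).2 1
      rwa [one_smul] at this
    · omega
    · rw [Finset.card_compl]; omega
    · rw [Finset.card_compl]; omega

theorem block_full' (hprim : IsPreprimitive G Ω) {Γ : Finset Ω} (hJ : Jor G Γ) (hm : 1 < Γ.card)
    (hΓ2 : 2 * Γ.card < Fintype.card Ω) {k : ℕ} (hk : Tr G Ω k)
    (hkM : k + Γ.card < Fintype.card Ω) {S : Finset Ω} (hS : S.card + 1 = k) {B : Finset Ω}
    (hBS : Disjoint B S) (hBne : 1 < B.card)
    (hB : ∀ h : G, (∀ a ∈ S, h • a = a) → ((h • B) ∩ B).Nonempty → h • B = B) :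
    ∀ y, y ∉ S → y ∈ B := by
  rcases Nat.lt_or_ge k 2 with hk2 | hk2
  · have hS0 : S = ∅ := by rw [← Finset.card_eq_zero]; omega
    subst hS0
    intro y _
    have hB' : IsBlock G (B : Set Ω) := by
      rw [isBlock_iff_smul_eq_or_disjoint]
      intro g
      by_cases hne : ((g • B) ∩ B).Nonempty
      · left
        rw [← Finset.coe_smul_finset, hB g (by simp) hne]
      · right
        rw [← Finset.coe_smul_finset, Finset.disjoint_coe, Finset.disjoint_iff_inter_eq_empty]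
        exact Finset.not_nonempty_iff_eq_empty.1 hne
    rcases hprim.isTrivialBlock_of_isBlock hB' with h | h
    · obtain ⟨a, ha, b, hb, hab⟩ := Finset.one_lt_card.1 hBne
      exact absurd (h (Finset.mem_coe.2 ha) (Finset.mem_coe.2 hb)) hab
    · have : y ∈ (B : Set Ω) := by rw [h]; exact Set.mem_univ _
      exact this
  · exact block_full hprim hJ hm hΓ2 hk hk2 hkM hS hBS hBne hB

theorem mem_ofFix {S : Finset Ω} {x : Ω} :
    x ∈ SubMulAction.ofFixingSubgroup G (S : Set Ω) ↔ x ∉ S := by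
  rw [SubMulAction.mem_ofFixingSubgroup_iff, Finset.mem_coe]

theorem primitive_fix (hprim : IsPreprimitive G Ω) {Γ : Finset Ω} (hJ : Jor G Γ) (hm : 1 < Γ.card)
    (hΓ2 : 2 * Γ.card < Fintype.card Ω) {k : ℕ} (hk : Tr G Ω k)
    (hkM : k + Γ.card < Fintype.card Ω) {S : Finset Ω} (hS : S.card + 1 = k) :
    IsPreprimitive (fixingSubgroup G (S : Set Ω)) (SubMulAction.ofFixingSubgroup G (S : Set Ω)) := by
  classical
  have htrans : IsPretransitive (fixingSubgroup G (S : Set Ω))
      (SubMulAction.ofFixingSubgroup G (S : Set Ω)) := by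
    refine ⟨fun x y => ?_⟩
    obtain ⟨g, hg1, hg2⟩ := hk S (by omega) x (mem_ofFix.1 x.2) y (mem_ofFix.1 y.2)
    refine ⟨⟨g, ?_⟩, Subtype.ext hg2⟩
    rw [mem_fixingSubgroup_iff]
    intro a ha
    exact hg1 a ha
  refine { toIsPretransitive := htrans, isTrivialBlock_of_isBlock := ?_ }
  intro B' hB'
  by_contra hnt
  unfold IsTrivialBlock at hnt
  push Not at hnt
  obtain ⟨hBs, hBu⟩ := hnt
  set B : Finset Ω := Finset.univ.filter (fun x => ∃ h : x ∈ SubMulAction.ofFixingSubgroup G (S : Set Ω),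
    (⟨x, h⟩ : SubMulAction.ofFixingSubgroup G (S : Set Ω)) ∈ B') with hB
  have hmemB : ∀ x, x ∈ B ↔ ∃ h : x ∈ SubMulAction.ofFixingSubgroup G (S : Set Ω),
    (⟨x, h⟩ : SubMulAction.ofFixingSubgroup G (S : Set Ω)) ∈ B' := fun x => by simp [hB]
  have hfull := block_full' hprim hJ hm hΓ2 hk hkM hS (B := B) ?_ ?_ ?_
  · apply hBu
    rw [Set.eq_univ_iff_forall]
    intro x
    obtain ⟨_, hx⟩ := (hmemB x).1 (hfull x (mem_ofFix.1 x.2))
    exact hx
  · rw [Finset.disjoint_left]
    intro x hx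
    obtain ⟨hx, -⟩ := (hmemB x).1 hx
    exact mem_ofFix.1 hx
  · obtain ⟨a, ha, b, hb, hab⟩ := hBs
    rw [Finset.one_lt_card]
    exact ⟨a, (hmemB a).2 ⟨a.2, ha⟩, b, (hmemB b).2 ⟨b.2, hb⟩, fun h => hab (Subtype.ext h)⟩
  · intro h hh hne
    have hhm : h ∈ fixingSubgroup G (S : Set Ω) := by
      rw [mem_fixingSubgroup_iff]
      intro a ha
      exact hh a ha
    obtain ⟨w, hw⟩ := hne
    rw [Finset.mem_inter] at hw
    obtain ⟨hw1, hw2⟩ := hw
    obtain ⟨v, hv, rfl⟩ := Finset.mem_smul_finset.1 hw1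
    obtain ⟨hvS, hvB⟩ := (hmemB v).1 hv
    obtain ⟨hhvS, hhvB⟩ := (hmemB _).1 hw2
    have hblk : (⟨h, hhm⟩ : fixingSubgroup G (S : Set Ω)) • B' = B' :=
      isBlock_iff_smul_eq_of_mem.1 hB' hvB hhvB
    apply Finset.eq_of_subset_of_card_le
    · intro x hx
      obtain ⟨u, hu, rfl⟩ := Finset.mem_smul_finset.1 hx
      obtain ⟨huS, huB⟩ := (hmemB u).1 hu
      rw [hmemB]
      have h1 : (⟨h, hhm⟩ : fixingSubgroup G (S : Set Ω)) •
          (⟨u, huS⟩ : SubMulAction.ofFixingSubgroup G (S : Set Ω)) ∈ B' := by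
        rw [← hblk]
        exact Set.smul_mem_smul_set huB
      exact ⟨(((⟨h, hhm⟩ : fixingSubgroup G (S : Set Ω)) •
          (⟨u, huS⟩ : SubMulAction.ofFixingSubgroup G (S : Set Ω)))).2, h1⟩
    · rw [Finset.card_smul_finset]

theorem step (hprim : IsPreprimitive G Ω) {Γ : Finset Ω} (hJ : Jor G Γ) (hm : 1 < Γ.card)
    (hΓ2 : 2 * Γ.card < Fintype.card Ω) {k : ℕ} (hk : Tr G Ω k) (hk1 : 1 ≤ k)
    (hkM : k + Γ.card < Fintype.card Ω) : Tr G Ω (k + 1) := by
  classical
  intro s hs x hx y hy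
  rcases Nat.lt_or_ge s.card k with hlt | hge
  · exact hk s hlt x hx y hy
  have hsk : s.card = k := by omega
  obtain ⟨a, ha⟩ : s.Nonempty := Finset.card_pos.1 (by omega)
  set S := s.erase a with hSdef
  have hS : S.card + 1 = k := by rw [hSdef, Finset.card_erase_of_mem ha]; omega
  have hsS : s = insert a S := (Finset.insert_erase ha).symm
  have haS : a ∉ S := Finset.notMem_erase a s
  have hprimS := primitive_fix hprim hJ hm hΓ2 hk hkM hS
  have hΓne : Γ.Nonempty := Finset.card_pos.1 (by omega)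
  obtain ⟨g, hg, -⟩ := exists_translate hk hk1 hkM hΓne hS haS
  set H := fixingSubgroup G (S : Set Ω) with hH
  set Ω' := SubMulAction.ofFixingSubgroup G (S : Set Ω) with hΩ'
  set s' : Set Ω' := {p : Ω' | (p : Ω) ∉ g • Γ} with hs'
  have himg : (Subtype.val '' s') = ((S ∪ (g • Γ))ᶜ : Finset Ω) := by
    ext z
    rw [Finset.mem_coe, Finset.mem_compl, Finset.mem_union]
    constructor
    · rintro ⟨p, hp, rfl⟩ h
      rcases h with h | h
      · exact mem_ofFix.1 p.2 h
      · exact hp h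
    · intro h
      push Not at h
      exact ⟨⟨z, mem_ofFix.2 h.1⟩, h.2, rfl⟩
  have hcards' : s'.ncard = Fintype.card Ω - k - Γ.card + 1 := by
    rw [← Set.ncard_image_of_injective s' Subtype.val_injective, himg, Set.ncard_coe_finset,
      Finset.card_compl, Finset.card_union_of_disjoint hg.symm, Finset.card_smul_finset]
    omega
  have hcardΩ' : Nat.card Ω' = Fintype.card Ω - k + 1 := by
    have h1 : (Subtype.val '' (Set.univ : Set Ω')) = (Sᶜ : Finset Ω) := by
      ext z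
      rw [Finset.mem_coe, Finset.mem_compl]
      constructor
      · rintro ⟨p, -, rfl⟩
        exact mem_ofFix.1 p.2
      · intro h
        exact ⟨⟨z, mem_ofFix.2 h⟩, trivial, rfl⟩
    rw [← Set.ncard_univ, ← Set.ncard_image_of_injective _ Subtype.val_injective, h1,
      Set.ncard_coe_finset, Finset.card_compl]
    omega
  have htr : IsPretransitive (fixingSubgroup H s') (SubMulAction.ofFixingSubgroup H s') := by
    refine ⟨fun p q => ?_⟩
    have hp : ((p : Ω') : Ω) ∈ g • Γ := by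
      by_contra h
      exact (SubMulAction.mem_ofFixingSubgroup_iff H).1 p.2 h
    have hq : ((q : Ω') : Ω) ∈ g • Γ := by
      by_contra h
      exact (SubMulAction.mem_ofFixingSubgroup_iff H).1 q.2 h
    obtain ⟨j, hj1, hj2⟩ := hJ.smul g _ hp _ hq
    have hjH : j ∈ H := by
      rw [hH, mem_fixingSubgroup_iff]
      intro b hb
      exact hj1 b (fun h => Finset.disjoint_left.1 hg h hb)
    refine ⟨⟨⟨j, hjH⟩, ?_⟩, ?_⟩
    · rw [mem_fixingSubgroup_iff]
      intro b hb
      exact Subtype.ext (hj1 b hb)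
    · exact Subtype.ext (Subtype.ext hj2)
  have h2 := hprimS.is_two_pretransitive (s := s') (n := Fintype.card Ω - k - Γ.card) hcards'
    (by rw [hcardΩ']; omega) htr
  rw [is_two_pretransitive_iff] at h2
  have hxS : x ∉ S := fun h => hx (by rw [hsS]; exact Finset.mem_insert_of_mem h)
  have hyS : y ∉ S := fun h => hy (by rw [hsS]; exact Finset.mem_insert_of_mem h)
  have hax : a ≠ x := fun h => hx (h ▸ ha)
  have hay : a ≠ y := fun h => hy (h ▸ ha)
  obtain ⟨f, hf1, hf2⟩ := @h2 (⟨a, mem_ofFix.2 haS⟩ : Ω') (⟨x, mem_ofFix.2 hxS⟩ : Ω')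
    (⟨a, mem_ofFix.2 haS⟩ : Ω') (⟨y, mem_ofFix.2 hyS⟩ : Ω')
    (fun h => hax (congrArg Subtype.val h)) (fun h => hay (congrArg Subtype.val h))
  refine ⟨f, ?_, congrArg Subtype.val hf2⟩
  intro b hb
  rw [hsS, Finset.mem_insert] at hb
  rcases hb with rfl | hb
  · exact congrArg Subtype.val hf1
  · have hfH := f.2
    rw [mem_fixingSubgroup_iff] at hfH
    exact hfH b hb

/-- **Marggraff**: a primitive group with a Jordan set `Γ`, `2|Γ| < n`, is `(n - |Γ|)`-transitive. -/
theorem multiply_transitive (hprim : IsPreprimitive G Ω) {Γ : Finset Ω} (hJ : Jor G Γ)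
    (hm : 1 < Γ.card) (hΓ2 : 2 * Γ.card < Fintype.card Ω) :
    ∀ k, 1 ≤ k → k + Γ.card ≤ Fintype.card Ω → Tr G Ω k := by
  intro k hk1
  induction k, hk1 using Nat.le_induction with
  | base =>
    intro _ s hs x _ y _
    have hs0 : s = ∅ := by rw [← Finset.card_eq_zero]; omega
    obtain ⟨g, hg⟩ := hprim.toIsPretransitive.exists_smul_eq x y
    exact ⟨g, by rw [hs0]; simp, hg⟩
  | succ k hk ih =>
    intro h
    exact step hprim hJ hm hΓ2 (ih (by omega)) hk (by omega)

end Basic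

section Final

variable {G Ω Λ : Type*} [Group G] [MulAction G Ω] [MulAction G Λ]
  [Fintype Λ] [DecidableEq Λ]

/-- The commutator element. -/
theorem exists_three_cycle (π : Ω → Λ) (hπ : ∀ (g : G) (ω : Ω), π (g • ω) = g • π ω)
    (hprim : IsPreprimitive G Λ) {Γ : Finset Λ} (hm : 1 < Γ.card)
    (hΓ2 : 2 * Γ.card < Fintype.card Λ)
    (hJ : ∀ p ∈ Γ, ∀ q ∈ Γ, ∃ j : G, (∀ ω, π ω ∉ Γ → j • ω = ω) ∧ (∀ r, r ∉ Γ → j • r = r) ∧
      j • p = q) :
    ∃ (c : G) (x y z : Λ), x ≠ y ∧ x ≠ z ∧ y ≠ z ∧ c • x = y ∧ c • y = z ∧ c • z = x ∧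
      (∀ ω, π ω ≠ x → π ω ≠ y → π ω ≠ z → c • ω = ω) ∧
      (∀ r : Λ, r ≠ x → r ≠ y → r ≠ z → c • r = r) := by
  classical
  have hJor : Jor G Γ := by
    intro p hp q hq
    obtain ⟨j, -, hj2, hj3⟩ := hJ p hp q hq
    exact ⟨j, hj2, hj3⟩
  have htr := multiply_transitive hprim hJor hm hΓ2 Γ.card (by omega) (by omega)
  obtain ⟨x, hx⟩ : Γ.Nonempty := Finset.card_pos.1 (by omega)
  have hc : Γ.card - 1 ≤ (Γᶜ).card := by rw [Finset.card_compl]; omega
  obtain ⟨A, hA1, hA2⟩ := Finset.exists_subset_card_eq hc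
  have hxA : x ∉ A := fun h => by
    have := hA1 h
    rw [Finset.mem_compl] at this
    exact this hx
  obtain ⟨h, hh⟩ := htr.exists_smul Γ.card le_rfl Γ (insert x A) rfl (by
    rw [Finset.card_insert_of_notMem hxA, hA2]; omega)
  have hmemB : ∀ r, r ∈ h • Γ ↔ (r = x ∨ r ∈ A) := fun r => by rw [hh, Finset.mem_insert]
  have hAΓ : ∀ r ∈ A, r ∉ Γ := fun r hr => by
    have := hA1 hr
    rwa [Finset.mem_compl] at this
  -- the two elements
  obtain ⟨y, hy, hyx⟩ : ∃ y ∈ Γ, y ≠ x := by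
    obtain ⟨a, ha, b, hb, hab⟩ := Finset.one_lt_card.1 hm
    by_cases hax : a = x
    · exact ⟨b, hb, fun hbx => hab (hax.trans hbx.symm)⟩
    · exact ⟨a, ha, hax⟩
  obtain ⟨a, ha1, ha2, ha3⟩ := hJ x hx y hy
  have hxB : x ∈ h • Γ := (hmemB x).2 (Or.inl rfl)
  have hx' : h⁻¹ • x ∈ Γ := Finset.inv_smul_mem_iff.2 hxB
  obtain ⟨w, hw, hwx⟩ : ∃ w ∈ Γ, w ≠ h⁻¹ • x := by
    obtain ⟨a, ha, b, hb, hab⟩ := Finset.one_lt_card.1 hm
    by_cases hax : a = h⁻¹ • x
    · exact ⟨b, hb, fun hbx => hab (hax.trans hbx.symm)⟩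
    · exact ⟨a, ha, hax⟩
  obtain ⟨b₀, hb1, hb2, hb3⟩ := hJ _ hx' w hw
  set b : G := h * b₀ * h⁻¹ with hb
  have hbΩ : ∀ ω, π ω ∉ h • Γ → b • ω = ω := by
    intro ω hω
    have h1 : π (h⁻¹ • ω) ∉ Γ := by
      rw [hπ]; exact fun h' => hω (Finset.inv_smul_mem_iff.1 h')
    rw [hb, mul_smul, mul_smul, hb1 _ h1, smul_inv_smul]
  have hbΛ : ∀ r, r ∉ h • Γ → b • r = r := by
    intro r hr
    have h1 : h⁻¹ • r ∉ Γ := fun h' => hr (Finset.inv_smul_mem_iff.1 h')
    rw [hb, mul_smul, mul_smul, hb2 _ h1, smul_inv_smul]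
  have hbx : b • x = h • w := by rw [hb, mul_smul, mul_smul, hb3]
  set z : Λ := h • w with hz
  have hzB : z ∈ h • Γ := Finset.smul_mem_smul_finset hw
  have hzx : z ≠ x := by
    intro h'
    apply hwx
    rw [← h', hz, inv_smul_smul]
  have hzA : z ∈ A := ((hmemB z).1 hzB).resolve_left hzx
  have hzΓ : z ∉ Γ := hAΓ z hzA
  have hyz : y ≠ z := fun h' => hzΓ (h' ▸ hy)
  -- permutation facts
  have haΓ : ∀ r, r ∈ Γ → a⁻¹ • r ∈ Γ := by
    intro r hr
    by_contra h'
    have h1 := ha2 _ h'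
    rw [smul_inv_smul] at h1
    rw [← h1] at h'
    exact h' hr
  have hbB : ∀ r, r ∈ h • Γ → b⁻¹ • r ∈ h • Γ := by
    intro r hr
    by_contra h'
    have h1 := hbΛ _ h'
    rw [smul_inv_smul] at h1
    rw [← h1] at h'
    exact h' hr
  have hAB : ∀ r, r ∈ Γ → r ∈ h • Γ → r = x := by
    intro r hr hr'
    rcases (hmemB r).1 hr' with h' | h'
    · exact h'
    · exact absurd hr (hAΓ r h')
  have hfixΩ : ∀ ω, π ω ≠ x → π ω ≠ y → π ω ≠ z → (a * b * a⁻¹ * b⁻¹) • ω = ω := by
    intro ω h1 h2 h3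
    rw [mul_smul, mul_smul, mul_smul]
    by_cases hωB : π ω ∈ h • Γ
    · have hωΓ : π ω ∉ Γ := fun h' => h1 (hAB _ h' hωB)
      have h4 : π (b⁻¹ • ω) ∉ Γ := by
        rw [hπ]
        intro h'
        have h5 := hAB _ h' (hbB _ hωB)
        apply h3
        rw [← hbx, ← h5, smul_inv_smul]
      rw [inv_smul_eq_iff.2 (ha1 _ h4).symm, smul_inv_smul, ha1 _ hωΓ]
    · have h4 : b⁻¹ • ω = ω := inv_smul_eq_iff.2 (hbΩ _ hωB).symm
      rw [h4]
      by_cases hωΓ : π ω ∈ Γ
      · have h5 : π (a⁻¹ • ω) ∉ h • Γ := by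
          rw [hπ]
          intro h'
          have h6 := hAB _ (haΓ _ hωΓ) h'
          apply h2
          rw [← ha3, ← h6, smul_inv_smul]
        rw [hbΩ _ h5, smul_inv_smul]
      · rw [inv_smul_eq_iff.2 (ha1 _ hωΓ).symm, hbΩ _ hωB, ha1 _ hωΓ]
  have hfixΛ : ∀ ω : Λ, ω ≠ x → ω ≠ y → ω ≠ z → (a * b * a⁻¹ * b⁻¹) • ω = ω := by
    intro ω h1 h2 h3
    rw [mul_smul, mul_smul, mul_smul]
    by_cases hωB : ω ∈ h • Γ
    · have hωΓ : ω ∉ Γ := fun h' => h1 (hAB _ h' hωB)
      have h4 : b⁻¹ • ω ∉ Γ := by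
        intro h'
        have h5 := hAB _ h' (hbB _ hωB)
        apply h3
        rw [← hbx, ← h5, smul_inv_smul]
      rw [inv_smul_eq_iff.2 (ha2 _ h4).symm, smul_inv_smul, ha2 _ hωΓ]
    · have h4 : b⁻¹ • ω = ω := inv_smul_eq_iff.2 (hbΛ _ hωB).symm
      rw [h4]
      by_cases hωΓ : ω ∈ Γ
      · have h5 : a⁻¹ • ω ∉ h • Γ := by
          intro h'
          have h6 := hAB _ (haΓ _ hωΓ) h'
          apply h2
          rw [← ha3, ← h6, smul_inv_smul]
        rw [hbΛ _ h5, smul_inv_smul]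
      · rw [inv_smul_eq_iff.2 (ha2 _ hωΓ).symm, hbΛ _ hωB, ha2 _ hωΓ]
  have hyB : y ∉ h • Γ := fun h' => hyx (hAB y hy h')
  -- `a⁻¹ x ∉ B`, `b⁻¹ x ∉ Γ`
  have h1 : a⁻¹ • x ∉ h • Γ := by
    intro h'
    have h2 := hAB _ (haΓ _ hx) h'
    rw [inv_smul_eq_iff, ha3] at h2
    exact hyx h2.symm
  have h2 : b⁻¹ • x ∉ Γ := by
    intro h'
    have h3 := hAB _ h' (hbB _ hxB)
    rw [inv_smul_eq_iff, hbx] at h3
    exact hzx h3.symm
  refine ⟨a * b * a⁻¹ * b⁻¹, x, y, z, hyx.symm, hzx.symm, hyz, ?_, ?_, ?_, hfixΩ, hfixΛ⟩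
  · rw [mul_smul, mul_smul, mul_smul, inv_smul_eq_iff.2 (ha2 _ h2).symm, smul_inv_smul, ha3]
  · have h3 : b⁻¹ • y = y := inv_smul_eq_iff.2 (hbΛ _ hyB).symm
    have h4 : a⁻¹ • y = x := by rw [inv_smul_eq_iff, ha3]
    rw [mul_smul, mul_smul, mul_smul, h3, h4, hbx, ha2 _ hzΓ]
  · have h3 : b⁻¹ • z = x := by rw [inv_smul_eq_iff, hbx]
    rw [mul_smul, mul_smul, mul_smul, h3, hbΛ _ h1, smul_inv_smul]

theorem isThreeCycle_of {c : Equiv.Perm Λ} {x y z : Λ} (hxy : x ≠ y) (hxz : x ≠ z) (hyz : y ≠ z)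
    (h1 : c x = y) (h2 : c y = z) (h3 : c z = x) (h4 : ∀ r, r ≠ x → r ≠ y → r ≠ z → c r = r) :
    c.IsThreeCycle := by
  rw [← card_support_eq_three_iff]
  have : c.support = {x, y, z} := by
    ext r
    rw [Equiv.Perm.mem_support]
    simp only [Finset.mem_insert, Finset.mem_singleton]
    constructor
    · intro h
      by_contra hcon
      push Not at hcon
      exact h (h4 r hcon.1 hcon.2.1 hcon.2.2)
    · rintro (rfl | rfl | rfl)
      · rw [h1]; exact hxy.symm
      · rw [h2]; exact hyz.symm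
      · rw [h3]; exact hxz
  rw [this, Finset.card_insert_of_notMem, Finset.card_insert_of_notMem, Finset.card_singleton]
  · rw [Finset.mem_singleton]; exact hyz
  · rw [Finset.mem_insert, Finset.mem_singleton]
    rintro (h | h)
    · exact hxy h
    · exact hxz h

/-- The final step. -/
theorem final (π : Ω → Λ) (hπ : ∀ (g : G) (ω : Ω), π (g • ω) = g • π ω)
    (hqp : ∀ N : Subgroup G, N.Normal → N ≠ ⊥ → IsPretransitive ↥N Ω)
    (hfaith : ∀ g : G, (∀ r : Λ, g • r = r) → g = 1)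
    (hprim : IsPreprimitive G Λ) {Γ : Finset Λ} (hm : 1 < Γ.card)
    (hΓ2 : 2 * Γ.card < Fintype.card Λ)
    (hJ : ∀ p ∈ Γ, ∀ q ∈ Γ, ∃ j : G, (∀ ω, π ω ∉ Γ → j • ω = ω) ∧ (∀ r, r ∉ Γ → j • r = r) ∧
      j • p = q) :
    Function.Injective π ∧ ∀ σ : Equiv.Perm Λ, Equiv.Perm.sign σ = 1 →
      ∃ x : G, (toPerm x : Equiv.Perm Λ) = σ := by
  classical
  obtain ⟨c, x, y, z, hxy, hxz, hyz, hcx, hcy, hcz, hcΩ, hcΛ⟩ :=
    exists_three_cycle π hπ hprim hm hΓ2 hJ
  set cb : Equiv.Perm Λ := toPerm c with hcb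
  have hc3 : cb.IsThreeCycle := isThreeCycle_of hxy hxz hyz hcx hcy hcz hcΛ
  let R : Subgroup (Equiv.Perm Λ) := (toPermHom G Λ).range
  have hR : ∀ σ, σ ∈ R ↔ ∃ g : G, (toPerm g : Equiv.Perm Λ) = σ := fun σ => Iff.rfl
  have hRprim : IsPreprimitive R Λ := by
    have htr : IsPretransitive R Λ := by
      refine ⟨fun p q => ?_⟩
      obtain ⟨g, hg⟩ := hprim.toIsPretransitive.exists_smul_eq p q
      exact ⟨⟨toPermHom G Λ g, ⟨g, rfl⟩⟩, hg⟩
    refine { toIsPretransitive := htr, isTrivialBlock_of_isBlock := ?_ }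
    intro B hB
    apply hprim.isTrivialBlock_of_isBlock
    rw [isBlock_iff_smul_eq_or_disjoint] at hB ⊢
    intro g
    exact hB ⟨toPermHom G Λ g, ⟨g, rfl⟩⟩
  have halt : alternatingGroup Λ ≤ R :=
    Equiv.Perm.alternatingGroup_le_of_isPreprimitive_of_isThreeCycle_mem hRprim hc3 ⟨c, rfl⟩
  have h5 : 5 ≤ Nat.card Λ := by rw [Nat.card_eq_fintype_card]; omega
  have heven : ∀ σ : Equiv.Perm Λ, Equiv.Perm.sign σ = 1 →
      ∃ x : G, (toPerm x : Equiv.Perm Λ) = σ := fun σ hσ =>
    (hR σ).1 (halt (Equiv.Perm.mem_alternatingGroup.2 hσ))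
  refine ⟨?_, heven⟩
  -- `π` is injective
  intro ω ω' hωω'
  set D := π ω with hD
  -- every 3-cycle fixing `D` is induced by an element fixing the fibre of `D`
  have h3 : ∀ τ : Equiv.Perm Λ, τ.IsThreeCycle → τ D = D →
      ∃ g : G, (toPerm g : Equiv.Perm Λ) = τ ∧ ∀ v, π v = D → g • v = v := by
    intro τ hτ hτD
    have hconj := alternatingGroup.isThreeCycle_isConj h5
      (σ := ⟨cb, hc3.mem_alternatingGroup⟩) (τ := ⟨τ, hτ.mem_alternatingGroup⟩) hc3 hτ
    rw [isConj_iff] at hconj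
    obtain ⟨s, hs⟩ := hconj
    obtain ⟨g, hg⟩ := heven (s : Equiv.Perm Λ) (Equiv.Perm.mem_alternatingGroup.1 s.2)
    have hs' : (s : Equiv.Perm Λ) * cb * (s : Equiv.Perm Λ)⁻¹ = τ := congrArg Subtype.val hs
    have hgτ : (toPerm (g * c * g⁻¹) : Equiv.Perm Λ) = τ := by
      rw [← hs', ← hg, hcb]
      ext r
      simp [mul_smul, Equiv.Perm.mul_apply]
    refine ⟨g * c * g⁻¹, hgτ, ?_⟩
    intro v hv
    have h6 : c • (g⁻¹ • D) = g⁻¹ • D := by
      have h7 : (g * c * g⁻¹) • D = D := by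
        have := congrArg (fun f : Equiv.Perm Λ => f D) hgτ
        simp only [toPerm_apply] at this
        rw [this, hτD]
      rw [mul_smul, mul_smul] at h7
      rw [eq_inv_smul_iff]; exact h7
    have h7 : c • (g⁻¹ • v) = g⁻¹ • v := by
      apply hcΩ
      · rw [hπ, hv]; intro h'
        rw [h', hcx] at h6
        exact hxy h6.symm
      · rw [hπ, hv]; intro h'
        rw [h', hcy] at h6
        exact hyz h6.symm
      · rw [hπ, hv]; intro h'
        rw [h', hcz] at h6
        exact hxz h6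
    rw [mul_smul, mul_smul, h7, smul_inv_smul]
  -- every even permutation fixing `D`
  have hall : ∀ τ : Equiv.Perm Λ, Equiv.Perm.sign τ = 1 → τ D = D →
      ∃ g : G, (toPerm g : Equiv.Perm Λ) = τ ∧ ∀ v, π v = D → g • v = v := by
    intro τ hτ hτD
    have hp1 : ∀ r, (τ r ≠ D) ↔ (r ≠ D) := by
      intro r
      rw [not_iff_not]
      constructor
      · intro h'
        apply τ.injective
        rw [h', hτD]
      · rintro rfl; exact hτD
    have hp2 : ∀ r, τ r ≠ r → r ≠ D := by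
      rintro r hr rfl
      exact hr hτD
    set τ' : Equiv.Perm {r : Λ // r ≠ D} := τ.subtypePerm hp1 with hτ'
    have hsign : Equiv.Perm.sign τ' = 1 := by
      rw [hτ', Equiv.Perm.sign_subtypePerm τ hp1 hp2, hτ]
    have hof : Equiv.Perm.ofSubtype τ' = τ := Equiv.Perm.ofSubtype_subtypePerm hp1 hp2
    have hcl : τ' ∈ Subgroup.closure {σ : Equiv.Perm {r : Λ // r ≠ D} | σ.IsThreeCycle} := by
      rw [Equiv.Perm.closure_three_cycles_eq_alternating]
      exact Equiv.Perm.mem_alternatingGroup.2 hsign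
    rw [← hof]
    clear_value τ'
    clear hτ' hsign hof
    induction hcl using Subgroup.closure_induction with
    | mem σ hσ =>
      apply h3
      · unfold Equiv.Perm.IsThreeCycle
        rw [Equiv.Perm.cycleType_ofSubtype]
        exact hσ
      · exact Equiv.Perm.ofSubtype_apply_of_not_mem σ (by simp)
    | one => exact ⟨1, by ext r; simp, fun v _ => one_smul _ _⟩
    | mul a b _ _ ha hb =>
      obtain ⟨g, hg1, hg2⟩ := ha
      obtain ⟨h, hh1, hh2⟩ := hb
      refine ⟨g * h, ?_, fun v hv => by rw [mul_smul, hh2 v hv, hg2 v hv]⟩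
      rw [map_mul, ← hg1, ← hh1]
      ext r
      simp [mul_smul, Equiv.Perm.mul_apply]
    | inv a _ ha =>
      obtain ⟨g, hg1, hg2⟩ := ha
      refine ⟨g⁻¹, ?_, fun v hv => by rw [inv_smul_eq_iff, hg2 v hv]⟩
      rw [map_inv, ← hg1]
      ext r
      simp
  -- the normal subgroup of even elements
  let N : Subgroup G := (Equiv.Perm.sign.comp (toPermHom G Λ)).ker
  have hNmem : ∀ g, g ∈ N ↔ Equiv.Perm.sign (toPerm g : Equiv.Perm Λ) = 1 := fun g => Iff.rfl
  have hNne : N ≠ ⊥ := by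
    intro h'
    have h6 : c ∈ N := (hNmem c).2 hc3.sign
    rw [h', Subgroup.mem_bot] at h6
    rw [h6, one_smul] at hcx
    exact hxy hcx
  obtain ⟨⟨g, hgN⟩, hg⟩ := (hqp N inferInstance hNne).exists_smul_eq ω ω'
  have hg' : g • ω = ω' := hg
  have hgD : (toPerm g : Equiv.Perm Λ) D = D := by
    rw [toPerm_apply, hD, ← hπ, hg', ← hωω']
  obtain ⟨k, hk1, hk2⟩ := hall _ ((hNmem g).1 hgN) hgD
  have hgk : g = k := by
    have h6 : k⁻¹ * g = 1 := by
      apply hfaith
      intro r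
      rw [mul_smul, inv_smul_eq_iff]
      have := congrArg (fun f : Equiv.Perm Λ => f r) hk1
      simp only [toPerm_apply] at this
      exact this.symm
    rw [inv_mul_eq_one] at h6
    exact h6.symm
  rw [← hg', hgk, hk2 ω rfl]

end Final

end Cfsg.Agent.Lib.Marggraff
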