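import Cfsg.Agent.Lib.Components
import Cfsg.Agent.Lib.Layer
import Cfsg.Agent.Lib.SwapOrbits
import Cfsg.Agent.Lib.H53Deg11
import Cfsg.Agent.S3620

/-! Normal quasisimple subgroups of permutation groups: dichotomy and small invariant sets. -/

set_option autoImplicit false
set_option maxHeartbeats 400000

namespace Cfsg.Agent.Lib.H12SylA

open Cfsg Subgroup MulAction

variable {G : Type*} [Group G]

/-- A subgroup `N` with `N`, `L` normalizing each other, `L` quasisimple: `L ≤ N` or `[L, N] = 1`. -/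
theorem dich {L N : Subgroup G} (hL : IsQuasisimple L) (hNL : ∀ n ∈ N, ∀ l ∈ L, n * l * n⁻¹ ∈ L)
    (hLN : ∀ l ∈ L, ∀ n ∈ N, l * n * l⁻¹ ∈ N) : L ≤ N ∨ N ≤ centralizer (L : Set G) := by
  have hn : ((N ⊓ L).subgroupOf L).Normal := by
    constructor
    intro x hx g
    rw [mem_subgroupOf] at hx ⊢
    exact ⟨hLN _ g.2 _ hx.1, L.mul_mem (L.mul_mem g.2 x.2) (L.inv_mem g.2)⟩
  rcases Components.normal_le_center_or_eq_top hL ((N ⊓ L).subgroupOf L) with h | h
  · right
    -- commutators are central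
    have hcen : ∀ n ∈ N, ∀ l ∈ L, ∀ l' ∈ L, (n * l * n⁻¹ * l⁻¹) * l' = l' * (n * l * n⁻¹ * l⁻¹) := by
      intro n hn l hl l' hl'
      have h1 : n * l * n⁻¹ * l⁻¹ ∈ N ⊓ L := by
        refine ⟨?_, L.mul_mem (hNL n hn l hl) (L.inv_mem hl)⟩
        have := N.mul_mem hn (hLN l hl _ (N.inv_mem hn))
        rwa [← mul_assoc, ← mul_assoc] at this
      have h2 := mem_center_iff.1 (h (show (⟨_, h1.2⟩ : L) ∈ (N ⊓ L).subgroupOf L from h1)) ⟨l', hl'⟩
      exact (congrArg Subtype.val h2).symm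
    intro n hn
    rw [mem_centralizer_iff]
    -- the map l ↦ [n, l] is a homomorphism to an abelian group
    let Z := center L
    have hz : ∀ l : L, (⟨n * l * n⁻¹ * (l : G)⁻¹, L.mul_mem (hNL n hn l l.2) (L.inv_mem l.2)⟩ : L) ∈ Z := by
      intro l
      rw [mem_center_iff]
      intro l'
      exact Subtype.ext (hcen n hn l l.2 l' l'.2).symm
    let f : L →* Z := MonoidHom.mk' (fun l => ⟨⟨n * l * n⁻¹ * (l : G)⁻¹, L.mul_mem (hNL n hn l l.2) (L.inv_mem l.2)⟩, hz l⟩) (by
      intro a b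
      apply Subtype.ext
      apply Subtype.ext
      show n * ((a : G) * b) * n⁻¹ * ((a : G) * b)⁻¹ = (n * a * n⁻¹ * (a : G)⁻¹) * (n * b * n⁻¹ * (b : G)⁻¹)
      have h3 := hcen n hn b b.2 a a.2
      calc n * ((a : G) * b) * n⁻¹ * ((a : G) * b)⁻¹ = (n * a * n⁻¹) * (n * b * n⁻¹ * (b : G)⁻¹) * (a : G)⁻¹ := by group
        _ = (n * a * n⁻¹ * (a : G)⁻¹) * ((a : G) * (n * b * n⁻¹ * (b : G)⁻¹)) * (a : G)⁻¹ := by group
        _ = (n * a * n⁻¹ * (a : G)⁻¹) * ((n * b * n⁻¹ * (b : G)⁻¹) * (a : G)) * (a : G)⁻¹ := by rw [h3]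
        _ = _ := by group)
    have hf : f.ker = ⊤ := by
      have h4 : commutator L ≤ f.ker := by
        rw [commutator_def, commutator_le]
        intro a _ b _
        rw [MonoidHom.mem_ker, map_commutatorElement]
        rw [commutatorElement_eq_one_iff_mul_comm]
        apply Subtype.ext
        exact mem_center_iff.1 (f b).2 (f a)
      rw [Group.isPerfect_def.mp hL.1] at h4
      exact top_le_iff.1 h4
    intro l hl
    have h5 : (⟨l, hl⟩ : L) ∈ f.ker := by rw [hf]; exact mem_top _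
    have h6 : n * l * n⁻¹ * l⁻¹ = 1 := congrArg (fun z : Z => ((z : L) : G)) h5
    have h7 : n * l * n⁻¹ = l := mul_inv_eq_one.1 h6
    rw [mul_inv_eq_iff_eq_mul] at h7
    exact h7.symm
  · left
    intro l hl
    have : (⟨l, hl⟩ : L) ∈ (N ⊓ L).subgroupOf L := by rw [h]; exact mem_top _
    exact this.1

variable {Ω : Type*} [MulAction G Ω]

/-- a perfect group acts trivially on an invariant set of at most four points -/
theorem small {L : Subgroup G} (hL : IsQuasisimple L) {Y : Set Ω} [Finite Y] (hY : ∀ l ∈ L, ∀ y ∈ Y, l • y ∈ Y)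
    (h4 : Nat.card Y ≤ 4) : ∀ l ∈ L, ∀ y ∈ Y, l • y = y := by
  let A : MulAction L Y :=
    { smul := fun l y => ⟨(l : G) • (y : Ω), hY l l.2 y y.2⟩
      one_smul := fun y => Subtype.ext (one_smul G (y : Ω))
      mul_smul := fun a b y => Subtype.ext (mul_smul (a : G) (b : G) (y : Ω)) }
  let f := MulAction.toPermHom L Y
  have hs : Group.IsSolvable (Equiv.Perm Y) := SwapOrbits.isSolvable_perm_of_card_le_four h4
  have h1 : ¬ Nontrivial f.range := by
    intro hnt
    have hp := hL.1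
    have hp' : Group.IsPerfect f.range := Group.IsPerfect.ofSurjective f.rangeRestrict_surjective
    exact Group.IsPerfect.not_isSolvable f.range inferInstance
  rw [not_nontrivial_iff_subsingleton] at h1
  intro l hl y hy
  have h2 : (⟨f ⟨l, hl⟩, ⟨_, rfl⟩⟩ : f.range) = 1 := Subsingleton.elim _ _
  have h3 : f ⟨l, hl⟩ = 1 := congrArg Subtype.val h2
  have h4 := congrArg (fun σ : Equiv.Perm Y => ((σ ⟨y, hy⟩ : Y) : Ω)) h3
  exact h4

end Cfsg.Agent.Lib.H12SylA
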