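import Cfsg.Agent.Lib.H12SylA1

/-! Groups with a normal quasisimple self-centralizing subgroup and regular four-groups on 4-sets: primitivity. -/

set_option autoImplicit false
set_option maxHeartbeats 400000

namespace Cfsg.Agent.Lib.H12SylA

open Cfsg Subgroup MulAction
open scoped Pointwise

/-- the four-group (additive) -/
abbrev V4 := ZMod 2 × ZMod 2

variable {G : Type*} [Group G] {Ω : Type*} [MulAction G Ω]

/-- `t` translates `Q` by `v` and fixes everything else -/
structure Tr (Q : V4 → Ω) (v : V4) (t : G) : Prop where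
  on : ∀ u, t • Q u = Q (u + v)
  off : ∀ x, (∀ u, x ≠ Q u) → t • x = x

theorem V4.card : Nat.card V4 = 4 := by
  rw [Nat.card_prod, Nat.card_zmod]

theorem card_range {Q : V4 → Ω} (hQ : Function.Injective Q) : Nat.card (Set.range Q) = 4 := by
  rw [Nat.card_range_of_injective hQ, V4.card]

theorem not_comm {L : Subgroup G} (hL : IsQuasisimple L) (hC : centralizer (L : Set G) ≤ L) {Q : V4 → Ω}
    (hQ : Function.Injective Q) {v : V4} (hv : v ≠ 0) {t : G} (ht : Tr Q v t) : t ∉ centralizer (L : Set G) := by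
  intro htc
  have hfin : Finite (Set.range Q) := Set.finite_range Q
  have hY : ∀ l ∈ L, ∀ y ∈ Set.range Q, l • y ∈ Set.range Q := by
    rintro l hl _ ⟨u, rfl⟩
    by_contra hcon
    have h1 : t • (l • Q u) = l • Q u := ht.off _ (fun w hw => hcon ⟨w, hw.symm⟩)
    have h2 : l * t = t * l := mem_centralizer_iff.1 htc l hl
    rw [smul_smul, ← h2, ← smul_smul, ht.on] at h1
    have h3 := hQ (smul_left_cancel l h1)
    exact hv (by simpa using h3)
  have h4 := small hL hY (card_range hQ).le t (hC htc) (Q 0) ⟨0, rfl⟩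
  rw [ht.on, zero_add] at h4
  exact hv (hQ h4)

theorem L_fix [FaithfulSMul G Ω] [IsPretransitive G Ω] {L : Subgroup G} [hLn : L.Normal] (hL : IsQuasisimple L)
    {x : Ω} (h : ∀ l ∈ L, l • x = x) : False := by
  have h1 : ∀ l ∈ L, l = 1 := by
    intro l hl
    apply FaithfulSMul.eq_of_smul_eq_smul (α := Ω)
    intro y
    obtain ⟨g, rfl⟩ := exists_smul_eq G x y
    have h2 := h (g⁻¹ * l * g) (by
      have := hLn.conj_mem l hl g⁻¹
      rwa [inv_inv] at this)
    rw [mul_smul, mul_smul, inv_smul_eq_iff] at h2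
    rw [h2, one_smul]
  have hnt := Components.nontrivial_of_quasisimple hL
  obtain ⟨a, b, hab⟩ := hnt
  exact hab (Subtype.ext ((h1 a a.2).trans (h1 b b.2).symm))

theorem prim [FaithfulSMul G Ω] [IsPretransitive G Ω] {L : Subgroup G} [hLn : L.Normal] (hL : IsQuasisimple L)
    (hC : centralizer (L : Set G) ≤ L) {Q : V4 → Ω} (hQ : Function.Injective Q) (T : ∀ v, ∃ t : G, Tr Q v t)
    (hout : ∃ x, ∀ u, x ≠ Q u) : IsPreprimitive G Ω := by
  constructor
  intro B hB
  by_contra hcon
  rw [IsTrivialBlock, not_or, Set.not_subsingleton_iff] at hcon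
  obtain ⟨hBn, hBu⟩ := hcon
  have blk : ∀ (g₁ g₂ : G) (x : Ω), x ∈ g₁ • B → x ∈ g₂ • B → g₁ • B = g₂ • B := by
    intro g₁ g₂ x h1 h2
    by_contra hne
    exact Set.disjoint_left.1 (hB hne) h1 h2
  obtain ⟨b₀, hb₀⟩ := hBn.nonempty
  have cover : ∀ x : Ω, ∃ g : G, x ∈ g • B := by
    intro x
    obtain ⟨g, hg⟩ := exists_smul_eq G b₀ x
    exact ⟨g, by rw [← hg]; exact Set.smul_mem_smul_set hb₀⟩
  let K := (stabilizer G B).normalCore
  have hKn : K.Normal := inferInstance
  have hK : ∀ t : G, (∀ g : G, t • (g • B) = g • B) → t ∈ K := by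
    intro t h g
    rw [mem_stabilizer_iff]
    have h1 := h g⁻¹
    rw [mul_smul, mul_smul, h1, smul_inv_smul]
  have hK' : ∀ t ∈ K, ∀ g : G, t • (g • B) = g • B := by
    intro t ht g
    have h1 := ht g⁻¹
    rw [mem_stabilizer_iff, inv_inv, mul_smul, mul_smul, inv_smul_eq_iff] at h1
    exact h1
  -- no `Tr` element centralizes `L`
  have hKL : (∃ t ∈ K, ∃ v : V4, v ≠ 0 ∧ Tr Q v t) → L ≤ K := by
    rintro ⟨t, ht, v, hv, htr⟩
    rcases dich (N := K) hL (fun n _ l hl => hLn.conj_mem l hl n) (fun l _ n hn => hKn.conj_mem n hn l) with h | h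
    · exact h
    · exact absurd (h ht) (not_comm hL hC hQ hv htr)
  by_cases hcase : ∃ g : G, Set.range Q ⊆ g • B
  · obtain ⟨g, hg⟩ := hcase
    obtain ⟨t, ht⟩ := T (1, 0)
    have hv : ((1, 0) : V4) ≠ 0 := by decide
    have htK : t ∈ K := by
      apply hK
      intro g'
      by_cases hd : ∃ u, Q u ∈ g' • B
      · obtain ⟨u, hu⟩ := hd
        have h1 := blk _ _ _ hu (hg ⟨u, rfl⟩)
        rw [h1]
        have h2 : Q (0 + (1, 0)) ∈ t • (g • B) := by
          rw [← ht.on]
          exact Set.smul_mem_smul_set (hg ⟨0, rfl⟩)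
        rw [smul_smul] at h2 ⊢
        exact blk _ _ _ h2 (hg ⟨_, rfl⟩)
      · ext x
        have hfix : ∀ x ∈ g' • B, t • x = x := by
          intro x hx
          exact ht.off x (fun u hu => hd ⟨u, hu ▸ hx⟩)
        constructor
        · rintro ⟨y, hy, rfl⟩
          show t • y ∈ _
          rw [hfix y hy]
          exact hy
        · intro hx
          exact ⟨x, hx, hfix x hx⟩
    have hLK := hKL ⟨t, htK, _, hv, ht⟩
    -- another block
    obtain ⟨y, hy⟩ : ∃ y, y ∉ g • B := by
      by_contra hcon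
      push Not at hcon
      apply hBu
      ext z
      simp only [Set.mem_univ, iff_true]
      have := hcon (g • z)
      rwa [Set.smul_mem_smul_set_iff] at this
    obtain ⟨g₂, hg₂⟩ := cover y
    have hdis : ∀ u, Q u ∉ g₂ • B := by
      intro u hu
      apply hy
      rw [blk _ _ _ (hg ⟨u, rfl⟩) hu]
      exact hg₂
    let N := fixingSubgroup G (g₂ • B) ⊓ K
    have hNmem : ∀ n, n ∈ N ↔ (∀ z ∈ g₂ • B, n • z = z) ∧ n ∈ K := by
      intro n
      rw [mem_inf, mem_fixingSubgroup_iff]
    have htN : t ∈ N := by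
      rw [hNmem]
      exact ⟨fun z hz => ht.off z (fun u hu => hdis u (hu ▸ hz)), htK⟩
    have hLN : ∀ l ∈ L, ∀ n ∈ N, l * n * l⁻¹ ∈ N := by
      intro l hl n hn
      rw [hNmem] at hn ⊢
      refine ⟨?_, hKn.conj_mem n hn.2 l⟩
      intro z hz
      have h1 : l⁻¹ • z ∈ g₂ • B := by
        have h2 := hK' l⁻¹ (K.inv_mem (hLK hl)) g₂
        rw [← h2]
        exact Set.smul_mem_smul_set hz
      rw [mul_smul, mul_smul, hn.1 _ h1, smul_inv_smul]
    rcases dich (N := N) hL (fun n _ l hl => hLn.conj_mem l hl n) hLN with h | h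
    · exact L_fix hL (x := y) (fun l hl => ((hNmem l).1 (h hl)).1 y hg₂)
    · exact not_comm hL hC hQ hv ht (h htN)
  · -- blocks meeting Q are inside Q
    have hin : ∀ (g : G) (u : V4), Q u ∈ g • B → g • B ⊆ Set.range Q := by
      intro g u hu x hx
      by_contra hx'
      apply hcase
      refine ⟨g, ?_⟩
      rintro _ ⟨w, rfl⟩
      obtain ⟨t, ht⟩ := T (w - u)
      have h1 : t • x = x := ht.off x (fun z hz => hx' ⟨z, hz.symm⟩)
      have h2 : x ∈ t • (g • B) := by
        rw [← h1]
        exact Set.smul_mem_smul_set hx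
      rw [smul_smul] at h2
      have h3 := blk _ _ _ h2 hx
      rw [← h3, ← smul_smul]
      have h4 : t • Q u = Q w := by rw [ht.on]; congr 1; abel
      rw [← h4]
      exact Set.smul_mem_smul_set hu
    obtain ⟨g, hg⟩ := cover (Q 0)
    have hgB := hin g 0 hg
    -- a second point
    obtain ⟨v, hv0, hv⟩ : ∃ v : V4, v ≠ 0 ∧ Q v ∈ g • B := by
      obtain ⟨a, ha, b, hb, hab⟩ := hBn
      have h1 : g • a ∈ g • B := Set.smul_mem_smul_set ha
      have h2 : g • b ∈ g • B := Set.smul_mem_smul_set hb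
      obtain ⟨u, hu⟩ := hgB h1
      obtain ⟨w, hw⟩ := hgB h2
      by_cases hu0 : u = 0
      · refine ⟨w, ?_, by rw [hw]; exact h2⟩
        rintro rfl
        apply hab
        rw [hu0] at hu
        exact smul_left_cancel g (hu.symm.trans hw)
      · exact ⟨u, hu0, by rw [hu]; exact h1⟩
    obtain ⟨t, ht⟩ := T v
    have htK : t ∈ K := by
      apply hK
      intro g'
      by_cases hd : ∃ u, Q u ∈ g' • B
      · obtain ⟨u, hu⟩ := hd
        obtain ⟨s, hs⟩ := T u
        have h1 : Q u ∈ (s * g) • B := by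
          rw [← smul_smul]
          have h2 : s • Q 0 = Q u := by rw [hs.on, zero_add]
          rw [← h2]
          exact Set.smul_mem_smul_set hg
        have h2 : Q (v + u) ∈ (s * g) • B := by
          rw [← smul_smul, ← hs.on]
          exact Set.smul_mem_smul_set hv
        have h3 := blk _ _ _ hu h1
        rw [h3, smul_smul]
        have h4 : Q (u + v) ∈ (t * (s * g)) • B := by
          rw [← smul_smul, ← ht.on]
          exact Set.smul_mem_smul_set h1
        rw [add_comm u v] at h4
        exact blk _ _ _ h4 h2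
      · ext x
        have hfix : ∀ x ∈ g' • B, t • x = x := by
          intro x hx
          exact ht.off x (fun u hu => hd ⟨u, hu ▸ hx⟩)
        constructor
        · rintro ⟨y, hy, rfl⟩
          show t • y ∈ _
          rw [hfix y hy]
          exact hy
        · intro hx
          exact ⟨x, hx, hfix x hx⟩
    have hLK := hKL ⟨t, htK, _, hv0, ht⟩
    have hfin : Finite (Set.range Q) := Set.finite_range Q
    have hfin2 : Finite ↥(g • B) := Set.Finite.subset (Set.finite_range Q) hgB
    have hc : Nat.card ↥(g • B) ≤ 4 := by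
      rw [← card_range hQ]
      exact Nat.card_mono (Set.finite_range Q) hgB
    have hY : ∀ l ∈ L, ∀ y ∈ g • B, l • y ∈ g • B := by
      intro l hl y hy
      rw [← hK' l (hLK hl) g]
      exact Set.smul_mem_smul_set hy
    exact L_fix hL (fun l hl => small hL hY hc l hl (Q 0) hg)

end Cfsg.Agent.Lib.H12SylA
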