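import Cfsg.Agent.Lib.H12SylA2

/-! Degree 8 -/

set_option autoImplicit false
set_option maxHeartbeats 400000

namespace Cfsg.Agent.Lib.H12SylA

open Cfsg Subgroup MulAction
open scoped Pointwise

variable {G : Type*} [Group G] {Ω : Type*} [MulAction G Ω]

theorem range_prim [hprim : IsPreprimitive G Ω] : IsPreprimitive (toPermHom G Ω).range Ω := by
  have htr : IsPretransitive (toPermHom G Ω).range Ω := by
    refine ⟨fun p q => ?_⟩
    obtain ⟨g, hg⟩ := hprim.toIsPretransitive.exists_smul_eq p q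
    exact ⟨⟨toPermHom G Ω g, ⟨g, rfl⟩⟩, hg⟩
  refine { toIsPretransitive := htr, isTrivialBlock_of_isBlock := ?_ }
  intro B hB
  apply hprim.isTrivialBlock_of_isBlock
  rw [isBlock_iff_smul_eq_or_disjoint] at hB ⊢
  intro g
  exact hB ⟨toPermHom G Ω g, ⟨g, rfl⟩⟩

variable [Fintype Ω] [DecidableEq Ω]

/-- the underlying finite set -/
def qs (Q : V4 → Ω) : Finset Ω := Finset.univ.image Q

theorem mem_qs {Q : V4 → Ω} {x : Ω} : x ∈ qs Q ↔ ∃ u, Q u = x := by
  simp [qs]

theorem qs_card {Q : V4 → Ω} (hQ : Function.Injective Q) : (qs Q).card = 4 := by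
  rw [qs, Finset.card_image_of_injective _ hQ]
  rfl

theorem mem_gsmul (g : G) (A : Finset Ω) (x : Ω) : x ∈ g • A ↔ g⁻¹ • x ∈ A := Finset.inv_smul_mem_iff.symm

theorem gcompl (g : G) (A : Finset Ω) : g • Aᶜ = (g • A)ᶜ := by
  ext x
  rw [mem_gsmul, Finset.mem_compl, Finset.mem_compl, mem_gsmul]

/-- element with support `g • qs Q` -/
theorem exists_supp {Q : V4 → Ω} (hQ : Function.Injective Q) (T : ∀ v, ∃ t : G, Tr Q v t) (g : G) :
    ∃ a : G, (toPerm a : Equiv.Perm Ω).support = g • qs Q := by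
  obtain ⟨t, ht⟩ := T (1, 0)
  refine ⟨g * t * g⁻¹, ?_⟩
  ext x
  rw [Equiv.Perm.mem_support, mem_gsmul, mem_qs, toPerm_apply]
  constructor
  · intro h
    by_contra hcon
    apply h
    rw [mul_smul, mul_smul, ht.off _ (fun u hu => hcon ⟨u, hu.symm⟩), smul_inv_smul]
  · rintro ⟨u, hu⟩ h
    rw [mul_smul, mul_smul, ← hu, ht.on, ← eq_inv_smul_iff, ← hu] at h
    have := hQ h
    have h2 : ((1, 0) : V4) = 0 := by simpa using this
    exact absurd h2 (by decide)

theorem three [hprim : IsPreprimitive G Ω] {A B : Finset Ω} (hA : ∃ a : G, (toPerm a : Equiv.Perm Ω).support = A)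
    (hB : ∃ a : G, (toPerm a : Equiv.Perm Ω).support = B) (hAB : (A ∩ B).card = 1) :
    ∀ σ : Equiv.Perm Ω, Equiv.Perm.sign σ = 1 → ∃ x : G, (toPerm x : Equiv.Perm Ω) = σ := by
  obtain ⟨a, ha⟩ := hA
  obtain ⟨b, hb⟩ := hB
  obtain ⟨x, hx⟩ := Finset.card_eq_one.1 hAB
  rw [← ha, ← hb] at hx
  have h3 := H53Deg11.threeCycle_of_inter hx
  have hR : (toPerm a * toPerm b * (toPerm a)⁻¹ * (toPerm b)⁻¹ : Equiv.Perm Ω) ∈ (toPermHom G Ω).range :=
    ⟨a * b * a⁻¹ * b⁻¹, by simp [map_mul, map_inv]⟩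
  have h4 := Equiv.Perm.alternatingGroup_le_of_isPreprimitive_of_isThreeCycle_mem (range_prim (G := G) (Ω := Ω)) h3 hR
  intro σ hσ
  exact h4 (Equiv.Perm.mem_alternatingGroup.2 hσ)

/-- counting: a family of 4-sets through `o` in an 8-set, pairwise meeting in two or four points -/
theorem count {o : Ω} (hcard : Fintype.card Ω = 8) (T0 : Finset (Finset Ω)) (h4 : ∀ A ∈ T0, A.card = 4)
    (ho : ∀ A ∈ T0, o ∈ A) (h1 : ∀ A ∈ T0, ∀ B ∈ T0, (A ∩ B).card ≠ 3) : T0.card ≤ 7 := by
  have hx : ∀ x, x ≠ o → (T0.filter (fun A => x ∈ A)).card ≤ 3 := by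
    intro x hx
    have hdis : ∀ A ∈ T0.filter (fun A => x ∈ A), ∀ B ∈ T0.filter (fun A => x ∈ A), A ≠ B →
        Disjoint (A \ {o, x}) (B \ {o, x}) := by
      intro A hA B hB hAB
      rw [Finset.mem_filter] at hA hB
      have hsub : ({o, x} : Finset Ω) ⊆ A ∩ B := by
        intro z hz
        rw [Finset.mem_insert, Finset.mem_singleton] at hz
        rw [Finset.mem_inter]
        rcases hz with rfl | rfl
        · exact ⟨ho A hA.1, ho B hB.1⟩
        · exact ⟨hA.2, hB.2⟩
      have hc2 : ({o, x} : Finset Ω).card = 2 := Finset.card_pair hx.symm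
      have h3 := h1 A hA.1 B hB.1
      have h5 : (A ∩ B).card ≤ 4 := by rw [← h4 A hA.1]; exact Finset.card_le_card Finset.inter_subset_left
      have h6 : (A ∩ B).card ≠ 4 := by
        intro h
        have e1 : A ∩ B = A := Finset.eq_of_subset_of_card_le Finset.inter_subset_left (by rw [h4 A hA.1, h])
        have e2 : A ∩ B = B := Finset.eq_of_subset_of_card_le Finset.inter_subset_right (by rw [h4 B hB.1, h])
        exact hAB (e1.symm.trans e2)
      have h7 : A ∩ B = {o, x} := by
        symm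
        apply Finset.eq_of_subset_of_card_le hsub
        rw [hc2]
        omega
      rw [Finset.disjoint_left]
      intro z hz hz'
      rw [Finset.mem_sdiff] at hz hz'
      apply hz.2
      rw [← h7, Finset.mem_inter]
      exact ⟨hz.1, hz'.1⟩
    have h8 := Finset.card_biUnion hdis
    have h9 : ∀ A ∈ T0.filter (fun A => x ∈ A), (A \ {o, x}).card = 2 := by
      intro A hA
      rw [Finset.mem_filter] at hA
      have hsub : ({o, x} : Finset Ω) ⊆ A := by
        intro z hz
        rw [Finset.mem_insert, Finset.mem_singleton] at hz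
        rcases hz with rfl | rfl
        · exact ho A hA.1
        · exact hA.2
      rw [Finset.card_sdiff_of_subset hsub, h4 A hA.1, Finset.card_pair hx.symm]
    rw [Finset.sum_congr rfl h9, Finset.sum_const, smul_eq_mul] at h8
    have h10 : ((T0.filter (fun A => x ∈ A)).biUnion (fun A => A \ {o, x})) ⊆ Finset.univ \ {o, x} := by
      intro z hz
      rw [Finset.mem_biUnion] at hz
      obtain ⟨A, -, hA⟩ := hz
      rw [Finset.mem_sdiff] at hA ⊢
      exact ⟨Finset.mem_univ _, hA.2⟩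
    have h11 := Finset.card_le_card h10
    rw [Finset.card_sdiff_of_subset (Finset.subset_univ _), Finset.card_univ, hcard, Finset.card_pair hx.symm] at h11
    omega
  have e1 : ∀ A ∈ T0, (A.erase o).card = 3 := by
    intro A hA
    rw [Finset.card_erase_of_mem (ho A hA), h4 A hA]
  have e2 : ∑ A ∈ T0, (A.erase o).card = ∑ x ∈ Finset.univ.erase o, (T0.filter (fun A => x ∈ A)).card := by
    have e3 : ∀ A ∈ T0, (A.erase o).card = ∑ x ∈ Finset.univ.erase o, if x ∈ A then 1 else 0 := by
      intro A _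
      rw [Finset.sum_ite, Finset.sum_const_zero, add_zero, Finset.sum_const, smul_eq_mul, mul_one]
      congr 1
      ext z
      rw [Finset.mem_erase, Finset.mem_filter, Finset.mem_erase]
      simp [and_comm]
    rw [Finset.sum_congr rfl e3, Finset.sum_comm]
    apply Finset.sum_congr rfl
    intro x _
    rw [Finset.sum_ite, Finset.sum_const_zero, add_zero, Finset.sum_const, smul_eq_mul, mul_one]
  rw [Finset.sum_congr rfl e1, Finset.sum_const, smul_eq_mul] at e2
  have e4 : ∑ x ∈ Finset.univ.erase o, (T0.filter (fun A => x ∈ A)).card ≤ ∑ _x ∈ (Finset.univ : Finset Ω).erase o, 3 :=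
    Finset.sum_le_sum (fun x hx' => hx x (Finset.ne_of_mem_erase hx'))
  rw [Finset.sum_const, smul_eq_mul, Finset.card_erase_of_mem (Finset.mem_univ _), Finset.card_univ, hcard] at e4
  omega

end Cfsg.Agent.Lib.H12SylA
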