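import Cfsg.Agent.Lib.H12SylA3

/-! Degree 8, the conclusion; the final isomorphism -/

set_option autoImplicit false
set_option maxHeartbeats 1000000

namespace Cfsg.Agent.Lib.H12SylA

open Cfsg Subgroup MulAction
open scoped Pointwise

variable {G : Type*} [Group G] {Ω : Type*} [MulAction G Ω] [Fintype Ω] [DecidableEq Ω]

theorem comm_of_sq {N : Subgroup G} (h : ∀ n ∈ N, n * n = 1) : ∀ a ∈ N, ∀ b ∈ N, a * b = b * a := by
  intro a ha b hb
  have h1 := h _ (N.mul_mem ha hb)
  have h2 : a⁻¹ = a := inv_eq_of_mul_eq_one_left (h a ha)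
  have h3 : b⁻¹ = b := inv_eq_of_mul_eq_one_left (h b hb)
  have h4 : (a * b)⁻¹ = a * b := inv_eq_of_mul_eq_one_left h1
  rw [mul_inv_rev, h2, h3] at h4
  exact h4.symm

theorem eight [Finite G] [FaithfulSMul G Ω] [hprim : IsPreprimitive G Ω] {L : Subgroup G} [hLn : L.Normal]
    (hL : IsQuasisimple L)
    (hcard : Fintype.card Ω = 8) {Q : Fin 2 → V4 → Ω} (hQ : ∀ i, Function.Injective (Q i))
    (hQ2 : ∀ u w, Q 0 u ≠ Q 1 w) (T : ∀ i v, ∃ t : G, Tr (Q i) v t) (h64 : 64 ∣ Nat.card G) :
    ∀ σ : Equiv.Perm Ω, Equiv.Perm.sign σ = 1 → ∃ x : G, (toPerm x : Equiv.Perm Ω) = σ := by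
  classical
  have hc01 : (qs (Q 0))ᶜ = qs (Q 1) := by
    have hdis : Disjoint (qs (Q 0)) (qs (Q 1)) := by
      rw [Finset.disjoint_left]
      intro x hx hx'
      rw [mem_qs] at hx hx'
      obtain ⟨u, hu⟩ := hx
      obtain ⟨w, hw⟩ := hx'
      exact hQ2 u w (hu.trans hw.symm)
    symm
    apply Finset.eq_of_subset_of_card_le
    · intro x hx
      rw [Finset.mem_compl]
      exact fun h => Finset.disjoint_left.1 hdis h hx
    · rw [Finset.card_compl, hcard, qs_card (hQ 0), qs_card (hQ 1)]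
  have hc10 : (qs (Q 1))ᶜ = qs (Q 0) := by rw [← hc01, compl_compl]
  let S : Finset (Finset Ω) := Finset.univ.filter (fun A => ∃ g : G, ∃ i, A = g • qs (Q i))
  have hS : ∀ A, A ∈ S ↔ ∃ g : G, ∃ i, A = g • qs (Q i) := by
    intro A
    exact (Finset.mem_filter.trans (and_iff_right (Finset.mem_univ _)))
  have hSc : ∀ A ∈ S, Aᶜ ∈ S := by
    intro A hA
    rw [hS] at hA ⊢
    obtain ⟨g, i, rfl⟩ := hA
    fin_cases i
    · exact ⟨g, 1, by show (g • qs (Q 0))ᶜ = _; rw [← gcompl, hc01]⟩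
    · exact ⟨g, 0, by show (g • qs (Q 1))ᶜ = _; rw [← gcompl, hc10]⟩
  have hSg : ∀ (h : G), ∀ A ∈ S, h • A ∈ S := by
    intro h A hA
    rw [hS] at hA ⊢
    obtain ⟨g, i, rfl⟩ := hA
    exact ⟨h * g, i, by rw [mul_smul]⟩
  have hS4 : ∀ A ∈ S, A.card = 4 := by
    intro A hA
    obtain ⟨g, i, rfl⟩ := (hS A).1 hA
    rw [Finset.card_smul_finset, qs_card (hQ i)]
  have hSs : ∀ A ∈ S, ∃ a : G, (toPerm a : Equiv.Perm Ω).support = A := by
    intro A hA
    obtain ⟨g, i, rfl⟩ := (hS A).1 hA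
    exact exists_supp (hQ i) (T i) g
  by_cases h1 : ∃ A ∈ S, ∃ B ∈ S, (A ∩ B).card = 1
  · obtain ⟨A, hA, B, hB, hAB⟩ := h1
    exact three (hSs A hA) (hSs B hB) hAB
  exfalso
  push Not at h1
  have h3 : ∀ A ∈ S, ∀ B ∈ S, (A ∩ B).card ≠ 3 := by
    intro A hA B hB h
    have h2 := h1 _ (hSc A hA) B hB
    have h4 : (A ∩ B).card + (Aᶜ ∩ B).card = B.card := by
      rw [← Finset.card_union_of_disjoint, ← Finset.union_inter_distrib_right, Finset.union_compl, Finset.univ_inter]
      rw [Finset.disjoint_left]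
      intro x hx hx'
      rw [Finset.mem_inter] at hx hx'
      exact (Finset.mem_compl.1 hx'.1) hx.1
    rw [hS4 B hB] at h4
    omega
  let o : Ω := Q 0 0
  let T0 := S.filter (fun A => o ∈ A)
  have hT0 : T0.card ≤ 7 := by
    apply count (o := o) hcard T0
    · intro A hA
      exact hS4 A (Finset.mem_filter.1 hA).1
    · intro A hA
      exact (Finset.mem_filter.1 hA).2
    · intro A hA B hB
      exact h3 A (Finset.mem_filter.1 hA).1 B (Finset.mem_filter.1 hB).1
  let pr : Finset Ω → Finset (Finset Ω) := fun A => {A, Aᶜ}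
  have hprc : ∀ A, pr Aᶜ = pr A := by
    intro A
    show ({Aᶜ, Aᶜᶜ} : Finset (Finset Ω)) = {A, Aᶜ}
    rw [compl_compl, Finset.pair_comm]
  have hprg : ∀ (g : G) A, g • pr A = pr (g • A) := by
    intro g A
    show g • ({A, Aᶜ} : Finset (Finset Ω)) = {g • A, (g • A)ᶜ}
    rw [Finset.smul_finset_insert, Finset.smul_finset_singleton, gcompl]
  let PP : Finset (Finset (Finset Ω)) := T0.image pr
  have hPP7 : PP.card ≤ 7 := Finset.card_image_le.trans hT0
  have hPP : ∀ A ∈ S, pr A ∈ PP := by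
    intro A hA
    by_cases ho : o ∈ A
    · exact Finset.mem_image_of_mem _ (Finset.mem_filter.2 ⟨hA, ho⟩)
    · rw [← hprc]
      exact Finset.mem_image_of_mem _ (Finset.mem_filter.2 ⟨hSc A hA, Finset.mem_compl.2 ho⟩)
  have hPPg : ∀ (g : G), ∀ p ∈ PP, g • p ∈ PP := by
    intro g p hp
    obtain ⟨A, hA, rfl⟩ := Finset.mem_image.1 hp
    rw [hprg]
    exact hPP _ (hSg g A (Finset.mem_filter.1 hA).1)
  let act : MulAction G PP :=
    { smul := fun g p => ⟨g • (p : Finset (Finset Ω)), hPPg g p p.2⟩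
      one_smul := fun p => Subtype.ext (one_smul G (p : Finset (Finset Ω)))
      mul_smul := fun a b p => Subtype.ext (mul_smul a b (p : Finset (Finset Ω))) }
  let f := toPermHom G PP
  have hker : f.ker ≠ ⊥ := by
    intro hbot
    have e1 : Nat.card G = Nat.card f.range := by
      have := Subgroup.card_mul_index f.ker
      rw [Subgroup.index_ker, hbot, Subgroup.card_bot, one_mul] at this
      exact this.symm
    have e2 : Nat.card f.range ∣ Nat.card (Equiv.Perm PP) := Subgroup.card_subgroup_dvd_card _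
    rw [Nat.card_eq_fintype_card (α := Equiv.Perm PP), Fintype.card_perm, Fintype.card_coe] at e2
    have e3 : Nat.card G ∣ Nat.factorial 7 := by
      rw [e1]
      exact e2.trans (Nat.factorial_dvd_factorial hPP7)
    have e4 := h64.trans e3
    revert e4
    decide
  have hN1 : ∀ h ∈ f.ker, ∀ A ∈ S, h • A = A ∨ h • A = Aᶜ := by
    intro h hh A hA
    have e1 : f h = 1 := hh
    have e2 := congrArg (fun σ : Equiv.Perm PP => ((σ ⟨pr A, hPP A hA⟩ : PP) : Finset (Finset Ω))) e1
    have e3 : h • pr A = pr A := e2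
    rw [hprg] at e3
    have e4 : h • A ∈ pr A := by rw [← e3]; exact Finset.mem_insert_self _ _
    rcases Finset.mem_insert.1 e4 with h | h
    · exact Or.inl h
    · exact Or.inr (Finset.mem_singleton.1 h)
  -- separation
  have hsep : ∀ x y : Ω, (∀ A ∈ S, x ∈ A ↔ y ∈ A) → x = y := by
    intro x y hxy
    let B : Set Ω := {z | ∀ A ∈ S, x ∈ A ↔ z ∈ A}
    have hB : IsBlock G B := by
      rw [isBlock_iff_smul_eq_or_disjoint]
      intro g
      by_cases hd : Disjoint (g • B) B
      · exact Or.inr hd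
      · left
        rw [Set.not_disjoint_iff] at hd
        obtain ⟨z, hz1, hz2⟩ := hd
        have key : ∀ A ∈ S, g • x ∈ A ↔ x ∈ A := by
          intro A hA
          have h1 : g⁻¹ • z ∈ B := Set.mem_smul_set_iff_inv_smul_mem.1 hz1
          have h2 := h1 (g⁻¹ • A) (hSg _ _ hA)
          rw [mem_gsmul, mem_gsmul, inv_inv, smul_inv_smul] at h2
          exact h2.trans (hz2 A hA).symm
        ext w
        rw [Set.mem_smul_set_iff_inv_smul_mem]
        constructor
        · intro hw A hA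
          have h2 := hw (g⁻¹ • A) (hSg _ _ hA)
          rw [mem_gsmul, mem_gsmul, inv_inv, smul_inv_smul] at h2
          exact (key A hA).symm.trans h2
        · intro hw A hA
          have h2 := hw (g • A) (hSg _ _ hA)
          have h3 := key (g • A) (hSg _ _ hA)
          rw [mem_gsmul, inv_smul_smul, mem_gsmul] at h3
          rw [mem_gsmul, mem_gsmul] at h2
          exact h3.trans h2
    rcases hprim.isTrivialBlock_of_isBlock hB with h | h
    · exact h (fun A _ => Iff.rfl) hxy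
    · exfalso
      have h1 : Q 0 0 ∈ B := by rw [h]; trivial
      have h2 : Q 1 0 ∈ B := by rw [h]; trivial
      have h3 : qs (Q 0) ∈ S := (hS _).2 ⟨1, 0, by rw [one_smul]⟩
      have h4 := (h1 _ h3).symm.trans (h2 _ h3)
      have h5 := h4.1 (mem_qs.2 ⟨0, rfl⟩)
      obtain ⟨u, hu⟩ := mem_qs.1 h5
      exact hQ2 u 0 hu
  have hN2 : ∀ h ∈ f.ker, h * h = 1 := by
    intro h hh
    apply FaithfulSMul.eq_of_smul_eq_smul (α := Ω)
    intro x
    rw [one_smul]
    apply hsep
    intro A hA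
    have h2 : (h * h) • A = A := by
      rw [mul_smul]
      rcases hN1 h hh A hA with h2 | h2
      · rw [h2, h2]
      · rw [h2, gcompl, h2, compl_compl]
    conv_lhs => rw [← h2]
    rw [mem_gsmul, inv_smul_smul]
  have hNc := comm_of_sq hN2
  have hLN : ¬ L ≤ f.ker := by
    intro hle
    apply Components.not_isMulCommutative_of_quasisimple hL
    refine ⟨⟨?_⟩⟩
    rintro ⟨a, ha⟩ ⟨b, hb⟩
    exact Subtype.ext (hNc a (hle ha) b (hle hb))
  rcases dich (N := f.ker) hL (fun n _ l hl => hLn.conj_mem l hl n)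
      (fun l _ n hn => (inferInstance : f.ker.Normal).conj_mem n hn l) with h | h
  · exact hLN h
  · have htr : IsPretransitive f.ker Ω := by
      have hq : IsQuasiPreprimitive G Ω := inferInstance
      apply IsQuasiPreprimitive.isPretransitive_of_normal (G := G)
      intro hfix
      apply hker
      rw [eq_bot_iff]
      intro n hn
      rw [Subgroup.mem_bot]
      apply FaithfulSMul.eq_of_smul_eq_smul (α := Ω)
      intro x
      have : x ∈ fixedPoints f.ker Ω := by rw [hfix]; trivial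
      rw [one_smul]
      exact this ⟨n, hn⟩
    apply hLN
    intro l hl
    let x0 : Ω := Q 0 0
    obtain ⟨⟨n, hn⟩, hnx⟩ := htr.exists_smul_eq x0 (l • x0)
    have hnx' : n • x0 = l • x0 := hnx
    have hcx : (n⁻¹ * l) • x0 = x0 := by rw [mul_smul, ← hnx', inv_smul_smul]
    have hcomm : ∀ m ∈ f.ker, (n⁻¹ * l) * m = m * (n⁻¹ * l) := by
      intro m hm
      have e1 : l * m = m * l := mem_centralizer_iff.1 (h hm) l hl
      rw [mul_assoc, e1, ← mul_assoc, hNc _ (f.ker.inv_mem hn) m hm, mul_assoc]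
    have h1 : n⁻¹ * l = 1 := by
      apply FaithfulSMul.eq_of_smul_eq_smul (α := Ω)
      intro y
      obtain ⟨⟨m, hm⟩, hmy⟩ := htr.exists_smul_eq x0 y
      have hmy' : m • x0 = y := hmy
      rw [← hmy', smul_smul, hcomm m hm, mul_smul, hcx, one_smul]
    rw [inv_mul_eq_one] at h1
    rw [← h1]
    exact hn

end Cfsg.Agent.Lib.H12SylA
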