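import Cfsg.Agent.Lib.H12SylA4

/-! The final isomorphism and the transitive case. -/

set_option autoImplicit false
set_option maxHeartbeats 1000000

namespace Cfsg.Agent.Lib.H12SylA

open Cfsg Subgroup MulAction
open scoped Pointwise

variable {G : Type*} [Group G] {Ω : Type*} [MulAction G Ω] [Fintype Ω] [DecidableEq Ω]

theorem iso_of_even [FaithfulSMul G Ω] {L : Subgroup G} [hLn : L.Normal]
    (hL : IsQuasisimple L) (hC : centralizer (L : Set G) ≤ L) (h5 : 5 ≤ Fintype.card Ω)
    (heven : ∀ σ : Equiv.Perm Ω, Equiv.Perm.sign σ = 1 → ∃ x : G, (toPerm x : Equiv.Perm Ω) = σ) :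
    Nonempty (L ≃* alternatingGroup Ω) := by
  let φ := toPermHom G Ω
  have hφ : Function.Injective φ := toPerm_injective
  let A : Subgroup G := (alternatingGroup Ω).comap φ
  have hAn : A.Normal := inferInstance
  have hmap : A.map φ = alternatingGroup Ω := by
    apply le_antisymm
    · rintro _ ⟨a, ha, rfl⟩
      exact ha
    · intro σ hσ
      obtain ⟨x, hx⟩ := heven σ (Equiv.Perm.mem_alternatingGroup.1 hσ)
      refine ⟨x, ?_, hx⟩
      show φ x ∈ alternatingGroup Ω
      rw [show φ x = σ from hx]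
      exact hσ
  have h5' : 5 ≤ Nat.card Ω := by rw [Nat.card_eq_fintype_card]; exact h5
  have hsimple : IsSimpleGroup (alternatingGroup Ω) := alternatingGroup.isSimpleGroup h5'
  -- noncommuting even permutations
  have hnc : ¬ ∀ a ∈ A, ∀ b ∈ A, a * b = b * a := by
    intro hcon
    have h1 : ∀ σ τ : alternatingGroup Ω, σ * τ = τ * σ := by
      intro σ τ
      have e1 : (σ : Equiv.Perm Ω) ∈ A.map φ := by rw [hmap]; exact σ.2
      have e2 : (τ : Equiv.Perm Ω) ∈ A.map φ := by rw [hmap]; exact τ.2
      obtain ⟨a, ha, ha'⟩ := e1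
      obtain ⟨b, hb, hb'⟩ := e2
      apply Subtype.ext
      show (σ : Equiv.Perm Ω) * τ = τ * σ
      rw [← ha', ← hb', ← map_mul, ← map_mul, hcon a ha b hb]
    have h2 : Group.IsSolvable (alternatingGroup Ω) := Group.isSolvable_of_comm h1
    have h3 : Group.IsSolvable (Equiv.Perm Ω) := by
      refine Group.isSolvable_of_ker_le_range (alternatingGroup Ω).subtype (Equiv.Perm.sign) ?_
      rw [Subgroup.range_subtype]
      exact le_rfl
    refine Equiv.Perm.not_isSolvable Ω ?_ h3
    rw [Cardinal.mk_fintype]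
    exact_mod_cast h5
  have hLA : L ≤ A := by
    rcases dich (N := A) hL (fun n _ l hl => hLn.conj_mem l hl n) (fun l _ n hn => hAn.conj_mem n hn l) with h | h
    · exact h
    · exfalso
      apply hnc
      intro a ha b hb
      exact (mem_centralizer_iff.1 (h ha) b (hC (h hb))).symm
  -- the image of L is normal in the alternating group
  have hle : L.map φ ≤ alternatingGroup Ω := by rw [← hmap]; exact map_mono hLA
  have hn : ((L.map φ).subgroupOf (alternatingGroup Ω)).Normal := by
    constructor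
    intro x hx g
    rw [mem_subgroupOf] at hx ⊢
    obtain ⟨l, hl, hlx⟩ := hx
    have e1 : (g : Equiv.Perm Ω) ∈ A.map φ := by rw [hmap]; exact g.2
    obtain ⟨a, -, ha⟩ := e1
    refine ⟨a * l * a⁻¹, hLn.conj_mem l hl a, ?_⟩
    rw [map_mul, map_mul, map_inv, ha, hlx]
    rfl
  have htop : L.map φ = alternatingGroup Ω := by
    rcases hn.eq_bot_or_eq_top with h | h
    · exfalso
      have hnt := Components.nontrivial_of_quasisimple hL
      obtain ⟨a, b, hab⟩ := hnt
      apply hab
      have h1 : ∀ l : L, (l : G) = 1 := by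
        intro l
        have e1 : (⟨φ l, hle ⟨l, l.2, rfl⟩⟩ : alternatingGroup Ω) ∈ (L.map φ).subgroupOf (alternatingGroup Ω) :=
          ⟨l, l.2, rfl⟩
        rw [h, Subgroup.mem_bot] at e1
        have e2 : φ l = 1 := congrArg Subtype.val e1
        exact (map_eq_one_iff φ hφ).1 e2
      exact Subtype.ext ((h1 a).trans (h1 b).symm)
    · exact le_antisymm hle (subgroupOf_eq_top.1 h)
  have e1 := L.equivMapOfInjective φ hφ
  exact ⟨e1.trans (MulEquiv.subgroupCongr htop)⟩

theorem transitive_case [Finite G] [FaithfulSMul G Ω] [IsPretransitive G Ω] {L : Subgroup G} [hLn : L.Normal]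
    (hL : IsQuasisimple L) (hC : centralizer (L : Set G) ≤ L) {k : ℕ} (hk : 2 ≤ k)
    {Q : Fin k → V4 → Ω} (hQ : Function.Injective (fun p : Fin k × V4 => Q p.1 p.2))
    (T : ∀ i v, ∃ t : G, Tr (Q i) v t) (h64 : 64 ∣ Nat.card G) :
    Nonempty (L ≃* alternatingGroup Ω) := by
  have hQi : ∀ i, Function.Injective (Q i) := by
    intro i u w h
    have : (i, u) = (i, w) := hQ h
    exact (Prod.ext_iff.1 this).2
  have h8 : 8 ≤ Fintype.card Ω := by
    have h1 := Fintype.card_le_of_injective _ hQ
    have h2 : Fintype.card (Fin k × V4) = k * 4 := by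
      rw [Fintype.card_prod, Fintype.card_fin]
      rfl
    rw [h2] at h1
    omega
  have hprim : IsPreprimitive G Ω := prim hL hC (hQi ⟨0, by omega⟩) (T _) (by
    refine ⟨Q ⟨1, by omega⟩ 0, ?_⟩
    intro u hu
    have : ((⟨1, by omega⟩ : Fin k), (0 : V4)) = (⟨0, by omega⟩, u) := hQ hu
    have h1 := congrArg (fun p : Fin k × V4 => (p.1 : ℕ)) this
    simp at h1)
  apply iso_of_even hL hC (by omega)
  rcases Nat.eq_or_lt_of_le h8 with h | h
  · -- degree 8
    apply eight (Q := fun i => Q ⟨i, by omega⟩) hL h.symm (fun i => hQi _) _ (fun i => T _) h64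
    intro u w hu
    have : ((⟨0, by omega⟩ : Fin k), u) = (⟨1, by omega⟩, w) := hQ hu
    have h1 := congrArg (fun p : Fin k × V4 => (p.1 : ℕ)) this
    simp at h1
  · let i0 : Fin k := ⟨0, by omega⟩
    have hnc : (Set.range (Q i0)).ncard = 4 := by
      rw [← Nat.card_coe_set_eq]
      exact card_range (hQi i0)
    apply S3620.result (G := G) (Γ := Set.range (Q i0))
    · intro N hN hN1
      have hq : IsQuasiPreprimitive G Ω := inferInstance
      apply IsQuasiPreprimitive.isPretransitive_of_normal (G := G)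
      intro hfix
      apply hN1
      rw [eq_bot_iff]
      intro n hn
      rw [Subgroup.mem_bot]
      apply FaithfulSMul.eq_of_smul_eq_smul (α := Ω)
      intro x
      have : x ∈ fixedPoints N Ω := by rw [hfix]; trivial
      rw [one_smul]
      exact this ⟨n, hn⟩
    · rw [hnc]; norm_num
    · rw [hnc]; omega
    · refine ⟨?_⟩
      rintro ⟨x, hx⟩ ⟨y, hy⟩
      have hx' : x ∈ Set.range (Q i0) := by
        by_contra hcon
        exact hx hcon
      have hy' : y ∈ Set.range (Q i0) := by
        by_contra hcon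
        exact hy hcon
      obtain ⟨u, rfl⟩ := hx'
      obtain ⟨w, rfl⟩ := hy'
      obtain ⟨t, ht⟩ := T i0 (w - u)
      have htm : t ∈ fixingSubgroup G (Set.range (Q i0))ᶜ := by
        rw [mem_fixingSubgroup_iff]
        intro z hz
        exact ht.off z (fun v hv => hz ⟨v, hv.symm⟩)
      refine ⟨⟨t, htm⟩, Subtype.ext ?_⟩
      show t • Q i0 u = Q i0 w
      rw [ht.on]
      congr 1
      abel

end Cfsg.Agent.Lib.H12SylA
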