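import Cfsg.Agent.Lib.H12SylA5

/-! Translations inside a Sylow 2-subgroup of the alternating group; the general case. -/

set_option autoImplicit false
set_option maxHeartbeats 1000000

namespace Cfsg.Agent.Lib.H12SylA

open Cfsg Subgroup MulAction

/-- blockwise translation -/
def tau (k r : ℕ) (f : Fin k → V4) : Equiv.Perm ((Fin k × V4) ⊕ Fin r) :=
  Equiv.Perm.sumCongr (Equiv.prodCongrRight fun i => Equiv.addRight (f i)) 1

theorem tau_inl (k r : ℕ) (f : Fin k → V4) (i : Fin k) (u : V4) : tau k r f (Sum.inl (i, u)) = Sum.inl (i, u + f i) := rfl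

theorem tau_inr (k r : ℕ) (f : Fin k → V4) (j : Fin r) : tau k r f (Sum.inr j) = Sum.inr j := rfl

theorem sign_shift : ∀ v : V4, Equiv.Perm.sign (Equiv.addRight v : Equiv.Perm V4) = 1 := by decide

theorem sign_tau (k r : ℕ) (f : Fin k → V4) : Equiv.Perm.sign (tau k r f) = 1 := by
  unfold tau
  rw [Equiv.Perm.sign_sumCongr, Equiv.Perm.sign_prodCongrRight, map_one, mul_one]
  exact Finset.prod_eq_one (fun i _ => sign_shift _)

theorem tau_mul (k r : ℕ) (f g : Fin k → V4) : tau k r (f + g) = tau k r f * tau k r g := by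
  ext x
  rw [Equiv.Perm.mul_apply]
  rcases x with ⟨i, u⟩ | j
  · rw [tau_inl, tau_inl, tau_inl, Pi.add_apply, add_assoc, add_comm (f i)]
  · rw [tau_inr, tau_inr, tau_inr]

theorem exists_blocks (n : ℕ) (P : Sylow 2 (alternatingGroup (Fin n))) :
    ∃ Q : Fin (n / 4) → V4 → Fin n, Function.Injective (fun p : Fin (n / 4) × V4 => Q p.1 p.2) ∧
      ∀ i v, ∃ t ∈ (P : Subgroup (alternatingGroup (Fin n))), Tr (G := Equiv.Perm (Fin n)) (Q i) v (t : Equiv.Perm (Fin n)) := by
  have hcard : Fintype.card ((Fin (n / 4) × V4) ⊕ Fin (n % 4)) = Fintype.card (Fin n) := by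
    rw [Fintype.card_sum, Fintype.card_prod, Fintype.card_fin, Fintype.card_fin, Fintype.card_fin]
    have : Fintype.card V4 = 4 := rfl
    rw [this]
    omega
  let e : ((Fin (n / 4) × V4) ⊕ Fin (n % 4)) ≃ Fin n := Fintype.equivOfCardEq hcard
  let Ψ : Multiplicative (Fin (n / 4) → V4) →* alternatingGroup (Fin n) := MonoidHom.mk'
    (fun f => ⟨e.permCongr (tau _ _ f.toAdd), by
      rw [Equiv.Perm.mem_alternatingGroup, Equiv.Perm.sign_permCongr, sign_tau]⟩) (by
      intro f g
      apply Subtype.ext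
      show e.permCongr (tau _ _ (f.toAdd + g.toAdd)) = e.permCongr (tau _ _ f.toAdd) * e.permCongr (tau _ _ g.toAdd)
      rw [tau_mul]
      ext x
      simp)
  have hp : Fact (Nat.Prime 2) := ⟨Nat.prime_two⟩
  have hW : IsPGroup 2 Ψ.range := by
    rintro ⟨_, f, rfl⟩
    refine ⟨1, ?_⟩
    apply Subtype.ext
    show Ψ f ^ (2 ^ 1) = 1
    have hf : f ^ 2 = 1 := by
      rw [pow_two]
      show Multiplicative.ofAdd (f.toAdd + f.toAdd) = Multiplicative.ofAdd 0
      congr 1
      ext i
      · exact (CharTwo.add_self_eq_zero _)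
      · exact (CharTwo.add_self_eq_zero _)
    rw [pow_one, ← map_pow, hf, map_one]
  obtain ⟨P0, hP0⟩ := hW.exists_le_sylow
  obtain ⟨g, hg⟩ := MulAction.exists_smul_eq (alternatingGroup (Fin n)) P0 P
  have hmem : ∀ x ∈ (P0 : Subgroup (alternatingGroup (Fin n))), g * x * g⁻¹ ∈ (P : Subgroup (alternatingGroup (Fin n))) := by
    intro x hx
    rw [← hg, Sylow.coe_subgroup_smul]
    exact Subgroup.smul_mem_pointwise_smul x (MulAut.conj g) _ hx
  refine ⟨fun i u => (g : Equiv.Perm (Fin n)) (e (Sum.inl (i, u))), ?_, ?_⟩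
  · rintro ⟨i, u⟩ ⟨j, w⟩ h
    have h1 := e.injective ((g : Equiv.Perm (Fin n)).injective h)
    exact Sum.inl_injective h1
  · intro i v
    refine ⟨g * Ψ (Multiplicative.ofAdd (Pi.single i v)) * g⁻¹, hmem _ (hP0 ⟨_, rfl⟩), ?_⟩
    have hval : ((g * Ψ (Multiplicative.ofAdd (Pi.single i v)) * g⁻¹ : alternatingGroup (Fin n)) : Equiv.Perm (Fin n)) =
      (g : Equiv.Perm (Fin n)) * e.permCongr (tau _ _ (Pi.single i v)) * (g : Equiv.Perm (Fin n))⁻¹ := rfl
    have hap : ∀ y, (((g : Equiv.Perm (Fin n)) * e.permCongr (tau _ _ (Pi.single i v)) * (g : Equiv.Perm (Fin n))⁻¹ :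
        Equiv.Perm (Fin n)) ((g : Equiv.Perm (Fin n)) (e y))) = (g : Equiv.Perm (Fin n)) (e (tau _ _ (Pi.single i v) y)) := by
      intro y
      simp [Equiv.Perm.mul_apply]
    rw [hval]
    constructor
    · intro u
      show ((g : Equiv.Perm (Fin n)) * _ * _ : Equiv.Perm (Fin n)) ((g : Equiv.Perm (Fin n)) (e (Sum.inl (i, u)))) = _
      rw [hap, tau_inl, Pi.single_eq_same]
    · intro x hx
      obtain ⟨y, rfl⟩ := (g : Equiv.Perm (Fin n)).surjective x
      obtain ⟨y, rfl⟩ := e.surjective y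
      show ((g : Equiv.Perm (Fin n)) * _ * _ : Equiv.Perm (Fin n)) ((g : Equiv.Perm (Fin n)) (e y)) = _
      rw [hap]
      rcases y with ⟨j, u⟩ | j
      · have hji : j ≠ i := by
          rintro rfl
          exact hx u rfl
        rw [tau_inl, Pi.single_eq_of_ne hji, add_zero]
      · rw [tau_inr]

variable {G : Type*} [Group G]

theorem orbit_case [Finite G] {n : ℕ} [MulAction G (Fin n)] [FaithfulSMul G (Fin n)] {L : Subgroup G} [hLn : L.Normal]
    (hL : IsQuasisimple L) (hC : centralizer (L : Set G) ≤ L) (hn : 8 ≤ n)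
    {Q : Fin (n / 4) → V4 → Fin n} (hQ : Function.Injective (fun p : Fin (n / 4) × V4 => Q p.1 p.2))
    (T : ∀ i v, ∃ t : G, Tr (Q i) v t) (h64 : 64 ∣ Nat.card G) :
    ∃ m : ℕ, (m = n - 3 ∨ m = n - 2 ∨ m = n - 1 ∨ m = n) ∧ Nonempty (L ≃* alternatingGroup (Fin m)) := by
  classical
  have hk : 2 ≤ n / 4 := by omega
  have hQi : ∀ i, Function.Injective (Q i) := by
    intro i u w h
    have : (i, u) = (i, w) := hQ h
    exact (Prod.ext_iff.1 this).2
  have hNn : ∀ y : Fin n, ∀ a ∈ fixingSubgroup G (orbit G y), ∀ g : G, g * a * g⁻¹ ∈ fixingSubgroup G (orbit G y) := by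
    intro y a ha g
    rw [mem_fixingSubgroup_iff] at ha ⊢
    intro z hz
    have h1 : g⁻¹ • z ∈ orbit G y := MulAction.mem_orbit_of_mem_orbit g⁻¹ hz
    rw [mul_smul, mul_smul, ha _ h1, smul_inv_smul]
  have hv : ((1, 0) : V4) ≠ 0 := by decide
  have key : ∀ y i, Q i 0 ∉ orbit G y → L ≤ fixingSubgroup G (orbit G y) := by
    intro y i hi
    obtain ⟨t, ht⟩ := T i (1, 0)
    have htN : t ∈ fixingSubgroup G (orbit G y) := by
      rw [mem_fixingSubgroup_iff]
      intro z hz
      apply ht.off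
      intro u hu
      apply hi
      obtain ⟨s, hs⟩ := T i (-u)
      have h1 : s • Q i u = Q i 0 := by rw [hs.on, add_neg_cancel]
      rw [← h1, ← hu]
      exact MulAction.mem_orbit_of_mem_orbit _ hz
    rcases dich (N := fixingSubgroup G (orbit G y)) hL (fun n _ l hl => hLn.conj_mem l hl n)
      (fun l _ n hn => hNn y n hn l) with h | h
    · exact h
    · exact absurd (h htN) (not_comm hL hC (hQi i) hv ht)
  -- a moved point
  obtain ⟨x0, hx0⟩ : ∃ x0 : Fin n, ¬ ∀ l ∈ L, l • x0 = x0 := by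
    by_contra hcon
    push Not at hcon
    have hnt := Components.nontrivial_of_quasisimple hL
    obtain ⟨a, b, hab⟩ := hnt
    apply hab
    apply Subtype.ext
    apply FaithfulSMul.eq_of_smul_eq_smul (α := Fin n)
    intro x
    rw [hcon x a a.2, hcon x b b.2]
  have hnle : ¬ L ≤ fixingSubgroup G (orbit G x0) := by
    intro h
    apply hx0
    intro l hl
    exact (mem_fixingSubgroup_iff G).1 (h hl) x0 (mem_orbit_self x0)
  have hin0 : ∀ i, Q i 0 ∈ orbit G x0 := by
    intro i
    by_contra hcon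
    exact hnle (key x0 i hcon)
  have hin : ∀ i u, Q i u ∈ orbit G x0 := by
    intro i u
    obtain ⟨s, hs⟩ := T i u
    have h1 : s • Q i 0 = Q i u := by rw [hs.on, zero_add]
    rw [← h1]
    exact MulAction.mem_orbit_of_mem_orbit _ (hin0 i)
  have hout : ∀ y, y ∉ orbit G x0 → ∀ l ∈ L, l • y = y := by
    intro y hy l hl
    have h1 : Q ⟨0, by omega⟩ 0 ∉ orbit G y := by
      intro h2
      apply hy
      have h3 := hin0 ⟨0, by omega⟩
      rw [← orbit_eq_iff] at h2 h3
      rw [← orbit_eq_iff, ← h2, h3]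
    exact (mem_fixingSubgroup_iff G).1 (key y _ h1 hl) y (mem_orbit_self y)
  have hfaith : FaithfulSMul G (orbit G x0) := by
    have h1 : ∀ h : G, (∀ z ∈ orbit G x0, h • z = z) → h = 1 := by
      intro h hh
      have hN : h ∈ fixingSubgroup G (orbit G x0) := (mem_fixingSubgroup_iff G).2 hh
      have hhL : h ∈ L := by
        rcases dich (N := fixingSubgroup G (orbit G x0)) hL (fun n _ l hl => hLn.conj_mem l hl n)
          (fun l _ n hn => hNn x0 n hn l) with h' | h'
        · exact absurd h' hnle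
        · exact hC (h' hN)
      apply FaithfulSMul.eq_of_smul_eq_smul (α := Fin n)
      intro y
      rw [one_smul]
      by_cases hy : y ∈ orbit G x0
      · exact hh y hy
      · exact hout y hy h hhL
    refine ⟨fun {a b} hab => ?_⟩
    have h2 : b⁻¹ * a = 1 := by
      apply h1
      intro z hz
      have h3 := congrArg Subtype.val (hab ⟨z, hz⟩)
      have h4 : a • z = b • z := h3
      rw [mul_smul, h4, inv_smul_smul]
    rw [inv_mul_eq_one] at h2
    exact h2.symm
  let Q' : Fin (n / 4) → V4 → orbit G x0 := fun i u => ⟨Q i u, hin i u⟩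
  have hQ' : Function.Injective (fun p : Fin (n / 4) × V4 => Q' p.1 p.2) := by
    intro p q h
    exact hQ (congrArg Subtype.val h)
  have T' : ∀ i v, ∃ t : G, Tr (Q' i) v t := by
    intro i v
    obtain ⟨t, ht⟩ := T i v
    refine ⟨t, ?_, ?_⟩
    · intro u
      exact Subtype.ext (ht.on u)
    · intro x hx
      apply Subtype.ext
      apply ht.off
      intro u hu
      exact hx u (Subtype.ext hu)
  obtain ⟨e⟩ := transitive_case (Ω := orbit G x0) hL hC hk hQ' T' h64
  have hm1 : Fintype.card (orbit G x0) ≤ n := by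
    have := Fintype.card_le_of_injective (Subtype.val : orbit G x0 → Fin n) Subtype.val_injective
    rwa [Fintype.card_fin] at this
  have hm2 : 4 * (n / 4) ≤ Fintype.card (orbit G x0) := by
    have h1 := Fintype.card_le_of_injective _ hQ'
    have h2 : Fintype.card (Fin (n / 4) × V4) = (n / 4) * 4 := by
      rw [Fintype.card_prod, Fintype.card_fin]
      rfl
    rw [h2] at h1
    omega
  refine ⟨Fintype.card (orbit G x0), by omega, ?_⟩
  exact ⟨e.trans (Equiv.altCongrHom (Fintype.equivFin (orbit G x0)))⟩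

end Cfsg.Agent.Lib.H12SylA
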