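import Cfsg.Agent.Lib.CharBasic2
import Cfsg.Agent.Lib.CharCentral
import Cfsg.Agent.Lib.CliffordCorr
import Cfsg.Agent.Lib.DegTools
import Cfsg.Agent.Lib.CoprimeAction
import Cfsg.Agent.Lib.ConjCover

set_option autoImplicit false

/-!
# Vanishing elements (helper12)
-/

namespace Cfsg.Agent.Lib.H12Van

open Cfsg Cfsg.Agent.Lib.CharBasic Cfsg.Agent.Lib.Clifford
open scoped commutatorElement

universe u

variable {G : Type u} [Group G]

/-- A central element acts as a scalar. -/
theorem mul_central {χ : G → ℂ} (hχ : IsIrrCharacter G χ) {z : G}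
    (hz : z ∈ Subgroup.center G) (x : G) : χ (x * z) * χ 1 = χ x * χ z := by
  obtain ⟨n, ρ, hρ, rfl⟩ := hχ
  obtain ⟨c, hc⟩ := CharCentral.exists_scalar_of_commute ρ (ρ z) (by
    intro g v
    have h1 : ρ z * ρ g = ρ g * ρ z := by
      rw [← map_mul, ← map_mul, Subgroup.mem_center_iff.mp hz g]
    exact congrArg (fun f => f v) h1)
  have h2 : ∀ y : G, ρ.character (y * z) = c * ρ.character y := by
    intro y
    rw [Representation.character, map_mul, hc]
    have : ρ y * (c • LinearMap.id) = c • ρ y := by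
      ext v; simp
    rw [this, map_smul, smul_eq_mul]
    rfl
  have h3 := h2 1
  rw [one_mul] at h3
  rw [h2 x, h3]
  ring

/-- If `[x, y]` is central modulo `N` but not in `N`, some irreducible character vanishes at `x`. -/
theorem exists_zero_of_step [Finite G] {N : Subgroup G} [N.Normal] {x y : G}
    (hc : ⁅x, y⁆ ∉ N) (hcen : ∀ h : G, ⁅⁅x, y⁆, h⁆ ∈ N) : ∃ χ : IrrCharacter G, (χ : G → ℂ) x = 0 := by
  have : Finite (G ⧸ N) := inferInstance
  set f := QuotientGroup.mk' N with hf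
  have hcz : f ⁅x, y⁆ ∈ Subgroup.center (G ⧸ N) := by
    rw [Subgroup.mem_center_iff]
    intro h
    obtain ⟨h, rfl⟩ := QuotientGroup.mk'_surjective N h
    have h1 : f ⁅⁅x, y⁆, h⁆ = 1 := (QuotientGroup.eq_one_iff _).mpr (hcen h)
    rw [map_commutatorElement, commutatorElement_eq_one_iff_mul_comm] at h1
    exact h1.symm
  have hne : ¬ IsConj (f ⁅x, y⁆) 1 := by
    intro h
    rw [isConj_one_left] at h
    exact hc ((QuotientGroup.eq_one_iff _).mp h)
  rw [isConj_iff_forall_irr] at hne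
  push Not at hne
  obtain ⟨ψ, hψ⟩ := hne
  refine ⟨⟨fun g => (ψ : G ⧸ N → ℂ) (f g), ψ.2.comp_surjective f (QuotientGroup.mk'_surjective N)⟩, ?_⟩
  show (ψ : G ⧸ N → ℂ) (f x) = 0
  have h1 := mul_central ψ.2 hcz (f (y * x * y⁻¹))
  have h2 : f (y * x * y⁻¹) * f ⁅x, y⁆ = f x := by
    rw [Subgroup.mem_center_iff.mp hcz, ← map_mul]
    congr 1
    rw [commutatorElement_def]; group
  have h3 : (ψ : G ⧸ N → ℂ) (f (y * x * y⁻¹)) = (ψ : G ⧸ N → ℂ) (f x) := by
    rw [map_mul, map_mul, map_inv]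
    exact ψ.2.isClassFunction _ _
  rw [h2, h3] at h1
  have h4 : (ψ : G ⧸ N → ℂ) (f x) * ((ψ : G ⧸ N → ℂ) 1 - (ψ : G ⧸ N → ℂ) (f ⁅x, y⁆)) = 0 := by
    rw [mul_sub, h1, sub_self]
  rcases mul_eq_zero.mp h4 with h | h
  · exact h
  · exact absurd (sub_eq_zero.mp h).symm hψ

/-- A non-vanishing element is central modulo every normal subgroup with nilpotent quotient. -/
theorem commutator_mem_of_nonvanishing [Finite G] {M : Subgroup G} [M.Normal]
    (hnil : Group.IsNilpotent (G ⧸ M)) {x : G} (hx : ∀ χ : IrrCharacter G, (χ : G → ℂ) x ≠ 0)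
    (y : G) : ⁅x, y⁆ ∈ M := by
  set f := QuotientGroup.mk' M with hf
  by_contra hy
  obtain ⟨n, hn⟩ := hnil.nilpotent
  have hex : ∃ i, f x ∈ Subgroup.upperCentralSeries (G ⧸ M) i := ⟨n, by rw [hn]; trivial⟩
  classical
  set i := Nat.find hex with hi
  have hi1 : f x ∈ Subgroup.upperCentralSeries (G ⧸ M) i := Nat.find_spec hex
  have hmin : ∀ k < i, f x ∉ Subgroup.upperCentralSeries (G ⧸ M) k := fun k hk => Nat.find_min hex hk
  have hnc : f x ∉ Subgroup.center (G ⧸ M) := by
    intro h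
    apply hy
    rw [← QuotientGroup.eq_one_iff (N := M)]
    show f ⁅x, y⁆ = 1
    rw [map_commutatorElement, commutatorElement_eq_one_iff_mul_comm]
    exact (Subgroup.mem_center_iff.mp h _).symm
  obtain ⟨j, hj⟩ : ∃ j, i = j + 2 := by
    have h0 : i ≠ 0 := by
      intro h
      rw [h, Subgroup.upperCentralSeries_zero, Subgroup.mem_bot] at hi1
      exact absurd (hi1 ▸ one_mem _) hnc
    have h1 : i ≠ 1 := by
      intro h
      rw [h, Subgroup.upperCentralSeries_one] at hi1
      exact absurd hi1 hnc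
    exact ⟨i - 2, by omega⟩
  have h2 : f x ∉ Subgroup.upperCentralSeries (G ⧸ M) (j + 1) := hmin _ (by omega)
  rw [Subgroup.mem_upperCentralSeries_succ_iff] at h2
  push Not at h2
  obtain ⟨z, hz⟩ := h2
  obtain ⟨z, rfl⟩ := QuotientGroup.mk'_surjective M z
  rw [hj, Subgroup.mem_upperCentralSeries_succ_iff] at hi1
  have h3 := hi1 (f z)
  have : ((Subgroup.upperCentralSeries (G ⧸ M) j).comap f).Normal := inferInstance
  obtain ⟨χ, hχ⟩ := exists_zero_of_step (N := (Subgroup.upperCentralSeries (G ⧸ M) j).comap f)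
    (x := x) (y := z) (by
      rw [Subgroup.mem_comap, map_commutatorElement, commutatorElement_def]
      exact hz) (by
      intro h
      rw [Subgroup.mem_comap, map_commutatorElement, map_commutatorElement, commutatorElement_def]
      rw [Subgroup.mem_upperCentralSeries_succ_iff] at h3
      have := h3 (f h)
      rwa [commutatorElement_def])
  exact hx χ hχ

/-- A non-vanishing element, central modulo `M`, fixes every irreducible character of `M`. -/
theorem cj_eq_of_nonvanishing [Finite G] {M : Subgroup G} [M.Normal] {g : G}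
    (hg : ∀ χ : IrrCharacter G, (χ : G → ℂ) g ≠ 0) (hcen : ∀ y : G, ⁅g, y⁆ ∈ M)
    (θ : IrrCharacter M) : cj M g (θ : M → ℂ) = θ := by
  classical
  have := Fintype.ofFinite G
  have := Fintype.ofFinite M
  by_contra hne
  set T := inertia M (θ : M → ℂ) with hT
  have hMT : M ≤ T := le_inertia θ.2.isClassFunction
  have hgT : g ∉ T := fun h => hne (mem_inertia.mp h)
  obtain ⟨χ, hχ⟩ := DegTools.exists_over M θ.2
  obtain ⟨ψ, hψ, hψ1, -⟩ := CliffordCorr.corr_surj hMT θ.2 (fun g => mem_inertia) χ.2 hχ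
  apply hg χ
  rw [← hψ1]
  unfold indFun
  rw [Finset.sum_eq_zero, mul_zero]
  intro x _
  unfold extendByZero
  rw [Function.extend_apply']
  · rfl
  · rintro ⟨a, ha⟩
    apply hgT
    have h1 : x⁻¹ * g * x ∈ T := ha ▸ a.2
    have h2 : (⁅g, x⁻¹⁆ : G) ∈ T := hMT (hcen _)
    have h3 : g = ⁅g, x⁻¹⁆ * (x⁻¹ * g * x) := by
      rw [commutatorElement_def]; group
    rw [h3]
    exact mul_mem h2 h1

/-- Such an element fixes every class of `M`. -/
theorem exists_conj_of_nonvanishing [Finite G] {M : Subgroup G} [M.Normal] {g : G}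
    (hg : ∀ χ : IrrCharacter G, (χ : G → ℂ) g ≠ 0) (hcen : ∀ y : G, ⁅g, y⁆ ∈ M)
    {m : G} (hm : m ∈ M) : ∃ k ∈ M, g * m * g⁻¹ = k * m * k⁻¹ := by
  have h1 : IsConj (⟨m, hm⟩ : M) (MulAut.conjNormal g ⟨m, hm⟩) := by
    rw [isConj_iff_forall_irr]
    intro θ
    have h2 := congrFun (cj_eq_of_nonvanishing hg hcen θ) ⟨m, hm⟩
    rw [cj_eq_comp] at h2
    exact h2.symm
  obtain ⟨k, hk⟩ := isConj_iff.mp h1
  refine ⟨k, k.2, ?_⟩
  have h3 := congrArg Subtype.val hk
  simp only [MulAut.conjNormal_apply, Subgroup.coe_mul, Subgroup.coe_inv] at h3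
  exact h3.symm

/-- `G` with the conjugation action of `G`. -/
def CJ (G : Type u) : Type u := G

instance : MulAction G (CJ G) := (MulAction.compHom G (MulAut.conj : G →* MulAut G) : MulAction G G)

/-- A coprime cyclic group fixing all classes of `M` centralizes `M`. -/
theorem commute_of_classes [Finite G] {M : Subgroup G} [M.Normal] {y : G}
    (hcop : (orderOf y).Coprime (Nat.card M))
    (hy : ∀ a ∈ Subgroup.zpowers y, ∀ m ∈ M, ∃ k ∈ M, a * m * a⁻¹ = k * m * k⁻¹)
    {m : G} (hm : m ∈ M) : Commute y m := by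
  have hcov : (Subgroup.centralizer {y}).subgroupOf M = ⊤ := by
    apply ConjCover.eq_top_of_forall_conj
    intro g
    obtain ⟨k, hk, h⟩ := CoprimeAction.exists_fixed_point (A := Subgroup.zpowers y) (K := M)
      (by rw [Subgroup.normalizer_eq_top]; exact le_top)
      (by rw [Nat.card_zpowers]; exact hcop) (Or.inl inferInstance)
      (show CJ G from (g : G))
      (by
        intro a ha
        obtain ⟨k, hk, h⟩ := hy a ha g g.2
        exact ⟨k, hk, h⟩)
    refine ⟨⟨k⁻¹, inv_mem hk⟩, ?_⟩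
    rw [Subgroup.mem_subgroupOf, Subgroup.mem_centralizer_singleton_iff]
    have h1 : y * (k * (g : G) * k⁻¹) * y⁻¹ = k * (g : G) * k⁻¹ := h y (Subgroup.mem_zpowers y)
    simp only [Subgroup.coe_mul, Subgroup.coe_inv, inv_inv]
    have h2 : y * (k * (g : G) * k⁻¹) = (k * (g : G) * k⁻¹) * y := by
      rw [← mul_inv_eq_iff_eq_mul]; exact h1
    exact h2.symm
  have h3 : (⟨m, hm⟩ : M) ∈ (Subgroup.centralizer {y}).subgroupOf M := by rw [hcov]; trivial
  rw [Subgroup.mem_subgroupOf, Subgroup.mem_centralizer_singleton_iff] at h3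
  exact Commute.symm h3

end Cfsg.Agent.Lib.H12Van
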