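import Cfsg.Agent.Lib.PNilp
import Cfsg.Agent.Lib.DegRatio
import Cfsg.Agent.Lib.CanonExt
import Cfsg.Agent.Lib.BrauerMap
import Cfsg.Agent.Lib.BlockDeg

/-!
# `|O^p(G)|` modulo `p` and the characters of `p'`-degree and `p'`-determinantal order
(helper74)
-/

set_option autoImplicit false
set_option linter.unusedSectionVars false

namespace Cfsg.Agent.Lib.PResSum

open Cfsg Cfsg.Agent.Lib Cfsg.Agent.Lib.CharBasic Cfsg.Agent.Lib.Clifford
open Cfsg.Agent.Lib.CanonExt Cfsg.Agent.Lib.PNilp

universe u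

theorem pow_hom_eq_one {p : ℕ} [hp : Fact p.Prime] {H : Type*} [Group H] [Finite H]
    (hH : pResidual p H = ⊤) (δ : H →* ℂˣ) : ∃ m : ℕ, ¬ p ∣ m ∧ ∀ h, δ h ^ m = 1 := by
  have hpos : 0 < Nat.card H := Nat.card_pos
  refine ⟨Nat.card H / p ^ (Nat.card H).factorization p,
    Nat.not_dvd_ordCompl hp.out hpos.ne', fun h => ?_⟩
  have h1 : pResidual p H ≤
      (((powMonoidHom (Nat.card H / p ^ (Nat.card H).factorization p) : ℂˣ →* ℂˣ).comp δ).ker) := by
    unfold pResidual
    rw [Subgroup.closure_le]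
    intro g hg
    have hg : Nat.Coprime (orderOf g) p := hg
    rw [SetLike.mem_coe, MonoidHom.mem_ker]
    change δ g ^ _ = 1
    have hd : orderOf g ∣ Nat.card H / p ^ (Nat.card H).factorization p := by
      have h2 : orderOf g ∣ Nat.card H := orderOf_dvd_natCard g
      rw [← Nat.ordProj_mul_ordCompl_eq_self (Nat.card H) p] at h2
      exact (Nat.Coprime.pow_right _ hg).dvd_of_dvd_mul_left h2
    obtain ⟨k, hk⟩ := hd
    rw [hk, ← map_pow, pow_mul, pow_orderOf_eq_one, one_pow, map_one]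
  have h2 : h ∈ pResidual p H := by rw [hH]; exact Subgroup.mem_top _
  exact h1 h2

theorem detOrder_not_dvd {p : ℕ} [hp : Fact p.Prime] {H : Type*} [Group H] [Finite H]
    (hH : pResidual p H = ⊤) {θ : H → ℂ} (hθ : IsCharacter H θ) : ¬ p ∣ detOrder θ := by
  obtain ⟨δ, hδ⟩ := DetChar.exists_detHom hθ
  obtain ⟨m, hm, hm1⟩ := pow_hom_eq_one hH δ
  have h1 : detChar θ ^ m = 1 := by
    funext x
    rw [Pi.pow_apply, hδ, ← Units.val_pow_eq_pow_val, hm1]
    rfl
  intro h
  exact hm (h.trans (orderOf_dvd_of_pow_eq_one h1))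

variable {G : Type u} [Group G] [Finite G] {p : ℕ} [hp : Fact p.Prime]

/-- the restriction to a normal subgroup of `p`-power index is irreducible -/
theorem isIrr_res {N : Subgroup G} [N.Normal] {k : ℕ} (hk : N.index = p ^ k) {χ : G → ℂ}
    (hχ : IsIrrCharacter G χ) (hd : ¬ p ∣ charDegree χ) : IsIrrCharacter N (fun n : N => χ n) := by
  have := Fintype.ofFinite G
  have := Fintype.ofFinite N
  have hres : IsCharacter N (fun n : N => χ n) := hχ.isCharacter.restrict N
  obtain ⟨c, hc0, hc⟩ := hχ.exists_degree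
  have hne : (fun n : N => χ n) ≠ 0 := by
    intro h
    have h1 := congrFun h 1
    change χ 1 = 0 at h1
    rw [hc] at h1
    exact hc0.ne' (by exact_mod_cast h1)
  obtain ⟨θ, hθ⟩ := exists_constituent hres hne
  obtain ⟨d, hd0, hd1⟩ := θ.2.exists_degree
  obtain ⟨f, hf, hfd⟩ := DegRatio.degree_ratio hχ θ.2 hθ hc hd1
  have hcd : charDegree χ = c := by
    unfold charDegree
    rw [hc]
    simp
  rw [hcd] at hd
  rw [hk] at hfd
  have hf1 : f = 1 := by
    obtain ⟨j, -, rfl⟩ := (Nat.dvd_prime_pow hp.out).mp hfd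
    rcases j with _ | j
    · simp
    · exfalso
      apply hd
      rw [hf, pow_succ']
      exact (dvd_mul_right p (p ^ j)).mul_right d
  rw [hf1, one_mul] at hf
  have h2 := (degree_le_of_constituent' hres θ.2 hθ (m := c) (n := d) hc hd1).2 hf.le
  rw [h2]
  exact θ.2

/-- the action of `G` on the irreducible characters of a normal subgroup -/
@[reducible] noncomputable def act (N : Subgroup G) [N.Normal] : MulAction G (IrrCharacter N) where
  smul g θ := ⟨cj N g⁻¹ (θ : N → ℂ), isIrrCharacter_cj θ.2 g⁻¹⟩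
  one_smul θ := by
    apply Subtype.ext
    change cj N (1 : G)⁻¹ (θ : N → ℂ) = θ
    rw [inv_one, cj_one]
  mul_smul g h θ := by
    apply Subtype.ext
    change cj N (g * h)⁻¹ (θ : N → ℂ) = cj N g⁻¹ (cj N h⁻¹ (θ : N → ℂ))
    rw [cj_cj, mul_inv_rev]

/-- the sum of the squares of the degrees over invariant characters, modulo `p` -/
theorem sum_sq_invariant {N : Subgroup G} [N.Normal] {k : ℕ} (hk : N.index = p ^ k) :
    (Nat.card N : ZMod p) =
      ∑ᶠ θ ∈ {θ : IrrCharacter N | ¬ p ∣ charDegree (θ : N → ℂ) ∧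
        ∀ g : G, cj N g (θ : N → ℂ) = θ}, (charDegree (θ : N → ℂ) : ZMod p) ^ 2 := by
  classical
  have h0 : (Nat.card N : ℕ) = ∑ θ : IrrCharacter N, charDegree (θ : N → ℂ) ^ 2 := by
    have h1 := sum_degree_sq (G := N)
    have h2 : ((∑ θ : IrrCharacter N, charDegree (θ : N → ℂ) ^ 2 : ℕ) : ℂ) = (Nat.card N : ℂ) := by
      rw [← h1]
      push_cast
      refine Finset.sum_congr rfl fun θ _ => ?_
      rw [BlockDeg.charDegree_cast_irr]
    exact_mod_cast h2.symm
  obtain ⟨P⟩ : Nonempty (Sylow p G) := inferInstance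
  let _ : MulAction G (IrrCharacter N) := act N
  have hsm : ∀ (g : G) (θ : IrrCharacter N), ((g • θ : IrrCharacter N) : N → ℂ) = cj N g⁻¹ θ :=
    fun _ _ => rfl
  have hfix : ∀ θ : IrrCharacter N, θ ∈ MulAction.fixedPoints (P : Subgroup G) (IrrCharacter N) ↔
      ∀ g : G, cj N g (θ : N → ℂ) = θ := by
    intro θ
    rw [MulAction.mem_fixedPoints]
    constructor
    · intro h g
      have h1 : (P : Subgroup G) ⊔ N ≤ inertia N (θ : N → ℂ) := by
        apply sup_le
        · intro u hu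
          have h2 := congrArg Subtype.val (h ⟨u⁻¹, inv_mem hu⟩)
          change cj N (u⁻¹)⁻¹ (θ : N → ℂ) = θ at h2
          rw [inv_inv] at h2
          exact h2
        · exact le_inertia θ.2.isClassFunction
      rw [sylow_sup_of_index_pow P N hk] at h1
      exact h1 (Subgroup.mem_top g)
    · intro h u
      apply Subtype.ext
      change cj N (u : G)⁻¹ (θ : N → ℂ) = θ
      exact h _
  rw [h0]
  push_cast
  rw [BrauerMap.sum_eq_sum_fixed (p := p) (k := ZMod p) P.isPGroup'
    (fun θ : IrrCharacter N => (charDegree (θ : N → ℂ) : ZMod p) ^ 2) (fun u θ => by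
      congr 2
      have : (((u • θ : IrrCharacter N) : N → ℂ)) 1 = (θ : N → ℂ) 1 := by
        change cj N (u : G)⁻¹ (θ : N → ℂ) 1 = _
        rw [cj_apply]
        refine congrArg (θ : N → ℂ) ?_
        apply Subtype.ext
        simp
      unfold charDegree
      rw [this])]
  rw [finsum_mem_eq_sum_of_inter_support_eq (t := Finset.univ.filter fun θ : IrrCharacter N =>
    θ ∈ MulAction.fixedPoints (P : Subgroup G) (IrrCharacter N))]
  ext θ
  simp only [Set.mem_inter_iff, Set.mem_ofPred_eq, Function.mem_support, Finset.coe_filter,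
    Finset.mem_univ, true_and]
  constructor
  · rintro ⟨⟨-, h1⟩, h2⟩
    exact ⟨(hfix θ).mpr h1, h2⟩
  · rintro ⟨h1, h2⟩
    refine ⟨⟨?_, (hfix θ).mp h1⟩, h2⟩
    intro h
    apply h2
    rw [(ZMod.natCast_eq_zero_iff _ _).mpr h]
    simp

/-- restriction is a bijection from the irreducible characters of `p'`-degree and
`p'`-determinantal order onto the invariant characters of `O^p(G)` of `p'`-degree -/
theorem bijOn_res :
    Set.BijOn (fun χ : IrrCharacter G => (fun n : pResidual p G => (χ : G → ℂ) n))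
      {χ : IrrCharacter G | ¬ p ∣ charDegree (χ : G → ℂ) ∧ ¬ p ∣ detOrder (χ : G → ℂ)}
      {θ : pResidual p G → ℂ | IsIrrCharacter (pResidual p G) θ ∧ ¬ p ∣ charDegree θ ∧
        ∀ g : G, cj (pResidual p G) g θ = θ} := by
  obtain ⟨k, hk⟩ := pResidual_index (G := G) p
  have hcop : ∀ {m : ℕ}, ¬ p ∣ m → Nat.Coprime (pResidual p G).index m := by
    intro m hm
    rw [hk]
    exact Nat.Coprime.pow_left _ ((Nat.Prime.coprime_iff_not_dvd hp.out).mpr hm)
  have hdeg : ∀ θ : pResidual p G → ℂ, IsIrrCharacter (pResidual p G) θ →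
      θ 1 = (charDegree θ : ℂ) := by
    intro θ hθ
    exact (BlockDeg.charDegree_cast_irr ⟨θ, hθ⟩).symm
  refine ⟨?_, ?_, ?_⟩
  · rintro χ ⟨h1, h2⟩
    refine ⟨isIrr_res hk χ.2 h1, ?_, fun g => cj_res χ.2.isClassFunction g⟩
    exact h1
  · rintro χ ⟨h1, h2⟩ χ' ⟨h1', h2'⟩ heq
    have heq : (fun n : pResidual p G => (χ : G → ℂ) n) =
      (fun n : pResidual p G => (χ' : G → ℂ) n) := heq
    set θ := (fun n : pResidual p G => (χ : G → ℂ) n) with hθ
    have hirr : IsIrrCharacter (pResidual p G) θ := isIrr_res hk χ.2 h1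
    have h3 : ¬ p ∣ charDegree θ := h1
    have h4 : ¬ p ∣ detOrder θ * charDegree θ := by
      intro h
      rcases (Nat.Prime.dvd_mul hp.out).mp h with h | h
      · exact detOrder_not_dvd (pResidual_pResidual p) hirr.isCharacter h
      · exact h3 h
    obtain ⟨ψ, -, hψ⟩ := canonical_extension hirr (fun g => cj_res χ.2.isClassFunction g)
      (hdeg θ hirr) (hcop h4)
    apply Subtype.ext
    rw [hψ χ χ.2 (fun n => rfl) (hcop h2), hψ χ' χ'.2 (fun n => (congrFun heq n).symm) (hcop h2')]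
  · rintro θ ⟨hirr, h3, hinv⟩
    have h4 : ¬ p ∣ detOrder θ * charDegree θ := by
      intro h
      rcases (Nat.Prime.dvd_mul hp.out).mp h with h | h
      · exact detOrder_not_dvd (pResidual_pResidual p) hirr.isCharacter h
      · exact h3 h
    obtain ⟨ψ, ⟨hψ1, hψ2, hψ3⟩, -⟩ := canonical_extension hirr hinv (hdeg θ hirr) (hcop h4)
    refine ⟨⟨ψ, hψ1⟩, ⟨?_, ?_⟩, funext hψ2⟩
    · intro h
      apply h3
      have : charDegree θ = charDegree ψ := by
        unfold charDegree
        rw [← hψ2 1]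
        rfl
      rw [this]
      exact h
    · change ¬ p ∣ detOrder ψ
      rw [hψ3]
      exact detOrder_not_dvd (pResidual_pResidual p) hirr.isCharacter

/-- **S4455** in `ZMod p` -/
theorem card_pResidual : (Nat.card (pResidual p G) : ZMod p) =
    ∑ᶠ χ ∈ {χ : IrrCharacter G | ¬ p ∣ charDegree (χ : G → ℂ) ∧ ¬ p ∣ detOrder (χ : G → ℂ)},
      (charDegree (χ : G → ℂ) : ZMod p) ^ 2 := by
  obtain ⟨k, hk⟩ := pResidual_index (G := G) p
  rw [sum_sq_invariant hk]
  have hb := bijOn_res (G := G) (p := p)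
  symm
  have key : Set.BijOn (fun θ : IrrCharacter (pResidual p G) => (θ : pResidual p G → ℂ))
      {θ : IrrCharacter (pResidual p G) | ¬ p ∣ charDegree (θ : pResidual p G → ℂ) ∧
        ∀ g : G, cj (pResidual p G) g (θ : pResidual p G → ℂ) = θ}
      {θ : pResidual p G → ℂ | IsIrrCharacter (pResidual p G) θ ∧ ¬ p ∣ charDegree θ ∧
        ∀ g : G, cj (pResidual p G) g θ = θ} := by
    refine ⟨?_, ?_, ?_⟩
    · rintro θ ⟨h1, h2⟩
      exact ⟨θ.2, h1, h2⟩
    · intro θ _ θ' _ h
      exact Subtype.ext h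
    · rintro θ ⟨h0, h1, h2⟩
      exact ⟨⟨θ, h0⟩, ⟨h1, h2⟩, rfl⟩
  refine (finsum_mem_eq_of_bijOn
    (f := fun χ : IrrCharacter G => (charDegree (χ : G → ℂ) : ZMod p) ^ 2)
    (g := fun θ : pResidual p G → ℂ => (charDegree θ : ZMod p) ^ 2) _ hb
    (fun χ _ => rfl)).trans (finsum_mem_eq_of_bijOn
    (f := fun θ : IrrCharacter (pResidual p G) =>
      (charDegree (θ : pResidual p G → ℂ) : ZMod p) ^ 2)
    (g := fun θ : pResidual p G → ℂ => (charDegree θ : ZMod p) ^ 2) _ key
    (fun χ _ => rfl)).symm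

theorem detChar_linear {χ : G → ℂ} (hχ : IsCharacter G χ) (h1 : χ 1 = 1) : detChar χ = χ := by
  obtain ⟨n, ρ, rfl⟩ := hχ
  have hn : n = 1 := by
    rw [Representation.char_one] at h1
    simpa using h1
  subst hn
  funext g
  rw [DetChar.detChar_character]
  change LinearMap.det (ρ g) = LinearMap.trace ℂ _ (ρ g)
  rw [← LinearMap.det_toMatrix' , ← Matrix.toLin'_toMatrix' (ρ g), Matrix.trace_toLin'_eq]
  simp [Matrix.trace]

/-- the linear characters of order prime to `p` are a group of order prime to `p` -/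
theorem card_linear_not_dvd :
    ¬ p ∣ Nat.card {χ : IrrCharacter G // (χ : G → ℂ) 1 = 1 ∧ ¬ p ∣ detOrder (χ : G → ℂ)} := by
  -- the group of homs
  let F : (G →* ℂˣ) → IrrCharacter G := fun l => ⟨fun g => (l g : ℂ),
    isIrrCharacter_of_unitsHom l⟩
  have hF : Function.Injective F := by
    intro l l' h
    ext g
    exact congrFun (congrArg Subtype.val h) g
  have : Finite (G →* ℂˣ) := Finite.of_injective F hF
  let B : Subgroup (G →* ℂˣ) :=
    { carrier := {l | ¬ p ∣ orderOf l}
      one_mem' := by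
        change ¬ p ∣ orderOf (1 : G →* ℂˣ)
        rw [orderOf_one]
        exact fun h => hp.out.one_lt.ne' (Nat.dvd_one.mp h)
      mul_mem' := by
        intro a b ha hb h
        have h1 : orderOf (a * b) ∣ Nat.lcm (orderOf a) (orderOf b) :=
          (Commute.all a b).orderOf_mul_dvd_lcm
        rcases (Nat.Prime.dvd_mul hp.out).mp ((h.trans h1).trans (Nat.lcm_dvd_mul _ _)) with h | h
        · exact ha h
        · exact hb h
      inv_mem' := by
        intro a ha h
        rw [orderOf_inv] at h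
        exact ha h }
  have hB : ¬ p ∣ Nat.card B := by
    intro h
    obtain ⟨x, hx⟩ := exists_prime_orderOf_dvd_card' p h
    apply x.2
    rw [Subgroup.orderOf_coe, hx]
  have hcard : Nat.card B =
      Nat.card {χ : IrrCharacter G // (χ : G → ℂ) 1 = 1 ∧ ¬ p ∣ detOrder (χ : G → ℂ)} := by
    have hord : ∀ l : G →* ℂˣ, detOrder (F l : G → ℂ) = orderOf l := by
      intro l
      unfold detOrder
      rw [detChar_linear (F l).2.isCharacter (by change ((l 1 : ℂˣ) : ℂ) = 1; simp)]
      let E : (G →* ℂˣ) →* (G → ℂ) :=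
        { toFun := fun l g => (l g : ℂ)
          map_one' := by funext g; simp
          map_mul' := by intro a b; funext g; simp }
      have hE : Function.Injective E := by
        intro a b h
        ext g
        exact congrFun h g
      exact orderOf_injective E hE l
    refine Nat.card_congr (Equiv.ofBijective
      (fun l : B => ⟨F l, by change ((((l : G →* ℂˣ)) 1 : ℂˣ) : ℂ) = 1; simp, by
        rw [hord]; exact l.2⟩) ⟨?_, ?_⟩)
    · intro a b h
      exact Subtype.ext (hF (congrArg Subtype.val h))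
    · rintro ⟨χ, h1, h2⟩
      obtain ⟨f, hf⟩ := χ.2.isCharacter.exists_hom h1
      have h3 : F f = χ := Subtype.ext (funext fun g => (hf g).symm)
      refine ⟨⟨f, ?_⟩, Subtype.ext h3⟩
      change ¬ p ∣ orderOf f
      rw [← hord, h3]
      exact h2
  rw [← hcard]
  exact hB

/-- **S4456** core -/
theorem not_dvd_card_pResidual
    (hdeg : ∀ χ : IrrCharacter G, charDegree (χ : G → ℂ) ≠ 1 → p ∣ charDegree (χ : G → ℂ)) :
    ¬ p ∣ Nat.card (pResidual p G) := by
  classical
  intro h
  have h1 := card_pResidual (G := G) (p := p)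
  rw [(ZMod.natCast_eq_zero_iff _ _).mpr h] at h1
  apply card_linear_not_dvd (G := G) (p := p)
  rw [← ZMod.natCast_eq_zero_iff, h1]
  have hset : {χ : IrrCharacter G | ¬ p ∣ charDegree (χ : G → ℂ) ∧ ¬ p ∣ detOrder (χ : G → ℂ)} =
      {χ : IrrCharacter G | (χ : G → ℂ) 1 = 1 ∧ ¬ p ∣ detOrder (χ : G → ℂ)} := by
    ext χ
    simp only [Set.mem_ofPred_eq]
    refine and_congr_left fun _ => ?_
    rw [← BlockDeg.charDegree_cast_irr χ]
    constructor
    · intro h2
      by_contra h3
      exact h2 (hdeg χ (fun h4 => h3 (by rw [h4, Nat.cast_one])))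
    · intro h2
      have h3 : charDegree (χ : G → ℂ) = 1 := by exact_mod_cast h2
      rw [h3]
      exact fun h => hp.out.one_lt.ne' (Nat.dvd_one.mp h)
  rw [hset]
  have h5 : ∀ χ ∈ {χ : IrrCharacter G | (χ : G → ℂ) 1 = 1 ∧ ¬ p ∣ detOrder (χ : G → ℂ)},
      (charDegree (χ : G → ℂ) : ZMod p) ^ 2 = 1 := by
    rintro χ ⟨h2, -⟩
    rw [← BlockDeg.charDegree_cast_irr χ] at h2
    have h3 : charDegree (χ : G → ℂ) = 1 := by exact_mod_cast h2
    rw [h3]
    simp
  rw [finsum_mem_congr rfl h5, finsum_mem_eq_finite_toFinset_sum _ (Set.toFinite _)]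
  rw [Finset.sum_const, nsmul_eq_mul, mul_one, ← Set.ncard_eq_toFinset_card]
  rfl

end Cfsg.Agent.Lib.PResSum
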