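import Cfsg.Agent.Lib.H12Van
import Cfsg.Agent.S4456
import Cfsg.Agent.S4558
import Cfsg.Agent.S0191
import Mathlib.GroupTheory.PGroup
import Cfsg.Prelude.Def_Solvable

set_option autoImplicit false

/-!
# Groups all of whose vanishing elements are p-elements (helper12)
-/

namespace Cfsg.Agent.Lib.H12Van2

open Cfsg Cfsg.Agent.Lib.CharBasic Cfsg.Agent.Lib.Clifford Cfsg.Agent.Lib.H12Van
open scoped commutatorElement Pointwise

universe u

variable {G : Type u} [Group G]

/-- Burnside: a non-linear irreducible character vanishes somewhere. -/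
theorem exists_zero [Finite G] (χ : IrrCharacter G) (h : charDegree (χ : G → ℂ) ≠ 1) :
    ∃ g : G, (χ : G → ℂ) g = 0 := by
  obtain ⟨χ, n, ρ, hρ, rfl⟩ := χ
  have h1 : ρ.character 1 = (n : ℂ) := by
    rw [Representation.char_one, Module.finrank_fin_fun]
  have h2 := DefectZero.charDegree_eq (χ := ρ.character) ⟨n, ρ, rfl⟩
  have h3 : charDegree ρ.character = n := by
    rw [h1] at h2; exact_mod_cast h2
  have h4 := CharCentral.finrank_pos_of_irreducible ρ
  rw [Module.finrank_fin_fun] at h4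
  simp only at h
  rw [h3] at h
  exact Cfsg.Agent.S0191.result ρ (by rw [Module.finrank_fin_fun]; omega)

/-- A group all of whose irreducible characters are linear is abelian. -/
theorem exists_nonlinear [Finite G] (hna : ¬ IsMulCommutative G) :
    ∃ χ : IrrCharacter G, charDegree (χ : G → ℂ) ≠ 1 := by
  by_contra hcon
  push Not at hcon
  apply hna
  refine ⟨⟨fun x y => ?_⟩⟩
  have h1 : IsConj ⁅x, y⁆ 1 := by
    rw [isConj_iff_forall_irr]
    intro χ
    have h2 : (χ : G → ℂ) 1 = 1 := by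
      have := DefectZero.charDegree_eq χ.2.isCharacter
      rw [hcon χ] at this
      exact_mod_cast this.symm
    have h3 := fun a b => χ.2.isCharacter.map_mul_of_linear h2 a b
    have hx : (χ : G → ℂ) x * (χ : G → ℂ) x⁻¹ = 1 := by rw [← h3, mul_inv_cancel, h2]
    have hy : (χ : G → ℂ) y * (χ : G → ℂ) y⁻¹ = 1 := by rw [← h3, mul_inv_cancel, h2]
    rw [commutatorElement_def, h3, h3, h3, h2]
    linear_combination (χ : G → ℂ) y * (χ : G → ℂ) y⁻¹ * hx + hy
  rw [isConj_one_left] at h1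
  exact commutatorElement_eq_one_iff_mul_comm.mp h1

/-- No irreducible character vanishes at a central element. -/
theorem ne_zero_of_central [Finite G] (χ : IrrCharacter G) {z : G} (hz : z ∈ Subgroup.center G) :
    (χ : G → ℂ) z ≠ 0 := by
  intro h
  have h1 := mul_central χ.2 hz z⁻¹
  rw [h, inv_mul_cancel, mul_zero] at h1
  exact χ.2.one_ne_zero (mul_self_eq_zero.mp h1)

theorem center_of_commute [Finite G] {M : Subgroup G} [M.Normal] {y : G}
    (hcop : (orderOf y).Coprime (Nat.card M)) (hy : ∀ m ∈ M, Commute y m)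
    (hcen : ∀ z : G, ⁅y, z⁆ ∈ M) : y ∈ Subgroup.center G := by
  rw [Subgroup.mem_center_iff]
  intro z
  set c := ⁅y, z⁆ with hc
  have h1 : y * z * y⁻¹ = c * z := by rw [hc, commutatorElement_def]; group
  have hyc : Commute y c := hy c (hcen z)
  have h2 : ∀ n : ℕ, y ^ n * z * (y ^ n)⁻¹ = c ^ n * z := by
    intro n
    induction n with
    | zero => simp
    | succ n ih =>
      have e1 : y ^ (n + 1) * z * (y ^ (n + 1))⁻¹ = y * (y ^ n * z * (y ^ n)⁻¹) * y⁻¹ := by
        rw [pow_succ']; group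
      rw [e1, ih]
      have e2 : y * (c ^ n * z) * y⁻¹ = c ^ n * (y * z * y⁻¹) := by
        have := (hyc.pow_right n).eq
        calc y * (c ^ n * z) * y⁻¹ = (y * c ^ n) * z * y⁻¹ := by group
          _ = (c ^ n * y) * z * y⁻¹ := by rw [this]
          _ = _ := by group
      rw [e2, h1, pow_succ]
      group
  have h3 := h2 (orderOf y)
  rw [pow_orderOf_eq_one, one_mul, inv_one, mul_one] at h3
  have h4 : c ^ orderOf y = 1 := by
    have := h3.symm
    rwa [mul_eq_right] at this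
  have h5 : orderOf c ∣ orderOf y := orderOf_dvd_of_pow_eq_one h4
  have h6 : orderOf c ∣ Nat.card M := by
    have := orderOf_dvd_natCard (⟨c, hcen z⟩ : M)
    rwa [Subgroup.orderOf_mk] at this
  have h7 : orderOf c = 1 := Nat.eq_one_of_dvd_coprimes hcop h5 h6
  have h8 : c = 1 := orderOf_eq_one_iff.mp h7
  rw [hc, commutatorElement_eq_one_iff_mul_comm] at h8
  exact h8.symm

/-- The key property. -/
theorem key [Finite G] {p : ℕ} [Fact p.Prime]
    (hvan : ∀ g : G, (∃ χ : IrrCharacter G, (χ : G → ℂ) g = 0) → ∃ m : ℕ, 1 ≤ m ∧ orderOf g = p ^ m)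
    {M : Subgroup G} [M.Normal] (hM : (Nat.card M).Coprime p) {k : ℕ} (hk : M.index = p ^ k)
    {m y : G} (hm : m ∈ M) (hm1 : m ≠ 1) {j : ℕ} (hy : orderOf y = p ^ j) (hmy : Commute m y) :
    y ∈ Subgroup.center G := by
  have hom : (orderOf m).Coprime (orderOf y) := by
    rw [hy]
    apply Nat.Coprime.pow_right
    have : orderOf m ∣ Nat.card M := by
      have := orderOf_dvd_natCard (⟨m, hm⟩ : M)
      rwa [Subgroup.orderOf_mk] at this
    exact Nat.Coprime.coprime_dvd_left this hM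
  have hcop : (orderOf y).Coprime (Nat.card M) := by
    rw [hy]; exact (Nat.Coprime.pow_right j hM).symm
  set g := m * y with hg
  have hog : orderOf g = orderOf m * orderOf y := hmy.orderOf_mul_eq_mul_orderOf_of_coprime hom
  have hnv : ∀ χ : IrrCharacter G, (χ : G → ℂ) g ≠ 0 := by
    intro χ h0
    obtain ⟨a, -, ha⟩ := hvan g ⟨χ, h0⟩
    have h1 : orderOf m ∣ p ^ a := ⟨orderOf y, by rw [← ha, hog]⟩
    obtain ⟨b, -, hb⟩ := (Nat.dvd_prime_pow Fact.out).mp h1
    have h2 : orderOf m ∣ Nat.card M := by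
      have := orderOf_dvd_natCard (⟨m, hm⟩ : M)
      rwa [Subgroup.orderOf_mk] at this
    have h3 : orderOf m = 1 := by
      apply Nat.eq_one_of_dvd_coprimes (Nat.Coprime.pow_right b hM) h2
      rw [hb]
    exact hm1 (orderOf_eq_one_iff.mp h3)
  have hnil : Group.IsNilpotent (G ⧸ M) := by
    have : IsPGroup p (G ⧸ M) := by
      apply IsPGroup.of_card (n := k)
      rw [← hk]; rfl
    exact this.isNilpotent
  have hcen : ∀ z : G, ⁅g, z⁆ ∈ M := commutator_mem_of_nonvanishing hnil hnv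
  -- `y` is a power of `g`
  have hyg : y ∈ Subgroup.zpowers g := by
    obtain ⟨a, ha1, ha2⟩ := Nat.chineseRemainder hom 0 1
    refine ⟨(a : ℤ), ?_⟩
    show g ^ (a : ℤ) = y
    rw [zpow_natCast, hg, hmy.mul_pow]
    have h1 : m ^ a = 1 := orderOf_dvd_iff_pow_eq_one.mp ((Nat.modEq_zero_iff_dvd).mp ha1)
    have h2 : y ^ a = y ^ 1 := pow_eq_pow_iff_modEq.mpr ha2
    rw [h1, h2, pow_one, one_mul]
  -- all powers of `g` fix the classes of `M`
  let F : Subgroup G :=
    { carrier := {a | ∀ x ∈ M, ∃ k ∈ M, a * x * a⁻¹ = k * x * k⁻¹}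
      one_mem' := fun x hx => ⟨1, one_mem _, rfl⟩
      mul_mem' := by
        intro a b ha hb x hx
        obtain ⟨k, hk, h1⟩ := hb x hx
        obtain ⟨l, hl, h2⟩ := ha (k * x * k⁻¹) (mul_mem (mul_mem hk hx) (inv_mem hk))
        refine ⟨l * k, mul_mem hl hk, ?_⟩
        calc a * b * x * (a * b)⁻¹ = a * (b * x * b⁻¹) * a⁻¹ := by group
          _ = _ := by rw [h1, h2]; group
      inv_mem' := by
        intro a ha x hx
        have hx' : a⁻¹ * x * a ∈ M := by
          have := ‹M.Normal›.conj_mem x hx a⁻¹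
          rwa [inv_inv] at this
        obtain ⟨k, hk, h1⟩ := ha _ hx'
        refine ⟨k⁻¹, inv_mem hk, ?_⟩
        rw [inv_inv, inv_inv]
        have h2 : a * (a⁻¹ * x * a) * a⁻¹ = x := by group
        rw [h2] at h1
        rw [eq_comm]
        calc k⁻¹ * x * k = k⁻¹ * (k * (a⁻¹ * x * a) * k⁻¹) * k := by rw [← h1]
          _ = _ := by group }
  have hF : Subgroup.zpowers g ≤ F := by
    rw [Subgroup.zpowers_le]
    exact fun x hx => exists_conj_of_nonvanishing hnv hcen hx
  have hcomm : ∀ x ∈ M, Commute y x := fun x hx =>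
    commute_of_classes hcop (fun a ha x hx =>
      hF ((Subgroup.zpowers_le.mpr hyg) ha) x hx) hx
  have hcen' : ∀ z : G, ⁅y, z⁆ ∈ M := by
    intro z
    let f := QuotientGroup.mk' M
    have h1 : f g ∈ Subgroup.center (G ⧸ M) := by
      rw [Subgroup.mem_center_iff]
      intro w
      obtain ⟨w, rfl⟩ := QuotientGroup.mk'_surjective M w
      have h2 : f ⁅g, w⁆ = 1 := (QuotientGroup.eq_one_iff _).mpr (hcen w)
      rw [map_commutatorElement, commutatorElement_eq_one_iff_mul_comm] at h2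
      exact h2.symm
    have h2 : f y ∈ Subgroup.center (G ⧸ M) := by
      have h3 : Subgroup.zpowers g ≤ (Subgroup.center (G ⧸ M)).comap f := by
        rw [Subgroup.zpowers_le]; exact h1
      exact h3 hyg
    rw [← QuotientGroup.eq_one_iff (N := M)]
    show f ⁅y, z⁆ = 1
    rw [map_commutatorElement, commutatorElement_eq_one_iff_mul_comm]
    exact (Subgroup.mem_center_iff.mp h2 _).symm
  exact center_of_commute hcop hcomm hcen'

theorem main [Finite G] (hna : ¬ IsMulCommutative G) (p : ℕ) [hp : Fact p.Prime]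
    (hvan : ∀ g : G, (∃ χ : IrrCharacter G, (χ : G → ℂ) g = 0) → ∃ m : ℕ, 1 ≤ m ∧ orderOf g = p ^ m) :
    IsPGroup p G ∨ (Subgroup.center G = pCore p G ∧
      ∃ H : Subgroup (G ⧸ Subgroup.center G), IsFrobeniusComplement H ∧ IsPGroup p H) := by
  obtain ⟨M, hMn, hM, k, hk⟩ := Cfsg.Agent.S4456.result p hp.out (G := G) (by
    intro χ hχ
    obtain ⟨g, hg⟩ := exists_zero χ hχ
    obtain ⟨m, -, hm⟩ := hvan g ⟨χ, hg⟩
    exact Cfsg.Agent.S4558.result p χ χ.2.isCharacter g ⟨m, hm⟩ hg)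
  by_cases hM1 : M = ⊥
  · left
    apply IsPGroup.of_card (n := k)
    rw [← hk, hM1, Subgroup.index_bot]
  right
  obtain ⟨m₀, hm₀, hm₀1⟩ := (Subgroup.ne_bot_iff_exists_ne_one.mp hM1) |>.elim fun a ha =>
    (⟨a.1, a.2, fun h => ha (Subtype.ext h)⟩ : ∃ m : G, m ∈ M ∧ m ≠ 1)
  -- some `p`-element is not central
  obtain ⟨y₀, j₀, hy₀, hy₀c⟩ : ∃ y : G, ∃ j : ℕ, orderOf y = p ^ j ∧ y ∉ Subgroup.center G := by
    obtain ⟨χ, hχ⟩ := exists_nonlinear hna
    obtain ⟨g, hg⟩ := exists_zero χ hχ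
    obtain ⟨m, -, hm⟩ := hvan g ⟨χ, hg⟩
    exact ⟨g, m, hm, fun h => ne_zero_of_central χ h hg⟩
  have hdis : ∀ x ∈ M, ∀ j : ℕ, x ^ p ^ j = 1 → x = 1 := by
    intro x hx j hj
    have h1 : orderOf x ∣ p ^ j := orderOf_dvd_of_pow_eq_one hj
    have h2 : orderOf x ∣ Nat.card M := by
      have := orderOf_dvd_natCard (⟨x, hx⟩ : M)
      rwa [Subgroup.orderOf_mk] at this
    exact orderOf_eq_one_iff.mp (Nat.eq_one_of_dvd_coprimes (Nat.Coprime.pow_right j hM) h2 h1)
  -- no nontrivial element of `M` is central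
  have hMZ : ∀ x ∈ M, x ∈ Subgroup.center G → x = 1 := by
    intro x hx hxc
    by_contra hx1
    exact hy₀c (key hvan hM hk hx hx1 hy₀ ((Subgroup.mem_center_iff.mp hxc y₀).symm))
  have hZp : IsPGroup p (Subgroup.center G) := by
    rintro ⟨z, hz⟩
    refine ⟨k, ?_⟩
    have h1 : z ^ p ^ k ∈ M := by rw [← hk]; exact Subgroup.pow_index_mem M z
    have h2 := hMZ _ h1 (pow_mem hz _)
    exact Subtype.ext h2
  have hcore : Subgroup.center G = pCore p G := by
    apply le_antisymm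
    · exact le_sSup ⟨inferInstance, hZp⟩
    · apply sSup_le
      rintro N ⟨hN, hNp⟩ y hy
      have hord : ∃ j, orderOf y = p ^ j := by
        obtain ⟨j, hj⟩ := hNp ⟨y, hy⟩
        have hj' : y ^ p ^ j = 1 := congrArg Subtype.val hj
        obtain ⟨i, -, hi⟩ := (Nat.dvd_prime_pow hp.out).mp (orderOf_dvd_of_pow_eq_one hj')
        exact ⟨i, hi⟩
      obtain ⟨j, hj⟩ := hord
      have hdisj : Disjoint M N := by
        rw [Subgroup.disjoint_def]
        intro x hxM hxN
        obtain ⟨i, hi⟩ := hNp ⟨x, hxN⟩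
        exact hdis x hxM i (congrArg Subtype.val hi)
      exact key hvan hM hk hm₀ hm₀1 hj
        (Subgroup.commute_of_normal_of_disjoint M N hMn hN hdisj m₀ y hm₀ hy)
  refine ⟨hcore, ?_⟩
  -- the Frobenius complement
  obtain ⟨P, hP⟩ := IsPGroup.exists_le_sylow (p := p) (P := Subgroup.zpowers y₀)
    (IsPGroup.of_card (n := j₀) (by rw [Nat.card_zpowers, hy₀]))
  set f := QuotientGroup.mk' (Subgroup.center G) with hf
  have hZP : Subgroup.center G ≤ (P : Subgroup G) := by
    have h1 : IsPGroup p ((P : Subgroup G) ⊔ Subgroup.center G : Subgroup G) :=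
      IsPGroup.to_sup_of_normal_right P.2 hZp
    have h2 := P.is_maximal' h1 le_sup_left
    rw [← h2]
    exact le_sup_right
  have hordP : ∀ x ∈ (P : Subgroup G), ∃ j, orderOf x = p ^ j := by
    intro x hx
    obtain ⟨j, hj⟩ := P.2 ⟨x, hx⟩
    have hj' : x ^ p ^ j = 1 := congrArg Subtype.val hj
    obtain ⟨i, -, hi⟩ := (Nat.dvd_prime_pow hp.out).mp (orderOf_dvd_of_pow_eq_one hj')
    exact ⟨i, hi⟩
  refine ⟨(P : Subgroup G).map f, ⟨?_, ?_, ?_⟩, P.2.map f⟩
  · intro h
    have h1 : f y₀ ∈ (P : Subgroup G).map f := ⟨y₀, hP (Subgroup.mem_zpowers y₀), rfl⟩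
    rw [h, Subgroup.mem_bot] at h1
    exact hy₀c ((QuotientGroup.eq_one_iff _).mp h1)
  · intro h
    have h1 : f m₀ ∈ (P : Subgroup G).map f := by rw [h]; trivial
    obtain ⟨x, hx, hxm⟩ := h1
    have h2 : x⁻¹ * m₀ ∈ Subgroup.center G := QuotientGroup.eq.mp hxm
    have h3 : m₀ ∈ (P : Subgroup G) := by
      have := mul_mem hx (hZP h2)
      rwa [mul_inv_cancel_left] at this
    obtain ⟨j, hj⟩ := hordP m₀ h3
    exact hm₀1 (hdis m₀ hm₀ j (by rw [← hj]; exact pow_orderOf_eq_one m₀))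
  · intro g hg
    obtain ⟨g, rfl⟩ := QuotientGroup.mk'_surjective _ g
    -- write `g = m x`
    obtain ⟨m, hm, x, hx, rfl⟩ : ∃ m ∈ M, ∃ x ∈ (P : Subgroup G), m * x = g := by
      have hsup : M ⊔ (P : Subgroup G) = ⊤ := by
        have h1 : (M ⊔ (P : Subgroup G)).index ∣ p ^ k := by
          rw [← hk]; exact Subgroup.index_dvd_of_le le_sup_left
        have h2 : ¬ p ∣ (M ⊔ (P : Subgroup G)).index := fun h =>
          P.not_dvd_index (h.trans (Subgroup.index_dvd_of_le le_sup_right))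
        obtain ⟨i, -, hi⟩ := (Nat.dvd_prime_pow hp.out).mp h1
        rw [← Subgroup.index_eq_one, hi]
        rcases Nat.eq_zero_or_pos i with h | h
        · rw [h, pow_zero]
        · exact absurd (hi ▸ dvd_pow_self p h.ne') h2
      have h1 : g ∈ M ⊔ (P : Subgroup G) := by rw [hsup]; trivial
      rw [Subgroup.mem_sup_of_normal_left] at h1
      obtain ⟨m, hm, x, hx, h⟩ := h1
      exact ⟨m, hm, x, hx, h⟩
    rw [eq_bot_iff]
    intro w hw
    obtain ⟨hw1, hw2⟩ := Subgroup.mem_inf.mp hw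
    obtain ⟨u, hu, rfl⟩ := hw1
    rw [Subgroup.mem_pointwise_smul_iff_inv_smul_mem] at hw2
    obtain ⟨v, hv, hvw⟩ := hw2
    -- conj by `x` inside `P`
    have h1 : f (m * (x * v * x⁻¹) * m⁻¹) = f u := by
      have h2 : f v = (f (m * x))⁻¹ * f u * f (m * x) := by
        rw [hvw, ← map_inv, MulAut.smul_def, MulAut.conj_apply, inv_inv]
      have h3 : f (m * (x * v * x⁻¹) * m⁻¹) = f (m * x) * f v * (f (m * x))⁻¹ := by
        simp only [map_mul, map_inv]; group
      rw [h3, h2]; group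
    set v' := x * v * x⁻¹ with hv'
    have hv'P : v' ∈ (P : Subgroup G) := mul_mem (mul_mem hx hv) (inv_mem hx)
    have h4 : m * v' * m⁻¹ ∈ (P : Subgroup G) := by
      have h5 : u⁻¹ * (m * v' * m⁻¹) ∈ Subgroup.center G := QuotientGroup.eq.mp h1.symm
      have := mul_mem hu (hZP h5)
      rwa [mul_inv_cancel_left] at this
    have h6 : ⁅m, v'⁆ ∈ (P : Subgroup G) := by
      rw [commutatorElement_def]; exact mul_mem h4 (inv_mem hv'P)
    have h7 : ⁅m, v'⁆ ∈ M := by
      rw [commutatorElement_def, mul_assoc, mul_assoc, ← mul_assoc v']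
      exact mul_mem hm (hMn.conj_mem _ (inv_mem hm) v')
    have h8 : ⁅m, v'⁆ = 1 := by
      obtain ⟨j, hj⟩ := hordP _ h6
      exact hdis _ h7 j (by rw [← hj]; exact pow_orderOf_eq_one _)
    have h9 : Commute m v' := commutatorElement_eq_one_iff_mul_comm.mp h8
    have hm1 : m ≠ 1 := by
      rintro rfl
      apply hg
      rw [one_mul]
      exact ⟨x, hx, rfl⟩
    obtain ⟨j, hj⟩ := hordP _ hv'P
    have h10 := key hvan hM hk hm hm1 hj h9
    rw [← h1, h9.eq, mul_inv_cancel_right, Subgroup.mem_bot]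
    exact (QuotientGroup.eq_one_iff _).mpr h10

end Cfsg.Agent.Lib.H12Van2
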