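import Mathlib

set_option autoImplicit false

/-!
Piece B: the ring computation (helper15)
-/

namespace Cfsg.Agent.Lib.H15B

open Finset

variable {X : Type*} [Group X] {K : Type*} [Ring K]

/-- `[a, x]` -/
def ps (x a : X) : X := a * x * a⁻¹ * x⁻¹

theorem ps_mul {A : Subgroup X} (hc : ∀ a ∈ A, ∀ b ∈ A, a * b = b * a) {x a b : X} (hx : ∀ a ∈ A, x * a * x⁻¹ ∈ A)
    (ha : a ∈ A) (hb : b ∈ A) : ps x (a * b) = ps x a * ps x b := by
  have h1 : x * b⁻¹ * x⁻¹ ∈ A := hx _ (A.inv_mem hb)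
  have h2 : x * a⁻¹ * x⁻¹ ∈ A := hx _ (A.inv_mem ha)
  unfold ps
  calc a * b * x * (a * b)⁻¹ * x⁻¹ = a * b * ((x * b⁻¹ * x⁻¹) * (x * a⁻¹ * x⁻¹)) := by group
    _ = a * b * ((x * a⁻¹ * x⁻¹) * (x * b⁻¹ * x⁻¹)) := by rw [hc _ h1 _ h2]
    _ = a * (b * (x * a⁻¹ * x⁻¹)) * (x * b⁻¹ * x⁻¹) := by group
    _ = a * ((x * a⁻¹ * x⁻¹) * b) * (x * b⁻¹ * x⁻¹) := by rw [hc _ hb _ h2]
    _ = a * x * a⁻¹ * x⁻¹ * (b * x * b⁻¹ * x⁻¹) := by group

theorem ps_mem {A : Subgroup X} {x a : X} (hx : ∀ a ∈ A, x * a * x⁻¹ ∈ A) (ha : a ∈ A) : ps x a ∈ A := by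
  have : ps x a = a * (x * a⁻¹ * x⁻¹) := by unfold ps; group
  rw [this]
  exact A.mul_mem ha (hx _ (A.inv_mem ha))

/-- `[a, x^j]` is of the form `[a', x]` -/
theorem exists_ps_pow {A : Subgroup X} (hc : ∀ a ∈ A, ∀ b ∈ A, a * b = b * a) {x : X} (hx : ∀ a ∈ A, x * a * x⁻¹ ∈ A)
    (j : ℕ) : ∀ a ∈ A, ∃ a' ∈ A, ps (x ^ j) a = ps x a' := by
  have hxj : ∀ j : ℕ, ∀ a ∈ A, x ^ j * a * (x ^ j)⁻¹ ∈ A := by
    intro j
    induction j with
    | zero => intro a ha; simpa using ha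
    | succ j ih =>
      intro a ha
      have := hx _ (ih a ha)
      have e : x * (x ^ j * a * (x ^ j)⁻¹) * x⁻¹ = x ^ (j + 1) * a * (x ^ (j + 1))⁻¹ := by
        rw [pow_succ']; group
      rwa [e] at this
  induction j with
  | zero =>
    intro a ha
    exact ⟨1, A.one_mem, by simp [ps]⟩
  | succ j ih =>
    intro a ha
    obtain ⟨a', ha', h⟩ := ih a ha
    refine ⟨a' * (x ^ j * a * (x ^ j)⁻¹), A.mul_mem ha' (hxj j a ha), ?_⟩
    rw [ps_mul hc hx ha' (hxj j a ha), ← h]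
    unfold ps
    rw [pow_succ']
    have e1 : x * x ^ j = x ^ j * x := (pow_succ' x j).symm.trans (pow_succ x j)
    rw [e1]
    group

/-- **the ring computation** -/
theorem ring_key (φ : X →* K) (h2 : ∀ y : K, 2 * y = 0 → y = 0) {A : Subgroup X} [Finite A] (hA : ∀ a ∈ A, a * a = 1)
    {m : X} (hm : ∀ a ∈ A, m * a * m⁻¹ ∈ A) {p : ℕ} (hp : p.Prime) (hmp : m ^ p = 1)
    (hsum : ∑ i ∈ range p, φ (m ^ i) = 0) {a0 : X} (ha0 : a0 ∈ A) : φ (ps m a0) = 1 := by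
  classical
  have : Fintype A := Fintype.ofFinite A
  have hinv : ∀ a ∈ A, a⁻¹ = a := fun a ha => inv_eq_of_mul_eq_one_left (hA a ha)
  have hc : ∀ a ∈ A, ∀ b ∈ A, a * b = b * a := by
    intro a ha b hb
    have h := hinv _ (A.mul_mem ha hb)
    rw [mul_inv_rev, hinv a ha, hinv b hb] at h
    exact h.symm
  have hmi : ∀ i : ℕ, ∀ a ∈ A, m ^ i * a * (m ^ i)⁻¹ ∈ A := by
    intro i
    induction i with
    | zero => intro a ha; simpa using ha
    | succ j ih =>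
      intro a ha
      have := hm _ (ih a ha)
      have e : m * (m ^ j * a * (m ^ j)⁻¹) * m⁻¹ = m ^ (j + 1) * a * (m ^ (j + 1))⁻¹ := by
        rw [pow_succ']; group
      rwa [e] at this
  set b0 := ps m a0 with hb0
  have hb0A : b0 ∈ A := ps_mem hm ha0
  -- the sums
  let E : ℕ → K := fun i => ∑ a : A, φ (ps (m ^ i) (a : X))
  have hE0 : E 0 = (Fintype.card A : K) := by
    have h0 : ∀ a : X, ps (m ^ 0) a = 1 := by intro a; unfold ps; group
    simp only [E, h0, map_one]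
    simp
  have hsumE : ∑ i ∈ range p, E i * φ (m ^ i) = 0 := by
    have h1 : ∀ i, E i * φ (m ^ i) = ∑ a : A, φ (a : X) * φ (m ^ i) * φ ((a : X)⁻¹) := by
      intro i
      simp only [E, sum_mul]
      refine sum_congr rfl fun a _ => ?_
      rw [← map_mul, ← map_mul, ← map_mul]
      congr 1
      unfold ps
      group
    simp_rw [h1]
    rw [sum_comm]
    apply sum_eq_zero
    intro a _
    have : ∑ i ∈ range p, φ (a : X) * φ (m ^ i) * φ ((a : X)⁻¹) = φ (a : X) * (∑ i ∈ range p, φ (m ^ i)) * φ ((a : X)⁻¹) := by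
      rw [mul_sum, sum_mul]
    rw [this, hsum, mul_zero, zero_mul]
  have hEb : ∀ i, ∀ a' ∈ A, E i * φ (ps (m ^ i) a') = E i := by
    intro i a' ha'
    simp only [E, sum_mul]
    have h1 : ∀ a : A, φ (ps (m ^ i) (a : X)) * φ (ps (m ^ i) a') = φ (ps (m ^ i) ((a * ⟨a', ha'⟩ : A) : X)) := by
      intro a
      rw [← map_mul]
      congr 1
      exact (ps_mul hc (hmi i) a.2 ha').symm
    simp_rw [h1]
    exact Fintype.sum_equiv (Equiv.mulRight (⟨a', ha'⟩ : A)) _ _ (fun a => rfl)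
  have hkey : ∀ i ∈ range p, i ≠ 0 → E i * φ (m ^ i) * (1 - φ b0) = 0 := by
    intro i hi hi0
    have hip : i < p := mem_range.1 hi
    have hco : Nat.Coprime i p := by
      apply Nat.Coprime.symm
      rw [hp.coprime_iff_not_dvd]
      intro hd
      have := Nat.le_of_dvd (Nat.pos_of_ne_zero hi0) hd
      omega
    obtain ⟨j, hj⟩ := Nat.exists_mul_mod_eq_one_of_coprime hco hp.one_lt
    have hmj : (m ^ i) ^ j = m := by
      rw [← pow_mul, pow_eq_pow_mod (i * j) hmp, hj.2, pow_one]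
    obtain ⟨a', ha', h1⟩ := exists_ps_pow hc (hmi i) j a0 ha0
    rw [hmj] at h1
    have h2 : m ^ i * b0 * (m ^ i)⁻¹ = ps (m ^ i) (m ^ i * a' * (m ^ i)⁻¹) := by
      rw [hb0, h1]; unfold ps; group
    have h3 : φ (m ^ i) * φ b0 = φ (ps (m ^ i) (m ^ i * a' * (m ^ i)⁻¹)) * φ (m ^ i) := by
      rw [← h2, ← map_mul, ← map_mul]; congr 1; group
    rw [mul_sub, mul_one, mul_assoc, h3, ← mul_assoc, hEb i _ (hmi i a' ha'), sub_self]
  have hfin : (Fintype.card A : K) * (1 - φ b0) = 0 := by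
    have h1 : (∑ i ∈ range p, E i * φ (m ^ i)) * (1 - φ b0) = 0 := by rw [hsumE, zero_mul]
    rw [sum_mul] at h1
    rw [sum_eq_single_of_mem 0 (mem_range.2 hp.pos) (fun i hi hi0 => hkey i hi hi0)] at h1
    rw [hE0] at h1
    simpa using h1
  -- `|A|` is a power of 2
  haveI : Fact (Nat.Prime 2) := ⟨Nat.prime_two⟩
  have hpg : IsPGroup 2 A := by
    intro a
    refine ⟨1, ?_⟩
    rw [pow_one, pow_two]
    exact Subtype.ext (hA a a.2)
  obtain ⟨k, hk⟩ := hpg.exists_card_eq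
  rw [Nat.card_eq_fintype_card] at hk
  rw [hk] at hfin
  have hpow : ∀ k : ℕ, ∀ y : K, ((2 ^ k : ℕ) : K) * y = 0 → y = 0 := by
    intro k
    induction k with
    | zero => intro y hy; simpa using hy
    | succ k ih =>
      intro y hy
      apply ih
      apply h2
      rw [← mul_assoc]
      have : (2 : K) * ((2 ^ k : ℕ) : K) = ((2 ^ (k + 1) : ℕ) : K) := by
        rw [pow_succ']; push_cast; rfl
      rw [this]; exact hy
  have := hpow k _ hfin
  exact (sub_eq_zero.1 this).symm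

end Cfsg.Agent.Lib.H15B
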