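import Cfsg.Agent.Lib.H15Ba
import Cfsg.Agent.Lib.Cores
import Cfsg.Agent.S0012
import Cfsg.Agent.S0029

set_option autoImplicit false

/-!
Piece B: passing to the Frattini quotient (helper15)
-/

namespace Cfsg.Agent.Lib.H15B

open Subgroup Finset
open scoped commutatorElement

/-- automorphisms as elements of the endomorphism ring -/
def toEnd (V : Type*) [CommGroup V] : MulAut V →* AddMonoid.End (Additive V) where
  toFun f := MonoidHom.toAdditive f.toMonoidHom
  map_one' := rfl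
  map_mul' _ _ := rfl

theorem toEnd_apply {V : Type*} [CommGroup V] (f : MulAut V) (v : V) :
    toEnd V f (Additive.ofMul v) = Additive.ofMul (f v) := rfl

theorem end_two {V : Type*} [CommGroup V] [Finite V] (hV : Odd (Nat.card V)) (y : AddMonoid.End (Additive V))
    (hy : 2 * y = 0) : y = 0 := by
  ext v
  have h1 : (2 * y) v = 0 := by rw [hy]; rfl
  rw [two_mul] at h1
  have h2 : y v + y v = 0 := h1
  have h3 : (Additive.toMul (y v)) ^ 2 = 1 := by
    rw [pow_two]; exact h2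
  have h4 : orderOf (Additive.toMul (y v)) ∣ 2 := orderOf_dvd_of_pow_eq_one h3
  have h5 : Odd (orderOf (Additive.toMul (y v))) := Odd.of_dvd_nat hV (orderOf_dvd_natCard _)
  rcases (Nat.dvd_prime Nat.prime_two).1 h4 with h6 | h6
  · exact orderOf_eq_one_iff.1 h6
  · rw [h6] at h5
    exact absurd h5 (by decide)

/-- in a group `X` with an abelian normal subgroup `V` of odd order -/
theorem abelian_case {X : Type*} [Group X] [Finite X] {V : Subgroup X} [hVn : V.Normal]
    (hVc : ∀ v ∈ V, ∀ w ∈ V, v * w = w * v) (hV : Odd (Nat.card V)) {A : Subgroup X} (hA : ∀ a ∈ A, a * a = 1)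
    {m : X} (hm : ∀ a ∈ A, m * a * m⁻¹ ∈ A) {p : ℕ} (hp : p.Prime) (hxm : ∀ v ∈ V, (v * m) ^ p = 1)
    {a : X} (ha : a ∈ A) {v : X} (hv : v ∈ V) : ps m a * v * (ps m a)⁻¹ = v := by
  letI : CommGroup V := { (inferInstance : Group V) with mul_comm := fun x y => Subtype.ext (hVc x x.2 y y.2) }
  let φ : X →* AddMonoid.End (Additive V) := (toEnd V).comp (MulAut.conjNormal : X →* MulAut V)
  have hφ : ∀ (x : X) (v : V), ((Additive.toMul (φ x (Additive.ofMul v)) : V) : X) = x * v * x⁻¹ := fun x v => rfl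
  have hmp : m ^ p = 1 := by have := hxm 1 V.one_mem; rwa [one_mul] at this
  have hsum : ∑ i ∈ range p, φ (m ^ i) = 0 := by
    ext v
    have key : ∀ n : ℕ, ((Additive.toMul ((∑ i ∈ range n, φ (m ^ i)) (Additive.ofMul (Additive.toMul v))) : V) : X) =
        ((Additive.toMul v : V) * m) ^ n * (m ^ n)⁻¹ := by
      intro n
      induction n with
      | zero => simp
      | succ n ih =>
        rw [sum_range_succ]
        have h1 : ((∑ i ∈ range n, φ (m ^ i)) + φ (m ^ n)) (Additive.ofMul (Additive.toMul v)) =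
            (∑ i ∈ range n, φ (m ^ i)) (Additive.ofMul (Additive.toMul v)) + φ (m ^ n) (Additive.ofMul (Additive.toMul v)) := rfl
        rw [h1, toMul_add, Subgroup.coe_mul, ih, hφ, pow_succ, pow_succ m n]
        group
    have h2 := key p
    rw [hxm _ (Additive.toMul v : V).2, hmp] at h2
    have h3 : (∑ i ∈ range p, φ (m ^ i)) v = 0 := by
      apply Additive.toMul.injective
      apply Subtype.ext
      simpa using h2
    rw [h3]; rfl
  have h1 := ring_key φ (end_two hV) hA hm hp hmp hsum ha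
  have h2 := hφ (ps m a) ⟨v, hv⟩
  rw [h1] at h2
  exact h2.symm

/-- **Lemma U**: `R` normal in `X` -/
theorem normal_case {X : Type*} [Group X] [Finite X] {r : ℕ} (hr : r.Prime) (hr2 : r ≠ 2) {R : Subgroup X} [hRn : R.Normal]
    (hR : IsPGroup r R) {A : Subgroup X} (hA : ∀ a ∈ A, a * a = 1)
    {m : X} (hm : ∀ a ∈ A, m * a * m⁻¹ ∈ A) {p : ℕ} (hp : p.Prime) (hxm : ∀ x ∈ R, (x * m) ^ p = 1)
    {a : X} (ha : a ∈ A) : ps m a ∈ centralizer (R : Set X) := by
  haveI := Fact.mk hr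
  obtain ⟨hcomm, -⟩ := Cfsg.Agent.S0012.result r hR
  set Φ : Subgroup X := (frattini R).map R.subtype with hΦ
  haveI hΦn : Φ.Normal := Cores.normal_map_subtype_of_characteristic (frattini R)
  set π := QuotientGroup.mk' Φ with hπ
  have hsurj : Function.Surjective π := QuotientGroup.mk'_surjective _
  haveI : (R.map π).Normal := hRn.map π hsurj
  have hRodd : Odd (Nat.card R) := by
    obtain ⟨k, hk⟩ := hR.exists_card_eq
    rw [hk]; exact (hr.odd_of_ne_two hr2).pow
  have hVodd : Odd (Nat.card (R.map π)) := Odd.of_dvd_nat hRodd (Cores.card_map_dvd' R π)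
  have hVc : ∀ v ∈ R.map π, ∀ w ∈ R.map π, v * w = w * v := by
    rintro _ ⟨x, hx, rfl⟩ _ ⟨y, hy, rfl⟩
    have h1 : (⁅(⟨x, hx⟩ : R), ⟨y, hy⟩⁆ : R) ∈ frattini R :=
      hcomm (Subgroup.commutator_mem_commutator (mem_top _) (mem_top _))
    have h2 : x * y * x⁻¹ * y⁻¹ ∈ Φ := ⟨_, h1, rfl⟩
    have h3 : π (x * y * x⁻¹ * y⁻¹) = 1 := (QuotientGroup.eq_one_iff _).2 h2
    rw [map_mul, map_mul, map_mul, map_inv, map_inv] at h3
    calc π x * π y = π x * π y * (π x)⁻¹ * (π y)⁻¹ * (π y * π x) := by group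
      _ = π y * π x := by rw [h3, one_mul]
  have key : ∀ c : X, (∀ v ∈ R.map π, π c * v * (π c)⁻¹ = v) → ∀ k ∈ R, c * k * c⁻¹ * k⁻¹ ∈ Φ := by
    intro c hc k hk
    have h1 := hc (π k) ⟨k, hk, rfl⟩
    apply (QuotientGroup.eq_one_iff _).1
    show π (c * k * c⁻¹ * k⁻¹) = 1
    rw [map_mul, map_mul, map_mul, map_inv, map_inv, h1, mul_inv_cancel]
  have hb : ∀ v ∈ R.map π, π (ps m a) * v * (π (ps m a))⁻¹ = v := by
    intro v hv
    have h1 := abelian_case (V := R.map π) hVc hVodd (A := A.map π) (m := π m) (a := π a) (p := p)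
      (by rintro _ ⟨x, hx, rfl⟩; rw [← map_mul, hA x hx, map_one])
      (by rintro _ ⟨x, hx, rfl⟩; exact ⟨m * x * m⁻¹, hm x hx, by simp⟩)
      hp (by rintro _ ⟨x, hx, rfl⟩; rw [← map_mul, ← map_pow, hxm x hx, map_one]) ⟨a, ha, rfl⟩ hv
    have h2 : π (ps m a) = ps (π m) (π a) := by simp [ps]
    rw [h2]; exact h1
  have hpow : ∀ n : ℕ, ∀ v ∈ R.map π, π (ps m a ^ n) * v * (π (ps m a ^ n))⁻¹ = v := by
    intro n
    induction n with
    | zero => intro v hv; simp
    | succ n ih =>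
      intro v hv
      rw [pow_succ, map_mul, mul_inv_rev]
      have e : π (ps m a ^ n) * π (ps m a) * v * ((π (ps m a))⁻¹ * (π (ps m a ^ n))⁻¹) =
          π (ps m a ^ n) * (π (ps m a) * v * (π (ps m a))⁻¹) * (π (ps m a ^ n))⁻¹ := by group
      rw [e, hb v hv, ih v hv]
  have hbA : ps m a ∈ A := ps_mem hm ha
  have hfin := Cfsg.Agent.S0029.result (zpowers (ps m a)) R
    (by rw [Subgroup.normalizer_eq_top]; exact le_top)
    (by
      rw [Nat.card_zpowers]
      have h1 : orderOf (ps m a) ∣ 2 := orderOf_dvd_of_pow_eq_one (by rw [pow_two]; exact hA _ hbA)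
      have h2 : Odd (Nat.card (frattini R)) := Odd.of_dvd_nat hRodd (Subgroup.card_subgroup_dvd_card _)
      exact Nat.Coprime.coprime_dvd_left h1 (Nat.coprime_two_left.2 h2))
    (by
      intro c hc k hk
      obtain ⟨n, rfl⟩ := (mem_powers_iff_mem_zpowers).2 hc
      exact key _ (hpow n) k hk)
  exact hfin (mem_zpowers _)

/-- **Lemma U** -/
theorem lemU {G : Type*} [Group G] [Finite G] {r : ℕ} (hr : r.Prime) (hr2 : r ≠ 2) {A R : Subgroup G}
    (hR : IsPGroup r R) (hAR : A ≤ normalizer (R : Set G)) (hA : ∀ a ∈ A, a * a = 1)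
    {m : G} (hm : ∀ a ∈ A, m * a * m⁻¹ ∈ A) (hmR : m ∈ normalizer (R : Set G)) {p : ℕ} (hp : p.Prime)
    (hxm : ∀ x ∈ R, (x * m) ^ p = 1) {a : G} (ha : a ∈ A) : ps m a ∈ centralizer (R : Set G) := by
  set X := normalizer (R : Set G) with hX
  have hRX : R ≤ X := le_normalizer
  haveI : (R.subgroupOf X).Normal := Subgroup.normal_in_normalizer
  have h1 := normal_case (X := X) hr hr2 (R := R.subgroupOf X) (hR.of_equiv (Subgroup.subgroupOfEquivOfLe hRX).symm)
    (A := A.subgroupOf X) (fun a ha => Subtype.ext (hA a ha)) (m := ⟨m, hmR⟩) (fun a ha => hm a ha) hp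
    (fun x hx => Subtype.ext (hxm x hx)) (a := ⟨a, hAR ha⟩) ha
  rw [mem_centralizer_iff] at h1 ⊢
  intro x hx
  exact congrArg Subtype.val (h1 ⟨x, hRX hx⟩ hx)

end Cfsg.Agent.Lib.H15B
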