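import Cfsg.Agent.Lib.H15Ta
import Cfsg.Agent.Lib.CDeg2
import Cfsg.Agent.Lib.Cores
import Cfsg.Agent.S0018
import Cfsg.Agent.S0144

set_option autoImplicit false

namespace Cfsg.Agent.Lib.H15T

open Subgroup Cfsg

attribute [local instance] Cfsg.Agent.Lib.SSF2.fact2

/-- in a solvable group with abelian Sylow 2-subgroup `S`, the odd order subgroups normalized by `S` lie in `O(H)` -/
theorem le_core_of_solv {H : Type*} [Group H] [Finite H] [Group.IsSolvable H] (S : Sylow 2 H)
    (hc : IsMulCommutative (S : Subgroup H)) {K : Subgroup H} (hK : Odd (Nat.card K))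
    (hSK : (S : Subgroup H) ≤ normalizer (K : Set H)) : K ≤ pPrimeCore 2 H := by
  set π := QuotientGroup.mk' (pPrimeCore 2 H) with hπ
  have hsurj : Function.Surjective π := QuotientGroup.mk'_surjective _
  have hO : oddCore (H ⧸ pPrimeCore 2 H) = ⊥ := Cores.pPrimeCore_quotient_pPrimeCore 2 H
  set S' : Sylow 2 (H ⧸ pPrimeCore 2 H) := S.mapSurjective hsurj with hS'
  have hS'c : (S' : Subgroup (H ⧸ pPrimeCore 2 H)) = (S : Subgroup H).map π := Sylow.coe_mapSurjective hsurj S
  have hn : (S' : Subgroup (H ⧸ pPrimeCore 2 H)).Normal := by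
    have h1 : ((S : Subgroup H) ⊔ pPrimeCore 2 H).Normal := Cfsg.Agent.S0018.result 2 S hc
    have h2 : (S' : Subgroup (H ⧸ pPrimeCore 2 H)) = ((S : Subgroup H) ⊔ pPrimeCore 2 H).map π := by
      rw [hS'c, Subgroup.map_sup]
      have : (pPrimeCore 2 H).map π = ⊥ := by
        rw [Subgroup.map_eq_bot_iff, hπ, QuotientGroup.ker_mk']
      rw [this, sup_bot_eq]
    rw [h2]
    exact h1.map π hsurj
  have hcomm : ∀ x ∈ S', ∀ y ∈ S', x * y = y * x := by
    intro x hx y hy
    have hx' : x ∈ (S : Subgroup H).map π := by rw [← hS'c]; exact hx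
    have hy' : y ∈ (S : Subgroup H).map π := by rw [← hS'c]; exact hy
    obtain ⟨a, ha, rfl⟩ := hx'
    obtain ⟨b, hb, rfl⟩ := hy'
    rw [← map_mul, ← map_mul]
    congr 1
    exact congrArg Subtype.val (hc.is_comm.comm (⟨a, ha⟩ : (S : Subgroup H)) ⟨b, hb⟩)
  have hcent := CDeg.cent_le hO S' hcomm
  have hdis : (K.map π) ⊓ (S' : Subgroup (H ⧸ pPrimeCore 2 H)) = ⊥ := by
    apply Subgroup.inf_eq_bot_of_coprime
    obtain ⟨n, hn⟩ := S'.isPGroup'.exists_card_eq
    have h3 : Nat.card (K.map π) ∣ Nat.card K := Cores.card_map_dvd' K π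
    have h4 : Odd (Nat.card (K.map π)) := Odd.of_dvd_nat hK h3
    rw [hn]
    exact (Nat.coprime_two_right.mpr h4).pow_right n
  have hle : K.map π ≤ centralizer ((S' : Subgroup (H ⧸ pPrimeCore 2 H)) : Set (H ⧸ pPrimeCore 2 H)) := by
    intro x hx
    rw [mem_centralizer_iff]
    intro y hy
    have hyS : y ∈ (S : Subgroup H).map π := by rw [← hS'c]; exact hy
    have h5 : y * x * y⁻¹ ∈ K.map π := by
      obtain ⟨a, ha, rfl⟩ := hyS
      obtain ⟨k, hk, rfl⟩ := hx
      refine ⟨a * k * a⁻¹, ?_, by simp⟩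
      have := hSK ha
      rw [mem_normalizer_iff] at this
      exact (this k).1 hk
    have h6 : y * x * y⁻¹ * x⁻¹ ∈ (K.map π) ⊓ (S' : Subgroup (H ⧸ pPrimeCore 2 H)) := by
      refine ⟨Subgroup.mul_mem _ h5 (Subgroup.inv_mem _ hx), ?_⟩
      have h7 : x * y⁻¹ * x⁻¹ ∈ (S' : Subgroup (H ⧸ pPrimeCore 2 H)) := hn.conj_mem _ (Subgroup.inv_mem _ hy) x
      have h9 : y * x * y⁻¹ * x⁻¹ = y * (x * y⁻¹ * x⁻¹) := by group
      rw [h9]
      exact Subgroup.mul_mem _ hy h7
    rw [hdis, Subgroup.mem_bot] at h6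
    have h8 : y * x * y⁻¹ = x := by
      calc y * x * y⁻¹ = y * x * y⁻¹ * x⁻¹ * x := by group
        _ = x := by rw [h6, one_mul]
    calc y * x = y * x * y⁻¹ * y := by group
      _ = x * y := by rw [h8]
  have hbot : K.map π = ⊥ := by
    rw [← hdis]
    exact (inf_eq_left.mpr (hle.trans hcent)).symm
  rw [Subgroup.map_eq_bot_iff, hπ, QuotientGroup.ker_mk'] at hbot
  exact hbot

variable {G : Type*} [Group G] [Finite G] {r : ℕ}

theorem HypR.sq_eq_one (h : HypR G r) {A : Subgroup G} (hA : IsPGroup 2 A) {a : G} (ha : a ∈ A) : a * a = 1 := by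
  obtain ⟨k, hk⟩ := hA ⟨a, ha⟩
  have hk' : a ^ 2 ^ k = 1 := by simpa using congrArg Subtype.val hk
  have h1 : orderOf a ∣ 2 ^ k := orderOf_dvd_of_pow_eq_one hk'
  obtain ⟨j, -, hj⟩ := (Nat.dvd_prime_pow Nat.prime_two).1 h1
  rcases Nat.eq_zero_or_pos j with h0 | h0
  · rw [h0, pow_zero, orderOf_eq_one_iff] at hj
    rw [hj, one_mul]
  · have h2 : 2 ∣ orderOf a := by rw [hj]; exact dvd_pow_self 2 h0.ne'
    rcases h.even a h2 with h3 | h3
    · rw [← pow_two, ← h3]; exact pow_orderOf_eq_one a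
    · exfalso
      have h4 : r ∣ 2 ^ j := by rw [← hj, h3]; exact dvd_mul_left _ _
      have h5 := (Nat.prime_dvd_prime_iff_eq h.rp Nat.prime_two).1 (h.rp.dvd_of_dvd_pow h4)
      exact h.r2 h5

theorem HypR.comm (h : HypR G r) {A : Subgroup G} (hA : IsPGroup 2 A) {a b : G} (ha : a ∈ A) (hb : b ∈ A) :
    a * b = b * a := by
  have h1 := h.sq_eq_one hA ha
  have h2 := h.sq_eq_one hA hb
  have h3 := h.sq_eq_one hA (mul_mem ha hb)
  have ha' : a⁻¹ = a := inv_eq_of_mul_eq_one_left h1
  have hb' : b⁻¹ = b := inv_eq_of_mul_eq_one_left h2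
  have h4 : (a * b)⁻¹ = a * b := inv_eq_of_mul_eq_one_left h3
  rw [mul_inv_rev, ha', hb'] at h4
  exact h4.symm

theorem HypR.elem (h : HypR G r) {A : Subgroup G} (hA : IsPGroup 2 A) : IsElementaryAbelian 2 A := by
  refine ⟨⟨⟨fun a b => Subtype.ext (h.comm hA a.2 b.2)⟩⟩, fun a ha => ?_⟩
  rw [pow_two]; exact h.sq_eq_one hA ha

/-- a commuting pair of elements of coprime prime orders -/
theorem orderOf_mul_of_comm {x y : G} (hc : x * y = y * x) (hco : (orderOf x).Coprime (orderOf y)) :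
    orderOf (x * y) = orderOf x * orderOf y :=
  Commute.orderOf_mul_eq_mul_orderOf_of_coprime hc hco

theorem HypR.dvd_cent (h : HypR G r) {t : G} (ht : orderOf t = 2) {p : ℕ} (hp : p.Prime)
    (hd : p ∣ Nat.card (centralizer ({t} : Set G))) : p = 2 ∨ p = r := by
  by_contra hcon
  push Not at hcon
  haveI := Fact.mk hp
  obtain ⟨y, hy⟩ := exists_prime_orderOf_dvd_card' p hd
  have hyo : orderOf (y : G) = p := by rw [Subgroup.orderOf_coe]; exact hy
  have hyc : (y : G) * t = t * y := by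
    have := y.2
    rw [mem_centralizer_singleton_iff] at this
    exact this.symm ▸ rfl
  have h1 : orderOf ((y : G) * t) = p * 2 := by
    rw [orderOf_mul_of_comm hyc, hyo, ht]
    rw [hyo, ht]
    exact (Nat.coprime_primes hp Nat.prime_two).2 hcon.1
  rcases h.even ((y : G) * t) (by rw [h1]; exact dvd_mul_left _ _) with h2 | h2
  · rw [h1] at h2
    have := hp.two_le
    omega
  · rw [h1] at h2
    exact hcon.2 (by omega)

theorem HypR.dvd_cent_r (h : HypR G r) {x : G} (hx : orderOf x = r) {p : ℕ} (hp : p.Prime)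
    (hd : p ∣ Nat.card (centralizer ({x} : Set G))) : p = 2 ∨ p = r := by
  by_contra hcon
  push Not at hcon
  haveI := Fact.mk hp
  obtain ⟨y, hy⟩ := exists_prime_orderOf_dvd_card' p hd
  have hyo : orderOf (y : G) = p := by rw [Subgroup.orderOf_coe]; exact hy
  have hyc : (y : G) * x = x * y := by
    have := y.2
    rw [mem_centralizer_singleton_iff] at this
    exact this.symm ▸ rfl
  have h1 : orderOf ((y : G) * x) = p * r := by
    rw [orderOf_mul_of_comm hyc, hyo, hx]
    rw [hyo, hx]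
    exact (Nat.coprime_primes hp h.rp).2 hcon.2
  have hr0 := h.rp.pos
  rcases h.rr ((y : G) * x) (by rw [h1]; exact dvd_mul_left _ _) with h2 | h2
  · rw [h1] at h2
    have := hp.two_le
    have h3 : p * r = 1 * r := by rw [h2, one_mul]
    have := Nat.eq_of_mul_eq_mul_right hr0 h3
    omega
  · rw [h1] at h2
    exact hcon.1 (Nat.eq_of_mul_eq_mul_right hr0 h2)

/-- a group whose order has prime divisors among `2`, `r` is solvable -/
theorem solv_of_dvd {H : Type*} [Group H] [Finite H] (hr : r.Prime) (hH : ∀ p : ℕ, p.Prime → p ∣ Nat.card H → p = 2 ∨ p = r)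
    (hr2 : r ≠ 2) : Group.IsSolvable H := by
  have hne : Nat.card H ≠ 0 := Nat.card_pos.ne'
  have h1 : Nat.card H = 2 ^ (Nat.card H).factorization 2 * r ^ (Nat.card H).factorization r := by
    conv_lhs => rw [← Nat.prod_factorization_pow_eq_self hne]
    rw [Finsupp.prod_of_support_subset (s := {2, r})]
    · rw [Finset.prod_pair (Ne.symm hr2)]
    · intro p hp
      rw [Nat.support_factorization, Nat.mem_primeFactors] at hp
      rw [Finset.mem_insert, Finset.mem_singleton]
      exact hH p hp.1 hp.2.1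
    · intro i _; exact pow_zero i
  exact Cfsg.Agent.S0144.result 2 r _ _ Nat.prime_two hr h1

theorem HypR.solv_cent (h : HypR G r) {t : G} (ht : orderOf t = 2) :
    Group.IsSolvable (centralizer ({t} : Set G)) :=
  solv_of_dvd h.rp (fun _ hp hd => h.dvd_cent ht hp hd) h.r2

theorem HypR.core_pgroup (h : HypR G r) {t : G} (ht : orderOf t = 2) :
    IsPGroup r (centralizerPPrimeCore 2 t) := by
  haveI := Fact.mk h.rp
  apply IsPGroup.of_card (n := (Nat.card (centralizerPPrimeCore 2 t)).factorization r)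
  have hne : Nat.card (centralizerPPrimeCore 2 t) ≠ 0 := Nat.card_pos.ne'
  conv_lhs => rw [← Nat.prod_factorization_pow_eq_self hne]
  rw [Finsupp.prod_of_support_subset (s := {r})]
  · rw [Finset.prod_singleton]
  · intro p hp
    rw [Nat.support_factorization, Nat.mem_primeFactors] at hp
    rw [Finset.mem_singleton]
    rcases h.dvd_cent ht hp.1 (hp.2.1.trans (Subgroup.card_dvd_of_le (Balance.cpc_le (p := 2) t))) with h1 | h1
    · exfalso
      rw [h1] at hp
      exact Balance.cpc_not_dvd (p := 2) t hp.2.1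
    · exact h1
  · intro i _; exact pow_zero i

theorem HypR.sylow_le_cent (h : HypR G r) {t : G} (S : Sylow 2 G) (htS : t ∈ (S : Subgroup G)) :
    (S : Subgroup G) ≤ centralizer ({t} : Set G) := by
  intro s hs
  rw [mem_centralizer_singleton_iff]
  exact h.comm S.isPGroup' hs htS

theorem HypR.le_core (h : HypR G r) {t : G} (ht : orderOf t = 2) (S : Sylow 2 G) (htS : t ∈ (S : Subgroup G))
    {K : Subgroup G} (hK : Odd (Nat.card K)) (hKt : K ≤ centralizer ({t} : Set G))
    (hSK : (S : Subgroup G) ≤ normalizer (K : Set G)) : K ≤ centralizerPPrimeCore 2 t := by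
  haveI := h.solv_cent ht
  have hSt := h.sylow_le_cent S htS
  have h1 : K.subgroupOf (centralizer ({t} : Set G)) ≤ pPrimeCore 2 (centralizer ({t} : Set G)) := by
    apply le_core_of_solv (S.subtype hSt)
    · refine ⟨⟨fun a b => ?_⟩⟩
      apply Subtype.ext; apply Subtype.ext
      exact h.comm S.isPGroup' a.2 b.2
    · rw [Nat.card_congr (Subgroup.subgroupOfEquivOfLe hKt).toEquiv]; exact hK
    · intro x hx
      have hx' : (x : G) ∈ (S : Subgroup G) := hx
      apply Subgroup.le_normalizer_comap (centralizer ({t} : Set G)).subtype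
      exact hSK hx'
  unfold centralizerPPrimeCore
  rw [← Subgroup.map_subgroupOf_eq_of_le hKt]
  exact Subgroup.map_mono h1

theorem HypR.sylow_core_normal (h : HypR G r) {t : G} (ht : orderOf t = 2) (S : Sylow 2 G) (htS : t ∈ (S : Subgroup G)) :
    centralizer ({t} : Set G) ≤ normalizer (((S : Subgroup G) ⊔ centralizerPPrimeCore 2 t : Subgroup G) : Set G) := by
  haveI := h.solv_cent ht
  have hSt := h.sylow_le_cent S htS
  have h1 : (((S.subtype hSt : Sylow 2 _) : Subgroup (centralizer ({t} : Set G))) ⊔ pPrimeCore 2 (centralizer ({t} : Set G))).Normal := by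
    apply Cfsg.Agent.S0018.result 2 (S.subtype hSt)
    refine ⟨⟨fun a b => ?_⟩⟩
    apply Subtype.ext; apply Subtype.ext
    exact h.comm S.isPGroup' a.2 b.2
  have h2 : (S : Subgroup G) ⊔ centralizerPPrimeCore 2 t =
      (((S.subtype hSt : Sylow 2 _) : Subgroup (centralizer ({t} : Set G))) ⊔ pPrimeCore 2 (centralizer ({t} : Set G))).map
        (centralizer ({t} : Set G)).subtype := by
    rw [Subgroup.map_sup]
    congr 1
    exact (Subgroup.map_subgroupOf_eq_of_le hSt).symm
  rw [h2]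
  exact Cores.le_normalizer_map_subtype _

/-- **balance** -/
theorem HypR.bal (h : HypR G r) : SSF2.Bal2 G := by
  intro x y hx hy hxy
  apply Balance.balance_of_pLayer_eq_bot hxy
  · have : IsPGroup (2 ^ 1) (zpowers x) := by
      rw [pow_one]
      apply IsPGroup.of_card (n := 1)
      rw [Nat.card_zpowers, hx, pow_one]
    simpa using this
  · exact Balance.pLayer_eq_bot_of_isSolvable (h.solv_cent hy)

theorem HypR.sub (h : HypR G r) (H : Subgroup G) : HypR H r where
  rp := h.rp
  r2 := h.r2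
  even x hx := by rw [← Subgroup.orderOf_coe] at hx ⊢; exact h.even x hx
  rr x hx := by rw [← Subgroup.orderOf_coe] at hx ⊢; exact h.rr x hx

theorem HypR.pow_r (h : HypR G r) {R : Subgroup G} (hR : IsPGroup r R) {x : G} (hx : x ∈ R) : x ^ r = 1 := by
  obtain ⟨k, hk⟩ := hR ⟨x, hx⟩
  have hk' : x ^ r ^ k = 1 := by simpa using congrArg Subtype.val hk
  have h1 : orderOf x ∣ r ^ k := orderOf_dvd_of_pow_eq_one hk'
  obtain ⟨j, -, hj⟩ := (Nat.dvd_prime_pow h.rp).1 h1
  rcases Nat.eq_zero_or_pos j with h0 | h0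
  · rw [h0, pow_zero, orderOf_eq_one_iff] at hj
    rw [hj, one_pow]
  · have h2 : r ∣ orderOf x := by rw [hj]; exact dvd_pow_self r h0.ne'
    rcases h.rr x h2 with h3 | h3
    · rw [← h3]; exact pow_orderOf_eq_one x
    · exfalso
      have h4 : 2 ∣ r ^ j := by rw [← hj, h3]; exact dvd_mul_right _ _
      have h5 := (Nat.prime_dvd_prime_iff_eq Nat.prime_two h.rp).1 (Nat.prime_two.dvd_of_dvd_pow h4)
      exact h.r2 h5.symm

end Cfsg.Agent.Lib.H15T
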