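import Cfsg.Agent.Lib.H15Bb
import Cfsg.Agent.Lib.H15Tb
import Cfsg.Agent.Lib.CoprimeAction
import Cfsg.Agent.Lib.SylAmb

set_option autoImplicit false

/-!
Piece B: `[A, n]` centralizes `R` (helper15)
-/

namespace Cfsg.Agent.Lib.H15T

open Subgroup Cfsg Cfsg.Agent.Lib.H15B

variable {G : Type*} [Group G] [Finite G] {r : ℕ}

theorem conj_mem_of_norm {A : Subgroup G} {n : G} (hn : n ∈ normalizer (A : Set G)) {a : G} (ha : a ∈ A) :
    n * a * n⁻¹ ∈ A := (mem_normalizer_iff.1 hn a).1 ha

/-- an element of order `p ≠ r` acts without fixed points on `R`, so all `x m` have order `p` -/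
theorem HypR.pow_of_ne (h : HypR G r) {R : Subgroup G} (hR : IsPGroup r R) {m : G} (hmR : m ∈ normalizer (R : Set G))
    {p : ℕ} (hp : p.Prime) (hp2 : p ≠ 2) (hpr : p ≠ r) (hm : orderOf m = p) {x : G} (hx : x ∈ R) : (x * m) ^ p = 1 := by
  haveI := Fact.mk h.rp
  have hfix : ∀ y ∈ R, y * m = m * y → y = 1 := by
    intro y hy hc
    by_contra hy1
    have hyo : orderOf y = r := orderOf_eq_prime (h.pow_r hR hy) hy1
    have h1 : orderOf (y * m) = r * p := by
      rw [orderOf_mul_of_comm hc, hyo, hm]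
      rw [hyo, hm]
      exact (Nat.coprime_primes h.rp hp).2 (Ne.symm hpr)
    have hr0 := h.rp.pos
    have hp1 := hp.two_le
    rcases h.rr (y * m) (by rw [h1]; exact dvd_mul_right _ _) with h2 | h2
    · rw [h1] at h2
      have h3 : r * p = r * 1 := by rw [h2, mul_one]
      have := Nat.eq_of_mul_eq_mul_left hr0 h3
      omega
    · rw [h1, mul_comm] at h2
      exact hp2 (Nat.eq_of_mul_eq_mul_right hr0 h2)
  have hmem : ∀ y ∈ R, y * m * y⁻¹ * m⁻¹ ∈ R := by
    intro y hy
    have : y * m * y⁻¹ * m⁻¹ = y * (m * y⁻¹ * m⁻¹) := by group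
    rw [this]
    exact R.mul_mem hy (conj_mem_of_norm hmR (R.inv_mem hy))
  let f : R → R := fun y => ⟨(y : G) * m * (y : G)⁻¹ * m⁻¹, hmem y y.2⟩
  have hinj : Function.Injective f := by
    intro y z hyz
    have h1 : (y : G) * m * (y : G)⁻¹ * m⁻¹ = (z : G) * m * (z : G)⁻¹ * m⁻¹ := congrArg Subtype.val hyz
    have h2 : (y : G) * m * (y : G)⁻¹ = (z : G) * m * (z : G)⁻¹ := mul_right_cancel h1
    have h3 : ((z : G)⁻¹ * y) * m = m * ((z : G)⁻¹ * y) := by
      calc ((z : G)⁻¹ * y) * m = (z : G)⁻¹ * ((y : G) * m * (y : G)⁻¹) * y := by group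
        _ = (z : G)⁻¹ * ((z : G) * m * (z : G)⁻¹) * y := by rw [h2]
        _ = m * ((z : G)⁻¹ * y) := by group
    have h4 := hfix _ (R.mul_mem (R.inv_mem z.2) y.2) h3
    apply Subtype.ext
    exact (inv_mul_eq_one.1 h4).symm
  have hsurj : Function.Surjective f := Finite.surjective_of_injective hinj
  obtain ⟨y, hy⟩ := hsurj ⟨x, hx⟩
  have h1 : (y : G) * m * (y : G)⁻¹ * m⁻¹ = x := congrArg Subtype.val hy
  have h2 : x * m = (y : G) * m * (y : G)⁻¹ := by rw [← h1]; group
  rw [h2, conj_pow, ← hm, pow_orderOf_eq_one, mul_one, mul_inv_cancel]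

theorem HypR.comm_centralizes (h : HypR G r) {A R : Subgroup G} (hA : IsPGroup 2 A) (hR : IsPGroup r R)
    (hAR : A ≤ normalizer (R : Set G)) {n : G} (hnA : n ∈ normalizer (A : Set G))
    (hnR : n ∈ normalizer (R : Set G)) (hn : Odd (orderOf n)) {a : G} (ha : a ∈ A) :
    a * n * a⁻¹ * n⁻¹ ∈ centralizer (R : Set G) := by
  have hAA : ∀ a ∈ A, a * a = 1 := fun a ha => h.sq_eq_one hA ha
  by_cases hp : ∃ p : ℕ, p.Prime ∧ p ≠ r ∧ p ∣ orderOf n
  · obtain ⟨p, hp, hpr, hpn⟩ := hp
    have hp2 : p ≠ 2 := by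
      rintro rfl
      exact (Nat.not_even_iff_odd.2 hn) (even_iff_two_dvd.2 hpn)
    haveI := Fact.mk hp
    set m := n ^ (orderOf n / p) with hm
    have hmo : orderOf m = p := orderOf_pow_orderOf_div (orderOf_pos n).ne' hpn
    have hmA : m ∈ normalizer (A : Set G) := Subgroup.pow_mem _ hnA _
    have hmR : m ∈ normalizer (R : Set G) := Subgroup.pow_mem _ hnR _
    have hU : ∀ a ∈ A, ps m a ∈ centralizer (R : Set G) := fun a ha =>
      lemU h.rp h.r2 hR hAR hAA (fun a ha => conj_mem_of_norm hmA ha) hmR hp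
        (fun x hx => h.pow_of_ne hR hmR hp hp2 hpr hmo hx) ha
    -- all of `A` centralizes `R`
    have hall : ∀ a ∈ A, a ∈ centralizer (R : Set G) := by
      intro a ha
      have hcomm : ∀ a ∈ A, ∀ b ∈ A, a * b = b * a := fun a ha b hb => h.comm hA ha hb
      let C : Subgroup G := A ⊓ centralizer (R : Set G)
      have hCmem : ∀ x : G, x ∈ C ↔ x ∈ A ∧ x ∈ centralizer (R : Set G) := fun x => mem_inf
      have hmconj : ∀ c ∈ C, m * c * m⁻¹ ∈ C := by
        intro c hc
        rw [hCmem] at hc ⊢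
        refine ⟨conj_mem_of_norm hmA hc.1, ?_⟩
        rw [mem_centralizer_iff]
        intro x hx
        have h2 : m⁻¹ * x * m⁻¹⁻¹ ∈ R := conj_mem_of_norm (Subgroup.inv_mem _ hmR) hx
        have h3 := (mem_centralizer_iff.1 hc.2) _ h2
        calc x * (m * c * m⁻¹) = m * ((m⁻¹ * x * m⁻¹⁻¹) * c) * m⁻¹ := by group
          _ = m * (c * (m⁻¹ * x * m⁻¹⁻¹)) * m⁻¹ := by rw [h3]
          _ = m * c * m⁻¹ * x := by group
      have hmC : zpowers m ≤ normalizer (C : Set G) := by
        rw [zpowers_le]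
        have h1 : C.map (MulAut.conj m).toMonoidHom ≤ C := by
          rintro _ ⟨c, hc, rfl⟩
          exact hmconj c hc
        have h2 : C.map (MulAut.conj m).toMonoidHom = C :=
          Subgroup.eq_of_le_of_card_ge h1 (by
            rw [Subgroup.card_map_of_injective (MulAut.conj m).injective])
        exact SylAmb.mem_normalizer_iff_map.2 h2
      have haC : a ∈ normalizer (C : Set G) := by
        rw [mem_normalizer_iff]
        intro c
        have key : ∀ x ∈ A, ∀ c ∈ C, x * c * x⁻¹ = c := by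
          intro x hx c hc
          rw [hcomm x hx c ((hCmem c).1 hc).1]; group
        constructor
        · intro hc; rw [key a ha c hc]; exact hc
        · intro hc
          have h1 := key a⁻¹ (A.inv_mem ha) _ hc
          have h2 : a⁻¹ * (a * c * a⁻¹) * a⁻¹⁻¹ = c := by group
          rw [h2] at h1
          rw [h1]; exact hc
      have hcop : (Nat.card (zpowers m)).Coprime (Nat.card C) := by
        rw [Nat.card_zpowers, hmo]
        obtain ⟨k, hk⟩ := (hA.to_le (inf_le_left : C ≤ A)).exists_card_eq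
        rw [hk]
        exact Nat.Coprime.pow_right k ((Nat.coprime_primes hp Nat.prime_two).2 hp2)
      have hsolv : Group.IsSolvable (zpowers m) := inferInstance
      obtain ⟨c, hc, hac⟩ := CoprimeAction.exists_mem_centralizer_of_quotient hmC hcop (Or.inl hsolv) a haC (by
        intro z hz
        obtain ⟨k, rfl⟩ := (mem_powers_iff_mem_zpowers).2 hz
        obtain ⟨a', ha', hk⟩ := exists_ps_pow hcomm (fun a ha => conj_mem_of_norm hmA ha) k a ha
        have h1 : m ^ k * a * (m ^ k)⁻¹ * a⁻¹ = (ps (m ^ k) a)⁻¹ := by unfold ps; group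
        show m ^ k * a * (m ^ k)⁻¹ * a⁻¹ ∈ C
        rw [h1, hk]
        apply C.inv_mem
        rw [hCmem]
        exact ⟨ps_mem (fun a ha => conj_mem_of_norm hmA ha) ha', hU a' ha'⟩)
      have hcA : c ∈ A := by
        have := A.mul_mem ha ((hCmem _).1 hac).1
        rwa [mul_inv_cancel_left] at this
      have hcm : c * m = m * c := by
        have := (mem_centralizer_iff.1 hc) m (mem_zpowers m)
        exact this.symm
      have hc1 : c = 1 := by
        by_contra hne
        have hco : orderOf c = 2 := orderOf_eq_prime (by rw [pow_two]; exact hAA c hcA) hne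
        have h1 : orderOf (c * m) = 2 * p := by
          rw [orderOf_mul_of_comm hcm, hco, hmo]
          rw [hco, hmo]
          exact (Nat.coprime_primes Nat.prime_two hp).2 (Ne.symm hp2)
        have hp1 := hp.two_le
        rcases h.even (c * m) (by rw [h1]; exact dvd_mul_right _ _) with h2 | h2
        · rw [h1] at h2; omega
        · rw [h1] at h2; exact hpr (by omega)
      rw [hc1, mul_one] at hac
      have := C.inv_mem hac
      rw [inv_inv] at this
      exact ((hCmem _).1 this).2
    have h1 : n * a⁻¹ * n⁻¹ ∈ A := conj_mem_of_norm hnA (A.inv_mem ha)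
    have h2 : a * n * a⁻¹ * n⁻¹ = a * (n * a⁻¹ * n⁻¹) := by group
    rw [h2]
    exact Subgroup.mul_mem _ (hall a ha) (hall _ h1)
  · push Not at hp
    by_cases hn1 : n = 1
    · subst hn1
      have : a * 1 * a⁻¹ * 1⁻¹ = 1 := by group
      rw [this]; exact Subgroup.one_mem _
    have hno : orderOf n = r := by
      have h1 : orderOf n ≠ 1 := fun h' => hn1 (orderOf_eq_one_iff.1 h')
      obtain ⟨q, hq, hqn⟩ := Nat.exists_prime_and_dvd h1
      have h2 : q = r := by
        by_contra hne
        exact hp q hq hne hqn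
      subst h2
      rcases h.rr n hqn with h3 | h3
      · exact h3
      · exfalso
        rw [h3] at hn
        exact (Nat.not_even_iff_odd.2 hn) (even_iff_two_dvd.2 (dvd_mul_right _ _))
    haveI := Fact.mk h.rp
    have hx : ∀ x ∈ R, (x * n) ^ r = 1 := by
      intro x hx
      have hnp : IsPGroup r (zpowers n) := IsPGroup.of_card (n := 1) (by rw [Nat.card_zpowers, hno, pow_one])
      have h1 : IsPGroup r (R ⊔ zpowers n : Subgroup G) :=
        hR.to_sup_of_normal_left' hnp (by rw [zpowers_le]; exact hnR)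
      exact h.pow_r h1 (Subgroup.mul_mem _ (mem_sup_left hx) (mem_sup_right (mem_zpowers n)))
    exact lemU h.rp h.r2 hR hAR hAA (fun a ha => conj_mem_of_norm hnA ha) hnR h.rp hx ha

end Cfsg.Agent.Lib.H15T
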