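import Cfsg.Agent.Lib.PNilp
import Cfsg.Agent.Lib.Transfer
import Cfsg.Agent.Lib.CyclicSylow
import Cfsg.Agent.Lib.CoprimeAction2
import Cfsg.Agent.Lib.LocBase
import Cfsg.Agent.Lib.H23Nilp
import Cfsg.Agent.Lib.CycNorm

/-!
# Local analysis of minimal simple counterexamples with a cyclic Sylow `p`-subgroup and abelian `p'`-subgroups
-/

set_option autoImplicit false

namespace Cfsg.Agent.Lib.H15CycA

open Subgroup Cfsg Cfsg.Agent.Lib.PNilp Cfsg.Agent.Lib.Transfer Cfsg.Agent.Lib.CycNorm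

universe u

variable {G : Type u} [Group G] [Finite G] {p : ℕ} [hp : Fact p.Prime]

def Good (p : ℕ) (X : Type u) [Group X] : Prop :=
  HasNormalPComplement p X ∨ ∀ Q : Sylow p X, (Q : Subgroup X).Normal

structure Ctx (P : Sylow p G) : Prop where
  simple : IsSimpleGroup G
  cyc : IsCyclic P
  ab : ∀ H : Subgroup G, ¬ p ∣ Nat.card H → ∀ a ∈ H, ∀ b ∈ H, a * b = b * a
  good : ∀ H : Subgroup G, H ≠ ⊤ → Good p H
  nc : ¬ HasNormalPComplement p G
  nn : ¬ (P : Subgroup G).Normal

/-- a `p`-element normalizing a Sylow `p`-subgroup lies in it -/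
theorem mem_sylow_of_normalizer {P : Sylow p G} {x : G} (hx : ∃ k, orderOf x = p ^ k)
    (hN : x ∈ normalizer ((P : Subgroup G) : Set G)) : x ∈ (P : Subgroup G) := by
  obtain ⟨k, hx⟩ := hx
  have h1 : IsPGroup p (zpowers x) := IsPGroup.of_card (n := k) (by rw [Nat.card_zpowers, hx])
  have h2 : x ∈ zpowers x ⊓ normalizer ((P : Subgroup G) : Set G) := ⟨mem_zpowers x, hN⟩
  change x ∈ zpowers x ⊓ normalizer (P : Set G) at h2
  rw [h1.inf_normalizer_sylow P] at h2
  exact h2.2

/-- a coprime action on a cyclic `p`-group with nontrivial fixed points is trivial -/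
theorem le_centralizer_of_isCyclic {A P : Subgroup G} (hP : IsPGroup p P) (hc : IsCyclic P)
    (hAP : A ≤ normalizer (P : Set G)) (hcop : (Nat.card A).Coprime (Nat.card P))
    (hfix : P ⊓ centralizer (A : Set G) ≠ ⊥) : P ≤ centralizer (A : Set G) := by
  have hab : IsMulCommutative P := inferInstance
  have h1 := Cfsg.Agent.Lib.CoprimeAction2.inf_commutator_eq_bot_of_abelian hAP hcop
  have h2 := Cfsg.Agent.Lib.CoprimeAction2.sup_commutator_eq_of_abelian hAP hcop
  have h3 : ⁅P, A⁆ ≤ P := Cfsg.Agent.Lib.LocBase.commutator_le_left_of_le hAP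
  have h4 := Cfsg.Agent.Lib.H23Nilp.coprime_card_of_isCyclic hc (inf_le_left : P ⊓ centralizer (A : Set G) ≤ P) h3 h1
  have h5 : ⁅P, A⁆ = ⊥ := by
    obtain ⟨a, ha⟩ := IsPGroup.iff_card.mp (hP.to_le (inf_le_left : P ⊓ centralizer (A : Set G) ≤ P))
    obtain ⟨b, hb⟩ := IsPGroup.iff_card.mp (hP.to_le h3)
    have ha0 : a ≠ 0 := by
      rintro rfl
      rw [pow_zero] at ha
      exact hfix (card_eq_one.mp ha)
    have hb0 : b = 0 := by
      by_contra hb0
      rw [ha, hb] at h4
      exact hp.out.one_lt.ne' (Nat.eq_one_of_dvd_coprimes h4 (dvd_pow_self p ha0) (dvd_pow_self p hb0))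
    rw [hb0, pow_zero] at hb
    exact card_eq_one.mp hb
  rw [h5, sup_bot_eq] at h2
  exact inf_eq_left.mp h2

variable {P : Sylow p G}

theorem Ctx.comm (h : Ctx P) {x y : G} (hx : x ∈ (P : Subgroup G)) (hy : y ∈ (P : Subgroup G)) :
    x * y = y * x := by
  have := h.cyc
  have h1 := (IsCyclic.commGroup (α := (P : Subgroup G))).mul_comm ⟨x, hx⟩ ⟨y, hy⟩
  exact congrArg Subtype.val h1

theorem Ctx.le_cent (h : Ctx P) : (P : Subgroup G) ≤ centralizer ((P : Subgroup G) : Set G) := by
  intro x hx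
  rw [mem_centralizer_iff]
  intro y hy
  exact h.comm hy hx

theorem Ctx.not_le (h : Ctx P) :
    ¬ normalizer ((P : Subgroup G) : Set G) ≤ centralizer ((P : Subgroup G) : Set G) := by
  intro hle
  exact h.nc ⟨P, (MonoidHom.transferSylow P hle).ker, inferInstance,
      MonoidHom.ker_transferSylow_isComplement' P hle⟩

theorem Ctx.N_not (h : Ctx P) : ¬ HasNormalPComplement p (normalizer ((P : Subgroup G) : Set G)) := by
  intro hn
  apply h.not_le
  intro g hg
  obtain ⟨a, b, ha, hb, hab⟩ := exists_parts p hp.out g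
  rw [hab]
  refine mul_mem (h.le_cent (mem_sylow_of_normalizer ha (pow_mem hg a))) ?_
  set N := normalizer ((P : Subgroup G) : Set G) with hN
  have hPN : (P : Subgroup G) ≤ N := le_normalizer
  have h1 := mem_centralizer_of_hasNormalPComplement hn ((P : Subgroup G).subgroupOf N)
    (P.isPGroup'.comap_of_injective N.subtype N.subtype_injective) ⟨g ^ b, pow_mem hg b⟩ (by
      rw [normalizer_eq_top_iff.mpr (normal_subgroupOf_iff_le_normalizer hPN |>.mpr le_rfl)]
      trivial) (by rw [Subgroup.orderOf_mk]; exact hb)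
  rw [mem_centralizer_iff] at h1 ⊢
  intro y hy
  have h2 := h1 ⟨y, hPN hy⟩ (by exact hy)
  exact congrArg Subtype.val h2

theorem Ctx.le_N (h : Ctx P) {H : Subgroup G} (hH : H ≠ ⊤)
    (hN : normalizer ((P : Subgroup G) : Set G) ≤ H) : H ≤ normalizer ((P : Subgroup G) : Set G) := by
  rcases h.good H hH with h1 | h1
  · exact absurd (HasNormalPComplement.mono hN h1) h.N_not
  · have hPH : (P : Subgroup G) ≤ H := le_normalizer.trans hN
    have h2 := h1 (P.subtype hPH)
    exact (normal_subgroupOf_iff_le_normalizer hPH).mp h2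

theorem Ctx.ne_top (h : Ctx P) : (P : Subgroup G) ≠ ⊤ := by
  intro h1
  apply h.nn
  rw [h1]; infer_instance

theorem Ctx.ne_bot (h : Ctx P) : (P : Subgroup G) ≠ ⊥ := by
  intro h1
  apply h.nn
  rw [h1]; infer_instance

theorem Ctx.cent_ne_top (h : Ctx P) {x : G} (hx : x ≠ 1) : centralizer {x} ≠ ⊤ := by
  intro h1
  have := h.simple
  have h2 : x ∈ center G := by
    rw [mem_center_iff]
    intro g
    have h3 : g ∈ centralizer {x} := by rw [h1]; trivial
    exact (mem_centralizer_singleton_iff.mp h3)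
  rcases (inferInstance : (center G).Normal).eq_bot_or_eq_top with h3 | h3
  · rw [h3] at h2
    exact hx (mem_bot.mp h2)
  · apply h.nn
    refine ⟨fun a ha g => ?_⟩
    have h4 : g ∈ center G := by rw [h3]; trivial
    have h5 : g * a * g⁻¹ = a := by
      rw [← mem_center_iff.mp h4 a]; group
    rwa [h5]

theorem Ctx.N_zpowers (h : Ctx P) {y : G} (hy : y ∈ (P : Subgroup G)) (hy1 : y ≠ 1) :
    normalizer ((zpowers y : Subgroup G) : Set G) ≤ normalizer ((P : Subgroup G) : Set G) := by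
  apply h.le_N
  · intro h1
    have h2 : (zpowers y).Normal := normalizer_eq_top_iff.mp h1
    have := h.simple
    rcases h2.eq_bot_or_eq_top with h3 | h3
    · exact hy1 (zpowers_eq_bot.mp h3)
    · apply h.ne_top
      rw [eq_top_iff, ← h3, zpowers_le]
      exact hy
  · intro g hg
    rw [mem_normalizer_zpowers_iff]
    have hg' : g * y * g⁻¹ ∈ (P : Subgroup G) := (mem_normalizer_iff.mp hg y).mp hy
    have := h.cyc
    obtain ⟨k, hk⟩ := Cfsg.Agent.Lib.H23Nilp.mem_zpowers_of_orderOf_dvd (x := (⟨y, hy⟩ : (P : Subgroup G)))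
      (y := ⟨g * y * g⁻¹, hg'⟩) (by
        rw [Subgroup.orderOf_mk, Subgroup.orderOf_mk]
        exact ((MulAut.conj g).orderOf_eq y).dvd)
    exact ⟨k, congrArg Subtype.val hk⟩

theorem Ctx.N_le_zpowers (h : Ctx P) {y : G} (hy : y ∈ (P : Subgroup G)) :
    normalizer ((P : Subgroup G) : Set G) ≤ normalizer ((zpowers y : Subgroup G) : Set G) := by
  intro g hg
  rw [mem_normalizer_zpowers_iff]
  have hg' : g * y * g⁻¹ ∈ (P : Subgroup G) := (mem_normalizer_iff.mp hg y).mp hy
  have := h.cyc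
  obtain ⟨k, hk⟩ := Cfsg.Agent.Lib.H23Nilp.mem_zpowers_of_orderOf_dvd (x := (⟨y, hy⟩ : (P : Subgroup G)))
    (y := ⟨g * y * g⁻¹, hg'⟩) (by
      rw [Subgroup.orderOf_mk, Subgroup.orderOf_mk]
      exact ((MulAut.conj g).orderOf_eq y).dvd)
  exact ⟨k, congrArg Subtype.val hk⟩

theorem Ctx.cent (h : Ctx P) {y : G} (hy : y ∈ (P : Subgroup G)) (hy1 : y ≠ 1) :
    centralizer {y} ≤ centralizer ((P : Subgroup G) : Set G) := by
  intro g hg
  have hgN : g ∈ normalizer ((P : Subgroup G) : Set G) := by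
    apply h.N_zpowers hy hy1
    rw [mem_normalizer_zpowers_iff]
    have h1 : g * y * g⁻¹ = y := by
      rw [mem_centralizer_singleton_iff.mp hg]; group
    rw [h1]; exact mem_zpowers y
  obtain ⟨a, b, ha, hb, hab⟩ := exists_parts p hp.out g
  rw [hab]
  refine mul_mem (h.le_cent (mem_sylow_of_normalizer ha (pow_mem hgN a))) ?_
  have hcop : (Nat.card (zpowers (g ^ b))).Coprime (Nat.card (P : Subgroup G)) := by
    obtain ⟨k, hk⟩ := IsPGroup.iff_card.mp P.isPGroup'
    rw [hk, Nat.card_zpowers]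
    exact Nat.Coprime.pow_right k hb
  have h1 := le_centralizer_of_isCyclic P.isPGroup' h.cyc (A := zpowers (g ^ b))
    (by rw [zpowers_le]; exact pow_mem hgN b) hcop (by
      intro h2
      apply hy1
      rw [← mem_bot, ← h2]
      refine ⟨hy, ?_⟩
      change y ∈ centralizer (zpowers (g ^ b) : Set G)
      rw [mem_centralizer_iff]
      intro z hz
      have h3 : z ∈ centralizer {y} := (zpowers_le.mpr (pow_mem hg b)) hz
      exact mem_centralizer_singleton_iff.mp h3)
  rw [mem_centralizer_iff]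
  intro z hz
  have h2 := mem_centralizer_iff.mp (h1 hz) (g ^ b) (mem_zpowers _)
  exact h2.symm

end Cfsg.Agent.Lib.H15CycA
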