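import Cfsg.Agent.Lib.H15CycA
import Cfsg.Agent.Lib.ConjSylow

set_option autoImplicit false

namespace Cfsg.Agent.Lib.H15CycA

open Subgroup Cfsg Cfsg.Agent.Lib.PNilp Cfsg.Agent.Lib.Transfer Cfsg.Agent.Lib.CycNorm

universe u

variable {G : Type u} [Group G] [Finite G] {p : ℕ} [hp : Fact p.Prime] {P : Sylow p G}

theorem exists_compl (P : Sylow p G) : ∃ K : Subgroup G, K ≤ normalizer ((P : Subgroup G) : Set G) ∧
    (∀ g ∈ normalizer ((P : Subgroup G) : Set G), ∃ a ∈ (P : Subgroup G), ∃ b ∈ K, g = a * b) ∧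
    ¬ p ∣ Nat.card K := by
  set N := normalizer ((P : Subgroup G) : Set G) with hN
  have hPN : (P : Subgroup G) ≤ N := le_normalizer
  have hnorm : ((P : Subgroup G).subgroupOf N).Normal :=
    (normal_subgroupOf_iff_le_normalizer hPN).mpr le_rfl
  have hidx : ¬ p ∣ ((P : Subgroup G).subgroupOf N).index := (P.subtype hPN).not_dvd_index
  obtain ⟨k, hk⟩ := IsPGroup.iff_card.mp (P.subtype hPN).isPGroup'
  have hk' : Nat.card ((P : Subgroup G).subgroupOf N) = p ^ k := hk
  have hcop : (Nat.card ((P : Subgroup G).subgroupOf N)).Coprime ((P : Subgroup G).subgroupOf N).index := by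
    rw [hk']
    exact Nat.Coprime.pow_left k ((Nat.Prime.coprime_iff_not_dvd hp.out).mpr hidx)
  obtain ⟨K', hK'⟩ := exists_right_complement'_of_coprime hcop
  refine ⟨K'.map N.subtype, map_subtype_le _, ?_, ?_⟩
  · intro g hg
    have h1 : (⟨g, hg⟩ : N) ∈ ((P : Subgroup G).subgroupOf N) ⊔ K' := by
      rw [hK'.sup_eq_top]; trivial
    obtain ⟨a, ha, b, hb, hab⟩ := mem_sup_of_normal_left.mp h1
    exact ⟨a, ha, b, ⟨b, hb, rfl⟩, (congrArg Subtype.val hab).symm⟩
  · have h1 : Nat.card (K'.map N.subtype) = Nat.card K' :=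
      Nat.card_congr (K'.equivMapOfInjective N.subtype N.subtype_injective).toEquiv.symm
    rw [h1]
    have h2 := hK'.symm.index_eq_card
    rw [← h2]
    exact hidx

theorem Ctx.x1 (h : Ctx P) {x : G} (hx : x ∈ centralizer ((P : Subgroup G) : Set G)) (hx1 : x ≠ 1)
    (hxp : (orderOf x).Coprime p) : normalizer ((P : Subgroup G) : Set G) ≤ centralizer {x} := by
  obtain ⟨K, hKN, hdec, hK⟩ := exists_compl P
  have hxK : x ∈ K := by
    have hxN : x ∈ normalizer ((P : Subgroup G) : Set G) := centralizer_le_normalizer _ hx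
    obtain ⟨a, ha, b, hb, hab⟩ := hdec x hxN
    have hax : a * x = x * a := by
      exact (mem_centralizer_iff.mp hx a ha)
    have hbx : Commute x b⁻¹ := by
      have h1 : b = a⁻¹ * x := by rw [hab]; group
      have h2 : Commute x b := by
        rw [h1]
        exact ((show Commute x a from hax.symm).inv_right).mul_right (Commute.refl x)
      exact h2.inv_right
    have ha2 : a = x * b⁻¹ := by rw [hab]; group
    have h3 : a ^ (orderOf x * Nat.card K) = 1 := by
      rw [ha2, hbx.mul_pow, pow_mul, pow_orderOf_eq_one, one_pow, one_mul, inv_pow, mul_comm, pow_mul]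
      have h4 : b ^ Nat.card K = 1 := by
        have := pow_card_eq_one' (x := (⟨b, hb⟩ : K))
        exact congrArg Subtype.val this
      rw [h4, one_pow, inv_one]
    have ha1 : a = 1 := by
      have h5 := orderOf_dvd_of_pow_eq_one h3
      obtain ⟨k, hk⟩ := (IsPGroup.iff_orderOf.mp P.isPGroup') ⟨a, ha⟩
      rw [Subgroup.orderOf_mk] at hk
      have h6 : (orderOf a).Coprime (orderOf x * Nat.card K) := by
        rw [hk]
        apply Nat.Coprime.pow_left
        exact Nat.Coprime.mul_right hxp.symm ((Nat.Prime.coprime_iff_not_dvd hp.out).mpr hK)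
      rw [← orderOf_eq_one_iff]
      exact Nat.Coprime.eq_one_of_dvd h6 h5
    rw [hab, ha1, one_mul]; exact hb
  intro g hg
  obtain ⟨a, ha, b, hb, rfl⟩ := hdec g hg
  refine mul_mem ?_ ?_
  · rw [mem_centralizer_singleton_iff]
    exact (mem_centralizer_iff.mp hx a ha)
  · rw [mem_centralizer_singleton_iff]
    exact h.ab K hK b hb x hxK

theorem Ctx.x1' (h : Ctx P) {x : G} (hx : x ∈ centralizer ((P : Subgroup G) : Set G)) (hx1 : x ≠ 1)
    (hxp : (orderOf x).Coprime p) : centralizer {x} = normalizer ((P : Subgroup G) : Set G) :=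
  le_antisymm (h.le_N (h.cent_ne_top hx1) (h.x1 hx hx1 hxp)) (h.x1 hx hx1 hxp)

theorem Ctx.cent_le (h : Ctx P) {x : G} (hx : x ∈ centralizer ((P : Subgroup G) : Set G)) (hx1 : x ≠ 1) :
    centralizer {x} ≤ normalizer ((P : Subgroup G) : Set G) := by
  obtain ⟨a, b, ha, hb, hab⟩ := exists_parts p hp.out x
  have hxN : x ∈ normalizer ((P : Subgroup G) : Set G) := centralizer_le_normalizer _ hx
  by_cases ha1 : x ^ a = 1
  · rw [ha1, one_mul] at hab
    rw [← hab] at hb
    exact (h.x1' hx hx1 hb).le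
  · have h1 := mem_sylow_of_normalizer ha (pow_mem hxN a)
    have h2 : centralizer {x} ≤ centralizer {x ^ a} := by
      intro g hg
      rw [mem_centralizer_singleton_iff] at hg ⊢
      exact (show Commute g x from hg).pow_right a
    exact h2.trans ((h.cent h1 ha1).trans (centralizer_le_normalizer _))

theorem mem_normalizer_of_forall {A : Subgroup G} {g : G} (h : ∀ y ∈ A, g * y * g⁻¹ ∈ A) :
    g ∈ normalizer (A : Set G) := by
  apply Cfsg.Agent.Lib.LocBase.mem_normalizer_of_map_conj_le
  rintro _ ⟨y, hy, rfl⟩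
  exact h y hy

theorem Ctx.uniq (h : Ctx P) {x g : G} (hx : x ∈ centralizer ((P : Subgroup G) : Set G)) (hx1 : x ≠ 1)
    (hg : g * x * g⁻¹ ∈ centralizer ((P : Subgroup G) : Set G)) :
    g ∈ normalizer ((P : Subgroup G) : Set G) := by
  apply mem_normalizer_of_forall
  intro y hy
  have hne : g * x * g⁻¹ ≠ 1 := by
    intro h1
    apply hx1
    have : x = g⁻¹ * (g * x * g⁻¹) * g := by group
    rw [this, h1]; group
  have h1 : g * y * g⁻¹ ∈ centralizer {g * x * g⁻¹} := by
    rw [mem_centralizer_singleton_iff]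
    have h2 : y * x = x * y := mem_centralizer_iff.mp hx y hy
    calc g * y * g⁻¹ * (g * x * g⁻¹) = g * (y * x) * g⁻¹ := by group
      _ = g * (x * y) * g⁻¹ := by rw [h2]
      _ = g * x * g⁻¹ * (g * y * g⁻¹) := by group
  have h3 := h.cent_le hg hne h1
  refine mem_sylow_of_normalizer ?_ h3
  obtain ⟨k, hk⟩ := (IsPGroup.iff_orderOf.mp P.isPGroup') ⟨y, hy⟩
  rw [Subgroup.orderOf_mk] at hk
  exact ⟨k, by rw [← hk]; exact (MulAut.conj g).orderOf_eq y⟩

theorem Ctx.dvd_card (h : Ctx P) : p ∣ Nat.card G := by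
  by_contra hc
  exact h.nc (hasNormalPComplement_of_not_dvd hc)

/-- (S5) -/
theorem Ctx.s5 (h : Ctx P) {r : ℕ} [hr : Fact r.Prime] (hrp : r ≠ p) (R : Sylow r G)
    (hR : (R : Subgroup G) ≠ ⊥) :
    ∃ u ∈ normalizer ((R : Subgroup G) : Set G), (∃ k, orderOf u = p ^ k) ∧
      u ∉ centralizer ((R : Subgroup G) : Set G) := by
  by_contra hcon
  push Not at hcon
  have hpR : ¬ p ∣ Nat.card (R : Subgroup G) := by
    intro h1
    obtain ⟨k, hk⟩ := IsPGroup.iff_card.mp R.isPGroup'
    rw [hk] at h1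
    exact hrp ((Nat.prime_dvd_prime_iff_eq hp.out hr.out).mp (hp.out.dvd_of_dvd_pow h1)).symm
  have hle : normalizer ((R : Subgroup G) : Set G) ≤ centralizer ((R : Subgroup G) : Set G) := by
    intro g hg
    obtain ⟨a, b, ha, hb, hab⟩ := exists_parts p hp.out g
    rw [hab]
    refine mul_mem (hcon _ (pow_mem hg a) ha) ?_
    rw [mem_centralizer_iff]
    intro y hy
    have h1 : zpowers (g ^ b) ≤ normalizer ((R : Subgroup G) : Set G) := by
      rw [zpowers_le]; exact pow_mem hg b
    have h2 : ¬ p ∣ Nat.card ((R : Subgroup G) ⊔ zpowers (g ^ b) : Subgroup G) := by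
      intro h3
      have h4 : Nat.card ((R : Subgroup G) ⊔ zpowers (g ^ b) : Subgroup G) ∣
          Nat.card (R : Subgroup G) * Nat.card (zpowers (g ^ b)) := by
        have h5 := Cfsg.Agent.Lib.ConjSylow.card_sup_mul_card_inf h1
        rw [sup_comm, mul_comm (Nat.card (R : Subgroup G)), ← h5]
        exact Dvd.intro _ rfl
      rcases (hp.out.dvd_mul).mp (h3.trans h4) with h5 | h5
      · exact hpR h5
      · rw [Nat.card_zpowers] at h5
        exact (Nat.Prime.coprime_iff_not_dvd hp.out).mp hb.symm h5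
    exact h.ab _ h2 y (mem_sup_left hy) _ (mem_sup_right (mem_zpowers _))
  have hc := MonoidHom.ker_transferSylow_isComplement' R hle
  set M := (MonoidHom.transferSylow R hle).ker with hM
  have := h.simple
  rcases (inferInstance : M.Normal).eq_bot_or_eq_top with h1 | h1
  · rw [h1] at hc
    have h2 := hc.card_mul
    rw [card_bot, one_mul] at h2
    exact hpR (by rw [h2]; exact h.dvd_card)
  · have h2 := hc.disjoint
    rw [h1, top_disjoint] at h2
    exact hR h2

end Cfsg.Agent.Lib.H15CycA
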