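import Cfsg.Agent.Lib.H15CycB

set_option autoImplicit false

namespace Cfsg.Agent.Lib.H15CycA

open Subgroup Cfsg Cfsg.Agent.Lib.PNilp Cfsg.Agent.Lib.Transfer Cfsg.Agent.Lib.CycNorm

universe u

variable {G : Type u} [Group G] [Finite G] {p : ℕ} [hp : Fact p.Prime] {P : Sylow p G}

omit hp in
theorem fixed_modEq [Fact p.Prime] (g : G) (hg : ∃ k, orderOf g = p ^ k) (R : Subgroup G)
    (hR : ∀ x ∈ R, g * x * g⁻¹ ∈ R) :
    Nat.card R ≡ Nat.card (R ⊓ Subgroup.centralizer {g} : Subgroup G) [MOD p] := by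
  classical
  obtain ⟨k, hk⟩ := hg
  haveI := Fintype.ofFinite R
  let f : Function.End R := fun x => ⟨g * x.1 * g⁻¹, hR x.1 x.2⟩
  have hpow : ∀ n : ℕ, ∀ x : R, ((f ^ n : Function.End R) x).1 = g ^ n * x.1 * (g ^ n)⁻¹ := by
    intro n
    induction n with
    | zero => intro x; simp; rfl
    | succ n ih =>
      intro x
      have : ((f ^ (n + 1) : Function.End R) x) = f ((f ^ n : Function.End R) x) := by
        rw [pow_succ']; rfl
      rw [this]
      show g * ((f ^ n : Function.End R) x).1 * g⁻¹ = _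
      rw [ih, pow_succ']
      group
  have hf : f ^ p ^ k = 1 := by
    funext x
    apply Subtype.ext
    rw [hpow, ← hk, pow_orderOf_eq_one]
    simp; rfl
  have h := Equiv.Perm.card_fixedPoints_modEq hf
  rw [Nat.card_eq_fintype_card]
  have h2 : Fintype.card (Function.fixedPoints f) = Nat.card (R ⊓ Subgroup.centralizer {g} : Subgroup G) := by
    rw [← Nat.card_eq_fintype_card]
    apply Nat.card_congr
    refine ⟨fun x => ⟨x.1.1, x.1.2, ?_⟩, fun x => ⟨⟨x.1, x.2.1⟩, ?_⟩, fun x => rfl, fun x => rfl⟩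
    · have h3 : f x.1 = x.1 := x.2
      have h4 : g * x.1.1 * g⁻¹ = x.1.1 := congrArg Subtype.val h3
      show x.1.1 ∈ Subgroup.centralizer {g}
      rw [Subgroup.mem_centralizer_singleton_iff]
      rw [mul_inv_eq_iff_eq_mul] at h4
      first | exact h4 | exact h4.symm
    · have h3 : x.1 ∈ Subgroup.centralizer {g} := x.2.2
      rw [Subgroup.mem_centralizer_singleton_iff] at h3
      show f ⟨x.1, x.2.1⟩ = ⟨x.1, x.2.1⟩
      apply Subtype.ext
      show g * x.1 * g⁻¹ = x.1
      rw [mul_inv_eq_iff_eq_mul]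
      first | exact h3 | exact h3.symm
  rw [← h2]
  exact h

theorem Ctx.exists_y (h : Ctx P) : ∃ y ∈ (P : Subgroup G), orderOf y = p := by
  have h1 : p ∣ Nat.card (P : Subgroup G) := by
    obtain ⟨k, hk⟩ := IsPGroup.iff_card.mp P.isPGroup'
    rcases Nat.eq_zero_or_pos k with h0 | h0
    · exfalso
      rw [h0, pow_zero] at hk
      exact h.ne_bot (card_eq_one.mp hk)
    · rw [hk]; exact dvd_pow_self p h0.ne'
  obtain ⟨y, hy⟩ := exists_prime_orderOf_dvd_card' p h1
  exact ⟨y, y.2, by rw [Subgroup.orderOf_coe]; exact hy⟩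

theorem Ctx.exists_f (h : Ctx P) : ∃ (A : Type u) (_ : Group A), IsCyclic A ∧ Finite A ∧ Nat.card A = p - 1 ∧
    ∃ f : normalizer ((P : Subgroup G) : Set G) →* A, ∀ n, f n = 1 ↔ (n : G) ∈ centralizer ((P : Subgroup G) : Set G) := by
  obtain ⟨y, hyP, hy⟩ := h.exists_y
  have hy1 : y ≠ 1 := by
    rintro rfl
    rw [orderOf_one] at hy
    exact hp.out.one_lt.ne hy
  have hcard : Nat.card (zpowers y) = p := by rw [Nat.card_zpowers, hy]
  let e := IsCyclic.mulAutMulEquiv (zpowers y)
  have hA : Nat.card (MulAut (zpowers y)) = p - 1 := by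
    rw [IsCyclic.card_mulAut, hcard, Nat.totient_prime hp.out]
  have hcyc : IsCyclic (MulAut (zpowers y)) := by
    have h1 : IsCyclic (ZMod (Nat.card (zpowers y)))ˣ := by
      rw [hcard]; infer_instance
    exact isCyclic_of_surjective e.symm e.symm.surjective
  refine ⟨MulAut (zpowers y), inferInstance, hcyc, inferInstance, hA,
    (normalizerMonoidHom (zpowers y)).comp (inclusion (h.N_le_zpowers hyP)), ?_⟩
  intro n
  have h1 : ((normalizerMonoidHom (zpowers y)).comp (inclusion (h.N_le_zpowers hyP))) n = 1 ↔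
      inclusion (h.N_le_zpowers hyP) n ∈ (normalizerMonoidHom (zpowers y)).ker := Iff.rfl
  rw [h1, normalizerMonoidHom_ker]
  constructor
  · intro h2
    apply h.cent hyP hy1
    rw [mem_centralizer_singleton_iff]
    exact ((mem_centralizer_iff.mp h2) y (mem_zpowers y)).symm
  · intro h2
    change (n : G) ∈ centralizer ((zpowers y : Subgroup G) : Set G)
    rw [mem_centralizer_iff]
    intro z hz
    exact mem_centralizer_iff.mp h2 z ((zpowers_le.mpr hyP) hz)

theorem Ctx.fB (h : Ctx P) {B : Subgroup G} (hB : B ≤ normalizer ((P : Subgroup G) : Set G)) :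
    ∃ m, Nat.card B = Nat.card (B ⊓ centralizer ((P : Subgroup G) : Set G) : Subgroup G) * m ∧ m ∣ p - 1 ∧
      ∀ r, 0 < r → (∀ z ∈ B, z ^ r = 1) → m ≤ r := by
  classical
  obtain ⟨A, _, hA1, hA2, hA3, f, hf⟩ := h.exists_f
  let g : B →* A := f.comp (inclusion hB)
  have hker : Nat.card g.ker = Nat.card (B ⊓ centralizer ((P : Subgroup G) : Set G) : Subgroup G) := by
    apply Nat.card_congr
    refine ⟨fun x => ⟨x.1.1, x.1.2, ?_⟩, fun x => ⟨⟨x.1, x.2.1⟩, ?_⟩, fun x => rfl, fun x => rfl⟩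
    · exact (hf _).mp x.2
    · exact (hf (inclusion hB ⟨x.1, x.2.1⟩)).mpr x.2.2
  refine ⟨Nat.card g.range, ?_, ?_, ?_⟩
  · rw [← hker, ← Nat.card_congr (QuotientGroup.quotientKerEquivRange g).toEquiv]
    rw [mul_comm]
    exact card_eq_card_quotient_mul_card_subgroup _
  · rw [← hA3]; exact card_subgroup_dvd_card _
  · intro r hr hz
    have := Fintype.ofFinite A
    have h1 := IsCyclic.card_pow_eq_one_le (α := A) hr
    refine le_trans ?_ h1
    rw [Nat.card_eq_fintype_card, Fintype.card_subtype]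
    apply Finset.card_le_card
    intro a ha
    simp only [Finset.mem_filter, Finset.mem_univ, true_and] at ha ⊢
    obtain ⟨b, rfl⟩ := ha
    rw [← map_pow]
    have : b ^ r = 1 := Subtype.ext (hz b b.2)
    rw [this, map_one]

end Cfsg.Agent.Lib.H15CycA
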