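import Cfsg.Agent.Lib.H15CycC

set_option autoImplicit false

namespace Cfsg.Agent.Lib.H15CycA

open Subgroup Cfsg Cfsg.Agent.Lib.PNilp Cfsg.Agent.Lib.Transfer Cfsg.Agent.Lib.CycNorm

universe u

variable {G : Type u} [Group G] [Finite G] {p : ℕ} [hp : Fact p.Prime] {P : Sylow p G}

theorem not_dvd_card {r : ℕ} [hr : Fact r.Prime] (hrp : r ≠ p) {R : Subgroup G} (hR : IsPGroup r R) :
    ¬ p ∣ Nat.card R := by
  intro h1
  obtain ⟨k, hk⟩ := IsPGroup.iff_card.mp hR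
  rw [hk] at h1
  exact hrp ((Nat.prime_dvd_prime_iff_eq hp.out hr.out).mp (hp.out.dvd_of_dvd_pow h1)).symm

theorem Ctx.comm' (h : Ctx P) {r : ℕ} [hr : Fact r.Prime] (hrp : r ≠ p) {R : Subgroup G} (hR : IsPGroup r R)
    {a b : G} (ha : a ∈ R) (hb : b ∈ R) : a * b = b * a := h.ab R (not_dvd_card hrp hR) a ha b hb

theorem Ctx.sylow_le_N (h : Ctx P) {r : ℕ} [hr : Fact r.Prime] (hrp : r ≠ p) {x : G}
    (hx : x ∈ centralizer ((P : Subgroup G) : Set G)) (hx1 : x ≠ 1) {R : Subgroup G} (hR : IsPGroup r R)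
    (hxR : x ∈ R) : R ≤ normalizer ((P : Subgroup G) : Set G) := by
  intro z hz
  apply h.cent_le hx hx1
  rw [mem_centralizer_singleton_iff]
  exact h.comm' hrp hR hz hxR

theorem inf_eq_bot {r : ℕ} [hr : Fact r.Prime] (hrp : r ≠ p) {R : Subgroup G} (hR : IsPGroup r R) {z : G}
    (hz : z ∈ R) (hzP : z ∈ (P : Subgroup G)) : z = 1 := by
  have h1 : (Nat.card R).Coprime (Nat.card (P : Subgroup G)) := by
    obtain ⟨k, hk⟩ := IsPGroup.iff_card.mp P.isPGroup'
    rw [hk]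
    exact Nat.Coprime.pow_right k ((Nat.Prime.coprime_iff_not_dvd hp.out).mpr (not_dvd_card hrp hR)).symm
  have h2 := Subgroup.inf_eq_bot_of_coprime h1
  rw [← mem_bot, ← h2]
  exact ⟨hz, hzP⟩

theorem Ctx.v (h : Ctx P) {r : ℕ} [hr : Fact r.Prime] (hrp : r ≠ p) {R : Subgroup G} (hR : IsPGroup r R)
    (hRN : R ≤ normalizer ((P : Subgroup G) : Set G)) {v : G} (hv : ∃ k, orderOf v = p ^ k)
    (hvR : v ∈ normalizer (R : Set G)) {w : G} (hw : w ∈ centralizer ((P : Subgroup G) : Set G)) (hw1 : w ≠ 1)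
    (hvw : v * w * v⁻¹ ∈ centralizer ((P : Subgroup G) : Set G)) : v ∈ centralizer (R : Set G) := by
  have hvP : v ∈ (P : Subgroup G) := mem_sylow_of_normalizer hv (h.uniq hw hw1 hvw)
  rw [mem_centralizer_iff]
  intro s hs
  have h1 : s * v * s⁻¹ ∈ (P : Subgroup G) := (mem_normalizer_iff.mp (hRN hs) v).mp hvP
  have h2 : v * s⁻¹ * v⁻¹ ∈ R := (mem_normalizer_iff.mp hvR s⁻¹).mp (R.inv_mem hs)
  have h3 : s * v * s⁻¹ * v⁻¹ = 1 := by
    apply inf_eq_bot (P := P) hrp hR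
    · have : s * v * s⁻¹ * v⁻¹ = s * (v * s⁻¹ * v⁻¹) := by group
      rw [this]; exact mul_mem hs h2
    · exact mul_mem h1 ((P : Subgroup G).inv_mem hvP)
  calc s * v = s * v * s⁻¹ * v⁻¹ * (v * s) := by group
    _ = v * s := by rw [h3, one_mul]

theorem numer {p r : ℕ} (hp : p.Prime) (hr : r.Prime) (hrp : r ∣ p - 1) (i : ℕ) (hi : i ≤ 1)
    (hmod : r ^ 2 ≡ r ^ i [MOD p]) : p = 3 ∧ r = 2 := by
  have hp2 := hp.two_le
  have hr2 := hr.two_le
  have hle : r ≤ p - 1 := Nat.le_of_dvd (by omega) hrp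
  have hnd : ¬ p ∣ r := by
    intro h1
    have := Nat.le_of_dvd (by omega) h1
    omega
  have hdiv : p ∣ (r - 1) * (r + 1) := by
    have h1 : p ∣ r ^ 2 - r ^ i := (Nat.modEq_iff_dvd' (Nat.pow_le_pow_right (by omega) (by omega))).mp hmod.symm
    interval_cases i
    · have h2 : r ^ 2 - r ^ 0 = (r - 1) * (r + 1) := by
        obtain ⟨s, rfl⟩ := Nat.exists_eq_add_of_le hr2
        have : (2 + s) ^ 2 = (2 + s - 1) * (2 + s + 1) + 1 := by
          have : 2 + s - 1 = 1 + s := by omega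
          rw [this]; ring
        rw [this]; simp
      rw [← h2]; exact h1
    · have h2 : r ^ 2 - r ^ 1 = r * (r - 1) := by
        rw [Nat.mul_sub, pow_one, mul_one, sq]
      rw [h2] at h1
      exact Dvd.dvd.mul_right (((Nat.Prime.dvd_mul hp).mp h1).resolve_left hnd) _
  have h3 : p ∣ r + 1 := by
    rcases (Nat.Prime.dvd_mul hp).mp hdiv with h1 | h1
    · exfalso
      have := Nat.le_of_dvd (by omega) h1
      omega
    · exact h1
  have h4 := Nat.le_of_dvd (by omega) h3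
  have h5 : p = r + 1 := by omega
  rcases hr.eq_two_or_odd with h6 | h6
  · exact ⟨by omega, h6⟩
  · exfalso
    rcases hp.eq_two_or_odd with h7 | h7 <;> omega

/-- the elements of order dividing `r` in an abelian subgroup -/
def tors (R : Subgroup G) (r : ℕ) (hc : ∀ a ∈ R, ∀ b ∈ R, a * b = b * a) : Subgroup G where
  carrier := {z | z ∈ R ∧ z ^ r = 1}
  one_mem' := ⟨R.one_mem, one_pow r⟩
  mul_mem' := by
    rintro a b ⟨ha, ha'⟩ ⟨hb, hb'⟩
    refine ⟨R.mul_mem ha hb, ?_⟩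
    rw [(show Commute a b from hc a ha b hb).mul_pow, ha', hb', one_mul]
  inv_mem' := by
    rintro a ⟨ha, ha'⟩
    exact ⟨R.inv_mem ha, by rw [inv_pow, ha', inv_one]⟩

theorem card_inf_conj {C E : Subgroup G} {u : G} (hE : ∀ x ∈ E, u * x * u⁻¹ ∈ E) :
    ∃ B : Subgroup G, B ≤ E ∧ Nat.card B = Nat.card (E ⊓ C : Subgroup G) ∧
      ∀ z, z ∈ B ↔ ∃ w ∈ E ⊓ C, u * w * u⁻¹ = z := by
  refine ⟨(E ⊓ C).map (MulAut.conj u).toMonoidHom, ?_, ?_, ?_⟩
  · rintro _ ⟨w, hw, rfl⟩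
    exact hE w hw.1
  · exact Nat.card_congr ((E ⊓ C).equivMapOfInjective _ (MulAut.conj u).injective).toEquiv.symm
  · intro z
    rw [mem_map]
    rfl

theorem Ctx.caseA1 (h : Ctx P) {r : ℕ} [hr : Fact r.Prime] (hrp : r ≠ p) {x : G}
    (hx : x ∈ centralizer ((P : Subgroup G) : Set G)) (hxr : orderOf x = r) : p = 3 ∧ r = 2 := by
  have hx1 : x ≠ 1 := by
    rintro rfl
    rw [orderOf_one] at hxr
    exact hr.out.one_lt.ne hxr
  have hzp : IsPGroup r (zpowers x) := IsPGroup.of_card (n := 1) (by rw [Nat.card_zpowers, hxr, pow_one])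
  obtain ⟨R, hR⟩ := hzp.exists_le_sylow
  have hxR : x ∈ (R : Subgroup G) := hR (mem_zpowers x)
  have hRN := h.sylow_le_N hrp hx hx1 R.isPGroup' hxR
  have hR1 : (R : Subgroup G) ≠ ⊥ := by
    intro h1
    rw [h1] at hxR
    exact hx1 (mem_bot.mp hxR)
  obtain ⟨u, huN, hu, huC⟩ := h.s5 hrp R hR1
  have hcomm : ∀ a ∈ (R : Subgroup G), ∀ b ∈ (R : Subgroup G), a * b = b * a :=
    fun a ha b hb => h.comm' hrp R.isPGroup' ha hb
  set E := tors (R : Subgroup G) r hcomm with hE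
  set C := centralizer ((P : Subgroup G) : Set G) with hC
  have hER : E ≤ (R : Subgroup G) := fun z hz => hz.1
  have hEr : ∀ z ∈ E, z ^ r = 1 := fun z hz => hz.2
  have hEN : E ≤ normalizer ((P : Subgroup G) : Set G) := hER.trans hRN
  have hEu : ∀ z ∈ E, u * z * u⁻¹ ∈ E := by
    intro z hz
    refine ⟨(mem_normalizer_iff.mp huN z).mp hz.1, ?_⟩
    rw [conj_pow, hz.2]; group
  have hEp : IsPGroup r E := R.isPGroup'.to_le hER
  have hxE : x ∈ E := ⟨hxR, by rw [← hxr]; exact pow_orderOf_eq_one x⟩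
  -- the conjugate of `E ⊓ C`
  obtain ⟨B, hBE, hBc, hB⟩ := card_inf_conj (C := C) hEu
  have hBC : B ⊓ C = ⊥ := by
    rw [eq_bot_iff]
    rintro z ⟨hz1, hz2⟩
    obtain ⟨w, hw, rfl⟩ := (hB z).mp hz1
    by_contra hne
    have hw1 : w ≠ 1 := by
      rintro rfl
      apply hne
      rw [mem_bot]; group
    exact huC (h.v hrp R.isPGroup' hRN hu huN hw.2 hw1 hz2)
  obtain ⟨m1, hm1, hm1d, hm1r⟩ := h.fB (hBE.trans hEN)
  rw [hBC, card_bot, one_mul] at hm1
  have hm1r := hm1r r hr.out.pos (fun z hz => hEr z (hBE hz))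
  -- `E ⊓ C` has order `r`
  have hEC : Nat.card (E ⊓ C : Subgroup G) = r := by
    apply le_antisymm
    · rw [← hBc, hm1]; exact hm1r
    · have h1 : zpowers x ≤ E ⊓ C := by
        rw [zpowers_le]; exact ⟨hxE, hx⟩
      have h2 := Subgroup.card_le_of_le h1
      rwa [Nat.card_zpowers, hxr] at h2
  have hm1' : m1 = r := by rw [← hm1, hBc, hEC]
  have hrd : r ∣ p - 1 := hm1' ▸ hm1d
  -- the order of `E`
  obtain ⟨m2, hm2, -, hm2r⟩ := h.fB hEN
  have hm2r := hm2r r hr.out.pos hEr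
  rw [hEC] at hm2
  have hEcard : Nat.card E = r ^ 2 := by
    obtain ⟨j, hj⟩ := IsPGroup.iff_card.mp hEp
    have hj2 : j ≤ 2 := by
      by_contra hj3
      have h3 : r ^ 3 ≤ r ^ j := Nat.pow_le_pow_right hr.out.pos (by omega)
      have h4 : r * m2 ≤ r * r := Nat.mul_le_mul_left r hm2r
      have h5 : r * r < r ^ 3 := by
        have : r ^ 3 = r * r * r := by ring
        rw [this]
        exact lt_mul_of_one_lt_right (Nat.mul_pos hr.out.pos hr.out.pos) hr.out.one_lt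
      rw [← hj, hm2] at h3
      omega
    have hj1 : j ≠ 1 := by
      rintro rfl
      rw [pow_one] at hj
      have h3 : B = E := Subgroup.eq_of_le_of_card_ge hBE (by rw [hBc, hEC, hj])
      have h4 : E ⊓ C = E := Subgroup.eq_of_le_of_card_ge inf_le_left (by rw [hEC, hj])
      rw [h3, h4] at hBC
      rw [hBC] at hxE
      exact hx1 (mem_bot.mp hxE)
    have hj0 : j ≠ 0 := by
      rintro rfl
      rw [pow_zero] at hj
      have h3 := card_eq_one.mp hj
      rw [h3] at hxE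
      exact hx1 (mem_bot.mp hxE)
    have : j = 2 := by omega
    rw [hj, this]
  -- fixed points of `u` on `E`
  have hF : (E ⊓ centralizer {u}) ⊓ C = ⊥ := by
    rw [eq_bot_iff]
    rintro z ⟨⟨hz1, hz2⟩, hz3⟩
    by_contra hne
    refine huC (h.v hrp R.isPGroup' hRN hu huN hz3 (fun h1 => hne (mem_bot.mpr h1)) ?_)
    have h4 : u * z * u⁻¹ = z := by
      rw [← mem_centralizer_singleton_iff.mp hz2]; group
    rw [h4]; exact hz3
  obtain ⟨m3, hm3, -, hm3r⟩ := h.fB ((inf_le_left : E ⊓ centralizer {u} ≤ E).trans hEN)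
  rw [hF, card_bot, one_mul] at hm3
  have hm3r := hm3r r hr.out.pos (fun z hz => hEr z hz.1)
  have hmod := fixed_modEq u hu E hEu
  obtain ⟨i, hi⟩ := IsPGroup.iff_card.mp (hEp.to_le (inf_le_left : E ⊓ centralizer {u} ≤ E))
  rw [hi] at hmod hm3
  have hi1 : i ≤ 1 := by
    by_contra hi2
    have h3 : r ^ 2 ≤ r ^ i := Nat.pow_le_pow_right hr.out.pos (by omega)
    have h4 : r < r ^ 2 := by
      rw [sq]; exact lt_mul_of_one_lt_right hr.out.pos hr.out.one_lt
    omega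
  rw [hEcard] at hmod
  exact numer hp.out hr.out hrd i hi1 hmod

end Cfsg.Agent.Lib.H15CycA
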