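import Mathlib
import Cfsg.Agent.Lib.H32Basic
import Cfsg.Agent.Lib.CycNorm

/-!
# Groups with Sylow 2-subgroups of order four (helper67)
-/

set_option autoImplicit false

namespace Cfsg.Agent.Lib.KleinFuse

open Cfsg.Agent.Lib.H32Basic Cfsg.Agent.Lib.CycNorm

universe u

variable {G : Type u} [Group G] [Finite G]

/-- A `p`-element normalizing a Sylow `p`-subgroup lies in it. -/
theorem mem_sylow_of_normalizer {p : ℕ} [Fact p.Prime] (P : Sylow p G) {g : G}
    (hg : g ∈ Subgroup.normalizer ((P : Subgroup G) : Set G)) (hp : ∃ k : ℕ, g ^ p ^ k = 1) :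
    g ∈ (P : Subgroup G) := by
  obtain ⟨n, hn, h1⟩ := exists_conj_mem_sylow_of_le P _ Subgroup.le_normalizer g hg hp
  exact (Subgroup.mem_normalizer_iff.1 hn g).2 h1

/-- If the Sylow `2`-subgroup has order `4` and there is no normal `2`-complement then all involutions
are conjugate, and all elements of `S` are of square one. -/
theorem fuse (S : Sylow 2 G) (hS : Nat.card S = 4)
    (hno : ∀ K : Subgroup G, K.Normal → ¬ K.IsComplement' (S : Subgroup G)) :
    (∀ u v : G, u ≠ 1 → u * u = 1 → v ≠ 1 → v * v = 1 → ∃ y, y * u * y⁻¹ = v) ∧ (∀ s ∈ (S : Subgroup G), s * s = 1) := by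
  classical
  have hScomm : ∀ a ∈ (S : Subgroup G), ∀ b ∈ (S : Subgroup G), a * b = b * a := by
    have hfact : Fact (Nat.Prime 2) := ⟨Nat.prime_two⟩
    have h4 : Nat.card S = 2 ^ 2 := by rw [hS]; norm_num
    have := IsPGroup.commutative_of_card_eq_prime_sq (p := 2) h4
    intro a ha b hb
    exact congrArg Subtype.val (this ⟨a, ha⟩ ⟨b, hb⟩)
  have h1 : ∃ g a b : G, Odd (orderOf g) ∧ g ∈ Subgroup.normalizer ((S : Subgroup G) : Set G) ∧
      a ∈ (S : Subgroup G) ∧ b ∈ (S : Subgroup G) ∧ g * a * g⁻¹ = b ∧ a ≠ b := by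
    by_contra hcon
    push Not at hcon
    have hle : Subgroup.normalizer ((S : Subgroup G) : Set G) ≤ Subgroup.centralizer (S : Set G) := by
      intro g hg
      obtain ⟨i, j, ⟨k, hk⟩, hcop, hgij⟩ := exists_parts 2 Nat.prime_two g
      have hi : g ^ i ∈ (S : Subgroup G) :=
        mem_sylow_of_normalizer S (pow_mem hg i) ⟨k, by rw [← hk]; exact pow_orderOf_eq_one _⟩
      rw [Subgroup.mem_centralizer_iff]
      intro a ha
      have hb : g ^ j * a * (g ^ j)⁻¹ ∈ (S : Subgroup G) :=
        (Subgroup.mem_normalizer_iff.1 (pow_mem hg j) a).1 ha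
      have h2 := hcon (g ^ j) a _ (Nat.coprime_two_right.1 hcop) (pow_mem hg j) ha hb rfl
      have h3 : g ^ j * a = a * g ^ j := by
        rw [mul_inv_eq_iff_eq_mul.1 h2.symm]
      have h4 := hScomm _ hi a ha
      rw [hgij]
      rw [mul_assoc, h3, ← mul_assoc, ← mul_assoc, h4]
    have hcompl := MonoidHom.ker_transferSylow_isComplement' S hle
    exact hno _ inferInstance hcompl
  obtain ⟨g, a, b, hodd, hgN, ha, hb, hab, hne⟩ := h1
  have ha1 : a ≠ 1 := by
    rintro rfl
    apply hne
    rw [← hab]; group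
  have hb1 : b ≠ 1 := by
    rintro rfl
    apply ha1
    have : a = g⁻¹ * (g * a * g⁻¹) * g := by group
    rw [this, hab]; group
  set c := g * b * g⁻¹ with hc
  have hcS : c ∈ (S : Subgroup G) := (Subgroup.mem_normalizer_iff.1 hgN b).1 hb
  have hc1 : c ≠ 1 := by
    intro h
    apply hb1
    have : b = g⁻¹ * (g * b * g⁻¹) * g := by group
    rw [this, ← hc, h]; group
  have hcb : c ≠ b := by
    intro h
    apply hne
    have h2 : g * b * g⁻¹ = g * a * g⁻¹ := by rw [hab]; exact h
    exact (mul_left_cancel (mul_right_cancel h2)).symm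
  have hca : c ≠ a := by
    intro h
    apply hne
    have h2 : ∀ n : ℕ, (g ^ 2) ^ n * a * ((g ^ 2) ^ n)⁻¹ = a := by
      intro n
      induction n with
      | zero => simp
      | succ n ih =>
        rw [pow_succ, show (g ^ 2) ^ n * g ^ 2 * a * ((g ^ 2) ^ n * g ^ 2)⁻¹ =
          (g ^ 2) ^ n * (g * (g * a * g⁻¹) * g⁻¹) * ((g ^ 2) ^ n)⁻¹ by group, hab, ← hc, h, ih]
    obtain ⟨k, hk⟩ := hodd
    have h3 : g * a * g⁻¹ = a := by
      have h4 : (g ^ 2) ^ (k + 1) = g := by
        rw [← pow_mul, show 2 * (k + 1) = orderOf g + 1 by omega, pow_succ, pow_orderOf_eq_one, one_mul]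
      have := h2 (k + 1)
      rwa [h4] at this
    rw [← h3, hab]
  have hfin : Finite (S : Subgroup G) := inferInstance
  have hall : ∀ u ∈ (S : Subgroup G), u = 1 ∨ u = a ∨ u = b ∨ u = c := by
    intro u hu
    by_contra hcon
    push Not at hcon
    obtain ⟨h1, h2, h3, h4⟩ := hcon
    have h5 : ({1, a, b, c, u} : Finset G).card = 5 := by
      rw [Finset.card_insert_of_notMem, Finset.card_insert_of_notMem, Finset.card_insert_of_notMem,
        Finset.card_insert_of_notMem, Finset.card_singleton]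
      · simp only [Finset.mem_singleton]; exact fun h => h4 h.symm
      · simp only [Finset.mem_insert, Finset.mem_singleton, not_or]
        exact ⟨fun h => hcb h.symm, fun h => h3 h.symm⟩
      · simp only [Finset.mem_insert, Finset.mem_singleton, not_or]
        exact ⟨hne, fun h => hca h.symm, fun h => h2 h.symm⟩
      · simp only [Finset.mem_insert, Finset.mem_singleton, not_or]
        exact ⟨fun h => ha1 h.symm, fun h => hb1 h.symm, fun h => hc1 h.symm, fun h => h1 h.symm⟩
    have h6 : ((({1, a, b, c, u} : Finset G) : Set G)).ncard ≤ ((S : Subgroup G) : Set G).ncard := by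
      apply Set.ncard_le_ncard _ (Set.toFinite _)
      intro z hz
      simp only [Finset.coe_insert, Finset.coe_singleton, Set.mem_insert_iff, Set.mem_singleton_iff] at hz
      rcases hz with rfl | rfl | rfl | rfl | rfl
      · exact one_mem _
      · exact ha
      · exact hb
      · exact hcS
      · exact hu
    rw [Set.ncard_coe_finset, h5] at h6
    have h7 : ((S : Subgroup G) : Set G).ncard = 4 := hS
    omega
  have hconj : ∀ u ∈ (S : Subgroup G), u ≠ 1 → ∃ y, y * a * y⁻¹ = u := by
    intro u hu hu1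
    rcases hall u hu with h | h | h | h
    · exact absurd h hu1
    · exact ⟨1, by rw [h]; group⟩
    · exact ⟨g, by rw [h, hab]⟩
    · exact ⟨g * g, by rw [h, hc, ← hab]; group⟩
  have hinv : ∀ v : G, v ≠ 1 → v * v = 1 → ∃ y, y * a * y⁻¹ = v := by
    intro v hv1 hvv
    have : Fact (Nat.Prime 2) := ⟨Nat.prime_two⟩
    obtain ⟨z, hz⟩ := exists_conj_mem_sylow S v ⟨1, by rw [pow_one, pow_two, hvv]⟩
    obtain ⟨y, hy⟩ := hconj _ hz (by
      intro h
      apply hv1
      have : v = z⁻¹ * (z * v * z⁻¹) * z := by group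
      rw [this, h]; group)
    refine ⟨z⁻¹ * y, ?_⟩
    rw [show z⁻¹ * y * a * (z⁻¹ * y)⁻¹ = z⁻¹ * (y * a * y⁻¹) * z by group, hy]
    group
  refine ⟨?_, ?_⟩
  · intro u v hu1 huu hv1 hvv
    obtain ⟨y, hy⟩ := hinv u hu1 huu
    obtain ⟨z, hz⟩ := hinv v hv1 hvv
    refine ⟨z * y⁻¹, ?_⟩
    rw [← hy, ← hz]; group
  · -- an involution exists in `S`
    have : Fact (Nat.Prime 2) := ⟨Nat.prime_two⟩
    obtain ⟨w, hw⟩ := exists_prime_orderOf_dvd_card' (G := S) 2 (by rw [hS]; norm_num)
    have hw1 : (w : G) ≠ 1 := by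
      intro h
      have : w = 1 := Subtype.ext h
      rw [this, orderOf_one] at hw
      norm_num at hw
    have hww : (w : G) * w = 1 := by
      have := pow_orderOf_eq_one w
      rw [hw, pow_two] at this
      exact congrArg Subtype.val this
    obtain ⟨y, hy⟩ := hconj w w.2 hw1
    have haa : a * a = 1 := by
      have h2 : y * (a * a) * y⁻¹ = 1 := by
        rw [← hww, ← hy]; group
      have : a * a = y⁻¹ * (y * (a * a) * y⁻¹) * y := by group
      rw [this, h2]; group
    intro s hs
    by_cases hs1 : s = 1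
    · rw [hs1, one_mul]
    · obtain ⟨z, hz⟩ := hconj s hs hs1
      rw [← hz, show z * a * z⁻¹ * (z * a * z⁻¹) = z * (a * a) * z⁻¹ by group, haa]
      group

end Cfsg.Agent.Lib.KleinFuse
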