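import Cfsg.Agent.Lib.H15CycD
import Cfsg.Agent.S4018

set_option autoImplicit false

namespace Cfsg.Agent.Lib.H15CycA

open Subgroup Cfsg Cfsg.Agent.Lib.PNilp Cfsg.Agent.Lib.Transfer Cfsg.Agent.Lib.CycNorm

universe u

section
variable {G : Type u} [Group G] [Finite G] {p : ℕ} [hp : Fact p.Prime] {P : Sylow p G}

theorem Ctx.N_ne (h : Ctx P) : ∃ m, Nat.card (normalizer ((P : Subgroup G) : Set G)) =
    Nat.card (centralizer ((P : Subgroup G) : Set G)) * m ∧ m ∣ p - 1 ∧ m ≠ 1 := by
  obtain ⟨m, hm, hmd, -⟩ := h.fB (le_refl (normalizer ((P : Subgroup G) : Set G)))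
  rw [inf_eq_right.mpr (centralizer_le_normalizer ((P : Subgroup G) : Set G))] at hm
  refine ⟨m, hm, hmd, ?_⟩
  rintro rfl
  rw [mul_one] at hm
  apply h.not_le
  exact (Subgroup.eq_of_le_of_card_ge (centralizer_le_normalizer ((P : Subgroup G) : Set G)) hm.le).ge

end

variable {G : Type u} [Group G] [Finite G] {P : Sylow 3 G}

/-- the structure in case A -/
theorem Ctx.caseA2 (h : Ctx P) {x : G}
    (hx : x ∈ centralizer ((P : Subgroup G) : Set G)) (hx2 : orderOf x = 2) (S : Sylow 2 G)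
    (hxS : x ∈ (S : Subgroup G)) :
    Nat.card (S : Subgroup G) = 4 ∧
      Nat.card ((S : Subgroup G) ⊓ centralizer ((P : Subgroup G) : Set G) : Subgroup G) = 2 ∧
      ∀ y ∈ (S : Subgroup G), y ≠ 1 → ∃ g : G, g * x * g⁻¹ = y := by
  have hx1 : x ≠ 1 := by
    rintro rfl
    rw [orderOf_one] at hx2
    omega
  have hSN := h.sylow_le_N (by norm_num) hx hx1 S.isPGroup' hxS
  have hS1 : (S : Subgroup G) ≠ ⊥ := by
    intro h1
    rw [h1] at hxS
    exact hx1 (mem_bot.mp hxS)
  obtain ⟨u, huN, hu, huC⟩ := h.s5 (by norm_num) S hS1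
  set C := centralizer ((P : Subgroup G) : Set G) with hC
  have hSu : ∀ z ∈ (S : Subgroup G), u * z * u⁻¹ ∈ (S : Subgroup G) := fun z hz => (mem_normalizer_iff.mp huN z).mp hz
  obtain ⟨B, hBE, hBc, hB⟩ := card_inf_conj (C := C) hSu
  have hBC : B ⊓ C = ⊥ := by
    rw [eq_bot_iff]
    rintro z ⟨hz1, hz2⟩
    obtain ⟨w, hw, rfl⟩ := (hB z).mp hz1
    by_contra hne
    have hw1 : w ≠ 1 := by
      rintro rfl
      apply hne
      rw [mem_bot]; group
    exact huC (h.v (by norm_num) S.isPGroup' hSN hu huN hw.2 hw1 hz2)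
  obtain ⟨m1, hm1, hm1d, -⟩ := h.fB (hBE.trans hSN)
  rw [hBC, card_bot, one_mul] at hm1
  have hm1' : m1 ≤ 2 := Nat.le_of_dvd (by norm_num) hm1d
  have hSC : Nat.card ((S : Subgroup G) ⊓ C : Subgroup G) = 2 := by
    apply le_antisymm
    · rw [← hBc, hm1]; exact hm1'
    · have h1 : zpowers x ≤ (S : Subgroup G) ⊓ C := by
        rw [zpowers_le]; exact ⟨hxS, hx⟩
      have h2 := Subgroup.card_le_of_le h1
      rwa [Nat.card_zpowers, hx2] at h2
  obtain ⟨m2, hm2, hm2d, -⟩ := h.fB hSN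
  rw [hSC] at hm2
  have hm2' : m2 ≤ 2 := Nat.le_of_dvd (by norm_num) hm2d
  have hm20 : m2 ≠ 0 := by
    rintro rfl
    rw [mul_zero] at hm2
    exact Nat.card_pos.ne' hm2
  have hm21 : m2 ≠ 1 := by
    rintro rfl
    have h3 : B = (S : Subgroup G) := Subgroup.eq_of_le_of_card_ge hBE (by rw [hBc, hSC, hm2])
    have h4 : (S : Subgroup G) ⊓ C = (S : Subgroup G) := Subgroup.eq_of_le_of_card_ge inf_le_left (by rw [hSC, hm2])
    rw [h3, h4] at hBC
    exact hS1 hBC
  have hm22 : m2 = 2 := by omega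
  rw [hm22] at hm2
  refine ⟨hm2, hSC, ?_⟩
  -- the orbit of `x`
  have key : ∀ j : ℕ, ¬ 3 ∣ j → u ^ j * x * (u ^ j)⁻¹ ≠ x := by
    intro j hj h1
    have h2 : u ^ j ∈ centralizer ((S : Subgroup G) : Set G) := by
      refine h.v (by norm_num) S.isPGroup' hSN ?_ (pow_mem huN j) hx hx1 (by rw [h1]; exact hx)
      obtain ⟨k, hk⟩ := hu
      obtain ⟨i, -, hi⟩ := (Nat.dvd_prime_pow Nat.prime_three).mp (hk ▸ orderOf_pow_dvd j : orderOf (u ^ j) ∣ 3 ^ k)
      exact ⟨i, hi⟩
    apply huC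
    obtain ⟨k, hk⟩ := hu
    have hcop : (orderOf u).Coprime j := by
      rw [hk]
      exact Nat.Coprime.pow_left k ((Nat.Prime.coprime_iff_not_dvd Nat.prime_three).mpr hj)
    obtain ⟨i, hi⟩ := exists_pow_eq_self_of_coprime hcop.symm
    rw [← hi]
    exact pow_mem h2 i
  intro y hy hy1
  classical
  by_contra hcon
  push Not at hcon
  have k1 := key 1 (by norm_num)
  have k2 := key 2 (by norm_num)
  rw [pow_one] at k1
  have e0 : ∀ g : G, g * x * g⁻¹ ≠ 1 := by
    intro g h1
    apply hx1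
    have : x = g⁻¹ * (g * x * g⁻¹) * g := by group
    rw [this, h1]; group
  have k3 : u * x * u⁻¹ ≠ u ^ 2 * x * (u ^ 2)⁻¹ := by
    intro h1
    apply k1
    have h2 : u ^ 2 * x * (u ^ 2)⁻¹ = u * (u * x * u⁻¹) * u⁻¹ := by rw [sq]; group
    rw [h2] at h1
    have h3 := mul_left_cancel (mul_right_cancel h1)
    exact h3.symm
  let T : Finset G := {1, x, u * x * u⁻¹, u ^ 2 * x * (u ^ 2)⁻¹, y}
  have hTc : T.card = 5 := by
    rw [Finset.card_insert_of_notMem, Finset.card_insert_of_notMem, Finset.card_insert_of_notMem,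
      Finset.card_insert_of_notMem, Finset.card_singleton]
    · rw [Finset.mem_singleton]
      exact hcon _
    · rw [Finset.mem_insert, Finset.mem_singleton]
      push Not
      exact ⟨k3, hcon _⟩
    · rw [Finset.mem_insert, Finset.mem_insert, Finset.mem_singleton]
      push Not
      refine ⟨k1.symm, k2.symm, ?_⟩
      have := hcon 1
      rwa [one_mul, inv_one, mul_one] at this
    · rw [Finset.mem_insert, Finset.mem_insert, Finset.mem_insert, Finset.mem_singleton]
      push Not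
      exact ⟨hx1.symm, (e0 _).symm, (e0 _).symm, hy1.symm⟩
  have hTS : (T : Set G) ⊆ ((S : Subgroup G) : Set G) := by
    intro z hz
    simp only [T, Finset.coe_insert, Finset.coe_singleton, Set.mem_insert_iff, Set.mem_singleton_iff] at hz
    rcases hz with rfl | rfl | rfl | rfl | rfl
    · exact (S : Subgroup G).one_mem
    · exact hxS
    · exact hSu x hxS
    · exact (mem_normalizer_iff.mp (pow_mem huN 2) x).mp hxS
    · exact hy
  have h5 := Set.ncard_le_ncard hTS (Set.toFinite _)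
  rw [Set.ncard_coe_finset, hTc] at h5
  have h6 : Set.ncard ((S : Subgroup G) : Set G) = Nat.card (S : Subgroup G) := rfl
  rw [h6, hm2] at h5
  omega

theorem Ctx.caseA3 (h : Ctx P) {x : G}
    (hx : x ∈ centralizer ((P : Subgroup G) : Set G)) (hx2 : orderOf x = 2) :
    Nat.card (centralizer ((P : Subgroup G) : Set G)) = 2 * Nat.card (P : Subgroup G) ∧
      Nat.card (normalizer ((P : Subgroup G) : Set G)) = 4 * Nat.card (P : Subgroup G) := by
  set C := centralizer ((P : Subgroup G) : Set G) with hC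
  have hPC : (P : Subgroup G) ≤ C := h.le_cent
  have hCcard : Nat.card C = 2 * Nat.card (P : Subgroup G) := by
    have h0 : (P : Subgroup G).relIndex C * Nat.card (P : Subgroup G) = Nat.card C := by
      have := Subgroup.relIndex_mul_relIndex ⊥ (P : Subgroup G) C bot_le hPC
      rw [relIndex_bot_left, relIndex_bot_left] at this
      rw [mul_comm]; exact this
    set m := (P : Subgroup G).relIndex C with hm
    have hm3 : ¬ 3 ∣ m := fun h1 => P.not_dvd_index (h1.trans (Subgroup.relIndex_dvd_index_of_le hPC))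
    have hm0 : m ≠ 0 := by
      intro h1
      rw [h1, zero_mul] at h0
      exact Nat.card_pos.ne h0
    -- only the prime 2
    have hpr : ∀ q : ℕ, q.Prime → q ∣ m → q = 2 := by
      intro q hq hqm
      have : Fact q.Prime := ⟨hq⟩
      have hq3 : q ≠ 3 := by rintro rfl; exact hm3 hqm
      obtain ⟨z, hz⟩ := exists_prime_orderOf_dvd_card' (G := C) q (hqm.trans ⟨_, h0.symm⟩)
      exact (h.caseA1 hq3 z.2 (by rw [Subgroup.orderOf_coe]; exact hz)).2
    have hpow : m = 2 ^ m.primeFactorsList.length := Nat.eq_prime_pow_of_unique_prime_dvd hm0 (fun {d} hd hdm => hpr d hd hdm)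
    set j := m.primeFactorsList.length with hj
    have : Fact (Nat.Prime 2) := ⟨Nat.prime_two⟩
    have h2C : 2 ∣ Nat.card C := by
      rw [← hx2, ← Subgroup.orderOf_mk x hx]; exact orderOf_dvd_natCard _
    have hj0 : j ≠ 0 := by
      intro h1
      rw [h1, pow_zero] at hpow
      rw [hpow, one_mul] at h0
      rw [← h0] at h2C
      obtain ⟨k, hk⟩ := IsPGroup.iff_card.mp P.isPGroup'
      rw [hk] at h2C
      have := (Nat.prime_dvd_prime_iff_eq Nat.prime_two Nat.prime_three).mp (Nat.prime_two.dvd_of_dvd_pow h2C)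
      omega
    obtain ⟨T, hT⟩ := Sylow.exists_subgroup_card_pow_prime (G := C) 2 (n := j) (by
      rw [← h0, ← hpow]; exact Dvd.intro _ rfl)
    -- T contains an involution
    have h2T : 2 ∣ Nat.card T := by rw [hT]; exact dvd_pow_self 2 hj0
    obtain ⟨t, ht⟩ := exists_prime_orderOf_dvd_card' (G := T) 2 h2T
    have hT2 : IsPGroup 2 (T.map C.subtype) := (IsPGroup.of_card hT).map _
    obtain ⟨S, hS⟩ := hT2.exists_le_sylow
    have htS : ((t : C) : G) ∈ (S : Subgroup G) := hS ⟨t, t.2, rfl⟩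
    have h4 := (h.caseA2 (x := ((t : C) : G)) t.1.2 (by
      rw [Subgroup.orderOf_coe, Subgroup.orderOf_coe]; exact ht) S htS).2.1
    have h5 : Nat.card (T.map C.subtype) ≤ 2 := by
      rw [← h4]
      exact Subgroup.card_le_of_le (le_inf hS (map_subtype_le _))
    have h6 : Nat.card (T.map C.subtype) = Nat.card T :=
      Nat.card_congr (T.equivMapOfInjective C.subtype C.subtype_injective).toEquiv.symm
    rw [h6, hT] at h5
    have hj1 : j = 1 := by
      by_contra hj2
      have : 2 ^ 2 ≤ 2 ^ j := Nat.pow_le_pow_right (by norm_num) (by omega)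
      omega
    rw [← h0, hpow, hj1, pow_one]
  refine ⟨hCcard, ?_⟩
  obtain ⟨m, hm, hmd, hm1⟩ := h.N_ne
  have : m ≤ 2 := Nat.le_of_dvd (by norm_num) hmd
  have hm0 : m ≠ 0 := by
    rintro rfl
    rw [mul_zero] at hm
    exact Nat.card_pos.ne' hm
  have hm2 : m = 2 := by omega
  rw [hm, hm2, ← hC, hCcard]
  ring

end Cfsg.Agent.Lib.H15CycA
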