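import Cfsg.Agent.Lib.H15CycE

set_option autoImplicit false

namespace Cfsg.Agent.Lib.H15CycA

open Subgroup Cfsg Cfsg.Agent.Lib.PNilp Cfsg.Agent.Lib.Transfer Cfsg.Agent.Lib.CycNorm

universe u

theorem exists_hall {X : Type u} [Group X] [Finite X] {p : ℕ} [hp : Fact p.Prime] (h : Good p X) :
    ∃ K : Subgroup X, ¬ p ∣ Nat.card K ∧ ∃ k, Nat.card X = Nat.card K * p ^ k := by
  rcases h with h | h
  · obtain ⟨N, -, h1, k, hk⟩ := hasNormalPComplement_iff.mp h
    exact ⟨N, h1, k, by rw [← hk, card_mul_index]⟩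
  · obtain ⟨Q⟩ : Nonempty (Sylow p X) := inferInstance
    have hQ := h Q
    obtain ⟨k, hk⟩ := IsPGroup.iff_card.mp Q.isPGroup'
    have hidx : ¬ p ∣ (Q : Subgroup X).index := Q.not_dvd_index
    have hcop : (Nat.card (Q : Subgroup X)).Coprime (Q : Subgroup X).index := by
      rw [hk]
      exact Nat.Coprime.pow_left k ((Nat.Prime.coprime_iff_not_dvd hp.out).mpr hidx)
    obtain ⟨K, hK⟩ := exists_right_complement'_of_coprime hcop
    refine ⟨K, ?_, k, ?_⟩
    · rw [← hK.symm.index_eq_card]; exact hidx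
    · rw [← hk, mul_comm, hK.card_mul]

theorem Ctx.caseA {G : Type u} [Group G] [Finite G] {P : Sylow 3 G} (h : Ctx P) {x : G}
    (hx : x ∈ centralizer ((P : Subgroup G) : Set G)) (hx2 : orderOf x = 2) : False := by
  have hx1 : x ≠ 1 := by
    rintro rfl
    rw [orderOf_one] at hx2
    omega
  obtain ⟨h1, h2⟩ := h.caseA3 hx hx2
  have hcx : Nat.card (centralizer {x}) = 4 * Nat.card (P : Subgroup G) := by
    rw [h.x1' hx hx1 (by rw [hx2]; norm_num), h2]
  have hconj : ∀ y : G, orderOf y = 2 → Nat.card (centralizer {y}) = 4 * Nat.card (P : Subgroup G) := by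
    intro y hy
    have hzx : IsPGroup 2 (zpowers x) := IsPGroup.of_card (n := 1) (by rw [Nat.card_zpowers, hx2, pow_one])
    obtain ⟨S, hS⟩ := hzx.exists_le_sylow
    have hxS : x ∈ (S : Subgroup G) := hS (mem_zpowers x)
    have hzy : IsPGroup 2 (zpowers y) := IsPGroup.of_card (n := 1) (by rw [Nat.card_zpowers, hy, pow_one])
    obtain ⟨T, hT⟩ := hzy.exists_le_sylow
    have hyT : y ∈ (T : Subgroup G) := hT (mem_zpowers y)
    obtain ⟨g, hg⟩ := MulAction.exists_smul_eq G T S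
    have hy' : g * y * g⁻¹ ∈ (S : Subgroup G) := by
      have h3 : (S : Subgroup G) = (g • T : Sylow 2 G) := by rw [hg]
      rw [h3, Sylow.coe_subgroup_smul]
      exact smul_mem_pointwise_smul_iff.mpr hyT
    obtain ⟨c, hc⟩ := (h.caseA2 hx hx2 S hxS).2.2 (g * y * g⁻¹) hy' (by
      intro h3
      have h4 : y = 1 := by
        have : y = g⁻¹ * (g * y * g⁻¹) * g := by group
        rw [this, h3]; group
      rw [h4, orderOf_one] at hy
      omega)
    have hyx : y = (g⁻¹ * c) * x * (g⁻¹ * c)⁻¹ := by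
      have : y = g⁻¹ * (g * y * g⁻¹) * g := by group
      rw [this, ← hc]; group
    rw [← hcx, hyx]
    symm
    apply Nat.card_congr
    refine (((centralizer {x}).equivMapOfInjective (MulAut.conj (g⁻¹ * c)).toMonoidHom
      (MulAut.conj (g⁻¹ * c)).injective).toEquiv).trans (Equiv.setCongr ?_)
    ext z
    constructor
    · rintro ⟨w, hw, rfl⟩
      have hw' := mem_centralizer_singleton_iff.mp hw
      show (g⁻¹ * c) * w * (g⁻¹ * c)⁻¹ ∈ centralizer {(g⁻¹ * c) * x * (g⁻¹ * c)⁻¹}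
      rw [mem_centralizer_singleton_iff]
      calc (g⁻¹ * c) * w * (g⁻¹ * c)⁻¹ * ((g⁻¹ * c) * x * (g⁻¹ * c)⁻¹)
          = (g⁻¹ * c) * (w * x) * (g⁻¹ * c)⁻¹ := by group
        _ = (g⁻¹ * c) * (x * w) * (g⁻¹ * c)⁻¹ := by rw [hw']
        _ = _ := by group
    · intro hz
      have hz' := mem_centralizer_singleton_iff.mp hz
      refine ⟨(g⁻¹ * c)⁻¹ * z * (g⁻¹ * c), ?_, ?_⟩
      · show (g⁻¹ * c)⁻¹ * z * (g⁻¹ * c) ∈ centralizer {x}
        rw [mem_centralizer_singleton_iff]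
        calc (g⁻¹ * c)⁻¹ * z * (g⁻¹ * c) * x
            = (g⁻¹ * c)⁻¹ * (z * ((g⁻¹ * c) * x * (g⁻¹ * c)⁻¹)) * (g⁻¹ * c) := by group
          _ = (g⁻¹ * c)⁻¹ * ((g⁻¹ * c) * x * (g⁻¹ * c)⁻¹ * z) * (g⁻¹ * c) := by rw [hz']
          _ = _ := by group
      · show (g⁻¹ * c) * ((g⁻¹ * c)⁻¹ * z * (g⁻¹ * c)) * (g⁻¹ * c)⁻¹ = z
        group
  have := h.cyc
  refine Cfsg.Agent.S4018.result P (inferInstance) h2 h1 ?_ ?_ h.simple
  · intro g hg z hz hgz
    by_contra hz1
    apply hg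
    have h3 := h.uniq hz hz1 hgz
    exact Cfsg.Agent.Lib.LocBase.le_normalizer_centralizer (A := (P : Subgroup G)) le_rfl h3
  · intro H hH h2H
    obtain ⟨K, hK, k, hk⟩ := exists_hall (h.good H hH)
    have h2K : 2 ∣ Nat.card K := by
      rw [hk] at h2H
      rcases (Nat.prime_two.dvd_mul).mp h2H with h3 | h3
      · exact h3
      · have := (Nat.prime_dvd_prime_iff_eq Nat.prime_two Nat.prime_three).mp (Nat.prime_two.dvd_of_dvd_pow h3)
        omega
    have : Fact (Nat.Prime 2) := ⟨Nat.prime_two⟩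
    obtain ⟨t, ht⟩ := exists_prime_orderOf_dvd_card' (G := K) 2 h2K
    have htG : orderOf ((t : H) : G) = 2 := by rw [Subgroup.orderOf_coe, Subgroup.orderOf_coe]; exact ht
    have hKc : Nat.card (K.map H.subtype) = Nat.card K :=
      Nat.card_congr (K.equivMapOfInjective H.subtype H.subtype_injective).toEquiv.symm
    have h3 : K.map H.subtype ≤ centralizer {((t : H) : G)} := by
      intro z hz
      rw [mem_centralizer_singleton_iff]
      exact h.ab (K.map H.subtype) (by rw [hKc]; exact hK) z hz _ ⟨t, t.2, rfl⟩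
    have h4 := Subgroup.card_dvd_of_le h3
    rw [hKc, hconj _ htG] at h4
    obtain ⟨n, hn⟩ := IsPGroup.iff_card.mp P.isPGroup'
    have hcop : ∀ j, (Nat.card K).Coprime (3 ^ j) := fun j =>
      Nat.Coprime.pow_right j ((Nat.Prime.coprime_iff_not_dvd Nat.prime_three).mpr hK).symm
    have h5 : Nat.card K ∣ 4 := by
      rw [hn] at h4
      exact (hcop n).dvd_of_dvd_mul_right h4
    have h6 : 3 ^ k ∣ 3 ^ n := by
      have h7 : 3 ^ k ∣ Nat.card G := (Dvd.intro_left _ hk.symm).trans (card_subgroup_dvd_card H)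
      have h8 : Nat.card G = 3 ^ n * (P : Subgroup G).index := by rw [← hn, card_mul_index]
      rw [h8] at h7
      exact (Nat.Coprime.pow_left k ((Nat.Prime.coprime_iff_not_dvd Nat.prime_three).mpr P.not_dvd_index)).dvd_of_dvd_mul_right h7
    rw [hk]
    show Nat.card K * 3 ^ k ∣ 4 * Nat.card (P : Subgroup G)
    rw [hn]
    exact Nat.mul_dvd_mul h5 h6

end Cfsg.Agent.Lib.H15CycA
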