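import Cfsg.Agent.Lib.H15CycF
import Cfsg.Agent.S0205

set_option autoImplicit false

namespace Cfsg.Agent.Lib.H15CycA

open Subgroup Cfsg Cfsg.Agent.Lib.PNilp Cfsg.Agent.Lib.Transfer Cfsg.Agent.Lib.CycNorm

universe u

variable {G : Type u} [Group G] [Finite G] {p : ℕ} [hp : Fact p.Prime]

theorem Ctx.of {P : Sylow p G} (h : Ctx P) (Q : Sylow p G) : Ctx Q where
  simple := h.simple
  cyc := by
    have := h.cyc
    exact isCyclic_of_surjective (Sylow.equiv P Q) (Sylow.equiv P Q).surjective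
  ab := h.ab
  good := h.good
  nc := h.nc
  nn := by
    intro hQ
    apply h.nn
    have := Sylow.unique_of_normal Q hQ
    rw [Subsingleton.elim P Q]
    exact hQ

structure CtxB (p : ℕ) [Fact p.Prime] (G : Type u) [Group G] [Finite G] : Prop where
  ctx : ∀ Q : Sylow p G, Ctx Q
  b : ∀ Q : Sylow p G, ∀ x ∈ centralizer ((Q : Subgroup G) : Set G), (orderOf x).Coprime p → x = 1

variable (h : CtxB p G)

include h

theorem CtxB.le {Q : Sylow p G} {y : G} (hy : y ∈ (Q : Subgroup G)) (hy1 : y ≠ 1) :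
    centralizer {y} ≤ (Q : Subgroup G) := by
  intro x hx
  have h1 := (h.ctx Q).cent hy hy1 hx
  obtain ⟨a, b, ha, hb, hab⟩ := exists_parts p hp.out x
  have h2 := h.b Q (x ^ b) (pow_mem h1 b) hb
  rw [h2, mul_one] at hab
  have h3 := mem_sylow_of_normalizer (P := Q) ha (pow_mem (centralizer_le_normalizer _ h1) a)
  rw [hab]; exact h3

omit h in
theorem exists_sylow {w : G} (hw : ∃ k, orderOf w = p ^ k) : ∃ Q : Sylow p G, w ∈ (Q : Subgroup G) := by
  obtain ⟨k, hk⟩ := hw
  have h1 : IsPGroup p (zpowers w) := IsPGroup.of_card (n := k) (by rw [Nat.card_zpowers, hk])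
  obtain ⟨Q, hQ⟩ := h1.exists_le_sylow
  exact ⟨Q, hQ (mem_zpowers w)⟩

omit h in
theorem order_of_mem {Q : Sylow p G} {w : G} (hw : w ∈ (Q : Subgroup G)) : ∃ k, orderOf w = p ^ k := by
  obtain ⟨k, hk⟩ := (IsPGroup.iff_orderOf.mp Q.isPGroup') ⟨w, hw⟩
  rw [Subgroup.orderOf_mk] at hk
  exact ⟨k, hk⟩

theorem CtxB.eq_one {w z : G} (hw : ∃ k, orderOf w = p ^ k) (hw1 : w ≠ 1) (hz : (orderOf z).Coprime p)
    (hc : z * w = w * z) : z = 1 := by
  obtain ⟨Q, hQ⟩ := exists_sylow hw
  have h1 := h.le hQ hw1 (mem_centralizer_singleton_iff.mpr hc)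
  obtain ⟨k, hk⟩ := order_of_mem h1
  rw [hk] at hz
  rw [← orderOf_eq_one_iff, hk]
  rcases Nat.eq_zero_or_pos k with h0 | h0
  · rw [h0, pow_zero]
  · exfalso
    have h2 := (Nat.coprime_pow_left_iff h0 p p).mp hz
    rw [Nat.coprime_self] at h2
    exact hp.out.one_lt.ne' h2

theorem CtxB.p_ne_two : p ≠ 2 := by
  obtain ⟨Q⟩ : Nonempty (Sylow p G) := inferInstance
  obtain ⟨m, -, hmd, hm1⟩ := (h.ctx Q).N_ne
  rintro rfl
  exact hm1 (Nat.dvd_one.mp hmd)

theorem CtxB.even : 2 ∣ Nat.card G := by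
  obtain ⟨Q⟩ : Nonempty (Sylow p G) := inferInstance
  by_contra hodd
  have h1 : Odd (Nat.card G) := Nat.not_even_iff_odd.mp (fun he => hodd he.two_dvd)
  have h2 := Cfsg.Agent.S0205.result h1
  have := (h.ctx Q).simple
  have h3 := (IsSimpleGroup.comm_iff_isSolvable (G := G)).mpr h2
  apply (h.ctx Q).nn
  refine ⟨fun a ha g => ?_⟩
  have h5 : g * a * g⁻¹ = a := by
    rw [h3 g a]; group
  rwa [h5]

omit hp h in
theorem coprime_two (hp2 : p ≠ 2) [hp : Fact p.Prime] : Nat.Coprime 2 p :=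
  ((Nat.coprime_primes Nat.prime_two hp.out).mpr hp2.symm)

/-- `t` is an involution, `t` commutes with no nontrivial `p`-element. -/
theorem CtxB.not_comm {t w : G} (ht : orderOf t = 2) (hw : ∃ k, orderOf w = p ^ k) (hc : t * w = w * t) : w = 1 := by
  by_contra hw1
  have h1 := h.eq_one hw hw1 (z := t) (by rw [ht]; exact coprime_two h.p_ne_two) hc
  rw [h1, orderOf_one] at ht
  omega

/-- an involution normalizing `Q` inverts it -/
theorem CtxB.inv {t : G} (ht : orderOf t = 2) {Q : Sylow p G} (hQ : t ∈ normalizer ((Q : Subgroup G) : Set G))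
    {w : G} (hw : w ∈ (Q : Subgroup G)) : t * w * t⁻¹ = w⁻¹ := by
  have htt : t * t = 1 := by rw [← sq, ← ht, pow_orderOf_eq_one]
  have hti : t⁻¹ = t := by rw [inv_eq_iff_mul_eq_one]; exact htt
  have h1 : t * w * t⁻¹ ∈ (Q : Subgroup G) := (mem_normalizer_iff.mp hQ w).mp hw
  have h2 : w * (t * w * t⁻¹) = 1 := by
    apply h.not_comm ht (order_of_mem (mul_mem hw h1))
    have h3 := (h.ctx Q).comm hw h1
    calc t * (w * (t * w * t⁻¹)) = (t * w * t⁻¹) * (t * t) * w * t⁻¹ := by group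
      _ = (t * w * t⁻¹) * w * t⁻¹ := by rw [htt, mul_one]
      _ = w * (t * w * t⁻¹) * t := by rw [← h3, hti]
  exact (inv_eq_of_mul_eq_one_right h2).symm

theorem CtxB.sylow_eq {Q R : Sylow p G} {w : G} (hw1 : w ≠ 1) (hQ : w ∈ (Q : Subgroup G)) (hR : w ∈ (R : Subgroup G)) :
    Q = R := by
  have h1 : (Q : Subgroup G) ≤ (R : Subgroup G) := by
    intro z hz
    apply h.le hR hw1
    rw [mem_centralizer_singleton_iff]
    exact (h.ctx Q).comm hz hQ
  have h2 : (R : Subgroup G) ≤ (Q : Subgroup G) := by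
    intro z hz
    apply h.le hQ hw1
    rw [mem_centralizer_singleton_iff]
    exact (h.ctx R).comm hz hR
  exact Sylow.ext (le_antisymm h1 h2)

/-- the product of two non-commuting involutions is a `p`-element -/
theorem CtxB.prod {t s : G} (ht : orderOf t = 2) (hs : orderOf s = 2) (hts : t * s ≠ s * t) :
    ∃ Q : Sylow p G, t * s ∈ (Q : Subgroup G) := by
  have htt : t * t = 1 := by rw [← sq, ← ht, pow_orderOf_eq_one]
  have hss : s * s = 1 := by rw [← sq, ← hs, pow_orderOf_eq_one]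
  have hti : t⁻¹ = t := by rw [inv_eq_iff_mul_eq_one]; exact htt
  have hsi : s⁻¹ = s := by rw [inv_eq_iff_mul_eq_one]; exact hss
  by_cases hcop : (orderOf (t * s)).Coprime p
  · exfalso
    have hn : zpowers t ≤ normalizer ((zpowers (t * s) : Subgroup G) : Set G) := by
      rw [zpowers_le, mem_normalizer_zpowers_iff]
      have : t * (t * s) * t⁻¹ = (t * s)⁻¹ := by
        rw [mul_inv_rev, hti, hsi, ← mul_assoc, htt, one_mul]
      rw [this]; exact inv_mem (mem_zpowers _)
    have h5 := Cfsg.Agent.Lib.ConjSylow.card_sup_mul_card_inf hn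
    have h6 : ¬ p ∣ Nat.card (zpowers t ⊔ zpowers (t * s) : Subgroup G) := by
      intro h7
      have h8 := h7.trans (Dvd.intro _ h5)
      rw [Nat.card_zpowers, Nat.card_zpowers, ht] at h8
      rcases (hp.out.dvd_mul).mp h8 with h9 | h9
      · exact h.p_ne_two ((Nat.prime_dvd_prime_iff_eq hp.out Nat.prime_two).mp h9)
      · exact (Nat.Prime.coprime_iff_not_dvd hp.out).mp hcop.symm h9
    obtain ⟨Q⟩ : Nonempty (Sylow p G) := inferInstance
    have h7 := (h.ctx Q).ab _ h6 t (mem_sup_left (mem_zpowers t)) (t * s) (mem_sup_right (mem_zpowers _))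
    apply hts
    have h8 : t * (t * s) = s := by rw [← mul_assoc, htt, one_mul]
    rw [h8] at h7
    calc t * s = t * (t * s * t) := by rw [← h7]
      _ = s * t := by rw [← mul_assoc, ← mul_assoc, htt, one_mul]
  · obtain ⟨a, b, ha, hb, hab⟩ := exists_parts p hp.out (t * s)
    have ha1 : (t * s) ^ a ≠ 1 := by
      intro h1
      rw [h1, one_mul] at hab
      rw [← hab] at hb
      exact hcop hb
    obtain ⟨Q, hQ⟩ := exists_sylow ha
    refine ⟨Q, h.le hQ ha1 ?_⟩
    rw [mem_centralizer_singleton_iff]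
    exact (Commute.refl (t * s)).pow_right a

end Cfsg.Agent.Lib.H15CycA
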