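import Cfsg.Agent.Lib.H15CycG

set_option autoImplicit false

namespace Cfsg.Agent.Lib.H15CycA

open Subgroup Cfsg Cfsg.Agent.Lib.PNilp Cfsg.Agent.Lib.Transfer Cfsg.Agent.Lib.CycNorm

universe u

variable {G : Type u} [Group G] [Finite G] {p : ℕ} [hp : Fact p.Prime]

variable (h : CtxB p G)

include h

theorem CtxB.exists_noncomm {t : G} (ht : orderOf t = 2) : ∃ s : G, orderOf s = 2 ∧ t * s ≠ s * t := by
  by_contra hcon
  push Not at hcon
  obtain ⟨Q⟩ : Nonempty (Sylow p G) := inferInstance
  have ht1 : t ≠ 1 := by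
    rintro rfl
    rw [orderOf_one] at ht
    omega
  have := (h.ctx Q).simple
  rcases (inferInstance : (normalClosure {t}).Normal).eq_bot_or_eq_top with h1 | h1
  · have h2 : t ∈ normalClosure {t} := subset_normalClosure rfl
    rw [h1] at h2
    exact ht1 (mem_bot.mp h2)
  · apply (h.ctx Q).cent_ne_top ht1
    rw [eq_top_iff, ← h1]
    unfold normalClosure
    rw [closure_le]
    intro s hs
    obtain ⟨a, ha, hc⟩ := Group.mem_conjugatesOfSet_iff.mp hs
    rw [Set.mem_singleton_iff.mp ha] at hc
    obtain ⟨c, rfl⟩ := isConj_iff.mp hc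
    have h3 := hcon (c * t * c⁻¹) (by rw [← ht]; exact (MulAut.conj c).orderOf_eq t)
    rw [SetLike.mem_coe, mem_centralizer_singleton_iff]
    exact h3.symm

/-- the number of involutions is divisible by `p` -/
theorem CtxB.card_inv (I : Finset G) (hI : ∀ z, z ∈ I ↔ orderOf z = 2) : p ∣ I.card := by
  classical
  obtain ⟨Q⟩ : Nonempty (Sylow p G) := inferInstance
  obtain ⟨y, hyQ, hy⟩ := (h.ctx Q).exists_y
  let f : Function.End I := fun x => ⟨y * x.1 * y⁻¹, by
    rw [hI, ← (hI x.1).mp x.2]; exact (MulAut.conj y).orderOf_eq x.1⟩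
  have hpow : ∀ n : ℕ, ∀ x : I, ((f ^ n : Function.End I) x).1 = y ^ n * x.1 * (y ^ n)⁻¹ := by
    intro n
    induction n with
    | zero => intro x; simp; rfl
    | succ n ih =>
      intro x
      have : ((f ^ (n + 1) : Function.End I) x) = f ((f ^ n : Function.End I) x) := by
        rw [pow_succ']; rfl
      rw [this]
      show y * ((f ^ n : Function.End I) x).1 * y⁻¹ = _
      rw [ih, pow_succ']
      group
  have hf : f ^ p ^ 1 = 1 := by
    funext x
    apply Subtype.ext
    rw [hpow, pow_one, ← hy, pow_orderOf_eq_one]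
    simp; rfl
  have h1 := Equiv.Perm.card_fixedPoints_modEq hf
  have h2 : Fintype.card (Function.fixedPoints f) = 0 := by
    rw [Fintype.card_eq_zero_iff]
    refine ⟨fun x => ?_⟩
    have h3 : f x.1 = x.1 := x.2
    have h4 : y * x.1.1 * y⁻¹ = x.1.1 := congrArg Subtype.val h3
    have h5 : y = 1 := by
      refine h.not_comm ((hI _).mp x.1.2) ⟨1, by rw [hy, pow_one]⟩ ?_
      calc x.1.1 * y = y * x.1.1 * y⁻¹ * y := by rw [h4]
        _ = y * x.1.1 := by group
    rw [h5, orderOf_one] at hy
    exact hp.out.one_lt.ne hy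
  rw [h2, Fintype.card_coe] at h1
  exact (Nat.modEq_zero_iff_dvd).mp h1

/-- the involutions commuting with `t` -/
theorem CtxB.card_comm {t : G} (ht : orderOf t = 2) (I : Finset G)
    (hI : ∀ z, z ∈ I ↔ orderOf z = 2 ∧ t * z = z * t) : p ∣ I.card := by
  classical
  have hp2 := h.p_ne_two
  have : Fact (Nat.Prime 2) := ⟨Nat.prime_two⟩
  obtain ⟨Q⟩ : Nonempty (Sylow p G) := inferInstance
  have hzp : IsPGroup 2 (zpowers t) := IsPGroup.of_card (n := 1) (by rw [Nat.card_zpowers, ht, pow_one])
  obtain ⟨S, hS⟩ := hzp.exists_le_sylow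
  have htS : t ∈ (S : Subgroup G) := hS (mem_zpowers t)
  have hS1 : (S : Subgroup G) ≠ ⊥ := by
    intro h1
    rw [h1] at htS
    rw [mem_bot.mp htS, orderOf_one] at ht
    omega
  obtain ⟨u, huN, hu, huC⟩ := (h.ctx Q).s5 (r := 2) hp2.symm S hS1
  have hcomm : ∀ a ∈ (S : Subgroup G), ∀ b ∈ (S : Subgroup G), a * b = b * a :=
    fun a ha b hb => (h.ctx Q).comm' hp2.symm S.isPGroup' ha hb
  -- the centralizer of `t` is abelian
  have hA : ¬ p ∣ Nat.card (centralizer {t}) := by
    intro h1
    obtain ⟨w, hw⟩ := exists_prime_orderOf_dvd_card' (G := centralizer {t}) p h1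
    have h2 := h.not_comm ht (w := (w : G)) ⟨1, by rw [Subgroup.orderOf_coe, hw, pow_one]⟩
      (mem_centralizer_singleton_iff.mp w.2).symm
    rw [show w = 1 from Subtype.ext h2, orderOf_one] at hw
    exact hp.out.one_lt.ne hw
  have hSA : (S : Subgroup G) ≤ centralizer {t} := by
    intro z hz
    rw [mem_centralizer_singleton_iff]
    exact hcomm z hz t htS
  set E := tors (S : Subgroup G) 2 hcomm with hE
  have hEu : ∀ z ∈ E, u * z * u⁻¹ ∈ E := by
    intro z hz
    refine ⟨(mem_normalizer_iff.mp huN z).mp hz.1, ?_⟩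
    rw [conj_pow, hz.2]; group
  have hmod := fixed_modEq u hu E hEu
  have hu1 : u ≠ 1 := by
    rintro rfl
    exact huC (one_mem _)
  have hbot : E ⊓ centralizer {u} = ⊥ := by
    rw [eq_bot_iff]
    rintro z ⟨hz1, hz2⟩
    rw [mem_bot]
    refine h.eq_one hu hu1 ?_ (mem_centralizer_singleton_iff.mp hz2)
    exact Nat.Coprime.coprime_dvd_left (orderOf_dvd_of_pow_eq_one hz1.2) (coprime_two hp2)
  rw [hbot, card_bot] at hmod
  -- E = I ∪ {1}
  have hcard : I.card + 1 = Nat.card E := by
    have h1 : (1 : G) ∉ I := by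
      rw [hI, orderOf_one]
      rintro ⟨h2, -⟩
      omega
    rw [← Finset.card_insert_of_notMem h1]
    have h2 : ((insert 1 I : Finset G) : Set G) = (E : Set G) := by
      ext z
      rw [Finset.mem_coe, Finset.mem_insert, hI, SetLike.mem_coe]
      constructor
      · rintro (rfl | ⟨h3, h4⟩)
        · exact E.one_mem
        · refine ⟨?_, by rw [← h3]; exact pow_orderOf_eq_one z⟩
          apply mem_sylow_of_normalizer (P := S) ⟨1, by rw [h3, pow_one]⟩
          apply mem_normalizer_of_forall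
          intro y hy
          have h5 := (h.ctx Q).ab _ hA z (mem_centralizer_singleton_iff.mpr h4.symm) y (hSA hy)
          rw [h5, mul_inv_cancel_right]; exact hy
      · rintro ⟨h3, h4⟩
        by_cases hz1 : z = 1
        · exact Or.inl hz1
        · exact Or.inr ⟨orderOf_eq_prime h4 hz1, hcomm t htS z h3⟩
    rw [← Set.ncard_coe_finset, h2]
    rfl
  rw [← hcard] at hmod
  have h3 : I.card + 1 ≡ 0 + 1 [MOD p] := by rw [zero_add]; exact hmod
  exact (Nat.modEq_zero_iff_dvd).mp (Nat.ModEq.add_right_cancel' 1 h3)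

theorem CtxB.not_dvd {t : G} (ht : orderOf t = 2) : ¬ p ∣ Nat.card (centralizer {t}) := by
  intro h1
  obtain ⟨w, hw⟩ := exists_prime_orderOf_dvd_card' (G := centralizer {t}) p h1
  have h2 := h.not_comm ht (w := (w : G)) ⟨1, by rw [Subgroup.orderOf_coe, hw, pow_one]⟩
    (mem_centralizer_singleton_iff.mp w.2).symm
  rw [show w = 1 from Subtype.ext h2, orderOf_one] at hw
  exact hp.out.one_lt.ne hw

theorem CtxB.sqrt {Q : Sylow p G} {w : G} (hw : w ∈ (Q : Subgroup G)) : ∃ v ∈ (Q : Subgroup G), v * v = w := by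
  obtain ⟨k, hk⟩ := order_of_mem hw
  have hcop : Nat.Coprime 2 (orderOf w) := by
    rw [hk]; exact Nat.Coprime.pow_right k (coprime_two h.p_ne_two)
  obtain ⟨i, hi⟩ := exists_pow_eq_self_of_coprime hcop
  refine ⟨w ^ i, pow_mem hw i, ?_⟩
  rw [← sq, ← pow_mul, mul_comm, pow_mul]
  exact hi

/-- the Sylow subgroups normalized by `t` form an orbit of `C(t)` -/
theorem CtxB.orbit {t : G} (ht : orderOf t = 2) (Q : Sylow p G) (hQ : t ∈ normalizer ((Q : Subgroup G) : Set G))
    (R : Sylow p G) (hR : t ∈ normalizer ((R : Subgroup G) : Set G)) :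
    ∃ a : centralizer {t}, a • Q = R := by
  have htt : t * t = 1 := by rw [← sq, ← ht, pow_orderOf_eq_one]
  have hti : t⁻¹ = t := by rw [inv_eq_iff_mul_eq_one]; exact htt
  obtain ⟨g, hg⟩ := MulAction.exists_smul_eq G Q R
  have hRQ : (R : Subgroup G) = (Q : Subgroup G).map (MulAut.conj g).toMonoidHom := by
    rw [← hg]; rfl
  -- `s = g⁻¹ t g` normalizes `Q`
  set s := g⁻¹ * t * g with hs
  have hso : orderOf s = 2 := by
    rw [← ht, hs]
    have := (MulAut.conj g⁻¹).orderOf_eq t
    simpa using this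
  have hsQ : s ∈ normalizer ((Q : Subgroup G) : Set G) := by
    apply mem_normalizer_of_forall
    intro y hy
    have h1 : g * y * g⁻¹ ∈ (R : Subgroup G) := by
      rw [hRQ]; exact ⟨y, hy, rfl⟩
    have h2 := (mem_normalizer_iff.mp hR _).mp h1
    rw [hRQ] at h2
    obtain ⟨z, hz, hz2⟩ := h2
    have h3 : g * z * g⁻¹ = t * (g * y * g⁻¹) * t⁻¹ := hz2
    have h4 : s * y * s⁻¹ = z := by
      have : z = g⁻¹ * (g * z * g⁻¹) * g := by group
      rw [this, h3, hs]; group
    rw [h4]; exact hz
  -- `t s` centralizes `Q`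
  have h5 : t * s ∈ (Q : Subgroup G) := by
    obtain ⟨y, hyQ, hy⟩ := (h.ctx Q).exists_y
    have hy1 : y ≠ 1 := by
      rintro rfl
      rw [orderOf_one] at hy
      exact hp.out.one_lt.ne hy
    apply h.le hyQ hy1
    rw [mem_centralizer_singleton_iff]
    have h6 := h.inv hso hsQ hyQ
    have h7 := h.inv ht hQ ((Q : Subgroup G).inv_mem hyQ)
    have h8 : s * y = y⁻¹ * s := by rw [← h6]; group
    have h9 : t * y⁻¹ = y * t := by
      rw [inv_inv] at h7
      calc t * y⁻¹ = t * y⁻¹ * t⁻¹ * t := by group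
        _ = y * t := by rw [h7]
    calc t * s * y = t * (s * y) := by group
      _ = t * y⁻¹ * s := by rw [h8]; group
      _ = y * (t * s) := by rw [h9]; group
  obtain ⟨v, hv, hvv⟩ := h.sqrt h5
  have h6 := h.inv ht hQ hv
  have h7 : s = v⁻¹ * t * v := by
    have h8 : t * v = v⁻¹ * t := by rw [← h6]; group
    have h9 : s = t * (t * s) := by rw [← mul_assoc, htt, one_mul]
    rw [h9, ← hvv, ← mul_assoc, h8]
  refine ⟨⟨g * v⁻¹, ?_⟩, ?_⟩
  · rw [mem_centralizer_singleton_iff]
    have h8 : g⁻¹ * t * g = v⁻¹ * t * v := by rw [← hs, h7]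
    calc g * v⁻¹ * t = g * (v⁻¹ * t * v) * v⁻¹ := by group
      _ = g * (g⁻¹ * t * g) * v⁻¹ := by rw [h8]
      _ = t * (g * v⁻¹) := by group
  · show (g * v⁻¹) • Q = R
    rw [mul_smul, ← hg]
    congr 1
    rw [Sylow.smul_eq_iff_mem_normalizer]
    exact le_normalizer ((Q : Subgroup G).inv_mem hv)

theorem CtxB.false : False := by
  classical
  have := Fintype.ofFinite G
  have := Fintype.ofFinite (Sylow p G)
  have : Fact (Nat.Prime 2) := ⟨Nat.prime_two⟩
  obtain ⟨t, ht⟩ := exists_prime_orderOf_dvd_card' (G := G) 2 h.even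
  have htt : t * t = 1 := by rw [← sq, ← ht, pow_orderOf_eq_one]
  have hti : t⁻¹ = t := by rw [inv_eq_iff_mul_eq_one]; exact htt
  let I : Finset G := Finset.univ.filter fun z => orderOf z = 2
  have h1 := h.card_inv I (by intro z; simp [I])
  have h2 := h.card_comm ht (I.filter fun z => t * z = z * t) (by intro z; simp [I])
  have h3 : p ∣ (I.filter fun z => ¬ t * z = z * t).card := by
    rw [← Finset.card_filter_add_card_filter_not (s := I) (fun z => t * z = z * t)] at h1
    exact (Nat.dvd_add_right h2).mp h1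
  let Qs : Finset (Sylow p G) := Finset.univ.filter fun Q => t ∈ normalizer ((Q : Subgroup G) : Set G)
  let X : Finset G := Qs.biUnion fun Q => (Finset.univ.filter fun z => z ∈ (Q : Subgroup G)).erase 1
  have hX : (I.filter fun z => ¬ t * z = z * t).image (fun z => t * z) = X := by
    ext w
    simp only [Finset.mem_image, Finset.mem_filter, I, X, Qs, Finset.mem_univ, true_and, Finset.mem_biUnion,
      Finset.mem_erase]
    constructor
    · rintro ⟨z, ⟨hz, hzt⟩, rfl⟩
      obtain ⟨Q, hQ⟩ := h.prod ht hz hzt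
      have hne : t * z ≠ 1 := by
        intro h4
        apply hzt
        have h5 : z = t := by
          calc z = t * (t * z) := by rw [← mul_assoc, htt, one_mul]
            _ = t := by rw [h4, mul_one]
        rw [h5]
      refine ⟨Q, ?_, hne, hQ⟩
      apply (h.ctx Q).N_zpowers hQ hne
      rw [mem_normalizer_zpowers_iff]
      have hzz : z * z = 1 := by rw [← sq, ← hz, pow_orderOf_eq_one]
      have hzi : z⁻¹ = z := by rw [inv_eq_iff_mul_eq_one]; exact hzz
      have : t * (t * z) * t⁻¹ = (t * z)⁻¹ := by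
        rw [mul_inv_rev, hti, hzi, ← mul_assoc, htt, one_mul]
      rw [this]; exact inv_mem (mem_zpowers _)
    · rintro ⟨Q, hQ, hw1, hw⟩
      have h4 := h.inv ht hQ hw
      rw [hti] at h4
      have h5 : ¬ t * w = w * t := fun h6 => hw1 (h.not_comm ht (order_of_mem hw) h6)
      refine ⟨t * w, ⟨?_, ?_⟩, by rw [← mul_assoc, htt, one_mul]⟩
      · apply orderOf_eq_prime
        · rw [sq]
          calc t * w * (t * w) = t * w * t * w := by group
            _ = 1 := by rw [h4]; group
        · intro h6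
          apply h5
          have h7 : w = t := by
            calc w = t * (t * w) := by rw [← mul_assoc, htt, one_mul]
              _ = t := by rw [h6, mul_one]
          rw [h7]
      · intro h6
        apply h5
        calc t * w = t * (t * (t * w)) := by rw [← mul_assoc t t, htt, one_mul]
          _ = t * (t * w * t) := by rw [h6]
          _ = w * t := by rw [← mul_assoc, ← mul_assoc, htt, one_mul]
  have h4 : X.card = (I.filter fun z => ¬ t * z = z * t).card := by
    rw [← hX]
    exact Finset.card_image_of_injective _ (mul_right_injective t)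
  obtain ⟨Q0⟩ : Nonempty (Sylow p G) := inferInstance
  have h5 : X.card = Qs.card * (Nat.card (Q0 : Subgroup G) - 1) := by
    rw [Finset.card_biUnion]
    · rw [Finset.sum_const_nat]
      intro Q _
      rw [Finset.card_erase_of_mem (by simp)]
      congr 1
      rw [Nat.card_congr (Sylow.equiv Q0 Q).toEquiv, Nat.card_eq_fintype_card, Fintype.card_subtype]
    · intro Q _ R _ hQR
      refine Finset.disjoint_left.mpr ?_
      intro z hz1 hz2
      simp only [Finset.mem_erase, Finset.mem_filter, Finset.mem_univ, true_and] at hz1 hz2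
      exact hQR (h.sylow_eq hz1.1 hz1.2 hz2.2)
  obtain ⟨s, hs, hts⟩ := h.exists_noncomm ht
  obtain ⟨Q, hQ⟩ : ∃ Q : Sylow p G, Q ∈ Qs := by
    have h6 : t * s ∈ X := by
      rw [← hX, Finset.mem_image]
      exact ⟨s, by simp [I, hs, hts], rfl⟩
    obtain ⟨Q, hQ, -⟩ := Finset.mem_biUnion.mp h6
    exact ⟨Q, hQ⟩
  have hQ' : t ∈ normalizer ((Q : Subgroup G) : Set G) := by simpa [Qs] using hQ
  have h6 : Qs.card ∣ Nat.card (centralizer {t}) := by
    have h7 : (Qs : Set (Sylow p G)) = MulAction.orbit (centralizer {t}) Q := by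
      ext R
      constructor
      · intro hR
        have hR' : t ∈ normalizer ((R : Subgroup G) : Set G) := by simpa [Qs] using hR
        exact h.orbit ht Q hQ' R hR'
      · rintro ⟨a, rfl⟩
        have h8 : t ∈ normalizer (((a • Q : Sylow p G) : Subgroup G) : Set G) := by
          apply mem_normalizer_of_forall
          intro y hy
          have h9 : ((a • Q : Sylow p G) : Subgroup G) = (Q : Subgroup G).map (MulAut.conj (a : G)).toMonoidHom := rfl
          rw [h9] at hy ⊢
          obtain ⟨z, hz, rfl⟩ := hy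
          refine ⟨t * z * t⁻¹, (mem_normalizer_iff.mp hQ' z).mp hz, ?_⟩
          show (a : G) * (t * z * t⁻¹) * (a : G)⁻¹ = t * ((a : G) * z * (a : G)⁻¹) * t⁻¹
          have h10 := mem_centralizer_singleton_iff.mp a.2
          calc (a : G) * (t * z * t⁻¹) * (a : G)⁻¹ = ((a : G) * t) * z * ((a : G) * t)⁻¹ := by group
            _ = (t * (a : G)) * z * (t * (a : G))⁻¹ := by rw [h10]
            _ = _ := by group
        show a • Q ∈ (Qs : Set (Sylow p G))
        simpa [Qs] using h8
    have h8 : Qs.card = (MulAction.orbit (centralizer {t}) Q).ncard := by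
      rw [← h7, Set.ncard_coe_finset]
    rw [h8, ← MulAction.index_stabilizer]
    exact index_dvd_card _
  -- conclusion
  have h7 : p ∣ Qs.card := by
    rw [← h4, h5] at h3
    rcases (hp.out.dvd_mul).mp h3 with h8 | h8
    · exact h8
    · exfalso
      have h9 : p ∣ Nat.card (Q0 : Subgroup G) := by
        obtain ⟨y, hyQ, hy⟩ := (h.ctx Q0).exists_y
        have h13 := orderOf_dvd_natCard (⟨y, hyQ⟩ : (Q0 : Subgroup G))
        rwa [Subgroup.orderOf_mk, hy] at h13
      have h10 : 0 < Nat.card (Q0 : Subgroup G) := Nat.card_pos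
      have h11 : p ∣ 1 := by
        have h12 := (Nat.dvd_sub h9 h8)
        rwa [Nat.sub_sub_self h10] at h12
      exact hp.out.one_lt.ne' (Nat.dvd_one.mp h11)
  exact h.not_dvd ht (h7.trans h6)

end Cfsg.Agent.Lib.H15CycA
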