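import Mathlib
import Cfsg.Agent.Lib.BRPerm
import Cfsg.Agent.Lib.CharGalois
import Cfsg.Agent.Lib.CharCentral
import Cfsg.Agent.Lib.H76Ker
import Cfsg.Agent.Lib.DefOneGalois

set_option autoImplicit false
set_option linter.all false

/-!
# Groups with a Sylow `p`-subgroup of order `p` whose normaliser has order `2p`
-/

namespace Cfsg.Agent.Lib.H15RealP

open Cfsg Cfsg.Agent.Lib.BlockRing Cfsg.Agent.Lib.BlockGA Cfsg.Agent.Lib.BlockIdem
open Cfsg.Agent.Lib.DefOneLoc Cfsg.Agent.Lib.DefOneOrd Cfsg.Agent.Lib.CharBasic Cfsg.Agent.Lib.DefOneGram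
open Cfsg.Agent.Lib.DefOne Cfsg.Agent.Lib.BlockThird Cfsg.Agent.Lib.DefOnePrin Cfsg.Agent.Lib.BRB0
open Cfsg.Agent.Lib.BRNum Cfsg.Agent.Lib.BRDeg Cfsg.Agent.Lib.BRCore Cfsg.Agent.Lib.BROne Cfsg.Agent.Lib.BRInd
open Cfsg.Agent.Lib.BRPerm
open scoped ComplexConjugate

universe u

variable {G : Type u} [Group G] [Fintype G] {p : ℕ} [hp : Fact p.Prime] {P N C : Subgroup G}
  {D : Loc p P N C} [Fintype C]

/-- the configuration -/
structure Cfg (B : B0 D) (χ : IrrCharacter G) : Prop where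
  h5 : 5 ≤ p
  hP : Nat.card P = p
  hCP : C ≤ P
  he : Nat.card (κu D).range = 2
  X : B.X = {triv G, χ}
  ne : χ ≠ triv G
  hPS : ∃ Q : Sylow p G, (Q : Subgroup G) = P

variable {B : B0 D} {χ : IrrCharacter G}

theorem Cfg.tau (h : Cfg B χ) : 2 * Nat.card (Tau D) = p - 1 := card_tau D h.he

theorem Cfg.one_lt_tau (h : Cfg B χ) : 1 < Nat.card (Tau D) := by
  have := h.tau
  have := h.h5
  omega

theorem Cfg.trivX (h : Cfg B χ) : triv G ∈ B.X ∧ B.δ (triv G) = 1 := triv_mem_X B h.one_lt_tau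

theorem Cfg.mem (h : Cfg B χ) : χ ∈ B.X := by rw [h.X]; simp

/-- existence -/
theorem exists_cfg (B : B0 D) (h5 : 5 ≤ p) (hP : Nat.card P = p) (hCP : C ≤ P) (he : Nat.card (κu D).range = 2)
    (hPS : ∃ Q : Sylow p G, (Q : Subgroup G) = P) : ∃ χ : IrrCharacter G, Cfg B χ := by
  classical
  have htau := card_tau D he
  have ht : 1 < Nat.card (Tau D) := by omega
  obtain ⟨h1, h2⟩ := triv_mem_X B ht
  have hX : B.X.card = 2 := by rw [B.cardX, he]
  obtain ⟨a, b, hab, hX'⟩ := Finset.card_eq_two.1 hX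
  rw [hX', Finset.mem_insert, Finset.mem_singleton] at h1
  rcases h1 with rfl | rfl
  · exact ⟨b, h5, hP, hCP, he, hX', hab.symm, hPS⟩
  · exact ⟨a, h5, hP, hCP, he, by rw [hX', Finset.pair_comm], hab, hPS⟩

theorem Cfg.val_sing (h : Cfg B χ) {g : G} (hg : p ∣ orderOf g) : (χ : G → ℂ) g = B.δ χ := by
  obtain ⟨Q, hQ⟩ := h.hPS
  obtain ⟨z, c, hzc, hc⟩ := DefOneGalois.exists_conj_C (D := D) Q hQ.symm hg
  have h1 := B.valX χ h.mem c hc
  rw [hzc] at h1
  rw [← h1]
  exact (χ.2.isClassFunction g z).symm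

theorem Cfg.sum_sing (h : Cfg B χ) {φ : G → ℂ} (hφ : IsClassFunction G φ) {a : ℂ} (ha : ∀ g : G, p ∣ orderOf g → φ g = a)
    (q : Tau D) : classInner φ ((triv G : IrrCharacter G) : G → ℂ) + B.δ χ * classInner φ (χ : G → ℂ) -
      B.s * classInner φ (B.Y q : G → ℂ) = a := by
  classical
  have h1 := B.mult hφ (a := a) (fun c hc => ha _ (sing_of_l c hc)) q
  rw [h.X, Finset.sum_pair h.ne.symm, h.trivX.2] at h1
  rw [← h1]; push_cast; ring

theorem Cfg.rel (h : Cfg B χ) (q : Tau D) {g : G} (hg : ¬ p ∣ orderOf g) :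
    (B.s : ℂ) * (B.Y q : G → ℂ) g = 1 + B.δ χ * (χ : G → ℂ) g := by
  classical
  rw [B.rel q g hg, h.X, Finset.sum_pair h.ne.symm, h.trivX.2]
  have h3 : ((triv G : IrrCharacter G) : G → ℂ) g = 1 := rfl
  rw [h3]
  push_cast; ring

theorem not_dvd_one : ¬ p ∣ orderOf (1 : G) := by
  rw [orderOf_one]; exact hp.out.one_lt.ne' ∘ Nat.dvd_one.1

theorem Cfg.Y_ne (h : Cfg B χ) (q : Tau D) : B.Y q ≠ triv G ∧ B.Y q ≠ χ :=
  ⟨fun h' => B.disj q (by rw [h']; exact h.trivX.1), fun h' => B.disj q (by rw [h']; exact h.mem)⟩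

theorem dvd_orderOf_pow {g : G} (hg : p ∣ orderOf g) {k : ℕ} (hk : k.Coprime (Nat.card G)) : p ∣ orderOf (g ^ k) := by
  have h1 : (orderOf g).Coprime k := (hk.symm).coprime_dvd_left (orderOf_dvd_natCard g)
  rw [Nat.Coprime.orderOf_pow h1]
  exact hg

/-- `χ` is rational -/
theorem Cfg.pow_eq (h : Cfg B χ) {k : ℕ} (hk : k.Coprime (Nat.card G)) (g : G) :
    (χ : G → ℂ) (g ^ k) = (χ : G → ℂ) g := by
  classical
  set ψ : IrrCharacter G := ⟨fun g => (χ : G → ℂ) (g ^ k), CharGalois.isIrrCharacter_pow χ.2 hk⟩ with hψ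
  have hval : ∀ c : C, D.l c ≠ 0 → (ψ : G → ℂ) c = B.δ χ := by
    intro c hc
    exact h.val_sing (dvd_orderOf_pow (sing_of_l c hc) hk)
  have hδ0 : (B.δ χ : ℂ) ≠ 0 := by
    rcases B.δ_pm χ h.mem with h1 | h1 <;> rw [h1] <;> norm_num
  have hdm : ∀ i : (ZMod p)ˣ, dm D (ψ : G → ℂ) (triv C) i = - B.δ χ := fun i => dm_const hval i.ne_zero
  have hX : ψ ∈ B.X := by
    by_contra hcon
    by_cases hY : ∃ q, ψ = B.Y q
    · obtain ⟨q, hq⟩ := hY
      obtain ⟨q', hq'⟩ : ∃ q' : Tau D, q' ≠ q := by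
        haveI : Nontrivial (Tau D) := Finite.one_lt_card_iff_nontrivial.1 h.one_lt_tau
        exact exists_ne q
      obtain ⟨i, rfl⟩ := QuotientGroup.mk_surjective q'
      have h1 := B.dmY q i
      rw [← hq, hdm, if_neg hq'] at h1
      exact hδ0 (neg_eq_zero.1 h1)
    · push Not at hY
      have h1 := B.dmO ψ hcon hY 1
      rw [hdm] at h1
      exact hδ0 (neg_eq_zero.1 h1)
  rw [h.X, Finset.mem_insert, Finset.mem_singleton] at hX
  rcases hX with h1 | h1
  · exfalso
    apply h.ne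
    apply Subtype.ext
    funext x
    -- `x` is a `k`-th power
    obtain ⟨m, hm⟩ : ∃ m : ℕ, x = (x ^ m) ^ k := by
      have h2 : (orderOf x).Coprime k := (hk.symm).coprime_dvd_left (orderOf_dvd_natCard x)
      obtain ⟨m, hm⟩ := exists_pow_eq_self_of_coprime h2.symm
      exact ⟨m, by rw [← pow_mul, mul_comm, pow_mul, hm]⟩
    have h3 : (ψ : G → ℂ) (x ^ m) = ((triv G : IrrCharacter G) : G → ℂ) (x ^ m) := by rw [h1]
    have h4 : (χ : G → ℂ) ((x ^ m) ^ k) = 1 := h3
    rw [← hm] at h4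
    exact h4
  · exact congrFun (congrArg Subtype.val h1) g

theorem Cfg.exists_int (h : Cfg B χ) (g : G) : ∃ y : ℤ, (χ : G → ℂ) g = y := by
  obtain ⟨q, hq⟩ := CharGalois.exists_rat_of_pow χ.2.isCharacter g (fun k hk => h.pow_eq hk g)
  obtain ⟨y, hy⟩ := CharCentral.exists_int_of_isIntegral_rat (H76Char.isIntegral_of_isCharacter χ.2.isCharacter g) q hq
  exact ⟨y, by first | exact hy | (rw [hq]; exact_mod_cast hy)⟩

/-! ### the normaliser -/

theorem eq_one_of_reg (hP : Nat.card P = p) {x : G} (hx : x ∈ P) (h : ¬ p ∣ orderOf x) : x = 1 := by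
  by_contra h1
  exact h (by rw [order_of_mem hP hx h1])

theorem Cfg.kappa (h : Cfg B χ) (n : N) : D.κ n = 1 ∨ D.κ n = -1 := by
  have h1 : (⟨κu D n, n, rfl⟩ : (κu D).range) ^ 2 = 1 := by
    rw [← h.he]; exact pow_card_eq_one'
  have h2 : (κu D n) ^ 2 = 1 := by
    have := congrArg Subtype.val h1
    exact this
  have h3 : (D.κ n) * (D.κ n) = 1 := by
    have h4 := congrArg (fun u : (ZMod p)ˣ => (u : ZMod p)) h2
    simp only [pow_two, Units.val_mul, Units.val_one, κu_apply] at h4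
    exact h4
  exact mul_self_eq_one_iff.1 h3

theorem Cfg.exists_inv (h : Cfg B χ) : ∃ n : N, D.κ n = -1 := by
  by_contra hcon
  push Not at hcon
  have h1 : (κu D).range = ⊥ := by
    rw [eq_bot_iff]
    rintro _ ⟨n, rfl⟩
    rw [Subgroup.mem_bot]
    apply Units.ext
    rw [κu_apply]
    rcases h.kappa n with h2 | h2
    · exact h2
    · exact absurd h2 (hcon n)
  have h2 := h.he
  rw [h1, Subgroup.card_bot] at h2
  omega

theorem Cfg.conj_inv (h : Cfg B χ) {n : N} (hn : D.κ n = -1) {c : G} (hc : c ∈ C) :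
    (n : G) * c * (n : G)⁻¹ = c⁻¹ := by
  have hd := D.conj_mem n n.2 c hc
  have h1 := D.κ_conj n ⟨c, hc⟩ ⟨_, hd⟩ rfl
  rw [hn] at h1
  have h2 : D.l (⟨_, hd⟩ * ⟨c, hc⟩) = 0 := by rw [D.l_mul, h1]; ring
  rw [D.l_reg] at h2
  have h3 := eq_one_of_reg h.hP (h.hCP (⟨_, hd⟩ * ⟨c, hc⟩ : C).2) h2
  exact eq_inv_of_mul_eq_one_left h3

theorem Cfg.sq_eq (h : Cfg B χ) {n : N} (hn : D.κ n = -1) : (n : G) * n = 1 := by
  have h1 : (n : G) * n ∈ C := by
    have h2 : D.κ (n * n) = 1 := by rw [D.κ_mul, hn]; ring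
    exact (D.κ_eq (n * n)).1 h2
  have h2 := h.conj_inv hn h1
  have h3 : (n : G) * (n * n) * (n : G)⁻¹ = n * n := by group
  rw [h3] at h2
  by_contra h4
  have h5 := order_of_mem h.hP (h.hCP h1) h4
  have h6 : ((n : G) * n) ^ 2 = 1 := by rw [pow_two]; nth_rewrite 1 [h2]; exact inv_mul_cancel _
  have h7 := orderOf_dvd_of_pow_eq_one h6
  rw [h5] at h7
  have := Nat.le_of_dvd (by norm_num) h7
  have := h.h5
  omega

theorem Cfg.conj_mul (h : Cfg B χ) {n : N} (hn : D.κ n = -1) {c : G} (hc : c ∈ C) {φ : G → ℂ}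
    (hφ : IsClassFunction G φ) : φ (n * c) = φ n := by
  set y := c ^ ((p + 1) / 2) with hy
  have hyc : y * y = c := by
    have hodd : p % 2 = 1 := by
      rcases hp.out.eq_two_or_odd with h1 | h1
      · have := h.h5; omega
      · exact h1
    have h1 : c ^ p = 1 := by
      have h2 : (⟨c, h.hCP hc⟩ : P) ^ Nat.card P = 1 := pow_card_eq_one'
      rw [h.hP] at h2
      exact congrArg Subtype.val h2
    rw [hy, ← pow_add]
    have : (p + 1) / 2 + (p + 1) / 2 = p + 1 := by omega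
    rw [this, pow_succ, h1, one_mul]
  have hyC : y ∈ C := C.pow_mem hc _
  have h1 := h.conj_inv hn hyC
  have h2 : (n : G) * c = y⁻¹ * n * (y⁻¹)⁻¹ := by
    rw [← hyc, inv_inv, ← h1]; group
  rw [h2]
  exact hφ _ _

theorem Cfg.card_C (h : Cfg B χ) : Nat.card C = p := by
  have : C = P := le_antisymm h.hCP D.PC
  rw [this, h.hP]

theorem Cfg.sum_C (h : Cfg B χ) (φ : G → ℂ) {a : ℂ} (ha : ∀ g : G, p ∣ orderOf g → φ g = a) :
    ∑ c : C, φ c = φ 1 + (p - 1) * a := by
  classical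
  rw [← Finset.add_sum_erase Finset.univ _ (Finset.mem_univ (1 : C))]
  congr 1
  rw [Finset.sum_congr rfl (g := fun _ => a), Finset.sum_const, Finset.card_erase_of_mem (Finset.mem_univ _),
    Finset.card_univ, ← Nat.card_eq_fintype_card, h.card_C, nsmul_eq_mul, Nat.cast_sub hp.out.one_lt.le, Nat.cast_one]
  intro c hc
  apply ha
  have h1 : (c : G) ≠ 1 := by
    intro h2
    exact (Finset.mem_erase.1 hc).1 (Subtype.ext h2)
  rw [order_of_mem h.hP (h.hCP c.2) h1]

open scoped Classical in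
theorem Cfg.sum_N (h : Cfg B χ) [Fintype N] {w : N} (hw : D.κ w = -1) (φ : N → ℂ) :
    ∑ n : N, φ n = ∑ c : C, φ ⟨c, D.CN c.2⟩ + ∑ c : C, φ (w * ⟨c, D.CN c.2⟩) := by
  rw [← Finset.sum_filter_add_sum_filter_not Finset.univ (fun n : N => D.κ n = 1)]
  have hp2 : (-1 : ZMod p) ≠ 1 := by
    haveI : Fact (2 < p) := ⟨by have := h.h5; omega⟩
    exact ZMod.neg_one_ne_one
  congr 1
  · refine (Finset.sum_bij (fun (c : C) _ => (⟨c, D.CN c.2⟩ : N)) ?_ ?_ ?_ ?_).symm
    · intro c _
      rw [Finset.mem_filter]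
      exact ⟨Finset.mem_univ _, (D.κ_eq _).2 c.2⟩
    · intro a _ b _ hab
      exact Subtype.ext (congrArg (fun x : N => (x : G)) hab)
    · intro n hn
      rw [Finset.mem_filter] at hn
      exact ⟨⟨n, (D.κ_eq n).1 hn.2⟩, Finset.mem_univ _, rfl⟩
    · intro c _; rfl
  · refine (Finset.sum_bij (fun (c : C) _ => w * (⟨c, D.CN c.2⟩ : N)) ?_ ?_ ?_ ?_).symm
    · intro c _
      rw [Finset.mem_filter]
      refine ⟨Finset.mem_univ _, ?_⟩
      rw [D.κ_mul, (D.κ_eq (⟨c, D.CN c.2⟩ : N)).2 c.2, hw, mul_one]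
      exact hp2
    · intro a _ b _ hab
      have h1 := mul_left_cancel hab
      exact Subtype.ext (congrArg (fun x : N => (x : G)) h1)
    · intro n hn
      rw [Finset.mem_filter] at hn
      have h1 : D.κ n = -1 := (h.kappa n).resolve_left hn.2
      have h2 : D.κ (w⁻¹ * n) = 1 := by
        have h3 : D.κ (w * (w⁻¹ * n)) = D.κ n := by rw [mul_inv_cancel_left]
        rw [D.κ_mul, hw, h1] at h3
        linear_combination -h3
      refine ⟨⟨_, (D.κ_eq (w⁻¹ * n)).1 h2⟩, Finset.mem_univ _, ?_⟩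
      apply Subtype.ext
      change (w : G) * ((w⁻¹ * n : N) : G) = n
      push_cast
      group
    · intro c _; rfl

/-- the sign character of `N` -/
noncomputable def Cfg.sgn (h : Cfg B χ) : N →* ℂ where
  toFun n := by classical exact if D.κ n = 1 then 1 else -1
  map_one' := by
    classical
    have : D.κ (1 : N) = 1 := (D.κ_eq 1).2 C.one_mem
    rw [if_pos this]
  map_mul' a b := by
    classical
    have hp2 : (-1 : ZMod p) ≠ 1 := by
      haveI : Fact (2 < p) := ⟨by have := h.h5; omega⟩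
      exact ZMod.neg_one_ne_one
    rw [D.κ_mul]
    rcases h.kappa a with h1 | h1 <;> rcases h.kappa b with h2 | h2 <;> rw [h1, h2] <;> simp [hp2]

theorem Cfg.sgn_one (h : Cfg B χ) {n : N} (hn : (n : G) ∈ C) : h.sgn n = 1 := by
  classical
  change (if D.κ n = 1 then (1 : ℂ) else -1) = 1
  rw [if_pos ((D.κ_eq n).2 hn)]

theorem Cfg.sgn_neg (h : Cfg B χ) {n : N} (hn : D.κ n = -1) : h.sgn n = -1 := by
  classical
  have hp2 : (-1 : ZMod p) ≠ 1 := by
    haveI : Fact (2 < p) := ⟨by have := h.h5; omega⟩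
    exact ZMod.neg_one_ne_one
  change (if D.κ n = 1 then (1 : ℂ) else -1) = -1
  rw [hn, if_neg hp2]

theorem nat_sum {H : Type u} [Group H] [Fintype H] {φ ψ : H → ℂ} (hφ : IsCharacter H φ) (hψ : IsCharacter H ψ)
    (hr : ∀ h, conj (ψ h) = ψ h) : ∃ k : ℕ, ∑ x : H, φ x * ψ x = Fintype.card H * k := by
  obtain ⟨k, hk⟩ := hφ.classInner_nat hψ
  refine ⟨k, ?_⟩
  rw [classInner_def] at hk
  have hG : (Nat.card H : ℂ) ≠ 0 := by exact_mod_cast Nat.card_pos.ne'
  have h1 : ∑ x : H, φ x * conj (ψ x) = Nat.card H * k := by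
    rw [← hk, mul_inv_cancel_left₀ hG]
  rw [← Nat.card_eq_fintype_card, ← h1]
  exact Finset.sum_congr rfl fun x _ => by rw [hr]

/-- `χ` vanishes on the involutions inverting `P` -/
theorem Cfg.val_inv (h : Cfg B χ) (hδ : B.δ χ = -1) (hdeg : charDegree (χ : G → ℂ) = p - 1) {w : N} (hw : D.κ w = -1) :
    (χ : G → ℂ) w = 0 := by
  classical
  letI : Fintype N := Fintype.ofFinite _
  have hχN : IsCharacter N (fun n : N => (χ : G → ℂ) n) := χ.2.isCharacter.restrict N
  have h1 : ∑ n : N, (χ : G → ℂ) n = p * (χ : G → ℂ) w := by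
    rw [h.sum_N hw (fun n => (χ : G → ℂ) n)]
    have h2 := h.sum_C (χ : G → ℂ) (a := -1) (fun g hg => by rw [h.val_sing hg, hδ]; norm_num)
    have h3 : (χ : G → ℂ) 1 = p - 1 := by
      rw [← BlockDeg.charDegree_cast_irr, hdeg, Nat.cast_sub hp.out.one_lt.le, Nat.cast_one]
    rw [h3] at h2
    have h4 : ∑ c : C, (χ : G → ℂ) ((w * ⟨c, D.CN c.2⟩ : N) : G) = p * (χ : G → ℂ) w := by
      rw [Finset.sum_congr rfl (g := fun _ => (χ : G → ℂ) w), Finset.sum_const, Finset.card_univ,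
        ← Nat.card_eq_fintype_card, h.card_C, nsmul_eq_mul]
      intro c _
      exact h.conj_mul hw c.2 χ.2.isClassFunction
    rw [h4]
    change ∑ c : C, (χ : G → ℂ) c + _ = _
    rw [h2]; ring
  have h1' : ∑ n : N, (χ : G → ℂ) n * h.sgn n = - (p * (χ : G → ℂ) w) := by
    rw [h.sum_N hw (fun n => (χ : G → ℂ) n * h.sgn n)]
    have h2 := h.sum_C (χ : G → ℂ) (a := -1) (fun g hg => by rw [h.val_sing hg, hδ]; norm_num)
    have h3 : (χ : G → ℂ) 1 = p - 1 := by
      rw [← BlockDeg.charDegree_cast_irr, hdeg, Nat.cast_sub hp.out.one_lt.le, Nat.cast_one]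
    rw [h3] at h2
    have h4 : ∑ c : C, (χ : G → ℂ) ((w * ⟨c, D.CN c.2⟩ : N) : G) * h.sgn (w * ⟨c, D.CN c.2⟩) = - (p * (χ : G → ℂ) w) := by
      rw [Finset.sum_congr rfl (g := fun _ => -(χ : G → ℂ) w), Finset.sum_const, Finset.card_univ,
        ← Nat.card_eq_fintype_card, h.card_C, nsmul_eq_mul]
      · ring
      intro c _
      have h5 : h.sgn (w * ⟨c, D.CN c.2⟩) = -1 := by
        rw [map_mul, h.sgn_neg hw, h.sgn_one (n := ⟨c, D.CN c.2⟩) c.2, mul_one]
      rw [h5]
      have h6 := h.conj_mul hw c.2 χ.2.isClassFunction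
      change (χ : G → ℂ) ((w : G) * c) * -1 = _
      rw [h6]; ring
    rw [h4]
    have h5 : ∑ c : C, (χ : G → ℂ) ((⟨c, D.CN c.2⟩ : N) : G) * h.sgn ⟨c, D.CN c.2⟩ = ∑ c : C, (χ : G → ℂ) c :=
      Finset.sum_congr rfl fun c _ => by rw [h.sgn_one (n := ⟨c, D.CN c.2⟩) c.2, mul_one]
    rw [h5, h2]; ring
  obtain ⟨k, hk⟩ := nat_sum hχN (isCharacter_one (G := N)) (fun _ => map_one _)
  obtain ⟨k', hk'⟩ := nat_sum hχN (isCharacter_of_hom h.sgn) (fun n => by
    rcases h.kappa n with h6 | h6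
    · rw [h.sgn_one ((D.κ_eq n).1 h6), map_one]
    · rw [h.sgn_neg h6, map_neg, map_one])
  simp only [Pi.one_apply, mul_one] at hk
  rw [h1] at hk
  rw [h1'] at hk'
  have h7 : (Fintype.card N : ℂ) * (k + k' : ℕ) = 0 := by
    push_cast
    linear_combination -hk - hk'
  have h8 : (k + k' : ℕ) = 0 := by
    have h9 : (Fintype.card N : ℂ) ≠ 0 := by exact_mod_cast Fintype.card_ne_zero
    exact_mod_cast (mul_eq_zero.1 h7).resolve_left h9
  have h9 : k = 0 := by omega
  rw [h9, Nat.cast_zero, mul_zero] at hk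
  exact (mul_eq_zero.1 hk).resolve_left (by exact_mod_cast hp.out.ne_zero)

/-! ### the alternating square -/

theorem classInner_triv' (φ : G → ℂ) : classInner φ ((triv G : IrrCharacter G) : G → ℂ) =
    (Fintype.card G : ℂ)⁻¹ * ∑ g : G, φ g := by
  rw [classInner_def, Nat.card_eq_fintype_card]
  congr 1
  refine Finset.sum_congr rfl fun g _ => ?_
  have h1 : ((triv G : IrrCharacter G) : G → ℂ) g = 1 := rfl
  rw [h1, map_one, mul_one]

/-- a character whose restriction to a subgroup has no trivial constituent -/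
theorem mlt_triv_of_restrict {φ : G → ℂ} (hφ : IsCharacter G φ) (H : Subgroup G) [Fintype H]
    (h : ∑ x : H, φ x = 0) : mlt φ (triv G) = 0 := by
  classical
  have h1 := hφ.isClassFunction.expansion
  have h2 : ∀ ψ : IrrCharacter G, ∃ k : ℕ, ∑ x : H, (ψ : G → ℂ) x = Fintype.card H * k := by
    intro ψ
    obtain ⟨k, hk⟩ := nat_sum (ψ.2.isCharacter.restrict H) (isCharacter_one (G := H)) (fun _ => map_one _)
    refine ⟨k, ?_⟩
    rw [← hk]
    exact Finset.sum_congr rfl fun x _ => by rw [Pi.one_apply, mul_one]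
  choose k hk using h2
  have h3 : ∑ x : H, φ x = Fintype.card H * ((∑ ψ : IrrCharacter G, mlt φ ψ * k ψ : ℕ) : ℂ) := by
    have h4 : ∀ x : H, φ x = ∑ ψ : IrrCharacter G, (mlt φ ψ : ℂ) * (ψ : G → ℂ) x := by
      intro x
      conv_lhs => rw [h1]
      rw [Finset.sum_apply]
      refine Finset.sum_congr rfl fun ψ _ => ?_
      rw [Pi.smul_apply, smul_eq_mul, mlt_spec hφ]
    rw [Finset.sum_congr rfl (fun x _ => h4 x), Finset.sum_comm]
    push_cast
    rw [Finset.mul_sum]
    refine Finset.sum_congr rfl fun ψ _ => ?_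
    rw [← Finset.mul_sum, hk]
    ring
  rw [h] at h3
  have h5 : (∑ ψ : IrrCharacter G, mlt φ ψ * k ψ : ℕ) = 0 := by
    have h9 : (Fintype.card H : ℂ) ≠ 0 := by exact_mod_cast Fintype.card_ne_zero
    exact_mod_cast (mul_eq_zero.1 h3.symm).resolve_left h9
  rw [Finset.sum_eq_zero_iff] at h5
  have h6 := h5 (triv G) (Finset.mem_univ _)
  rcases Nat.mul_eq_zero.1 h6 with h7 | h7
  · exact h7
  · exfalso
    have h8 := hk (triv G)
    rw [h7, Nat.cast_zero, mul_zero] at h8
    have h10 : ∑ x : H, ((triv G : IrrCharacter G) : G → ℂ) x = Fintype.card H := by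
      calc ∑ x : H, ((triv G : IrrCharacter G) : G → ℂ) x = ∑ x : H, (1 : ℂ) := rfl
        _ = Fintype.card H := by simp
    rw [h10] at h8
    exact Fintype.card_ne_zero (by exact_mod_cast h8)

theorem Cfg.sq_sing (h : Cfg B χ) {g : G} (hg : p ∣ orderOf g) : p ∣ orderOf (g * g) := by
  rw [← pow_two, orderOf_pow' g (by norm_num)]
  have h2 : Nat.Coprime p 2 := by
    rw [Nat.coprime_primes hp.out Nat.prime_two]; have := h.h5; omega
  obtain ⟨k, hk⟩ := hg
  rw [hk]
  have h3 : Nat.gcd (p * k) 2 = Nat.gcd k 2 := Nat.Coprime.gcd_mul_left_cancel k h2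
  rw [h3, Nat.mul_div_assoc p (Nat.gcd_dvd_left k 2)]
  exact dvd_mul_right _ _

variable (h : Cfg B χ) (hδ : B.δ χ = -1) (hdeg : charDegree (χ : G → ℂ) = p - 1)

include h hδ in
theorem Cfg.s_eq : B.s = -1 := by
  rcases B.s_pm with h1 | h1
  · exfalso
    obtain ⟨q⟩ : Nonempty (Tau D) := inferInstance
    have h3 := h.rel q (g := 1) not_dvd_one
    rw [h1, hδ, ← BlockDeg.charDegree_cast_irr, ← BlockDeg.charDegree_cast_irr] at h3
    have h4 := BlockDeg.charDegree_pos (B.Y q).2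
    have h5 := BlockDeg.charDegree_pos χ.2
    have h6 : ((charDegree (B.Y q : G → ℂ) : ℤ) : ℂ) = ((1 - charDegree (χ : G → ℂ) : ℤ) : ℂ) := by
      push_cast
      push_cast at h3
      linear_combination h3
    have h7 : (charDegree (B.Y q : G → ℂ) : ℤ) = 1 - charDegree (χ : G → ℂ) := by exact_mod_cast h6
    omega
  · exact h1

include h hδ in
theorem Cfg.Y_reg (q : Tau D) {g : G} (hg : ¬ p ∣ orderOf g) : (B.Y q : G → ℂ) g = (χ : G → ℂ) g - 1 := by
  have h1 := h.rel q hg
  rw [h.s_eq hδ, hδ] at h1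
  push_cast at h1
  linear_combination -h1

include h hdeg in
theorem Cfg.one_eq : (χ : G → ℂ) 1 = p - 1 := by
  rw [← BlockDeg.charDegree_cast_irr, hdeg, Nat.cast_sub hp.out.one_lt.le, Nat.cast_one]

include h hδ hdeg in
theorem Cfg.sum_C_eq : ∑ c : C, (χ : G → ℂ) c = 0 := by
  rw [h.sum_C (χ : G → ℂ) (a := -1) (fun g hg => by rw [h.val_sing hg, hδ]; norm_num), h.one_eq hdeg]
  ring

/-- the alternating square of `χ` -/
noncomputable def alt (χ : G → ℂ) : G → ℂ := fun g => (χ g ^ 2 - χ (g * g)) / 2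

include h hδ in
theorem Cfg.alt_sing {g : G} (hg : p ∣ orderOf g) : alt (χ : G → ℂ) g = 1 := by
  rw [alt, h.val_sing hg, h.val_sing (h.sq_sing hg), hδ]
  norm_num

include h hδ hdeg in
theorem Cfg.alt_triv : mlt (alt (χ : G → ℂ)) (triv G) = 0 := by
  classical
  letI : Fintype N := Fintype.ofFinite _
  apply mlt_triv_of_restrict (CharSq.alt χ.2.isCharacter) N
  obtain ⟨w, hw⟩ := h.exists_inv
  change ∑ n : N, alt (χ : G → ℂ) n = 0
  rw [h.sum_N hw (fun n => alt (χ : G → ℂ) n)]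
  have h1 : ∑ c : C, alt (χ : G → ℂ) ((⟨c, D.CN c.2⟩ : N) : G) = p * (p - 1) / 2 := by
    change ∑ c : C, alt (χ : G → ℂ) c = _
    rw [h.sum_C (alt (χ : G → ℂ)) (a := 1) (fun g hg => h.alt_sing hδ hg), alt, mul_one, h.one_eq hdeg]
    ring
  rw [h1, Finset.sum_congr rfl (g := fun _ => -((p : ℂ) - 1) / 2), Finset.sum_const, Finset.card_univ,
    ← Nat.card_eq_fintype_card, h.card_C, nsmul_eq_mul]
  · ring
  · intro c _
    have hκ : D.κ (w * ⟨c, D.CN c.2⟩) = -1 := by
      rw [D.κ_mul, hw, (D.κ_eq (⟨c, D.CN c.2⟩ : N)).2 c.2, mul_one]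
    rw [alt, h.val_inv hδ hdeg hκ, h.sq_eq hκ, h.one_eq hdeg]
    ring

include h hδ hdeg in
theorem Cfg.deg_Y (q : Tau D) : charDegree (B.Y q : G → ℂ) = p - 2 := by
  have h1 := h.Y_reg hδ q (g := 1) not_dvd_one
  rw [← BlockDeg.charDegree_cast_irr, h.one_eq hdeg] at h1
  have h2 : ((charDegree (B.Y q : G → ℂ) + 2 : ℕ) : ℂ) = (p : ℂ) := by
    push_cast
    linear_combination h1
  have h3 : charDegree (B.Y q : G → ℂ) + 2 = p := by exact_mod_cast h2
  omega

include h hδ hdeg in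
/-- the key relation -/
theorem Cfg.alt_reg {g : G} (hg : ¬ p ∣ orderOf g) :
    (χ : G → ℂ) g ^ 2 - (χ : G → ℂ) (g * g) = (p - 1) * ((χ : G → ℂ) g - 1) := by
  classical
  letI : Fintype (Tau D) := Fintype.ofFinite _
  have htau := h.tau
  have ht := h.one_lt_tau
  set t := Nat.card (Tau D) with htd
  have h5 := h.h5
  have hp1 : p = 2 * t + 1 := by omega
  have hLc : IsCharacter G (alt (χ : G → ℂ)) := CharSq.alt χ.2.isCharacter
  have hL1 : alt (χ : G → ℂ) 1 = ((t * (p - 2) : ℕ) : ℂ) := by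
    rw [alt, mul_one, h.one_eq hdeg, Nat.cast_mul, Nat.cast_sub (by omega : 2 ≤ p)]
    have h6 : (p : ℂ) = 2 * t + 1 := by rw [hp1]; push_cast; ring
    rw [h6]
    push_cast
    ring
  have hLt := h.alt_triv hδ hdeg
  have hLq : ∀ q, mlt (alt (χ : G → ℂ)) (B.Y q) = 1 + mlt (alt (χ : G → ℂ)) χ := by
    intro q
    have h3 := h.sum_sing hLc.isClassFunction (fun g hg => h.alt_sing hδ hg) q
    rw [mlt_spec hLc, mlt_spec hLc, mlt_spec hLc, hLt, hδ, h.s_eq hδ] at h3
    have h4 : ((mlt (alt (χ : G → ℂ)) (B.Y q) : ℕ) : ℂ) = ((1 + mlt (alt (χ : G → ℂ)) χ : ℕ) : ℂ) := by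
      push_cast
      push_cast at h3
      linear_combination h3
    exact_mod_cast h4
  have hnm : χ ∉ Finset.univ.image B.Y := by
    rw [Finset.mem_image]; rintro ⟨q, -, hq⟩; exact (h.Y_ne q).2 hq
  have hm : mlt (alt (χ : G → ℂ)) χ = 0 := by
    have h3 := degree_le hLc hL1 (insert χ (Finset.univ.image B.Y))
    rw [Finset.sum_insert hnm, Finset.sum_image (fun q _ q' _ h => B.Yinj h),
      Finset.sum_congr rfl (fun q _ => by rw [h.deg_Y hδ hdeg q, hLq q]), Finset.sum_const, Finset.card_univ,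
      ← Nat.card_eq_fintype_card, ← htd, smul_eq_mul, hdeg] at h3
    by_contra hne'
    have h4 : 1 * (p - 1) ≤ mlt (alt (χ : G → ℂ)) χ * (p - 1) := Nat.mul_le_mul_right _ (by omega)
    have h6 : t * (1 * (p - 2)) ≤ t * ((1 + mlt (alt (χ : G → ℂ)) χ) * (p - 2)) :=
      Nat.mul_le_mul_left _ (Nat.mul_le_mul_right _ (by omega))
    rw [one_mul] at h4 h6
    omega
  have hsat := sat hLc hL1 (Finset.univ.image B.Y) (by
    rw [Finset.sum_image (fun q _ q' _ h => B.Yinj h),
      Finset.sum_congr rfl (fun q _ => by rw [h.deg_Y hδ hdeg q, hLq q, hm]), Finset.sum_const, Finset.card_univ,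
      ← Nat.card_eq_fintype_card, ← htd, smul_eq_mul]
    ring)
  have h3 := congrFun hsat g
  rw [Finset.sum_image (fun q _ q' _ h => B.Yinj h), Finset.sum_apply, Finset.sum_congr rfl (fun q _ => by
      rw [hLq q, hm, Nat.add_zero, Nat.cast_one, one_smul, h.Y_reg hδ q hg]), Finset.sum_const, Finset.card_univ,
      ← Nat.card_eq_fintype_card, ← htd, nsmul_eq_mul, alt] at h3
  have h6 : (p : ℂ) = 2 * t + 1 := by rw [hp1]; push_cast; ring
  rw [h6]
  linear_combination 2 * h3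

/-! ### the values of `χ` -/

omit [Fintype C] in
theorem re_ineq {χ : G → ℂ} (hχ : IsCharacter G χ) (g : G) :
    (χ 1).re - (χ (g * g)).re ≤ 4 * ((χ 1).re - (χ g).re) := by
  obtain ⟨n, μ, h1, h2, h3⟩ := H76Char.exists_eigenvalues hχ g
  have e1 := h2 1
  have e2 := h2 2
  rw [pow_one] at e1
  rw [pow_two] at e2
  rw [h3, e1, e2, Complex.re_sum, Complex.re_sum]
  have h4 : ((n : ℂ)).re = ∑ i : Fin n, (1 : ℝ) := by simp
  rw [h4, ← Finset.sum_sub_distrib, ← Finset.sum_sub_distrib, Finset.mul_sum]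
  refine Finset.sum_le_sum fun i _ => ?_
  have h5 : ‖μ i‖ = 1 := CharValues.norm_eq_one_of_pow_orderOf (h1 i)
  have h6 : (μ i).re ^ 2 + (μ i).im ^ 2 = 1 := by
    have h7 := Complex.sq_norm (μ i)
    rw [h5, Complex.normSq_apply] at h7
    nlinarith
  have h8 : (μ i).re ≤ 1 := by nlinarith [sq_nonneg (μ i).im]
  rw [pow_one, pow_two, Complex.mul_re]
  nlinarith

variable (hf : ∀ g : G, (χ : G → ℂ) g = (χ : G → ℂ) 1 → g = 1)

include h hδ hdeg in
theorem Cfg.int_rel {g : G} (hg : ¬ p ∣ orderOf g) {y y₂ : ℤ} (hy : (χ : G → ℂ) g = y) (hy₂ : (χ : G → ℂ) (g * g) = y₂) :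
    y ^ 2 - y₂ = (p - 1) * (y - 1) := by
  have h1 := h.alt_reg hδ hdeg hg
  rw [hy, hy₂] at h1
  exact_mod_cast h1

include h hdeg in
theorem Cfg.abs_le {g : G} {y : ℤ} (hy : (χ : G → ℂ) g = y) : y ≤ p - 1 := by
  have h1 := H76Ker.norm_le χ.2.isCharacter g (d := p - 1) (by
    rw [h.one_eq hdeg, Nat.cast_sub hp.out.one_lt.le, Nat.cast_one])
  rw [hy, Complex.norm_intCast] at h1
  have h2 : (y : ℝ) ≤ ((p - 1 : ℕ) : ℝ) := (le_abs_self _).trans h1
  have h3 : y ≤ ((p - 1 : ℕ) : ℤ) := by exact_mod_cast h2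
  have := hp.out.one_lt
  omega

omit [Fintype C] in
theorem reg_sq {g : G} (hg : ¬ p ∣ orderOf g) : ¬ p ∣ orderOf (g * g) := by
  intro h1
  apply hg
  refine h1.trans ?_
  rw [← pow_two]
  exact orderOf_pow_dvd 2

include h hδ hdeg in
theorem Cfg.nonneg {g : G} (hg : ¬ p ∣ orderOf g) {y : ℤ} (hy : (χ : G → ℂ) g = y) : 0 ≤ y := by
  obtain ⟨y₂, hy₂⟩ := h.exists_int (g * g)
  have h1 := h.int_rel hδ hdeg hg hy hy₂
  have h2 := h.abs_le hdeg hy₂
  have h3 := h.abs_le hdeg hy
  have h5 : (5 : ℤ) ≤ p := by exact_mod_cast h.h5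
  by_contra hcon
  push Not at hcon
  nlinarith

include hf h hδ hdeg in
theorem Cfg.val_seven (h7 : 7 ≤ p) {g : G} (hg : ¬ p ∣ orderOf g) (hg1 : g ≠ 1) :
    ((χ : G → ℂ) g = 0 ∧ g * g = 1) ∨ ((χ : G → ℂ) g = 1 ∧ (χ : G → ℂ) (g * g) = 1) := by
  obtain ⟨y, hy⟩ := h.exists_int g
  obtain ⟨y₂, hy₂⟩ := h.exists_int (g * g)
  have h1 := h.int_rel hδ hdeg hg hy hy₂
  have h2 := h.abs_le hdeg hy₂
  have h3 := h.abs_le hdeg hy
  have h4 := h.nonneg hδ hdeg hg hy
  have h5 := h.nonneg hδ hdeg (reg_sq hg) hy₂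
  have h7' : (7 : ℤ) ≤ p := by exact_mod_cast h7
  have hne : y ≠ p - 1 := by
    intro h6
    apply hg1
    apply hf
    rw [hy, h.one_eq hdeg, h6]
    push_cast; ring
  have hcase : y = 0 ∨ y = 1 ∨ (2 ≤ y ∧ y ≤ p - 3) ∨ y = p - 2 := by omega
  rcases hcase with h6 | h6 | h6 | h6
  · left
    rw [h6] at h1 hy
    refine ⟨by rw [hy, Int.cast_zero], ?_⟩
    apply hf
    rw [hy₂, h.one_eq hdeg]
    have : y₂ = p - 1 := by linarith
    rw [this]; push_cast; ring
  · right
    rw [h6] at h1 hy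
    refine ⟨by rw [hy, Int.cast_one], ?_⟩
    rw [hy₂]
    have : y₂ = 1 := by linarith
    rw [this, Int.cast_one]
  · exfalso
    have h8 : 0 ≤ (y - 2) * ((p - 3) - y) := mul_nonneg (by omega) (by omega)
    nlinarith
  · exfalso
    have h8 : y₂ = 1 := by rw [h6] at h1; linarith
    have h9 := re_ineq χ.2.isCharacter g
    rw [hy, hy₂, h.one_eq hdeg, h8, h6] at h9
    simp at h9
    have h10 : (7 : ℝ) ≤ p := by exact_mod_cast h7
    linarith

/-! ### moments -/

include h in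
theorem Cfg.conj_eq (g : G) : conj ((χ : G → ℂ) g) = (χ : G → ℂ) g := by
  obtain ⟨y, hy⟩ := h.exists_int g
  rw [hy, map_intCast]

include h in
theorem Cfg.sum_zero : ∑ g : G, (χ : G → ℂ) g = 0 := by
  classical
  have h1 := irr_orthonormal χ (triv G)
  rw [if_neg h.ne, classInner_triv'] at h1
  have h2 : ((Fintype.card G : ℂ)⁻¹) ≠ 0 := inv_ne_zero (by exact_mod_cast Fintype.card_ne_zero)
  exact (mul_eq_zero.1 h1).resolve_left h2

include h in
theorem Cfg.sum_sq : ∑ g : G, (χ : G → ℂ) g ^ 2 = Fintype.card G := by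
  classical
  have h1 := irr_orthonormal χ χ
  rw [if_pos rfl, classInner_def, Nat.card_eq_fintype_card] at h1
  have hG : (Fintype.card G : ℂ) ≠ 0 := by exact_mod_cast Fintype.card_ne_zero
  have h2 : ∑ g : G, (χ : G → ℂ) g * conj ((χ : G → ℂ) g) = Fintype.card G := by
    rw [← mul_inv_cancel_left₀ hG (∑ g : G, (χ : G → ℂ) g * conj ((χ : G → ℂ) g)), h1, mul_one]
  rw [← h2]
  exact Finset.sum_congr rfl fun g _ => by rw [h.conj_eq, pow_two]

include h hδ hdeg in
theorem Cfg.sum_sq' : ∑ g : G, (χ : G → ℂ) (g * g) = Fintype.card G := by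
  classical
  have h1 := h.alt_triv hδ hdeg
  have h2 := mlt_spec (CharSq.alt χ.2.isCharacter) (triv G)
  change classInner (alt (χ : G → ℂ)) _ = mlt (alt (χ : G → ℂ)) (triv G) at h2
  rw [h1, classInner_triv', Nat.cast_zero] at h2
  have h3 : ((Fintype.card G : ℂ)⁻¹) ≠ 0 := inv_ne_zero (by exact_mod_cast Fintype.card_ne_zero)
  have h4 := (mul_eq_zero.1 h2).resolve_left h3
  simp only [alt] at h4
  rw [← Finset.sum_div, Finset.sum_sub_distrib, h.sum_sq] at h4
  have h5 : (Fintype.card G : ℂ) - ∑ g : G, (χ : G → ℂ) (g * g) = 0 := by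
    have := (div_eq_zero_iff.1 h4).resolve_right (by norm_num)
    exact this
  linear_combination -h5

include hf h hδ hdeg in
theorem Cfg.count_seven (h7 : 7 ≤ p) : Nat.card {g : G // (χ : G → ℂ) g = 0} = p * (p - 2) ∧
    Nat.card G = (p - 1) * (p * (p - 2)) := by
  classical
  have h5 := h.h5
  set S := Finset.univ.filter (fun g : G => (χ : G → ℂ) g = 0) with hS
  have hScard : Nat.card {g : G // (χ : G → ℂ) g = 0} = S.card := by
    rw [Nat.card_eq_fintype_card, Fintype.card_subtype]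
  have hp1 : (p : ℂ) - 1 ≠ 0 := by
    have : ((p - 1 : ℕ) : ℂ) ≠ 0 := by exact_mod_cast (by omega : p - 1 ≠ 0)
    rwa [Nat.cast_sub hp.out.one_lt.le, Nat.cast_one] at this
  have h1S : (1 : G) ∉ S := by
    rw [hS, Finset.mem_filter, h.one_eq hdeg]
    exact fun hh => hp1 hh.2
  have hN : (S.card : ℂ) = p * (p - 2) := by
    have h4 : ∑ g : G, ((χ : G → ℂ) g ^ 2 - 1) = 0 := by
      rw [Finset.sum_sub_distrib, h.sum_sq]; simp
    have h6 : ∀ g : G, ((χ : G → ℂ) g ^ 2 - 1) = (if g = 1 then ((p : ℂ) - 1) ^ 2 - 1 else 0) + (if g ∈ S then -1 else 0) := by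
      intro g
      by_cases hg : g = 1
      · subst hg
        rw [if_pos rfl, if_neg h1S, h.one_eq hdeg]
        ring
      · rw [if_neg hg, zero_add]
        by_cases hgp : p ∣ orderOf g
        · have h7 : (χ : G → ℂ) g = -1 := by rw [h.val_sing hgp, hδ]; norm_num
          have : g ∉ S := by rw [hS, Finset.mem_filter, h7]; simp
          rw [if_neg this, h7]; norm_num
        · rcases h.val_seven hδ hdeg hf h7 hgp hg with ⟨h7, h8⟩ | ⟨h7, h8⟩
          · have : g ∈ S := by rw [hS, Finset.mem_filter, h7]; simp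
            rw [if_pos this, h7]; norm_num
          · have : g ∉ S := by rw [hS, Finset.mem_filter, h7]; simp
            rw [if_neg this, h7]; norm_num
    rw [Finset.sum_congr rfl (fun g _ => h6 g), Finset.sum_add_distrib, Finset.sum_ite_eq' Finset.univ (1 : G),
      if_pos (Finset.mem_univ _), Finset.sum_ite_mem, Finset.univ_inter, Finset.sum_const, nsmul_eq_mul] at h4
    linear_combination -h4
  have hN2 : (p - 1 : ℂ) * S.card = Fintype.card G := by
    have h4 : ∑ g : G, ((χ : G → ℂ) (g * g) - (χ : G → ℂ) g) = Fintype.card G := by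
      rw [Finset.sum_sub_distrib, h.sum_sq' hδ hdeg, h.sum_zero, sub_zero]
    have h6 : ∀ g : G, ((χ : G → ℂ) (g * g) - (χ : G → ℂ) g) = (if g ∈ S then (p - 1 : ℂ) else 0) := by
      intro g
      by_cases hg : g = 1
      · subst hg
        rw [if_neg h1S, mul_one, sub_self]
      · by_cases hgp : p ∣ orderOf g
        · have h7 : (χ : G → ℂ) g = -1 := by rw [h.val_sing hgp, hδ]; norm_num
          have : g ∉ S := by rw [hS, Finset.mem_filter, h7]; simp
          rw [if_neg this, h7, h.val_sing (h.sq_sing hgp), hδ]; norm_num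
        · rcases h.val_seven hδ hdeg hf h7 hgp hg with ⟨h7, h8⟩ | ⟨h7, h8⟩
          · have : g ∈ S := by rw [hS, Finset.mem_filter, h7]; simp
            rw [if_pos this, h7, h8, h.one_eq hdeg, sub_zero]
          · have : g ∉ S := by rw [hS, Finset.mem_filter, h7]; simp
            rw [if_neg this, h7, h8, sub_self]
    rw [Finset.sum_congr rfl (fun g _ => h6 g), Finset.sum_ite_mem, Finset.univ_inter, Finset.sum_const,
      nsmul_eq_mul] at h4
    rw [← h4]; ring
  have hN' : S.card = p * (p - 2) := by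
    have h4 : (S.card : ℂ) = ((p * (p - 2) : ℕ) : ℂ) := by
      rw [hN, Nat.cast_mul, Nat.cast_sub (by omega)]; push_cast; ring
    exact_mod_cast h4
  refine ⟨by rw [hScard, hN'], ?_⟩
  have h4 : (Nat.card G : ℂ) = (((p - 1) * (p * (p - 2)) : ℕ) : ℂ) := by
    have e1 : ((p - 1 : ℕ) : ℂ) = p - 1 := by rw [Nat.cast_sub (by omega)]; push_cast; ring
    rw [Nat.card_eq_fintype_card, ← hN2, hN', Nat.cast_mul (p - 1), e1]
  exact_mod_cast h4

/-! ### the case `p = 5` -/

include hf h hδ hdeg in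
theorem Cfg.val_five (h5 : p = 5) {g : G} (hg : ¬ p ∣ orderOf g) (hg1 : g ≠ 1) :
    (χ : G → ℂ) g = 0 ∨ (χ : G → ℂ) g = 1 ∨ (χ : G → ℂ) g = 2 ∨ (χ : G → ℂ) g = 3 := by
  obtain ⟨y, hy⟩ := h.exists_int g
  have h3 := h.abs_le hdeg hy
  have h4 := h.nonneg hδ hdeg hg hy
  have h5' : (p : ℤ) = 5 := by exact_mod_cast h5
  have hne : y ≠ 4 := by
    intro h6
    apply hg1
    apply hf
    rw [hy, h.one_eq hdeg, h6, h5]
    norm_num
  have hcase : y = 0 ∨ y = 1 ∨ y = 2 ∨ y = 3 := by omega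
  rcases hcase with h6 | h6 | h6 | h6 <;> rw [hy, h6] <;> norm_num

include hf h hδ hdeg in
theorem Cfg.card_five (h5 : p = 5) : Nat.card G = 60 := by
  classical
  have hG0 : (Fintype.card G : ℂ) ≠ 0 := by exact_mod_cast Fintype.card_ne_zero
  have h1 : (χ : G → ℂ) 1 = 4 := by rw [h.one_eq hdeg, h5]; norm_num
  set S := Finset.univ.filter (fun g : G => p ∣ orderOf g) with hS
  have hrel : ∀ g : G, ¬ p ∣ orderOf g → (χ : G → ℂ) (g * g) = (χ : G → ℂ) g ^ 2 - 4 * (χ : G → ℂ) g + 4 := by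
    intro g hg
    have h2 := h.alt_reg hδ hdeg hg
    rw [h5] at h2
    push_cast at h2
    linear_combination -h2
  -- number of singular elements
  have hNs : (10 : ℂ) * S.card = 4 * Fintype.card G := by
    have h4 : ∑ g : G, ((χ : G → ℂ) (g * g) - (χ : G → ℂ) g ^ 2 + 4 * (χ : G → ℂ) g - 4) = - (4 * (Fintype.card G : ℂ)) := by
      rw [Finset.sum_sub_distrib, Finset.sum_add_distrib, Finset.sum_sub_distrib, h.sum_sq' hδ hdeg, h.sum_sq,
        ← Finset.mul_sum, h.sum_zero]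
      simp
      ring
    have h6 : ∀ g : G, ((χ : G → ℂ) (g * g) - (χ : G → ℂ) g ^ 2 + 4 * (χ : G → ℂ) g - 4) = if g ∈ S then (-10 : ℂ) else 0 := by
      intro g
      by_cases hgp : p ∣ orderOf g
      · have : g ∈ S := by rw [hS, Finset.mem_filter]; exact ⟨Finset.mem_univ _, hgp⟩
        rw [if_pos this, h.val_sing hgp, h.val_sing (h.sq_sing hgp), hδ]; norm_num
      · have : g ∉ S := by rw [hS, Finset.mem_filter]; exact fun hh => hgp hh.2
        rw [if_neg this, hrel g hgp]; ring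
    rw [Finset.sum_congr rfl (fun g _ => h6 g), Finset.sum_ite_mem, Finset.univ_inter, Finset.sum_const,
      nsmul_eq_mul] at h4
    linear_combination -h4
  -- the character of degree `5`
  have hsym := CharSq.sym χ.2.isCharacter
  set a : G → ℂ := fun g => ((χ : G → ℂ) g ^ 2 + (χ : G → ℂ) (g * g)) / 2 with ha
  have hb : IsCharacter G ((χ : G → ℂ) + 1) := χ.2.isCharacter.add isCharacter_one
  obtain ⟨k, hk⟩ : ∃ k : ℤ, classInner (a - ((χ : G → ℂ) + 1)) (a - ((χ : G → ℂ) + 1)) = k := by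
    obtain ⟨k1, hk1⟩ := hsym.classInner_nat hsym
    obtain ⟨k2, hk2⟩ := hsym.classInner_nat hb
    obtain ⟨k3, hk3⟩ := hb.classInner_nat hsym
    obtain ⟨k4, hk4⟩ := hb.classInner_nat hb
    refine ⟨k1 - k2 - (k3 - k4), ?_⟩
    rw [classInner_sub_left, classInner_sub_right, classInner_sub_right, hk1, hk2, hk3, hk4]
    push_cast
    ring
  have hval : ∀ g : G, (a - ((χ : G → ℂ) + 1)) g * conj ((a - ((χ : G → ℂ) + 1)) g) =
      1 + (if g = 1 then 24 else 0) + (if g ∈ S then (-1 : ℂ) else 0) := by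
    intro g
    have hconj : conj ((a - ((χ : G → ℂ) + 1)) g) = (a - ((χ : G → ℂ) + 1)) g := by
      simp only [ha, Pi.sub_apply, Pi.add_apply, Pi.one_apply, map_sub, map_add, map_one, map_div₀, map_pow, h.conj_eq]
      congr 2
      exact map_ofNat _ 2
    rw [hconj]
    by_cases hg : g = 1
    · subst hg
      have : (1 : G) ∉ S := by rw [hS, Finset.mem_filter]; exact fun hh => not_dvd_one hh.2
      rw [if_pos rfl, if_neg this]
      simp only [ha, Pi.sub_apply, Pi.add_apply, Pi.one_apply, mul_one, h1]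
      norm_num
    · rw [if_neg hg]
      by_cases hgp : p ∣ orderOf g
      · have : g ∈ S := by rw [hS, Finset.mem_filter]; exact ⟨Finset.mem_univ _, hgp⟩
        rw [if_pos this]
        simp only [ha, Pi.sub_apply, Pi.add_apply, Pi.one_apply]
        rw [h.val_sing hgp, h.val_sing (h.sq_sing hgp), hδ]; norm_num
      · have : g ∉ S := by rw [hS, Finset.mem_filter]; exact fun hh => hgp hh.2
        rw [if_neg this]
        simp only [ha, Pi.sub_apply, Pi.add_apply, Pi.one_apply]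
        rw [hrel g hgp]
        rcases h.val_five hδ hdeg hf h5 hgp hg with h7 | h7 | h7 | h7 <;> rw [h7] <;> norm_num
  rw [classInner_def, Finset.sum_congr rfl (fun g _ => hval g), Finset.sum_add_distrib, Finset.sum_add_distrib,
    Finset.sum_ite_mem, Finset.univ_inter, Finset.sum_ite_eq' Finset.univ (1 : G), if_pos (Finset.mem_univ _),
    Finset.sum_const, Finset.sum_const, nsmul_eq_mul, nsmul_eq_mul, Finset.card_univ, Nat.card_eq_fintype_card] at hk
  have hk' : (Fintype.card G : ℂ) * (5 * k - 3) = 120 := by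
    have h2 : (Fintype.card G : ℂ) * 1 + 24 + S.card * -1 = Fintype.card G * k := by
      rw [← hk, mul_inv_cancel_left₀ hG0]
    linear_combination (-5) * h2 - (1/2) * hNs
  have hk'' : (Fintype.card G : ℤ) * (5 * k - 3) = 120 := by exact_mod_cast hk'
  -- `16 ≤ |G|`
  have h16 : 16 ≤ Fintype.card G := by
    have h2 := h.sum_sq
    choose y hy using h.exists_int
    have h3 : ((∑ g : G, y g ^ 2 : ℤ) : ℂ) = ((Fintype.card G : ℤ) : ℂ) := by
      push_cast
      rw [← h2]
      exact Finset.sum_congr rfl fun g _ => by rw [hy]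
    have h4 : ∑ g : G, y g ^ 2 = (Fintype.card G : ℤ) := by exact_mod_cast h3
    have h6 : y 1 = 4 := by
      have h7 := hy 1
      rw [h1] at h7
      exact_mod_cast h7.symm
    have h7 : y 1 ^ 2 ≤ ∑ g : G, y g ^ 2 := Finset.single_le_sum (f := fun g => y g ^ 2) (fun g _ => sq_nonneg _) (Finset.mem_univ 1)
    rw [h4, h6] at h7
    have h8 : (16 : ℤ) ≤ Fintype.card G := by linarith
    exact_mod_cast h8
  rw [Nat.card_eq_fintype_card]
  set n := Fintype.card G with hn
  have hn' : (16 : ℤ) ≤ n := by exact_mod_cast h16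
  have hk1 : 0 < 5 * k - 3 := by
    by_contra hcon
    push Not at hcon
    nlinarith
  have hk2 : k < 3 := by
    by_contra hcon
    push Not at hcon
    nlinarith
  have hk3 : k = 1 ∨ k = 2 := by omega
  rcases hk3 with hk3 | hk3
  · rw [hk3] at hk''; omega
  · rw [hk3] at hk''; omega

/-! ### centralisers of involutions, `7 ≤ p` -/

omit [Group G] [Fintype G] [Fintype C] hp in
theorem exists_hom_ne {A : Type u} [Group A] [Finite A] (hA : ∀ a b : A, a * b = b * a)
    {a : A} (ha : a ≠ 1) : ∃ f : A →* ℂˣ, f a ≠ 1 := by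
  let inst : CommGroup A := { (inferInstance : Group A) with mul_comm := hA }
  exact @CommGroup.exists_apply_ne_one_of_hasEnoughRootsOfUnity A ℂ inst _ _ _ a ha

include h in
/-- elements commuting with an involution are regular -/
theorem Cfg.reg_of_comm {t a : G} (ht : orderOf t = 2) (hat : a * t = t * a) : ¬ p ∣ orderOf a := by
  intro ha
  obtain ⟨Q, hQ⟩ := h.hPS
  obtain ⟨z, c, hzc, hc⟩ := DefOneGalois.exists_conj_C (D := D) Q hQ.symm ha
  have hc1 : (c : G) ≠ 1 := by
    intro h1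
    have h2 := sing_of_l c hc
    rw [h1] at h2
    exact not_dvd_one h2
  have h1 : z * t * z⁻¹ ∈ C := by
    rw [D.comm (z * t * z⁻¹) c (h.hCP c.2) hc1, hzc]
    change z * a * z⁻¹ * (z * t * z⁻¹) = z * t * z⁻¹ * (z * a * z⁻¹)
    calc z * a * z⁻¹ * (z * t * z⁻¹) = z * (a * t) * z⁻¹ := by group
      _ = z * (t * a) * z⁻¹ := by rw [hat]
      _ = _ := by group
  have h2 : orderOf (z * t * z⁻¹) = 2 := by
    rw [← ht, ← MulAut.conj_apply]
    exact MulEquiv.orderOf_eq (MulAut.conj z) t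
  have h3 : z * t * z⁻¹ ≠ 1 := by
    intro h4
    rw [h4, orderOf_one] at h2
    omega
  have h4 := order_of_mem h.hP (h.hCP h1) h3
  have := h.h5
  omega

include hf h hδ hdeg in
theorem Cfg.cent_sq (h7 : 7 ≤ p) {t c : G} (ht : orderOf t = 2) (hc : c * t = t * c) : c * c = 1 := by
  classical
  set A := Subgroup.closure ({c, t} : Set G) with hA
  have hcomm : ∀ x ∈ ({c, t} : Set G), ∀ y ∈ ({c, t} : Set G), x * y = y * x := by
    rintro x (rfl | rfl) y (rfl | rfl)
    · rfl
    · exact hc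
    · exact hc.symm
    · rfl
  have hAc : IsMulCommutative A := Subgroup.isMulCommutative_closure hcomm
  have hcA : c ∈ A := Subgroup.subset_closure (by simp)
  have htA : t ∈ A := Subgroup.subset_closure (by simp)
  have htt : t * t = 1 := by rw [← pow_two, ← ht, pow_orderOf_eq_one]
  have ht1 : t ≠ 1 := by intro h1; rw [h1, orderOf_one] at ht; omega
  have hAt : ∀ a ∈ A, a * t = t * a := by
    intro a ha
    have := hAc.is_comm.comm ⟨a, ha⟩ ⟨t, htA⟩
    exact congrArg Subtype.val this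
  have hreg : ∀ a ∈ A, ¬ p ∣ orderOf a := fun a ha => h.reg_of_comm ht (hAt a ha)
  have hval : ∀ a ∈ A, a ≠ 1 → ((χ : G → ℂ) a = if a * a = 1 then 0 else 1) := by
    intro a ha ha1
    rcases h.val_seven hδ hdeg hf h7 (hreg a ha) ha1 with ⟨h1, h2⟩ | ⟨h1, h2⟩
    · rw [if_pos h2, h1]
    · rw [if_neg, h1]
      intro h3
      rw [h3, h.one_eq hdeg] at h2
      have h6 : ((p : ℕ) : ℂ) = ((2 : ℕ) : ℂ) := by push_cast; linear_combination h2
      have : p = 2 := by exact_mod_cast h6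
      omega
  have hone := h.one_eq hdeg
  letI : Fintype A := Fintype.ofFinite _
  -- a linear character
  obtain ⟨lam, hlam⟩ := exists_hom_ne (A := A) (fun a b => hAc.is_comm.comm a b)
    (a := ⟨t, htA⟩) (fun h1 => ht1 (congrArg Subtype.val h1))
  set tA : A := ⟨t, htA⟩ with htAdef
  have htt' : tA * tA = 1 := Subtype.ext htt
  have hlt : (lam tA : ℂ) = -1 := by
    have h1 : (lam tA : ℂ) * (lam tA : ℂ) = 1 := by
      rw [← Units.val_mul, ← map_mul, htt', map_one, Units.val_one]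
    rcases mul_self_eq_one_iff.1 h1 with h2 | h2
    · exact absurd (Units.ext h2) hlam
    · exact h2
  have hχA : IsCharacter A (fun a : A => (χ : G → ℂ) a) := χ.2.isCharacter.restrict A
  have hcard : (Nat.card A : ℂ) ≠ 0 := by exact_mod_cast Nat.card_pos.ne'
  obtain ⟨k1, hk1⟩ := hχA.classInner_nat (isCharacter_one (G := A))
  obtain ⟨k2, hk2⟩ := hχA.classInner_nat (isCharacter_of_unitsHom lam)
  rw [classInner_def] at hk1 hk2
  have e1 : ∑ a : A, (χ : G → ℂ) a = Nat.card A * k1 := by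
    rw [← hk1, mul_inv_cancel_left₀ hcard]
    exact Finset.sum_congr rfl fun a _ => by rw [Pi.one_apply, map_one, mul_one]
  have e2 : ∑ a : A, (χ : G → ℂ) a * conj (lam a : ℂ) = Nat.card A * k2 := by
    rw [← hk2, mul_inv_cancel_left₀ hcard]
  have hχt : (χ : G → ℂ) t = 0 := by rw [hval t htA ht1, if_pos htt]
  have e3 : ∑ a : A, (χ : G → ℂ) a * conj (lam a : ℂ) = p - 1 := by
    set f : A → ℂ := fun a => (χ : G → ℂ) a * conj (lam a : ℂ) with hfdef
    have h1 : ∑ a : A, f (a * tA) = ∑ a : A, f a := Equiv.sum_comp (Equiv.mulRight tA) f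
    have h2 : ∑ a : A, (f a + f (a * tA)) = 2 * (p - 1) := by
      have h3 : ∀ a : A, f a + f (a * tA) = (if a = 1 then ((p : ℂ) - 1) else 0) + (if a = tA then ((p : ℂ) - 1) else 0) := by
        intro a
        by_cases ha1 : a = 1
        · subst ha1
          have h4 : (1 : A) ≠ tA := fun h5 => ht1 (congrArg Subtype.val h5).symm
          rw [if_pos rfl, if_neg h4, one_mul]
          simp only [hfdef, OneMemClass.coe_one, map_one, Units.val_one, mul_one, hone]
          rw [show ((tA : A) : G) = t from rfl, hχt]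
          ring
        · by_cases hat : a = tA
          · rw [hat]
            have h4 : tA ≠ 1 := fun h5 => ht1 (congrArg Subtype.val h5)
            rw [if_pos rfl, if_neg h4, htt']
            simp only [hfdef, OneMemClass.coe_one, map_one, Units.val_one, mul_one, hone]
            rw [show ((tA : A) : G) = t from rfl, hχt]
            ring
          · rw [if_neg ha1, if_neg hat]
            have ha1' : (a : G) ≠ 1 := fun h5 => ha1 (Subtype.ext h5)
            have hat1 : (a : G) * t ≠ 1 := by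
              intro h5
              apply hat
              apply Subtype.ext
              change (a : G) = t
              have h6 : (a : G) = t⁻¹ := eq_inv_of_mul_eq_one_left h5
              rw [h6]
              exact inv_eq_of_mul_eq_one_left htt
            have h4 : (χ : G → ℂ) ((a : G) * t) = (χ : G → ℂ) a := by
              rw [hval _ (A.mul_mem a.2 htA) hat1, hval _ a.2 ha1']
              have h5 : (a : G) * t * (a * t) = a * a := by
                calc (a : G) * t * (a * t) = a * (t * a) * t := by group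
                  _ = a * (a * t) * t := by rw [hAt a a.2]
                  _ = a * a * (t * t) := by group
                  _ = a * a := by rw [htt, mul_one]
              rw [h5]
            simp only [hfdef]
            rw [map_mul lam, Units.val_mul, hlt]
            change _ + (χ : G → ℂ) ((a : G) * t) * _ = _
            rw [h4, map_mul, map_neg, map_one]
            ring
      rw [Finset.sum_congr rfl (fun a _ => h3 a), Finset.sum_add_distrib, Finset.sum_ite_eq' Finset.univ,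
        Finset.sum_ite_eq' Finset.univ, if_pos (Finset.mem_univ _), if_pos (Finset.mem_univ _)]
      ring
    rw [Finset.sum_add_distrib, h1] at h2
    linear_combination (1/2) * h2
  set S := Finset.univ.filter (fun a : A => (a : G) * a = 1) with hS
  have e4 : ∑ a : A, (χ : G → ℂ) a = (p - 1) + Nat.card A - S.card := by
    have h3 : ∀ a : A, (χ : G → ℂ) a = (if a = 1 then ((p : ℂ) - 1) else 0) + (1 - (if a ∈ S then 1 else 0)) := by
      intro a
      by_cases ha1 : a = 1
      · subst ha1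
        have : (1 : A) ∈ S := by rw [hS, Finset.mem_filter]; exact ⟨Finset.mem_univ _, by simp⟩
        rw [if_pos rfl, if_pos this, OneMemClass.coe_one, hone]
        ring
      · have ha1' : (a : G) ≠ 1 := fun h5 => ha1 (Subtype.ext h5)
        rw [if_neg ha1, hval _ a.2 ha1']
        by_cases h4 : (a : G) * a = 1
        · have : a ∈ S := by rw [hS, Finset.mem_filter]; exact ⟨Finset.mem_univ _, h4⟩
          rw [if_pos h4, if_pos this]; ring
        · have : a ∉ S := by rw [hS, Finset.mem_filter]; exact fun hh => h4 hh.2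
          rw [if_neg h4, if_neg this]; ring
    rw [Finset.sum_congr rfl (fun a _ => h3 a), Finset.sum_add_distrib, Finset.sum_ite_eq' Finset.univ,
      if_pos (Finset.mem_univ _), Finset.sum_sub_distrib, Finset.sum_ite_mem, Finset.univ_inter, Finset.sum_const,
      Finset.sum_const, nsmul_eq_mul, nsmul_eq_mul, Finset.card_univ, Nat.card_eq_fintype_card]
    ring
  have e5 : (Nat.card A : ℤ) * k2 = p - 1 := by
    have h3 : ((Nat.card A * k2 : ℤ) : ℂ) = ((p - 1 : ℤ) : ℂ) := by push_cast; rw [← e2, e3]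
    exact_mod_cast h3
  have e6 : (Nat.card A : ℤ) * k1 = p - 1 + Nat.card A - S.card := by
    have h3 : ((Nat.card A * k1 : ℤ) : ℂ) = ((p - 1 + Nat.card A - S.card : ℤ) : ℂ) := by push_cast; rw [← e1, e4]
    exact_mod_cast h3
  have e7 : (Nat.card A : ℤ) ∣ S.card := ⟨k2 + 1 - k1, by linear_combination -e5 + e6⟩
  have e8 : Nat.card A ∣ S.card := by exact_mod_cast e7
  have e9 : 0 < S.card := Finset.card_pos.2 ⟨1, by rw [hS, Finset.mem_filter]; exact ⟨Finset.mem_univ _, by simp⟩⟩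
  have e10 : S = Finset.univ := by
    rw [← Finset.card_eq_iff_eq_univ]
    apply le_antisymm (Finset.card_le_univ _)
    rw [← Nat.card_eq_fintype_card]
    exact Nat.le_of_dvd e9 e8
  have e11 : (⟨c, hcA⟩ : A) ∈ S := by rw [e10]; exact Finset.mem_univ _
  rw [hS, Finset.mem_filter] at e11
  exact e11.2

include h hdeg in
theorem Cfg.one_ne : (χ : G → ℂ) 1 ≠ 0 ∧ (χ : G → ℂ) 1 ≠ 1 := by
  have h5 := h.h5
  rw [h.one_eq hdeg]
  constructor
  · intro h1
    have h2 : ((p : ℕ) : ℂ) = ((1 : ℕ) : ℂ) := by push_cast; linear_combination h1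
    have : p = 1 := by exact_mod_cast h2
    omega
  · intro h1
    have h2 : ((p : ℕ) : ℂ) = ((2 : ℕ) : ℂ) := by push_cast; linear_combination h1
    have : p = 2 := by exact_mod_cast h2
    omega

include hf h hδ hdeg in
theorem Cfg.zero_of_ord (h7 : 7 ≤ p) {g : G} (hg : orderOf g = 2) : (χ : G → ℂ) g = 0 := by
  have h1 : g ≠ 1 := by intro h1; rw [h1, orderOf_one] at hg; omega
  have h2 : ¬ p ∣ orderOf g := by
    rw [hg]; intro h3
    have := Nat.le_of_dvd (by norm_num) h3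
    omega
  have h3 : g * g = 1 := by rw [← pow_two, ← hg, pow_orderOf_eq_one]
  rcases h.val_seven hδ hdeg hf h7 h2 h1 with ⟨h4, -⟩ | ⟨-, h4⟩
  · exact h4
  · rw [h3] at h4
    exact absurd h4 (h.one_ne hdeg).2

include hf h hδ hdeg in
theorem Cfg.ord_of_zero (h7 : 7 ≤ p) {g : G} (hg : (χ : G → ℂ) g = 0) : orderOf g = 2 := by
  have h1 : g ≠ 1 := by intro h1; rw [h1] at hg; exact (h.one_ne hdeg).1 hg
  have h2 : ¬ p ∣ orderOf g := by
    intro h3
    rw [h.val_sing h3, hδ] at hg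
    norm_num at hg
  rcases h.val_seven hδ hdeg hf h7 h2 h1 with ⟨-, h4⟩ | ⟨h4, -⟩
  · exact orderOf_eq_prime (by rw [pow_two]; exact h4) h1
  · rw [h4] at hg; exact absurd hg one_ne_zero

include h in
theorem Cfg.exists_invol : ∃ t : G, orderOf t = 2 := by
  obtain ⟨w, hw⟩ := h.exists_inv
  refine ⟨w, orderOf_eq_prime (by rw [pow_two]; exact h.sq_eq hw) ?_⟩
  intro h1
  have h2 : D.κ w = 1 := (D.κ_eq w).2 (by rw [h1]; exact C.one_mem)
  rw [hw] at h2
  haveI : Fact (2 < p) := ⟨by have := h.h5; omega⟩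
  exact ZMod.neg_one_ne_one h2

include hf h hδ hdeg in
/-- structure of `G` for `7 ≤ p` -/
theorem Cfg.seven (h7 : 7 ≤ p) : ∃ T : Sylow 2 G, Nat.card T = p - 1 ∧
    (∀ t : G, orderOf t = 2 → Nat.card (Subgroup.centralizer ({t} : Set G)) = p - 1 ∧
      ∀ c ∈ Subgroup.centralizer ({t} : Set G), c * c = 1) ∧
    (∀ s t : G, orderOf s = 2 → orderOf t = 2 → ∃ g : G, g * s * g⁻¹ = t) := by
  classical
  have h5 := h.h5
  have hodd : p % 2 = 1 := by
    rcases hp.out.eq_two_or_odd with h | h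
    · omega
    · exact h
  obtain ⟨hn1, hG⟩ := h.count_seven hδ hdeg hf h7
  have hcent : ∀ t : G, orderOf t = 2 → ∀ c ∈ Subgroup.centralizer ({t} : Set G), c * c = 1 := by
    intro t ht c hc
    rw [Subgroup.mem_centralizer_singleton_iff] at hc
    first
      | exact h.cent_sq hδ hdeg hf h7 ht hc
      | exact h.cent_sq hδ hdeg hf h7 ht hc.symm
  have key : ∀ t : G, orderOf t = 2 → ∃ T : Sylow 2 G, Subgroup.centralizer ({t} : Set G) = T ∧ Nat.card T = p - 1 ∧
      (Subgroup.centralizer ({t} : Set G)).index = p * (p - 2) := by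
    intro t ht2
    set Ct := Subgroup.centralizer ({t} : Set G) with hCt
    have hCt2 : IsPGroup 2 Ct := by
      intro c
      exact ⟨1, Subtype.ext (by rw [Subgroup.coe_pow, pow_one, pow_two]; exact hcent t ht2 c c.2)⟩
    have hidx : Ct.index ≤ p * (p - 2) := by
      rw [← hn1, Subgroup.index]
      have hmap : ∀ g : G, (χ : G → ℂ) (g * t * g⁻¹) = 0 := by
        intro g
        apply h.zero_of_ord hδ hdeg hf h7
        have h1 : orderOf (MulAut.conj g t) = orderOf t := MulEquiv.orderOf_eq _ _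
        rw [MulAut.conj_apply] at h1
        rw [h1, ht2]
      have h1 : Function.Injective (fun q : G ⧸ Ct => (⟨q.out * t * q.out⁻¹, hmap q.out⟩ : {g : G // (χ : G → ℂ) g = 0})) := by
        intro q q' hq
        have h2 : q.out * t * q.out⁻¹ = q'.out * t * q'.out⁻¹ := congrArg Subtype.val hq
        rw [← QuotientGroup.out_eq' q, ← QuotientGroup.out_eq' q', QuotientGroup.eq]
        refine Subgroup.mem_centralizer_singleton_iff.2 ?_
        have h3 : t = q.out⁻¹ * (q.out * t * q.out⁻¹) * q.out := by group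
        conv_rhs => rw [h3, h2]
        group
      exact Nat.card_le_card_of_injective _ h1
    have hCtcard : p - 1 ≤ Nat.card Ct := by
      have h1 := Ct.card_mul_index
      rw [hG] at h1
      have h2 : Nat.card Ct * Ct.index ≤ Nat.card Ct * (p * (p - 2)) := Nat.mul_le_mul_left _ hidx
      rw [h1] at h2
      exact Nat.le_of_mul_le_mul_right h2 (Nat.mul_pos hp.out.pos (by omega))
    obtain ⟨T, hT⟩ := hCt2.exists_le_sylow
    have hTle : Nat.card T ≤ p - 1 := by
      obtain ⟨k, hk⟩ := IsPGroup.iff_card.1 T.isPGroup'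
      have h1 : Nat.card T ∣ (p - 1) * (p * (p - 2)) := by
        rw [← hG]; exact Subgroup.card_subgroup_dvd_card _
      have h2 : Nat.Coprime (Nat.card T) (p * (p - 2)) := by
        rw [hk]
        apply Nat.Coprime.pow_left
        rw [Nat.prime_two.coprime_iff_not_dvd]
        intro h3
        rcases Nat.prime_two.dvd_mul.1 h3 with h4 | h4 <;> omega
      exact Nat.le_of_dvd (by omega) (h2.dvd_of_dvd_mul_right h1)
    have hTC : Ct = T := Subgroup.eq_of_le_of_card_ge hT (hTle.trans hCtcard)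
    have hTcard : Nat.card T = p - 1 := by
      apply le_antisymm hTle
      rw [← hTC]
      exact hCtcard
    refine ⟨T, hTC, hTcard, ?_⟩
    have h1 := Ct.card_mul_index
    rw [hG, hTC] at h1
    change Nat.card T * _ = _ at h1
    rw [hTcard] at h1
    rw [hTC]
    exact Nat.eq_of_mul_eq_mul_left (by omega) h1
  obtain ⟨t, ht⟩ := h.exists_invol
  obtain ⟨T, hT1, hT2, hT3⟩ := key t ht
  refine ⟨T, hT2, ?_, ?_⟩
  · intro s hs
    obtain ⟨T', h1, h2, -⟩ := key s hs
    refine ⟨?_, hcent s hs⟩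
    rw [h1]; exact h2
  · intro s r hs hr
    obtain ⟨-, -, -, h3⟩ := key s hs
    -- the map from cosets to involutions is bijective
    have hmap : ∀ g : G, (χ : G → ℂ) (g * s * g⁻¹) = 0 := by
      intro g
      apply h.zero_of_ord hδ hdeg hf h7
      have h1 : orderOf (MulAut.conj g s) = orderOf s := MulEquiv.orderOf_eq _ _
      rw [MulAut.conj_apply] at h1
      rw [h1, hs]
    set Cs := Subgroup.centralizer ({s} : Set G) with hCs
    have h1 : Function.Injective (fun q : G ⧸ Cs => (⟨q.out * s * q.out⁻¹, hmap q.out⟩ : {g : G // (χ : G → ℂ) g = 0})) := by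
      intro q q' hq
      have h2 : q.out * s * q.out⁻¹ = q'.out * s * q'.out⁻¹ := congrArg Subtype.val hq
      rw [← QuotientGroup.out_eq' q, ← QuotientGroup.out_eq' q', QuotientGroup.eq]
      refine Subgroup.mem_centralizer_singleton_iff.2 ?_
      have h3 : s = q.out⁻¹ * (q.out * s * q.out⁻¹) * q.out := by group
      conv_rhs => rw [h3, h2]
      group
    have h2 : Function.Bijective (fun q : G ⧸ Cs => (⟨q.out * s * q.out⁻¹, hmap q.out⟩ : {g : G // (χ : G → ℂ) g = 0})) :=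
      (Nat.bijective_iff_injective_and_card _).2 ⟨h1, by rw [hn1, ← h3, Subgroup.index]⟩
    obtain ⟨q, hq⟩ := h2.2 ⟨r, h.zero_of_ord hδ hdeg hf h7 hr⟩
    exact ⟨q.out, congrArg Subtype.val hq⟩

end Cfsg.Agent.Lib.H15RealP
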