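import Mathlib
import Cfsg.Agent.Lib.H15RealP
import Cfsg.Agent.Lib.SmallSimple
import Cfsg.Agent.Lib.ClSmall

set_option autoImplicit false
set_option linter.all false

/-!
# Permutation groups of degree `2p` with a Sylow normaliser of order `2p`
-/

namespace Cfsg.Agent.Lib.H15Deg2p

open Cfsg Cfsg.Agent.Lib.BlockRing Cfsg.Agent.Lib.BlockGA Cfsg.Agent.Lib.BlockIdem
open Cfsg.Agent.Lib.DefOneLoc Cfsg.Agent.Lib.DefOneOrd Cfsg.Agent.Lib.CharBasic Cfsg.Agent.Lib.DefOneGram
open Cfsg.Agent.Lib.DefOne Cfsg.Agent.Lib.BlockThird Cfsg.Agent.Lib.DefOnePrin Cfsg.Agent.Lib.BRB0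
open Cfsg.Agent.Lib.BRNum Cfsg.Agent.Lib.BRDeg Cfsg.Agent.Lib.BRCore Cfsg.Agent.Lib.BROne Cfsg.Agent.Lib.BRInd
open Cfsg.Agent.Lib.BRPerm Cfsg.Agent.Lib.H15RealP
open scoped ComplexConjugate

universe u v

section simple

variable {G : Type u} [Group G] [Fintype G] {p : ℕ} [hp : Fact p.Prime]

theorem card_P (h5 : 5 ≤ p) (P : Sylow p G)
    (hN : Nat.card (Subgroup.normalizer ((P : Subgroup G) : Set G)) = 2 * p) : Nat.card P = p := by
  have h1 : Nat.card P ∣ 2 * p := by
    rw [← hN]
    exact Subgroup.card_dvd_of_le Subgroup.le_normalizer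
  have h2 : p ∣ Nat.card G := (dvd_mul_left p 2).trans (by rw [← hN]; exact Subgroup.card_subgroup_dvd_card _)
  obtain ⟨k, hk⟩ := IsPGroup.iff_card.1 P.isPGroup'
  have hk1 : k ≠ 0 := by
    intro h
    rw [h, pow_zero] at hk
    exact P.ne_bot_of_dvd_card h2 (Subgroup.card_eq_one.1 hk)
  have hk2 : k < 2 := by
    by_contra hcon
    have h3 : p ^ 2 ∣ 2 * p := by
      refine (pow_dvd_pow p (not_lt.1 hcon)).trans ?_
      rw [← hk]; exact h1
    rw [pow_two] at h3
    have h4 := Nat.dvd_of_mul_dvd_mul_right hp.out.pos h3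
    have := Nat.le_of_dvd (by norm_num) h4
    omega
  have : k = 1 := by omega
  rw [hk, this, pow_one]

theorem exists_cfg_simple [IsSimpleGroup G] (hG : ¬ IsMulCommutative G) (h5 : 5 ≤ p) (P : Sylow p G)
    (hN : Nat.card (Subgroup.normalizer ((P : Subgroup G) : Set G)) = 2 * p) :
    ∃ (D : Loc p (P : Subgroup G) (Subgroup.normalizer ((P : Subgroup G) : Set G))
      (Subgroup.centralizer ((P : Subgroup G) : Set G)))
      (hC : Fintype (Subgroup.centralizer ((P : Subgroup G) : Set G))) (B : B0 D) (χ : IrrCharacter G), Cfg B χ := by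
  classical
  have hP := card_P h5 P hN
  obtain ⟨D, hC, ⟨B⟩⟩ := exists_B0 P hP
  have hpG : p ∣ Nat.card G := (dvd_mul_left p 2).trans (by rw [← hN]; exact Subgroup.card_subgroup_dvd_card _)
  have hcard : Nat.card (Subgroup.centralizer ((P : Subgroup G) : Set G)) = p := by
    have h1 : p ∣ Nat.card (Subgroup.centralizer ((P : Subgroup G) : Set G)) := by
      have h0 := Subgroup.card_dvd_of_le D.PC
      rwa [hP] at h0
    have h2 : Nat.card (Subgroup.centralizer ((P : Subgroup G) : Set G)) ∣ 2 * p := by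
      rw [← hN]; exact Subgroup.card_dvd_of_le D.CN
    obtain ⟨k, hk⟩ := h1
    rw [hk, mul_comm p k] at h2
    have h3 := Nat.dvd_of_mul_dvd_mul_right hp.out.pos h2
    rcases (Nat.dvd_prime Nat.prime_two).1 h3 with h4 | h4
    · rw [hk, h4, mul_one]
    · exfalso
      apply SmallSimple.not_normalizer_le_centralizer hG hpG P
      apply le_of_eq
      symm
      apply Subgroup.eq_of_le_of_card_ge D.CN
      rw [hk, hN, h4, mul_comm]
  have hCP : Subgroup.centralizer ((P : Subgroup G) : Set G) = (P : Subgroup G) := by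
    symm
    apply Subgroup.eq_of_le_of_card_ge D.PC
    rw [hcard]; exact hP.ge
  have he : Nat.card (κu D).range = 2 := by
    rw [card_range]
    have h1 := Subgroup.relIndex_mul_relIndex ⊥ _ _ bot_le D.CN
    rw [Subgroup.relIndex_bot_left, Subgroup.relIndex_bot_left, hN, hcard, mul_comm] at h1
    exact Nat.eq_of_mul_eq_mul_right hp.out.pos h1
  obtain ⟨χ, hχ⟩ := H15RealP.exists_cfg B h5 hP hCP.le he ⟨P, rfl⟩
  exact ⟨D, hC, B, χ, hχ⟩

theorem perfect [IsSimpleGroup G] (hG : ¬ IsMulCommutative G) : commutator G = ⊤ := by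
  rcases IsSimpleGroup.eq_bot_or_eq_top_of_normal (commutator G) inferInstance with h | h
  · exfalso
    apply hG
    refine ⟨⟨fun a b => ?_⟩⟩
    rw [commutator_def, Subgroup.commutator_eq_bot_iff_le_centralizer] at h
    exact (Subgroup.mem_centralizer_iff.1 (h (Subgroup.mem_top a)) b (Subgroup.mem_top b)).symm
  · exact h

/-- a nontrivial irreducible character of a nonabelian simple group is faithful -/
theorem faithful [IsSimpleGroup G] (hG : ¬ IsMulCommutative G) {χ : IrrCharacter G} (hne : χ ≠ triv G) :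
    ∀ g : G, (χ : G → ℂ) g = (χ : G → ℂ) 1 → g = 1 := by
  obtain ⟨K, hKn, hK⟩ := FrobThm.exists_charKer χ.2.isCharacter
  rcases IsSimpleGroup.eq_bot_or_eq_top_of_normal K hKn with h | h
  · intro g hg
    rw [← hK, h] at hg
    exact hg
  · exfalso
    have h1 := irr_orthonormal χ (triv G)
    rw [if_neg hne, BRPerm.classInner_triv] at h1
    have h2 : ∀ g : G, (χ : G → ℂ) g = (χ : G → ℂ) 1 := fun g => (hK g).1 (by rw [h]; trivial)
    rw [Finset.sum_congr rfl (fun g _ => h2 g), Finset.sum_const, Finset.card_univ, nsmul_eq_mul,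
      inv_mul_cancel_left₀ (by exact_mod_cast Fintype.card_ne_zero)] at h1
    exact χ.2.one_ne_zero h1

end simple

section perm

variable {G : Type u} [Group G] [Fintype G] {p : ℕ} [hp : Fact p.Prime]
variable {α : Type v} [MulAction G α] [Fintype α] [FaithfulSMul G α]

omit [FaithfulSMul G α] in
/-- elements of order divisible by `p` have no fixed points -/
theorem free_sing [MulAction.IsPretransitive G α] (hpα : p ∣ Nat.card α) (hsq : ¬ p ^ 2 ∣ Nat.card G) {x : G}
    (hx : p ∣ orderOf x) (a : α) : x • a ≠ a := by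
  intro h
  apply hsq
  have h1 : x ∈ MulAction.stabilizer G a := h
  have h2 : p ∣ Nat.card (MulAction.stabilizer G a) := by
    refine hx.trans ?_
    have h3 : orderOf (⟨x, h1⟩ : MulAction.stabilizer G a) = orderOf x := Subgroup.orderOf_mk x h1
    rw [← h3]
    exact orderOf_dvd_natCard _
  have h4 := (MulAction.stabilizer G a).card_mul_index
  rw [MulAction.index_stabilizer_of_transitive] at h4
  rw [← h4, pow_two]
  exact Nat.mul_dvd_mul h2 hpα

omit [FaithfulSMul G α] in
theorem pi_sing' [MulAction.IsPretransitive G α] (hpα : p ∣ Nat.card α) (hsq : ¬ p ^ 2 ∣ Nat.card G) {x : G}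
    (hx : p ∣ orderOf x) : pi α x = 0 := by
  rw [pi]
  have : IsEmpty (MulAction.fixedBy α x) := ⟨fun a => free_sing hpα hsq hx a.1 a.2⟩
  rw [Nat.card_of_isEmpty, Nat.cast_zero]

omit [FaithfulSMul G α] in
theorem pi_one' {n : ℕ} (hα : Nat.card α = n) : pi α (1 : G) = n := by
  rw [pi, MulAction.fixedBy_one_eq_univ, Nat.card_congr (Equiv.Set.univ α), hα]

omit [FaithfulSMul G α] in
/-- if the permutation character has norm two, the action is doubly transitive -/
theorem two_trans (h : ∑ g : G, pi α g ^ 2 = 2 * Fintype.card G) (hα : 2 ≤ Nat.card α) :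
    MulAction.IsMultiplyPretransitive G α 2 := by
  classical
  have h1 := MulAction.sum_card_fixedBy_eq_card_orbits_mul_card_group G (α × α)
  have h2 : ∀ g : G, Fintype.card (MulAction.fixedBy (α × α) g) = Nat.card (MulAction.fixedBy α g) ^ 2 := by
    intro g
    rw [pow_two, ← Nat.card_prod, ← Nat.card_eq_fintype_card]
    refine Nat.card_congr
      { toFun := fun x => (⟨x.1.1, congrArg Prod.fst x.2⟩, ⟨x.1.2, congrArg Prod.snd x.2⟩)
        invFun := fun x => ⟨(x.1.1, x.2.1), Prod.ext x.1.2 x.2.2⟩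
        left_inv := fun _ => rfl
        right_inv := fun _ => rfl }
  have h3 : Fintype.card (MulAction.orbitRel.Quotient G (α × α)) = 2 := by
    rw [Finset.sum_congr rfl (fun g _ => h2 g)] at h1
    have h4 : ((∑ g : G, Nat.card (MulAction.fixedBy α g) ^ 2 : ℕ) : ℂ) = 2 * Fintype.card G := by
      push_cast
      exact h
    rw [h1] at h4
    push_cast at h4
    have h6 : (Fintype.card G : ℂ) ≠ 0 := by exact_mod_cast Fintype.card_ne_zero
    have h7 := mul_right_cancel₀ h6 h4
    exact_mod_cast h7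
  rw [MulAction.is_two_pretransitive_iff]
  intro a b c d hab hcd
  have hne : ∀ x y z : α, x ≠ y → (Quotient.mk'' (x, y) : MulAction.orbitRel.Quotient G (α × α)) ≠ Quotient.mk'' (z, z) := by
    intro x y z hxy h4
    rw [Quotient.eq'', MulAction.orbitRel_apply] at h4
    obtain ⟨g, hg⟩ := h4
    have e1 : g • z = x := congrArg Prod.fst hg
    have e2 : g • z = y := congrArg Prod.snd hg
    exact hxy (e1.symm.trans e2)
  have h4 : (Quotient.mk'' (c, d) : MulAction.orbitRel.Quotient G (α × α)) = Quotient.mk'' (a, b) := by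
    by_contra hcon
    have h5 : ({Quotient.mk'' (a, a), Quotient.mk'' (a, b), Quotient.mk'' (c, d)} :
      Finset (MulAction.orbitRel.Quotient G (α × α))).card = 3 := by
      rw [Finset.card_eq_three]
      exact ⟨_, _, _, (hne a b a hab).symm, (hne c d a hcd).symm, Ne.symm hcon, rfl⟩
    have h6 := Finset.card_le_univ ({Quotient.mk'' (a, a), Quotient.mk'' (a, b), Quotient.mk'' (c, d)} :
      Finset (MulAction.orbitRel.Quotient G (α × α)))
    omega
  rw [Quotient.eq'', MulAction.orbitRel_apply] at h4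
  obtain ⟨g, hg⟩ := h4
  exact ⟨g, congrArg Prod.fst hg, congrArg Prod.snd hg⟩

end perm

section two

variable {G : Type u} [Group G] [Fintype G] {p : ℕ} [hp : Fact p.Prime] {P N C : Subgroup G}
  {D : Loc p P N C} [Fintype C] {B : B0 D} {χ : IrrCharacter G}
variable {α : Type v} [MulAction G α] [Fintype α] [FaithfulSMul G α]

theorem not_sq' (h : Cfg B χ) : ¬ p ^ 2 ∣ Nat.card G := by
  obtain ⟨Q, hQ⟩ := h.hPS
  have h1 := h.hP
  rw [← hQ] at h1
  exact not_sq Q h1

omit [FaithfulSMul G α] in
theorem norm_sq {χ : IrrCharacter G} (hpi : pi (G := G) α = 1 + (χ : G → ℂ)) (hne : χ ≠ triv G) :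
    ∑ g : G, pi α g ^ 2 = 2 * Fintype.card G := by
  classical
  have hG : (Fintype.card G : ℂ) ≠ 0 := by exact_mod_cast Fintype.card_ne_zero
  have h1 : (1 : G → ℂ) = ((triv G : IrrCharacter G) : G → ℂ) := rfl
  have h2 : classInner (pi (G := G) α) (pi (G := G) α) = 2 := by
    rw [hpi, h1, classInner_add_left, classInner_add_right, classInner_add_right, irr_orthonormal, irr_orthonormal,
      irr_orthonormal, irr_orthonormal, if_pos rfl, if_pos rfl, if_neg hne, if_neg hne.symm]
    norm_num
  rw [classInner_def, Nat.card_eq_fintype_card, Finset.sum_congr rfl (fun g _ => by rw [conj_pi, ← pow_two])] at h2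
  rw [← mul_inv_cancel_left₀ hG (∑ g : G, pi α g ^ 2), h2]
  ring

/-- decomposition of a permutation character of degree `2p` -/
theorem decomp2 [IsSimpleGroup G] (hG : ¬ IsMulCommutative G) (h : Cfg B χ) (hα : Nat.card α = 2 * p)
    [MulAction.IsPretransitive G α] (hn2 : ¬ MulAction.IsMultiplyPretransitive G α 2) :
    B.δ χ = -1 ∧ charDegree (χ : G → ℂ) = p - 1 ∧ 1 ≤ mlt (pi (G := G) α) χ := by
  classical
  letI : Fintype (Tau D) := Fintype.ofFinite _
  have htau := h.tau
  have ht := h.one_lt_tau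
  have h5 := h.h5
  have hne := h.ne
  have hX' := h.X
  obtain ⟨h1, h2⟩ := h.trivX
  have hχX := h.mem
  haveI : Nonempty α := by
    have : 0 < Nat.card α := by rw [hα]; have := hp.out.pos; omega
    exact (Nat.card_pos_iff.1 this).1
  have hpi := pi_char (G := G) (α := α)
  have hsing : ∀ g : G, p ∣ orderOf g → pi α g = 0 := fun g hg =>
    pi_sing' (by rw [hα]; exact dvd_mul_left _ _) (not_sq' h) hg
  have hm1 : mlt (pi (G := G) α) (triv G) = 1 := by
    have h3 := mlt_spec hpi (triv G)
    rw [pi_triv] at h3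
    exact_mod_cast h3.symm
  have hmq : ∀ q, (1 : ℤ) + B.δ χ * mlt (pi (G := G) α) χ - B.s * mlt (pi (G := G) α) (B.Y q) = 0 := by
    intro q
    have h3 := h.sum_sing hpi.isClassFunction hsing q
    rw [mlt_spec hpi, mlt_spec hpi, mlt_spec hpi, hm1] at h3
    have h4 : (((1 : ℤ) + B.δ χ * mlt (pi (G := G) α) χ - B.s * mlt (pi (G := G) α) (B.Y q) : ℤ) : ℂ) = 0 := by
      push_cast
      push_cast at h3
      linear_combination h3
    exact_mod_cast h4
  have hreld : ∀ q, B.s * (charDegree (B.Y q : G → ℂ) : ℤ) = 1 + B.δ χ * charDegree (χ : G → ℂ) := by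
    intro q
    have h3 := h.rel q (g := 1) not_dvd_one
    rw [← BlockDeg.charDegree_cast_irr, ← BlockDeg.charDegree_cast_irr] at h3
    exact_mod_cast h3
  have hYn : ∀ q, B.Y q ≠ triv G := fun q => (h.Y_ne q).1
  have hYχ : ∀ q, B.Y q ≠ χ := fun q => (h.Y_ne q).2
  have hle : 1 + mlt (pi (G := G) α) χ * charDegree (χ : G → ℂ) +
      ∑ q : Tau D, mlt (pi (G := G) α) (B.Y q) * charDegree (B.Y q : G → ℂ) ≤ 2 * p := by
    have h3 := degree_le hpi (pi_one' hα) (insert (triv G) (insert χ (Finset.univ.image B.Y)))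
    rw [Finset.sum_insert, Finset.sum_insert, Finset.sum_image, hm1, deg_triv, one_mul] at h3
    · omega
    · intro q _ q' _ h; exact B.Yinj h
    · rw [Finset.mem_image]; rintro ⟨q, -, hq⟩; exact hYχ q hq
    · rw [Finset.mem_insert, Finset.mem_image, not_or]
      exact ⟨hne.symm, by rintro ⟨q, -, hq⟩; exact hYn q hq⟩
  have hχpos := BlockDeg.charDegree_pos χ.2
  obtain ⟨q₀⟩ : Nonempty (Tau D) := inferInstance
  set t := Nat.card (Tau D) with htd
  set m := mlt (pi (G := G) α) χ with hm
  set d := charDegree (χ : G → ℂ) with hd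
  have hpz : (0 : ℤ) < p := by exact_mod_cast hp.out.pos
  rcases B.δ_pm χ hχX with hδ | hδ
  · -- the positive case
    exfalso
    have hs : B.s = 1 := by
      rcases B.s_pm with h | h
      · exact h
      · have h3 := hreld q₀
        rw [hδ, h] at h3
        have := BlockDeg.charDegree_pos (B.Y q₀).2
        omega
    have hz : ∀ q, charDegree (B.Y q : G → ℂ) = 1 + d := by
      intro q
      have h3 := hreld q
      rw [hδ, hs] at h3
      omega
    have hmq' : ∀ q, mlt (pi (G := G) α) (B.Y q) = 1 + m := by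
      intro q
      have h3 := hmq q
      rw [hδ, hs] at h3
      omega
    rw [Finset.sum_congr rfl (fun q _ => by rw [hz q, hmq' q]), Finset.sum_const, Finset.card_univ,
      ← Nat.card_eq_fintype_card, smul_eq_mul, ← htd] at hle
    have hd1 : d = 1 ∨ p + 1 ≤ d := by
      obtain ⟨k, hk⟩ := B.degX χ hχX
      rw [hδ, ← hd] at hk
      have hk0 : 0 ≤ k := by
        by_contra hcon
        push Not at hcon
        nlinarith
      rcases hk0.eq_or_lt with h3 | h3
      · left
        rw [← h3] at hk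
        omega
      · right
        have : (p : ℤ) ≤ k * p := by nlinarith
        omega
    rcases hd1 with h3 | h3
    · exact hne (eq_triv_of_deg (perfect hG) h3)
    · have h4 : t * (1 * (p + 2)) ≤ t * ((1 + m) * (1 + d)) :=
        Nat.mul_le_mul_left _ (Nat.mul_le_mul (by omega) (by omega))
      have h6 : 2 * (p + 2) ≤ t * (p + 2) := Nat.mul_le_mul_right _ (by omega)
      rw [one_mul] at h4
      omega
  · have hs : B.s = -1 := h.s_eq hδ
    have hm0 : 1 ≤ m := by
      have h3 := hmq q₀
      rw [hδ, hs] at h3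
      omega
    obtain ⟨k, hk⟩ := B.degX χ hχX
    rw [hδ, ← hd] at hk
    have hk0 : 1 ≤ k := by
      by_contra hcon
      push Not at hcon
      nlinarith
    have hmd : m * d ≤ 2 * p - 1 := by
      have : 0 ≤ ∑ q : Tau D, mlt (pi (G := G) α) (B.Y q) * charDegree (B.Y q : G → ℂ) := Nat.zero_le _
      omega
    have hdle : d ≤ 2 * p - 1 := le_trans (by nlinarith) hmd
    have hk2 : k ≤ 2 := by
      by_contra hcon
      push Not at hcon
      have : (3 : ℤ) * p ≤ k * p := by nlinarith
      omega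
    have hk12 : k = 1 ∨ k = 2 := by omega
    refine ⟨hδ, ?_, hm0⟩
    rcases hk12 with h3 | h3
    · rw [h3] at hk; omega
    · exfalso
      have hd' : d = 2 * p - 1 := by rw [h3] at hk; omega
      have hm' : m = 1 := by
        by_contra hcon
        have h4 : 2 * d ≤ m * d := Nat.mul_le_mul_right _ (by omega)
        omega
      have hnm : triv G ∉ ({χ} : Finset (IrrCharacter G)) := by
        rw [Finset.mem_singleton]; exact hne.symm
      have h4 := sat hpi (pi_one' hα) (insert (triv G) {χ}) (by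
        rw [Finset.sum_insert hnm, Finset.sum_singleton, hm1, ← hm, ← hd, hm', deg_triv, hd']
        omega)
      apply hn2
      apply two_trans _ (by rw [hα]; omega)
      apply norm_sq _ hne
      rw [h4, Finset.sum_insert hnm, Finset.sum_singleton, hm1, ← hm, hm', Nat.cast_one, one_smul, one_smul]
      rfl

/-- removing constituents -/
theorem sub_char {φ : G → ℂ} (hφ : IsCharacter G φ) {χ : IrrCharacter G} (hne : χ ≠ triv G)
    (h1 : 1 ≤ mlt φ (triv G)) (h2 : 1 ≤ mlt φ χ) : IsCharacter G (φ - 1 - (χ : G → ℂ)) := by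
  classical
  apply isCharacter_of_classInner
  · exact (hφ.isClassFunction.sub isCharacter_one.isClassFunction).sub χ.2.isClassFunction
  · intro ψ hψ
    have h0 : (1 : G → ℂ) = ((triv G : IrrCharacter G) : G → ℂ) := rfl
    have e : classInner (φ - 1 - (χ : G → ℂ)) ψ = classInner φ ψ - classInner ((triv G : IrrCharacter G) : G → ℂ) ψ -
        classInner (χ : G → ℂ) ψ := by rw [classInner_sub_left, classInner_sub_left, h0]
    have hψ' : ψ = ((⟨ψ, hψ⟩ : IrrCharacter G) : G → ℂ) := rfl
    rw [e, hψ', mlt_spec hφ, irr_orthonormal, irr_orthonormal]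
    by_cases h3 : (triv G) = (⟨ψ, hψ⟩ : IrrCharacter G)
    · rw [if_pos h3, if_neg (fun h4 => hne (h4.trans h3.symm)), ← h3]
      refine ⟨mlt φ (triv G) - 1, ?_⟩
      rw [Nat.cast_sub h1]; push_cast; ring
    · rw [if_neg h3]
      by_cases h4 : χ = (⟨ψ, hψ⟩ : IrrCharacter G)
      · rw [if_pos h4, ← h4]
        refine ⟨mlt φ χ - 1, ?_⟩
        rw [Nat.cast_sub h2]; push_cast; ring
      · rw [if_neg h4]
        exact ⟨mlt φ ⟨ψ, hψ⟩, by ring⟩

/-- no examples for `7 ≤ p` -/
theorem seven_false [IsSimpleGroup G] (hG : ¬ IsMulCommutative G) (h : Cfg B χ) (hα : Nat.card α = 2 * p)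
    [MulAction.IsPretransitive G α] (hn2 : ¬ MulAction.IsMultiplyPretransitive G α 2) (h7 : 7 ≤ p) : False := by
  classical
  obtain ⟨hδ, hdeg, hm⟩ := decomp2 hG h hα hn2
  have hf := faithful hG h.ne
  obtain ⟨T, hT, hcent, hconj⟩ := h.seven hδ hdeg hf h7
  obtain ⟨-, hGcard⟩ := h.count_seven hδ hdeg hf h7
  have hpi := pi_char (G := G) (α := α)
  haveI : Nonempty α := by
    have : 0 < Nat.card α := by rw [hα]; have := hp.out.pos; omega
    exact (Nat.card_pos_iff.1 this).1
  have hm1 : mlt (pi (G := G) α) (triv G) = 1 := by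
    have h3 := mlt_spec hpi (triv G)
    rw [pi_triv] at h3
    exact_mod_cast h3.symm
  obtain ⟨t₀, ht₀⟩ := h.exists_invol
  set c := fx α t₀ with hc
  have hfx : ∀ t : G, orderOf t = 2 → fx α t = c := by
    intro t ht
    obtain ⟨g, hg⟩ := hconj t₀ t ht₀ ht
    have h1 : pi α t = pi α t₀ := by
      rw [← hg]; exact hpi.isClassFunction t₀ g
    rw [pi_eq, pi_eq] at h1
    exact_mod_cast h1
  obtain ⟨hC0, hexp⟩ := hcent t₀ ht₀
  set C₀ := Subgroup.centralizer ({t₀} : Set G) with hC₀
  have ht₀1 : t₀ ≠ 1 := by intro h1; rw [h1, orderOf_one] at ht₀; omega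
  have hord : ∀ x ∈ C₀, x ≠ 1 → orderOf x = 2 := fun x hx hx1 =>
    orderOf_eq_prime (by rw [pow_two]; exact hexp x hx) hx1
  -- counting orbits of `C₀`
  have hcount : ∃ k : ℕ, 2 * p + (p - 2) * c = (p - 1) * k := by
    letI : Fintype C₀ := Fintype.ofFinite _
    obtain ⟨k, hk⟩ := nat_sum (hpi.restrict C₀) (isCharacter_one (G := C₀)) (fun _ => map_one _)
    refine ⟨k, ?_⟩
    have h1 : ∑ x : C₀, pi α (x : G) * (1 : C₀ → ℂ) x = ((2 * p + (p - 2) * c : ℕ) : ℂ) := by
      rw [← Finset.add_sum_erase Finset.univ _ (Finset.mem_univ (1 : C₀))]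
      rw [Finset.sum_congr rfl (g := fun _ => (c : ℂ)), Finset.sum_const, Finset.card_erase_of_mem (Finset.mem_univ _),
        Finset.card_univ, ← Nat.card_eq_fintype_card, hC0, nsmul_eq_mul, Pi.one_apply, mul_one, OneMemClass.coe_one,
        pi_one' hα]
      · push_cast
        rw [show p - 1 - 1 = p - 2 by omega]
      · intro x hx
        have hx1 : (x : G) ≠ 1 := fun h2 => (Finset.mem_erase.1 hx).1 (Subtype.ext h2)
        rw [Pi.one_apply, mul_one, pi_eq, hfx _ (hord x x.2 hx1)]
    change ∑ x : C₀, pi α (x : G) * (1 : C₀ → ℂ) x = _ at hk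
    rw [h1, ← Nat.card_eq_fintype_card, hC0] at hk
    exact_mod_cast hk
  have hcle : c ≤ 2 * p := by rw [hc, ← hα]; exact fx_le t₀
  have hcne : c ≠ 2 * p := fun h1 => ht₀1 (eq_one_of_fx (α := α) (by rw [← hc, h1, hα]))
  have hc3 : c = 2 ∨ c = p + 1 := by
    obtain ⟨k, hk⟩ := hcount
    have h1 : (2 * p + (p - 2) * c : ℤ) = (p - 1) * k := by
      have h2 : ((2 * p + (p - 2) * c : ℕ) : ℤ) = (((p - 1) * k : ℕ) : ℤ) := by rw [hk]
      push_cast at h2
      rw [Nat.cast_sub (by omega), Nat.cast_sub (by omega)] at h2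
      push_cast at h2
      exact h2
    have h2 : ((c : ℤ) - 2) = (p - 1) * (c + 2 - k) := by linear_combination -h1
    have h3 : (0 : ℤ) ≤ c := by positivity
    have h4 : (c : ℤ) < 2 * p := by
      have : c < 2 * p := lt_of_le_of_ne hcle hcne
      exact_mod_cast this
    have h7' : (7 : ℤ) ≤ p := by exact_mod_cast h7
    have h5 : -1 < (c : ℤ) + 2 - k := by
      by_contra hcon
      push Not at hcon
      nlinarith
    have h6 : (c : ℤ) + 2 - k < 2 := by
      by_contra hcon
      push Not at hcon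
      nlinarith
    have h8 : (c : ℤ) + 2 - k = 0 ∨ (c : ℤ) + 2 - k = 1 := by omega
    rcases h8 with h9 | h9
    · left; rw [h9] at h2; omega
    · right; rw [h9] at h2; omega
  have hc2 : c = 2 := by
    refine hc3.resolve_right fun h1 => ?_
    -- the rest of the permutation character has `t₀` in its kernel
    have hψ := sub_char hpi h.ne (by rw [hm1]) hm
    obtain ⟨K, hKn, hK⟩ := FrobThm.exists_charKer hψ
    have hψ1 : (pi α - 1 - (χ : G → ℂ) : G → ℂ) 1 = p := by
      rw [Pi.sub_apply, Pi.sub_apply, Pi.one_apply, pi_one' hα, h.one_eq hdeg]; push_cast; ring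
    have h2 : t₀ ∈ K := by
      rw [hK, hψ1, Pi.sub_apply, Pi.sub_apply, Pi.one_apply, h.zero_of_ord hδ hdeg hf h7 ht₀, pi_eq, ← hc, h1]
      push_cast; ring
    rcases IsSimpleGroup.eq_bot_or_eq_top_of_normal K hKn with h3 | h3
    · rw [h3] at h2; exact ht₀1 h2
    · have h4 : ∀ g : G, (pi α - 1 - (χ : G → ℂ) : G → ℂ) g = p := fun g => by
        rw [(hK g).1 (by rw [h3]; trivial), hψ1]
      have h5 : ∑ g : G, (pi α - 1 - (χ : G → ℂ) : G → ℂ) g = 0 := by
        simp only [Pi.sub_apply, Pi.one_apply]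
        rw [Finset.sum_sub_distrib, Finset.sum_sub_distrib, sum_pi, h.sum_zero]
        simp
      rw [Finset.sum_congr rfl (fun g _ => h4 g), Finset.sum_const, nsmul_eq_mul] at h5
      rcases mul_eq_zero.1 h5 with h6 | h6
      · exact Fintype.card_ne_zero (α := G) (by exact_mod_cast h6)
      · exact hp.out.ne_zero (by exact_mod_cast h6)
  -- the fixed points
  have hcomm : ∀ x ∈ C₀, ∀ y ∈ C₀, x * y = y * x := by
    intro x hx y hy
    have e1 := hexp x hx
    have e2 := hexp y hy
    have e3 := hexp (x * y) (C₀.mul_mem hx hy)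
    have e4 : x⁻¹ = x := inv_eq_of_mul_eq_one_left e1
    have e5 : y⁻¹ = y := inv_eq_of_mul_eq_one_left e2
    have e6 : (x * y)⁻¹ = x * y := inv_eq_of_mul_eq_one_left e3
    rw [mul_inv_rev, e4, e5] at e6
    exact e6.symm
  have ht₀C : t₀ ∈ C₀ := by rw [hC₀, Subgroup.mem_centralizer_singleton_iff]
  have h2fix : ∀ t ∈ C₀, t ≠ 1 → ∃ a b : α, a ≠ b ∧ MulAction.fixedBy α t = {a, b} := by
    intro t ht ht1
    have h1 := hfx t (hord t ht ht1)
    rw [fx, hc2, Nat.card_coe_set_eq, Set.ncard_eq_two] at h1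
    exact h1
  obtain ⟨a, b, hab, hFix⟩ := h2fix t₀ ht₀C ht₀1
  have hmemF : ∀ t ∈ C₀, ∀ x ∈ C₀, ∀ z : α, t • z = z → t • (x • z) = x • z := by
    intro t ht x hx z hz
    rw [← mul_smul, hcomm t ht x hx, mul_smul, hz]
  have ha : t₀ • a = a := by
    have : a ∈ MulAction.fixedBy α t₀ := by rw [hFix]; simp
    exact this
  have hb : t₀ • b = b := by
    have : b ∈ MulAction.fixedBy α t₀ := by rw [hFix]; simp
    exact this
  have habs : ∀ x ∈ C₀, x • a = a ∨ x • a = b := by
    intro x hx
    have h1 : x • a ∈ MulAction.fixedBy α t₀ := hmemF t₀ ht₀C x hx a ha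
    rw [hFix] at h1
    exact h1
  have habs' : ∀ x ∈ C₀, x • b = a ∨ x • b = b := by
    intro x hx
    have h1 : x • b ∈ MulAction.fixedBy α t₀ := hmemF t₀ ht₀C x hx b hb
    rw [hFix] at h1
    exact h1
  obtain ⟨t₁, ht₁, hta⟩ : ∃ t₁ ∈ C₀, t₁ • a ≠ a := by
    by_contra hcon
    push Not at hcon
    have h1 : C₀ ≤ MulAction.stabilizer G a := fun x hx => hcon x hx
    have h2 := Subgroup.card_dvd_of_le h1
    have h3 := (MulAction.stabilizer G a).card_mul_index
    rw [MulAction.index_stabilizer_of_transitive, hα, hGcard] at h3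
    obtain ⟨m, hm'⟩ := h2
    rw [hC0] at hm'
    rw [hm'] at h3
    have h4 : (p - 1) * (p * (2 * m)) = (p - 1) * (p * (p - 2)) := by rw [← h3]; ring
    have h5 := Nat.eq_of_mul_eq_mul_left (by omega) h4
    have h6 := Nat.eq_of_mul_eq_mul_left hp.out.pos h5
    rcases hp.out.eq_two_or_odd with h8 | h8 <;> omega
  have ht₁1 : t₁ ≠ 1 := by rintro rfl; exact hta (one_smul _ _)
  obtain ⟨γ, γ', -, hFix₁⟩ := h2fix t₁ ht₁ ht₁1
  have hγ : t₁ • γ = γ := by
    have : γ ∈ MulAction.fixedBy α t₁ := by rw [hFix₁]; simp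
    exact this
  have hγa : γ ≠ a := by rintro rfl; exact hta hγ
  have hγb : γ ≠ b := by
    rintro rfl
    rcases habs t₁ ht₁ with h1 | h1
    · exact hta h1
    · have : t₁ • a = t₁ • γ := by rw [h1, hγ]
      exact hab (smul_left_cancel _ this)
  -- pigeonhole
  obtain ⟨x, y, hxy, hxya, hxyγ⟩ : ∃ x y : C₀, x ≠ y ∧ (x : G) • a = (y : G) • a ∧ (x : G) • γ = (y : G) • γ := by
    letI : Fintype C₀ := Fintype.ofFinite _
    set f : C₀ → ↥(({a, b} : Finset α) ×ˢ ({γ, γ'} : Finset α)) := fun x => ⟨((x : G) • a, (x : G) • γ), by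
      rw [Finset.mem_product]
      constructor
      · rw [Finset.mem_insert, Finset.mem_singleton]; exact habs x x.2
      · rw [Finset.mem_insert, Finset.mem_singleton]
        have h1 : (x : G) • γ ∈ MulAction.fixedBy α t₁ := hmemF t₁ ht₁ x x.2 γ hγ
        rw [hFix₁] at h1
        exact h1⟩ with hf'
    obtain ⟨x, y, hxy, h1⟩ := Fintype.exists_ne_map_eq_of_card_lt f (by
      rw [Fintype.card_coe, Finset.card_product, ← Nat.card_eq_fintype_card, hC0]
      have e1 : ({a, b} : Finset α).card ≤ 2 := Finset.card_le_two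
      have e2 : ({γ, γ'} : Finset α).card ≤ 2 := Finset.card_le_two
      have := Nat.mul_le_mul e1 e2
      omega)
    have h2 := congrArg Subtype.val h1
    exact ⟨x, y, hxy, congrArg Prod.fst h2, congrArg Prod.snd h2⟩
  set s : G := (y : G)⁻¹ * x with hs
  have hsC : s ∈ C₀ := C₀.mul_mem (C₀.inv_mem y.2) x.2
  have hs1 : s ≠ 1 := by
    intro h1
    apply hxy
    apply Subtype.ext
    exact (inv_mul_eq_one.1 h1).symm
  have hsa : s • a = a := by rw [hs, mul_smul, hxya, inv_smul_smul]
  have hsγ : s • γ = γ := by rw [hs, mul_smul, hxyγ, inv_smul_smul]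
  have hsb : s • b = b := by
    rcases habs' s hsC with h1 | h1
    · exfalso
      have : s • b = s • a := by rw [h1, hsa]
      exact hab (smul_left_cancel _ this).symm
    · exact h1
  obtain ⟨u, v, -, hFs⟩ := h2fix s hsC hs1
  have m1 : a ∈ ({u, v} : Set α) := by rw [← hFs]; exact hsa
  have m2 : b ∈ ({u, v} : Set α) := by rw [← hFs]; exact hsb
  have m3 : γ ∈ ({u, v} : Set α) := by rw [← hFs]; exact hsγ
  rcases m1 with rfl | rfl <;> rcases m2 with rfl | rfl <;> rcases m3 with m3 | m3
  · exact hab rfl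
  · exact hab rfl
  · exact hγa m3
  · exact hγb m3
  · exact hγb m3
  · exact hγa m3
  · exact hab rfl
  · exact hab rfl

end two

section prim

variable {G : Type u} [Group G] [Fintype G] {p : ℕ} [hp : Fact p.Prime]
variable {α : Type v} [MulAction G α] [Fintype α] [FaithfulSMul G α]

theorem trans_of_normal [MulAction.IsPreprimitive G α] {K : Subgroup G} [hK : K.Normal] (hK1 : K ≠ ⊥) :
    Nat.card α ∣ Nat.card K := by
  have h1 : MulAction.fixedPoints K α ≠ .univ := by
    intro h
    apply hK1
    rw [eq_bot_iff]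
    intro k hk
    rw [Subgroup.mem_bot]
    apply FaithfulSMul.eq_of_smul_eq_smul (M := G) (α := α)
    intro a
    have h2 : a ∈ MulAction.fixedPoints K α := by rw [h]; trivial
    rw [one_smul]
    exact h2 ⟨k, hk⟩
  haveI : MulAction.IsPretransitive K α := MulAction.IsQuasiPreprimitive.isPretransitive_of_normal h1
  obtain ⟨a, -⟩ := Set.ne_univ_iff_exists_notMem _ |>.1 h1
  rw [← MulAction.index_stabilizer_of_transitive K a]
  exact Subgroup.index_dvd_card _

theorem simple_of_prim [MulAction.IsPreprimitive G α] (h5 : 5 ≤ p) (hpα : p ∣ Nat.card α) (hlt : p < Nat.card α)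
    (P : Sylow p G) (hN : Nat.card (Subgroup.normalizer ((P : Subgroup G) : Set G)) = 2 * p) :
    IsSimpleGroup G ∧ ¬ IsMulCommutative G := by
  classical
  have hP := card_P h5 P hN
  have hsq : ¬ p ^ 2 ∣ Nat.card G := not_sq P hP
  have hPle : ∀ K : Subgroup G, K.Normal → K ≠ ⊥ → (P : Subgroup G) ≤ K := by
    intro K hK hK1 x hx
    have h1 : p ∣ Nat.card K := hpα.trans (trans_of_normal (α := α) hK1)
    apply SmallSimple.mem_of_orderOf_coprime_index K
    have h2 : orderOf x ∣ p := by
      have h3 := orderOf_dvd_natCard (⟨x, hx⟩ : (P : Subgroup G))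
      rw [hP, Subgroup.orderOf_mk] at h3
      exact h3
    apply Nat.Coprime.coprime_dvd_left h2
    rw [hp.out.coprime_iff_not_dvd]
    intro h3
    apply hsq
    rw [← K.card_mul_index, pow_two]
    exact Nat.mul_dvd_mul h1 h3
  have key : ∀ K : Subgroup G, K.Normal → K ≠ ⊥ → K = ⊤ := by
    intro K hK hK1
    have h1 := hPle K hK hK1
    have h2 : Subgroup.normalizer ((P : Subgroup G) : Set G) ⊔ K = ⊤ := Sylow.normalizer_sup_eq_top' (N := K) P h1
    by_cases h3 : Subgroup.normalizer ((P : Subgroup G) : Set G) ≤ K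
    · rw [sup_eq_right.2 h3] at h2; exact h2
    · exfalso
      -- the normaliser of `P` in `K` is `P`
      set N := Subgroup.normalizer ((P : Subgroup G) : Set G) with hNdef
      have h4 : N ⊓ K = (P : Subgroup G) := by
        symm
        apply Subgroup.eq_of_le_of_card_ge (le_inf Subgroup.le_normalizer h1)
        have h5' : Nat.card (N ⊓ K : Subgroup G) ∣ 2 * p := by
          rw [← hN]; exact Subgroup.card_dvd_of_le inf_le_left
        have h6 : p ∣ Nat.card (N ⊓ K : Subgroup G) := by
          have h7 := Subgroup.card_dvd_of_le (le_inf Subgroup.le_normalizer h1 : (P : Subgroup G) ≤ N ⊓ K)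
          rwa [hP] at h7
        obtain ⟨k, hk⟩ := h6
        rw [hk, mul_comm p k] at h5'
        have h8 := Nat.dvd_of_mul_dvd_mul_right hp.out.pos h5'
        rw [hk, hP]
        rcases (Nat.dvd_prime Nat.prime_two).1 h8 with h9 | h9
        · rw [h9, mul_one]
        · exfalso
          apply h3
          have h10 : N ⊓ K = N := Subgroup.eq_of_le_of_card_ge inf_le_left (by rw [hk, h9, hN, mul_comm])
          rw [← h10]; exact inf_le_right
      set Q := P.subtype h1 with hQ
      have hQN : Subgroup.normalizer ((Q : Subgroup K) : Set K) ≤ Subgroup.centralizer ((Q : Subgroup K) : Set K) := by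
        intro x hx
        have hx' : (x : G) ∈ N := by
          rw [hNdef, Subgroup.mem_normalizer_iff]
          rw [Subgroup.mem_normalizer_iff] at hx
          intro y
          constructor
          · intro hy
            have := (hx ⟨y, h1 hy⟩).1 hy
            exact this
          · intro hy
            have hyK : y ∈ K := by
              have h6 : (x : G) * y * (x : G)⁻¹ ∈ K := h1 hy
              have h7 := K.mul_mem (K.mul_mem (K.inv_mem x.2) h6) x.2
              have h8 : (x : G)⁻¹ * (x * y * (x : G)⁻¹) * x = y := by group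
              rwa [h8] at h7
            exact (hx ⟨y, hyK⟩).2 hy
        have hxP : (x : G) ∈ (P : Subgroup G) := by rw [← h4]; exact ⟨hx', x.2⟩
        rw [Subgroup.mem_centralizer_iff]
        intro y hy
        have hyP : (y : G) ∈ (P : Subgroup G) := hy
        haveI : IsCyclic (P : Subgroup G) := isCyclic_of_prime_card hP
        letI : CommGroup (P : Subgroup G) := IsCyclic.commGroup
        have h6 : (⟨y, hyP⟩ : (P : Subgroup G)) * ⟨x, hxP⟩ = ⟨x, hxP⟩ * ⟨y, hyP⟩ := mul_comm _ _
        exact Subtype.ext (congrArg (fun z : (P : Subgroup G) => (z : G)) h6)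
      obtain ⟨M, hMc, hMcompl, hMp⟩ := SmallSimple.exists_characteristic_complement Q hQN
      haveI := hMc
      haveI := hK
      have hMn : (M.map K.subtype).Normal := inferInstance
      by_cases hM1 : M.map K.subtype = ⊥
      · have hM2 : M = ⊥ := (Subgroup.map_eq_bot_iff_of_injective _ K.subtype_injective).1 hM1
        have h6 := hMcompl.card_mul_card
        rw [hM2, Subgroup.card_bot, one_mul] at h6
        have h7 : Nat.card Q = p := by
          obtain ⟨k, hk⟩ := IsPGroup.iff_card.1 Q.isPGroup'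
          have h8 : Nat.card Q ∣ Nat.card (P : Subgroup G) := by
            change Nat.card (Q : Subgroup K) ∣ _
            have e : Nat.card ((Q : Subgroup K).map K.subtype) = Nat.card (Q : Subgroup K) :=
              Subgroup.card_map_of_injective K.subtype_injective
            rw [← e]
            apply Subgroup.card_dvd_of_le
            rintro _ ⟨y, hy, rfl⟩
            exact hy
          rw [hP] at h8
          rcases (Nat.dvd_prime hp.out).1 h8 with h9 | h9
          · exfalso
            have h10 := trans_of_normal (α := α) hK1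
            have h11 : Nat.card (Q : Subgroup K) = 1 := h9
            rw [← h6, h11] at h10
            have := Nat.le_of_dvd (by norm_num) h10
            omega
          · exact h9
        have h8 := trans_of_normal (α := α) hK1
        have h11 : Nat.card (Q : Subgroup K) = p := h7
        rw [← h6, h11] at h8
        have := Nat.le_of_dvd hp.out.pos h8
        omega
      · have h6 := hpα.trans (trans_of_normal (α := α) hM1)
        rw [Subgroup.card_map_of_injective K.subtype_injective] at h6
        exact hMp h6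
  have hcardG : Nat.card α ∣ Nat.card G := by
    haveI : Nonempty α := by
      have : 0 < Nat.card α := by omega
      exact (Nat.card_pos_iff.1 this).1
    obtain ⟨a⟩ := (inferInstance : Nonempty α)
    rw [← MulAction.index_stabilizer_of_transitive G a]
    exact Subgroup.index_dvd_card _
  have hnt : Nontrivial G := by
    apply Finite.one_lt_card_iff_nontrivial.1
    have := Nat.le_of_dvd Nat.card_pos hcardG
    omega
  refine ⟨⟨fun K hK => ?_⟩, ?_⟩
  · by_cases hK1 : K = ⊥
    · exact Or.inl hK1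
    · exact Or.inr (key K hK hK1)
  · intro hc
    -- `P` is normal
    have hPn : (P : Subgroup G).Normal := ⟨fun x hx g => by
      have h1 : g * x = x * g := hc.is_comm.comm g x
      rw [h1, mul_inv_cancel_right]; exact hx⟩
    have hP1 : (P : Subgroup G) ≠ ⊥ := by
      intro h1
      rw [h1, Subgroup.card_bot] at hP
      exact hp.out.one_lt.ne hP
    have h1 := trans_of_normal (α := α) hP1
    rw [hP] at h1
    have := Nat.le_of_dvd hp.out.pos h1
    omega

end prim

/-- S4707 -/
theorem main {α : Type u} [Fintype α] {p : ℕ} [hp : Fact p.Prime] (h3 : 3 < p) (hα : Fintype.card α = 2 * p)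
    (G : Subgroup (Equiv.Perm α)) (hprim : MulAction.IsPreprimitive G α)
    (hnot2 : ¬ MulAction.IsMultiplyPretransitive G α 2) (P : Sylow p G)
    (hN : Nat.card (Subgroup.normalizer ((P : Subgroup G) : Set G)) = 2 * p) :
    p = 5 ∧ Nonempty (G ≃* alternatingGroup (Fin 5)) := by
  classical
  letI : Fintype G := Fintype.ofFinite _
  have h5 : 5 ≤ p := by
    have : p ≠ 4 := by rintro rfl; exact absurd hp.out (by norm_num)
    omega
  have hα' : Nat.card α = 2 * p := by rw [Nat.card_eq_fintype_card, hα]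
  obtain ⟨hs, hG⟩ := simple_of_prim (α := α) h5 (by rw [hα']; exact dvd_mul_left _ _) (by rw [hα']; omega) P hN
  obtain ⟨D, hC, B, χ, h⟩ := exists_cfg_simple hG h5 P hN
  have h7 : ¬ 7 ≤ p := fun h7 => seven_false hG h hα' hnot2 h7
  have hp5 : p = 5 := by
    have : p ≠ 6 := by rintro rfl; exact absurd hp.out (by norm_num)
    omega
  obtain ⟨hδ, hdeg, hm⟩ := decomp2 hG h hα' hnot2
  have h60 := h.card_five hδ hdeg (faithful hG h.ne) hp5
  exact ⟨hp5, ClSmall.equiv_alternating_five h60⟩

end Cfsg.Agent.Lib.H15Deg2p
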