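import Mathlib

set_option autoImplicit false

namespace Cfsg.Agent.Lib.H15S

/-- the local 3-hypothesis -/
structure HK (G : Type*) [Group G] : Prop where
  cen9 : ∀ k : G, orderOf k = 3 → Nat.card (Subgroup.centralizer ({k} : Set G)) = 9
  exp : ∀ k g : G, orderOf k = 3 → g * k = k * g → g ^ 3 = 1
  tr : ∀ k g : G, orderOf k = 3 → g ≠ 1 → g * k = k * g →
    Subgroup.centralizer ({g} : Set G) = Subgroup.centralizer ({k} : Set G)
  one : ∀ u v : G, orderOf u = 3 → orderOf v = 3 → ∃ g : G, g * u * g⁻¹ = v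

/-- `k`-invariant 3'-subgroup -/
def KInv {G : Type*} [Group G] (k : G) (U : Subgroup G) : Prop :=
  (∀ u ∈ U, k * u * k⁻¹ ∈ U) ∧ ¬ 3 ∣ Nat.card U

/-- maximal nontrivial `k`-invariant 3'-subgroup -/
def KMax {G : Type*} [Group G] (k : G) (U : Subgroup G) : Prop :=
  KInv k U ∧ U ≠ ⊥ ∧ ∀ V : Subgroup G, KInv k V → U ≤ V → V = U

/-- one side of an S3-amalgam -/
structure Side {G : Type*} [Group G] (S H U : Subgroup G) : Prop where
  US : U ≤ S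
  SH : S ≤ H
  nor : ∀ g ∈ H, ∀ u ∈ U, g * u * g⁻¹ ∈ U
  cS : Nat.card S = 2 * Nat.card U
  cH : Nat.card H = 6 * Nat.card U
  k : ∃ k ∈ H, orderOf k = 3 ∧ ∀ u ∈ U, u * k = k * u → u = 1
  nS : ∃ g ∈ H, ∃ s ∈ S, g * s * g⁻¹ ∉ S

end Cfsg.Agent.Lib.H15S
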