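import Mathlib
import Cfsg.Agent.Lib.H15S0

set_option autoImplicit false

namespace Cfsg.Agent.Lib.H15S

/-- the numerical data (output of `char_data`) -/
structure NumData {ι : Type*} [Fintype ι] (v : ι → ℤ) (d : ι → ℕ) (T T' : Finset ι) (q a b N : ℕ) : Prop where
  hq : q.Prime
  q2 : q ≠ 2
  q3 : q ≠ 3
  v0 : ∀ i, v i ≠ 0
  s8 : ∑ i, v i ^ 2 = 8
  s1 : 1 + ∑ i, v i * d i = 0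
  m9 : ∀ i, (9 : ℤ) ∣ d i - v i
  d1 : ∀ i, 1 < d i
  dq : ∀ i, ∃ s ≤ a, ∃ t ≤ b, d i = 2 ^ s * q ^ t
  sq : 1 + ∑ i, (d i) ^ 2 ≤ 9 * 2 ^ a * q ^ b
  Tq : ∀ i ∈ T, q ∣ d i
  T2 : ∀ i ∈ T', 2 ∣ d i
  Tx : (2 : ℤ) ^ a ∣ 1 + ∑ i ∈ T, v i * d i
  Ty : (q : ℤ) ^ b ∣ 1 + ∑ i ∈ T', v i * d i
  hN : (9 : ℚ) * (N : ℚ) = 2 ^ a * q ^ b * (1 + ∑ i, (v i : ℚ) ^ 3 / (d i : ℚ))
  N1 : 0 < N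

end Cfsg.Agent.Lib.H15S
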