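import Mathlib
import Cfsg.Agent.Lib.H15N0

set_option autoImplicit false
set_option maxRecDepth 100000

namespace Cfsg.Agent.Lib.H15N2

/-- sign (true = negative), |v|, d -/
abbrev C := Bool × ℕ × ℕ

def wt (c : C) : ℕ := c.2.1 * c.2.1
def ps (c : C) : ℕ := if c.1 then 0 else c.2.1 * c.2.2
def ng (c : C) : ℕ := if c.1 then c.2.1 * c.2.2 else 0
def ps3 (z : ℕ) (c : C) : ℕ := if c.1 then 0 else c.2.1 * c.2.1 * c.2.1 * (z / c.2.2)
def ng3 (z : ℕ) (c : C) : ℕ := if c.1 then c.2.1 * c.2.1 * c.2.1 * (z / c.2.2) else 0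

/-- all pairs (sum of positive, sum of negative) over sublists -/
def subs (m : ℕ) : List C → ℕ → ℕ → Bool
  | [], P, M => !(Nat.beq (P % m) (M % m))
  | c :: l, P, M => subs m l P M && subs m l (P + ps c) (M + ng c)

def lsum (f : C → ℕ) : List C → ℕ
  | [] => 0
  | c :: l => f c + lsum f l

/-- the leaf test; true = harmless -/
def leafOK (x y q bd : ℕ) (l : List C) : Bool :=
  Nat.blt (lsum (ng3 (x * y)) l + 9 * bd) (x * y + lsum (ps3 (x * y)) l) ||
    (subs x (l.filter fun c => Nat.beq (c.2.2 % q) 0) 1 0 ||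
      subs y (l.filter fun c => Nat.beq (c.2.2 % 2) 0) 1 0)

def fN (n : ℕ) (k : ℕ → Bool) : Bool := Nat.rec (k 0) (fun m _ => k (m + 1)) n

theorem fN_eq (n : ℕ) (k : ℕ → Bool) : fN n k = k n := by cases n <;> rfl

def fL : List C → (List C → Bool) → Bool
  | [], k => k []
  | (b, v, d) :: l, k => fL l fun l' => fN v fun v' => fN d fun d' =>
      match b with
      | true => k ((true, v', d') :: l')
      | false => k ((false, v', d') :: l')

theorem fL_eq (l : List C) (k : List C → Bool) : fL l k = k l := by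
  induction l generalizing k with
  | nil => rfl
  | cons c l ih =>
    obtain ⟨b, v, d⟩ := c
    simp only [fL, ih, fN_eq]
    cases b <;> rfl

def srt : List C → Bool
  | [] => true
  | c :: l => (l.all fun c' => Nat.ble c'.2.2 c.2.2) && srt l

def dfs (x y q bd : ℕ) : ℕ → List C → ℕ → ℕ → ℕ → List C → Bool
  | 0, _, _, _, _, _ => false
  | _ + 1, [], w, P, M, acc =>
    match w with
    | 0 => match Nat.beq P M with
      | true => leafOK x y q bd acc
      | false => true
    | _ + 1 => true
  | n + 1, c :: cs, w, P, M, acc =>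
    match Nat.blt (M + w * c.2.2) P with
    | true => true
    | false =>
      match Nat.blt (P + w * c.2.2) M with
      | true => true
      | false =>
        match dfs x y q bd n cs w P M acc with
        | false => false
        | true =>
          match Nat.blt w (wt c) with
          | true => true
          | false => fN (w - wt c) fun w' => fN (P + ps c) fun P' => fN (M + ng c) fun M' =>
              dfs x y q bd n (c :: cs) w' P' M' (c :: acc)

def cand (x y : ℕ) (d : ℕ) : Option C :=
  if d ≤ 1 then none else if 9 * x * y ≤ d * d then none else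
  match d % 9 with
  | 1 => some (false, 1, d)
  | 8 => some (true, 1, d)
  | 2 => some (false, 2, d)
  | 7 => some (true, 2, d)
  | _ => none

def ins (c : C) : List C → List C
  | [] => [c]
  | c' :: l => if Nat.ble c'.2.2 c.2.2 then c :: c' :: l else c' :: ins c l

def isort : List C → List C
  | [] => []
  | c :: l => ins c (isort l)

def cands (q a b : ℕ) : List C :=
  (List.range (b + 1)).flatMap fun t => (List.range (a + 1)).filterMap fun s =>
    cand (2 ^ a) (q ^ b) (2 ^ s * q ^ t)

def bnd (q a b : ℕ) : ℕ :=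
  34 + (if a % 2 = 0 then 6 * (2 ^ a - 1) else 3 * (2 ^ (a - 1) - 1)) +
      (if q ^ b % 3 = 1 then 12 * q ^ b else 0)

def chk (q a b : ℕ) : Bool :=
  !(Nat.beq (2 ^ a * q ^ b % 72) 8) || (Nat.ble (72 * bnd q a b) (2 ^ a * q ^ b) ||
    (Nat.blt (81 * q ^ b) (4 * 2 ^ a) || (Nat.blt (81 * 2 ^ a) (4 * q ^ b) ||
      fL (cands q a b) fun cs0 => fL (isort cs0) fun cs =>
      (srt cs && fN (2 ^ a) fun x => fN (q ^ b) fun y => fN (bnd q a b) fun bd => dfs x y q bd 40 cs 8 1 0 []))))

-- #EV (cands 5 6 3)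
-- #EV chk 5 6 3
-- #EV ((List.range 10369).filter fun q => q % 2 == 1 && q % 3 != 0 && q > 4 && !(chk q 9 1))
-- #EV ((List.range 3000).filter fun q => q % 2 == 1 && q % 3 != 0 && q > 4 && !(chk q 7 1 && chk q 3 1 && chk q 4 1 && chk q 5 1 && chk q 6 1 && chk q 8 1 && chk q 10 1 && chk q 11 1 && chk q 12 1))
-- #EV ((List.range 110).filter fun q => q % 2 == 1 && q % 3 != 0 && q > 4 && !((List.range 10).all fun a => (chk q (a+3) 2 && chk q (a+3) 3 && chk q (a+3) 4 && chk q (a+3) 5)))

def allB (f : ℕ → Bool) : ℕ → Bool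
  | 0 => true
  | n + 1 => f n && allB f n

end Cfsg.Agent.Lib.H15N2
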