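import Mathlib
import Cfsg.Agent.Lib.H15N2

set_option autoImplicit false

namespace Cfsg.Agent.Lib.H15N2

def BadL (x y q bd : ℕ) (L : Multiset C) : Prop :=
  x * y + (L.map (ps3 (x * y))).sum ≤ (L.map (ng3 (x * y))).sum + 9 * bd ∧
    (∃ T ≤ L, (∀ c ∈ T, c.2.2 % q = 0) ∧ (1 + (T.map ps).sum) % x = (T.map ng).sum % x) ∧
    (∃ T ≤ L, (∀ c ∈ T, c.2.2 % 2 = 0) ∧ (1 + (T.map ps).sum) % y = (T.map ng).sum % y)

theorem lsum_eq (f : C → ℕ) (l : List C) : lsum f l = ((l : Multiset C).map f).sum := by
  induction l with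
  | nil => rfl
  | cons c l ih => simp [lsum, ih]

theorem subs_sound (m : ℕ) : ∀ (l : List C) (P M : ℕ), subs m l P M = true →
    ∀ t : List C, t.Sublist l → (P + lsum ps t) % m ≠ (M + lsum ng t) % m
  | [], P, M, h, t, ht => by
    have : t = [] := by simpa using ht
    subst this
    intro e
    have e' : P % m = M % m := by simpa [lsum] using e
    simp only [subs, e', Nat.beq_refl] at h
    simp at h
  | c :: l, P, M, h, t, ht => by
    simp only [subs, Bool.and_eq_true] at h
    rcases List.sublist_cons_iff.1 ht with ht | ⟨r, rfl, hr⟩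
    · exact subs_sound m l P M h.1 t ht
    · have := subs_sound m l _ _ h.2 r hr
      simpa [lsum, add_assoc] using this

theorem subs_ms (m : ℕ) (l : List C) (p : C → Bool) (h : subs m (l.filter p) 1 0 = true)
    (T : Multiset C) (hT : T ≤ (l : Multiset C)) (hp : ∀ c ∈ T, p c = true) :
    (1 + (T.map ps).sum) % m ≠ (T.map ng).sum % m := by
  induction T using Quot.inductionOn with
  | h t =>
    obtain ⟨t', ht', hs⟩ := (Multiset.coe_le.1 hT)
    have hf : t'.filter p = t' := by
      rw [List.filter_eq_self]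
      intro c hc
      exact hp c (by simpa using ht'.mem_iff.1 hc)
    have h1 := subs_sound m _ 1 0 h t' (by rw [← hf]; exact hs.filter p)
    have e : (Quot.mk _ t : Multiset C) = (t' : Multiset C) := (Multiset.coe_eq_coe.2 ht').symm
    rw [e, ← lsum_eq, ← lsum_eq]
    simpa using h1

theorem leafOK_sound {x y q bd : ℕ} {l : List C} (h : leafOK x y q bd l = true) :
    ¬ BadL x y q bd (l : Multiset C) := by
  rintro ⟨h1, ⟨T, hT, hTq, hTx⟩, ⟨T', hT', hTq', hTx'⟩⟩
  simp only [leafOK, Bool.or_eq_true] at h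
  rcases h with h | h | h
  · have : lsum (ng3 (x * y)) l + 9 * bd < x * y + lsum (ps3 (x * y)) l := by
      simpa [Nat.blt_eq] using h
    rw [lsum_eq, lsum_eq] at this
    omega
  · exact subs_ms x l _ h T hT (fun c hc => by simpa [Nat.beq_eq] using hTq c hc) hTx
  · exact subs_ms y l _ h T' hT' (fun c hc => by simpa [Nat.beq_eq] using hTq' c hc) hTx'

theorem sum_le (f : C → ℕ) (hf : ∀ c, f c ≤ c.2.1 * c.2.2) (D : ℕ) (L : Multiset C)
    (h1 : ∀ c ∈ L, 1 ≤ c.2.1) (hD : ∀ c ∈ L, c.2.2 ≤ D) :
    (L.map f).sum ≤ (L.map wt).sum * D := by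
  induction L using Multiset.induction_on with
  | empty => simp
  | cons c L ih =>
    simp only [Multiset.map_cons, Multiset.sum_cons, add_mul]
    refine Nat.add_le_add ?_ (ih (fun c hc => h1 c (Multiset.mem_cons_of_mem hc))
      (fun c hc => hD c (Multiset.mem_cons_of_mem hc)))
    have a1 := h1 c (Multiset.mem_cons_self c L)
    have a2 := hD c (Multiset.mem_cons_self c L)
    calc f c ≤ c.2.1 * c.2.2 := hf c
      _ ≤ (c.2.1 * c.2.1) * D := by
        have : c.2.1 ≤ c.2.1 * c.2.1 := Nat.le_mul_of_pos_left _ a1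
        exact Nat.mul_le_mul this a2

theorem ps_le (c : C) : ps c ≤ c.2.1 * c.2.2 := by unfold ps; split <;> omega
theorem ng_le (c : C) : ng c ≤ c.2.1 * c.2.2 := by unfold ng; split <;> omega

theorem dfs_sound (x y q bd : ℕ) : ∀ (n : ℕ) (cs : List C) (w P M : ℕ) (acc : List C),
    dfs x y q bd n cs w P M acc = true → srt cs = true → ∀ L : Multiset C, (∀ c ∈ L, c ∈ cs) →
    (L.map wt).sum = w → P + (L.map ps).sum = M + (L.map ng).sum → (∀ c ∈ L, 1 ≤ c.2.1) →
    ¬ BadL x y q bd ((acc : Multiset C) + L)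
  | 0, _, _, _, _, _, h, _, _, _, _, _, _ => by simp [dfs] at h
  | n + 1, [], w, P, M, acc, h, _, L, hL, hw, hP, _ => by
    have hL0 : L = 0 := Multiset.eq_zero_of_forall_notMem fun c hc => by simpa using hL c hc
    subst hL0
    simp at hw
    subst hw
    simp at hP
    subst hP
    have : Nat.beq P P = true := Nat.beq_refl P
    simp only [dfs, this] at h
    simpa using leafOK_sound h
  | n + 1, c :: cs, w, P, M, acc, h, hs, L, hL, hw, hP, h1 => by
    have hs' : (∀ c' ∈ cs, c'.2.2 ≤ c.2.2) ∧ srt cs = true := by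
      simpa [srt, List.all_eq_true] using hs
    have hD : ∀ c' ∈ L, c'.2.2 ≤ c.2.2 := by
      intro c' hc'
      rcases List.mem_cons.1 (hL c' hc') with rfl | h'
      · exact le_rfl
      · exact hs'.1 c' h'
    have b1 := sum_le ps ps_le c.2.2 L h1 hD
    have b2 := sum_le ng ng_le c.2.2 L h1 hD
    rw [hw] at b1 b2
    have n1 : Nat.blt (M + w * c.2.2) P = false := by
      rw [Bool.eq_false_iff]
      intro hh
      rw [Nat.blt_eq] at hh
      omega
    have n2 : Nat.blt (P + w * c.2.2) M = false := by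
      rw [Bool.eq_false_iff]
      intro hh
      rw [Nat.blt_eq] at hh
      omega
    simp only [dfs, n1, n2] at h
    have h2 : dfs x y q bd n cs w P M acc = true := by
      by_contra hne
      rw [Bool.not_eq_true] at hne
      rw [hne] at h
      simp at h
    rw [h2] at h
    by_cases hc : c ∈ L
    · obtain ⟨L', rfl⟩ := Multiset.exists_cons_of_mem hc
      simp only [Multiset.map_cons, Multiset.sum_cons] at hw hP
      have n3 : Nat.blt w (wt c) = false := by
        rw [Bool.eq_false_iff]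
        intro hh
        rw [Nat.blt_eq] at hh
        omega
      simp only [n3, fN_eq] at h
      have := dfs_sound x y q bd n (c :: cs) (w - wt c) (P + ps c) (M + ng c) (c :: acc) h hs L'
        (fun c' hc' => hL c' (Multiset.mem_cons_of_mem hc')) (by omega) (by omega)
        (fun c' hc' => h1 c' (Multiset.mem_cons_of_mem hc'))
      have e : (((c :: acc : List C) : Multiset C) + L') = ((acc : Multiset C) + c ::ₘ L') := by
        rw [← Multiset.cons_coe, Multiset.cons_add, Multiset.add_cons]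
      rwa [e] at this
    · exact dfs_sound x y q bd n cs w P M acc h2 hs'.2 L
        (fun c' hc' => by
          rcases List.mem_cons.1 (hL c' hc') with rfl | h'
          · exact absurd hc' hc
          · exact h') hw hP h1

theorem mem_ins (c c' : C) (l : List C) : c' ∈ ins c l ↔ c' = c ∨ c' ∈ l := by
  induction l with
  | nil => simp [ins]
  | cons d l ih =>
    unfold ins
    split
    · simp
    · simp only [List.mem_cons, ih]
      tauto

theorem mem_isort (c : C) (l : List C) : c ∈ isort l ↔ c ∈ l := by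
  induction l with
  | nil => simp [isort]
  | cons d l ih => simp [isort, mem_ins, ih]

theorem chk_sound {q a b : ℕ} (h : chk q a b = true) (h72 : 2 ^ a * q ^ b % 72 = 8)
    (h1 : 2 ^ a * q ^ b < 72 * bnd q a b) (h2 : 4 * 2 ^ a ≤ 81 * q ^ b)
    (h3 : 4 * q ^ b ≤ 81 * 2 ^ a) (L : Multiset C) (hL : ∀ c ∈ L, c ∈ cands q a b)
    (hw : (L.map wt).sum = 8) (hP : 1 + (L.map ps).sum = (L.map ng).sum)
    (hv : ∀ c ∈ L, 1 ≤ c.2.1) : ¬ BadL (2 ^ a) (q ^ b) q (bnd q a b) L := by
  have e1 : Nat.beq (2 ^ a * q ^ b % 72) 8 = true := by rw [h72]; rfl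
  have e2 : Nat.ble (72 * bnd q a b) (2 ^ a * q ^ b) = false := by
    rw [Bool.eq_false_iff]
    intro hh
    have := Nat.le_of_ble_eq_true hh
    omega
  have e3 : Nat.blt (81 * q ^ b) (4 * 2 ^ a) = false := by
    rw [Bool.eq_false_iff]
    intro hh
    rw [Nat.blt_eq] at hh
    omega
  have e4 : Nat.blt (81 * 2 ^ a) (4 * q ^ b) = false := by
    rw [Bool.eq_false_iff]
    intro hh
    rw [Nat.blt_eq] at hh
    omega
  simp only [chk, e1, e2, e3, e4, fL_eq, fN_eq, Bool.not_true, Bool.false_or, Bool.and_eq_true] at h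
  have := dfs_sound (2 ^ a) (q ^ b) q (bnd q a b) 40 (isort (cands q a b)) 8 1 0 [] h.2 h.1 L
    (fun c hc => (mem_isort c _).2 (hL c hc)) hw (by omega) hv
  simpa using this

end Cfsg.Agent.Lib.H15N2
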