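import Mathlib
import Cfsg.Agent.Lib.H15N2

set_option autoImplicit false
set_option maxRecDepth 100000

namespace Cfsg.Agent.Lib.H15N2

theorem c9 : allB (fun q => Nat.ble q 4 || chk q 9 1) 10369 = true := by decide +kernel

theorem c7 : allB (fun q => Nat.ble q 4 || chk q 7 1) 2593 = true := by decide +kernel

theorem cS : allB (fun a => allB (fun q => Nat.ble q 4 || (Nat.beq q 55 || chk q (a + 3) 1)) 649) 10 =
    true := by decide +kernel

theorem cb : allB (fun b => allB (fun a => allB (fun q => Nat.ble q 4 || chk q (a + 3) (b + 2)) 102) 10)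
    4 = true := by decide +kernel

theorem allB_sound (f : ℕ → Bool) : ∀ n, allB f n = true → ∀ m < n, f m = true
  | 0, _, m, hm => absurd hm (Nat.not_lt_zero m)
  | n + 1, h, m, hm => by
    simp only [allB, Bool.and_eq_true] at h
    rcases Nat.lt_succ_iff_lt_or_eq.1 hm with h' | rfl
    · exact allB_sound f n h.2 m h'
    · exact h.1

/-- region: all cases are covered -/
theorem chk_all {q a b : ℕ} (hq : q.Prime) (q2 : q ≠ 2) (q3 : q ≠ 3) (hb : b ≠ 0)
    (h72 : 2 ^ a * q ^ b % 72 = 8)
    (h1 : 2 ^ a * q ^ b < 72 * bnd q a b) (h2 : 4 * 2 ^ a ≤ 81 * q ^ b)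
    (h3 : 4 * q ^ b ≤ 81 * 2 ^ a) : chk q a b = true := by
  have q5 : 5 ≤ q := by
    have := hq.two_le
    by_contra hlt
    have : q = 4 := by omega
    subst this
    revert hq
    decide
  have hqo : q ^ b % 2 = 1 := Nat.odd_iff.1 ((hq.odd_of_ne_two q2).pow)
  have hq3' : q ^ b % 3 ≠ 0 := by
    intro h
    have := (Nat.prime_dvd_prime_iff_eq Nat.prime_three hq).1
      (Nat.prime_three.dvd_of_dvd_pow (Nat.dvd_of_mod_eq_zero h))
    exact q3 this.symm
  -- 3 ≤ a
  have ha3 : 3 ≤ a := by
    by_contra hlt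
    have : a = 0 ∨ a = 1 ∨ a = 2 := by omega
    rcases this with rfl | rfl | rfl <;> simp at h72 <;> omega
  -- y
  set y := q ^ b with hy
  have hy5 : 5 ≤ y := le_trans q5 (Nat.le_self_pow hb q)
  -- bounds
  have key : a ≤ 12 ∧ y ≤ 10368 ∧ (a ≠ 9 → y ≤ 2592) ∧ (a ≠ 9 → a ≠ 7 → y ≤ 648) := by
    unfold bnd at h1
    rw [← hy] at h1
    rcases Nat.even_or_odd' a with ⟨m, rfl | rfl⟩
    · -- a = 2m
      have hm : (2 * m) % 2 = 0 := by omega
      rw [if_pos hm] at h1
      have hx : 2 ^ (2 * m) = 4 ^ m := by rw [pow_mul]; norm_num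
      rw [hx] at h1 h2 h3 h72
      have hx3 : 4 ^ m % 3 = 1 := by
        rw [Nat.pow_mod]; simp
      have hy3 : y % 3 = 2 := by
        have : (4 ^ m * y) % 3 = 2 := by omega
        rw [Nat.mul_mod, hx3] at this
        omega
      rw [if_neg (by omega)] at h1
      have hx1 : 16 ≤ 4 ^ m := by
        have : 2 ≤ m := by omega
        calc 16 = 4 ^ 2 := by norm_num
          _ ≤ 4 ^ m := Nat.pow_le_pow_right (by norm_num) this
      have hyb : y ≤ 558 := by
        by_contra hgt
        have : 4 ^ m * 559 ≤ 4 ^ m * y := Nat.mul_le_mul_left _ (by omega)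
        omega
      have hm6 : m ≤ 6 := by
        by_contra hgt
        have : 4 ^ 7 ≤ 4 ^ m := Nat.pow_le_pow_right (by norm_num) (by omega)
        omega
      refine ⟨by omega, by omega, fun _ => by omega, fun _ _ => by omega⟩
    · have hm : (2 * m + 1) % 2 ≠ 0 := by omega
      rw [if_neg hm] at h1
      have hx : 2 ^ (2 * m + 1) = 2 * 4 ^ m := by rw [pow_succ, pow_mul]; norm_num; ring
      have hx' : 2 ^ (2 * m + 1 - 1) = 4 ^ m := by
        rw [Nat.add_sub_cancel, pow_mul]; norm_num
      rw [hx, hx'] at h1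
      rw [hx] at h2 h3 h72
      have h1' : 2 * 4 ^ m * y < 72 * (34 + 3 * (4 ^ m - 1) + 12 * y) := by
        refine lt_of_lt_of_le h1 ?_
        split <;> omega
      have hm5 : m ≤ 5 := by
        by_contra hgt
        have hX : 4 ^ 6 ≤ 4 ^ m := Nat.pow_le_pow_right (by norm_num) (by omega)
        norm_num at hX
        generalize 4 ^ m = X at *
        -- X ≥ 4096, y ≥ 8X/81
        have hyX : 8 * X ≤ 81 * y := by omega
        have h405 : 405 ≤ y := by omega
        have e1 : X * 405 ≤ X * y := Nat.mul_le_mul_left _ h405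
        have e2 : 4096 * y ≤ X * y := Nat.mul_le_mul_right _ hX
        have e3 : 2 * X * y = 2 * (X * y) := by ring
        rw [e3] at h1'
        omega
      have : m = 0 ∨ m = 1 ∨ m = 2 ∨ m = 3 ∨ m = 4 ∨ m = 5 := by omega
      have hp : (m = 1 ∧ 4 ^ m = 4) ∨ (m = 2 ∧ 4 ^ m = 16) ∨ (m = 3 ∧ 4 ^ m = 64) ∨ (m = 4 ∧ 4 ^ m = 256) ∨
          (m = 5 ∧ 4 ^ m = 1024) := by
        rcases this with rfl | rfl | rfl | rfl | rfl | rfl
        · omega
        all_goals norm_num
      clear this h1 hx hx' h72
      rcases hp with ⟨hm', e⟩ | ⟨hm', e⟩ | ⟨hm', e⟩ | ⟨hm', e⟩ | ⟨hm', e⟩ <;> rw [e] at h1' h2 h3 <;>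
        exact ⟨by omega, by omega, fun _ => by omega, fun _ _ => by omega⟩
  have ha : a - 3 < 10 := by omega
  have ea : a - 3 + 3 = a := by omega
  rcases Nat.lt_or_ge b 2 with hb1 | hb2
  · have hb1' : b = 1 := by omega
    have hyq : y = q := by rw [hy, hb1', pow_one]
    rw [hb1']
    by_cases h9 : a = 9
    · subst h9
      have := allB_sound _ _ c9 q (by omega)
      simp only [Bool.or_eq_true] at this
      rcases this with h | h
      · have := Nat.le_of_ble_eq_true h; omega
      · exact h
    by_cases h7 : a = 7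
    · subst h7
      have := allB_sound _ _ c7 q (by omega)
      simp only [Bool.or_eq_true] at this
      rcases this with h | h
      · have := Nat.le_of_ble_eq_true h; omega
      · exact h
    have := allB_sound _ _ (allB_sound _ _ cS (a - 3) ha) q (by omega)
    simp only [Bool.or_eq_true, ea] at this
    rcases this with h | h | h
    · have := Nat.le_of_ble_eq_true h; omega
    · have := Nat.eq_of_beq_eq_true h
      subst this
      exfalso
      revert hq
      norm_num
    · exact h
  · have hq101 : q < 102 := by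
      by_contra hgt
      have : 102 ^ 2 ≤ q ^ b := (Nat.pow_le_pow_left (by omega) 2).trans
        (Nat.pow_le_pow_right (by omega) hb2)
      omega
    have hb5 : b - 2 < 4 := by
      by_contra hgt
      have : 5 ^ 6 ≤ q ^ b := (Nat.pow_le_pow_left q5 6).trans
        (Nat.pow_le_pow_right (by omega) (by omega))
      omega
    have := allB_sound _ _ (allB_sound _ _ (allB_sound _ _ cb (b - 2) hb5) (a - 3) ha) q hq101
    have eb : b - 2 + 2 = b := by omega
    simp only [Bool.or_eq_true, ea, eb] at this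
    rcases this with h | h
    · have := Nat.le_of_ble_eq_true h; omega
    · exact h

end Cfsg.Agent.Lib.H15N2
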