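import Mathlib
import Cfsg.Agent.Lib.H15N3
import Cfsg.Agent.Lib.H15N4

set_option autoImplicit false

namespace Cfsg.Agent.Lib.H15N2

open Cfsg.Agent.Lib.H15S

def tr (v : ℤ) (d : ℕ) : C := (decide (v < 0), v.natAbs, d)

theorem ps_ng (v : ℤ) (d : ℕ) : (ps (tr v d) : ℤ) - ng (tr v d) = v * d := by
  unfold ps ng tr
  by_cases h : v < 0
  · have hv : ((v.natAbs : ℕ) : ℤ) = -v := by omega
    simp only [h, decide_true, if_true, Nat.cast_mul, Nat.cast_zero, hv]
    ring
  · have hv : ((v.natAbs : ℕ) : ℤ) = v := by omega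
    simp only [h, decide_false, Bool.false_eq_true, if_false, Nat.cast_mul, Nat.cast_zero, hv]
    ring

theorem ps3_ng3 (v : ℤ) (d z : ℕ) (hd : d ∣ z) (hd0 : d ≠ 0) :
    ((ps3 z (tr v d) : ℕ) : ℚ) - (ng3 z (tr v d) : ℕ) = z * ((v : ℚ) ^ 3 / d) := by
  obtain ⟨e, rfl⟩ := hd
  have hd0' : (d : ℚ) ≠ 0 := by exact_mod_cast hd0
  unfold ps3 ng3 tr
  have he : d * e / d = e := Nat.mul_div_cancel_left e (Nat.pos_of_ne_zero hd0)
  by_cases h : v < 0
  · have hvz : ((v.natAbs : ℕ) : ℤ) = -v := by omega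
    have hv : ((v.natAbs : ℕ) : ℚ) = -(v : ℚ) := by
      rw [← Int.cast_natCast, hvz, Int.cast_neg]
    simp only [h, decide_true, if_true, he, Nat.cast_mul, Nat.cast_zero, hv]
    field_simp
    ring
  · have hvz : ((v.natAbs : ℕ) : ℤ) = v := by omega
    have hv : ((v.natAbs : ℕ) : ℚ) = (v : ℚ) := by
      rw [← Int.cast_natCast, hvz]
    simp only [h, decide_false, Bool.false_eq_true, if_false, he, Nat.cast_mul, Nat.cast_zero, hv]
    field_simp
    ring

theorem num_search {ι : Type*} [Fintype ι] {v : ι → ℤ} {d : ι → ℕ} {T T' : Finset ι} {q a b N : ℕ}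
    (h : NumData v d T T' q a b N)
    (hr : 4 * 2 ^ a ≤ 81 * q ^ b ∧ 4 * q ^ b ≤ 81 * 2 ^ a ∧ 2 ^ a * q ^ b < 72 * N)
    (h72 : 2 ^ a * q ^ b % 72 = 8)
    (hb : N ≤ 34 + (if a % 2 = 0 then 6 * (2 ^ a - 1) else 3 * (2 ^ (a - 1) - 1)) +
      (if q ^ b % 3 = 1 then 12 * q ^ b else 0)) : False := by
  have hb' : N ≤ bnd q a b := hb
  have h1 : 2 ^ a * q ^ b < 72 * bnd q a b := by
    have := hr.2.2
    omega
  -- b ≠ 0
  have hb0 : b ≠ 0 := by
    rintro rfl
    have hT : T = ∅ := by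
      rw [Finset.eq_empty_iff_forall_notMem]
      intro i hi
      obtain ⟨s, hs, t, ht, e⟩ := h.dq i
      have ht0 : t = 0 := by omega
      subst ht0
      have h1 := h.Tq i hi
      rw [e, pow_zero, mul_one] at h1
      have := (Nat.prime_dvd_prime_iff_eq h.hq Nat.prime_two).1 (h.hq.dvd_of_dvd_pow h1)
      exact h.q2 this
    have h2 := h.Tx
    rw [hT] at h2
    simp at h2
    have h3 : a = 0 := by
      by_contra ha0
      have h4 : (2 : ℤ) ∣ 1 := (dvd_pow_self 2 ha0).trans h2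
      omega
    subst h3
    simp at h72
  have hchk := chk_all h.hq h.q2 h.q3 hb0 h72 h1 hr.1 hr.2.1
  set L : Multiset C := (Finset.univ : Finset ι).val.map (fun i => tr (v i) (d i)) with hLdef
  have hv8 : ∀ i, v i ^ 2 ≤ 8 := by
    intro i
    have := Finset.single_le_sum (f := fun i => v i ^ 2) (fun j _ => sq_nonneg (v j)) (Finset.mem_univ i)
    rw [h.s8] at this
    exact this
  have hvc : ∀ i, v i = 1 ∨ v i = -1 ∨ v i = 2 ∨ v i = -2 := by
    intro i
    have h1 := hv8 i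
    have h2 := h.v0 i
    have h3 : v i ≤ 2 := by nlinarith
    have h4 : -2 ≤ v i := by nlinarith
    omega
  have hd9 : ∀ i, (d i) ^ 2 < 9 * 2 ^ a * q ^ b := by
    intro i
    have := Finset.single_le_sum (f := fun i => d i ^ 2) (fun j _ => Nat.zero_le _) (Finset.mem_univ i)
    have h2 := h.sq
    omega
  have hdvd : ∀ i, d i ∣ 2 ^ a * q ^ b := by
    intro i
    obtain ⟨s, hs, t, ht, e⟩ := h.dq i
    rw [e]
    exact Nat.mul_dvd_mul (pow_dvd_pow 2 hs) (pow_dvd_pow q ht)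
  have hmem : ∀ c ∈ L, c ∈ cands q a b := by
    intro c hc
    obtain ⟨i, -, rfl⟩ := Multiset.mem_map.1 hc
    obtain ⟨s, hs, t, ht, e⟩ := h.dq i
    unfold cands
    rw [List.mem_flatMap]
    refine ⟨t, List.mem_range.2 (by omega), ?_⟩
    rw [List.mem_filterMap]
    refine ⟨s, List.mem_range.2 (by omega), ?_⟩
    rw [← e]
    have m9 := h.m9 i
    have d1 := h.d1 i
    have d9 := hd9 i
    unfold cand
    rw [if_neg (by omega), if_neg (by rw [← sq]; omega)]
    rcases hvc i with hv | hv | hv | hv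
    · have : d i % 9 = 1 := by omega
      simp [this, tr, hv]
    · have : d i % 9 = 8 := by omega
      simp [this, tr, hv]
    · have : d i % 9 = 2 := by omega
      simp [this, tr, hv]
    · have : d i % 9 = 7 := by omega
      simp [this, tr, hv]
  have hsum : ∀ (f : C → ℕ) (A : Finset ι), ((A.val.map fun i => tr (v i) (d i)).map f).sum =
      ∑ i ∈ A, f (tr (v i) (d i)) := by
    intro f A
    rw [Multiset.map_map]
    rfl
  have hpn : ∀ A : Finset ι, ((∑ i ∈ A, ps (tr (v i) (d i)) : ℕ) : ℤ) - (∑ i ∈ A, ng (tr (v i) (d i)) : ℕ) =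
      ∑ i ∈ A, v i * d i := by
    intro A
    push_cast
    rw [← Finset.sum_sub_distrib]
    exact Finset.sum_congr rfl fun i _ => ps_ng _ _
  refine chk_sound hchk h72 h1 hr.1 hr.2.1 L hmem ?_ ?_ ?_ ?_
  · rw [hLdef, hsum]
    have : ((∑ i, wt (tr (v i) (d i)) : ℕ) : ℤ) = 8 := by
      rw [← h.s8]
      push_cast
      refine Finset.sum_congr rfl fun i _ => ?_
      simp only [wt, tr]
      push_cast
      rw [← sq, sq_abs]
    exact_mod_cast this
  · rw [hLdef, hsum, hsum]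
    have h2 := hpn Finset.univ
    have h3 := h.s1
    omega
  · intro c hc
    obtain ⟨i, -, rfl⟩ := Multiset.mem_map.1 hc
    have := h.v0 i
    simp only [tr]
    omega
  · refine ⟨?_, ⟨T.val.map (fun i => tr (v i) (d i)), ?_, ?_, ?_⟩,
      ⟨T'.val.map (fun i => tr (v i) (d i)), ?_, ?_, ?_⟩⟩
    · rw [hLdef, hsum, hsum]
      have h2 : (((∑ i, ps3 (2 ^ a * q ^ b) (tr (v i) (d i)) : ℕ) : ℚ) -
          (∑ i, ng3 (2 ^ a * q ^ b) (tr (v i) (d i)) : ℕ)) =
          ((2 ^ a * q ^ b : ℕ) : ℚ) * ∑ i, (v i : ℚ) ^ 3 / (d i : ℚ) := by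
        push_cast
        rw [← Finset.sum_sub_distrib, Finset.mul_sum]
        refine Finset.sum_congr rfl fun i _ => ?_
        have := ps3_ng3 (v i) (d i) (2 ^ a * q ^ b) (hdvd i) (by have := h.d1 i; omega)
        rw [this]
        push_cast
        ring
      have h3 := h.hN
      have h4 : ((2 ^ a * q ^ b + ∑ i, ps3 (2 ^ a * q ^ b) (tr (v i) (d i)) : ℕ) : ℚ) =
          ((∑ i, ng3 (2 ^ a * q ^ b) (tr (v i) (d i)) + 9 * N : ℕ) : ℚ) := by
        push_cast at h2 ⊢
        linarith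
      have h5 : 2 ^ a * q ^ b + ∑ i, ps3 (2 ^ a * q ^ b) (tr (v i) (d i)) =
          ∑ i, ng3 (2 ^ a * q ^ b) (tr (v i) (d i)) + 9 * N := by exact_mod_cast h4
      omega
    · exact Multiset.map_le_map (Finset.val_le_iff.2 (Finset.subset_univ T))
    · intro c hc
      obtain ⟨i, hi, rfl⟩ := Multiset.mem_map.1 hc
      exact Nat.mod_eq_zero_of_dvd (h.Tq i hi)
    · rw [hsum, hsum]
      have h2 := hpn T
      have h3 := h.Tx
      rw [← h2] at h3
      have h4 : Nat.ModEq (2 ^ a) (∑ i ∈ T, ng (tr (v i) (d i))) (1 + ∑ i ∈ T, ps (tr (v i) (d i))) := by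
        rw [Nat.modEq_iff_dvd]
        push_cast at h3 ⊢
        rwa [add_sub_assoc]
      exact h4.symm
    · exact Multiset.map_le_map (Finset.val_le_iff.2 (Finset.subset_univ T'))
    · intro c hc
      obtain ⟨i, hi, rfl⟩ := Multiset.mem_map.1 hc
      exact Nat.mod_eq_zero_of_dvd (h.T2 i hi)
    · rw [hsum, hsum]
      have h2 := hpn T'
      have h3 := h.Ty
      rw [← h2] at h3
      have h4 : Nat.ModEq (q ^ b) (∑ i ∈ T', ng (tr (v i) (d i))) (1 + ∑ i ∈ T', ps (tr (v i) (d i))) := by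
        rw [Nat.modEq_iff_dvd]
        push_cast at h3 ⊢
        rwa [add_sub_assoc]
      exact h4.symm

end Cfsg.Agent.Lib.H15N2
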