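import Cfsg.Agent.Lib.H15N0

/-!
# S2220, piece NUM1 (helper44)
-/

set_option autoImplicit false
set_option linter.unusedVariables false
set_option linter.unusedSimpArgs false

namespace Cfsg.Agent.Lib.H15SNUM1

open Cfsg.Agent.Lib.H15S

section

variable {ι : Type*} [Fintype ι] {v : ι → ℤ} {d : ι → ℕ}

theorem v_cases (v0 : ∀ i, v i ≠ 0) (s8 : ∑ i, v i ^ 2 = 8) (i : ι) : v i = 1 ∨ v i = -1 ∨ v i = 2 ∨ v i = -2 := by
  have h1 := Finset.single_le_sum (f := fun i => v i ^ 2) (fun i _ => sq_nonneg _) (Finset.mem_univ i)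
  simp only [s8] at h1
  have h2 : v i ≤ 2 := by nlinarith
  have h3 : -2 ≤ v i := by nlinarith
  have h4 := v0 i
  omega

theorem exists_pos (v0 : ∀ i, v i ≠ 0) (s8 : ∑ i, v i ^ 2 = 8) (s1 : 1 + ∑ i, v i * d i = 0) (d1 : ∀ i, 1 < d i) :
    ∃ i, 0 < v i := by
  by_contra hc
  push Not at hc
  have hne : ∃ i : ι, True := by
    by_contra h
    push Not at h
    have : ∑ i, v i ^ 2 = 0 := Finset.sum_eq_zero fun i _ => (h i).elim
    rw [s8] at this; omega
  obtain ⟨i, -⟩ := hne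
  have hneg : ∀ j, v j ≤ -1 := fun j => by have := v0 j; have := hc j; omega
  have hd : ∀ j, (2 : ℤ) ≤ d j := fun j => by have := d1 j; omega
  have h1 := Finset.single_le_sum (f := fun j => -(v j * (d j : ℤ))) (fun j _ => by
    have := hneg j; have := hd j
    nlinarith) (Finset.mem_univ i)
  simp only [Finset.sum_neg_distrib] at h1
  have h2 := hneg i
  have h3 := hd i
  nlinarith

/-- the sum over a subset and the whole -/
theorem bound (s8 : ∑ i, v i ^ 2 = 8) (s1 : 1 + ∑ i, v i * d i = 0) {x y : ℕ} (hx : 0 < x)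
    (sq : 1 + ∑ i, (d i) ^ 2 ≤ 9 * x * y) (T : Finset ι) {p : ℕ} (hp : 1 < p) (hT : ∀ i ∈ T, p ∣ d i)
    (hxT : (x : ℤ) ∣ 1 + ∑ i ∈ T, v i * d i) : 4 * x ≤ 81 * y := by
  classical
  set m : ℤ := 1 + ∑ i ∈ T, v i * d i with hm
  have hm0 : m ≠ 0 := by
    intro h0
    have h1 : (p : ℤ) ∣ ∑ i ∈ T, v i * d i := Finset.dvd_sum fun i hi =>
      Dvd.dvd.mul_left (Int.natCast_dvd_natCast.2 (hT i hi)) _
    have h2 : (p : ℤ) ∣ 1 := by
      have : (1 : ℤ) = m - ∑ i ∈ T, v i * d i := by rw [hm]; ring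
      rw [this, h0]
      exact dvd_sub (dvd_zero _) h1
    have h3 : (p : ℤ) ≤ 1 := Int.le_of_dvd one_pos h2
    omega
  have hxm : (x : ℤ) ≤ |m| := Int.le_of_dvd (abs_pos.2 hm0) ((dvd_abs _ _).2 hxT)
  have habs : ∀ S : Finset ι, |∑ i ∈ S, v i * (d i : ℤ)| ≤ ∑ i ∈ S, |v i| * (d i : ℤ) := fun S => by
    refine (Finset.abs_sum_le_sum_abs _ _).trans (le_of_eq (Finset.sum_congr rfl fun i _ => ?_))
    rw [abs_mul, abs_of_nonneg (by positivity : (0 : ℤ) ≤ (d i : ℤ))]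
  have h1 : |m| ≤ 1 + ∑ i ∈ T, |v i| * (d i : ℤ) := by
    rw [hm]
    refine (abs_add_le _ _).trans ?_
    rw [abs_one]
    have := habs T
    omega
  have hsplit := Finset.sum_add_sum_compl T (fun i => v i * (d i : ℤ))
  have hsplit' := Finset.sum_add_sum_compl T (fun i => |v i| * (d i : ℤ))
  have h2 : |m| ≤ ∑ i ∈ Tᶜ, |v i| * (d i : ℤ) := by
    have h3 : m = - ∑ i ∈ Tᶜ, v i * (d i : ℤ) := by
      rw [hm]; linarith
    rw [h3, abs_neg]
    exact habs _
  set W : ℤ := 1 + ∑ i, |v i| * (d i : ℤ) with hW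
  have hW2 : 2 * (x : ℤ) ≤ W := by linarith
  have hCS : W ^ 2 ≤ 9 * (1 + ∑ i, (d i : ℤ) ^ 2) := by
    have h3 := Finset.sum_mul_sq_le_sq_mul_sq (Finset.univ : Finset (Option ι)) (fun o => o.elim (1 : ℤ) (fun i => |v i|))
      (fun o => o.elim (1 : ℤ) (fun i => (d i : ℤ)))
    simp only [Fintype.sum_option, Option.elim_none, Option.elim_some, mul_one, one_pow, sq_abs, s8] at h3
    calc W ^ 2 ≤ _ := h3
      _ = _ := by norm_num
  have hsq : (1 : ℤ) + ∑ i, (d i : ℤ) ^ 2 ≤ 9 * x * y := by exact_mod_cast sq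
  have h4 : (2 * (x : ℤ)) ^ 2 ≤ W ^ 2 := pow_le_pow_left₀ (by positivity) hW2 2
  have h5 : 4 * (x : ℤ) * x ≤ 81 * y * x := by nlinarith
  have h6 : 4 * (x : ℤ) ≤ 81 * y := le_of_mul_le_mul_right h5 (by exact_mod_cast hx)
  exact_mod_cast h6

theorem f_gt (v0 : ∀ i, v i ≠ 0) (s8 : ∑ i, v i ^ 2 = 8) (s1 : 1 + ∑ i, v i * d i = 0) (d1 : ∀ i, 1 < d i)
    (m9 : ∀ i, (9 : ℤ) ∣ d i - v i) (h7 : ∀ i, v i = -2 → d i ≠ 7) :
    (1 : ℚ) / 8 < 1 + ∑ i, (v i : ℚ) ^ 3 / (d i : ℚ) := by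
  obtain ⟨i0, hi0⟩ := exists_pos v0 s8 s1 d1
  have hdpos : ∀ i, (0 : ℚ) < d i := fun i => by have := d1 i; positivity
  have hterm : ∀ i, 0 ≤ (v i : ℚ) ^ 3 / (d i : ℚ) + (v i : ℚ) ^ 2 / 8 := by
    intro i
    have hd := hdpos i
    rcases v_cases v0 s8 i with h | h | h | h
    · rw [h]; push_cast; positivity
    · have h8 : 8 ≤ d i := by
        have h1 := m9 i; rw [h] at h1; have h2 := d1 i
        obtain ⟨c, hc⟩ := h1
        omega
      have h8' : (8 : ℚ) ≤ d i := by exact_mod_cast h8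
      rw [h]; push_cast
      have : (1 : ℚ) / d i ≤ 1 / 8 := one_div_le_one_div_of_le (by norm_num) h8'
      have e : ((-1 : ℚ)) ^ 3 / (d i : ℚ) = - (1 / d i) := by ring
      rw [e]; linarith
    · rw [h]; push_cast; positivity
    · have h8 : 16 ≤ d i := by
        have h1 := m9 i; rw [h] at h1; have h2 := d1 i; have h3 := h7 i h
        obtain ⟨c, hc⟩ := h1
        omega
      have h8' : (16 : ℚ) ≤ d i := by exact_mod_cast h8
      rw [h]; push_cast
      have : (1 : ℚ) / d i ≤ 1 / 16 := one_div_le_one_div_of_le (by norm_num) h8'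
      have e : ((-2 : ℚ)) ^ 3 / (d i : ℚ) = - (8 * (1 / d i)) := by ring
      rw [e]; linarith
  have h1 := Finset.single_le_sum (f := fun i => (v i : ℚ) ^ 3 / (d i : ℚ) + (v i : ℚ) ^ 2 / 8) (fun i _ => hterm i)
    (Finset.mem_univ i0)
  simp only [Finset.sum_add_distrib] at h1
  have h2 : ∑ i, (v i : ℚ) ^ 2 / 8 = 1 := by
    rw [← Finset.sum_div]
    have : ∑ i, (v i : ℚ) ^ 2 = 8 := by exact_mod_cast s8
    rw [this]; norm_num
  rw [h2] at h1
  have hd := hdpos i0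
  have h3 : (1 : ℚ) / 8 < (v i0 : ℚ) ^ 3 / (d i0 : ℚ) + (v i0 : ℚ) ^ 2 / 8 := by
    have hp : (0 : ℚ) < (v i0 : ℚ) := by exact_mod_cast hi0
    have hp1 : (1 : ℚ) ≤ (v i0 : ℚ) := by exact_mod_cast hi0
    have h4 : (0 : ℚ) < (v i0 : ℚ) ^ 3 / (d i0 : ℚ) := by positivity
    have h5 : (1 : ℚ) ≤ (v i0 : ℚ) ^ 2 := by nlinarith
    linarith
  linarith

theorem no7 (v0 : ∀ i, v i ≠ 0) (s8 : ∑ i, v i ^ 2 = 8) (s1 : 1 + ∑ i, v i * d i = 0) (d1 : ∀ i, 1 < d i)
    (m9 : ∀ i, (9 : ℤ) ∣ d i - v i) {q : ℕ} (hq : q.Prime) (q2 : q ≠ 2) (dq : ∀ i, ∃ s t, d i = 2 ^ s * q ^ t)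
    {i0 : ι} (h0 : v i0 = -2) (h0' : d i0 = 7) : 1 + ∑ i, (v i : ℚ) ^ 3 / (d i : ℚ) ≤ 0 := by
  classical
  -- q = 7
  have hq7 : q = 7 := by
    obtain ⟨s, t, hst⟩ := dq i0
    rw [h0'] at hst
    have h1 : t ≠ 0 := by
      rintro rfl
      rw [pow_zero, mul_one] at hst
      rcases s with _ | s
      · simp at hst
      · rw [pow_succ] at hst; omega
    have h2 : q ∣ 7 := hst ▸ Dvd.dvd.mul_left (dvd_pow_self q h1) _
    exact (Nat.prime_dvd_prime_iff_eq hq (by norm_num)).1 h2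
  -- no other element with v = 2
  have hsum : ∑ i ∈ Finset.univ.erase i0, v i ^ 2 = 4 := by
    have := Finset.add_sum_erase Finset.univ (fun i => v i ^ 2) (Finset.mem_univ i0)
    simp only [s8, h0] at this
    linarith
  have hno2 : ∀ i, v i ≠ 2 := by
    intro i hi
    have hne : i ≠ i0 := by rintro rfl; omega
    have h1 := Finset.add_sum_erase (Finset.univ.erase i0) (fun i => v i ^ 2) (Finset.mem_erase.2 ⟨hne, Finset.mem_univ i⟩)
    simp only [hsum, hi] at h1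
    have h2 : ∑ x ∈ (Finset.univ.erase i0).erase i, v x ^ 2 = 0 := by linarith
    have h3 := (Finset.sum_eq_zero_iff_of_nonneg (fun j _ => sq_nonneg _)).1 h2
    have h4 : ∑ x ∈ (Finset.univ.erase i0).erase i, v x * (d x : ℤ) = 0 := Finset.sum_eq_zero fun j hj => by
      exact absurd (pow_eq_zero_iff (two_ne_zero) |>.1 (h3 j hj)) (v0 j)
    have h5 := Finset.add_sum_erase (Finset.univ.erase i0) (fun i => v i * (d i : ℤ)) (Finset.mem_erase.2 ⟨hne, Finset.mem_univ i⟩)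
    have h6 := Finset.add_sum_erase Finset.univ (fun i => v i * (d i : ℤ)) (Finset.mem_univ i0)
    simp only [h4, hi] at h5
    simp only [← h5, h0, h0'] at h6
    rw [← h6] at s1
    push_cast at s1
    omega
  have hterm : ∀ i ∈ Finset.univ.erase i0, (v i : ℚ) ^ 3 / (d i : ℚ) ≤ (v i : ℚ) ^ 2 / 28 := by
    intro i _
    have hd : (0 : ℚ) < d i := by have := d1 i; positivity
    rcases v_cases v0 s8 i with h | h | h | h
    · have h28 : 28 ≤ d i := by
        have h1 := m9 i; rw [h] at h1; have h2 := d1 i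
        obtain ⟨c, hc⟩ := h1
        have h3 : d i = 10 ∨ d i = 19 ∨ 28 ≤ d i := by omega
        obtain ⟨s, t, hst⟩ := dq i
        rw [hq7] at hst
        rcases h3 with h3 | h3 | h3
        · exfalso
          have h5 : 5 ∣ 2 ^ s * 7 ^ t := by rw [← hst, h3]; norm_num
          rcases (Nat.Prime.dvd_mul (by norm_num)).1 h5 with h6 | h6
          · have := Nat.Prime.dvd_of_dvd_pow (by norm_num) h6; omega
          · have := Nat.Prime.dvd_of_dvd_pow (by norm_num) h6; omega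
        · exfalso
          have h5 : 19 ∣ 2 ^ s * 7 ^ t := by rw [← hst, h3]
          rcases (Nat.Prime.dvd_mul (by norm_num)).1 h5 with h6 | h6
          · have := Nat.Prime.dvd_of_dvd_pow (by norm_num) h6; omega
          · have := Nat.Prime.dvd_of_dvd_pow (by norm_num) h6; omega
        · exact h3
      have h28' : (28 : ℚ) ≤ d i := by exact_mod_cast h28
      rw [h]; push_cast
      have : (1 : ℚ) / d i ≤ 1 / 28 := one_div_le_one_div_of_le (by norm_num) h28'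
      have e : ((1 : ℚ)) ^ 3 / (d i : ℚ) = 1 / d i := by ring
      rw [e]; linarith
    · rw [h]; push_cast
      have : (0 : ℚ) < 1 / d i := by positivity
      have e : ((-1 : ℚ)) ^ 3 / (d i : ℚ) = - (1 / d i) := by ring
      rw [e]; linarith
    · exact absurd h (hno2 i)
    · rw [h]; push_cast
      have : (0 : ℚ) < 1 / d i := by positivity
      have e : ((-2 : ℚ)) ^ 3 / (d i : ℚ) = - (8 * (1 / d i)) := by ring
      rw [e]; linarith
  have h1 := Finset.sum_le_sum hterm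
  rw [← Finset.sum_div] at h1
  have h2 : ∑ i ∈ Finset.univ.erase i0, (v i : ℚ) ^ 2 = 4 := by exact_mod_cast hsum
  rw [h2] at h1
  rw [← Finset.add_sum_erase Finset.univ (fun i => (v i : ℚ) ^ 3 / (d i : ℚ)) (Finset.mem_univ i0), h0, h0']
  push_cast
  linarith

end

/-- piece NUM1 -/
theorem num_region {ι : Type*} [Fintype ι] {v : ι → ℤ} {d : ι → ℕ} {T T' : Finset ι} {q a b N : ℕ}
    (h : NumData v d T T' q a b N) :
    4 * 2 ^ a ≤ 81 * q ^ b ∧ 4 * q ^ b ≤ 81 * 2 ^ a ∧ 2 ^ a * q ^ b < 72 * N := by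
  have hx : 0 < 2 ^ a := by positivity
  have hq0 : 0 < q := h.hq.pos
  have hy : 0 < q ^ b := by positivity
  refine ⟨?_, ?_, ?_⟩
  · exact bound h.s8 h.s1 hx h.sq T h.hq.one_lt h.Tq (by have := h.Tx; push_cast; exact this)
  · exact bound h.s8 h.s1 hy (by have := h.sq; rw [mul_right_comm] at this; exact this) T' (by norm_num : 1 < 2) h.T2
      (by have := h.Ty; push_cast; exact this)
  · have hf : (1 : ℚ) / 8 < 1 + ∑ i, (v i : ℚ) ^ 3 / (d i : ℚ) := by
      by_cases h7 : ∃ i, v i = -2 ∧ d i = 7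
      · exfalso
        obtain ⟨i0, h0, h0'⟩ := h7
        have h1 := no7 h.v0 h.s8 h.s1 h.d1 h.m9 h.hq h.q2 (fun i => by
          obtain ⟨s, -, t, -, e⟩ := h.dq i
          exact ⟨s, t, e⟩) h0 h0'
        have h2 := h.hN
        have h3 : (0 : ℚ) < N := by exact_mod_cast h.N1
        have h4 : (0 : ℚ) < (2 : ℚ) ^ a * (q : ℚ) ^ b := by positivity
        have h5 : (2 : ℚ) ^ a * (q : ℚ) ^ b * (1 + ∑ i, (v i : ℚ) ^ 3 / (d i : ℚ)) ≤ 0 :=
          mul_nonpos_of_nonneg_of_nonpos h4.le h1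
        linarith
      · push Not at h7
        exact f_gt h.v0 h.s8 h.s1 h.d1 h.m9 h7
    have h4 : (0 : ℚ) < (2 : ℚ) ^ a * (q : ℚ) ^ b := by positivity
    have h5 : (2 : ℚ) ^ a * (q : ℚ) ^ b * (1 / 8) < (2 : ℚ) ^ a * (q : ℚ) ^ b * (1 + ∑ i, (v i : ℚ) ^ 3 / (d i : ℚ)) :=
      mul_lt_mul_of_pos_left hf h4
    rw [← h.hN] at h5
    have h6 : (2 : ℚ) ^ a * (q : ℚ) ^ b < 72 * N := by linarith
    exact_mod_cast h6

end Cfsg.Agent.Lib.H15SNUM1
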