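import Cfsg.Prelude

set_option autoImplicit false
set_option linter.all false

/-!
# S4371-PLAN piece R2a: `5:4` acting on an elementary abelian 2-group gives an element of order 8
-/

namespace Cfsg.Agent.Lib.H15R

open Subgroup Cfsg

/-- a Frobenius group `5:4` acting fixed point freely on an elementary abelian 2-group: a nontrivial norm -/
theorem exists_norm_ne_one {V : Type*} [CommGroup V] (h2 : ∀ v : V, v ^ 2 = 1) {X Y : MulAut V} (hX : X ^ 5 = 1)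
    (hXY : Y * X = X ^ 2 * Y) (hfix : ∀ v : V, X v = v → v = 1) {v : V} (hv : v ≠ 1) :
    ∃ j : ℕ, v * (X ^ j * Y) v * ((X ^ j * Y) ^ 2) v * ((X ^ j * Y) ^ 3) v ≠ 1 := by
  by_contra hcon
  push Not at hcon
  apply hv
  have hs : ∀ n : ℕ, Y * X ^ n = X ^ (2 * n) * Y := by
    intro n
    have h : SemiconjBy Y X (X ^ 2) := hXY
    have := h.pow_right n
    rw [← pow_mul] at this
    exact this
  have hmod : ∀ n : ℕ, X ^ n = X ^ (n % 5) := by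
    intro n
    conv_lhs => rw [← Nat.div_add_mod n 5]
    rw [pow_add, pow_mul, hX, one_pow, one_mul]
  have hg2 : ∀ j : ℕ, (X ^ j * Y) ^ 2 = X ^ (3 * j) * Y ^ 2 := by
    intro j
    rw [pow_two (X ^ j * Y), mul_assoc, ← mul_assoc Y, hs, mul_assoc (X ^ (2 * j)), ← mul_assoc, ← pow_add, ← pow_two]
    congr 2
    ring
  have hg3 : ∀ j : ℕ, (X ^ j * Y) ^ 3 = X ^ (7 * j) * Y ^ 3 := by
    intro j
    have h4 : Y ^ 2 * X ^ j = X ^ (4 * j) * Y ^ 2 := by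
      rw [pow_two, mul_assoc, hs, ← mul_assoc, hs, mul_assoc]
      congr 2
      ring
    rw [pow_succ, hg2, mul_assoc, ← mul_assoc (Y ^ 2), h4, mul_assoc (X ^ (4 * j)), ← mul_assoc, ← pow_add, ← pow_succ]
    congr 2
    ring
  have hT : ∀ w : V, w * (X ^ 1) w * (X ^ 2) w * (X ^ 3) w * (X ^ 4) w = 1 := by
    intro w
    apply hfix
    simp only [map_mul, ← MulAut.mul_apply]
    have e0 : X * X ^ 1 = X ^ 2 := by rw [← pow_succ']
    have e1 : X * X ^ 2 = X ^ 3 := by rw [← pow_succ']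
    have e2 : X * X ^ 3 = X ^ 4 := by rw [← pow_succ']
    have e3 : X * X ^ 4 = 1 := by rw [← pow_succ', hX]
    rw [e0, e1, e2, e3, pow_one, MulAut.one_apply]
    rw [mul_comm _ w, ← mul_assoc, ← mul_assoc, ← mul_assoc]
  have k0 := hcon 0
  have k1 := hcon 1
  have k2 := hcon 2
  have k3 := hcon 3
  have k4 := hcon 4
  rw [hg2, hg3] at k0 k1 k2 k3 k4
  rw [hmod (3 * 2), hmod (7 * 2)] at k2
  rw [hmod (7 * 1)] at k1
  rw [hmod (3 * 3), hmod (7 * 3)] at k3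
  rw [hmod (3 * 4), hmod (7 * 4)] at k4
  norm_num at k0 k1 k2 k3 k4
  have t1 := hT (Y v)
  have t2 := hT ((Y ^ 2) v)
  have t3 := hT ((Y ^ 3) v)
  have h5 : v ^ 5 = v := by
    rw [show (5 : ℕ) = 2 + 2 + 1 from rfl, pow_succ, pow_add, h2, one_mul, one_mul]
  rw [pow_one] at t1 t2 t3
  have hall : v ^ 5 * (Y v * X (Y v) * (X ^ 2) (Y v) * (X ^ 3) (Y v) * (X ^ 4) (Y v)) *
      ((Y ^ 2) v * X ((Y ^ 2) v) * (X ^ 2) ((Y ^ 2) v) * (X ^ 3) ((Y ^ 2) v) * (X ^ 4) ((Y ^ 2) v)) *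
      ((Y ^ 3) v * X ((Y ^ 3) v) * (X ^ 2) ((Y ^ 3) v) * (X ^ 3) ((Y ^ 3) v) * (X ^ 4) ((Y ^ 3) v)) =
      (v * Y v * (Y ^ 2) v * (Y ^ 3) v) * (v * X (Y v) * (X ^ 3) ((Y ^ 2) v) * (X ^ 2) ((Y ^ 3) v)) *
      (v * (X ^ 2) (Y v) * X ((Y ^ 2) v) * (X ^ 4) ((Y ^ 3) v)) * (v * (X ^ 3) (Y v) * (X ^ 4) ((Y ^ 2) v) * X ((Y ^ 3) v)) *
      (v * (X ^ 4) (Y v) * (X ^ 2) ((Y ^ 2) v) * (X ^ 3) ((Y ^ 3) v)) := by
    clear k0 k1 k2 k3 k4 t1 t2 t3 h5 hcon hT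
    generalize (X ^ 4) (Y v) = a4
    generalize (X ^ 3) (Y v) = a3
    generalize (X ^ 2) (Y v) = a2
    generalize X (Y v) = a1
    generalize (Y v) = a0
    generalize (X ^ 4) ((Y ^ 2) v) = b4
    generalize (X ^ 3) ((Y ^ 2) v) = b3
    generalize (X ^ 2) ((Y ^ 2) v) = b2
    generalize X ((Y ^ 2) v) = b1
    generalize (Y ^ 2) v = b0
    generalize (X ^ 4) ((Y ^ 3) v) = c4
    generalize (X ^ 3) ((Y ^ 3) v) = c3
    generalize (X ^ 2) ((Y ^ 3) v) = c2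
    generalize X ((Y ^ 3) v) = c1
    generalize (Y ^ 3) v = c0
    rw [show v ^ 5 = v * v * v * v * v by simp only [pow_succ, pow_zero, one_mul]]
    ac_rfl
  rw [k0, k1, k2, k3, k4, t1, t2, t3, h5, mul_one, mul_one, mul_one, mul_one, mul_one, mul_one, mul_one] at hall
  exact hall

theorem exists_eight_of_frob {G : Type*} [Group G] {V : Subgroup G} (hV : IsElementaryAbelian 2 V) (hV1 : V ≠ ⊥) {x y : G}
    (hx : orderOf x = 5) (hy : y ^ 4 = 1) (hxy : y * x * y⁻¹ = x ^ 2) (hxV : x ∈ normalizer (V : Set G))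
    (hyV : y ∈ normalizer (V : Set G)) (hfix : ∀ v ∈ V, x * v * x⁻¹ = v → v = 1) : ∃ z : G, orderOf z = 8 := by
  obtain ⟨⟨v0, hv0V⟩, hv0⟩ := Subgroup.ne_bot_iff_exists_ne_one.1 hV1
  haveI := hV.1
  letI : CommGroup V := IsMulCommutative.instCommGroup
  have hx5 : x ^ 5 = 1 := by rw [← hx]; exact pow_orderOf_eq_one x
  let xN : normalizer (V : Set G) := ⟨x, hxV⟩
  let yN : normalizer (V : Set G) := ⟨y, hyV⟩
  let X : MulAut V := V.normalizerMonoidHom xN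
  let Y : MulAut V := V.normalizerMonoidHom yN
  have hval : ∀ (n : normalizer (V : Set G)) (v : V), ((V.normalizerMonoidHom n v : V) : G) = (n : G) * v * (n : G)⁻¹ := fun n v => rfl
  have hX : X ^ 5 = 1 := by
    rw [← map_pow, show xN ^ 5 = 1 from Subtype.ext hx5, map_one]
  have hXY : Y * X = X ^ 2 * Y := by
    rw [← map_pow, ← map_mul, ← map_mul]
    congr 1
    apply Subtype.ext
    show y * x = x ^ 2 * y
    rw [← hxy]
    group
  obtain ⟨j, hj⟩ := exists_norm_ne_one (V := V) (fun v => Subtype.ext (hV.2 v.1 v.2)) hX hXY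
    (fun v hv => Subtype.ext (hfix v.1 v.2 (by rw [← hval xN v]; exact congrArg Subtype.val hv)))
    (v := ⟨v0, hv0V⟩) hv0
  have hx15 : x ^ (15 * j) = 1 := by
    rw [show 15 * j = 5 * (3 * j) by ring, pow_mul, hx5, one_pow]
  have hs : ∀ n : ℕ, y * x ^ n = x ^ (2 * n) * y := by
    intro n
    have h : SemiconjBy y x (x ^ 2) := by
      show y * x = x ^ 2 * y
      rw [← hxy]
      group
    have := h.pow_right n
    rw [← pow_mul] at this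
    exact this
  have hg2 : ∀ j : ℕ, (x ^ j * y) ^ 2 = x ^ (3 * j) * y ^ 2 := by
    intro j
    rw [pow_two (x ^ j * y), mul_assoc, ← mul_assoc y, hs, mul_assoc (x ^ (2 * j)), ← mul_assoc, ← pow_add, ← pow_two]
    congr 2
    ring
  have hg4 : (x ^ j * y) ^ 4 = 1 := by
    have h4 : y ^ 2 * x ^ (3 * j) = x ^ (12 * j) * y ^ 2 := by
      rw [pow_two, mul_assoc, hs, ← mul_assoc, hs, mul_assoc]
      congr 2
      ring
    rw [show (4 : ℕ) = 2 * 2 from rfl, pow_mul, hg2, pow_two (_ * _), mul_assoc, ← mul_assoc (y ^ 2), h4, mul_assoc (x ^ (12 * j)),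
      ← mul_assoc, ← pow_add, ← pow_add, hy, mul_one, ← hx15]
    congr 1
    ring
  let w : V := ⟨v0, hv0V⟩ * (X ^ j * Y) ⟨v0, hv0V⟩ * ((X ^ j * Y) ^ 2) ⟨v0, hv0V⟩ * ((X ^ j * Y) ^ 3) ⟨v0, hv0V⟩
  have hz4 : (v0 * (x ^ j * y)) ^ 4 = (w : G) := by
    have e : X ^ j * Y = V.normalizerMonoidHom (xN ^ j * yN) := by rw [map_mul, map_pow]
    have e2 : (w : G) = v0 * ((x ^ j * y) * v0 * (x ^ j * y)⁻¹) * ((x ^ j * y) ^ 2 * v0 * ((x ^ j * y) ^ 2)⁻¹) *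
        ((x ^ j * y) ^ 3 * v0 * ((x ^ j * y) ^ 3)⁻¹) := by
      show ((⟨v0, hv0V⟩ * (X ^ j * Y) ⟨v0, hv0V⟩ * ((X ^ j * Y) ^ 2) ⟨v0, hv0V⟩ * ((X ^ j * Y) ^ 3) ⟨v0, hv0V⟩ : V) : G) = _
      rw [e, ← map_pow, ← map_pow]
      rfl
    rw [e2]
    generalize x ^ j * y = g at hg4 ⊢
    calc (v0 * g) ^ 4 = v0 * (g * v0 * g⁻¹) * (g ^ 2 * v0 * (g ^ 2)⁻¹) * (g ^ 3 * v0 * (g ^ 3)⁻¹) * g ^ 4 := by
          simp only [pow_succ, pow_zero, one_mul]
          group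
      _ = _ := by rw [hg4, mul_one]
  have hw2 : (w : G) ^ 2 = 1 := hV.2 w w.2
  have hw1 : (w : G) ≠ 1 := fun h => hj (Subtype.ext h)
  refine ⟨v0 * (x ^ j * y), ?_⟩
  have h8 := orderOf_eq_prime_pow (p := 2) (n := 2) (x := v0 * (x ^ j * y)) (by norm_num [hz4]; exact fun h => hw1 (by rw [h]; rfl)) (by
    rw [show 2 ^ (2 + 1) = 4 * 2 from rfl, pow_mul, hz4, hw2])
  rw [h8]
  norm_num

end Cfsg.Agent.Lib.H15R
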