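import Cfsg.Agent.Lib.PSL2Orders
import Cfsg.Agent.Lib.ClSmall
import Cfsg.Agent.Lib.CITEppo3
import Cfsg.Prelude.Def_Solvable

set_option autoImplicit false

/-!
S4371: groups in which no prime divides three element orders; arithmetic (helper15)
-/

namespace Cfsg.Agent.Lib.H15R

open Subgroup Cfsg

/-- no prime divides three distinct element orders -/
def Three (G : Type*) [Group G] : Prop :=
  ∀ p : ℕ, p.Prime → ∀ a b c : G, orderOf a ≠ orderOf b → orderOf b ≠ orderOf c → orderOf a ≠ orderOf c →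
    ¬ (p ∣ orderOf a ∧ p ∣ orderOf b ∧ p ∣ orderOf c)

variable {G : Type*} [Group G] [Finite G]

theorem Three.of_range {H : Type*} [Group H] (h : Three G)
    (hr : Set.range (orderOf : H → ℕ) ⊆ Set.range (orderOf : G → ℕ)) : Three H := by
  intro p hp a b c h1 h2 h3 h4
  obtain ⟨a', ha⟩ := hr ⟨a, rfl⟩
  obtain ⟨b', hb⟩ := hr ⟨b, rfl⟩
  obtain ⟨c', hc⟩ := hr ⟨c, rfl⟩
  apply h p hp a' b' c'
  · rw [ha, hb]; exact h1
  · rw [hb, hc]; exact h2
  · rw [ha, hc]; exact h3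
  · rw [ha, hb, hc]; exact h4

theorem mem_range_of_dvd {d : ℕ} {x : G} (hd : d ∣ orderOf x) : d ∈ Set.range (orderOf : G → ℕ) := by
  refine ⟨x ^ (orderOf x / d), ?_⟩
  exact orderOf_pow_orderOf_div (orderOf_pos x).ne' hd

theorem mem_range_of_dvd' {d n : ℕ} (hn : n ∈ Set.range (orderOf : G → ℕ)) (hd : d ∣ n) :
    d ∈ Set.range (orderOf : G → ℕ) := by
  obtain ⟨x, rfl⟩ := hn
  exact mem_range_of_dvd hd

theorem Three.quot (h : Three G) (N : Subgroup G) [N.Normal] : Three (G ⧸ N) := by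
  apply h.of_range
  rintro n ⟨x, rfl⟩
  obtain ⟨g, rfl⟩ := QuotientGroup.mk_surjective x
  exact mem_range_of_dvd (orderOf_map_dvd (QuotientGroup.mk' N) g)

theorem Three.equiv {H : Type*} [Group H] (h : Three G) (e : G ≃* H) : Three H := by
  apply h.of_range
  rintro n ⟨x, rfl⟩
  exact ⟨e.symm x, MulEquiv.orderOf_eq e.symm x⟩

theorem Three.false (h : Three G) {p a b c : ℕ} (hp : p.Prime) (ha : a ∈ Set.range (orderOf : G → ℕ))
    (hb : b ∈ Set.range (orderOf : G → ℕ)) (hc : c ∈ Set.range (orderOf : G → ℕ)) (hab : a ≠ b) (hbc : b ≠ c)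
    (hac : a ≠ c) (h1 : p ∣ a) (h2 : p ∣ b) (h3 : p ∣ c) : False := by
  obtain ⟨x, rfl⟩ := ha
  obtain ⟨y, rfl⟩ := hb
  obtain ⟨z, rfl⟩ := hc
  exact h p hp x y z hab hbc hac ⟨h1, h2, h3⟩

theorem Three.omega (h : Three G) {n : ℕ} (hn : n ∈ Set.range (orderOf : G → ℕ)) :
    n.primeFactorsList.length ≤ 2 := by
  by_contra hcon
  push Not at hcon
  have hn0 : n ≠ 0 := by
    rintro rfl
    simp at hcon
  rcases hl : n.primeFactorsList with _ | ⟨p, _ | ⟨q, _ | ⟨s, l⟩⟩⟩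
  · rw [hl] at hcon; simp at hcon
  · rw [hl] at hcon; simp at hcon
  · rw [hl] at hcon; simp at hcon
  · have hp : p.Prime := Nat.prime_of_mem_primeFactorsList (n := n) (by rw [hl]; simp)
    have hq : q.Prime := Nat.prime_of_mem_primeFactorsList (n := n) (by rw [hl]; simp)
    have hs : s.Prime := Nat.prime_of_mem_primeFactorsList (n := n) (by rw [hl]; simp)
    have hprod : p * (q * (s * l.prod)) = n := by
      rw [← Nat.prod_primeFactorsList hn0, hl]; simp
    have h1 : p ∣ n := ⟨_, hprod.symm⟩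
    have h2 : p * q ∣ n := ⟨s * l.prod, by rw [← hprod]; ring⟩
    have h3 : p * q * s ∣ n := ⟨l.prod, by rw [← hprod]; ring⟩
    have hp0 := hp.pos
    have hq2 := hq.two_le
    have hs2 := hs.two_le
    have hpq : p * 2 ≤ p * q := Nat.mul_le_mul_left _ hq2
    have hpqs : (p * q) * 2 ≤ p * q * s := Nat.mul_le_mul_left _ hs2
    exact h.false hp (mem_range_of_dvd' hn h1) (mem_range_of_dvd' hn h2) (mem_range_of_dvd' hn h3)
      (by omega) (by omega) (by omega) dvd_rfl (dvd_mul_right _ _) ((dvd_mul_right _ _).mul_right _)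

/-- the conclusion of S4371 for `PSL₂` -/
theorem psl_arith {F : Type} [Field F] [Fintype F] (h : Three (Matrix.ProjectiveSpecialLinearGroup (Fin 2) F))
    (h4 : 4 ≤ Fintype.card F) :
    (CharP F 2 ∧ (Fintype.card F + 1).primeFactorsList.length ≤ 2 ∧ (Fintype.card F - 1).primeFactorsList.length ≤ 2) ∨
    (5 < Fintype.card F ∧ (Fintype.card F % 8 = 3 ∨ Fintype.card F % 8 = 5) ∧
      ((Fintype.card F + 1) / 2).primeFactorsList.length ≤ 2 ∧ ((Fintype.card F - 1) / 2).primeFactorsList.length ≤ 2) ∨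
    Fintype.card F = 5 ∨ Fintype.card F = 7 ∨ Fintype.card F = 9 := by
  classical
  obtain ⟨p, hchar⟩ := CharP.exists F
  obtain ⟨n, hp, hq⟩ := FiniteField.card F p
  have : Fact p.Prime := ⟨hp⟩
  have hspec := PSL2Orders.spectrum (F := F) p
  have hmem : ∀ m : ℕ, (m ∣ (Fintype.card F - 1) / Nat.gcd 2 (Fintype.card F - 1) ∨
        m ∣ (Fintype.card F + 1) / Nat.gcd 2 (Fintype.card F - 1)) →
        m ∈ Set.range (orderOf : Matrix.ProjectiveSpecialLinearGroup (Fin 2) F → ℕ) := by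
    intro m hm
    rw [hspec]; exact Or.inr hm
  rcases hp.eq_two_or_odd' with rfl | hpo
  · left
    have hodd : Odd (Fintype.card F - 1) := by
      have h5 : Even (Fintype.card F) := by
        rw [hq]; exact (Nat.even_pow.2 ⟨even_two, n.ne_zero⟩)
      exact Nat.Even.sub_odd (by omega) h5 odd_one
    rw [Nat.coprime_two_left.2 hodd, Nat.div_one, Nat.div_one] at hmem
    exact ⟨hchar, h.omega (hmem _ (Or.inr dvd_rfl)), h.omega (hmem _ (Or.inl dvd_rfl))⟩
  · right
    have hodd : Odd (Fintype.card F) := by rw [hq]; exact hpo.pow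
    have hev : 2 ∣ Fintype.card F - 1 := by
      obtain ⟨k, hk⟩ := hodd
      exact ⟨k, by omega⟩
    rw [Nat.gcd_eq_left hev] at hmem
    have h1 := h.omega (hmem _ (Or.inr dvd_rfl))
    have h2 := h.omega (hmem _ (Or.inl dvd_rfl))
    have key : ∀ m : ℕ, m ∈ Set.range (orderOf : Matrix.ProjectiveSpecialLinearGroup (Fin 2) F → ℕ) → 4 ∣ m → m = 4 := by
      intro m hm h4m
      by_contra hne
      have hm0 : m ≠ 0 := by
        rintro rfl
        obtain ⟨x, hx⟩ := hm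
        exact (orderOf_pos x).ne' hx
      obtain ⟨k, hk⟩ := h4m
      refine h.false (p := 2) Nat.prime_two (mem_range_of_dvd' hm ⟨2 * k, by omega⟩ : 2 ∈ _)
        (mem_range_of_dvd' hm ⟨k, hk⟩ : 4 ∈ _) hm (by norm_num) (Ne.symm hne) ?_ (by norm_num) (by norm_num) ⟨2 * k, by omega⟩
      omega
    obtain ⟨k, hk⟩ := hodd
    have hmod : Fintype.card F % 8 = 1 ∨ Fintype.card F % 8 = 3 ∨ Fintype.card F % 8 = 5 ∨ Fintype.card F % 8 = 7 := by omega
    rcases hmod with hmod | hmod | hmod | hmod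
    · have := key _ (hmem _ (Or.inl dvd_rfl)) (by omega)
      right; right; right; omega
    · left
      exact ⟨by omega, Or.inl hmod, h1, h2⟩
    · by_cases h5 : Fintype.card F = 5
      · exact Or.inr (Or.inl h5)
      · left
        exact ⟨by omega, Or.inr hmod, h1, h2⟩
    · have := key _ (hmem _ (Or.inr dvd_rfl)) (by omega)
      right; right; left; omega

/-- the conclusion of S4371 -/
def Concl (G : Type*) [Group G] : Prop :=
    (∃ (F : Type) (_ : Field F) (_ : Fintype F), CharP F 2 ∧ 4 ≤ Fintype.card F ∧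
        (Fintype.card F + 1).primeFactorsList.length ≤ 2 ∧ (Fintype.card F - 1).primeFactorsList.length ≤ 2 ∧
        Nonempty (G ⧸ Cfsg.pCore 2 G ≃* Matrix.ProjectiveSpecialLinearGroup (Fin 2) F)) ∨
    (∃ (F : Type) (_ : Field F) (_ : Fintype F), 5 < Fintype.card F ∧ (Fintype.card F % 8 = 3 ∨ Fintype.card F % 8 = 5) ∧
        ((Fintype.card F + 1) / 2).primeFactorsList.length ≤ 2 ∧ ((Fintype.card F - 1) / 2).primeFactorsList.length ≤ 2 ∧
        Nonempty (G ≃* Matrix.ProjectiveSpecialLinearGroup (Fin 2) F)) ∨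
    (∃ (F : Type) (_ : Field F) (_ : Fintype F), (Fintype.card F = 7 ∨ Fintype.card F = 9) ∧
        Nonempty (G ≃* Matrix.ProjectiveSpecialLinearGroup (Fin 2) F)) ∨
    (∃ (F : Type) (_ : Field F) (_ : Fintype F), Fintype.card F = 4 ∧ Nonempty (G ≃* Matrix.ProjectiveSpecialLinearGroup (Fin 3) F)) ∨
    (∃ n : ℕ, 1 ≤ n ∧ IsSimpleGroup G ∧ Nat.card G = (2 ^ (2 * n + 1)) ^ 2 * ((2 ^ (2 * n + 1)) ^ 2 + 1) * (2 ^ (2 * n + 1) - 1) ∧
        (2 ^ (2 * n + 1) - 1).primeFactorsList.length ≤ 2 ∧ (2 ^ (2 * n + 1) - 2 ^ (n + 1) + 1).primeFactorsList.length ≤ 2 ∧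
        (2 ^ (2 * n + 1) + 2 ^ (n + 1) + 1).primeFactorsList.length ≤ 2)

end Cfsg.Agent.Lib.H15R
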