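import Cfsg.Agent.Lib.H15Rb
import Cfsg.Agent.Lib.H15Tb
import Cfsg.Agent.Lib.CITStr4
import Cfsg.Agent.Lib.CITTen
import Cfsg.Agent.S0348
import Cfsg.Agent.S2202

set_option autoImplicit false

/-!
S4371: the conclusion for `PSL₂`, CIT-groups (helper15)
-/

namespace Cfsg.Agent.Lib.H15R

open Subgroup Cfsg

variable {G : Type*} [Group G] [Finite G]

/-- `PSL(2,4) = PSL(2,5)` -/
theorem exists_four {F : Type} [Field F] [Fintype F] (h5 : Fintype.card F = 5) :
    ∃ (K : Type) (_ : Field K) (_ : Fintype K), CharP K 2 ∧ Fintype.card K = 4 ∧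
      Nonempty (Matrix.ProjectiveSpecialLinearGroup (Fin 2) F ≃* Matrix.ProjectiveSpecialLinearGroup (Fin 2) K) := by
  letI : Fintype (GaloisField 2 2) := Fintype.ofFinite _
  have h4 : Fintype.card (GaloisField 2 2) = 4 := by
    rw [← Nat.card_eq_fintype_card, GaloisField.card 2 2 (by norm_num)]; norm_num
  obtain ⟨e4⟩ := ClSmall.psl2_four (F := GaloisField 2 2) h4
  obtain ⟨e5⟩ := ClSmall.psl2_five h5
  exact ⟨GaloisField 2 2, inferInstance, inferInstance, inferInstance, h4, ⟨e5.trans e4.symm⟩⟩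

theorem pCore_bot_of_simple [IsSimpleGroup G] (hns : ¬ Group.IsSolvable G) : pCore 2 G = ⊥ := by
  haveI : Fact (Nat.Prime 2) := ⟨Nat.prime_two⟩
  haveI hn : (pCore 2 G).Normal := Fitting.normal_pCore 2 (G := G)
  rcases IsSimpleGroup.eq_bot_or_eq_top_of_normal (pCore 2 G) hn with h | h
  · exact h
  · exfalso
    apply hns
    have h1 : IsPGroup 2 G := Cores.pCore_eq_top_iff.1 h
    have := h1.isNilpotent
    infer_instance

theorem even_card {F : Type} [Field F] [Fintype F] [hch : CharP F 2] : 2 ∣ Fintype.card F := by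
  obtain ⟨n, hp, hq⟩ := FiniteField.card F 2
  rw [hq]; exact dvd_pow_self 2 n.ne_zero

theorem concl_of_quot (h : Three G) [(pCore 2 G).Normal] {F : Type} [Field F] [Fintype F] [hch : CharP F 2]
    (h4 : 4 ≤ Fintype.card F) (e : G ⧸ pCore 2 G ≃* Matrix.ProjectiveSpecialLinearGroup (Fin 2) F) : Concl G := by
  left
  have h1 := (h.quot (pCore 2 G)).equiv e
  rcases psl_arith h1 h4 with ⟨-, h2, h3⟩ | h2 | h2
  · exact ⟨F, inferInstance, inferInstance, inferInstance, h4, h2, h3, ⟨e⟩⟩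
  all_goals
    exfalso
    have hev : 2 ∣ Fintype.card F := even_card
    omega

theorem concl_of_psl (h : Three G) (hO : pCore 2 G = ⊥) {F : Type} [Field F] [Fintype F]
    (h4 : 4 ≤ Fintype.card F) (e : G ≃* Matrix.ProjectiveSpecialLinearGroup (Fin 2) F) : Concl G := by
  have hbn : (pCore 2 G).Normal := by rw [hO]; infer_instance
  have e0 : G ⧸ pCore 2 G ≃* G := (QuotientGroup.quotientMulEquivOfEq hO).trans QuotientGroup.quotientBot
  have h1 := h.equiv e
  rcases psl_arith h1 h4 with ⟨h5, h2, h3⟩ | ⟨h2, h3, h5, h6⟩ | h5 | h5 | h5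
  · exact concl_of_quot h h4 (e0.trans e)
  · right; left
    exact ⟨F, inferInstance, inferInstance, h2, h3, h5, h6, ⟨e⟩⟩
  · obtain ⟨K, _, _, hK, hK4, ⟨e1⟩⟩ := exists_four h5
    exact concl_of_quot h hK4.ge ((e0.trans e).trans e1)
  · right; right; left
    exact ⟨F, inferInstance, inferInstance, Or.inl h5, ⟨e⟩⟩
  · right; right; left
    exact ⟨F, inferInstance, inferInstance, Or.inr h5, ⟨e⟩⟩

end Cfsg.Agent.Lib.H15R
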