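import Cfsg.Agent.Lib.H15Rc
import Cfsg.Agent.Lib.AltSix
import Cfsg.Agent.Lib.ClSeven

set_option autoImplicit false

/-!
S4371: CIT-groups (helper15)
-/

namespace Cfsg.Agent.Lib.H15R

open Subgroup Cfsg

variable {G : Type*} [Group G] [Finite G]

/-- statement of piece R1 -/
def SuzOrders (G : Type*) [Group G] : Prop :=
  ∀ m : ℕ, 1 ≤ m → IsSimpleGroup G →
    Nat.card G = (2 ^ (2 * m + 1)) ^ 2 * ((2 ^ (2 * m + 1)) ^ 2 + 1) * (2 ^ (2 * m + 1) - 1) →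
    (∃ x : G, orderOf x = 2 ^ (2 * m + 1) - 1) ∧ (∃ x : G, orderOf x = 2 ^ (2 * m + 1) - 2 ^ (m + 1) + 1) ∧
      (∃ x : G, orderOf x = 2 ^ (2 * m + 1) + 2 ^ (m + 1) + 1)

theorem Three.not_eight (h : Three G) {z : G} (hz : orderOf z = 8) : False :=
  h.false Nat.prime_two (mem_range_of_dvd (x := z) (by rw [hz]; norm_num : 2 ∣ _))
    (mem_range_of_dvd (x := z) (by rw [hz]; norm_num : 4 ∣ _)) ⟨z, hz⟩ (by norm_num) (by norm_num) (by norm_num)
    dvd_rfl (by norm_num) (by norm_num)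

/-- CIT-groups in which no prime divides three element orders -/
theorem cit_case (h : Three G) (hns : ¬ Group.IsSolvable G) (hC : CIT.IsCIT G) (hR1 : SuzOrders G)
    (hR2 : ∀ _ : (pCore 2 G).Normal, pCore 2 G ≠ ⊥ → IsSuzuki (G ⧸ pCore 2 G) → ∃ z : G, orderOf z = 8) : Concl G := by
  rcases hC.structure hns with hs | ⟨hO, N, hN, hidx, F, _, _, hF, ⟨e⟩⟩ | ⟨hO, hn, hs, hC', hTI, hns'⟩
  · have hna : ¬ ∀ a b : G, a * b = b * a := CIT.not_comm_of_not_solvable hns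
    have hab : ∃ a b : G, a * b ≠ b * a := by push Not at hna; exact hna
    have hO := pCore_bot_of_simple hns
    rcases Cfsg.Agent.S0348.result hab hC with ⟨F, _, _, -, ⟨e⟩⟩ | h3 | ⟨-, m, hm, hc⟩
    · exact concl_of_psl h hO (CIT.card_ge_four hna e) e
    · exact Or.inr (Or.inr (Or.inr (Or.inl h3)))
    · obtain ⟨h1, h2, h3⟩ := hR1 m hm hs hc
      exact Or.inr (Or.inr (Or.inr (Or.inr ⟨m, hm, hs, hc, h.omega h1, h.omega h2, h.omega h3⟩)))
  · exfalso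
    obtain ⟨K, hK, hKf, hc, ⟨e6⟩⟩ := Lib.AltSix.psl2_nine_aux
    have e7 := (Lib.ClSeven.pslCongr 2 (FiniteField.ringEquivOfCardEq (hF.trans hc.symm))).trans e6.symm
    obtain ⟨z, hz⟩ := hC.exists_eight hO hN hidx (e.trans e7)
    exact h.not_eight hz
  · have hna : ¬ ∀ a b : G ⧸ pCore 2 G, a * b = b * a := CIT.not_comm_of_not_solvable hns'
    rcases CIT.ti_main hna hC' hTI with ⟨F, _, _, hch, h4, ⟨e⟩⟩ | hsz
    · exact concl_of_quot h h4 e
    · obtain ⟨z, hz⟩ := hR2 hn hO hsz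
      exact (h.not_eight hz).elim

end Cfsg.Agent.Lib.H15R
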