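import Cfsg.Agent.Lib.H15Rc
import Cfsg.Agent.Lib.CITMod
import Cfsg.Agent.S0219
import Cfsg.Agent.S2202

set_option autoImplicit false

/-!
Simple groups with (H) are `PSL₂(F)` (helper15)
-/

namespace Cfsg.Agent.Lib.H15R

open Subgroup Cfsg Cfsg.Agent.Lib.H15T

variable {G : Type*} [Group G] [Finite G] {r : ℕ}

theorem even_card_of_not_solvable (hns : ¬ Group.IsSolvable G) : 2 ∣ Nat.card G := by
  by_contra h
  apply hns
  apply Cfsg.Agent.S0205.result
  rw [← Nat.not_even_iff_odd, even_iff_two_dvd]
  exact h

/-- Sylow 2-subgroups of a nonsolvable group with elementary Sylow 2-subgroups are not cyclic -/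
theorem not_cyclic_of_simple [IsSimpleGroup G] (hns : ¬ Group.IsSolvable G) (S : Sylow 2 G) : ¬ IsCyclic (S : Subgroup G) := by
  intro hcyc
  obtain ⟨H, hH⟩ := Cfsg.Agent.S0219.result (even_iff_two_dvd.2 (even_card_of_not_solvable hns)) S hcyc
  haveI : H.Normal := Subgroup.normal_of_index_eq_two hH
  rcases IsSimpleGroup.eq_bot_or_eq_top_of_normal H inferInstance with h | h
  · rw [h, Subgroup.index_bot] at hH
    apply hns
    haveI : Fact (Nat.Prime 2) := ⟨Nat.prime_two⟩
    have : IsPGroup 2 G := IsPGroup.of_card (n := 1) (by rw [hH, pow_one])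
    have := this.isNilpotent
    infer_instance
  · rw [h, Subgroup.index_top] at hH
    omega

theorem four_le [IsSimpleGroup G] (hns : ¬ Group.IsSolvable G) (S : Sylow 2 G) : 4 ≤ Nat.card S := by
  haveI : Fact (Nat.Prime 2) := ⟨Nat.prime_two⟩
  by_contra hlt
  push Not at hlt
  obtain ⟨n, hn⟩ := S.isPGroup'.exists_card_eq
  have hn2 : n < 2 := (Nat.pow_lt_pow_iff_right (by norm_num : 1 < 2)).1 (by rw [← hn]; exact hlt)
  apply not_cyclic_of_simple hns S
  have : n = 0 ∨ n = 1 := by omega
  rcases this with rfl | rfl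
  · haveI : Subsingleton (S : Subgroup G) := (Nat.card_eq_one_iff_unique.1 (by simpa using hn)).1
    infer_instance
  · exact isCyclic_of_prime_card (p := 2) (by simpa using hn)

/-- no elements of order `2r`: `PSL₂(2ⁿ)` -/
theorem psl_of_cit (h : HypR G r) [IsSimpleGroup G] (hns : ¬ Group.IsSolvable G) (hC : CIT.IsCIT G) :
    ∃ (F : Type) (_ : Field F) (_ : Fintype F), Nonempty (G ≃* Matrix.ProjectiveSpecialLinearGroup (Fin 2) F) := by
  haveI : Fact (Nat.Prime 2) := ⟨Nat.prime_two⟩
  rcases Cfsg.Agent.S2202.result (even_iff_two_dvd.2 (even_card_of_not_solvable hns))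
    (fun t ht => ⟨⟨fun a b => Subtype.ext (h.comm (hC t ht) a.2 b.2)⟩⟩) with h1 | h1 | ⟨F, _, _, A, _, _, hch, hA, ⟨e⟩⟩
  · obtain ⟨S⟩ : Nonempty (Sylow 2 G) := inferInstance
    exact (not_cyclic_of_simple hns S (h1 S)).elim
  · exfalso
    obtain ⟨S⟩ : Nonempty (Sylow 2 G) := inferInstance
    haveI := h1 S
    rcases IsSimpleGroup.eq_bot_or_eq_top_of_normal (S : Subgroup G) inferInstance with h2 | h2
    · have := four_le hns S
      rw [h2, Subgroup.card_bot] at this
      omega
    · apply hns
      have h3 : IsPGroup 2 G := by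
        have := S.isPGroup'
        rw [h2] at this
        exact this.of_equiv Subgroup.topEquiv
      have := h3.isNilpotent
      infer_instance
  · refine ⟨F, inferInstance, inferInstance, ?_⟩
    -- the kernel of the projection to `SL₂(F)`
    let f : G →* Matrix.SpecialLinearGroup (Fin 2) F := (MonoidHom.fst _ _).comp e.toMonoidHom
    have hf : Function.Surjective f := fun x => ⟨e.symm (x, 1), by simp [f]⟩
    rcases IsSimpleGroup.eq_bot_or_eq_top_of_normal f.ker inferInstance with h2 | h2
    · have hinj : Function.Injective f := (MonoidHom.ker_eq_bot_iff f).1 h2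
      exact ⟨(MulEquiv.ofBijective f ⟨hinj, hf⟩).trans CIT.pslSl.symm⟩
    · exfalso
      apply hns
      have h3 : ∀ x : Matrix.SpecialLinearGroup (Fin 2) F, x = 1 := by
        intro x
        obtain ⟨g, rfl⟩ := hf x
        have : g ∈ f.ker := by rw [h2]; trivial
        exact this
      let k : G →* A := (MonoidHom.snd _ _).comp e.toMonoidHom
      have hk : Function.Injective k := by
        intro a b hab
        apply e.injective
        apply Prod.ext
        · rw [h3 (e a).1, h3 (e b).1]
        · exact hab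
      haveI : Group.IsSolvable A := inferInstance
      exact solvable_of_solvable_injective hk

theorem simple_psl' (h : HypR G r) [IsSimpleGroup G] (hns : ¬ Group.IsSolvable G)
    (h4 : ∀ S : Sylow 2 G, Nat.card S = 4 →
      ∃ (F : Type) (_ : Field F) (_ : Fintype F), Nonempty (G ≃* Matrix.ProjectiveSpecialLinearGroup (Fin 2) F))
    (h8 : ∀ S : Sylow 2 G, 8 ≤ Nat.card S → ∀ x : G, orderOf x = 2 * r → False) :
    ∃ (F : Type) (_ : Field F) (_ : Fintype F), 4 ≤ Fintype.card F ∧
      Nonempty (G ≃* Matrix.ProjectiveSpecialLinearGroup (Fin 2) F) := by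
  haveI : Fact (Nat.Prime 2) := ⟨Nat.prime_two⟩
  have hna : ¬ ∀ a b : G, a * b = b * a := CIT.not_comm_of_not_solvable hns
  obtain ⟨F, i1, i2, ⟨e⟩⟩ : ∃ (F : Type) (_ : Field F) (_ : Fintype F),
      Nonempty (G ≃* Matrix.ProjectiveSpecialLinearGroup (Fin 2) F) := by
    by_cases hx : ∃ x : G, orderOf x = 2 * r
    · obtain ⟨x, hx⟩ := hx
      obtain ⟨S⟩ : Nonempty (Sylow 2 G) := inferInstance
      have hS4 := four_le hns S
      rcases lt_or_ge (Nat.card S) 8 with hlt | hge
      · apply h4 S
        obtain ⟨n, hn⟩ := S.isPGroup'.exists_card_eq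
        have hn3 : n < 3 := (Nat.pow_lt_pow_iff_right (by norm_num : 1 < 2)).1 (by rw [← hn]; exact hlt)
        have hn2 : 2 ≤ n := (Nat.pow_le_pow_iff_right (by norm_num : 1 < 2)).1 (by rw [← hn]; exact hS4)
        have : n = 2 := by omega
        rw [hn, this]; norm_num
      · exact (h8 S hge x hx).elim
    · apply psl_of_cit h hns
      intro t ht
      by_contra hC
      obtain ⟨q, hq, hqd, hq2⟩ : ∃ q : ℕ, q.Prime ∧ q ∣ Nat.card (centralizer ({t} : Set G)) ∧ q ≠ 2 := by
        by_contra hcon
        push Not at hcon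
        apply hC
        apply IsPGroup.of_card (n := (Nat.card (centralizer ({t} : Set G))).factorization 2)
        have hne : Nat.card (centralizer ({t} : Set G)) ≠ 0 := Nat.card_pos.ne'
        conv_lhs => rw [← Nat.prod_factorization_pow_eq_self hne]
        rw [Finsupp.prod_of_support_subset (s := {2})]
        · rw [Finset.prod_singleton]
        · intro p hp
          rw [Nat.support_factorization, Nat.mem_primeFactors] at hp
          rw [Finset.mem_singleton]
          exact hcon p hp.1 hp.2.1
        · intro i _; exact pow_zero i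
      rcases h.dvd_cent ht hq hqd with h1 | h1
      · exact hq2 h1
      · subst h1
        haveI := Fact.mk hq
        obtain ⟨y, hy⟩ := exists_prime_orderOf_dvd_card' q hqd
        have hyo : orderOf (y : G) = q := by rw [Subgroup.orderOf_coe]; exact hy
        have hyc : (y : G) * t = t * y := by
          have := y.2
          rw [mem_centralizer_singleton_iff] at this
          exact this.symm ▸ rfl
        apply hx
        refine ⟨(y : G) * t, ?_⟩
        rw [orderOf_mul_of_comm hyc, hyo, ht, mul_comm]
        rw [hyo, ht]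
        exact (Nat.coprime_primes hq Nat.prime_two).2 hq2
  exact ⟨F, i1, i2, CIT.card_ge_four hna e, ⟨e⟩⟩

end Cfsg.Agent.Lib.H15R
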