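import Cfsg.Agent.Lib.MzJ
import Cfsg.Agent.Lib.CITSuz
import Cfsg.Agent.Lib.CITStr4
import Cfsg.Agent.Lib.SuzukiLie
import Mathlib

/-!
Nonsplit-like behaviour: a CIT-group with a nontrivial normal `2`-subgroup and quotient a Suzuki group has an
element of order eight.
-/

set_option autoImplicit false
set_option linter.unusedSectionVars false
open scoped Matrix

namespace Cfsg.Agent.Lib.Mz

open Cfsg.Agent.Lib.SuzukiOvoid Cfsg.Agent.Lib.SuzukiGroup Cfsg.Agent.Lib.SuzukiSyl Cfsg.Agent.Lib.CIT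

universe u

theorem nm_norm {F : Type*} [Field F] [CharP F 2] {θ : F ≃+* F} (hθ : ∀ x, θ (θ x) = x ^ 2) :
    ∃ v : Nm F, v + nm (Ug θ hθ 1 0) v + nm (Ug θ hθ 1 0) (nm (Ug θ hθ 1 0) v) +
      nm (Ug θ hθ 1 0) (nm (Ug θ hθ 1 0) (nm (Ug θ hθ 1 0) v)) ≠ 0 := by
  refine ⟨![0, 0, 0, 1], fun h => ?_⟩
  have c2 : (2 : F) = 0 := CharTwo.two_eq_zero
  have h0 := congrFun h 0
  rw [nm_U, nm_U, nm_U] at h0
  simp [ff] at h0
  ring_nf at h0
  rw [show (11 : F) = 2 * 5 + 1 by norm_num, c2] at h0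
  norm_num at h0

theorem pow_four_aux {G : Type*} [Group G] {a b c d g : G} (h1 : g * a = b * g) (h2 : g * b = c * g)
    (h3 : g * c = d * g) : (a * g) ^ 4 = a * b * c * d * g ^ 4 := by
  obtain rfl : b = g * a * g⁻¹ := by rw [h1]; group
  obtain rfl : c = g * (g * a * g⁻¹) * g⁻¹ := by rw [h2]; group
  obtain rfl : d = g * (g * (g * a * g⁻¹) * g⁻¹) * g⁻¹ := by rw [h3]; group
  simp only [pow_succ, pow_zero, one_mul]
  group

theorem suz_eight {F : Type*} [Field F] [CharP F 2] [Finite F] {θ : F ≃+* F} (hθ : ∀ x, θ (θ x) = x ^ 2)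
    (hne : ∃ x, θ x ≠ x ^ 2) {G : Type u} [Group G] [Finite G] (hG : IsCIT G) (φ : G →* Gz θ)
    (hφ : Function.Surjective φ) (hQ : IsPGroup 2 φ.ker) (hb : φ.ker ≠ ⊥) : ∃ z : G, orderOf z = 8 := by
  haveI : Fact (Nat.Prime 2) := ⟨Nat.prime_two⟩
  obtain ⟨h1, h2, h3⟩ := ext_main hθ hne _ G rfl hG φ hφ hQ
  obtain ⟨f, hf⟩ : ∃ f : Nm F → G, Emb φ f := by
    by_contra hcon
    push Not at hcon
    apply hb
    rw [eq_bot_iff]
    refine h3.trans ?_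
    rw [Subgroup.closure_le]
    rintro x ⟨f, hf, -⟩
    exact absurd hf (hcon f)
  obtain ⟨g, hg⟩ := hφ (Ug θ hθ 1 0)
  have hy4 : Ug θ hθ 1 0 ^ 4 = 1 := by
    have e1 : Ug θ hθ 1 0 * Ug θ hθ 1 0 = Ug θ hθ 0 1 := by rw [Ug_mul]; simp [CharTwo.add_self_eq_zero]
    have e2 : Ug θ hθ 0 1 * Ug θ hθ 0 1 = 1 := Ex.ZZ_self hθ 1
    calc Ug θ hθ 1 0 ^ 4 = (Ug θ hθ 1 0 * Ug θ hθ 1 0) * (Ug θ hθ 1 0 * Ug θ hθ 1 0) := by
          simp only [pow_succ, pow_zero, one_mul, mul_assoc]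
      _ = 1 := by rw [e1, e2]
  have hg4 : φ (g ^ 4) = 1 := by rw [map_pow, hg, hy4]
  by_cases h4 : g ^ 4 = 1
  · obtain ⟨v, hv⟩ := nm_norm hθ
    set y := Ug θ hθ 1 0 with hy
    have hc : ∀ w, g * f w = f (nm y w) * g := by
      intro w
      have := hf.conj g w
      rw [hg, mul_inv_eq_iff_eq_mul] at this
      exact this
    have hz4 : (f v * g) ^ 4 = f (v + nm y v + nm y (nm y v) + nm y (nm y (nm y v))) := by
      rw [pow_four_aux (hc v) (hc _) (hc _), h4, mul_one, hf.add, hf.add, hf.add]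
    refine ⟨f v * g, ?_⟩
    have h8 : orderOf (f v * g) = 2 ^ (2 + 1) := by
      apply orderOf_eq_prime_pow
      · show ¬ (f v * g) ^ 4 = 1
        rw [hz4, ← hf.zero]
        exact fun h => hv (hf.inj h)
      · show (f v * g) ^ 8 = 1
        have : (f v * g) ^ 8 = (f v * g) ^ 4 * (f v * g) ^ 4 := by rw [← pow_add]
        rw [this, hz4]
        exact h2 _ (hf.ker _)
    rw [h8]; norm_num
  · refine ⟨g, ?_⟩
    have h8 : orderOf g = 2 ^ (2 + 1) := by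
      apply orderOf_eq_prime_pow
      · exact h4
      · show g ^ 8 = 1
        have : g ^ 8 = g ^ 4 * g ^ 4 := by rw [← pow_add]
        rw [this]
        exact h2 _ hg4
    rw [h8]; norm_num

theorem suz_quot_iso {G : Type u} [Group G] [Finite G] (hG : IsCIT G) (hO : Cfsg.pCore 2 G ≠ ⊥)
    [hn : (Cfsg.pCore 2 G).Normal] (hS : Cfsg.IsSuzuki (G ⧸ Cfsg.pCore 2 G)) :
    Cfsg.Lie.IsoSuzuki (G ⧸ Cfsg.pCore 2 G) := by
  haveI : Fact (Nat.Prime 2) := ⟨Nat.prime_two⟩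
  haveI := hS.1
  have hp : IsPGroup 2 (Cfsg.pCore 2 G) := Fitting.isPGroup_pCore 2
  have hTI := hG.ti_quot hO
  have h3 := not_three_dvd_suzuki hS
  have hna : ¬ ∀ a b : G ⧸ Cfsg.pCore 2 G, a * b = b * a := by
    intro hc
    obtain ⟨m, hm, hcard⟩ := hS.2
    letI : CommGroup (G ⧸ Cfsg.pCore 2 G) := { (inferInstance : Group (G ⧸ Cfsg.pCore 2 G)) with mul_comm := hc }
    have hp : (Nat.card (G ⧸ Cfsg.pCore 2 G)).Prime := IsSimpleGroup.prime_card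
    rw [hcard, mul_assoc, pow_two, mul_assoc] at hp
    have h1 : 2 ^ (2 * m + 1) ≠ 1 := (Nat.one_lt_two_pow (by omega)).ne'
    have h2 := Nat.Prime.eq_one_or_self_of_dvd hp _ (dvd_mul_right _ _)
    rcases h2 with h2 | h2
    · exact h1 h2
    · have h5 : 0 < 2 ^ (2 * m + 1) := by positivity
      have h6 : 2 ^ (2 * m + 1) * (((2 ^ (2 * m + 1)) * 2 ^ (2 * m + 1) + 1) * (2 ^ (2 * m + 1) - 1)) = 1 := by
        have := Nat.eq_of_mul_eq_mul_left h5 (h2.symm.trans (mul_one _).symm)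
        exact this
      exact h1 (Nat.eq_one_of_mul_eq_one_right h6)
  rcases ti_suz hna (hG.quotient _ hp) hTI with ⟨F, i1, i2, hch, h4, ⟨e⟩⟩ | h
  · exfalso
    apply h3
    obtain ⟨p, hchar⟩ := CharP.exists F
    obtain ⟨k, hp', hpf⟩ := FiniteField.card F p
    have hp2 : p = 2 := CharP.eq F hchar hch
    subst hp2
    rw [Nat.card_congr e.toEquiv]
    exact three_dvd_psl hpf
  · exact h

theorem suz_quot_eight {G : Type u} [Group G] [Finite G] (hG : IsCIT G) (hO : Cfsg.pCore 2 G ≠ ⊥)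
    [hn : (Cfsg.pCore 2 G).Normal] (hS : Cfsg.IsSuzuki (G ⧸ Cfsg.pCore 2 G)) : ∃ z : G, orderOf z = 8 := by
  haveI : Fact (Nat.Prime 2) := ⟨Nat.prime_two⟩
  have hp : IsPGroup 2 (Cfsg.pCore 2 G) := Fitting.isPGroup_pCore 2
  obtain ⟨F, _, _, m, hm, hF, ⟨e⟩⟩ := Cfsg.Agent.Lib.SuzukiLie.isoSuzuki_iff.1 (suz_quot_iso hG hO hS)
  haveI : CharP F 2 := Cfsg.Agent.Lib.SuzukiFin.charTwo hF
  have hθ := Cfsg.Agent.Lib.SuzukiFin.th_sq (F := F) hF
  have hne := Cfsg.Agent.Lib.SuzukiFin.th_ne (F := F) hm hF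
  let e2 : G ⧸ Cfsg.pCore 2 G ≃* Gz (Cfsg.Agent.Lib.SuzukiFin.th F m) :=
    e.trans (MulEquiv.subgroupCongr (Cfsg.Agent.Lib.SuzukiFin.Sz_eq m))
  let φ : G →* Gz (Cfsg.Agent.Lib.SuzukiFin.th F m) :=
    e2.toMonoidHom.comp (QuotientGroup.mk' (Cfsg.pCore 2 G))
  have hφ : Function.Surjective φ := e2.surjective.comp (QuotientGroup.mk'_surjective _)
  have hker : ∀ x, φ x = 1 ↔ x ∈ Cfsg.pCore 2 G := by
    intro x
    rw [← QuotientGroup.eq_one_iff x]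
    exact e2.map_eq_one_iff
  have hk : φ.ker = Cfsg.pCore 2 G := by
    ext x
    exact hker x
  exact suz_eight hθ hne hG φ hφ (by rw [hk]; exact hp) (by rw [hk]; exact hO)

end Cfsg.Agent.Lib.Mz
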