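import Cfsg.Agent.Lib.MzEight
import Cfsg.Agent.Lib.SuzukiTori
import Cfsg.Agent.Lib.SuzukiSyl
import Mathlib

/-!
Orders of tori of Suzuki groups occur as element orders.
-/

set_option autoImplicit false
set_option linter.unusedSectionVars false

namespace Cfsg.Agent.Lib.Mz

open Cfsg.Agent.Lib.SuzukiOvoid Cfsg.Agent.Lib.SuzukiGroup Cfsg.Agent.Lib.SuzukiSyl Cfsg.Agent.Lib.CIT

theorem exists_order_of_cyclic {G : Type*} [Group G] {C : Subgroup G} (hC : IsCyclic C) :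
    ∃ x : G, orderOf x = Nat.card C := by
  obtain ⟨g, hg⟩ := hC.exists_generator
  refine ⟨g, ?_⟩
  rw [Subgroup.orderOf_coe, orderOf_eq_card_of_forall_mem_zpowers hg]

/-- Suzuki groups: order, and elements of the orders of the tori -/
theorem suz_orders {G : Type*} [Group G] (h : Cfsg.Lie.IsoSuzuki G) :
    ∃ m, 1 ≤ m ∧ Nat.card G = (2 ^ (2 * m + 1)) ^ 2 * ((2 ^ (2 * m + 1)) ^ 2 + 1) * (2 ^ (2 * m + 1) - 1) ∧
      (∃ x : G, orderOf x = 2 ^ (2 * m + 1) - 1) ∧ (∃ x : G, orderOf x = 2 ^ (2 * m + 1) - 2 ^ (m + 1) + 1) ∧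
      (∃ x : G, orderOf x = 2 ^ (2 * m + 1) + 2 ^ (m + 1) + 1) := by
  obtain ⟨F, _, _, m, hm, hF, ⟨e⟩⟩ := Cfsg.Agent.Lib.SuzukiLie.isoSuzuki_iff.1 h
  haveI : CharP F 2 := Cfsg.Agent.Lib.SuzukiFin.charTwo hF
  have hθ := Cfsg.Agent.Lib.SuzukiFin.th_sq (F := F) hF
  have hne := Cfsg.Agent.Lib.SuzukiFin.th_ne (F := F) hm hF
  have hF' : Nat.card F = 2 ^ (2 * m + 1) := by rw [Nat.card_eq_fintype_card, hF]
  let e2 : G ≃* Gz (Cfsg.Agent.Lib.SuzukiFin.th F m) :=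
    e.trans (MulEquiv.subgroupCongr (Cfsg.Agent.Lib.SuzukiFin.Sz_eq m))
  have tr : ∀ k : ℕ, (∃ x : Gz (Cfsg.Agent.Lib.SuzukiFin.th F m), orderOf x = k) → ∃ x : G, orderOf x = k := by
    rintro k ⟨x, hx⟩
    exact ⟨e2.symm x, by rw [MulEquiv.orderOf_eq, hx]⟩
  obtain ⟨x, y, hx, hy, -, -, -, -, h1, h2⟩ :=
    SuzukiTori.two_classes (SuzukiFin.th F m) hθ hne hm hF'
  have hxc := SuzukiNoFix.NoFix.cyclic _ hθ hne hx
  have hyc := SuzukiNoFix.NoFix.cyclic _ hθ hne hy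
  refine ⟨m, hm, ?_, tr _ ?_, tr _ ?_, tr _ ?_⟩
  · rw [Nat.card_congr e2.toEquiv, card_G _ hθ hne, hF']
  · obtain ⟨z, hz⟩ := exists_order_of_cyclic (H_cyclic (SuzukiFin.th F m) hθ)
    refine ⟨z, ?_⟩
    rw [hz, card_H, hF']
  · obtain ⟨z, hz⟩ := exists_order_of_cyclic hyc
    refine ⟨z, ?_⟩
    rw [hz]
    have h4 : 2 ^ (m + 1) ≤ 2 ^ (2 * m + 1) := Nat.pow_le_pow_right (by norm_num) (by omega)
    omega
  · obtain ⟨z, hz⟩ := exists_order_of_cyclic hxc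
    exact ⟨z, by rw [hz, h1]⟩

end Cfsg.Agent.Lib.Mz
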