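import Cfsg.Agent.Lib.H15Rd
import Cfsg.Agent.Lib.CITSuz
import Cfsg.Agent.Lib.MzOrd
import Cfsg.Agent.Lib.MzEight

set_option autoImplicit false

/-!
S4371: CIT-groups, final form (helper15)
-/

namespace Cfsg.Agent.Lib.H15R

open Subgroup Cfsg

variable {G : Type*} [Group G] [Finite G]

/-- CIT-groups in which no prime divides three element orders -/
theorem cit_case' (h : Three G) (hns : ¬ Group.IsSolvable G) (hC : CIT.IsCIT G) : Concl G := by
  rcases hC.structure hns with hs | ⟨hO, N, hN, hidx, F, _, _, hF, ⟨e⟩⟩ | ⟨hO, hn, hs, hC', hTI, hns'⟩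
  · have hna : ¬ ∀ a b : G, a * b = b * a := CIT.not_comm_of_not_solvable hns
    have hO := pCore_bot_of_simple hns
    rcases CIT.main_iso hna hC with ⟨F, _, _, -, ⟨e⟩⟩ | h3 | hz
    · exact concl_of_psl h hO (CIT.card_ge_four hna e) e
    · exact Or.inr (Or.inr (Or.inr (Or.inl h3)))
    · obtain ⟨m, hm, hc, h1, h2, h3⟩ := Mz.suz_orders hz
      exact Or.inr (Or.inr (Or.inr (Or.inr ⟨m, hm, hs, hc, h.omega h1, h.omega h2, h.omega h3⟩)))
  · exfalso
    obtain ⟨K, hK, hKf, hc, ⟨e6⟩⟩ := Lib.AltSix.psl2_nine_aux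
    have e7 := (Lib.ClSeven.pslCongr 2 (FiniteField.ringEquivOfCardEq (hF.trans hc.symm))).trans e6.symm
    obtain ⟨z, hz⟩ := hC.exists_eight hO hN hidx (e.trans e7)
    exact h.not_eight hz
  · have hna : ¬ ∀ a b : G ⧸ pCore 2 G, a * b = b * a := CIT.not_comm_of_not_solvable hns'
    rcases CIT.ti_main hna hC' hTI with ⟨F, _, _, hch, h4, ⟨e⟩⟩ | hsz
    · exact concl_of_quot h h4 e
    · obtain ⟨z, hz⟩ := Mz.suz_quot_eight hC hO hsz
      exact (h.not_eight hz).elim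

end Cfsg.Agent.Lib.H15R
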