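import Cfsg.Agent.Lib.H15Rf
import Cfsg.Agent.Lib.H15Re
import Cfsg.Agent.Lib.H15TQ4

set_option autoImplicit false

/-!
S4371: assembly (helper15)
-/

namespace Cfsg.Agent.Lib.H15R

open Subgroup Cfsg Cfsg.Agent.Lib.H15T

variable {G : Type*} [Group G] [Finite G]

/-- a group which is not CIT has elements `t` of order 2 and an element of order `2r`, `r` an odd prime -/
theorem exists_two_mul (hC : ¬ CIT.IsCIT G) : ∃ (r : ℕ) (x : G), r.Prime ∧ r ≠ 2 ∧ orderOf x = 2 * r := by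
  unfold CIT.IsCIT at hC
  push Not at hC
  obtain ⟨t, ht, hC⟩ := hC
  haveI : Fact (Nat.Prime 2) := ⟨Nat.prime_two⟩
  obtain ⟨r, hr, hrd, hr2⟩ : ∃ r : ℕ, r.Prime ∧ r ∣ Nat.card (centralizer ({t} : Set G)) ∧ r ≠ 2 := by
    by_contra hcon
    push Not at hcon
    apply hC
    apply IsPGroup.of_card (n := (Nat.card (centralizer ({t} : Set G))).factorization 2)
    have hne : Nat.card (centralizer ({t} : Set G)) ≠ 0 := Nat.card_pos.ne'
    conv_lhs => rw [← Nat.prod_factorization_pow_eq_self hne]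
    rw [Finsupp.prod_of_support_subset (s := {2})]
    · rw [Finset.prod_singleton]
    · intro p hp
      rw [Nat.support_factorization, Nat.mem_primeFactors] at hp
      rw [Finset.mem_singleton]
      exact hcon p hp.1 hp.2.1
    · intro i _; exact pow_zero i
  haveI := Fact.mk hr
  obtain ⟨y, hy⟩ := exists_prime_orderOf_dvd_card' r hrd
  have hyo : orderOf (y : G) = r := by rw [Subgroup.orderOf_coe]; exact hy
  have hyc : (y : G) * t = t * y := by
    have := y.2
    rw [mem_centralizer_singleton_iff] at this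
    exact this.symm ▸ rfl
  refine ⟨r, (y : G) * t, hr, hr2, ?_⟩
  rw [orderOf_mul_of_comm hyc, hyo, ht, mul_comm]
  rw [hyo, ht]
  exact (Nat.coprime_primes hr Nat.prime_two).2 hr2

theorem Three.hypR (h : Three G) {r : ℕ} (hr : r.Prime) (hr2 : r ≠ 2) {x : G} (hx : orderOf x = 2 * r) : HypR G r := by
  have hxr : 2 * r ∈ Set.range (orderOf : G → ℕ) := ⟨x, hx⟩
  have h2 : 2 ∈ Set.range (orderOf : G → ℕ) := mem_range_of_dvd' hxr (dvd_mul_right _ _)
  have h3 : r ∈ Set.range (orderOf : G → ℕ) := mem_range_of_dvd' hxr (dvd_mul_left _ _)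
  have hr1 := hr.two_le
  refine ⟨hr, hr2, fun z hz => ?_, fun z hz => ?_⟩
  · by_contra hcon
    push Not at hcon
    exact h.false Nat.prime_two h2 hxr ⟨z, rfl⟩ (by omega) (Ne.symm hcon.2) (Ne.symm hcon.1) dvd_rfl
      (dvd_mul_right _ _) hz
  · by_contra hcon
    push Not at hcon
    exact h.false hr h3 hxr ⟨z, rfl⟩ (by omega) (Ne.symm hcon.2) (Ne.symm hcon.1) dvd_rfl
      (dvd_mul_left _ _) hz

theorem main_of (h : Three G) (hns : ¬ Group.IsSolvable G)
    (hAS : ∀ r : ℕ, HypR G r → ∃ L : Subgroup G, L.Normal ∧ IsSimpleGroup L ∧ ¬ Group.IsSolvable L ∧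
      centralizer (L : Set G) = ⊥)
    (hfour : ∀ (r : ℕ) (L : Subgroup G), HypR L r → IsSimpleGroup L → ∀ S : Sylow 2 L, Nat.card S = 4 →
      ∃ (F : Type) (_ : Field F) (_ : Fintype F), Nonempty (L ≃* Matrix.ProjectiveSpecialLinearGroup (Fin 2) F))
    (hbig : ∀ (r : ℕ) (L : Subgroup G), HypR L r → IsSimpleGroup L → ∀ S : Sylow 2 L, 8 ≤ Nat.card S →
      ∀ x : L, orderOf x = 2 * r → False) : Concl G := by
  by_cases hC : CIT.IsCIT G
  · exact cit_case' h hns hC
  obtain ⟨r, x, hr, hr2, hx⟩ := exists_two_mul hC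
  have hR := h.hypR hr hr2 hx
  obtain ⟨L, hL, hLs, hLns, hLc⟩ := hAS r hR
  have hRL := hR.sub L
  obtain ⟨F, _, _, h4, ⟨e⟩⟩ := simple_psl' hRL hLns (hfour r L hRL hLs) (hbig r L hRL hLs)
  have htop := H15TQ4.q4 hR.rp hR.r2 hR.even hR.rr L hL e hLc
  subst htop
  have e' := (Subgroup.topEquiv (G := G)).symm.trans e
  haveI : IsSimpleGroup G := Subgroup.topEquiv.isSimpleGroup_congr.1 hLs
  exact concl_of_psl h (pCore_bot_of_simple hns) h4 e'

end Cfsg.Agent.Lib.H15R
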