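import Mathlib
import Cfsg.Prelude.Def_CaseTheorems

import Cfsg.Agent.Lib.PCoreTools
import Cfsg.Agent.Lib.SylAmb

set_option autoImplicit false

/-! # S3718, piece C (four-group case): base lemmas (helper20) -/

namespace Cfsg.Agent.Lib.H15TC

open Subgroup Cfsg

variable {G : Type*} [Group G]

/-- the odd core of a subgroup, in the ambient group -/
def Oc (X : Subgroup G) : Subgroup G := (oddCore ↥X).map X.subtype

theorem Oc_le (X : Subgroup G) : Oc X ≤ X := Subgroup.map_subtype_le _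

theorem norm_Oc (X : Subgroup G) : normalizer (X : Set G) ≤ normalizer (Oc X : Set G) :=
  PCoreTools.normalizer_le_of_characteristic (PCoreTools.pPrimeCore_characteristic 2 ↥X)

theorem le_norm_Oc (X : Subgroup G) : X ≤ normalizer (Oc X : Set G) := le_normalizer.trans (norm_Oc X)

theorem odd_Oc [Finite G] (X : Subgroup G) : Odd (Nat.card (Oc X)) := by
  have h : (Nat.card (pPrimeCore 2 ↥X)).Coprime 2 := PCoreTools.coprime_card_pPrimeCore 2
  have h2 : Nat.card (Oc X) = Nat.card (pPrimeCore 2 ↥X) := Subgroup.card_map_of_injective X.subtype_injective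
  rw [h2]
  rwa [Nat.coprime_comm, Nat.coprime_two_left] at h

theorem odd_orderOf_of_mem [Finite G] {X : Subgroup G} (hX : Odd (Nat.card X)) {x : G} (hx : x ∈ X) :
    Odd (orderOf x) := by
  have h1 : orderOf x ∣ Nat.card X := by
    have := orderOf_dvd_natCard (⟨x, hx⟩ : X)
    rwa [Subgroup.orderOf_mk] at this
  obtain ⟨c, hc⟩ := h1
  rw [hc] at hX
  exact (Nat.odd_mul.1 hX).1

theorem le_Oc [Finite G] {A L : Subgroup G} (hA : A ≤ L) (hn : L ≤ normalizer (A : Set G))
    (hc : Odd (Nat.card A)) : A ≤ Oc L := by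
  apply PCoreTools.le_map_pPrimeCore hA hn
  intro h
  exact (Nat.not_even_iff_odd.2 hc) (even_iff_two_dvd.2 h)

/-- elements of odd order with trivial square -/
theorem eq_one_of_sq {x : G} (h : x * x = 1) (ho : Odd (orderOf x)) : x = 1 := by
  have h1 : orderOf x ∣ 2 := orderOf_dvd_of_pow_eq_one (by rw [pow_two]; exact h)
  rcases (Nat.dvd_prime Nat.prime_two).1 h1 with h2 | h2
  · exact orderOf_eq_one_iff.1 h2
  · rw [h2] at ho
    exact absurd ho (by decide)

theorem eq_pow_sq {n : G} (ho : Odd (orderOf n)) : ∃ k : ℕ, n = (n ^ 2) ^ k := by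
  obtain ⟨k, hk⟩ := ho
  refine ⟨k + 1, ?_⟩
  have : n ^ (orderOf n + 1) = n := by rw [pow_succ, pow_orderOf_eq_one, one_mul]
  rw [← pow_mul]
  calc n = n ^ (orderOf n + 1) := this.symm
    _ = n ^ (2 * (k + 1)) := by rw [hk]; congr 1

/-- Burnside's transfer theorem in a subgroup containing a Sylow 2-subgroup -/
theorem twoNil [Finite G] (S : Sylow 2 G) {X : Subgroup G} (hSX : (S : Subgroup G) ≤ X)
    (hN : ∀ m ∈ X, m ∈ normalizer ((S : Subgroup G) : Set G) → m ∈ centralizer ((S : Subgroup G) : Set G)) :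
    ∀ x ∈ X, ∃ m ∈ Oc X, ∃ s ∈ (S : Subgroup G), x = m * s := by
  have hS1 : (S.subtype hSX : Subgroup X) = (S : Subgroup G).subgroupOf X := rfl
  have hP : normalizer ((S.subtype hSX : Subgroup X) : Set X) ≤ centralizer ((S.subtype hSX : Subgroup X) : Set X) := by
    intro m hm
    have h1 : (m : G) ∈ normalizer ((S : Subgroup G) : Set G) := by
      rw [mem_normalizer_iff] at hm ⊢
      intro y
      constructor
      · intro hy
        exact (hm ⟨y, hSX hy⟩).1 hy
      · intro hy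
        have hyX : y ∈ X := by
          have := X.mul_mem (X.mul_mem (X.inv_mem m.2) (hSX hy)) m.2
          have e : (m : G)⁻¹ * ((m : G) * y * (m : G)⁻¹) * m = y := by group
          rwa [e] at this
        exact (hm ⟨y, hyX⟩).2 hy
    have h2 := hN m m.2 h1
    rw [mem_centralizer_iff] at h2 ⊢
    intro y hy
    exact Subtype.ext (h2 y hy)
  have hcomp := MonoidHom.ker_transferSylow_isComplement' (S.subtype hSX) hP
  have hnd := MonoidHom.not_dvd_card_ker_transferSylow (S.subtype hSX) hP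
  have hle : (MonoidHom.transferSylow (S.subtype hSX) hP).ker ≤ oddCore X :=
    PCoreTools.le_pPrimeCore' inferInstance hnd
  intro x hx
  obtain ⟨⟨m, s⟩, hms⟩ := hcomp.2 ⟨x, hx⟩
  refine ⟨(m : X), ⟨(m : X), hle m.2, rfl⟩, ((s : X) : G), s.2, ?_⟩
  exact (congrArg Subtype.val hms).symm

/-- with `X = O(X) S`, `S` elementary abelian, odd order elements lie in `O(X)` -/
theorem mem_Oc_of_odd [Finite G] {S X : Subgroup G} (hel : ∀ a ∈ S, a * a = 1) (hSX : S ≤ X)
    (hd : ∀ x ∈ X, ∃ m ∈ Oc X, ∃ s ∈ S, x = m * s) {x : G} (hx : x ∈ X) (ho : Odd (orderOf x)) :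
    x ∈ Oc X := by
  obtain ⟨m, hm, s, hs, rfl⟩ := hd x hx
  obtain ⟨k, hk⟩ := eq_pow_sq ho
  have h2 : (m * s) ^ 2 ∈ Oc X := by
    have e : (m * s) ^ 2 = m * (s * m * s⁻¹) := by
      have : s⁻¹ = s := inv_eq_of_mul_eq_one_left (hel s hs)
      rw [this, pow_two]; group
    rw [e]
    exact (Oc X).mul_mem hm ((mem_normalizer_iff.1 (le_norm_Oc X (hSX hs)) m).1 hm)
  rw [hk]
  exact (Oc X).pow_mem h2 k

end Cfsg.Agent.Lib.H15TC
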