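import Mathlib
import Cfsg.Agent.Lib.H15TCa

set_option autoImplicit false

/-! # S3718, piece C (four-group case): the action on the four-group (helper20) -/

namespace Cfsg.Agent.Lib.H15TC

open Subgroup Cfsg

variable {G : Type*} [Group G]

/-- same fields as `H15T.HypR` -/
structure HR (G : Type*) [Group G] (r : ℕ) : Prop where
  rp : r.Prime
  r2 : r ≠ 2
  even : ∀ x : G, 2 ∣ orderOf x → orderOf x = 2 ∨ orderOf x = 2 * r
  rr : ∀ x : G, r ∣ orderOf x → orderOf x = r ∨ orderOf x = 2 * r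

/-- piece B as a statement -/
def BS (G : Type*) [Group G] (r : ℕ) : Prop :=
  ∀ {A R : Subgroup G}, IsPGroup 2 A → IsPGroup r R → A ≤ normalizer (R : Set G) →
    ∀ {n : G}, n ∈ normalizer (A : Set G) → n ∈ normalizer (R : Set G) → Odd (orderOf n) →
      ∀ {a : G}, a ∈ A → a * n * a⁻¹ * n⁻¹ ∈ centralizer (R : Set G)

theorem HR.odd_r {r : ℕ} (h : HR G r) : Odd r := h.rp.odd_of_ne_two h.r2

theorem HR.sq [Finite G] {r : ℕ} (h : HR G r) {A : Subgroup G} (hA : IsPGroup 2 A) {a : G} (ha : a ∈ A) : a * a = 1 := by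
  obtain ⟨k, hk⟩ := hA ⟨a, ha⟩
  have hk' : a ^ 2 ^ k = 1 := by
    have := congrArg Subtype.val hk
    simpa using this
  obtain ⟨j, -, hj⟩ := (Nat.dvd_prime_pow Nat.prime_two).1 (orderOf_dvd_of_pow_eq_one hk')
  rcases j with _ | j
  · have : a = 1 := by
      rw [← orderOf_eq_one_iff, hj]; rfl
    rw [this, one_mul]
  · have h2 : 2 ∣ orderOf a := by rw [hj, pow_succ]; exact Dvd.intro_left _ rfl
    rcases h.even a h2 with h3 | h3
    · have := pow_orderOf_eq_one a
      rw [h3, pow_two] at this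
      exact this
    · exfalso
      have hr : r ∣ 2 ^ (j + 1) := by rw [← hj, h3]; exact Dvd.intro_left _ rfl
      have := (Nat.prime_dvd_prime_iff_eq h.rp Nat.prime_two).1 (h.rp.dvd_of_dvd_pow hr)
      exact h.r2 this

/-- an odd order element commuting with an involution has `r`-th power `1` -/
theorem HR.pow_r_of_comm [Finite G] {r : ℕ} (h : HR G r) {t k : G} (ht : orderOf t = 2) (hc : k * t = t * k)
    (ho : Odd (orderOf k)) : k ^ r = 1 := by
  have hco : (orderOf k).Coprime (orderOf t) := by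
    rw [ht]; exact (Nat.coprime_two_right).2 ho
  have h1 : orderOf (k * t) = orderOf k * orderOf t :=
    Commute.orderOf_mul_eq_mul_orderOf_of_coprime hc hco
  have h2 : 2 ∣ orderOf (k * t) := by rw [h1, ht]; exact Dvd.intro_left _ rfl
  rw [ht] at h1
  apply orderOf_dvd_iff_pow_eq_one.1
  rcases h.even _ h2 with h3 | h3
  · have : orderOf k = 1 := by omega
    rw [this]; exact one_dvd _
  · have : orderOf k = r := by omega
    rw [this]

/-- an element commuting with an element of order `r` has order a product of `2` and `r` powers -/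
theorem HR.prime_of_comm_r [Finite G] {r : ℕ} (h : HR G r) {k c : G} (hk : orderOf k = r) (hc : c * k = k * c)
    {p : ℕ} (hp : p.Prime) (hd : p ∣ orderOf c) : p = 2 ∨ p = r := by
  by_contra hcon
  push Not at hcon
  obtain ⟨h2, hr⟩ := hcon
  obtain ⟨m, hm⟩ := hd
  have hpos : 0 < orderOf c := orderOf_pos c
  have hc1 : orderOf (c ^ m) = p := by
    have hm0 : m ≠ 0 := by rintro rfl; omega
    rw [orderOf_pow_of_dvd hm0 (by rw [hm]; exact Dvd.intro_left _ rfl), hm]
    exact Nat.mul_div_cancel _ (Nat.pos_of_ne_zero hm0)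
  have hcomm : Commute (c ^ m) k := Commute.pow_left hc m
  have hco : (orderOf (c ^ m)).Coprime (orderOf k) := by
    rw [hc1, hk]; exact (Nat.coprime_primes hp h.rp).2 hr
  have h1 : orderOf (c ^ m * k) = p * r := by
    rw [hcomm.orderOf_mul_eq_mul_orderOf_of_coprime hco, hc1, hk]
  have h3 : r ∣ orderOf (c ^ m * k) := by rw [h1]; exact Dvd.intro_left _ rfl
  have hrpos := h.rp.pos
  rcases h.rr _ h3 with h4 | h4
  · rw [h1] at h4
    have : p = 1 := Nat.eq_of_mul_eq_mul_right hrpos (by rw [h4, one_mul])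
    exact hp.one_lt.ne' this
  · rw [h1] at h4
    exact h2 (Nat.eq_of_mul_eq_mul_right hrpos h4)

theorem HR.pow_r_of_comm_r [Finite G] {r : ℕ} (h : HR G r) {k c : G} (hk : orderOf k = r) (hc : c * k = k * c)
    (ho : Odd (orderOf c)) : c ^ r = 1 := by
  by_cases h1 : orderOf c = 1
  · rw [orderOf_eq_one_iff.1 h1, one_pow]
  · obtain ⟨p, hp, hpd⟩ := Nat.exists_prime_and_dvd h1
    have hpr : p = r := by
      rcases h.prime_of_comm_r hk hc hp hpd with h2 | h2
      · rw [h2] at hpd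
        exact absurd (even_iff_two_dvd.2 hpd) (Nat.not_even_iff_odd.2 ho)
      · exact h2
    rw [hpr] at hpd
    apply orderOf_dvd_iff_pow_eq_one.1
    rcases h.rr _ hpd with h3 | h3
    · rw [h3]
    · rw [h3] at ho
      exact absurd ho (by simp)

theorem isPGroup_of_pow {r : ℕ} {M : Subgroup G} (h : ∀ m ∈ M, m ^ r = 1) : IsPGroup r M := by
  intro m
  exact ⟨1, Subtype.ext (by simpa using h m m.2)⟩

/-! ### the four-group -/

/-- `S` is a Klein four Sylow 2-subgroup -/
structure K4 [Finite G] (S : Sylow 2 G) : Prop where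
  c4 : Nat.card S = 4
  sq : ∀ a ∈ (S : Subgroup G), a * a = 1

variable [Finite G] {S : Sylow 2 G}

theorem K4.inv (h : K4 S) {a : G} (ha : a ∈ (S : Subgroup G)) : a⁻¹ = a :=
  inv_eq_of_mul_eq_one_left (h.sq a ha)

theorem K4.comm (h : K4 S) {a b : G} (ha : a ∈ (S : Subgroup G)) (hb : b ∈ (S : Subgroup G)) : a * b = b * a := by
  have h1 := h.sq (a * b) (mul_mem ha hb)
  calc a * b = a⁻¹ * b⁻¹ := by rw [h.inv ha, h.inv hb]
    _ = (b * a)⁻¹ := by group
    _ = b * a := h.inv (mul_mem hb ha)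

theorem K4.le_cent (h : K4 S) : (S : Subgroup G) ≤ centralizer ((S : Subgroup G) : Set G) := by
  intro a ha
  rw [mem_centralizer_iff]
  intro b hb
  exact h.comm hb ha

theorem K4.orderOf_eq (h : K4 S) {a : G} (ha : a ∈ (S : Subgroup G)) (h1 : a ≠ 1) : orderOf a = 2 :=
  orderOf_eq_prime (by rw [pow_two]; exact h.sq a ha) h1

/-- the elements of `S` -/
theorem K4.elems (h : K4 S) {a b : G} (ha : a ∈ (S : Subgroup G)) (ha1 : a ≠ 1) (hb : b ∈ (S : Subgroup G)) (hb1 : b ≠ 1)
    (hab : b ≠ a) {s : G} (hs : s ∈ (S : Subgroup G)) : s = 1 ∨ s = a ∨ s = b ∨ s = a * b := by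
  classical
  have hcard : Set.ncard ((S : Subgroup G) : Set G) = 4 := by
    rw [← Nat.card_coe_set_eq]; exact h.c4
  have hab1 : a * b ≠ 1 := by
    intro h1
    have : b = a⁻¹ := (inv_eq_of_mul_eq_one_right h1).symm
    rw [h.inv ha] at this
    exact hab this
  have haba : a * b ≠ a := by
    intro h1
    exact hb1 (mul_eq_left.1 h1)
  have habb : a * b ≠ b := by
    intro h1
    exact ha1 (mul_eq_right.1 h1)
  have hsub : (({1, a, b, a * b} : Finset G) : Set G) ⊆ ((S : Subgroup G) : Set G) := by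
    intro x hx
    simp only [Finset.coe_insert, Finset.coe_singleton, Set.mem_insert_iff, Set.mem_singleton_iff] at hx
    rcases hx with rfl | rfl | rfl | rfl
    · exact one_mem _
    · exact ha
    · exact hb
    · exact mul_mem ha hb
  have hc : ({1, a, b, a * b} : Finset G).card = 4 := by
    rw [Finset.card_insert_of_notMem, Finset.card_insert_of_notMem, Finset.card_insert_of_notMem, Finset.card_singleton]
    · simp only [Finset.mem_singleton]; exact habb.symm
    · simp only [Finset.mem_insert, Finset.mem_singleton, not_or]; exact ⟨hab.symm, haba.symm⟩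
    · simp only [Finset.mem_insert, Finset.mem_singleton, not_or]; exact ⟨ha1.symm, hb1.symm, hab1.symm⟩
  have heq : (({1, a, b, a * b} : Finset G) : Set G) = ((S : Subgroup G) : Set G) := by
    apply Set.eq_of_subset_of_ncard_le hsub
    rw [hcard, Set.ncard_coe_finset, hc]
  have hs' : s ∈ (({1, a, b, a * b} : Finset G) : Set G) := by rw [heq]; exact hs
  simpa using hs'

/-- an odd order element acting nontrivially on `S` is a 3-cycle -/
theorem K4.ne_of_odd (h : K4 S) {n : G} (hn : n ∈ normalizer ((S : Subgroup G) : Set G)) (ho : Odd (orderOf n))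
    (hnc : n ∉ centralizer ((S : Subgroup G) : Set G)) {a : G} (ha : a ∈ (S : Subgroup G)) (ha1 : a ≠ 1) :
    n * a * n⁻¹ ≠ a := by
  intro hna
  have hex : ∃ b ∈ (S : Subgroup G), n * b * n⁻¹ ≠ b := by
    by_contra hcon
    push Not at hcon
    apply hnc
    rw [mem_centralizer_iff]
    intro b hb
    have := hcon b hb
    calc b * n = (n * b * n⁻¹) * n := by rw [this]
      _ = n * b := by group
  obtain ⟨b, hb, hnb⟩ := hex
  have hnS : ∀ {s : G}, s ∈ (S : Subgroup G) → n * s * n⁻¹ ∈ (S : Subgroup G) :=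
    fun {s} hs => (mem_normalizer_iff.1 hn s).1 hs
  have hb1 : b ≠ 1 := by
    rintro rfl
    apply hnb; group
  have hba : b ≠ a := by
    rintro rfl
    exact hnb hna
  have hinj : ∀ x y : G, n * x * n⁻¹ = n * y * n⁻¹ → x = y := by
    intro x y hxy
    have := congrArg (fun z => n⁻¹ * z * n) hxy
    simpa [mul_assoc] using this
  have hnb' : n * b * n⁻¹ = a * b := by
    rcases h.elems ha ha1 hb hb1 hba (hnS hb) with h1 | h1 | h1 | h1
    · exfalso
      apply hb1
      apply hinj b 1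
      rw [h1]; group
    · exfalso
      exact hba (hinj b a (h1.trans hna.symm))
    · exact absurd h1 hnb
    · exact h1
  have hnab : n * (a * b) * n⁻¹ = b := by
    calc n * (a * b) * n⁻¹ = (n * a * n⁻¹) * (n * b * n⁻¹) := by group
      _ = a * (a * b) := by rw [hna, hnb']
      _ = (a * a) * b := by group
      _ = b := by rw [h.sq a ha, one_mul]
  have h2 : n ^ 2 * b * (n ^ 2)⁻¹ = b := by
    calc n ^ 2 * b * (n ^ 2)⁻¹ = n * (n * b * n⁻¹) * n⁻¹ := by rw [pow_two]; group
      _ = b := by rw [hnb', hnab]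
  have hcomm : Commute (n ^ 2) b := by
    show n ^ 2 * b = b * n ^ 2
    calc n ^ 2 * b = (n ^ 2 * b * (n ^ 2)⁻¹) * n ^ 2 := by group
      _ = b * n ^ 2 := by rw [h2]
  obtain ⟨k, hk⟩ := eq_pow_sq ho
  have h3 : Commute n b := by
    rw [hk]; exact hcomm.pow_left k
  apply hnb
  rw [h3.eq]; group

theorem K4.cyc (h : K4 S) {n : G} (hn : n ∈ normalizer ((S : Subgroup G) : Set G)) (ho : Odd (orderOf n))
    (hnc : n ∉ centralizer ((S : Subgroup G) : Set G)) {a : G} (ha : a ∈ (S : Subgroup G)) (ha1 : a ≠ 1) :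
    n * (n * a * n⁻¹) * n⁻¹ = a * (n * a * n⁻¹) := by
  have hnS : ∀ {s : G}, s ∈ (S : Subgroup G) → n * s * n⁻¹ ∈ (S : Subgroup G) :=
    fun {s} hs => (mem_normalizer_iff.1 hn s).1 hs
  have hinj : ∀ x y : G, n * x * n⁻¹ = n * y * n⁻¹ → x = y := by
    intro x y hxy
    have := congrArg (fun z => n⁻¹ * z * n) hxy
    simpa [mul_assoc] using this
  have hb := hnS ha
  have hb1 : n * a * n⁻¹ ≠ 1 := by
    intro h1
    apply ha1
    apply hinj a 1
    rw [h1]; group
  have hba := h.ne_of_odd hn ho hnc ha ha1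
  rcases h.elems ha ha1 hb hb1 hba (hnS hb) with h1 | h1 | h1 | h1
  · exfalso
    apply hb1
    apply hinj _ 1
    rw [h1]; group
  · exfalso
    -- n² fixes a
    have h2 : n ^ 2 * a * (n ^ 2)⁻¹ = a := by
      calc n ^ 2 * a * (n ^ 2)⁻¹ = n * (n * a * n⁻¹) * n⁻¹ := by rw [pow_two]; group
        _ = a := h1
    have hcomm : Commute (n ^ 2) a := by
      show n ^ 2 * a = a * n ^ 2
      calc n ^ 2 * a = (n ^ 2 * a * (n ^ 2)⁻¹) * n ^ 2 := by group
        _ = a * n ^ 2 := by rw [h2]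
    obtain ⟨k, hk⟩ := eq_pow_sq ho
    have h3 : Commute n a := by
      rw [hk]; exact hcomm.pow_left k
    apply hba
    rw [h3.eq]; group
  · exfalso
    exact h.ne_of_odd hn ho hnc hb hb1 h1
  · exact h1

/-- an element of `N(S)` outside `C(S)` has an odd order power outside `C(S)` -/
theorem K4.exists_odd (h : K4 S) {m : G} (hm : m ∈ normalizer ((S : Subgroup G) : Set G))
    (hmc : m ∉ centralizer ((S : Subgroup G) : Set G)) :
    ∃ k : ℕ, Odd (orderOf (m ^ k)) ∧ m ^ k ∉ centralizer ((S : Subgroup G) : Set G) := by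
  obtain ⟨e, c, hc, hmo⟩ := Nat.exists_eq_two_pow_mul_odd (orderOf_pos m).ne'
  refine ⟨2 ^ e, ?_, ?_⟩
  · have : orderOf (m ^ 2 ^ e) = c := by
      rw [orderOf_pow_of_dvd (by positivity) (by rw [hmo]; exact Dvd.intro _ rfl), hmo]
      exact Nat.mul_div_cancel_left _ (by positivity)
    rw [this]; exact hc
  · intro h1
    have h2 : m ^ c ∈ (S : Subgroup G) := by
      have hp : IsPGroup 2 (zpowers (m ^ c)) := by
        rw [IsPGroup.iff_card, Nat.card_zpowers]
        refine ⟨e, ?_⟩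
        rw [orderOf_pow_of_dvd hc.pos.ne' (by rw [hmo]; exact Dvd.intro_left _ rfl), hmo]
        exact Nat.mul_div_cancel _ hc.pos
      have h4 := hp.inf_normalizer_sylow S
      have h3 : m ^ c ∈ zpowers (m ^ c) ⊓ (S : Subgroup G) := by
        rw [← h4]; exact ⟨mem_zpowers _, pow_mem hm c⟩
      exact h3.2
    have h3 : m ^ c ∈ centralizer ((S : Subgroup G) : Set G) := h.le_cent h2
    have hco : (2 ^ e).Coprime c := Nat.Coprime.pow_left e (Nat.coprime_two_left.2 hc)
    apply hmc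
    -- Bezout
    have h4 : (m ^ (Nat.gcd (2 ^ e) c)) ∈ centralizer ((S : Subgroup G) : Set G) := by
      have hb := Nat.gcd_eq_gcd_ab (2 ^ e) c
      have : m ^ (Nat.gcd (2 ^ e) c) = (m ^ 2 ^ e) ^ (Nat.gcdA (2 ^ e) c) * (m ^ c) ^ (Nat.gcdB (2 ^ e) c) := by
        rw [← zpow_natCast m (Nat.gcd _ _), hb, zpow_add, zpow_mul, zpow_mul, zpow_natCast, zpow_natCast]
      rw [this]
      exact mul_mem (zpow_mem h1 _) (zpow_mem h3 _)
    rwa [hco, pow_one] at h4

/-- no element of `N(S) \ C(S)` centralizes a nontrivial element of `S` -/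
theorem K4.no_fix (h : K4 S) {m : G} (hm : m ∈ normalizer ((S : Subgroup G) : Set G))
    {a : G} (ha : a ∈ (S : Subgroup G)) (ha1 : a ≠ 1) (hma : m * a = a * m) :
    m ∈ centralizer ((S : Subgroup G) : Set G) := by
  by_contra hmc
  obtain ⟨k, ho, hk⟩ := h.exists_odd hm hmc
  have hc : Commute (m ^ k) a := Commute.pow_left hma k
  apply h.ne_of_odd (pow_mem hm k) ho hk ha ha1
  rw [hc.eq]; group

/-- piece B on the four-group -/
theorem K4.le_cent_of (h : K4 S) {r : ℕ} (hB : BS G r) {m : G} (hm : m ∈ normalizer ((S : Subgroup G) : Set G))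
    (hmc : m ∉ centralizer ((S : Subgroup G) : Set G)) {R : Subgroup G} (hR : IsPGroup r R)
    (hSR : (S : Subgroup G) ≤ normalizer (R : Set G)) (hmR : m ∈ normalizer (R : Set G)) :
    (S : Subgroup G) ≤ centralizer (R : Set G) := by
  obtain ⟨k, ho, hk⟩ := h.exists_odd hm hmc
  set n := m ^ k with hn
  have hnS := pow_mem hm k
  have hnR := pow_mem hmR k
  intro s hs
  have key : ∀ a ∈ (S : Subgroup G), a ≠ 1 → n * (n * a * n⁻¹) * n⁻¹ ∈ centralizer (R : Set G) := by
    intro a ha ha1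
    rw [h.cyc hnS ho hk ha ha1]
    have h1 := hB S.isPGroup' hR hSR hnS hnR ho ha
    have e : a * n * a⁻¹ * n⁻¹ = a * (n * a * n⁻¹) := by rw [h.inv ha]; group
    rwa [e] at h1
  by_cases hs1 : s = 1
  · rw [hs1]; exact one_mem _
  · have hs' : n⁻¹ * (n⁻¹ * s * n) * n ∈ (S : Subgroup G) := by
      have h1 := (mem_normalizer_iff.1 (inv_mem hnS) s).1 hs
      rw [inv_inv] at h1
      have h2 := (mem_normalizer_iff.1 (inv_mem hnS) _).1 h1
      rwa [inv_inv] at h2
    have hs1' : n⁻¹ * (n⁻¹ * s * n) * n ≠ 1 := by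
      intro h1
      apply hs1
      have h2 : s = n * (n * (n⁻¹ * (n⁻¹ * s * n) * n) * n⁻¹) * n⁻¹ := by group
      rw [h2, h1]; group
    have h3 := key _ hs' hs1'
    have e : n * (n * (n⁻¹ * (n⁻¹ * s * n) * n) * n⁻¹) * n⁻¹ = s := by group
    rwa [e] at h3

end Cfsg.Agent.Lib.H15TC
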