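import Mathlib
import Cfsg.Agent.Lib.H15TCb
import Cfsg.Agent.Lib.BG09a
import Cfsg.Agent.Lib.Burnside
import Cfsg.Agent.S0028
import Cfsg.Agent.S3278
import Cfsg.Agent.S0253

set_option autoImplicit false

/-! # S3718, piece C (four-group case): nontrivial `O(C(S))` (helper20) -/

namespace Cfsg.Agent.Lib.H15TC

open Subgroup Cfsg

variable {G : Type*} [Group G] [Finite G] {S : Sylow 2 G} {r : ℕ}

theorem le_cent_singleton {S' : Subgroup G} (h : S' ≤ centralizer (S' : Set G)) {a : G} (ha : a ∈ S') :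
    S' ≤ centralizer ({a} : Set G) := by
  intro s hs
  rw [mem_centralizer_singleton_iff]
  have := mem_centralizer_iff.1 (h hs) a ha
  exact this.symm

theorem K4.cent_nil (h : K4 S) {a : G} (ha : a ∈ (S : Subgroup G)) (ha1 : a ≠ 1) :
    ∀ x ∈ centralizer ({a} : Set G), ∃ m ∈ Oc (centralizer ({a} : Set G)), ∃ s ∈ (S : Subgroup G), x = m * s := by
  apply twoNil S (le_cent_singleton h.le_cent ha)
  intro m hm hmS
  exact h.no_fix hmS ha ha1 (mem_centralizer_singleton_iff.1 hm)

theorem K4.mem_K (h : K4 S) {a : G} (ha : a ∈ (S : Subgroup G)) (ha1 : a ≠ 1) {x : G}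
    (hx : x ∈ centralizer ({a} : Set G)) (ho : Odd (orderOf x)) : x ∈ Oc (centralizer ({a} : Set G)) :=
  mem_Oc_of_odd h.sq (le_cent_singleton h.le_cent ha) (h.cent_nil ha ha1) hx ho

theorem K4.K_pow (h : K4 S) (hr : HR G r) {a : G} (ha : a ∈ (S : Subgroup G)) (ha1 : a ≠ 1) {x : G}
    (hx : x ∈ Oc (centralizer ({a} : Set G))) : x ^ r = 1 :=
  hr.pow_r_of_comm (h.orderOf_eq ha ha1) (mem_centralizer_singleton_iff.1 (Oc_le _ hx))
    (odd_orderOf_of_mem (odd_Oc _) hx)

theorem K4.K_pgroup (h : K4 S) (hr : HR G r) {a : G} (ha : a ∈ (S : Subgroup G)) (ha1 : a ≠ 1) :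
    IsPGroup r (Oc (centralizer ({a} : Set G))) :=
  isPGroup_of_pow fun _ hm => h.K_pow hr ha ha1 hm

theorem K4.exists_ne (h : K4 S) : ∃ a ∈ (S : Subgroup G), a ≠ 1 := by
  by_contra hcon
  push Not at hcon
  have : (S : Subgroup G) = ⊥ := by
    rw [eq_bot_iff]; intro x hx; exact mem_bot.2 (hcon x hx)
  have h1 : Nat.card (S : Subgroup G) = 1 := by rw [this]; exact Subgroup.card_bot
  have := h.c4
  change Nat.card (S : Subgroup G) = 4 at this
  omega

theorem K4.cS_nil (h : K4 S) : ∀ x ∈ centralizer ((S : Subgroup G) : Set G),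
    ∃ m ∈ Oc (centralizer ((S : Subgroup G) : Set G)), ∃ s ∈ (S : Subgroup G), x = m * s :=
  twoNil S h.le_cent (fun _ hm _ => hm)

theorem K4.exists_n (h : K4 S) [IsSimpleGroup G] :
    ∃ n ∈ normalizer ((S : Subgroup G) : Set G), n ∉ centralizer ((S : Subgroup G) : Set G) ∧ Odd (orderOf n) := by
  have h1 : ∃ m ∈ normalizer ((S : Subgroup G) : Set G), m ∉ centralizer ((S : Subgroup G) : Set G) := by
    by_contra hcon
    push Not at hcon
    have h2 := twoNil S (X := ⊤) le_top (fun m _ hm => hcon m hm)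
    have hnor : (Oc (⊤ : Subgroup G)).Normal := by
      rw [← Subgroup.normalizer_eq_top_iff]
      exact top_le_iff.1 (le_norm_Oc ⊤)
    have hcS : Nat.card (S : Subgroup G) = 4 := h.c4
    rcases hnor.eq_bot_or_eq_top with h3 | h3
    · -- G = S
      have hGS : (S : Subgroup G) = ⊤ := by
        rw [eq_top_iff]
        intro x _
        obtain ⟨m, hm, s, hs, rfl⟩ := h2 x (Subgroup.mem_top x)
        rw [h3, mem_bot] at hm
        rw [hm, one_mul]; exact hs
      obtain ⟨a, ha, ha1⟩ := h.exists_ne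
      have hz : (zpowers a).Normal := by
        constructor
        intro x hx g
        have hx' : x ∈ (S : Subgroup G) := by rw [hGS]; exact Subgroup.mem_top x
        have hg' : g ∈ (S : Subgroup G) := by rw [hGS]; exact Subgroup.mem_top g
        rw [h.comm hg' hx', mul_assoc, mul_inv_cancel, mul_one]
        exact hx
      rcases hz.eq_bot_or_eq_top with h4 | h4
      · exact ha1 (zpowers_eq_bot.1 h4)
      · have h5 : Nat.card (zpowers a) = 2 := by rw [Nat.card_zpowers, h.orderOf_eq ha ha1]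
        rw [h4, ← hGS, hcS] at h5
        omega
    · have h4 := odd_Oc (⊤ : Subgroup G)
      rw [h3] at h4
      have h5 : Nat.card (S : Subgroup G) ∣ Nat.card (⊤ : Subgroup G) := Subgroup.card_dvd_of_le le_top
      rw [hcS] at h5
      obtain ⟨c, hc⟩ := h5
      rw [hc] at h4
      exact (Nat.not_even_iff_odd.2 h4) ⟨2 * c, by ring⟩
  obtain ⟨m, hm, hmc⟩ := h1
  obtain ⟨k, hk, hkc⟩ := h.exists_odd hm hmc
  exact ⟨m ^ k, pow_mem hm k, hkc, hk⟩

theorem norm_le_norm_centralizer (K : Subgroup G) :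
    normalizer (K : Set G) ≤ normalizer (centralizer (K : Set G) : Set G) := by
  intro g hg
  have key : ∀ g ∈ normalizer (K : Set G), ∀ x ∈ centralizer (K : Set G), g * x * g⁻¹ ∈ centralizer (K : Set G) := by
    intro g hg x hx
    rw [mem_centralizer_iff] at hx ⊢
    intro k hk
    have h1 : g⁻¹ * k * g ∈ K := by
      have := (mem_normalizer_iff.1 (inv_mem hg) k).1 hk
      rwa [inv_inv] at this
    have h2 := hx _ h1
    calc k * (g * x * g⁻¹) = g * ((g⁻¹ * k * g) * x) * g⁻¹ := by group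
      _ = g * (x * (g⁻¹ * k * g)) * g⁻¹ := by rw [h2]
      _ = g * x * g⁻¹ * k := by group
  rw [mem_normalizer_iff]
  intro x
  refine ⟨key g hg x, fun hx => ?_⟩
  have := key g⁻¹ (inv_mem hg) _ hx
  have e : g⁻¹ * (g * x * g⁻¹) * g⁻¹⁻¹ = x := by group
  rwa [e] at this

/-- the centralizer of an element of order `r` is solvable -/
theorem HR.solv (hr : HR G r) {k : G} (hk : orderOf k = r) {C : Subgroup G} (hC : C ≤ centralizer ({k} : Set G)) :
    Group.IsSolvable C := by
  have h2 : ∀ p : ℕ, p.Prime → p ∣ Nat.card C → p = 2 ∨ p = r := by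
    intro p hp hd
    haveI : Fact p.Prime := ⟨hp⟩
    obtain ⟨x, hx⟩ := exists_prime_orderOf_dvd_card' p hd
    have h3 : p ∣ orderOf (x : G) := by rw [Subgroup.orderOf_coe, hx]
    exact hr.prime_of_comm_r hk (mem_centralizer_singleton_iff.1 (hC x.2)) hp h3
  have h0 : Nat.card C ≠ 0 := Nat.card_pos.ne'
  have hcard : Nat.card C = 2 ^ (Nat.card C).factorization 2 * r ^ (Nat.card C).factorization r := by
    have hsub : (Nat.card C).primeFactors ⊆ ({2, r} : Finset ℕ) := by
      intro p hp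
      rw [Nat.mem_primeFactors] at hp
      rcases h2 p hp.1 hp.2.1 with h | h <;> simp [h]
    have h1 := Nat.factorization_prod_pow_eq_self h0
    rw [Finsupp.prod_of_support_subset (s := ({2, r} : Finset ℕ)) _ (by rwa [Nat.support_factorization]) _
      (by intro i _; exact pow_zero i), Finset.prod_pair (Ne.symm hr.r2)] at h1
    exact h1.symm
  exact Burnside.isSolvable_of_card_eq _ 2 r _ _ Nat.prime_two hr.rp hcard rfl

/-- if `O(C(S)) ≠ 1` then `S` centralizes `O(C(a))` for all involutions `a` of `S` -/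
theorem K4.case2 (h : K4 S) (hr : HR G r) (hB : BS G r) [IsSimpleGroup G]
    (hK0 : Oc (centralizer ((S : Subgroup G) : Set G)) ≠ ⊥) {a : G} (ha : a ∈ (S : Subgroup G)) (ha1 : a ≠ 1) :
    (S : Subgroup G) ≤ centralizer (Oc (centralizer ({a} : Set G)) : Set G) := by
  haveI : Fact r.Prime := ⟨hr.rp⟩
  set K0 := Oc (centralizer ((S : Subgroup G) : Set G)) with hK0def
  obtain ⟨n, hnS, hnc, hno⟩ := h.exists_n
  have hK0S : K0 ≤ centralizer ((S : Subgroup G) : Set G) := Oc_le _
  have hcomm : ∀ k ∈ K0, ∀ s ∈ (S : Subgroup G), s * k = k * s := fun k hk s hs =>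
    mem_centralizer_iff.1 (hK0S hk) s hs
  have hK0a : ∀ k ∈ K0, k ∈ centralizer ({a} : Set G) := fun k hk => by
    rw [mem_centralizer_singleton_iff]; exact (hcomm k hk a ha).symm
  have hK0odd : ∀ k ∈ K0, Odd (orderOf k) := fun k hk => odd_orderOf_of_mem (odd_Oc _) hk
  have hK0r : ∀ k ∈ K0, k ^ r = 1 := fun k hk =>
    hr.pow_r_of_comm (h.orderOf_eq ha ha1) (mem_centralizer_singleton_iff.1 (hK0a k hk)) (hK0odd k hk)
  obtain ⟨k0, hk0, hk01⟩ : ∃ k0 : G, k0 ∈ K0 ∧ k0 ≠ 1 := by
    by_contra hcon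
    push Not at hcon
    apply hK0
    rw [eq_bot_iff]; intro x hx; exact mem_bot.2 (hcon x hx)
  have hk0o : orderOf (k0 : G) = r := orderOf_eq_prime (hK0r _ hk0) hk01
  set C := centralizer (K0 : Set G) with hC
  have hCk : C ≤ centralizer ({(k0 : G)} : Set G) := centralizer_le (by
    intro x hx
    rw [Set.mem_singleton_iff] at hx
    rw [hx]; exact hk0)
  haveI hCsolv : Group.IsSolvable C := hr.solv hk0o hCk
  have hSC : (S : Subgroup G) ≤ C := by
    intro s hs
    rw [hC, mem_centralizer_iff]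
    intro k hk
    exact (hcomm k hk s hs).symm
  -- n normalizes K0, C, O(C)
  have hnK0 : n ∈ normalizer (K0 : Set G) := norm_Oc _ (norm_le_norm_centralizer _ hnS)
  have hnC : n ∈ normalizer (C : Set G) := norm_le_norm_centralizer _ hnK0
  have hnOC : n ∈ normalizer (Oc C : Set G) := norm_Oc _ hnC
  have hSOC : (S : Subgroup G) ≤ normalizer (Oc C : Set G) := hSC.trans (le_norm_Oc C)
  have hOCr : IsPGroup r (Oc C) := isPGroup_of_pow fun m hm =>
    hr.pow_r_of_comm_r hk0o (mem_centralizer_singleton_iff.1 (hCk (Oc_le _ hm))) (odd_orderOf_of_mem (odd_Oc _) hm)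
  have hSCO : (S : Subgroup G) ≤ centralizer (Oc C : Set G) := h.le_cent_of hB hnS hnc hOCr hSOC hnOC
  -- T1 = K1 ⊓ C ≤ O(C)
  set K1 := Oc (centralizer ({a} : Set G)) with hK1
  have hSa : (S : Subgroup G) ≤ centralizer ({a} : Set G) := le_cent_singleton h.le_cent ha
  have hSK1 : (S : Subgroup G) ≤ normalizer (K1 : Set G) := hSa.trans (le_norm_Oc _)
  have hT1 : K1 ⊓ C ≤ Oc C := by
    have h1 : ((K1 ⊓ C).subgroupOf C) ≤ pPrimeCore 2 C := by
      apply BG09a.le_pPrimeCore_of_sylow (S.subtype hSC)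
      · have h2 : Nat.card ↥((K1 ⊓ C).subgroupOf C) = Nat.card ↥(K1 ⊓ C) :=
          Nat.card_congr (Subgroup.subgroupOfEquivOfLe inf_le_right).toEquiv
        rw [h2]
        have h3 : Odd (Nat.card ↥(K1 ⊓ C)) := (odd_Oc (centralizer ({a} : Set G))).of_dvd_nat (Subgroup.card_dvd_of_le inf_le_left)
        exact Nat.coprime_two_right.2 h3
      · intro s hs
        have hs' : (s : G) ∈ (S : Subgroup G) := hs
        rw [mem_normalizer_iff]
        intro y
        have h1 := mem_normalizer_iff.1 (hSK1 hs') y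
        simp only [SetLike.mem_coe, mem_subgroupOf, mem_inf]
        constructor
        · rintro ⟨h2, h3⟩
          exact ⟨h1.1 h2, (s * y * s⁻¹).2⟩
        · rintro ⟨h2, h3⟩
          exact ⟨h1.2 h2, y.2⟩
    intro x hx
    exact ⟨⟨x, hx.2⟩, h1 (mem_subgroupOf.2 hx), rfl⟩
  -- P × Q
  have hodd4 : (Nat.card (S : Subgroup G)).Coprime r := by
    have : Nat.card (S : Subgroup G) = 4 := h.c4
    rw [this, show (4 : ℕ) = 2 ^ 2 by norm_num]
    exact Nat.Coprime.pow_left 2 (Nat.coprime_two_left.2 hr.odd_r)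
  refine S0028.result r K0 (S : Subgroup G) K1 (isPGroup_of_pow hK0r) hodd4 (h.K_pgroup hr ha ha1) hK0S ?_ hSK1 ?_
  · intro k hk
    exact le_norm_Oc _ (hK0a k hk)
  · intro x hx
    have hx' := hT1 hx
    rw [mem_centralizer_iff]
    intro s hs
    exact (mem_centralizer_iff.1 (hSCO hs) x hx').symm

/-- if `S` centralizes `O(C(a))` then `G` is `PSL(2,5)` -/
theorem K4.final1 (h : K4 S) [IsSimpleGroup G] {a : G} (ha : a ∈ (S : Subgroup G)) (ha1 : a ≠ 1)
    (hc : (S : Subgroup G) ≤ centralizer (Oc (centralizer ({a} : Set G)) : Set G)) :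
    ∃ (F : Type) (_ : Field F) (_ : Fintype F),
      Nonempty (G ≃* Matrix.ProjectiveSpecialLinearGroup (Fin 2) F) := by
  have hSa : (S : Subgroup G) ≤ centralizer ({a} : Set G) := le_cent_singleton h.le_cent ha
  have hK : IsKleinFour ↥(S : Subgroup G) := by
    refine ⟨h.c4, ?_⟩
    have hd : Monoid.exponent ↥(S : Subgroup G) ∣ 2 :=
      Monoid.exponent_dvd_of_forall_pow_eq_one fun s => Subtype.ext (by
        rw [Subgroup.coe_pow, pow_two]; exact h.sq s s.2)
    rcases (Nat.dvd_prime Nat.prime_two).1 hd with h1 | h1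
    · exfalso
      rw [Monoid.exp_eq_one_iff] at h1
      exact ha1 (congrArg Subtype.val (Subsingleton.elim (⟨a, ha⟩ : (S : Subgroup G)) 1))
    · exact h1
  have hodd : ¬ 2 ∣ (S : Subgroup G).relIndex (centralizer ({a} : Set G)) := (SylAmb.isSyl_coe S hSa).2.2
  have hn : ((S : Subgroup G).subgroupOf (centralizer ({a} : Set G))).Normal := by
    rw [Subgroup.normal_subgroupOf_iff_le_normalizer hSa]
    intro x hx
    obtain ⟨m, hm, s, hs, rfl⟩ := h.cent_nil ha ha1 x hx
    refine mul_mem ?_ (le_normalizer hs)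
    apply centralizer_le_normalizer
    rw [mem_centralizer_iff]
    intro s hs
    exact (mem_centralizer_iff.1 (hc hs) m hm).symm
  obtain ⟨e⟩ := S3278.result a (h.orderOf_eq ha ha1) (S : Subgroup G) hSa hK hodd hn
  haveI : Fact (Nat.Prime 5) := ⟨by norm_num⟩
  obtain ⟨e'⟩ := S0253.result (F := ZMod 5) (by rw [ZMod.card])
  exact ⟨ZMod 5, inferInstance, inferInstance, ⟨e.trans e'.symm⟩⟩

end Cfsg.Agent.Lib.H15TC
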