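import Mathlib
import Cfsg.Agent.Lib.H15TCc
import Cfsg.Agent.S0024
import Cfsg.Agent.S0025
import Cfsg.Agent.S0508
import Cfsg.Agent.Lib.ConstFour5

set_option autoImplicit false

/-! # S3718, piece C (four-group case): trivial `O(C(S))` (helper20) -/

namespace Cfsg.Agent.Lib.H15TC

open Subgroup Cfsg

variable {G : Type*} [Group G] [Finite G] {S : Sylow 2 G} {r : ℕ}

/-- `C(S) = S` -/
theorem K4.cS_le (h : K4 S) (hK0 : Oc (centralizer ((S : Subgroup G) : Set G)) = ⊥) :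
    centralizer ((S : Subgroup G) : Set G) ≤ (S : Subgroup G) := by
  intro x hx
  obtain ⟨m, hm, s, hs, rfl⟩ := h.cS_nil x hx
  rw [hK0, mem_bot] at hm
  rw [hm, one_mul]; exact hs

theorem K4.bot_of_le_cent (h : K4 S) (hK0 : Oc (centralizer ((S : Subgroup G) : Set G)) = ⊥) {D : Subgroup G}
    (hD : Odd (Nat.card D)) (hSD : (S : Subgroup G) ≤ centralizer (D : Set G)) : D = ⊥ := by
  rw [eq_bot_iff]
  intro d hd
  have h1 : d ∈ centralizer ((S : Subgroup G) : Set G) := by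
    rw [mem_centralizer_iff]
    intro s hs
    exact (mem_centralizer_iff.1 (hSD hs) d hd).symm
  have h2 := h.cS_le hK0 h1
  exact mem_bot.2 (eq_one_of_sq (h.sq d h2) (odd_orderOf_of_mem hD hd))

theorem odd_of_pgroup (hr : HR G r) {D : Subgroup G} (hD : IsPGroup r D) : Odd (Nat.card D) := by
  haveI : Fact r.Prime := ⟨hr.rp⟩
  obtain ⟨k, hk⟩ := IsPGroup.iff_card.1 hD
  rw [hk]
  exact hr.odd_r.pow

/-- the structure of `N(D)` -/
theorem K4.nD (h : K4 S) (hr : HR G r) (hB : BS G r) (hK0 : Oc (centralizer ((S : Subgroup G) : Set G)) = ⊥)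
    {D : Subgroup G} (hD : IsPGroup r D) (hSD : (S : Subgroup G) ≤ normalizer (D : Set G)) (hD1 : D ≠ ⊥) :
    ∀ x ∈ normalizer (D : Set G), ∃ m ∈ Oc (normalizer (D : Set G)), ∃ s ∈ (S : Subgroup G), x = m * s := by
  apply twoNil S hSD
  intro m hmD hmS
  by_contra hmc
  exact hD1 (h.bot_of_le_cent hK0 (odd_of_pgroup hr hD) (h.le_cent_of hB hmS hmc hD hSD hmD))

/-- `S`-invariant `r`-subgroups -/
def Inv (S : Sylow 2 G) (r : ℕ) (W : Subgroup G) : Prop :=
  IsPGroup r W ∧ (S : Subgroup G) ≤ normalizer (W : Set G)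

/-- maximal `S`-invariant `r`-subgroups -/
def IMax (S : Sylow 2 G) (r : ℕ) (W : Subgroup G) : Prop :=
  Inv S r W ∧ ∀ W' : Subgroup G, Inv S r W' → W ≤ W' → W' = W

theorem exists_IMax {U : Subgroup G} (hU : Inv S r U) : ∃ W, U ≤ W ∧ IMax S r W := by
  obtain ⟨W, hUW, hW⟩ := Set.Finite.exists_le_maximal (s := {W : Subgroup G | Inv S r W}) (Set.toFinite _) hU
  refine ⟨W, hUW, hW.prop, fun W' hW' hle => ?_⟩
  exact le_antisymm (hW.le_of_ge hW' hle) hle

theorem uniq_aux (h : K4 S) (hr : HR G r) (hB : BS G r) (hK0 : Oc (centralizer ((S : Subgroup G) : Set G)) = ⊥) :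
    ∀ N : ℕ, ∀ W W' : Subgroup G, IMax S r W → IMax S r W' → W ⊓ W' ≠ ⊥ →
      Nat.card G ≤ N + Nat.card ↥(W ⊓ W') → W = W' := by
  haveI : Fact r.Prime := ⟨hr.rp⟩
  intro N
  induction N with
  | zero =>
    intro W W' _ _ _ hc
    have h1 : Nat.card ↥(W ⊓ W') = Nat.card G := le_antisymm (Subgroup.card_le_card_group _) (by omega)
    have h2 : W ⊓ W' = ⊤ := Subgroup.card_eq_iff_eq_top _ |>.1 h1
    have h3 : W = ⊤ := top_le_iff.1 (h2 ▸ inf_le_left)
    have h4 : W' = ⊤ := top_le_iff.1 (h2 ▸ inf_le_right)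
    rw [h3, h4]
  | succ N ih =>
    intro W W' hW hW' hne hc
    by_contra hcon
    set D := W ⊓ W' with hD
    have hDW : D < W := lt_of_le_of_ne inf_le_left (by
      intro he
      have : W ≤ W' := by rw [← he]; exact inf_le_right
      exact hcon (hW.2 W' hW'.1 this).symm)
    have hDW' : D < W' := lt_of_le_of_ne inf_le_right (by
      intro he
      have : W' ≤ W := by rw [← he]; exact inf_le_left
      exact hcon (hW'.2 W hW.1 this))
    have hDr : IsPGroup r D := hW.1.1.to_le inf_le_left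
    have hDS : (S : Subgroup G) ≤ normalizer (D : Set G) := by
      intro s hs
      rw [mem_normalizer_iff]
      intro x
      have h1 := mem_normalizer_iff.1 (hW.1.2 hs) x
      have h2 := mem_normalizer_iff.1 (hW'.1.2 hs) x
      constructor
      · rintro ⟨ha, hb⟩; exact ⟨h1.1 ha, h2.1 hb⟩
      · rintro ⟨ha, hb⟩; exact ⟨h1.2 ha, h2.2 hb⟩
    have hA := SylAmb.lt_inf_normalizer hW.1.1 hDW
    have hA' := SylAmb.lt_inf_normalizer hW'.1.1 hDW'
    set M := Oc (normalizer (D : Set G)) with hM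
    have hnil := h.nD hr hB hK0 hDr hDS hne
    have hSM : (S : Subgroup G) ≤ normalizer (M : Set G) := hDS.trans (le_norm_Oc _)
    have hinv : ∀ V : Subgroup G, Inv S r V → Inv S r (V ⊓ normalizer (D : Set G)) ∧ V ⊓ normalizer (D : Set G) ≤ M := by
      intro V hV
      refine ⟨⟨hV.1.to_le inf_le_left, ?_⟩, ?_⟩
      · intro s hs
        rw [mem_normalizer_iff]
        intro x
        have h1 := mem_normalizer_iff.1 (hV.2 hs) x
        have h2 := mem_normalizer_iff.1 (le_normalizer (H := normalizer (D : Set G)) (hDS hs)) x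
        constructor
        · rintro ⟨ha, hb⟩; exact ⟨h1.1 ha, h2.1 hb⟩
        · rintro ⟨ha, hb⟩; exact ⟨h1.2 ha, h2.2 hb⟩
      · rintro x ⟨hx, hx'⟩
        exact mem_Oc_of_odd h.sq hDS hnil hx' (odd_orderOf_of_mem (odd_of_pgroup hr hV.1) hx)
    have hcop : (Nat.card (S : Subgroup G)).Coprime (Nat.card M) := by
      have h4 : Nat.card (S : Subgroup G) = 4 := h.c4
      rw [h4, show (4 : ℕ) = 2 ^ 2 by norm_num]
      exact Nat.Coprime.pow_left 2 (Nat.coprime_two_left.2 (odd_Oc _))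
    have hsolv : Group.IsSolvable (S : Subgroup G) ∨ Group.IsSolvable M := by
      left
      haveI : Group.IsNilpotent (S : Subgroup G) := S.isPGroup'.isNilpotent
      infer_instance
    obtain ⟨hi1, hi2⟩ := hinv W hW.1
    obtain ⟨hj1, hj2⟩ := hinv W' hW'.1
    obtain ⟨P, hP1, hP2⟩ := S0025.result (S : Subgroup G) M hSM hcop hsolv r _ hi2 hi1.1 hi1.2
    obtain ⟨P', hP1', hP2'⟩ := S0025.result (S : Subgroup G) M hSM hcop hsolv r _ hj2 hj1.1 hj1.2
    obtain ⟨c, hc1, hc2⟩ := S0024.result (S : Subgroup G) M hSM hcop hsolv r P P' hP2 hP2'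
    have hc3 : c = 1 := by
      apply Subtype.ext
      have h5 := h.cS_le hK0 hc1
      exact eq_one_of_sq (h.sq _ h5) (odd_orderOf_of_mem (odd_Oc _) c.2)
    rw [hc3, map_one, one_smul] at hc2
    rw [← hc2] at hP1'
    obtain ⟨W1, hPW1, hW1⟩ := exists_IMax (S := S) (r := r) (U := (P : Subgroup M).map M.subtype)
      ⟨P.isPGroup'.map _, hP2⟩
    have hfin : ∀ V : Subgroup G, IMax S r V → D < V ⊓ normalizer (D : Set G) →
        V ⊓ normalizer (D : Set G) ≤ (P : Subgroup M).map M.subtype → V = W1 := by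
      intro V hV hDV hVP
      have hle : V ⊓ normalizer (D : Set G) ≤ V ⊓ W1 := le_inf inf_le_left (hVP.trans hPW1)
      have hlt : D < V ⊓ W1 := lt_of_lt_of_le hDV hle
      have hcard : Nat.card D < Nat.card ↥(V ⊓ W1) := by
        apply lt_of_le_of_ne (Subgroup.card_le_of_le hlt.le)
        intro he
        exact hlt.ne (Subgroup.eq_of_le_of_card_ge hlt.le he.ge)
      apply ih V W1 hV hW1
      · intro hb
        rw [hb] at hlt
        exact not_lt_bot hlt
      · omega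
    exact hcon ((hfin W hW hA hP1).trans (hfin W' hW' hA' hP1').symm)

theorem uniq (h : K4 S) (hr : HR G r) (hB : BS G r) (hK0 : Oc (centralizer ((S : Subgroup G) : Set G)) = ⊥)
    {W W' : Subgroup G} (hW : IMax S r W) (hW' : IMax S r W') (hne : W ⊓ W' ≠ ⊥) : W = W' :=
  uniq_aux h hr hB hK0 (Nat.card G) W W' hW hW' hne (Nat.le_add_right _ _)

/-- `n ∈ N(S)` permutes the maximal invariant subgroups -/
theorem IMax.conj {W : Subgroup G} (hW : IMax S r W) {g : G} (hg : g ∈ normalizer ((S : Subgroup G) : Set G)) :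
    IMax S r (W.map (MulAut.conj g).toMonoidHom) := by
  have key : ∀ g ∈ normalizer ((S : Subgroup G) : Set G), ∀ V : Subgroup G, Inv S r V →
      Inv S r (V.map (MulAut.conj g).toMonoidHom) := by
    intro g hg V hV
    refine ⟨hV.1.map _, ?_⟩
    rw [← SylAmb.map_conj_normalizer]
    intro s hs
    rw [SylAmb.mem_map_conj_iff]
    apply hV.2
    have := (mem_normalizer_iff.1 (inv_mem hg) s).1 hs
    rwa [inv_inv] at this
  refine ⟨key g hg W hW.1, ?_⟩
  intro W' hW' hle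
  have h1 := key g⁻¹ (inv_mem hg) W' hW'
  have h2 : W ≤ W'.map (MulAut.conj g⁻¹).toMonoidHom := by
    intro w hw
    rw [SylAmb.mem_map_conj_iff]
    apply hle
    rw [SylAmb.mem_map_conj_iff]
    convert hw using 1
    group
  have h3 := hW.2 _ h1 h2
  rw [← h3, SylAmb.map_conj_map_conj, mul_inv_cancel, SylAmb.map_conj_one]

/-- `W ∩ C(y) = 1` -/
theorem K4.inf_cent [IsSimpleGroup G] (h : K4 S) (hr : HR G r) (hB : BS G r)
    (hK0 : Oc (centralizer ((S : Subgroup G) : Set G)) = ⊥) {a : G} (ha : a ∈ (S : Subgroup G)) (ha1 : a ≠ 1)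
    (hK1 : Oc (centralizer ({a} : Set G)) ≠ ⊥) {W : Subgroup G} (hW : IMax S r W)
    (hKW : Oc (centralizer ({a} : Set G)) ≤ W) {y : G} (hy : y ∈ (S : Subgroup G)) (hy1 : y ≠ 1) (hya : y ≠ a) :
    ∀ w ∈ W, w * y = y * w → w = 1 := by
  intro w hw hwy
  by_contra hw1
  obtain ⟨n, hnS, hnc, hno⟩ := h.exists_n
  -- y = g a g⁻¹
  have hex : ∃ g ∈ normalizer ((S : Subgroup G) : Set G), g ∉ centralizer ((S : Subgroup G) : Set G) ∧ g * a * g⁻¹ = y := by
    have hnS' : ∀ {s : G}, s ∈ (S : Subgroup G) → n * s * n⁻¹ ∈ (S : Subgroup G) :=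
      fun {s} hs => (mem_normalizer_iff.1 hnS s).1 hs
    have hb := hnS' ha
    have hba := h.ne_of_odd hnS hno hnc ha ha1
    have hb1 : n * a * n⁻¹ ≠ 1 := by
      intro h1
      apply ha1
      calc a = n⁻¹ * (n * a * n⁻¹) * n := by group
        _ = 1 := by rw [h1]; group
    rcases h.elems ha ha1 hb hb1 hba hy with h1 | h1 | h1 | h1
    · exact absurd h1 hy1
    · exact absurd h1 hya
    · exact ⟨n, hnS, hnc, h1.symm⟩
    · refine ⟨n⁻¹, inv_mem hnS, fun hh => hnc (by simpa using inv_mem hh), ?_⟩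
      -- n y n⁻¹ = a
      have hc := h.cyc hnS hno hnc ha ha1
      rw [h1]
      have h2 := h.cyc hnS hno hnc hb hb1
      have e1 : a * (n * a * n⁻¹) * (n * a * n⁻¹) = a := by
        rw [mul_assoc, h.sq _ hb, mul_one]
      have e2 : n * (a * (n * a * n⁻¹)) * n⁻¹ = a := by
        calc n * (a * (n * a * n⁻¹)) * n⁻¹ = n * (n * (n * a * n⁻¹) * n⁻¹) * n⁻¹ := by rw [hc]
          _ = (n * a * n⁻¹) * (n * (n * a * n⁻¹) * n⁻¹) := h2
          _ = (n * a * n⁻¹) * (a * (n * a * n⁻¹)) := by rw [hc]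
          _ = (a * (n * a * n⁻¹)) * (n * a * n⁻¹) := by
              rw [h.comm hb (mul_mem ha hb)]
          _ = a := e1
      calc n⁻¹ * a * n⁻¹⁻¹ = n⁻¹ * (n * (a * (n * a * n⁻¹)) * n⁻¹) * n⁻¹⁻¹ := by rw [e2]
        _ = a * (n * a * n⁻¹) := by group
  obtain ⟨g, hgS, hgc, hgy⟩ := hex
  have h1 := hW.conj hgS
  have hwg : w ∈ W.map (MulAut.conj g).toMonoidHom := by
    rw [SylAmb.mem_map_conj_iff]
    apply hKW
    apply h.mem_K ha ha1
    · rw [mem_centralizer_singleton_iff]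
      have e : a = g⁻¹ * y * g := by rw [← hgy]; group
      rw [e]
      calc g⁻¹ * w * g * (g⁻¹ * y * g) = g⁻¹ * (w * y) * g := by group
        _ = g⁻¹ * (y * w) * g := by rw [hwy]
        _ = g⁻¹ * y * g * (g⁻¹ * w * g) := by group
    · have : orderOf (g⁻¹ * w * g) = orderOf w := by
        have := orderOf_injective (MulAut.conj g⁻¹).toMonoidHom (MulAut.conj g⁻¹).injective w
        simpa using this
      rw [this]
      exact odd_orderOf_of_mem (odd_of_pgroup hr hW.1.1) hw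
  have h2 : W = W.map (MulAut.conj g).toMonoidHom := by
    apply uniq h hr hB hK0 hW h1
    intro hbot
    exact hw1 (mem_bot.1 (hbot ▸ (⟨hw, hwg⟩ : w ∈ W ⊓ W.map (MulAut.conj g).toMonoidHom)))
  have hgW : g ∈ normalizer (W : Set G) := SylAmb.mem_normalizer_iff_map.2 h2.symm
  have h3 := h.le_cent_of hB hgS hgc hW.1.1 hW.1.2 hgW
  have h4 := h.bot_of_le_cent hK0 (odd_of_pgroup hr hW.1.1) h3
  exact hK1 (le_bot_iff.1 (h4 ▸ hKW))

/-- `K = O(C(a))` is a maximal invariant `r`-subgroup, inverted by `b ∈ S`, `b ≠ 1, a` -/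
theorem K4.K_max [IsSimpleGroup G] (h : K4 S) (hr : HR G r) (hB : BS G r)
    (hK0 : Oc (centralizer ((S : Subgroup G) : Set G)) = ⊥) {a : G} (ha : a ∈ (S : Subgroup G)) (ha1 : a ≠ 1)
    (hK1 : Oc (centralizer ({a} : Set G)) ≠ ⊥) :
    IMax S r (Oc (centralizer ({a} : Set G))) ∧
      ∀ y ∈ (S : Subgroup G), y ≠ 1 → y ≠ a → ∀ k ∈ Oc (centralizer ({a} : Set G)), y * k * y⁻¹ = k⁻¹ := by
  have hSa : (S : Subgroup G) ≤ centralizer ({a} : Set G) := le_cent_singleton h.le_cent ha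
  have hKinv : Inv S r (Oc (centralizer ({a} : Set G))) :=
    ⟨h.K_pgroup hr ha ha1, hSa.trans (le_norm_Oc _)⟩
  obtain ⟨W, hKW, hW⟩ := exists_IMax hKinv
  have hinv : ∀ y ∈ (S : Subgroup G), y ≠ 1 → y ≠ a → ∀ w ∈ W, y * w * y⁻¹ = w⁻¹ := by
    intro y hy hy1 hya
    apply ConstFour.inverts
    · intro w hw
      exact (mem_normalizer_iff.1 (hW.1.2 hy) w).1 hw
    · intro w _
      rw [h.sq y hy, one_mul, mul_one]
    · intro w hw hyw
      exact h.inf_cent hr hB hK0 ha ha1 hK1 hW hKW hy hy1 hya w hw hyw.symm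
  -- a centralizes W
  obtain ⟨b, hb, hb1, hba⟩ : ∃ b ∈ (S : Subgroup G), b ≠ 1 ∧ b ≠ a := by
    obtain ⟨n, hnS, hnc, hno⟩ := h.exists_n
    refine ⟨n * a * n⁻¹, (mem_normalizer_iff.1 hnS a).1 ha, ?_, h.ne_of_odd hnS hno hnc ha ha1⟩
    intro h1
    apply ha1
    calc a = n⁻¹ * (n * a * n⁻¹) * n := by group
      _ = 1 := by rw [h1]; group
  have hWa : W ≤ Oc (centralizer ({a} : Set G)) := by
    intro w hw
    have h1 := hinv b hb hb1 hba w hw
    have hab1 : a * b ≠ 1 := by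
      intro h2
      have : b = a⁻¹ := (inv_eq_of_mul_eq_one_right h2).symm
      rw [h.inv ha] at this
      exact hba this
    have haba : a * b ≠ a := fun h2 => hb1 (mul_eq_left.1 h2)
    have h2 := hinv (a * b) (mul_mem ha hb) hab1 haba w hw
    have h3 : a * w⁻¹ * a⁻¹ = w⁻¹ := by
      calc a * w⁻¹ * a⁻¹ = a * (b * w * b⁻¹) * a⁻¹ := by rw [h1]
        _ = (a * b) * w * (a * b)⁻¹ := by group
        _ = w⁻¹ := h2
    have h4 : w * a = a * w := by
      have h5 : a * w * a⁻¹ = w := by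
        have := congrArg (fun z => z⁻¹) h3
        simpa [mul_assoc] using this
      calc w * a = (a * w * a⁻¹) * a := by rw [h5]
        _ = a * w := by group
    apply h.mem_K ha ha1 (mem_centralizer_singleton_iff.2 h4)
    exact odd_orderOf_of_mem (odd_of_pgroup hr hW.1.1) hw
  have heq : W = Oc (centralizer ({a} : Set G)) := le_antisymm hWa hKW
  rw [heq] at hW hinv
  exact ⟨hW, hinv⟩

theorem K4.case3 [IsSimpleGroup G] (h : K4 S) (hr : HR G r) (hB : BS G r)
    (hK0 : Oc (centralizer ((S : Subgroup G) : Set G)) = ⊥) {a : G} (ha : a ∈ (S : Subgroup G)) (ha1 : a ≠ 1)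
    (hK1 : Oc (centralizer ({a} : Set G)) ≠ ⊥) {Y : Subgroup G} (hY : Y ≤ Oc (centralizer ({a} : Set G)))
    (hY1 : Y ≠ ⊥) : normalizer (Y : Set G) ≤ centralizer ({a} : Set G) := by
  obtain ⟨hmax, hinv⟩ := h.K_max hr hB hK0 ha ha1 hK1
  set K := Oc (centralizer ({a} : Set G)) with hK
  have hSa : (S : Subgroup G) ≤ centralizer ({a} : Set G) := le_cent_singleton h.le_cent ha
  have hKa : ∀ k ∈ K, k * a = a * k := fun k hk => mem_centralizer_singleton_iff.1 (Oc_le _ hk)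
  obtain ⟨b, hb, hb1, hba⟩ : ∃ b ∈ (S : Subgroup G), b ≠ 1 ∧ b ≠ a := by
    obtain ⟨n, hnS, hnc, hno⟩ := h.exists_n
    refine ⟨n * a * n⁻¹, (mem_normalizer_iff.1 hnS a).1 ha, ?_, h.ne_of_odd hnS hno hnc ha ha1⟩
    intro h1
    apply ha1
    calc a = n⁻¹ * (n * a * n⁻¹) * n := by group
      _ = 1 := by rw [h1]; group
  -- K abelian
  have hKab : ∀ x ∈ K, ∀ y ∈ K, x * y = y * x := by
    intro x hx y hy
    have h1 := hinv b hb hb1 hba (x * y) (mul_mem hx hy)
    have h2 := hinv b hb hb1 hba x hx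
    have h3 := hinv b hb hb1 hba y hy
    have h4 : (x * y)⁻¹ = x⁻¹ * y⁻¹ := by
      rw [← h1, ← h2, ← h3]; group
    rw [mul_inv_rev] at h4
    calc x * y = (y⁻¹ * x⁻¹)⁻¹ := by group
      _ = (x⁻¹ * y⁻¹)⁻¹ := by rw [h4]
      _ = y * x := by group
  have hSY : (S : Subgroup G) ≤ normalizer (Y : Set G) := by
    intro s hs
    have key : ∀ s ∈ (S : Subgroup G), ∀ y ∈ Y, s * y * s⁻¹ ∈ Y := by
      intro s hs y hy
      by_cases h1 : s = 1
      · rw [h1]; simpa using hy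
      by_cases h2 : s = a
      · rw [h2, ← hKa y (hY hy)]; simpa using hy
      · rw [hinv s hs h1 h2 y (hY hy)]; exact inv_mem hy
    rw [mem_normalizer_iff]
    intro y
    refine ⟨key s hs y, fun hy => ?_⟩
    have := key s⁻¹ (inv_mem hs) _ hy
    have e : s⁻¹ * (s * y * s⁻¹) * s⁻¹⁻¹ = y := by group
    rwa [e] at this
  have hYr : IsPGroup r Y := hmax.1.1.to_le hY
  have hnil := h.nD hr hB hK0 hYr hSY hY1
  set M := Oc (normalizer (Y : Set G)) with hM
  obtain ⟨y0, hy0, hy01⟩ : ∃ y0 : G, y0 ∈ Y ∧ y0 ≠ 1 := by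
    by_contra hcon
    push Not at hcon
    apply hY1
    rw [eq_bot_iff]; intro x hx; exact mem_bot.2 (hcon x hx)
  haveI : Fact r.Prime := ⟨hr.rp⟩
  have hy0o : orderOf y0 = r := orderOf_eq_prime (h.K_pow hr ha ha1 (hY hy0)) hy01
  -- M ⊓ C(Y) = K
  have hMC : M ⊓ centralizer (Y : Set G) = K := by
    apply hmax.2
    · refine ⟨isPGroup_of_pow ?_, ?_⟩
      · rintro m ⟨hm, hmc⟩
        exact hr.pow_r_of_comm_r hy0o (mem_centralizer_iff.1 hmc y0 hy0).symm (odd_orderOf_of_mem (odd_Oc _) hm)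
      · intro s hs
        rw [mem_normalizer_iff]
        intro x
        have h1 := mem_normalizer_iff.1 (le_norm_Oc _ (hSY hs)) x
        have h2 := mem_normalizer_iff.1 (norm_le_norm_centralizer Y (hSY hs)) x
        constructor
        · rintro ⟨ha, hb⟩; exact ⟨h1.1 ha, h2.1 hb⟩
        · rintro ⟨ha, hb⟩; exact ⟨h1.2 ha, h2.2 hb⟩
    · intro k hk
      have h1 : k ∈ centralizer (Y : Set G) := by
        rw [mem_centralizer_iff]
        intro y hy
        exact hKab y (hY hy) k hk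
      refine ⟨?_, h1⟩
      exact mem_Oc_of_odd h.sq hSY hnil (centralizer_le_normalizer _ h1) (odd_orderOf_of_mem (odd_Oc _) hk)
  have haY : a ∈ centralizer (Y : Set G) := by
    rw [mem_centralizer_iff]
    intro y hy
    exact hKa y (hY hy)
  have hMa : ∀ m ∈ M, m * a = a * m := by
    intro m hm
    have hmY : m ∈ normalizer (Y : Set G) := Oc_le _ hm
    have h1 : m * a * m⁻¹ * a⁻¹ ∈ centralizer (Y : Set G) :=
      mul_mem ((mem_normalizer_iff.1 (norm_le_norm_centralizer Y hmY) a).1 haY) (inv_mem haY)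
    have h2 : m * a * m⁻¹ * a⁻¹ ∈ M := by
      have h3 : a * m⁻¹ * a⁻¹ ∈ M := (mem_normalizer_iff.1 (le_norm_Oc _ (hSY ha)) m⁻¹).1 (inv_mem hm)
      have e : m * a * m⁻¹ * a⁻¹ = m * (a * m⁻¹ * a⁻¹) := by group
      rw [e]; exact mul_mem hm h3
    have h3 : m * a * m⁻¹ * a⁻¹ ∈ K := by rw [← hMC]; exact ⟨h2, h1⟩
    have h4 := hKa _ h3
    have h5 : (m * a * m⁻¹ * a⁻¹) * (m * a * m⁻¹ * a⁻¹) = 1 := by
      calc (m * a * m⁻¹ * a⁻¹) * (m * a * m⁻¹ * a⁻¹)
          = (m * a * m⁻¹ * a⁻¹) * (m * a * m⁻¹ * a⁻¹) * (a * a) := by rw [h.sq a ha, mul_one]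
        _ = (m * a * m⁻¹ * a⁻¹) * ((m * a * m⁻¹ * a⁻¹) * a) * a := by group
        _ = (m * a * m⁻¹ * a⁻¹) * (a * (m * a * m⁻¹ * a⁻¹)) * a := by rw [h4]
        _ = m * (a * a) * m⁻¹ := by group
        _ = 1 := by rw [h.sq a ha]; group
    have h6 : m * a * m⁻¹ * a⁻¹ = 1 := eq_one_of_sq h5 (odd_orderOf_of_mem (odd_Oc _) h3)
    calc m * a = (m * a * m⁻¹ * a⁻¹) * (a * m) := by group
      _ = a * m := by rw [h6, one_mul]
  intro x hx
  obtain ⟨m, hm, s, hs, rfl⟩ := hnil x hx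
  exact mul_mem (mem_centralizer_singleton_iff.2 (hMa m hm)) (hSa hs)

/-- the four-group case -/
theorem four_case_of [IsSimpleGroup G] (h : K4 S) (hr : HR G r) (hB : BS G r) :
    ∃ (F : Type) (_ : Field F) (_ : Fintype F),
      Nonempty (G ≃* Matrix.ProjectiveSpecialLinearGroup (Fin 2) F) := by
  obtain ⟨a, ha, ha1⟩ := h.exists_ne
  by_cases hK0 : Oc (centralizer ((S : Subgroup G) : Set G)) = ⊥
  swap
  · exact h.final1 ha ha1 (h.case2 hr hB hK0 ha ha1)
  by_cases hK1 : Oc (centralizer ({a} : Set G)) = ⊥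
  · apply h.final1 ha ha1
    rw [hK1]
    intro s _
    rw [mem_centralizer_iff]
    intro k hk
    have : k = 1 := mem_bot.1 hk
    rw [this]; simp
  obtain ⟨hmax, hinv⟩ := h.K_max hr hB hK0 ha ha1 hK1
  have hK : IsKleinFour ↥(S : Subgroup G) := by
    refine ⟨h.c4, ?_⟩
    have hd : Monoid.exponent ↥(S : Subgroup G) ∣ 2 :=
      Monoid.exponent_dvd_of_forall_pow_eq_one fun s => Subtype.ext (by
        rw [Subgroup.coe_pow, pow_two]; exact h.sq s s.2)
    rcases (Nat.dvd_prime Nat.prime_two).1 hd with h1 | h1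
    · exfalso
      rw [Monoid.exp_eq_one_iff] at h1
      exact ha1 (congrArg Subtype.val (Subsingleton.elim (⟨a, ha⟩ : (S : Subgroup G)) 1))
    · exact h1
  obtain ⟨k0, hk0, hk01⟩ : ∃ k0 : G, k0 ∈ Oc (centralizer ({a} : Set G)) ∧ k0 ≠ 1 := by
    by_contra hcon
    push Not at hcon
    apply hK1
    rw [eq_bot_iff]; intro x hx; exact mem_bot.2 (hcon x hx)
  have hSa : ∀ s ∈ (S : Subgroup G), s * a = a * s := fun s hs => h.comm hs ha
  -- S ⊓ C(K) = ⟨a⟩
  have hSC : (S : Subgroup G) ⊓ centralizer (Oc (centralizer ({a} : Set G)) : Set G) = zpowers a := by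
    apply le_antisymm
    · rintro s ⟨hs, hsc⟩
      by_cases h1 : s = 1
      · rw [h1]; exact one_mem _
      by_cases h2 : s = a
      · rw [h2]; exact mem_zpowers a
      · exfalso
        have h3 := hinv s hs h1 h2 k0 hk0
        have h4 := mem_centralizer_iff.1 hsc k0 hk0
        have h5 : k0 * k0 = 1 := by
          have h6 : s * k0 * s⁻¹ = k0 := by rw [← h4]; group
          rw [h6] at h3
          calc k0 * k0 = k0 * k0⁻¹ := by rw [← h3]
            _ = 1 := mul_inv_cancel _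
        exact hk01 (eq_one_of_sq h5 (odd_orderOf_of_mem (odd_Oc _) hk0))
    · rw [zpowers_le]
      refine ⟨ha, ?_⟩
      change a ∈ centralizer (Oc (centralizer ({a} : Set G)) : Set G)
      rw [mem_centralizer_iff]
      intro k hk
      exact mem_centralizer_singleton_iff.1 (Oc_le _ hk)
  obtain ⟨F, i1, i2, -, hF⟩ := S0508.result S 2 le_rfl (IsKleinFour.nonempty_mulEquiv) a (h.orderOf_eq ha ha1) ha hSa
    (Oc (centralizer ({a} : Set G))) rfl
    (by
      intro _
      rw [hSC]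
      refine ⟨inferInstance, ?_⟩
      have h1 : Nat.card (zpowers a) = 2 := by rw [Nat.card_zpowers, h.orderOf_eq ha ha1]
      have h4 : Nat.card (S : Subgroup G) = 4 := h.c4
      have h5 : Nat.card (zpowers a) * (zpowers a).relIndex (S : Subgroup G) = Nat.card (S : Subgroup G) := by
        have h6 := Subgroup.card_mul_index ((zpowers a).subgroupOf (S : Subgroup G))
        rwa [Nat.card_congr (Subgroup.subgroupOfEquivOfLe (zpowers_le.2 ha : zpowers a ≤ (S : Subgroup G))).toEquiv] at h6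
      rw [h1, h4] at h5
      omega)
    (by
      intro s hs hsc y hy
      by_cases h1 : s = 1
      · exact absurd (by rw [h1]; exact one_mem _) hsc
      by_cases h2 : s = a
      · exfalso
        apply hsc
        rw [h2, mem_centralizer_iff]
        intro k hk
        exact mem_centralizer_singleton_iff.1 (Oc_le _ hk)
      · exact hinv s hs h1 h2 y hy)
    (fun Y hY hY1 => h.case3 hr hB hK0 ha ha1 hK1 hY hY1)
  exact ⟨F, i1, i2, hF⟩

/-- PIECE C of S3718: for `h : HypR G r` use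
`four_case_main ⟨h.rp, h.r2, h.even, h.rr⟩ (fun hA hR hAR _ hnA hnR hn _ ha => h.comm_centralizes hA hR hAR hnA hnR hn ha) S hS` -/
theorem four_case_main (hr : HR G r) (hB : BS G r) [IsSimpleGroup G] (S : Sylow 2 G) (hS : Nat.card S = 4) :
    ∃ (F : Type) (_ : Field F) (_ : Fintype F),
      Nonempty (G ≃* Matrix.ProjectiveSpecialLinearGroup (Fin 2) F) :=
  four_case_of ⟨hS, fun _ ha => hr.sq S.isPGroup' ha⟩ hr hB

end Cfsg.Agent.Lib.H15TC
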