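import Cfsg.Agent.Lib.BenPe
import Cfsg.Prelude.Def_Involutions

/-!
# S3718, pieces D2strong, D2trans, D2syl (helper33)
-/

set_option autoImplicit false
set_option linter.unusedSectionVars false

namespace Cfsg.Agent.Lib.H15T

open Subgroup MulAction Cfsg Cfsg.Agent.Lib.InvAct Cfsg.Agent.Lib.SylAmb

variable {G : Type*} [Group G] [Finite G]

section D2
variable [IsSimpleGroup G] (S : Sylow 2 G) (hS2 : IsElementaryAbelian 2 (S : Subgroup G)) (h4 : 4 ≤ Nat.card S)
  (hC : ∀ t ∈ (S : Subgroup G), t ≠ 1 → centralizer ({t} : Set G) ≤ normalizer ((S : Subgroup G) : Set G))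

omit [IsSimpleGroup G] in
/-- 2-elements of `N(S)` lie in `S` -/
theorem d2_mem {t : G} (ht : orderOf t = 2) (htN : t ∈ normalizer ((S : Subgroup G) : Set G)) : t ∈ (S : Subgroup G) := by
  have h2 : Fact (Nat.Prime 2) := ⟨Nat.prime_two⟩
  have hz : IsPGroup 2 (zpowers t) := by
    apply IsPGroup.of_card (n := 1)
    rw [Nat.card_zpowers, ht, pow_one]
  have h3 : IsPGroup 2 ((zpowers t ⊔ (S : Subgroup G) : Subgroup G)) :=
    hz.to_sup_of_normal_right' S.2 (by rw [zpowers_le]; exact htN)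
  have h4 := S.3 h3 le_sup_right
  exact h4.le (mem_sup_left (mem_zpowers t))

omit [IsSimpleGroup G] in
include hS2 hC in
/-- every involution fixes exactly one coset of `N(S)` -/
theorem d2_uniqueFix : UniqueFix G (G ⧸ normalizer ((S : Subgroup G) : Set G)) := by
  have h2 : Fact (Nat.Prime 2) := ⟨Nat.prime_two⟩
  intro t ht
  have hz : IsPGroup 2 (zpowers t) := by
    apply IsPGroup.of_card (n := 1)
    rw [Nat.card_zpowers, ht, pow_one]
  obtain ⟨Q, hQ⟩ := hz.exists_le_sylow
  obtain ⟨g, hg⟩ := exists_smul_eq G S Q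
  have hmem : ∀ g : G, t • (QuotientGroup.mk g : G ⧸ normalizer ((S : Subgroup G) : Set G)) = QuotientGroup.mk g ↔
      g⁻¹ * t * g ∈ (S : Subgroup G) := by
    intro g
    have e : t • (QuotientGroup.mk g : G ⧸ normalizer ((S : Subgroup G) : Set G)) = QuotientGroup.mk (t * g) := rfl
    rw [e, eq_comm, QuotientGroup.eq, ← mul_assoc]
    constructor
    · intro h
      apply d2_mem S _ h
      have := orderOf_injective (MulAut.conj g⁻¹).toMonoidHom (MulAut.conj g⁻¹).injective t
      simpa [ht] using this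
    · intro h
      exact le_normalizer h
  refine ⟨QuotientGroup.mk g, (hmem g).2 ?_, ?_⟩
  · have h3 : t ∈ (Q : Subgroup G) := hQ (mem_zpowers t)
    rw [← hg, Sylow.smul_def] at h3
    obtain ⟨s, hs, e⟩ := h3
    have e' : g * s * g⁻¹ = t := e
    rw [← e']
    have : g⁻¹ * (g * s * g⁻¹) * g = s := by group
    rw [this]; exact hs
  · intro x hx
    obtain ⟨h, rfl⟩ := QuotientGroup.mk_surjective x
    have h3 := (hmem h).1 hx
    have h4 : g⁻¹ * t * g ∈ (S : Subgroup G) := by
      have h3 : t ∈ (Q : Subgroup G) := hQ (mem_zpowers t)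
      rw [← hg, Sylow.smul_def] at h3
      obtain ⟨s, hs, e⟩ := h3
      have e' : g * s * g⁻¹ = t := e
      rw [← e']
      have : g⁻¹ * (g * s * g⁻¹) * g = s := by group
      rw [this]; exact hs
    symm
    rw [QuotientGroup.eq]
    -- k = g⁻¹ h, s = h⁻¹ t h ∈ S, k s k⁻¹ = g⁻¹ t g ∈ S
    set k := g⁻¹ * h with hk
    have hs1 : h⁻¹ * t * h ≠ 1 := by
      intro h5
      have : t = 1 := by
        calc t = h * (h⁻¹ * t * h) * h⁻¹ := by group
          _ = 1 := by rw [h5]; group
      rw [this, orderOf_one] at ht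
      omega
    have hks : k * (h⁻¹ * t * h) * k⁻¹ = g⁻¹ * t * g := by rw [hk]; group
    have hks1 : k * (h⁻¹ * t * h) * k⁻¹ ≠ 1 := by
      intro h5
      apply hs1
      calc h⁻¹ * t * h = k⁻¹ * (k * (h⁻¹ * t * h) * k⁻¹) * k := by group
        _ = 1 := by rw [h5]; group
    have hle : (S : Subgroup G).map (MulAut.conj k).toMonoidHom ≤ normalizer ((S : Subgroup G) : Set G) := by
      rintro _ ⟨x, hx, rfl⟩
      have h6 : k * (h⁻¹ * t * h) * k⁻¹ ∈ (S : Subgroup G) := by rw [hks]; exact h4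
      apply hC _ h6 hks1
      rw [mem_centralizer_singleton_iff]
      have h7 : x * (h⁻¹ * t * h) = (h⁻¹ * t * h) * x :=
        congrArg Subtype.val (hS2.1.is_comm.comm (⟨x, hx⟩ : (S : Subgroup G)) ⟨_, h3⟩)
      show k * x * k⁻¹ * (k * (h⁻¹ * t * h) * k⁻¹) = k * (h⁻¹ * t * h) * k⁻¹ * (k * x * k⁻¹)
      calc k * x * k⁻¹ * (k * (h⁻¹ * t * h) * k⁻¹) = k * (x * (h⁻¹ * t * h)) * k⁻¹ := by group
        _ = k * ((h⁻¹ * t * h) * x) * k⁻¹ := by rw [h7]
        _ = k * (h⁻¹ * t * h) * k⁻¹ * (k * x * k⁻¹) := by group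
    have hle2 : (S : Subgroup G).map (MulAut.conj k).toMonoidHom ≤ (S : Subgroup G) := by
      have h8 : IsPGroup 2 (((S : Subgroup G).map (MulAut.conj k).toMonoidHom ⊔ (S : Subgroup G) : Subgroup G)) :=
        (S.2.map _).to_sup_of_normal_right' S.2 hle
      have h9 := S.3 h8 le_sup_right
      exact le_sup_left.trans h9.le
    rw [mem_normalizer_iff_map]
    exact Subgroup.eq_of_le_of_card_ge hle2 (Subgroup.card_map_of_injective (MulAut.conj k).injective).ge

include h4 in
theorem d2_ne_top : normalizer ((S : Subgroup G) : Set G) ≠ ⊤ := by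
  have h2 : Fact (Nat.Prime 2) := ⟨Nat.prime_two⟩
  intro h
  have hn : (S : Subgroup G).Normal := normalizer_eq_top_iff.1 h
  rcases hn.eq_bot_or_eq_top with h5 | h5
  · have : Nat.card S = 1 := by
      show Nat.card (S : Subgroup G) = 1
      rw [h5]; exact Subgroup.card_bot
    omega
  · have hp : IsPGroup 2 G := by
      have := S.2
      rw [h5] at this
      exact this.of_surjective (Subgroup.topEquiv (G := G)).toMonoidHom Subgroup.topEquiv.surjective
    have hcard : Nat.card S = Nat.card G := by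
      show Nat.card (S : Subgroup G) = Nat.card G
      rw [h5]; exact Subgroup.card_top
    have hnt : Nontrivial G := inferInstance
    have hcn : Nontrivial (center G) := hp.center_nontrivial
    have hct : center G = ⊤ := by
      rcases (inferInstance : (center G).Normal).eq_bot_or_eq_top with h6 | h6
      · exfalso
        rw [h6] at hcn
        exact not_nontrivial _ hcn
      · exact h6
    obtain ⟨t, ht⟩ := exists_prime_orderOf_dvd_card' (G := G) 2 (by
      rcases hp.card_eq_or_dvd with h7 | h7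
      · omega
      · exact h7)
    have hzn : (zpowers t).Normal := by
      refine ⟨fun n hn g => ?_⟩
      have : n ∈ center G := by rw [hct]; exact mem_top _
      rw [mem_center_iff.1 this g, mul_inv_cancel_right]
      exact hn
    rcases hzn.eq_bot_or_eq_top with h7 | h7
    · rw [zpowers_eq_bot] at h7
      rw [h7, orderOf_one] at ht
      omega
    · have h8 : Nat.card (zpowers t) = Nat.card G := by rw [h7]; exact Subgroup.card_top
      rw [Nat.card_zpowers, ht] at h8
      omega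

include hS2 h4 hC

theorem d2_strong : IsStronglyEmbedded (normalizer ((S : Subgroup G) : Set G)) := by
  have h2 : Fact (Nat.Prime 2) := ⟨Nat.prime_two⟩
  have hU := d2_uniqueFix S hS2 hC
  refine ⟨d2_ne_top S h4, ?_, ?_⟩
  · rw [even_iff_two_dvd]
    refine Dvd.dvd.trans ?_ (card_dvd_of_le (le_normalizer (H := (S : Subgroup G))))
    rcases S.2.card_eq_or_dvd with h7 | h7
    · exfalso
      have : Nat.card S = 1 := h7
      omega
    · exact h7
  · intro g hg
    rw [← Nat.not_even_iff_odd]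
    intro h
    obtain ⟨t, ht⟩ := exists_prime_orderOf_dvd_card'
      (G := ↥(normalizer ((S : Subgroup G) : Set G) ⊓ (normalizer ((S : Subgroup G) : Set G)).map (MulAut.conj g).toMonoidHom))
      2 h.two_dvd
    have h1 : orderOf (t : G) = 2 := (Subgroup.orderOf_coe t).trans ht
    obtain ⟨hN1, hN2⟩ := t.2
    have e1 : (t : G) • ((1 : G) : G ⧸ normalizer ((S : Subgroup G) : Set G)) = ((1 : G) : G ⧸ normalizer ((S : Subgroup G) : Set G)) := by
      have e : (t : G) • ((1 : G) : G ⧸ normalizer ((S : Subgroup G) : Set G)) = ((t * 1 : G) : G ⧸ normalizer ((S : Subgroup G) : Set G)) := rfl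
      rw [e, eq_comm, QuotientGroup.eq]
      simpa using hN1
    have e2 : (t : G) • ((g : G) : G ⧸ normalizer ((S : Subgroup G) : Set G)) = ((g : G) : G ⧸ normalizer ((S : Subgroup G) : Set G)) := by
      have e : (t : G) • ((g : G) : G ⧸ normalizer ((S : Subgroup G) : Set G)) = ((t * g : G) : G ⧸ normalizer ((S : Subgroup G) : Set G)) := rfl
      rw [e, eq_comm, QuotientGroup.eq, ← mul_assoc]
      obtain ⟨n, hn, hn2⟩ := hN2
      have hn3 : g * n * g⁻¹ = t := hn2
      rw [← hn3]
      have : g⁻¹ * (g * n * g⁻¹) * g = n := by group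
      rw [this]; exact hn
    have h5 := eq_of_fix hU h1 e1 e2
    rw [QuotientGroup.eq] at h5
    apply hg
    simpa using h5

theorem d2_star {p : ℕ} (hp : p.Prime) (hp2 : p ≠ 2) (hpS : p ∣ Nat.card S - 1) :
    BenP.Star G (G ⧸ normalizer ((S : Subgroup G) : Set G)) p := by
  have h2 : Fact (Nat.Prime 2) := ⟨Nat.prime_two⟩
  have hpf : Fact p.Prime := ⟨hp⟩
  have hU := d2_uniqueFix S hS2 hC
  intro c f v X hv hvc hfc hXp hXc hXf hvN
  -- number of involutions fixing `c`
  have hcard : (invSwap G c c).ncard = Nat.card S - 1 := by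
    rw [ncard_invFix_eq c ((1 : G) : G ⧸ normalizer ((S : Subgroup G) : Set G))]
    have hset : invSwap G ((1 : G) : G ⧸ normalizer ((S : Subgroup G) : Set G)) ((1 : G) : G ⧸ normalizer ((S : Subgroup G) : Set G))
        = ((S : Subgroup G) : Set G) \ {1} := by
      ext t
      constructor
      · rintro ⟨ht, ht1⟩
        have e : t • ((1 : G) : G ⧸ normalizer ((S : Subgroup G) : Set G)) = ((t * 1 : G) : G ⧸ normalizer ((S : Subgroup G) : Set G)) := rfl
        rw [e, eq_comm, QuotientGroup.eq] at ht1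
        have ht2 : t ∈ normalizer ((S : Subgroup G) : Set G) := by simpa using ht1
        refine ⟨d2_mem S ht ht2, ?_⟩
        intro h
        rw [Set.mem_singleton_iff] at h
        rw [h, orderOf_one] at ht
        omega
      · rintro ⟨ht, ht1⟩
        have ht1' : t ≠ 1 := ht1
        refine ⟨?_, ?_⟩
        · exact orderOf_two_iff.2 ⟨by rw [← pow_two]; exact hS2.2 t ht, ht1'⟩
        · have e : t • ((1 : G) : G ⧸ normalizer ((S : Subgroup G) : Set G)) = ((t * 1 : G) : G ⧸ normalizer ((S : Subgroup G) : Set G)) := rfl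
          rw [e, eq_comm, QuotientGroup.eq]
          have : t ∈ normalizer ((S : Subgroup G) : Set G) := le_normalizer ht
          simpa using this
    rw [hset, Set.ncard_diff_singleton_of_mem (one_mem _)]
    rfl
  have hfac : 1 ≤ ((invSwap G c c).ncard.factorization p) := by
    rw [hcard]
    exact (hp.dvd_iff_one_le_factorization (by omega)).1 hpS
  -- `v` centralizes `X`
  have hXv : X ≤ centralizer ({v} : Set G) := by
    obtain ⟨g, rfl⟩ := QuotientGroup.mk_surjective c
    have hstab : ∀ x : G, x • (QuotientGroup.mk g : G ⧸ normalizer ((S : Subgroup G) : Set G)) = QuotientGroup.mk g →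
        g⁻¹ * x * g ∈ normalizer ((S : Subgroup G) : Set G) := by
      intro x hx
      have e : x • (QuotientGroup.mk g : G ⧸ normalizer ((S : Subgroup G) : Set G)) = QuotientGroup.mk (x * g) := rfl
      rw [e, eq_comm, QuotientGroup.eq, ← mul_assoc] at hx
      exact hx
    have hv1 : g⁻¹ * v * g ∈ (S : Subgroup G) := by
      apply d2_mem S _ (hstab v hvc)
      have := orderOf_injective (MulAut.conj g⁻¹).toMonoidHom (MulAut.conj g⁻¹).injective v
      simpa [hv] using this
    intro x hx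
    rw [mem_centralizer_singleton_iff]
    have hx1 : g⁻¹ * x * g ∈ normalizer ((S : Subgroup G) : Set G) := hstab x (hXc hx)
    -- the commutator
    have hc1 : x * v * x⁻¹ * v⁻¹ ∈ X := by
      have h5 := (mem_normalizer_iff.1 hvN x⁻¹).1 (X.inv_mem hx)
      have : x * v * x⁻¹ * v⁻¹ = x * (v * x⁻¹ * v⁻¹) := by group
      rw [this]
      exact X.mul_mem hx h5
    have hc2 : g⁻¹ * (x * v * x⁻¹ * v⁻¹) * g ∈ (S : Subgroup G) := by
      have h5 := (mem_normalizer_iff.1 hx1 _).1 hv1
      have : g⁻¹ * (x * v * x⁻¹ * v⁻¹) * g = ((g⁻¹ * x * g) * (g⁻¹ * v * g) * (g⁻¹ * x * g)⁻¹) * (g⁻¹ * v * g)⁻¹ := by group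
      rw [this]
      exact mul_mem h5 (inv_mem hv1)
    have hone : x * v * x⁻¹ * v⁻¹ = 1 := by
      obtain ⟨a, ha⟩ := hXp ⟨_, hc1⟩
      have ha' : (x * v * x⁻¹ * v⁻¹) ^ p ^ a = 1 := congrArg Subtype.val ha
      have hb' : (x * v * x⁻¹ * v⁻¹) ^ 2 = 1 := by
        have h6 := hS2.2 _ hc2
        have h7 : (g⁻¹ * (x * v * x⁻¹ * v⁻¹) * g) ^ 2 = g⁻¹ * (x * v * x⁻¹ * v⁻¹) ^ 2 * g := by
          rw [pow_two, pow_two]; group
        rw [h7] at h6
        calc (x * v * x⁻¹ * v⁻¹) ^ 2 = g * (g⁻¹ * (x * v * x⁻¹ * v⁻¹) ^ 2 * g) * g⁻¹ := by group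
          _ = 1 := by rw [h6]; group
      have h8 : orderOf (x * v * x⁻¹ * v⁻¹) = 1 := by
        exact Nat.eq_one_of_dvd_coprimes (Nat.Coprime.pow_left a ((Nat.coprime_primes hp Nat.prime_two).2 hp2))
          (orderOf_dvd_of_pow_eq_one ha') (orderOf_dvd_of_pow_eq_one hb')
      exact orderOf_eq_one_iff.1 h8
    have h9 : x * v * x⁻¹ = v := by
      calc x * v * x⁻¹ = x * v * x⁻¹ * v⁻¹ * v := by group
        _ = v := by rw [hone, one_mul]
    calc x * v = x * v * x⁻¹ * x := by group
      _ = v * x := by rw [h9]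
  rw [inf_eq_left.2 hXv]
  have hpos : 0 < Nat.card X := Nat.card_pos
  have h5 : 1 < p ^ ((invSwap G c c).ncard.factorization p) := Nat.one_lt_pow (by omega) hp.one_lt
  calc Nat.card X = 1 * Nat.card X := (one_mul _).symm
    _ < _ := Nat.mul_lt_mul_of_pos_right h5 hpos

theorem d2_exists_prime : ∃ p : ℕ, p.Prime ∧ p ≠ 2 ∧ p ∣ Nat.card S - 1 := by
  have h2 : Fact (Nat.Prime 2) := ⟨Nat.prime_two⟩
  obtain ⟨p, hp, hpd⟩ := Nat.exists_prime_and_dvd (n := Nat.card S - 1) (by omega)
  refine ⟨p, hp, ?_, hpd⟩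
  rintro rfl
  have h7 : 2 ∣ Nat.card S := by
    rcases S.2.card_eq_or_dvd with h7 | h7
    · exfalso
      have : Nat.card S = 1 := h7
      omega
    · exact h7
  omega

theorem d2_exists_inv : ∃ t : G, orderOf t = 2 := by
  have h2 : Fact (Nat.Prime 2) := ⟨Nat.prime_two⟩
  have h7 : 2 ∣ Nat.card S := by
    rcases S.2.card_eq_or_dvd with h7 | h7
    · exfalso
      have : Nat.card S = 1 := h7
      omega
    · exact h7
  obtain ⟨t, ht⟩ := exists_prime_orderOf_dvd_card' (G := S) 2 h7
  exact ⟨t, (Subgroup.orderOf_coe t).trans ht⟩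

/-- `G` is doubly transitive on the cosets of `N = N(S)` -/
theorem d2_trans : ∀ g₁ g₂ : G, g₁ ∉ normalizer ((S : Subgroup G) : Set G) → g₂ ∉ normalizer ((S : Subgroup G) : Set G) →
    ∃ n ∈ normalizer ((S : Subgroup G) : Set G), g₂⁻¹ * (n * g₁) ∈ normalizer ((S : Subgroup G) : Set G) := by
  intro g₁ g₂ h₁ h₂
  obtain ⟨p, hp, hp2, hpS⟩ := d2_exists_prime S hS2 h4 hC
  have hpf : Fact p.Prime := ⟨hp⟩
  have hne : ∀ g : G, g ∉ normalizer ((S : Subgroup G) : Set G) →
      ((1 : G) : G ⧸ normalizer ((S : Subgroup G) : Set G)) ≠ ((g : G) : G ⧸ normalizer ((S : Subgroup G) : Set G)) := by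
    intro g hg h
    rw [QuotientGroup.eq] at h
    apply hg
    simpa using h
  obtain ⟨n, hn1, hn2⟩ := BenP.two_transitive (d2_uniqueFix S hS2 hC) (d2_exists_inv S hS2 h4 hC) hp2
    (d2_star S hS2 h4 hC hp hp2 hpS) (hne g₁ h₁) (hne g₂ h₂)
  refine ⟨n, ?_, ?_⟩
  · have e : n • ((1 : G) : G ⧸ normalizer ((S : Subgroup G) : Set G)) = ((n * 1 : G) : G ⧸ normalizer ((S : Subgroup G) : Set G)) := rfl
    rw [e, eq_comm, QuotientGroup.eq] at hn1
    simpa using hn1
  · have e : n • ((g₁ : G) : G ⧸ normalizer ((S : Subgroup G) : Set G)) = ((n * g₁ : G) : G ⧸ normalizer ((S : Subgroup G) : Set G)) := rfl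
    rw [e, eq_comm, QuotientGroup.eq] at hn2
    exact hn2

/-- if the odd prime `r` divides `|S| - 1` then a Sylow `r`-subgroup of `D` is a Sylow `r`-subgroup of `G` -/
theorem d2_syl {r : ℕ} {u : G} (hu : orderOf u = 2) (huN : u ∉ normalizer ((S : Subgroup G) : Set G)) (hr : r.Prime) (hr2 : r ≠ 2)
    (hrq : r ∣ Nat.card S - 1) :
    ¬ r ∣ (normalizer ((S : Subgroup G) : Set G) ⊓ (normalizer ((S : Subgroup G) : Set G)).map (MulAut.conj u).toMonoidHom).index := by
  have hrf : Fact r.Prime := ⟨hr⟩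
  have hne : ((1 : G) : G ⧸ normalizer ((S : Subgroup G) : Set G)) ≠ ((u : G) : G ⧸ normalizer ((S : Subgroup G) : Set G)) := by
    intro h
    rw [QuotientGroup.eq] at h
    apply huN
    simpa using h
  have hstab : ∀ g : G, stabilizer G ((g : G) : G ⧸ normalizer ((S : Subgroup G) : Set G)) =
      (normalizer ((S : Subgroup G) : Set G)).map (MulAut.conj g).toMonoidHom := by
    intro g
    ext x
    have e : x • ((g : G) : G ⧸ normalizer ((S : Subgroup G) : Set G)) = ((x * g : G) : G ⧸ normalizer ((S : Subgroup G) : Set G)) := rfl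
    rw [mem_stabilizer_iff, e, eq_comm, QuotientGroup.eq, ← mul_assoc]
    constructor
    · intro h
      refine ⟨_, h, ?_⟩
      show g * (g⁻¹ * x * g) * g⁻¹ = x
      group
    · rintro ⟨y, hy, rfl⟩
      have : g⁻¹ * (MulAut.conj g).toMonoidHom y * g = y := by
        show g⁻¹ * (g * y * g⁻¹) * g = y
        group
      rw [this]; exact hy
  have hD : BenP.D G ((1 : G) : G ⧸ normalizer ((S : Subgroup G) : Set G)) ((u : G) : G ⧸ normalizer ((S : Subgroup G) : Set G)) =
      normalizer ((S : Subgroup G) : Set G) ⊓ (normalizer ((S : Subgroup G) : Set G)).map (MulAut.conj u).toMonoidHom := by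
    show stabilizer G _ ⊓ stabilizer G _ = _
    rw [hstab, hstab, map_conj_one]
  obtain ⟨Q, -, hQ⟩ := exists_isSyl_ge (p := r) (R := (⊥ : Subgroup G))
    (N := BenP.D G ((1 : G) : G ⧸ normalizer ((S : Subgroup G) : Set G)) ((u : G) : G ⧸ normalizer ((S : Subgroup G) : Set G)))
    IsPGroup.of_bot bot_le
  have h5 := BenP.syl (d2_uniqueFix S hS2 hC) (d2_exists_inv S hS2 h4 hC) hr2
    (d2_star S hS2 h4 hC hr hr2 hrq) hne hQ
  intro hd
  apply h5.2.2
  rw [relIndex_top_right]
  refine hd.trans ?_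
  rw [← hD]
  exact index_dvd_of_le hQ.1

end D2

end Cfsg.Agent.Lib.H15T
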