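import Cfsg.Agent.Lib.H15TD3c
import Cfsg.Prelude.Def_Involutions
import Cfsg.Prelude.Def_Transfer

set_option autoImplicit false

namespace Cfsg.Agent.Lib.H15TD3

open Subgroup MulAction Cfsg.Agent.Lib.InvAct Cfsg.Agent.Lib.SylAmb Cfsg

variable {G : Type*} [Group G] [Finite G] {r : ℕ}

/-- piece D3 of S3718, with the outcome of D1, D2 as hypotheses -/
theorem big_case' (rp : r.Prime) (r2 : r ≠ 2) (S : Sylow 2 G) (h8 : 8 ≤ Nat.card S)
    (hE : IsElementaryAbelian 2 (S : Subgroup G))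
    (hdc : ∀ t : G, orderOf t = 2 → ∀ p : ℕ, p.Prime → p ∣ Nat.card (centralizer ({t} : Set G)) → p = 2 ∨ p = r)
    (hdcr : ∀ t : G, orderOf t = r → ∀ p : ℕ, p.Prime → p ∣ Nat.card (centralizer ({t} : Set G)) → p = 2 ∨ p = r)
    (hstrong : IsStronglyEmbedded (normalizer ((S : Subgroup G) : Set G)))
    (htrans : ∀ g₁ g₂ : G, g₁ ∉ normalizer ((S : Subgroup G) : Set G) → g₂ ∉ normalizer ((S : Subgroup G) : Set G) →
      ∃ n ∈ normalizer ((S : Subgroup G) : Set G), g₂⁻¹ * (n * g₁) ∈ normalizer ((S : Subgroup G) : Set G))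
    (hsyl : ∀ u : G, orderOf u = 2 → u ∉ normalizer ((S : Subgroup G) : Set G) → r ∣ Nat.card S - 1 →
      ¬ r ∣ (normalizer ((S : Subgroup G) : Set G) ⊓ (normalizer ((S : Subgroup G) : Set G)).map (MulAut.conj u).toMonoidHom).index)
    (hcontra : ∀ Q : Subgroup G, Q ≤ normalizer ((S : Subgroup G) : Set G) →
      (Q.subgroupOf (normalizer ((S : Subgroup G) : Set G))).Normal →
      (∀ g₁ g₂ : G, g₁ ∉ normalizer ((S : Subgroup G) : Set G) → g₂ ∉ normalizer ((S : Subgroup G) : Set G) →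
        ∃ n ∈ Q, g₂⁻¹ * (n * g₁) ∈ normalizer ((S : Subgroup G) : Set G)) →
      (∀ g : G, g ∉ normalizer ((S : Subgroup G) : Set G) → ∀ u ∈ Q,
        g⁻¹ * (u * g) ∈ normalizer ((S : Subgroup G) : Set G) → u = 1) →
      Nat.card S * (Nat.card S + 1) * (Nat.card S - 1) < Nat.card G → False)
    (hH : Hard G r S) (x : G) (hx : orderOf x = 2 * r) : False := by
  haveI : Fact (Nat.Prime 2) := ⟨Nat.prime_two⟩
  set N : Subgroup G := normalizer ((S : Subgroup G) : Set G) with hNdef
  let x0 : G ⧸ N := ((1 : G) : G ⧸ N)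
  have hst : stabilizer G x0 = N := MulAction.stabilizer_quotient N
  have hsm : ∀ g : G, g • x0 = ((g : G) : G ⧸ N) := by
    intro g
    show ((g * 1 : G) : G ⧸ N) = _
    rw [mul_one]
  have hx0 : ∀ g : G, ((g : G) : G ⧸ N) ≠ x0 ↔ g ∉ N := by
    intro g
    have h1 : g ∈ N ↔ g • x0 = x0 := ⟨fun hg => hst.ge hg, fun hg => hst.le hg⟩
    rw [h1, hsm]
  have hfix : ∀ t a : G, t • ((a : G) : G ⧸ N) = ((a : G) : G ⧸ N) ↔ a⁻¹ * t * a ∈ N := by
    intro t a
    have : t • ((a : G) : G ⧸ N) = ((t * a : G) : G ⧸ N) := rfl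
    rw [this, eq_comm, QuotientGroup.eq, mul_assoc]
  have hU : UniqueFix G (G ⧸ N) := by
    intro t ht
    have hP : IsPGroup 2 (zpowers t) := by
      apply IsPGroup.of_card (n := 1)
      rw [Nat.card_zpowers, ht, pow_one]
    obtain ⟨T, hT⟩ := hP.exists_le_sylow
    obtain ⟨g, hg⟩ := MulAction.exists_smul_eq G S T
    have htT : t ∈ (T : Subgroup G) := hT (mem_zpowers t)
    rw [← hg, Sylow.coe_subgroup_smul, Subgroup.mem_pointwise_smul_iff_inv_smul_mem] at htT
    have h1 : g⁻¹ * t * g ∈ (S : Subgroup G) := by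
      have e : (MulAut.conj g)⁻¹ • t = g⁻¹ * t * g := by
        rw [← map_inv]
        show g⁻¹ * t * g⁻¹⁻¹ = _
        rw [inv_inv]
      rw [← e]; exact htT
    refine ⟨((g : G) : G ⧸ N), (hfix t g).2 (le_normalizer h1), ?_⟩
    intro b
    induction b using QuotientGroup.induction_on with
    | H b =>
      intro hb
      have hb' := (hfix t b).1 hb
      by_contra hne
      have h2 : b⁻¹ * g ∉ N := fun h => hne (QuotientGroup.eq.2 h)
      have h3 := hstrong.2.2 _ h2
      have h4 : b⁻¹ * t * b ∈ N ⊓ N.map (MulAut.conj (b⁻¹ * g)).toMonoidHom := by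
        refine ⟨hb', mem_map_conj_iff.2 ?_⟩
        have : (b⁻¹ * g)⁻¹ * (b⁻¹ * t * b) * (b⁻¹ * g) = g⁻¹ * t * g := by group
        rw [this]; exact le_normalizer h1
      have h5 : orderOf (b⁻¹ * t * b) = 2 := by
        have := orderOf_injective (MulAut.conj b⁻¹).toMonoidHom (MulAut.conj b⁻¹).injective t
        rw [ht] at this
        have e : (MulAut.conj b⁻¹).toMonoidHom t = b⁻¹ * t * b := by
          show b⁻¹ * t * b⁻¹⁻¹ = _
          rw [inv_inv]
        rw [← e]; exact this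
      have h6 := Subgroup.orderOf_dvd_natCard _ h4
      rw [h5] at h6
      rw [← Nat.not_even_iff_odd, even_iff_two_dvd] at h3
      exact h3 h6
  have hne : ∃ y : G ⧸ N, y ≠ x0 := by
    obtain ⟨g, hg⟩ : ∃ g : G, g ∉ N := by
      by_contra hh
      push Not at hh
      exact hstrong.1 (eq_top_iff.2 fun g _ => hh g)
    exact ⟨_, (hx0 g).2 hg⟩
  have hCf : Cf G r S x0 :=
    { rp := rp, r2 := r2, h8 := h8, hU := hU, hst := hst
      sc := by
        intro a ha b hb
        have := hE.1.is_comm.comm (⟨a, ha⟩ : (S : Subgroup G)) ⟨b, hb⟩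
        exact congrArg Subtype.val this
      s2 := by
        intro a ha
        rw [← sq]; exact hE.2 a ha
      tr := by
        intro a b
        induction a using QuotientGroup.induction_on with
        | H a =>
          induction b using QuotientGroup.induction_on with
          | H b =>
            intro ha hb
            obtain ⟨n, hn, hn2⟩ := htrans a b ((hx0 a).1 ha) ((hx0 b).1 hb)
            refine ⟨n, ?_, ?_⟩
            · rw [← hst] at hn; exact hn
            · show ((n * a : G) : G ⧸ N) = _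
              exact (QuotientGroup.eq.2 hn2).symm
      dc := hdc, dcr := hdcr, xr := ⟨x, hx⟩, ne := hne }
  apply hCf.final
  · -- Suzuki
    intro Q hQ hQn hQt hQr hcard
    refine hcontra Q (by rw [← hst]; exact hQ) ?_ ?_ ?_ hcard
    · constructor
      intro v hv n
      exact hQn n (by rw [hst]; exact n.2) v hv
    · intro g₁ g₂ h1 h2
      obtain ⟨n, hn, hn2⟩ := hQt _ _ ((hx0 g₁).2 h1) ((hx0 g₂).2 h2)
      refine ⟨n, hn, ?_⟩
      have : ((n * g₁ : G) : G ⧸ N) = ((g₂ : G) : G ⧸ N) := hn2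
      exact QuotientGroup.eq.1 this.symm
    · intro g hg u hu hgu
      apply hQr _ ((hx0 g).2 hg) u hu
      rw [hfix, mul_assoc]; exact hgu
  · exact hH
  · intro y hy hd
    -- an involution `u` with `u • x0 = y`
    obtain ⟨z, hz, hz1⟩ : ∃ z ∈ (S : Subgroup G), z ≠ 1 := by
      have : 1 < Nat.card (S : Subgroup G) := by omega
      rw [Subgroup.one_lt_card_iff_ne_bot] at this
      obtain ⟨z, hz1⟩ := Subgroup.ne_bot_iff_exists_ne_one.1 this
      exact ⟨z, z.2, fun e => hz1 (Subtype.ext e)⟩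
    have hzo := hCf.ord_of_mem hz hz1
    have hzx : z • x0 = x0 := hCf.fix_of_mem hz
    obtain ⟨s, hs⟩ : ∃ s : G, s ∈ invSwap G y y := by
      obtain ⟨g, hg⟩ := exists_smul_eq G x0 y
      refine ⟨g * z * g⁻¹, ?_, ?_⟩
      · have := orderOf_injective (MulAut.conj g).toMonoidHom (MulAut.conj g).injective z
        rw [hzo] at this
        exact this
      · rw [mul_smul, mul_smul, ← hg, inv_smul_smul, hzx]
    obtain ⟨u, hu, -, hux⟩ := exists_swap hU hzo hs.1 hzx hs.2 (Ne.symm hy)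
    have huN : u ∉ N := by
      rw [← hx0, ← hsm, hux]; exact hy
    have h1 := hsyl u hu huN hd
    rw [← hst, ← stabilizer_smul_eq_stabilizer_map_conj, hux] at h1
    exact h1

end Cfsg.Agent.Lib.H15TD3
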