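import Cfsg.Agent.Lib.H15Spin2
import Cfsg.Prelude.Def_KGroupFacts

/-!
Stem extensions with kernel of order two, pulled back from the double cover of the alternating group (helper92)
-/

set_option autoImplicit false

namespace Cfsg.Agent.Lib.H92SpinCover

open Cfsg Cfsg.Agent.Lib.H15Spin Equiv Equiv.Perm Finset

section signs

variable {R : Type*} [Ring R]

theorem comm_list {x : R} {l : List R} (h : ∀ y ∈ l, x * y = -(y * x)) :
    x * l.prod = (-1) ^ l.length * (l.prod * x) := by
  induction l with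
  | nil => simp
  | cons y l ih =>
    have h1 := h y (by simp)
    have h2 := ih (fun w hw => h w (by simp [hw]))
    rw [List.prod_cons, List.length_cons, ← mul_assoc, h1, neg_mul, mul_assoc, h2, pow_succ]
    have h3 : y * ((-1) ^ l.length * (l.prod * x)) = (-1) ^ l.length * (y * (l.prod * x)) := by
      rcases neg_one_pow_eq_or R l.length with h | h <;> rw [h] <;> simp
    rw [h3]
    simp [mul_assoc]

theorem sq_list {l : List R} (h : l.Pairwise fun x y => x * y = -(y * x)) (h1 : ∀ x ∈ l, x * x = -1) :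
    l.prod * l.prod = (-1) ^ (l.length * (l.length + 1) / 2) := by
  induction l with
  | nil => simp
  | cons x l ih =>
    rw [List.pairwise_cons] at h
    have h2 := ih h.2 (fun w hw => h1 w (by simp [hw]))
    have h3 := comm_list h.1
    have h4 := h1 x (by simp)
    rw [List.prod_cons, List.length_cons]
    have h5 : x * l.prod * (x * l.prod) = (-1) ^ l.length * (x * x * (l.prod * l.prod)) := by
      have e1 : l.prod * x = (-1) ^ l.length * (x * l.prod) := by
        rw [h3]
        rw [← mul_assoc, ← pow_add]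
        rw [Even.neg_one_pow ⟨l.length, rfl⟩, one_mul]
      have e2 : x * l.prod * (x * l.prod) = x * (l.prod * x) * l.prod := by simp only [mul_assoc]
      rw [e2, e1]
      rcases neg_one_pow_eq_or R l.length with h | h <;> rw [h] <;> simp [mul_assoc]
    rw [h5, h4, h2]
    have h6 : (l.length + 1) * (l.length + 1 + 1) / 2 = l.length * (l.length + 1) / 2 + (l.length + 1) := by
      have : (l.length + 1) * (l.length + 1 + 1) = l.length * (l.length + 1) + 2 * (l.length + 1) := by ring
      rw [this, Nat.add_mul_div_left _ _ (by norm_num)]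
    rw [h6, pow_add, pow_succ]
    rcases neg_one_pow_eq_or R l.length with h | h <;> rw [h] <;>
      rcases neg_one_pow_eq_or R (l.length * (l.length + 1) / 2) with h' | h' <;> rw [h'] <;> simp

end signs

variable {n : ℕ}

theorem two_eq : (2 : ZMod 3) = -1 := by decide

/-- lifts of transpositions anticommute when disjoint -/
theorem tu_anti {F : Type} [Field F] {i j k l : Fin n} (hik : i ≠ k) (hil : i ≠ l) (hjk : j ≠ k) (hjl : j ≠ l) :
    (ee F i - ee F j) * (ee F k - ee F l) = -((ee F k - ee F l) * (ee F i - ee F j)) := by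
  rw [sub_mul, mul_sub, mul_sub, sub_mul, mul_sub, mul_sub, ee_anti hik, ee_anti hil, ee_anti hjk, ee_anti hjl]
  abel

/-- the element of the spin group attached to a list of disjoint transpositions -/
theorem exists_lift (l : List (Fin n × Fin n)) (h1 : ∀ p ∈ l, p.1 ≠ p.2)
    (h2 : l.Pairwise fun p q => p.1 ≠ q.1 ∧ p.1 ≠ q.2 ∧ p.2 ≠ q.1 ∧ p.2 ≠ q.2)
    (hodd : Odd (l.length * (l.length + 1) / 2)) :
    ∃ T : Gs (ZMod 3) n, pr (ZMod 3) n T = (l.map fun p => swap p.1 p.2).prod ∧
      ((T * T : Gs (ZMod 3) n) : (R (ZMod 3) n)ˣ × Perm (Fin n)).1 = -1 := by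
  -- the product
  have h3 : ∀ l : List (Fin n × Fin n), (∀ p ∈ l, p.1 ≠ p.2) →
      ∃ T : Gs (ZMod 3) n, pr (ZMod 3) n T = (l.map fun p => swap p.1 p.2).prod ∧
        (((T : (R (ZMod 3) n)ˣ × Perm (Fin n)).1 : (R (ZMod 3) n)ˣ) : R (ZMod 3) n) =
          (l.map fun p => ee (ZMod 3) p.1 - ee (ZMod 3) p.2).prod := by
    intro l h
    induction l with
    | nil => exact ⟨1, by rw [map_one]; rfl, rfl⟩
    | cons p l ih =>
      obtain ⟨T, hT1, hT2⟩ := ih (fun q hq => h q (by simp [hq]))
      refine ⟨⟨_, tu_mem two_eq (h p (by simp))⟩ * T, ?_, ?_⟩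
      · rw [map_mul, hT1, List.map_cons, List.prod_cons]
        rfl
      · rw [List.map_cons, List.prod_cons, ← hT2]
        rfl
  obtain ⟨T, hT1, hT2⟩ := h3 l h1
  refine ⟨T, hT1, ?_⟩
  apply Units.ext
  show ((T : (R (ZMod 3) n)ˣ × Perm (Fin n)).1 : R (ZMod 3) n) * ((T : (R (ZMod 3) n)ˣ × Perm (Fin n)).1 : R (ZMod 3) n) = -1
  rw [hT2, sq_list]
  · rw [List.length_map]; exact hodd.neg_one_pow
  · rw [List.pairwise_map]
    exact h2.imp fun h => tu_anti h.1 h.2.1 h.2.2.1 h.2.2.2
  · intro x hx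
    obtain ⟨p, hp, rfl⟩ := List.mem_map.1 hx
    exact tt two_eq (h1 p hp)

/-- the double cover of a perfect permutation group one of whose involutions lifts to an element of order four -/
theorem exists_stem_two {G : Type} [Group G] [Finite G] (hperf : commutator G = ⊤) (ι : G →* Perm (Fin n))
    {t : G} (ht : t * t = 1) (l : List (Fin n × Fin n)) (h1 : ∀ p ∈ l, p.1 ≠ p.2)
    (h2 : l.Pairwise fun p q => p.1 ≠ q.1 ∧ p.1 ≠ q.2 ∧ p.2 ≠ q.1 ∧ p.2 ≠ q.2)
    (hl : ι t = (l.map fun p => swap p.1 p.2).prod)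
    (hodd : Odd (l.length * (l.length + 1) / 2)) :
    ∃ (Γ : Type) (_ : Group Γ) (_ : Finite Γ) (σ : Γ →* G), IsStemExtension σ ∧ Nat.card σ.ker = 2 := by
  classical
  have hF : ∀ a : ZMod 3, a = 0 ∨ a = 1 ∨ a = -1 := by decide
  have hfact : Fact (Nat.Prime 3) := ⟨Nat.prime_three⟩
  have hsign : ∀ g, sign (ι g) = 1 := by
    intro g
    have h3 : commutator G ≤ ((sign : Perm (Fin n) →* ℤˣ).comp ι).ker := Abelianization.commutator_subset_ker _
    rw [hperf] at h3
    exact h3 (Subgroup.mem_top g)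
  let Γ : Subgroup (Ga (ZMod 3) n × G) :=
    { carrier := {p | ((pa (ZMod 3) n p.1 : alternatingGroup (Fin n)) : Perm (Fin n)) = ι p.2}
      one_mem' := by
        show ((pa (ZMod 3) n 1 : alternatingGroup (Fin n)) : Perm (Fin n)) = ι 1
        rw [map_one, map_one]; rfl
      mul_mem' := by
        rintro x y hx hy
        show ((pa (ZMod 3) n (x.1 * y.1) : alternatingGroup (Fin n)) : Perm (Fin n)) = ι (x.2 * y.2)
        rw [map_mul, map_mul, Subgroup.coe_mul]
        rw [show ((pa (ZMod 3) n x.1 : alternatingGroup (Fin n)) : Perm (Fin n)) = ι x.2 from hx,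
          show ((pa (ZMod 3) n y.1 : alternatingGroup (Fin n)) : Perm (Fin n)) = ι y.2 from hy]
      inv_mem' := by
        rintro x hx
        show ((pa (ZMod 3) n (x.1⁻¹) : alternatingGroup (Fin n)) : Perm (Fin n)) = ι (x.2⁻¹)
        rw [map_inv, map_inv, Subgroup.coe_inv]
        rw [show ((pa (ZMod 3) n x.1 : alternatingGroup (Fin n)) : Perm (Fin n)) = ι x.2 from hx] }
  have hΓ : ∀ p : Ga (ZMod 3) n × G, p ∈ Γ ↔ ((pa (ZMod 3) n p.1 : alternatingGroup (Fin n)) : Perm (Fin n)) = ι p.2 :=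
    fun p => Iff.rfl
  let σ : Γ →* G := (MonoidHom.snd _ _).comp Γ.subtype
  have hσ : ∀ x : Γ, σ x = x.1.2 := fun _ => rfl
  have hsurj : Function.Surjective σ := by
    intro g
    obtain ⟨x, hx⟩ := pa_surj (F := ZMod 3) two_eq ⟨ι g, Equiv.Perm.mem_alternatingGroup.2 (hsign g)⟩
    exact ⟨⟨(x, g), by rw [hΓ, hx]⟩, rfl⟩
  let z : Γ := ⟨(zz (ZMod 3) n, 1), by
    rw [hΓ]
    show ((pa (ZMod 3) n (zz (ZMod 3) n) : alternatingGroup (Fin n)) : Perm (Fin n)) = ι 1
    rw [map_one]; rfl⟩
  have hz1 : z ≠ 1 := by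
    intro h
    exact zz_ne two_eq (congrArg (fun x : Γ => x.1.1) h)
  have hker : ∀ x : Γ, σ x = 1 → x = 1 ∨ x = z := by
    rintro ⟨⟨x, g⟩, hx⟩ hg
    have hg' : g = 1 := hg
    subst hg'
    rw [hΓ] at hx
    have hx' : pa (ZMod 3) n x = 1 := by
      apply Subtype.ext
      rw [hx, map_one]; rfl
    rcases ker_pa two_eq hF x hx' with h | h
    · left; subst h; rfl
    · right; subst h; rfl
  have hzk : z ∈ σ.ker := rfl
  have hzc : ∀ x : Γ, x * z = z * x := by
    rintro ⟨⟨x, g⟩, hx⟩
    apply Subtype.ext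
    apply Prod.ext
    · exact (zz_central x).symm
    · show g * 1 = 1 * g
      rw [mul_one, one_mul]
  have hzz : z * z = 1 := by
    apply Subtype.ext
    apply Prod.ext
    · exact zz_sq
    · exact mul_one 1
  have hcen : σ.ker ≤ Subgroup.center Γ := by
    intro x hx
    rcases hker x hx with h | h
    · rw [h]; exact one_mem _
    · rw [h, Subgroup.mem_center_iff]; exact hzc
  -- the commutator subgroup
  obtain ⟨T, hT1, hT2⟩ := exists_lift l h1 h2 hodd
  have hTa : T ∈ Ga (ZMod 3) n := by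
    show pr (ZMod 3) n T ∈ alternatingGroup (Fin n)
    rw [hT1, ← hl, Equiv.Perm.mem_alternatingGroup]; exact hsign t
  let th : Γ := ⟨(⟨T, hTa⟩, t), by
    rw [hΓ]
    show pr (ZMod 3) n T = ι t
    rw [hT1, hl]⟩
  have hth : th * th = z := by
    apply Subtype.ext
    apply Prod.ext
    · apply ext'
      · exact hT2
      · have h3 : pr (ZMod 3) n (T * T) = 1 := by rw [map_mul, hT1, ← hl, ← map_mul, ht, map_one]
        exact h3
    · exact ht
  have hzcomm : z ∈ commutator Γ := by
    have h3 : (commutator Γ).map σ = ⊤ := by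
      rw [commutator_def, Subgroup.map_commutator, ← MonoidHom.range_eq_map, MonoidHom.range_eq_top.2 hsurj,
        ← commutator_def, hperf]
    have h4 : t ∈ (commutator Γ).map σ := by rw [h3]; exact Subgroup.mem_top t
    obtain ⟨c, hc, hct⟩ := h4
    have h5 : σ (th⁻¹ * c) = 1 := by
      rw [map_mul, map_inv, hct]
      exact inv_mul_cancel t
    have h6 : c * c = z := by
      rcases hker _ h5 with h | h
      · have : c = th := (inv_mul_eq_one.1 h).symm
        rw [this, hth]
      · have h7 : c = th * z := by rw [← h]; group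
        rw [h7, mul_assoc, ← mul_assoc z th z, ← hzc th, mul_assoc th z z, hzz, mul_one, hth]
    rw [← h6]
    exact mul_mem hc hc
  refine ⟨Γ, inferInstance, inferInstance, σ, ⟨hsurj, hcen, ?_⟩, ?_⟩
  · intro x hx
    rcases hker x hx with h | h
    · rw [h]; exact one_mem _
    · rw [h]; exact hzcomm
  · rw [Nat.card_eq_two_iff]
    refine ⟨1, ⟨z, hzk⟩, fun h => hz1 (congrArg Subtype.val h).symm, ?_⟩
    rw [Set.eq_univ_iff_forall]
    rintro ⟨x, hx⟩
    rcases hker x hx with h | h
    · left; exact Subtype.ext h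
    · right; exact Subtype.ext h

end Cfsg.Agent.Lib.H92SpinCover
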