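import Cfsg.Agent.Lib.H58SMw
import Cfsg.Agent.Lib.H92SpinCover

/-!
Schur multiplier engine, part x: permutation representations, perfectness (helper58)
-/

set_option autoImplicit false

namespace Cfsg.Agent.Lib.H58SM

open Subgroup Cfsg Cfsg.Agent.Lib.SchurSylow

universe u v w

theorem perfect_of_simple {G : Type*} [Group G] [Finite G] (hs : IsSimpleGroup G) (hc : ¬ (Nat.card G).Prime) :
    commutator G = ⊤ := by
  rcases (inferInstance : (commutator G).Normal).eq_bot_or_eq_top with h1 | h1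
  · exfalso
    apply hc
    have hcomm : ∀ a b : G, a * b = b * a := by
      intro a b
      rw [_root_.commutator_def, Subgroup.commutator_eq_bot_iff_le_centralizer] at h1
      have h2 := h1 (Subgroup.mem_top a)
      rw [Subgroup.mem_centralizer_iff] at h2
      exact (h2 b (Subgroup.mem_top b)).symm
    let _ : CommGroup G := { (inferInstance : Group G) with mul_comm := hcomm }
    exact IsSimpleGroup.prime_card
  · exact h1

/-- action of a word in the nodes -/
theorem nd_ev {G Ω : Type*} [Group G] [MulAction G Ω] {n r : ℕ} {h : ℕ → G} {e : ℕ → Ω}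
    {TH : ℕ → ℕ → ℕ} (hT : Sims.tabOk n r TH = true) (hfwd : ∀ i < r, ∀ a < n, h i • e a = e (TH (2 * i) a))
    {w : List ℕ} (hw : ∀ l ∈ w, l < 2 * r) {a : ℕ} (ha : a < n) :
    ev h w • e a = e (pt TH w a) ∧ pt TH w a < n := by
  unfold Sims.tabOk at hT
  rw [Bool.and_eq_true] at hT
  have hlt : ∀ l < 2 * r, ∀ a < n, TH l a < n := fun l hl a ha => Sol.blt_iff.1 (alln_iff.1 (alln_iff.1 hT.1 l hl) a ha)
  have hbwd : ∀ i < r, ∀ a < n, TH (2 * i) (TH (2 * i + 1) a) = a := by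
    intro i hi a ha
    have h1 := alln_iff.1 (alln_iff.1 hT.2 i hi) a ha
    rw [frc_eq] at h1
    exact Sol.beq_iff.1 h1
  have h1 : ∀ l < 2 * r, ∀ a < n, lt h l • e a = e (TH l a) := by
    intro l hl a ha
    unfold lt
    by_cases hh : l % 2 = 0
    · rw [if_pos hh, hfwd _ (by omega) a ha]
      congr 2; omega
    · rw [if_neg hh, inv_smul_eq_iff, hfwd _ (by omega) _ (hlt l hl a ha)]
      have h1 := hbwd (l / 2) (by omega) a ha
      have h2 : 2 * (l / 2) + 1 = l := by omega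
      rw [h2] at h1
      rw [h1]
  induction w generalizing a with
  | nil => exact ⟨by rw [ev_nil, one_smul]; rfl, ha⟩
  | cons l w ih =>
    have hl := hw l List.mem_cons_self
    have h2 := ih (fun l hl => hw l (List.mem_cons_of_mem _ hl)) (hlt l hl a ha)
    rw [ev_cons, mul_smul, h1 l hl a ha]
    exact h2

/-- a word in the nodes is not trivial -/
theorem nd_ne {G Ω : Type*} [Group G] [MulAction G Ω] {n r : ℕ} {h : ℕ → G} {e : ℕ → Ω}
    {TH : ℕ → ℕ → ℕ} (hinj : ∀ a < n, ∀ b < n, e a = e b → a = b)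
    (hT : Sims.tabOk n r TH = true) (hfwd : ∀ i < r, ∀ a < n, h i • e a = e (TH (2 * i) a))
    {w : List ℕ} (hw : (w.all fun l => Nat.blt l (Nat.mul 2 r)) = true) (a : ℕ) (ha : a < n) (hne : pt TH w a ≠ a) :
    ev h w ≠ 1 := by
  intro h1
  rw [List.all_eq_true] at hw
  obtain ⟨h2, h3⟩ := nd_ev hT hfwd (fun l hl => Sol.blt_iff.1 (hw l hl)) ha
  rw [h1, one_smul] at h2
  exact hne (hinj _ h3 _ ha h2.symm)

section perm

variable {G Ω : Type*} [Group G] [MulAction G Ω] {n k : ℕ} {g : ℕ → G} {e : ℕ → Ω} {T : ℕ → ℕ → ℕ}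
  {pi pq : ℕ → ℕ}

/-- the permutation representation on the points -/
theorem exists_perm_hom (A : Act n k g e T pi pq) (hgen : closure {z | ∃ i < k, z = g i} = ⊤) :
    ∃ ι : G →* Equiv.Perm (Fin n), ∀ y (a : Fin n), y • e a = e (ι y a) := by
  have h1 : ∀ (y : G) (a : Fin n), ∃ b : Fin n, y • e a = e b := by
    intro y a
    obtain ⟨b, hb, h⟩ := A.exists_pt hgen y a.2
    exact ⟨⟨b, hb⟩, h⟩
  choose f hf using h1
  have hinj : ∀ a b : Fin n, e a = e b → a = b := fun a b h => Fin.ext (A.inj a.2 b.2 h)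
  have hmul : ∀ x y a, f (x * y) a = f x (f y a) := by
    intro x y a
    apply hinj
    rw [← hf, ← hf, ← hf, mul_smul]
  have hone : ∀ a, f 1 a = a := by
    intro a
    apply hinj
    rw [← hf, one_smul]
  let F : G → Equiv.Perm (Fin n) := fun y =>
    { toFun := f y
      invFun := f y⁻¹
      left_inv := fun a => by rw [← hmul, inv_mul_cancel, hone]
      right_inv := fun a => by rw [← hmul, mul_inv_cancel, hone] }
  exact ⟨{ toFun := F
           map_one' := Equiv.ext hone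
           map_mul' := fun x y => Equiv.ext (hmul x y) }, hf⟩

end perm

/-- evaluation of a product of transpositions -/
def swl {n : ℕ} : List (Fin n × Fin n) → ℕ → ℕ
  | [], a => a
  | p :: l, a => frc (swl l a) fun b => cond (Nat.beq b p.1.val) p.2.val (cond (Nat.beq b p.2.val) p.1.val b)

theorem swl_spec {n : ℕ} (l : List (Fin n × Fin n)) (a : Fin n) :
    (((l.map fun p => Equiv.swap p.1 p.2).prod a : Fin n) : ℕ) = swl l a := by
  induction l with
  | nil => rfl
  | cons p l ih =>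
    have h : swl (p :: l) a = frc (swl l a) fun b => cond (Nat.beq b p.1.val) p.2.val
      (cond (Nat.beq b p.2.val) p.1.val b) := rfl
    rw [h, frc_eq, ← ih, List.map_cons, List.prod_cons, Equiv.Perm.mul_apply]
    set b := (l.map fun p => Equiv.swap p.1 p.2).prod a
    by_cases h1 : b = p.1
    · rw [h1, Equiv.swap_apply_left, Nat.beq_refl, cond_true]
    · have h1' : Nat.beq (b : ℕ) (p.1 : ℕ) = false := by
        cases hh : Nat.beq (b : ℕ) (p.1 : ℕ)
        · rfl
        · exact absurd (Fin.ext (Nat.eq_of_beq_eq_true hh)) h1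
      rw [h1', cond_false]
      by_cases h2 : b = p.2
      · rw [h2, Equiv.swap_apply_right, Nat.beq_refl, cond_true]
      · have h2' : Nat.beq (b : ℕ) (p.2 : ℕ) = false := by
          cases hh : Nat.beq (b : ℕ) (p.2 : ℕ)
          · rfl
          · exact absurd (Fin.ext (Nat.eq_of_beq_eq_true hh)) h2
        rw [h2', cond_false, Equiv.swap_apply_of_ne_of_ne h1 h2]

/-- pairs of points -/
def mkP {n : ℕ} (hn : 0 < n) (q : ℕ × ℕ) : Fin n × Fin n := (⟨q.1 % n, Nat.mod_lt _ hn⟩, ⟨q.2 % n, Nat.mod_lt _ hn⟩)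

/-- disjointness of the pairs -/
def pwb (n : ℕ) : List (ℕ × ℕ) → Bool
  | [] => true
  | q :: l => (!(Nat.beq (Nat.mod q.1 n) (Nat.mod q.2 n))) && ((l.all fun r =>
      (!(Nat.beq (Nat.mod q.1 n) (Nat.mod r.1 n))) && ((!(Nat.beq (Nat.mod q.1 n) (Nat.mod r.2 n))) &&
      ((!(Nat.beq (Nat.mod q.2 n) (Nat.mod r.1 n))) && (!(Nat.beq (Nat.mod q.2 n) (Nat.mod r.2 n)))))) && pwb n l)

theorem nb {a b : ℕ} (h : (!(Nat.beq a b)) = true) : a ≠ b := by
  rintro rfl
  rw [Nat.beq_refl] at h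
  exact absurd h (by simp)

theorem pwb_spec {n : ℕ} (hn : 0 < n) (L : List (ℕ × ℕ)) (h : pwb n L = true) :
    (∀ p ∈ L.map (mkP hn), p.1 ≠ p.2) ∧
      (L.map (mkP hn)).Pairwise fun p q => p.1 ≠ q.1 ∧ p.1 ≠ q.2 ∧ p.2 ≠ q.1 ∧ p.2 ≠ q.2 := by
  induction L with
  | nil => exact ⟨fun p hp => absurd hp (by simp), List.Pairwise.nil⟩
  | cons q l ih =>
    have h' : ((!(Nat.beq (Nat.mod q.1 n) (Nat.mod q.2 n))) && ((l.all fun r =>
      (!(Nat.beq (Nat.mod q.1 n) (Nat.mod r.1 n))) && ((!(Nat.beq (Nat.mod q.1 n) (Nat.mod r.2 n))) &&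
      ((!(Nat.beq (Nat.mod q.2 n) (Nat.mod r.1 n))) && (!(Nat.beq (Nat.mod q.2 n) (Nat.mod r.2 n)))))) && pwb n l)) = true := h
    rw [Bool.and_eq_true, Bool.and_eq_true, List.all_eq_true] at h'
    obtain ⟨h1, h2, h3⟩ := h'
    obtain ⟨g1, g2⟩ := ih h3
    rw [List.map_cons, List.pairwise_cons]
    refine ⟨?_, ?_, g2⟩
    · intro p hp
      rcases List.mem_cons.1 hp with rfl | hp
      · intro e
        exact nb h1 (congrArg Fin.val e)
      · exact g1 p hp
    · intro p hp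
      obtain ⟨r, hr, rfl⟩ := List.mem_map.1 hp
      have h4 := h2 r hr
      rw [Bool.and_eq_true, Bool.and_eq_true, Bool.and_eq_true] at h4
      obtain ⟨k1, k2, k3, k4⟩ := h4
      exact ⟨fun e => nb k1 (congrArg Fin.val e), fun e => nb k2 (congrArg Fin.val e),
        fun e => nb k3 (congrArg Fin.val e), fun e => nb k4 (congrArg Fin.val e)⟩

theorem pStem_big {G : Type u} [Group G] [Finite G] (N a b c m : ℕ) (hcard : Nat.card G = 2 ^ a * 3 ^ b * 5 ^ c * m)
    (hm : Squarefree m) {p : ℕ} (hp : p.Prime) (h2 : p ≠ 2) (h3 : p ≠ 3) (h5 : p ≠ 5) : PStemDvd p G N := by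
  have : Fact p.Prime := ⟨hp⟩
  refine PStemDvd.mono ?_ (one_dvd N)
  apply Cfsg.Agent.Lib.H92Stem.pStemDvd_of_sq
  intro hd
  rw [hcard] at hd
  have c2 : Nat.Coprime (p ^ 2) (2 ^ a) := Nat.Coprime.pow _ _ ((Nat.coprime_primes hp Nat.prime_two).2 h2)
  have c3 : Nat.Coprime (p ^ 2) (3 ^ b) := Nat.Coprime.pow _ _ ((Nat.coprime_primes hp Nat.prime_three).2 h3)
  have c5 : Nat.Coprime (p ^ 2) (5 ^ c) := Nat.Coprime.pow _ _ ((Nat.coprime_primes hp Nat.prime_five).2 h5)
  have h1 : p ^ 2 ∣ m := ((c2.mul_right c3).mul_right c5).dvd_of_dvd_mul_left hd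
  rw [pow_two] at h1
  exact hp.one_lt.ne' (Nat.isUnit_iff.1 (hm p h1))

end Cfsg.Agent.Lib.H58SM
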