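import Mathlib.GroupTheory.Focal
import Cfsg.Agent.Lib.SylAmb
import Cfsg.Agent.Lib.Cores
import Cfsg.Agent.Lib.H58SMx
import Cfsg.Agent.S0044
import Cfsg.Agent.S0205

/-! Piece D3(iii) of helper15's plan for S3718 (helper95) -/

set_option autoImplicit false
set_option linter.all false

namespace Cfsg.Agent.Lib.H15TD3x

open Subgroup Cfsg Cfsg.Agent.Lib.SylAmb
open scoped commutatorElement

theorem card_mul_relIndex' {Γ : Type*} [Group Γ] [Finite Γ] {H K : Subgroup Γ} (h : H ≤ K) :
    Nat.card H * H.relIndex K = Nat.card K := by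
  have h1 := Subgroup.relIndex_mul_relIndex (⊥ : Subgroup Γ) H K bot_le h
  rwa [Subgroup.relIndex_bot_left, Subgroup.relIndex_bot_left] at h1

section A

variable {A : Type*} [Group A] [Finite A] {Γ : Type*} [Group Γ] [Finite Γ] {r : ℕ} [hr : Fact r.Prime]

/-- a normal `r`-subgroup of a group of automorphisms transitive on `A#`, `r ∤ |A| - 1`, is trivial -/
theorem normal_r_trivial (ρ : Γ →* MulAut A) (hρ : Function.Injective ρ)
    (htr : ∀ a b : A, a ≠ 1 → b ≠ 1 → ∃ g : Γ, ρ g a = b) (hq : ¬ r ∣ Nat.card A - 1)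
    (R : Subgroup Γ) (hR : IsPGroup r R) (hRn : R.Normal) : R = ⊥ := by
  classical
  letI : MulAction R A := MulAction.compHom A (ρ.comp R.subtype)
  have hsm : ∀ (x : R) (a : A), x • a = ρ (x : Γ) a := fun x a => rfl
  have h1 := hR.card_modEq_card_fixedPoints A
  -- there is a nontrivial fixed point
  have h2 : ∃ a : A, a ≠ 1 ∧ ∀ x ∈ R, ρ x a = a := by
    by_contra hcon
    push Not at hcon
    have h3 : MulAction.fixedPoints R A = {1} := by
      ext a
      rw [MulAction.mem_fixedPoints, Set.mem_singleton_iff]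
      constructor
      · intro h
        by_contra ha
        obtain ⟨x, hx, hxa⟩ := hcon a ha
        exact hxa (h ⟨x, hx⟩)
      · rintro rfl x
        rw [hsm, map_one]
    rw [h3, Nat.card_coe_set_eq, Set.ncard_singleton] at h1
    apply hq
    exact (Nat.modEq_iff_dvd' Nat.card_pos).1 h1.symm
  obtain ⟨a, ha, hfix⟩ := h2
  rw [eq_bot_iff]
  intro x hx
  rw [mem_bot]
  apply hρ
  rw [map_one]
  ext b
  rw [MulAut.one_apply]
  by_cases hb : b = 1
  · rw [hb, map_one]
  obtain ⟨g, rfl⟩ := htr a b ha hb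
  have h3 := hfix _ (hRn.conj_mem x hx g⁻¹)
  rw [inv_inv, map_mul, map_mul, map_inv, MulAut.mul_apply, MulAut.mul_apply] at h3
  have h4 := congrArg (ρ g) h3
  rw [MulAut.apply_inv_self] at h4
  exact h4

theorem not_dvd_fitting (hR : ∀ R : Subgroup Γ, IsPGroup r R → R.Normal → R = ⊥) :
    ¬ r ∣ Nat.card (fittingSubgroup Γ) := by
  intro h
  obtain ⟨x, hx⟩ := exists_prime_orderOf_dvd_card' r h
  have hnil := Cores.isNilpotent_fittingSubgroup Γ
  let P : Sylow r (fittingSubgroup Γ) := default
  have hPn : (P : Subgroup (fittingSubgroup Γ)).Normal := inferInstance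
  have hPc : (P : Subgroup (fittingSubgroup Γ)).Characteristic := Sylow.characteristic_of_normal P hPn
  have hn : ((P : Subgroup (fittingSubgroup Γ)).map (fittingSubgroup Γ).subtype).Normal :=
    ConjAct.normal_of_characteristic_of_normal
  have h1 := hR _ (P.isPGroup'.map _) hn
  rw [Subgroup.map_eq_bot_iff_of_injective _ (fittingSubgroup Γ).subtype_injective] at h1
  have h2 := P.ne_bot_of_dvd_card h
  exact h2 h1

theorem abelian_hall_normal [Group.IsSolvable Γ] (hR : ∀ R : Subgroup Γ, IsPGroup r R → R.Normal → R = ⊥)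
    (D : Subgroup Γ) (hDc : ∀ a ∈ D, ∀ b ∈ D, a * b = b * a) {m : ℕ}
    (hD : D.index = r ^ m) : D.Normal := by
  have hF := not_dvd_fitting hR
  have h1 : fittingSubgroup Γ ≤ D := by
    have h2 : D.relIndex (fittingSubgroup Γ ⊔ D) ∣ Nat.card (fittingSubgroup Γ) := by
      have e1 : Nat.card (fittingSubgroup Γ) * (fittingSubgroup Γ).relIndex (fittingSubgroup Γ ⊔ D)
          = Nat.card ↥(fittingSubgroup Γ ⊔ D) := card_mul_relIndex' le_sup_left
      have e2 : Nat.card D * D.relIndex (fittingSubgroup Γ ⊔ D) = Nat.card ↥(fittingSubgroup Γ ⊔ D) :=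
        card_mul_relIndex' le_sup_right
      have e3 : Nat.card ↥(fittingSubgroup Γ ⊓ D) * (fittingSubgroup Γ ⊓ D).relIndex D = Nat.card D :=
        card_mul_relIndex' inf_le_right
      rw [Subgroup.relIndex_sup_left] at e1
      rw [Subgroup.inf_relIndex_right] at e3
      have h0 : 0 < (fittingSubgroup Γ).relIndex D := by
        rcases Nat.eq_zero_or_pos ((fittingSubgroup Γ).relIndex D) with h | h
        · rw [h, mul_zero] at e3
          have : 0 < Nat.card D := Nat.card_pos
          omega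
        · exact h
      refine ⟨Nat.card ↥(fittingSubgroup Γ ⊓ D), ?_⟩
      apply Nat.eq_of_mul_eq_mul_right h0
      rw [e1, ← e2, ← e3]
      ring
    have h3 : D.relIndex (fittingSubgroup Γ ⊔ D) ∣ r ^ m := by
      rw [← hD]
      exact Subgroup.relIndex_dvd_index_of_le le_sup_right
    have h4 : D.relIndex (fittingSubgroup Γ ⊔ D) = 1 := by
      have h5 : Nat.Coprime (Nat.card (fittingSubgroup Γ)) (r ^ m) :=
        Nat.Coprime.pow_right _ ((Nat.Prime.coprime_iff_not_dvd hr.out).2 hF).symm
      exact Nat.eq_one_of_dvd_coprimes h5 h2 h3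
    rw [Subgroup.relIndex_eq_one] at h4
    exact le_sup_left.trans h4
  have h2 : D ≤ fittingSubgroup Γ := by
    refine le_trans ?_ (Cfsg.Agent.S0044.result (G := Γ))
    intro d hd
    rw [mem_centralizer_iff]
    intro x hx
    exact hDc x (h1 hx) d hd
  rw [le_antisymm h2 h1]
  exact Cores.fittingSubgroup_normal Γ

end A

section B

variable {G : Type*} [Group G] [Finite G] {r : ℕ} [hr : Fact r.Prime]

/-- focal subgroup argument -/
theorem focal_contra (hperf : _root_.commutator G = ⊤) (N : Subgroup G) (hrN : ¬ r ∣ N.index)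
    (hfus : ∀ g : G, g ∉ N → ¬ r ∣ Nat.card ↥(N ⊓ N.map (MulAut.conj g).toMonoidHom : Subgroup G))
    {Z : Type*} [Group Z] [Finite Z] (hZ : IsPGroup r Z) [Nontrivial Z] (f : N →* Z)
    (hf : Function.Surjective f) : False := by
  classical
  let P : Sylow r N := default
  have hPi : ¬ r ∣ (P : Subgroup N).index := P.not_dvd_index
  have hTi : ¬ r ∣ ((P : Subgroup N).map N.subtype).index := by
    rw [Subgroup.index_map_subtype, hr.out.dvd_mul]
    rintro (h | h)
    · exact hPi h
    · exact hrN h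
  have hTp : IsPGroup r ((P : Subgroup N).map N.subtype) := P.isPGroup'.map _
  obtain ⟨T, hT⟩ : ∃ T : Sylow r G, (T : Subgroup G) = (P : Subgroup N).map N.subtype :=
    ⟨hTp.toSylow hTi, rfl⟩
  have hTN : (T : Subgroup G) ≤ N := by rw [hT]; exact map_subtype_le _
  have hfoc := Subgroup.commutator_inf_eq_focalSubgroup T
  rw [hperf, top_inf_eq] at hfoc
  have h1 : focalSubgroup (T : Subgroup G) ≤ (_root_.commutator N).map N.subtype := by
    rw [focalSubgroup_def, closure_le]
    rintro _ ⟨hg, x, hx, u, rfl⟩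
    have hxN := hTN hx
    have hy : u * x⁻¹ * u⁻¹ ∈ (T : Subgroup G) := by
      have := (T : Subgroup G).mul_mem ((T : Subgroup G).inv_mem hx) hg
      rw [commutatorElement_def] at this
      convert this using 1
      group
    by_cases hx1 : x = 1
    · subst hx1
      rw [commutatorElement_one_left]
      exact one_mem _
    have huN : u ∈ N := by
      by_contra hu
      apply hfus u hu
      have hmem : u * x⁻¹ * u⁻¹ ∈ N ⊓ N.map (MulAut.conj u).toMonoidHom :=
        ⟨hTN hy, ⟨x⁻¹, N.inv_mem hxN, rfl⟩⟩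
      have hne : u * x⁻¹ * u⁻¹ ≠ 1 := by
        intro h
        apply hx1
        rw [mul_inv_eq_one] at h
        simpa using h
      obtain ⟨k, hk⟩ := IsPGroup.iff_orderOf.1 T.isPGroup' ⟨_, hy⟩
      rw [Subgroup.orderOf_mk] at hk
      have hk0 : k ≠ 0 := by
        rintro rfl
        rw [pow_zero, orderOf_eq_one_iff] at hk
        exact hne hk
      refine (dvd_pow_self r hk0).trans ?_
      rw [← hk]
      have := orderOf_dvd_natCard (⟨_, hmem⟩ : ↥(N ⊓ N.map (MulAut.conj u).toMonoidHom : Subgroup G))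
      rwa [Subgroup.orderOf_mk] at this
    refine ⟨⁅(⟨x, hxN⟩ : N), ⟨u, huN⟩⁆, commutator_mem_commutator (mem_top _) (mem_top _), rfl⟩
  have h2 : (P : Subgroup N) ≤ _root_.commutator N := by
    intro p hp
    have h3 : (p : G) ∈ (T : Subgroup G) := by rw [hT]; exact ⟨p, hp, rfl⟩
    rw [hfoc] at h3
    obtain ⟨q, hq, hqp⟩ := h1 h3
    have : q = p := N.subtype_injective hqp
    rwa [← this]
  have h3 : (P : Subgroup N).map f = ⊤ := by
    rw [← Subgroup.index_eq_one]
    have h4 : ((P : Subgroup N).map f).index ∣ (P : Subgroup N).index := Subgroup.index_map_dvd _ hf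
    obtain ⟨k, hk⟩ := hZ.index ((P : Subgroup N).map f)
    rcases Nat.eq_zero_or_pos k with h5 | h5
    · rw [hk, h5, pow_zero]
    · exact absurd (((dvd_pow_self r h5.ne').trans (dvd_of_eq hk.symm)).trans h4) hPi
  have h4 : _root_.commutator Z = ⊤ := by
    rw [eq_top_iff, ← h3]
    refine (map_mono h2).trans ?_
    rw [_root_.commutator_def, map_commutator]
    exact commutator_mono le_top le_top
  have hnil : Group.IsNilpotent Z := hZ.isNilpotent
  have hsol : Group.IsSolvable Z := inferInstance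
  exact absurd h4 (Group.IsSolvable.commutator_lt_top_of_nontrivial Z).ne

end B

theorem iii_contra {G : Type*} [Group G] [Finite G] [IsSimpleGroup G] {r : ℕ} (rp : r.Prime) (r2 : r ≠ 2)
    (S : Sylow 2 G) (h8 : 8 ≤ Nat.card S)
    (htr : ∀ a ∈ (S : Subgroup G), ∀ b ∈ (S : Subgroup G), a ≠ 1 → b ≠ 1 → ∃ n ∈ normalizer ((S : Subgroup G) : Set G), n * a * n⁻¹ = b)
    (hq : ¬ r ∣ Nat.card S - 1)
    (D : Subgroup G) (hDN : D ≤ normalizer ((S : Subgroup G) : Set G))
    (hDc : ∀ a ∈ D, ∀ b ∈ D, a * b = b * a) (hDo : Odd (Nat.card D)) (hDr : ¬ r ∣ Nat.card D)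
    (hDS : D ⊓ centralizer ((S : Subgroup G) : Set G) = ⊥)
    {m : ℕ} (hm : m ≠ 0)
    (hcard : Nat.card (normalizer ((S : Subgroup G) : Set G)) = Nat.card D * Nat.card (centralizer ((S : Subgroup G) : Set G)) * r ^ m)
    (hrN : ¬ r ∣ (normalizer ((S : Subgroup G) : Set G)).index)
    (hfus : ∀ g : G, g ∉ normalizer ((S : Subgroup G) : Set G) → ¬ r ∣ Nat.card ↥(normalizer ((S : Subgroup G) : Set G) ⊓ (normalizer ((S : Subgroup G) : Set G)).map (MulAut.conj g).toMonoidHom : Subgroup G)) : False := by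
  classical
  haveI : Fact r.Prime := ⟨rp⟩
  set N := normalizer ((S : Subgroup G) : Set G) with hN
  let φ : N →* MulAut (S : Subgroup G) := (S : Subgroup G).normalizerMonoidHom
  have hφ : ∀ (n : N) (s : (S : Subgroup G)), ((φ n s : (S : Subgroup G)) : G) = n * s * (n : G)⁻¹ := fun n s => rfl
  have hker : φ.ker = (centralizer ((S : Subgroup G) : Set G)).subgroupOf N := (S : Subgroup G).normalizerMonoidHom_ker
  have hCN : centralizer ((S : Subgroup G) : Set G) ≤ N := centralizer_le_normalizer _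
  have hkc : Nat.card φ.ker = Nat.card (centralizer ((S : Subgroup G) : Set G)) := by
    rw [hker]; exact Nat.card_congr (subgroupOfEquivOfLe hCN).toEquiv
  have hΓc : Nat.card φ.range = Nat.card D * r ^ m := by
    have h1 := Subgroup.card_mul_index φ.ker
    rw [Subgroup.index_ker, hkc, hcard] at h1
    have h0 : 0 < Nat.card (centralizer ((S : Subgroup G) : Set G)) := Nat.card_pos
    apply Nat.eq_of_mul_eq_mul_left h0
    rw [h1]; ring
  have hro : Odd r := rp.odd_of_ne_two r2
  have hΓo : Odd (Nat.card φ.range) := by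
    rw [hΓc]; exact hDo.mul (hro.pow)
  have hsol : Group.IsSolvable φ.range := Cfsg.Agent.S0205.result hΓo
  -- the image of D
  let ψ : N →* φ.range := φ.rangeRestrict
  have hψs : Function.Surjective ψ := φ.rangeRestrict_surjective
  set DB : Subgroup φ.range := (D.subgroupOf N).map ψ with hDB
  have hDBc : Nat.card DB = Nat.card D := by
    have hinj : Function.Injective (ψ.comp (D.subgroupOf N).subtype) := by
      rw [injective_iff_map_eq_one]
      rintro ⟨d, hd⟩ h
      have h1 : d ∈ φ.ker := by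
        rw [MonoidHom.mem_ker]
        exact congrArg Subtype.val h
      rw [hker] at h1
      have h2 : (d : G) ∈ D ⊓ centralizer ((S : Subgroup G) : Set G) := ⟨hd, h1⟩
      rw [hDS, mem_bot] at h2
      exact Subtype.ext (Subtype.ext h2)
    have h1 := Nat.card_congr (MonoidHom.ofInjective hinj).toEquiv
    rw [Nat.card_congr (subgroupOfEquivOfLe hDN).toEquiv] at h1
    rw [h1, MonoidHom.range_comp, Subgroup.range_subtype]
  have hDBi : DB.index = r ^ m := by
    have h1 := Subgroup.card_mul_index DB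
    rw [hDBc, hΓc] at h1
    exact Nat.eq_of_mul_eq_mul_left Nat.card_pos h1
  have hDBab : ∀ a ∈ DB, ∀ b ∈ DB, a * b = b * a := by
    rintro _ ⟨a, ha, rfl⟩ _ ⟨b, hb, rfl⟩
    rw [← map_mul, ← map_mul]
    congr 1
    ext
    exact hDc a ha b hb
  have hnorm : DB.Normal := by
    refine abelian_hall_normal (r := r) ?_ DB hDBab hDBi
    intro R hR hRn
    refine normal_r_trivial φ.range.subtype φ.range.subtype_injective ?_ hq R hR hRn
    intro a b ha hb
    obtain ⟨n, hn, hnab⟩ := htr a a.2 b b.2 (fun h => ha (Subtype.ext h)) (fun h => hb (Subtype.ext h))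
    refine ⟨ψ ⟨n, hn⟩, Subtype.ext ?_⟩
    exact hnab
  have hZc : Nat.card (φ.range ⧸ DB) = r ^ m := hDBi
  have hZp : IsPGroup r (φ.range ⧸ DB) := IsPGroup.of_card hZc
  haveI : Nontrivial (φ.range ⧸ DB) := by
    rw [← Finite.one_lt_card_iff_nontrivial, hZc]
    exact Nat.one_lt_pow hm rp.one_lt
  have hperf : _root_.commutator G = ⊤ := by
    apply Cfsg.Agent.Lib.H58SM.perfect_of_simple inferInstance
    intro hp
    have h1 : Nat.card S ∣ Nat.card G := Subgroup.card_subgroup_dvd_card _
    rcases (Nat.dvd_prime hp).1 h1 with h2 | h2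
    · omega
    · obtain ⟨k, hk⟩ := S.isPGroup'.exists_card_eq
      have h3 : (2 ^ k).Prime := by rw [← hk, h2]; exact hp
      have h4 : k = 1 := by
        have := (Nat.Prime.eq_one_of_pow h3)
        exact this
      rw [h4] at hk
      omega
  exact focal_contra hperf N hrN hfus hZp ((QuotientGroup.mk' DB).comp ψ)
    ((QuotientGroup.mk'_surjective DB).comp hψs)

end Cfsg.Agent.Lib.H15TD3x
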