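import Cfsg.Prelude.Def_IsolatedElements
import Cfsg.Agent.Lib.H55Invol
import Cfsg.Agent.Lib.ZStar
import Cfsg.Agent.Lib.BrauerSuzuki
import Cfsg.Agent.Lib.Cores
import Cfsg.Agent.Lib.SylowTools
import Cfsg.Agent.Lib.H55Klein
import Cfsg.Agent.Lib.H55Thompson
import Cfsg.Agent.S3276
import Cfsg.Agent.Lib.Involutions

set_option autoImplicit false

/-!
S3279: a simple group with an involution whose centralizer contains at most three involutions.
-/

namespace Cfsg.Agent.Lib.H55ThreeInv

open Cfsg Cfsg.Agent.Lib.H55Invol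

universe u

variable {G : Type u} [Group G]

/-- if `x y` has even order, its involution `u` commutes with both, and `x u` is conjugate to `x` or `y` -/
theorem exists_even [Finite G] {x y : G} (hx : orderOf x = 2) (hy : orderOf y = 2)
    (h : Even (orderOf (x * y))) : ∃ u : G, orderOf u = 2 ∧ Commute u x ∧ Commute u y ∧
      (IsConj x (x * u) ∨ IsConj y (x * u)) := by
  have hx2 := mul_self hx
  have hy2 := mul_self hy
  have hxi : x⁻¹ = x := inv_eq_of_mul_eq_one_left hx2
  have hyi : y⁻¹ = y := inv_eq_of_mul_eq_one_left hy2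
  set r := x * y with hr
  have hpos : 0 < orderOf r := orderOf_pos r
  obtain ⟨m, hm⟩ := h
  have hmpos : 0 < m := by omega
  have hou : orderOf (r ^ m) = 2 := by
    rw [orderOf_pow' r (by omega), hm]
    have : Nat.gcd (m + m) m = m := by simp
    rw [this, ← two_mul]
    exact Nat.mul_div_cancel _ hmpos
  have hcx : Commute (r ^ m) x := by
    have h1 := conj_mul_pow hx2 hy2 m
    have h2 : (r ^ m)⁻¹ = r ^ m := by
      rw [inv_eq_iff_mul_eq_one, ← pow_add, ← hm, pow_orderOf_eq_one]
    rw [← hr, h2] at h1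
    show r ^ m * x = x * r ^ m
    calc r ^ m * x = (x * r ^ m * x) * x := by rw [h1]
      _ = x * r ^ m * (x * x) := by group
      _ = x * r ^ m := by rw [hx2, mul_one]
  have hcr : Commute (r ^ m) r := Commute.pow_self r m
  have hyr : y = x * r := by rw [hr, ← mul_assoc, hx2, one_mul]
  have hcy : Commute (r ^ m) y := by
    rw [hyr]
    exact hcx.mul_right hcr
  refine ⟨r ^ m, hou, hcx, hcy, ?_⟩
  have hinvx : ∀ k : ℕ, (r ^ k)⁻¹ * x = x * r ^ k := by
    intro k
    have h1 := conj_mul_pow hx2 hy2 k
    rw [← hr] at h1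
    rw [← h1]
    calc x * r ^ k * x * x = x * r ^ k * (x * x) := by group
      _ = x * r ^ k := by rw [hx2, mul_one]
  rcases Nat.even_or_odd' m with ⟨j, hj | hj⟩
  · left
    rw [isConj_iff]
    refine ⟨(r ^ j)⁻¹, ?_⟩
    rw [inv_inv, hinvx, mul_assoc, ← pow_add, hj, two_mul]
  · right
    rw [isConj_iff]
    refine ⟨(r ^ j)⁻¹, ?_⟩
    rw [inv_inv]
    calc (r ^ j)⁻¹ * y * r ^ j = (r ^ j)⁻¹ * (x * r) * r ^ j := by rw [← hyr]
      _ = ((r ^ j)⁻¹ * x) * r * r ^ j := by group
      _ = x * r ^ j * r * r ^ j := by rw [hinvx]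
      _ = x * r ^ m := by
        rw [mul_assoc, mul_assoc, ← pow_succ', ← pow_add, hj]
        congr 2
        ring

/-- the involutions commuting with `x` are `x, y, x y` -/
theorem three [Finite G] {x y : G} (hx : orderOf x = 2)
    (h3 : Nat.card {u : ↥(Subgroup.centralizer ({x} : Set G)) // orderOf u = 2} ≤ 3)
    (hy : orderOf y = 2) (hxy : Commute y x) (hne : y ≠ x) :
    ∀ u : G, orderOf u = 2 → Commute u x → u = x ∨ u = y ∨ u = x * y := by
  classical
  intro u hu hux
  by_contra hcon
  push Not at hcon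
  obtain ⟨h1, h2, h4⟩ := hcon
  have hxyo : orderOf (x * y) = 2 := by
    rw [orderOf_two_iff]
    refine ⟨?_, ?_⟩
    · intro h
      apply hne
      have := mul_self hx
      rw [← this] at h
      exact mul_left_cancel h
    · calc x * y * (x * y) = x * (y * x) * y := by group
        _ = x * (x * y) * y := by rw [hxy.eq]
        _ = (x * x) * (y * y) := by group
        _ = 1 := by rw [mul_self hx, mul_self hy, one_mul]
  have hcard : Nat.card {u : ↥(Subgroup.centralizer ({x} : Set G)) // orderOf u = 2} =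
      Nat.card {u : G // orderOf u = 2 ∧ Commute u x} := by
    refine Nat.card_congr ⟨fun a => ⟨a.1.1, ?_, ?_⟩, fun a => ⟨⟨a.1, ?_⟩, ?_⟩, ?_, ?_⟩
    · rw [Subgroup.orderOf_coe]; exact a.2
    · exact Subgroup.mem_centralizer_singleton_iff.1 a.1.2
    · exact Subgroup.mem_centralizer_singleton_iff.2 a.2.2
    · rw [← Subgroup.orderOf_coe]; exact a.2.1
    · intro a; rfl
    · intro a; rfl
  rw [hcard] at h3
  have hsub : ((({x, y, x * y, u} : Finset G) : Set G)) ⊆ {u : G | orderOf u = 2 ∧ Commute u x} := by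
    intro a ha
    simp only [Finset.coe_insert, Finset.coe_singleton, Set.mem_insert_iff,
      Set.mem_singleton_iff] at ha
    rcases ha with rfl | rfl | rfl | rfl
    · exact ⟨hx, Commute.refl _⟩
    · exact ⟨hy, hxy⟩
    · exact ⟨hxyo, (Commute.refl x).mul_left hxy⟩
    · exact ⟨hu, hux⟩
  have hle := Set.ncard_le_ncard hsub (Set.toFinite _)
  rw [Set.ncard_coe_finset] at hle
  have hc4 : ({x, y, x * y, u} : Finset G).card = 4 := by
    rw [Finset.card_insert_of_notMem, Finset.card_insert_of_notMem, Finset.card_insert_of_notMem,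
      Finset.card_singleton]
    · simp only [Finset.mem_singleton]; exact fun h => h4 h.symm
    · simp only [Finset.mem_insert, Finset.mem_singleton, not_or]
      refine ⟨?_, fun h => h2 h.symm⟩
      intro h
      have : x = 1 := by
        have h5 : 1 * y = x * y := by rw [one_mul]; exact h
        exact (mul_right_cancel h5).symm
      exact ne_one hx this
    · simp only [Finset.mem_insert, Finset.mem_singleton, not_or]
      refine ⟨fun h => hne h.symm, ?_, fun h => h1 h.symm⟩
      intro h
      have : y = 1 := by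
        have h5 : x * 1 = x * y := by rw [mul_one]; exact h
        exact (mul_left_cancel h5).symm
      exact ne_one hy this
  rw [hc4] at hle
  have : Set.ncard {u : G | orderOf u = 2 ∧ Commute u x} = Nat.card {u : G // orderOf u = 2 ∧ Commute u x} := rfl
  omega

/-- a simple group with nontrivial centre has every subgroup central -/
theorem center_eq_top [IsSimpleGroup G] {z : G} (hz : z ≠ 1) (hc : ∀ g : G, g * z = z * g) :
    ∀ a b : G, a * b = b * a := by
  have hmem : z ∈ Subgroup.center G := Subgroup.mem_center_iff.2 hc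
  have htop : Subgroup.center G = ⊤ := by
    rcases (Subgroup.center G).normal_of_characteristic.eq_bot_or_eq_top with h | h
    · rw [h, Subgroup.mem_bot] at hmem; exact absurd hmem hz
    · exact h
  intro a b
  have : b ∈ Subgroup.center G := by rw [htop]; trivial
  exact Subgroup.mem_center_iff.1 this a

/-- an abelian simple group has at most one involution -/
theorem unique_of_comm [IsSimpleGroup G] (hc : ∀ a b : G, a * b = b * a) {x y : G}
    (hx : orderOf x = 2) (hy : orderOf y = 2) : x = y := by
  have hn : (Subgroup.zpowers y).Normal := by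
    refine ⟨fun n hn g => ?_⟩
    rw [hc g n, mul_assoc, mul_inv_cancel, mul_one]; exact hn
  have htop : Subgroup.zpowers y = ⊤ := by
    rcases hn.eq_bot_or_eq_top with h | h
    · exact absurd (Subgroup.zpowers_eq_bot.1 h) (ne_one hy)
    · exact h
  have hx' : x ∈ Subgroup.zpowers y := by rw [htop]; trivial
  obtain ⟨k, hk⟩ := Subgroup.mem_zpowers_iff.1 hx'
  have hy2 : y ^ (2 : ℤ) = 1 := by
    have := pow_orderOf_eq_one y
    rw [hy] at this; exact_mod_cast this
  rcases Int.even_or_odd' k with ⟨m, hm | hm⟩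
  · exfalso
    apply ne_one hx
    rw [← hk, hm, zpow_mul, hy2, one_zpow]
  · rw [← hk, hm, zpow_add, zpow_mul, hy2, one_zpow, one_mul, zpow_one]

theorem bs : ZStar.BrauerSuzukiStatement.{u} := by
  intro G _ _ S n e hO
  exact Cfsg.Agent.Lib.BrauerSuzuki.card_center_eq_two S n e hO

/-- Z* in a simple group: no isolated involution unless the group is abelian -/
theorem comm_of_oddIso [Finite G] [IsSimpleGroup G] {x : G} (hx : orderOf x = 2) (h : ZStar.OddIso x) :
    ∀ a b : G, a * b = b * a := by
  have hZ := ZStar.inZStar_of_oddIso bs hx h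
  have hcore : pPrimeCore 2 G = ⊥ := by
    have hn : (pPrimeCore 2 G).Normal := inferInstance
    rcases hn.eq_bot_or_eq_top with h1 | h1
    · exact h1
    · exfalso
      have h2 : Nat.card ↥(pPrimeCore 2 G) = Nat.card G := by rw [h1, Subgroup.card_top]
      have h3 : 2 ∣ Nat.card G := by rw [← hx]; exact orderOf_dvd_natCard x
      have h4 := Cores.coprime_card_pPrimeCore 2 G
      rw [h2] at h4
      exact (Nat.Prime.coprime_iff_not_dvd Nat.prime_two).1 h4.symm h3
  apply center_eq_top (ne_one hx)
  intro g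
  have := hZ g
  rw [hcore, Subgroup.mem_bot] at this
  calc g * x = (g * x * g⁻¹ * x⁻¹) * (x * g) := by group
    _ = x * g := by rw [this, one_mul]

theorem xy_order {x y : G} (hx : orderOf x = 2) (hy : orderOf y = 2) (hxy : Commute y x) (hne : y ≠ x) :
    orderOf (x * y) = 2 := by
  rw [orderOf_two_iff]
  refine ⟨?_, ?_⟩
  · intro h
    apply hne
    have := mul_self hx
    rw [← this] at h
    exact mul_left_cancel h
  · calc x * y * (x * y) = x * (y * x) * y := by group
      _ = x * (x * y) * y := by rw [hxy.eq]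
      _ = (x * x) * (y * y) := by group
      _ = 1 := by rw [mul_self hx, mul_self hy, one_mul]

/-- the centralizer of `x` contains a Sylow 2-subgroup -/
theorem exists_sylow [Finite G] [IsSimpleGroup G] {x : G} (hx : orderOf x = 2)
    (h3 : Nat.card {u : ↥(Subgroup.centralizer ({x} : Set G)) // orderOf u = 2} ≤ 3) :
    ∃ P : Sylow 2 G, (P : Subgroup G) ≤ Subgroup.centralizer ({x} : Set G) := by
  classical
  set C := Subgroup.centralizer ({x} : Set G) with hC
  have hxC : x ∈ C := Subgroup.mem_centralizer_singleton_iff.2 rfl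
  obtain ⟨S, hxS, hSC, hSp, hSi⟩ := SylowTools.exists_sylow_of_subgroup (p := 2)
    ((Subgroup.zpowers_le).2 hxC) (H55Klein.zpowers_isPGroup hx)
  have hxS' : x ∈ S := hxS (Subgroup.mem_zpowers x)
  obtain ⟨P, hSP⟩ := hSp.exists_le_sylow
  by_cases hPC : (P : Subgroup G) ≤ C
  · exact ⟨P, hPC⟩
  exfalso
  -- S < P
  have hPS : (P : Subgroup G) ⊓ C ≤ S := by
    have h1 : ¬ 2 ∣ S.relIndex ((P : Subgroup G) ⊓ C) := by
      intro h
      apply hSi
      have h2 : S.relIndex ((P : Subgroup G) ⊓ C) * ((P : Subgroup G) ⊓ C).relIndex C = S.relIndex C :=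
        Subgroup.relIndex_mul_relIndex _ _ _ (le_inf hSP hSC) inf_le_right
      rw [← h2]
      exact h.mul_right _
    have hp : IsPGroup 2 ↥((P : Subgroup G) ⊓ C) := P.2.to_le inf_le_left
    have h2 : IsPGroup 2 ↥(S.subgroupOf ((P : Subgroup G) ⊓ C)) := hp.to_subgroup _
    obtain ⟨n, hn⟩ := hp.index (S.subgroupOf ((P : Subgroup G) ⊓ C))
    have h4 : S.relIndex ((P : Subgroup G) ⊓ C) = 2 ^ n := hn
    rw [h4] at h1
    have hn0 : n = 0 := by
      by_contra hne
      exact h1 (dvd_pow_self 2 hne)
    rw [hn0, pow_zero] at h4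
    exact Subgroup.relIndex_eq_one.1 h4
  obtain ⟨w, hwP, hwC⟩ := SetLike.not_le_iff_exists.1 hPC
  have hlt : S.subgroupOf (P : Subgroup G) < ⊤ := by
    rw [lt_top_iff_ne_top]
    intro h
    rw [Subgroup.subgroupOf_eq_top] at h
    exact hwC (hSC (h hwP))
  have hnilp : Group.IsNilpotent ↥(P : Subgroup G) := P.2.isNilpotent
  have hlt2 := Group.normalizerCondition_of_isNilpotent (S.subgroupOf (P : Subgroup G)) hlt
  obtain ⟨n, hn1, hn2⟩ := SetLike.exists_of_lt hlt2
  have hnS : (n : G) ∉ S := fun h => hn2 h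
  have hnC : (n : G) ∉ C := fun h => hnS (hPS ⟨n.2, h⟩)
  have hnorm : ∀ y ∈ S, (n : G) * y * (n : G)⁻¹ ∈ S := by
    intro y hy
    have := (Subgroup.mem_normalizer_iff.1 hn1 ⟨y, hSP hy⟩).1 hy
    exact this
  set y' := (n : G) * x * (n : G)⁻¹ with hy'
  have hy'S : y' ∈ S := hnorm x hxS'
  have hy'x : Commute y' x := Subgroup.mem_centralizer_singleton_iff.1 (hSC hy'S)
  have hy'o : orderOf y' = 2 := by rw [hy', orderOf_conj, hx]
  have hy'ne : y' ≠ x := by
    intro h
    apply hnC
    rw [hC, Subgroup.mem_centralizer_singleton_iff]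
    calc (n : G) * x = y' * n := by rw [hy']; group
      _ = x * n := by rw [h]
  have hthree := three hx h3 hy'o hy'x hy'ne
  -- a central involution of P
  have hPnt : Nontrivial ↥(P : Subgroup G) := ⟨⟨⟨x, hSP hxS'⟩, 1, fun h => ne_one hx (congrArg Subtype.val h)⟩⟩
  have hZnt : Nontrivial ↥(Subgroup.center ↥(P : Subgroup G)) := P.2.center_nontrivial
  obtain ⟨z, hz⟩ : ∃ z : ↥(Subgroup.center ↥(P : Subgroup G)), orderOf z = 2 := by
    apply exists_prime_orderOf_dvd_card' 2
    have hzp : IsPGroup 2 ↥(Subgroup.center ↥(P : Subgroup G)) := P.2.to_subgroup _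
    obtain ⟨k, hk⟩ := hzp.nontrivial_iff_card.1 hZnt
    rw [hk.2]
    exact dvd_pow_self 2 (by omega)
  set y := ((z : ↥(P : Subgroup G)) : G) with hyz
  have hyo : orderOf y = 2 := by
    rw [hyz, Subgroup.orderOf_coe, Subgroup.orderOf_coe, hz]
  have hyc : ∀ g ∈ (P : Subgroup G), g * y = y * g := by
    intro g hg
    have := Subgroup.mem_center_iff.1 z.2 ⟨g, hg⟩
    exact congrArg Subtype.val this
  have hyx : Commute y x := (hyc x (hSP hxS')).symm
  have hyn : (n : G) * y = y * n := hyc n n.2
  have hynex : y ≠ x := by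
    intro h
    apply hnC
    rw [hC, Subgroup.mem_centralizer_singleton_iff, ← h]
    exact hyn
  have hyney : y ≠ y' := by
    intro h
    have h1 : (n : G)⁻¹ * y * n = x := by
      rw [h, hy']; group
    have h2 : (n : G)⁻¹ * y * n = y := by
      rw [mul_assoc, ← hyn]; group
    exact hynex (h2.symm.trans h1)
  have hyeq : y = x * y' := by
    rcases hthree y hyo hyx with h | h | h
    · exact absurd h hynex
    · exact absurd h hyney
    · exact h
  -- not conjugate
  have hnc : ¬ IsConj x y := by
    rw [isConj_iff]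
    rintro ⟨g, hg⟩
    -- g⁻¹ P g ≤ C
    set D := (P : Subgroup G).map (MulAut.conj g⁻¹).toMonoidHom with hD
    have hDp : IsPGroup 2 D := P.2.map _
    have hDC : D ≤ C := by
      rintro _ ⟨a, ha, rfl⟩
      rw [hC, Subgroup.mem_centralizer_singleton_iff]
      show g⁻¹ * a * (g⁻¹)⁻¹ * x = x * (g⁻¹ * a * (g⁻¹)⁻¹)
      have h1 := hyc a ha
      have h2 : x = g⁻¹ * y * g := by rw [← hg]; group
      rw [h2]
      calc g⁻¹ * a * (g⁻¹)⁻¹ * (g⁻¹ * y * g) = g⁻¹ * (a * y) * g := by group
        _ = g⁻¹ * (y * a) * g := by rw [h1]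
        _ = g⁻¹ * y * g * (g⁻¹ * a * (g⁻¹)⁻¹) := by group
    obtain ⟨k, hk, hkD⟩ := SylowTools.conj_into_of_sylow_of_subgroup hSC hSp hSi hDC hDp
    have hcard : Nat.card ↥(P : Subgroup G) ≤ Nat.card ↥S := by
      have h1 : (D.map (MulAut.conj k).toMonoidHom) ≤ S := by
        rintro _ ⟨a, ha, rfl⟩
        exact hkD a ha
      have h2 : Nat.card ↥(D.map (MulAut.conj k).toMonoidHom) = Nat.card ↥(P : Subgroup G) := by
        rw [Subgroup.card_map_of_injective (MulAut.conj k).injective, hD,
          Subgroup.card_map_of_injective (MulAut.conj g⁻¹).injective]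
      rw [← h2]
      exact Nat.card_mono (Set.toFinite _) h1
    have heq : S = (P : Subgroup G) := Subgroup.eq_of_le_of_card_ge hSP hcard
    exact hPC (heq ▸ hSC)
  have hhx : ∀ g : G, Commute (g * y * g⁻¹) x → g * y * g⁻¹ = y := by
    intro g hgx
    have ho : orderOf (g * y * g⁻¹) = 2 := by rw [orderOf_conj, hyo]
    rcases hthree _ ho hgx with h | h | h
    · exfalso
      apply hnc
      rw [← h]
      exact (isConj_iff.2 ⟨g, rfl⟩ : IsConj y (g * y * g⁻¹)).symm
    · exfalso
      apply hnc
      have h1 : IsConj x y' := isConj_iff.2 ⟨n, rfl⟩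
      rw [← h] at h1
      exact h1.trans (isConj_iff.2 ⟨g, rfl⟩ : IsConj y (g * y * g⁻¹)).symm
    · rw [h, ← hyeq]
  have := Cfsg.Agent.S3276.result x y hx hyo hyx.symm hnc (by
    intro u hu hux g hg
    rcases hthree u hu hux with h | h | h
    · rw [h] at hg
      rw [hhx g hg]
    · -- u = y' = n x n⁻¹
      rw [h] at hg
      have h1 : Commute ((n : G)⁻¹ * g * y * ((n : G)⁻¹ * g)⁻¹) x := by
        show (n : G)⁻¹ * g * y * ((n : G)⁻¹ * g)⁻¹ * x = x * ((n : G)⁻¹ * g * y * ((n : G)⁻¹ * g)⁻¹)
        have h2 : g * y * g⁻¹ * ((n : G) * x * (n : G)⁻¹) = ((n : G) * x * (n : G)⁻¹) * (g * y * g⁻¹) := hg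
        calc (n : G)⁻¹ * g * y * ((n : G)⁻¹ * g)⁻¹ * x
            = (n : G)⁻¹ * (g * y * g⁻¹ * ((n : G) * x * (n : G)⁻¹)) * n := by group
          _ = (n : G)⁻¹ * (((n : G) * x * (n : G)⁻¹) * (g * y * g⁻¹)) * n := by rw [h2]
          _ = x * ((n : G)⁻¹ * g * y * ((n : G)⁻¹ * g)⁻¹) := by group
      have h3 := hhx _ h1
      have h4 : g * y * g⁻¹ = y := by
        calc g * y * g⁻¹ = (n : G) * ((n : G)⁻¹ * g * y * ((n : G)⁻¹ * g)⁻¹) * (n : G)⁻¹ := by group
          _ = (n : G) * y * (n : G)⁻¹ := by rw [h3]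
          _ = y := by rw [hyn]; group
      rw [h4]
    · rw [h, ← hyeq] at hg
      exact hg)
  apply this.1
  rcases (Subgroup.normalClosure_normal (s := ({y} : Set G))).eq_bot_or_eq_top with h | h
  · exfalso
    have h1 : y ∈ Subgroup.normalClosure ({y} : Set G) := Subgroup.subset_normalClosure rfl
    rw [h, Subgroup.mem_bot] at h1
    exact ne_one hyo h1
  · exact h

/-- an involution centralized by a Sylow 2-subgroup lies in it -/
theorem mem_of_cent [Finite G] (P : Sylow 2 G) {t : G} (ht : orderOf t = 2)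
    (h : ∀ a ∈ (P : Subgroup G), a * t = t * a) : t ∈ (P : Subgroup G) := by
  have hN : Subgroup.zpowers t ≤ Subgroup.normalizer ((P : Subgroup G) : Set G) := by
    rw [Subgroup.zpowers_le]
    apply SylowTools.mem_normalizer_of_forall
    intro a ha
    have : t * a * t⁻¹ = a := by rw [← h a ha]; group
    rw [this]; exact ha
  have := H55Klein.le_of_normal_sylow (S₀ := (P : Subgroup G)) Subgroup.le_normalizer P.2
    (SylowTools.not_dvd_relIndex_of_sylow P Subgroup.le_normalizer) Subgroup.normal_in_normalizer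
    (H55Klein.zpowers_isPGroup ht) hN
  exact this (Subgroup.mem_zpowers t)

theorem tri [Finite G] (P : Sylow 2 G) {b c d : G} (hb : ∀ a ∈ (P : Subgroup G), a * b = b * a)
    (hc : ∀ a ∈ (P : Subgroup G), a * c = c * a) (hc2 : orderOf c = 2)
    (hbc : b ≠ c) (hthree : ∀ u ∈ (P : Subgroup G), orderOf u = 2 → u = b ∨ u = c ∨ u = d)
    (h : IsConj b c) : IsConj c d := by
  obtain ⟨h0, hh⟩ := isConj_iff.1 h
  obtain ⟨g, hg, hgP⟩ := H55Thompson.exists_conj_into P hc hh
  have hgN : g ∈ Subgroup.normalizer ((P : Subgroup G) : Set G) :=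
    SylowTools.mem_normalizer_of_forall (fun a ha => hgP a ha (hb a ha))
  have hcP := mem_of_cent P hc2 hc
  have ho : orderOf (g * c * g⁻¹) = 2 := by rw [orderOf_conj, hc2]
  rcases hthree (g * c * g⁻¹) (hgP c hcP (hb c hcP)) ho with h1 | h1 | h1
  · exact absurd (H55Thompson.no_swap P hgN hb hg h1) hbc
  · exfalso
    apply hbc
    have : g * b * g⁻¹ = g * c * g⁻¹ := by rw [hg, h1]
    exact mul_left_cancel (mul_right_cancel this)
  · exact isConj_iff.2 ⟨g, h1⟩

theorem all_conj [Finite G] [IsSimpleGroup G] {x : G} (hx : orderOf x = 2)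
    (h3 : Nat.card {u : ↥(Subgroup.centralizer ({x} : Set G)) // orderOf u = 2} ≤ 3)
    (P : Sylow 2 G) (hP : (P : Subgroup G) ≤ Subgroup.centralizer ({x} : Set G)) :
    ∀ u : G, orderOf u = 2 → IsConj x u := by
  classical
  have hPx : ∀ a ∈ (P : Subgroup G), a * x = x * a :=
    fun a ha => Subgroup.mem_centralizer_singleton_iff.1 (hP ha)
  suffices hsuff : ∀ t : G, orderOf t = 2 → Commute t x → IsConj x t by
    intro u hu
    have hup := H55Klein.zpowers_isPGroup hu
    obtain ⟨g, hg⟩ := SylowTools.conj_into_sylow P hup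
    have h1 := hg u (Subgroup.mem_zpowers u)
    have h2 := hsuff (g * u * g⁻¹) (by rw [orderOf_conj, hu]) (hPx _ h1)
    exact h2.trans (isConj_iff.2 ⟨g⁻¹, by group⟩)
  intro t ht htx
  by_cases hex : ∃ y : G, orderOf y = 2 ∧ Commute y x ∧ y ≠ x
  swap
  · push Not at hex
    rw [hex t ht htx]
  obtain ⟨y, hy, hyx, hyne⟩ := hex
  have hthree := three hx h3 hy hyx hyne
  have hw : orderOf (x * y) = 2 := xy_order hx hy hyx hyne
  have hwx : Commute (x * y) x := (Commute.refl x).mul_left hyx
  have hxw : x * (x * y) = y := by rw [← mul_assoc, mul_self hx, one_mul]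
  -- if x ~ y and x ~ w done
  suffices hall : IsConj x y ∧ IsConj x (x * y) by
    rcases hthree t ht htx with h | h | h
    · rw [h]
    · rw [h]; exact hall.1
    · rw [h]; exact hall.2
  -- x * x is not conjugate to anything of order two
  have hnone : ∀ a : G, orderOf a = 2 → ¬ IsConj a (x * x) := by
    intro a ha h
    rw [mul_self hx, isConj_one_left] at h
    exact ne_one ha h
  by_cases hpair : IsConj x y ∨ IsConj x (x * y) ∨ IsConj y (x * y)
  swap
  · exfalso
    push Not at hpair
    obtain ⟨n1, n2, n4⟩ := hpair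
    have hcom : ∀ g : G, Commute (x * y) (g * y * g⁻¹) := by
      intro g
      have ho : orderOf (g * y * g⁻¹) = 2 := by rw [orderOf_conj, hy]
      have hyg : IsConj y (g * y * g⁻¹) := isConj_iff.2 ⟨g, rfl⟩
      by_cases hodd : Odd (orderOf (x * (g * y * g⁻¹)))
      · exfalso
        exact n1 ((Involutions.isConj_of_odd hx ho hodd).trans hyg.symm)
      · rw [Nat.not_odd_iff_even] at hodd
        obtain ⟨u, hu, hux, huy, hc⟩ := exists_even hx ho hodd
        rcases hthree u hu hux with h | h | h
        · exfalso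
          rw [h] at hc
          rcases hc with hc | hc
          · exact hnone _ hx hc
          · exact hnone _ ho hc
        · exfalso
          rw [h] at hc
          rcases hc with hc | hc
          · exact n2 hc
          · exact n4 (hyg.trans hc)
        · rw [← h]; exact huy
    have htop : Subgroup.normalClosure ({y} : Set G) = ⊤ := by
      rcases (Subgroup.normalClosure_normal (s := ({y} : Set G))).eq_bot_or_eq_top with h | h
      · exfalso
        have h1 : y ∈ Subgroup.normalClosure ({y} : Set G) := Subgroup.subset_normalClosure rfl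
        rw [h, Subgroup.mem_bot] at h1
        exact ne_one hy h1
      · exact h
    have hle : Subgroup.normalClosure ({y} : Set G) ≤ Subgroup.centralizer ({x * y} : Set G) := by
      rw [Subgroup.normalClosure, Subgroup.closure_le]
      intro a ha
      rw [Group.mem_conjugatesOfSet_iff] at ha
      obtain ⟨z, hz, ha⟩ := ha
      rw [Set.mem_singleton_iff] at hz
      subst hz
      obtain ⟨g, rfl⟩ := isConj_iff.1 ha
      rw [SetLike.mem_coe, Subgroup.mem_centralizer_singleton_iff]
      exact (hcom g).symm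
    have hcen : ∀ g : G, g * (x * y) = (x * y) * g := by
      intro g
      have : g ∈ Subgroup.centralizer ({x * y} : Set G) := hle (by rw [htop]; trivial)
      exact Subgroup.mem_centralizer_singleton_iff.1 this
    exact hyne (unique_of_comm (center_eq_top (ne_one hw) hcen) hy hx)
  by_cases hPy : ∀ a ∈ (P : Subgroup G), a * y = y * a
  · have hPw : ∀ a ∈ (P : Subgroup G), a * (x * y) = (x * y) * a := by
      intro a ha
      calc a * (x * y) = (a * x) * y := by group
        _ = x * (a * y) := by rw [hPx a ha]; group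
        _ = (x * y) * a := by rw [hPy a ha]; group
    have hthreeP : ∀ u ∈ (P : Subgroup G), orderOf u = 2 → u = x ∨ u = y ∨ u = x * y :=
      fun u hu hu2 => hthree u hu2 (hPx u hu)
    have hxney : x ≠ y := fun h => hyne h.symm
    have hxnew : x ≠ x * y := by
      intro h
      apply ne_one hy
      have h5 : x * 1 = x * y := by rw [mul_one]; exact h
      exact (mul_left_cancel h5).symm
    have hynew : y ≠ x * y := by
      intro h
      apply ne_one hx
      have h5 : 1 * y = x * y := by rw [one_mul]; exact h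
      exact (mul_right_cancel h5).symm
    rcases hpair with h | h | h
    · have h2 := tri P hPx hPy hy hxney hthreeP h
      exact ⟨h, h.trans h2⟩
    · have h2 := tri (d := y) P hPx hPw hw hxnew (by
        intro u hu hu2
        rcases hthreeP u hu hu2 with h | h | h
        · exact Or.inl h
        · exact Or.inr (Or.inr h)
        · exact Or.inr (Or.inl h)) h
      exact ⟨h.trans h2, h⟩
    · have h2 := tri (d := x) P hPy hPw hw hynew (by
        intro u hu hu2
        rcases hthreeP u hu hu2 with h | h | h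
        · exact Or.inr (Or.inr h)
        · exact Or.inl h
        · exact Or.inr (Or.inl h)) h
      exact ⟨(h.trans h2).symm, h2.symm⟩
  · push Not at hPy
    obtain ⟨c, hcP, hcy⟩ := hPy
    have hcx := hPx c hcP
    have ho : orderOf (c * y * c⁻¹) = 2 := by rw [orderOf_conj, hy]
    have hcom : Commute (c * y * c⁻¹) x := by
      show c * y * c⁻¹ * x = x * (c * y * c⁻¹)
      have h1 : c⁻¹ * x = x * c⁻¹ := by
        calc c⁻¹ * x = c⁻¹ * (x * c) * c⁻¹ := by group
          _ = c⁻¹ * (c * x) * c⁻¹ := by rw [hcx]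
          _ = x * c⁻¹ := by group
      calc c * y * c⁻¹ * x = c * y * (c⁻¹ * x) := by group
        _ = c * (y * x) * c⁻¹ := by rw [h1]; group
        _ = c * (x * y) * c⁻¹ := by rw [hyx.eq]
        _ = (c * x) * y * c⁻¹ := by group
        _ = x * (c * y * c⁻¹) := by rw [hcx]; group
    have hyw : IsConj y (x * y) := by
      rcases hthree _ ho hcom with h | h | h
      · exfalso
        apply hyne
        calc y = c⁻¹ * (c * y * c⁻¹) * c := by group
          _ = c⁻¹ * (x * c) := by rw [h]; group
          _ = c⁻¹ * (c * x) := by rw [hcx]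
          _ = x := by group
      · exfalso
        apply hcy
        calc c * y = (c * y * c⁻¹) * c := by group
          _ = y * c := by rw [h]
      · exact isConj_iff.2 ⟨c, h⟩
    by_cases hxy : IsConj x y
    · exact ⟨hxy, hxy.trans hyw⟩
    · exfalso
      have hodd : ZStar.OddIso x := by
        intro g
        by_contra hne
        rw [Nat.not_odd_iff_even] at hne
        have ho : orderOf (g * x * g⁻¹) = 2 := by rw [orderOf_conj, hx]
        have hxg : IsConj x (g * x * g⁻¹) := isConj_iff.2 ⟨g, rfl⟩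
        obtain ⟨u, hu, hux, -, hc⟩ := exists_even hx ho hne
        have hc' : IsConj x (x * u) := by
          rcases hc with hc | hc
          · exact hc
          · exact hxg.trans hc
        rcases hthree u hu hux with h | h | h
        · rw [h] at hc'; exact hnone _ hx hc'
        · rw [h] at hc'
          exact hxy (hc'.trans hyw.symm)
        · rw [h, hxw] at hc'
          exact hxy hc'
      exact hyne (unique_of_comm (comm_of_oddIso hx hodd) hy hx)

end Cfsg.Agent.Lib.H55ThreeInv
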