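import Cfsg.Agent.Lib.FourConn
import Cfsg.Agent.Lib.H55ThreeInv

set_option autoImplicit false

/-!
Without Klein four-subgroups all involutions are isolated.
-/

namespace Cfsg.Agent.Lib.NoKlein

open Subgroup

universe u

theorem oddIso_of_no_klein {G : Type u} [Group G] [Finite G] (h : ∀ E : Subgroup G, ¬ IsKleinFour E) {t : G}
    (ht : orderOf t = 2) : ZStar.OddIso t := by
  classical
  have key : ∀ a b : G, orderOf a = 2 → orderOf b = 2 → a * b = b * a → a = b := by
    intro a b ha hb hab
    by_contra hne
    have ha1 : a ≠ 1 := by rintro rfl; rw [orderOf_one] at ha; omega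
    have hb1 : b ≠ 1 := by rintro rfl; rw [orderOf_one] at hb; omega
    have haa : a * a = 1 := by rw [← pow_two, ← ha]; exact pow_orderOf_eq_one a
    have hbb : b * b = 1 := by rw [← pow_two, ← hb]; exact pow_orderOf_eq_one b
    exact h _ (FourConn.isKleinFour_four (ha := haa) (hb := hbb) (hab := hab) ha1 hb1 hne)
  intro g
  set s := g * t * g⁻¹ with hs
  have hso : orderOf s = 2 := by
    have := orderOf_injective (MulAut.conj g).toMonoidHom (MulAut.conj g).injective t
    rw [← ht, ← this]; rfl
  have htt : t * t = 1 := by rw [← pow_two, ← ht]; exact pow_orderOf_eq_one t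
  have hss : s * s = 1 := by rw [← pow_two, ← hso]; exact pow_orderOf_eq_one s
  by_contra hodd
  rw [Nat.not_odd_iff_even] at hodd
  obtain ⟨m, hm⟩ := hodd
  have hpos := orderOf_pos (t * s)
  set z := (t * s) ^ m with hz
  have hzo : orderOf z = 2 := by
    rw [hz, orderOf_pow, hm]
    have : Nat.gcd (m + m) m = m := by
      rw [Nat.gcd_comm]; exact Nat.gcd_eq_left ⟨2, by ring⟩
    rw [this, ← two_mul, Nat.mul_div_cancel _ (by omega)]
  -- t inverts t s
  have hinv : t * (t * s) * t⁻¹ = (t * s)⁻¹ := by
    have h1 : t⁻¹ = t := inv_eq_of_mul_eq_one_left htt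
    have h2 : s⁻¹ = s := inv_eq_of_mul_eq_one_left hss
    rw [mul_inv_rev, h1, h2, ← mul_assoc, htt, one_mul]
  have hzz : z * z = 1 := by rw [← pow_two, ← hzo]; exact pow_orderOf_eq_one z
  have htz : t * z = z * t := by
    have h1 : t * z * t⁻¹ = z := by
      rw [hz, ← conj_pow, hinv, inv_pow, ← hz]
      exact inv_eq_of_mul_eq_one_left hzz
    exact mul_inv_eq_iff_eq_mul.1 h1
  have h1 : t = z := key t z ht hzo htz
  have h2 : Commute t (t * s) := by
    nth_rewrite 1 [h1]
    exact (Commute.refl (t * s)).pow_left m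
  have h3 : t * s = s * t := by
    have h4 : t * (t * s) = t * s * t := h2.eq
    have h5 : s = t * s * t := by
      rw [← mul_assoc, htt, one_mul] at h4; exact h4
    calc t * s = t * (t * s * t) := by rw [← h5]
      _ = s * t := by rw [mul_assoc, ← mul_assoc, htt, one_mul]
  have h4 : t = s := key t s ht hso h3
  rw [← h4, htt, orderOf_one] at hm
  omega

/-- a simple group with no Klein four-subgroup and even order is abelian -/
theorem comm_of_no_klein {G : Type u} [Group G] [Finite G] [IsSimpleGroup G] (h : ∀ E : Subgroup G, ¬ IsKleinFour E)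
    (heven : Even (Nat.card G)) : ∀ a b : G, a * b = b * a := by
  obtain ⟨t, ht⟩ := exists_prime_orderOf_dvd_card' 2 heven.two_dvd
  exact H55ThreeInv.comm_of_oddIso ht (oddIso_of_no_klein h ht)

end Cfsg.Agent.Lib.NoKlein
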