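import Cfsg.Agent.Lib.SUS10
import Cfsg.Agent.Lib.StrongEmbPt
import Cfsg.Agent.Lib.NoKlein
import Cfsg.Agent.Lib.SubgroupTools
import Cfsg.Agent.S0324

set_option autoImplicit false
set_option linter.unusedSectionVars false
set_option linter.unusedVariables false

/-!
# Suzuki's theorem S1136: the corollaries for simple groups (helper24)
-/

namespace Cfsg.Agent.Lib.SUZcor

open MulAction Cfsg.Agent.Lib.SUS10

universe u

/-- the conclusion for simple groups -/
def Concl' (G : Type u) [Group G] : Prop :=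
  (∃ (F : Type) (_ : Field F) (_ : Fintype F), (∃ n : ℕ, 2 ≤ n ∧ Fintype.card F = 2 ^ n) ∧
      Nonempty (G ≃* Matrix.ProjectiveSpecialLinearGroup (Fin 2) F)) ∨
    Cfsg.IsSuzuki G ∨
    (∃ (F : Type) (_ : Field F) (_ : Fintype F) (n : ℕ), 2 ≤ n ∧ Fintype.card F = (2 ^ n) ^ 2 ∧
      Nonempty (G ≃* Cfsg.PSU 3 F (2 ^ n)))

theorem concl'_of_concl {G : Type u} [Group G] [Finite G] [hs : IsSimpleGroup G] (heven : Even (Nat.card G))
    (h : Concl G) : Concl' G := by
  obtain ⟨L, hn, ho, h⟩ := h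
  have hL : L = ⊤ := by
    rcases hn.eq_bot_or_eq_top with h1 | h1
    · rw [h1, Subgroup.index_bot] at ho
      exact absurd heven (Nat.not_even_iff_odd.2 ho)
    · exact h1
  subst hL
  let e : G ≃* (⊤ : Subgroup G) := Subgroup.topEquiv.symm
  rcases h with ⟨F, i1, i2, h1, ⟨f⟩⟩ | h | ⟨F, i1, i2, n, h1, h2, ⟨f⟩⟩
  · exact Or.inl ⟨F, i1, i2, h1, ⟨e.trans f⟩⟩
  · right; left
    obtain ⟨F, i1, i2, m, hm, hF, ⟨f⟩⟩ := SuzukiLie.isoSuzuki_iff.1 h
    refine ⟨hs, m, hm, ?_⟩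
    rw [← Cfsg.Agent.S0324.result hm hF]
    exact Nat.card_congr (e.trans f).toEquiv
  · exact Or.inr (Or.inr ⟨F, i1, i2, n, h1, h2, ⟨e.trans f⟩⟩)

section

variable {G : Type u} [Group G] [Finite G] {H Q : Subgroup G} {t : G}

theorem card_sup_dvd {A B : Subgroup G} (h : ∀ d ∈ B, ∀ x ∈ A, d * x * d⁻¹ ∈ A) :
    Nat.card ↥(A ⊔ B) ∣ Nat.card A * Nat.card B := by
  have hBN : B ≤ Subgroup.normalizer (A : Set G) := by
    intro d hd
    rw [Subgroup.mem_normalizer_iff]
    intro x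
    refine ⟨fun hx => h d hd x hx, fun hx => ?_⟩
    have := h d⁻¹ (B.inv_mem hd) _ hx
    have h2 : d⁻¹ * (d * x * d⁻¹) * d⁻¹⁻¹ = x := by group
    rwa [h2] at this
  exact ⟨_, (SubgroupTools.card_sup_mul_card_inf hBN).symm⟩

/-- the rank one set-up from a subgroup `H` -/
theorem setup (htt : t * t = 1) (htH : t ∉ H) (hQH : Q ≤ H) (hQn : ∀ h ∈ H, ∀ x ∈ Q, h * x * h⁻¹ ∈ Q)
    (htrans : ∀ g : G, g ∉ H → ∃ u ∈ Q, (u * t)⁻¹ * g ∈ H) (hreg : ∀ x ∈ Q, t⁻¹ * x * t ∈ H → x = 1)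
    (hD : Odd (Nat.card ↥(H ⊓ H.map (MulAut.conj t).toMonoidHom))) (heven : Even (Nat.card H)) :
    Cfsg.IsRankOneSetup G (G ⧸ H) (QuotientGroup.mk 1 : G ⧸ H) t Q := by
  have ha : stabilizer G (QuotientGroup.mk 1 : G ⧸ H) = H := StrongEmbPt.stabilizer_one
  have hta : t • (QuotientGroup.mk 1 : G ⧸ H) = QuotientGroup.mk t := by
    rw [MulAction.Quotient.smul_mk, smul_eq_mul, mul_one]
  have hb : stabilizer G (QuotientGroup.mk t : G ⧸ H) = H.map (MulAut.conj t).toMonoidHom := StrongEmbPt.stabilizer_mk t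
  have htr : ∀ x : G ⧸ H, x ≠ QuotientGroup.mk 1 → ∃ u ∈ Q, u • (QuotientGroup.mk t : G ⧸ H) = x := by
    intro x hx
    induction x using QuotientGroup.induction_on with
    | H g =>
      have hg : g ∉ H := by
        intro h
        apply hx
        rw [QuotientGroup.eq]
        simpa using H.inv_mem h
      obtain ⟨u, hu, h⟩ := htrans g hg
      refine ⟨u, hu, ?_⟩
      rw [MulAction.Quotient.smul_mk, smul_eq_mul, QuotientGroup.eq]
      exact h
  have hQa : ∀ u ∈ Q, u • (QuotientGroup.mk 1 : G ⧸ H) = QuotientGroup.mk 1 := by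
    intro u hu
    rw [StrongEmbPt.smul_one_eq_iff]; exact hQH hu
  have key : ∀ x y : G ⧸ H, x ≠ y → ∃ l : G, l • (QuotientGroup.mk 1 : G ⧸ H) = x ∧ l • (QuotientGroup.mk t : G ⧸ H) = y := by
    intro x y hxy
    induction x using QuotientGroup.induction_on with
    | H g =>
      have hgx : g • (QuotientGroup.mk 1 : G ⧸ H) = QuotientGroup.mk g := by
        rw [MulAction.Quotient.smul_mk, smul_eq_mul, mul_one]
      have hy : g⁻¹ • y ≠ QuotientGroup.mk 1 := by
        intro h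
        apply hxy
        rw [← hgx, ← h, smul_inv_smul]
      obtain ⟨u, hu, h⟩ := htr _ hy
      refine ⟨g * u, ?_, ?_⟩
      · rw [mul_smul, hQa u hu, hgx]
      · rw [mul_smul, h, smul_inv_smul]
  have hD' : Odd (Nat.card ↥(stabilizer G (QuotientGroup.mk 1 : G ⧸ H) ⊓
      stabilizer G (t • (QuotientGroup.mk 1 : G ⧸ H)))) := by
    rw [hta, ha, hb]; exact hD
  have hsup : Q ⊔ (stabilizer G (QuotientGroup.mk 1 : G ⧸ H) ⊓ stabilizer G (t • (QuotientGroup.mk 1 : G ⧸ H))) =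
      stabilizer G (QuotientGroup.mk 1 : G ⧸ H) := by
    apply le_antisymm
    · exact sup_le (by rw [ha]; exact hQH) inf_le_left
    · intro h hh
      have h1 : h • (QuotientGroup.mk t : G ⧸ H) ≠ QuotientGroup.mk 1 := by
        intro h2
        apply htH
        have h3 : (QuotientGroup.mk t : G ⧸ H) = QuotientGroup.mk 1 := by
          rw [← mem_stabilizer_iff.1 ((stabilizer G (QuotientGroup.mk 1 : G ⧸ H)).inv_mem hh), ← h2, inv_smul_smul]
        rw [← mul_one t, ← smul_eq_mul, ← MulAction.Quotient.smul_mk, StrongEmbPt.smul_one_eq_iff] at h3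
        exact h3
      obtain ⟨u, hu, h2⟩ := htr _ h1
      have h3 : h = u * (u⁻¹ * h) := by group
      rw [h3]
      refine Subgroup.mul_mem_sup hu ⟨?_, ?_⟩
      · exact (stabilizer G (QuotientGroup.mk 1 : G ⧸ H)).mul_mem
          ((stabilizer G (QuotientGroup.mk 1 : G ⧸ H)).inv_mem (hQa u hu)) hh
      · show (u⁻¹ * h) • t • (QuotientGroup.mk 1 : G ⧸ H) = t • (QuotientGroup.mk 1 : G ⧸ H)
        rw [hta, mul_smul, ← h2, inv_smul_smul]
  have hinf : Q ⊓ stabilizer G (t • (QuotientGroup.mk 1 : G ⧸ H)) = ⊥ := by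
    rw [eq_bot_iff]
    rintro x ⟨hx, hx'⟩
    rw [hta] at hx'
    exact Subgroup.mem_bot.2 (hreg x hx ((StrongEmbPt.mem_stabilizer_mk x t).1 hx'))
  refine ⟨?_, htt, ?_, ?_, ?_, ?_, hinf, hsup, ?_, hD'⟩
  · rw [is_two_pretransitive_iff]
    intro x y x' y' hxy hxy'
    obtain ⟨l, h1, h2⟩ := key x y hxy
    obtain ⟨l', h1', h2'⟩ := key x' y' hxy'
    refine ⟨l' * l⁻¹, ?_, ?_⟩
    · rw [mul_smul, ← h1, inv_smul_smul, h1']
    · rw [mul_smul, ← h2, inv_smul_smul, h2']
  · rintro rfl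
    exact htH H.one_mem
  · rw [ha]; exact htH
  · rw [ha]; exact hQH
  · rw [ha]; exact hQn
  · -- `|Q|` is even
    by_contra hodd
    rw [Nat.not_even_iff_odd] at hodd
    have h1 : Nat.card ↥(Q ⊔ (stabilizer G (QuotientGroup.mk 1 : G ⧸ H) ⊓
        stabilizer G (t • (QuotientGroup.mk 1 : G ⧸ H)))) ∣
        Nat.card Q * Nat.card ↥(stabilizer G (QuotientGroup.mk 1 : G ⧸ H) ⊓
        stabilizer G (t • (QuotientGroup.mk 1 : G ⧸ H))) := by
      apply card_sup_dvd
      intro d hd x hx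
      apply hQn d _ x hx
      rw [← ha]; exact hd.1
    rw [hsup, ha] at h1
    rw [ha] at hD'
    have h2 : Even (Nat.card Q * Nat.card ↥(H ⊓ stabilizer G (t • (QuotientGroup.mk 1 : G ⧸ H)))) :=
      (even_iff_two_dvd.1 heven |>.trans h1) |> even_iff_two_dvd.2
    exact absurd h2 (Nat.not_even_iff_odd.2 (hodd.mul hD'))

/-- two commuting involutions in a simple group -/
theorem two_comm [hs : IsSimpleGroup G] (hH : H ≠ ⊤) (heven : Even (Nat.card H)) :
    ∃ x y : G, x ≠ 1 ∧ y ≠ 1 ∧ x ≠ y ∧ x * x = 1 ∧ y * y = 1 ∧ x * y = y * x := by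
  have hG : Even (Nat.card G) := even_iff_two_dvd.2 (heven.two_dvd.trans (Subgroup.card_subgroup_dvd_card H))
  by_cases h : ∀ E : Subgroup G, ¬ IsKleinFour E
  · exfalso
    have h1 := NoKlein.comm_of_no_klein h hG
    let _ : CommGroup G := { mul_comm := h1 }
    have h2 := IsSimpleGroup.prime_card (α := G)
    have h3 : Nat.card G = 2 := ((Nat.prime_dvd_prime_iff_eq Nat.prime_two h2).1 hG.two_dvd).symm
    apply hH
    apply Subgroup.eq_top_of_card_eq
    have h4 := heven.two_dvd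
    have h5 := Subgroup.card_subgroup_dvd_card H
    rw [h3] at h5 ⊢
    exact Nat.dvd_antisymm h5 h4
  · push Not at h
    obtain ⟨E, hE⟩ := h
    have h4 := hE.card_four
    have h5 : 2 < Nat.card E := by rw [h4]; norm_num
    obtain ⟨x, y, hx, hy, hxy⟩ : ∃ x y : E, x ≠ 1 ∧ y ≠ 1 ∧ x ≠ y := by
      classical
      have : Fintype E := Fintype.ofFinite E
      rw [Nat.card_eq_fintype_card] at h5
      obtain ⟨a, b, c, h1, h2, h3⟩ := Fintype.two_lt_card_iff.1 h5
      by_cases ha : a = 1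
      · exact ⟨b, c, fun h => h1 (ha.trans h.symm), fun h => h2 (ha.trans h.symm), h3⟩
      · by_cases hb : b = 1
        · exact ⟨a, c, ha, fun h => h3 (hb.trans h.symm), h2⟩
        · exact ⟨a, b, ha, hb, h1⟩
    refine ⟨x, y, fun h => hx (Subtype.ext h), fun h => hy (Subtype.ext h), fun h => hxy (Subtype.ext h), ?_, ?_, ?_⟩
    · exact FourConn.four_mul_self hE x.2
    · exact FourConn.four_mul_self hE y.2
    · exact FourConn.four_comm hE x.2 y.2

/-- an involution outside `H` -/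
theorem exists_invol [hs : IsSimpleGroup G] (hH : H ≠ ⊤) (heven : Even (Nat.card H)) :
    ∃ t : G, t * t = 1 ∧ t ∉ H := by
  by_contra hcon
  push Not at hcon
  obtain ⟨z, hz⟩ := exists_prime_orderOf_dvd_card' (G := H) 2 heven.two_dvd
  have hz2 : z * z = 1 := by rw [← pow_two, ← hz]; exact pow_orderOf_eq_one z
  have hzz : (z : G) * z = 1 := congrArg Subtype.val hz2
  have hz1 : (z : G) ≠ 1 := by
    intro h
    have : z = 1 := Subtype.ext h
    rw [this, orderOf_one] at hz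
    omega
  have hzc : (z : G) ∈ H.normalCore := by
    intro b
    apply hcon
    calc b * z * b⁻¹ * (b * z * b⁻¹) = b * (z * z) * b⁻¹ := by group
      _ = 1 := by rw [hzz]; group
  rcases (inferInstance : H.normalCore.Normal).eq_bot_or_eq_top with h | h
  · rw [h] at hzc
    exact hz1 (Subgroup.mem_bot.1 hzc)
  · exact hH (top_le_iff.1 (h ▸ H.normalCore_le))

end

/-- the two corollaries, from the classification -/
theorem main {G : Type u} [Group G] [Finite G] [hs : IsSimpleGroup G] {H Q : Subgroup G} (hH : H ≠ ⊤)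
    (heven : Even (Nat.card H))
    (hodd : ∀ t : G, t * t = 1 → t ∉ H → Odd (Nat.card ↥(H ⊓ H.map (MulAut.conj t).toMonoidHom)))
    (hQH : Q ≤ H) (hQn : ∀ h ∈ H, ∀ x ∈ Q, h * x * h⁻¹ ∈ Q)
    (htrans : ∀ t g : G, t ∉ H → g ∉ H → ∃ u ∈ Q, (u * t)⁻¹ * g ∈ H)
    (hreg : ∀ t : G, t ∉ H → ∀ x ∈ Q, t⁻¹ * x * t ∈ H → x = 1)
    (hmain : ∀ (a : G ⧸ H) (t : G), FaithfulSMul G (G ⧸ H) → Cfsg.IsRankOneSetup G (G ⧸ H) a t Q →
      (∃ x y : G, x ≠ 1 ∧ y ≠ 1 ∧ x ≠ y ∧ x * x = 1 ∧ y * y = 1 ∧ x * y = y * x) → Concl G) : Concl' G := by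
  obtain ⟨t, htt, htH⟩ := exists_invol hH heven
  have hS := setup htt htH hQH hQn (fun g hg => htrans t g htH hg) (fun x hx => hreg t htH x hx)
    (hodd t htt htH) heven
  have hf : FaithfulSMul G (G ⧸ H) := by
    have h1 : H.normalCore = ⊥ := by
      rcases (inferInstance : H.normalCore.Normal).eq_bot_or_eq_top with h | h
      · exact h
      · exact absurd (top_le_iff.1 (h ▸ H.normalCore_le)) hH
    constructor
    intro g g' h
    have h2 : g⁻¹ * g' ∈ H.normalCore := by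
      rw [Subgroup.normalCore_eq_ker, MonoidHom.mem_ker]
      ext x
      show (g⁻¹ * g') • x = x
      rw [mul_smul, ← h x, inv_smul_smul]
    rw [h1, Subgroup.mem_bot] at h2
    exact (inv_mul_eq_one.1 h2)
  exact concl'_of_concl (even_iff_two_dvd.2 (heven.two_dvd.trans (Subgroup.card_subgroup_dvd_card H)))
    (hmain _ t hf hS (two_comm hH heven))

end Cfsg.Agent.Lib.SUZcor
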