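import Mathlib
import Cfsg.Agent.S1222
import Cfsg.Agent.Lib.CITRad3
import Cfsg.Agent.Lib.SylU3

/-! Piece D2contra of S3718 (helper60 for helper15): order comparison after S1222. -/

set_option autoImplicit false
set_option linter.all false

namespace Cfsg.Agent.Lib.H60TContra

open Subgroup Cfsg

variable {G : Type*} [Group G] [Finite G]

theorem pow2_eq {a q m o : ℕ} (ha : ∃ k, a = 2 ^ k) (hq : ∃ k, q = 2 ^ k) (hm : Odd m) (ho : Odd o)
    (h : a * m = q * o) : a = q := by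
  obtain ⟨k, rfl⟩ := ha
  obtain ⟨l, rfl⟩ := hq
  apply Nat.dvd_antisymm
  · have h1 : (2 ^ k : ℕ) ∣ 2 ^ l * o := ⟨m, h.symm⟩
    exact (Nat.Coprime.pow_left k (Nat.coprime_two_left.2 ho)).dvd_of_dvd_mul_right h1
  · have h1 : (2 ^ l : ℕ) ∣ 2 ^ k * m := ⟨o, h⟩
    exact (Nat.Coprime.pow_left l (Nat.coprime_two_left.2 hm)).dvd_of_dvd_mul_right h1

theorem d2_contra [IsSimpleGroup G] (S : Sylow 2 G)
    (hN : IsStronglyEmbedded (normalizer ((S : Subgroup G) : Set G))) (Q : Subgroup G)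
    (hQN : Q ≤ normalizer ((S : Subgroup G) : Set G)) (hQn : (Q.subgroupOf (normalizer ((S : Subgroup G) : Set G))).Normal)
    (htrans : ∀ g₁ g₂ : G, g₁ ∉ normalizer ((S : Subgroup G) : Set G) → g₂ ∉ normalizer ((S : Subgroup G) : Set G) →
      ∃ n ∈ Q, g₂⁻¹ * (n * g₁) ∈ normalizer ((S : Subgroup G) : Set G))
    (hreg : ∀ g : G, g ∉ normalizer ((S : Subgroup G) : Set G) → ∀ u ∈ Q,
      g⁻¹ * (u * g) ∈ normalizer ((S : Subgroup G) : Set G) → u = 1)
    (hcard : Nat.card S * (Nat.card S + 1) * (Nat.card S - 1) < Nat.card G) : False := by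
  classical
  have h2 : Fact (Nat.Prime 2) := ⟨Nat.prime_two⟩
  have hS : ∃ k, Nat.card S = 2 ^ k := IsPGroup.iff_card.1 S.2
  have hodd : Odd (S : Subgroup G).index := by
    rw [← Nat.not_even_iff_odd, even_iff_two_dvd]
    exact S.not_dvd_index
  have hmul : Nat.card S * (S : Subgroup G).index = Nat.card G := (S : Subgroup G).card_mul_index
  have hpos : 1 ≤ Nat.card S := Nat.card_pos
  set a := Nat.card S with ha
  rcases Cfsg.Agent.S1222.result (normalizer ((S : Subgroup G) : Set G)) hN Q hQN hQn htrans hreg with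
    ⟨F, _, _, hF2, hF4, ⟨e⟩⟩ | ⟨-, m, hm, hG⟩ | ⟨F, _, _, q, hFq, hqe, hq4, ⟨e⟩⟩
  · obtain ⟨n, -, hFn⟩ := FiniteField.card F 2
    set q := Fintype.card F with hq
    have h1 := Cfsg.Agent.Lib.CITRad.card_psl2 (F := F) (q := q) rfl
    have hqe : 2 ∣ q := by rw [hFn]; exact dvd_pow_self 2 n.ne_zero
    have hg : Nat.gcd 2 (q - 1) = 1 := by
      rw [← Nat.coprime_iff_gcd_eq_one, Nat.coprime_two_left]
      exact Nat.odd_iff.2 (by omega)
    rw [hg, one_mul, ← Nat.card_congr e.toEquiv, ← hmul] at h1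
    have hq1 : 4 ≤ q := hF4
    have ho : Odd (q ^ 2 - 1) := by
      obtain ⟨c, hc⟩ := hqe
      have : 4 ≤ q ^ 2 := by nlinarith
      have h3 : q ^ 2 = 2 * (c * q) := by rw [sq]; nth_rewrite 1 [hc]; ring
      exact Nat.odd_iff.2 (by omega)
    have haq : a = q := pow2_eq hS ⟨n, hFn⟩ hodd ho h1
    rw [← hmul, h1, haq] at hcard
    have h5 : q * (q + 1) * (q - 1) = q * (q ^ 2 - 1) := by
      obtain ⟨d, hd⟩ : ∃ d, q = d + 1 := ⟨q - 1, by omega⟩
      rw [hd]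
      have : (d + 1) ^ 2 - 1 = (d + 2) * d := by
        have : (d + 1) ^ 2 = (d + 2) * d + 1 := by ring
        omega
      rw [this]
      simp only [Nat.add_sub_cancel]
      ring
    omega
  · set q := 2 ^ (2 * m + 1) with hq
    have hqe : 2 ∣ q := by rw [hq]; exact dvd_pow_self 2 (by omega)
    have hq2 : 2 ≤ q := Nat.le_of_dvd (by positivity) hqe
    have ho : Odd ((q ^ 2 + 1) * (q - 1)) := by
      obtain ⟨c, hc⟩ := hqe
      refine Odd.mul ?_ (Nat.odd_iff.2 (by omega))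
      have h3 : q ^ 2 = 2 * (c * q) := by rw [sq]; nth_rewrite 1 [hc]; ring
      exact Nat.odd_iff.2 (by omega)
    have hG' : a * (S : Subgroup G).index = q ^ 2 * ((q ^ 2 + 1) * (q - 1)) := by rw [hmul, hG]; ring
    have haq : a = q ^ 2 := pow2_eq hS ⟨(2 * m + 1) * 2, by rw [hq, ← pow_mul]⟩ hodd ho hG'
    rw [hG, haq] at hcard
    have h5 : q ^ 2 * (q ^ 2 + 1) * (q - 1) ≤ q ^ 2 * (q ^ 2 + 1) * (q ^ 2 - 1) := by
      apply Nat.mul_le_mul_left
      have : q ≤ q ^ 2 := by nlinarith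
      omega
    omega
  · have h1 := Cfsg.Agent.Lib.SylU3.card_PSU_three (F := F) (q := q) hFq
    rw [← Nat.card_congr e.toEquiv, ← hmul] at h1
    have hqe' : 2 ∣ q := hqe.two_dvd
    have hqpow : ∃ k, q = 2 ^ k := by
      have hchar : ringChar F = 2 := by
        obtain ⟨n, hp, hn⟩ := FiniteField.card F (ringChar F)
        have h3 : 2 ∣ ringChar F ^ (n : ℕ) := by
          rw [← hn, hFq]; exact dvd_pow hqe' (by norm_num)
        exact ((Nat.prime_dvd_prime_iff_eq Nat.prime_two hp).1 (Nat.prime_two.dvd_of_dvd_pow h3)).symm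
      obtain ⟨n, hp, hn⟩ := FiniteField.card F (ringChar F)
      rw [hchar, hFq] at hn
      obtain ⟨k, -, hk⟩ := (Nat.dvd_prime_pow Nat.prime_two).1 (show q ∣ 2 ^ (n : ℕ) by rw [← hn]; exact dvd_pow_self q (by norm_num))
      exact ⟨k, hk⟩
    have ho : Odd ((q ^ 2 - 1) * (q ^ 3 + 1)) := by
      obtain ⟨c, hc⟩ := hqe'
      have h3 : q ^ 2 = 2 * (c * q) := by rw [sq]; nth_rewrite 1 [hc]; ring
      have h4 : q ^ 3 = 2 * (c * q * q) := by rw [pow_succ, h3]; ring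
      have h5 : 4 ≤ q ^ 2 := by nlinarith
      exact Odd.mul (Nat.odd_iff.2 (by omega)) (Nat.odd_iff.2 (by omega))
    have hgo : Odd (Nat.gcd 3 (q + 1)) := Odd.of_dvd_nat (by decide) (Nat.gcd_dvd_left 3 (q + 1))
    have h2 : a * (Nat.gcd 3 (q + 1) * (S : Subgroup G).index) = q ^ 3 * ((q ^ 2 - 1) * (q ^ 3 + 1)) := by
      rw [← h1]; ring
    obtain ⟨k, hk⟩ := hqpow
    have haq : a = q ^ 3 := pow2_eq hS ⟨k * 3, by rw [hk, ← pow_mul]⟩ (hgo.mul hodd) ho h2
    have h3 : Nat.card G ≤ q ^ 3 * ((q ^ 2 - 1) * (q ^ 3 + 1)) := by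
      rw [← h1, ← hmul]
      exact Nat.le_mul_of_pos_left _ (Nat.gcd_pos_of_pos_left _ (by norm_num))
    have h4 : q ^ 3 * ((q ^ 2 - 1) * (q ^ 3 + 1)) ≤ q ^ 3 * (q ^ 3 + 1) * (q ^ 3 - 1) := by
      rw [mul_comm (q ^ 2 - 1), ← mul_assoc]
      apply Nat.mul_le_mul_left
      have : q ^ 2 ≤ q ^ 3 := Nat.pow_le_pow_right (by omega) (by norm_num)
      omega
    rw [haq] at hcard
    omega

end Cfsg.Agent.Lib.H60TContra

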