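import Cfsg.Agent.Lib.H15Tb
import Cfsg.Agent.Lib.H22Sft0
import Cfsg.Agent.Lib.FocalTools

/-! Piece D1 of S3718 (helper60 for helper15). -/

set_option autoImplicit false
set_option linter.all false

namespace Cfsg.Agent.Lib.H60TD1

open Subgroup Cfsg Cfsg.Agent.Lib Cfsg.Agent.Lib.H15T
open scoped commutatorElement

universe u

variable {G : Type u} [Group G] [Finite G] {r : ℕ}

/-- decomposition of an element into its 2-part and its odd part -/
theorem decomp (n : G) : ∃ i j : ℤ, n = n ^ i * n ^ j ∧ (∃ k : ℕ, orderOf (n ^ i) ∣ 2 ^ k) ∧ Odd (orderOf (n ^ j)) := by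
  obtain ⟨k, m, hm, hk⟩ := Nat.exists_eq_pow_mul_and_not_dvd (n := orderOf n) (orderOf_pos n).ne' 2 (by norm_num)
  have hco : Nat.gcd (2 ^ k) m = 1 := by
    rw [← Nat.coprime_iff_gcd_eq_one]
    exact Nat.Coprime.pow_left k ((Nat.Prime.coprime_iff_not_dvd Nat.prime_two).2 hm)
  have hb := Nat.gcd_eq_gcd_ab (2 ^ k) m
  rw [hco] at hb
  have hb' : (1 : ℤ) = (m : ℤ) * Nat.gcdB (2 ^ k) m + ((2 ^ k : ℕ) : ℤ) * Nat.gcdA (2 ^ k) m := by
    rw [add_comm]; exact_mod_cast hb
  have hn1 : n ^ (2 ^ k * m) = 1 := by rw [← hk]; exact pow_orderOf_eq_one n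
  refine ⟨(m : ℤ) * Nat.gcdB (2 ^ k) m, ((2 ^ k : ℕ) : ℤ) * Nat.gcdA (2 ^ k) m, ?_, ⟨k, ?_⟩, ?_⟩
  · rw [← zpow_add, ← hb', zpow_one]
  · apply orderOf_dvd_of_pow_eq_one
    rw [← zpow_natCast, ← zpow_mul, mul_assoc, mul_comm (Nat.gcdB (2 ^ k) m), ← mul_assoc, zpow_mul]
    have : n ^ ((m : ℤ) * ((2 ^ k : ℕ) : ℤ)) = 1 := by
      rw [mul_comm, ← Nat.cast_mul, zpow_natCast]; exact hn1
    rw [this, one_zpow]
  · have h1 : orderOf (n ^ (((2 ^ k : ℕ) : ℤ) * Nat.gcdA (2 ^ k) m)) ∣ m := by
      apply orderOf_dvd_of_pow_eq_one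
      rw [← zpow_natCast, ← zpow_mul, mul_assoc, mul_comm (Nat.gcdA (2 ^ k) m), ← mul_assoc, zpow_mul]
      have : n ^ (((2 ^ k : ℕ) : ℤ) * (m : ℤ)) = 1 := by
        rw [← Nat.cast_mul, zpow_natCast]; exact hn1
      rw [this, one_zpow]
    exact Odd.of_dvd_nat (Nat.odd_iff.2 (by omega)) h1

theorem mem_sylow_of_two [h2 : Fact (Nat.Prime 2)] (S : Sylow 2 G) {u : G} (hu : ∃ k : ℕ, orderOf u ∣ 2 ^ k)
    (hn : u ∈ normalizer ((S : Subgroup G) : Set G)) : u ∈ (S : Subgroup G) := by
  obtain ⟨k, hk⟩ := hu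
  obtain ⟨l, -, hl⟩ := (Nat.dvd_prime_pow Nat.prime_two).1 hk
  have hz : IsPGroup 2 (zpowers u) := IsPGroup.of_card (n := l) (by rw [Nat.card_zpowers, hl])
  have h1 : IsPGroup 2 (zpowers u ⊔ (S : Subgroup G) : Subgroup G) :=
    IsPGroup.to_sup_of_normal_right' hz S.2 (by rw [zpowers_le]; exact hn)
  have h2 := S.is_maximal' h1 le_sup_right
  rw [← h2]
  exact mem_sup_left (mem_zpowers u)

theorem exists_W (h : HypR G r)
    (hB : ∀ {A R : Subgroup G}, IsPGroup 2 A → IsPGroup r R → A ≤ normalizer (R : Set G) →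
      ∀ {n : G}, n ∈ normalizer (A : Set G) → n ∈ normalizer (R : Set G) → Odd (orderOf n) →
      ∀ {a : G}, a ∈ A → a * n * a⁻¹ * n⁻¹ ∈ centralizer (R : Set G))
    [IsSimpleGroup G] (S : Sylow 2 G) (h8 : 8 ≤ Nat.card S) :
    ∃ W : Subgroup G, IsPGroup r W ∧ W ≤ centralizer ((S : Subgroup G) : Set G) ∧
      normalizer ((S : Subgroup G) : Set G) ≤ normalizer (W : Set G) ∧
      (∀ t ∈ (S : Subgroup G), t ≠ 1 → centralizer ({t} : Set G) ≤ normalizer ((S : Subgroup G) : Set G)) ∧
      centralizer ((S : Subgroup G) : Set G) = (S : Subgroup G) ⊔ W := by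
  classical
  have h2 : Fact (Nat.Prime 2) := ⟨Nat.prime_two⟩
  have hrf : Fact r.Prime := ⟨h.rp⟩
  have hel : IsElementaryAbelian 2 (S : Subgroup G) := h.elem S.2
  have h8' : 2 ^ 3 ≤ Nat.card (S : Subgroup G) := h8
  set W := SSF2.Wof (S : Subgroup G) with hW
  have hodd : Odd (Nat.card W) := SSF2.odd_Wof h.bal hel h8'
  have hWi : ∀ t ∈ (S : Subgroup G), t ≠ 1 → W ⊓ centralizer ({t} : Set G) = centralizerPPrimeCore 2 t :=
    fun t ht ht1 => SSF2.Wof_inf h.bal hel h8' ht ht1
  have hNW : normalizer ((S : Subgroup G) : Set G) ≤ normalizer (W : Set G) :=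
    SSF2.normalizer_le_normalizer_Wof _
  have hSW : (S : Subgroup G) ≤ normalizer (W : Set G) := le_normalizer.trans hNW
  have hord : ∀ t ∈ (S : Subgroup G), t ≠ 1 → orderOf t = 2 := fun t ht ht1 => SSF2.elem_orderOf hel ht ht1
  have hScomm : ∀ a ∈ (S : Subgroup G), ∀ b ∈ (S : Subgroup G), a * b = b * a :=
    fun a ha b hb => h.comm S.2 ha hb
  have hSsol : Group.IsSolvable (S : Subgroup G) := by
    haveI := S.isPGroup'.isNilpotent
    infer_instance
  have h2W : ¬ 2 ∣ Nat.card W := fun hd => (Nat.not_even_iff_odd.2 hodd) (even_iff_two_dvd.2 hd)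
  -- (1) W is an r-group
  have hWr : IsPGroup r W := by
    have key : ∀ {p : ℕ}, p.Prime → p ∣ Nat.card W → p = r := by
      intro p hp hd
      have hpf : Fact p.Prime := ⟨hp⟩
      obtain ⟨k, hk⟩ := IsPGroup.iff_card.1 S.2
      have hcop : (Nat.card (S : Subgroup G)).Coprime (Nat.card W) := by
        rw [hk]
        exact Nat.Coprime.pow_left k ((Nat.Prime.coprime_iff_not_dvd Nat.prime_two).2 h2W)
      obtain ⟨P, hPW, hPp, hPi, hSP⟩ := CoprimeAction.exists_invariant_sylow (A := (S : Subgroup G)) (K := W) hSW hcop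
        (Or.inl hSsol) p
      have hP1 : P ≠ ⊥ := by
        rintro rfl
        apply hPi
        rw [Subgroup.relIndex_bot_left]
        exact hd
      have hP2 : ¬ 2 ∣ Nat.card P := fun hd2 => h2W (hd2.trans (Subgroup.card_dvd_of_le hPW))
      by_contra hpr
      apply hP1
      rw [eq_bot_iff]
      refine Sft0.gen (p := 2) hel (by omega) hP2 hSP ?_
      intro b hb hb1 x hx
      obtain ⟨hxP, hxb⟩ := hx
      have hxc : x ∈ centralizerPPrimeCore 2 b := by
        rw [← hWi b hb hb1]; exact ⟨hPW hxP, hxb⟩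
      obtain ⟨i, hi⟩ := (IsPGroup.iff_orderOf.1 hPp) ⟨x, hxP⟩
      obtain ⟨j, hj⟩ := (IsPGroup.iff_orderOf.1 (h.core_pgroup (hord b hb hb1))) ⟨x, hxc⟩
      rw [Subgroup.orderOf_mk] at hi hj
      have hcop2 : Nat.Coprime (p ^ i) (r ^ j) := Nat.Coprime.pow _ _ ((Nat.coprime_primes hp h.rp).2 hpr)
      rw [← hi, ← hj, Nat.coprime_self, orderOf_eq_one_iff] at hcop2
      exact hcop2
    exact IsPGroup.of_card (Nat.eq_prime_pow_of_unique_prime_dvd Nat.card_pos.ne' key)
  -- (2) S centralizes W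
  have hSc : (S : Subgroup G) ≤ centralizer (W : Set G) := by
    have hfoc : (S : Subgroup G).focalSubgroup ≤ (S : Subgroup G) ⊓ centralizer (W : Set G) := by
      apply FocalTools.focal_le
      intro s hs t ht hst
      obtain ⟨g, hg⟩ := isConj_iff.1 hst
      have hcomm : IsMulCommutative (S : Subgroup G) := ⟨⟨fun a b => Subtype.ext (hScomm a a.2 b b.2)⟩⟩
      have hgt : (g⁻¹)⁻¹ * s * g⁻¹ ∈ S := by rw [inv_inv, hg]; exact ht
      obtain ⟨n, hn, hn2⟩ := Sylow.conj_eq_normalizer_conj_of_mem S s g⁻¹ hs hgt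
      rw [inv_inv, hg] at hn2
      obtain ⟨i, j, hij, hi, hj⟩ := decomp n
      have hu : n ^ i ∈ (S : Subgroup G) := mem_sylow_of_two S hi (zpow_mem hn i)
      have hv : n ^ j ∈ normalizer ((S : Subgroup G) : Set G) := zpow_mem hn j
      have ht' : t = (n ^ j)⁻¹ * s * n ^ j := by
        rw [hn2]
        have e1 : n⁻¹ * s * n = (n ^ j)⁻¹ * ((n ^ i)⁻¹ * (s * n ^ i)) * n ^ j := by
          nth_rewrite 1 [hij]
          nth_rewrite 3 [hij]
          group
        rw [e1, hScomm s hs _ hu, inv_mul_cancel_left]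
      refine ⟨Subgroup.mul_mem _ (Subgroup.inv_mem _ hs) ht, ?_⟩
      have h3 := hB S.2 hWr hSW (n := (n ^ j)⁻¹) (inv_mem hv) (inv_mem (hNW hv)) (by rw [orderOf_inv]; exact hj)
        (a := s⁻¹) (inv_mem hs)
      have e2 : s⁻¹ * (n ^ j)⁻¹ * s⁻¹⁻¹ * (n ^ j)⁻¹⁻¹ = s⁻¹ * t := by
        rw [ht']; group
      rw [e2] at h3
      exact h3
    obtain ⟨K, hK, hK1, hK2, -, -⟩ := FocalTools.exists_normal_of_focal_le S _ inf_le_left hfoc
    have hperf : _root_.commutator G = ⊤ := by
      rcases (inferInstance : (_root_.commutator G).Normal).eq_bot_or_eq_top with h3 | h3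
      · exfalso
        have hab : ∀ a b : G, a * b = b * a := by
          intro a b
          have h4 : ⁅a, b⁆ ∈ _root_.commutator G := Subgroup.commutator_mem_commutator (mem_top _) (mem_top _)
          rw [h3, Subgroup.mem_bot, commutatorElement_eq_one_iff_mul_comm] at h4
          exact h4
        obtain ⟨a, ha, ha1⟩ : ∃ a ∈ (S : Subgroup G), a ≠ 1 := by
          by_contra hno
          push Not at hno
          have : (S : Subgroup G) = ⊥ := by rw [eq_bot_iff]; exact fun x hx => hno x hx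
          have h5 : Nat.card (S : Subgroup G) = 1 := by rw [this]; exact Subgroup.card_bot
          omega
        have hzn : (zpowers a).Normal := ⟨fun x hx g => by rw [hab g x, mul_inv_cancel_right]; exact hx⟩
        rcases hzn.eq_bot_or_eq_top with h6 | h6
        · exact ha1 (zpowers_eq_bot.1 h6)
        · have h7 : Nat.card (zpowers a) = Nat.card G := by rw [h6]; exact Subgroup.card_top
          rw [Nat.card_zpowers, hord a ha ha1] at h7
          have h8 : Nat.card (S : Subgroup G) ≤ Nat.card G := Subgroup.card_le_card_group _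
          omega
      · exact h3
    have hKt : K = ⊤ := top_le_iff.1 (hperf ▸ hK1)
    rw [hKt, top_inf_eq] at hK2
    rw [hK2]
    exact inf_le_right
  have hWS : W ≤ centralizer ((S : Subgroup G) : Set G) := by
    intro w hw
    rw [mem_centralizer_iff]
    intro s hs
    exact ((mem_centralizer_iff.1 (hSc hs)) w hw).symm
  have hcore : ∀ t ∈ (S : Subgroup G), t ≠ 1 → centralizerPPrimeCore 2 t = W := by
    intro t ht ht1
    rw [← hWi t ht ht1, inf_eq_left]
    intro w hw
    rw [mem_centralizer_singleton_iff]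
    exact ((mem_centralizer_iff.1 (hWS hw)) t ht).symm
  have hmulmem : ∀ x ∈ (S : Subgroup G) ⊔ W, ∃ s ∈ (S : Subgroup G), ∃ w ∈ W, x = s * w := by
    have hc : ∀ s ∈ (S : Subgroup G), ∀ w ∈ W, s * w = w * s := fun s hs w hw =>
      (mem_centralizer_iff.1 (hWS hw)) s hs
    let T : Subgroup G :=
      { carrier := {x | ∃ s ∈ (S : Subgroup G), ∃ w ∈ W, x = s * w}
        mul_mem' := by
          rintro x y ⟨s, hs, w, hw, rfl⟩ ⟨s', hs', w', hw', rfl⟩
          refine ⟨s * s', mul_mem hs hs', w * w', mul_mem hw hw', ?_⟩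
          have e := hc s' hs' w hw
          calc s * w * (s' * w') = s * (w * s') * w' := by group
            _ = s * (s' * w) * w' := by rw [e]
            _ = s * s' * (w * w') := by group
        one_mem' := ⟨1, one_mem _, 1, one_mem _, by simp⟩
        inv_mem' := by
          rintro x ⟨s, hs, w, hw, rfl⟩
          refine ⟨s⁻¹, inv_mem hs, w⁻¹, inv_mem hw, ?_⟩
          rw [mul_inv_rev]
          exact (hc _ (inv_mem hs) _ (inv_mem hw)).symm }
    have hle : (S : Subgroup G) ⊔ W ≤ T := by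
      apply sup_le
      · intro s hs
        exact ⟨s, hs, 1, one_mem _, (mul_one s).symm⟩
      · intro w hw
        exact ⟨1, one_mem _, w, hw, (one_mul w).symm⟩
    intro x hx
    exact hle hx
  refine ⟨W, hWr, hWS, hNW, ?_, ?_⟩
  · intro t ht ht1
    refine (h.sylow_core_normal (hord t ht ht1) S ht).trans ?_
    rw [hcore t ht ht1]
    have hle : ∀ g ∈ normalizer (((S : Subgroup G) ⊔ W : Subgroup G) : Set G), ∀ s ∈ (S : Subgroup G),
        g * s * g⁻¹ ∈ (S : Subgroup G) := by
      intro g hg s hs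
      have h3 : g * s * g⁻¹ ∈ (S : Subgroup G) ⊔ W := (mem_normalizer_iff.1 hg s).1 (mem_sup_left hs)
      obtain ⟨s', hs', w, hw, hsw⟩ := hmulmem _ h3
      have h4 : (g * s * g⁻¹) ^ 2 = 1 := by
        rw [conj_pow, pow_two, h.sq_eq_one S.2 hs]; group
      have hc : Commute s' w := (mem_centralizer_iff.1 (hWS hw)) s' hs'
      rw [hsw, hc.mul_pow, pow_two s', h.sq_eq_one S.2 hs', one_mul] at h4
      have h5 : w = 1 := by
        have h6 : orderOf w ∣ 2 := orderOf_dvd_of_pow_eq_one h4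
        have h7 : orderOf w ∣ Nat.card W := by
          have := orderOf_dvd_natCard (⟨w, hw⟩ : W)
          rwa [Subgroup.orderOf_mk] at this
        rcases (Nat.dvd_prime Nat.prime_two).1 h6 with h8 | h8
        · exact orderOf_eq_one_iff.1 h8
        · exact absurd (h8 ▸ h7) h2W
      rw [hsw, h5, mul_one]
      exact hs'
    intro g hg
    rw [mem_normalizer_iff]
    intro s
    refine ⟨fun hs => hle g hg s hs, fun hs => ?_⟩
    have h3 := hle g⁻¹ (inv_mem hg) _ hs
    have e : g⁻¹ * (g * s * g⁻¹) * g⁻¹⁻¹ = s := by group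
    rwa [e] at h3
  · apply le_antisymm
    · intro x hx
      obtain ⟨i, j, hij, hi, hj⟩ := decomp x
      have hn : centralizer ((S : Subgroup G) : Set G) ≤ normalizer ((S : Subgroup G) : Set G) := Subgroup.centralizer_le_normalizer _
      have hu : x ^ i ∈ (S : Subgroup G) := mem_sylow_of_two S hi (hn (zpow_mem hx i))
      obtain ⟨t, ht, ht1⟩ : ∃ a ∈ (S : Subgroup G), a ≠ 1 := by
        by_contra hno
        push Not at hno
        have : (S : Subgroup G) = ⊥ := by rw [eq_bot_iff]; exact fun x hx => hno x hx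
        have h5 : Nat.card (S : Subgroup G) = 1 := by rw [this]; exact Subgroup.card_bot
        omega
      have hvc : x ^ j ∈ centralizer ((S : Subgroup G) : Set G) := zpow_mem hx j
      have hv : x ^ j ∈ W := by
        rw [← hcore t ht ht1]
        refine h.le_core (K := zpowers (x ^ j)) (hord t ht ht1) S ht (by rw [Nat.card_zpowers]; exact hj) ?_ ?_
          (mem_zpowers _)
        · rw [zpowers_le, mem_centralizer_singleton_iff]
          exact ((mem_centralizer_iff.1 hvc) t ht).symm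
        · intro s hs
          have hcs : Commute s (x ^ j) := (mem_centralizer_iff.1 hvc) s hs
          rw [mem_normalizer_iff]
          intro y
          have : ∀ z ∈ zpowers (x ^ j), s * z * s⁻¹ = z := by
            intro z hz
            obtain ⟨k, rfl⟩ := mem_zpowers_iff.1 hz
            rw [(hcs.zpow_right k).eq, mul_inv_cancel_right]
          constructor
          · intro hy
            rw [this y hy]; exact hy
          · intro hy
            have h3 : s⁻¹ * (s * y * s⁻¹) * s = s * y * s⁻¹ := by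
              have h4 := this _ hy
              calc s⁻¹ * (s * y * s⁻¹) * s = s⁻¹ * (s * (s * y * s⁻¹) * s⁻¹) * s := by rw [h4]
                _ = s * y * s⁻¹ := by group
            have h4 : s⁻¹ * (s * y * s⁻¹) * s = y := by group
            rw [← h4, h3]; exact hy
      rw [hij]
      exact mul_mem (mem_sup_left hu) (mem_sup_right hv)
    · apply sup_le _ hWS
      intro s hs
      rw [mem_centralizer_iff]
      intro s' hs'
      exact hScomm s' hs' s hs

end Cfsg.Agent.Lib.H60TD1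

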