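import Cfsg.Agent.Lib.H15Bc
import Cfsg.Agent.Lib.H15TD3
import Cfsg.Agent.Lib.H15TD3x
import Cfsg.Agent.Lib.H15TD2s
import Cfsg.Agent.Lib.H60TContra
import Cfsg.Agent.Lib.H60TD1
import Cfsg.Agent.Lib.H15TCd

set_option autoImplicit false

/-!
Simple groups with (H): final statements of the pieces (helper15)
-/

namespace Cfsg.Agent.Lib.H15T

open Subgroup Cfsg

variable {G : Type*} [Group G] [Finite G] {r : ℕ}

theorem HypR.four_case (h : HypR G r) [IsSimpleGroup G] (S : Sylow 2 G) (hS : Nat.card S = 4) :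
    ∃ (F : Type) (_ : Field F) (_ : Fintype F),
      Nonempty (G ≃* Matrix.ProjectiveSpecialLinearGroup (Fin 2) F) :=
  H15TC.four_case_main ⟨h.rp, h.r2, h.even, h.rr⟩
    (fun hA hR hAR _ hnA hnR hn _ ha => h.comm_centralizes hA hR hAR hnA hnR hn ha) S hS

theorem HypR.big_case (h : HypR G r) [IsSimpleGroup G] (S : Sylow 2 G) (h8 : 8 ≤ Nat.card S) (x : G)
    (hx : orderOf x = 2 * r) : False := by
  have hS2 : IsElementaryAbelian 2 (S : Subgroup G) := h.elem S.isPGroup'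
  have h4 : 4 ≤ Nat.card S := by omega
  obtain ⟨W, -, -, -, hC, -⟩ := H60TD1.exists_W h
    (fun hA hR hAR _ hnA hnR hn _ ha => h.comm_centralizes hA hR hAR hnA hnR hn ha) S h8
  have hN := d2_strong S hS2 h4 hC
  refine H15TD3.big_case' h.rp h.r2 S h8 hS2 (fun t ht p hp hd => h.dvd_cent ht hp hd)
    (fun t ht p hp hd => h.dvd_cent_r ht hp hd) hN (d2_trans S hS2 h4 hC)
    (fun u hu huN hrq => d2_syl S hS2 h4 hC hu huN h.rp h.r2 hrq)
    (fun Q a b c d e => H60TContra.d2_contra S hN Q a b c d e) ?_ x hx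
  intro htr hq D hDN hDc hDo hDr hDS m hm hcard hrN hfus
  exact H15TD3x.iii_contra h.rp h.r2 S h8 htr hq D hDN hDc hDo hDr hDS hm hcard hrN hfus

end Cfsg.Agent.Lib.H15T
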