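import Mathlib
import Cfsg.Agent.Lib.H15S0
import Cfsg.Agent.Lib.C3XMain
import Cfsg.Agent.Lib.C3XTypes4
import Cfsg.Agent.Lib.ClSeven

/-! S2220, piece A (helper57): the groups containing `k` of order prime to 9. -/

set_option autoImplicit false
set_option linter.all false

namespace Cfsg.Agent.Lib.H15SA

open Subgroup Cfsg.Agent.Lib.H15S Cfsg.Agent.Lib.C3X

universe u

variable {G : Type u} [Group G] [Finite G]

theorem sc_of (h : HK G) {k : G} (hk : orderOf k = 3) {H : Subgroup G} (hkH : k ∈ H)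
    (h9 : ¬ 9 ∣ Nat.card H) : SC (⟨k, hkH⟩ : H) := by
  have hko : orderOf (⟨k, hkH⟩ : H) = 3 := by rw [Subgroup.orderOf_mk]; exact hk
  refine ⟨hko, ?_⟩
  set C := Subgroup.centralizer ({(⟨k, hkH⟩ : H)} : Set H) with hC
  have h1 : Nat.card C ∣ 9 := by
    rw [← h.cen9 k hk, ← Subgroup.card_map_of_injective H.subtype_injective]
    apply Subgroup.card_dvd_of_le
    rintro _ ⟨c, hc, rfl⟩
    rw [Subgroup.mem_centralizer_singleton_iff]
    exact congrArg Subtype.val (Subgroup.mem_centralizer_singleton_iff.1 hc)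
  have h2 : Nat.card C ∣ Nat.card H := Subgroup.card_subgroup_dvd_card _
  have h3 : Nat.card C ≠ 9 := fun h0 => h9 (h0 ▸ h2)
  have h4 : Subgroup.zpowers (⟨k, hkH⟩ : H) ≤ C := by
    rw [Subgroup.zpowers_le, hC, Subgroup.mem_centralizer_singleton_iff]
  have h5 : Nat.card C ≤ 3 := by
    have h6 : Nat.card C ∣ 3 ^ 2 := h1
    obtain ⟨m, hm, hm2⟩ := (Nat.dvd_prime_pow Nat.prime_three).1 h6
    interval_cases m
    · omega
    · omega
    · exact absurd hm2 (by simpa using h3)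
  have h6 : Subgroup.zpowers (⟨k, hkH⟩ : H) = C := by
    apply Subgroup.eq_of_le_of_card_ge h4
    rw [Nat.card_zpowers, hko]; exact h5
  intro g hg
  rw [h6, hC, Subgroup.mem_centralizer_singleton_iff]
  exact hg

theorem not_ten {x : G} (h : SC x) {K : Subgroup G} (hK : IK x K) {m : ℕ} (hc : Nat.card K = 10 * 2 ^ m) : False := by
  haveI : Fact (Nat.Prime 5) := ⟨by norm_num⟩
  haveI nil : Group.IsNilpotent K := h.isNilpotent hK
  let P : Sylow 5 K := default
  have hall0 : ∀ (p : ℕ) (_hp : Fact p.Prime) (P : Sylow p K), (P : Subgroup K).Normal :=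
    ((isNilpotent_of_finite_tfae (G := K)).out 0 3).1 nil
  haveI hPn : (P : Subgroup K).Normal := hall0 5 inferInstance P
  obtain ⟨j, hj⟩ := IsPGroup.iff_card.1 P.2
  have hc5 : Nat.card K = 2 ^ (m + 1) * 5 := by rw [hc, pow_succ]; ring
  have h1 : Nat.card (P : Subgroup K) ∣ 5 := by
    have h2 : Nat.card (P : Subgroup K) ∣ 2 ^ (m + 1) * 5 := by rw [← hc5]; exact Subgroup.card_subgroup_dvd_card _
    refine Nat.Coprime.dvd_of_dvd_mul_left ?_ h2
    rw [hj]
    exact Nat.Coprime.pow _ _ (by norm_num)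
  have h2 : 5 ∣ Nat.card (P : Subgroup K) := P.dvd_card_of_dvd_card (by rw [hc5]; exact dvd_mul_left _ _)
  have h3 : Nat.card (P : Subgroup K) = 5 := Nat.dvd_antisymm h1 h2
  have hall : ∀ y : K, y ^ 5 = 1 → y ∈ (P : Subgroup K) := by
    intro y hy
    have h4 : IsPGroup 5 (Subgroup.zpowers y) := by
      have h5 : orderOf y ∣ 5 ^ 1 := by rw [pow_one]; exact orderOf_dvd_of_pow_eq_one hy
      obtain ⟨i, _, hi⟩ := (Nat.dvd_prime_pow (by norm_num)).1 h5
      exact IsPGroup.of_card (n := i) (by rw [Nat.card_zpowers, hi])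
    obtain ⟨Q, hQ⟩ := h4.exists_le_sylow
    haveI := Sylow.unique_of_normal P hPn
    have : Q = P := Subsingleton.elim _ _
    rw [← this]
    exact hQ (Subgroup.mem_zpowers y)
  have hIK : IK x ((P : Subgroup K).map K.subtype) := by
    refine ⟨?_, ?_⟩
    · rintro _ ⟨u, hu, rfl⟩
      have hu5 : u ^ 5 = 1 := by
        have : (⟨u, hu⟩ : (P : Subgroup K)) ^ Nat.card (P : Subgroup K) = 1 := pow_card_eq_one'
        rw [h3] at this
        exact congrArg Subtype.val this
      refine ⟨⟨x * u * x⁻¹, hK.inv _ u.2⟩, hall _ ?_, rfl⟩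
      apply Subtype.ext
      show (x * (u : G) * x⁻¹) ^ 5 = 1
      rw [conj_pow]
      have : (u : G) ^ 5 = 1 := congrArg Subtype.val hu5
      rw [this]; group
    · rw [Subgroup.card_map_of_injective K.subtype_injective, h3]; norm_num
  have h6 := h.card_mod hIK
  rw [Subgroup.card_map_of_injective K.subtype_injective, h3] at h6
  omega

/-- piece A -/
theorem A_struct (h : HK G) {k : G} (hk : orderOf k = 3) {H : Subgroup G} (hkH : k ∈ H)
    (h9 : ¬ 9 ∣ Nat.card H) :
    (∃ F : Subgroup G, F ≤ H ∧ (∀ g ∈ H, ∀ u ∈ F, g * u * g⁻¹ ∈ F) ∧ Group.IsNilpotent F ∧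
      ¬ 3 ∣ Nat.card F ∧ (Nat.card H = 3 * Nat.card F ∨ Nat.card H = 6 * Nat.card F) ∧
      (∀ U : Subgroup G, KInv k U → U ≤ H → U ≤ F)) ∨
    (∃ W : Subgroup G, W ≤ H ∧ (∀ g ∈ H, ∀ u ∈ W, g * u * g⁻¹ ∈ W) ∧ (∀ w ∈ W, w ^ 2 = 1) ∧
      Nat.card H = 60 * Nat.card W ∧
      (∀ U : Subgroup G, KInv k U → W ≤ U → U ≤ H →
        Nat.card U = Nat.card W ∨ Nat.card U = 4 * Nat.card W) ∧
      (∃ V : Subgroup G, KInv k V ∧ W ≤ V ∧ V ≤ H ∧ Nat.card V = 4 * Nat.card W)) ∨
    (Nat.card H = 168 ∧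
      ∀ N : Subgroup G, N ≤ H → (∀ g ∈ H, ∀ u ∈ N, g * u * g⁻¹ ∈ N) → N = ⊥ ∨ N = H) := by
  have hinj := H.subtype_injective
  have hs := sc_of h hk hkH h9
  rcases feit_thompson hs with ⟨N, hN, hnil, hcop, hidx⟩ | ⟨N, hN, hab, hN2, ⟨e⟩⟩ | ⟨⟨e⟩⟩
  · left
    have h3 : ¬ 3 ∣ Nat.card N := by
      intro h3
      have := Nat.Coprime.eq_one_of_dvd (Nat.coprime_comm.1 hcop) h3
      omega
    have h1 := Subgroup.card_eq_card_quotient_mul_card_subgroup N
    have h2 : Nat.card H = 3 * Nat.card N ∨ Nat.card H = 6 * Nat.card N := by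
      rcases hidx with h2 | ⟨⟨e⟩⟩
      · left; rw [h1, h2]
      · right
        rw [h1, Nat.card_congr e.toEquiv, Nat.card_perm, Nat.card_fin]
        rfl
    refine ⟨N.map H.subtype, ?_, ?_, ?_, ?_, ?_, ?_⟩
    · exact Subgroup.map_subtype_le N
    · rintro y hy _ ⟨f, hf, rfl⟩
      exact ⟨(⟨y, hy⟩ : H) * f * (⟨y, hy⟩ : H)⁻¹, hN.conj_mem f hf _, rfl⟩
    · exact Group.isNilpotent_congr (N.equivMapOfInjective _ hinj) |>.1 hnil
    · rw [Subgroup.card_map_of_injective hinj]; exact h3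
    · rw [Subgroup.card_map_of_injective hinj]; exact h2
    · intro U hU hUH
      have hIK : IK k U := ⟨hU.1, hU.2⟩
      exact (sub_of_le_iff hUH).1 (hs.le_of_index h3 h2 (hIK.subOf hUH hkH))
  · right; left
    have hp := two_of_sq hN2
    have h3 := not_three_of_two hp
    have hII := typ_two hs hp e
    have hcardQ : Nat.card (H ⧸ N) = 60 := by
      rw [Nat.card_congr e.toEquiv, nat_card_alternatingGroup]
      simp [Nat.factorial]
    have hcard : Nat.card H = 60 * Nat.card N := by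
      rw [Subgroup.card_eq_card_quotient_mul_card_subgroup N, hcardQ]
    have hpos : 0 < Nat.card N := Nat.card_pos
    have key : ∀ K : Subgroup H, IK (⟨k, hkH⟩ : H) K → N ≤ K → Nat.card K = Nat.card N ∨ Nat.card K = 4 * Nat.card N := by
      intro K hK hNK
      obtain ⟨q, hq, hq3⟩ := hs.index_mod hK (IK.of_normal h3) hNK
      have h2 : q ∣ 60 := by
        have h3 := Subgroup.card_subgroup_dvd_card K
        rw [hq, hcard, mul_comm 60] at h3
        exact (Nat.mul_dvd_mul_iff_left hpos).1 h3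
      have h4 : q ≤ 60 := Nat.le_of_dvd (by norm_num) h2
      have h5 : ∀ q ≤ 60, q ∣ 60 → q % 3 = 1 → q = 1 ∨ q = 4 ∨ q = 10 := by decide
      rcases h5 q h4 h2 hq3 with h6 | h6 | h6
      · left; rw [hq, h6, mul_one]
      · right; rw [hq, h6, mul_comm]
      · exfalso
        haveI : Fact (Nat.Prime 2) := ⟨Nat.prime_two⟩
        obtain ⟨m, hm⟩ := IsPGroup.iff_card.1 hp
        exact not_ten hs hK (m := m) (by rw [hq, h6, hm, mul_comm])
    refine ⟨N.map H.subtype, Subgroup.map_subtype_le N, ?_, ?_, ?_, ?_, ?_⟩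
    · rintro y hy _ ⟨f, hf, rfl⟩
      exact ⟨(⟨y, hy⟩ : H) * f * (⟨y, hy⟩ : H)⁻¹, hN.conj_mem f hf _, rfl⟩
    · rintro _ ⟨f, hf, rfl⟩
      rw [← map_pow, hN2 f hf, map_one]
    · rw [Subgroup.card_map_of_injective hinj]; exact hcard
    · intro U hU hWU hUH
      have hIK : IK k U := ⟨hU.1, hU.2⟩
      have h7 := key (U.subgroupOf H) (hIK.subOf hUH hkH) (by
        intro n hn
        rw [Subgroup.mem_subgroupOf]
        exact hWU ⟨n, hn, rfl⟩)
      rw [Subgroup.card_map_of_injective hinj, ← card_subOf hUH]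
      exact h7
    · obtain ⟨K, _, hK, hlt⟩ := hII.big
      have h8 : IK k (K.map H.subtype) := hK.map_sub
      refine ⟨K.map H.subtype, ⟨h8.inv, h8.co⟩, Subgroup.map_mono hlt.le, Subgroup.map_subtype_le K, ?_⟩
      rw [Subgroup.card_map_of_injective hinj, Subgroup.card_map_of_injective hinj]
      rcases key K hK hlt.le with h9 | h9
      · exfalso
        have := Subgroup.eq_of_le_of_card_ge hlt.le h9.le
        exact hlt.ne this
      · exact h9
  · right; right
    haveI : Fact (Nat.Prime 7) := ⟨by norm_num⟩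
    haveI : IsSimpleGroup (Matrix.ProjectiveSpecialLinearGroup (Fin 2) (ZMod 7)) :=
      Matrix.ProjectiveSpecialLinearGroup.rank_two_simple (by rw [Nat.card_zmod]; omega)
    haveI : IsSimpleGroup H := e.isSimpleGroup
    refine ⟨by rw [Nat.card_congr e.toEquiv]; exact Cfsg.Agent.Lib.ClSeven.card_psl27, ?_⟩
    intro N hNH hn
    haveI hnn : (N.subgroupOf H).Normal := by
      refine ⟨fun n hn' g => ?_⟩
      rw [Subgroup.mem_subgroupOf] at hn' ⊢
      exact hn g g.2 n hn'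
    rcases hnn.eq_bot_or_eq_top with h1 | h1
    · left
      rw [Subgroup.subgroupOf_eq_bot, disjoint_iff, inf_eq_left.2 hNH] at h1
      exact h1
    · right
      exact le_antisymm hNH (Subgroup.subgroupOf_eq_top.1 h1)

end Cfsg.Agent.Lib.H15SA
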