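import Mathlib
import Cfsg.Agent.Lib.H15S0
import Cfsg.Agent.S0058
import Cfsg.Agent.Lib.SubgroupTools

set_option autoImplicit false
set_option linter.all false

/-! S2220, pieces B0 and B -/

namespace Cfsg.Agent.Lib.H15SB

open Subgroup Cfsg.Agent.Lib.H15S

section
variable {G : Type*} [Group G] [Finite G]

theorem mem_norm {k : G} {U : Subgroup G} (h : KInv k U) : k ∈ normalizer (U : Set G) := by
  haveI : Finite ((U : Set G)) := Set.toFinite _
  exact mem_normalizer_fintype (fun n hn => h.1 n hn)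

/-- piece B0 -/
theorem B0_nine (h : HK G) (h27 : ¬ 27 ∣ Nat.card G) {k : G} (hk : orderOf k = 3)
    {T : Subgroup G} (hT : KInv k T) (hT1 : T ≠ ⊥) :
    ¬ 9 ∣ Nat.card (normalizer (T : Set G)) := by
  classical
  intro h9
  haveI : Fact (Nat.Prime 3) := ⟨Nat.prime_three⟩
  set N : Subgroup G := normalizer (T : Set G) with hN
  have hkN : k ∈ N := mem_norm hT
  have hk3 : IsPGroup 3 (zpowers (⟨k, hkN⟩ : N)) := by
    apply IsPGroup.of_card (n := 1)
    rw [Nat.card_zpowers, Subgroup.orderOf_mk, hk, pow_one]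
  obtain ⟨P, hP⟩ := hk3.exists_le_sylow
  have hcardN : (Nat.card N).factorization 3 = 2 := by
    have h1 : 2 ≤ (Nat.card N).factorization 3 :=
      (Nat.prime_three.pow_dvd_iff_le_factorization Nat.card_pos.ne').1 (by norm_num; exact h9)
    have h2 : ¬ 3 ≤ (Nat.card N).factorization 3 := by
      intro h3
      have h4 := (Nat.prime_three.pow_dvd_iff_le_factorization Nat.card_pos.ne').2 h3
      exact h27 ((by norm_num at h4; exact h4 : 27 ∣ Nat.card N).trans (card_subgroup_dvd_card N))
    omega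
  have hPcard : Nat.card P = 3 ^ 2 := by
    have h1 := P.card_eq_multiplicity
    rw [hcardN] at h1
    exact h1
  set A : Subgroup G := (P : Subgroup N).map N.subtype with hA
  have hAcard : Nat.card A = 9 := by
    rw [hA, card_map_of_injective N.subtype_injective]
    rw [hPcard]; norm_num
  have hAN : A ≤ N := by rw [hA]; exact map_subtype_le _
  have hkA : k ∈ A := ⟨⟨k, hkN⟩, hP (mem_zpowers _), rfl⟩
  haveI hAc : IsMulCommutative A := IsPGroup.isMulCommutative_of_card_eq_prime_sq (p := 3) (by rw [hAcard]; norm_num)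
  have hAC : A = centralizer ({k} : Set G) := by
    apply Subgroup.eq_of_le_of_card_ge
    · intro x hx
      rw [mem_centralizer_singleton_iff]
      have h1 := hAc.is_comm.comm (⟨x, hx⟩ : A) ⟨k, hkA⟩
      exact congrArg Subtype.val h1
    · rw [h.cen9 k hk, hAcard]
  have hnc : ¬ IsCyclic A := by
    intro hc
    obtain ⟨g, hg⟩ := hc.exists_generator
    have h1 : orderOf g = 9 := by
      rw [orderOf_eq_card_of_forall_mem_zpowers hg, hAcard]
    have h2 : (g : G) * k = k * g := by
      have h3 := hAc.is_comm.comm g ⟨k, hkA⟩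
      exact congrArg Subtype.val h3
    have h3 := h.exp k g hk h2
    have h4 : orderOf (g : G) ∣ 3 := orderOf_dvd_of_pow_eq_one h3
    rw [Subgroup.orderOf_coe, h1] at h4
    norm_num at h4
  have hcop : (Nat.card A).Coprime (Nat.card T) := by
    rw [hAcard, show (9 : ℕ) = 3 ^ 2 by norm_num]
    exact Nat.Coprime.pow_left 2 ((Nat.Prime.coprime_iff_not_dvd Nat.prime_three).2 hT.2)
  have hgen := Cfsg.Agent.S0058.result A T hnc hAN hcop
  apply hT1
  rw [← hgen, eq_bot_iff]
  refine iSup₂_le ?_
  rintro a ⟨haA, ha1⟩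
  have e1 : centralizer ({a} : Set G) = centralizer ({k} : Set G) := by
    apply h.tr k a hk ha1
    rw [hAC, mem_centralizer_singleton_iff] at haA
    exact haA
  intro x hx
  have hx1 : x ∈ T := hx.1
  have hx2 : x ∈ A := by
    rw [hAC, ← e1]; exact hx.2
  rw [mem_bot, ← orderOf_eq_one_iff]
  apply Nat.eq_one_of_dvd_coprimes hcop
  · have := orderOf_dvd_natCard (⟨x, hx2⟩ : A)
    rwa [Subgroup.orderOf_mk] at this
  · have := orderOf_dvd_natCard (⟨x, hx1⟩ : T)
    rwa [Subgroup.orderOf_mk] at this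

/-- a group of order 15 has a normal subgroup of order 5 -/
theorem exists_five {Q : Type*} [Group Q] [Finite Q] (hQ : Nat.card Q = 15) :
    ∃ M : Subgroup Q, M.Normal ∧ Nat.card M = 5 := by
  classical
  haveI : Fact (Nat.Prime 5) := ⟨Nat.prime_five⟩
  obtain ⟨P⟩ : Nonempty (Sylow 5 Q) := inferInstance
  have hPcard : Nat.card P = 5 := by
    have h1 := P.card_eq_multiplicity
    rw [hQ] at h1
    have h2 : (15 : ℕ).factorization 5 = 1 := by
      rw [show (15 : ℕ) = 5 * 3 by norm_num, Nat.factorization_mul (by norm_num) (by norm_num),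
        Finsupp.add_apply, Nat.Prime.factorization_self Nat.prime_five,
        Nat.factorization_eq_zero_of_not_dvd (by norm_num)]
    rw [h2, pow_one] at h1
    exact h1
  have hidx : (P : Subgroup Q).index = 3 := by
    have h1 := (P : Subgroup Q).card_mul_index
    rw [hQ] at h1
    have h2 : Nat.card (P : Subgroup Q) = 5 := hPcard
    rw [h2] at h1
    omega
  have h1 := P.card_dvd_index
  rw [hidx] at h1
  have h2 := card_sylow_modEq_one 5 Q
  have h3 : Nat.card (Sylow 5 Q) = 1 := by
    rcases (Nat.dvd_prime Nat.prime_three).1 h1 with h4 | h4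
    · exact h4
    · rw [h4] at h2
      exact absurd h2 (by decide)
  haveI : Subsingleton (Sylow 5 Q) := (Nat.card_eq_one_iff_unique.1 h3).1
  exact ⟨P, P.normal_of_subsingleton, hPcard⟩

/-- piece B with piece A as a hypothesis -/
theorem B_norm_of {k : G} (hk : orderOf k = 3) {U : Subgroup G} (hU : KMax k U)
    (hA : (∃ F : Subgroup G, F ≤ normalizer (U : Set G) ∧ (∀ g ∈ normalizer (U : Set G), ∀ u ∈ F, g * u * g⁻¹ ∈ F) ∧
      Group.IsNilpotent F ∧ ¬ 3 ∣ Nat.card F ∧
      (Nat.card (normalizer (U : Set G)) = 3 * Nat.card F ∨ Nat.card (normalizer (U : Set G)) = 6 * Nat.card F) ∧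
      (∀ V : Subgroup G, KInv k V → V ≤ normalizer (U : Set G) → V ≤ F)) ∨
    (∃ W : Subgroup G, W ≤ normalizer (U : Set G) ∧ (∀ g ∈ normalizer (U : Set G), ∀ u ∈ W, g * u * g⁻¹ ∈ W) ∧
      (∀ w ∈ W, w ^ 2 = 1) ∧ Nat.card (normalizer (U : Set G)) = 60 * Nat.card W ∧
      (∀ V : Subgroup G, KInv k V → W ≤ V → V ≤ normalizer (U : Set G) →
        Nat.card V = Nat.card W ∨ Nat.card V = 4 * Nat.card W) ∧
      (∃ V : Subgroup G, KInv k V ∧ W ≤ V ∧ V ≤ normalizer (U : Set G) ∧ Nat.card V = 4 * Nat.card W)) ∨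
    (Nat.card (normalizer (U : Set G)) = 168 ∧
      ∀ N : Subgroup G, N ≤ normalizer (U : Set G) → (∀ g ∈ normalizer (U : Set G), ∀ u ∈ N, g * u * g⁻¹ ∈ N) →
        N = ⊥ ∨ N = normalizer (U : Set G))) :
    Group.IsNilpotent U ∧ k ∈ normalizer (U : Set G) ∧
      (Nat.card (normalizer (U : Set G)) = 3 * Nat.card U ∨
        Nat.card (normalizer (U : Set G)) = 6 * Nat.card U) := by
  classical
  haveI : Fact (Nat.Prime 3) := ⟨Nat.prime_three⟩
  have hkN := mem_norm hU.1
  set H : Subgroup G := normalizer (U : Set G) with hH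
  have hUH : U ≤ H := le_normalizer
  have hUn : ∀ g ∈ H, ∀ u ∈ U, g * u * g⁻¹ ∈ U := fun g hg u hu => (mem_normalizer_iff.1 hg u).1 hu
  rcases hA with ⟨F, hF1, hF2, hF3, hF4, hF5, hF6⟩ | ⟨W, hW1, hW2, hW3, hW4, hW5, V, hV1, hV2, hV3, hV4⟩ | ⟨h1, h2⟩
  · have h1 := hF6 U hU.1 hUH
    have h2 := hU.2.2 F ⟨fun u hu => hF2 k hkN u hu, hF4⟩ h1
    subst h2
    exact ⟨hF3, hkN, hF5⟩
  · exfalso
    have hW2g : IsPGroup 2 W := by
      intro w
      exact ⟨1, Subtype.ext (by rw [pow_one]; exact hW3 w w.2)⟩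
    have hW3' : ¬ 3 ∣ Nat.card W := by
      obtain ⟨n, hn⟩ := IsPGroup.iff_card.1 hW2g
      rw [hn]
      intro h3
      have := Nat.prime_three.dvd_of_dvd_pow h3
      norm_num at this
    -- `W ≤ U`
    have hWU : W ≤ U := by
      have h1 : KInv k (U ⊔ W) := by
        constructor
        · intro x hx
          have h2 : (U ⊔ W).map (MulAut.conj k).toMonoidHom ≤ U ⊔ W := by
            rw [Subgroup.map_sup]
            refine sup_le_sup ?_ ?_
            · rintro _ ⟨u, hu, rfl⟩; exact hUn k hkN u hu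
            · rintro _ ⟨u, hu, rfl⟩; exact hW2 k hkN u hu
          exact h2 ⟨x, hx, rfl⟩
        · have h2 := SubgroupTools.card_sup_mul_card_inf (N := U) (H := W) hW1
          intro h3
          have h4 : 3 ∣ Nat.card U * Nat.card W := by
            rw [← h2]; exact h3.mul_right _
          rcases Nat.prime_three.dvd_mul.1 h4 with h5 | h5
          · exact hU.1.2 h5
          · exact hW3' h5
      have h2 := hU.2.2 _ h1 le_sup_left
      rw [← h2]; exact le_sup_right
    rcases hW5 U hU.1 hWU hUH with h1 | h1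
    · have h2 : W = U := Subgroup.eq_of_le_of_card_ge hWU h1.le
      have h3 := hU.2.2 V hV1 (by rw [← h2]; exact hV2)
      rw [h3] at hV4
      have : 0 < Nat.card W := Nat.card_pos
      omega
    · -- index 15
      haveI hnorm : (U.subgroupOf H).Normal := by
        rw [normal_subgroupOf_iff_le_normalizer hUH]
      have hcU : Nat.card (U.subgroupOf H) = Nat.card U := Nat.card_congr (subgroupOfEquivOfLe hUH).toEquiv
      have hQ : Nat.card (H ⧸ U.subgroupOf H) = 15 := by
        have h2 := (U.subgroupOf H).card_mul_index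
        rw [hcU, hW4, h1] at h2
        have h3 : Nat.card (H ⧸ U.subgroupOf H) = (U.subgroupOf H).index := rfl
        rw [h3]
        have h4 : 0 < Nat.card W := Nat.card_pos
        have h5 : 4 * Nat.card W * (U.subgroupOf H).index = 4 * Nat.card W * 15 := by rw [h2]; ring
        exact Nat.eq_of_mul_eq_mul_left (by omega) h5
      obtain ⟨M, hM, hM5⟩ := exists_five hQ
      set Y : Subgroup G := (M.comap (QuotientGroup.mk' (U.subgroupOf H))).map H.subtype with hY
      have hYcard : Nat.card Y = 5 * Nat.card U := by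
        rw [hY, card_map_of_injective H.subtype_injective]
        have h2 : (M.comap (QuotientGroup.mk' (U.subgroupOf H))).index = M.index :=
          Subgroup.index_comap_of_surjective M (QuotientGroup.mk'_surjective _)
        have h3 := M.card_mul_index
        rw [hQ, hM5] at h3
        have h4 := (M.comap (QuotientGroup.mk' (U.subgroupOf H))).card_mul_index
        have h5 : M.index = 3 := by omega
        rw [h2, h5, hW4] at h4
        rw [h1]
        omega
      have hYH : Y ≤ H := map_subtype_le _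
      have hUY : U ≤ Y := by
        intro u hu
        refine ⟨⟨u, hUH hu⟩, ?_, rfl⟩
        show QuotientGroup.mk' (U.subgroupOf H) ⟨u, hUH hu⟩ ∈ M
        have h2 : QuotientGroup.mk' (U.subgroupOf H) ⟨u, hUH hu⟩ = 1 := by
          rw [QuotientGroup.mk'_apply, QuotientGroup.eq_one_iff, mem_subgroupOf]
          exact hu
        rw [h2]; exact M.one_mem
      have hYn : ∀ y ∈ Y, k * y * k⁻¹ ∈ Y := by
        rintro _ ⟨y, hy, rfl⟩
        refine ⟨⟨k, hkN⟩ * y * (⟨k, hkN⟩)⁻¹, ?_, rfl⟩
        exact (hM.comap (QuotientGroup.mk' (U.subgroupOf H))).conj_mem y hy _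
      have hYK : KInv k Y := by
        refine ⟨hYn, ?_⟩
        rw [hYcard]
        intro h2
        rcases Nat.prime_three.dvd_mul.1 h2 with h3 | h3
        · norm_num at h3
        · exact hU.1.2 h3
      have h2 := hU.2.2 Y hYK hUY
      rw [h2] at hYcard
      have : 0 < Nat.card U := Nat.card_pos
      omega
  · exfalso
    rcases h2 U hUH hUn with h3 | h3
    · exact hU.2.1 h3
    · apply hU.1.2
      rw [← h3] at h1
      rw [h1]; norm_num

end

end Cfsg.Agent.Lib.H15SB
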