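import Cfsg.Agent.Lib.H15S0
import Cfsg.Agent.Lib.CoprimeGen

/-!
# S2220, piece B0 (helper22)
-/

set_option autoImplicit false
set_option linter.all false
set_option linter.style.haveILetI false

namespace Cfsg.Agent.Lib.H15SB0

open Subgroup Cfsg.Agent.Lib.H15S Cfsg.Agent.Lib

/-- piece B0 -/
theorem B0_nine {G : Type*} [Group G] [Finite G] (h : HK G) (h27 : ¬ 27 ∣ Nat.card G) {k : G} (hk : orderOf k = 3)
    {T : Subgroup G} (hT : KInv k T) (hT1 : T ≠ ⊥) :
    ¬ 9 ∣ Nat.card (normalizer (T : Set G)) := by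
  intro h9
  haveI : Fact (Nat.Prime 3) := ⟨by norm_num⟩
  obtain ⟨P0, hP0⟩ := Sylow.exists_subgroup_card_pow_prime (G := normalizer (T : Set G)) 3 (n := 2) (by simpa using h9)
  set P : Subgroup G := P0.map (normalizer (T : Set G)).subtype with hP
  have hPN : P ≤ normalizer (T : Set G) := by rw [hP]; exact map_subtype_le P0
  have hPc : Nat.card P = 3 ^ 2 := by
    rw [hP, Subgroup.card_map_of_injective (subtype_injective _)]; exact hP0
  have hcomm : ∀ a b : P, a * b = b * a := IsPGroup.commutative_of_card_eq_prime_sq hPc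
  have hcomm' : IsMulCommutative P := ⟨⟨hcomm⟩⟩
  obtain ⟨r, hr⟩ := exists_prime_orderOf_dvd_card' (G := P) 3 (by rw [hPc]; norm_num)
  have hr' : orderOf (r : G) = 3 := by rw [Subgroup.orderOf_coe]; exact hr
  have hexp : ∀ g : P, g ^ 3 = 1 := fun g => by
    apply Subtype.ext
    have h1 : (g : G) * r = r * g := congrArg Subtype.val (hcomm g r)
    have := h.exp (r : G) (g : G) hr' h1
    simpa using this
  have hnc : ¬ IsCyclic P := by
    intro hc
    obtain ⟨g, hg⟩ := hc.exists_ofOrder_eq_natCard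
    have h2 : orderOf g ∣ 3 := orderOf_dvd_of_pow_eq_one (hexp g)
    rw [hg, hPc] at h2
    have h3 := Nat.le_of_dvd (by norm_num) h2
    omega
  have hcop : (Nat.card P).Coprime (Nat.card T) := by
    rw [hPc]
    exact Nat.Coprime.pow_left _ ((Nat.Prime.coprime_iff_not_dvd (by norm_num)).2 hT.2)
  have h' := CoprimeGen.iSup_centralizer_eq hcomm' hnc hPN hcop
  apply hT1
  rw [eq_bot_iff, ← h']
  refine iSup₂_le fun a ha t ht => ?_
  obtain ⟨haP, ha1⟩ := ha
  have ha3 : orderOf a = 3 := by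
    have h4 : a ^ 3 = 1 := by
      have := hexp ⟨a, haP⟩
      exact congrArg Subtype.val this
    exact orderOf_eq_prime h4 ha1
  have h5 : Nat.card (Subgroup.centralizer ({a} : Set G)) = 9 := h.cen9 a ha3
  have h6 : orderOf t ∣ 9 := by
    rw [← h5]
    exact Subgroup.orderOf_dvd_natCard _ ht.2
  have h7 : orderOf t ∣ Nat.card T := Subgroup.orderOf_dvd_natCard _ ht.1
  have h8 : Nat.Coprime 9 (Nat.card T) := by
    have : (9 : ℕ) = 3 ^ 2 := by norm_num
    rw [this]
    exact Nat.Coprime.pow_left _ ((Nat.Prime.coprime_iff_not_dvd (by norm_num)).2 hT.2)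
  have h10 : orderOf t = 1 := Nat.eq_one_of_dvd_coprimes h8 h6 h7
  rw [Subgroup.mem_bot]
  exact orderOf_eq_one_iff.1 h10

end Cfsg.Agent.Lib.H15SB0
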