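import Cfsg.Agent.Lib.H15S0
import Cfsg.Agent.Lib.ConjSylow

set_option autoImplicit false

namespace Cfsg.Agent.Lib.H15SC

open Subgroup Cfsg.Agent.Lib.H15S

variable {G : Type*} [Group G] [Finite G]

/-- closure under conjugation by one element puts it in the normalizer -/
theorem mem_norm {k : G} {U : Subgroup G} (h : ∀ u ∈ U, k * u * k⁻¹ ∈ U) :
    k ∈ normalizer (U : Set G) := by
  rw [mem_normalizer_iff]
  intro u
  refine ⟨h u, fun hu => ?_⟩
  have h1 : U.map (MulAut.conj k).toMonoidHom ≤ U := by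
    rintro _ ⟨v, hv, rfl⟩
    exact h v hv
  have h2 : U.map (MulAut.conj k).toMonoidHom = U := by
    refine Subgroup.eq_of_le_of_card_ge h1 ?_
    rw [Nat.card_congr (U.equivMapOfInjective _ (MulAut.conj k).injective).toEquiv.symm]
  rw [← h2] at hu
  obtain ⟨v, hv, hvu⟩ := hu
  have h3 : k * v * k⁻¹ = k * u * k⁻¹ := hvu
  have : v = u := by simpa using h3
  rwa [← this]

theorem C_of {k : G}
    {U : Subgroup G} (hU : KMax k U) {T : Subgroup G} (hT1 : T ≠ ⊥) (hTU : T ≤ U)
    (hle : normalizer (U : Set G) ≤ normalizer (T : Set G))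
    (hc : Nat.card (normalizer (U : Set G)) = 6 * Nat.card U ∨ ¬ IsPGroup 2 U)
    (hA : ∀ H : Subgroup G, k ∈ H → ¬ 9 ∣ Nat.card H →
      (∃ F : Subgroup G, F ≤ H ∧ (∀ g ∈ H, ∀ u ∈ F, g * u * g⁻¹ ∈ F) ∧ Group.IsNilpotent F ∧
      ¬ 3 ∣ Nat.card F ∧ (Nat.card H = 3 * Nat.card F ∨ Nat.card H = 6 * Nat.card F) ∧
      (∀ U : Subgroup G, KInv k U → U ≤ H → U ≤ F)) ∨
    (∃ W : Subgroup G, W ≤ H ∧ (∀ g ∈ H, ∀ u ∈ W, g * u * g⁻¹ ∈ W) ∧ (∀ w ∈ W, w ^ 2 = 1) ∧
      Nat.card H = 60 * Nat.card W ∧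
      (∀ U : Subgroup G, KInv k U → W ≤ U → U ≤ H →
        Nat.card U = Nat.card W ∨ Nat.card U = 4 * Nat.card W) ∧
      (∃ V : Subgroup G, KInv k V ∧ W ≤ V ∧ V ≤ H ∧ Nat.card V = 4 * Nat.card W)) ∨
    (Nat.card H = 168 ∧
      ∀ N : Subgroup G, N ≤ H → (∀ g ∈ H, ∀ u ∈ N, g * u * g⁻¹ ∈ N) → N = ⊥ ∨ N = H))
    (h9 : ∀ T : Subgroup G, KInv k T → T ≠ ⊥ → ¬ 9 ∣ Nat.card (normalizer (T : Set G))) :
    normalizer (T : Set G) = normalizer (U : Set G) := by
  obtain ⟨hUi, hU1, hUm⟩ := hU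
  have hkU : k ∈ normalizer (U : Set G) := mem_norm hUi.1
  have hkT : k ∈ normalizer (T : Set G) := hle hkU
  have hTi : KInv k T := by
    refine ⟨fun t ht => (mem_normalizer_iff.1 hkT t).1 ht, fun h3 => ?_⟩
    exact hUi.2 (h3.trans (card_dvd_of_le hTU))
  have hUH : U ≤ normalizer (T : Set G) := le_normalizer.trans hle
  rcases hA _ hkT (h9 T hTi hT1) with ⟨F, hFH, hFn, -, hF3, -, hFU⟩ | ⟨W, hWH, hWn, hW2, hcH, hWU, V, hVi, hWV, hVH, hVc⟩ |
    ⟨hc8, hN⟩
  · have h1 : U ≤ F := hFU U hUi hUH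
    have h2 : F = U := hUm F ⟨fun u hu => hFn k hkT u hu, hF3⟩ h1
    subst h2
    exact le_antisymm (fun g hg => mem_norm (fun u hu => hFn g hg u hu)) hle
  · exfalso
    have hWp : IsPGroup 2 W := fun w => ⟨1, by
      have := hW2 w w.2
      exact Subtype.ext (by simpa using this)⟩
    have hW3 : ¬ 3 ∣ Nat.card W := by
      intro h3
      obtain ⟨n, hn⟩ := hWp.exists_card_eq
      rw [hn] at h3
      have := Nat.Prime.dvd_of_dvd_pow Nat.prime_three h3
      omega
    have hUW : U ≤ normalizer (W : Set G) := fun u hu => mem_norm (fun w hw => hWn u (hUH hu) w hw)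
    have hcs := Cfsg.Agent.Lib.ConjSylow.card_sup_mul_card_inf hUW
    have h1 : KInv k (U ⊔ W) := by
      constructor
      · have hk' : U ⊔ W ≤ (U ⊔ W).comap (MulAut.conj k).toMonoidHom := by
          refine sup_le (fun u hu => ?_) (fun w hw => ?_)
          · exact mem_sup_left (hUi.1 u hu)
          · exact mem_sup_right (hWn k hkT w hw)
        intro u hu
        exact hk' hu
      · intro h3
        have h4 : 3 ∣ Nat.card U * Nat.card W := by
          rw [← hcs]
          exact h3.mul_right _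
        rcases (Nat.Prime.dvd_mul Nat.prime_three).1 h4 with h5 | h5
        · exact hUi.2 h5
        · exact hW3 h5
    have h2 : U ⊔ W = U := hUm _ h1 le_sup_left
    have hWU' : W ≤ U := by rw [← h2]; exact le_sup_right
    rcases hWU U hUi hWU' hUH with h3 | h3
    · have h4 : W = U := Subgroup.eq_of_le_of_card_ge hWU' h3.le
      subst h4
      have h5 := hUm V hVi hWV
      subst h5
      have := Nat.card_pos (α := V)
      omega
    · have h4 : IsPGroup 2 U := by
        obtain ⟨n, hn⟩ := hWp.exists_card_eq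
        refine IsPGroup.of_card (n := n + 2) ?_
        rw [h3, hn]; ring
      rcases hc with hc | hc
      · have h5 : Nat.card (normalizer (U : Set G)) ∣ Nat.card (normalizer (T : Set G)) :=
          card_dvd_of_le hle
        rw [hc, hcH, h3] at h5
        have h6 : 24 * Nat.card W ∣ 60 * Nat.card W := by
          convert h5 using 1; ring
        have h7 := Nat.dvd_of_mul_dvd_mul_right Nat.card_pos h6
        omega
      · exact hc h4
  · exfalso
    rcases hN T le_normalizer (fun g hg u hu => (mem_normalizer_iff.1 hg u).1 hu) with h1 | h1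
    · exact hT1 h1
    · rw [← h1] at hc8
      exact hTi.2 (by rw [hc8]; norm_num)

end Cfsg.Agent.Lib.H15SC
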