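import Mathlib
import Cfsg.Agent.Lib.H15S0

set_option autoImplicit false

namespace Cfsg.Agent.Lib.H15SD

open Subgroup Cfsg.Agent.Lib.H15S

theorem conj3 {H : Type*} [Group H] [Finite H] (h9 : ¬ 9 ∣ Nat.card H) {a b : H}
    (ha : orderOf a = 3) (hb : orderOf b = 3) : ∃ h : H, h * a * h⁻¹ ∈ zpowers b := by
  haveI : Fact (Nat.Prime 3) := ⟨Nat.prime_three⟩
  have h0 : Nat.card H ≠ 0 := Nat.card_pos.ne'
  have h3 : 3 ∣ Nat.card H := by rw [← ha]; exact orderOf_dvd_natCard a
  have hf : (Nat.card H).factorization 3 = 1 := by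
    apply le_antisymm
    · by_contra hlt
      push Not at hlt
      have : 3 ^ 2 ∣ Nat.card H := (Nat.Prime.pow_dvd_iff_le_factorization Nat.prime_three h0).2 hlt
      exact h9 (by simpa using this)
    · exact (Nat.Prime.pow_dvd_iff_le_factorization Nat.prime_three h0).1 (by simpa using h3)
  have ca : Nat.card (zpowers a) = 3 ^ (Nat.card H).factorization 3 := by
    rw [Nat.card_zpowers, ha, hf, pow_one]
  have cb : Nat.card (zpowers b) = 3 ^ (Nat.card H).factorization 3 := by
    rw [Nat.card_zpowers, hb, hf, pow_one]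
  obtain ⟨h, hh⟩ := MulAction.exists_smul_eq H (Sylow.ofCard (zpowers a) ca) (Sylow.ofCard (zpowers b) cb)
  refine ⟨h, ?_⟩
  have h1 : h * a * h⁻¹ ∈ (h • (Sylow.ofCard (zpowers a) ca) : Sylow 3 H) := by
    have : MulAut.conj h • a ∈ (h • (Sylow.ofCard (zpowers a) ca) : Sylow 3 H) := by
      rw [Sylow.smul_def] 
      exact Subgroup.smul_mem_pointwise_smul a (MulAut.conj h) _ (mem_zpowers a)
    simpa using this
  rw [hh] at h1
  exact h1

/-- membership version inside a subgroup -/
theorem conj3' {G : Type*} [Group G] [Finite G] {H : Subgroup G} (h9 : ¬ 9 ∣ Nat.card H) {a b : G}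
    (haH : a ∈ H) (hbH : b ∈ H) (ha : orderOf a = 3) (hb : orderOf b = 3) :
    ∃ h ∈ H, h * a * h⁻¹ ∈ zpowers b := by
  obtain ⟨h, hh⟩ := conj3 h9 (a := ⟨a, haH⟩) (b := ⟨b, hbH⟩)
    (by rw [← Subgroup.orderOf_coe]; exact ha) (by rw [← Subgroup.orderOf_coe]; exact hb)
  refine ⟨h, h.2, ?_⟩
  rw [mem_zpowers_iff] at hh ⊢
  obtain ⟨n, hn⟩ := hh
  exact ⟨n, by have := congrArg (Subtype.val) hn; simpa using this⟩

theorem mem_map_conj {G : Type*} [Group G] {U : Subgroup G} {g x : G} :
    x ∈ U.map (MulAut.conj g).toMonoidHom ↔ g⁻¹ * x * g ∈ U := by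
  rw [mem_map]
  constructor
  · rintro ⟨u, hu, rfl⟩
    have : g⁻¹ * (MulAut.conj g).toMonoidHom u * g = u := by
      show g⁻¹ * (g * u * g⁻¹) * g = u
      group
    rw [this]; exact hu
  · intro h
    refine ⟨_, h, ?_⟩
    show g * (g⁻¹ * x * g) * g⁻¹ = x
    group

section
variable {G : Type*} [Group G] [Finite G]

/-- `m k m⁻¹ = k ∨ m k m⁻¹ = k⁻¹` -/
def MM (k : G) : Set G := {m | m * k * m⁻¹ = k ∨ m * k * m⁻¹ = k⁻¹}

theorem mem_MM {k m : G} (hk : orderOf k = 3) (h : m * k * m⁻¹ ∈ zpowers k) : m ∈ MM k := by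
  rw [mem_zpowers_iff] at h
  obtain ⟨n, hn⟩ := h
  have h3 : k ^ 3 = 1 := by rw [← hk]; exact pow_orderOf_eq_one k
  have h3' : k ^ (3 : ℤ) = 1 := by exact_mod_cast h3
  have hmod : k ^ n = k ^ (n % 3) := by
    conv_lhs => rw [← Int.emod_add_mul_ediv n 3]
    rw [zpow_add, zpow_mul, h3', one_zpow, mul_one]
  have hlt := Int.emod_lt_of_pos n (show (0:ℤ) < 3 by norm_num)
  have hge := Int.emod_nonneg n (show (3:ℤ) ≠ 0 by norm_num)
  have hk1 : k ≠ 1 := by intro h; rw [h, orderOf_one] at hk; omega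
  rw [hmod] at hn
  have : n % 3 = 0 ∨ n % 3 = 1 ∨ n % 3 = 2 := by omega
  rcases this with h | h | h
  · exfalso
    rw [h, zpow_zero] at hn
    apply hk1
    have : k = m⁻¹ * (m * k * m⁻¹) * m := by group
    rw [this, ← hn]; group
  · left; rw [h, zpow_one] at hn; exact hn.symm
  · right
    rw [h] at hn
    rw [← hn]
    have : k ^ (2 : ℤ) = k ^ (3 : ℤ) * k⁻¹ := by group
    rw [this, h3', one_mul]

theorem card_MM {k : G} (h9 : Nat.card (centralizer ({k} : Set G)) = 9) : (MM k).ncard ≤ 18 := by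
  have hc : ((centralizer ({k} : Set G) : Subgroup G) : Set G).ncard = 9 := by
    rw [← h9]; exact (Nat.card_coe_set_eq _).symm
  have hmem : ∀ m : G, m * k * m⁻¹ = k → m ∈ ((centralizer ({k} : Set G) : Subgroup G) : Set G) := by
    intro m hm
    show m ∈ centralizer ({k} : Set G)
    rw [mem_centralizer_singleton_iff]
    have : m * k = (m * k * m⁻¹) * m := by group
    rw [hm] at this
    exact this
  by_cases ht : ∃ t : G, t * k * t⁻¹ = k⁻¹
  · obtain ⟨t, ht⟩ := ht
    have hsub : MM k ⊆ ((centralizer ({k} : Set G) : Subgroup G) : Set G) ∪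
        (fun x => t * x) '' ((centralizer ({k} : Set G) : Subgroup G) : Set G) := by
      rintro m (hm | hm)
      · exact Or.inl (hmem m hm)
      · right
        refine ⟨t⁻¹ * m, hmem _ ?_, by simp⟩
        have h1 : t⁻¹ * k⁻¹ * t = k := by rw [← ht]; group
        calc (t⁻¹ * m) * k * (t⁻¹ * m)⁻¹ = t⁻¹ * (m * k * m⁻¹) * t := by group
          _ = k := by rw [hm]; exact h1
    calc (MM k).ncard ≤ _ := Set.ncard_le_ncard hsub (Set.toFinite _)
      _ ≤ _ := Set.ncard_union_le _ _
      _ ≤ 9 + 9 := by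
        apply Nat.add_le_add hc.le
        exact (Set.ncard_image_le (Set.toFinite _)).trans hc.le
  · have hsub : MM k ⊆ ((centralizer ({k} : Set G) : Subgroup G) : Set G) := by
      rintro m (hm | hm)
      · exact hmem m hm
      · exact absurd ⟨m, hm⟩ ht
    calc (MM k).ncard ≤ _ := Set.ncard_le_ncard hsub (Set.toFinite _)
      _ ≤ 18 := by rw [hc]; norm_num

theorem mul_MM {k a b : G} (ha : a ∈ MM k) (hb : b ∈ MM k) : a * b ∈ MM k := by
  have h : a * b * k * (a * b)⁻¹ = a * (b * k * b⁻¹) * a⁻¹ := by group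
  have h2 : a * k⁻¹ * a⁻¹ = (a * k * a⁻¹)⁻¹ := by group
  unfold MM at *
  simp only [Set.mem_setOf_eq] at *
  rw [h]
  rcases hb with hb | hb <;> rw [hb]
  · exact ha
  · rw [h2]
    rcases ha with ha | ha <;> rw [ha]
    · right; rfl
    · left; rw [inv_inv]

/-- the main count, with `B_norm` as hypothesis -/
theorem count {k : G} (h9 : Nat.card (centralizer ({k} : Set G)) = 9) (hk : orderOf k = 3)
    {U : Subgroup G} (hU3 : ¬ 3 ∣ Nat.card U) (hkU : k ∈ normalizer (U : Set G))
    (hc : Nat.card (normalizer (U : Set G)) = 3 * Nat.card U ∨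
        Nat.card (normalizer (U : Set G)) = 6 * Nat.card U) (P : Subgroup G → Prop)
    (hP : ∀ V, P V → k ∈ normalizer (V : Set G)) :
    Nat.card {V : Subgroup G // P V ∧ ∃ g : G, V = U.map (MulAut.conj g).toMonoidHom} *
      Nat.card (normalizer (U : Set G)) ≤ 18 * Nat.card U := by
  set N := normalizer (U : Set G) with hN
  have hUN : U ≤ N := Subgroup.le_normalizer
  have hN9 : ¬ 9 ∣ Nat.card N := by
    intro h
    rcases hc with hc | hc <;> rw [hc] at h
    · exact hU3 (Nat.dvd_of_mul_dvd_mul_left (by norm_num : 0 < 3) (by simpa using h))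
    · have h1 : 3 ∣ 2 * Nat.card U := by
        have : 3 * 3 ∣ 3 * (2 * Nat.card U) := by
          rw [← mul_assoc]; exact h
        exact Nat.dvd_of_mul_dvd_mul_left (by norm_num : 0 < 3) this
      exact hU3 ((Nat.Coprime.dvd_mul_left (by norm_num)).1 h1)
  -- the subgroup L = U ⊔ <k>
  set L := U ⊔ zpowers k with hL
  have hLN : L ≤ N := sup_le hUN ((zpowers_le).2 hkU)
  have hL3 : 3 * Nat.card U ∣ Nat.card L := by
    apply Nat.Coprime.mul_dvd_of_dvd_of_dvd
    · exact (Nat.Prime.coprime_iff_not_dvd Nat.prime_three).2 hU3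
    · have := Subgroup.card_dvd_of_le (le_sup_right : zpowers k ≤ L)
      rwa [Nat.card_zpowers, hk] at this
    · exact Subgroup.card_dvd_of_le (le_sup_left : U ≤ L)
  have hLle : Nat.card N ≤ 2 * Nat.card L := by
    have h1 := Nat.le_of_dvd Nat.card_pos hL3
    rcases hc with hc | hc <;> rw [hc] <;> omega
  have hL9 : ¬ 9 ∣ Nat.card L := fun h => hN9 (h.trans (Subgroup.card_dvd_of_le hLN))
  -- L is normal in N
  have hLnorm : ∀ n ∈ N, ∀ l ∈ L, n * l * n⁻¹ ∈ L := by
    have hidx : (L.subgroupOf N).index ≤ 2 := by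
      have h1 := Subgroup.card_mul_index (L.subgroupOf N)
      rw [Nat.card_congr (Subgroup.subgroupOfEquivOfLe hLN).toEquiv] at h1
      by_contra h2
      push Not at h2
      have h3 : 0 < Nat.card L := Nat.card_pos
      have : Nat.card L * 3 ≤ Nat.card L * (L.subgroupOf N).index := Nat.mul_le_mul_left _ h2
      omega
    have hnor : (L.subgroupOf N).Normal := by
      have hne : (L.subgroupOf N).index ≠ 0 := Subgroup.index_ne_zero_of_finite
      rcases (by omega : (L.subgroupOf N).index = 1 ∨ (L.subgroupOf N).index = 2) with h | h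
      · rw [Subgroup.index_eq_one] at h; rw [h]; infer_instance
      · exact Subgroup.normal_of_index_eq_two h
    intro n hn l hl
    have := hnor.conj_mem ⟨l, hLN hl⟩ (by rw [mem_subgroupOf]; exact hl) ⟨n, hn⟩
    rw [mem_subgroupOf] at this
    exact this
  -- N ⊆ U * (N ∩ MM)
  set T : Set G := (N : Set G) ∩ MM k with hT
  have hfrat : Nat.card N ≤ Nat.card U * T.ncard := by
    have hsub : (N : Set G) ⊆ (fun p : G × G => p.1 * p.2) '' ((U : Set G) ×ˢ T) := by
      intro n hn
      have hnL : n * k * n⁻¹ ∈ L := hLnorm n hn k (le_sup_right (α := Subgroup G) (mem_zpowers k))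
      have hkL : k ∈ L := le_sup_right (α := Subgroup G) (mem_zpowers k)
      have ho : orderOf (n * k * n⁻¹) = 3 := by
        have := (MulEquiv.orderOf_eq (MulAut.conj n) k).trans hk
        simpa using this
      obtain ⟨l, hl, hlk⟩ := conj3' hL9 hnL hkL ho hk
      -- l = k^i u
      have hl' : l ∈ ((U ⊔ zpowers k : Subgroup G) : Set G) := hl
      have hl2 : ∃ z ∈ zpowers k, ∃ u ∈ U, z * u = l := by
        have h1 : l ∈ zpowers k ⊔ U := by rw [sup_comm]; exact hl
        have h2 := Subgroup.coe_mul_of_left_le_normalizer_right (zpowers k) U ((zpowers_le).2 hkU)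
        have h3 : l ∈ ((zpowers k ⊔ U : Subgroup G) : Set G) := h1
        rw [h2] at h3
        obtain ⟨z, hz, u, hu, h⟩ := h3
        exact ⟨z, hz, u, hu, h⟩
      obtain ⟨z, hz, u, hu, rfl⟩ := hl2
      refine ⟨(u⁻¹, u * n), ⟨U.inv_mem hu, ⟨N.mul_mem (hUN hu) hn, ?_⟩⟩, by simp⟩
      apply mem_MM hk
      have h1 : z⁻¹ * (z * u * (n * k * n⁻¹) * (z * u)⁻¹) * z = u * n * k * (u * n)⁻¹ := by group
      rw [← h1]
      exact (zpowers k).mul_mem ((zpowers k).mul_mem ((zpowers k).inv_mem hz) hlk) hz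
    have h1 : (N : Set G).ncard = Nat.card N := (Nat.card_coe_set_eq _).symm
    have h2 : (U : Set G).ncard = Nat.card U := (Nat.card_coe_set_eq _).symm
    rw [← h1, ← h2, ← Set.ncard_prod]
    exact (Set.ncard_le_ncard hsub (Set.toFinite _)).trans (Set.ncard_image_le (Set.toFinite _))
  -- X × T injects into MM
  have hX : Nat.card {V : Subgroup G // P V ∧ ∃ g : G, V = U.map (MulAut.conj g).toMonoidHom} *
      T.ncard ≤ (MM k).ncard := by
    have hch : ∀ V : {V : Subgroup G // P V ∧ ∃ g : G, V = U.map (MulAut.conj g).toMonoidHom},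
        ∃ m ∈ MM k, V.1 = U.map (MulAut.conj m).toMonoidHom := by
      rintro ⟨V, hPV, g, hg⟩
      have hkV := hP V hPV
      have hk' : g⁻¹ * k * g ∈ N := by
        rw [hN, mem_normalizer_iff]
        intro u
        rw [mem_normalizer_iff] at hkV
        have h1 := hkV (g * u * g⁻¹)
        rw [hg, mem_map_conj, mem_map_conj] at h1
        have e1 : g⁻¹ * (g * u * g⁻¹) * g = u := by group
        have e2 : g⁻¹ * (k * (g * u * g⁻¹) * k⁻¹) * g = g⁻¹ * k * g * u * (g⁻¹ * k * g)⁻¹ := by group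
        rw [e1, e2] at h1
        exact h1
      have ho : orderOf (g⁻¹ * k * g) = 3 := by
        have := (MulEquiv.orderOf_eq (MulAut.conj g⁻¹) k).trans hk
        simpa using this
      obtain ⟨n, hn, hnk⟩ := conj3' hN9 hkU hk' hk ho
      -- n k n⁻¹ ∈ <g⁻¹ k g>, so (g n) k (g n)⁻¹ ∈ <k>
      refine ⟨g * n, mem_MM hk ?_, ?_⟩
      · rw [mem_zpowers_iff] at hnk ⊢
        obtain ⟨i, hi⟩ := hnk
        refine ⟨i, ?_⟩
        have : (g⁻¹ * k * g) ^ i = g⁻¹ * k ^ i * g := by
          have := conj_zpow (a := g⁻¹) (b := k) (i := i)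
          simpa using this
        rw [this] at hi
        have h2 : k ^ i = g * (g⁻¹ * k ^ i * g) * g⁻¹ := by group
        rw [h2, hi]; group
      · show V = _
        subst hg
        ext x
        rw [mem_map_conj, mem_map_conj]
        rw [hN, mem_normalizer_iff''] at hn
        have h1 := hn (g⁻¹ * x * g)
        rw [h1]
        have e1 : n⁻¹ * (g⁻¹ * x * g) * n = (g * n)⁻¹ * x * (g * n) := by group
        rw [e1]
    choose m hm hmV using hch
    have h1 : T.ncard = Nat.card T := (Nat.card_coe_set_eq _).symm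
    have h2 : (MM k).ncard = Nat.card (MM k) := (Nat.card_coe_set_eq _).symm
    rw [h1, h2, ← Nat.card_prod]
    apply Nat.card_le_card_of_injective
      (fun p => (⟨m p.1 * p.2.1, mul_MM (hm p.1) p.2.2.2⟩ : MM k))
    rintro ⟨V, t⟩ ⟨V', t'⟩ h
    simp only [Subtype.mk.injEq] at h
    have hVV : V = V' := by
      apply Subtype.ext
      have hh : ∀ (V : {V : Subgroup G // P V ∧ ∃ g : G, V = U.map (MulAut.conj g).toMonoidHom}) (t : T),
          V.1 = U.map (MulAut.conj (m V * t.1)).toMonoidHom := by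
        intro V t
        rw [hmV V]
        ext x
        rw [mem_map_conj, mem_map_conj]
        have hn := t.2.1
        have hn : t.1 ∈ normalizer (U : Set G) := t.2.1
        rw [mem_normalizer_iff''] at hn
        rw [hn ((m V)⁻¹ * x * m V)]
        have e1 : t.1⁻¹ * ((m V)⁻¹ * x * m V) * t.1 = (m V * t.1)⁻¹ * x * (m V * t.1) := by group
        rw [e1]
      rw [hh V t, hh V' t', h]
    subst hVV
    have := mul_left_cancel h
    rw [Subtype.ext this]
  calc _ ≤ Nat.card {V : Subgroup G // P V ∧ ∃ g : G, V = U.map (MulAut.conj g).toMonoidHom} *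
        (Nat.card U * T.ncard) := Nat.mul_le_mul_left _ hfrat
    _ = Nat.card U * (Nat.card {V : Subgroup G // P V ∧ ∃ g : G, V = U.map (MulAut.conj g).toMonoidHom} *
        T.ncard) := by ring
    _ ≤ Nat.card U * 18 := Nat.mul_le_mul_left _ (hX.trans (card_MM h9))
    _ = 18 * Nat.card U := by ring

/-- piece D with the conclusion of `B_norm` for `U` as a hypothesis -/
theorem D_aux (h : HK G) {k : G} (hk : orderOf k = 3) {U : Subgroup G} (hU : KMax k U)
    (hB : Group.IsNilpotent U ∧ k ∈ normalizer (U : Set G) ∧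
      (Nat.card (normalizer (U : Set G)) = 3 * Nat.card U ∨
        Nat.card (normalizer (U : Set G)) = 6 * Nat.card U)) :
    Nat.card {V : Subgroup G // KMax k V ∧ ∃ g : G, V = U.map (MulAut.conj g).toMonoidHom} *
      Nat.card (normalizer (U : Set G)) ≤ 18 * Nat.card U := by
  refine count (h.cen9 k hk) hk hU.1.2 hB.2.1 hB.2.2 (KMax k) ?_
  intro V hV
  exact mem_normalizer_fintype fun n hn => hV.1.1 n hn

end
end Cfsg.Agent.Lib.H15SD
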