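import Cfsg.Agent.Lib.H15SB0

/-!
# S2220, piece E (helper22)
-/

set_option autoImplicit false
set_option linter.all false
set_option linter.style.haveILetI false

namespace Cfsg.Agent.Lib.H15SE

open Subgroup Cfsg.Agent.Lib.H15S Cfsg.Agent.Lib.SubgroupTools

section
variable {G : Type*} [Group G] [Finite G]

theorem mem_norm' {k : G} {U : Subgroup G} (h : ∀ u ∈ U, k * u * k⁻¹ ∈ U) : k ∈ normalizer (U : Set G) := by
  haveI : Finite ((U : Set G)) := Set.toFinite _
  exact mem_normalizer_fintype (fun n hn => h n hn)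

theorem kinv_sup {k : G} {A B : Subgroup G} (hA : KInv k A) (hB : KInv k B)
    (hn : B ≤ normalizer (A : Set G)) : KInv k (A ⊔ B) := by
  constructor
  · intro x hx
    have h1 : (A ⊔ B).map (MulAut.conj k).toMonoidHom ≤ A ⊔ B := by
      rw [Subgroup.map_sup]
      apply sup_le_sup
      · rintro _ ⟨u, hu, rfl⟩; exact hA.1 u hu
      · rintro _ ⟨u, hu, rfl⟩; exact hB.1 u hu
    exact h1 ⟨x, hx, rfl⟩
  · intro h3
    have h := card_sup_mul_card_inf hn
    have h4 : 3 ∣ Nat.card A * Nat.card B := by rw [← h]; exact h3.mul_right _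
    rcases (Nat.prime_three.dvd_mul).1 h4 with h5 | h5
    · exact hA.2 h5
    · exact hB.2 h5

theorem card_mod3 (h : HK G) {k : G} (hk : orderOf k = 3) {Q : Subgroup G} (hQ : KInv k Q) :
    Nat.card Q % 3 = 1 := by
  classical
  haveI : Fact (Nat.Prime 3) := ⟨Nat.prime_three⟩
  haveI : Fintype Q := Fintype.ofFinite Q
  let f : Function.End Q := fun x => ⟨k * x * k⁻¹, hQ.1 x x.2⟩
  have hk3 : k ^ 3 = 1 := by rw [← hk]; exact pow_orderOf_eq_one k
  have hf : f ^ 3 ^ 1 = 1 := by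
    funext x
    have e1 : (f ^ 3 ^ 1) x = f (f (f x)) := rfl
    rw [e1]
    apply Subtype.ext
    show k * (k * (k * x * k⁻¹) * k⁻¹) * k⁻¹ = (x : G)
    have hkkk : k * k * k = 1 := by rw [← hk3, pow_succ, pow_two]
    calc k * (k * (k * x * k⁻¹) * k⁻¹) * k⁻¹ = (k * k * k) * x * (k * k * k)⁻¹ := by
          simp only [mul_inv_rev, mul_assoc]
      _ = x := by rw [hkkk]; simp
  have h1 := Equiv.Perm.card_fixedPoints_modEq (α := Q) (p := 3) (n := 1) hf
  have h2 : Fintype.card f.fixedPoints = 1 := by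
    rw [Fintype.card_eq_one_iff]
    refine ⟨⟨1, ?_⟩, ?_⟩
    · show f 1 = 1
      apply Subtype.ext
      show k * ((1 : Q) : G) * k⁻¹ = 1
      simp
    · rintro ⟨x, hx⟩
      apply Subtype.ext
      apply Subtype.ext
      have hx' : k * (x : G) * k⁻¹ = x := congrArg Subtype.val hx
      have h3 : (x : G) ∈ Subgroup.centralizer ({k} : Set G) := by
        rw [Subgroup.mem_centralizer_singleton_iff]
        rw [mul_inv_eq_iff_eq_mul] at hx'
        exact hx'.symm
      have h6 : orderOf (x : G) ∣ 9 := by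
        rw [← h.cen9 k hk]
        exact Subgroup.orderOf_dvd_natCard _ h3
      have h7 : orderOf (x : G) ∣ Nat.card Q := Subgroup.orderOf_dvd_natCard _ x.2
      have h8 : Nat.Coprime 9 (Nat.card Q) := by
        have : (9 : ℕ) = 3 ^ 2 := by norm_num
        rw [this]
        exact Nat.Coprime.pow_left _ ((Nat.Prime.coprime_iff_not_dvd (by norm_num)).2 hQ.2)
      exact orderOf_eq_one_iff.1 (Nat.eq_one_of_dvd_coprimes h8 h6 h7)
  rw [h2] at h1
  rw [Nat.card_eq_fintype_card]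
  exact h1

/-- statement of piece A -/
def AS (G : Type*) [Group G] [Finite G] : Prop :=
  ∀ (k : G), orderOf k = 3 → ∀ (H : Subgroup G), k ∈ H → ¬ 9 ∣ Nat.card H →
    (∃ F : Subgroup G, F ≤ H ∧ (∀ g ∈ H, ∀ u ∈ F, g * u * g⁻¹ ∈ F) ∧ Group.IsNilpotent F ∧
      ¬ 3 ∣ Nat.card F ∧ (Nat.card H = 3 * Nat.card F ∨ Nat.card H = 6 * Nat.card F) ∧
      (∀ U : Subgroup G, KInv k U → U ≤ H → U ≤ F)) ∨
    (∃ W : Subgroup G, W ≤ H ∧ (∀ g ∈ H, ∀ u ∈ W, g * u * g⁻¹ ∈ W) ∧ (∀ w ∈ W, w ^ 2 = 1) ∧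
      Nat.card H = 60 * Nat.card W ∧
      (∀ U : Subgroup G, KInv k U → W ≤ U → U ≤ H →
        Nat.card U = Nat.card W ∨ Nat.card U = 4 * Nat.card W) ∧
      (∃ V : Subgroup G, KInv k V ∧ W ≤ V ∧ V ≤ H ∧ Nat.card V = 4 * Nat.card W)) ∨
    (Nat.card H = 168 ∧
      ∀ N : Subgroup G, N ≤ H → (∀ g ∈ H, ∀ u ∈ N, g * u * g⁻¹ ∈ N) → N = ⊥ ∨ N = H)

theorem core (hA : AS G) (hB : ∀ (k : G), orderOf k = 3 → ∀ U : Subgroup G, KMax k U → Group.IsNilpotent U)
    (h : HK G) {q a b : ℕ} (hq : q.Prime) (hq2 : q ≠ 2) (hq3 : q ≠ 3)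
    (hcard : Nat.card G = 9 * 2 ^ a * q ^ b) {k : G} (hk : orderOf k = 3)
    {U : Subgroup G} (hU : KMax k U) (hqU : q ∣ Nat.card U) :
    ∃ Q : Subgroup G, Q ≤ U ∧ Nat.card Q = q ^ b ∧ KInv k Q ∧
      U ≤ normalizer (Q : Set G) ∧ ∀ g ∈ normalizer (Q : Set G), ∀ u ∈ U, g * u * g⁻¹ ∈ U := by
  classical
  haveI : Fact q.Prime := ⟨hq⟩
  have c3q : Nat.Coprime 3 q := (Nat.coprime_primes Nat.prime_three hq).2 (Ne.symm hq3)
  have c2q : Nat.Coprime 2 q := (Nat.coprime_primes Nat.prime_two hq).2 (Ne.symm hq2)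
  have h27 : ¬ 27 ∣ Nat.card G := by
    intro h27
    rw [hcard] at h27
    have h1 : 3 ∣ 2 ^ a * q ^ b := by
      have e : 27 = 9 * 3 := by norm_num
      rw [e, mul_assoc] at h27
      exact Nat.dvd_of_mul_dvd_mul_left (by norm_num) h27
    rcases (Nat.prime_three.dvd_mul).1 h1 with h2 | h2
    · have := Nat.prime_three.dvd_of_dvd_pow h2
      norm_num at this
    · have := Nat.prime_three.dvd_of_dvd_pow h2
      exact hq3 ((Nat.prime_dvd_prime_iff_eq Nat.prime_three hq).1 this).symm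
  have hnil := hB k hk U hU
  let Q0 : Sylow q U := default
  have hQ0n : (Q0 : Subgroup U).Normal :=
    (((Group.isNilpotent_of_finite_tfae (G := U)).out 0 3 rfl rfl).1 hnil) q inferInstance Q0
  set Q : Subgroup G := (Q0 : Subgroup U).map U.subtype with hQdef
  have hQU : Q ≤ U := by rw [hQdef]; exact map_subtype_le _
  set n := (Nat.card U).factorization q with hn
  have hQc : Nat.card Q = q ^ n := by
    rw [hQdef, Subgroup.card_map_of_injective (subtype_injective _)]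
    exact Q0.card_eq_multiplicity
  have hn1 : 1 ≤ n := (hq.dvd_iff_one_le_factorization Nat.card_pos.ne').1 hqU
  -- q-elements of `U` are in `Q`
  have hmem : ∀ x ∈ U, ∀ m : ℕ, x ^ (q ^ m) = 1 → x ∈ Q := by
    intro x hx m hxm
    have hp : IsPGroup q (zpowers (⟨x, hx⟩ : U)) := by
      apply IsPGroup.of_card (n := (orderOf (⟨x, hx⟩ : U)).factorization q)
      rw [Nat.card_zpowers]
      have h1 : orderOf (⟨x, hx⟩ : U) ∣ q ^ m := orderOf_dvd_of_pow_eq_one (Subtype.ext (by simpa using hxm))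
      obtain ⟨j, hj, hj'⟩ := (Nat.dvd_prime_pow hq).1 h1
      rw [hj', Nat.Prime.factorization_pow hq, Finsupp.single_eq_same]
    obtain ⟨P, hP⟩ := hp.exists_le_sylow
    have hPQ : P = Q0 := by
      haveI := Sylow.unique_of_normal Q0 hQ0n
      exact Subsingleton.elim _ _
    rw [hPQ] at hP
    exact ⟨⟨x, hx⟩, hP (mem_zpowers _), rfl⟩
  have hpow : ∀ x ∈ Q, x ^ (q ^ n) = 1 := by
    intro x hx
    rw [← hQc]
    have := pow_card_eq_one' (x := (⟨x, hx⟩ : Q))
    exact congrArg Subtype.val this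
  have hconj : ∀ g : G, (∀ u ∈ U, g * u * g⁻¹ ∈ U) → ∀ x ∈ Q, g * x * g⁻¹ ∈ Q := by
    intro g hg x hx
    refine hmem _ (hg x (hQU hx)) n ?_
    rw [conj_pow, hpow x hx]
    simp
  have hQk : KInv k Q := ⟨hconj k hU.1.1, fun h3 => hU.1.2 (h3.trans (card_dvd_of_le hQU))⟩
  have hQne : Q ≠ ⊥ := by
    intro h0
    rw [h0, Subgroup.card_bot] at hQc
    have := Nat.one_lt_pow (by omega : n ≠ 0) hq.one_lt
    omega
  have hUN : U ≤ normalizer (Q : Set G) := by
    intro g hg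
    exact mem_norm' (hconj g (fun u hu => U.mul_mem (U.mul_mem hg hu) (U.inv_mem hg)))
  have hkH : k ∈ normalizer (Q : Set G) := mem_norm' hQk.1
  have h9 : ¬ 9 ∣ Nat.card (normalizer (Q : Set G)) := H15SB0.B0_nine h h27 hk hQk hQne
  rcases hA k hk (normalizer (Q : Set G)) hkH h9 with ⟨F, hFH, hFn, hFnil, hF3, hFc, hFU⟩ |
    ⟨W, hWH, hWn, hW2, hWc, hWU, -⟩ | ⟨h168, hsimp⟩
  · have hFeq : F = U := hU.2.2 F ⟨fun u hu => hFn k hkH u hu, hF3⟩ (hFU U hU.1 hUN)
    subst hFeq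
    refine ⟨Q, hQU, ?_, hQk, hUN, hFn⟩
    have hnb : n ≤ b := by
      have h1 : q ^ n ∣ 9 * 2 ^ a * q ^ b := by
        rw [← hcard, ← hQc]; exact Subgroup.card_subgroup_dvd_card Q
      have h2 : Nat.Coprime (q ^ n) (9 * 2 ^ a) := by
        apply Nat.Coprime.pow_left
        apply Nat.Coprime.mul_right
        · have : (9 : ℕ) = 3 ^ 2 := by norm_num
          rw [this]
          exact (Nat.Coprime.pow_left _ c3q).symm
        · exact (Nat.Coprime.pow_left _ c2q).symm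
      have h3 := h2.dvd_of_dvd_mul_left h1
      exact (Nat.pow_dvd_pow_iff_le_right hq.one_lt).1 h3
    rcases Nat.lt_or_ge n b with hlt | hge
    · exfalso
      have h1 : q ^ (n + 1) ∣ Nat.card G := by
        rw [hcard]
        exact (pow_dvd_pow q (by omega : n + 1 ≤ b)).mul_left _
      have h2 := Sylow.prime_pow_dvd_card_normalizer h1 hQc
      have h3 : q ^ (n + 1) ∣ Nat.card F := by
        rcases hFc with h4 | h4
        · rw [h4] at h2
          exact (Nat.Coprime.pow_left _ c3q.symm).dvd_of_dvd_mul_left h2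
        · rw [h4] at h2
          have h5 : Nat.Coprime (q ^ (n + 1)) 6 := by
            apply Nat.Coprime.pow_left
            have : (6 : ℕ) = 2 * 3 := by norm_num
            rw [this]
            exact Nat.Coprime.mul_right c2q.symm c3q.symm
          exact h5.dvd_of_dvd_mul_left h2
      have h4 := (hq.pow_dvd_iff_le_factorization Nat.card_pos.ne').1 h3
      rw [← hn] at h4
      omega
    · have : n = b := le_antisymm hnb hge
      rw [hQc, this]
  · exfalso
    have hWp : IsPGroup 2 W := by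
      intro w
      refine ⟨1, ?_⟩
      apply Subtype.ext
      have := hW2 w w.2
      simpa using this
    obtain ⟨m, hm⟩ := IsPGroup.iff_card.1 hWp
    have hWk : KInv k W := by
      refine ⟨fun u hu => hWn k hkH u hu, fun h3 => ?_⟩
      rw [hm] at h3
      have := Nat.prime_three.dvd_of_dvd_pow h3
      norm_num at this
    have hUW : U ≤ normalizer (W : Set G) := fun u hu => mem_norm' (fun w hw => hWn u (hUN hu) w hw)
    have h1 := hWU (W ⊔ U) (kinv_sup hWk hU.1 hUW) le_sup_left (sup_le hWH hUN)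
    have h2 : q ∣ Nat.card (W ⊔ U : Subgroup G) := hqU.trans (card_dvd_of_le le_sup_right)
    have h3 : q ∣ 4 * Nat.card W := by
      rcases h1 with h1 | h1
      · rw [h1] at h2; exact h2.mul_left _
      · rw [h1] at h2; exact h2
    rw [hm] at h3
    have h4 : q ∣ 2 ^ (m + 2) := by
      have : 4 * 2 ^ m = 2 ^ (m + 2) := by ring
      rwa [this] at h3
    exact hq2 ((Nat.prime_dvd_prime_iff_eq hq Nat.prime_two).1 (hq.dvd_of_dvd_pow h4))
  · exfalso
    rcases hsimp Q (fun x hx => hUN (hQU hx)) (fun g hg u hu => (mem_normalizer_iff.1 hg u).1 hu) with h1 | h1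
    · exact hQne h1
    · apply hQk.2
      have : Nat.card Q = 168 := by rw [← h168]; exact congrArg (fun X : Subgroup G => Nat.card X) h1
      rw [this]; norm_num

theorem half (hA : AS G) (hB : ∀ (k : G), orderOf k = 3 → ∀ U : Subgroup G, KMax k U → Group.IsNilpotent U)
    (h : HK G) {q a b : ℕ} (hq : q.Prime) (hq2 : q ≠ 2) (hq3 : q ≠ 3)
    (hcard : Nat.card G = 9 * 2 ^ a * q ^ b) {k : G} (hk : orderOf k = 3)
    {U U' : Subgroup G} (hU : KMax k U) (hU' : KMax k U') (hqU : q ∣ Nat.card U)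
    (hqU' : q ∣ Nat.card U') : ∃ g : G, U.map (MulAut.conj g).toMonoidHom ≤ U' := by
  classical
  haveI : Fact q.Prime := ⟨hq⟩
  obtain ⟨Q, hQU, hQc, hQk, hUQ, hQn⟩ := core hA hB h hq hq2 hq3 hcard hk hU hqU
  obtain ⟨Q', hQU', hQc', hQk', hUQ', hQn'⟩ := core hA hB h hq hq2 hq3 hcard hk hU' hqU'
  have hfac : (Nat.card G).factorization q = b := by
    have h9q : ¬ q ∣ 9 * 2 ^ a := by
      intro h1
      rcases (hq.dvd_mul).1 h1 with h2 | h2
      · have e : (9 : ℕ) = 3 ^ 2 := by norm_num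
        rw [e] at h2
        exact hq3 ((Nat.prime_dvd_prime_iff_eq hq Nat.prime_three).1 (hq.dvd_of_dvd_pow h2))
      · exact hq2 ((Nat.prime_dvd_prime_iff_eq hq Nat.prime_two).1 (hq.dvd_of_dvd_pow h2))
    rw [hcard, Nat.factorization_mul (by positivity) (pow_pos hq.pos b).ne', Finsupp.add_apply,
      Nat.factorization_eq_zero_of_not_dvd h9q, Nat.Prime.factorization_pow hq, Finsupp.single_eq_same, zero_add]
  let P : Sylow q G := Sylow.ofCard Q (by rw [hQc, hfac])
  let P' : Sylow q G := Sylow.ofCard Q' (by rw [hQc', hfac])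
  obtain ⟨g, hg⟩ := MulAction.exists_smul_eq G P P'
  have hgQ : ∀ x, x ∈ Q → g * x * g⁻¹ ∈ Q' := by
    intro x hx
    have h1 : ((g • P : Sylow q G) : Subgroup G) = (P' : Subgroup G) := by rw [hg]
    have h2 : g * x * g⁻¹ ∈ ((g • P : Sylow q G) : Subgroup G) := by
      rw [Sylow.coe_subgroup_smul]
      exact Subgroup.smul_mem_pointwise_smul x (MulAut.conj g) (P : Subgroup G) hx
    rw [h1] at h2
    exact h2
  have hgQ' : ∀ y ∈ Q', g⁻¹ * y * g ∈ Q := by
    intro y hy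
    have h1 : Q.map (MulAut.conj g).toMonoidHom = Q' := by
      apply Subgroup.eq_of_le_of_card_ge
      · rintro _ ⟨x, hx, rfl⟩
        exact hgQ x hx
      · rw [Subgroup.card_map_of_injective (MulAut.conj g).injective, hQc, hQc']
    rw [← h1] at hy
    obtain ⟨x, hx, rfl⟩ := hy
    have : g⁻¹ * (MulAut.conj g).toMonoidHom x * g = x := by
      show g⁻¹ * (g * x * g⁻¹) * g = x
      group
    rw [this]; exact hx
  have hNN : ∀ n ∈ normalizer (Q' : Set G), g⁻¹ * n * g ∈ normalizer (Q : Set G) := by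
    intro n hn
    apply mem_norm'
    intro x hx
    have h1 := (mem_normalizer_iff.1 hn _).1 (hgQ x hx)
    have h2 := hgQ' _ h1
    have : g⁻¹ * n * g * x * (g⁻¹ * n * g)⁻¹ = g⁻¹ * (n * (g * x * g⁻¹) * n⁻¹) * g := by group
    rw [this]; exact h2
  have hNN' : ∀ n ∈ normalizer (Q : Set G), g * n * g⁻¹ ∈ normalizer (Q' : Set G) := by
    intro n hn
    apply mem_norm'
    intro y hy
    have h1 := (mem_normalizer_iff.1 hn _).1 (hgQ' y hy)
    have h2 := hgQ _ h1
    have : g * n * g⁻¹ * y * (g * n * g⁻¹)⁻¹ = g * (n * (g⁻¹ * y * g) * n⁻¹) * g⁻¹ := by group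
    rw [this]; exact h2
  set V : Subgroup G := U.map (MulAut.conj g).toMonoidHom with hV
  have hVn : ∀ n ∈ normalizer (Q' : Set G), ∀ v ∈ V, n * v * n⁻¹ ∈ V := by
    rintro n hn _ ⟨u, hu, rfl⟩
    refine ⟨(g⁻¹ * n * g) * u * (g⁻¹ * n * g)⁻¹, hQn _ (hNN n hn) u hu, ?_⟩
    show g * ((g⁻¹ * n * g) * u * (g⁻¹ * n * g)⁻¹) * g⁻¹ = n * (g * u * g⁻¹) * n⁻¹
    group
  have hVN : V ≤ normalizer (Q' : Set G) := by
    rintro _ ⟨u, hu, rfl⟩
    exact hNN' u (hUQ hu)
  have hVc : Nat.card V = Nat.card U := by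
    rw [hV, Subgroup.card_map_of_injective (MulAut.conj g).injective]
  have hVk : KInv k V := ⟨hVn k (mem_norm' hQk'.1), by rw [hVc]; exact hU.1.2⟩
  have hVU' : V ≤ normalizer (U' : Set G) := fun v hv => mem_norm' (hQn' v (hVN hv))
  have h1 := hU'.2.2 (U' ⊔ V) (kinv_sup hU'.1 hVk hVU') le_sup_left
  exact ⟨g, by rw [← h1]; exact le_sup_right⟩

/-- piece E modulo A and B -/
theorem E_of (hA : AS G) (hB : ∀ (k : G), orderOf k = 3 → ∀ U : Subgroup G, KMax k U → Group.IsNilpotent U)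
    (h : HK G) {q a b : ℕ} (hq : q.Prime) (hq2 : q ≠ 2) (hq3 : q ≠ 3)
    (hcard : Nat.card G = 9 * 2 ^ a * q ^ b) {k : G} (hk : orderOf k = 3)
    {U U' : Subgroup G} (hU : KMax k U) (hU' : KMax k U') (hqU : q ∣ Nat.card U)
    (hqU' : q ∣ Nat.card U') :
    (∃ g : G, U' = U.map (MulAut.conj g).toMonoidHom) ∧ q ^ b ∣ Nat.card U ∧ q ^ b % 3 = 1 := by
  obtain ⟨g, hg⟩ := half hA hB h hq hq2 hq3 hcard hk hU hU' hqU hqU'
  obtain ⟨g', hg'⟩ := half hA hB h hq hq2 hq3 hcard hk hU' hU hqU' hqU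
  obtain ⟨Q, hQU, hQc, hQk, -, -⟩ := core hA hB h hq hq2 hq3 hcard hk hU hqU
  refine ⟨⟨g, ?_⟩, ?_, ?_⟩
  · symm
    apply Subgroup.eq_of_le_of_card_ge hg
    have h1 := Subgroup.card_le_of_le hg'
    rw [Subgroup.card_map_of_injective (MulAut.conj g').injective] at h1
    rw [Subgroup.card_map_of_injective (MulAut.conj g).injective]
    exact h1
  · rw [← hQc]; exact card_dvd_of_le hQU
  · rw [← hQc]; exact card_mod3 h hk hQk

end

end Cfsg.Agent.Lib.H15SE
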