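import Mathlib
import Cfsg.Agent.Lib.H15S0
import Cfsg.Agent.Lib.H15SB

set_option autoImplicit false
set_option linter.all false

/-! S2220, piece E -/

namespace Cfsg.Agent.Lib.H15SE0

open Subgroup Cfsg.Agent.Lib.H15S

/-- the conclusion of piece A -/
def ACon {G : Type*} [Group G] (k : G) (H : Subgroup G) : Prop :=
    (∃ F : Subgroup G, F ≤ H ∧ (∀ g ∈ H, ∀ u ∈ F, g * u * g⁻¹ ∈ F) ∧ Group.IsNilpotent F ∧
      ¬ 3 ∣ Nat.card F ∧ (Nat.card H = 3 * Nat.card F ∨ Nat.card H = 6 * Nat.card F) ∧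
      (∀ U : Subgroup G, KInv k U → U ≤ H → U ≤ F)) ∨
    (∃ W : Subgroup G, W ≤ H ∧ (∀ g ∈ H, ∀ u ∈ W, g * u * g⁻¹ ∈ W) ∧ (∀ w ∈ W, w ^ 2 = 1) ∧
      Nat.card H = 60 * Nat.card W ∧
      (∀ U : Subgroup G, KInv k U → W ≤ U → U ≤ H →
        Nat.card U = Nat.card W ∨ Nat.card U = 4 * Nat.card W) ∧
      (∃ V : Subgroup G, KInv k V ∧ W ≤ V ∧ V ≤ H ∧ Nat.card V = 4 * Nat.card W)) ∨
    (Nat.card H = 168 ∧
      ∀ N : Subgroup G, N ≤ H → (∀ g ∈ H, ∀ u ∈ N, g * u * g⁻¹ ∈ N) → N = ⊥ ∨ N = H)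

theorem nine_dvd {q a b : ℕ} (hq : q.Prime) (hq3 : q ≠ 3) : ¬ 27 ∣ 9 * 2 ^ a * q ^ b := by
  intro h
  have h1 : 9 * 3 ∣ 9 * (2 ^ a * q ^ b) := by
    rw [← mul_assoc]; exact h
  have h2 : 3 ∣ 2 ^ a * q ^ b := Nat.dvd_of_mul_dvd_mul_left (by norm_num) h1
  rcases Nat.prime_three.dvd_mul.1 h2 with h3 | h3
  · have := Nat.prime_three.dvd_of_dvd_pow h3
    norm_num at this
  · have := Nat.prime_three.dvd_of_dvd_pow h3
    exact hq3 ((Nat.prime_dvd_prime_iff_eq Nat.prime_three hq).1 this).symm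

theorem fac' {m q b : ℕ} (hq : q.Prime) (hm : ¬ q ∣ m) : (m * q ^ b).factorization q = b := by
  have hm0 : m ≠ 0 := by rintro rfl; exact hm (dvd_zero q)
  rw [Nat.factorization_mul hm0 (pow_ne_zero _ hq.ne_zero), Nat.factorization_pow, Finsupp.add_apply,
    Finsupp.smul_apply, Nat.factorization_eq_zero_of_not_dvd hm, hq.factorization_self]
  simp

section
variable {G : Type*} [Group G] [Finite G]

/-- `fpf` -/
theorem fpf (h : HK G) {k : G} (hk : orderOf k = 3) {U : Subgroup G} (hU : KInv k U) :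
    ∀ u ∈ U, u * k = k * u → u = 1 := by
  intro u hu hc
  have h3 := h.exp k u hk hc
  have h1 : orderOf u ∣ 3 := orderOf_dvd_of_pow_eq_one h3
  have h2 : orderOf u ∣ Nat.card U := by
    rw [← Subgroup.orderOf_mk u hu]
    exact orderOf_dvd_natCard _
  rcases (Nat.dvd_prime Nat.prime_three).1 h1 with h4 | h4
  · exact orderOf_eq_one_iff.1 h4
  · rw [h4] at h2; exact absurd h2 hU.2

theorem mem_normalizer_of {Q : Subgroup G} {x : G} (h : ∀ y ∈ Q, x * y * x⁻¹ ∈ Q) :
    x ∈ normalizer (Q : Set G) := by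
  haveI : Finite ((Q : Set G)) := Set.toFinite _
  exact mem_normalizer_fintype (fun n hn => h n hn)

theorem core (h : HK G) (hA : ∀ (k : G), orderOf k = 3 → ∀ (H : Subgroup G), k ∈ H →
      ¬ 9 ∣ Nat.card H → ACon k H) {q a b : ℕ} (hq : q.Prime) (hq2 : q ≠ 2) (hq3 : q ≠ 3)
    (hcard : Nat.card G = 9 * 2 ^ a * q ^ b) {k : G} (hk : orderOf k = 3)
    {U : Subgroup G} (hU : KMax k U) (hqU : q ∣ Nat.card U) :
    ∃ Q : Subgroup G, Q ≤ U ∧ Nat.card Q = q ^ b ∧ KInv k Q ∧ U ≤ normalizer (Q : Set G) ∧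
      (∀ g ∈ normalizer (Q : Set G), ∀ u ∈ U, g * u * g⁻¹ ∈ U) ∧
      (∀ V : Subgroup G, KInv k V → V ≤ normalizer (Q : Set G) → V ≤ U) := by
  classical
  haveI : Fact q.Prime := ⟨hq⟩
  have h27 : ¬ 27 ∣ Nat.card G := by rw [hcard]; exact nine_dvd hq hq3
  have hkN : k ∈ normalizer (U : Set G) := H15SB.mem_norm hU.1
  obtain ⟨hnil, -, -⟩ := H15SB.B_norm_of hk hU
    (hA k hk _ hkN (H15SB.B0_nine h h27 hk hU.1 hU.2.1))
  haveI := hnil
  let P : Sylow q U := default
  have hall0 : ∀ (p : ℕ) (_hp : Fact p.Prime) (P : Sylow p U), (P : Subgroup U).Normal :=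
    ((isNilpotent_of_finite_tfae (G := U)).out 0 3).1 hnil
  haveI hPn : (P : Subgroup U).Normal := hall0 q inferInstance P
  have hPc : (P : Subgroup U).Characteristic := P.characteristic_of_normal hPn
  obtain ⟨Q, hQdef⟩ : ∃ Q : Subgroup G, Q = (P : Subgroup U).map U.subtype := ⟨_, rfl⟩
  have hQU : Q ≤ U := by rw [hQdef]; exact map_subtype_le _
  obtain ⟨n, hn⟩ := IsPGroup.iff_card.1 P.2
  have hQn : Nat.card Q = q ^ n := by
    rw [hQdef, card_map_of_injective U.subtype_injective, hn]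
  have hvU : (Nat.card U).factorization q = n := by
    have h1 := P.card_eq_multiplicity
    have h2 : Nat.card (P : Subgroup U) = q ^ n := hn
    rw [h2] at h1
    exact (Nat.pow_right_injective hq.two_le h1).symm
  have hn1 : n ≠ 0 := by
    intro h0
    rw [h0] at hvU
    have h1 := (hq.dvd_iff_one_le_factorization Nat.card_pos.ne').1 hqU
    omega
  have hQ1 : Q ≠ ⊥ := by
    intro h0
    rw [h0, Subgroup.card_bot] at hQn
    have h1 : q ∣ q ^ n := dvd_pow_self q hn1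
    rw [← hQn] at h1
    exact hq.one_lt.ne' (Nat.dvd_one.1 h1)
  have hQ3 : ¬ 3 ∣ Nat.card Q := by
    rw [hQn]
    intro h3
    have := Nat.prime_three.dvd_of_dvd_pow h3
    exact hq3 ((Nat.prime_dvd_prime_iff_eq Nat.prime_three hq).1 this).symm
  have hQinv : ∀ g ∈ normalizer (U : Set G), ∀ x ∈ Q, g * x * g⁻¹ ∈ Q := by
    intro g hg x hx
    rw [hQdef] at hx
    obtain ⟨y, hy, rfl⟩ := hx
    have h1 := (Subgroup.characteristic_iff_map_le.1 hPc) (U.normalizerMonoidHom ⟨g, hg⟩)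
    have h2 : (U.normalizerMonoidHom ⟨g, hg⟩) y ∈ (P : Subgroup U) := h1 ⟨y, hy, rfl⟩
    rw [hQdef]
    exact ⟨_, h2, rfl⟩
  have hQk : KInv k Q := ⟨hQinv k hkN, hQ3⟩
  have hUN : U ≤ normalizer (Q : Set G) := fun u hu =>
    mem_normalizer_of (hQinv u (le_normalizer hu))
  have hkQ : k ∈ normalizer (Q : Set G) := H15SB.mem_norm hQk
  have hQN : Q ≤ normalizer (Q : Set G) := le_normalizer
  have hQn' : ∀ g ∈ normalizer (Q : Set G), ∀ u ∈ Q, g * u * g⁻¹ ∈ Q :=
    fun g hg u hu => (mem_normalizer_iff.1 hg u).1 hu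
  have h9 := H15SB.B0_nine h h27 hk hQk hQ1
  rcases hA k hk _ hkQ h9 with ⟨F, hF1, hF2, hF3, hF4, hF5, hF6⟩ | ⟨W, hW1, hW2, hW3, hW4, hW5, V, hV1, hV2, hV3, hV4⟩ | ⟨h1, h2⟩
  · have h1 := hF6 U hU.1 hUN
    have h2 := hU.2.2 F ⟨fun u hu => hF2 k hkQ u hu, hF4⟩ h1
    subst h2
    have hnd : ¬ q ^ (n + 1) ∣ Nat.card G := by
      intro hd
      have h3 := Sylow.prime_pow_dvd_card_normalizer hd hQn
      have hcop6 : (q ^ (n + 1)).Coprime 6 := by
        apply Nat.Coprime.pow_left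
        rw [show (6 : ℕ) = 2 * 3 by norm_num]
        exact Nat.Coprime.mul_right ((Nat.coprime_primes hq Nat.prime_two).2 hq2)
          ((Nat.coprime_primes hq Nat.prime_three).2 hq3)
      have hcop3 : (q ^ (n + 1)).Coprime 3 := Nat.Coprime.coprime_dvd_right (by norm_num) hcop6
      have h4 : q ^ (n + 1) ∣ Nat.card F := by
        rcases hF5 with h5 | h5
        · rw [h5] at h3; exact hcop3.dvd_of_dvd_mul_left h3
        · rw [h5] at h3; exact hcop6.dvd_of_dvd_mul_left h3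
      have h5 := (hq.pow_dvd_iff_le_factorization Nat.card_pos.ne').1 h4
      omega
    have hbn : b ≤ n := by
      by_contra hlt
      push Not at hlt
      apply hnd
      rw [hcard]
      exact (pow_dvd_pow q hlt).trans (dvd_mul_left _ _)
    have hnb : n ≤ b := by
      have h3 : q ^ n ∣ 9 * 2 ^ a * q ^ b := by
        rw [← hcard, ← hQn]; exact card_subgroup_dvd_card Q
      have hcop : (q ^ n).Coprime (9 * 2 ^ a) := by
        apply Nat.Coprime.pow_left
        apply Nat.Coprime.mul_right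
        · rw [show (9 : ℕ) = 3 ^ 2 by norm_num]
          exact Nat.Coprime.pow_right 2 ((Nat.coprime_primes hq Nat.prime_three).2 hq3)
        · exact Nat.Coprime.pow_right a ((Nat.coprime_primes hq Nat.prime_two).2 hq2)
      exact (Nat.pow_dvd_pow_iff_le_right hq.one_lt).1 (hcop.dvd_of_dvd_mul_left h3)
    have hbn' : n = b := le_antisymm hnb hbn
    exact ⟨Q, hQU, by rw [hQn, hbn'], hQk, hUN, hF2, hF6⟩
  · exfalso
    -- `Q ⊔ W`
    have hW2g : IsPGroup 2 W := by
      intro w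
      exact ⟨1, Subtype.ext (by rw [pow_one]; exact hW3 w w.2)⟩
    obtain ⟨m, hm⟩ := IsPGroup.iff_card.1 hW2g
    have hW3' : ¬ 3 ∣ Nat.card W := by
      rw [hm]
      intro h3
      have := Nat.prime_three.dvd_of_dvd_pow h3
      norm_num at this
    have hcQ := SubgroupTools.card_sup_mul_card_inf (N := Q) (H := W) hW1
    have hinf : Nat.card (W ⊓ Q : Subgroup G) = 1 ∧ Nat.card (Q ⊓ W : Subgroup G) = 1 := by
      have hcop : (q ^ n).Coprime (2 ^ m) :=
        Nat.Coprime.pow _ _ ((Nat.coprime_primes hq Nat.prime_two).2 hq2)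
      constructor
      · apply Nat.eq_one_of_dvd_coprimes hcop
        · rw [← hQn]; exact Subgroup.card_dvd_of_le inf_le_right
        · rw [← hm]; exact Subgroup.card_dvd_of_le inf_le_left
      · apply Nat.eq_one_of_dvd_coprimes hcop
        · rw [← hQn]; exact Subgroup.card_dvd_of_le inf_le_left
        · rw [← hm]; exact Subgroup.card_dvd_of_le inf_le_right
    have hcQ' : Nat.card (Q ⊔ W : Subgroup G) = Nat.card Q * Nat.card W := by
      rw [← hcQ]
      first
      | rw [hinf.1, mul_one]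
      | rw [hinf.2, mul_one]
    have hK : KInv k (Q ⊔ W) := by
      constructor
      · intro x hx
        have h2 : (Q ⊔ W).map (MulAut.conj k).toMonoidHom ≤ Q ⊔ W := by
          rw [Subgroup.map_sup]
          refine sup_le_sup ?_ ?_
          · rintro _ ⟨u, hu, rfl⟩; exact hQk.1 u hu
          · rintro _ ⟨u, hu, rfl⟩; exact hW2 k hkQ u hu
        exact h2 ⟨x, hx, rfl⟩
      · rw [hcQ']
        intro h3
        rcases Nat.prime_three.dvd_mul.1 h3 with h5 | h5
        · exact hQ3 h5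
        · exact hW3' h5
    have hWpos : 0 < Nat.card W := Nat.card_pos
    rcases hW5 (Q ⊔ W) hK le_sup_right (sup_le hQN hW1) with h3 | h3
    · rw [hcQ'] at h3
      have h4 : Nat.card Q = 1 := Nat.eq_of_mul_eq_mul_right hWpos (by rw [h3, one_mul])
      exact hQ1 (Subgroup.card_eq_one.1 h4)
    · rw [hcQ'] at h3
      have h4 : Nat.card Q = 4 := Nat.eq_of_mul_eq_mul_right hWpos h3
      rw [hQn] at h4
      have h5 : q ∣ 4 := by rw [← h4]; exact dvd_pow_self q hn1
      have h6 : q ∣ 2 ^ 2 := by norm_num; exact h5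
      exact hq2 ((Nat.prime_dvd_prime_iff_eq hq Nat.prime_two).1 (hq.dvd_of_dvd_pow h6))
  · exfalso
    rcases h2 Q hQN hQn' with h3 | h3
    · exact hQ1 h3
    · apply hQ3
      rw [← h3] at h1
      rw [h1]; norm_num

theorem half {k g : G} {U U' Q Q' : Subgroup G} (hQ' : KInv k Q') (hU3 : ¬ 3 ∣ Nat.card U)
    (hUN : U ≤ normalizer (Q : Set G))
    (hn : ∀ x ∈ normalizer (Q : Set G), ∀ u ∈ U, x * u * x⁻¹ ∈ U)
    (hm : ∀ V : Subgroup G, KInv k V → V ≤ normalizer (Q' : Set G) → V ≤ U')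
    (h1 : ∀ x ∈ Q, g * x * g⁻¹ ∈ Q') (h2 : ∀ x ∈ Q', g⁻¹ * x * g ∈ Q) :
    U.map (MulAut.conj g).toMonoidHom ≤ U' := by
  apply hm
  · refine ⟨?_, ?_⟩
    · rintro _ ⟨u, hu, rfl⟩
      have hk : g⁻¹ * k * g ∈ normalizer (Q : Set G) := by
        apply mem_normalizer_of
        intro y hy
        have h3 := h2 _ (hQ'.1 _ (h1 y hy))
        have h4 : g⁻¹ * k * g * y * (g⁻¹ * k * g)⁻¹ = g⁻¹ * (k * (g * y * g⁻¹) * k⁻¹) * g := by group
        rw [h4]; exact h3
      refine ⟨g⁻¹ * k * g * u * (g⁻¹ * k * g)⁻¹, hn _ hk u hu, ?_⟩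
      show g * (g⁻¹ * k * g * u * (g⁻¹ * k * g)⁻¹) * g⁻¹ = k * (g * u * g⁻¹) * k⁻¹
      group
    · rw [card_map_of_injective (MulAut.conj g).injective]
      exact hU3
  · rintro _ ⟨u, hu, rfl⟩
    show g * u * g⁻¹ ∈ normalizer (Q' : Set G)
    apply mem_normalizer_of
    intro y hy
    have h3 := h1 _ ((mem_normalizer_iff.1 (hUN hu) _).1 (h2 y hy))
    have h4 : g * u * g⁻¹ * y * (g * u * g⁻¹)⁻¹ = g * (u * (g⁻¹ * y * g) * u⁻¹) * g⁻¹ := by group
    rw [h4]; exact h3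

theorem card_mod (h : HK G) {k : G} (hk : orderOf k = 3) {U : Subgroup G} (hU : KInv k U) :
    Nat.card U % 3 = 1 := by
  haveI : Fact (Nat.Prime 3) := ⟨Nat.prime_three⟩
  have hkn := H15SB.mem_norm hU
  let act : MulAction (zpowers k) U :=
    MulAction.compHom U (MonoidHom.comp (Subgroup.normalizerMonoidHom U)
      (Subgroup.inclusion ((zpowers_le.2 hkn) : zpowers k ≤ normalizer (U : Set G))))
  have hsm : ∀ (g : zpowers k) (u : U), ((act.toSMul.smul g u : U) : G) = (g : G) * u * (g : G)⁻¹ := by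
    intro g u; rfl
  have hp : IsPGroup 3 (zpowers k) := by
    refine IsPGroup.of_card (n := 1) ?_
    rw [Nat.card_zpowers, hk]; rfl
  letI := act
  have hmod := hp.card_modEq_card_fixedPoints U
  have hfix : Nat.card (@MulAction.fixedPoints (zpowers k) U _ act) = 1 := by
    rw [Nat.card_eq_one_iff_unique]
    constructor
    · constructor
      rintro ⟨u, hu⟩ ⟨v, hv⟩
      have key : ∀ w : U, w ∈ (@MulAction.fixedPoints (zpowers k) U _ act) → w = 1 := by
        intro w hw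
        have h1 := hw ⟨k, mem_zpowers k⟩
        have h2 : k * (w : G) * k⁻¹ = w := by
          have := congrArg (fun z : U => (z : G)) h1
          simpa using (hsm ⟨k, mem_zpowers k⟩ w).symm.trans this
        have h3 : (w : G) * k = k * w := by
          calc (w : G) * k = (k * w * k⁻¹) * k := by rw [h2]
            _ = k * w := by group
        exact Subtype.ext (fpf h hk hU w w.2 h3)
      exact Subtype.ext ((key u hu).trans (key v hv).symm)
    · refine ⟨⟨1, ?_⟩⟩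
      intro g
      apply Subtype.ext
      have h1 : ((act.toSMul.smul g (1 : U) : U) : G) = ((1 : U) : G) := by
        rw [hsm g 1]; simp
      exact h1
  rw [hfix] at hmod
  exact hmod

/-- piece E with piece A as a hypothesis -/
theorem E_q_of (h : HK G) (hA : ∀ (k : G), orderOf k = 3 → ∀ (H : Subgroup G), k ∈ H →
      ¬ 9 ∣ Nat.card H → ACon k H) {q a b : ℕ} (hq : q.Prime) (hq2 : q ≠ 2) (hq3 : q ≠ 3)
    (hcard : Nat.card G = 9 * 2 ^ a * q ^ b) {k : G} (hk : orderOf k = 3)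
    {U U' : Subgroup G} (hU : KMax k U) (hU' : KMax k U') (hqU : q ∣ Nat.card U)
    (hqU' : q ∣ Nat.card U') :
    (∃ g : G, U' = U.map (MulAut.conj g).toMonoidHom) ∧ q ^ b ∣ Nat.card U ∧ q ^ b % 3 = 1 := by
  classical
  haveI : Fact q.Prime := ⟨hq⟩
  obtain ⟨Q, hQU, hQc, hQk, hUN, hQn, hQm⟩ := core h hA hq hq2 hq3 hcard hk hU hqU
  obtain ⟨Q', hQU', hQc', hQk', hUN', hQn', hQm'⟩ := core h hA hq hq2 hq3 hcard hk hU' hqU'
  refine ⟨?_, ?_, ?_⟩
  · have hm : ¬ q ∣ 9 * 2 ^ a := by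
      intro hd
      rcases hq.dvd_mul.1 hd with h1 | h1
      · have h2 : q ∣ 3 ^ 2 := by norm_num; exact h1
        exact hq3 ((Nat.prime_dvd_prime_iff_eq hq Nat.prime_three).1 (hq.dvd_of_dvd_pow h2))
      · exact hq2 ((Nat.prime_dvd_prime_iff_eq hq Nat.prime_two).1 (hq.dvd_of_dvd_pow h1))
    have hf : (Nat.card G).factorization q = b := by rw [hcard]; exact fac' hq hm
    have c1 : Nat.card Q = q ^ (Nat.card G).factorization q := by rw [hf, hQc]
    have c2 : Nat.card Q' = q ^ (Nat.card G).factorization q := by rw [hf, hQc']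
    obtain ⟨g, hg⟩ := MulAction.exists_smul_eq G (Sylow.ofCard Q c1) (Sylow.ofCard Q' c2)
    have h1 : ∀ x ∈ Q, g * x * g⁻¹ ∈ Q' := by
      intro x hx
      have h3 : MulAut.conj g • x ∈ (g • (Sylow.ofCard Q c1) : Sylow q G) := by
        rw [Sylow.smul_def]
        exact Subgroup.smul_mem_pointwise_smul x (MulAut.conj g) _ hx
      rw [hg] at h3
      exact h3
    have hmap : Q.map (MulAut.conj g).toMonoidHom = Q' := by
      apply Subgroup.eq_of_le_of_card_ge
      · rintro _ ⟨x, hx, rfl⟩; exact h1 x hx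
      · rw [card_map_of_injective (MulAut.conj g).injective, hQc, hQc']
    have h2 : ∀ x ∈ Q', g⁻¹ * x * g ∈ Q := by
      intro x hx
      rw [← hmap] at hx
      obtain ⟨y, hy, rfl⟩ := hx
      have h3 : g⁻¹ * (MulAut.conj g).toMonoidHom y * g = y := by
        show g⁻¹ * (g * y * g⁻¹) * g = y
        group
      rw [h3]; exact hy
    have e1 := half (g := g) hQk' hU.1.2 hUN hQn hQm' h1 h2
    have e2 := half (g := g⁻¹) hQk hU'.1.2 hUN' hQn' hQm
      (fun x hx => by rw [inv_inv]; exact h2 x hx) (fun x hx => by rw [inv_inv]; exact h1 x hx)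
    have c3 := Subgroup.card_le_of_le e1
    have c4 := Subgroup.card_le_of_le e2
    rw [card_map_of_injective (MulAut.conj g).injective] at c3
    rw [card_map_of_injective (MulAut.conj g⁻¹).injective] at c4
    refine ⟨g, ?_⟩
    symm
    apply Subgroup.eq_of_le_of_card_ge e1
    rw [card_map_of_injective (MulAut.conj g).injective]
    exact c4
  · rw [← hQc]; exact Subgroup.card_dvd_of_le hQU
  · rw [← hQc]; exact card_mod h hk hQk

end

end Cfsg.Agent.Lib.H15SE0

/-! the same theorem under its first name (some files may use it) -/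

namespace Cfsg.Agent.Lib.H15SE

open Subgroup Cfsg.Agent.Lib.H15S

theorem E_q_of {G : Type*} [Group G] [Finite G] (h : HK G)
    (hA : ∀ (k : G), orderOf k = 3 → ∀ (H : Subgroup G), k ∈ H →
      ¬ 9 ∣ Nat.card H → Cfsg.Agent.Lib.H15SE0.ACon k H) {q a b : ℕ} (hq : q.Prime) (hq2 : q ≠ 2)
    (hq3 : q ≠ 3) (hcard : Nat.card G = 9 * 2 ^ a * q ^ b) {k : G} (hk : orderOf k = 3)
    {U U' : Subgroup G} (hU : KMax k U) (hU' : KMax k U') (hqU : q ∣ Nat.card U)
    (hqU' : q ∣ Nat.card U') :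
    (∃ g : G, U' = U.map (MulAut.conj g).toMonoidHom) ∧ q ^ b ∣ Nat.card U ∧ q ^ b % 3 = 1 :=
  Cfsg.Agent.Lib.H15SE0.E_q_of h hA hq hq2 hq3 hcard hk hU hU' hqU hqU'

end Cfsg.Agent.Lib.H15SE
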