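import Mathlib
import Cfsg.Agent.Lib.H15S0

/-! Piece F1 of S2220: preliminary lemmas. -/

set_option autoImplicit false

namespace Cfsg.Agent.Lib.H15SF1

open Subgroup Cfsg.Agent.Lib.H15S

section
variable {G : Type*} [Group G] [Finite G]

/-- no subgroup of index three -/
theorem idx3 [IsSimpleGroup G] (h9 : 9 ∣ Nat.card G) (H : Subgroup G)
    (hH : Nat.card G = 3 * Nat.card H) : False := by
  have hi : H.index = 3 := by
    have h1 := H.card_mul_index
    have hpos : 0 < Nat.card H := Nat.card_pos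
    rw [hH, mul_comm 3] at h1
    exact Nat.eq_of_mul_eq_mul_left hpos h1
  have hk : (MulAction.toPermHom G (G ⧸ H)).ker = ⊥ := by
    rcases (inferInstance : IsSimpleGroup G).eq_bot_or_eq_top_of_normal _
      (inferInstance : (MulAction.toPermHom G (G ⧸ H)).ker.Normal) with h | h
    · exact h
    · exfalso
      rw [← Subgroup.normalCore_eq_ker] at h
      have := H.normalCore_le
      rw [h, top_le_iff] at this
      rw [this, index_top] at hi; omega
  have hinj : Function.Injective (MulAction.toPermHom G (G ⧸ H)) :=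
    (MonoidHom.ker_eq_bot_iff _).1 hk
  have hdvd := Subgroup.card_dvd_of_injective _ hinj
  rw [Nat.card_perm, show Nat.card (G ⧸ H) = 3 from hi] at hdvd
  have := h9.trans hdvd
  revert this; decide

/-- characteristic subgroups are normalized by the normalizer -/
theorem conj_mem_of_char {U : Subgroup G} (T : Subgroup U) (hT : T.Characteristic) {g : G}
    (hg : g ∈ normalizer (U : Set G)) {t : G} (ht : t ∈ T.map U.subtype) :
    g * t * g⁻¹ ∈ T.map U.subtype := by
  obtain ⟨⟨x, hxU⟩, hxT, rfl⟩ := ht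
  have hmap : T.map (U.normalizerMonoidHom ⟨g, hg⟩ : U ≃* U).toMonoidHom = T :=
    (Subgroup.characteristic_iff_map_eq.1 hT) _
  refine ⟨(U.normalizerMonoidHom ⟨g, hg⟩ : U ≃* U) ⟨x, hxU⟩, ?_, ?_⟩
  · have h2 : (U.normalizerMonoidHom ⟨g, hg⟩ : U ≃* U) ⟨x, hxU⟩ ∈
        T.map (U.normalizerMonoidHom ⟨g, hg⟩ : U ≃* U).toMonoidHom := mem_map_of_mem _ hxT
    rw [hmap] at h2
    exact h2
  · rfl

theorem fac_left {p q i j : ℕ} (hp : p.Prime) (hq : q.Prime) (hpq : p ≠ q) :
    (p ^ i * q ^ j).factorization p = i := by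
  rw [Nat.factorization_mul (pow_ne_zero _ hp.ne_zero) (pow_ne_zero _ hq.ne_zero),
    hp.factorization_pow, hq.factorization_pow]
  simp [Finsupp.single_apply, hpq.symm]

/-- the two Sylow subgroups of the nilpotent group `U` -/
theorem parts {U : Subgroup G} (hn : Group.IsNilpotent U) {q i j : ℕ} (hq : q.Prime) (hq2 : q ≠ 2)
    (hU : Nat.card U = 2 ^ i * q ^ j) :
    ∃ A B : Subgroup G, A ≤ U ∧ B ≤ U ∧ Nat.card A = 2 ^ i ∧ Nat.card B = q ^ j ∧
      (∀ g ∈ normalizer (U : Set G), ∀ x ∈ A, g * x * g⁻¹ ∈ A) ∧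
      (∀ g ∈ normalizer (U : Set G), ∀ x ∈ B, g * x * g⁻¹ ∈ B) ∧
      ∀ x ∈ A, ∀ y ∈ B, x * y = y * x := by
  have : Fact (Nat.Prime 2) := ⟨Nat.prime_two⟩
  have : Fact q.Prime := ⟨hq⟩
  have hall := (Group.isNilpotent_of_finite_tfae (G := U)).out 0 3
  have hnor := hall.1 hn
  obtain ⟨P⟩ : Nonempty (Sylow 2 U) := inferInstance
  obtain ⟨Q⟩ : Nonempty (Sylow q U) := inferInstance
  have hP := hnor 2 inferInstance P
  have hQ := hnor q inferInstance Q
  have hcP : (P : Subgroup U).Characteristic := P.characteristic_of_normal hP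
  have hcQ : (Q : Subgroup U).Characteristic := Q.characteristic_of_normal hQ
  have e1 : Nat.card (P : Subgroup U) = 2 ^ i := by
    rw [P.card_eq_multiplicity, hU, fac_left Nat.prime_two hq hq2.symm]
  have e2 : Nat.card (Q : Subgroup U) = q ^ j := by
    rw [Q.card_eq_multiplicity, hU, mul_comm, fac_left hq Nat.prime_two hq2]
  refine ⟨(P : Subgroup U).map U.subtype, (Q : Subgroup U).map U.subtype, map_subtype_le _,
    map_subtype_le _, ?_, ?_, ?_, ?_, ?_⟩
  · rw [card_map_of_injective U.subtype_injective, e1]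
  · rw [card_map_of_injective U.subtype_injective, e2]
  · exact fun g hg x hx => conj_mem_of_char _ hcP hg hx
  · exact fun g hg x hx => conj_mem_of_char _ hcQ hg hx
  · rintro x ⟨x, hx, rfl⟩ y ⟨y, hy, rfl⟩
    have hd := IsPGroup.disjoint_of_ne 2 q hq2.symm _ _ P.isPGroup' Q.isPGroup'
    have := Subgroup.commute_of_normal_of_disjoint _ _ hP hQ hd x y hx hy
    exact congrArg U.subtype this.eq

/-- divisors of the group order prime to three -/
theorem shape {q a b m : ℕ} (hq : q.Prime) (hm : m ∣ 9 * 2 ^ a * q ^ b) (h3 : ¬ 3 ∣ m) :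
    ∃ i j, i ≤ a ∧ j ≤ b ∧ m = 2 ^ i * q ^ j := by
  have hc : Nat.Coprime m 9 := by
    have : Nat.Coprime m 3 := ((Nat.Prime.coprime_iff_not_dvd Nat.prime_three).2 h3).symm
    exact Nat.Coprime.pow_right 2 this
  have h1 : m ∣ 2 ^ a * q ^ b := by
    rw [mul_assoc] at hm
    exact hc.dvd_of_dvd_mul_left hm
  obtain ⟨c, d, hc', hd', rfl⟩ := (Nat.dvd_mul).1 h1
  obtain ⟨i, hi, rfl⟩ := (Nat.dvd_prime_pow Nat.prime_two).1 hc'
  obtain ⟨j, hj, rfl⟩ := (Nat.dvd_prime_pow hq).1 hd'
  exact ⟨i, j, hi, hj, rfl⟩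

/-- a subgroup of order `2 ^ i` that is smaller than a Sylow subgroup grows in its normalizer -/
theorem grow {q a b : ℕ} (hcard : Nat.card G = 9 * 2 ^ a * q ^ b) {T : Subgroup G} {i : ℕ}
    (hT : Nat.card T = 2 ^ i) (hi : i < a) : 2 ^ (i + 1) ∣ Nat.card (normalizer (T : Set G)) := by
  have : Fact (Nat.Prime 2) := ⟨Nat.prime_two⟩
  apply Sylow.prime_pow_dvd_card_normalizer _ hT
  rw [hcard]
  exact ((pow_dvd_pow 2 hi).mul_left 9).mul_right _

/-- a group with a fixed point free element of order three has order `1 mod 3` -/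
theorem mod3 {k : G} (hk : orderOf k = 3) {X : Subgroup G} (hkX : ∀ x ∈ X, k * x * k⁻¹ ∈ X)
    (hf : ∀ x ∈ X, x * k = k * x → x = 1) : Nat.card X % 3 = 1 := by
  have : Fact (Nat.Prime 3) := ⟨Nat.prime_three⟩
  have hkn : k ∈ normalizer (X : Set G) := by
    have h1 : ∀ n : ℕ, ∀ x ∈ X, k ^ n * x * (k ^ n)⁻¹ ∈ X := by
      intro n
      induction n with
      | zero => intro x hx; simpa using hx
      | succ n ih =>
        intro x hx
        have := hkX _ (ih x hx)
        have e : k ^ (n + 1) * x * (k ^ (n + 1))⁻¹ = k * (k ^ n * x * (k ^ n)⁻¹) * k⁻¹ := by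
          rw [pow_succ']; group
        rw [e]; exact this
    rw [Subgroup.mem_normalizer_iff]
    intro x
    refine ⟨fun hx => hkX x hx, fun hx => ?_⟩
    have h2 := h1 2 _ hx
    have hk3 : k ^ 3 = 1 := by rw [← hk]; exact pow_orderOf_eq_one k
    have e : k ^ 2 * (k * x * k⁻¹) * (k ^ 2)⁻¹ = k ^ 3 * x * (k ^ 3)⁻¹ := by
      rw [pow_succ k 2]; group
    rw [e, hk3] at h2
    simpa using h2
  have hle : zpowers k ≤ normalizer (X : Set G) := by rwa [zpowers_le]
  let _ : MulAction (zpowers k) X := MulAction.compHom X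
    ((X.normalizerMonoidHom).comp (inclusion hle))
  have hp : IsPGroup 3 (zpowers k) := by
    apply IsPGroup.of_card (n := 1)
    rw [Nat.card_zpowers, hk, pow_one]
  have hm := hp.card_modEq_card_fixedPoints X
  have hfx : MulAction.fixedPoints (zpowers k) X = {1} := by
    ext x
    simp only [Set.mem_singleton_iff]
    constructor
    · intro hx
      have h3 := hx ⟨k, mem_zpowers k⟩
      have h4 : k * (x : G) * k⁻¹ = x := congrArg Subtype.val h3
      apply Subtype.ext
      apply hf x x.2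
      calc (x : G) * k = (k * x * k⁻¹) * k := by rw [h4]
        _ = k * x := by group
    · rintro rfl
      intro g
      exact map_one (X.normalizerMonoidHom (inclusion hle g) : X ≃* X)
  have h5 : Nat.card (MulAction.fixedPoints (zpowers k) X) = 1 := by
    rw [hfx]; simp
  rw [h5] at hm
  exact hm

end

end Cfsg.Agent.Lib.H15SF1
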