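import Mathlib
import Cfsg.Agent.Lib.H15SF1a

/-! Piece F1 of S2220: the argument, with the other pieces as hypotheses. -/

set_option autoImplicit false

namespace Cfsg.Agent.Lib.H15SF1

open Subgroup Cfsg.Agent.Lib.H15S

section
variable {G : Type*} [Group G] [Finite G]

omit [Finite G] in
theorem mem_cj {X : Subgroup G} {g x : G} :
    x ∈ X.map (MulAut.conj g).toMonoidHom ↔ g⁻¹ * x * g ∈ X := by
  constructor
  · rintro ⟨y, hy, rfl⟩
    have : g⁻¹ * (MulAut.conj g).toMonoidHom y * g = y := by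
      show g⁻¹ * (g * y * g⁻¹) * g = y
      group
    rw [this]; exact hy
  · intro hx
    refine ⟨g⁻¹ * x * g, hx, ?_⟩
    show g * (g⁻¹ * x * g) * g⁻¹ = x
    group

omit [Finite G] in
theorem le_nor {H A : Subgroup G} (h : ∀ g ∈ H, ∀ x ∈ A, g * x * g⁻¹ ∈ A) :
    H ≤ normalizer (A : Set G) := by
  intro g hg
  rw [Subgroup.mem_normalizer_iff]
  intro x
  refine ⟨fun hx => h g hg x hx, fun hx => ?_⟩
  have := h g⁻¹ (H.inv_mem hg) _ hx
  have e : g⁻¹ * (g * x * g⁻¹) * g⁻¹⁻¹ = x := by group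
  rwa [e] at this

omit [Finite G] in
theorem nor_mem {A : Subgroup G} {g x : G} (hg : g ∈ normalizer (A : Set G)) (hx : x ∈ A) :
    g * x * g⁻¹ ∈ A := (Subgroup.mem_normalizer_iff.1 hg x).1 hx

theorem two_three {A : Subgroup G} {i : ℕ} (hA : Nat.card A = 2 ^ i) {u : G} (hu : u ∈ A)
    (h3 : u ^ 3 = 1) : u = 1 := by
  rw [← orderOf_eq_one_iff]
  have h1 : orderOf u ∣ 2 ^ i := by
    rw [← hA, ← orderOf_mk u hu]; exact orderOf_dvd_natCard _
  have h2 : orderOf u ∣ 3 := orderOf_dvd_of_pow_eq_one h3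
  exact Nat.dvd_one.1 (by
    have : Nat.Coprime (2 ^ i) 3 := Nat.Coprime.pow_left i (by norm_num)
    rw [← this]; exact Nat.dvd_gcd h1 h2)

theorem mkSide (h : HK G) {S P A : Subgroup G} {i : ℕ} (hAS : A ≤ S) (hSP : S ≤ P)
    (nor : ∀ g ∈ P, ∀ u ∈ A, g * u * g⁻¹ ∈ A) (cS : Nat.card S = 2 ^ (i + 1))
    (cA : Nat.card A = 2 ^ i) (cP : Nat.card P = 6 * 2 ^ i) : Side S P A := by
  have : Fact (Nat.Prime 3) := ⟨Nat.prime_three⟩
  obtain ⟨⟨k1, hk1P⟩, hk1⟩ := exists_prime_orderOf_dvd_card' (G := P) 3 (by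
    rw [cP]; exact Dvd.dvd.mul_right (by norm_num) _)
  rw [orderOf_mk] at hk1
  have hfS : ∀ x ∈ S, x * k1 = k1 * x → x = 1 := fun x hx hc =>
    two_three cS hx (h.exp k1 x hk1 hc)
  have hfA : ∀ x ∈ A, x * k1 = k1 * x → x = 1 := fun x hx hc => hfS x (hAS hx) hc
  refine ⟨hAS, hSP, nor, by rw [cS, cA, pow_succ, mul_comm], by rw [cP, cA], ⟨k1, hk1P, hk1, hfA⟩, ?_⟩
  by_contra hcon
  push Not at hcon
  have m1 := mod3 hk1 (hcon k1 hk1P) hfS
  have m2 := mod3 hk1 (nor k1 hk1P) hfA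
  rw [cS, pow_succ] at m1
  rw [cA] at m2
  omega

/-- a subgroup of `S` normalized by `P` is contained in `A` -/
theorem keyA {S P A : Subgroup G} {i : ℕ} (hS : Side S P A) (cS : Nat.card S = 2 ^ (i + 1))
    (cA : Nat.card A = 2 ^ i) {T : Subgroup G} (hTS : T ≤ S)
    (hT : ∀ g ∈ P, ∀ t ∈ T, g * t * g⁻¹ ∈ T) : T ≤ A := by
  by_contra hTA
  have hle : A ⊔ T ≤ S := sup_le hS.US hTS
  have hlt : A < A ⊔ T := lt_of_le_of_ne le_sup_left (fun e => hTA (by rw [e]; exact le_sup_right))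
  have hd : Nat.card (A ⊔ T : Subgroup G) ∣ 2 ^ (i + 1) := by
    rw [← cS]; exact Subgroup.card_dvd_of_le hle
  obtain ⟨m, hm, hm'⟩ := (Nat.dvd_prime_pow Nat.prime_two).1 hd
  have hc : Nat.card A < Nat.card (A ⊔ T : Subgroup G) := by
    by_contra hge
    exact hlt.ne (Subgroup.eq_of_le_of_card_ge hlt.le (not_lt.1 hge))
  rw [cA, hm'] at hc
  have hmi : i < m := (Nat.pow_lt_pow_iff_right (by norm_num)).1 hc
  have hmm : m = i + 1 := by omega
  have heq : A ⊔ T = S := Subgroup.eq_of_le_of_card_ge hle (by rw [hm', cS, hmm])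
  obtain ⟨g, hg, s, hs, hns⟩ := hS.nS
  apply hns
  rw [← heq] at hs ⊢
  have hmap : (A ⊔ T).map (MulAut.conj g).toMonoidHom ≤ A ⊔ T := by
    rw [Subgroup.map_sup]
    apply sup_le
    · rintro _ ⟨x, hx, rfl⟩
      exact mem_sup_left (hS.nor g hg x hx)
    · rintro _ ⟨x, hx, rfl⟩
      exact mem_sup_right (hT g hg x hx)
  exact hmap ⟨s, hs, rfl⟩

/-- the configuration inside the normalizer of `U` -/
theorem config {U A B : Subgroup G} {q i j : ℕ} (hq : q.Prime) (hq2 : q ≠ 2) (hq3 : q ≠ 3)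
    (hBU : B ≤ U) (hcA : Nat.card A = 2 ^ i)
    (hcB : Nat.card B = q ^ j) (hcN : Nat.card (normalizer (U : Set G)) = 6 * (2 ^ i * q ^ j))
    (hAn : ∀ g ∈ normalizer (U : Set G), ∀ x ∈ A, g * x * g⁻¹ ∈ A)
    (hAU : A ≤ U)
    (hBn : ∀ g ∈ normalizer (U : Set G), ∀ x ∈ B, g * x * g⁻¹ ∈ B) :
    ∃ P S : Subgroup G, P ≤ normalizer (U : Set G) ∧ normalizer (U : Set G) ≤ B ⊔ P ∧
      Nat.card P = 6 * 2 ^ i ∧ S ≤ P ∧ Nat.card S = 2 ^ (i + 1) ∧ A ≤ S := by
  have : Fact (Nat.Prime 2) := ⟨Nat.prime_two⟩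
  set N := normalizer (U : Set G) with hN
  have hUN : U ≤ N := Subgroup.le_normalizer
  have hBN : B ≤ N := hBU.trans hUN
  have : (B.subgroupOf N).Normal := by
    constructor
    rintro ⟨x, hxN⟩ hx ⟨g, hg⟩
    rw [mem_subgroupOf] at hx ⊢
    exact hBn g hg x hx
  have c1 : Nat.card (B.subgroupOf N) = q ^ j := by
    rw [Nat.card_congr (subgroupOfEquivOfLe hBN).toEquiv, hcB]
  have hqp : 0 < q ^ j := pow_pos hq.pos j
  have c2 : (B.subgroupOf N).index = 6 * 2 ^ i := by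
    have h1 := (B.subgroupOf N).card_mul_index
    rw [c1, hcN] at h1
    have : q ^ j * (B.subgroupOf N).index = q ^ j * (6 * 2 ^ i) := by rw [h1]; ring
    exact Nat.eq_of_mul_eq_mul_left hqp this
  have hcop : Nat.Coprime (Nat.card (B.subgroupOf N)) (B.subgroupOf N).index := by
    rw [c1, c2]
    apply Nat.Coprime.pow_left
    have e2 : Nat.Coprime q 2 := (Nat.coprime_primes hq Nat.prime_two).2 hq2
    have e3 : Nat.Coprime q 3 := (Nat.coprime_primes hq Nat.prime_three).2 hq3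
    have e6 : Nat.Coprime q 6 := by
      rw [show (6 : ℕ) = 2 * 3 by norm_num]; exact Nat.Coprime.mul_right e2 e3
    exact Nat.Coprime.mul_right e6 (e2.pow_right i)
  obtain ⟨C, hC⟩ := Subgroup.exists_right_complement'_of_coprime hcop
  have hcC : Nat.card C = 6 * 2 ^ i := by
    have h1 := hC.card_mul_card
    rw [c1, hcN] at h1
    have : q ^ j * Nat.card C = q ^ j * (6 * 2 ^ i) := by rw [h1]; ring
    exact Nat.eq_of_mul_eq_mul_left hqp this
  set P := C.map N.subtype with hP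
  have hPN : P ≤ N := map_subtype_le _
  have hcP : Nat.card P = 6 * 2 ^ i := by
    rw [hP, card_map_of_injective N.subtype_injective, hcC]
  have hsup : N ≤ B ⊔ P := by
    have h1 := hC.sup_eq_top
    have h2 := congrArg (fun X : Subgroup N => X.map N.subtype) h1
    simp only [Subgroup.map_sup] at h2
    rw [subgroupOf_map_subtype, inf_eq_left.2 hBN, ← MonoidHom.range_eq_map, range_subtype] at h2
    rw [hP, h2]
  obtain ⟨Q⟩ : Nonempty (Sylow 2 P) := inferInstance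
  have hcS : Nat.card ((Q : Subgroup P).map P.subtype) = 2 ^ (i + 1) := by
    rw [card_map_of_injective P.subtype_injective, Q.card_eq_multiplicity, hcP,
      show 6 * 2 ^ i = 2 ^ (i + 1) * 3 ^ 1 by rw [pow_succ]; ring,
      fac_left Nat.prime_two Nat.prime_three (by norm_num)]
  refine ⟨P, (Q : Subgroup P).map P.subtype, hPN, hsup, hcP, map_subtype_le _, hcS, ?_⟩
  set S := (Q : Subgroup P).map P.subtype with hS
  have hSP : S ≤ P := map_subtype_le _
  have hpS : IsPGroup 2 S := IsPGroup.of_card hcS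
  have hpA : IsPGroup 2 A := IsPGroup.of_card hcA
  have hle : S ≤ normalizer (A : Set G) :=
    le_nor (fun g hg x hx => hAn g (hPN (hSP hg)) x hx)
  have hpSA := hpS.to_sup_of_normal_right' hpA hle
  obtain ⟨m, hm⟩ := IsPGroup.iff_card.1 hpSA
  have hSAN : S ⊔ A ≤ N := sup_le (hSP.trans hPN) (hAU.trans hUN)
  have hd : 2 ^ m ∣ 6 * (2 ^ i * q ^ j) := by
    rw [← hm, ← hcN]; exact Subgroup.card_dvd_of_le hSAN
  have hmi : m ≤ i + 1 := by
    have h5 : 2 ^ m ∣ 2 ^ (i + 1) * (3 * q ^ j) := by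
      have e : 6 * (2 ^ i * q ^ j) = 2 ^ (i + 1) * (3 * q ^ j) := by rw [pow_succ]; ring
      rwa [e] at hd
    have hcp : Nat.Coprime (2 ^ m) (3 * q ^ j) := by
      apply Nat.Coprime.pow_left
      exact Nat.Coprime.mul_right (by norm_num)
        (((Nat.coprime_primes Nat.prime_two hq).2 hq2.symm).pow_right j)
    exact (Nat.pow_dvd_pow_iff_le_right (by norm_num)).1 (hcp.dvd_of_dvd_mul_right h5)
  have heq : S = S ⊔ A := Subgroup.eq_of_le_of_card_ge le_sup_left (by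
    rw [hm, hcS]; exact Nat.pow_le_pow_right (by norm_num) hmi)
  rw [heq]; exact le_sup_right

end

end Cfsg.Agent.Lib.H15SF1
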