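import Mathlib
import Cfsg.Agent.Lib.H15SF1b

/-! Piece F1 of S2220: the argument, with the other pieces as hypotheses. -/

set_option autoImplicit false

namespace Cfsg.Agent.Lib.H15SF1

open Subgroup Cfsg.Agent.Lib.H15S

section
variable {G : Type*} [Group G] [Finite G]

/-- the case `|N(U)| = 6 |U|`: the Sylow 2-subgroups of `N(U)` are Sylow in `G` -/
theorem case6 (h : HK G) {q a b : ℕ} (hq : q.Prime) (hq2 : q ≠ 2) (hq3 : q ≠ 3)
    (hcard : Nat.card G = 9 * 2 ^ a * q ^ b) {U A B : Subgroup G} {i j : ℕ} (hi3 : 3 ≤ i)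
    (hAU : A ≤ U) (hBU : B ≤ U)
    (hcA : Nat.card A = 2 ^ i) (hcB : Nat.card B = q ^ j)
    (hcN : Nat.card (normalizer (U : Set G)) = 6 * (2 ^ i * q ^ j))
    (hAn : ∀ g ∈ normalizer (U : Set G), ∀ x ∈ A, g * x * g⁻¹ ∈ A)
    (hBn : ∀ g ∈ normalizer (U : Set G), ∀ x ∈ B, g * x * g⁻¹ ∈ B)
    (hAB : ∀ x ∈ A, ∀ y ∈ B, x * y = y * x)
    (hC : ∀ T : Subgroup G, T ≠ ⊥ → T ≤ U → normalizer (U : Set G) ≤ normalizer (T : Set G) →
      normalizer (T : Set G) = normalizer (U : Set G))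
    (hGam : ∀ S H₁ H₂ U₁ U₂ : Subgroup G, IsPGroup 2 S → Side S H₁ U₁ → Side S H₂ U₂ →
      (∀ T : Subgroup G, T ≠ ⊥ → T ≤ S → (∀ g ∈ H₁, ∀ t ∈ T, g * t * g⁻¹ ∈ T) →
      (∀ g ∈ H₂, ∀ t ∈ T, g * t * g⁻¹ ∈ T) → False) → Nat.card S ≤ 8)
    (hia : i + 1 < a) : False := by
  obtain ⟨P, S, hPN, hsup, hcP, hSP, hcS, hAS⟩ :=
    config hq hq2 hq3 hBU hcA hcB hcN hAn hAU hBn
  have hside : Side S P A := mkSide h hAS hSP (fun g hg x hx => hAn g (hPN hg) x hx) hcS hcA hcP
  have hA1 : A ≠ ⊥ := by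
    rintro rfl
    rw [card_bot] at hcA
    have := Nat.one_lt_two_pow (n := i) (by omega)
    omega
  -- the key fact
  have key : ∀ T : Subgroup G, T ≠ ⊥ → T ≤ S → (∀ g ∈ P, ∀ t ∈ T, g * t * g⁻¹ ∈ T) →
      normalizer (T : Set G) = normalizer (U : Set G) := by
    intro T hT1 hTS hTP
    have hTA : T ≤ A := keyA hside hcS hcA hTS hTP
    apply hC T hT1 (hTA.trans hAU)
    refine hsup.trans (sup_le ?_ (le_nor hTP))
    apply le_nor
    intro g hg t ht
    have h1 := hAB t (hTA ht) g hg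
    rw [← h1]
    simpa using ht
  have hNA : normalizer (A : Set G) = normalizer (U : Set G) :=
    key A hA1 hAS (fun g hg x hx => hAn g (hPN hg) x hx)
  -- an element outside
  obtain ⟨g, hgS, hgN⟩ : ∃ g ∈ normalizer (S : Set G), g ∉ normalizer (U : Set G) := by
    by_contra hcon
    push Not at hcon
    have hle : normalizer (S : Set G) ≤ normalizer (U : Set G) := hcon
    have h1 := (grow hcard hcS hia).trans (Subgroup.card_dvd_of_le hle)
    rw [hcN] at h1
    have e : 6 * (2 ^ i * q ^ j) = 2 ^ (i + 1) * (3 * q ^ j) := by rw [pow_succ]; ring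
    rw [e, pow_succ] at h1
    have h2 : 2 ∣ 3 * q ^ j := Nat.dvd_of_mul_dvd_mul_left (by positivity) h1
    have hcp : Nat.Coprime 2 (3 * q ^ j) := Nat.Coprime.mul_right (by norm_num)
      (((Nat.coprime_primes Nat.prime_two hq).2 hq2.symm).pow_right j)
    have h3 := Nat.Coprime.eq_one_of_dvd hcp h2
    omega
  have hgi : g⁻¹ ∈ normalizer (S : Set G) := inv_mem hgS
  have hinjg : Function.Injective (MulAut.conj g).toMonoidHom := (MulAut.conj g).injective
  have hside2 : Side S (P.map (MulAut.conj g).toMonoidHom) (A.map (MulAut.conj g).toMonoidHom) := by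
    apply mkSide h (i := i)
    · rintro _ ⟨x, hx, rfl⟩
      exact nor_mem hgS (hAS hx)
    · intro s hs
      rw [mem_cj]
      have := nor_mem hgi hs
      rw [inv_inv] at this
      exact hSP this
    · intro y hy x hx
      rw [mem_cj] at hy hx ⊢
      have := hAn _ (hPN hy) _ hx
      have e : g⁻¹ * (y * x * y⁻¹) * g = (g⁻¹ * y * g) * (g⁻¹ * x * g) * (g⁻¹ * y * g)⁻¹ := by
        group
      rw [e]; exact this
    · exact hcS
    · rw [card_map_of_injective hinjg, hcA]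
    · rw [card_map_of_injective hinjg, hcP]
  have h8 := hGam S P _ A _ (IsPGroup.of_card hcS) hside hside2 (by
    intro T hT1 hTS hTP hTP2
    have e1 := key T hT1 hTS hTP
    have e2 : normalizer ((T.map (MulAut.conj g⁻¹).toMonoidHom : Subgroup G) : Set G) =
        normalizer (U : Set G) := by
      apply key
      · intro hb
        apply hT1
        exact (Subgroup.map_eq_bot_iff_of_injective T (MulAut.conj g⁻¹).injective).1 hb
      · rintro _ ⟨x, hx, rfl⟩
        exact nor_mem hgi (hTS hx)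
      · intro y hy x hx
        rw [mem_cj] at hx ⊢
        rw [inv_inv] at hx ⊢
        have := hTP2 (g * y * g⁻¹) (by rw [mem_cj]; have e : g⁻¹ * (g * y * g⁻¹) * g = y := by group
                                       rw [e]; exact hy) _ hx
        have e : g * (y * x * y⁻¹) * g⁻¹ = (g * y * g⁻¹) * (g * x * g⁻¹) * (g * y * g⁻¹)⁻¹ := by
          group
        rw [e]; exact this
    -- `g` normalizes `N(U)`
    have hconj : ∀ y, y ∈ normalizer (U : Set G) → g⁻¹ * y * g ∈ normalizer (U : Set G) := by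
      intro y hy
      rw [← e1] at hy
      rw [← e2]
      apply (le_nor (H := (normalizer (T : Set G)).map (MulAut.conj g⁻¹).toMonoidHom) ?_)
      · rw [mem_cj, inv_inv]
        have e : g * (g⁻¹ * y * g) * g⁻¹ = y := by group
        rw [e]; exact hy
      · intro z hz x hx
        rw [mem_cj] at hz hx ⊢
        rw [inv_inv] at hz hx ⊢
        have := nor_mem hz hx
        have e : g * (z * x * z⁻¹) * g⁻¹ = (g * z * g⁻¹) * (g * x * g⁻¹) * (g * z * g⁻¹)⁻¹ := by
          group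
        rw [e]; exact this
    -- the conjugate of `A`
    have h1 : A.map (MulAut.conj g).toMonoidHom ≤ A := by
      apply keyA hside hcS hcA hside2.US
      intro y hy x hx
      rw [mem_cj] at hx ⊢
      have := hAn _ (hconj y (hPN hy)) _ hx
      have e : g⁻¹ * (y * x * y⁻¹) * g = (g⁻¹ * y * g) * (g⁻¹ * x * g) * (g⁻¹ * y * g)⁻¹ := by
        group
      rw [e]; exact this
    have h2 : A.map (MulAut.conj g).toMonoidHom = A := Subgroup.eq_of_le_of_card_ge h1 (by
      rw [card_map_of_injective hinjg])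
    apply hgN
    rw [← hNA, Subgroup.mem_normalizer_iff]
    intro x
    constructor
    · intro hx
      exact h1 ⟨x, hx, rfl⟩
    · intro hx
      have hx' : g * x * g⁻¹ ∈ A.map (MulAut.conj g).toMonoidHom := by rw [h2]; exact hx
      rw [mem_cj] at hx'
      have e : g⁻¹ * (g * x * g⁻¹) * g = x := by group
      rwa [e] at hx')
  rw [hcS] at h8
  have : 2 ^ 4 ≤ 2 ^ (i + 1) := Nat.pow_le_pow_right (by norm_num) (by omega)
  omega

theorem F1' [IsSimpleGroup G] (h : HK G) {q a b : ℕ} (hq : q.Prime) (hq2 : q ≠ 2) (hq3 : q ≠ 3)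
    (hcard : Nat.card G = 9 * 2 ^ a * q ^ b) {k : G}
    {U : Subgroup G} (hU : KMax k U) (h8 : 8 ∣ Nat.card U)
    (hB : Group.IsNilpotent U ∧ k ∈ normalizer (U : Set G) ∧
      (Nat.card (normalizer (U : Set G)) = 3 * Nat.card U ∨
        Nat.card (normalizer (U : Set G)) = 6 * Nat.card U))
    (hC : ∀ T : Subgroup G, T ≠ ⊥ → T ≤ U → normalizer (U : Set G) ≤ normalizer (T : Set G) →
      (Nat.card (normalizer (U : Set G)) = 6 * Nat.card U ∨ ¬ IsPGroup 2 U) →
      normalizer (T : Set G) = normalizer (U : Set G))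
    (hE : q ∣ Nat.card U → q ^ b ∣ Nat.card U)
    (hGam : ∀ S H₁ H₂ U₁ U₂ : Subgroup G, IsPGroup 2 S → Side S H₁ U₁ → Side S H₂ U₂ →
      (∀ T : Subgroup G, T ≠ ⊥ → T ≤ S → (∀ g ∈ H₁, ∀ t ∈ T, g * t * g⁻¹ ∈ T) →
      (∀ g ∈ H₂, ∀ t ∈ T, g * t * g⁻¹ ∈ T) → False) → Nat.card S ≤ 8) :
    IsPGroup 2 U ∧
      ((Nat.card (normalizer (U : Set G)) = 3 * Nat.card U ∧ Nat.card U = 2 ^ a) ∨
        (Nat.card (normalizer (U : Set G)) = 6 * Nat.card U ∧ 2 * Nat.card U = 2 ^ a)) := by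
  obtain ⟨⟨hkU, h3U⟩, hU1, hmax⟩ := hU
  obtain ⟨hn, hkN, hor⟩ := hB
  obtain ⟨i, j, hi, hj, hcU⟩ := shape hq (hcard ▸ U.card_subgroup_dvd_card) h3U
  obtain ⟨A, B, hAU, hBU, hcA, hcB, hAn, hBn, hAB⟩ := parts hn hq hq2 hcU
  have hi3 : 3 ≤ i := by
    have h1 : 2 ^ 3 ∣ 2 ^ i * q ^ j := by rw [← hcU]; exact h8
    have hc : Nat.Coprime (2 ^ 3) (q ^ j) :=
      Nat.Coprime.pow 3 j ((Nat.coprime_primes Nat.prime_two hq).2 hq2.symm)
    exact (Nat.pow_dvd_pow_iff_le_right (by norm_num)).1 (hc.dvd_of_dvd_mul_right h1)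
  have hA1 : A ≠ ⊥ := by
    rintro rfl
    rw [card_bot] at hcA
    have := Nat.one_lt_two_pow (n := i) (by omega)
    omega
  have hNA : normalizer (U : Set G) ≤ normalizer (A : Set G) := le_nor hAn
  have h2q : Nat.Coprime 2 (q ^ j) := ((Nat.coprime_primes Nat.prime_two hq).2 hq2.symm).pow_right j
  have hp2 : j = 0 → IsPGroup 2 U := fun h0 => IsPGroup.of_card (n := i) (by
    rw [hcU, h0, pow_zero, mul_one])
  have hnp : j ≠ 0 → ¬ IsPGroup 2 U := by
    intro h0 hp
    have : Fact (Nat.Prime 2) := ⟨Nat.prime_two⟩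
    obtain ⟨n, hn'⟩ := IsPGroup.iff_card.1 hp
    have h1 : q ∣ 2 ^ n := by
      rw [← hn', hcU]; exact (dvd_pow_self q h0).mul_left _
    exact hq2 ((Nat.prime_dvd_prime_iff_eq hq Nat.prime_two).1 (hq.dvd_of_dvd_pow h1))
  -- if `i` is right then `j = 0`
  have hj0 : ∀ c : ℕ, Nat.card (normalizer (U : Set G)) = c * Nat.card U → c * 2 ^ i = 3 * 2 ^ a →
      j = 0 := by
    intro c hc1 hc2
    by_contra h0
    have hqU : q ∣ Nat.card U := by rw [hcU]; exact (dvd_pow_self q h0).mul_left _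
    have h1 := hE hqU
    rw [hcU] at h1
    have hcq : Nat.Coprime (q ^ b) (2 ^ i) :=
      Nat.Coprime.pow b i ((Nat.coprime_primes hq Nat.prime_two).2 hq2)
    have h2 := (Nat.pow_dvd_pow_iff_le_right hq.one_lt).1 (hcq.dvd_of_dvd_mul_left h1)
    have hjb : j = b := le_antisymm hj h2
    refine idx3 (G := G) ?_ (normalizer (U : Set G)) ?_
    · rw [hcard, mul_assoc]; exact Dvd.intro _ rfl
    · rw [hc1, hcU, hcard, ← hjb]
      calc 9 * 2 ^ a * q ^ j = 3 * (3 * 2 ^ a) * q ^ j := by ring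
        _ = 3 * (c * (2 ^ i * q ^ j)) := by rw [← hc2]; ring
  rcases hor with hor | hor
  · -- index three
    have hia : i = a := by
      by_contra hne
      have hlt : i < a := lt_of_le_of_ne hi hne
      have h1 : 2 ^ (i + 1) ∣ Nat.card (normalizer (U : Set G)) := by
        by_cases h0 : j = 0
        · exact grow hcard (T := U) (by rw [hcU, h0, pow_zero, mul_one]) hlt
        · rw [← hC A hA1 hAU hNA (Or.inr (hnp h0))]
          exact grow hcard hcA hlt
      rw [hor, hcU] at h1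
      have e : 3 * (2 ^ i * q ^ j) = 2 ^ i * (3 * q ^ j) := by ring
      rw [e, pow_succ] at h1
      have h2 : 2 ∣ 3 * q ^ j := Nat.dvd_of_mul_dvd_mul_left (by positivity) h1
      have h3 := Nat.Coprime.eq_one_of_dvd (Nat.Coprime.mul_right (by norm_num) h2q) h2
      omega
    have h0 := hj0 3 hor (by rw [hia])
    exact ⟨hp2 h0, Or.inl ⟨hor, by rw [hcU, h0, pow_zero, mul_one, hia]⟩⟩
  · have hcN : Nat.card (normalizer (U : Set G)) = 6 * (2 ^ i * q ^ j) := by rw [hor, hcU]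
    have hle : i + 1 ≤ a := by
      have h1 : 2 ^ (i + 1) ∣ 9 * 2 ^ a * q ^ b := by
        rw [← hcard]
        refine Dvd.dvd.trans ?_ (Subgroup.card_subgroup_dvd_card (normalizer (U : Set G)))
        rw [hcN]
        exact ⟨3 * q ^ j, by rw [pow_succ]; ring⟩
      have e : 9 * 2 ^ a * q ^ b = 2 ^ a * (9 * q ^ b) := by ring
      rw [e] at h1
      have hcp : Nat.Coprime (2 ^ (i + 1)) (9 * q ^ b) := by
        apply Nat.Coprime.pow_left
        exact Nat.Coprime.mul_right (by norm_num)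
          (((Nat.coprime_primes Nat.prime_two hq).2 hq2.symm).pow_right b)
      exact (Nat.pow_dvd_pow_iff_le_right (by norm_num)).1 (hcp.dvd_of_dvd_mul_right h1)
    have hia : i + 1 = a := by
      by_contra hne
      exact case6 h hq hq2 hq3 hcard hi3 hAU hBU hcA hcB hcN hAn hBn hAB
        (fun T h1 h2 h3 => hC T h1 h2 h3 (Or.inl hor)) hGam (lt_of_le_of_ne hle hne)
    have h0 := hj0 6 hor (by rw [← hia, pow_succ]; ring)
    exact ⟨hp2 h0, Or.inr ⟨hor, by rw [hcU, h0, pow_zero, mul_one, ← hia, pow_succ, mul_comm]⟩⟩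

end

end Cfsg.Agent.Lib.H15SF1
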