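import Mathlib
import Cfsg.Agent.Lib.H15S0

set_option autoImplicit false
set_option linter.all false

namespace Cfsg.Agent.Lib.H15SF2

open Subgroup Cfsg.Agent.Lib.H15S

variable {G : Type*} [Group G] [Finite G]

theorem fac {m a : ℕ} (hm : ¬ 2 ∣ m) : (m * 2 ^ a).factorization 2 = a := by
  have hm0 : m ≠ 0 := by rintro rfl; exact hm (dvd_zero 2)
  rw [Nat.factorization_mul hm0 (by positivity), Nat.factorization_pow, Finsupp.add_apply, Finsupp.smul_apply,
    Nat.factorization_eq_zero_of_not_dvd hm, Nat.prime_two.factorization_self]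
  simp

theorem k_mem_norm {k : G} {U : Subgroup G} (hU : KInv k U) : k ∈ normalizer (U : Set G) := by
  have hle : U.map (MulAut.conj k).toMonoidHom ≤ U := by
    rintro _ ⟨u, hu, rfl⟩
    exact hU.1 u hu
  have heq : U.map (MulAut.conj k).toMonoidHom = U := by
    refine Subgroup.eq_of_le_of_card_ge hle ?_
    rw [Subgroup.card_map_of_injective (MulAut.conj k).injective]
  rw [mem_normalizer_iff]
  intro u
  constructor
  · intro hu
    exact hU.1 u hu
  · intro hu
    have : k * u * k⁻¹ ∈ U.map (MulAut.conj k).toMonoidHom := by rw [heq]; exact hu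
    obtain ⟨v, hv, hv'⟩ := this
    have : v = u := by
      have h1 : k * v * k⁻¹ = k * u * k⁻¹ := hv'
      simpa using h1
    rw [← this]; exact hv

theorem fpf (h : HK G) {k : G} (hk : orderOf k = 3) {U : Subgroup G} (hU : KInv k U) :
    ∀ u ∈ U, u * k = k * u → u = 1 := by
  intro u hu hc
  have h3 := h.exp k u hk hc
  have h1 : orderOf u ∣ 3 := orderOf_dvd_of_pow_eq_one h3
  have h2 : orderOf u ∣ Nat.card U := by
    rw [← Subgroup.orderOf_mk u hu]
    exact orderOf_dvd_natCard _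
  rcases (Nat.dvd_prime Nat.prime_three).1 h1 with h4 | h4
  · exact orderOf_eq_one_iff.1 h4
  · rw [h4] at h2; exact absurd h2 hU.2

theorem pgroup_kinv {k : G} {T : Subgroup G} (hT : IsPGroup 2 T) (hk : ∀ u ∈ T, k * u * k⁻¹ ∈ T) : KInv k T := by
  refine ⟨hk, fun h3 => ?_⟩
  haveI : Fact (Nat.Prime 2) := ⟨Nat.prime_two⟩
  obtain ⟨n, hn⟩ := IsPGroup.iff_card.1 hT
  rw [hn] at h3
  have := Nat.Prime.dvd_of_dvd_pow Nat.prime_three h3
  omega

/-- a 2-subgroup normalized by `N(U)` lies in `U` -/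
theorem le_U {k : G} {U T : Subgroup G} (hU : KMax k U) (h2 : IsPGroup 2 U) (hT : IsPGroup 2 T)
    (hn : ∀ g ∈ normalizer (U : Set G), ∀ t ∈ T, g * t * g⁻¹ ∈ T) : T ≤ U := by
  have hk := k_mem_norm hU.1
  have hUT : ∀ t ∈ T, t ∈ normalizer (U : Set G) → True := fun _ _ _ => trivial
  have hUnT : U ≤ normalizer (T : Set G) := by
    intro u hu
    rw [mem_normalizer_iff]
    intro t
    constructor
    · intro ht; exact hn u (le_normalizer hu) t ht
    · intro ht
      have := hn u⁻¹ (inv_mem (le_normalizer hu)) _ ht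
      simpa [mul_assoc] using this
  have hs : IsPGroup 2 (U ⊔ T : Subgroup G) := IsPGroup.to_sup_of_normal_right' h2 hT hUnT
  have hki : ∀ u ∈ (U ⊔ T : Subgroup G), k * u * k⁻¹ ∈ (U ⊔ T : Subgroup G) := by
    intro u hu
    have h1 : (U ⊔ T).map (MulAut.conj k).toMonoidHom ≤ U ⊔ T := by
      rw [Subgroup.map_sup]
      refine sup_le_sup ?_ ?_
      · rintro _ ⟨v, hv, rfl⟩; exact hU.1.1 v hv
      · rintro _ ⟨v, hv, rfl⟩; exact hn k hk v hv
    exact h1 ⟨u, hu, rfl⟩
  have := hU.2.2 _ (pgroup_kinv hs hki) le_sup_left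
  rw [← this]; exact le_sup_right

theorem card_mod (h : HK G) {k : G} (hk : orderOf k = 3) {U : Subgroup G} (hU : KInv k U) :
    Nat.card U % 3 = 1 := by
  -- the group generated by `k` acts on `U`
  haveI : Fact (Nat.Prime 3) := ⟨Nat.prime_three⟩
  have hkn := k_mem_norm hU
  let act : MulAction (zpowers k) U :=
    MulAction.compHom U (MonoidHom.comp (Subgroup.normalizerMonoidHom U)
      (Subgroup.inclusion ((zpowers_le.2 hkn) : zpowers k ≤ normalizer (U : Set G))))
  have hsm : ∀ (g : zpowers k) (u : U), ((act.toSMul.smul g u : U) : G) = (g : G) * u * (g : G)⁻¹ := by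
    intro g u; rfl
  have hp : IsPGroup 3 (zpowers k) := by
    refine IsPGroup.of_card (n := 1) ?_
    rw [Nat.card_zpowers, hk]; rfl
  letI := act
  have hmod := hp.card_modEq_card_fixedPoints U
  have hfix : Nat.card (@MulAction.fixedPoints (zpowers k) U _ act) = 1 := by
    rw [Nat.card_eq_one_iff_unique]
    constructor
    · constructor
      rintro ⟨u, hu⟩ ⟨v, hv⟩
      have key : ∀ w : U, w ∈ (@MulAction.fixedPoints (zpowers k) U _ act) → w = 1 := by
        intro w hw
        have h1 := hw ⟨k, mem_zpowers k⟩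
        have h2 : k * (w : G) * k⁻¹ = w := by
          have := congrArg (fun z : U => (z : G)) h1
          simpa using (hsm ⟨k, mem_zpowers k⟩ w).symm.trans this
        have h3 : (w : G) * k = k * w := by
          calc (w : G) * k = (k * w * k⁻¹) * k := by rw [h2]
            _ = k * w := by group
        exact Subtype.ext (fpf h hk hU w w.2 h3)
      exact Subtype.ext ((key u hu).trans (key v hv).symm)
    · refine ⟨⟨1, ?_⟩⟩
      intro g
      apply Subtype.ext
      have h1 : ((act.toSMul.smul g (1 : U) : U) : G) = ((1 : U) : G) := by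
        rw [hsm g 1]; simp
      exact h1
  rw [hfix] at hmod
  exact hmod

theorem kmax_conj {k : G} {U : Subgroup G} (hU : KMax k U) (g : G) :
    KMax (g * k * g⁻¹) (U.map (MulAut.conj g).toMonoidHom) := by
  refine ⟨⟨?_, ?_⟩, ?_, ?_⟩
  · rintro _ ⟨u, hu, rfl⟩
    refine ⟨k * u * k⁻¹, hU.1.1 u hu, ?_⟩
    show g * (k * u * k⁻¹) * g⁻¹ = g * k * g⁻¹ * (g * u * g⁻¹) * (g * k * g⁻¹)⁻¹
    group
  · rw [Subgroup.card_map_of_injective (MulAut.conj g).injective]
    exact hU.1.2
  · intro hb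
    rw [Subgroup.map_eq_bot_iff_of_injective _ (MulAut.conj g).injective] at hb
    exact hU.2.1 hb
  · intro V hV hle
    have h1 : KInv k (V.map (MulAut.conj g⁻¹).toMonoidHom) := by
      refine ⟨?_, ?_⟩
      · rintro _ ⟨v, hv, rfl⟩
        refine ⟨(g * k * g⁻¹) * v * (g * k * g⁻¹)⁻¹, hV.1 v hv, ?_⟩
        show g⁻¹ * ((g * k * g⁻¹) * v * (g * k * g⁻¹)⁻¹) * g⁻¹⁻¹ = k * (g⁻¹ * v * g⁻¹⁻¹) * k⁻¹
        group
      · rw [Subgroup.card_map_of_injective (MulAut.conj g⁻¹).injective]
        exact hV.2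
    have h2 : U ≤ V.map (MulAut.conj g⁻¹).toMonoidHom := by
      intro u hu
      refine ⟨g * u * g⁻¹, hle ⟨u, hu, rfl⟩, ?_⟩
      show g⁻¹ * (g * u * g⁻¹) * g⁻¹⁻¹ = u
      group
    have h3 := hU.2.2 _ h1 h2
    rw [← h3]
    ext v
    constructor
    · intro hv
      refine ⟨g⁻¹ * v * g, ⟨v, hv, ?_⟩, ?_⟩
      · show g⁻¹ * v * g⁻¹⁻¹ = g⁻¹ * v * g
        group
      · show g * (g⁻¹ * v * g) * g⁻¹ = v
        group
    · rintro ⟨w, ⟨v', hv', rfl⟩, rfl⟩
      have : (MulAut.conj g).toMonoidHom ((MulAut.conj g⁻¹).toMonoidHom v') = v' := by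
        show g * (g⁻¹ * v' * g⁻¹⁻¹) * g⁻¹ = v'
        group
      rw [this]; exact hv'

theorem norm_map (U : Subgroup G) (g : G) :
    normalizer ((U.map (MulAut.conj g).toMonoidHom : Subgroup G) : Set G) =
      (normalizer (U : Set G)).map (MulAut.conj g).toMonoidHom := by
  ext x
  constructor
  · intro hx
    refine ⟨g⁻¹ * x * g, ?_, ?_⟩
    · show g⁻¹ * x * g ∈ normalizer (U : Set G)
      rw [mem_normalizer_iff] at hx ⊢
      intro u
      have h1 := hx (g * u * g⁻¹)
      have h2 : g * u * g⁻¹ ∈ U.map (MulAut.conj g).toMonoidHom ↔ u ∈ U := by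
        constructor
        · rintro ⟨v, hv, hv'⟩
          have : g * v * g⁻¹ = g * u * g⁻¹ := hv'
          have : v = u := by simpa using this
          rw [← this]; exact hv
        · intro hu; exact ⟨u, hu, rfl⟩
      have h3 : x * (g * u * g⁻¹) * x⁻¹ ∈ U.map (MulAut.conj g).toMonoidHom ↔
          g⁻¹ * x * g * u * (g⁻¹ * x * g)⁻¹ ∈ U := by
        constructor
        · rintro ⟨v, hv, hv'⟩
          have h4 : g * v * g⁻¹ = x * (g * u * g⁻¹) * x⁻¹ := hv'
          have : v = g⁻¹ * x * g * u * (g⁻¹ * x * g)⁻¹ := by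
            have : v = g⁻¹ * (g * v * g⁻¹) * g := by group
            rw [this, h4]; group
          rw [← this]; exact hv
        · intro hu
          refine ⟨_, hu, ?_⟩
          show g * (g⁻¹ * x * g * u * (g⁻¹ * x * g)⁻¹) * g⁻¹ = x * (g * u * g⁻¹) * x⁻¹
          group
      rw [← h2, h1, h3]
    · show g * (g⁻¹ * x * g) * g⁻¹ = x
      group
  · rintro ⟨y, hy, rfl⟩
    have hy' : y ∈ normalizer (U : Set G) := hy
    rw [mem_normalizer_iff] at hy' ⊢
    intro u
    constructor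
    · rintro ⟨v, hv, rfl⟩
      refine ⟨y * v * y⁻¹, (hy' v).1 hv, ?_⟩
      show g * (y * v * y⁻¹) * g⁻¹ = (g * y * g⁻¹) * (g * v * g⁻¹) * (g * y * g⁻¹)⁻¹
      group
    · rintro ⟨v, hv, hv'⟩
      have h4 : g * v * g⁻¹ = (g * y * g⁻¹) * u * (g * y * g⁻¹)⁻¹ := hv'
      refine ⟨y⁻¹ * v * y, ?_, ?_⟩
      · rw [SetLike.mem_coe, hy' _]
        have : y * (y⁻¹ * v * y) * y⁻¹ = v := by group
        rw [this]; exact hv
      · show g * (y⁻¹ * v * y) * g⁻¹ = u
        have h5 : g * (y⁻¹ * v * y) * g⁻¹ = (g * y * g⁻¹)⁻¹ * (g * v * g⁻¹) * (g * y * g⁻¹) := by group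
        rw [h5, h4]; group

theorem side (h : HK G) {k : G} (hk : orderOf k = 3) {U S : Subgroup G} (hU : KMax k U) (h2 : IsPGroup 2 U)
    (hS : IsPGroup 2 S) (hcH : Nat.card (normalizer (U : Set G)) = 6 * Nat.card U)
    (hcS : Nat.card S = 2 * Nat.card U) (hSH : S ≤ normalizer (U : Set G)) (hUS : U ≤ S) :
    Side S (normalizer (U : Set G)) U := by
  have hkn := k_mem_norm hU.1
  refine ⟨hUS, hSH, ?_, hcS, hcH, ⟨k, hkn, hk, fpf h hk hU.1⟩, ?_⟩
  · intro g hg u hu
    exact (mem_normalizer_iff.1 hg u).1 hu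
  · by_contra hcon
    push_neg at hcon
    have h1 : KInv k S := pgroup_kinv hS (fun u hu => hcon k hkn u hu)
    have h3 := hU.2.2 S h1 hUS
    rw [h3] at hcS
    have : 0 < Nat.card U := Nat.card_pos
    omega

theorem F2_of (hC : ∀ {k : G} (_ : orderOf k = 3) {U : Subgroup G} (_ : KMax k U) {T : Subgroup G} (_ : T ≠ ⊥)
      (_ : T ≤ U) (_ : normalizer (U : Set G) ≤ normalizer (T : Set G))
      (_ : Nat.card (normalizer (U : Set G)) = 6 * Nat.card U ∨ ¬ IsPGroup 2 U),
      normalizer (T : Set G) = normalizer (U : Set G))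
    (hGam : ∀ {S H₁ H₂ U₁ U₂ : Subgroup G} (_ : IsPGroup 2 S) (_ : Side S H₁ U₁)
      (_ : Side S H₂ U₂)
      (_ : ∀ T : Subgroup G, T ≠ ⊥ → T ≤ S → (∀ g ∈ H₁, ∀ t ∈ T, g * t * g⁻¹ ∈ T) →
        (∀ g ∈ H₂, ∀ t ∈ T, g * t * g⁻¹ ∈ T) → False), Nat.card S ≤ 8)
    (h : HK G) {q a b : ℕ} (hq : q.Prime) (hq2 : q ≠ 2) (hq3 : q ≠ 3)
    (hcard : Nat.card G = 9 * 2 ^ a * q ^ b) {k : G} (hk : orderOf k = 3)
    {U U' : Subgroup G} (hU : KMax k U) (hU' : KMax k U') (h8 : 8 ∣ Nat.card U)
    (h2 : IsPGroup 2 U) (h2' : IsPGroup 2 U') (h8' : 8 ∣ Nat.card U')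
    (hc : (Nat.card (normalizer (U : Set G)) = 3 * Nat.card U ∧ Nat.card U = 2 ^ a) ∨
        (Nat.card (normalizer (U : Set G)) = 6 * Nat.card U ∧ 2 * Nat.card U = 2 ^ a))
    (hc' : (Nat.card (normalizer (U' : Set G)) = 3 * Nat.card U' ∧ Nat.card U' = 2 ^ a) ∨
        (Nat.card (normalizer (U' : Set G)) = 6 * Nat.card U' ∧ 2 * Nat.card U' = 2 ^ a)) :
    ∃ g : G, U' = U.map (MulAut.conj g).toMonoidHom := by
  haveI : Fact (Nat.Prime 2) := ⟨Nat.prime_two⟩
  -- the 2-part of |G|
  have hfac : (Nat.card G).factorization 2 = a := by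
    have hqb : ¬ 2 ∣ 9 * q ^ b := by
      intro hd
      rcases (Nat.prime_two.dvd_mul).1 hd with h9 | hd
      · omega
      · have := (Nat.prime_dvd_prime_iff_eq Nat.prime_two hq).1 (Nat.prime_two.dvd_of_dvd_pow hd)
        exact hq2 this.symm
    rw [hcard, show 9 * 2 ^ a * q ^ b = (9 * q ^ b) * 2 ^ a by ring]
    exact fac hqb
  have hmod := card_mod h hk hU.1
  have hmod' := card_mod h hk hU'.1
  have sylU : ∀ V : Subgroup G, Nat.card V = 2 ^ a → ∃ P : Sylow 2 G, (P : Subgroup G) = V := by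
    intro V hV
    refine ⟨Sylow.ofCard V (by rw [hV, hfac]), ?_⟩
    rfl
  have conjSyl : ∀ V W : Subgroup G, Nat.card V = 2 ^ a → Nat.card W = 2 ^ a →
      ∃ g : G, W = V.map (MulAut.conj g).toMonoidHom := by
    intro V W hV hW
    obtain ⟨P, rfl⟩ := sylU V hV
    obtain ⟨Q, rfl⟩ := sylU W hW
    obtain ⟨g, hg⟩ := MulAction.exists_smul_eq G P Q
    refine ⟨g, ?_⟩
    rw [← hg]
    rfl
  rcases hc with ⟨hN, hc1⟩ | ⟨hN, hc1⟩ <;> rcases hc' with ⟨hN', hc1'⟩ | ⟨hN', hc1'⟩
  · exact conjSyl U U' hc1 hc1'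
  · exfalso
    omega
  · exfalso
    omega
  · by_contra hcon
    -- Sylow 2-subgroups of the normalizers
    have exS : ∀ V : Subgroup G, IsPGroup 2 V → Nat.card (normalizer (V : Set G)) = 6 * Nat.card V →
        2 * Nat.card V = 2 ^ a → ∃ S : Subgroup G, V ≤ S ∧ S ≤ normalizer (V : Set G) ∧ Nat.card S = 2 ^ a := by
      intro V hV hn hc2
      -- a Sylow 2-subgroup of the normalizer containing V
      have hVn : IsPGroup 2 (V.subgroupOf (normalizer (V : Set G))) :=
        hV.comap_of_injective _ (Subgroup.subtype_injective _)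
      obtain ⟨P, hP⟩ := hVn.exists_le_sylow
      have hPc : Nat.card P = 2 ^ a := by
        have h1 : Nat.card (normalizer (V : Set G)) = 3 * 2 ^ a := by rw [hn]; omega
        rw [P.card_eq_multiplicity, h1, fac (by norm_num)]
      refine ⟨(P : Subgroup (normalizer (V : Set G))).map (normalizer (V : Set G)).subtype, ?_, ?_, ?_⟩
      · intro v hv
        exact ⟨⟨v, le_normalizer hv⟩, hP (by simpa [mem_subgroupOf] using hv), rfl⟩
      · rintro _ ⟨v, hv, rfl⟩
        exact v.2
      · rw [Subgroup.card_map_of_injective (Subgroup.subtype_injective _)]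
        exact hPc
    obtain ⟨S, hUS, hSH, hScard⟩ := exS U h2 hN hc1
    obtain ⟨S', hUS', hSH', hScard'⟩ := exS U' h2' hN' hc1'
    obtain ⟨g, hg⟩ := conjSyl S' S hScard' hScard
    set V : Subgroup G := U'.map (MulAut.conj g).toMonoidHom with hV
    have hVcard : Nat.card V = Nat.card U' := by
      rw [hV, Subgroup.card_map_of_injective (MulAut.conj g).injective]
    have hkg : orderOf (g * k * g⁻¹) = 3 := by
      rw [← hk]
      exact (MulAut.conj g).orderOf_eq k
    have hVmax : KMax (g * k * g⁻¹) V := kmax_conj hU' g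
    have hVN : normalizer (V : Set G) = (normalizer (U' : Set G)).map (MulAut.conj g).toMonoidHom := norm_map U' g
    have hVNc : Nat.card (normalizer (V : Set G)) = 6 * Nat.card V := by
      rw [hVN, Subgroup.card_map_of_injective (MulAut.conj g).injective, hN', hVcard]
    have hV2 : IsPGroup 2 V := h2'.map _
    have hS2 : IsPGroup 2 S := IsPGroup.of_card hScard
    have hVS : V ≤ S := by
      rw [hV, hg]; exact Subgroup.map_mono hUS'
    have hSV : S ≤ normalizer (V : Set G) := by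
      rw [hVN, hg]; exact Subgroup.map_mono hSH'
    have sd1 : Side S (normalizer (U : Set G)) U := side h hk hU h2 hS2 hN (by omega) hSH hUS
    have sd2 : Side S (normalizer (V : Set G)) V := side h hkg hVmax hV2 hS2 hVNc (by omega) hSV hVS
    have hle : Nat.card S ≤ 8 := by
      refine hGam hS2 sd1 sd2 ?_
      intro T hT1 hTS hT hT'
      have hT2 : IsPGroup 2 T := hS2.to_le hTS
      have hTU : T ≤ U := le_U hU h2 hT2 hT
      have hTV : T ≤ V := le_U hVmax hV2 hT2 hT'
      have nle : ∀ W : Subgroup G, (∀ g ∈ normalizer (W : Set G), ∀ t ∈ T, g * t * g⁻¹ ∈ T) →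
          normalizer (W : Set G) ≤ normalizer (T : Set G) := by
        intro W hW x hx
        rw [mem_normalizer_iff]
        intro t
        constructor
        · intro ht; exact hW x hx t ht
        · intro ht
          have := hW x⁻¹ (inv_mem hx) _ ht
          simpa [mul_assoc] using this
      have e1 := hC hk hU hT1 hTU (nle U hT) (Or.inl hN)
      have e2 := hC hkg hVmax hT1 hTV (nle V hT') (Or.inl hVNc)
      have e3 : normalizer (U : Set G) = normalizer (V : Set G) := e1.symm.trans e2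
      have hVU : V ≤ U := by
        refine le_U hU h2 hV2 ?_
        intro x hx v hv
        rw [e3] at hx
        exact (mem_normalizer_iff.1 hx v).1 hv
      have hVeq : V = U := Subgroup.eq_of_le_of_card_ge hVU (by omega)
      apply hcon
      refine ⟨g⁻¹, ?_⟩
      rw [← hVeq, hV]
      ext v
      constructor
      · intro hv
        refine ⟨g * v * g⁻¹, ⟨v, hv, rfl⟩, ?_⟩
        show g⁻¹ * (g * v * g⁻¹) * g⁻¹⁻¹ = v
        group
      · rintro ⟨w, ⟨v', hv', rfl⟩, rfl⟩
        have : (MulAut.conj g⁻¹).toMonoidHom ((MulAut.conj g).toMonoidHom v') = v' := by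
          show g⁻¹ * (g * v' * g⁻¹) * g⁻¹⁻¹ = v'
          group
        rw [this]; exact hv'
    have : 8 ≤ Nat.card U := Nat.le_of_dvd Nat.card_pos h8
    omega

end Cfsg.Agent.Lib.H15SF2
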