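import Mathlib
import Cfsg.Agent.Lib.H15S0

/-! S2220, piece F2 (helper83), black boxes `Gam` and `C_same` as hypotheses. -/

set_option autoImplicit false
set_option linter.all false

namespace Cfsg.Agent.Lib.H15SF2a

open Subgroup Cfsg.Agent.Lib.H15S

section
variable {G : Type*} [Group G] [Finite G]

theorem k_norm {k : G} (hk : orderOf k = 3) {U : Subgroup G} (hU : ∀ u ∈ U, k * u * k⁻¹ ∈ U) :
    k ∈ normalizer (U : Set G) := by
  have hk3 : k ^ 3 = 1 := by rw [← hk]; exact pow_orderOf_eq_one k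
  rw [Subgroup.mem_normalizer_iff]
  intro u
  constructor
  · exact hU u
  · intro h
    have h1 := hU _ (hU _ h)
    have h2 : k * (k * (k * u * k⁻¹) * k⁻¹) * k⁻¹ = u := by
      have : k * (k * (k * u * k⁻¹) * k⁻¹) * k⁻¹ = (k * k * k) * u * (k * k * k)⁻¹ := by group
      rw [this, ← pow_three', hk3]; simp
    rwa [h2] at h1

theorem fpf_mod (h : HK G) {k : G} (hk : orderOf k = 3) {U : Subgroup G} (hU : KInv k U) :
    (∀ u ∈ U, u * k = k * u → u = 1) ∧ Nat.card U % 3 = 1 := by
  classical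
  haveI : Fact (Nat.Prime 3) := ⟨Nat.prime_three⟩
  have hk3 : k ^ 3 = 1 := by rw [← hk]; exact pow_orderOf_eq_one k
  have h1 : ∀ u ∈ U, u * k = k * u → u = 1 := by
    intro u hu hc
    have h3 : u ^ 3 = 1 := h.exp k u hk hc
    have h4 : orderOf u ∣ 3 := orderOf_dvd_of_pow_eq_one h3
    have h5 : orderOf u ∣ Nat.card U := by
      have := orderOf_dvd_natCard (⟨u, hu⟩ : U)
      rwa [Subgroup.orderOf_mk] at this
    rcases (Nat.dvd_prime Nat.prime_three).1 h4 with h6 | h6
    · exact orderOf_eq_one_iff.1 h6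
    · rw [h6] at h5
      exact absurd h5 hU.2
  refine ⟨h1, ?_⟩
  haveI : Fintype U := Fintype.ofFinite U
  let f : Function.End U := fun u => ⟨k * u.1 * k⁻¹, hU.1 u.1 u.2⟩
  have hf : f ^ 3 ^ 1 = 1 := by
    funext u
    apply Subtype.ext
    change k * (k * (k * u.1 * k⁻¹) * k⁻¹) * k⁻¹ = u.1
    have : k * (k * (k * u.1 * k⁻¹) * k⁻¹) * k⁻¹ = (k * k * k) * u.1 * (k * k * k)⁻¹ := by group
    rw [this, ← pow_three', hk3]; simp
  have h2 := Equiv.Perm.card_fixedPoints_modEq (α := U) (f := f) (p := 3) (n := 1) hf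
  have h3 : Fintype.card f.fixedPoints = 1 := by
    rw [Fintype.card_eq_one_iff]
    refine ⟨⟨1, ?_⟩, ?_⟩
    · change f 1 = 1
      apply Subtype.ext
      change k * 1 * k⁻¹ = 1
      simp
    · rintro ⟨u, hu⟩
      apply Subtype.ext
      have hu' : f u = u := hu
      have h3 : k * u.1 * k⁻¹ = u.1 := congrArg Subtype.val hu'
      apply Subtype.ext
      apply h1 u.1 u.2
      exact (mul_inv_eq_iff_eq_mul.1 h3).symm
  rw [h3] at h2
  rw [Nat.card_eq_fintype_card]
  exact h2

theorem map_conj_mem {g x : G} {U : Subgroup G} :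
    x ∈ U.map (MulAut.conj g).toMonoidHom ↔ g⁻¹ * x * g ∈ U := by
  rw [Subgroup.mem_map]
  constructor
  · rintro ⟨y, hy, rfl⟩
    have : g⁻¹ * ((MulAut.conj g).toMonoidHom y) * g = y := by
      change g⁻¹ * (g * y * g⁻¹) * g = y
      group
    rwa [this]
  · intro h
    refine ⟨_, h, ?_⟩
    change g * (g⁻¹ * x * g) * g⁻¹ = x
    group

theorem card_map_conj (g : G) (U : Subgroup G) :
    Nat.card (U.map (MulAut.conj g).toMonoidHom) = Nat.card U :=
  Nat.card_congr (Subgroup.equivMapOfInjective U _ (MulAut.conj g).injective).symm.toEquiv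

theorem norm_map_conj (g : G) (U : Subgroup G) :
    normalizer ((U.map (MulAut.conj g).toMonoidHom : Subgroup G) : Set G) =
      (normalizer (U : Set G)).map (MulAut.conj g).toMonoidHom := by
  ext x
  rw [map_conj_mem, Subgroup.mem_normalizer_iff, Subgroup.mem_normalizer_iff]
  constructor
  · intro h u
    have h1 := h (g * u * g⁻¹)
    rw [map_conj_mem, map_conj_mem] at h1
    have e1 : g⁻¹ * (g * u * g⁻¹) * g = u := by group
    have e2 : g⁻¹ * (x * (g * u * g⁻¹) * x⁻¹) * g = g⁻¹ * x * g * u * (g⁻¹ * x * g)⁻¹ := by group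
    rw [e1, e2] at h1
    exact h1
  · intro h u
    have h1 := h (g⁻¹ * u * g)
    rw [map_conj_mem, map_conj_mem]
    have e2 : g⁻¹ * x * g * (g⁻¹ * u * g) * (g⁻¹ * x * g)⁻¹ = g⁻¹ * (x * u * x⁻¹) * g := by group
    rw [e2] at h1
    exact h1

theorem kmax_conj {k : G} {U : Subgroup G} (hU : KMax k U) (g : G) :
    KMax (g * k * g⁻¹) (U.map (MulAut.conj g).toMonoidHom) := by
  obtain ⟨⟨h1, h2⟩, h3, h4⟩ := hU
  refine ⟨⟨?_, ?_⟩, ?_, ?_⟩
  · intro u hu
    rw [map_conj_mem] at hu ⊢
    have := h1 _ hu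
    have e : k * (g⁻¹ * u * g) * k⁻¹ = g⁻¹ * (g * k * g⁻¹ * u * (g * k * g⁻¹)⁻¹) * g := by group
    rwa [e] at this
  · rw [card_map_conj]; exact h2
  · intro h
    apply h3
    rw [eq_bot_iff]
    intro x hx
    have h5 : g * x * g⁻¹ ∈ U.map (MulAut.conj g).toMonoidHom := by
      rw [map_conj_mem]
      have e : g⁻¹ * (g * x * g⁻¹) * g = x := by group
      rwa [e]
    rw [h, Subgroup.mem_bot] at h5
    rw [Subgroup.mem_bot]
    have : x = g⁻¹ * (g * x * g⁻¹) * g := by group
    rw [this, h5]; simp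
  · intro V hV hUV
    have h5 : KInv k (V.map (MulAut.conj g⁻¹).toMonoidHom) := by
      refine ⟨?_, ?_⟩
      · intro u hu
        rw [map_conj_mem] at hu ⊢
        have := hV.1 _ hu
        have e : g * k * g⁻¹ * (g⁻¹⁻¹ * u * g⁻¹) * (g * k * g⁻¹)⁻¹ = g⁻¹⁻¹ * (k * u * k⁻¹) * g⁻¹ := by group
        rwa [e] at this
      · rw [card_map_conj]; exact hV.2
    have h6 : U ≤ V.map (MulAut.conj g⁻¹).toMonoidHom := by
      intro x hx
      rw [map_conj_mem]
      apply hUV
      rw [map_conj_mem]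
      have e : g⁻¹ * (g⁻¹⁻¹ * x * g⁻¹) * g = x := by group
      rwa [e]
    have h7 := h4 _ h5 h6
    ext x
    rw [map_conj_mem, ← h7, map_conj_mem]
    have e : g⁻¹⁻¹ * (g⁻¹ * x * g) * g⁻¹ = x := by group
    rw [e]

theorem side_of (h : HK G) {k : G} (hk : orderOf k = 3) {U S : Subgroup G} (hU : KMax k U)
    {n : ℕ} (hSn : Nat.card S = 2 ^ n)
    (hN : Nat.card (normalizer (U : Set G)) = 6 * Nat.card U) (hUS : U ≤ S)
    (hSN : S ≤ normalizer (U : Set G)) (hS : Nat.card S = 2 * Nat.card U) :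
    Side S (normalizer (U : Set G)) U := by
  have hkN := k_norm hk hU.1.1
  refine ⟨hUS, hSN, ?_, hS, hN, ⟨k, hkN, hk, (fpf_mod h hk hU.1).1⟩, ?_⟩
  · intro g hg u hu
    exact (Subgroup.mem_normalizer_iff.1 hg u).1 hu
  · by_contra hcon
    push Not at hcon
    have h1 : KInv k S := by
      refine ⟨fun s hs => hcon k hkN s hs, ?_⟩
      rw [hSn]
      intro h3
      have := Nat.prime_three.dvd_of_dvd_pow h3
      omega
    have h2 := hU.2.2 S h1 hUS
    rw [h2] at hS
    have := Nat.card_pos (α := U)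
    omega

theorem exists_S {H U : Subgroup G} (hUH : U ≤ H) {n : ℕ} (hU : Nat.card U = 2 ^ n)
    (hH : 2 ^ (n + 1) ∣ Nat.card H) : ∃ S : Subgroup G, U ≤ S ∧ S ≤ H ∧ Nat.card S = 2 ^ (n + 1) := by
  haveI : Fact (Nat.Prime 2) := ⟨Nat.prime_two⟩
  have h1 : Nat.card (U.subgroupOf H) = 2 ^ n := by
    rw [← hU]
    exact Nat.card_congr (Subgroup.subgroupOfEquivOfLe hUH).toEquiv
  obtain ⟨K, hK, hUK⟩ := Sylow.exists_subgroup_card_pow_prime_le 2 hH (U.subgroupOf H) h1 (Nat.le_succ n)
  refine ⟨K.map H.subtype, ?_, Subgroup.map_subtype_le K, ?_⟩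
  · intro x hx
    exact ⟨⟨x, hUH hx⟩, hUK (Subgroup.mem_subgroupOf.2 hx), rfl⟩
  · rw [← hK]
    exact Nat.card_congr (Subgroup.equivMapOfInjective K _ H.subtype_injective).symm.toEquiv

theorem card_conj_sylow {q a b : ℕ} (hq : q.Prime) (hq2 : q ≠ 2)
    (hcard : Nat.card G = 9 * 2 ^ a * q ^ b) {S S' : Subgroup G} (hS : Nat.card S = 2 ^ a)
    (hS' : Nat.card S' = 2 ^ a) : ∃ g : G, S' = S.map (MulAut.conj g).toMonoidHom := by
  haveI : Fact (Nat.Prime 2) := ⟨Nat.prime_two⟩
  have hfac : (Nat.card G).factorization 2 = a := by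
    have hq0 : q ^ b ≠ 0 := pow_ne_zero _ hq.ne_zero
    have h9 : (9 : ℕ) ≠ 0 := by norm_num
    have h2a : (2 : ℕ) ^ a ≠ 0 := pow_ne_zero _ (by norm_num)
    rw [hcard, Nat.factorization_mul (mul_ne_zero h9 h2a) hq0, Nat.factorization_mul h9 h2a]
    simp only [Finsupp.coe_add, Pi.add_apply]
    rw [Nat.Prime.factorization_pow Nat.prime_two, Nat.Prime.factorization_pow hq]
    have h91 : (9 : ℕ).factorization 2 = 0 := Nat.factorization_eq_zero_of_not_dvd (by norm_num)
    rw [h91, Finsupp.single_eq_same, Finsupp.single_eq_of_ne (by omega)]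
    omega
  let P : Sylow 2 G := Sylow.ofCard S (by rw [hS, hfac])
  let P' : Sylow 2 G := Sylow.ofCard S' (by rw [hS', hfac])
  obtain ⟨g, hg⟩ := MulAction.exists_smul_eq G P P'
  refine ⟨g, ?_⟩
  have h1 : ((g • P : Sylow 2 G) : Subgroup G) = S' := by rw [hg]; rfl
  rw [← h1]
  rfl

theorem F2_of (Gam' : ∀ {S H₁ H₂ U₁ U₂ : Subgroup G}, IsPGroup 2 S → Side S H₁ U₁ → Side S H₂ U₂ →
      (∀ T : Subgroup G, T ≠ ⊥ → T ≤ S → (∀ g ∈ H₁, ∀ t ∈ T, g * t * g⁻¹ ∈ T) →
      (∀ g ∈ H₂, ∀ t ∈ T, g * t * g⁻¹ ∈ T) → False) → Nat.card S ≤ 8)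
    (C' : ∀ {k : G}, orderOf k = 3 → ∀ {U : Subgroup G}, KMax k U → ∀ {T : Subgroup G}, T ≠ ⊥ → T ≤ U →
      normalizer (U : Set G) ≤ normalizer (T : Set G) →
      (Nat.card (normalizer (U : Set G)) = 6 * Nat.card U ∨ ¬ IsPGroup 2 U) →
      normalizer (T : Set G) = normalizer (U : Set G))
    (h : HK G) {q a b : ℕ} (hq : q.Prime) (hq2 : q ≠ 2) (hq3 : q ≠ 3)
    (hcard : Nat.card G = 9 * 2 ^ a * q ^ b) {k : G} (hk : orderOf k = 3)
    {U U' : Subgroup G} (hU : KMax k U) (hU' : KMax k U') (h8 : 8 ∣ Nat.card U)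
    (h2 : IsPGroup 2 U) (h2' : IsPGroup 2 U') (h8' : 8 ∣ Nat.card U')
    (hc : (Nat.card (normalizer (U : Set G)) = 3 * Nat.card U ∧ Nat.card U = 2 ^ a) ∨
        (Nat.card (normalizer (U : Set G)) = 6 * Nat.card U ∧ 2 * Nat.card U = 2 ^ a))
    (hc' : (Nat.card (normalizer (U' : Set G)) = 3 * Nat.card U' ∧ Nat.card U' = 2 ^ a) ∨
        (Nat.card (normalizer (U' : Set G)) = 6 * Nat.card U' ∧ 2 * Nat.card U' = 2 ^ a)) :
    ∃ g : G, U' = U.map (MulAut.conj g).toMonoidHom := by
  haveI : Fact (Nat.Prime 2) := ⟨Nat.prime_two⟩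
  have hm := (fpf_mod h hk hU.1).2
  have hm' := (fpf_mod h hk hU'.1).2
  rcases hc with ⟨hN, hc⟩ | ⟨hN, hc⟩ <;> rcases hc' with ⟨hN', hc'⟩ | ⟨hN', hc'⟩
  · exact card_conj_sylow hq hq2 hcard hc hc'
  · exfalso; omega
  · exfalso; omega
  · -- both of index two
    obtain ⟨n, hn⟩ : ∃ n, a = n + 1 := by
      rcases a with _ | n
      · exfalso
        rw [pow_zero] at hc; omega
      · exact ⟨n, rfl⟩
    subst hn
    have hUn : Nat.card U = 2 ^ n := by rw [pow_succ'] at hc; omega
    have hUn' : Nat.card U' = 2 ^ n := by rw [pow_succ'] at hc'; omega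
    obtain ⟨S, hUS, hSN, hS⟩ := exists_S (H := normalizer (U : Set G)) Subgroup.le_normalizer hUn
      (by rw [hN, hUn]; exact ⟨3, by rw [pow_succ]; ring⟩)
    obtain ⟨S', hUS', hSN', hS'⟩ := exists_S (H := normalizer (U' : Set G)) Subgroup.le_normalizer hUn'
      (by rw [hN', hUn']; exact ⟨3, by rw [pow_succ]; ring⟩)
    obtain ⟨g, hg⟩ := card_conj_sylow hq hq2 hcard hS hS'
    refine ⟨g, ?_⟩
    by_contra hne
    set U1 := U.map (MulAut.conj g).toMonoidHom with hU1
    have hk1 : orderOf (g * k * g⁻¹) = 3 := by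
      rw [← hk]
      exact orderOf_injective (MulAut.conj g).toMonoidHom (MulAut.conj g).injective k
    have hK1 : KMax (g * k * g⁻¹) U1 := kmax_conj hU g
    have hc1 : Nat.card U1 = 2 ^ n := by rw [hU1, card_map_conj, hUn]
    have hNc1 : Nat.card (normalizer (U1 : Set G)) = 6 * Nat.card U1 := by
      rw [hU1, norm_map_conj, card_map_conj, hN, card_map_conj]
    have hU1S : U1 ≤ S' := by
      rw [hg]; exact Subgroup.map_mono hUS
    have hS1N : S' ≤ normalizer (U1 : Set G) := by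
      rw [hU1, norm_map_conj, hg]; exact Subgroup.map_mono hSN
    have side1 : Side S' (normalizer (U1 : Set G)) U1 :=
      side_of h hk1 hK1 hS' hNc1 hU1S hS1N (by rw [hS', hc1, pow_succ']) 
    have side2 : Side S' (normalizer (U' : Set G)) U' :=
      side_of h hk hU' hS' hN' hUS' hSN' (by rw [hS', hUn', pow_succ'])
    have key : ∀ {k : G} {V : Subgroup G}, Side S' (normalizer (V : Set G)) V →
        ∀ T : Subgroup G, T ≤ S' → (∀ g ∈ normalizer (V : Set G), ∀ t ∈ T, g * t * g⁻¹ ∈ T) → T ≤ V := by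
      intro _ V sd T hTS hT
      by_contra hTV
      obtain ⟨x, hx, s, hs, hxs⟩ := sd.nS
      apply hxs
      -- `V ⊔ T = S'`
      have hle : V ⊔ T ≤ S' := sup_le sd.US hTS
      have hlt : V < V ⊔ T := lt_of_le_of_ne le_sup_left (fun he => hTV (by rw [he]; exact le_sup_right))
      have h1 : Nat.card V ∣ Nat.card (V ⊔ T : Subgroup G) := Subgroup.card_dvd_of_le le_sup_left
      have h2 : Nat.card (V ⊔ T : Subgroup G) ∣ Nat.card S' := Subgroup.card_dvd_of_le hle
      have h3 : Nat.card V ≠ Nat.card (V ⊔ T : Subgroup G) := by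
        intro he
        exact hlt.ne (Subgroup.eq_of_le_of_card_ge le_sup_left he.symm.le)
      have hV0 : 0 < Nat.card V := Nat.card_pos
      have h4 : Nat.card (V ⊔ T : Subgroup G) = Nat.card S' := by
        obtain ⟨c, hc⟩ := h1
        obtain ⟨d, hd⟩ := h2
        rw [sd.cS, hc] at hd
        have h5 : c * d = 2 := by
          have : Nat.card V * (c * d) = Nat.card V * 2 := by rw [← mul_assoc, ← hd]; ring
          exact Nat.eq_of_mul_eq_mul_left hV0 this
        have h6 : c ≠ 1 := by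
          intro h; rw [h, mul_one] at hc; exact h3 hc.symm
        have h7 : c ∣ 2 := ⟨d, h5.symm⟩
        rcases (Nat.dvd_prime Nat.prime_two).1 h7 with h8 | h8
        · exact absurd h8 h6
        · rw [hc, h8, sd.cS]; ring
      have h5 : V ⊔ T = S' := Subgroup.eq_of_le_of_card_ge hle h4.symm.le
      have hxV : x ∈ normalizer ((V ⊔ T : Subgroup G) : Set G) := by
        have hxT : x ∈ normalizer (T : Set G) := by
          rw [Subgroup.mem_normalizer_iff]
          intro t
          constructor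
          · exact hT x hx t
          · intro ht
            have h6 := hT x⁻¹ (inv_mem hx) _ ht
            have e : x⁻¹ * (x * t * x⁻¹) * x⁻¹⁻¹ = t := by group
            rwa [e] at h6
        have h7 : ∀ y ∈ V ⊔ T, x * y * x⁻¹ ∈ V ⊔ T := by
          have hmap : (V ⊔ T).map (MulAut.conj x).toMonoidHom ≤ V ⊔ T := by
            rw [Subgroup.map_sup]
            apply sup_le_sup
            · rintro _ ⟨y, hy, rfl⟩
              exact (Subgroup.mem_normalizer_iff.1 hx y).1 hy
            · rintro _ ⟨y, hy, rfl⟩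
              exact (Subgroup.mem_normalizer_iff.1 hxT y).1 hy
          intro y hy
          exact hmap ⟨y, hy, rfl⟩
        have hmap' : ((V ⊔ T).map (MulAut.conj x).toMonoidHom) = V ⊔ T := by
          apply Subgroup.eq_of_le_of_card_ge
          · rintro _ ⟨y, hy, rfl⟩
            exact h7 y hy
          · rw [card_map_conj]
        rw [Subgroup.mem_normalizer_iff]
        intro y
        constructor
        · exact h7 y
        · intro hy
          rw [← hmap', map_conj_mem] at hy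
          have e : x⁻¹ * (x * y * x⁻¹) * x = y := by group
          rwa [e] at hy
      rw [← h5] at hs ⊢
      exact (Subgroup.mem_normalizer_iff.1 hxV s).1 hs
    have h16 := Gam' (IsPGroup.of_card hS') side1 side2 (by
      intro T hT0 hTS hT1 hT2
      have hTU1 : T ≤ U1 := key (k := k) side1 T hTS hT1
      have hTU' : T ≤ U' := key (k := k) side2 T hTS hT2
      have hle : ∀ {V : Subgroup G}, (∀ g ∈ normalizer (V : Set G), ∀ t ∈ T, g * t * g⁻¹ ∈ T) →
          normalizer (V : Set G) ≤ normalizer (T : Set G) := by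
        intro V hV x hx
        rw [Subgroup.mem_normalizer_iff]
        intro t
        constructor
        · exact hV x hx t
        · intro ht
          have h6 := hV x⁻¹ (inv_mem hx) _ ht
          have e : x⁻¹ * (x * t * x⁻¹) * x⁻¹⁻¹ = t := by group
          rwa [e] at h6
      have e1 := C' hk1 hK1 hT0 hTU1 (hle hT1) (Or.inl hNc1)
      have e2 := C' hk hU' hT0 hTU' (hle hT2) (Or.inl hN')
      have e3 : normalizer (U1 : Set G) = normalizer (U' : Set G) := e1.symm.trans e2
      have hkN' : k ∈ normalizer (U' : Set G) := k_norm hk hU'.1.1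
      have hkN1 : k ∈ normalizer (U1 : Set G) := by rw [e3]; exact hkN'
      have hinv : KInv k (U1 ⊔ U') := by
        constructor
        · have hmap : (U1 ⊔ U').map (MulAut.conj k).toMonoidHom ≤ U1 ⊔ U' := by
            rw [Subgroup.map_sup]
            apply sup_le_sup
            · rintro _ ⟨y, hy, rfl⟩
              exact (Subgroup.mem_normalizer_iff.1 hkN1 y).1 hy
            · rintro _ ⟨y, hy, rfl⟩
              exact (Subgroup.mem_normalizer_iff.1 hkN' y).1 hy
          intro y hy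
          exact hmap ⟨y, hy, rfl⟩
        · intro h3
          have h4 : Nat.card (U1 ⊔ U' : Subgroup G) ∣ Nat.card S' := Subgroup.card_dvd_of_le (sup_le hU1S hUS')
          have h5 := h3.trans h4
          rw [hS'] at h5
          have := Nat.prime_three.dvd_of_dvd_pow h5
          omega
      have e4 := hU'.2.2 _ hinv le_sup_right
      have e5 : U1 ≤ U' := by rw [← e4]; exact le_sup_left
      apply hne
      exact (Subgroup.eq_of_le_of_card_ge e5 (by rw [hc1, hUn'])).symm)
    rw [hS', pow_succ', ← hUn] at h16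
    have := Nat.le_of_dvd Nat.card_pos h8
    omega

end
end Cfsg.Agent.Lib.H15SF2a
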