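import Mathlib
import Cfsg.Agent.Lib.H15S0

/-! Step 2 of the S3-amalgam lemma (critical distance ≥ 2 is impossible), by walks. -/

set_option autoImplicit false
set_option linter.all false

namespace Cfsg.Agent.Lib.H15SG80

open Subgroup Cfsg.Agent.Lib.H15S

variable {G : Type*} [Group G]

/-- `Ω₁(Z(U))` -/
def Om (U : Subgroup G) : Subgroup G where
  carrier := {v | v ∈ U ∧ v * v = 1 ∧ ∀ u ∈ U, u * v = v * u}
  one_mem' := ⟨U.one_mem, by simp, by simp⟩
  mul_mem' := by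
    rintro a b ⟨ha, ha2, hac⟩ ⟨hb, hb2, hbc⟩
    refine ⟨U.mul_mem ha hb, ?_, ?_⟩
    · have h1 : b * a = a * b := hac b hb
      calc a * b * (a * b) = a * (b * a) * b := by group
        _ = (a * a) * (b * b) := by rw [h1]; group
        _ = 1 := by rw [ha2, hb2, one_mul]
    · intro u hu
      calc u * (a * b) = (u * a) * b := by group
        _ = a * (u * b) := by rw [hac u hu]; group
        _ = a * b * u := by rw [hbc u hu]; group
  inv_mem' := by
    rintro a ⟨ha, ha2, hac⟩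
    have h1 : a⁻¹ = a := by rw [inv_eq_iff_mul_eq_one]; exact ha2
    show a⁻¹ ∈ U ∧ a⁻¹ * a⁻¹ = 1 ∧ ∀ u ∈ U, u * a⁻¹ = a⁻¹ * u
    rw [h1]; exact ⟨ha, ha2, hac⟩

theorem mem_Om {U : Subgroup G} {v : G} : v ∈ Om U ↔ v ∈ U ∧ v * v = 1 ∧ ∀ u ∈ U, u * v = v * u := Iff.rfl

theorem Om_comm {U : Subgroup G} {a b : G} (ha : a ∈ Om U) (hb : b ∈ Om U) : a * b = b * a :=
  hb.2.2 a ha.1

theorem Om_inv {U : Subgroup G} {a : G} (ha : a ∈ Om U) : a⁻¹ = a := by
  rw [inv_eq_iff_mul_eq_one]; exact ha.2.1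

theorem Om_ne [Finite G] {U : Subgroup G} (hU : IsPGroup 2 U) (h1 : U ≠ ⊥) : ∃ v ∈ Om U, v ≠ 1 := by
  haveI : Fact (Nat.Prime 2) := ⟨Nat.prime_two⟩
  haveI : Nontrivial U := (Subgroup.nontrivial_iff_ne_bot U).2 h1
  haveI := hU.center_nontrivial
  have hc : IsPGroup 2 (Subgroup.center U) := hU.to_subgroup _
  have hdvd : 2 ∣ Nat.card (Subgroup.center U) := by
    rcases hc.card_eq_or_dvd with h | h
    · exfalso
      have h2 := Finite.one_lt_card (α := Subgroup.center U)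
      omega
    · exact h
  obtain ⟨x, hx⟩ := exists_prime_orderOf_dvd_card' 2 hdvd
  have hx2 : (x : U) * (x : U) = 1 := by
    have h3 : x ^ 2 = 1 := by rw [← hx]; exact pow_orderOf_eq_one x
    have h4 := congrArg (Subtype.val) h3
    rw [pow_two] at h4
    exact h4
  refine ⟨((x : U) : G), ⟨(x : U).2, ?_, ?_⟩, ?_⟩
  · exact congrArg Subtype.val hx2
  · intro u hu
    have h5 := Subgroup.mem_center_iff.1 x.2 ⟨u, hu⟩
    exact congrArg Subtype.val h5
  · intro h6
    have h7 : x = 1 := Subtype.ext (Subtype.ext h6)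
    rw [h7, orderOf_one] at hx
    omega

section side
variable {S H U : Subgroup G}

theorem Om_nor (h : Side S H U) {g : G} (hg : g ∈ H) {v : G} (hv : v ∈ Om U) : g * v * g⁻¹ ∈ Om U := by
  obtain ⟨h1, h2, h3⟩ := hv
  refine ⟨h.nor g hg v h1, ?_, ?_⟩
  · calc g * v * g⁻¹ * (g * v * g⁻¹) = g * (v * v) * g⁻¹ := by group
      _ = 1 := by rw [h2]; group
  · intro u hu
    have h4 : g⁻¹ * u * g ∈ U := by
      have := h.nor g⁻¹ (H.inv_mem hg) u hu
      rwa [inv_inv] at this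
    have h5 := h3 _ h4
    calc u * (g * v * g⁻¹) = g * ((g⁻¹ * u * g) * v) * g⁻¹ := by group
      _ = g * (v * (g⁻¹ * u * g)) * g⁻¹ := by rw [h5]
      _ = g * v * g⁻¹ * u := by group

theorem Om_nor' (h : Side S H U) {g : G} (hg : g ∈ H) {v : G} (hv : v ∈ Om U) : g⁻¹ * v * g ∈ Om U := by
  have := Om_nor h (H.inv_mem hg) hv
  rwa [inv_inv] at this

theorem up [Finite G] (h : Side S H U) {h0 : G} (hh : h0 ∈ H) {D : Subgroup G} (hDH : D ≤ H)
    (hSD : ∀ s ∈ S, h0 * s * h0⁻¹ ∈ D) : (∀ d ∈ D, h0⁻¹ * d * h0 ∈ S) ∨ D = H := by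
  have hSH3 : Nat.card H = 3 * Nat.card S := by rw [h.cH, h.cS]; ring
  obtain ⟨S', hS'⟩ : ∃ S' : Subgroup G, S' = S.map (MulAut.conj h0).toMonoidHom := ⟨_, rfl⟩
  have hS'D : S' ≤ D := by
    rw [hS']
    rintro _ ⟨s, hs, rfl⟩
    exact hSD s hs
  have hc : Nat.card S' = Nat.card S := by
    rw [hS']; exact Subgroup.card_map_of_injective (MulAut.conj h0).injective
  have h1 : Nat.card S' ∣ Nat.card D := Subgroup.card_dvd_of_le hS'D
  have h2 : Nat.card D ∣ Nat.card H := Subgroup.card_dvd_of_le hDH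
  obtain ⟨m, hm⟩ := h1
  rw [hm, hSH3, hc, mul_comm 3] at h2
  have hpos : 0 < Nat.card S := Nat.card_pos
  have h3 : m ∣ 3 := Nat.dvd_of_mul_dvd_mul_left hpos h2
  rcases (Nat.dvd_prime Nat.prime_three).1 h3 with h4 | h4
  · left
    intro d hd
    have h5 : S' = D := Subgroup.eq_of_le_of_card_ge hS'D (by rw [hm, h4, mul_one])
    rw [← h5, hS'] at hd
    obtain ⟨s, hs, rfl⟩ := hd
    have e : h0⁻¹ * ((MulAut.conj h0).toMonoidHom s) * h0 = s := by
      show h0⁻¹ * (h0 * s * h0⁻¹) * h0 = s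
      group
    rw [e]; exact hs
  · right
    refine Subgroup.eq_of_le_of_card_ge hDH ?_
    rw [hm, h4, hSH3, hc, mul_comm]

theorem k_notMem (hS : IsPGroup 2 S) {k : G} (hk : orderOf k = 3) : k ∉ S := by
  intro hkS
  obtain ⟨n, hn⟩ := hS ⟨k, hkS⟩
  have h1 : k ^ 2 ^ n = 1 := by simpa using congrArg Subtype.val hn
  have h2 : 3 ∣ 2 ^ n := by rw [← hk]; exact orderOf_dvd_of_pow_eq_one h1
  have := (Nat.prime_three.dvd_of_dvd_pow h2)
  omega

theorem k_not_norm [Finite G] (h : Side S H U) (hS : IsPGroup 2 S) {k : G} (hkH : k ∈ H) (hk : orderOf k = 3)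
    (hn : ∀ s ∈ S, k * s * k⁻¹ ∈ S) : False := by
  have hk3 : k * k * k = 1 := by
    have := pow_orderOf_eq_one k
    rw [hk] at this
    rw [← this, pow_succ, pow_two]
  have hkN : k ∈ normalizer (S : Set G) := by
    rw [Subgroup.mem_normalizer_iff]
    intro x
    refine ⟨fun hx => hn x hx, fun hx => ?_⟩
    have h1 := hn _ (hn _ hx)
    have e : k * (k * (k * x * k⁻¹) * k⁻¹) * k⁻¹ = (k * k * k) * x * (k * k * k)⁻¹ := by group
    rw [e, hk3] at h1
    simpa using h1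
  rcases up h H.one_mem (D := H ⊓ normalizer (S : Set G)) inf_le_left
    (fun s hs => by simpa using ⟨h.SH hs, le_normalizer hs⟩) with h1 | h1
  · have := h1 k ⟨hkH, hkN⟩
    rw [inv_one, one_mul, mul_one] at this
    exact k_notMem hS hk this
  · obtain ⟨g, hg, s, hs, hgs⟩ := h.nS
    have : g ∈ H ⊓ normalizer (S : Set G) := by rw [h1]; exact hg
    exact hgs ((Subgroup.mem_normalizer_iff.1 this.2 s).1 hs)

theorem two (h : Side S H U) [Finite G] {a b : G} (ha : a ∈ S) (hb : b ∈ S) :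
    a * b ∈ U ↔ (a ∈ U ↔ b ∈ U) := by
  have hidx : (U.subgroupOf S).index = 2 := by
    have h1 := (U.subgroupOf S).index_mul_card
    have h2 : Nat.card (U.subgroupOf S) = Nat.card U :=
      Nat.card_congr (Subgroup.subgroupOfEquivOfLe h.US).toEquiv
    rw [h2, h.cS] at h1
    exact Nat.eq_of_mul_eq_mul_right Nat.card_pos h1
  have := Subgroup.mul_mem_iff_of_index_two hidx (a := (⟨a, ha⟩ : S)) (b := ⟨b, hb⟩)
  simpa [Subgroup.mem_subgroupOf] using this

theorem Om_S_of_comm [Finite G] (h : Side S H U) {v s : G} (hv : v ∈ Om U) (hs : s ∈ S) (hsU : s ∉ U)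
    (hc : s * v = v * s) : v ∈ Om S := by
  refine ⟨h.US hv.1, hv.2.1, fun x hx => ?_⟩
  by_cases hxU : x ∈ U
  · exact hv.2.2 x hxU
  · have h1 : x * s ∈ U := (two h hx hs).2 (iff_of_false hxU hsU)
    have h2 := hv.2.2 _ h1
    have h3 : x * v * s = v * x * s := by
      calc x * v * s = x * (v * s) := by group
        _ = x * s * v := by rw [← hc]; group
        _ = v * x * s := by rw [h2]; group
    exact mul_right_cancel h3

theorem cent [Finite G] (h : Side S H U) {v : G} (hv : v ∈ Om U) (hvS : v ∈ Om S) (hv1 : v ≠ 1) {g : G}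
    (hg : g ∈ H) (hc : g * v = v * g) : g ∈ S := by
  rcases up h H.one_mem (D := H ⊓ centralizer ({v} : Set G)) inf_le_left
    (fun s hs => by
      rw [one_mul, inv_one, mul_one]
      exact ⟨h.SH hs, Subgroup.mem_centralizer_singleton_iff.2 (hvS.2.2 s hs)⟩) with h1 | h1
  · have := h1 g ⟨hg, Subgroup.mem_centralizer_singleton_iff.2 hc⟩
    rwa [inv_one, one_mul, mul_one] at this
  · exfalso
    obtain ⟨k, hkH, hk, hf⟩ := h.k
    have h2 : k ∈ H ⊓ centralizer ({v} : Set G) := by rw [h1]; exact hkH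
    exact hv1 (hf v hv.1 (Subgroup.mem_centralizer_singleton_iff.1 h2.2).symm)

theorem no_both [Finite G] (h : Side S H U) (hS : IsPGroup 2 S) {k : G} (hkH : k ∈ H) (hk : orderOf k = 3)
    {y : G} (hy : y ∈ Om U) (hy1 : y ≠ 1) (hyS : y ∈ Om S) (hkS : k * y * k⁻¹ ∈ Om S) : False := by
  have hk3 : k⁻¹ = k * k := by
    have := pow_orderOf_eq_one k
    rw [hk] at this
    rw [inv_eq_iff_mul_eq_one]
    rw [← this, pow_succ, pow_two, mul_assoc]
  have h1 : ∀ s ∈ S, k⁻¹ * s * k ∈ S := by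
    intro s hs
    refine cent h hy hyS hy1 (H.mul_mem (H.mul_mem (H.inv_mem hkH) (h.SH hs)) hkH) ?_
    have h2 := hkS.2.2 s hs
    calc k⁻¹ * s * k * y = k⁻¹ * (s * (k * y * k⁻¹)) * k := by group
      _ = k⁻¹ * (k * y * k⁻¹ * s) * k := by rw [h2]
      _ = y * (k⁻¹ * s * k) := by group
  refine k_not_norm h hS hkH hk (fun s hs => ?_)
  have h2 := h1 _ (h1 s hs)
  have e : k⁻¹ * (k⁻¹ * s * k) * k = (k * k)⁻¹ * s * (k * k) := by group
  rw [e, ← hk3, inv_inv] at h2
  exact h2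

theorem Om_le [Finite G] (h : Side S H U) (hS : IsPGroup 2 S) (hU : U ≠ ⊥) : Om S ≤ Om U := by
  intro v hv
  by_cases hvU : v ∈ U
  · exact ⟨hvU, hv.2.1, fun u hu => hv.2.2 u (h.US hu)⟩
  · exfalso
    obtain ⟨k, hkH, hk, hf⟩ := h.k
    obtain ⟨y, hy, hy1⟩ := Om_ne (hS.to_le h.US) hU
    have h1 : ∀ y ∈ Om U, y ∈ Om S := fun y hy =>
      Om_S_of_comm h hy hv.1 hvU (hv.2.2 y (h.US hy.1)).symm
    exact no_both h hS hkH hk hy hy1 (h1 y hy) (h1 _ (Om_nor h hkH hy))

theorem exists_noncomm [Finite G] (h : Side S H U) (hS : IsPGroup 2 S) (hU : U ≠ ⊥) {s : G} (hs : s ∈ S)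
    (hsU : s ∉ U) : ∃ u ∈ Om U, s * u ≠ u * s := by
  by_contra hcon
  push Not at hcon
  obtain ⟨k, hkH, hk, hf⟩ := h.k
  obtain ⟨y, hy, hy1⟩ := Om_ne (hS.to_le h.US) hU
  have h1 : ∀ y ∈ Om U, y ∈ Om S := fun y hy => Om_S_of_comm h hy hs hsU (hcon y hy)
  exact no_both h hS hkH hk hy hy1 (h1 y hy) (h1 _ (Om_nor h hkH hy))

theorem card_sq [Finite G] (h : Side S H U) (hS : IsPGroup 2 S) (hU : U ≠ ⊥) :
    Nat.card (Om S) * Nat.card (Om S) ≤ Nat.card (Om U) := by
  obtain ⟨k, hkH, hk, hf⟩ := h.k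
  have hle := Om_le h hS hU
  rw [← Nat.card_prod]
  refine Nat.card_le_card_of_injective
    (fun p : Om S × Om S => (⟨(p.1 : G) * (k * p.2 * k⁻¹),
      (Om U).mul_mem (hle p.1.2) (Om_nor h hkH (hle p.2.2))⟩ : Om U)) ?_
  rintro ⟨⟨c, hc⟩, ⟨d, hd⟩⟩ ⟨⟨c', hc'⟩, ⟨d', hd'⟩⟩ heq
  have h1 : c * (k * d * k⁻¹) = c' * (k * d' * k⁻¹) := congrArg Subtype.val heq
  have h2 : k * (d' * d⁻¹) * k⁻¹ = c'⁻¹ * c := by
    calc k * (d' * d⁻¹) * k⁻¹ = c'⁻¹ * (c' * (k * d' * k⁻¹)) * (k * d * k⁻¹)⁻¹ := by group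
      _ = c'⁻¹ * (c * (k * d * k⁻¹)) * (k * d * k⁻¹)⁻¹ := by rw [h1]
      _ = c'⁻¹ * c := by group
  have h3 : d' * d⁻¹ = 1 := by
    by_contra hne
    have h4 : d' * d⁻¹ ∈ Om S := (Om S).mul_mem hd' ((Om S).inv_mem hd)
    refine no_both h hS hkH hk (hle h4) hne h4 ?_
    rw [h2]; exact (Om S).mul_mem ((Om S).inv_mem hc') hc
  have h5 : d' = d := mul_inv_eq_one.1 h3
  subst h5
  have h6 : c = c' := mul_right_cancel h1
  subst h6
  rfl

theorem card_le_sq [Finite G] (h : Side S H U) (hS : IsPGroup 2 S) (hU : U ≠ ⊥) :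
    Nat.card (Om U) ≤ Nat.card (Om S) * Nat.card (Om S) := by
  obtain ⟨s, hs, hsU⟩ : ∃ s ∈ S, s ∉ U := by
    by_contra hcon
    push Not at hcon
    have h1 : S ≤ U := fun s hs => hcon s hs
    have h2 := Subgroup.card_le_of_le h1
    have h3 := h.cS
    have h4 : 0 < Nat.card U := Nat.card_pos
    omega
  have hsH := h.SH hs
  have hss : s * s ∈ U := (two h hs hs).2 Iff.rfl
  let f : Om U →* Om U :=
    { toFun := fun v => ⟨(v : G) * (s * v * s⁻¹), (Om U).mul_mem v.2 (Om_nor h hsH v.2)⟩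
      map_one' := by
        apply Subtype.ext
        show (1 : G) * (s * 1 * s⁻¹) = 1
        group
      map_mul' := by
        intro v w
        apply Subtype.ext
        show ((v : G) * w) * (s * (v * w) * s⁻¹) = (v * (s * v * s⁻¹)) * (w * (s * w * s⁻¹))
        have h1 : (w : G) * (s * v * s⁻¹) = (s * v * s⁻¹) * w := Om_comm w.2 (Om_nor h hsH v.2)
        calc ((v : G) * w) * (s * (v * w) * s⁻¹) = v * (w * (s * v * s⁻¹)) * (s * w * s⁻¹) := by group
          _ = (v * (s * v * s⁻¹)) * (w * (s * w * s⁻¹)) := by rw [h1]; group }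
  have hcard : Nat.card (Om U) = Nat.card f.ker * Nat.card f.range := by
    rw [← Subgroup.index_ker f, Subgroup.card_mul_index]
  rw [hcard]
  refine Nat.mul_le_mul ?_ ?_
  · refine Nat.card_le_card_of_injective (fun v : f.ker => (⟨((v : Om U) : G), ?_⟩ : Om S)) ?_
    · refine Om_S_of_comm h (v : Om U).2 hs hsU ?_
      have h1 : ((v : Om U) : G) * (s * v * s⁻¹) = 1 := congrArg Subtype.val v.2
      have h2 : s * v * s⁻¹ = ((v : Om U) : G) := by
        rw [← Om_inv (v : Om U).2]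
        have h4 := Om_inv (v : Om U).2
        rw [h4]
        have h3 := eq_inv_of_mul_eq_one_right h1
        rw [h3, h4]
      rw [mul_inv_eq_iff_eq_mul] at h2
      exact h2
    · intro v w hvw
      have h1 : ((v : Om U) : G) = ((w : Om U) : G) := congrArg (fun x : Om S => (x : G)) hvw
      exact Subtype.ext (Subtype.ext h1)
  · refine Nat.card_le_card_of_injective (fun v : f.range => (⟨((v : Om U) : G), ?_⟩ : Om S)) ?_
    · obtain ⟨w, hw⟩ := v.2
      refine Om_S_of_comm h (v : Om U).2 hs hsU ?_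
      have h1 : ((v : Om U) : G) = (w : G) * (s * w * s⁻¹) := (congrArg Subtype.val hw).symm
      rw [h1]
      have h2 : (s * s) * (w : G) = w * (s * s) := w.2.2.2 _ hss
      have h3 : (w : G) * (s * w * s⁻¹) = (s * w * s⁻¹) * w := Om_comm w.2 (Om_nor h hsH w.2)
      calc s * ((w : G) * (s * w * s⁻¹)) = s * w * s⁻¹ * ((s * s) * w) * s⁻¹ := by group
        _ = (s * w * s⁻¹ * w) * s := by rw [h2]; group
        _ = (w : G) * (s * w * s⁻¹) * s := by rw [h3]
    · intro v w hvw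
      have h1 : ((v : Om U) : G) = ((w : Om U) : G) := congrArg (fun x : Om S => (x : G)) hvw
      exact Subtype.ext (Subtype.ext h1)

theorem four [Finite G] {U : Subgroup G} (h4 : Nat.card (Om U) ≤ 4) {z w : G} (hz : z ∈ Om U) (hw : w ∈ Om U)
    (hz1 : z ≠ 1) (hw1 : w ≠ 1) (hwz : w ≠ z) {v : G} (hv : v ∈ Om U) : v = 1 ∨ v = z ∨ v = w ∨ v = z * w := by
  classical
  by_contra hcon
  push Not at hcon
  obtain ⟨a1, a2, a3, a4⟩ := hcon
  haveI := Fintype.ofFinite (Om U)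
  have hzw1 : z * w ≠ 1 := by
    intro h
    apply hwz
    have h1 := Om_inv hz
    rw [← h1]
    exact (inv_eq_of_mul_eq_one_right h).symm
  have hnd : ([(⟨1, (Om U).one_mem⟩ : Om U), ⟨z, hz⟩, ⟨w, hw⟩, ⟨z * w, (Om U).mul_mem hz hw⟩, ⟨v, hv⟩] :
      List (Om U)).Nodup := by
    simp only [List.nodup_cons, List.mem_cons, Subtype.mk.injEq, List.not_mem_nil, or_false, not_or,
      List.nodup_nil, not_false_eq_true, and_true]
    refine ⟨⟨hz1.symm, hw1.symm, hzw1.symm, a1.symm⟩, ⟨hwz.symm, ?_, a2.symm⟩, ⟨?_, a3.symm⟩, a4.symm⟩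
    · intro h
      exact hw1 (by simpa using h)
    · intro h
      exact hz1 (by simpa using h)
  have h5 := hnd.length_le_card
  have h6 : Fintype.card (Om U) = Nat.card (Om U) := (Nat.card_eq_fintype_card).symm
  rw [h6] at h5
  simp only [List.length_cons, List.length_nil] at h5
  omega

end side

/-! ### walks -/

theorem bnot {a b : Bool} (h : a ≠ b) : a = !b := by
  cases a <;> cases b <;> simp_all

inductive R (H : Bool → Subgroup G) (i : Bool) : ℕ → Bool → G → Prop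
  | base : R H i 1 (!i) 1
  | step {n : ℕ} {j : Bool} {x g : G} : R H i n j x → g ∈ H j → R H i (n + 1) (!j) (x * g)

theorem R.pos {H : Bool → Subgroup G} {i j : Bool} {n : ℕ} {x : G} (h : R H i n j x) : 1 ≤ n := by
  cases h <;> omega

theorem R.prepend {H : Bool → Subgroup G} {i j : Bool} {n : ℕ} {x : G} (h : R H i n j x) {g : G} (hg : g ∈ H i) :
    R H (!i) (n + 1) j (g⁻¹ * x) := by
  induction h with
  | base =>
    have h1 : R H (!i) 1 (!!i) 1 := R.base
    rw [Bool.not_not] at h1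
    have h2 := R.step h1 ((H i).inv_mem hg)
    rw [one_mul] at h2
    rw [mul_one]
    exact h2
  | step h' hg' ih =>
    have := R.step ih hg'
    rw [mul_assoc] at this
    exact this

theorem R.rev {H : Bool → Subgroup G} {i j : Bool} {n : ℕ} {x : G} (h : R H i n j x) : R H j n i x⁻¹ := by
  induction h with
  | base =>
    have h1 : R H (!i) 1 (!!i) 1 := R.base
    rw [Bool.not_not] at h1
    rw [inv_one]; exact h1
  | step h' hg ih =>
    have := ih.prepend hg
    rw [mul_inv_rev]; exact this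

structure Dat (S : Subgroup G) (H U : Bool → Subgroup G) : Prop where
  hS : IsPGroup 2 S
  side : ∀ i, Side S (H i) (U i)
  ne : ∀ i, U i ≠ ⊥
  nc : ∀ T : Subgroup G, T ≠ ⊥ → T ≤ S → (∀ i, ∀ g ∈ H i, ∀ t ∈ T, g * t * g⁻¹ ∈ T) → False
  hVU : ∀ i, Om (U i) ≤ U (!i)

def P (H U : Bool → Subgroup G) (n : ℕ) : Prop :=
  ∀ i j x, R H i n j x → ∀ v ∈ Om (U i), x⁻¹ * v * x ∈ U j

section dat
variable [Finite G] {S : Subgroup G} {H U : Bool → Subgroup G}

theorem Dat.P1 (D : Dat S H U) : P H U 1 := by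
  intro i j x h v hv
  cases h with
  | base => simpa using D.hVU i hv
  | step h' hg => exact absurd h'.pos (by omega)

/-- some distance is critical -/
theorem Dat.not_all (D : Dat S H U) (hP : ∀ n, 1 ≤ n → P H U n) : False := by
  let T : Subgroup G := Subgroup.closure {t | ∃ n j x, R H true n j x ∧ ∃ v ∈ Om (U true), t = x⁻¹ * v * x}
  refine D.nc T ?_ ?_ ?_
  · obtain ⟨v, hv, hv1⟩ := Om_ne (D.hS.to_le (D.side true).US) (D.ne true)
    intro h
    have h1 : v ∈ T := Subgroup.subset_closure ⟨1, !true, 1, R.base, v, hv, by simp⟩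
    rw [h] at h1
    exact hv1 (Subgroup.mem_bot.1 h1)
  · rw [Subgroup.closure_le]
    rintro _ ⟨n, j, x, hR, v, hv, rfl⟩
    exact (D.side j).US (hP n hR.pos _ _ _ hR v hv)
  · intro i g hg t ht
    refine Subgroup.closure_induction (p := fun t _ => g * t * g⁻¹ ∈ T) ?_ ?_ ?_ ?_ ht
    · rintro _ ⟨n, j, x, hR, v, hv, rfl⟩
      have key : ∃ n' j', R H true n' j' (x * g⁻¹) := by
        by_cases hij : j = i
        · subst hij
          exact ⟨_, _, R.step hR ((H j).inv_mem hg)⟩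
        · have h1 := R.step hR (H j).one_mem
          rw [mul_one] at h1
          have hij' : (!j) = i := by
            cases i <;> cases j <;> simp_all
          rw [hij'] at h1
          exact ⟨_, _, R.step h1 ((H i).inv_mem hg)⟩
      obtain ⟨n', j', hR'⟩ := key
      refine Subgroup.subset_closure ⟨n', j', _, hR', v, hv, ?_⟩
      group
    · have : g * 1 * g⁻¹ = 1 := by group
      rw [this]; exact T.one_mem
    · intro a b _ _ ha hb
      have : g * (a * b) * g⁻¹ = (g * a * g⁻¹) * (g * b * g⁻¹) := by group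
      rw [this]; exact T.mul_mem ha hb
    · intro a _ ha
      have : g * a⁻¹ * g⁻¹ = (g * a * g⁻¹)⁻¹ := by group
      rw [this]; exact T.inv_mem ha

theorem Dat.conjS (D : Dat S H U) {n : ℕ} (hn : 1 ≤ n) (hP : P H U n) {i j : Bool} {X : G}
    (h : R H i (n + 1) j X) {v : G} (hv : v ∈ Om (U i)) : X⁻¹ * v * X ∈ S := by
  generalize hm : n + 1 = m at h
  cases h with
  | base => omega
  | step h' hg =>
    rename_i n' j' x g
    have hn' : n' = n := by omega
    subst hn'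
    have h1 := hP _ _ _ h' v hv
    have h2 := (D.side j').nor g⁻¹ ((H j').inv_mem hg) _ h1
    have e : g⁻¹ * (x⁻¹ * v * x) * g⁻¹⁻¹ = (x * g)⁻¹ * v * (x * g) := by group
    rw [e] at h2
    exact (D.side j').US h2

/-- the data of a critical walk -/
theorem Dat.crit (D : Dat S H U) {n : ℕ} (hn : 1 ≤ n) (hP : P H U n) {i j : Bool} {X : G}
    (h : R H i (n + 1) j X) {v : G} (hv : v ∈ Om (U i)) (hvX : X⁻¹ * v * X ∉ U j) :
    ∃ u ∈ Om (U j), ∃ w ∈ S, w = X * u * X⁻¹ ∧ w ∉ U i ∧ w * v ≠ v * w ∧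
      (∀ y ∈ Om (U i), X⁻¹ * y * X ∈ U j → y ∈ Om S) ∧ Nat.card (Om (U i)) ≤ 2 * Nat.card (Om S) := by
  have hvS := D.conjS hn hP h hv
  obtain ⟨u, hu, hne⟩ := exists_noncomm (D.side j) D.hS (D.ne j) hvS hvX
  have hwS : X * u * X⁻¹ ∈ S := by
    have := D.conjS hn hP h.rev hu
    rwa [inv_inv] at this
  have hwv : X * u * X⁻¹ * v ≠ v * (X * u * X⁻¹) := by
    intro h1
    apply hne
    calc X⁻¹ * v * X * u = X⁻¹ * (v * (X * u * X⁻¹)) * X := by group
      _ = X⁻¹ * (X * u * X⁻¹ * v) * X := by rw [h1]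
      _ = u * (X⁻¹ * v * X) := by group
  have hwU : X * u * X⁻¹ ∉ U i := fun h1 => hwv (hv.2.2 _ h1)
  have hd : ∀ y ∈ Om (U i), X⁻¹ * y * X ∈ U j → y ∈ Om S := by
    intro y hy hyU
    refine Om_S_of_comm (D.side i) hy hwS hwU ?_
    have h1 := hu.2.2 _ hyU
    calc X * u * X⁻¹ * y = X * (u * (X⁻¹ * y * X)) * X⁻¹ := by group
      _ = X * (X⁻¹ * y * X * u) * X⁻¹ := by rw [h1]
      _ = y * (X * u * X⁻¹) := by group
  refine ⟨u, hu, _, hwS, rfl, hwU, hwv, hd, ?_⟩
  classical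
  have h2 : ∀ y ∈ Om (U i), y ∉ Om S → y * v ∈ Om S := by
    intro y hy hyS
    refine hd _ ((Om (U i)).mul_mem hy hv) ?_
    have h3 : X⁻¹ * y * X ∉ U j := fun h4 => hyS (hd y hy h4)
    have h4 : (X⁻¹ * y * X) * (X⁻¹ * v * X) ∈ U j :=
      (two (D.side j) (D.conjS hn hP h hy) hvS).2 (iff_of_false h3 hvX)
    have e : (X⁻¹ * y * X) * (X⁻¹ * v * X) = X⁻¹ * (y * v) * X := by group
    rwa [e] at h4
  have h5 : Nat.card (Om (U i)) ≤ Nat.card (Bool × Om S) := by
    refine Nat.card_le_card_of_injective (fun y : Om (U i) =>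
      if hy : (y : G) ∈ Om S then ((false, ⟨y, hy⟩) : Bool × Om S) else (true, ⟨y * v, h2 y y.2 hy⟩)) ?_
    intro y y' hyy
    by_cases hy : (y : G) ∈ Om S <;> by_cases hy' : (y' : G) ∈ Om S
    · simp only [hy, hy', dif_pos] at hyy
      have := congrArg (fun x : Bool × Om S => (x.2 : G)) hyy
      exact Subtype.ext this
    · simp [hy, hy'] at hyy
    · simp [hy, hy'] at hyy
    · simp only [hy, hy', dif_neg, not_false_eq_true] at hyy
      have := congrArg (fun x : Bool × Om S => (x.2 : G)) hyy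
      exact Subtype.ext (mul_right_cancel this)
  rw [Nat.card_prod] at h5
  simpa using h5

set_option maxHeartbeats 4000000 in
theorem Dat.step (D : Dat S H U) {n : ℕ} (hn : 1 ≤ n) (hP : P H U n) : P H U (n + 1) := by
  intro i j0 X hX v0 hv0
  by_contra hv0X
  -- sizes
  have hSne : S ≠ ⊥ := fun h => D.ne i (le_bot_iff.1 (h ▸ (D.side i).US))
  obtain ⟨z, hz, hz1⟩ := Om_ne D.hS hSne
  obtain ⟨u0, hu0, w0, hw0S, hw0, hw0U, hw0v, hd, hcard⟩ := D.crit hn hP hX hv0 hv0X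
  have hc2 : Nat.card (Om S) ≤ 2 := by
    have h1 := card_sq (D.side i) D.hS (D.ne i)
    have h2 : 0 < Nat.card (Om S) := Nat.card_pos
    by_contra h3
    push Not at h3
    have h4 : 3 * Nat.card (Om S) ≤ Nat.card (Om S) * Nat.card (Om S) := Nat.mul_le_mul_right _ h3
    omega
  have hzu : ∀ v ∈ Om S, v ≠ 1 → v = z := by
    intro v hv hv1
    by_contra hvz
    classical
    haveI := Fintype.ofFinite (Om S)
    have hnd : ([(⟨1, (Om S).one_mem⟩ : Om S), ⟨z, hz⟩, ⟨v, hv⟩] : List (Om S)).Nodup := by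
      simp only [List.nodup_cons, List.mem_cons, Subtype.mk.injEq, List.not_mem_nil, or_false, not_or,
        List.nodup_nil, not_false_eq_true, and_true]
      exact ⟨⟨hz1.symm, hv1.symm⟩, fun h => hvz h.symm⟩
    have h5 := hnd.length_le_card
    have h6 : Fintype.card (Om S) = Nat.card (Om S) := (Nat.card_eq_fintype_card).symm
    rw [h6] at h5
    simp only [List.length_cons, List.length_nil] at h5
    omega
  have hc4 : ∀ t, Nat.card (Om (U t)) ≤ 4 := by
    intro t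
    have h1 := card_le_sq (D.side t) D.hS (D.ne t)
    have h2 : Nat.card (Om S) * Nat.card (Om S) ≤ 2 * 2 := Nat.mul_le_mul hc2 hc2
    omega
  have hzU : ∀ t, z ∈ Om (U t) := fun t => Om_le (D.side t) D.hS (D.ne t) hz
  -- (1)
  have hone : ∀ (i' j' : Bool) (Y : G), R H i' (n + 1) j' Y → ∀ v ∈ Om (U i'), Y⁻¹ * v * Y ∉ U j' →
      Y⁻¹ * z * Y = z := by
    intro i' j' Y hY v hv hvY
    obtain ⟨u, hu, w, hwS, hw, hwU, hwv, -, -⟩ := D.crit hn hP hY hv hvY
    have hvS := D.conjS hn hP hY hv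
    have hwH := (D.side i').SH hwS
    have hww : w * w = 1 := by
      rw [hw]
      calc Y * u * Y⁻¹ * (Y * u * Y⁻¹) = Y * (u * u) * Y⁻¹ := by group
        _ = 1 := by rw [hu.2.1]; group
    have hwi : w⁻¹ = w := by rw [inv_eq_iff_mul_eq_one]; exact hww
    -- the commutator
    obtain ⟨c, hc⟩ : ∃ c : G, c = v * (w * v * w⁻¹) := ⟨_, rfl⟩
    have hcm : c ∈ Om (U i') := by
      rw [hc]; exact (Om (U i')).mul_mem hv (Om_nor (D.side i') hwH hv)
    have hc1 : c ≠ 1 := by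
      intro h1
      rw [hc] at h1
      apply hwv
      have h2 : w * v * w⁻¹ = v := by
        have h3 := eq_inv_of_mul_eq_one_right h1
        rw [h3, Om_inv hv]
      rwa [mul_inv_eq_iff_eq_mul] at h2
    have hcw : w * c = c * w := by
      have h3 : v * (w * v * w⁻¹) = (w * v * w⁻¹) * v := Om_comm hv (Om_nor (D.side i') hwH hv)
      rw [hc]
      calc w * (v * (w * v * w⁻¹)) = (w * v * w) * v * w⁻¹ := by group
        _ = (w * v * w⁻¹) * v * w := by rw [hwi]
        _ = v * (w * v * w⁻¹) * w := by rw [h3]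
    have hcz : c = z := hzu c (Om_S_of_comm (D.side i') hcm hwS hwU hcw) hc1
    -- from the other side
    obtain ⟨p, hp⟩ : ∃ p : G, p = Y⁻¹ * v * Y := ⟨_, rfl⟩
    have hpS : p ∈ S := by rw [hp]; exact hvS
    have hpU : p ∉ U j' := by rw [hp]; exact hvY
    have hpH := (D.side j').SH hpS
    have hpp : p * p = 1 := by
      rw [hp]
      calc Y⁻¹ * v * Y * (Y⁻¹ * v * Y) = Y⁻¹ * (v * v) * Y := by group
        _ = 1 := by rw [hv.2.1]; group
    have hpi : p⁻¹ = p := by rw [inv_eq_iff_mul_eq_one]; exact hpp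
    have hcY : Y⁻¹ * c * Y = (p * u * p⁻¹) * u := by
      rw [hc, hpi, hwi, hw, hp]; group
    have hcm' : Y⁻¹ * c * Y ∈ Om (U j') := by
      rw [hcY]; exact (Om (U j')).mul_mem (Om_nor (D.side j') hpH hu) hu
    have hcp : p * (Y⁻¹ * c * Y) = (Y⁻¹ * c * Y) * p := by
      have h3 : (p * u * p⁻¹) * u = u * (p * u * p⁻¹) := Om_comm (Om_nor (D.side j') hpH hu) hu
      rw [hcY]
      calc p * ((p * u * p⁻¹) * u) = (p * p) * u * p⁻¹ * u := by group
        _ = u * p * u := by rw [hpp, hpi]; group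
        _ = u * (p * u * p⁻¹) * p := by group
        _ = (p * u * p⁻¹) * u * p := by rw [h3]
    have hc1' : Y⁻¹ * c * Y ≠ 1 := by
      intro h1
      apply hc1
      have e : c = Y * (Y⁻¹ * c * Y) * Y⁻¹ := by group
      rw [e, h1]; group
    have := hzu _ (Om_S_of_comm (D.side j') hcm' hpS hpU hcp) hc1'
    rw [hcz] at this
    exact this
  -- decompose the critical walk
  obtain ⟨x, g, j, hx, hg, hXe, hj⟩ : ∃ x g j, R H i n j x ∧ g ∈ H j ∧ X = x * g ∧ j0 = !j := by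
    generalize hm : n + 1 = m at hX
    cases hX with
    | base => omega
    | step h' hg =>
      rename_i n' j' x' g'
      have hn' : n' = n := by omega
      subst hn'
      exact ⟨_, _, _, h', hg, rfl, rfl⟩
  have hw0H := (D.side i).SH hw0S
  -- a non-critical neighbour
  obtain ⟨k, hkH, hk, hf⟩ := (D.side i).k
  have hkS := k_notMem D.hS hk
  have hzh : ∀ h ∈ H i, h ∉ S → h * z * h⁻¹ ≠ z := by
    intro h hh hhS h1
    apply hhS
    refine cent (D.side i) (hzU i) hz hz1 hh ?_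
    rwa [mul_inv_eq_iff_eq_mul] at h1
  have hcentz : ∀ h ∈ H i, h ∉ S → w0 * (h * z * h⁻¹) ≠ (h * z * h⁻¹) * w0 := by
    intro h hh hhS h1
    have h2 := Om_S_of_comm (D.side i) (Om_nor (D.side i) hh (hzU i)) hw0S hw0U h1
    have h3 : h * z * h⁻¹ ≠ 1 := by
      intro h4
      apply hz1
      have e : z = h⁻¹ * (h * z * h⁻¹) * h := by group
      rw [e, h4]; group
    exact hzh h hh hhS (hzu _ h2 h3)
  obtain ⟨h, hh, hhS, hnc⟩ : ∃ h ∈ H i, h ∉ S ∧ ∀ u ∈ Om (U (!i)), (h⁻¹ * x)⁻¹ * u * (h⁻¹ * x) ∈ U j := by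
    by_contra hcon
    push Not at hcon
    have key : ∀ h ∈ H i, h ∉ S → x⁻¹ * (h * z * h⁻¹) * x = z := by
      intro h hh hhS
      obtain ⟨u, hu, huU⟩ := hcon h hh hhS
      have h1 := hone _ _ _ (hx.prepend hh) u hu huU
      calc x⁻¹ * (h * z * h⁻¹) * x = (h⁻¹ * x)⁻¹ * z * (h⁻¹ * x) := by group
        _ = z := h1
    have hwk : w0 * k ∉ S := fun h1 => hkS (by
      have := S.mul_mem (S.inv_mem hw0S) h1
      rwa [inv_mul_cancel_left] at this)
    have e1 := key k hkH hkS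
    have e2 := key (w0 * k) ((H i).mul_mem hw0H hkH) hwk
    apply hcentz k hkH hkS
    have e3 : w0 * k * z * (w0 * k)⁻¹ = k * z * k⁻¹ :=
      mul_left_cancel (mul_right_cancel (e2.trans e1.symm))
    calc w0 * (k * z * k⁻¹) = w0 * k * z * (w0 * k)⁻¹ * w0 := by group
      _ = (k * z * k⁻¹) * w0 := by rw [e3]
  -- the second common element
  obtain ⟨z1, hz1e⟩ : ∃ z1 : G, z1 = h * z * h⁻¹ := ⟨_, rfl⟩
  have hz1A : z1 ∈ Om (U i) := by rw [hz1e]; exact Om_nor (D.side i) hh (hzU i)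
  have hz11 : z1 ≠ 1 := by
    intro h4
    apply hz1
    have e : z = h⁻¹ * z1 * h := by rw [hz1e]; group
    rw [e, h4]; group
  have hz1z : z1 ≠ z := by rw [hz1e]; exact hzh h hh hhS
  have hz1X : X⁻¹ * z1 * X ∉ U j0 := fun h1 => hz1z (hzu _ (hd z1 hz1A h1) hz11)
  have hVS : ∀ u ∈ Om (U (!i)), X⁻¹ * (h * u * h⁻¹) * X ∈ S := by
    intro u hu
    have h1 := hnc u hu
    have h2 := (D.side j).nor g⁻¹ ((H j).inv_mem hg) _ h1
    have e : g⁻¹ * ((h⁻¹ * x)⁻¹ * u * (h⁻¹ * x)) * g⁻¹⁻¹ = X⁻¹ * (h * u * h⁻¹) * X := by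
      rw [hXe]; group
    rw [e] at h2
    exact (D.side j).US h2
  obtain ⟨w', hw'V, hw'1, hw'z, hw'U⟩ : ∃ w' ∈ Om (U (!i)), w' ≠ 1 ∧ w' ≠ z ∧
      X⁻¹ * (h * w' * h⁻¹) * X ∈ U j0 := by
    obtain ⟨k', hk'H, hk', hf'⟩ := (D.side (!i)).k
    have hy0 : k' * z * k'⁻¹ ∈ Om (U (!i)) := Om_nor (D.side (!i)) hk'H (hzU (!i))
    have hy01 : k' * z * k'⁻¹ ≠ 1 := by
      intro h4
      apply hz1
      have e : z = k'⁻¹ * (k' * z * k'⁻¹) * k' := by group
      rw [e, h4]; group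
    have hy0z : k' * z * k'⁻¹ ≠ z := by
      intro h4
      rw [mul_inv_eq_iff_eq_mul] at h4
      exact hz1 (hf' z (hzU (!i)).1 h4.symm)
    by_cases hcase : X⁻¹ * (h * (k' * z * k'⁻¹) * h⁻¹) * X ∈ U j0
    · exact ⟨_, hy0, hy01, hy0z, hcase⟩
    · refine ⟨z * (k' * z * k'⁻¹), (Om (U (!i))).mul_mem (hzU (!i)) hy0, ?_, ?_, ?_⟩
      · intro h1
        apply hy0z
        have h3 := eq_inv_of_mul_eq_one_right h1
        rw [h3, Om_inv hz]
      · intro h1
        exact hy01 (mul_eq_left.1 h1)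
      · have h3 : (X⁻¹ * z1 * X) * (X⁻¹ * (h * (k' * z * k'⁻¹) * h⁻¹) * X) ∈ U j0 := by
          refine (two (D.side j0) ?_ (hVS _ hy0)).2 (iff_of_false hz1X hcase)
          rw [hz1e]; exact hVS z (hzU (!i))
        have e : (X⁻¹ * z1 * X) * (X⁻¹ * (h * (k' * z * k'⁻¹) * h⁻¹) * X) =
            X⁻¹ * (h * (z * (k' * z * k'⁻¹)) * h⁻¹) * X := by rw [hz1e]; group
        rwa [e] at h3
  obtain ⟨w, hwe⟩ : ∃ w : G, w = h * w' * h⁻¹ := ⟨_, rfl⟩
  have hww : w * w = 1 := by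
    rw [hwe]
    calc h * w' * h⁻¹ * (h * w' * h⁻¹) = h * (w' * w') * h⁻¹ := by group
      _ = 1 := by rw [hw'V.2.1]; group
  have hwi : w⁻¹ = w := by rw [inv_eq_iff_mul_eq_one]; exact hww
  have hw1 : w ≠ 1 := by
    intro h4
    apply hw'1
    have e : w' = h⁻¹ * w * h := by rw [hwe]; group
    rw [e, h4]; group
  have hww0 : w0 * w = w * w0 := by
    have h1 := hu0.2.2 _ hw'U
    rw [← hwe] at h1
    rw [hw0]
    calc X * u0 * X⁻¹ * w = X * (u0 * (X⁻¹ * w * X)) * X⁻¹ := by group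
      _ = X * (X⁻¹ * w * X * u0) * X⁻¹ := by rw [h1]
      _ = w * (X * u0 * X⁻¹) := by group
  have hwU : w ∈ U i := by
    have h1 := D.hVU (!i) hw'V
    rw [Bool.not_not] at h1
    rw [hwe]; exact (D.side i).nor h hh _ h1
  have hwA : w ∉ Om (U i) := by
    intro h1
    have h2 : w = z := hzu _ (Om_S_of_comm (D.side i) h1 hw0S hw0U hww0) hw1
    have h3 : w' ∈ Om (U i) := by
      have e : w' = h⁻¹ * w * h := by rw [hwe]; group
      rw [e]; exact Om_nor' (D.side i) hh h1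
    have h4 : Om (U (!i)) ≤ Om (U i) := by
      intro v hv
      rcases four (hc4 (!i)) (hzU (!i)) hw'V hz1 hw'1 hw'z hv with h5 | h5 | h5 | h5
      · rw [h5]; exact (Om (U i)).one_mem
      · rw [h5]; exact hzU i
      · rw [h5]; exact h3
      · rw [h5]; exact (Om (U i)).mul_mem (hzU i) h3
    have h4' : Om (U i) ≤ Om (U (!i)) := by
      intro v hv
      rcases four (hc4 i) (hzU i) h3 hz1 hw'1 hw'z hv with h5 | h5 | h5 | h5
      · rw [h5]; exact (Om (U (!i))).one_mem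
      · rw [h5]; exact hzU (!i)
      · rw [h5]; exact hw'V
      · rw [h5]; exact (Om (U (!i))).mul_mem (hzU (!i)) hw'V
    refine D.nc (Om (U i)) ?_ (fun v hv => (D.side i).US hv.1) ?_
    · intro h5
      apply hz1
      have := hzU i
      rw [h5] at this
      exact Subgroup.mem_bot.1 this
    · intro t a ha v hv
      by_cases ht : t = i
      · subst ht; exact Om_nor (D.side t) ha hv
      · have ht' : t = !i := bnot ht
        subst ht'
        exact h4 (Om_nor (D.side (!i)) ha (h4' hv))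
  have hwc : ∀ a ∈ Om (U i), w * a = a * w := fun a ha => ha.2.2 w hwU
  have hec : ∀ e : G, e * w ∈ Om (U i) → e * w = w * e := by
    intro e he
    have h1 := hwc _ he
    have h2 : (w * e) * w = (e * w) * w := by rw [mul_assoc]; exact h1
    exact (mul_right_cancel h2).symm
  let E : Subgroup G :=
    { carrier := {e | e ∈ Om (U i) ∨ e * w ∈ Om (U i)}
      one_mem' := Or.inl (Om (U i)).one_mem
      mul_mem' := by
        rintro e f (he | he) (hf | hf)
        · exact Or.inl ((Om (U i)).mul_mem he hf)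
        · refine Or.inr ?_
          rw [mul_assoc]; exact (Om (U i)).mul_mem he hf
        · refine Or.inr ?_
          have e1 : e * f * w = (e * w) * f := by
            rw [mul_assoc, ← hwc f hf, mul_assoc]
          rw [e1]; exact (Om (U i)).mul_mem he hf
        · refine Or.inl ?_
          have e1 : e * f = (e * w) * (f * w) := by
            rw [hec f hf]
            calc e * f = e * (w * w) * f := by rw [hww, mul_one]
              _ = e * w * (w * f) := by group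
          rw [e1]; exact (Om (U i)).mul_mem he hf
      inv_mem' := by
        rintro e (he | he)
        · exact Or.inl ((Om (U i)).inv_mem he)
        · refine Or.inr ?_
          have e1 : e⁻¹ * w = (e * w)⁻¹ := by
            rw [hec e he, mul_inv_rev, hwi]
          rw [e1]; exact (Om (U i)).inv_mem he }
  have hEA : ∀ a ∈ Om (U i), a ∈ E := fun a ha => Or.inl ha
  have hEw : w ∈ E := Or.inr (by rw [hww]; exact (Om (U i)).one_mem)
  have hEV : ∀ u ∈ Om (U (!i)), h * u * h⁻¹ ∈ E := by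
    intro u hu
    rcases four (hc4 (!i)) (hzU (!i)) hw'V hz1 hw'1 hw'z hu with h5 | h5 | h5 | h5
    · rw [h5]
      have e : h * 1 * h⁻¹ = 1 := by group
      rw [e]; exact E.one_mem
    · rw [h5, ← hz1e]; exact hEA _ hz1A
    · rw [h5, ← hwe]; exact hEw
    · rw [h5]
      have e : h * (z * w') * h⁻¹ = z1 * w := by rw [hz1e, hwe]; group
      rw [e]; exact E.mul_mem (hEA _ hz1A) hEw
  have hnE : ∀ n ∈ H i, n * w * n⁻¹ ∈ E → ∀ e ∈ E, n * e * n⁻¹ ∈ E := by
    intro n hn hnw e he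
    rcases he with he | he
    · exact hEA _ (Om_nor (D.side i) hn he)
    · have h1 := hEA _ (Om_nor (D.side i) hn he)
      have e1 : n * e * n⁻¹ = (n * (e * w) * n⁻¹) * (n * w * n⁻¹)⁻¹ := by group
      rw [e1]; exact E.mul_mem h1 (E.inv_mem hnw)
  have hN : ∀ n ∈ H i, n * w * n⁻¹ ∈ E → n⁻¹ * w * n ∈ E → n ∈ H i ⊓ normalizer (E : Set G) := by
    intro n hn h1 h2
    refine ⟨hn, Subgroup.mem_normalizer_iff.2 fun y => ⟨fun hy => hnE n hn h1 y hy, fun hy => ?_⟩⟩
    have h3 := hnE n⁻¹ ((H i).inv_mem hn) (by rwa [inv_inv]) _ hy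
    have e : n⁻¹ * (n * y * n⁻¹) * n⁻¹⁻¹ = y := by group
    rwa [e] at h3
  rcases up (D.side i) hh (D := H i ⊓ normalizer (E : Set G)) inf_le_left (fun s hs => by
      have hsH := (D.side (!i)).SH hs
      refine hN _ ((H i).mul_mem ((H i).mul_mem hh ((D.side i).SH hs)) ((H i).inv_mem hh)) ?_ ?_
      · have e : h * s * h⁻¹ * w * (h * s * h⁻¹)⁻¹ = h * (s * w' * s⁻¹) * h⁻¹ := by rw [hwe]; group
        rw [e]; exact hEV _ (Om_nor (D.side (!i)) hsH hw'V)
      · have e : (h * s * h⁻¹)⁻¹ * w * (h * s * h⁻¹) = h * (s⁻¹ * w' * s) * h⁻¹ := by rw [hwe]; group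
        rw [e]; exact hEV _ (Om_nor' (D.side (!i)) hsH hw'V)) with h1 | h1
  · have h2 : w0 ∈ H i ⊓ normalizer (E : Set G) := by
      refine hN w0 hw0H ?_ ?_
      · have e : w0 * w * w0⁻¹ = w := by rw [hww0]; group
        rw [e]; exact hEw
      · have e : w0⁻¹ * w * w0 = w := by rw [mul_assoc, ← hww0]; group
        rw [e]; exact hEw
    have h3 := hz.2.2 _ (h1 w0 h2)
    apply hcentz h hh hhS
    calc w0 * (h * z * h⁻¹) = h * (h⁻¹ * w0 * h * z) * h⁻¹ := by group
      _ = h * (z * (h⁻¹ * w0 * h)) * h⁻¹ := by rw [h3]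
      _ = (h * z * h⁻¹) * w0 := by group
  · have hkN : k ∈ H i ⊓ normalizer (E : Set G) := by rw [h1]; exact hkH
    have hkw : k * w * k⁻¹ ∈ E := (Subgroup.mem_normalizer_iff.1 hkN.2 w).1 hEw
    rcases hkw with h2 | h2
    · apply hwA
      have h3 := Om_nor' (D.side i) hkH h2
      have e : k⁻¹ * (k * w * k⁻¹) * k = w := by group
      rwa [e] at h3
    · -- the coset `A w` is `k`-invariant
      let φ : Om (U i) → Om (U i) := fun a =>
        ⟨(k * a * k⁻¹)⁻¹ * a, (Om (U i)).mul_mem ((Om (U i)).inv_mem (Om_nor (D.side i) hkH a.2)) a.2⟩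
      have hφ : Function.Injective φ := by
        intro a b hab
        have h3 : (k * (a : G) * k⁻¹)⁻¹ * a = (k * (b : G) * k⁻¹)⁻¹ * b :=
          congrArg (fun y : Om (U i) => (y : G)) hab
        have h4 : k * ((b : G) * (a : G)⁻¹) * k⁻¹ = (b : G) * (a : G)⁻¹ := by
          calc k * ((b : G) * (a : G)⁻¹) * k⁻¹
              = (k * b * k⁻¹) * ((k * (a : G) * k⁻¹)⁻¹ * a) * (a : G)⁻¹ := by group
            _ = (k * b * k⁻¹) * ((k * (b : G) * k⁻¹)⁻¹ * b) * (a : G)⁻¹ := by rw [h3]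
            _ = (b : G) * (a : G)⁻¹ := by group
        rw [mul_inv_eq_iff_eq_mul] at h4
        have h5 := hf _ ((U i).mul_mem b.2.1 ((U i).inv_mem a.2.1)) h4.symm
        exact (Subtype.ext (mul_inv_eq_one.1 h5)).symm
      obtain ⟨a', ha'⟩ := (Finite.injective_iff_surjective.1 hφ) ⟨k * w * k⁻¹ * w, h2⟩
      have h3 : (k * (a' : G) * k⁻¹)⁻¹ * a' = k * w * k⁻¹ * w :=
        congrArg (fun y : Om (U i) => (y : G)) ha'
      have h4 : k * ((a' : G) * w) * k⁻¹ = (a' : G) * w := by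
        calc k * ((a' : G) * w) * k⁻¹ = (k * (a' : G) * k⁻¹) * (k * w * k⁻¹) * (w * w) := by
              rw [hww]; group
          _ = (k * (a' : G) * k⁻¹) * (k * w * k⁻¹ * w) * w := by group
          _ = (k * (a' : G) * k⁻¹) * ((k * (a' : G) * k⁻¹)⁻¹ * a') * w := by rw [h3]
          _ = (a' : G) * w := by group
      rw [mul_inv_eq_iff_eq_mul] at h4
      have h5 := hf _ ((U i).mul_mem a'.2.1 hwU) h4.symm
      apply hwA
      have h6 : w = (a' : G)⁻¹ := eq_inv_of_mul_eq_one_right h5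
      rw [h6]; exact (Om (U i)).inv_mem a'.2

/-- step 2: the critical distance is not ≥ 2 -/
theorem Dat.false (D : Dat S H U) : False := by
  refine D.not_all (fun n hn => ?_)
  induction n, hn using Nat.le_induction with
  | base => exact D.P1
  | succ n hn ih => exact D.step hn ih

end dat

end Cfsg.Agent.Lib.H15SG80
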