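import Mathlib
import Cfsg.Agent.Lib.H15S0

set_option autoImplicit false
set_option linter.unusedSectionVars false
set_option linter.unusedVariables false

/-! S2220: the amalgam lemma, step 2. -/

namespace Cfsg.Agent.Lib.H15SGAM2b

open Subgroup Cfsg.Agent.Lib.H15S

variable {G : Type*} [Group G]

/-- involutions (and 1) in the centre of `U` -/
def Vz (U : Subgroup G) : Set G := {v | v ∈ U ∧ v * v = 1 ∧ ∀ u ∈ U, v * u = u * v}

theorem Vz.mul {U : Subgroup G} {v w : G} (hv : v ∈ Vz U) (hw : w ∈ Vz U) : v * w ∈ Vz U := by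
  refine ⟨U.mul_mem hv.1 hw.1, ?_, fun u hu => ?_⟩
  · have := hv.2.2 w hw.1
    calc v * w * (v * w) = v * (w * v) * w := by group
      _ = v * (v * w) * w := by rw [this]
      _ = (v * v) * (w * w) := by group
      _ = 1 := by rw [hv.2.1, hw.2.1, one_mul]
  · rw [mul_assoc, hw.2.2 u hu, ← mul_assoc, hv.2.2 u hu, mul_assoc]

theorem Vz.one {U : Subgroup G} : (1 : G) ∈ Vz U := ⟨U.one_mem, one_mul 1, fun u _ => by rw [one_mul, mul_one]⟩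

theorem Vz.inv {U : Subgroup G} {v : G} (hv : v ∈ Vz U) : v⁻¹ = v := inv_eq_of_mul_eq_one_left hv.2.1

theorem Vz.conj {U : Subgroup G} {v g : G} (hv : v ∈ Vz U) (hg : ∀ u ∈ U, g * u * g⁻¹ ∈ U)
    (hg' : ∀ u ∈ U, g⁻¹ * u * g ∈ U) : g * v * g⁻¹ ∈ Vz U := by
  refine ⟨hg v hv.1, ?_, fun u hu => ?_⟩
  · calc g * v * g⁻¹ * (g * v * g⁻¹) = g * (v * v) * g⁻¹ := by group
      _ = 1 := by rw [hv.2.1]; group
  · have := hv.2.2 _ (hg' u hu)
    calc g * v * g⁻¹ * u = g * (v * (g⁻¹ * u * g)) * g⁻¹ := by group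
      _ = g * ((g⁻¹ * u * g) * v) * g⁻¹ := by rw [this]
      _ = u * (g * v * g⁻¹) := by group

/-- an element of order three acting fixed point freely on `U` -/
structure Kp (S U : Subgroup G) (k : G) : Prop where
  k3 : k * k * k = 1
  kf : ∀ u ∈ U, k * u * k⁻¹ = u → u = 1
  sk : ∀ a ∈ S, a ∉ U → a * k * a⁻¹ * k ∈ U

structure Am (S : Subgroup G) (H U : ℕ → Subgroup G) : Prop where
  pH : ∀ i, H (i + 2) = H i
  pU : ∀ i, U (i + 2) = U i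
  US : ∀ i, U i ≤ S
  SH : ∀ i, S ≤ H i
  nor : ∀ i, ∀ g ∈ H i, ∀ u ∈ U i, g * u * g⁻¹ ∈ U i
  two : ∀ i, ∀ a ∈ S, ∀ b ∈ S, a ∉ U i → b ∉ U i → a * b ∈ U i
  ks : ∀ i, ∃ k ∈ H i, Kp S (U i) k
  cV : ∀ i, ∀ a ∈ S, (∀ v ∈ Vz (U i), a * v = v * a) → a ∈ U i
  sE : ∀ i, ∃ s ∈ S, s ∉ U i
  dist : ∀ i, ∃ v, ¬ (v ∈ Vz (U i) ↔ v ∈ Vz (U (i + 1)))
  zE : ∃ z ∈ Vz S, z ≠ 1

theorem Kp.kinv {S U : Subgroup G} {k : G} (h : Kp S U k) (hn : ∀ u ∈ U, k * u * k⁻¹ ∈ U) : Kp S U k⁻¹ := by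
  refine ⟨?_, ?_, ?_⟩
  · have := congrArg (fun x => x⁻¹) h.k3
    simp only [mul_inv_rev, inv_one] at this
    rw [mul_assoc]; exact this
  · intro u hu h1
    apply h.kf u hu
    calc k * u * k⁻¹ = k * (k⁻¹ * u * k⁻¹⁻¹) * k⁻¹ := by rw [h1]
      _ = u := by group
  · intro a ha hau
    have h1 := h.sk a ha hau
    have h2 := hn _ (U.inv_mem h1)
    have : k * (a * k * a⁻¹ * k)⁻¹ * k⁻¹ = a * k⁻¹ * a⁻¹ * k⁻¹ := by group
    rwa [this] at h2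

namespace Am

variable {S : Subgroup G} {H U : ℕ → Subgroup G} (A : Am S H U)
include A

theorem nor' (i : ℕ) {g : G} (hg : g ∈ H i) {u : G} (hu : u ∈ U i) : g⁻¹ * u * g ∈ U i := by
  have := A.nor i g⁻¹ ((H i).inv_mem hg) u hu
  rwa [inv_inv] at this

theorem vconj (i : ℕ) {g : G} (hg : g ∈ H i) {v : G} (hv : v ∈ Vz (U i)) : g * v * g⁻¹ ∈ Vz (U i) :=
  Vz.conj hv (A.nor i g hg) (fun _ hu => A.nor' i hg hu)

theorem sconj {a v : G} (ha : a ∈ S) (hv : v ∈ Vz S) : a * v * a⁻¹ = v := by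
  rw [← hv.2.2 a ha, mul_inv_cancel_right]

theorem zU (i : ℕ) {z : G} (hz : z ∈ Vz S) : z ∈ Vz (U i) :=
  ⟨A.cV i z hz.1 (fun v hv => hz.2.2 v (A.US i hv.1)), hz.2.1, fun u hu => hz.2.2 u (A.US i hu)⟩

/-- L1 -/
theorem l1 (i : ℕ) {y a : G} (hy : y ∈ Vz (U i)) (ha : a ∈ S) (hau : a ∉ U i) (h : a * y = y * a) : y ∈ Vz S := by
  refine ⟨A.US i hy.1, hy.2.1, fun b hb => ?_⟩
  by_cases hbU : b ∈ U i
  · exact hy.2.2 b hbU
  · have h1 := hy.2.2 _ (A.two i b hb a ha hbU hau)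
    have h2 : y * b * a = b * y * a := by
      calc y * b * a = y * (b * a) := by group
        _ = (b * a) * y := h1
        _ = b * (a * y) := by group
        _ = b * (y * a) := by rw [h]
        _ = b * y * a := by group
    exact mul_right_cancel h2

/-- L2 -/
theorem l2 (i : ℕ) {k : G} (hk : k ∈ H i) (K : Kp S (U i) k) {y : G} (hy : y ∈ Vz S) (hy' : k * y * k⁻¹ ∈ Vz S) :
    y = 1 := by
  obtain ⟨s, hs, hsU⟩ := A.sE i
  have h1 := K.sk s hs hsU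
  have hk3 : k⁻¹ * k⁻¹ = k := by
    have := K.k3
    have h2 : k * k * k * (k⁻¹ * k⁻¹) = k⁻¹ * k⁻¹ := by rw [this, one_mul]
    rw [← h2]; group
  -- the element `k y k⁻¹` commutes with `k`
  have e0 : k = (s * k * s⁻¹ * k)⁻¹ * s * (k * s⁻¹ * k⁻¹) := by
    have : (s * k * s⁻¹ * k)⁻¹ * s * (k * s⁻¹ * k⁻¹) = k⁻¹ * k⁻¹ := by group
    rw [this, hk3]
  have c1 : ∀ t ∈ S, t * (k * y * k⁻¹) = (k * y * k⁻¹) * t := fun t ht => (hy'.2.2 t ht).symm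
  have c2 : (k * s⁻¹ * k⁻¹) * (k * y * k⁻¹) = (k * y * k⁻¹) * (k * s⁻¹ * k⁻¹) := by
    have := hy.2.2 s⁻¹ (S.inv_mem hs)
    calc (k * s⁻¹ * k⁻¹) * (k * y * k⁻¹) = k * (s⁻¹ * y) * k⁻¹ := by group
      _ = k * (y * s⁻¹) * k⁻¹ := by rw [this]
      _ = _ := by group
  have c3 : k * (k * y * k⁻¹) = (k * y * k⁻¹) * k := by
    have hu : (s * k * s⁻¹ * k)⁻¹ * s ∈ S := S.mul_mem (S.inv_mem (A.US i h1)) hs
    obtain ⟨y', hy'e⟩ : ∃ y', y' = k * y * k⁻¹ := ⟨_, rfl⟩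
    obtain ⟨t, ht⟩ : ∃ t, t = k * s⁻¹ * k⁻¹ := ⟨_, rfl⟩
    obtain ⟨w, hw⟩ : ∃ w, w = (s * k * s⁻¹ * k)⁻¹ * s := ⟨_, rfl⟩
    have c1' := c1 _ hu
    rw [← hy'e, ← ht] at c2
    rw [← hy'e, ← hw] at c1'
    rw [← ht, ← hw] at e0
    rw [← hy'e, e0, mul_assoc, c2, ← mul_assoc, c1', mul_assoc]
  have hyU : k * y * k⁻¹ ∈ U i := A.nor i k hk y (A.zU i hy).1
  have h3 := K.kf _ hyU (by rw [c3, mul_inv_cancel_right])
  have : y = k⁻¹ * (k * y * k⁻¹) * k := by group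
  rw [this, h3]; group

/-- walks -/
def Wk (H : ℕ → Subgroup G) (n i : ℕ) (f : ℕ → G) : Prop := ∀ j < n, (f j)⁻¹ * f (j + 1) ∈ H (i + j + 1)

/-- critical walks of length `n + 1` -/
def Cr (H U : ℕ → Subgroup G) (n i : ℕ) (f : ℕ → G) : Prop := Wk H n i f ∧
  ∃ x ∈ Vz (U i), (f n)⁻¹ * (f 0 * x * (f 0)⁻¹) * f n ∉ U (i + n + 1)

theorem pH' (i n : ℕ) : H (i + 2 * n) = H i := by
  induction n with
  | zero => rfl
  | succ n ih => rw [show i + 2 * (n + 1) = (i + 2 * n) + 2 by ring, A.pH, ih]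

theorem pU' (i n : ℕ) : U (i + 2 * n) = U i := by
  induction n with
  | zero => rfl
  | succ n ih => rw [show i + 2 * (n + 1) = (i + 2 * n) + 2 by ring, A.pU, ih]

/-- data of a critical pair -/
theorem data {n i : ℕ} {f : ℕ → G} (hn : 0 < n) (h0 : f 0 = 1) (hc : Cr H U n i f)
    (hmin : ∀ m < n, ∀ i f, ¬ Cr H U m i f) :
    (∀ x ∈ Vz (U i), (f n)⁻¹ * x * f n ∈ S) ∧
    (∀ y ∈ Vz (U (i + n + 1)), f n * y * (f n)⁻¹ ∈ S) ∧
    ∃ x ∈ Vz (U i), ∃ y ∈ Vz (U (i + n + 1)), (f n)⁻¹ * x * f n ∉ U (i + n + 1) ∧ f n * y * (f n)⁻¹ ∉ U i ∧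
      ((f n)⁻¹ * x * f n) * y ≠ y * ((f n)⁻¹ * x * f n) := by
  obtain ⟨m, rfl⟩ : ∃ m, n = m + 1 := ⟨n - 1, by omega⟩
  obtain ⟨hw, x, hx, hxn⟩ := hc
  rw [h0] at hxn
  have hxn' : (f (m + 1))⁻¹ * x * f (m + 1) ∉ U (i + (m + 1) + 1) := by
    simpa using hxn
  have F1 : ∀ x ∈ Vz (U i), (f (m + 1))⁻¹ * x * f (m + 1) ∈ S := by
    intro x hx
    have h1 : (f m)⁻¹ * (f 0 * x * (f 0)⁻¹) * f m ∈ U (i + m + 1) := by
      by_contra hcon
      exact hmin m (Nat.lt_succ_self m) i f ⟨fun j hj => hw j (by omega), x, hx, hcon⟩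
    rw [h0] at h1
    have h2 := A.nor' (i + m + 1) (hw m (Nat.lt_succ_self m)) h1
    have h3 : ((f m)⁻¹ * f (m + 1))⁻¹ * ((f m)⁻¹ * (1 * x * 1⁻¹) * f m) * ((f m)⁻¹ * f (m + 1)) =
        (f (m + 1))⁻¹ * x * f (m + 1) := by group
    rw [h3] at h2
    exact A.US _ h2
  have F2 : ∀ y ∈ Vz (U (i + (m + 1) + 1)), f (m + 1) * y * (f (m + 1))⁻¹ ∈ S := by
    intro y hy
    have h1 : (f (m + 1 - m))⁻¹ * (f (m + 1 - 0) * y * (f (m + 1 - 0))⁻¹) * f (m + 1 - m) ∈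
        U ((i + (m + 1) + 1) + m + 1) := by
      by_contra hcon
      refine hmin m (Nat.lt_succ_self m) (i + (m + 1) + 1) (fun j => f (m + 1 - j)) ⟨?_, y, hy, hcon⟩
      intro j hj
      have h2 := hw (m - j) (by omega)
      have h3 := (H _).inv_mem h2
      have h4 : ((f (m - j))⁻¹ * f (m - j + 1))⁻¹ = (f (m + 1 - j))⁻¹ * f (m + 1 - (j + 1)) := by
        rw [show m + 1 - (j + 1) = m - j by omega, show m + 1 - j = m - j + 1 by omega]; group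
      rw [h4] at h3
      have h5 := A.pH' (i + (m - j) + 1) (j + 1)
      rw [show i + (m - j) + 1 + 2 * (j + 1) = i + (m + 1) + 1 + j + 1 by omega] at h5
      show (f (m + 1 - j))⁻¹ * f (m + 1 - (j + 1)) ∈ H (i + (m + 1) + 1 + j + 1)
      rw [h5]
      exact h3
    rw [show m + 1 - m = 1 by omega, Nat.sub_zero, show i + (m + 1) + 1 + m + 1 = (i + 1) + 2 * (m + 1) by ring,
      A.pU'] at h1
    have h2 : f 1 ∈ H (i + 1) := by
      have := hw 0 (by omega)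
      rw [h0] at this
      simpa using this
    have h3 := A.nor (i + 1) _ h2 _ h1
    have h4 : f 1 * ((f 1)⁻¹ * (f (m + 1) * y * (f (m + 1))⁻¹) * f 1) * (f 1)⁻¹ = f (m + 1) * y * (f (m + 1))⁻¹ := by
      group
    rw [h4] at h3
    exact A.US _ h3
  refine ⟨F1, F2, x, hx, ?_⟩
  obtain ⟨y, hy, hxy⟩ : ∃ y ∈ Vz (U (i + (m + 1) + 1)), ((f (m + 1))⁻¹ * x * f (m + 1)) * y ≠
      y * ((f (m + 1))⁻¹ * x * f (m + 1)) := by
    by_contra hcon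
    push Not at hcon
    exact hxn' (A.cV _ _ (F1 x hx) hcon)
  refine ⟨y, hy, hxn', ?_, hxy⟩
  intro hcon
  apply hxy
  have h1 := hx.2.2 _ hcon
  calc (f (m + 1))⁻¹ * x * f (m + 1) * y = (f (m + 1))⁻¹ * (x * (f (m + 1) * y * (f (m + 1))⁻¹)) * f (m + 1) := by group
    _ = (f (m + 1))⁻¹ * ((f (m + 1) * y * (f (m + 1))⁻¹) * x) * f (m + 1) := by rw [h1]
    _ = y * ((f (m + 1))⁻¹ * x * f (m + 1)) := by group

/-- elements of `Vz (U i)` in the other group are central in `S` -/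
theorem f4 {i j : ℕ} {g y v : G} (hy : y ∈ Vz (U i)) (hv : v ∈ Vz (U j)) (hvS : g * v * g⁻¹ ∈ S)
    (hvU : g * v * g⁻¹ ∉ U i) (hyU : g⁻¹ * y * g ∈ U j) : y ∈ Vz S := by
  apply A.l1 i hy hvS hvU
  have := hv.2.2 _ hyU
  calc g * v * g⁻¹ * y = g * (v * (g⁻¹ * y * g)) * g⁻¹ := by group
    _ = g * ((g⁻¹ * y * g) * v) * g⁻¹ := by rw [this]
    _ = y * (g * v * g⁻¹) := by group

/-- the centre of `S` is small -/
theorem uniq {i j : ℕ} {g v : G} (hV : ∀ x ∈ Vz (U i), g⁻¹ * x * g ∈ S) (hv : v ∈ Vz (U j)) (hvS : g * v * g⁻¹ ∈ S)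
    (hvU : g * v * g⁻¹ ∉ U i) {z z' : G} (hz : z ∈ Vz S) (hz' : z' ∈ Vz S) (h1 : z ≠ 1) (h1' : z' ≠ 1) : z = z' := by
  obtain ⟨k, hk, K⟩ := A.ks i
  have key : ∀ t ∈ Vz S, g⁻¹ * (k * t * k⁻¹) * g ∈ U j → t = 1 := by
    intro t ht hU
    exact A.l2 i hk K ht (A.f4 (A.vconj i hk (A.zU i ht)) hv hvS hvU hU)
  have h2 := A.two j _ (hV _ (A.vconj i hk (A.zU i hz))) _ (hV _ (A.vconj i hk (A.zU i hz')))
    (fun h => h1 (key z hz h)) (fun h => h1' (key z' hz' h))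
  have h3 : g⁻¹ * (k * z * k⁻¹) * g * (g⁻¹ * (k * z' * k⁻¹) * g) = g⁻¹ * (k * (z * z') * k⁻¹) * g := by group
  rw [h3] at h2
  have h4 := key _ (Vz.mul hz hz') h2
  rw [mul_eq_one_iff_eq_inv, Vz.inv hz'] at h4
  exact h4

/-- the four elements of `Vz (U j)` -/
theorem four {z : G} (hz : z ∈ Vz S) (huz : ∀ y ∈ Vz S, y = 1 ∨ y = z) (j : ℕ) {y y' : G} (hy : y ∈ Vz (U j))
    (hy' : y' ∈ Vz (U j)) (h1 : y ∉ Vz S) (h1' : y' ∉ Vz S) : y' = y ∨ y' = y * z := by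
  obtain ⟨s, hs, hsU⟩ := A.sE j
  have hsH := A.SH j hs
  have key : ∀ t ∈ Vz (U j), t ∉ Vz S → t * (s * t * s⁻¹) = z := by
    intro t ht htS
    have ht' := A.vconj j hsH ht
    have hs2 := A.two j s hs s hs hsU hsU
    have h2 : t * (s * t * s⁻¹) ∈ Vz S := by
      apply A.l1 j (Vz.mul ht ht') hs hsU
      have h3 : s * (t * (s * t * s⁻¹)) * s⁻¹ = t * (s * t * s⁻¹) := by
        have h4 := ht.2.2 _ hs2
        calc s * (t * (s * t * s⁻¹)) * s⁻¹ = (s * t * s⁻¹) * ((s * s) * t * (s * s)⁻¹) := by group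
          _ = (s * t * s⁻¹) * t := by rw [← h4, mul_inv_cancel_right]
          _ = t * (s * t * s⁻¹) := (ht.2.2 _ ht'.1).symm
      calc s * (t * (s * t * s⁻¹)) = (s * (t * (s * t * s⁻¹)) * s⁻¹) * s := by group
        _ = (t * (s * t * s⁻¹)) * s := by rw [h3]
    rcases huz _ h2 with h3 | h3
    · exfalso
      apply htS
      apply A.l1 j ht hs hsU
      have h4 : s * t * s⁻¹ = t := by
        rw [mul_eq_one_iff_inv_eq, Vz.inv ht] at h3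
        exact h3.symm
      rw [mul_inv_eq_iff_eq_mul] at h4
      exact h4
    · exact h3
  have e1 := key y hy h1
  have e2 := key y' hy' h1'
  have h2 : y * y' ∈ Vz S := by
    apply A.l1 j (Vz.mul hy hy') hs hsU
    have e3 : s * y * s⁻¹ = y * z := by
      rw [← e1, ← mul_assoc, hy.2.1, one_mul]
    have e4 : s * y' * s⁻¹ = y' * z := by
      rw [← e2, ← mul_assoc, hy'.2.1, one_mul]
    have e5 : s * (y * y') * s⁻¹ = y * y' := by
      calc s * (y * y') * s⁻¹ = (s * y * s⁻¹) * (s * y' * s⁻¹) := by group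
        _ = (y * z) * (y' * z) := by rw [e3, e4]
        _ = y * (z * y') * z := by group
        _ = y * (y' * z) * z := by rw [hz.2.2 _ (A.US j hy'.1)]
        _ = y * y' * (z * z) := by group
        _ = y * y' := by rw [hz.2.1, mul_one]
    rw [mul_inv_eq_iff_eq_mul] at e5
    exact e5
  rcases huz _ h2 with h3 | h3
  · left
    rw [mul_eq_one_iff_inv_eq, Vz.inv hy] at h3
    exact h3.symm
  · right
    rw [← h3, ← mul_assoc, hy.2.1, one_mul]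

/-- the conclusion for one critical walk -/
theorem comm {n i : ℕ} {f : ℕ → G} (hn : 0 < n) (h0 : f 0 = 1) (hc : Cr H U n i f)
    (hmin : ∀ m < n, ∀ i f, ¬ Cr H U m i f) {z : G} (hz : z ∈ Vz S) (hz1 : z ≠ 1) (huz : ∀ y ∈ Vz S, y = 1 ∨ y = z) :
    (f n)⁻¹ * z * f n = z := by
  obtain ⟨F1, F2, x, hx, y, hy, hxU, hyU, hxy⟩ := A.data hn h0 hc hmin
  obtain ⟨g, hg⟩ : ∃ g, g = f n := ⟨_, rfl⟩
  rw [← hg] at F1 F2 hxU hyU hxy ⊢
  have hvS := F2 y hy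
  obtain ⟨v, hv⟩ : ∃ v, v = g * y * g⁻¹ := ⟨_, rfl⟩
  rw [← hv] at hvS hyU
  have hxS := F1 x hx
  obtain ⟨x', hx'⟩ : ∃ x', x' = g⁻¹ * x * g := ⟨_, rfl⟩
  rw [← hx'] at hxS hxU hxy
  obtain ⟨c, hcc⟩ : ∃ c, c = x * (v * x * v⁻¹) := ⟨_, rfl⟩
  have hc1 : c ∈ Vz (U i) := by
    rw [hcc]
    exact Vz.mul hx (A.vconj i (A.SH i hvS) hx)
  have hc2 : g⁻¹ * c * g = (x' * y * x'⁻¹) * y := by
    have h1 : v⁻¹ = v := by
      rw [hv]
      calc (g * y * g⁻¹)⁻¹ = g * y⁻¹ * g⁻¹ := by group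
        _ = _ := by rw [Vz.inv hy]
    have h2 : x'⁻¹ = x' := by
      rw [hx']
      calc (g⁻¹ * x * g)⁻¹ = g⁻¹ * x⁻¹ * g := by group
        _ = _ := by rw [Vz.inv hx]
    rw [hcc, h1, h2, hx', hv]
    group
  have hc3 : g⁻¹ * c * g ∈ Vz (U (i + n + 1)) := by
    rw [hc2]
    exact Vz.mul (A.vconj _ (A.SH _ hxS) hy) hy
  have hcne : c ≠ 1 := by
    rintro h1
    rw [h1] at hc2
    have h2 : (x' * y * x'⁻¹) * y = 1 := by rw [← hc2]; group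
    rw [mul_eq_one_iff_eq_inv, Vz.inv hy, mul_inv_eq_iff_eq_mul] at h2
    exact hxy h2
  have hcS : c ∈ Vz S := A.f4 (g := g) hc1 hy (by rw [← hv]; exact hvS) (by rw [← hv]; exact hyU) hc3.1
  have hcz : c = z := (huz c hcS).resolve_left hcne
  have hcS' : g⁻¹ * c * g ∈ Vz S := by
    apply A.l1 (i + n + 1) hc3 hxS hxU
    rw [hx']
    have h1 := hx.2.2 c hc1.1
    calc g⁻¹ * x * g * (g⁻¹ * c * g) = g⁻¹ * (x * c) * g := by group
      _ = g⁻¹ * (c * x) * g := by rw [h1]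
      _ = _ := by group
  rw [← hcz]
  rcases huz _ hcS' with h1 | h1
  · exfalso
    apply hcne
    have : c = g * (g⁻¹ * c * g) * g⁻¹ := by group
    rw [this, h1]; group
  · rw [h1, hcz]

/-- the claim -/
theorem claim {n i : ℕ} {f : ℕ → G} (hn : 0 < n) (h0 : f 0 = 1) (hc : Cr H U n i f)
    (hmin : ∀ m < n, ∀ i f, ¬ Cr H U m i f) {z : G} (hz : z ∈ Vz S) (hz1 : z ≠ 1) (huz : ∀ y ∈ Vz S, y = 1 ∨ y = z)
    {k : G} (hk : k ∈ H i) (K : Kp S (U i) k) :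
    Cr H U n (i + 1) (fun j => if j = 0 then k else f (j - 1)) := by
  have hw := hc.1
  obtain ⟨F1, F2, x, hx, y, hy, hxU, hyU, hxy⟩ := A.data hn h0 hc hmin
  refine ⟨?_, ?_⟩
  · intro j hj
    rcases Nat.eq_zero_or_pos j with rfl | hj0
    · simp only [if_true, zero_add, if_neg one_ne_zero, Nat.sub_self]
      rw [h0, mul_one, show i + 1 + 0 + 1 = i + 2 by ring, A.pH]
      exact (H i).inv_mem hk
    · show (if j = 0 then k else f (j - 1))⁻¹ * (if j + 1 = 0 then k else f (j + 1 - 1)) ∈ H (i + 1 + j + 1)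
      rw [if_neg (by omega), if_neg (by omega)]
      have h1 := hw (j - 1) (by omega)
      rw [show j - 1 + 1 = j by omega, show i + (j - 1) + 1 = i + j by omega] at h1
      rw [show j + 1 - 1 = j by omega, show i + 1 + j + 1 = i + j + 2 by ring, A.pH]
      exact h1
  by_contra hcon
  push Not at hcon
  simp only [if_true, if_neg (show n ≠ 0 by omega)] at hcon
  obtain ⟨m, rfl⟩ : ∃ m, n = m + 1 := ⟨n - 1, by omega⟩
  rw [show m + 1 - 1 = m by omega] at hcon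
  obtain ⟨g, hg⟩ : ∃ g, g = f (m + 1) := ⟨_, rfl⟩
  rw [← hg] at F1 F2 hxU hyU hxy
  have hvS := F2 y hy
  obtain ⟨v, hv⟩ : ∃ v, v = g * y * g⁻¹ := ⟨_, rfl⟩
  -- everything in the first neighbour lies in `S ^ g`
  have G1 : ∀ w ∈ Vz (U (i + 1)), g⁻¹ * (k * w * k⁻¹) * g ∈ S := by
    intro w hw'
    have h1 := hcon w hw'
    rw [show i + 1 + (m + 1) + 1 = (i + m + 1) + 2 by ring, A.pU] at h1
    have h2 := A.nor' (i + m + 1) (hw m (Nat.lt_succ_self m)) h1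
    have h3 : ((f m)⁻¹ * f (m + 1))⁻¹ * ((f m)⁻¹ * (k * w * k⁻¹) * f m) * ((f m)⁻¹ * f (m + 1)) =
        g⁻¹ * (k * w * k⁻¹) * g := by rw [hg]; group
    rw [h3] at h2
    exact A.US _ h2
  have G0 : ∀ w ∈ Vz (U (i + 1)), w ∈ U i := by
    intro w hw'
    by_contra hno
    refine hmin 0 (by omega) (i + 1) (fun _ => 1) ⟨fun j hj => absurd hj (by omega), w, hw', ?_⟩
    rw [show i + 1 + 0 + 1 = i + 2 by ring, A.pU]
    simpa using hno
  have hki : ∀ {t : G}, t ∈ Vz (U i) → k * t * k⁻¹ ∈ Vz (U i) := fun ht => A.vconj i hk ht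
  have hki' : ∀ {t : G}, t ∈ Vz (U i) → k⁻¹ * t * k ∈ Vz (U i) := fun ht => by
    have := A.vconj i ((H i).inv_mem hk) ht
    rwa [inv_inv] at this
  have hzi := A.zU i hz
  have hzi1 := A.zU (i + 1) hz
  have hzk : g⁻¹ * (k * z * k⁻¹) * g ∉ U (i + (m + 1) + 1) := by
    intro h1
    exact hz1 (A.l2 i hk K hz (A.f4 (hki hzi) hy hvS hyU h1))
  -- a second element
  obtain ⟨y₀, hy₀, hy₀S⟩ : ∃ y₀ ∈ Vz (U (i + 1)), y₀ ∉ Vz S := by
    obtain ⟨k', hk', K'⟩ := A.ks (i + 1)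
    exact ⟨_, A.vconj (i + 1) hk' hzi1, fun h => hz1 (A.l2 (i + 1) hk' K' hz h)⟩
  obtain ⟨y₁, hy₁, hy₁S, hy₁U⟩ : ∃ y₁ ∈ Vz (U (i + 1)), y₁ ∉ Vz S ∧ g⁻¹ * (k * y₁ * k⁻¹) * g ∈ U (i + (m + 1) + 1) := by
    by_cases h1 : g⁻¹ * (k * y₀ * k⁻¹) * g ∈ U (i + (m + 1) + 1)
    · exact ⟨y₀, hy₀, hy₀S, h1⟩
    · refine ⟨y₀ * z, Vz.mul hy₀ hzi1, ?_, ?_⟩
      · intro h2
        apply hy₀S
        have h3 : y₀ = y₀ * z * z := by rw [mul_assoc, hz.2.1, mul_one]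
        rw [h3]
        exact Vz.mul h2 hz
      · have h2 := A.two _ _ (G1 _ hy₀) _ (G1 _ hzi1) h1 hzk
        have h3 : g⁻¹ * (k * y₀ * k⁻¹) * g * (g⁻¹ * (k * z * k⁻¹) * g) = g⁻¹ * (k * (y₀ * z) * k⁻¹) * g := by group
        rwa [h3] at h2
  obtain ⟨w, hww⟩ : ∃ w, w = k * y₁ * k⁻¹ := ⟨_, rfl⟩
  rw [← hww] at hy₁U
  have hyw : y₁ = k⁻¹ * w * k := by rw [hww]; group
  rw [← hv] at hvS hyU
  have hvw : v * w * v⁻¹ = w := by
    have h1 := hy.2.2 _ hy₁U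
    have h2 : v * w = w * v := by
      rw [hv]
      calc g * y * g⁻¹ * w = g * (y * (g⁻¹ * w * g)) * g⁻¹ := by group
        _ = g * ((g⁻¹ * w * g) * y) * g⁻¹ := by rw [h1]
        _ = _ := by group
    rw [h2, mul_inv_cancel_right]
  have hwU : w ∈ U i := by
    rw [hww]
    exact A.nor i k hk _ (G0 _ hy₁)
  have hw2 : w * w = 1 := by
    rw [hww]
    calc k * y₁ * k⁻¹ * (k * y₁ * k⁻¹) = k * (y₁ * y₁) * k⁻¹ := by group
      _ = 1 := by rw [hy₁.2.1]; group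
  have hwi : w ∉ Vz (U i) := by
    intro hwV
    have h1 : y₁ ∈ Vz (U i) := by rw [hyw]; exact hki' hwV
    obtain ⟨t, ht⟩ := A.dist i
    apply ht
    constructor
    · intro h2
      by_cases h3 : t ∈ Vz S
      · exact A.zU _ h3
      · rcases A.four hz huz i h1 h2 hy₁S h3 with h4 | h4
        · rw [h4]; exact hy₁
        · rw [h4]; exact Vz.mul hy₁ hzi1
    · intro h2
      by_cases h3 : t ∈ Vz S
      · exact A.zU _ h3
      · rcases A.four hz huz (i + 1) hy₁ h2 hy₁S h3 with h4 | h4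
        · rw [h4]; exact h1
        · rw [h4]; exact Vz.mul h1 hzi
  -- the second description of w
  have hsk := K.sk v hvS hyU
  obtain ⟨u, hu⟩ : ∃ u, u = v * k * v⁻¹ * k := ⟨_, rfl⟩
  rw [← hu] at hsk
  obtain ⟨y₃, hy₃, hy₃w⟩ : ∃ y₃ ∈ Vz (U (i + 1)), w = k⁻¹ * y₃ * k := by
    have h1 : k * w * k⁻¹ = (k * u * k⁻¹) * (v * y₁ * v⁻¹) * (k * u * k⁻¹)⁻¹ := by
      have h2 : v * k = u * k⁻¹ * v := by rw [hu]; group
      calc k * w * k⁻¹ = k * (v * w * v⁻¹) * k⁻¹ := by rw [hvw]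
        _ = k * ((v * k) * y₁ * (v * k)⁻¹) * k⁻¹ := by rw [hww]; group
        _ = k * ((u * k⁻¹ * v) * y₁ * (u * k⁻¹ * v)⁻¹) * k⁻¹ := by rw [h2]
        _ = (k * u * k⁻¹) * (v * y₁ * v⁻¹) * (k * u * k⁻¹)⁻¹ := by group
    refine ⟨k * w * k⁻¹, ?_, by group⟩
    rw [h1]
    exact A.vconj (i + 1) (A.SH _ (A.US i (A.nor i k hk _ hsk))) (A.vconj (i + 1) (A.SH _ hvS) hy₁)
  have hy₃S : y₃ ∉ Vz S := by
    intro h1
    apply hwi
    rw [hy₃w]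
    exact hki' (A.zU i h1)
  -- normalizing elements
  have N1 : ∀ t ∈ S, (k * t * k⁻¹) * w * (k * t * k⁻¹)⁻¹ * w ∈ Vz (U i) := by
    intro t ht
    have h1 := A.vconj (i + 1) (A.SH _ ht) hy₁
    have h1S : t * y₁ * t⁻¹ ∉ Vz S := by
      intro h2
      apply hy₁S
      have h3 : y₁ = t⁻¹ * (t * y₁ * t⁻¹) * t⁻¹⁻¹ := by group
      rw [h3, A.sconj (S.inv_mem ht) h2]
      exact h2
    have h4 : (k * t * k⁻¹) * w * (k * t * k⁻¹)⁻¹ = k * (t * y₁ * t⁻¹) * k⁻¹ := by rw [hww]; group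
    rcases A.four hz huz (i + 1) hy₁ h1 hy₁S h1S with h5 | h5
    · rw [h4, h5, ← hww, hw2]
      exact Vz.one
    · have h6 : k * (t * y₁ * t⁻¹) * k⁻¹ * w = k * z * k⁻¹ := by
        rw [h5, hww]
        calc k * (y₁ * z) * k⁻¹ * (k * y₁ * k⁻¹) = k * (y₁ * (z * y₁)) * k⁻¹ := by group
          _ = k * (y₁ * (y₁ * z)) * k⁻¹ := by rw [hz.2.2 _ (A.US _ hy₁.1)]
          _ = k * ((y₁ * y₁) * z) * k⁻¹ := by group
          _ = k * z * k⁻¹ := by rw [hy₁.2.1, one_mul]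
      rw [h4, h6]
      exact hki hzi
  have N2 : ∀ t ∈ S, (k⁻¹ * t * k) * w * (k⁻¹ * t * k)⁻¹ * w ∈ Vz (U i) := by
    intro t ht
    have h1 := A.vconj (i + 1) (A.SH _ ht) hy₃
    have h1S : t * y₃ * t⁻¹ ∉ Vz S := by
      intro h2
      apply hy₃S
      have h3 : y₃ = t⁻¹ * (t * y₃ * t⁻¹) * t⁻¹⁻¹ := by group
      rw [h3, A.sconj (S.inv_mem ht) h2]
      exact h2
    have h4 : (k⁻¹ * t * k) * w * (k⁻¹ * t * k)⁻¹ = k⁻¹ * (t * y₃ * t⁻¹) * k := by rw [hy₃w]; group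
    rcases A.four hz huz (i + 1) hy₃ h1 hy₃S h1S with h5 | h5
    · rw [h4, h5, ← hy₃w, hw2]
      exact Vz.one
    · have h6 : k⁻¹ * (t * y₃ * t⁻¹) * k * w = k⁻¹ * z * k := by
        rw [h5, hy₃w]
        calc k⁻¹ * (y₃ * z) * k * (k⁻¹ * y₃ * k) = k⁻¹ * (y₃ * (z * y₃)) * k := by group
          _ = k⁻¹ * (y₃ * (y₃ * z)) * k := by rw [hz.2.2 _ (A.US _ hy₃.1)]
          _ = k⁻¹ * ((y₃ * y₃) * z) * k := by group
          _ = k⁻¹ * z * k := by rw [hy₃.2.1, one_mul]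
      rw [h4, h6]
      exact hki' hzi
  have Nm : ∀ a b : G, a ∈ H i → (a * w * a⁻¹ * w ∈ Vz (U i)) → (b * w * b⁻¹ * w ∈ Vz (U i)) →
      (a * b) * w * (a * b)⁻¹ * w ∈ Vz (U i) := by
    intro a b ha h1 h2
    have h3 : (a * b) * w * (a * b)⁻¹ * w = (a * (b * w * b⁻¹ * w) * a⁻¹) * (a * w * a⁻¹ * w) := by
      have : a * (b * w * b⁻¹ * w) * a⁻¹ * (a * w * a⁻¹ * w) = (a * b) * w * (a * b)⁻¹ * (a * (w * w) * a⁻¹) * w := by
        group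
      rw [this, hw2]; group
    rw [h3]
    exact Vz.mul (A.vconj i ha h2) h1
  obtain ⟨s, hs, hsU⟩ := A.sE i
  have hk3 : k⁻¹ * k⁻¹ = k := by
    have := K.k3
    have h2 : k * k * k * (k⁻¹ * k⁻¹) = k⁻¹ * k⁻¹ := by rw [this, one_mul]
    rw [← h2]; group
  have hkk : k * k = k⁻¹ := by
    have := K.k3
    rw [mul_eq_one_iff_eq_inv] at this
    exact this
  have h1 := K.sk s hs hsU
  have e0 : k = (k * (s * k * s⁻¹ * k)⁻¹ * k⁻¹) * ((k * s * k⁻¹) * (k⁻¹ * s⁻¹ * k)) := by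
    have : (k * (s * k * s⁻¹ * k)⁻¹ * k⁻¹) * ((k * s * k⁻¹) * (k⁻¹ * s⁻¹ * k)) =
        k * (k⁻¹ * s * k⁻¹ * (k⁻¹ * k⁻¹) * s⁻¹ * k) := by group
    rw [this, hk3]
    group
  have hkS : ∀ t ∈ S, k * t * k⁻¹ ∈ H i := fun t ht => (H i).mul_mem ((H i).mul_mem hk (A.SH i ht)) ((H i).inv_mem hk)
  have hkw : k * w * k⁻¹ * w ∈ Vz (U i) := by
    have h2 := Nm _ _ (hkS _ hs) (N1 s hs) (N2 s⁻¹ (S.inv_mem hs))
    have h3 := Nm _ _ (hkS _ (S.inv_mem (A.US i h1))) (N1 _ (S.inv_mem (A.US i h1))) h2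
    rw [← e0] at h3
    exact h3
  obtain ⟨v₁, hv₁⟩ : ∃ v₁, v₁ = k * w * k⁻¹ * w := ⟨_, rfl⟩
  rw [← hv₁] at hkw
  have hkw' : k * w * k⁻¹ = v₁ * w := by rw [hv₁, mul_assoc (k * w * k⁻¹), hw2, mul_one]
  have a1 := hki hkw
  have a2 := hki a1
  -- the norm of v₁
  have hQ : v₁ * (k * v₁ * k⁻¹) * (k * (k * v₁ * k⁻¹) * k⁻¹) = 1 := by
    apply K.kf _ ((U i).mul_mem ((U i).mul_mem hkw.1 a1.1) a2.1)
    have b1 : k * (k * (k * v₁ * k⁻¹) * k⁻¹) * k⁻¹ = v₁ := by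
      calc k * (k * (k * v₁ * k⁻¹) * k⁻¹) * k⁻¹ = (k * k * k) * v₁ * (k * k * k)⁻¹ := by group
        _ = v₁ := by rw [K.k3]; group
    calc k * (v₁ * (k * v₁ * k⁻¹) * (k * (k * v₁ * k⁻¹) * k⁻¹)) * k⁻¹ =
        ((k * v₁ * k⁻¹) * (k * (k * v₁ * k⁻¹) * k⁻¹)) * (k * (k * (k * v₁ * k⁻¹) * k⁻¹) * k⁻¹) := by group
      _ = ((k * v₁ * k⁻¹) * (k * (k * v₁ * k⁻¹) * k⁻¹)) * v₁ := by rw [b1]
      _ = v₁ * ((k * v₁ * k⁻¹) * (k * (k * v₁ * k⁻¹) * k⁻¹)) := by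
          rw [hkw.2.2 _ ((U i).mul_mem a1.1 a2.1)]
      _ = _ := by group
  have hP : w * (k * v₁ * k⁻¹) = 1 := by
    apply K.kf _ ((U i).mul_mem hwU a1.1)
    have b2 : v₁ * (k * (k * v₁ * k⁻¹) * k⁻¹) = k * v₁ * k⁻¹ := by
      have b3 : v₁ * (k * v₁ * k⁻¹) * (k * (k * v₁ * k⁻¹) * k⁻¹) =
          (k * v₁ * k⁻¹) * (v₁ * (k * (k * v₁ * k⁻¹) * k⁻¹)) := by
        rw [hkw.2.2 _ a1.1]; group
      rw [b3, mul_eq_one_iff_inv_eq, Vz.inv a1] at hQ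
      exact hQ.symm
    calc k * (w * (k * v₁ * k⁻¹)) * k⁻¹ = (k * w * k⁻¹) * (k * (k * v₁ * k⁻¹) * k⁻¹) := by group
      _ = (v₁ * w) * (k * (k * v₁ * k⁻¹) * k⁻¹) := by rw [hkw']
      _ = v₁ * (w * (k * (k * v₁ * k⁻¹) * k⁻¹)) := by group
      _ = v₁ * ((k * (k * v₁ * k⁻¹) * k⁻¹) * w) := by rw [a2.2.2 w hwU]
      _ = (v₁ * (k * (k * v₁ * k⁻¹) * k⁻¹)) * w := by group
      _ = (k * v₁ * k⁻¹) * w := by rw [b2]
      _ = w * (k * v₁ * k⁻¹) := a1.2.2 w hwU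
  apply hwi
  rw [mul_eq_one_iff_eq_inv, Vz.inv a1] at hP
  rw [hP]
  exact a1

omit A in
theorem shift {n i : ℕ} {f : ℕ → G} (g : G) (hc : Cr H U n i f) : Cr H U n i (fun j => g * f j) := by
  obtain ⟨hw, x, hx, hxn⟩ := hc
  refine ⟨fun j hj => ?_, x, hx, ?_⟩
  · have : (g * f j)⁻¹ * (g * f (j + 1)) = (f j)⁻¹ * f (j + 1) := by group
    show (g * f j)⁻¹ * (g * f (j + 1)) ∈ _
    rw [this]
    exact hw j hj
  · have : (g * f n)⁻¹ * (g * f 0 * x * (g * f 0)⁻¹) * (g * f n) = (f n)⁻¹ * (f 0 * x * (f 0)⁻¹) * f n := by group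
    show (g * f n)⁻¹ * (g * f 0 * x * (g * f 0)⁻¹) * (g * f n) ∉ _
    rw [this]
    exact hxn

theorem commN {n i : ℕ} {f : ℕ → G} (hn : 0 < n) (hc : Cr H U n i f)
    (hmin : ∀ m < n, ∀ i f, ¬ Cr H U m i f) {z : G} (hz : z ∈ Vz S) (hz1 : z ≠ 1) (huz : ∀ y ∈ Vz S, y = 1 ∨ y = z) :
    ((f 0)⁻¹ * f n)⁻¹ * z * ((f 0)⁻¹ * f n) = z :=
  A.comm (f := fun j => (f 0)⁻¹ * f j) hn (inv_mul_cancel _) (shift _ hc) hmin hz hz1 huz

theorem noCr (h1 : ∀ i, ∀ v ∈ Vz (U i), v ∈ U (i + 1)) : ∀ n i f, ¬ Cr H U n i f := by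
  classical
  by_contra hcon
  push Not at hcon
  have hex : ∃ n, ∃ i f, Cr H U n i f := hcon
  obtain ⟨i, f₀, hc₀⟩ := Nat.find_spec hex
  have hmin : ∀ m < Nat.find hex, ∀ i f, ¬ Cr H U m i f := by
    intro m hm i f hc
    exact Nat.find_min hex hm ⟨i, f, hc⟩
  obtain ⟨n, hn⟩ : ∃ n, n = Nat.find hex := ⟨_, rfl⟩
  rw [← hn] at hc₀ hmin
  have hn0 : 0 < n := by
    rcases Nat.eq_zero_or_pos n with rfl | h
    · exfalso
      obtain ⟨-, x, hx, hx'⟩ := hc₀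
      apply hx'
      have : (f₀ 0)⁻¹ * (f₀ 0 * x * (f₀ 0)⁻¹) * f₀ 0 = x := by group
      rw [this]
      exact h1 i x hx
    · exact h
  have hc := shift (f₀ 0)⁻¹ hc₀
  obtain ⟨f, hf⟩ : ∃ f : ℕ → G, f = fun j => (f₀ 0)⁻¹ * f₀ j := ⟨_, rfl⟩
  rw [← hf] at hc
  have hf0 : f 0 = 1 := by rw [hf]; exact inv_mul_cancel _
  obtain ⟨F1, F2, x, hx, y, hy, hxU, hyU, hxy⟩ := A.data hn0 hf0 hc hmin
  obtain ⟨z, hz, hz1⟩ := A.zE
  have huz : ∀ y ∈ Vz S, y = 1 ∨ y = z := by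
    intro t ht
    by_cases ht1 : t = 1
    · exact Or.inl ht1
    · exact Or.inr (A.uniq F1 hy (F2 y hy) hyU ht hz ht1 hz1)
  obtain ⟨k, hk, K⟩ := A.ks i
  have c1 := A.commN hn0 (A.claim hn0 hf0 hc hmin hz hz1 huz hk K) hmin hz hz1 huz
  have c2 := A.commN hn0 (A.claim hn0 hf0 hc hmin hz hz1 huz ((H i).inv_mem hk) (K.kinv (A.nor i k hk))) hmin hz hz1 huz
  simp only [if_true, if_neg (show n ≠ 0 by omega)] at c1 c2
  obtain ⟨e, he⟩ : ∃ e, e = f (n - 1) := ⟨_, rfl⟩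
  rw [← he] at c1 c2
  have d1 : k * z * k⁻¹ = e * z * e⁻¹ := by
    have : k * z * k⁻¹ = e * ((k⁻¹ * e)⁻¹ * z * (k⁻¹ * e)) * e⁻¹ := by group
    rw [this, c1]
  have d2 : k⁻¹ * z * k = e * z * e⁻¹ := by
    have : k⁻¹ * z * k = e * ((k⁻¹⁻¹ * e)⁻¹ * z * (k⁻¹⁻¹ * e)) * e⁻¹ := by group
    rw [this, c2]
  have hkk : k * k = k⁻¹ := by
    have := K.k3
    rw [mul_eq_one_iff_eq_inv] at this
    exact this
  apply hz1
  apply K.kf z (A.zU i hz).1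
  have d3 : k * z * k⁻¹ = k⁻¹ * z * k := by rw [d1, d2]
  have d4 : k⁻¹ * z * k = z := by
    calc k⁻¹ * z * k = (k * k) * z * (k * k)⁻¹ := by rw [hkk]; group
      _ = k * (k * z * k⁻¹) * k⁻¹ := by group
      _ = k * (k⁻¹ * z * k) * k⁻¹ := by rw [d3]
      _ = z := by group
  rw [d3, d4]

/-- walks with given ends -/
theorem app {n : ℕ} {f : ℕ → G} (hw : Wk H n 0 f) {g : G} (hg : (f n)⁻¹ * g ∈ H (0 + n + 1)) :
    ∃ f', Wk H (n + 1) 0 f' ∧ f' 0 = f 0 ∧ f' (n + 1) = g := by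
  refine ⟨fun j => if j ≤ n then f j else g, ?_, by simp, by simp⟩
  intro j hj
  show (if j ≤ n then f j else g)⁻¹ * (if j + 1 ≤ n then f (j + 1) else g) ∈ _
  rw [if_pos (by omega)]
  by_cases h : j + 1 ≤ n
  · rw [if_pos h]
    exact hw j (by omega)
  · rw [if_neg h]
    have : j = n := by omega
    subst this
    exact hg

theorem Hev (n : ℕ) (h : Even n) : H n = H 0 := by
  obtain ⟨m, rfl⟩ := h
  have := A.pH' 0 m
  rwa [show 0 + 2 * m = m + m by ring] at this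

theorem Hod (n : ℕ) (h : Odd n) : H n = H 1 := by
  obtain ⟨m, rfl⟩ := h
  have := A.pH' 1 m
  rwa [show 1 + 2 * m = 2 * m + 1 by ring] at this

theorem reach {g : G} (hg : g ∈ Subgroup.closure ((H 0 : Set G) ∪ H 1)) :
    ∃ n f, Wk H n 0 f ∧ f 0 = g ∧ f n = 1 := by
  induction hg using Subgroup.closure_induction_left with
  | one => exact ⟨0, fun _ => 1, fun j hj => absurd hj (by omega), rfl, rfl⟩
  | mul_left x hx y hy ih =>
    obtain ⟨n, f, hw, h0, h1⟩ := ih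
    have hw' : Wk H n 0 (fun j => x * f j) := by
      intro j hj
      have : (x * f j)⁻¹ * (x * f (j + 1)) = (f j)⁻¹ * f (j + 1) := by group
      show (x * f j)⁻¹ * (x * f (j + 1)) ∈ _
      rw [this]
      exact hw j hj
    by_cases hm : x ∈ H (0 + n + 1)
    · obtain ⟨f', hf', e0, e1⟩ := A.app (g := 1) hw' (by
        show (x * f n)⁻¹ * 1 ∈ _
        rw [h1, mul_one, mul_one]
        exact (H _).inv_mem hm)
      exact ⟨n + 1, f', hf', by rw [e0]; show x * f 0 = _; rw [h0], e1⟩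
    · have hm' : x ∈ H (0 + (n + 1) + 1) := by
        rcases Nat.even_or_odd (n + 1) with hp | hp
        · have e2 : H (0 + n + 1) = H 0 := by rw [zero_add]; exact A.Hev _ hp
          have e3 : H (0 + (n + 1) + 1) = H 1 := by rw [zero_add]; exact A.Hod _ hp.add_one
          rw [e2] at hm
          rw [e3]
          exact hx.resolve_left hm
        · have e2 : H (0 + n + 1) = H 1 := by rw [zero_add]; exact A.Hod _ hp
          have e3 : H (0 + (n + 1) + 1) = H 0 := by rw [zero_add]; exact A.Hev _ hp.add_one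
          rw [e2] at hm
          rw [e3]
          exact hx.resolve_right hm
      obtain ⟨f', hf', e0, e1⟩ := A.app (g := x) hw' (by
        show (x * f n)⁻¹ * x ∈ _
        rw [h1, mul_one, inv_mul_cancel]
        exact (H _).one_mem)
      obtain ⟨f'', hf'', e0', e1'⟩ := A.app (g := 1) hf' (by
        rw [e1, mul_one]
        exact (H _).inv_mem hm')
      exact ⟨n + 1 + 1, f'', hf'', by rw [e0', e0]; show x * f 0 = _; rw [h0], e1'⟩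
  | inv_mul_cancel x hx y hy ih =>
    obtain ⟨n, f, hw, h0, h1⟩ := ih
    have hx' : x⁻¹ ∈ (H 0 : Set G) ∪ H 1 := by
      rcases hx with h | h
      · exact Or.inl ((H 0).inv_mem h)
      · exact Or.inr ((H 1).inv_mem h)
    generalize x⁻¹ = x at hx'
    have hw' : Wk H n 0 (fun j => x * f j) := by
      intro j hj
      have : (x * f j)⁻¹ * (x * f (j + 1)) = (f j)⁻¹ * f (j + 1) := by group
      show (x * f j)⁻¹ * (x * f (j + 1)) ∈ _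
      rw [this]
      exact hw j hj
    by_cases hm : x ∈ H (0 + n + 1)
    · obtain ⟨f', hf', e0, e1⟩ := A.app (g := 1) hw' (by
        show (x * f n)⁻¹ * 1 ∈ _
        rw [h1, mul_one, mul_one]
        exact (H _).inv_mem hm)
      exact ⟨n + 1, f', hf', by rw [e0]; show x * f 0 = _; rw [h0], e1⟩
    · have hm' : x ∈ H (0 + (n + 1) + 1) := by
        rcases Nat.even_or_odd (n + 1) with hp | hp
        · have e2 : H (0 + n + 1) = H 0 := by rw [zero_add]; exact A.Hev _ hp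
          have e3 : H (0 + (n + 1) + 1) = H 1 := by rw [zero_add]; exact A.Hod _ hp.add_one
          rw [e2] at hm
          rw [e3]
          exact hx'.resolve_left hm
        · have e2 : H (0 + n + 1) = H 1 := by rw [zero_add]; exact A.Hod _ hp
          have e3 : H (0 + (n + 1) + 1) = H 0 := by rw [zero_add]; exact A.Hev _ hp.add_one
          rw [e2] at hm
          rw [e3]
          exact hx'.resolve_right hm
      obtain ⟨f', hf', e0, e1⟩ := A.app (g := x) hw' (by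
        show (x * f n)⁻¹ * x ∈ _
        rw [h1, mul_one, inv_mul_cancel]
        exact (H _).one_mem)
      obtain ⟨f'', hf'', e0', e1'⟩ := A.app (g := 1) hf' (by
        rw [e1, mul_one]
        exact (H _).inv_mem hm')
      exact ⟨n + 1 + 1, f'', hf'', by rw [e0', e0]; show x * f 0 = _; rw [h0], e1'⟩

theorem final (h1 : ∀ i, ∀ v ∈ Vz (U i), v ∈ U (i + 1))
    (hNC : ∀ T : Subgroup G, T ≠ ⊥ → T ≤ S → (∀ g ∈ H 0, ∀ t ∈ T, g * t * g⁻¹ ∈ T) →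
      (∀ g ∈ H 1, ∀ t ∈ T, g * t * g⁻¹ ∈ T) → False) : False := by
  have hno := A.noCr h1
  obtain ⟨z, hz, hz1⟩ := A.zE
  have hz0 := A.zU 0 hz
  obtain ⟨L, hL⟩ : ∃ L : Subgroup G, L = Subgroup.closure ((H 0 : Set G) ∪ H 1) := ⟨_, rfl⟩
  obtain ⟨X, hX⟩ : ∃ X : Set G, X = {t | ∃ g ∈ L, ∃ x ∈ Vz (U 0), t = g * x * g⁻¹} := ⟨_, rfl⟩
  have hXS : X ⊆ S := by
    rw [hX]
    rintro _ ⟨g, hg, x, hx, rfl⟩
    rw [hL] at hg
    obtain ⟨n, f, hw, h0, h2⟩ := A.reach hg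
    have h3 : (f n)⁻¹ * (f 0 * x * (f 0)⁻¹) * f n ∈ U (0 + n + 1) := by
      by_contra hcon
      exact hno n 0 f ⟨hw, x, hx, hcon⟩
    rw [h0, h2] at h3
    have h4 := A.US _ h3
    simpa using h4
  have hT : ∀ g ∈ L, ∀ t ∈ Subgroup.closure X, g * t * g⁻¹ ∈ Subgroup.closure X := by
    intro g hg t ht
    induction ht using Subgroup.closure_induction with
    | mem t ht =>
      apply Subgroup.subset_closure
      rw [hX] at ht ⊢
      obtain ⟨g', hg', x, hx, rfl⟩ := ht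
      exact ⟨g * g', L.mul_mem hg hg', x, hx, by group⟩
    | one => rw [mul_one, mul_inv_cancel]; exact Subgroup.one_mem _
    | mul a b _ _ ha hb =>
      have : g * (a * b) * g⁻¹ = (g * a * g⁻¹) * (g * b * g⁻¹) := by group
      rw [this]
      exact Subgroup.mul_mem _ ha hb
    | inv a _ ha =>
      have : g * a⁻¹ * g⁻¹ = (g * a * g⁻¹)⁻¹ := by group
      rw [this]
      exact Subgroup.inv_mem _ ha
  refine hNC (Subgroup.closure X) ?_ ((Subgroup.closure_le _).2 hXS) (fun g hg => hT g ?_) (fun g hg => hT g ?_)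
  · intro hbot
    apply hz1
    have : z ∈ Subgroup.closure X := by
      apply Subgroup.subset_closure
      rw [hX]
      exact ⟨1, L.one_mem, z, hz0, by group⟩
    rw [hbot] at this
    exact Subgroup.mem_bot.1 this
  · rw [hL]; exact Subgroup.subset_closure (Or.inl hg)
  · rw [hL]; exact Subgroup.subset_closure (Or.inr hg)

end Am

end Cfsg.Agent.Lib.H15SGAM2b
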