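import Cfsg.Agent.Lib.H15SGam29

/-! S2220, piece Gam (helper29): wrapper. -/

set_option autoImplicit false

namespace Cfsg.Agent.Lib.H15SGam

open Subgroup Cfsg.Agent.Lib.H15S Cfsg.Agent.Lib.H15SGam29

theorem six {Q : Type*} [Group Q] [Finite Q] (h6 : Nat.card Q = 6) {a b : Q} (ha : orderOf a = 3) (hb : b * b = 1)
    (hb1 : b ≠ 1) : (∀ q : Q, q * b = b * q) ∨ b * a * b⁻¹ * a = 1 := by
  have hix : (Subgroup.zpowers a).index = 2 := by
    have h1 := (Subgroup.zpowers a).card_mul_index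
    rw [Nat.card_zpowers, ha, h6] at h1
    omega
  have hbn : b ∉ Subgroup.zpowers a := by
    intro h
    have h1 : orderOf b ∣ 3 := ha ▸ orderOf_dvd_of_mem_zpowers h
    have h2 : orderOf b ∣ 2 := orderOf_dvd_of_pow_eq_one (by rw [pow_two]; exact hb)
    have h3 : orderOf b ∣ 1 := by
      have := Nat.dvd_gcd h1 h2
      simpa using this
    exact hb1 (orderOf_eq_one_iff.1 (Nat.dvd_one.1 h3))
  have hn : (Subgroup.zpowers a).Normal := Subgroup.normal_of_index_eq_two hix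
  have a3 : a ^ 3 = 1 := ha ▸ pow_orderOf_eq_one a
  obtain ⟨n, hn'⟩ := Subgroup.mem_zpowers_iff.1 (hn.conj_mem a (Subgroup.mem_zpowers a) b)
  have hmod : a ^ n = a ^ (n % 3) := by
    have h1 := zpow_mod_orderOf a n
    rw [ha] at h1
    exact h1.symm
  have hcase : n % 3 = 0 ∨ n % 3 = 1 ∨ n % 3 = 2 := by omega
  rcases hcase with h | h | h
  · exfalso
    rw [hmod, h, zpow_zero] at hn'
    have h1 : a = 1 := conj_eq_one_iff.1 hn'.symm
    rw [h1, orderOf_one] at ha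
    omega
  · left
    rw [hmod, h, zpow_one] at hn'
    have hab : a * b = b * a := by
      calc a * b = b * a * b⁻¹ * b := by rw [← hn']
        _ = b * a := by group
    have hcz : ∀ q ∈ Subgroup.zpowers a, q * b = b * q := by
      intro q hq
      obtain ⟨m, rfl⟩ := Subgroup.mem_zpowers_iff.1 hq
      exact ((show Commute a b from hab).zpow_left m).eq
    intro q
    by_cases hq : q ∈ Subgroup.zpowers a
    · exact hcz q hq
    · have h1 : q * b ∈ Subgroup.zpowers a := by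
        rw [Subgroup.mul_mem_iff_of_index_two hix]
        exact ⟨fun h => absurd h hq, fun h => absurd h hbn⟩
      have h2 := hcz _ h1
      have h3 : b * (q * b) = b * q * b := by group
      rw [h3] at h2
      exact mul_right_cancel h2
  · right
    rw [hmod, h] at hn'
    rw [← hn']
    have h1 : a ^ (2 : ℤ) * a = a ^ 3 := by
      rw [show (2 : ℤ) = ((2 : ℕ) : ℤ) from rfl, zpow_natCast, ← pow_succ]
    rw [h1, a3]

variable {G : Type*} [Group G] [Finite G]

theorem toSd {S H U : Subgroup G} (s : Side S H U) : ∃ k, Sd S H U k := by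
  obtain ⟨k, hkH, hk3, hfpf⟩ := s.k
  have hix : (U.subgroupOf S).index = 2 := by
    have h1 := (U.subgroupOf S).card_mul_index
    rw [Nat.card_congr (subgroupOfEquivOfLe s.US).toEquiv, s.cS] at h1
    have h2 : 0 < Nat.card U := Nat.card_pos
    rw [mul_comm 2] at h1
    exact Nat.eq_of_mul_eq_mul_left h2 h1
  have ix : ∀ a ∈ S, ∀ b ∈ S, a ∉ U → b ∉ U → a * b ∈ U := by
    intro a ha b hb haU hbU
    have h1 : (⟨a, ha⟩ : S) * ⟨b, hb⟩ ∈ U.subgroupOf S := by
      rw [Subgroup.mul_mem_iff_of_index_two hix]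
      exact ⟨fun h => absurd h haU, fun h => absurd h hbU⟩
    exact h1
  have k1 : k ≠ 1 := by
    rintro rfl
    rw [orderOf_one] at hk3
    omega
  have hkU : k ∉ U := fun h => k1 (hfpf k h rfl)
  have hn : (U.subgroupOf H).Normal := by
    constructor
    intro n hn g
    exact s.nor g g.2 n hn
  have hUH : U ≤ H := s.US.trans s.SH
  have h6 : Nat.card (H ⧸ U.subgroupOf H) = 6 := by
    have h1 := (U.subgroupOf H).card_mul_index
    rw [Nat.card_congr (subgroupOfEquivOfLe hUH).toEquiv, s.cH, mul_comm 6] at h1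
    have h2 : 0 < Nat.card U := Nat.card_pos
    exact Nat.eq_of_mul_eq_mul_left h2 h1
  have mk1 : ∀ (x : G) (hx : x ∈ H), (QuotientGroup.mk' (U.subgroupOf H)) ⟨x, hx⟩ = 1 ↔ x ∈ U := by
    intro x hx
    rw [QuotientGroup.mk'_apply, QuotientGroup.eq_one_iff]
    exact Iff.rfl
  have ha : orderOf ((QuotientGroup.mk' (U.subgroupOf H)) ⟨k, hkH⟩) = 3 := by
    apply orderOf_eq_prime
    · rw [← map_pow]
      have : (⟨k, hkH⟩ : H) ^ 3 = 1 := Subtype.ext (by
        show k ^ 3 = 1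
        rw [← hk3]; exact pow_orderOf_eq_one k)
      rw [this, map_one]
    · rw [Ne, mk1]; exact hkU
  refine ⟨k, ⟨s.US, s.SH, s.nor, ix, ?_, hkH, ?_, hfpf, ?_⟩⟩
  · by_contra hno
    push Not at hno
    have h1 : S = U := le_antisymm hno s.US
    have h2 := s.cS
    rw [h1] at h2
    have h3 : 0 < Nat.card U := Nat.card_pos
    omega
  · rw [← pow_two, ← pow_succ]
    show k ^ 3 = 1
    rw [← hk3]; exact pow_orderOf_eq_one k
  · intro x hx hxU
    have hb : (QuotientGroup.mk' (U.subgroupOf H)) ⟨x, s.SH hx⟩ * (QuotientGroup.mk' (U.subgroupOf H)) ⟨x, s.SH hx⟩ = 1 := by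
      rw [← map_mul]
      exact (mk1 (x * x) _).2 (ix x hx x hx hxU hxU)
    have hb1 : (QuotientGroup.mk' (U.subgroupOf H)) ⟨x, s.SH hx⟩ ≠ 1 := by
      rw [Ne, mk1]; exact hxU
    rcases six h6 ha hb hb1 with h | h
    · exfalso
      obtain ⟨g, hg, t, ht, hgt⟩ := s.nS
      apply hgt
      have h1 : ∀ (y : G) (hy : y ∈ S), y ∉ U →
          (QuotientGroup.mk' (U.subgroupOf H)) ⟨y * x, mul_mem (s.SH hy) (s.SH hx)⟩ = 1 :=
        fun y hy hyU => (mk1 _ _).2 (ix y hy x hx hyU hxU)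
      by_cases htU : t ∈ U
      · exact s.US (s.nor g hg t htU)
      · have h2 : (QuotientGroup.mk' (U.subgroupOf H)) ⟨t, s.SH ht⟩ = (QuotientGroup.mk' (U.subgroupOf H)) ⟨x, s.SH hx⟩ := by
          have h3 : (QuotientGroup.mk' (U.subgroupOf H)) ⟨t, s.SH ht⟩ * (QuotientGroup.mk' (U.subgroupOf H)) ⟨x, s.SH hx⟩ = 1 := by
            rw [← map_mul]; exact h1 t ht htU
          rw [mul_eq_one_iff_eq_inv.1 h3]
          exact inv_eq_of_mul_eq_one_left hb
        have h4 : (QuotientGroup.mk' (U.subgroupOf H)) (⟨g, hg⟩ * ⟨t, s.SH ht⟩ * ⟨g, hg⟩⁻¹ * ⟨t, s.SH ht⟩⁻¹) = 1 := by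
          rw [map_mul, map_mul, map_mul, map_inv, map_inv, h2, h]
          group
        have h5 : g * t * g⁻¹ * t⁻¹ ∈ U := (mk1 _ _).1 h4
        have h6 : g * t * g⁻¹ = g * t * g⁻¹ * t⁻¹ * t := by group
        rw [h6]
        exact mul_mem (s.US h5) ht
    · have h1 : (QuotientGroup.mk' (U.subgroupOf H)) (⟨x, s.SH hx⟩ * ⟨k, hkH⟩ * ⟨x, s.SH hx⟩⁻¹ * ⟨k, hkH⟩) = 1 := by
        rw [map_mul, map_mul, map_mul, map_inv]
        exact h
      exact (mk1 _ _).1 h1

theorem exV {U : Subgroup G} (hU : IsPGroup 2 U) (hne : U ≠ ⊥) : ∃ x ∈ Vs U, x ≠ 1 := by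
  have : Fact (Nat.Prime 2) := ⟨Nat.prime_two⟩
  have : Nontrivial U := (Subgroup.nontrivial_iff_ne_bot U).2 hne
  have hc : Nontrivial (Subgroup.center U) := hU.center_nontrivial
  obtain ⟨n, hn, hcard⟩ := (IsPGroup.nontrivial_iff_card (hU.to_subgroup (Subgroup.center U))).1 hc
  obtain ⟨c, hc2⟩ := exists_prime_orderOf_dvd_card' (G := Subgroup.center U) 2 (by
    rw [hcard]; exact dvd_pow_self 2 (by omega))
  refine ⟨((c : U) : G), ⟨(c : U).2, ?_, ?_⟩, ?_⟩
  · have h1 : c ^ 2 = 1 := hc2 ▸ pow_orderOf_eq_one c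
    have h2 : ((c ^ 2 : Subgroup.center U) : U) = 1 := by rw [h1]; rfl
    have h3 := congrArg Subtype.val h2
    rw [← pow_two]
    exact h3
  · intro u hu
    have h1 := Subgroup.mem_center_iff.1 c.2 ⟨u, hu⟩
    exact congrArg Subtype.val h1
  · intro h
    have h1 : c = 1 := Subtype.ext (Subtype.ext h)
    rw [h1, orderOf_one] at hc2
    omega

/-- piece Gam: the S3-amalgam lemma -/
theorem Gam {S H₁ H₂ U₁ U₂ : Subgroup G} (hS : IsPGroup 2 S) (h1 : Side S H₁ U₁)
    (h2 : Side S H₂ U₂)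
    (hNC : ∀ T : Subgroup G, T ≠ ⊥ → T ≤ S → (∀ g ∈ H₁, ∀ t ∈ T, g * t * g⁻¹ ∈ T) →
      (∀ g ∈ H₂, ∀ t ∈ T, g * t * g⁻¹ ∈ T) → False) : Nat.card S ≤ 8 := by
  classical
  by_cases hb1 : U₁ = ⊥
  · have := h1.cS
    rw [hb1, Subgroup.card_bot] at this
    omega
  by_cases hb2 : U₂ = ⊥
  · have := h2.cS
    rw [hb2, Subgroup.card_bot] at this
    omega
  obtain ⟨k₁, s1⟩ := toSd h1
  obtain ⟨k₂, s2⟩ := toSd h2
  have sd : ∀ i : Bool, Sd S (cond i H₁ H₂) (cond i U₁ U₂) (cond i k₁ k₂) := by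
    intro i
    cases i
    · exact s2
    · exact s1
  have hV : ∀ i : Bool, ∃ x ∈ Vs (cond i U₁ U₂), x ≠ 1 := by
    intro i
    cases i
    · exact exV (hS.to_le h2.US) hb2
    · exact exV (hS.to_le h1.US) hb1
  obtain ⟨i, z, y, hzy⟩ := H15SGam29.main (H := fun i => cond i H₁ H₂) (U := fun i => cond i U₁ U₂)
    (k := fun i => cond i k₁ k₂) sd hV (by
      intro T hT hTS hTn
      exact hNC T hT hTS (hTn true) (hTn false))
  have hcard : ∀ U : Subgroup G, (∀ u ∈ U, u = 1 ∨ u = z ∨ u = y ∨ u = z * y) → Nat.card U ≤ 4 := by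
    intro U hU
    have h3 : (U : Set G) ⊆ (({1, z, y, z * y} : Finset G) : Set G) := by
      intro u hu
      simpa using hU u hu
    have h4 := Set.ncard_le_ncard h3 (Set.toFinite _)
    rw [Set.ncard_coe_finset] at h4
    exact h4.trans Finset.card_le_four
  cases i
  · have h3 := hcard U₂ hzy
    rw [h2.cS]; omega
  · have h3 := hcard U₁ hzy
    rw [h1.cS]; omega

end Cfsg.Agent.Lib.H15SGam
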