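import Mathlib
import Cfsg.Agent.Lib.H15S0

/-! S2220, piece GAM1: `V = Ω₁(Z(U))`, step 1 of the amalgam lemma -/

set_option autoImplicit false
set_option linter.all false

namespace Cfsg.Agent.Lib.H15S

variable {G : Type*} [Group G]

/-- `Ω₁(Z(U))` -/
def VZ (U : Subgroup G) : Subgroup G where
  carrier := {x | x ∈ U ∧ x ^ 2 = 1 ∧ ∀ u ∈ U, x * u = u * x}
  mul_mem' := by
    rintro a b ⟨ha, ha2, hac⟩ ⟨hb, hb2, hbc⟩
    refine ⟨mul_mem ha hb, ?_, fun u hu => ?_⟩
    · rw [(show Commute a b from hac b hb).mul_pow, ha2, hb2, one_mul]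
    · rw [mul_assoc, hbc u hu, ← mul_assoc, hac u hu, mul_assoc]
  one_mem' := ⟨one_mem _, one_pow _, fun u _ => by simp⟩
  inv_mem' := by
    rintro a ⟨ha, ha2, hac⟩
    refine ⟨inv_mem ha, by rw [inv_pow, ha2, inv_one], fun u hu => ?_⟩
    exact ((show Commute a u from hac u hu).inv_left)

theorem VZ_le (U : Subgroup G) : VZ U ≤ U := fun _ h => h.1

theorem VZ_sq1 {U : Subgroup G} {x : G} (hx : x ∈ VZ U) : x * x = 1 := by
  rw [← sq]; exact hx.2.1

theorem VZ_inv {U : Subgroup G} {x : G} (hx : x ∈ VZ U) : x⁻¹ = x :=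
  inv_eq_of_mul_eq_one_left (VZ_sq1 hx)

theorem VZ_conj {S H U : Subgroup G} (h : Side S H U) {g : G} (hg : g ∈ H) {x : G} (hx : x ∈ VZ U) :
    g * x * g⁻¹ ∈ VZ U := by
  refine ⟨h.nor g hg x hx.1, by rw [conj_pow, hx.2.1]; simp, fun u hu => ?_⟩
  have h1 := hx.2.2 _ (h.nor g⁻¹ (inv_mem hg) u hu)
  rw [inv_inv] at h1
  have : g * (x * (g⁻¹ * u * g)) * g⁻¹ = g * ((g⁻¹ * u * g) * x) * g⁻¹ := by rw [h1]
  calc g * x * g⁻¹ * u = g * (x * (g⁻¹ * u * g)) * g⁻¹ := by group
    _ = g * ((g⁻¹ * u * g) * x) * g⁻¹ := this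
    _ = u * (g * x * g⁻¹) := by group

theorem side_index [Finite G] {S H U : Subgroup G} (h : Side S H U) : (U.subgroupOf S).index = 2 := by
  have h1 := Subgroup.card_mul_index (U.subgroupOf S)
  rw [Nat.card_congr (Subgroup.subgroupOfEquivOfLe h.US).toEquiv, h.cS] at h1
  have hp : 0 < Nat.card U := Nat.card_pos
  have : Nat.card U * (U.subgroupOf S).index = Nat.card U * 2 := by rw [h1, mul_comm]
  exact Nat.eq_of_mul_eq_mul_left hp this

theorem side_mul [Finite G] {S H U : Subgroup G} (h : Side S H U) {a b : G} (ha : a ∈ S) (hb : b ∈ S) :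
    a * b ∈ U ↔ (a ∈ U ↔ b ∈ U) := by
  have := Subgroup.mul_mem_iff_of_index_two (side_index h) (a := ⟨a, ha⟩) (b := ⟨b, hb⟩)
  simpa [Subgroup.mem_subgroupOf] using this

theorem side_big [Finite G] {S H U : Subgroup G} (h : Side S H U) {X : Subgroup G} (hSX : S ≤ X)
    (hXH : X ≤ H) : X = S ∨ X = H := by
  obtain ⟨i, hi⟩ := Subgroup.card_dvd_of_le hSX
  have h2 := Subgroup.card_dvd_of_le hXH
  have hH : Nat.card H = Nat.card S * 3 := by rw [h.cH, h.cS]; ring
  have hp : 0 < Nat.card S := Nat.card_pos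
  rw [hH, hi] at h2
  have h3 : i ∣ 3 := (Nat.mul_dvd_mul_iff_left hp).1 h2
  rcases (Nat.dvd_prime (by norm_num)).1 h3 with rfl | rfl
  · left
    exact (Subgroup.eq_of_le_of_card_ge hSX (by rw [hi, mul_one])).symm
  · right
    exact Subgroup.eq_of_le_of_card_ge hXH (by rw [hi, hH])

theorem three_ndvd [Finite G] {S H U : Subgroup G} (h : Side S H U) (hS : IsPGroup 2 S) :
    ¬ 3 ∣ Nat.card U ∧ ¬ 3 ∣ Nat.card S := by
  obtain ⟨n, hn⟩ := IsPGroup.iff_card.1 hS
  have h3 : ¬ 3 ∣ Nat.card S := by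
    rw [hn]
    intro h3
    have := (Nat.prime_dvd_prime_iff_eq (by norm_num) (by norm_num)).1
      ((by norm_num : Nat.Prime 3).dvd_of_dvd_pow h3)
    omega
  exact ⟨fun h' => h3 (by rw [h.cS]; exact h'.mul_left 2), h3⟩

theorem card_sup_normal {X : Type*} [Group X] [Finite X] (N A : Subgroup X) [N.Normal] :
    Nat.card (A ⊔ N : Subgroup X) = Nat.card N * N.relIndex A := by
  rw [← Subgroup.relIndex_sup_right (H := A) (K := N)]
  have h1 := Subgroup.card_mul_index (N.subgroupOf (A ⊔ N))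
  rw [Nat.card_congr (Subgroup.subgroupOfEquivOfLe (le_sup_right : N ≤ A ⊔ N)).toEquiv] at h1
  exact h1.symm

theorem VZ_cent [Finite G] {S H U : Subgroup G} (h : Side S H U) (hS : IsPGroup 2 S)
    (hV : VZ U ≠ ⊥) {g : G} (hg : g ∈ H) (hc : ∀ v ∈ VZ U, g * v = v * g) : g ∈ U := by
  by_contra hgU
  obtain ⟨k, hkH, hk3, hkU⟩ := h.k
  set C : Subgroup G := H ⊓ Subgroup.centralizer (VZ U : Set G) with hC
  have hUC : U ≤ C := by
    intro u hu
    refine Subgroup.mem_inf.2 ⟨h.SH (h.US hu), ?_⟩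
    rw [Subgroup.mem_centralizer_iff]
    intro v hv
    exact hv.2.2 u hu
  have hgC : g ∈ C := by
    refine Subgroup.mem_inf.2 ⟨hg, ?_⟩
    rw [Subgroup.mem_centralizer_iff]
    intro v hv
    exact (hc v hv).symm
  have hCH : C ≤ H := inf_le_left
  have hCn : ∀ x ∈ H, ∀ c ∈ C, x * c * x⁻¹ ∈ C := by
    intro x hx c hc'
    refine Subgroup.mem_inf.2 ⟨mul_mem (mul_mem hx hc'.1) (inv_mem hx), ?_⟩
    rw [Subgroup.mem_centralizer_iff]
    intro v hv
    have h1 := (Subgroup.mem_centralizer_iff.1 hc'.2) _ (VZ_conj h (inv_mem hx) hv)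
    rw [inv_inv] at h1
    calc v * (x * c * x⁻¹) = x * ((x⁻¹ * v * x) * c) * x⁻¹ := by group
      _ = x * (c * (x⁻¹ * v * x)) * x⁻¹ := by rw [h1]
      _ = x * c * x⁻¹ * v := by group
  have hkC : k ∉ C := by
    intro hk
    apply hV
    rw [eq_bot_iff]
    intro v hv
    have := (Subgroup.mem_centralizer_iff.1 hk.2) v hv
    exact hkU v hv.1 this
  -- normal subgroup of `H`
  let C' : Subgroup H := C.subgroupOf H
  haveI : C'.Normal := ⟨fun c hc' x => by
    rw [Subgroup.mem_subgroupOf] at hc' ⊢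
    exact hCn x x.2 c hc'⟩
  have hcC' : Nat.card C' = Nat.card C := Nat.card_congr (Subgroup.subgroupOfEquivOfLe hCH).toEquiv
  have h3C : ¬ 3 ∣ Nat.card C := by
    intro h3
    let Z : Subgroup H := Subgroup.zpowers ⟨k, hkH⟩
    have hZ : Nat.card Z = 3 := by
      rw [Nat.card_zpowers, Subgroup.orderOf_mk, hk3]
    have hZC : C' ⊓ Z = ⊥ := by
      have hd := Subgroup.card_dvd_of_le (inf_le_right : C' ⊓ Z ≤ Z)
      rw [hZ] at hd
      rcases (Nat.dvd_prime (by norm_num)).1 hd with h1 | h1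
      · exact Subgroup.card_eq_one.1 h1
      · exfalso
        have h2 : C' ⊓ Z = Z := Subgroup.eq_of_le_of_card_ge inf_le_right (by rw [h1, hZ])
        have h3 : (⟨k, hkH⟩ : H) ∈ C' ⊓ Z := by
          rw [h2]; exact Subgroup.mem_zpowers _
        exact hkC (Subgroup.mem_subgroupOf.1 h3.1)
    have h1 := card_sup_normal C' Z
    have h2 : C'.relIndex Z = 3 := by
      rw [← Subgroup.inf_relIndex_right, hZC, Subgroup.relIndex_bot_left, hZ]
    have h4 := Subgroup.card_subgroup_dvd_card (Z ⊔ C')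
    rw [h1, h2, hcC', h.cH] at h4
    obtain ⟨m, hm⟩ := h3
    rw [hm] at h4
    have h5 : 9 ∣ 6 * Nat.card U := (Dvd.intro m (by ring)).trans h4
    have h6 : 3 ∣ 2 * Nat.card U := by
      obtain ⟨r, hr⟩ := h5
      exact ⟨r, by omega⟩
    rcases (Nat.Prime.dvd_mul (by norm_num)).1 h6 with h7 | h7
    · omega
    · exact (three_ndvd h hS).1 h7
  have hSX : S ≤ S ⊔ C := le_sup_left
  rcases side_big h hSX (sup_le h.SH hCH) with hX | hX
  · -- `C ≤ S`
    have hCS : C ≤ S := by rw [← hX]; exact le_sup_right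
    have hCS' : C = S := by
      apply Subgroup.eq_of_le_of_card_ge hCS
      obtain ⟨i, hi⟩ := Subgroup.card_dvd_of_le hUC
      have hp : 0 < Nat.card U := Nat.card_pos
      have hi1 : i ≠ 1 := by
        rintro rfl
        have : U = C := Subgroup.eq_of_le_of_card_ge hUC (by rw [hi, mul_one])
        exact hgU (this ▸ hgC)
      have hi0 : i ≠ 0 := by
        rintro rfl
        have : 0 < Nat.card C := Nat.card_pos
        omega
      have : 2 ≤ i := by omega
      rw [hi, h.cS, mul_comm]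
      exact Nat.mul_le_mul_left _ this
    obtain ⟨x, hx, s, hs, hxs⟩ := h.nS
    rw [← hCS'] at hs hxs
    exact hxs (hCn x hx s hs)
  · -- `S C = H`
    let S' : Subgroup H := S.subgroupOf H
    have hcS' : Nat.card S' = Nat.card S := Nat.card_congr (Subgroup.subgroupOfEquivOfLe h.SH).toEquiv
    have h1 := card_sup_normal C' S'
    have hsup : S' ⊔ C' = ⊤ := by
      have : S' ⊔ C' = (S ⊔ C).subgroupOf H := (Subgroup.subgroupOf_sup h.SH hCH).symm
      rw [this, hX, Subgroup.subgroupOf_self]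
    rw [hsup, Subgroup.card_top, hcC', h.cH] at h1
    have h2 : C'.relIndex S' ∣ Nat.card S' := Subgroup.relIndex_dvd_card C' S'
    rw [hcS'] at h2
    have h4 : 3 ∣ Nat.card C * C'.relIndex S' := by
      rw [← h1]; exact Dvd.intro (2 * Nat.card U) (by ring)
    rcases (Nat.Prime.dvd_mul (by norm_num)).1 h4 with h5 | h5
    · exact h3C h5
    · exact (three_ndvd h hS).2 (h5.trans h2)

theorem VZ_card_sq [Finite G] {S H U : Subgroup G} (h : Side S H U) (hS : IsPGroup 2 S) {s : G}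
    (hs : s ∈ S) (hsU : s ∉ U) :
    Nat.card (VZ U ⊓ Subgroup.centralizer {s} : Subgroup G) ^ 2 = Nat.card (VZ U) := by
  obtain ⟨k, hkH, hk3, hkU⟩ := h.k
  have hsH := h.SH hs
  apply le_antisymm
  · -- two conjugates intersect trivially
    set t := k * s * k⁻¹ with ht
    have htH : t ∈ H := mul_mem (mul_mem hkH hsH) (inv_mem hkH)
    have hkS : k ∉ S := by
      intro hk
      apply (three_ndvd h hS).2
      have : orderOf (⟨k, hk⟩ : S) ∣ Nat.card S := orderOf_dvd_natCard _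
      rwa [Subgroup.orderOf_mk, hk3] at this
    have htS : t ∉ S := by
      intro htS
      -- then `k` normalises `S`
      have hkn : ∀ x ∈ S, k * x * k⁻¹ ∈ S := by
        intro x hx
        by_cases hxU : x ∈ U
        · exact h.US (h.nor k hkH x hxU)
        · have h1 : x * s ∈ U := (side_mul h hx hs).2 ⟨fun h' => absurd h' hxU, fun h' => absurd h' hsU⟩
          have h2 := h.US (h.nor k hkH _ h1)
          have e : k * x * k⁻¹ = (k * (x * s) * k⁻¹) * t⁻¹ := by rw [ht]; group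
          rw [e]
          exact mul_mem h2 (inv_mem htS)
      have hkn' : k ∈ Subgroup.normalizer (S : Set G) :=
        Subgroup.mem_normalizer_fintype (S := (S : Set G)) hkn
      have hX : S ≤ Subgroup.normalizer (S : Set G) ⊓ H := le_inf Subgroup.le_normalizer h.SH
      rcases side_big h hX inf_le_right with h1 | h1
      · exact hkS (by rw [← h1]; exact Subgroup.mem_inf.2 ⟨hkn', hkH⟩)
      · obtain ⟨x, hx, y, hy, hxy⟩ := h.nS
        rw [← h1] at hx
        exact hxy ((Subgroup.mem_normalizer_iff.1 hx.1 y).1 hy)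
    have hdis : Disjoint (VZ U ⊓ Subgroup.centralizer {s} : Subgroup G)
        (VZ U ⊓ Subgroup.centralizer {t} : Subgroup G) := by
      rw [Subgroup.disjoint_def]
      rintro v ⟨hv, hvs⟩ ⟨-, hvt⟩
      have hvs' := Subgroup.mem_centralizer_singleton_iff.1 hvs
      have hvt' := Subgroup.mem_centralizer_singleton_iff.1 hvt
      let X : Subgroup G := H ⊓ Subgroup.centralizer {v}
      have hsX : s ∈ X := Subgroup.mem_inf.2 ⟨hsH, Subgroup.mem_centralizer_singleton_iff.2 hvs'.symm⟩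
      have htX : t ∈ X := Subgroup.mem_inf.2 ⟨htH, Subgroup.mem_centralizer_singleton_iff.2 hvt'.symm⟩
      have hUX : U ≤ X := fun u hu => Subgroup.mem_inf.2 ⟨h.SH (h.US hu),
        Subgroup.mem_centralizer_singleton_iff.2 (hv.2.2 u hu).symm⟩
      have hSX : S ≤ X := by
        intro x hx
        by_cases hxU : x ∈ U
        · exact hUX hxU
        · have h1 : x * s ∈ U := (side_mul h hx hs).2 ⟨fun h' => absurd h' hxU, fun h' => absurd h' hsU⟩
          have e : x = (x * s) * s⁻¹ := by group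
          rw [e]
          exact mul_mem (hUX h1) (inv_mem hsX)
      rcases side_big h hSX inf_le_left with h1 | h1
      · exact absurd (h1 ▸ htX) htS
      · have hkX : k ∈ X := by rw [h1]; exact hkH
        exact hkU v hv.1 (Subgroup.mem_centralizer_singleton_iff.1 (Subgroup.mem_inf.1 hkX).2).symm
    have hcard : Nat.card (VZ U ⊓ Subgroup.centralizer {t} : Subgroup G) =
        Nat.card (VZ U ⊓ Subgroup.centralizer {s} : Subgroup G) := by
      apply Nat.card_congr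
      refine ⟨fun v => ⟨k⁻¹ * v * k, Subgroup.mem_inf.2 ⟨?_, ?_⟩⟩, fun v => ⟨k * v * k⁻¹, Subgroup.mem_inf.2 ⟨?_, ?_⟩⟩, ?_, ?_⟩
      · have := VZ_conj h (inv_mem hkH) v.2.1
        rwa [inv_inv] at this
      · have this : (v : G) * t = t * v := Subgroup.mem_centralizer_singleton_iff.1 v.2.2
        refine Subgroup.mem_centralizer_singleton_iff.2 ?_
        obtain ⟨v, hv'⟩ := v
        change v * t = t * v at this
        show k⁻¹ * v * k * s = s * (k⁻¹ * v * k)
        have e : s = k⁻¹ * t * k := by rw [ht]; group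
        calc k⁻¹ * v * k * s = k⁻¹ * v * k * (k⁻¹ * t * k) := by rw [e]
          _ = k⁻¹ * (v * t) * k := by group
          _ = k⁻¹ * (t * v) * k := by rw [this]
          _ = (k⁻¹ * t * k) * (k⁻¹ * v * k) := by group
          _ = s * (k⁻¹ * v * k) := by rw [← e]
      · exact VZ_conj h hkH v.2.1
      · have := Subgroup.mem_centralizer_singleton_iff.1 v.2.2
        refine Subgroup.mem_centralizer_singleton_iff.2 ?_
        rw [ht]
        calc k * v * k⁻¹ * (k * s * k⁻¹) = k * (v * s) * k⁻¹ := by group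
          _ = k * (s * v) * k⁻¹ := by rw [this]
          _ = k * s * k⁻¹ * (k * v * k⁻¹) := by group
      · intro v; apply Subtype.ext; show k * (k⁻¹ * v * k) * k⁻¹ = v; group
      · intro v; apply Subtype.ext; show k⁻¹ * (k * v * k⁻¹) * k = v; group
    have hinj := Subgroup.mul_injective_of_disjoint hdis
    have hle : Nat.card (↥(VZ U ⊓ Subgroup.centralizer {s} : Subgroup G) ×
        ↥(VZ U ⊓ Subgroup.centralizer {t} : Subgroup G)) ≤ Nat.card (VZ U) := by
      refine Nat.card_le_card_of_injective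
        (fun p => (⟨(p.1 : G) * p.2, mul_mem p.1.2.1 p.2.2.1⟩ : VZ U)) ?_
      intro p q hpq
      exact hinj (Subtype.ext_iff.1 hpq)
    rw [Nat.card_prod, hcard] at hle
    rw [sq]; exact hle
  · -- the commutator map
    have hss : s * s ∈ U := (side_mul h hs hs).2 Iff.rfl
    have hcomm : ∀ v ∈ VZ U, ∀ w ∈ VZ U, v * w = w * v := fun v hv w hw => hv.2.2 w hw.1
    let φ : ↥(VZ U) →* G :=
      { toFun := fun v => v * (s * v * s⁻¹)
        map_one' := by simp
        map_mul' := fun v w => by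
          have h1 := hcomm _ w.2 _ (VZ_conj h hsH v.2)
          show ((v : G) * w) * (s * ((v : G) * w) * s⁻¹) = v * (s * v * s⁻¹) * (w * (s * w * s⁻¹))
          calc ((v : G) * w) * (s * ((v : G) * w) * s⁻¹) = v * (w * (s * v * s⁻¹)) * (s * w * s⁻¹) := by group
            _ = v * ((s * v * s⁻¹) * w) * (s * w * s⁻¹) := by rw [h1]
            _ = v * (s * v * s⁻¹) * (w * (s * w * s⁻¹)) := by group }
    have hker : Nat.card φ.ker ≤ Nat.card (VZ U ⊓ Subgroup.centralizer {s} : Subgroup G) := by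
      refine Nat.card_le_card_of_injective (fun v => ⟨(v : VZ U), Subgroup.mem_inf.2 ⟨(v : VZ U).2, ?_⟩⟩) ?_
      · have h1 : ((v : VZ U) : G) * (s * ((v : VZ U) : G) * s⁻¹) = 1 := v.2
        have h2 : s * ((v : VZ U) : G) * s⁻¹ = (v : VZ U) := by
          rw [← inv_eq_of_mul_eq_one_right h1, VZ_inv (v : VZ U).2]
        refine Subgroup.mem_centralizer_singleton_iff.2 ?_
        calc ((v : VZ U) : G) * s = (s * ((v : VZ U) : G) * s⁻¹) * s := by rw [h2]
          _ = s * ((v : VZ U) : G) := by group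
      · intro v w hvw
        have := Subtype.ext_iff.1 hvw
        exact Subtype.ext (Subtype.ext this)
    have hran : Nat.card φ.range ≤ Nat.card (VZ U ⊓ Subgroup.centralizer {s} : Subgroup G) := by
      apply Subgroup.card_le_of_le
      rintro _ ⟨v, rfl⟩
      refine Subgroup.mem_inf.2 ⟨mul_mem v.2 (VZ_conj h hsH v.2), Subgroup.mem_centralizer_singleton_iff.2 ?_⟩
      show (v : G) * (s * v * s⁻¹) * s = s * (v * (s * v * s⁻¹))
      have h1 := v.2.2.2 _ hss
      have h2 := hcomm _ v.2 _ (VZ_conj h hsH v.2)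
      calc (v : G) * (s * v * s⁻¹) * s = (s * v * s⁻¹) * v * s := by rw [h2]
        _ = s * v * s⁻¹ * (v * (s * s)) * s⁻¹ := by group
        _ = s * v * s⁻¹ * ((s * s) * v) * s⁻¹ := by rw [h1]
        _ = s * (v * (s * v * s⁻¹)) := by group
    have h1 := Subgroup.card_mul_index φ.ker
    rw [Subgroup.index_ker] at h1
    rw [← h1, sq]
    exact Nat.mul_le_mul hker hran

/-- one half of step 1 -/
theorem half [Finite G] {S H₁ H₂ U₁ U₂ : Subgroup G} (hS : IsPGroup 2 S) (h1 : Side S H₁ U₁)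
    (h2 : Side S H₂ U₂) (hV : ¬ VZ U₁ ≤ U₂) (hV' : ¬ VZ U₂ ≤ U₁) : Nat.card (VZ U₁) = 4 := by
  obtain ⟨s, hs, hsU⟩ := SetLike.not_le_iff_exists.1 hV'
  obtain ⟨v0, hv0, hv0U⟩ := SetLike.not_le_iff_exists.1 hV
  have hsS : s ∈ S := h2.US hs.1
  have hv0S : v0 ∈ S := h1.US hv0.1
  have hsq := VZ_card_sq h1 hS hsS hsU
  set W : Subgroup G := VZ U₁ ⊓ Subgroup.centralizer {s} with hW
  have hle : (VZ U₁ ⊓ U₂ : Subgroup G) ≤ W := fun v hv =>
    Subgroup.mem_inf.2 ⟨hv.1, Subgroup.mem_centralizer_singleton_iff.2 (hs.2.2 v hv.2).symm⟩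
  have hidx : (U₂.subgroupOf (VZ U₁)).index = 2 := by
    rw [Subgroup.index_eq_two_iff]
    refine ⟨⟨v0, hv0⟩, fun b => ?_⟩
    have := side_mul h2 (h1.US b.2.1) hv0S
    rw [Subgroup.mem_subgroupOf, Subgroup.mem_subgroupOf]
    show Xor' ((b : G) * v0 ∈ U₂) ((b : G) ∈ U₂)
    rw [this]
    unfold Xor'
    tauto
  have hcard : Nat.card (VZ U₁) = 2 * Nat.card (VZ U₁ ⊓ U₂ : Subgroup G) := by
    have h3 := Subgroup.card_mul_index (U₂.subgroupOf (VZ U₁))
    rw [hidx] at h3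
    have h4 : Nat.card (U₂.subgroupOf (VZ U₁)) = Nat.card (VZ U₁ ⊓ U₂ : Subgroup G) := by
      apply Nat.card_congr
      exact ⟨fun x => ⟨x.1, Subgroup.mem_inf.2 ⟨x.1.2, Subgroup.mem_subgroupOf.1 x.2⟩⟩,
        fun x => ⟨⟨x.1, x.2.1⟩, Subgroup.mem_subgroupOf.2 x.2.2⟩, fun x => rfl, fun x => rfl⟩
    rw [← h3, h4, mul_comm]
  have hWne : W ≠ VZ U₁ := by
    intro e
    apply hsU
    have hne : VZ U₁ ≠ ⊥ := by
      intro e'
      exact hV (by rw [e']; exact bot_le)
    refine VZ_cent h1 hS hne (h1.SH hsS) fun v hv => ?_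
    rw [← e] at hv
    exact (Subgroup.mem_centralizer_singleton_iff.1 hv.2).symm
  have hWle : W ≤ VZ U₁ := inf_le_left
  obtain ⟨i, hi⟩ := Subgroup.card_dvd_of_le hWle
  have hi1 : i ≠ 1 := by
    rintro rfl
    exact hWne (Subgroup.eq_of_le_of_card_ge hWle (by rw [hi, mul_one]))
  have hWpos : 0 < Nat.card W := Nat.card_pos
  have hVpos : 0 < Nat.card (VZ U₁) := Nat.card_pos
  have hi0 : i ≠ 0 := by
    rintro rfl
    omega
  have hle' := Subgroup.card_le_of_le hle
  have hWi : Nat.card W = i := by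
    rw [hi, sq] at hsq
    exact Nat.eq_of_mul_eq_mul_left hWpos hsq
  have h5 : Nat.card W * i ≤ Nat.card W * 2 := by
    rw [← hi]; omega
  have h6 : i ≤ 2 := Nat.le_of_mul_le_mul_left h5 hWpos
  have h7 : i = 2 := by omega
  rw [hi, hWi, h7]

theorem VZ_swap [Finite G] {S H₁ H₂ U₁ U₂ : Subgroup G} (hS : IsPGroup 2 S) (h1 : Side S H₁ U₁)
    (h2 : Side S H₂ U₂) (hne : VZ U₂ ≠ ⊥) (hV : ¬ VZ U₁ ≤ U₂) : ¬ VZ U₂ ≤ U₁ := by
  intro h
  apply hV
  intro v hv
  exact VZ_cent h2 hS hne (h2.SH (h1.US hv.1)) fun w hw => hv.2.2 w (h hw)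

theorem VZ_ne_bot [Finite G] {U : Subgroup G} (hU : IsPGroup 2 U) (hne : U ≠ ⊥) : VZ U ≠ ⊥ := by
  haveI : Nontrivial U := (Subgroup.nontrivial_iff_ne_bot U).2 hne
  haveI := hU.center_nontrivial
  have hc : IsPGroup 2 (Subgroup.center U) := hU.to_subgroup _
  obtain ⟨n, hn, hcard⟩ := hc.nontrivial_iff_card.1 inferInstance
  have h2 : 2 ∣ Nat.card (Subgroup.center U) := by
    rw [hcard]; exact dvd_pow_self 2 (by omega)
  haveI : Fact (Nat.Prime 2) := ⟨Nat.prime_two⟩
  obtain ⟨x, hx⟩ := exists_prime_orderOf_dvd_card' 2 h2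
  intro hbot
  have hmem : ((x : U) : G) ∈ VZ U := by
    refine ⟨(x : U).2, ?_, fun u hu => ?_⟩
    · have h1 : x ^ 2 = 1 := by rw [← hx]; exact pow_orderOf_eq_one x
      have := congrArg (fun y : Subgroup.center U => ((y : U) : G)) h1
      simpa using this
    · have := (Subgroup.mem_center_iff.1 x.2) ⟨u, hu⟩
      exact (congrArg (fun y : U => (y : G)) this).symm
  rw [hbot, Subgroup.mem_bot] at hmem
  have hx1 : x = 1 := by
    apply Subtype.ext; apply Subtype.ext; exact hmem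
  rw [hx1, orderOf_one] at hx
  omega

/-- STEP 1 of the amalgam lemma -/
theorem Gam1 [Finite G] {S H₁ H₂ U₁ U₂ : Subgroup G} (hS : IsPGroup 2 S) (h1 : Side S H₁ U₁)
    (h2 : Side S H₂ U₂)
    (hNC : ∀ T : Subgroup G, T ≠ ⊥ → T ≤ S → (∀ g ∈ H₁, ∀ t ∈ T, g * t * g⁻¹ ∈ T) →
      (∀ g ∈ H₂, ∀ t ∈ T, g * t * g⁻¹ ∈ T) → False) (hV : ¬ VZ U₁ ≤ U₂) : Nat.card S ≤ 8 := by
  have hV1ne : VZ U₁ ≠ ⊥ := by
    intro e; exact hV (by rw [e]; exact bot_le)
  have hU1ne : U₁ ≠ ⊥ := by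
    intro e
    exact hV1ne (eq_bot_iff.2 ((VZ_le U₁).trans (by rw [e])))
  have hcU : Nat.card U₁ = Nat.card U₂ := by
    have := h1.cS; have := h2.cS; omega
  have hU2ne : U₂ ≠ ⊥ := by
    intro e
    apply hU1ne
    rw [e, Subgroup.card_bot] at hcU
    exact Subgroup.card_eq_one.1 hcU
  have hV2ne : VZ U₂ ≠ ⊥ := VZ_ne_bot (hS.to_le h2.US) hU2ne
  have hV' := VZ_swap hS h1 h2 hV2ne hV
  have hc4 := half hS h1 h2 hV hV'
  have hsqs : ∀ (A B HA HB : Subgroup G), Side S HA A → Side S HB B → ¬ VZ A ≤ B →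
      ∀ u ∈ A, ∃ d ∈ B, u ^ 2 = d ^ 2 := by
    intro A B HA HB hA hB hn u hu
    obtain ⟨v0, hv0, hv0B⟩ := SetLike.not_le_iff_exists.1 hn
    by_cases huB : u ∈ B
    · exact ⟨u, huB, rfl⟩
    · refine ⟨u * v0, (side_mul hB (hA.US hu) (hA.US hv0.1)).2
        ⟨fun h' => absurd h' huB, fun h' => absurd h' hv0B⟩, ?_⟩
      rw [(show Commute u v0 from (hv0.2.2 u hu).symm).mul_pow, hv0.2.1, mul_one]
  have hset : {x : G | ∃ u ∈ U₁, x = u ^ 2} = {x : G | ∃ u ∈ U₂, x = u ^ 2} := by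
    ext x
    constructor
    · rintro ⟨u, hu, rfl⟩
      exact hsqs U₁ U₂ H₁ H₂ h1 h2 hV u hu
    · rintro ⟨u, hu, rfl⟩
      exact hsqs U₂ U₁ H₂ H₁ h2 h1 hV' u hu
  have hnorm : ∀ (A HA : Subgroup G), Side S HA A → ∀ g ∈ HA,
      ∀ t ∈ Subgroup.closure {x : G | ∃ u ∈ A, x = u ^ 2},
        g * t * g⁻¹ ∈ Subgroup.closure {x : G | ∃ u ∈ A, x = u ^ 2} := by
    intro A HA hA g hg t ht
    have : Subgroup.closure {x : G | ∃ u ∈ A, x = u ^ 2} ≤
        (Subgroup.closure {x : G | ∃ u ∈ A, x = u ^ 2}).comap (MulAut.conj g).toMonoidHom := by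
      rw [Subgroup.closure_le]
      rintro _ ⟨u, hu, rfl⟩
      refine Subgroup.subset_closure ⟨g * u * g⁻¹, hA.nor g hg u hu, ?_⟩
      show g * u ^ 2 * g⁻¹ = (g * u * g⁻¹) ^ 2
      rw [conj_pow]
    exact this ht
  have hT : Subgroup.closure {x : G | ∃ u ∈ U₁, x = u ^ 2} = ⊥ := by
    by_contra hne
    refine hNC _ hne ?_ (hnorm U₁ H₁ h1) ?_
    · rw [Subgroup.closure_le]
      rintro _ ⟨u, hu, rfl⟩
      exact h1.US (pow_mem hu 2)
    · rw [hset]
      exact hnorm U₂ H₂ h2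
  have hsq1 : ∀ u ∈ U₁, u ^ 2 = 1 := by
    intro u hu
    have : u ^ 2 ∈ Subgroup.closure {x : G | ∃ u ∈ U₁, x = u ^ 2} :=
      Subgroup.subset_closure ⟨u, hu, rfl⟩
    rw [hT] at this
    exact this
  have hVU : VZ U₁ = U₁ := by
    apply le_antisymm (VZ_le _)
    intro x hx
    refine ⟨hx, hsq1 x hx, fun u hu => ?_⟩
    have e1 : x * x = 1 := by rw [← sq]; exact hsq1 x hx
    have e2 : u * u = 1 := by rw [← sq]; exact hsq1 u hu
    have e3 : (x * u) * (x * u) = 1 := by rw [← sq]; exact hsq1 _ (mul_mem hx hu)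
    calc x * u = x * ((x * u) * (x * u)) * u := by rw [e3, mul_one]
      _ = (x * x) * u * x * (u * u) := by group
      _ = u * x := by rw [e1, e2, one_mul, mul_one]
  rw [hVU] at hc4
  rw [h1.cS, hc4]

end Cfsg.Agent.Lib.H15S
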