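import Mathlib
import Cfsg.Agent.Lib.H15S0

set_option autoImplicit false
set_option linter.all false

/-! The `S₃`-amalgam lemma `Gam` of S2220 -/

namespace Cfsg.Agent.Lib.H15SGam12

open Subgroup Cfsg.Agent.Lib.H15S

section
variable {G : Type*} [Group G] [Finite G]

/-- fixed point free action of an element of order 3 -/
theorem card_mod {k : G} (hk : orderOf k = 3) {C : Subgroup G} (hC : ∀ x ∈ C, k * x * k⁻¹ ∈ C)
    (hf : ∀ x ∈ C, x * k = k * x → x = 1) : Nat.card C % 3 = 1 := by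
  classical
  haveI : Fintype C := Fintype.ofFinite _
  haveI : Fact (Nat.Prime 3) := ⟨Nat.prime_three⟩
  have hk3 : k * k * k = 1 := by
    have := pow_orderOf_eq_one k
    rw [hk] at this
    rw [← this]; simp only [pow_succ, pow_zero, one_mul]
  have hki : k⁻¹ = k * k := by
    rw [inv_eq_iff_mul_eq_one, ← mul_assoc]; exact hk3
  have hC' : ∀ x ∈ C, k⁻¹ * x * k ∈ C := by
    intro x hx
    have h1 := hC _ (hC x hx)
    have h2 : k * (k * x * k⁻¹) * k⁻¹ = k⁻¹ * x * k := by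
      rw [hki]
      have : k * (k * x * (k * k)) * (k * k) = k * k * x * (k * (k * k * k)) := by group
      rw [this, hk3, mul_one]
    rwa [h2] at h1
  let σ : Equiv.Perm C :=
    { toFun := fun x => ⟨k * x * k⁻¹, hC x x.2⟩
      invFun := fun x => ⟨k⁻¹ * x * k, hC' x x.2⟩
      left_inv := fun x => by apply Subtype.ext; simp only; group
      right_inv := fun x => by apply Subtype.ext; simp only; group }
  have hσ : σ ^ 3 ^ 1 = 1 := by
    rw [pow_one]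
    ext x
    show k * (k * (k * (x : G) * k⁻¹) * k⁻¹) * k⁻¹ = x
    have : k * (k * (k * (x : G) * k⁻¹) * k⁻¹) * k⁻¹ = (k * k * k) * x * (k * k * k)⁻¹ := by group
    rw [this, hk3, one_mul, inv_one, mul_one]
  have h1 := Equiv.Perm.card_compl_support_modEq hσ
  have h2 : σ.supportᶜ = {1} := by
    ext x
    rw [Finset.mem_compl, Equiv.Perm.mem_support, not_not, Finset.mem_singleton]
    constructor
    · intro h
      have h3 : k * (x : G) * k⁻¹ = x := congrArg Subtype.val h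
      apply Subtype.ext
      apply hf x x.2
      exact (mul_inv_eq_iff_eq_mul.1 h3).symm
    · rintro rfl
      apply Subtype.ext
      show k * ((1 : C) : G) * k⁻¹ = 1
      simp
  rw [h2, Finset.card_singleton, ← Nat.card_eq_fintype_card] at h1
  have h3 : 1 % 3 = Nat.card C % 3 := h1
  omega

/-- basic facts on a side -/
structure Sd (S H U : Subgroup G) (k : G) : Prop where
  US : U ≤ S
  SH : S ≤ H
  nor : ∀ g ∈ H, ∀ u ∈ U, g * u * g⁻¹ ∈ U
  kH : k ∈ H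
  k3 : orderOf k = 3
  fp : ∀ u ∈ U, u * k = k * u → u = 1
  dec : ∀ h ∈ H, ∃ s ∈ S, h = s ∨ h = s * k ∨ h = s * k⁻¹
  conj : ∀ x ∈ S, x ∉ U → x * x = 1 → ∀ y ∈ S, y ∉ U → y * y = 1 → ∃ g ∈ S, g * x * g⁻¹ = y
  ks : k ∉ S

theorem not_mem_two {S : Subgroup G} (hS : IsPGroup 2 S) {k : G} (hk : orderOf k = 3) : k ∉ S := by
  intro h
  obtain ⟨n, hn⟩ := hS ⟨k, h⟩
  have h1 : k ^ 2 ^ n = 1 := congrArg Subtype.val hn
  have h2 := orderOf_dvd_of_pow_eq_one h1
  rw [hk] at h2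
  have h3 := (Nat.Prime.dvd_of_dvd_pow Nat.prime_three h2)
  omega

theorem side {S H U : Subgroup G} (hS : IsPGroup 2 S) (h : Side S H U) : ∃ k, Sd S H U k := by
  classical
  obtain ⟨k, hkH, hk3, hfp⟩ := h.k
  have hkS := not_mem_two hS hk3
  have hk3' : k * k * k = 1 := by
    have := pow_orderOf_eq_one k
    rw [hk3] at this
    rw [← this]; simp only [pow_succ, pow_zero, one_mul]
  have hki : k⁻¹ = k * k := by
    rw [inv_eq_iff_mul_eq_one, ← mul_assoc]; exact hk3'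
  have hkiS : k⁻¹ ∉ S := fun h' => hkS (by simpa using S.inv_mem h')
  -- decomposition
  have hdec : ∀ x ∈ H, ∃ s ∈ S, x = s ∨ x = s * k ∨ x = s * k⁻¹ := by
    let f : S × Fin 3 → H := fun p => ⟨p.1 * k ^ (p.2 : ℕ), H.mul_mem (h.SH p.1.2) (H.pow_mem hkH _)⟩
    have hinj : Function.Injective f := by
      rintro ⟨s, i⟩ ⟨s', j⟩ hh
      have h1 : (s : G) * k ^ (i : ℕ) = s' * k ^ (j : ℕ) := congrArg Subtype.val hh
      have h2 : k ^ (i : ℕ) * (k ^ (j : ℕ))⁻¹ = (s : G)⁻¹ * s' := by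
        rw [mul_inv_eq_iff_eq_mul, mul_assoc, ← h1]; group
      have h3 : k ^ (i : ℕ) * (k ^ (j : ℕ))⁻¹ ∈ S := by
        rw [h2]; exact S.mul_mem (S.inv_mem s.2) s'.2
      have h4 : i = j := by
        by_contra hne
        fin_cases i <;> fin_cases j <;> simp at h3 hne
        · exact hkS h3
        · exact hkS (by rw [show k = (k ^ 2)⁻¹ by rw [pow_two, ← hki, inv_inv]]; exact S.inv_mem h3)
        · exact hkS h3
        · apply hkS
          have : k = (k * (k ^ 2)⁻¹)⁻¹ := by group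
          rw [this]; exact S.inv_mem h3
        · apply hkS
          have : k = (k ^ 2)⁻¹ := by rw [pow_two, ← hki, inv_inv]
          rw [this]; exact S.inv_mem h3
        · apply hkS
          have : k = k ^ 2 * k⁻¹ := by group
          rw [this]; exact h3
      subst h4
      have h5 : (s : G) = s' := mul_right_cancel h1
      exact Prod.ext (Subtype.ext h5) rfl
    have hcard : Nat.card (S × Fin 3) = Nat.card H := by
      rw [Nat.card_prod, Nat.card_eq_fintype_card (α := Fin 3), Fintype.card_fin, h.cS, h.cH]; ring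
    haveI : Finite (S × Fin 3) := inferInstance
    have hbij : Function.Bijective f := (Nat.bijective_iff_injective_and_card f).2 ⟨hinj, hcard⟩
    intro x hx
    obtain ⟨⟨s, i⟩, hsi⟩ := hbij.2 ⟨x, hx⟩
    have h1 : (s : G) * k ^ (i : ℕ) = x := congrArg Subtype.val hsi
    refine ⟨s, s.2, ?_⟩
    fin_cases i
    · left; rw [← h1]; simp
    · right; left; rw [← h1]; simp
    · right; right; rw [← h1, hki]; simp [pow_two]
  refine ⟨k, h.US, h.SH, h.nor, hkH, hk3, hfp, hdec, ?_, hkS⟩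
  -- index two facts
  have hUS : ∀ x ∈ S, x ∉ U → ∀ y ∈ S, y ∉ U → x * y ∈ U := by
    intro x hx hxU y hy hyU
    have h1 : (U.subgroupOf S).index = 2 := by
      have h2 := (U.subgroupOf S).card_mul_index
      rw [Nat.card_congr (Subgroup.subgroupOfEquivOfLe h.US).toEquiv, h.cS] at h2
      have h3 : 0 < Nat.card U := Nat.card_pos
      exact Nat.eq_of_mul_eq_mul_left h3 (by rw [h2]; ring)
    have h4 := (Subgroup.mul_mem_iff_of_index_two h1 (a := (⟨x, hx⟩ : S)) (b := ⟨y, hy⟩))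
    simp only [Subgroup.mem_subgroupOf] at h4
    exact h4.2 ⟨fun h => absurd h hxU, fun h => absurd h hyU⟩
  have hUk : ∀ u ∈ U, k * u * k⁻¹ ∈ U := fun u hu => h.nor k hkH u hu
  have hUki : ∀ u ∈ U, k⁻¹ * u * k ∈ U := fun u hu => by
    have := h.nor k⁻¹ (H.inv_mem hkH) u hu
    rwa [inv_inv] at this
  have hkk : k⁻¹ * k⁻¹ = k := by
    rw [hki]
    have : k * k * (k * k) = k * k * k * k := by group
    rw [this, hk3', one_mul]
  have hinvU : ∀ x : G, x ∉ U → x⁻¹ ∉ U := fun x hx h' => hx (by simpa using U.inv_mem h')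
  -- conjugating `k` by an element of `S \ U`
  have hxk : ∀ x ∈ S, x ∉ U → ∃ u ∈ U, x * k * x⁻¹ = u * k⁻¹ := by
    intro x hx hxU
    have hxkH : x * k * x⁻¹ ∈ H := H.mul_mem (H.mul_mem (h.SH hx) hkH) (H.inv_mem (h.SH hx))
    obtain ⟨s, hs, hh⟩ := hdec _ hxkH
    have hsU : s ∈ U ∨ x⁻¹ * s ∈ U := by
      by_cases hsU : s ∈ U
      · exact Or.inl hsU
      · exact Or.inr (hUS _ (S.inv_mem hx) (hinvU _ hxU) _ hs hsU)
    rcases hh with hh | hh | hh
    · exfalso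
      apply hkS
      have : k = x⁻¹ * s * x := by rw [← hh]; group
      rw [this]; exact S.mul_mem (S.mul_mem (S.inv_mem hx) hs) hx
    · exfalso
      rcases hsU with hsU | hsU
      · -- `S` would be normal
        have h1 : k * x * k⁻¹ = s⁻¹ * x := by
          have h2 : x * k = s * k * x := by
            calc x * k = (x * k * x⁻¹) * x := by group
              _ = s * k * x := by rw [hh]
          calc k * x * k⁻¹ = s⁻¹ * (s * k * x) * k⁻¹ := by group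
            _ = s⁻¹ * (x * k) * k⁻¹ := by rw [h2]
            _ = s⁻¹ * x := by group
        have h3 : ∀ y ∈ S, k * y * k⁻¹ ∈ S := by
          intro y hy
          by_cases hyU : y ∈ U
          · exact h.US (hUk y hyU)
          · have h4 : y * x⁻¹ ∈ U := hUS y hy hyU x⁻¹ (S.inv_mem hx) (hinvU _ hxU)
            have h5 : k * y * k⁻¹ = (k * (y * x⁻¹) * k⁻¹) * (k * x * k⁻¹) := by group
            rw [h5, h1]
            exact S.mul_mem (h.US (hUk _ h4)) (S.mul_mem (S.inv_mem hs) hx)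
        have h3' : ∀ y ∈ S, k⁻¹ * y * k ∈ S := by
          intro y hy
          have h4 := h3 _ (h3 y hy)
          have h5 : k * (k * y * k⁻¹) * k⁻¹ = k⁻¹ * y * k := by
            have : k * (k * y * k⁻¹) * k⁻¹ = (k * k) * y * (k * k)⁻¹ := by group
            rw [this, ← hki, inv_inv]
          rwa [h5] at h4
        obtain ⟨g, hg, s', hs', hgs⟩ := h.nS
        apply hgs
        obtain ⟨a, ha, hga | hga | hga⟩ := hdec g hg
        · rw [hga]; exact S.mul_mem (S.mul_mem ha hs') (S.inv_mem ha)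
        · rw [hga]
          have : a * k * s' * (a * k)⁻¹ = a * (k * s' * k⁻¹) * a⁻¹ := by group
          rw [this]; exact S.mul_mem (S.mul_mem ha (h3 _ hs')) (S.inv_mem ha)
        · rw [hga]
          have : a * k⁻¹ * s' * (a * k⁻¹)⁻¹ = a * (k⁻¹ * s' * k) * a⁻¹ := by group
          rw [this]; exact S.mul_mem (S.mul_mem ha (h3' _ hs')) (S.inv_mem ha)
      · -- `k x⁻¹ k⁻¹ ∈ U`
        have h1 : k * x⁻¹ * k⁻¹ = x⁻¹ * s := by
          calc k * x⁻¹ * k⁻¹ = x⁻¹ * (x * k * x⁻¹) * k⁻¹ := by group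
            _ = x⁻¹ * s := by rw [hh]; group
        have h2 : x⁻¹ ∈ U := by
          have := hUki _ (h1 ▸ hsU)
          have h3 : k⁻¹ * (k * x⁻¹ * k⁻¹) * k = x⁻¹ := by group
          rwa [h3] at this
        exact hinvU _ hxU h2
    · rcases hsU with hsU | hsU
      · exact ⟨s, hsU, hh⟩
      · exfalso
        have h1 : k * x⁻¹ * k = x⁻¹ * s := by
          calc k * x⁻¹ * k = x⁻¹ * (x * k * x⁻¹) * k := by group
            _ = x⁻¹ * s := by rw [hh]; group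
        have h2 : k = (k⁻¹ * (x⁻¹ * s) * k)⁻¹ * x⁻¹ := by
          rw [← h1]
          have : (k⁻¹ * (k * x⁻¹ * k) * k)⁻¹ * x⁻¹ = k⁻¹ * k⁻¹ * (x * x⁻¹) := by group
          rw [this, mul_inv_cancel, mul_one, hkk]
        apply hkS
        rw [h2]
        exact S.mul_mem (S.inv_mem (h.US (hUki _ hsU))) (S.inv_mem hx)
  -- all elements of `U k` are conjugate to `k`
  have hsurj : ∀ u ∈ U, ∃ w ∈ U, w * k * w⁻¹ = u * k := by
    let f : U → U := fun w => ⟨w * (k * (w : G)⁻¹ * k⁻¹), U.mul_mem w.2 (hUk _ (U.inv_mem w.2))⟩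
    have hinj : Function.Injective f := by
      intro a b hab
      have h1 : (a : G) * (k * (a : G)⁻¹ * k⁻¹) = b * (k * (b : G)⁻¹ * k⁻¹) := congrArg Subtype.val hab
      have h2 : (b : G)⁻¹ * a * k = k * ((b : G)⁻¹ * a) := by
        have h3 : (b : G)⁻¹ * ((a : G) * (k * (a : G)⁻¹ * k⁻¹)) * (k * a) = (b : G)⁻¹ * (b * (k * (b : G)⁻¹ * k⁻¹)) * (k * a) := by
          rw [h1]
        have h4 : (b : G)⁻¹ * ((a : G) * (k * (a : G)⁻¹ * k⁻¹)) * (k * a) = (b : G)⁻¹ * a * k := by group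
        have h5 : (b : G)⁻¹ * (b * (k * (b : G)⁻¹ * k⁻¹)) * (k * a) = k * ((b : G)⁻¹ * a) := by group
        rw [← h4, h3, h5]
      have h3 := hfp _ (U.mul_mem (U.inv_mem b.2) a.2) h2
      exact Subtype.ext (inv_mul_eq_one.1 h3).symm
    have hbij := Finite.surjective_of_injective hinj
    intro u hu
    obtain ⟨w, hw⟩ := hbij ⟨u, hu⟩
    have h1 : (w : G) * (k * (w : G)⁻¹ * k⁻¹) = u := congrArg Subtype.val hw
    refine ⟨w, w.2, ?_⟩
    rw [← h1]; group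
  have hinv : ∀ x ∈ S, x ∉ U → x * x = 1 → ∃ w ∈ U, w⁻¹ * x * w ∈ S ∧ w⁻¹ * x * w ∉ U ∧
      (w⁻¹ * x * w) * (w⁻¹ * x * w) = 1 ∧ (w⁻¹ * x * w) * k = k⁻¹ * (w⁻¹ * x * w) := by
    intro x hx hxU hxx
    have hxi : x⁻¹ = x := inv_eq_of_mul_eq_one_right hxx
    obtain ⟨u, hu, hxu⟩ := hxk x hx hxU
    obtain ⟨w, hw, hwk⟩ := hsurj u hu
    refine ⟨w, hw, S.mul_mem (S.mul_mem (S.inv_mem (h.US hw)) hx) (h.US hw), ?_, ?_, ?_⟩
    · intro h'
      apply hxU
      have : x = w * (w⁻¹ * x * w) * w⁻¹ := by group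
      rw [this]; exact U.mul_mem (U.mul_mem hw h') (U.inv_mem hw)
    · have : w⁻¹ * x * w * (w⁻¹ * x * w) = w⁻¹ * (x * x) * w := by group
      rw [this, hxx]; group
    · -- `m = u k = x k x⁻¹ k⁻¹`
      have hm : w * k * w⁻¹ = x * k * x⁻¹ * k⁻¹ := by
        rw [hwk, hxu, mul_assoc u, hkk]
      have h1 : x * (w * k * w⁻¹) * x⁻¹ = (w * k * w⁻¹)⁻¹ := by
        rw [hm]
        have e1 : x * (x * k * x⁻¹ * k⁻¹) * x⁻¹ = (x * x) * k * x⁻¹ * k⁻¹ * x⁻¹ := by group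
        have e2 : (x * k * x⁻¹ * k⁻¹)⁻¹ = k * x * k⁻¹ * x⁻¹ := by group
        rw [e1, e2, hxx, one_mul, hxi]
      have h2 : (w⁻¹ * x * w) * k = w⁻¹ * (x * (w * k * w⁻¹) * x⁻¹) * x * w := by group
      rw [h2, h1]
      group
  intro x hx hxU hxx y hy hyU hyy
  obtain ⟨w, hw, hw1, hw2, hw3, hw4⟩ := hinv x hx hxU hxx
  obtain ⟨v, hv, hv1, hv2, hv3, hv4⟩ := hinv y hy hyU hyy
  set x' := w⁻¹ * x * w with hx'
  set y' := v⁻¹ * y * v with hy'
  have h1 : x' * y' = 1 := by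
    apply hfp _ (hUS x' hw1 hw2 y' hv1 hv2)
    have hk1 : x' * k⁻¹ = k * x' := by
      calc x' * k⁻¹ = k * (k⁻¹ * x') * k⁻¹ := by group
        _ = k * (x' * k) * k⁻¹ := by rw [hw4]
        _ = k * x' := by group
    rw [mul_assoc, hv4, ← mul_assoc, hk1, mul_assoc]
  have h2 : x' = y' := by
    rw [← mul_one x', ← hv3, ← mul_assoc, h1, one_mul]
  refine ⟨v * w⁻¹, h.US (U.mul_mem hv (U.inv_mem hw)), ?_⟩
  have h3 : v * w⁻¹ * x * (v * w⁻¹)⁻¹ = v * x' * v⁻¹ := by rw [hx']; group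
  rw [h3, h2, hy']
  group

/-- four elements: one orbit -/
theorem orbit4 {k : G} (hk : orderOf k = 3) {C : Subgroup G} (hC : ∀ x ∈ C, k * x * k⁻¹ ∈ C)
    (hC' : ∀ x ∈ C, k⁻¹ * x * k ∈ C)
    (hf : ∀ x ∈ C, x * k = k * x → x = 1) (h4 : Nat.card C = 4) {z : G} (hz : z ∈ C) (hz1 : z ≠ 1) :
    ∀ x ∈ C, x = 1 ∨ x = z ∨ x = k * z * k⁻¹ ∨ x = k⁻¹ * z * k := by
  classical
  have hk3' : k * k * k = 1 := by
    have := pow_orderOf_eq_one k
    rw [hk] at this
    rw [← this]; simp only [pow_succ, pow_zero, one_mul]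
  have hki : k⁻¹ = k * k := by
    rw [inv_eq_iff_mul_eq_one, ← mul_assoc]; exact hk3'
  have e1 : k * z * k⁻¹ ≠ z := fun h => hz1 (hf z hz (mul_inv_eq_iff_eq_mul.1 h).symm)
  have e2 : k⁻¹ * z * k ≠ z := by
    intro h
    apply hz1
    apply hf z hz
    calc z * k = k * (k⁻¹ * z * k) := by group
      _ = k * z := by rw [h]
  have e3 : k⁻¹ * z * k ≠ k * z * k⁻¹ := by
    intro h
    apply e1
    have h1 : k * (k⁻¹ * z * k) * k⁻¹ = k * (k * z * k⁻¹) * k⁻¹ := by rw [h]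
    have h2 : k * (k⁻¹ * z * k) * k⁻¹ = z := by group
    have h3 : k * (k * z * k⁻¹) * k⁻¹ = k⁻¹ * z * k := by
      have : k * (k * z * k⁻¹) * k⁻¹ = (k * k) * z * (k * k)⁻¹ := by group
      rw [this, ← hki, inv_inv]
    rw [← h, ← h3, ← h1, h2]
  have f1 : k * z * k⁻¹ ≠ 1 := by
    intro h
    apply hz1
    have : z = k⁻¹ * (k * z * k⁻¹) * k := by group
    rw [this, h]; group
  have f2 : k⁻¹ * z * k ≠ 1 := by
    intro h
    apply hz1
    have : z = k * (k⁻¹ * z * k) * k⁻¹ := by group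
    rw [this, h]; group
  haveI : Fintype C := Fintype.ofFinite _
  intro x hx
  by_contra hcon
  push Not at hcon
  obtain ⟨g1, g2, g3, g4⟩ := hcon
  have h5 : ({1, ⟨z, hz⟩, ⟨_, hC z hz⟩, ⟨_, hC' z hz⟩, ⟨x, hx⟩} : Finset C).card = 5 := by
    rw [Finset.card_insert_of_notMem, Finset.card_insert_of_notMem, Finset.card_insert_of_notMem,
      Finset.card_insert_of_notMem, Finset.card_singleton]
    · simp only [Finset.mem_singleton, Subtype.mk.injEq]; exact fun h => g4 h.symm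
    · simp only [Finset.mem_insert, Finset.mem_singleton, Subtype.mk.injEq, not_or]
      exact ⟨fun h => e3 h.symm, fun h => g3 h.symm⟩
    · simp only [Finset.mem_insert, Finset.mem_singleton, Subtype.mk.injEq, not_or]
      exact ⟨fun h => e1 h.symm, fun h => e2 h.symm, fun h => g2 h.symm⟩
    · simp only [Finset.mem_insert, Finset.mem_singleton, not_or, Subtype.ext_iff, Subgroup.coe_one]
      exact ⟨fun h => hz1 h.symm, fun h => f1 h.symm, fun h => f2 h.symm, fun h => g1 h.symm⟩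
  have h6 := Finset.card_le_univ ({1, ⟨z, hz⟩, ⟨_, hC z hz⟩, ⟨_, hC' z hz⟩, ⟨x, hx⟩} : Finset C)
  rw [h5, ← Nat.card_eq_fintype_card, h4] at h6
  omega

theorem four {k : G} (hk : orderOf k = 3) {C : Subgroup G} (hC : ∀ x ∈ C, k * x * k⁻¹ ∈ C)
    (hC' : ∀ x ∈ C, k⁻¹ * x * k ∈ C)
    (hf : ∀ x ∈ C, x * k = k * x → x = 1) (h4 : Nat.card C = 4) : ∀ x ∈ C, x * x = 1 := by
  intro x hx
  by_contra hne
  have h1 : (x * x) * (x * x) = 1 := by
    have h2 : (⟨x, hx⟩ : C) ^ Nat.card C = 1 := pow_card_eq_one'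
    rw [h4] at h2
    have h3 : x ^ 4 = 1 := congrArg Subtype.val h2
    rw [← h3]; simp only [pow_succ, pow_zero, one_mul, mul_assoc]
  apply hne
  rcases orbit4 hk hC hC' hf h4 (C.mul_mem hx hx) hne x hx with h | h | h | h
  · rw [h, mul_one]
  · rw [h]; exact h1
  · have : k * (x * x) * k⁻¹ * (k * (x * x) * k⁻¹) = k * ((x * x) * (x * x)) * k⁻¹ := by group
    rw [h]
    rw [h1] at this
    rw [this]; group
  · have : k⁻¹ * (x * x) * k * (k⁻¹ * (x * x) * k) = k⁻¹ * ((x * x) * (x * x)) * k := by group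
    rw [h]
    rw [h1] at this
    rw [this]; group

theorem ex_cent {p : ℕ} [Fact p.Prime] {U T : Subgroup G} (hU : IsPGroup p U) (hT : T ≤ U) (hT1 : T ≠ ⊥)
    (hn : ∀ u ∈ U, ∀ t ∈ T, u * t * u⁻¹ ∈ T) : ∃ t ∈ T, t ≠ 1 ∧ ∀ u ∈ U, u * t = t * u := by
  have hfT : Finite T := Finite.of_injective _ (Subgroup.inclusion_injective hT)
  let _ : MulAction U T :=
    { smul := fun u t => ⟨u * t * (u : G)⁻¹, hn u u.2 t t.2⟩
      one_smul := fun t => Subtype.ext (by show (1 : G) * t * (1 : G)⁻¹ = t; group)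
      mul_smul := fun u v t => Subtype.ext (by
        show ((u : G) * v) * t * ((u : G) * v)⁻¹ = u * (v * t * (v : G)⁻¹) * (u : G)⁻¹; group) }
  have hTp : IsPGroup p T := hU.to_le hT
  have hdvd : p ∣ Nat.card T := by
    obtain ⟨k, hk⟩ := IsPGroup.iff_card.mp hTp
    rw [hk]
    apply dvd_pow_self
    rintro rfl
    rw [pow_zero] at hk
    exact hT1 (Subgroup.eq_bot_of_card_eq T hk)
  have h1 : (1 : T) ∈ MulAction.fixedPoints U T := by
    intro u
    apply Subtype.ext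
    show (u : G) * 1 * (u : G)⁻¹ = 1
    group
  obtain ⟨t, ht, ht1⟩ := hU.exists_fixed_point_of_prime_dvd_card_of_fixed_point T hdvd h1
  refine ⟨t, t.2, fun h => ht1 (Subtype.ext h.symm), fun u hu => ?_⟩
  have h2 := congrArg (Subtype.val : T → G) (ht ⟨u, hu⟩)
  have h3 : u * t * u⁻¹ = t := h2
  calc u * t = u * t * u⁻¹ * u := by group
    _ = t * u := by rw [h3]

/-- a normal subgroup of order four is central -/
theorem cent4 {k : G} (hk : orderOf k = 3) {K C : Subgroup G} (hK2 : IsPGroup 2 K)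
    (hCK : C ≤ K) (hK : ∀ x ∈ K, k * x * k⁻¹ ∈ K) (hK' : ∀ x ∈ K, k⁻¹ * x * k ∈ K)
    (hC : ∀ x ∈ C, k * x * k⁻¹ ∈ C) (hC' : ∀ x ∈ C, k⁻¹ * x * k ∈ C)
    (hn : ∀ u ∈ K, ∀ t ∈ C, u * t * u⁻¹ ∈ C)
    (hf : ∀ x ∈ C, x * k = k * x → x = 1) (h4 : Nat.card C = 4) : ∀ x ∈ C, ∀ y ∈ K, y * x = x * y := by
  haveI : Fact (Nat.Prime 2) := ⟨Nat.prime_two⟩
  have hC1 : C ≠ ⊥ := by
    rintro rfl
    rw [Subgroup.card_bot] at h4
    omega
  obtain ⟨z, hz, hz1, hzc⟩ := ex_cent hK2 hCK hC1 hn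
  intro x hx y hy
  rcases orbit4 hk hC hC' hf h4 hz hz1 x hx with h | h | h | h
  · rw [h, mul_one, one_mul]
  · rw [h]; exact hzc y hy
  · rw [h]
    have h1 := hzc _ (hK' y hy)
    calc y * (k * z * k⁻¹) = k * ((k⁻¹ * y * k) * z) * k⁻¹ := by group
      _ = k * (z * (k⁻¹ * y * k)) * k⁻¹ := by rw [h1]
      _ = k * z * k⁻¹ * y := by group
  · rw [h]
    have h1 := hzc _ (hK y hy)
    calc y * (k⁻¹ * z * k) = k⁻¹ * ((k * y * k⁻¹) * z) * k := by group
      _ = k⁻¹ * (z * (k * y * k⁻¹)) * k := by rw [h1]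
      _ = k⁻¹ * z * k * y := by group

theorem card_rel {H K : Subgroup G} (h : H ≤ K) : Nat.card H * H.relIndex K = Nat.card K := by
  have := Subgroup.relIndex_mul_relIndex ⊥ H K bot_le h
  rwa [Subgroup.relIndex_bot_left, Subgroup.relIndex_bot_left] at this

/-- the core -/
theorem core {S H U : Subgroup G} {k : G} (hS : IsPGroup 2 S) (d : Sd S H U k) {K E : Subgroup G} (hKU : K ≤ U)
    (hK : ∀ g ∈ H, ∀ x ∈ K, g * x * g⁻¹ ∈ K) (hE : E ≤ K) (hES : ∀ s ∈ S, ∀ x ∈ E, s * x * s⁻¹ ∈ E)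
    (hc : Nat.card K = 2 * Nat.card E) :
    ∃ C : Subgroup G, C ≤ E ∧ (∀ g ∈ H, ∀ x ∈ C, g * x * g⁻¹ ∈ C) ∧ Nat.card E = 2 * Nat.card C ∧
      ∀ x ∈ E, x ∉ C → k * x * k⁻¹ ∉ E ∧ k⁻¹ * x * k ∉ E := by
  have hk3' : k * k * k = 1 := by
    have := pow_orderOf_eq_one k
    rw [d.k3] at this
    rw [← this]; simp only [pow_succ, pow_zero, one_mul]
  have hki : k⁻¹ = k * k := by
    rw [inv_eq_iff_mul_eq_one, ← mul_assoc]; exact hk3'
  have hkk : ∀ x : G, k * (k * x * k⁻¹) * k⁻¹ = k⁻¹ * x * k := by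
    intro x
    have : k * (k * x * k⁻¹) * k⁻¹ = (k * k) * x * (k * k)⁻¹ := by group
    rw [this, ← hki, inv_inv]
  have hkk' : ∀ x : G, k⁻¹ * (k⁻¹ * x * k) * k = k * x * k⁻¹ := by
    intro x
    rw [← hkk x]; group
  have hKk : ∀ x ∈ K, k * x * k⁻¹ ∈ K := fun x hx => hK k d.kH x hx
  have hKki : ∀ x ∈ K, k⁻¹ * x * k ∈ K := fun x hx => by
    have := hK k⁻¹ (H.inv_mem d.kH) x hx
    rwa [inv_inv] at this
  let A1 : Subgroup G := E.comap (MulAut.conj k⁻¹).toMonoidHom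
  let A2 : Subgroup G := E.comap (MulAut.conj k).toMonoidHom
  have m1 : ∀ x, x ∈ A1 ↔ k⁻¹ * x * k ∈ E := by
    intro x
    show (MulAut.conj k⁻¹) x ∈ E ↔ _
    rw [MulAut.conj_apply, inv_inv]
  have m2 : ∀ x, x ∈ A2 ↔ k * x * k⁻¹ ∈ E := fun x => Iff.rfl
  have c1 : Nat.card A1 = Nat.card E := by
    refine Nat.card_congr
      { toFun := fun x => ⟨k⁻¹ * x * k, (m1 _).1 x.2⟩
        invFun := fun x => ⟨k * x * k⁻¹, (m1 _).2 (by
          have : k⁻¹ * (k * (x : G) * k⁻¹) * k = x := by group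
          rw [this]; exact x.2)⟩
        left_inv := fun x => by apply Subtype.ext; simp only; group
        right_inv := fun x => by apply Subtype.ext; simp only; group }
  have c2 : Nat.card A2 = Nat.card E := by
    refine Nat.card_congr
      { toFun := fun x => ⟨k * x * k⁻¹, (m2 _).1 x.2⟩
        invFun := fun x => ⟨k⁻¹ * x * k, (m2 _).2 (by
          have : k * (k⁻¹ * (x : G) * k) * k⁻¹ = x := by group
          rw [this]; exact x.2)⟩
        left_inv := fun x => by apply Subtype.ext; simp only; group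
        right_inv := fun x => by apply Subtype.ext; simp only; group }
  have A1K : A1 ≤ K := by
    intro x hx
    have h1 := hKk _ (hE ((m1 x).1 hx))
    have : k * (k⁻¹ * x * k) * k⁻¹ = x := by group
    rwa [this] at h1
  have A2K : A2 ≤ K := by
    intro x hx
    have h1 := hKki _ (hE ((m2 x).1 hx))
    have : k⁻¹ * (k * x * k⁻¹) * k = x := by group
    rwa [this] at h1
  have hEpos : 0 < Nat.card E := Nat.card_pos
  have r0 : E.relIndex K = 2 := by
    have := card_rel hE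
    exact Nat.eq_of_mul_eq_mul_left hEpos (by rw [this, hc]; ring)
  have r1 : A1.relIndex K = 2 := by
    have := card_rel A1K
    rw [c1] at this
    exact Nat.eq_of_mul_eq_mul_left hEpos (by rw [this, hc]; ring)
  have r2 : A2.relIndex K = 2 := by
    have := card_rel A2K
    rw [c2] at this
    exact Nat.eq_of_mul_eq_mul_left hEpos (by rw [this, hc]; ring)
  set C : Subgroup G := E ⊓ A1 ⊓ A2 with hC
  have mC : ∀ x, x ∈ C ↔ x ∈ E ∧ k⁻¹ * x * k ∈ E ∧ k * x * k⁻¹ ∈ E := by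
    intro x
    rw [hC, Subgroup.mem_inf, Subgroup.mem_inf, m1, m2, and_assoc]
  have hCE : C ≤ E := fun x hx => ((mC x).1 hx).1
  have hCk : ∀ x ∈ C, k * x * k⁻¹ ∈ C := by
    intro x hx
    obtain ⟨h1, h2, h3⟩ := (mC x).1 hx
    refine (mC _).2 ⟨h3, ?_, ?_⟩
    · have : k⁻¹ * (k * x * k⁻¹) * k = x := by group
      rwa [this]
    · rwa [hkk]
  have hCki : ∀ x ∈ C, k⁻¹ * x * k ∈ C := by
    intro x hx
    have := hCk _ (hCk x hx)
    rwa [hkk] at this
  have hfU : ∀ x ∈ U, x * k = k * x → x = 1 := d.fp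
  have hCU : C ≤ U := hCE.trans (hE.trans hKU)
  have mod1 : Nat.card C % 3 = 1 := card_mod d.k3 hCk (fun x hx => hfU x (hCU hx))
  have mod2 : Nat.card K % 3 = 1 := card_mod d.k3 hKk (fun x hx => hfU x (hKU hx))
  have hKp : IsPGroup 2 K := hS.to_le (hKU.trans d.US)
  haveI : Fact (Nat.Prime 2) := ⟨Nat.prime_two⟩
  obtain ⟨n, hn⟩ := IsPGroup.iff_card.1 hKp
  have hCr := card_rel (hCE.trans hE)
  have hle8 : C.relIndex K ≤ 8 := by
    have h1 : (E ⊓ A1).relIndex K ≤ E.relIndex K * A1.relIndex K := Subgroup.relIndex_inf_le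
    have h2 : (E ⊓ A1 ⊓ A2).relIndex K ≤ (E ⊓ A1).relIndex K * A2.relIndex K := Subgroup.relIndex_inf_le
    rw [r0, r1] at h1
    rw [r2] at h2
    rw [hC]
    omega
  have hr4 : C.relIndex K = 4 := by
    have h1 : C.relIndex K ∣ 2 ^ n := by rw [← hn, ← hCr]; exact dvd_mul_left _ _
    obtain ⟨m, hm, hm'⟩ := (Nat.dvd_prime_pow Nat.prime_two).1 h1
    have h2 : Nat.card C ≤ Nat.card E := Subgroup.card_le_of_le hCE
    rw [hm'] at hle8 hCr ⊢
    have hm3 : m ≤ 3 := by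
      by_contra hcon
      have : 2 ^ 4 ≤ 2 ^ m := Nat.pow_le_pow_right (by norm_num) (by omega)
      omega
    interval_cases m
    · omega
    · omega
    · norm_num
    · omega
  have hEC : Nat.card E = 2 * Nat.card C := by
    rw [hr4] at hCr
    omega
  -- pairwise intersections
  have hkE : ¬ ∀ x ∈ E, k * x * k⁻¹ ∈ E := by
    intro h1
    have := card_mod d.k3 h1 (fun x hx => hfU x (hKU (hE hx)))
    omega
  have p1 : E ⊓ A1 = C := by
    symm
    apply Subgroup.eq_of_le_of_card_ge (by rw [hC]; exact inf_le_left)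
    have h1 := card_rel (inf_le_left : E ⊓ A1 ≤ E)
    have h2 : (E ⊓ A1).relIndex E ≠ 1 := by
      intro h3
      rw [Subgroup.relIndex_eq_one] at h3
      apply hkE
      intro x hx
      have h4 := (m1 _).1 (h3 hx).2
      have h5 := (m1 _).1 (h3 h4).2
      rwa [hkk'] at h5
    have h3 : (E ⊓ A1).relIndex E ≠ 0 := by
      intro h; rw [h, mul_zero] at h1; omega
    have h4 : 2 ≤ (E ⊓ A1).relIndex E := by omega
    have h5 : Nat.card (E ⊓ A1 : Subgroup G) * 2 ≤ Nat.card E := by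
      rw [← h1]; exact Nat.mul_le_mul_left _ h4
    omega
  have p2 : E ⊓ A2 = C := by
    symm
    apply Subgroup.eq_of_le_of_card_ge (le_inf hCE (by rw [hC]; exact inf_le_right))
    have h1 := card_rel (inf_le_left : E ⊓ A2 ≤ E)
    have h2 : (E ⊓ A2).relIndex E ≠ 1 := by
      intro h3
      rw [Subgroup.relIndex_eq_one] at h3
      apply hkE
      intro x hx
      exact (m2 _).1 (h3 hx).2
    have h3 : (E ⊓ A2).relIndex E ≠ 0 := by
      intro h; rw [h, mul_zero] at h1; omega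
    have h4 : 2 ≤ (E ⊓ A2).relIndex E := by omega
    have h5 : Nat.card (E ⊓ A2 : Subgroup G) * 2 ≤ Nat.card E := by
      rw [← h1]; exact Nat.mul_le_mul_left _ h4
    omega
  refine ⟨C, hCE, ?_, hEC, ?_⟩
  · intro g hg x hx
    have hall : ∀ h ∈ H, h * x * h⁻¹ ∈ E := by
      intro h hh
      obtain ⟨h1, h2, h3⟩ := (mC x).1 hx
      obtain ⟨s, hs, rfl | rfl | rfl⟩ := d.dec h hh
      · exact hES _ hs _ h1
      · have : s * k * x * (s * k)⁻¹ = s * (k * x * k⁻¹) * s⁻¹ := by group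
        rw [this]; exact hES _ hs _ h3
      · have : s * k⁻¹ * x * (s * k⁻¹)⁻¹ = s * (k⁻¹ * x * k) * s⁻¹ := by group
        rw [this]; exact hES _ hs _ h2
    refine (mC _).2 ⟨hall g hg, ?_, ?_⟩
    · have h1 := hall (k⁻¹ * g) (H.mul_mem (H.inv_mem d.kH) hg)
      have : k⁻¹ * g * x * (k⁻¹ * g)⁻¹ = k⁻¹ * (g * x * g⁻¹) * k := by group
      rwa [this] at h1
    · have h1 := hall (k * g) (H.mul_mem d.kH hg)
      have : k * g * x * (k * g)⁻¹ = k * (g * x * g⁻¹) * k⁻¹ := by group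
      rwa [this] at h1
  · intro x hx hxC
    refine ⟨fun h => hxC ?_, fun h => hxC ?_⟩
    · rw [← p2]; exact ⟨hx, (m2 _).2 h⟩
    · rw [← p1]; exact ⟨hx, (m1 _).2 h⟩

/-- conjugacy of involutions goes down -/
theorem qstep {S H U : Subgroup G} {k : G} (d : Sd S H U k) {K E C : Subgroup G}
    (hK : ∀ g ∈ H, ∀ x ∈ K, g * x * g⁻¹ ∈ K) (hE : E ≤ K) (hES : ∀ s ∈ S, ∀ x ∈ E, s * x * s⁻¹ ∈ E)
    (hC : ∀ x ∈ E, x ∉ C → k * x * k⁻¹ ∉ E ∧ k⁻¹ * x * k ∉ E)
    (hQ : ∀ x ∈ K, x ∉ E → x * x = 1 → ∀ y ∈ K, y ∉ E → y * y = 1 → ∃ g ∈ S, g * x * g⁻¹ = y) :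
    ∀ x ∈ E, x ∉ C → x * x = 1 → ∀ y ∈ E, y ∉ C → y * y = 1 → ∃ g ∈ S, g * x * g⁻¹ = y := by
  intro x hx hxC hxx y hy hyC hyy
  have sq : ∀ z : G, z * z = 1 → (k * z * k⁻¹) * (k * z * k⁻¹) = 1 := by
    intro z hz
    have : (k * z * k⁻¹) * (k * z * k⁻¹) = k * (z * z) * k⁻¹ := by group
    rw [this, hz]; group
  obtain ⟨g, hg, hgx⟩ := hQ _ (hK k d.kH x (hE hx)) (hC x hx hxC).1 (sq x hxx) _ (hK k d.kH y (hE hy)) (hC y hy hyC).1
    (sq y hyy)
  have hh : k⁻¹ * g * k ∈ H := H.mul_mem (H.mul_mem (H.inv_mem d.kH) (d.SH hg)) d.kH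
  have hy2 : (k⁻¹ * g * k) * x * (k⁻¹ * g * k)⁻¹ = y := by
    have : (k⁻¹ * g * k) * x * (k⁻¹ * g * k)⁻¹ = k⁻¹ * (g * (k * x * k⁻¹) * g⁻¹) * k := by group
    rw [this, hgx]; group
  obtain ⟨s, hs, h1 | h1 | h1⟩ := d.dec _ hh
  · exact ⟨s, hs, by rw [← h1]; exact hy2⟩
  · exfalso
    apply (hC x hx hxC).1
    rw [h1] at hy2
    have : k * x * k⁻¹ = s⁻¹ * y * s⁻¹⁻¹ := by rw [← hy2]; group
    rw [this]; exact hES _ (S.inv_mem hs) _ hy
  · exfalso
    apply (hC x hx hxC).2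
    rw [h1] at hy2
    have : k⁻¹ * x * k = s⁻¹ * y * s⁻¹⁻¹ := by rw [← hy2]; group
    rw [this]; exact hES _ (S.inv_mem hs) _ hy

theorem main {S H₁ H₂ U₁ U₂ : Subgroup G} {k₁ k₂ : G} (hS : IsPGroup 2 S) (d1 : Sd S H₁ U₁ k₁) (d2 : Sd S H₂ U₂ k₂)
    (hNC : ∀ T : Subgroup G, T ≠ ⊥ → T ≤ S → (∀ g ∈ H₁, ∀ t ∈ T, g * t * g⁻¹ ∈ T) →
      (∀ g ∈ H₂, ∀ t ∈ T, g * t * g⁻¹ ∈ T) → False) :
    ∀ n : ℕ, ∀ E K₁ K₂ : Subgroup G, Nat.card K₁ = n → 16 ≤ n → K₁ ≤ U₁ → K₂ ≤ U₂ → K₁ ≤ E → K₂ ≤ E →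
      Nat.card E = 2 * Nat.card K₁ → Nat.card E = 2 * Nat.card K₂ →
      (∀ g ∈ H₁, ∀ x ∈ K₁, g * x * g⁻¹ ∈ K₁) → (∀ g ∈ H₂, ∀ x ∈ K₂, g * x * g⁻¹ ∈ K₂) →
      (∀ x ∈ E, x ∉ K₁ → x * x = 1 → ∀ y ∈ E, y ∉ K₁ → y * y = 1 → ∃ g ∈ S, g * x * g⁻¹ = y) →
      (∀ x ∈ E, x ∉ K₂ → x * x = 1 → ∀ y ∈ E, y ∉ K₂ → y * y = 1 → ∃ g ∈ S, g * x * g⁻¹ = y) → False := by
  intro n
  induction n using Nat.strong_induction_on with
  | _ n ih =>
  intro E K₁ K₂ hn h16 h1U h2U h1E h2E c1 c2 n1 n2 q1 q2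
  haveI : Fact (Nat.Prime 2) := ⟨Nat.prime_two⟩
  have hK12 : K₁ ≠ K₂ := by
    intro h
    refine hNC K₁ ?_ (h1U.trans d1.US) n1 (by rw [h]; exact n2)
    rintro rfl
    rw [Subgroup.card_bot] at hn
    omega
  set D := K₁ ⊓ K₂ with hD
  have hcD : Nat.card K₁ = 2 * Nat.card D := by
    have h1 : D.relIndex E ≤ 4 := by
      have h2 : (K₁ ⊓ K₂).relIndex E ≤ K₁.relIndex E * K₂.relIndex E := Subgroup.relIndex_inf_le
      have h3 : K₁.relIndex E = 2 := by
        have := card_rel h1E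
        exact Nat.eq_of_mul_eq_mul_left (Nat.card_pos (α := K₁)) (by rw [this, c1]; ring)
      have h4 : K₂.relIndex E = 2 := by
        have := card_rel h2E
        exact Nat.eq_of_mul_eq_mul_left (Nat.card_pos (α := K₂)) (by rw [this, c2]; ring)
      rw [h3, h4] at h2
      exact h2
    have h5 := card_rel (inf_le_left.trans h1E : D ≤ E)
    have h6 := card_rel (inf_le_left : D ≤ K₁)
    have h7 : D.relIndex K₁ ≠ 1 := by
      intro h8
      rw [Subgroup.relIndex_eq_one] at h8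
      apply hK12
      apply Subgroup.eq_of_le_of_card_ge (h8.trans inf_le_right)
      omega
    have h9 : D.relIndex K₁ ≠ 0 := by
      intro h; rw [h, mul_zero] at h6; omega
    have h10 : 2 ≤ D.relIndex K₁ := by omega
    have h11 : Nat.card D * 2 ≤ Nat.card K₁ := by rw [← h6]; exact Nat.mul_le_mul_left _ h10
    have h12 : Nat.card E ≤ Nat.card D * 4 := by rw [← h5]; exact Nat.mul_le_mul_left _ h1
    omega
  have hcD2 : Nat.card K₂ = 2 * Nat.card D := by omega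
  have hDS : ∀ s ∈ S, ∀ x ∈ D, s * x * s⁻¹ ∈ D := fun s hs x hx =>
    ⟨n1 s (d1.SH hs) x hx.1, n2 s (d2.SH hs) x hx.2⟩
  obtain ⟨C₁, hC1D, hC1n, hC1c, hC1k⟩ := core hS d1 h1U n1 inf_le_left hDS hcD
  obtain ⟨C₂, hC2D, hC2n, hC2c, hC2k⟩ := core hS d2 h2U n2 inf_le_right hDS hcD2
  have q1' := qstep d1 n1 (inf_le_left : D ≤ K₁) hDS hC1k (fun x hx hxD hxx y hy hyD hyy =>
    q2 x (h1E hx) (fun h => hxD ⟨hx, h⟩) hxx y (h1E hy) (fun h => hyD ⟨hy, h⟩) hyy)
  have q2' := qstep d2 n2 (inf_le_right : D ≤ K₂) hDS hC2k (fun x hx hxD hxx y hy hyD hyy =>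
    q1 x (h2E hx) (fun h => hxD ⟨h, hx⟩) hxx y (h2E hy) (fun h => hyD ⟨h, hy⟩) hyy)
  have hC1c' : Nat.card D = 2 * Nat.card C₁ := hC1c
  have hC2c' : Nat.card D = 2 * Nat.card C₂ := hC2c
  have hC1U : C₁ ≤ U₁ := hC1D.trans (inf_le_left.trans h1U)
  have hC2U : C₂ ≤ U₂ := hC2D.trans (inf_le_right.trans h2U)
  rcases Nat.lt_or_ge (Nat.card C₁) 16 with hlt | hge
  · -- `|K₁| = 16`
    have k1i : ∀ x ∈ C₁, k₁ * x * k₁⁻¹ ∈ C₁ := fun x hx => hC1n _ d1.kH x hx
    have k2i : ∀ x ∈ C₂, k₂ * x * k₂⁻¹ ∈ C₂ := fun x hx => hC2n _ d2.kH x hx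
    have k1i' : ∀ x ∈ C₁, k₁⁻¹ * x * k₁ ∈ C₁ := fun x hx => by
      have := hC1n _ (H₁.inv_mem d1.kH) x hx
      rwa [inv_inv] at this
    have k2i' : ∀ x ∈ C₂, k₂⁻¹ * x * k₂ ∈ C₂ := fun x hx => by
      have := hC2n _ (H₂.inv_mem d2.kH) x hx
      rwa [inv_inv] at this
    have f1 : ∀ x ∈ C₁, x * k₁ = k₁ * x → x = 1 := fun x hx => d1.fp x (hC1U hx)
    have f2 : ∀ x ∈ C₂, x * k₂ = k₂ * x → x = 1 := fun x hx => d2.fp x (hC2U hx)
    have hmod := card_mod d1.k3 k1i f1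
    have h4 : Nat.card C₁ = 4 := by
      obtain ⟨m, hm⟩ := IsPGroup.iff_card.1 (hS.to_le (hC1U.trans d1.US))
      rw [hm] at hmod hlt hC1c' ⊢
      have hm3 : m < 4 := by
        by_contra hcon
        have : 2 ^ 4 ≤ 2 ^ m := Nat.pow_le_pow_right (by norm_num) (by omega)
        omega
      interval_cases m
      · omega
      · omega
      · norm_num
      · omega
    have h4' : Nat.card C₂ = 4 := by omega
    have hC12 : C₁ ≠ C₂ := by
      intro h
      refine hNC C₁ ?_ (hC1U.trans d1.US) hC1n (by rw [h]; exact hC2n)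
      rintro rfl
      rw [Subgroup.card_bot] at h4
      omega
    obtain ⟨x, hx1, hx2⟩ : ∃ x ∈ C₁, x ∉ C₂ := by
      by_contra hcon
      push Not at hcon
      exact hC12 (Subgroup.eq_of_le_of_card_ge hcon (by omega))
    obtain ⟨y, hy2, hy1⟩ : ∃ y ∈ C₂, y ∉ C₁ := by
      by_contra hcon
      push Not at hcon
      exact hC12 (Subgroup.eq_of_le_of_card_ge hcon (by omega)).symm
    have hxx := four d1.k3 k1i k1i' f1 h4 x hx1
    have hyy := four d2.k3 k2i k2i' f2 h4' y hy2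
    have hxy : x * y = y * x := by
      refine cent4 d2.k3 (hS.to_le (h2U.trans d2.US)) (hC2D.trans inf_le_right) (fun x hx => n2 _ d2.kH x hx)
        (fun x hx => ?_) k2i k2i' (fun u hu t ht => hC2n u (d2.SH (d2.US (h2U hu))) t ht) f2 h4' y hy2 x
        (hC1D hx1).2
      have := n2 _ (H₂.inv_mem d2.kH) x hx
      rwa [inv_inv] at this
    have hsq : (x * y) * (x * y) = 1 := by
      have : (x * y) * (x * y) = x * (y * x) * y := by group
      rw [this, ← hxy]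
      have : x * (x * y) * y = (x * x) * (y * y) := by group
      rw [this, hxx, hyy, one_mul]
    have hxyC : x * y ∉ C₂ := by
      intro h
      apply hx2
      have : x = x * y * y⁻¹ := by group
      rw [this]; exact C₂.mul_mem h (C₂.inv_mem hy2)
    obtain ⟨g, hg, hgx⟩ := q2' x (hC1D hx1) hx2 hxx (x * y) (D.mul_mem (hC1D hx1) (hC2D hy2)) hxyC hsq
    apply hy1
    have h5 : x * y ∈ C₁ := by
      rw [← hgx]; exact hC1n g (d1.SH hg) x hx1
    have : y = x⁻¹ * (x * y) := by group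
    rw [this]; exact C₁.mul_mem (C₁.inv_mem hx1) h5
  · exact ih (Nat.card C₁) (by omega) D C₁ C₂ rfl hge hC1U hC2U hC1D hC2D hC1c hC2c hC1n hC2n q1' q2'

/-- piece Gam: the S3-amalgam lemma -/
theorem Gam {S H₁ H₂ U₁ U₂ : Subgroup G} (hS : IsPGroup 2 S) (h1 : Side S H₁ U₁)
    (h2 : Side S H₂ U₂)
    (hNC : ∀ T : Subgroup G, T ≠ ⊥ → T ≤ S → (∀ g ∈ H₁, ∀ t ∈ T, g * t * g⁻¹ ∈ T) →
      (∀ g ∈ H₂, ∀ t ∈ T, g * t * g⁻¹ ∈ T) → False) : Nat.card S ≤ 8 := by
  obtain ⟨k₁, d1⟩ := side hS h1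
  obtain ⟨k₂, d2⟩ := side hS h2
  haveI : Fact (Nat.Prime 2) := ⟨Nat.prime_two⟩
  by_contra hcon
  rw [h1.cS] at hcon
  have hmod := card_mod d1.k3 (C := U₁) (fun x hx => d1.nor _ d1.kH x hx) d1.fp
  have h16 : 16 ≤ Nat.card U₁ := by
    obtain ⟨m, hm⟩ := IsPGroup.iff_card.1 (hS.to_le d1.US)
    rw [hm] at hmod hcon ⊢
    by_contra hlt
    have hm3 : m < 4 := by
      by_contra hcon'
      have : 2 ^ 4 ≤ 2 ^ m := Nat.pow_le_pow_right (by norm_num) (by omega)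
      omega
    interval_cases m <;> omega
  exact main hS d1 d2 hNC _ S U₁ U₂ rfl h16 le_rfl le_rfl d1.US d2.US h1.cS h2.cS d1.nor d2.nor d1.conj d2.conj

end
end Cfsg.Agent.Lib.H15SGam12
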