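import Cfsg.Agent.Lib.H15S0

/-! S2220, piece Gam (helper29): the S3-amalgam lemma, without coset graphs. -/

set_option autoImplicit false

namespace Cfsg.Agent.Lib.H15SGam29

open Subgroup Cfsg.Agent.Lib.H15S

variable {G : Type*} [Group G]

/-- one side, elementwise -/
structure Sd (S H U : Subgroup G) (k : G) : Prop where
  US : U ≤ S
  SH : S ≤ H
  nor : ∀ g ∈ H, ∀ u ∈ U, g * u * g⁻¹ ∈ U
  ix : ∀ s ∈ S, ∀ t ∈ S, s ∉ U → t ∉ U → s * t ∈ U
  ex : ∃ s ∈ S, s ∉ U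
  kH : k ∈ H
  k3 : k * k * k = 1
  fpf : ∀ u ∈ U, u * k = k * u → u = 1
  inv : ∀ s ∈ S, s ∉ U → s * k * s⁻¹ * k ∈ U

/-- `Ω₁(Z(U))` -/
def Vs (U : Subgroup G) : Subgroup G where
  carrier := {v | v ∈ U ∧ v * v = 1 ∧ ∀ u ∈ U, u * v = v * u}
  one_mem' := ⟨U.one_mem, by simp, by simp⟩
  mul_mem' := by
    rintro a b ⟨ha, ha2, hac⟩ ⟨hb, hb2, hbc⟩
    refine ⟨U.mul_mem ha hb, ?_, ?_⟩
    · calc a * b * (a * b) = a * (b * a) * b := by group
        _ = a * (a * b) * b := by rw [hac b hb]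
        _ = (a * a) * (b * b) := by group
        _ = 1 := by rw [ha2, hb2, one_mul]
    · intro u hu
      rw [← mul_assoc, hac u hu, mul_assoc, hbc u hu, mul_assoc]
  inv_mem' := by
    rintro a ⟨ha, ha2, hac⟩
    have : a⁻¹ = a := inv_eq_of_mul_eq_one_left ha2
    rw [this]
    exact ⟨ha, ha2, hac⟩

theorem mem_Vs {U : Subgroup G} {v : G} : v ∈ Vs U ↔ v ∈ U ∧ v * v = 1 ∧ ∀ u ∈ U, u * v = v * u := Iff.rfl

/-- the unique involution in the center of `S` -/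
structure Zp (S : Subgroup G) (z : G) : Prop where
  zS : z ∈ S
  z1 : z ≠ 1
  zz : z * z = 1
  zc : ∀ s ∈ S, s * z = z * s
  uni : ∀ y ∈ S, y * y = 1 → (∀ s ∈ S, s * y = y * s) → y = 1 ∨ y = z

section side
variable {S H U : Subgroup G} {k : G}

theorem Sd.vn (d : Sd S H U k) {g v : G} (hg : g ∈ H) (hv : v ∈ Vs U) : g * v * g⁻¹ ∈ Vs U := by
  obtain ⟨h1, h2, h3⟩ := mem_Vs.1 hv
  refine mem_Vs.2 ⟨d.nor g hg v h1, ?_, ?_⟩
  · calc g * v * g⁻¹ * (g * v * g⁻¹) = g * (v * v) * g⁻¹ := by group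
      _ = 1 := by rw [h2]; group
  · intro u hu
    have h4 := h3 _ (d.nor g⁻¹ (H.inv_mem hg) u hu)
    calc u * (g * v * g⁻¹) = g * (g⁻¹ * u * g⁻¹⁻¹ * v) * g⁻¹ := by group
      _ = g * (v * (g⁻¹ * u * g⁻¹⁻¹)) * g⁻¹ := by rw [h4]
      _ = g * v * g⁻¹ * u := by group

theorem Sd.kk (d : Sd S H U k) {x : G} (h : k * (k * x * k⁻¹) * k⁻¹ = x) : x * k = k * x := by
  have h1 : k * x * k⁻¹ = x := by
    calc k * x * k⁻¹ = k * (k * (k * x * k⁻¹) * k⁻¹) * k⁻¹ := by rw [h]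
      _ = (k * k * k) * x * (k * k * k)⁻¹ := by group
      _ = x := by rw [d.k3]; group
  rw [mul_inv_eq_iff_eq_mul] at h1
  exact h1.symm

theorem Sd.c1 (d : Sd S H U k) {s x : G} (hs : s ∈ S) (hsU : s ∉ U) (hx : x ∈ Vs U) (h1 : s * x = x * s)
    (h2 : s * (k * x * k⁻¹) = k * x * k⁻¹ * s) : x = 1 := by
  have h3 := d.inv s hs hsU
  obtain ⟨hxU, hx2, hxc⟩ := mem_Vs.1 hx
  have h4 := hxc _ h3
  apply d.fpf x hxU
  apply d.kk
  have h5 : s⁻¹ * x * s = x := by rw [mul_assoc, ← h1]; group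
  have h6 : s⁻¹ * (k * x * k⁻¹) * s = k * x * k⁻¹ := by rw [mul_assoc, ← h2]; group
  calc k * (k * x * k⁻¹) * k⁻¹ = k * (s⁻¹ * (k * x * k⁻¹) * s) * k⁻¹ := by rw [h6]
    _ = s⁻¹ * ((s * k * s⁻¹ * k) * x) * (s * k * s⁻¹ * k)⁻¹ * s := by group
    _ = s⁻¹ * (x * (s * k * s⁻¹ * k)) * (s * k * s⁻¹ * k)⁻¹ * s := by rw [h4]
    _ = s⁻¹ * x * s := by group
    _ = x := h5

theorem Sd.l2 (d : Sd S H U k) (hV : ∃ x ∈ Vs U, x ≠ 1) {s : G} (hs : s ∈ S) (h : ∀ x ∈ Vs U, s * x = x * s) : s ∈ U := by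
  by_contra hsU
  obtain ⟨x, hx, hx1⟩ := hV
  exact hx1 (d.c1 hs hsU hx (h x hx) (h _ (d.vn d.kH hx)))

theorem Sd.cent (d : Sd S H U k) {s x : G} (hs : s ∈ S) (hsU : s ∉ U) (hx : x ∈ Vs U) (h1 : s * x = x * s) :
    ∀ t ∈ S, t * x = x * t := by
  intro t ht
  obtain ⟨hxU, hx2, hxc⟩ := mem_Vs.1 hx
  by_cases htU : t ∈ U
  · exact hxc t htU
  · have h2 := hxc _ (d.ix t ht s⁻¹ (S.inv_mem hs) htU (fun h => hsU ((U.inv_mem_iff).1 h)))
    calc t * x = t * s⁻¹ * (s * x) := by group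
      _ = t * s⁻¹ * x * s := by rw [h1]; group
      _ = x * (t * s⁻¹) * s := by rw [h2]
      _ = x * t := by group

theorem Sd.zc (d : Sd S H U k) {z : G} (hz : Zp S z) {s x : G} (hs : s ∈ S) (hsU : s ∉ U) (hx : x ∈ Vs U)
    (h1 : s * x = x * s) : x = 1 ∨ x = z :=
  hz.uni x (d.US hx.1) hx.2.1 (d.cent hs hsU hx h1)

theorem Sd.zV (d : Sd S H U k) (hV : ∃ x ∈ Vs U, x ≠ 1) {z : G} (hz : Zp S z) : z ∈ Vs U :=
  ⟨d.l2 hV hz.zS (fun x hx => (hz.zc x (d.US hx.1)).symm), hz.zz, fun u hu => hz.zc u (d.US hu)⟩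

theorem Sd.moves (d : Sd S H U k) {z y s : G} (hz : Zp S z) (hs : s ∈ S) (hsU : s ∉ U) (hy : y ∈ Vs U)
    (h1 : y ≠ 1) (h2 : y ≠ z) : s * y = y * z * s := by
  obtain ⟨hyU, hy2, hyc⟩ := mem_Vs.1 hy
  have h3 : s * y * s⁻¹ ∈ Vs U := d.vn (d.SH hs) hy
  have hss : s * s * y = y * (s * s) := hyc _ (d.ix s hs s hs hsU hsU)
  have h4 : s * (y * (s * y * s⁻¹)) = y * (s * y * s⁻¹) * s := by
    have h5 : y * (s * y * s⁻¹) = s * y * s⁻¹ * y := h3.2.2 y hyU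
    calc s * (y * (s * y * s⁻¹)) = (s * y * s⁻¹) * (s * s * y) * s⁻¹ := by group
      _ = (s * y * s⁻¹) * (y * (s * s)) * s⁻¹ := by rw [hss]
      _ = (s * y * s⁻¹ * y) * s := by group
      _ = _ := by rw [h5]
  rcases d.zc hz hs hsU ((Vs U).mul_mem hy h3) h4 with h5 | h5
  · exfalso
    have h6 : s * y * s⁻¹ = y := by
      have : s * y * s⁻¹ = y⁻¹ := (eq_inv_of_mul_eq_one_right h5)
      rw [this]; exact inv_eq_of_mul_eq_one_left hy2
    have h7 : s * y = y * s := by rw [← mul_inv_eq_iff_eq_mul]; exact h6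
    rcases d.zc hz hs hsU hy h7 with h8 | h8
    · exact h1 h8
    · exact h2 h8
  · calc s * y = (y * y) * (s * y * s⁻¹) * s := by rw [hy2]; group
      _ = y * (y * (s * y * s⁻¹)) * s := by group
      _ = y * z * s := by rw [h5]

theorem Sd.qq (d : Sd S H U k) {z y y' : G} (hz : Zp S z) (hy : y ∈ Vs U)
    (h1 : y ≠ 1) (h2 : y ≠ z) (hy' : y' ∈ Vs U) : y' = 1 ∨ y' = z ∨ y' = y ∨ y' = z * y := by
  by_cases h1' : y' = 1
  · exact Or.inl h1'
  by_cases h2' : y' = z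
  · exact Or.inr (Or.inl h2')
  obtain ⟨s, hs, hsU⟩ := d.ex
  have e1 := d.moves hz hs hsU hy h1 h2
  have e2 := d.moves hz hs hsU hy' h1' h2'
  have hyS := d.US hy.1
  have hyS' := d.US hy'.1
  have e3 : s * (y * y') = y * y' * s := by
    calc s * (y * y') = (s * y) * y' := by group
      _ = y * z * (s * y') := by rw [e1]; group
      _ = y * z * (y' * z * s) := by rw [e2]
      _ = y * (z * y') * z * s := by group
      _ = y * (y' * z) * z * s := by rw [← hz.zc y' hyS']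
      _ = y * y' * (z * z) * s := by group
      _ = y * y' * s := by rw [hz.zz]; group
  have e4 : y * y = 1 := hy.2.1
  rcases d.zc hz hs hsU ((Vs U).mul_mem hy hy') e3 with h | h
  · right; right; left
    calc y' = (y * y) * y' := by rw [e4]; group
      _ = y * (y * y') := by group
      _ = y := by rw [h, mul_one]
  · right; right; right
    calc y' = (y * y) * y' := by rw [e4]; group
      _ = y * (y * y') := by group
      _ = y * z := by rw [h]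
      _ = z * y := hz.zc y hyS

theorem Sd.symm (d : Sd S H U k) : Sd S H U k⁻¹ where
  US := d.US
  SH := d.SH
  nor := d.nor
  ix := d.ix
  ex := d.ex
  kH := H.inv_mem d.kH
  k3 := by
    calc k⁻¹ * k⁻¹ * k⁻¹ = (k * k * k)⁻¹ := by group
      _ = 1 := by rw [d.k3, inv_one]
  fpf := by
    intro u hu h
    apply d.fpf u hu
    calc u * k = k * (k⁻¹ * u) * k := by group
      _ = k * (u * k⁻¹) * k := by rw [h]
      _ = k * u := by group
  inv := by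
    intro s hs hsU
    have h := d.nor k d.kH _ (U.inv_mem (d.inv s hs hsU))
    have e : k * (s * k * s⁻¹ * k)⁻¹ * k⁻¹ = s * k⁻¹ * s⁻¹ * k⁻¹ := by group
    rwa [e] at h

end side

/-- alternating products -/
inductive E (H : Bool → Subgroup G) (i : Bool) : Bool → ℕ → G → Prop
  | nil : E H i i 0 1
  | snoc {j : Bool} {m : ℕ} {g h : G} : E H i j m g → h ∈ H j → E H i (!j) (m + 1) (g * h)

theorem E.cons {H : Bool → Subgroup G} {i j : Bool} {m : ℕ} {g h : G} (hh : h ∈ H i) (e : E H (!i) j m g) :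
    E H i j (m + 1) (h * g) := by
  induction e with
  | nil =>
    have := (E.nil (H := H) (i := i)).snoc hh
    rwa [one_mul, ← mul_one h] at this
  | snoc e' hh' ih =>
    have := ih.snoc hh'
    rwa [mul_assoc] at this

theorem E.symm {H : Bool → Subgroup G} {i j : Bool} {m : ℕ} {g : G} (e : E H i j m g) : E H (!j) (!i) m g⁻¹ := by
  induction e with
  | nil => rw [inv_one]; exact E.nil
  | @snoc j m g h e' hh ih =>
    rw [mul_inv_rev, Bool.not_not]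
    exact E.cons ((H j).inv_mem hh) ih

def PP (H U : Bool → Subgroup G) (m : ℕ) : Prop :=
  ∀ i j g, E H i j m g → ∀ v ∈ Vs (U (!i)), g⁻¹ * v * g ∈ U j

section two
variable {S : Subgroup G} {H U : Bool → Subgroup G} {k : Bool → G}

theorem f1 (sd : ∀ i, Sd S (H i) (U i) (k i)) {m : ℕ} (hP : ∀ m' < m, PP H U m') {i j : Bool} {g : G} (e : E H i j m g) :
    ∀ x ∈ Vs (U (!i)), g⁻¹ * x * g ∈ S := by
  intro x hx
  cases e with
  | nil => rw [inv_one, one_mul, mul_one]; exact (sd _).US hx.1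
  | @snoc j' m' g' h e' hh =>
    have h1 := hP m' (Nat.lt_succ_self _) i j' g' e' x hx
    have h2 := (sd j').nor h⁻¹ ((H j').inv_mem hh) _ h1
    have h3 : (g' * h)⁻¹ * x * (g' * h) = h⁻¹ * (g'⁻¹ * x * g') * h⁻¹⁻¹ := by group
    rw [h3]
    exact (sd j').US h2

theorem crit (sd : ∀ i, Sd S (H i) (U i) (k i)) (hV : ∀ i, ∃ x ∈ Vs (U i), x ≠ 1) {m : ℕ} (hP : ∀ m' < m, PP H U m')
    {i j : Bool} {g : G} (e : E H i j m g) {x0 : G} (hx0 : x0 ∈ Vs (U (!i))) (hx0' : g⁻¹ * x0 * g ∉ U j) :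
    ∃ z, Zp S z ∧ g⁻¹ * z * g = z ∧ ∃ v0 ∈ Vs (U j), g * v0 * g⁻¹ ∈ S ∧ g * v0 * g⁻¹ ∉ U (!i) := by
  have F1 := f1 sd hP e
  have F2 : ∀ x ∈ Vs (U j), g * x * g⁻¹ ∈ S := by
    intro x hx
    have := f1 sd hP e.symm x (by rwa [Bool.not_not])
    rwa [_root_.inv_inv] at this
  obtain ⟨v0, hv0, hne⟩ : ∃ v0 ∈ Vs (U j), g⁻¹ * x0 * g * v0 ≠ v0 * (g⁻¹ * x0 * g) := by
    by_contra hno
    push Not at hno
    exact hx0' ((sd j).l2 (hV j) (F1 x0 hx0) hno)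
  obtain ⟨v, hv⟩ : ∃ v, v = g * v0 * g⁻¹ := ⟨_, rfl⟩
  have hvS : v ∈ S := hv ▸ F2 v0 hv0
  have comm : ∀ x : G, g⁻¹ * x * g * v0 = v0 * (g⁻¹ * x * g) ↔ v * x = x * v := by
    intro x
    rw [hv]
    constructor
    · intro h
      calc g * v0 * g⁻¹ * x = g * (v0 * (g⁻¹ * x * g)) * g⁻¹ := by group
        _ = g * (g⁻¹ * x * g * v0) * g⁻¹ := by rw [h]
        _ = x * (g * v0 * g⁻¹) := by group
    · intro h
      calc g⁻¹ * x * g * v0 = g⁻¹ * (x * (g * v0 * g⁻¹)) * g := by group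
        _ = g⁻¹ * (g * v0 * g⁻¹ * x) * g := by rw [h]
        _ = v0 * (g⁻¹ * x * g) := by group
  have hx0v : v * x0 ≠ x0 * v := fun h => hne ((comm x0).2 h)
  have hvU : v ∉ U (!i) := fun h => hx0v (hx0.2.2 v h)
  have inU : ∀ x, g⁻¹ * x * g ∈ U j → v * x = x * v := fun x hx => (comm x).1 (hv0.2.2 _ hx)
  have c2 : ∀ x ∈ Vs (U (!i)), ∀ y ∈ Vs (U (!i)), v * x ≠ x * v → v * y ≠ y * v → v * (x * y) = x * y * v := by
    intro x hx y hy h1 h2
    apply inU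
    have h3 := (sd j).ix _ (F1 x hx) _ (F1 y hy) (fun h => h1 (inU x h)) (fun h => h2 (inU y h))
    have h4 : g⁻¹ * x * g * (g⁻¹ * y * g) = g⁻¹ * (x * y) * g := by group
    rwa [h4] at h3
  -- the commutator
  obtain ⟨c, hc⟩ : ∃ c, c = x0 * (v * x0⁻¹ * v⁻¹) := ⟨_, rfl⟩
  have hcV : c ∈ Vs (U (!i)) := by
    rw [hc]
    exact mul_mem hx0 ((sd _).vn ((sd _).SH hvS) (inv_mem hx0))
  have hcV' : g⁻¹ * c * g ∈ Vs (U j) := by
    have h1 : g⁻¹ * c * g = g⁻¹ * x0 * g * v0 * (g⁻¹ * x0 * g)⁻¹ * v0⁻¹ := by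
      rw [hc, hv]; group
    rw [h1]
    exact mul_mem ((sd j).vn ((sd j).SH (F1 x0 hx0)) hv0) (inv_mem hv0)
  have hc1 : c ≠ 1 := by
    intro h
    apply hx0v
    rw [hc] at h
    calc v * x0 = (x0 * (v * x0⁻¹ * v⁻¹))⁻¹ * x0 * v * (x0⁻¹ * x0) := by group
      _ = x0 * v := by rw [h]; group
  have hcv : v * c = c * v := (comm c).1 (hv0.2.2 _ hcV'.1)
  have hcS : ∀ t ∈ S, t * c = c * t := (sd _).cent hvS hvU hcV hcv
  have hcc : c * c = 1 := hcV.2.1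
  have uni : ∀ y ∈ S, y * y = 1 → (∀ s ∈ S, s * y = y * s) → y = 1 ∨ y = c := by
    intro y hy hyy hyc
    by_cases hy1 : y = 1
    · exact Or.inl hy1
    right
    have hyV : y ∈ Vs (U (!i)) :=
      ⟨(sd _).l2 (hV _) hy (fun x hx => (hyc x ((sd _).US hx.1)).symm), hyy, fun u hu => hyc u ((sd _).US hu)⟩
    have h1 : v * (k (!i) * y * (k (!i))⁻¹) ≠ k (!i) * y * (k (!i))⁻¹ * v :=
      fun h => hy1 ((sd _).c1 hvS hvU hyV (hyc v hvS) h)
    have h2 : v * (k (!i) * c * (k (!i))⁻¹) ≠ k (!i) * c * (k (!i))⁻¹ * v :=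
      fun h => hc1 ((sd _).c1 hvS hvU hcV hcv h)
    have h3 := c2 _ ((sd _).vn (sd _).kH hyV) _ ((sd _).vn (sd _).kH hcV) h1 h2
    have h4 : k (!i) * y * (k (!i))⁻¹ * (k (!i) * c * (k (!i))⁻¹) = k (!i) * (y * c) * (k (!i))⁻¹ := by group
    rw [h4] at h3
    have h5 : v * (y * c) = y * c * v := by
      rw [← mul_assoc, hyc v hvS, mul_assoc, hcv, mul_assoc]
    have h6 : y * c = 1 := (sd _).c1 hvS hvU (mul_mem hyV hcV) h5 h3
    calc y = y * (c * c) := by rw [hcc, mul_one]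
      _ = y * c * c := by group
      _ = c := by rw [h6, one_mul]
  refine ⟨c, ⟨(sd _).US hcV.1, hc1, hcc, hcS, uni⟩, ?_, v0, hv0, hv ▸ hvS, hv ▸ hvU⟩
  have hx' : g⁻¹ * x0 * g * (g⁻¹ * c * g) = g⁻¹ * c * g * (g⁻¹ * x0 * g) := by
    have := hcV.2.2 x0 hx0.1
    calc g⁻¹ * x0 * g * (g⁻¹ * c * g) = g⁻¹ * (x0 * c) * g := by group
      _ = g⁻¹ * (c * x0) * g := by rw [this]
      _ = _ := by group
  have h7 := (sd j).cent (F1 x0 hx0) hx0' hcV' hx'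
  rcases uni _ ((sd j).US hcV'.1) hcV'.2.1 h7 with h | h
  · exfalso
    apply hc1
    calc c = g * (g⁻¹ * c * g) * g⁻¹ := by group
      _ = 1 := by rw [h]; group
  · exact h

theorem Zp.eq {z z' : G} (h : Zp S z) (h' : Zp S z') : z' = z := by
  rcases h.uni z' h'.zS h'.zz h'.zc with h1 | h1
  · exact absurd h1 h'.z1
  · exact h1

/-- the case `m = 0` -/
theorem step1 (sd : ∀ i, Sd S (H i) (U i) (k i)) (hV : ∀ i, ∃ x ∈ Vs (U i), x ≠ 1)
    (hNC : ∀ T : Subgroup G, T ≠ ⊥ → T ≤ S → (∀ i, ∀ g ∈ H i, ∀ t ∈ T, g * t * g⁻¹ ∈ T) → False)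
    (i : Bool) {x0 : G} (hx0 : x0 ∈ Vs (U (!i))) (hx0' : x0 ∉ U i) :
    ∃ z y : G, ∀ u ∈ U i, u = 1 ∨ u = z ∨ u = y ∨ u = z * y := by
  obtain ⟨z, hz, -, v, hv, hvS, hvU⟩ := crit sd hV (m := 0) (fun m' h => absurd h (Nat.not_lt_zero m'))
    (E.nil (H := H) (i := i)) hx0 (by rwa [inv_one, one_mul, mul_one])
  rw [one_mul, inv_one, mul_one] at hvS hvU
  obtain ⟨T, hT⟩ : ∃ T : Subgroup G, T = Subgroup.closure {x | ∃ u ∈ U i, x = u * u} := ⟨_, rfl⟩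
  have e1 : ∀ u ∈ U i, ∃ d, d ∈ U i ∧ d ∈ U (!i) ∧ u * u = d * d := by
    intro u hu
    by_cases h : u ∈ U (!i)
    · exact ⟨u, hu, h, rfl⟩
    · refine ⟨u * v, mul_mem hu hv.1, (sd _).ix u ((sd i).US hu) v hvS h hvU, ?_⟩
      calc u * u = u * u * (v * v) := by rw [hv.2.1, mul_one]
        _ = u * (u * v) * v := by group
        _ = u * (v * u) * v := by rw [hv.2.2 u hu]
        _ = u * v * (u * v) := by group
  have e2 : ∀ u ∈ U (!i), ∃ d, d ∈ U i ∧ d ∈ U (!i) ∧ u * u = d * d := by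
    intro u hu
    by_cases h : u ∈ U i
    · exact ⟨u, h, hu, rfl⟩
    · refine ⟨u * x0, (sd _).ix u ((sd _).US hu) x0 ((sd _).US hx0.1) h hx0', mul_mem hu hx0.1, ?_⟩
      calc u * u = u * u * (x0 * x0) := by rw [hx0.2.1, mul_one]
        _ = u * (u * x0) * x0 := by group
        _ = u * (x0 * u) * x0 := by rw [hx0.2.2 u hu]
        _ = u * x0 * (u * x0) := by group
  have e3 : {x | ∃ u ∈ U i, x = u * u} = {x | ∃ u ∈ U (!i), x = u * u} := by
    ext x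
    constructor
    · rintro ⟨u, hu, rfl⟩
      obtain ⟨d, -, h2, h3⟩ := e1 u hu
      exact ⟨d, h2, h3⟩
    · rintro ⟨u, hu, rfl⟩
      obtain ⟨d, h1, -, h3⟩ := e2 u hu
      exact ⟨d, h1, h3⟩
  have nrm : ∀ i', T = Subgroup.closure {x | ∃ u ∈ U i', x = u * u} → ∀ g ∈ H i', ∀ t ∈ T, g * t * g⁻¹ ∈ T := by
    intro i' hT' g hg t ht
    rw [hT'] at ht ⊢
    induction ht using Subgroup.closure_induction with
    | mem x hx =>
      obtain ⟨u, hu, rfl⟩ := hx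
      apply Subgroup.subset_closure
      exact ⟨g * u * g⁻¹, (sd i').nor g hg u hu, by group⟩
    | one => rw [mul_one, mul_inv_cancel]; exact one_mem _
    | mul x y _ _ hx hy =>
      have : g * (x * y) * g⁻¹ = g * x * g⁻¹ * (g * y * g⁻¹) := by group
      rw [this]; exact mul_mem hx hy
    | inv x _ hx =>
      have : g * x⁻¹ * g⁻¹ = (g * x * g⁻¹)⁻¹ := by group
      rw [this]; exact inv_mem hx
  have hTb : T = ⊥ := by
    by_contra hne
    refine hNC T hne ?_ ?_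
    · rw [hT, Subgroup.closure_le]
      rintro _ ⟨u, hu, rfl⟩
      exact mul_mem ((sd i).US hu) ((sd i).US hu)
    · intro i'
      rcases Bool.eq_or_eq_not i' i with h | h
      · subst h; exact nrm _ hT
      · subst h; exact nrm _ (by rw [hT, e3])
  have sq : ∀ u ∈ U i, u * u = 1 := by
    intro u hu
    have : u * u ∈ T := hT ▸ Subgroup.subset_closure ⟨u, hu, rfl⟩
    rw [hTb] at this
    exact Subgroup.mem_bot.1 this
  have ab : ∀ u ∈ U i, ∀ w ∈ U i, u * w = w * u := by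
    intro u hu w hw
    have h1 := sq _ (mul_mem hu hw)
    have hu' : u⁻¹ = u := inv_eq_of_mul_eq_one_left (sq u hu)
    have hw' : w⁻¹ = w := inv_eq_of_mul_eq_one_left (sq w hw)
    calc u * w = (u * w)⁻¹ := (inv_eq_of_mul_eq_one_left h1).symm
      _ = w⁻¹ * u⁻¹ := mul_inv_rev _ _
      _ = w * u := by rw [hu', hw']
  have allV : ∀ u ∈ U i, u ∈ Vs (U i) := fun u hu => ⟨hu, sq u hu, fun w hw => ab w hw u hu⟩
  by_cases hy : ∃ y ∈ U i, y ≠ 1 ∧ y ≠ z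
  · obtain ⟨y, hy, h1, h2⟩ := hy
    exact ⟨z, y, fun u hu => (sd i).qq hz (allV y hy) h1 h2 (allV u hu)⟩
  · push Not at hy
    refine ⟨z, z, fun u hu => ?_⟩
    by_cases h : u = 1
    · exact Or.inl h
    · exact Or.inr (Or.inl (hy u hu h))

theorem claimK (sd : ∀ i, Sd S (H i) (U i) (k i)) (hV : ∀ i, ∃ x ∈ Vs (U i), x ≠ 1)
    (hNC : ∀ T : Subgroup G, T ≠ ⊥ → T ≤ S → (∀ i, ∀ g ∈ H i, ∀ t ∈ T, g * t * g⁻¹ ∈ T) → False)
    {m' : ℕ} (hP : ∀ m < m' + 1, PP H U m) {i j : Bool} {g h z : G} (e : E H i j m' g) (hh : h ∈ H j) {v0 : G}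
    (hz : Zp S z) (hv0 : v0 ∈ Vs (U (!j))) (hvS : g * h * v0 * (g * h)⁻¹ ∈ S) (hvU : g * h * v0 * (g * h)⁻¹ ∉ U (!i))
    (hzg : (g * h)⁻¹ * z * (g * h) = z) (κ : G) (dκ : Sd S (H (!i)) (U (!i)) κ) :
    κ * z * κ⁻¹ = g * z * g⁻¹ := by
  -- the new walk
  have e' : E H (!i) j (m' + 1) (κ⁻¹ * g) := E.cons (inv_mem dκ.kH) (by rw [Bool.not_not]; exact e)
  have key : ∃ y ∈ Vs (U i), (κ⁻¹ * g)⁻¹ * y * (κ⁻¹ * g) ∉ U j := by
    by_contra hno
    push Not at hno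
    have F1 : ∀ y ∈ Vs (U i), (g * h)⁻¹ * (κ * y * κ⁻¹) * (g * h) ∈ S := by
      intro y hy
      have h1 := (sd j).nor h⁻¹ (inv_mem hh) _ (hno y hy)
      have h2 : (g * h)⁻¹ * (κ * y * κ⁻¹) * (g * h) = h⁻¹ * ((κ⁻¹ * g)⁻¹ * y * (κ⁻¹ * g)) * h⁻¹⁻¹ := by group
      rw [h2]; exact (sd j).US h1
    obtain ⟨v, hv⟩ : ∃ v, v = g * h * v0 * (g * h)⁻¹ := ⟨_, rfl⟩
    rw [← hv] at hvS hvU
    have inU : ∀ x, (g * h)⁻¹ * x * (g * h) ∈ U (!j) → v * x = x * v := by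
      intro x hx
      have h1 := hv0.2.2 _ hx
      calc v * x = g * h * (v0 * ((g * h)⁻¹ * x * (g * h))) * (g * h)⁻¹ := by rw [hv]; group
        _ = g * h * ((g * h)⁻¹ * x * (g * h) * v0) * (g * h)⁻¹ := by rw [h1]
        _ = x * v := by rw [hv]; group
    have hzV : z ∈ Vs (U (!i)) := dκ.zV (hV _) hz
    have hzVi : z ∈ Vs (U i) := (sd i).zV (hV _) hz
    have kz : ∀ y : G, y ∈ Vs (U (!i)) → κ * y * κ⁻¹ = y → y = 1 := by
      intro y hy h1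
      exact dκ.fpf y hy.1 (by rw [mul_inv_eq_iff_eq_mul] at h1; exact h1.symm)
    -- y0
    have hy0 : k i * z * (k i)⁻¹ ∈ Vs (U i) := (sd i).vn (sd i).kH hzVi
    have hy01 : k i * z * (k i)⁻¹ ≠ 1 := by
      intro h1
      exact hz.z1 (conj_eq_one_iff.1 h1)
    have hy0z : k i * z * (k i)⁻¹ ≠ z := by
      intro h1
      exact hz.z1 ((sd i).fpf z hzVi.1 (by rw [mul_inv_eq_iff_eq_mul] at h1; exact h1.symm))
    obtain ⟨y0, hy0e⟩ : ∃ y0, y0 = k i * z * (k i)⁻¹ := ⟨_, rfl⟩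
    rw [← hy0e] at hy0 hy01 hy0z
    have hκz : (g * h)⁻¹ * (κ * z * κ⁻¹) * (g * h) ∉ U (!j) := by
      intro h1
      rcases dκ.zc hz hvS hvU (dκ.vn dκ.kH hzV) (inU _ h1) with h2 | h2
      · exact hz.z1 (conj_eq_one_iff.1 h2)
      · exact hz.z1 (kz z hzV h2)
    obtain ⟨y, hy, hy1, hyz, hyU⟩ : ∃ y ∈ Vs (U i), y ≠ 1 ∧ y ≠ z ∧ (g * h)⁻¹ * (κ * y * κ⁻¹) * (g * h) ∈ U (!j) := by
      by_cases h1 : (g * h)⁻¹ * (κ * y0 * κ⁻¹) * (g * h) ∈ U (!j)
      · exact ⟨y0, hy0, hy01, hy0z, h1⟩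
      · refine ⟨z * y0, mul_mem hzVi hy0, ?_, ?_, ?_⟩
        · intro h2
          apply hy0z
          calc y0 = z⁻¹ * (z * y0) := by group
            _ = z⁻¹ := by rw [h2, mul_one]
            _ = z := inv_eq_of_mul_eq_one_left hz.zz
        · intro h2
          exact hy01 (by simpa using h2)
        · have h2 := (sd (!j)).ix _ (F1 z hzVi) _ (F1 y0 hy0) hκz h1
          have h3 : (g * h)⁻¹ * (κ * z * κ⁻¹) * (g * h) * ((g * h)⁻¹ * (κ * y0 * κ⁻¹) * (g * h)) =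
              (g * h)⁻¹ * (κ * (z * y0) * κ⁻¹) * (g * h) := by group
          rwa [h3] at h2
    have hwv := inU _ hyU
    -- y lies in U (!i)
    have hyU' : y ∈ U (!i) := by
      have := hP 0 (Nat.succ_pos _) (!i) (!i) 1 E.nil y (by rwa [Bool.not_not])
      rwa [inv_one, one_mul, mul_one] at this
    -- κ⁻¹ y κ ∈ V i
    have hy' : κ⁻¹ * y * κ ∈ Vs (U i) := by
      have hu0 := dκ.inv v hvS hvU
      obtain ⟨u1, hu1⟩ : ∃ u1, u1 = κ * (v * κ * v⁻¹ * κ) * κ⁻¹ := ⟨_, rfl⟩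
      have hu1' : u1 ∈ U (!i) := hu1 ▸ dκ.nor κ dκ.kH _ hu0
      have h1 : κ * (κ * y * κ⁻¹) * κ⁻¹ = u1 * (v * y * v⁻¹) * u1⁻¹ := by
        have h2 : κ * y * κ⁻¹ = v * (κ * y * κ⁻¹) * v⁻¹ := by rw [hwv]; group
        calc κ * (κ * y * κ⁻¹) * κ⁻¹ = κ * (v * (κ * y * κ⁻¹) * v⁻¹) * κ⁻¹ := by rw [← h2]
          _ = (κ * (v * κ * v⁻¹ * κ) * κ⁻¹) * (v * y * v⁻¹) * (κ * (v * κ * v⁻¹ * κ) * κ⁻¹)⁻¹ := by group
          _ = _ := by rw [hu1]
      have h3 : κ⁻¹ * y * κ = κ * (κ * y * κ⁻¹) * κ⁻¹ := by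
        calc κ⁻¹ * y * κ = κ⁻¹ * (κ * κ * κ) * y * (κ * κ * κ)⁻¹ * κ := by rw [dκ.k3]; group
          _ = _ := by group
      rw [h3, h1]
      exact (sd i).vn ((sd i).SH ((sd _).US hu1')) ((sd i).vn ((sd i).SH hvS) hy)
    rcases (sd i).qq hz hy hy1 hyz hy' with h1 | h1 | h1 | h1
    · apply hy1
      calc y = κ * (κ⁻¹ * y * κ) * κ⁻¹ := by group
        _ = 1 := by rw [h1]; group
    · -- y = κ z κ⁻¹
      have h2 : y = κ * z * κ⁻¹ := by rw [← h1]; group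
      have h3 : κ * y * κ⁻¹ ∈ Vs (U (!i)) := by rw [h2]; exact dκ.vn dκ.kH (dκ.vn dκ.kH hzV)
      rcases dκ.zc hz hvS hvU h3 hwv with h4 | h4
      · exact hy1 (conj_eq_one_iff.1 h4)
      · rw [h2] at h4
        exact hz.z1 (dκ.fpf z hzV.1 (dκ.kk h4))
    · apply hy1
      apply dκ.fpf y hyU'
      calc y * κ = κ * (κ⁻¹ * y * κ) := by group
        _ = κ * y := by rw [h1]
    · -- κ⁻¹ y κ = z y
      have hx : κ⁻¹ * z * κ ∈ Vs (U (!i)) := by
        have := dκ.vn (inv_mem dκ.kH) hzV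
        rwa [_root_.inv_inv] at this
      have hp : κ⁻¹ * z * κ * z * (κ * z * κ⁻¹) = 1 := by
        have ha := hx
        have hb : κ * z * κ⁻¹ ∈ Vs (U (!i)) := dκ.vn dκ.kH hzV
        apply dκ.fpf _ (mul_mem (mul_mem ha.1 hzV.1) hb.1)
        have h3 : κ * (κ * z * κ⁻¹) * κ⁻¹ = κ⁻¹ * z * κ := by
          calc κ * (κ * z * κ⁻¹) * κ⁻¹ = κ⁻¹ * (κ * κ * κ) * z * (κ * κ * κ)⁻¹ * κ := by group
            _ = _ := by rw [dκ.k3]; group
        have h4 : κ * (κ⁻¹ * z * κ * z * (κ * z * κ⁻¹)) = z * (κ * z * κ⁻¹) * (κ⁻¹ * z * κ) * κ := by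
          calc κ * (κ⁻¹ * z * κ * z * (κ * z * κ⁻¹)) = z * (κ * z * κ⁻¹) * (κ * (κ * z * κ⁻¹) * κ⁻¹) * κ := by group
            _ = _ := by rw [h3]
        rw [h4]
        congr 1
        have h5 := ha.2.2 _ (mul_mem hzV.1 hb.1)
        rw [mul_assoc, ← h5]
      have h2 : κ⁻¹ * z * κ * y = 1 := by
        apply dκ.fpf _ (mul_mem hx.1 hyU')
        have h3 : κ⁻¹ * (κ⁻¹ * z * κ) * κ = κ * z * κ⁻¹ := by
          calc κ⁻¹ * (κ⁻¹ * z * κ) * κ = κ * (κ * κ * κ)⁻¹ * z * (κ * κ * κ) * κ⁻¹ := by group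
            _ = _ := by rw [dκ.k3]; group
        have h4 : κ * z * κ⁻¹ * z = κ⁻¹ * z * κ := by
          have ha := hx
          have hb : κ * z * κ⁻¹ ∈ Vs (U (!i)) := dκ.vn dκ.kH hzV
          have h5 : z * (κ * z * κ⁻¹) = κ * z * κ⁻¹ * z := hb.2.2 z hzV.1
          have h6 : κ⁻¹ * z * κ * (κ * z * κ⁻¹ * z) = 1 := by rw [← h5, ← mul_assoc]; exact hp
          calc κ * z * κ⁻¹ * z = (κ⁻¹ * z * κ) * (κ⁻¹ * z * κ) * (κ * z * κ⁻¹ * z) := by rw [ha.2.1, one_mul]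
            _ = (κ⁻¹ * z * κ) * ((κ⁻¹ * z * κ) * (κ * z * κ⁻¹ * z)) := by group
            _ = _ := by rw [h6, mul_one]
        calc κ⁻¹ * z * κ * y * κ = κ * (κ⁻¹ * (κ⁻¹ * z * κ) * κ * (κ⁻¹ * y * κ)) := by group
          _ = κ * (κ * z * κ⁻¹ * (z * y)) := by rw [h3, h1]
          _ = κ * (κ * z * κ⁻¹ * z * y) := by group
          _ = κ * (κ⁻¹ * z * κ * y) := by rw [h4]
      have hyx : y = κ⁻¹ * z * κ := by
        calc y = (κ⁻¹ * z * κ * (κ⁻¹ * z * κ)) * y := by rw [hx.2.1, one_mul]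
          _ = κ⁻¹ * z * κ * (κ⁻¹ * z * κ * y) := by group
          _ = _ := by rw [h2, mul_one]
      have hyV : y ∈ Vs (U (!i)) := hyx ▸ hx
      -- now V i = V (!i)
      have hVV : Vs (U i) = Vs (U (!i)) := by
        ext x
        constructor
        · intro hx
          rcases (sd i).qq hz hy hy1 hyz hx with h | h | h | h
          · rw [h]; exact one_mem _
          · rw [h]; exact hzV
          · rw [h]; exact hyV
          · rw [h]; exact mul_mem hzV hyV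
        · intro hx
          rcases (sd (!i)).qq hz hyV hy1 hyz hx with h | h | h | h
          · rw [h]; exact one_mem _
          · rw [h]; exact hzVi
          · rw [h]; exact hy
          · rw [h]; exact mul_mem hzVi hy
      refine hNC (Vs (U i)) ?_ ?_ ?_
      · intro hb
        rw [hb] at hzVi
        exact hz.z1 (Subgroup.mem_bot.1 hzVi)
      · intro x hx
        exact (sd i).US hx.1
      · intro i' g' hg' t ht
        rcases Bool.eq_or_eq_not i' i with h | h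
        · subst h; exact (sd _).vn hg' ht
        · subst h
          rw [hVV] at ht ⊢
          exact (sd _).vn hg' ht
  obtain ⟨y, hy, hyn⟩ := key
  obtain ⟨z', hz', hz'g, -⟩ := crit sd hV hP e' (x0 := y) (by rwa [Bool.not_not]) hyn
  rw [hz.eq hz'] at hz'g
  calc κ * z * κ⁻¹ = g * ((κ⁻¹ * g)⁻¹ * z * (κ⁻¹ * g)) * g⁻¹ := by group
    _ = g * z * g⁻¹ := by rw [hz'g]

/-- the lemma in abstract form: `U i` has at most four elements for some `i` -/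
theorem main (sd : ∀ i, Sd S (H i) (U i) (k i)) (hV : ∀ i, ∃ x ∈ Vs (U i), x ≠ 1)
    (hNC : ∀ T : Subgroup G, T ≠ ⊥ → T ≤ S → (∀ i, ∀ g ∈ H i, ∀ t ∈ T, g * t * g⁻¹ ∈ T) → False) :
    ∃ i, ∃ z y : G, ∀ u ∈ U i, u = 1 ∨ u = z ∨ u = y ∨ u = z * y := by
  classical
  by_cases hall : ∀ m, PP H U m
  · exfalso
    obtain ⟨x, hx, hx1⟩ := hV true
    obtain ⟨X, hX⟩ : ∃ X : Set G, X = {a | ∃ j m g, E H false j m g ∧ ∃ v ∈ Vs (U true), a = g⁻¹ * v * g} := ⟨_, rfl⟩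
    have hXn : ∀ i, ∀ g ∈ H i, ∀ a ∈ X, g * a * g⁻¹ ∈ X := by
      intro i h hh a ha
      rw [hX] at ha ⊢
      obtain ⟨j, m, g, e, v, hv, rfl⟩ := ha
      have hh' := inv_mem hh
      rcases Bool.eq_or_eq_not i j with hij | hij
      · subst hij
        exact ⟨_, _, _, e.snoc hh', v, hv, by group⟩
      · subst hij
        exact ⟨_, _, _, (e.snoc (one_mem (H j))).snoc hh', v, hv, by group⟩
    refine hNC (Subgroup.closure X) ?_ ?_ ?_
    · intro hb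
      have : x ∈ Subgroup.closure X := Subgroup.subset_closure (hX ▸ ⟨_, _, _, E.nil, x, hx, by group⟩)
      rw [hb] at this
      exact hx1 (Subgroup.mem_bot.1 this)
    · rw [Subgroup.closure_le, hX]
      rintro _ ⟨j, m, g, e, v, hv, rfl⟩
      exact (sd j).US (hall m _ _ _ e v hv)
    · intro i g hg t ht
      induction ht using Subgroup.closure_induction with
      | mem x hx => exact Subgroup.subset_closure (hXn i g hg x hx)
      | one => rw [mul_one, mul_inv_cancel]; exact one_mem _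
      | mul x y _ _ hx hy =>
        have : g * (x * y) * g⁻¹ = g * x * g⁻¹ * (g * y * g⁻¹) := by group
        rw [this]; exact mul_mem hx hy
      | inv x _ hx =>
        have : g * x⁻¹ * g⁻¹ = (g * x * g⁻¹)⁻¹ := by group
        rw [this]; exact inv_mem hx
  · push Not at hall
    obtain ⟨m, hm, hP⟩ : ∃ m, ¬ PP H U m ∧ ∀ m' < m, PP H U m' :=
      ⟨Nat.find hall, Nat.find_spec hall, fun m' h => by
        have := Nat.find_min hall h
        exact not_not.1 this⟩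
    unfold PP at hm
    push Not at hm
    obtain ⟨i, j, g, e, x0, hx0, hx0'⟩ := hm
    cases e with
    | nil =>
      rw [inv_one, one_mul, mul_one] at hx0'
      exact ⟨i, step1 sd hV hNC i hx0 hx0'⟩
    | @snoc j' m' g' h e' hh =>
      exfalso
      obtain ⟨z, hz, hzg, v0, hv0, hvS, hvU⟩ := crit sd hV hP (e'.snoc hh) hx0 hx0'
      have h1 := claimK sd hV hNC hP e' hh hz hv0 hvS hvU hzg _ (sd (!i))
      have h2 := claimK sd hV hNC hP e' hh hz hv0 hvS hvU hzg _ (sd (!i)).symm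
      have hzV : z ∈ Vs (U (!i)) := (sd _).zV (hV _) hz
      rw [← h1, _root_.inv_inv] at h2
      apply hz.z1
      apply (sd (!i)).symm.fpf z hzV.1
      apply (sd (!i)).symm.kk
      rw [_root_.inv_inv, h2]
      group

end two

end Cfsg.Agent.Lib.H15SGam29
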