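import Mathlib
import Cfsg.Agent.Lib.H15SGam1
import Cfsg.Agent.Lib.H15SGAM2b

set_option autoImplicit false
set_option linter.unusedSectionVars false
set_option linter.unusedVariables false

/-! S2220: the amalgam lemma. -/

namespace Cfsg.Agent.Lib.H15SGamF

open Subgroup Cfsg.Agent.Lib.H15S Cfsg.Agent.Lib.H15SGAM2b

variable {G : Type*} [Group G]

theorem side_sk [Finite G] {S H U : Subgroup G} (h : Side S H U) {k : G} (hk : k ∈ H) (hk3 : orderOf k = 3)
    (hkU : k ∉ U) {a : G} (ha : a ∈ S) (haU : a ∉ U) : a * k * a⁻¹ * k ∈ U := by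
  have hN : (U.subgroupOf H).Normal := by
    refine ⟨fun u hu g => ?_⟩
    rw [Subgroup.mem_subgroupOf] at hu ⊢
    exact h.nor g g.2 u hu
  have hUH : U ≤ H := h.US.trans h.SH
  have hmk : ∀ {x : G} (hx : x ∈ H), (QuotientGroup.mk (⟨x, hx⟩ : H) : H ⧸ U.subgroupOf H) = 1 ↔ x ∈ U := by
    intro x hx
    rw [QuotientGroup.eq_one_iff, Subgroup.mem_subgroupOf]
  have hQ : Nat.card (H ⧸ U.subgroupOf H) = 6 := by
    have h1 := Subgroup.card_mul_index (U.subgroupOf H)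
    rw [Nat.card_congr (Subgroup.subgroupOfEquivOfLe hUH).toEquiv, h.cH] at h1
    have hp : 0 < Nat.card U := Nat.card_pos
    have : Nat.card U * (U.subgroupOf H).index = Nat.card U * 6 := by rw [h1, mul_comm]
    exact Nat.eq_of_mul_eq_mul_left hp this
  have haH := h.SH ha
  obtain ⟨κ, hκ⟩ : ∃ κ : H ⧸ U.subgroupOf H, κ = QuotientGroup.mk ⟨k, hk⟩ := ⟨_, rfl⟩
  obtain ⟨α, hα⟩ : ∃ α : H ⧸ U.subgroupOf H, α = QuotientGroup.mk ⟨a, haH⟩ := ⟨_, rfl⟩
  have hκ1 : κ ≠ 1 := by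
    rw [hκ]
    exact fun h1 => hkU ((hmk hk).1 h1)
  have hκ3 : κ ^ 3 = 1 := by
    rw [hκ, ← QuotientGroup.mk_pow]
    have : (⟨k, hk⟩ : H) ^ 3 = 1 := Subtype.ext (by rw [SubmonoidClass.mk_pow]; show k ^ 3 = 1; rw [← hk3, pow_orderOf_eq_one])
    rw [this]; rfl
  haveI : Fact (Nat.Prime 3) := ⟨Nat.prime_three⟩
  have hκo : orderOf κ = 3 := orderOf_eq_prime hκ3 hκ1
  have hz : (Subgroup.zpowers κ).index = 2 := by
    have h1 := Subgroup.card_mul_index (Subgroup.zpowers κ)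
    rw [Nat.card_zpowers, hκo, hQ] at h1
    omega
  have hzn : (Subgroup.zpowers κ).Normal := Subgroup.normal_of_index_eq_two hz
  have hα1 : α ≠ 1 := by
    rw [hα]
    exact fun h1 => haU ((hmk haH).1 h1)
  have hα2 : α * α = 1 := by
    rw [hα, ← QuotientGroup.mk_mul]
    exact (hmk (H.mul_mem haH haH)).2 ((side_mul h ha ha).2 Iff.rfl)
  have hinv : α⁻¹ = α := inv_eq_of_mul_eq_one_left hα2
  have hαz : α ∉ Subgroup.zpowers κ := by
    intro h1
    obtain ⟨n, hn⟩ := Subgroup.mem_zpowers_iff.1 h1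
    apply hα1
    have h2 : α ^ 3 = 1 := by
      rw [← hn]
      have : (κ ^ n) ^ 3 = (κ ^ 3) ^ n := by
        rw [← zpow_natCast, ← zpow_mul, mul_comm, zpow_mul, zpow_natCast]
      rw [this, hκ3, one_zpow]
    have h3 : α ^ 3 = α := by rw [pow_succ, pow_two, hα2, one_mul]
    rw [← h3, h2]
  have hmem := hzn.conj_mem κ (Subgroup.mem_zpowers κ) α
  classical
  rw [mem_zpowers_iff_mem_range_orderOf, hκo] at hmem
  simp only [Finset.mem_image, Finset.mem_range] at hmem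
  obtain ⟨n, hn, hn'⟩ := hmem
  interval_cases n
  · exfalso
    apply hκ1
    rw [pow_zero] at hn'
    have : κ = α⁻¹ * (α * κ * α⁻¹) * α := by group
    rw [this, ← hn']; group
  · exfalso
    rw [pow_one] at hn'
    have hcom : Commute κ α := by
      show κ * α = α * κ
      conv_lhs => rw [hn']
      group
    obtain ⟨g, hg, s, hs, hgs⟩ := h.nS
    apply hgs
    have hsH := h.SH hs
    obtain ⟨γ, hγ⟩ : ∃ γ : H ⧸ U.subgroupOf H, γ = QuotientGroup.mk ⟨g, hg⟩ := ⟨_, rfl⟩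
    obtain ⟨σ, hσ⟩ : ∃ σ : H ⧸ U.subgroupOf H, σ = QuotientGroup.mk ⟨s, hsH⟩ := ⟨_, rfl⟩
    have hz' : ∀ y ∈ Subgroup.zpowers κ, Commute y α := by
      intro y hy
      obtain ⟨n, rfl⟩ := Subgroup.mem_zpowers_iff.1 hy
      exact hcom.zpow_left n
    have hγα : Commute γ α := by
      by_cases h1 : γ ∈ Subgroup.zpowers κ
      · exact hz' γ h1
      · have h2 : γ * α ∈ Subgroup.zpowers κ := by
          rw [Subgroup.mul_mem_iff_of_index_two hz]
          exact iff_of_false h1 hαz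
        have h3 := (hz' _ h2).mul_left (Commute.refl α)
        rwa [mul_assoc, hα2, mul_one] at h3
    have hσ' : σ = 1 ∨ σ = α := by
      by_cases h1 : s ∈ U
      · left; rw [hσ]; exact (hmk hsH).2 h1
      · right
        have h2 : σ * α = 1 := by
          rw [hσ, hα, ← QuotientGroup.mk_mul]
          exact (hmk (H.mul_mem hsH haH)).2 ((side_mul h hs ha).2 (iff_of_false h1 haU))
        rw [mul_eq_one_iff_eq_inv, hinv] at h2
        exact h2
    have h4 : γ * σ * γ⁻¹ * σ⁻¹ = 1 := by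
      rcases hσ' with h5 | h5
      · rw [h5]; group
      · rw [h5, hγα.eq]; group
    have h5 : g * s * g⁻¹ * s⁻¹ ∈ U := by
      apply (hmk (H.mul_mem (H.mul_mem (H.mul_mem hg hsH) (H.inv_mem hg)) (H.inv_mem hsH))).1
      rw [← h4, hγ, hσ]
      rfl
    have h6 : g * s * g⁻¹ = (g * s * g⁻¹ * s⁻¹) * s := by group
    rw [h6]
    exact S.mul_mem (h.US h5) hs
  · apply (hmk (H.mul_mem (H.mul_mem (H.mul_mem haH hk) (H.inv_mem haH)) hk)).1
    have h1 : α * κ * α⁻¹ * κ = 1 := by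
      rw [← hn', ← pow_succ]
      exact hκ3
    rw [← h1, hα, hκ]
    rfl

theorem vz_iff {U : Subgroup G} {v : G} : v ∈ Vz U ↔ v ∈ VZ U := by
  constructor
  · intro h
    exact ⟨h.1, by rw [sq]; exact h.2.1, h.2.2⟩
  · intro h
    exact ⟨h.1, VZ_sq1 h, h.2.2⟩

/-- piece Gam: the S3-amalgam lemma -/
theorem Gam [Finite G] {S H₁ H₂ U₁ U₂ : Subgroup G} (hS : IsPGroup 2 S) (h1 : Side S H₁ U₁)
    (h2 : Side S H₂ U₂)
    (hNC : ∀ T : Subgroup G, T ≠ ⊥ → T ≤ S → (∀ g ∈ H₁, ∀ t ∈ T, g * t * g⁻¹ ∈ T) →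
      (∀ g ∈ H₂, ∀ t ∈ T, g * t * g⁻¹ ∈ T) → False) : Nat.card S ≤ 8 := by
  classical
  by_cases hV1 : VZ U₁ ≤ U₂
  swap
  · exact Gam1 hS h1 h2 hNC hV1
  by_cases hV2 : VZ U₂ ≤ U₁
  swap
  · exact Gam1 hS h2 h1 (fun T a b c d => hNC T a b d c) hV2
  by_cases hU1 : U₁ = ⊥
  · rw [h1.cS, hU1, Subgroup.card_bot]; norm_num
  by_cases hU2 : U₂ = ⊥
  · rw [h2.cS, hU2, Subgroup.card_bot]; norm_num
  exfalso
  have hp1 : IsPGroup 2 U₁ := hS.to_le h1.US
  have hp2 : IsPGroup 2 U₂ := hS.to_le h2.US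
  have hv1 := VZ_ne_bot hp1 hU1
  have hv2 := VZ_ne_bot hp2 hU2
  obtain ⟨H, hH⟩ : ∃ H : ℕ → Subgroup G, H = fun i => if Even i then H₁ else H₂ := ⟨_, rfl⟩
  obtain ⟨U, hU⟩ : ∃ U : ℕ → Subgroup G, U = fun i => if Even i then U₁ else U₂ := ⟨_, rfl⟩
  have e0 : ∀ i, Even i → H i = H₁ ∧ U i = U₁ ∧ H (i + 1) = H₂ ∧ U (i + 1) = U₂ := by
    intro i hi
    have hi' : ¬ Even (i + 1) := by rw [Nat.not_even_iff_odd]; exact hi.add_one
    rw [hH, hU]
    exact ⟨if_pos hi, if_pos hi, if_neg hi', if_neg hi'⟩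
  have e1 : ∀ i, ¬ Even i → H i = H₂ ∧ U i = U₂ ∧ H (i + 1) = H₁ ∧ U (i + 1) = U₁ := by
    intro i hi
    have hi' : Even (i + 1) := by rw [Nat.not_even_iff_odd] at hi; exact hi.add_one
    rw [hH, hU]
    exact ⟨if_neg hi, if_neg hi, if_pos hi', if_pos hi'⟩
  have hside : ∀ i, Side S (H i) (U i) := by
    intro i
    by_cases hi : Even i
    · rw [(e0 i hi).1, (e0 i hi).2.1]; exact h1
    · rw [(e1 i hi).1, (e1 i hi).2.1]; exact h2
  have hvne : ∀ i, VZ (U i) ≠ ⊥ := by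
    intro i
    by_cases hi : Even i
    · rw [(e0 i hi).2.1]; exact hv1
    · rw [(e1 i hi).2.1]; exact hv2
  have hvv : ∀ i, ∀ v ∈ Vz (U i), v ∈ U (i + 1) := by
    intro i v hv
    rw [vz_iff] at hv
    by_cases hi : Even i
    · rw [(e0 i hi).2.1] at hv; rw [(e0 i hi).2.2.2]; exact hV1 hv
    · rw [(e1 i hi).2.1] at hv; rw [(e1 i hi).2.2.2]; exact hV2 hv
  have hne12 : VZ U₁ ≠ VZ U₂ := by
    intro he
    refine hNC (VZ U₁) hv1 ((VZ_le U₁).trans h1.US) (fun g hg t ht => VZ_conj h1 hg ht) (fun g hg t ht => ?_)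
    rw [he] at ht ⊢
    exact VZ_conj h2 hg ht
  have hSne : S ≠ ⊥ := by
    intro hb
    apply hU1
    rw [eq_bot_iff, ← hb]
    exact h1.US
  have A : Am S H U := by
    refine ⟨?_, ?_, fun i => (hside i).US, fun i => (hside i).SH, fun i => (hside i).nor, ?_, ?_, ?_, ?_, ?_, ?_⟩
    · intro i
      by_cases hi : Even i
      · rw [(e0 i hi).1, (e0 (i + 2) (by simpa [Nat.even_add] using hi)).1]
      · rw [(e1 i hi).1, (e1 (i + 2) (by simpa [Nat.even_add] using hi)).1]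
    · intro i
      by_cases hi : Even i
      · rw [(e0 i hi).2.1, (e0 (i + 2) (by simpa [Nat.even_add] using hi)).2.1]
      · rw [(e1 i hi).2.1, (e1 (i + 2) (by simpa [Nat.even_add] using hi)).2.1]
    · intro i a ha b hb ha' hb'
      exact (side_mul (hside i) ha hb).2 (iff_of_false ha' hb')
    · intro i
      obtain ⟨k, hk, hk3, hkf⟩ := (hside i).k
      have hkU : k ∉ U i := by
        intro hku
        have := hkf k hku rfl
        rw [this, orderOf_one] at hk3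
        omega
      refine ⟨k, hk, ?_, ?_, fun a ha haU => side_sk (hside i) hk hk3 hkU ha haU⟩
      · have h3 := pow_orderOf_eq_one k
        rw [hk3, pow_succ, pow_two] at h3
        exact h3
      · intro u hu h3
        apply hkf u hu
        rw [mul_inv_eq_iff_eq_mul] at h3
        exact h3.symm
    · intro i a ha hc
      exact VZ_cent (hside i) hS (hvne i) ((hside i).SH ha) (fun v hv => hc v (vz_iff.2 hv))
    · intro i
      by_contra hcon
      push Not at hcon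
      have h3 : S ≤ U i := fun x hx => hcon x hx
      have h4 := Nat.card_mono (Set.toFinite _) (show (S : Set G) ⊆ U i from h3)
      have h5 := (hside i).cS
      have hp : 0 < Nat.card (U i) := Nat.card_pos
      have h6 : Nat.card S ≤ Nat.card (U i) := h4
      omega
    · intro i
      by_contra hcon
      push Not at hcon
      apply hne12
      ext v
      have := hcon v
      rw [vz_iff, vz_iff] at this
      by_cases hi : Even i
      · rwa [(e0 i hi).2.1, (e0 i hi).2.2.2] at this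
      · rw [(e1 i hi).2.1, (e1 i hi).2.2.2] at this
        exact this.symm
    · obtain ⟨z, hz1⟩ := Subgroup.ne_bot_iff_exists_ne_one.1 (VZ_ne_bot hS hSne)
      exact ⟨z, vz_iff.2 z.2, fun h => hz1 (Subtype.ext h)⟩
  refine A.final hvv ?_
  rw [(e0 0 (by simp)).1, (e1 1 (by simp)).1]
  exact hNC

end Cfsg.Agent.Lib.H15SGamF
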