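import Mathlib
import Cfsg.Agent.Lib.H15S0
import Cfsg.Agent.Lib.HallNorm

set_option autoImplicit false
set_option linter.all false

/-! Piece I of S2220: the bound, from the other pieces as hypotheses -/

namespace Cfsg.Agent.Lib.H15SIa

open Subgroup Cfsg.Agent.Lib.H15S

section
variable {G : Type*} [Group G] [Finite G]

theorem kinv_fix (h : HK G) {k : G} (hk : orderOf k = 3) {U : Subgroup G} (hU : KInv k U) {u : G} (hu : u ∈ U)
    (hc : k * u * k⁻¹ = u) : u = 1 := by
  have h1 : u * k = k * u := by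
    calc u * k = (k * u * k⁻¹) * k := by rw [hc]
      _ = k * u := by group
  have h2 := h.exp k u hk h1
  by_contra hne
  have h3 : orderOf u = 3 := orderOf_eq_prime h2 hne
  exact hU.2 (h3 ▸ Subgroup.orderOf_dvd_natCard U hu)

theorem kinv_mod (h : HK G) {k : G} (hk : orderOf k = 3) {U : Subgroup G} (hU : KInv k U) : Nat.card U % 3 = 1 := by
  classical
  have : Fintype U := Fintype.ofFinite U
  let f : Function.End U := fun u => ⟨k * u * k⁻¹, hU.1 u u.2⟩
  have hf : f ^ 3 ^ 1 = 1 := by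
    rw [pow_one]
    funext u
    apply Subtype.ext
    have hk3 : k ^ 3 = 1 := by rw [← hk]; exact pow_orderOf_eq_one k
    have : (f ^ 3) u = f (f (f u)) := rfl
    rw [this]
    show k * (k * (k * u * k⁻¹) * k⁻¹) * k⁻¹ = (u : G)
    calc _ = k ^ 3 * u * (k ^ 3)⁻¹ := by simp only [pow_succ, pow_zero, one_mul, mul_inv_rev, mul_assoc]
      _ = u := by rw [hk3]; group
  have h1 := Equiv.Perm.card_fixedPoints_modEq hf
  have h2 : Fintype.card (Function.fixedPoints f) = 1 := by
    rw [Fintype.card_eq_one_iff]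
    refine ⟨⟨1, ?_⟩, ?_⟩
    · apply Subtype.ext
      show k * (1:G) * k⁻¹ = 1
      group
    · rintro ⟨u, hu⟩
      have := kinv_fix h hk hU u.2 (congrArg Subtype.val hu)
      apply Subtype.ext
      apply Subtype.ext
      exact this
  rw [h2] at h1
  rw [Nat.card_eq_fintype_card]
  exact h1

theorem syl_part {k : G} {U : Subgroup G} (hU : KInv k U) (hn : Group.IsNilpotent U)
    (hkU : k ∈ normalizer (U : Set G)) (p : ℕ) [hp : Fact p.Prime] :
    ∃ T : Subgroup G, T ≤ U ∧ KInv k T ∧ Nat.card T = p ^ (Nat.card U).factorization p ∧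
      normalizer (U : Set G) ≤ normalizer (T : Set G) := by
  obtain ⟨P⟩ := (inferInstance : Nonempty (Sylow p U))
  have htf : Group.IsNilpotent U ↔ ∀ (p : ℕ) (_ : Fact p.Prime) (P : Sylow p U), (P : Subgroup U).Normal :=
    (Group.isNilpotent_of_finite_tfae (G := U)).out 0 3
  have hN : (P : Subgroup U).Normal := htf.1 hn p hp P
  have hC : (P : Subgroup U).Characteristic := Sylow.characteristic_of_normal P hN
  have hle := Cfsg.Agent.Lib.HallNorm.normalizer_le_normalizer_map_subtype hC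
  have hTU : (P : Subgroup U).map U.subtype ≤ U := map_subtype_le _
  have hcard : Nat.card ((P : Subgroup U).map U.subtype) = Nat.card (P : Subgroup U) :=
    (Nat.card_congr ((P : Subgroup U).equivMapOfInjective U.subtype U.subtype_injective).toEquiv).symm
  refine ⟨(P : Subgroup U).map U.subtype, hTU, ⟨?_, ?_⟩, ?_, hle⟩
  · intro u hu
    exact (mem_normalizer_iff.1 (hle hkU) u).1 hu
  · intro h3
    exact hU.2 (h3.trans (Subgroup.card_dvd_of_le hTU))
  · rw [hcard]
    exact P.card_eq_multiplicity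


theorem cen_card (h : HK G) {k : G} (hk : orderOf k = 3) : Nat.card (centralizer ({k} : Set G)) = 9 := h.cen9 k hk

open Classical in
/-- the first bound -/
theorem pairs_le (h : HK G) {k : G} (hk : orderOf k = 3)
    (hP : ∀ u v : G, orderOf u = 3 → orderOf v = 3 → u * v = k⁻¹ →
      (u * k⁻¹ ∈ Subgroup.centralizer ({k} : Set G)) ∨ ∃ U : Subgroup G, KMax k U ∧ u * k⁻¹ ∈ U)
    (F : Finset (Subgroup G)) (hF : ∀ U, U ∈ F ↔ KMax k U) :
    Nat.card {p : G × G // orderOf p.1 = 3 ∧ orderOf p.2 = 3 ∧ p.1 * p.2 = k⁻¹} ≤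
      7 + ∑ U ∈ F, (Nat.card U - 1) := by
  have : Fintype G := Fintype.ofFinite G
  let P := {p : G × G // orderOf p.1 = 3 ∧ orderOf p.2 = 3 ∧ p.1 * p.2 = k⁻¹}
  let f : P → G := fun p => p.1.1 * k⁻¹
  have hf : Function.Injective f := by
    rintro ⟨⟨u, v⟩, hu, hv, huv⟩ ⟨⟨u', v'⟩, hu', hv', huv'⟩ e
    have e1 : u = u' := mul_right_cancel (e : u * k⁻¹ = u' * k⁻¹)
    subst e1
    have e2 : v = v' := mul_left_cancel ((huv : u * v = k⁻¹).trans (huv' : u * v' = k⁻¹).symm)
    subst e2
    rfl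
  let A : Finset G := (((centralizer ({k} : Set G) : Subgroup G) : Set G).toFinset.erase k⁻¹).erase k
  have hk1 : k ∈ centralizer ({k} : Set G) := mem_centralizer_singleton_iff.2 rfl
  have hki : k ≠ k⁻¹ := by
    intro e
    have e1 : k ^ 2 = 1 := by rw [pow_two]; nth_rewrite 2 [e]; exact mul_inv_cancel k
    have e2 : orderOf k ∣ 2 := orderOf_dvd_of_pow_eq_one e1
    rw [hk] at e2
    exact absurd e2 (by norm_num)
  have hA : A.card = 7 := by
    have h1 : (((centralizer ({k} : Set G) : Subgroup G) : Set G).toFinset).card = 9 := by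
      rw [← h.cen9 k hk, Set.toFinset_card, Nat.card_eq_fintype_card]
      rfl
    rw [Finset.card_erase_of_mem, Finset.card_erase_of_mem, h1]
    · rw [Set.mem_toFinset]; exact inv_mem hk1
    · rw [Finset.mem_erase, Set.mem_toFinset]; exact ⟨hki, hk1⟩
  have hsub : Finset.univ.image f ⊆ A ∪ F.biUnion (fun U => (U : Set G).toFinset.erase 1) := by
    intro w hw
    rw [Finset.mem_image] at hw
    obtain ⟨⟨⟨u, v⟩, hu, hv, huv⟩, -, rfl⟩ := hw
    show u * k⁻¹ ∈ _
    rw [Finset.mem_union]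
    by_cases hc : u * k⁻¹ ∈ centralizer ({k} : Set G)
    · left
      rw [Finset.mem_erase, Finset.mem_erase, Set.mem_toFinset]
      refine ⟨?_, ?_, hc⟩
      · intro e
        -- u = k^2 = k⁻¹, v = 1
        have hk3 : k ^ 3 = 1 := by rw [← hk]; exact pow_orderOf_eq_one k
        have e1 : u = k⁻¹ := by
          calc u = (u * k⁻¹) * k := by group
            _ = k * k := by rw [e]
            _ = k ^ 3 * k⁻¹ := by
                simp only [pow_succ, pow_zero, one_mul, mul_assoc, mul_inv_cancel, mul_one]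
            _ = k⁻¹ := by rw [hk3, one_mul]
        have e2 : v = 1 := by
          have : u * v = u * 1 := by rw [mul_one]; exact (huv : u * v = k⁻¹).trans e1.symm
          exact mul_left_cancel this
        rw [show ((u, v) : G × G).2 = v from rfl, e2, orderOf_one] at hv
        exact absurd hv (by norm_num)
      · intro e
        have e1 : u = 1 := by
          calc u = (u * k⁻¹) * k := by group
            _ = k⁻¹ * k := by rw [e]
            _ = 1 := by group
        rw [show ((u, v) : G × G).1 = u from rfl, e1, orderOf_one] at hu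
        exact absurd hu (by norm_num)
    · right
      rcases hP u v hu hv huv with h1 | ⟨U, hU, hw⟩
      · exact absurd h1 hc
      · rw [Finset.mem_biUnion]
        refine ⟨U, (hF U).2 hU, ?_⟩
        rw [Finset.mem_erase, Set.mem_toFinset]
        refine ⟨?_, hw⟩
        intro e
        exact hc (e ▸ one_mem _)
  calc Nat.card P = (Finset.univ.image f).card := by
        rw [Finset.card_image_of_injective _ hf, Nat.card_eq_fintype_card, Finset.card_univ]
    _ ≤ (A ∪ F.biUnion (fun U => (U : Set G).toFinset.erase 1)).card := Finset.card_le_card hsub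
    _ ≤ A.card + (F.biUnion (fun U => (U : Set G).toFinset.erase 1)).card := Finset.card_union_le _ _
    _ ≤ 7 + ∑ U ∈ F, ((U : Set G).toFinset.erase 1).card := by
        rw [hA]
        exact Nat.add_le_add_left Finset.card_biUnion_le _
    _ = 7 + ∑ U ∈ F, (Nat.card U - 1) := by
        congr 1
        apply Finset.sum_congr rfl
        intro U _
        rw [Finset.card_erase_of_mem (by rw [Set.mem_toFinset]; exact one_mem U), Set.toFinset_card,
          Nat.card_eq_fintype_card]
        rfl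

open Classical in
/-- a family of conjugates -/
theorem fam_card {k : G} {U : Subgroup G} (hU : KMax k U) {c : ℕ} 
    (hD : Nat.card {V : Subgroup G // KMax k V ∧ ∃ g : G, V = U.map (MulAut.conj g).toMonoidHom} *
      Nat.card (normalizer (U : Set G)) ≤ 18 * Nat.card U) (hN : Nat.card (normalizer (U : Set G)) = c * Nat.card U)
    (F : Finset (Subgroup G)) (hF : ∀ V ∈ F, KMax k V ∧ ∃ g : G, V = U.map (MulAut.conj g).toMonoidHom) :
    F.card * c ≤ 18 ∧ ∀ V ∈ F, Nat.card V = Nat.card U := by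
  have : Fintype (Subgroup G) := Fintype.ofFinite _
  constructor
  · have h1 : F.card ≤ Nat.card {V : Subgroup G // KMax k V ∧ ∃ g : G, V = U.map (MulAut.conj g).toMonoidHom} := by
      rw [Nat.card_eq_fintype_card, Fintype.card_subtype]
      exact Finset.card_le_card (fun V hV => Finset.mem_filter.2 ⟨Finset.mem_univ _, hF V hV⟩)
    have h2 : F.card * (c * Nat.card U) ≤ 18 * Nat.card U := by
      refine le_trans ?_ hD
      rw [hN]
      exact Nat.mul_le_mul_right _ h1
    have h3 : 0 < Nat.card U := Nat.card_pos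
    have h4 : (F.card * c) * Nat.card U ≤ 18 * Nat.card U := by rw [mul_assoc]; exact h2
    exact Nat.le_of_mul_le_mul_right h4 h3
  · intro V hV
    obtain ⟨-, g, rfl⟩ := hF V hV
    exact (Nat.card_congr (U.equivMapOfInjective (MulAut.conj g).toMonoidHom (MulAut.conj g).injective).toEquiv).symm


/-- the order of a `KInv` subgroup is prime to three -/
theorem dvd_card {q a b : ℕ} (hcard : Nat.card G = 9 * 2 ^ a * q ^ b) {k : G} {U : Subgroup G} (hU : KInv k U) :
    Nat.card U ∣ 2 ^ a * q ^ b := by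
  have h1 : Nat.card U ∣ 9 * (2 ^ a * q ^ b) := by
    rw [← mul_assoc, ← hcard]
    exact Subgroup.card_subgroup_dvd_card U
  have h2 : Nat.Coprime (Nat.card U) 3 := ((Nat.Prime.coprime_iff_not_dvd Nat.prime_three).2 hU.2).symm
  have h3 : Nat.Coprime (Nat.card U) 9 := by
    have := Nat.Coprime.pow_right 2 h2
    simpa using this
  exact h3.dvd_of_dvd_mul_left h1

theorem four_dvd (h : HK G) {k : G} (hk : orderOf k = 3) {U : Subgroup G} (hU : KInv k U) (hn : Group.IsNilpotent U)
    (hkU : k ∈ normalizer (U : Set G)) (h2 : 2 ∣ Nat.card U) : 4 ∣ Nat.card U := by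
  have : Fact (Nat.Prime 2) := ⟨Nat.prime_two⟩
  obtain ⟨T, hTU, hT, hc, -⟩ := syl_part hU hn hkU 2
  have h3 := kinv_mod h hk hT
  rw [hc] at h3
  have h4 : 1 ≤ (Nat.card U).factorization 2 := Nat.Prime.factorization_pos_of_dvd Nat.prime_two Nat.card_pos.ne' h2
  have h5 : (Nat.card U).factorization 2 ≠ 1 := by
    intro e
    rw [e] at h3
    norm_num at h3
  have h6 : 2 ^ 2 ∣ Nat.card T := by
    rw [hc]
    exact pow_dvd_pow 2 (by omega)
  exact h6.trans (Subgroup.card_dvd_of_le hTU)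

theorem pow2_mod (n : ℕ) : 2 ^ n % 3 = if n % 2 = 0 then 1 else 2 := by
  induction n with
  | zero => rfl
  | succ n ih =>
    rw [pow_succ, Nat.mul_mod, ih]
    by_cases h : n % 2 = 0
    · rw [if_pos h, if_neg (by omega)]
    · rw [if_neg h, if_pos (by omega)]

open Classical in
/-- piece I, from the other pieces -/
theorem bound' (h : HK G) {q a b : ℕ}
    (hq : q.Prime) (hq2 : q ≠ 2) (hq3 : q ≠ 3) (ha : 3 ≤ a)
    (hcard : Nat.card G = 9 * 2 ^ a * q ^ b) {k : G} (hk : orderOf k = 3)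
    (hP : ∀ u v : G, orderOf u = 3 → orderOf v = 3 → u * v = k⁻¹ →
      (u * k⁻¹ ∈ Subgroup.centralizer ({k} : Set G)) ∨ ∃ U : Subgroup G, KMax k U ∧ u * k⁻¹ ∈ U)
    (hB : ∀ U : Subgroup G, KMax k U → Group.IsNilpotent U ∧ k ∈ normalizer (U : Set G) ∧
      (Nat.card (normalizer (U : Set G)) = 3 * Nat.card U ∨
        Nat.card (normalizer (U : Set G)) = 6 * Nat.card U))
    (hC : ∀ U T : Subgroup G, KMax k U → T ≠ ⊥ → T ≤ U → normalizer (U : Set G) ≤ normalizer (T : Set G) →
      (Nat.card (normalizer (U : Set G)) = 6 * Nat.card U ∨ ¬ IsPGroup 2 U) →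
      normalizer (T : Set G) = normalizer (U : Set G))
    (hD : ∀ U : Subgroup G, KMax k U →
      Nat.card {V : Subgroup G // KMax k V ∧ ∃ g : G, V = U.map (MulAut.conj g).toMonoidHom} *
      Nat.card (normalizer (U : Set G)) ≤ 18 * Nat.card U)
    (hE : ∀ U U' : Subgroup G, KMax k U → KMax k U' → q ∣ Nat.card U → q ∣ Nat.card U' →
      (∃ g : G, U' = U.map (MulAut.conj g).toMonoidHom) ∧ q ^ b ∣ Nat.card U ∧ q ^ b % 3 = 1)
    (hF1 : ∀ U : Subgroup G, KMax k U → 8 ∣ Nat.card U → IsPGroup 2 U ∧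
      ((Nat.card (normalizer (U : Set G)) = 3 * Nat.card U ∧ Nat.card U = 2 ^ a) ∨
        (Nat.card (normalizer (U : Set G)) = 6 * Nat.card U ∧ 2 * Nat.card U = 2 ^ a)))
    (hF2 : ∀ U U' : Subgroup G, KMax k U → KMax k U' → 8 ∣ Nat.card U → IsPGroup 2 U → IsPGroup 2 U' → 8 ∣ Nat.card U' →
      ((Nat.card (normalizer (U : Set G)) = 3 * Nat.card U ∧ Nat.card U = 2 ^ a) ∨
        (Nat.card (normalizer (U : Set G)) = 6 * Nat.card U ∧ 2 * Nat.card U = 2 ^ a)) →
      ((Nat.card (normalizer (U' : Set G)) = 3 * Nat.card U' ∧ Nat.card U' = 2 ^ a) ∨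
        (Nat.card (normalizer (U' : Set G)) = 6 * Nat.card U' ∧ 2 * Nat.card U' = 2 ^ a)) →
      ∃ g : G, U' = U.map (MulAut.conj g).toMonoidHom)
    (hV : Nat.card {U : Subgroup G // KMax k U ∧ Nat.card U % 8 = 4} ≤ 9) :
    Nat.card {p : G × G // orderOf p.1 = 3 ∧ orderOf p.2 = 3 ∧ p.1 * p.2 = k⁻¹} ≤
      34 + (if a % 2 = 0 then 6 * (2 ^ a - 1) else 3 * (2 ^ (a - 1) - 1)) +
      (if q ^ b % 3 = 1 then 12 * q ^ b else 0) := by
  have : Fintype (Subgroup G) := Fintype.ofFinite _
  have : Fact (Nat.Prime 2) := ⟨Nat.prime_two⟩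
  set F : Finset (Subgroup G) := Finset.univ.filter (fun U => KMax k U) with hFdef
  have hF : ∀ U, U ∈ F ↔ KMax k U := fun U => by rw [hFdef, Finset.mem_filter]; exact ⟨fun h => h.2, fun h => ⟨Finset.mem_univ _, h⟩⟩
  have hmain := pairs_le h hk hP F hF
  set Fa := F.filter (fun U : Subgroup G => 8 ∣ Nat.card U) with hFa
  set Fb := (F.filter (fun U : Subgroup G => ¬ 8 ∣ Nat.card U)).filter (fun U : Subgroup G => ¬ q ∣ Nat.card U) with hFb
  set Fq := (F.filter (fun U : Subgroup G => ¬ 8 ∣ Nat.card U)).filter (fun U : Subgroup G => q ∣ Nat.card U) with hFq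
  have hsplit : ∑ U ∈ F, (Nat.card U - 1) = ∑ U ∈ Fa, (Nat.card U - 1) + (∑ U ∈ Fq, (Nat.card U - 1) + ∑ U ∈ Fb, (Nat.card U - 1)) := by
    rw [hFa, hFb, hFq, Finset.sum_filter_add_sum_filter_not, Finset.sum_filter_add_sum_filter_not]
  -- alpha part
  have hα : ∑ U ∈ Fa, (Nat.card U - 1) ≤ (if a % 2 = 0 then 6 * (2 ^ a - 1) else 3 * (2 ^ (a - 1) - 1)) := by
    rcases Fa.eq_empty_or_nonempty with h0 | ⟨U0, hU0⟩
    · rw [h0, Finset.sum_empty]; exact Nat.zero_le _
    have hm : ∀ U ∈ Fa, KMax k U ∧ 8 ∣ Nat.card U := by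
      intro U hU
      rw [hFa, Finset.mem_filter] at hU
      exact ⟨(hF U).1 hU.1, hU.2⟩
    obtain ⟨hK0, h80⟩ := hm U0 hU0
    obtain ⟨hp0, hc0⟩ := hF1 U0 hK0 h80
    have hconj : ∀ V ∈ Fa, KMax k V ∧ ∃ g : G, V = U0.map (MulAut.conj g).toMonoidHom := by
      intro V hV'
      obtain ⟨hKV, h8V⟩ := hm V hV'
      obtain ⟨hpV, hcV⟩ := hF1 V hKV h8V
      exact ⟨hKV, hF2 U0 V hK0 hKV h80 hp0 hpV h8V hc0 hcV⟩
    have hmod := kinv_mod h hk hK0.1
    rcases hc0 with ⟨hN, hc⟩ | ⟨hN, hc⟩
    · obtain ⟨h1, h2⟩ := fam_card hK0 (hD U0 hK0) hN Fa hconj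
      rw [hc, pow2_mod] at hmod
      have ha2 : a % 2 = 0 := by
        by_contra hne
        rw [if_neg hne] at hmod
        omega
      rw [if_pos ha2, Finset.sum_congr rfl (fun V hV' => by rw [h2 V hV', hc]), Finset.sum_const, smul_eq_mul]
      exact Nat.mul_le_mul_right _ (by omega)
    · obtain ⟨h1, h2⟩ := fam_card hK0 (hD U0 hK0) hN Fa hconj
      have hc' : Nat.card U0 = 2 ^ (a - 1) := by
        have : 2 ^ a = 2 * 2 ^ (a - 1) := by rw [← pow_succ']; congr 1; omega
        omega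
      rw [hc', pow2_mod] at hmod
      have ha2 : ¬ a % 2 = 0 := by
        intro hne
        rw [if_neg (by omega)] at hmod
        omega
      rw [if_neg ha2, Finset.sum_congr rfl (fun V hV' => by rw [h2 V hV', hc']), Finset.sum_const, smul_eq_mul]
      exact Nat.mul_le_mul_right _ (by omega)
  -- beta part
  have hβ : ∑ U ∈ Fb, (Nat.card U - 1) ≤ 27 := by
    have hm : ∀ U ∈ Fb, KMax k U ∧ Nat.card U = 4 := by
      intro U hU
      rw [hFb, Finset.mem_filter, Finset.mem_filter] at hU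
      obtain ⟨⟨hUF, h8⟩, hqU⟩ := hU
      have hK := (hF U).1 hUF
      refine ⟨hK, ?_⟩
      have h1 := dvd_card hcard hK.1
      have h2 : Nat.card U ∣ 2 ^ a := by
        apply Nat.Coprime.dvd_of_dvd_mul_right _ h1
        exact Nat.Coprime.pow_right b ((Nat.Prime.coprime_iff_not_dvd hq).2 hqU).symm
      obtain ⟨i, -, hi⟩ := (Nat.dvd_prime_pow Nat.prime_two).1 h2
      have h3 : i ≠ 0 := by
        rintro rfl
        rw [pow_zero] at hi
        exact hK.2.1 (Subgroup.card_eq_one.1 hi)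
      obtain ⟨hn, hkU, -⟩ := hB U hK
      have h4 : 4 ∣ Nat.card U := four_dvd h hk hK.1 hn hkU (by rw [hi]; exact dvd_pow_self 2 h3)
      have h5 : i < 3 := by
        by_contra hge
        exact h8 (by rw [hi]; exact pow_dvd_pow 2 (by omega : 3 ≤ i))
      have h6 : i = 1 ∨ i = 2 := by omega
      rcases h6 with rfl | rfl
      · rw [hi] at h4; norm_num at h4
      · rw [hi]; norm_num
    rw [Finset.sum_congr rfl (fun V hV' => by rw [(hm V hV').2]), Finset.sum_const, smul_eq_mul]
    have h1 : Fb.card ≤ Nat.card {U : Subgroup G // KMax k U ∧ Nat.card U % 8 = 4} := by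
      rw [Nat.card_eq_fintype_card, Fintype.card_subtype]
      exact Finset.card_le_card (fun V hV' => Finset.mem_filter.2 ⟨Finset.mem_univ _, (hm V hV').1, by rw [(hm V hV').2]⟩)
    omega
  -- q part
  have hγ : ∑ U ∈ Fq, (Nat.card U - 1) ≤ (if q ^ b % 3 = 1 then 12 * q ^ b else 0) := by
    rcases Fq.eq_empty_or_nonempty with h0 | ⟨U0, hU0⟩
    · rw [h0, Finset.sum_empty]; exact Nat.zero_le _
    have hm : ∀ U ∈ Fq, KMax k U ∧ ¬ 8 ∣ Nat.card U ∧ q ∣ Nat.card U := by
      intro U hU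
      rw [hFq, Finset.mem_filter, Finset.mem_filter] at hU
      exact ⟨(hF U).1 hU.1.1, hU.1.2, hU.2⟩
    obtain ⟨hK0, h80, hq0⟩ := hm U0 hU0
    obtain ⟨-, hqb, hq1⟩ := hE U0 U0 hK0 hK0 hq0 hq0
    have hconj : ∀ V ∈ Fq, KMax k V ∧ ∃ g : G, V = U0.map (MulAut.conj g).toMonoidHom := by
      intro V hV'
      obtain ⟨hKV, h8V, hqV⟩ := hm V hV'
      exact ⟨hKV, (hE U0 V hK0 hKV hq0 hqV).1⟩
    obtain ⟨hn, hkU, hN⟩ := hB U0 hK0
    rw [if_pos hq1]
    have hodd : Odd (q ^ b) := (hq.odd_of_ne_two hq2).pow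
    have hdv := dvd_card hcard hK0.1
    obtain ⟨m, hm'⟩ := hqb
    have hqb0 : 0 < q ^ b := pow_pos hq.pos b
    have hm2 : m ∣ 2 ^ a := by
      rw [hm', mul_comm (2 ^ a)] at hdv
      exact Nat.dvd_of_mul_dvd_mul_left hqb0 hdv
    obtain ⟨i, -, hi⟩ := (Nat.dvd_prime_pow Nat.prime_two).1 hm2
    have hi3 : i < 3 := by
      by_contra hge
      apply h80
      rw [hm', hi]
      exact Dvd.dvd.mul_left (pow_dvd_pow 2 (by omega : 3 ≤ i)) _
    have hi1 : i ≠ 1 := by
      rintro rfl
      have h4 : 4 ∣ Nat.card U0 := four_dvd h hk hK0.1 hn hkU (by rw [hm', hi]; exact Dvd.dvd.mul_left (by norm_num) _)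
      rw [hm', hi] at h4
      obtain ⟨c, hc⟩ := hodd
      obtain ⟨d, hd⟩ := h4
      omega
    have hi02 : i = 0 ∨ i = 2 := by omega
    rcases hi02 with rfl | rfl
    · -- odd
      have hc0 : Nat.card U0 = q ^ b := by rw [hm', hi]; ring
      have hbd : Fq.card ≤ 6 ∧ ∀ V ∈ Fq, Nat.card V = Nat.card U0 := by
        rcases hN with hN | hN
        · obtain ⟨h1, h2⟩ := fam_card hK0 (hD U0 hK0) hN Fq hconj
          exact ⟨by omega, h2⟩
        · obtain ⟨h1, h2⟩ := fam_card hK0 (hD U0 hK0) hN Fq hconj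
          exact ⟨by omega, h2⟩
      rw [Finset.sum_congr rfl (fun V hV' => by rw [hbd.2 V hV', hc0]), Finset.sum_const, smul_eq_mul]
      calc Fq.card * (q ^ b - 1) ≤ 6 * (q ^ b - 1) := Nat.mul_le_mul_right _ hbd.1
        _ ≤ 12 * q ^ b := by omega
    · -- four
      have hc0 : Nat.card U0 = 4 * q ^ b := by rw [hm', hi]; ring
      have hN6 : Nat.card (normalizer (U0 : Set G)) = 6 * Nat.card U0 := by
        rcases hN with hN | hN
        · exfalso
          obtain ⟨T, hTU, hT, hTc, hle⟩ := syl_part hK0.1 hn hkU 2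
          have hfac : (Nat.card U0).factorization 2 = 2 := by
            rw [hc0, Nat.factorization_mul (by norm_num) hqb0.ne', Finsupp.add_apply,
              show (4 : ℕ) = 2 ^ 2 from rfl, Nat.Prime.factorization_pow Nat.prime_two, Finsupp.single_eq_same,
              Nat.factorization_eq_zero_of_not_dvd (n := q ^ b)]
            obtain ⟨c, hc⟩ := hodd
            omega
          rw [hfac] at hTc
          have hT1 : T ≠ ⊥ := by
            rintro rfl
            rw [Subgroup.card_bot] at hTc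
            norm_num at hTc
          have hnp : ¬ IsPGroup 2 U0 := by
            intro hp
            obtain ⟨n, hn'⟩ := IsPGroup.iff_card.1 hp
            rw [hn'] at hq0
            have := (Nat.prime_dvd_prime_iff_eq hq Nat.prime_two).1 (hq.dvd_of_dvd_pow hq0)
            exact hq2 this
          have hNT := hC U0 T hK0 hT1 hTU hle (Or.inr hnp)
          have hdiv : 2 ^ (2 + 1) ∣ Nat.card G := by
            rw [hcard]
            exact Dvd.dvd.mul_right (Dvd.dvd.mul_left (pow_dvd_pow 2 ha) 9) _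
          have h1 := Sylow.prime_dvd_card_quotient_normalizer hdiv hTc
          have h2 : Nat.card (normalizer (T : Set G)) = Nat.card (normalizer (T : Set G) ⧸ T.comap (normalizer (T : Set G)).subtype) * Nat.card T := by
            rw [Subgroup.card_eq_card_quotient_mul_card_subgroup (T.comap (normalizer (T : Set G)).subtype)]
            congr 1
            exact Nat.card_congr (Subgroup.subgroupOfEquivOfLe Subgroup.le_normalizer).toEquiv
          rw [hTc, hNT, hN, hc0] at h2
          obtain ⟨c, hc⟩ := hodd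
          rw [hNT] at h1
          obtain ⟨d, hd⟩ := h1
          rw [hd] at h2
          omega
        · exact hN
      obtain ⟨h1, h2⟩ := fam_card hK0 (hD U0 hK0) hN6 Fq hconj
      rw [Finset.sum_congr rfl (fun V hV' => by rw [h2 V hV', hc0]), Finset.sum_const, smul_eq_mul]
      calc Fq.card * (4 * q ^ b - 1) ≤ 3 * (4 * q ^ b - 1) := Nat.mul_le_mul_right _ (by omega)
        _ ≤ 12 * q ^ b := by omega
  rw [hsplit] at hmain
  omega

end
end Cfsg.Agent.Lib.H15SIa
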