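import Mathlib
import Cfsg.Agent.Lib.H15S0

/-! S2220, piece P (helper57): pairs of elements of order 3 with product `k⁻¹`. -/

set_option autoImplicit false
set_option linter.all false

namespace Cfsg.Agent.Lib.H15SP

open Subgroup Cfsg.Agent.Lib.H15S

variable {G : Type*} [Group G] [Finite G]

/-- a nontrivial `k`-invariant 3'-subgroup lies in a maximal one -/
theorem exists_max {k : G} {A : Subgroup G} (hA : KInv k A) (h1 : A ≠ ⊥) : ∃ U, KMax k U ∧ A ≤ U := by
  haveI : Finite (Subgroup G) := inferInstance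
  obtain ⟨U, hAU, hU⟩ := Finite.exists_le_maximal (p := fun V : Subgroup G => KInv k V) hA
  refine ⟨U, ⟨hU.prop, ?_, ?_⟩, hAU⟩
  · intro h; apply h1; rw [eq_bot_iff, ← h]; exact hAU
  · intro V hV hUV
    exact le_antisymm (hU.le_of_ge hV hUV) hUV

theorem P_pairs (h : HK G) (h27 : ¬ 27 ∣ Nat.card G) {k : G} (hk : orderOf k = 3) {u v : G}
    (hu : orderOf u = 3) (hv : orderOf v = 3) (huv : u * v = k⁻¹) :
    (u * k⁻¹ ∈ Subgroup.centralizer ({k} : Set G)) ∨ ∃ U : Subgroup G, KMax k U ∧ u * k⁻¹ ∈ U := by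
  have hk3 : k * k * k = 1 := by have := pow_orderOf_eq_one k; rw [hk, pow_succ, pow_two] at this; exact this
  have hu3 : u * u * u = 1 := by have := pow_orderOf_eq_one u; rw [hu, pow_succ, pow_two] at this; exact this
  have hv3 : v * v * v = 1 := by have := pow_orderOf_eq_one v; rw [hv, pow_succ, pow_two] at this; exact this
  have hkk : k⁻¹ * k⁻¹ = k := by
    calc k⁻¹ * k⁻¹ = (k * k * k) * (k⁻¹ * k⁻¹) := by rw [hk3, one_mul]
      _ = k := by group
  have hkk' : k * k = k⁻¹ := by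
    calc k * k = (k * k * k) * k⁻¹ := by group
      _ = k⁻¹ := by rw [hk3, one_mul]
  have huu : u * u = u⁻¹ := by
    calc u * u = (u * u * u) * u⁻¹ := by group
      _ = u⁻¹ := by rw [hu3, one_mul]
  have hvk : v = u⁻¹ * k⁻¹ := by rw [← huv]; group
  have hku : u * k * u = k⁻¹ * u⁻¹ * k⁻¹ := by
    have e1 : (u⁻¹ * k⁻¹) * (u⁻¹ * k⁻¹) * (u⁻¹ * k⁻¹) = 1 := by rw [← hvk]; exact hv3
    calc u * k * u = u * k * u * ((u⁻¹ * k⁻¹) * (u⁻¹ * k⁻¹) * (u⁻¹ * k⁻¹)) := by rw [e1, mul_one]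
      _ = k⁻¹ * u⁻¹ * k⁻¹ := by group
  set w := u * k⁻¹ with hw
  have c1 : w * (k⁻¹ * w * k) = (k⁻¹ * w * k) * w := by
    have e1 : w * (k⁻¹ * w * k) = u * k * u := by
      calc w * (k⁻¹ * w * k) = u * (k⁻¹ * k⁻¹) * u := by rw [hw]; group
        _ = u * k * u := by rw [hkk]
    have e2 : (k⁻¹ * w * k) * w = k⁻¹ * u⁻¹ * k⁻¹ := by
      calc (k⁻¹ * w * k) * w = k⁻¹ * (u * u) * k⁻¹ := by rw [hw]; group
        _ = _ := by rw [huu]
    rw [e1, e2, hku]
  have c2 : (k * w * k⁻¹) * w = w * (k * w * k⁻¹) := by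
    have := congrArg (fun x => k * x * k⁻¹) c1
    calc (k * w * k⁻¹) * w = k * (w * (k⁻¹ * w * k)) * k⁻¹ := by group
      _ = k * ((k⁻¹ * w * k) * w) * k⁻¹ := by rw [c1]
      _ = _ := by group
  have e0 : k * (k * w * k⁻¹) * k⁻¹ = k⁻¹ * w * k := by
    calc k * (k * w * k⁻¹) * k⁻¹ = (k * k) * w * (k⁻¹ * k⁻¹) := by group
      _ = _ := by rw [hkk, hkk']
  have c3 : (k⁻¹ * w * k) * (k * w * k⁻¹) = (k * w * k⁻¹) * (k⁻¹ * w * k) := by
    calc (k⁻¹ * w * k) * (k * w * k⁻¹) = (k * (k * w * k⁻¹) * k⁻¹) * (k * w * k⁻¹) := by rw [e0]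
      _ = k * ((k * w * k⁻¹) * w) * k⁻¹ := by group
      _ = k * (w * (k * w * k⁻¹)) * k⁻¹ := by rw [c2]
      _ = (k * w * k⁻¹) * (k * (k * w * k⁻¹) * k⁻¹) := by group
      _ = _ := by rw [e0]
  set S : Set G := {w, k * w * k⁻¹, k⁻¹ * w * k} with hS
  have hSc : ∀ x ∈ S, ∀ y ∈ S, x * y = y * x := by
    rintro x (rfl | rfl | rfl) y (rfl | rfl | rfl)
    · rfl
    · exact c2.symm
    · exact c1
    · exact c2
    · rfl
    · exact c3.symm
    · exact c1.symm
    · exact c3
    · rfl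
  set A := Subgroup.closure S with hA
  have hAA : A ≤ Subgroup.centralizer (A : Set G) := by
    have h1 : A ≤ Subgroup.centralizer S := by
      rw [hA, Subgroup.closure_le]
      intro x hx
      rw [SetLike.mem_coe, Subgroup.mem_centralizer_iff]
      intro y hy
      exact hSc y hy x hx
    have h2 : S ⊆ Subgroup.centralizer (A : Set G) := by
      intro x hx
      rw [SetLike.mem_coe, Subgroup.mem_centralizer_iff]
      intro y hy
      exact (Subgroup.mem_centralizer_iff.1 (h1 hy) x hx).symm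
    rw [hA]
    exact (Subgroup.closure_le _).2 h2
  have hAc : ∀ x ∈ A, ∀ y ∈ A, x * y = y * x := fun x hx y hy => Subgroup.mem_centralizer_iff.1 (hAA hy) x hx
  have hkA : ∀ x ∈ A, k * x * k⁻¹ ∈ A := by
    have h1 : A ≤ A.comap (MulAut.conj k).toMonoidHom := by
      conv_lhs => rw [hA]
      rw [Subgroup.closure_le]
      rintro x (rfl | rfl | rfl)
      · show k * w * k⁻¹ ∈ A
        exact Subgroup.subset_closure (Or.inr (Or.inl rfl))
      · show k * (k * w * k⁻¹) * k⁻¹ ∈ A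
        rw [e0]; exact Subgroup.subset_closure (Or.inr (Or.inr rfl))
      · show k * (k⁻¹ * w * k) * k⁻¹ ∈ A
        have : k * (k⁻¹ * w * k) * k⁻¹ = w := by group
        rw [this]; exact Subgroup.subset_closure (Or.inl rfl)
    intro x hx
    exact h1 hx
  have hwA : w ∈ A := Subgroup.subset_closure (Or.inl rfl)
  by_cases h3 : 3 ∣ Nat.card A
  · left
    haveI : Fact (Nat.Prime 3) := ⟨Nat.prime_three⟩
    obtain ⟨c, hc⟩ := exists_prime_orderOf_dvd_card' 3 h3
    have hc' : orderOf (c : G) = 3 := by rw [Subgroup.orderOf_coe]; exact hc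
    have h1 : A ≤ Subgroup.centralizer ({(c : G)} : Set G) := by
      intro x hx
      rw [Subgroup.mem_centralizer_singleton_iff]
      exact hAc x hx _ c.2
    have h2 : Nat.card A ∣ 3 ^ 2 := by
      have := Subgroup.card_dvd_of_le h1
      rwa [h.cen9 _ hc'] at this
    have hpA : IsPGroup 3 A := by
      obtain ⟨m, _, hm⟩ := (Nat.dvd_prime_pow Nat.prime_three).1 h2
      exact IsPGroup.of_card hm
    have hpk : IsPGroup 3 (Subgroup.zpowers k) := IsPGroup.of_card (n := 1) (by rw [Nat.card_zpowers, hk, pow_one])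
    have hn : Subgroup.zpowers k ≤ Subgroup.normalizer (A : Set G) := by
      rw [Subgroup.zpowers_le, Subgroup.mem_normalizer_iff]
      intro x
      constructor
      · exact hkA x
      · intro hx
        have h5 := hkA _ (hkA _ hx)
        have e5 : k * (k * (k * x * k⁻¹) * k⁻¹) * k⁻¹ = x := by
          calc k * (k * (k * x * k⁻¹) * k⁻¹) * k⁻¹ = (k * k * k) * x * (k * k * k)⁻¹ := by group
            _ = x := by rw [hk3]; group
        rwa [e5] at h5
    have hP := IsPGroup.to_sup_of_normal_right' hpk hpA hn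
    obtain ⟨m, hm⟩ := IsPGroup.iff_card.1 hP
    have hm2 : m ≤ 2 := by
      by_contra hcon
      apply h27
      have h6 : 3 ^ 3 ∣ 3 ^ m := pow_dvd_pow 3 (by omega)
      rw [← hm] at h6
      exact h6.trans (Subgroup.card_subgroup_dvd_card _)
    have hkP : k ∈ Subgroup.zpowers k ⊔ A := (le_sup_left : Subgroup.zpowers k ≤ _) (Subgroup.mem_zpowers k)
    have hwP : w ∈ Subgroup.zpowers k ⊔ A := (le_sup_right : A ≤ _) hwA
    have hcomm : ∀ x y : ↥(Subgroup.zpowers k ⊔ A), x * y = y * x := by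
      interval_cases m
      · haveI : Subsingleton ↥(Subgroup.zpowers k ⊔ A) := (Nat.card_eq_one_iff_unique.1 (by simpa using hm)).1
        intro x y; exact Subsingleton.elim _ _
      · haveI : IsCyclic ↥(Subgroup.zpowers k ⊔ A) := isCyclic_of_prime_card (p := 3) (by simpa using hm)
        intro x y
        obtain ⟨g, hg⟩ := IsCyclic.exists_generator (α := ↥(Subgroup.zpowers k ⊔ A))
        obtain ⟨i, rfl⟩ := Subgroup.mem_zpowers_iff.1 (hg x)
        obtain ⟨j, rfl⟩ := Subgroup.mem_zpowers_iff.1 (hg y)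
        rw [← zpow_add, ← zpow_add, add_comm]
      · exact IsPGroup.commutative_of_card_eq_prime_sq (p := 3) hm
    have := congrArg Subtype.val (hcomm ⟨w, hwP⟩ ⟨k, hkP⟩)
    rw [Subgroup.mem_centralizer_singleton_iff]
    exact this
  · by_cases h1 : A = ⊥
    · left
      have : w = 1 := by rw [h1] at hwA; exact Subgroup.mem_bot.1 hwA
      rw [this]; exact Subgroup.one_mem _
    · right
      obtain ⟨U, hU, hAU⟩ := exists_max ⟨hkA, h3⟩ h1
      exact ⟨U, hU, hAU hwA⟩

end Cfsg.Agent.Lib.H15SP
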