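import Mathlib
import Cfsg.Agent.Lib.H15S0
import Cfsg.Agent.Lib.H23Nilp

set_option autoImplicit false
set_option linter.all false

namespace Cfsg.Agent.Lib.H15SV

open Subgroup Cfsg.Agent.Lib.H15S

section
variable {G : Type*} [Group G] [Finite G]

/-- local facts on the Sylow 2-subgroup of `U` -/
theorem exists_E (h : HK G) {k : G} (hk : orderOf k = 3)
    {U : Subgroup G} (hU : KMax k U) (hnil : Group.IsNilpotent U) (hkN : k ∈ normalizer (U : Set G))
    (h8 : Nat.card U % 8 = 4) :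
    ∃ E : Subgroup G, (∀ u, u ∈ E ↔ u ∈ U ∧ u ^ 4 = 1) ∧ Nat.card E = 4 ∧
      U = centralizer (E : Set G) ∧ normalizer (E : Set G) = normalizer (U : Set G) := by
  classical
  have : Fact (Nat.Prime 2) := ⟨Nat.prime_two⟩
  obtain ⟨P⟩ : Nonempty (Sylow 2 U) := inferInstance
  have hPn : (P : Subgroup U).Normal := by
    have tf := (Group.isNilpotent_of_finite_tfae (G := U)).out 0 3
    exact tf.1 hnil 2 inferInstance P
  have hPc : Nat.card P = 4 := by
    have h1 := P.card_mul_index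
    have h2 : ¬ 2 ∣ (P : Subgroup U).index := P.not_dvd_index
    obtain ⟨n, hn⟩ := (IsPGroup.iff_card.1 P.isPGroup')
    rw [hn] at h1 ⊢
    rw [← h1] at h8
    obtain ⟨m, hm⟩ : ∃ m, m = (P : Subgroup U).index := ⟨_, rfl⟩
    rw [← hm] at h2 h8
    rcases (by omega : n = 0 ∨ n = 1 ∨ n = 2 ∨ 3 ≤ n) with rfl | rfl | rfl | h3
    · omega
    · omega
    · rfl
    · obtain ⟨j, rfl⟩ : ∃ j, n = 3 + j := ⟨n - 3, by omega⟩
      rw [pow_add, mul_assoc, show (2 : ℕ) ^ 3 = 8 from rfl, Nat.mul_mod_right] at h8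
      omega
  have hmemP : ∀ u : U, u ∈ P ↔ u ^ 4 = 1 := by
    intro u
    constructor
    · intro hu
      have := pow_card_eq_one' (x := (⟨u, hu⟩ : (P : Subgroup U)))
      rw [hPc] at this
      exact congrArg Subtype.val this
    · intro hu
      have h1 : IsPGroup 2 (zpowers u) := by
        have h2 : orderOf u ∣ 2 ^ 2 := orderOf_dvd_of_pow_eq_one hu
        obtain ⟨j, -, hj⟩ := (Nat.dvd_prime_pow Nat.prime_two).1 h2
        apply IsPGroup.of_card (n := j)
        rw [Nat.card_zpowers, hj]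
      obtain ⟨Q, hQ⟩ := h1.exists_le_sylow
      have hQP : Q = P := by
        have := Sylow.unique_of_normal P hPn
        exact Subsingleton.elim _ _
      rw [hQP] at hQ
      exact hQ (mem_zpowers u)
  obtain ⟨E, hE⟩ : ∃ E : Subgroup G, E = (P : Subgroup U).map U.subtype := ⟨_, rfl⟩
  have hEm : ∀ u, u ∈ E ↔ u ∈ U ∧ u ^ 4 = 1 := by
    intro u
    rw [hE]
    constructor
    · rintro ⟨v, hv, rfl⟩
      exact ⟨v.2, congrArg Subtype.val ((hmemP v).1 hv)⟩
    · rintro ⟨hu, hu4⟩
      exact ⟨⟨u, hu⟩, (hmemP _).2 (Subtype.ext hu4), rfl⟩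
  have hEc : Nat.card E = 4 := by
    rw [hE, Subgroup.card_map_of_injective U.subtype_injective]; exact hPc
  have hEU : E ≤ U := fun u hu => ((hEm u).1 hu).1
  have hEcomm : ∀ a ∈ E, ∀ b ∈ E, a * b = b * a := by
    have h2 : IsMulCommutative E := by
      have := IsPGroup.isMulCommutative_of_card_eq_prime_sq (p := 2) (G := E) (by rw [hEc]; norm_num)
      exact this
    intro a ha b hb
    exact congrArg Subtype.val (h2.is_comm.comm ⟨a, ha⟩ ⟨b, hb⟩)
  have hNE : normalizer (U : Set G) ≤ normalizer (E : Set G) := by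
    intro g hg
    rw [mem_normalizer_iff] at hg ⊢
    intro u
    rw [hEm, hEm, ← hg u]
    constructor
    · rintro ⟨h1, h2⟩
      exact ⟨h1, by rw [conj_pow, h2, mul_one, mul_inv_cancel]⟩
    · rintro ⟨h1, h2⟩
      refine ⟨h1, ?_⟩
      rw [conj_pow] at h2
      have : u ^ 4 = g⁻¹ * (g * u ^ 4 * g⁻¹) * g := by group
      rw [this, h2]; group
  have hUC : U ≤ centralizer (E : Set G) := by
    intro u hu
    rw [mem_centralizer_iff]
    intro e he
    -- u = u^(4a) * u^(m b)
    obtain ⟨m, hm⟩ : ∃ m, Nat.card U = 4 * m := ⟨Nat.card U / 4, by omega⟩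
    have hmo : m % 2 = 1 := by omega
    have hum : u ^ m ∈ E := by
      rw [hEm]
      refine ⟨U.pow_mem hu _, ?_⟩
      rw [← pow_mul, mul_comm, ← hm]
      have := pow_card_eq_one' (x := (⟨u, hu⟩ : U))
      exact congrArg Subtype.val this
    have hu4 : (u ^ 4) * e = e * (u ^ 4) := by
      apply H23Nilp.commute_of_coprime_of_mem hnil (U.pow_mem hu _) (hEU he)
      have h1 : orderOf (u ^ 4) ∣ m := by
        apply orderOf_dvd_of_pow_eq_one
        rw [← pow_mul, ← hm]
        exact congrArg Subtype.val (pow_card_eq_one' (x := (⟨u, hu⟩ : U)))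
      have h2 : orderOf e ∣ 4 := orderOf_dvd_of_pow_eq_one ((hEm e).1 he).2
      apply Nat.Coprime.coprime_dvd_left h1
      apply Nat.Coprime.coprime_dvd_right h2
      have : Nat.Coprime m 2 := by
        rw [Nat.coprime_comm, Nat.prime_two.coprime_iff_not_dvd]; omega
      exact Nat.Coprime.pow_right 2 this
    have hcop : Nat.gcd 4 m = 1 := by
      have : Nat.Coprime 2 m := by
        rw [Nat.prime_two.coprime_iff_not_dvd]; omega
      exact Nat.Coprime.pow_left 2 this
    have hbez := Nat.gcd_eq_gcd_ab 4 m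
    rw [hcop] at hbez
    have hu1 : u = (u ^ 4) ^ (Nat.gcdA 4 m) * (u ^ m) ^ (Nat.gcdB 4 m) := by
      rw [← zpow_natCast, ← zpow_natCast u m, ← zpow_mul, ← zpow_mul, ← zpow_add]
      have : ((4 : ℕ) : ℤ) * Nat.gcdA 4 m + (m : ℤ) * Nat.gcdB 4 m = 1 := by
        rw [← hbez]; rfl
      rw [this, zpow_one]
    have c1 : Commute (u ^ 4) e := hu4
    have c2 : Commute (u ^ m) e := hEcomm _ hum _ he
    have c3 : Commute u e := by
      rw [hu1]
      exact (c1.zpow_left _).mul_left (c2.zpow_left _)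
    exact c3.symm
  have hkE : k ∈ normalizer (E : Set G) := hNE hkN
  have hCinv : KInv k (centralizer (E : Set G)) := by
    constructor
    · intro u hu
      rw [mem_centralizer_iff] at hu ⊢
      intro e he
      have h1 : k⁻¹ * e * k ∈ E := by
        have := (mem_normalizer_iff.1 (inv_mem hkE) e).1 he
        simpa using this
      have h2 := hu _ h1
      calc e * (k * u * k⁻¹) = k * ((k⁻¹ * e * k) * u) * k⁻¹ := by group
        _ = k * (u * (k⁻¹ * e * k)) * k⁻¹ := by rw [h2]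
        _ = k * u * k⁻¹ * e := by group
    · intro h3
      have : Fact (Nat.Prime 3) := ⟨Nat.prime_three⟩
      obtain ⟨c, hc⟩ := exists_prime_orderOf_dvd_card' 3 h3
      have hc3 : orderOf (c : G) = 3 := by rw [← hc]; exact Subgroup.orderOf_coe c
      have h9 := h.cen9 (c : G) hc3
      have h4 : E ≤ centralizer ({(c : G)} : Set G) := by
        intro e he
        rw [mem_centralizer_singleton_iff]
        exact (mem_centralizer_iff.1 c.2 e he)
      have h5 := Subgroup.card_dvd_of_le h4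
      rw [h9, hEc] at h5
      omega
  have hUeq : U = centralizer (E : Set G) := (hU.2.2 _ hCinv hUC).symm
  refine ⟨E, hEm, hEc, hUeq, le_antisymm ?_ hNE⟩
  intro g hg
  rw [mem_normalizer_iff] at hg ⊢
  intro u
  have key : ∀ g : G, (∀ e, e ∈ E ↔ g * e * g⁻¹ ∈ E) → ∀ u, u ∈ U → g * u * g⁻¹ ∈ U := by
    intro g hg u hu
    rw [hUeq, mem_centralizer_iff] at hu ⊢
    intro e he
    have h1 : g⁻¹ * e * g ∈ E := by
      rw [hg]
      have : g * (g⁻¹ * e * g) * g⁻¹ = e := by group
      rwa [this]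
    have h2 := hu _ h1
    calc e * (g * u * g⁻¹) = g * ((g⁻¹ * e * g) * u) * g⁻¹ := by group
      _ = g * (u * (g⁻¹ * e * g)) * g⁻¹ := by rw [h2]
      _ = g * u * g⁻¹ * e := by group
  constructor
  · exact key g hg u
  · intro hu
    have h1 := key g⁻¹ (fun e => by
      have := hg (g⁻¹ * e * g)
      have e1 : g * (g⁻¹ * e * g) * g⁻¹ = e := by group
      rw [e1] at this
      rw [inv_inv]
      exact this.symm) _ hu
    have : g⁻¹ * (g * u * g⁻¹) * g⁻¹⁻¹ = u := by group
    rwa [this] at h1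

theorem exists_t (h : HK G) {k : G} (hk : orderOf k = 3) (S : Sylow 2 G)
    {z : G} (hz : z ∈ (S : Subgroup G)) (hz1 : z ≠ 1) (hzc : ∀ s ∈ (S : Subgroup G), s * z = z * s)
    {U : Subgroup G} (hU : KMax k U) (hnil : Group.IsNilpotent U) (hkN : k ∈ normalizer (U : Set G))
    (h8 : Nat.card U % 8 = 4) :
    ∃ (g : G) (t : (S : Subgroup G)), t ≠ 1 ∧ (t : G) ≠ z ∧
      Nat.card (centralizer ({t} : Set (S : Subgroup G))) = 4 ∧
      U.map (MulAut.conj g).toMonoidHom = centralizer
        (((centralizer ({t} : Set (S : Subgroup G))).map (S : Subgroup G).subtype : Subgroup G) : Set G) := by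
  classical
  have : Fact (Nat.Prime 2) := ⟨Nat.prime_two⟩
  obtain ⟨E, hEm, hEc, hUeq, -⟩ := exists_E h hk hU hnil hkN h8
  have hE2 : IsPGroup 2 E := IsPGroup.of_card (n := 2) (by rw [hEc]; norm_num)
  obtain ⟨T, hT⟩ := hE2.exists_le_sylow
  obtain ⟨g, hg⟩ := MulAction.exists_smul_eq G T S
  obtain ⟨E1, hE1⟩ : ∃ E1 : Subgroup G, E1 = E.map (MulAut.conj g).toMonoidHom := ⟨_, rfl⟩
  have hE1c : Nat.card E1 = 4 := by
    rw [hE1, Subgroup.card_map_of_injective (MulAut.conj g).injective]; exact hEc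
  have hE1S : E1 ≤ S := by
    rw [hE1]
    rintro _ ⟨e, he, rfl⟩
    rw [← hg]
    exact (Subgroup.mem_smul_pointwise_iff_exists _ _ _).2 ⟨e, hT he, rfl⟩
  have hE1m : ∀ x, x ∈ E1 ↔ g⁻¹ * x * g ∈ E := by
    intro x
    rw [hE1]
    constructor
    · rintro ⟨e, he, rfl⟩
      have : g⁻¹ * (g * e * g⁻¹) * g = e := by group
      show g⁻¹ * (g * e * g⁻¹) * g ∈ E
      rw [this]; exact he
    · intro hx
      exact ⟨_, hx, by show g * (g⁻¹ * x * g) * g⁻¹ = x; group⟩
  have hUm : ∀ x, x ∈ U.map (MulAut.conj g).toMonoidHom ↔ g⁻¹ * x * g ∈ U := by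
    intro x
    constructor
    · rintro ⟨e, he, rfl⟩
      have : g⁻¹ * (g * e * g⁻¹) * g = e := by group
      show g⁻¹ * (g * e * g⁻¹) * g ∈ U
      rw [this]; exact he
    · intro hx
      exact ⟨_, hx, by show g * (g⁻¹ * x * g) * g⁻¹ = x; group⟩
  have hCm : ∀ x, g⁻¹ * x * g ∈ U ↔ ∀ e ∈ E1, e * x = x * e := by
    intro x
    rw [hUeq, mem_centralizer_iff]
    constructor
    · intro hx e he
      have h1 := hx _ ((hE1m e).1 he)
      have h2 : e * x = g * ((g⁻¹ * e * g) * (g⁻¹ * x * g)) * g⁻¹ := by group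
      rw [h2, h1]; group
    · intro hx e he
      have h1 := hx (g * e * g⁻¹) ((hE1m _).2 (by
        have : g⁻¹ * (g * e * g⁻¹) * g = e := by group
        rwa [this]))
      have h2 : e * (g⁻¹ * x * g) = g⁻¹ * ((g * e * g⁻¹) * x) * g := by group
      rw [h2, h1]; group
  have hE1comm : ∀ a ∈ E1, ∀ b ∈ E1, a * b = b * a := by
    have h2 : IsMulCommutative E1 :=
      IsPGroup.isMulCommutative_of_card_eq_prime_sq (p := 2) (G := E1) (by rw [hE1c]; norm_num)
    intro a ha b hb
    exact congrArg Subtype.val (h2.is_comm.comm ⟨a, ha⟩ ⟨b, hb⟩)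
  have hSC : ∀ x ∈ (S : Subgroup G), (∀ e ∈ E1, e * x = x * e) → x ∈ E1 := by
    intro x hx hxe
    rw [hE1m, hEm]
    have h1 : g⁻¹ * x * g ∈ U := (hCm x).2 hxe
    refine ⟨h1, ?_⟩
    have h2 : orderOf (g⁻¹ * x * g) = orderOf x := by
      have := (MulAut.conj g⁻¹).orderOf_eq x
      rw [← this, MulAut.conj_apply, inv_inv]
    obtain ⟨j, hj⟩ : ∃ j, orderOf x = 2 ^ j := by
      obtain ⟨j, hj⟩ := (IsPGroup.iff_orderOf.1 S.isPGroup') ⟨x, hx⟩
      exact ⟨j, by rw [← hj, Subgroup.orderOf_mk]⟩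
    have h3 : orderOf (g⁻¹ * x * g) ∣ Nat.card U := by
      have := orderOf_dvd_natCard (⟨_, h1⟩ : U)
      rwa [Subgroup.orderOf_mk] at this
    rw [h2, hj] at h3
    have hj2 : j ≤ 2 := by
      by_contra hcon
      have h4 : 2 ^ 3 ∣ Nat.card U := (pow_dvd_pow 2 (by omega : 3 ≤ j)).trans h3
      omega
    apply orderOf_dvd_iff_pow_eq_one.1
    rw [h2, hj]
    exact pow_dvd_pow 2 hj2
  have hzE : z ∈ E1 := hSC z hz fun e he => hzc e (hE1S he)
  obtain ⟨t, htE, ht1, htz⟩ : ∃ t ∈ E1, t ≠ 1 ∧ t ≠ z := by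
    by_contra hcon
    push Not at hcon
    have h1 : (E1 : Set G) ⊆ (({1, z} : Finset G) : Set G) := by
      intro x hx
      by_cases hx1 : x = 1
      · simp [hx1]
      · simp [hcon x hx hx1]
    have h2 := Set.ncard_le_ncard h1 (Finset.finite_toSet _)
    rw [Set.ncard_coe_finset] at h2
    have h3 := Finset.card_le_two (a := (1 : G)) (b := z)
    have h4 : (E1 : Set G).ncard = 4 := hE1c
    omega
  have hCt : ∀ x ∈ (S : Subgroup G), (x * t = t * x ↔ x ∈ E1) := by
    intro x hx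
    constructor
    · intro hxt
      apply hSC x hx
      have h1 : Nat.card (E1 ⊓ centralizer ({x} : Set G) : Subgroup G) = 4 := by
        have h2 : Nat.card (E1 ⊓ centralizer ({x} : Set G) : Subgroup G) ∣ 4 := by
          rw [← hE1c]; exact Subgroup.card_dvd_of_le inf_le_left
        have h3 : 3 ≤ Nat.card (E1 ⊓ centralizer ({x} : Set G) : Subgroup G) := by
          have h4 : (({1, z, t} : Finset G) : Set G) ⊆ (E1 ⊓ centralizer ({x} : Set G) : Subgroup G) := by
            intro y hy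
            simp only [Finset.coe_insert, Finset.coe_singleton, Set.mem_insert_iff, Set.mem_singleton_iff] at hy
            rcases hy with rfl | rfl | rfl
            · exact one_mem _
            · exact ⟨hzE, mem_centralizer_singleton_iff.2 (hzc x hx).symm⟩
            · exact ⟨htE, mem_centralizer_singleton_iff.2 hxt.symm⟩
          have h5 := Set.ncard_le_ncard h4 (Set.toFinite _)
          rw [Set.ncard_coe_finset] at h5
          have h6 : ({1, z, t} : Finset G).card = 3 := by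
            rw [Finset.card_eq_three]
            exact ⟨1, z, t, hz1.symm, ht1.symm, htz.symm, rfl⟩
          rw [h6] at h5
          exact h5
        obtain ⟨m, hm⟩ := h2
        have : Nat.card (E1 ⊓ centralizer ({x} : Set G) : Subgroup G) ≤ 4 := Nat.le_of_dvd (by norm_num) ⟨m, hm⟩
        have hm' : m = 1 := by
          rcases (by omega : m = 0 ∨ m = 1 ∨ 2 ≤ m) with rfl | rfl | h7
          · omega
          · rfl
          · exfalso; nlinarith
        rw [hm', mul_one] at hm
        exact hm.symm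
      have h7 : (E1 ⊓ centralizer ({x} : Set G) : Subgroup G) = E1 :=
        Subgroup.eq_of_le_of_card_ge inf_le_left (by rw [h1, hE1c])
      intro e he
      rw [← h7] at he
      exact mem_centralizer_singleton_iff.1 he.2
    · intro hxE
      exact hE1comm x hxE t htE
  have hmap : (centralizer ({(⟨t, hE1S htE⟩ : (S : Subgroup G))} : Set (S : Subgroup G))).map
      (S : Subgroup G).subtype = E1 := by
    ext x
    constructor
    · rintro ⟨y, hy, rfl⟩
      have h1 := mem_centralizer_singleton_iff.1 hy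
      exact (hCt y y.2).1 (congrArg Subtype.val h1)
    · intro hx
      refine ⟨⟨x, hE1S hx⟩, ?_, rfl⟩
      exact mem_centralizer_singleton_iff.2 (Subtype.ext ((hCt x (hE1S hx)).2 hx))
  refine ⟨g, ⟨t, hE1S htE⟩, fun hh => ht1 (congrArg Subtype.val hh), htz, ?_, ?_⟩
  · rw [← Subgroup.card_map_of_injective (S : Subgroup G).subtype_injective, hmap, hE1c]
  · rw [hmap]
    ext x
    rw [hUm, hCm, mem_centralizer_iff]
    rfl

theorem card_carrier_mul_centralizer {G : Type*} [Group G] (g : G) :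
    Nat.card (ConjClasses.mk g).carrier * Nat.card (Subgroup.centralizer ({g} : Set G)) = Nat.card G := by
  rw [Subgroup.nat_card_centralizer_nat_card_stabilizer, ← ConjAct.orbit_eq_carrier_conjClasses,
    Nat.card_coe_set_eq, ← MulAction.index_stabilizer, mul_comm, Subgroup.card_mul_index]
  rfl

theorem card_classes {S : Type*} [Group S] [Finite S] (h8 : 1 ≤ Nat.card S) {z : S} (hz1 : z ≠ 1)
    (hzc : ∀ s : S, s * z = z * s) (C : Finset (ConjClasses S))
    (hC : ∀ c ∈ C, ∃ t : S, c = ConjClasses.mk t ∧ t ≠ 1 ∧ t ≠ z ∧ Nat.card (centralizer ({t} : Set S)) = 4) :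
    C.card ≤ 3 := by
  classical
  have : Fintype S := Fintype.ofFinite S
  have hsz : ∀ c ∈ C, 4 * c.carrier.toFinset.card = Fintype.card S := by
    intro c hc
    obtain ⟨t, rfl, -, -, h4⟩ := hC c hc
    have := card_carrier_mul_centralizer t
    rw [h4, Nat.card_eq_fintype_card, Nat.card_eq_fintype_card] at this
    rw [Set.toFinset_card, mul_comm]
    exact this
  have h1 : ConjClasses.mk (1 : S) ∉ C := by
    intro hc
    obtain ⟨t, ht, ht1, -, -⟩ := hC _ hc
    obtain ⟨g, hg⟩ := isConj_iff.1 (ConjClasses.mk_eq_mk_iff_isConj.1 ht)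
    rw [mul_one, mul_inv_cancel] at hg
    exact ht1 hg.symm
  have h2 : ConjClasses.mk z ∉ C := by
    intro hc
    obtain ⟨t, ht, -, htz, -⟩ := hC _ hc
    obtain ⟨g, hg⟩ := isConj_iff.1 (ConjClasses.mk_eq_mk_iff_isConj.1 ht)
    rw [hzc g, mul_inv_cancel_right] at hg
    exact htz hg.symm
  have h3 : ConjClasses.mk (1 : S) ≠ ConjClasses.mk z := by
    intro ht
    obtain ⟨g, hg⟩ := isConj_iff.1 (ConjClasses.mk_eq_mk_iff_isConj.1 ht)
    rw [mul_one, mul_inv_cancel] at hg
    exact hz1 hg.symm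
  have h4 := sum_conjClasses_card_eq_card (G := S)
  have h5 : ∑ x ∈ insert (ConjClasses.mk (1 : S)) (insert (ConjClasses.mk z) C), x.carrier.toFinset.card ≤ Fintype.card S := by
    rw [← h4]
    exact Finset.sum_le_sum_of_subset (Finset.subset_univ _)
  rw [Finset.sum_insert (by rw [Finset.mem_insert, not_or]; exact ⟨h3, h1⟩), Finset.sum_insert h2] at h5
  have hpos : ∀ x : S, 1 ≤ (ConjClasses.mk x).carrier.toFinset.card := by
    intro x
    rw [Nat.one_le_iff_ne_zero, Ne, Finset.card_eq_zero, ← Ne, ← Finset.nonempty_iff_ne_empty]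
    exact ⟨x, by rw [Set.mem_toFinset, ConjClasses.mem_carrier_iff_mk_eq]⟩
  have h6 := hpos 1
  have h7 := hpos z
  have h8' : 4 * ∑ x ∈ C, x.carrier.toFinset.card = C.card * Fintype.card S := by
    rw [Finset.mul_sum, Finset.sum_congr rfl hsz, Finset.sum_const, smul_eq_mul]
  by_contra hcon
  have h9 : 4 ≤ C.card := by omega
  have h10 : 4 * Fintype.card S ≤ C.card * Fintype.card S := Nat.mul_le_mul_right _ h9
  omega

theorem V_aux (h : HK G) {k : G} (hk : orderOf k = 3)
    (hB : ∀ U : Subgroup G, KMax k U → Group.IsNilpotent U ∧ k ∈ normalizer (U : Set G) ∧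
      (Nat.card (normalizer (U : Set G)) = 3 * Nat.card U ∨
        Nat.card (normalizer (U : Set G)) = 6 * Nat.card U))
    (hD : ∀ U : Subgroup G, KMax k U →
      Nat.card {V : Subgroup G // KMax k V ∧ ∃ g : G, V = U.map (MulAut.conj g).toMonoidHom} *
      Nat.card (normalizer (U : Set G)) ≤ 18 * Nat.card U) (h8 : 2 ^ 3 ∣ Nat.card G) :
    Nat.card {U : Subgroup G // KMax k U ∧ Nat.card U % 8 = 4} ≤ 9 := by
  classical
  have : Fact (Nat.Prime 2) := ⟨Nat.prime_two⟩
  have : Fintype G := Fintype.ofFinite G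
  obtain ⟨S⟩ : Nonempty (Sylow 2 G) := inferInstance
  have hS : 2 ^ 3 ∣ Nat.card S := S.pow_dvd_card_of_pow_dvd_card h8
  have hSnt : Nontrivial S := by
    rw [← Finite.one_lt_card_iff_nontrivial]
    exact lt_of_lt_of_le (by norm_num) (Nat.le_of_dvd Nat.card_pos hS)
  have hZ := S.isPGroup'.center_nontrivial
  obtain ⟨⟨z, hzc⟩, hz1⟩ := exists_ne (1 : center S)
  have hz1' : z ≠ 1 := fun hh => hz1 (Subtype.ext hh)
  rw [mem_center_iff] at hzc
  have key : ∀ U : {U : Subgroup G // KMax k U ∧ Nat.card U % 8 = 4}, ∃ (g : G) (t : (S : Subgroup G)), t ≠ 1 ∧ (t : G) ≠ z ∧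
      Nat.card (centralizer ({t} : Set (S : Subgroup G))) = 4 ∧
      (U : Subgroup G).map (MulAut.conj g).toMonoidHom = centralizer
        (((centralizer ({t} : Set (S : Subgroup G))).map (S : Subgroup G).subtype : Subgroup G) : Set G) := by
    rintro ⟨U, hU, h4⟩
    obtain ⟨b1, b2, b3⟩ := hB U hU
    exact exists_t h hk S z.2 (fun hh => hz1' (Subtype.ext hh))
      (fun s hs => congrArg Subtype.val (hzc ⟨s, hs⟩)) hU b1 b2 h4
  choose g t ht1 htz ht4 hgt using key
  have : Fintype {U : Subgroup G // KMax k U ∧ Nat.card U % 8 = 4} := Fintype.ofFinite _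
  obtain ⟨f, hf⟩ : ∃ f : {U : Subgroup G // KMax k U ∧ Nat.card U % 8 = 4} → ConjClasses (S : Subgroup G),
    ∀ U, f U = ConjClasses.mk (t U) := ⟨_, fun _ => rfl⟩
  have hcl : (Finset.univ.image f).card ≤ 3 := by
    apply card_classes Nat.card_pos hz1' (fun s => hzc s)
    intro c hc
    obtain ⟨U, -, rfl⟩ := Finset.mem_image.1 hc
    exact ⟨t U, hf U, ht1 U, fun hh => htz U (congrArg Subtype.val hh), ht4 U⟩
  have hfib : ∀ c ∈ Finset.univ.image f, (Finset.univ.filter fun U => f U = c).card ≤ 3 := by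
    intro c hc
    obtain ⟨U₀, -, rfl⟩ := Finset.mem_image.1 hc
    obtain ⟨U₀', hU₀, h4⟩ := U₀
    obtain ⟨b1, b2, b3⟩ := hB U₀' hU₀
    have hN : Nat.card (normalizer (U₀' : Set G)) = 6 * Nat.card U₀' := by
      rcases b3 with b3 | b3
      · exfalso
        obtain ⟨E, -, hEc, -, hEN⟩ := exists_E h hk hU₀ b1 b2 h4
        have h5 := Sylow.prime_pow_dvd_card_normalizer (p := 2) (n := 2) h8 (H := E) (by rw [hEc]; norm_num)
        rw [hEN, b3] at h5
        omega
      · exact b3
    have h5 := hD U₀' hU₀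
    rw [hN] at h5
    have hpos : 0 < Nat.card U₀' := Nat.card_pos
    have h6 : Nat.card {V : Subgroup G // KMax k V ∧ ∃ g : G, V = U₀'.map (MulAut.conj g).toMonoidHom} ≤ 3 := by
      by_contra hcon
      have h7 : 4 ≤ Nat.card {V : Subgroup G // KMax k V ∧ ∃ g : G, V = U₀'.map (MulAut.conj g).toMonoidHom} := by omega
      have h8 := Nat.mul_le_mul_right (6 * Nat.card U₀') h7
      omega
    refine le_trans ?_ h6
    have hmem : ∀ U ∈ (Finset.univ.filter fun U => f U = f ⟨U₀', hU₀, h4⟩), KMax k (U : Subgroup G) ∧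
        ∃ g : G, (U : Subgroup G) = U₀'.map (MulAut.conj g).toMonoidHom := by
      intro U hU
      refine ⟨U.2.1, ?_⟩
      rw [Finset.mem_filter, hf, hf] at hU
      obtain ⟨s, hs⟩ := isConj_iff.1 (ConjClasses.mk_eq_mk_iff_isConj.1 hU.2)
      obtain ⟨U₁, hU₁⟩ : ∃ U₁ : {U : Subgroup G // KMax k U ∧ Nat.card U % 8 = 4}, U₁ = ⟨U₀', hU₀, h4⟩ := ⟨_, rfl⟩
      have hU₁' : U₀' = (U₁ : Subgroup G) := by rw [hU₁]
      rw [← hU₁] at hs
      rw [hU₁']
      -- s * t U * s⁻¹ = t U₁
      have e1 : ∀ x : G, x ∈ (U₁ : Subgroup G).map (MulAut.conj (g U₁)).toMonoidHom ↔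
          (s : G)⁻¹ * x * s ∈ (U : Subgroup G).map (MulAut.conj (g U)).toMonoidHom := by
        intro x
        rw [hgt U, hgt U₁, mem_centralizer_iff, mem_centralizer_iff]
        constructor
        · intro hx e he
          obtain ⟨y, hy, rfl⟩ := he
          have h9 := hx ((s : G) * y * (s : G)⁻¹) ⟨s * y * s⁻¹, by
            rw [SetLike.mem_coe, mem_centralizer_singleton_iff] at hy ⊢
            rw [← hs]
            calc s * y * s⁻¹ * (s * t U * s⁻¹) = s * (y * t U) * s⁻¹ := by group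
              _ = s * (t U * y) * s⁻¹ := by rw [hy]
              _ = s * t U * s⁻¹ * (s * y * s⁻¹) := by group, rfl⟩
          show (y : G) * ((s : G)⁻¹ * x * s) = (s : G)⁻¹ * x * s * y
          calc (y : G) * ((s : G)⁻¹ * x * s) = (s : G)⁻¹ * (((s : G) * y * (s : G)⁻¹) * x) * s := by group
            _ = (s : G)⁻¹ * (x * ((s : G) * y * (s : G)⁻¹)) * s := by rw [h9]
            _ = (s : G)⁻¹ * x * s * y := by group
        · intro hx e he
          obtain ⟨y, hy, rfl⟩ := he
          have h9 := hx ((s : G)⁻¹ * y * (s : G)) ⟨s⁻¹ * y * s, by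
            rw [SetLike.mem_coe, mem_centralizer_singleton_iff] at hy ⊢
            have hs' : t U = s⁻¹ * t U₁ * s := by rw [← hs]; group
            rw [hs']
            calc s⁻¹ * y * s * (s⁻¹ * t U₁ * s) = s⁻¹ * (y * t U₁) * s := by group
              _ = s⁻¹ * (t U₁ * y) * s := by rw [hy]
              _ = s⁻¹ * t U₁ * s * (s⁻¹ * y * s) := by group, rfl⟩
          show (y : G) * x = x * y
          calc (y : G) * x = (s : G) * (((s : G)⁻¹ * y * (s : G)) * ((s : G)⁻¹ * x * s)) * (s : G)⁻¹ := by group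
            _ = (s : G) * (((s : G)⁻¹ * x * s) * ((s : G)⁻¹ * y * (s : G))) * (s : G)⁻¹ := by rw [h9]
            _ = x * y := by group
      have cm : ∀ (W : Subgroup G) (c x : G), x ∈ W.map (MulAut.conj c).toMonoidHom ↔ c⁻¹ * x * c ∈ W := by
        intro W c x
        constructor
        · rintro ⟨e, he, rfl⟩
          have : c⁻¹ * (c * e * c⁻¹) * c = e := by group
          show c⁻¹ * (c * e * c⁻¹) * c ∈ W
          rw [this]; exact he
        · intro hx
          exact ⟨_, hx, by show c * (c⁻¹ * x * c) * c⁻¹ = x; group⟩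
      refine ⟨(g U)⁻¹ * (s : G)⁻¹ * g U₁, ?_⟩
      ext x
      rw [cm]
      have e2 := e1 ((s : G) * (g U) * x * (g U)⁻¹ * (s : G)⁻¹)
      rw [cm, cm] at e2
      have e3 : (g U)⁻¹ * ((s : G)⁻¹ * ((s : G) * (g U) * x * (g U)⁻¹ * (s : G)⁻¹) * s) * (g U) = x := by group
      have e4 : (g U₁)⁻¹ * ((s : G) * (g U) * x * (g U)⁻¹ * (s : G)⁻¹) * g U₁ =
        ((g U)⁻¹ * (s : G)⁻¹ * g U₁)⁻¹ * x * ((g U)⁻¹ * (s : G)⁻¹ * g U₁) := by group
      rw [e3, e4] at e2
      exact e2.symm
    have h10 : ∀ F : Finset {U : Subgroup G // KMax k U ∧ Nat.card U % 8 = 4}, F.card = Nat.card F := fun F => by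
      rw [Nat.card_eq_fintype_card, Fintype.card_coe]
    rw [h10]
    apply Nat.card_le_card_of_injective (fun U => (⟨(U.1 : Subgroup G), hmem U.1 U.2⟩ :
      {V : Subgroup G // KMax k V ∧ ∃ g : G, V = U₀'.map (MulAut.conj g).toMonoidHom}))
    intro U V hUV
    have h11 : ((U : {U : Subgroup G // KMax k U ∧ Nat.card U % 8 = 4}) : Subgroup G) = (V : {U : Subgroup G // KMax k U ∧ Nat.card U % 8 = 4}) := by
      have := congrArg Subtype.val hUV
      exact this
    exact Subtype.ext (Subtype.ext h11)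
  have h9 := Finset.card_le_mul_card_image (f := f) Finset.univ 3 hfib
  rw [Nat.card_eq_fintype_card, ← Finset.card_univ]
  omega

end
end Cfsg.Agent.Lib.H15SV
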