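import Mathlib
import Cfsg.Agent.Lib.H15SA
import Cfsg.Agent.Lib.H15SB
import Cfsg.Agent.Lib.H15SC0
import Cfsg.Agent.Lib.H15SD
import Cfsg.Agent.Lib.H15SF1c
import Cfsg.Agent.Lib.H15SF2
import Cfsg.Agent.Lib.H15SVa
import Cfsg.Agent.Lib.H15SP
import Cfsg.Agent.Lib.H15SIa

set_option autoImplicit false
set_option linter.all false

/-! S2220: the chain of the local pieces, from the amalgam lemma and E -/

namespace Cfsg.Agent.Lib.H15SJ

open Subgroup Cfsg.Agent.Lib.H15S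

section
variable {G : Type*} [Group G] [Finite G]

theorem B_norm (h : HK G) (h27 : ¬ 27 ∣ Nat.card G) {k : G} (hk : orderOf k = 3)
    {U : Subgroup G} (hU : KMax k U) :
    Group.IsNilpotent U ∧ k ∈ normalizer (U : Set G) ∧
      (Nat.card (normalizer (U : Set G)) = 3 * Nat.card U ∨
        Nat.card (normalizer (U : Set G)) = 6 * Nat.card U) :=
  Cfsg.Agent.Lib.H15SB.B_norm_of hk hU (Cfsg.Agent.Lib.H15SA.A_struct h hk (Cfsg.Agent.Lib.H15SB.mem_norm hU.1)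
    (Cfsg.Agent.Lib.H15SB.B0_nine h h27 hk hU.1 hU.2.1))

theorem C_same (h : HK G) (h27 : ¬ 27 ∣ Nat.card G) {k : G} (hk : orderOf k = 3)
    {U : Subgroup G} (hU : KMax k U) {T : Subgroup G} (hT1 : T ≠ ⊥) (hTU : T ≤ U)
    (hle : normalizer (U : Set G) ≤ normalizer (T : Set G))
    (hc : Nat.card (normalizer (U : Set G)) = 6 * Nat.card U ∨ ¬ IsPGroup 2 U) :
    normalizer (T : Set G) = normalizer (U : Set G) :=
  Cfsg.Agent.Lib.H15SC.C_of hU hT1 hTU hle hc (fun H hkH h9 => Cfsg.Agent.Lib.H15SA.A_struct h hk hkH h9)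
    (fun T hT hT1 => Cfsg.Agent.Lib.H15SB.B0_nine h h27 hk hT hT1)

theorem D_count (h : HK G) (h27 : ¬ 27 ∣ Nat.card G) {k : G} (hk : orderOf k = 3)
    {U : Subgroup G} (hU : KMax k U) :
    Nat.card {V : Subgroup G // KMax k V ∧ ∃ g : G, V = U.map (MulAut.conj g).toMonoidHom} *
      Nat.card (normalizer (U : Set G)) ≤ 18 * Nat.card U :=
  Cfsg.Agent.Lib.H15SD.D_aux h hk hU (B_norm h h27 hk hU)

theorem n27 {q a b : ℕ} (hq : q.Prime) (hq3 : q ≠ 3) (hcard : Nat.card G = 9 * 2 ^ a * q ^ b) :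
    ¬ 27 ∣ Nat.card G := by
  intro hd
  rw [hcard, mul_assoc, show 27 = 9 * 3 from rfl] at hd
  have h1 : 3 ∣ 2 ^ a * q ^ b := Nat.dvd_of_mul_dvd_mul_left (by norm_num) hd
  rcases (Nat.Prime.dvd_mul Nat.prime_three).1 h1 with h2 | h2
  · have := Nat.prime_three.dvd_of_dvd_pow h2
    norm_num at this
  · have := Nat.prime_three.dvd_of_dvd_pow h2
    exact hq3 ((Nat.prime_dvd_prime_iff_eq Nat.prime_three hq).1 this).symm

theorem bound_of [IsSimpleGroup G] (h : HK G) {q a b : ℕ}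
    (hq : q.Prime) (hq2 : q ≠ 2) (hq3 : q ≠ 3) (ha : 3 ≤ a)
    (hcard : Nat.card G = 9 * 2 ^ a * q ^ b) {k : G} (hk : orderOf k = 3)
    (hE : ∀ U U' : Subgroup G, KMax k U → KMax k U' → q ∣ Nat.card U → q ∣ Nat.card U' →
      (∃ g : G, U' = U.map (MulAut.conj g).toMonoidHom) ∧ q ^ b ∣ Nat.card U ∧ q ^ b % 3 = 1)
    (hGam : ∀ S H₁ H₂ U₁ U₂ : Subgroup G, IsPGroup 2 S → Side S H₁ U₁ → Side S H₂ U₂ →
      (∀ T : Subgroup G, T ≠ ⊥ → T ≤ S → (∀ g ∈ H₁, ∀ t ∈ T, g * t * g⁻¹ ∈ T) →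
      (∀ g ∈ H₂, ∀ t ∈ T, g * t * g⁻¹ ∈ T) → False) → Nat.card S ≤ 8) :
    Nat.card {p : G × G // orderOf p.1 = 3 ∧ orderOf p.2 = 3 ∧ p.1 * p.2 = k⁻¹} ≤
      34 + (if a % 2 = 0 then 6 * (2 ^ a - 1) else 3 * (2 ^ (a - 1) - 1)) +
      (if q ^ b % 3 = 1 then 12 * q ^ b else 0) := by
  have h27 := n27 hq hq3 hcard
  refine Cfsg.Agent.Lib.H15SIa.bound' h hq hq2 hq3 ha hcard hk
    (fun u v hu hv huv => Cfsg.Agent.Lib.H15SP.P_pairs h h27 hk hu hv huv)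
    (fun U hU => B_norm h h27 hk hU)
    (fun U T hU hT1 hTU hle hc => C_same h h27 hk hU hT1 hTU hle hc)
    (fun U hU => D_count h h27 hk hU) hE
    (fun U hU h8 => Cfsg.Agent.Lib.H15SF1.F1' h hq hq2 hq3 hcard hU h8 (B_norm h h27 hk hU)
      (fun T hT1 hTU hle hc => C_same h h27 hk hU hT1 hTU hle hc)
      (fun hqU => (hE U U hU hU hqU hqU).2.1) hGam)
    (fun U U' hU hU' h8 h2 h2' h8' hc hc' => ?_)
    ?_
  · exact Cfsg.Agent.Lib.H15SF2.F2_of (fun {k'} hk' {V} hV {T} hT1 hTV hle hc => C_same h h27 hk' hV hT1 hTV hle hc)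
      (fun {S H₁ H₂ U₁ U₂} hS h1 h2 hT => hGam S H₁ H₂ U₁ U₂ hS h1 h2 hT) h hq hq2 hq3 hcard hk hU hU' h8 h2 h2' h8' hc hc'
  · refine Cfsg.Agent.Lib.H15SV.V_aux h hk (fun U hU => B_norm h h27 hk hU) (fun U hU => D_count h h27 hk hU) ?_
    rw [hcard, mul_assoc]
    exact Dvd.dvd.mul_left (Dvd.dvd.mul_right (pow_dvd_pow 2 ha) _) _

end
end Cfsg.Agent.Lib.H15SJ
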