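import Mathlib
import Cfsg.Agent.Lib.H15S0

set_option autoImplicit false

namespace Cfsg.Agent.Lib.H62Gam

open Cfsg.Agent.Lib.H15S

variable {G : Type*} [Group G]

/-- elements of order at most two of the center -/
def V (U : Subgroup G) : Subgroup G where
  carrier := {u | u ∈ U ∧ u * u = 1 ∧ ∀ x ∈ U, u * x = x * u}
  one_mem' := ⟨U.one_mem, by simp, by simp⟩
  mul_mem' := by
    rintro a b ⟨ha, ha2, hac⟩ ⟨hb, hb2, hbc⟩
    refine ⟨U.mul_mem ha hb, ?_, ?_⟩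
    · have := hac b hb
      calc a * b * (a * b) = a * (b * a) * b := by group
        _ = a * (a * b) * b := by rw [this]
        _ = (a * a) * (b * b) := by group
        _ = 1 := by rw [ha2, hb2, one_mul]
    · intro x hx
      rw [mul_assoc, hbc x hx, ← mul_assoc, hac x hx, mul_assoc]
  inv_mem' := by
    rintro a ⟨ha, ha2, hac⟩
    have : a⁻¹ = a := inv_eq_of_mul_eq_one_left ha2
    rw [this]; exact ⟨ha, ha2, hac⟩

theorem mem_V {U : Subgroup G} {u : G} : u ∈ V U ↔ u ∈ U ∧ u * u = 1 ∧ ∀ x ∈ U, u * x = x * u :=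
  Iff.rfl

/-- local data -/
structure Loc (S H U : Subgroup G) (k : G) : Prop where
  US : U ≤ S
  SH : S ≤ H
  Un : ∀ g ∈ H, ∀ v ∈ U, g * v * g⁻¹ ∈ U
  idx : ∀ s ∈ S, ∀ t ∈ S, s ∉ U → t ∉ U → s⁻¹ * t ∈ U
  kH : k ∈ H
  k3 : k ^ 3 = 1
  kf : ∀ u ∈ U, u * k = k * u → u = 1
  sk : ∀ s ∈ S, s ∉ U → ∃ u ∈ U, s * k = k⁻¹ * u * s
  eS : ∃ s ∈ S, s ∉ U
  eV : ∃ v ∈ V U, v ≠ 1

theorem Loc.kk {S H U : Subgroup G} {k : G} (L : Loc S H U k) : k * k = k⁻¹ := by
  have := L.k3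
  rw [pow_three] at this
  exact eq_inv_of_mul_eq_one_right this

theorem Loc.kkk {S H U : Subgroup G} {k : G} (L : Loc S H U k) : k⁻¹ * k⁻¹ = k := by
  rw [← mul_inv_rev, L.kk, inv_inv]

theorem Loc.inv {S H U : Subgroup G} {k : G} (L : Loc S H U k) : Loc S H U k⁻¹ where
  US := L.US
  SH := L.SH
  Un := L.Un
  idx := L.idx
  kH := H.inv_mem L.kH
  k3 := by rw [inv_pow, L.k3, inv_one]
  kf := by
    intro u hu h
    apply L.kf u hu
    have h1 : k * (u * k⁻¹) * k = k * (k⁻¹ * u) * k := by rw [h]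
    have h2 : k * (u * k⁻¹) * k = k * u := by group
    have h3 : k * (k⁻¹ * u) * k = u * k := by group
    rw [h2, h3] at h1
    exact h1.symm
  sk := by
    intro s hs hsU
    obtain ⟨u, hu, h⟩ := L.sk s hs hsU
    -- s k s⁻¹ = k⁻¹ u  so s k⁻¹ s⁻¹ = u⁻¹ k = k (k⁻¹ u⁻¹ k)
    refine ⟨k⁻¹ * u⁻¹ * k⁻¹⁻¹, L.Un _ (H.inv_mem L.kH) _ (U.inv_mem hu), ?_⟩
    have h1 : s = k⁻¹ * u * s * k⁻¹ := by rw [← h]; group
    calc s * k⁻¹ = u⁻¹ * k * (k⁻¹ * u * s * k⁻¹) := by group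
      _ = u⁻¹ * k * s := by rw [← h1]
      _ = k⁻¹⁻¹ * (k⁻¹ * u⁻¹ * k⁻¹⁻¹) * s := by group
  eS := L.eS
  eV := L.eV

theorem Loc.Vn {S H U : Subgroup G} {k : G} (L : Loc S H U k) : ∀ g ∈ H, ∀ v ∈ V U,
    g * v * g⁻¹ ∈ V U := by
  rintro g hg v ⟨h1, h2, h3⟩
  refine ⟨L.Un g hg v h1, ?_, ?_⟩
  · calc g * v * g⁻¹ * (g * v * g⁻¹) = g * (v * v) * g⁻¹ := by group
      _ = 1 := by rw [h2]; group
  · intro x hx
    have h4 := h3 (g⁻¹ * x * g⁻¹⁻¹) (L.Un _ (H.inv_mem hg) x hx)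
    calc g * v * g⁻¹ * x = g * (v * (g⁻¹ * x * g⁻¹⁻¹)) * g⁻¹ := by group
      _ = g * ((g⁻¹ * x * g⁻¹⁻¹) * v) * g⁻¹ := by rw [h4]
      _ = x * (g * v * g⁻¹) := by group

theorem Loc.cV {S H U : Subgroup G} {k : G} (L : Loc S H U k) {s : G} (hs : s ∈ S)
    (h : ∀ v ∈ V U, s * v = v * s) : s ∈ U := by
  by_contra hsU
  obtain ⟨v, hv, hv1⟩ := L.eV
  apply hv1
  apply L.kf v hv.1
  obtain ⟨u, hu, hu'⟩ := L.sk s hs hsU
  have hkv := L.Vn k L.kH v hv
  have e1 := h _ hkv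
  -- s (k v k⁻¹) = (k v k⁻¹) s
  have e2 : s * (k * v * k⁻¹) * s⁻¹ = k * v * k⁻¹ := by rw [e1]; group
  have e3 : s * (k * v * k⁻¹) * s⁻¹ = k⁻¹ * v * k := by
    have e4 : s * k = k⁻¹ * u * s := hu'
    have e5 : s * v * s⁻¹ = v := by rw [h v hv]; group
    have e6 : u * v * u⁻¹ = v := by rw [← hv.2.2 u hu]; group
    calc s * (k * v * k⁻¹) * s⁻¹ = (s * k) * v * (s * k)⁻¹ := by group
      _ = k⁻¹ * (u * (s * v * s⁻¹) * u⁻¹) * k := by rw [e4]; group
      _ = k⁻¹ * v * k := by rw [e5, e6]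
  rw [e3] at e2
  -- k⁻¹ v k = k v k⁻¹
  have e7 : k * (k⁻¹ * v * k) * k = k * (k * v * k⁻¹) * k := by rw [e2]
  have e8 : v * (k * k) = (k * k) * v := by
    calc v * (k * k) = k * (k⁻¹ * v * k) * k := by group
      _ = k * (k * v * k⁻¹) * k := e7
      _ = (k * k) * v := by group
  rw [L.kk] at e8
  have e9 : k * (v * k⁻¹) * k = k * (k⁻¹ * v) * k := by rw [e8]
  have e10 : k * (v * k⁻¹) * k = k * v := by group
  have e11 : k * (k⁻¹ * v) * k = v * k := by group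
  rw [e10, e11] at e9
  exact e9.symm

/-- elements of `V U` commuting with an element of `S \ U` are in `V S` -/
theorem Loc.toVS {S H U : Subgroup G} {k : G} (L : Loc S H U k) {s x : G} (hs : s ∈ S)
    (hsU : s ∉ U) (hx : x ∈ V U) (h : s * x = x * s) : x ∈ V S := by
  refine ⟨L.US hx.1, hx.2.1, ?_⟩
  intro t ht
  by_cases htU : t ∈ U
  · exact hx.2.2 t htU
  · have h1 := L.idx s hs t ht hsU htU
    have h2 := hx.2.2 _ h1
    calc x * t = (x * s) * (s⁻¹ * t) := by group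
      _ = s * (x * (s⁻¹ * t)) := by rw [← h]; group
      _ = s * ((s⁻¹ * t) * x) := by rw [h2]
      _ = t * x := by group

theorem Loc.VSle {S H U : Subgroup G} {k : G} (L : Loc S H U k) : V S ≤ V U := by
  intro x hx
  have hxU : x ∈ U := L.cV hx.1 (fun v hv => hx.2.2 v (L.US hv.1))
  exact ⟨hxU, hx.2.1, fun y hy => hx.2.2 y (L.US hy)⟩

/-- the norm identity -/
theorem Loc.nrm {S H U : Subgroup G} {k : G} (L : Loc S H U k) {x : G} (hx : x ∈ V U) :
    x * (k * x * k⁻¹) * (k⁻¹ * x * k) = 1 := by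
  have h1 := L.Vn k L.kH x hx
  have h2 : k⁻¹ * x * k ∈ V U := by
    have := L.Vn k⁻¹ (H.inv_mem L.kH) x hx
    rwa [inv_inv] at this
  apply L.kf _ (mul_mem (mul_mem hx h1) h2).1
  have c1 := hx.2.2 _ h1.1
  have c2 := h2.2.2 _ (mul_mem hx h1).1
  have e0 : k * k = k⁻¹ := L.kk
  have e1 : k * (k * x * k⁻¹) * k⁻¹ = k⁻¹ * x * k := by
    calc k * (k * x * k⁻¹) * k⁻¹ = (k * k) * x * (k * k)⁻¹ := by group
      _ = k⁻¹ * x * k := by rw [e0, inv_inv]
  have e2 : k * (x * (k * x * k⁻¹) * (k⁻¹ * x * k)) * k⁻¹ =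
      (k * x * k⁻¹) * (k * (k * x * k⁻¹) * k⁻¹) * x := by group
  rw [e1] at e2
  have e3 : (k * x * k⁻¹) * (k⁻¹ * x * k) * x = x * (k * x * k⁻¹) * (k⁻¹ * x * k) := by
    rw [← hx.2.2 _ (mul_mem h1 h2).1]
    group
  rw [e3] at e2
  calc x * (k * x * k⁻¹) * (k⁻¹ * x * k) * k
      = k * (x * (k * x * k⁻¹) * (k⁻¹ * x * k)) * k⁻¹ * k := by rw [e2]
    _ = k * (x * (k * x * k⁻¹) * (k⁻¹ * x * k)) := by group

theorem Loc.two {S H U : Subgroup G} {k : G} (L : Loc S H U k) {s d : G} (hs : s ∈ S)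
    (hsU : s ∉ U) (hd : d ∈ V U) (h1 : s * d = d * s)
    (h2 : s * (k * d * k⁻¹) = (k * d * k⁻¹) * s) : d = 1 := by
  apply L.kf d hd.1
  obtain ⟨u, hu, hu'⟩ := L.sk s hs hsU
  have e2 : s * (k * d * k⁻¹) * s⁻¹ = k * d * k⁻¹ := by rw [h2]; group
  have e3 : s * (k * d * k⁻¹) * s⁻¹ = k⁻¹ * d * k := by
    have e4 : s * k = k⁻¹ * u * s := hu'
    have e5 : s * d * s⁻¹ = d := by rw [h1]; group
    have e6 : u * d * u⁻¹ = d := by rw [← hd.2.2 u hu]; group
    calc s * (k * d * k⁻¹) * s⁻¹ = (s * k) * d * (s * k)⁻¹ := by group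
      _ = k⁻¹ * (u * (s * d * s⁻¹) * u⁻¹) * k := by rw [e4]; group
      _ = k⁻¹ * d * k := by rw [e5, e6]
  rw [e3] at e2
  have e8 : d * (k * k) = (k * k) * d := by
    calc d * (k * k) = k * (k⁻¹ * d * k) * k := by group
      _ = k * (k * d * k⁻¹) * k := by rw [e2]
      _ = (k * k) * d := by group
  rw [L.kk] at e8
  have e9 : k * (d * k⁻¹) * k = k * (k⁻¹ * d) * k := by rw [e8]
  have e10 : k * (d * k⁻¹) * k = k * d := by group
  have e11 : k * (k⁻¹ * d) * k = d * k := by group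
  rw [e10, e11] at e9
  exact e9.symm

theorem VS_comm {S : Subgroup G} {x y : G} (hx : x ∈ V S) (hy : y ∈ S) : y * x = x * y :=
  (hx.2.2 y hy).symm

theorem Loc.card_ge [Finite G] {S H U : Subgroup G} {k : G} (L : Loc S H U k) :
    Nat.card (V S) * Nat.card (V S) ≤ Nat.card (V U) := by
  rw [← Nat.card_prod]
  obtain ⟨s, hs, hsU⟩ := L.eS
  let f : V S × V S → V U := fun p => ⟨p.1.1 * (k * p.2.1 * k⁻¹),
    mul_mem (L.VSle p.1.2) (L.Vn k L.kH _ (L.VSle p.2.2))⟩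
  apply Nat.card_le_card_of_injective f
  rintro ⟨⟨x, hx⟩, ⟨y, hy⟩⟩ ⟨⟨x', hx'⟩, ⟨y', hy'⟩⟩ h
  have h1 : x * (k * y * k⁻¹) = x' * (k * y' * k⁻¹) := congrArg Subtype.val h
  have h2 : x'⁻¹ * x = k * (y' * y⁻¹) * k⁻¹ := by
    calc x'⁻¹ * x = x'⁻¹ * (x * (k * y * k⁻¹)) * (k * y⁻¹ * k⁻¹) := by group
      _ = k * (y' * y⁻¹) * k⁻¹ := by rw [h1]; group
  have hd : y' * y⁻¹ ∈ V S := mul_mem hy' (inv_mem hy)
  have hd' : x'⁻¹ * x ∈ V S := mul_mem (inv_mem hx') hx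
  have h3 := L.two hs hsU (L.VSle hd) (VS_comm hd hs) (by rw [← h2]; exact VS_comm hd' hs)
  rw [h3] at h2
  have h4 : x' = x := by
    have : x'⁻¹ * x = 1 := by rw [h2]; group
    exact inv_mul_eq_one.mp this
  have h5 : y' = y := mul_inv_eq_one.mp h3
  subst h4
  subst h5
  rfl

theorem sq_mul {U : Subgroup G} {a b : G} (ha : a ∈ V U) (hb : b ∈ V U) (h : a * b = 1) :
    b = a := by
  have := ha.2.1
  calc b = a * a * b := by rw [this, one_mul]
    _ = a * (a * b) := by group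
    _ = a := by rw [h, mul_one]

theorem Loc.card_le [Finite G] {S H U : Subgroup G} {k : G} (L : Loc S H U k) :
    Nat.card (V U) ≤ Nat.card (V S) * Nat.card (V S) := by
  rw [← Nat.card_prod]
  obtain ⟨s, hs, hsU⟩ := L.eS
  have hsH := L.SH hs
  have hss : s⁻¹ * s⁻¹ ∈ U := by
    have := L.idx s hs s⁻¹ (inv_mem hs) hsU (fun h => hsU (by simpa using inv_mem h))
    exact this
  have key : ∀ v ∈ V U, v * (s * v * s⁻¹) ∈ V S := by
    intro v hv
    have h1 := L.Vn s hsH v hv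
    apply L.toVS hs hsU (mul_mem hv h1)
    have h2 := hv.2.2 _ hss
    have h3 := hv.2.2 _ h1.1
    calc s * (v * (s * v * s⁻¹)) = (s * v * s⁻¹) * (s * (s * v) * s⁻¹) := by group
      _ = (s * v * s⁻¹) * (s * s * (v * (s⁻¹ * s⁻¹)) * s) := by group
      _ = (s * v * s⁻¹) * (s * s * ((s⁻¹ * s⁻¹) * v) * s) := by rw [h2]
      _ = ((s * v * s⁻¹) * v) * s := by group
      _ = (v * (s * v * s⁻¹)) * s := by rw [h3]
  have key2 : ∀ v ∈ V U, ∀ v' ∈ V U, v * (s * v * s⁻¹) = v' * (s * v' * s⁻¹) →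
      s * (v * v'⁻¹) = (v * v'⁻¹) * s := by
    intro v hv v' hv' h
    have h1 := L.Vn s hsH v hv
    have h1' := L.Vn s hsH v' hv'
    have hd : v * v'⁻¹ ∈ V U := mul_mem hv (inv_mem hv')
    have hd' := L.Vn s hsH _ hd
    have h2 : (v * v'⁻¹) * (s * (v * v'⁻¹) * s⁻¹) = 1 := by
      have c1 := (inv_mem hv' : v'⁻¹ ∈ V U).2.2 _ h1.1
      calc (v * v'⁻¹) * (s * (v * v'⁻¹) * s⁻¹) = v * (v'⁻¹ * (s * v * s⁻¹)) * (s * v'⁻¹ * s⁻¹) := by
            group
        _ = v * ((s * v * s⁻¹) * v'⁻¹) * (s * v'⁻¹ * s⁻¹) := by rw [c1]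
        _ = (v * (s * v * s⁻¹)) * (v'⁻¹ * (s * v'⁻¹ * s⁻¹)) := by group
        _ = (v' * (s * v' * s⁻¹)) * (v'⁻¹ * (s * v'⁻¹ * s⁻¹)) := by rw [h]
        _ = v' * ((s * v' * s⁻¹) * v'⁻¹) * (s * v'⁻¹ * s⁻¹) := by group
        _ = v' * (v'⁻¹ * (s * v' * s⁻¹)) * (s * v'⁻¹ * s⁻¹) := by
            rw [(inv_mem hv' : v'⁻¹ ∈ V U).2.2 _ h1'.1]
        _ = 1 := by group
    have h3 := sq_mul hd hd' h2
    calc s * (v * v'⁻¹) = (s * (v * v'⁻¹) * s⁻¹) * s := by group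
      _ = (v * v'⁻¹) * s := by rw [h3]
  let f : V U → V S × V S := fun v => (⟨v.1 * (s * v.1 * s⁻¹), key v.1 v.2⟩,
    ⟨(k * v.1 * k⁻¹) * (s * (k * v.1 * k⁻¹) * s⁻¹), key _ (L.Vn k L.kH _ v.2)⟩)
  apply Nat.card_le_card_of_injective f
  rintro ⟨v, hv⟩ ⟨v', hv'⟩ h
  have h1 : v * (s * v * s⁻¹) = v' * (s * v' * s⁻¹) :=
    congrArg (fun p : V S × V S => p.1.1) h
  have h2 : (k * v * k⁻¹) * (s * (k * v * k⁻¹) * s⁻¹)
      = (k * v' * k⁻¹) * (s * (k * v' * k⁻¹) * s⁻¹) :=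
    congrArg (fun p : V S × V S => p.2.1) h
  have e1 := key2 v hv v' hv' h1
  have e2 := key2 _ (L.Vn k L.kH _ hv) _ (L.Vn k L.kH _ hv') h2
  have e3 : (k * v * k⁻¹) * (k * v' * k⁻¹)⁻¹ = k * (v * v'⁻¹) * k⁻¹ := by group
  rw [e3] at e2
  have h5 := L.two hs hsU (mul_mem hv (inv_mem hv')) e1 e2
  have h6 : v = v' := mul_inv_eq_one.mp h5
  subst h6
  rfl

theorem four [Finite G] {A : Subgroup G} (h4 : Nat.card A = 4) {z y : G} (hz : z ∈ A) (hy : y ∈ A)
    (hz1 : z ≠ 1) (hy1 : y ≠ 1) (hzy : y ≠ z) (hzz : z * z = 1) :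
    ∀ a ∈ A, a = 1 ∨ a = z ∨ a = y ∨ a = z * y := by
  have h1 : ({1, z, y, z * y} : Set G) ⊆ (A : Set G) := by
    rintro a (rfl | rfl | rfl | rfl)
    · exact A.one_mem
    · exact hz
    · exact hy
    · exact A.mul_mem hz hy
  have hzy1 : z * y ≠ 1 := by
    intro h
    apply hzy
    calc y = z * z * y := by rw [hzz, one_mul]
      _ = z * (z * y) := by group
      _ = z := by rw [h, mul_one]
  have hzyz : z * y ≠ z := fun h => hy1 (by simpa using h)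
  have hzyy : z * y ≠ y := fun h => hz1 (by simpa using h)
  have h2 : ({1, z, y, z * y} : Set G).ncard = 4 := by
    rw [Set.ncard_insert_of_notMem, Set.ncard_insert_of_notMem, Set.ncard_pair hzyy.symm]
    · simp only [Set.mem_insert_iff, Set.mem_singleton_iff, not_or]
      exact ⟨Ne.symm hzy, Ne.symm hzyz⟩
    · simp only [Set.mem_insert_iff, Set.mem_singleton_iff, not_or]
      exact ⟨Ne.symm hz1, Ne.symm hy1, Ne.symm hzy1⟩
  have h3 : (A : Set G).ncard = 4 := by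
    rw [← h4, ← Nat.card_coe_set_eq]; rfl
  have h5 := Set.eq_of_subset_of_ncard_le h1 (by rw [h2, h3]) (Set.toFinite _)
  intro a ha
  have : a ∈ ({1, z, y, z * y} : Set G) := by rw [h5]; exact ha
  simpa using this

/-- walks in the coset graph, as products of group elements -/
inductive Walk (H : Bool → Subgroup G) (i : Bool) : ℕ → G → Bool → Prop
  | nil : Walk H i 0 1 (!i)
  | cons {n : ℕ} {d : G} {j : Bool} (h : G) : Walk H i n d j → h ∈ H j → Walk H i (n + 1) (d * h) (!j)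

theorem Walk.prepend {H : Bool → Subgroup G} {i : Bool} {n : ℕ} {d : G} {j : Bool}
    (w : Walk H i n d j) {h : G} (hh : h ∈ H i) : Walk H (!i) (n + 1) (h * d) j := by
  induction w with
  | nil =>
    have h1 : Walk H (!i) 0 1 (!(!i)) := Walk.nil
    have h2 := Walk.cons h h1 (by simpa using hh)
    simpa using h2
  | cons g w hg ih =>
    have := Walk.cons g ih hg
    rwa [mul_assoc] at this

theorem Walk.rev {H : Bool → Subgroup G} {i : Bool} {n : ℕ} {d : G} {j : Bool}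
    (w : Walk H i n d j) : Walk H j n d⁻¹ i := by
  induction w with
  | nil =>
    have h1 : Walk H (!i) 0 1 (!(!i)) := Walk.nil
    simpa using h1
  | cons g w hg ih =>
    have := ih.prepend (inv_mem hg)
    rwa [← mul_inv_rev] at this

/-- all walks of length `n` are uncritical -/
def Good (H U : Bool → Subgroup G) (n : ℕ) : Prop :=
  ∀ i d j, Walk H i n d j → ∀ v ∈ V (U i), d⁻¹ * v * d ∈ U j

section main
variable [Finite G] {S : Subgroup G} {H U : Bool → Subgroup G} {k : Bool → G}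

theorem good_next (L : ∀ i, Loc S (H i) (U i) (k i)) {n : ℕ} (hg : Good H U n) {i j : Bool} {D : G}
    (w : Walk H i (n + 1) D j) :
    (∀ v ∈ V (U i), D⁻¹ * v * D ∈ U (!j)) ∧ (∀ v ∈ V (U j), D * v * D⁻¹ ∈ U (!i)) := by
  have half : ∀ (i j : Bool) (D : G), Walk H i (n + 1) D j →
      ∀ v ∈ V (U i), D⁻¹ * v * D ∈ U (!j) := by
    intro i j D w v hv
    cases w with
    | @cons _ d j' h w' hh =>
      have h1 := hg i d j' w' v hv
      have h2 := (L j').Un h⁻¹ (inv_mem hh) _ h1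
      rw [Bool.not_not]
      have e : (d * h)⁻¹ * v * (d * h) = h⁻¹ * (d⁻¹ * v * d) * h⁻¹⁻¹ := by group
      rw [e]
      exact h2
  refine ⟨half i j D w, ?_⟩
  intro v hv
  have := half j i D⁻¹ w.rev v hv
  rwa [inv_inv] at this

/-- the main facts for a critical walk -/
theorem crit1 (L : ∀ i, Loc S (H i) (U i) (k i)) {n : ℕ} (hg : Good H U n) {i j : Bool} {D : G}
    (w : Walk H i (n + 1) D j) {v0 : G} (hv0 : v0 ∈ V (U i)) (hc : D⁻¹ * v0 * D ∉ U j) :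
    Nat.card (V S) = 2 ∧
    (∀ x ∈ V (U i), D⁻¹ * x * D ∈ U j → x ∈ V S) ∧
    (∃ v1 ∈ V (U j), D * v1 * D⁻¹ ∈ S ∧ D * v1 * D⁻¹ ∉ U i) ∧
    (∀ z ∈ V S, D⁻¹ * z * D = z) := by
  obtain ⟨hA, hB⟩ := good_next L hg w
  have hS0 : D⁻¹ * v0 * D ∈ S := (L (!j)).US (hA v0 hv0)
  obtain ⟨v1, hv1, hv1U⟩ : ∃ v1 ∈ V (U j), D * v1 * D⁻¹ ∉ U i := by
    by_contra hcon
    push Not at hcon
    apply hc
    apply (L j).cV hS0
    intro v hv
    have h1 := hv0.2.2 _ (hcon v hv)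
    calc D⁻¹ * v0 * D * v = D⁻¹ * (v0 * (D * v * D⁻¹)) * D := by group
      _ = D⁻¹ * ((D * v * D⁻¹) * v0) * D := by rw [h1]
      _ = v * (D⁻¹ * v0 * D) := by group
  have hv1S : D * v1 * D⁻¹ ∈ S := (L (!i)).US (hB v1 hv1)
  have hD : ∀ x ∈ V (U i), D⁻¹ * x * D ∈ U j → x ∈ V S := by
    intro x hx hxU
    apply (L i).toVS hv1S hv1U hx
    have h1 := hv1.2.2 _ hxU
    calc D * v1 * D⁻¹ * x = D * (v1 * (D⁻¹ * x * D)) * D⁻¹ := by group
      _ = D * ((D⁻¹ * x * D) * v1) * D⁻¹ := by rw [h1]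
      _ = x * (D * v1 * D⁻¹) := by group
  have hD' : ∀ x ∈ V S, D⁻¹ * x * D ∈ U j := by
    intro x hx
    have hxi : x ∈ V (U i) := (L i).VSle hx
    apply (L j).cV ((L (!j)).US (hA x hxi))
    intro v hv
    have h1 := hx.2.2 _ ((L (!i)).US (hB v hv))
    calc D⁻¹ * x * D * v = D⁻¹ * (x * (D * v * D⁻¹)) * D := by group
      _ = D⁻¹ * ((D * v * D⁻¹) * x) * D := by rw [h1]
      _ = v * (D⁻¹ * x * D) := by group
  have hv0n : v0 ∉ V S := fun h => hc (hD' v0 h)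
  have hcard : Nat.card (V (U i)) ≤ 2 * Nat.card (V S) := by
    have hcov : (V (U i) : Set G) ⊆ (V S : Set G) ∪ (fun x => v0 * x) '' (V S : Set G) := by
      intro x hx
      by_cases hxU : D⁻¹ * x * D ∈ U j
      · left; exact hD x hx hxU
      · right
        have h1 := (L j).idx _ hS0 _ ((L (!j)).US (hA x hx)) hc hxU
        have h2 : (D⁻¹ * v0 * D)⁻¹ * (D⁻¹ * x * D) = D⁻¹ * (v0⁻¹ * x) * D := by group
        rw [h2] at h1
        exact ⟨v0⁻¹ * x, hD _ (mul_mem (inv_mem hv0) hx) h1, by simp⟩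
    have e1 : (V (U i) : Set G).ncard = Nat.card (V (U i)) := (Nat.card_coe_set_eq _).symm
    have e2 : (V S : Set G).ncard = Nat.card (V S) := (Nat.card_coe_set_eq _).symm
    calc Nat.card (V (U i)) = (V (U i) : Set G).ncard := e1.symm
      _ ≤ ((V S : Set G) ∪ (fun x => v0 * x) '' (V S : Set G)).ncard :=
          Set.ncard_le_ncard hcov (Set.toFinite _)
      _ ≤ (V S : Set G).ncard + ((fun x => v0 * x) '' (V S : Set G)).ncard :=
          Set.ncard_union_le _ _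
      _ ≤ (V S : Set G).ncard + (V S : Set G).ncard := by
          exact Nat.add_le_add_left (Set.ncard_image_le (Set.toFinite _)) _
      _ = 2 * Nat.card (V S) := by rw [e2]; ring
  have hge := (L i).card_ge
  have hle := (L i).card_le
  have hVi : 1 < Nat.card (V (U i)) := by
    obtain ⟨v, hv, hv1'⟩ := (L i).eV
    rw [Subgroup.one_lt_card_iff_ne_bot]
    intro h
    rw [h] at hv
    exact hv1' (Subgroup.mem_bot.mp hv)
  have hVS : Nat.card (V S) = 2 := by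
    have h1 : Nat.card (V S) * Nat.card (V S) ≤ 2 * Nat.card (V S) := hge.trans hcard
    have h0 : 0 < Nat.card (V S) := Nat.card_pos
    have h2 : Nat.card (V S) ≤ 2 := Nat.le_of_mul_le_mul_right h1 h0
    interval_cases h : Nat.card (V S)
    · omega
    · rfl
  refine ⟨hVS, hD, ⟨v1, hv1, hv1S, hv1U⟩, ?_⟩
  -- the commutator
  set s := D * v1 * D⁻¹ with hs
  set c := v0 * s * v0⁻¹ * s⁻¹ with hcdef
  have hci : c ∈ V (U i) := by
    have h1 := (L i).Vn s ((L i).SH hv1S) _ (inv_mem hv0)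
    have e : c = v0 * (s * v0⁻¹ * s⁻¹) := by rw [hcdef]; group
    rw [e]
    exact mul_mem hv0 h1
  have hcj : D⁻¹ * c * D ∈ V (U j) := by
    have h1 := (L j).Vn _ ((L j).SH hS0) _ hv1
    have e : D⁻¹ * c * D = (D⁻¹ * v0 * D * v1 * (D⁻¹ * v0 * D)⁻¹) * v1⁻¹ := by
      rw [hcdef, hs]; group
    rw [e]
    exact mul_mem h1 (inv_mem hv1)
  have hcS : c ∈ V S := hD c hci hcj.1
  have hcne : c ≠ 1 := by
    intro h
    apply hv0n
    apply (L i).toVS hv1S hv1U hv0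
    have h1 : v0 * s = c * (s * v0) := by rw [hcdef]; group
    rw [h, one_mul] at h1
    exact h1.symm
  have hcS' : D⁻¹ * c * D ∈ V S := by
    apply (L j).toVS hS0 hc hcj
    have h1 := hv0.2.2 _ hci.1
    calc D⁻¹ * v0 * D * (D⁻¹ * c * D) = D⁻¹ * (v0 * c) * D := by group
      _ = D⁻¹ * (c * v0) * D := by rw [h1]
      _ = D⁻¹ * c * D * (D⁻¹ * v0 * D) := by group
  have hcne' : D⁻¹ * c * D ≠ 1 := by
    intro h
    apply hcne
    calc c = D * (D⁻¹ * c * D) * D⁻¹ := by group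
      _ = 1 := by rw [h]; group
  -- V S has two elements
  have huniq : ∀ a ∈ V S, ∀ b ∈ V S, a ≠ 1 → b ≠ 1 → a = b := by
    intro a ha b hb ha1 hb1
    obtain ⟨x, y, hxy, hu⟩ := Nat.card_eq_two_iff.mp hVS
    have m : ∀ q : V S, q = x ∨ q = y := by
      intro q
      have : q ∈ ({x, y} : Set (V S)) := by rw [hu]; trivial
      simpa using this
    have ma := m ⟨a, ha⟩
    have mb := m ⟨b, hb⟩
    have m1 := m 1
    have na : (⟨a, ha⟩ : V S) ≠ 1 := fun h => ha1 (congrArg Subtype.val h)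
    have nb : (⟨b, hb⟩ : V S) ≠ 1 := fun h => hb1 (congrArg Subtype.val h)
    have : (⟨a, ha⟩ : V S) = ⟨b, hb⟩ := by
      rcases m1 with m1 | m1
      · have h1 := ma.resolve_left (fun h => na (h.trans m1.symm))
        have h2 := mb.resolve_left (fun h => nb (h.trans m1.symm))
        rw [h1, h2]
      · have h1 := ma.resolve_right (fun h => na (h.trans m1.symm))
        have h2 := mb.resolve_right (fun h => nb (h.trans m1.symm))
        rw [h1, h2]
    exact congrArg Subtype.val this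
  intro z hz
  by_cases hz1 : z = 1
  · rw [hz1]; group
  · rw [huniq z hz c hcS hz1 hcne]
    exact huniq _ hcS' _ hcS hcne' hcne

theorem claim (L : ∀ i, Loc S (H i) (U i) (k i))
    (hNC : ∀ T : Subgroup G, T ≠ ⊥ → T ≤ S → (∀ i, ∀ g ∈ H i, ∀ t ∈ T, g * t * g⁻¹ ∈ T) → False)
    {i j : Bool} {D z s v1 K : G} (h0 : ∀ v ∈ V (U (!i)), v ∈ U i)
    (hVS : Nat.card (V S) = 2) (hz : z ∈ V S) (hz1 : z ≠ 1) (huniq : ∀ x ∈ V S, x = 1 ∨ x = z)
    (hD : ∀ x ∈ V (U i), D⁻¹ * x * D ∈ U j → x ∈ V S) (hs : s ∈ S) (hsU : s ∉ U i)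
    (hv1 : v1 ∈ V (U j)) (hsv : s = D * v1 * D⁻¹) (LK : Loc S (H i) (U i) K)
    (hall : ∀ v ∈ V (U (!i)), D⁻¹ * (K * v * K⁻¹) * D ∈ S) : False := by
  have hzi : z ∈ V (U i) := (L i).VSle hz
  have hzi' : z ∈ V (U (!i)) := (L (!i)).VSle hz
  have hcard : ∀ l, Nat.card (V (U l)) = 4 := by
    intro l
    have h1 := (L l).card_ge
    have h2 := (L l).card_le
    rw [hVS] at h1 h2
    omega
  have hx : D⁻¹ * (K * z * K⁻¹) * D ∉ U j := by
    intro h
    have h1 := hD _ (LK.Vn K LK.kH z hzi) h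
    rcases huniq _ h1 with h2 | h2
    · apply hz1
      calc z = K⁻¹ * (K * z * K⁻¹) * K := by group
        _ = 1 := by rw [h2]; group
    · apply hz1
      apply LK.kf z hzi.1
      calc z * K = (K * z * K⁻¹) * K := by rw [h2]
        _ = K * z := by group
  obtain ⟨y0, hy0, hy0S⟩ : ∃ y0 ∈ V (U (!i)), y0 ∉ V S := by
    by_contra hcon
    push Not at hcon
    have h1 : V (U (!i)) ≤ V S := hcon
    have h2 := Subgroup.card_le_of_le h1
    rw [hcard, hVS] at h2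
    omega
  obtain ⟨y, hy, hyS, hyU⟩ : ∃ y ∈ V (U (!i)), y ∉ V S ∧ D⁻¹ * (K * y * K⁻¹) * D ∈ U j := by
    by_cases hc : D⁻¹ * (K * y0 * K⁻¹) * D ∈ U j
    · exact ⟨y0, hy0, hy0S, hc⟩
    · refine ⟨z⁻¹ * y0, mul_mem (inv_mem hzi') hy0, ?_, ?_⟩
      · intro h
        apply hy0S
        have := mul_mem hz h
        rwa [mul_inv_cancel_left] at this
      · have h1 := (L j).idx _ (hall z hzi') _ (hall y0 hy0) hx hc
        have e : (D⁻¹ * (K * z * K⁻¹) * D)⁻¹ * (D⁻¹ * (K * y0 * K⁻¹) * D)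
            = D⁻¹ * (K * (z⁻¹ * y0) * K⁻¹) * D := by group
        rwa [e] at h1
  set w := K * y * K⁻¹ with hw
  have hyeq : y = K⁻¹ * w * K := by rw [hw]; group
  have hsw : s * w * s⁻¹ = w := by
    have h1 := hv1.2.2 _ hyU
    rw [hsv]
    calc D * v1 * D⁻¹ * w * (D * v1 * D⁻¹)⁻¹
        = D * (v1 * (D⁻¹ * w * D)) * v1⁻¹ * D⁻¹ := by group
      _ = D * ((D⁻¹ * w * D) * v1) * v1⁻¹ * D⁻¹ := by rw [h1]
      _ = w := by group
  obtain ⟨u, hu, hsK⟩ := LK.sk s hs hsU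
  have husS : u * s ∈ S := mul_mem ((L i).US hu) hs
  have hy' := (L (!i)).Vn (u * s) ((L (!i)).SH husS) y hy
  set y' := (u * s) * y * (u * s)⁻¹ with hy'def
  have hwy' : w = K⁻¹ * y' * K := by
    calc w = s * w * s⁻¹ := hsw.symm
      _ = (s * K) * y * (s * K)⁻¹ := by rw [hw]; group
      _ = K⁻¹ * y' * K := by rw [hsK, hy'def]; group
  have hKi : K⁻¹ ∈ H i := inv_mem LK.kH
  have hxx : K⁻¹ * z * K ∈ V (U i) := by
    have := LK.Vn K⁻¹ hKi z hzi
    rwa [inv_inv] at this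
  have hwU : w ∈ U i := LK.Un K LK.kH y (h0 y hy)
  have hwV : w ∉ V (U i) := by
    intro hwV
    have h1 := hD w hwV hyU
    rcases huniq w h1 with h2 | h2
    · apply hyS
      rw [hyeq, h2]
      simpa using (V S).one_mem
    · have hyV : y ∈ V (U i) := by rw [hyeq, h2]; exact hxx
      have hy1 : y ≠ 1 := fun h => hyS (by rw [h]; exact (V S).one_mem)
      have hyz : y ≠ z := fun h => hyS (by rw [h]; exact hz)
      have hle : V (U (!i)) ≤ V (U i) := by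
        intro a ha
        rcases four (hcard (!i)) hzi' hy hz1 hy1 hyz hz.2.1 a ha with h | h | h | h
        · rw [h]; exact (V (U i)).one_mem
        · rw [h]; exact hzi
        · rw [h]; exact hyV
        · rw [h]; exact mul_mem hzi hyV
      have heq : V (U (!i)) = V (U i) :=
        Subgroup.eq_of_le_of_card_ge hle (by rw [hcard, hcard])
      apply hNC (V (U i))
      · intro h
        rw [h] at hzi
        exact hz1 (Subgroup.mem_bot.mp hzi)
      · intro a ha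
        exact (L i).US ha.1
      · intro l g hg t ht
        by_cases hl : l = i
        · subst hl
          exact (L l).Vn g hg t ht
        · have hl' : l = !i := by
            revert hl
            cases l <;> cases i <;> intro hl <;> first | rfl | exact absurd rfl hl
          subst hl'
          rw [← heq] at ht ⊢
          exact (L (!i)).Vn g hg t ht
  have hw1 : w ≠ 1 := fun h => hwV (by rw [h]; exact (V (U i)).one_mem)
  have hy'1 : y' ≠ 1 := by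
    intro h
    apply hw1
    rw [hwy', h]; group
  have hy'z : y' ≠ z := by
    intro h
    apply hwV
    rw [hwy', h]; exact hxx
  have hKK : K * K = K⁻¹ := LK.kk
  have hKw : K * w * K⁻¹ = K⁻¹ * y * K := by
    calc K * w * K⁻¹ = (K * K) * y * (K * K)⁻¹ := by rw [hw]; group
      _ = K⁻¹ * y * K := by rw [hKK, inv_inv]
  have hback : ∀ a, K * w * K⁻¹ = a → w = K⁻¹ * a * K := by
    intro a ha
    rw [← ha]; group
  rcases four (hcard (!i)) hzi' hy' hz1 hy'1 hy'z hz.2.1 y hy with h | h | h | h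
  · apply hyS
    rw [h]; exact (V S).one_mem
  · apply hyS
    rw [h]; exact hz
  · -- K w K⁻¹ = w
    rw [h, ← hwy'] at hKw
    apply hw1
    apply LK.kf w hwU
    calc w * K = (K * w * K⁻¹) * K := by rw [hKw]
      _ = K * w := by group
  · have e1 : K * w * K⁻¹ = (K⁻¹ * z * K) * w := by
      rw [hKw, h, hwy']; group
    have hn := LK.nrm hzi
    have hzz := hz.2.1
    have e2 : K * z * K⁻¹ * (K⁻¹ * z * K) = z := by
      calc K * z * K⁻¹ * (K⁻¹ * z * K) = z * z * (K * z * K⁻¹ * (K⁻¹ * z * K)) := by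
            rw [hzz, one_mul]
        _ = z * (z * (K * z * K⁻¹) * (K⁻¹ * z * K)) := by group
        _ = z := by rw [hn, mul_one]
    have e3 : K * (z * w) * K⁻¹ = z * w := by
      calc K * (z * w) * K⁻¹ = (K * z * K⁻¹) * (K * w * K⁻¹) := by group
        _ = (K * z * K⁻¹ * (K⁻¹ * z * K)) * w := by rw [e1]; group
        _ = z * w := by rw [e2]
    have e4 : z * w = 1 := by
      apply LK.kf _ (mul_mem hzi.1 hwU)
      calc z * w * K = (K * (z * w) * K⁻¹) * K := by rw [e3]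
        _ = K * (z * w) := by group
    apply hwV
    have : w = z⁻¹ := eq_inv_of_mul_eq_one_right e4
    rw [this]
    exact inv_mem hzi

theorem two_elems (hVS : Nat.card (V S) = 2) : ∃ z ∈ V S, z ≠ 1 ∧ ∀ x ∈ V S, x = 1 ∨ x = z := by
  have hne : V S ≠ ⊥ := by
    intro h
    rw [h] at hVS
    simp at hVS
  obtain ⟨z, hz, hz1⟩ := (Subgroup.ne_bot_iff_exists_ne_one.mp hne : ∃ a : V S, a ≠ 1) |>.elim
    (fun a ha => (⟨a.1, a.2, fun h => ha (Subtype.ext h)⟩ : ∃ z, z ∈ V S ∧ z ≠ 1))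
  refine ⟨z, hz, hz1, ?_⟩
  intro x hx
  by_contra hcon
  push Not at hcon
  obtain ⟨hx1, hxz⟩ := hcon
  have h3 : ({1, z, x} : Set G) ⊆ (V S : Set G) := by
    rintro a (rfl | rfl | rfl)
    · exact (V S).one_mem
    · exact hz
    · exact hx
  have h4 : ({1, z, x} : Set G).ncard = 3 := by
    rw [Set.ncard_insert_of_notMem, Set.ncard_pair hxz.symm]
    simp only [Set.mem_insert_iff, Set.mem_singleton_iff, not_or]
    exact ⟨Ne.symm hz1, Ne.symm hx1⟩
  have h5 : (V S : Set G).ncard = 2 := by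
    rw [← hVS, ← Nat.card_coe_set_eq]; rfl
  have h6 := Set.ncard_le_ncard h3 (Set.toFinite _)
  omega

theorem step2 (L : ∀ i, Loc S (H i) (U i) (k i))
    (hNC : ∀ T : Subgroup G, T ≠ ⊥ → T ≤ S → (∀ i, ∀ g ∈ H i, ∀ t ∈ T, g * t * g⁻¹ ∈ T) → False)
    (h0 : Good H U 0) {n : ℕ} (hg : Good H U n) : Good H U (n + 1) := by
  intro i D j w v0 hv0
  by_contra hc
  obtain ⟨hVS, hD, ⟨v1, hv1, hsS, hsU⟩, h1⟩ := crit1 L hg w hv0 hc
  obtain ⟨z, hz, hz1, huniq⟩ := two_elems hVS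
  have hzi : z ∈ V (U i) := (L i).VSle hz
  have h00 : ∀ v ∈ V (U (!i)), v ∈ U i := by
    intro v hv
    have w0 : Walk H (!i) 0 1 (!(!i)) := Walk.nil
    have := h0 (!i) 1 _ w0 v hv
    simpa using this
  cases w with
  | @cons _ d j' h w' hh =>
    have inner : ∀ K : G, Loc S (H i) (U i) K → K * z * K⁻¹ = d * z * d⁻¹ := by
      intro K LK
      have wK := w'.prepend (inv_mem LK.kH)
      by_cases hcr : ∃ v ∈ V (U (!i)), (K⁻¹ * d)⁻¹ * v * (K⁻¹ * d) ∉ U j'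
      · obtain ⟨v, hv, hvc⟩ := hcr
        obtain ⟨-, -, -, h2⟩ := crit1 L hg wK hv hvc
        have h3 := h2 z hz
        calc K * z * K⁻¹ = d * ((K⁻¹ * d)⁻¹ * z * (K⁻¹ * d)) * d⁻¹ := by group
          _ = d * z * d⁻¹ := by rw [h3]
      · exfalso
        push Not at hcr
        refine claim L hNC h00 hVS hz hz1 huniq hD hsS hsU hv1 rfl LK ?_
        intro v hv
        have h3 := (L j').Un h⁻¹ (inv_mem hh) _ (hcr v hv)
        have e : (d * h)⁻¹ * (K * v * K⁻¹) * (d * h)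
            = h⁻¹ * ((K⁻¹ * d)⁻¹ * v * (K⁻¹ * d)) * h⁻¹⁻¹ := by group
        rw [e]
        exact (L j').US h3
    have e1 := inner (k i) (L i)
    have e2 := inner (k i)⁻¹ (L i).inv
    rw [inv_inv] at e2
    -- k z k⁻¹ = k⁻¹ z k
    have e3 : k i * z * (k i)⁻¹ = (k i)⁻¹ * z * k i := by rw [e1, e2]
    apply hz1
    apply (L i).inv.kf z hzi.1
    have hk := (L i).kk
    calc z * (k i)⁻¹ = z * (k i * k i) := by rw [hk]
      _ = k i * ((k i)⁻¹ * z * k i) * k i := by group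
      _ = k i * (k i * z * (k i)⁻¹) * k i := by rw [e3]
      _ = (k i * k i) * z := by group
      _ = (k i)⁻¹ * z := by rw [hk]

end main

end Cfsg.Agent.Lib.H62Gam
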