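import Mathlib
import Cfsg.Agent.Lib.H15S0
import Cfsg.Agent.Lib.H15SGam1
import Cfsg.Agent.Lib.H62Gam

set_option autoImplicit false

namespace Cfsg.Agent.Lib.H62Gam

open Cfsg.Agent.Lib.H15S

variable {G : Type*} [Group G] [Finite G]

theorem side_sk {S H U : Subgroup G} (h : Side S H U) (hS : IsPGroup 2 S) {k : G} (hkH : k ∈ H)
    (hk3 : orderOf k = 3) {s : G} (hs : s ∈ S) (hsU : s ∉ U) : ∃ u ∈ U, s * k = k⁻¹ * u * s := by
  classical
  have hUH : U ≤ H := h.US.trans h.SH
  set N : Subgroup H := U.subgroupOf H with hN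
  have hNn : N.Normal := by
    constructor
    intro n hn g
    rw [hN, Subgroup.mem_subgroupOf] at hn ⊢
    exact h.nor g.1 g.2 n.1 hn
  have hcardN : Nat.card N = Nat.card U := Nat.card_congr (Subgroup.subgroupOfEquivOfLe hUH).toEquiv
  have hcardQ : Nat.card (H ⧸ N) = 6 := by
    have h1 := Subgroup.card_eq_card_quotient_mul_card_subgroup N
    rw [hcardN, h.cH] at h1
    have hp : 0 < Nat.card U := Nat.card_pos
    exact (Nat.eq_of_mul_eq_mul_right hp h1).symm
  have hkU : k ∉ U := by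
    intro hk
    apply (three_ndvd h hS).1
    have := Subgroup.orderOf_dvd_natCard U hk
    rwa [hk3] at this
  set kq : H ⧸ N := QuotientGroup.mk (⟨k, hkH⟩ : H) with hkq
  set sq : H ⧸ N := QuotientGroup.mk (⟨s, h.SH hs⟩ : H) with hsq
  have hkq1 : kq ≠ 1 := by
    intro e
    rw [hkq, QuotientGroup.eq_one_iff] at e
    exact hkU e
  have hsq1 : sq ≠ 1 := by
    intro e
    rw [hsq, QuotientGroup.eq_one_iff] at e
    exact hsU e
  have hkq3 : kq ^ 3 = 1 := by
    rw [hkq, ← QuotientGroup.mk_pow]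
    have : (⟨k, hkH⟩ : H) ^ 3 = 1 := Subtype.ext (by
      have := pow_orderOf_eq_one k
      rw [hk3] at this
      exact this)
    rw [this]; rfl
  have hok : orderOf kq = 3 := orderOf_eq_prime hkq3 hkq1
  have hss : s * s ∈ U := (side_mul h hs hs).mpr Iff.rfl
  have hsq2 : sq ^ 2 = 1 := by
    rw [hsq, ← QuotientGroup.mk_pow, QuotientGroup.eq_one_iff, hN, Subgroup.mem_subgroupOf]
    have : (((⟨s, h.SH hs⟩ : H) ^ 2 : H) : G) = s * s := by simp [sq, pow_two]
    rw [this]
    exact hss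
  have hos : orderOf sq = 2 := orderOf_eq_prime hsq2 hsq1
  have hindex : (Subgroup.zpowers kq).index = 2 := by
    have h1 := Subgroup.card_mul_index (Subgroup.zpowers kq)
    rw [Nat.card_zpowers, hok, hcardQ] at h1
    omega
  have hnorm : (Subgroup.zpowers kq).Normal := Subgroup.normal_of_index_eq_two hindex
  have hmem : sq * kq * sq⁻¹ ∈ Subgroup.zpowers kq :=
    hnorm.conj_mem kq (Subgroup.mem_zpowers kq) sq
  rw [mem_zpowers_iff_mem_range_orderOf, hok] at hmem
  simp only [Finset.mem_image, Finset.mem_range] at hmem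
  obtain ⟨m, hm, hm'⟩ := hmem
  have hcase : m = 0 ∨ m = 1 ∨ m = 2 := by omega
  rcases hcase with rfl | rfl | rfl
  · exfalso
    apply hkq1
    rw [pow_zero] at hm'
    calc kq = sq⁻¹ * (sq * kq * sq⁻¹) * sq := by group
      _ = 1 := by rw [← hm']; group
  · exfalso
    rw [pow_one] at hm'
    have hcomm : sq * kq = kq * sq := by
      calc sq * kq = (sq * kq * sq⁻¹) * sq := by group
        _ = kq * sq := by rw [← hm']
    have hC : Subgroup.centralizer ({sq} : Set (H ⧸ N)) = ⊤ := by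
      apply Subgroup.eq_top_of_card_eq
      have h3 : 3 ∣ Nat.card (Subgroup.centralizer ({sq} : Set (H ⧸ N))) := by
        have := Subgroup.orderOf_dvd_natCard (Subgroup.centralizer ({sq} : Set (H ⧸ N)))
          (x := kq) (Subgroup.mem_centralizer_singleton_iff.mpr hcomm.symm)
        rwa [hok] at this
      have h2 : 2 ∣ Nat.card (Subgroup.centralizer ({sq} : Set (H ⧸ N))) := by
        have := Subgroup.orderOf_dvd_natCard (Subgroup.centralizer ({sq} : Set (H ⧸ N)))
          (x := sq) (Subgroup.mem_centralizer_singleton_iff.mpr rfl)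
        rwa [hos] at this
      have h6 : 6 ∣ Nat.card (Subgroup.centralizer ({sq} : Set (H ⧸ N))) :=
        Nat.Coprime.mul_dvd_of_dvd_of_dvd (by norm_num : Nat.Coprime 2 3) h2 h3
      have h7 := Subgroup.card_subgroup_dvd_card (Subgroup.centralizer ({sq} : Set (H ⧸ N)))
      rw [hcardQ] at h7 ⊢
      exact Nat.dvd_antisymm h7 h6
    obtain ⟨g, hg, t, ht, hgt⟩ := h.nS
    apply hgt
    by_cases htU : t ∈ U
    · exact h.US (h.nor g hg t htU)
    · have hst : s⁻¹ * t ∈ U := by
        rw [side_mul h (inv_mem hs) ht]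
        simp [hsU, htU]
      have e1 : (QuotientGroup.mk (⟨t, h.SH ht⟩ : H) : H ⧸ N) = sq := by
        rw [hsq, eq_comm, QuotientGroup.eq]
        exact hst
      have e2 : (QuotientGroup.mk (⟨g, hg⟩ : H) : H ⧸ N) ∈
          Subgroup.centralizer ({sq} : Set (H ⧸ N)) := by rw [hC]; trivial
      rw [Subgroup.mem_centralizer_singleton_iff] at e2
      have e3 : (QuotientGroup.mk ((⟨g, hg⟩ : H) * ⟨t, h.SH ht⟩ * (⟨g, hg⟩ : H)⁻¹) : H ⧸ N) = sq := by
        rw [QuotientGroup.mk_mul, QuotientGroup.mk_mul, QuotientGroup.mk_inv, e1, e2]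
        group
      rw [hsq, eq_comm, QuotientGroup.eq] at e3
      have e4 : s⁻¹ * (g * t * g⁻¹) ∈ U := e3
      have e5 : g * t * g⁻¹ = s * (s⁻¹ * (g * t * g⁻¹)) := by group
      rw [e5]
      exact mul_mem hs (h.US e4)
  · -- sq kq sq⁻¹ = kq²
    have e0 : kq ^ 2 = kq⁻¹ := by
      rw [eq_inv_iff_mul_eq_one, ← pow_succ]
      exact hkq3
    rw [e0] at hm'
    have e1 : (QuotientGroup.mk ((⟨k, hkH⟩ : H)⁻¹) : H ⧸ N)
        = QuotientGroup.mk ((⟨s, h.SH hs⟩ : H) * ⟨k, hkH⟩ * (⟨s, h.SH hs⟩ : H)⁻¹) := by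
      rw [QuotientGroup.mk_mul, QuotientGroup.mk_mul, QuotientGroup.mk_inv, QuotientGroup.mk_inv]
      exact hm'
    rw [QuotientGroup.eq] at e1
    have e2 : k⁻¹⁻¹ * (s * k * s⁻¹) ∈ U := e1
    rw [inv_inv] at e2
    refine ⟨_, e2, ?_⟩
    group

theorem toLoc {S H U : Subgroup G} (h : Side S H U) (hS : IsPGroup 2 S) (hU : U ≠ ⊥) {k : G}
    (hkH : k ∈ H) (hk3 : orderOf k = 3) (hkf : ∀ u ∈ U, u * k = k * u → u = 1) : Loc S H U k where
  US := h.US
  SH := h.SH
  Un := h.nor
  idx := by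
    intro s hs t ht hsU htU
    rw [side_mul h (inv_mem hs) ht]
    simp [hsU, htU]
  kH := hkH
  k3 := by rw [← hk3]; exact pow_orderOf_eq_one k
  kf := hkf
  sk := fun s hs hsU => side_sk h hS hkH hk3 hs hsU
  eS := by
    by_contra hcon
    push Not at hcon
    have h1 : S ≤ U := hcon
    have h2 := Subgroup.card_le_of_le h1
    rw [h.cS] at h2
    have hp : 0 < Nat.card U := Nat.card_pos
    omega
  eV := by
    have h1 : IsPGroup 2 U := hS.to_le h.US
    have h2 := VZ_ne_bot h1 hU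
    by_contra hcon
    push Not at hcon
    apply h2
    rw [eq_bot_iff]
    intro x hx
    exact Subgroup.mem_bot.mpr (hcon x ⟨hx.1, VZ_sq1 hx, hx.2.2⟩)

theorem reach_mul {H : Bool → Subgroup G} {i : Bool} {d : G}
    (w : ∃ n j, Walk H i n d j) {l : Bool} {g : G} (hg : g ∈ H l) :
    ∃ n j, Walk H i n (d * g) j := by
  obtain ⟨n, j, w⟩ := w
  by_cases hl : l = j
  · subst hl
    exact ⟨_, _, w.cons g hg⟩
  · have w1 := w.cons 1 (H j).one_mem
    have hl' : (!j) = l := by
      revert hl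
      cases l <;> cases j <;> intro hl <;> first | rfl | exact absurd rfl hl
    rw [hl', mul_one] at w1
    exact ⟨_, _, w1.cons g hg⟩

theorem Gam {S H₁ H₂ U₁ U₂ : Subgroup G} (hS : IsPGroup 2 S) (h1 : Side S H₁ U₁)
    (h2 : Side S H₂ U₂)
    (hNC : ∀ T : Subgroup G, T ≠ ⊥ → T ≤ S → (∀ g ∈ H₁, ∀ t ∈ T, g * t * g⁻¹ ∈ T) →
      (∀ g ∈ H₂, ∀ t ∈ T, g * t * g⁻¹ ∈ T) → False) : Nat.card S ≤ 8 := by
  by_contra h8
  push Not at h8
  have hU1 : U₁ ≠ ⊥ := by
    rintro rfl
    have := h1.cS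
    rw [Subgroup.card_bot] at this
    omega
  have hU2 : U₂ ≠ ⊥ := by
    rintro rfl
    have := h2.cS
    rw [Subgroup.card_bot] at this
    omega
  obtain ⟨k1, hk1H, hk1, hk1f⟩ := h1.k
  obtain ⟨k2, hk2H, hk2, hk2f⟩ := h2.k
  let H : Bool → Subgroup G := fun b => cond b H₁ H₂
  let U : Bool → Subgroup G := fun b => cond b U₁ U₂
  let k : Bool → G := fun b => cond b k1 k2
  have L : ∀ i, Loc S (H i) (U i) (k i) := by
    intro i
    cases i
    · exact toLoc h2 hS hU2 hk2H hk2 hk2f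
    · exact toLoc h1 hS hU1 hk1H hk1 hk1f
  have hNC' : ∀ T : Subgroup G, T ≠ ⊥ → T ≤ S →
      (∀ i, ∀ g ∈ H i, ∀ t ∈ T, g * t * g⁻¹ ∈ T) → False :=
    fun T a b c => hNC T a b (c true) (c false)
  have hle1 : VZ U₁ ≤ U₂ := by
    by_contra hcon
    have := Gam1 hS h1 h2 hNC hcon
    omega
  have hle2 : VZ U₂ ≤ U₁ := by
    by_contra hcon
    have := Gam1 hS h2 h1 (fun T a b c d => hNC T a b d c) hcon
    omega
  have toVZ : ∀ {X : Subgroup G} {x : G}, x ∈ V X → x ∈ VZ X := by
    intro X x hx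
    exact ⟨hx.1, by rw [pow_two]; exact hx.2.1, hx.2.2⟩
  have g0 : Good H U 0 := by
    intro i d j w v hv
    cases w
    have e : (1 : G)⁻¹ * v * 1 = v := by group
    rw [e]
    cases i
    · have : v ∈ U₁ := hle2 (toVZ hv)
      exact this
    · have : v ∈ U₂ := hle1 (toVZ hv)
      exact this
  have gall : ∀ n, Good H U n := by
    intro n
    induction n with
    | zero => exact g0
    | succ n ih => exact step2 L hNC' g0 ih
  let R : Subgroup G :=
    { carrier := {g | ∀ d, (∃ n j, Walk H true n d j) ↔ ∃ n j, Walk H true n (d * g) j}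
      one_mem' := by intro d; rw [mul_one]
      mul_mem' := by
        intro a b ha hb d
        rw [ha d, hb (d * a), mul_assoc]
      inv_mem' := by
        intro a ha d
        have := ha (d * a⁻¹)
        rw [inv_mul_cancel_right] at this
        exact this.symm }
  have hR : ∀ l, H l ≤ R := by
    intro l g hg d
    constructor
    · intro w
      exact reach_mul w hg
    · intro w
      have := reach_mul w (inv_mem hg)
      rwa [mul_inv_cancel_right] at this
  let K : Subgroup G := H true ⊔ H false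
  have hK : K ≤ R := sup_le (hR true) (hR false)
  have hKl : ∀ l, H l ≤ K := by
    intro l
    cases l
    · exact le_sup_right
    · exact le_sup_left
  let T : Subgroup G :=
    { carrier := {x | ∀ g ∈ K, g⁻¹ * x * g ∈ S}
      one_mem' := by
        intro g _
        have : g⁻¹ * 1 * g = 1 := by group
        rw [this]; exact S.one_mem
      mul_mem' := by
        intro a b ha hb g hg
        have : g⁻¹ * (a * b) * g = (g⁻¹ * a * g) * (g⁻¹ * b * g) := by group
        rw [this]
        exact S.mul_mem (ha g hg) (hb g hg)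
      inv_mem' := by
        intro a ha g hg
        have : g⁻¹ * a⁻¹ * g = (g⁻¹ * a * g)⁻¹ := by group
        rw [this]
        exact S.inv_mem (ha g hg) }
  apply hNC' T
  · intro hT
    obtain ⟨v, hv, hv1⟩ := (L true).eV
    have hvT : v ∈ T := by
      intro g hg
      have h3 : ∃ n j, Walk H true n (1 * g) j := (hK hg 1).mp ⟨_, _, Walk.nil⟩
      obtain ⟨n, j, w⟩ := h3
      rw [one_mul] at w
      exact (L j).US (gall n true g j w v hv)
    rw [hT] at hvT
    exact hv1 (Subgroup.mem_bot.mp hvT)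
  · intro x hx
    have := hx 1 K.one_mem
    simpa using this
  · intro i g hg t ht g' hg'
    have := ht (g⁻¹ * g') (K.mul_mem (K.inv_mem (hKl i hg)) hg')
    have e : g'⁻¹ * (g * t * g⁻¹) * g' = (g⁻¹ * g')⁻¹ * t * (g⁻¹ * g') := by group
    rw [e]
    exact this

end Cfsg.Agent.Lib.H62Gam
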