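import Mathlib
import Cfsg.Agent.Lib.H15SJ
import Cfsg.Agent.Lib.H15SE0
import Cfsg.Agent.Lib.H62GamF

set_option autoImplicit false
set_option linter.all false

/-! S2220: the bound, exact statement -/

namespace Cfsg.Agent.Lib.H15SI

open Subgroup Cfsg.Agent.Lib.H15S

section
variable {G : Type*} [Group G] [Finite G]

theorem E_q (h : HK G) {q a b : ℕ} (hq : q.Prime) (hq2 : q ≠ 2) (hq3 : q ≠ 3)
    (hcard : Nat.card G = 9 * 2 ^ a * q ^ b) {k : G} (hk : orderOf k = 3)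
    {U U' : Subgroup G} (hU : KMax k U) (hU' : KMax k U') (hqU : q ∣ Nat.card U)
    (hqU' : q ∣ Nat.card U') :
    (∃ g : G, U' = U.map (MulAut.conj g).toMonoidHom) ∧ q ^ b ∣ Nat.card U ∧ q ^ b % 3 = 1 :=
  Cfsg.Agent.Lib.H15SE0.E_q_of h (fun _ hk _ hkH h9 => Cfsg.Agent.Lib.H15SA.A_struct h hk hkH h9) hq hq2 hq3 hcard hk
    hU hU' hqU hqU'

theorem bound [IsSimpleGroup G] (hG : ¬ IsMulCommutative G) (h : HK G) {q a b : ℕ}
    (hq : q.Prime) (hq2 : q ≠ 2) (hq3 : q ≠ 3) (ha : 3 ≤ a)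
    (hcard : Nat.card G = 9 * 2 ^ a * q ^ b) {k : G} (hk : orderOf k = 3) :
    Nat.card {p : G × G // orderOf p.1 = 3 ∧ orderOf p.2 = 3 ∧ p.1 * p.2 = k⁻¹} ≤
      34 + (if a % 2 = 0 then 6 * (2 ^ a - 1) else 3 * (2 ^ (a - 1) - 1)) +
      (if q ^ b % 3 = 1 then 12 * q ^ b else 0) :=
  Cfsg.Agent.Lib.H15SJ.bound_of h hq hq2 hq3 ha hcard hk
    (fun U U' hU hU' hqU hqU' => E_q h hq hq2 hq3 hcard hk hU hU' hqU hqU')
    (fun S H₁ H₂ U₁ U₂ hS h1 h2 hT => Cfsg.Agent.Lib.H62Gam.Gam hS h1 h2 hT)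

end
end Cfsg.Agent.Lib.H15SI
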