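import Mathlib
import Cfsg.Agent.Lib.H15S0

set_option autoImplicit false

namespace Cfsg.Agent.Lib.H15SX

open Subgroup Cfsg.Agent.Lib.H15S

theorem x_fib {α β : Type*} [Finite α] (f : α → β) (hf : Function.Surjective f) (m : ℕ)
    (h : ∀ b, Nat.card {x // f x = b} = m) : Nat.card α = Nat.card β * m := by
  classical
  have : Finite β := Finite.of_surjective f hf
  have := Fintype.ofFinite β
  rw [← Nat.card_congr (Equiv.sigmaFiberEquiv f), Nat.card_sigma]
  simp only [h, Finset.sum_const, Finset.card_univ, smul_eq_mul, Nat.card_eq_fintype_card]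

theorem x_dvd {α β : Type*} [Finite α] (f : α → β) (m : ℕ)
    (h : ∀ a, Nat.card {x // f x = f a} = m) : m ∣ Nat.card α := by
  refine ⟨Nat.card (Set.range f), ?_⟩
  rw [mul_comm]
  refine x_fib (Set.rangeFactorization f) Set.rangeFactorization_surjective m ?_
  rintro ⟨_, a, rfl⟩
  rw [← h a]
  refine Nat.card_congr (Equiv.subtypeEquivRight fun x => ?_)
  rw [Subtype.ext_iff]
  rfl

theorem x_ne {α : Type*} [Finite α] (a : α) : Nat.card α = Nat.card {x : α // x ≠ a} + 1 := by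
  classical
  have := Fintype.ofFinite α
  have h := Fintype.card_subtype_compl (fun x : α => x = a)
  rw [Fintype.card_subtype_eq] at h
  have h0 : 0 < Fintype.card α := Fintype.card_pos_iff.2 ⟨a⟩
  rw [Nat.card_eq_fintype_card, Nat.card_eq_fintype_card]
  have h1 : Fintype.card {x : α // x ≠ a} = Fintype.card {x : α // ¬ x = a} := rfl
  rw [h1, h]
  omega

theorem X72 {G : Type*} [Group G] [Finite G] (h : HK G) {q a b : ℕ} (hq : q.Prime) (hq2 : q ≠ 2) (hq3 : q ≠ 3)
    (hcard : Nat.card G = 9 * 2 ^ a * q ^ b) : 2 ^ a * q ^ b % 72 = 8 := by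
  classical
  obtain ⟨k0, hk0⟩ := exists_prime_orderOf_dvd_card' 3 (show 3 ∣ Nat.card G from by
    rw [hcard]; exact ⟨3 * 2 ^ a * q ^ b, by ring⟩)
  have hconj : ∀ g x : G, orderOf x = 3 → orderOf (g * x * g⁻¹) = 3 := by
    intro g x hx
    have := (MulAut.conj g).orderOf_eq x
    rw [MulAut.conj_apply] at this
    rw [this, hx]
  have hmem : ∀ x y : G, x ∈ centralizer ({y} : Set G) ↔ x * y = y * x := by
    intro x y
    rw [mem_centralizer_singleton_iff]
  have h3 : ∀ k g : G, orderOf k = 3 → g ≠ 1 → g * k = k * g → orderOf g = 3 := by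
    intro k g hk hg hgk
    exact orderOf_eq_prime (h.exp k g hk hgk) hg
  -- step 1
  have h1 : Nat.card G = Nat.card {x : G // orderOf x = 3} * 9 := by
    refine x_fib (fun g => (⟨g * k0 * g⁻¹, hconj g k0 hk0⟩ : {x : G // orderOf x = 3})) ?_ 9 ?_
    · rintro ⟨x, hx⟩
      obtain ⟨g, hg⟩ := h.one k0 x hk0 hx
      exact ⟨g, Subtype.ext hg⟩
    · rintro ⟨y, hy⟩
      obtain ⟨g, hg⟩ := h.one k0 y hk0 hy
      rw [← h.cen9 k0 hk0]
      refine Nat.card_congr ⟨fun x => ⟨g⁻¹ * x.1, ?_⟩, fun x => ⟨g * x.1, ?_⟩, fun x => ?_, fun x => ?_⟩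
      · have hx : x.1 * k0 * x.1⁻¹ = y := congrArg Subtype.val x.2
        rw [hmem]
        have h2 : x.1 * k0 = y * x.1 := mul_inv_eq_iff_eq_mul.1 hx
        have h4 : k0 * g⁻¹ = g⁻¹ * y := by rw [← hg]; group
        rw [mul_assoc, h2, ← mul_assoc, ← mul_assoc, h4]
      · have hx := (hmem _ _).1 x.2
        refine Subtype.ext ?_
        show g * x.1 * k0 * (g * x.1)⁻¹ = y
        rw [mul_assoc g, hx, ← hg]
        group
      · exact Subtype.ext (by simp)
      · exact Subtype.ext (by simp)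
  -- step 2
  have hce : ∀ k : G, orderOf k = 3 → Nat.card {x : {x : G // orderOf x = 3} //
      centralizer ({x.1} : Set G) = centralizer ({k} : Set G)} = 8 := by
    intro k hk
    have h9 := h.cen9 k hk
    rw [x_ne (1 : centralizer ({k} : Set G))] at h9
    have h8 : Nat.card {x : centralizer ({k} : Set G) // x ≠ 1} = 8 := by omega
    rw [← h8]
    refine Nat.card_congr ⟨fun x => ⟨⟨x.1.1, ?_⟩, ?_⟩, fun x => ⟨⟨x.1.1, ?_⟩, ?_⟩, fun x => rfl, fun x => rfl⟩
    · have h5 : x.1.1 ∈ centralizer ({x.1.1} : Set G) := by rw [hmem]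
      exact x.2.le h5
    · intro hx
      have : x.1.1 = 1 := congrArg Subtype.val hx
      have h5 := x.1.2
      rw [this, orderOf_one] at h5
      omega
    · exact h3 k x.1.1 hk (fun h' => x.2 (Subtype.ext h')) ((hmem _ _).1 x.1.2)
    · exact h.tr k x.1.1 hk (fun h' => x.2 (Subtype.ext h')) ((hmem _ _).1 x.1.2)
  have h2 : 8 ∣ Nat.card {x : G // orderOf x = 3} := by
    refine x_dvd (fun x : {x : G // orderOf x = 3} => centralizer ({x.1} : Set G)) 8 ?_
    rintro ⟨k, hk⟩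
    exact hce k hk
  -- step 3
  have h5 : 9 ∣ Nat.card {x : {x : G // orderOf x = 3} // ¬ centralizer ({x.1} : Set G) = centralizer ({k0} : Set G)} := by
    refine x_dvd (fun x => {y : G | ∃ p ∈ centralizer ({k0} : Set G), y = p * x.1.1 * p⁻¹}) 9 ?_
    rintro ⟨⟨x, hx⟩, hxk⟩
    rw [← h.cen9 k0 hk0]
    have hcc : ∀ p : G, p ∈ centralizer ({k0} : Set G) → ¬ centralizer ({p * x * p⁻¹} : Set G) = centralizer ({k0} : Set G) := by
      intro p hp hcon
      apply hxk
      have hx1 : p * x * p⁻¹ ∈ centralizer ({k0} : Set G) := by rw [← hcon, hmem]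
      have hx2 : x ∈ centralizer ({k0} : Set G) := by
        have := mul_mem (mul_mem (inv_mem hp) hx1) hp
        have h6 : p⁻¹ * (p * x * p⁻¹) * p = x := by group
        rwa [h6] at this
      have hx3 : x ≠ 1 := by
        rintro rfl
        rw [orderOf_one] at hx
        omega
      exact h.tr k0 x hk0 hx3 ((hmem _ _).1 hx2)
    symm
    refine Nat.card_congr (Equiv.ofBijective (fun p => ⟨⟨⟨p.1 * x * p.1⁻¹, hconj _ _ hx⟩, hcc p.1 p.2⟩, ?_⟩) ⟨?_, ?_⟩)
    · ext y
      constructor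
      · rintro ⟨p', hp', h6⟩
        refine ⟨p' * p.1, mul_mem hp' p.2, ?_⟩
        rw [h6]
        simp only
        group
      · rintro ⟨p', hp', h6⟩
        refine ⟨p' * p.1⁻¹, mul_mem hp' (inv_mem p.2), ?_⟩
        rw [h6]
        simp only
        group
    · intro p p' hpp
      have h6 : p.1 * x * p.1⁻¹ = p'.1 * x * p'.1⁻¹ := congrArg (fun y => y.1.1.1) hpp
      have h7 : p'.1⁻¹ * p.1 * x = x * (p'.1⁻¹ * p.1) := by
        calc p'.1⁻¹ * p.1 * x = p'.1⁻¹ * (p.1 * x * p.1⁻¹) * p.1 := by group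
          _ = p'.1⁻¹ * (p'.1 * x * p'.1⁻¹) * p.1 := by rw [h6]
          _ = _ := by group
      by_contra hne
      have h8 : p'.1⁻¹ * p.1 ≠ 1 := fun h' => hne (Subtype.ext (inv_mul_eq_one.1 h').symm)
      have h9 : p'.1⁻¹ * p.1 ∈ centralizer ({k0} : Set G) := mul_mem (inv_mem p'.2) p.2
      have h10 := h.tr k0 _ hk0 h8 ((hmem _ _).1 h9)
      have h11 : x ∈ centralizer ({p'.1⁻¹ * p.1} : Set G) := (hmem _ _).2 h7.symm
      rw [h10] at h11
      have hx3 : x ≠ 1 := by
        rintro rfl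
        rw [orderOf_one] at hx
        omega
      exact hxk (h.tr k0 x hk0 hx3 ((hmem _ _).1 h11))
    · rintro ⟨⟨⟨y, hy⟩, hyk⟩, hyx⟩
      have h6 : y ∈ {y' : G | ∃ p ∈ centralizer ({k0} : Set G), y' = p * y * p⁻¹} := ⟨1, one_mem _, by group⟩
      have h7 : {y' : G | ∃ p ∈ centralizer ({k0} : Set G), y' = p * y * p⁻¹} =
        {y' : G | ∃ p ∈ centralizer ({k0} : Set G), y' = p * x * p⁻¹} := hyx
      rw [h7] at h6
      obtain ⟨p, hp, h8⟩ := h6
      refine ⟨⟨p, hp⟩, ?_⟩
      refine Subtype.ext (Subtype.ext (Subtype.ext ?_))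
      exact h8.symm
  have h6 : Nat.card {x : G // orderOf x = 3} = 8 +
      Nat.card {x : {x : G // orderOf x = 3} // ¬ centralizer ({x.1} : Set G) = centralizer ({k0} : Set G)} := by
    rw [← hce k0 hk0, ← Nat.card_sum]
    exact (Nat.card_congr (Equiv.sumCompl fun x : {x : G // orderOf x = 3} =>
      centralizer ({x.1} : Set G) = centralizer ({k0} : Set G))).symm
  have h7 : 2 ^ a * q ^ b = Nat.card {x : G // orderOf x = 3} := by
    have : 9 * (2 ^ a * q ^ b) = Nat.card {x : G // orderOf x = 3} * 9 := by rw [← h1, hcard]; ring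
    omega
  rw [h7]
  omega

end Cfsg.Agent.Lib.H15SX
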