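
import Cfsg.Agent.Lib.FratRep

/-! Piece B of the S3718 plan (helper88): `⁅A, n⁆` centralizes `R` for `n` of odd order normalizing the `2`-group `A`
and the `r`-group `R`. -/

set_option autoImplicit false
set_option maxHeartbeats 400000

namespace Cfsg.Agent.Lib.H15TBc

open Subgroup Cfsg Cfsg.Agent.Lib.CoprimeAction2

universe u

section LinAlg

variable {F V : Type*} [Field F] [AddCommGroup V] [Module F V]

/-- A simultaneous eigenvector of a finite set of commuting involutions inside the `(-1)`-eigenspace of `c`. -/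
theorem exists_weight {H : Type*} [Group H] (ρ : H →* Module.End F V) {A : Subgroup H}
    (hsq : ∀ b ∈ A, b * b = 1) {c : H} (hc : c ∈ A)
    {u : V} (hu : u ≠ 0) (hcu : ρ c u = -u) (S : Finset H) (hS : ∀ b ∈ S, b ∈ A) :
    ∃ x : V, x ≠ 0 ∧ ρ c x = -x ∧ ∀ b ∈ S, ρ b x = x ∨ ρ b x = -x := by
  classical
  have hcomm : ∀ a ∈ A, ∀ b ∈ A, a * b = b * a := by
    intro a ha b hb
    have h1 := hsq _ (mul_mem ha hb)
    have h2 : (a * b)⁻¹ = a * b := inv_eq_of_mul_eq_one_right h1
    rw [mul_inv_rev, inv_eq_of_mul_eq_one_right (hsq a ha), inv_eq_of_mul_eq_one_right (hsq b hb)] at h2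
    exact h2.symm
  have happ : ∀ (a b : H) (x : V), ρ a (ρ b x) = ρ (a * b) x := by
    intro a b x; rw [map_mul]; rfl
  induction S using Finset.induction_on with
  | empty => exact ⟨u, hu, hcu, by simp⟩
  | insert b S hbS ih =>
    obtain ⟨x, hx, hcx, hxS⟩ := ih (fun b hb => hS b (Finset.mem_insert_of_mem hb))
    have hbA := hS b (Finset.mem_insert_self _ _)
    by_cases hbx : ρ b x = -x
    · refine ⟨x, hx, hcx, ?_⟩
      intro b' hb'
      rcases Finset.mem_insert.mp hb' with h | h
      · rw [h]; exact Or.inr hbx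
      · exact hxS b' h
    · refine ⟨x + ρ b x, ?_, ?_, ?_⟩
      · intro h
        apply hbx
        rw [add_comm] at h
        exact eq_neg_of_add_eq_zero_left h
      · rw [map_add, hcx, happ, hcomm c hc b hbA, ← happ, hcx, map_neg, neg_add]
      · intro b' hb'
        rcases Finset.mem_insert.mp hb' with h | h
        · left
          rw [h, map_add, happ, hsq b hbA, map_one, Module.End.one_apply, add_comm]
        · have hb'A := hS b' hb'
          rcases hxS b' h with h1 | h1
          · left
            rw [map_add, h1, happ, hcomm b' hb'A b hbA, ← happ, h1]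
          · right
            rw [map_add, h1, happ, hcomm b' hb'A b hbA, ← happ, h1, map_neg, neg_add]

/-- The key linear algebra statement. -/
theorem lin_core {H : Type*} [Group H] [Finite H] (h2F : (2 : F) ≠ 0) (ρ : H →* Module.End F V) {A : Subgroup H}
    (hsq : ∀ b ∈ A, b * b = 1) {n : H} (hnA : ∀ b ∈ A, n * b * n⁻¹ ∈ A) (hnA' : ∀ b ∈ A, n⁻¹ * b * n ∈ A)
    {p : ℕ} (hp : p.Prime) (hnp : n ^ p = 1) (hsum : ∑ i ∈ Finset.range p, ρ n ^ i = 0)
    {a : H} (ha : a ∈ A) : ρ (a * n * a⁻¹ * n⁻¹) = 1 := by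
  classical
  have happ : ∀ (a b : H) (x : V), ρ a (ρ b x) = ρ (a * b) x := by
    intro a b x; rw [map_mul]; rfl
  have hcomm : ∀ a ∈ A, ∀ b ∈ A, a * b = b * a := by
    intro a ha b hb
    have h1 := hsq _ (mul_mem ha hb)
    have h2 : (a * b)⁻¹ = a * b := inv_eq_of_mul_eq_one_right h1
    rw [mul_inv_rev, inv_eq_of_mul_eq_one_right (hsq a ha), inv_eq_of_mul_eq_one_right (hsq b hb)] at h2
    exact h2.symm
  set c : H := a * n * a⁻¹ * n⁻¹ with hcdef
  have hcA : c ∈ A := by
    have : c = a * (n * a⁻¹ * n⁻¹) := by rw [hcdef]; group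
    rw [this]
    exact mul_mem ha (hnA _ (inv_mem ha))
  by_contra hne
  -- the (-1)-eigenspace of c is nonzero
  obtain ⟨u, hu, hcu⟩ : ∃ u : V, u ≠ 0 ∧ ρ c u = -u := by
    obtain ⟨w, hw⟩ : ∃ w : V, ρ c w ≠ w := by
      by_contra hcon
      push_neg at hcon
      apply hne
      apply LinearMap.ext
      intro w
      rw [hcon w, Module.End.one_apply]
    refine ⟨ρ c w - w, sub_ne_zero.mpr hw, ?_⟩
    rw [map_sub, happ, hsq c hcA, map_one, Module.End.one_apply, neg_sub]
  obtain ⟨x, hx, hcx, hxA⟩ := exists_weight ρ hsq hcA hu hcu (Set.toFinite (A : Set H)).toFinset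
    (fun b hb => by simpa using hb)
  have hxA' : ∀ b ∈ A, ρ b x = x ∨ ρ b x = -x := fun b hb => hxA b (by simpa using hb)
  -- the weight
  have hε : ∀ b ∈ A, ∃ e : F, e * e = 1 ∧ ρ b x = e • x := by
    intro b hb
    rcases hxA' b hb with h | h
    · exact ⟨1, by ring, by rw [h, one_smul]⟩
    · exact ⟨-1, by ring, by rw [h, neg_smul, one_smul]⟩
  choose! ε hε1 hε2 using hε
  have hεuniq : ∀ b ∈ A, ∀ e : F, ρ b x = e • x → e = ε b := by
    intro b hb e he
    have h1 := hε2 b hb
    rw [he] at h1
    have h2 : (e - ε b) • x = 0 := by rw [sub_smul, h1, sub_self]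
    rcases smul_eq_zero.mp h2 with h3 | h3
    · exact sub_eq_zero.mp h3
    · exact absurd h3 hx
  have hεmul : ∀ b ∈ A, ∀ b' ∈ A, ε (b * b') = ε b * ε b' := by
    intro b hb b' hb'
    symm
    apply hεuniq _ (mul_mem hb hb')
    rw [← happ, hε2 b' hb', map_smul, hε2 b hb, smul_smul, mul_comm]
  have hεpm : ∀ b ∈ A, ε b = 1 ∨ ε b = -1 := by
    intro b hb
    exact mul_self_eq_one_iff.mp (hε1 b hb)
  have hεc : ε c = -1 := by
    symm
    apply hεuniq c hcA
    rw [hcx, neg_smul, one_smul]
  -- conjugates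
  have hpowA : ∀ (i : ℕ), ∀ b ∈ A, (n ^ i)⁻¹ * b * n ^ i ∈ A := by
    intro i
    induction i with
    | zero => intro b hb; simpa using hb
    | succ i ih =>
      intro b hb
      have h1 := hnA' _ (ih b hb)
      have e : (n ^ (i + 1))⁻¹ * b * n ^ (i + 1) = n⁻¹ * ((n ^ i)⁻¹ * b * n ^ i) * n := by
        rw [pow_succ]; group
      rw [e]; exact h1
  have hxi : ∀ (i : ℕ), ∀ b ∈ A, ρ b (ρ (n ^ i) x) = ε ((n ^ i)⁻¹ * b * n ^ i) • ρ (n ^ i) x := by
    intro i b hb
    rw [← map_smul, ← hε2 _ (hpowA i b hb), happ, happ]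
    congr 2
    group
  -- separation
  have hsep : ∀ j : ℕ, 1 ≤ j → j < p → ∃ b ∈ A, ε ((n ^ j)⁻¹ * b * n ^ j) ≠ ε b := by
    intro j hj1 hjp
    by_contra hcon
    push_neg at hcon
    have h1 : ∀ k : ℕ, ∀ b ∈ A, ε ((n ^ (j * k))⁻¹ * b * n ^ (j * k)) = ε b := by
      intro k
      induction k with
      | zero => intro b _; simp
      | succ k ih =>
        intro b hb
        have e : (n ^ (j * (k + 1)))⁻¹ * b * n ^ (j * (k + 1)) =
            (n ^ j)⁻¹ * ((n ^ (j * k))⁻¹ * b * n ^ (j * k)) * n ^ j := by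
          rw [Nat.mul_succ, pow_add]; group
        rw [e, hcon _ (hpowA _ b hb), ih b hb]
    -- choose k with j*k ≡ 1 mod p
    have hcop : Nat.Coprime j p := by
      rw [Nat.coprime_comm, hp.coprime_iff_not_dvd]
      intro hd
      exact absurd (Nat.le_of_dvd hj1 hd) (by omega)
    obtain ⟨k, -, hk⟩ := Nat.exists_mul_mod_eq_one_of_coprime hcop hp.one_lt
    have hnk : n ^ (j * k) = n := by
      conv_lhs => rw [← Nat.mod_add_div (j * k) p]
      rw [hk, pow_add, pow_mul, hnp, one_pow, pow_one, mul_one]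
    have h2 : ∀ b ∈ A, ε (n⁻¹ * b * n) = ε b := by
      intro b hb
      have := h1 k b hb
      rwa [hnk] at this
    have h3 : c = a * (n * a⁻¹ * n⁻¹) := by rw [hcdef]; group
    have h4 : n * a⁻¹ * n⁻¹ ∈ A := hnA _ (inv_mem ha)
    have h5 := h2 _ h4
    have h6 : n⁻¹ * (n * a⁻¹ * n⁻¹) * n = a⁻¹ := by group
    rw [h6] at h5
    have h7 : ε c = ε a * ε a⁻¹ := by rw [h3, hεmul a ha _ h4, h5]
    rw [← hεmul a ha _ (inv_mem ha), mul_inv_cancel] at h7
    have h8 : ε (1 : H) = 1 := by
      symm
      apply hεuniq 1 (one_mem _)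
      rw [map_one, Module.End.one_apply, one_smul]
    rw [h8, hεc] at h7
    apply h2F
    have : (2 : F) = 1 - (-1) := by ring
    rw [this, h7, sub_self]
  -- the relation
  have hrel : ∀ m : ℕ, m < p → ∃ μ : ℕ → F, μ 0 ≠ 0 ∧ (∀ i, 1 ≤ i → i ≤ m → μ i = 0) ∧
      ∑ i ∈ Finset.range p, μ i • ρ (n ^ i) x = 0 := by
    intro m
    induction m with
    | zero =>
      intro _
      refine ⟨fun _ => 1, one_ne_zero, fun i h1 h2 => by omega, ?_⟩
      have h1 := congrArg (fun f : Module.End F V => f x) hsum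
      simp only [LinearMap.sum_apply, LinearMap.zero_apply] at h1
      rw [← h1]
      apply Finset.sum_congr rfl
      intro i _
      rw [one_smul, map_pow]
    | succ m ih =>
      intro hm
      obtain ⟨μ, hμ0, hμ, hs⟩ := ih (by omega)
      obtain ⟨b, hb, hbne⟩ := hsep (m + 1) (by omega) hm
      refine ⟨fun i => μ i * (1 + ε b * ε ((n ^ i)⁻¹ * b * n ^ i)), ?_, ?_, ?_⟩
      · simp only [pow_zero, inv_one, one_mul, mul_one]
        rw [hε1 b hb]
        refine mul_ne_zero hμ0 ?_
        have : (1 : F) + 1 = 2 := by ring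
        rw [this]; exact h2F
      · intro i h1 h2
        rcases Nat.lt_or_ge i (m + 1) with h3 | h3
        · simp only [hμ i h1 (by omega), zero_mul]
        · have h4 : i = m + 1 := by omega
          subst h4
          have h5 := hεpm b hb
          have h6 := hεpm _ (hpowA (m + 1) b hb)
          have h7 : ε b * ε ((n ^ (m + 1))⁻¹ * b * n ^ (m + 1)) = -1 := by
            rcases h5 with h5 | h5 <;> rcases h6 with h6 | h6
            · exact absurd (h6.trans h5.symm) hbne
            · rw [h5, h6]; ring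
            · rw [h5, h6]; ring
            · exact absurd (h6.trans h5.symm) hbne
          simp only [h7]
          ring
      · have h8 : ρ b (∑ i ∈ Finset.range p, μ i • ρ (n ^ i) x) = 0 := by rw [hs, map_zero]
        rw [map_sum] at h8
        have h9 : (∑ i ∈ Finset.range p, μ i • ρ (n ^ i) x) + ε b • (∑ i ∈ Finset.range p, ρ b (μ i • ρ (n ^ i) x)) = 0 := by
          rw [h8, hs, smul_zero, add_zero]
        rw [Finset.smul_sum, ← Finset.sum_add_distrib] at h9
        rw [← h9]
        apply Finset.sum_congr rfl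
        intro i _
        rw [map_smul, hxi i b hb, smul_smul, smul_smul, ← add_smul]
        congr 1
        ring
  obtain ⟨μ, hμ0, hμ, hs⟩ := hrel (p - 1) (by have := hp.pos; omega)
  rw [Finset.sum_eq_single_of_mem 0 (Finset.mem_range.mpr hp.pos)] at hs
  · rw [pow_zero, map_one, Module.End.one_apply] at hs
    rcases smul_eq_zero.mp hs with h | h
    · exact hμ0 h
    · exact hx h
  · intro i hi hi0
    rw [hμ i (by omega) (by have := Finset.mem_range.mp hi; omega), zero_smul]

end LinAlg

section Grp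

variable {H : Type u} [Group H] [Finite H] {r : ℕ}

/-- `2`-subgroups are elementary abelian. -/
theorem sq_one (h2 : r.Prime) (h2' : r ≠ 2) (heven : ∀ x : H, 2 ∣ orderOf x → orderOf x = 2 ∨ orderOf x = 2 * r)
    {A : Subgroup H} (hA : IsPGroup 2 A) : ∀ b ∈ A, b * b = 1 := by
  intro b hb
  rw [← pow_two]
  obtain ⟨k, hk⟩ := hA ⟨b, hb⟩
  have hk' : b ^ 2 ^ k = 1 := congrArg Subtype.val hk
  obtain ⟨j, _, hj⟩ := (Nat.dvd_prime_pow Nat.prime_two).mp (orderOf_dvd_of_pow_eq_one hk')
  rcases Nat.eq_zero_or_pos j with h0 | h0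
  · rw [h0, pow_zero, orderOf_eq_one_iff] at hj
    rw [hj, one_pow]
  · have hd : 2 ∣ orderOf b := by rw [hj]; exact dvd_pow_self 2 (by omega)
    rcases heven b hd with h | h
    · rw [← h]; exact pow_orderOf_eq_one b
    · exfalso
      have : r ∣ 2 ^ j := by rw [← hj, h]; exact dvd_mul_left _ _
      exact h2' ((Nat.prime_dvd_prime_iff_eq h2 Nat.prime_two).mp (h2.dvd_of_dvd_pow this))

theorem comm_of_sq {A : Subgroup H} (hsq : ∀ b ∈ A, b * b = 1) : ∀ a ∈ A, ∀ b ∈ A, a * b = b * a := by
  intro a ha b hb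
  have h1 := hsq _ (mul_mem ha hb)
  have h2 : (a * b)⁻¹ = a * b := inv_eq_of_mul_eq_one_right h1
  rw [mul_inv_rev, inv_eq_of_mul_eq_one_right (hsq a ha), inv_eq_of_mul_eq_one_right (hsq b hb)] at h2
  exact h2.symm

/-- prime order case, `R` normal. -/
theorem prime_case (hr : r.Prime) (hr2 : r ≠ 2) (heven : ∀ x : H, 2 ∣ orderOf x → orderOf x = 2 ∨ orderOf x = 2 * r)
    (hrr : ∀ x : H, r ∣ orderOf x → orderOf x = r ∨ orderOf x = 2 * r)
    {A R : Subgroup H} (hRn : R.Normal) (hA : IsPGroup 2 A) (hR : IsPGroup r R)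
    {n : H} (hnA : n ∈ normalizer (A : Set H)) {p : ℕ} (hp : p.Prime) (hnp : orderOf n = p) (hp2 : p ≠ 2)
    {a : H} (ha : a ∈ A) : a * n * a⁻¹ * n⁻¹ ∈ centralizer (R : Set H) := by
  classical
  haveI : Fact r.Prime := ⟨hr⟩
  have hsq := sq_one hr hr2 heven hA
  have hnA1 : ∀ b ∈ A, n * b * n⁻¹ ∈ A := fun b hb => (mem_normalizer_iff.mp hnA b).mp hb
  have hnA2 : ∀ b ∈ A, n⁻¹ * b * n ∈ A := by
    intro b hb
    have := (mem_normalizer_iff.mp (inv_mem hnA) b).mp hb
    rwa [inv_inv] at this
  obtain ⟨V, _, _, _, ⟨D⟩⟩ := FratRep.exists_data (p := r) R hRn hR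
  have hnp1 : n ^ p = 1 := by rw [← hnp]; exact pow_orderOf_eq_one n
  have hpow : ∀ y ∈ R, (y * n) ^ p = 1 := by
    intro y hy
    -- (y n)^p ∈ R
    have h1 : (y * n) ^ p ∈ R := by
      rw [← QuotientGroup.eq_one_iff, QuotientGroup.mk_pow, QuotientGroup.mk_mul,
        (QuotientGroup.eq_one_iff y).mpr hy, one_mul, ← QuotientGroup.mk_pow, hnp1, QuotientGroup.mk_one]
    obtain ⟨k, hk⟩ := hR ⟨_, h1⟩
    have hk' : ((y * n) ^ p) ^ r ^ k = 1 := congrArg Subtype.val hk
    rw [← pow_mul] at hk'
    have hdv := orderOf_dvd_of_pow_eq_one hk'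
    have hn2 : ¬ 2 ∣ orderOf (y * n) := by
      intro hd
      have h3 := (hd.trans hdv)
      rcases (Nat.Prime.dvd_mul Nat.prime_two).mp h3 with h4 | h4
      · exact hp2 ((Nat.prime_dvd_prime_iff_eq Nat.prime_two hp).mp h4).symm
      · exact hr2 ((Nat.prime_dvd_prime_iff_eq Nat.prime_two hr).mp (Nat.prime_two.dvd_of_dvd_pow h4)).symm
    by_cases hd : r ∣ orderOf (y * n)
    · rcases hrr _ hd with h4 | h4
      · -- order r
        by_cases hpr : p = r
        · rw [hpr, ← h4]; exact pow_orderOf_eq_one _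
        · exfalso
          have h5 : (y * n) ^ r = 1 := by
            have := pow_orderOf_eq_one (y * n)
            rwa [h4] at this
          have h6 : n ^ r ∈ R := by
            rw [← QuotientGroup.eq_one_iff, QuotientGroup.mk_pow]
            have h7 : ((y * n : H) : H ⧸ R) ^ r = 1 := by
              rw [← QuotientGroup.mk_pow, h5, QuotientGroup.mk_one]
            rwa [QuotientGroup.mk_mul, (QuotientGroup.eq_one_iff y).mpr hy, one_mul] at h7
          obtain ⟨k', hk2⟩ := hR ⟨_, h6⟩
          have hk3 : (n ^ r) ^ r ^ k' = 1 := congrArg Subtype.val hk2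
          rw [← pow_mul, ← pow_succ'] at hk3
          have h8 := orderOf_dvd_of_pow_eq_one hk3
          rw [hnp] at h8
          exact hpr ((Nat.prime_dvd_prime_iff_eq hp hr).mp (hp.dvd_of_dvd_pow h8))
      · exact absurd (by rw [h4]; exact dvd_mul_right _ _) hn2
    · -- r does not divide the order: order divides p
      have h5 : (orderOf (y * n)).Coprime (r ^ k) :=
        Nat.Coprime.pow_right k ((Nat.Prime.coprime_iff_not_dvd hr).mpr hd).symm
      have h6 : orderOf (y * n) ∣ p := Nat.Coprime.dvd_of_dvd_mul_right h5 hdv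
      exact orderOf_dvd_iff_pow_eq_one.mp h6
  have hsum := D.sum_eq_zero n p hpow
  have h2F : (2 : ZMod r) ≠ 0 := by
    intro h
    have h3 : ((2 : ℕ) : ZMod r) = 0 := by exact_mod_cast h
    rw [ZMod.natCast_eq_zero_iff] at h3
    exact hr2 ((Nat.prime_dvd_prime_iff_eq hr Nat.prime_two).mp h3)
  have hc := lin_core h2F D.ρ hsq hnA1 hnA2 hp hnp1 hsum ha
  set c := a * n * a⁻¹ * n⁻¹ with hcdef
  have hcA : c ∈ A := by
    have : c = a * (n * a⁻¹ * n⁻¹) := by rw [hcdef]; group
    rw [this]
    exact mul_mem ha (hnA1 _ (inv_mem ha))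
  have h3 : Subgroup.zpowers c ≤ centralizer (R : Set H) := by
    apply le_centralizer_of_frattini
    · rw [Subgroup.normalizer_eq_top]; exact le_top
    · obtain ⟨k, hk⟩ := IsPGroup.iff_card.mp (hR.to_subgroup (frattini R))
      have h4 : orderOf c ∣ 2 := orderOf_dvd_of_pow_eq_one (by rw [pow_two]; exact hsq c hcA)
      rw [Nat.card_zpowers, hk]
      apply Nat.Coprime.pow_right
      exact Nat.Coprime.coprime_dvd_left h4 ((Nat.coprime_primes Nat.prime_two hr).mpr hr2.symm)
    · intro b hb a' ha'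
      obtain ⟨m, rfl⟩ := (Subgroup.mem_zpowers_iff).mp hb
      refine (D.ρ_eq_one_iff _).mp ?_ a' ha'
      have h5 : c ∈ D.ρ.toHomUnits.ker := Units.ext hc
      have h6 : c ^ m ∈ D.ρ.toHomUnits.ker := zpow_mem h5 m
      exact congrArg Units.val h6
  exact h3 (mem_zpowers c)

/-- general case, `R` normal. -/
theorem normal_case (hr : r.Prime) (hr2 : r ≠ 2) (heven : ∀ x : H, 2 ∣ orderOf x → orderOf x = 2 ∨ orderOf x = 2 * r)
    (hrr : ∀ x : H, r ∣ orderOf x → orderOf x = r ∨ orderOf x = 2 * r)
    {A R : Subgroup H} (hRn : R.Normal) (hA : IsPGroup 2 A) (hR : IsPGroup r R) :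
    ∀ (m : ℕ) (n : H), orderOf n = m → n ∈ normalizer (A : Set H) → Odd m →
      ∀ a ∈ A, a * n * a⁻¹ * n⁻¹ ∈ centralizer (R : Set H) := by
  classical
  haveI hCn : (centralizer (R : Set H)).Normal := by
    haveI := hRn
    infer_instance
  have hsq := sq_one hr hr2 heven hA
  have hcomm := comm_of_sq hsq
  -- closure under products
  have hmul : ∀ x y : H, (∀ a ∈ A, a * x * a⁻¹ * x⁻¹ ∈ centralizer (R : Set H)) →
      (∀ a ∈ A, a * y * a⁻¹ * y⁻¹ ∈ centralizer (R : Set H)) →
      ∀ a ∈ A, a * (x * y) * a⁻¹ * (x * y)⁻¹ ∈ centralizer (R : Set H) := by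
    intro x y hx hy a ha
    have e : a * (x * y) * a⁻¹ * (x * y)⁻¹ = (a * x * a⁻¹ * x⁻¹) * (x * (a * y * a⁻¹ * y⁻¹) * x⁻¹) := by group
    rw [e]
    exact mul_mem (hx a ha) (hCn.conj_mem _ (hy a ha) x)
  have hpw : ∀ (x : H) (k : ℕ), (∀ a ∈ A, a * x * a⁻¹ * x⁻¹ ∈ centralizer (R : Set H)) →
      ∀ a ∈ A, a * (x ^ k) * a⁻¹ * (x ^ k)⁻¹ ∈ centralizer (R : Set H) := by
    intro x k hx
    induction k with
    | zero => intro a _; simp [one_mem]
    | succ k ih =>
      rw [pow_succ]
      exact hmul _ _ ih hx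
  intro m
  induction m using Nat.strong_induction_on with
  | _ m ih =>
    intro n hnm hnA hodd
    rcases Nat.eq_or_lt_of_le (Nat.succ_le_of_lt (hnm ▸ orderOf_pos n : 0 < m)) with h1 | h1
    · -- m = 1
      have : n = 1 := by
        rw [← orderOf_eq_one_iff, hnm]; exact h1.symm
      intro a _
      rw [this]
      simp [one_mem]
    · have hm1 : m ≠ 1 := by omega
      obtain ⟨p, hp, hpm⟩ := Nat.exists_prime_and_dvd hm1
      have hp2 : p ≠ 2 := by
        rintro rfl
        exact (Nat.not_even_iff_odd.mpr hodd) ((even_iff_two_dvd).mpr hpm)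
      by_cases hpe : m = p
      · intro a ha
        exact prime_case hr hr2 heven hrr hRn hA hR hnA hp (hnm.trans hpe) hp2 ha
      · have hm0 : 0 < m := by omega
        -- n^q for q prime dividing m
        have hq : ∀ q : ℕ, q.Prime → q ∣ m → ∀ a ∈ A, a * (n ^ q) * a⁻¹ * (n ^ q)⁻¹ ∈ centralizer (R : Set H) := by
          intro q hq hqm
          have ho : orderOf (n ^ q) = m / q := by
            rw [orderOf_pow' n hq.ne_zero, hnm, Nat.gcd_eq_right hqm]
          apply ih (m / q) (Nat.div_lt_self hm0 hq.one_lt) (n ^ q) ho (pow_mem hnA q)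
          exact hodd.of_dvd_nat (Nat.div_dvd_of_dvd hqm)
        by_cases hpp : ∃ q : ℕ, q.Prime ∧ q ∣ m ∧ q ≠ p
        · obtain ⟨q, hqp, hqm, hqne⟩ := hpp
          have hcop : Nat.Coprime p q := (Nat.coprime_primes hp hqp).mpr hqne.symm
          -- n = (n^p)^i (n^q)^j
          obtain ⟨i, j, hij⟩ : ∃ i j : ℕ, p * i + q * j ≡ 1 [MOD m] := by
            obtain ⟨i, -, hi⟩ := Nat.exists_mul_mod_eq_one_of_coprime hcop hqp.one_lt
            -- p * i = 1 + q * t
            refine ⟨i, (m - 1) * (p * i / q), ?_⟩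
            have h3 : p * i = 1 + q * (p * i / q) := by
              conv_lhs => rw [← Nat.mod_add_div (p * i) q]
              rw [hi]
            set t := p * i / q with ht
            have h4 : p * i + q * ((m - 1) * t) = 1 + m * (q * t) := by
              rw [h3]
              obtain ⟨m', rfl⟩ : ∃ m', m = m' + 1 := ⟨m - 1, by omega⟩
              simp only [Nat.add_sub_cancel]
              ring
            rw [h4]
            exact (Nat.modEq_iff_dvd' (by omega)).mpr ⟨q * t, by omega⟩ |>.symm
          have hn' : n = (n ^ p) ^ i * (n ^ q) ^ j := by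
            rw [← pow_mul, ← pow_mul, ← pow_add]
            conv_lhs => rw [← pow_one n]
            rw [pow_eq_pow_iff_modEq, hnm]
            exact hij.symm
          rw [hn']
          exact hmul _ _ (hpw _ i (hq p hp hpm)) (hpw _ j (hq q hqp hqm))
        · -- m is a power of p, at least p^2
          intro a ha
          by_contra hcon
          push_neg at hpp
          obtain ⟨k, hk⟩ := hpm
          set x := n ^ p with hxdef
          have hox : orderOf x = k := by
            rw [hxdef, orderOf_pow' n hp.ne_zero, hnm, Nat.gcd_eq_right ⟨k, hk⟩, hk, Nat.mul_div_cancel_left _ hp.pos]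
          have hk1 : k ≠ 1 := by
            rintro rfl
            exact hpe (by rw [hk, mul_one])
          have hkodd : Odd k := hodd.of_dvd_nat ⟨p, by rw [hk, mul_comm]⟩
          have hxB := hq p hp ⟨k, hk⟩
          have haC : a ∉ centralizer (R : Set H) := by
            intro h
            apply hcon
            have e : a * n * a⁻¹ * n⁻¹ = a * (n * a⁻¹ * n⁻¹) := by group
            rw [e]
            exact mul_mem h (hCn.conj_mem _ (inv_mem h) n)
          have hxA : x ∈ normalizer (A : Set H) := pow_mem hnA p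
          have hxk : x ^ k = 1 := by rw [← hox]; exact pow_orderOf_eq_one x
          -- (a x)^i x^{-i} ∈ A
          have hi : ∀ i : ℕ, (a * x) ^ i * (x ^ i)⁻¹ ∈ A := by
            intro i
            induction i with
            | zero => simp [one_mem]
            | succ i ih' =>
              have e : (a * x) ^ (i + 1) * (x ^ (i + 1))⁻¹ =
                  ((a * x) ^ i * (x ^ i)⁻¹) * (x ^ i * a * (x ^ i)⁻¹) := by
                rw [pow_succ (a * x), pow_succ x]; group
              rw [e]
              exact mul_mem ih' ((mem_normalizer_iff.mp (pow_mem hxA i) a).mp ha)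
          set a0 := (a * x) ^ k with ha0def
          have ha0A : a0 ∈ A := by
            have := hi k
            rwa [hxk, inv_one, mul_one] at this
          have hc1 : Commute a0 (a * x) := (Commute.refl (a * x)).pow_left k
          have hc2 : Commute a0 a := hcomm a0 ha0A a ha
          have hc3 : Commute a0 x := by
            have : x = a⁻¹ * (a * x) := by group
            rw [this]
            exact (hc2.inv_right).mul_right hc1
          have ha0C : a0 ∉ centralizer (R : Set H) := by
            intro h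
            apply haC
            have hcomm' : Commute ((a : H) : H ⧸ centralizer (R : Set H)) ((x : H) : H ⧸ centralizer (R : Set H)) := by
              have h3 : ((a * x * a⁻¹ * x⁻¹ : H) : H ⧸ centralizer (R : Set H)) = 1 :=
                (QuotientGroup.eq_one_iff _).mpr (hxB a ha)
              rw [QuotientGroup.mk_mul, QuotientGroup.mk_mul, QuotientGroup.mk_mul, QuotientGroup.mk_inv,
                QuotientGroup.mk_inv] at h3
              have h4 : ∀ {K : Type u} [Group K] (u v : K), u * v * u⁻¹ * v⁻¹ = 1 → u * v = v * u := by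
                intro K _ u v huv
                calc u * v = (u * v * u⁻¹ * v⁻¹) * (v * u) := by group
                  _ = v * u := by rw [huv, one_mul]
              exact h4 _ _ h3
            have h5 : ((a0 : H) : H ⧸ centralizer (R : Set H)) = ((a : H) : H ⧸ centralizer (R : Set H)) := by
              rw [ha0def, QuotientGroup.mk_pow, QuotientGroup.mk_mul, hcomm'.mul_pow, ← QuotientGroup.mk_pow,
                ← QuotientGroup.mk_pow, hxk, QuotientGroup.mk_one, mul_one]
              obtain ⟨t, ht⟩ := hkodd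
              rw [ht, pow_add, pow_mul, pow_two a, hsq a ha, one_pow, one_mul, pow_one]
            rw [← QuotientGroup.eq_one_iff, ← h5, QuotientGroup.eq_one_iff]
            exact h
          have ha01 : a0 ≠ 1 := by
            intro h
            apply ha0C
            rw [h]; exact one_mem _
          have ho2 : orderOf a0 = 2 := orderOf_eq_prime (by rw [pow_two]; exact hsq a0 ha0A) ha01
          have hox2 : orderOf (a0 * x) = 2 * k := by
            rw [hc3.orderOf_mul_eq_mul_orderOf_of_coprime, ho2, hox]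
            rw [ho2, hox]
            exact (Nat.coprime_two_left).mpr hkodd
          rcases heven (a0 * x) (by rw [hox2]; exact dvd_mul_right _ _) with h3 | h3
          · rw [hox2] at h3; omega
          · rw [hox2] at h3
            have hkr : k = r := by omega
            have hrp : r = p := hpp r hr ⟨p, by rw [hk, hkr, mul_comm]⟩
            have h4 : orderOf n = r * r := by rw [hnm, hk, hkr, hrp]
            have h5 := hr.two_le
            rcases hrr n (by rw [h4]; exact dvd_mul_right _ _) with h6 | h6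
            · rw [h4] at h6
              nlinarith
            · rw [h4] at h6
              have := Nat.eq_of_mul_eq_mul_right hr.pos h6
              exact hr2 this

/-- main statement with explicit hypotheses. -/
theorem comm_centralizes_core (hr : r.Prime) (hr2 : r ≠ 2)
    (heven : ∀ x : H, 2 ∣ orderOf x → orderOf x = 2 ∨ orderOf x = 2 * r)
    (hrr : ∀ x : H, r ∣ orderOf x → orderOf x = r ∨ orderOf x = 2 * r)
    {A R : Subgroup H} (hA : IsPGroup 2 A) (hR : IsPGroup r R) (hAR : A ≤ normalizer (R : Set H))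
    {n : H} (hnA : n ∈ normalizer (A : Set H)) (hnR : n ∈ normalizer (R : Set H)) (hn : Odd (orderOf n))
    {a : H} (ha : a ∈ A) : a * n * a⁻¹ * n⁻¹ ∈ centralizer (R : Set H) := by
  classical
  set M := normalizer (R : Set H) with hM
  have hRM : R ≤ M := le_normalizer
  have hA' : IsPGroup 2 (A.subgroupOf M) := hA.comap_of_injective _ M.subtype_injective
  have hR' : IsPGroup r (R.subgroupOf M) := hR.comap_of_injective _ M.subtype_injective
  have hRn : (R.subgroupOf M).Normal := by
    rw [hM]; infer_instance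
  have heven' : ∀ x : M, 2 ∣ orderOf x → orderOf x = 2 ∨ orderOf x = 2 * r := by
    intro x; rw [← Subgroup.orderOf_coe x]; exact heven x
  have hrr' : ∀ x : M, r ∣ orderOf x → orderOf x = r ∨ orderOf x = 2 * r := by
    intro x; rw [← Subgroup.orderOf_coe x]; exact hrr x
  have hn' : (⟨n, hnR⟩ : M) ∈ normalizer ((A.subgroupOf M : Subgroup M) : Set M) := by
    rw [mem_normalizer_iff]
    intro y
    rw [mem_subgroupOf, mem_subgroupOf]
    exact mem_normalizer_iff.mp hnA (y : H)
  have h1 := normal_case (H := M) hr hr2 heven' hrr' hRn hA' hR' (orderOf n) ⟨n, hnR⟩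
    (by rw [Subgroup.orderOf_mk]) hn' hn ⟨a, hAR ha⟩ ha
  rw [mem_centralizer_iff] at h1 ⊢
  intro y hy
  have h2 := h1 ⟨y, hRM hy⟩ hy
  exact congrArg Subtype.val h2

end Grp

end Cfsg.Agent.Lib.H15TBc
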