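import Cfsg.Agent.Lib.InvAct
import Cfsg.Agent.Lib.SylAmb
import Mathlib.GroupTheory.FixedPointFree
import Mathlib.GroupTheory.Index
import Mathlib.GroupTheory.PGroup

/-! Doubly transitive groups with `UniqueFix` whose involution centralizers are `{2,r}`-groups -/

set_option autoImplicit false

namespace Cfsg.Agent.Lib.H15TD3

open Subgroup MulAction Cfsg.Agent.Lib.InvAct

structure Cf (G : Type*) {Ω : Type*} [Group G] [MulAction G Ω] (r : ℕ) (S : Sylow 2 G) (x0 : Ω) : Prop where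
  rp : r.Prime
  r2 : r ≠ 2
  h8 : 8 ≤ Nat.card S
  hU : UniqueFix G Ω
  hst : stabilizer G x0 = normalizer ((S : Subgroup G) : Set G)
  sc : ∀ a ∈ (S : Subgroup G), ∀ b ∈ (S : Subgroup G), a * b = b * a
  s2 : ∀ a ∈ (S : Subgroup G), a * a = 1
  tr : ∀ a b : Ω, a ≠ x0 → b ≠ x0 → ∃ n : G, n • x0 = x0 ∧ n • a = b
  dc : ∀ t : G, orderOf t = 2 → ∀ p : ℕ, p.Prime → p ∣ Nat.card (centralizer ({t} : Set G)) → p = 2 ∨ p = r
  dcr : ∀ t : G, orderOf t = r → ∀ p : ℕ, p.Prime → p ∣ Nat.card (centralizer ({t} : Set G)) → p = 2 ∨ p = r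
  xr : ∃ x : G, orderOf x = 2 * r
  ne : ∃ y : Ω, y ≠ x0

variable {G : Type*} [Group G] [Finite G] {Ω : Type*} [Finite Ω] [MulAction G Ω] [IsPretransitive G Ω]
  {r : ℕ} {S : Sylow 2 G} {x0 : Ω}

theorem Cf.ord_of_mem (h : Cf G r S x0) {t : G} (ht : t ∈ (S : Subgroup G)) (h1 : t ≠ 1) : orderOf t = 2 :=
  orderOf_two_iff.2 ⟨h.s2 t ht, h1⟩

theorem Cf.fix_of_mem (h : Cf G r S x0) {t : G} (ht : t ∈ (S : Subgroup G)) : t • x0 = x0 := by
  have : t ∈ stabilizer G x0 := by rw [h.hst]; exact le_normalizer ht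
  exact this

theorem Cf.inv_iff (h : Cf G r S x0) {t : G} : t ∈ invSwap G x0 x0 ↔ t ∈ (S : Subgroup G) ∧ t ≠ 1 := by
  haveI : Fact (Nat.Prime 2) := ⟨Nat.prime_two⟩
  constructor
  · rintro ⟨ho, hx⟩
    refine ⟨?_, fun e => by rw [e, orderOf_one] at ho; omega⟩
    have hN : t ∈ normalizer ((S : Subgroup G) : Set G) := by
      rw [← h.hst]; exact hx
    have hP : IsPGroup 2 (zpowers t) := by
      apply IsPGroup.of_card (n := 1)
      rw [Nat.card_zpowers, ho, pow_one]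
    have h1 := hP.inf_normalizer_sylow S
    exact (h1.le (show t ∈ zpowers t ⊓ normalizer (S : Set G) from ⟨mem_zpowers t, hN⟩)).2
  · rintro ⟨hm, h1⟩
    exact ⟨h.ord_of_mem hm h1, h.fix_of_mem hm⟩

theorem Cf.ncard (h : Cf G r S x0) : (invSwap G x0 x0).ncard + 1 = Nat.card S := by
  have : invSwap G x0 x0 = ((S : Subgroup G) : Set G) \ {1} := by
    ext t
    rw [h.inv_iff]
    exact Iff.rfl
  rw [this, Set.ncard_diff_singleton_add_one (one_mem (S : Subgroup G)) (Set.toFinite _),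
    ← Nat.card_coe_set_eq]
  rfl

/-- two-point stabilizers have odd order -/
theorem Cf.odd2 (h : Cf G r S x0) {a b : Ω} (hab : a ≠ b) :
    Odd (Nat.card ↥(stabilizer G a ⊓ stabilizer G b)) := by
  haveI : Fact (Nat.Prime 2) := ⟨Nat.prime_two⟩
  rw [← Nat.not_even_iff_odd, even_iff_two_dvd]
  intro hd
  obtain ⟨t, ht⟩ := exists_prime_orderOf_dvd_card' 2 hd
  have ho : orderOf (t : G) = 2 := by rw [Subgroup.orderOf_coe, ht]
  exact not_mem_both h.hU hab ho t.2.1 t.2.2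

theorem Cf.cent_le (h : Cf G r S x0) {t g : G} (ht : t ∈ (S : Subgroup G)) (h1 : t ≠ 1)
    (hg : g * t = t * g) : g • x0 = x0 := by
  apply eq_of_fix h.hU (h.ord_of_mem ht h1) _ (h.fix_of_mem ht)
  rw [smul_smul, ← hg, ← smul_smul, h.fix_of_mem ht]

theorem Cf.two_pt (h : Cf G r S x0) {a b y : Ω} (hab : a ≠ b) (hy : y ≠ x0) :
    ∃ g : G, g • x0 = a ∧ g • y = b := by
  obtain ⟨g, hg⟩ := exists_smul_eq G x0 a
  have h1 : g⁻¹ • b ≠ x0 := by
    intro e
    apply hab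
    rw [← hg, ← e, smul_inv_smul]
  obtain ⟨n, hn, hn2⟩ := h.tr y _ hy h1
  exact ⟨g * n, by rw [mul_smul, hn, hg], by rw [mul_smul, hn2, smul_inv_smul]⟩

theorem Cf.card_const (h : Cf G r S x0) {a b y : Ω} (hab : a ≠ b) (hy : y ≠ x0) :
    Nat.card ↥(stabilizer G a ⊓ stabilizer G b) = Nat.card ↥(stabilizer G x0 ⊓ stabilizer G y) := by
  obtain ⟨g, rfl, rfl⟩ := h.two_pt hab hy
  rw [stabilizer_smul_eq_stabilizer_map_conj, stabilizer_smul_eq_stabilizer_map_conj,
    ← Subgroup.map_inf _ _ _ (MulAut.conj g).injective]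
  exact Nat.card_congr ((Subgroup.equivMapOfInjective _ _ (MulAut.conj g).injective).toEquiv).symm

theorem card_G (x0 : Ω) : Nat.card G = Nat.card Ω * Nat.card (stabilizer G x0) := by
  have := index_stabilizer_of_transitive G x0
  rw [← this, mul_comm, Subgroup.card_mul_index]

theorem Cf.card_N (h : Cf G r S x0) {y : Ω} (hy : y ≠ x0) :
    Nat.card (stabilizer G x0) = (Nat.card Ω - 1) * Nat.card ↥(stabilizer G x0 ⊓ stabilizer G y) := by
  have h1 := index_stabilizer (stabilizer G x0) y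
  have h2 : orbit (stabilizer G x0) y = {x0}ᶜ := by
    ext b
    constructor
    · rintro ⟨n, rfl⟩ e
      apply hy
      have e' : (n : G) • y = x0 := e
      have e2 : (n : G) • x0 = x0 := n.2
      exact smul_left_cancel (n : G) (by rw [e', e2])
    · intro hb
      obtain ⟨n, hn, hn2⟩ := h.tr y b hy hb
      exact ⟨⟨n, hn⟩, hn2⟩
  have h3 : (({x0} : Set Ω)ᶜ).ncard = Nat.card Ω - 1 := by
    have := Set.ncard_add_ncard_compl ({x0} : Set Ω)
    rw [Set.ncard_singleton] at this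
    omega
  have h4 : (stabilizer (stabilizer G x0) y).map (stabilizer G x0).subtype =
      stabilizer G x0 ⊓ stabilizer G y := by
    ext v
    constructor
    · rintro ⟨k, hk, rfl⟩
      exact ⟨k.2, hk⟩
    · rintro ⟨hv, hv2⟩
      exact ⟨⟨v, hv⟩, hv2, rfl⟩
  rw [← h3, ← h2, ← h1, ← h4, Subgroup.card_map_of_injective (stabilizer G x0).subtype_injective, mul_comm,
    Subgroup.card_mul_index]

theorem Cf.card_D (h : Cf G r S x0) {y : Ω} (hy : y ≠ x0) {z : G} (hz : z ∈ (S : Subgroup G)) (hz1 : z ≠ 1) :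
    Nat.card ↥(stabilizer G x0 ⊓ stabilizer G y) =
      (Nat.card S - 1) * Nat.card ↥(stabilizer G y ⊓ centralizer ({z} : Set G)) := by
  have h1 := card_two_point_fix h.hU (Ne.symm hy) (t := z) (h.inv_iff.2 ⟨hz, hz1⟩)
  have h2 := h.ncard
  rw [h1]
  congr 1
  omega

theorem Cf.card_N2 (h : Cf G r S x0) {z : G} (hz : z ∈ (S : Subgroup G)) (hz1 : z ≠ 1) :
    Nat.card (stabilizer G x0) = (Nat.card S - 1) * Nat.card (centralizer ({z} : Set G)) := by
  obtain ⟨y, hy⟩ := h.ne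
  have h1 := card_conj_orbit (stabilizer G x0) z
  have h2 : {v : G | ∃ k ∈ stabilizer G x0, k * z * k⁻¹ = v} = invSwap G x0 x0 := by
    ext v
    constructor
    · rintro ⟨k, hk, rfl⟩
      have hk1 : k • x0 = x0 := hk
      refine ⟨?_, ?_⟩
      · have := orderOf_injective (MulAut.conj k).toMonoidHom (MulAut.conj k).injective z
        rw [h.ord_of_mem hz hz1] at this
        exact this
      · rw [mul_smul, mul_smul]
        have : k⁻¹ • x0 = x0 := by rw [inv_smul_eq_iff, hk1]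
        rw [this, h.fix_of_mem hz, hk1]
    · intro hv
      obtain ⟨k, hk, -, hk2⟩ := exists_conj_fix h.hU (Ne.symm hy) (t := z) (h.inv_iff.2 ⟨hz, hz1⟩) hv
      exact ⟨k, hk, hk2⟩
  have h3 : stabilizer G x0 ⊓ centralizer ({z} : Set G) = centralizer ({z} : Set G) := by
    apply inf_eq_right.2
    intro g hg
    exact h.cent_le hz hz1 (mem_centralizer_singleton_iff.1 hg)
  have h4 := h.ncard
  rw [h1, h2, h3]
  congr 1
  omega

theorem Cf.odd_half (h : Cf G r S x0) {n : ℕ} (hn : n ∣ Nat.card G) (hS : Nat.card S ∣ n) :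
    ¬ 2 ∣ n / Nat.card S := by
  haveI : Fact (Nat.Prime 2) := ⟨Nat.prime_two⟩
  intro h2
  obtain ⟨a, ha⟩ := hS
  have hq : 0 < Nat.card S := Nat.card_pos
  rw [ha, Nat.mul_div_cancel_left _ hq] at h2
  have h3 : Nat.card S * 2 ∣ Nat.card G := (Nat.mul_dvd_mul_left _ h2).trans (ha ▸ hn)
  have h4 : Nat.card G = Nat.card S * (S : Subgroup G).index := ((S : Subgroup G).card_mul_index).symm
  rw [h4] at h3
  exact Sylow.not_dvd_index S (Nat.dvd_of_mul_dvd_mul_left hq h3)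

theorem Cf.card_cent (h : Cf G r S x0) {z : G} (hz : z ∈ (S : Subgroup G)) (hz1 : z ≠ 1) :
    ∃ k, 1 ≤ k ∧ Nat.card (centralizer ({z} : Set G)) = Nat.card S * r ^ k := by
  haveI : Fact (Nat.Prime 2) := ⟨Nat.prime_two⟩
  have hq : 0 < Nat.card S := Nat.card_pos
  have hSle : (S : Subgroup G) ≤ centralizer ({z} : Set G) := fun a ha =>
    mem_centralizer_singleton_iff.2 (h.sc a ha z hz)
  have hSd : Nat.card S ∣ Nat.card (centralizer ({z} : Set G)) := Subgroup.card_dvd_of_le hSle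
  have h1 := h.odd_half (Subgroup.card_subgroup_dvd_card (centralizer ({z} : Set G))) hSd
  obtain ⟨a, ha⟩ := hSd
  rw [ha, Nat.mul_div_cancel_left _ hq] at h1
  have ha0 : a ≠ 0 := by
    intro e
    rw [e, mul_zero] at ha
    exact (Nat.card_pos (α := centralizer ({z} : Set G))).ne' ha
  have h2 : a = r ^ a.primeFactorsList.length := by
    apply Nat.eq_prime_pow_of_unique_prime_dvd ha0
    intro d hd hda
    rcases h.dc z (h.ord_of_mem hz hz1) d hd (by rw [ha]; exact hda.mul_left _) with e | e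
    · exact absurd (e ▸ hda) h1
    · exact e
  refine ⟨a.primeFactorsList.length, ?_, by rw [← h2]; exact ha⟩
  by_contra hk
  have hk0 : a.primeFactorsList.length = 0 := by omega
  rw [hk0, pow_zero] at h2
  rw [h2, mul_one] at ha
  -- but `r` divides the order
  obtain ⟨y, hy⟩ := h.ne
  obtain ⟨x, hx⟩ := h.xr
  have hr0 : 0 < r := h.rp.pos
  have ht : orderOf (x ^ r) = 2 := by
    rw [orderOf_pow_of_dvd hr0.ne' (by rw [hx]; exact Dvd.intro_left _ rfl), hx, Nat.mul_div_cancel _ hr0]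
  have hx2 : orderOf (x ^ 2) = r := by
    rw [orderOf_pow_of_dvd (by norm_num) (by rw [hx]; exact Dvd.intro _ rfl), hx, Nat.mul_div_cancel_left _ (by norm_num)]
  obtain ⟨g, hg⟩ := isConj_iff.1 (isConj_involutions h.hU (Ne.symm hy) ht (h.ord_of_mem hz hz1))
  have h5 : g * x ^ 2 * g⁻¹ ∈ centralizer ({z} : Set G) := by
    rw [mem_centralizer_singleton_iff, ← hg]
    have : x ^ 2 * x ^ r = x ^ r * x ^ 2 := by rw [← pow_add, ← pow_add, add_comm]
    calc g * x ^ 2 * g⁻¹ * (g * x ^ r * g⁻¹) = g * (x ^ 2 * x ^ r) * g⁻¹ := by group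
      _ = g * (x ^ r * x ^ 2) * g⁻¹ := by rw [this]
      _ = _ := by group
  have h6 : orderOf (g * x ^ 2 * g⁻¹) = r := by
    have := orderOf_injective (MulAut.conj g).toMonoidHom (MulAut.conj g).injective (x ^ 2)
    rw [hx2] at this
    exact this
  have h7 : r ∣ Nat.card (centralizer ({z} : Set G)) := by
    rw [← h6]
    exact Subgroup.orderOf_dvd_natCard _ h5
  rw [ha] at h7
  obtain ⟨s, hs⟩ := IsPGroup.iff_card.1 S.isPGroup'
  have h8 : r ∣ 2 ^ s := by rw [← hs]; exact h7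
  exact h.r2 ((Nat.prime_dvd_prime_iff_eq h.rp Nat.prime_two).1 (h.rp.dvd_of_dvd_pow h8))

theorem Cf.card_P (h : Cf G r S x0) {y : Ω} (hy : y ≠ x0) {z : G} (hz : z ∈ (S : Subgroup G)) (hz1 : z ≠ 1) :
    ∃ k, Nat.card ↥(stabilizer G y ⊓ centralizer ({z} : Set G)) = r ^ k := by
  haveI : Fact (Nat.Prime 2) := ⟨Nat.prime_two⟩
  have h0 : Nat.card ↥(stabilizer G y ⊓ centralizer ({z} : Set G)) ≠ 0 := Nat.card_pos.ne'
  refine ⟨_, Nat.eq_prime_pow_of_unique_prime_dvd h0 ?_⟩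
  intro d hd hda
  rcases h.dc z (h.ord_of_mem hz hz1) d hd (hda.trans (Subgroup.card_dvd_of_le inf_le_right)) with e | e
  · exfalso
    subst e
    have h1 := h.odd2 (Ne.symm hy)
    rw [h.card_D hy hz hz1, ← Nat.not_even_iff_odd, even_iff_two_dvd] at h1
    exact h1 (hda.mul_left _)
  · exact e

theorem Cf.S_odd (h : Cf G r S x0) : r.Coprime (Nat.card S) := by
  haveI : Fact (Nat.Prime 2) := ⟨Nat.prime_two⟩
  obtain ⟨s, hs⟩ := IsPGroup.iff_card.1 S.isPGroup'
  have : Nat.card S = 2 ^ s := hs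
  rw [this]
  apply Nat.Coprime.pow_right
  exact (Nat.coprime_primes h.rp Nat.prime_two).2 h.r2

/-- the numbers -/
theorem Cf.numbers (h : Cf G r S x0) {y : Ω} (hy : y ≠ x0) {z : G} (hz : z ∈ (S : Subgroup G)) (hz1 : z ≠ 1) :
    ∃ k k' : ℕ, 1 ≤ k ∧ k' ≤ k ∧ Nat.card (centralizer ({z} : Set G)) = Nat.card S * r ^ k ∧
      Nat.card ↥(stabilizer G y ⊓ centralizer ({z} : Set G)) = r ^ k' ∧
      Nat.card Ω = 1 + Nat.card S * r ^ (k - k') := by
  obtain ⟨k, hk, hk2⟩ := h.card_cent hz hz1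
  obtain ⟨k', hk'⟩ := h.card_P hy hz hz1
  have hr0 : 0 < r := h.rp.pos
  have h1 : r ^ k' ∣ r ^ k := by
    have : r ^ k' ∣ Nat.card S * r ^ k := by
      rw [← hk', ← hk2]
      exact Subgroup.card_dvd_of_le inf_le_right
    exact (Nat.Coprime.pow_left k' h.S_odd).dvd_of_dvd_mul_left this
  have h2 : k' ≤ k := (Nat.pow_dvd_pow_iff_le_right h.rp.one_lt).1 h1
  refine ⟨k, k', hk, h2, hk2, hk', ?_⟩
  have h3 := h.card_N hy
  rw [h.card_N2 hz hz1, h.card_D hy hz hz1, hk2, hk'] at h3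
  have hS1 : 0 < Nat.card S - 1 := by have := h.h8; omega
  have h4 : Nat.card S * r ^ (k - k') * (r ^ k' * (Nat.card S - 1)) =
      (Nat.card Ω - 1) * (r ^ k' * (Nat.card S - 1)) := by
    have e : r ^ k = r ^ (k - k') * r ^ k' := by rw [← pow_add, Nat.sub_add_cancel h2]
    calc _ = (Nat.card S - 1) * (Nat.card S * (r ^ (k - k') * r ^ k')) := by ring
      _ = (Nat.card S - 1) * (Nat.card S * r ^ k) := by rw [← e]
      _ = (Nat.card Ω - 1) * ((Nat.card S - 1) * r ^ k') := h3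
      _ = _ := by ring
  have h5 := Nat.eq_of_mul_eq_mul_right (Nat.mul_pos (pow_pos hr0 _) hS1) h4
  have h6 : 0 < Nat.card Ω := by
    haveI : Nonempty Ω := ⟨x0⟩
    exact Nat.card_pos
  omega

/-- Suzuki configuration -/
def Sz (G : Type*) {Ω : Type*} [Group G] [MulAction G Ω] (S : Sylow 2 G) (x0 : Ω) : Prop :=
  ∀ Q : Subgroup G, Q ≤ stabilizer G x0 → (∀ n ∈ stabilizer G x0, ∀ v ∈ Q, n * v * n⁻¹ ∈ Q) →
    (∀ a b : Ω, a ≠ x0 → b ≠ x0 → ∃ n ∈ Q, n • a = b) →
    (∀ a : Ω, a ≠ x0 → ∀ u ∈ Q, u • a = a → u = 1) →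
    Nat.card S * (Nat.card S + 1) * (Nat.card S - 1) < Nat.card G → False

theorem Cf.reg_contra (h : Cf G r S x0) (hc : Sz G S x0) (Q : Subgroup G) (hQ : Q ≤ stabilizer G x0)
    (hQn : ∀ n ∈ stabilizer G x0, ∀ v ∈ Q, n * v * n⁻¹ ∈ Q)
    (hreg : ∀ a : Ω, a ≠ x0 → ∀ u ∈ Q, u • a = a → u = 1)
    (hcard : Nat.card Q + 1 = Nat.card Ω) : False := by
  classical
  obtain ⟨y, hy⟩ := h.ne
  have hz : ∃ z ∈ (S : Subgroup G), z ≠ 1 := by
    have : 1 < Nat.card (S : Subgroup G) := by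
      have := h.h8
      show 1 < Nat.card S
      omega
    rw [Subgroup.one_lt_card_iff_ne_bot] at this
    obtain ⟨z, hz1⟩ := Subgroup.ne_bot_iff_exists_ne_one.1 this
    exact ⟨z, z.2, fun e => hz1 (Subtype.ext e)⟩
  obtain ⟨z, hz, hz1⟩ := hz
  obtain ⟨k, k', hk, hk2, h1, h2, h3⟩ := h.numbers hy hz hz1
  have hmove : ∀ v ∈ Q, v • y ≠ x0 := by
    intro v hv e
    apply hy
    have hv2 : v • x0 = x0 := hQ hv
    exact smul_left_cancel v (by rw [e, hv2])
  have hsurj : ∀ a : Ω, a ≠ x0 → ∃ v ∈ Q, v • y = a := by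
    let f : Q → {a : Ω // a ≠ x0} := fun v => ⟨(v : G) • y, hmove v v.2⟩
    have hf : Function.Injective f := by
      intro v w hvw
      have e : (v : G) • y = (w : G) • y := congrArg Subtype.val hvw
      have e2 : ((w : G)⁻¹ * (v : G)) • y = y := by
        rw [mul_smul, e, inv_smul_smul]
      have e3 := hreg y hy _ (Q.mul_mem (Q.inv_mem w.2) v.2) e2
      have e4 : (v : G) = w := by
        rw [inv_mul_eq_one] at e3; exact e3.symm
      exact Subtype.ext e4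
    have hcΩ : Nat.card {a : Ω // a ≠ x0} + 1 = Nat.card Ω := by
      have e1 : Nat.card {a : Ω // a ≠ x0} = (({x0} : Set Ω)ᶜ).ncard := by
        rw [← Nat.card_coe_set_eq]; rfl
      have := Set.ncard_add_ncard_compl ({x0} : Set Ω)
      rw [Set.ncard_singleton] at this
      omega
    have hb := Function.Injective.bijective_of_nat_card_le hf (by omega)
    intro a ha
    obtain ⟨v, hv⟩ := hb.2 ⟨a, ha⟩
    exact ⟨v, v.2, congrArg Subtype.val hv⟩
  apply hc Q hQ hQn _ hreg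
  · -- order
    have hr3 : 2 ≤ r := h.rp.two_le
    have h4 : Nat.card G = (1 + Nat.card S * r ^ (k - k')) * ((Nat.card S - 1) * (Nat.card S * r ^ k)) := by
      rw [card_G x0 (G := G), h3, h.card_N2 hz hz1, h1]
    rw [h4]
    have hq := h.h8
    obtain ⟨m, hm⟩ : ∃ m, Nat.card S = m + 1 := ⟨Nat.card S - 1, by omega⟩
    have h5 : 1 ≤ r ^ (k - k') := Nat.one_le_pow _ _ h.rp.pos
    have h6 : 2 ≤ r ^ k := by
      calc 2 ≤ r := hr3
        _ = r ^ 1 := (pow_one r).symm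
        _ ≤ r ^ k := Nat.pow_le_pow_right h.rp.pos hk
    rw [hm, Nat.add_sub_cancel]
    have hm7 : 7 ≤ m := by omega
    calc (m + 1) * (m + 1 + 1) * m = (1 + (m + 1) * 1) * (m * ((m + 1) * 1)) := by ring
      _ < (1 + (m + 1) * 1) * (m * ((m + 1) * 2)) := by
        have : 0 < (1 + (m + 1) * 1) * (m * (m + 1)) := by positivity
        nlinarith
      _ ≤ (1 + (m + 1) * r ^ (k - k')) * (m * ((m + 1) * r ^ k)) := by gcongr
  · intro a b ha hb
    obtain ⟨v, hv, rfl⟩ := hsurj a ha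
    obtain ⟨w, hw, rfl⟩ := hsurj b hb
    exact ⟨w * v⁻¹, Q.mul_mem hw (Q.inv_mem hv), by rw [mul_smul, inv_smul_smul]⟩

end Cfsg.Agent.Lib.H15TD3
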