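import Cfsg.Agent.Lib.H15TD3a

set_option autoImplicit false

namespace Cfsg.Agent.Lib.H15TD3

open Subgroup MulAction Cfsg.Agent.Lib.InvAct Cfsg.Agent.Lib.SylAmb

variable {G : Type*} [Group G] [Finite G] {Ω : Type*} [Finite Ω] [MulAction G Ω] [IsPretransitive G Ω]
  {r : ℕ} {S : Sylow 2 G} {x0 : Ω}

theorem Cf.case_i (h : Cf G r S x0) (hc : Sz G S x0) (hn : Nat.card Ω = 1 + Nat.card S) : False := by
  have hSN : (S : Subgroup G) ≤ stabilizer G x0 := fun a ha => h.fix_of_mem ha
  apply h.reg_contra hc (S : Subgroup G) hSN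
  · intro n hn v hv
    rw [h.hst] at hn
    exact (mem_normalizer_iff.1 hn v).1 hv
  · intro a ha u hu hua
    by_contra h1
    exact ha (eq_of_fix h.hU (h.ord_of_mem hu h1) hua (h.fix_of_mem hu))
  · rw [hn, add_comm]

theorem Cf.case_ii (h : Cf G r S x0) (hm1 : ¬ r ∣ Nat.card S - 1) {y : Ω} (hy : y ≠ x0) {z : G}
    (hz : z ∈ (S : Subgroup G)) (hz1 : z ≠ 1) {k' j : ℕ} (hk' : k' ≠ 0) (hj : j ≠ 0)
    (hP : Nat.card ↥(stabilizer G y ⊓ centralizer ({z} : Set G)) = r ^ k')
    (hn : Nat.card Ω = 1 + Nat.card S * r ^ j) : False := by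
  haveI : Fact r.Prime := ⟨h.rp⟩
  have hr0 : 0 < r := h.rp.pos
  have hzo := h.ord_of_mem hz hz1
  have hzx : z • x0 = x0 := h.fix_of_mem hz
  have hxy : x0 ≠ y := Ne.symm hy
  set D : Subgroup G := stabilizer G x0 ⊓ stabilizer G y with hD
  set P : Subgroup G := stabilizer G y ⊓ centralizer ({z} : Set G) with hPd
  have hDc : Nat.card D = (Nat.card S - 1) * r ^ k' := by rw [hD, h.card_D hy hz hz1, hP]
  have hPD : P ≤ D := fun g hg => ⟨h.cent_le hz hz1 (mem_centralizer_singleton_iff.1 hg.2), hg.1⟩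
  have hPp : IsPGroup r P := IsPGroup.of_card hP
  have hSyl : IsSyl r P D := by
    refine ⟨hPD, hPp, ?_⟩
    have h1 := Subgroup.relIndex_mul_relIndex ⊥ P D bot_le hPD
    rw [relIndex_bot_left, relIndex_bot_left, hP, hDc, mul_comm] at h1
    have h2 := Nat.eq_of_mul_eq_mul_right (pow_pos hr0 k') h1
    rw [h2]; exact hm1
  -- the swapping element
  obtain ⟨s, hs⟩ : ∃ s : G, s ∈ invSwap G y y := by
    obtain ⟨g, hg⟩ := exists_smul_eq G x0 y
    refine ⟨g * z * g⁻¹, ?_, ?_⟩
    · have := orderOf_injective (MulAut.conj g).toMonoidHom (MulAut.conj g).injective z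
      rw [hzo] at this
      exact this
    · rw [mul_smul, mul_smul, ← hg, inv_smul_smul, hzx]
  obtain ⟨u, hu, -, hux⟩ := exists_swap h.hU hzo hs.1 hzx hs.2 hxy
  have huy := smul_of_swap hu hux
  have hDu : D.map (MulAut.conj u).toMonoidHom = D := by
    rw [hD, Subgroup.map_inf _ _ _ (MulAut.conj u).injective, ← stabilizer_smul_eq_stabilizer_map_conj,
      ← stabilizer_smul_eq_stabilizer_map_conj, hux, huy, inf_comm]
  have hSyl2 : IsSyl r (P.map (MulAut.conj u).toMonoidHom) D := by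
    have := hSyl.conj u
    rwa [hDu] at this
  obtain ⟨d, hdD, hd⟩ := hSyl2.exists_conj hSyl
  rw [map_conj_map_conj] at hd
  set v : G := d * u with hv
  have hvx : v • x0 = y := by rw [hv, mul_smul, hux]; exact hdD.2
  have hvy : v • y = x0 := by rw [hv, mul_smul, huy]; exact hdD.1
  set z' : G := v * z * v⁻¹ with hz'
  have hz'o : orderOf z' = 2 := by
    have := orderOf_injective (MulAut.conj v).toMonoidHom (MulAut.conj v).injective z
    rw [hzo] at this
    exact this
  have hz'y : z' • y = y := by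
    rw [hz', mul_smul, mul_smul, ← hvx, inv_smul_smul, hzx]
  have hz'P : ∀ g ∈ P, z' * g = g * z' := by
    intro g hg
    rw [← hd, mem_map_conj_iff] at hg
    have e := mem_centralizer_singleton_iff.1 hg.2
    calc v * z * v⁻¹ * g = v * (z * (v⁻¹ * g * v)) * v⁻¹ := by group
      _ = v * ((v⁻¹ * g * v) * z) * v⁻¹ := by rw [e]
      _ = g * (v * z * v⁻¹) := by group
  have hzP : ∀ g ∈ P, z * g = g * z := fun g hg => (mem_centralizer_singleton_iff.1 hg.2).symm
  have hzz : z * z = 1 := h.s2 z hz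
  -- the product
  set x : G := z * z' with hx
  have hodd : Odd (orderOf x) := odd_of_fix_ne h.hU hzo hz'o hzx hz'y hxy
  have key : x • x0 ≠ x0 := by
    intro e
    have e2 : z' • x0 = x0 := by
      have : z' = z * x := by rw [hx, ← mul_assoc, hzz, one_mul]
      rw [this, mul_smul, e, hzx]
    exact hxy (eq_of_fix h.hU hz'o e2 hz'y)
  have hxP : ∀ g ∈ P, x * g = g * x := by
    intro g hg
    rw [hx, mul_assoc, hz'P g hg, ← mul_assoc, hzP g hg, mul_assoc]
  -- `x` is an `r`-element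
  obtain ⟨g0, hg0P, hg0⟩ : ∃ g0 ∈ P, orderOf g0 = r := by
    have hd : r ∣ Nat.card P := by rw [hP]; exact dvd_pow_self r hk'
    obtain ⟨g0, hg0⟩ := exists_prime_orderOf_dvd_card' r hd
    exact ⟨g0, g0.2, by rw [Subgroup.orderOf_coe, hg0]⟩
  have hxr : orderOf x = r ^ (orderOf x).primeFactorsList.length := by
    apply Nat.eq_prime_pow_of_unique_prime_dvd (orderOf_pos x).ne'
    intro p hp hpx
    have hxc : x ∈ centralizer ({g0} : Set G) := mem_centralizer_singleton_iff.2 (hxP g0 hg0P)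
    rcases h.dcr g0 hg0 p hp (hpx.trans (Subgroup.orderOf_dvd_natCard _ hxc)) with e | e
    · exfalso
      subst e
      rw [← Nat.not_even_iff_odd, even_iff_two_dvd] at hodd
      exact hodd hpx
    · exact e
  have hXp : IsPGroup r (zpowers x) := by
    apply IsPGroup.of_card (n := (orderOf x).primeFactorsList.length)
    rw [Nat.card_zpowers]; exact hxr
  have hR : IsPGroup r (P ⊔ zpowers x : Subgroup G) := by
    apply hPp.to_sup_of_normal_left' hXp
    rw [zpowers_le]
    rw [mem_normalizer_iff]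
    intro g
    constructor
    · intro hg
      rw [hxP g hg, mul_inv_cancel_right]; exact hg
    · intro hg
      have := hxP _ hg
      have e : g = x * g * x⁻¹ := by
        have e1 : x * (x * g * x⁻¹) = (x * g * x⁻¹) * x := this
        rw [inv_mul_cancel_right] at e1
        have e2 := mul_left_cancel e1
        exact e2.symm
      rw [e]; exact hg
  -- a fixed point of `R`
  have hndvd : ¬ r ∣ Nat.card Ω := by
    intro hd
    rw [hn] at hd
    have : r ∣ Nat.card S * r ^ j := (dvd_pow_self r hj).mul_left _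
    have h1 : r ∣ 1 := (Nat.dvd_add_left this).1 hd
    exact h.rp.one_lt.ne' (Nat.dvd_one.1 h1)
  obtain ⟨γ, hγ⟩ := hR.nonempty_fixed_point_of_prime_not_dvd_card Ω hndvd
  have hγ' : ∀ g ∈ (P ⊔ zpowers x : Subgroup G), g • γ = γ := fun g hg => hγ ⟨g, hg⟩
  have hxγ : x • γ = γ := hγ' x ((le_sup_right : zpowers x ≤ _) (mem_zpowers x))
  have hPγ : ∀ g ∈ P, g • γ = γ := fun g hg => hγ' g ((le_sup_left : P ≤ _) hg)
  by_cases hzγ : z • γ = γ
  · have := eq_of_fix h.hU hzo hzγ hzx
    rw [this] at hxγ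
    exact key hxγ
  · -- `R` fixes `γ` and `z • γ`
    have hz'z : z' * z = x⁻¹ := by
      rw [hx, mul_inv_rev, inv_eq_self_of_orderOf_eq_two hzo, inv_eq_self_of_orderOf_eq_two hz'o]
    have hRle : (P ⊔ zpowers x : Subgroup G) ≤ stabilizer G γ ⊓ stabilizer G (z • γ) := by
      apply le_inf
      · intro g hg; exact hγ' g hg
      · apply sup_le
        · intro g hg
          show g • z • γ = z • γ
          rw [smul_smul, ← hzP g hg, mul_smul, hPγ g hg]
        · rw [zpowers_le]
          show x • z • γ = z • γ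
          rw [smul_smul, hx, mul_assoc, hz'z, mul_smul]
          congr 1
          rw [inv_smul_eq_iff, hxγ]
    have hc2 := h.card_const (Ne.symm hzγ) hy
    have hcardR : Nat.card ↥(P ⊔ zpowers x : Subgroup G) ∣ (Nat.card S - 1) * r ^ k' := by
      rw [← hDc, hD, ← hc2]
      exact Subgroup.card_dvd_of_le hRle
    obtain ⟨l, hl⟩ := IsPGroup.iff_card.1 hR
    rw [hl] at hcardR
    have h5 : r ^ l ∣ r ^ k' := (Nat.Coprime.pow_left l ((Nat.Prime.coprime_iff_not_dvd h.rp).2 hm1)).dvd_of_dvd_mul_left hcardR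
    have h6 : Nat.card ↥(P ⊔ zpowers x : Subgroup G) ≤ Nat.card P := by
      rw [hl, hP]; exact Nat.le_of_dvd (pow_pos hr0 _) h5
    have h7 : P = P ⊔ zpowers x := Subgroup.eq_of_le_of_card_ge le_sup_left h6
    have h8 : x ∈ P := by
      rw [h7]; exact (le_sup_right : zpowers x ≤ _) (mem_zpowers x)
    exact key (hPD h8).1

end Cfsg.Agent.Lib.H15TD3
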