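import Cfsg.Agent.Lib.H15TD3b

set_option autoImplicit false

namespace Cfsg.Agent.Lib.H15TD3

open Subgroup MulAction Cfsg.Agent.Lib.InvAct Cfsg.Agent.Lib.SylAmb

variable {G : Type*} [Group G] [Finite G] {Ω : Type*} [Finite Ω] [MulAction G Ω] [IsPretransitive G Ω]
  {r : ℕ} {S : Sylow 2 G} {x0 : Ω}

/-- an involution swapping two points inverts the two-point stabilizer, if that one has order prime to `r` -/
theorem Cf.comm_D (h : Cf G r S x0) {y : Ω} (hy : y ≠ x0)
    (hr : ¬ r ∣ Nat.card ↥(stabilizer G x0 ⊓ stabilizer G y)) :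
    ∀ a ∈ stabilizer G x0 ⊓ stabilizer G y, ∀ b ∈ stabilizer G x0 ⊓ stabilizer G y, a * b = b * a := by
  have hxy : x0 ≠ y := Ne.symm hy
  have hodd := h.odd2 hxy
  obtain ⟨z, hz, hz1⟩ : ∃ z ∈ (S : Subgroup G), z ≠ 1 := by
    have : 1 < Nat.card (S : Subgroup G) := by
      have := h.h8
      omega
    rw [Subgroup.one_lt_card_iff_ne_bot] at this
    obtain ⟨z, hz1⟩ := Subgroup.ne_bot_iff_exists_ne_one.1 this
    exact ⟨z, z.2, fun e => hz1 (Subtype.ext e)⟩
  have hzo := h.ord_of_mem hz hz1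
  have hzx : z • x0 = x0 := h.fix_of_mem hz
  obtain ⟨s, hs⟩ : ∃ s : G, s ∈ invSwap G y y := by
    obtain ⟨g, hg⟩ := exists_smul_eq G x0 y
    refine ⟨g * z * g⁻¹, ?_, ?_⟩
    · have := orderOf_injective (MulAut.conj g).toMonoidHom (MulAut.conj g).injective z
      rw [hzo] at this
      exact this
    · rw [mul_smul, mul_smul, ← hg, inv_smul_smul, hzx]
  obtain ⟨u, hu, -, hux⟩ := exists_swap h.hU hzo hs.1 hzx hs.2 hxy
  have huy := smul_of_swap hu hux
  have hui : u⁻¹ = u := inv_eq_self_of_orderOf_eq_two hu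
  have huu : u * u = 1 := (orderOf_two_iff.1 hu).1
  set D : Subgroup G := stabilizer G x0 ⊓ stabilizer G y with hD
  have hDu : ∀ d ∈ D, u * d * u⁻¹ ∈ D := by
    intro d hd
    have hd1 : d • x0 = x0 := hd.1
    have hd2 : d • y = y := hd.2
    refine ⟨?_, ?_⟩
    · show (u * d * u⁻¹) • x0 = x0
      rw [hui, mul_smul, mul_smul, hux, hd2, huy]
    · show (u * d * u⁻¹) • y = y
      rw [hui, mul_smul, mul_smul, huy, hd1, hux]
  let φ : D →* D := MonoidHom.mk' (fun d => ⟨u * d * u⁻¹, hDu d d.2⟩) (by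
    intro a b
    apply Subtype.ext
    show u * ((a : G) * b) * u⁻¹ = (u * a * u⁻¹) * (u * b * u⁻¹)
    group)
  have hφ : MonoidHom.FixedPointFree φ := by
    intro g hg
    have hg' : u * (g : G) * u⁻¹ = g := congrArg Subtype.val hg
    have hgu : (g : G) ∈ centralizer ({u} : Set G) := by
      rw [mem_centralizer_singleton_iff]
      nth_rewrite 1 [← hg']
      rw [inv_mul_cancel_right]
    rw [← orderOf_eq_one_iff]
    by_contra h1
    obtain ⟨p, hp, hpg⟩ := Nat.exists_prime_and_dvd h1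
    have hpD : p ∣ Nat.card D := hpg.trans (orderOf_dvd_natCard g)
    have hpC : p ∣ Nat.card (centralizer ({u} : Set G)) := by
      rw [← Subgroup.orderOf_coe] at hpg
      exact hpg.trans (Subgroup.orderOf_dvd_natCard _ hgu)
    rcases h.dc u hu p hp hpC with e | e
    · subst e
      rw [← Nat.not_even_iff_odd, even_iff_two_dvd] at hodd
      exact hodd hpD
    · subst e
      exact hr hpD
  have h2 : Function.Involutive φ := by
    intro d
    apply Subtype.ext
    show u * (u * d * u⁻¹) * u⁻¹ = d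
    rw [hui]
    calc u * (u * d * u) * u = (u * u) * d * (u * u) := by group
      _ = d := by rw [huu]; group
  intro a ha b hb
  have := hφ.commute_all_of_involutive h2 ⟨a, ha⟩ ⟨b, hb⟩
  exact congrArg Subtype.val this.eq

/-- the hard sub-case (iii) -/
def Hard (G : Type*) [Group G] (r : ℕ) (S : Sylow 2 G) : Prop :=
  (∀ a ∈ (S : Subgroup G), ∀ b ∈ (S : Subgroup G), a ≠ 1 → b ≠ 1 →
    ∃ n ∈ normalizer ((S : Subgroup G) : Set G), n * a * n⁻¹ = b) →
  (¬ r ∣ Nat.card S - 1) →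
  ∀ D : Subgroup G, D ≤ normalizer ((S : Subgroup G) : Set G) →
  (∀ a ∈ D, ∀ b ∈ D, a * b = b * a) → Odd (Nat.card D) → (¬ r ∣ Nat.card D) →
  (D ⊓ centralizer ((S : Subgroup G) : Set G) = ⊥) →
  ∀ m : ℕ, m ≠ 0 →
  (Nat.card (normalizer ((S : Subgroup G) : Set G)) = Nat.card D * Nat.card (centralizer ((S : Subgroup G) : Set G)) * r ^ m) →
  (¬ r ∣ (normalizer ((S : Subgroup G) : Set G)).index) →
  (∀ g : G, g ∉ normalizer ((S : Subgroup G) : Set G) → ¬ r ∣ Nat.card ↥(normalizer ((S : Subgroup G) : Set G) ⊓ (normalizer ((S : Subgroup G) : Set G)).map (MulAut.conj g).toMonoidHom : Subgroup G)) → False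

theorem Cf.case_iii (h : Cf G r S x0) (hc : Sz G S x0) (hH : Hard G r S) (hm1 : ¬ r ∣ Nat.card S - 1) {y : Ω} (hy : y ≠ x0) {z : G}
    (hz : z ∈ (S : Subgroup G)) (hz1 : z ≠ 1) {k : ℕ} (hk : 1 ≤ k)
    (hcz : Nat.card (centralizer ({z} : Set G)) = Nat.card S * r ^ k)
    (hP : Nat.card ↥(stabilizer G y ⊓ centralizer ({z} : Set G)) = 1)
    (hn : Nat.card Ω = 1 + Nat.card S * r ^ k) : False := by
  haveI : Fact r.Prime := ⟨h.rp⟩
  have hr0 : 0 < r := h.rp.pos
  have hxy : x0 ≠ y := Ne.symm hy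
  have hDc : Nat.card ↥(stabilizer G x0 ⊓ stabilizer G y) = Nat.card S - 1 := by
    rw [h.card_D hy hz hz1, hP, mul_one]
  have hN : Nat.card (stabilizer G x0) = (Nat.card S - 1) * (Nat.card S * r ^ k) := by
    rw [h.card_N2 hz hz1, hcz]
  have hq : 0 < Nat.card S := Nat.card_pos
  have hSC : (S : Subgroup G) ≤ centralizer ((S : Subgroup G) : Set G) := by
    intro a ha b hb
    exact h.sc b hb a ha
  have hCz : centralizer ((S : Subgroup G) : Set G) ≤ centralizer ({z} : Set G) := by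
    apply centralizer_le
    intro a ha
    rw [Set.mem_singleton_iff.1 ha]; exact hz
  obtain ⟨w, hw, hQc⟩ : ∃ w ≤ k, Nat.card (centralizer ((S : Subgroup G) : Set G)) = Nat.card S * r ^ w := by
    obtain ⟨a, ha⟩ : Nat.card S ∣ Nat.card (centralizer ((S : Subgroup G) : Set G)) := Subgroup.card_dvd_of_le hSC
    have h1 : Nat.card (centralizer ((S : Subgroup G) : Set G)) ∣ Nat.card S * r ^ k := by
      rw [← hcz]; exact Subgroup.card_dvd_of_le hCz
    rw [ha] at h1
    obtain ⟨w, hw, hw2⟩ := (Nat.dvd_prime_pow h.rp).1 (Nat.dvd_of_mul_dvd_mul_left hq h1)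
    exact ⟨w, hw, by rw [ha, hw2]⟩
  have hcop : ∀ l : ℕ, Nat.Coprime (Nat.card S - 1) (Nat.card S * r ^ l) := by
    intro l
    apply Nat.Coprime.mul_right
    · have := h.h8
      have h2 : Nat.card S = (Nat.card S - 1) + 1 := by omega
      rw [h2, Nat.add_sub_cancel]
      exact Nat.coprime_self_add_right.2 (Nat.coprime_one_right _)
    · exact Nat.Coprime.pow_right _ ((Nat.Prime.coprime_iff_not_dvd h.rp).2 hm1).symm
  have hCN : centralizer ((S : Subgroup G) : Set G) ≤ stabilizer G x0 := by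
    intro g hg
    apply h.cent_le hz hz1
    exact mem_centralizer_singleton_iff.1 (hCz hg)
  have hrD : ∀ a b : Ω, a ≠ b → ¬ r ∣ Nat.card ↥(stabilizer G a ⊓ stabilizer G b) := by
    intro a b hab
    rw [h.card_const hab hy, hDc]
    exact hm1
  rcases Nat.lt_or_ge w k with hwk | hwk
  · -- hard sub-case
    have hN' : Nat.card (normalizer ((S : Subgroup G) : Set G)) = (Nat.card S - 1) * (Nat.card S * r ^ k) := by
      rw [← h.hst]; exact hN
    refine hH ?_ hm1 (stabilizer G x0 ⊓ stabilizer G y) ?_ (h.comm_D hy (hrD _ _ hxy)) (h.odd2 hxy) (hrD _ _ hxy)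
      ?_ (k - w) (by omega) ?_ ?_ ?_
    · intro a ha b hb ha1 hb1
      obtain ⟨n, hn, -, hn2⟩ := exists_conj_fix h.hU hxy (h.inv_iff.2 ⟨ha, ha1⟩) (h.inv_iff.2 ⟨hb, hb1⟩)
      refine ⟨n, ?_, hn2⟩
      rw [← h.hst]; exact hn
    · rw [← h.hst]; exact inf_le_left
    · apply Subgroup.inf_eq_bot_of_coprime
      rw [hDc, hQc]
      exact hcop w
    · rw [hN', hDc, hQc]
      have : r ^ k = r ^ w * r ^ (k - w) := by rw [← pow_add]; congr 1; omega
      rw [this]; ring
    · rw [← h.hst, index_stabilizer_of_transitive, hn]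
      intro hd
      have h2 : r ∣ Nat.card S * r ^ k := (dvd_pow_self r (by omega)).mul_left _
      exact h.rp.one_lt.ne' (Nat.dvd_one.1 ((Nat.dvd_add_left h2).1 hd))
    · intro g hg
      rw [← h.hst] at hg ⊢
      rw [← stabilizer_smul_eq_stabilizer_map_conj]
      apply hrD
      intro e
      exact hg e.symm
  · -- regular
    have hwk' : w = k := le_antisymm hw hwk
    subst hwk'
    apply h.reg_contra hc (centralizer ((S : Subgroup G) : Set G)) hCN
    · intro n hn v hv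
      rw [h.hst] at hn
      intro s hs
      have hn' := mem_normalizer_iff.1 (inv_mem hn) s
      rw [inv_inv] at hn'
      have hs' : n⁻¹ * s * n ∈ (S : Subgroup G) := hn'.1 hs
      have e : (n⁻¹ * s * n) * v = v * (n⁻¹ * s * n) := hv _ hs'
      calc s * (n * v * n⁻¹) = n * ((n⁻¹ * s * n) * v) * n⁻¹ := by group
        _ = n * (v * (n⁻¹ * s * n)) * n⁻¹ := by rw [e]
        _ = n * v * n⁻¹ * s := by group
    · intro a ha u hu hua
      have h1 : orderOf u ∣ Nat.card S - 1 := by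
        rw [← hDc, ← h.card_const (Ne.symm ha) hy]
        exact Subgroup.orderOf_dvd_natCard _ (show u ∈ stabilizer G x0 ⊓ stabilizer G a from ⟨hCN hu, hua⟩)
      have h2 : orderOf u ∣ Nat.card S * r ^ w := by
        rw [← hQc]
        exact Subgroup.orderOf_dvd_natCard _ hu
      exact orderOf_eq_one_iff.1 (Nat.eq_one_of_dvd_coprimes (hcop w) h1 h2)
    · rw [hQc, hn, add_comm]

theorem Cf.final (h : Cf G r S x0) (hc : Sz G S x0) (hH : Hard G r S)
    (hsyl : ∀ y : Ω, y ≠ x0 → r ∣ Nat.card S - 1 → ¬ r ∣ (stabilizer G x0 ⊓ stabilizer G y).index) : False := by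
  obtain ⟨y, hy⟩ := h.ne
  have hr0 : 0 < r := h.rp.pos
  obtain ⟨z, hz, hz1⟩ : ∃ z ∈ (S : Subgroup G), z ≠ 1 := by
    have : 1 < Nat.card (S : Subgroup G) := by
      have := h.h8
      omega
    rw [Subgroup.one_lt_card_iff_ne_bot] at this
    obtain ⟨z, hz1⟩ := Subgroup.ne_bot_iff_exists_ne_one.1 this
    exact ⟨z, z.2, fun e => hz1 (Subtype.ext e)⟩
  obtain ⟨k, k', hk, hkk, hcz, hP, hn⟩ := h.numbers hy hz hz1
  by_cases hj : k - k' = 0
  · rw [hj, pow_zero, mul_one] at hn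
    exact h.case_i hc hn
  by_cases hm1 : r ∣ Nat.card S - 1
  · -- `r ∣ |G : D|`
    apply hsyl y hy hm1
    have h1 : Nat.card G = Nat.card Ω * Nat.card (stabilizer G x0) := card_G x0
    have h2 := h.card_N hy
    have h3 : Nat.card ↥(stabilizer G x0 ⊓ stabilizer G y) * (stabilizer G x0 ⊓ stabilizer G y).index = Nat.card G :=
      Subgroup.card_mul_index _
    rw [h1, h2] at h3
    have h4 : (stabilizer G x0 ⊓ stabilizer G y).index = Nat.card Ω * (Nat.card Ω - 1) := by
      apply Nat.eq_of_mul_eq_mul_left (Nat.card_pos (α := ↥(stabilizer G x0 ⊓ stabilizer G y)))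
      rw [h3]; ring
    rw [h4, hn, Nat.add_sub_cancel_left]
    exact ((dvd_pow_self r hj).mul_left _).mul_left _
  · by_cases hk0 : k' = 0
    · subst hk0
      rw [pow_zero] at hP
      rw [Nat.sub_zero] at hn
      exact h.case_iii hc hH hm1 hy hz hz1 hk hcz hP hn
    · exact h.case_ii hm1 hy hz hz1 hk0 hj hP hn

end Cfsg.Agent.Lib.H15TD3
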