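import Cfsg.Agent.Lib.CITEppo2
import Cfsg.Agent.Lib.SuzukiSyl

/-! Piece F of helper15's plan for S3718 (helper95): Suzuki groups with at most one composite element order -/

set_option autoImplicit false
set_option linter.all false

namespace Cfsg.Agent.Lib.H15TF

open Subgroup

theorem suz_one {F : Type*} [Field F] [Fintype F] {m : ℕ} (hm : 1 ≤ m) (hF : Fintype.card F = 2 ^ (2 * m + 1))
    (h : {n : ℕ | n ∈ Set.range (orderOf : Cfsg.Sz F m → ℕ) ∧ 1 < n ∧ ¬ n.Prime}.Subsingleton) : m = 1 := by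
  by_contra hm1
  have hm2 : 2 ≤ m := by omega
  have hchar : CharP F 2 := SuzukiFin.charTwo hF
  have hθ := SuzukiFin.th_sq hF
  have hne := SuzukiFin.th_ne hm hF
  have hF' : Nat.card F = 2 ^ (2 * m + 1) := by rw [Nat.card_eq_fintype_card, hF]
  obtain ⟨x, y, hx, hy, -, -, -, -, h1, h2⟩ := SuzukiTori.two_classes (SuzukiFin.th F m) hθ hne hm hF'
  have heq := SuzukiFin.Sz_eq (F := F) m
  let e : Cfsg.Sz F m ≃* SuzukiOvoid.Gz (SuzukiFin.th F m) := MulEquiv.subgroupCongr heq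
  have hord : ∀ g : SuzukiOvoid.Gz (SuzukiFin.th F m), orderOf g ∈ Set.range (orderOf : Cfsg.Sz F m → ℕ) :=
    fun g => ⟨e.symm g, MulEquiv.orderOf_eq _ _⟩
  -- an element of order 4
  have h4 : 4 ∈ {n : ℕ | n ∈ Set.range (orderOf : Cfsg.Sz F m → ℕ) ∧ 1 < n ∧ ¬ n.Prime} := by
    refine ⟨?_, by norm_num, by norm_num⟩
    have h5 : orderOf (SuzukiGroup.Ug (SuzukiFin.th F m) hθ 1 0) = 4 := by
      haveI : Fact (Nat.Prime 2) := ⟨Nat.prime_two⟩
      have h6 := orderOf_eq_prime_pow (p := 2) (n := 1) (x := SuzukiGroup.Ug (SuzukiFin.th F m) hθ 1 0) ?_ ?_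
      · rw [h6]; norm_num
      · rw [pow_one, SuzukiSyl.Ug_sq, SuzukiSyl.Ug_eq_one]
        rintro ⟨-, h7⟩
        simp at h7
      · exact SuzukiSyl.Ug_pow4 _ _ _ _
    have h6 := hord (SuzukiGroup.Ug (SuzukiFin.th F m) hθ 1 0)
    rwa [h5] at h6
  have key : ∀ x : SuzukiOvoid.Gz (SuzukiFin.th F m), SuzukiNoFix.NoFix (SuzukiFin.th F m) x →
      5 ∣ Nat.card (Subgroup.centralizer {x}) → 5 < Nat.card (Subgroup.centralizer {x}) →
      Odd (Nat.card (Subgroup.centralizer {x})) → False := by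
    intro x hx h5 hlt hodd
    haveI := SuzukiNoFix.NoFix.cyclic (SuzukiFin.th F m) hθ hne hx
    obtain ⟨g, hg⟩ := IsCyclic.exists_generator (α := Subgroup.centralizer {x})
    have hgo : orderOf g = Nat.card (Subgroup.centralizer {x}) := orderOf_eq_card_of_forall_mem_zpowers hg
    have hmem : Nat.card (Subgroup.centralizer {x}) ∈
        {n : ℕ | n ∈ Set.range (orderOf : Cfsg.Sz F m → ℕ) ∧ 1 < n ∧ ¬ n.Prime} := by
      refine ⟨?_, by omega, ?_⟩
      · rw [← hgo, ← Subgroup.orderOf_coe]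
        exact hord _
      · intro hp
        rcases (Nat.dvd_prime hp).1 h5 with h6 | h6 <;> omega
    have h6 := h h4 hmem
    rw [← h6] at hodd
    exact absurd hodd (by decide)
  have hpow : (2 : ℕ) ^ (2 * m + 1) = 2 ^ m * 2 ^ (m + 1) := by rw [← pow_add]; congr 1; omega
  have hm4 : 4 ≤ 2 ^ m := by
    calc 4 = 2 ^ 2 := by norm_num
      _ ≤ 2 ^ m := Nat.pow_le_pow_right (by norm_num) hm2
  have hm8 : 2 ^ (m + 1) = 2 * 2 ^ m := by ring
  have h5 : 5 ∣ Nat.card (Subgroup.centralizer {x}) ∨ 5 ∣ Nat.card (Subgroup.centralizer {y}) := by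
    have h5p : Nat.Prime 5 := by norm_num
    rw [← h5p.dvd_mul]
    have e1 : Nat.card (Subgroup.centralizer {x}) * Nat.card (Subgroup.centralizer {y}) = (2 ^ (2 * m + 1)) ^ 2 + 1 := by
      have hr : (2 ^ (m + 1)) ^ 2 = 2 * 2 ^ (2 * m + 1) := by ring
      obtain ⟨b, hb⟩ : ∃ b, b = Nat.card (Subgroup.centralizer {y}) := ⟨_, rfl⟩
      rw [h1, ← hb]
      rw [← hb] at h2
      clear hpow hm8 hm4
      generalize 2 ^ (2 * m + 1) = q at *
      generalize 2 ^ (m + 1) = r at *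
      have h6 : (q : ℤ) + 1 - r = b := by omega
      have h7 : ((r : ℤ)) ^ 2 = 2 * q := by exact_mod_cast hr
      have h8 : (((q + r + 1) * b : ℕ) : ℤ) = ((q ^ 2 + 1 : ℕ) : ℤ) := by
        push_cast
        rw [← h6]
        linear_combination -h7
      exact_mod_cast h8
    rw [e1]
    have : (2 ^ (2 * m + 1)) ^ 2 % 5 = 4 := by
      have e2 : (2 ^ (2 * m + 1)) ^ 2 = 16 ^ m * 4 := by
        rw [← pow_mul, show (2 * m + 1) * 2 = 4 * m + 2 by ring, pow_add, pow_mul]; norm_num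
      rw [e2, Nat.mul_mod, Nat.pow_mod]; norm_num
    omega
  rcases h5 with h5 | h5
  · refine key x hx h5 ?_ ?_
    · rw [h1, hpow, hm8]; nlinarith
    · rw [h1, hpow, hm8, Nat.odd_iff]; 
      obtain ⟨t, ht⟩ : ∃ t, t = 2 ^ m := ⟨_, rfl⟩
      rw [← ht]
      have : t * (2 * t) + 2 * t + 1 = 2 * (t * t + t) + 1 := by ring
      rw [this]; omega
  · rw [hpow, hm8] at h2
    obtain ⟨t, ht⟩ : ∃ t, t = 2 ^ m := ⟨_, rfl⟩
    rw [← ht] at h2 hm4
    obtain ⟨s, rfl⟩ : ∃ s, t = s + 1 := ⟨t - 1, by omega⟩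
    have h6 : Nat.card (Subgroup.centralizer {y}) = 2 * (s * (s + 1)) + 1 := by
      have e3 : (s + 1) * (2 * (s + 1)) + 1 = (2 * (s * (s + 1)) + 1) + 2 * (s + 1) := by ring
      rw [e3] at h2
      omega
    refine key y hy h5 ?_ ?_
    · rw [h6]; nlinarith
    · rw [h6]; exact ⟨_, rfl⟩

/-- Suzuki groups with at most one composite element order (`IsoSuzuki G` comes from `CIT.main_iso`) -/
theorem suz_list {G : Type*} [Group G]
    (h1 : {n : ℕ | n ∈ Set.range (orderOf : G → ℕ) ∧ 1 < n ∧ ¬ n.Prime}.Subsingleton)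
    (hG : Cfsg.Lie.IsoSuzuki G) :
    ∃ (F : Type) (_ : Field F) (_ : Fintype F), Fintype.card F = 8 ∧ Nonempty (G ≃* ↥(Cfsg.Lie.Sz F 4)) := by
  obtain ⟨F, i1, i2, m, hm, hF, ⟨e⟩⟩ := SuzukiLie.isoSuzuki_iff.1 hG
  have hm' := suz_one hm hF (by
    rintro a ⟨⟨x, rfl⟩, hx⟩ b ⟨⟨y, rfl⟩, hy⟩
    refine h1 ⟨⟨e.symm x, MulEquiv.orderOf_eq _ _⟩, hx⟩ ⟨⟨e.symm y, MulEquiv.orderOf_eq _ _⟩, hy⟩)
  have hchar : CharP F 2 := SuzukiFin.charTwo hF
  have e2 := SuzukiLie.szEquiv (F := F) m hm hF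
  refine ⟨F, i1, i2, ?_⟩
  subst hm'
  exact ⟨by rw [hF]; norm_num, ⟨e.trans e2⟩⟩

end Cfsg.Agent.Lib.H15TF
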