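import Cfsg.Agent.Lib.SSF2Bal
import Cfsg.Agent.Lib.SylAmb
import Cfsg.Agent.Lib.InvAct
import Cfsg.Agent.S0205

set_option autoImplicit false

namespace Cfsg.Agent.Lib.H15T

open Subgroup Cfsg

/-- hypothesis (H): even element orders are `2` or `2r`, element orders divisible by the odd prime `r` are `r` or `2r` -/
structure HypR (G : Type*) [Group G] (r : ℕ) : Prop where
  rp : r.Prime
  r2 : r ≠ 2
  even : ∀ x : G, 2 ∣ orderOf x → orderOf x = 2 ∨ orderOf x = 2 * r
  rr : ∀ x : G, r ∣ orderOf x → orderOf x = r ∨ orderOf x = 2 * r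

end Cfsg.Agent.Lib.H15T
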