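import Cfsg.Agent.Lib.H76Blk2
import Cfsg.Agent.Lib.BlockPC
import Cfsg.Agent.Lib.BlockDefZero

/-!
# Blocks with central defect group and characters of defect zero of the quotient (helper16)
-/

set_option autoImplicit false
set_option linter.all false

namespace Cfsg.Agent.Lib.H16CD

open Cfsg Cfsg.Agent.Lib Cfsg.Agent.Lib.BlockRing Cfsg.Agent.Lib.BlockGA Cfsg.Agent.Lib.BlockIdem
  Cfsg.Agent.Lib.BlockDefect Cfsg.Agent.Lib.CharBasic Cfsg.Agent.Lib.BlockDeg
open scoped ComplexConjugate

universe u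

variable {G : Type u} [Group G] [Finite G] {p : ℕ} {M : Ideal AlgInt}

/-- only one character of the block of a defect zero character of `G / Z` has `Z` in its kernel -/
theorem unique_trivial (hM : IsPModular p M) {Z : Subgroup G} (hZ : IsPGroup p Z) (hZc : Z ≤ Subgroup.center G)
    {B : Set (IrrCharacter G)} (hB : IsPBlock M B) {θ : IrrCharacter G} (hθ : θ ∈ B)
    (hker : ∀ z ∈ Z, (θ : G → ℂ) z = (θ : G → ℂ) 1)
    (hdeg : (charDegree (θ : G → ℂ)).factorization p + (Nat.card Z).factorization p =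
      (Nat.card G).factorization p) {χ : IrrCharacter G} (hχ : χ ∈ B)
    (hχk : ∀ z ∈ Z, (χ : G → ℂ) z = (χ : G → ℂ) 1) : χ = θ := by
  haveI := isPrime hM
  haveI hn : Z.Normal := ⟨fun z hz g => by
    rw [(Subgroup.mem_center_iff.1 (hZc hz) g), mul_inv_cancel_right]; exact hz⟩
  have hsup : Z ⊔ Subgroup.centralizer (Z : Set G) = ⊤ := by
    rw [eq_top_iff]
    refine le_trans ?_ le_sup_right
    intro g _
    rw [Subgroup.mem_centralizer_iff]
    intro z hz
    exact (Subgroup.mem_center_iff.1 (hZc hz) g).symm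
  obtain ⟨θ', hθ', h1⟩ := θ.2.deflate Z hker
  obtain ⟨χ', hχ', h2⟩ := χ.2.deflate Z hχk
  have hdeg' : charDegree θ' = charDegree (θ : G → ℂ) := by
    have h3 := h1 1
    have h4 := charDegree_cast hθ'.isCharacter
    have h5 := charDegree_cast_irr θ
    have h6 : ((charDegree θ' : ℕ) : ℂ) = (charDegree (θ : G → ℂ) : ℕ) := by
      rw [h4, h5]; exact h3
    exact_mod_cast h6
  have hcard : (Nat.card G).factorization p = (Nat.card (G ⧸ Z)).factorization p + (Nat.card Z).factorization p := by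
    rw [Subgroup.card_eq_card_quotient_mul_card_subgroup Z,
      Nat.factorization_mul Nat.card_pos.ne' Nat.card_pos.ne']
    rfl
  have hsing := BlockDefZero.blockOf_eq_singleton hM (⟨θ', hθ'⟩ : IrrCharacter (G ⧸ Z)) (by
    show (charDegree θ').factorization p = _
    rw [hdeg']
    omega)
  have hsame : SameBlock M (θ : G → ℂ) (χ : G → ℂ) := sameBlock_of_mem hB hθ hχ
  have e1 : (H76Blk2.infl Z (⟨θ', hθ'⟩ : IrrCharacter (G ⧸ Z)) : G → ℂ) = (θ : G → ℂ) := by
    funext g
    exact h1 g
  have e2 : (H76Blk2.infl Z (⟨χ', hχ'⟩ : IrrCharacter (G ⧸ Z)) : G → ℂ) = (χ : G → ℂ) := by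
    funext g
    exact h2 g
  rw [← e1, ← e2, H76Blk2.infl_sameBlock hM hZ hsup] at hsame
  have h3 : (⟨χ', hχ'⟩ : IrrCharacter (G ⧸ Z)) ∈ blockOf M ((⟨θ', hθ'⟩ : IrrCharacter (G ⧸ Z)) : G ⧸ Z → ℂ) := hsame
  rw [hsing, Set.mem_singleton_iff] at h3
  apply Subtype.ext
  rw [← e1, ← e2, h3]

/-- **characters of defect zero of `G / Z`, `Z` a central `p`-subgroup, lie in blocks with defect group `Z`.** -/
theorem isDefectGroup_of (hM : IsPModular p M) {Z : Subgroup G} (hZ : IsPGroup p Z) (hZc : Z ≤ Subgroup.center G)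
    {B : Set (IrrCharacter G)} (hB : IsPBlock M B) {θ : IrrCharacter G} (hθ : θ ∈ B)
    (hker : ∀ z ∈ Z, (θ : G → ℂ) z = (θ : G → ℂ) 1)
    (hdeg : (charDegree (θ : G → ℂ)).factorization p + (Nat.card Z).factorization p =
      (Nat.card G).factorization p) : IsDefectGroup p M B Z := by
  classical
  haveI := isPrime hM
  haveI : Fact p.Prime := ⟨hM.1⟩
  haveI hn : Z.Normal := ⟨fun z hz g => by
    rw [(Subgroup.mem_center_iff.1 (hZc hz) g), mul_inv_cancel_right]; exact hz⟩
  haveI := Fintype.ofFinite G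
  haveI := Fintype.ofFinite Z
  obtain ⟨D, hD⟩ := exists_defectGroup hM hB
  have hZD : Z ≤ D := BlockNormP.le_defectGroup hM hZ hB hD
  suffices h : D = Z by rwa [← h]
  by_contra hne
  obtain ⟨g, hg, S, hS⟩ := hD
  have hgreg : ¬ p ∣ orderOf g := by
    intro h
    apply hg.2.1
    rw [BlockOsima.blockCoeff_eq_zero hM hB h]
    exact idl_zero
  -- the coefficient at `g`
  have hsup : Z ⊔ Subgroup.centralizer (Z : Set G) = ⊤ := by
    rw [eq_top_iff]
    refine le_trans ?_ le_sup_right
    intro g _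
    rw [Subgroup.mem_centralizer_iff]
    intro z hz
    exact (Subgroup.mem_center_iff.1 (hZc hz) g).symm
  have hgC : ∀ y : G, y ∈ Subgroup.centralizer (Z : Set G) := by
    intro y
    rw [Subgroup.mem_centralizer_iff]
    intro z hz
    exact (Subgroup.mem_center_iff.1 (hZc hz) y).symm
  have hmulv : ∀ (χ : IrrCharacter G) (z : Z), (χ : G → ℂ) (g * z) = (χ : G → ℂ) z * (χ : G → ℂ) g / (χ : G → ℂ) 1 := by
    intro χ z
    rw [← BlockCentral.mul_value hsup χ.2 z.2 (hgC g), Subgroup.mem_center_iff.1 (hZc z.2) g]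
  have hsum : ∑ z : Z, blockCoeff B (g * z) = blockCoeff B g := by
    rw [Finset.sum_eq_single (1 : Z)]
    · simp
    · intro z _ hz
      apply BlockOsima.blockCoeff_eq_zero hM hB
      have hzc : Commute g (z : G) := (Subgroup.mem_center_iff.1 (hZc z.2) g)
      have hcop : Nat.Coprime (orderOf g) (orderOf (z : G)) := by
        obtain ⟨k, hk⟩ := (IsPGroup.iff_orderOf.1 hZ) z
        rw [Subgroup.orderOf_coe, hk]
        exact Nat.Coprime.pow_right _ ((Nat.Prime.coprime_iff_not_dvd hM.1).2 hgreg).symm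
      rw [hzc.orderOf_mul_eq_mul_orderOf_of_coprime hcop]
      exact dvd_mul_of_dvd_right (BlockNormP.dvd_orderOf_of_isPGroup hM.1 hZ z.2 (fun h => hz (Subtype.ext h))) _
    · intro h; exact absurd (Finset.mem_univ _) h
  have hcoef : blockCoeff B g = (Nat.card G : ℂ)⁻¹ * ((Nat.card Z : ℂ) * ((θ : G → ℂ) 1 * conj ((θ : G → ℂ) g))) := by
    rw [← hsum]
    simp only [blockCoeff]
    rw [← Finset.mul_sum]
    congr 1
    simp only [finsum_mem_eq_finite_toFinset_sum _ (Set.toFinite B)]
    rw [Finset.sum_comm, Finset.sum_eq_single θ]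
    · rw [← Finset.mul_sum]
      have h1 : ∀ z : Z, conj ((θ : G → ℂ) (g * z)) = conj ((θ : G → ℂ) g) := by
        intro z
        rw [hmulv θ z, hker z z.2, mul_div_cancel_left₀ _ θ.2.one_ne_zero]
      rw [Finset.sum_congr rfl (fun z _ => h1 z), Finset.sum_const, Finset.card_univ, nsmul_eq_mul,
        ← Nat.card_eq_fintype_card]
      ring
    · intro χ hχ hne'
      rw [Set.Finite.mem_toFinset] at hχ
      have h1 : ∑ z : Z, (χ : G → ℂ) z = 0 := by
        by_contra h2
        exact hne' (unique_trivial hM hZ hZc hB hθ hker hdeg hχ (BlockNormP.trivial_of_constituent h2))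
      rw [← Finset.mul_sum, ← map_sum]
      have h2 : ∑ z : Z, (χ : G → ℂ) (g * z) = (∑ z : Z, (χ : G → ℂ) z) * ((χ : G → ℂ) g / (χ : G → ℂ) 1) := by
        rw [Finset.sum_mul]
        exact Finset.sum_congr rfl fun z _ => by rw [hmulv χ z, mul_div_assoc]
      rw [h2, h1, zero_mul, map_zero, mul_zero]
    · intro h
      exact absurd ((Set.Finite.mem_toFinset _).2 hθ) h
  -- compare with the central character at `g⁻¹`
  have hinv : Subgroup.centralizer ({g⁻¹} : Set G) = Subgroup.centralizer ({g} : Set G) := by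
    ext x
    rw [Subgroup.mem_centralizer_singleton_iff, Subgroup.mem_centralizer_singleton_iff]
    constructor
    · intro h
      have h2 : Commute x g⁻¹ := h
      exact (Commute.inv_right_iff.1 h2).eq
    · intro h
      have h2 : Commute x g := h
      exact (Commute.inv_right h2).eq
  have hω : centralChar (θ : G → ℂ) g⁻¹ =
      ((Subgroup.centralizer ({g} : Set G)).index : ℂ) * (θ : G → ℂ) g⁻¹ / (θ : G → ℂ) 1 := by
    rw [centralChar, hinv]
  have hci := (Subgroup.centralizer ({g} : Set G)).card_mul_index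
  set c := Nat.card (Subgroup.centralizer ({g} : Set G)) with hc
  set idx := (Subgroup.centralizer ({g} : Set G)).index with hidx
  set d := charDegree (θ : G → ℂ) with hd
  have hd0 : d ≠ 0 := (charDegree_pos θ.2).ne'
  have hc0 : c ≠ 0 := Nat.card_pos.ne'
  have hi0 : idx ≠ 0 := Subgroup.index_ne_zero_of_finite
  have hdc : ((d : ℕ) : ℂ) = (θ : G → ℂ) 1 := charDegree_cast_irr θ
  have hG0 : Nat.card G ≠ 0 := Nat.card_pos.ne'
  have hZ0 : Nat.card Z ≠ 0 := Nat.card_pos.ne'
  have hform : blockCoeff B g = ((Nat.card Z * d ^ 2 * c : ℕ) : ℂ) / ((Nat.card G ^ 2 : ℕ) : ℂ) *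
      centralChar (θ : G → ℂ) g⁻¹ := by
    rw [hcoef, hω, ← θ.2.isCharacter.inv, ← hdc, ← hci]
    have h1 : (c : ℂ) ≠ 0 := by exact_mod_cast hc0
    have h2 : (idx : ℂ) ≠ 0 := by exact_mod_cast hi0
    have h3 : (d : ℂ) ≠ 0 := by exact_mod_cast hd0
    push_cast
    field_simp
  apply hg.2.1
  rw [hform]
  apply idl_mul_right _ (loc_centralChar θ.2 _)
  rw [idl_div_natCast_iff hM (by positivity) (by positivity)]
  -- `|Z| < |D| = |C(g)|_p`
  have hDcard : Nat.card D = p ^ c.factorization p := by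
    rw [hS, Subgroup.card_map_of_injective (Subgroup.subtype_injective _), S.card_eq_multiplicity]
  obtain ⟨k, hk⟩ := IsPGroup.iff_card.1 hZ
  have hlt : Nat.card Z < Nat.card D := by
    apply lt_of_le_of_ne (Subgroup.card_le_of_le hZD)
    intro h
    exact hne (Subgroup.eq_of_le_of_card_ge hZD h.ge).symm
  rw [hDcard, hk] at hlt
  have hkc : k < c.factorization p := (Nat.pow_lt_pow_iff_right hM.1.one_lt).1 hlt
  have hZk : (Nat.card Z).factorization p = k := by
    rw [hk, hM.1.factorization_pow, Finsupp.single_eq_same]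
  rw [Nat.factorization_mul (by positivity) hc0, Nat.factorization_mul hZ0 (by positivity), Nat.factorization_pow,
    Nat.factorization_pow]
  simp only [Finsupp.add_apply, Finsupp.smul_apply, smul_eq_mul]
  omega

end Cfsg.Agent.Lib.H16CD
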