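import Cfsg.Agent.Lib.H16PalM
import Cfsg.Agent.Lib.H16PalP1
import Cfsg.Agent.Lib.H16PalP2
import Cfsg.Agent.Lib.H16PalP4
import Cfsg.Agent.Lib.H16PalP10
import Cfsg.Agent.Lib.DegTools
import Cfsg.Agent.Lib.H16PalP3
import Cfsg.Agent.Lib.H16PalP6
import Cfsg.Agent.Lib.H16PalP9
import Cfsg.Agent.Lib.H83Pal8
import Cfsg.Agent.Lib.H67Pal
import Cfsg.Agent.S4493
import Cfsg.Agent.S2904

set_option autoImplicit false
set_option linter.all false

namespace Cfsg.Agent.Lib.H16PalFin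

open Subgroup Cfsg Cfsg.Agent.Lib Cfsg.Agent.Lib.CharBasic Cfsg.Agent.Lib.Clifford Cfsg.Agent.Lib.H16Pal0

universe u v

/-- P7 (case B, exactly one centralises V) -/
theorem p7 {G : Type u} [Group G] [Finite G] {T V L : Subgroup G} {t p q : ℕ} (h : SB T V L t p q) (hcp : CS p L V)
    (hcq : ¬ CS q L V) : False := by
  haveI := h.Tn
  haveI := h.Vn
  exact Cfsg.Agent.Lib.H67Pal.p7 h hcp hcq (fun θ hθ h1 => (H16PalP9.p9a h θ hθ h1).1)
    (fun lam hl hl1 => H16PalP9.p9b h lam hl hl1)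

theorem sb_symm {G : Type u} [Group G] [Finite G] {T V L : Subgroup G} {t p q : ℕ} (h : SB T V L t p q) :
    SB T V L t q p :=
  ⟨h.sol, h.pt, h.pq, h.pp, h.tq, h.tp, h.pneq.symm, h.Tn, h.Vn, h.Tt, h.TL, h.TL', h.cop, h.hV, h.V1, h.VZ, h.Vmin,
    h.degq, h.degp, fun χ hq hp => h.degpq χ hp hq, h.nq, h.np⟩

/-- Lemma A -/
theorem lemA {H : Type u} [Group H] [Finite H] [Group.IsSolvable H] {X : Type v} [CommGroup X] [Finite X]
    [MulDistribMulAction H X] [FaithfulSMul H X] {s d : ℕ} (hs : s.Prime) (hX : Nat.card X = s ^ d) {p q : ℕ}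
    (hp : p.Prime) (hq : q.Prime) (hpq : p ≠ q) (hpd : p ∣ Nat.card H) (hqd : q ∣ Nat.card H)
    (hpart : ∀ x : X, x ≠ 1 → NAS p ⊤ (MulAction.stabilizer H x))
    (hpart' : ∀ x : X, x ≠ 1 → NAS q ⊤ (MulAction.stabilizer H x)) :
    ∃ χ : IrrCharacter H, p * q ∣ charDegree (χ : H → ℂ) := by
  obtain ⟨hd3, hd6⟩ := H16PalP3.p3 hs hX hp hq hpq hpd hqd hpart hpart'
  obtain ⟨r, hr, hr1, hr2⟩ := Cfsg.Agent.S2904.result s d hs.one_lt (by omega) hd6 (fun h => by omega)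
  obtain ⟨c, hc0, hcd, -, hc, -⟩ := H16PalP1.p1 hs hX hp hpd hpart
  exact H16PalP4.p4_of hs hX hp hq hpq hpd hqd hpart hpart' hr hr1 hr2 ⟨c, hc0, hcd, hc⟩
    (fun U W hU hUi hW hWi hUa hWa hUW => H16PalP2.p2 hp hq hpq hU hUi hW hWi hUa hWa hUW)

theorem lemA' : H16PalP10.LemA.{u} :=
  fun H _ _ _ X _ _ _ _ s d hs hX p q hp hq hpq hpd hqd h1 h2 => lemA hs hX hp hq hpq hpd hqd h1 h2

theorem not_both {p q : ℕ} (hp : p.Prime) (hq : q.Prime) {n : ℕ} (h : p * q ∣ n) : p ∣ n ∧ q ∣ n :=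
  ⟨(dvd_mul_right p q).trans h, (dvd_mul_left q p).trans h⟩

theorem core {G : Type u} [Group G] [Finite G] [hsol : Group.IsSolvable G] {s t p q : ℕ} (ht : t.Prime) (hs : s.Prime)
    (hp : p.Prime) (hq : q.Prime)
    (htp : t ≠ p) (htq : t ≠ q) (hpq : p ≠ q) {V : Subgroup G} [hVn : V.Normal] (hVs : IsPGroup s V)
    (Vab : ∀ a ∈ V, ∀ b ∈ V, a * b = b * a) (V1 : V ≠ ⊥)
    (Vmin : ∀ W : Subgroup G, W.Normal → W ≤ V → W = ⊥ ∨ W = V) (hQ : NSyl (G ⧸ V) t) (nt : ¬ NSyl G t)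
    (np : ¬ NSyl G p) (nq : ¬ NSyl G q)
    (degp : ∀ χ : IrrCharacter G, t ∣ charDegree (χ : G → ℂ) → ¬ p ∣ charDegree (χ : G → ℂ))
    (degq : ∀ χ : IrrCharacter G, t ∣ charDegree (χ : G → ℂ) → ¬ q ∣ charDegree (χ : G → ℂ))
    (degpq : ∀ χ : IrrCharacter G, p ∣ charDegree (χ : G → ℂ) → ¬ q ∣ charDegree (χ : G → ℂ)) : False := by
  by_cases hst : s = t
  · subst hst
    obtain ⟨T, L, h⟩ := H16PalM.caseB ht hp hq htp htq hpq hVs V1 Vmin hQ nt np nq degp degq degpq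
    by_cases hcp : CS p L V
    · by_cases hcq : CS q L V
      · exact H16PalP6.p6 h hcp hcq
      · exact p7 h hcp hcq
    · by_cases hcq : CS q L V
      · exact p7 (sb_symm h) hcq hcp
      · obtain ⟨χ, hχ⟩ := H16PalP10.p10 lemA' Vab hs hVs hp hq hpq (fun lam hl hl1 => H16PalP9.p9b h lam hl hl1) hcp hcq
        haveI := h.Tn
        obtain ⟨ψ, hψ⟩ := H16PalM.inflL h.TL h.TL' χ
        rw [← hψ] at hχ
        obtain ⟨h1, h2⟩ := not_both hp hq hχ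
        exact degpq ψ h1 h2
  · obtain ⟨T, L, h⟩ := H16PalM.caseA ht hs hp hq htp htq (Ne.symm hst) hpq hVs Vab Vmin hQ nt np nq degp degq
    obtain ⟨h1, hcp, hcq⟩ := H83Pal8.p8 h V1
    obtain ⟨χ, hχ⟩ := H16PalP10.p10 lemA' Vab hs hVs hp hq hpq h1 hcp hcq
    obtain ⟨ψ, hψ⟩ := H16PalM.inflL h.VL h.VL' χ
    rw [← hψ] at hχ
    obtain ⟨h1, h2⟩ := not_both hp hq hχ
    exact degpq ψ h1 h2

theorem main (n : ℕ) : ∀ (G : Type u) [Group G] [Finite G] [Group.IsSolvable G], Nat.card G = n → ∀ p q r : ℕ,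
    p.Prime → q.Prime → r.Prime → p ≠ q → q ≠ r → p ≠ r → ¬ NSyl G p → ¬ NSyl G q → ¬ NSyl G r →
    (∀ χ : IrrCharacter G, p ∣ charDegree (χ : G → ℂ) → ¬ q ∣ charDegree (χ : G → ℂ)) →
    (∀ χ : IrrCharacter G, q ∣ charDegree (χ : G → ℂ) → ¬ r ∣ charDegree (χ : G → ℂ)) →
    (∀ χ : IrrCharacter G, p ∣ charDegree (χ : G → ℂ) → ¬ r ∣ charDegree (χ : G → ℂ)) → False := by
  induction n using Nat.strong_induction_on with
  | _ n ih =>
    intro G _ _ hsol hn p q r hp hq hr hpq hqr hpr np nq nr dpq dqr dpr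
    have htop : (⊤ : Subgroup G) ≠ ⊥ := by
      intro h
      apply np
      haveI : Subsingleton G := by
        rw [← Subgroup.subsingleton_iff]
        exact subsingleton_of_bot_eq_top h.symm
      refine ⟨⊥, inferInstance, fun x _ y _ => Subsingleton.elim _ _, IsPGroup.of_bot, ?_⟩
      have h1 : (⊥ : Subgroup G).index = 1 := by rw [← h]; exact Subgroup.index_top
      rw [h1]
      exact hp.one_lt.ne' ∘ Nat.dvd_one.1
    obtain ⟨V, hVn, V1, -, Vmin⟩ := Cores.exists_minNormal_le (G := G) (K := ⊤) inferInstance htop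
    haveI := hVn
    have Vab := Cores.minNormal_abelian V1 Vmin
    obtain ⟨s, hs, hVe⟩ := Cores.minNormal_elementary V1 Vmin Vab
    have hVs : IsPGroup s V := fun x => ⟨1, Subtype.ext (by
      show (x : G) ^ s ^ 1 = 1
      rw [pow_one]; exact hVe x x.2)⟩
    by_cases hQp : NSyl (G ⧸ V) p
    · exact core hp hs hq hr hpq hpr hqr hVs Vab V1 Vmin hQp np nq nr dpq dpr dqr
    by_cases hQq : NSyl (G ⧸ V) q
    · exact core hq hs hp hr hpq.symm hqr hpr hVs Vab V1 Vmin hQq nq np nr (fun χ h1 h2 => dpq χ h2 h1) dqr dpr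
    by_cases hQr : NSyl (G ⧸ V) r
    · exact core hr hs hp hq hpr.symm hqr.symm hpq hVs Vab V1 Vmin hQr nr np nq (fun χ h1 h2 => dpr χ h2 h1)
        (fun χ h1 h2 => dqr χ h2 h1) dpq
    have hlt : Nat.card (G ⧸ V) < n := by
      rw [← hn, ← Subgroup.index_eq_card, ← V.card_mul_index]
      have h1 : 1 < Nat.card V := by
        rcases Nat.lt_or_ge 1 (Nat.card V) with h | h
        · exact h
        · exact absurd (Subgroup.card_eq_one.1 (le_antisymm h Nat.card_pos)) V1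
      have h2 : 0 < V.index := Nat.pos_of_ne_zero Subgroup.index_ne_zero_of_finite
      nlinarith
    refine ih _ hlt (G ⧸ V) rfl p q r hp hq hr hpq hqr hpr hQp hQq hQr ?_ ?_ ?_
    · intro χ h1 h2
      obtain ⟨ψ, hψ⟩ := DegTools.exists_inflate V χ
      exact dpq ψ (hψ ▸ h1) (hψ ▸ h2)
    · intro χ h1 h2
      obtain ⟨ψ, hψ⟩ := DegTools.exists_inflate V χ
      exact dqr ψ (hψ ▸ h1) (hψ ▸ h2)
    · intro χ h1 h2
      obtain ⟨ψ, hψ⟩ := DegTools.exists_inflate V χ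
      exact dpr ψ (hψ ▸ h1) (hψ ▸ h2)

end Cfsg.Agent.Lib.H16PalFin
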