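import Mathlib
import Cfsg.Agent.Lib.CSPa

/-!
# Groups with three class sizes, non F-group case: basics (helper16)
-/

set_option autoImplicit false
set_option linter.unusedSectionVars false

namespace Cfsg.Agent.H16RA

open Subgroup Cfsg.Agent.Lib.CSP

variable {G : Type*} [Group G]

/-- `r`-element -/
abbrev El (r : ℕ) (a : G) : Prop := ∃ k, orderOf a = r ^ k

variable [Finite G]

theorem exists_of_dvd {r : ℕ} (hr : r.Prime) {L H : Subgroup G} (h : r ∣ L.relIndex H) :
    ∃ a ∈ H, a ∉ L ∧ El r a := by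
  have hrf : Fact r.Prime := ⟨hr⟩
  obtain ⟨R⟩ : Nonempty (Sylow r H) := inferInstance
  by_contra hcon
  push Not at hcon
  have h1 : (R : Subgroup H) ≤ L.subgroupOf H := by
    intro x hx
    rw [mem_subgroupOf]
    by_contra hx1
    obtain ⟨k, hk⟩ := R.2 ⟨x, hx⟩
    have h2 : (x : G) ^ r ^ k = 1 := by
      have h3 : x ^ r ^ k = 1 := by simpa using congrArg Subtype.val hk
      have := congrArg Subtype.val h3
      simpa using this
    obtain ⟨b, -, hb⟩ := (Nat.dvd_prime_pow hr).1 (orderOf_dvd_of_pow_eq_one h2)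
    exact hcon x x.2 hx1 b hb
  exact R.not_dvd_index (h.trans (index_dvd_of_le h1))

/-- a noncentral `r`-element in `H` shows that `r` divides `|H : Z|` -/
theorem dvd_of_mem {r : ℕ} (hr : r.Prime) {H : Subgroup G} {a : G} (ha : a ∈ H)
    (hac : a ∉ center G) (har : El r a) : r ∣ (center G).relIndex H := by
  obtain ⟨k, hk⟩ := har
  by_contra hcon
  have h1 : (⟨a, ha⟩ : H) ^ (center G).relIndex H ∈ (center G).subgroupOf H := Subgroup.pow_index_mem _ _
  have h2 : a ^ (center G).relIndex H ∈ center G := h1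
  have h3 : a ^ r ^ k = 1 := by rw [← hk, pow_orderOf_eq_one]
  have hco : Nat.Coprime ((center G).relIndex H) (r ^ k) :=
    Nat.Coprime.pow_right k ((Nat.Prime.coprime_iff_not_dvd hr).2 hcon).symm
  have h4 : a ∈ zpowers (a ^ (center G).relIndex H) := by
    apply mem_zpowers_pow_iff.2
    rw [hk]; exact hco
  exact hac ((zpowers_le.2 h2) h4)

theorem C_mul {x y : G} (hc : x * y = y * x) (hco : (orderOf x).Coprime (orderOf y)) :
    C (x * y) = C x ⊓ C y := by
  apply le_antisymm
  · apply le_inf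
    · exact C_le_of_mem_zpowers (mem_zpowers_mul hc hco)
    · have h := mem_zpowers_mul hc.symm hco.symm
      rw [← hc] at h
      exact C_le_of_mem_zpowers h
  · exact le_C_mul inf_le_left inf_le_right

theorem C_eq_of_d {x y : G} (h : C x ≤ C y) (hd : d x = d y) : C x = C y := by
  apply le_antisymm h
  apply le_of_n_eq h
  have h1 := d_mul_n x
  have h2 := d_mul_n y
  rw [hd] at h1
  have h3 : d y ≠ 0 := index_ne_zero_of_finite
  exact Nat.eq_of_mul_eq_mul_left (Nat.pos_of_ne_zero h3) (h1.trans h2.symm)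

theorem d_congr {x y : G} (h : C x = C y) : d x = d y := by
  show (center G).relIndex (C x) = (center G).relIndex (C y)
  rw [h]

theorem d_dvd {x y : G} (h : C x ≤ C y) : d x ∣ d y :=
  ⟨_, (relIndex_mul_relIndex (center G) (C x) (C y) (center_le x) h).symm⟩

theorem relIndex_C {x y : G} (h : C x ≤ C y) : d x * (C x).relIndex (C y) = d y :=
  relIndex_mul_relIndex (center G) (C x) (C y) (center_le x) h

theorem not_mem_of_mul {x y : G} (hx : x ∉ center G) (hc : x * y = y * x)
    (hco : (orderOf x).Coprime (orderOf y)) : x * y ∉ center G := fun h =>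
  hx ((zpowers_le.2 h) (mem_zpowers_mul hc hco))

theorem el_coprime {r s : ℕ} (hr : r.Prime) (hs : s.Prime) (hrs : r ≠ s) {a b : G} (ha : El r a) (hb : El s b) :
    (orderOf a).Coprime (orderOf b) := by
  obtain ⟨k, hk⟩ := ha
  obtain ⟨l, hl⟩ := hb
  rw [hk, hl]
  exact Nat.Coprime.pow k l ((Nat.coprime_primes hr hs).2 hrs)

theorem el_coprime' {r : ℕ} {a b : G} (ha : El r a) (hb : (orderOf b).Coprime r) :
    (orderOf a).Coprime (orderOf b) := by
  obtain ⟨k, hk⟩ := ha
  rw [hk]
  exact hb.symm.pow_left k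

theorem el_coprime_prime {r s : ℕ} (hr : r.Prime) (hs : s.Prime) (hrs : r ≠ s) {a : G} (ha : El r a) :
    (orderOf a).Coprime s := by
  obtain ⟨k, hk⟩ := ha
  rw [hk]
  exact ((Nat.coprime_primes hr hs).2 hrs).pow_left k

/-- at most two orders of noncentral centralizers -/
structure RN (G : Type*) [Group G] (α β K : ℕ) : Prop where
  two : ∀ g : G, g ∉ center G → d g = α ∨ d g = β
  K1 : 1 < K
  mul : α = β * K
  pos : 0 < β

variable {α β K : ℕ}

theorem RN.lt (h : RN G α β K) : β < α := by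
  rw [h.mul]
  calc β = β * 1 := (mul_one _).symm
    _ < β * K := Nat.mul_lt_mul_of_pos_left h.K1 h.pos

theorem RN.ne (h : RN G α β K) : β ≠ α := h.lt.ne

/-- `N` inside `N` -/
theorem RN.eq_of_le (h : RN G α β K) {x y : G} (hx : d x = α) (hy : y ∉ center G) (hle : C x ≤ C y) : C x = C y := by
  apply C_eq_of_d hle
  rcases h.two y hy with h1 | h1
  · rw [hx, h1]
  · exfalso
    have h2 := Nat.le_of_dvd (by rw [h1]; exact h.pos) (d_dvd hle)
    rw [hx, h1] at h2
    exact absurd h2 (not_le.2 h.lt)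

theorem RN.eq_of_ge (h : RN G α β K) {x y : G} (hx : d x = β) (hy : y ∉ center G) (hle : C y ≤ C x) : C y = C x := by
  apply C_eq_of_d hle
  rcases h.two y hy with h1 | h1
  · exfalso
    have h2 := Nat.le_of_dvd (by rw [hx]; exact h.pos) (d_dvd hle)
    rw [hx, h1] at h2
    exact absurd h2 (not_le.2 h.lt)
  · rw [hx, h1]

theorem RN.index_C (h : RN G α β K) {x y : G} (hx : d x = β) (hy : d y = α) (hle : C x ≤ C y) :
    (C x).relIndex (C y) = K := by
  have h1 := relIndex_C hle
  rw [hx, hy, h.mul] at h1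
  exact Nat.eq_of_mul_eq_mul_left h.pos h1

/-- (F2) -/
theorem F2 (h : RN G α β K) {x0 y0 : G} (hx0 : x0 ∉ center G) (hx : d x0 = β) (hy : d y0 = α)
    (hle : C x0 ≤ C y0) {t : ℕ} (ht : t.Prime) (htd : t ∣ (center G).index) : t ∣ β := by
  by_contra hnt
  have key1 : ∀ g : G, g ∉ center G → El t g → ∀ w ∈ C g, w ∉ center G → d w = α := by
    intro g hg hgt w hw hwc
    rcases h.two w hwc with h1 | h1
    · exact h1
    · exfalso
      apply hnt
      rw [← h1]
      exact dvd_of_mem ht (mem_C_comm.1 hw) hg hgt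
  have key2 : ∀ g : G, g ∉ center G → El t g → ∀ w ∈ C g, (orderOf w).Coprime t → C g ≤ C w := by
    intro g hg hgt w hw hwt
    have hc : g * w = w * g := (mem_C.1 hw).symm
    have hco := el_coprime' hgt hwt
    have h1 : g * w ∉ center G := not_mem_of_mul hg hc hco
    have h2 := C_mul hc hco
    have h3 : g * w ∈ C g := mul_mem (self_mem g) hw
    have h4 : d (g * w) = α := key1 g hg hgt _ h3 h1
    have h5 : C (g * w) = C g := h.eq_of_le h4 hg (h2 ▸ inf_le_left)
    rw [← h5, h2]
    exact inf_le_right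
  -- a noncentral prime power part of `x0`
  obtain ⟨s, hs, u, hu, huc, hus⟩ := exists_prim _ x0 rfl hx0
  have hsd : s ∣ β := by
    rw [← hx]
    exact dvd_of_mem hs ((zpowers_le.2 (self_mem x0)) hu) huc hus
  have hst : s ≠ t := fun h0 => hnt (h0 ▸ hsd)
  have hsα : s ∣ α := hsd.trans (h.mul ▸ dvd_mul_right _ _)
  have key3 : ∀ g : G, g ∉ center G → El t g → ∀ w ∈ C g, C g ≤ C w := by
    intro g hg hgt
    have hdg : d g = α := key1 g hg hgt g (self_mem g) hg
    obtain ⟨v, hv, hvc, hvs⟩ := exists_rel hs (H := C g) (by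
      have : (center G).relIndex (C g) = d g := rfl
      rw [this, hdg]; exact hsα)
    have h1 : C g ≤ C v := key2 g hg hgt v hv (el_coprime_prime hs ht hst hvs)
    have hgv : C g = C v := h.eq_of_le hdg hvc h1
    intro w hw
    obtain ⟨a, b, hab, -, ha, hb, hat, hbt⟩ := parts ht w
    have haw : a ∈ C g := (zpowers_le.2 hw) ha
    have hbw : b ∈ C g := (zpowers_le.2 hw) hb
    have h2 : C g ≤ C b := key2 g hg hgt b hbw hbt
    have h3 : C g ≤ C a := by
      have hc : v * a = a * v := (mem_C.1 (hgv ▸ haw)).symm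
      have hco := el_coprime hs ht hst hvs hat
      have h4 : v * a ∉ center G := not_mem_of_mul hvc hc hco
      have h5 := C_mul hc hco
      have h6 : v * a ∈ C g := mul_mem hv haw
      have h7 : d (v * a) = α := key1 g hg hgt _ h6 h4
      have h8 : C (v * a) = C v := h.eq_of_le h7 hvc (h5 ▸ inf_le_left)
      rw [hgv, ← h8, h5]
      exact inf_le_right
    rw [← hab]
    exact le_C_mul h3 h2
  obtain ⟨g, -, hgc, hgt⟩ := exists_rel (H := (⊤ : Subgroup G)) ht (by rw [relIndex_top_right]; exact htd)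
  have hdg : d g = α := key1 g hgc hgt g (self_mem g) hgc
  have htα : t ∣ α := by rw [← hdg]; exact dvd_of_mem ht (self_mem g) hgc hgt
  obtain ⟨g0, hg0, hg0c, hg0t⟩ := exists_rel ht (H := C y0) (by
    have : (center G).relIndex (C y0) = d y0 := rfl
    rw [this, hy]; exact htα)
  have hy0 : y0 ∉ center G := by
    intro h0
    have h1 := C_eq_top h0
    have h2 : d y0 = (center G).index := by
      show (center G).relIndex (C y0) = _
      rw [h1, relIndex_top_right]
    have h3 := d_mul_n g0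
    have hdg0 : d g0 = α := key1 g0 hg0c hg0t g0 (self_mem g0) hg0c
    rw [← h2, hy, hdg0] at h3
    have h4 : n g0 = 1 := by
      have hα : 0 < α := lt_trans h.pos h.lt
      exact Nat.eq_of_mul_eq_mul_left hα (by rw [h3, mul_one])
    exact hg0c (mem_center_of_C_top (index_eq_one.1 h4))
  have hy0g : y0 ∈ C g0 := mem_C_comm.1 hg0
  have h1 := key3 g0 hg0c hg0t y0 hy0g
  have h2 : C g0 = C y0 := h.eq_of_le (key1 g0 hg0c hg0t g0 (self_mem g0) hg0c) hy0 h1
  have h3 : x0 ∈ C g0 := by rw [h2]; exact hle (self_mem x0)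
  exact h.ne (hx.symm.trans (key1 g0 hg0c hg0t x0 h3 hx0))

end Cfsg.Agent.H16RA
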