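import Cfsg.Agent.Lib.H16RA
import Cfsg.Agent.Lib.CharCentral

/-!
# A counting lemma for partitions by centralizers (helper16)
-/

set_option autoImplicit false
set_option linter.unusedSectionVars false

namespace Cfsg.Agent.H16RC

open Subgroup Cfsg.Agent.Lib.CSP Cfsg.Agent.H16RA

variable {G : Type*} [Group G] [Finite G]

/-- noncentral `r`-elements -/
noncomputable def V (G : Type*) [Group G] [Finite G] (r : ℕ) : Finset G :=
  (Set.toFinite {v : G | v ∉ center G ∧ El r v}).toFinset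

theorem mem_V {r : ℕ} {v : G} : v ∈ V G r ↔ v ∉ center G ∧ El r v := by
  simp [V]

theorem V_conj {r : ℕ} (g v : G) (hv : v ∈ V G r) : g * v * g⁻¹ ∈ V G r := by
  rw [mem_V] at hv ⊢
  refine ⟨fun h => hv.1 (conj_mem_center h), ?_⟩
  obtain ⟨k, hk⟩ := hv.2
  refine ⟨k, ?_⟩
  rw [← hk]
  have := orderOf_injective (MulAut.conj g).toMonoidHom (MulAut.conj g).injective v
  simpa using this

theorem card_C_conj (g v : G) : Nat.card (C (g * v * g⁻¹)) = Nat.card (C v) := by
  have h1 := card_mul_index (C (g * v * g⁻¹))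
  have h2 := card_mul_index (C v)
  have h3 : (C (g * v * g⁻¹)).index = (C v).index := n_conj g v
  rw [h3] at h1
  have h4 : (C v).index ≠ 0 := index_ne_zero_of_finite
  exact Nat.eq_of_mul_eq_mul_right (Nat.pos_of_ne_zero h4) (h1.trans h2.symm)

theorem dvd_sum_class (W : Finset G) (hW : ∀ g : G, ∀ v ∈ W, g * v * g⁻¹ ∈ W) :
    Nat.card G ∣ ∑ v ∈ W, Nat.card (C v) := by
  classical
  haveI := Fintype.ofFinite G
  rw [← Finset.sum_fiberwise_of_maps_to (g := fun v => (ConjClasses.mk v)) (t := W.image ConjClasses.mk)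
    (fun v hv => Finset.mem_image_of_mem _ hv)]
  apply Finset.dvd_sum
  intro c hc
  obtain ⟨v0, hv0, rfl⟩ := Finset.mem_image.1 hc
  have h1 : ∀ v ∈ W.filter (fun v => ConjClasses.mk v = ConjClasses.mk v0), Nat.card (C v) = Nat.card (C v0) := by
    intro v hv
    obtain ⟨hv, he⟩ := Finset.mem_filter.1 hv
    rw [ConjClasses.mk_eq_mk_iff_isConj] at he
    obtain ⟨g, hg⟩ := isConj_iff.1 he.symm
    rw [← hg]; exact card_C_conj g v0
  rw [Finset.sum_congr rfl h1, Finset.sum_const, smul_eq_mul]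
  have h2 : (W.filter (fun v => ConjClasses.mk v = ConjClasses.mk v0)).card = (C v0).index := by
    rw [← Cfsg.Agent.Lib.CharCentral.card_conj_eq_index v0, Nat.card_eq_fintype_card, Fintype.card_subtype]
    congr 1
    ext v
    simp only [Finset.mem_filter, Finset.mem_univ, true_and]
    constructor
    · rintro ⟨-, h⟩
      exact (ConjClasses.mk_eq_mk_iff_isConj.1 h).symm
    · intro h
      obtain ⟨g, hg⟩ := isConj_iff.1 h
      exact ⟨hg ▸ hW g v0 hv0, ConjClasses.mk_eq_mk_iff_isConj.2 h.symm⟩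
  rw [h2, mul_comm, Subgroup.card_mul_index]

/-- number of `s`-elements of a subgroup in which they are central -/
theorem card_el {H : Subgroup G} {s : ℕ} (hs : s.Prime)
    (hcen : ∀ a ∈ H, El s a → ∀ b ∈ H, a * b = b * a) :
    Nat.card {w : G // w ∈ H ∧ El s w} = s ^ (Nat.card H).factorization s := by
  haveI : Fact s.Prime := ⟨hs⟩
  obtain ⟨P⟩ : Nonempty (Sylow s H) := inferInstance
  have hel : ∀ x : H, x ∈ (P : Subgroup H) → El s (x : G) := by
    intro x hx
    obtain ⟨k, hk⟩ := (IsPGroup.iff_orderOf.1 P.2) ⟨x, hx⟩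
    refine ⟨k, ?_⟩
    rw [← hk, Subgroup.orderOf_mk]
    exact Subgroup.orderOf_coe x
  have hn : (P : Subgroup H).Normal := by
    refine ⟨fun x hx g => ?_⟩
    have h1 := hcen x x.2 (hel x hx) g g.2
    have h2 : x * g = g * x := Subtype.ext h1
    rw [← h2, mul_inv_cancel_right]
    exact hx
  have hin : ∀ x : H, El s (x : G) → x ∈ (P : Subgroup H) := by
    intro x hx
    obtain ⟨k, hk⟩ := hx
    have hp : IsPGroup s (zpowers x) := IsPGroup.of_card (n := k) (by
      rw [Nat.card_zpowers, ← hk]; exact (Subgroup.orderOf_coe x).symm)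
    obtain ⟨Q, hQ⟩ := hp.exists_le_sylow
    have := Sylow.unique_of_normal P hn
    rw [Subsingleton.elim P Q]
    exact hQ (mem_zpowers x)
  rw [← P.card_eq_multiplicity]
  apply Nat.card_congr
  refine ⟨fun w => ⟨⟨w.1, w.2.1⟩, hin _ w.2.2⟩, fun x => ⟨x.1.1, x.1.2, hel _ x.2⟩, fun w => rfl, fun x => rfl⟩

structure HC (G : Type*) [Group G] (q δ : ℕ) : Prop where
  hq : q.Prime
  hA : ∀ g : G, g ∉ center G → (orderOf g).Coprime q → ∀ w ∈ C g, (orderOf w).Coprime q → C g ≤ C w
  hB : ∀ g : G, g ∉ center G → ∃ w ∈ C g, w ∉ center G ∧ (orderOf w).Coprime q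
  hδ : ∀ g : G, g ∉ center G → (orderOf g).Coprime q → ∃ c, d g = δ * q ^ c
  hcop : δ.Coprime q

variable {q δ : ℕ}

theorem HC.eqC (h : HC G q δ) {g w : G} (hg : g ∉ center G) (hgq : (orderOf g).Coprime q) (hw : w ∈ C g)
    (hwc : w ∉ center G) (hwq : (orderOf w).Coprime q) : C g = C w :=
  le_antisymm (h.hA g hg hgq w hw hwq) (h.hA w hwc hwq g (mem_C_comm.1 hw) hgq)

noncomputable def u (G : Type*) [Group G] (δ s : ℕ) : ℕ :=
  s ^ (Nat.card (center G)).factorization s * (s ^ δ.factorization s - 1)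

open Classical in
theorem HC.cnt (h : HC G q δ) {g : G} (hg : g ∉ center G) (hgq : (orderOf g).Coprime q) {s : ℕ} (hs : s.Prime)
    (hsq : s ≠ q) : ((V G s).filter (fun w => w ∈ C g)).card = u G δ s := by
  haveI := Fintype.ofFinite G
  have h1 : Nat.card {w : G // w ∈ C g ∧ El s w} = s ^ (Nat.card (C g)).factorization s := by
    apply card_el hs
    intro a ha has b hb
    have := h.hA g hg hgq a ha (el_coprime_prime hs h.hq hsq has) hb
    exact (mem_C.1 this).symm
  have h2 : Nat.card {w : G // w ∈ center G ∧ El s w} = s ^ (Nat.card (center G)).factorization s := by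
    apply card_el hs
    intro a ha _ b _
    exact (mem_center_iff.1 ha b).symm
  obtain ⟨c, hc⟩ := h.hδ g hg hgq
  have h3 : Nat.card (C g) = Nat.card (center G) * (δ * q ^ c) := by
    rw [← hc]
    have := Subgroup.card_mul_index ((center G).subgroupOf (C g))
    rw [← this]
    congr 1
    exact (Nat.card_congr (Subgroup.subgroupOfEquivOfLe (center_le g)).toEquiv)
  have hZ0 : Nat.card (center G) ≠ 0 := Nat.card_pos.ne'
  have hC0 : Nat.card (C g) ≠ 0 := Nat.card_pos.ne'
  have hδ0 : δ ≠ 0 := by rintro rfl; rw [h3] at hC0; simp at hC0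
  have hq0 : q ^ c ≠ 0 := pow_ne_zero _ h.hq.pos.ne'
  have h4 : (Nat.card (C g)).factorization s = (Nat.card (center G)).factorization s + δ.factorization s := by
    rw [h3, Nat.factorization_mul hZ0 (mul_ne_zero hδ0 hq0), Nat.factorization_mul hδ0 hq0, Finsupp.add_apply,
      Finsupp.add_apply, Nat.factorization_pow, Finsupp.smul_apply, h.hq.factorization, Finsupp.single_apply,
      if_neg (Ne.symm hsq)]
    simp
  have h5 : ((V G s).filter (fun w => w ∈ C g)).card + Nat.card {w : G // w ∈ center G ∧ El s w} =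
      Nat.card {w : G // w ∈ C g ∧ El s w} := by
    rw [Nat.card_eq_fintype_card, Nat.card_eq_fintype_card, Fintype.card_subtype, Fintype.card_subtype,
      ← Finset.card_union_of_disjoint]
    · congr 1
      ext w
      simp only [Finset.mem_union, Finset.mem_filter, mem_V, Finset.mem_univ, true_and]
      constructor
      · rintro (⟨⟨_, h6⟩, h7⟩ | ⟨h6, h7⟩)
        · exact ⟨h7, h6⟩
        · exact ⟨center_le g h6, h7⟩
      · rintro ⟨h6, h7⟩
        by_cases h8 : w ∈ center G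
        · exact Or.inr ⟨h8, h7⟩
        · exact Or.inl ⟨⟨h8, h7⟩, h6⟩
    · rw [Finset.disjoint_left]
      intro w h6 h7
      simp only [Finset.mem_filter, mem_V, Finset.mem_univ, true_and] at h6 h7
      exact h6.1.1 h7.1
  rw [h1, h2, h4, pow_add] at h5
  unfold u
  rw [Nat.mul_sub, mul_one]
  omega

theorem HC.exS (h : HC G q δ) {g : G} (hg : g ∉ center G) (hgq : (orderOf g).Coprime q) :
    ∃ S : Subgroup G, center G ≤ S ∧ S ≤ C g ∧ (∀ x ∈ C g, El q x → x ∈ S) ∧ δ * Nat.card S ≤ Nat.card (C g) := by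
  haveI : Fact q.Prime := ⟨h.hq⟩
  obtain ⟨P⟩ : Nonempty (Sylow q (C g)) := inferInstance
  have hn : (P : Subgroup (C g)).Normal := by
    rw [← normalizer_eq_top_iff]
    by_contra hne
    have h1 : (normalizer ((P : Subgroup (C g)) : Set (C g))).index ≠ 1 := fun h0 => hne (index_eq_one.1 h0)
    obtain ⟨r, hr, hrd⟩ := Nat.exists_prime_and_dvd h1
    have hrq : r ≠ q := by
      rintro rfl
      exact P.not_dvd_index (hrd.trans (index_dvd_of_le le_normalizer))
    obtain ⟨a, -, ha, k, hk⟩ := exists_of_dvd (L := normalizer ((P : Subgroup (C g)) : Set (C g))) (H := ⊤) hr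
      (by rw [relIndex_top_right]; exact hrd)
    apply ha
    have h2 : El r (a : G) := ⟨k, by rw [← hk]; exact Subgroup.orderOf_coe a⟩
    have h3 := h.hA g hg hgq a a.2 (el_coprime_prime hr h.hq hrq h2)
    rw [mem_normalizer_iff]
    intro x
    have h4 : a * x * a⁻¹ = x := by
      have : (x : G) * a = a * x := mem_C.1 (h3 x.2)
      have h5 : a * x = x * a := Subtype.ext this.symm
      rw [h5, mul_inv_cancel_right]
    change x ∈ (P : Subgroup (C g)) ↔ a * x * a⁻¹ ∈ (P : Subgroup (C g))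
    rw [h4]
  set P' : Subgroup G := (P : Subgroup (C g)).map (C g).subtype with hP'
  have hP'le : P' ≤ C g := map_subtype_le _
  refine ⟨P' ⊔ center G, le_sup_right, sup_le hP'le (center_le g), ?_, ?_⟩
  · intro x hx hxq
    obtain ⟨k, hk⟩ := hxq
    apply le_sup_left (a := P')
    have hp : IsPGroup q (zpowers (⟨x, hx⟩ : C g)) := IsPGroup.of_card (n := k) (by
      rw [Nat.card_zpowers, ← hk]; exact Subgroup.orderOf_mk x hx)
    obtain ⟨Q, hQ⟩ := hp.exists_le_sylow
    have := Sylow.unique_of_normal P hn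
    refine ⟨⟨x, hx⟩, ?_, rfl⟩
    have : (⟨x, hx⟩ : C g) ∈ (Q : Subgroup (C g)) := hQ (mem_zpowers _)
    rw [Subsingleton.elim Q P] at this
    exact this
  · obtain ⟨c, hc⟩ := h.hδ g hg hgq
    have h1 : (center G).relIndex (P' ⊔ center G) = (center G).relIndex P' := relIndex_sup_right _ _
    have h2 : (center G).relIndex P' ∣ Nat.card P' := relIndex_dvd_card _ _
    have h3 : Nat.card P' = Nat.card P := Nat.card_congr ((P : Subgroup (C g)).equivMapOfInjective _
      (C g).subtype_injective).symm.toEquiv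
    obtain ⟨e, he⟩ := (IsPGroup.iff_card).1 P.2
    have h4 : δ.Coprime ((center G).relIndex (P' ⊔ center G)) := by
      rw [h1]
      apply Nat.Coprime.coprime_dvd_right h2
      rw [h3, he]
      exact h.hcop.pow_right e
    have h5 : (center G).relIndex (P' ⊔ center G) * (P' ⊔ center G).relIndex (C g) = d g :=
      relIndex_mul_relIndex _ _ _ le_sup_right (sup_le hP'le (center_le g))
    have h6 : δ ∣ (P' ⊔ center G).relIndex (C g) := by
      apply h4.dvd_of_dvd_mul_left
      rw [h5, hc]; exact dvd_mul_right _ _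
    have h7 : Nat.card (P' ⊔ center G : Subgroup G) * (P' ⊔ center G).relIndex (C g) = Nat.card (C g) := by
      have := Subgroup.card_mul_index ((P' ⊔ center G).subgroupOf (C g))
      rw [← this]
      congr 1
      exact (Nat.card_congr (Subgroup.subgroupOfEquivOfLe (sup_le hP'le (center_le g))).toEquiv).symm
    have h8 : (P' ⊔ center G).relIndex (C g) ≠ 0 := index_ne_zero_of_finite
    have h9 := Nat.le_of_dvd (Nat.pos_of_ne_zero h8) h6
    rw [← h7, mul_comm]
    exact Nat.mul_le_mul_left _ h9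


open Classical in
theorem HC.le_of_noncentral (h : HC G q δ) {g : G} (hg : g ∉ center G) {r : ℕ} (hr : r.Prime) (hrq : r ≠ q) :
    u G δ r ≤ ((V G r).filter (fun v => v ∈ C g)).card := by
  obtain ⟨w, hw, hwc, hwq⟩ := h.hB g hg
  rw [← h.cnt hwc hwq hr hrq]
  apply Finset.card_le_card
  intro v hv
  obtain ⟨hv1, hv2⟩ := Finset.mem_filter.1 hv
  refine Finset.mem_filter.2 ⟨hv1, ?_⟩
  obtain ⟨hvc, hvr⟩ := mem_V.1 hv1
  have h1 : C w = C v := h.eqC hwc hwq hv2 hvc (el_coprime_prime hr h.hq hrq hvr)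
  have h2 : g ∈ C v := by rw [← h1]; exact mem_C_comm.1 hw
  exact mem_C_comm.1 h2

open Classical in
theorem HC.lt_of_central (h : HC G q δ) {g : G} (hg : g ∉ center G) {r : ℕ} (hr : r.Prime) (hrq : r ≠ q)
    (hpos : 0 < u G δ r) :
    u G δ r < (V G r).card := by
  obtain ⟨w, hw, hwc, hwq⟩ := h.hB g hg
  rw [← h.cnt hwc hwq hr hrq]
  apply Finset.card_lt_card
  refine ⟨Finset.filter_subset _ _, fun hsub => ?_⟩
  apply hwc
  apply mem_center_of_C_top
  rw [eq_top_iff]
  intro x _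
  by_cases hx : x ∈ center G
  · exact center_le w hx
  obtain ⟨w', hw', hwc', hwq'⟩ := h.hB x hx
  rw [← h.cnt hwc' hwq' hr hrq, Finset.card_pos] at hpos
  obtain ⟨v, hv⟩ := hpos
  obtain ⟨hv1, hv2⟩ := Finset.mem_filter.1 hv
  obtain ⟨hvc, hvr⟩ := mem_V.1 hv1
  have h1 : C w' = C v := h.eqC hwc' hwq' hv2 hvc (el_coprime_prime hr h.hq hrq hvr)
  have h2 : v ∈ C w := (Finset.mem_filter.1 (hsub hv1)).2
  have h3 : C w = C v := h.eqC hwc hwq h2 hvc (el_coprime_prime hr h.hq hrq hvr)
  rw [h3, ← h1]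
  exact mem_C_comm.1 hw'

theorem card_eq_filter {H : Subgroup G} [Fintype G] [DecidablePred (· ∈ H)] :
    Nat.card H = (Finset.univ.filter (fun x : G => x ∈ H)).card := by
  classical
  rw [Nat.card_eq_fintype_card, Fintype.card_subtype]

open Classical in
/-- lower bound -/
theorem HC.lb (h : HC G q δ) {g : G} (hg : g ∉ center G) {r : ℕ} (hr : r.Prime) (hrq : r ≠ q)
    (hpos : 0 < u G δ r) : u G δ r * Nat.card G < ∑ v ∈ V G r, Nat.card (C v) := by
  haveI := Fintype.ofFinite G
  have h1 : ∑ v ∈ V G r, Nat.card (C v) = ∑ x : G, ((V G r).filter (fun v => v ∈ C x)).card := by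
    have h2 : ∀ v ∈ V G r, Nat.card (C v) = ∑ x : G, if x ∈ C v then 1 else 0 := by
      intro v _
      rw [card_eq_filter, Finset.card_filter]
    rw [Finset.sum_congr rfl h2, Finset.sum_comm]
    apply Finset.sum_congr rfl
    intro x _
    rw [Finset.card_filter]
    apply Finset.sum_congr rfl
    intro v _
    congr 1
    exact propext mem_C_comm
  have h3 : u G δ r * Nat.card G = ∑ _x : G, u G δ r := by
    rw [Finset.sum_const, smul_eq_mul, Nat.card_eq_fintype_card, Finset.card_univ, mul_comm]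
  rw [h1, h3]
  apply Finset.sum_lt_sum
  · intro x _
    by_cases hx : x ∈ center G
    · have h4 : (V G r).filter (fun v => v ∈ C x) = V G r := by
        apply Finset.filter_true_of_mem
        intro v _
        rw [C_eq_top hx]; trivial
      rw [h4]
      exact (h.lt_of_central hg hr hrq hpos).le
    · exact h.le_of_noncentral hx hr hrq
  · refine ⟨1, Finset.mem_univ _, ?_⟩
    have h4 : (V G r).filter (fun v => v ∈ C (1 : G)) = V G r := by
      apply Finset.filter_true_of_mem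
      intro v _
      rw [C_eq_top (one_mem _)]; trivial
    rw [h4]
    exact h.lt_of_central hg hr hrq hpos

open Classical in
/-- upper bound -/
theorem HC.ub (h : HC G q δ) {r : ℕ} (hr : r.Prime) (hrq : r ≠ q) (hpos : 0 < u G δ r) (hδ0 : 0 < δ) :
    (δ - 1) * ∑ v ∈ V G r, Nat.card (C v) < δ * (u G δ r * Nat.card G) := by
  haveI := Fintype.ofFinite G
  have hex : ∀ v : G, ∃ S : Subgroup G, v ∈ V G r → (center G ≤ S ∧ S ≤ C v ∧ (∀ x ∈ C v, El q x → x ∈ S) ∧
      δ * Nat.card S ≤ Nat.card (C v)) := by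
    intro v
    by_cases hv : v ∈ V G r
    · obtain ⟨hvc, hvr⟩ := mem_V.1 hv
      obtain ⟨S, hS⟩ := h.exS hvc (el_coprime_prime hr h.hq hrq hvr)
      exact ⟨S, fun _ => hS⟩
    · exact ⟨⊥, fun h0 => absurd h0 hv⟩
  choose S hS using hex
  have hT : ∀ x : G, ((V G r).filter (fun v => x ∈ C v ∧ x ∉ S v)).card ≤ u G δ r := by
    intro x
    rcases ((V G r).filter (fun v => x ∈ C v ∧ x ∉ S v)).eq_empty_or_nonempty with he | ⟨v, hv⟩
    · rw [he]; simp
    obtain ⟨hv1, hv2, hv3⟩ := Finset.mem_filter.1 hv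
    obtain ⟨hS1, hS2, hS3, -⟩ := hS v hv1
    obtain ⟨a, b, hab, -, ha, hb, haq, hbq⟩ := parts h.hq x
    have hac : a ∈ S v := hS3 a ((zpowers_le.2 hv2) ha) haq
    have hbc : b ∉ center G := fun h0 => hv3 (by rw [← hab]; exact mul_mem hac (hS1 h0))
    rw [← h.cnt hbc hbq hr hrq]
    apply Finset.card_le_card
    intro v' hv'
    obtain ⟨h1, h2, -⟩ := Finset.mem_filter.1 hv'
    refine Finset.mem_filter.2 ⟨h1, ?_⟩
    exact C_le_of_mem_zpowers hb (mem_C_comm.1 h2)
  have hT1 : ((V G r).filter (fun v => (1 : G) ∈ C v ∧ (1 : G) ∉ S v)).card = 0 := by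
    rw [Finset.card_eq_zero, Finset.filter_eq_empty_iff]
    rintro v _ ⟨-, h0⟩
    exact h0 (one_mem _)
  have h1 : ∑ v ∈ V G r, (Nat.card (C v) - Nat.card (S v)) =
      ∑ x : G, ((V G r).filter (fun v => x ∈ C v ∧ x ∉ S v)).card := by
    have h2 : ∀ v ∈ V G r, Nat.card (C v) - Nat.card (S v) = ∑ x : G, if (x ∈ C v ∧ x ∉ S v) then 1 else 0 := by
      intro v hv
      rw [card_eq_filter, card_eq_filter, ← Finset.card_filter]
      have h3 : Finset.univ.filter (fun x : G => x ∈ S v) ⊆ Finset.univ.filter (fun x : G => x ∈ C v) := by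
        intro x hx
        rw [Finset.mem_filter] at hx ⊢
        exact ⟨hx.1, (hS v hv).2.1 hx.2⟩
      rw [← Finset.card_sdiff_of_subset h3]
      congr 1
      ext x
      simp
    rw [Finset.sum_congr rfl h2, Finset.sum_comm]
    apply Finset.sum_congr rfl
    intro x _
    rw [Finset.card_filter]
  have h2 : ∑ x : G, ((V G r).filter (fun v => x ∈ C v ∧ x ∉ S v)).card < u G δ r * Nat.card G := by
    have h3 : u G δ r * Nat.card G = ∑ _x : G, u G δ r := by
      rw [Finset.sum_const, smul_eq_mul, Nat.card_eq_fintype_card, Finset.card_univ, mul_comm]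
    rw [h3]
    apply Finset.sum_lt_sum (fun x _ => hT x)
    exact ⟨1, Finset.mem_univ _, by rw [hT1]; exact hpos⟩
  calc (δ - 1) * ∑ v ∈ V G r, Nat.card (C v) = ∑ v ∈ V G r, (δ - 1) * Nat.card (C v) := Finset.mul_sum _ _ _
    _ ≤ ∑ v ∈ V G r, δ * (Nat.card (C v) - Nat.card (S v)) := by
        apply Finset.sum_le_sum
        intro v hv
        have h4 := (hS v hv).2.2.2
        rw [Nat.mul_sub, Nat.sub_mul, one_mul]
        omega
    _ = δ * ∑ v ∈ V G r, (Nat.card (C v) - Nat.card (S v)) := (Finset.mul_sum _ _ _).symm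
    _ < δ * (u G δ r * Nat.card G) := by
        rw [h1]
        exact Nat.mul_lt_mul_of_pos_left h2 hδ0

open Classical in
/-- link between two primes -/
theorem HC.link (h : HC G q δ) {r s : ℕ} (hr : r.Prime) (hs : s.Prime) (hrq : r ≠ q) (hsq : s ≠ q) :
    u G δ s * ∑ v ∈ V G r, Nat.card (C v) = u G δ r * ∑ v ∈ V G s, Nat.card (C v) := by
  have h1 : u G δ s * ∑ v ∈ V G r, Nat.card (C v) =
      ∑ v ∈ V G r, ∑ w ∈ V G s, if w ∈ C v then Nat.card (C v) else 0 := by
    rw [Finset.mul_sum]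
    apply Finset.sum_congr rfl
    intro v hv
    obtain ⟨hvc, hvr⟩ := mem_V.1 hv
    rw [← Finset.sum_filter, Finset.sum_const, smul_eq_mul,
      h.cnt hvc (el_coprime_prime hr h.hq hrq hvr) hs hsq]
  have h2 : u G δ r * ∑ v ∈ V G s, Nat.card (C v) =
      ∑ w ∈ V G s, ∑ v ∈ V G r, if w ∈ C v then Nat.card (C v) else 0 := by
    rw [Finset.mul_sum]
    apply Finset.sum_congr rfl
    intro w hw
    obtain ⟨hwc, hws⟩ := mem_V.1 hw
    have h3 : ∀ v ∈ V G r, (if w ∈ C v then Nat.card (C v) else 0) = if v ∈ C w then Nat.card (C w) else 0 := by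
      intro v hv
      obtain ⟨hvc, hvr⟩ := mem_V.1 hv
      by_cases h4 : v ∈ C w
      · rw [if_pos h4, if_pos (mem_C_comm.1 h4)]
        rw [h.eqC hwc (el_coprime_prime hs h.hq hsq hws) h4 hvc (el_coprime_prime hr h.hq hrq hvr)]
      · rw [if_neg h4, if_neg (fun h5 => h4 (mem_C_comm.1 h5))]
    rw [Finset.sum_congr rfl h3, ← Finset.sum_filter, Finset.sum_const, smul_eq_mul,
      h.cnt hwc (el_coprime_prime hs h.hq hsq hws) hr hrq]
  rw [h1, h2, Finset.sum_comm]

theorem pow_sub_pos {r e : ℕ} (hr : r.Prime) (he : e ≠ 0) : 1 ≤ r ^ e - 1 ∧ r ^ e - 1 + 1 = r ^ e := by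
  have h1 : 2 ≤ r ^ e := by
    calc 2 ≤ r := hr.two_le
      _ = r ^ 1 := (pow_one r).symm
      _ ≤ r ^ e := Nat.pow_le_pow_right hr.pos (Nat.one_le_iff_ne_zero.2 he)
  omega

/-- the counting contradiction -/
theorem HC.false (h : HC G q δ) {g : G} (hg : g ∉ center G) {r s : ℕ} (hr : r.Prime) (hs : s.Prime)
    (hrs : r ≠ s) (hrq : r ≠ q) (hsq : s ≠ q) (hrδ : r ∣ δ) (hsδ : s ∣ δ) : False := by
  obtain ⟨w0, hw0, hwc0, hwq0⟩ := h.hB g hg
  have hδ0 : 0 < δ := by
    obtain ⟨c, hc⟩ := h.hδ w0 hwc0 hwq0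
    rcases Nat.eq_zero_or_pos δ with h0 | h0
    · rw [h0, zero_mul] at hc
      exact absurd hc index_ne_zero_of_finite
    · exact h0
  have her : δ.factorization r ≠ 0 := (hr.factorization_pos_of_dvd hδ0.ne' hrδ).ne'
  have hes : δ.factorization s ≠ 0 := (hs.factorization_pos_of_dvd hδ0.ne' hsδ).ne'
  obtain ⟨hr1, hr2⟩ := pow_sub_pos hr her
  obtain ⟨hs1, hs2⟩ := pow_sub_pos hs hes
  have hur : 0 < u G δ r := Nat.mul_pos (pow_pos hr.pos _) hr1
  have hus : 0 < u G δ s := Nat.mul_pos (pow_pos hs.pos _) hs1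
  obtain ⟨κr, hκr⟩ := dvd_sum_class (V G r) (fun g v hv => V_conj g v hv)
  obtain ⟨κs, hκs⟩ := dvd_sum_class (V G s) (fun g v hv => V_conj g v hv)
  have hlb := h.lb hg hr hrq hur
  have hub := h.ub hr hrq hur hδ0
  have hli := h.link hr hs hrq hsq
  rw [hκr] at hlb hub hli
  rw [hκs] at hli
  have hG : 0 < Nat.card G := Nat.card_pos
  have e1 : u G δ r < κr := by
    rw [mul_comm] at hlb
    exact Nat.lt_of_mul_lt_mul_left hlb
  have e2 : (δ - 1) * κr < δ * u G δ r := by
    have : Nat.card G * ((δ - 1) * κr) < Nat.card G * (δ * u G δ r) := by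
      calc Nat.card G * ((δ - 1) * κr) = (δ - 1) * (Nat.card G * κr) := by ring
        _ < δ * (u G δ r * Nat.card G) := hub
        _ = Nat.card G * (δ * u G δ r) := by ring
    exact Nat.lt_of_mul_lt_mul_left this
  have e3 : u G δ s * κr = u G δ r * κs := by
    have : Nat.card G * (u G δ s * κr) = Nat.card G * (u G δ r * κs) := by
      calc Nat.card G * (u G δ s * κr) = u G δ s * (Nat.card G * κr) := by ring
        _ = u G δ r * (Nat.card G * κs) := hli
        _ = _ := by ring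
    exact Nat.eq_of_mul_eq_mul_left hG this
  obtain ⟨g0, b0, a0, hg0, hco, hb0, ha0⟩ := Nat.exists_coprime' (m := u G δ r) (n := κr) (Nat.gcd_pos_of_pos_left _ hur)
  have f1 : b0 < a0 := by
    rw [hb0, ha0] at e1
    exact Nat.lt_of_mul_lt_mul_right e1
  have f2 : (δ - 1) * a0 < δ * b0 := by
    rw [hb0, ha0, ← mul_assoc, ← mul_assoc] at e2
    exact Nat.lt_of_mul_lt_mul_right e2
  have f3 : b0 ∣ u G δ s := by
    have : b0 ∣ u G δ s * a0 := by
      refine ⟨κs, ?_⟩
      have e4 : g0 * (u G δ s * a0) = g0 * (b0 * κs) := by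
        calc g0 * (u G δ s * a0) = u G δ s * (a0 * g0) := by ring
          _ = u G δ s * κr := by rw [← ha0]
          _ = u G δ r * κs := e3
          _ = (b0 * g0) * κs := by rw [← hb0]
          _ = _ := by ring
      exact Nat.eq_of_mul_eq_mul_left hg0 e4
    exact hco.dvd_of_dvd_mul_right this
  have f4 : b0 ∣ u G δ r := ⟨g0, hb0⟩
  set X := r ^ δ.factorization r - 1 with hX
  set Y := s ^ δ.factorization s - 1 with hY
  have f5 : b0 ∣ X * Y := by
    have g1 : b0 ∣ r ^ (Nat.card (center G)).factorization r * (X * Y) := by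
      rw [← mul_assoc]
      exact Dvd.dvd.mul_right f4 _
    have g2 : b0 ∣ s ^ (Nat.card (center G)).factorization s * (X * Y) := by
      rw [mul_comm X Y, ← mul_assoc]
      exact Dvd.dvd.mul_right f3 _
    have g3 := Nat.dvd_gcd g1 g2
    rw [Nat.gcd_mul_right] at g3
    have g4 : Nat.gcd (r ^ (Nat.card (center G)).factorization r) (s ^ (Nat.card (center G)).factorization s) = 1 :=
      Nat.Coprime.pow _ _ ((Nat.coprime_primes hr hs).2 hrs)
    rwa [g4, one_mul] at g3
  have f6 : b0 ≤ X * Y := Nat.le_of_dvd (Nat.mul_pos hr1 hs1) f5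
  have f7 : (X + 1) * (Y + 1) ≤ δ := by
    rw [hX, hY, hr2, hs2]
    apply Nat.le_of_dvd hδ0
    apply Nat.Coprime.mul_dvd_of_dvd_of_dvd
    · exact Nat.Coprime.pow _ _ ((Nat.coprime_primes hr hs).2 hrs)
    · exact Nat.ordProj_dvd δ r
    · exact Nat.ordProj_dvd δ s
  have f8 : X * Y + X + Y + 1 ≤ δ := by nlinarith
  obtain ⟨δ', rfl⟩ : ∃ δ', δ = δ' + 1 := ⟨δ - 1, by omega⟩
  simp only [Nat.add_sub_cancel] at f2
  have f9 : δ' * (b0 + 1) ≤ δ' * a0 := Nat.mul_le_mul_left _ f1
  have f10 : δ' * b0 + δ' < δ' * b0 + b0 := by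
    calc δ' * b0 + δ' = δ' * (b0 + 1) := by ring
      _ ≤ δ' * a0 := f9
      _ < (δ' + 1) * b0 := f2
      _ = δ' * b0 + b0 := by ring
  omega

end Cfsg.Agent.H16RC
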