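import Cfsg.Agent.Lib.BlockPC
import Cfsg.Agent.Lib.BlockCover2
import Cfsg.Agent.Lib.CliffordCorr
import Cfsg.Agent.Lib.CharDegrees
import Cfsg.Agent.Lib.CharBasic2
import Cfsg.Agent.S0971
import Cfsg.Agent.S0973

/-!
# Blocks with a normal defect group (Reynolds) (helper16)
-/

set_option autoImplicit false
set_option linter.all false

namespace Cfsg.Agent.Lib.H16Reynolds

open Cfsg Cfsg.Agent.Lib.BlockRing Cfsg.Agent.Lib.BlockGA Cfsg.Agent.Lib.BlockIdem Cfsg.Agent.Lib.BlockDefect
  Cfsg.Agent.Lib.BlockDeg Cfsg.Agent.Lib.PPart Cfsg.Agent.Lib.IndFun Cfsg.Agent.Lib.BlockPair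
  Cfsg.Agent.Lib.BlockCentral Cfsg.Agent.Lib.BlockPC Cfsg.Agent.Lib.BlockCover Cfsg.Agent.Lib.Clifford
  Cfsg.Agent.Lib.CliffordCorr Cfsg.Agent.Lib.CharBasic
open scoped ComplexConjugate

universe u
variable {G : Type u} [Group G] [Finite G] {p : ℕ} {M : Ideal AlgInt}

/-- degree bound by the index of the defect group -/
theorem index_le_degree (hM : IsPModular p M) {P : Subgroup G} {B : Set (IrrCharacter G)}
    (hB : IsPBlock M B) (hD : IsDefectGroup p M B P) {χ : IrrCharacter G} (hχ : χ ∈ B) :
    P.index.factorization p ≤ (charDegree (χ : G → ℂ)).factorization p := by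
  have hPi : P.index ≠ 0 := Subgroup.index_ne_zero_of_finite
  have h2 := pow_dvd_degree hM hB hχ
  have h3 : (Nat.card G).factorization p - blockDefect p B ≤ (charDegree (χ : G → ℂ)).factorization p :=
    (hM.1.pow_dvd_iff_le_factorization (charDegree_spec χ.2).2).1 h2
  have hcard := defectGroup_card hM hB hD
  have h5 := congrArg (fun n => n.factorization p) P.card_mul_index
  rw [Nat.factorization_mul Nat.card_pos.ne' hPi, Finsupp.add_apply, hcard,
    hM.1.factorization_pow, Finsupp.single_eq_same] at h5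
  omega

/-- the members of height zero -/
theorem height_zero_iff (hM : IsPModular p M) {P : Subgroup G} {B : Set (IrrCharacter G)}
    (hB : IsPBlock M B) (hD : IsDefectGroup p M B P) {χ : IrrCharacter G} (hχ : χ ∈ B) :
    blockHeight p B (χ : G → ℂ) = 0 ↔
      (charDegree (χ : G → ℂ)).factorization p = P.index.factorization p := by
  have hPi : P.index ≠ 0 := Subgroup.index_ne_zero_of_finite
  rw [blockHeight_eq_zero_iff hχ]
  constructor
  · intro h
    apply le_antisymm _ (index_le_degree hM hB hD hχ)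
    obtain ⟨χ', hχ', h1⟩ := exists_vmin (p := p) ⟨χ, hχ⟩
    have h2 := h χ' hχ'
    have h3 : nuDeg p (χ' : G → ℂ) = vmin p B := h1
    rw [h3] at h2
    have hcard := defectGroup_card hM hB hD
    have h5 := congrArg (fun n => n.factorization p) P.card_mul_index
    rw [Nat.factorization_mul Nat.card_pos.ne' hPi, Finsupp.add_apply, hcard,
      hM.1.factorization_pow, Finsupp.single_eq_same, BlockDefect.blockDefect_eq] at h5
    have h6 := vmin_le_fact hM hB
    rw [nuDeg] at h2
    omega
  · intro h ψ hψ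
    rw [nuDeg, nuDeg, h]
    exact index_le_degree hM hB hD hψ

/-- Itô direction: a commutative normal defect group forces height zero. -/
theorem height_zero_of_comm (hM : IsPModular p M) {P : Subgroup G} [P.Normal] {B : Set (IrrCharacter G)}
    (hB : IsPBlock M B) (hD : IsDefectGroup p M B P) (hP : ∀ a ∈ P, ∀ c ∈ P, a * c = c * a)
    {χ : IrrCharacter G} (hχ : χ ∈ B) : blockHeight p B (χ : G → ℂ) = 0 := by
  rw [height_zero_iff hM hB hD hχ]
  apply le_antisymm _ (index_le_degree hM hB hD hχ)
  have h1 := CharDegrees.ito χ.2 P hP _ (charDegree_spec χ.2).1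
  exact (Nat.factorization_le_iff_dvd (charDegree_spec χ.2).2 Subgroup.index_ne_zero_of_finite).2 h1 p

theorem sup_centralizer_top (P : Subgroup G) [P.Normal] :
    P.subgroupOf (P ⊔ Subgroup.centralizer (P : Set G)) ⊔
      Subgroup.centralizer ((P.subgroupOf (P ⊔ Subgroup.centralizer (P : Set G)) :
        Subgroup ↥(P ⊔ Subgroup.centralizer (P : Set G))) : Set ↥(P ⊔ Subgroup.centralizer (P : Set G))) = ⊤ := by
  rw [eq_top_iff]
  intro x _
  obtain ⟨a, ha, c, hc, hx⟩ := Subgroup.mem_sup_of_normal_left.1 x.2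
  have h1 : x = ⟨a, Subgroup.mem_sup_left ha⟩ * ⟨c, Subgroup.mem_sup_right hc⟩ := Subtype.ext hx.symm
  rw [h1]
  apply Subgroup.mul_mem_sup
  · exact ha
  · rw [Subgroup.mem_centralizer_iff]
    intro y hy
    exact Subtype.ext (Subgroup.mem_centralizer_iff.1 hc (y : G) hy)

section nat

variable {N : Subgroup G} [hN : N.Normal] [Fintype N]

/-- Clifford degree formula, with natural numbers -/
theorem degree_nat [Fintype G] (χ : IrrCharacter G) (θ : IrrCharacter N)
    (h : classInner (fun n : N => (χ : G → ℂ) n) (θ : N → ℂ) ≠ 0) :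
    ∃ n : ℕ, n ≠ 0 ∧ classInner (fun n : N => (χ : G → ℂ) n) (θ : N → ℂ) = n ∧
      charDegree (χ : G → ℂ) = n * ((inertia N (θ : N → ℂ)).index * charDegree (θ : N → ℂ)) := by
  obtain ⟨n, hn⟩ := (χ.2.isCharacter.restrict N).classInner_nat θ.2.isCharacter
  refine ⟨n, ?_, hn, ?_⟩
  · rintro rfl
    exact h (by rw [hn, Nat.cast_zero])
  · have h1 := degree_clifford χ.2 θ.2 h
    rw [hn, (charDegree_spec χ.2).1, (charDegree_spec θ.2).1] at h1
    exact_mod_cast h1

/-- If the exponent of `p` in the degree of every character over `θ` is at least that of `|G : N| θ(1)`, then `p` does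
not divide the index of `N` in the inertia group. -/
theorem not_dvd_inertia [Fintype G] (hp : p.Prime) (θ : IrrCharacter N)
    (h : ∀ χ : IrrCharacter G, classInner (fun n : N => (χ : G → ℂ) n) (θ : N → ℂ) ≠ 0 →
      N.index.factorization p + (charDegree (θ : N → ℂ)).factorization p ≤
        (charDegree (χ : G → ℂ)).factorization p) :
    N.index.factorization p = (inertia N (θ : N → ℂ)).index.factorization p := by
  classical
  set I := inertia N (θ : N → ℂ) with hI
  have hNI : N ≤ I := le_inertia θ.2.isClassFunction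
  have hI0 : I.index ≠ 0 := Subgroup.index_ne_zero_of_finite
  have hr0 : N.relIndex I ≠ 0 := (Subgroup.index_ne_zero_of_finite : (N.subgroupOf I).index ≠ 0)
  have hidx : N.index = N.relIndex I * I.index := (Subgroup.relIndex_mul_index hNI).symm
  have hfac : N.index.factorization p = (N.relIndex I).factorization p + I.index.factorization p := by
    rw [hidx, Nat.factorization_mul hr0 hI0, Finsupp.add_apply]
  -- the norm of the induced character
  have h1 := classInner_indFun_self θ.2 (G := G)
  have hcard : Nat.card I = N.relIndex I * Nat.card N := by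
    have := Subgroup.card_mul_index (N.subgroupOf I)
    rw [Nat.card_congr (Subgroup.subgroupOfEquivOfLe hNI).toEquiv] at this
    rw [← this, mul_comm]
    rfl
  have hN0 : (Nat.card N : ℂ) ≠ 0 := by exact_mod_cast Nat.card_pos.ne'
  have h2 : classInner (indFun N (θ : N → ℂ)) (indFun N (θ : N → ℂ)) = (N.relIndex I : ℂ) := by
    rw [← hI, hcard, Nat.cast_mul, mul_comm (N.relIndex I : ℂ)] at h1
    exact mul_left_cancel₀ hN0 h1
  rw [(IndFun.indFun_isClassFunction N (θ : N → ℂ)).classInner_eq_sum] at h2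
  have h3 : ∀ χ : IrrCharacter G, ∃ m : ℕ, classInner (indFun N (θ : N → ℂ)) (χ : G → ℂ) = m ∧
      p ^ (N.relIndex I).factorization p ∣ m := by
    intro χ
    by_cases h4 : classInner (fun n : N => (χ : G → ℂ) n) (θ : N → ℂ) = 0
    · refine ⟨0, ?_, dvd_zero _⟩
      rw [IndFun.frobenius_reciprocity N _ _ χ.2.isClassFunction, ← conj_classInner, h4]
      simp
    · obtain ⟨n, hn0, hn, hdeg⟩ := degree_nat χ θ h4
      refine ⟨n, ?_, ?_⟩
      · rw [IndFun.frobenius_reciprocity N _ _ χ.2.isClassFunction, ← conj_classInner, hn]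
        simp
      · have h5 := h χ h4
        rw [hdeg, Nat.factorization_mul hn0 (mul_ne_zero hI0 (charDegree_spec θ.2).2),
          Nat.factorization_mul hI0 (charDegree_spec θ.2).2, Finsupp.add_apply, Finsupp.add_apply] at h5
        rw [hp.pow_dvd_iff_le_factorization hn0]
        omega
  choose m hm hmd using h3
  have h4 : ∑ χ : IrrCharacter G, m χ * m χ = N.relIndex I := by
    have h5 : ((∑ χ : IrrCharacter G, m χ * m χ : ℕ) : ℂ) = (N.relIndex I : ℂ) := by
      rw [← h2]
      push_cast
      refine Finset.sum_congr rfl fun χ _ => ?_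
      rw [hm]
      simp
    exact_mod_cast h5
  have h5 : p ^ (2 * (N.relIndex I).factorization p) ∣ N.relIndex I := by
    have h6 : p ^ (2 * (N.relIndex I).factorization p) ∣ ∑ χ : IrrCharacter G, m χ * m χ := by
      rw [two_mul, pow_add]
      exact Finset.dvd_sum fun χ _ => mul_dvd_mul (hmd χ) (hmd χ)
    rwa [h4] at h6
  rw [hp.pow_dvd_iff_le_factorization hr0] at h5
  omega

end nat

/-- the other direction, abstract form -/
theorem comm_aux [Fintype G] (hM : IsPModular p M) {P L : Subgroup G} [hPn : P.Normal] [hLn : L.Normal]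
    [Fintype L] (hPL : P ≤ L)
    (hsup : P.subgroupOf L ⊔ Subgroup.centralizer ((P.subgroupOf L : Subgroup L) : Set L) = ⊤)
    {B : Set (IrrCharacter G)} (hB : IsPBlock M B) (hD : IsDefectGroup p M B P)
    (hh : ∀ χ ∈ B, blockHeight p B (χ : G → ℂ) = 0) {b : Set (IrrCharacter L)} (hb : IsPBlock M b)
    (hbD : IsDefectGroup p M b (P.subgroupOf L))
    (hover : ∀ χ : IrrCharacter G, ∀ θ ∈ b, classInner (fun l : L => (χ : G → ℂ) l) (θ : L → ℂ) ≠ 0 → χ ∈ B) :
    ∀ a ∈ P, ∀ c ∈ P, a * c = c * a := by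
  classical
  haveI := isPrime hM
  haveI : Fact p.Prime := ⟨hM.1⟩
  have hPp := defectGroup_isPGroup hD
  have hP' : IsPGroup p (P.subgroupOf L) := defectGroup_isPGroup hbD
  obtain ⟨θ, hθ, hθP⟩ := BlockNormP.exists_trivial hM hP' (unionOfBlocks_of_isPBlock hb) (isPBlock_nonempty hb)
  have hθdeg := degree_eq hM hb hbD hθ hθP
  obtain ⟨e, f, he⟩ := exists_isRegExp p hM.1 L
  -- indices
  have hPidx : P.index.factorization p = (P.subgroupOf L).index.factorization p + L.index.factorization p := by
    have h1 : P.index = (P.subgroupOf L).index * L.index := (Subgroup.relIndex_mul_index hPL).symm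
    rw [h1, Nat.factorization_mul Subgroup.index_ne_zero_of_finite Subgroup.index_ne_zero_of_finite,
      Finsupp.add_apply]
  -- degrees in `B`
  have hdegB : ∀ χ ∈ B, (charDegree (χ : G → ℂ)).factorization p = P.index.factorization p := fun χ hχ =>
    (height_zero_iff hM hB hD hχ).1 (hh χ hχ)
  -- the inertial index
  have hT : L.index.factorization p = (inertia L (θ : L → ℂ)).index.factorization p := by
    apply not_dvd_inertia hM.1
    intro χ hχ
    rw [hdegB χ (hover χ θ hθ hχ), hPidx, hθdeg, add_comm]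
  -- stabilizers of the other members
  have hle : ∀ η ∈ b, inertia L (η : L → ℂ) ≤ inertia L (θ : L → ℂ) := by
    intro η hη g hg
    rw [mem_inertia] at hg ⊢
    have h1 := sameBlock_cj (N := L) (sameBlock_of_mem hb hη hθ) g
    rw [hg] at h1
    have h2 : (⟨cj L g θ, isIrrCharacter_cj θ.2 g⟩ : IrrCharacter L) ∈ b := mem_of_sameBlock hb hη h1
    have h3 := trivial_unique hM hP' hsup hb hbD hθ hθP h2 (by
      intro x hx
      show cj L g (θ : L → ℂ) x = cj L g (θ : L → ℂ) 1
      rw [cj_apply, cj_apply]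
      rw [hθP ⟨g * x * g⁻¹, _⟩ (hPn.conj_mem (x : G) hx g)]
      have h5 : (⟨g * ((1 : L) : G) * g⁻¹, hLn.conj_mem ((1 : L) : G) (1 : L).2 g⟩ : L) = 1 := by
        apply Subtype.ext
        show g * (1 : G) * g⁻¹ = 1
        group
      rw [h5])
    exact congrArg Subtype.val h3
  -- all characters of `P` are linear
  have hlin : ∀ μ : P.subgroupOf L → ℂ, IsIrrCharacter (P.subgroupOf L) μ → μ 1 = 1 := by
    intro μ hμ
    set η := irrOf hM hP' hsup hb hbD hθ hθP he ⟨μ, hμ⟩ with hη
    have hηb : η ∈ b := irrOf_mem hM hP' hsup hb hbD hθ hθP he ⟨μ, hμ⟩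
    have hη1 : (η : L → ℂ) 1 = μ 1 * (θ : L → ℂ) 1 := chi_one he μ
    have hηdeg : charDegree (η : L → ℂ) = charDegree μ * charDegree (θ : L → ℂ) := by
      rw [(charDegree_spec η.2).1, (charDegree_spec hμ).1, (charDegree_spec θ.2).1] at hη1
      exact_mod_cast hη1
    obtain ⟨χ, hχ⟩ := exists_above (G := G) η
    obtain ⟨n, hn0, -, hn⟩ := degree_nat χ η hχ
    have h1 := hdegB χ (hover χ η hηb hχ)
    have hI0 : (inertia L (η : L → ℂ)).index ≠ 0 := Subgroup.index_ne_zero_of_finite
    have h2 : (inertia L (θ : L → ℂ)).index.factorization p ≤ (inertia L (η : L → ℂ)).index.factorization p :=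
      (Nat.factorization_le_iff_dvd Subgroup.index_ne_zero_of_finite hI0).2
        (Subgroup.index_dvd_of_le (hle η hηb)) p
    have hμ0 := (charDegree_spec hμ).2
    have hθ0 := (charDegree_spec θ.2).2
    rw [hn, hηdeg, Nat.factorization_mul hn0 (mul_ne_zero hI0 (mul_ne_zero hμ0 hθ0)),
      Nat.factorization_mul hI0 (mul_ne_zero hμ0 hθ0), Nat.factorization_mul hμ0 hθ0,
      Finsupp.add_apply, Finsupp.add_apply, Finsupp.add_apply, hPidx, hθdeg] at h1
    have h3 : (charDegree μ).factorization p = 0 := by omega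
    have h4 : charDegree μ ∣ Nat.card (P.subgroupOf L) := BlockDeg.charDegree_dvd_card hμ
    obtain ⟨k, hk⟩ := (IsPGroup.iff_card.1 hP')
    rw [hk] at h4
    obtain ⟨j, -, hj⟩ := (Nat.dvd_prime_pow hM.1).1 h4
    rw [hj, hM.1.factorization_pow, Finsupp.single_eq_same] at h3
    rw [(charDegree_spec hμ).1, hj, h3, pow_zero, Nat.cast_one]
  intro a ha c hc
  have h1 := comm_of_forall_irr_linear hlin ⟨⟨a, hPL ha⟩, ha⟩ ⟨⟨c, hPL hc⟩, hc⟩
  exact congrArg (fun x : P.subgroupOf L => ((x : L) : G)) h1

/-- Reynolds: a block with a normal defect group all whose members have height zero has a commutative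
defect group. -/
theorem comm_of_height_zero [Fintype G] (hM : IsPModular p M) {P : Subgroup G} [hPn : P.Normal]
    {B : Set (IrrCharacter G)} (hB : IsPBlock M B) (hD : IsDefectGroup p M B P)
    (hh : ∀ χ ∈ B, blockHeight p B (χ : G → ℂ) = 0) : ∀ a ∈ P, ∀ c ∈ P, a * c = c * a := by
  classical
  haveI := isPrime hM
  haveI : Fact p.Prime := ⟨hM.1⟩
  haveI := Fintype.ofFinite ↥(P ⊔ Subgroup.centralizer (P : Set G))
  obtain ⟨⟨b, hbD, hbB⟩, -⟩ := Cfsg.Agent.S0973.result p M hM B hB P hD
  apply comm_aux hM (L := P ⊔ Subgroup.centralizer (P : Set G)) le_sup_left (sup_centralizer_top P) hB hD hh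
    hbB.1 hbD
  intro χ θ hθ h
  have h1 := (Cfsg.Agent.S0971.result p M hM P (defectGroup_isPGroup hD) b hbB.1).2 (blockOf M (χ : G → ℂ))
    (isPBlock_blockOf χ) ⟨χ, mem_blockOf_self χ, θ, hθ, h⟩
  rw [BlockInd.induced_unique hbB h1]
  exact mem_blockOf_self χ

end Cfsg.Agent.Lib.H16Reynolds
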