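import Cfsg.Agent.S4714
import Cfsg.Agent.S0968
import Cfsg.Agent.S0969
import Cfsg.Agent.Lib.H16CD
import Cfsg.Agent.Lib.BlockPC
import Cfsg.Agent.Lib.DegRatio
import Cfsg.Agent.Lib.CliffordCorr
import Cfsg.Agent.Lib.CharDegrees
import Cfsg.Agent.Lib.BlockCentral
import Cfsg.Agent.Lib.BlockSection
import Cfsg.Agent.Lib.Contrib2
import Cfsg.Agent.Lib.CycAvg
import Cfsg.Agent.S0909

/-!
# Blocks in which all characters have the same degree (helper16)
-/

set_option autoImplicit false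
set_option linter.all false

namespace Cfsg.Agent.Lib.H16SD

open Cfsg Cfsg.Agent.Lib Cfsg.Agent.Lib.BlockRing Cfsg.Agent.Lib.BlockGA Cfsg.Agent.Lib.BlockIdem
  Cfsg.Agent.Lib.BlockDefect Cfsg.Agent.Lib.CharBasic Cfsg.Agent.Lib.BlockDeg Cfsg.Agent.Lib.PPart
  Cfsg.Agent.Lib.Clifford
open scoped ComplexConjugate

universe u

variable {G : Type u} [Group G] [Finite G] {p : ℕ} {M : Ideal AlgInt}

/-- if the restriction to `V` is a multiple of a linear character then `V` acts by scalars -/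
theorem scalar_mul {V : Subgroup G} {χ : G → ℂ} (hχ : IsCharacter G χ) {lam : V → ℂ}
    (hlam : IsCharacter V lam) (h1 : lam 1 = 1) (h : ∀ v : V, χ (v : G) = χ 1 * lam v) (v : V) (g : G) :
    χ ((v : G) * g) = lam v * χ g := by
  obtain ⟨m, ρ, rfl⟩ := hχ
  obtain ⟨μ, hμ⟩ := hlam.exists_hom h1
  let σ : Representation ℂ V (Fin m → ℂ) :=
    { toFun := fun v => ((μ v⁻¹ : ℂˣ) : ℂ) • ρ (v : G)
      map_one' := by simp
      map_mul' := fun a b => by
        rw [mul_inv_rev, map_mul μ, Subgroup.coe_mul, map_mul ρ, Units.val_mul, smul_mul_smul_comm,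
          mul_comm ((μ b⁻¹ : ℂˣ) : ℂ)] }
  have hσ : ∀ v : V, σ v = ((μ v⁻¹ : ℂˣ) : ℂ) • ρ (v : G) := fun _ => rfl
  have hc : ∀ v : V, σ.character v = σ.character 1 := by
    intro v
    have e1 : ∀ w : V, σ.character w = ((μ w⁻¹ : ℂˣ) : ℂ) * ρ.character (w : G) := by
      intro w
      show LinearMap.trace ℂ _ (σ w) = _
      rw [hσ, map_smul, smul_eq_mul]
      rfl
    rw [e1, e1, h v, h 1, hμ v, hμ 1]
    simp
    ring_nf
    have : ((μ v : ℂˣ) : ℂ) ≠ 0 := Units.ne_zero _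
    field_simp
  have h3 : ρ (v : G) = ((μ v : ℂˣ) : ℂ) • (1 : (Fin m → ℂ) →ₗ[ℂ] (Fin m → ℂ)) := by
    ext1 x
    have h4 := acts_trivially_of_character_eq σ ⊤ (fun n _ => hc n) v trivial
    have h5 : σ v = 1 := LinearMap.ext h4
    rw [hσ] at h5
    have h6 : ((μ v : ℂˣ) : ℂ) • (((μ v⁻¹ : ℂˣ) : ℂ) • ρ (v : G)) = ((μ v : ℂˣ) : ℂ) • 1 := by rw [h5]
    rw [smul_smul] at h6
    simp only [map_inv, Units.val_inv_eq_inv_val] at h6
    rw [mul_inv_cancel₀ (Units.ne_zero _), one_smul] at h6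
    rw [h6]
  show LinearMap.trace ℂ _ (ρ ((v : G) * g)) = _ * LinearMap.trace ℂ _ (ρ g)
  rw [map_mul, h3, smul_mul_assoc, one_mul, map_smul, smul_eq_mul, hμ]

/-- the case of a central `p`-subgroup -/
theorem central_case (hM : IsPModular p M) {Z : Subgroup G} (hZ : IsPGroup p Z)
    (hZc : Z ≤ Subgroup.center G) {χ : G → ℂ} (hχ : IsIrrCharacter G χ)
    (hdeg : (charDegree χ).factorization p = Z.index.factorization p) :
    (∀ g x : G, IsPPart p g x → x ∉ Z → χ g = 0) ∧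
    ∃ χ' : G → ℂ, IsIrrCharacter G χ' ∧ (∀ z ∈ Z, ∀ g : G, χ' (z * g) = χ' g) ∧
      ∀ x : G, ¬ p ∣ orderOf x → χ' x = χ x := by
  haveI := Fact.mk hM.1
  haveI := isPrime hM
  have h := Cfsg.Agent.S0969.result p M hM Z hZ hZc ⟨χ, hχ⟩ hdeg
  refine ⟨h.2, ?_⟩
  have hsup : Z ⊔ Subgroup.centralizer (Z : Set G) = ⊤ := by
    rw [eq_top_iff]
    refine le_trans ?_ le_sup_right
    intro g _
    rw [Subgroup.mem_centralizer_iff]
    intro z hz
    exact (Subgroup.mem_center_iff.1 (hZc hz) g).symm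
  have hB : IsPBlock M (blockOf M χ) := ⟨⟨χ, hχ⟩, rfl⟩
  obtain ⟨⟨θ, ⟨hθ, hθZ⟩, -⟩, -, -⟩ := Cfsg.Agent.S0968.result p M hM Z hZ hsup (blockOf M χ) hB h.1
  obtain ⟨h1, -⟩ := Cfsg.Agent.S4714.result p M hM Z hZ hsup (blockOf M χ) hB h.1 θ hθ hθZ
  have hmem : (⟨χ, hχ⟩ : IrrCharacter G) ∈ blockOf M χ := sameBlock_refl _
  obtain ⟨ζ, hζ, -⟩ := (h1 ⟨χ, hχ⟩).1 hmem
  have hζ1 : (ζ : Z → ℂ) 1 = 1 := by
    apply ζ.2.one_eq_one_of_comm
    intro a b
    apply Subtype.ext
    exact (Subgroup.mem_center_iff.1 (hZc b.2) a)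
  refine ⟨θ, θ.2, ?_, ?_⟩
  · intro z hz g
    have h2 := θ.2.isClassFunction
    rw [h2.mul_comm]
    exact θ.2.isCharacter.mul_eq_of_const Z hθZ g z hz
  · intro x hx
    have h3 := hζ 1 x hx (Commute.one_left x)
    rw [hζ1, one_mul] at h3
    simpa using h3.symm

/-- `p`-parts go to `p`-parts in quotients -/
theorem isPPart_mk (hp : p.Prime) (N : Subgroup G) [N.Normal] {g x : G} (h : IsPPart p g x) :
    IsPPart p (g : G ⧸ N) (x : G ⧸ N) := by
  obtain ⟨y, hxy, hc, ⟨k, hk⟩, hy⟩ := h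
  refine ⟨(y : G ⧸ N), by rw [← hxy]; rfl, ?_, ?_, ?_⟩
  · show (x : G ⧸ N) * (y : G ⧸ N) = (y : G ⧸ N) * (x : G ⧸ N)
    rw [← QuotientGroup.mk_mul, ← QuotientGroup.mk_mul, hc.eq]
  · have h1 : orderOf (x : G ⧸ N) ∣ p ^ k := by
      rw [← hk]
      exact orderOf_map_dvd (QuotientGroup.mk' N) x
    obtain ⟨j, -, hj⟩ := (Nat.dvd_prime_pow hp).1 h1
    exact ⟨j, hj⟩
  · intro h1
    exact hy (h1.trans (orderOf_map_dvd (QuotientGroup.mk' N) y))

/-- the case in which the normal `p`-subgroup acts by scalars -/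
theorem scalar_case (hM : IsPModular p M) {V : Subgroup G} [hVn : V.Normal] (hV : IsPGroup p V)
    {χ : G → ℂ} (hχ : IsIrrCharacter G χ) {lam : V → ℂ}
    (hlam : IsCharacter V lam) (h1 : lam 1 = 1) (h : ∀ v : V, χ (v : G) = χ 1 * lam v)
    (hdeg : (charDegree χ).factorization p = V.index.factorization p) :
    (∀ g x : G, IsPPart p g x → x ∉ V → χ g = 0) ∧
    ∃ χ' : G → ℂ, IsIrrCharacter G χ' ∧ (∀ z ∈ V, ∀ g : G, χ' (z * g) = χ' g) ∧
      ∀ x : G, ¬ p ∣ orderOf x → χ' x = χ x := by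
  have hsm := scalar_mul hχ.isCharacter hlam h1 h
  have h10 := hχ.one_ne_zero
  have hlm : ∀ a b : V, lam (a * b) = lam a * lam b := hlam.map_mul_of_linear h1
  have hl0 : ∀ a : V, lam a ≠ 0 := hlam.ne_zero_of_linear h1
  have hl1 : ∀ a : V, χ (a : G) = χ 1 ↔ lam a = 1 := by
    intro a
    rw [h a]
    constructor
    · intro h2
      exact mul_left_cancel₀ h10 (by rw [h2, mul_one])
    · intro h2
      rw [h2, mul_one]
  have hlc : ∀ (g : G) (a : V), lam ⟨g * a * g⁻¹, hVn.conj_mem a a.2 g⟩ = lam a := by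
    intro g a
    have h2 := h ⟨g * a * g⁻¹, hVn.conj_mem a a.2 g⟩
    have h3 := hχ.isClassFunction (a : G) g
    have h4 : χ (g * (a : G) * g⁻¹) = χ 1 * lam a := by
      rw [← h a]; exact h3
    exact mul_left_cancel₀ h10 (by rw [← h2, ← h4])
  let L : Subgroup G :=
    { carrier := {x | x ∈ V ∧ χ x = χ 1}
      one_mem' := ⟨V.one_mem, rfl⟩
      mul_mem' := by
        rintro a b ⟨ha, ha1⟩ ⟨hb, hb1⟩
        refine ⟨V.mul_mem ha hb, ?_⟩
        rw [hsm ⟨a, ha⟩ b, (hl1 ⟨a, ha⟩).1 ha1, one_mul, hb1]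
      inv_mem' := by
        rintro a ⟨ha, ha1⟩
        refine ⟨V.inv_mem ha, ?_⟩
        have h2 := hsm ⟨a, ha⟩ a⁻¹
        rw [(hl1 ⟨a, ha⟩).1 ha1, one_mul] at h2
        rw [← h2]
        simp }
  have hL : ∀ x, x ∈ L ↔ x ∈ V ∧ χ x = χ 1 := fun x => Iff.rfl
  haveI hLn : L.Normal := by
    refine ⟨fun a ha g => ?_⟩
    refine ⟨hVn.conj_mem a ha.1 g, ?_⟩
    rw [hχ.isClassFunction a g]
    exact ha.2
  obtain ⟨ψ, hψ, hψe⟩ := hχ.deflate L (fun a ha => ha.2)
  have hLV : L ≤ V := fun x hx => hx.1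
  have hZ : IsPGroup p (V.map (QuotientGroup.mk' L)) := hV.map _
  have hZc : V.map (QuotientGroup.mk' L) ≤ Subgroup.center (G ⧸ L) := by
    rintro _ ⟨v, hv, rfl⟩
    rw [Subgroup.mem_center_iff]
    intro g
    obtain ⟨g, rfl⟩ := QuotientGroup.mk_surjective g
    show (g : G ⧸ L) * (v : G ⧸ L) = (v : G ⧸ L) * (g : G ⧸ L)
    rw [← QuotientGroup.mk_mul, ← QuotientGroup.mk_mul, eq_comm, QuotientGroup.eq]
    have e1 : (v * g)⁻¹ * (g * v) = g⁻¹ * v⁻¹ * g⁻¹⁻¹ * v := by group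
    rw [e1]
    refine ⟨V.mul_mem (hVn.conj_mem _ (V.inv_mem hv) _) hv, ?_⟩
    have h2 := hsm ⟨g⁻¹ * v⁻¹ * g⁻¹⁻¹, hVn.conj_mem _ (V.inv_mem hv) _⟩ v
    have h3 := hlc g⁻¹ ⟨v⁻¹, V.inv_mem hv⟩
    rw [h2, h3, ← hsm ⟨v⁻¹, V.inv_mem hv⟩ v]
    simp
  have hidx : (V.map (QuotientGroup.mk' L)).index = V.index :=
    Subgroup.index_map_eq V (QuotientGroup.mk'_surjective L) (by rw [QuotientGroup.ker_mk']; exact hLV)
  have hdeg' : charDegree ψ = charDegree χ := by
    rw [charDegree, charDegree, ← hψe 1]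
    rfl
  obtain ⟨h2, χ', hχ', h3, h4⟩ := central_case hM hZ hZc hψ (by rw [hdeg', hidx, hdeg])
  refine ⟨?_, fun g => χ' (g : G ⧸ L), hχ'.inflate L, ?_, ?_⟩
  · intro g x hx hxV
    rw [← hψe g]
    refine h2 _ _ (isPPart_mk hM.1 L hx) ?_
    rintro ⟨v, hv, hvx⟩
    apply hxV
    have h5 : (v : G ⧸ L) = (x : G ⧸ L) := hvx
    rw [QuotientGroup.eq] at h5
    have h6 := V.mul_mem hv (hLV h5)
    simpa using h6
  · intro z hz g
    exact h3 (z : G ⧸ L) ⟨z, hz, rfl⟩ (g : G ⧸ L)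
  · intro x hx
    show χ' (x : G ⧸ L) = χ x
    rw [h4 (x : G ⧸ L) (fun h5 => hx (h5.trans (orderOf_map_dvd (QuotientGroup.mk' L) x))), hψe]

/-- characters of degree divisible by `|G : V|_p` with `V` in the kernel vanish off the elements
with `p`-part in `V` -/
theorem vanish_of_ker (hM : IsPModular p M) {V : Subgroup G} [hVn : V.Normal] (hV : IsPGroup p V)
    {χ : G → ℂ} (hχ : IsIrrCharacter G χ) (h : ∀ v ∈ V, χ v = χ 1)
    (hdeg : (charDegree χ).factorization p = V.index.factorization p) {g x : G}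
    (hx : IsPPart p g x) (hxV : x ∉ V) : χ g = 0 := by
  refine (scalar_case hM hV hχ (lam := fun _ => 1) isIrrCharacter_fun_one.isCharacter rfl ?_ hdeg).1 g x hx hxV
  intro v
  rw [h v v.2, mul_one]

theorem extendByZero_congr (T : Subgroup G) {θ φ : T → ℂ} {a b : G} (hab : a ∈ T ↔ b ∈ T)
    (h : ∀ (ha : a ∈ T) (hb : b ∈ T), θ ⟨a, ha⟩ = φ ⟨b, hb⟩) :
    extendByZero T θ a = extendByZero T φ b := by
  by_cases ha : a ∈ T
  · rw [IndFun.extendByZero_mem _ _ ha, IndFun.extendByZero_mem _ _ (hab.1 ha)]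
    exact h ha _
  · rw [IndFun.extendByZero_not_mem _ _ ha, IndFun.extendByZero_not_mem _ _ (fun h => ha (hab.2 h))]

/-- over an abelian normal `p`-subgroup, a character of degree divisible by `|G : V|_p` agrees on
`p`-regular elements with a character trivial on `V` -/
theorem exists_trivial (hM : IsPModular p M) {V : Subgroup G} [hVn : V.Normal] (hV : IsPGroup p V)
    (hab : ∀ a ∈ V, ∀ b ∈ V, a * b = b * a) {χ : G → ℂ} (hχ : IsIrrCharacter G χ)
    (hdeg : (charDegree χ).factorization p = V.index.factorization p) :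
    ∃ χ' : G → ℂ, IsCharacter G χ' ∧ (∀ z ∈ V, ∀ g : G, χ' (z * g) = χ' g) ∧
      ∀ x : G, ¬ p ∣ orderOf x → χ' x = χ x := by
  classical
  haveI := Fintype.ofFinite G
  haveI := Fintype.ofFinite V
  obtain ⟨lam, hlam⟩ := Clifford.exists_constituent (hχ.isCharacter.restrict V) (by
    intro h0
    exact hχ.one_ne_zero (congrFun h0 (1 : V)))
  have hl1 : (lam : V → ℂ) 1 = 1 :=
    lam.2.one_eq_one_of_comm fun a b => Subtype.ext (hab a a.2 b b.2)
  set T := inertia V (lam : V → ℂ) with hTdef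
  have hVT : V ≤ T := le_inertia lam.2.isClassFunction
  have hT : ∀ g : G, g ∈ T ↔ cj V g (lam : V → ℂ) = lam := fun g => mem_inertia
  obtain ⟨ψ, hψ, hind, hm⟩ := CliffordCorr.corr_surj hVT lam.2 hT hχ hlam
  have hm0 : classInner (CliffordCorr.resTo V T hVT ψ) (lam : V → ℂ) ≠ 0 := by rw [hm]; exact hlam
  have hres := CliffordCorr.resTo_eq_smul hVT hψ lam.2 (fun g hg => (hT g).1 hg) hm0
  set c := classInner (CliffordCorr.resTo V T hVT ψ) (lam : V → ℂ) with hc
  have hψv : ∀ v : V, ψ ⟨(v : G), hVT v.2⟩ = c * (lam : V → ℂ) v := fun v => congrFun hres v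
  have hψ1 : ψ 1 = c := by
    have := hψv 1
    rw [hl1, mul_one] at this
    exact this
  haveI hVT' : (V.subgroupOf T).Normal := hVn.subgroupOf T
  have hVp : IsPGroup p (V.subgroupOf T) := hV.of_equiv (CliffordCorr.subEquiv V T hVT).symm
  have hind1 := IndFun.indFun_one T ψ
  rw [hind] at hind1
  have hdegs : charDegree χ = T.index * charDegree ψ := by
    have h1 := charDegree_cast hχ.isCharacter
    have h2 := charDegree_cast hψ.isCharacter
    rw [← h1, ← h2] at hind1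
    exact_mod_cast hind1
  have hidx : V.index = (V.subgroupOf T).index * T.index :=
    (Subgroup.relIndex_mul_index hVT).symm
  have hdeg' : (charDegree ψ).factorization p = (V.subgroupOf T).index.factorization p := by
    rw [hdegs, hidx, Nat.factorization_mul Subgroup.index_ne_zero_of_finite (charDegree_pos hψ).ne',
      Nat.factorization_mul Subgroup.index_ne_zero_of_finite Subgroup.index_ne_zero_of_finite] at hdeg
    simp only [Finsupp.add_apply] at hdeg
    omega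
  obtain ⟨-, ψ', hψ', h3, h4⟩ := scalar_case hM hVp hψ
    (lam := fun x => (lam : V → ℂ) (CliffordCorr.subEquiv V T hVT x))
    (lam.2.isCharacter.comp (CliffordCorr.subEquiv V T hVT).toMonoidHom) (by simpa using hl1)
    (by
      intro v
      rw [hψ1]
      exact hψv (CliffordCorr.subEquiv V T hVT v)) hdeg'
  refine ⟨indFun T ψ', Clifford.isCharacter_indFun T hψ'.isCharacter, ?_, ?_⟩
  · intro z hz g
    rw [IndFun.indFun_apply, IndFun.indFun_apply]
    congr 1
    refine Finset.sum_congr rfl fun x _ => ?_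
    have hz' : x⁻¹ * z * x ∈ V := by
      have := hVn.conj_mem z hz x⁻¹
      simpa using this
    have e1 : x⁻¹ * (z * g) * x = (x⁻¹ * z * x) * (x⁻¹ * g * x) := by group
    apply extendByZero_congr
    · rw [e1]
      exact T.mul_mem_cancel_left (hVT hz')
    · intro ha hb
      have e2 : (⟨x⁻¹ * (z * g) * x, ha⟩ : T) = ⟨x⁻¹ * z * x, hVT hz'⟩ * ⟨x⁻¹ * g * x, hb⟩ :=
        Subtype.ext e1
      rw [e2]
      exact h3 _ hz' _
  · intro x hx
    rw [← hind, IndFun.indFun_apply, IndFun.indFun_apply]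
    congr 1
    refine Finset.sum_congr rfl fun y _ => ?_
    apply extendByZero_congr _ Iff.rfl
    intro ha hb
    apply h4
    rw [Subgroup.orderOf_mk]
    have e3 : orderOf (y⁻¹ * x * y) = orderOf x := by
      have := (MulAut.conj y⁻¹).orderOf_eq x
      simpa using this
    rw [e3]
    exact hx

/-- `g ↦ χ(g_{p'})` is a generalized character -/
theorem isGeneralized_reg (hM : IsPModular p M) {e f : ℕ} (he : IsRegExp p G e f) {χ : G → ℂ}
    (hχ : IsCharacter G χ) : IsGeneralizedCharacter G (fun g => χ (g ^ e)) := by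
  classical
  haveI : Fact p.Prime := ⟨hM.1⟩
  haveI := Fintype.ofFinite G
  apply BrauerInd.isGeneralizedCharacter_of_restrict_elementary
  · intro g h
    simp only
    rw [conj_pow, hχ.isClassFunction]
  intro E q hq hEq
  have hnil := MGroups.isNilpotent_of_isElementary hq hEq
  obtain ⟨πe, πf, hπe, hπf⟩ := BlockCentral.exists_homs hM.1 he E hnil
  have h1 : (fun x : E => χ ((x : G) ^ e)) = fun x => χ ((E.subtype.comp πe) x) := by
    funext x
    show χ ((x : G) ^ e) = χ ((πe x : E) : G)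
    rw [hπe]
    rfl
  show IsGeneralizedCharacter E (fun x : E => χ ((x : G) ^ e))
  rw [h1]
  exact (hχ.comp (E.subtype.comp πe)).isGeneralized

/-- block components of class functions vanishing on `p`-regular elements vanish there -/
theorem block_component [Fintype G] (hM : IsPModular p M) {B : Set (IrrCharacter G)} (hB : IsPBlock M B)
    {f : G → ℂ} (h0 : ∀ x, ¬ p ∣ orderOf x → f x = 0) {x : G} (hx : ¬ p ∣ orderOf x) :
    ∑ η ∈ B.toFinite.toFinset, classInner f (η : G → ℂ) * (η : G → ℂ) x = 0 := by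
  classical
  simp only [classInner_def]
  have h1 : ∑ η ∈ B.toFinite.toFinset, (Nat.card G : ℂ)⁻¹ * (∑ g : G, f g * conj ((η : G → ℂ) g)) * (η : G → ℂ) x =
      (Nat.card G : ℂ)⁻¹ * ∑ g : G, f g * ∑ η ∈ B.toFinite.toFinset, (η : G → ℂ) x * conj ((η : G → ℂ) g) := by
    simp only [mul_assoc, ← Finset.mul_sum]
    congr 1
    simp only [Finset.mul_sum, Finset.sum_mul]
    rw [Finset.sum_comm]
    refine Finset.sum_congr rfl fun g _ => Finset.sum_congr rfl fun η _ => ?_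
    ring
  rw [h1]
  apply mul_eq_zero_of_right
  refine Finset.sum_eq_zero fun g _ => ?_
  by_cases hg : p ∣ orderOf g
  · have h2 := BlockOsima.weak_orthogonality hM hB hx hg
    rw [finsum_mem_eq_finite_toFinset_sum _ (Set.toFinite _)] at h2
    rw [h2, mul_zero]
  · rw [h0 g hg, zero_mul]

/-- the number of elements of `V` commuting with `x` -/
noncomputable def w (V : Subgroup G) (x : G) : ℕ := Nat.card {v : V // (v : G) * x = x * v}

theorem w_le (V : Subgroup G) (x : G) : w V x ≤ Nat.card V :=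
  Nat.card_le_card_of_injective _ Subtype.val_injective

theorem w_eq_iff (V : Subgroup G) (x : G) : w V x = Nat.card V ↔ ∀ v ∈ V, v * x = x * v := by
  classical
  haveI := Fintype.ofFinite V
  haveI := Fintype.ofFinite {v : V // (v : G) * x = x * v}
  constructor
  · intro h v hv
    have h1 : Function.Bijective (Subtype.val : {v : V // (v : G) * x = x * v} → V) := by
      rw [Fintype.bijective_iff_injective_and_card]
      refine ⟨Subtype.val_injective, ?_⟩
      rw [← Nat.card_eq_fintype_card, ← Nat.card_eq_fintype_card]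
      exact h
    obtain ⟨y, hy⟩ := h1.2 ⟨v, hv⟩
    have := y.2
    rw [hy] at this
    exact this
  · intro h
    exact Nat.card_congr (Equiv.subtypeUnivEquiv fun v => h v v.2)

theorem sum_sec [Fintype G] [hpf : Fact p.Prime] {e f : ℕ} (he : IsRegExp p G e f) (V : Subgroup G)
    [DecidablePred (· ∈ V)] (hV : IsPGroup p V) (F : G → ℂ) :
    ∑ g : G, (if g ^ f ∈ V then F (g ^ e) else 0) =
      ∑ x : G, (if p ∣ orderOf x then 0 else (w V x : ℂ) * F x) := by
  classical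
  haveI := Fintype.ofFinite V
  have h1 : ∀ x : G, (if p ∣ orderOf x then 0 else (w V x : ℂ) * F x) =
      ∑ v : V, if (¬ p ∣ orderOf x ∧ (v : G) * x = x * v) then F x else 0 := by
    intro x
    split_ifs with hx
    · exact (Finset.sum_eq_zero fun v _ => by rw [if_neg (fun h => h.1 hx)]).symm
    · rw [w, Nat.card_eq_fintype_card, Fintype.card_subtype, ← Finset.sum_filter, Finset.sum_const, nsmul_eq_mul]
      congr 3
      ext v
      simp [hx]
  rw [Finset.sum_congr rfl fun x _ => h1 x, ← Finset.sum_product', ← Finset.sum_filter, ← Finset.sum_filter]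
  refine Finset.sum_bij' (fun g hg => (g ^ e, (⟨g ^ f, (Finset.mem_filter.1 hg).2⟩ : V)))
    (fun y _ => y.1 * (y.2 : G)) ?_ ?_ ?_ ?_ ?_
  · intro g hg
    rw [Finset.mem_filter]
    refine ⟨Finset.mem_product.2 ⟨Finset.mem_univ _, Finset.mem_univ _⟩, he.reg g, ?_⟩
    exact (Commute.pow_pow_self g f e).eq
  · rintro ⟨x, v⟩ hy
    have hy' := (Finset.mem_filter.1 hy).2
    rw [Finset.mem_filter]
    refine ⟨Finset.mem_univ _, ?_⟩
    have h2 := he.eq_of_mul (g := x * (v : G)) (s := x) (u := v) rfl hy'.2.symm hy'.1 (by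
      obtain ⟨k, hk⟩ := (IsPGroup.iff_orderOf.1 hV) v
      exact ⟨k, by rw [Subgroup.orderOf_coe]; exact hk⟩)
    have h3 : (x * (v : G)) ^ f = v := h2.2
    show (x * (v : G)) ^ f ∈ V
    rw [h3]
    exact v.2
  · intro g hg
    exact he.mul_eq g
  · rintro ⟨x, v⟩ hy
    have hy' := (Finset.mem_filter.1 hy).2
    have h2 := he.eq_of_mul (g := x * (v : G)) (s := x) (u := v) rfl hy'.2.symm hy'.1 (by
      obtain ⟨k, hk⟩ := (IsPGroup.iff_orderOf.1 hV) v
      exact ⟨k, by rw [Subgroup.orderOf_coe]; exact hk⟩)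
    exact Prod.ext h2.1 (Subtype.ext h2.2)
  · intro g hg
    rfl

section same

variable {V : Subgroup G} [hVn : V.Normal] {B : Set (IrrCharacter G)} {n : ℕ}

omit [Finite G] in
theorem fs_mem {B : Set (IrrCharacter G)} [Finite G] (χ : IrrCharacter G) : χ ∈ B.toFinite.toFinset ↔ χ ∈ B := by simp

/-- the `p`-part of the degrees -/
theorem degree_val (hM : IsPModular p M) (hab : ∀ a ∈ V, ∀ b ∈ V, a * b = b * a)
    (hB : IsPBlock M B) (hD : IsDefectGroup p M B V) {χ : IrrCharacter G} (hχ : χ ∈ B) :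
    (charDegree (χ : G → ℂ)).factorization p = V.index.factorization p := by
  have hVi : V.index ≠ 0 := Subgroup.index_ne_zero_of_finite
  apply le_antisymm
  · have h1 := CharDegrees.ito χ.2 V hab _ (charDegree_cast_irr χ).symm
    exact (Nat.factorization_le_iff_dvd (charDegree_pos χ.2).ne' hVi).2 h1 p
  · have h2 := pow_dvd_degree hM hB hχ
    have h3 : (Nat.card G).factorization p - blockDefect p B ≤ (charDegree (χ : G → ℂ)).factorization p :=
      (hM.1.pow_dvd_iff_le_factorization (charDegree_spec χ.2).2).1 h2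
    have hcard := defectGroup_card hM hB hD
    have h5 := congrArg (fun n => n.factorization p) V.card_mul_index
    rw [Nat.factorization_mul Nat.card_pos.ne' hVi, Finsupp.add_apply, hcard,
      hM.1.factorization_pow, Finsupp.single_eq_same] at h5
    omega

/-- every member agrees on `p`-regular elements with a member trivial on `V` -/
theorem exists_trivial_mem (hM : IsPModular p M) (hV : IsPGroup p V)
    (hab : ∀ a ∈ V, ∀ b ∈ V, a * b = b * a) (hB : IsPBlock M B) (hD : IsDefectGroup p M B V)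
    (hn : ∀ χ ∈ B, charDegree (χ : G → ℂ) = n) {χ : IrrCharacter G} (hχ : χ ∈ B) :
    ∃ ρ ∈ B, (∀ v ∈ V, (ρ : G → ℂ) v = (ρ : G → ℂ) 1) ∧
      ∀ x : G, ¬ p ∣ orderOf x → (ρ : G → ℂ) x = (χ : G → ℂ) x := by
  classical
  haveI := Fintype.ofFinite G
  have h11 : ¬ p ∣ orderOf (1 : G) := by
    rw [orderOf_one]; exact hM.1.not_dvd_one
  obtain ⟨χ', hχ', h1, h2⟩ := exists_trivial hM hV hab χ.2 (degree_val hM hab hB hD hχ)
  have h3 := block_component hM hB (f := χ' - (χ : G → ℂ)) (fun x hx => by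
    rw [Pi.sub_apply, h2 x hx, sub_self]) h11
  have h4 : ∃ ρ ∈ B, classInner χ' (ρ : G → ℂ) ≠ 0 := by
    by_contra hno
    push Not at hno
    have h5 : ∑ η ∈ B.toFinite.toFinset, classInner (χ' - (χ : G → ℂ)) (η : G → ℂ) * (η : G → ℂ) 1 =
        - (χ : G → ℂ) 1 := by
      rw [Finset.sum_eq_single χ]
      · rw [classInner_sub_left, hno χ hχ, χ.2.classInner_self]
        ring
      · intro η hη hne
        rw [classInner_sub_left, hno η ((fs_mem η).1 hη), χ.2.classInner_eq_zero η.2 (fun h => hne (Subtype.ext h.symm))]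
        ring
      · intro h
        exact absurd ((fs_mem χ).2 hχ) h
    rw [h5] at h3
    exact χ.2.one_ne_zero (neg_eq_zero.1 h3)
  obtain ⟨ρ, hρ, h5⟩ := h4
  have h6 : χ' 1 = (n : ℂ) := by
    rw [h2 1 h11, ← hn χ hχ, charDegree_cast_irr]
  have h7 : (ρ : G → ℂ) 1 = (n : ℂ) := by rw [← hn ρ hρ, charDegree_cast_irr]
  have h8 := (Clifford.degree_le_of_constituent' hχ' ρ.2 h5 h6 h7).2 le_rfl
  refine ⟨ρ, hρ, ?_, ?_⟩
  · intro v hv
    have := h1 v hv 1
    rwa [mul_one, h8] at this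
  · intro x hx
    rw [← h2 x hx, h8]

/-- all members of the block agree on `p`-regular elements -/
theorem same_reg (hM : IsPModular p M) (hV : IsPGroup p V)
    (hab : ∀ a ∈ V, ∀ b ∈ V, a * b = b * a) (hB : IsPBlock M B) (hD : IsDefectGroup p M B V)
    (hn : ∀ χ ∈ B, charDegree (χ : G → ℂ) = n) :
    ∃ ρ ∈ B, (∀ v ∈ V, (ρ : G → ℂ) v = (ρ : G → ℂ) 1) ∧
      ∀ χ ∈ B, ∀ x : G, ¬ p ∣ orderOf x → (χ : G → ℂ) x = (ρ : G → ℂ) x := by
  classical
  haveI := isPrime hM
  haveI : Fact p.Prime := ⟨hM.1⟩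
  haveI := Fintype.ofFinite G
  obtain ⟨e, f, he⟩ := exists_isRegExp p hM.1 G
  have h0 : ∀ χ : IrrCharacter G, ∃ ρ : IrrCharacter G, χ ∈ B → (ρ ∈ B ∧ (∀ v ∈ V, (ρ : G → ℂ) v = (ρ : G → ℂ) 1) ∧
      ∀ x : G, ¬ p ∣ orderOf x → (ρ : G → ℂ) x = (χ : G → ℂ) x) := by
    intro χ
    by_cases hχ : χ ∈ B
    · obtain ⟨ρ, h1, h2⟩ := exists_trivial_mem hM hV hab hB hD hn hχ
      exact ⟨ρ, fun _ => ⟨h1, h2⟩⟩
    · exact ⟨χ, fun h => absurd h hχ⟩
  choose F hF using h0
  obtain ⟨χ0, hχ0⟩ := isPBlock_nonempty hB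
  set ρ0 := F χ0 with hρ0
  have hvan : ∀ χ ∈ B, ∀ g : G, g ^ f ∉ V → (F χ : G → ℂ) g = 0 := by
    intro χ hχ g hg
    refine vanish_of_ker hM hV (F χ).2 (hF χ hχ).2.1 (degree_val hM hab hB hD (hF χ hχ).1) (x := g ^ f) ?_ hg
    exact ⟨g ^ e, by rw [← pow_add, add_comm, he.pow_add], Commute.pow_pow_self g f e, he.sing g, he.reg g⟩
  have hval : ∀ χ ∈ B, ∀ g : G, g ^ f ∈ V → (F χ : G → ℂ) g = (χ : G → ℂ) (g ^ e) := by
    intro χ hχ g hg
    have h1 := (F χ).2.isCharacter.mul_eq_of_const V (hF χ hχ).2.1 (g ^ e) (g ^ f) hg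
    rw [he.mul_eq] at h1
    rw [h1]
    exact (hF χ hχ).2.2 _ (he.reg g)
  set S : Set (IrrCharacter G) := {χ | χ ∈ B ∧ F χ = ρ0} with hS
  have hSB : ∀ χ, χ ∈ S ↔ χ ∈ B ∧ F χ = ρ0 := fun _ => Iff.rfl
  have hsing : ∀ y : G, p ∣ orderOf y → ∑ χ ∈ S.toFinite.toFinset, conj ((χ : G → ℂ) y) = 0 := by
    intro y hy
    set Fn : G → ℂ := ∑ χ ∈ B.toFinite.toFinset, conj ((χ : G → ℂ) y) • (F χ : G → ℂ) with hFn
    have h1 : Fn = 0 := by
      funext g
      rw [hFn, Finset.sum_apply, Pi.zero_apply]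
      by_cases hg : g ^ f ∈ V
      · have h2 := BlockOsima.weak_orthogonality hM hB (he.reg g) hy
        rw [finsum_mem_eq_finite_toFinset_sum _ (Set.toFinite _)] at h2
        rw [← h2]
        refine Finset.sum_congr rfl fun χ hχ => ?_
        rw [Pi.smul_apply, smul_eq_mul, hval χ ((fs_mem χ).1 hχ) g hg, mul_comm]
      · refine Finset.sum_eq_zero fun χ hχ => ?_
        rw [Pi.smul_apply, hvan χ ((fs_mem χ).1 hχ) g hg, smul_zero]
    have h2 : classInner Fn (ρ0 : G → ℂ) = 0 := by rw [h1, classInner_zero_left]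
    rw [hFn, classInner_sum_left] at h2
    rw [← h2]
    have h3 : S.toFinite.toFinset = B.toFinite.toFinset.filter (fun χ => F χ = ρ0) := by
      ext χ
      rw [fs_mem, Finset.mem_filter, fs_mem]
      exact Iff.rfl
    rw [h3, Finset.sum_filter]
    refine Finset.sum_congr rfl fun χ _ => ?_
    rw [classInner_smul_left]
    split_ifs with h4
    · rw [h4, ρ0.2.classInner_self, mul_one]
    · rw [(F χ).2.classInner_eq_zero ρ0.2 (fun h => h4 (Subtype.ext h)), mul_zero]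
  have hχ0S : χ0 ∈ S := ⟨hχ0, rfl⟩
  have hreg : ∀ χ ∈ S, ∀ x : G, ¬ p ∣ orderOf x → (χ : G → ℂ) x = (ρ0 : G → ℂ) x := by
    intro χ hχ x hx
    rw [← (hF χ hχ.1).2.2 x hx, hχ.2]
  have hdeg : ∀ χ ∈ S, (χ : G → ℂ) 1 = (n : ℂ) := by
    intro χ hχ
    rw [← hn χ hχ.1, charDegree_cast_irr]
  set m := S.toFinite.toFinset.card with hm
  have hm0 : m ≠ 0 := by
    rw [hm]
    exact Finset.card_ne_zero_of_mem ((fs_mem χ0).2 hχ0S)
  have hn0 : n ≠ 0 := by
    rw [← hn χ0 hχ0]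
    exact (charDegree_pos χ0.2).ne'
  set Φ : G → ℂ := ∑ χ ∈ S.toFinite.toFinset, (χ : G → ℂ) with hΦ
  have hΦc : IsCharacter G Φ := isCharacter_sum _ _ fun χ _ => χ.2.isCharacter
  have hΦs : ∀ y : G, p ∣ orderOf y → Φ y = 0 := by
    intro y hy
    have h1 := congrArg conj (hsing y hy)
    rw [map_sum, map_zero] at h1
    rw [hΦ, Finset.sum_apply, ← h1]
    exact Finset.sum_congr rfl fun χ _ => (Complex.conj_conj _).symm
  have hΦ1 : Φ 1 = ((m * n : ℕ) : ℂ) := by
    rw [hΦ, Finset.sum_apply, Finset.sum_congr rfl fun χ hχ => hdeg χ ((fs_mem χ).1 hχ), Finset.sum_const,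
      nsmul_eq_mul]
    push_cast
    ring
  obtain ⟨P⟩ : Nonempty (Sylow p G) := inferInstance
  have hPd : Nat.card (P : Subgroup G) ∣ m * n := by
    have h1 := BlockDefZero.card_dvd_of_vanish hΦc (P : Subgroup G) (by
      intro u hu hu1
      apply hΦs
      obtain ⟨k, hk⟩ := (IsPGroup.iff_orderOf.1 P.isPGroup') ⟨u, hu⟩
      rw [Subgroup.orderOf_mk] at hk
      rw [hk]
      apply dvd_pow_self
      rintro rfl
      rw [pow_zero] at hk
      exact hu1 (orderOf_eq_one_iff.1 hk))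
    have h2 : charDegree Φ = m * n := by
      have := charDegree_cast hΦc
      rw [hΦ1] at this
      exact_mod_cast this
    rwa [h2] at h1
  have hcoef : ∀ g : G, MemLocalRing M (blockCoeff S g) := by
    intro g
    rw [blockCoeff, finsum_mem_eq_finite_toFinset_sum _ (Set.toFinite _)]
    have h1 : ∑ χ ∈ S.toFinite.toFinset, (χ : G → ℂ) 1 * conj ((χ : G → ℂ) g) =
        (n : ℂ) * ∑ χ ∈ S.toFinite.toFinset, conj ((χ : G → ℂ) g) := by
      rw [Finset.mul_sum]
      exact Finset.sum_congr rfl fun χ hχ => by rw [hdeg χ ((fs_mem χ).1 hχ)]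
    rw [h1]
    by_cases hg : p ∣ orderOf g
    · rw [hsing g hg, mul_zero, mul_zero]
      exact loc_natCast 0 |> fun h => by simpa using h
    · have h2 : ∑ χ ∈ S.toFinite.toFinset, conj ((χ : G → ℂ) g) = (m : ℂ) * conj ((ρ0 : G → ℂ) g) := by
        rw [Finset.sum_congr rfl fun χ hχ => by rw [hreg χ ((fs_mem χ).1 hχ) g hg], Finset.sum_const,
          nsmul_eq_mul]
      rw [h2]
      have h3 : (Nat.card G : ℂ)⁻¹ * ((n : ℂ) * ((m : ℂ) * conj ((ρ0 : G → ℂ) g))) =
          (((m * n : ℕ) : ℂ) / (Nat.card G : ℂ)) * (ρ0 : G → ℂ) g⁻¹ := by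
        rw [ρ0.2.inv]
        push_cast
        ring
      rw [h3]
      refine loc_mul ?_ (loc_irr ρ0 _)
      rw [loc_div_natCast_iff hM (Nat.mul_ne_zero hm0 hn0) Nat.card_pos.ne']
      have h4 : (Nat.card (P : Subgroup G)) = p ^ (Nat.card G).factorization p := P.card_eq_multiplicity
      rw [h4] at hPd
      exact (hM.1.pow_dvd_iff_le_factorization (Nat.mul_ne_zero hm0 hn0)).1 hPd
  have hall := Cfsg.Agent.S0909.result p M hM S hcoef χ0 hχ0S
  rw [← eq_blockOf hB hχ0] at hall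
  exact ⟨ρ0, (hF χ0 hχ0).1, (hF χ0 hχ0).2.1, fun χ hχ x hx => hreg χ (hall hχ) x hx⟩

/-- the norm formula with weights -/
theorem sum_w [Fintype G] (hM : IsPModular p M) (hV : IsPGroup p V) {ρ : G → ℂ} (hρ : IsIrrCharacter G ρ)
    (hk : ∀ v ∈ V, ρ v = ρ 1) (hdeg : (charDegree ρ).factorization p = V.index.factorization p) :
    ∑ x : G, (if p ∣ orderOf x then 0 else (w V x : ℝ) * ‖ρ x‖ ^ 2) = Nat.card G := by
  classical
  haveI : Fact p.Prime := ⟨hM.1⟩
  obtain ⟨e, f, he⟩ := exists_isRegExp p hM.1 G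
  have h1 := sum_sec he V hV (fun x => ρ x * conj (ρ x))
  have h2 := hρ.classInner_self
  rw [classInner_def, inv_mul_eq_one₀ (by exact_mod_cast Nat.card_pos.ne')] at h2
  have h3 : ∑ g : G, (if g ^ f ∈ V then ρ (g ^ e) * conj (ρ (g ^ e)) else 0) = ∑ g : G, ρ g * conj (ρ g) := by
    refine Finset.sum_congr rfl fun g _ => ?_
    split_ifs with hg
    · have h4 := hρ.isCharacter.mul_eq_of_const V hk (g ^ e) (g ^ f) hg
      rw [he.mul_eq] at h4
      rw [h4]
    · rw [vanish_of_ker hM hV hρ hk hdeg (x := g ^ f) ⟨g ^ e, by rw [← pow_add, add_comm, he.pow_add],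
        Commute.pow_pow_self g f e, he.sing g, he.reg g⟩ hg, zero_mul]
  rw [h3, ← h2] at h1
  have h5 : ((∑ x : G, (if p ∣ orderOf x then 0 else (w V x : ℝ) * ‖ρ x‖ ^ 2) : ℝ) : ℂ) = ((Nat.card G : ℝ) : ℂ) := by
    push_cast
    rw [h1]
    refine Finset.sum_congr rfl fun x _ => ?_
    split_ifs
    · rfl
    · rw [Complex.mul_conj, Complex.normSq_eq_norm_sq]
      push_cast
      ring
  exact_mod_cast h5

/-- the number of members -/
theorem card_and_vanish (hM : IsPModular p M) (hV : IsPGroup p V)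
    (hab : ∀ a ∈ V, ∀ b ∈ V, a * b = b * a) (hB : IsPBlock M B) (hD : IsDefectGroup p M B V)
    (hn : ∀ χ ∈ B, charDegree (χ : G → ℂ) = n) {ρ : IrrCharacter G} (hρ : ρ ∈ B)
    (hk : ∀ v ∈ V, (ρ : G → ℂ) v = (ρ : G → ℂ) 1)
    (hs : ∀ χ ∈ B, ∀ x : G, ¬ p ∣ orderOf x → (χ : G → ℂ) x = (ρ : G → ℂ) x) :
    Nat.card B = Nat.card V ∧ ∀ x : G, ¬ p ∣ orderOf x → w V x ≠ Nat.card V → (ρ : G → ℂ) x = 0 := by
  classical
  haveI := isPrime hM
  haveI := Fintype.ofFinite G
  have hdv := degree_val hM hab hB hD hρ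
  have hW := sum_w hM hV ρ.2 hk hdv
  have hn0 : n ≠ 0 := by
    rw [← hn ρ hρ]
    exact (charDegree_pos ρ.2).ne'
  -- the number of members
  set k := B.toFinite.toFinset.card with hkdef
  have hkc : Nat.card B = k := by
    rw [Nat.card_coe_set_eq, Set.ncard_eq_toFinset_card _ B.toFinite]
  have hk0 : k ≠ 0 := Finset.card_ne_zero_of_mem ((fs_mem ρ).2 hρ)
  set Φ : G → ℂ := ∑ χ ∈ B.toFinite.toFinset, (χ : G → ℂ) with hΦ
  have h11 : ¬ p ∣ orderOf (1 : G) := by
    rw [orderOf_one]; exact hM.1.not_dvd_one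
  have hdeg : ∀ χ ∈ B, (χ : G → ℂ) 1 = (n : ℂ) := by
    intro χ hχ
    rw [← hn χ hχ, charDegree_cast_irr]
  have hΦs : ∀ y : G, p ∣ orderOf y → Φ y = 0 := by
    intro y hy
    have h2 := BlockOsima.weak_orthogonality hM hB h11 hy
    rw [finsum_mem_eq_finite_toFinset_sum _ (Set.toFinite _)] at h2
    have h3 : (n : ℂ) * ∑ χ ∈ B.toFinite.toFinset, conj ((χ : G → ℂ) y) = 0 := by
      rw [← h2, Finset.mul_sum]
      exact Finset.sum_congr rfl fun χ hχ => by rw [hdeg χ ((fs_mem χ).1 hχ)]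
    have h4 := (mul_eq_zero.1 h3).resolve_left (by exact_mod_cast hn0)
    have h5 := congrArg conj h4
    rw [map_sum, map_zero] at h5
    rw [hΦ, Finset.sum_apply, ← h5]
    exact Finset.sum_congr rfl fun χ _ => (Complex.conj_conj _).symm
  have hΦr : ∀ y : G, ¬ p ∣ orderOf y → Φ y = (k : ℂ) * (ρ : G → ℂ) y := by
    intro y hy
    rw [hΦ, Finset.sum_apply, Finset.sum_congr rfl fun χ hχ => hs χ ((fs_mem χ).1 hχ) y hy, Finset.sum_const,
      nsmul_eq_mul]
  have hA : (k : ℝ) * ∑ x : G, (if p ∣ orderOf x then 0 else ‖(ρ : G → ℂ) x‖ ^ 2) = Nat.card G := by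
    have h2 : classInner Φ (ρ : G → ℂ) = 1 := by
      rw [hΦ, classInner_sum_left, Finset.sum_eq_single ρ]
      · exact ρ.2.classInner_self
      · intro χ _ hne
        exact χ.2.classInner_eq_zero ρ.2 (fun h => hne (Subtype.ext h))
      · intro h
        exact absurd ((fs_mem ρ).2 hρ) h
    rw [classInner_def, inv_mul_eq_one₀ (by exact_mod_cast Nat.card_pos.ne')] at h2
    have h5 : (((k : ℝ) * ∑ x : G, (if p ∣ orderOf x then 0 else ‖(ρ : G → ℂ) x‖ ^ 2) : ℝ) : ℂ) = ((Nat.card G : ℝ) : ℂ) := by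
      push_cast
      rw [h2, Finset.mul_sum]
      refine Finset.sum_congr rfl fun x _ => ?_
      split_ifs with hx
      · rw [hΦs x hx]
        simp
      · rw [hΦr x hx, mul_assoc, Complex.mul_conj, Complex.normSq_eq_norm_sq]
    exact_mod_cast h5
  set A : ℝ := ∑ x : G, (if p ∣ orderOf x then 0 else ‖(ρ : G → ℂ) x‖ ^ 2) with hAdef
  have hApos : 0 < A := by
    have h1 : (0 : ℝ) < Nat.card G := by exact_mod_cast Nat.card_pos
    have h2 : (0 : ℝ) < k := by exact_mod_cast Nat.pos_of_ne_zero hk0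
    by_contra h3
    push Not at h3
    have : (k : ℝ) * A ≤ 0 := mul_nonpos_of_nonneg_of_nonpos h2.le h3
    linarith
  -- divisibility
  have hVk : Nat.card V ≤ k := by
    have hdim := Contrib2.dim_block hM hB
    have h2 : ∑ᶠ χ ∈ B, charDegree (χ : G → ℂ) ^ 2 = k * n ^ 2 := by
      rw [finsum_mem_eq_finite_toFinset_sum _ (Set.toFinite _),
        Finset.sum_congr rfl fun χ hχ => by rw [hn χ ((fs_mem χ).1 hχ)], Finset.sum_const, smul_eq_mul]
    rw [h2, Nat.factorization_mul hk0 (pow_ne_zero _ hn0), Nat.factorization_pow, Finsupp.add_apply,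
      Finsupp.smul_apply, smul_eq_mul] at hdim
    have hcard := defectGroup_card hM hB hD
    have h5 := congrArg (fun n => n.factorization p) V.card_mul_index
    rw [Nat.factorization_mul Nat.card_pos.ne' Subgroup.index_ne_zero_of_finite, Finsupp.add_apply, hcard,
      hM.1.factorization_pow, Finsupp.single_eq_same] at h5
    rw [hn ρ hρ] at hdv
    have h6 : blockDefect p B ≤ k.factorization p := by
      omega
    rw [hcard]
    exact Nat.le_of_dvd (Nat.pos_of_ne_zero hk0) ((hM.1.pow_dvd_iff_le_factorization hk0).2 h6)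
  have hle : ∀ x : G, (if p ∣ orderOf x then (0 : ℝ) else (w V x : ℝ) * ‖(ρ : G → ℂ) x‖ ^ 2) ≤
      (Nat.card V : ℝ) * (if p ∣ orderOf x then 0 else ‖(ρ : G → ℂ) x‖ ^ 2) := by
    intro x
    split_ifs
    · simp
    · exact mul_le_mul_of_nonneg_right (by exact_mod_cast w_le V x) (sq_nonneg _)
  have hsumle : (k : ℝ) * A ≤ (Nat.card V : ℝ) * A := by
    rw [hA, ← hW, hAdef, Finset.mul_sum]
    exact Finset.sum_le_sum fun x _ => hle x
  have hkV : (k : ℝ) ≤ Nat.card V := le_of_mul_le_mul_right hsumle hApos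
  have hkeq : k = Nat.card V := le_antisymm (by exact_mod_cast hkV) hVk
  refine ⟨hkc.trans hkeq, ?_⟩
  intro x hx hwx
  have h7 : ∑ x : G, ((Nat.card V : ℝ) * (if p ∣ orderOf x then 0 else ‖(ρ : G → ℂ) x‖ ^ 2) -
      (if p ∣ orderOf x then (0 : ℝ) else (w V x : ℝ) * ‖(ρ : G → ℂ) x‖ ^ 2)) = 0 := by
    rw [Finset.sum_sub_distrib, ← Finset.mul_sum, ← hAdef, hW, ← hkeq, hA, sub_self]
  have h8 := (Finset.sum_eq_zero_iff_of_nonneg (fun x _ => sub_nonneg.2 (hle x))).1 h7 x (Finset.mem_univ x)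
  rw [if_neg hx, if_neg hx, ← sub_mul] at h8
  have h9 : ((Nat.card V : ℝ) - w V x) ≠ 0 := by
    rw [sub_ne_zero]
    intro h
    exact hwx (by exact_mod_cast h.symm)
  have h10 := (mul_eq_zero.1 h8).resolve_left h9
  exact norm_eq_zero.1 (pow_eq_zero_iff two_ne_zero |>.1 h10)

end same

end Cfsg.Agent.Lib.H16SD
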