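import Cfsg.Agent.Lib.H16SD

/-!
# Blocks in which all characters have the same degree, II (helper16)
-/

set_option autoImplicit false
set_option linter.all false

namespace Cfsg.Agent.Lib.H16SD2

open Cfsg Cfsg.Agent.Lib Cfsg.Agent.Lib.BlockRing Cfsg.Agent.Lib.BlockGA Cfsg.Agent.Lib.BlockIdem
  Cfsg.Agent.Lib.BlockDefect Cfsg.Agent.Lib.CharBasic Cfsg.Agent.Lib.BlockDeg Cfsg.Agent.Lib.PPart
  Cfsg.Agent.Lib.Clifford Cfsg.Agent.Lib.H16SD Cfsg.Agent.Lib.CycAvg
open scoped ComplexConjugate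

universe u

variable {G : Type u} [Group G] [Fintype G] {p : ℕ} {M : Ideal AlgInt}

theorem w_conj {V : Subgroup G} [hVn : V.Normal] (g x : G) : w V (g * x * g⁻¹) = w V x := by
  unfold w
  refine Nat.card_congr ⟨fun v => ⟨⟨g⁻¹ * v.1 * g, by simpa using hVn.conj_mem _ v.1.2 g⁻¹⟩, ?_⟩,
    fun v => ⟨⟨g * v.1 * g⁻¹, hVn.conj_mem _ v.1.2 g⟩, ?_⟩, ?_, ?_⟩
  · have h := v.2
    show g⁻¹ * (v.1 : G) * g * x = x * (g⁻¹ * (v.1 : G) * g)
    calc g⁻¹ * (v.1 : G) * g * x = g⁻¹ * ((v.1 : G) * (g * x * g⁻¹)) * g := by group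
      _ = g⁻¹ * ((g * x * g⁻¹) * (v.1 : G)) * g := by rw [h]
      _ = x * (g⁻¹ * (v.1 : G) * g) := by group
  · have h := v.2
    show g * (v.1 : G) * g⁻¹ * (g * x * g⁻¹) = g * x * g⁻¹ * (g * (v.1 : G) * g⁻¹)
    calc g * (v.1 : G) * g⁻¹ * (g * x * g⁻¹) = g * ((v.1 : G) * x) * g⁻¹ := by group
      _ = g * (x * (v.1 : G)) * g⁻¹ := by rw [h]
      _ = g * x * g⁻¹ * (g * (v.1 : G) * g⁻¹) := by group
  · intro v
    apply Subtype.ext
    apply Subtype.ext
    show g * (g⁻¹ * (v.1 : G) * g) * g⁻¹ = v.1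
    group
  · intro v
    apply Subtype.ext
    apply Subtype.ext
    show g⁻¹ * (g * (v.1 : G) * g⁻¹) * g = v.1
    group

section sec

variable {H : Subgroup G} [Fintype H] {V : Subgroup H} [hVn : V.Normal] {ψ : IrrCharacter H} {e f : ℕ}

/-- generalized decomposition number of `χ` at `u` for `ψ` -/
noncomputable def d (H : Subgroup G) [Fintype H] (e : ℕ) (ψ : H → ℂ) (u : G) (χ : G → ℂ) : ℂ :=
  (Nat.card H : ℂ)⁻¹ * ∑ h : H, χ (u * ((h ^ e : H) : G)) * conj (ψ h)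

/-- weighted restriction of `ψ` to `p`-regular elements -/
noncomputable def R (p : ℕ) (V : Subgroup H) (ψ : H → ℂ) : H → ℂ :=
  fun x => if p ∣ orderOf x then 0 else (w V x : ℂ) * ψ x

theorem isClassFunction_R (hψ : IsClassFunction H ψ) : IsClassFunction H (R p V (ψ : H → ℂ)) := by
  intro x h
  unfold R
  rw [w_conj, hψ x h]
  have : orderOf (h * x * h⁻¹) = orderOf x := by
    have := (MulAut.conj h).orderOf_eq x
    simpa using this
  rw [this]

theorem d_eq (hM : IsPModular p M) (he : IsRegExp p H e f) (hV : IsPGroup p V)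
    (hk : ∀ v ∈ V, (ψ : H → ℂ) v = (ψ : H → ℂ) 1)
    (hdeg : (charDegree (ψ : H → ℂ)).factorization p = V.index.factorization p) (u : G) (χ : G → ℂ) :
    d H e (ψ : H → ℂ) u χ = (Nat.card H : ℂ)⁻¹ * ∑ x : H, χ (u * (x : G)) * conj (R p V (ψ : H → ℂ) x) := by
  classical
  haveI : Fact p.Prime := ⟨hM.1⟩
  unfold d
  congr 1
  have h1 := sum_sec he V hV (fun x : H => χ (u * (x : G)) * conj ((ψ : H → ℂ) x))
  have h2 : ∑ h : H, χ (u * ((h ^ e : H) : G)) * conj ((ψ : H → ℂ) h) =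
      ∑ g : H, (if g ^ f ∈ V then χ (u * ((g ^ e : H) : G)) * conj ((ψ : H → ℂ) (g ^ e)) else 0) := by
    refine Finset.sum_congr rfl fun g _ => ?_
    split_ifs with hg
    · have h4 := ψ.2.isCharacter.mul_eq_of_const V hk (g ^ e) (g ^ f) hg
      rw [he.mul_eq] at h4
      rw [h4]
    · rw [vanish_of_ker hM hV ψ.2 hk hdeg (x := g ^ f) ⟨g ^ e, by rw [← pow_add, add_comm, he.pow_add],
        Commute.pow_pow_self g f e, he.sing g, he.reg g⟩ hg, map_zero, mul_zero]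
  rw [h2, h1]
  refine Finset.sum_congr rfl fun x _ => ?_
  unfold R
  split_ifs
  · simp
  · rw [map_mul, Complex.conj_natCast]
    ring

theorem parseval (hM : IsPModular p M) (he : IsRegExp p H e f) (hV : IsPGroup p V)
    (hk : ∀ v ∈ V, (ψ : H → ℂ) v = (ψ : H → ℂ) 1)
    (hdeg : (charDegree (ψ : H → ℂ)).factorization p = V.index.factorization p) {u : G} {k : ℕ}
    (hu : orderOf u = p ^ k) (hmem : ∀ g, g ∈ H ↔ Commute u g) :
    ∑ χ : IrrCharacter G, d H e (ψ : H → ℂ) u (χ : G → ℂ) * conj (d H e (ψ : H → ℂ) u (χ : G → ℂ)) =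
      classInner (R p V (ψ : H → ℂ)) (R p V (ψ : H → ℂ)) := by
  classical
  have hR := isClassFunction_R (p := p) (V := V) ψ.2.isClassFunction
  set r : H → ℂ := fun x => conj (R p V (ψ : H → ℂ) x) with hr
  have hr0 : ∀ x : H, p ∣ orderOf x → r x = 0 := by
    intro x hx
    simp only [hr, R]
    rw [if_pos hx, map_zero]
  rw [hR.classInner_eq_sum]
  have key : ∑ χ : IrrCharacter G, (∑ x : H, (χ : G → ℂ) (u * (x : G)) * r x) *
      conj (∑ x : H, (χ : G → ℂ) (u * (x : G)) * r x) =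
      ∑ η : IrrCharacter H, (∑ x : H, (η : H → ℂ) x * r x) * conj (∑ x : H, (η : H → ℂ) x * r x) := by
    have e1 : ∀ {ι : Type u} [Fintype ι] (F : ι → H → ℂ), ∑ χ : ι, (∑ x : H, F χ x * r x) *
        conj (∑ x : H, F χ x * r x) = ∑ x : H, ∑ y : H, r x * conj (r y) * ∑ χ : ι, F χ x * conj (F χ y) := by
      intro ι _ F
      have e0 : ∀ χ : ι, (∑ x : H, F χ x * r x) * conj (∑ x : H, F χ x * r x) =
          ∑ x : H, ∑ y : H, F χ x * r x * conj (F χ y * r y) := by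
        intro χ
        rw [map_sum, Finset.sum_mul_sum]
      rw [Finset.sum_congr rfl fun χ _ => e0 χ, Finset.sum_comm]
      refine Finset.sum_congr rfl fun x _ => ?_
      rw [Finset.sum_comm]
      refine Finset.sum_congr rfl fun y _ => ?_
      rw [Finset.mul_sum]
      refine Finset.sum_congr rfl fun χ _ => ?_
      rw [map_mul]
      ring
    rw [e1 (fun χ : IrrCharacter G => fun x : H => (χ : G → ℂ) (u * (x : G))),
      e1 (fun η : IrrCharacter H => fun x : H => (η : H → ℂ) x)]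
    refine Finset.sum_congr rfl fun x _ => Finset.sum_congr rfl fun y _ => ?_
    by_cases hx : p ∣ orderOf x
    · rw [hr0 x hx]; simp
    · by_cases hy : p ∣ orderOf y
      · rw [hr0 y hy]; simp
      · rw [BlockSection.column_section hM.1 hu hmem hx hy]
  have e2 : ∀ χ : IrrCharacter G, d H e (ψ : H → ℂ) u (χ : G → ℂ) * conj (d H e (ψ : H → ℂ) u (χ : G → ℂ)) =
      (Nat.card H : ℂ)⁻¹ * (Nat.card H : ℂ)⁻¹ * ((∑ x : H, (χ : G → ℂ) (u * (x : G)) * r x) *
      conj (∑ x : H, (χ : G → ℂ) (u * (x : G)) * r x)) := by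
    intro χ
    rw [d_eq hM he hV hk hdeg, map_mul, map_inv₀, Complex.conj_natCast]
    ring
  have e3 : ∀ η : IrrCharacter H, classInner (R p V (ψ : H → ℂ)) (η : H → ℂ) *
      conj (classInner (R p V (ψ : H → ℂ)) (η : H → ℂ)) =
      (Nat.card H : ℂ)⁻¹ * (Nat.card H : ℂ)⁻¹ * ((∑ x : H, (η : H → ℂ) x * r x) * conj (∑ x : H, (η : H → ℂ) x * r x)) := by
    intro η
    have e4 : classInner (η : H → ℂ) (R p V (ψ : H → ℂ)) = (Nat.card H : ℂ)⁻¹ * ∑ x : H, (η : H → ℂ) x * r x := by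
      rw [classInner_def]
    have e5 : classInner (R p V (ψ : H → ℂ)) (η : H → ℂ) = conj ((Nat.card H : ℂ)⁻¹ * ∑ x : H, (η : H → ℂ) x * r x) := by
      rw [← e4, conj_classInner]
    rw [e5, Complex.conj_conj, map_mul, map_inv₀, Complex.conj_natCast]
    ring
  rw [Finset.sum_congr rfl fun χ _ => e2 χ, Finset.sum_congr rfl fun η _ => e3 η, ← Finset.mul_sum,
    ← Finset.mul_sum, key]

/-- central elements act by scalars -/
theorem exists_mu {z : H} (hz : ∀ h : H, z * h = h * z) {N : ℕ} (hN : z ^ N = 1) (η : IrrCharacter H) :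
    ∃ μ : ℂ, μ ^ N = 1 ∧ ∀ (j : ℕ) (h : H), (η : H → ℂ) (z ^ j * h) = μ ^ j * (η : H → ℂ) h := by
  have hG : Subgroup.zpowers z ⊔ Subgroup.centralizer ((Subgroup.zpowers z : Subgroup H) : Set H) = ⊤ := by
    rw [eq_top_iff]
    refine le_trans ?_ le_sup_right
    intro g _
    rw [Subgroup.mem_centralizer_iff]
    rintro _ ⟨i, rfl⟩
    exact (Commute.zpow_left (show Commute z g from hz g) i).eq
  have hmemC : ∀ h : H, h ∈ Subgroup.centralizer ((Subgroup.zpowers z : Subgroup H) : Set H) := by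
    intro g
    rw [Subgroup.mem_centralizer_iff]
    rintro _ ⟨i, rfl⟩
    exact (Commute.zpow_left (show Commute z g from hz g) i).eq
  have h1 : ∀ h : H, (η : H → ℂ) (z * h) = (η : H → ℂ) z / (η : H → ℂ) 1 * (η : H → ℂ) h := by
    intro h
    rw [BlockCentral.mul_value hG η.2 (Subgroup.mem_zpowers z) (hmemC h)]
    ring
  have h2 : ∀ (j : ℕ) (h : H), (η : H → ℂ) (z ^ j * h) = ((η : H → ℂ) z / (η : H → ℂ) 1) ^ j * (η : H → ℂ) h := by
    intro j
    induction j with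
    | zero => intro h; simp
    | succ j ih =>
      intro h
      rw [pow_succ, mul_assoc, ih, h1, pow_succ]
      ring
  refine ⟨(η : H → ℂ) z / (η : H → ℂ) 1, ?_, h2⟩
  have h3 := h2 N 1
  rw [hN, mul_one] at h3
  have h4 := η.2.one_ne_zero
  have h5 : (((η : H → ℂ) z / (η : H → ℂ) 1) ^ N - 1) * (η : H → ℂ) 1 = 0 := by
    rw [sub_mul, ← h3]; ring
  have h6 := (mul_eq_zero.1 h5).resolve_right h4
  exact sub_eq_zero.1 h6

/-- expansion of the generalized decomposition numbers -/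
theorem expand (hM : IsPModular p M) (he : IsRegExp p H e f) (ψ : IrrCharacter H) {z : H}
    (hz : ∀ h : H, z * h = h * z) {N : ℕ} (hN : z ^ N = 1) {χ : G → ℂ} (hχ : IsCharacter G χ) :
    ∃ (c : IrrCharacter H → ℤ) (μ : IrrCharacter H → ℂ), (∀ η, μ η ^ N = 1) ∧
      ∀ j : ℕ, d H e (ψ : H → ℂ) ((z : G) ^ j) χ = ∑ η : IrrCharacter H, (c η : ℂ) * μ η ^ j := by
  classical
  choose μ hμ hμ2 using fun η : IrrCharacter H => exists_mu hz hN η
  have hres := hχ.restrict H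
  choose a ha using fun η : IrrCharacter H => hres.classInner_nat η.2.isCharacter
  choose c hc using fun η : IrrCharacter H =>
    (isGeneralized_reg hM he η.2.isCharacter).classInner_int ψ.2.isCharacter.isGeneralized
  refine ⟨fun η => a η * c η, μ, hμ, ?_⟩
  intro j
  unfold d
  have h1 : ∀ h : H, χ ((z : G) ^ j * ((h ^ e : H) : G)) =
      ∑ η : IrrCharacter H, (a η : ℂ) * (μ η ^ j * (η : H → ℂ) (h ^ e)) := by
    intro h
    have h2 := hres.isClassFunction.expansion_apply (z ^ j * h ^ e)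
    have h3 : ((z ^ j * h ^ e : H) : G) = (z : G) ^ j * ((h ^ e : H) : G) := rfl
    rw [← h3]
    rw [h2]
    refine Finset.sum_congr rfl fun η _ => ?_
    rw [hμ2 η j, ha η]
  rw [Finset.sum_congr rfl fun h _ => by rw [h1 h]]
  have h4 : ∀ η : IrrCharacter H, (c η : ℂ) = (Nat.card H : ℂ)⁻¹ * ∑ h : H, (η : H → ℂ) (h ^ e) * conj ((ψ : H → ℂ) h) := by
    intro η
    rw [← hc η, classInner_def]
  simp only [Finset.sum_mul]
  rw [Finset.sum_comm, Finset.mul_sum]
  refine Finset.sum_congr rfl fun η _ => ?_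
  push_cast
  rw [h4 η]
  simp only [Finset.mul_sum, Finset.sum_mul]
  refine Finset.sum_congr rfl fun h _ => ?_
  ring

theorem norm_R (hM : IsPModular p M) (hV : IsPGroup p V)
    (hk : ∀ v ∈ V, (ψ : H → ℂ) v = (ψ : H → ℂ) 1)
    (hdeg : (charDegree (ψ : H → ℂ)).factorization p = V.index.factorization p) :
    ∃ S : ℝ, classInner (R p V (ψ : H → ℂ)) (R p V (ψ : H → ℂ)) = (S : ℂ) ∧ S ≤ Nat.card V ∧
      (S = Nat.card V → ∀ x : H, ¬ p ∣ orderOf x → w V x ≠ Nat.card V → (ψ : H → ℂ) x = 0) := by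
  classical
  have hW := sum_w hM hV ψ.2 hk hdeg
  have hH : (0 : ℝ) < Nat.card H := by exact_mod_cast Nat.card_pos
  set T : H → ℝ := fun x => if p ∣ orderOf x then 0 else (w V x : ℝ) * ‖(ψ : H → ℂ) x‖ ^ 2 with hT
  have hT0 : ∀ x, 0 ≤ T x := by
    intro x
    simp only [hT]
    split_ifs
    · rfl
    · positivity
  refine ⟨(Nat.card H : ℝ)⁻¹ * ∑ x : H, (w V x : ℝ) * T x, ?_, ?_, ?_⟩
  · rw [classInner_def]
    push_cast
    congr 1
    refine Finset.sum_congr rfl fun x _ => ?_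
    simp only [R, hT]
    split_ifs
    · simp
    · rw [map_mul, Complex.conj_natCast]
      push_cast
      rw [← Complex.ofReal_pow, ← Complex.normSq_eq_norm_sq, ← Complex.mul_conj]
      ring
  · rw [inv_mul_le_iff₀ hH]
    have h1 : ∑ x : H, (w V x : ℝ) * T x ≤ ∑ x : H, (Nat.card V : ℝ) * T x :=
      Finset.sum_le_sum fun x _ => mul_le_mul_of_nonneg_right (by exact_mod_cast w_le V x) (hT0 x)
    rw [← Finset.mul_sum, hW] at h1
    linarith
  · intro hS x hx hwx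
    rw [inv_mul_eq_iff_eq_mul₀ hH.ne'] at hS
    have h2 : ∑ x : H, ((Nat.card V : ℝ) * T x - (w V x : ℝ) * T x) = 0 := by
      rw [Finset.sum_sub_distrib, ← Finset.mul_sum, hW, hS]
      ring
    have h3 := (Finset.sum_eq_zero_iff_of_nonneg (fun x _ => sub_nonneg.2
      (mul_le_mul_of_nonneg_right (by exact_mod_cast w_le V x) (hT0 x)))).1 h2 x (Finset.mem_univ x)
    rw [← sub_mul] at h3
    have h4 : ((Nat.card V : ℝ) - w V x) ≠ 0 := by
      rw [sub_ne_zero]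
      intro h
      exact hwx (by exact_mod_cast h.symm)
    have h5 := (mul_eq_zero.1 h3).resolve_left h4
    simp only [hT] at h5
    rw [if_neg hx] at h5
    rcases mul_eq_zero.1 h5 with h6 | h6
    · exfalso
      have h7 : w V x = 0 := by exact_mod_cast h6
      have : 0 < w V x := by
        unfold w
        haveI : Nonempty {v : V // (v : H) * x = x * v} := ⟨⟨1, by simp⟩⟩
        exact Nat.card_pos
      omega
    · exact norm_eq_zero.1 (pow_eq_zero_iff two_ne_zero |>.1 h6)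

/-- the multiplicities are one -/
theorem mult_one (hM : IsPModular p M) (he : IsRegExp p H e f) (hV : IsPGroup p V)
    (hk : ∀ v ∈ V, (ψ : H → ℂ) v = (ψ : H → ℂ) 1)
    (hdeg : (charDegree (ψ : H → ℂ)).factorization p = V.index.factorization p)
    {z : H} (hz : ∀ h : H, z * h = h * z) {k : ℕ} (hzo : orderOf z = p ^ k)
    (hmem : ∀ g, g ∈ H ↔ Commute (z : G) g) {B : Set (IrrCharacter G)} (hBV : Nat.card B = Nat.card V)
    {ρ : IrrCharacter G} (hρ : ρ ∈ B)
    (hs : ∀ χ ∈ B, ∀ x : G, ¬ p ∣ orderOf x → (χ : G → ℂ) x = (ρ : G → ℂ) x)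
    (hzV : z ∈ V) (hρV : ∀ v ∈ V, ∀ g : G, (ρ : G → ℂ) ((v : G) * g) = (ρ : G → ℂ) g)
    {m : ℕ} (hm : classInner (fun h : H => (ρ : G → ℂ) h) (ψ : H → ℂ) = (m : ℂ)) (hpm : ¬ p ∣ m) :
    m = 1 ∧ ∀ x : H, ¬ p ∣ orderOf x → w V x ≠ Nat.card V → (ψ : H → ℂ) x = 0 := by
  classical
  haveI := isPrime hM
  haveI : Fact p.Prime := ⟨hM.1⟩
  set N := p ^ (k + 1) with hN
  haveI : NeZero N := ⟨pow_ne_zero _ hM.1.ne_zero⟩
  have hzN : z ^ N = 1 := by
    rw [hN, pow_succ, pow_mul, ← hzo, pow_orderOf_eq_one, one_pow]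
  obtain ⟨S, hS, hSV, hSeq⟩ := norm_R hM hV hk hdeg
  -- members of the group of units
  have hcop : ∀ t : (ZMod N)ˣ, Nat.Coprime (t : ZMod N).val (orderOf z) := by
    intro t
    rw [hzo]
    have h1 := ZMod.val_coe_unit_coprime t
    exact Nat.Coprime.coprime_dvd_right (pow_dvd_pow p (Nat.le_succ k)) h1
  have hpars : ∀ t : (ZMod N)ˣ, ∑ χ : IrrCharacter G, ‖d H e (ψ : H → ℂ) ((z : G) ^ (t : ZMod N).val) (χ : G → ℂ)‖ ^ 2 = S := by
    intro t
    have h1 : orderOf ((z : G) ^ (t : ZMod N).val) = p ^ k := by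
      rw [Nat.Coprime.orderOf_pow (by rw [Subgroup.orderOf_coe]; exact (hcop t).symm), Subgroup.orderOf_coe, hzo]
    have h2 : ∀ g, g ∈ H ↔ Commute ((z : G) ^ (t : ZMod N).val) g := by
      intro g
      rw [hmem]
      constructor
      · intro h
        exact h.pow_left _
      · intro h
        obtain ⟨r, hr⟩ := exists_pow_eq_self_of_coprime (x := (z : G)) (by
          rw [Subgroup.orderOf_coe]; exact hcop t)
        rw [← hr]
        exact h.pow_left r
    have h3 := parseval hM he hV hk hdeg h1 h2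
    rw [hS] at h3
    have h4 : ((∑ χ : IrrCharacter G, ‖d H e (ψ : H → ℂ) ((z : G) ^ (t : ZMod N).val) (χ : G → ℂ)‖ ^ 2 : ℝ) : ℂ) = (S : ℂ) := by
      rw [← h3]
      push_cast
      refine Finset.sum_congr rfl fun χ _ => ?_
      rw [Complex.mul_conj, Complex.normSq_eq_norm_sq]
      push_cast
      rfl
    exact_mod_cast h4
  have hexp : ∀ χ : IrrCharacter G, d H e (ψ : H → ℂ) (z : G) (χ : G → ℂ) ∈ Z N ∧
      (∀ t : (ZMod N)ˣ, sig N t (d H e (ψ : H → ℂ) (z : G) (χ : G → ℂ)) =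
        d H e (ψ : H → ℂ) ((z : G) ^ (t : ZMod N).val) (χ : G → ℂ)) ∧
      MemLocalIdeal M (d H e (ψ : H → ℂ) (z : G) (χ : G → ℂ) - d H e (ψ : H → ℂ) 1 (χ : G → ℂ)) := by
    intro χ
    obtain ⟨c, μ, hμ, hd⟩ := expand hM he ψ hz hzN χ.2.isCharacter
    have hd1 := hd 1
    have hd0 := hd 0
    simp only [pow_one, pow_zero, mul_one] at hd1 hd0
    refine ⟨?_, ?_, ?_⟩
    · rw [hd1]
      exact (Z N).sum_mem fun η _ => (Z N).mul_mem (intCast_mem (Z N) _) (root_mem (hμ η))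
    · intro t
      rw [hd1, hd, map_sum]
      refine Finset.sum_congr rfl fun η _ => ?_
      rw [map_mul, map_intCast, sig_root t (hμ η)]
    · rw [hd1, hd0, ← Finset.sum_sub_distrib]
      refine idl_sum fun η _ => ?_
      have h1 : (c η : ℂ) * μ η - (c η : ℂ) = (c η : ℂ) * (μ η - 1) := by ring
      rw [h1]
      exact idl_mul_left (loc_intCast _) (idl_sub_one_of_pow hM (hμ η))
  have hd1B : ∀ χ ∈ B, d H e (ψ : H → ℂ) 1 (χ : G → ℂ) = (m : ℂ) := by
    intro χ hχ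
    rw [← hm, classInner_def]
    unfold d
    congr 1
    refine Finset.sum_congr rfl fun h _ => ?_
    rw [one_mul]
    have hreg : ¬ p ∣ orderOf ((h ^ e : H) : G) := by
      rw [Subgroup.orderOf_coe]; exact he.reg h
    rw [hs χ hχ _ hreg]
    by_cases hf : h ^ f ∈ V
    · congr 1
      have h2 := hρV (h ^ f) hf ((h ^ e : H) : G)
      rw [← Subgroup.coe_mul, (Commute.pow_pow_self h f e).eq, he.mul_eq] at h2
      exact h2.symm
    · rw [vanish_of_ker hM hV ψ.2 hk hdeg (x := h ^ f) ⟨h ^ e, by rw [← pow_add, add_comm, he.pow_add],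
        Commute.pow_pow_self h f e, he.sing h, he.reg h⟩ hf, map_zero, mul_zero, mul_zero]
  have hge : ∀ χ ∈ B, 1 ≤ avn N (d H e (ψ : H → ℂ) (z : G) (χ : G → ℂ)) := by
    intro χ hχ
    refine one_le_avn (hexp χ).1 ?_
    intro h0
    have h1 := (hexp χ).2.2
    rw [h0, hd1B χ hχ, zero_sub] at h1
    have h2 := idl_neg h1
    rw [neg_neg] at h2
    exact hpm ((idl_natCast_iff hM m).1 h2)
  have hρd : ∀ j : ℕ, d H e (ψ : H → ℂ) ((z : G) ^ j) (ρ : G → ℂ) = (m : ℂ) := by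
    intro j
    rw [← hd1B ρ hρ]
    unfold d
    congr 1
    refine Finset.sum_congr rfl fun h _ => ?_
    rw [one_mul]
    have h1 := hρV (z ^ j) (V.pow_mem hzV j) ((h ^ e : H) : G)
    rw [Subgroup.coe_pow] at h1
    rw [h1]
  have hρa : avn N (d H e (ψ : H → ℂ) (z : G) (ρ : G → ℂ)) = (m : ℝ) ^ 2 := by
    unfold avn
    have h1 : ∀ t : (ZMod N)ˣ, ‖sig N t (d H e (ψ : H → ℂ) (z : G) (ρ : G → ℂ))‖ ^ 2 = (m : ℝ) ^ 2 := by
      intro t
      rw [(hexp ρ).2.1 t, hρd, Complex.norm_natCast]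
    rw [Finset.sum_congr rfl fun t _ => h1 t, Finset.sum_const, Finset.card_univ, nsmul_eq_mul]
    have h2 := (phi_pos (N := N)).ne'
    unfold phi at h2 ⊢
    field_simp
  have htot : ∑ χ : IrrCharacter G, avn N (d H e (ψ : H → ℂ) (z : G) (χ : G → ℂ)) = S := by
    unfold avn
    rw [← Finset.sum_div, Finset.sum_comm]
    have h1 : ∀ t : (ZMod N)ˣ, ∑ χ : IrrCharacter G, ‖sig N t (d H e (ψ : H → ℂ) (z : G) (χ : G → ℂ))‖ ^ 2 = S := by
      intro t
      rw [← hpars t]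
      exact Finset.sum_congr rfl fun χ _ => by rw [(hexp χ).2.1 t]
    rw [Finset.sum_congr rfl fun t _ => h1 t, Finset.sum_const, Finset.card_univ, nsmul_eq_mul]
    have h2 := (phi_pos (N := N)).ne'
    unfold phi at h2 ⊢
    field_simp
  set s := B.toFinite.toFinset with hsdef
  have hsc : s.card = Nat.card V := by
    rw [← hBV, Nat.card_coe_set_eq, Set.ncard_eq_toFinset_card _ B.toFinite]
  have hle : ∑ χ ∈ s, avn N (d H e (ψ : H → ℂ) (z : G) (χ : G → ℂ)) ≤ S := by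
    rw [← htot]
    exact Finset.sum_le_sum_of_subset_of_nonneg (Finset.subset_univ _) fun χ _ _ => avn_nonneg _
  have hlow : (m : ℝ) ^ 2 + ((s.card : ℝ) - 1) ≤ ∑ χ ∈ s, avn N (d H e (ψ : H → ℂ) (z : G) (χ : G → ℂ)) := by
    have hρs : ρ ∈ s := (fs_mem ρ).2 hρ
    rw [← Finset.add_sum_erase s _ hρs, hρa]
    have h1 : ((s.erase ρ).card : ℝ) ≤ ∑ χ ∈ s.erase ρ, avn N (d H e (ψ : H → ℂ) (z : G) (χ : G → ℂ)) := by
      have := Finset.card_nsmul_le_sum (s.erase ρ) (fun χ => avn N (d H e (ψ : H → ℂ) (z : G) (χ : G → ℂ))) 1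
        (fun χ hχ => hge χ ((fs_mem χ).1 (Finset.mem_of_mem_erase hχ)))
      simpa using this
    rw [Finset.card_erase_of_mem hρs, Nat.cast_sub (Finset.card_pos.2 ⟨ρ, hρs⟩)] at h1
    push_cast at h1
    linarith
  have hm0 : m ≠ 0 := by
    rintro rfl
    exact hpm (dvd_zero p)
  have hm1 : (1 : ℝ) ≤ m := by exact_mod_cast Nat.one_le_iff_ne_zero.2 hm0
  rw [hsc] at hlow
  have hmle : (m : ℝ) ^ 2 ≤ 1 := by linarith
  have hmeq : (m : ℝ) = 1 := by nlinarith
  have hSV' : S = Nat.card V := by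
    apply le_antisymm hSV
    rw [hmeq] at hlow
    linarith
  exact ⟨by exact_mod_cast hmeq, hSeq hSV'⟩

end sec

end Cfsg.Agent.Lib.H16SD2
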