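import Cfsg.Agent.Lib.H16SD2
import Cfsg.Agent.Lib.CliffordCorr
import Cfsg.Agent.Lib.Garrison
import Cfsg.Agent.Lib.CosetAvg
import Cfsg.Agent.Lib.SubgroupTools

/-!
# Blocks in which all characters have the same degree, III (helper16)
-/

set_option autoImplicit false
set_option linter.all false

namespace Cfsg.Agent.Lib.H16SD3

open Cfsg Cfsg.Agent.Lib Cfsg.Agent.Lib.BlockRing Cfsg.Agent.Lib.BlockGA Cfsg.Agent.Lib.BlockIdem
  Cfsg.Agent.Lib.BlockDefect Cfsg.Agent.Lib.CharBasic Cfsg.Agent.Lib.BlockDeg Cfsg.Agent.Lib.PPart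
  Cfsg.Agent.Lib.Clifford Cfsg.Agent.Lib.CliffordCorr Cfsg.Agent.Lib.H16SD Cfsg.Agent.Lib.H16SD2
open scoped ComplexConjugate

universe u

variable {G : Type u} [Group G] {p : ℕ} {M : Ideal AlgInt}

section clif
variable [Fintype G] {N : Subgroup G} [hN : N.Normal] [Fintype N]

/-- inner products with the restriction of an irreducible character -/
theorem inner_res {χ : G → ℂ} (hχ : IsIrrCharacter G χ) {θ : N → ℂ} (hθ : IsIrrCharacter N θ)
    {e : ℕ} (he : classInner (fun n : N => χ n) θ = (e : ℂ)) (he0 : e ≠ 0) {a : N → ℂ}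
    (ha : ∀ g : G, classInner a (cj N g θ) = classInner a θ) :
    (Nat.card (inertia N θ) : ℂ) * classInner a (fun n : N => χ n) = e * (Nat.card G : ℂ) * classInner a θ := by
  classical
  have h1 := clifford hχ hθ (by rw [he]; exact_mod_cast he0)
  have h2 := finsum_conj_one (N := N) θ
  set S : Set (N → ℂ) := {ψ : N → ℂ | ∃ g : G, ψ = cj N g θ} with hS
  have hSfin : S.Finite := by
    have : S = Set.range (fun g : G => cj N g θ) := by
      ext ψ; simp [hS, eq_comm]
    rw [this]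
    exact Set.finite_range _
  rw [finsum_mem_eq_finite_toFinset_sum _ hSfin] at h1 h2
  have h3 : (hSfin.toFinset.card : ℂ) = ((inertia N θ).index : ℂ) := by
    refine mul_right_cancel₀ hθ.one_ne_zero ?_
    rw [← h2, Finset.sum_apply, Finset.sum_congr rfl (g := fun _ => θ 1), Finset.sum_const, nsmul_eq_mul]
    intro ψ hψ
    obtain ⟨g, rfl⟩ := hSfin.mem_toFinset.1 hψ
    rw [cj_apply]
    congr 1
    ext
    simp
  have h4 : classInner a (∑ ψ ∈ hSfin.toFinset, ψ) = ((inertia N θ).index : ℂ) * classInner a θ := by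
    rw [classInner_sum_right, ← h3, Finset.sum_congr rfl (g := fun _ => classInner a θ), Finset.sum_const, nsmul_eq_mul]
    intro ψ hψ
    obtain ⟨g, rfl⟩ := hSfin.mem_toFinset.1 hψ
    exact ha g
  rw [h1, classInner_smul_right, h4, he]
  have h5 : (Nat.card G : ℂ) = (Nat.card (inertia N θ) : ℂ) * ((inertia N θ).index : ℂ) := by
    rw [← Nat.cast_mul, Subgroup.card_mul_index]
  rw [h5, Complex.conj_natCast]
  ring

/-- the degree -/
theorem deg_res {χ : G → ℂ} (hχ : IsIrrCharacter G χ) {θ : N → ℂ} (hθ : IsIrrCharacter N θ)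
    {e : ℕ} (he : classInner (fun n : N => χ n) θ = (e : ℂ)) (he0 : e ≠ 0) :
    charDegree χ * Nat.card (inertia N θ) = e * Nat.card G * charDegree θ := by
  have h1 := degree_clifford hχ hθ (by rw [he]; exact_mod_cast he0)
  rw [he, (charDegree_spec hχ).1, (charDegree_spec hθ).1] at h1
  have h5 : (Nat.card G : ℂ) = (Nat.card (inertia N θ) : ℂ) * ((inertia N θ).index : ℂ) := by
    rw [← Nat.cast_mul, Subgroup.card_mul_index]
  have h6 : ((charDegree χ * Nat.card (inertia N θ) : ℕ) : ℂ) = ((e * Nat.card G * charDegree θ : ℕ) : ℂ) := by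
    push_cast
    rw [h1, h5]
    ring
  exact_mod_cast h6

/-- vanishing off `N` determines the inertia group order -/
theorem card_inertia_of_vanish {χ : G → ℂ} (hχ : IsIrrCharacter G χ) {θ : N → ℂ} (hθ : IsIrrCharacter N θ)
    {e : ℕ} (he : classInner (fun n : N => χ n) θ = (e : ℂ)) (he0 : e ≠ 0)
    (hv : ∀ g : G, g ∉ N → χ g = 0) :
    Nat.card (inertia N θ) = e ^ 2 * Nat.card N := by
  have h1 := (classInner_res_eq_index_iff (N := N) hχ.classInner_self).2 hv
  have h2 := inner_res hχ hθ he he0 (a := fun n : N => χ n) (classInner_cj_res hχ.isClassFunction · θ)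
  rw [h1, he] at h2
  have h5 : (Nat.card G : ℂ) = (Nat.card N : ℂ) * (N.index : ℂ) := by
    rw [← Nat.cast_mul, Subgroup.card_mul_index]
  have h6 : (N.index : ℂ) ≠ 0 := by exact_mod_cast Subgroup.index_ne_zero_of_finite
  rw [h5] at h2
  have h7 : (N.index : ℂ) * (Nat.card (inertia N θ) : ℂ) = (N.index : ℂ) * ((e ^ 2 * Nat.card N : ℕ) : ℂ) := by
    rw [mul_comm, h2]
    push_cast
    ring
  exact_mod_cast mul_left_cancel₀ h6 h7

/-- inner products of class functions vanishing off `N` -/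
theorem inner_of_vanish {a b : G → ℂ} (hv : ∀ g : G, g ∉ N → a g = 0) :
    (Nat.card G : ℂ) * classInner a b = (Nat.card N : ℂ) * classInner (fun n : N => a n) (fun n : N => b n) := by
  classical
  rw [classInner_def, classInner_def, mul_inv_cancel_left₀ (by exact_mod_cast Nat.card_pos.ne'),
    mul_inv_cancel_left₀ (by exact_mod_cast Nat.card_pos.ne')]
  rw [← Finset.sum_filter_add_sum_filter_not Finset.univ (fun g : G => g ∈ N)]
  rw [Finset.sum_eq_zero (s := Finset.univ.filter (fun g : G => g ∉ N)), add_zero]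
  · symm
    apply Finset.sum_bij (fun (n : N) _ => (n : G))
    · intro n _
      simp
    · intro x _ y _ h
      exact Subtype.ext h
    · intro g hg
      exact ⟨⟨g, (Finset.mem_filter.1 hg).2⟩, Finset.mem_univ _, rfl⟩
    · intro n _; rfl
  · intro g hg
    rw [hv g (Finset.mem_filter.1 hg).2, zero_mul]

/-- a constituent of the restriction to `H` lying over a given character -/
theorem exists_over {a : G → ℂ} (ha : IsCharacter G a) {θ : N → ℂ} (hθ : IsIrrCharacter N θ)
    (h : classInner (fun n : N => a n) θ ≠ 0) :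
    ∃ ψ : IrrCharacter G, classInner a (ψ : G → ℂ) ≠ 0 ∧ classInner (fun n : N => (ψ : G → ℂ) n) θ ≠ 0 := by
  have h1 : classInner a (indFun N θ) ≠ 0 := by
    rw [← conj_classInner, IndFun.frobenius_reciprocity N θ _ ha.isClassFunction, conj_classInner]
    exact h
  obtain ⟨ψ, h2, h3⟩ := exists_common_constituent ha h1
  refine ⟨ψ, h2, ?_⟩
  rw [IndFun.frobenius_reciprocity N θ _ ψ.2.isClassFunction] at h3
  exact classInner_res_ne_zero_comm h3

end clif


theorem inertia_subgroupOf [Finite G] {K H : Subgroup G} [hK : K.Normal] (hKH : K ≤ H) (θ : K → ℂ) (h : H) :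
    h ∈ inertia (K.subgroupOf H) (fun x => θ (subEquiv K H hKH x)) ↔ (h : G) ∈ inertia K θ := by
  rw [mem_inertia', mem_inertia']
  constructor
  · intro h1 n
    have h2 := h1 ⟨⟨n, hKH n.2⟩, n.2⟩
    exact h2
  · intro h1 n
    exact h1 ⟨((n : H) : G), n.2⟩

section core
variable [Finite G] {V K : Subgroup G} [hVn : V.Normal] [hKn : K.Normal] {B : Set (IrrCharacter G)} {n : ℕ}

/-- vanishing off `K` -/
theorem vanish_off (hM : IsPModular p M) (hV : IsPGroup p V) (hVK : V ≤ K)
    (hreg : ∀ x : G, ¬ p ∣ orderOf x → (∀ v ∈ V, v * x = x * v) → x ∈ K)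
    {χ : G → ℂ} (hχ : IsIrrCharacter G χ) (hk : ∀ v ∈ V, χ v = χ 1)
    (hdeg : (charDegree χ).factorization p = V.index.factorization p)
    (hvan : ∀ x : G, ¬ p ∣ orderOf x → w V x ≠ Nat.card V → χ x = 0) {g : G} (hg : g ∉ K) : χ g = 0 := by
  haveI : Fact p.Prime := ⟨hM.1⟩
  obtain ⟨e, f, he⟩ := exists_isRegExp p hM.1 G
  by_cases hf : g ^ f ∈ V
  · have h1 := CosetAvg.mul_eq_of_const' (N := V) hχ.isCharacter (fun n => hk n n.2) ⟨g ^ f, hf⟩ (g ^ e)
    have h2 : (g ^ f) * g ^ e = g := by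
      rw [← (Commute.pow_pow_self g e f).eq, he.mul_eq]
    simp only [h2] at h1
    rw [h1]
    refine hvan _ (he.reg g) ?_
    intro hw
    apply hg
    have h3 := hreg _ (he.reg g) ((w_eq_iff V _).1 hw)
    rw [← h2]
    exact K.mul_mem (hVK hf) h3
  · exact vanish_of_ker hM hV hχ hk hdeg (x := g ^ f) ⟨g ^ e, by rw [← pow_add, add_comm, he.pow_add],
      Commute.pow_pow_self g f e, he.sing g, he.reg g⟩ hf

theorem core (hM : IsPModular p M) (hV : IsPGroup p V)
    (hVK : V ≤ K) (hK : ∀ v ∈ V, ∀ x ∈ K, v * x = x * v)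
    (hreg : ∀ x : G, ¬ p ∣ orderOf x → (∀ v ∈ V, v * x = x * v) → x ∈ K)
    (hB : IsPBlock M B) (hD : IsDefectGroup p M B V)
    (hn : ∀ χ ∈ B, charDegree (χ : G → ℂ) = n) :
    ∃ ρ ∈ B, (∀ v ∈ V, (ρ : G → ℂ) v = (ρ : G → ℂ) 1) ∧
      ∀ (_ : Fintype K) (θ : K → ℂ), IsIrrCharacter K θ → classInner (fun k : K => (ρ : G → ℂ) k) θ ≠ 0 →
        (Nat.card (inertia K θ)).factorization p = (Nat.card K).factorization p →
        ∀ t ∈ inertia K θ, ∀ v ∈ V, v * t = t * v := by
  classical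
  haveI := isPrime hM
  haveI : Fact p.Prime := ⟨hM.1⟩
  haveI := Fintype.ofFinite G
  have hab : ∀ a ∈ V, ∀ b ∈ V, a * b = b * a := fun a ha b hb => hK a ha b (hVK hb)
  obtain ⟨ρ, hρ, hk, hs⟩ := same_reg hM hV hab hB hD hn
  refine ⟨ρ, hρ, hk, ?_⟩
  intro _ θ hθ hθρ hT t ht u hu
  obtain ⟨hBV, hvan⟩ := card_and_vanish hM hV hab hB hD hn hρ hk hs
  have hρV : ∀ v ∈ V, ∀ g : G, (ρ : G → ℂ) (v * g) = (ρ : G → ℂ) g := by
    intro v hv g
    exact CosetAvg.mul_eq_of_const' (N := V) ρ.2.isCharacter (fun n => hk n n.2) ⟨v, hv⟩ g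
  have hρoff : ∀ g, g ∉ K → (ρ : G → ℂ) g = 0 := fun g hg =>
    vanish_off hM hV hVK hreg ρ.2 hk (degree_val hM hab hB hD hρ) hvan hg
  obtain ⟨e₁, he₁⟩ := (ρ.2.isCharacter.restrict K).classInner_nat hθ.isCharacter
  have he₁0 : e₁ ≠ 0 := by
    rintro rfl
    exact hθρ (by rw [he₁, Nat.cast_zero])
  have hcT := card_inertia_of_vanish ρ.2 hθ he₁ he₁0 hρoff
  have hdρ := deg_res ρ.2 hθ he₁ he₁0
  -- the centralizer
  set H : Subgroup G := Subgroup.centralizer {u} with hH
  have hmemH : ∀ g : G, g ∈ H ↔ u * g = g * u := by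
    intro g
    rw [hH, Subgroup.mem_centralizer_singleton_iff]
    exact eq_comm
  have hKH : K ≤ H := fun x hx => (hmemH x).2 (hK u hu x hx)
  have hVH : V ≤ H := hVK.trans hKH
  haveI hV'n : (V.subgroupOf H).Normal := hVn.subgroupOf H
  haveI hK'n : (K.subgroupOf H).Normal := hKn.subgroupOf H
  have hV' : IsPGroup p (V.subgroupOf H) := hV.of_equiv (subEquiv V H hVH).symm
  have hθ' : IsIrrCharacter (K.subgroupOf H) (fun x => θ (subEquiv K H hKH x)) :=
    (isIrrCharacter_comp_mulEquiv_iff (subEquiv K H hKH)).mpr hθ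
  have hρH : IsCharacter H (fun h : H => (ρ : G → ℂ) h) := ρ.2.isCharacter.restrict H
  have hinner : classInner (fun x : K.subgroupOf H => (ρ : G → ℂ) ((x : H) : G))
      (fun x => θ (subEquiv K H hKH x)) = (e₁ : ℂ) := by
    rw [← he₁]
    exact classInner_comp_equiv (subEquiv K H hKH) (fun k : K => (ρ : G → ℂ) k) θ
  obtain ⟨ψ, hψρ, hψθ⟩ := exists_over (N := K.subgroupOf H) hρH hθ' (by
    rw [hinner]; exact_mod_cast he₁0)
  obtain ⟨m, hm⟩ := hρH.classInner_nat ψ.2.isCharacter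
  have hm0 : m ≠ 0 := by
    rintro rfl
    exact hψρ (by rw [hm, Nat.cast_zero])
  obtain ⟨e₂, he₂⟩ := (ψ.2.isCharacter.restrict (K.subgroupOf H)).classInner_nat hθ'.isCharacter
  have he₂0 : e₂ ≠ 0 := by
    rintro rfl
    exact hψθ (by rw [he₂, Nat.cast_zero])
  set T' := inertia (K.subgroupOf H) (fun x => θ (subEquiv K H hKH x)) with hT'
  have hdψ := deg_res ψ.2 hθ' he₂ he₂0
  have hin := inner_res ψ.2 hθ' he₂ he₂0 (a := fun x : K.subgroupOf H => (ρ : G → ℂ) ((x : H) : G))
    (fun g => classInner_cj_res (χ := fun h : H => (ρ : G → ℂ) h) hρH.isClassFunction g _)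
  have hoff : ∀ h : H, h ∉ K.subgroupOf H → (fun h : H => (ρ : G → ℂ) h) h = 0 := fun h hh => hρoff h hh
  have hin2 := inner_of_vanish (N := K.subgroupOf H) (b := (ψ : H → ℂ)) hoff
  have hcK' : Nat.card (K.subgroupOf H) = Nat.card K := SubgroupTools.card_subgroupOf_of_le hKH
  have hcV' : Nat.card (V.subgroupOf H) = Nat.card V := SubgroupTools.card_subgroupOf_of_le hVH
  have hmT : m * Nat.card T' = Nat.card K * e₂ * e₁ := by
    rw [hinner] at hin
    have h1 : ((Nat.card H : ℕ) : ℂ) ≠ 0 := by exact_mod_cast Nat.card_pos.ne'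
    have h2 : (Nat.card H : ℂ) * ((m * Nat.card T' : ℕ) : ℂ) = (Nat.card H : ℂ) * ((Nat.card K * e₂ * e₁ : ℕ) : ℂ) := by
      push_cast
      calc (Nat.card H : ℂ) * ((m : ℂ) * Nat.card T') = ((Nat.card H : ℂ) * m) * Nat.card T' := by ring
        _ = (Nat.card (K.subgroupOf H) : ℂ) * (Nat.card T' * classInner (fun x : K.subgroupOf H => (ρ : G → ℂ) ((x : H) : G))
          (fun x : K.subgroupOf H => (ψ : H → ℂ) x)) := by
            rw [← hm, hin2]; ring
        _ = (Nat.card K : ℂ) * (e₂ * Nat.card H * e₁) := by rw [hin, hcK']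
        _ = _ := by ring
    exact_mod_cast mul_left_cancel₀ h1 h2
  have hT'T : Nat.card T' = Nat.card (inertia K θ ⊓ H : Subgroup G) := by
    have h1 : T' = (inertia K θ ⊓ H).subgroupOf H := by
      ext h
      rw [hT', inertia_subgroupOf hKH, Subgroup.mem_subgroupOf, Subgroup.mem_inf]
      exact ⟨fun h1 => ⟨h1, h.2⟩, fun h1 => h1.1⟩
    rw [h1]
    exact SubgroupTools.card_subgroupOf_of_le inf_le_right
  have hKT : K ≤ inertia K θ := le_inertia hθ.isClassFunction
  have hνT' : (Nat.card T').factorization p = (Nat.card K).factorization p := by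
    rw [hT'T]
    apply le_antisymm
    · rw [← hT]
      exact (Nat.factorization_le_iff_dvd Nat.card_pos.ne' Nat.card_pos.ne').2
        (Subgroup.card_dvd_of_le inf_le_left) p
    · exact (Nat.factorization_le_iff_dvd Nat.card_pos.ne' Nat.card_pos.ne').2
        (Subgroup.card_dvd_of_le (le_inf hKT hKH)) p
  have hcd : charDegree (fun x : K.subgroupOf H => θ (subEquiv K H hKH x)) = charDegree θ := by
    have h1 := (charDegree_spec hθ').1
    have h2 := (charDegree_spec hθ).1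
    rw [map_one, h2] at h1
    exact_mod_cast h1.symm
  have hmul : ∀ {a b : ℕ}, a ≠ 0 → b ≠ 0 → (a * b).factorization p = a.factorization p + b.factorization p := by
    intro a b ha hb
    rw [Nat.factorization_mul ha hb]
    rfl
  have hcT0 : Nat.card (inertia K θ) ≠ 0 := Nat.card_pos.ne'
  have hcK0 : Nat.card K ≠ 0 := Nat.card_pos.ne'
  have hcG0 : Nat.card G ≠ 0 := Nat.card_pos.ne'
  have hcH0 : Nat.card H ≠ 0 := Nat.card_pos.ne'
  have hcT'0 : Nat.card T' ≠ 0 := Nat.card_pos.ne'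
  have hcV0 : Nat.card V ≠ 0 := Nat.card_pos.ne'
  have hθ0 : charDegree θ ≠ 0 := (charDegree_pos hθ).ne'
  have hψ0 : charDegree (ψ : H → ℂ) ≠ 0 := (charDegree_pos ψ.2).ne'
  have hρ0 : charDegree (ρ : G → ℂ) ≠ 0 := (charDegree_pos ρ.2).ne'
  have hν1 : e₁.factorization p = 0 := by
    have h1 := hT
    rw [hcT, hmul (pow_ne_zero _ he₁0) hcK0, sq, hmul he₁0 he₁0] at h1
    omega
  have hVi : (Nat.card G).factorization p = (Nat.card V).factorization p + V.index.factorization p := by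
    rw [← hmul hcV0 Subgroup.index_ne_zero_of_finite, Subgroup.card_mul_index]
  have hV'i : (Nat.card H).factorization p = (Nat.card V).factorization p + (V.subgroupOf H).index.factorization p := by
    rw [← hcV', ← hmul (by rw [hcV']; exact hcV0) Subgroup.index_ne_zero_of_finite, Subgroup.card_mul_index]
  have hνρ := degree_val hM hab hB hD hρ
  have hν2 : (charDegree θ).factorization p + (Nat.card V).factorization p = (Nat.card K).factorization p := by
    have h1 := congrArg (fun n => n.factorization p) hdρ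
    rw [hmul hρ0 hcT0, hmul (Nat.mul_ne_zero he₁0 hcG0) hθ0, hmul he₁0 hcG0, hν1, hT, hνρ] at h1
    omega
  have hito : (charDegree (ψ : H → ℂ)).factorization p ≤ (V.subgroupOf H).index.factorization p := by
    have h1 := CharDegrees.ito ψ.2 (V.subgroupOf H) (fun a ha b hb => Subtype.ext (hab a ha b hb)) _
      (charDegree_cast_irr ψ).symm
    exact (Nat.factorization_le_iff_dvd hψ0 Subgroup.index_ne_zero_of_finite).2 h1 p
  have hdψ' := congrArg (fun n => n.factorization p) hdψ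
  rw [hcd, ← hT', hmul hψ0 hcT'0, hmul (Nat.mul_ne_zero he₂0 hcH0) hθ0, hmul he₂0 hcH0, hνT'] at hdψ'
  have hν3 : e₂.factorization p = 0 := by omega
  have hν4 : (charDegree (ψ : H → ℂ)).factorization p = (V.subgroupOf H).index.factorization p := by omega
  have hmT' := congrArg (fun n => n.factorization p) hmT
  rw [hmul hm0 hcT'0, hmul (Nat.mul_ne_zero hcK0 he₂0) he₁0, hmul hcK0 he₂0, hνT', hν1, hν3] at hmT'
  have hpm : ¬ p ∣ m := by
    intro h1
    have h2 := (hM.1.dvd_iff_one_le_factorization hm0).1 h1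
    omega
  obtain ⟨e, f, he⟩ := exists_isRegExp p hM.1 H
  obtain ⟨k, hzo⟩ := (IsPGroup.iff_orderOf.1 hV) ⟨u, hu⟩
  have huH : u ∈ H := hVH hu
  have hψk : ∀ v ∈ V.subgroupOf H, (ψ : H → ℂ) v = (ψ : H → ℂ) 1 := fun v hv =>
    Garrison.ker_constituent hρH ψ.2 hψρ (x := v) (hk _ hv)
  obtain ⟨hm1, hψv⟩ := mult_one (H := H) (V := V.subgroupOf H) (ψ := ψ) hM he hV' hψk hν4
    (z := ⟨u, huH⟩) (fun h => Subtype.ext ((hmemH h).1 h.2)) (k := k)
    (by rw [← hzo, ← Subgroup.orderOf_coe, ← Subgroup.orderOf_coe]) (fun g => hmemH g) (B := B)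
    (by rw [hcV']; exact hBV) hρ hs hu (fun v hv g => hρV v hv g) hm hpm
  have hψoff : ∀ h : H, h ∉ K.subgroupOf H → (ψ : H → ℂ) h = 0 := fun h hh =>
    vanish_off (V := V.subgroupOf H) (K := K.subgroupOf H) hM hV' (fun x hx => hVK hx)
      (fun x hx hx2 => hreg x (by rw [Subgroup.orderOf_coe]; exact hx) (fun v hv => by
        have := hx2 ⟨v, hVH hv⟩ hv
        exact congrArg Subtype.val this)) ψ.2 hψk hν4 hψv hh
  have hcT'2 := card_inertia_of_vanish ψ.2 hθ' he₂ he₂0 hψoff
  rw [← hT', hcK'] at hcT'2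
  rw [hm1, one_mul, hcT'2] at hmT
  have h12 : e₁ = e₂ := by
    have h1 : (Nat.card K * e₂) * e₂ = (Nat.card K * e₂) * e₁ := by
      rw [← hmT]; ring
    exact (Nat.eq_of_mul_eq_mul_left (Nat.pos_of_ne_zero (Nat.mul_ne_zero hcK0 he₂0)) h1).symm
  rw [← h12, ← hcT, hT'T] at hcT'2
  have h13 : inertia K θ ⊓ H = inertia K θ := Subgroup.eq_of_le_of_card_ge inf_le_left hcT'2.ge
  have h14 : t ∈ H := by
    have : t ∈ inertia K θ ⊓ H := by rw [h13]; exact ht
    exact this.2
  exact (hmemH t).1 h14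

end core

end Cfsg.Agent.Lib.H16SD3
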