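import Mathlib
import Cfsg.Prelude.Def_CaseTheorems

set_option autoImplicit false

namespace Cfsg.Agent.Lib.H17A

/-- the four-group `{1, z, v, v z}` -/
def V4 {X : Type*} [Group X] (z v : X) : Set X := {1, z, v, v * z}

/-- the local data: `A` has index two in `X`, `T` is a Sylow two-subgroup of `X`, `S = T ⊓ A`. -/
structure Loc {X : Type*} [Group X] (A S T : Subgroup X) (t r z : X) : Prop where
  An : A.Normal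
  tA : t ∉ A
  tt : t * t = 1
  ix : ∀ x : X, x ∉ A → t * x ∈ A
  tT : t ∈ T
  ST : ∀ x, x ∈ S ↔ x ∈ T ∧ x ∈ A
  p2 : IsPGroup 2 T
  syl : ∀ Q : Subgroup X, IsPGroup 2 Q → T ≤ Q → Q = T
  rS : r ∈ S
  tr : t * r = r * t
  rz : r * r = z
  z1 : z ≠ 1
  zz : z * z = 1
  cS : ∀ s ∈ S, t * s = s * t → s = 1 ∨ s = r ∨ s = z ∨ s = r * z

/-- the fusion black boxes -/
structure Fus {X : Type*} [Group X] (A S T : Subgroup X) (t r z : X) : Prop where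
  zstar : ∀ u ∈ S, u * u = 1 → (∀ a ∈ A, a * u * a⁻¹ ∈ S → a * u * a⁻¹ = u) → ∀ a ∈ A, a * u = u * a
  iso2 : (∀ a ∈ A, a * z = z * a) → ∀ v ∈ S, v * v = 1 →
    (∀ a ∈ A, a * v * a⁻¹ ∈ S → a * v * a⁻¹ = v ∨ a * v * a⁻¹ = v * z) → ∀ a ∈ A, a * v = v * a
  tt2 : ∀ M : Subgroup X, M ≤ S → M.relIndex S = 2 → ∀ u ∈ S, u ^ 4 = 1 → u ∉ M →
    (∀ a ∈ A, a * (u * u) * a⁻¹ ∈ S → a * (u * u) * a⁻¹ ∈ M) → ∃ a ∈ A, a * u * a⁻¹ ∈ M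
  ext : ∀ v ∈ S, ∀ a ∈ A, a * v * a⁻¹ = z → ∃ g : X, g * v * g⁻¹ = z ∧ ∀ x ∈ T, x * v = v * x → g * x * g⁻¹ ∈ T
  burn : ∀ u ∈ S, ∀ w ∈ S, (∀ s ∈ S, s * u = u * s) → (∀ s ∈ S, s * w = w * s) → ∀ a ∈ A, a * u * a⁻¹ = w →
    ∃ n ∈ A, (∀ s ∈ S, n * s * n⁻¹ ∈ S) ∧ n * u * n⁻¹ = w
  foc : ∀ u ∈ S, (∀ a ∈ A, a * u = u * a) → u ∈ ⁅S, S⁆
  two : ∀ n ∈ A, (∀ s ∈ S, n * s * n⁻¹ ∈ S) → (∃ k : ℕ, n ^ (2 ^ k) = 1) → n ∈ S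
  z44 : ¬ Nonempty (S ≃* Multiplicative (ZMod (2 ^ 2) × ZMod (2 ^ 2)))
  ct : ∀ g : X, ∀ Q : Subgroup X, Q ≤ S → (∀ q ∈ Q, g * t * g⁻¹ * q = q * (g * t * g⁻¹)) → Nat.card Q ≤ 4

/-- a normal four-group -/
structure Four {X : Type*} [Group X] (S T : Subgroup X) (z v : X) : Prop where
  vS : v ∈ S
  vv : v * v = 1
  v1 : v ≠ 1
  vz : v ≠ z
  hv : ∀ x ∈ T, x * v * x⁻¹ = v ∨ x * v * x⁻¹ = v * z

/-- `S/V` is cyclic -/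
def SCyc {X : Type*} [Group X] (S : Subgroup X) (z v : X) : Prop :=
  ∃ c ∈ S, ∀ s ∈ S, ∃ i : ℕ, ∃ w ∈ V4 z v, s = c ^ i * w

/-- `S/V` is generated by `b` and `b ^ t` -/
def SGen {X : Type*} [Group X] (S : Subgroup X) (t z v b : X) : Prop :=
  ∀ s ∈ S, ∃ i : ℕ, ∃ w ∈ V4 z v, s = (t * b * t * b) ^ i * w ∨ s = (t * b * t * b) ^ i * b * w

variable {X : Type*} [Group X] [Finite X] {A S T : Subgroup X} {t r z v : X}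

end Cfsg.Agent.Lib.H17A
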