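import Cfsg.Agent.Lib.H17A0
import Cfsg.Agent.Lib.UniqueInvolution

set_option autoImplicit false

namespace Cfsg.Agent.Lib.H17A

universe u

variable {X : Type u} [Group X] [Finite X] {A S T : Subgroup X} {t r z v : X}

theorem zT (L : Loc A S T t r z) : ∀ x ∈ T, x * z = z * x := by
  have hzS : z ∈ S := L.rz ▸ S.mul_mem L.rS L.rS
  have hST : S ≤ T := fun s hs => ((L.ST s).1 hs).1
  -- N := S as a subgroup of T, normal and nontrivial
  have hN : (S.subgroupOf T).Normal := by
    refine ⟨fun s hs g => ?_⟩
    rw [Subgroup.mem_subgroupOf] at hs ⊢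
    rw [L.ST] at hs ⊢
    exact ⟨(g * s * g⁻¹).2, by
      simpa using L.An.conj_mem _ hs.2 (g : X)⟩
  have hne : (S.subgroupOf T) ≠ ⊥ := by
    intro h
    have : (⟨z, hST hzS⟩ : T) ∈ S.subgroupOf T := by
      rw [Subgroup.mem_subgroupOf]; exact hzS
    rw [h, Subgroup.mem_bot] at this
    exact L.z1 (congrArg Subtype.val this)
  have := Fact.mk Nat.prime_two
  obtain ⟨y, hyN, hy1, hyc⟩ := UniqueInvolution.exists_central_of_normal L.p2 (S.subgroupOf T) hne
  have hyS : (y : X) ∈ S := by simpa [Subgroup.mem_subgroupOf] using hyN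
  have hyT : ∀ x ∈ T, x * (y : X) = y * x := by
    intro x hx
    exact congrArg Subtype.val (hyc ⟨x, hx⟩)
  have hy1' : (y : X) ≠ 1 := fun h => hy1 (Subtype.ext h)
  have hrz : r * z = z * r := by rw [← L.rz]; group
  rcases L.cS y hyS (hyT t L.tT) with h | h | h | h
  · exact absurd h hy1'
  · intro x hx
    have := hyT x hx
    rw [h] at this
    rw [← L.rz, ← mul_assoc, this, mul_assoc, this, ← mul_assoc]
  · intro x hx
    have := hyT x hx
    rwa [h] at this
  · intro x hx
    have := hyT x hx
    rw [h] at this
    have h2 : (r * z) * (r * z) = z := by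
      rw [mul_assoc, ← mul_assoc z r z, ← hrz, mul_assoc r z z, L.zz, mul_one, L.rz]
    rw [← h2, ← mul_assoc, this, mul_assoc, this, ← mul_assoc]

theorem tv (L : Loc A S T t r z) (F : Four S T z v) : t * v * t⁻¹ = v * z := by
  rcases F.hv t L.tT with h | h
  · exfalso
    have h' : t * v = v * t := mul_inv_eq_iff_eq_mul.1 h
    have hr2 : r * r ≠ 1 := by rw [L.rz]; exact L.z1
    have hrz : r * z = z * r := by rw [← L.rz]; group
    rcases L.cS v F.vS h' with e | e | e | e
    · exact F.v1 e
    · exact hr2 (by rw [← e]; exact F.vv)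
    · exact F.vz e
    · refine L.z1 ?_
      have h2 : (r * z) * (r * z) = z := by
        rw [mul_assoc, ← mul_assoc z r z, ← hrz, mul_assoc r z z, L.zz, mul_one, L.rz]
      rw [← h2, ← e]; exact F.vv
  · exact h

theorem cbar (L : Loc A S T t r z) (F : Four S T z v) : ∀ s ∈ S, t * s * t * s⁻¹ ∈ V4 z v →
    s ∈ V4 z v ∨ r * s ∈ V4 z v := by
  intro s hs hw
  have hzT := zT L
  have htinv : t⁻¹ = t := inv_eq_of_mul_eq_one_left L.tt
  have hzinv : z⁻¹ = z := inv_eq_of_mul_eq_one_left L.zz
  have htz : t * z = z * t := hzT t L.tT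
  have hvT : v ∈ T := ((L.ST v).1 F.vS).1
  have hvz : v * z = z * v := hzT v hvT
  have htv : t * v = v * z * t := by
    have h := tv L F
    rw [mul_inv_eq_iff_eq_mul] at h; exact h
  have hsz : s * z = z * s := hzT s ((L.ST s).1 hs).1
  have hrz : r * z = z * r := by rw [← L.rz]; group
  have hrr : r * r = z := L.rz
  -- `x` commuting with `t`
  have key : ∀ x ∈ S, t * x = x * t → x ∈ V4 z v ∨ r * x ∈ V4 z v := by
    intro x hx h
    rcases L.cS x hx h with e | e | e | e
    · left; left; exact e
    · right; right; left; rw [e, hrr]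
    · left; right; left; exact e
    · right; left; rw [e, ← mul_assoc, hrr, L.zz]
  obtain ⟨w, hwdef⟩ : ∃ w, w = t * s * t * s⁻¹ := ⟨_, rfl⟩
  rw [← hwdef] at hw
  have hts : t * s = w * s * t := by
    rw [hwdef]
    have : t * t = 1 := L.tt
    calc t * s = t * s * (t * t) := by rw [this, mul_one]
      _ = _ := by group
  -- `w` is fixed by `t`
  have hww : t * w * t = w⁻¹ := by
    rw [hwdef]
    calc t * (t * s * t * s⁻¹) * t = (t * t) * s * t * s⁻¹ * t := by group
      _ = s * t * s⁻¹ * t := by rw [L.tt, one_mul]
      _ = s * t⁻¹ * s⁻¹ * t⁻¹ := by rw [htinv]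
      _ = (t * s * t * s⁻¹)⁻¹ := by group
  have hw1z : w = 1 ∨ w = z := by
    rcases hw with e | e | e | e
    · left; exact e
    · right; exact e
    · exfalso
      rw [e] at hww
      have : v * z = v := by
        calc v * z = v * z * (t * t) := by rw [L.tt, mul_one]
          _ = (v * z * t) * t := by group
          _ = t * v * t := by rw [htv]
          _ = v⁻¹ := hww
          _ = v := inv_eq_of_mul_eq_one_left F.vv
      exact L.z1 (by simpa using this)
    · exfalso
      have e : w = v * z := e
      rw [e] at hww
      have h1 : t * (v * z) * t = v := by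
        calc t * (v * z) * t = (t * v) * (z * t) := by group
          _ = v * z * t * (t * z) := by rw [htv, htz]
          _ = v * z * (t * t) * z := by group
          _ = v * (z * z) := by rw [L.tt]; group
          _ = v := by rw [L.zz, mul_one]
      have h2 : (v * z)⁻¹ = v * z := by
        apply inv_eq_of_mul_eq_one_left
        calc v * z * (v * z) = v * (z * v) * z := by group
          _ = v * (v * z) * z := by rw [hvz]
          _ = (v * v) * (z * z) := by group
          _ = 1 := by rw [F.vv, L.zz, mul_one]
      rw [h1, h2] at hww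
      exact L.z1 (by simpa using hww.symm)
  rcases hw1z with e | e
  · exact key s hs (by rw [hts, e, one_mul])
  · -- `s * v` is fixed by `t`
    have hsv : t * (s * v) = s * v * t := by
      calc t * (s * v) = (t * s) * v := by group
        _ = z * s * (t * v) := by rw [hts, e]; group
        _ = z * s * (v * z * t) := by rw [htv]
        _ = (s * z) * (v * z * t) := by rw [hsz]
        _ = s * (z * v) * (z * t) := by group
        _ = s * (v * z) * (z * t) := by rw [hvz]
        _ = s * v * (z * z) * t := by group
        _ = s * v * t := by rw [L.zz, mul_one]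
    have hVmul : ∀ x, x * v ∈ V4 z v → x ∈ V4 z v := by
      intro x hx
      have hx' : x = x * v * v := by rw [mul_assoc, F.vv, mul_one]
      rcases hx with h | h | h | h
      · rw [hx', h]; right; right; left; simp
      · rw [hx', h]; right; right; right; exact hvz.symm
      · rw [hx', h]; left; exact F.vv
      · have h : x * v = v * z := h
        rw [hx', h]; right; left
        calc v * z * v = v * (z * v) := by group
          _ = v * (v * z) := by rw [hvz]
          _ = (v * v) * z := by group
          _ = z := by rw [F.vv, one_mul]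
    rcases key (s * v) (S.mul_mem hs F.vS) hsv with h | h
    · left; exact hVmul s h
    · right; exact hVmul (r * s) (by rw [mul_assoc]; exact h)

end Cfsg.Agent.Lib.H17A
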