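import Cfsg.Agent.Lib.H17A0
import Cfsg.Agent.Lib.Cores3
import Cfsg.Agent.Lib.CoprimeGen
import Cfsg.Agent.S3761

/-! S1914, piece II1 (helper10): no normal four-group. -/

set_option autoImplicit false
set_option linter.all false

namespace Cfsg.Agent.Lib.H17A

open Cfsg Subgroup

universe u

section
variable {X : Type u} [Group X] [Finite X] {A S T : Subgroup X} {t r z v : X}

/-- `T`-invariance -/
def c1_Inv (T E : Subgroup X) : Prop := ∀ x ∈ T, ∀ s ∈ E, x * s * x⁻¹ ∈ E

theorem c1_center (h2 : IsPGroup 2 T) {E : Subgroup X} (hET : E ≤ T) (hE : c1_Inv T E) (hne : E ≠ ⊥) :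
    ∃ x ∈ E, x ≠ 1 ∧ ∀ y ∈ T, y * x = x * y := by
  haveI : Group.IsNilpotent T := h2.isNilpotent
  have hn : (E.subgroupOf T).Normal := by
    refine ⟨?_⟩
    intro n hn g
    rw [mem_subgroupOf] at hn ⊢
    exact hE _ g.2 _ hn
  have hne' : E.subgroupOf T ≠ ⊥ := by
    intro h
    rw [subgroupOf_eq_bot, disjoint_iff] at h
    apply hne
    rw [← h, inf_eq_left.2 hET]
  obtain ⟨x, hx, hxc, hx1⟩ := Cores.exists_mem_center_of_normal hn hne'
  refine ⟨x, mem_subgroupOf.1 hx, fun h => hx1 (Subtype.ext h), fun y hy => ?_⟩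
  rw [mem_center_iff] at hxc
  exact congrArg Subtype.val (hxc ⟨y, hy⟩)

theorem c1_SInv (L : Loc A S T t r z) : c1_Inv T S := by
  intro x hx s hs
  obtain ⟨h1, h2⟩ := (L.ST s).1 hs
  exact (L.ST _).2 ⟨T.mul_mem (T.mul_mem hx h1) (T.inv_mem hx), L.An.conj_mem _ h2 x⟩

theorem c1_SleT (L : Loc A S T t r z) : S ≤ T := fun s hs => ((L.ST s).1 hs).1

theorem c1_zT (L : Loc A S T t r z) : ∀ x ∈ T, x * z = z * x := by
  have hne : S ≠ ⊥ := by
    intro h
    have := L.rS
    rw [h, mem_bot] at this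
    exact L.z1 (by rw [← L.rz, this, mul_one])
  obtain ⟨x, hx, hx1, hxc⟩ := c1_center L.p2 (c1_SleT L) (c1_SInv L) hne
  rcases L.cS x hx (hxc t L.tT) with h | h | h | h
  · exact absurd h hx1
  · intro y hy
    have h1 := hxc y hy
    rw [h] at h1
    have h2 : Commute y r := h1
    have := h2.mul_right h2
    rw [L.rz] at this
    exact this
  · rw [← h]; exact hxc
  · have hrz : Commute r z := by
      have : Commute r (r * r) := (Commute.refl r).mul_right (Commute.refl r)
      rwa [L.rz] at this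
    have hxx : x * x = z := by
      rw [h]
      calc r * z * (r * z) = (r * r) * (z * z) := by rw [mul_assoc, ← mul_assoc z r z, ← hrz.eq]; group
        _ = z := by rw [L.rz, L.zz, mul_one]
    intro y hy
    have h2 : Commute y x := hxc y hy
    have := h2.mul_right h2
    rw [hxx] at this
    exact this

theorem c1_rr (L : Loc A S T t r z) {w : X} (hw : w ∈ S) (hww : w * w = 1) (htw : t * w = w * t) : w = 1 ∨ w = z := by
  rcases L.cS w hw htw with h | h | h | h
  · exact Or.inl h
  · exfalso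
    rw [h, L.rz] at hww
    exact L.z1 hww
  · exact Or.inr h
  · exfalso
    have hrz : Commute r z := by
      have : Commute r (r * r) := (Commute.refl r).mul_right (Commute.refl r)
      rwa [L.rz] at this
    rw [h] at hww
    apply L.z1
    calc z = (r * r) * (z * z) := by rw [L.rz, L.zz, mul_one]
      _ = r * z * (r * z) := by rw [mul_assoc r z (r * z), ← mul_assoc z r z, ← hrz.eq]; group
      _ = 1 := hww

/-- the main tool: a four-group from a `T`-invariant abelian subgroup -/
theorem c1_four (L : Loc A S T t r z) {E : Subgroup X} (hES : E ≤ S) (hE : c1_Inv T E)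
    (hab : ∀ a ∈ E, ∀ b ∈ E, a * b = b * a) {v : X} (hv : v ∈ E) (hvv : v * v = 1) (hv1 : v ≠ 1) (hvz : v ≠ z) :
    Four S T z v := by
  have ti : t⁻¹ = t := inv_eq_of_mul_eq_one_right L.tt
  have key : ∀ s ∈ E, s * s = 1 → s ≠ 1 → s ≠ z → t * s * t = s * z := by
    intro s hs hss hs1 hsz
    have hq : t * s * t ∈ E := by
      have := hE t L.tT s hs
      rwa [ti] at this
    have hqq : (t * s * t) * (t * s * t) = 1 := by
      calc (t * s * t) * (t * s * t) = t * s * (t * t) * s * t := by group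
        _ = t * (s * s) * t := by rw [L.tt]; group
        _ = 1 := by rw [hss, mul_one, L.tt]
    have hc : Commute s (t * s * t) := hab s hs _ hq
    have hww : (s * (t * s * t)) * (s * (t * s * t)) = 1 := by
      have := hc.mul_mul_mul_comm s (t * s * t)
      calc (s * (t * s * t)) * (s * (t * s * t)) = s * ((t * s * t) * s) * (t * s * t) := by group
        _ = s * (s * (t * s * t)) * (t * s * t) := by rw [hc.eq]
        _ = (s * s) * ((t * s * t) * (t * s * t)) := by group
        _ = 1 := by rw [hss, hqq, one_mul]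
    have htw : t * (s * (t * s * t)) = (s * (t * s * t)) * t := by
      calc t * (s * (t * s * t)) = (t * s * t) * s * t := by group
        _ = s * (t * s * t) * t := by rw [hc.eq]
    rcases c1_rr L (S.mul_mem (hES hs) (hES hq)) hww htw with h | h
    · exfalso
      have h1 : t * s * t = s := by
        calc t * s * t = s * s * (t * s * t) := by rw [hss, one_mul]
          _ = s * (s * (t * s * t)) := by rw [mul_assoc]
          _ = s := by rw [h, mul_one]
      have h2 : t * s = s * t := by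
        calc t * s = t * s * (t * t) := by rw [L.tt, mul_one]
          _ = (t * s * t) * t := by group
          _ = s * t := by rw [h1]
      rcases c1_rr L (hES hs) hss h2 with h | h
      · exact hs1 h
      · exact hsz h
    · calc t * s * t = s * s * (t * s * t) := by rw [hss, one_mul]
        _ = s * (s * (t * s * t)) := by rw [mul_assoc]
        _ = s * z := by rw [h]
  have zc := c1_zT L
  refine ⟨hES hv, hvv, hv1, hvz, fun x hx => ?_⟩
  set w := x * v * x⁻¹ with hw
  have hwE : w ∈ E := hE x hx v hv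
  have hww : w * w = 1 := by
    calc w * w = x * (v * v) * x⁻¹ := by rw [hw]; group
      _ = 1 := by rw [hvv]; group
  have hw1 : w ≠ 1 := by
    intro h
    apply hv1
    calc v = x⁻¹ * w * x := by rw [hw]; group
      _ = 1 := by rw [h]; group
  have hwz : w ≠ z := by
    intro h
    apply hvz
    calc v = x⁻¹ * w * x := by rw [hw]; group
      _ = x⁻¹ * (z * x) := by rw [h]; group
      _ = z := by rw [← zc x hx]; group
  have hc : Commute v w := hab v hv w hwE
  have h1 := key v hv hvv hv1 hvz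
  have h2 := key w hwE hww hw1 hwz
  have hzw : z * w = w * z := (zc w (c1_SleT L (hES hwE))).symm
  have h3 : t * (v * w) * t = v * w := by
    calc t * (v * w) * t = t * v * (t * t) * w * t := by rw [L.tt]; group
      _ = (t * v * t) * (t * w * t) := by group
      _ = v * z * (w * z) := by rw [h1, h2]
      _ = v * (z * w) * z := by group
      _ = v * w * (z * z) := by rw [hzw]; group
      _ = v * w := by rw [L.zz, mul_one]
  have hvw2 : (v * w) * (v * w) = 1 := by
    calc (v * w) * (v * w) = v * (w * v) * w := by group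
      _ = v * (v * w) * w := by rw [hc.eq]
      _ = (v * v) * (w * w) := by group
      _ = 1 := by rw [hvv, hww, one_mul]
  by_cases h4 : v * w = 1
  · left
    calc w = (v * v) * w := by rw [hvv, one_mul]
      _ = v * (v * w) := by rw [mul_assoc]
      _ = v := by rw [h4, mul_one]
  · by_cases h5 : v * w = z
    · right
      calc w = (v * v) * w := by rw [hvv, one_mul]
        _ = v * (v * w) := by rw [mul_assoc]
        _ = v * z := by rw [h5]
    · exfalso
      have h6 := key (v * w) (E.mul_mem hv hwE) hvw2 h4 h5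
      rw [h3] at h6
      exact L.z1 (mul_left_cancel (h6.symm.trans (mul_one _).symm))

/-- self-centralizing maximal abelian `T`-invariant subgroup -/
theorem c1_max (h2 : IsPGroup 2 T) (hST : S ≤ T) (hS : c1_Inv T S) :
    ∃ N : Subgroup X, N ≤ S ∧ c1_Inv T N ∧ (∀ a ∈ N, ∀ b ∈ N, a * b = b * a) ∧
      ∀ x ∈ S, (∀ a ∈ N, x * a = a * x) → x ∈ N := by
  obtain ⟨N, ⟨hNS, hN, hab⟩, hmax⟩ := (wellFounded_gt (α := Subgroup X)).has_min
    {N : Subgroup X | N ≤ S ∧ c1_Inv T N ∧ ∀ a ∈ N, ∀ b ∈ N, a * b = b * a}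
    ⟨⊥, bot_le, by
      intro x _ s hs
      rw [mem_bot] at hs ⊢
      rw [hs]; group, by
      intro a ha b hb
      rw [mem_bot] at ha hb
      rw [ha, hb]⟩
  refine ⟨N, hNS, hN, hab, ?_⟩
  by_contra hcon
  push Not at hcon
  obtain ⟨c, hcS, hcN, hc⟩ := hcon
  haveI : Group.IsNilpotent T := h2.isNilpotent
  let N' : Subgroup T := N.subgroupOf T
  haveI hN'n : N'.Normal := by
    refine ⟨?_⟩
    intro n hn g
    rw [mem_subgroupOf] at hn ⊢
    exact hN _ g.2 _ hn
  let C : Subgroup T := (S ⊓ centralizer (N : Set X)).subgroupOf T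
  have hCm : ∀ y : T, y ∈ C ↔ (y : X) ∈ S ∧ ∀ a ∈ N, (y : X) * a = a * y := by
    intro y
    rw [mem_subgroupOf, mem_inf, mem_centralizer_iff]
    constructor
    · rintro ⟨h1, h2⟩
      exact ⟨h1, fun a ha => (h2 a ha).symm⟩
    · rintro ⟨h1, h2⟩
      exact ⟨h1, fun a ha => (h2 a ha).symm⟩
  have hCn : C.Normal := by
    refine ⟨?_⟩
    intro n hn g
    rw [hCm] at hn ⊢
    refine ⟨hS _ g.2 _ hn.1, fun a ha => ?_⟩
    have h1 : (g : X)⁻¹ * a * g ∈ N := by
      have := hN (g : X)⁻¹ (T.inv_mem g.2) a ha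
      rwa [inv_inv] at this
    have h2 := hn.2 _ h1
    have h3 : ((g * n * g⁻¹ : T) : X) = (g : X) * n * (g : X)⁻¹ := rfl
    rw [h3]
    calc (g : X) * n * (g : X)⁻¹ * a = g * (n * ((g : X)⁻¹ * a * g)) * (g : X)⁻¹ := by group
      _ = g * (((g : X)⁻¹ * a * g) * n) * (g : X)⁻¹ := by rw [h2]
      _ = _ := by group
  have hK : (C.map (QuotientGroup.mk' N')).Normal := hCn.map _ (QuotientGroup.mk'_surjective N')
  have hK1 : C.map (QuotientGroup.mk' N') ≠ ⊥ := by
    intro h
    rw [Subgroup.map_eq_bot_iff, QuotientGroup.ker_mk'] at h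
    apply hc
    have : (⟨c, hST hcS⟩ : T) ∈ C := (hCm _).2 ⟨hcS, hcN⟩
    exact mem_subgroupOf.1 (h this)
  obtain ⟨x', hx', hxc, hx1⟩ := Cores.exists_mem_center_of_normal hK hK1
  obtain ⟨x, hxC, rfl⟩ := hx'
  have hxN : (x : X) ∉ N := fun h => hx1 ((QuotientGroup.eq_one_iff x).2 (mem_subgroupOf.2 h))
  rw [SetLike.mem_coe, hCm] at hxC
  have hcomm : ∀ y ∈ T, y * x * y⁻¹ * (x : X)⁻¹ ∈ N := by
    intro y hy
    rw [mem_center_iff] at hxc
    have h1 := hxc (QuotientGroup.mk' N' ⟨y, hy⟩)
    have h2 : QuotientGroup.mk' N' (⟨y, hy⟩ * x * ⟨y, hy⟩⁻¹ * x⁻¹) = 1 := by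
      rw [map_mul, map_mul, map_mul, map_inv, map_inv, h1]
      group
    have h3 := (QuotientGroup.eq_one_iff _).1 h2
    exact mem_subgroupOf.1 h3
  have hxcN : ∀ n ∈ N, Commute n (x : X) := fun n hn => (hxC.2 n hn).symm
  -- the larger subgroup
  let M : Subgroup X :=
    { carrier := {y | ∃ n ∈ N, ∃ k : ℤ, y = n * (x : X) ^ k}
      one_mem' := ⟨1, N.one_mem, 0, by rw [zpow_zero, mul_one]⟩
      mul_mem' := by
        rintro _ _ ⟨n, hn, k, rfl⟩ ⟨m, hm, l, rfl⟩
        refine ⟨n * m, N.mul_mem hn hm, k + l, ?_⟩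
        have h1 : Commute m ((x : X) ^ k) := (hxcN m hm).zpow_right k
        calc n * (x : X) ^ k * (m * (x : X) ^ l) = n * ((x : X) ^ k * m) * (x : X) ^ l := by group
          _ = n * (m * (x : X) ^ k) * (x : X) ^ l := by rw [h1.eq]
          _ = _ := by rw [zpow_add]; group
      inv_mem' := by
        rintro _ ⟨n, hn, k, rfl⟩
        refine ⟨n⁻¹, N.inv_mem hn, -k, ?_⟩
        have h1 : Commute n⁻¹ ((x : X) ^ (-k)) := (hxcN _ (N.inv_mem hn)).zpow_right _
        rw [mul_inv_rev, ← zpow_neg, h1.eq] }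
  have hxM : (x : X) ∈ M := ⟨1, N.one_mem, 1, by rw [zpow_one, one_mul]⟩
  have hNM : N ≤ M := fun n hn => ⟨n, hn, 0, by rw [zpow_zero, mul_one]⟩
  have hMab : ∀ a ∈ M, ∀ b ∈ M, a * b = b * a := by
    rintro _ ⟨n, hn, k, rfl⟩ _ ⟨m, hm, l, rfl⟩
    have c2 : Commute n m := hab n hn m hm
    have c3 : Commute (n * (x : X) ^ k) (m * (x : X) ^ l) :=
      (c2.mul_right ((hxcN n hn).zpow_right l)).mul_left
        (((hxcN m hm).symm.zpow_left k).mul_right ((Commute.refl (x : X)).zpow_zpow k l))
    exact c3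
  have hMS : M ≤ S := by
    rintro _ ⟨n, hn, k, rfl⟩
    exact S.mul_mem (hNS hn) (S.zpow_mem hxC.1 k)
  have hMinv : c1_Inv T M := by
    rintro y hy _ ⟨n, hn, k, rfl⟩
    have h1 : y * (n * (x : X) ^ k) * y⁻¹ = (y * n * y⁻¹) * (y * x * y⁻¹) ^ k := by
      rw [conj_zpow]; group
    rw [h1]
    refine M.mul_mem (hNM (hN y hy n hn)) (M.zpow_mem ?_ k)
    have h2 : y * (x : X) * y⁻¹ = (y * x * y⁻¹ * (x : X)⁻¹) * x := by group
    rw [h2]
    exact M.mul_mem (hNM (hcomm y hy)) hxM
  exact hmax M ⟨hMS, hMinv, hMab⟩ (lt_of_le_of_ne hNM (fun h => hxN (h ▸ hxM)))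

theorem c1_card {ι : Type*} (f : ι → X) (hf : Function.Injective f) (h : ∀ a, f a = 1 ∨ f a = z) : Nat.card ι ≤ 2 := by
  have h1 : Set.ncard (f '' Set.univ) ≤ Set.ncard ({1, z} : Set X) := by
    apply Set.ncard_le_ncard _ (Set.toFinite _)
    rintro _ ⟨a, _, rfl⟩
    rcases h a with h | h
    · left; exact h
    · right; exact h
  rw [Set.ncard_image_of_injective _ hf, Set.ncard_univ] at h1
  exact h1.trans (((Set.ncard_insert_le 1 {z}).trans (by rw [Set.ncard_singleton])))

/-- an abelian 2-group with at most one involution is cyclic -/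
theorem c1_cyc {N : Subgroup X} (h2 : IsPGroup 2 N) (hab : ∀ a ∈ N, ∀ b ∈ N, a * b = b * a)
    (hz : ∀ a ∈ N, a * a = 1 → a = 1 ∨ a = z) : IsCyclic N := by
  classical
  let _ : CommGroup N :=
    { (inferInstance : Group N) with
      mul_comm := fun a b => Subtype.ext (hab a a.2 b b.2) }
  apply CoprimeGen.isCyclic_of_prime_card_le
  intro q hq
  by_cases hq2 : q = 2
  · subst hq2
    refine c1_card (z := z) (fun a : (powMonoidHom 2 : N →* N).ker => ((a : N) : X))
      (fun a b h => Subtype.ext (Subtype.ext h)) (fun a => ?_)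
    have h3 : ((a : N)) ^ 2 = 1 := a.2
    have h4 : (((a : N)) : X) * (((a : N)) : X) = 1 := by
      rw [← pow_two]; exact congrArg Subtype.val h3
    exact hz _ (a : N).2 h4
  · have h1 : (powMonoidHom q : N →* N).ker = ⊥ := by
      rw [eq_bot_iff]
      intro a ha
      rw [mem_bot]
      have h3 : a ^ q = 1 := ha
      obtain ⟨k, hk⟩ := h2 a
      have h4 : orderOf a ∣ q := orderOf_dvd_of_pow_eq_one h3
      have h5 : orderOf a ∣ 2 ^ k := orderOf_dvd_of_pow_eq_one hk
      have h6 : Nat.Coprime q (2 ^ k) := Nat.Coprime.pow_right k ((Nat.coprime_primes hq Nat.prime_two).2 hq2)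
      have h7 := Nat.eq_one_of_dvd_coprimes h6 h4 h5
      exact orderOf_eq_one_iff.1 h7
    rw [h1, Subgroup.card_bot]
    exact hq.one_lt.le

/-- the involution of a generalized quaternion group is unique -/
theorem c1_quat (m : ℕ) (hm : m ≠ 0) (x y : QuaternionGroup m) (hx : x * x = 1) (hy : y * y = 1) (hx1 : x ≠ 1) (hy1 : y ≠ 1) :
    x = y := by
  haveI : NeZero m := ⟨hm⟩
  have key : ∀ x : QuaternionGroup m, x * x = 1 → x ≠ 1 → x = QuaternionGroup.a (m : ZMod (2 * m)) := by
    intro x hx hx1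
    have hm2 : (m : ZMod (2 * m)) ≠ 0 := by
      intro h
      rw [ZMod.natCast_eq_zero_iff] at h
      have := Nat.le_of_dvd (Nat.pos_of_ne_zero hm) h
      omega
    match x with
    | QuaternionGroup.a i =>
      rw [QuaternionGroup.a_mul_a, QuaternionGroup.one_def] at hx
      rw [QuaternionGroup.one_def] at hx1
      have h1 : i + i = 0 := by injection hx
      have h2 : i ≠ 0 := fun h => hx1 (by rw [h])
      haveI : NeZero (2 * m) := ⟨by omega⟩
      have h3 : ((i.val + i.val : ℕ) : ZMod (2 * m)) = 0 := by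
        push_cast
        rw [ZMod.natCast_zmod_val]; exact h1
      rw [ZMod.natCast_eq_zero_iff] at h3
      have h4 : i.val < 2 * m := ZMod.val_lt i
      have h5 : i.val ≠ 0 := fun h => h2 ((ZMod.val_eq_zero i).1 h)
      obtain ⟨k, hk⟩ := h3
      have h6 : k = 1 := by
        rcases Nat.lt_or_ge k 2 with hk2 | hk2
        · rcases Nat.eq_zero_or_pos k with h0 | h0
          · subst h0; omega
          · omega
        · have := Nat.mul_le_mul_left (2 * m) hk2
          omega
      have h7 : i.val = m := by subst h6; omega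
      congr 1
      rw [← ZMod.natCast_zmod_val i, h7]
    | QuaternionGroup.xa i =>
      exfalso
      rw [QuaternionGroup.xa_mul_xa, QuaternionGroup.one_def] at hx
      have h1 : (m : ZMod (2 * m)) + i - i = 0 := by injection hx
      rw [add_sub_cancel_right] at h1
      exact hm2 h1
  rw [key x hx hx1, key y hy hy1]

/-- **piece II1** -/
theorem two1 (L : Loc A S T t r z) (hno : ¬ ∃ v, Four S T z v) :
    (∀ s ∈ S, s * s = 1 → s = 1 ∨ s = z) ∨ (∃ m : ℕ, Nonempty (S ≃* DihedralGroup m)) ∨ Cfsg.IsQuasiDihedral S := by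
  have hST := c1_SleT L
  have hSI := c1_SInv L
  have hE : ∀ E : Subgroup X, E ≤ S → c1_Inv T E → (∀ a ∈ E, ∀ b ∈ E, a * b = b * a) →
      ∀ s ∈ E, s * s = 1 → s = 1 ∨ s = z := by
    intro E hES hEI hab s hs hss
    by_contra hcon
    push Not at hcon
    exact hno ⟨s, c1_four L hES hEI hab hs hss hcon.1 hcon.2⟩
  by_cases hab : ∀ a ∈ S, ∀ b ∈ S, a * b = b * a
  · exact Or.inl (hE S le_rfl hSI hab)
  obtain ⟨N, hNS, hN, hNab, hNc⟩ := c1_max L.p2 hST hSI
  have hS2 : IsPGroup 2 S := L.p2.to_le hST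
  have hN2 : IsPGroup 2 N := hS2.to_le hNS
  have hNcyc : IsCyclic N := c1_cyc hN2 hNab (hE N hNS hN hNab)
  have hzS : z ∈ S := by rw [← L.rz]; exact S.mul_mem L.rS L.rS
  haveI : Fact (Nat.Prime 2) := ⟨Nat.prime_two⟩
  haveI hNn : (N.subgroupOf S).Normal := by
    refine ⟨?_⟩
    intro n hn g
    rw [mem_subgroupOf] at hn ⊢
    exact hN _ (hST g.2) _ hn
  have hcyc' : IsCyclic (N.subgroupOf S) :=
    isCyclic_of_surjective (subgroupOfEquivOfLe hNS).symm (subgroupOfEquivOfLe hNS).symm.surjective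
  have hcard : ∃ n : ℕ, Nat.card (N.subgroupOf S) = 2 ^ n := by
    have h1 : IsPGroup 2 (N.subgroupOf S) := hS2.to_subgroup _
    exact IsPGroup.iff_card.1 h1
  obtain ⟨n, hn⟩ := hcard
  have hC : centralizer ((N.subgroupOf S : Subgroup S) : Set S) = N.subgroupOf S := by
    apply le_antisymm
    · intro x hx
      rw [mem_centralizer_iff] at hx
      rw [mem_subgroupOf]
      refine hNc _ x.2 (fun a ha => ?_)
      have := hx ⟨a, hNS ha⟩ (mem_subgroupOf.2 ha)
      exact (congrArg Subtype.val this).symm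
    · intro x hx
      rw [mem_centralizer_iff]
      intro y hy
      exact Subtype.ext (hNab _ (mem_subgroupOf.1 hy) _ (mem_subgroupOf.1 hx))
  have hna : ¬ IsMulCommutative S := by
    intro h
    apply hab
    intro a ha b hb
    exact congrArg Subtype.val (h.is_comm.comm (⟨a, ha⟩ : S) ⟨b, hb⟩)
  rcases Cfsg.Agent.S3761.result hS2 hna (N.subgroupOf S) hcyc' n hn hC with ⟨_, hcS, h | h | h⟩ | ⟨_, h2, h3, h4⟩
  · exact Or.inr (Or.inl h)
  · left
    obtain ⟨m, ⟨f⟩⟩ := h
    have hm : m ≠ 0 := by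
      intro h0
      subst h0
      haveI : Finite (QuaternionGroup 0) := Finite.of_equiv _ f.toEquiv
      have hinj : Function.Injective (fun i : ℤ => (QuaternionGroup.a (i : ZMod (2 * 0)) : QuaternionGroup 0)) := by
        intro i j hij
        have : ((i : ZMod (2 * 0))) = (j : ZMod (2 * 0)) := by injection hij
        exact this
      exact not_injective_infinite_finite _ hinj
    intro s hs hss
    by_contra hcon
    push Not at hcon
    have h5 := c1_quat m hm (f ⟨s, hs⟩) (f ⟨z, hzS⟩)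
      (by rw [← map_mul]; rw [show (⟨s, hs⟩ : S) * ⟨s, hs⟩ = 1 from Subtype.ext hss, map_one])
      (by rw [← map_mul]; rw [show (⟨z, hzS⟩ : S) * ⟨z, hzS⟩ = 1 from Subtype.ext L.zz, map_one])
      (by
        intro h
        rw [map_eq_one_iff f f.injective] at h
        exact hcon.1 (congrArg Subtype.val h))
      (by
        intro h
        rw [map_eq_one_iff f f.injective] at h
        exact L.z1 (congrArg Subtype.val h))
    exact hcon.2 (congrArg Subtype.val (f.injective h5))
  · exact Or.inr (Or.inr h)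
  · exfalso
    set E0 := omegaOne 2 (centralizer (powerClosure 2 1 (N.subgroupOf S) : Set S)) with hE0
    let E : Subgroup X := E0.map S.subtype
    have hEm : ∀ y : X, y ∈ E ↔ ∃ h : y ∈ S, (⟨y, h⟩ : S) ∈ E0 := by
      intro y
      constructor
      · rintro ⟨w, hw, rfl⟩
        exact ⟨w.2, hw⟩
      · rintro ⟨h, hw⟩
        exact ⟨⟨y, h⟩, hw, rfl⟩
    have hES : E ≤ S := fun y hy => ((hEm y).1 hy).1
    have hEI : c1_Inv T E := by
      intro x hx s hs
      obtain ⟨hsS, hs0⟩ := (hEm s).1 hs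
      -- conjugation by x as an automorphism of S
      let φ : S ≃* S :=
        { toFun := fun y => ⟨x * y * x⁻¹, hSI x hx y y.2⟩
          invFun := fun y => ⟨x⁻¹ * y * x, by
            have := hSI x⁻¹ (T.inv_mem hx) y y.2
            rwa [inv_inv] at this⟩
          left_inv := fun y => Subtype.ext (by simp [mul_assoc])
          right_inv := fun y => Subtype.ext (by simp [mul_assoc])
          map_mul' := fun y w => Subtype.ext (by simp [mul_assoc]) }
      have h6 := h4.fixed φ
      rw [hEm]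
      refine ⟨hSI x hx s hsS, ?_⟩
      have h7 : φ ⟨s, hsS⟩ ∈ E0 := by
        have : (⟨s, hsS⟩ : S) ∈ E0.comap φ.toMonoidHom := by rw [h6]; exact hs0
        exact this
      exact h7
    have hEab : ∀ a ∈ E, ∀ b ∈ E, a * b = b * a := by
      intro a ha b hb
      obtain ⟨haS, ha0⟩ := (hEm a).1 ha
      obtain ⟨hbS, hb0⟩ := (hEm b).1 hb
      have h8 := h2.1.is_comm.comm (⟨⟨a, haS⟩, ha0⟩ : E0) ⟨⟨b, hbS⟩, hb0⟩
      exact congrArg (fun w : E0 => ((w : S) : X)) h8
    have hall := hE E hES hEI hEab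
    have hle : Nat.card E0 ≤ 2 := by
      refine c1_card (z := z) (fun a : E0 => ((a : S) : X)) (fun a b h => Subtype.ext (Subtype.ext h)) (fun a => ?_)
      have h3 : ((a : S)) ^ 2 = 1 := h2.2 _ a.2
      have h4 : (((a : S)) : X) * (((a : S)) : X) = 1 := by
        rw [← pow_two]; exact congrArg Subtype.val h3
      exact hall _ ((hEm _).2 ⟨(a : S).2, a.2⟩) h4
    rw [h3] at hle
    norm_num at hle

end

end Cfsg.Agent.Lib.H17A
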