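import Mathlib
import Cfsg.Agent.Lib.H17A0
import Cfsg.Prelude.Def_CaseTheorems
import Cfsg.Prelude.Def_Local

/-! S1914, piece II2 (helper19) -/

set_option autoImplicit false
set_option linter.all false

namespace Cfsg.Agent.Lib.H17A

open Cfsg

universe u

section
variable {X : Type u} [Group X] [Finite X] {A S T : Subgroup X} {t r z v : X}

theorem c2_odd_part {n : ℕ} {i k : ℤ} (h1 : (2 : ℤ) ^ n ∣ 4 * i) (h2 : ¬ (2 : ℤ) ^ n ∣ 2 * i) (h3 : (2 : ℤ) ^ n ∣ (k - 1) * i)
    (h4 : (2 : ℤ) ^ n ∣ (k - 1) * (k + 1)) : (2 : ℤ) ^ n ∣ 2 * (k - 1) := by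
  obtain ⟨c, hc⟩ := h1
  obtain ⟨d, hd⟩ := h3
  have hodd : Odd c := by
    rw [← Int.not_even_iff_odd]
    rintro ⟨e, he⟩
    exact h2 ⟨e, by rw [he] at hc; linarith⟩
  have hp : (2 : ℤ) ^ n ≠ 0 := by positivity
  have h5 : (k - 1) * c = 4 * d := by
    apply mul_left_cancel₀ hp
    calc (2 : ℤ) ^ n * ((k - 1) * c) = (k - 1) * (2 ^ n * c) := by ring
      _ = 4 * ((k - 1) * i) := by rw [← hc]; ring
      _ = 2 ^ n * (4 * d) := by rw [hd]; ring
  have h6 : (4 : ℤ) ∣ k - 1 := by
    have hcop : IsCoprime (4 : ℤ) c := by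
      have : IsCoprime (2 : ℤ) c := by
        rw [Int.isCoprime_iff_gcd_eq_one]
        obtain ⟨e, he⟩ := hodd
        rw [← Int.isCoprime_iff_gcd_eq_one]
        exact ⟨-e, 1, by rw [he]; ring⟩
      have h := this.pow_left (m := 2)
      norm_num at h
      exact h
    exact hcop.dvd_of_dvd_mul_right ⟨d, h5⟩
  obtain ⟨q, hq⟩ := h6
  have h7 : (2 : ℤ) ^ n ∣ (2 * (k - 1)) * (2 * q + 1) := by
    have : (2 * (k - 1)) * (2 * q + 1) = (k - 1) * (k + 1) := by
      have : k = 4 * q + 1 := by linarith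
      rw [this]; ring
    rw [this]; exact h4
  have hcop : IsCoprime ((2 : ℤ) ^ n) (2 * q + 1) := by
    apply IsCoprime.pow_left
    exact ⟨-q, 1, by ring⟩
  exact hcop.dvd_of_dvd_mul_right h7

theorem c2_inv_unique {n : ℕ} {i j : ℤ} (h1 : (2 : ℤ) ^ n ∣ 2 * i) (h2 : ¬ (2 : ℤ) ^ n ∣ i) (h3 : (2 : ℤ) ^ n ∣ 2 * j)
    (h4 : ¬ (2 : ℤ) ^ n ∣ j) : (2 : ℤ) ^ n ∣ i - j := by
  obtain ⟨c, hc⟩ := h1
  obtain ⟨d, hd⟩ := h3
  have hc' : Odd c := by
    rw [← Int.not_even_iff_odd]
    rintro ⟨e, he⟩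
    exact h2 ⟨e, by rw [he] at hc; linarith⟩
  have hd' : Odd d := by
    rw [← Int.not_even_iff_odd]
    rintro ⟨e, he⟩
    exact h4 ⟨e, by rw [he] at hd; linarith⟩
  obtain ⟨e, he⟩ := hc'.sub_odd hd'
  exact ⟨e, by linarith [show (2 : ℤ) ^ n * c - 2 ^ n * d = 2 ^ n * (e + e) by rw [← mul_sub, he]]⟩

/-- dihedral case: `S ≃* DihedralGroup m` is impossible -/
theorem two2 (L : Loc A S T t r z) (hno : ¬ ∃ v, Four S T z v) (m : ℕ) (e : S ≃* DihedralGroup m) : False := by
  have hm : m ≠ 0 := by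
    rintro rfl
    haveI : Finite (DihedralGroup 0) := Finite.of_equiv _ e.toEquiv
    exact not_finite (DihedralGroup 0)
  haveI : NeZero m := ⟨hm⟩
  set a' : S := e.symm (DihedralGroup.r 1) with ha'
  set b' : S := e.symm (DihedralGroup.sr 0) with hb'
  set a : X := (a' : X) with ha
  set b : X := (b' : X) with hb
  have haS : a ∈ S := a'.2
  have hbS : b ∈ S := b'.2
  have hgen : ∀ s ∈ S, ∃ i : ℕ, s = a ^ i ∨ s = a ^ i * b := by
    intro s hs
    rcases hx : e ⟨s, hs⟩ with i | i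
    · refine ⟨i.val, Or.inl ?_⟩
      have h1 : (⟨s, hs⟩ : S) = a' ^ i.val := by
        apply e.injective
        rw [hx, map_pow, ha', MulEquiv.apply_symm_apply, DihedralGroup.r_one_pow, ZMod.natCast_zmod_val]
      have h2 := congrArg Subtype.val h1
      simpa using h2
    · refine ⟨(-i).val, Or.inr ?_⟩
      have h1 : (⟨s, hs⟩ : S) = a' ^ (-i).val * b' := by
        apply e.injective
        rw [hx, map_mul, map_pow, ha', hb', MulEquiv.apply_symm_apply, MulEquiv.apply_symm_apply, DihedralGroup.r_one_pow,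
          ZMod.natCast_zmod_val, DihedralGroup.r_mul_sr]
        congr 1; ring
      have h2 := congrArg Subtype.val h1
      simpa using h2
  have hbb : b * b = 1 := by
    have h1 : b' * b' = 1 := by
      apply e.injective
      rw [map_mul, hb', MulEquiv.apply_symm_apply, DihedralGroup.sr_mul_sr, map_one]
      simp
    have h2 := congrArg Subtype.val h1
    simpa using h2
  have hbab : b * a * b = a⁻¹ := by
    have h1 : b' * a' * b' = a'⁻¹ := by
      apply e.injective
      rw [map_mul, map_mul, hb', ha', map_inv, MulEquiv.apply_symm_apply, MulEquiv.apply_symm_apply,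
        DihedralGroup.sr_mul_r, DihedralGroup.sr_mul_sr, DihedralGroup.inv_r]
      congr 1; ring
    have h2 := congrArg Subtype.val h1
    simpa using h2
  have hbinv : b⁻¹ = b := inv_eq_of_mul_eq_one_right hbb
  -- `b` inverts powers of `a`
  have hbn : ∀ j : ℤ, b * a ^ j * b = a ^ (-j) := by
    intro j
    have h1 : (b * a * b⁻¹) ^ j = b * a ^ j * b⁻¹ := by rw [conj_zpow]
    rw [hbinv, hbab] at h1
    rw [← h1, inv_zpow, zpow_neg]
  have hsq : ∀ j : ℕ, (a ^ j * b) * (a ^ j * b) = 1 := by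
    intro j
    have := hbn j
    rw [zpow_natCast, zpow_neg, zpow_natCast] at this
    calc (a ^ j * b) * (a ^ j * b) = a ^ j * (b * a ^ j * b) := by group
      _ = 1 := by rw [this, mul_inv_cancel]
  -- the order of `a`
  have haT : a ∈ T := ((L.ST a).1 haS).1
  obtain ⟨n, hn⟩ : ∃ n : ℕ, orderOf a = 2 ^ n := by
    obtain ⟨k, hk⟩ := L.p2 ⟨a, haT⟩
    have h1 : a ^ 2 ^ k = 1 := by
      have := congrArg Subtype.val hk
      simpa using this
    obtain ⟨n, -, hn⟩ := (Nat.dvd_prime_pow Nat.prime_two).1 (orderOf_dvd_of_pow_eq_one h1)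
    exact ⟨n, hn⟩
  have hdv : ∀ j : ℤ, a ^ j = 1 ↔ (2 : ℤ) ^ n ∣ j := by
    intro j
    rw [← orderOf_dvd_iff_zpow_eq_one, hn]
    push_cast
    rfl
  -- `r = a ^ i`
  obtain ⟨i, hi⟩ : ∃ i : ℤ, r = a ^ i := by
    obtain ⟨i, h1 | h1⟩ := hgen r L.rS
    · exact ⟨i, by rw [h1, zpow_natCast]⟩
    · exfalso
      have := hsq i
      rw [← h1, L.rz] at this
      exact L.z1 this
  have hzi : z = a ^ (2 * i) := by rw [← L.rz, hi, ← zpow_add]; congr 1; ring
  have hi1 : (2 : ℤ) ^ n ∣ 4 * i := by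
    rw [← hdv]
    have := L.zz
    rw [hzi, ← zpow_add] at this
    rw [← this]; congr 1; ring
  have hi2 : ¬ (2 : ℤ) ^ n ∣ 2 * i := by
    rw [← hdv, ← hzi]; exact L.z1
  have htinv : t⁻¹ = t := inv_eq_of_mul_eq_one_right L.tt
  have hTS : ∀ s ∈ S, t * s * t ∈ S := by
    intro s hs
    have h0 := (L.ST s).1 hs
    rw [L.ST]
    refine ⟨T.mul_mem (T.mul_mem L.tT h0.1) L.tT, ?_⟩
    have := L.An.conj_mem s h0.2 t
    rwa [htinv] at this
  have hconj : ∀ x y : X, t * (x * y) * t = (t * x * t) * (t * y * t) := by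
    intro x y
    calc t * (x * y) * t = t * x * 1 * y * t := by group
      _ = t * x * (t * t) * y * t := by rw [L.tt]
      _ = (t * x * t) * (t * y * t) := by group
  have hconjz : ∀ (x : X) (j : ℤ), t * x ^ j * t = (t * x * t) ^ j := by
    intro x j
    have := conj_zpow (a := t) (b := x) (i := j)
    rw [htinv] at this
    exact this.symm
  have htwice : ∀ x : X, t * (t * x * t) * t = x := by
    intro x
    calc t * (t * x * t) * t = (t * t) * x * (t * t) := by group
      _ = x := by rw [L.tt, one_mul, mul_one]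
  -- membership in `C_S(t)`
  have hcS : ∀ s ∈ S, t * s * t = s → ∃ j : ℤ, s = a ^ j ∧ (2 : ℤ) ^ n ∣ 4 * j := by
    intro s hs h
    have h1 : t * s = s * t := by
      calc t * s = t * s * (t * t) := by rw [L.tt, mul_one]
        _ = (t * s * t) * t := by group
        _ = s * t := by rw [h]
    rcases L.cS s hs h1 with h2 | h2 | h2 | h2
    · exact ⟨0, by rw [h2]; simp, by simp⟩
    · exact ⟨i, by rw [h2, hi], hi1⟩
    · exact ⟨2 * i, by rw [h2, hzi], by rw [show 4 * (2 * i) = 2 * (4 * i) by ring]; exact dvd_mul_of_dvd_right hi1 _⟩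
    · refine ⟨3 * i, ?_, by rw [show 4 * (3 * i) = 3 * (4 * i) by ring]; exact dvd_mul_of_dvd_right hi1 _⟩
      rw [h2, hi, hzi, ← zpow_add]; congr 1; ring
  -- `t a t = a ^ k`
  have ha2 : a * a ≠ 1 := by
    intro h
    have h2 : a ^ (2 : ℤ) = 1 := by rw [zpow_two]; exact h
    apply L.z1
    rw [hzi, zpow_mul, h2, one_zpow]
  obtain ⟨k, hk⟩ : ∃ k : ℤ, t * a * t = a ^ k := by
    obtain ⟨k, h1 | h1⟩ := hgen _ (hTS a haS)
    · exact ⟨k, by rw [h1, zpow_natCast]⟩
    · exfalso
      have h2 := hsq k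
      rw [← h1, ← hconj] at h2
      apply ha2
      have h3 := htwice (a * a)
      rw [h2] at h3
      rw [← h3, mul_one, L.tt]
  have hk1 : (2 : ℤ) ^ n ∣ (k - 1) * i := by
    rw [← hdv]
    have h1 : t * r * t = r := by
      rw [L.tr, mul_assoc, L.tt, mul_one]
    rw [hi, hconjz, hk, ← zpow_mul] at h1
    rw [sub_mul, one_mul, zpow_sub, h1, mul_inv_cancel]
  have hk2 : (2 : ℤ) ^ n ∣ (k - 1) * (k + 1) := by
    rw [← hdv]
    have h1 := htwice a
    rw [hk, hconjz, hk, ← zpow_mul] at h1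
    rw [show (k - 1) * (k + 1) = k * k - 1 by ring, zpow_sub, h1, zpow_one, mul_inv_cancel]
  have hk3 := c2_odd_part hi1 hi2 hk1 hk2
  -- `t a² t = a²`
  have haa : t * a ^ (2 : ℤ) * t = a ^ (2 : ℤ) := by
    rw [hconjz, hk, ← zpow_mul]
    have := (hdv _).2 hk3
    rw [show k * 2 = 2 * (k - 1) + 2 by ring, zpow_add, this, one_mul]
  obtain ⟨j, hj, hj4⟩ := hcS _ (S.zpow_mem haS 2) haa
  have h8 : (2 : ℤ) ^ n ∣ 8 := by
    rw [← hdv]
    have h1 : a ^ (4 * j) = 1 := (hdv _).2 hj4
    calc a ^ (8 : ℤ) = (a ^ (2 : ℤ)) ^ (4 : ℤ) := by rw [← zpow_mul]; norm_num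
      _ = 1 := by rw [hj, ← zpow_mul, mul_comm]; exact h1
  -- `t b t = a ^ l b`
  have hbna : ∀ j : ℤ, b ≠ a ^ j := by
    intro j hj
    have h1 := hbn 1
    rw [hj, zpow_neg, zpow_one] at h1
    have h2 : a ^ j * a * a ^ j = a * (a ^ j * a ^ j) := by
      rw [← (Commute.self_zpow a j).eq, mul_assoc]
    rw [h2, ← hj, hbb, mul_one] at h1
    apply ha2
    nth_rw 1 [h1]
    exact inv_mul_cancel a
  obtain ⟨l, hl⟩ : ∃ l : ℤ, t * b * t = a ^ l * b := by
    obtain ⟨l, h1 | h1⟩ := hgen _ (hTS b hbS)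
    · exfalso
      have h2 := htwice b
      rw [h1, ← zpow_natCast, hconjz, hk, ← zpow_mul] at h2
      exact hbna _ h2.symm
    · exact ⟨l, by rw [h1, zpow_natCast]⟩
  have hl2 : a ^ (k * l + l) = 1 := by
    have h1 := htwice b
    rw [hl, hconj, hconjz, hk, hl, ← mul_assoc, ← zpow_mul, ← zpow_add] at h1
    exact mul_eq_right.1 h1
  by_cases hak : a ^ (k - 1) = 1
  · -- `t a t = a`
    have h1 : t * a * t = a := by
      rw [hk, show k = (k - 1) + 1 by ring, zpow_add, hak, one_mul, zpow_one]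
    obtain ⟨j', hj', hj4'⟩ := hcS a haS h1
    have h4 : (2 : ℤ) ^ n ∣ 4 := by
      rw [← hdv]
      have h2 : a ^ (4 * j') = 1 := (hdv _).2 hj4'
      calc a ^ (4 : ℤ) = (a ^ j') ^ (4 : ℤ) := by rw [← hj']
        _ = 1 := by rw [← zpow_mul, mul_comm]; exact h2
    have haz : a ^ (2 : ℤ) = z := by
      rw [hzi]
      have h2 := c2_inv_unique (n := n) (i := 2) (j := 2 * i) (by norm_num; exact h4)
        (by rw [← hdv, zpow_two]; exact ha2) (by rw [show 2 * (2 * i) = 4 * i by ring]; exact hi1) hi2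
      rw [← hdv, zpow_sub, mul_inv_eq_one] at h2
      exact h2
    have hll : a ^ l = 1 ∨ a ^ l = z := by
      by_cases h2 : a ^ l = 1
      · exact Or.inl h2
      · right
        rw [hzi]
        have h3 : (2 : ℤ) ^ n ∣ 2 * l := by
          rw [← hdv, ← hl2]
          rw [show k * l + l = (k - 1) * l + 2 * l by ring, zpow_add, zpow_mul a (k - 1) l, hak, one_zpow, one_mul]
        have h4 := c2_inv_unique (n := n) (i := l) (j := 2 * i) h3 (by rw [← hdv]; exact h2)
          (by rw [show 2 * (2 * i) = 4 * i by ring]; exact hi1) hi2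
        rw [← hdv, zpow_sub, mul_inv_eq_one] at h4
        exact h4
    -- `z` commutes with everything relevant
    have hzb : b * z = z * b := by
      have h2 := hbn (2 * i)
      rw [← hzi] at h2
      have h3 : a ^ (-(2 * i)) = z := by
        rw [zpow_neg, ← hzi]; exact inv_eq_of_mul_eq_one_right L.zz
      rw [h3] at h2
      calc b * z = b * z * (b * b) := by rw [hbb, mul_one]
        _ = (b * z * b) * b := by group
        _ = z * b := by rw [h2]
    have hSb : ∀ s ∈ S, s * b * s⁻¹ = b ∨ s * b * s⁻¹ = b * z := by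
      intro s hs
      have key : ∀ j : ℕ, a ^ j * b * (a ^ j)⁻¹ = b ∨ a ^ j * b * (a ^ j)⁻¹ = b * z := by
        intro j
        have h2 : a ^ j * b * (a ^ j)⁻¹ = a ^ (2 * (j : ℤ)) * b := by
          have h3 := hbn (-(j : ℤ))
          rw [neg_neg, zpow_neg, zpow_natCast] at h3
          calc a ^ j * b * (a ^ j)⁻¹ = a ^ j * (b * (a ^ j)⁻¹ * b) * b⁻¹ := by group
            _ = a ^ (2 * (j : ℤ)) * b := by
              rw [h3, hbinv, two_mul, zpow_add, zpow_natCast]
        rw [h2, zpow_mul, haz]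
        rcases Int.even_or_odd (j : ℤ) with ⟨q, hq⟩ | ⟨q, hq⟩
        · left
          rw [hq, ← two_mul, zpow_mul, zpow_two, L.zz, one_zpow, one_mul]
        · right
          rw [hq, zpow_add, zpow_mul, zpow_two, L.zz, one_zpow, one_mul, zpow_one, hzb]
      obtain ⟨j, h2 | h2⟩ := hgen s hs
      · rw [h2]; exact key j
      · rw [h2]
        have : a ^ j * b * b * (a ^ j * b)⁻¹ = a ^ j * b * (a ^ j)⁻¹ := by
          rw [mul_inv_rev, hbinv]
          calc a ^ j * b * b * (b * (a ^ j)⁻¹) = a ^ j * b * (b * b) * (a ^ j)⁻¹ := by group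
            _ = a ^ j * b * (a ^ j)⁻¹ := by rw [hbb, mul_one]
        rw [this]; exact key j
    have htb : t * b * t = b ∨ t * b * t = b * z := by
      rcases hll with h2 | h2
      · left; rw [hl, h2, one_mul]
      · right; rw [hl, h2, hzb]
    apply hno
    refine ⟨b, hbS, hbb, ?_, ?_, ?_⟩
    · intro h2; exact hbna 0 (by rw [h2]; simp)
    · intro h2; exact hbna (2 * i) (by rw [h2]; exact hzi)
    · intro x hx
      by_cases hxA : x ∈ A
      · exact hSb x ((L.ST x).2 ⟨hx, hxA⟩)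
      · have hs : t * x ∈ S := (L.ST _).2 ⟨T.mul_mem L.tT hx, L.ix x hxA⟩
        have h2 : x * b * x⁻¹ = t * ((t * x) * b * (t * x)⁻¹) * t := by
          rw [mul_inv_rev, htinv]
          calc x * b * x⁻¹ = 1 * x * b * x⁻¹ * 1 := by group
            _ = (t * t) * x * b * x⁻¹ * (t * t) := by rw [L.tt]
            _ = t * (t * x * b * (x⁻¹ * t)) * t := by group
        have h3 : t * z * t = z := by
          have h4 : t * r * t = r := by rw [L.tr, mul_assoc, L.tt, mul_one]
          rw [← L.rz, hconj, h4]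
        rw [h2]
        rcases hSb _ hs with h4 | h4
        · rw [h4]; exact htb
        · rw [h4, hconj, h3]
          rcases htb with h5 | h5
          · right; rw [h5]
          · left; rw [h5, mul_assoc, L.zz, mul_one]
  · -- `t a t = a z`
    have hkz : a ^ (k - 1) = z := by
      have h2 := c2_inv_unique (n := n) (i := k - 1) (j := 2 * i) hk3 (by rw [← hdv]; exact hak)
        (by rw [show 2 * (2 * i) = 4 * i by ring]; exact hi1) hi2
      rw [← hdv, zpow_sub, mul_inv_eq_one] at h2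
      rw [h2, hzi]
    have h4 : ¬ (2 : ℤ) ^ n ∣ 4 := by
      intro h4
      -- then `k - 1` is divisible by `4`
      obtain ⟨c, hc⟩ := hi1
      obtain ⟨d, hd⟩ := hk1
      have hp : (2 : ℤ) ^ n ≠ 0 := by positivity
      have hodd : Odd c := by
        rw [← Int.not_even_iff_odd]
        rintro ⟨e, he⟩
        exact hi2 ⟨e, by rw [he] at hc; linarith⟩
      have h5 : (k - 1) * c = 4 * d := by
        apply mul_left_cancel₀ hp
        calc (2 : ℤ) ^ n * ((k - 1) * c) = (k - 1) * (2 ^ n * c) := by ring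
          _ = 4 * ((k - 1) * i) := by rw [← hc]; ring
          _ = 2 ^ n * (4 * d) := by rw [hd]; ring
      have h6 : (4 : ℤ) ∣ k - 1 := by
        have hcop : IsCoprime (4 : ℤ) c := by
          have : IsCoprime (2 : ℤ) c := by
            obtain ⟨e, he⟩ := hodd
            exact ⟨-e, 1, by rw [he]; ring⟩
          have h := this.pow_left (m := 2)
          norm_num at h
          exact h
        exact hcop.dvd_of_dvd_mul_right ⟨d, h5⟩
      exact hak ((hdv _).2 (h4.trans h6))
    have hlo : Even l := by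
      rw [← Int.not_odd_iff_even]
      rintro ⟨q, hq⟩
      -- `z a^{2l} = 1`
      have h5 : z * a ^ (2 * l) = 1 := by
        rw [← hl2, show k * l + l = (k - 1) * l + 2 * l by ring, zpow_add, zpow_mul a (k - 1) l, hkz]
        congr 1
        rw [hq, zpow_add, zpow_mul, zpow_two, L.zz, one_zpow, one_mul, zpow_one]
      have h6 : a ^ (4 * l) = 1 := by
        have h7 : a ^ (2 * l) = z := by
          have := inv_eq_of_mul_eq_one_right h5
          rw [← this]; exact inv_eq_of_mul_eq_one_right L.zz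
        calc a ^ (4 * l) = a ^ (2 * l) * a ^ (2 * l) := by rw [← zpow_add]; congr 1; ring
          _ = 1 := by rw [h7, L.zz]
      apply h4
      have h7 : (2 : ℤ) ^ n ∣ 4 * l := (hdv _).1 h6
      have h9 : (2 : ℤ) ^ n ∣ 8 * q := dvd_mul_of_dvd_left h8 _
      have : (4 : ℤ) = 4 * l - 8 * q := by rw [hq]; ring
      rw [this]; exact dvd_sub h7 h9
    obtain ⟨q, hq⟩ := hlo
    have h5 : a ^ (2 * l) = 1 := by
      rw [← hl2, show k * l + l = (k - 1) * l + 2 * l by ring, zpow_add, zpow_mul a (k - 1) l, hkz]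
      rw [hq, ← two_mul, zpow_mul z, zpow_two, L.zz, one_zpow, one_mul]
    by_cases hl1 : a ^ l = 1
    · have h6 : t * b * t = b := by rw [hl, hl1, one_mul]
      obtain ⟨j', hj', -⟩ := hcS b hbS h6
      exact hbna _ hj'
    · have hlz : a ^ l = z := by
        have h2 := c2_inv_unique (n := n) (i := l) (j := 2 * i) ((hdv _).1 h5) (by rw [← hdv]; exact hl1)
          (by rw [show 2 * (2 * i) = 4 * i by ring]; exact hi1) hi2
        rw [← hdv, zpow_sub, mul_inv_eq_one] at h2
        rw [h2, hzi]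
      have h6 : t * (a * b) * t = a * b := by
        rw [hconj, hl, hlz, hk, show k = 1 + (k - 1) by ring, zpow_add, zpow_one, hkz]
        calc a * z * (z * b) = a * (z * z) * b := by group
          _ = a * b := by rw [L.zz, mul_one]
      obtain ⟨j', hj', -⟩ := hcS (a * b) (S.mul_mem haS hbS) h6
      apply hbna (j' - 1)
      rw [zpow_sub, ← hj', zpow_one]
      -- `b = a b a⁻¹`? use commutation
      have h7 : b = a⁻¹ * a ^ j' := by rw [← hj']; group
      rw [hj', h7, ← zpow_neg_one, ← zpow_add, ← zpow_add]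
      congr 1; ring

end

end Cfsg.Agent.Lib.H17A
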