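import Cfsg.Agent.Lib.H17A0

set_option autoImplicit false

namespace Cfsg.Agent.Lib.H17A

universe u

variable {X : Type u} [Group X] [Finite X] {A S T : Subgroup X} {t r z v : X}

theorem ext4 (L : Loc A S T t r z) (f a : X) (hf : f ∈ S) (ha : a ∈ A) (h : a * r * a⁻¹ = f)
    (hZ : ∀ x ∈ S, (∀ s ∈ S, x * s = s * x) → x * x = 1)
    (hcard : 2 * Nat.card ↥(T ⊓ Subgroup.centralizer {f}) = Nat.card T) :
    ∃ g : X, g * r * g⁻¹ = f ∧ g * t * g⁻¹ ∈ T := by
  classical
  haveI : Fact (Nat.Prime 2) := ⟨Nat.prime_two⟩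
  have hfT : f ∈ T := ((L.ST f).1 hf).1
  have hfA : f ∈ A := ((L.ST f).1 hf).2
  have hff : f * f ≠ 1 := by
    intro hh
    apply L.z1
    have : z = a⁻¹ * (f * f) * a := by rw [← h, ← L.rz]; group
    rw [this, hh]; group
  have hCf : ∀ c : X, c ∈ Subgroup.centralizer {f} ↔ c * f = f * c := by
    intro c
    rw [Subgroup.mem_centralizer_singleton_iff]
  generalize Subgroup.centralizer {f} = C at hcard hCf
  let T' : Sylow 2 X := { T with isPGroup' := L.p2, is_maximal' := fun {Q} hQ hle => L.syl Q hQ hle }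
  have hT' : (T' : Subgroup X) = T := rfl
  have hQp : IsPGroup 2 ((T ⊓ C).subgroupOf C) := (L.p2.to_le inf_le_left).comap_subtype
  obtain ⟨P', hP'⟩ := hQp.exists_le_sylow
  have hPP : (P' : Subgroup C) = (T ⊓ C).subgroupOf C := by
    by_contra hne
    have hc1 : Nat.card ((T ⊓ C).subgroupOf C) = Nat.card ↥(T ⊓ C) :=
      Nat.card_congr (Subgroup.subgroupOfEquivOfLe inf_le_right).toEquiv
    have hc2 : Nat.card ((T ⊓ C).subgroupOf C) ∣ Nat.card (P' : Subgroup C) := Subgroup.card_dvd_of_le hP'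
    have hc3 : Nat.card ((T ⊓ C).subgroupOf C) ≠ Nat.card (P' : Subgroup C) := fun he =>
      hne (Subgroup.eq_of_le_of_card_ge hP' he.ge).symm
    have hc4 : Nat.card T ≤ Nat.card (P' : Subgroup C) := by
      obtain ⟨k, hk⟩ := hc2
      have hpos : 0 < Nat.card (P' : Subgroup C) := Nat.card_pos
      rw [hc1] at hk hc3
      have hk2 : 2 ≤ k := by
        rcases k with _ | _ | k
        · omega
        · omega
        · omega
      rw [← hcard, hk, mul_comm 2]
      exact Nat.mul_le_mul_left _ hk2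
    have hPX : IsPGroup 2 ((P' : Subgroup C).map C.subtype) := P'.2.map _
    obtain ⟨T'', hT''⟩ := hPX.exists_le_sylow
    have hc5 : Nat.card ((P' : Subgroup C).map C.subtype) = Nat.card (P' : Subgroup C) :=
      Nat.card_congr ((P' : Subgroup C).equivMapOfInjective _ C.subtype_injective).symm.toEquiv
    have hc6 : Nat.card (T'' : Subgroup X) = Nat.card T := by
      rw [← hT']; exact Nat.card_congr (Sylow.equiv T'' T').toEquiv
    have hPT : (P' : Subgroup C).map C.subtype = (T'' : Subgroup X) :=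
      Subgroup.eq_of_le_of_card_ge hT'' (by rw [hc5, hc6]; exact hc4)
    obtain ⟨x, hx⟩ := MulAction.exists_smul_eq X T' T''
    have hxT : ∀ y : X, y ∈ T → x * y * x⁻¹ ∈ (P' : Subgroup C).map C.subtype := by
      intro y hy
      rw [hPT, ← hx]
      exact Subgroup.smul_mem_pointwise_smul y (MulAut.conj x) (T' : Subgroup X) hy
    have hPx : ∀ y ∈ (P' : Subgroup C).map C.subtype, x⁻¹ * y * x ∈ T := by
      intro y hy
      rw [hPT, ← hx] at hy
      have := (Subgroup.mem_pointwise_smul_iff_inv_smul_mem (a := MulAut.conj x) (S := (T' : Subgroup X)) (x := y)).1 hy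
      rw [← map_inv, MulAut.smul_def, MulAut.conj_apply, inv_inv] at this
      exact this
    have hfP : f ∈ (P' : Subgroup C).map C.subtype := by
      refine ⟨⟨f, (hCf f).2 rfl⟩, hP' ?_, rfl⟩
      rw [Subgroup.mem_subgroupOf]
      exact ⟨hfT, (hCf f).2 rfl⟩
    have hy1 : x⁻¹ * f * x ∈ S := by
      rw [L.ST]
      refine ⟨hPx f hfP, ?_⟩
      have := L.An.conj_mem f hfA x⁻¹
      rwa [inv_inv] at this
    have hy2 := hZ _ hy1 (by
      intro s hs
      have hsT := ((L.ST s).1 hs).1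
      obtain ⟨c, hc, hce⟩ := hxT s hsT
      have h1 : (x * s * x⁻¹) * f = f * (x * s * x⁻¹) := by
        rw [← hce]
        exact (hCf _).1 c.2
      calc x⁻¹ * f * x * s = x⁻¹ * (f * (x * s * x⁻¹)) * x := by group
        _ = x⁻¹ * ((x * s * x⁻¹) * f) * x := by rw [h1]
        _ = s * (x⁻¹ * f * x) := by group)
    apply hff
    have : f * f = x * ((x⁻¹ * f * x) * (x⁻¹ * f * x)) * x⁻¹ := by group
    rw [this, hy2]; group
  -- the element a t a⁻¹
  have htC : a * t * a⁻¹ ∈ C := by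
    rw [hCf, ← h]
    calc a * t * a⁻¹ * (a * r * a⁻¹) = a * (t * r) * a⁻¹ := by group
      _ = a * (r * t) * a⁻¹ := by rw [L.tr]
      _ = _ := by group
  have ht2 : IsPGroup 2 (Subgroup.zpowers (⟨a * t * a⁻¹, htC⟩ : C)) := by
    have h2 : (⟨a * t * a⁻¹, htC⟩ : C) ^ 2 = 1 := by
      rw [pow_two]
      apply Subtype.ext
      change a * t * a⁻¹ * (a * t * a⁻¹) = 1
      calc a * t * a⁻¹ * (a * t * a⁻¹) = a * (t * t) * a⁻¹ := by group
        _ = 1 := by rw [L.tt]; group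
    rintro ⟨y, k, rfl⟩
    refine ⟨1, ?_⟩
    apply Subtype.ext
    change ((⟨a * t * a⁻¹, htC⟩ : C) ^ k) ^ (2 ^ 1) = 1
    rw [pow_one, ← zpow_natCast, zpow_comm, zpow_natCast, h2, one_zpow]
  obtain ⟨P'', hP''⟩ := ht2.exists_le_sylow
  obtain ⟨c, hc⟩ := MulAction.exists_smul_eq C P'' P'
  have h3 : c * ⟨a * t * a⁻¹, htC⟩ * c⁻¹ ∈ (P' : Subgroup C) := by
    rw [← hc]
    exact Subgroup.smul_mem_pointwise_smul _ (MulAut.conj c) (P'' : Subgroup C) (hP'' (Subgroup.mem_zpowers _))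
  rw [hPP, Subgroup.mem_subgroupOf] at h3
  have h4 : (c : X) * (a * t * a⁻¹) * (c : X)⁻¹ ∈ T := h3.1
  refine ⟨c * a, ?_, ?_⟩
  · calc (c : X) * a * r * ((c : X) * a)⁻¹ = c * (a * r * a⁻¹) * (c : X)⁻¹ := by group
      _ = c * f * (c : X)⁻¹ := by rw [h]
      _ = f * c * (c : X)⁻¹ := by rw [(hCf _).1 c.2]
      _ = f := by group
  · have : (c : X) * a * t * ((c : X) * a)⁻¹ = c * (a * t * a⁻¹) * (c : X)⁻¹ := by group
    rw [this]; exact h4

end Cfsg.Agent.Lib.H17A
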