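import Cfsg.Agent.Lib.H17A1
import Cfsg.Agent.Lib.H17AC2
import Cfsg.Agent.Lib.H17AE4

/-! S1914, piece II3 (helper20) -/

set_option autoImplicit false
set_option linter.all false

namespace Cfsg.Agent.Lib.H17A

universe u

section
variable {X : Type u} [Group X] [Finite X] {A S T : Subgroup X} {t r z v : X}

theorem c3_core (S : Subgroup X) (n : ℕ) (hn3 : 3 ≤ n) (H : ℤ) (hH : (2 : ℤ) ^ n = 2 * H) (a b : X) (haS : a ∈ S)
    (hbS : b ∈ S) (hord : orderOf a = 2 ^ n) (hbb : b * b = 1)
    (hbn : ∀ j : ℤ, b * a ^ j = a ^ ((H - 1) * j) * b)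
    (hgen : ∀ s ∈ S, ∃ j : ℤ, s = a ^ j ∨ s = a ^ j * b) (hbna : ∀ j : ℤ, b ≠ a ^ j)
    (e : X) (hee : e * e = 1) (heS : ∀ s ∈ S, e * s * e ∈ S) (i : ℤ)
    (hi1 : (2 : ℤ) ^ n ∣ 4 * i) (hi2 : ¬ (2 : ℤ) ^ n ∣ 2 * i) (hei : e * a ^ i = a ^ i * e)
    (hct : ∀ Q : Subgroup X, Q ≤ S → (∀ q ∈ Q, e * q = q * e) → Nat.card Q ≤ 4) : False := by
  have einv : e⁻¹ = e := inv_eq_of_mul_eq_one_left hee
  have hdv : ∀ j : ℤ, a ^ j = 1 ↔ (2 : ℤ) ^ n ∣ j := by
    intro j
    rw [← orderOf_dvd_iff_zpow_eq_one, hord]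
    push_cast
    rfl
  have hconj : ∀ x y : X, e * (x * y) * e = (e * x * e) * (e * y * e) := by
    intro x y
    calc e * (x * y) * e = e * x * 1 * y * e := by group
      _ = e * x * (e * e) * y * e := by rw [hee]
      _ = (e * x * e) * (e * y * e) := by group
  have hconjz : ∀ (x : X) (j : ℤ), e * x ^ j * e = (e * x * e) ^ j := by
    intro x j
    have := conj_zpow (a := e) (b := x) (i := j)
    rw [einv] at this
    exact this.symm
  have htwice : ∀ x : X, e * (e * x * e) * e = x := by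
    intro x
    calc e * (e * x * e) * e = (e * e) * x * (e * e) := by group
      _ = x := by rw [hee, one_mul, mul_one]
  have hcomm : ∀ x : X, e * x * e = x → e * x = x * e := by
    intro x h
    calc e * x = e * x * (e * e) := by rw [hee, mul_one]
      _ = (e * x * e) * e := by simp only [mul_assoc]
      _ = x * e := by rw [h]
  have h4 : ∀ j : ℤ, (a ^ j * b) * (a ^ j * b) = a ^ (H * j) := by
    intro j
    calc (a ^ j * b) * (a ^ j * b) = a ^ j * (b * a ^ j) * b := by simp only [mul_assoc]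
      _ = a ^ j * (a ^ ((H - 1) * j) * b) * b := by rw [hbn]
      _ = a ^ j * a ^ ((H - 1) * j) * (b * b) := by simp only [mul_assoc]
      _ = a ^ (H * j) := by rw [hbb, mul_one, ← zpow_add]; congr 1; ring
  have h8 : (8 : ℤ) ∣ 2 ^ n := by
    have : (2 : ℤ) ^ 3 ∣ 2 ^ n := pow_dvd_pow 2 hn3
    norm_num at this; exact this
  obtain ⟨k, hk⟩ : ∃ k : ℤ, e * a * e = a ^ k := by
    obtain ⟨j, h1 | h1⟩ := hgen _ (heS a haS)
    · exact ⟨j, h1⟩
    · exfalso
      have h2 : (e * a * e) * (e * a * e) = a ^ (H * j) := by rw [h1, h4]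
      have h3 : ((e * a * e) * (e * a * e)) * ((e * a * e) * (e * a * e)) = 1 := by
        rw [h2, ← zpow_add, hdv, hH]
        exact ⟨j, by ring⟩
      rw [← hconj, ← hconj] at h3
      have h4' : a * a * (a * a) = 1 := by
        have := htwice (a * a * (a * a))
        rw [h3] at this
        rw [← this, mul_one, hee]
      have h5 : a ^ (4 : ℤ) = 1 := by
        rw [← h4', show (4 : ℤ) = 1 + 1 + (1 + 1) by norm_num, zpow_add, zpow_add, zpow_one]
      have h6 := h8.trans ((hdv 4).1 h5)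
      norm_num at h6
  have hk1 : (2 : ℤ) ^ n ∣ (k - 1) * i := by
    rw [← hdv]
    have h1 : e * a ^ i * e = a ^ i := by rw [hei, mul_assoc, hee, mul_one]
    rw [hconjz, hk, ← zpow_mul] at h1
    rw [sub_mul, one_mul, zpow_sub, h1, mul_inv_cancel]
  have hk2 : (2 : ℤ) ^ n ∣ (k - 1) * (k + 1) := by
    rw [← hdv]
    have h1 := htwice a
    rw [hk, hconjz, hk, ← zpow_mul] at h1
    rw [show (k - 1) * (k + 1) = k * k - 1 by ring, zpow_sub, h1, zpow_one, mul_inv_cancel]
  have hk3 := c2_odd_part hi1 hi2 hk1 hk2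
  have haa : e * a ^ (2 : ℤ) * e = a ^ (2 : ℤ) := by
    rw [hconjz, hk, ← zpow_mul]
    have := (hdv _).2 hk3
    rw [show k * 2 = 2 * (k - 1) + 2 by ring, zpow_add, this, one_mul]
  have hzc : ∀ x : X, e * x = x * e → ∀ q ∈ Subgroup.zpowers x, e * q = q * e := by
    intro x hx q hq
    obtain ⟨j, rfl⟩ := Subgroup.mem_zpowers_iff.1 hq
    exact ((show Commute e x from hx).zpow_right j).eq
  have hQ1 : Nat.card (Subgroup.zpowers (a ^ (2 : ℤ))) ≤ 4 := by
    apply hct
    · rw [Subgroup.zpowers_le]; exact S.zpow_mem haS 2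
    · exact hzc _ (hcomm _ haa)
  have ho : (2 : ℤ) ^ n ∣ 2 * (Nat.card (Subgroup.zpowers (a ^ (2 : ℤ))) : ℤ) := by
    rw [← hdv, Nat.card_zpowers, zpow_mul, zpow_natCast, pow_orderOf_eq_one]
  have hpos : 0 < Nat.card (Subgroup.zpowers (a ^ (2 : ℤ))) := Nat.card_pos
  have hn : n = 3 := by
    have h3 : (2 : ℤ) ^ n ≤ 2 * (Nat.card (Subgroup.zpowers (a ^ (2 : ℤ))) : ℤ) :=
      Int.le_of_dvd (by omega) ho
    by_contra hne
    have h5 : 4 ≤ n := by omega
    have h6 : (2 : ℤ) ^ 4 ≤ 2 ^ n := pow_le_pow_right₀ (by norm_num) h5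
    norm_num at h6
    omega
  subst hn
  rw [show (2 : ℤ) ^ 3 = 8 by norm_num] at ho
  norm_num at hH hk3 hdv hord
  have hH4 : H = 4 := by omega
  have hnota : ¬ (e * a = a * e) := by
    intro h
    have := hct (Subgroup.zpowers a) (by rw [Subgroup.zpowers_le]; exact haS) (hzc a h)
    rw [Nat.card_zpowers, hord] at this
    norm_num at this
  have hk5 : (8 : ℤ) ∣ k - 5 := by
    have h1 : ¬ (8 : ℤ) ∣ k - 1 := by
      intro h
      apply hnota
      apply hcomm
      rw [hk]
      have : a ^ (k - 1) = 1 := (hdv _).2 h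
      calc a ^ k = a ^ (k - 1) * a := by rw [← zpow_add_one]; congr 1; ring
        _ = a := by rw [this, one_mul]
    omega
  obtain ⟨l, hl⟩ : ∃ l : ℤ, e * b * e = a ^ l * b := by
    obtain ⟨l, h1 | h1⟩ := hgen _ (heS b hbS)
    · exfalso
      have h2 := htwice b
      rw [h1, hconjz, hk, ← zpow_mul] at h2
      exact hbna _ h2.symm
    · exact ⟨l, h1⟩
  have hl1 : (8 : ℤ) ∣ 4 * l := by
    have h1 : (e * b * e) * (e * b * e) = 1 := by rw [← hconj, hbb, mul_one, hee]
    rw [hl, h4, hdv, hH4] at h1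
    exact h1
  have hl2 : (8 : ℤ) ∣ 6 * l := by
    have h1 := htwice b
    rw [hl, hconj, hconjz, hk, hl, ← mul_assoc, ← zpow_mul, ← zpow_add] at h1
    have h2 : a ^ (k * l + l) = 1 := by
      have := congrArg (fun w => w * b⁻¹) h1
      simpa [mul_assoc] using this
    rw [hdv] at h2
    obtain ⟨q, hq⟩ := hk5
    obtain ⟨w, hw⟩ := h2
    have hk' : k = 5 + 8 * q := by omega
    refine ⟨w - q * l, ?_⟩
    rw [hk'] at hw
    linarith
  have hl4 : (4 : ℤ) ∣ l := by omega
  obtain ⟨c, hcS, hce, hcna⟩ : ∃ c ∈ S, e * c = c * e ∧ ∀ j : ℤ, c ≠ a ^ j := by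
    by_cases h : (8 : ℤ) ∣ l
    · refine ⟨b, hbS, hcomm b ?_, hbna⟩
      have : a ^ l = 1 := (hdv _).2 h
      rw [hl, this, one_mul]
    · refine ⟨a * b, S.mul_mem haS hbS, hcomm _ ?_, ?_⟩
      · rw [hconj, hk, hl, ← mul_assoc, ← zpow_add]
        have h1 : a ^ (k + l - 1) = 1 := (hdv _).2 (by omega)
        have h2 : a ^ (k + l) = a := by
          calc a ^ (k + l) = a ^ (k + l - 1) * a := by rw [← zpow_add_one]; congr 1; ring
            _ = a := by rw [h1, one_mul]
        rw [h2]
      · intro j hj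
        apply hbna (-1 + j)
        rw [zpow_add, zpow_neg_one, ← hj, inv_mul_cancel_left]
  have hQ := hct (S ⊓ Subgroup.centralizer {e}) inf_le_left (by
    intro q hq
    exact (Subgroup.mem_centralizer_singleton_iff.1 hq.2).symm)
  have hle : Subgroup.zpowers (a ^ (2 : ℤ)) ≤ S ⊓ Subgroup.centralizer {e} := by
    rw [Subgroup.zpowers_le]
    exact ⟨S.zpow_mem haS 2, Subgroup.mem_centralizer_singleton_iff.2 (hcomm _ haa).symm⟩
  have hge : 4 ≤ Nat.card (Subgroup.zpowers (a ^ (2 : ℤ))) := by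
    have h1 : (4 : ℤ) ∣ (Nat.card (Subgroup.zpowers (a ^ (2 : ℤ))) : ℤ) := by omega
    have h2 := Int.le_of_dvd (by exact_mod_cast hpos) h1
    exact_mod_cast h2
  have heq := Subgroup.eq_of_le_of_card_ge hle (hQ.trans hge)
  have hc : c ∈ S ⊓ Subgroup.centralizer {e} := ⟨hcS, Subgroup.mem_centralizer_singleton_iff.2 hce.symm⟩
  rw [← heq] at hc
  obtain ⟨j, hj⟩ := Subgroup.mem_zpowers_iff.1 hc
  exact hcna (2 * j) (by rw [zpow_mul]; exact hj.symm)

theorem two3 (L : Loc A S T t r z) (Fu : Fus A S T t r z) (h : Cfsg.IsQuasiDihedral S) : False := by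
  obtain ⟨n, hn3, hcard, x, y, hx, hy, hxy⟩ := h
  set a : X := (x : X) with ha
  set b : X := (y : X) with hb
  have haS : a ∈ S := x.2
  have hbS : b ∈ S := y.2
  have hord : orderOf a = 2 ^ n := by rw [ha, Subgroup.orderOf_coe]; exact hx
  have hyy : y * y = 1 := by
    have := pow_orderOf_eq_one y
    rw [hy, pow_two] at this; exact this
  have hbb : b * b = 1 := by
    have := congrArg Subtype.val hyy
    simpa using this
  obtain ⟨H, hH, hH4, hHn⟩ : ∃ H : ℤ, (2 : ℤ) ^ n = 2 * H ∧ (4 : ℤ) ∣ H ∧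
      (((2 ^ (n - 1) - 1 : ℕ)) : ℤ) = H - 1 := by
    refine ⟨2 ^ (n - 1), ?_, ?_, ?_⟩
    · rw [← pow_succ']; congr 1; omega
    · have : (2 : ℤ) ^ 2 ∣ 2 ^ (n - 1) := pow_dvd_pow 2 (by omega)
      norm_num at this; exact this
    · rw [Nat.cast_sub Nat.one_le_two_pow]; push_cast; rfl
  have hHpos : 0 < H := by
    have : (0 : ℤ) < 2 ^ n := by positivity
    omega
  have hbinv : b⁻¹ = b := inv_eq_of_mul_eq_one_left hbb
  have hba : b * a * b⁻¹ = a ^ (H - 1) := by
    have := congrArg Subtype.val hxy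
    rw [← hHn, zpow_natCast]
    simpa using this
  have hbn : ∀ j : ℤ, b * a ^ j = a ^ ((H - 1) * j) * b := by
    intro j
    have h1 : SemiconjBy b a (a ^ (H - 1)) := by
      show b * a = a ^ (H - 1) * b
      rw [← hba, inv_mul_cancel_right]
    have := h1.zpow_right j
    rw [← zpow_mul] at this
    exact this
  have hdv : ∀ j : ℤ, a ^ j = 1 ↔ (2 : ℤ) ^ n ∣ j := by
    intro j
    rw [← orderOf_dvd_iff_zpow_eq_one, hord]
    push_cast
    rfl
  have hna : ∀ j : ℤ, b ≠ a ^ j := by
    intro j hj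
    have h1 := hbn 1
    rw [zpow_one, mul_one] at h1
    have h2 : b * a = a * b := by rw [hj]; exact (Commute.zpow_self a j).eq
    rw [h2] at h1
    have h3 := mul_right_cancel h1
    have h4 : a ^ (H - 2) = 1 := by
      rw [show H - 2 = (H - 1) - 1 by ring, zpow_sub, ← h3, zpow_one, mul_inv_cancel]
    rw [hdv, hH] at h4
    obtain ⟨q, hq⟩ := h4
    obtain ⟨H', hH'⟩ := hH4
    rw [hH'] at hq
    have : 4 * (H' - 2 * (H' * q)) = 2 := by linarith
    omega
  have hidx : (Subgroup.zpowers x).index = 2 := by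
    have h1 := Subgroup.card_mul_index (Subgroup.zpowers x)
    rw [Nat.card_zpowers, hx, hcard, pow_succ] at h1
    exact Nat.eq_of_mul_eq_mul_left (by positivity) h1
  have hgen : ∀ s ∈ S, ∃ j : ℤ, s = a ^ j ∨ s = a ^ j * b := by
    intro s hs
    by_cases hmem : (⟨s, hs⟩ : S) ∈ Subgroup.zpowers x
    · obtain ⟨j, hj⟩ := Subgroup.mem_zpowers_iff.1 hmem
      exact ⟨j, Or.inl (by have := congrArg Subtype.val hj; simpa using this.symm)⟩
    · have hy' : y ∉ Subgroup.zpowers x := by
        intro h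
        obtain ⟨j, hj⟩ := Subgroup.mem_zpowers_iff.1 h
        exact hna j (by have := congrArg Subtype.val hj; simpa using this.symm)
      have h2 : (⟨s, hs⟩ : S) * y ∈ Subgroup.zpowers x := by
        rw [Subgroup.mul_mem_iff_of_index_two hidx]
        exact iff_of_false hmem hy'
      obtain ⟨j, hj⟩ := Subgroup.mem_zpowers_iff.1 h2
      refine ⟨j, Or.inr ?_⟩
      have h3 := congrArg Subtype.val hj
      have h4 : a ^ j = s * b := by simpa using h3
      rw [h4, mul_assoc, hbb, mul_one]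
  have hsqb : ∀ j : ℤ, (a ^ j * b) * (a ^ j * b) = a ^ (H * j) := by
    intro j
    calc (a ^ j * b) * (a ^ j * b) = a ^ j * (b * a ^ j) * b := by simp only [mul_assoc]
      _ = a ^ j * (a ^ ((H - 1) * j) * b) * b := by rw [hbn]
      _ = a ^ j * a ^ ((H - 1) * j) * (b * b) := by simp only [mul_assoc]
      _ = a ^ (H * j) := by rw [hbb, mul_one, ← zpow_add]; congr 1; ring
  have hTS : ∀ e ∈ T, ∀ s ∈ S, e * s * e⁻¹ ∈ S := by
    intro e he s hs
    have h0 := (L.ST s).1 hs
    exact (L.ST _).2 ⟨T.mul_mem (T.mul_mem he h0.1) (T.inv_mem he), L.An.conj_mem s h0.2 e⟩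
  have htinv : t⁻¹ = t := inv_eq_of_mul_eq_one_right L.tt
  obtain ⟨i, hi | hi⟩ := hgen r L.rS
  · refine c3_core S n hn3 H hH a b haS hbS hord hbb hbn hgen hna t L.tt ?_ i ?_ ?_ ?_ ?_
    · intro s hs
      have := hTS t L.tT s hs
      rwa [htinv] at this
    · rw [← hdv, show 4 * i = i * 2 + i * 2 by ring, zpow_add, zpow_mul, ← hi, zpow_two, L.rz, L.zz]
    · rw [← hdv, show 2 * i = i * 2 by ring, zpow_mul, ← hi, zpow_two, L.rz]; exact L.z1
    · rw [← hi]; exact L.tr
    · intro Q hQ h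
      exact Fu.ct 1 Q hQ (by simpa using h)
  · -- r outside
    have hpar : ∀ j : ℤ, a ^ j = 1 → (2 : ℤ) ∣ j := by
      intro j hj
      rw [hdv, hH] at hj
      exact (Dvd.intro _ rfl).trans hj
    let M : Subgroup X :=
      { carrier := {x | ∃ j : ℤ, x = a ^ (2 * j) ∨ x = a ^ (2 * j) * b}
        one_mem' := ⟨0, Or.inl (by simp)⟩
        mul_mem' := by
          rintro x y ⟨i, h1⟩ ⟨j, h2⟩
          rcases h1 with h1 | h1 <;> rcases h2 with h2 | h2
          · exact ⟨i + j, Or.inl (by rw [h1, h2, mul_add, zpow_add])⟩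
          · exact ⟨i + j, Or.inr (by rw [h1, h2, mul_add, zpow_add, mul_assoc])⟩
          · refine ⟨i + (H - 1) * j, Or.inr ?_⟩
            rw [h1, h2, mul_assoc, hbn, ← mul_assoc, ← zpow_add]
            congr 2; ring
          · refine ⟨i + (H - 1) * j, Or.inl ?_⟩
            calc x * y = a ^ (2 * i) * (b * a ^ (2 * j)) * b := by rw [h1, h2]; simp only [mul_assoc]
              _ = a ^ (2 * i) * (a ^ ((H - 1) * (2 * j)) * b) * b := by rw [hbn]
              _ = a ^ (2 * i) * a ^ ((H - 1) * (2 * j)) * (b * b) := by simp only [mul_assoc]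
              _ = a ^ (2 * (i + (H - 1) * j)) := by rw [hbb, mul_one, ← zpow_add]; congr 1; ring
        inv_mem' := by
          rintro x ⟨i, h1⟩
          rcases h1 with h1 | h1
          · exact ⟨-i, Or.inl (by rw [h1, ← zpow_neg]; congr 1; ring)⟩
          · refine ⟨(H - 1) * (-i), Or.inr ?_⟩
            rw [h1, mul_inv_rev, hbinv, ← zpow_neg, hbn]
            congr 2; ring }
    have hMmem : ∀ x, x ∈ M ↔ ∃ j : ℤ, x = a ^ (2 * j) ∨ x = a ^ (2 * j) * b := fun x => Iff.rfl
    have hMS : M ≤ S := by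
      intro x hx
      obtain ⟨j, h | h⟩ := (hMmem x).1 hx
      · rw [h]; exact S.zpow_mem haS _
      · rw [h]; exact S.mul_mem (S.zpow_mem haS _) hbS
    have haM : a ∉ M := by
      intro h
      obtain ⟨j, h | h⟩ := (hMmem a).1 h
      · have h1 : a ^ (2 * j - 1) = 1 := by rw [zpow_sub, ← h, zpow_one, mul_inv_cancel]
        have := hpar _ h1
        omega
      · apply hna (-(2 * j) + 1)
        rw [zpow_add, zpow_one, zpow_neg]
        exact eq_inv_mul_of_mul_eq h.symm
    have heven : ∀ j : ℤ, (2 : ℤ) ∣ j → a ^ j ∈ M := by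
      rintro j ⟨q, hq⟩
      exact (hMmem _).2 ⟨q, Or.inl (by rw [hq])⟩
    have hevenb : ∀ j : ℤ, (2 : ℤ) ∣ j → a ^ j * b ∈ M := by
      rintro j ⟨q, hq⟩
      exact (hMmem _).2 ⟨q, Or.inr (by rw [hq])⟩
    have hrel : M.relIndex S = 2 := by
      rw [Subgroup.relIndex_eq_two_iff]
      refine ⟨a, haS, fun s hs => ?_⟩
      have hnb : ¬ (s * a ∈ M ∧ s ∈ M) := by
        rintro ⟨h1, h2⟩
        apply haM
        have := M.mul_mem (M.inv_mem h2) h1
        rwa [inv_mul_cancel_left] at this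
      have hone : s ∈ M ∨ s * a ∈ M := by
        obtain ⟨j, h | h⟩ := hgen s hs
        · by_cases hj : (2 : ℤ) ∣ j
          · left; rw [h]; exact heven j hj
          · right; rw [h, ← zpow_add_one]; exact heven _ (by omega)
        · by_cases hj : (2 : ℤ) ∣ j
          · left; rw [h]; exact hevenb j hj
          · right
            have h1 := hbn 1
            rw [zpow_one, mul_one] at h1
            rw [h, mul_assoc, h1, ← mul_assoc, ← zpow_add]
            exact hevenb _ (by omega)
      rcases hone with h | h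
      · exact Or.inr ⟨h, fun h' => hnb ⟨h', h⟩⟩
      · exact Or.inl ⟨h, fun h' => hnb ⟨h, h'⟩⟩
    have hinvM : ∀ w ∈ S, w * w = 1 → w ∈ M := by
      intro w hw hww
      obtain ⟨j, h | h⟩ := hgen w hw
      · rw [h] at hww ⊢
        rw [← zpow_add, hdv, hH] at hww
        obtain ⟨q, hq⟩ := hww
        obtain ⟨H', hH'⟩ := hH4
        apply heven
        refine ⟨2 * (H' * q), ?_⟩
        have : j = H * q := by linarith
        rw [this, hH']; ring
      · rw [h, hsqb, hdv, hH] at hww
        rw [h]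
        apply hevenb
        obtain ⟨q, hq⟩ := hww
        refine ⟨q, ?_⟩
        have : H * j = H * (2 * q) := by linarith
        exact mul_left_cancel₀ hHpos.ne' this
    have hevsq : ∀ j : ℤ, (a ^ (2 * j) * b) * (a ^ (2 * j) * b) = 1 := by
      intro j
      rw [hsqb, hdv, hH]
      exact ⟨j, by ring⟩
    have hrM : r ∉ M := by
      intro h
      obtain ⟨j, h | h⟩ := (hMmem r).1 h
      · apply hna (-i + 2 * j)
        rw [zpow_add, ← h, hi, zpow_neg, inv_mul_cancel_left]
      · apply L.z1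
        rw [← L.rz, h, hevsq]
    obtain ⟨g0, hg0, hg0M⟩ := Fu.tt2 M hMS hrel r L.rS
      (by
        have h : r ^ 4 = (r * r) * (r * r) := by simp only [pow_succ, pow_zero, one_mul, mul_assoc]
        rw [h, L.rz, L.zz]) hrM
      (by
        intro g hg hgS
        apply hinvM _ hgS
        rw [L.rz]
        calc g * z * g⁻¹ * (g * z * g⁻¹) = g * (z * z) * g⁻¹ := by group
          _ = 1 := by rw [L.zz]; group)
    set f := g0 * r * g0⁻¹ with hf
    have hff : f * f = g0 * z * g0⁻¹ := by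
      rw [hf, ← L.rz]; group
    have hff1 : f * f ≠ 1 := by
      intro h
      apply L.z1
      calc z = g0⁻¹ * (g0 * z * g0⁻¹) * g0 := by group
        _ = 1 := by rw [← hff, h]; group
    have hf4 : (f * f) * (f * f) = 1 := by
      rw [hff]
      calc g0 * z * g0⁻¹ * (g0 * z * g0⁻¹) = g0 * (z * z) * g0⁻¹ := by group
        _ = 1 := by rw [L.zz]; group
    obtain ⟨j, hj⟩ : ∃ j : ℤ, f = a ^ j := by
      obtain ⟨j, h | h⟩ := (hMmem f).1 hg0M
      · exact ⟨_, h⟩
      · exfalso; apply hff1; rw [h]; exact hevsq j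
    have hfS : f ∈ S := hMS hg0M
    have hj1 : (2 : ℤ) ^ n ∣ 4 * j := by
      rw [← hdv, show 4 * j = (j + j) + (j + j) by ring, zpow_add, zpow_add, ← hj, hf4]
    have hj2 : ¬ (2 : ℤ) ^ n ∣ 2 * j := by
      rw [← hdv, show 2 * j = j + j by ring, zpow_add, ← hj]; exact hff1
    have hZ : ∀ x ∈ S, (∀ s ∈ S, x * s = s * x) → x * x = 1 := by
      intro x hx hxs
      obtain ⟨l, h | h⟩ := hgen x hx
      · have h1 := hxs b hbS
        rw [h, hbn] at h1
        have h2 := mul_right_cancel h1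
        have h3 : a ^ ((H - 2) * l) = 1 := by
          rw [show (H - 2) * l = (H - 1) * l - l by ring, zpow_sub, ← h2, mul_inv_cancel]
        rw [h, ← zpow_add, hdv]
        rw [hdv] at h3
        obtain ⟨H', hH'⟩ := hH4
        have hcop : IsCoprime ((2 : ℤ) ^ n) (2 * H' - 1) := by
          apply IsCoprime.pow_left
          exact ⟨H', -1, by ring⟩
        apply hcop.dvd_of_dvd_mul_left
        rw [hH'] at h3
        rw [show (2 * H' - 1) * (l + l) = (4 * H' - 2) * l by ring]
        exact h3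
      · exfalso
        have h1 := hxs a haS
        have h2 := hbn 1
        rw [zpow_one, mul_one] at h2
        rw [h, mul_assoc, h2, ← mul_assoc, ← mul_assoc] at h1
        have h3 := mul_right_cancel h1
        rw [← zpow_add, ← zpow_one_add] at h3
        have h4 : a ^ (H - 2) = 1 := by
          rw [show H - 2 = (l + (H - 1)) - (1 + l) by ring, zpow_sub, h3, mul_inv_cancel]
        rw [hdv, hH] at h4
        obtain ⟨q, hq⟩ := h4
        obtain ⟨H', hH'⟩ := hH4
        rw [hH'] at hq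
        have : 4 * (H' - 2 * (H' * q)) = 2 := by linarith
        omega
    -- f is normalised
    have hfinv : f⁻¹ = f * f * f := by
      apply inv_eq_of_mul_eq_one_left
      rw [← hf4]; simp only [mul_assoc]
    have hTf : ∀ e ∈ T, e * f * e⁻¹ = f ∨ e * f * e⁻¹ = f⁻¹ := by
      intro e he
      obtain ⟨k, hk⟩ : ∃ k : ℤ, e * a * e⁻¹ = a ^ k := by
        obtain ⟨l, h1 | h1⟩ := hgen _ (hTS e he a haS)
        · exact ⟨l, h1⟩
        · exfalso
          have h2 : (e * a * e⁻¹) * (e * a * e⁻¹) = a ^ (H * l) := by rw [h1, hsqb]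
          have h3 : ((e * a * e⁻¹) * (e * a * e⁻¹)) * ((e * a * e⁻¹) * (e * a * e⁻¹)) = 1 := by
            rw [h2, ← zpow_add, hdv, hH]
            exact ⟨l, by ring⟩
          have h4' : a ^ (4 : ℤ) = 1 := by
            have h7 : a * a * (a * a) = 1 := by
              calc a * a * (a * a) = e⁻¹ * (((e * a * e⁻¹) * (e * a * e⁻¹)) * ((e * a * e⁻¹) * (e * a * e⁻¹))) * e := by
                    group
                _ = 1 := by rw [h3]; group
            rw [← h7, show (4 : ℤ) = 1 + 1 + (1 + 1) by norm_num, zpow_add, zpow_add, zpow_one]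
          have h8 : (8 : ℤ) ∣ 2 ^ n := by
            have : (2 : ℤ) ^ 3 ∣ 2 ^ n := pow_dvd_pow 2 hn3
            norm_num at this; exact this
          have h6 := h8.trans ((hdv 4).1 h4')
          norm_num at h6
      have h1 : e * f * e⁻¹ = f ^ k := by
        rw [hj, ← zpow_mul, mul_comm j k, zpow_mul, ← hk, conj_zpow]
      have hf4z : f ^ (4 : ℤ) = 1 := by
        rw [← hf4, show (4 : ℤ) = 1 + 1 + (1 + 1) by norm_num, zpow_add, zpow_add, zpow_one]
      have h2 : f ^ k = f ^ (k % 4) := by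
        conv_lhs => rw [← Int.emod_add_mul_ediv k 4]
        rw [zpow_add, zpow_mul, hf4z, one_zpow, mul_one]
      have hne : ∀ w : X, w * w = 1 → e * f * e⁻¹ ≠ w := by
        intro w hw h
        apply hff1
        calc f * f = e⁻¹ * ((e * f * e⁻¹) * (e * f * e⁻¹)) * e := by group
          _ = 1 := by rw [h, hw]; group
      have hmod : k % 4 = 0 ∨ k % 4 = 1 ∨ k % 4 = 2 ∨ k % 4 = 3 := by omega
      rcases hmod with h | h | h | h
      · exfalso; apply hne (f ^ k) _ h1
        rw [h2, h]; simp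
      · left; rw [h1, h2, h, zpow_one]
      · exfalso; apply hne (f ^ k) _ h1
        rw [h2, h, zpow_two]; exact hf4
      · right; rw [h1, h2, h, hfinv]
        rw [show (3 : ℤ) = 1 + 1 + 1 by norm_num, zpow_add, zpow_add, zpow_one]
    have hbf : b * f = f⁻¹ * b := by
      rw [hj, hbn]
      congr 1
      rw [← zpow_neg]
      have : a ^ (H * j) = 1 := by
        rw [hdv]
        obtain ⟨H', hH'⟩ := hH4
        obtain ⟨q, hq⟩ := hj1
        exact ⟨H' * q, by rw [hH']; linear_combination H' * hq⟩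
      rw [show (H - 1) * j = H * j + -j by ring, zpow_add, this, one_mul]
    have hfne : f⁻¹ ≠ f := by
      intro h
      apply hff1
      nth_rw 1 [← h]
      exact inv_mul_cancel f
    have hcardT : 2 * Nat.card ↥(T ⊓ Subgroup.centralizer {f}) = Nat.card T := by
      have hrel2 : (Subgroup.centralizer {f}).relIndex T = 2 := by
        rw [Subgroup.relIndex_eq_two_iff]
        refine ⟨b, ((L.ST b).1 hbS).1, fun w hw => ?_⟩
        rw [Subgroup.mem_centralizer_singleton_iff, Subgroup.mem_centralizer_singleton_iff]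
        rcases hTf w hw with h | h
        · have h1 : w * f = f * w := by
            calc w * f = w * f * w⁻¹ * w := by group
              _ = f * w := by rw [h]
          refine Or.inr ⟨h1, fun h2 => hfne ?_⟩
          have h3 : w * b * f = f⁻¹ * (w * b) := by
            calc w * b * f = w * (b * f) := by simp only [mul_assoc]
              _ = w * (f⁻¹ * b) := by rw [hbf]
              _ = (w * f⁻¹) * b := by simp only [mul_assoc]
              _ = (f⁻¹ * w) * b := by rw [(show Commute w f from h1).inv_right.eq]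
              _ = f⁻¹ * (w * b) := by simp only [mul_assoc]
          rw [h3] at h2
          exact mul_right_cancel h2
        · have h1 : w * f = f⁻¹ * w := by
            calc w * f = w * f * w⁻¹ * w := by group
              _ = f⁻¹ * w := by rw [h]
          refine Or.inl ⟨?_, fun h2 => hfne ?_⟩
          · have h4 : w * f⁻¹ = f * w := by
              have : (w * f * w⁻¹)⁻¹ = f := by rw [h, inv_inv]
              calc w * f⁻¹ = (w * f * w⁻¹)⁻¹ * w := by group
                _ = f * w := by rw [this]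
            calc w * b * f = w * (b * f) := by simp only [mul_assoc]
              _ = w * (f⁻¹ * b) := by rw [hbf]
              _ = (w * f⁻¹) * b := by simp only [mul_assoc]
              _ = f * w * b := by rw [h4]
              _ = f * (w * b) := by simp only [mul_assoc]
          · rw [h1] at h2
            exact mul_right_cancel h2
      have h1 := Subgroup.card_mul_index ((Subgroup.centralizer {f}).subgroupOf T)
      rw [← Subgroup.relIndex, hrel2] at h1
      have h2 : Nat.card ((Subgroup.centralizer {f}).subgroupOf T) = Nat.card ↥(T ⊓ Subgroup.centralizer {f}) := by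
        rw [inf_comm, ← Subgroup.inf_subgroupOf_right]
        exact Nat.card_congr (Subgroup.subgroupOfEquivOfLe inf_le_right).toEquiv
      rw [← h2, ← h1, mul_comm]
    obtain ⟨g, hg1, hg2⟩ := ext4 L f g0 hfS hg0 hf.symm hZ hcardT
    set e := g * t * g⁻¹ with he
    have hee : e * e = 1 := by
      calc e * e = g * (t * t) * g⁻¹ := by rw [he]; group
        _ = 1 := by rw [L.tt]; group
    have heinv : e⁻¹ = e := inv_eq_of_mul_eq_one_left hee
    refine c3_core S n hn3 H hH a b haS hbS hord hbb hbn hgen hna e hee ?_ j hj1 hj2 ?_ ?_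
    · intro s hs
      have := hTS e hg2 s hs
      rwa [heinv] at this
    · rw [← hj, ← hg1, he]
      calc g * t * g⁻¹ * (g * r * g⁻¹) = g * (t * r) * g⁻¹ := by group
        _ = g * (r * t) * g⁻¹ := by rw [L.tr]
        _ = g * r * g⁻¹ * (g * t * g⁻¹) := by group
    · intro Q hQ h
      exact Fu.ct g Q hQ h

end
end Cfsg.Agent.Lib.H17A
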