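import Cfsg.Agent.Lib.H17A1

set_option autoImplicit false

namespace Cfsg.Agent.Lib.H17A

universe u

theorem c3_arith {n j : ℕ} (h4 : j ≡ 1 [MOD 4]) (h : j * j ≡ 1 [MOD 2 ^ n]) : 2 * j ≡ 2 [MOD 2 ^ n] := by
  have h1 : (2 ^ n : ℤ) ∣ (j : ℤ) * j - 1 := by
    have := (Nat.modEq_iff_dvd.1 h.symm)
    push_cast at this
    exact this
  obtain ⟨k, hk⟩ : ∃ k : ℤ, (j : ℤ) = 4 * k + 1 := by
    have := (Nat.modEq_iff_dvd.1 h4.symm)
    push_cast at this
    obtain ⟨k, hk⟩ := this
    exact ⟨k, by linarith⟩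
  have h2 : (j : ℤ) * j - 1 = (2 * (j - 1)) * (2 * k + 1) := by rw [hk]; ring
  rw [h2] at h1
  have hcop : IsCoprime (2 ^ n : ℤ) (2 * k + 1) := by
    apply IsCoprime.pow_left
    exact ⟨-k, 1, by ring⟩
  have h3 := hcop.dvd_of_dvd_mul_right h1
  refine (Nat.modEq_iff_dvd.2 ?_).symm
  push_cast
  have : (2 * (j : ℤ) - 2) = 2 * (j - 1) := by ring
  rw [this]; exact h3

theorem c3_big {X : Type u} [Group X] [Finite X] {S : Subgroup X} {n : ℕ} (hn : 3 ≤ n) {x y : X} (hx : x ∈ S) (hy : y ∈ S)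
    (hxo : orderOf x = 2 ^ n) (hyy : y * y = 1) (hyx : y * x * y⁻¹ = x ^ (2 ^ (n - 1) - 1))
    (hS : ∀ s ∈ S, ∃ i : ℕ, s = x ^ i ∨ s = x ^ i * y) (e : X) (he : e * e = 1) (heS : ∀ s ∈ S, e * s * e⁻¹ ∈ S)
    (hef : e * x ^ (2 ^ (n - 2)) = x ^ (2 ^ (n - 2)) * e) :
    ∃ Q : Subgroup X, Q ≤ S ∧ (∀ q ∈ Q, e * q = q * e) ∧ 4 < Nat.card Q := by
  have hxn : x ^ (2 ^ n) = 1 := by rw [← hxo]; exact pow_orderOf_eq_one x
  have heinv : e⁻¹ = e := inv_eq_of_mul_eq_one_left he
  have hyinv : y⁻¹ = y := inv_eq_of_mul_eq_one_left hyy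
  -- `y ∉ ⟨x⟩`
  have hynot : ∀ i : ℕ, y ≠ x ^ i := by
    intro i hi
    have h1 : y * x * y⁻¹ = x := by
      rw [hi]
      have : Commute (x ^ i) x := (Commute.refl x).pow_left i
      rw [this.eq, mul_inv_cancel_right]
    rw [hyx] at h1
    have h2 : x ^ (2 ^ (n - 1) - 1) = x ^ 1 := by rw [h1, pow_one]
    have h3 := (pow_inj_mod (x := x)).1 h2
    rw [hxo] at h3
    have h8 : 2 ^ n = 2 * 2 ^ (n - 1) := by rw [← pow_succ']; congr 1; omega
    have h9 : 4 ≤ 2 ^ (n - 1) := by
      calc 4 = 2 ^ 2 := by norm_num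
        _ ≤ 2 ^ (n - 1) := Nat.pow_le_pow_right (by norm_num) (by omega)
    rw [Nat.mod_eq_of_lt (by omega), Nat.mod_eq_of_lt (by omega)] at h3
    omega
  -- squares of the elements outside `⟨x⟩`
  have hsq : ∀ i : ℕ, (x ^ i * y) * (x ^ i * y) = x ^ (2 ^ (n - 1) * i) := by
    intro i
    have h1 : y * x ^ i * y⁻¹ = x ^ ((2 ^ (n - 1) - 1) * i) := by
      rw [← conj_pow, hyx, ← pow_mul]
    calc (x ^ i * y) * (x ^ i * y) = x ^ i * (y * x ^ i * y⁻¹) * (y * y) := by group
      _ = x ^ i * x ^ ((2 ^ (n - 1) - 1) * i) := by rw [h1, hyy, mul_one]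
      _ = x ^ (i + (2 ^ (n - 1) - 1) * i) := by rw [pow_add]
      _ = x ^ (2 ^ (n - 1) * i) := by
        congr 1
        have : 1 ≤ 2 ^ (n - 1) := Nat.one_le_two_pow
        calc i + (2 ^ (n - 1) - 1) * i = (1 + (2 ^ (n - 1) - 1)) * i := by ring
          _ = 2 ^ (n - 1) * i := by rw [Nat.add_sub_cancel' this]
  have h2n : 2 ^ n = 2 ^ (n - 1) * 2 := by rw [← pow_succ]; congr 1; omega
  obtain ⟨j, hj⟩ : ∃ j : ℕ, e * x * e⁻¹ = x ^ j := by
    obtain ⟨j, h | h⟩ := hS _ (heS x hx)
    · exact ⟨j, h⟩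
    · exfalso
      have h1 : (e * x * e⁻¹) ^ 4 = 1 := by
        have : (e * x * e⁻¹) ^ 4 = ((e * x * e⁻¹) * (e * x * e⁻¹)) * ((e * x * e⁻¹) * (e * x * e⁻¹)) := by
          simp only [pow_succ, pow_zero, one_mul, mul_assoc]
        rw [this, h, hsq, ← pow_add]
        have : 2 ^ (n - 1) * j + 2 ^ (n - 1) * j = 2 ^ n * j := by rw [h2n]; ring
        rw [this, pow_mul, hxn, one_pow]
      rw [conj_pow] at h1
      have h3 : x ^ 4 = 1 := by
        have := congrArg (fun w => e⁻¹ * w * e) h1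
        simpa [mul_assoc] using this
      have h4 := orderOf_dvd_of_pow_eq_one h3
      rw [hxo] at h4
      have h5 := Nat.le_of_dvd (by norm_num) h4
      have h6 : 2 ^ 3 ≤ 2 ^ n := Nat.pow_le_pow_right (by norm_num) hn
      omega
  have hjk : ∀ k : ℕ, e * x ^ k * e⁻¹ = x ^ (j * k) := by
    intro k; rw [← conj_pow, hj, ← pow_mul]
  have hj4 : j ≡ 1 [MOD 4] := by
    have h1 : x ^ (j * 2 ^ (n - 2)) = x ^ (2 ^ (n - 2)) := by
      rw [← hjk, hef, mul_inv_cancel_right]
    have h2 : j * 2 ^ (n - 2) ≡ 1 * 2 ^ (n - 2) [MOD 4 * 2 ^ (n - 2)] := by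
      have h3 := (pow_inj_mod (x := x)).1 h1
      rw [hxo] at h3
      have h4 : 2 ^ n = 4 * 2 ^ (n - 2) := by
        have : (4 : ℕ) = 2 ^ 2 := by norm_num
        rw [this, ← pow_add]; congr 1; omega
      rw [h4] at h3
      rw [one_mul]; exact h3
    exact Nat.ModEq.mul_right_cancel' (by positivity) h2
  have hjj : j * j ≡ 1 [MOD 2 ^ n] := by
    have h1 : x ^ (j * j) = x ^ 1 := by
      rw [← hjk j, ← hj, heinv, pow_one]
      calc e * (e * x * e) * e = (e * e) * x * (e * e) := by group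
        _ = x := by rw [he]; group
    have h3 := (pow_inj_mod (x := x)).1 h1
    rw [hxo] at h3
    exact h3
  have h2j := c3_arith hj4 hjj
  have hx2 : e * x ^ 2 = x ^ 2 * e := by
    have h1 : e * x ^ 2 * e⁻¹ = x ^ 2 := by
      rw [hjk]
      refine (pow_inj_mod (x := x)).2 ?_
      rw [hxo, mul_comm]; exact h2j
    rwa [mul_inv_eq_iff_eq_mul] at h1
  have hx2o : orderOf (x ^ 2) = 2 ^ (n - 1) := by
    rw [orderOf_pow' x (by norm_num), hxo]
    have : Nat.gcd (2 ^ n) 2 = 2 := by
      rw [h2n]; exact Nat.gcd_eq_right (Dvd.intro_left _ rfl)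
    rw [this, h2n]; simp
  by_cases hn4 : 4 ≤ n
  · refine ⟨Subgroup.zpowers (x ^ 2), ?_, ?_, ?_⟩
    · rw [Subgroup.zpowers_le]; exact S.pow_mem hx 2
    · intro q hq
      obtain ⟨k, rfl⟩ := Subgroup.mem_zpowers_iff.1 hq
      exact ((show Commute e (x ^ 2) from hx2).zpow_right k).eq
    · rw [Nat.card_zpowers, hx2o]
      calc 4 < 2 ^ 3 := by norm_num
        _ ≤ 2 ^ (n - 1) := Nat.pow_le_pow_right (by norm_num) (by omega)
  · have hn3 : n = 3 := by omega
    subst hn3
    norm_num at hxo hx2o hxn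
    -- it suffices to find a further fixed element outside `⟨x²⟩`
    have hfin : ∀ w ∈ S, w ∉ Subgroup.zpowers (x ^ 2) → e * w = w * e →
        ∃ Q : Subgroup X, Q ≤ S ∧ (∀ q ∈ Q, e * q = q * e) ∧ 4 < Nat.card Q := by
      intro w hwS hw hew
      refine ⟨Subgroup.closure {x ^ 2, w}, ?_, ?_, ?_⟩
      · rw [Subgroup.closure_le]
        rintro u (rfl | rfl)
        · exact S.pow_mem hx 2
        · exact hwS
      · intro q hq
        induction hq using Subgroup.closure_induction with
        | mem u hu =>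
          rcases hu with rfl | rfl
          · exact hx2
          · exact hew
        | one => simp
        | mul a b _ _ iha ihb => rw [← mul_assoc, iha, mul_assoc, ihb, mul_assoc]
        | inv a _ iha => exact ((show Commute e a from iha).inv_right).eq
      · by_contra hcon
        have hle : Subgroup.zpowers (x ^ 2) ≤ Subgroup.closure {x ^ 2, w} := by
          rw [Subgroup.zpowers_le]; exact Subgroup.subset_closure (by simp)
        have heq := Subgroup.eq_of_le_of_card_ge hle (by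
          rw [Nat.card_zpowers, hx2o]; omega)
        exact hw (heq ▸ Subgroup.subset_closure (by simp))
    -- `j ∈ {1, 5}` modulo `8`
    have hj8 : j % 8 = 1 ∨ j % 8 = 5 := by
      have h1 : 2 * j % 8 = 2 := by have := h2j; simpa [Nat.ModEq] using this
      have h2 : j % 4 = 1 := by simpa [Nat.ModEq] using hj4
      omega
    have hpow8 : ∀ k : ℕ, x ^ k = x ^ (k % 8) := by
      intro k
      conv_lhs => rw [← Nat.div_add_mod k 8]
      rw [pow_add, pow_mul, hxn, one_pow, one_mul]
    rcases hj8 with h8 | h8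
    · -- `e` centralises `x`
      refine hfin x hx ?_ ?_
      · intro h
        obtain ⟨k, hk⟩ := (mem_powers_iff_mem_zpowers (x := x ^ 2)).2 h
        have hk : x ^ (2 * k) = x ^ 1 := by rw [pow_mul, pow_one]; exact hk
        have := (pow_inj_mod (x := x)).1 hk
        rw [hxo] at this
        omega
      · have h1 : e * x * e⁻¹ = x := by rw [hj, hpow8, h8, pow_one]
        rwa [mul_inv_eq_iff_eq_mul] at h1
    · obtain ⟨i, hi | hi⟩ := hS _ (heS y hy)
      · exfalso
        have : y = x ^ (j * i) := by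
          rw [← hjk, ← hi, heinv]
          calc y = 1 * y * 1 := by group
            _ = (e * e) * y * (e * e) := by rw [he]
            _ = _ := by group
        exact hynot _ this
      · have h1 : y = x ^ (j * i + i) * y := by
          have h2 : e * (x ^ i * y) * e⁻¹ = x ^ (j * i + i) * y := by
            rw [pow_add, ← hjk i]
            calc e * (x ^ i * y) * e⁻¹ = (e * x ^ i * e⁻¹) * (e * y * e⁻¹) := by group
              _ = _ := by rw [hi]; group
          rw [← h2, ← hi, heinv]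
          calc y = 1 * y * 1 := by group
            _ = (e * e) * y * (e * e) := by rw [he]
            _ = _ := by group
        have h3 : x ^ (j * i + i) = 1 := by simpa using h1.symm
        have h4 : 8 ∣ j * i + i := by
          have := orderOf_dvd_of_pow_eq_one h3
          rwa [hxo] at this
        have hi4 : i % 8 = 0 ∨ i % 8 = 4 := by
          obtain ⟨q, hq⟩ : ∃ q, j = 8 * q + 5 := ⟨j / 8, by omega⟩
          rw [hq] at h4
          have h5 : (8 * q + 5) * i + i = 8 * (q * i) + 6 * i := by ring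
          rw [h5] at h4
          have h6 : 8 ∣ 6 * i := (Nat.dvd_add_right (Dvd.intro _ rfl)).1 h4
          omega
        have hout : ∀ k : ℕ, x ^ k * y ∉ Subgroup.zpowers (x ^ 2) := by
          intro k h
          obtain ⟨l, hl⟩ := (mem_powers_iff_mem_zpowers (x := x ^ 2)).2 h
          have hl : x ^ (2 * l) = x ^ k * y := by rw [pow_mul]; exact hl
          apply hynot (7 * k + 2 * l)
          rw [pow_add, hl, ← mul_assoc, ← pow_add]
          have : x ^ (7 * k + k) = 1 := by
            have : 7 * k + k = 8 * k := by ring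
            rw [this, pow_mul, hxn, one_pow]
          rw [this, one_mul]
        rcases hi4 with h0 | h0
        · refine hfin y hy (by simpa using hout 0) ?_
          have h1 : e * y * e⁻¹ = y := by rw [hi, hpow8, h0, pow_zero, one_mul]
          rwa [mul_inv_eq_iff_eq_mul] at h1
        · refine hfin (x * y) (S.mul_mem hx hy) (by simpa using hout 1) ?_
          have h1 : e * (x * y) * e⁻¹ = x * y := by
            calc e * (x * y) * e⁻¹ = (e * x * e⁻¹) * (e * y * e⁻¹) := by group
              _ = x ^ j * (x ^ i * y) := by rw [hj, hi]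
              _ = x ^ (j + i) * y := by rw [pow_add, mul_assoc]
              _ = x * y := by
                rw [hpow8 (j + i)]
                have : (j + i) % 8 = 1 := by omega
                rw [this, pow_one]
          rwa [mul_inv_eq_iff_eq_mul] at h1

end Cfsg.Agent.Lib.H17A
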