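import Mathlib

set_option autoImplicit false

/-!
# Numbers of Sylow subgroups (helper72)

* `card_sylow_subgroup_eq`: for `L` containing a Sylow `p`-subgroup of `G`,
  `n_p(L)` is the number of Sylow `p`-subgroups of `G` lying in `L`.
* `card_sylow_eq_quot_mul`: `n_p(G) = n_p(G/K) * n_p(P ⊔ K)`.
* `card_sylow_le_eq_mul`: M. Hall's formula.
-/

namespace Cfsg.Agent.Lib.SylowNumbers

open Pointwise

theorem relIndex_eq_sup {G : Type*} [Group G] [Finite G] (H A : Subgroup G) [A.Normal] :
    H.relIndex A = H.relIndex (A ⊔ H) := by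
  have h1 := Subgroup.relIndex_mul_relIndex (A ⊓ H) H (A ⊔ H) inf_le_right le_sup_right
  have h2 := Subgroup.relIndex_mul_relIndex (A ⊓ H) A (A ⊔ H) inf_le_left le_sup_left
  rw [Subgroup.inf_relIndex_right] at h1
  rw [Subgroup.inf_relIndex_left, Subgroup.relIndex_sup_left] at h2
  rw [← h2, mul_comm] at h1
  have h3 : A.relIndex H ≠ 0 := by
    intro h0
    exact Subgroup.index_ne_zero_of_finite (Subgroup.index_eq_zero_of_relIndex_eq_zero h0)
  exact (Nat.eq_of_mul_eq_mul_right (Nat.pos_of_ne_zero h3) h1).symm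

variable {G : Type*} [Group G] [Finite G] {p : ℕ} [hp : Fact p.Prime]

/-- A `p`-subgroup of order equal to that of a Sylow is Sylow, and so on: if `Q` is a Sylow
`p`-subgroup of `L` and `L` contains a Sylow `p`-subgroup of `G` then `Q` is Sylow in `G`. -/
theorem exists_sylow_map_eq {L : Subgroup G} (P : Sylow p G) (hP : (P : Subgroup G) ≤ L)
    (Q : Sylow p L) : ∃ R : Sylow p G, (R : Subgroup G) = (Q : Subgroup L).map L.subtype := by
  have h1 : Nat.card (P.subtype hP) = Nat.card Q :=
    (P.subtype hP).card_eq_multiplicity.trans Q.card_eq_multiplicity.symm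
  have h2 : Nat.card ((Q : Subgroup L).map L.subtype) = Nat.card Q :=
    Nat.card_congr ((Q : Subgroup L).equivMapOfInjective L.subtype L.subtype_injective).symm.toEquiv
  have h3 : Nat.card (P.subtype hP) = Nat.card P := by
    exact Nat.card_congr (Subgroup.subgroupOfEquivOfLe hP).toEquiv
  refine ⟨Sylow.ofCard ((Q : Subgroup L).map L.subtype) ?_, rfl⟩
  rw [h2, ← h1, h3, P.card_eq_multiplicity]

/-- Sylow subgroups of `L` (where `L` contains some Sylow subgroup of `G`) correspond to
Sylow subgroups of `G` contained in `L`. -/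
theorem card_sylow_subgroup_eq (L : Subgroup G) (P : Sylow p G) (hP : (P : Subgroup G) ≤ L) :
    Nat.card (Sylow p L) = Nat.card {Q : Sylow p G // (Q : Subgroup G) ≤ L} := by
  symm
  refine Nat.card_congr (Equiv.ofBijective (fun Q => Q.1.subtype Q.2) ⟨?_, ?_⟩)
  · intro Q R h
    exact Subtype.ext (Sylow.subtype_injective h)
  · intro Q
    obtain ⟨R, hR⟩ := exists_sylow_map_eq P hP Q
    have hRL : (R : Subgroup G) ≤ L := by
      rw [hR]; exact Subgroup.map_subtype_le _
    refine ⟨⟨R, hRL⟩, ?_⟩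
    apply Sylow.ext
    change (R : Subgroup G).subgroupOf L = Q
    rw [hR]
    exact Subgroup.comap_map_eq_self_of_injective L.subtype_injective _

/-- Finite counting along an equivariant surjection. -/
theorem card_eq_card_mul_of_fibers {α β : Type*} [Finite α] [Finite β] (f : α → β) (c : ℕ)
    (h : ∀ b, Nat.card {a // f a = b} = c) : Nat.card α = Nat.card β * c := by
  classical
  haveI := Fintype.ofFinite α
  haveI := Fintype.ofFinite β
  have h1 : Nat.card α = Nat.card (Σ b : β, {a // f a = b}) :=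
    Nat.card_congr (Equiv.sigmaFiberEquiv f).symm
  rw [h1, Nat.card_sigma]
  rw [Finset.sum_congr rfl (fun b _ => h b)]
  simp

theorem mapSurjective_eq_iff_le_sup (K : Subgroup G) [K.Normal] (P Q : Sylow p G) :
    Q.mapSurjective (QuotientGroup.mk'_surjective K) = P.mapSurjective (QuotientGroup.mk'_surjective K)
      ↔ (Q : Subgroup G) ≤ (P : Subgroup G) ⊔ K := by
  have hPK : ((P : Subgroup G).map (QuotientGroup.mk' K)).comap (QuotientGroup.mk' K) = (P : Subgroup G) ⊔ K := by
    rw [Subgroup.comap_map_eq, QuotientGroup.ker_mk']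
  constructor
  · intro h
    rw [← hPK]
    have h1 : (Q : Subgroup G).map (QuotientGroup.mk' K) = (P : Subgroup G).map (QuotientGroup.mk' K) := by
      have := congrArg (fun R : Sylow p (G ⧸ K) => (R : Subgroup (G ⧸ K))) h
      simpa using this
    rw [← h1]
    exact Subgroup.le_comap_map _ _
  · intro h
    apply Sylow.ext
    have h2 : ((Q.mapSurjective (QuotientGroup.mk'_surjective K) : Sylow p (G ⧸ K)) : Subgroup (G ⧸ K)) ≤
        (P.mapSurjective (QuotientGroup.mk'_surjective K) : Sylow p (G ⧸ K)) := by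
      simp only [Sylow.coe_mapSurjective]
      rw [Subgroup.map_le_iff_le_comap, hPK]
      exact h
    exact ((Q.mapSurjective (QuotientGroup.mk'_surjective K)).3
      (P.mapSurjective (QuotientGroup.mk'_surjective K)).2 h2).symm

/-- `n_p(G) = n_p(G/K) * n_p(P ⊔ K)`. -/
theorem card_sylow_eq_quot_mul (K : Subgroup G) [K.Normal] (P : Sylow p G) :
    Nat.card (Sylow p G) = Nat.card (Sylow p (G ⧸ K)) * Nat.card (Sylow p ((P : Subgroup G) ⊔ K : Subgroup G)) := by
  apply card_eq_card_mul_of_fibers (fun Q : Sylow p G => Q.mapSurjective (QuotientGroup.mk'_surjective K))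
  intro R
  obtain ⟨Q, hQ⟩ := Sylow.mapSurjective_surjective (QuotientGroup.mk'_surjective K) p R
  obtain ⟨g, hg⟩ := MulAction.exists_smul_eq G P Q
  rw [card_sylow_subgroup_eq _ P le_sup_left]
  symm
  refine Nat.card_congr (Equiv.subtypeEquiv (MulAction.toPerm g) ?_)
  intro S
  change _ ↔ (g • S).mapSurjective (QuotientGroup.mk'_surjective K) = R
  rw [← hQ, mapSurjective_eq_iff_le_sup, ← hg, Sylow.coe_subgroup_smul, Sylow.coe_subgroup_smul]
  have h3 : MulAut.conj g • K = K := Subgroup.Normal.conj_smul_eq_self g K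
  constructor
  · intro h
    have := Subgroup.pointwise_smul_le_pointwise_smul_iff (a := MulAut.conj g).mpr h
    rwa [Subgroup.smul_sup, h3] at this
  · intro h
    rw [← h3, ← Subgroup.smul_sup] at h
    exact Subgroup.pointwise_smul_le_pointwise_smul_iff.mp h

theorem not_dvd_index_subgroupOf (K : Subgroup G) [K.Normal] (Q : Sylow p G) :
    ¬ p ∣ ((Q : Subgroup G).subgroupOf K).index := by
  intro h
  have h1 : ((Q : Subgroup G).subgroupOf K).index = (Q : Subgroup G).relIndex (K ⊔ Q) :=
    relIndex_eq_sup (Q : Subgroup G) K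
  rw [h1] at h
  have h5 : (Q : Subgroup G).relIndex (K ⊔ Q) ∣ (Q : Subgroup G).index :=
    Subgroup.relIndex_dvd_index_of_le le_sup_right
  exact Q.not_dvd_index' (Nat.card_pos.ne') (h.trans h5)

/-- `Q ∩ K` as a Sylow subgroup of the normal subgroup `K`. -/
noncomputable def infSylow (K : Subgroup G) [K.Normal] (Q : Sylow p G) : Sylow p K :=
  (Q.2.comap_subtype (K := K)).toSylow (not_dvd_index_subgroupOf K Q)

theorem coe_infSylow (K : Subgroup G) [K.Normal] (Q : Sylow p G) :
    (infSylow K Q : Subgroup K) = (Q : Subgroup G).subgroupOf K := rfl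

theorem infSylow_eq_iff (K : Subgroup G) [K.Normal] (P Q : Sylow p G) :
    infSylow K Q = infSylow K P ↔ (Q : Subgroup G) ⊓ K = (P : Subgroup G) ⊓ K := by
  constructor
  · intro h
    have h1 : (infSylow K Q : Subgroup K) = infSylow K P := by rw [h]
    rw [coe_infSylow, coe_infSylow] at h1
    have h2 := congrArg (Subgroup.map K.subtype) h1
    simpa [Subgroup.subgroupOf_map_subtype] using h2
  · intro h
    apply Sylow.ext
    rw [coe_infSylow, coe_infSylow]
    ext ⟨x, hx⟩
    have := SetLike.ext_iff.mp h x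
    simpa [Subgroup.mem_subgroupOf, hx] using this

/-- `Q ∩ K = P ∩ K` iff `Q` normalizes `P ∩ K`, for Sylow subgroups `P`, `Q` and normal `K`. -/
theorem inf_eq_inf_iff_le_normalizer (K : Subgroup G) [K.Normal] (P Q : Sylow p G) :
    (Q : Subgroup G) ⊓ K = (P : Subgroup G) ⊓ K ↔
      (Q : Subgroup G) ≤ Subgroup.normalizer (((P : Subgroup G) ⊓ K : Subgroup G) : Set G) := by
  constructor
  · intro h
    rw [← h]
    intro x hx
    rw [Subgroup.mem_normalizer_iff]
    intro y
    simp only [SetLike.mem_coe, Subgroup.mem_inf]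
    constructor
    · rintro ⟨h1, h2⟩
      exact ⟨Subgroup.mul_mem _ (Subgroup.mul_mem _ hx h1) (Subgroup.inv_mem _ hx),
        Subgroup.Normal.conj_mem inferInstance y h2 x⟩
    · rintro ⟨h1, h2⟩
      have e : x⁻¹ * (x * y * x⁻¹) * x = y := by group
      constructor
      · have := Subgroup.mul_mem _ (Subgroup.mul_mem _ (Subgroup.inv_mem _ hx) h1) hx
        rwa [e] at this
      · have := Subgroup.Normal.conj_mem (inferInstance : K.Normal) _ h2 x⁻¹
        rwa [inv_inv, e] at this
  · intro h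
    -- Q ⊔ (P ⊓ K) is a p-group
    have h1 : IsPGroup p ((Q : Subgroup G) ⊔ ((P : Subgroup G) ⊓ K) : Subgroup G) := by
      refine IsPGroup.to_sup_of_normal_right' Q.2 ?_ ?_
      · exact P.2.to_le inf_le_left
      · exact h
    have h2 : (P : Subgroup G) ⊓ K ≤ Q := by
      have := Q.3 h1 le_sup_left
      rw [← this]
      exact le_sup_right
    have h3 : (P : Subgroup G).subgroupOf K ≤ (Q : Subgroup G).subgroupOf K := by
      intro x hx
      exact h2 ⟨hx, x.2⟩
    rw [← infSylow_eq_iff]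
    apply Sylow.ext
    exact (infSylow K P).3 (infSylow K Q).2 h3

theorem infSylow_smul (K : Subgroup G) [K.Normal] (P : Sylow p G) (k : K) :
    infSylow K ((k : G) • P) = k • infSylow K P := by
  apply Sylow.ext
  rw [Sylow.coe_subgroup_smul, coe_infSylow, coe_infSylow, Sylow.coe_subgroup_smul]
  ext x
  rw [Subgroup.mem_subgroupOf, Subgroup.mem_pointwise_smul_iff_inv_smul_mem,
    Subgroup.mem_pointwise_smul_iff_inv_smul_mem, Subgroup.mem_subgroupOf]
  simp

/-- Counting Sylow subgroups inside `L ≥ K` along `Q ↦ Q ∩ K`. -/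
theorem card_sylow_le_eq_mul (K : Subgroup G) [K.Normal] (P : Sylow p G) (L : Subgroup G)
    (hKL : K ≤ L) :
    Nat.card {Q : Sylow p G // (Q : Subgroup G) ≤ L} =
      Nat.card (Sylow p K) * Nat.card {Q : Sylow p G // (Q : Subgroup G) ≤
        L ⊓ Subgroup.normalizer (((P : Subgroup G) ⊓ K : Subgroup G) : Set G)} := by
  apply card_eq_card_mul_of_fibers (fun Q : {Q : Sylow p G // (Q : Subgroup G) ≤ L} => infSylow K Q.1)
  intro R
  obtain ⟨k, hk⟩ := MulAction.exists_smul_eq K (infSylow K P) R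
  symm
  have hkL : MulAut.conj (k : G) • L = L := Subgroup.conj_smul_eq_self_of_mem (hKL k.2)
  have hle : ∀ Q : Sylow p G, ((k : G) • Q : Sylow p G) ≤ L ↔ (Q : Subgroup G) ≤ L := by
    intro Q
    rw [Sylow.coe_subgroup_smul]
    nth_rewrite 1 [← hkL]
    exact Subgroup.pointwise_smul_le_pointwise_smul_iff
  have e1 : {Q : Sylow p G // (Q : Subgroup G) ≤
        L ⊓ Subgroup.normalizer (((P : Subgroup G) ⊓ K : Subgroup G) : Set G)} ≃
      {Q : Sylow p G // (Q : Subgroup G) ≤ L ∧ infSylow K Q = R} := by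
    refine Equiv.subtypeEquiv (MulAction.toPerm (k : G)) ?_
    intro Q
    change _ ↔ (((k : G) • Q : Sylow p G) : Subgroup G) ≤ L ∧ infSylow K ((k : G) • Q) = R
    rw [hle, infSylow_smul, ← hk, smul_left_cancel_iff, infSylow_eq_iff,
      inf_eq_inf_iff_le_normalizer, le_inf_iff]
  refine Nat.card_congr (e1.trans ?_)
  exact {
    toFun := fun Q => ⟨⟨Q.1, Q.2.1⟩, Q.2.2⟩
    invFun := fun Q => ⟨Q.1.1, Q.1.2, Q.2⟩
    left_inv := fun _ => rfl
    right_inv := fun _ => rfl }

/-- If `D` is a normal `p`-subgroup of `G` then `n_p(G/D) = n_p(G)`. -/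
theorem card_sylow_quot_of_isPGroup (D : Subgroup G) [D.Normal] (hD : IsPGroup p D) :
    Nat.card (Sylow p (G ⧸ D)) = Nat.card (Sylow p G) := by
  obtain ⟨P⟩ : Nonempty (Sylow p G) := inferInstance
  rw [card_sylow_eq_quot_mul D P]
  have hDP : D ≤ P := hD.le_sylow_of_normal P
  rw [sup_eq_left.mpr hDP]
  have : Nat.card (Sylow p (P : Subgroup G)) = 1 := by
    rw [card_sylow_subgroup_eq _ P le_rfl]
    rw [Nat.card_eq_one_iff_unique]
    refine ⟨⟨fun Q R => ?_⟩, ⟨⟨P, le_rfl⟩⟩⟩
    have hQ : Q.1 = P := Sylow.ext (Q.1.3 P.2 Q.2).symm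
    have hR : R.1 = P := Sylow.ext (R.1.3 P.2 R.2).symm
    exact Subtype.ext (hQ.trans hR.symm)
  rw [this, mul_one]

/-- M. Hall's formula. -/
theorem card_sylow_formula (K : Subgroup G) [K.Normal] (P : Sylow p G) (N : Subgroup G)
    (hN : N = ((P : Subgroup G) ⊔ K) ⊓ Subgroup.normalizer (((P : Subgroup G) ⊓ K : Subgroup G) : Set G))
    [hn : (((P : Subgroup G) ⊓ K).subgroupOf N).Normal] :
    Nat.card (Sylow p G) =
      Nat.card (Sylow p (G ⧸ K)) * Nat.card (Sylow p K) *
        Nat.card (Sylow p (N ⧸ ((P : Subgroup G) ⊓ K).subgroupOf N)) := by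
  have hPN : (P : Subgroup G) ≤ N := by
    rw [hN]
    exact le_inf le_sup_left ((inf_eq_inf_iff_le_normalizer K P P).mp rfl)
  rw [card_sylow_eq_quot_mul K P, card_sylow_subgroup_eq _ P le_sup_left,
    card_sylow_le_eq_mul K P _ le_sup_right, ← hN, ← card_sylow_subgroup_eq N P hPN,
    card_sylow_quot_of_isPGroup (((P : Subgroup G) ⊓ K).subgroupOf N)
      ((P.2.to_le inf_le_left).comap_subtype), mul_assoc]

end Cfsg.Agent.Lib.SylowNumbers
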