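import Cfsg.Agent.Lib.H17A0
import Cfsg.Prelude.Def_CaseTheorems
import Cfsg.Prelude.Def_Local
import Cfsg.Agent.Lib.Layer
import Cfsg.Agent.Lib.Components
import Cfsg.Agent.Lib.SylowNumbers
import Cfsg.Agent.S0215

/-!
# S1914, piece F1: the `Z*`-theorem in a group equal to its layer (helper32)
-/

set_option autoImplicit false

namespace Cfsg.Agent.Lib.H17A

open Cfsg

universe u

section F1aux

open Subgroup
open scoped commutatorElement

/-- in a group equal to its layer every element is a product of an element of a given component and of an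
element centralizing the component -/
theorem f1_split {G : Type*} [Group G] [Finite G] (hG : Cfsg.layer G = ⊤) {K : Subgroup G} (hK : IsComponent K)
    (x : G) : ∃ k ∈ K, ∃ c ∈ centralizer (K : Set G), k * c = x := by
  have hKn : K.Normal := by
    rw [← normalizer_eq_top_iff]
    have := Layer.layer_le_normalizer_component hK
    rw [hG] at this
    exact top_le_iff.mp this
  have h1 : layer G ≤ K ⊔ centralizer (K : Set G) := by
    rw [Layer.layer_le_iff]
    intro L hL
    rcases Components.component_eq_or_le_centralizer hL hK with h | h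
    · rw [h]; exact le_sup_left
    · exact h.trans le_sup_right
  have h2 : x ∈ K ⊔ centralizer (K : Set G) := h1 (by rw [hG]; exact mem_top x)
  exact mem_sup_of_normal_left.mp h2

theorem f1_cen {G : Type*} [Group G] [Finite G] (hG : Cfsg.layer G = ⊤) (v : G) (hv : v * v = 1)
    (N : Subgroup G) [N.Normal] (hN : ∀ g : G, v * g * v⁻¹ * g⁻¹ ∈ N)
    (hodd : ∀ n ∈ N, ∃ m : ℕ, Odd m ∧ n ^ m ∈ center G) : ∀ a : G, a * v = v * a := by
  have key : ∀ K : Subgroup G, IsComponent K → K ≤ centralizer ({v} : Set G) := by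
    intro K hK
    have hKn : K.Normal := by
      rw [← normalizer_eq_top_iff]
      have := Layer.layer_le_normalizer_component hK
      rw [hG] at this
      exact top_le_iff.mp this
    rcases Components.component_le_or_le_centralizer hK (Subgroup.Normal.isSubnormal (inferInstance : N.Normal)) with h | h
    · -- `K ≤ N`
      obtain ⟨k, hk, c, hc, hkc⟩ := f1_split hG hK v
      obtain ⟨m, ⟨j, hj⟩, hm⟩ := hodd k (h hk)
      have hck : k * c = c * k := (mem_centralizer_iff.mp hc) k hk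
      have hk2 : k ^ 2 = (c ^ 2)⁻¹ := by
        rw [eq_inv_iff_mul_eq_one, ← (show Commute k c from hck).mul_pow, hkc, pow_two, hv]
      have hk2c : k ^ 2 ∈ centralizer (K : Set G) := by
        rw [hk2]; exact inv_mem (pow_mem hc 2)
      have hkc' : k ∈ centralizer (K : Set G) := by
        have e : k = k ^ m * ((k ^ 2) ^ j)⁻¹ := by
          rw [eq_mul_inv_iff_mul_eq, ← pow_mul, hj, ← pow_succ']
        rw [e]
        exact mul_mem (center_le_centralizer _ hm) (inv_mem (pow_mem hk2c j))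
      have hvc : v ∈ centralizer (K : Set G) := by rw [← hkc]; exact mul_mem hkc' hc
      intro x hx
      rw [mem_centralizer_singleton_iff]
      exact ((mem_centralizer_iff.mp hvc) x hx)
    · -- `K` centralizes `N`
      rw [← Components.component_perfect hK, commutator_le]
      intro a ha b hb
      rw [mem_centralizer_singleton_iff]
      have hnK : ∀ x ∈ K, v * x * v⁻¹ * x⁻¹ ∈ K := fun x hx => mul_mem (hKn.conj_mem x hx v) (inv_mem hx)
      have hcm : ∀ x ∈ K, ∀ y ∈ K, (v * x * v⁻¹ * x⁻¹) * y = y * (v * x * v⁻¹ * x⁻¹) :=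
        fun x hx y hy => (mem_centralizer_iff.mp (h hy)) _ (hN x)
      set p := v * a * v⁻¹ * a⁻¹ with hp
      set q := v * b * v⁻¹ * b⁻¹ with hq
      have h1 : v * a * v⁻¹ = p * a := by rw [hp]; group
      have h2 : v * b * v⁻¹ = q * b := by rw [hq]; group
      have hpa : p * a = a * p := hcm a ha a ha
      have hpb : p * b = b * p := hcm a ha b hb
      have hqa : q * a = a * q := hcm b hb a ha
      have hqb : q * b = b * q := hcm b hb b hb
      have hpq : p * q = q * p := hcm a ha q (hnK b hb)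
      have h3 : v * ⁅a, b⁆ * v⁻¹ = ⁅a, b⁆ := by
        have e1 : v * ⁅a, b⁆ * v⁻¹ = (v * a * v⁻¹) * (v * b * v⁻¹) * (v * a * v⁻¹)⁻¹ * (v * b * v⁻¹)⁻¹ := by
          rw [commutatorElement_def]; group
        rw [e1, h1, h2, commutatorElement_def]
        have c1 : Commute p a := hpa
        have c2 : Commute p b := hpb
        have c3 : Commute q a := hqa
        have c4 : Commute q b := hqb
        have c5 : Commute p q := hpq
        calc p * a * (q * b) * (p * a)⁻¹ * (q * b)⁻¹
            = p * (a * q) * b * (a⁻¹ * p⁻¹) * (b⁻¹ * q⁻¹) := by group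
          _ = p * (q * a) * b * (p⁻¹ * a⁻¹) * (b⁻¹ * q⁻¹) := by
              rw [← hqa, (c1.inv_inv).eq]
          _ = (p * q) * a * (b * p⁻¹) * a⁻¹ * (b⁻¹ * q⁻¹) := by group
          _ = (p * q) * a * (p⁻¹ * b) * a⁻¹ * (q⁻¹ * b⁻¹) := by
              rw [(c2.inv_left).eq, (c4.inv_inv).eq]
          _ = (p * q) * (a * p⁻¹) * b * (a⁻¹ * q⁻¹) * b⁻¹ := by group
          _ = (p * q) * (p⁻¹ * a) * b * (q⁻¹ * a⁻¹) * b⁻¹ := by
              rw [(c1.inv_left).eq, (c3.inv_inv).eq]
          _ = (p * q) * p⁻¹ * a * (b * q⁻¹) * a⁻¹ * b⁻¹ := by group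
          _ = (q * p) * p⁻¹ * a * (q⁻¹ * b) * a⁻¹ * b⁻¹ := by rw [hpq, (c4.inv_left).eq]
          _ = q * (a * q⁻¹) * b * a⁻¹ * b⁻¹ := by group
          _ = q * (q⁻¹ * a) * b * a⁻¹ * b⁻¹ := by rw [(c3.inv_left).eq]
          _ = a * b * a⁻¹ * b⁻¹ := by group
      have h4 : v * ⁅a, b⁆ = ⁅a, b⁆ * v := by
        have := congrArg (· * v) h3
        simpa [mul_assoc] using this
      exact h4.symm
  have h1 : layer G ≤ centralizer ({v} : Set G) := Layer.layer_le_iff.mpr key
  intro a
  have h2 : a ∈ centralizer ({v} : Set G) := h1 (by rw [hG]; exact mem_top a)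
  exact mem_centralizer_singleton_iff.mp h2

end F1aux

section F1

variable {X : Type u} [Group X] [Finite X] {A S T : Subgroup X} {t r z v : X}

theorem fus_zstar (L : Loc A S T t r z) (hA : Cfsg.layer A = ⊤) : ∀ u ∈ S, u * u = 1 →
    (∀ a ∈ A, a * u * a⁻¹ ∈ S → a * u * a⁻¹ = u) → ∀ a ∈ A, a * u = u * a := by
  intro u hu huu hcj
  by_cases hu1 : u = 1
  · intro a _; rw [hu1, mul_one, one_mul]
  haveI := L.An
  have huA : u ∈ A := ((L.ST u).mp hu).2
  have huT : u ∈ T := ((L.ST u).mp hu).1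
  let Q : Sylow 2 X := ⟨T, L.p2, fun h1 h2 => L.syl _ h1 h2⟩
  obtain ⟨N, hN, hNo, hNc⟩ := Cfsg.Agent.S0215.result (SylowNumbers.infSylow A Q) (⟨u, huA⟩ : A)
    (orderOf_eq_prime (by ext; simpa [pow_two] using huu) (by intro h; exact hu1 (congrArg Subtype.val h)))
    (by
      show (⟨u, huA⟩ : A) ∈ (SylowNumbers.infSylow A Q : Subgroup A)
      rw [SylowNumbers.coe_infSylow, Subgroup.mem_subgroupOf]
      exact huT)
    (by
      rintro ⟨g, hg⟩ hgu
      have h1 : g * u * g⁻¹ ∈ T := by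
        have : (⟨g, hg⟩ * ⟨u, huA⟩ * ⟨g, hg⟩⁻¹ : A) ∈ (SylowNumbers.infSylow A Q : Subgroup A) := hgu
        rw [SylowNumbers.coe_infSylow, Subgroup.mem_subgroupOf] at this
        exact this
      have h2 : g * u * g⁻¹ ∈ S := (L.ST _).mpr ⟨h1, A.mul_mem (A.mul_mem hg huA) (A.inv_mem hg)⟩
      exact Subtype.ext (hcj g hg h2))
  intro a ha
  have h := f1_cen hA (⟨u, huA⟩ : A) (Subtype.ext huu) N hNc (fun n hn => ⟨Nat.card N, hNo, by
    have : n ^ Nat.card N = 1 := by
      exact congrArg Subtype.val (pow_card_eq_one' (x := (⟨n, hn⟩ : N)))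
    rw [this]; exact Subgroup.one_mem _⟩) ⟨a, ha⟩
  exact congrArg Subtype.val h

theorem fus_iso2 (L : Loc A S T t r z) (hA : Cfsg.layer A = ⊤) : (∀ a ∈ A, a * z = z * a) → ∀ v ∈ S, v * v = 1 →
    (∀ a ∈ A, a * v * a⁻¹ ∈ S → a * v * a⁻¹ = v ∨ a * v * a⁻¹ = v * z) → ∀ a ∈ A, a * v = v * a := by
  intro hz v hv hvv hcj
  haveI := L.An
  have hzS : z ∈ S := by rw [← L.rz]; exact S.mul_mem L.rS L.rS
  have hzA : z ∈ A := ((L.ST z).mp hzS).2
  have hzT : z ∈ T := ((L.ST z).mp hzS).1
  have hvA : v ∈ A := ((L.ST v).mp hv).2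
  have hvT : v ∈ T := ((L.ST v).mp hv).1
  let Q : Sylow 2 X := ⟨T, L.p2, fun h1 h2 => L.syl _ h1 h2⟩
  let z' : A := ⟨z, hzA⟩
  let v' : A := ⟨v, hvA⟩
  have hzc : z' ∈ Subgroup.center A := by
    rw [Subgroup.mem_center_iff]
    rintro ⟨a, ha⟩
    exact Subtype.ext (hz a ha)
  let Z : Subgroup A := Subgroup.zpowers z'
  have hZc : Z ≤ Subgroup.center A := Subgroup.zpowers_le.mpr hzc
  haveI hZn : Z.Normal := ⟨fun n hn g => by
    have h1 := Subgroup.mem_center_iff.mp (hZc hn) g
    rw [h1, mul_assoc, mul_inv_cancel, mul_one]; exact hn⟩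
  have hZm : ∀ x : A, x ∈ Z → x = 1 ∨ x = z' := by
    intro x hx
    obtain ⟨i, rfl⟩ := Subgroup.mem_zpowers_iff.mp hx
    have hzz : z' ^ (2 : ℤ) = 1 := by
      have : z' * z' = 1 := Subtype.ext L.zz
      rw [zpow_two, this]
    rcases Int.even_or_odd i with ⟨j, hj⟩ | ⟨j, hj⟩
    · left
      rw [hj, ← two_mul, zpow_mul, hzz, one_zpow]
    · right
      rw [hj, zpow_add, zpow_mul, hzz, one_zpow, one_mul, zpow_one]
  by_cases hv1 : v' ∈ Z
  · intro a ha
    have := (Subgroup.mem_center_iff.mp (hZc hv1)) ⟨a, ha⟩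
    exact congrArg Subtype.val this
  let P := SylowNumbers.infSylow A Q
  have hPm : ∀ x : A, x ∈ P ↔ (x : X) ∈ T := by
    intro x
    show x ∈ (SylowNumbers.infSylow A Q : Subgroup A) ↔ _
    rw [SylowNumbers.coe_infSylow, Subgroup.mem_subgroupOf]
  have hZP : ∀ x : A, x ∈ Z → x ∈ P := by
    intro x hx
    rw [hPm]
    rcases hZm x hx with h | h
    · rw [h]; exact T.one_mem
    · rw [h]; exact hzT
  let π := QuotientGroup.mk' Z
  have hπ : Function.Surjective π := QuotientGroup.mk'_surjective Z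
  let Pb : Sylow 2 (A ⧸ Z) := P.mapSurjective hπ
  have hPb : ∀ x : A, π x ∈ Pb → x ∈ P := by
    intro x hx
    have hx' : π x ∈ (P : Subgroup A).map π := hx
    obtain ⟨y, hy, hxy⟩ := Subgroup.mem_map.mp hx'
    have h1 : y⁻¹ * x ∈ Z := QuotientGroup.eq.mp hxy
    have h2 : x = y * (y⁻¹ * x) := by group
    rw [h2]
    exact (P : Subgroup A).mul_mem hy (hZP _ h1)
  obtain ⟨Nb, hNb, hNbo, hNbc⟩ := Cfsg.Agent.S0215.result Pb (π v')
    (orderOf_eq_prime (by
      rw [pow_two, ← map_mul]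
      have : v' * v' = 1 := Subtype.ext hvv
      rw [this, map_one]) (by
      intro h
      exact hv1 ((QuotientGroup.eq_one_iff (N := Z) v').mp h)))
    (by
      show π v' ∈ (P : Subgroup A).map π
      exact Subgroup.mem_map_of_mem π ((hPm v').mpr hvT))
    (by
      intro gb hgb
      obtain ⟨g, rfl⟩ := hπ gb
      rw [← map_mul, ← map_inv, ← map_mul] at hgb ⊢
      have h1 := (hPm _).mp (hPb _ hgb)
      have h2 : (g : X) * v * (g : X)⁻¹ ∈ S := (L.ST _).mpr ⟨h1, (g * v' * g⁻¹).2⟩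
      rcases hcj g g.2 h2 with h | h
      · have : g * v' * g⁻¹ = v' := Subtype.ext h
        rw [this]
      · have : g * v' * g⁻¹ = v' * z' := Subtype.ext h
        rw [this, map_mul]
        have : π z' = 1 := (QuotientGroup.eq_one_iff (N := Z) z').mpr (Subgroup.mem_zpowers z')
        rw [this, mul_one])
  haveI := hNb
  intro a ha
  have h := f1_cen hA v' (Subtype.ext hvv) (Nb.comap π) (fun g => by
      rw [Subgroup.mem_comap]
      simpa using hNbc (π g))
    (fun n hn => ⟨Nat.card Nb, hNbo, by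
      have h1 : (π n) ^ Nat.card Nb = 1 := by
        exact congrArg Subtype.val (pow_card_eq_one' (x := (⟨π n, hn⟩ : Nb)))
      rw [← map_pow] at h1
      exact hZc ((QuotientGroup.eq_one_iff (N := Z) _).mp h1)⟩) ⟨a, ha⟩
  exact congrArg Subtype.val h

end F1

end Cfsg.Agent.Lib.H17A
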