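import Mathlib
import Cfsg.Prelude.Def_CaseTheorems
import Cfsg.Prelude.Def_Local
import Cfsg.Agent.Lib.H17A0
import Cfsg.Agent.Lib.ThompsonTransfer
import Cfsg.Agent.Lib.SylowNumbers
import Cfsg.Agent.Lib.Layer

set_option autoImplicit false
set_option linter.all false

/-! Piece F2 of S1914: a generalised Thompson transfer lemma -/

open Subgroup
open scoped Pointwise commutatorElement

namespace Cfsg.Agent.Lib.H17A

open Cfsg

universe u

theorem f2_gtt {G : Type*} [Group G] [Finite G] (P : Subgroup G) (hodd : ¬ 2 ∣ P.index) (Q : Subgroup G)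
    (hQi : Q.relIndex P = 2) (u : G) (hu4 : u ^ 4 = 1) (huP : u ∈ P)
    (hno : ∀ g : G, g * u * g⁻¹ ∉ Q) (hsq : ∀ g : G, g * (u * u) * g⁻¹ ∈ P → g * (u * u) * g⁻¹ ∈ Q) :
    ∃ M : Subgroup G, M.Normal ∧ M.index = 2 ∧ u ∉ M := by
  set Q' : Subgroup P := Q.subgroupOf P with hQ'
  have hidx : Q'.index = 2 := hQi
  have hnorm : Q'.Normal := Subgroup.normal_of_index_eq_two hidx
  have hcard : Nat.card (P ⧸ Q') = 2 := by rw [← Subgroup.index_eq_card]; exact hidx
  have hcyc : IsCyclic (P ⧸ Q') := isCyclic_of_prime_card hcard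
  letI : CommGroup (P ⧸ Q') :=
    { (inferInstance : Group (P ⧸ Q')) with
      mul_comm := fun a b => (IsCyclic.commGroup (α := P ⧸ Q')).mul_comm a b }
  let ϕ : P →* (P ⧸ Q') := QuotientGroup.mk' Q'
  have hne : ∀ (v : G) (hv : v ∈ P), v ∉ Q → ϕ ⟨v, hv⟩ ≠ 1 := by
    intro v hv hvQ h1
    apply hvQ
    have := (QuotientGroup.eq_one_iff (N := Q') (⟨v, hv⟩ : P)).mp h1
    rw [hQ', Subgroup.mem_subgroupOf] at this
    exact this
  have heq : ∀ (v : G) (hv : v ∈ P), v ∈ Q → ϕ ⟨v, hv⟩ = 1 := by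
    intro v hv hvQ
    apply (QuotientGroup.eq_one_iff (N := Q') (⟨v, hv⟩ : P)).mpr
    rw [hQ', Subgroup.mem_subgroupOf]
    exact hvQ
  have huQ : u ∉ Q := by have := hno 1; simpa using this
  set t := ϕ ⟨u, huP⟩ with ht
  have ht1 : t ≠ 1 := hne u huP huQ
  have ht2 : t ^ 2 = 1 := by rw [← hcard]; exact pow_card_eq_one'
  have hfac : ∀ (k : ℕ) (g₀ : G) (hk : g₀⁻¹ * u ^ k * g₀ ∈ P), k ∣ 4 → ϕ ⟨g₀⁻¹ * u ^ k * g₀, hk⟩ = t ^ k := by
    intro k g₀ hk hk4
    have h4 : k = 1 ∨ k = 2 ∨ k = 4 := by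
      have h5 := Nat.le_of_dvd (by norm_num) hk4
      interval_cases k <;> revert hk4 <;> decide
    rcases h4 with h1 | h1 | h1
    · subst h1
      rw [pow_one t]
      apply ThompsonTransfer.eq_of_card_two hcard _ ht1
      apply hne
      rw [pow_one]
      have := hno (g₀)⁻¹
      rwa [inv_inv] at this
    · subst h1
      rw [ht2]
      apply heq
      have h6 := hsq g₀⁻¹
      rw [inv_inv, ← pow_two] at h6
      exact h6 hk
    · subst h1
      have : (⟨g₀⁻¹ * u ^ 4 * g₀, hk⟩ : P) = 1 := by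
        apply Subtype.ext
        simp [hu4]
      rw [this, map_one, show 4 = 2 * 2 from rfl, pow_mul, ht2, one_pow]
  have hV : MonoidHom.transfer ϕ u = t ^ P.index := by
    have : Fintype (Quotient (MulAction.orbitRel (zpowers (u : G)) (G ⧸ P))) := Fintype.ofFinite _
    rw [MonoidHom.transfer_eq_prod_quotient_orbitRel_zpowers_quot, index_eq_sum_minimalPeriod P u,
      ← Finset.prod_pow_eq_pow_sum]
    apply Finset.prod_congr rfl
    intro q _
    have hdvd : Function.minimalPeriod (u • ·) q.out ∣ 4 := by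
      apply Function.IsPeriodicPt.minimalPeriod_dvd
      show (fun x : G ⧸ P => u • x)^[4] q.out = q.out
      simp only [Function.iterate_succ, Function.iterate_zero, Function.comp_apply, id_eq]
      rw [smul_smul, smul_smul, smul_smul]
      have : u * u * u * u = 1 := by rw [← hu4]; simp only [pow_succ, pow_zero, one_mul]
      rw [this, one_smul]
    exact hfac _ _ _ hdvd
  have hV1 : MonoidHom.transfer ϕ u = t := by
    rw [hV]
    obtain ⟨k, hk⟩ := Nat.odd_iff.mpr (Nat.two_dvd_ne_zero.mp hodd)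
    rw [hk, pow_succ, pow_mul, ht2, one_pow, one_mul]
  refine ⟨(MonoidHom.transfer ϕ).ker, inferInstance, ?_, ?_⟩
  · rw [Subgroup.index_ker]
    have h1 : Nat.card (MonoidHom.transfer ϕ).range ∣ 2 := by
      rw [← hcard]; exact Subgroup.card_subgroup_dvd_card _
    rcases (Nat.dvd_prime Nat.prime_two).mp h1 with h | h
    · exfalso
      rw [Subgroup.card_eq_one] at h
      have : MonoidHom.transfer ϕ u ∈ (MonoidHom.transfer ϕ).range := ⟨u, rfl⟩
      rw [h, Subgroup.mem_bot, hV1] at this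
      exact ht1 this
    · exact h
  · intro h
    rw [MonoidHom.mem_ker, hV1] at h
    exact ht1 h

variable {X : Type u} [Group X] [Finite X] {A S T : Subgroup X} {t r z v : X}

theorem fus_tt2 (L : Loc A S T t r z) (hA : Cfsg.layer A = ⊤) : ∀ M : Subgroup X, M ≤ S → M.relIndex S = 2 →
    ∀ u ∈ S, u ^ 4 = 1 → u ∉ M → (∀ a ∈ A, a * (u * u) * a⁻¹ ∈ S → a * (u * u) * a⁻¹ ∈ M) →
    ∃ a ∈ A, a * u * a⁻¹ ∈ M := by
  intro M hM hidx u hu hu4 huM hsq
  by_contra hcon
  push Not at hcon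
  haveI := L.An
  have hSA : S ≤ A := fun x hx => ((L.ST x).1 hx).2
  let Ts : Sylow 2 X := ⟨T, L.p2, fun h1 h2 => L.syl _ h1 h2⟩
  have hST : S.subgroupOf A = (Ts : Subgroup X).subgroupOf A := by
    ext x
    rw [Subgroup.mem_subgroupOf, Subgroup.mem_subgroupOf]
    constructor
    · intro h
      exact ((L.ST _).1 h).1
    · intro h
      exact (L.ST _).2 ⟨h, x.2⟩
  haveI : Fact (Nat.Prime 2) := ⟨Nat.prime_two⟩
  have hodd : ¬ 2 ∣ (S.subgroupOf A).index := by
    rw [hST]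
    exact SylowNumbers.not_dvd_index_subgroupOf A Ts
  have h1 : (M.subgroupOf A).relIndex (S.subgroupOf A) = 2 := by
    rw [Subgroup.relIndex_subgroupOf hSA, hidx]
  obtain ⟨N, hN, hN2, -⟩ := f2_gtt (S.subgroupOf A) hodd (M.subgroupOf A) h1 (⟨u, hSA hu⟩ : A)
    (Subtype.ext hu4) (Subgroup.mem_subgroupOf.2 hu)
    (fun g hg => hcon g.1 g.2 (Subgroup.mem_subgroupOf.1 hg))
    (fun g hg => Subgroup.mem_subgroupOf.2 (hsq g.1 g.2 (Subgroup.mem_subgroupOf.1 hg)))
  have hperf : ⁅(⊤ : Subgroup A), (⊤ : Subgroup A)⁆ = ⊤ := by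
    have := Layer.layer_perfect A
    rwa [hA] at this
  have h2 : ⁅(⊤ : Subgroup A), (⊤ : Subgroup A)⁆ ≤ N := by
    rw [Subgroup.commutator_le]
    intro a _ b _
    have hcard : Nat.card (A ⧸ N) = 2 := by rw [← Subgroup.index_eq_card]; exact hN2
    haveI : IsCyclic (A ⧸ N) := isCyclic_of_prime_card hcard
    rw [← QuotientGroup.eq_one_iff]
    have hc : (a : A ⧸ N) * b = b * a := (IsCyclic.commGroup (α := A ⧸ N)).mul_comm a b
    rw [commutatorElement_def]
    rw [QuotientGroup.mk_mul, QuotientGroup.mk_mul, QuotientGroup.mk_mul, QuotientGroup.mk_inv, QuotientGroup.mk_inv, hc]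
    group
  rw [hperf] at h2
  rw [top_le_iff.1 h2, Subgroup.index_top] at hN2
  omega

end Cfsg.Agent.Lib.H17A
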