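import Cfsg.Agent.Lib.H17A1

/-! S1914, piece F3 (helper29): Sylow and Burnside facts. -/

set_option autoImplicit false

namespace Cfsg.Agent.Lib.H17A

universe u

section
variable {X : Type u} [Group X] [Finite X] {A S T : Subgroup X} {t r z v : X}

theorem f3_conj (S C P : Subgroup X) (hS : IsPGroup 2 S) (hSC : S ≤ C)
    (hmax : ∀ Q : Subgroup X, IsPGroup 2 Q → Q ≤ C → S ≤ Q → Q = S) (hP : IsPGroup 2 P) (hPC : P ≤ C) :
    ∃ c ∈ C, ∀ x ∈ P, c * x * c⁻¹ ∈ S := by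
  have : Fact (Nat.Prime 2) := ⟨Nat.prime_two⟩
  let S' : Sylow 2 C :=
    { toSubgroup := S.subgroupOf C
      isPGroup' := hS.comap_of_injective C.subtype C.subtype_injective
      is_maximal' := by
        intro Q hQ hle
        have h1 : Q.map C.subtype = S := by
          refine hmax _ (hQ.map C.subtype) ?_ ?_
          · rintro _ ⟨x, -, rfl⟩
            exact x.2
          · intro s hs
            exact ⟨⟨s, hSC hs⟩, hle (Subgroup.mem_subgroupOf.2 hs), rfl⟩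
        ext x
        rw [Subgroup.mem_subgroupOf, ← h1]
        constructor
        · intro hx
          exact ⟨x, hx, rfl⟩
        · rintro ⟨y, hy, hyx⟩
          rwa [← C.subtype_injective hyx] }
  obtain ⟨Q, hQ⟩ := (hP.comap_of_injective C.subtype C.subtype_injective).exists_le_sylow
  obtain ⟨c, hc⟩ := MulAction.exists_smul_eq C Q S'
  refine ⟨c, c.2, fun x hx => ?_⟩
  have h1 : (⟨x, hPC hx⟩ : C) ∈ (Q : Subgroup C) := hQ hx
  have h2 : c * ⟨x, hPC hx⟩ * c⁻¹ ∈ ((c • Q : Sylow 2 C) : Subgroup C) := by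
    rw [Sylow.coe_subgroup_smul]
    exact Subgroup.smul_mem_pointwise_smul _ (MulAut.conj c) _ h1
  rw [hc] at h2
  exact h2

theorem f3_sylS (L : Loc A S T t r z) : ∀ Q : Subgroup X, IsPGroup 2 Q → Q ≤ A → S ≤ Q → Q = S := by
  intro Q hQ hQA hSQ
  obtain ⟨x, -, hx⟩ := f3_conj T ⊤ Q L.p2 le_top (fun Q h1 _ h2 => L.syl Q h1 h2) hQ le_top
  symm
  apply Subgroup.eq_of_le_of_card_ge hSQ
  apply Nat.card_le_card_of_injective (fun q : Q => (⟨x * q.1 * x⁻¹, (L.ST _).2 ⟨hx _ q.2, L.An.conj_mem _ (hQA q.2) x⟩⟩ : S))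
  intro q q' h
  have h1 : x * q.1 * x⁻¹ = x * q'.1 * x⁻¹ := congrArg Subtype.val h
  exact Subtype.ext (mul_left_cancel (mul_right_cancel h1))

theorem f3_pS (L : Loc A S T t r z) : IsPGroup 2 S := L.p2.to_le (fun s hs => ((L.ST s).1 hs).1)

theorem f3_SA (L : Loc A S T t r z) : S ≤ A := fun s hs => ((L.ST s).1 hs).2

theorem f3_pconj {P : Subgroup X} (hP : IsPGroup 2 P) (a : X) : IsPGroup 2 (P.map (MulAut.conj a).toMonoidHom) :=
  hP.map _

theorem fus_ext_of (L : Loc A S T t r z) (hz : ∀ x ∈ T, x * z = z * x) : ∀ v ∈ S, ∀ a ∈ A, a * v * a⁻¹ = z →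
    ∃ g : X, g * v * g⁻¹ = z ∧ ∀ x ∈ T, x * v = v * x → g * x * g⁻¹ ∈ T := by
  intro v _ a _ hav
  obtain ⟨c, hc, hcx⟩ := f3_conj T (Subgroup.centralizer {z}) ((T ⊓ Subgroup.centralizer {v}).map (MulAut.conj a).toMonoidHom)
    L.p2 (fun x hx => Subgroup.mem_centralizer_singleton_iff.2 (hz x hx)) (fun Q h1 _ h2 => L.syl Q h1 h2)
    (f3_pconj (L.p2.to_le inf_le_left) a) (by
      rintro _ ⟨x, hx, rfl⟩
      have h1 : x * v = v * x := Subgroup.mem_centralizer_singleton_iff.1 hx.2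
      rw [Subgroup.mem_centralizer_singleton_iff, ← hav]
      show a * x * a⁻¹ * (a * v * a⁻¹) = a * v * a⁻¹ * (a * x * a⁻¹)
      calc a * x * a⁻¹ * (a * v * a⁻¹) = a * (x * v) * a⁻¹ := by group
        _ = a * (v * x) * a⁻¹ := by rw [h1]
        _ = _ := by group)
  refine ⟨c * a, ?_, ?_⟩
  · have h1 : c * z = z * c := Subgroup.mem_centralizer_singleton_iff.1 hc
    calc c * a * v * (c * a)⁻¹ = c * (a * v * a⁻¹) * c⁻¹ := by group
      _ = c * z * c⁻¹ := by rw [hav]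
      _ = z := by rw [h1, mul_inv_cancel_right]
  · intro x hx hxv
    have h1 := hcx (a * x * a⁻¹) ⟨x, ⟨hx, Subgroup.mem_centralizer_singleton_iff.2 hxv⟩, rfl⟩
    have h2 : c * a * x * (c * a)⁻¹ = c * (a * x * a⁻¹) * c⁻¹ := by group
    rw [h2]
    exact h1

theorem fus_ext (L : Loc A S T t r z) : ∀ v ∈ S, ∀ a ∈ A, a * v * a⁻¹ = z →
    ∃ g : X, g * v * g⁻¹ = z ∧ ∀ x ∈ T, x * v = v * x → g * x * g⁻¹ ∈ T := fus_ext_of L (zT L)

theorem fus_burn (L : Loc A S T t r z) : ∀ u ∈ S, ∀ w ∈ S, (∀ s ∈ S, s * u = u * s) → (∀ s ∈ S, s * w = w * s) →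
    ∀ a ∈ A, a * u * a⁻¹ = w → ∃ n ∈ A, (∀ s ∈ S, n * s * n⁻¹ ∈ S) ∧ n * u * n⁻¹ = w := by
  intro u _ w _ hu hw a ha hau
  obtain ⟨c, hc, hcx⟩ := f3_conj S (A ⊓ Subgroup.centralizer {w}) (S.map (MulAut.conj a).toMonoidHom)
    (f3_pS L) (fun x hx => ⟨f3_SA L hx, Subgroup.mem_centralizer_singleton_iff.2 (hw x hx)⟩)
    (fun Q h1 h2 h3 => f3_sylS L Q h1 (h2.trans inf_le_left) h3) (f3_pconj (f3_pS L) a) (by
      rintro _ ⟨x, hx, rfl⟩
      have h1 : x * u = u * x := hu x hx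
      refine ⟨A.mul_mem (A.mul_mem ha (f3_SA L hx)) (A.inv_mem ha), ?_⟩
      show _ ∈ Subgroup.centralizer {w}
      rw [Subgroup.mem_centralizer_singleton_iff, ← hau]
      show a * x * a⁻¹ * (a * u * a⁻¹) = a * u * a⁻¹ * (a * x * a⁻¹)
      calc a * x * a⁻¹ * (a * u * a⁻¹) = a * (x * u) * a⁻¹ := by group
        _ = a * (u * x) * a⁻¹ := by rw [h1]
        _ = _ := by group)
  refine ⟨c * a, A.mul_mem hc.1 ha, ?_, ?_⟩
  · intro x hx
    have h1 := hcx (a * x * a⁻¹) ⟨x, hx, rfl⟩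
    have h2 : c * a * x * (c * a)⁻¹ = c * (a * x * a⁻¹) * c⁻¹ := by group
    rw [h2]
    exact h1
  · have h1 : c * w = w * c := Subgroup.mem_centralizer_singleton_iff.1 hc.2
    calc c * a * u * (c * a)⁻¹ = c * (a * u * a⁻¹) * c⁻¹ := by group
      _ = c * w * c⁻¹ := by rw [hau]
      _ = w := by rw [h1, mul_inv_cancel_right]

theorem fus_two (L : Loc A S T t r z) : ∀ n ∈ A, (∀ s ∈ S, n * s * n⁻¹ ∈ S) → (∃ k : ℕ, n ^ (2 ^ k) = 1) → n ∈ S := by
  have : Fact (Nat.Prime 2) := ⟨Nat.prime_two⟩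
  intro n hn hnS hk
  obtain ⟨k, hk⟩ := hk
  have h1 : Subgroup.zpowers n ≤ Subgroup.normalizer (S : Set X) := by
    rw [Subgroup.zpowers_le]
    have h2 : S.map (MulAut.conj n).toMonoidHom = S := by
      apply Subgroup.eq_of_le_of_card_ge
      · rintro _ ⟨x, hx, rfl⟩
        exact hnS x hx
      · rw [Subgroup.card_map_of_injective (MulAut.conj n).injective]
    rw [Subgroup.mem_normalizer_iff]
    intro x
    constructor
    · exact hnS x
    · intro hx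
      have h3 : n * x * n⁻¹ ∈ S.map (MulAut.conj n).toMonoidHom := by rw [h2]; exact hx
      obtain ⟨y, hy, hyx⟩ := h3
      have h4 : n * y * n⁻¹ = n * x * n⁻¹ := hyx
      have h5 : y = x := mul_left_cancel (mul_right_cancel h4)
      rw [← h5]; exact hy
  have h2 : IsPGroup 2 (Subgroup.zpowers n) := by
    apply IsPGroup.of_card (n := (orderOf n).factorization 2)
    rw [Nat.card_zpowers]
    obtain ⟨j, -, hj⟩ := (Nat.dvd_prime_pow Nat.prime_two).1 (orderOf_dvd_of_pow_eq_one hk)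
    rw [hj, Nat.Prime.factorization_pow Nat.prime_two]
    simp
  have h3 := h2.to_sup_of_normal_right' (f3_pS L) h1
  have h4 := f3_sylS L _ h3 (sup_le ((Subgroup.zpowers_le).2 hn) (f3_SA L)) le_sup_right
  rw [← h4]
  exact (le_sup_left : Subgroup.zpowers n ≤ _) (Subgroup.mem_zpowers n)

end

end Cfsg.Agent.Lib.H17A
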