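import Cfsg.Agent.Lib.H17A0
import Cfsg.Agent.Lib.Layer
import Cfsg.Agent.S0949
import Cfsg.Prelude.Def_CaseTheorems
import Cfsg.Prelude.Def_Local

set_option autoImplicit false

namespace Cfsg.Agent.Lib.H17A

open Cfsg

universe u

section
variable {X : Type u} [Group X] [Finite X] {A S T : Subgroup X} {t r z v : X}

omit [Finite X] in
theorem f4_perfect (hA : Cfsg.layer A = ⊤) : commutator A = ⊤ := by
  have h := Cfsg.Agent.Lib.Layer.layer_perfect (↥A)
  rw [hA] at h
  exact h

omit [Finite X] in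
theorem f4_SA (L : Loc A S T t r z) : S ≤ A := fun x hx => ((L.ST x).1 hx).2

omit [Finite X] in
theorem f4_ST (L : Loc A S T t r z) : S ≤ T := fun x hx => ((L.ST x).1 hx).1

/-- the index of `S` in `A` is odd -/
theorem f4_index (L : Loc A S T t r z) : ¬ 2 ∣ (S.subgroupOf A).index := by
  have : Fact (Nat.Prime 2) := ⟨Nat.prime_two⟩
  have hA2 : A.index = 2 := by
    rw [Subgroup.index_eq_two_iff_exists_notMem_and']
    refine ⟨t, L.tA, fun b => ?_⟩
    by_cases hb : b ∈ A
    · exact Or.inr hb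
    · exact Or.inl (L.ix b hb)
  have hS2 : (S.subgroupOf T).index = 2 := by
    rw [Subgroup.index_eq_two_iff_exists_notMem_and']
    refine ⟨⟨t, L.tT⟩, fun h => L.tA ((L.ST t).1 (Subgroup.mem_subgroupOf.1 h)).2, fun b => ?_⟩
    by_cases hb : (b : X) ∈ A
    · exact Or.inr (Subgroup.mem_subgroupOf.2 ((L.ST _).2 ⟨b.2, hb⟩))
    · refine Or.inl (Subgroup.mem_subgroupOf.2 ((L.ST _).2 ⟨T.mul_mem L.tT b.2, L.ix _ hb⟩))
  let TS : Sylow 2 X := ⟨T, L.p2, fun {Q} hQ h => L.syl Q hQ h⟩
  have h1 : ¬ 2 ∣ T.index := TS.not_dvd_index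
  have c1 : Nat.card A * A.index = Nat.card X := Subgroup.card_mul_index A
  have c2 : Nat.card T * T.index = Nat.card X := Subgroup.card_mul_index T
  have c3 : Nat.card (S.subgroupOf T) * (S.subgroupOf T).index = Nat.card T := Subgroup.card_mul_index _
  have c4 : Nat.card (S.subgroupOf A) * (S.subgroupOf A).index = Nat.card A := Subgroup.card_mul_index _
  have c5 : Nat.card (S.subgroupOf T) = Nat.card S := Nat.card_congr (Subgroup.subgroupOfEquivOfLe (f4_ST L)).toEquiv
  have c6 : Nat.card (S.subgroupOf A) = Nat.card S := Nat.card_congr (Subgroup.subgroupOfEquivOfLe (f4_SA L)).toEquiv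
  have hS : 0 < Nat.card S := Nat.card_pos
  rw [hA2] at c1
  rw [hS2, c5] at c3
  rw [c6] at c4
  have h2 : (S.subgroupOf A).index = T.index := by
    have : 2 * Nat.card S * (S.subgroupOf A).index = 2 * Nat.card S * T.index := by
      calc 2 * Nat.card S * (S.subgroupOf A).index = (Nat.card S * (S.subgroupOf A).index) * 2 := by ring
        _ = Nat.card X := by rw [c4, c1]
        _ = Nat.card T * T.index := c2.symm
        _ = 2 * Nat.card S * T.index := by rw [← c3]; ring
    exact Nat.eq_of_mul_eq_mul_left (by positivity) this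
  rw [h2]
  exact h1

omit [Finite X] in
theorem f4_p2 (L : Loc A S T t r z) : IsPGroup 2 (S.subgroupOf A) := by
  have h1 : IsPGroup 2 S := L.p2.to_le (f4_ST L)
  exact h1.of_equiv (Subgroup.subgroupOfEquivOfLe (f4_SA L)).symm

theorem fus_foc (L : Loc A S T t r z) (hA : Cfsg.layer A = ⊤) : ∀ u ∈ S, (∀ a ∈ A, a * u = u * a) → u ∈ ⁅S, S⁆ := by
  intro u hu hc
  have hperf := f4_perfect hA
  set H : Subgroup A := S.subgroupOf A with hH
  have huA : u ∈ A := f4_SA L hu
  set u' : A := ⟨u, huA⟩ with hu'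
  have hcen : ∀ a : A, a * u' = u' * a := fun a => Subtype.ext (hc a a.2)
  have key : ∀ (k : ℕ) (g₀ : A), g₀⁻¹ * u' ^ k * g₀ ∈ H → g₀⁻¹ * u' ^ k * g₀ = u' ^ k := by
    intro k g₀ _
    have : Commute g₀ (u' ^ k) := (show Commute g₀ u' from hcen g₀).pow_right k
    rw [mul_assoc, ← this.eq, inv_mul_cancel_left]
  have h1 := MonoidHom.transfer_eq_pow (Abelianization.of (G := H)) u' key
  have h2 : MonoidHom.transfer (Abelianization.of (G := H)) u' = 1 := by
    have hle : commutator A ≤ (MonoidHom.transfer (Abelianization.of (G := H))).ker :=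
      Abelianization.commutator_subset_ker _
    rw [hperf] at hle
    exact hle (Subgroup.mem_top u')
  rw [h2] at h1
  have h3 : (⟨u' ^ H.index, MonoidHom.transfer_eq_pow_aux u' key⟩ : H) ∈ commutator H := by
    rw [← Abelianization.ker_of]
    exact h1.symm
  -- `u` is a two-element
  have huH : u' ∈ H := Subgroup.mem_subgroupOf.2 hu
  set w : H := ⟨u', huH⟩ with hw
  have h4 : w ^ H.index ∈ commutator H := h3
  obtain ⟨k, hk⟩ := f4_p2 L w
  have hodd : (2 ^ k).Coprime H.index :=
    Nat.Coprime.pow_left k ((Nat.Prime.coprime_iff_not_dvd Nat.prime_two).2 (f4_index L))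
  have h5 : w ∈ commutator H := by
    have e1 : (QuotientGroup.mk' (commutator H) w) ^ H.index = 1 := by
      rw [← map_pow]
      exact (QuotientGroup.eq_one_iff _).2 h4
    have e2 : (QuotientGroup.mk' (commutator H) w) ^ (2 ^ k) = 1 := by
      rw [← map_pow, hk, map_one]
    have e3 : orderOf (QuotientGroup.mk' (commutator H) w) ∣ 1 := by
      have := Nat.dvd_gcd (orderOf_dvd_of_pow_eq_one e2) (orderOf_dvd_of_pow_eq_one e1)
      rwa [hodd.gcd_eq_one] at this
    have e4 : QuotientGroup.mk' (commutator H) w = 1 := by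
      rw [← orderOf_eq_one_iff]
      exact Nat.dvd_one.1 e3
    exact (QuotientGroup.eq_one_iff _).1 e4
  have h6 : (A.subtype.comp H.subtype) w ∈ (commutator H).map (A.subtype.comp H.subtype) :=
    Subgroup.mem_map_of_mem _ h5
  rw [commutator_def, Subgroup.map_commutator] at h6
  have h7 : (⊤ : Subgroup H).map (A.subtype.comp H.subtype) ≤ S := by
    rintro _ ⟨x, _, rfl⟩
    exact Subgroup.mem_subgroupOf.1 x.2
  exact Subgroup.commutator_mono h7 h7 h6

theorem fus_z44 (L : Loc A S T t r z) (hA : Cfsg.layer A = ⊤) :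
    ¬ Nonempty (S ≃* Multiplicative (ZMod (2 ^ 2) × ZMod (2 ^ 2))) := by
  rintro ⟨e⟩
  have : Fact (Nat.Prime 2) := ⟨Nat.prime_two⟩
  have hperf := f4_perfect hA
  obtain ⟨O, hO⟩ := (Set.toFinite {N : Subgroup A | N.Normal ∧ Odd (Nat.card N)}).exists_maximal
    ⟨⊥, (inferInstance : (⊥ : Subgroup A).Normal), by simp⟩
  obtain ⟨⟨hOn, hOodd⟩, hOmax⟩ := hO
  set P : Sylow 2 A := (f4_p2 L).toSylow (f4_index L) with hP
  set f : A →* A ⧸ O := QuotientGroup.mk' O with hf
  have hfs : Function.Surjective f := QuotientGroup.mk'_surjective O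
  set Q : Sylow 2 (A ⧸ O) := P.mapSurjective hfs with hQ
  have hO' : ∀ N : Subgroup (A ⧸ O), N.Normal → Odd (Nat.card N) → N = ⊥ := by
    intro N hN hNodd
    have c1 : (N.comap f).index = N.index := Subgroup.index_comap_of_surjective N hfs
    have c2 : Nat.card (N.comap f) * (N.comap f).index = Nat.card A := Subgroup.card_mul_index _
    have c3 : Nat.card N * N.index = Nat.card (A ⧸ O) := Subgroup.card_mul_index _
    have c4 : Nat.card A = Nat.card (A ⧸ O) * Nat.card O := Subgroup.card_eq_card_quotient_mul_card_subgroup O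
    have c5 : Nat.card (N.comap f) = Nat.card N * Nat.card O := by
      have hi : 0 < N.index := Nat.pos_of_ne_zero Subgroup.index_ne_zero_of_finite
      apply Nat.eq_of_mul_eq_mul_right hi
      rw [c1] at c2
      rw [c2, c4, ← c3]; ring
    have hodd : Odd (Nat.card (N.comap f)) := by
      rw [c5]; exact hNodd.mul hOodd
    have hle : O ≤ N.comap f := by
      intro x hx
      rw [Subgroup.mem_comap]
      have : f x = 1 := (QuotientGroup.eq_one_iff x).2 hx
      rw [this]; exact N.one_mem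
    have h1 : N.comap f ≤ O := hOmax ⟨inferInstance, hodd⟩ hle
    rw [eq_bot_iff]
    intro x hx
    obtain ⟨a, rfl⟩ := hfs x
    exact Subgroup.mem_bot.2 ((QuotientGroup.eq_one_iff a).2 (h1 hx))
  -- the isomorphism
  have hinj : Function.Injective (f.subgroupMap (P : Subgroup A)) := by
    rw [injective_iff_map_eq_one]
    intro x hx
    have h1 : f (x : A) = 1 := by
      have := congrArg Subtype.val hx
      exact this
    have h2 : (x : A) ∈ O := (QuotientGroup.eq_one_iff _).1 h1
    obtain ⟨k, hk⟩ := P.isPGroup' x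
    have h3 : orderOf (x : A) ∣ 2 ^ k := by
      apply orderOf_dvd_of_pow_eq_one
      exact congrArg Subtype.val hk
    have h4 : orderOf (x : A) ∣ Nat.card O := by
      have := orderOf_dvd_natCard (⟨(x : A), h2⟩ : O)
      rwa [Subgroup.orderOf_mk] at this
    have h5 : (2 ^ k).Coprime (Nat.card O) := Nat.Coprime.pow_left k (Nat.coprime_two_left.2 hOodd)
    have h6 : orderOf (x : A) ∣ 1 := by
      have := Nat.dvd_gcd h3 h4
      rwa [h5.gcd_eq_one] at this
    have h7 : (x : A) = 1 := orderOf_eq_one_iff.1 (Nat.dvd_one.1 h6)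
    exact Subtype.ext h7
  have e1 : (P : Subgroup A) ≃* (Q : Subgroup (A ⧸ O)) :=
    MulEquiv.ofBijective (f.subgroupMap (P : Subgroup A)) ⟨hinj, f.subgroupMap_surjective _⟩
  have e2 : (P : Subgroup A) ≃* S := Subgroup.subgroupOfEquivOfLe (f4_SA L)
  have e3 : (Q : Subgroup (A ⧸ O)) ≃* Multiplicative (ZMod (2 ^ 2) × ZMod (2 ^ 2)) := (e1.symm.trans e2).trans e
  obtain ⟨hn, _, hidx⟩ := Cfsg.Agent.S0949.result Q 2 le_rfl e3 hO'
  have hperf' : commutator (A ⧸ O) = ⊤ := by
    have h1 : (commutator A).map f ≤ commutator (A ⧸ O) := by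
      rw [commutator_def, commutator_def, Subgroup.map_commutator]
      exact Subgroup.commutator_mono le_top le_top
    rw [hperf, Subgroup.map_top_of_surjective f hfs] at h1
    exact top_le_iff.1 h1
  have hle : commutator (A ⧸ O) ≤ (Q : Subgroup (A ⧸ O)) := by
    rcases hidx with h | h
    · rw [Subgroup.index_eq_one.1 h]; exact le_top
    · have : Fact (Nat.Prime 3) := ⟨Nat.prime_three⟩
      have hcyc : IsCyclic ((A ⧸ O) ⧸ (Q : Subgroup (A ⧸ O))) := isCyclic_of_prime_card (p := 3) h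
      rw [commutator_def, Subgroup.commutator_le]
      intro a _ b _
      rw [← QuotientGroup.eq_one_iff]
      have hcomm : ∀ x y : (A ⧸ O) ⧸ (Q : Subgroup (A ⧸ O)), x * y = y * x := by
        intro x y
        let _ := IsCyclic.commGroup (α := (A ⧸ O) ⧸ (Q : Subgroup (A ⧸ O)))
        exact mul_comm x y
      have := hcomm (a : (A ⧸ O) ⧸ (Q : Subgroup (A ⧸ O))) b
      change ((a * b * a⁻¹ * b⁻¹ : A ⧸ O) : (A ⧸ O) ⧸ (Q : Subgroup (A ⧸ O))) = 1
      rw [QuotientGroup.mk_mul, QuotientGroup.mk_mul, QuotientGroup.mk_mul, this, QuotientGroup.mk_inv,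
        QuotientGroup.mk_inv]
      group
  have hQtop : (Q : Subgroup (A ⧸ O)) = ⊤ := top_le_iff.1 (hperf' ▸ hle)
  have hcomm : ∀ x y : A ⧸ O, x * y = y * x := by
    intro x y
    have hx : x ∈ (Q : Subgroup (A ⧸ O)) := hQtop ▸ Subgroup.mem_top x
    have hy : y ∈ (Q : Subgroup (A ⧸ O)) := hQtop ▸ Subgroup.mem_top y
    have h1 : (⟨x, hx⟩ : (Q : Subgroup (A ⧸ O))) * ⟨y, hy⟩ = ⟨y, hy⟩ * ⟨x, hx⟩ := by
      apply e3.injective
      rw [map_mul, map_mul, mul_comm]
    exact congrArg Subtype.val h1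
  have hbot : commutator (A ⧸ O) = ⊥ := by
    rw [eq_bot_iff, commutator_def, Subgroup.commutator_le]
    intro a _ b _
    rw [Subgroup.mem_bot]
    change a * b * a⁻¹ * b⁻¹ = 1
    rw [hcomm a b]; group
  rw [hperf'] at hbot
  have h1 : e3.symm (Multiplicative.ofAdd (1, 0)) = 1 := by
    apply Subtype.ext
    have : ((e3.symm (Multiplicative.ofAdd (1, 0)) : (Q : Subgroup (A ⧸ O))) : A ⧸ O) ∈ (⊤ : Subgroup (A ⧸ O)) :=
      Subgroup.mem_top _
    rw [hbot] at this
    exact Subgroup.mem_bot.1 this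
  have h2 : (Multiplicative.ofAdd ((1 : ZMod (2 ^ 2)), (0 : ZMod (2 ^ 2)))) = 1 := by
    have := congrArg e3 h1
    rwa [MulEquiv.apply_symm_apply, map_one] at this
  have h3 : ((1 : ZMod (2 ^ 2)), (0 : ZMod (2 ^ 2))) = 0 := h2
  exact absurd h3 (by decide)

end

end Cfsg.Agent.Lib.H17A
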