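import Cfsg.Agent.Lib.H17A1
import Cfsg.Prelude.Def_Local
import Cfsg.Agent.Lib.Layer

set_option autoImplicit false

open scoped Pointwise

namespace Cfsg.Agent.Lib.H17A

open Cfsg

universe u

theorem g_prank {H X : Type u} [Group H] [Group X] [Finite H] [Finite X] (f : H →* X) (hf : Function.Injective f)
    (T : Sylow 2 X) (hN : ∀ x ∈ f.range, ∀ g : X, g * x * g⁻¹ ∈ f.range) (z : X)
    (h : ∀ x ∈ T, x ∈ f.range → x * x = 1 → x = 1 ∨ x = z) : PRankLE 2 1 H := by
  classical
  intro E hE hexp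
  have hp : IsPGroup 2 (E.map f) := by
    rintro ⟨x, hx⟩
    obtain ⟨e, he, rfl⟩ := Subgroup.mem_map.1 hx
    refine ⟨1, Subtype.ext ?_⟩
    simp only [pow_one, SubmonoidClass.mk_pow, OneMemClass.coe_one]
    rw [← map_pow, hexp e he, map_one]
  obtain ⟨Q, hQ⟩ := hp.exists_le_sylow
  obtain ⟨g, hg⟩ := MulAction.exists_smul_eq X Q T
  have key : ∀ e : E, g * f e * g⁻¹ = 1 ∨ g * f e * g⁻¹ = z := by
    intro e
    have h1 : f e ∈ Q := hQ (Subgroup.mem_map_of_mem f e.2)
    have h2 : g * f e * g⁻¹ ∈ T := by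
      rw [← hg]
      have : MulAut.conj g • (f e) ∈ (MulAut.conj g • (Q : Subgroup X)) := Subgroup.smul_mem_pointwise_smul _ _ _ h1
      exact this
    refine h _ h2 (hN _ ⟨_, rfl⟩ g) ?_
    have : f e * f e = 1 := by rw [← map_mul, ← pow_two, hexp e e.2, map_one]
    calc g * f e * g⁻¹ * (g * f e * g⁻¹) = g * (f e * f e) * g⁻¹ := by group
      _ = 1 := by rw [this]; group
  have hinj : Function.Injective (fun e : E => (g * f e * g⁻¹ : X)) := by
    intro a b hab
    have : f a = f b := by simpa using hab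
    exact Subtype.ext (hf this)
  have : Nat.card E ≤ Nat.card ({1, z} : Set X) := by
    refine Nat.card_le_card_of_injective (fun e : E => (⟨g * f e * g⁻¹, by
      rcases key e with h | h
      · left; exact h
      · right; exact h⟩ : ({1, z} : Set X))) ?_
    intro a b hab
    exact hinj (congrArg Subtype.val hab)
  refine this.trans ?_
  rw [Nat.card_coe_set_eq]
  exact (Set.ncard_insert_le _ _).trans (by rw [Set.ncard_singleton]; norm_num)

theorem g_not_prank {H : Type u} [Group H] [Finite H] (z : H) (h1 : z ≠ 1) (h2 : z * z = 1) : ¬ PRankLE 2 0 H := by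
  intro h
  have ho : orderOf z = 2 := orderOf_eq_prime (by rw [pow_two, h2]) h1
  have := h (Subgroup.zpowers z) (by infer_instance) (by
    intro a ha
    obtain ⟨k, rfl⟩ := Subgroup.mem_zpowers_iff.1 ha
    rw [← zpow_natCast, ← zpow_mul, mul_comm, zpow_mul, zpow_natCast, pow_two, h2, one_zpow])
  rw [Nat.card_zpowers, ho] at this
  norm_num at this

/-! ### elementwise consequences of the hypothesis -/

theorem g_r0 {G : Type u} [Group G] [Finite G] (A : Subgroup G) (t : G)
    (hC : ∀ R : Sylow 2 ↥(A ⊓ Subgroup.centralizer ({t} : Set G)), IsCyclic R ∧ Nat.card R = 4) :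
    ∃ r ∈ A, t * r = r * t ∧ orderOf r = 4 := by
  obtain ⟨R⟩ : Nonempty (Sylow 2 ↥(A ⊓ Subgroup.centralizer ({t} : Set G))) := inferInstance
  obtain ⟨hc, hk⟩ := hC R
  obtain ⟨g, hg⟩ := hc.exists_generator
  have ho : orderOf g = 4 := by rw [orderOf_eq_card_of_forall_mem_zpowers hg, hk]
  refine ⟨((g : ↥(A ⊓ Subgroup.centralizer ({t} : Set G))) : G), (g : ↥(A ⊓ Subgroup.centralizer ({t} : Set G))).2.1, ?_, ?_⟩
  · exact (Subgroup.mem_centralizer_singleton_iff.1 (g : ↥(A ⊓ Subgroup.centralizer ({t} : Set G))).2.2).symm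
  · rw [Subgroup.orderOf_coe, Subgroup.orderOf_coe, ho]

theorem g_card4 {G : Type u} [Group G] [Finite G] (A : Subgroup G) (t : G)
    (hC : ∀ R : Sylow 2 ↥(A ⊓ Subgroup.centralizer ({t} : Set G)), IsCyclic R ∧ Nat.card R = 4)
    (Q : Subgroup G) (hQ : IsPGroup 2 Q) (hQA : Q ≤ A) (hQt : ∀ q ∈ Q, t * q = q * t) : Nat.card Q ≤ 4 := by
  have hle : Q ≤ A ⊓ Subgroup.centralizer ({t} : Set G) := by
    refine le_inf hQA fun q hq => ?_
    rw [Subgroup.mem_centralizer_singleton_iff]
    exact (hQt q hq).symm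
  have hp : IsPGroup 2 (Q.subgroupOf (A ⊓ Subgroup.centralizer ({t} : Set G))) :=
    hQ.of_equiv (Subgroup.subgroupOfEquivOfLe hle).symm
  obtain ⟨R, hR⟩ := hp.exists_le_sylow
  have h1 := Subgroup.card_le_of_le hR
  have h2 : Nat.card (R : Subgroup ↥(A ⊓ Subgroup.centralizer ({t} : Set G))) = 4 := (hC R).2
  rw [h2] at h1
  rwa [Nat.card_congr (Subgroup.subgroupOfEquivOfLe hle).toEquiv] at h1

/-- set-up in `X` -/
theorem g_setup {X : Type u} [Group X] [Finite X] (A : Subgroup X) (t : X) (tt : t * t = 1) (r₀ : X) (hr₀ : r₀ ∈ A)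
    (htr : t * r₀ = r₀ * t) (ho : orderOf r₀ = 4)
    (hQ : ∀ Q : Subgroup X, IsPGroup 2 Q → Q ≤ A → (∀ q ∈ Q, t * q = q * t) → Nat.card Q ≤ 4) :
    ∃ T : Sylow 2 X, t ∈ T ∧ ∃ r ∈ T, r ∈ A ∧ t * r = r * t ∧ r * r ≠ 1 ∧ (r * r) * (r * r) = 1 ∧
      ∀ s ∈ T, s ∈ A → t * s = s * t → s = 1 ∨ s = r ∨ s = r * r ∨ s = r * (r * r) := by
  classical
  have hcomm : Commute t r₀ := htr
  have hp : IsPGroup 2 (Subgroup.closure ({t, r₀} : Set X)) := by
    have hab : ∀ x ∈ Subgroup.closure ({t, r₀} : Set X), x ^ 4 = 1 := by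
      have hcomm' : ∀ x ∈ ({t, r₀} : Set X), ∀ y ∈ ({t, r₀} : Set X), x * y = y * x := by
        rintro x (rfl | rfl) y (rfl | rfl)
        · rfl
        · exact htr
        · exact htr.symm
        · rfl
      intro x hx
      have hcg := Subgroup.isMulCommutative_closure hcomm'
      induction hx using Subgroup.closure_induction with
      | mem y hy =>
        rcases hy with rfl | rfl
        · have : y ^ 4 = (y * y) * (y * y) := by simp only [pow_succ, pow_zero, one_mul, mul_assoc]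
          rw [this, tt, mul_one]
        · rw [← ho]; exact pow_orderOf_eq_one _
      | one => simp
      | mul a b ha hb iha ihb =>
        have : Commute a b := congrArg Subtype.val (hcg.is_comm.comm ⟨a, ha⟩ ⟨b, hb⟩)
        rw [this.mul_pow, iha, ihb, mul_one]
      | inv a ha iha => rw [inv_pow, iha, inv_one]
    rintro ⟨x, hx⟩
    exact ⟨2, Subtype.ext (by simpa using hab x hx)⟩
  obtain ⟨T, hT⟩ := hp.exists_le_sylow
  have htT : t ∈ T := hT (Subgroup.subset_closure (by simp))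
  have hrT : r₀ ∈ T := hT (Subgroup.subset_closure (by simp))
  have hr4 : r₀ ^ 4 = 1 := by rw [← ho]; exact pow_orderOf_eq_one _
  refine ⟨T, htT, r₀, hrT, hr₀, htr, ?_, ?_, ?_⟩
  · intro h
    have : orderOf r₀ ∣ 2 := orderOf_dvd_of_pow_eq_one (by rw [pow_two, h])
    rw [ho] at this
    norm_num at this
  · have : (r₀ * r₀) * (r₀ * r₀) = r₀ ^ 4 := by simp only [pow_succ, pow_zero, one_mul, mul_assoc]
    rw [this, hr4]
  · intro s hs hsA hst
    -- the subgroup `T ⊓ A ⊓ C(t)`
    have hQp : IsPGroup 2 ((T : Subgroup X) ⊓ A ⊓ Subgroup.centralizer ({t} : Set X) : Subgroup X) :=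
      T.2.to_le (inf_le_left.trans inf_le_left)
    have hQ4 := hQ ((T : Subgroup X) ⊓ A ⊓ Subgroup.centralizer ({t} : Set X)) hQp (inf_le_left.trans inf_le_right) (by
      intro q hq
      exact (Subgroup.mem_centralizer_singleton_iff.1 hq.2).symm)
    have hle : Subgroup.zpowers r₀ ≤ (T : Subgroup X) ⊓ A ⊓ Subgroup.centralizer ({t} : Set X) := by
      rw [Subgroup.zpowers_le]
      exact ⟨⟨hrT, hr₀⟩, Subgroup.mem_centralizer_singleton_iff.2 htr.symm⟩
    have heq : Subgroup.zpowers r₀ = (T : Subgroup X) ⊓ A ⊓ Subgroup.centralizer ({t} : Set X) :=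
      Subgroup.eq_of_le_of_card_ge hle (by rw [Nat.card_zpowers, ho]; exact hQ4)
    have hs' : s ∈ Subgroup.zpowers r₀ := by
      rw [heq]
      exact ⟨⟨hs, hsA⟩, Subgroup.mem_centralizer_singleton_iff.2 hst.symm⟩
    obtain ⟨k, hk, rfl⟩ : ∃ k < 4, r₀ ^ k = s := by
      obtain ⟨k, rfl⟩ := (mem_powers_iff_mem_zpowers (x := r₀)).2 hs'
      exact ⟨k % 4, Nat.mod_lt _ (by norm_num), by
        conv_rhs => rw [← Nat.div_add_mod k 4]
        simp [pow_add, pow_mul, hr4]⟩
    interval_cases k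
    · left; simp
    · right; left; simp
    · right; right; left; rw [pow_two]
    · right; right; right; rw [pow_succ, pow_two, mul_assoc]

/-- the case `t ∈ A` -/
theorem g_inA {X : Type u} [Group X] [Finite X] (A : Subgroup X) (t : X) (tt : t * t = 1) (t1 : t ≠ 1) (htA : t ∈ A)
    (hX : ∀ x : X, x ∈ A) (T : Sylow 2 X) (htT : t ∈ T) (r : X) (hr2 : r * r ≠ 1) (hr4 : (r * r) * (r * r) = 1)
    (hC : ∀ s ∈ T, s ∈ A → t * s = s * t → s = 1 ∨ s = r ∨ s = r * r ∨ s = r * (r * r)) :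
    ∀ s ∈ T, s ∈ A → s * s = 1 → s = 1 ∨ s = r * r := by
  have hrr3 : (r * (r * r)) * (r * (r * r)) = r * r := by
    calc (r * (r * r)) * (r * (r * r)) = ((r * r) * (r * r)) * (r * r) := by group
      _ = r * r := by rw [hr4, one_mul]
  have ht : t = r * r := by
    rcases hC t htT htA rfl with h | h | h | h
    · exact absurd h t1
    · exact absurd (h ▸ tt) hr2
    · exact h
    · rw [h, hrr3] at tt; exact absurd tt hr2
  have := Fact.mk Nat.prime_two
  have hT1 : (⊤ : Subgroup (T : Subgroup X)) ≠ ⊥ := by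
    intro h
    have h2 : (⟨t, htT⟩ : (T : Subgroup X)) ∈ (⊤ : Subgroup (T : Subgroup X)) := Subgroup.mem_top _
    rw [h, Subgroup.mem_bot] at h2
    exact t1 (congrArg Subtype.val h2)
  obtain ⟨y, -, hy1, hyc⟩ := UniqueInvolution.exists_central_of_normal T.2 (⊤ : Subgroup (T : Subgroup X)) hT1
  have hyT : ∀ x ∈ T, x * (y : X) = y * x := fun x hx => congrArg Subtype.val (hyc ⟨x, hx⟩)
  have hy1' : (y : X) ≠ 1 := fun h => hy1 (Subtype.ext h)
  have hcen : ∀ x ∈ T, t * x = x * t := by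
    intro x hx
    rw [ht]
    have h0 := hyT x hx
    rcases hC y y.2 (hX _) (hyT t htT) with h | h | h | h
    · exact absurd h hy1'
    · rw [h] at h0
      exact ((show Commute x r from h0).mul_right (show Commute x r from h0)).eq.symm
    · rw [h] at h0; exact h0.symm
    · rw [h] at h0
      rw [← hrr3]
      exact ((show Commute x (r * (r * r)) from h0).mul_right (show Commute x (r * (r * r)) from h0)).eq.symm
  intro s hs hsA hss
  rcases hC s hs hsA (hcen s hs) with h | h | h | h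
  · left; exact h
  · exact absurd (h ▸ hss) hr2
  · right; exact h
  · rw [h, hrr3] at hss; exact absurd hss hr2

theorem g_ix {G : Type u} [Group G] (A : Subgroup G) (t : G) (tt : t * t = 1)
    (htA : t ∈ Subgroup.normalizer (A : Set G)) : ∀ x ∈ A ⊔ Subgroup.zpowers t, x ∈ A ∨ t * x ∈ A := by
  have hconj : ∀ a ∈ A, t * a * t⁻¹ ∈ A := fun a ha => (Subgroup.mem_normalizer_iff.1 htA a).1 ha
  have htinv : t⁻¹ = t := inv_eq_of_mul_eq_one_left tt
  have hct : ∀ a ∈ A, t * a * t ∈ A := fun a ha => by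
    have := hconj a ha
    rwa [htinv] at this
  let K : Subgroup G :=
    { carrier := {x | x ∈ A ∨ t * x ∈ A}
      one_mem' := Or.inl A.one_mem
      mul_mem' := by
        rintro x y (hx | hx) (hy | hy)
        · exact Or.inl (A.mul_mem hx hy)
        · right
          have : t * (x * y) = (t * x * t) * (t * y) := by
            calc t * (x * y) = t * x * 1 * y := by group
              _ = t * x * (t * t) * y := by rw [tt]
              _ = _ := by group
          rw [this]; exact A.mul_mem (hct x hx) hy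
        · right
          rw [← mul_assoc]; exact A.mul_mem hx hy
        · left
          have : x * y = (t * (t * x) * t) * (t * y) := by
            calc x * y = 1 * x * 1 * y := by group
              _ = (t * t) * x * (t * t) * y := by rw [tt]
              _ = _ := by group
          rw [this]; exact A.mul_mem (hct _ hx) hy
      inv_mem' := by
        rintro x (hx | hx)
        · exact Or.inl (A.inv_mem hx)
        · right
          have : t * x⁻¹ = t * (t * x)⁻¹ * t := by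
            rw [mul_inv_rev, htinv, ← mul_assoc, mul_assoc (t * x⁻¹) t t, tt, mul_one]
          rw [this]; exact hct _ (A.inv_mem hx) }
  have hle : A ⊔ Subgroup.zpowers t ≤ K := by
    refine sup_le (fun a ha => Or.inl ha) ?_
    rw [Subgroup.zpowers_le]
    right
    rw [tt]; exact A.one_mem
  exact fun x hx => hle hx

/-- the reduction of the statement to the local main theorem -/
theorem g_main {G : Type u} [Group G] [Finite G] (A : Subgroup G) (hA : Cfsg.layer ↥A = ⊤)
    (t : G) (ht : orderOf t = 2) (htA : t ∈ Subgroup.normalizer (A : Set G))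
    (hC : ∀ R : Sylow 2 ↥(A ⊓ Subgroup.centralizer ({t} : Set G)), IsCyclic R ∧ Nat.card R = 4)
    (LM : ∀ {X : Type u} [Group X] [Finite X] {A S T : Subgroup X} {t r z : X}, Loc A S T t r z →
      Cfsg.layer A = ⊤ →
      (∀ g : X, ∀ Q : Subgroup X, Q ≤ S → (∀ q ∈ Q, g * t * g⁻¹ * q = q * (g * t * g⁻¹)) → Nat.card Q ≤ 4) →
      ∀ s ∈ S, s * s = 1 → s = 1 ∨ s = z) :
    Cfsg.PRankLE 2 1 A ∧ ¬ Cfsg.PRankLE 2 0 A := by
  classical
  have tt : t * t = 1 := by rw [← pow_two, ← ht]; exact pow_orderOf_eq_one t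
  have t1 : t ≠ 1 := by
    intro h; rw [h, orderOf_one] at ht; norm_num at ht
  obtain ⟨r₀, hr₀A, hr₀t, hr₀⟩ := g_r0 A t hC
  have hr₀4 : r₀ ^ 4 = 1 := by rw [← hr₀]; exact pow_orderOf_eq_one _
  have hr₀2 : r₀ ^ 2 ≠ 1 := by
    intro h
    have := orderOf_dvd_of_pow_eq_one h
    rw [hr₀] at this
    norm_num at this
  refine ⟨?_, ?_⟩
  swap
  · refine g_not_prank (⟨r₀ ^ 2, A.pow_mem hr₀A 2⟩ : A) (fun h => hr₀2 (congrArg Subtype.val h)) (Subtype.ext ?_)
    change r₀ ^ 2 * r₀ ^ 2 = 1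
    rw [← pow_add, hr₀4]
  -- the group `X`
  have htX : t ∈ A ⊔ Subgroup.zpowers t := Subgroup.mem_sup_right (Subgroup.mem_zpowers t)
  have hAX : A ≤ A ⊔ Subgroup.zpowers t := le_sup_left
  have hXN : A ⊔ Subgroup.zpowers t ≤ Subgroup.normalizer (A : Set G) :=
    sup_le Subgroup.le_normalizer (by rw [Subgroup.zpowers_le]; exact htA)
  obtain ⟨t', ht'⟩ : ∃ t' : ↥(A ⊔ Subgroup.zpowers t), (t' : G) = t := ⟨⟨t, htX⟩, rfl⟩
  obtain ⟨r', hr'⟩ : ∃ r' : ↥(A ⊔ Subgroup.zpowers t), (r' : G) = r₀ := ⟨⟨r₀, hAX hr₀A⟩, rfl⟩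
  obtain ⟨A', hA'⟩ : ∃ A' : Subgroup ↥(A ⊔ Subgroup.zpowers t), A' = A.subgroupOf (A ⊔ Subgroup.zpowers t) := ⟨_, rfl⟩
  have hmA' : ∀ x : ↥(A ⊔ Subgroup.zpowers t), x ∈ A' ↔ (x : G) ∈ A := by
    intro x; rw [hA', Subgroup.mem_subgroupOf]
  have hnorm : A'.Normal := by
    refine ⟨fun a ha g => ?_⟩
    rw [hmA'] at ha ⊢
    exact (Subgroup.mem_normalizer_iff.1 (hXN g.2) (a : G)).1 ha
  have hlayer : Cfsg.layer ↥A' = ⊤ := by
    have e : ↥A ≃* ↥A' := by
      rw [hA']; exact (Subgroup.subgroupOfEquivOfLe hAX).symm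
    have := Cfsg.Agent.Lib.Layer.layer_map_equiv e
    rw [hA] at this
    rw [← this, ← MonoidHom.range_eq_map, MonoidHom.range_eq_top]
    exact e.surjective
  have tt' : t' * t' = 1 := Subtype.ext (by rw [Subgroup.coe_mul, ht', tt]; rfl)
  have t1' : t' ≠ 1 := fun h => t1 (by rw [← ht', h]; rfl)
  have hQ : ∀ Q : Subgroup ↥(A ⊔ Subgroup.zpowers t), IsPGroup 2 Q → Q ≤ A' → (∀ q ∈ Q, t' * q = q * t') →
      Nat.card Q ≤ 4 := by
    intro Q hQp hQA hQt
    have h1 := g_card4 A t hC (Q.map (A ⊔ Subgroup.zpowers t).subtype) (hQp.map _) (by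
      rintro _ ⟨q, hq, rfl⟩
      exact (hmA' q).1 (hQA hq)) (by
      rintro _ ⟨q, hq, rfl⟩
      have := congrArg Subtype.val (hQt q hq)
      rw [Subgroup.coe_mul, Subgroup.coe_mul, ht'] at this
      exact this)
    rwa [Subgroup.card_map_of_injective (A ⊔ Subgroup.zpowers t).subtype_injective] at h1
  obtain ⟨T, htT, r, hrT, hrA, htr, hr2, hr4, hCT⟩ := g_setup A' t' tt' r' ((hmA' r').2 (by rw [hr']; exact hr₀A))
    (Subtype.ext (by rw [Subgroup.coe_mul, Subgroup.coe_mul, ht', hr', hr₀t]))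
    (by rw [← Subgroup.orderOf_coe, hr', hr₀]) hQ
  have hrange : ∀ x : ↥(A ⊔ Subgroup.zpowers t), x ∈ (Subgroup.inclusion hAX).range ↔ x ∈ A' := by
    intro x
    rw [hmA']
    constructor
    · rintro ⟨a, rfl⟩; exact a.2
    · intro hx; exact ⟨⟨x, hx⟩, Subtype.ext rfl⟩
  refine g_prank (Subgroup.inclusion hAX) (Subgroup.inclusion_injective hAX) T
    (fun x hx g => (hrange _).2 (hnorm.conj_mem x ((hrange x).1 hx) g)) (r * r) ?_
  intro x hxT hxr hxx
  have hxA : x ∈ A' := (hrange x).1 hxr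
  by_cases h : t' ∈ A'
  · refine g_inA A' t' tt' t1' h (fun y => ?_) T htT r hr2 hr4 hCT x hxT hxA hxx
    rw [hmA']
    have htA2 : t ∈ A := by rw [← ht']; exact (hmA' t').1 h
    rcases g_ix A t tt htA y y.2 with h2 | h2
    · exact h2
    · exact (Subgroup.mul_mem_cancel_left A htA2).1 h2
  · refine LM (A := A') (S := (T : Subgroup _) ⊓ A') (T := (T : Subgroup _)) (t := t') (r := r) (z := r * r)
      ?_ hlayer ?_ x ⟨hxT, hxA⟩ hxx
    · exact
        { An := hnorm
          tA := h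
          tt := tt'
          ix := fun y hy => by
            rcases g_ix A t tt htA y y.2 with h2 | h2
            · exact absurd ((hmA' y).2 h2) hy
            · rw [hmA', Subgroup.coe_mul, ht']; exact h2
          tT := htT
          ST := fun y => Iff.rfl
          p2 := T.2
          syl := fun Q hQ hTQ => T.3 hQ hTQ
          rS := ⟨hrT, hrA⟩
          tr := htr
          rz := rfl
          z1 := hr2
          zz := hr4
          cS := fun s hs hst => hCT s hs.1 hs.2 hst }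
    · intro g Q hQS hQg
      have hQp : IsPGroup 2 Q := T.2.to_le (hQS.trans inf_le_left)
      have h1 := hQ (Q.map (MulAut.conj g⁻¹).toMonoidHom) (hQp.map _) (by
        rintro _ ⟨q, hq, rfl⟩
        exact hnorm.conj_mem q (hQS hq).2 g⁻¹) (by
        rintro _ ⟨q, hq, rfl⟩
        have h3 := hQg q hq
        change t' * (g⁻¹ * q * g⁻¹⁻¹) = (g⁻¹ * q * g⁻¹⁻¹) * t'
        calc t' * (g⁻¹ * q * g⁻¹⁻¹) = g⁻¹ * (g * t' * g⁻¹ * q) * g := by group
          _ = g⁻¹ * (q * (g * t' * g⁻¹)) * g := by rw [h3]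
          _ = _ := by group)
      rwa [Subgroup.card_map_of_injective (MulAut.conj g⁻¹).injective] at h1

end Cfsg.Agent.Lib.H17A
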