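import Cfsg.Agent.Lib.H17A1

/-! S1914, piece L1 (helper66) -/

set_option autoImplicit false

namespace Cfsg.Agent.Lib.H17A

open Cfsg
open scoped commutatorElement

universe u

section
variable {X : Type u} [Group X] [Finite X] {A S T : Subgroup X} {t r z v : X}

omit [Finite X] in
/-- two involutions in a cyclic subgroup are equal -/
theorem l1_cyc {d x y : X} (hd : IsOfFinOrder d) (hx : x ∈ Subgroup.zpowers d) (hy : y ∈ Subgroup.zpowers d)
    (xx : x * x = 1) (yy : y * y = 1) (x1 : x ≠ 1) (y1 : y ≠ 1) : x = y := by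
  obtain ⟨m, rfl⟩ := Subgroup.mem_zpowers_iff.1 hx
  obtain ⟨n, rfl⟩ := Subgroup.mem_zpowers_iff.1 hy
  rw [← zpow_add] at xx yy
  have h1 := orderOf_dvd_iff_zpow_eq_one.2 xx
  have h2 := orderOf_dvd_iff_zpow_eq_one.2 yy
  have h3 : ¬ ((orderOf d : ℤ) ∣ m) := fun h => x1 (orderOf_dvd_iff_zpow_eq_one.1 h)
  have h4 : ¬ ((orderOf d : ℤ) ∣ n) := fun h => y1 (orderOf_dvd_iff_zpow_eq_one.1 h)
  obtain ⟨p, hp⟩ := h1
  obtain ⟨q, hq⟩ := h2
  have hp2 : p % 2 = 1 := by
    by_contra h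
    obtain ⟨p', rfl⟩ : ∃ p', p = 2 * p' := ⟨p / 2, by omega⟩
    exact h3 ⟨p', by linarith⟩
  have hq2 : q % 2 = 1 := by
    by_contra h
    obtain ⟨q', rfl⟩ : ∃ q', q = 2 * q' := ⟨q / 2, by omega⟩
    exact h4 ⟨q', by linarith⟩
  obtain ⟨e, he⟩ : ∃ e, p = q + 2 * e := ⟨(p - q) / 2, by omega⟩
  have h5 : (orderOf d : ℤ) ∣ m - n := ⟨e, by rw [he] at hp; linarith⟩
  have h6 := orderOf_dvd_iff_zpow_eq_one.1 h5
  rwa [zpow_sub, mul_inv_eq_one] at h6

theorem leaf1 (L : Loc A S T t r z) (Fu : Fus A S T t r z) (F : Four S T z v) (hc : ∀ s ∈ S, s * v = v * s)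
    (hst : SCyc S z v ∨ ∃ b ∈ S, (b * b ∈ V4 z v ∨ r * (b * b) ∈ V4 z v) ∧ SGen S t z v b)
    (hn : ∀ u ∈ V4 z v, ∀ w ∈ V4 z v, ∀ a ∈ A, a * u * a⁻¹ = w → u = w)
    (hi : ∀ s ∈ S, s * s = 1 → s ∈ V4 z v) : False := by
  have hST : ∀ x ∈ S, x ∈ T := fun x hx => ((L.ST x).1 hx).1
  have hSA : ∀ x ∈ S, x ∈ A := fun x hx => ((L.ST x).1 hx).2
  have hzS : z ∈ S := by rw [← L.rz]; exact S.mul_mem L.rS L.rS
  have hz : ∀ s ∈ S, s * z = z * s := fun s hs => zT L s (hST s hs)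
  have hVS : ∀ w ∈ V4 z v, w ∈ S := by
    rintro w (rfl | rfl | rfl | rfl)
    · exact S.one_mem
    · exact hzS
    · exact F.vS
    · exact S.mul_mem F.vS hzS
  have hV : ∀ w ∈ V4 z v, ∀ s ∈ S, s * w = w * s := by
    rintro w (rfl | rfl | rfl | rfl) s hs
    · simp
    · exact hz s hs
    · exact hc s hs
    · rw [← mul_assoc, hc s hs, mul_assoc, hz s hs, mul_assoc]
  -- the elements of V are central in A
  have hcen : ∀ u ∈ V4 z v, u * u = 1 → u ∈ ⁅S, S⁆ := by
    intro u hu huu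
    refine Fu.foc u (hVS u hu) (Fu.zstar u (hVS u hu) huu fun a ha haS => ?_)
    refine (hn u hu _ (hi _ haS ?_) a ha rfl).symm
    calc a * u * a⁻¹ * (a * u * a⁻¹) = a * (u * u) * a⁻¹ := by group
      _ = 1 := by rw [huu]; group
  have hz' := hcen z (Or.inr (Or.inl rfl)) L.zz
  have hv' := hcen v (Or.inr (Or.inr (Or.inl rfl))) F.vv
  suffices h : ∃ d : X, ⁅S, S⁆ ≤ Subgroup.zpowers d by
    obtain ⟨d, hd⟩ := h
    exact F.vz (l1_cyc (isOfFinOrder_of_finite d) (hd hv') (hd hz') F.vv L.zz F.v1 L.z1)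
  rcases hst with ⟨c, hcS, hcyc⟩ | ⟨b, hbS, hbb, hgen⟩
  · refine ⟨1, ?_⟩
    rw [Subgroup.commutator_le]
    intro g1 hg1 g2 hg2
    obtain ⟨i, w, hw, rfl⟩ := hcyc g1 hg1
    obtain ⟨j, w', hw', rfl⟩ := hcyc g2 hg2
    have : c ^ i * w * (c ^ j * w') = c ^ j * w' * (c ^ i * w) := by
      have e1 := hV w hw (c ^ j) (S.pow_mem hcS j)
      have e2 := hV w' hw' (c ^ i) (S.pow_mem hcS i)
      have e3 := hV w hw w' (hVS w' hw')
      calc c ^ i * w * (c ^ j * w') = c ^ i * (w * c ^ j) * w' := by group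
        _ = c ^ i * (c ^ j * w) * w' := by rw [e1]
        _ = c ^ j * c ^ i * (w * w') := by rw [← pow_add, add_comm, pow_add]; group
        _ = c ^ j * c ^ i * (w' * w) := by rw [e3]
        _ = c ^ j * (c ^ i * w') * w := by group
        _ = c ^ j * (w' * c ^ i) * w := by rw [e2]
        _ = _ := by group
    rw [commutatorElement_eq_one_iff_mul_comm.2 this]
    exact Subgroup.one_mem _
  · set a := t * b * t * b with ha
    have hb'S : t * b * t ∈ S := by
      rw [L.ST]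
      refine ⟨T.mul_mem (T.mul_mem L.tT (hST b hbS)) L.tT, ?_⟩
      have := L.An.conj_mem b (hSA b hbS) t
      rwa [inv_eq_of_mul_eq_one_left L.tt] at this
    have haS : a ∈ S := S.mul_mem hb'S hbS
    set w1 := t * b * t * (t * b * t) * (b * b) with hw1
    have htV : ∀ w ∈ V4 z v, t * w * t * w = 1 ∨ t * w * t * w = z := by
      have htz : t * z = z * t := zT L t L.tT
      have htv : t * v * t = v * z := by
        have := tv L F
        rwa [inv_eq_of_mul_eq_one_left L.tt] at this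
      rintro w (rfl | rfl | rfl | rfl)
      · left; simp [L.tt]
      · left
        rw [htz, mul_assoc, mul_assoc, ← mul_assoc t t, L.tt, one_mul, L.zz]
      · right
        rw [htv, mul_assoc, hc z hzS, ← mul_assoc, F.vv, one_mul]
      · right
        have : t * (v * z) * t = v := by
          calc t * (v * z) * t = t * v * (z * t) := by group
            _ = t * v * (t * z) := by rw [htz]
            _ = (t * v * t) * z := by group
            _ = v := by rw [htv, mul_assoc, L.zz, mul_one]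
        rw [this, ← mul_assoc, F.vv, one_mul]
    have hw1z : w1 = 1 ∨ w1 = z := by
      have e0 : w1 = t * (b * b) * t * (b * b) := by
        rw [hw1]
        calc t * b * t * (t * b * t) * (b * b) = t * b * (t * t) * b * t * (b * b) := by group
          _ = _ := by rw [L.tt]; group
      rcases hbb with h | h
      · rw [e0]; exact htV _ h
      · set w := r * (b * b) with hw
        have e1 : b * b = r⁻¹ * w := by rw [hw]; group
        have e2 : t * r⁻¹ = r⁻¹ * t := by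
          have := L.tr
          calc t * r⁻¹ = r⁻¹ * (r * t) * r⁻¹ := by group
            _ = r⁻¹ * (t * r) * r⁻¹ := by rw [this]
            _ = _ := by group
        have e3 : w1 = z * (t * w * t * w) := by
          have e4 := hV w h r⁻¹ (S.inv_mem L.rS)
          have e5 : t * w * t * r⁻¹ = r⁻¹ * (t * w * t) := by
            calc t * w * t * r⁻¹ = t * w * (t * r⁻¹) := by group
              _ = t * (w * r⁻¹) * t := by rw [e2]; group
              _ = (t * r⁻¹) * w * t := by rw [← e4]; group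
              _ = _ := by rw [e2]; group
          have e6 : r⁻¹ * r⁻¹ = z := by
            have : z⁻¹ = z := inv_eq_of_mul_eq_one_left L.zz
            rw [← mul_inv_rev, L.rz, this]
          rw [e0, e1]
          calc t * (r⁻¹ * w) * t * (r⁻¹ * w) = (t * r⁻¹) * w * t * r⁻¹ * w := by group
            _ = r⁻¹ * (t * w * t * r⁻¹) * w := by rw [e2]; group
            _ = (r⁻¹ * r⁻¹) * (t * w * t * w) := by rw [e5]; group
            _ = _ := by rw [e6]
        rcases htV w h with h' | h'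
        · right; rw [e3, h', mul_one]
        · left; rw [e3, h', L.zz]
    have hw1w : w1 * w1 = 1 := by
      rcases hw1z with h | h <;> rw [h]
      · simp
      · exact L.zz
    have hw1c : ∀ s ∈ S, s * w1 = w1 * s := by
      intro s hs
      rcases hw1z with h | h <;> rw [h]
      · simp
      · exact hz s hs
    have hab : b * a * b⁻¹ = a⁻¹ * w1 := by
      -- from b⁻¹ a b = a⁻¹ w1
      have e1 : b⁻¹ * a * b = a⁻¹ * w1 := by
        rw [ha, hw1]; group
      have e2 : w1⁻¹ = w1 := inv_eq_of_mul_eq_one_left hw1w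
      have e3 := hw1c b hbS
      have e4 := hw1c a haS
      have e5 : a = b * (a⁻¹ * w1) * b⁻¹ := by rw [← e1]; group
      have e6 : b * a⁻¹ * b⁻¹ = a * w1 := by
        have : a = b * a⁻¹ * b⁻¹ * w1 := by
          calc a = b * (a⁻¹ * w1) * b⁻¹ := e5
            _ = b * a⁻¹ * (w1 * b⁻¹) := by group
            _ = b * a⁻¹ * (b⁻¹ * w1) := by rw [hw1c b⁻¹ (S.inv_mem hbS)]
            _ = _ := by group
        calc b * a⁻¹ * b⁻¹ = b * a⁻¹ * b⁻¹ * w1 * w1⁻¹ := by group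
          _ = a * w1 := by rw [← this, e2]
      calc b * a * b⁻¹ = (b * a⁻¹ * b⁻¹)⁻¹ := by group
        _ = (a * w1)⁻¹ := by rw [e6]
        _ = w1⁻¹ * a⁻¹ := by group
        _ = a⁻¹ * w1 := by rw [e2, hw1c a⁻¹ (S.inv_mem haS)]
    have hcom : Commute a w1 := hw1c a haS
    have habn : ∀ n : ℤ, b * a ^ n * b⁻¹ = a ^ (-n) * w1 ^ n := by
      intro n
      rw [← conj_zpow, hab, (hcom.inv_left).mul_zpow, inv_zpow']
    refine ⟨a ^ 2 * w1, ?_⟩
    have hd : ∀ n : ℤ, a ^ (2 * n) * w1 ^ n ∈ Subgroup.zpowers (a ^ 2 * w1) := by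
      intro n
      refine Subgroup.mem_zpowers_iff.2 ⟨n, ?_⟩
      rw [(hcom.pow_left 2).mul_zpow, zpow_mul, zpow_ofNat a 2]
    have hw1i : w1⁻¹ = w1 := inv_eq_of_mul_eq_one_left hw1w
    have hd' : ∀ n : ℤ, a ^ (2 * n) * w1 ^ (-n) ∈ Subgroup.zpowers (a ^ 2 * w1) := by
      intro n
      rw [zpow_neg, ← inv_zpow, hw1i]
      exact hd n
    rw [Subgroup.commutator_le]
    intro g1 hg1 g2 hg2
    have hcw : ∀ x ∈ S, ∀ y ∈ S, ∀ w ∈ V4 z v, ∀ w' ∈ V4 z v, ⁅x * w, y * w'⁆ = ⁅x, y⁆ := by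
      intro x hx y hy w hw w' hw'
      have e1 := hV w hw y hy
      have e2 := hV w' hw' x hx
      have e3 := hV w hw w' (hVS w' hw')
      have f1 : x * w * (y * w') = x * y * (w * w') := by
        calc x * w * (y * w') = x * (w * y) * w' := by group
          _ = _ := by rw [← e1]; group
      have f2 : y * w' * (x * w) = y * x * (w * w') := by
        calc y * w' * (x * w) = y * (w' * x) * w := by group
          _ = y * x * (w' * w) := by rw [← e2]; group
          _ = _ := by rw [e3]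
      calc ⁅x * w, y * w'⁆ = (x * w * (y * w')) * (y * w' * (x * w))⁻¹ := by rw [commutatorElement_def]; group
        _ = x * y * (w * w') * (y * x * (w * w'))⁻¹ := by rw [f1, f2]
        _ = ⁅x, y⁆ := by rw [commutatorElement_def]; group
    -- the four commutators
    have haw : ∀ i : ℕ, a ^ i ∈ S := fun i => S.pow_mem haS i
    have k0 : ∀ i j : ℕ, ⁅a ^ i, a ^ j⁆ = 1 := fun i j =>
      commutatorElement_eq_one_iff_mul_comm.2 (by rw [← pow_add, add_comm, pow_add])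
    have k1 : ∀ i j : ℕ, ⁅a ^ i, a ^ j * b⁆ ∈ Subgroup.zpowers (a ^ 2 * w1) := by
      intro i j
      have e : ⁅a ^ i, a ^ j * b⁆ = a ^ (2 * (i : ℤ)) * w1 ^ (-(i:ℤ)) := by
        have c1 : w1 ^ (-(i : ℤ)) * a ^ (-(j : ℤ)) = a ^ (-(j : ℤ)) * w1 ^ (-(i : ℤ)) :=
          ((hcom.zpow_zpow _ _).eq).symm
        calc ⁅a ^ i, a ^ j * b⁆ = a ^ (i : ℤ) * a ^ (j : ℤ) * (b * a ^ (-(i : ℤ)) * b⁻¹) * a ^ (-(j : ℤ)) := by
              rw [commutatorElement_def, zpow_neg, zpow_neg, zpow_natCast, zpow_natCast]; group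
          _ = a ^ (i : ℤ) * a ^ (j : ℤ) * (a ^ (i : ℤ) * w1 ^ (-(i : ℤ))) * a ^ (-(j : ℤ)) := by rw [habn, neg_neg]
          _ = a ^ (i : ℤ) * a ^ (j : ℤ) * a ^ (i : ℤ) * (w1 ^ (-(i : ℤ)) * a ^ (-(j : ℤ))) := by group
          _ = a ^ (i : ℤ) * a ^ (j : ℤ) * a ^ (i : ℤ) * (a ^ (-(j : ℤ)) * w1 ^ (-(i : ℤ))) := by rw [c1]
          _ = a ^ ((i : ℤ) + j + i + (-(j : ℤ))) * w1 ^ (-(i : ℤ)) := by rw [zpow_add, zpow_add, zpow_add]; group
          _ = _ := by congr 2; ring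
      rw [e]
      exact hd' _
    have k2 : ∀ i j : ℕ, ⁅a ^ i * b, a ^ j * b⁆ ∈ Subgroup.zpowers (a ^ 2 * w1) := by
      intro i j
      have e : ⁅a ^ i * b, a ^ j * b⁆ = a ^ (2 * ((i : ℤ) - j)) * w1 ^ (-((i:ℤ) - j)) := by
        have c1 : w1 ^ (-((i : ℤ) - j)) * a ^ (-(j : ℤ)) = a ^ (-(j : ℤ)) * w1 ^ (-((i : ℤ) - j)) :=
          ((hcom.zpow_zpow _ _).eq).symm
        calc ⁅a ^ i * b, a ^ j * b⁆ = a ^ (i : ℤ) * (b * a ^ (-((i : ℤ) - j)) * b⁻¹) * a ^ (-(j : ℤ)) := by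
              rw [commutatorElement_def, neg_sub, zpow_sub, zpow_neg, zpow_natCast, zpow_natCast]; group
          _ = a ^ (i : ℤ) * (a ^ ((i : ℤ) - j) * w1 ^ (-((i : ℤ) - j))) * a ^ (-(j : ℤ)) := by rw [habn, neg_neg]
          _ = a ^ (i : ℤ) * a ^ ((i : ℤ) - j) * (w1 ^ (-((i : ℤ) - j)) * a ^ (-(j : ℤ))) := by group
          _ = a ^ (i : ℤ) * a ^ ((i : ℤ) - j) * (a ^ (-(j : ℤ)) * w1 ^ (-((i : ℤ) - j))) := by rw [c1]
          _ = a ^ ((i : ℤ) + ((i : ℤ) - j) + (-(j : ℤ))) * w1 ^ (-((i : ℤ) - j)) := by rw [zpow_add, zpow_add]; group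
          _ = _ := by congr 2; ring
      rw [e]
      exact hd' _
    rcases hgen g1 hg1 with ⟨i, w, hw, rfl | rfl⟩ <;> rcases hgen g2 hg2 with ⟨j, w', hw', rfl | rfl⟩
    · rw [hcw _ (haw i) _ (haw j) w hw w' hw', k0]
      exact Subgroup.one_mem _
    · rw [hcw _ (haw i) _ (S.mul_mem (haw j) hbS) w hw w' hw']
      exact k1 i j
    · rw [hcw _ (S.mul_mem (haw i) hbS) _ (haw j) w hw w' hw', ← commutatorElement_inv]
      exact Subgroup.inv_mem _ (k1 j i)
    · rw [hcw _ (S.mul_mem (haw i) hbS) _ (S.mul_mem (haw j) hbS) w hw w' hw']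
      exact k2 i j

end

end Cfsg.Agent.Lib.H17A
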