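import Cfsg.Agent.Lib.H17A0
import Cfsg.Prelude.Def_CaseTheorems
import Cfsg.Prelude.Def_Local

set_option autoImplicit false

/-! S1914, piece L2 -/

namespace Cfsg.Agent.Lib.H17A

open Cfsg

universe u

section
variable {X : Type u} [Group X] [Finite X] {A S T : Subgroup X} {t r z v : X}

theorem l2_zpow {a c : X} (hca : c * a = a⁻¹ * c) (k : ℤ) : c * a ^ k = a ^ (-k) * c := by
  have h : SemiconjBy c a a⁻¹ := hca
  have := h.zpow_right k
  rw [inv_zpow'] at this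
  exact this

/-- dihedral type subgroup -/
def l2_M (a c : X) (hcc : c * c = 1) (hca : c * a = a⁻¹ * c) : Subgroup X where
  carrier := {x | ∃ k : ℤ, x = a ^ k ∨ x = a ^ k * c}
  one_mem' := ⟨0, Or.inl (zpow_zero a).symm⟩
  mul_mem' := by
    rintro x y ⟨k, rfl | rfl⟩ ⟨l, rfl | rfl⟩
    · exact ⟨k + l, Or.inl (zpow_add a k l).symm⟩
    · exact ⟨k + l, Or.inr (by rw [zpow_add, mul_assoc])⟩
    · exact ⟨k + -l, Or.inr (by rw [mul_assoc, l2_zpow hca, zpow_add, mul_assoc])⟩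
    · exact ⟨k + -l, Or.inl (by
        rw [mul_assoc, ← mul_assoc c, l2_zpow hca, mul_assoc, hcc, mul_one, zpow_add])⟩
  inv_mem' := by
    rintro x ⟨k, rfl | rfl⟩
    · exact ⟨-k, Or.inl (zpow_neg a k).symm⟩
    · refine ⟨k, Or.inr ?_⟩
      have hc : c⁻¹ = c := inv_eq_of_mul_eq_one_left hcc
      rw [mul_inv_rev, hc, ← zpow_neg, l2_zpow hca, neg_neg]

theorem l2_unique {a : X} {i0 : ℤ} (hz1 : z ≠ 1) (hzz : z * z = 1) (hz : z = a ^ (2 * i0)) (k : ℤ)
    (hk : a ^ k * a ^ k = 1) : a ^ k = 1 ∨ a ^ k = z := by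
  by_cases h1 : a ^ k = 1
  · exact Or.inl h1
  right
  rw [← zpow_add] at hk
  rw [hz] at hz1 hzz
  rw [← zpow_add] at hzz
  obtain ⟨p, hp⟩ := orderOf_dvd_iff_zpow_eq_one.2 hk
  obtain ⟨q, hq⟩ := orderOf_dvd_iff_zpow_eq_one.2 hzz
  have h2 : ¬ (orderOf a : ℤ) ∣ k := fun h => h1 (orderOf_dvd_iff_zpow_eq_one.1 h)
  have h3 : ¬ (orderOf a : ℤ) ∣ 2 * i0 := fun h => hz1 (orderOf_dvd_iff_zpow_eq_one.1 h)
  have hpo : p % 2 = 1 := by
    by_contra hcon
    apply h2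
    refine ⟨p / 2, ?_⟩
    have : p = 2 * (p / 2) := by omega
    have h4 : 2 * k = 2 * ((orderOf a : ℤ) * (p / 2)) := by
      calc 2 * k = k + k := by ring
        _ = (orderOf a : ℤ) * p := hp
        _ = (orderOf a : ℤ) * (2 * (p / 2)) := by rw [← this]
        _ = _ := by ring
    exact mul_left_cancel₀ (by norm_num) h4
  have hqo : q % 2 = 1 := by
    by_contra hcon
    apply h3
    refine ⟨q / 2, ?_⟩
    have : q = 2 * (q / 2) := by omega
    have h4 : 2 * (2 * i0) = 2 * ((orderOf a : ℤ) * (q / 2)) := by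
      calc 2 * (2 * i0) = 2 * i0 + 2 * i0 := by ring
        _ = (orderOf a : ℤ) * q := hq
        _ = (orderOf a : ℤ) * (2 * (q / 2)) := by rw [← this]
        _ = _ := by ring
    exact mul_left_cancel₀ (by norm_num) h4
  have h5 : (orderOf a : ℤ) ∣ k - 2 * i0 := by
    refine ⟨(p - q) / 2, ?_⟩
    have : p - q = 2 * ((p - q) / 2) := by omega
    have h4 : 2 * (k - 2 * i0) = 2 * ((orderOf a : ℤ) * ((p - q) / 2)) := by
      calc 2 * (k - 2 * i0) = (k + k) - (2 * i0 + 2 * i0) := by ring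
        _ = (orderOf a : ℤ) * (p - q) := by rw [hp, hq]; ring
        _ = (orderOf a : ℤ) * (2 * ((p - q) / 2)) := by rw [← this]
        _ = _ := by ring
    exact mul_left_cancel₀ (by norm_num) h4
  have h6 := orderOf_dvd_iff_zpow_eq_one.1 h5
  rw [zpow_sub, mul_inv_eq_one] at h6
  rw [h6, hz]

theorem l2_key (Fu : Fus A S T t r z) (F : Four S T z v)
    (hSA : ∀ s ∈ S, s ∈ A) (hz1 : z ≠ 1) (hzz : z * z = 1) (hzS : z ∈ S) (hc : ∀ s ∈ S, s * v = v * s)
    (hn : ∀ u ∈ V4 z v, ∀ w ∈ V4 z v, ∀ a ∈ A, a * u * a⁻¹ = w → u = w)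
    {a c : X} {i0 : ℤ} (haS : a ∈ S) (hcS : c ∈ S) (hcc : c * c = 1) (hca : c * a = a⁻¹ * c)
    (hz : z = a ^ (2 * i0))
    (hdec : ∀ s ∈ S, ∃ k : ℤ, s = a ^ k ∨ s = a ^ k * c ∨ s = a ^ k * v ∨ s = a ^ k * c * v) :
    (∃ k : ℤ, ∃ g ∈ A, g * v * g⁻¹ = a ^ k * c) ∧
    ∀ k : ℤ, (∃ g ∈ A, g * v * g⁻¹ = a ^ k * c) ∨ ∃ g ∈ A, g * (v * z) * g⁻¹ = a ^ k * c := by
  have hvz : v * z = z * v := (hc z hzS).symm
  have hvM : v ∉ l2_M a c hcc hca := by
    rintro ⟨k, hk | hk⟩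
    · rcases l2_unique hz1 hzz hz k (by rw [← hk]; exact F.vv) with h | h
      · exact F.v1 (hk.trans h)
      · exact F.vz (hk.trans h)
    · have h1 := hc a haS
      have e1 : a * v = a ^ (1 + k) * c := by rw [hk, ← mul_assoc, zpow_one_add]
      have e2 : v * a = a ^ (k - 1) * c := by rw [hk, mul_assoc, hca, ← mul_assoc, zpow_sub_one]
      rw [e1, e2] at h1
      have h2 := mul_right_cancel h1
      have h3 : a ^ (2 : ℤ) = 1 := by
        have : (2 : ℤ) = (1 + k) - (k - 1) := by ring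
        rw [this, zpow_sub, h2, mul_inv_cancel]
      exact hz1 (by rw [hz, zpow_mul, h3, one_zpow])
  have hzM : z ∈ l2_M a c hcc hca := ⟨2 * i0, Or.inl hz⟩
  have hMS : l2_M a c hcc hca ≤ S := by
    rintro x ⟨k, rfl | rfl⟩
    · exact S.zpow_mem haS k
    · exact S.mul_mem (S.zpow_mem haS k) hcS
  have hrel : (l2_M a c hcc hca).relIndex S = 2 := by
    rw [Subgroup.relIndex_eq_two_iff]
    refine ⟨v, F.vS, fun s hs => ?_⟩
    by_cases hsM : s ∈ l2_M a c hcc hca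
    · refine Or.inr ⟨hsM, fun h => hvM ?_⟩
      have := (l2_M a c hcc hca).mul_mem ((l2_M a c hcc hca).inv_mem hsM) h
      rwa [inv_mul_cancel_left] at this
    · refine Or.inl ⟨?_, hsM⟩
      obtain ⟨k, h | h | h | h⟩ := hdec s hs
      · exact (hsM ⟨k, Or.inl h⟩).elim
      · exact (hsM ⟨k, Or.inr h⟩).elim
      · refine ⟨k, Or.inl ?_⟩
        rw [h, mul_assoc, F.vv, mul_one]
      · refine ⟨k, Or.inr ?_⟩
        rw [h, mul_assoc, F.vv, mul_one]
  -- Thompson transfer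
  have key : ∀ u ∈ S, u * u = 1 → u ≠ 1 → u ∉ l2_M a c hcc hca → (∀ g ∈ A, g * u * g⁻¹ ≠ z) →
      ∃ k : ℤ, ∃ g ∈ A, g * u * g⁻¹ = a ^ k * c := by
    intro u hu huu hu1 huM hgz
    obtain ⟨g, hg, k, hk | hk⟩ := Fu.tt2 _ hMS hrel u hu (by rw [pow_succ, pow_succ, pow_two, huu]; simp [huu]) huM
      (fun g hg _ => by rw [huu, mul_one, mul_inv_cancel]; exact one_mem _)
    · exfalso
      have h2 : a ^ k * a ^ k = 1 := by
        have h3 : g * u * g⁻¹ * (g * u * g⁻¹) = g * (u * u) * g⁻¹ := by group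
        rw [← hk, h3, huu, mul_one, mul_inv_cancel]
      rcases l2_unique hz1 hzz hz k h2 with h | h
      · rw [h] at hk
        apply hu1
        have := congrArg (fun x => g⁻¹ * x * g) hk
        simpa [mul_assoc] using this
      · exact hgz g hg (hk.trans h)
    · exact ⟨k, g, hg, hk⟩
  have hvzvz : (v * z) * (v * z) = 1 := by
    calc v * z * (v * z) = v * (z * v) * z := by simp only [mul_assoc]
      _ = v * (v * z) * z := by rw [hvz]
      _ = (v * v) * (z * z) := by simp only [mul_assoc]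
      _ = 1 := by rw [F.vv, hzz, mul_one]
  have hzV : z ∈ V4 z v := Or.inr (Or.inl rfl)
  have hvV : v ∈ V4 z v := Or.inr (Or.inr (Or.inl rfl))
  have hvzV : v * z ∈ V4 z v := Or.inr (Or.inr (Or.inr rfl))
  have hvzne : v ≠ v * z := fun h => hz1 (by
    have := congrArg (fun x => v⁻¹ * x) h
    simpa using this.symm)
  obtain ⟨k1, g1, hg1, h1⟩ := key v F.vS F.vv F.v1 hvM fun g hg h => F.vz (hn v hvV z hzV g hg h)
  obtain ⟨k2, g2, hg2, h2⟩ := key (v * z) (S.mul_mem F.vS hzS) hvzvz (fun h => F.vz (by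
      have := congrArg (fun x => x * z) h
      simpa [mul_assoc, hzz] using this)) (fun h => hvM (by
      have := (l2_M a c hcc hca).mul_mem h hzM
      rwa [mul_assoc, hzz, mul_one] at this)) fun g hg h => F.v1 (by
      have := hn (v * z) hvzV z hzV g hg h
      have := congrArg (fun x => x * z) this
      simpa [mul_assoc, hzz] using this)
  -- conjugation by powers of a
  have hconj : ∀ m k : ℤ, a ^ m * (a ^ k * c) * (a ^ m)⁻¹ = a ^ (k + 2 * m) * c := by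
    intro m k
    rw [← zpow_neg, mul_assoc, mul_assoc, l2_zpow hca, neg_neg, ← mul_assoc, ← mul_assoc, ← zpow_add, ← zpow_add]
    congr 2
    ring
  have hpow : ∀ m : ℤ, a ^ m ∈ A := fun m => hSA _ (S.zpow_mem haS m)
  have hcc2 : ∀ (u g x h : X), g ∈ A → h ∈ A → g * u * g⁻¹ = x → (h * g) ∈ A ∧ (h * g) * u * (h * g)⁻¹ = h * x * h⁻¹ := by
    intro u g x h hg hh hx
    refine ⟨A.mul_mem hh hg, ?_⟩
    rw [← hx]; group
  have hpar : (k1 - k2) % 2 ≠ 0 := by
    intro hcon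
    obtain ⟨m, hm⟩ : ∃ m, k1 = k2 + 2 * m := ⟨(k1 - k2) / 2, by omega⟩
    have h3 := hcc2 _ g2 _ (a ^ m) hg2 (hpow m) h2
    rw [hconj, ← hm, ← h1] at h3
    obtain ⟨h4, h5⟩ := h3
    have h6 := hn (v * z) hvzV v hvV (g1⁻¹ * (a ^ m * g2)) (A.mul_mem (A.inv_mem hg1) h4) (by
      have : g1⁻¹ * (a ^ m * g2) * (v * z) * (g1⁻¹ * (a ^ m * g2))⁻¹ =
          g1⁻¹ * ((a ^ m * g2) * (v * z) * (a ^ m * g2)⁻¹) * g1 := by group
      rw [this, h5]; group)
    exact hvzne h6.symm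
  refine ⟨⟨k1, g1, hg1, h1⟩, fun k => ?_⟩
  rcases Int.emod_two_eq_zero_or_one (k - k1) with h | h
  · left
    obtain ⟨m, hm⟩ : ∃ m, k = k1 + 2 * m := ⟨(k - k1) / 2, by omega⟩
    obtain ⟨h4, h5⟩ := hcc2 _ g1 _ (a ^ m) hg1 (hpow m) h1
    exact ⟨_, h4, by rw [h5, hconj, ← hm]⟩
  · right
    obtain ⟨m, hm⟩ : ∃ m, k = k2 + 2 * m := ⟨(k - k2) / 2, by omega⟩
    obtain ⟨h4, h5⟩ := hcc2 _ g2 _ (a ^ m) hg2 (hpow m) h2
    exact ⟨_, h4, by rw [h5, hconj, ← hm]⟩

theorem leaf2 (L : Loc A S T t r z) (Fu : Fus A S T t r z) (F : Four S T z v) (hc : ∀ s ∈ S, s * v = v * s)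
    (hg : ∀ b ∈ S, b * b ∈ V4 z v → b ∉ V4 z v → r * b ∉ V4 z v → SGen S t z v b)
    (hn : ∀ u ∈ V4 z v, ∀ w ∈ V4 z v, ∀ a ∈ A, a * u * a⁻¹ = w → u = w)
    (b : X) (hb : b ∈ S) (hbb : b * b = 1) (hbV : b ∉ V4 z v) : False := by
  have hz1 := L.z1
  have hzz := L.zz
  have hrz := L.rz
  have hzS : z ∈ S := hrz ▸ S.mul_mem L.rS L.rS
  have hzr : z * r = r * z := by rw [← hrz, mul_assoc]
  have hrv : r * v = v * r := hc r L.rS
  have hvz : z * v = v * z := hc z hzS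
  have hSA : ∀ s ∈ S, s ∈ A := fun s hs => ((L.ST s).1 hs).2
  have hVsq : ∀ w ∈ V4 z v, w * w = 1 ∧ r * w = w * r := by
    rintro w (rfl | rfl | rfl | rfl)
    · simp
    · exact ⟨hzz, hzr.symm⟩
    · exact ⟨F.vv, hrv⟩
    · refine ⟨?_, ?_⟩
      · calc v * z * (v * z) = v * (z * v) * z := by simp only [mul_assoc]
          _ = v * (v * z) * z := by rw [hvz]
          _ = (v * v) * (z * z) := by simp only [mul_assoc]
          _ = 1 := by rw [F.vv, hzz, mul_one]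
      rw [← mul_assoc, hrv, mul_assoc, ← hzr, mul_assoc]
  have hV1 : (1 : X) ∈ V4 z v := Or.inl rfl
  have hzV : z ∈ V4 z v := Or.inr (Or.inl rfl)
  have hvV : v ∈ V4 z v := Or.inr (Or.inr (Or.inl rfl))
  have hvzV : v * z ∈ V4 z v := Or.inr (Or.inr (Or.inr rfl))
  have hrb : r * b ∉ V4 z v := by
    intro h
    obtain ⟨h1, h2⟩ := hVsq _ h
    have h3 : r * b * r = r * (r * b) := h2.symm
    have h4 : b * r = r * b := by
      rw [mul_assoc] at h3
      exact mul_left_cancel h3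
    have h5 : r * b * (r * b) = z := by
      rw [mul_assoc, ← mul_assoc b, h4, mul_assoc, hbb, mul_one, hrz]
    exact hz1 (h5.symm.trans h1)
  have hgen := hg b hb (by rw [hbb]; exact hV1) hbV hrb
  obtain ⟨a, ha⟩ : ∃ a, a = t * b * t * b := ⟨_, rfl⟩
  have htbt : t * b * t ∈ S := by
    rw [L.ST]
    have hbT := ((L.ST b).1 hb).1
    refine ⟨T.mul_mem (T.mul_mem L.tT hbT) L.tT, ?_⟩
    have h1 := L.An.conj_mem b (hSA b hb) t
    rwa [inv_eq_of_mul_eq_one_left L.tt] at h1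
  have haS : a ∈ S := ha ▸ S.mul_mem htbt hb
  have hba : b * a = a⁻¹ * b := by
    rw [eq_inv_mul_iff_mul_eq, ha]
    have : t * b * t * b * (b * (t * b * t * b)) = t * b * t * (b * b) * (t * b * t) * b := by group
    rw [this, hbb, mul_one]
    have : t * b * t * (t * b * t) * b = t * b * (t * t) * b * t * b := by group
    rw [this, L.tt, mul_one]
    have : t * b * b * t * b = t * (b * b) * t * b := by group
    rw [this, hbb, mul_one, L.tt, one_mul]
  rw [SGen, ← ha] at hgen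
  -- r is a power of a times an element of V
  obtain ⟨i0, hi0⟩ : ∃ i0 : ℤ, z = a ^ (2 * i0) := by
    obtain ⟨i, w, hw, hr⟩ := hgen r L.rS
    have hsq : ∀ y : X, y * z = z * y → (r = y ∨ r = y * z ∨ r = y * v ∨ r = y * (v * z)) → y * v = v * y →
        y * y = z := by
      intro y hyz h hyv
      have hyy : (y * v) * (y * v) = y * y := by
        rw [mul_assoc, ← mul_assoc v, ← hyv, mul_assoc, F.vv, mul_one]
      rcases h with h | h | h | h
      · rw [← h, hrz]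
      · have : y = r * z := by rw [h, mul_assoc, hzz, mul_one]
        rw [this, mul_assoc, ← mul_assoc z, hzr, mul_assoc, hzz, mul_one, hrz]
      · rw [← hyy, ← h, hrz]
      · have h1 : y * v = r * z := by rw [h, ← mul_assoc, mul_assoc, hzz, mul_one]
        rw [← hyy, h1, mul_assoc, ← mul_assoc z, hzr, mul_assoc, hzz, mul_one, hrz]
    have hzcomm : ∀ y : X, (r = y ∨ r = y * z ∨ r = y * v ∨ r = y * (v * z)) → y * v = v * y → y * z = z * y := by
      intro y h hyv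
      have hy : y = r ∨ y = r * z ∨ y = r * v ∨ y = r * (v * z) := by
        rcases h with h | h | h | h
        · exact Or.inl h.symm
        · exact Or.inr (Or.inl (by rw [h, mul_assoc, hzz, mul_one]))
        · exact Or.inr (Or.inr (Or.inl (by rw [h, mul_assoc, F.vv, mul_one])))
        · refine Or.inr (Or.inr (Or.inr ?_))
          rw [h, mul_assoc, (hVsq _ hvzV).1, mul_one]
      rcases hy with rfl | rfl | rfl | rfl
      · exact hzr.symm
      · rw [mul_assoc, ← mul_assoc z, hzr, mul_assoc]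
      · rw [mul_assoc, ← hvz, ← mul_assoc, ← mul_assoc, hzr]
      · rw [← mul_assoc z, hzr, mul_assoc, mul_assoc, mul_assoc]
        congr 1
        rw [← mul_assoc z, hvz, mul_assoc]
    have hcase : ∀ y w : X, w ∈ V4 z v → r = y * w → (r = y ∨ r = y * z ∨ r = y * v ∨ r = y * (v * z)) := by
      rintro y w (rfl | rfl | rfl | rfl) h
      · exact Or.inl (by rw [h, mul_one])
      · exact Or.inr (Or.inl h)
      · exact Or.inr (Or.inr (Or.inl h))
      · exact Or.inr (Or.inr (Or.inr h))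
    rcases hr with hr | hr
    · have h1 := hcase _ w hw hr
      have h2 := hc _ (S.pow_mem haS i)
      refine ⟨i, ?_⟩
      rw [← hsq _ (hzcomm _ h1 h2) h1 h2, two_mul, zpow_add, zpow_natCast]
    · exfalso
      have h1 := hcase _ w hw hr
      have h2 := hc _ (S.mul_mem (S.pow_mem haS i) hb)
      have h3 := hsq _ (hzcomm _ h1 h2) h1 h2
      have h4 : (a ^ i * b) * (a ^ i * b) = 1 := by
        rw [mul_assoc, ← mul_assoc b, ← zpow_natCast, l2_zpow hba, mul_assoc, hbb, mul_one, ← zpow_add,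
          add_neg_cancel, zpow_zero]
      exact hz1 (h3.symm.trans h4)
  have hzb : z * b = b * z := by
    have h1 : b * z = z⁻¹ * b := by rw [hi0, l2_zpow hba, zpow_neg]
    rw [h1, inv_eq_of_mul_eq_one_left hzz]
  have hbv : b * v = v * b := hc b hb
  have hav : a * v = v * a := hc a haS
  -- decomposition
  have hdec : ∀ s ∈ S, ∃ k : ℤ, s = a ^ k ∨ s = a ^ k * b ∨ s = a ^ k * v ∨ s = a ^ k * b * v := by
    intro s hs
    obtain ⟨i, w, hw, h⟩ := hgen s hs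
    have hz' : ∀ y : X, a ^ (i : ℤ) * z * y = a ^ ((i : ℤ) + 2 * i0) * y := fun y => by rw [zpow_add, ← hi0]
    rcases h with h | h <;> rcases hw with rfl | rfl | rfl | rfl
    · exact ⟨i, Or.inl (by rw [h, mul_one, zpow_natCast])⟩
    · exact ⟨i + 2 * i0, Or.inl (by rw [h, zpow_add, ← hi0, zpow_natCast])⟩
    · exact ⟨i, Or.inr (Or.inr (Or.inl (by rw [h, zpow_natCast])))⟩
    · exact ⟨i + 2 * i0, Or.inr (Or.inr (Or.inl (by rw [h, ← hvz, ← mul_assoc, ← hz', zpow_natCast])))⟩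
    · exact ⟨i, Or.inr (Or.inl (by rw [h, mul_one, zpow_natCast]))⟩
    · exact ⟨i + 2 * i0, Or.inr (Or.inl (by rw [h, mul_assoc, ← hzb, ← mul_assoc, ← hz', zpow_natCast]))⟩
    · exact ⟨i, Or.inr (Or.inr (Or.inr (by rw [h, zpow_natCast])))⟩
    · refine ⟨i + 2 * i0, Or.inr (Or.inr (Or.inr ?_))⟩
      rw [h, ← hvz, ← mul_assoc, mul_assoc (a ^ i) b z, ← hzb, ← mul_assoc, ← hz', zpow_natCast]
  have hdec' : ∀ s ∈ S, ∃ k : ℤ, s = a ^ k ∨ s = a ^ k * (b * v) ∨ s = a ^ k * v ∨ s = a ^ k * (b * v) * v := by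
    intro s hs
    obtain ⟨k, h | h | h | h⟩ := hdec s hs
    · exact ⟨k, Or.inl h⟩
    · exact ⟨k, Or.inr (Or.inr (Or.inr (by rw [h, mul_assoc, mul_assoc, F.vv, mul_one])))⟩
    · exact ⟨k, Or.inr (Or.inr (Or.inl h))⟩
    · exact ⟨k, Or.inr (Or.inl (by rw [h, mul_assoc]))⟩
  obtain ⟨⟨k0, g0, hg0, h0⟩, hK⟩ := l2_key Fu F hSA hz1 hzz hzS hc hn haS hb hbb hba hi0 hdec
  obtain ⟨-, hK'⟩ := l2_key Fu F hSA hz1 hzz hzS hc hn haS (S.mul_mem hb F.vS) (c := b * v)
    (by rw [mul_assoc, ← mul_assoc v, ← hbv, mul_assoc, F.vv, mul_one, hbb])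
    (by rw [mul_assoc, ← hav, ← mul_assoc, hba, mul_assoc]) hi0 hdec'
  have hvzne : v ≠ v * z := fun h => hz1 (by
    have := congrArg (fun x => v⁻¹ * x) h
    simpa using this.symm)
  have hzvz : z ≠ v * z := fun h => F.v1 (by
    have := congrArg (fun x => x * z) h
    simpa [mul_assoc, hzz] using this.symm)
  -- z is isolated
  have hiso : ∀ g ∈ A, g * z * g⁻¹ ∈ S → g * z * g⁻¹ = z := by
    intro g hg hgS
    have hno : ∀ u ∈ V4 z v, z ≠ u → ∀ g' ∈ A, g' * u * g'⁻¹ ≠ g * z * g⁻¹ := by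
      intro u hu hzu g' hg' h
      apply hzu
      refine hn z hzV u hu (g'⁻¹ * g) (A.mul_mem (A.inv_mem hg') hg) ?_
      have : g'⁻¹ * g * z * (g'⁻¹ * g)⁻¹ = g'⁻¹ * (g * z * g⁻¹) * g' := by group
      rw [this, ← h]; group
    have hyy : (g * z * g⁻¹) * (g * z * g⁻¹) = 1 := by
      have : (g * z * g⁻¹) * (g * z * g⁻¹) = g * (z * z) * g⁻¹ := by group
      rw [this, hzz]; group
    have hy1 : g * z * g⁻¹ ≠ 1 := by
      intro h
      apply hz1
      have := congrArg (fun x => g⁻¹ * x * g) h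
      simpa [mul_assoc] using this
    have hpv : ∀ k : ℤ, (a ^ k * v) * (a ^ k * v) = a ^ k * a ^ k := by
      intro k
      have h1 := hc _ (S.zpow_mem haS k)
      rw [mul_assoc, ← mul_assoc v, ← h1, mul_assoc, F.vv, mul_one]
    obtain ⟨k, h | h | h | h⟩ := hdec _ hgS
    · rcases l2_unique hz1 hzz hi0 k (by rw [← h]; exact hyy) with h' | h'
      · exact (hy1 (h.trans h')).elim
      · exact h.trans h'
    · rcases hK k with ⟨g', hg', h'⟩ | ⟨g', hg', h'⟩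
      · exact (hno v hvV F.vz.symm g' hg' (h'.trans h.symm)).elim
      · exact (hno (v * z) hvzV hzvz g' hg' (h'.trans h.symm)).elim
    · exfalso
      rw [h, hpv] at hyy
      rcases l2_unique hz1 hzz hi0 k hyy with h' | h'
      · rw [h', one_mul] at h
        exact hno v hvV F.vz.symm 1 (one_mem _) (by rw [h]; group)
      · rw [h', hvz] at h
        exact hno (v * z) hvzV hzvz 1 (one_mem _) (by rw [h]; group)
    · rcases hK' k with ⟨g', hg', h'⟩ | ⟨g', hg', h'⟩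
      · exact (hno v hvV F.vz.symm g' hg' (h'.trans (by rw [h, mul_assoc]))).elim
      · exact (hno (v * z) hvzV hzvz g' hg' (h'.trans (by rw [h, mul_assoc]))).elim
  have hzc := Fu.zstar z hzS hzz hiso
  -- contradiction
  apply hvzne
  refine hn v hvV (v * z) hvzV (g0⁻¹ * a ^ i0 * g0) (A.mul_mem (A.mul_mem (A.inv_mem hg0) (hSA _ (S.zpow_mem haS i0))) hg0) ?_
  have e1 : g0⁻¹ * a ^ i0 * g0 * v * (g0⁻¹ * a ^ i0 * g0)⁻¹ = g0⁻¹ * (a ^ i0 * (g0 * v * g0⁻¹) * (a ^ i0)⁻¹) * g0 := by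
    group
  have e2 : a ^ i0 * (a ^ k0 * b) * (a ^ i0)⁻¹ = (a ^ k0 * b) * z := by
    rw [← zpow_neg, mul_assoc, mul_assoc, l2_zpow hba, neg_neg, mul_assoc, ← hzb, hi0, ← mul_assoc, ← mul_assoc,
      ← mul_assoc, ← zpow_add, ← zpow_add, ← zpow_add]
    congr 2
    ring
  rw [e1, h0, e2, ← h0]
  have e3 : g0⁻¹ * (g0 * v * g0⁻¹ * z) * g0 = v * (g0⁻¹ * z * g0) := by group
  rw [e3, hzc _ (A.inv_mem hg0)]
  group

end

end Cfsg.Agent.Lib.H17A
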