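import Cfsg.Agent.Lib.H17A0
import Cfsg.Agent.Lib.H17A1
import Cfsg.Prelude.Def_CaseTheorems
import Cfsg.Prelude.Def_Local

set_option autoImplicit false
set_option linter.unusedSectionVars false
set_option linter.unusedVariables false

namespace Cfsg.Agent.Lib.H17A

open Cfsg
open scoped commutatorElement

universe u

section
variable {X : Type u} [Group X] [Finite X] {A S T : Subgroup X} {t r z v : X}

theorem l3_tinv (L : Loc A S T t r z) : t⁻¹ = t := inv_eq_of_mul_eq_one_left L.tt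

theorem l3_tS (L : Loc A S T t r z) : ∀ s ∈ S, t * s * t ∈ S := by
  intro s hs
  have h := (L.ST s).1 hs
  refine (L.ST _).2 ⟨T.mul_mem (T.mul_mem L.tT h.1) L.tT, ?_⟩
  have h2 := L.An.conj_mem s h.2 t
  rwa [l3_tinv L] at h2

theorem l3_cs (L : Loc A S T t r z) : ∀ s ∈ S, t * s * t = s → s = 1 ∨ s = r ∨ s = z ∨ s = r * z := by
  intro s hs h
  refine L.cS s hs ?_
  calc t * s = t * s * (t * t) := by rw [L.tt, mul_one]
    _ = (t * s * t) * t := by group
    _ = s * t := by rw [h]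

theorem l3_zS (L : Loc A S T t r z) : z ∈ S := L.rz ▸ S.mul_mem L.rS L.rS

theorem l3_zc (L : Loc A S T t r z) : ∀ s ∈ S, s * z = z * s := fun s hs => zT L s ((L.ST s).1 hs).1

theorem l3_tz (L : Loc A S T t r z) : t * z * t = z := by
  rw [zT L t L.tT, mul_assoc, L.tt, mul_one]

theorem l3_inv1 (L : Loc A S T t r z) : ∀ s ∈ S, s * s = 1 → t * s * t = s → s = 1 ∨ s = z := by
  intro s hs h1 h2
  rcases l3_cs L s hs h2 with h | h | h | h
  · exact Or.inl h
  · exfalso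
    rw [h, L.rz] at h1
    exact L.z1 h1
  · exact Or.inr h
  · exfalso
    rw [h] at h1
    have h3 : r * z * (r * z) = z := by
      calc r * z * (r * z) = r * (z * r) * z := by group
        _ = r * (r * z) * z := by rw [← l3_zc L r L.rS]
        _ = (r * r) * (z * z) := by group
        _ = z := by rw [L.rz, L.zz, mul_one]
    rw [h3] at h1
    exact L.z1 h1

theorem l3_tv (L : Loc A S T t r z) (F : Four S T z v) : t * v * t = v * z := by
  have h := F.hv t L.tT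
  rw [l3_tinv L] at h
  rcases h with h | h
  · rcases l3_inv1 L v F.vS F.vv h with h | h
    · exact absurd h F.v1
    · exact absurd h F.vz
  · exact h

theorem l3_tconj (L : Loc A S T t r z) (x y : X) : t * (x * y) * t = (t * x * t) * (t * y * t) := by
  calc t * (x * y) * t = t * x * 1 * y * t := by group
    _ = t * x * (t * t) * y * t := by rw [L.tt]
    _ = _ := by group

theorem l3_om (L : Loc A S T t r z) (F : Four S T z v) (hc : ∀ s ∈ S, s * v = v * s) :
    ∀ x ∈ S, x * x = 1 → (∀ s ∈ S, s * x = x * s) → x ∈ V4 z v := by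
  intro x hx h1 hxc
  have hx' := l3_tS L x hx
  set x' := t * x * t with hx'd
  have h2 : x' * x' = 1 := by
    rw [hx'd, ← l3_tconj L, h1, mul_one, L.tt]
  have hcomm : x' * x = x * x' := hxc x' hx'
  have htx' : t * x' * t = x := by
    rw [hx'd]
    calc t * (t * x * t) * t = (t * t) * x * (t * t) := by group
      _ = x := by rw [L.tt, one_mul, mul_one]
  have hy : t * (x * x') * t = x * x' := by
    rw [l3_tconj L, htx', ← hx'd, hcomm]
  have hyy : (x * x') * (x * x') = 1 := by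
    calc (x * x') * (x * x') = x * (x' * x) * x' := by group
      _ = x * (x * x') * x' := by rw [hcomm]
      _ = (x * x) * (x' * x') := by group
      _ = 1 := by rw [h1, h2, mul_one]
  rcases l3_inv1 L _ (S.mul_mem hx hx') hyy hy with h | h
  · -- x' = x
    have h3 : x' = x := by
      calc x' = (x * x) * x' := by rw [h1, one_mul]
        _ = x * (x * x') := by group
        _ = x := by rw [h, mul_one]
    rcases l3_inv1 L x hx h1 h3 with h | h
    · exact Or.inl h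
    · exact Or.inr (Or.inl h)
  · have h3 : x' = x * z := by
      calc x' = (x * x) * x' := by rw [h1, one_mul]
        _ = x * (x * x') := by group
        _ = x * z := by rw [h]
    have h4 : t * (x * v) * t = x * v := by
      rw [l3_tconj L, l3_tv L F, ← hx'd, h3]
      calc x * z * (v * z) = x * (z * v) * z := by group
        _ = x * (v * z) * z := by rw [← l3_zc L v F.vS]
        _ = x * v * (z * z) := by group
        _ = x * v := by rw [L.zz, mul_one]
    have h5 : (x * v) * (x * v) = 1 := by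
      calc (x * v) * (x * v) = x * (v * x) * v := by group
        _ = x * (x * v) * v := by rw [hxc v F.vS]
        _ = (x * x) * (v * v) := by group
        _ = 1 := by rw [h1, F.vv, mul_one]
    rcases l3_inv1 L _ (S.mul_mem hx F.vS) h5 h4 with h6 | h6
    · refine Or.inr (Or.inr (Or.inl ?_))
      calc x = x * (v * v) := by rw [F.vv, mul_one]
        _ = (x * v) * v := by group
        _ = v := by rw [h6, one_mul]
    · refine Or.inr (Or.inr (Or.inr ?_))
      calc x = x * (v * v) := by rw [F.vv, mul_one]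
        _ = (x * v) * v := by group
        _ = z * v := by rw [h6]
        _ = v * z := (l3_zc L v F.vS).symm

theorem l3_VS (L : Loc A S T t r z) (F : Four S T z v) : ∀ w ∈ V4 z v, w ∈ S := by
  rintro x (rfl | rfl | rfl | rfl)
  · exact S.one_mem
  · exact l3_zS L
  · exact F.vS
  · exact S.mul_mem F.vS (l3_zS L)

theorem l3_Vc (L : Loc A S T t r z) (_F : Four S T z v) (hc : ∀ s ∈ S, s * v = v * s) :
    ∀ w ∈ V4 z v, ∀ s ∈ S, s * w = w * s := by
  rintro x (rfl | rfl | rfl | rfl) s hs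
  · simp
  · exact l3_zc L s hs
  · exact hc s hs
  · rw [← mul_assoc, hc s hs, mul_assoc, l3_zc L s hs, mul_assoc]

theorem l3_Vsq (L : Loc A S T t r z) (F : Four S T z v) : ∀ w ∈ V4 z v, w * w = 1 := by
  rintro x (rfl | rfl | rfl | rfl)
  · simp
  · exact L.zz
  · exact F.vv
  · calc v * z * (v * z) = v * (z * v) * z := by group
      _ = v * (v * z) * z := by rw [← l3_zc L v F.vS]
      _ = (v * v) * (z * z) := by group
      _ = 1 := by rw [F.vv, L.zz, mul_one]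

theorem l3_surj {S : Subgroup X} (n : X) (hnS : ∀ s ∈ S, n * s * n⁻¹ ∈ S) : ∀ s ∈ S, ∃ s' ∈ S, n * s' * n⁻¹ = s := by
  intro s hs
  let f : S → S := fun s => ⟨n * s.1 * n⁻¹, hnS s.1 s.2⟩
  have hf : Function.Injective f := by
    intro a b h
    have h2 : n * a.1 * n⁻¹ = n * b.1 * n⁻¹ := congrArg Subtype.val h
    apply Subtype.ext
    simpa using h2
  have hs2 : Function.Surjective f := Finite.surjective_of_injective hf
  obtain ⟨⟨s', hs'⟩, h⟩ := hs2 ⟨s, hs⟩
  exact ⟨s', hs', congrArg Subtype.val h⟩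

theorem l3_nV (L : Loc A S T t r z) (F : Four S T z v) (hc : ∀ s ∈ S, s * v = v * s)
    (n : X) (hnS : ∀ s ∈ S, n * s * n⁻¹ ∈ S) : ∀ w ∈ V4 z v, n * w * n⁻¹ ∈ V4 z v := by
  intro w hw
  refine l3_om L F hc _ (hnS w (l3_VS L F w hw)) ?_ ?_
  · calc n * w * n⁻¹ * (n * w * n⁻¹) = n * (w * w) * n⁻¹ := by group
      _ = 1 := by rw [l3_Vsq L F w hw]; group
  · intro s hs
    obtain ⟨s', hs', rfl⟩ := l3_surj n hnS s hs
    calc n * s' * n⁻¹ * (n * w * n⁻¹) = n * (s' * w) * n⁻¹ := by group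
      _ = n * (w * s') * n⁻¹ := by rw [l3_Vc L F hc w hw s' hs']
      _ = _ := by group

/-- product of two elements of `V4` -/
theorem l3_Vmul (L : Loc A S T t r z) (F : Four S T z v) (hc : ∀ s ∈ S, s * v = v * s) :
    ∀ w ∈ V4 z v, ∀ w' ∈ V4 z v, w * w' ∈ V4 z v := by
  intro w hw w' hw'
  have hw'c := l3_Vc L F hc w' hw'
  have hwc := l3_Vc L F hc w hw
  refine l3_om L F hc _ (S.mul_mem (l3_VS L F w hw) (l3_VS L F w' hw')) ?_ ?_
  · calc w * w' * (w * w') = w * (w' * w) * w' := by group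
      _ = w * (w * w') * w' := by rw [hwc w' (l3_VS L F w' hw')]
      _ = (w * w) * (w' * w') := by group
      _ = 1 := by rw [l3_Vsq L F w hw, l3_Vsq L F w' hw', mul_one]
  · intro s hs
    rw [← mul_assoc, hwc s hs, mul_assoc, hw'c s hs, mul_assoc]


theorem l3_Vgen (L : Loc A S T t r z) (F : Four S T z v) : ∀ x ∈ V4 z v, ∀ y ∈ V4 z v, x ≠ 1 → y ≠ 1 → x ≠ y →
    ∀ w ∈ V4 z v, w = 1 ∨ w = x ∨ w = y ∨ w = x * y := by
  have e1 : z * v = v * z := (l3_zc L v F.vS).symm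
  have e2 : z * z = 1 := L.zz
  have e3 : v * v = 1 := F.vv
  have e4 : z * (v * z) = v := by rw [← e1, ← mul_assoc, e2, one_mul]
  have e5 : v * (v * z) = z := by rw [← mul_assoc, e3, one_mul]
  have e6 : v * z * z = v := by rw [mul_assoc, e2, mul_one]
  have e7 : v * z * v = z := by rw [mul_assoc, e1, e5]
  intro x hx y hy hx1 hy1 hxy w hw
  rcases hx with h | h | h | h <;> rcases hy with h' | h' | h' | h' <;>
    rcases hw with h'' | h'' | h'' | h'' <;> simp_all

theorem l3_move (L : Loc A S T t r z) (Fu : Fus A S T t r z) (F : Four S T z v) (hc : ∀ s ∈ S, s * v = v * s)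
    (n : X) (hnA : n ∈ A) (hnS : ∀ s ∈ S, n * s * n⁻¹ ∈ S) (u : X) (hu : u ∈ V4 z v) (hnu : n * u * n⁻¹ ≠ u) :
    ∀ w0 ∈ V4 z v, w0 ≠ 1 → n * w0 * n⁻¹ ≠ w0 := by
  intro w0 hw0 hw01 h0
  have hu1 : u ≠ 1 := by
    rintro rfl
    exact hnu (by group)
  have huw : w0 ≠ u := by
    rintro rfl
    exact hnu h0
  have h1 : n * u * n⁻¹ = w0 * u := by
    rcases l3_Vgen L F w0 hw0 u hu hw01 hu1 huw _ (l3_nV L F hc n hnS u hu) with h | h | h | h
    · exfalso
      apply hu1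
      simpa using h
    · exfalso
      apply huw
      rw [← h0] at h
      have h2 : u = w0 := by simpa using h
      exact h2.symm
    · exact absurd h hnu
    · exact h
  have h2 : Commute (n ^ 2) u := by
    show n ^ 2 * u = u * n ^ 2
    have h3 : n * (n * u * n⁻¹) * n⁻¹ = u := by
      rw [h1]
      calc n * (w0 * u) * n⁻¹ = (n * w0 * n⁻¹) * (n * u * n⁻¹) := by group
        _ = w0 * (w0 * u) := by rw [h0, h1]
        _ = (w0 * w0) * u := by group
        _ = u := by rw [l3_Vsq L F w0 hw0, one_mul]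
    calc n ^ 2 * u = (n * (n * u * n⁻¹) * n⁻¹) * n ^ 2 := by rw [pow_two]; group
      _ = u * n ^ 2 := by rw [h3]
  obtain ⟨k, m, hm, hkm⟩ := Nat.exists_eq_two_pow_mul_odd (orderOf_pos n).ne'
  have hpow : ∀ j : ℕ, ∀ s ∈ S, n ^ j * s * (n ^ j)⁻¹ ∈ S := by
    intro j
    induction j with
    | zero => intro s hs; simpa using hs
    | succ j ih =>
      intro s hs
      have h3 := hnS _ (ih s hs)
      have h4 : n * (n ^ j * s * (n ^ j)⁻¹) * n⁻¹ = n ^ (j + 1) * s * (n ^ (j + 1))⁻¹ := by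
        rw [pow_succ']; group
      rwa [h4] at h3
  have hmS : n ^ m ∈ S := by
    refine Fu.two (n ^ m) (A.pow_mem hnA m) (hpow m) ⟨k, ?_⟩
    rw [← pow_mul, mul_comm, ← hkm, pow_orderOf_eq_one]
  obtain ⟨j, rfl⟩ := hm
  have h5 : Commute (n ^ (2 * j + 1)) u := l3_Vc L F hc u hu _ hmS
  have h6 : Commute (n ^ (2 * j)) u := by
    rw [pow_mul]
    exact h2.pow_left j
  have h7 : Commute n u := by
    have h8 : n = (n ^ (2 * j))⁻¹ * n ^ (2 * j + 1) := by
      rw [pow_succ]; group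
    rw [h8]
    exact (h6.inv_left).mul_left h5
  apply hnu
  rw [h7.eq]; group

theorem l3_key (L : Loc A S T t r z) (Fu : Fus A S T t r z) (F : Four S T z v) (hc : ∀ s ∈ S, s * v = v * s)
    (n : X) (hnA : n ∈ A) (hnS : ∀ s ∈ S, n * s * n⁻¹ ∈ S) (u : X) (hu : u ∈ V4 z v) (hnu : n * u * n⁻¹ ≠ u)
    (D : Subgroup X) (hDS : D ≤ S) (hcyc : IsCyclic D) (hDn : ∀ d ∈ D, n * d * n⁻¹ ∈ D)
    (hDs : ∀ s ∈ S, ∀ d ∈ D, s * d * s⁻¹ ∈ D) : D = ⊥ := by
  by_contra hD
  have hST : S ≤ T := fun s hs => ((L.ST s).1 hs).1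
  have hp : IsPGroup 2 D := L.p2.to_le (hDS.trans hST)
  have hcard : 2 ∣ Nat.card D := by
    obtain ⟨k, hk⟩ := IsPGroup.iff_card.1 hp
    rcases k with _ | k
    · exfalso
      apply hD
      rw [← Subgroup.card_eq_one]
      simpa using hk
    · rw [hk, pow_succ]
      exact Dvd.intro_left _ rfl
  have : Fact (Nat.Prime 2) := ⟨Nat.prime_two⟩
  obtain ⟨⟨w0, hw0D⟩, hw0⟩ := exists_prime_orderOf_dvd_card' 2 hcard
  have hsq0 : w0 * w0 = 1 := by
    have h := pow_orderOf_eq_one (⟨w0, hw0D⟩ : D)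
    rw [hw0, pow_two] at h
    exact congrArg Subtype.val h
  have hne0 : w0 ≠ 1 := by
    rintro rfl
    have h : (⟨1, hw0D⟩ : D) = 1 := rfl
    rw [h, orderOf_one] at hw0
    omega
  have huniq : ∀ w ∈ D, w * w = 1 → w ≠ 1 → w = w0 := by
    intro w hw hww hw1
    by_contra hne
    classical
    let _ : Fintype D := Fintype.ofFinite D
    have hle := IsCyclic.card_pow_eq_one_le (α := D) (n := 2) (by norm_num)
    have h3 : ({(1 : D), ⟨w0, hw0D⟩, ⟨w, hw⟩} : Finset D) ⊆ Finset.univ.filter (fun a : D => a ^ 2 = 1) := by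
      intro x hx
      simp only [Finset.mem_insert, Finset.mem_singleton] at hx
      simp only [Finset.mem_filter, Finset.mem_univ, true_and]
      rcases hx with rfl | rfl | rfl
      · simp
      · rw [pow_two]; exact Subtype.ext hsq0
      · rw [pow_two]; exact Subtype.ext hww
    have h4 := Finset.card_le_card h3
    have h5 : ({(1 : D), ⟨w0, hw0D⟩, ⟨w, hw⟩} : Finset D).card = 3 := by
      rw [Finset.card_insert_of_notMem, Finset.card_insert_of_notMem, Finset.card_singleton]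
      · simp only [Finset.mem_singleton]
        intro h
        exact hne (congrArg Subtype.val h).symm
      · simp only [Finset.mem_insert, Finset.mem_singleton, not_or]
        exact ⟨fun h => hne0 (congrArg Subtype.val h).symm, fun h => hw1 (congrArg Subtype.val h).symm⟩
    have h6 : (Finset.univ.filter (fun a : D => a ^ 2 = 1)).card ≤ 2 := by
      convert hle
    omega
  have hcj : ∀ g : X, g * w0 * g⁻¹ ∈ D → g * w0 * g⁻¹ = w0 := by
    intro g hg
    refine huniq _ hg ?_ ?_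
    · calc g * w0 * g⁻¹ * (g * w0 * g⁻¹) = g * (w0 * w0) * g⁻¹ := by group
        _ = 1 := by rw [hsq0]; group
    · intro h
      apply hne0
      simpa using h
  have hcent : ∀ s ∈ S, s * w0 = w0 * s := by
    intro s hs
    have h := hcj s (hDs s hs w0 hw0D)
    calc s * w0 = (s * w0 * s⁻¹) * s := by group
      _ = w0 * s := by rw [h]
  have hV := l3_om L F hc w0 (hDS hw0D) hsq0 hcent
  exact l3_move L Fu F hc n hnA hnS u hu hnu w0 hV hne0 (hcj n (hDn w0 hw0D))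

theorem l3_cyc (L : Loc A S T t r z) (Fu : Fus A S T t r z) (F : Four S T z v) (hc : ∀ s ∈ S, s * v = v * s)
    (h : SCyc S z v)
    (n : X) (hnA : n ∈ A) (hnS : ∀ s ∈ S, n * s * n⁻¹ ∈ S) (u : X) (hu : u ∈ V4 z v) (hnu : n * u * n⁻¹ ≠ u) : False := by
  obtain ⟨c, hcS, hh⟩ := h
  have hsq : ∀ s ∈ S, s * s ∈ Subgroup.zpowers (c * c) := by
    intro s hs
    obtain ⟨i, w, hw, rfl⟩ := hh s hs
    refine Subgroup.mem_zpowers_iff.2 ⟨i, ?_⟩
    rw [zpow_natCast]
    have h1 : (c * c) ^ i = c ^ i * c ^ i := (Commute.refl c).mul_pow i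
    rw [h1]
    calc c ^ i * c ^ i = c ^ i * c ^ i * 1 := by rw [mul_one]
      _ = c ^ i * c ^ i * (w * w) := by rw [l3_Vsq L F w hw]
      _ = c ^ i * (c ^ i * w) * w := by group
      _ = c ^ i * (w * c ^ i) * w := by rw [l3_Vc L F hc w hw _ (S.pow_mem hcS i)]
      _ = c ^ i * w * (c ^ i * w) := by group
  have hinv : ∀ g : X, (∀ s ∈ S, g * s * g⁻¹ ∈ S) → ∀ d ∈ Subgroup.zpowers (c * c), g * d * g⁻¹ ∈ Subgroup.zpowers (c * c) := by
    intro g hg d hd
    obtain ⟨k, rfl⟩ := Subgroup.mem_zpowers_iff.1 hd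
    have h1 : g * (c * c) ^ k * g⁻¹ = ((g * c * g⁻¹) * (g * c * g⁻¹)) ^ k := by
      rw [← conj_zpow]
      congr 1
      group
    rw [h1]
    exact Subgroup.zpow_mem _ (hsq _ (hg c hcS)) k
  have hbot := l3_key L Fu F hc n hnA hnS u hu hnu (Subgroup.zpowers (c * c))
    (by rw [Subgroup.zpowers_le]; exact S.mul_mem hcS hcS) inferInstance (hinv n hnS)
    (fun s hs => hinv s (fun s' hs' => S.mul_mem (S.mul_mem hs hs') (S.inv_mem hs)))
  have hz := hsq r L.rS
  rw [L.rz, hbot, Subgroup.mem_bot] at hz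
  exact L.z1 hz


theorem l3_Vpow (L : Loc A S T t r z) (F : Four S T z v) (hc : ∀ s ∈ S, s * v = v * s) :
    ∀ w ∈ V4 z v, ∀ i : ℕ, w ^ i ∈ V4 z v := by
  intro w hw i
  induction i with
  | zero => rw [pow_zero]; exact Or.inl rfl
  | succ i ih => rw [pow_succ]; exact l3_Vmul L F hc _ ih _ hw

/-- `(t b t)² b² ∈ {1, z}` -/
theorem l3_w1 (L : Loc A S T t r z) (F : Four S T z v) (hc : ∀ s ∈ S, s * v = v * s)
    (b : X) (hb : b ∈ S) (hbb : b * b ∈ V4 z v ∨ r * (b * b) ∈ V4 z v) :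
    (t * b * t) * (t * b * t) * (b * b) = 1 ∨ (t * b * t) * (t * b * t) * (b * b) = z := by
  have hV : ∀ w ∈ V4 z v, t * w * t * w = 1 ∨ t * w * t * w = z := by
    rintro w (rfl | rfl | rfl | rfl)
    · left; simp [L.tt]
    · left; rw [l3_tz L, L.zz]
    · right
      rw [l3_tv L F, mul_assoc, ← l3_zc L w F.vS, ← mul_assoc, F.vv, one_mul]
    · right
      rw [l3_tconj L, l3_tv L F, l3_tz L]
      calc v * z * z * (v * z) = v * (z * z) * (v * z) := by group
        _ = (v * v) * z := by rw [L.zz]; group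
        _ = z := by rw [F.vv, one_mul]
  have h1 : (t * b * t) * (t * b * t) = t * (b * b) * t := (l3_tconj L b b).symm
  rw [h1]
  rcases hbb with h | h
  · exact hV _ h
  · have htr : t * r⁻¹ * t = r⁻¹ := by
      have h2 : t * r * t = r := by rw [L.tr, mul_assoc, L.tt, mul_one]
      have h3 := congrArg (·⁻¹) h2
      simp only [mul_inv_rev, l3_tinv L] at h3
      rw [mul_assoc]; exact h3
    set w := r * (b * b) with hw
    have hbw : b * b = r⁻¹ * w := by rw [hw]; group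
    have hbS : r * (b * b) ∈ S := S.mul_mem L.rS (S.mul_mem hb hb)
    have htw : t * w * t ∈ V4 z v := by
      refine l3_om L F hc _ (l3_tS L w (l3_VS L F w h)) ?_ ?_
      · rw [← l3_tconj L, l3_Vsq L F w h, mul_one, L.tt]
      · intro s hs
        have h5 := l3_Vc L F hc w h _ (l3_tS L s hs)
        calc s * (t * w * t) = (t * t) * s * (t * w * t) := by rw [L.tt, one_mul]
          _ = t * ((t * s * t) * w) * t := by group
          _ = t * (w * (t * s * t)) * t := by rw [h5]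
          _ = (t * w * t) * s * (t * t) := by group
          _ = (t * w * t) * s := by rw [L.tt, mul_one]
    have h4 : t * (b * b) * t * (b * b) = z * (t * w * t * w) := by
      rw [hbw, l3_tconj L, htr]
      calc r⁻¹ * (t * w * t) * (r⁻¹ * w) = r⁻¹ * ((t * w * t) * r⁻¹) * w := by group
        _ = r⁻¹ * (r⁻¹ * (t * w * t)) * w := by rw [l3_Vc L F hc _ htw _ (S.inv_mem L.rS)]
        _ = (r * r)⁻¹ * (t * w * t * w) := by group
        _ = z * (t * w * t * w) := by rw [L.rz, inv_eq_of_mul_eq_one_left L.zz]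
    rw [h4]
    rcases hV w h with h | h
    · right; rw [h, mul_one]
    · left; rw [h, L.zz]

theorem l3_comm_strip (x y w w' : X) (h1 : y * w = w * y) (h2 : w * w' = w' * w) (h3 : x * w' = w' * x) :
    ⁅x * w, y * w'⁆ = ⁅x, y⁆ := by
  rw [commutatorElement_def, commutatorElement_def]
  calc x * w * (y * w') * (x * w)⁻¹ * (y * w')⁻¹ = x * (w * y) * w' * w⁻¹ * x⁻¹ * w'⁻¹ * y⁻¹ := by group
    _ = x * (y * w) * w' * w⁻¹ * x⁻¹ * w'⁻¹ * y⁻¹ := by rw [h1]
    _ = x * y * (w * w') * w⁻¹ * x⁻¹ * w'⁻¹ * y⁻¹ := by group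
    _ = x * y * (w' * w) * w⁻¹ * x⁻¹ * w'⁻¹ * y⁻¹ := by rw [h2]
    _ = x * y * x⁻¹ * (x * w') * x⁻¹ * w'⁻¹ * y⁻¹ := by group
    _ = x * y * x⁻¹ * (w' * x) * x⁻¹ * w'⁻¹ * y⁻¹ := by rw [h3]
    _ = _ := by group

theorem l3_gen_comm (L : Loc A S T t r z) (F : Four S T z v) (hc : ∀ s ∈ S, s * v = v * s)
    (b : X) (hb : b ∈ S) (hbb : b * b ∈ V4 z v ∨ r * (b * b) ∈ V4 z v) (hS : SGen S t z v b) :
    ∃ d : X, ⁅S, S⁆ ≤ Subgroup.zpowers d := by
  have hβ : t * b * t ∈ S := l3_tS L b hb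
  set a := t * b * t * b with ha
  have haS : a ∈ S := S.mul_mem hβ hb
  set w1 := (t * b * t) * (t * b * t) * (b * b) with hw1
  have hw1z : w1 = 1 ∨ w1 = z := l3_w1 L F hc b hb hbb
  have hw1c : ∀ s ∈ S, s * w1 = w1 * s := by
    intro s hs
    rcases hw1z with h | h <;> rw [h]
    · simp
    · exact l3_zc L s hs
  have hb1 : b⁻¹ * a * b = a⁻¹ * w1 := by
    rw [ha, hw1]; group
  set e := a⁻¹ * w1 with he
  have hb2 : b * a * b⁻¹ = e := by
    have h1 : a = b * a⁻¹ * b⁻¹ * w1 := by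
      calc a = b * (b⁻¹ * a * b) * b⁻¹ := by group
        _ = b * a⁻¹ * (w1 * b⁻¹) := by rw [hb1, he]; group
        _ = b * a⁻¹ * (b⁻¹ * w1) := by rw [hw1c _ (S.inv_mem hb)]
        _ = _ := by group
    have h2 : b * a⁻¹ * b⁻¹ = a * w1⁻¹ := by
      rw [eq_mul_inv_iff_mul_eq]; exact h1.symm
    have h3 := congrArg (·⁻¹) h2
    simp only [mul_inv_rev, inv_inv] at h3
    rw [mul_assoc, h3, ← hw1c _ (S.inv_mem haS)]
  have hbpow : ∀ k : ℤ, b * a ^ k * b⁻¹ = e ^ k := by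
    intro k
    rw [← hb2, conj_zpow]
  have hea : Commute e a := by
    rw [he]
    exact ((Commute.refl a).inv_left).mul_left (hw1c a haS).symm
  refine ⟨a * e⁻¹, ?_⟩
  have hd : ∀ k : ℤ, a ^ k * e ^ (-k) ∈ Subgroup.zpowers (a * e⁻¹) := by
    intro k
    refine Subgroup.mem_zpowers_iff.2 ⟨k, ?_⟩
    rw [hea.symm.inv_right.mul_zpow, inv_zpow, zpow_neg]
  have hep : ∀ i j : ℤ, e ^ i * a ^ j = a ^ j * e ^ i := fun i j => (hea.zpow_zpow i j).eq
  rw [Subgroup.commutator_le]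
  intro g₁ hg₁ g₂ hg₂
  obtain ⟨i, w, hw, h1⟩ := hS g₁ hg₁
  obtain ⟨j, w', hw', h2⟩ := hS g₂ hg₂
  have hwc := l3_Vc L F hc w hw
  have hw'c := l3_Vc L F hc w' hw'
  have haS' : ∀ i : ℕ, a ^ i ∈ S := fun i => S.pow_mem haS i
  have habS' : ∀ i : ℕ, a ^ i * b ∈ S := fun i => S.mul_mem (S.pow_mem haS i) hb
  have hww : w * w' = w' * w := hw'c w (l3_VS L F w hw)
  have hbz : ∀ k : ℤ, b * a ^ k = e ^ k * b := by
    intro k
    rw [← hbpow k]; group
  rcases h1 with h1 | h1 <;> rcases h2 with h2 | h2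
  · rw [h1, h2, l3_comm_strip _ _ _ _ (hwc _ (haS' j)) hww (hw'c _ (haS' i))]
    have h3 : ⁅a ^ i, a ^ j⁆ = 1 := commutatorElement_eq_one_iff_mul_comm.2 ((Commute.refl a).pow_pow i j).eq
    rw [h3]; exact Subgroup.one_mem _
  · rw [h1, h2, l3_comm_strip _ _ _ _ (hwc _ (habS' j)) hww (hw'c _ (haS' i))]
    have h3 : ⁅a ^ i, a ^ j * b⁆ = a ^ (i : ℤ) * e ^ (-(i : ℤ)) := by
      rw [commutatorElement_def, ← zpow_natCast a i, ← zpow_natCast a j]
      calc a ^ (i : ℤ) * (a ^ (j : ℤ) * b) * (a ^ (i : ℤ))⁻¹ * (a ^ (j : ℤ) * b)⁻¹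
          = a ^ (i : ℤ) * a ^ (j : ℤ) * (b * a ^ (-(i : ℤ)) * b⁻¹) * a ^ (-(j : ℤ)) := by group
        _ = a ^ (i : ℤ) * a ^ (j : ℤ) * (e ^ (-(i : ℤ)) * a ^ (-(j : ℤ))) := by rw [hbpow]; group
        _ = a ^ (i : ℤ) * a ^ (j : ℤ) * (a ^ (-(j : ℤ)) * e ^ (-(i : ℤ))) := by rw [hep]
        _ = _ := by group
    rw [h3]; exact hd i
  · rw [h1, h2, l3_comm_strip _ _ _ _ (hwc _ (haS' j)) hww (hw'c _ (habS' i))]
    have h3 : ⁅a ^ i * b, a ^ j⁆ = (a ^ (j : ℤ) * e ^ (-(j : ℤ)))⁻¹ := by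
      rw [commutatorElement_def, ← zpow_natCast a i, ← zpow_natCast a j]
      calc a ^ (i : ℤ) * b * a ^ (j : ℤ) * (a ^ (i : ℤ) * b)⁻¹ * (a ^ (j : ℤ))⁻¹
          = a ^ (i : ℤ) * (b * a ^ (j : ℤ) * b⁻¹) * a ^ (-(i : ℤ)) * a ^ (-(j : ℤ)) := by group
        _ = a ^ (i : ℤ) * (e ^ (j : ℤ) * a ^ (-(i : ℤ))) * a ^ (-(j : ℤ)) := by rw [hbpow]; group
        _ = a ^ (i : ℤ) * (a ^ (-(i : ℤ)) * e ^ (j : ℤ)) * a ^ (-(j : ℤ)) := by rw [hep]
        _ = _ := by group
    rw [h3]; exact Subgroup.inv_mem _ (hd j)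
  · rw [h1, h2, l3_comm_strip _ _ _ _ (hwc _ (habS' j)) hww (hw'c _ (habS' i))]
    have h3 : ⁅a ^ i * b, a ^ j * b⁆ = (a ^ ((i : ℤ) - j) * e ^ (-((i : ℤ) - j))) := by
      rw [commutatorElement_def, ← zpow_natCast a i, ← zpow_natCast a j]
      calc a ^ (i : ℤ) * b * (a ^ (j : ℤ) * b) * (a ^ (i : ℤ) * b)⁻¹ * (a ^ (j : ℤ) * b)⁻¹
          = a ^ (i : ℤ) * (b * a ^ ((j : ℤ) - i) * b⁻¹) * a ^ (-(j : ℤ)) := by group
        _ = a ^ (i : ℤ) * (e ^ ((j : ℤ) - i) * a ^ (-(j : ℤ))) := by rw [hbpow]; group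
        _ = a ^ (i : ℤ) * (a ^ (-(j : ℤ)) * e ^ ((j : ℤ) - i)) := by rw [hep]
        _ = _ := by rw [neg_sub]; group
    rw [h3]; exact hd _


theorem l3_comm_inv {S : Subgroup X} (g : X) (hg : ∀ s ∈ S, g * s * g⁻¹ ∈ S) :
    ∀ d ∈ ⁅S, S⁆, g * d * g⁻¹ ∈ ⁅S, S⁆ := by
  intro d hd
  have h1 : S.map (MulAut.conj g).toMonoidHom ≤ S := by
    rintro _ ⟨s, hs, rfl⟩
    exact hg s hs
  have h2 : (⁅S, S⁆).map (MulAut.conj g).toMonoidHom ≤ ⁅S, S⁆ := by
    rw [Subgroup.map_commutator]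
    exact Subgroup.commutator_mono h1 h1
  exact h2 ⟨d, hd, rfl⟩

theorem l3_z44 {S : Subgroup X} {z v r b : X} (hab : ∀ s ∈ S, ∀ s' ∈ S, s * s' = s' * s) (hr : r ∈ S) (hb : b ∈ S)
    (hrz : r * r = z) (hbv : b * b = v) (hz1 : z ≠ 1) (hzz : z * z = 1) (hvv : v * v = 1) (hv1 : v ≠ 1) (hvz : v ≠ z)
    (hsq : ∀ s ∈ S, s * s ∈ V4 z v) (hom : ∀ s ∈ S, s * s = 1 → s ∈ V4 z v) :
    Nonempty (S ≃* Multiplicative (ZMod (2 ^ 2) × ZMod (2 ^ 2))) := by
  have hr4 : r ^ (2 ^ 2) = 1 := by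
    calc r ^ (2 ^ 2) = r ^ (2 + 2) := by norm_num
      _ = (r * r) * (r * r) := by rw [pow_add, pow_two]
      _ = 1 := by rw [hrz, hzz]
  have hb4 : b ^ (2 ^ 2) = 1 := by
    calc b ^ (2 ^ 2) = b ^ (2 + 2) := by norm_num
      _ = (b * b) * (b * b) := by rw [pow_add, pow_two]
      _ = 1 := by rw [hbv, hvv]
  have hrp : ∀ i : ℕ, r ^ i ∈ S := fun i => S.pow_mem hr i
  have hbp : ∀ i : ℕ, b ^ i ∈ S := fun i => S.pow_mem hb i
  have hrr : ∀ i : ℕ, r ^ i * r ^ i = z ^ i := by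
    intro i; rw [← hrz]; exact ((Commute.refl r).mul_pow i).symm
  have hbb : ∀ i : ℕ, b ^ i * b ^ i = v ^ i := by
    intro i; rw [← hbv]; exact ((Commute.refl b).mul_pow i).symm
  have hmul : ∀ i j i' j' : ℕ, (r ^ i * b ^ j) * (r ^ i' * b ^ j') = r ^ (i + i') * b ^ (j + j') := by
    intro i j i' j'
    calc (r ^ i * b ^ j) * (r ^ i' * b ^ j') = r ^ i * (b ^ j * r ^ i') * b ^ j' := by group
      _ = r ^ i * (r ^ i' * b ^ j) * b ^ j' := by rw [hab _ (hbp j) _ (hrp i')]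
      _ = (r ^ i * r ^ i') * (b ^ j * b ^ j') := by group
      _ = _ := by rw [pow_add, pow_add]
  have hzv : ∀ i j : ℕ, z ^ i * v ^ j = 1 → 2 ∣ i ∧ 2 ∣ j := by
    intro i j h
    have e1 : z ^ 2 = 1 := by rw [pow_two, hzz]
    have e2 : v ^ 2 = 1 := by rw [pow_two, hvv]
    rw [pow_eq_pow_mod i e1, pow_eq_pow_mod j e2] at h
    rcases Nat.mod_two_eq_zero_or_one i with hi | hi <;> rcases Nat.mod_two_eq_zero_or_one j with hj | hj
    · exact ⟨Nat.dvd_of_mod_eq_zero hi, Nat.dvd_of_mod_eq_zero hj⟩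
    · exfalso
      rw [hi, hj, pow_zero, pow_one, one_mul] at h
      exact hv1 h
    · exfalso
      rw [hi, hj, pow_zero, pow_one, mul_one] at h
      exact hz1 h
    · exfalso
      rw [hi, hj, pow_one, pow_one] at h
      apply hvz
      calc v = (z * z) * v := by rw [hzz, one_mul]
        _ = z * (z * v) := by group
        _ = z := by rw [h, mul_one]
  let f : Multiplicative (ZMod (2 ^ 2) × ZMod (2 ^ 2)) →* S :=
    { toFun := fun x => ⟨r ^ (Multiplicative.toAdd x).1.val * b ^ (Multiplicative.toAdd x).2.val,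
        S.mul_mem (hrp _) (hbp _)⟩
      map_one' := by
        apply Subtype.ext
        simp
      map_mul' := by
        intro x y
        apply Subtype.ext
        show r ^ (Multiplicative.toAdd (x * y)).1.val * b ^ (Multiplicative.toAdd (x * y)).2.val =
          (r ^ (Multiplicative.toAdd x).1.val * b ^ (Multiplicative.toAdd x).2.val) *
          (r ^ (Multiplicative.toAdd y).1.val * b ^ (Multiplicative.toAdd y).2.val)
        rw [hmul, toAdd_mul, Prod.fst_add, Prod.snd_add, ZMod.val_add, ZMod.val_add, ← pow_eq_pow_mod _ hr4,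
          ← pow_eq_pow_mod _ hb4] }
  have hinj : Function.Injective f := by
    rw [injective_iff_map_eq_one]
    intro x hx
    have h1 : r ^ (Multiplicative.toAdd x).1.val * b ^ (Multiplicative.toAdd x).2.val = 1 := congrArg Subtype.val hx
    have hi := ZMod.val_lt (Multiplicative.toAdd x).1
    have hj := ZMod.val_lt (Multiplicative.toAdd x).2
    set i := (Multiplicative.toAdd x).1.val with hid
    set j := (Multiplicative.toAdd x).2.val with hjd
    have h2 : z ^ i * v ^ j = 1 := by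
      rw [← hrr, ← hbb]
      calc r ^ i * r ^ i * (b ^ j * b ^ j) = r ^ (i + i) * b ^ (j + j) := by rw [pow_add, pow_add]
        _ = (r ^ i * b ^ j) * (r ^ i * b ^ j) := (hmul _ _ _ _).symm
        _ = 1 := by rw [h1, one_mul]
    obtain ⟨⟨i', hi'⟩, ⟨j', hj'⟩⟩ := hzv i j h2
    have h3 : z ^ i' * v ^ j' = 1 := by
      rw [← hrr, ← hbb, ← pow_add, ← pow_add, ← two_mul, ← two_mul, ← hi', ← hj']
      exact h1
    obtain ⟨⟨i'', hi''⟩, ⟨j'', hj''⟩⟩ := hzv i' j' h3
    have hi0 : i = 0 := by omega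
    have hj0 : j = 0 := by omega
    apply Multiplicative.toAdd.injective
    apply Prod.ext
    · exact (ZMod.val_eq_zero _).1 hi0
    · exact (ZMod.val_eq_zero _).1 hj0
  have hval : ∀ i j : ℕ, ((f (Multiplicative.ofAdd ((i : ZMod (2 ^ 2)), (j : ZMod (2 ^ 2)))) : S) : X) = r ^ i * b ^ j := by
    intro i j
    show r ^ ((i : ZMod (2 ^ 2))).val * b ^ ((j : ZMod (2 ^ 2))).val = r ^ i * b ^ j
    rw [ZMod.val_natCast, ZMod.val_natCast, ← pow_eq_pow_mod _ hr4, ← pow_eq_pow_mod _ hb4]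
  have hVf : ∀ w ∈ V4 z v, ∃ i j : ℕ, w = z ^ i * v ^ j := by
    rintro w (h | h | h | h)
    · exact ⟨0, 0, by rw [h]; simp⟩
    · exact ⟨1, 0, by rw [h]; simp⟩
    · exact ⟨0, 1, by rw [h]; simp⟩
    · refine ⟨1, 1, ?_⟩
      rw [h, pow_one, pow_one, ← hrz, ← hbv]
      exact hab _ (S.mul_mem hb hb) _ (S.mul_mem hr hr)
  have hsurj : Function.Surjective f := by
    rintro ⟨s, hs⟩
    obtain ⟨i, j, hij⟩ := hVf _ (hsq s hs)
    have hgS : (r ^ i * b ^ j)⁻¹ ∈ S := S.inv_mem (S.mul_mem (hrp i) (hbp j))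
    have h1 : (s * (r ^ i * b ^ j)⁻¹) * (s * (r ^ i * b ^ j)⁻¹) = 1 := by
      calc (s * (r ^ i * b ^ j)⁻¹) * (s * (r ^ i * b ^ j)⁻¹)
          = s * ((r ^ i * b ^ j)⁻¹ * s) * (r ^ i * b ^ j)⁻¹ := by group
        _ = s * (s * (r ^ i * b ^ j)⁻¹) * (r ^ i * b ^ j)⁻¹ := by rw [hab _ hgS _ hs]
        _ = (s * s) * ((r ^ i * b ^ j) * (r ^ i * b ^ j))⁻¹ := by group
        _ = (z ^ i * v ^ j) * ((r ^ (i + i) * b ^ (j + j)))⁻¹ := by rw [hij, hmul]
        _ = 1 := by rw [pow_add, pow_add, hrr, hbb]; group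
    obtain ⟨k, l, hkl⟩ := hVf _ (hom _ (S.mul_mem hs hgS) h1)
    have h2 : s = r ^ (k + k + i) * b ^ (l + l + j) := by
      rw [← hmul, pow_add, pow_add, hrr, hbb, ← hkl]
      group
    refine ⟨Multiplicative.ofAdd (((k + k + i : ℕ) : ZMod (2 ^ 2)), ((l + l + j : ℕ) : ZMod (2 ^ 2))), ?_⟩
    apply Subtype.ext
    rw [hval]
    exact h2.symm
  exact ⟨(MulEquiv.ofBijective f ⟨hinj, hsurj⟩).symm⟩

theorem leaf3 (L : Loc A S T t r z) (Fu : Fus A S T t r z) (F : Four S T z v) (hc : ∀ s ∈ S, s * v = v * s)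
    (hst : SCyc S z v ∨ ∃ b ∈ S, (b * b ∈ V4 z v ∨ r * (b * b) ∈ V4 z v) ∧ SGen S t z v b)
    (n : X) (hnA : n ∈ A) (hnS : ∀ s ∈ S, n * s * n⁻¹ ∈ S) (u : X) (hu : u ∈ V4 z v) (hnu : n * u * n⁻¹ ≠ u) : False := by
  rcases hst with h | ⟨b, hb, hbb, hS⟩
  · exact l3_cyc L Fu F hc h n hnA hnS u hu hnu
  obtain ⟨d, hd⟩ := l3_gen_comm L F hc b hb hbb hS
  have hbot : ⁅S, S⁆ = ⊥ := by
    refine l3_key L Fu F hc n hnA hnS u hu hnu ⁅S, S⁆ (Subgroup.commutator_le_self S) ?_ (l3_comm_inv n hnS) ?_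
    · exact isCyclic_of_injective (Subgroup.inclusion hd) (Subgroup.inclusion_injective hd)
    · intro s hs
      exact l3_comm_inv s (fun s' hs' => S.mul_mem (S.mul_mem hs hs') (S.inv_mem hs))
  have hab : ∀ s ∈ S, ∀ s' ∈ S, s * s' = s' * s := by
    intro s hs s' hs'
    have h := Subgroup.commutator_mem_commutator hs hs'
    rw [hbot, Subgroup.mem_bot] at h
    exact commutatorElement_eq_one_iff_mul_comm.1 h
  have hβ : t * b * t ∈ S := l3_tS L b hb
  set a := t * b * t * b with ha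
  have haS : a ∈ S := S.mul_mem hβ hb
  have hta : t * a * t = a := by
    calc t * a * t = (t * t) * b * (t * b * t) := by rw [ha]; group
      _ = (t * b * t) * b := by rw [L.tt, one_mul, hab b hb _ hβ]
  have ha4 := l3_cs L a haS hta
  have hrzrz : r * z * (r * z) = z := by
    calc r * z * (r * z) = r * (z * r) * z := by group
      _ = r * (r * z) * z := by rw [← l3_zc L r L.rS]
      _ = (r * r) * (z * z) := by group
      _ = z := by rw [L.rz, L.zz, mul_one]
  have hzV : z ∈ V4 z v := Or.inr (Or.inl rfl)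
  have h1V : (1 : X) ∈ V4 z v := Or.inl rfl
  rcases hbb with hbb | hbb
  · -- case (i)
    have haa : a * a ∈ V4 z v := by
      rcases ha4 with h | h | h | h <;> rw [h]
      · rw [one_mul]; exact h1V
      · rw [L.rz]; exact hzV
      · rw [L.zz]; exact h1V
      · rw [hrzrz]; exact hzV
    have hsq : ∀ s ∈ S, s * s ∈ V4 z v := by
      have key : ∀ x ∈ S, ∀ w ∈ V4 z v, (x * w) * (x * w) = x * x := by
        intro x hx w hw
        calc (x * w) * (x * w) = x * (w * x) * w := by group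
          _ = x * (x * w) * w := by rw [l3_Vc L F hc w hw x hx]
          _ = x * x * (w * w) := by group
          _ = x * x := by rw [l3_Vsq L F w hw, mul_one]
      intro s hs
      obtain ⟨i, w, hw, h | h⟩ := hS s hs
      · rw [h, key _ (S.pow_mem haS i) w hw]
        have h1 : (t * b * t * b) ^ i * (t * b * t * b) ^ i = (a * a) ^ i := ((Commute.refl a).mul_pow i).symm
        rw [h1]
        exact l3_Vpow L F hc _ haa i
      · rw [h, key _ (S.mul_mem (S.pow_mem haS i) hb) w hw]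
        have h1 : (t * b * t * b) ^ i * b * ((t * b * t * b) ^ i * b) = (a * a) ^ i * (b * b) := by
          calc a ^ i * b * (a ^ i * b) = a ^ i * (b * a ^ i) * b := by group
            _ = a ^ i * (a ^ i * b) * b := by rw [hab b hb _ (S.pow_mem haS i)]
            _ = (a ^ i * a ^ i) * (b * b) := by group
            _ = (a * a) ^ i * (b * b) := by rw [(Commute.refl a).mul_pow i]
        rw [h1]
        exact l3_Vmul L F hc _ (l3_Vpow L F hc _ haa i) _ hbb
    have hr1S := hnS r L.rS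
    set r1 := n * r * n⁻¹ with hr1
    have hr1z : r1 * r1 = n * z * n⁻¹ := by
      rw [hr1]
      calc n * r * n⁻¹ * (n * r * n⁻¹) = n * (r * r) * n⁻¹ := by group
        _ = _ := by rw [L.rz]
    have hb' : ∃ b' ∈ S, b' * b' = v := by
      rcases l3_nV L F hc n hnS z hzV with h | h | h | h
      · exfalso
        apply L.z1
        simpa using h
      · exact absurd h (l3_move L Fu F hc n hnA hnS u hu hnu z hzV L.z1)
      · exact ⟨r1, hr1S, by rw [hr1z, h]⟩
      · refine ⟨r1 * r, S.mul_mem hr1S L.rS, ?_⟩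
        calc r1 * r * (r1 * r) = r1 * (r * r1) * r := by group
          _ = r1 * (r1 * r) * r := by rw [hab r L.rS r1 hr1S]
          _ = (r1 * r1) * (r * r) := by group
          _ = v * z * z := by rw [hr1z, h, L.rz]
          _ = v := by rw [mul_assoc, L.zz, mul_one]
    obtain ⟨b', hb'S, hb'v⟩ := hb'
    exact Fu.z44 (l3_z44 hab L.rS hb'S L.rz hb'v L.z1 L.zz F.vv F.v1 F.vz hsq
      (fun s hs h => l3_om L F hc s hs h (fun s' hs' => hab s' hs' s hs)))
  · -- case (ii)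
    refine l3_cyc L Fu F hc ?_ n hnA hnS u hu hnu
    set w0 := r * (b * b) with hw0
    have hr : r = b ^ 2 * (w0 * z) := by
      calc r = r⁻¹ * 1 * (r * r) := by group
        _ = r⁻¹ * (w0 * w0) * (r * r) := by rw [l3_Vsq L F w0 hbb]
        _ = (r⁻¹ * w0) * (w0 * (r * r)) := by group
        _ = (b ^ 2) * (w0 * z) := by rw [L.rz, hw0, pow_two]; group
    have hw0z : w0 * z ∈ V4 z v := l3_Vmul L F hc _ hbb _ hzV
    have hak : ∃ k : ℕ, ∃ w2 ∈ V4 z v, a = b ^ k * w2 := by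
      rcases ha4 with h | h | h | h
      · exact ⟨0, 1, h1V, by rw [h]; simp⟩
      · exact ⟨2, w0 * z, hw0z, by rw [h]; exact hr⟩
      · exact ⟨0, z, hzV, by rw [h]; simp⟩
      · refine ⟨2, w0 * z * z, l3_Vmul L F hc _ hw0z _ hzV, ?_⟩
        rw [h, ← mul_assoc (b ^ 2), ← hr]
    obtain ⟨k, w2, hw2, hak⟩ := hak
    have hapow : ∀ i : ℕ, a ^ i = b ^ (k * i) * w2 ^ i := by
      intro i
      have hcm : Commute (b ^ k) w2 := hab _ (S.pow_mem hb k) _ (l3_VS L F w2 hw2)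
      rw [hak, hcm.mul_pow, pow_mul]
    refine ⟨b, hb, fun s hs => ?_⟩
    obtain ⟨i, w, hw, h | h⟩ := hS s hs
    · refine ⟨k * i, w2 ^ i * w, l3_Vmul L F hc _ (l3_Vpow L F hc _ hw2 i) _ hw, ?_⟩
      rw [h, ← mul_assoc, ← hapow]
    · refine ⟨k * i + 1, w2 ^ i * w, l3_Vmul L F hc _ (l3_Vpow L F hc _ hw2 i) _ hw, ?_⟩
      rw [h]
      calc a ^ i * b * w = b ^ (k * i) * (w2 ^ i * b) * w := by rw [hapow]; group
        _ = b ^ (k * i) * (b * w2 ^ i) * w := by
          rw [hab _ (l3_VS L F _ (l3_Vpow L F hc _ hw2 i)) b hb]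
        _ = b ^ (k * i + 1) * (w2 ^ i * w) := by rw [pow_succ]; group

end

end Cfsg.Agent.Lib.H17A
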