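import Cfsg.Agent.Lib.H17A0
import Mathlib

set_option autoImplicit false

namespace Cfsg.Agent.Lib.H17A

section
variable {X : Type*} [Group X] [Finite X] {A S T : Subgroup X} {t r z v : X}

theorem leaf4 (L : Loc A S T t r z) (Fu : Fus A S T t r z) (F : Four S T z v) (hnc : ¬ ∀ s ∈ S, s * v = v * s)
    (hs : ∀ s ∈ S, s ∈ V4 z v ∨ r * s ∈ V4 z v) : False := by
  have hST : ∀ x ∈ S, x ∈ T := fun x hx => ((L.ST x).1 hx).1
  have hSA : ∀ x ∈ S, x ∈ A := fun x hx => ((L.ST x).1 hx).2
  have rT := hST r L.rS
  have zS : z ∈ S := by rw [← L.rz]; exact S.mul_mem L.rS L.rS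
  have rz : r * r = z := L.rz
  have zz : z * z = 1 := L.zz
  have vv : v * v = 1 := F.vv
  have tt : t * t = 1 := L.tt
  have zi : z⁻¹ = z := inv_eq_of_mul_eq_one_left zz
  have vi : v⁻¹ = v := inv_eq_of_mul_eq_one_left vv
  have ti : t⁻¹ = t := inv_eq_of_mul_eq_one_left tt
  have r4 : r * r * (r * r) = 1 := by rw [rz, zz]
  have ri : r⁻¹ = z * r := by
    rw [inv_eq_iff_mul_eq_one, ← rz]
    calc r * (r * r * r) = r * r * (r * r) := by group
      _ = 1 := r4
  have rzc : r * z = z * r := by rw [← rz]; group
  have tzc : t * z = z * t := by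
    rw [← rz, ← mul_assoc, L.tr, mul_assoc, L.tr, ← mul_assoc]
  -- `r v = v z r`
  have hrv0 := F.hv r rT
  have zvc : z * v = v * z := by
    rcases hrv0 with h | h
    · have h1 : r * v = v * r := by
        calc r * v = (r * v * r⁻¹) * r := by group
          _ = v * r := by rw [h]
      rw [← rz, mul_assoc, h1, ← mul_assoc, h1, mul_assoc]
    · have h1 : r * v = v * z * r := by
        calc r * v = (r * v * r⁻¹) * r := by group
          _ = v * z * r := by rw [h]
      calc z * v = r * (r * v) := by rw [← rz, mul_assoc]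
        _ = r * (v * z * r) := by rw [h1]
        _ = (r * v) * z * r := by group
        _ = (v * z * r) * z * r := by rw [h1]
        _ = v * z * (r * z) * r := by group
        _ = v * z * (z * r) * r := by rw [rzc]
        _ = v * (z * z) * (r * r) := by group
        _ = v * z := by rw [zz, rz, mul_one]
  have hVc : ∀ w ∈ V4 z v, w * v = v * w := by
    rintro w (rfl | rfl | rfl | rfl)
    · rw [one_mul, mul_one]
    · exact zvc
    · rfl
    · rw [mul_assoc, zvc]
  have hrv : r * v = v * z * r := by
    rcases hrv0 with h | h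
    · exfalso
      have h1 : r * v = v * r := by
        calc r * v = (r * v * r⁻¹) * r := by group
          _ = v * r := by rw [h]
      apply hnc
      intro s hsS
      rcases hs s hsS with h2 | h2
      · exact hVc s h2
      · have h3 := hVc _ h2
        have h4 : s = r⁻¹ * (r * s) := by group
        have h5 : r⁻¹ * v = v * r⁻¹ := by
          rw [ri, mul_assoc, h1, ← mul_assoc, zvc, mul_assoc]
        rw [h4, mul_assoc, h3, ← mul_assoc, h5, mul_assoc]
    · calc r * v = (r * v * r⁻¹) * r := by group
        _ = v * z * r := by rw [h]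
  have htv : t * v = v * z * t := by
    rcases F.hv t L.tT with h | h
    · exfalso
      have h1 : t * v = v * t := by
        calc t * v = (t * v * t⁻¹) * t := by group
          _ = v * t := by rw [h]
      rcases L.cS v F.vS h1 with h2 | h2 | h2 | h2
      · exact F.v1 h2
      · apply L.z1; rw [← rz, ← h2, vv]
      · exact F.vz h2
      · apply L.z1
        have : v * v = z := by
          rw [h2]
          calc r * z * (r * z) = r * (z * r) * z := by group
            _ = r * (r * z) * z := by rw [rzc]
            _ = (r * r) * (z * z) := by group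
            _ = z := by rw [rz, zz, mul_one]
        rw [← this, vv]
    · calc t * v = (t * v * t⁻¹) * t := by group
        _ = v * z * t := by rw [h]
  -- squares in `S`
  have sqV : ∀ w ∈ V4 z v, w * w = 1 := by
    rintro w (rfl | rfl | rfl | rfl)
    · exact one_mul 1
    · exact zz
    · exact vv
    · calc v * z * (v * z) = v * (z * v) * z := by group
        _ = v * (v * z) * z := by rw [zvc]
        _ = (v * v) * (z * z) := by group
        _ = 1 := by rw [vv, zz, one_mul]
  have hzw : ∀ w ∈ V4 z v, z * w = w * z := by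
    rintro w (rfl | rfl | rfl | rfl)
    · rw [one_mul, mul_one]
    · rfl
    · exact zvc
    · rw [← mul_assoc, zvc]
  have hrw : ∀ w ∈ V4 z v, r * w = w * r ∨ r * w = w * z * r := by
    rintro w (rfl | rfl | rfl | rfl)
    · left; rw [one_mul, mul_one]
    · left; exact rzc
    · right; exact hrv
    · right
      calc r * (v * z) = (r * v) * z := by group
        _ = v * z * (r * z) := by rw [hrv]; group
        _ = v * z * z * r := by rw [rzc]; group
  have sqS : ∀ s ∈ S, s * s = 1 ∨ s * s = z := by
    intro s hsS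
    rcases hs s hsS with h | h
    · left; exact sqV s h
    · have h4 : s = r⁻¹ * (r * s) := by group
      obtain ⟨w, hw⟩ : ∃ w, w = r * s := ⟨_, rfl⟩
      rw [← hw] at h h4
      have h5 : s = z * r * w := by rw [h4, ri]
      have h6 : s * s = (r * w) * (r * w) := by
        rw [h5]
        calc z * r * w * (z * r * w) = z * r * (w * z) * (r * w) := by group
          _ = z * r * (z * w) * (r * w) := by rw [hzw w h]
          _ = z * (r * z) * w * (r * w) := by group
          _ = (z * z) * (r * w) * (r * w) := by rw [rzc]; group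
          _ = (r * w) * (r * w) := by rw [zz, one_mul]
      rw [h6]
      rcases hrw w h with h7 | h7
      · right
        calc r * w * (r * w) = r * (w * r) * w := by group
          _ = r * (r * w) * w := by rw [h7]
          _ = (r * r) * (w * w) := by group
          _ = z := by rw [rz, sqV w h, mul_one]
      · left
        calc r * w * (r * w) = (w * z * r) * (r * w) := by rw [h7]
          _ = w * z * (r * r) * w := by group
          _ = w * (z * z) * w := by rw [rz]; group
          _ = 1 := by rw [zz, mul_one, sqV w h]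
  -- the central element `u`
  obtain ⟨u, hu⟩ : ∃ u, u = t * r⁻¹ := ⟨_, rfl⟩
  have uT : u ∈ T := by rw [hu]; exact T.mul_mem L.tT (T.inv_mem rT)
  have htri : t * r⁻¹ = r⁻¹ * t := by
    calc t * r⁻¹ = r⁻¹ * (r * t) * r⁻¹ := by group
      _ = r⁻¹ * (t * r) * r⁻¹ := by rw [L.tr]
      _ = r⁻¹ * t := by group
  have uu : u * u = z := by
    calc u * u = t * (r⁻¹ * t) * r⁻¹ := by rw [hu]; group
      _ = t * (t * r⁻¹) * r⁻¹ := by rw [htri]
      _ = (t * t) * (r * r)⁻¹ := by group
      _ = z := by rw [tt, rz, one_mul, zi]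
  have ur : u * r = r * u := by
    rw [hu]
    calc t * r⁻¹ * r = r * r⁻¹ * t := by group
      _ = r * (r⁻¹ * t) := by group
      _ = r * (t * r⁻¹) := by rw [htri]
  have uz : u * z = z * u := by
    rw [← rz, ← mul_assoc, ur, mul_assoc, ur, ← mul_assoc]
  have uv : u * v = v * u := by
    have h1 : r⁻¹ * v = v * z * r⁻¹ := by
      have h2 : v * r = r * (v * z) := by
        calc v * r = (v * r) * (z * z) := by rw [zz, mul_one]
          _ = v * (r * z) * z := by group
          _ = v * (z * r) * z := by rw [rzc]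
          _ = (v * z * r) * z := by group
          _ = r * v * z := by rw [hrv]
          _ = r * (v * z) := by group
      calc r⁻¹ * v = r⁻¹ * (v * r) * r⁻¹ := by group
        _ = r⁻¹ * (r * (v * z)) * r⁻¹ := by rw [h2]
        _ = v * z * r⁻¹ := by group
    rw [hu]
    calc t * r⁻¹ * v = t * (r⁻¹ * v) := by group
      _ = (t * v) * z * r⁻¹ := by rw [h1]; group
      _ = v * z * (t * z) * r⁻¹ := by rw [htv]; group
      _ = v * (z * z) * (t * r⁻¹) := by rw [tzc]; group
      _ = v * (t * r⁻¹) := by rw [zz, mul_one]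
  have uV : ∀ w ∈ V4 z v, u * w = w * u := by
    rintro w (rfl | rfl | rfl | rfl)
    · rw [one_mul, mul_one]
    · exact uz
    · exact uv
    · rw [← mul_assoc, uv, mul_assoc, uz, ← mul_assoc]
  have uS : ∀ s ∈ S, u * s = s * u := by
    intro s hsS
    rcases hs s hsS with h | h
    · exact uV s h
    · have h4 : s = r⁻¹ * (r * s) := by group
      have h5 : u * r⁻¹ = r⁻¹ * u := by
        calc u * r⁻¹ = r⁻¹ * (r * u) * r⁻¹ := by group
          _ = r⁻¹ * (u * r) * r⁻¹ := by rw [ur]
          _ = r⁻¹ * u := by group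
      rw [h4, ← mul_assoc, h5, mul_assoc, uV _ h, ← mul_assoc]
  have sqT : ∀ x ∈ T, x * x = 1 ∨ x * x = z := by
    intro x hx
    by_cases hxA : x ∈ A
    · exact sqS x ((L.ST x).2 ⟨hx, hxA⟩)
    · have h1 : t * x ∈ S := (L.ST _).2 ⟨T.mul_mem L.tT hx, L.ix x hxA⟩
      have h2 : r * (t * x) ∈ S := S.mul_mem L.rS h1
      have h3 : x = u * (r * (t * x)) := by
        rw [hu]
        calc x = (t * t) * x := by rw [tt, one_mul]
          _ = t * r⁻¹ * (r * (t * x)) := by group
      obtain ⟨s, hs'⟩ : ∃ s, s = r * (t * x) := ⟨_, rfl⟩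
      rw [← hs'] at h2 h3
      have h4 : x * x = z * (s * s) := by
        rw [h3]
        calc u * s * (u * s) = u * (s * u) * s := by group
          _ = u * (u * s) * s := by rw [uS s h2]
          _ = (u * u) * (s * s) := by group
          _ = z * (s * s) := by rw [uu]
      rcases sqS s h2 with h5 | h5
      · right; rw [h4, h5, mul_one]
      · left; rw [h4, h5, zz]
  -- transfer
  have hM : Subgroup.zpowers r ≤ S := by
    rw [Subgroup.zpowers_le]; exact L.rS
  have memM : ∀ x ∈ Subgroup.zpowers r, x = 1 ∨ x = r ∨ x = z ∨ x = r * z := by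
    intro x hx
    have hr4 : r ^ 4 = 1 := by
      calc r ^ 4 = r * r * (r * r) := by simp only [pow_succ, pow_zero, one_mul, mul_assoc]
        _ = 1 := r4
    obtain ⟨k, rfl⟩ := Subgroup.mem_zpowers_iff.1 hx
    have h1 : r ^ k = r ^ (k % 4) := by
      conv_lhs => rw [← Int.emod_add_mul_ediv k 4, zpow_add, zpow_mul]
      have : r ^ (4 : ℤ) = 1 := by exact_mod_cast hr4
      rw [this, one_zpow, mul_one]
    rw [h1]
    have h2 : k % 4 = 0 ∨ k % 4 = 1 ∨ k % 4 = 2 ∨ k % 4 = 3 := by omega
    rcases h2 with h2 | h2 | h2 | h2 <;> rw [h2]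
    · left; exact zpow_zero r
    · right; left; exact zpow_one r
    · right; right; left
      rw [show (2 : ℤ) = ((2 : ℕ) : ℤ) by norm_num, zpow_natCast, pow_two, rz]
    · right; right; right
      rw [show (3 : ℤ) = ((3 : ℕ) : ℤ) by norm_num, zpow_natCast, ← rz]
      simp only [pow_succ, pow_zero, one_mul, mul_assoc]
  have hidx : (Subgroup.zpowers r).relIndex S = 2 := by
    have hzM : z ∈ Subgroup.zpowers r := by rw [← rz]; exact Subgroup.mul_mem _ (Subgroup.mem_zpowers r) (Subgroup.mem_zpowers r)
    have hvM : v ∉ Subgroup.zpowers r := by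
      intro h
      rcases memM v h with h2 | h2 | h2 | h2
      · exact F.v1 h2
      · apply L.z1; rw [← rz, ← h2, vv]
      · exact F.vz h2
      · have h3 : t * v = v * t := by rw [h2, ← mul_assoc, L.tr, mul_assoc, tzc, ← mul_assoc]
        rw [htv] at h3
        apply L.z1
        have h4 := mul_right_cancel h3
        calc z = v⁻¹ * (v * z) := by group
          _ = v⁻¹ * v := by rw [h4]
          _ = 1 := by group
    have riM : r⁻¹ ∈ Subgroup.zpowers r := Subgroup.inv_mem _ (Subgroup.mem_zpowers r)
    have hall : ∀ s ∈ S, s ∈ Subgroup.zpowers r ∨ s * v ∈ Subgroup.zpowers r := by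
      intro s hsS
      rcases hs s hsS with h | h
      · rcases h with rfl | rfl | rfl | rfl
        · left; exact Subgroup.one_mem _
        · left; exact hzM
        · right; rw [vv]; exact Subgroup.one_mem _
        · right
          have : v * z * v = z := by rw [mul_assoc, zvc, ← mul_assoc, vv, one_mul]
          rw [this]; exact hzM
      · have h4 : s = r⁻¹ * (r * s) := by group
        rcases h with h | h | h | h
        · left; rw [h4, h, mul_one]; exact riM
        · left; rw [h4, h]; exact Subgroup.mul_mem _ riM hzM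
        · right
          rw [h4, h, mul_assoc, vv, mul_one]; exact riM
        · right
          rw [h4, h]
          have : r⁻¹ * (v * z) * v = r⁻¹ * z := by rw [mul_assoc, mul_assoc, zvc, ← mul_assoc v v z, vv, one_mul]
          rw [this]; exact Subgroup.mul_mem _ riM hzM
    rw [Subgroup.relIndex, Subgroup.index_eq_two_iff]
    refine ⟨⟨v, F.vS⟩, ?_⟩
    rintro ⟨s, hsS⟩
    have e1 : ((⟨s, hsS⟩ : S) * ⟨v, F.vS⟩ ∈ (Subgroup.zpowers r).subgroupOf S) ↔ s * v ∈ Subgroup.zpowers r := Iff.rfl
    have e2 : ((⟨s, hsS⟩ : S) ∈ (Subgroup.zpowers r).subgroupOf S) ↔ s ∈ Subgroup.zpowers r := Iff.rfl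
    rw [e1, e2]
    have hnot : ¬ (s * v ∈ Subgroup.zpowers r ∧ s ∈ Subgroup.zpowers r) := by
      rintro ⟨h1, h2⟩
      apply hvM
      have : v = s⁻¹ * (s * v) := by group
      rw [this]
      exact Subgroup.mul_mem _ (Subgroup.inv_mem _ h2) h1
    rcases hall s hsS with h | h
    · exact Or.inr ⟨h, fun h' => hnot ⟨h', h⟩⟩
    · exact Or.inl ⟨h, fun h' => hnot ⟨h, h'⟩⟩
  have hvM : v ∉ Subgroup.zpowers r := by
    intro h
    rcases memM v h with h2 | h2 | h2 | h2
    · exact F.v1 h2
    · apply L.z1; rw [← rz, ← h2, vv]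
    · exact F.vz h2
    · have h3 : t * v = v * t := by rw [h2, ← mul_assoc, L.tr, mul_assoc, tzc, ← mul_assoc]
      rw [htv] at h3
      apply L.z1
      have h4 := mul_right_cancel h3
      calc z = v⁻¹ * (v * z) := by group
        _ = v⁻¹ * v := by rw [h4]
        _ = 1 := by group
  obtain ⟨a, haA, ha⟩ := Fu.tt2 _ hM hidx v F.vS (by simp only [pow_succ, pow_zero, one_mul, vv]) hvM
    (by
      intro a haA _
      rw [vv, mul_one, mul_inv_cancel]
      exact Subgroup.one_mem _)
  have hav : a * v * a⁻¹ = z := by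
    have h1 : a * v * a⁻¹ * (a * v * a⁻¹) = 1 := by
      calc a * v * a⁻¹ * (a * v * a⁻¹) = a * (v * v) * a⁻¹ := by group
        _ = 1 := by rw [vv, mul_one, mul_inv_cancel]
    rcases memM _ ha with h2 | h2 | h2 | h2
    · exfalso
      apply F.v1
      calc v = a⁻¹ * (a * v * a⁻¹) * a := by group
        _ = 1 := by rw [h2]; group
    · exfalso
      rw [h2, rz] at h1
      exact L.z1 h1
    · exact h2
    · exfalso
      rw [h2] at h1
      apply L.z1
      rw [← h1]
      calc z = (r * r) * (z * z) := by rw [rz, zz, mul_one]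
        _ = r * (r * z) * z := by group
        _ = r * (z * r) * z := by rw [rzc]
        _ = r * z * (r * z) := by group
  obtain ⟨g, hgv, hgT⟩ := Fu.ext v F.vS a haA hav
  have hgu := hgT u uT uv
  have hz2 : g * z * g⁻¹ ≠ 1 := by
    intro h
    apply L.z1
    calc z = g⁻¹ * (g * z * g⁻¹) * g := by group
      _ = 1 := by rw [h]; group
  have hz3 : g * z * g⁻¹ ≠ z := by
    intro h
    apply F.vz
    have : g * v * g⁻¹ = g * z * g⁻¹ := by rw [hgv, h]
    exact mul_left_cancel (mul_right_cancel this)
  have hsq : g * u * g⁻¹ * (g * u * g⁻¹) = g * z * g⁻¹ := by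
    rw [← uu]; group
  rcases sqT _ hgu with h | h
  · rw [hsq] at h; exact hz2 h
  · rw [hsq] at h; exact hz3 h

end

end Cfsg.Agent.Lib.H17A
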