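import Cfsg.Agent.Lib.H17A0
import Cfsg.Agent.Lib.H17A1
import Cfsg.Prelude.Def_CaseTheorems
import Cfsg.Prelude.Def_Local

set_option autoImplicit false

namespace Cfsg.Agent.Lib.H17A

open Cfsg

universe u

section
variable {X : Type u} [Group X] [Finite X] {A S T : Subgroup X} {t r z v : X}


/-- the four-group as a subgroup -/
def l5_V (z v : X) (hz : z * z = 1) (hv : v * v = 1) (hzv : z * v = v * z) : Subgroup X where
  carrier := V4 z v
  one_mem' := Or.inl rfl
  mul_mem' := by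
    have h1 : z * (v * z) = v := by rw [← mul_assoc, hzv, mul_assoc, hz, mul_one]
    have h2 : v * z * z = v := by rw [mul_assoc, hz, mul_one]
    have h3 : v * z * v = z := by rw [mul_assoc, hzv, ← mul_assoc, hv, one_mul]
    have h4 : v * (v * z) = z := by rw [← mul_assoc, hv, one_mul]
    have h6 : v * z * (v * z) = 1 := by rw [← mul_assoc, h3, hz]
    rintro x y (rfl | rfl | rfl | rfl) (rfl | rfl | rfl | rfl)
    · left; rw [one_mul]
    · right; left; rw [one_mul]
    · right; right; left; rw [one_mul]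
    · right; right; right; show _ = _; rw [one_mul]
    · right; left; rw [mul_one]
    · left; exact hz
    · right; right; right; exact hzv
    · right; right; left; exact h1
    · right; right; left; rw [mul_one]
    · right; right; right; rfl
    · left; exact hv
    · right; left; exact h4
    · right; right; right; show _ = _; rw [mul_one]
    · right; right; left; exact h2
    · right; left; exact h3
    · left; exact h6
  inv_mem' := by
    have h3 : v * z * v = z := by rw [mul_assoc, hzv, ← mul_assoc, hv, one_mul]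
    have h6 : v * z * (v * z) = 1 := by rw [← mul_assoc, h3, hz]
    rintro x (rfl | rfl | rfl | rfl)
    · left; exact inv_one
    · right; left; exact inv_eq_of_mul_eq_one_left hz
    · right; right; left; exact inv_eq_of_mul_eq_one_left hv
    · right; right; right; exact inv_eq_of_mul_eq_one_left h6

theorem l5_mem {z v : X} {hz : z * z = 1} {hv : v * v = 1} {hzv : z * v = v * z} {x : X} :
    x ∈ l5_V z v hz hv hzv ↔ x ∈ V4 z v := Iff.rfl

/-- cyclic extension: unique involution modulo a subgroup -/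
theorem l5_cyc (V : Subgroup X) (c : X) (i j : ℤ) (hi : c ^ (2 * i) ∈ V) (hj : c ^ (2 * j) ∈ V) (hj' : c ^ j ∉ V) :
    c ^ i ∈ V ∨ c ^ (i - j) ∈ V := by
  obtain ⟨I, hI⟩ : ∃ I : AddSubgroup ℤ, ∀ k, k ∈ I ↔ c ^ k ∈ V :=
    ⟨{ carrier := {k | c ^ k ∈ V}
       add_mem' := fun {a b} ha hb => by
        show c ^ (a + b) ∈ V
        rw [zpow_add]; exact V.mul_mem ha hb
       zero_mem' := by show c ^ (0 : ℤ) ∈ V; rw [zpow_zero]; exact V.one_mem
       neg_mem' := fun {a} ha => by
        show c ^ (-a) ∈ V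
        rw [zpow_neg]; exact V.inv_mem ha }, fun k => Iff.rfl⟩
  obtain ⟨n, hn⟩ := Int.subgroup_cyclic I
  have hd : ∀ k, c ^ k ∈ V ↔ n ∣ k := fun k => by
    rw [← hI, hn, AddSubgroup.mem_closure_singleton]
    constructor
    · rintro ⟨m, rfl⟩
      exact ⟨m, by rw [smul_eq_mul, mul_comm]⟩
    · rintro ⟨m, rfl⟩
      exact ⟨m, by rw [smul_eq_mul, mul_comm]⟩
  rw [hd] at hi hj hj'
  rw [hd, hd]
  obtain ⟨a, ha⟩ := hi
  obtain ⟨b, hb⟩ := hj
  rcases Int.even_or_odd a with ⟨a', ha'⟩ | ⟨a', ha'⟩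
  · left
    exact ⟨a', by rw [ha', mul_add] at ha; omega⟩
  · rcases Int.even_or_odd b with ⟨b', hb'⟩ | ⟨b', hb'⟩
    · exact absurd ⟨b', by rw [hb', mul_add] at hb; omega⟩ hj'
    · right
      refine ⟨a' - b', ?_⟩
      rw [ha', mul_add, mul_left_comm] at ha
      rw [hb', mul_add, mul_left_comm] at hb
      rw [mul_sub]
      omega

/-- generation case in the quotient -/
theorem l5_gen {Q : Type*} [Group Q] (τ β ρ : Q) (hτ : τ * τ = 1) (hρ : ρ * ρ = 1) (hρτ : τ * ρ = ρ * τ)
    (hb : ρ * (β * β) = 1) (hρ1 : ρ ≠ 1) (σ : Q) (i : ℕ)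
    (hσ : σ = (τ * β * τ * β) ^ i ∨ σ = (τ * β * τ * β) ^ i * β) (hss : σ * σ = 1) :
    τ * σ * τ * σ⁻¹ = 1 := by
  have hbb : β * β = ρ := by
    have h1 : ρ * (β * β) = ρ * ρ := by rw [hb, hρ]
    exact mul_left_cancel h1
  have hτi : τ⁻¹ = τ := inv_eq_of_mul_eq_one_left hτ
  have hinv : (β * τ * β * τ) * (τ * β * τ * β) = 1 := by
    calc (β * τ * β * τ) * (τ * β * τ * β) = β * τ * β * (τ * τ) * β * τ * β := by group
      _ = β * τ * (β * β) * τ * β := by rw [hτ]; group
      _ = β * (τ * ρ) * τ * β := by rw [hbb]; group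
      _ = β * ρ * (τ * τ) * β := by rw [hρτ]; group
      _ = β * (β * β) * β := by rw [hτ, hbb]; group
      _ = (β * β) * (β * β) := by group
      _ = 1 := by rw [hbb, hρ]
  have hai : (τ * β * τ * β)⁻¹ = β * τ * β * τ := inv_eq_of_mul_eq_one_left hinv
  have h1 : τ * (τ * β * τ * β) * τ⁻¹ = (τ * β * τ * β)⁻¹ := by
    rw [hai]
    calc τ * (τ * β * τ * β) * τ⁻¹ = (τ * τ) * β * τ * β * τ⁻¹ := by group
      _ = β * τ * β * τ := by rw [hτ, one_mul, hτi]
  have h2 : β * (τ * β * τ * β) * β⁻¹ = (τ * β * τ * β)⁻¹ := by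
    rw [hai]; group
  have h1' : τ * (τ * β * τ * β) ^ i * τ⁻¹ = ((τ * β * τ * β) ^ i)⁻¹ := by
    rw [← conj_pow, h1, inv_pow]
  have h2' : β * (τ * β * τ * β) ^ i * β⁻¹ = ((τ * β * τ * β) ^ i)⁻¹ := by
    rw [← conj_pow, h2, inv_pow]
  generalize (τ * β * τ * β) ^ i = γ at *
  rcases hσ with rfl | rfl
  · rw [hτi] at h1'
    rw [h1', ← mul_inv_rev, hss, inv_one]
  · exfalso
    apply hρ1
    rw [← hbb, ← hss]
    have h3 : β * γ = γ⁻¹ * β := by rw [← h2']; group
    calc β * β = γ * (γ⁻¹ * β) * β := by group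
      _ = γ * (β * γ) * β := by rw [h3]
      _ = γ * β * (γ * β) := by group

-- L5
theorem leaf5 (L : Loc A S T t r z) (Fu : Fus A S T t r z) (F : Four S T z v) (hnc : ¬ ∀ s ∈ S, s * v = v * s)
    (hst : SCyc S z v ∨ ∃ b ∈ S, r * (b * b) ∈ V4 z v ∧ SGen S t z v b)
    (hbig : ∃ s ∈ S, s ∉ V4 z v ∧ r * s ∉ V4 z v) : False := by
  have hST : S ≤ T := fun x hx => ((L.ST x).1 hx).1
  have hSA : S ≤ A := fun x hx => ((L.ST x).1 hx).2
  have hzS : z ∈ S := L.rz ▸ S.mul_mem L.rS L.rS
  have hzc := zT L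
  have hzv : z * v = v * z := (hzc v (hST F.vS)).symm
  obtain ⟨V, hV⟩ : ∃ V : Subgroup X, ∀ x, x ∈ V ↔ x ∈ V4 z v := ⟨l5_V z v L.zz F.vv hzv, fun x => Iff.rfl⟩
  have hzV : z ∈ V := (hV z).2 (Or.inr (Or.inl rfl))
  have hvV : v ∈ V := (hV v).2 (Or.inr (Or.inr (Or.inl rfl)))
  have hVS : V ≤ S := by
    intro x hx
    rcases (hV x).1 hx with rfl | rfl | rfl | rfl
    · exact S.one_mem
    · exact hzS
    · exact F.vS
    · exact S.mul_mem F.vS hzS
  have hVsq : ∀ x ∈ V, x * x = 1 := by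
    intro x hx
    rcases (hV x).1 hx with rfl | rfl | rfl | rfl
    · exact one_mul 1
    · exact L.zz
    · exact F.vv
    · rw [mul_assoc, ← mul_assoc z, hzv, mul_assoc, L.zz, mul_one, F.vv]
  have hVn : ∀ x ∈ T, ∀ w ∈ V, x * w * x⁻¹ ∈ V := by
    intro x hx w hw
    have h1 : x * z * x⁻¹ = z := by rw [hzc x hx, mul_inv_cancel_right]
    have h2 : x * v * x⁻¹ ∈ V := by
      rcases F.hv x hx with h | h
      · rw [h]; exact hvV
      · rw [h]; exact V.mul_mem hvV hzV
    rcases (hV w).1 hw with rfl | rfl | rfl | rfl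
    · rw [mul_one, mul_inv_cancel]; exact V.one_mem
    · rw [h1]; exact hzV
    · exact h2
    · rw [show x * (v * z) * x⁻¹ = (x * v * x⁻¹) * (x * z * x⁻¹) by group, h1]
      exact V.mul_mem h2 hzV
  have hrV : r ∉ V := by
    intro h
    have := hVsq r h
    rw [L.rz] at this
    exact L.z1 this
  have hrr : r * r ∈ V := by rw [L.rz]; exact hzV
  -- (1)
  have h1 : ∀ s ∈ S, s * s ∈ V → s ∈ V ∨ r * s ∈ V := by
    rcases hst with ⟨c, hc, hcyc⟩ | ⟨b, hb, hbb, hgen⟩
    · intro s hs hss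
      obtain ⟨i, w, hw, hsi⟩ := hcyc s hs
      obtain ⟨j, w', hw', hrj⟩ := hcyc r L.rS
      rw [← hV] at hw hw'
      have hcT := hST hc
      have key : ∀ (k : ℕ) (x y : X), y ∈ V → x = c ^ k * y → x * x ∈ V → c ^ (2 * (k : ℤ)) ∈ V := by
        intro k x y hy hx hxx
        have h2 : c ^ (2 * (k : ℤ)) = (x * x) * (y⁻¹ * ((c ^ k)⁻¹ * y⁻¹ * (c ^ k)⁻¹⁻¹)) := by
          rw [hx, mul_comm 2 (k : ℤ), zpow_mul, zpow_natCast]
          group
        rw [h2]
        exact V.mul_mem hxx (V.mul_mem (V.inv_mem hy) (hVn _ (T.inv_mem (T.pow_mem hcT k)) _ (V.inv_mem hy)))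
      have hi := key i s w hw hsi hss
      have hj := key j r w' hw' hrj hrr
      have hj' : c ^ (j : ℤ) ∉ V := by
        intro h
        rw [zpow_natCast] at h
        exact hrV (by rw [hrj]; exact V.mul_mem h hw')
      rcases l5_cyc V c i j hi hj hj' with h | h
      · left
        rw [zpow_natCast] at h
        rw [hsi]; exact V.mul_mem h hw
      · right
        have h2 : r * s = (r * c ^ ((i : ℤ) - j) * r⁻¹) * (r * r) * w'⁻¹ * w := by
          rw [hsi, zpow_sub, zpow_natCast, zpow_natCast]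
          have h4 : c ^ j = r * w'⁻¹ := by rw [hrj]; group
          rw [h4]
          group
        rw [h2]
        exact V.mul_mem (V.mul_mem (V.mul_mem (hVn r (hST L.rS) _ h) hrr) (V.inv_mem hw')) hw
    · intro s hs hss
      have hVT : V ≤ T := hVS.trans hST
      have hN : (V.subgroupOf T).Normal := by
        refine ⟨fun w hw g => ?_⟩
        rw [Subgroup.mem_subgroupOf] at hw ⊢
        exact hVn g g.2 _ hw
      obtain ⟨Q, iQ, f, hf⟩ : ∃ (Q : Type u) (_ : Group Q) (f : T →* Q), ∀ x : T, f x = 1 ↔ (x : X) ∈ V :=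
        ⟨T ⧸ (V.subgroupOf T), inferInstance, QuotientGroup.mk' (V.subgroupOf T), fun x => by
          rw [QuotientGroup.mk'_apply, QuotientGroup.eq_one_iff, Subgroup.mem_subgroupOf]⟩
      have htT := L.tT
      have hbT := hST hb
      have hrT := hST L.rS
      have hsT := hST hs
      obtain ⟨i, w, hw, hsi⟩ := hgen s hs
      rw [← hV] at hw hbb
      have hfw : f ⟨w, hVT hw⟩ = 1 := (hf _).2 hw
      have hres := l5_gen (f ⟨t, htT⟩) (f ⟨b, hbT⟩) (f ⟨r, hrT⟩)
        (by rw [← map_mul, hf]; show t * t ∈ V; rw [L.tt]; exact V.one_mem)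
        (by rw [← map_mul, hf]; exact hrr)
        (by rw [← map_mul, ← map_mul]; exact congrArg f (Subtype.ext L.tr))
        (by rw [← map_mul, ← map_mul, hf]; exact hbb)
        (by rw [Ne, hf]; exact hrV)
        (f ⟨s, hsT⟩) i
        (by
          rcases hsi with hsi | hsi
          · left
            have : (⟨s, hsT⟩ : T) = (⟨t, htT⟩ * ⟨b, hbT⟩ * ⟨t, htT⟩ * ⟨b, hbT⟩) ^ i * ⟨w, hVT hw⟩ :=
              Subtype.ext (by simpa using hsi)
            rw [this, map_mul, map_pow, map_mul, map_mul, map_mul, hfw, mul_one]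
          · right
            have : (⟨s, hsT⟩ : T) = (⟨t, htT⟩ * ⟨b, hbT⟩ * ⟨t, htT⟩ * ⟨b, hbT⟩) ^ i * ⟨b, hbT⟩ * ⟨w, hVT hw⟩ :=
              Subtype.ext (by simpa using hsi)
            rw [this, map_mul, map_mul, map_pow, map_mul, map_mul, map_mul, hfw, mul_one])
        (by rw [← map_mul, hf]; exact hss)
      rw [← map_inv, ← map_mul, ← map_mul, ← map_mul, hf] at hres
      rw [hV, hV]
      exact cbar L F s hs ((hV _).1 hres)
  have hVz : ∀ w ∈ V, w * z = z * w := fun w hw => hzc w (hST (hVS hw))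
  have hVv : ∀ w ∈ V, w * v = v * w := by
    intro w hw
    rcases (hV w).1 hw with rfl | rfl | rfl | rfl
    · rw [one_mul, mul_one]
    · exact hzv
    · rfl
    · rw [mul_assoc, hzv]
  -- (2)
  have h2 : r * v = v * r := by
    obtain ⟨s, hs, hsV, hrsV⟩ := hbig
    rw [← hV] at hsV hrsV
    have hex : ∃ m : ℕ, s ^ (2 ^ m) ∈ V := by
      obtain ⟨k, hk⟩ := L.p2 ⟨s, hST hs⟩
      exact ⟨k, by
        have := congrArg Subtype.val hk
        have h3 : s ^ (2 ^ k) = 1 := by simpa using this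
        rw [h3]; exact V.one_mem⟩
    classical
    obtain ⟨m, hm, hmin⟩ : ∃ m : ℕ, s ^ (2 ^ m) ∈ V ∧ ∀ n < m, s ^ (2 ^ n) ∉ V :=
      ⟨Nat.find hex, Nat.find_spec hex, fun n hn => Nat.find_min hex hn⟩
    rcases m with _ | _ | m
    · exact absurd (by simpa using hm) hsV
    · have h3 : s * s ∈ V := by
        have h4 : s ^ (2 ^ (0 + 1)) = s * s := by rw [zero_add, pow_one, pow_two]
        rw [← h4]; exact hm
      rcases h1 s hs h3 with h | h
      · exact absurd h hsV
      · exact absurd h hrsV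
    · have hy : s ^ (2 ^ m) ∈ S := S.pow_mem hs _
      have hyy : s ^ (2 ^ (m + 1)) = s ^ (2 ^ m) * s ^ (2 ^ m) := by
        rw [← pow_add, pow_succ, mul_two]
      have hyyyy : s ^ (2 ^ (m + 1 + 1)) = s ^ (2 ^ (m + 1)) * s ^ (2 ^ (m + 1)) := by
        rw [← pow_add, pow_succ 2 (m + 1), mul_two]
      have h3 : s ^ (2 ^ (m + 1)) * s ^ (2 ^ (m + 1)) ∈ V := by rw [← hyyyy]; exact hm
      rcases h1 _ (S.pow_mem hs _) h3 with h | h
      · exact absurd h (hmin _ (Nat.lt_succ_self _))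
      · have h4 : s ^ (2 ^ (m + 1)) * v = v * s ^ (2 ^ (m + 1)) := by
          rw [hyy]
          generalize s ^ (2 ^ m) = y at hy
          have hyz := hzc y (hST hy)
          rcases F.hv y (hST hy) with e | e
          · have e' : y * v = v * y := mul_inv_eq_iff_eq_mul.1 e
            rw [mul_assoc, e', ← mul_assoc, e', mul_assoc]
          · have e' : y * v = v * z * y := mul_inv_eq_iff_eq_mul.1 e
            calc y * y * v = y * (y * v) := by group
              _ = y * (v * z * y) := congrArg _ e'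
              _ = (y * v) * z * y := by group
              _ = v * z * (y * z) * y := by rw [e']; group
              _ = v * (z * z) * y * y := by rw [hyz]; group
              _ = v * (y * y) := by rw [L.zz]; group
        have h5 := hVv _ h
        generalize s ^ (2 ^ (m + 1)) = x at h4 h5
        apply mul_right_cancel (b := x)
        calc r * v * x = r * (x * v) := by rw [h4]; group
          _ = v * (r * x) := by rw [← h5]; group
          _ = v * r * x := by group
  have hrVc : ∀ w ∈ V, r * w = w * r := by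
    intro w hw
    have hrz := hzc r (hST L.rS)
    rcases (hV w).1 hw with rfl | rfl | rfl | rfl
    · rw [one_mul, mul_one]
    · exact hrz
    · exact h2
    · rw [← mul_assoc, h2, mul_assoc, hrz, mul_assoc]
  -- (3)
  have h3 : ∀ y ∈ S, (y * y) * (y * y) = 1 → y ∉ V → r * y ∈ V → y * y = z := by
    intro y hy hyy hyV hry
    have e1 : y = r⁻¹ * (r * y) := by group
    have e2 := hrVc _ hry
    have e3 := hVsq _ hry
    generalize r * y = w at e1 e2 e3
    have e4 : w * r⁻¹ = r⁻¹ * w := by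
      rw [eq_inv_mul_iff_mul_eq, ← mul_assoc, e2, mul_inv_cancel_right]
    have hzi : z⁻¹ = z := inv_eq_of_mul_eq_one_left L.zz
    calc y * y = r⁻¹ * (w * r⁻¹) * w := by rw [e1]; group
      _ = (r * r)⁻¹ * (w * w) := by rw [e4]; group
      _ = z := by rw [e3, L.rz, mul_one, hzi]
  have h3a : ∀ y ∈ S, y * y = 1 → y ∈ V := by
    intro y hy hyy
    rcases h1 y hy (by rw [hyy]; exact V.one_mem) with h | h
    · exact h
    · by_contra hyV
      have := h3 y hy (by rw [hyy, one_mul]) hyV h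
      rw [hyy] at this
      exact L.z1 this.symm
  have h3b : ∀ y ∈ S, (y * y) * (y * y) = 1 → y * y ≠ 1 → y * y = z := by
    intro y hy hyy hne
    have h4 := h3a _ (S.mul_mem hy hy) hyy
    have hyV : y ∉ V := fun h => hne (hVsq y h)
    rcases h1 y hy h4 with h | h
    · exact absurd h hyV
    · exact h3 y hy hyy hyV h
  -- (4)
  have h4 : ∀ u ∈ V, u ≠ z → ∀ a ∈ A, a * u * a⁻¹ = z → False := by
    intro u hu huz a ha hau
    obtain ⟨g, hg, hgT⟩ := Fu.ext u (hVS hu) a ha hau
    have hgr := hgT r (hST L.rS) (hrVc u hu)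
    have hgS : g * r * g⁻¹ ∈ S := (L.ST _).2 ⟨hgr, L.An.conj_mem r (hSA L.rS) g⟩
    have e1 : (g * r * g⁻¹) * (g * r * g⁻¹) = g * z * g⁻¹ := by rw [← L.rz]; group
    have e2 : (g * z * g⁻¹) * (g * z * g⁻¹) = 1 := by
      calc (g * z * g⁻¹) * (g * z * g⁻¹) = g * (z * z) * g⁻¹ := by group
        _ = 1 := by rw [L.zz]; group
    have e3 : g * z * g⁻¹ ≠ 1 := by
      intro h
      rw [conj_eq_one_iff] at h
      exact L.z1 h
    have e4 := h3b _ hgS (by rw [e1]; exact e2) (by rw [e1]; exact e3)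
    rw [e1] at e4
    apply huz
    have e5 : g * u * g⁻¹ = g * z * g⁻¹ := by rw [hg, e4]
    exact mul_left_cancel (mul_right_cancel e5)
  have hcon : ∀ u : X, u ≠ 1 → u * u = 1 → ∀ a : X, a * u * a⁻¹ ≠ 1 ∧ (a * u * a⁻¹) * (a * u * a⁻¹) = 1 := by
    intro u hu huu a
    refine ⟨fun h => hu (conj_eq_one_iff.1 h), ?_⟩
    calc (a * u * a⁻¹) * (a * u * a⁻¹) = a * (u * u) * a⁻¹ := by group
      _ = 1 := by rw [huu]; group
  have hvzz : v * z ≠ z := by
    intro h
    exact F.v1 (mul_eq_right.1 h)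
  -- (5)
  have h5 : ∀ a ∈ A, a * z = z * a := by
    apply Fu.zstar z hzS L.zz
    intro a ha haz
    obtain ⟨n1, n2⟩ := hcon z L.z1 L.zz a
    have h6 := h3a _ haz n2
    have h7 : a * z * a⁻¹ ≠ z → False := by
      intro hne
      apply h4 _ h6 hne a⁻¹ (A.inv_mem ha)
      group
    by_contra hne
    exact h7 hne
  -- (6)
  apply hnc
  intro s hs
  refine Fu.iso2 h5 v F.vS F.vv ?_ s (hSA hs)
  intro a ha hav
  obtain ⟨n1, n2⟩ := hcon v F.v1 F.vv a
  have h6 := h3a _ hav n2
  rcases (hV _).1 h6 with h | h | h | h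
  · exact absurd h n1
  · exact (h4 v hvV F.vz a ha h).elim
  · left; exact h
  · right; exact h

end

end Cfsg.Agent.Lib.H17A
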