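import Cfsg.Agent.Lib.H17A1

set_option autoImplicit false

namespace Cfsg.Agent.Lib.H17A

universe u

section
variable {X : Type u} [Group X] [Finite X] {A S T : Subgroup X} {t r z v : X}

theorem l6_main (L : Loc A S T t r z) (Fu : Fus A S T t r z) (F : Four S T z v)
    (hz : ∀ x ∈ T, x * z = z * x)
    (hcb : ∀ s ∈ S, t * s * t * s⁻¹ ∈ V4 z v → s ∈ V4 z v ∨ r * s ∈ V4 z v)
    (hnc : ¬ ∀ s ∈ S, s * v = v * s)
    (b : X) (hb : b ∈ S) (hbb : b * b ∈ V4 z v) (hS : SGen S t z v b)
    (hbig : ∃ s ∈ S, s ∉ V4 z v ∧ r * s ∉ V4 z v) : False := by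
  have hST : ∀ s ∈ S, s ∈ T := fun s hs => ((L.ST s).1 hs).1
  have hSA : ∀ s ∈ S, s ∈ A := fun s hs => ((L.ST s).1 hs).2
  have hzS : z ∈ S := L.rz ▸ S.mul_mem L.rS L.rS
  have hzz := L.zz
  have hvv := F.vv
  have htt := L.tt
  have tinv : t⁻¹ = t := inv_eq_of_mul_eq_one_left htt
  have zinv : z⁻¹ = z := inv_eq_of_mul_eq_one_left hzz
  have vinv : v⁻¹ = v := inv_eq_of_mul_eq_one_left hvv
  -- conjugation by t stays in S
  have htS : ∀ s ∈ S, t * s * t ∈ S := by
    intro s hs
    rw [L.ST]
    refine ⟨T.mul_mem (T.mul_mem L.tT (hST s hs)) L.tT, ?_⟩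
    have := L.An.conj_mem s (hSA s hs) t
    rwa [tinv] at this
  -- z commutes
  have hzc : ∀ x ∈ T, Commute z x := fun x hx => (hz x hx).symm
  have hvT : v ∈ T := hST v F.vS
  have hzv : Commute z v := hzc v hvT
  -- x v = v x or x v = v z x
  have hdich : ∀ x ∈ T, Commute x v ∨ x * v = v * z * x := by
    intro x hx
    rcases F.hv x hx with h | h
    · left
      have : x * v = v * x := by
        calc x * v = x * v * x⁻¹ * x := by group
          _ = v * x := by rw [h]
      exact this
    · right
      calc x * v = x * v * x⁻¹ * x := by group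
        _ = v * z * x := by rw [h]
  -- squares commute with v
  have hsq : ∀ x ∈ T, Commute (x * x) v := by
    intro x hx
    rcases hdich x hx with h | h
    · exact h.mul_left h
    · show x * x * v = v * (x * x)
      calc x * x * v = x * (x * v) := by group
        _ = x * (v * z * x) := by rw [h]
        _ = (x * v) * z * x := by group
        _ = v * z * x * z * x := by rw [h]
        _ = v * z * (x * z) * x := by group
        _ = v * z * (z * x) * x := by rw [hz x hx]
        _ = v * (z * z) * (x * x) := by group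
        _ = v * (x * x) := by rw [hzz]; group
  -- t moves v
  have hrz : Commute r z := by
    show r * z = z * r
    rw [← L.rz]; group
  have htv : t * v = v * z * t := by
    rcases hdich t L.tT with h | h
    · exfalso
      have hne : r * r ≠ 1 := by rw [L.rz]; exact L.z1
      rcases L.cS v F.vS h with h1 | h1 | h1 | h1
      · exact F.v1 h1
      · rw [h1] at hvv; exact hne hvv
      · exact F.vz h1
      · have : r * z * (r * z) = r * r := by
          calc r * z * (r * z) = r * (z * r) * z := by group
            _ = r * (r * z) * z := by rw [hrz.eq]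
            _ = r * r * (z * z) := by group
            _ = r * r := by rw [hzz]; group
        rw [h1, this] at hvv
        exact hne hvv
    · exact h
  have hbT : b ∈ T := hST b hb
  -- c = t b, a = c c
  set c := t * b with hc
  have hcT : c ∈ T := T.mul_mem L.tT hbT
  have hacc : t * b * t * b = c * c := by rw [hc]; group
  have haS : c * c ∈ S := by
    rw [← hacc]; exact S.mul_mem (htS b hb) hb
  -- b moves v
  have hbv : b * v = v * z * b := by
    rcases hdich b hbT with h | h
    · exfalso
      apply hnc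
      intro s hs
      obtain ⟨i, w, hw, h1⟩ := hS s hs
      have hac : Commute (t * b * t * b) v := by rw [hacc]; exact hsq c hcT
      have hwc : Commute w v := by
        rcases hw with rfl | rfl | rfl | rfl
        · exact Commute.one_left _
        · exact hzv
        · exact Commute.refl _
        · exact (Commute.refl v).mul_left hzv
      rcases h1 with h1 | h1
      · rw [h1]; exact ((hac.pow_left i).mul_left hwc).eq
      · rw [h1]; exact (((hac.pow_left i).mul_left h).mul_left hwc).eq
    · exact h
  -- c commutes with v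
  have hcv : Commute c v := by
    show t * b * v = v * (t * b)
    calc t * b * v = t * (b * v) := by group
      _ = t * (v * z * b) := by rw [hbv]
      _ = t * v * z * b := by group
      _ = v * z * t * z * b := by rw [htv]
      _ = v * z * (t * z) * b := by group
      _ = v * z * (z * t) * b := by rw [hz t L.tT]
      _ = v * (z * z) * (t * b) := by group
      _ = v * (t * b) := by rw [hzz]; group
  have hcz : Commute c z := (hzc c hcT).symm
  have hVS : ∀ x ∈ V4 z v, x ∈ S := by
    rintro x (rfl | rfl | rfl | rfl)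
    · exact S.one_mem
    · exact hzS
    · exact F.vS
    · exact S.mul_mem F.vS hzS
  have hVc : ∀ x ∈ V4 z v, Commute c x := by
    rintro x (rfl | rfl | rfl | rfl)
    · exact Commute.one_right _
    · exact hcz
    · exact hcv
    · exact hcv.mul_right hcz
  have hVV : ∀ x ∈ V4 z v, x * x = 1 := by
    rintro x (rfl | rfl | rfl | rfl)
    · simp
    · exact hzz
    · exact hvv
    · calc v * z * (v * z) = v * (z * v) * z := by group
        _ = v * (v * z) * z := by rw [hzv.eq]
        _ = (v * v) * (z * z) := by group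
        _ = 1 := by rw [hvv, hzz]; simp
  have hVmul : ∀ x ∈ V4 z v, ∀ y ∈ V4 z v, x * y ∈ V4 z v := by
    have e1 : z * v = v * z := hzv.eq
    have e2 : z * (v * z) = v := by rw [← mul_assoc, e1, mul_assoc, hzz, mul_one]
    have e3 : v * (v * z) = z := by rw [← mul_assoc, hvv, one_mul]
    have e4 : v * z * z = v := by rw [mul_assoc, hzz, mul_one]
    have e5 : v * z * v = z := by rw [mul_assoc, e1, ← mul_assoc, hvv, one_mul]
    have e6 : v * z * (v * z) = 1 := hVV _ (by right; right; right; rfl)
    rintro x (rfl | rfl | rfl | rfl) y (rfl | rfl | rfl | rfl) <;>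
      simp [V4, hzz, hvv, e1, e2, e3, e4, e5, e6]
  have hVcomm : ∀ x ∈ V4 z v, ∀ y ∈ V4 z v, Commute x y := by
    intro x hx y hy
    have h1 : (x * y) * (x * y) = 1 := hVV _ (hVmul x hx y hy)
    have h2 := hVV x hx
    have h3 := hVV y hy
    have hx' : x⁻¹ = x := inv_eq_of_mul_eq_one_left h2
    have hy' : y⁻¹ = y := inv_eq_of_mul_eq_one_left h3
    have h4 : x * y = (x * y)⁻¹ := eq_inv_of_mul_eq_one_left h1
    have h5 : (x * y)⁻¹ = y * x := by rw [mul_inv_rev, hx', hy']
    exact h4.trans h5
  have hconj : ∀ x ∈ V4 z v, ∃ y ∈ V4 z v, x * b = b * y := by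
    intro x hx
    rcases hx with h | h | h | h
    · exact ⟨1, Or.inl rfl, by rw [h]; simp⟩
    · exact ⟨z, Or.inr (Or.inl rfl), by rw [h]; exact (hz b hbT).symm⟩
    · refine ⟨v * z, Or.inr (Or.inr (Or.inr rfl)), ?_⟩
      rw [h]
      calc v * b = v * (z * z) * b := by rw [hzz]; group
        _ = v * z * (z * b) := by group
        _ = v * z * (b * z) := by rw [hz b hbT]
        _ = (v * z * b) * z := by group
        _ = b * v * z := by rw [← hbv]
        _ = b * (v * z) := by group
    · refine ⟨v, Or.inr (Or.inr (Or.inl rfl)), ?_⟩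
      rw [h, hbv]
  -- b b = 1 or z
  have hbb2 : b * b = 1 ∨ b * b = z := by
    have hcomm : b * (b * b) = (b * b) * b := by group
    have hvz1 : v * z ≠ v := by
      intro h; exact L.z1 (by simpa using h)
    rcases hbb with h | h | h | h
    · exact Or.inl h
    · exact Or.inr h
    · exfalso
      rw [h, hbv] at hcomm
      exact hvz1 (mul_right_cancel hcomm)
    · exfalso
      rw [h] at hcomm
      have : b * (v * z) = v * z * z * b := by
        calc b * (v * z) = (b * v) * z := by group
          _ = v * z * b * z := by rw [hbv]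
          _ = v * z * (b * z) := by group
          _ = v * z * (z * b) := by rw [hz b hbT]
          _ = v * z * z * b := by group
      rw [this] at hcomm
      have := mul_right_cancel hcomm
      rw [mul_assoc v z z, hzz, mul_one] at this
      exact hvz1 this.symm
  have hd : b * b ∈ ({1, z} : Set X) := hbb2
  set q := b * b with hq
  have hqz : q * q = 1 := by
    rcases hbb2 with h | h <;> rw [h]
    · simp
    · exact hzz
  have hqT : ∀ x ∈ T, Commute q x := by
    intro x hx
    rcases hbb2 with h | h <;> rw [h]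
    · exact Commute.one_left _
    · exact hzc x hx
  -- t c t = q c⁻¹
  have htc : t * c * t = q * c⁻¹ := by
    rw [hc, hq, mul_inv_rev, tinv]
    calc t * (t * b) * t = (t * t) * b * t := by group
      _ = b * t := by rw [htt]; group
      _ = b * b * (b⁻¹ * t) := by group
  have htc2 : t * c = q * c⁻¹ * t := by
    calc t * c = t * c * t * t⁻¹ := by group
      _ = q * c⁻¹ * t⁻¹ := by rw [htc]
      _ = q * c⁻¹ * t := by rw [tinv]
  have hta : t * (c * c) = (c * c)⁻¹ * t := by
    calc t * (c * c) = (t * c) * c := by group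
      _ = q * c⁻¹ * t * c := by rw [htc2]
      _ = q * c⁻¹ * (t * c) := by group
      _ = q * c⁻¹ * (q * c⁻¹ * t) := by rw [htc2]
      _ = q * (c⁻¹ * q) * c⁻¹ * t := by group
      _ = q * (q * c⁻¹) * c⁻¹ * t := by rw [((hqT c⁻¹ (T.inv_mem hcT)).eq).symm]
      _ = q * q * (c * c)⁻¹ * t := by group
      _ = (c * c)⁻¹ * t := by rw [hqz, one_mul]
  set a := c * c with ha
  have haT : a ∈ T := hST a haS
  have htpow : ∀ n : ℕ, t * a ^ n = (a ^ n)⁻¹ * t := by
    intro n
    induction n with
    | zero => simp
    | succ n ih =>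
      calc t * a ^ (n + 1) = (t * a ^ n) * a := by rw [pow_succ]; group
        _ = (a ^ n)⁻¹ * t * a := by rw [ih]
        _ = (a ^ n)⁻¹ * (t * a) := by group
        _ = (a ^ n)⁻¹ * (a⁻¹ * t) := by rw [hta]
        _ = (a ^ (n + 1))⁻¹ * t := by rw [pow_succ']; group
  have hVa : ∀ x ∈ V4 z v, Commute a x := fun x hx => (hVc x hx).mul_left (hVc x hx)
  have hrV : r ∉ V4 z v := by
    intro h
    have := hVV r h
    rw [L.rz] at this
    exact L.z1 this
  -- a ∉ V
  have haV : a ∉ V4 z v := by
    intro haV
    have hform : ∀ s ∈ S, s ∈ V4 z v ∨ ∃ w ∈ V4 z v, s = b * w := by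
      intro s hs
      obtain ⟨i, w, hw, h1⟩ := hS s hs
      rw [hacc] at h1
      have hai : a ^ i ∈ V4 z v := by
        clear h1
        induction i with
        | zero => left; simp
        | succ n ih => rw [pow_succ]; exact hVmul _ ih _ haV
      rcases h1 with h1 | h1
      · left; rw [h1]; exact hVmul _ hai _ hw
      · right
        -- a^i b w = b (b⁻¹ a^i b) w
        obtain ⟨y, hy, hy2⟩ := hconj _ hai
        exact ⟨y * w, hVmul _ hy _ hw, by rw [h1, hy2]; group⟩
    obtain ⟨s, hs, hs1, hs2⟩ := hbig
    rcases hform s hs with h | ⟨w, hw, h⟩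
    · exact hs1 h
    · rcases hform r L.rS with h' | ⟨w', hw', h'⟩
      · exact hrV h'
      · apply hs2
        -- r s = b w' b w
        obtain ⟨y, hy, hy2⟩ := hconj w' hw'
        have : r * s = q * (y * w) := by
          rw [h, h', hq]
          calc b * w' * (b * w) = b * (w' * b) * w := by group
            _ = b * (b * y) * w := by rw [hy2]
            _ = b * b * (y * w) := by group
        rw [this]
        refine hVmul _ ?_ _ (hVmul _ hy _ hw)
        exact hbb
  -- power of a
  have hexp : ∃ k : ℕ, a ^ (2 ^ k) ∈ V4 z v := by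
    obtain ⟨k, hk⟩ := L.p2 ⟨a, haT⟩
    refine ⟨k, Or.inl ?_⟩
    simpa using congrArg Subtype.val hk
  obtain ⟨m, hm1, hm2⟩ : ∃ m : ℕ, a ^ m ∉ V4 z v ∧ a ^ (2 * m) ∈ V4 z v := by
    classical
    have h0 : Nat.find hexp ≠ 0 := by
      intro h
      have := Nat.find_spec hexp
      rw [h] at this
      exact haV (by simpa using this)
    obtain ⟨k, hk⟩ := Nat.exists_eq_succ_of_ne_zero h0
    refine ⟨2 ^ k, ?_, ?_⟩
    · exact Nat.find_min hexp (by rw [hk]; exact Nat.lt_succ_self k)
    · have := Nat.find_spec hexp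
      rw [hk, Nat.succ_eq_add_one, pow_succ, mul_comm] at this
      exact this
  -- r = a^m w
  have hamS : a ^ m ∈ S := S.pow_mem haS m
  obtain ⟨w, hw, hrw⟩ : ∃ w ∈ V4 z v, r = a ^ m * w := by
    have h1 : t * a ^ m * t * (a ^ m)⁻¹ ∈ V4 z v := by
      have e : t * a ^ m * t * (a ^ m)⁻¹ = (a ^ (2 * m))⁻¹ := by
        rw [htpow m]
        calc (a ^ m)⁻¹ * t * t * (a ^ m)⁻¹ = (a ^ m)⁻¹ * (t * t) * (a ^ m)⁻¹ := by group
          _ = (a ^ m * a ^ m)⁻¹ := by rw [htt]; group
          _ = (a ^ (2 * m))⁻¹ := by rw [← pow_add, two_mul]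
      have e2 : (a ^ (2 * m))⁻¹ = a ^ (2 * m) := inv_eq_of_mul_eq_one_left (hVV _ hm2)
      rw [e, e2]; exact hm2
    rcases hcb (a ^ m) hamS h1 with h | h
    · exact absurd h hm1
    · refine ⟨r * a ^ m * (a ^ (2 * m)), hVmul _ h _ hm2, ?_⟩
      have hcom : Commute a (r * a ^ m) := hVa _ h
      have hcr : Commute a r := by
        have := hcom.mul_right ((Commute.refl a).pow_right m).inv_right
        simpa using this
      have e2 : a ^ (2 * m) * a ^ (2 * m) = 1 := hVV _ hm2
      calc r = r * (a ^ (2 * m) * a ^ (2 * m)) := by rw [e2, mul_one]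
        _ = r * (a ^ m * a ^ m * a ^ (2 * m)) := by
          have e3 : a ^ m * a ^ m = a ^ (2 * m) := by rw [two_mul, pow_add]
          rw [e3]
        _ = (r * a ^ m) * (a ^ m * a ^ (2 * m)) := by group
        _ = (a ^ m * r) * (a ^ m * a ^ (2 * m)) := by rw [(hcr.pow_left m).eq]
        _ = a ^ m * (r * a ^ m * a ^ (2 * m)) := by group
  have hawc : Commute (a ^ m) w := (hVa w hw).pow_left m
  have haz : a ^ (2 * m) = z := by
    have h1 : r * r = a ^ (2 * m) := by
      rw [hrw]
      calc a ^ m * w * (a ^ m * w) = a ^ m * (w * a ^ m) * w := by group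
        _ = a ^ m * (a ^ m * w) * w := by rw [hawc.eq]
        _ = (a ^ m * a ^ m) * (w * w) := by group
        _ = a ^ (2 * m) := by rw [hVV w hw, mul_one, ← pow_add, two_mul]
    rw [← h1, L.rz]
  have hw2 : w = v ∨ w = v * z := by
    have h1 : t * r * t = r := by
      rw [L.tr]
      calc r * t * t = r * (t * t) := by group
        _ = r := by rw [htt, mul_one]
    have hwt : Commute t w → False := by
      intro htw
      rw [hrw] at h1
      have h2 : t * (a ^ m * w) * t = (a ^ m)⁻¹ * w := by
        calc t * (a ^ m * w) * t = (t * a ^ m) * w * t := by group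
          _ = (a ^ m)⁻¹ * t * w * t := by rw [htpow]
          _ = (a ^ m)⁻¹ * (t * w) * t := by group
          _ = (a ^ m)⁻¹ * (w * t) * t := by rw [htw.eq]
          _ = (a ^ m)⁻¹ * w * (t * t) := by group
          _ = (a ^ m)⁻¹ * w := by rw [htt, mul_one]
      rw [h2] at h1
      have h3 := mul_right_cancel h1
      have h4 : a ^ (2 * m) = 1 := by
        rw [two_mul, pow_add]
        calc a ^ m * a ^ m = (a ^ m)⁻¹ * a ^ m := by rw [h3]
          _ = 1 := by group
      rw [haz] at h4
      exact L.z1 h4
    rcases hw with h | h | h | h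
    · exact (hwt (by rw [h]; exact Commute.one_right _)).elim
    · exact (hwt (by rw [h]; exact hz t L.tT)).elim
    · exact Or.inl h
    · exact Or.inr h
  -- c commutes with r, b commutes with r
  have hcr : Commute c r := by
    rw [hrw]
    refine Commute.mul_right ?_ (hVc w hw)
    exact (((Commute.refl c).mul_right (Commute.refl c)).pow_right m)
  have htr : Commute t r := L.tr
  have hbeq : b = t * c := by
    rw [hc]
    calc b = (t * t) * b := by rw [htt, one_mul]
      _ = t * (t * b) := by group
  have hbr : Commute b r := by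
    rw [hbeq]; exact htr.mul_left hcr
  have har : Commute a r := hcr.mul_left hcr
  have hVr : ∀ x ∈ V4 z v, Commute x r := by
    intro x hx
    rw [hrw]
    exact Commute.mul_right ((hVa x hx).pow_left m).symm (hVcomm x hx w hw)
  have hSform : ∀ s ∈ S, ∃ i : ℕ, ∃ w ∈ V4 z v, s = a ^ i * w ∨ s = a ^ i * b * w := by
    intro s hs
    have := hS s hs
    rw [hacc] at this
    exact this
  have hrv : Commute r v := (hVr v (Or.inr (Or.inr (Or.inl rfl)))).symm
  -- involutions in ⟨c⟩
  have hcyc : ∀ x : X, x ∈ Subgroup.zpowers c → x * x = 1 → x ≠ 1 → x = z := by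
    classical
    haveI := Fintype.ofFinite (Subgroup.zpowers c)
    intro x hx hxx hx1
    have hzc' : z ∈ Subgroup.zpowers c := by
      rw [← haz, ha]
      exact Subgroup.pow_mem _ (Subgroup.mul_mem _ (Subgroup.mem_zpowers c) (Subgroup.mem_zpowers c)) _
    -- cyclic group: unique involution
    have hcard := IsCyclic.card_pow_eq_one_le (α := Subgroup.zpowers c) (n := 2) (by norm_num)
    by_contra hne
    have h3 : ({(1 : Subgroup.zpowers c), ⟨x, hx⟩, ⟨z, hzc'⟩} : Finset (Subgroup.zpowers c)).card = 3 := by
      rw [Finset.card_eq_three]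
      refine ⟨1, ⟨x, hx⟩, ⟨z, hzc'⟩, ?_, ?_, ?_, rfl⟩
      · intro h; exact hx1 (congrArg Subtype.val h).symm
      · intro h; exact L.z1 (congrArg Subtype.val h).symm
      · intro h; exact hne (congrArg Subtype.val h)
    have hle := Finset.card_le_card (s := ({(1 : Subgroup.zpowers c), ⟨x, hx⟩, ⟨z, hzc'⟩} : Finset (Subgroup.zpowers c))) (t := Finset.univ.filter (fun y : Subgroup.zpowers c => y ^ 2 = 1)) (by
      intro y hy
      simp only [Finset.mem_insert, Finset.mem_singleton] at hy
      simp only [Finset.mem_filter, Finset.mem_univ, true_and]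
      rcases hy with h | h | h
      · rw [h]; simp
      · rw [h, pow_two]; exact Subtype.ext hxx
      · rw [h, pow_two]; exact Subtype.ext hzz)
    omega
  -- squares in T
  have hcn : ∀ n : ℕ, a ^ n ∈ Subgroup.zpowers c := by
    intro n
    exact Subgroup.pow_mem _ (Subgroup.mul_mem _ (Subgroup.mem_zpowers c) (Subgroup.mem_zpowers c)) _
  have hba : ∀ n : ℕ, b * a ^ n = (a ^ n)⁻¹ * b := by
    intro n
    have hca : c * a ^ n = a ^ n * c := (((Commute.refl c).mul_right (Commute.refl c)).pow_right n).eq
    calc b * a ^ n = t * (c * a ^ n) := by rw [hbeq]; group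
      _ = t * (a ^ n * c) := by rw [hca]
      _ = (t * a ^ n) * c := by group
      _ = (a ^ n)⁻¹ * t * c := by rw [htpow]
      _ = (a ^ n)⁻¹ * b := by rw [hbeq]; group
  have hwbw : ∀ w ∈ V4 z v, b * w * (b * w) = q ∨ b * w * (b * w) = z * q := by
    have hzb : z * b = b * z := (hz b hbT).symm
    intro w hw
    rcases hw with h | h | h | h
    · left; rw [h, hq]; group
    · left; rw [h, hq]
      calc b * z * (b * z) = b * (z * b) * z := by group
        _ = b * (b * z) * z := by rw [hzb]
        _ = b * b * (z * z) := by group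
        _ = b * b := by rw [hzz, mul_one]
    · right; rw [h, hq]
      calc b * v * (b * v) = b * v * (v * z * b) := by rw [hbv]
        _ = b * (v * v) * (z * b) := by group
        _ = b * (z * b) := by rw [hvv]; group
        _ = (b * z) * b := by group
        _ = (z * b) * b := by rw [hzb]
        _ = z * (b * b) := by group
    · right; rw [h, hq]
      calc b * (v * z) * (b * (v * z)) = b * v * (z * b) * v * z := by group
        _ = b * v * (b * z) * v * z := by rw [hzb]
        _ = b * v * b * (z * v) * z := by group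
        _ = b * v * b * (v * z) * z := by rw [hzv.eq]
        _ = b * v * (b * v) * (z * z) := by group
        _ = b * v * (v * z * b) * (z * z) := by rw [hbv]
        _ = b * (v * v) * (z * b) * (z * z) := by group
        _ = b * (z * b) := by rw [hvv, hzz]; group
        _ = (b * z) * b := by group
        _ = (z * b) * b := by rw [hzb]
        _ = z * (b * b) := by group
  have hwtw : ∀ w ∈ V4 z v, t * w * t * w = 1 ∨ t * w * t * w = z := by
    have hzt : z * t = t * z := (hz t L.tT).symm
    intro w hw
    rcases hw with h | h | h | h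
    · left; rw [h]; simpa using htt
    · left; rw [h]
      calc t * z * t * z = t * (z * t) * z := by group
        _ = t * (t * z) * z := by rw [hzt]
        _ = (t * t) * (z * z) := by group
        _ = 1 := by rw [htt, hzz, mul_one]
    · right; rw [h]
      calc t * v * t * v = v * z * t * t * v := by rw [htv]
        _ = v * z * (t * t) * v := by group
        _ = v * z * v := by rw [htt, mul_one]
        _ = v * (z * v) := by group
        _ = v * (v * z) := by rw [hzv.eq]
        _ = (v * v) * z := by group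
        _ = z := by rw [hvv, one_mul]
    · right; rw [h]
      calc t * (v * z) * t * (v * z) = t * v * (z * t) * (v * z) := by group
        _ = t * v * (t * z) * (v * z) := by rw [hzt]
        _ = t * v * t * (z * v) * z := by group
        _ = t * v * t * (v * z) * z := by rw [hzv.eq]
        _ = t * v * t * v * (z * z) := by group
        _ = v * z * t * t * v := by rw [htv, hzz, mul_one]
        _ = v * z * (t * t) * v := by group
        _ = v * z * v := by rw [htt, mul_one]
        _ = v * (z * v) := by group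
        _ = v * (v * z) := by rw [hzv.eq]
        _ = (v * v) * z := by group
        _ = z := by rw [hvv, one_mul]
  have hsquares : ∀ x ∈ T, x * x ≠ 1 → (x * x) * (x * x) = 1 → x * x = z := by
    intro x hx hx1 hx2
    by_cases hxA : x ∈ A
    · obtain ⟨i, w, hw, h | h⟩ := hSform x ((L.ST x).2 ⟨hx, hxA⟩)
      · have hwa : Commute (a ^ i) w := (hVa w hw).pow_left i
        have e : x * x = a ^ (i + i) := by
          rw [h]
          calc a ^ i * w * (a ^ i * w) = a ^ i * (w * a ^ i) * w := by group
            _ = a ^ i * (a ^ i * w) * w := by rw [hwa.eq]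
            _ = (a ^ i * a ^ i) * (w * w) := by group
            _ = a ^ (i + i) := by rw [hVV w hw, mul_one, ← pow_add]
        exact hcyc _ (by rw [e]; exact hcn _) hx2 hx1
      · have hwa : Commute (a ^ i) w := (hVa w hw).pow_left i
        have e : x * x = b * w * (b * w) := by
          rw [h]
          calc a ^ i * b * w * (a ^ i * b * w) = a ^ i * b * (w * a ^ i) * b * w := by group
            _ = a ^ i * b * (a ^ i * w) * b * w := by rw [hwa.eq]
            _ = a ^ i * (b * a ^ i) * w * b * w := by group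
            _ = a ^ i * ((a ^ i)⁻¹ * b) * w * b * w := by rw [hba]
            _ = b * w * (b * w) := by group
        rcases hwbw w hw with h' | h' <;> rcases hbb2 with h2 | h2
        · exact absurd (by rw [e, h', h2]) hx1
        · rw [e, h', h2]
        · rw [e, h', h2, mul_one]
        · exact absurd (by rw [e, h', h2, hzz]) hx1
    · have hs : t * x ∈ S := (L.ST _).2 ⟨T.mul_mem L.tT hx, L.ix x hxA⟩
      have hxs : x = t * (t * x) := by rw [← mul_assoc, htt, one_mul]
      obtain ⟨i, w, hw, h | h⟩ := hSform _ hs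
      · rw [h] at hxs
        have hwa : Commute (a ^ i) w := (hVa w hw).pow_left i
        have e : x * x = t * w * t * w := by
          rw [hxs]
          calc t * (a ^ i * w) * (t * (a ^ i * w)) = (t * a ^ i) * w * t * a ^ i * w := by group
            _ = (a ^ i)⁻¹ * t * w * t * a ^ i * w := by rw [htpow]
            _ = (a ^ i)⁻¹ * t * w * (t * a ^ i) * w := by group
            _ = (a ^ i)⁻¹ * t * w * ((a ^ i)⁻¹ * t) * w := by rw [htpow]
            _ = (a ^ i)⁻¹ * t * (w * (a ^ i)⁻¹) * t * w := by group
            _ = (a ^ i)⁻¹ * t * ((a ^ i)⁻¹ * w) * t * w := by rw [hwa.inv_left.eq]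
            _ = (a ^ i)⁻¹ * (t * (a ^ i)⁻¹ * t) * (t * t)⁻¹ * (t * w * t * w) := by group
            _ = (a ^ i)⁻¹ * (t * (a ^ i)⁻¹ * t) * (t * w * t * w) := by rw [htt]; group
            _ = t * w * t * w := by
              have e1 : t * (a ^ i)⁻¹ * t = a ^ i := by
                have h5 : t * a ^ i * t = (a ^ i)⁻¹ := by
                  rw [htpow]
                  calc (a ^ i)⁻¹ * t * t = (a ^ i)⁻¹ * (t * t) := by group
                    _ = (a ^ i)⁻¹ := by rw [htt, mul_one]
                have h6 := congrArg (fun y => y⁻¹) h5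
                simp only [mul_inv_rev, tinv, inv_inv] at h6
                rw [← mul_assoc] at h6
                exact h6
              rw [e1]; group
        rcases hwtw w hw with h' | h'
        · exact absurd (by rw [e, h']) hx1
        · rw [e, h']
      · rw [h] at hxs
        have hwa : Commute (a ^ i) w := (hVa w hw).pow_left i
        have hx' : x = (a ^ i)⁻¹ * c * w := by
          rw [hxs, hc]
          calc t * (a ^ i * b * w) = (t * a ^ i) * b * w := by group
            _ = (a ^ i)⁻¹ * t * b * w := by rw [htpow]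
            _ = (a ^ i)⁻¹ * (t * b) * w := by group
        have e : x * x = (a ^ i)⁻¹ * c * ((a ^ i)⁻¹ * c) := by
          have hcom : Commute w ((a ^ i)⁻¹ * c) := (hwa.inv_left.symm).mul_right (hVc w hw).symm
          rw [hx']
          calc (a ^ i)⁻¹ * c * w * ((a ^ i)⁻¹ * c * w) = (a ^ i)⁻¹ * c * (w * ((a ^ i)⁻¹ * c)) * w := by group
            _ = (a ^ i)⁻¹ * c * (((a ^ i)⁻¹ * c) * w) * w := by rw [hcom.eq]
            _ = (a ^ i)⁻¹ * c * ((a ^ i)⁻¹ * c) * (w * w) := by group
            _ = (a ^ i)⁻¹ * c * ((a ^ i)⁻¹ * c) := by rw [hVV w hw, mul_one]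
        refine hcyc _ ?_ hx2 hx1
        rw [e]
        have h5 : (a ^ i)⁻¹ * c ∈ Subgroup.zpowers c :=
          Subgroup.mul_mem _ (Subgroup.inv_mem _ (hcn i)) (Subgroup.mem_zpowers c)
        exact Subgroup.mul_mem _ h5 h5
  have hnot : ∀ x ∈ A, x * v * x⁻¹ ≠ z := by
    intro x hx h
    obtain ⟨g, hg, hg2⟩ := Fu.ext v F.vS x hx h
    have hy : g * r * g⁻¹ ∈ T := hg2 r (hST r L.rS) hrv.eq
    have h1 : g * r * g⁻¹ * (g * r * g⁻¹) = g * z * g⁻¹ := by
      rw [← L.rz]; group
    have h2 : g * r * g⁻¹ * (g * r * g⁻¹) = z := by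
      apply hsquares _ hy
      · rw [h1]
        intro h'
        apply L.z1
        have : z = g⁻¹ * (g * z * g⁻¹) * g := by group
        rw [this, h']; group
      · rw [h1]
        calc g * z * g⁻¹ * (g * z * g⁻¹) = g * (z * z) * g⁻¹ := by group
          _ = 1 := by rw [hzz]; group
    rw [h1, ← hg] at h2
    have h3 : z = v := by
      have := congrArg (fun y => g⁻¹ * y * g) h2
      rw [← hg]
      simpa [mul_assoc] using this
    exact F.vz h3.symm
  -- the element e
  have hVzM : z = a ^ (2 * m) := haz.symm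
  obtain ⟨e, heS, hee, hea, hbe⟩ : ∃ e : X, e ∈ S ∧ e * e = z ∧ (∀ n : ℕ, e * a ^ n = (a ^ n)⁻¹ * e) ∧
      (b = e ∨ ∃ n : ℕ, ∃ w ∈ V4 z v, (w = 1 ∨ w = z) ∧ b * v = e * a ^ n * w) := by
    rcases hbb2 with h | h
    · refine ⟨b * r, S.mul_mem hb L.rS, ?_, ?_, Or.inr ?_⟩
      · calc b * r * (b * r) = b * (r * b) * r := by group
          _ = b * (b * r) * r := by rw [hbr.eq]
          _ = (b * b) * (r * r) := by group
          _ = z := by rw [← hq, h, L.rz, one_mul]
      · intro n
        calc b * r * a ^ n = b * (r * a ^ n) := by group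
          _ = b * (a ^ n * r) := by rw [(har.pow_left n).eq]
          _ = (b * a ^ n) * r := by group
          _ = (a ^ n)⁻¹ * b * r := by rw [hba]
          _ = (a ^ n)⁻¹ * (b * r) := by group
      · -- b v = (b r) (r⁻¹ v), r⁻¹ = r z = a^m w z
        have hrinv : r * (r * z) = 1 := by rw [← mul_assoc, L.rz, hzz]
        have hvz : v * z * v = z := by
          rw [mul_assoc, hzv.eq, ← mul_assoc, hvv, one_mul]
        rcases hw2 with h2 | h2
        · refine ⟨m, z, Or.inr (Or.inl rfl), Or.inr rfl, ?_⟩
          calc b * v = b * (r * (r * z)) * v := by rw [hrinv, mul_one]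
            _ = b * r * r * (z * v) := by group
            _ = b * r * r * (v * z) := by rw [hzv.eq]
            _ = b * r * (a ^ m * v) * (v * z) := by rw [← h2, ← hrw]
            _ = b * r * a ^ m * (v * v) * z := by group
            _ = b * r * a ^ m * z := by rw [hvv, mul_one]
        · refine ⟨m, 1, Or.inl rfl, Or.inl rfl, ?_⟩
          calc b * v = b * (r * (r * z)) * v := by rw [hrinv, mul_one]
            _ = b * r * r * (z * v) := by group
            _ = b * r * (a ^ m * (v * z)) * (z * v) := by rw [← h2, ← hrw]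
            _ = b * r * a ^ m * v * (z * z) * v := by group
            _ = b * r * a ^ m * (v * v) := by rw [hzz]; group
            _ = b * r * a ^ m * 1 := by rw [hvv]
    · refine ⟨b, hb, ?_, hba, Or.inl rfl⟩
      rw [← hq, h]
  have heT : e ∈ T := hST e heS
  have hea' : ∀ n : ℤ, e * a ^ n = (a ^ n)⁻¹ * e := by
    intro n
    have h1 : SemiconjBy e a a⁻¹ := by
      have := hea 1
      simpa [SemiconjBy] using this
    have := h1.zpow_right n
    rw [inv_zpow] at this
    exact this
  have hzpow : z = a ^ ((2 * m : ℕ) : ℤ) := by rw [zpow_natCast]; exact hVzM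
  have heinv : e⁻¹ = z * e := by
    rw [inv_eq_iff_mul_eq_one]
    calc e * (z * e) = (e * z) * e := by group
      _ = (z * e) * e := by rw [hz e heT]
      _ = z * (e * e) := by group
      _ = 1 := by rw [hee, hzz]
  let M : Subgroup X :=
    { carrier := {x | ∃ i : ℤ, x = a ^ i ∨ x = a ^ i * e}
      one_mem' := ⟨0, Or.inl (by simp)⟩
      mul_mem' := by
        rintro x y ⟨i, h1⟩ ⟨j, h2⟩
        rcases h1 with h1 | h1 <;> rcases h2 with h2 | h2
        · exact ⟨i + j, Or.inl (by rw [h1, h2, zpow_add])⟩
        · exact ⟨i + j, Or.inr (by rw [h1, h2, zpow_add]; group)⟩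
        · refine ⟨i - j, Or.inr ?_⟩
          rw [h1, h2, zpow_sub]
          calc a ^ i * e * a ^ j = a ^ i * (e * a ^ j) := by group
            _ = a ^ i * ((a ^ j)⁻¹ * e) := by rw [hea']
            _ = a ^ i * (a ^ j)⁻¹ * e := by group
        · refine ⟨i - j + ((2 * m : ℕ) : ℤ), Or.inl ?_⟩
          rw [h1, h2, zpow_add, zpow_sub, ← hzpow]
          calc a ^ i * e * (a ^ j * e) = a ^ i * (e * a ^ j) * e := by group
            _ = a ^ i * ((a ^ j)⁻¹ * e) * e := by rw [hea']
            _ = a ^ i * (a ^ j)⁻¹ * (e * e) := by group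
            _ = a ^ i * (a ^ j)⁻¹ * z := by rw [hee]
      inv_mem' := by
        rintro x ⟨i, h1⟩
        rcases h1 with h1 | h1
        · exact ⟨-i, Or.inl (by rw [h1, zpow_neg])⟩
        · refine ⟨((2 * m : ℕ) : ℤ) + i, Or.inr ?_⟩
          rw [h1, zpow_add, ← hzpow, mul_inv_rev, heinv]
          calc z * e * (a ^ i)⁻¹ = z * (e * a ^ (-i)) := by rw [zpow_neg]; group
            _ = z * ((a ^ (-i))⁻¹ * e) := by rw [hea']
            _ = z * a ^ i * e := by rw [zpow_neg, inv_inv]; group }
  have hMmem : ∀ x, x ∈ M ↔ ∃ i : ℤ, x = a ^ i ∨ x = a ^ i * e := fun x => Iff.rfl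
  have haM : ∀ n : ℕ, a ^ n ∈ M := fun n => (hMmem _).2 ⟨n, Or.inl (by rw [zpow_natCast])⟩
  have hzM : z ∈ M := by rw [hVzM]; exact haM _
  have heM : e ∈ M := (hMmem _).2 ⟨0, Or.inr (by simp)⟩
  have hMS : M ≤ S := by
    intro x hx
    obtain ⟨i, h | h⟩ := (hMmem x).1 hx
    · rw [h]; exact S.zpow_mem haS i
    · rw [h]; exact S.mul_mem (S.zpow_mem haS i) heS
  have hMinv : ∀ x ∈ M, x * x = 1 → x ≠ 1 → x = z := by
    intro x hx hxx hx1
    obtain ⟨i, h | h⟩ := (hMmem x).1 hx
    · refine hcyc x ?_ hxx hx1
      rw [h]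
      exact Subgroup.zpow_mem _ (by simpa using hcn 1) i
    · exfalso
      apply L.z1
      rw [← hxx, h]
      calc z = a ^ i * (a ^ i)⁻¹ * (e * e) := by rw [hee]; group
        _ = a ^ i * ((a ^ i)⁻¹ * e) * e := by group
        _ = a ^ i * (e * a ^ i) * e := by rw [hea']
        _ = a ^ i * e * (a ^ i * e) := by group
  have hvM : v ∉ M := fun h => F.vz (hMinv v h hvv F.v1)
  have hwM : ∀ w ∈ V4 z v, w ∈ M ∨ w * v ∈ M := by
    intro w hw
    rcases hw with h | h | h | h
    · left; rw [h]; exact M.one_mem
    · left; rw [h]; exact hzM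
    · right; rw [h, hvv]; exact M.one_mem
    · right
      have : w * v = z := by
        rw [h]
        calc v * z * v = v * (z * v) := by group
          _ = v * (v * z) := by rw [hzv.eq]
          _ = (v * v) * z := by group
          _ = z := by rw [hvv, one_mul]
      rw [this]; exact hzM
  have hbM : b ∈ M ∨ b * v ∈ M := by
    rcases hbe with h | ⟨n, w, hw, h1, h2⟩
    · left; rw [h]; exact heM
    · right
      rw [h2]
      refine M.mul_mem (M.mul_mem heM (haM n)) ?_
      rcases h1 with h1 | h1
      · rw [h1]; exact M.one_mem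
      · rw [h1]; exact hzM
  have hVv : v ∈ V4 z v := Or.inr (Or.inr (Or.inl rfl))
  have hrel : M.relIndex S = 2 := by
    rw [Subgroup.relIndex_eq_two_iff]
    refine ⟨v, F.vS, fun s hs => ?_⟩
    have hnb : ¬ (s * v ∈ M ∧ s ∈ M) := by
      rintro ⟨h1, h2⟩
      apply hvM
      have := M.mul_mem (M.inv_mem h2) h1
      rwa [inv_mul_cancel_left] at this
    have hone : s ∈ M ∨ s * v ∈ M := by
      obtain ⟨i, w, hw, h | h⟩ := hSform s hs
      · rcases hwM w hw with h1 | h1
        · left; rw [h]; exact M.mul_mem (haM i) h1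
        · right; rw [h, mul_assoc]; exact M.mul_mem (haM i) h1
      · rcases hbM with hb1 | hb1
        · rcases hwM w hw with h1 | h1
          · left; rw [h]; exact M.mul_mem (M.mul_mem (haM i) hb1) h1
          · right; rw [h, mul_assoc]; exact M.mul_mem (M.mul_mem (haM i) hb1) h1
        · have hs' : s = a ^ i * (b * v) * (v * w) := by
            rw [h]
            calc a ^ i * b * w = a ^ i * b * (v * v) * w := by rw [hvv, mul_one]
              _ = a ^ i * (b * v) * (v * w) := by group
          rcases hwM (v * w) (hVmul v hVv w hw) with h1 | h1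
          · left; rw [hs']; exact M.mul_mem (M.mul_mem (haM i) hb1) h1
          · right; rw [hs', mul_assoc]; exact M.mul_mem (M.mul_mem (haM i) hb1) h1
    rcases hone with h | h
    · exact Or.inr ⟨h, fun h' => hnb ⟨h', h⟩⟩
    · exact Or.inl ⟨h, fun h' => hnb ⟨h, h'⟩⟩
  obtain ⟨g, hg, hg2⟩ := Fu.tt2 M hMS hrel v F.vS
    (by
      have h : v ^ 4 = (v * v) * (v * v) := by
        simp only [pow_succ, pow_zero, one_mul, mul_assoc]
      rw [h, hvv, one_mul]) hvM
    (by intro g hg _; rw [hvv]; simp)
  refine hnot g hg (hMinv _ hg2 ?_ ?_)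
  · calc g * v * g⁻¹ * (g * v * g⁻¹) = g * (v * v) * g⁻¹ := by group
      _ = 1 := by rw [hvv]; group
  · intro h
    apply F.v1
    calc v = g⁻¹ * (g * v * g⁻¹) * g := by group
      _ = 1 := by rw [h]; group

theorem leaf6 (L : Loc A S T t r z) (Fu : Fus A S T t r z) (F : Four S T z v)
    (hnc : ¬ ∀ s ∈ S, s * v = v * s)
    (b : X) (hb : b ∈ S) (hbb : b * b ∈ V4 z v) (hS : SGen S t z v b)
    (hbig : ∃ s ∈ S, s ∉ V4 z v ∧ r * s ∉ V4 z v) : False :=
  l6_main L Fu F (zT L) (cbar L F) hnc b hb hbb hS hbig

end
end Cfsg.Agent.Lib.H17A
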