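import Cfsg.Agent.Lib.H17A0
import Cfsg.Agent.S3224

/-! S1914, piece P3a (helper37): 2-groups with an involution outside a maximal subgroup centralizing only one involution. -/

set_option autoImplicit false
set_option linter.all false

namespace Cfsg.Agent.Lib.H17A

universe u

open Subgroup

theorem p3a_main {Q : Type u} [Group Q] [Finite Q] (R : Subgroup Q) (t r : Q) (htR : t ∉ R)
    (ix : ∀ x, x ∉ R → t * x ∈ R) (tt : t * t = 1) (hrR : r ∈ R) (hr1 : r ≠ 1) (hr : t * r = r * t)
    (hC : ∀ x ∈ R, t * x = x * t → x = 1 ∨ x = r) (c : Q) (k : ℕ) (hk : orderOf c = 2 ^ (k + 2)) (hc : Nat.card Q = 2 * orderOf c)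
    (hnc : ¬ ∀ x : Q, t * x = x * t) :
    ((∀ x ∈ R, ∃ i : ℕ, x = c ^ i) ∧ c ∈ R ∨
      ∃ b ∈ R, (b * b = 1 ∨ b * b = r) ∧ ∀ x ∈ R, ∃ i : ℕ, x = (t * b * t * b) ^ i ∨ x = (t * b * t * b) ^ i * b) ∧
    ∀ b ∈ R, b * b = 1 → b ≠ 1 → b ≠ r → ∀ x ∈ R, ∃ i : ℕ, x = (t * b * t * b) ^ i ∨ x = (t * b * t * b) ^ i * b := by
  classical
  have hm : 0 < orderOf c := by rw [hk]; positivity
  have hCi : (zpowers c).index = 2 := by
    have h1 := (zpowers c).card_mul_index
    rw [Nat.card_zpowers, hc, mul_comm 2] at h1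
    exact Nat.eq_of_mul_eq_mul_left hm h1
  have hmul := fun (a b : Q) => Subgroup.mul_mem_iff_of_index_two hCi (a := a) (b := b)
  have hnorm : (zpowers c).Normal := Subgroup.normal_of_index_eq_two hCi
  have hRmul : ∀ x y, x ∉ R → y ∉ R → x * y ∈ R := by
    intro x y hx hy
    have hx' : x⁻¹ ∉ R := fun h => hx (by simpa using R.inv_mem h)
    have h1 := R.mul_mem (R.inv_mem (ix _ hx')) (ix _ hy)
    have h2 : (t * x⁻¹)⁻¹ * (t * y) = x * y := by group
    rwa [h2] at h1
  have hpow : ∀ x ∈ zpowers c, ∃ i : ℕ, x = c ^ i := by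
    intro x hx
    rw [← mem_powers_iff_mem_zpowers] at hx
    obtain ⟨i, hi⟩ := hx
    exact ⟨i, hi.symm⟩
  -- the involution
  have hinv : ∀ x ∈ zpowers c, x * x = 1 → x ≠ 1 → x = c ^ (2 ^ (k + 1)) := by
    intro x hx hxx hx1
    rw [← mem_powers_iff_mem_zpowers, mem_powers_iff_mem_range_orderOf] at hx
    rw [Finset.mem_image] at hx
    obtain ⟨i, hi, rfl⟩ := hx
    rw [Finset.mem_range] at hi
    rw [← pow_add] at hxx
    obtain ⟨j, hj⟩ := orderOf_dvd_of_pow_eq_one hxx
    have h2k : (2 : ℕ) ^ (k + 2) = 2 * 2 ^ (k + 1) := by ring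
    have hj1 : j = 0 ∨ j = 1 := by
      by_contra h
      push Not at h
      have : 2 ≤ j := by omega
      nlinarith
    rcases hj1 with rfl | rfl
    · exfalso
      apply hx1
      have : i = 0 := by omega
      rw [this, pow_zero]
    · congr 1
      omega
  have hc2 : c ^ 2 ∈ R := by
    by_cases h : c ∈ R
    · exact R.pow_mem h 2
    · rw [pow_two]; exact hRmul c c h h
  set w := c ^ (2 ^ (k + 1)) with hw
  have hwR : w ∈ R := by
    have : w = (c ^ 2) ^ (2 ^ k) := by rw [hw, ← pow_mul]; congr 1; ring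
    rw [this]; exact R.pow_mem hc2 _
  have hwC : w ∈ zpowers c := Subgroup.npow_mem_zpowers c _
  have hw1 : w ≠ 1 := by
    intro h
    have h1 := orderOf_dvd_of_pow_eq_one h
    rw [hk] at h1
    have h2 := Nat.le_of_dvd (by positivity) h1
    have h2k : (2 : ℕ) ^ (k + 2) = 2 * 2 ^ (k + 1) := by ring
    have : 0 < 2 ^ (k + 1) := by positivity
    omega
  have hww : w * w = 1 := by
    rw [hw, ← pow_add]
    have : 2 ^ (k + 1) + 2 ^ (k + 1) = orderOf c := by rw [hk]; ring
    rw [this, pow_orderOf_eq_one]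
  have hwcen : ∀ x : Q, x * w * x⁻¹ = w := by
    intro x
    refine hinv _ (hnorm.conj_mem w hwC x) ?_ ?_
    · have : x * w * x⁻¹ * (x * w * x⁻¹) = x * (w * w) * x⁻¹ := by group
      rw [this, hww, mul_one, mul_inv_cancel]
    · intro h
      apply hw1
      rw [mul_inv_eq_one] at h
      exact mul_eq_left.1 h
  have htC : t ∉ zpowers c := by
    intro h
    apply hnc
    have h1 : t = w := hinv t h tt (fun h => htR (h ▸ R.one_mem))
    intro x
    have h2 := hwcen x
    rw [← h1, mul_inv_eq_iff_eq_mul] at h2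
    exact h2.symm
  have hwr : w = r := by
    rcases hC w hwR (by have h2 := hwcen t; rw [mul_inv_eq_iff_eq_mul] at h2; exact h2) with h | h
    · exact absurd h hw1
    · exact h
  -- generation
  have hgen : ∀ b ∈ R, b ∉ zpowers c → ∀ x ∈ R, ∃ i : ℕ, x = (t * b * t * b) ^ i ∨ x = (t * b * t * b) ^ i * b := by
    intro b hb hbC
    have hgC : t * b ∈ zpowers c := (hmul t b).2 ⟨fun h => absurd h htC, fun h => absurd h hbC⟩
    have hgR : t * b ∉ R := fun h => htR ((R.mul_mem_cancel_right hb).1 h)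
    obtain ⟨i, hi⟩ := hpow _ hgC
    have hodd : i % 2 = 1 := by
      by_contra h
      apply hgR
      have h2 : i = 2 * (i / 2) := by omega
      rw [hi, h2, pow_mul]
      exact R.pow_mem hc2 _
    have hcg : c ∈ zpowers (t * b) := by
      rw [hi, mem_zpowers_pow_iff, hk]
      exact Nat.Coprime.pow_right _ (Nat.coprime_two_right.2 (Nat.odd_iff.2 hodd))
    have hin : ∀ x ∈ R, x ∈ zpowers c → ∃ j : ℕ, x = (t * b * t * b) ^ j := by
      intro x hx hxC
      have h1 : x ∈ zpowers (t * b) := (zpowers_le.2 hcg) hxC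
      rw [← mem_powers_iff_mem_zpowers] at h1
      obtain ⟨j, hj⟩ := h1
      have hj' : (t * b) ^ j = x := hj
      have h2 : t * b * t * b = (t * b) ^ 2 := by rw [pow_two]; group
      have h3 : (t * b) ^ 2 ∈ R := by rw [pow_two]; exact hRmul _ _ hgR hgR
      have hj2 : j % 2 = 0 := by
        by_contra h
        apply hgR
        have h4 : j = 2 * (j / 2) + 1 := by omega
        rw [h4, pow_succ, pow_mul] at hj'
        rw [← hj'] at hx
        exact (R.mul_mem_cancel_left (R.pow_mem h3 _)).1 hx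
      refine ⟨j / 2, ?_⟩
      rw [h2, ← pow_mul, ← hj']
      congr 1
      omega
    intro x hx
    by_cases hxC : x ∈ zpowers c
    · obtain ⟨j, hj⟩ := hin x hx hxC
      exact ⟨j, Or.inl hj⟩
    · have hbC' : b⁻¹ ∉ zpowers c := fun h => hbC (by simpa using (zpowers c).inv_mem h)
      obtain ⟨j, hj⟩ := hin (x * b⁻¹) (R.mul_mem hx (R.inv_mem hb))
        ((hmul x b⁻¹).2 ⟨fun h => absurd h hxC, fun h => absurd h hbC'⟩)
      refine ⟨j, Or.inr ?_⟩
      rw [← hj, inv_mul_cancel_right]
  refine ⟨?_, ?_⟩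
  · by_cases hcR : c ∈ R
    · left
      refine ⟨fun x hx => ?_, hcR⟩
      apply hpow
      by_contra hxC
      have h1 : t * x ∈ zpowers c := (hmul t x).2 ⟨fun h => absurd h htC, fun h => absurd h hxC⟩
      have h2 : t * x ∈ R := (zpowers_le.2 hcR) h1
      exact htR ((R.mul_mem_cancel_right hx).1 h2)
    · right
      have hbR : t * c ∈ R := hRmul t c htR hcR
      have hbC : t * c ∉ zpowers c := fun h => htC (((zpowers c).mul_mem_cancel_right (mem_zpowers c)).1 h)
      refine ⟨t * c, hbR, ?_, hgen _ hbR hbC⟩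
      apply hC _ (R.mul_mem hbR hbR)
      have h1 : t * c * t ∈ zpowers c := by
        have h3 : t⁻¹ = t := inv_eq_of_mul_eq_one_right tt
        have h2 := hnorm.conj_mem c (mem_zpowers c) t
        rwa [h3] at h2
      obtain ⟨j, hj⟩ := hpow _ h1
      have h2 : t * c * t * c = c * (t * c * t) := by rw [hj, ← pow_succ, ← pow_succ']
      calc t * (t * c * (t * c)) = (t * t) * (c * (t * c)) := by group
        _ = c * (t * c) * (t * t) := by rw [tt, one_mul, mul_one]
        _ = c * (t * c * t) * t := by group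
        _ = t * c * t * c * t := by rw [h2]
        _ = t * c * (t * c) * t := by group
  · intro b hb hbb hb1 hbr
    refine hgen b hb fun h => hbr ?_
    rw [← hwr]
    exact hinv b h hbb hb1

theorem split {Q : Type u} [Group Q] [Finite Q] (hQ : IsPGroup 2 Q) (R : Subgroup Q) (t r : Q) (htR : t ∉ R)
    (ix : ∀ x, x ∉ R → t * x ∈ R) (tt : t * t = 1) (hrR : r ∈ R) (hr1 : r ≠ 1) (hr : t * r = r * t)
    (hC : ∀ x ∈ R, t * x = x * t → x = 1 ∨ x = r) :
    ((∃ c ∈ R, ∀ x ∈ R, ∃ i : ℕ, x = c ^ i) ∨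
      ∃ b ∈ R, (b * b = 1 ∨ b * b = r) ∧ ∀ x ∈ R, ∃ i : ℕ, x = (t * b * t * b) ^ i ∨ x = (t * b * t * b) ^ i * b) ∧
    ∀ b ∈ R, b * b = 1 → b ≠ 1 → b ≠ r → ∀ x ∈ R, ∃ i : ℕ, x = (t * b * t * b) ^ i ∨ x = (t * b * t * b) ^ i * b := by
  classical
  have ht1 : t ≠ 1 := fun h => htR (h ▸ R.one_mem)
  have htr : t ≠ r := fun h => htR (h ▸ hrR)
  have h4 : Nat.card ↥(centralizer ({t} : Set Q)) = 4 := by
    have e1 : ((centralizer ({t} : Set Q) : Subgroup Q) : Set Q) = ({1, r, t, t * r} : Set Q) := by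
      ext x
      rw [SetLike.mem_coe, mem_centralizer_singleton_iff]
      simp only [Set.mem_insert_iff, Set.mem_singleton_iff]
      constructor
      · intro h
        have h' : t * x = x * t := h.symm
        by_cases hx : x ∈ R
        · rcases hC x hx h' with h1 | h1
          · exact Or.inl h1
          · exact Or.inr (Or.inl h1)
        · rcases hC (t * x) (ix x hx) (by rw [mul_assoc t x t, ← h']) with h1 | h1
          · right; right; left
            have := congrArg (fun y => t * y) h1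
            simp only [← mul_assoc, tt, one_mul, mul_one] at this
            exact this
          · right; right; right
            have := congrArg (fun y => t * y) h1
            simp only [← mul_assoc, tt, one_mul] at this
            exact this
      · rintro (rfl | rfl | rfl | rfl)
        · rw [one_mul, mul_one]
        · exact hr.symm
        · rfl
        · rw [mul_assoc, ← hr]
    have e2 : Nat.card ↥(centralizer ({t} : Set Q)) = ({1, r, t, t * r} : Set Q).ncard := by
      rw [← e1]; rfl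
    rw [e2]
    have n1 : (1 : Q) ∉ ({r, t, t * r} : Set Q) := by
      simp only [Set.mem_insert_iff, Set.mem_singleton_iff]
      rintro (h | h | h)
      · exact hr1 h.symm
      · exact ht1 h.symm
      · apply htr
        have := congrArg (fun y => t * y) h
        simp only [← mul_assoc, tt, one_mul, mul_one] at this
        exact this
    have n2 : r ∉ ({t, t * r} : Set Q) := by
      simp only [Set.mem_insert_iff, Set.mem_singleton_iff]
      rintro (h | h)
      · exact htr h.symm
      · exact ht1 (right_eq_mul.1 h)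
    have n3 : t ∉ ({t * r} : Set Q) := by
      simp only [Set.mem_singleton_iff]
      intro h
      exact hr1 (left_eq_mul.1 h)
    rw [Set.ncard_insert_of_notMem n1, Set.ncard_insert_of_notMem n2, Set.ncard_insert_of_notMem n3, Set.ncard_singleton]
  by_cases hnc : ∀ x : Q, t * x = x * t
  · refine ⟨Or.inl ⟨r, hrR, fun x hx => ?_⟩, fun b hb _ hb1 hbr => ?_⟩
    · rcases hC x hx (hnc x) with h | h
      · exact ⟨0, by rw [h, pow_zero]⟩
      · exact ⟨1, by rw [h, pow_one]⟩
    · rcases hC b hb (hnc b) with h | h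
      · exact absurd h hb1
      · exact absurd h hbr
  have ho : orderOf t = 2 := orderOf_eq_prime (by rw [pow_two, tt]) ht1
  have h8 : Nat.card Q ≠ 4 := by
    intro h
    apply hnc
    have e1 : centralizer ({t} : Set Q) = ⊤ := Subgroup.eq_top_of_card_eq _ (by rw [h4, h])
    intro x
    have h5 : x ∈ centralizer ({t} : Set Q) := by rw [e1]; trivial
    rw [mem_centralizer_singleton_iff] at h5
    exact h5.symm
  obtain ⟨n, hn⟩ := IsPGroup.iff_card.1 hQ
  have hdvd : 4 ∣ Nat.card Q := by rw [← h4]; exact card_subgroup_dvd_card _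
  have hn3 : 3 ≤ n := by
    by_contra h
    have h5 : n = 0 ∨ n = 1 ∨ n = 2 := by omega
    rcases h5 with rfl | rfl | rfl
    · rw [hn] at hdvd; norm_num at hdvd
    · rw [hn] at hdvd; norm_num at hdvd
    · exact h8 (by rw [hn]; norm_num)
  obtain ⟨c, hc⟩ : ∃ c : Q, Nat.card Q = 2 * orderOf c := by
    rcases Cfsg.Agent.S3224.result hQ t ho h4 with ⟨m, ⟨e⟩⟩ | ⟨m, hm, hcard, x, y, hx, hy, hxy⟩ | h
    · refine ⟨e.symm (DihedralGroup.r 1), ?_⟩
      rw [MulEquiv.orderOf_eq, DihedralGroup.orderOf_r_one, Nat.card_congr e.toEquiv, DihedralGroup.nat_card]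
    · exact ⟨x, by rw [hx, hcard]; ring⟩
    · exact absurd h h8
  have hk : orderOf c = 2 ^ ((n - 3) + 2) := by
    have h5 : 2 * orderOf c = 2 * 2 ^ ((n - 3) + 2) := by
      rw [← hc, hn, ← pow_succ']
      congr 1
      omega
    exact Nat.eq_of_mul_eq_mul_left (by norm_num) h5
  obtain ⟨h5, h6⟩ := p3a_main R t r htR ix tt hrR hr1 hr hC c (n - 3) hk hc hnc
  refine ⟨?_, h6⟩
  rcases h5 with h5 | h5
  · exact Or.inl ⟨c, h5.2, h5.1⟩
  · exact Or.inr h5

end Cfsg.Agent.Lib.H17A
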