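import Cfsg.Agent.Lib.H17A1
import Cfsg.Agent.Lib.H17AP3a

/-! Piece P3b of S1914 (helper61 for helper17). -/

set_option autoImplicit false

namespace Cfsg.Agent.Lib.H17A

open Cfsg

universe u

section
variable {X : Type u} [Group X] [Finite X] {A S T : Subgroup X} {t r z v : X}

theorem p3b_all (L : Loc A S T t r z) (F : Four S T z v) :
    (SCyc S z v ∨ ∃ b ∈ S, (b * b ∈ V4 z v ∨ r * (b * b) ∈ V4 z v) ∧ SGen S t z v b) ∧
    (∀ b ∈ S, b * b ∈ V4 z v → b ∉ V4 z v → r * b ∉ V4 z v → SGen S t z v b) := by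
  have hST : ∀ {x}, x ∈ S → x ∈ T := fun {x} h => ((L.ST x).1 h).1
  have hSA : ∀ {x}, x ∈ S → x ∈ A := fun {x} h => ((L.ST x).1 h).2
  have hzS : z ∈ S := L.rz ▸ S.mul_mem L.rS L.rS
  have hvzc : v * z = z * v := zT L v (hST F.vS)
  have hVS : ∀ x ∈ V4 z v, x ∈ S := by
    rintro x (rfl | rfl | rfl | rfl)
    · exact S.one_mem
    · exact hzS
    · exact F.vS
    · exact S.mul_mem F.vS hzS
  have hVsq : ∀ x ∈ V4 z v, x * x = 1 := by
    rintro x (rfl | rfl | rfl | rfl)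
    · simp
    · exact L.zz
    · exact F.vv
    · calc v * z * (v * z) = v * (z * v) * z := by group
        _ = v * (v * z) * z := by rw [hvzc]
        _ = (v * v) * (z * z) := by group
        _ = 1 := by rw [F.vv, L.zz, one_mul]
  have hVmul : ∀ x ∈ V4 z v, ∀ y ∈ V4 z v, x * y ∈ V4 z v := by
    have e1 : z * v = v * z := hvzc.symm
    have e2 : z * (v * z) = v := by rw [← mul_assoc, e1, mul_assoc, L.zz, mul_one]
    have e3 : v * (v * z) = z := by rw [← mul_assoc, F.vv, one_mul]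
    have e4 : v * z * z = v := by rw [mul_assoc, L.zz, mul_one]
    have e5 : v * z * v = z := by rw [mul_assoc, e1, e3]
    have e6 : v * z * (v * z) = 1 := by rw [mul_assoc, e2, F.vv]
    rintro x (rfl | rfl | rfl | rfl) y (rfl | rfl | rfl | rfl) <;>
      simp [V4, L.zz, F.vv, e1, e2, e3, e4, e5, e6]
  have hVinv : ∀ x ∈ V4 z v, x⁻¹ ∈ V4 z v := by
    intro x hx
    have : x⁻¹ = x := inv_eq_of_mul_eq_one_right (hVsq x hx)
    rwa [this]
  have hVconj : ∀ g ∈ T, ∀ x ∈ V4 z v, g * x * g⁻¹ ∈ V4 z v := by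
    intro g hg
    have hgz : g * z * g⁻¹ = z := by rw [zT L g hg, mul_inv_cancel_right]
    rintro x (rfl | rfl | rfl | rfl)
    · left; simp
    · right; left; exact hgz
    · rcases F.hv g hg with h | h
      · right; right; left; exact h
      · right; right; right; exact h
    · have h1 : g * (v * z) * g⁻¹ = (g * v * g⁻¹) * (g * z * g⁻¹) := by group
      rw [h1, hgz]
      rcases F.hv g hg with h | h
      · rw [h]; right; right; right; rfl
      · rw [h, mul_assoc, L.zz, mul_one]; right; right; left; rfl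
  let VT : Subgroup T :=
    { carrier := {x | (x : X) ∈ V4 z v}
      one_mem' := by left; rfl
      mul_mem' := fun {a b} ha hb => hVmul _ ha _ hb
      inv_mem' := fun {a} ha => hVinv _ ha }
  have hVTmem : ∀ x : T, x ∈ VT ↔ (x : X) ∈ V4 z v := fun x => Iff.rfl
  have hVTn : VT.Normal := ⟨fun n hn g => by
    rw [hVTmem] at hn ⊢
    exact hVconj g g.2 n hn⟩
  let π : T →* T ⧸ VT := QuotientGroup.mk' VT
  have hπ1 : ∀ x : T, π x = 1 ↔ (x : X) ∈ V4 z v := fun x => by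
    rw [← hVTmem]; exact QuotientGroup.eq_one_iff x
  have hπe : ∀ x y : T, π x = π y ↔ ((x : X)⁻¹ * y) ∈ V4 z v := fun x y => by
    have h0 : π x = π y ↔ π (x⁻¹ * y) = 1 := by
      rw [map_mul, map_inv, inv_mul_eq_one]
    rw [h0, hπ1]; rfl
  let tq : T := ⟨t, L.tT⟩
  let rq : T := ⟨r, hST L.rS⟩
  let R : Subgroup (T ⧸ VT) := (S.subgroupOf T).map π
  have hRmem : ∀ {x : T}, (x : X) ∈ S → π x ∈ R := fun {x} hx =>
    Subgroup.mem_map_of_mem π (Subgroup.mem_subgroupOf.mpr hx)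
  have hRex : ∀ {q : T ⧸ VT}, q ∈ R → ∃ s : X, ∃ hs : s ∈ S, π ⟨s, hST hs⟩ = q := by
    rintro q ⟨x, hx, rfl⟩
    exact ⟨x, Subgroup.mem_subgroupOf.mp hx, rfl⟩
  have hrr : π rq * π rq = 1 := by
    rw [← map_mul, hπ1]
    show r * r ∈ V4 z v
    rw [L.rz]; right; left; rfl
  have hrV : r ∉ V4 z v := by
    intro h
    have := hVsq r h
    rw [L.rz] at this
    exact L.z1 this
  have htinv : t⁻¹ = t := inv_eq_of_mul_eq_one_right L.tt
  have key := split (Q := T ⧸ VT) (L.p2.to_quotient VT) R (π tq) (π rq)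
    (by
      intro h
      obtain ⟨s, hs, h1⟩ := hRex h
      rw [hπe] at h1
      have h2 : s⁻¹ * t ∈ S := hVS _ h1
      have h3 : t ∈ S := by
        have := S.mul_mem hs h2
        rwa [mul_inv_cancel_left] at this
      exact L.tA (hSA h3))
    (by
      intro x hx
      obtain ⟨y, rfl⟩ := QuotientGroup.mk'_surjective VT x
      have hyA : (y : X) ∉ A := by
        intro h
        exact hx (hRmem ((L.ST _).2 ⟨y.2, h⟩))
      have h1 : t * (y : X) ∈ A := L.ix _ hyA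
      have h2 : t * (y : X) ∈ S := (L.ST _).2 ⟨T.mul_mem L.tT y.2, h1⟩
      show π tq * π y ∈ R
      rw [← map_mul]
      exact hRmem h2)
    (by
      rw [← map_mul, hπ1]
      show t * t ∈ V4 z v
      rw [L.tt]; left; rfl)
    (hRmem L.rS)
    (by rw [Ne, hπ1]; exact hrV)
    (by
      rw [← map_mul, ← map_mul]
      congr 1
      exact Subtype.ext L.tr)
    (by
      intro x hx h
      obtain ⟨s, hs, rfl⟩ := hRex hx
      rw [← map_mul, ← map_mul, eq_comm, hπe] at h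
      have h1 : (s * t)⁻¹ * (t * s) ∈ V4 z v := h
      have h2 : t * s * t * s⁻¹ ∈ V4 z v := by
        have h3 := hVconj _ (T.mul_mem (hST hs) L.tT) _ h1
        have h4 : s * t * ((s * t)⁻¹ * (t * s)) * (s * t)⁻¹ = t * s * t * s⁻¹ := by
          rw [mul_inv_cancel_left, mul_inv_rev, htinv]
          group
        rwa [h4] at h3
      rcases cbar L F s hs h2 with h5 | h5
      · left; exact (hπ1 _).mpr h5
      · right
        have h6 : π rq * π ⟨s, hST hs⟩ = 1 := by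
          rw [← map_mul, hπ1]; exact h5
        have h7 : π rq * π ⟨s, hST hs⟩ = π rq * π rq := by rw [h6, hrr]
        exact mul_left_cancel h7)
  obtain ⟨k1, k2⟩ := key
  have hw : ∀ (s g : X) (hs : s ∈ S) (hg : g ∈ T), π ⟨s, hST hs⟩ = π ⟨g, hg⟩ →
      ∃ w ∈ V4 z v, s = g * w := by
    intro s g hs hg h
    rw [eq_comm, hπe] at h
    exact ⟨g⁻¹ * s, h, by group⟩
  have hgen : ∀ b ∈ S, ∀ hb : b ∈ S, (∀ x ∈ R, ∃ i : ℕ,
      x = (π tq * π ⟨b, hST hb⟩ * π tq * π ⟨b, hST hb⟩) ^ i ∨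
      x = (π tq * π ⟨b, hST hb⟩ * π tq * π ⟨b, hST hb⟩) ^ i * π ⟨b, hST hb⟩) →
      SGen S t z v b := by
    intro b _ hb h s hs
    have hcT : t * b * t * b ∈ T :=
      T.mul_mem (T.mul_mem (T.mul_mem L.tT (hST hb)) L.tT) (hST hb)
    have hcq : π tq * π ⟨b, hST hb⟩ * π tq * π ⟨b, hST hb⟩ = π ⟨t * b * t * b, hcT⟩ := by
      rw [← map_mul, ← map_mul, ← map_mul]; rfl
    obtain ⟨i, hi | hi⟩ := h (π ⟨s, hST hs⟩) (hRmem hs)
    · rw [hcq, ← map_pow] at hi
      obtain ⟨w, hwV, hsw⟩ := hw s ((t * b * t * b) ^ i) hs (T.pow_mem hcT i) hi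
      exact ⟨i, w, hwV, Or.inl hsw⟩
    · rw [hcq, ← map_pow, ← map_mul] at hi
      obtain ⟨w, hwV, hsw⟩ := hw s ((t * b * t * b) ^ i * b) hs
        (T.mul_mem (T.pow_mem hcT i) (hST hb)) hi
      exact ⟨i, w, hwV, Or.inr hsw⟩
  refine ⟨?_, ?_⟩
  · rcases k1 with ⟨c, hc, hall⟩ | ⟨b, hb, hbb, hall⟩
    · left
      obtain ⟨c0, hc0, rfl⟩ := hRex hc
      refine ⟨c0, hc0, fun s hs => ?_⟩
      obtain ⟨i, hi⟩ := hall _ (hRmem (x := ⟨s, hST hs⟩) hs)
      rw [← map_pow] at hi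
      obtain ⟨w, hwV, hsw⟩ := hw s (c0 ^ i) hs (T.pow_mem (hST hc0) i) hi
      exact ⟨i, w, hwV, hsw⟩
    · right
      obtain ⟨b0, hb0, rfl⟩ := hRex hb
      refine ⟨b0, hb0, ?_, hgen b0 hb0 hb0 hall⟩
      rcases hbb with h | h
      · left
        rw [← map_mul, hπ1] at h
        exact h
      · right
        have h2 : π rq * (π ⟨b0, hST hb0⟩ * π ⟨b0, hST hb0⟩) = 1 := by rw [h, hrr]
        rw [← map_mul, ← map_mul, hπ1] at h2
        exact h2
  · intro b hb h1 h2 h3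
    refine hgen b hb hb (k2 (π ⟨b, hST hb⟩) (hRmem hb) ?_ ?_ ?_)
    · rw [← map_mul, hπ1]; exact h1
    · rw [Ne, hπ1]; exact h2
    · intro h
      apply h3
      have h4 : π rq * π ⟨b, hST hb⟩ = 1 := by rw [h, hrr]
      rw [← map_mul, hπ1] at h4
      exact h4

theorem struct (L : Loc A S T t r z) (F : Four S T z v) :
    SCyc S z v ∨ ∃ b ∈ S, (b * b ∈ V4 z v ∨ r * (b * b) ∈ V4 z v) ∧ SGen S t z v b :=
  (p3b_all L F).1

theorem struct_inv (L : Loc A S T t r z) (F : Four S T z v) :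
    ∀ b ∈ S, b * b ∈ V4 z v → b ∉ V4 z v → r * b ∉ V4 z v → SGen S t z v b :=
  (p3b_all L F).2

end

end Cfsg.Agent.Lib.H17A
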