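import Cfsg.Agent.Lib.H17AG
import Cfsg.Agent.Lib.H17AF1
import Cfsg.Agent.Lib.H17AF2
import Cfsg.Agent.Lib.H17AF3
import Cfsg.Agent.Lib.H17AF4
import Cfsg.Agent.Lib.H17AP3b
import Cfsg.Agent.Lib.H17AL1
import Cfsg.Agent.Lib.H17AL2
import Cfsg.Agent.Lib.H17AL3
import Cfsg.Agent.Lib.H17AL4
import Cfsg.Agent.Lib.H17AL5
import Cfsg.Agent.Lib.H17AL6
import Cfsg.Agent.Lib.H17AC1
import Cfsg.Agent.Lib.H17AC2
import Cfsg.Agent.Lib.H17AC3

set_option autoImplicit false

namespace Cfsg.Agent.Lib.H17A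

open Cfsg

universe u

section
variable {X : Type u} [Group X] [Finite X] {A S T : Subgroup X} {t r z v : X}

-- assembly of the local part
theorem caseI (L : Loc A S T t r z) (Fu : Fus A S T t r z) (F : Four S T z v) : False := by
  by_cases hc : ∀ s ∈ S, s * v = v * s
  · by_cases hn : ∀ u ∈ V4 z v, ∀ w ∈ V4 z v, ∀ a ∈ A, a * u * a⁻¹ = w → u = w
    · by_cases hi : ∀ s ∈ S, s * s = 1 → s ∈ V4 z v
      · exact leaf1 L Fu F hc (struct L F) hn hi
      · push Not at hi
        obtain ⟨b, hb, hbb, hbV⟩ := hi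
        exact leaf2 L Fu F hc (struct_inv L F) hn b hb hbb hbV
    · push Not at hn
      obtain ⟨u, hu, w, hw, a, ha, h1, h2⟩ := hn
      have hzS : z ∈ S := L.rz ▸ S.mul_mem L.rS L.rS
      have hVS : ∀ x ∈ V4 z v, x ∈ S := by
        rintro x (rfl | rfl | rfl | rfl)
        · exact S.one_mem
        · exact hzS
        · exact F.vS
        · exact S.mul_mem F.vS hzS
      have hVc : ∀ x ∈ V4 z v, ∀ s ∈ S, s * x = x * s := by
        have hz : ∀ s ∈ S, s * z = z * s := fun s hs => zT L s ((L.ST s).1 hs).1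
        rintro x (rfl | rfl | rfl | rfl) s hs
        · simp
        · exact hz s hs
        · exact hc s hs
        · rw [← mul_assoc, hc s hs, mul_assoc, hz s hs, mul_assoc]
      obtain ⟨n, hnA, hnS, hnu⟩ := Fu.burn u (hVS u hu) w (hVS w hw) (hVc u hu) (hVc w hw) a ha h1
      exact leaf3 L Fu F hc (struct L F) n hnA hnS u hu (by rw [hnu]; exact fun h => h2 h.symm)
  · by_cases hbig : ∃ s ∈ S, s ∉ V4 z v ∧ r * s ∉ V4 z v
    · rcases struct L F with h | ⟨b, hb, h | h, hS⟩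
      · exact leaf5 L Fu F hc (Or.inl h) hbig
      · exact leaf6 L Fu F hc b hb h hS hbig
      · exact leaf5 L Fu F hc (Or.inr ⟨b, hb, h, hS⟩) hbig
    · refine leaf4 L Fu F hc fun s hs => ?_
      by_contra h
      push Not at h
      exact hbig ⟨s, hs, h⟩

theorem local_main (L : Loc A S T t r z) (Fu : Fus A S T t r z) : ∀ s ∈ S, s * s = 1 → s = 1 ∨ s = z := by
  by_cases hno : ∃ v, Four S T z v
  · obtain ⟨v, F⟩ := hno
    exact (caseI L Fu F).elim
  · rcases two1 L hno with h | ⟨m, ⟨e⟩⟩ | h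
    · exact h
    · exact (two2 L hno m e).elim
    · exact (two3 L Fu h).elim


theorem local_main' (L : Loc A S T t r z) (hA : Cfsg.layer A = ⊤)
    (hct : ∀ g : X, ∀ Q : Subgroup X, Q ≤ S → (∀ q ∈ Q, g * t * g⁻¹ * q = q * (g * t * g⁻¹)) → Nat.card Q ≤ 4) :
    ∀ s ∈ S, s * s = 1 → s = 1 ∨ s = z :=
  local_main L
    { zstar := fus_zstar L hA
      iso2 := fus_iso2 L hA
      tt2 := fus_tt2 L hA
      ext := fus_ext L
      burn := fus_burn L
      foc := fus_foc L hA
      two := fus_two L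
      z44 := fus_z44 L hA
      ct := hct }

end

end Cfsg.Agent.Lib.H17A
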