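import Cfsg.Agent.Lib.FusionSys
import Cfsg.Agent.Lib.FocalTools
import Cfsg.Agent.Lib.FusionGrp
import Cfsg.Agent.Lib.Transfer
import Cfsg.Agent.S5225
import Cfsg.Agent.S5234
import Cfsg.Agent.S1447
import Cfsg.Prelude.Def_IsolatedElements

/-! Group form of Yoshida's theorem; the power map principle for isolated elements. -/

set_option autoImplicit false
open Cfsg Cfsg.FusionSystem Cfsg.Agent.Lib.FusionBasic Cfsg.Agent.Lib.FusionSat

namespace Cfsg.Agent.Lib.H17Pc

open Subgroup

variable {G : Type*} [Group G] [Finite G] {p : ℕ} [hp : Fact p.Prime]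

theorem focal_le_fusion (S : Sylow p G) :
    (S : Subgroup G).focalSubgroup ≤ (groupFusionSystem (S : Subgroup G)).focalSubgroup := by
  apply FocalTools.focal_le
  rintro s hs t ht hst
  obtain ⟨u, rfl⟩ := isConj_iff.1 hst
  refine FusionFocal.mem_focal (F := groupFusionSystem (S : Subgroup G)) (P := zpowers s)
    (f := fun x => u * x * u⁻¹) (fmap_group_iff.2 ⟨?_, ?_, u, fun x _ => rfl⟩) (mem_zpowers s)
  · rw [zpowers_le]; exact hs
  · rintro _ ⟨n, rfl⟩
    show u * s ^ n * u⁻¹ ∈ (S : Subgroup G)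
    rw [← conj_zpow]
    exact zpow_mem ht n

/-- **Yoshida's theorem** for groups -/
theorem yoshida (S : Sylow p G) : (∃ (W : Sylow p (Equiv.Perm (Fin (p ^ 2))))
      (f : ↥(S : Subgroup G) →* ↥(W : Subgroup (Equiv.Perm (Fin (p ^ 2))))), Function.Surjective f) ∨
    ∀ D : Subgroup G, (∀ x ∈ (S : Subgroup G), ∀ g ∈ normalizer ((S : Subgroup G) : Set G),
      x⁻¹ * (g * x * g⁻¹) ∈ D) → (S : Subgroup G).focalSubgroup ≤ D := by
  by_cases hne : (FusionSys.normSys (groupFusionSystem (S : Subgroup G)) (S : Subgroup G) le_rfl).focalSubgroup ≠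
      (groupFusionSystem (S : Subgroup G)).focalSubgroup
  · left
    exact S5225.result p S.isPGroup' (groupFusionSystem (S : Subgroup G))
      (FusionGroup.groupFusionSystem_isSaturated S) _ FusionSys.isNormalizerSystem_normSys hne
  · right
    push Not at hne
    intro D hD
    refine (focal_le_fusion S).trans ?_
    rw [← hne, FusionFocal.focalSubgroup_eq, closure_le]
    rintro _ ⟨P, f, hf, x, hx, rfl⟩
    rw [FusionSys.fmap_normSys] at hf
    obtain ⟨hP, -, g, hg, hgf, hiso⟩ := hf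
    rw [fmap_group_iff] at hg
    obtain ⟨-, -, u, hu⟩ := hg
    have hun : u ∈ normalizer ((S : Subgroup G) : Set G) := by
      apply FusionGrp.mem_normalizer_of_conj_mem
      intro y hy
      rw [← hu y (mem_sup_right hy)]
      exact hiso.mem hy
    rw [← hgf x hx, hu x (mem_sup_left hx)]
    exact hD x (hP hx).1 u hun

/-- metacyclic Sylow `p`-subgroup, `p` odd -/
theorem focal_le_of_metacyclic (hp2 : p ≠ 2) (S : Sylow p G) (hm : IsMetacyclic ↥(S : Subgroup G)) (D : Subgroup G)
    (hD : ∀ x ∈ (S : Subgroup G), ∀ g ∈ normalizer ((S : Subgroup G) : Set G), x⁻¹ * (g * x * g⁻¹) ∈ D) :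
    (S : Subgroup G).focalSubgroup ≤ D := by
  have hN := S5234.result p S.isPGroup' (groupFusionSystem (S : Subgroup G))
    (FusionGroup.groupFusionSystem_isSaturated S) (S : Subgroup G)
    ⟨le_rfl, fun R _ φ hφ x => ((groupFusionSystem (S : Subgroup G)).le_of_mem hφ).2 x⟩ hp2 hm
  refine (focal_le_fusion S).trans ?_
  unfold FusionSystem.focalSubgroup
  rw [closure_le]
  rintro _ ⟨P, φ, x, hφ, rfl⟩
  have hPS := ((groupFusionSystem (S : Subgroup G)).le_of_mem hφ).1
  obtain ⟨ψ, hψ, h1, h2⟩ := hN.2 P φ hφ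
  obtain ⟨-, h3, u, hu⟩ := hψ
  have hun : u ∈ normalizer ((S : Subgroup G) : Set G) := by
    apply FusionGrp.mem_normalizer_of_conj_mem
    intro y hy
    have h5 := h3 (inclusion le_sup_right ⟨y, hy⟩)
    rwa [hu] at h5
  have h4 : φ x = u * x * u⁻¹ := by
    rw [← h1 x, hu]; rfl
  rw [h4]
  exact hD x (hPS x.2) u hun

theorem commutator_eq_top [IsSimpleGroup G] (hna : ¬ IsMulCommutative G) : _root_.commutator G = ⊤ := by
  rcases IsSimpleGroup.eq_bot_or_eq_top_of_normal (_root_.commutator G) inferInstance with h | h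
  · exfalso
    apply hna
    refine ⟨⟨fun a b => ?_⟩⟩
    have h1 : a * b * a⁻¹ * b⁻¹ ∈ _root_.commutator G := commutator_mem_commutator (mem_top a) (mem_top b)
    rw [h, mem_bot, mul_inv_eq_one, mul_inv_eq_iff_eq_mul] at h1
    exact h1
  · exact h

/-- the focal subgroup in a simple group -/
theorem eq_of_focal_le [IsSimpleGroup G] (hna : ¬ IsMulCommutative G) (S : Sylow p G) {D : Subgroup G}
    (hDS : D ≤ (S : Subgroup G)) (hD : (S : Subgroup G).focalSubgroup ≤ D) : D = (S : Subgroup G) := by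
  obtain ⟨K, -, hK1, hK2, -, -⟩ := FocalTools.exists_normal_of_focal_le S D hDS hD
  rw [commutator_eq_top hna, top_le_iff] at hK1
  rw [hK1, top_inf_eq] at hK2
  exact hK2.symm

/-- conjugates of powers of an isolated element -/
theorem isolated_pow {x : G} (hx : orderOf x = p) (hiso : IsIsolated x) {a b g : G} (ha : a ∈ zpowers x)
    (hb : b ∈ zpowers x) (hg : g * a * g⁻¹ = b) : b = a := by
  by_cases ha1 : a = 1
  · subst ha1; rw [← hg]; simp
  · obtain ⟨n, rfl⟩ := ha
    have hxa : x ∈ zpowers (x ^ n) := by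
      have h1 : Nat.card (zpowers x) = p := by rw [Nat.card_zpowers, hx]
      have h2 : zpowers (⟨x ^ n, zpow_mem (mem_zpowers x) n⟩ : zpowers x) = ⊤ :=
        zpowers_eq_top_of_prime_card h1 (fun h => ha1 (congrArg Subtype.val h))
      have h3 : (⟨x, mem_zpowers x⟩ : zpowers x) ∈ zpowers (⟨x ^ n, zpow_mem (mem_zpowers x) n⟩ : zpowers x) := by
        rw [h2]; exact mem_top _
      obtain ⟨m, hm⟩ := h3
      exact ⟨m, congrArg Subtype.val hm⟩
    obtain ⟨m, hm⟩ := hxa
    have h4 : g * x * g⁻¹ ∈ zpowers x := by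
      have h5 : g * x * g⁻¹ = b ^ m := by
        rw [← hg, conj_zpow]
        show _ = g * (x ^ n) ^ m * g⁻¹
        rw [show (x ^ n) ^ m = x from hm]
      rw [h5]; exact zpow_mem hb m
    obtain ⟨k, hk⟩ := h4
    have h6 : g * x * g⁻¹ = x := hiso g (by rw [← hk]; exact (Commute.refl x).zpow_right k)
    rw [← hg, ← conj_zpow, h6]

/-- **the power map principle** -/
theorem power_principle [IsSimpleGroup G] (hna : ¬ IsMulCommutative G) (S : Sylow p G) {x : G} (hx : orderOf x = p)
    (hiso : IsIsolated x) (n : ℕ)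
    (h1 : ∀ g ∈ (S : Subgroup G), ∀ h ∈ (S : Subgroup G), (g * h) ^ n = g ^ n * h ^ n)
    (h2 : ∀ g ∈ (S : Subgroup G), g ^ n ∈ zpowers x) (h3 : ∃ g ∈ (S : Subgroup G), g ^ n ≠ 1) : False := by
  let D : Subgroup G :=
    { carrier := {g | g ∈ (S : Subgroup G) ∧ g ^ n = 1}
      one_mem' := ⟨one_mem _, one_pow _⟩
      mul_mem' := by
        rintro a b ⟨ha, ha'⟩ ⟨hb, hb'⟩
        exact ⟨mul_mem ha hb, by rw [h1 a ha b hb, ha', hb', one_mul]⟩
      inv_mem' := by
        rintro a ⟨ha, ha'⟩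
        exact ⟨inv_mem ha, by rw [inv_pow, ha', inv_one]⟩ }
  have hD : D = (S : Subgroup G) := by
    refine eq_of_focal_le hna S (fun g hg => (show g ∈ (S : Subgroup G) ∧ g ^ n = 1 from hg).1) ?_
    apply FocalTools.focal_le
    intro s hs t ht hst
    obtain ⟨u, rfl⟩ := isConj_iff.1 hst
    refine ⟨mul_mem (inv_mem hs) ht, ?_⟩
    rw [h1 _ (inv_mem hs) _ ht, inv_pow, inv_mul_eq_one]
    have h4 := h2 _ ht
    rw [conj_pow] at h4 ⊢
    exact (isolated_pow hx hiso (h2 s hs) h4 rfl).symm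
  obtain ⟨g, hg, hg'⟩ := h3
  rw [← hD] at hg
  exact hg' hg.2

omit hp in
/-- a complement to a Sylow subgroup in its normalizer -/
theorem exists_compl [Fact p.Prime] (S : Sylow p G) : ∃ A : Subgroup G, A ≤ normalizer ((S : Subgroup G) : Set G) ∧
    (Nat.card A).Coprime p ∧ ∀ g ∈ normalizer ((S : Subgroup G) : Set G), ∃ s ∈ (S : Subgroup G), ∃ a ∈ A, g = s * a := by
  set N := normalizer ((S : Subgroup G) : Set G) with hNdef
  have hSN : (S : Subgroup G) ≤ N := le_normalizer
  have hnorm : ((S : Subgroup G).subgroupOf N).Normal := by rw [hNdef]; infer_instance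
  have h2 : ¬ p ∣ (S : Subgroup G).relIndex N := fun h => S.not_dvd_index (h.trans (relIndex_dvd_index_of_le hSN))
  have hcard : Nat.card ((S : Subgroup G).subgroupOf N) = Nat.card (S : Subgroup G) :=
    Nat.card_congr (subgroupOfEquivOfLe hSN).toEquiv
  have hcop : (Nat.card ((S : Subgroup G).subgroupOf N)).Coprime ((S : Subgroup G).subgroupOf N).index := by
    rw [hcard]
    obtain ⟨k, hk⟩ := IsPGroup.iff_card.1 S.isPGroup'
    rw [hk]
    exact Nat.Coprime.pow_left _ (((Fact.out : p.Prime).coprime_iff_not_dvd).2 h2)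
  obtain ⟨H, hH⟩ := exists_right_complement'_of_coprime hcop
  refine ⟨H.map N.subtype, map_subtype_le H, ?_, fun g hg => ?_⟩
  · rw [card_map_of_injective N.subtype_injective, ← hH.symm.index_eq_card]
    exact (((Fact.out : p.Prime).coprime_iff_not_dvd).2 h2).symm
  · obtain ⟨⟨s, a⟩, hsa⟩ := hH.2 (⟨g, hg⟩ : N)
    refine ⟨s, ?_, a, mem_map_of_mem _ a.2, ?_⟩
    · exact mem_subgroupOf.1 s.2
    · exact (congrArg Subtype.val hsa).symm

/-- an isolated element of a metacyclic Sylow `p`-subgroup, `p` odd: impossible in a simple group -/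
theorem not_metacyclic [IsSimpleGroup G] (hna : ¬ IsMulCommutative G) (hp2 : p ≠ 2) (S : Sylow p G) {x : G}
    (hx : orderOf x = p) (hxS : x ∈ (S : Subgroup G))
    (hN : normalizer ((S : Subgroup G) : Set G) ≤ centralizer {x})
    (hm : IsMetacyclic ↥(S : Subgroup G)) : False := by
  obtain ⟨A, hAN, hAcop, hA⟩ := exists_compl S
  obtain ⟨h1, h2, h3, -⟩ := S1447.result p hp2 (S : Subgroup G) A S.isPGroup' hm hAN hAcop
  -- `[S, A] S' = S`
  have hle : ⁅(S : Subgroup G), A⁆ ≤ (S : Subgroup G) := by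
    rw [commutator_le]
    intro s hs a ha
    rw [commutatorElement_def, mul_assoc, mul_assoc]
    refine mul_mem hs ?_
    rw [← mul_assoc]
    exact (mem_normalizer_iff.1 (hAN ha) _).1 (inv_mem hs)
  have hle' : ⁅(S : Subgroup G), (S : Subgroup G)⁆ ≤ (S : Subgroup G) := by
    rw [commutator_le]
    intro s hs a ha
    rw [commutatorElement_def]
    exact mul_mem (mul_mem (mul_mem hs ha) (inv_mem hs)) (inv_mem ha)
  have hS : ⁅(S : Subgroup G), A⁆ ⊔ ⁅(S : Subgroup G), (S : Subgroup G)⁆ = (S : Subgroup G) := by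
    apply eq_of_focal_le hna S (sup_le hle hle')
    apply focal_le_of_metacyclic hp2 S hm
    intro u hu g hg
    obtain ⟨s, hs, a, ha, rfl⟩ := hA g hg
    have e1 : u⁻¹ * (s * a * u * (s * a)⁻¹) = (u⁻¹ * s * u * s⁻¹) * (s * (u⁻¹ * (a * u * a⁻¹)) * s⁻¹) := by group
    rw [e1]
    refine mul_mem ?_ ?_
    · refine mem_sup_right ?_
      have := commutator_mem_commutator (inv_mem hu) hs
      rwa [commutatorElement_def, inv_inv] at this
    · have h4 : u⁻¹ * (a * u * a⁻¹) ∈ ⁅(S : Subgroup G), A⁆ := by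
        have := commutator_mem_commutator (inv_mem hu) ha
        rw [commutatorElement_def, inv_inv] at this
        rwa [← mul_assoc, ← mul_assoc]
      have e2 : s * (u⁻¹ * (a * u * a⁻¹)) * s⁻¹ = (s * (u⁻¹ * (a * u * a⁻¹)) * s⁻¹ * (u⁻¹ * (a * u * a⁻¹))⁻¹) *
        (u⁻¹ * (a * u * a⁻¹)) := by group
      rw [e2]
      refine mul_mem (mem_sup_right ?_) (mem_sup_left h4)
      exact commutator_mem_commutator hs (hle h4)
  have hx1 : x ≠ 1 := by
    rintro rfl
    rw [orderOf_one] at hx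
    exact hp.out.one_lt.ne hx
  have hSS : ⁅(S : Subgroup G), (S : Subgroup G)⁆ ≠ (S : Subgroup G) := by
    intro h
    have hnil : Group.IsNilpotent ↥(S : Subgroup G) := S.isPGroup'.isNilpotent
    have hnt : Nontrivial ↥(S : Subgroup G) := ⟨⟨⟨x, hxS⟩, 1, fun h => hx1 (congrArg Subtype.val h)⟩⟩
    have h4 := Group.IsSolvable.commutator_lt_top_of_nontrivial ↥(S : Subgroup G)
    rw [← map_subtype_commutator] at h
    apply h4.ne
    apply map_injective (S : Subgroup G).subtype_injective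
    rw [h, ← MonoidHom.range_eq_map, range_subtype]
  have hxA : x ∈ (S : Subgroup G) ⊓ centralizer (A : Set G) := by
    refine ⟨hxS, mem_centralizer_iff.2 fun a ha => ?_⟩
    have := hN (hAN ha)
    rw [mem_centralizer_singleton_iff] at this
    exact this
  by_cases hab : IsMulCommutative ↥(S : Subgroup G)
  · have h4 : ⁅(S : Subgroup G), (S : Subgroup G)⁆ = ⊥ := by
      rw [eq_bot_iff, commutator_le]
      intro a ha b hb
      rw [mem_bot, commutatorElement_eq_one_iff_mul_comm]
      exact congrArg Subtype.val (hab.is_comm.comm ⟨a, ha⟩ ⟨b, hb⟩)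
    rw [h4, sup_bot_eq] at hS
    have h5 : x ∈ ⁅(S : Subgroup G), A⁆ ⊓ ((S : Subgroup G) ⊓ centralizer (A : Set G)) := ⟨by rw [hS]; exact hxS, hxA⟩
    rw [h3, mem_bot] at h5
    exact hx1 h5
  · by_cases hcen : A ≤ centralizer ((S : Subgroup G) : Set G)
    · have h4 : ⁅(S : Subgroup G), A⁆ = ⊥ := by
        rw [eq_bot_iff, commutator_le]
        intro a ha b hb
        rw [mem_bot, commutatorElement_eq_one_iff_mul_comm]
        exact (mem_centralizer_iff.1 (hcen hb) a ha)
      rw [h4, bot_sup_eq] at hS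
      exact hSS hS
    · have h4 := (S1447.result p hp2 (S : Subgroup G) A S.isPGroup' hm hAN hAcop).2.2.2 hab hcen
      have h5 : ⁅(S : Subgroup G), A⁆ = (S : Subgroup G) := by
        rw [sup_eq_left.2 h4.2.2.2.2] at hS
        exact hS
      apply hab
      rw [h5] at h1
      exact h1

end Cfsg.Agent.Lib.H17Pc
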