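import Cfsg.Agent.Lib.H17Pc2
import Cfsg.Agent.Lib.H17Pc3
import Cfsg.Agent.Lib.H17Pc6
import Cfsg.Agent.Lib.H1IsoRank
import Cfsg.Agent.Lib.PRankInj
import Cfsg.Agent.Lib.GESGroup

/-! Isolated elements of order `p` in a simple group of `p`-rank two: the families. -/

set_option autoImplicit false
open Cfsg

namespace Cfsg.Agent.Lib.H17Pc

open Subgroup

variable {G : Type*} [Group G] [Finite G] {p : ℕ} [hp : Fact p.Prime]

theorem metacyclic_of {S : Type*} [Group S] [Finite S] {n k : ℕ} (hn : Nat.card S = p ^ n) (y : S)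
    (hk : orderOf y = p ^ k) (h : n ≤ k + 1) : IsMetacyclic S := by
  have h1 : Nat.card (zpowers y) = p ^ k := by rw [Nat.card_zpowers, hk]
  have hkn : k ≤ n := by
    have := (zpowers y).card_subgroup_dvd_card
    rw [h1, hn] at this
    exact (Nat.pow_dvd_pow_iff_le_right hp.out.one_lt).1 this
  have h2 : (zpowers y).index = p ^ (n - k) := by
    have h3 := (zpowers y).card_mul_index
    rw [h1, hn] at h3
    have h4 : p ^ n = p ^ k * p ^ (n - k) := by rw [← pow_add]; congr 1; omega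
    rw [h4] at h3
    exact Nat.eq_of_mul_eq_mul_left (pow_pos hp.out.pos k) h3
  rcases Nat.lt_or_ge k n with h3 | h3
  · have h4 : n - k = 1 := by omega
    rw [h4, pow_one] at h2
    have h5 : (zpowers y).Normal := by
      have : (Nat.card S).minFac = p := by rw [hn, hp.out.pow_minFac (by omega)]
      exact Subgroup.normal_of_index_eq_minFac_card (by rw [h2, this])
    exact ⟨zpowers y, h5, inferInstance, isCyclic_of_prime_card (p := p) h2⟩
  · have h4 : n - k = 0 := by omega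
    rw [h4, pow_zero, index_eq_one] at h2
    refine ⟨zpowers y, ?_, inferInstance, ?_⟩
    · rw [h2]; infer_instance
    · have h6 : Subsingleton (S ⧸ zpowers y) := by
        rw [h2]; exact QuotientGroup.subsingleton_quotient_top
      infer_instance

/-- the two families of exponent-type groups are impossible -/
theorem fam_contra [IsSimpleGroup G] (hna : ¬ IsMulCommutative G) (hp2 : p ≠ 2) (S : Sylow p G)
    (hr : PRankLE p 2 ↥(S : Subgroup G)) {x0 : G} (hx0 : orderOf x0 = p) (hiso : IsIsolated x0)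
    (hxS : x0 ∈ (S : Subgroup G)) (hcen : ∀ g ∈ (S : Subgroup G), Commute x0 g) {x y z w : ↥(S : Subgroup G)}
    {ε m s : ℕ} (hF : Fam x y z w ε) (hgen : closure ({x, y, z} : Set ↥(S : Subgroup G)) = ⊤) (hxp : x ^ p = 1)
    (hyp : y ^ p = 1) (hz : z ^ p ^ (m + 1) = 1) (hw : w = z ^ (s * p ^ m)) (hs : ¬ p ∣ s) (hm : 1 ≤ m)
    (hcard : Nat.card ↥(S : Subgroup G) = p ^ (m + 3)) (hε : ε = 0 ∨ p ^ m ≠ 3) : False := by
  classical
  have hwp : w ^ p = 1 := by
    rw [hw, ← pow_mul, mul_assoc, ← pow_succ, mul_comm, pow_mul, hz, one_pow]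
  have hpm : p ∣ p ^ m := dvd_pow_self p (by omega)
  have hc2 : p ∣ (p ^ m).choose 2 := by
    apply hp.out.dvd_choose_pow (by norm_num)
    intro h
    have h3 : p ∣ 2 := by rw [h]; exact hpm
    exact hp2 ((Nat.prime_dvd_prime_iff_eq hp.out Nat.prime_two).1 h3)
  have hc3 : p ∣ ε * (p ^ m).choose 3 := by
    rcases hε with h | h
    · rw [h, zero_mul]; exact dvd_zero p
    · exact (hp.out.dvd_choose_pow (by norm_num) (Ne.symm h)).mul_left _
  have hpw : ∀ i j k l : ℕ, (x ^ i * y ^ j * z ^ k * w ^ l) ^ p ^ m = z ^ (p ^ m * k) := by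
    intro i j k l
    rw [hF.pow_rule]
    have e1 : x ^ (p ^ m * i) = 1 := by
      obtain ⟨t, ht⟩ := hpm
      rw [ht, mul_assoc, pow_mul, hxp, one_pow]
    have e2 : y ^ (p ^ m * j + ε * (p ^ m).choose 2 * (i * k)) = 1 := by
      have h1 : p ∣ p ^ m * j + ε * (p ^ m).choose 2 * (i * k) :=
        dvd_add (hpm.mul_right _) ((hc2.mul_left _).mul_right _)
      obtain ⟨t, ht⟩ := h1
      rw [ht, pow_mul, hyp, one_pow]
    have e3 : w ^ (p ^ m * l + (p ^ m).choose 2 * (i * j) + ε * (p ^ m).choose 3 * (i ^ 2 * k) +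
        ε * (p ^ m).choose 2 * (k * i.choose 2)) = 1 := by
      have h1 : p ∣ p ^ m * l + (p ^ m).choose 2 * (i * j) + ε * (p ^ m).choose 3 * (i ^ 2 * k) +
        ε * (p ^ m).choose 2 * (k * i.choose 2) :=
        dvd_add (dvd_add (dvd_add (hpm.mul_right _) (hc2.mul_right _)) (hc3.mul_right _))
          ((hc2.mul_left _).mul_right _)
      obtain ⟨t, ht⟩ := h1
      rw [ht, pow_mul, hwp, one_pow]
    rw [e1, e2, e3, one_mul, one_mul, mul_one]
  set b := z ^ p ^ m with hb
  have hbp : b ^ p = 1 := by rw [hb, ← pow_mul, ← pow_succ, hz]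
  have hb1 : b ≠ 1 := by
    intro h1
    have hw1 : w = 1 := by rw [hw, mul_comm, pow_mul, ← hb, h1, one_pow]
    let f : Fin p × Fin p × Fin (p ^ m) → ↥(S : Subgroup G) := fun t => x ^ (t.1 : ℕ) * y ^ (t.2.1 : ℕ) * z ^ (t.2.2 : ℕ)
    have hf : Function.Surjective f := by
      intro g
      obtain ⟨i, j, k, l, rfl⟩ := hF.normal_form hgen g
      refine ⟨(⟨i % p, Nat.mod_lt _ hp.out.pos⟩, ⟨j % p, Nat.mod_lt _ hp.out.pos⟩,
        ⟨k % p ^ m, Nat.mod_lt _ (pow_pos hp.out.pos m)⟩), ?_⟩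
      show x ^ (i % p) * y ^ (j % p) * z ^ (k % p ^ m) = _
      rw [hw1, one_pow, mul_one]
      congr 1
      · congr 1
        · exact (pow_eq_pow_mod i hxp).symm
        · exact (pow_eq_pow_mod j hyp).symm
      · exact (pow_eq_pow_mod k h1).symm
    have h2 := Nat.card_le_card_of_surjective f hf
    rw [hcard, Nat.card_prod, Nat.card_prod, Nat.card_fin, Nat.card_fin, ← pow_succ', ← pow_succ'] at h2
    have := (Nat.pow_le_pow_iff_right hp.out.one_lt).1 h2
    omega
  have hbx : Commute b x := by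
    show b * x = x * b
    have h1 := hF.z_pow_x_pow (p ^ m) 1
    simp only [pow_one, mul_one, show Nat.choose 1 2 = 0 from rfl, mul_zero, pow_zero] at h1
    have h2 : y ^ (ε * p ^ m) = 1 := by
      obtain ⟨t, ht⟩ := hpm
      rw [ht, mul_left_comm, pow_mul, hyp, one_pow]
    rw [h2, one_mul] at h1
    exact h1
  have hby : Commute b y := (hF.yz.pow_right _).symm
  have hw1 : w ≠ 1 := by
    intro h1
    rw [hw, mul_comm, pow_mul, ← hb] at h1
    have h2 : orderOf b = p := orderOf_eq_prime hbp hb1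
    exact hs (h2 ▸ orderOf_dvd_of_pow_eq_one h1)
  -- `b` is a power of `x0`
  set X : ↥(S : Subgroup G) := ⟨x0, hxS⟩ with hX
  have hXc : ∀ g : ↥(S : Subgroup G), Commute X g := fun g => Subtype.ext (hcen g g.2)
  have hXp : X ^ p = 1 := by
    apply Subtype.ext
    show x0 ^ p = 1
    rw [← hx0, pow_orderOf_eq_one]
  have hX1 : X ≠ 1 := by
    intro h
    have : x0 = 1 := congrArg Subtype.val h
    rw [this, orderOf_one] at hx0
    exact hp.out.one_lt.ne hx0
  have hbX : b ∈ zpowers X := by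
    by_contra hcon
    obtain ⟨i, j, hij⟩ := H1IsoRank.rank_rel hr (hXc b) (hXc y) hby hXp hbp hyp hX1 hcon
    have h1 : Commute y x := by
      rw [hij]
      exact ((hXc x).zpow_left i).mul_left (hbx.zpow_left j)
    have h2 := hF.yx
    rw [h1.eq] at h2
    exact hw1 (by simpa using h2.symm)
  have hbX' : (b : G) ∈ zpowers x0 := by
    obtain ⟨i, hi⟩ := hbX
    exact ⟨i, congrArg Subtype.val hi⟩
  have key : ∀ g : ↥(S : Subgroup G), ∀ h : ↥(S : Subgroup G), (g * h) ^ p ^ m = g ^ p ^ m * h ^ p ^ m := by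
    intro g h
    obtain ⟨i, j, k, l, rfl⟩ := hF.normal_form hgen g
    obtain ⟨i', j', k', l', rfl⟩ := hF.normal_form hgen h
    rw [hF.mul_rule, hpw, hpw, hpw, ← pow_add]
    congr 1; ring
  refine power_principle hna S hx0 hiso (p ^ m) ?_ ?_ ?_
  · intro g hg h hh
    exact congrArg Subtype.val (key ⟨g, hg⟩ ⟨h, hh⟩)
  · intro g hg
    obtain ⟨i, j, k, l, hgk⟩ := hF.normal_form hgen ⟨g, hg⟩
    have h1 : (⟨g, hg⟩ : ↥(S : Subgroup G)) ^ p ^ m = b ^ k := by
      rw [hgk, hpw, pow_mul]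
    have h2 : g ^ p ^ m = (b : G) ^ k := congrArg Subtype.val h1
    rw [h2]
    exact pow_mem hbX' k
  · refine ⟨z, z.2, fun h => hb1 (Subtype.ext h)⟩

end Cfsg.Agent.Lib.H17Pc
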