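import Cfsg.Agent.Lib.H17Pc7

/-! Isolated elements of order `3` in a simple group of `3`-rank two, Sylow `3`-subgroup of maximal class and order
`3 ^ n`, `n` even: impossible. -/

set_option autoImplicit false
open Cfsg

namespace Cfsg.Agent.Lib.H17Pc

open Subgroup Cfsg.Agent.Lib.RankTwoOdd

variable {G : Type*} [Group G] [Finite G]

/-- the norm argument -/
theorem norm_arg {p : ℕ} [hp : Fact p.Prime] [IsSimpleGroup G] (hna : ¬ IsMulCommutative G) (S : Sylow p G)
    (hY : ∀ D : Subgroup G, (∀ x ∈ (S : Subgroup G), ∀ g ∈ normalizer ((S : Subgroup G) : Set G),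
      x⁻¹ * (g * x * g⁻¹) ∈ D) → (S : Subgroup G).focalSubgroup ≤ D)
    (F C D : Subgroup ↥(S : Subgroup G)) [hDn : D.Normal]
    (hF : ∀ g ∈ normalizer ((S : Subgroup G) : Set G), ∀ v : ↥(S : Subgroup G), v ∈ F → g * (v : G) * g⁻¹ = v)
    (hcomm : ∀ a b : ↥(S : Subgroup G) ⧸ D, a * b = b * a)
    (h1 : ∀ φ : MulAut ↥(S : Subgroup G), (∀ x ∈ F, φ x = x) → ∀ c ∈ C, c⁻¹ * φ c ∈ D)
    (h2 : ∀ φ : MulAut ↥(S : Subgroup G), ∀ d ∈ D, φ d ∈ D) : C ≤ D := by
  classical
  obtain ⟨A, hAN, hAcop, hA⟩ := exists_compl S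
  let _ : CommGroup (↥(S : Subgroup G) ⧸ D) := { (inferInstance : Group (↥(S : Subgroup G) ⧸ D)) with mul_comm := hcomm }
  have : Fintype A := Fintype.ofFinite A
  let φ : A →* MulAut ↥(S : Subgroup G) := (S : Subgroup G).normalizerMonoidHom.comp (inclusion hAN)
  have hφ : ∀ (a : A) (v : ↥(S : Subgroup G)), ((φ a v : ↥(S : Subgroup G)) : G) = (a : G) * v * (a : G)⁻¹ :=
    fun a v => rfl
  let T : ↥(S : Subgroup G) →* (↥(S : Subgroup G) ⧸ D) :=
    { toFun := fun v => ∏ a : A, (QuotientGroup.mk' D (φ a v))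
      map_one' := by simp
      map_mul' := fun v w => by simp only [map_mul, Finset.prod_mul_distrib] }
  have hT : ∀ v, T v = ∏ a : A, (QuotientGroup.mk' D (φ a v)) := fun v => rfl
  have hTφ : ∀ (b : A) (v : ↥(S : Subgroup G)), T (φ b v) = T v := by
    intro b v
    rw [hT, hT, ← Equiv.prod_comp (Equiv.mulRight b) (fun a => QuotientGroup.mk' D (φ a v))]
    refine Finset.prod_congr rfl fun a _ => ?_
    rw [Equiv.coe_mulRight, map_mul]
    rfl
  have hker : (T.ker).map (S : Subgroup G).subtype = (S : Subgroup G) := by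
    refine eq_of_focal_le hna S (map_subtype_le _) (hY _ ?_)
    intro x hx g hg
    obtain ⟨s, hs, a, ha, rfl⟩ := hA g hg
    refine ⟨(⟨x, hx⟩ : ↥(S : Subgroup G))⁻¹ * (⟨s, hs⟩ * φ ⟨a, ha⟩ ⟨x, hx⟩ * (⟨s, hs⟩)⁻¹), ?_, ?_⟩
    · rw [SetLike.mem_coe, MonoidHom.mem_ker, map_mul, map_mul, map_mul, map_inv, map_inv, hTφ]
      rw [mul_comm (T ⟨s, hs⟩) (T ⟨x, hx⟩), mul_inv_cancel_right, inv_mul_cancel]
    · show x⁻¹ * (s * (a * x * a⁻¹) * s⁻¹) = x⁻¹ * (s * a * x * (s * a)⁻¹)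
      group
  intro c hc
  have hc1 : T c = 1 := by
    have h3 : (c : G) ∈ (T.ker).map (S : Subgroup G).subtype := by rw [hker]; exact c.2
    obtain ⟨d, hd, hdc⟩ := h3
    have : d = c := Subtype.ext hdc
    rw [← this]; exact hd
  have hc2 : T c = (QuotientGroup.mk' D c) ^ Nat.card A := by
    rw [hT, Nat.card_eq_fintype_card, Fintype.card, ← Finset.prod_const]
    refine Finset.prod_congr rfl fun a _ => ?_
    have h4 := h1 (φ a) (fun v hv => Subtype.ext (hF _ (hAN a.2) v hv)) c hc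
    exact (QuotientGroup.eq.2 h4).symm
  rw [hc2] at hc1
  obtain ⟨k, hk⟩ := (S.isPGroup'.to_quotient D) (QuotientGroup.mk' D c)
  have h5 : orderOf (QuotientGroup.mk' D c) ∣ 1 := by
    have h6 := Nat.dvd_gcd (orderOf_dvd_of_pow_eq_one hc1) (orderOf_dvd_of_pow_eq_one hk)
    rwa [(Nat.Coprime.pow_right k hAcop).gcd_eq_one] at h6
  rw [Nat.dvd_one, orderOf_eq_one_iff] at h5
  exact (QuotientGroup.eq_one_iff c).1 h5

theorem no_even [Fact (Nat.Prime 3)] [IsSimpleGroup G] (hna : ¬ IsMulCommutative G) (S : Sylow 3 G)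
    (hr : PRankLE 3 2 ↥(S : Subgroup G)) {x0 : G} (hx0 : orderOf x0 = 3)
    (hxS : x0 ∈ (S : Subgroup G))
    (hN : normalizer ((S : Subgroup G) : Set G) ≤ centralizer {x0})
    (hmeta : ¬ IsMetacyclic ↥(S : Subgroup G)) {n : ℕ} (hn : Nat.card ↥(S : Subgroup G) = 3 ^ n) (heven : Even n)
    (h4 : 4 ≤ n) (hcl : Group.nilpotencyClass ↥(S : Subgroup G) = n - 1) : False := by
  obtain ⟨E, C, F, e, h⟩ := exists_su (by norm_num) S.isPGroup' hr hmeta
  obtain ⟨D, hDn, hDc, hDC, hD1, hD2⟩ := d1 h hn heven h4 hcl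
  set X : ↥(S : Subgroup G) := ⟨x0, hxS⟩ with hX
  have hXc : ∀ g : ↥(S : Subgroup G), Commute X g := fun g => Subtype.ext (by
    have := hN (le_normalizer g.2)
    rw [mem_centralizer_singleton_iff] at this
    exact this.symm)
  have hXp : X ^ 3 = 1 := by
    apply Subtype.ext
    show x0 ^ 3 = 1
    rw [← hx0, pow_orderOf_eq_one]
  have hX1 : X ≠ 1 := by
    intro h
    have : x0 = 1 := congrArg Subtype.val h
    rw [this, orderOf_one] at hx0
    norm_num at hx0
  have hXF : X ∈ F := by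
    rw [h.Fdef]
    refine ⟨h.omega _ ?_ hXp, mem_center_iff.2 fun g => (hXc g).symm⟩
    rw [h.Cdef, mem_centralizer_iff]
    intro v _
    exact (hXc v).symm
  have hFX : F = zpowers X := by
    apply (eq_of_le_of_card_ge (zpowers_le.2 hXF) _).symm
    rw [h.Fcard, Nat.card_zpowers, orderOf_eq_prime hXp hX1]
  rcases yoshida S with ⟨Wy, f, hf⟩ | hY
  · exact d2 h hn heven h4 hcl Wy f hf
  · have hcard : Nat.card (↥(S : Subgroup G) ⧸ D) = 3 ^ 2 := index_of_card hn hDc (by omega)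
    have hCD := norm_arg hna S hY F C D (by
      intro g hg v hv
      rw [hFX] at hv
      obtain ⟨i, rfl⟩ := hv
      have h6 := hN hg
      rw [mem_centralizer_singleton_iff] at h6
      have h7 : Commute g (x0 ^ i) := (show Commute g x0 from h6).zpow_right i
      show g * (x0 ^ i) * g⁻¹ = x0 ^ i
      rw [h7.eq, mul_inv_cancel_right]) (fun a b => (IsPGroup.isMulCommutative_of_card_eq_prime_sq hcard).is_comm.comm a b) hD1 hD2
    have h5 : C = D := le_antisymm hCD hDC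
    have h6 := h.index_C
    rw [h5, index_of_card hn hDc (show n - 2 + 2 = n by omega)] at h6
    norm_num at h6

end Cfsg.Agent.Lib.H17Pc
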