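import Mathlib
import Cfsg.Prelude.Def_PLocal
import Cfsg.Prelude.Def_OddOrderLocal
import Cfsg.Agent.Lib.PGroupOdd
import Cfsg.Agent.Lib.PGroupMeta
import Cfsg.Agent.Lib.NormalRankTwo

/-!
# Normal elementary abelian subgroups of order `p²`, `p` odd (helper2)
-/

set_option autoImplicit false

open Subgroup
open scoped commutatorElement

namespace Cfsg.Agent.Lib.NormalRankTwoIn

universe u

variable {R : Type u} [Group R]

/-- A non-cyclic metacyclic `p`-group, `p` odd, has `Ω₁` elementary abelian of order `p²`. -/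
theorem omega_metacyclic [Finite R] {p : ℕ} [hp : Fact p.Prime] (hp2 : p ≠ 2) (hR : IsPGroup p R)
    (hm : Cfsg.IsMetacyclic R) (hnc : ¬ IsCyclic R) :
    Cfsg.IsElementaryAbelian p (Cfsg.omegaOne p (⊤ : Subgroup R)) ∧
      Nat.card ↥(Cfsg.omegaOne p (⊤ : Subgroup R)) = p ^ 2 := by
  obtain ⟨E, hE, hE2, hEall⟩ := PGroupMeta.exists_omega_of_isMetacyclic hp2 hR hm
  have heq : Cfsg.omegaOne p (⊤ : Subgroup R) = E := by
    apply le_antisymm
    · unfold Cfsg.omegaOne
      rw [closure_le]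
      rintro x ⟨-, hx⟩
      exact hEall x hx
    · intro x hx
      exact subset_closure ⟨mem_top x, hE.2 x hx⟩
  rw [heq]
  refine ⟨hE, le_antisymm hE2 ?_⟩
  obtain ⟨z, -, -, N, -, -, hN, hNp, -⟩ := NormalRankTwo.exists_normal_rank_two hp2 (Nat.card R) R rfl hR hnc
  rw [← hN]
  exact Subgroup.card_le_of_le (fun x hx => hEall x (hNp x hx))

theorem mem_omega_of_elementary {p : ℕ} (h : Cfsg.IsElementaryAbelian p (Cfsg.omegaOne p (⊤ : Subgroup R))) (x : R) :
    x ∈ Cfsg.omegaOne p (⊤ : Subgroup R) ↔ x ^ p = 1 :=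
  ⟨fun hx => h.2 x hx, fun hx => subset_closure ⟨mem_top x, hx⟩⟩

/-- For odd `p`, a non-cyclic normal subgroup `S` of a `p`-group contains a normal elementary abelian subgroup
of order `p²`. -/
theorem exists_normal_in [Finite R] {p : ℕ} [hp : Fact p.Prime] (hp2 : p ≠ 2) (hR : IsPGroup p R)
    (S : Subgroup R) [hSn : S.Normal] (hS : ¬ IsCyclic S) :
    ∃ A : Subgroup R, A ≤ S ∧ A.Normal ∧ Cfsg.IsElementaryAbelian p A ∧ Nat.card A = p ^ 2 := by
  obtain ⟨A, -, hA⟩ := Finite.exists_le_maximal (a := (⊥ : Subgroup R))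
    (p := fun A : Subgroup R => A ≤ S ∧ A.Normal ∧ IsMulCommutative A) ⟨bot_le, inferInstance, inferInstance⟩
  obtain ⟨⟨hAS, hAn, hAc⟩, hAmax⟩ := hA
  have hmax : ∀ x ∈ S, x ∈ centralizer (A : Set R) → (∀ g : R, ⁅g, x⁆ ∈ A) → x ∈ A := by
    intro x hxS hxC hxg
    have h1 : IsMulCommutative ↥(A ⊔ zpowers x) := PGroupOdd.isMulCommutative_sup_zpowers hAc hxC
    have h2 : (A ⊔ zpowers x).Normal := PGroupOdd.normal_sup_zpowers hAn hxg
    have h3 : A ⊔ zpowers x ≤ S := sup_le hAS (by rwa [zpowers_le])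
    exact hAmax ⟨h3, h2, h1⟩ le_sup_left (mem_sup_right (mem_zpowers x))
  have hAp : IsPGroup p A := hR.to_subgroup A
  by_cases hcyc : IsCyclic A
  · -- cyclic case
    have hne : A ≠ S := fun h => hS (h ▸ hcyc)
    obtain ⟨x, hxS, hxA, hxp, hxg⟩ := PGroupOdd.exists_mem_step hR hAn hSn (lt_of_le_of_ne hAS hne)
    set B := A ⊔ zpowers x with hB
    have hBS : B ≤ S := sup_le hAS (by rwa [zpowers_le])
    have hBn : B.Normal := PGroupOdd.normal_sup_zpowers hAn hxg
    have hBp : IsPGroup p B := hR.to_subgroup B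
    have hAB : A ≤ B := le_sup_left
    have hBnc : ¬ IsCyclic B := by
      intro h
      have h1 : IsMulCommutative B := inferInstance
      exact hxA (hAmax ⟨hBS, hBn, h1⟩ hAB (mem_sup_right (mem_zpowers x)))
    have hBm : Cfsg.IsMetacyclic B := by
      refine ⟨A.subgroupOf B, inferInstance, ?_, ?_⟩
      · exact isCyclic_of_injective (subgroupOfEquivOfLe hAB).toMonoidHom (subgroupOfEquivOfLe hAB).injective
      · refine ⟨QuotientGroup.mk' (A.subgroupOf B) ⟨x, mem_sup_right (mem_zpowers x)⟩, ?_⟩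
        intro y
        obtain ⟨⟨b, hb⟩, rfl⟩ := QuotientGroup.mk'_surjective _ y
        obtain ⟨u, hu, _, ⟨k, rfl⟩, rfl⟩ := (Subgroup.mem_sup_of_normal_left).mp hb
        refine ⟨k, ?_⟩
        simp only
        rw [← map_zpow]
        apply (QuotientGroup.eq).mpr
        rw [mem_subgroupOf]
        show (x ^ k)⁻¹ * (u * x ^ k) ∈ A
        have := hAn.conj_mem u hu (x ^ k)⁻¹
        rw [inv_inv] at this
        rwa [← mul_assoc]
    obtain ⟨hE, hE2⟩ := omega_metacyclic hp2 hBp hBm hBnc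
    set E := Cfsg.omegaOne p (⊤ : Subgroup B) with hEdef
    have hmem : ∀ y : R, y ∈ E.map B.subtype ↔ y ∈ B ∧ y ^ p = 1 := by
      intro y
      constructor
      · rintro ⟨z, hz, rfl⟩
        exact ⟨z.2, congrArg Subtype.val (hE.2 z hz)⟩
      · rintro ⟨hyB, hyp⟩
        refine ⟨⟨y, hyB⟩, ?_, rfl⟩
        exact (mem_omega_of_elementary hE _).mpr (Subtype.ext hyp)
    refine ⟨E.map B.subtype, (map_subtype_le _).trans hBS, ?_, ?_, ?_⟩
    · refine ⟨fun n hn g => ?_⟩
      rw [hmem] at hn ⊢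
      refine ⟨hBn.conj_mem n hn.1 g, ?_⟩
      rw [conj_pow, hn.2, mul_one, mul_inv_cancel]
    · refine ⟨?_, fun y hy => ((hmem y).mp hy).2⟩
      refine ⟨⟨?_⟩⟩
      rintro ⟨_, a, ha, rfl⟩ ⟨_, b, hb, rfl⟩
      apply Subtype.ext
      have h1 : a * b = b * a := isMulCommutative_iff_of_setLike.mp hE.1 a ha b hb
      exact congrArg B.subtype h1
    · rw [Subgroup.card_map_of_injective B.subtype_injective]
      exact hE2
  · -- noncyclic case
    have hcomm : ∀ a ∈ A, ∀ b ∈ A, a * b = b * a := fun a ha b hb => PGroupOdd.comm_of_isMulCommutative hAc ha hb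
    obtain ⟨V, hV⟩ := PGroupMeta.exists_omega_of_comm p hcomm
    have hVn : V.Normal := by
      refine ⟨fun n hn g => ?_⟩
      rw [hV] at hn ⊢
      refine ⟨hAn.conj_mem n hn.1 g, ?_⟩
      rw [conj_pow, hn.2, mul_one, mul_inv_cancel]
    obtain ⟨z, -, -, N, -, -, hN, hNp, -⟩ :=
      NormalRankTwo.exists_normal_rank_two hp2 (Nat.card A) A rfl hAp hcyc
    have hVcard : p ^ 2 ≤ Nat.card V := by
      have hN' : Nat.card (N.map A.subtype) = p ^ 2 := by
        rw [Subgroup.card_map_of_injective A.subtype_injective]; exact hN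
      rw [← hN']
      apply Subgroup.card_le_of_le
      rintro _ ⟨y, hy, rfl⟩
      rw [hV]
      exact ⟨y.2, congrArg Subtype.val (hNp y hy)⟩
    obtain ⟨L, hLn, hLV, hL⟩ := PGroupOdd.exists_normal_card' hR hVn hVcard
    refine ⟨L, fun x hx => hAS ((hV x).mp (hLV hx)).1, hLn, ⟨⟨⟨?_⟩⟩, fun x hx => ((hV x).mp (hLV hx)).2⟩, hL⟩
    rintro ⟨a, ha⟩ ⟨b, hb⟩
    apply Subtype.ext
    exact hcomm a ((hV a).mp (hLV ha)).1 b ((hV b).mp (hLV hb)).1

end Cfsg.Agent.Lib.NormalRankTwoIn
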