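import Cfsg.Agent.Lib.RankTwoOdd
import Cfsg.Agent.Lib.NormalRankTwoIn

/-!
# `p`-groups of rank two, `p` odd: Blackburn's classification (helper2)
-/

set_option autoImplicit false
set_option linter.unusedSectionVars false

open Subgroup
open scoped commutatorElement

namespace Cfsg.Agent.Lib.RankTwoOdd

open Cfsg Cfsg.Agent.Lib Cfsg.Agent.Lib.AgemoMeta

universe u

section gens

variable {G : Type u} [Group G] [Finite G] {p : ℕ} [hp : Fact p.Prime] {E C F : Subgroup G} {e : G}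

/-- generation criterion -/
theorem Su.closure_eq_top (h : Su G p E C F e) {x y z : G} (hx : x ∉ C) (hy : y ∈ E) (hyF : y ∉ F)
    (hz : ∀ c ∈ C, ∃ i : ℤ, (z ^ i)⁻¹ * c ∈ E) {k : ℕ} (hk : z ^ k ∈ F) (hk1 : z ^ k ≠ 1) :
    closure ({x, y, z} : Set G) = ⊤ := by
  set H := closure ({x, y, z} : Set G) with hH
  have hxH : x ∈ H := Subgroup.subset_closure (by simp)
  have hyH : y ∈ H := Subgroup.subset_closure (by simp)
  have hzH : z ∈ H := Subgroup.subset_closure (by simp)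
  have hFH : F ≤ H := by
    intro f hf
    obtain ⟨j, rfl⟩ := h.zpow_F hk hk1 hf
    exact zpow_mem (pow_mem hzH k) j
  have hEH : E ≤ H := by
    rw [← h.sup_eq hy hyF]
    exact sup_le hFH (by rw [zpowers_le]; exact hyH)
  have hCH : C ≤ H := by
    intro c hc
    obtain ⟨i, hi⟩ := hz c hc
    have := mul_mem (zpow_mem hzH i) (hEH hi)
    rwa [mul_inv_cancel_left] at this
  rw [eq_top_iff]
  intro g _
  obtain ⟨j, c, hc, rfl⟩ := h.exists_zpow hx g
  exact mul_mem (hCH hc) (zpow_mem hxH j)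

variable {w : G}

/-- `C / E` is cyclic -/
theorem W.exists_z (hw : W G p E C F w) (h : Su G p E C F e) {t : G} (htC : t ∉ C) (ht : t ^ p = 1)
    (h3 : p = 3 → ⁅t⁻¹, w⁆ ∈ F) : ∃ z ∈ C, ∀ c ∈ C, ∃ i : ℤ, (z ^ i)⁻¹ * c ∈ E := by
  haveI := h.En
  have hCp : IsPGroup p (C ⧸ E.subgroupOf C) := (h.hG.to_subgroup C).to_quotient _
  by_cases hcyc : IsCyclic (C ⧸ E.subgroupOf C)
  · obtain ⟨z', hz'⟩ := hcyc.exists_generator
    obtain ⟨z, rfl⟩ := QuotientGroup.mk_surjective z'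
    refine ⟨z, z.2, fun c hc => ?_⟩
    obtain ⟨i, hi⟩ := hz' (QuotientGroup.mk ⟨c, hc⟩)
    refine ⟨i, ?_⟩
    simp only at hi
    rw [← QuotientGroup.mk_zpow, QuotientGroup.eq, mem_subgroupOf] at hi
    simpa using hi
  · exfalso
    have hcyc' : ¬ IsCyclic (⊤ : Subgroup (C ⧸ E.subgroupOf C)) := by
      intro hh
      exact hcyc (isCyclic_of_surjective (topEquiv (G := C ⧸ E.subgroupOf C)).toMonoidHom topEquiv.surjective)
    obtain ⟨A, -, hAn, hAe, hAc⟩ := NormalRankTwoIn.exists_normal_in h.hp2 hCp ⊤ hcyc'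
    set wq : C ⧸ E.subgroupOf C := QuotientGroup.mk ⟨w, hw.wC⟩ with hwq
    have hwqp : wq ^ p = 1 := by
      rw [hwq, ← QuotientGroup.mk_pow, QuotientGroup.eq_one_iff, mem_subgroupOf]
      exact h.FE hw.wp
    have hAle : A ≤ zpowers wq := by
      intro a ha
      obtain ⟨⟨x, hx⟩, rfl⟩ := QuotientGroup.mk_surjective a
      have h1 := hAe.2 _ ha
      rw [← QuotientGroup.mk_pow, QuotientGroup.eq_one_iff, mem_subgroupOf] at h1
      have h2 : x ^ p ∈ F := hw.pow_mem_F h htC ht h3 hx h1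
      obtain ⟨j, hj⟩ := hw.exists_zpow h hx h2
      refine ⟨j, ?_⟩
      simp only
      rw [hwq, ← QuotientGroup.mk_zpow, QuotientGroup.eq, mem_subgroupOf]
      simpa using hj
    have h1 : Nat.card A ≤ Nat.card (zpowers wq) := Nat.le_of_dvd Nat.card_pos (card_dvd_of_le hAle)
    have h2 : Nat.card (zpowers wq) ≤ p := by
      rw [Nat.card_zpowers]
      exact Nat.le_of_dvd hp.out.pos (orderOf_dvd_of_pow_eq_one hwqp)
    rw [hAc] at h1
    have := hp.out.one_lt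
    nlinarith

/-- the data of a generator `z` of `C` modulo `E` -/
structure Z (G : Type u) [Group G] (p : ℕ) (E C F : Subgroup G) (t z : G) (r : ℕ) : Prop where
  zC : z ∈ C
  gen : ∀ c ∈ C, ∃ i : ℤ, (z ^ i)⁻¹ * c ∈ E
  r1 : 1 ≤ r
  zF : z ^ p ^ r ∈ F
  z1 : z ^ p ^ r ≠ 1
  card : Nat.card G = p ^ (r + 3)
  comm : t⁻¹ * z * t * z⁻¹ ∈ E

theorem W.exists_Z (hw : W G p E C F w) (h : Su G p E C F e) {t : G} (htC : t ∉ C) (ht : t ^ p = 1)
    (h3 : p = 3 → ⁅t⁻¹, w⁆ ∈ F) : ∃ z r, Z G p E C F t z r := by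
  haveI := h.En
  obtain ⟨z, hzC, hz⟩ := hw.exists_z h htC ht h3
  -- the order of `C / E`
  have hCp : IsPGroup p (C ⧸ E.subgroupOf C) := (h.hG.to_subgroup C).to_quotient _
  set zq : C ⧸ E.subgroupOf C := QuotientGroup.mk ⟨z, hzC⟩ with hzq
  have hgen : ∀ x : C ⧸ E.subgroupOf C, x ∈ zpowers zq := by
    intro x
    obtain ⟨⟨c, hc⟩, rfl⟩ := QuotientGroup.mk_surjective x
    obtain ⟨i, hi⟩ := hz c hc
    refine ⟨i, ?_⟩
    simp only
    rw [hzq, ← QuotientGroup.mk_zpow, QuotientGroup.eq, mem_subgroupOf]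
    simpa using hi
  have hord : orderOf zq = Nat.card (C ⧸ E.subgroupOf C) := orderOf_eq_card_of_forall_mem_zpowers hgen
  obtain ⟨r, hr⟩ := IsPGroup.iff_card.mp hCp
  have hmemE : ∀ k : ℕ, z ^ k ∈ E ↔ p ^ r ∣ k := by
    intro k
    rw [← hr, ← hord, orderOf_dvd_iff_pow_eq_one, hzq, ← QuotientGroup.mk_pow, QuotientGroup.eq_one_iff,
      mem_subgroupOf]
    simp
  have hr1 : 1 ≤ r := by
    by_contra hcon
    have hr0 : r = 0 := by omega
    rw [hr0, pow_zero] at hr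
    apply hw.wE
    obtain ⟨i, hi⟩ := hz w hw.wC
    have h1 : z ∈ E := by
      have := (hmemE 1).mpr (by rw [hr0, pow_zero])
      rwa [pow_one] at this
    have := mul_mem (zpow_mem h1 i) hi
    rwa [mul_inv_cancel_left] at this
  -- `x = z ^ p ^ (r - 1)`
  obtain ⟨s, rfl⟩ : ∃ s, r = s + 1 := ⟨r - 1, by omega⟩
  have hxE : z ^ p ^ s ∉ E := by
    rw [hmemE]
    intro hdvd
    have := Nat.le_of_dvd (pow_pos hp.out.pos _) hdvd
    have h2 := (Nat.pow_lt_pow_iff_right hp.out.one_lt).mpr (Nat.lt_add_one s)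
    omega
  have hxp : (z ^ p ^ s) ^ p = z ^ p ^ (s + 1) := by rw [← pow_mul, ← pow_succ]
  have hxpE : (z ^ p ^ s) ^ p ∈ E := by rw [hxp, hmemE]
  have hxpF := hw.pow_mem_F h htC ht h3 (pow_mem hzC _) hxpE
  have hx1 : (z ^ p ^ s) ^ p ≠ 1 := fun hh => hxE (h.omega _ (pow_mem hzC _) hh)
  -- `C` is abelian; `z` is central in `C`
  have hzc : ∀ c ∈ C, Commute c z := by
    intro c hc
    obtain ⟨i, hi⟩ := hz c hc
    have h1 : Commute ((z ^ i)⁻¹ * c) z := h.EcC hi hzC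
    have h2 : Commute (z ^ i * ((z ^ i)⁻¹ * c)) z := ((Commute.refl z).zpow_left i).mul_left h1
    rwa [mul_inv_cancel_left] at h2
  have hcomm : t⁻¹ * z * t * z⁻¹ ∈ E := by
    set m := t⁻¹ * z * t * z⁻¹ with hm
    have hmC : m ∈ C := by
      have := h.Cn.conj_mem z hzC t⁻¹
      rw [inv_inv] at this
      exact mul_mem this (inv_mem hzC)
    have hmi : ∀ i : ℕ, t⁻¹ * z ^ i * t * (z ^ i)⁻¹ = m ^ i := by
      intro i
      have h1 := conj_pow (i := i) (a := t⁻¹) (b := z)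
      rw [inv_inv] at h1
      have h2 : t⁻¹ * z * t = m * z := by rw [hm]; group
      rw [← h1, h2, (hzc m hmC).mul_pow, mul_inv_cancel_right]
    by_contra hmE
    have hex : ∃ i : ℕ, m ^ p ^ i ∈ E := by
      obtain ⟨k, hk⟩ := IsPGroup.iff_orderOf.mp h.hG m
      exact ⟨k, by rw [← hk, pow_orderOf_eq_one]; exact one_mem _⟩
    classical
    obtain ⟨i, hi, hi'⟩ : ∃ i, m ^ p ^ i ∉ E ∧ m ^ p ^ (i + 1) ∈ E := by
      have h1 := Nat.find_spec hex
      have h2 : Nat.find hex ≠ 0 := by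
        intro h0
        rw [h0, pow_zero, pow_one] at h1
        exact hmE h1
      obtain ⟨i, hi⟩ := Nat.exists_eq_succ_of_ne_zero h2
      refine ⟨i, Nat.find_min hex (by omega), ?_⟩
      rw [← Nat.succ_eq_add_one, ← hi]; exact h1
    have h4 : (m ^ p ^ i) ^ p ∈ F := hw.pow_mem_F h htC ht h3 (pow_mem hmC _) (by rw [← pow_mul, ← pow_succ]; exact hi')
    apply hi
    rw [← hmi]
    apply hw.mem_E h ht h3 (pow_mem hzC _)
    rw [hmi]
    exact h4
  refine ⟨z, s + 1, hzC, hz, hr1, ?_, ?_, ?_, hcomm⟩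
  · rw [← hxp]; exact hxpF
  · rw [← hxp]; exact hx1
  · have h1 := C.card_mul_index
    have h2 := (E.subgroupOf C).card_mul_index
    rw [index, hr, Nat.card_congr (subgroupOfEquivOfLe h.EC).toEquiv, h.Ecard] at h2
    rw [← h1, ← h2, h.index_C]
    ring

/-- the centralizer of `E` is `E` -/
theorem Su.caseE (h : Su G p E C F e) (hm : ¬ IsMetacyclic G) (hEC : E = C) :
    ∃ x y z : G, closure ({x, y, z} : Set G) = ⊤ ∧ x ^ p = 1 ∧ y ^ p = 1 ∧ z ^ p ^ (3 - 2) = 1 ∧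
      x * z = z * x ∧ y * z = z * y ∧ x⁻¹ * y * x = y * z ^ p ^ (3 - 3) := by
  obtain ⟨t, ht⟩ : ∃ g, g ∉ C := by
    by_contra hcon
    push Not at hcon
    exact h.Ctop (eq_top_iff.mpr fun x _ => hcon x)
  obtain ⟨c, hc, htc⟩ := h.exists_pow_eq hm t
  rw [← hEC] at hc
  rw [h.Eexp c hc] at htc
  have ht' : t⁻¹ ∉ C := fun hh => ht (by simpa using inv_mem hh)
  set z := e⁻¹ * t⁻¹ * e * t with hz
  have hzF : z ∈ F := by
    have h2 : z = (⁅t⁻¹, e⁻¹⁆)⁻¹ := by rw [hz, commutatorElement_def]; group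
    rw [h2]
    exact inv_mem (h.comm _ _ (inv_mem h.eE))
  have hz1 : z ≠ 1 := by
    intro hh
    apply h.eF
    apply h.mem_F ht h.eE
    show e * t = t * e
    calc e * t = t * e * (e⁻¹ * t⁻¹ * e * t) := by group
      _ = t * e := by rw [← hz, hh, mul_one]
  refine ⟨t, e, z, ?_, htc, h.Eexp e h.eE, ?_, ?_, ?_, ?_⟩
  · refine h.closure_eq_top ht h.eE h.eF (fun c hc => ⟨0, ?_⟩) (k := 1) (by rwa [pow_one]) (by rwa [pow_one])
    rw [zpow_zero, inv_one, one_mul, hEC]; exact hc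
  · rw [pow_one]; exact h.Eexp z (h.FE hzF)
  · exact ((h.Fcen hzF t).symm).eq
  · exact ((h.Fcen hzF e).symm).eq
  · rw [pow_zero, pow_one, hz]; group

variable {t z : G} {r : ℕ}

/-- `z` is central in `C` -/
theorem Z.cen (hz : Z G p E C F t z r) (h : Su G p E C F e) {c : G} (hc : c ∈ C) : Commute c z := by
  obtain ⟨i, hi⟩ := hz.gen c hc
  have h1 : Commute ((z ^ i)⁻¹ * c) z := h.EcC hi hz.zC
  have h2 : Commute (z ^ i * ((z ^ i)⁻¹ * c)) z := ((Commute.refl z).zpow_left i).mul_left h1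
  rwa [mul_inv_cancel_left] at h2

/-- the second family -/
theorem Z.case2 (hz : Z G p E C F t z r) (h : Su G p E C F e) (htC : t ∉ C) (ht : t ^ p = 1)
    (hF : t⁻¹ * z * t * z⁻¹ ∈ F) :
    ∃ x y z : G, closure ({x, y, z} : Set G) = ⊤ ∧ x ^ p = 1 ∧ y ^ p = 1 ∧ z ^ p ^ (r + 1) = 1 ∧
      x * z = z * x ∧ y * z = z * y ∧ x⁻¹ * y * x = y * z ^ p ^ r := by
  set m := t⁻¹ * z * t * z⁻¹ with hm
  set f := e⁻¹ * t⁻¹ * e * t with hf
  have hfF : f ∈ F := by
    have h2 : f = (⁅t⁻¹, e⁻¹⁆)⁻¹ := by rw [hf, commutatorElement_def]; group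
    rw [h2]
    exact inv_mem (h.comm _ _ (inv_mem h.eE))
  have hf1 : f ≠ 1 := by
    intro hh
    apply h.eF
    apply h.mem_F htC h.eE
    show e * t = t * e
    calc e * t = t * e * (e⁻¹ * t⁻¹ * e * t) := by group
      _ = t * e := by rw [← hf, hh, mul_one]
  have hte : ∀ j : ℤ, t⁻¹ * e ^ j * t = e ^ j * f ^ j := by
    intro j
    have h1 := _root_.conj_zpow (i := j) (a := t⁻¹) (b := e)
    rw [inv_inv] at h1
    have h2 : t⁻¹ * e * t = e * f := by rw [hf]; group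
    rw [← h1, h2, ((h.Fcen hfF e).symm).mul_zpow]
  obtain ⟨j, hj⟩ := h.zpow_F hfF hf1 (inv_mem hF)
  obtain ⟨i, hi⟩ := h.zpow_F hfF hf1 hz.zF
  have hejE : e ^ j ∈ E := zpow_mem h.eE j
  set z' := z * e ^ j with hz'
  have hz'C : z' ∈ C := mul_mem hz.zC (h.EC hejE)
  have hz't : t⁻¹ * z' * t = z' := by
    have h1 : t⁻¹ * z' * t = (t⁻¹ * z * t) * (t⁻¹ * e ^ j * t) := by rw [hz']; group
    have h2 : t⁻¹ * z * t = m * z := by rw [hm]; group
    rw [h1, h2, hte, hj]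
    have h3 : Commute m (z * e ^ j) := h.Fcen hF _
    calc m * z * (e ^ j * m⁻¹) = (m * (z * e ^ j)) * m⁻¹ := by group
      _ = z' := by rw [h3.eq, mul_inv_cancel_right]
  have hzp : z' ^ p ^ r = z ^ p ^ r := by
    obtain ⟨s, rfl⟩ : ∃ s, r = s + 1 := ⟨r - 1, by have := hz.r1; omega⟩
    rw [hz', ((h.EcC hejE hz.zC).symm).mul_pow]
    have : (e ^ j) ^ p ^ (s + 1) = 1 := by
      rw [pow_succ', pow_mul, h.Eexp _ hejE, one_pow]
    rw [this, mul_one]
  refine ⟨t, e ^ i, z', ?_, ht, h.Eexp _ (zpow_mem h.eE i), ?_, ?_, ?_, ?_⟩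
  · refine h.closure_eq_top htC (zpow_mem h.eE i) ?_ ?_ (k := p ^ r) ?_ ?_
    · intro hh
      have h1 := hte i
      rw [hi] at h1
      have h2 : t⁻¹ * e ^ i * t = e ^ i := by
        rw [mul_assoc, (h.Fcen hh t).eq, inv_mul_cancel_left]
      rw [h2] at h1
      exact hz.z1 (mul_eq_left.mp h1.symm)
    · intro c hc
      obtain ⟨k, hk⟩ := hz.gen c hc
      refine ⟨k, ?_⟩
      have h1 : (z' ^ k)⁻¹ * c = ((e ^ j) ^ k)⁻¹ * ((z ^ k)⁻¹ * c) := by
        rw [hz', ((h.EcC hejE hz.zC).symm).mul_zpow]; group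
      rw [h1]
      exact mul_mem (inv_mem (zpow_mem hejE k)) hk
    · rw [hzp]; exact hz.zF
    · rw [hzp]; exact hz.z1
  · rw [pow_succ, pow_mul, hzp]
    exact h.Eexp _ (h.FE hz.zF)
  · calc t * z' = t * (t⁻¹ * z' * t) := by rw [hz't]
      _ = z' * t := by group
  · exact (h.EcC (zpow_mem h.eE i) hz'C).eq
  · rw [hte, hi, hzp]

/-- the third family -/
theorem Z.case3 (hz : Z G p E C F t z r) (h : Su G p E C F e) (htC : t ∉ C) (ht : t ^ p = 1)
    (hF : t⁻¹ * z * t * z⁻¹ ∉ F) :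
    ∃ (s : ℕ) (x y z : G), (s = 1 ∨ ¬ IsSquare (s : ZMod p)) ∧ closure ({x, y, z} : Set G) = ⊤ ∧
        x ^ p = 1 ∧ y ^ p = 1 ∧ z ^ p ^ (r + 1) = 1 ∧ y * z = z * y ∧ x⁻¹ * y * x = y * z ^ (s * p ^ r) ∧
        x⁻¹ * z * x = y * z := by
  have hmE := hz.comm
  set m := t⁻¹ * z * t * z⁻¹ with hm
  set f := m⁻¹ * t⁻¹ * m * t with hf
  have hfF : f ∈ F := by
    have h2 : f = (⁅t⁻¹, m⁻¹⁆)⁻¹ := by rw [hf, commutatorElement_def]; group
    rw [h2]
    exact inv_mem (h.comm _ _ (inv_mem hmE))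
  have hf1 : f ≠ 1 := by
    intro hh
    apply hF
    apply h.mem_F htC hmE
    show m * t = t * m
    calc m * t = t * m * (m⁻¹ * t⁻¹ * m * t) := by group
      _ = t * m := by rw [← hf, hh, mul_one]
  have hfp : f ^ p = 1 := h.Eexp f (h.FE hfF)
  have hζp : (z ^ p ^ r) ^ p = 1 := h.Eexp _ (h.FE hz.zF)
  obtain ⟨k', hk'⟩ := h.zpow_F hz.zF hz.z1 hfF
  -- a natural exponent
  obtain ⟨k, hk⟩ : ∃ k : ℕ, (z ^ p ^ r) ^ k = f := by
    refine ⟨(k' % p).toNat, ?_⟩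
    rw [← zpow_natCast, Int.toNat_of_nonneg (Int.emod_nonneg _ (by exact_mod_cast hp.out.ne_zero)), ← hk']
    conv_rhs => rw [← Int.emod_add_mul_ediv k' p, zpow_add, zpow_mul, zpow_natCast _ p, hζp, one_zpow, mul_one]
  have hpk : ¬ p ∣ k := by
    rintro ⟨a, rfl⟩
    rw [pow_mul, hζp, one_pow] at hk
    exact hf1 hk.symm
  have hmt : ∀ j : ℕ, t⁻¹ * m ^ j * t = m ^ j * f ^ j := by
    intro j
    have h1 := _root_.conj_pow (i := j) (a := t⁻¹) (b := m)
    rw [inv_inv] at h1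
    have h2 : t⁻¹ * m * t = m * f := by rw [hf]; group
    rw [← h1, h2, ((h.Fcen hfF m).symm).mul_pow]
  have hfc : ∀ (j : ℕ) (g : G), Commute (f ^ j) g := fun j g => (h.Fcen hfF g).pow_left j
  -- conjugation by powers of `t`
  have hti : ∀ i j : ℕ, (t ^ i)⁻¹ * m ^ j * t ^ i = m ^ j * f ^ (j * i) := by
    intro i j
    induction i with
    | zero => simp
    | succ i ih =>
      calc (t ^ (i + 1))⁻¹ * m ^ j * t ^ (i + 1) = t⁻¹ * ((t ^ i)⁻¹ * m ^ j * t ^ i) * t := by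
            rw [pow_succ]; group
        _ = t⁻¹ * m ^ j * (f ^ (j * i) * t) := by rw [ih]; group
        _ = (t⁻¹ * m ^ j * t) * f ^ (j * i) := by rw [(hfc (j * i) t).eq]; group
        _ = m ^ j * f ^ (j * (i + 1)) := by rw [hmt, mul_assoc, ← pow_add]; ring_nf
  have htz : ∀ i : ℕ, ∃ b : ℕ, (t ^ i)⁻¹ * z * t ^ i = m ^ i * f ^ b * z := by
    intro i
    induction i with
    | zero => exact ⟨0, by simp⟩
    | succ i ih =>
      obtain ⟨b, hb⟩ := ih
      refine ⟨i + b, ?_⟩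
      have h2 : t⁻¹ * z * t = m * z := by rw [hm]; group
      calc (t ^ (i + 1))⁻¹ * z * t ^ (i + 1) = t⁻¹ * ((t ^ i)⁻¹ * z * t ^ i) * t := by
            rw [pow_succ]; group
        _ = t⁻¹ * m ^ i * (f ^ b * (z * t)) := by rw [hb]; group
        _ = (t⁻¹ * m ^ i * t) * (t⁻¹ * z * t) * f ^ b := by rw [(hfc b (z * t)).eq]; group
        _ = m ^ i * (f ^ i * m) * z * f ^ b := by rw [hmt, h2]; group
        _ = m ^ (i + 1) * (f ^ i * (z * f ^ b)) := by rw [(hfc i m).eq, pow_succ]; group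
        _ = m ^ (i + 1) * f ^ (i + b) * z := by rw [← (hfc b z).eq, pow_add]; group
  -- choose `i`
  obtain ⟨i, s, hpi, hs, his⟩ : ∃ i s : ℕ, ¬ p ∣ i ∧ (s = 1 ∨ ¬ IsSquare (s : ZMod p)) ∧
      ((k * (i * i) : ℕ) : ZMod p) = (s : ZMod p) := by
    by_cases hsq : IsSquare (k : ZMod p)
    · obtain ⟨a, ha⟩ := hsq
      have hk0 : (k : ZMod p) ≠ 0 := fun hh => hpk ((ZMod.natCast_eq_zero_iff k p).mp hh)
      have ha0 : a ≠ 0 := by rintro rfl; rw [mul_zero] at ha; exact hk0 ha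
      refine ⟨(a⁻¹).val, 1, ?_, Or.inl rfl, ?_⟩
      · rw [← ZMod.natCast_eq_zero_iff, ZMod.natCast_zmod_val]
        exact inv_ne_zero ha0
      · push_cast
        rw [ZMod.natCast_zmod_val, ha]
        field_simp
    · exact ⟨1, k, by rw [Nat.dvd_one]; exact hp.out.one_lt.ne', Or.inr hsq, by simp⟩
  obtain ⟨b, hb⟩ := htz i
  have hpow : (z ^ p ^ r) ^ (k * (i * i)) = (z ^ p ^ r) ^ s := by
    rw [pow_eq_pow_iff_modEq]
    have h1 : orderOf (z ^ p ^ r) = p := orderOf_eq_prime hζp hz.z1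
    rw [h1]
    exact (ZMod.natCast_eq_natCast_iff _ _ _).mp his
  have hyE : m ^ i * f ^ b ∈ E := mul_mem (pow_mem hmE i) (pow_mem (h.FE hfF) b)
  have hmiF : m ^ i ∉ F := by
    intro hh
    apply hF
    have h1 : IsCoprime (i : ℤ) (p : ℤ) := by
      rw [Nat.isCoprime_iff_coprime, Nat.coprime_comm]
      exact (Nat.Prime.coprime_iff_not_dvd hp.out).mpr hpi
    obtain ⟨a, a', haa⟩ := h1
    have h2 : m = (m ^ i) ^ a * (m ^ p) ^ a' := by
      rw [← zpow_natCast m i, ← zpow_natCast m p, ← zpow_mul, ← zpow_mul, ← zpow_add,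
        show (i : ℤ) * a + (p : ℤ) * a' = 1 by linarith, zpow_one]
    rw [h2, h.Eexp _ hmE, one_zpow, mul_one]
    exact zpow_mem hh a
  have htiC : t ^ i ∉ C := by
    intro hh
    apply htC
    have h1 : IsCoprime (i : ℤ) (p : ℤ) := by
      rw [Nat.isCoprime_iff_coprime, Nat.coprime_comm]
      exact (Nat.Prime.coprime_iff_not_dvd hp.out).mpr hpi
    obtain ⟨a, a', haa⟩ := h1
    have h2 : t = (t ^ i) ^ a * (t ^ p) ^ a' := by
      rw [← zpow_natCast t i, ← zpow_natCast t p, ← zpow_mul, ← zpow_mul, ← zpow_add,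
        show (i : ℤ) * a + (p : ℤ) * a' = 1 by linarith, zpow_one]
    rw [h2, ht, one_zpow, mul_one]
    exact zpow_mem hh a
  refine ⟨s, t ^ i, m ^ i * f ^ b, z, hs, ?_, ?_, h.Eexp _ hyE, ?_, (h.EcC hyE hz.zC).eq, ?_, ?_⟩
  · refine h.closure_eq_top htiC hyE ?_ hz.gen hz.zF hz.z1
    intro hh
    apply hmiF
    have := mul_mem hh (inv_mem (pow_mem hfF b))
    rwa [mul_inv_cancel_right] at this
  · rw [← pow_mul, mul_comm, pow_mul, ht, one_pow]
  · rw [pow_succ, pow_mul]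
    exact hζp
  · calc (t ^ i)⁻¹ * (m ^ i * f ^ b) * t ^ i = (t ^ i)⁻¹ * m ^ i * (f ^ b * t ^ i) := by group
      _ = ((t ^ i)⁻¹ * m ^ i * t ^ i) * f ^ b := by rw [(hfc b (t ^ i)).eq]; group
      _ = m ^ i * (f ^ (i * i) * f ^ b) := by rw [hti]; group
      _ = m ^ i * f ^ b * f ^ (i * i) := by rw [(hfc (i * i) (f ^ b)).eq]; group
      _ = m ^ i * f ^ b * z ^ (s * p ^ r) := by
        rw [mul_comm s, pow_mul z (p ^ r) s, ← hpow, pow_mul (z ^ p ^ r) k, hk]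
  · exact hb

end gens

section main

variable {G : Type u} [Group G] [Finite G] {p : ℕ} [hp : Fact p.Prime]

/-- **S3888** -/
theorem classification (hp2 : p ≠ 2) (n : ℕ) (hG : Nat.card G = p ^ n) (hrk : PRankLE p 2 G) :
    IsMetacyclic G ∨
    (3 ≤ n ∧ ∃ x y z : G, closure ({x, y, z} : Set G) = ⊤ ∧ x ^ p = 1 ∧ y ^ p = 1 ∧ z ^ p ^ (n - 2) = 1 ∧
        x * z = z * x ∧ y * z = z * y ∧ x⁻¹ * y * x = y * z ^ p ^ (n - 3)) ∨
    (4 ≤ n ∧ ∃ (s : ℕ) (x y z : G), (s = 1 ∨ ¬ IsSquare (s : ZMod p)) ∧ closure ({x, y, z} : Set G) = ⊤ ∧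
        x ^ p = 1 ∧ y ^ p = 1 ∧ z ^ p ^ (n - 2) = 1 ∧ y * z = z * y ∧ x⁻¹ * y * x = y * z ^ (s * p ^ (n - 3)) ∧
        x⁻¹ * z * x = y * z) ∨
    (p = 3 ∧ 2 ≤ n ∧ (⊤ : Subgroup G).lowerCentralSeries (n - 2) ≠ ⊥) := by
  classical
  have hGp : IsPGroup p G := IsPGroup.iff_card.mpr ⟨n, hG⟩
  by_cases hm : IsMetacyclic G
  · exact Or.inl hm
  right
  have hncyc : ¬ IsCyclic G := by
    intro hc
    apply hm
    refine ⟨⊥, inferInstance, inferInstance, ?_⟩
    exact isCyclic_of_surjective (QuotientGroup.mk' (⊥ : Subgroup G)) (QuotientGroup.mk'_surjective _)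
  have hncyc' : ¬ IsCyclic (⊤ : Subgroup G) := by
    intro hh
    exact hncyc (isCyclic_of_surjective (topEquiv (G := G)).toMonoidHom topEquiv.surjective)
  obtain ⟨E, -, hEn, hEe, hEc⟩ := NormalRankTwoIn.exists_normal_in hp2 hGp ⊤ hncyc'
  have hC : centralizer (E : Set G) ≠ ⊤ := by
    intro hC
    apply hm
    have hcen : ∀ x ∈ E, ∀ g : G, Commute x g := by
      intro x hx g
      have : g ∈ centralizer (E : Set G) := by rw [hC]; trivial
      exact mem_centralizer_iff.mp this x hx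
    have homega : ∀ x : G, x ^ p = 1 → x ∈ E := by
      intro x hxp
      by_contra hxE
      have hx : x ∈ centralizer (E : Set G) := by rw [hC]; trivial
      have h1 := PGroupOdd.card_sup_zpowers hEn hxE (by rw [hxp]; exact one_mem _)
      have h2 := PGroupOdd.isMulCommutative_sup_zpowers hEe.1 hx
      have h3 := hrk (E ⊔ zpowers x) h2 (by
        intro y hy
        rw [mem_sup_of_normal_left] at hy
        obtain ⟨a, ha, _, ⟨k, rfl⟩, rfl⟩ := hy
        have h4 : Commute a (x ^ k) := hcen a ha _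
        simp only
        rw [h4.mul_pow, hEe.2 a ha, one_mul, ← zpow_natCast, ← zpow_mul, mul_comm, zpow_mul, zpow_natCast, hxp,
          one_zpow])
      rw [h1, hEc] at h3
      have h4 := hp.out.one_lt
      have h5 : 0 < p ^ 2 := by positivity
      nlinarith
    apply metacyclic hp2 hGp
    set U := closure (Set.range fun x : G => x ^ p) with hU
    have hcard : Nat.card G ≤ Nat.card E * Nat.card U := by
      rw [← Nat.card_prod]
      have hch : ∀ s : Set.range fun x : G => x ^ p, ∃ c : G, c ^ p = s := fun s => s.2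
      choose r hr using hch
      let f : G → E × U := fun c =>
        (⟨(r ⟨c ^ p, c, rfl⟩)⁻¹ * c, homega _ (pcentral hp2 hGp (C := ⊤)
          (fun a _ hap b _ => hcen a (homega a hap) b) (mem_top _) (mem_top _) (hr ⟨c ^ p, c, rfl⟩))⟩,
          ⟨c ^ p, Subgroup.subset_closure ⟨c, rfl⟩⟩)
      apply Nat.card_le_card_of_injective f
      intro a b hab
      have h1 : a ^ p = b ^ p := congrArg (fun q => ((Prod.snd q : U) : G)) hab
      have h2 : (r ⟨a ^ p, a, rfl⟩)⁻¹ * a = (r ⟨b ^ p, b, rfl⟩)⁻¹ * b :=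
        congrArg (fun q => ((Prod.fst q : E) : G)) hab
      have h3 : (⟨a ^ p, a, rfl⟩ : Set.range fun x : G => x ^ p) = ⟨b ^ p, b, rfl⟩ := Subtype.ext h1
      rw [h3] at h2
      exact mul_left_cancel h2
    rw [← U.card_mul_index, hEc, mul_comm (p ^ 2)] at hcard
    exact Nat.le_of_mul_le_mul_left hcard Nat.card_pos
  obtain ⟨C, F, e, h⟩ := exists_setup hp2 hGp hrk hEn hEe hEc hC
  by_cases hEC : E = C
  · -- `n = 3`
    left
    have hn : n = 3 := by
      have h1 := C.card_mul_index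
      rw [← hEC, h.Ecard, hEC, h.index_C, hG, ← pow_succ] at h1
      exact (Nat.pow_right_injective hp.out.two_le h1).symm
    subst hn
    exact ⟨le_rfl, h.caseE hm hEC⟩
  obtain ⟨w, hw⟩ := h.exists_w hEC
  by_cases h3 : p = 3 → ∀ g, g ∉ C → ⁅g, w⁆ ∈ F
  · obtain ⟨t, htC, ht⟩ := hw.exists_t h hm h3
    have h3' : p = 3 → ⁅t⁻¹, w⁆ ∈ F := fun hh => h3 hh _ (fun h4 => htC (by simpa using inv_mem h4))
    obtain ⟨z, r, hz⟩ := hw.exists_Z h htC ht h3'
    have hn : n = r + 3 := by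
      have h1 := hz.card
      rw [hG] at h1
      exact Nat.pow_right_injective hp.out.two_le h1
    subst hn
    by_cases hF : t⁻¹ * z * t * z⁻¹ ∈ F
    · left
      refine ⟨by omega, ?_⟩
      exact hz.case2 h htC ht hF
    · right; left
      refine ⟨by have := hz.r1; omega, ?_⟩
      exact hz.case3 h htC ht hF
  · right; right
    push Not at h3
    obtain ⟨hp3, g, hg, hgw⟩ := h3
    have hcl := hw.max_class h hg hgw hG
    have hn : 3 ≤ n := by
      have h1 := C.card_mul_index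
      have h2 : Nat.card E ∣ Nat.card C := card_dvd_of_le h.EC
      rw [h.Ecard] at h2
      obtain ⟨a, ha⟩ := h2
      rw [h.index_C, ha, hG] at h1
      have h4 : p ^ 3 ≤ p ^ n := by
        apply Nat.le_of_dvd (pow_pos hp.out.pos _)
        exact ⟨a, by rw [← h1]; ring⟩
      exact (Nat.pow_le_pow_iff_right hp.out.one_lt).mp h4
    refine ⟨hp3, by omega, fun hh => ?_⟩
    haveI : Group.IsNilpotent G := hGp.isNilpotent
    have h1 : Group.nilpotencyClass G ≤ n - 2 := by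
      exact Subgroup.lowerCentralSeries_eq_bot_iff_nilpotencyClass_le.mp hh
    omega

end main

end Cfsg.Agent.Lib.RankTwoOdd
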