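import Cfsg.Agent.Lib.H17Pc8
import Cfsg.Agent.Lib.RankTwoOdd2
import Cfsg.Agent.S2969

/-! Isolated elements of order `p` in a simple group of `p`-rank two: the main theorem. -/

set_option autoImplicit false
open Cfsg

namespace Cfsg.Agent.Lib.H17Pc

open Subgroup

variable {G : Type*} [Group G] [Finite G] {p : ℕ} [hp : Fact p.Prime]

theorem class_of_lcs {S : Type*} [Group S] [Finite S] {n : ℕ} (hn : Nat.card S = p ^ n) (h2 : 2 ≤ n)
    (h : (⊤ : Subgroup S).lowerCentralSeries (n - 2) ≠ ⊥) : Group.nilpotencyClass S = n - 1 := by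
  have hS : IsPGroup p S := IsPGroup.of_card hn
  have hnil : Group.IsNilpotent S := hS.isNilpotent
  have h3 := MaxClassTwo.class_le n hn h2
  have h4 : ¬ Group.nilpotencyClass S ≤ n - 2 := by
    intro h5
    exact h (Subgroup.lowerCentralSeries_eq_bot_iff_nilpotencyClass_le.2 h5)
  omega

theorem main_simple [IsSimpleGroup G] (hna : ¬ IsMulCommutative G) (hp2 : p ≠ 2) (hr' : PRankLE p 2 G) (S : Sylow p G)
    {x0 : G} (hx0 : orderOf x0 = p) (hiso : IsIsolated x0) (hxS : x0 ∈ (S : Subgroup G)) :
    (IsExtraspecial p ↥(S : Subgroup G) ∧ Nat.card (S : Subgroup G) = p ^ 3 ∧ ∀ y ∈ (S : Subgroup G), y ^ p = 1) ∨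
    (p = 3 ∧ ∃ k : ℕ, 2 ≤ k ∧ Nat.card (S : Subgroup G) = 3 ^ (2 * k + 1) ∧
      ∃ _ : Group.IsNilpotent ↥(S : Subgroup G), Group.nilpotencyClass ↥(S : Subgroup G) = 2 * k) := by
  have hr : PRankLE p 2 ↥(S : Subgroup G) := PRankInj.of_injective (S : Subgroup G).subtype (subtype_injective _) hr'
  have hN : normalizer ((S : Subgroup G) : Set G) ≤ centralizer {x0} :=
    (S2969.result x0 ⟨1, by rw [pow_one]; exact hx0⟩ hiso).1 _ S.isPGroup' hxS
  have hcen : ∀ g ∈ (S : Subgroup G), Commute x0 g := fun g hg => by
    have := hN (le_normalizer hg)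
    rw [mem_centralizer_singleton_iff] at this
    exact this.symm
  have hmeta : ¬ IsMetacyclic ↥(S : Subgroup G) := fun hm => not_metacyclic hna hp2 S hx0 hxS hN hm
  obtain ⟨n, hn⟩ := IsPGroup.iff_card.1 S.isPGroup'
  set X : ↥(S : Subgroup G) := ⟨x0, hxS⟩ with hX
  have hXo : orderOf X = p := (orderOf_mk x0 hxS).trans hx0
  have hn3 : 3 ≤ n := by
    by_contra hcon
    exact hmeta (metacyclic_of hn X (k := 1) (by rw [hXo, pow_one]) (by omega))
  rcases Nat.eq_or_lt_of_le hn3 with hn3 | hn4
  · subst hn3
    left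
    have hexp : ∀ y : ↥(S : Subgroup G), y ^ p = 1 := by
      intro y
      obtain ⟨k, hk, hk'⟩ := (Nat.dvd_prime_pow hp.out).1 (hn ▸ orderOf_dvd_natCard y)
      have h2 : k < 2 := by
        by_contra hcon
        exact hmeta (metacyclic_of hn y hk' (by omega))
      rw [← orderOf_dvd_iff_pow_eq_one, hk']
      calc p ^ k ∣ p ^ 1 := pow_dvd_pow p (by omega)
        _ = p := pow_one p
    refine ⟨GESGroup.extraspecial_cube hn ?_, hn, fun y hy => congrArg Subtype.val (hexp ⟨y, hy⟩)⟩
    intro hab
    have h1 := hr ⊤ ⟨⟨fun a b => Subtype.ext (hab a b)⟩⟩ (fun a _ => hexp a)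
    rw [card_top, hn] at h1
    have := (Nat.pow_le_pow_iff_right hp.out.one_lt).1 h1
    omega
  · right
    have h4 : 4 ≤ n := hn4
    have hlcs : p = 3 ∧ (⊤ : Subgroup ↥(S : Subgroup G)).lowerCentralSeries (n - 2) ≠ ⊥ := by
      rcases RankTwoOdd.classification hp2 n hn hr with h | ⟨-, x, y, z, hgen, hxp, hyp, hz, hxz, hyz, hyx⟩ |
        ⟨-, s, x, y, z, hs, hgen, hxp, hyp, hz, hyz, hyx, hzx⟩ | ⟨h1, -, h2⟩
      · exact absurd h hmeta
      · exfalso
        obtain ⟨m, rfl⟩ : ∃ m, n = m + 3 := ⟨n - 3, by omega⟩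
        have e1 : m + 3 - 2 = m + 1 := by omega
        have e2 : m + 3 - 3 = m := by omega
        rw [e1] at hz
        rw [e2] at hyx
        have hF : Fam x y z (z ^ p ^ m) 0 :=
          { yz := hyz
            wx := ((show Commute x z from hxz).symm.pow_left _)
            wy := ((show Commute y z from hyz).symm.pow_left _)
            wz := ((Commute.refl z).pow_left _)
            yx := by
              rw [mul_assoc, ← hyx]; group
            zx := by rw [pow_zero, one_mul]; exact hxz.symm }
        exact fam_contra hna hp2 S hr hx0 hiso hxS hcen hF hgen hxp hyp hz (s := 1) (by rw [one_mul])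
          (by rw [Nat.dvd_one]; exact hp.out.one_lt.ne') (by omega) hn (Or.inl rfl)
      · obtain ⟨m, rfl⟩ : ∃ m, n = m + 3 := ⟨n - 3, by omega⟩
        have e1 : m + 3 - 2 = m + 1 := by omega
        have e2 : m + 3 - 3 = m := by omega
        rw [e1] at hz ⊢
        rw [e2] at hyx
        have hsp : ¬ p ∣ s := by
          intro hps
          rcases hs with rfl | hs
          · rw [Nat.dvd_one] at hps
            exact hp.out.one_lt.ne' hps
          · apply hs
            rw [(ZMod.natCast_eq_zero_iff s p).2 hps]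
            exact ⟨0, by simp⟩
        have hwx : Commute (z ^ (s * p ^ m)) x := by
          -- `x⁻¹ z x = y z`
          have h1 : x⁻¹ * (z ^ (s * p ^ m)) * x = z ^ (s * p ^ m) := by
            have h2 : x⁻¹ * (z ^ (s * p ^ m)) * x = (x⁻¹ * z * x) ^ (s * p ^ m) := by
              have := conj_pow (a := x⁻¹) (b := z) (i := s * p ^ m)
              rw [inv_inv] at this
              exact this.symm
            rw [h2, hzx, (show Commute y z from hyz).mul_pow]
            have h3 : y ^ (s * p ^ m) = 1 := by
              obtain ⟨t, ht⟩ : p ∣ s * p ^ m := (dvd_pow_self p (by omega)).mul_left s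
              rw [ht, pow_mul, hyp, one_pow]
            rw [h3, one_mul]
          show z ^ (s * p ^ m) * x = x * z ^ (s * p ^ m)
          calc z ^ (s * p ^ m) * x = x * (x⁻¹ * (z ^ (s * p ^ m)) * x) := by group
            _ = _ := by rw [h1]
        have hF : Fam x y z (z ^ (s * p ^ m)) 1 :=
          { yz := hyz
            wx := hwx
            wy := ((show Commute y z from hyz).symm.pow_left _)
            wz := ((Commute.refl z).pow_left _)
            yx := by
              rw [mul_assoc, ← hyx]; group
            zx := by rw [pow_one, ← hzx]; group }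
        by_cases h3 : p ^ m = 3
        · have hp3 : p = 3 := by
            have h5 : p ∣ 3 := by rw [← h3]; exact dvd_pow_self p (by omega)
            exact (Nat.prime_dvd_prime_iff_eq hp.out Nat.prime_three).1 h5
          have hm1 : m = 1 := by
            subst hp3
            have : (3 : ℕ) ^ m = 3 ^ 1 := by rw [h3, pow_one]
            exact Nat.pow_right_injective (le_refl 2 |>.trans (by norm_num)) this
          refine ⟨hp3, ?_⟩
          subst hm1
          intro hbot
          have hy1 : y ∈ (⊤ : Subgroup ↥(S : Subgroup G)).lowerCentralSeries 1 := by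
            rw [Subgroup.top_lowerCentralSeries_one]
            have h6 : y = x⁻¹ * z * (x⁻¹)⁻¹ * z⁻¹ := by
              rw [inv_inv, hzx, mul_inv_cancel_right]
            rw [h6]
            exact commutator_mem_commutator (mem_top _) (mem_top _)
          have hw2 : z ^ (s * p ^ 1) ∈ (⊤ : Subgroup ↥(S : Subgroup G)).lowerCentralSeries (1 + 1) := by
            rw [Subgroup.lowerCentralSeries_succ]
            have h6 : z ^ (s * p ^ 1) = (y * x⁻¹ * y⁻¹ * (x⁻¹)⁻¹)⁻¹ := by
              have h7 : (y * x⁻¹ * y⁻¹ * (x⁻¹)⁻¹)⁻¹ = (x⁻¹ * y * x) * y⁻¹ := by group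
              rw [h7, hyx, ← ((show Commute y z from hyz).pow_right _).eq.symm, mul_inv_cancel_right]
            rw [h6]
            exact inv_mem (commutator_mem_commutator hy1 (mem_top _))
          rw [show (1 : ℕ) + 1 = 2 from rfl] at hbot hw2
          rw [hbot, mem_bot] at hw2
          -- then `z ^ p = 1`, and the group is too small
          have hzp : z ^ p ^ 1 = 1 := by
            rw [pow_one] at hw2 ⊢
            by_contra hcon
            have h8 : orderOf (z ^ p) = p := by
              apply orderOf_eq_prime _ hcon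
              rw [← pow_mul, ← pow_two]; exact hz
            rw [mul_comm, pow_mul] at hw2
            exact hsp (h8 ▸ orderOf_dvd_of_pow_eq_one hw2)
          let f : Fin p × Fin p × Fin (p ^ 1) → ↥(S : Subgroup G) :=
            fun t => x ^ (t.1 : ℕ) * y ^ (t.2.1 : ℕ) * z ^ (t.2.2 : ℕ)
          have hf : Function.Surjective f := by
            intro g
            obtain ⟨i, j, k, l, rfl⟩ := hF.normal_form hgen g
            refine ⟨(⟨i % p, Nat.mod_lt _ hp.out.pos⟩, ⟨j % p, Nat.mod_lt _ hp.out.pos⟩,
              ⟨k % p ^ 1, Nat.mod_lt _ (pow_pos hp.out.pos 1)⟩), ?_⟩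
            show x ^ (i % p) * y ^ (j % p) * z ^ (k % p ^ 1) = _
            rw [hw2, one_pow, mul_one]
            congr 1
            · congr 1
              · exact (pow_eq_pow_mod i hxp).symm
              · exact (pow_eq_pow_mod j hyp).symm
            · exact (pow_eq_pow_mod k hzp).symm
          have h9 := Nat.card_le_card_of_surjective f hf
          rw [hn, Nat.card_prod, Nat.card_prod, Nat.card_fin, Nat.card_fin, ← pow_succ', ← pow_succ'] at h9
          have := (Nat.pow_le_pow_iff_right hp.out.one_lt).1 h9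
          omega
        · exfalso
          exact fam_contra hna hp2 S hr hx0 hiso hxS hcen hF hgen hxp hyp hz rfl hsp (by omega) hn (Or.inr h3)
      · exact ⟨h1, h2⟩
    obtain ⟨hp3, hl⟩ := hlcs
    have hcl := class_of_lcs hn (by omega) hl
    refine ⟨hp3, ?_⟩
    rcases Nat.even_or_odd n with heven | hodd
    · exfalso
      subst hp3
      exact no_even hna S hr hx0 hxS hN hmeta hn heven h4 hcl
    · obtain ⟨k, hk⟩ := hodd
      refine ⟨k, by omega, by rw [hn, hk, hp3], S.isPGroup'.isNilpotent, by rw [hcl, hk]; omega⟩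

end Cfsg.Agent.Lib.H17Pc
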