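import Cfsg.Agent.Lib.NormalRankTwo

/-!
# Generalized Baer-Suzuki in `p`-nilpotent groups (helper1): the module computation
-/

set_option autoImplicit false
set_option linter.all false

namespace Cfsg.Agent.Lib.H1BaerGen

open Finset

universe u v

variable {P : Type u} [Group P] {V : Type v} [AddCommGroup V] (ρ : P →* Module.End ℤ V)

/-- fixed points -/
def F (g : P) : AddSubgroup V where
  carrier := {v | ρ g v = v}
  zero_mem' := map_zero _
  add_mem' := fun {a b} ha hb => by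
    show ρ g (a + b) = a + b
    rw [map_add]
    exact congrArg₂ _ ha hb
  neg_mem' := fun {a} ha => by
    show ρ g (-a) = -a
    rw [map_neg]
    exact congrArg _ ha

theorem mem_F {g : P} {v : V} : v ∈ F ρ g ↔ ρ g v = v := Iff.rfl

/-- the norm of an element -/
noncomputable def Nm (p : ℕ) (g : P) : Module.End ℤ V := ∑ i ∈ range p, ρ (g ^ i)

theorem Nm_mem {p : ℕ} {g : P} (hg : g ^ p = 1) (v : V) : Nm ρ p g v ∈ F ρ g := by
  rcases Nat.eq_zero_or_pos p with h0 | hpos
  · subst h0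
    rw [mem_F, Nm]; simp
  obtain ⟨q, rfl⟩ : ∃ q, p = q + 1 := ⟨p - 1, by omega⟩
  rw [mem_F, Nm, LinearMap.sum_apply, map_sum]
  have h1 : ∀ i, ρ g (ρ (g ^ i) v) = ρ (g ^ (i + 1)) v := by
    intro i
    rw [← Module.End.mul_apply, ← map_mul, pow_succ']
  simp only [h1]
  rw [Finset.sum_range_succ, Finset.sum_range_succ' _ q, hg, pow_zero]

variable (hirr : ∀ U : AddSubgroup V, (∀ g : P, ∀ u ∈ U, ρ g u ∈ U) → U = ⊥ ∨ U = ⊤)
  (hfaith : ∀ g : P, (∀ v, ρ g v = v) → g = 1)

include hirr hfaith in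
theorem F_central {g : P} (hg : g ∈ Subgroup.center P) (hg1 : g ≠ 1) : F ρ g = ⊥ := by
  refine (hirr (F ρ g) ?_).resolve_right ?_
  · intro h u hu
    rw [mem_F] at hu ⊢
    rw [← Module.End.mul_apply, ← map_mul, ← Subgroup.mem_center_iff.1 hg h, map_mul,
      Module.End.mul_apply, hu]
  · intro h
    apply hg1
    apply hfaith
    intro v
    have : v ∈ F ρ g := by rw [h]; trivial
    exact this

include hirr hfaith in
theorem Nm_central {p : ℕ} {g : P} (hg : g ∈ Subgroup.center P) (hg1 : g ≠ 1) (hgp : g ^ p = 1) (v : V) :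
    Nm ρ p g v = 0 := by
  have h1 := Nm_mem ρ hgp v
  rw [F_central ρ hirr hfaith hg hg1] at h1
  exact h1

include hirr hfaith in
/-- the norm identity -/
theorem sum_Nm {p : ℕ} [hp : Fact p.Prime] {z e : P} (hz : z ∈ Subgroup.center P) (hzp : orderOf z = p)
    (v : V) : ∑ j ∈ range p, Nm ρ p (e * z ^ j) v = p • v := by
  have hze : ∀ g : P, Commute z g := fun g => (Subgroup.mem_center_iff.1 hz g).symm
  have h1 : ∀ j, Nm ρ p (e * z ^ j) v = ∑ i ∈ range p, ρ (e ^ i) (ρ ((z ^ i) ^ j) v) := by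
    intro j
    rw [Nm, LinearMap.sum_apply]
    refine Finset.sum_congr rfl fun i _ => ?_
    rw [← Module.End.mul_apply, ← map_mul, ((hze e).symm.pow_right j).mul_pow, ← pow_mul, ← pow_mul,
      mul_comm j i]
  simp only [h1]
  rw [Finset.sum_comm]
  obtain ⟨q, hq⟩ : ∃ q, p = q + 1 := ⟨p - 1, by have := hp.out.pos; omega⟩
  have h2 : ∀ i ∈ range p, i ≠ 0 → ∑ j ∈ range p, ρ (e ^ i) (ρ ((z ^ i) ^ j) v) = 0 := by
    intro i hi hi0
    rw [← map_sum, ← LinearMap.sum_apply]
    have h3 : z ^ i ≠ 1 := by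
      intro h
      have h4 := orderOf_dvd_of_pow_eq_one h
      rw [hzp] at h4
      have := Nat.le_of_dvd (Nat.pos_of_ne_zero hi0) h4
      rw [mem_range] at hi
      omega
    have h4 : (z ^ i) ^ p = 1 := by rw [← pow_mul, mul_comm, pow_mul, ← hzp, pow_orderOf_eq_one, one_pow]
    have h5 := Nm_central ρ hirr hfaith (Subgroup.pow_mem _ hz i) h3 h4 v
    rw [Nm] at h5
    rw [h5, map_zero]
  rw [Finset.sum_eq_single_of_mem 0 (mem_range.2 hp.out.pos) (fun i hi hi0 => h2 i hi hi0)]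
  simp

include hirr hfaith in
theorem card_F_le [Finite P] [Finite V] {p : ℕ} [hp : Fact p.Prime] {z e : P} (hz : z ∈ Subgroup.center P)
    (hzp : orderOf z = p) (hep : e ^ p = 1) (hcop : ∀ v : V, p • v = 0 → v = 0) {c s : P}
    (hs : s ∈ Subgroup.zpowers z) (hs1 : s ≠ 1) (hce : c * e * c⁻¹ = e * s) :
    Nat.card (F ρ c) ≤ Nat.card (F ρ e) := by
  have hze : ∀ g : P, Commute z g := fun g => (Subgroup.mem_center_iff.1 hz g).symm
  have hscen : s ∈ Subgroup.center P := (Subgroup.zpowers_le.2 hz) hs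
  have hsp : orderOf s = p := by
    have h1 : orderOf s ∣ p := by
      rw [← hzp]
      exact orderOf_dvd_of_mem_zpowers hs
    rcases (Nat.dvd_prime hp.out).1 h1 with h | h
    · exact absurd (orderOf_eq_one_iff.1 h) hs1
    · exact h
  -- every power of `z` is a power of `s`
  have hpow : ∀ j : ℕ, ∃ m : ℕ, z ^ j = s ^ m := by
    intro j
    have h1 : Subgroup.zpowers s = Subgroup.zpowers z := by
      apply Subgroup.eq_of_le_of_card_ge (Subgroup.zpowers_le.2 hs)
      rw [Nat.card_zpowers, Nat.card_zpowers, hsp, hzp]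
    have h2 : z ^ j ∈ Subgroup.zpowers s := by
      rw [h1]; exact Subgroup.pow_mem _ (Subgroup.mem_zpowers z) j
    rw [← mem_powers_iff_mem_zpowers] at h2
    obtain ⟨m, hm⟩ := (Submonoid.mem_powers_iff _ _).1 h2
    exact ⟨m, hm.symm⟩
  have hcs : ∀ m : ℕ, c ^ m * e * (c ^ m)⁻¹ = e * s ^ m := by
    intro m
    induction m with
    | zero => simp
    | succ m ih =>
      have h1 : c * s ^ m = s ^ m * c := Subgroup.mem_center_iff.1 (Subgroup.pow_mem _ hscen m) c
      calc c ^ (m + 1) * e * (c ^ (m + 1))⁻¹ = c * (c ^ m * e * (c ^ m)⁻¹) * c⁻¹ := by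
            rw [pow_succ']; group
        _ = (c * e * c⁻¹) * (c * s ^ m * c⁻¹) := by rw [ih]; group
        _ = e * s ^ (m + 1) := by rw [hce, h1, mul_inv_cancel_right, mul_assoc, ← pow_succ']
  have hinj : ∀ v : V, ρ c v = v → Nm ρ p e v = 0 → v = 0 := by
    intro v hv h0
    apply hcop
    rw [← sum_Nm ρ hirr hfaith hz hzp (e := e) v]
    apply Finset.sum_eq_zero
    intro j _
    obtain ⟨m, hm⟩ := hpow j
    rw [hm, ← hcs m, Nm, LinearMap.sum_apply]
    have hcm : ∀ m : ℕ, ρ (c ^ m) v = v := by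
      intro m
      induction m with
      | zero => simp
      | succ m ih => rw [pow_succ, map_mul, Module.End.mul_apply, hv, ih]
    have hcm' : ρ ((c ^ m)⁻¹) v = v := by
      nth_rewrite 1 [← hcm m]
      rw [← Module.End.mul_apply, ← map_mul, inv_mul_cancel]; simp
    have h1 : ∀ i, ρ ((c ^ m * e * (c ^ m)⁻¹) ^ i) v = ρ (c ^ m) (ρ (e ^ i) v) := by
      intro i
      rw [conj_pow, map_mul, map_mul, Module.End.mul_apply, Module.End.mul_apply, hcm']
    simp only [h1]
    rw [← map_sum, ← LinearMap.sum_apply]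
    rw [Nm] at h0
    rw [h0, map_zero]
  let φ : F ρ c → F ρ e := fun v => ⟨Nm ρ p e v, Nm_mem ρ hep _⟩
  refine Nat.card_le_card_of_injective φ ?_
  intro a b hab
  have h1 : Nm ρ p e a = Nm ρ p e b := congrArg Subtype.val hab
  apply Subtype.ext
  rw [← sub_eq_zero]
  apply hinj
  · rw [map_sub]
    exact congrArg₂ _ a.2 b.2
  · rw [map_sub, h1, sub_self]

include hirr hfaith in
theorem core [Finite P] [Nontrivial P] [Finite V] [Nontrivial V] {p : ℕ} [hp : Fact p.Prime]
    (hp2 : p ≠ 2) (hP : IsPGroup p P)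
    (hcop : ∀ v : V, p • v = 0 → v = 0) (C D : Set P) (hC : Subgroup.closure C = ⊤)
    (hD : Subgroup.closure D = ⊤)
    (hfac : ∀ c ∈ C, ∀ d ∈ D, ∀ x : V, ∃ u w, ρ c u = u ∧ ρ d w = w ∧ x = u + w) : False := by
  classical
  have hex : ∀ C : Set P, Subgroup.closure C = ⊤ → ∀ H : Subgroup P, H ≠ ⊤ → ∃ c ∈ C, c ∉ H := by
    intro C hC H hH
    by_contra hcon
    push Not at hcon
    apply hH
    rw [eq_top_iff, ← hC, Subgroup.closure_le]
    exact hcon
  obtain ⟨v₀, hv₀⟩ := exists_ne (0 : V)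
  by_cases hcyc : IsCyclic P
  · have hcen : ∀ g : P, g ∈ Subgroup.center P := by
      intro g
      rw [Subgroup.mem_center_iff]
      intro h
      exact (IsCyclic.commGroup (α := P)).mul_comm h g
    obtain ⟨c, hc, hc1⟩ := hex C hC ⊥ bot_ne_top
    obtain ⟨d, hd, hd1⟩ := hex D hD ⊥ bot_ne_top
    obtain ⟨u, w, hu, hw, hx⟩ := hfac c hc d hd v₀
    have h1 : u ∈ F ρ c := hu
    have h2 : w ∈ F ρ d := hw
    rw [F_central ρ hirr hfaith (hcen c) (fun h => hc1 (Subgroup.mem_bot.2 h)), AddSubgroup.mem_bot] at h1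
    rw [F_central ρ hirr hfaith (hcen d) (fun h => hd1 (Subgroup.mem_bot.2 h)), AddSubgroup.mem_bot] at h2
    rw [h1, h2, add_zero] at hx
    exact hv₀ hx
  obtain ⟨z, hz, hzp, E, hEn, hzE, hEc, hEp, hEcomm⟩ :=
    NormalRankTwo.exists_normal_rank_two hp2 _ P rfl hP hcyc
  have hze : ∀ g : P, Commute z g := fun g => (Subgroup.mem_center_iff.1 hz g).symm
  obtain ⟨e, heE, hez⟩ : ∃ e ∈ E, e ∉ Subgroup.zpowers z := by
    by_contra hcon
    push Not at hcon
    have h1 : Nat.card E ≤ Nat.card (Subgroup.zpowers z) := Subgroup.card_le_of_le hcon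
    rw [hEc, Nat.card_zpowers, hzp, pow_two] at h1
    have := hp.out.two_le
    nlinarith
  have hep : e ^ p = 1 := hEp e heE
  have hecen : e ∉ Subgroup.center P := by
    intro hec
    apply hv₀
    apply hcop
    rw [← sum_Nm ρ hirr hfaith hz hzp (e := e) v₀]
    apply Finset.sum_eq_zero
    intro j _
    apply Nm_central ρ hirr hfaith (Subgroup.mul_mem _ hec (Subgroup.pow_mem _ hz j))
    · intro h
      apply hez
      have : e = (z ^ j)⁻¹ := eq_inv_of_mul_eq_one_left h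
      rw [this]
      exact Subgroup.inv_mem _ (Subgroup.pow_mem _ (Subgroup.mem_zpowers z) j)
    · rw [((hze e).symm.pow_right j).mul_pow, hep, one_mul, ← pow_mul, mul_comm, pow_mul, ← hzp,
        pow_orderOf_eq_one, one_pow]
  have hmove : ∀ C : Set P, Subgroup.closure C = ⊤ → ∃ c ∈ C, ∃ s ∈ Subgroup.zpowers z, s ≠ 1 ∧
      c * e * c⁻¹ = e * s := by
    intro C hC
    have h1 : Subgroup.centralizer ({e} : Set P) ≠ ⊤ := by
      intro h
      apply hecen
      rw [Subgroup.mem_center_iff]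
      intro g
      have : g ∈ Subgroup.centralizer ({e} : Set P) := by rw [h]; trivial
      rw [Subgroup.mem_centralizer_singleton_iff] at this
      exact this
    obtain ⟨c, hc, hce⟩ := hex C hC _ h1
    refine ⟨c, hc, c * e * c⁻¹ * e⁻¹, hEcomm e heE c, ?_, ?_⟩
    · intro h
      apply hce
      rw [Subgroup.mem_centralizer_singleton_iff]
      exact mul_inv_eq_iff_eq_mul.1 (mul_inv_eq_one.1 h)
    · have h2 : e * (c * e * c⁻¹ * e⁻¹) = (c * e * c⁻¹ * e⁻¹) * e :=
        Subgroup.mem_center_iff.1 ((Subgroup.zpowers_le.2 hz) (hEcomm e heE c)) e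
      rw [h2]; group
  obtain ⟨c, hc, s, hs, hs1, hce⟩ := hmove C hC
  obtain ⟨d, hd, t, ht, ht1, hde⟩ := hmove D hD
  have hFc := card_F_le ρ hirr hfaith hz hzp hep hcop hs hs1 hce
  have hFd := card_F_le ρ hirr hfaith hz hzp hep hcop ht ht1 hde
  -- upper bound
  have hup : Nat.card V ≤ Nat.card (F ρ c) * Nat.card (F ρ d) := by
    rw [← Nat.card_prod]
    refine Nat.card_le_card_of_surjective (fun x : F ρ c × F ρ d => (x.1 : V) + x.2) ?_
    intro x
    obtain ⟨u, w, hu, hw, hx⟩ := hfac c hc d hd x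
    exact ⟨(⟨u, hu⟩, ⟨w, hw⟩), hx.symm⟩
  -- lower bound
  have hscen : s ∈ Subgroup.center P := (Subgroup.zpowers_le.2 hz) hs
  have hsp : s ^ p = 1 := by
    obtain ⟨k, rfl⟩ := Subgroup.mem_zpowers_iff.1 hs
    rw [← zpow_natCast, ← zpow_mul, mul_comm, zpow_mul, zpow_natCast, ← hzp, pow_orderOf_eq_one, one_zpow]
  have hs2 : s ^ 2 ≠ 1 := by
    intro h
    apply hs1
    have h1 : orderOf s ∣ 2 := orderOf_dvd_of_pow_eq_one h
    have h2 : orderOf s ∣ p := orderOf_dvd_of_pow_eq_one hsp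
    have h3 : Nat.Coprime 2 p := (Nat.coprime_primes Nat.prime_two hp.out).2 (Ne.symm hp2)
    have := Nat.dvd_gcd h1 h2
    rw [h3, Nat.dvd_one, orderOf_eq_one_iff] at this
    exact this
  have hse : ∀ m : ℕ, Commute e (s ^ m) := fun m =>
    Subgroup.mem_center_iff.1 (Subgroup.pow_mem _ hscen m) e
  have hdisj : ∀ (g s : P) (v : V), s ∈ Subgroup.center P → s ≠ 1 → ρ g v = v → ρ (g * s) v = v → v = 0 := by
    intro g s v hs hs1 h1 h2
    have h3 : v ∈ F ρ s := by
      rw [mem_F]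
      rw [Subgroup.mem_center_iff.1 hs g, map_mul, Module.End.mul_apply, h1] at h2
      exact h2
    rw [F_central ρ hirr hfaith hs hs1] at h3
    exact h3
  have hconj : ∀ (m : ℕ) (v : V), ρ e v = v → ρ (c ^ m * e * (c ^ m)⁻¹) (ρ (c ^ m) v) = ρ (c ^ m) v := by
    intro m v hv
    rw [← Module.End.mul_apply, ← map_mul, inv_mul_cancel_right, map_mul, Module.End.mul_apply, hv]
  have hce2 : c ^ 2 * e * (c ^ 2)⁻¹ = e * s ^ 2 := by
    calc c ^ 2 * e * (c ^ 2)⁻¹ = c * (c * e * c⁻¹) * c⁻¹ := by rw [pow_two]; group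
      _ = c * (e * s) * c⁻¹ := by rw [hce]
      _ = (c * e * c⁻¹) * (c * s * c⁻¹) := by group
      _ = e * s ^ 2 := by
        rw [hce, Subgroup.mem_center_iff.1 hscen c, mul_inv_cancel_right, mul_assoc, ← pow_two]
  have hlow : Nat.card (F ρ e) * (Nat.card (F ρ e) * Nat.card (F ρ e)) ≤ Nat.card V := by
    rw [← Nat.card_prod, ← Nat.card_prod]
    refine Nat.card_le_card_of_injective
      (fun x : F ρ e × F ρ e × F ρ e => (x.1 : V) + (ρ c x.2.1 + ρ (c ^ 2) x.2.2)) ?_
    have key : ∀ a b d : V, ρ e a = a → ρ e b = b → ρ e d = d → a + (ρ c b + ρ (c ^ 2) d) = 0 →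
        a = 0 ∧ b = 0 ∧ d = 0 := by
      intro a b d ha hb hd h0
      set b1 := ρ c b with hb1
      set d2 := ρ (c ^ 2) d with hd2
      have hb1' : ρ (e * s) b1 = b1 := by
        have := hconj 1 b hb
        rwa [pow_one, hce] at this
      have hd2' : ρ (e * s ^ 2) d2 = d2 := by
        have := hconj 2 d hd
        rwa [hce2] at this
      -- apply `ρ e - 1`
      have h1 : (ρ e b1 - b1) + (ρ e d2 - d2) = 0 := by
        have h2 : ρ e (a + (b1 + d2)) = 0 := by rw [h0, map_zero]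
        rw [map_add, map_add, ha] at h2
        have : (ρ e b1 - b1) + (ρ e d2 - d2) = (a + (ρ e b1 + ρ e d2)) - (a + (b1 + d2)) := by abel
        rw [this, h2, h0, sub_self]
      have hcomm1 : ρ (e * s) (ρ e b1 - b1) = ρ e b1 - b1 := by
        rw [map_sub, hb1', ← Module.End.mul_apply, ← map_mul]
        have : e * s * e = e * (e * s) := by
          rw [mul_assoc, ← Subgroup.mem_center_iff.1 hscen e]
        rw [this, map_mul, Module.End.mul_apply, hb1']
      have hcomm2 : ρ (e * s ^ 2) (ρ e d2 - d2) = ρ e d2 - d2 := by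
        rw [map_sub, hd2', ← Module.End.mul_apply, ← map_mul]
        have : e * s ^ 2 * e = e * (e * s ^ 2) := by
          rw [mul_assoc, ← (hse 2).eq]
        rw [this, map_mul, Module.End.mul_apply, hd2']
      have h3 : ρ e d2 - d2 = -(ρ e b1 - b1) := by
        rw [eq_neg_iff_add_eq_zero, add_comm]; exact h1
      have h4 : ρ e b1 - b1 = 0 := by
        apply hdisj (e * s) s _ hscen hs1 hcomm1
        have h5 : ρ (e * s ^ 2) (-(ρ e b1 - b1)) = -(ρ e b1 - b1) := by rw [← h3]; exact hcomm2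
        rw [map_neg, neg_inj] at h5
        rw [mul_assoc, ← pow_two]; exact h5
      have h5 : ρ e d2 - d2 = 0 := by rw [h3, h4, neg_zero]
      have h6 : b1 = 0 := hdisj e s b1 hscen hs1 (sub_eq_zero.1 h4) hb1'
      have h7 : d2 = 0 := hdisj e (s ^ 2) d2 (Subgroup.pow_mem _ hscen 2) hs2 (sub_eq_zero.1 h5) hd2'
      have hinvb : b = ρ c⁻¹ b1 := by
        rw [hb1, ← Module.End.mul_apply, ← map_mul, inv_mul_cancel]; simp
      have hinvd : d = ρ (c ^ 2)⁻¹ d2 := by
        rw [hd2, ← Module.End.mul_apply, ← map_mul, inv_mul_cancel]; simp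
      rw [h6, h7, add_zero, add_zero] at h0
      refine ⟨h0, ?_, ?_⟩
      · rw [hinvb, h6, map_zero]
      · rw [hinvd, h7, map_zero]
    rintro ⟨a, b, d⟩ ⟨a', b', d'⟩ h
    have h' : (a : V) + (ρ c b + ρ (c ^ 2) d) = (a' : V) + (ρ c b' + ρ (c ^ 2) d') := h
    obtain ⟨h1, h2, h3⟩ := key (a - a') (b - b') (d - d') (by rw [map_sub, a.2, a'.2])
      (by rw [map_sub, b.2, b'.2]) (by rw [map_sub, d.2, d'.2]) (by
        rw [map_sub, map_sub]
        have : ((a : V) - a') + ((ρ c b - ρ c b') + (ρ (c ^ 2) d - ρ (c ^ 2) d')) =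
          ((a : V) + (ρ c b + ρ (c ^ 2) d)) - ((a' : V) + (ρ c b' + ρ (c ^ 2) d')) := by abel
        rw [this, h', sub_self])
    rw [Prod.mk.injEq, Prod.mk.injEq]
    exact ⟨Subtype.ext (sub_eq_zero.1 h1), Subtype.ext (sub_eq_zero.1 h2), Subtype.ext (sub_eq_zero.1 h3)⟩
  have hV : 1 < Nat.card V := Finite.one_lt_card
  set f := Nat.card (F ρ e) with hf
  have h1 : Nat.card V ≤ f * f := hup.trans (Nat.mul_le_mul hFc hFd)
  have hfpos : 0 < f := Nat.card_pos
  have h2 : f * (f * f) ≤ f * f := hlow.trans h1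
  have h3 : f ≤ 1 := by
    by_contra hcon
    push Not at hcon
    have : 0 < f * f := by positivity
    nlinarith
  have h4 : f = 1 := by omega
  rw [h4] at h1
  omega

end Cfsg.Agent.Lib.H1BaerGen
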