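import Cfsg.Agent.Lib.H1BaerGen
import Cfsg.Agent.Lib.BG03Crit
import Cfsg.Agent.Lib.SubgroupTools
import Cfsg.Agent.Lib.RelSylow

/-!
# Generalized Baer-Suzuki in `p`-nilpotent groups (helper1): the reduction
-/

set_option autoImplicit false
set_option linter.all false

namespace Cfsg.Agent.Lib.H1BaerGen

open Subgroup Cfsg.Agent.Lib.RelSylow
open scoped IsMulCommutative

universe u v

structure Hyp {G : Type u} [Group G] (p : ℕ) (P N : Subgroup G) (C D : Set G) : Prop where
  norm : P ≤ normalizer (N : Set G)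
  pg : IsPGroup p P
  cop : (Nat.card N).Coprime p
  hC : closure C = P
  hD : closure D = P
  h : ∀ x ∈ N, ∀ c ∈ C, ∀ d ∈ D, IsPGroup p (closure ({x * c * x⁻¹, d} : Set G))

section

variable {G : Type u} [Group G] [Finite G] {p : ℕ} [hp : Fact p.Prime] {P N : Subgroup G} {C D : Set G}

theorem Hyp.map {Q : Type v} [Group Q] (f : G →* Q) (h : Hyp p P N C D) :
    Hyp p (P.map f) (N.map f) (f '' C) (f '' D) where
  norm := by
    rintro _ ⟨x, hx, rfl⟩
    rw [mem_normalizer_iff]
    intro y
    have hx' := h.norm hx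
    constructor
    · rintro ⟨n, hn, rfl⟩
      exact ⟨x * n * x⁻¹, (mem_normalizer_iff.1 hx' n).1 hn, by simp⟩
    · rintro ⟨n, hn, hn'⟩
      refine ⟨x⁻¹ * n * x, (mem_normalizer_iff''.1 hx' n).1 hn, ?_⟩
      rw [map_mul, map_mul, hn', map_inv]
      group
  pg := h.pg.map f
  cop := Nat.Coprime.coprime_dvd_left (card_map_dvd N f) h.cop
  hC := by rw [← MonoidHom.map_closure, h.hC]
  hD := by rw [← MonoidHom.map_closure, h.hD]
  h := by
    rintro _ ⟨x, hx, rfl⟩ _ ⟨c, hc, rfl⟩ _ ⟨d, hd, rfl⟩
    have h1 := (h.h x hx c hc d hd).map f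
    rw [MonoidHom.map_closure, Set.image_pair, _root_.map_mul, _root_.map_mul, map_inv] at h1
    exact h1

omit [Finite G] hp in
theorem closure_preimage {L : Subgroup G} {C : Set G} (hC : C ⊆ L) :
    (closure (L.subtype ⁻¹' C)).map L.subtype = closure C := by
  rw [MonoidHom.map_closure]
  congr 1
  ext x
  constructor
  · rintro ⟨y, hy, rfl⟩; exact hy
  · intro hx
    exact ⟨⟨x, hC hx⟩, hx, rfl⟩

theorem Hyp.comap (L : Subgroup G) (h : Hyp p P N C D) (hP : P ≤ L) (hN : N ≤ L) :
    Hyp p (P.subgroupOf L) (N.subgroupOf L) (L.subtype ⁻¹' C) (L.subtype ⁻¹' D) where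
  norm := by
    intro x hx
    have hx' := h.norm hx
    rw [mem_normalizer_iff]
    intro y
    exact mem_normalizer_iff.1 hx' (y : G)
  pg := h.pg.comap_subtype
  cop := by
    have h1 : Nat.card (N.subgroupOf L) = Nat.card N := Nat.card_congr (subgroupOfEquivOfLe hN).toEquiv
    rw [h1]; exact h.cop
  hC := by
    apply map_injective L.subtype_injective
    rw [closure_preimage, h.hC, map_subgroupOf_eq_of_le hP]
    intro c hc
    apply hP
    rw [← h.hC]
    exact subset_closure hc
  hD := by
    apply map_injective L.subtype_injective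
    rw [closure_preimage, h.hD, map_subgroupOf_eq_of_le hP]
    intro c hc
    apply hP
    rw [← h.hD]
    exact subset_closure hc
  h := by
    intro x hx c hc d hd
    have h1 := h.h x hx c hc d hd
    have h2 : (closure ({x * c * x⁻¹, d} : Set L)).map L.subtype = closure ({(x : G) * c * (x : G)⁻¹, (d : G)} : Set G) := by
      rw [MonoidHom.map_closure, Set.image_pair]
      rfl
    rw [← h2] at h1
    exact IsPGroup.of_injective h1 ((closure ({x * c * x⁻¹, d} : Set L)).equivMapOfInjective _ L.subtype_injective).toMonoidHom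
      (MulEquiv.injective _)

theorem Hyp.inf_eq_bot (h : Hyp p P N C D) : N ⊓ P = ⊥ := by
  apply inf_eq_bot_of_coprime
  obtain ⟨k, hk⟩ := IsPGroup.iff_card.mp h.pg
  rw [hk]
  exact Nat.Coprime.pow_right _ h.cop

theorem Hyp.card_coprime (h : Hyp p P N C D) : (Nat.card P).Coprime (Nat.card N) := by
  obtain ⟨k, hk⟩ := IsPGroup.iff_card.mp h.pg
  rw [hk]
  exact (Nat.Coprime.pow_right _ h.cop).symm

/-- the factorization -/
theorem Hyp.fac (h : Hyp p P N C D) {x c d : G} (hx : x ∈ N) (hc : c ∈ C) (hd : d ∈ D) :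
    ∃ n ∈ N, d * n = n * d ∧ c * (n⁻¹ * x) = (n⁻¹ * x) * c := by
  have hcP : c ∈ P := by rw [← h.hC]; exact subset_closure hc
  have hdP : d ∈ P := by rw [← h.hD]; exact subset_closure hd
  have hS := h.h x hx c hc d hd
  set S := closure ({x * c * x⁻¹, d} : Set G) with hSdef
  have hSL : S ≤ N ⊔ P := by
    rw [hSdef, closure_le]
    rintro y (rfl | rfl)
    · exact mul_mem (mul_mem ((le_sup_left : N ≤ N ⊔ P) hx) ((le_sup_right : P ≤ N ⊔ P) hcP))
        (inv_mem ((le_sup_left : N ≤ N ⊔ P) hx))
    · exact (le_sup_right : P ≤ N ⊔ P) hdP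
  have hPs : IsSyl p P (N ⊔ P) := by
    refine ⟨le_sup_right, h.pg, ?_⟩
    have h1 := SubgroupTools.card_sup_of_coprime h.norm h.card_coprime.symm
    have h2 := relIndex_mul_relIndex (⊥ : Subgroup G) P (N ⊔ P) bot_le le_sup_right
    rw [relIndex_bot_left, relIndex_bot_left, h1, mul_comm] at h2
    rw [Nat.eq_of_mul_eq_mul_right Nat.card_pos h2, ← hp.out.coprime_iff_not_dvd]
    exact h.cop.symm
  obtain ⟨g, hg, hle⟩ := hPs.exists_conj_le hS hSL
  obtain ⟨n, hn, y, hy, rfl⟩ := (SubgroupTools.mem_sup_of_le_normalizer h.norm).1 hg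
  rw [← conj_conj, conj_eq_of_mem hy] at hle
  have hkey : ∀ (m a : G), m ∈ N → a ∈ P → m⁻¹ * a * m ∈ P → a * m = m * a := by
    intro m a hm ha hma
    have h1 : a⁻¹ * (m⁻¹ * a * m) ∈ N ⊓ P := by
      refine mem_inf.2 ⟨?_, mul_mem (inv_mem ha) hma⟩
      have : a⁻¹ * (m⁻¹ * a * m) = (a⁻¹ * m⁻¹ * (a⁻¹)⁻¹) * m := by group
      rw [this]
      exact mul_mem ((mem_normalizer_iff.1 (inv_mem (h.norm ha)) _).1 (inv_mem hm)) hm
    rw [h.inf_eq_bot, mem_bot, inv_mul_eq_one] at h1
    calc a * m = m * (m⁻¹ * a * m) := by group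
      _ = m * a := by rw [← h1]
  refine ⟨n, hn, ?_, ?_⟩
  · apply hkey n d hn hdP
    have h1 : d ∈ S := by rw [hSdef]; exact subset_closure (by simp)
    have h2 := hle h1
    rwa [mem_conj_iff] at h2
  · have h1 : x * c * x⁻¹ ∈ S := by rw [hSdef]; exact subset_closure (by simp)
    have h2 := hle h1
    rw [mem_conj_iff] at h2
    have h3 := hkey (x⁻¹ * n) c (mul_mem (inv_mem hx) hn) hcP
      (by
        have : (x⁻¹ * n)⁻¹ * c * (x⁻¹ * n) = n⁻¹ * (x * c * x⁻¹) * n := by group
        rw [this]; exact h2)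
    have h4 : (n⁻¹ * x) = (x⁻¹ * n)⁻¹ := by group
    rw [h4]
    have h5 : Commute c (x⁻¹ * n) := h3
    exact h5.inv_right

end

/-- conjugation action on an abelian normal subgroup, as a representation over `ℤ` -/
noncomputable def conjRep {G : Type u} [Group G] (N : Subgroup G) [N.Normal] [IsMulCommutative N] (P : Subgroup G) :
    P →* Module.End ℤ (Additive N) where
  toFun g := (MonoidHom.toAdditive ((MulAut.conjNormal (H := N) (g : G)).toMonoidHom)).toIntLinearMap
  map_one' := by
    ext v
    simp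
  map_mul' := fun a b => by
    ext v
    simp

theorem conjRep_apply {G : Type u} [Group G] (N : Subgroup G) [N.Normal] [IsMulCommutative N] (P : Subgroup G)
    (g : P) (v : N) : ((conjRep N P g (Additive.ofMul v)).toMul : G) = (g : G) * v * (g : G)⁻¹ := by
  show ((MulAut.conjNormal (H := N) (g : G) v : N) : G) = _
  rw [MulAut.conjNormal_apply]

theorem main_aux (n : ℕ) : ∀ (G : Type u) [Group G] [Finite G], Nat.card G = n → ∀ (p : ℕ) [Fact p.Prime],
    p ≠ 2 → ∀ (P N : Subgroup G) (C D : Set G), Hyp p P N C D → N ≤ centralizer (P : Set G) := by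
  induction n using Nat.strong_induction_on with
  | _ n ih =>
  intro G _ _ hn p hp hp2 P N C D h
  -- subgroup step
  have hsub : ∀ M : Subgroup G, Hyp p P M C D → M ⊔ P ≠ ⊤ → M ≤ centralizer (P : Set G) := by
    intro M hM hne
    have hlt : Nat.card (M ⊔ P : Subgroup G) < n := by
      rw [← hn]
      refine lt_of_le_of_ne (Subgroup.card_le_card_group _) fun heq => hne ?_
      exact Subgroup.eq_top_of_card_eq _ heq
    have h1 := ih _ hlt (M ⊔ P : Subgroup G) rfl p hp2 _ _ _ _ (hM.comap (M ⊔ P) le_sup_right le_sup_left)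
    intro m hm
    rw [mem_centralizer_iff]
    intro y hy
    have h2 := h1 (show (⟨m, (le_sup_left : M ≤ M ⊔ P) hm⟩ : (M ⊔ P : Subgroup G)) ∈ M.subgroupOf (M ⊔ P) from hm)
    rw [mem_centralizer_iff] at h2
    exact congrArg Subtype.val (h2 ⟨y, (le_sup_right : P ≤ M ⊔ P) hy⟩ hy)
  by_cases htop : N ⊔ P = ⊤
  swap
  · exact hsub N h htop
  by_contra hcon
  have hNn : N.Normal := by
    rw [← normalizer_eq_top_iff, ← top_le_iff, ← htop]
    exact sup_le le_normalizer h.norm
  have hcardG : Nat.card G = Nat.card N * Nat.card P := by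
    rw [← SubgroupTools.card_sup_of_coprime h.norm h.card_coprime.symm, htop, card_top]
  have hmin : ∀ M ≤ N, M ≠ N → P ≤ normalizer (M : Set G) → M ≤ centralizer (P : Set G) := by
    intro M hMN hne hPM
    have hM : Hyp p P M C D :=
      { norm := hPM
        pg := h.pg
        cop := Nat.Coprime.coprime_dvd_left (card_dvd_of_le hMN) h.cop
        hC := h.hC
        hD := h.hD
        h := fun x hx => h.h x (hMN hx) }
    apply hsub M hM
    intro htop'
    apply hne
    apply Subgroup.eq_of_le_of_card_ge hMN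
    have h1 := SubgroupTools.card_sup_of_coprime hM.norm hM.card_coprime.symm
    rw [htop', card_top, hcardG] at h1
    exact (Nat.eq_of_mul_eq_mul_right Nat.card_pos h1).le
  have hcrit : BG03Crit.Crit P N :=
    { norm := h.norm
      cop := h.card_coprime
      solv := Or.inl (by
        haveI : Group.IsNilpotent P := h.pg.isNilpotent
        infer_instance)
      ne := hcon
      min := hmin }
  have hquot : ∀ K : Subgroup G, K.Normal → K ≠ ⊥ → N ≤ K := by
    intro K hK hne
    rw [← hcrit.commutator_eq]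
    have hlt : Nat.card (G ⧸ K) < n := by
      rw [← hn, ← Subgroup.index_eq_card, ← K.card_mul_index]
      have h1 : 1 < Nat.card K := (Subgroup.one_lt_card_iff_ne_bot K).2 hne
      have h2 : 0 < K.index := Nat.pos_of_ne_zero index_ne_zero_of_finite
      nlinarith
    have h1 := ih _ hlt (G ⧸ K) rfl p hp2 _ _ _ _ (h.map (QuotientGroup.mk' K))
    rw [← commutator_eq_bot_iff_le_centralizer, ← map_commutator, Subgroup.map_eq_bot_iff, QuotientGroup.ker_mk'] at h1
    exact h1
  have habel : ⁅N, N⁆ = ⊥ := by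
    by_contra hne
    have h1 := hquot ⁅N, N⁆ inferInstance hne
    exact hcrit.commutator_self_ne (le_antisymm (LocBase.commutator_le_left_of_le le_normalizer) h1)
  have hNcomm : IsMulCommutative N := by
    rw [commutator_eq_bot_iff_le_centralizer] at habel
    exact le_centralizer_iff_isMulCommutative.1 habel
  have hfix : N ⊓ centralizer (P : Set G) = ⊥ := by
    rw [hcrit.inf_centralizer_eq, habel]
  have hNne : N ≠ ⊥ := by
    rintro rfl
    exact hcon bot_le
  have hfaith : P ⊓ centralizer (N : Set G) = ⊥ := by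
    by_contra hne
    have hKn : (P ⊓ centralizer (N : Set G)).Normal := by
      rw [← normalizer_eq_top_iff, ← top_le_iff, ← htop]
      have h1 : N ≤ centralizer ((P ⊓ centralizer (N : Set G) : Subgroup G) : Set G) := by
        rw [le_centralizer_iff]
        exact inf_le_right
      refine sup_le (h1.trans (centralizer_le_normalizer _)) ?_
      intro y hy
      haveI : (centralizer (N : Set G)).Normal := inferInstance
      rw [mem_normalizer_iff]
      intro x
      rw [mem_inf, mem_inf]
      constructor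
      · rintro ⟨h1, h2⟩
        exact ⟨mul_mem (mul_mem hy h1) (inv_mem hy), this.conj_mem _ h2 y⟩
      · rintro ⟨h1, h2⟩
        refine ⟨?_, ?_⟩
        · have := mul_mem (mul_mem (inv_mem hy) h1) hy
          simpa [mul_assoc] using this
        · have := this.conj_mem _ h2 y⁻¹
          simpa [mul_assoc] using this
    have h1 := hquot _ hKn hne
    apply hNne
    rw [← inf_eq_left.2 (h1.trans inf_le_left), h.inf_eq_bot]
  -- build the module
  let ρ := conjRep N P
  haveI : Nontrivial (Additive N) := by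
    have : Nontrivial N := (Subgroup.nontrivial_iff_ne_bot N).2 hNne
    exact inferInstanceAs (Nontrivial N)
  haveI : Finite (Additive N) := inferInstanceAs (Finite N)
  haveI : Nontrivial P := by
    rw [Subgroup.nontrivial_iff_ne_bot]
    rintro hb
    apply hcon
    rw [hb]
    intro x _
    rw [mem_centralizer_iff]
    rintro y hy
    rw [SetLike.mem_coe, mem_bot] at hy
    rw [hy, one_mul, mul_one]
  have hact : ∀ (g : P) (v : N), ((ρ g (Additive.ofMul v)).toMul : G) = (g : G) * v * (g : G)⁻¹ :=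
    fun g v => conjRep_apply N P g v
  have hfixiff : ∀ (g : P) (v : N), ρ g (Additive.ofMul v) = Additive.ofMul v ↔ (g : G) * v = v * g := by
    intro g v
    constructor
    · intro h1
      have h2 := hact g v
      rw [h1] at h2
      have h3 : (v : G) = (g : G) * v * (g : G)⁻¹ := h2
      exact (mul_inv_eq_iff_eq_mul.1 h3.symm)
    · intro h1
      apply Additive.toMul.injective
      apply Subtype.ext
      rw [hact, h1]
      exact mul_inv_cancel_right _ _
  refine core ρ ?_ ?_ hp2 h.pg ?_ (P.subtype ⁻¹' C) (P.subtype ⁻¹' D) ?_ ?_ ?_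
  · intro U hU
    let T : Subgroup G :=
      { carrier := {x | ∃ hx : x ∈ N, Additive.ofMul (⟨x, hx⟩ : N) ∈ U}
        one_mem' := ⟨one_mem _, U.zero_mem⟩
        mul_mem' := by
          rintro a b ⟨ha, ha'⟩ ⟨hb, hb'⟩
          exact ⟨mul_mem ha hb, U.add_mem ha' hb'⟩
        inv_mem' := by
          rintro a ⟨ha, ha'⟩
          exact ⟨inv_mem ha, U.neg_mem ha'⟩ }
    have hTN : T ≤ N := fun x hx => hx.1
    have hPT : P ≤ normalizer (T : Set G) := by
      have h1 : ∀ y ∈ P, ∀ x ∈ T, y * x * y⁻¹ ∈ T := by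
        rintro y hy x ⟨hx, hx'⟩
        have h2 := hU ⟨y, hy⟩ _ hx'
        have h3 := hact ⟨y, hy⟩ ⟨x, hx⟩
        refine ⟨hNn.conj_mem _ hx y, ?_⟩
        have h4 : ρ ⟨y, hy⟩ (Additive.ofMul (⟨x, hx⟩ : N)) =
            Additive.ofMul (⟨y * x * y⁻¹, hNn.conj_mem _ hx y⟩ : N) := by
          apply Additive.toMul.injective
          apply Subtype.ext
          exact h3
        rw [← h4]; exact h2
      intro y hy
      rw [mem_normalizer_iff]
      intro x
      refine ⟨h1 y hy x, fun hx => ?_⟩
      have := h1 y⁻¹ (inv_mem hy) _ hx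
      simpa [mul_assoc] using this
    by_cases hTe : T = N
    · right
      rw [eq_top_iff]
      intro v _
      have : ((Additive.toMul v : N) : G) ∈ T := by rw [hTe]; exact (Additive.toMul v).2
      obtain ⟨h1, h2⟩ := this
      exact h2
    · left
      have h1 : T ≤ N ⊓ centralizer (P : Set G) := le_inf hTN (hmin T hTN hTe hPT)
      rw [hfix, le_bot_iff] at h1
      rw [eq_bot_iff]
      intro v hv
      have h2 : ((Additive.toMul v : N) : G) ∈ T := ⟨(Additive.toMul v).2, hv⟩
      rw [h1, mem_bot] at h2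
      rw [AddSubgroup.mem_bot]
      apply Additive.toMul.injective
      exact Subtype.ext h2
  · intro g hg
    have h1 : (g : G) ∈ P ⊓ centralizer (N : Set G) := by
      refine mem_inf.2 ⟨g.2, ?_⟩
      rw [mem_centralizer_iff]
      intro v hv
      exact ((hfixiff g ⟨v, hv⟩).1 (hg _)).symm
    rw [hfaith, mem_bot] at h1
    exact Subtype.ext h1
  · intro v hv
    have h1 : (Additive.toMul v) ^ p = 1 := hv
    have h2 : orderOf (Additive.toMul v) ∣ p := orderOf_dvd_of_pow_eq_one h1
    have h3 : orderOf (Additive.toMul v) ∣ Nat.card N := orderOf_dvd_natCard _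
    have h4 := Nat.dvd_gcd h3 h2
    rw [h.cop, Nat.dvd_one, orderOf_eq_one_iff] at h4
    exact h4
  · apply map_injective P.subtype_injective
    rw [closure_preimage, h.hC, ← MonoidHom.range_eq_map, range_subtype]
    rw [← h.hC]; exact subset_closure
  · apply map_injective P.subtype_injective
    rw [closure_preimage, h.hD, ← MonoidHom.range_eq_map, range_subtype]
    rw [← h.hD]; exact subset_closure
  · intro c hc d hd x
    obtain ⟨n, hnN, h1, h2⟩ := h.fac (Additive.toMul x).2 hc hd
    refine ⟨Additive.ofMul ⟨n⁻¹ * ((Additive.toMul x : N) : G), mul_mem (inv_mem hnN) (Additive.toMul x).2⟩,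
      Additive.ofMul ⟨n, hnN⟩, ?_, ?_, ?_⟩
    · exact (hfixiff c _).2 h2
    · exact (hfixiff d _).2 h1
    · apply Additive.toMul.injective
      apply Subtype.ext
      show ((Additive.toMul x : N) : G) = n⁻¹ * ((Additive.toMul x : N) : G) * n
      have h3 := congrArg Subtype.val (hNcomm.is_comm.comm (Additive.toMul x) ⟨n, hnN⟩)
      have h4 : ((Additive.toMul x : N) : G) * n = n * ((Additive.toMul x : N) : G) := h3
      rw [mul_assoc, h4, inv_mul_cancel_left]

theorem main {G : Type u} [Group G] [Finite G] {p : ℕ} [Fact p.Prime] (hp2 : p ≠ 2)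
    {P N : Subgroup G} {C D : Set G} (h : Hyp p P N C D) : N ≤ centralizer (P : Set G) :=
  main_aux _ G rfl p hp2 P N C D h

end Cfsg.Agent.Lib.H1BaerGen
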