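import Mathlib
import Cfsg.Agent.Lib.SylowTools

set_option autoImplicit false
set_option linter.unusedSectionVars false
set_option linter.deprecated false

/-! p-groups of order p^3 and transvections inside (helper1) -/

namespace Cfsg.Agent.Lib.H1Cube

open Subgroup

variable {P : Type*} [Group P] [Finite P]

theorem center_card {p : ℕ} [hp : Fact p.Prime] (hcard : Nat.card P = p ^ 3)
    (hnc : ¬ IsMulCommutative P) : Nat.card (center P) = p := by
  have hpp : p.Prime := hp.out
  obtain ⟨k, hk0, hk⟩ := IsPGroup.card_center_eq_prime_pow hcard (by norm_num)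
  have hmul := Subgroup.card_eq_card_quotient_mul_card_subgroup (center P)
  have hk3 : k ≤ 3 := by
    have : p ^ k ∣ p ^ 3 := by rw [← hcard, ← hk]; exact Subgroup.card_subgroup_dvd_card _
    exact (Nat.pow_dvd_pow_iff_le_right hpp.one_lt).1 this
  have hcomm : ¬ IsCyclic (P ⧸ center P) := by
    intro hcy
    apply hnc
    refine ⟨⟨fun a b => ?_⟩⟩
    exact commutative_of_cyclic_center_quotient (QuotientGroup.mk' (center P)) (by rw [QuotientGroup.ker_mk']) a b
  have hq : Nat.card (P ⧸ center P) = p ^ (3 - k) := by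
    rw [hcard, hk] at hmul
    have : p ^ 3 = p ^ (3 - k) * p ^ k := by rw [← pow_add]; congr 1; omega
    rw [this] at hmul
    exact (Nat.eq_of_mul_eq_mul_right (pow_pos hpp.pos k) hmul).symm
  interval_cases k
  · rw [hk, pow_one]
  · exfalso; apply hcomm
    exact isCyclic_of_prime_card (p := p) (by rw [hq]; norm_num)
  · exfalso; apply hcomm
    have : Nat.card (P ⧸ center P) = 1 := by rw [hq]; norm_num
    have := (Nat.card_eq_one_iff_unique.1 this).1
    exact isCyclic_of_subsingleton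

theorem comm_mem {p : ℕ} [hp : Fact p.Prime] (hcard : Nat.card P = p ^ 3)
    (hnc : ¬ IsMulCommutative P) (a b : P) : a * b * a⁻¹ * b⁻¹ ∈ center P := by
  have hpp : p.Prime := hp.out
  have h1 := center_card hcard hnc
  have hmul := Subgroup.card_eq_card_quotient_mul_card_subgroup (center P)
  have hq : Nat.card (P ⧸ center P) = p ^ 2 := by
    rw [hcard, h1] at hmul
    have : p ^ 3 = p ^ 2 * p := by ring
    rw [this] at hmul
    exact (Nat.eq_of_mul_eq_mul_right hpp.pos hmul).symm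
  have h2 := IsPGroup.commutative_of_card_eq_prime_sq hq (a : P ⧸ center P) (b : P ⧸ center P)
  rw [← QuotientGroup.eq_one_iff]
  simp only [QuotientGroup.mk_mul, QuotientGroup.mk_inv]
  rw [h2]; group

/-- an element of the centre is a power of any nontrivial central element -/
theorem mem_zpowers {p : ℕ} [hp : Fact p.Prime] (hcard : Nat.card P = p ^ 3)
    (hnc : ¬ IsMulCommutative P) {s t : P} (hs : s ∈ center P) (hs1 : s ≠ 1) (ht : t ∈ center P) :
    t ∈ zpowers s := by
  have h1 := center_card hcard hnc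
  have h2 := mem_zpowers_of_prime_card (G := center P) (p := p) h1 (g := ⟨s, hs⟩) (g' := ⟨t, ht⟩)
    (by intro h; exact hs1 (congrArg Subtype.val h))
  obtain ⟨n, hn⟩ := mem_zpowers_iff.1 h2
  exact mem_zpowers_iff.2 ⟨n, congrArg Subtype.val hn⟩

/-- noncentral `z` in the group of order `p^3`, central `x`: some `b` sends `z` to `x⁻¹ z` -/
theorem exists_shift {p : ℕ} [hp : Fact p.Prime] (hcard : Nat.card P = p ^ 3)
    (hnc : ¬ IsMulCommutative P) {x z : P} (hx : x ∈ center P) (hz : z ∉ center P) :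
    ∃ b : P, b * z * b⁻¹ = x⁻¹ * z := by
  obtain ⟨c, hc⟩ : ∃ c : P, c * z ≠ z * c := by
    by_contra hcon
    push Not at hcon
    exact hz (mem_center_iff.2 hcon)
  have hs := comm_mem hcard hnc c z
  have hs1 : c * z * c⁻¹ * z⁻¹ ≠ 1 := by
    intro h
    apply hc
    exact mul_inv_eq_iff_eq_mul.1 (mul_inv_eq_one.1 h)
  obtain ⟨n, hn⟩ := mem_zpowers_iff.1 (mem_zpowers hcard hnc hs hs1 (inv_mem hx))
  refine ⟨c ^ n, ?_⟩
  have hcz : c * z * c⁻¹ = (c * z * c⁻¹ * z⁻¹) * z := by group
  generalize c * z * c⁻¹ * z⁻¹ = s at *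
  have hsc : ∀ g : P, g * s = s * g := mem_center_iff.1 hs
  have hconj : ∀ g : P, g * s * g⁻¹ = s := fun g => by rw [hsc g]; group
  have key : ∀ m : ℕ, c ^ m * z * (c ^ m)⁻¹ = s ^ m * z := by
    intro m
    induction m with
    | zero => simp
    | succ m ih =>
      calc c ^ (m + 1) * z * (c ^ (m + 1))⁻¹ = c * (c ^ m * z * (c ^ m)⁻¹) * c⁻¹ := by
            rw [pow_succ' c m]; group
        _ = c * (s ^ m * z) * c⁻¹ := by rw [ih]
        _ = (c * s * c⁻¹) ^ m * (c * z * c⁻¹) := by rw [conj_pow]; group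
        _ = s ^ m * (s * z) := by rw [hconj, hcz]
        _ = s ^ (m + 1) * z := by rw [pow_succ]; group
  have key' : ∀ m : ℤ, c ^ m * z * (c ^ m)⁻¹ = s ^ m * z := by
    intro m
    rcases Int.eq_nat_or_neg m with ⟨k, rfl | rfl⟩
    · rw [zpow_natCast, zpow_natCast]; exact key k
    · rw [zpow_neg, zpow_neg, zpow_natCast, zpow_natCast, inv_inv]
      have h1 := key k
      have h2 : c ^ k * (s ^ k)⁻¹ = (s ^ k)⁻¹ * c ^ k := by
        have h3 : Commute (c ^ k) (s ^ k) := Commute.pow_pow (hsc c) k k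
        exact h3.inv_right.eq
      calc (c ^ k)⁻¹ * z * c ^ k = (c ^ k)⁻¹ * ((s ^ k)⁻¹ * (s ^ k * z)) * c ^ k := by group
        _ = (c ^ k)⁻¹ * ((s ^ k)⁻¹ * (c ^ k * z * (c ^ k)⁻¹)) * c ^ k := by rw [h1]
        _ = (c ^ k)⁻¹ * ((s ^ k)⁻¹ * c ^ k) * z := by group
        _ = (c ^ k)⁻¹ * (c ^ k * (s ^ k)⁻¹) * z := by rw [h2]
        _ = (s ^ k)⁻¹ * z := by group
  rw [key' n, hn]

end Cfsg.Agent.Lib.H1Cube
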