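import Mathlib
import Cfsg.Prelude.Def_Perm

/-!
# Orders of the one-dimensional affine and semi-affine groups (helper1)
-/

set_option autoImplicit false

open Cfsg

namespace Cfsg.Agent.Lib.H1Semi

variable {F : Type*} [Field F]

theorem affine_le : affineGroup F ≤ semiaffineGroup F := by
  rintro σ ⟨a, b, h⟩
  exact ⟨a, b, RingEquiv.refl F, fun x => by simpa using h x⟩

/-- the semi-affine permutation with given data -/
def mkSemi (t : Fˣ × F × (F ≃+* F)) : Equiv.Perm F where
  toFun x := (t.1 : F) * t.2.2 x + t.2.1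
  invFun x := t.2.2.symm (((t.1⁻¹ : Fˣ) : F) * (x - t.2.1))
  left_inv x := by simp
  right_inv x := by simp

theorem mkSemi_apply (t : Fˣ × F × (F ≃+* F)) (x : F) : mkSemi t x = (t.1 : F) * t.2.2 x + t.2.1 := rfl

theorem mkSemi_mem (t : Fˣ × F × (F ≃+* F)) : mkSemi t ∈ semiaffineGroup F :=
  ⟨t.1, t.2.1, t.2.2, fun _ => rfl⟩

theorem mkSemi_injective : Function.Injective (mkSemi : Fˣ × F × (F ≃+* F) → Equiv.Perm F) := by
  rintro ⟨a, b, φ⟩ ⟨c, d, ψ⟩ h
  have h0 : ∀ x, (a : F) * φ x + b = (c : F) * ψ x + d := fun x => by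
    have := congrArg (fun e : Equiv.Perm F => e x) h
    simpa [mkSemi_apply] using this
  have hb : b = d := by simpa using h0 0
  have ha : a = c := by
    apply Units.ext
    have := h0 1
    rw [hb] at this
    simpa using this
  subst hb ha
  have hφ : φ = ψ := by
    apply RingEquiv.ext
    intro x
    have := h0 x
    simpa using this
  rw [hφ]

theorem card_semiaffine [Finite F] :
    Nat.card (semiaffineGroup F) = Nat.card F * ((Nat.card F - 1) * Nat.card (F ≃+* F)) := by
  have e : (Fˣ × F × (F ≃+* F)) ≃ semiaffineGroup F :=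
    Equiv.ofBijective (fun t => ⟨mkSemi t, mkSemi_mem t⟩) ⟨fun s t h => mkSemi_injective (congrArg Subtype.val h), by
      rintro ⟨σ, a, b, φ, h⟩
      exact ⟨(a, b, φ), Subtype.ext (Equiv.ext fun x => (h x).symm)⟩⟩
  rw [← Nat.card_congr e, Nat.card_prod, Nat.card_prod, Nat.card_units]
  ring

theorem card_affine [Finite F] : Nat.card (affineGroup F) = Nat.card F * (Nat.card F - 1) := by
  have e : (Fˣ × F) ≃ affineGroup F :=
    Equiv.ofBijective (fun t => ⟨mkSemi (t.1, t.2, RingEquiv.refl F), ⟨t.1, t.2, fun _ => rfl⟩⟩) ⟨by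
      rintro ⟨a, b⟩ ⟨c, d⟩ h
      have := mkSemi_injective (congrArg Subtype.val h)
      simpa using this, by
      rintro ⟨σ, a, b, h⟩
      exact ⟨(a, b), Subtype.ext (Equiv.ext fun x => (h x).symm)⟩⟩
  rw [← Nat.card_congr e, Nat.card_prod, Nat.card_units]
  ring

/-- the semilinear group of dimension one, as the stabilizer of `0` -/
def gammaL (F : Type*) [Field F] : Subgroup (Equiv.Perm F) :=
  semiaffineGroup F ⊓ MulAction.stabilizer (Equiv.Perm F) (0 : F)

theorem mem_gammaL {σ : Equiv.Perm F} (h : ∃ (a : F) (φ : F ≃+* F), ∀ x, σ x = a * φ x) : σ ∈ gammaL F := by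
  obtain ⟨a, φ, h⟩ := h
  have ha : a ≠ 0 := by
    intro ha
    have h1 : σ 1 = σ 0 := by rw [h, h, ha]; simp
    exact one_ne_zero (σ.injective h1)
  refine ⟨⟨Units.mk0 a ha, 0, φ, fun x => by simpa using h x⟩, ?_⟩
  show σ 0 = 0
  rw [h]; simp

theorem card_gammaL [Finite F] : Nat.card (gammaL F) = (Nat.card F - 1) * Nat.card (F ≃+* F) := by
  have e : (Fˣ × (F ≃+* F)) ≃ gammaL F :=
    Equiv.ofBijective (fun t => ⟨mkSemi (t.1, 0, t.2), mkSemi_mem _, by
        show mkSemi (t.1, 0, t.2) 0 = 0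
        simp [mkSemi_apply]⟩) ⟨by
      rintro ⟨a, b⟩ ⟨c, d⟩ h
      have := mkSemi_injective (congrArg Subtype.val h)
      simpa using this, by
      rintro ⟨σ, ⟨a, b, φ, h⟩, h0⟩
      have h0' : σ 0 = 0 := h0
      have hb : b = 0 := by
        rw [h] at h0'; simpa using h0'
      refine ⟨(a, φ), Subtype.ext (Equiv.ext fun x => ?_)⟩
      show mkSemi (a, 0, φ) x = σ x
      rw [mkSemi_apply, h, hb]⟩
  rw [← Nat.card_congr e, Nat.card_prod, Nat.card_units]

theorem card_aut (p n : ℕ) [Fact p.Prime] (hn : n ≠ 0) : Nat.card (GaloisField p n ≃+* GaloisField p n) = n := by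
  have h1 : Nat.card (GaloisField p n ≃ₐ[ZMod p] GaloisField p n) = n := by
    rw [IsGalois.card_aut_eq_finrank, GaloisField.finrank p hn]
  refine Eq.trans (Eq.symm ?_) h1
  refine (Nat.card_congr (Equiv.ofBijective (fun f : GaloisField p n ≃ₐ[ZMod p] GaloisField p n => f.toRingEquiv) ⟨?_, ?_⟩))
  · intro f g h
    exact AlgEquiv.ext fun x => congrArg (fun k : GaloisField p n ≃+* GaloisField p n => k x) h
  · intro f
    refine ⟨AlgEquiv.ofRingEquiv (f := f) (fun r => ?_), ?_⟩
    · exact congrArg (fun k : ZMod p →+* GaloisField p n => k r)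
        (Subsingleton.elim ((f : GaloisField p n →+* GaloisField p n).comp (algebraMap (ZMod p) (GaloisField p n)))
          (algebraMap (ZMod p) (GaloisField p n)))
    · ext x; rfl

/-- data of a semiaffine permutation -/
theorem aut_exists (σ : semiaffineGroup F) : ∃ φ : F ≃+* F, ∃ a : Fˣ, ∃ b : F, ∀ x, (σ : Equiv.Perm F) x = (a : F) * φ x + b := by
  obtain ⟨σ, a, b, φ, h⟩ := σ
  exact ⟨φ, a, b, h⟩

theorem aut_unique {σ : Equiv.Perm F} {φ ψ : F ≃+* F} {a c : Fˣ} {b d : F}
    (h1 : ∀ x, σ x = (a : F) * φ x + b) (h2 : ∀ x, σ x = (c : F) * ψ x + d) : φ = ψ := by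
  have h : mkSemi (a, b, φ) = mkSemi (c, d, ψ) := by
    apply Equiv.ext
    intro x
    rw [mkSemi_apply, mkSemi_apply, ← h1, ← h2]
  have := mkSemi_injective h
  simp only [Prod.mk.injEq] at this
  exact this.2.2

/-- the field automorphism part -/
noncomputable def autPart : semiaffineGroup F →* (F ≃+* F) where
  toFun σ := (aut_exists σ).choose
  map_one' := by
    obtain ⟨a, b, h⟩ := (aut_exists (1 : semiaffineGroup F)).choose_spec
    refine aut_unique (σ := 1) (a := a) (b := b) (c := 1) (d := 0) h (fun x => ?_)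
    show x = _
    simp
  map_mul' σ τ := by
    obtain ⟨a, b, h⟩ := (aut_exists (σ * τ)).choose_spec
    obtain ⟨a1, b1, h1⟩ := (aut_exists σ).choose_spec
    obtain ⟨a2, b2, h2⟩ := (aut_exists τ).choose_spec
    refine aut_unique (σ := ((σ * τ : semiaffineGroup F) : Equiv.Perm F)) (a := a) (b := b)
      (c := a1 * Units.map ((aut_exists σ).choose : F →* F) a2) (d := (a1 : F) * (aut_exists σ).choose b2 + b1) h (fun x => ?_)
    show (σ : Equiv.Perm F) ((τ : Equiv.Perm F) x) = _
    rw [h1, h2]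
    have h3 : ((aut_exists σ).choose * (aut_exists τ).choose) x = (aut_exists σ).choose ((aut_exists τ).choose x) := rfl
    rw [h3]
    simp only [Units.val_mul, Units.coe_map, MonoidHom.coe_coe, map_add, map_mul]
    ring

theorem mem_affine_of_autPart (σ : semiaffineGroup F) (h : autPart σ = 1) : (σ : Equiv.Perm F) ∈ affineGroup F := by
  obtain ⟨a, b, h1⟩ := (aut_exists σ).choose_spec
  refine ⟨a, b, fun x => ?_⟩
  rw [h1]
  have h2 : (aut_exists σ).choose = 1 := h
  rw [h2]
  rfl

end Cfsg.Agent.Lib.H1Semi
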