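import Cfsg.Agent.Lib.HupL

/-!
# Huppert's theorem: solvable groups transitive on the nonzero vectors (helper61)
-/

set_option autoImplicit false

namespace Cfsg.Agent.Lib.HupM

open HupA HupB HupD HupI HupK HupL

variable {q : ℕ} [hq : Fact q.Prime] {V : Type*} [AddCommGroup V] [Module (ZMod q) V] [Finite V]
  {G : Type*} [Group G] {ρ : G →* (V ≃ₗ[ZMod q] V)}

theorem dim_one [Nontrivial V] (hinj : Function.Injective ρ) (ht : Tr ρ)
    (hf : Module.finrank (ZMod q) V = 1) : Semi ρ := by
  have hna : NA ρ (⊥ : Subgroup G) := by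
    refine ⟨hinj, ht, inferInstance, ?_⟩
    intro a ha b hb
    rw [Subgroup.mem_bot.mp ha, Subgroup.mem_bot.mp hb]
  apply semi_of_card hna
  have h1 := card_alg_le hna
  have hfin := finite_alg (ρ := ρ) (A := (⊥ : Subgroup G))
  have hd1 : 1 ≤ Module.finrank (ZMod q) (alg ρ (⊥ : Subgroup G)) := by
    have : Nontrivial (alg ρ (⊥ : Subgroup G)) := (isDomain_alg hna).toNontrivial
    exact Module.finrank_pos
  apply le_antisymm h1
  rw [card_alg_eq, card_V_eq (q := q) (V := V), hf]
  exact Nat.pow_le_pow_right hq.out.pos hd1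

/-- Huppert's theorem. -/
theorem huppert [Finite G] [Nontrivial V] (hsol : Group.IsSolvable G) (hinj : Function.Injective ρ) (ht : Tr ρ) :
    Semi ρ ∨ Nat.card V ∈ ({9, 25, 49, 121, 529, 81} : Set ℕ) := by
  have hf0 : 0 < Module.finrank (ZMod q) V := Module.finrank_pos
  rcases Nat.lt_or_ge (Module.finrank (ZMod q) V) 3 with h | h
  · have h12 : Module.finrank (ZMod q) V = 1 ∨ Module.finrank (ZMod q) V = 2 := by omega
    rcases h12 with h | h
    · exact Or.inl (dim_one hinj ht h)
    · rcases dim_two hinj ht h with h | h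
      · exact Or.inl h
      · right
        simp only [Set.mem_insert_iff, Set.mem_singleton_iff] at h ⊢
        tauto
  · by_cases h26 : q = 2 ∧ Module.finrank (ZMod q) V = 6
    · obtain ⟨h2, h6⟩ := h26
      subst h2
      exact Or.inl (two_six hinj ht h6)
    · rcases ge_three hinj ht h h26 with h | h
      · exact Or.inl h
      · right
        simp [h]

theorem Semi.exists_field [Finite G] [Nontrivial V] (h : Semi ρ) :
    ∃ (F : Type) (_ : Field F) (_ : Fintype F) (e : V ≃+ F),
        ∀ g : G, ∃ (a : F) (σ : F ≃+* F), ∀ v : V, e (ρ g v) = a * σ (e v) := by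
  obtain ⟨f, e, -, h⟩ := h
  have : Finite (GaloisField q f) := Finite.of_equiv V e.toEquiv
  exact ⟨GaloisField q f, inferInstance, Fintype.ofFinite _, e, h⟩

end Cfsg.Agent.Lib.HupM
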