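import Mathlib.GroupTheory.GroupAction.MultipleTransitivity
import Mathlib.GroupTheory.GroupAction.SubMulAction.Combination
import Cfsg.Prelude.Def_Perm
import Cfsg.Agent.Lib.HupM
import Cfsg.Agent.Lib.SubgroupTools

/-!
# Kantor's theorem on 2-homogeneous groups, from solvability (helper61)
-/

set_option autoImplicit false

namespace Cfsg.Agent.Lib.HupTwoHom

open HupA HupB HupD HupM
open scoped Pointwise

variable {α : Type*} [Fintype α] [DecidableEq α] {G : Subgroup (Equiv.Perm α)}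

/-- Two-homogeneity, unfolded. -/
def Hom2 (G : Subgroup (Equiv.Perm α)) : Prop :=
  ∀ a b c d : α, a ≠ b → c ≠ d → ∃ g : G, ((g : Equiv.Perm α) a = c ∧ (g : Equiv.Perm α) b = d) ∨
    ((g : Equiv.Perm α) a = d ∧ (g : Equiv.Perm α) b = c)

theorem hom2_of (h2 : MulAction.IsPretransitive G (Set.powersetCard α 2)) : Hom2 G := by
  intro a b c d hab hcd
  obtain ⟨g, hg⟩ := h2.exists_smul_eq (⟨{a, b}, by
    rw [Set.powersetCard.mem_iff]; exact Finset.card_pair hab⟩ : Set.powersetCard α 2)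
    (⟨{c, d}, by rw [Set.powersetCard.mem_iff]; exact Finset.card_pair hcd⟩ : Set.powersetCard α 2)
  have h1 : g • ({a, b} : Finset α) = {c, d} := congrArg (fun s : Set.powersetCard α 2 => (s : Finset α)) hg
  have ha : g • a ∈ ({c, d} : Finset α) := by
    rw [← h1]; exact Finset.smul_mem_smul_finset (by simp)
  have hb : g • b ∈ ({c, d} : Finset α) := by
    rw [← h1]; exact Finset.smul_mem_smul_finset (by simp)
  have hne : g • a ≠ g • b := fun h => hab (smul_left_cancel g h)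
  simp only [Finset.mem_insert, Finset.mem_singleton] at ha hb
  refine ⟨g, ?_⟩
  rcases ha with ha | ha <;> rcases hb with hb | hb
  · exact absurd (ha.trans hb.symm) hne
  · exact Or.inl ⟨ha, hb⟩
  · exact Or.inr ⟨ha, hb⟩
  · exact absurd (ha.trans hb.symm) hne

theorem inv_apply_self' (g : Equiv.Perm α) (a : α) : g⁻¹ (g a) = a := Equiv.symm_apply_apply g a

/-- No element of `G` interchanges two points. -/
theorem noswap (h : Hom2 G) (hn2 : ¬ MulAction.IsMultiplyPretransitive G α 2) (g : G) {a b : α} (hab : a ≠ b) :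
    ¬ ((g : Equiv.Perm α) a = b ∧ (g : Equiv.Perm α) b = a) := by
  rintro ⟨h1, h2⟩
  apply hn2
  rw [MulAction.is_two_pretransitive_iff]
  intro c d c' d' hcd hcd'
  obtain ⟨x, hx⟩ := h c d a b hcd hab
  obtain ⟨y, hy⟩ := h a b c' d' hab hcd'
  have hx' : ∃ x' : G, (x' : Equiv.Perm α) c = a ∧ (x' : Equiv.Perm α) d = b := by
    rcases hx with hx | hx
    · exact ⟨x, hx⟩
    · refine ⟨g * x, ?_, ?_⟩
      · rw [Subgroup.coe_mul, Equiv.Perm.mul_apply, hx.1, h2]
      · rw [Subgroup.coe_mul, Equiv.Perm.mul_apply, hx.2, h1]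
  have hy' : ∃ y' : G, (y' : Equiv.Perm α) a = c' ∧ (y' : Equiv.Perm α) b = d' := by
    rcases hy with hy | hy
    · exact ⟨y, hy⟩
    · refine ⟨y * g, ?_, ?_⟩
      · rw [Subgroup.coe_mul, Equiv.Perm.mul_apply, h1, hy.2]
      · rw [Subgroup.coe_mul, Equiv.Perm.mul_apply, h2, hy.1]
  obtain ⟨x', hx1, hx2⟩ := hx'
  obtain ⟨y', hy1, hy2⟩ := hy'
  refine ⟨y' * x', ?_, ?_⟩
  · show ((y' * x' : G) : Equiv.Perm α) c = c'
    rw [Subgroup.coe_mul, Equiv.Perm.mul_apply, hx1, hy1]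
  · show ((y' * x' : G) : Equiv.Perm α) d = d'
    rw [Subgroup.coe_mul, Equiv.Perm.mul_apply, hx2, hy2]

theorem odd_card (h : Hom2 G) (hn2 : ¬ MulAction.IsMultiplyPretransitive G α 2) : Odd (Nat.card G) := by
  by_contra hodd
  rw [Nat.not_odd_iff_even, even_iff_two_dvd] at hodd
  have : Fact (Nat.Prime 2) := ⟨Nat.prime_two⟩
  obtain ⟨g, hg⟩ := exists_prime_orderOf_dvd_card' 2 hodd
  have hg1 : g ≠ 1 := by rintro rfl; simp at hg
  have hg2 : g * g = 1 := by rw [← pow_two, ← hg, pow_orderOf_eq_one]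
  obtain ⟨a, ha⟩ : ∃ a, (g : Equiv.Perm α) a ≠ a := by
    by_contra hcon
    push Not at hcon
    exact hg1 (Subtype.ext (Equiv.ext hcon))
  refine noswap h hn2 g (a := a) (b := (g : Equiv.Perm α) a) (Ne.symm ha) ⟨rfl, ?_⟩
  rw [← Equiv.Perm.mul_apply, ← Subgroup.coe_mul, hg2, Subgroup.coe_one, Equiv.Perm.one_apply]

theorem exists_third (hne : G ≠ ⊥) (h : Hom2 G) (hn2 : ¬ MulAction.IsMultiplyPretransitive G α 2) :
    ∃ a b c : α, a ≠ b ∧ a ≠ c ∧ b ≠ c := by
  obtain ⟨g, hg, hg1⟩ := (Subgroup.ne_bot_iff_exists_ne_one.mp hne |> fun ⟨x, hx⟩ => ⟨(x : Equiv.Perm α), x.2,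
    fun h' => hx (Subtype.ext h')⟩ : ∃ g : Equiv.Perm α, g ∈ G ∧ g ≠ 1)
  obtain ⟨a, ha⟩ : ∃ a, g a ≠ a := by
    by_contra hcon
    push Not at hcon
    exact hg1 (Equiv.ext hcon)
  refine ⟨a, g a, g (g a), Ne.symm ha, ?_, ?_⟩
  · intro h'
    exact noswap h hn2 ⟨g, hg⟩ (a := a) (b := g a) (Ne.symm ha) ⟨rfl, h'.symm⟩
  · intro h'
    exact ha (g.injective h').symm

theorem transitive (hne : G ≠ ⊥) (h : Hom2 G) (hn2 : ¬ MulAction.IsMultiplyPretransitive G α 2) (a b : α) :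
    ∃ g : G, (g : Equiv.Perm α) a = b := by
  by_cases hab : a = b
  · exact ⟨1, by rw [Subgroup.coe_one, Equiv.Perm.one_apply, hab]⟩
  obtain ⟨x, y, z, hxy, hxz, hyz⟩ := exists_third hne h hn2
  obtain ⟨c, hca, hcb⟩ : ∃ c, c ≠ a ∧ c ≠ b := by
    by_contra hcon
    push Not at hcon
    by_cases h1 : x = a
    · subst h1
      have h2 := hcon y (Ne.symm hxy)
      have h3 := hcon z (Ne.symm hxz)
      exact hyz (h2.trans h3.symm)
    · have h1' := hcon x h1
      by_cases h2 : y = a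
      · subst h2
        have h3 := hcon z (Ne.symm hyz)
        exact hxz (h1'.trans h3.symm)
      · exact hxy (h1'.trans (hcon y h2).symm)
  obtain ⟨g, hg | hg⟩ := h a c b c (Ne.symm hca) (Ne.symm hcb)
  · exact ⟨g, hg.1⟩
  · exact ⟨g * g, by rw [Subgroup.coe_mul, Equiv.Perm.mul_apply, hg.1, hg.2]⟩

universe u

theorem exists_lin1 {G V : Type u} [Group G] [AddCommGroup V] (p : ℕ) [Module (ZMod p) V] (c : G → V →+ V)
    (h1 : ∀ v, c 1 v = v) (h2 : ∀ g h v, c (g * h) v = c g (c h v)) :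
    ∃ (F : G →* (V ≃ₗ[ZMod p] V)), ∀ g v, F g v = c g v := by
  let F1 : G → (V ≃ₗ[ZMod p] V) := fun g =>
    LinearEquiv.ofLinearMap ((c g).toZModLinearMap p) ((c g⁻¹).toZModLinearMap p)
      (by
        apply LinearMap.ext
        intro v
        show c g (c g⁻¹ v) = v
        rw [← h2, mul_inv_cancel, h1])
      (by
        apply LinearMap.ext
        intro v
        show c g⁻¹ (c g v) = v
        rw [← h2, inv_mul_cancel, h1])
  have hF1 : ∀ g v, F1 g v = c g v := fun g v => rfl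
  let F : G →* (V ≃ₗ[ZMod p] V) :=
    { toFun := F1
      map_one' := by
        apply LinearEquiv.ext
        intro v
        rw [hF1, h1]
        rfl
      map_mul' := fun g h => by
        apply LinearEquiv.ext
        intro v
        rw [hF1, h2]
        rfl }
  exact ⟨F, fun g v => rfl⟩

theorem exists_lin0 {G V : Type u} [Group G] [AddCommGroup V] (p : ℕ) (hp : ∀ x : V, p • x = 0) (c : G → V →+ V)
    (h1 : ∀ v, c 1 v = v) (h2 : ∀ g h v, c (g * h) v = c g (c h v)) :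
    ∃ (_ : Module (ZMod p) V) (F : G →* (V ≃ₗ[ZMod p] V)), ∀ g v, F g v = c g v := by
  letI m : Module (ZMod p) V := AddCommGroup.zmodModule hp
  exact ⟨m, exists_lin1 p c h1 h2⟩

/-- The action of `G` by conjugation on an elementary abelian normal subgroup. -/
theorem exists_lin {G : Type u} [Group G] [Finite G] (N : Subgroup G) [hN : N.Normal]
    (hc : ∀ a b : N, a * b = b * a) (p : ℕ) (hp : ∀ x ∈ N, x ^ p = 1) :
    ∃ (V : Type u) (_ : AddCommGroup V) (_ : Module (ZMod p) V) (_ : Finite V) (e : N ≃ V)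
      (F : G →* (V ≃ₗ[ZMod p] V)), (∀ a b : N, e (a * b) = e a + e b) ∧
      (∀ (g : G) (n : N), F g (e n) = e (MulAut.conjNormal g n)) := by
  letI cg : CommGroup N := { (inferInstance : Group N) with mul_comm := hc }
  obtain ⟨m, F, hF⟩ := exists_lin0 (G := G) (V := Additive N) p (fun x => by
      have : (Additive.toMul x) ^ p = 1 := Subtype.ext (hp _ (Additive.toMul x).2)
      rw [← toMul_eq_one, toMul_nsmul]
      exact this)
    (fun g =>
      { toFun := fun v => Additive.ofMul (MulAut.conjNormal g (Additive.toMul v))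
        map_zero' := by
          rw [toMul_zero, map_one]; rfl
        map_add' := fun v w => by
          rw [toMul_add, map_mul]; rfl })
    (fun v => by
      show Additive.ofMul (MulAut.conjNormal (1 : G) (Additive.toMul v)) = v
      rw [map_one]; rfl)
    (fun g h v => by
      show Additive.ofMul (MulAut.conjNormal (g * h) (Additive.toMul v)) =
        Additive.ofMul (MulAut.conjNormal g (MulAut.conjNormal h (Additive.toMul v)))
      rw [map_mul]; rfl)
  exact ⟨Additive N, inferInstance, m, inferInstance, Additive.ofMul, F, fun a b => rfl, fun g n => hF g _⟩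

theorem kantor (hne : G ≠ ⊥) (h : Hom2 G) (hn2 : ¬ MulAction.IsMultiplyPretransitive G α 2)
    (hsol : Group.IsSolvable G) :
    ∃ (p f : ℕ) (_ : Fact p.Prime), p ≠ 2 ∧ Fintype.card α = p ^ f ∧ p ^ f % 4 = 3 ∧ ∃ e : α ≃ GaloisField p f,
      (∀ g : G, e.symm.trans (((g : Equiv.Perm α)).trans e) ∈ Cfsg.semiaffineGroup (GaloisField p f)) ∧
      ∀ b : GaloisField p f, ∃ g : G, ∀ x : α, e ((g : Equiv.Perm α) x) = e x + b := by
  have hodd := odd_card h hn2
  have htr := transitive hne h hn2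
  obtain ⟨a0, a1, a2, h01, h02, h12⟩ := exists_third hne h hn2
  have hnt : Nontrivial G := (Subgroup.nontrivial_iff_ne_bot G).mpr hne
  obtain ⟨p, N, hp, hN1, hNchar, hNab, hNp⟩ := Cfsg.Agent.Lib.SubgroupTools.exists_characteristic_elementary G
  have hpf : Fact p.Prime := ⟨hp⟩
  have hNn : N.Normal := inferInstance
  have hcomm : ∀ a b : N, a * b = b * a := fun a b => hNab.is_comm.comm a b
  -- N is transitive
  have hNtr1 : ∀ c d : α, ∃ n ∈ N, (n : Equiv.Perm α) c = d := by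
    obtain ⟨⟨n, hn⟩, hn1⟩ := Subgroup.ne_bot_iff_exists_ne_one.mp hN1
    have hn1' : n ≠ 1 := fun h' => hn1 (Subtype.ext h')
    obtain ⟨a, ha⟩ : ∃ a, (n : Equiv.Perm α) a ≠ a := by
      by_contra hcon
      push Not at hcon
      exact hn1' (Subtype.ext (Equiv.ext hcon))
    intro c d
    by_cases hcd : c = d
    · exact ⟨1, one_mem _, by rw [Subgroup.coe_one, Equiv.Perm.one_apply, hcd]⟩
    obtain ⟨g, hg | hg⟩ := h a ((n : Equiv.Perm α) a) c d (Ne.symm ha) hcd
    · refine ⟨g * n * g⁻¹, hNn.conj_mem n hn g, ?_⟩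
      rw [Subgroup.coe_mul, Subgroup.coe_mul, Subgroup.coe_inv, Equiv.Perm.mul_apply, Equiv.Perm.mul_apply, ← hg.1,
        inv_apply_self', hg.2]
    · refine ⟨(g * n * g⁻¹)⁻¹, inv_mem (hNn.conj_mem n hn g), ?_⟩
      rw [Subgroup.coe_inv, Equiv.Perm.inv_eq_iff_eq, Subgroup.coe_mul, Subgroup.coe_mul, Subgroup.coe_inv,
        Equiv.Perm.mul_apply, Equiv.Perm.mul_apply, ← hg.1, inv_apply_self', hg.2]
  -- N is regular
  have hNreg : ∀ n ∈ N, (n : Equiv.Perm α) a0 = a0 → n = 1 := by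
    intro n hn hna
    apply Subtype.ext
    apply Equiv.ext
    intro b
    obtain ⟨m, hm, hmb⟩ := hNtr1 a0 b
    have h1 : n * m = m * n := congrArg Subtype.val (hcomm ⟨n, hn⟩ ⟨m, hm⟩)
    rw [Subgroup.coe_one, Equiv.Perm.one_apply, ← hmb, ← Equiv.Perm.mul_apply, ← Subgroup.coe_mul, h1,
      Subgroup.coe_mul, Equiv.Perm.mul_apply, hna]
  have hreg2 : ∀ n ∈ N, ∀ m ∈ N, (n : Equiv.Perm α) a0 = (m : Equiv.Perm α) a0 → n = m := by
    intro n hn m hm hnm
    have h1 : m⁻¹ * n = 1 := by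
      apply hNreg _ (mul_mem (inv_mem hm) hn)
      rw [Subgroup.coe_mul, Subgroup.coe_inv, Equiv.Perm.mul_apply, hnm, inv_apply_self']
    exact (inv_mul_eq_one.mp h1).symm
  let φ : N ≃ α := Equiv.ofBijective (fun n : N => ((n : G) : Equiv.Perm α) a0) ⟨by
    intro n m hnm
    exact Subtype.ext (hreg2 n n.2 m m.2 hnm), by
    intro a
    obtain ⟨n, hn, hna⟩ := hNtr1 a0 a
    exact ⟨⟨n, hn⟩, hna⟩⟩
  have hφ : ∀ n : N, φ n = ((n : G) : Equiv.Perm α) a0 := fun n => rfl
  obtain ⟨V, iV, mV, fV, e, F, he, hF⟩ := exists_lin N hcomm p hNp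
  have hcardN : Nat.card V = Fintype.card α := by
    rw [← Nat.card_eq_fintype_card, ← Nat.card_congr φ, Nat.card_congr e]
  have he1 : e 1 = 0 := by
    have := he 1 1
    rw [one_mul] at this
    exact (left_eq_add.mp this)
  have heinv : ∀ n : N, e n⁻¹ = - e n := by
    intro n
    have := he n⁻¹ n
    rw [inv_mul_cancel, he1] at this
    exact (eq_neg_of_add_eq_zero_left this.symm)
  have hVnt : Nontrivial V := by
    obtain ⟨⟨n, hn⟩, hn1⟩ := Subgroup.ne_bot_iff_exists_ne_one.mp hN1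
    refine ⟨⟨e ⟨n, hn⟩, 0, ?_⟩⟩
    rw [← he1]
    intro h'
    exact hn1 (e.injective h')
  -- the stabilizer
  let G0 : Subgroup G := MulAction.stabilizer G a0
  have hG0 : ∀ g : G, g ∈ G0 ↔ (g : Equiv.Perm α) a0 = a0 := fun g => Iff.rfl
  have hconj : ∀ g ∈ G0, ∀ n m : N, (g : Equiv.Perm α) (((n : G) : Equiv.Perm α) a0) = ((m : G) : Equiv.Perm α) a0 →
      MulAut.conjNormal g n = m := by
    intro g hg n m hgm
    apply Subtype.ext
    rw [MulAut.conjNormal_apply]
    refine hreg2 _ (hNn.conj_mem n n.2 g) _ m.2 ?_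
    rw [Subgroup.coe_mul, Subgroup.coe_mul, Subgroup.coe_inv, Equiv.Perm.mul_apply, Equiv.Perm.mul_apply]
    have h1 : (g : Equiv.Perm α)⁻¹ a0 = a0 := by
      rw [Equiv.Perm.inv_eq_iff_eq]; exact ((hG0 g).mp hg).symm
    rw [h1, hgm]
  let neg : V ≃ₗ[ZMod p] V := LinearEquiv.neg (ZMod p)
  have hneg : ∀ v, neg v = -v := fun v => rfl
  have hcommneg : ∀ (g : G0) (t : Subgroup.zpowers neg), Commute ((F.comp G0.subtype) g) ((Subgroup.zpowers neg).subtype t) := by
    rintro g ⟨_, k, rfl⟩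
    show Commute (F g) (neg ^ k)
    have h1 : Commute (F g) neg := by
      show F g * neg = neg * F g
      ext v
      show F g (neg v) = neg (F g v)
      rw [hneg, hneg, map_neg]
    exact h1.zpow_right k
  let θ : G0 × Subgroup.zpowers neg →* (V ≃ₗ[ZMod p] V) :=
    (F.comp G0.subtype).noncommCoprod (Subgroup.zpowers neg).subtype hcommneg
  have hθ : ∀ (g : G0) (t : Subgroup.zpowers neg) (v : V), θ (g, t) v = F g (t.1 v) := fun g t v => rfl
  let H : Subgroup (V ≃ₗ[ZMod p] V) := θ.range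
  have hneg2 : neg ^ 2 = 1 := by
    ext v
    show neg (neg v) = v
    rw [hneg, hneg, neg_neg]
  have hfinz : Finite (Subgroup.zpowers neg) := by
    rw [Subgroup.zpowers_eq_closure]
    have : IsOfFinOrder neg := isOfFinOrder_iff_pow_eq_one.mpr ⟨2, by norm_num, hneg2⟩
    rw [← Subgroup.zpowers_eq_closure]
    exact this.finite_zpowers
  have hcardz : Nat.card (Subgroup.zpowers neg) ∣ 2 := by
    rw [Nat.card_zpowers]
    exact orderOf_dvd_of_pow_eq_one hneg2
  have hsolH : Group.IsSolvable H := by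
    have h1 : Group.IsSolvable G0 := inferInstance
    have h2 : Group.IsSolvable (G0 × Subgroup.zpowers neg) := inferInstance
    exact Group.isSolvable_of_surjective θ.rangeRestrict_surjective
  have hfinH : Finite H := Finite.of_surjective θ.rangeRestrict θ.rangeRestrict_surjective
  have htH : Tr H.subtype := by
    intro v w hv hw
    obtain ⟨n, rfl⟩ := e.surjective v
    obtain ⟨m, rfl⟩ := e.surjective w
    have hn : a0 ≠ ((n : G) : Equiv.Perm α) a0 := by
      intro h'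
      have : n = 1 := Subtype.ext (hNreg n n.2 h'.symm)
      exact hv (by rw [this, he1])
    have hm : a0 ≠ ((m : G) : Equiv.Perm α) a0 := by
      intro h'
      have : m = 1 := Subtype.ext (hNreg m m.2 h'.symm)
      exact hw (by rw [this, he1])
    obtain ⟨g, hg | hg⟩ := h a0 (((n : G) : Equiv.Perm α) a0) a0 (((m : G) : Equiv.Perm α) a0) hn hm
    · have hg0 : g ∈ G0 := (hG0 g).mpr hg.1
      refine ⟨⟨θ (⟨g, hg0⟩, 1), ⟨_, rfl⟩⟩, ?_⟩
      show θ (⟨g, hg0⟩, 1) (e n) = e m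
      rw [hθ]
      show F g (e n) = e m
      rw [hF, hconj g hg0 n m hg.2]
    · have hg0 : (m : G)⁻¹ * g ∈ G0 := by
        rw [hG0, Subgroup.coe_mul, Subgroup.coe_inv, Equiv.Perm.mul_apply, hg.1, inv_apply_self']
      refine ⟨⟨θ (⟨(m : G)⁻¹ * g, hg0⟩, ⟨neg, Subgroup.mem_zpowers neg⟩), ⟨_, rfl⟩⟩, ?_⟩
      show θ (⟨(m : G)⁻¹ * g, hg0⟩, ⟨neg, Subgroup.mem_zpowers neg⟩) (e n) = e m
      rw [hθ]
      show F ((m : G)⁻¹ * g) (neg (e n)) = e m
      rw [hneg, map_neg, hF, hconj _ hg0 n m⁻¹, heinv, neg_neg]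
      rw [Subgroup.coe_mul, Subgroup.coe_inv, Equiv.Perm.mul_apply, hg.2, Subgroup.coe_inv, Subgroup.coe_inv]
  -- parity
  have hoddV : Odd (Nat.card V) := by
    rw [← Nat.card_congr e]
    exact hodd.of_dvd_nat (Subgroup.card_subgroup_dvd_card N)
  have hoddG0 : Odd (Nat.card G0) := hodd.of_dvd_nat (Subgroup.card_subgroup_dvd_card G0)
  have hmod : Nat.card V % 4 = 3 := by
    have h1 : Nat.card V - 1 ∣ Nat.card H := card_dvd htH
    have h2 : Nat.card H ∣ Nat.card (G0 × Subgroup.zpowers neg) := Subgroup.card_range_dvd θ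
    rw [Nat.card_prod] at h2
    have h3 : Nat.card V - 1 ∣ Nat.card G0 * 2 := (h1.trans h2).trans (mul_dvd_mul_left _ hcardz)
    have h4 : 1 < Nat.card V := Finite.one_lt_card
    obtain ⟨k, hk⟩ := hoddV
    have h5 : Nat.card V - 1 = k * 2 := by omega
    rw [h5] at h3
    have h6 : k ∣ Nat.card G0 := Nat.dvd_of_mul_dvd_mul_right (by norm_num) h3
    have h7 : Odd k := hoddG0.of_dvd_nat h6
    obtain ⟨j, hj⟩ := h7
    omega
  have hsemi : Semi H.subtype := by
    rcases huppert hsolH (Subgroup.subtype_injective H) htH with h' | h'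
    · exact h'
    · exfalso
      simp only [Set.mem_insert_iff, Set.mem_singleton_iff] at h'
      omega
  obtain ⟨f, e', hf, hsem⟩ := hsemi
  have hp2 : p ≠ 2 := by
    rintro rfl
    have hf0 : f ≠ 0 := by
      rintro rfl
      have h4 : 1 < Nat.card V := Finite.one_lt_card
      rw [hf, pow_zero] at h4
      omega
    rw [hf] at hoddV
    exact absurd hoddV (by rw [Nat.not_odd_iff_even]; exact Even.pow_of_ne_zero (by norm_num) hf0)
  refine ⟨p, f, hpf, hp2, by rw [← hcardN, hf], by rw [← hf]; exact hmod,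
    φ.symm.trans (e.trans e'.toEquiv), ?_, ?_⟩
  · intro g
    obtain ⟨b, hb, hba⟩ := hNtr1 a0 ((g : Equiv.Perm α) a0)
    have hg0 : b⁻¹ * g ∈ G0 := by
      rw [hG0, Subgroup.coe_mul, Subgroup.coe_inv, Equiv.Perm.mul_apply, ← hba, inv_apply_self']
    obtain ⟨a, σ, haσ⟩ := hsem ⟨θ (⟨b⁻¹ * g, hg0⟩, 1), ⟨_, rfl⟩⟩
    have haσ' : ∀ v, e' (F (b⁻¹ * g) v) = a * σ (e' v) := haσ
    have ha0 : a ≠ 0 := by
      rintro rfl
      obtain ⟨v, hv⟩ := exists_ne (0 : V)
      have h1 := haσ' v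
      rw [zero_mul] at h1
      have h2 : F (b⁻¹ * g) v = 0 := by
        apply e'.injective
        rw [h1, map_zero]
      exact hv ((map_eq_zero_iff _ (F (b⁻¹ * g)).injective).mp h2)
    refine ⟨Units.mk0 a ha0, e' (e ⟨b, hb⟩), σ, ?_⟩
    intro x
    obtain ⟨n, rfl⟩ : ∃ n : N, e' (e n) = x := ⟨e.symm (e'.symm x), by simp⟩
    show e' (e (φ.symm ((g : Equiv.Perm α) (φ (e.symm (e'.symm (e' (e n)))))))) = a * σ (e' (e n)) + e' (e ⟨b, hb⟩)
    rw [AddEquiv.symm_apply_apply, Equiv.symm_apply_apply]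
    have h1 : φ.symm ((g : Equiv.Perm α) (φ n)) = (⟨b, hb⟩ : N) * MulAut.conjNormal (b⁻¹ * g) n := by
      rw [Equiv.symm_apply_eq, hφ, hφ, Subgroup.coe_mul, MulAut.conjNormal_apply]
      have h2 : (b⁻¹ * g)⁻¹ ∈ G0 := inv_mem hg0
      rw [hG0] at h2
      have h3 : ((b : G) * (b⁻¹ * g * (n : G) * (b⁻¹ * g)⁻¹) : G) = g * n * (b⁻¹ * g)⁻¹ := by group
      show ((g : G) : Equiv.Perm α) _ = (((b : G) * (b⁻¹ * g * (n : G) * (b⁻¹ * g)⁻¹) : G) : Equiv.Perm α) a0
      have h4 : ((g * n * (b⁻¹ * g)⁻¹ : G) : Equiv.Perm α) a0 =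
          (g : Equiv.Perm α) (((n : G) : Equiv.Perm α) ((((b⁻¹ * g)⁻¹ : G) : Equiv.Perm α) a0)) := rfl
      rw [h3, h4, h2]
    rw [h1, he, map_add, ← hF, haσ', add_comm]
  · intro b
    obtain ⟨n, hn⟩ : ∃ n : N, e' (e n) = b := ⟨e.symm (e'.symm b), by simp⟩
    refine ⟨n, ?_⟩
    intro x
    obtain ⟨m, rfl⟩ := φ.surjective x
    show e' (e (φ.symm (((n : G) : Equiv.Perm α) (φ m)))) = e' (e (φ.symm (φ m))) + b
    have h1 : φ.symm (((n : G) : Equiv.Perm α) (φ m)) = n * m := by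
      rw [Equiv.symm_apply_eq, hφ, hφ, Subgroup.coe_mul, Subgroup.coe_mul, Equiv.Perm.mul_apply]
    rw [h1, Equiv.symm_apply_apply, he, map_add, hn, add_comm]

end Cfsg.Agent.Lib.HupTwoHom
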