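import Mathlib
import Cfsg.Agent.Lib.HupM
import Cfsg.Agent.Lib.HupTwoHom
import Cfsg.Agent.Lib.SubspaceCount
import Cfsg.Agent.Lib.HallPi
import Cfsg.Agent.Lib.H1Semi

/-!
# Solvable linear groups transitive on points and on lines (helper1)
-/

set_option autoImplicit false

open Cfsg

namespace Cfsg.Agent.Lib.H1HupSub

/-- fixed vectors -/
def fixV {p : ℕ} {V : Type*} [AddCommGroup V] [Module (ZMod p) V] (X : Subgroup (V ≃ₗ[ZMod p] V)) : AddSubgroup V where
  carrier := {v | ∀ x ∈ X, x v = v}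
  zero_mem' := fun x _ => map_zero x
  add_mem' := fun {a b} ha hb x hx => by rw [map_add, ha x hx, hb x hx]
  neg_mem' := fun {a} ha x hx => by rw [map_neg, ha x hx]

theorem card_fixV {p : ℕ} {V : Type*} [AddCommGroup V] [Finite V] [Module (ZMod p) V] {l : ℕ} [Fact l.Prime]
    {X : Subgroup (V ≃ₗ[ZMod p] V)} (hX : IsPGroup l X) : Nat.card V ≡ Nat.card (fixV X) [MOD l] := by
  have h := hX.card_modEq_card_fixedPoints V
  have e : (MulAction.fixedPoints X V) ≃ fixV X :=
    { toFun := fun v => ⟨v.1, fun x hx => v.2 ⟨x, hx⟩⟩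
      invFun := fun v => ⟨v.1, fun x => v.2 x.1 x.2⟩
      left_inv := fun v => rfl
      right_inv := fun v => rfl }
  rwa [Nat.card_congr e] at h

theorem card_gl4 {V : Type*} [AddCommGroup V] [Finite V] [Module (ZMod 3) V] (hV : Nat.card V = 81) :
    Nat.card (V ≃ₗ[ZMod 3] V) = 65 * (2 ^ 9 * 3 ^ 6) := by
  have : Fact (Nat.Prime 3) := ⟨by norm_num⟩
  have hfin : FiniteDimensional (ZMod 3) V := Module.Finite.of_finite
  have hf : Module.finrank (ZMod 3) V = 4 := by
    have h1 := Module.natCard_eq_pow_finrank (K := ZMod 3) (V := V)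
    rw [hV, Nat.card_zmod] at h1
    exact (Nat.pow_right_injective (le_refl _ |>.trans (by norm_num : 2 ≤ 3)) (show 3 ^ 4 = 3 ^ _ from h1)).symm
  have e1 : V ≃ₗ[ZMod 3] (Fin 4 → ZMod 3) := LinearEquiv.ofFinrankEq _ _ (by rw [hf]; simp)
  have e2 : (V ≃ₗ[ZMod 3] V) ≃ GL (Fin 4) (ZMod 3) := by
    refine Equiv.trans ?_ (((Matrix.GeneralLinearGroup.toLin (n := Fin 4) (R := ZMod 3)).trans
      (LinearMap.GeneralLinearGroup.generalLinearEquiv _ _)).symm.toEquiv)
    exact
      { toFun := fun f => (e1.symm.trans f).trans e1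
        invFun := fun f => (e1.trans f).trans e1.symm
        left_inv := fun f => by ext x; simp
        right_inv := fun f => by
          apply LinearEquiv.ext
          intro x
          simp }
  rw [Nat.card_congr e2, Matrix.card_GL_field]
  simp only [ZMod.card, Fin.prod_univ_succ, Fin.prod_univ_zero]
  norm_num

theorem no81 {V : Type*} [AddCommGroup V] [Finite V] [Module (ZMod 3) V] (hV : Nat.card V = 81)
    (R : Subgroup (V ≃ₗ[ZMod 3] V)) (hs : Group.IsSolvable R) (h5 : 5 ∣ Nat.card R) (h13 : 13 ∣ Nat.card R) : False := by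
  have hfin : Finite (V ≃ₗ[ZMod 3] V) :=
    Finite.of_injective (fun f : V ≃ₗ[ZMod 3] V => (f : V → V)) (fun f g h => LinearEquiv.ext (congrFun h))
  have i5 : Fact (Nat.Prime 5) := ⟨by norm_num⟩
  have i13 : Fact (Nat.Prime 13) := ⟨by norm_num⟩
  obtain ⟨D, hD⟩ := Cfsg.Agent.Lib.HallPi.exists_isPiHall (G := R) ({5, 13} : Set ℕ)
  rw [Cfsg.Agent.Lib.HallPi.isPiHall_iff] at hD
  have hRD : Nat.card D * D.index = Nat.card R := D.card_mul_index
  have hprime : ∀ l : ℕ, l.Prime → l ∈ ({5, 13} : Set ℕ) → l ∣ Nat.card R → l ∣ Nat.card D := by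
    intro l hl hl1 hl2
    rw [← hRD, hl.dvd_mul] at hl2
    rcases hl2 with h | h
    · exact h
    · exact absurd hl1 (hD.2 l hl h)
  have hD5 : 5 ∣ Nat.card D := hprime 5 i5.out (by simp) h5
  have hD13 : 13 ∣ Nat.card D := hprime 13 i13.out (by simp) h13
  have hD65 : Nat.card D ∣ 65 := by
    have h1 : Nat.card D ∣ 65 * (2 ^ 9 * 3 ^ 6) := by
      rw [← card_gl4 hV]
      exact (Subgroup.card_subgroup_dvd_card D).trans (Subgroup.card_subgroup_dvd_card R)
    refine Nat.Coprime.dvd_of_dvd_mul_right ?_ h1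
    apply Nat.Coprime.mul_right
    · apply Nat.Coprime.pow_right
      rw [Nat.coprime_comm, Nat.Prime.coprime_iff_not_dvd Nat.prime_two]
      intro h
      have := hD.1 2 Nat.prime_two h
      simp at this
    · apply Nat.Coprime.pow_right
      rw [Nat.coprime_comm, Nat.Prime.coprime_iff_not_dvd Nat.prime_three]
      intro h
      have := hD.1 3 Nat.prime_three h
      simp at this
  have hDc : Nat.card D = 65 := by
    apply Nat.dvd_antisymm hD65
    exact Nat.Coprime.mul_dvd_of_dvd_of_dvd (by norm_num : Nat.Coprime 5 13) hD5 hD13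
  -- the Sylow 13-subgroup is normal
  obtain ⟨P⟩ : Nonempty (Sylow 13 D) := inferInstance
  have hPc : Nat.card (P : Subgroup D) = 13 := by
    rw [P.card_eq_multiplicity, hDc]
    have : Nat.factorization 65 13 = 1 := by
      rw [show (65 : ℕ) = 5 * 13 from rfl, Nat.factorization_mul (by norm_num) (by norm_num)]
      simp [Nat.Prime.factorization i5.out, Nat.Prime.factorization i13.out]
    rw [this]; norm_num
  have hidx : (P : Subgroup D).index = 5 := by
    have := (P : Subgroup D).card_mul_index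
    rw [hPc, hDc] at this
    omega
  have hn1 : Nat.card (Sylow 13 D) = 1 := by
    have h1 : Nat.card (Sylow 13 D) ∣ 5 := by rw [← hidx]; exact P.card_dvd_index
    have h2 : Nat.card (Sylow 13 D) ≡ 1 [MOD 13] := card_sylow_modEq_one 13 D
    rcases (Nat.dvd_prime i5.out).1 h1 with h | h
    · exact h
    · rw [h] at h2; exact absurd h2 (by decide)
  have hPn : (P : Subgroup D).Normal := by
    have := (Nat.card_eq_one_iff_unique.1 hn1).1
    exact Sylow.normal_of_subsingleton P
  -- push everything to GL(V)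
  let f : D →* (V ≃ₗ[ZMod 3] V) := R.subtype.comp D.subtype
  have hfi : Function.Injective f := by
    intro a b h
    exact Subtype.ext (Subtype.ext h)
  set Q : Subgroup (V ≃ₗ[ZMod 3] V) := (P : Subgroup D).map f with hQ
  have hQp : IsPGroup 13 Q := P.isPGroup'.map f
  have hQc : Nat.card Q = 13 := by
    rw [hQ, Nat.card_congr ((P : Subgroup D).equivMapOfInjective f hfi).toEquiv.symm, hPc]
  have hW := card_fixV hQp
  have hWd : Nat.card (fixV Q) ∣ 3 ^ 4 := by
    rw [show (3 : ℕ) ^ 4 = 81 from rfl, ← hV]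
    exact AddSubgroup.card_addSubgroup_dvd_card (fixV Q)
  rw [hV] at hW
  have hW3 : Nat.card (fixV Q) = 3 := by
    obtain ⟨k, hk, hk'⟩ := (Nat.dvd_prime_pow Nat.prime_three).1 hWd
    interval_cases k
    · rw [hk'] at hW; exact absurd hW (by decide)
    · exact hk'
    · rw [hk'] at hW; exact absurd hW (by decide)
    · rw [hk'] at hW; exact absurd hW (by decide)
    · exfalso
      have h1 : fixV Q = ⊤ := AddSubgroup.eq_top_of_card_eq _ (by rw [hk', hV]; norm_num)
      have h2 : Q = ⊥ := by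
        rw [eq_bot_iff]
        intro x hx
        rw [Subgroup.mem_bot]
        apply LinearEquiv.ext
        intro v
        have : v ∈ fixV Q := by rw [h1]; trivial
        exact this x hx
      rw [h2, Subgroup.card_bot] at hQc
      norm_num at hQc
  obtain ⟨y, hy⟩ := exists_prime_orderOf_dvd_card' (G := D) 5 hD5
  have hyf : orderOf (f y) = 5 := by rw [orderOf_injective f hfi, hy]
  have hyW : ∀ v ∈ fixV Q, f y v ∈ fixV Q := by
    rintro v hv x ⟨d, hd, rfl⟩
    have h1 : y⁻¹ * d * y ∈ (P : Subgroup D) := by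
      have := hPn.conj_mem d hd y⁻¹
      rwa [inv_inv] at this
    have h2 : f d (f y v) = f y (f (y⁻¹ * d * y) v) := by
      have : f d * f y = f y * f (y⁻¹ * d * y) := by rw [← map_mul, ← map_mul]; congr 1; group
      exact congrArg (fun k : V ≃ₗ[ZMod 3] V => k v) this
    rw [h2, hv _ ⟨_, h1, rfl⟩]
  obtain ⟨w, hw⟩ : ∃ w : fixV Q, w ≠ 0 := by
    have : Nontrivial (fixV Q) := Finite.one_lt_card_iff_nontrivial.1 (by rw [hW3]; norm_num)
    exact exists_ne 0
  have i3 : Fact (Nat.Prime 3) := ⟨by norm_num⟩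
  have h3w : (3 : ℤ) • (w : V) = 0 := by
    have h1 : Nat.card (fixV Q) • w = 0 := card_nsmul_eq_zero'
    rw [hW3] at h1
    have h2 := congrArg Subtype.val h1
    rw [AddSubgroup.coe_nsmul, AddSubgroup.coe_zero] at h2
    exact_mod_cast h2
  obtain ⟨n, hn⟩ : ∃ n : ℤ, n • (w : V) = f y w := by
    have h1 := mem_zmultiples_of_prime_card (G := fixV Q) (p := 3) hW3 (g := w) (g' := ⟨f y w, hyW _ w.2⟩) hw
    obtain ⟨n, hn⟩ := AddSubgroup.mem_zmultiples_iff.1 h1
    exact ⟨n, by rw [← AddSubgroup.coe_zsmul, hn]⟩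
  have hpow : ∀ k : ℕ, ((f y) ^ k) (w : V) = (n ^ k) • (w : V) := by
    intro k
    induction k with
    | zero => simp
    | succ k ih =>
      rw [pow_succ']
      show f y (((f y) ^ k) (w : V)) = _
      rw [ih, map_zsmul, ← hn, smul_smul, pow_succ]
  have h5w : (n ^ 5) • (w : V) = w := by
    rw [← hpow 5, ← hyf, pow_orderOf_eq_one]; rfl
  have hnw : n • (w : V) = w := by
    have h1 : (3 : ℤ) ∣ n ^ 5 - n := by
      have : n % 3 = 0 ∨ n % 3 = 1 ∨ n % 3 = 2 := by omega
      rw [Int.dvd_iff_emod_eq_zero]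
      rcases this with h | h | h <;> simp [Int.sub_emod, pow_succ, Int.mul_emod, h]
    obtain ⟨m, hm⟩ := h1
    have h2 : (n ^ 5 - n) • (w : V) = 0 := by
      rw [hm, mul_comm, mul_smul, h3w, smul_zero]
    rw [sub_smul, h5w, sub_eq_zero] at h2
    exact h2.symm
  set Y : Subgroup (V ≃ₗ[ZMod 3] V) := Subgroup.zpowers (f y) with hY
  have hYc : Nat.card Y = 5 := by rw [hY, Nat.card_zpowers, hyf]
  have hYp : IsPGroup 5 Y := IsPGroup.of_card (n := 1) (by rw [hYc]; norm_num)
  have hZ := card_fixV hYp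
  have hZd : Nat.card (fixV Y) ∣ 3 ^ 4 := by
    rw [show (3 : ℕ) ^ 4 = 81 from rfl, ← hV]
    exact AddSubgroup.card_addSubgroup_dvd_card (fixV Y)
  have hwY : (w : V) ∈ fixV Y := by
    intro x hx
    obtain ⟨k, rfl⟩ := Subgroup.mem_zpowers_iff.1 hx
    have h1 : f y (w : V) = w := by rw [← hn, hnw]
    have h2 : f y ∈ MulAction.stabilizer (V ≃ₗ[ZMod 3] V) (w : V) := h1
    exact zpow_mem h2 k
  rw [hV] at hZ
  obtain ⟨k, hk, hk'⟩ := (Nat.dvd_prime_pow Nat.prime_three).1 hZd
  interval_cases k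
  · have h1 : fixV Y = ⊥ := AddSubgroup.eq_bot_of_card_eq _ (by simpa using hk')
    rw [h1, AddSubgroup.mem_bot] at hwY
    exact hw (Subtype.ext hwY)
  · rw [hk'] at hZ; exact absurd hZ (by decide)
  · rw [hk'] at hZ; exact absurd hZ (by decide)
  · rw [hk'] at hZ; exact absurd hZ (by decide)
  · have h1 : fixV Y = ⊤ := AddSubgroup.eq_top_of_card_eq _ (by rw [hk', hV]; norm_num)
    have h2 : Y = ⊥ := by
      rw [eq_bot_iff]
      intro x hx
      rw [Subgroup.mem_bot]
      apply LinearEquiv.ext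
      intro v
      have : v ∈ fixV Y := by rw [h1]; trivial
      exact this x hx
    rw [h2, Subgroup.card_bot] at hYc
    norm_num at hYc

end Cfsg.Agent.Lib.H1HupSub
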