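import Cfsg.Agent.Lib.H1HupSub

set_option autoImplicit false

open Cfsg

namespace Cfsg.Agent.Lib.H1HupSub

open scoped Pointwise

open H1Semi

/-- the numerical part -/
theorem numeric {p n : ℕ} (hp : p.Prime) (hn : 3 ≤ n)
    (h : ∃ k, n * (p ^ 2 - 1) = k * (p ^ (n - 1) - 1)) : n = 3 ∨ (n = 5 ∧ p = 2) := by
  obtain ⟨k, hk⟩ := h
  have h2 := hp.two_le
  have hkpos : 0 < k := by
    rcases Nat.eq_zero_or_pos k with h0 | h0
    · exfalso
      rw [h0, zero_mul] at hk
      rcases Nat.mul_eq_zero.1 hk with h' | h'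
      · omega
      · have : 2 ^ 2 ≤ p ^ 2 := Nat.pow_le_pow_left h2 2
        omega
    · exact h0
  have hle : p ^ (n - 1) - 1 ≤ n * (p ^ 2 - 1) := by rw [hk]; exact Nat.le_mul_of_pos_left _ hkpos
  by_cases h3 : n = 3
  · exact Or.inl h3
  by_cases h4 : n = 4
  · exfalso
    subst h4
    obtain ⟨q, rfl⟩ : ∃ q, p = q + 1 := ⟨p - 1, by omega⟩
    have e1 : (q + 1) ^ 2 - 1 = q * (q + 2) := by
      have : (q + 1) ^ 2 = q * (q + 2) + 1 := by ring
      omega
    have e2 : (q + 1) ^ (4 - 1) - 1 = q * (q ^ 2 + 3 * q + 3) := by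
      have : (q + 1) ^ 3 = q * (q ^ 2 + 3 * q + 3) + 1 := by ring
      show (q + 1) ^ 3 - 1 = _
      omega
    rw [e1, e2] at hk
    have hq : 0 < q := by omega
    have hk2 : 4 * (q + 2) = k * (q ^ 2 + 3 * q + 3) := by
      apply Nat.eq_of_mul_eq_mul_left hq
      calc q * (4 * (q + 2)) = 4 * (q * (q + 2)) := by ring
        _ = k * (q * (q ^ 2 + 3 * q + 3)) := hk
        _ = q * (k * (q ^ 2 + 3 * q + 3)) := by ring
    have hq4 : q < 4 := by
      by_contra hcon
      push Not at hcon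
      have : q ^ 2 + 3 * q + 3 ≤ k * (q ^ 2 + 3 * q + 3) := Nat.le_mul_of_pos_left _ hkpos
      nlinarith
    interval_cases q
    · omega
    · omega
    · omega
  by_cases h5 : n = 5
  · right
    refine ⟨h5, ?_⟩
    subst h5
    by_contra hcon
    have h3' : 3 ≤ p := by omega
    obtain ⟨t, ht⟩ : ∃ t, p ^ 2 = t + 1 := ⟨p ^ 2 - 1, by have : 2 ^ 2 ≤ p ^ 2 := Nat.pow_le_pow_left h2 2; omega⟩
    have e2 : p ^ (5 - 1) - 1 = t * (t + 2) := by
      have : p ^ 4 = t * (t + 2) + 1 := by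
        calc p ^ 4 = (p ^ 2) ^ 2 := by ring
          _ = (t + 1) ^ 2 := by rw [ht]
          _ = _ := by ring
      show p ^ 4 - 1 = _
      omega
    rw [e2, ht, Nat.add_sub_cancel] at hle
    have ht8 : 8 ≤ t := by
      have : 3 ^ 2 ≤ p ^ 2 := Nat.pow_le_pow_left h3' 2
      omega
    have : t * (t + 2) ≤ t * 5 := by linarith
    have := Nat.le_of_mul_le_mul_left this (by omega)
    omega
  · exfalso
    have h6 : 6 ≤ n := by omega
    obtain ⟨m, rfl⟩ : ∃ m, n = m + 6 := ⟨n - 6, by omega⟩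
    have h7 : ∀ m : ℕ, (m + 6) * p ^ 2 < p ^ (m + 5) := by
      intro m
      induction m with
      | zero =>
        have : 2 ^ 3 ≤ p ^ 3 := Nat.pow_le_pow_left h2 3
        have h8 : p ^ (0 + 5) = p ^ 3 * p ^ 2 := by ring
        rw [h8]
        have : 0 < p ^ 2 := pow_pos hp.pos 2
        nlinarith
      | succ m ih =>
        have h8 : p ^ (m + 1 + 5) = p * p ^ (m + 5) := by ring
        rw [h8]
        have h9 : 2 * p ^ (m + 5) ≤ p * p ^ (m + 5) := Nat.mul_le_mul_right _ h2
        have : (m + 1 + 6) * p ^ 2 ≤ 2 * ((m + 6) * p ^ 2) := by nlinarith [pow_pos hp.pos 2]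
        omega
    have h8 := h7 m
    have h9 : m + 6 - 1 = m + 5 := by omega
    rw [h9] at hle
    have h10 : (m + 6) * (p ^ 2 - 1) + (m + 6) = (m + 6) * p ^ 2 := by
      have : 0 < p ^ 2 := pow_pos hp.pos 2
      obtain ⟨s, hs⟩ : ∃ s, p ^ 2 = s + 1 := ⟨p ^ 2 - 1, by omega⟩
      rw [hs, Nat.add_sub_cancel]; ring
    omega

variable {p : ℕ} [hp : Fact p.Prime] {V : Type*} [AddCommGroup V] [Module (ZMod p) V] [Finite V]

theorem finrank_eq {n : ℕ} (hV : Nat.card V = p ^ n) : Module.finrank (ZMod p) V = n := by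
  have h1 := Module.natCard_eq_pow_finrank (K := ZMod p) (V := V)
  rw [hV, Nat.card_zmod] at h1
  exact (Nat.pow_right_injective hp.out.two_le h1).symm

theorem card_two {n : ℕ} (hV : Nat.card V = p ^ n) (hn : 3 ≤ n) :
    Nat.card {W : Submodule (ZMod p) V // Module.finrank (ZMod p) W = 2} * ((p ^ 2 - 1) * (p - 1)) =
      (p ^ n - 1) * (p ^ (n - 1) - 1) := by
  have hf := finrank_eq (p := p) hV
  have h := SubspaceCount.card_subspaces (F := ZMod p) (V := V) (m := 2) (by omega)
  simpa [Finset.prod_range_succ, hf, ZMod.card] using h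

theorem finite_gl : Finite (V ≃ₗ[ZMod p] V) :=
  Finite.of_injective (fun f : V ≃ₗ[ZMod p] V => (f : V → V)) (fun f g h => LinearEquiv.ext (congrFun h))

theorem dvd_range {n : ℕ} (hV : Nat.card V = p ^ n) (hn : 3 ≤ n) (R : Subgroup (V ≃ₗ[ZMod p] V))
    (htr : ∀ A B : Submodule (ZMod p) V, Module.finrank (ZMod p) A = 2 → Module.finrank (ZMod p) B = 2 →
      ∃ m ∈ R, B = A.map (m : V →ₗ[ZMod p] V))
    (hsc : ∀ c : (ZMod p)ˣ, DistribMulAction.toModuleAut (ZMod p) V c ∈ R) :
    Nat.card {W : Submodule (ZMod p) V // Module.finrank (ZMod p) W = 2} * (p - 1) ∣ Nat.card R := by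
  classical
  have hfin : Finite (V ≃ₗ[ZMod p] V) := finite_gl
  have hnt : Nontrivial V := Finite.one_lt_card_iff_nontrivial.1 (by
    rw [hV]; exact Nat.one_lt_pow (by omega) hp.out.one_lt)
  obtain ⟨⟨U, hU⟩⟩ : Nonempty {U : Submodule (ZMod p) V // Module.finrank (ZMod p) U = 2} := by
    by_contra hcon
    rw [not_nonempty_iff] at hcon
    have h := card_two (p := p) hV hn
    rw [Nat.card_of_isEmpty, zero_mul] at h
    rcases Nat.mul_eq_zero.1 h.symm with h' | h'
    · have := Nat.one_lt_pow (n := n) (by omega) hp.out.one_lt; omega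
    · have := Nat.one_lt_pow (n := n - 1) (by omega) hp.out.one_lt; omega
  have horb : MulAction.orbit R U = {W : Submodule (ZMod p) V | Module.finrank (ZMod p) W = 2} := by
    ext W
    constructor
    · rintro ⟨r, rfl⟩
      show Module.finrank (ZMod p) (U.map ((r : V ≃ₗ[ZMod p] V) : V →ₗ[ZMod p] V)) = 2
      rw [LinearEquiv.finrank_map_eq, hU]
    · intro hW
      obtain ⟨m, hm, rfl⟩ := htr U W hU hW
      exact ⟨⟨m, hm⟩, rfl⟩
  have h1 : Nat.card {W : Submodule (ZMod p) V // Module.finrank (ZMod p) W = 2} = (MulAction.stabilizer R U).index := by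
    rw [MulAction.index_stabilizer, horb]
    rfl
  rw [h1, mul_comm, ← (MulAction.stabilizer R U).card_mul_index]
  apply Nat.mul_dvd_mul_right
  have h2 : Nat.card (ZMod p)ˣ = p - 1 := by rw [Nat.card_units, Nat.card_zmod]
  rw [← h2]
  let f : (ZMod p)ˣ →* R := (DistribMulAction.toModuleAut (ZMod p) V).codRestrict R hsc
  have hf : ∀ c, f c ∈ MulAction.stabilizer R U := by
    intro c
    rw [MulAction.mem_stabilizer_iff]
    apply le_antisymm
    · rintro _ ⟨u, hu, rfl⟩
      exact U.smul_mem (c : ZMod p) hu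
    · intro u hu
      exact ⟨(((c⁻¹ : (ZMod p)ˣ) : ZMod p)) • u, U.smul_mem _ hu, by
        show (c : ZMod p) • (((c⁻¹ : (ZMod p)ˣ) : ZMod p)) • u = u
        rw [smul_smul, Units.mul_inv, one_smul]⟩
  refine Subgroup.card_dvd_of_injective (f.codRestrict _ hf) ?_
  intro c d hcd
  obtain ⟨v, hv⟩ := exists_ne (0 : V)
  have h3 : (c : ZMod p) • v = (d : ZMod p) • v := by
    have := congrArg (fun k : MulAction.stabilizer R U => (k.1.1 : V ≃ₗ[ZMod p] V) v) hcd
    exact this
  have h4 : ((c : ZMod p) - d) • v = 0 := by rw [sub_smul, h3, sub_self]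
  rcases smul_eq_zero.1 h4 with h5 | h5
  · exact Units.ext (sub_eq_zero.1 h5)
  · exact absurd h5 hv

theorem lin {M : Type*} [Group M] [Finite M] (hsol : Group.IsSolvable M)
    (F : M →* (V ≃ₗ[ZMod p] V)) {n : ℕ} (hV : Nat.card V = p ^ n) (hn : 3 ≤ n)
    (htr : ∀ A B : Submodule (ZMod p) V, Module.finrank (ZMod p) A = Module.finrank (ZMod p) B →
      ∃ m, B = A.map (F m : V →ₗ[ZMod p] V)) :
    (n = 3 ∨ (n = 5 ∧ p = 2)) ∧
    (∃ e : V ≃+ GaloisField p n, ∀ m, ∃ (a : GaloisField p n) (σ : GaloisField p n ≃+* GaloisField p n),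
      ∀ v, e (F m v) = a * σ (e v)) ∧
    (p = 2 → n = 3 → 7 ∣ Nat.card F.range) ∧ (p = 2 → n = 5 → 155 ∣ Nat.card F.range) := by
  classical
  have hfin : Finite (V ≃ₗ[ZMod p] V) := finite_gl
  have hf := finrank_eq (p := p) hV
  have hnt : Nontrivial V := Finite.one_lt_card_iff_nontrivial.1 (by
    rw [hV]; exact Nat.one_lt_pow (by omega) hp.out.one_lt)
  have hcomm : ∀ (m : M) (c : (ZMod p)ˣ), Commute (F m) (DistribMulAction.toModuleAut (ZMod p) V c) := by
    intro m c
    show F m * _ = _ * F m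
    ext v
    show F m ((c : ZMod p) • v) = (c : ZMod p) • F m v
    rw [map_smul]
  let θ : M × (ZMod p)ˣ →* (V ≃ₗ[ZMod p] V) := F.noncommCoprod (DistribMulAction.toModuleAut (ZMod p) V) hcomm
  have hθ : ∀ m c v, θ (m, c) v = F m ((c : ZMod p) • v) := fun m c v => rfl
  let R : Subgroup (V ≃ₗ[ZMod p] V) := θ.range
  have hRsol : Group.IsSolvable R := by
    have h2 : Group.IsSolvable (M × (ZMod p)ˣ) := inferInstance
    exact Group.isSolvable_of_surjective θ.rangeRestrict_surjective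
  have hFR : ∀ m, F m ∈ R := fun m => ⟨(m, 1), by
    ext v
    rw [hθ, Units.val_one, one_smul]⟩
  have hsc : ∀ c : (ZMod p)ˣ, DistribMulAction.toModuleAut (ZMod p) V c ∈ R := fun c => ⟨(1, c), by
    ext v
    rw [hθ, map_one]
    rfl⟩
  have htr1 : ∀ v w : V, v ≠ 0 → w ≠ 0 → ∃ g : R, (g : V ≃ₗ[ZMod p] V) v = w := by
    intro v w hv hw
    obtain ⟨m, hm⟩ := htr (Submodule.span (ZMod p) {v}) (Submodule.span (ZMod p) {w})
      (by rw [finrank_span_singleton hv, finrank_span_singleton hw])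
    have h1 : w ∈ Submodule.span (ZMod p) {w} := Submodule.mem_span_singleton_self w
    rw [hm] at h1
    obtain ⟨u, hu, hu'⟩ := h1
    obtain ⟨c, rfl⟩ := Submodule.mem_span_singleton.1 hu
    have hc : c ≠ 0 := by
      rintro rfl
      rw [zero_smul, map_zero] at hu'
      exact hw hu'.symm
    exact ⟨⟨θ (m, Units.mk0 c hc), ⟨_, rfl⟩⟩, by
      show θ (m, Units.mk0 c hc) v = w
      rw [hθ]; exact hu'⟩
  have hdvd := dvd_range hV hn R (by
    intro A B hA hB
    obtain ⟨m, hm⟩ := htr A B (hA.trans hB.symm)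
    exact ⟨F m, hFR m, hm⟩) hsc
  have hc2 := card_two (p := p) hV hn
  set N2 := Nat.card {W : Submodule (ZMod p) V // Module.finrank (ZMod p) W = 2} with hN2
  have hp1 : 0 < p - 1 := by have := hp.out.two_le; omega
  -- the range in characteristic two
  have hR2 : p = 2 → N2 ∣ Nat.card F.range := by
    intro h2
    have h3 : R ≤ F.range := by
      rintro _ ⟨⟨m, c⟩, rfl⟩
      refine ⟨m, ?_⟩
      have hc1 : c = 1 := by
        have h4 : Nat.card (ZMod p)ˣ = 1 := by rw [Nat.card_units, Nat.card_zmod, h2]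
        have := (Nat.card_eq_one_iff_unique.1 h4).1
        exact Subsingleton.elim _ _
      ext v
      rw [hc1, hθ, Units.val_one, one_smul]
    exact ((Dvd.intro _ rfl).trans hdvd).trans (Subgroup.card_dvd_of_le h3)
  -- the semilinear case
  have hsemi : HupB.Semi (R.subtype) := by
    rcases HupM.huppert (ρ := R.subtype) hRsol R.subtype_injective htr1 with h | h
    · exact h
    · exfalso
      have h81 : Nat.card V = 81 := by
        simp only [Set.mem_insert_iff, Set.mem_singleton_iff] at h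
        have hdiv : p ^ 3 ∣ Nat.card V := by rw [hV]; exact pow_dvd_pow p hn
        have hp2 := hp.out.two_le
        have hle : p ^ 3 ≤ Nat.card V := Nat.le_of_dvd Nat.card_pos hdiv
        rcases h with h | h | h | h | h | h
        all_goals rw [h] at hdiv hle ⊢
        all_goals try rfl
        all_goals exfalso
        · have h0 : p < 3 := by by_contra hc; push Not at hc; have := Nat.pow_le_pow_left hc 3; omega
          exact (by decide : ∀ q : ℕ, q < 3 → 2 ≤ q → ¬ q ^ 3 ∣ 9) p h0 hp2 hdiv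
        · have h0 : p < 3 := by by_contra hc; push Not at hc; have := Nat.pow_le_pow_left hc 3; omega
          exact (by decide : ∀ q : ℕ, q < 3 → 2 ≤ q → ¬ q ^ 3 ∣ 25) p h0 hp2 hdiv
        · have h0 : p < 4 := by by_contra hc; push Not at hc; have := Nat.pow_le_pow_left hc 3; omega
          exact (by decide : ∀ q : ℕ, q < 4 → 2 ≤ q → ¬ q ^ 3 ∣ 49) p h0 hp2 hdiv
        · have h0 : p < 5 := by by_contra hc; push Not at hc; have := Nat.pow_le_pow_left hc 3; omega
          exact (by decide : ∀ q : ℕ, q < 5 → 2 ≤ q → ¬ q ^ 3 ∣ 121) p h0 hp2 hdiv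
        · have h0 : p < 9 := by by_contra hc; push Not at hc; have := Nat.pow_le_pow_left hc 3; omega
          exact (by decide : ∀ q : ℕ, q < 9 → 2 ≤ q → ¬ q ^ 3 ∣ 529) p h0 hp2 hdiv
      have hp3 : p = 3 := by
        have h1 : p ∣ 3 ^ 4 := by
          rw [show (3 : ℕ) ^ 4 = 81 from rfl, ← h81, hV]; exact dvd_pow_self p (by omega)
        exact (Nat.prime_dvd_prime_iff_eq hp.out Nat.prime_three).1 (hp.out.dvd_of_dvd_pow h1)
      subst hp3
      have hn4 : n = 4 := by
        rw [h81] at hV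
        exact (Nat.pow_right_injective (by norm_num : 2 ≤ 3) (show 3 ^ 4 = 3 ^ n from hV)).symm
      subst hn4
      have hN : N2 = 130 := by omega
      rw [hN] at hdvd
      exact no81 h81 R hRsol ((by norm_num : 5 ∣ 130 * (3 - 1)).trans hdvd) ((by norm_num : 13 ∣ 130 * (3 - 1)).trans hdvd)
  obtain ⟨f, e, hVf, he⟩ := hsemi
  have hfn : f = n := Nat.pow_right_injective hp.out.two_le (show p ^ f = p ^ n by rw [← hVf, hV])
  subst hfn
  have hFfin : Finite (GaloisField p f) := Finite.of_equiv V e.toEquiv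
  have hFc : Nat.card (GaloisField p f) = p ^ f := by rw [← Nat.card_congr e.toEquiv, hV]
  have hRd : Nat.card R ∣ (p ^ f - 1) * f := by
    have h1 : Nat.card (gammaL (GaloisField p f)) = (p ^ f - 1) * f := by
      rw [card_gammaL, hFc, card_aut p f (by omega)]
    rw [← h1]
    let g : R →* Equiv.Perm (GaloisField p f) :=
      (e.toEquiv.permCongrHom.toMonoidHom.comp (MulAction.toPermHom (V ≃ₗ[ZMod p] V) V)).comp R.subtype
    have hg : ∀ r x, g r x = e ((r : V ≃ₗ[ZMod p] V) (e.symm x)) := fun r x => rfl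
    have hgm : ∀ r, g r ∈ gammaL (GaloisField p f) := by
      intro r
      obtain ⟨a, σ, h⟩ := he r
      refine mem_gammaL ⟨a, σ, fun x => ?_⟩
      rw [hg]
      have := h (e.symm x)
      rw [AddEquiv.apply_symm_apply] at this
      exact this
    refine Subgroup.card_dvd_of_injective (g.codRestrict _ hgm) ?_
    intro r s hrs
    apply Subtype.ext
    apply LinearEquiv.ext
    intro v
    have h2 : g r (e v) = g s (e v) := congrArg (fun k : gammaL (GaloisField p f) => (k : Equiv.Perm _) (e v)) hrs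
    rw [hg, hg, AddEquiv.symm_apply_apply] at h2
    exact e.injective h2
  have hnum : f = 3 ∨ (f = 5 ∧ p = 2) := by
    apply numeric hp.out hn
    obtain ⟨k, hk⟩ := hdvd.trans hRd
    refine ⟨k, ?_⟩
    have hpf : 0 < p ^ f - 1 := by
      have := Nat.one_lt_pow (n := f) (by omega) hp.out.one_lt; omega
    apply Nat.eq_of_mul_eq_mul_left hpf
    calc (p ^ f - 1) * (f * (p ^ 2 - 1)) = ((p ^ f - 1) * f) * (p ^ 2 - 1) := by ring
      _ = k * (N2 * ((p ^ 2 - 1) * (p - 1))) := by rw [hk]; ring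
      _ = (p ^ f - 1) * (k * (p ^ (f - 1) - 1)) := by rw [hc2]; ring
  refine ⟨hnum, ⟨e, fun m => he ⟨F m, hFR m⟩⟩, ?_, ?_⟩
  · rintro rfl rfl
    have : N2 = 7 := by norm_num at hc2; omega
    rw [← this]; exact hR2 rfl
  · rintro rfl rfl
    have : N2 = 155 := by norm_num at hc2; omega
    rw [← this]; exact hR2 rfl

end Cfsg.Agent.Lib.H1HupSub
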