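import Cfsg.Agent.Lib.H1HupSubB

set_option autoImplicit false

open Cfsg

namespace Cfsg.Agent.Lib.H1HupSub

open H1Semi

universe u

variable {p : ℕ} [hp : Fact p.Prime]

theorem bij_of_card {A B : Type*} [Group A] [Group B] [Finite B] (f : A →* B) (hf : Function.Injective f)
    (h : Nat.card A = Nat.card B) : Nonempty (A ≃* B) :=
  ⟨MulEquiv.ofBijective f ((Nat.bijective_iff_injective_and_card f).2 ⟨hf, h⟩)⟩

theorem group_main {M : Type u} [Group M] [Finite M] (hsol : Group.IsSolvable M) {n : ℕ} (hn : 3 ≤ n)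
    (Q : Subgroup M) [hQ : Q.Normal] (hc : ∀ a b : Q, a * b = b * a) (hx : ∀ x ∈ Q, x ^ p = 1)
    (hcard : Nat.card Q = p ^ n) (hself : Subgroup.centralizer (Q : Set M) ≤ Q) (hcop : (Nat.card Q).Coprime Q.index)
    (htr : ∀ A B : Subgroup M, A ≤ Q → B ≤ Q → Nat.card A = Nat.card B →
      ∃ g : M, B = A.map (MulAut.conj g).toMonoidHom) :
    (n = 3 ∧ (∃ f : M →* semiaffineGroup (GaloisField p 3), Function.Injective f) ∧
      (p = 2 → Nonempty (M ≃* semiaffineGroup (GaloisField 2 3)) ∨ Nonempty (M ≃* affineGroup (GaloisField 2 3)))) ∨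
    (n = 5 ∧ p = 2 ∧ Nonempty (M ≃* semiaffineGroup (GaloisField 2 5))) := by
  classical
  obtain ⟨V, iV, mV, fV, e, F, he, hF⟩ := HupTwoHom.exists_lin Q hc p hx
  have hV : Nat.card V = p ^ n := by rw [← Nat.card_congr e, hcard]
  have he1 : e 1 = 0 := by
    have := he 1 1
    rw [one_mul] at this
    exact (left_eq_add.mp this)
  have heinv : ∀ n : Q, e n⁻¹ = - e n := by
    intro n
    have := he n⁻¹ n
    rw [inv_mul_cancel, he1] at this
    exact (eq_neg_of_add_eq_zero_left this.symm)
  have hnt : Nontrivial V := Finite.one_lt_card_iff_nontrivial.1 (by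
    rw [hV]; exact Nat.one_lt_pow (by omega) hp.out.one_lt)
  -- subspaces as subgroups
  let sub : Submodule (ZMod p) V → Subgroup M := fun A =>
    { carrier := {x | ∃ h : x ∈ Q, e ⟨x, h⟩ ∈ A}
      one_mem' := ⟨one_mem _, by
        have : (⟨1, one_mem _⟩ : Q) = 1 := rfl
        rw [this, he1]; exact A.zero_mem⟩
      mul_mem' := by
        rintro x y ⟨hx1, hx2⟩ ⟨hy1, hy2⟩
        refine ⟨mul_mem hx1 hy1, ?_⟩
        have : (⟨x * y, mul_mem hx1 hy1⟩ : Q) = ⟨x, hx1⟩ * ⟨y, hy1⟩ := rfl
        rw [this, he]; exact A.add_mem hx2 hy2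
      inv_mem' := by
        rintro x ⟨hx1, hx2⟩
        refine ⟨inv_mem hx1, ?_⟩
        have : (⟨x⁻¹, inv_mem hx1⟩ : Q) = ⟨x, hx1⟩⁻¹ := rfl
        rw [this, heinv]; exact A.neg_mem hx2 }
  have hsub : ∀ A x, x ∈ sub A ↔ ∃ h : x ∈ Q, e ⟨x, h⟩ ∈ A := fun A x => Iff.rfl
  have hsubQ : ∀ A, sub A ≤ Q := fun A x hx => hx.1
  have hsubc : ∀ A, Nat.card (sub A) = Nat.card A := by
    intro A
    refine Nat.card_congr
      { toFun := fun x => ⟨e ⟨x.1, x.2.1⟩, x.2.2⟩
        invFun := fun a => ⟨(e.symm a.1 : Q), (e.symm a.1).2, by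
          have : (⟨((e.symm a.1 : Q) : M), (e.symm a.1).2⟩ : Q) = e.symm a.1 := rfl
          rw [this, Equiv.apply_symm_apply]; exact a.2⟩
        left_inv := fun x => by
          apply Subtype.ext
          show ((e.symm (e ⟨x.1, x.2.1⟩) : Q) : M) = x.1
          rw [Equiv.symm_apply_apply]
        right_inv := fun a => by
          apply Subtype.ext
          show e ⟨((e.symm a.1 : Q) : M), _⟩ = a.1
          have : (⟨((e.symm a.1 : Q) : M), (e.symm a.1).2⟩ : Q) = e.symm a.1 := rfl
          rw [this, Equiv.apply_symm_apply] }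
  have htrF : ∀ A B : Submodule (ZMod p) V, Module.finrank (ZMod p) A = Module.finrank (ZMod p) B →
      ∃ m, B = A.map (F m : V →ₗ[ZMod p] V) := by
    intro A B hAB
    obtain ⟨g, hg⟩ := htr (sub A) (sub B) (hsubQ A) (hsubQ B) (by
      rw [hsubc, hsubc, Module.natCard_eq_pow_finrank (K := ZMod p) (V := A),
        Module.natCard_eq_pow_finrank (K := ZMod p) (V := B), hAB])
    refine ⟨g, ?_⟩
    have hconj : ∀ x : Q, e (MulAut.conjNormal g x) ∈ B ↔ e x ∈ A := by
      intro x
      have h1 : ((MulAut.conjNormal g x : Q) : M) ∈ sub B ↔ (x : M) ∈ sub A := by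
        rw [hg]
        constructor
        · rintro ⟨y, hy, hy'⟩
          have : y = x := by
            have h2 : g * y * g⁻¹ = g * x * g⁻¹ := by
              rw [← MulAut.conjNormal_apply]; exact hy'
            exact mul_left_cancel (mul_right_cancel h2)
          rwa [← this]
        · intro h
          exact ⟨x, h, by rw [MulAut.conjNormal_apply]; rfl⟩
      rw [hsub, hsub] at h1
      constructor
      · intro h; exact (h1.1 ⟨(MulAut.conjNormal g x).2, h⟩).2
      · intro h; exact (h1.2 ⟨x.2, h⟩).2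
    ext v
    constructor
    · intro hv
      obtain ⟨x, rfl⟩ := e.surjective v
      refine ⟨e ((MulAut.conjNormal g)⁻¹ x), ?_, ?_⟩
      · show _ ∈ A
        rw [← hconj, MulAut.apply_inv_self]; exact hv
      · show F g _ = _
        rw [hF, MulAut.apply_inv_self]
    · rintro ⟨w, hw, rfl⟩
      obtain ⟨x, rfl⟩ := e.surjective w
      show F g _ ∈ B
      rw [hF, hconj]; exact hw
  obtain ⟨hnum, ⟨e2, he2⟩, h7, h155⟩ := lin hsol F hV hn htrF
  -- the kernel
  have hker : F.ker = Q := by
    apply le_antisymm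
    · intro m hm
      apply hself
      rw [Subgroup.mem_centralizer_iff]
      intro x hx
      have h1 := hF m ⟨x, hx⟩
      rw [MonoidHom.mem_ker.1 hm] at h1
      have h2 := congrArg Subtype.val (e.injective h1)
      rw [MulAut.conjNormal_apply] at h2
      have h3 : x = m * x * m⁻¹ := h2
      calc x * m = (m * x * m⁻¹) * m := by rw [← h3]
        _ = m * x := by group
    · intro m hm
      rw [MonoidHom.mem_ker]
      apply LinearEquiv.ext
      intro v
      obtain ⟨x, rfl⟩ := e.surjective v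
      rw [hF]
      show e _ = e x
      congr 1
      apply Subtype.ext
      rw [MulAut.conjNormal_apply]
      have := congrArg Subtype.val (hc ⟨m, hm⟩ x)
      show m * x * m⁻¹ = x
      rw [show m * (x : M) = x * m from this]; group
  have hMc : Nat.card M = p ^ n * Nat.card F.range := by
    rw [← hcard, ← hker, ← Subgroup.card_mul_index F.ker, Subgroup.index_ker]
  -- the cocycle
  obtain ⟨H, hH⟩ := Subgroup.exists_right_complement'_of_coprime hcop
  have hdec : ∀ m : M, ∃ q : Q, ∃ h ∈ H, m = q * h := by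
    intro m
    obtain ⟨⟨q, h⟩, hqh⟩ := hH.2 m
    exact ⟨q, h, h.2, hqh.symm⟩
  choose q h hhH hqh using hdec
  have huniq : ∀ (m : M) (q' : Q) (h' : M), h' ∈ H → m = q' * h' → q m = q' := by
    intro m q' h' hh' hm
    have h1 : (q m : M) * h m = q' * h' := by rw [← hqh, ← hm]
    have h2 : (q' : M)⁻¹ * q m = h' * (h m)⁻¹ := by
      calc (q' : M)⁻¹ * q m = (q' : M)⁻¹ * (q m * h m) * (h m)⁻¹ := by group
        _ = _ := by rw [h1]; group
    have h3 : (q' : M)⁻¹ * q m ∈ Q ⊓ H := ⟨Q.mul_mem (Q.inv_mem q'.2) (q m).2, by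
      rw [h2]; exact H.mul_mem hh' (H.inv_mem (hhH m))⟩
    rw [hH.disjoint.eq_bot, Subgroup.mem_bot] at h3
    exact Subtype.ext (inv_mul_eq_one.1 h3).symm
  have hq1 : q 1 = 1 := huniq 1 1 1 (one_mem _) (by simp)
  have hqmul : ∀ m m', q (m * m') = q m * MulAut.conjNormal m (q m') := by
    intro m m'
    apply huniq _ _ (h m * h m') (mul_mem (hhH m) (hhH m'))
    have h1 : ((q m * MulAut.conjNormal m (q m') : Q) : M) = q m * (m * q m' * m⁻¹) := by
      rw [Subgroup.coe_mul, MulAut.conjNormal_apply]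
    have h2 : m * (q m' : M) * m⁻¹ = h m * q m' * (h m)⁻¹ := by
      have h3 : h m * q m' * (h m)⁻¹ ∈ Q := hQ.conj_mem _ (q m').2 _
      have h4 : (q m : M) * (h m * q m' * (h m)⁻¹) = (h m * q m' * (h m)⁻¹) * q m :=
        congrArg Subtype.val (hc (q m) ⟨_, h3⟩)
      calc m * (q m' : M) * m⁻¹ = (q m * h m) * q m' * (q m * h m)⁻¹ := by rw [← hqh]
        _ = (q m : M) * (h m * q m' * (h m)⁻¹) * (q m : M)⁻¹ := by
          simp only [mul_inv_rev, mul_assoc]
        _ = _ := by rw [h4]; group
    rw [h1, h2]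
    calc m * m' = (q m * h m) * (q m' * h m') := by rw [← hqh, ← hqh]
      _ = _ := by group
  let act : MulAction M V :=
    { smul := fun m v => e (q m) + F m v
      one_smul := fun v => by
        show e (q 1) + F 1 v = v
        rw [hq1, he1, map_one, zero_add]; rfl
      mul_smul := fun m m' v => by
        show e (q (m * m')) + F (m * m') v = e (q m) + F m (e (q m') + F m' v)
        rw [hqmul, he, ← hF, map_mul, map_add, add_assoc]; rfl }
  let φ : M →* Equiv.Perm V := @MulAction.toPermHom M V _ act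
  have hφ : ∀ m v, φ m v = e (q m) + F m v := fun m v => rfl
  let g : M →* Equiv.Perm (GaloisField p n) := e2.toEquiv.permCongrHom.toMonoidHom.comp φ
  have hg : ∀ m x, g m x = e2 (e (q m) + F m (e2.symm x)) := fun m x => rfl
  have hgm : ∀ m, g m ∈ semiaffineGroup (GaloisField p n) := by
    intro m
    obtain ⟨a, σ, ha⟩ := he2 m
    have ha0 : a ≠ 0 := by
      rintro rfl
      obtain ⟨v, hv⟩ := exists_ne (0 : V)
      have h1 := ha v
      rw [zero_mul] at h1
      apply hv
      have h2 : F m v = 0 := by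
        apply e2.injective
        rw [h1, map_zero]
      exact (LinearEquiv.map_eq_zero_iff _).1 h2
    refine ⟨Units.mk0 a ha0, e2 (e (q m)), σ, fun x => ?_⟩
    rw [hg, map_add, ha, AddEquiv.apply_symm_apply, Units.val_mk0, add_comm]
  let f : M →* semiaffineGroup (GaloisField p n) := g.codRestrict _ hgm
  have hfinj : Function.Injective f := by
    rw [injective_iff_map_eq_one]
    intro m hm
    have h1 : ∀ v, e (q m) + F m v = v := by
      intro v
      have h2 : g m = 1 := congrArg Subtype.val hm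
      have h3 := congrArg (fun k : Equiv.Perm (GaloisField p n) => k (e2 v)) h2
      simp only [Equiv.Perm.coe_one, id_eq] at h3
      rw [hg, AddEquiv.symm_apply_apply] at h3
      exact e2.injective h3
    have h2 : e (q m) = 0 := by have := h1 0; rwa [map_zero, add_zero] at this
    have h3 : q m = 1 := e.injective (h2.trans he1.symm)
    have h4 : m ∈ F.ker := by
      rw [MonoidHom.mem_ker]
      apply LinearEquiv.ext
      intro v
      have := h1 v
      rwa [h2, zero_add] at this
    rw [hker] at h4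
    have h5 : q m = ⟨m, h4⟩ := huniq m ⟨m, h4⟩ 1 (one_mem _) (by simp)
    rw [h3] at h5
    exact (congrArg Subtype.val h5).symm
  have hGF : Finite (GaloisField p n) := Finite.of_equiv V e2.toEquiv
  have hFc : Nat.card (GaloisField p n) = p ^ n := by rw [← Nat.card_congr e2.toEquiv, hV]
  have hsc : Nat.card (semiaffineGroup (GaloisField p n)) = p ^ n * ((p ^ n - 1) * n) := by
    rw [card_semiaffine, hFc, card_aut p n (by omega)]
  have hsa : Nat.card (affineGroup (GaloisField p n)) = p ^ n * (p ^ n - 1) := by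
    rw [card_affine, hFc]
  have hdiv : Nat.card M ∣ p ^ n * ((p ^ n - 1) * n) := by
    rw [← hsc]; exact Subgroup.card_dvd_of_injective f hfinj
  have hdiv2 : Nat.card F.range ∣ (p ^ n - 1) * n := by
    rw [hMc] at hdiv
    exact Nat.dvd_of_mul_dvd_mul_left (pow_pos hp.out.pos n) hdiv
  obtain ⟨r, hr⟩ : ∃ r, r = Nat.card F.range := ⟨_, rfl⟩
  rw [← hr] at hMc hdiv2 h7 h155
  have hfg : ∀ m, ((f m : semiaffineGroup (GaloisField p n)) : Equiv.Perm (GaloisField p n)) = g m := fun m => rfl
  clear_value f g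
  clear hr
  rcases hnum with rfl | ⟨rfl, rfl⟩
  · left
    refine ⟨rfl, ⟨f, hfinj⟩, ?_⟩
    rintro rfl
    have h7' := h7 rfl rfl
    norm_num at hdiv2 hsc hsa hMc
    have h8 : r = 7 ∨ r = 21 := by
      obtain ⟨k, hk⟩ := h7'
      rw [hk] at hdiv2
      have : k ∣ 3 := Nat.dvd_of_mul_dvd_mul_left (by norm_num : 0 < 7) (by simpa using hdiv2)
      rcases (Nat.dvd_prime Nat.prime_three).1 this with h | h
      · left; rw [hk, h]
      · right; rw [hk, h]
    rcases h8 with h8 | h8
    · right
      -- the automorphism part is trivial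
      let ψ : M →* (GaloisField 2 3 ≃+* GaloisField 2 3) := autPart.comp f
      have hψ : Nat.card ψ.range = 1 := by
        have h9 : Nat.card ψ.range ∣ Nat.card M := Subgroup.card_range_dvd ψ
        have h10 : Nat.card ψ.range ∣ 3 := by
          have h11 := card_aut 2 3 (by norm_num)
          have h12 := Subgroup.card_subgroup_dvd_card ψ.range
          rwa [h11] at h12
        rw [hMc, h8] at h9
        exact Nat.eq_one_of_dvd_coprimes (by norm_num : Nat.Coprime (8 * 7) 3) h9 h10
      have hψ1 : ∀ m, ψ m = 1 := by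
        intro m
        have h9 : ψ.range = ⊥ := Subgroup.eq_bot_of_card_eq _ hψ
        have h10 : ψ m ∈ ψ.range := ⟨m, rfl⟩
        rwa [h9, Subgroup.mem_bot] at h10
      have hgm' : ∀ m, g m ∈ affineGroup (GaloisField 2 3) := fun m => by
        rw [← hfg]; exact mem_affine_of_autPart (f m) (hψ1 m)
      apply bij_of_card (g.codRestrict _ hgm')
      · intro x y hxy
        apply hfinj
        apply Subtype.ext
        rw [hfg, hfg]
        exact congrArg Subtype.val hxy
      · rw [hMc, h8, hsa]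
    · left
      apply bij_of_card f hfinj
      rw [hMc, h8, hsc]
  · right
    refine ⟨rfl, rfl, ?_⟩
    have h155' := h155 rfl rfl
    norm_num at hdiv2 hsc hsa hMc
    apply bij_of_card f hfinj
    rw [hMc, hsc, Nat.dvd_antisymm hdiv2 h155']

end Cfsg.Agent.Lib.H1HupSub
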