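import Mathlib
import Cfsg.Agent.Lib.Sharp3PGL

/-!
Sharply triply transitive groups of even degree with commutative two-point stabilisers are `PGL₂`
(variation of helper13's `Sharp3PGL`; helper1).
-/

set_option autoImplicit false

namespace Cfsg.Agent.Lib.H1NseC

open MulAction ZassBasic OnePoint Sharp3 Sharp3.Config

universe u v

variable {G : Type u} {Ω : Type v} [Group G] [MulAction G Ω]
variable {a b c : Ω} {s z u : G} {K : Subgroup G}

/-- the elements of the two-point stabiliser act as multiplications if it is commutative -/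
theorem linear_of_comm [Finite G] [Finite Ω] (C : Config G Ω a b c s z u K)
    (hHc : ∀ x ∈ stabilizer G a ⊓ stabilizer G b, ∀ y ∈ stabilizer G a ⊓ stabilizer G b, x * y = y * x) :
    ∃ (N : Subgroup G) (E : Type) (_ : Field E) (_ : Fintype E) (ι : OnePoint E → Ω) (τ : E → G),
      N ≤ stabilizer G a ⊓ stabilizer G b ∧
      N.relIndex (stabilizer G a ⊓ stabilizer G b) = 2 ∧ (∀ n ∈ N, s * n * s = n⁻¹) ∧
      Fintype.card E = Nat.card K ∧ Function.Bijective ι ∧ ι (∞ : OnePoint E) = a ∧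
      ι ((0 : E) : OnePoint E) = b ∧ ι ((1 : E) : OnePoint E) = c ∧ (∀ t, τ t ∈ K) ∧
      (∀ k ∈ K, ∃ t, τ t = k) ∧
      (∀ t x : E, τ t • ι (x : OnePoint E) = ι ((x + t : E) : OnePoint E)) ∧
      (∀ h ∈ stabilizer G a ⊓ stabilizer G b, ∃ r : E, r ≠ 0 ∧
        ∀ x : E, h • ι (x : OnePoint E) = ι ((r * x : E) : OnePoint E)) := by
  classical
  obtain ⟨N, E, hE, hEf, ι, τ, ψ, hNH, hNn, hidx, hinv, hEc, hι, hinf, hzero, hone, hτK, hτs, hτ, hψ⟩ :=
    C.exists_coordN
  refine ⟨N, E, hE, hEf, ι, τ, hNH, hidx, hinv, hEc, hι, hinf, hzero, hone, hτK, hτs, hτ, ?_⟩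
  set H := stabilizer G a ⊓ stabilizer G b with hH
  have hcH : Nat.card H + 2 = Nat.card Ω := C.card_H
  have hcK : Nat.card K + 1 = Nat.card Ω := C.card_K
  have hcardN : 2 * Nat.card N = Nat.card H := by
    have hmul : N.relIndex H * Nat.card N = Nat.card H := by
      rw [Subgroup.relIndex, ← Nat.card_congr (Subgroup.subgroupOfEquivOfLe hNH).toEquiv,
        Subgroup.index_mul_card]
    rwa [hidx] at hmul
  have hinj : ∀ x y : E, ι (x : OnePoint E) = ι (y : OnePoint E) → x = y := fun x y h =>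
    OnePoint.coe_injective (hι.1 h)
  have hq3 : 3 ≤ Fintype.card E := by
    have : 0 < Nat.card N := Nat.card_pos
    omega
  -- `2` is invertible
  have h2ne : (2 : E) ≠ 0 := by
    intro h20
    -- the involution `z` inverts the translation by one
    have hz : z * u * z = u⁻¹ := C.hzu
    obtain ⟨t, ht⟩ := hτs u C.huK
    have hu1 : u • ι ((0 : E) : OnePoint E) = ι ((t : E) : OnePoint E) := by
      rw [← ht, hτ, zero_add]
    have h1 : u • u • ι ((0 : E) : OnePoint E) = ι ((0 : E) : OnePoint E) := by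
      rw [hu1, ← ht, hτ]
      have : t + t = 0 := by rw [← two_mul, h20, zero_mul]
      rw [this]
    have h2 : u * u = 1 := C.K_one (K.mul_mem C.huK C.huK) (by rw [mul_smul, ← hzero, h1])
    have h3 : u⁻¹ = u := inv_eq_of_mul_eq_one_right h2
    rw [h3] at hz
    have h4 : z * u = u * z := by
      calc z * u = (z * u * z) * z⁻¹ := by group
        _ = u * z := by rw [hz, inv_eq_of_mul_eq_one_right C.hzz]
    exact C.hz1 (C.free C.hza C.hzb C.huK C.u_ne h4)
  -- multiplicativity of `ψ`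
  have hψ1 : ∀ n ∈ N, n • c = ι ((ψ n : E) : OnePoint E) := by
    intro n hn
    rw [← hone, hψ n hn, mul_one]
  have hψmul : ∀ n ∈ N, ∀ m ∈ N, ψ (n * m) = ψ n * ψ m := by
    intro n hn m hm
    apply hinj
    rw [← hψ1 _ (N.mul_mem hn hm), mul_smul, hψ1 m hm, hψ n hn]
  have hψone : ψ 1 = 1 := by
    apply hinj
    rw [← hψ1 1 N.one_mem, one_smul, hone]
  let Ψ : N →* Eˣ := {
    toFun := fun n => ⟨ψ n, ψ (n : G)⁻¹, by
      rw [← hψmul _ n.2 _ (N.inv_mem n.2), mul_inv_cancel, hψone], by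
      rw [← hψmul _ (N.inv_mem n.2) _ n.2, inv_mul_cancel, hψone]⟩
    map_one' := Units.ext hψone
    map_mul' := fun n m => Units.ext (hψmul n n.2 m m.2) }
  have hΨinj : Function.Injective Ψ := by
    intro n m hnm
    have h1 : ψ n = ψ m := congrArg Units.val hnm
    apply Subtype.ext
    have hn := hNH n.2
    have hm := hNH m.2
    exact eq_of_three C.h3 C.hab C.hac C.hbc ((hn.1 : (n : G) • a = a).trans (hm.1 : (m : G) • a = a).symm)
      ((hn.2 : (n : G) • b = b).trans (hm.2 : (m : G) • b = b).symm)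
      (by rw [hψ1 n n.2, hψ1 m m.2, h1])
  have hΨidx : Ψ.range.index = 2 := by
    have h1 : Nat.card Ψ.range = Nat.card N :=
      (Nat.card_congr (MonoidHom.ofInjective hΨinj).toEquiv).symm
    have h2 := Ψ.range.index_mul_card
    rw [h1, Nat.card_eq_fintype_card (α := Eˣ), Fintype.card_units] at h2
    have h3 : 0 < Nat.card N := Nat.card_pos
    have h4 : Ψ.range.index * Nat.card N = 2 * Nat.card N := by rw [h2]; omega
    exact Nat.eq_of_mul_eq_mul_right h3 h4
  have hsq : ∀ r : E, r ≠ 0 → ∃ n ∈ N, ψ n = r * r := by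
    intro r hr
    have h1 := Subgroup.mul_self_mem_of_index_two hΨidx (Units.mk0 r hr)
    obtain ⟨n, hn⟩ := h1
    exact ⟨n, n.2, congrArg Units.val hn⟩
  intro h hh
  have hha : h • a = a := hh.1
  have hhb : h • b = b := hh.2
  -- the map on `E`
  have hex : ∀ x : E, ∃ y : E, h • ι (x : OnePoint E) = ι (y : OnePoint E) := by
    intro x
    obtain ⟨y, hy⟩ := hι.2 (h • ι (x : OnePoint E))
    have hy' : y ≠ ∞ := by
      rintro rfl
      rw [hinf] at hy
      have h1 : h • a = h • ι (x : OnePoint E) := by rw [hha, ← hy]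
      have h2 := MulAction.injective h h1
      rw [← hinf] at h2
      exact OnePoint.infty_ne_coe x (hι.1 h2)
    obtain ⟨y', rfl⟩ := coe_cases hy'
    exact ⟨y', hy.symm⟩
  choose φ hφ using hex
  have hφ0 : φ 0 = 0 := by
    apply hinj
    rw [← hφ, hzero, hhb]
  have hadd : ∀ x t, φ (x + t) = φ x + φ t := by
    have h1 : ∀ t, ∃ t', ∀ x, φ (x + t) = φ x + t' := by
      intro t
      obtain ⟨t', ht'⟩ := hτs _ (C.conj_K hha (hτK t))
      refine ⟨t', fun x => ?_⟩
      apply hinj
      rw [← hφ, ← hτ, ← hτ, ht', ← hφ, smul_smul, smul_smul, inv_mul_cancel_right]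
    intro x t
    obtain ⟨t', ht'⟩ := h1 t
    have h2 := ht' 0
    rw [zero_add, hφ0, zero_add] at h2
    rw [ht' x, h2]
  have hφinj : Function.Injective φ := by
    intro x y hxy
    apply hinj
    apply MulAction.injective h
    show h • ι (x : OnePoint E) = h • ι (y : OnePoint E)
    rw [hφ, hφ, hxy]
  set ν := φ 1 with hν
  have hν0 : ν ≠ 0 := by
    intro h0
    have : φ 1 = φ 0 := by rw [← hν, h0, hφ0]
    exact one_ne_zero (hφinj this)
  have hsemi : ∀ n ∈ N, ∀ x, φ (ψ n * x) = ψ n * φ x := by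
    intro n hn x
    apply hinj
    rw [← hφ, ← hψ n hn, ← hψ n hn, ← hφ, smul_smul, smul_smul, hHc h hh n (hNH hn)]
  have hsub : ∀ x t, φ (x - t) = φ x - φ t := by
    intro x t
    have := hadd (x - t) t
    rw [sub_add_cancel] at this
    rw [this]; ring
  have hsqmul : ∀ r x : E, φ (r * r * x) = r * r * φ x := by
    intro r x
    by_cases hr : r = 0
    · rw [hr]; simp [hφ0]
    · obtain ⟨n, hn, hnr⟩ := hsq r hr
      rw [← hnr]; exact hsemi n hn x
  refine ⟨ν, hν0, fun x => ?_⟩
  rw [hφ]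
  congr 2
  have h1 : x = ((x + 1) / 2) * ((x + 1) / 2) - ((x - 1) / 2) * ((x - 1) / 2) := by
    field_simp; ring
  have h2 := hsqmul ((x + 1) / 2) 1
  have h3 := hsqmul ((x - 1) / 2) 1
  rw [mul_one] at h2 h3
  have h4 : φ x = (((x + 1) / 2) * ((x + 1) / 2) - ((x - 1) / 2) * ((x - 1) / 2)) * ν := by
    conv_lhs => rw [h1, hsub, h2, h3]
    ring
  rw [h4, ← h1, mul_comm]

theorem pgl_of_comm [Finite G] [Finite Ω] [FaithfulSMul G Ω] (C : Config G Ω a b c s z u K)
    (hHc : ∀ x ∈ stabilizer G a ⊓ stabilizer G b, ∀ y ∈ stabilizer G a ⊓ stabilizer G b, x * y = y * x) :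
    ∃ (E : Type) (_ : Field E) (_ : Fintype E), Fintype.card E = Nat.card K ∧
      Nonempty (G ≃* Matrix.ProjGenLinGroup (Fin 2) E) := by
  classical
  obtain ⟨N, E, hE, hEf, ι, τ, hNH, hidx, hinv, hEc, hι, hinf, hzero, hone, hτK, hτs, hτ, hlin⟩ :=
    linear_of_comm C hHc
  refine ⟨E, hE, hEf, hEc, ?_⟩
  set H := stabilizer G a ⊓ stabilizer G b with hH
  have hcH : Nat.card H + 2 = Nat.card Ω := C.card_H
  have hcK : Nat.card K + 1 = Nat.card Ω := C.card_K
  have hinj : ∀ x y : E, ι (x : OnePoint E) = ι (y : OnePoint E) → x = y := fun x y h =>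
    OnePoint.coe_injective (hι.1 h)
  have hne_inf : ∀ x : E, ι (x : OnePoint E) ≠ a := by
    intro x h
    rw [← hinf] at h
    exact OnePoint.infty_ne_coe x (hι.1 h).symm
  have hne_b : ∀ x : E, x ≠ 0 → ι (x : OnePoint E) ≠ b := by
    intro x hx h
    rw [← hzero] at h
    exact hx (hinj _ _ h)
  -- every multiplier occurs
  have hmult : ∀ r : E, r ≠ 0 → ∃ h ∈ H, ∀ x : E, h • ι (x : OnePoint E) = ι ((r * x : E) : OnePoint E) := by
    intro r hr
    obtain ⟨h, h1, h2, h3⟩ := C.mv a b c a b (ι (r : OnePoint E)) C.hab C.hac C.hbc C.hab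
      (hne_inf r).symm (hne_b r hr).symm
    obtain ⟨r', hr', h4⟩ := hlin h ⟨h1, h2⟩
    refine ⟨h, ⟨h1, h2⟩, ?_⟩
    have h5 := h4 1
    rw [mul_one, hone, h3] at h5
    rw [hinj _ _ h5]
    exact h4
  -- the map `α`
  have hex : ∀ x : E, ∃ y : E, x ≠ 0 → y ≠ 0 ∧ s • ι (x : OnePoint E) = ι (y : OnePoint E) := by
    intro x
    by_cases hx : x = 0
    · exact ⟨0, fun h => absurd hx h⟩
    obtain ⟨y, hy⟩ := hι.2 (s • ι (x : OnePoint E))
    have hy' : y ≠ ∞ := by
      rintro rfl
      rw [hinf] at hy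
      have h1 : s • b = s • ι (x : OnePoint E) := by rw [C.hsb, ← hy]
      exact hne_b x hx (MulAction.injective s h1).symm
    obtain ⟨y', rfl⟩ := coe_cases hy'
    refine ⟨y', fun _ => ⟨?_, hy.symm⟩⟩
    rintro rfl
    rw [hzero] at hy
    have h1 : s • a = s • ι (x : OnePoint E) := by rw [C.hsa, ← hy]
    exact hne_inf x (MulAction.injective s h1).symm
  choose α hα' using hex
  have hα0 : ∀ x, x ≠ 0 → α x ≠ 0 := fun x hx => (hα' x hx).1
  have hα : ∀ x : E, x ≠ 0 → s • ι (x : OnePoint E) = ι ((α x : E) : OnePoint E) := fun x hx => (hα' x hx).2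
  have hα1 : α 1 = 1 := by
    apply hinj
    rw [← hα 1 one_ne_zero, hone, C.hsc]
  have hsHs : ∀ h ∈ H, s * h * s ∈ H := by
    intro h hh
    have h1 : h • a = a := hh.1
    have h2 : h • b = b := hh.2
    refine ⟨?_, ?_⟩
    · show (s * h * s) • a = a
      rw [mul_smul, mul_smul, C.hsa, h2, C.hsb]
    · show (s * h * s) • b = b
      rw [mul_smul, mul_smul, C.hsb, h1, C.hsa]
  have hss : ∀ y : Ω, s • s • y = y := fun y => by rw [smul_smul, C.hss, one_smul]
  have hconjs : ∀ h ∈ H, ∀ r : E, r ≠ 0 → (∀ x : E, h • ι (x : OnePoint E) = ι ((r * x : E) : OnePoint E)) →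
      ∀ x : E, (s * h * s) • ι (x : OnePoint E) = ι ((α r * x : E) : OnePoint E) := by
    intro h hh r hr h1
    obtain ⟨r', hr', h2⟩ := hlin _ (hsHs h hh)
    have h3 := h2 1
    rw [mul_one, hone, mul_smul, mul_smul, C.hsc, ← hone, h1, mul_one, hα r hr] at h3
    rw [hinj _ _ h3]
    exact h2
  have hαmul : ∀ x y : E, x ≠ 0 → y ≠ 0 → α (x * y) = α x * α y := by
    intro x y hx hy
    obtain ⟨h, hh, h1⟩ := hmult x hx
    have h2 := hconjs h hh x hx h1
    apply hinj
    rw [← hα _ (mul_ne_zero hx hy), ← h1, ← h2, ← hα y hy, mul_smul, mul_smul, hss]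
  have hαsq : ∀ x : E, x ≠ 0 → (α x * x) * (α x * x) = 1 := by
    intro x hx
    obtain ⟨h, hh, h1⟩ := hmult x hx
    have hhN : h * h ∈ N := by
      have h2 : (⟨h, hh⟩ : H) * ⟨h, hh⟩ ∈ N.subgroupOf H := Subgroup.mul_self_mem_of_index_two hidx _
      exact h2
    have h3 := hinv _ hhN
    have h4 : ∀ y : E, (h * h) • ι (y : OnePoint E) = ι (((x * x) * y : E) : OnePoint E) := by
      intro y
      rw [mul_smul, h1, h1, mul_assoc]
    have h5 := hconjs (h * h) (H.mul_mem hh hh) (x * x) (mul_ne_zero hx hx) h4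
    rw [h3] at h5
    have h6 : α (x * x) * (x * x) = 1 := by
      apply hinj
      rw [mul_comm, ← h4]
      have h7 := h5 1
      rw [mul_one] at h7
      rw [← h7, smul_inv_smul]
    rw [hαmul x x hx hx] at h6
    rw [← h6]; ring
  -- the involution `z` is the multiplication by `-1`
  have hzneg : ∀ x : E, z • ι (x : OnePoint E) = ι ((-x : E) : OnePoint E) := by
    obtain ⟨ζ, hζ, h1⟩ := hlin z ⟨C.hza, C.hzb⟩
    have h2 : ζ * ζ = 1 := by
      apply hinj
      have : z • z • ι ((1 : E) : OnePoint E) = ι ((1 : E) : OnePoint E) := by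
        rw [smul_smul, C.hzz, one_smul]
      rw [h1, h1, mul_one] at this
      exact this
    have h3 : ζ ≠ 1 := by
      rintro rfl
      apply C.hz1
      refine C.h3 z a b c C.hab C.hbc C.hac C.hza C.hzb ?_
      rw [← hone, h1, mul_one]
    have h4 : (ζ - 1) * (ζ + 1) = 0 := by linear_combination h2
    have h5 : ζ = -1 := by
      rcases mul_eq_zero.1 h4 with h | h
      · exact absurd (sub_eq_zero.1 h) h3
      · exact eq_neg_of_add_eq_zero_left h
    intro x
    rw [h1, h5]; congr 2; ring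
  have hαneg : α (-1) = -1 := by
    apply hinj
    rw [← hα _ (neg_ne_zero.2 one_ne_zero), ← hzneg, smul_smul, ← C.hzs, mul_smul, hone, C.hsc]
  -- the translation `u` by `1`
  have hu : ∀ x : E, u • ι (x : OnePoint E) = ι ((x + 1 : E) : OnePoint E) := by
    obtain ⟨t, ht⟩ := hτs u C.huK
    have h1 : t = 1 := by
      apply hinj
      rw [hone, ← C.hub, ← hzero, ← ht, hτ, zero_add]
    intro x
    rw [← ht, h1, hτ]
  have hrel : ∀ x : E, x ≠ 0 → x + 1 ≠ 0 → α x + 1 ≠ 0 → α (α x + 1) = -α (x + 1) + 1 := by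
    intro x hx hx1 hx2
    apply hinj
    have h1 : (s * u * s) • ι (x : OnePoint E) = ι ((α (α x + 1) : E) : OnePoint E) := by
      rw [mul_smul, mul_smul, hα x hx, hu, hα _ hx2]
    have h2 : (u * (z * s) * u) • ι (x : OnePoint E) = ι ((-α (x + 1) + 1 : E) : OnePoint E) := by
      rw [mul_smul, hu, mul_smul, mul_smul, hα _ hx1, hzneg, hu]
    rw [← h1, ← h2, C.rel]
  have key : ∀ x : E, x ≠ 0 → x + 1 ≠ 0 → α x * x = 1 → α (x + 1) * (x + 1) = 1 := by
    intro x hx hx1 hxx
    have hαx : α x = x⁻¹ := eq_inv_of_mul_eq_one_left hxx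
    have hx2 : α x + 1 ≠ 0 := by
      intro h
      rw [hαx] at h
      apply hx1
      field_simp at h
      linear_combination h
    have h1 := hrel x hx hx1 hx2
    have h2 : α x + 1 = (x + 1) * x⁻¹ := by rw [hαx]; field_simp; ring
    have h3 : α x⁻¹ = x := by
      have h4 := hαmul x x⁻¹ hx (inv_ne_zero hx)
      rw [mul_inv_cancel₀ hx, hα1, hαx] at h4
      calc α x⁻¹ = x * (x⁻¹ * α x⁻¹) := by rw [← mul_assoc, mul_inv_cancel₀ hx, one_mul]
        _ = x := by rw [← h4, mul_one]
    rw [h2, hαmul _ _ hx1 (inv_ne_zero hx), h3] at h1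
    linear_combination h1
  -- the additive subgroup
  let P : AddSubgroup E := AddSubgroup.ofSub {x | x = 0 ∨ α x * x = 1} ⟨0, Or.inl rfl⟩ (by
    have hneg : ∀ x, x ≠ 0 → α x * x = 1 → α (-x) * (-x) = 1 := by
      intro x hx h
      have h1 : -x = (-1) * x := by ring
      rw [h1, hαmul _ _ (neg_ne_zero.2 one_ne_zero) hx, hαneg]
      linear_combination h
    have hmul' : ∀ x y, x ≠ 0 → y ≠ 0 → α x * x = 1 → α y * y = 1 → α (x * y) * (x * y) = 1 := by
      intro x y hx hy h1 h2
      rw [hαmul x y hx hy]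
      calc α x * α y * (x * y) = (α x * x) * (α y * y) := by ring
        _ = 1 := by rw [h1, h2, mul_one]
    have hinv' : ∀ x, x ≠ 0 → α x * x = 1 → α x⁻¹ * x⁻¹ = 1 := by
      intro x hx h
      have h4 := hαmul x x⁻¹ hx (inv_ne_zero hx)
      rw [mul_inv_cancel₀ hx, hα1] at h4
      have h5 : α x * x * (α x⁻¹ * x⁻¹) = 1 := by
        have : α x * x * (α x⁻¹ * x⁻¹) = (α x * α x⁻¹) * (x * x⁻¹) := by ring
        rw [this, ← h4, mul_inv_cancel₀ hx, mul_one]
      rwa [h, one_mul] at h5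
    have hadd' : ∀ x y, x ≠ 0 → y ≠ 0 → x + y ≠ 0 → α x * x = 1 → α y * y = 1 →
        α (x + y) * (x + y) = 1 := by
      intro x y hx hy hxy h1 h2
      have h3 : x + y = (x * y⁻¹ + 1) * y := by field_simp
      have h4 : x * y⁻¹ + 1 ≠ 0 := by
        intro h
        rw [h3, h, zero_mul] at hxy
        exact hxy rfl
      rw [h3]
      exact hmul' _ _ h4 hy (key _ (mul_ne_zero hx (inv_ne_zero hy)) h4
        (hmul' _ _ hx (inv_ne_zero hy) h1 (hinv' y hy h2))) h2
    rintro x hx y hy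
    by_cases hx0 : x = 0
    · rcases hy with hy | hy
      · left; rw [hx0, hy]; simp
      · by_cases hy0 : y = 0
        · left; rw [hx0, hy0]; simp
        · right; rw [hx0, zero_add]; exact hneg y hy0 hy
    · by_cases hy0 : y = 0
      · rw [hy0]
        have : x + -0 = x := by simp
        rw [this]; exact hx
      · by_cases hxy : x + -y = 0
        · exact Or.inl hxy
        · exact Or.inr (hadd' x (-y) hx0 (neg_ne_zero.2 hy0) hxy (hx.resolve_left hx0)
            (hneg y hy0 (hy.resolve_left hy0))))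
  have hPmem : ∀ x, x ∈ P ↔ x = 0 ∨ α x * x = 1 := fun x => Iff.rfl
  have hall : ∀ x : E, x ≠ 0 → α x * x = 1 := by
    by_contra hcon
    push Not at hcon
    obtain ⟨y, hy0, hy1⟩ := hcon
    have hP : P ≠ ⊤ := by
      intro h
      have : y ∈ P := by rw [h]; exact AddSubgroup.mem_top y
      rcases (hPmem y).1 this with h | h
      · exact hy0 h
      · exact hy1 h
    have hmone : ∀ x : E, x ≠ 0 → α x * x ≠ 1 → α x * x = -1 := by
      intro x hx h
      have h1 : (α x * x - 1) * (α x * x + 1) = 0 := by linear_combination hαsq x hx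
      rcases mul_eq_zero.1 h1 with h2 | h2
      · exact absurd (sub_eq_zero.1 h2) h
      · exact eq_neg_of_add_eq_zero_left h2
    -- multiplication by `y` maps the complement into `P \ {0}`
    have h1 : (Finset.univ.filter (fun x : E => x ∉ P)).card ≤ ((Finset.univ.filter (fun x : E => x ∈ P)).erase 0).card := by
      apply Finset.card_le_card_of_injOn (fun x => x * y)
      · intro x hx
        rw [Finset.mem_coe, Finset.mem_filter] at hx
        have hx' : ¬ (x = 0 ∨ α x * x = 1) := hx.2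
        push Not at hx'
        rw [Finset.mem_coe, Finset.mem_erase, Finset.mem_filter]
        refine ⟨mul_ne_zero hx'.1 hy0, Finset.mem_univ _, ?_⟩
        refine Or.inr ?_
        have e1 := hmone x hx'.1 hx'.2
        have e2 := hmone y hy0 hy1
        rw [hαmul x y hx'.1 hy0]
        calc α x * α y * (x * y) = (α x * x) * (α y * y) := by ring
          _ = 1 := by rw [e1, e2]; ring
      · intro x _ x' _ h
        exact mul_right_cancel₀ hy0 h
    have h2 : (0 : E) ∈ Finset.univ.filter (fun x : E => x ∈ P) :=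
      Finset.mem_filter.2 ⟨Finset.mem_univ _, P.zero_mem⟩
    rw [Finset.card_erase_of_mem h2] at h1
    have h3 := Finset.card_filter_add_card_filter_not (s := (Finset.univ : Finset E)) (fun x => x ∈ P)
    have h4 : (Finset.univ.filter (fun x : E => x ∈ P)).card = Nat.card P := by
      rw [Nat.card_eq_fintype_card, Fintype.card_subtype]
    have h5 : P.index ≠ 1 := fun h => hP (AddSubgroup.index_eq_one.1 h)
    have h6 := P.index_mul_card
    have h7 : 0 < Nat.card P := Nat.card_pos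
    have h8 : P.index ≠ 0 := AddSubgroup.index_ne_zero_of_finite
    have h9 : 2 * Nat.card P ≤ Nat.card E := by
      rw [← h6]
      exact Nat.mul_le_mul_right _ (by omega)
    rw [h4] at h1 h3
    rw [Finset.card_univ, ← Nat.card_eq_fintype_card] at h3
    omega
  -- conclusion
  apply PGLCoord.pgl_of_lin ι hι K _ _ _ s _ _ 1 one_ne_zero _ _
  · intro y hy
    rw [hinf] at hy
    obtain ⟨k, hk, -⟩ := C.hreg y hy
    exact ⟨k, k.2, by rw [hzero]; exact hk⟩
  · intro k hk
    rw [hinf]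
    refine ⟨C.Ka hk, ?_⟩
    obtain ⟨t, ht⟩ := hτs k hk
    exact ⟨t, fun x => by rw [← ht, hτ]⟩
  · intro h h1 h2
    rw [hinf] at h1
    rw [hzero] at h2
    exact hlin h ⟨h1, h2⟩
  · rw [hinf, hzero, C.hsa]
  · rw [hinf, hzero, C.hsb]
  · intro x hx
    rw [hα x hx, one_div, eq_inv_of_mul_eq_one_left (hall x hx)]
  · rw [ClSLn.card_PGL, ClSL2.card_SL2 rfl, hEc]
    have h1 : Nat.card G = Nat.card (stabilizer G a) * (Nat.card K + 1) := C.card_G
    have h2 := card_stab C.h2 C.hab
    have h3 : Nat.card {x : Ω // x ≠ a} = Nat.card K := by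
      have := Fintype.ofFinite Ω
      rw [Nat.card_eq_fintype_card, Fintype.card_subtype_compl, Fintype.card_subtype_eq]
      rw [Nat.card_eq_fintype_card (α := Ω)] at hcK
      omega
    rw [h1, h2, h3]
    have h4 : Nat.card H = Nat.card K - 1 := by omega
    rw [← hH, h4]
    have h5 : 1 ≤ Nat.card K := Nat.card_pos
    have h6 : Nat.card K ^ 2 - 1 = (Nat.card K - 1) * (Nat.card K + 1) := by
      obtain ⟨k, hk⟩ := Nat.exists_eq_add_of_le h5
      rw [hk]
      have : (1 + k) ^ 2 - 1 = k * (1 + k + 1) := by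
        have : (1 + k) ^ 2 = k * (1 + k + 1) + 1 := by ring
        omega
      rw [this]; congr 1; omega
    rw [h6, mul_assoc]

end Cfsg.Agent.Lib.H1NseC
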