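import Cfsg.Agent.Lib.PNilp
import Cfsg.Agent.Lib.TransferApps
import Cfsg.Agent.Lib.DihRec

/-!
# Restricted `p`-by-cyclic subgroups (helper1)
-/

set_option autoImplicit false
set_option linter.all false

namespace Cfsg.Agent.Lib.H1PByCyc

open Subgroup

universe u

/-- the frozen hypothesis on a group: normal Sylow `p`-subgroup with cyclic quotient -/
def PBC (p : ℕ) (X : Type u) [Group X] : Prop :=
  (∀ S : Sylow p X, (S : Subgroup X).Normal) ∧
    ∀ (S : Sylow p X) [(S : Subgroup X).Normal], IsCyclic (X ⧸ (S : Subgroup X))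

theorem pbc_of_quotient {X : Type u} [Group X] [Finite X] {p : ℕ} [Fact p.Prime] (N : Subgroup X) [N.Normal]
    (hN : IsPGroup p N) [hc : IsCyclic (X ⧸ N)] : PBC p X := by
  have hle : ∀ S : Sylow p X, N ≤ S := fun S => IsPGroup.le_sylow_of_normal hN S
  have hcomm : commutator X ≤ N := by
    rw [← Subgroup.Normal.quotient_commutative_iff_commutator_le]
    exact ⟨⟨fun a b => (IsCyclic.commGroup (α := X ⧸ N)).mul_comm a b⟩⟩
  refine ⟨fun S => Subgroup.Normal.of_commutator_le _ (hcomm.trans (hle S)), fun S _ => ?_⟩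
  refine isCyclic_of_surjective (QuotientGroup.map N (S : Subgroup X) (MonoidHom.id X) (hle S)) ?_
  intro q
  obtain ⟨x, rfl⟩ := QuotientGroup.mk_surjective q
  exact ⟨(x : X ⧸ N), rfl⟩

theorem pbc_sup {G : Type u} [Group G] [Finite G] {p : ℕ} [Fact p.Prime] (S : Subgroup G)
    (hS : IsPGroup p S) {y : G} (hy : y ∈ normalizer (S : Set G)) : PBC p ↥(S ⊔ zpowers y) := by
  set H := S ⊔ zpowers y with hH
  have hSH : S ≤ H := le_sup_left
  have hyH : y ∈ H := (le_sup_right : zpowers y ≤ H) (mem_zpowers y)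
  haveI : (S.subgroupOf H).Normal := by
    rw [normal_subgroupOf_iff_le_normalizer hSH]
    exact sup_le le_normalizer (zpowers_le.2 hy)
  haveI : IsCyclic (H ⧸ S.subgroupOf H) := by
    refine ⟨QuotientGroup.mk ⟨y, hyH⟩, fun q => ?_⟩
    obtain ⟨h, rfl⟩ := QuotientGroup.mk_surjective q
    have h1 : H ≤ ((zpowers (QuotientGroup.mk ⟨y, hyH⟩ : H ⧸ S.subgroupOf H)).comap
        (QuotientGroup.mk' (S.subgroupOf H))).map H.subtype := by
      refine sup_le (a := S) ?_ (zpowers_le.2 ?_)
      · intro s hs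
        refine ⟨⟨s, hSH hs⟩, ?_, rfl⟩
        have : (QuotientGroup.mk' (S.subgroupOf H)) ⟨s, hSH hs⟩ = 1 := by
          rw [QuotientGroup.mk'_apply, QuotientGroup.eq_one_iff]
          exact hs
        rw [SetLike.mem_coe, mem_comap, this]
        exact one_mem _
      · exact ⟨⟨y, hyH⟩, mem_zpowers _, rfl⟩
    obtain ⟨z, hz1, hz2⟩ := h1 h.2
    have : z = h := Subtype.ext hz2
    rw [this] at hz1
    exact hz1
  exact pbc_of_quotient (S.subgroupOf H) (hS.comap_subtype)

/-- a normal Sylow subgroup that is cyclic and central, with cyclic quotient -/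
theorem cyclic_of_central {X : Type u} [Group X] [Finite X] {p : ℕ} [Fact p.Prime] (T : Sylow p X)
    [(T : Subgroup X).Normal] [IsCyclic T] [IsCyclic (X ⧸ (T : Subgroup X))]
    (hc : (T : Subgroup X) ≤ center X) : IsCyclic X := by
  have hcomm : ∀ a b : X, a * b = b * a := by
    intro a b
    exact commutative_of_cyclic_center_quotient (QuotientGroup.mk' (T : Subgroup X))
      (by rw [QuotientGroup.ker_mk']; exact hc) a b
  letI : CommGroup X := { (inferInstance : Group X) with mul_comm := hcomm }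
  haveI : IsCyclic (QuotientGroup.mk' (T : Subgroup X)).ker := by
    rw [QuotientGroup.ker_mk']; infer_instance
  refine Group.isCyclic_of_coprime_card_ker (QuotientGroup.mk' (T : Subgroup X)) ?_
    (QuotientGroup.mk'_surjective _)
  rw [QuotientGroup.ker_mk', ← Subgroup.index_eq_card]
  exact T.card_coprime_index

/-- cyclic normal Sylow subgroup, normal complement, cyclic quotient -/
theorem cyclic_of_npc {X : Type u} [Group X] [Finite X] {p : ℕ} [Fact p.Prime] (T : Sylow p X)
    [(T : Subgroup X).Normal] [IsCyclic T] [IsCyclic (X ⧸ (T : Subgroup X))]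
    (hn : Cfsg.HasNormalPComplement p X) : IsCyclic X := by
  obtain ⟨K, hK, hc⟩ := (PNilp.hasNormalPComplement_iff_sylow T).1 hn
  apply cyclic_of_central T
  have h1 : (T : Subgroup X) ≤ centralizer (K : Set X) := by
    rw [← commutator_eq_bot_iff_le_centralizer, eq_bot_iff]
    refine (commutator_le_inf _ _).trans ?_
    rw [inf_comm, hc.disjoint.eq_bot]
  have h2 : (T : Subgroup X) ≤ centralizer ((T : Subgroup X) : Set X) := by
    haveI : IsMulCommutative (T : Subgroup X) := inferInstance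
    exact le_centralizer _
  intro t ht
  rw [mem_center_iff]
  intro g
  have hg : g ∈ K ⊔ (T : Subgroup X) := by rw [hc.sup_eq_top]; trivial
  have h3 : K ⊔ (T : Subgroup X) ≤ centralizer ({t} : Set X) := by
    refine sup_le ?_ ?_
    · intro k hk
      rw [mem_centralizer_singleton_iff]
      exact (mem_centralizer_iff.1 (h1 ht)) k hk
    · intro k hk
      rw [mem_centralizer_singleton_iff]
      exact (mem_centralizer_iff.1 (h2 ht)) k hk
  have h4 := h3 hg
  rw [mem_centralizer_singleton_iff] at h4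
  exact h4

/-- `R(G)` for odd `p`: elements normalizing a `p`-subgroup centralize it or are inverting involutions -/
theorem key {G : Type u} [Group G] [Finite G] {p : ℕ} [hpp : Fact p.Prime] (hp : p ≠ 2)
    (hR : ∀ H : Subgroup G, PBC p ↥H → IsCyclic H ∨ (∃ n : ℕ, Nonempty (H ≃* DihedralGroup (p ^ n))))
    (S : Subgroup G) (hS : IsPGroup p S) {y : G} (hy : y ∈ normalizer (S : Set G)) :
    y ∈ centralizer (S : Set G) ∨ (orderOf y = 2 ∧ ∀ s ∈ S, y * s * y⁻¹ = s⁻¹) := by
  set H := S ⊔ zpowers y with hH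
  have hSH : S ≤ H := le_sup_left
  have hyH : y ∈ H := (le_sup_right : zpowers y ≤ H) (mem_zpowers y)
  rcases hR H (pbc_sup S hS hy) with hc | ⟨n, ⟨e⟩⟩
  · left
    rw [mem_centralizer_iff]
    intro s hs
    have := (IsCyclic.commGroup (α := H)).mul_comm ⟨s, hSH hs⟩ ⟨y, hyH⟩
    exact congrArg Subtype.val this
  · have hs : ∀ s (hs : s ∈ S), ∃ i, e ⟨s, hSH hs⟩ = DihedralGroup.r i := by
      intro s hs
      rcases h : e ⟨s, hSH hs⟩ with i | i
      · exact ⟨i, rfl⟩
      · exfalso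
        have h1 : orderOf s = 2 := by
          have h2 : orderOf (e ⟨s, hSH hs⟩) = orderOf (⟨s, hSH hs⟩ : H) := MulEquiv.orderOf_eq e _
          rw [h, DihedralGroup.orderOf_sr, Subgroup.orderOf_mk] at h2
          exact h2.symm
        obtain ⟨k, hk⟩ := (IsPGroup.iff_orderOf.1 hS) ⟨s, hs⟩
        rw [Subgroup.orderOf_mk, h1] at hk
        have h3 : 2 ∣ p ^ k := Dvd.intro_left 1 (by rw [one_mul]; exact hk)
        exact hp ((Nat.prime_dvd_prime_iff_eq Nat.prime_two hpp.out).1 (Nat.prime_two.dvd_of_dvd_pow h3)).symm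
    rcases h : e ⟨y, hyH⟩ with j | j
    · left
      rw [mem_centralizer_iff]
      intro s hss
      obtain ⟨i, hi⟩ := hs s hss
      have h1 : (⟨s, hSH hss⟩ : H) * ⟨y, hyH⟩ = ⟨y, hyH⟩ * ⟨s, hSH hss⟩ := by
        apply e.injective
        rw [map_mul, map_mul, hi, h, DihedralGroup.r_mul_r, DihedralGroup.r_mul_r, add_comm]
      exact congrArg Subtype.val h1
    · right
      refine ⟨?_, ?_⟩
      · have h2 : orderOf (e ⟨y, hyH⟩) = orderOf (⟨y, hyH⟩ : H) := MulEquiv.orderOf_eq e _
        rw [h, DihedralGroup.orderOf_sr, Subgroup.orderOf_mk] at h2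
        exact h2.symm
      · intro s hss
        obtain ⟨i, hi⟩ := hs s hss
        have h1 : (⟨y, hyH⟩ : H) * ⟨s, hSH hss⟩ * (⟨y, hyH⟩ : H)⁻¹ = (⟨s, hSH hss⟩ : H)⁻¹ := by
          apply e.injective
          rw [map_mul, map_mul, map_inv, map_inv, hi, h, DihedralGroup.sr_mul_r]
          show DihedralGroup.sr (j + i) * DihedralGroup.sr j = _
          rw [DihedralGroup.sr_mul_sr]
          show _ = DihedralGroup.r (-i)
          congr 1
          ring
        exact congrArg Subtype.val h1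

theorem pbc_pgroup {X : Type u} [Group X] [Finite X] {p : ℕ} [Fact p.Prime] (hX : IsPGroup p X) :
    PBC p X := by
  haveI : Subsingleton (X ⧸ (⊤ : Subgroup X)) := QuotientGroup.subsingleton_quotient_top
  haveI : IsCyclic (X ⧸ (⊤ : Subgroup X)) := isCyclic_of_subsingleton
  exact pbc_of_quotient ⊤ (hX.to_subgroup ⊤)

def Cond {G : Type u} [Group G] (Q : Subgroup G) : Prop :=
  IsMulCommutative ↥(Subgroup.centralizer (Q : Set G)) ∧
    ∀ x : G, x ∈ Subgroup.normalizer (Q : Set G) → x ∉ Subgroup.centralizer (Q : Set G) →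
      orderOf x = 2 ∧ ∀ c : G, c ∈ Subgroup.centralizer (Q : Set G) → x * c * x⁻¹ = c⁻¹

theorem forward {G : Type u} [Group G] [Finite G] {p : ℕ} [hpp : Fact p.Prime] (hp : p ≠ 2) (P : Sylow p G)
    (hR : ∀ H : Subgroup G, PBC p ↥H → IsCyclic H ∨ (∃ n : ℕ, Nonempty (H ≃* DihedralGroup (p ^ n)))) :
    IsCyclic P ∧
      (normalizer ((P : Subgroup G) : Set G) = centralizer ((P : Subgroup G) : Set G) ∨
       ((centralizer ((P : Subgroup G) : Set G)).relIndex (normalizer ((P : Subgroup G) : Set G)) = 2 ∧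
        ∀ Q : Subgroup G, Q ≤ P → Nat.card Q = p → Cond Q)) := by
  have hodd : ∀ (x : G) (Q : Subgroup G), IsPGroup p Q → x ∈ Q → x * x = 1 → x = 1 := by
    intro x Q hQ hx hxx
    obtain ⟨k, hk⟩ := (IsPGroup.iff_orderOf.1 hQ) ⟨x, hx⟩
    rw [Subgroup.orderOf_mk] at hk
    have h1 : orderOf x ∣ 2 := orderOf_dvd_of_pow_eq_one (by rw [pow_two, hxx])
    rw [Nat.dvd_prime Nat.prime_two] at h1
    rcases h1 with h1 | h1
    · exact orderOf_eq_one_iff.1 h1
    · exfalso
      have h3 : 2 ∣ p ^ k := by rw [← hk, h1]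
      exact hp ((Nat.prime_dvd_prime_iff_eq Nat.prime_two hpp.out).1 (Nat.prime_two.dvd_of_dvd_pow h3)).symm
  have hcyc : IsCyclic P := by
    rcases hR (P : Subgroup G) (pbc_pgroup P.2) with h | ⟨n, ⟨e⟩⟩
    · exact h
    · exfalso
      obtain ⟨k, hk⟩ := IsPGroup.iff_card.mp P.isPGroup'
      have h1 : Nat.card (P : Subgroup G) = 2 * p ^ n := by
        rw [Nat.card_congr e.toEquiv, DihedralGroup.nat_card]
      rw [hk] at h1
      have h3 : 2 ∣ p ^ k := Dvd.intro _ h1.symm
      exact hp ((Nat.prime_dvd_prime_iff_eq Nat.prime_two hpp.out).1 (Nat.prime_two.dvd_of_dvd_pow h3)).symm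
  refine ⟨hcyc, ?_⟩
  by_cases hNC : normalizer ((P : Subgroup G) : Set G) ≤ centralizer ((P : Subgroup G) : Set G)
  · left
    exact le_antisymm hNC (centralizer_le_normalizer _)
  right
  obtain ⟨x, hxN, hxC⟩ := SetLike.not_le_iff_exists.1 hNC
  have hinv : ∀ y ∈ normalizer ((P : Subgroup G) : Set G), y ∉ centralizer ((P : Subgroup G) : Set G) →
      ∀ s ∈ (P : Subgroup G), y * s * y⁻¹ = s⁻¹ := by
    intro y hyN hyC
    exact ((key hp hR P P.2 hyN).resolve_left hyC).2
  refine ⟨?_, ?_⟩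
  · rw [relIndex_eq_two_iff]
    refine ⟨x, hxN, fun b hb => ?_⟩
    by_cases hbC : b ∈ centralizer ((P : Subgroup G) : Set G)
    · right
      refine ⟨hbC, fun h => hxC ?_⟩
      exact (mul_mem_cancel_left hbC).1 h
    · left
      refine ⟨?_, hbC⟩
      rw [mem_centralizer_iff]
      intro s hs
      have h1 := hinv x hxN hxC s hs
      have h2 := hinv b hb hbC s⁻¹ (inv_mem hs)
      rw [inv_inv] at h2
      have h3 : b * x * s * (b * x)⁻¹ = s := by
        calc b * x * s * (b * x)⁻¹ = b * (x * s * x⁻¹) * b⁻¹ := by group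
          _ = s := by rw [h1, h2]
      calc s * (b * x) = (b * x * s * (b * x)⁻¹) * (b * x) := by rw [h3]
        _ = b * x * s := by group
  · intro Q hQP hQc
    have hQ : IsPGroup p Q := P.2.to_le hQP
    have hxQ : x ∈ normalizer (Q : Set G) := by
      have hle : ∀ q ∈ Q, x * q * x⁻¹ ∈ Q := fun q hq => by
        rw [hinv x hxN hxC q (hQP hq)]; exact inv_mem hq
      rw [mem_normalizer_iff]
      intro q
      refine ⟨hle q, fun h => ?_⟩
      have h1 := hinv x hxN hxC _ (hQP h)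
      have h2 : x * q * x⁻¹ ∈ (P : Subgroup G) := hQP h
      have h3 : q ∈ (P : Subgroup G) := (mem_normalizer_iff.1 hxN q).2 h2
      have h4 := hinv x hxN hxC q h3
      rw [h4] at h
      exact inv_mem_iff.1 h
    have hQ1 : ∃ q ∈ Q, q ≠ 1 := by
      by_contra hno
      push Not at hno
      have : Q = ⊥ := by
        rw [eq_bot_iff]
        intro q hq
        exact mem_bot.2 (hno q hq)
      rw [this, card_bot] at hQc
      exact hpp.out.one_lt.ne hQc
    have hxQC : x ∉ centralizer (Q : Set G) := by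
      intro h
      obtain ⟨q, hq, hq1⟩ := hQ1
      apply hq1
      apply hodd q Q hQ hq
      have h1 := hinv x hxN hxC q (hQP hq)
      have h2 : q * x = x * q := (mem_centralizer_iff.1 h) q hq
      rw [← h2, mul_inv_cancel_right] at h1
      nth_rewrite 2 [h1]
      exact mul_inv_cancel q
    have hall : ∀ y ∈ normalizer (Q : Set G), y ∉ centralizer (Q : Set G) →
        orderOf y = 2 ∧ ∀ c ∈ centralizer (Q : Set G), y * c * y⁻¹ = c⁻¹ := by
      intro y hyN hyC
      have h1 := ((key hp hR Q hQ hyN).resolve_left hyC).1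
      refine ⟨h1, fun c hc => ?_⟩
      have h2 : y * c ∈ normalizer (Q : Set G) := mul_mem hyN (centralizer_le_normalizer _ hc)
      have h3 : y * c ∉ centralizer (Q : Set G) := fun h => hyC ((mul_mem_cancel_right hc).1 h)
      have h4 := ((key hp hR Q hQ h2).resolve_left h3).1
      have h5 : y ^ 2 = 1 := by rw [← h1, pow_orderOf_eq_one]
      have h6 : (y * c) ^ 2 = 1 := by rw [← h4, pow_orderOf_eq_one]
      rw [pow_two] at h5 h6
      have h7 : y⁻¹ = y := inv_eq_of_mul_eq_one_left h5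
      rw [h7]
      refine eq_inv_of_mul_eq_one_left ?_
      rw [← h6]; group
    refine ⟨?_, hall⟩
    have hi := (hall x hxQ hxQC).2
    refine ⟨⟨?_⟩⟩
    rintro ⟨a, ha⟩ ⟨b, hb⟩
    apply Subtype.ext
    show a * b = b * a
    have h1 := hi a ha
    have h2 := hi b hb
    have h3 := hi (b * a) (mul_mem hb ha)
    have h4 : x * (b * a) * x⁻¹ = (x * b * x⁻¹) * (x * a * x⁻¹) := by group
    rw [h3, h1, h2, mul_inv_rev] at h4
    calc a * b = (b⁻¹ * a⁻¹)⁻¹ := by group
      _ = (a⁻¹ * b⁻¹)⁻¹ := by rw [h4]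
      _ = b * a := by group

theorem mem_centralizer_conj {G : Type u} [Group G] (Q : Subgroup G) (g x : G) :
    x ∈ centralizer ((Q.map (MulAut.conj g).toMonoidHom : Subgroup G) : Set G) ↔
      g⁻¹ * x * g ∈ centralizer (Q : Set G) := by
  rw [mem_centralizer_iff, mem_centralizer_iff]
  constructor
  · intro h q hq
    have h1 := h (g * q * g⁻¹) ⟨q, hq, rfl⟩
    calc q * (g⁻¹ * x * g) = g⁻¹ * ((g * q * g⁻¹) * x) * g := by group
      _ = g⁻¹ * (x * (g * q * g⁻¹)) * g := by rw [h1]
      _ = g⁻¹ * x * g * q := by group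
  · rintro h _ ⟨q, hq, rfl⟩
    have h1 := h q hq
    show g * q * g⁻¹ * x = x * (g * q * g⁻¹)
    calc g * q * g⁻¹ * x = g * (q * (g⁻¹ * x * g)) * g⁻¹ := by group
      _ = g * (g⁻¹ * x * g * q) * g⁻¹ := by rw [h1]
      _ = x * (g * q * g⁻¹) := by group

theorem mem_normalizer_conj {G : Type u} [Group G] (Q : Subgroup G) (g x : G) :
    x ∈ normalizer ((Q.map (MulAut.conj g).toMonoidHom : Subgroup G) : Set G) ↔
      g⁻¹ * x * g ∈ normalizer (Q : Set G) := by
  have hm : ∀ y : G, y ∈ Q.map (MulAut.conj g).toMonoidHom ↔ g⁻¹ * y * g ∈ Q := by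
    intro y
    constructor
    · rintro ⟨q, hq, rfl⟩
      show g⁻¹ * (g * q * g⁻¹) * g ∈ Q
      have : g⁻¹ * (g * q * g⁻¹) * g = q := by group
      rw [this]; exact hq
    · intro h
      refine ⟨_, h, ?_⟩
      show g * (g⁻¹ * y * g) * g⁻¹ = y
      group
  rw [mem_normalizer_iff, mem_normalizer_iff]
  constructor
  · intro h q
    have h1 := h (g * q * g⁻¹)
    rw [hm, hm] at h1
    have e1 : g⁻¹ * (g * q * g⁻¹) * g = q := by group
    have e2 : g⁻¹ * (x * (g * q * g⁻¹) * x⁻¹) * g = g⁻¹ * x * g * q * (g⁻¹ * x * g)⁻¹ := by group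
    rwa [e1, e2] at h1
  · intro h q
    have h1 := h (g⁻¹ * q * g)
    rw [hm, hm]
    have e2 : g⁻¹ * (x * q * x⁻¹) * g = g⁻¹ * x * g * (g⁻¹ * q * g) * (g⁻¹ * x * g)⁻¹ := by group
    rwa [e2]

theorem Cond.of_conj {G : Type u} [Group G] (Q : Subgroup G) (g : G)
    (h : Cond (Q.map (MulAut.conj g).toMonoidHom)) : Cond Q := by
  obtain ⟨h1, h2⟩ := h
  have hback : ∀ x : G, g⁻¹ * (g * x * g⁻¹) * g = x := fun x => by group
  constructor
  · refine ⟨⟨?_⟩⟩
    rintro ⟨a, ha⟩ ⟨b, hb⟩
    apply Subtype.ext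
    show a * b = b * a
    have ha' : g * a * g⁻¹ ∈ centralizer ((Q.map (MulAut.conj g).toMonoidHom : Subgroup G) : Set G) := by
      rw [mem_centralizer_conj, hback]; exact ha
    have hb' : g * b * g⁻¹ ∈ centralizer ((Q.map (MulAut.conj g).toMonoidHom : Subgroup G) : Set G) := by
      rw [mem_centralizer_conj, hback]; exact hb
    have h3 := congrArg Subtype.val (h1.is_comm.comm ⟨_, ha'⟩ ⟨_, hb'⟩)
    have h4 : (g * a * g⁻¹) * (g * b * g⁻¹) = (g * b * g⁻¹) * (g * a * g⁻¹) := h3
    calc a * b = g⁻¹ * ((g * a * g⁻¹) * (g * b * g⁻¹)) * g := by group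
      _ = g⁻¹ * ((g * b * g⁻¹) * (g * a * g⁻¹)) * g := by rw [h4]
      _ = b * a := by group
  · intro x hx hxc
    have hx' : g * x * g⁻¹ ∈ normalizer ((Q.map (MulAut.conj g).toMonoidHom : Subgroup G) : Set G) := by
      rw [mem_normalizer_conj, hback]; exact hx
    have hxc' : g * x * g⁻¹ ∉ centralizer ((Q.map (MulAut.conj g).toMonoidHom : Subgroup G) : Set G) := by
      rw [mem_centralizer_conj, hback]; exact hxc
    obtain ⟨h3, h4⟩ := h2 _ hx' hxc'
    refine ⟨?_, fun c hc => ?_⟩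
    · rw [← h3]
      exact (MulEquiv.orderOf_eq (MulAut.conj g) x).symm
    · have hc' : g * c * g⁻¹ ∈ centralizer ((Q.map (MulAut.conj g).toMonoidHom : Subgroup G) : Set G) := by
        rw [mem_centralizer_conj, hback]; exact hc
      have h5 := h4 _ hc'
      calc x * c * x⁻¹ = g⁻¹ * ((g * x * g⁻¹) * (g * c * g⁻¹) * (g * x * g⁻¹)⁻¹) * g := by group
        _ = g⁻¹ * (g * c * g⁻¹)⁻¹ * g := by rw [h5]
        _ = c⁻¹ := by group

theorem backward {G : Type u} [Group G] [Finite G] {p : ℕ} [hpp : Fact p.Prime] (P : Sylow p G)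
    (hP : IsCyclic P)
    (hc : normalizer ((P : Subgroup G) : Set G) = centralizer ((P : Subgroup G) : Set G) ∨
        ∀ Q : Subgroup G, Q ≤ P → Nat.card Q = p → Cond Q)
    (H : Subgroup G) (hH : PBC p ↥H) : IsCyclic H ∨ (∃ n : ℕ, Nonempty (H ≃* DihedralGroup (p ^ n))) := by
  obtain ⟨hn, hq⟩ := hH
  obtain ⟨T⟩ : Nonempty (Sylow p H) := inferInstance
  haveI := hn T
  haveI := hq T
  -- `T` is conjugate into `P`
  have hS : IsPGroup p ((T : Subgroup H).map H.subtype) := T.2.map _
  obtain ⟨P', hP'⟩ := hS.exists_le_sylow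
  obtain ⟨g, hg⟩ := MulAction.exists_smul_eq G P' P
  have hgP : ∀ t ∈ (T : Subgroup H), g * (t : G) * g⁻¹ ∈ (P : Subgroup G) := by
    intro t ht
    rw [← hg, Sylow.coe_subgroup_smul]
    exact Subgroup.smul_mem_pointwise_smul _ _ _ (hP' ⟨t, ht, rfl⟩)
  haveI hTc : IsCyclic T := by
    let f : (T : Subgroup H) →* (P : Subgroup G) :=
      { toFun := fun t => ⟨g * (t : G) * g⁻¹, hgP t t.2⟩
        map_one' := by ext; simp
        map_mul' := fun a b => by ext; simp [mul_assoc] }
    haveI : IsCyclic (P : Subgroup G) := hP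
    refine isCyclic_of_injective f ?_
    intro a b hab
    have h1 : g * (a : G) * g⁻¹ = g * (b : G) * g⁻¹ := congrArg Subtype.val hab
    have h2 : ((a : H) : G) = b := mul_left_cancel (mul_right_cancel h1)
    exact Subtype.ext (Subtype.ext h2)
  rcases hc with hc | hc
  · left
    have h1 := TransferApps.hasNormalPComplement_of_normalizer_le_centralizer P hc.le
    exact cyclic_of_npc T (PNilp.HasNormalPComplement.subgroup h1 H)
  by_cases hT1 : (T : Subgroup H) = ⊥
  · left
    apply cyclic_of_central T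
    rw [hT1]; exact bot_le
  -- the subgroup of order `p`
  have hpT : p ∣ Nat.card (T : Subgroup H) := by
    have hTp : IsPGroup p (T : Subgroup H) := T.2
    rcases hTp.card_eq_or_dvd with h | h
    · exact absurd (Subgroup.card_eq_one.mp h) hT1
    · exact h
  obtain ⟨z, hz⟩ := exists_prime_orderOf_dvd_card' p hpT
  have hzo : orderOf (((z : H) : G)) = p := by
    rw [Subgroup.orderOf_coe, Subgroup.orderOf_coe, hz]
  set z' : G := ((z : H) : G) with hz'
  set Q : Subgroup G := zpowers z' with hQ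
  have hCond : Cond Q := by
    apply Cond.of_conj Q g
    apply hc
    · rw [hQ, MonoidHom.map_zpowers, zpowers_le]
      exact hgP z z.2
    · rw [card_map_of_injective (MulAut.conj g).injective, hQ, Nat.card_zpowers, hzo]
  -- `H` normalizes `Q`
  have hHQ : ∀ h : H, (h : G) ∈ normalizer (Q : Set G) := by
    intro h
    have h1 : ∀ h : H, h * (z : H) * h⁻¹ ∈ zpowers (z : H) := by
      intro h
      have h2 : h * (z : H) * h⁻¹ ∈ (T : Subgroup H) := (hn T).conj_mem _ z.2 h
      have h3 : zpowers (⟨h * (z : H) * h⁻¹, h2⟩ : (T : Subgroup H)) = zpowers z := by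
        apply TransferApps.cyclic_subgroup_eq_of_card
        rw [Nat.card_zpowers, Nat.card_zpowers, Subgroup.orderOf_mk, hz]
        have : orderOf (h * (z : H) * h⁻¹) = orderOf (z : H) := MulEquiv.orderOf_eq (MulAut.conj h) _
        rw [this, Subgroup.orderOf_coe, hz]
      have h4 : (⟨h * (z : H) * h⁻¹, h2⟩ : (T : Subgroup H)) ∈ zpowers z := h3 ▸ mem_zpowers _
      obtain ⟨k, hk⟩ := mem_zpowers_iff.1 h4
      refine mem_zpowers_iff.2 ⟨k, ?_⟩
      have := congrArg Subtype.val hk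
      simpa using this
    have h5 : ∀ h : H, ∀ q ∈ Q, (h : G) * q * (h : G)⁻¹ ∈ Q := by
      intro h q hq
      obtain ⟨k, rfl⟩ := mem_zpowers_iff.1 hq
      obtain ⟨m, hm⟩ := mem_zpowers_iff.1 (h1 h)
      have h6 : z' ^ m = (h : G) * z' * (h : G)⁻¹ := by
        have := congrArg Subtype.val hm
        simpa using this
      have h7 : (h : G) * z' ^ k * (h : G)⁻¹ = ((h : G) * z' * (h : G)⁻¹) ^ k := (conj_zpow).symm
      rw [h7, ← h6]
      exact zpow_mem (zpow_mem (mem_zpowers _) _) _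
    rw [mem_normalizer_iff]
    intro q
    refine ⟨h5 h q, fun hq => ?_⟩
    have h8 := h5 h⁻¹ _ hq
    simpa [mul_assoc] using h8
  obtain ⟨hCab, hCinv⟩ := hCond
  have hTQ : ∀ t ∈ (T : Subgroup H), (t : G) ∈ centralizer (Q : Set G) := by
    intro t ht
    rw [mem_centralizer_iff]
    intro q hq
    obtain ⟨k, rfl⟩ := mem_zpowers_iff.1 hq
    have h1 : (z : (T : Subgroup H)) * ⟨t, ht⟩ = ⟨t, ht⟩ * z :=
      (IsCyclic.commGroup (α := (T : Subgroup H))).mul_comm _ _
    have h2 : Commute z' (t : G) := by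
      have := congrArg (fun x : (T : Subgroup H) => ((x : H) : G)) h1
      exact this
    exact h2.zpow_left k
  obtain ⟨y, hy⟩ : ∃ y : H, ∀ h : H, ∃ k : ℤ, (y ^ k)⁻¹ * h ∈ (T : Subgroup H) := by
    obtain ⟨c, hcg⟩ := IsCyclic.exists_generator (α := H ⧸ (T : Subgroup H))
    obtain ⟨y, rfl⟩ := QuotientGroup.mk_surjective c
    refine ⟨y, fun h => ?_⟩
    obtain ⟨k, hk⟩ := mem_zpowers_iff.1 (hcg h)
    refine ⟨k, ?_⟩
    rw [← QuotientGroup.eq, QuotientGroup.mk_zpow, hk]
  by_cases hyC : (y : G) ∈ centralizer (Q : Set G)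
  · left
    apply cyclic_of_central T
    intro t ht
    rw [mem_center_iff]
    intro h
    obtain ⟨k, hk⟩ := hy h
    have h1 : Commute (t : G) (y : G) :=
      congrArg Subtype.val (hCab.is_comm.comm ⟨_, hTQ t ht⟩ ⟨_, hyC⟩)
    have h2 : Commute (t : G) (((y ^ k)⁻¹ * h : H) : G) :=
      congrArg Subtype.val (hCab.is_comm.comm ⟨_, hTQ t ht⟩ ⟨_, hTQ _ hk⟩)
    have h3 : Commute (t : G) ((y : G) ^ k * (((y ^ k)⁻¹ * h : H) : G)) := (h1.zpow_right k).mul_right h2
    apply Subtype.ext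
    have h4 : (y : G) ^ k * (((y ^ k)⁻¹ * h : H) : G) = (h : G) := by
      push_cast
      group
    rw [h4] at h3
    exact h3.symm
  · right
    obtain ⟨hy2, hyi⟩ := hCinv _ (hHQ y) hyC
    obtain ⟨n, hcn⟩ := IsPGroup.iff_card.mp T.2
    refine ⟨n, ?_⟩
    rw [← hcn]
    have hyy : y * y = 1 := by
      apply Subtype.ext
      have := pow_orderOf_eq_one (y : G)
      rw [hy2, pow_two] at this
      exact this
    have hdec : ∀ h : H, h ∈ (T : Subgroup H) ∨ y * h ∈ (T : Subgroup H) := by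
      intro h
      obtain ⟨k, hk⟩ := hy h
      have hyinv : y⁻¹ = y := inv_eq_of_mul_eq_one_left hyy
      rcases Int.even_or_odd k with ⟨m, hm⟩ | ⟨m, hm⟩
      · left
        have : y ^ k = 1 := by
          rw [hm, zpow_add, ← (Commute.refl y).mul_zpow, hyy, one_zpow]
        rwa [this, inv_one, one_mul] at hk
      · right
        have : y ^ k = y := by
          rw [hm, zpow_add, zpow_mul, zpow_one, zpow_ofNat, pow_two, hyy, one_zpow, one_mul]
        rwa [this, hyinv] at hk
    have hyT : y ∉ (T : Subgroup H) := fun h => hyC (hTQ y h)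
    refine DihRec.dihedral_of_cyclic (T : Subgroup H) hTc ?_ ?_
    · rw [index_eq_two_iff']
      refine ⟨y, fun b => ?_⟩
      by_cases hb : b ∈ (T : Subgroup H)
      · right
        exact ⟨hb, fun h => hyT ((mul_mem_cancel_right hb).1 h)⟩
      · left
        exact ⟨(hdec b).resolve_left hb, hb⟩
    · intro t ht
      have h1 := (hdec t).resolve_left ht
      have h2 := hyi _ (hTQ _ h1)
      apply Subtype.ext
      have h3 : (y : G)⁻¹ = y := inv_eq_of_mul_eq_one_left (congrArg Subtype.val hyy)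
      push_cast at h2 ⊢
      rw [mul_inv_rev, h3] at h2
      have h4 : (t : G) * (y : G) = (t : G)⁻¹ * (y : G) := by
        rw [← h2, ← mul_assoc (y : G) (y : G), congrArg Subtype.val hyy |> (fun h : (y : G) * y = 1 => h), one_mul]
      have h5 : (t : G) = (t : G)⁻¹ := mul_right_cancel h4
      nth_rewrite 2 [h5]
      exact mul_inv_cancel _

end Cfsg.Agent.Lib.H1PByCyc
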