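import Cfsg.Agent.Lib.H1PByCyc
import Cfsg.Agent.Lib.AutTwoGroup
import Cfsg.Agent.Lib.KleinAut
import Cfsg.Agent.S0228

/-!
# Restricted `2`-by-cyclic subgroups (helper1)
-/

set_option autoImplicit false
set_option linter.all false

namespace Cfsg.Agent.Lib.H1PByCyc

open Subgroup

universe u

/-- four-group generated by two commuting involutions -/
def fourSub {G : Type u} [Group G] (a b : G) (ha : a * a = 1) (hb : b * b = 1) (hab : a * b = b * a) :
    Subgroup G where
  carrier := {1, a, b, a * b}
  one_mem' := by simp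
  mul_mem' := by
    have h1 : a * (b * a) = b := by rw [← hab, ← mul_assoc, ha, one_mul]
    have h2 : b * (a * b) = a := by rw [hab, ← mul_assoc, hb, one_mul]
    have h3 : a * (a * b) = b := by rw [← mul_assoc, ha, one_mul]
    have h4 : a * b * a = b := by rw [mul_assoc, h1]
    have h5 : a * b * b = a := by rw [mul_assoc, hb, mul_one]
    have h6 : a * b * (a * b) = 1 := by rw [mul_assoc, h2, ha]
    rintro x y (rfl | rfl | rfl | rfl) (rfl | rfl | rfl | rfl) <;>
      simp [ha, hb, h1, h2, h3, h4, h5, h6, ← hab]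
  inv_mem' := by
    have h1 : a⁻¹ = a := inv_eq_of_mul_eq_one_left ha
    have h2 : b⁻¹ = b := inv_eq_of_mul_eq_one_left hb
    rintro x (rfl | rfl | rfl | rfl) <;> simp [h1, h2, ← hab]

theorem mem_fourSub {G : Type u} [Group G] {a b : G} {ha : a * a = 1} {hb : b * b = 1} {hab : a * b = b * a}
    {x : G} : x ∈ fourSub a b ha hb hab ↔ x = 1 ∨ x = a ∨ x = b ∨ x = a * b := Iff.rfl

theorem card_fourSub {G : Type u} [Group G] {a b : G} {ha : a * a = 1} {hb : b * b = 1} {hab : a * b = b * a}
    (ha1 : a ≠ 1) (hb1 : b ≠ 1) (hne : a ≠ b) : Nat.card (fourSub a b ha hb hab) = 4 := by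
  classical
  have h1 : a * b ≠ 1 := by
    intro h
    apply hne
    rw [← mul_one a, ← hb, ← mul_assoc, h, one_mul]
  have h2 : Nat.card (fourSub a b ha hb hab) = Set.ncard ({1, a, b, a * b} : Set G) := rfl
  rw [h2, Set.ncard_insert_of_notMem, Set.ncard_insert_of_notMem, Set.ncard_pair]
  · intro h
    exact ha1 (mul_eq_right.1 h.symm)
  · rintro (h | h)
    · exact hne h
    · exact hb1 (mul_eq_left.1 h.symm)
  · rintro (h | h | h)
    · exact ha1 h.symm
    · exact hb1 h.symm
    · exact h1 h.symm

theorem sq_fourSub {G : Type u} [Group G] {a b : G} {ha : a * a = 1} {hb : b * b = 1} {hab : a * b = b * a}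
    {x : G} (hx : x ∈ fourSub a b ha hb hab) : x ^ 2 = 1 := by
  rw [pow_two]
  rcases mem_fourSub.1 hx with rfl | rfl | rfl | rfl
  · simp
  · exact ha
  · exact hb
  · rw [mul_assoc, ← mul_assoc b, ← hab, mul_assoc a b b, hb, mul_one, ha]

theorem forward2 {G : Type u} [Group G] [Finite G] (P : Sylow 2 G)
    (hR : ∀ H : Subgroup G, PBC 2 ↥H → IsCyclic H ∨ (∃ n : ℕ, Nonempty (H ≃* DihedralGroup (2 ^ n))) ∨
      Nonempty (H ≃* alternatingGroup (Fin 4))) :
    IsCyclic P ∨
      ((∃ n : ℕ, 1 ≤ n ∧ Nonempty ((P : Subgroup G) ≃* DihedralGroup (2 ^ n))) ∧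
        ∀ K : Subgroup G, K ≤ P → Nat.card K = 4 → (∀ k ∈ K, k ^ 2 = 1) → centralizer (K : Set G) = K) := by
  have hA4 : Nat.card (alternatingGroup (Fin 4)) = 12 := by
    rw [Nat.card_eq_fintype_card]; rfl
  by_cases hc : IsCyclic P
  · exact Or.inl hc
  right
  refine ⟨?_, ?_⟩
  · rcases hR (P : Subgroup G) (pbc_pgroup P.2) with h | ⟨n, ⟨e⟩⟩ | ⟨⟨e⟩⟩
    · exact absurd h hc
    · refine ⟨n, ?_, ⟨e⟩⟩
      by_contra hn
      have hn0 : n = 0 := by omega
      subst hn0
      apply hc
      have : Nat.card (P : Subgroup G) = 2 := by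
        rw [Nat.card_congr e.toEquiv, DihedralGroup.nat_card]; norm_num
      exact isCyclic_of_prime_card this
    · exfalso
      obtain ⟨k, hk⟩ := IsPGroup.iff_card.mp P.isPGroup'
      have h1 : Nat.card (P : Subgroup G) = 12 := by
        rw [Nat.card_congr e.toEquiv, hA4]
      rw [hk] at h1
      have h3 : 3 ∣ 2 ^ k := by rw [h1]; norm_num
      have := Nat.prime_three.dvd_of_dvd_pow h3
      omega
  · intro K hKP hK4 hK2
    have hKcomm : ∀ a ∈ K, ∀ b ∈ K, a * b = b * a := by
      intro a ha b hb
      have h1 := hK2 a ha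
      have h2 := hK2 b hb
      have h3 := hK2 _ (mul_mem ha hb)
      rw [pow_two] at h1 h2 h3
      have e1 : a⁻¹ = a := inv_eq_of_mul_eq_one_left h1
      have e2 : b⁻¹ = b := inv_eq_of_mul_eq_one_left h2
      have e3 : (a * b)⁻¹ = a * b := inv_eq_of_mul_eq_one_left h3
      rw [mul_inv_rev, e1, e2] at e3
      exact e3.symm
    have hKnc : ¬ IsCyclic K := by
      intro h
      obtain ⟨g, hg⟩ := h.exists_generator
      have h1 : orderOf g = 4 := by rw [orderOf_eq_card_of_forall_mem_zpowers hg, hK4]
      have h2 : orderOf g ∣ 2 := orderOf_dvd_of_pow_eq_one (Subtype.ext (hK2 _ g.2))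
      rw [h1] at h2
      exact absurd (Nat.le_of_dvd (by norm_num) h2) (by norm_num)
    apply le_antisymm
    · intro y hy
      have hyN : y ∈ normalizer (K : Set G) := centralizer_le_normalizer _ hy
      set H := K ⊔ zpowers y with hH
      have hKH : K ≤ H := le_sup_left
      have hyH : y ∈ H := (le_sup_right : zpowers y ≤ H) (mem_zpowers y)
      have hcomm : ∀ a b : H, a * b = b * a := by
        have hle : H ≤ centralizer (H : Set G) := by
          have hKC : K ≤ centralizer (H : Set G) := by
            rw [← le_centralizer_iff]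
            refine sup_le ?_ (zpowers_le.2 hy)
            intro a ha
            rw [mem_centralizer_iff]
            intro b hb
            exact hKcomm b hb a ha
          refine sup_le hKC (zpowers_le.2 ?_)
          rw [mem_centralizer_iff]
          intro b hb
          have hle2 : H ≤ centralizer ({y} : Set G) := by
            refine sup_le ?_ (zpowers_le.2 ?_)
            · intro a ha
              rw [mem_centralizer_singleton_iff]
              exact (mem_centralizer_iff.1 hy) a ha
            · rw [mem_centralizer_singleton_iff]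
          have := hle2 hb
          rw [mem_centralizer_singleton_iff] at this
          exact this
        rintro ⟨a, ha⟩ ⟨b, hb⟩
        apply Subtype.ext
        exact ((mem_centralizer_iff.1 (hle ha)) b hb).symm
      have hK2' : IsPGroup 2 K := P.2.to_le hKP
      rcases hR H (pbc_sup K hK2' hyN) with h | ⟨n, ⟨e⟩⟩ | ⟨⟨e⟩⟩
      · exfalso
        apply hKnc
        exact isCyclic_of_injective (inclusion hKH) (inclusion_injective hKH)
      · have h1 : n ≤ 1 := by
          by_contra hn
          have h2 : (DihedralGroup.r (1 : ZMod (2 ^ n))) * DihedralGroup.sr 0 =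
              DihedralGroup.sr 0 * DihedralGroup.r 1 := by
            apply e.symm.injective
            rw [map_mul, map_mul, hcomm]
          rw [DihedralGroup.r_mul_sr, DihedralGroup.sr_mul_r] at h2
          have h3 : (0 - 1 : ZMod (2 ^ n)) = 0 + 1 := by injection h2
          have h4 : ((2 : ℕ) : ZMod (2 ^ n)) = 0 := by
            push_cast
            linear_combination -h3
          rw [ZMod.natCast_eq_zero_iff] at h4
          have h5 : 2 ^ 2 ≤ 2 ^ n := Nat.pow_le_pow_right (by norm_num) (by omega)
          have := Nat.le_of_dvd (by norm_num) h4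
          omega
        have h2 : Nat.card H = 2 * 2 ^ n := by
          rw [Nat.card_congr e.toEquiv, DihedralGroup.nat_card]
        have h3 : Nat.card H ≤ 4 := by
          rw [h2]
          have : 2 ^ n ≤ 2 ^ 1 := Nat.pow_le_pow_right (by norm_num) h1
          omega
        have h4 : K = H := Subgroup.eq_of_le_of_card_ge hKH (by rw [hK4]; exact h3)
        rw [h4]; exact hyH
      · exfalso
        have h1 : ∀ a b : alternatingGroup (Fin 4), a * b = b * a := by
          intro a b
          apply e.symm.injective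
          rw [map_mul, map_mul, hcomm]
        revert h1
        decide
    · intro a ha
      rw [mem_centralizer_iff]
      intro b hb
      exact hKcomm b hb a ha

theorem mul_self_of {G : Type u} [Group G] {z : G} (hz : orderOf z = 2) : z * z = 1 := by
  rw [← pow_two, ← hz, pow_orderOf_eq_one]

/-- subgroups of dihedral groups -/
theorem cyclic_or_dihedral {T : Type u} [Group T] [Finite T] {m : ℕ} (f : T →* DihedralGroup m)
    (hf : Function.Injective f) : IsCyclic T ∨ ∃ R : Subgroup T, IsCyclic R ∧ R.index = 2 ∧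
      ∀ t : T, t ∉ R → t * t = 1 := by
  classical
  set R : Subgroup T := (zpowers (DihedralGroup.r (1 : ZMod m))).comap f with hR
  have hr : ∀ i : ZMod m, DihedralGroup.r i ∈ zpowers (DihedralGroup.r (1 : ZMod m)) := by
    intro i
    obtain ⟨k, rfl⟩ := ZMod.intCast_surjective i
    refine mem_zpowers_iff.2 ⟨k, ?_⟩
    rw [DihedralGroup.r_one_zpow]
  have hsr : ∀ i : ZMod m, DihedralGroup.sr i ∉ zpowers (DihedralGroup.r (1 : ZMod m)) := by
    intro i h
    obtain ⟨k, hk⟩ := mem_zpowers_iff.1 h
    rw [DihedralGroup.r_one_zpow] at hk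
    injection hk
  have hRc : IsCyclic R := by
    let g : R →* zpowers (DihedralGroup.r (1 : ZMod m)) :=
      { toFun := fun t => ⟨f t, t.2⟩
        map_one' := by ext; simp
        map_mul' := fun a b => by ext; simp }
    exact isCyclic_of_injective g (fun a b h => Subtype.ext (hf (congrArg Subtype.val h)))
  by_cases h : ∃ t : T, t ∉ R
  · right
    obtain ⟨a, ha⟩ := h
    have hmem : ∀ t : T, t ∉ R → ∃ i, f t = DihedralGroup.sr i := by
      intro t ht
      rcases h : f t with i | i
      · exfalso
        apply ht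
        rw [hR, mem_comap, h]
        exact hr i
      · exact ⟨i, rfl⟩
    refine ⟨R, hRc, ?_, ?_⟩
    · rw [index_eq_two_iff']
      refine ⟨a, fun b => ?_⟩
      by_cases hb : b ∈ R
      · right
        exact ⟨hb, fun h => ha ((mul_mem_cancel_right hb).1 h)⟩
      · left
        refine ⟨?_, hb⟩
        obtain ⟨i, hi⟩ := hmem a ha
        obtain ⟨j, hj⟩ := hmem b hb
        rw [hR, mem_comap, map_mul, hi, hj, DihedralGroup.sr_mul_sr]
        exact hr _
    · intro t ht
      obtain ⟨i, hi⟩ := hmem t ht
      apply hf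
      rw [map_mul, hi, DihedralGroup.sr_mul_self, map_one]
  · left
    push Not at h
    have : R = ⊤ := by rw [eq_top_iff]; intro t _; exact h t
    rw [this] at hRc
    exact (Subgroup.topEquiv.isCyclic).1 hRc

theorem backward2 {G : Type u} [Group G] [Finite G] (P : Sylow 2 G)
    (hc : IsCyclic P ∨
      ((∃ n : ℕ, 1 ≤ n ∧ Nonempty ((P : Subgroup G) ≃* DihedralGroup (2 ^ n))) ∧
        ∀ K : Subgroup G, K ≤ P → Nat.card K = 4 → (∀ k ∈ K, k ^ 2 = 1) → centralizer (K : Set G) = K))
    (H : Subgroup G) (hH : PBC 2 ↥H) : IsCyclic H ∨ (∃ n : ℕ, Nonempty (H ≃* DihedralGroup (2 ^ n))) ∨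
      Nonempty (H ≃* alternatingGroup (Fin 4)) := by
  obtain ⟨hn, hq⟩ := hH
  obtain ⟨T⟩ : Nonempty (Sylow 2 H) := inferInstance
  haveI := hn T
  haveI := hq T
  -- `T` is conjugate into `P`
  have hS : IsPGroup 2 ((T : Subgroup H).map H.subtype) := T.2.map _
  obtain ⟨P', hP'⟩ := hS.exists_le_sylow
  obtain ⟨g, hg⟩ := MulAction.exists_smul_eq G P' P
  have hgP : ∀ t ∈ (T : Subgroup H), g * (t : G) * g⁻¹ ∈ (P : Subgroup G) := by
    intro t ht
    rw [← hg, Sylow.coe_subgroup_smul]
    exact Subgroup.smul_mem_pointwise_smul _ _ _ (hP' ⟨t, ht, rfl⟩)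
  let f : (T : Subgroup H) →* (P : Subgroup G) :=
    { toFun := fun t => ⟨g * (t : G) * g⁻¹, hgP t t.2⟩
      map_one' := by ext; simp
      map_mul' := fun a b => by ext; simp [mul_assoc] }
  have hf : Function.Injective f := by
    intro a b hab
    have h1 : g * (a : G) * g⁻¹ = g * (b : G) * g⁻¹ := congrArg Subtype.val hab
    have h2 : ((a : H) : G) = b := mul_left_cancel (mul_right_cancel h1)
    exact Subtype.ext (Subtype.ext h2)
  have hcycT : IsCyclic T → IsCyclic H := by
    intro hT
    by_cases h2 : 2 ∣ Nat.card H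
    · have hmin : (Nat.card H).minFac = 2 := by
        rw [Nat.minFac_eq_two_iff]; exact h2
      haveI : IsCyclic T := hT
      exact cyclic_of_npc T ⟨T, _, inferInstance, IsCyclic.isComplement' hmin hT⟩
    · haveI : IsCyclic T := hT
      exact cyclic_of_npc T (PNilp.hasNormalPComplement_of_not_dvd h2)
  rcases hc with hc | ⟨⟨n, hn1, ⟨e⟩⟩, hK⟩
  · left
    apply hcycT
    haveI : IsCyclic (P : Subgroup G) := hc
    exact isCyclic_of_injective f hf
  rcases cyclic_or_dihedral (e.toMonoidHom.comp f) (e.injective.comp hf) with h | ⟨R, hRc, hRi, hRt⟩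
  · exact Or.inl (hcycT h)
  by_cases hTc : IsCyclic T
  · exact Or.inl (hcycT hTc)
  -- `T` is dihedral
  obtain ⟨m, hm⟩ : ∃ m, Nat.card R = 2 ^ m := IsPGroup.iff_card.mp (T.2.to_subgroup R)
  have hTd : Nonempty ((T : Subgroup H) ≃* DihedralGroup (2 ^ m)) := by
    rw [← hm]
    exact DihRec.dihedral_of_cyclic R hRc hRi hRt
  have hTcard : Nat.card (T : Subgroup H) = 2 * 2 ^ m := by
    rw [← R.card_mul_index, hRi, hm, mul_comm]
  have hm1 : 1 ≤ m := by
    by_contra h
    have hm0 : m = 0 := by omega
    subst hm0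
    apply hTc
    have : Nat.card (T : Subgroup H) = 2 := by rw [hTcard]; norm_num
    exact isCyclic_of_prime_card this
  -- the centralizer condition
  have hcent : ∀ (a b : H), a ∈ (T : Subgroup H) → b ∈ (T : Subgroup H) → a ≠ 1 → b ≠ 1 → a ≠ b →
      a * a = 1 → b * b = 1 → a * b = b * a → ∀ y : H, y * a = a * y → y * b = b * y →
      y ∈ (T : Subgroup H) := by
    intro a b ha hb ha1 hb1 hne haa hbb hab y hya hyb
    have hinj : ∀ x y : H, g * (x : G) * g⁻¹ = g * (y : G) * g⁻¹ → x = y := fun x y h =>
      Subtype.ext (mul_left_cancel (mul_right_cancel h))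
    have h1 : (g * (a : G) * g⁻¹) * (g * (a : G) * g⁻¹) = 1 := by
      have : (a : G) * a = 1 := congrArg Subtype.val haa
      calc _ = g * ((a : G) * a) * g⁻¹ := by group
        _ = 1 := by rw [this]; group
    have h2 : (g * (b : G) * g⁻¹) * (g * (b : G) * g⁻¹) = 1 := by
      have : (b : G) * b = 1 := congrArg Subtype.val hbb
      calc _ = g * ((b : G) * b) * g⁻¹ := by group
        _ = 1 := by rw [this]; group
    have h3 : (g * (a : G) * g⁻¹) * (g * (b : G) * g⁻¹) = (g * (b : G) * g⁻¹) * (g * (a : G) * g⁻¹) := by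
      have : (a : G) * b = b * a := congrArg Subtype.val hab
      calc _ = g * ((a : G) * b) * g⁻¹ := by group
        _ = _ := by rw [this]; group
    have h4 : g * (a : G) * g⁻¹ ≠ 1 := by
      intro h
      apply ha1
      apply hinj
      rw [h]; simp
    have h5 : g * (b : G) * g⁻¹ ≠ 1 := by
      intro h
      apply hb1
      apply hinj
      rw [h]; simp
    have h6 : g * (a : G) * g⁻¹ ≠ g * (b : G) * g⁻¹ := fun h => hne (hinj _ _ h)
    have hKP : fourSub _ _ h1 h2 h3 ≤ (P : Subgroup G) := by
      intro x hx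
      rcases mem_fourSub.1 hx with rfl | rfl | rfl | rfl
      · exact one_mem _
      · exact hgP a ha
      · exact hgP b hb
      · exact mul_mem (hgP a ha) (hgP b hb)
    have h7 := hK _ hKP (card_fourSub h4 h5 h6) (fun x hx => sq_fourSub hx)
    have hya' : (y : G) * a = a * y := congrArg Subtype.val hya
    have hyb' : (y : G) * b = b * y := congrArg Subtype.val hyb
    have h8 : g * (y : G) * g⁻¹ ∈ centralizer ((fourSub _ _ h1 h2 h3 : Subgroup G) : Set G) := by
      have ha2 : (g * (a : G) * g⁻¹) * (g * (y : G) * g⁻¹) = (g * (y : G) * g⁻¹) * (g * (a : G) * g⁻¹) := by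
        calc _ = g * ((a : G) * y) * g⁻¹ := by group
          _ = _ := by rw [← hya']; group
      have hb2 : (g * (b : G) * g⁻¹) * (g * (y : G) * g⁻¹) = (g * (y : G) * g⁻¹) * (g * (b : G) * g⁻¹) := by
        calc _ = g * ((b : G) * y) * g⁻¹ := by group
          _ = _ := by rw [← hyb']; group
      rw [mem_centralizer_iff]
      intro x hx
      rcases mem_fourSub.1 hx with rfl | rfl | rfl | rfl
      · rw [one_mul, mul_one]
      · exact ha2
      · exact hb2
      · rw [mul_assoc, hb2, ← mul_assoc, ha2, mul_assoc]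
    rw [h7] at h8
    rcases mem_fourSub.1 h8 with h | h | h | h
    · have : y = 1 := hinj _ _ (by rw [h]; simp)
      rw [this]; exact one_mem _
    · rw [hinj _ _ h]; exact ha
    · rw [hinj _ _ h]; exact hb
    · have : y = a * b := hinj _ _ (by rw [h]; push_cast; group)
      rw [this]; exact mul_mem ha hb
  -- a generator of odd order modulo `T`
  obtain ⟨y, hy, hyodd⟩ : ∃ y : H, (∀ h : H, ∃ k : ℤ, (y ^ k)⁻¹ * h ∈ (T : Subgroup H)) ∧ Odd (orderOf y) := by
    obtain ⟨c, hcg⟩ := IsCyclic.exists_generator (α := H ⧸ (T : Subgroup H))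
    obtain ⟨y, rfl⟩ := QuotientGroup.mk_surjective c
    obtain ⟨k, hk⟩ := KleinAut.exists_pow_odd y
    refine ⟨y ^ 2 ^ k, fun h => ?_, hk⟩
    have hco : (2 ^ k).Coprime (orderOf (QuotientGroup.mk y : H ⧸ (T : Subgroup H))) := by
      apply Nat.Coprime.pow_left
      rw [Nat.prime_two.coprime_iff_not_dvd]
      intro h2
      have h3 : orderOf (QuotientGroup.mk y : H ⧸ (T : Subgroup H)) ∣ (T : Subgroup H).index := by
        rw [Subgroup.index_eq_card]; exact orderOf_dvd_natCard _
      exact T.not_dvd_index (h2.trans h3)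
    have h4 : (QuotientGroup.mk y : H ⧸ (T : Subgroup H)) ∈
        zpowers ((QuotientGroup.mk y : H ⧸ (T : Subgroup H)) ^ 2 ^ k) := by
      obtain ⟨m, hm⟩ := exists_pow_eq_self_of_coprime hco
      exact mem_zpowers_iff.2 ⟨m, by rw [zpow_natCast]; exact hm⟩
    have h5 : (QuotientGroup.mk h : H ⧸ (T : Subgroup H)) ∈
        zpowers ((QuotientGroup.mk y : H ⧸ (T : Subgroup H)) ^ 2 ^ k) := (zpowers_le.2 h4) (hcg _)
    obtain ⟨j, hj⟩ := mem_zpowers_iff.1 h5
    refine ⟨j, ?_⟩
    rw [← QuotientGroup.eq, QuotientGroup.mk_zpow, QuotientGroup.mk_pow, hj]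
  have hyT1 : ∀ y : H, Odd (orderOf y) → y ∈ (T : Subgroup H) → y = 1 := by
    intro y hyodd hyT
    obtain ⟨k, hk⟩ := (IsPGroup.iff_orderOf.1 T.2) ⟨y, hyT⟩
    rw [Subgroup.orderOf_mk] at hk
    rw [hk] at hyodd
    rcases Nat.eq_zero_or_pos k with h | h
    · rw [h, pow_zero] at hk
      exact orderOf_eq_one_iff.1 hk
    · exfalso
      rw [Nat.odd_iff] at hyodd
      have : Even (2 ^ k) := (Nat.even_pow' h.ne').2 even_two
      rw [Nat.even_iff] at this
      omega
  have hHT : y = 1 → (∃ n : ℕ, Nonempty (H ≃* DihedralGroup (2 ^ n))) := by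
    intro h1
    have htop : (T : Subgroup H) = ⊤ := by
      rw [eq_top_iff]
      intro h _
      obtain ⟨k, hk⟩ := hy h
      rwa [h1, one_zpow, inv_one, one_mul] at hk
    obtain ⟨e'⟩ := hTd
    rw [htop] at e'
    exact ⟨m, ⟨Subgroup.topEquiv.symm.trans e'⟩⟩
  set α : MulAut (T : Subgroup H) := MulAut.conjNormal y with hα
  have hαodd : Odd (orderOf α) := by
    refine Odd.of_dvd_nat hyodd ?_
    exact orderOf_map_dvd (MulAut.conjNormal (H := (T : Subgroup H))) y
  have hαap : ∀ t : (T : Subgroup H), ((α t : (T : Subgroup H)) : H) = y * t * y⁻¹ := fun t => by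
    rw [hα, MulAut.conjNormal_apply]
  rcases Nat.lt_or_ge m 2 with hm2 | hm2
  · -- four-group
    have hm' : m = 1 := by omega
    subst hm'
    have hT4 : Nat.card (T : Subgroup H) = 4 := by rw [hTcard]; norm_num
    have hR2 : ∀ t : (T : Subgroup H), t * t = 1 := by
      intro t
      by_cases ht : t ∈ R
      · have h1 : orderOf (⟨t, ht⟩ : R) ∣ Nat.card R := orderOf_dvd_natCard _
        rw [hm, pow_one, Subgroup.orderOf_mk] at h1
        rw [← pow_two]
        exact orderOf_dvd_iff_pow_eq_one.1 h1
      · exact hRt t ht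
    haveI hV : IsKleinFour (T : Subgroup H) :=
      { card_four := hT4
        exponent_two := by
          apply Nat.dvd_antisymm
          · exact Monoid.exponent_dvd_of_forall_pow_eq_one (fun t => by rw [pow_two]; exact hR2 t)
          · obtain ⟨t, ht⟩ : ∃ t : (T : Subgroup H), t ≠ 1 := by
              haveI : Nontrivial (T : Subgroup H) := by
                rw [← Finite.one_lt_card_iff_nontrivial, hT4]; norm_num
              exact exists_ne 1
            have h1 : orderOf t = 2 := orderOf_eq_prime (by rw [pow_two]; exact hR2 t) ht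
            exact h1.symm.dvd.trans (Monoid.order_dvd_exponent t) }
    have h3 : orderOf α ∣ 3 := by
      have h6 : orderOf α ∣ 6 := by
        rw [← KleinAut.card_mulAut hV]; exact orderOf_dvd_natCard _
      have : (orderOf α).Coprime 2 := hαodd.coprime_two_right
      exact this.dvd_of_dvd_mul_left (by simpa using h6)
    have hcen : ∀ w : H, (∀ t ∈ (T : Subgroup H), w * t = t * w) → w ∈ (T : Subgroup H) := by
      intro w hw
      obtain ⟨a, ha⟩ : ∃ t : (T : Subgroup H), t ≠ 1 := by
        haveI : Nontrivial (T : Subgroup H) := by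
          rw [← Finite.one_lt_card_iff_nontrivial, hT4]; norm_num
        exact exists_ne 1
      obtain ⟨b, hb⟩ : ∃ t : (T : Subgroup H), t ≠ 1 ∧ t ≠ a := by
        by_contra hno
        push Not at hno
        have h1 : Nat.card (T : Subgroup H) ≤ 2 := by
          have h2 : (Set.univ : Set (T : Subgroup H)) ⊆ {1, a} := by
            intro t _
            by_cases h : t = 1
            · left; exact h
            · right; exact hno t h
          have h3 := Set.ncard_le_ncard h2
          rw [Set.ncard_univ] at h3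
          exact h3.trans (Set.ncard_insert_le _ _ |>.trans (by simp))
        omega
      refine hcent a b a.2 b.2 ?_ ?_ ?_ ?_ ?_ ?_ w (hw _ a.2) (hw _ b.2)
      · intro h; exact ha (Subtype.ext h)
      · intro h; exact hb.1 (Subtype.ext h)
      · intro h; exact hb.2 (Subtype.ext h.symm)
      · exact congrArg Subtype.val (hR2 a)
      · exact congrArg Subtype.val (hR2 b)
      · exact congrArg Subtype.val ((IsKleinFour.isMulCommutative (G := (T : Subgroup H))).is_comm.comm a b)
    have hy3 : y ^ 3 = 1 := by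
      apply hyT1
      · refine Odd.of_dvd_nat hyodd (orderOf_pow_dvd 3)
      · apply hcen
        intro t ht
        have h4 : (α ^ 3) ⟨t, ht⟩ = ⟨t, ht⟩ := by
          rw [orderOf_dvd_iff_pow_eq_one.1 h3]; rfl
        rw [hα, ← map_pow] at h4
        have h5 := congrArg Subtype.val h4
        rw [MulAut.conjNormal_apply] at h5
        exact mul_inv_eq_iff_eq_mul.1 h5
    have hy3' : orderOf y ∣ 3 := orderOf_dvd_of_pow_eq_one hy3
    rw [Nat.dvd_prime Nat.prime_three] at hy3'
    rcases hy3' with h | h
    · exact Or.inr (Or.inl (hHT (orderOf_eq_one_iff.1 h)))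
    · right; right
      have hyT : y ∉ (T : Subgroup H) := by
        intro hyT
        rw [hyT1 y hyodd hyT, orderOf_one] at h
        omega
      have hidx : (T : Subgroup H).index = 3 := by
        have h1 : ∀ x : H ⧸ (T : Subgroup H), x ∈ zpowers (QuotientGroup.mk y : H ⧸ (T : Subgroup H)) := by
          intro x
          obtain ⟨x, rfl⟩ := QuotientGroup.mk_surjective x
          obtain ⟨k, hk⟩ := hy x
          refine mem_zpowers_iff.2 ⟨k, ?_⟩
          rw [← QuotientGroup.mk_zpow, QuotientGroup.eq]
          exact hk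
        have h2 := orderOf_eq_card_of_forall_mem_zpowers h1
        rw [Subgroup.index_eq_card, ← h2]
        refine orderOf_eq_prime ?_ ?_
        · rw [← QuotientGroup.mk_pow, hy3]; rfl
        · rw [Ne, QuotientGroup.eq_one_iff]; exact hyT
      have hcard : Nat.card H = 12 := by
        rw [← (T : Subgroup H).card_mul_index, hT4, hidx]
      refine Cfsg.Agent.S0228.result hcard ?_
      intro z hz hzc
      have hzT : z ∈ (T : Subgroup H) := by
        rw [← QuotientGroup.eq_one_iff, ← orderOf_eq_one_iff, ← Nat.dvd_one]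
        have h1 : orderOf (QuotientGroup.mk z : H ⧸ (T : Subgroup H)) ∣ 2 := by
          exact (orderOf_map_dvd (QuotientGroup.mk' (T : Subgroup H)) z).trans hz.dvd
        have h2 : orderOf (QuotientGroup.mk z : H ⧸ (T : Subgroup H)) ∣ 3 := by
          rw [← hidx, Subgroup.index_eq_card]; exact orderOf_dvd_natCard _
        have := Nat.dvd_gcd h1 h2
        simpa using this
      have hα3 : orderOf α = 3 := by
        rcases (Nat.dvd_prime Nat.prime_three).1 h3 with h1 | h1
        · exfalso
          apply hyT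
          apply hcen
          intro t ht
          have h4 : α ⟨t, ht⟩ = ⟨t, ht⟩ := by
            rw [orderOf_eq_one_iff.1 h1]; rfl
          have h5 := congrArg Subtype.val h4
          rw [hαap] at h5
          exact mul_inv_eq_iff_eq_mul.1 h5
        · exact h1
      have h7 := (KleinAut.fpf_of_orderOf hV hα3).1 ⟨z, hzT⟩ (by
        apply Subtype.ext
        rw [hαap]
        show y * z * y⁻¹ = z
        rw [(mem_center_iff.1 hzc) y, mul_inv_cancel_right])
      have h8 : z = 1 := congrArg Subtype.val h7
      rw [h8, orderOf_one] at hz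
      omega
  · right; left
    apply hHT
    apply hyT1 y hyodd
    -- `y` centralizes `T`
    have hα1 : α = 1 := by
      obtain ⟨e'⟩ := hTd
      have h1 : IsPGroup 2 (MulAut (T : Subgroup H)) :=
        AutTwoGroup.aut_dihedral (m + 1) (by omega) (by simpa using e')
      obtain ⟨k, hk⟩ := (IsPGroup.iff_orderOf.1 h1) α
      rw [hk] at hαodd
      rcases Nat.eq_zero_or_pos k with h | h
      · rw [h, pow_zero] at hk
        exact orderOf_eq_one_iff.1 hk
      · exfalso
        rw [Nat.odd_iff] at hαodd
        have : Even (2 ^ k) := (Nat.even_pow' h.ne').2 even_two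
        rw [Nat.even_iff] at this
        omega
    have hyc : ∀ t ∈ (T : Subgroup H), y * t = t * y := by
      intro t ht
      have h4 : α ⟨t, ht⟩ = ⟨t, ht⟩ := by rw [hα1]; rfl
      have h5 := congrArg Subtype.val h4
      rw [hαap] at h5
      exact mul_inv_eq_iff_eq_mul.1 h5
    haveI : R.Normal := normal_of_index_eq_two hRi
    obtain ⟨z, hz⟩ := exists_prime_orderOf_dvd_card' (G := R) 2 (by rw [hm]; exact dvd_pow_self 2 (by omega))
    obtain ⟨a, ha⟩ : ∃ a : (T : Subgroup H), a ∉ R := by
      by_contra hno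
      push Not at hno
      have : R = ⊤ := by rw [eq_top_iff]; intro t _; exact hno t
      rw [this, index_top] at hRi
      omega
    have hza : a * z * a⁻¹ = z := by
      have h2 : a * (z : (T : Subgroup H)) * a⁻¹ ∈ R := Subgroup.Normal.conj_mem inferInstance _ z.2 a
      have ho : orderOf (⟨a * (z : (T : Subgroup H)) * a⁻¹, h2⟩ : R) = 2 := by
        rw [Subgroup.orderOf_mk]
        refine (MulEquiv.orderOf_eq (MulAut.conj a) _).trans ?_
        rw [Subgroup.orderOf_coe z]; exact hz
      have h3 : zpowers (⟨a * (z : (T : Subgroup H)) * a⁻¹, h2⟩ : R) = zpowers z := by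
        apply TransferApps.cyclic_subgroup_eq_of_card
        rw [Nat.card_zpowers, Nat.card_zpowers, ho, hz]
      have h4 : (⟨a * (z : (T : Subgroup H)) * a⁻¹, h2⟩ : R) ∈ zpowers z := h3 ▸ mem_zpowers _
      obtain ⟨k, hk⟩ := mem_zpowers_iff.1 h4
      have hzz : z * z = 1 := mul_self_of hz
      rcases Int.even_or_odd k with ⟨j, hj⟩ | ⟨j, hj⟩
      · exfalso
        rw [hj, zpow_add, ← (Commute.refl z).mul_zpow, hzz, one_zpow] at hk
        rw [← hk, orderOf_one] at ho
        omega
      · rw [hj, zpow_add, zpow_mul, zpow_one, zpow_ofNat, pow_two, hzz, one_zpow, one_mul] at hk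
        exact (congrArg Subtype.val hk).symm
    have hz1 : ((z : (T : Subgroup H)) : H) ≠ 1 := by
      intro h
      have : z = 1 := Subtype.ext (Subtype.ext h)
      rw [this, orderOf_one] at hz
      omega
    have hzz : z * z = 1 := mul_self_of hz
    refine hcent ((z : (T : Subgroup H)) : H) a (z : (T : Subgroup H)).2 a.2 hz1 ?_ ?_ ?_ ?_ ?_ y
      (hyc _ (z : (T : Subgroup H)).2) (hyc _ a.2)
    · intro h
      apply ha
      have : a = 1 := Subtype.ext h
      rw [this]; exact one_mem _
    · intro h
      apply ha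
      have : a = (z : (T : Subgroup H)) := Subtype.ext h.symm
      rw [this]; exact z.2
    · exact congrArg (fun x : R => ((x : (T : Subgroup H)) : H)) hzz
    · exact congrArg Subtype.val (hRt a ha)
    · have h1 : a * (z : (T : Subgroup H)) = z * a := mul_inv_eq_iff_eq_mul.1 hza
      exact (congrArg Subtype.val h1).symm

end Cfsg.Agent.Lib.H1PByCyc
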