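import Mathlib
import Cfsg.Agent.Lib.ConjSylow
import Cfsg.Agent.Lib.TwoClosed
import Cfsg.Agent.Lib.SylowTools
import Cfsg.Agent.Lib.Cores2

/-!
# Groups in which subgroups of equal order are conjugate: basic facts (helper1)
-/

set_option autoImplicit false
set_option linter.unusedSectionVars false
set_option linter.unusedVariables false

open Subgroup

namespace Cfsg.Agent.Lib.H1Same

/-- subgroups of equal order are conjugate -/
def Cj (G : Type*) [Group G] : Prop :=
  ∀ H K : Subgroup G, Nat.card H = Nat.card K → ∃ g : G, K = H.map (MulAut.conj g).toMonoidHom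

theorem Cj.quot {G : Type*} [Group G] [Finite G] (h : Cj G) (N : Subgroup G) [N.Normal] : Cj (G ⧸ N) := by
  intro H K hHK
  have hs := QuotientGroup.mk'_surjective N
  obtain ⟨g, hg⟩ := h (H.comap (QuotientGroup.mk' N)) (K.comap (QuotientGroup.mk' N)) (by
    rw [Cores.card_comap_mk, Cores.card_comap_mk, hHK])
  refine ⟨QuotientGroup.mk' N g, ?_⟩
  rw [← Subgroup.map_comap_eq_self_of_surjective hs K, hg, ← Subgroup.map_comap_eq_self_of_surjective hs H]
  rw [Subgroup.map_map, Subgroup.map_map, Subgroup.map_comap_eq_self_of_surjective hs H]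
  congr 1

variable {G : Type*} [Group G] [Finite G]

theorem Cj.noinv (hC : Cj G) {r : ℕ} (hr : r.Prime) (hr2 : r ≠ 2) {t : G} (ht : t ≠ 1) (htt : t * t = 1)
    (hd : r ∣ Nat.card (centralizer ({t} : Set G))) (u y : G) (hu : u * u = 1) (hy : orderOf y = r) :
    u * y * u ≠ y⁻¹ := by
  intro h
  have hfr : Fact r.Prime := ⟨hr⟩
  have huinv : u⁻¹ = u := inv_eq_of_mul_eq_one_left hu
  have hyy : y * y ≠ 1 := by
    intro h1
    have h2 : orderOf y ∣ 2 := orderOf_dvd_of_pow_eq_one (by rw [pow_two, h1])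
    rw [hy] at h2
    exact hr2 ((Nat.prime_dvd_prime_iff_eq hr Nat.prime_two).1 h2)
  have hu1 : u ≠ 1 := by
    rintro rfl
    apply hyy
    rw [one_mul, mul_one] at h
    calc y * y = y * y⁻¹ := by rw [← h]
      _ = 1 := mul_inv_cancel y
  obtain ⟨x, hx⟩ := exists_prime_orderOf_dvd_card' (G := centralizer ({t} : Set G)) r hd
  have hxt : Commute t (x : G) := by
    have := mem_centralizer_singleton_iff.1 x.2
    exact this.symm
  have hto : orderOf t = 2 := orderOf_eq_prime (by rw [pow_two, htt]) ht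
  have huo : orderOf u = 2 := orderOf_eq_prime (by rw [pow_two, hu]) hu1
  have hxo : orderOf (x : G) = r := by rw [Subgroup.orderOf_coe, hx]
  have hcop : Nat.Coprime 2 r := by
    rw [Nat.coprime_primes Nat.prime_two hr]; exact hr2.symm
  have hc : orderOf (t * x) = 2 * r := by
    rw [hxt.orderOf_mul_eq_mul_orderOf_of_coprime (by rw [hto, hxo]; exact hcop), hto, hxo]
  have hun : zpowers u ≤ normalizer ((zpowers y : Subgroup G) : Set G) := by
    rw [zpowers_le]
    apply SylowTools.mem_normalizer_of_forall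
    intro z hz
    obtain ⟨k, rfl⟩ := mem_zpowers_iff.1 hz
    rw [← conj_zpow, huinv, h]
    exact zpow_mem (inv_mem (mem_zpowers y)) k
  have hcard := ConjSylow.card_sup_mul_card_inf hun
  have hinf : Nat.card ↥(zpowers u ⊓ zpowers y) = 1 := by
    have h1 : Nat.card ↥(zpowers u ⊓ zpowers y) ∣ 2 := by
      rw [← huo, ← Nat.card_zpowers]; exact card_dvd_of_le inf_le_left
    have h2 : Nat.card ↥(zpowers u ⊓ zpowers y) ∣ r := by
      rw [← hy, ← Nat.card_zpowers]; exact card_dvd_of_le inf_le_right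
    exact Nat.eq_one_of_dvd_coprimes hcop h1 h2
  rw [hinf, mul_one, Nat.card_zpowers, Nat.card_zpowers, huo, hy, ← hc, ← Nat.card_zpowers] at hcard
  obtain ⟨g, hg⟩ := hC _ _ hcard.symm
  have hmem : ∀ z ∈ zpowers u ⊔ zpowers y, ∃ k : ℤ, z = g * (t * x) ^ k * g⁻¹ := by
    intro z hz
    rw [hg] at hz
    obtain ⟨w, hw, rfl⟩ := hz
    obtain ⟨k, rfl⟩ := mem_zpowers_iff.1 hw
    exact ⟨k, rfl⟩
  obtain ⟨k, hk⟩ := hmem u (mem_sup_left (mem_zpowers u))
  obtain ⟨l, hl⟩ := hmem y (mem_sup_right (mem_zpowers y))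
  have hcomm : u * y = y * u := by
    rw [hk, hl]
    have := (Commute.refl (t * (x : G))).zpow_zpow k l
    calc g * (t * x) ^ k * g⁻¹ * (g * (t * x) ^ l * g⁻¹) = g * ((t * x) ^ k * (t * x) ^ l) * g⁻¹ := by group
      _ = g * ((t * x) ^ l * (t * x) ^ k) * g⁻¹ := by rw [this.eq]
      _ = _ := by group
  apply hyy
  have h3 : u * y * u = y := by rw [hcomm, mul_assoc, hu, mul_one]
  rw [h3] at h
  calc y * y = y * y⁻¹ := by rw [← h]
    _ = 1 := mul_inv_cancel y

/-- exponent two Sylow subgroups -/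
def E2 (G : Type*) [Group G] : Prop := ∀ P : Sylow 2 G, ∀ x ∈ (P : Subgroup G), x * x = 1

theorem E2.two_elem (h : E2 G) {x : G} (hx : ∃ k, orderOf x = 2 ^ k) : x * x = 1 := by
  obtain ⟨k, hk⟩ := hx
  have h1 : IsPGroup 2 (zpowers x) := IsPGroup.of_card (n := k) (by rw [Nat.card_zpowers, hk])
  obtain ⟨P, hP⟩ := h1.exists_le_sylow
  exact h P x (hP (mem_zpowers x))

theorem E2.comm (h : E2 G) (P : Sylow 2 G) {x y : G} (hx : x ∈ (P : Subgroup G)) (hy : y ∈ (P : Subgroup G)) :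
    x * y = y * x := by
  have h1 := h P x hx
  have h2 := h P y hy
  have h3 := h P (x * y) ((P : Subgroup G).mul_mem hx hy)
  have e1 : x⁻¹ = x := inv_eq_of_mul_eq_one_left h1
  have e2 : y⁻¹ = y := inv_eq_of_mul_eq_one_left h2
  have e3 : (x * y)⁻¹ = x * y := inv_eq_of_mul_eq_one_left h3
  rw [← e3, mul_inv_rev, e1, e2]

/-- if some element inverts an element of odd prime order `r`, then an involution does -/
theorem E2.exists_inv (h : E2 G) {r : ℕ} (hr : r.Prime) (hr2 : r ≠ 2) {c y : G} (hy : orderOf y = r)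
    (hc : c * y * c⁻¹ = y⁻¹) : ∃ k : ℕ, c ^ k * c ^ k = 1 ∧ c ^ k * y * c ^ k = y⁻¹ := by
  obtain ⟨a, m, hm, hn⟩ := Nat.exists_eq_two_pow_mul_odd (orderOf_pos c).ne'
  have hpow : ∀ j : ℕ, Odd j → c ^ j * y * (c ^ j)⁻¹ = y⁻¹ := by
    intro j hj
    obtain ⟨i, rfl⟩ := hj
    have h2 : ∀ i : ℕ, c ^ (2 * i) * y * (c ^ (2 * i))⁻¹ = y := by
      intro i
      induction i with
      | zero => simp
      | succ i ih =>
        have h3 : c ^ (2 * (i + 1)) = c * (c * c ^ (2 * i)) := by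
          rw [← pow_succ', ← pow_succ']; congr 1
        rw [h3]
        calc c * (c * c ^ (2 * i)) * y * (c * (c * c ^ (2 * i)))⁻¹ =
            c * (c * (c ^ (2 * i) * y * (c ^ (2 * i))⁻¹) * c⁻¹) * c⁻¹ := by simp only [mul_inv_rev, mul_assoc]
          _ = c * (y⁻¹) * c⁻¹ := by rw [ih, hc]
          _ = (c * y * c⁻¹)⁻¹ := by group
          _ = y := by rw [hc, inv_inv]
    rw [pow_succ']
    calc c * c ^ (2 * i) * y * (c * c ^ (2 * i))⁻¹ = c * (c ^ (2 * i) * y * (c ^ (2 * i))⁻¹) * c⁻¹ := by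
          simp only [mul_inv_rev, mul_assoc]
      _ = y⁻¹ := by rw [h2, hc]
  have h1 : orderOf (c ^ m) = 2 ^ a := by
    rw [orderOf_pow, hn, Nat.gcd_eq_right (Dvd.intro_left _ rfl), Nat.mul_div_cancel _ hm.pos]
  have h2 : c ^ m * c ^ m = 1 := h.two_elem ⟨a, h1⟩
  refine ⟨m, h2, ?_⟩
  have h3 := hpow m hm
  rwa [inv_eq_of_mul_eq_one_left h2] at h3

/-- the centralizer of an involution normalizes the Sylow 2-subgroups containing it -/
theorem core (hC : Cj G) (h2 : E2 G) (P : Sylow 2 G) {t : G} (ht : t ∈ (P : Subgroup G)) (ht1 : t ≠ 1) :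
    centralizer ({t} : Set G) ≤ normalizer ((P : Subgroup G) : Set G) := by
  have htt := h2 P t ht
  have hPC : (P : Subgroup G) ≤ centralizer ({t} : Set G) := by
    intro x hx
    rw [mem_centralizer_singleton_iff]
    exact h2.comm P hx ht
  have hn : ((P.subtype hPC : Sylow 2 _) : Subgroup ↥(centralizer ({t} : Set G))).Normal := by
    refine TwoClosed.sylow_two_normal (Nat.card ↥(centralizer ({t} : Set G))) _ le_rfl ?_ _
    intro x hodd hreal
    by_contra hx1
    have hox : orderOf x ≠ 1 := fun h => hx1 (orderOf_eq_one_iff.1 h)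
    obtain ⟨r, hr, hrd⟩ := Nat.exists_prime_and_dvd hox
    have hr2 : r ≠ 2 := by
      rintro rfl
      rw [Nat.odd_iff] at hodd; omega
    obtain ⟨c, hc⟩ := isConj_iff.1 hreal
    obtain ⟨m, hm⟩ := hrd
    have hxo : 0 < orderOf x := orderOf_pos x
    have hmpos : 0 < m := by
      rcases Nat.eq_zero_or_pos m with h | h
      · rw [h, mul_zero] at hm; omega
      · exact h
    have hy : orderOf ((x : G) ^ m) = r := by
      rw [orderOf_pow, Subgroup.orderOf_coe, hm, Nat.gcd_eq_right (Dvd.intro_left _ rfl), Nat.mul_div_cancel _ hmpos]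
    have hcy : (c : G) * (x : G) ^ m * (c : G)⁻¹ = ((x : G) ^ m)⁻¹ := by
      rw [← conj_pow]
      have : (c : G) * x * (c : G)⁻¹ = (x : G)⁻¹ := congrArg Subtype.val hc
      rw [this, inv_pow]
    obtain ⟨k, hk1, hk2⟩ := h2.exists_inv hr hr2 hy hcy
    refine hC.noinv hr hr2 ht1 htt ?_ _ _ hk1 hy hk2
    exact (Dvd.intro _ hm.symm).trans (orderOf_dvd_natCard x)
  intro g hg
  rw [mem_normalizer_iff]
  intro x
  constructor
  · intro hx
    exact hn.conj_mem ⟨x, hPC hx⟩ hx ⟨g, hg⟩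
  · intro hx
    have h3 := hn.conj_mem ⟨g * x * g⁻¹, hPC hx⟩ hx ⟨g, hg⟩⁻¹
    have h4 : g⁻¹ * (g * x * g⁻¹) * g⁻¹⁻¹ ∈ (P : Subgroup G) := h3
    have h5 : g⁻¹ * (g * x * g⁻¹) * g⁻¹⁻¹ = x := by group
    rwa [h5] at h4

/-- the normalizer of a Sylow 2-subgroup contains no other 2-elements -/
theorem mem_of_normalizer (h2 : E2 G) (P : Sylow 2 G) {x : G} (hx : x ∈ normalizer ((P : Subgroup G) : Set G))
    (hxx : x * x = 1) : x ∈ (P : Subgroup G) := by
  have h1 : IsPGroup 2 (zpowers x) := by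
    apply IsPGroup.of_card_dvd_pow (n := 1) 
    rw [Nat.card_zpowers, pow_one]
    exact orderOf_dvd_of_pow_eq_one (by rw [pow_two, hxx])
  have h3 : IsPGroup 2 ((P : Subgroup G) ⊔ zpowers x : Subgroup G) :=
    IsPGroup.to_sup_of_normal_left' P.isPGroup' h1 (by rw [zpowers_le]; exact hx)
  have h4 := P.is_maximal' h3 le_sup_left
  rw [← h4]
  exact mem_sup_right (mem_zpowers x)

/-- the Sylow 2-subgroups are TI -/
theorem TI (hC : Cj G) (h2 : E2 G) (P Q : Sylow 2 G) {t : G} (ht : t ∈ (P : Subgroup G)) (ht' : t ∈ (Q : Subgroup G))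
    (ht1 : t ≠ 1) : P = Q := by
  have h3 := core hC h2 P ht ht1
  have hQP : (Q : Subgroup G) ≤ P := by
    intro x hx
    apply mem_of_normalizer h2 P _ (h2 Q x hx)
    apply h3
    rw [mem_centralizer_singleton_iff]
    exact h2.comm Q hx ht'
  exact (Sylow.ext (Q.is_maximal' P.isPGroup' hQP))

/-- the normalizer is transitive on the involutions of `P` -/
theorem trans_inv (hC : Cj G) (h2 : E2 G) (P : Sylow 2 G) {s t : G} (hs : s ∈ (P : Subgroup G)) (ht : t ∈ (P : Subgroup G))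
    (hs1 : s ≠ 1) (ht1 : t ≠ 1) : ∃ g ∈ normalizer ((P : Subgroup G) : Set G), g * s * g⁻¹ = t := by
  have hso : orderOf s = 2 := orderOf_eq_prime (by rw [pow_two, h2 P s hs]) hs1
  have hto : orderOf t = 2 := orderOf_eq_prime (by rw [pow_two, h2 P t ht]) ht1
  obtain ⟨g, hg⟩ := hC (zpowers s) (zpowers t) (by rw [Nat.card_zpowers, Nat.card_zpowers, hso, hto])
  have hgs : g * s * g⁻¹ = t := by
    have h3 : g * s * g⁻¹ ∈ zpowers t := by rw [hg]; exact ⟨s, mem_zpowers s, rfl⟩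
    obtain ⟨k, hk⟩ := mem_zpowers_iff.1 h3
    have h4 : g * s * g⁻¹ ≠ 1 := by
      intro h
      apply hs1
      have : s = g⁻¹ * (g * s * g⁻¹) * g := by group
      rw [this, h]; group
    rcases Int.even_or_odd' k with ⟨m, hm | hm⟩
    · exfalso
      apply h4
      rw [← hk, hm, zpow_mul]
      have : t ^ (2 : ℤ) = 1 := by
        have := h2 P t ht
        rw [zpow_ofNat, pow_two]; exact this
      rw [this, one_zpow]
    · rw [← hk, hm, zpow_add, zpow_mul, zpow_one]
      have : t ^ (2 : ℤ) = 1 := by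
        have := h2 P t ht
        rw [zpow_ofNat, pow_two]; exact this
      rw [this, one_zpow, one_mul]
  refine ⟨g, ?_, hgs⟩
  have h3 : g • P = P := by
    apply TI hC h2 (g • P) P (t := t) _ ht ht1
    exact ⟨s, hs, hgs⟩
  rwa [Sylow.smul_eq_iff_mem_normalizer] at h3

end Cfsg.Agent.Lib.H1Same
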