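import Cfsg.Agent.Lib.H1ZamB
import Cfsg.Agent.Lib.ConjSylow
import Cfsg.Agent.Lib.CoprimeAction
import Cfsg.Agent.Lib.FocalTools

set_option autoImplicit false
set_option linter.unusedSectionVars false
set_option linter.unusedVariables false

open Subgroup MulAction

namespace Cfsg.Agent.Lib.H1Zam

section inv

variable {G : Type*} [Group G] [Finite G]

/-- an involution normalizing an odd order subgroup `T` centralizes a Sylow `s`-subgroup of `T` if it inverts no
element of order `s` -/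
theorem exists_sylow_comm {u : G} (hu : u * u = 1) (T : Subgroup G) (hodd : Odd (Nat.card T))
    (hn : ∀ x ∈ T, u * x * u ∈ T) (s : ℕ) [hs : Fact s.Prime]
    (hty : ∀ y : G, orderOf y = s → u * y * u ≠ y⁻¹) :
    ∃ P ≤ T, IsPGroup s P ∧ ¬ s ∣ P.relIndex T ∧ ∀ y ∈ P, u * y = y * u := by
  have huinv : u⁻¹ = u := inv_eq_of_mul_eq_one_left hu
  have hA : zpowers u ≤ normalizer (T : Set G) := by
    rw [zpowers_le, mem_normalizer_iff]
    intro x
    rw [huinv]
    constructor
    · exact hn x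
    · intro h
      have := hn _ h
      have h2 : u * (u * x * u) * u = x := by
        calc u * (u * x * u) * u = (u * u) * x * (u * u) := by simp only [mul_assoc]
          _ = x := by rw [hu, one_mul, mul_one]
      rwa [h2] at this
  have hcop : (Nat.card (zpowers u)).Coprime (Nat.card T) := by
    rw [Nat.card_zpowers]
    have h1 : orderOf u ∣ 2 := orderOf_dvd_of_pow_eq_one (by rw [pow_two, hu])
    exact Nat.Coprime.coprime_dvd_left h1 (Nat.coprime_two_left.2 hodd)
  obtain ⟨P, hPT, hPs, hPi, hPn⟩ := CoprimeAction.exists_invariant_sylow hA hcop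
    (Or.inl (by
      have : IsMulCommutative (zpowers u) := inferInstance
      exact Group.isSolvable_of_comm (fun a b => this.is_comm.comm a b))) s
  refine ⟨P, hPT, hPs, hPi, ?_⟩
  intro y hy
  have hun := hPn (mem_zpowers u)
  have h1 : u * y * u ∈ P := by
    have := (mem_normalizer_iff.1 hun y).1 hy
    rwa [huinv] at this
  set z := y⁻¹ * (u * y * u) with hz
  have hzP : z ∈ P := P.mul_mem (P.inv_mem hy) h1
  have hzu : u * z * u = z⁻¹ := by
    rw [hz]
    have e1 : (y⁻¹ * (u * y * u))⁻¹ = u⁻¹ * y⁻¹ * u⁻¹ * y := by group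
    rw [e1, huinv]
    calc u * (y⁻¹ * (u * y * u)) * u = u * y⁻¹ * u * y * (u * u) := by simp only [mul_assoc]
      _ = u * y⁻¹ * u * y := by rw [hu, mul_one]
  clear_value z
  have hz1 : z = 1 := by
    by_contra hz1
    obtain ⟨k, hk⟩ := (IsPGroup.iff_orderOf.1 hPs) ⟨z, hzP⟩
    rw [Subgroup.orderOf_mk] at hk
    have hk0 : k ≠ 0 := by
      rintro rfl
      rw [pow_zero] at hk
      exact hz1 (orderOf_eq_one_iff.1 hk)
    obtain ⟨j, rfl⟩ := Nat.exists_eq_succ_of_ne_zero hk0
    have hw : orderOf (z ^ (s ^ j)) = s := by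
      rw [orderOf_pow, hk, Nat.succ_eq_add_one, Nat.gcd_eq_right (pow_dvd_pow s (by omega)), pow_succ,
        Nat.mul_div_cancel_left _ (pow_pos hs.out.pos j)]
    apply hty _ hw
    have hpow : ∀ n : ℕ, u * z ^ n * u = (z ^ n)⁻¹ := by
      intro n
      induction n with
      | zero => simp [hu]
      | succ n ih =>
        rw [pow_succ]
        calc u * (z ^ n * z) * u = (u * z ^ n * u) * (u * z * u) := by
              have : u * (z ^ n * z) * u = u * z ^ n * (u * u) * z * u := by rw [hu]; simp only [mul_assoc, one_mul]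
              rw [this]; simp only [mul_assoc]
          _ = (z ^ n * z)⁻¹ := by
              rw [ih, hzu]
              have : Commute z (z ^ n) := (Commute.refl z).pow_right n
              rw [← mul_inv_rev, this.eq]
    exact hpow _
  have h2 : y = u * y * u := by
    rw [hz] at hz1
    exact inv_mul_eq_one.1 hz1
  calc u * y = (u * y * u) * u := by rw [mul_assoc (u * y), hu, mul_one]
    _ = y * u := by rw [← h2]

theorem exists_conj_comm {u : G} (hu : u * u = 1) (T : Subgroup G) (hodd : Odd (Nat.card T))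
    (hn : ∀ x ∈ T, u * x * u ∈ T) (s : ℕ) [hs : Fact s.Prime]
    (hty : ∀ y : G, orderOf y = s → u * y * u ≠ y⁻¹) {x : G} (hx : x ∈ T) (hxs : ∃ k, orderOf x = s ^ k) :
    ∃ h ∈ T, u * (h * x * h⁻¹) = (h * x * h⁻¹) * u := by
  obtain ⟨P, hPT, hPs, hPi, hPc⟩ := exists_sylow_comm hu T hodd hn s hty
  obtain ⟨P', hP'⟩ := CoprimeAction.exists_sylow_map_subtype_eq hPT hPs hPi
  obtain ⟨k, hk⟩ := hxs
  have hz : IsPGroup s (zpowers (⟨x, hx⟩ : T)) := IsPGroup.of_card (n := k) (by
    rw [Nat.card_zpowers, Subgroup.orderOf_mk, hk])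
  obtain ⟨Q, hQ⟩ := hz.exists_le_sylow
  obtain ⟨g, hg⟩ := exists_smul_eq T Q P'
  refine ⟨g, g.2, ?_⟩
  apply (hPc _ ?_)
  rw [← hP']
  refine ⟨g * ⟨x, hx⟩ * g⁻¹, ?_, rfl⟩
  rw [← hg]
  exact ⟨⟨x, hx⟩, hQ (mem_zpowers _), rfl⟩

end inv

end Cfsg.Agent.Lib.H1Zam
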