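import Cfsg.Agent.Lib.H1SameA
import Cfsg.Agent.Lib.H1ZamD

/-!
# Two-point stabilizers (helper1)
-/

set_option autoImplicit false
set_option linter.unusedSectionVars false
set_option linter.unusedVariables false

open Subgroup MulAction

namespace Cfsg.Agent.Lib.H1Same

variable {G : Type*} [Group G] [Finite G]

theorem stab_iff (a : Sylow 2 G) (g : G) : g • a = a ↔ g ∈ normalizer ((a : Subgroup G) : Set G) :=
  Sylow.smul_eq_iff_mem_normalizer

/-- the two point stabilizer -/
def DD (a b : Sylow 2 G) : Subgroup G := stabilizer G a ⊓ stabilizer G b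

theorem mem_DD {a b : Sylow 2 G} {g : G} : g ∈ DD a b ↔ g • a = a ∧ g • b = b := Iff.rfl

theorem DD_invol (hC : Cj G) (h2 : E2 G) {a b : Sylow 2 G} (hab : a ≠ b) {x : G} (hx : x ∈ DD a b) (hxx : x * x = 1) :
    x = 1 := by
  by_contra hx1
  apply hab
  exact TI hC h2 a b (mem_of_normalizer h2 a ((stab_iff a x).1 hx.1) hxx)
    (mem_of_normalizer h2 b ((stab_iff b x).1 hx.2) hxx) hx1

theorem odd_DD (hC : Cj G) (h2 : E2 G) {a b : Sylow 2 G} (hab : a ≠ b) : Odd (Nat.card (DD a b)) := by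
  rw [← Nat.not_even_iff_odd]
  intro h
  obtain ⟨x, hx⟩ := exists_prime_orderOf_dvd_card' (G := DD a b) 2 h.two_dvd
  have h1 : (x : G) = 1 := by
    apply DD_invol hC h2 hab x.2
    have : x ^ 2 = 1 := by rw [← hx]; exact pow_orderOf_eq_one x
    rw [pow_two] at this
    exact congrArg Subtype.val this
  have h3 : x = 1 := Subtype.ext h1
  rw [h3, orderOf_one] at hx
  norm_num at hx

/-- involutions moving `a` to `b` -/
def FF (a b : Sylow 2 G) : Set G := {u | u * u = 1 ∧ u • a = b}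

theorem FF_symm {a b : Sylow 2 G} {u : G} (hu : u ∈ FF a b) : u • b = a := by
  rw [← hu.2, smul_smul, hu.1, one_smul]

theorem FF_conj {a b : Sylow 2 G} {u x : G} (hu : u ∈ FF a b) (hx : x ∈ DD a b) : u * x * u ∈ DD a b := by
  constructor
  · show (u * x * u) • a = a
    rw [mul_smul, mul_smul, hu.2, hx.2, FF_symm hu]
  · show (u * x * u) • b = b
    rw [mul_smul, mul_smul, FF_symm hu, hx.1, hu.2]

/-- elements inverted by `u` -/
def KK (a b : Sylow 2 G) (u : G) : Set G := {x | x ∈ DD a b ∧ u * x * u = x⁻¹}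

theorem card_KK {a b : Sylow 2 G} {u : G} (hu : u ∈ FF a b) : (KK a b u).ncard = (FF a b).ncard := by
  have huinv : u⁻¹ = u := inv_eq_of_mul_eq_one_left hu.1
  apply Set.ncard_congr (fun x _ => u * x)
  · rintro x ⟨hx, hxu⟩
    refine ⟨?_, ?_⟩
    · calc u * x * (u * x) = (u * x * u) * x := by group
        _ = 1 := by rw [hxu]; group
    · rw [mul_smul, hx.1, hu.2]
  · intro x y _ _ h
    exact mul_left_cancel h
  · intro v hv
    refine ⟨u * v, ⟨⟨?_, ?_⟩, ?_⟩, ?_⟩
    · show (u * v) • a = a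
      rw [mul_smul, hv.2, FF_symm hu]
    · show (u * v) • b = b
      rw [mul_smul, FF_symm hv, hu.2]
    · have hvinv : v⁻¹ = v := inv_eq_of_mul_eq_one_left hv.1
      calc u * (u * v) * u = (u * u) * v * u := by group
        _ = v * u := by rw [hu.1, one_mul]
        _ = (u * v)⁻¹ := by rw [mul_inv_rev, huinv, hvinv]
    · show u * (u * v) = v
      rw [← mul_assoc, hu.1, one_mul]

/-- centralizer of `u` in the two point stabilizer -/
def CD (a b : Sylow 2 G) (u : G) : Subgroup G := DD a b ⊓ centralizer ({u} : Set G)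

theorem CD_le (a b : Sylow 2 G) (u : G) : CD a b u ≤ DD a b := inf_le_left

theorem sq_gen {x : G} (hx : Odd (orderOf x)) : ∃ m : ℕ, (x * x) ^ m = x := by
  obtain ⟨m, hm⟩ := exists_pow_eq_self_of_coprime (n := 2) (x := x) (Nat.coprime_two_left.2 hx)
  exact ⟨m, by rw [← pow_two]; exact hm⟩

theorem card_KK_le (hC : Cj G) (h2 : E2 G) {a b : Sylow 2 G} (hab : a ≠ b) {u : G} (hu : u ∈ FF a b) :
    (KK a b u).ncard ≤ (CD a b u).relIndex (DD a b) := by
  classical
  have hodd : ∀ x ∈ DD a b, Odd (orderOf x) := by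
    intro x hx
    apply (odd_DD hC h2 hab).of_dvd_nat
    rw [← Subgroup.orderOf_mk x hx]; exact orderOf_dvd_natCard _
  let f : KK a b u → (DD a b) ⧸ (CD a b u).subgroupOf (DD a b) := fun x => QuotientGroup.mk ⟨x, x.2.1⟩
  have hf : Function.Injective f := by
    intro x y hxy
    have h1 := QuotientGroup.eq.1 hxy
    obtain ⟨hc1, hc2⟩ := h1
    have hc3 : u * ((x : G)⁻¹ * y) = ((x : G)⁻¹ * y) * u := by
      have := mem_centralizer_singleton_iff.1 hc2
      exact this.symm
    obtain ⟨c, hc⟩ : ∃ c, c = (x : G)⁻¹ * y := ⟨_, rfl⟩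
    rw [← hc] at hc3
    have hcD : c ∈ DD a b := by rw [hc]; exact hc1
    have hy : (y : G) = x * c := by rw [hc]; group
    have e1 : u * (x : G) * u = (x : G)⁻¹ := x.2.2
    have e2 : u * (y : G) * u = (y : G)⁻¹ := y.2.2
    have e3 : (x : G)⁻¹ * c = c⁻¹ * (x : G)⁻¹ := by
      have h3 : u * (y : G) * u = (x : G)⁻¹ * c := by
        rw [hy, ← e1]
        calc u * ((x : G) * c) * u = u * x * (c * u) := by group
          _ = u * x * (u * c) := by rw [hc3]
          _ = u * x * u * c := by group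
      rw [← h3, e2, hy, mul_inv_rev]
    have e4 : (x : G)⁻¹ * c * x = c⁻¹ := by rw [e3]; group
    -- x² commutes with c
    have e5 : Commute ((x : G) * x) c := by
      have h4 : ((x : G) * x)⁻¹ * c * (x * x) = c := by
        calc ((x : G) * x)⁻¹ * c * (x * x) = (x : G)⁻¹ * ((x : G)⁻¹ * c * x) * x := by group
          _ = (x : G)⁻¹ * c⁻¹ * x := by rw [e4]
          _ = ((x : G)⁻¹ * c * x)⁻¹ := by group
          _ = c := by rw [e4, inv_inv]
      have h5 : c * (x * x) = (x * x) * c := by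
        calc c * ((x : G) * x) = ((x : G) * x) * (((x : G) * x)⁻¹ * c * (x * x)) := by group
          _ = (x * x) * c := by rw [h4]
      exact h5.symm
    obtain ⟨m, hm⟩ := sq_gen (hodd x x.2.1)
    have e6 : Commute (x : G) c := by
      rw [← hm]; exact e5.pow_left m
    have e7 : c * c = 1 := by
      have h4 : (x : G)⁻¹ * c * x = c := by rw [mul_assoc, ← e6.eq]; group
      rw [e4] at h4
      calc c * c = c⁻¹ * c := by rw [h4]
        _ = 1 := by group
    have e8 : c = 1 := DD_invol hC h2 hab hcD e7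
    apply Subtype.ext
    rw [hy, e8, mul_one]
  have h1 := Nat.card_le_card_of_injective f hf
  have h3 : Nat.card (KK a b u) = (KK a b u).ncard := rfl
  rw [h3] at h1
  exact h1

theorem CD_relIndex_le {q : ℕ} (h2 : E2 G) (hcard : ∀ P : Sylow 2 G, Nat.card P = q) {a b : Sylow 2 G} {t : G}
    (ht : t ∈ (a : Subgroup G)) (ht1 : t ≠ 1) : (CD a b t).relIndex (DD a b) ≤ q - 1 := by
  classical
  have hmem : ∀ d ∈ DD a b, d * t * d⁻¹ ∈ ((a : Subgroup G) : Set G) \ {1} := by
    intro d hd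
    refine ⟨(mem_normalizer_iff.1 ((stab_iff a d).1 hd.1) t).1 ht, ?_⟩
    intro h
    apply ht1
    have h3 : d * t * d⁻¹ = 1 := h
    have : t = d⁻¹ * (d * t * d⁻¹) * d := by group
    rw [this, h3]; group
  have h1 : ∀ x y : DD a b, x⁻¹ * y ∈ (CD a b t).subgroupOf (DD a b) ↔ (x : G) * t * (x : G)⁻¹ = y * t * (y : G)⁻¹ := by
    intro x y
    constructor
    · rintro ⟨-, h⟩
      have h3 := mem_centralizer_singleton_iff.1 h
      have h4 : ((x : G)⁻¹ * y) * t = t * ((x : G)⁻¹ * y) := h3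
      calc (x : G) * t * (x : G)⁻¹ = x * (t * ((x : G)⁻¹ * y)) * (y : G)⁻¹ := by group
        _ = x * (((x : G)⁻¹ * y) * t) * (y : G)⁻¹ := by rw [h4]
        _ = _ := by group
    · intro h
      refine ⟨(x⁻¹ * y).2, mem_centralizer_singleton_iff.2 ?_⟩
      show ((x : G)⁻¹ * y) * t = t * ((x : G)⁻¹ * y)
      calc ((x : G)⁻¹ * y) * t = (x : G)⁻¹ * (y * t * (y : G)⁻¹) * y := by group
        _ = (x : G)⁻¹ * (x * t * (x : G)⁻¹) * y := by rw [h]
        _ = _ := by group
  let f : (DD a b) ⧸ (CD a b t).subgroupOf (DD a b) → ↥(((a : Subgroup G) : Set G) \ {1}) :=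
    Quotient.lift (fun d : DD a b => (⟨d * t * (d : G)⁻¹, hmem d d.2⟩ : ↥(((a : Subgroup G) : Set G) \ {1})))
      (fun x y hxy => Subtype.ext ((h1 x y).1 (QuotientGroup.leftRel_apply.1 hxy)))
  have hf : Function.Injective f := by
    intro x y
    induction x using QuotientGroup.induction_on with | _ x => ?_
    induction y using QuotientGroup.induction_on with | _ y => ?_
    intro h
    exact QuotientGroup.eq.2 ((h1 x y).2 (congrArg Subtype.val h))
  have h3 := Nat.card_le_card_of_injective f hf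
  have h4 : Nat.card ↥(((a : Subgroup G) : Set G) \ {1}) = q - 1 := by
    have h5 : Nat.card ↥(((a : Subgroup G) : Set G) \ {1}) = (((a : Subgroup G) : Set G) \ {1}).ncard := rfl
    rw [h5, Set.ncard_sdiff_singleton_of_mem (a : Subgroup G).one_mem]
    have h6 : ((a : Subgroup G) : Set G).ncard = Nat.card a := rfl
    rw [h6, hcard a]
  rw [h4] at h3
  exact h3

/-- type I primes do not divide the index of `C_D(u)` -/
theorem typeI_not_dvd (hC : Cj G) (h2 : E2 G) {a b : Sylow 2 G} (hab : a ≠ b) {u t : G} (hu : u ∈ FF a b)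
    (ht1 : t ≠ 1) (htt : t * t = 1) {s : ℕ} (hs : s.Prime) (hsd : s ∣ Nat.card (centralizer ({t} : Set G))) :
    ¬ s ∣ (CD a b u).relIndex (DD a b) := by
  intro h
  have hfs : Fact s.Prime := ⟨hs⟩
  have hodd := odd_DD hC h2 hab
  have hs2 : s ≠ 2 := by
    rintro rfl
    have h3 : 2 ∣ Nat.card (DD a b) := h.trans (Subgroup.relIndex_dvd_card _ _)
    rw [Nat.odd_iff] at hodd
    omega
  obtain ⟨R, hRD, hRs, hRi, hRc⟩ := H1Zam.exists_sylow_comm hu.1 (DD a b) hodd (fun x hx => FF_conj hu hx) s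
    (fun y hy => hC.noinv hs hs2 ht1 htt hsd u y hu.1 hy)
  have hRC : R ≤ CD a b u := by
    intro y hy
    exact ⟨hRD hy, mem_centralizer_singleton_iff.2 (hRc y hy).symm⟩
  apply hRi
  rw [← Subgroup.relIndex_mul_relIndex R (CD a b u) (DD a b) hRC (CD_le a b u)]
  exact h.mul_left _

theorem relIndex_dvd (hC : Cj G) (h2 : E2 G) {a b : Sylow 2 G} (hab : a ≠ b) {u t : G} (hu : u ∈ FF a b)
    (ht1 : t ≠ 1) (htt : t * t = 1) : (CD a b u).relIndex (DD a b) ∣ (CD a b t).relIndex (DD a b) := by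
  have hcop : Nat.Coprime ((CD a b u).relIndex (DD a b)) (Nat.card (CD a b t)) := by
    rw [Nat.coprime_iff_gcd_eq_one]
    by_contra hne
    obtain ⟨s, hs, hsd⟩ := Nat.exists_prime_and_dvd hne
    refine typeI_not_dvd hC h2 hab hu ht1 htt hs ?_ (hsd.trans (Nat.gcd_dvd_left _ _))
    exact (hsd.trans (Nat.gcd_dvd_right _ _)).trans (card_dvd_of_le inf_le_right)
  have h1 := Cores.card_mul_relIndex (CD_le a b u)
  have h3 := Cores.card_mul_relIndex (CD_le a b t)
  apply hcop.dvd_of_dvd_mul_left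
  rw [h3, ← h1]
  exact Dvd.intro_left _ rfl

theorem card_FF_le {q : ℕ} (hC : Cj G) (h2 : E2 G) (hcard : ∀ P : Sylow 2 G, Nat.card P = q) (hq : 2 ≤ q)
    {a b : Sylow 2 G} (hab : a ≠ b) : (FF a b).ncard ≤ q - 1 := by
  rcases Set.eq_empty_or_nonempty (FF a b) with h | ⟨u, hu⟩
  · rw [h, Set.ncard_empty]; omega
  · obtain ⟨t, ht⟩ : ∃ t : (a : Subgroup G), t ≠ 1 := by
      have : Nontrivial (a : Subgroup G) := Finite.one_lt_card_iff_nontrivial.1 (by rw [hcard a]; omega)
      exact exists_ne 1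
    have ht1 : (t : G) ≠ 1 := fun h => ht (Subtype.ext h)
    have htt : (t : G) * t = 1 := h2 a t t.2
    calc (FF a b).ncard = (KK a b u).ncard := (card_KK hu).symm
      _ ≤ (CD a b u).relIndex (DD a b) := card_KK_le hC h2 hab hu
      _ ≤ (CD a b t).relIndex (DD a b) := Nat.le_of_dvd (Nat.pos_of_ne_zero (by
          exact Subgroup.index_ne_zero_of_finite (H := (CD a b (t : G)).subgroupOf (DD a b)))) (relIndex_dvd hC h2 hab hu ht1 htt)
      _ ≤ q - 1 := CD_relIndex_le h2 hcard t.2 ht1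

end Cfsg.Agent.Lib.H1Same
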