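import Cfsg.Agent.Lib.H1SameB

set_option autoImplicit false
set_option linter.unusedSectionVars false
set_option linter.unusedVariables false

open Subgroup MulAction

namespace Cfsg.Agent.Lib.H1Same

variable {G : Type*} [Group G] [Finite G]

theorem exists_sylow_mem {u : G} (hu : u * u = 1) : ∃ c : Sylow 2 G, u ∈ (c : Subgroup G) := by
  have h1 : IsPGroup 2 (zpowers u) := by
    apply IsPGroup.of_card_dvd_pow (n := 1)
    rw [Nat.card_zpowers, pow_one]
    exact orderOf_dvd_of_pow_eq_one (by rw [pow_two, hu])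
  obtain ⟨P, hP⟩ := h1.exists_le_sylow
  exact ⟨P, hP (mem_zpowers u)⟩

/-- every point `b ≠ a` is reached from `a` by exactly `q - 1` involutions -/
theorem card_FF {q : ℕ} (hC : Cj G) (h2 : E2 G) (hcard : ∀ P : Sylow 2 G, Nat.card P = q) (hq : 2 ≤ q)
    {a b : Sylow 2 G} (hab : a ≠ b) : (FF a b).ncard = q - 1 := by
  classical
  have hfG : Fintype G := Fintype.ofFinite G
  have hfO : Fintype (Sylow 2 G) := Fintype.ofFinite _
  let J : Finset G := Finset.univ.filter (fun u => u * u = 1 ∧ u ∉ (a : Subgroup G))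
  have hJ : ∀ u, u ∈ J ↔ u * u = 1 ∧ u ∉ (a : Subgroup G) := fun u => by simp [J]
  have hJ1 : ∀ u ∈ J, u ≠ 1 := by
    rintro u hu rfl
    exact ((hJ 1).1 hu).2 (a : Subgroup G).one_mem
  let σ : G → Sylow 2 G := fun u => if h : ∃ c : Sylow 2 G, u ∈ (c : Subgroup G) then h.choose else a
  have hσ : ∀ u, u * u = 1 → u ∈ (σ u : Subgroup G) := by
    intro u hu
    have h : ∃ c : Sylow 2 G, u ∈ (c : Subgroup G) := exists_sylow_mem hu
    have h1 : σ u = h.choose := by simp only [σ]; rw [dif_pos h]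
    rw [h1]; exact h.choose_spec
  have e1 : J.card = ∑ c ∈ Finset.univ.erase a, (q - 1) := by
    rw [Finset.card_eq_sum_card_fiberwise (f := σ) (t := Finset.univ.erase a)]
    · apply Finset.sum_congr rfl
      intro c hc
      have hca : c ≠ a := Finset.ne_of_mem_erase hc
      have h1 : (J.filter (fun u => σ u = c) : Finset G) = (Finset.univ.filter (fun u => u ∈ (c : Subgroup G))).erase 1 := by
        ext u
        simp only [Finset.mem_filter, Finset.mem_erase, Finset.mem_univ, true_and]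
        constructor
        · rintro ⟨h1, h3⟩
          refine ⟨hJ1 u h1, ?_⟩
          rw [← h3]; exact hσ u ((hJ u).1 h1).1
        · rintro ⟨h1, h3⟩
          have huu := h2 c u h3
          refine ⟨(hJ u).2 ⟨huu, fun h4 => hca (TI hC h2 c a h3 h4 h1)⟩, ?_⟩
          exact TI hC h2 (σ u) c (hσ u huu) h3 h1
      rw [h1, Finset.card_erase_of_mem (by simp [(c : Subgroup G).one_mem])]
      have h3 : (Finset.univ.filter (fun u => u ∈ (c : Subgroup G))).card = q := by
        rw [← hcard c, ← Fintype.card_subtype, Nat.card_eq_fintype_card]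
      rw [h3]
    · intro u hu
      rw [Finset.mem_coe] at hu ⊢
      rw [Finset.mem_erase]
      refine ⟨?_, Finset.mem_univ _⟩
      intro h
      apply ((hJ u).1 hu).2
      rw [← h]; exact hσ u ((hJ u).1 hu).1
  have e2 : J.card = ∑ c ∈ Finset.univ.erase a, (FF a c).ncard := by
    rw [Finset.card_eq_sum_card_fiberwise (f := fun u => u • a) (t := Finset.univ.erase a)]
    · apply Finset.sum_congr rfl
      intro c hc
      have hca : c ≠ a := Finset.ne_of_mem_erase hc
      have h1 : FF a c = ((J.filter (fun u => u • a = c) : Finset G) : Set G) := by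
        ext u
        simp only [Finset.coe_filter, Set.mem_ofPred_eq]
        constructor
        · rintro ⟨h1, h3⟩
          refine ⟨(hJ u).2 ⟨h1, ?_⟩, h3⟩
          intro h4
          apply hca
          rw [← h3]
          exact (stab_iff a u).2 (le_normalizer h4)
        · rintro ⟨h1, h3⟩
          exact ⟨((hJ u).1 h1).1, h3⟩
      rw [h1, Set.ncard_coe_finset]
    · intro u hu
      rw [Finset.mem_coe] at hu ⊢
      rw [Finset.mem_erase]
      refine ⟨?_, Finset.mem_univ _⟩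
      intro h
      exact ((hJ u).1 hu).2 (mem_of_normalizer h2 a ((stab_iff a u).1 h) ((hJ u).1 hu).1)
  have e3 := (Finset.sum_eq_sum_iff_of_le (s := Finset.univ.erase a) (f := fun c => (FF a c).ncard)
    (g := fun _ => q - 1) (fun c hc => card_FF_le hC h2 hcard hq (Finset.ne_of_mem_erase hc).symm)).1
    (by rw [← e1, ← e2])
  exact e3 b (Finset.mem_erase.2 ⟨hab.symm, Finset.mem_univ b⟩)

section pair

variable {q r : ℕ} (hC : Cj G) (h2 : E2 G) (hcard : ∀ P : Sylow 2 G, Nat.card P = q) (hr : r.Prime) (hr2 : r ≠ 2)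
  (hqr : q = r + 1) {a b : Sylow 2 G} (hab : a ≠ b)
include hC h2 hcard hr hr2 hqr hab

theorem idx_eq {u : G} (hu : u ∈ FF a b) : (CD a b u).relIndex (DD a b) = r := by
  have hq : 2 ≤ q := by have := hr.two_le; omega
  obtain ⟨t, ht⟩ : ∃ t : (a : Subgroup G), t ≠ 1 := by
    have : Nontrivial (a : Subgroup G) := Finite.one_lt_card_iff_nontrivial.1 (by rw [hcard a]; omega)
    exact exists_ne 1
  have ht1 : (t : G) ≠ 1 := fun h => ht (Subtype.ext h)
  have htt : (t : G) * t = 1 := h2 a t t.2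
  have h3 := card_FF hC h2 hcard hq hab
  have h4 : (FF a b).ncard = (KK a b u).ncard := (card_KK hu).symm
  have h5 := card_KK_le hC h2 hab hu
  have h6 := Nat.le_of_dvd (Nat.pos_of_ne_zero (by
          exact Subgroup.index_ne_zero_of_finite (H := (CD a b (t : G)).subgroupOf (DD a b)))) (relIndex_dvd hC h2 hab hu ht1 htt)
  have h7 := CD_relIndex_le h2 hcard (b := b) t.2 ht1
  have h8 : (CD a b (t : G)).relIndex (DD a b) = ((CD a b (t : G)).subgroupOf (DD a b)).index := rfl
  omega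

theorem exists_FF : ∃ u, u ∈ FF a b := by
  have hq : 2 ≤ q := by have := hr.two_le; omega
  have h3 := card_FF hC h2 hcard hq hab
  have h4 : (FF a b).Nonempty := by
    apply Set.nonempty_of_ncard_ne_zero
    have := hr.two_le
    omega
  exact h4

/-- `r` is a prime of type II -/
theorem typeII {t : G} (ht1 : t ≠ 1) (htt : t * t = 1) : ¬ r ∣ Nat.card (centralizer ({t} : Set G)) := by
  intro h
  obtain ⟨u, hu⟩ := exists_FF hC h2 hcard hr hr2 hqr hab
  apply typeI_not_dvd hC h2 hab hu ht1 htt hr h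
  rw [idx_eq hC h2 hcard hr hr2 hqr hab hu]

theorem FF_ne_one {u : G} (hu : u ∈ FF a b) : u ≠ 1 := by
  rintro rfl
  exact hab ((one_smul G a).symm.trans hu.2)

theorem card_DD {u : G} (hu : u ∈ FF a b) : Nat.card (CD a b u) * r = Nat.card (DD a b) := by
  rw [← idx_eq hC h2 hcard hr hr2 hqr hab hu]
  exact Cores.card_mul_relIndex (CD_le a b u)

theorem not_dvd_CD {u : G} (hu : u ∈ FF a b) : ¬ r ∣ Nat.card (CD a b u) := by
  intro h
  exact typeII hC h2 hcard hr hr2 hqr hab (FF_ne_one hC h2 hcard hr hr2 hqr hab hu) hu.1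
    (h.trans (card_dvd_of_le inf_le_right))

/-- the subgroup `B` -/
theorem exists_B {u : G} (hu : u ∈ FF a b) : ∃ R : Subgroup G, R ≤ DD a b ∧ Nat.card R = r ∧
    (∀ y, y ∈ R ↔ y ∈ DD a b ∧ u * y * u = y⁻¹) ∧ (∀ g ∈ DD a b, ∀ y ∈ R, g * y * g⁻¹ ∈ R) := by
  classical
  have hfr : Fact r.Prime := ⟨hr⟩
  have huinv : u⁻¹ = u := inv_eq_of_mul_eq_one_left hu.1
  have hu1 := FF_ne_one hC h2 hcard hr hr2 hqr hab hu
  have hodd := odd_DD hC h2 hab
  have hA : zpowers u ≤ normalizer ((DD a b : Subgroup G) : Set G) := by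
    rw [zpowers_le]
    apply SylowTools.mem_normalizer_of_forall
    intro y hy
    rw [huinv]; exact FF_conj hu hy
  have hcop : (Nat.card (zpowers u)).Coprime (Nat.card (DD a b)) := by
    rw [Nat.card_zpowers]
    have h1 : orderOf u ∣ 2 := orderOf_dvd_of_pow_eq_one (by rw [pow_two, hu.1])
    exact Nat.Coprime.coprime_dvd_left h1 (Nat.coprime_two_left.2 hodd)
  obtain ⟨R, hRD, hRr, hRi, hRn⟩ := CoprimeAction.exists_invariant_sylow hA hcop
    (Or.inl (by
      have : IsMulCommutative (zpowers u) := inferInstance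
      exact Group.isSolvable_of_comm (fun a b => this.is_comm.comm a b))) r
  have hcD := card_DD hC h2 hcard hr hr2 hqr hab hu
  have hnd := not_dvd_CD hC h2 hcard hr hr2 hqr hab hu
  have hRc : Nat.card R = r := by
    obtain ⟨k, hk⟩ := IsPGroup.iff_card.1 hRr
    have h1 := Cores.card_mul_relIndex hRD
    rw [hk, ← hcD] at h1
    have hk1 : k ≠ 0 := by
      rintro rfl
      rw [pow_zero, one_mul] at h1
      apply hRi
      rw [h1]; exact Dvd.intro_left _ rfl
    have hk2 : k < 2 := by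
      by_contra hk2
      push Not at hk2
      apply hnd
      have h3 : r ^ 2 ∣ Nat.card (CD a b u) * r := by
        rw [← h1]; exact (pow_dvd_pow r hk2).mul_right _
      rw [pow_two] at h3
      exact Nat.dvd_of_mul_dvd_mul_right hr.pos h3
    have hk3 : k = 1 := by omega
    rw [hk, hk3, pow_one]
  have hun := hRn (mem_zpowers u)
  have huR : ∀ y ∈ R, u * y * u ∈ R := by
    intro y hy
    have := (mem_normalizer_iff.1 hun y).1 hy
    rwa [huinv] at this
  -- an inverted generator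
  obtain ⟨y0, hy0, hy0u⟩ : ∃ y ∈ R, u * y ≠ y * u := by
    by_contra hcon
    push Not at hcon
    apply typeII hC h2 hcard hr hr2 hqr hab hu1 hu.1
    rw [← hRc]
    apply card_dvd_of_le
    intro y hy
    rw [mem_centralizer_singleton_iff]
    exact (hcon y hy).symm
  obtain ⟨z, hz⟩ : ∃ z, z = y0⁻¹ * (u * y0 * u) := ⟨_, rfl⟩
  have hzR : z ∈ R := by rw [hz]; exact R.mul_mem (R.inv_mem hy0) (huR y0 hy0)
  have hz1 : z ≠ 1 := by
    intro h
    apply hy0u
    rw [hz] at h
    have h3 : y0 = u * y0 * u := inv_mul_eq_one.1 h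
    calc u * y0 = (u * y0 * u) * u := by rw [mul_assoc (u * y0), hu.1, mul_one]
      _ = y0 * u := by rw [← h3]
  have hzu : u * z * u = z⁻¹ := by
    rw [hz]
    have e1 : (y0⁻¹ * (u * y0 * u))⁻¹ = u⁻¹ * y0⁻¹ * u⁻¹ * y0 := by group
    rw [e1, huinv]
    calc u * (y0⁻¹ * (u * y0 * u)) * u = u * y0⁻¹ * u * y0 * (u * u) := by simp only [mul_assoc]
      _ = u * y0⁻¹ * u * y0 := by rw [hu.1, mul_one]
  have hRu : ∀ y ∈ R, u * y * u = y⁻¹ := by
    intro y hy
    have h1 := mem_zpowers_of_prime_card (G := R) (p := r) hRc (g := ⟨z, hzR⟩) (g' := ⟨y, hy⟩)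
      (by intro h; exact hz1 (congrArg Subtype.val h))
    obtain ⟨n, hn⟩ := mem_zpowers_iff.1 h1
    have h3 : z ^ n = y := congrArg Subtype.val hn
    have h4 : u * z ^ n * u⁻¹ = (z ^ n)⁻¹ := by
      rw [← conj_zpow, huinv, hzu, inv_zpow]
    rw [huinv, h3] at h4
    exact h4
  have hKR : (R : Set G) = KK a b u := by
    apply Set.eq_of_subset_of_ncard_le
    · intro y hy
      exact ⟨hRD hy, hRu y hy⟩
    · rw [card_KK hu, card_FF hC h2 hcard (by have := hr.two_le; omega) hab]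
      have h1 : (R : Set G).ncard = Nat.card R := rfl
      rw [h1, hRc, hqr]; omega
    · exact Set.toFinite _
  have hmem : ∀ y, y ∈ R ↔ y ∈ DD a b ∧ u * y * u = y⁻¹ := by
    intro y
    have h1 : y ∈ (R : Set G) ↔ y ∈ KK a b u := by rw [hKR]
    exact h1
  refine ⟨R, hRD, hRc, hmem, ?_⟩
  intro g hg y hy
  rw [hmem]
  have hyD := hRD hy
  refine ⟨(DD a b).mul_mem ((DD a b).mul_mem hg hyD) ((DD a b).inv_mem hg), ?_⟩
  -- c = g⁻¹ (u g u) is in R
  obtain ⟨c, hc⟩ : ∃ c, c = g⁻¹ * (u * g * u) := ⟨_, rfl⟩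
  have hcR : c ∈ R := by
    rw [hmem]
    refine ⟨by rw [hc]; exact (DD a b).mul_mem ((DD a b).inv_mem hg) (FF_conj hu hg), ?_⟩
    rw [hc]
    have e1 : (g⁻¹ * (u * g * u))⁻¹ = u⁻¹ * g⁻¹ * u⁻¹ * g := by group
    rw [e1, huinv]
    calc u * (g⁻¹ * (u * g * u)) * u = u * g⁻¹ * u * g * (u * u) := by simp only [mul_assoc]
      _ = u * g⁻¹ * u * g := by rw [hu.1, mul_one]
  have hgu : u * g * u = g * c := by rw [hc]; group
  have hgu' : u * g⁻¹ * u = c⁻¹ * g⁻¹ := by
    have h3 : (u * g * u)⁻¹ = c⁻¹ * g⁻¹ := by rw [hgu, mul_inv_rev]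
    rw [← h3]
    have : (u * g * u)⁻¹ = u⁻¹ * g⁻¹ * u⁻¹ := by group
    rw [this, huinv]
  have hcy : c * y⁻¹ = y⁻¹ * c := by
    have h1 := mem_zpowers_of_prime_card (G := R) (p := r) hRc (g := ⟨z, hzR⟩) (g' := ⟨y, hy⟩)
      (by intro h; exact hz1 (congrArg Subtype.val h))
    have h3 := mem_zpowers_of_prime_card (G := R) (p := r) hRc (g := ⟨z, hzR⟩) (g' := ⟨c, hcR⟩)
      (by intro h; exact hz1 (congrArg Subtype.val h))
    obtain ⟨n, hn⟩ := mem_zpowers_iff.1 h1
    obtain ⟨m, hm⟩ := mem_zpowers_iff.1 h3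
    have e1 : z ^ n = y := congrArg Subtype.val hn
    have e2 : z ^ m = c := congrArg Subtype.val hm
    rw [← e1, ← e2]
    have := ((Commute.refl z).zpow_zpow m n).inv_right
    exact this.eq
  calc u * (g * y * g⁻¹) * u = (u * g * u) * (u * y * u) * (u * g⁻¹ * u) := by
        have : (u * g * u) * (u * y * u) * (u * g⁻¹ * u) = u * g * (u * u) * y * (u * u) * g⁻¹ * u := by
          simp only [mul_assoc]
        rw [this, hu.1]; simp only [mul_assoc, mul_one, one_mul]
    _ = g * (c * y⁻¹) * c⁻¹ * g⁻¹ := by rw [hgu, hgu', hRu y hy]; simp only [mul_assoc]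
    _ = (g * y * g⁻¹)⁻¹ := by rw [hcy]; group

/-- uniqueness of the subgroup of order `r` -/
theorem B_unique {R R' : Subgroup G} (hRD : R ≤ DD a b) (hRc : Nat.card R = r)
    (hn : ∀ g ∈ DD a b, ∀ y ∈ R, g * y * g⁻¹ ∈ R) (hRD' : R' ≤ DD a b) (hRc' : Nat.card R' = r) : R' = R := by
  classical
  have hfr : Fact r.Prime := ⟨hr⟩
  obtain ⟨u, hu⟩ := exists_FF hC h2 hcard hr hr2 hqr hab
  have hcD := card_DD hC h2 hcard hr hr2 hqr hab hu
  have hnd := not_dvd_CD hC h2 hcard hr hr2 hqr hab hu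
  have hRp : IsPGroup r R := IsPGroup.of_card (n := 1) (by rw [hRc, pow_one])
  have hRp' : IsPGroup r R' := IsPGroup.of_card (n := 1) (by rw [hRc', pow_one])
  have hidx : ¬ r ∣ R.relIndex (DD a b) := by
    intro h
    apply hnd
    have h1 := Cores.card_mul_relIndex hRD
    rw [hRc, ← hcD] at h1
    have h3 : R.relIndex (DD a b) = Nat.card (CD a b u) := by
      apply Nat.eq_of_mul_eq_mul_left hr.pos
      rw [h1]; ring
    rwa [h3] at h
  obtain ⟨k, hk, hkk⟩ := SylowTools.conj_into_of_sylow_of_subgroup hRD hRp hidx hRD' hRp'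
  have h1 : R' ≤ R := by
    intro y hy
    have h3 := hn k⁻¹ ((DD a b).inv_mem hk) _ (hkk y hy)
    have h4 : k⁻¹ * (k * y * k⁻¹) * k⁻¹⁻¹ = y := by group
    rwa [h4] at h3
  exact Subgroup.eq_of_le_of_card_ge h1 (by rw [hRc, hRc'])

end pair

end Cfsg.Agent.Lib.H1Same
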