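import Cfsg.Agent.Lib.H1ZamB
import Cfsg.Agent.S0885

set_option autoImplicit false
set_option linter.unusedSectionVars false
set_option linter.unusedVariables false

open Subgroup MulAction

namespace Cfsg.Agent.Lib.H1Zam

variable {G Ω : Type*} [Group G] [Finite G] [MulAction G Ω] [Finite Ω]
variable {q r : ℕ} {S X : Ω → Subgroup G} {B : Ω → Ω → Subgroup G} {G0 H : Subgroup G} {D : Set Ω}

/-- the permutation representation on `D` -/
theorem exists_perm (hinv : ∀ h ∈ H, ∀ c ∈ D, h • c ∈ D) :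
    ∃ φ : H →* Equiv.Perm D, ∀ (h : H) (c : D), ((φ h c : D) : Ω) = (h : G) • (c : Ω) := by
  let act : MulAction H D :=
    { smul := fun h c => ⟨(h : G) • (c : Ω), hinv h h.2 c c.2⟩
      one_smul := fun c => Subtype.ext (one_smul G (c : Ω))
      mul_smul := fun g h c => Subtype.ext (mul_smul (g : G) (h : G) (c : Ω)) }
  exact ⟨@MulAction.toPermHom H D _ act, fun h c => rfl⟩

theorem odd_dvd_pow_two {m k : ℕ} (hm : Odd m) (h : m ∣ 2 ^ k) : m = 1 := by
  obtain ⟨j, -, hj⟩ := (Nat.dvd_prime_pow Nat.prime_two).1 h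
  rcases Nat.eq_zero_or_pos j with h0 | h0
  · rw [hj, h0, pow_zero]
  · exfalso
    rw [hj] at hm
    have : Even (2 ^ j) := (Nat.even_pow.2 ⟨even_two, by omega⟩)
    exact (Nat.not_even_iff_odd.2 hm) this

theorem caseA (A : Amb q r S X B G0) (hH : Good S X B G0 H D)
    (hK : ∀ a ∈ D, ∀ b ∈ D, a ≠ b → ∀ x ∈ X a, x ∈ X b → x ∈ H → ∀ c ∈ D, x • c = c) : D.ncard = q + 1 := by
  classical
  obtain ⟨a, ha, b, hb, hab⟩ := hH.two
  have hfin : Fintype D := Fintype.ofFinite D
  have hcardD : Fintype.card D = D.ncard := by rw [← Nat.card_eq_fintype_card]; rfl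
  have hq4 := A.q4
  have hqr := A.qr
  -- numerical data
  have hcp := card_points A hH ha hb hab
  obtain ⟨m, hm⟩ : Nat.card ↥((X a ⊓ X b) ⊓ H) ∣ Nat.card ↥(X a ⊓ H) :=
    card_dvd_of_le (fun x hx => ⟨hx.1.1, hx.2⟩)
  have hmodd : Odd m := by
    have h1 : m ∣ Nat.card (X a) := (Dvd.intro_left _ hm.symm).trans (card_dvd_of_le inf_le_left)
    exact (A.Xodd a).of_dvd_nat h1
  have hn' : D.ncard - 1 = q * m := by
    apply Nat.eq_of_mul_eq_mul_right (Nat.card_pos (α := ↥((X a ⊓ X b) ⊓ H)))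
    rw [hcp, hm]; ring
  have hDpos : 0 < D.ncard := (Set.ncard_pos (Set.toFinite D)).2 ⟨a, ha⟩
  suffices hm1 : m = 1 by
    rw [hm1, mul_one] at hn'
    omega
  have hmpos : 0 < m := hmodd.pos
  have hqm : 4 ≤ q * m := by nlinarith
  have hD5 : 5 ≤ Fintype.card D := by rw [hcardD]; omega
  obtain ⟨φ, hφ⟩ := exists_perm hH.inv
  have hφ1 : ∀ h : H, (∀ c ∈ D, (h : G) • c = c) → φ h = 1 := by
    intro h hh
    apply Equiv.ext
    intro c
    apply Subtype.ext
    rw [hφ, hh c c.2]; rfl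
  let Gb : Subgroup (Equiv.Perm D) := φ.range
  have hsm : ∀ (g : Gb) (c : D), g • c = (g : Equiv.Perm D) c := fun g c => rfl
  have hGb : ∀ g : Gb, ∃ h : H, φ h = g := fun g => g.2
  let ρ : H →* Gb := φ.rangeRestrict
  have hρ : ∀ (h : H) (c : D), ((ρ h • c : D) : Ω) = (h : G) • (c : Ω) := fun h c => hφ h c
  have hρs : Function.Surjective ρ := φ.rangeRestrict_surjective
  -- elements fixing two points
  have htwo : ∀ (g : Gb) (c d : D), c ≠ d → g • c = c → g • d = d →
      ∃ y : G, ∃ hy : y ∈ B c d, ∃ hyH : y ∈ H, g = ρ ⟨y, hyH⟩ := by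
    intro g c d hcd hgc hgd
    obtain ⟨h, rfl⟩ := hρs g
    have hcd' : (c : Ω) ≠ d := fun h => hcd (Subtype.ext h)
    have h1 : (h : G) • (c : Ω) = c := by rw [← hρ, hgc]
    have h2 : (h : G) • (d : Ω) = d := by rw [← hρ, hgd]
    obtain ⟨x, hx, hxd, y, hy, hxy⟩ := A.dec2 hcd' (hH.le h.2) h1 h2
    have hyH := hH.hB c c.2 d d.2 hcd' hy
    have hxH : x ∈ H := by
      have h3 : x = h * y⁻¹ := by rw [hxy]; group
      rw [h3]; exact H.mul_mem h.2 (H.inv_mem hyH)
    refine ⟨y, hy, hyH, ?_⟩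
    have h3 : h = ⟨x, hxH⟩ * ⟨y, hyH⟩ := Subtype.ext hxy
    have h4 : ρ ⟨x, hxH⟩ = 1 := Subtype.ext (hφ1 ⟨x, hxH⟩ (hK c c.2 d d.2 hcd' x hx hxd hxH))
    rw [h3, map_mul, h4, one_mul]
  have hZ3 : ∀ g : Gb, ∀ c d e : D, c ≠ d → d ≠ e → c ≠ e → g • c = c → g • d = d → g • e = e → g = 1 := by
    intro g c d e hcd hde hce hc hd he
    obtain ⟨y, hy, hyH, rfl⟩ := htwo g c d hcd hc hd
    have hcd' : (c : Ω) ≠ d := fun h => hcd (Subtype.ext h)
    by_cases hy1 : y = 1
    · have : (⟨y, hyH⟩ : H) = 1 := Subtype.ext hy1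
      rw [this, map_one]
    · exfalso
      have h1 : y • (e : Ω) = e := by
        have := hρ ⟨y, hyH⟩ e
        rw [he] at this
        exact this.symm
      rcases A.Bfix' hcd' hy hy1 h1 with h | h
      · exact hce (Subtype.ext h.symm)
      · exact hde (Subtype.ext h.symm)
  have h2tr : MulAction.IsMultiplyPretransitive Gb D 2 := by
    rw [MulAction.is_two_pretransitive_iff]
    intro c d e f hcd hef
    obtain ⟨h, hh, h1, h2⟩ := trans2 A hH c.2 d.2 e.2 f.2 (fun h => hcd (Subtype.ext h)) (fun h => hef (Subtype.ext h))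
    exact ⟨ρ ⟨h, hh⟩, Subtype.ext (by rw [hρ]; exact h1), Subtype.ext (by rw [hρ]; exact h2)⟩
  have hBne : ∀ c d : D, c ≠ d → ∃ g : Gb, g ≠ 1 ∧ g • c = c ∧ g • d = d := by
    intro c d hcd
    have hcd' : (c : Ω) ≠ d := fun h => hcd (Subtype.ext h)
    have h1 : Nontrivial (B c d) := Finite.one_lt_card_iff_nontrivial.1 (by rw [A.Bc c d hcd']; exact A.rp.one_lt)
    obtain ⟨y, hy⟩ := exists_ne (1 : B c d)
    have hy1 : (y : G) ≠ 1 := fun h => hy (Subtype.ext h)
    have hyH := hH.hB c c.2 d d.2 hcd' y.2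
    refine ⟨ρ ⟨y, hyH⟩, ?_, Subtype.ext (by rw [hρ]; exact (A.Bst c d hcd' y y.2).1),
      Subtype.ext (by rw [hρ]; exact (A.Bst c d hcd' y y.2).2)⟩
    intro h
    obtain ⟨e, he⟩ : ∃ e : D, e ∉ ({c, d} : Finset D) := by
      by_contra hcon
      push Not at hcon
      have : Fintype.card D ≤ ({c, d} : Finset D).card := Finset.card_le_card (fun x _ => hcon x)
      have h2 := Finset.card_le_two (a := c) (b := d)
      omega
    simp only [Finset.mem_insert, Finset.mem_singleton, not_or] at he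
    have h2 := hρ ⟨y, hyH⟩ e
    rw [h, one_smul] at h2
    rcases A.Bfix' hcd' y.2 hy1 h2.symm with h3 | h3
    · exact he.1 (Subtype.ext h3)
    · exact he.2 (Subtype.ext h3)
  let a' : D := ⟨a, ha⟩
  let b' : D := ⟨b, hb⟩
  have hab' : a' ≠ b' := fun h => hab (congrArg Subtype.val h)
  -- involutions of `S c`
  have hfree : ∀ (c : D) (s : G) (hs : s ∈ S c), s ≠ 1 → ∀ d : D, ρ ⟨s, hH.hS c c.2 hs⟩ • d = d → d = c := by
    intro c s hs hs1 d hd
    by_contra hdc
    apply hs1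
    refine A.Sfree c d s hs (fun h => hdc (Subtype.ext h)) ?_
    have := hρ ⟨s, hH.hS c c.2 hs⟩ d
    rw [hd] at this
    exact this.symm
  have hnoreg : ∀ N : Subgroup Gb, N.Normal → MulAction.IsPretransitive N D → ∃ c : D, stabilizer N c ≠ ⊥ := by
    intro N hN htr
    by_contra hcon
    push Not at hcon
    have hcardN : Nat.card N = Fintype.card D := by
      have h1 := (stabilizer N a').card_mul_index
      rw [hcon a', Subgroup.card_bot, one_mul, ← Nat.card_eq_fintype_card] at *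
      rw [← h1, ← hcon a', index_stabilizer_of_transitive]
    -- the involutions act without fixed points on N
    have hcent : ∀ (s : G) (hs : s ∈ S a), s ≠ 1 → ∀ n ∈ N, ρ ⟨s, hH.hS a ha hs⟩ * n = n * ρ ⟨s, hH.hS a ha hs⟩ → n = 1 := by
      intro s hs hs1 n hn hc
      have h1 : ρ ⟨s, hH.hS a ha hs⟩ • (n • a') = n • a' := by
        rw [← mul_smul, hc, mul_smul]
        congr 1
        apply Subtype.ext
        rw [hρ]; exact A.Sst a s hs
      have h2 := hfree a' s hs hs1 _ h1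
      have h3 : (⟨n, hn⟩ : N) ∈ stabilizer N a' := h2
      rw [hcon a', mem_bot] at h3
      exact congrArg Subtype.val h3
    have hNodd : Odd (Nat.card N) := by
      rw [hcardN, hcardD]
      have h1 : D.ncard = q * m + 1 := by omega
      rw [h1]
      have : Even q := by
        have h2 := A.rp.odd_of_ne_two A.r2
        rw [hqr]; exact h2.add_one
      exact (this.mul_right m).add_one
    have hinvert : ∀ (s : G) (hs : s ∈ S a), s ≠ 1 → ∀ n ∈ N,
        ρ ⟨s, hH.hS a ha hs⟩ * n * ρ ⟨s, hH.hS a ha hs⟩ = n⁻¹ := by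
      intro s hs hs1 n hn
      set t := ρ ⟨s, hH.hS a ha hs⟩ with ht
      have htt : t * t = 1 := by
        rw [ht, ← map_mul]
        have : (⟨s, hH.hS a ha hs⟩ : H) * ⟨s, hH.hS a ha hs⟩ = 1 := Subtype.ext (A.Sx a s hs)
        rw [this, map_one]
      have htinv : t⁻¹ = t := inv_eq_of_mul_eq_one_left htt
      let ψ : N →* N := (MulAut.conjNormal t).toMonoidHom
      have hψ : ∀ n : N, ((ψ n : N) : Gb) = t * n * t := by
        intro n
        show ((MulAut.conjNormal t n : N) : Gb) = _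
        rw [MulAut.conjNormal_apply, htinv]
      have hfpf : MonoidHom.FixedPointFree ψ := by
        intro n hn
        have h1 := congrArg Subtype.val hn
        rw [hψ] at h1
        apply Subtype.ext
        apply hcent s hs hs1 n n.2
        rw [← ht]
        calc t * (n : Gb) = (t * n * t) * t := by rw [mul_assoc (t * (n : Gb)), htt, mul_one]
          _ = n * t := by rw [h1]
      have hinvol : Function.Involutive ψ := by
        intro n
        apply Subtype.ext
        rw [hψ, hψ]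
        calc t * (t * (n : Gb) * t) * t = (t * t) * n * (t * t) := by simp only [mul_assoc]
          _ = n := by rw [htt, one_mul, mul_one]
      have h2 := hfpf.coe_eq_inv_of_involutive hinvol
      have h3 := congrArg Subtype.val (congrFun h2 ⟨n, hn⟩)
      rw [hψ] at h3
      exact h3
    -- two distinct involutions
    have hSn : Nat.card (S a) = q := A.Sc a
    obtain ⟨s, hs, hs1⟩ : ∃ s ∈ S a, s ≠ 1 := by
      have h1 : Nontrivial (S a) := Finite.one_lt_card_iff_nontrivial.1 (by rw [hSn]; omega)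
      obtain ⟨y, hy⟩ := exists_ne (1 : S a)
      exact ⟨y, y.2, fun h => hy (Subtype.ext h)⟩
    obtain ⟨t, ht, ht1, hts⟩ : ∃ t ∈ S a, t ≠ 1 ∧ t ≠ s := by
      by_contra hcon
      push Not at hcon
      have : Nat.card (S a) ≤ 2 := by
        have hf : Fintype (S a) := Fintype.ofFinite _
        rw [Nat.card_eq_fintype_card]
        have h1 : (Finset.univ : Finset (S a)) ⊆ {1, ⟨s, hs⟩} := by
          intro x _
          by_cases hx : (x : G) = 1
          · rw [Finset.mem_insert]; left; exact Subtype.ext hx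
          · rw [Finset.mem_insert]; right
            rw [Finset.mem_singleton]; exact Subtype.ext (hcon x x.2 hx)
        calc Fintype.card (S a) = (Finset.univ : Finset (S a)).card := rfl
          _ ≤ ({1, ⟨s, hs⟩} : Finset (S a)).card := Finset.card_le_card h1
          _ ≤ 2 := Finset.card_le_two
      omega
    have hst1 : t * s ≠ 1 := by
      intro h
      apply hts
      have h1 : s * s = 1 := A.Sx a s hs
      exact mul_right_cancel (h.trans h1.symm)
    have hNn : Nontrivial N := Finite.one_lt_card_iff_nontrivial.1 (by rw [hcardN]; omega)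
    obtain ⟨n, hn⟩ := exists_ne (1 : N)
    apply hn
    apply Subtype.ext
    apply hcent (t * s) ((S a).mul_mem ht hs) hst1 n n.2
    have h1 := hinvert s hs hs1 n n.2
    have h2 := hinvert t ht ht1 _ (N.inv_mem n.2)
    have h3 : ρ ⟨t * s, hH.hS a ha ((S a).mul_mem ht hs)⟩ = ρ ⟨t, hH.hS a ha ht⟩ * ρ ⟨s, hH.hS a ha hs⟩ := by
      rw [← map_mul]; rfl
    have hss : ρ ⟨s, hH.hS a ha hs⟩ * ρ ⟨s, hH.hS a ha hs⟩ = 1 := by
      rw [← map_mul]
      have : (⟨s, hH.hS a ha hs⟩ : H) * ⟨s, hH.hS a ha hs⟩ = 1 := Subtype.ext (A.Sx a s hs)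
      rw [this, map_one]
    have htt : ρ ⟨t, hH.hS a ha ht⟩ * ρ ⟨t, hH.hS a ha ht⟩ = 1 := by
      rw [← map_mul]
      have : (⟨t, hH.hS a ha ht⟩ : H) * ⟨t, hH.hS a ha ht⟩ = 1 := Subtype.ext (A.Sx a t ht)
      rw [this, map_one]
    rw [h3]
    rw [inv_inv] at h2
    have h4 : ρ ⟨s, hH.hS a ha hs⟩ * (n : Gb) = (n : Gb)⁻¹ * ρ ⟨s, hH.hS a ha hs⟩ := by
      rw [← h1, mul_assoc, hss, mul_one]
    have h5 : ρ ⟨t, hH.hS a ha ht⟩ * (n : Gb)⁻¹ = (n : Gb) * ρ ⟨t, hH.hS a ha ht⟩ := by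
      have h6 : ρ ⟨t, hH.hS a ha ht⟩ * (n : Gb)⁻¹ =
          (ρ ⟨t, hH.hS a ha ht⟩ * (n : Gb)⁻¹ * ρ ⟨t, hH.hS a ha ht⟩) * ρ ⟨t, hH.hS a ha ht⟩ := by
        rw [mul_assoc (ρ ⟨t, hH.hS a ha ht⟩ * (n : Gb)⁻¹), htt, mul_one]
      rw [h6, h2]
    rw [mul_assoc, h4, ← mul_assoc, h5, mul_assoc]
  have hZ : Cfsg.IsZassenhausGroup Gb D := by
    refine ⟨inferInstance, h2tr, hZ3, ?_, hnoreg⟩
    obtain ⟨g, hg, h1, h2⟩ := hBne a' b' hab'
    exact ⟨g, hg, a', b', hab', h1, h2⟩
  -- the two point stabilizer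
  have hBH : B a b ≤ H := hH.hB a ha b hb hab
  let ψ : B a b →* Gb := ρ.comp (Subgroup.inclusion hBH)
  have hψr : stabilizer Gb a' ⊓ stabilizer Gb b' = ψ.range := by
    apply le_antisymm
    · rintro g ⟨h1, h2⟩
      obtain ⟨y, hy, hyH, rfl⟩ := htwo g a' b' hab' h1 h2
      exact ⟨⟨y, hy⟩, rfl⟩
    · rintro _ ⟨y, rfl⟩
      exact ⟨Subtype.ext (by show ((ρ (Subgroup.inclusion hBH y) • a' : D) : Ω) = a; rw [hρ]; exact (A.Bst a b hab y y.2).1),
        Subtype.ext (by show ((ρ (Subgroup.inclusion hBH y) • b' : D) : Ω) = b; rw [hρ]; exact (A.Bst a b hab y y.2).2)⟩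
  have he : Nat.card ↥(stabilizer Gb a' ⊓ stabilizer Gb b' : Subgroup Gb) ∣ r := by
    rw [hψr, ← A.Bc a b hab]; exact Subgroup.card_range_dvd ψ
  have hodde := (A.rp.odd_of_ne_two A.r2).of_dvd_nat he
  have hele := Nat.le_of_dvd A.rp.pos he
  -- the kernel
  let T : Subgroup H :=
    { carrier := {h | ∃ s ∈ S a, ∃ x ∈ X a, (h : G) = s * x}
      one_mem' := ⟨1, (S a).one_mem, 1, (X a).one_mem, by simp⟩
      mul_mem' := by
        rintro h k ⟨s, hs, x, hx, h1⟩ ⟨s', hs', x', hx', h2⟩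
        refine ⟨s * s', (S a).mul_mem hs hs', x * x', (X a).mul_mem hx hx', ?_⟩
        rw [Subgroup.coe_mul, h1, h2]
        have := A.SX a s' hs' x hx
        calc s * x * (s' * x') = s * (x * s') * x' := by group
          _ = s * (s' * x) * x' := by rw [this]
          _ = _ := by group
      inv_mem' := by
        rintro h ⟨s, hs, x, hx, h1⟩
        refine ⟨s⁻¹, (S a).inv_mem hs, x⁻¹, (X a).inv_mem hx, ?_⟩
        rw [Subgroup.coe_inv, h1, A.SX a s hs x hx, mul_inv_rev] }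
  let Hb : Subgroup Gb := T.map ρ
  have hHa : Hb ≤ stabilizer Gb a' := by
    rintro _ ⟨h, ⟨s, hs, x, hx, h1⟩, rfl⟩
    apply Subtype.ext
    rw [hρ, h1]
    show (s * x) • a = a
    rw [mul_smul, A.Xst a x hx, A.Sst a s hs]
  have hHfix : ∀ u ∈ Hb, u ≠ 1 → ∀ c : D, u • c = c → c = a' := by
    rintro _ ⟨h, ⟨s, hs, x, hx, h1⟩, rfl⟩ hu1 c hc
    by_contra hca
    apply hu1
    have hca' : (c : Ω) ≠ a := fun h => hca (Subtype.ext h)
    have h2 : (s * x) • (c : Ω) = c := by
      have := hρ h c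
      rw [hc, h1] at this
      exact this.symm
    have h3 := pow_split (A.Sx a s hs) (pow_card_X a hx) (A.Xodd a) (A.SX a s hs x hx)
    have h4 : s • (c : Ω) = c := by rw [← h3]; exact smul_pow_eq h2 _
    have h5 := A.Sfree a c s hs hca' h4
    rw [h5, one_mul] at h1 h2
    have h6 : ρ h = 1 := Subtype.ext (hφ1 h (by
      rw [h1]
      exact hK a ha c c.2 hca'.symm x hx (A.XX a c x hx h2) (h1 ▸ h.2)))
    exact h6
  have hHcard : Nat.card Hb + 1 = Fintype.card D := by
    have h1 := (stabilizer Hb b').card_mul_index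
    have h2 : stabilizer Hb b' = ⊥ := by
      rw [eq_bot_iff]
      intro u hu
      rw [mem_bot]
      by_contra hu1
      exact hab' (hHfix u u.2 (fun h => hu1 (Subtype.ext h)) b' hu).symm
    have h3 : orbit Hb b' = {a'}ᶜ := by
      ext c
      constructor
      · rintro ⟨u, rfl⟩
        intro h
        have h4 : (u : Gb) • b' = (u : Gb) • a' := by
          have h5 : (u : Gb) • a' = a' := hHa u.2
          rw [h5]; exact h
        exact hab' (MulAction.injective (u : Gb) h4).symm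
      · intro hc
        have hca : a ≠ (c : Ω) := fun h => hc (Subtype.ext h.symm)
        obtain ⟨h, hh, h4, h5⟩ := trans_stab A hH ha hb c.2 hab hca
        obtain ⟨s, hs, x, hx, y, hy, h6⟩ := A.dec a b hab h (hH.le hh) h4
        have hyH := hBH hy
        have hsx : s * x ∈ H := by
          have h7 : s * x = h * y⁻¹ := by rw [h6]; group
          rw [h7]; exact H.mul_mem hh (H.inv_mem hyH)
        refine ⟨⟨ρ ⟨s * x, hsx⟩, ⟨⟨s * x, hsx⟩, ⟨s, hs, x, hx, rfl⟩, rfl⟩⟩, ?_⟩
        apply Subtype.ext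
        show ((ρ ⟨s * x, hsx⟩ • b' : D) : Ω) = c
        rw [hρ, ← h5, h6]
        show (s * x) • b = (s * x * y) • b
        rw [mul_smul (s * x) y, (A.Bst a b hab y hy).2]
    rw [h2, Subgroup.card_bot, one_mul] at h1
    have h4 : (⊥ : Subgroup Hb).index = ({a'}ᶜ : Set D).ncard := by
      rw [← h2, index_stabilizer, h3]
    rw [h4, Set.ncard_compl, Nat.card_eq_fintype_card (α := D), Set.ncard_singleton] at h1
    rw [← h1]
    omega
  rcases Cfsg.Agent.S0885.result hZ hab' (Nat.card Hb) _ hHcard.symm rfl hodde Hb hHa hHcard hHfix with h | ⟨h, -, -⟩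
  · -- small case
    by_contra hm1
    have hm2 : 2 ≤ m := by omega
    have h1 : Nat.card Hb = q * m := by rw [← hn', ← hcardD, ← hHcard]; omega
    rw [h1] at h
    have h2 : q * 2 ≤ q * m := Nat.mul_le_mul_left q hm2
    omega
  · obtain ⟨k, hk⟩ := IsPGroup.iff_card.1 h
    have h1 : Nat.card Hb = q * m := by rw [← hn', ← hcardD, ← hHcard]; omega
    rw [h1] at hk
    exact odd_dvd_pow_two hmodd (hk ▸ Dvd.intro_left q rfl)

end Cfsg.Agent.Lib.H1Zam
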