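import Cfsg.Agent.Lib.H1ZamE
import Cfsg.Agent.Lib.H1ZamC
import Cfsg.Agent.S0205

set_option autoImplicit false
set_option linter.unusedSectionVars false
set_option linter.unusedVariables false

open Subgroup MulAction
open scoped Pointwise commutatorElement

namespace Cfsg.Agent.Lib.H1Zam

theorem lt_normalizer_inf {G : Type*} [Group G] [Finite G] {p : ℕ} [Fact p.Prime] {Q P : Subgroup G}
    (hP : IsPGroup p P) (hQP : Q < P) : Q < Subgroup.normalizer (Q : Set G) ⊓ P := by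
  have hnil : Group.IsNilpotent P := hP.isNilpotent
  have h1 : Q.subgroupOf P < ⊤ := by
    rw [lt_top_iff_ne_top]
    intro h
    rw [Subgroup.subgroupOf_eq_top] at h
    exact absurd h (not_le_of_gt hQP)
  have h2 := Group.normalizerCondition_of_isNilpotent (G := P) (Q.subgroupOf P) h1
  refine lt_of_le_of_ne (le_inf Subgroup.le_normalizer hQP.le) ?_
  intro heq
  obtain ⟨x, hx1, hx2⟩ := SetLike.exists_of_lt h2
  apply hx2
  rw [Subgroup.mem_subgroupOf, heq]
  refine Subgroup.mem_inf.mpr ⟨?_, x.2⟩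
  rw [Subgroup.mem_normalizer_iff] at hx1 ⊢
  intro h
  constructor
  · intro hh
    have := (hx1 ⟨h, hQP.le hh⟩).mp (Subgroup.mem_subgroupOf.mpr hh)
    simpa [Subgroup.mem_subgroupOf] using this
  · intro hh
    have hxh : h ∈ P := by
      have h3 : (x : G) * h * (x : G)⁻¹ ∈ P := hQP.le hh
      have h4 : h = (x : G)⁻¹ * ((x : G) * h * (x : G)⁻¹) * x := by group
      rw [h4]
      exact mul_mem (mul_mem (inv_mem x.2) h3) x.2
    have := (hx1 ⟨h, hxh⟩).mpr (by
      rw [Subgroup.mem_subgroupOf]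
      simpa using hh)
    simpa [Subgroup.mem_subgroupOf] using this

/-- elements of order prime to the index lie in a normal subgroup -/
theorem mem_of_coprime_index {G : Type*} [Group G] [Finite G] (K : Subgroup G) [K.Normal] {g : G}
    (h : (orderOf g).Coprime K.index) : g ∈ K := by
  obtain ⟨m, hm⟩ := exists_pow_eq_self_of_coprime (n := K.index) (x := g) h.symm
  rw [← hm]
  exact K.pow_mem (K.pow_index_mem g) m

variable {G Ω : Type*} [Group G] [Finite G] [MulAction G Ω] [Finite Ω]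
variable {q r : ℕ} {S X : Ω → Subgroup G} {B : Ω → Ω → Subgroup G} {G0 H : Subgroup G} {D : Set Ω}

theorem caseB (A : Amb q r S X B G0) (hH : Good S X B G0 H D)
    (IH : ∀ (H' : Subgroup G) (D' : Set Ω), Good S X B G0 H' D' → Nat.card H' < Nat.card H → D'.ncard = q + 1)
    {a b : Ω} (ha : a ∈ D) (hb : b ∈ D) (hab : a ≠ b)
    (hne : ∃ c ∈ D, ∃ x ∈ X a, x ∈ X b ∧ x ∈ H ∧ x • c ≠ c) : D.ncard = q + 1 := by
  classical
  obtain ⟨X1, hX1⟩ : ∃ X1, X1 = X a ⊓ X b ⊓ H := ⟨_, rfl⟩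
  have hX1a : X1 ≤ X a := by rw [hX1]; exact inf_le_left.trans inf_le_left
  have hX1b : X1 ≤ X b := by rw [hX1]; exact inf_le_left.trans inf_le_right
  have hX1H : X1 ≤ H := by rw [hX1]; exact inf_le_right
  have hne1 : ∃ c ∈ D, ∃ y ∈ X1, y • c ≠ c := by
    obtain ⟨c, hc, x, h1, h2, h3, h4⟩ := hne
    exact ⟨c, hc, x, by rw [hX1]; exact ⟨⟨h1, h2⟩, h3⟩, h4⟩
  obtain ⟨hc, hst0⟩ := local_data A hH IH ha hb hab X1 hX1a hX1b hne1
  have haL : a ∈ fixD D X1 := ⟨ha, fun y hy => A.Xst a y (hX1a hy)⟩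
  have hbL : b ∈ fixD D X1 := ⟨hb, fun y hy => A.Xst b y (hX1b hy)⟩
  have hst : ∀ c ∈ fixD D X1, ∀ x ∈ X c, x ∈ H → x ∈ normalizer (X1 : Set G) → x ∈ X1 := by
    intro c hcL x hx hxH hxn
    rw [hX1]
    exact ⟨⟨hst0 c hcL a haL x hx hxH hxn, hst0 c hcL b hbL x hx hxH hxn⟩, hxH⟩
  have hg := good_local A hH ha hb hab X1 hX1a hX1b
  have hX1L : ∀ c ∈ fixD D X1, X1 ≤ X c := fun c hcL z hz => A.XX a c z (hX1a hz) (hcL.2 z hz)
  -- elements of H normalizing X1
  have hC : ∀ h ∈ H, h ∈ normalizer (X1 : Set G) → ∃ l : G, (∀ x ∈ X1, l * x = x * l) ∧ ∃ m ∈ X1, h = l * m := by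
    have h0 : ∀ h ∈ H, h ∈ normalizer (X1 : Set G) → h • a = a →
        ∃ l : G, (∀ x ∈ X1, l * x = x * l) ∧ ∃ m ∈ X1, h = l * m := by
      intro h hh hn hha
      obtain ⟨s, hs, x, hx, y, hy, hxy⟩ := A.dec a b hab h (hH.le hh) hha
      have hsH := hg.hS a haL hs
      have hyH := hg.hB a haL b hbL hab hy
      have hxH : x ∈ H ⊓ normalizer (X1 : Set G) := by
        have h3 : x = s⁻¹ * h * y⁻¹ := by rw [hxy]; group
        rw [h3]; exact mul_mem (mul_mem (inv_mem hsH) ⟨hh, hn⟩) (inv_mem hyH)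
      have hx1 := hst a haL x hx hxH.1 hxH.2
      refine ⟨s * y, ?_, x, hx1, ?_⟩
      · intro z hz
        have h1 := A.SX a s hs z (hX1a hz)
        have h2 := A.BX a b hab y hy z (hX1a hz) (hX1b hz)
        calc s * y * z = s * (y * z) := by group
          _ = (s * z) * y := by rw [h2]; group
          _ = z * (s * y) := by rw [h1]; group
      · have h2 := A.BX a b hab y hy x hx (hX1b hx1)
        rw [hxy, mul_assoc, ← h2]; group
    intro h hh hn
    by_cases hha : h • a = a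
    · exact h0 h hh hn hha
    · have h1L : h • a ∈ fixD D X1 := hg.inv h ⟨hh, hn⟩ a haL
      obtain ⟨u, hu, huu, hua, -, huc⟩ := hg.hu a haL (h • a) h1L (fun h => hha h.symm)
      have huL : u • (h • a) = a := by rw [← hua, smul_smul, huu, one_smul]
      obtain ⟨l, hl, m, hm, hlm⟩ := h0 (u * h) (H.mul_mem hu.1 hh) (mul_mem hu.2 hn) (by rw [mul_smul, huL])
      refine ⟨u * l, ?_, m, hm, ?_⟩
      · intro x hx
        rw [mul_assoc, hl x hx, ← mul_assoc, huc x (hX1a hx) (hX1L _ h1L hx), mul_assoc]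
      · rw [mul_assoc, ← hlm, ← mul_assoc, huu, one_mul]
  -- the permutation representation of X1
  obtain ⟨φ, hφ⟩ := exists_perm hH.inv
  let f : X1 →* Equiv.Perm D := φ.comp (Subgroup.inclusion hX1H)
  have hf : ∀ (x : X1) (c : D), ((f x c : D) : Ω) = (x : G) • (c : Ω) := fun x c => hφ _ c
  have hX1odd : Odd (Nat.card X1) := (A.Xodd a).of_dvd_nat (card_dvd_of_le hX1a)
  have hX1sol : Group.IsSolvable X1 := Cfsg.Agent.S0205.result hX1odd
  have hRsol : Group.IsSolvable f.range := Group.isSolvable_of_surjective f.rangeRestrict_surjective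
  have hRnt : Nontrivial f.range := by
    obtain ⟨c, hc, y, hy, hyc⟩ := hne1
    refine ⟨⟨f.rangeRestrict ⟨y, hy⟩, 1, ?_⟩⟩
    intro h
    apply hyc
    have h1 : f ⟨y, hy⟩ = 1 := congrArg Subtype.val h
    have h2 := hf ⟨y, hy⟩ ⟨c, hc⟩
    rw [h1] at h2
    exact h2.symm
  let α : X1 →* Abelianization f.range := (Abelianization.of).comp f.rangeRestrict
  have hαs : Function.Surjective α := (QuotientGroup.mk_surjective).comp f.rangeRestrict_surjective
  have hAb : Nontrivial (Abelianization f.range) := by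
    have h1 := Group.IsSolvable.commutator_lt_top_of_nontrivial (G := f.range)
    exact QuotientGroup.nontrivial_iff.2 h1.ne
  have hAbf : Finite (Abelianization f.range) := Finite.of_surjective α hαs
  obtain ⟨s, hs, hsd⟩ := Nat.exists_prime_and_dvd (Finite.one_lt_card (α := Abelianization f.range)).ne'
  have hfs : Fact s.Prime := ⟨hs⟩
  have hsX1 : s ∣ Nat.card X1 := hsd.trans (Subgroup.card_dvd_of_surjective α hαs)
  have hsX : s ∣ Nat.card (X a) := hsX1.trans (card_dvd_of_le hX1a)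
  obtain ⟨P⟩ : Nonempty (Sylow s X1) := inferInstance
  obtain ⟨z, hzP, hz⟩ : ∃ z ∈ (P : Subgroup X1), α z ≠ 1 := by
    by_contra hcon
    push Not at hcon
    have h1 : (P : Subgroup X1) ≤ α.ker := fun z hz => hcon z hz
    have h2 : α.ker.index ∣ (P : Subgroup X1).index := Subgroup.index_dvd_of_le h1
    rw [Subgroup.index_ker, MonoidHom.range_eq_top.2 hαs, Subgroup.card_top] at h2
    exact P.not_dvd_index (hsd.trans h2)
  have hzf : f z ≠ 1 := by
    intro h
    apply hz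
    show Abelianization.of (f.rangeRestrict z) = 1
    have : f.rangeRestrict z = 1 := Subtype.ext h
    rw [this, map_one]
  have hzc : z ∉ commutator X1 := fun h => hz (Abelianization.commutator_subset_ker α h)
  -- Q
  set Q : Subgroup G := (P : Subgroup X1).map X1.subtype with hQ
  have hQX1 : Q ≤ X1 := map_subtype_le _
  have hQs : IsPGroup s Q := P.isPGroup'.map _
  have hzQ : (z : G) ∈ Q := ⟨z, hzP, rfl⟩
  have hneQ : ∃ c ∈ D, ∃ y ∈ Q, y • c ≠ c := by
    by_contra hcon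
    push Not at hcon
    apply hzf
    apply Equiv.ext
    intro c
    apply Subtype.ext
    rw [hf]
    exact hcon c c.2 z hzQ
  obtain ⟨hcQ, -⟩ := local_data A hH IH ha hb hab Q (hQX1.trans hX1a) (hQX1.trans hX1b) hneQ
  have hLL : fixD D X1 = fixD D Q := by
    apply Set.eq_of_subset_of_ncard_le ?_ ?_ (Set.toFinite _)
    · intro c hc
      exact ⟨hc.1, fun y hy => hc.2 y (hQX1 hy)⟩
    · rw [hc, hcQ]
  have hgQ := good_local A hH ha hb hab Q (hQX1.trans hX1a) (hQX1.trans hX1b)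
  -- normalizers
  have hNN : ∀ h ∈ H, h ∈ normalizer (Q : Set G) → h ∈ normalizer (X1 : Set G) := by
    have h0 : ∀ h ∈ H, h ∈ normalizer (Q : Set G) → ∀ x ∈ X1, h * x * h⁻¹ ∈ X1 := by
      intro h hh hn x hx
      apply mem_X1_of_fix A hH ha hb hab hX1 hc (H.mul_mem (H.mul_mem hh (hX1H hx)) (H.inv_mem hh))
      intro c hcL
      have h1 : h⁻¹ • c ∈ fixD D X1 := by
        rw [hLL] at hcL ⊢
        exact hgQ.inv h⁻¹ ⟨H.inv_mem hh, (normalizer (Q : Set G)).inv_mem hn⟩ c hcL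
      rw [mul_smul, mul_smul, h1.2 x hx, smul_inv_smul]
    intro h hh hn
    rw [mem_normalizer_iff]
    intro x
    constructor
    · exact h0 h hh hn x
    · intro hx
      have h1 := h0 h⁻¹ (H.inv_mem hh) ((normalizer (Q : Set G)).inv_mem hn) _ hx
      have h2 : h⁻¹ * (h * x * h⁻¹) * h⁻¹⁻¹ = x := by group
      rwa [h2] at h1
  -- Q is a Sylow subgroup of H
  have hQH : Q ≤ H := hQX1.trans hX1H
  have hQHs : IsPGroup s (Q.subgroupOf H) := hQs.comap_subtype
  obtain ⟨PH, hPH⟩ := hQHs.exists_le_sylow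
  set R : Subgroup G := (PH : Subgroup H).map H.subtype with hR
  have hRs : IsPGroup s R := PH.isPGroup'.map _
  have hRH : R ≤ H := map_subtype_le _
  have hQR : Q ≤ R := by
    intro x hx
    exact ⟨⟨x, hQH hx⟩, hPH hx, rfl⟩
  have hRQ : R = Q := by
    by_contra hRQ
    have hlt : Q < R := lt_of_le_of_ne hQR (fun h => hRQ h.symm)
    have h1 := lt_normalizer_inf hRs hlt
    -- N_R(Q) ≤ X1
    have h2 : normalizer (Q : Set G) ⊓ R ≤ X1 := by
      rintro x ⟨hx1, hx2⟩
      refine step2 A hH ha hb hab hX1 hc hst hs hsX (hRH hx2) (hNN x (hRH hx2) hx1) ?_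
      obtain ⟨k, hk⟩ := (IsPGroup.iff_orderOf.1 hRs) ⟨x, hx2⟩
      exact ⟨k, by rw [← hk, Subgroup.orderOf_mk]⟩
    have h3 : IsPGroup s (((normalizer (Q : Set G) ⊓ R)).subgroupOf X1) :=
      (hRs.to_le inf_le_right).comap_subtype
    have h4 : (P : Subgroup X1) ≤ ((normalizer (Q : Set G) ⊓ R)).subgroupOf X1 := by
      intro x hx
      exact h1.le ⟨x, hx, rfl⟩
    have h5 := P.is_maximal' h3 h4
    apply h1.not_ge
    intro x hx
    have h6 : (⟨x, h2 hx⟩ : X1) ∈ (P : Subgroup X1) := by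
      have h7 : (⟨x, h2 hx⟩ : X1) ∈ ((normalizer (Q : Set G) ⊓ R)).subgroupOf X1 := hx
      rw [h5] at h7
      exact h7
    exact ⟨_, h6, rfl⟩
  have hPHQ : (PH : Subgroup H) = Q.subgroupOf H := by
    rw [← hRQ, hR, subgroupOf, comap_map_eq_self_of_injective H.subtype_injective]
  -- the focal subgroup
  have hPHc : IsMulCommutative (PH : Subgroup H) := by
    constructor
    constructor
    intro x y
    apply Subtype.ext
    apply Subtype.ext
    exact A.ab s hs a hsX R hRs _ ⟨x, x.2, rfl⟩ _ ⟨y, y.2, rfl⟩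
  set C : Subgroup H := (⁅X1, X1⁆).subgroupOf H ⊓ (PH : Subgroup H) with hCd
  have hfoc : (PH : Subgroup H).focalSubgroup ≤ C := by
    apply FocalTools.focal_le
    intro x hx t ht hxt
    obtain ⟨g, hg'⟩ := isConj_iff.1 hxt
    obtain ⟨n, hn, hn'⟩ := Sylow.conj_eq_normalizer_conj_of_mem PH x g⁻¹ hx (by
      rw [inv_inv, hg']; exact ht)
    rw [inv_inv, hg'] at hn'
    refine ⟨?_, (PH : Subgroup H).mul_mem ((PH : Subgroup H).inv_mem hx) ht⟩
    have hnQ : (n : G) ∈ normalizer (Q : Set G) := by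
      rw [mem_normalizer_iff]
      intro y
      have hn1 : n ∈ normalizer ((PH : Subgroup H) : Set H) := hn
      rw [hPHQ] at hn1
      constructor
      · intro hy
        exact (mem_normalizer_iff.1 hn1 ⟨y, hQH hy⟩).1 hy
      · intro hy
        have hyH : y ∈ H := by
          have h1 : (n : G)⁻¹ * ((n : G) * y * (n : G)⁻¹) * n = y := by group
          rw [← h1]; exact H.mul_mem (H.mul_mem (H.inv_mem n.2) (hQH hy)) n.2
        exact (mem_normalizer_iff.1 hn1 ⟨y, hyH⟩).2 hy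
    obtain ⟨l, hl, m, hm, hlm⟩ := hC n n.2 (hNN n n.2 hnQ)
    have hxX1 : (x : G) ∈ X1 := by
      have : x ∈ Q.subgroupOf H := by rw [← hPHQ]; exact hx
      exact hQX1 this
    show (x : G)⁻¹ * (t : G) ∈ ⁅X1, X1⁆
    have h1 : (t : G) = m⁻¹ * x * m := by
      rw [hn']
      show (n : G)⁻¹ * x * n = _
      rw [hlm]
      have h2 := hl x hxX1
      have h3 : l⁻¹ * (x : G) = x * l⁻¹ := by
        calc l⁻¹ * (x : G) = l⁻¹ * (x * l) * l⁻¹ := by group
          _ = l⁻¹ * (l * x) * l⁻¹ := by rw [h2]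
          _ = x * l⁻¹ := by group
      calc (l * m)⁻¹ * (x : G) * (l * m) = m⁻¹ * (l⁻¹ * x) * l * m := by simp only [mul_inv_rev, mul_assoc]
        _ = m⁻¹ * x * m := by rw [h3]; group
    rw [h1]
    have h2 : (x : G)⁻¹ * (m⁻¹ * x * m) = ⁅(x : G)⁻¹, m⁻¹⁆ := by
      rw [commutatorElement_def]; group
    rw [h2]
    exact commutator_mem_commutator (X1.inv_mem hxX1) (X1.inv_mem hm)
  obtain ⟨K, hKn, hKc, hKP, hKsup, hKi⟩ := FocalTools.exists_normal_of_focal_le PH C inf_le_right hfoc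
  have hCne : C ≠ PH := by
    intro h
    have h1 : (⟨z, hQH hzQ⟩ : H) ∈ (PH : Subgroup H) := by rw [hPHQ]; exact hzQ
    rw [← h] at h1
    have h2 : (z : G) ∈ ⁅X1, X1⁆ := h1.1
    apply hzc
    have h3 : (commutator X1).map X1.subtype = ⁅X1, X1⁆ := by
      rw [_root_.commutator_def, map_commutator, ← MonoidHom.range_eq_map, range_subtype]
    rw [← h3] at h2
    obtain ⟨w, hw, hw'⟩ := h2
    have : w = z := Subtype.ext hw'
    rwa [← this]
  have hKidx : ∃ k, k ≠ 0 ∧ K.index = s ^ k := by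
    have h1 : C.relIndex (PH : Subgroup H) ∣ Nat.card (PH : Subgroup H) := Subgroup.relIndex_dvd_card _ _
    obtain ⟨n, hn⟩ := IsPGroup.iff_card.1 PH.isPGroup'
    rw [hn] at h1
    obtain ⟨k, -, hk⟩ := (Nat.dvd_prime_pow hs).1 h1
    refine ⟨k, ?_, by rw [hKi, hk]⟩
    rintro rfl
    rw [pow_zero, Subgroup.relIndex_eq_one] at hk
    exact hCne (le_antisymm inf_le_right hk)
  obtain ⟨k, hk0, hkidx⟩ := hKidx
  have hKmem : ∀ g : G, ∀ hg : g ∈ H, (orderOf g).Coprime s → g ∈ K.map H.subtype := by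
    intro g hg hcop
    refine ⟨⟨g, hg⟩, ?_, rfl⟩
    apply mem_of_coprime_index
    rw [Subgroup.orderOf_mk, hkidx]
    exact Nat.Coprime.pow_right k hcop
  have hs2 : Nat.Coprime 2 s := by
    rw [Nat.coprime_primes Nat.prime_two hs]; exact (A.s_ne_two hs hsX).symm
  have hinv2 : ∀ g : G, g * g = 1 → (orderOf g).Coprime s := by
    intro g hg
    exact Nat.Coprime.coprime_dvd_left (orderOf_dvd_of_pow_eq_one (by rw [pow_two, hg])) hs2
  have hsr : Nat.Coprime r s := by
    rw [Nat.coprime_primes A.rp hs]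
    rintro rfl
    exact A.Xr a hsX
  refine IH (K.map H.subtype) D ⟨(map_subtype_le _).trans hH.le, fun h hh c hc => hH.inv h (map_subtype_le _ hh) c hc, ?_, ?_,
    ?_, hH.two⟩ ?_
  · intro c hc g hg
    exact hKmem g (hH.hS c hc hg) (hinv2 g (A.Sx c g hg))
  · intro c hc d hd hcd g hg
    apply hKmem g (hH.hB c hc d hd hcd hg)
    have h1 : orderOf g ∣ r := by
      rw [← A.Bc c d hcd, ← Subgroup.orderOf_mk g hg]; exact orderOf_dvd_natCard _
    exact Nat.Coprime.coprime_dvd_left h1 hsr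
  · intro c hc d hd hcd
    obtain ⟨u, hu, h1, h2⟩ := hH.hu c hc d hd hcd
    exact ⟨u, hKmem u hu (hinv2 u h1), h1, h2⟩
  · rw [Subgroup.card_map_of_injective H.subtype_injective, ← K.card_mul_index, hkidx]
    have h1 : 1 < s ^ k := Nat.one_lt_pow hk0 hs.one_lt
    have h2 : 0 < Nat.card K := Nat.card_pos
    nlinarith

/-- **Theorem Z** -/
theorem main (A : Amb q r S X B G0) : ∀ (n : ℕ) (H : Subgroup G) (D : Set Ω), Nat.card H = n →
    Good S X B G0 H D → D.ncard = q + 1 := by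
  intro n
  induction n using Nat.strong_induction_on with
  | _ n ih =>
    intro H D hn hH
    have IH : ∀ (H' : Subgroup G) (D' : Set Ω), Good S X B G0 H' D' → Nat.card H' < Nat.card H →
        D'.ncard = q + 1 := fun H' D' hg hlt => ih (Nat.card H') (by rw [← hn]; exact hlt) H' D' rfl hg
    by_cases hK : ∀ a ∈ D, ∀ b ∈ D, a ≠ b → ∀ x ∈ X a, x ∈ X b → x ∈ H → ∀ c ∈ D, x • c = c
    · exact caseA A hH hK
    · push Not at hK
      obtain ⟨a, ha, b, hb, hab, x, hxa, hxb, hxH, c, hc, hxc⟩ := hK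
      exact caseB A hH IH ha hb hab ⟨c, hc, x, hxa, hxb, hxH, hxc⟩

end Cfsg.Agent.Lib.H1Zam
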