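import Cfsg.Agent.Lib.H1SameC
import Cfsg.Agent.Lib.H1ZamF
import Cfsg.Agent.S4025
import Cfsg.Agent.S0205

set_option autoImplicit false
set_option linter.unusedSectionVars false
set_option linter.unusedVariables false

open Subgroup MulAction Cfsg

namespace Cfsg.Agent.Lib.H1Same

variable {G : Type*} [Group G] [Finite G]

/-- the subgroup of order `r` of the two point stabilizer -/
def BB (r : ℕ) (a b : Sylow 2 G) : Subgroup G := sSup {R : Subgroup G | R ≤ DD a b ∧ Nat.card R = r}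

section pair

variable {q r : ℕ} (hC : Cj G) (h2 : E2 G) (hcard : ∀ P : Sylow 2 G, Nat.card P = q) (hr : r.Prime) (hr2 : r ≠ 2)
  (hqr : q = r + 1)
include hC h2 hcard hr hr2 hqr

theorem BB_spec {a b : Sylow 2 G} (hab : a ≠ b) : BB r a b ≤ DD a b ∧ Nat.card (BB r a b) = r ∧
    (∀ g ∈ DD a b, ∀ y ∈ BB r a b, g * y * g⁻¹ ∈ BB r a b) ∧
    (∀ R : Subgroup G, R ≤ DD a b → Nat.card R = r → R = BB r a b) ∧
    ∀ u ∈ FF a b, ∀ y, y ∈ BB r a b ↔ y ∈ DD a b ∧ u * y * u = y⁻¹ := by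
  obtain ⟨u0, hu0⟩ := exists_FF hC h2 hcard hr hr2 hqr hab
  obtain ⟨R, h3, h4, h5, h6⟩ := exists_B hC h2 hcard hr hr2 hqr hab hu0
  have huniq : ∀ R' : Subgroup G, R' ≤ DD a b → Nat.card R' = r → R' = R := fun R' h7 h8 =>
    B_unique hC h2 hcard hr hr2 hqr hab h3 h4 h6 h7 h8
  have hBR : BB r a b = R := by
    apply le_antisymm
    · apply sSup_le
      rintro R' ⟨h7, h8⟩
      rw [huniq R' h7 h8]
    · exact le_sSup ⟨h3, h4⟩
  rw [hBR]
  refine ⟨h3, h4, h6, huniq, ?_⟩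
  intro u hu
  obtain ⟨R', g3, g4, g5, g6⟩ := exists_B hC h2 hcard hr hr2 hqr hab hu
  rw [← huniq R' g3 g4]
  exact g5

theorem BB_fix {a b : Sylow 2 G} (hab : a ≠ b) {c : Sylow 2 G} (hc : ∀ y ∈ BB r a b, y • c = c) : c = a ∨ c = b := by
  by_contra hcon
  push Not at hcon
  obtain ⟨hca, hcb⟩ := hcon
  obtain ⟨h3, h4, h5, h6, h7⟩ := BB_spec hC h2 hcard hr hr2 hqr hab
  obtain ⟨i3, i4, i5, i6, i7⟩ := BB_spec hC h2 hcard hr hr2 hqr (Ne.symm hcb)
  obtain ⟨j3, j4, j5, j6, j7⟩ := BB_spec hC h2 hcard hr hr2 hqr (Ne.symm hca)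
  have e1 : BB r a b = BB r b c := i6 _ (fun y hy => ⟨(h3 hy).2, hc y hy⟩) h4
  have e2 : BB r a b = BB r a c := j6 _ (fun y hy => ⟨(h3 hy).1, hc y hy⟩) h4
  obtain ⟨u1, hu1⟩ := exists_FF hC h2 hcard hr hr2 hqr hab
  obtain ⟨u2, hu2⟩ := exists_FF hC h2 hcard hr hr2 hqr (Ne.symm hcb)
  obtain ⟨u3, hu3⟩ := exists_FF hC h2 hcard hr hr2 hqr (Ne.symm hca)
  have hnt : Nontrivial (BB r a b) := Finite.one_lt_card_iff_nontrivial.1 (by rw [h4]; exact hr.one_lt)
  obtain ⟨y, hy⟩ := exists_ne (1 : BB r a b)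
  have hy1 : (y : G) ≠ 1 := fun h => hy (Subtype.ext h)
  have f1 : ∀ z ∈ BB r a b, u1 * z * u1 = z⁻¹ := fun z hz => ((h7 u1 hu1 z).1 hz).2
  have f2 : ∀ z ∈ BB r a b, u2 * z * u2 = z⁻¹ := fun z hz => ((i7 u2 hu2 z).1 (e1 ▸ hz)).2
  have f3 : ∀ z ∈ BB r a b, u3 * z * u3 = z⁻¹ := fun z hz => ((j7 u3 hu3 z).1 (e2 ▸ hz)).2
  have u1i : u1⁻¹ = u1 := inv_eq_of_mul_eq_one_left hu1.1
  have u2i : u2⁻¹ = u2 := inv_eq_of_mul_eq_one_left hu2.1
  have u3i : u3⁻¹ = u3 := inv_eq_of_mul_eq_one_left hu3.1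
  obtain ⟨h, hh⟩ : ∃ h, h = u1 * u2 * u3 := ⟨_, rfl⟩
  have hha : h • a = a := by
    rw [hh, mul_smul, mul_smul, hu3.2, FF_symm hu2, FF_symm hu1]
  have hhy : h * y * h⁻¹ = (y : G)⁻¹ := by
    rw [hh]
    calc u1 * u2 * u3 * (y : G) * (u1 * u2 * u3)⁻¹ = u1 * (u2 * (u3 * y * u3⁻¹) * u2⁻¹) * u1⁻¹ := by
          simp only [mul_inv_rev, mul_assoc]
      _ = u1 * (u2 * ((y : G)⁻¹) * u2) * u1 := by rw [u3i, f3 y y.2, u2i, u1i]
      _ = (y : G)⁻¹ := by
        rw [f2 _ ((BB r a b).inv_mem y.2), inv_inv, f1 y y.2]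
  have hyo : orderOf (y : G) = r := by
    have h8 := orderOf_dvd_natCard y
    rw [h4] at h8
    rw [Subgroup.orderOf_coe]
    rcases (Nat.dvd_prime hr).1 h8 with h9 | h9
    · exact absurd (orderOf_eq_one_iff.1 h9) hy
    · exact h9
  obtain ⟨k, hk1, hk2⟩ := h2.exists_inv hr hr2 hyo hhy
  have hwa : (h ^ k) • a = a := by
    have h8 : h ∈ stabilizer G a := hha
    exact pow_mem h8 k
  have hwP := mem_of_normalizer h2 a ((stab_iff a _).1 hwa) hk1
  have hyN := (stab_iff a (y : G)).1 (h3 y.2).1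
  have h8 : (y : G) * (h ^ k) * (y : G)⁻¹ ∈ (a : Subgroup G) := (mem_normalizer_iff.1 hyN _).1 hwP
  have h9 : (h ^ k) * ((y : G) * (h ^ k) * (y : G)⁻¹) ∈ (a : Subgroup G) := (a : Subgroup G).mul_mem hwP h8
  have h10 : (h ^ k) * ((y : G) * (h ^ k) * (y : G)⁻¹) = ((y : G) * y)⁻¹ := by
    calc (h ^ k) * ((y : G) * (h ^ k) * (y : G)⁻¹) = ((h ^ k) * (y : G) * (h ^ k)) * (y : G)⁻¹ := by
          simp only [mul_assoc]
      _ = ((y : G) * y)⁻¹ := by rw [hk2, mul_inv_rev]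
  rw [h10] at h9
  have h11 := h2 a _ h9
  have h12 : (y : G) ^ 4 = 1 := by
    have h13 : (((y : G) * y)⁻¹ * ((y : G) * y)⁻¹)⁻¹ = 1 := by rw [h11, inv_one]
    rw [← h13]; group
  have h14 : r ∣ 2 ^ 2 := by rw [← hyo]; exact orderOf_dvd_of_pow_eq_one h12
  exact hr2 ((Nat.prime_dvd_prime_iff_eq hr Nat.prime_two).1 (hr.dvd_of_dvd_pow h14))

end pair

/-- the odd core of the normalizer -/
noncomputable def XX (a : Sylow 2 G) : Subgroup G :=
  (pPrimeCore 2 ↥(normalizer ((a : Subgroup G) : Set G))).map (normalizer ((a : Subgroup G) : Set G)).subtype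

theorem XX_le (a : Sylow 2 G) : XX a ≤ normalizer ((a : Subgroup G) : Set G) := map_subtype_le _

theorem odd_XX (a : Sylow 2 G) : Odd (Nat.card (XX a)) := by
  rw [XX, Subgroup.card_map_of_injective (normalizer ((a : Subgroup G) : Set G)).subtype_injective]
  exact Nat.coprime_two_right.1 (Cores.coprime_card_pPrimeCore 2 _)

theorem XX_normal (a : Sylow 2 G) {g x : G} (hg : g ∈ normalizer ((a : Subgroup G) : Set G)) (hx : x ∈ XX a) :
    g * x * g⁻¹ ∈ XX a := by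
  obtain ⟨y, hy, rfl⟩ := hx
  have hn : (pPrimeCore 2 ↥(normalizer ((a : Subgroup G) : Set G))).Normal := inferInstance
  exact ⟨⟨g, hg⟩ * y * ⟨g, hg⟩⁻¹, hn.conj_mem y hy ⟨g, hg⟩, rfl⟩

theorem inter_XX (a : Sylow 2 G) {x : G} (hx : x ∈ XX a) (hx' : x ∈ (a : Subgroup G)) : x = 1 := by
  have h1 : orderOf x ∣ Nat.card (XX a) := by rw [← Subgroup.orderOf_mk x hx]; exact orderOf_dvd_natCard _
  have h3 : orderOf x ∣ Nat.card a := by rw [← Subgroup.orderOf_mk x hx']; exact orderOf_dvd_natCard _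
  obtain ⟨k, hk⟩ := IsPGroup.iff_card.1 a.isPGroup'
  rw [hk] at h3
  have h4 : Nat.Coprime (Nat.card (XX a)) (2 ^ k) := Nat.Coprime.pow_right k (Nat.coprime_two_right.2 (odd_XX a))
  exact orderOf_eq_one_iff.1 (Nat.eq_one_of_dvd_coprimes h4 h1 h3)

theorem comm_XX (a : Sylow 2 G) {s x : G} (hs : s ∈ (a : Subgroup G)) (hx : x ∈ XX a) : s * x = x * s := by
  have h1 : s * x * s⁻¹ * x⁻¹ ∈ XX a := (XX a).mul_mem (XX_normal a (le_normalizer hs) hx) ((XX a).inv_mem hx)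
  have h3 : s * x * s⁻¹ * x⁻¹ ∈ (a : Subgroup G) := by
    have h4 : x * s⁻¹ * x⁻¹ ∈ (a : Subgroup G) :=
      (mem_normalizer_iff.1 (XX_le a hx) _).1 ((a : Subgroup G).inv_mem hs)
    have h5 : s * x * s⁻¹ * x⁻¹ = s * (x * s⁻¹ * x⁻¹) := by group
    rw [h5]; exact (a : Subgroup G).mul_mem hs h4
  have h6 := inter_XX a h1 h3
  calc s * x = (s * x * s⁻¹ * x⁻¹) * (x * s) := by group
    _ = x * s := by rw [h6, one_mul]

theorem normalizer_solvable (a : Sylow 2 G) : Group.IsSolvable ↥(normalizer ((a : Subgroup G) : Set G)) := by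
  set N := normalizer ((a : Subgroup G) : Set G) with hN
  have hPN : (a : Subgroup G) ≤ N := le_normalizer
  set P' : Sylow 2 N := a.subtype hPN with hP'
  have hP'c : ((P' : Subgroup N)) = (a : Subgroup G).subgroupOf N := rfl
  have hP'n : (P' : Subgroup N).Normal := by
    rw [hP'c]; exact normal_in_normalizer
  have h1 : Group.IsSolvable (P' : Subgroup N) := by
    have := P'.isPGroup'.isNilpotent
    infer_instance
  have h3 : Group.IsSolvable (N ⧸ (P' : Subgroup N)) := by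
    apply Cfsg.Agent.S0205.result
    have h4 : Nat.card (N ⧸ (P' : Subgroup N)) = (P' : Subgroup N).index := rfl
    rw [h4, ← Nat.not_even_iff_odd]
    intro h5
    exact P'.not_dvd_index h5.two_dvd
  exact Group.isSolvable_of_ker_le_range (P' : Subgroup N).subtype (QuotientGroup.mk' (P' : Subgroup N)) (by simp)

/-- characterization of the odd core -/
theorem mem_XX_iff (hC : Cj G) (h2 : E2 G) (a : Sylow 2 G) {x : G} :
    x ∈ XX a ↔ (∀ s ∈ (a : Subgroup G), s * x = x * s) ∧ Odd (orderOf x) := by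
  constructor
  · intro hx
    refine ⟨fun s hs => comm_XX a hs hx, ?_⟩
    apply (odd_XX a).of_dvd_nat
    rw [← Subgroup.orderOf_mk x hx]; exact orderOf_dvd_natCard _
  · rintro ⟨hx, hodd⟩
    have hxN : x ∈ normalizer ((a : Subgroup G) : Set G) := by
      apply SylowTools.mem_normalizer_of_forall
      intro s hs
      rw [← hx s hs, mul_inv_cancel_right]; exact hs
    obtain ⟨n, hn⟩ := IsPGroup.iff_card.1 a.isPGroup'
    have hsol := normalizer_solvable a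
    have hel : Cfsg.IsElementaryAbelian 2 (a : Subgroup G) :=
      ⟨⟨⟨fun x y => Subtype.ext (h2.comm a x.2 y.2)⟩⟩, fun x hx => by rw [pow_two]; exact h2 a x hx⟩
    -- work in the quotient
    set N := normalizer ((a : Subgroup G) : Set G) with hN
    have hPN : (a : Subgroup G) ≤ N := le_normalizer
    set P' : Sylow 2 N := a.subtype hPN with hP'
    have hP'c : ((P' : Subgroup N)) = (a : Subgroup G).subgroupOf N := rfl
    have hP'n : (P' : Subgroup N).Normal := by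
      rw [hP'c]; exact normal_in_normalizer
    set K := pPrimeCore 2 N with hK
    have hKn : K.Normal := inferInstance
    have hcore : pCore 2 (N ⧸ K) = (P' : Subgroup N).map (QuotientGroup.mk' K) := by
      have hs := QuotientGroup.mk'_surjective K
      apply le_antisymm
      · have hQp : IsPGroup 2 ((P' : Subgroup N).map (QuotientGroup.mk' K)) := P'.isPGroup'.map _
        have hQi : ¬ 2 ∣ ((P' : Subgroup N).map (QuotientGroup.mk' K)).index := by
          intro h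
          exact P'.not_dvd_index (h.trans (Subgroup.index_map_dvd _ hs))
        exact Cores.pCore_le_sylow (hQp.toSylow hQi)
      · exact Cores.le_pCore (hP'n.map _ hs) (P'.isPGroup'.map _)
    have h3 := Cores.centralizer_pCore_le (G := N ⧸ K) (p := 2) (Cores.pPrimeCore_quotient_pPrimeCore 2 N)
    have h4 : QuotientGroup.mk' K ⟨x, hxN⟩ ∈ centralizer (pCore 2 (N ⧸ K) : Set (N ⧸ K)) := by
      rw [hcore, mem_centralizer_iff]
      rintro _ ⟨s, hs, rfl⟩
      rw [← map_mul, ← map_mul]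
      congr 1
      exact Subtype.ext (hx s hs)
    have h5 := h3 h4
    obtain ⟨k, hk⟩ := (IsPGroup.iff_orderOf.1 (Cores.isPGroup_pCore 2 (N ⧸ K))) ⟨_, h5⟩
    rw [Subgroup.orderOf_mk] at hk
    have h6 : orderOf (QuotientGroup.mk' K ⟨x, hxN⟩) ∣ orderOf x := by
      rw [← Subgroup.orderOf_mk x hxN]; exact orderOf_map_dvd _ _
    have h7 : orderOf (QuotientGroup.mk' K ⟨x, hxN⟩) = 1 := by
      apply H1Zam.odd_dvd_pow_two (hodd.of_dvd_nat h6) (k := k)
      rw [hk]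
    have h8 : (⟨x, hxN⟩ : N) ∈ K := by
      rw [← QuotientGroup.ker_mk' K, MonoidHom.mem_ker]
      exact orderOf_eq_one_iff.1 h7
    exact ⟨_, h8, rfl⟩

theorem XX_conj (hC : Cj G) (h2 : E2 G) (a : Sylow 2 G) (g : G) {x : G} (hx : x ∈ XX a) : g * x * g⁻¹ ∈ XX (g • a) := by
  rw [mem_XX_iff hC h2] at hx ⊢
  refine ⟨?_, ?_⟩
  · rintro _ ⟨s, hs, rfl⟩
    show (g * s * g⁻¹) * (g * x * g⁻¹) = (g * x * g⁻¹) * (g * s * g⁻¹)
    calc (g * s * g⁻¹) * (g * x * g⁻¹) = g * (s * x) * g⁻¹ := by group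
      _ = g * (x * s) * g⁻¹ := by rw [hx.1 s hs]
      _ = _ := by group
  · rw [SylowTools.orderOf_conj']; exact hx.2

end Cfsg.Agent.Lib.H1Same
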