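import Cfsg.Agent.Lib.H1SameD
import Cfsg.Agent.Lib.ClSmall

set_option autoImplicit false
set_option linter.unusedSectionVars false
set_option linter.unusedVariables false

open Subgroup MulAction Cfsg

namespace Cfsg.Agent.Lib.H1Same

/-- the case of a four group -/
theorem card_twelve {M : Type*} [Group M] [Finite M] {Q : Subgroup M} (hQn : Q.Normal)
    (hQc : Nat.card Q = 4) (hce : centralizer (Q : Set M) ≤ Q) (hcop : (Nat.card Q).Coprime Q.index)
    (hcj : ∀ A B : Subgroup M, A ≤ Q → B ≤ Q → Nat.card A = Nat.card B →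
        ∃ g, B = A.map (MulAut.conj g).toMonoidHom) (hcomm : ∀ a b : Q, a * b = b * a)
    (hex : ∀ x ∈ Q, x ^ 2 = 1) : Nat.card M = 12 := by
  have h1 : Nat.card (MulAut Q) ∣ 6 := ClSmall.card_mulAut_dvd_of_card_four hQc
  have hker : (MulAut.conjNormal (H := Q)).ker = Q := by
    apply le_antisymm
    · intro x hx
      apply hce
      rw [mem_centralizer_iff]
      intro h hh
      have h2 : MulAut.conjNormal x (⟨h, hh⟩ : Q) = ⟨h, hh⟩ := by
        rw [MonoidHom.mem_ker.1 hx]; rfl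
      have h3 := congrArg Subtype.val h2
      rw [MulAut.conjNormal_apply] at h3
      have h4 : x * h * x⁻¹ = h := h3
      calc h * x = (x * h * x⁻¹) * x := by rw [h4]
        _ = x * h := by group
    · intro x hx
      rw [MonoidHom.mem_ker]
      ext y
      rw [MulAut.conjNormal_apply]
      have h2 := congrArg Subtype.val (hcomm ⟨x, hx⟩ y)
      have h3 : x * (y : M) = y * x := h2
      show x * (y : M) * x⁻¹ = y
      rw [h3]; group
  have h2 : Q.index ∣ 6 := by
    refine Dvd.dvd.trans ?_ h1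
    have h3 : Q.index = (MulAut.conjNormal (H := Q)).ker.index := by rw [hker]
    rw [h3, Subgroup.index_ker]
    exact Subgroup.card_subgroup_dvd_card _
  have h3 : Q.index ∣ 3 := by
    have h4 : Nat.Coprime Q.index 2 := by
      have h5 := hcop.symm
      rw [hQc] at h5
      exact Nat.Coprime.coprime_dvd_right (by norm_num) h5
    exact h4.dvd_of_dvd_mul_right (by simpa using h2)
  have h4 : Q.index ≠ 1 := by
    intro h
    have hQt : Q = ⊤ := Subgroup.index_eq_one.1 h
    have hnt : Nontrivial Q := Finite.one_lt_card_iff_nontrivial.1 (by rw [hQc]; norm_num)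
    obtain ⟨x, hx⟩ := exists_ne (1 : Q)
    have hxo : orderOf (x : M) = 2 := orderOf_eq_prime (hex x x.2) (fun h => hx (Subtype.ext h))
    have hlt : ∃ y : Q, (y : M) ∉ zpowers (x : M) := by
      by_contra hcon
      push Not at hcon
      have h5 : Q ≤ zpowers (x : M) := fun y hy => hcon ⟨y, hy⟩
      have h6 := Subgroup.card_le_of_le h5
      rw [hQc, Nat.card_zpowers, hxo] at h6
      omega
    obtain ⟨y, hy⟩ := hlt
    have hy1 : (y : M) ≠ 1 := fun h => hy (h ▸ one_mem _)
    have hyo : orderOf (y : M) = 2 := orderOf_eq_prime (hex y y.2) hy1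
    obtain ⟨g, hg⟩ := hcj (zpowers (x : M)) (zpowers (y : M)) (by rw [zpowers_le]; exact x.2)
      (by rw [zpowers_le]; exact y.2) (by rw [Nat.card_zpowers, Nat.card_zpowers, hxo, hyo])
    apply hy
    have h5 : (y : M) ∈ (zpowers (x : M)).map (MulAut.conj g).toMonoidHom := by rw [← hg]; exact mem_zpowers _
    obtain ⟨z, hz, hz2⟩ := h5
    have hzQ : z ∈ Q := (zpowers_le.2 x.2) hz
    have hgQ : g ∈ Q := by rw [hQt]; exact mem_top g
    have h6 : g * z = z * g := congrArg Subtype.val (hcomm ⟨g, hgQ⟩ ⟨z, hzQ⟩)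
    have h7 : g * z * g⁻¹ = y := hz2
    rw [← h7, h6, mul_inv_cancel_right]
    exact hz
  have h5 : Q.index = 3 := by
    rcases (Nat.dvd_prime Nat.prime_three).1 h3 with h | h
    · exact absurd h h4
    · exact h
  rw [← Q.card_mul_index, hQc, h5]

variable {G : Type*} [Group G] [Finite G]

/-- the possible structures of the normalizer of a Sylow 2-subgroup -/
theorem struct (hC : Cj G) (h2 : E2 G) (a : Sylow 2 G) {n : ℕ} (hn : 2 ≤ n) (hcard : Nat.card a = 2 ^ n) :
    ∃ r e : ℕ, r.Prime ∧ r ≠ 2 ∧ 2 ^ n = r + 1 ∧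
      Nat.card (normalizer ((a : Subgroup G) : Set G)) = Nat.card (XX a) * (2 ^ n * (r * e)) ∧
      ((n = 2 ∧ r = 3 ∧ e = 1) ∨ (n = 3 ∧ r = 7 ∧ e = 1) ∨ (n = 3 ∧ r = 7 ∧ e = 3) ∨ (n = 5 ∧ r = 31 ∧ e = 5)) := by
  have hsol := normalizer_solvable a
  have hel : Cfsg.IsElementaryAbelian 2 (a : Subgroup G) :=
    ⟨⟨⟨fun x y => Subtype.ext (h2.comm a x.2 y.2)⟩⟩, fun x hx => by rw [pow_two]; exact h2 a x hx⟩
  have hsolq : Group.IsSolvable (↥(normalizer ((a : Subgroup G) : Set G)) ⧸
      Cfsg.pPrimeCore 2 ↥(normalizer ((a : Subgroup G) : Set G))) := inferInstance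
  have hC' : ∀ H K : Subgroup G, IsPGroup 2 H → IsPGroup 2 K → Nat.card H = Nat.card K →
      ∃ g : G, K = H.map (MulAut.conj g).toMonoidHom := fun H K _ _ h => hC H K h
  have hXc : Nat.card (XX a) = Nat.card (pPrimeCore 2 ↥(normalizer ((a : Subgroup G) : Set G))) := by
    rw [XX, Subgroup.card_map_of_injective (normalizer ((a : Subgroup G) : Set G)).subtype_injective]
  have hmul : Nat.card (normalizer ((a : Subgroup G) : Set G)) = Nat.card (XX a) *
      Nat.card (↥(normalizer ((a : Subgroup G) : Set G)) ⧸ Cfsg.pPrimeCore 2 ↥(normalizer ((a : Subgroup G) : Set G))) := by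
    rw [hXc, mul_comm]
    exact Subgroup.card_eq_card_quotient_mul_card_subgroup _
  rcases Nat.lt_or_ge 2 n with hn3 | hn3
  · have hF8 : Nat.card (GaloisField 2 3) = 8 := by rw [GaloisField.card 2 3 (by norm_num)]; norm_num
    have hF32 : Nat.card (GaloisField 2 5) = 32 := by rw [GaloisField.card 2 5 (by norm_num)]; norm_num
    have hf8 : Finite (GaloisField 2 3) := Nat.finite_of_card_ne_zero (by rw [hF8]; norm_num)
    have hf32 : Finite (GaloisField 2 5) := Nat.finite_of_card_ne_zero (by rw [hF32]; norm_num)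
    rcases S4025.result (p := 2) hC' a n hn3 hel hcard _ rfl hsolq with ⟨h3, -, h⟩ | ⟨h5, -, h⟩
    · rcases h rfl with ⟨⟨e⟩⟩ | ⟨⟨e⟩⟩
      · have h6 := Nat.card_congr e.toEquiv
        rw [H1Semi.card_semiaffine, hF8, H1Semi.card_aut 2 3 (by norm_num)] at h6
        refine ⟨7, 3, by norm_num, by norm_num, by rw [h3]; norm_num, ?_, Or.inr (Or.inr (Or.inl ⟨h3, rfl, rfl⟩))⟩
        rw [hmul, h6, h3]
        norm_num
      · have h6 := Nat.card_congr e.toEquiv
        rw [H1Semi.card_affine, hF8] at h6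
        refine ⟨7, 1, by norm_num, by norm_num, by rw [h3]; norm_num, ?_, Or.inr (Or.inl ⟨h3, rfl, rfl⟩)⟩
        rw [hmul, h6, h3]
        norm_num
    · obtain ⟨e⟩ := h
      have h6 := Nat.card_congr e.toEquiv
      rw [H1Semi.card_semiaffine, hF32, H1Semi.card_aut 2 5 (by norm_num)] at h6
      refine ⟨31, 5, by norm_num, by norm_num, by rw [h5]; norm_num, ?_, Or.inr (Or.inr (Or.inr ⟨h5, rfl, rfl⟩))⟩
      rw [hmul, h6, h5]
      norm_num
  · have hn2 : n = 2 := le_antisymm hn3 hn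
    obtain ⟨Q, hQn, hQcomm, hQex, hQc, hQce, hQcop, hQcj⟩ := S4025.reduce (p := 2) hC' a n hel hcard _ rfl hsolq
    refine ⟨3, 1, by norm_num, by norm_num, by rw [hn2]; norm_num, ?_, Or.inl ⟨hn2, rfl, rfl⟩⟩
    have h6 := card_twelve hQn (by rw [hQc, hn2]; norm_num) hQce hQcop hQcj hQcomm hQex
    rw [hmul, h6, hn2]
    norm_num

end Cfsg.Agent.Lib.H1Same
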