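import Cfsg.Agent.Lib.H1SameE

set_option autoImplicit false
set_option linter.unusedSectionVars false
set_option linter.unusedVariables false

open Subgroup MulAction Cfsg

namespace Cfsg.Agent.Lib.H1Same

variable {G : Type*} [Group G] [Finite G]

/-- the subgroup `S × X` -/
def WW (a : Sylow 2 G) : Subgroup G where
  carrier := {g | ∃ s ∈ (a : Subgroup G), ∃ x ∈ XX a, g = s * x}
  one_mem' := ⟨1, one_mem _, 1, one_mem _, (one_mul 1).symm⟩
  mul_mem' := by
    rintro _ _ ⟨s, hs, x, hx, rfl⟩ ⟨s', hs', x', hx', rfl⟩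
    refine ⟨s * s', mul_mem hs hs', x * x', mul_mem hx hx', ?_⟩
    calc s * x * (s' * x') = s * (x * s') * x' := by group
      _ = s * (s' * x) * x' := by rw [comm_XX a hs' hx]
      _ = _ := by group
  inv_mem' := by
    rintro _ ⟨s, hs, x, hx, rfl⟩
    refine ⟨s⁻¹, inv_mem hs, x⁻¹, inv_mem hx, ?_⟩
    rw [mul_inv_rev, comm_XX a (inv_mem hs) (inv_mem hx)]

theorem WW_le (a : Sylow 2 G) : WW a ≤ normalizer ((a : Subgroup G) : Set G) := by
  rintro _ ⟨s, hs, x, hx, rfl⟩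
  exact mul_mem (le_normalizer hs) (XX_le a hx)

theorem card_WW (a : Sylow 2 G) : Nat.card (WW a) = Nat.card a * Nat.card (XX a) := by
  rw [← Nat.card_prod]
  symm
  refine Nat.card_congr (Equiv.ofBijective
    (fun t : Prod (a : Subgroup G) (XX a) => (⟨(t.1 : G) * t.2, _, t.1.2, _, t.2.2, rfl⟩ : WW a)) ⟨?_, ?_⟩)
  · rintro ⟨s, x⟩ ⟨s', x'⟩ h
    have h1 : (s : G) * x = s' * x' := congrArg Subtype.val h
    have h3 : (s' : G)⁻¹ * s = x' * (x : G)⁻¹ := by
      calc (s' : G)⁻¹ * s = (s' : G)⁻¹ * (s * x) * (x : G)⁻¹ := by group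
        _ = x' * (x : G)⁻¹ := by rw [h1]; group
    have h4 : (s' : G)⁻¹ * s = 1 := by
      apply inter_XX a
      · rw [h3]; exact mul_mem x'.2 (inv_mem x.2)
      · exact mul_mem (inv_mem s'.2) s.2
    have h5 : x' * (x : G)⁻¹ = 1 := by rw [← h3, h4]
    have h6 : s = s' := Subtype.ext (inv_mul_eq_one.1 h4).symm
    have h7 : x = x' := Subtype.ext (mul_inv_eq_one.1 h5).symm
    rw [h6, h7]
  · rintro ⟨_, s, hs, x, hx, rfl⟩
    exact ⟨(⟨s, hs⟩, ⟨x, hx⟩), rfl⟩

theorem WW_normal (a : Sylow 2 G) : ((WW a).subgroupOf (normalizer ((a : Subgroup G) : Set G))).Normal := by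
  constructor
  rintro ⟨w, hw⟩ h ⟨g, hg⟩
  obtain ⟨s, hs, x, hx, h1⟩ := (mem_subgroupOf.1 h)
  rw [mem_subgroupOf]
  refine ⟨g * s * g⁻¹, (mem_normalizer_iff.1 hg s).1 hs, g * x * g⁻¹, XX_normal a hg hx, ?_⟩
  have h2 : w = s * x := h1
  show g * w * g⁻¹ = _
  rw [h2]; group

section pair

variable {q r : ℕ} (hC : Cj G) (h2 : E2 G) (hcard : ∀ P : Sylow 2 G, Nat.card P = q) (hr : r.Prime) (hr2 : r ≠ 2)
  (hqr : q = r + 1)
include hC h2 hcard hr hr2 hqr

theorem XX_not_dvd {a b : Sylow 2 G} (hab : a ≠ b) : ¬ r ∣ Nat.card (XX a) := by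
  have hq : 2 ≤ q := by have := hr.two_le; omega
  obtain ⟨t, ht⟩ : ∃ t : (a : Subgroup G), t ≠ 1 := by
    have : Nontrivial (a : Subgroup G) := Finite.one_lt_card_iff_nontrivial.1 (by rw [hcard a]; omega)
    exact exists_ne 1
  have ht1 : (t : G) ≠ 1 := fun h => ht (Subtype.ext h)
  have htt : (t : G) * t = 1 := h2 a t t.2
  intro h
  apply typeII hC h2 hcard hr hr2 hqr hab ht1 htt
  refine h.trans (card_dvd_of_le ?_)
  intro x hx
  rw [mem_centralizer_singleton_iff]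
  exact (comm_XX a t.2 hx).symm

theorem dec0 {a b : Sylow 2 G} (hab : a ≠ b) {e : ℕ} (he : e < r)
    (hN : Nat.card (normalizer ((a : Subgroup G) : Set G)) = Nat.card (XX a) * (q * (r * e))) {g : G}
    (hg : g ∈ normalizer ((a : Subgroup G) : Set G)) (hco : (orderOf g).Coprime e) :
    ∃ s ∈ (a : Subgroup G), ∃ x ∈ XX a, ∃ y ∈ BB r a b, g = s * x * y := by
  classical
  have hfr : Fact r.Prime := ⟨hr⟩
  obtain ⟨b1, b2, -, -, -⟩ := BB_spec hC h2 hcard hr hr2 hqr hab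
  have hBN : BB r a b ≤ normalizer ((a : Subgroup G) : Set G) := fun y hy => (stab_iff a y).1 (b1 hy).1
  have hWn := WW_normal a
  have hWc : Nat.card ((WW a).subgroupOf (normalizer ((a : Subgroup G) : Set G))) = q * Nat.card (XX a) := by
    rw [Nat.card_congr (subgroupOfEquivOfLe (WW_le a)).toEquiv, card_WW, hcard]
  have hq0 : 0 < q := by omega
  have hX0 : 0 < Nat.card (XX a) := Nat.card_pos
  have hWi : ((WW a).subgroupOf (normalizer ((a : Subgroup G) : Set G))).index = r * e := by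
    have h3 := ((WW a).subgroupOf (normalizer ((a : Subgroup G) : Set G))).card_mul_index
    rw [hWc, hN] at h3
    have h4 : q * Nat.card (XX a) * ((WW a).subgroupOf (normalizer ((a : Subgroup G) : Set G))).index =
        q * Nat.card (XX a) * (r * e) := by rw [h3]; ring
    exact Nat.eq_of_mul_eq_mul_left (by positivity) h4
  have he0 : e ≠ 0 := by
    rintro rfl
    have : 0 < Nat.card (normalizer ((a : Subgroup G) : Set G)) := Nat.card_pos
    rw [hN] at this
    simp at this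
  set W' := (WW a).subgroupOf (normalizer ((a : Subgroup G) : Set G)) with hW'
  set B' := (BB r a b).subgroupOf (normalizer ((a : Subgroup G) : Set G)) with hB'
  have hB'c : Nat.card B' = r := by
    rw [hB', Nat.card_congr (subgroupOfEquivOfLe hBN).toEquiv, b2]
  set R := B'.map (QuotientGroup.mk' W') with hR
  have hrW : ¬ r ∣ Nat.card W' := by
    rw [hWc]
    intro h
    rcases hr.dvd_mul.1 h with h3 | h3
    · rw [hqr, Nat.dvd_add_right (dvd_refl r)] at h3
      exact hr.one_lt.ne' (Nat.dvd_one.1 h3)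
    · exact XX_not_dvd hC h2 hcard hr hr2 hqr hab h3
  have hRc : Nat.card R = r := by
    have h3 : Nat.card R ∣ r := by rw [← hB'c]; exact Cores.card_map_dvd' B' (QuotientGroup.mk' W')
    rcases (Nat.dvd_prime hr).1 h3 with h4 | h4
    · exfalso
      have h5 : R = ⊥ := Subgroup.card_eq_one.1 h4
      have h6 : B' ≤ W' := by
        intro y hy
        have h7 : QuotientGroup.mk' W' y ∈ R := ⟨y, hy, rfl⟩
        rw [h5, Subgroup.mem_bot] at h7
        rw [← QuotientGroup.ker_mk' W']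
        exact h7
      exact hrW (hB'c ▸ card_dvd_of_le h6)
    · exact h4
  have hRi : R.index = e := by
    have h3 := R.card_mul_index
    have h4 : Nat.card (↥(normalizer ((a : Subgroup G) : Set G)) ⧸ W') = W'.index := rfl
    rw [hRc, h4, hWi] at h3
    exact Nat.eq_of_mul_eq_mul_left hr.pos h3
  have hRp : IsPGroup r R := IsPGroup.of_card (n := 1) (by rw [hRc, pow_one])
  have hRnd : ¬ r ∣ R.index := by
    rw [hRi]
    intro h
    exact absurd (Nat.le_of_dvd (Nat.pos_of_ne_zero he0) h) (by omega)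
  have hSyl : Nat.card (Sylow r (↥(normalizer ((a : Subgroup G) : Set G)) ⧸ W')) = 1 := by
    have h3 := card_sylow_modEq_one r (↥(normalizer ((a : Subgroup G) : Set G)) ⧸ W')
    have h4 := (hRp.toSylow hRnd).card_dvd_index
    have h5 : ((hRp.toSylow hRnd : Sylow r _) : Subgroup (↥(normalizer ((a : Subgroup G) : Set G)) ⧸ W')).index = e := hRi
    rw [h5] at h4
    have h6 := Nat.le_of_dvd (Nat.pos_of_ne_zero he0) h4
    have h7 : Nat.card (Sylow r (↥(normalizer ((a : Subgroup G) : Set G)) ⧸ W')) % r = 1 % r := h3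
    rw [Nat.mod_eq_of_lt (by omega), Nat.mod_eq_of_lt hr.one_lt] at h7
    exact h7
  have hsub : Subsingleton (Sylow r (↥(normalizer ((a : Subgroup G) : Set G)) ⧸ W')) :=
    (Nat.card_eq_one_iff_unique.1 hSyl).1
  have hRn : R.Normal := by
    have h3 : ((hRp.toSylow hRnd : Sylow r _) : Subgroup (↥(normalizer ((a : Subgroup G) : Set G)) ⧸ W')).Characteristic :=
      Sylow.characteristic_of_subsingleton _
    exact @Subgroup.normal_of_characteristic _ _ R h3
  have hgR : QuotientGroup.mk' W' ⟨g, hg⟩ ∈ R := by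
    apply H1Zam.mem_of_coprime_index
    rw [hRi]
    apply Nat.Coprime.coprime_dvd_left _ hco
    rw [← Subgroup.orderOf_mk g hg]
    exact orderOf_map_dvd _ _
  obtain ⟨y, hy, hyg⟩ := hgR
  have h3 : y * (⟨g, hg⟩ : normalizer ((a : Subgroup G) : Set G))⁻¹ ∈ W' := by
    rw [← QuotientGroup.ker_mk' W', MonoidHom.mem_ker, map_mul, map_inv, hyg, mul_inv_cancel]
  have h4 := inv_mem h3
  obtain ⟨s, hs, x, hx, h5⟩ := (mem_subgroupOf.1 h4)
  refine ⟨s, hs, x, hx, y, hy, ?_⟩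
  have h6 : ((y : G) * g⁻¹)⁻¹ = s * x := h5
  rw [← h6]; group

theorem BX {a b : Sylow 2 G} (hab : a ≠ b) {x y : G} (hy : y ∈ BB r a b) (hx : x ∈ XX a) (hxb : x • b = b) :
    y * x = x * y := by
  obtain ⟨b1, b2, b3, -, -⟩ := BB_spec hC h2 hcard hr hr2 hqr hab
  have hxa : x • a = a := (stab_iff a x).2 (XX_le a hx)
  have h3 : x * y * x⁻¹ ∈ BB r a b := b3 x ⟨hxa, hxb⟩ y hy
  have h4 : x * y * x⁻¹ * y⁻¹ ∈ BB r a b := mul_mem h3 (inv_mem hy)
  have h5 : x * y * x⁻¹ * y⁻¹ ∈ XX a := by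
    have h6 : x * y * x⁻¹ * y⁻¹ = x * (y * x⁻¹ * y⁻¹) := by group
    rw [h6]
    exact mul_mem hx (XX_normal a ((stab_iff a y).1 (b1 hy).1) (inv_mem hx))
  have h6 : x * y * x⁻¹ * y⁻¹ = 1 := by
    have e1 : orderOf (x * y * x⁻¹ * y⁻¹) ∣ Nat.card (BB r a b) := by
      rw [← Subgroup.orderOf_mk _ h4]; exact orderOf_dvd_natCard _
    have e2 : orderOf (x * y * x⁻¹ * y⁻¹) ∣ Nat.card (XX a) := by
      rw [← Subgroup.orderOf_mk _ h5]; exact orderOf_dvd_natCard _
    rw [b2] at e1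
    have e3 : Nat.Coprime r (Nat.card (XX a)) := (Nat.Prime.coprime_iff_not_dvd hr).2 (XX_not_dvd hC h2 hcard hr hr2 hqr hab)
    exact orderOf_eq_one_iff.1 (Nat.eq_one_of_dvd_coprimes e3 e1 e2)
  calc y * x = (x * y * x⁻¹ * y⁻¹)⁻¹ * (x * y) := by group
    _ = x * y := by rw [h6, inv_one, one_mul]

theorem FX {a b : Sylow 2 G} (hab : a ≠ b) {x u : G} (hu : u ∈ FF a b) (hx : x ∈ XX a) (hxb : x • b = b) :
    u * x * u = x := by
  have hui : u⁻¹ = u := inv_eq_of_mul_eq_one_left hu.1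
  obtain ⟨b1, b2, b3, b4, b5⟩ := BB_spec hC h2 hcard hr hr2 hqr hab
  have hxa : x • a = a := (stab_iff a x).2 (XX_le a hx)
  have hxD : x ∈ DD a b := ⟨hxa, hxb⟩
  have hz : x⁻¹ * (u * x * u) ∈ BB r a b := by
    rw [b5 u hu]
    refine ⟨mul_mem (inv_mem hxD) (FF_conj hu hxD), ?_⟩
    have h3 : u * (x⁻¹ * (u * x * u)) * u = (u * x⁻¹ * u) * x * (u * u) := by group
    rw [h3, hu.1, mul_one, mul_inv_rev, mul_inv_rev, mul_inv_rev, inv_inv, hui]
    group
  have hc := BX hC h2 hcard hr hr2 hqr hab hz hx hxb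
  set z := x⁻¹ * (u * x * u) with hzd
  have hxz : x * z = u * x * u⁻¹ := by rw [hzd, hui]; group
  have hcomm : Commute x z := hc.symm
  have h4 : x ^ Nat.card (XX a) = 1 := by
    have h1 : (⟨x, hx⟩ : XX a) ^ Nat.card (XX a) = 1 := pow_card_eq_one'
    exact congrArg Subtype.val h1
  have h5 : z ^ Nat.card (XX a) = 1 := by
    have h6 : (x * z) ^ Nat.card (XX a) = 1 := by
      rw [hxz, conj_pow, h4]; group
    rw [hcomm.mul_pow, h4, one_mul] at h6
    exact h6
  have h6 : z ^ r = 1 := by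
    have h1 : (⟨z, hz⟩ : BB r a b) ^ Nat.card (BB r a b) = 1 := pow_card_eq_one'
    rw [b2] at h1
    exact congrArg Subtype.val h1
  have e3 : Nat.Coprime r (Nat.card (XX a)) := (Nat.Prime.coprime_iff_not_dvd hr).2 (XX_not_dvd hC h2 hcard hr hr2 hqr hab)
  have h7 : z = 1 := orderOf_eq_one_iff.1 (Nat.eq_one_of_dvd_coprimes e3 (orderOf_dvd_of_pow_eq_one h6)
    (orderOf_dvd_of_pow_eq_one h5))
  calc u * x * u = x * z := by rw [hzd]; group
    _ = x := by rw [h7, mul_one]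

theorem XXX (a b : Sylow 2 G) {x : G} (hx : x ∈ XX a) (hxb : x • b = b) : x ∈ XX b := by
  by_cases hab : a = b
  · rw [← hab]; exact hx
  · obtain ⟨u, hu⟩ := exists_FF hC h2 hcard hr hr2 hqr hab
    have hui : u⁻¹ = u := inv_eq_of_mul_eq_one_left hu.1
    have h3 := FX hC h2 hcard hr hr2 hqr hab hu hx hxb
    have h4 := XX_conj hC h2 a u hx
    rw [hui, h3, hu.2] at h4
    exact h4

end pair

end Cfsg.Agent.Lib.H1Same
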