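import Cfsg.Agent.Lib.H32PSolv
import Cfsg.Agent.Lib.Fitting
import Cfsg.Agent.Lib.Subnormal

/-!
API for the upper `p`-series and `p`-length (helper63).
-/

set_option autoImplicit false

namespace Cfsg.Agent.Lib.PLength

open Cfsg Subgroup Cfsg.Agent.Lib.H32Cores Cfsg.Agent.Lib.H32PSolv

variable {G : Type*} [Group G] {p : ℕ}

/-- A normal series with factors alternately `p'`-groups and `p`-groups. -/
structure AltSeries (p : ℕ) (H : ℕ → Subgroup G) : Prop where
  zero : H 0 = ⊥
  normal : ∀ n, (H n).Normal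
  mono : ∀ n, H n ≤ H (n + 1)
  even : ∀ n, Even n → ((H n).relIndex (H (n + 1))).Coprime p
  odd : ∀ n, ¬ Even n → ∃ m, (H n).relIndex (H (n + 1)) = p ^ m

theorem upper_zero : (upperPSeries p G 0).1 = ⊥ := rfl

theorem upper_succ_even {n : ℕ} (hn : Even n) :
    (upperPSeries p G (n + 1)).1 =
      (pPrimeCore p (G ⧸ (upperPSeries p G n).1)).comap (QuotientGroup.mk' (upperPSeries p G n).1) := by
  rw [upperPSeries, if_pos hn]

theorem upper_succ_odd {n : ℕ} (hn : ¬ Even n) :
    (upperPSeries p G (n + 1)).1 =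
      (pCore p (G ⧸ (upperPSeries p G n).1)).comap (QuotientGroup.mk' (upperPSeries p G n).1) := by
  rw [upperPSeries, if_neg hn]

theorem relIndex_comap_mk (N : Subgroup G) [N.Normal] (K : Subgroup (G ⧸ N)) :
    N.relIndex (K.comap (QuotientGroup.mk' N)) = Nat.card K := by
  rw [← card_map_mk, Subgroup.map_comap_eq_self_of_surjective (QuotientGroup.mk'_surjective N)]

theorem upper_le_succ (n : ℕ) : (upperPSeries p G n).1 ≤ (upperPSeries p G (n + 1)).1 := by
  by_cases hn : Even n
  · rw [upper_succ_even hn]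
    intro x hx
    rw [mem_comap, (QuotientGroup.eq_one_iff x).mpr hx |> (fun h => (h : QuotientGroup.mk' _ x = 1))]
    exact one_mem _
  · rw [upper_succ_odd hn]
    intro x hx
    rw [mem_comap, (QuotientGroup.eq_one_iff x).mpr hx |> (fun h => (h : QuotientGroup.mk' _ x = 1))]
    exact one_mem _

theorem upper_alt [Finite G] [Fact p.Prime] : AltSeries p (fun n => (upperPSeries p G n).1) where
  zero := rfl
  normal n := (upperPSeries p G n).2
  mono := upper_le_succ
  even n hn := by
    change (((upperPSeries p G n).1).relIndex (upperPSeries p G (n + 1)).1).Coprime p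
    rw [upper_succ_even hn, relIndex_comap_mk]
    exact pPrimeCore_coprime p
  odd n hn := by
    change ∃ m, ((upperPSeries p G n).1).relIndex (upperPSeries p G (n + 1)).1 = p ^ m
    rw [upper_succ_odd hn, relIndex_comap_mk]
    exact IsPGroup.iff_card.mp (pCore_isPGroup p)

theorem le_upper_even {n : ℕ} (hn : Even n) {H K : Subgroup G} (hH : H ≤ (upperPSeries p G n).1)
    (hK : K.Normal) (h : (H.relIndex K).Coprime p) : K ≤ (upperPSeries p G (n + 1)).1 := by
  rw [upper_succ_even hn, ← Subgroup.map_le_iff_le_comap]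
  apply le_pPrimeCore p (hK.map _ (QuotientGroup.mk'_surjective _))
  rw [card_map_mk]
  exact Nat.Coprime.coprime_dvd_left (Subgroup.relIndex_dvd_of_le_left K hH) h

theorem le_upper_odd [Fact p.Prime] {n : ℕ} (hn : ¬ Even n) {H K : Subgroup G} (hH : H ≤ (upperPSeries p G n).1)
    (hK : K.Normal) (h : ∃ m, H.relIndex K = p ^ m) : K ≤ (upperPSeries p G (n + 1)).1 := by
  rw [upper_succ_odd hn, ← Subgroup.map_le_iff_le_comap]
  apply le_pCore p (hK.map _ (QuotientGroup.mk'_surjective _))
  obtain ⟨m, hm⟩ := h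
  have h1 := Subgroup.relIndex_dvd_of_le_left K hH
  rw [hm] at h1
  obtain ⟨j, -, hj⟩ := (Nat.dvd_prime_pow Fact.out).mp h1
  apply IsPGroup.of_card (n := j)
  rw [card_map_mk, hj]

theorem AltSeries.le_upper [Fact p.Prime] {H : ℕ → Subgroup G} (h : AltSeries p H) (n : ℕ) :
    H n ≤ (upperPSeries p G n).1 := by
  induction n with
  | zero => rw [h.zero]; exact bot_le
  | succ n ih =>
    by_cases hn : Even n
    · exact le_upper_even hn ih (h.normal _) (h.even n hn)
    · exact le_upper_odd hn ih (h.normal _) (h.odd n hn)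

theorem AltSeries.pLengthLE [Fact p.Prime] {H : ℕ → Subgroup G} (h : AltSeries p H) {k : ℕ}
    (hk : H (2 * k + 1) = ⊤) : PLengthLE p k G := by
  rw [PLengthLE, eq_top_iff, ← hk]
  exact h.le_upper _

theorem AltSeries.map {K : Type*} [Group K] [hp : Fact p.Prime] {H : ℕ → Subgroup G} (h : AltSeries p H)
    (f : G →* K) (hf : Function.Surjective f) : AltSeries p (fun n => (H n).map f) where
  zero := by rw [h.zero, Subgroup.map_bot]
  normal n := (h.normal n).map f hf
  mono n := map_mono (h.mono n)
  even n hn := by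
    haveI := h.normal n
    exact Nat.Coprime.coprime_dvd_left (relIndex_map_dvd f hf (H n) (H (n + 1))) (h.even n hn)
  odd n hn := by
    haveI := h.normal n
    obtain ⟨m, hm⟩ := h.odd n hn
    have h1 := relIndex_map_dvd f hf (H n) (H (n + 1))
    rw [hm] at h1
    obtain ⟨j, -, hj⟩ := (Nat.dvd_prime_pow Fact.out).mp h1
    exact ⟨j, hj⟩

theorem map_upper_le {K : Type*} [Group K] [Finite G] [hp : Fact p.Prime] (f : G →* K)
    (hf : Function.Surjective f) (n : ℕ) :
    ((upperPSeries p G n).1).map f ≤ (upperPSeries p K n).1 :=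
  (upper_alt.map f hf).le_upper n

/-- Quotients. -/
theorem pLengthLE_map {K : Type*} [Group K] [Finite G] [hp : Fact p.Prime] {k : ℕ} (h : PLengthLE p k G)
    (f : G →* K) (hf : Function.Surjective f) : PLengthLE p k K := by
  apply (upper_alt.map f hf).pLengthLE (k := k)
  change ((upperPSeries p G (2 * k + 1)).1).map f = ⊤
  rw [PLengthLE] at h
  rw [h]
  exact Subgroup.map_top_of_surjective f hf

theorem pLengthLE_quotient [Finite G] [hp : Fact p.Prime] {k : ℕ} (h : PLengthLE p k G)
    (N : Subgroup G) [N.Normal] : PLengthLE p k (G ⧸ N) :=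
  pLengthLE_map h (QuotientGroup.mk' N) (QuotientGroup.mk'_surjective N)

theorem pLengthLE_equiv {K : Type*} [Group K] [Finite G] [hp : Fact p.Prime] {k : ℕ} (h : PLengthLE p k G)
    (f : G ≃* K) : PLengthLE p k K :=
  pLengthLE_map h f.toMonoidHom f.surjective

/-- The series of a subgroup (via an injective homomorphism). -/
theorem AltSeries.comap {K : Type*} [Group K] [Finite G] [hp : Fact p.Prime] {H : ℕ → Subgroup G}
    (h : AltSeries p H) (f : K →* G) (hf : Function.Injective f) : AltSeries p (fun n => (H n).comap f) where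
  zero := by rw [h.zero, MonoidHom.comap_bot, (MonoidHom.ker_eq_bot_iff f).mpr hf]
  normal n := (h.normal n).comap f
  mono n := comap_mono (h.mono n)
  even n hn := by
    haveI := h.normal n
    refine Nat.Coprime.coprime_dvd_left ?_ (h.even n hn)
    have h1 : ((H n).comap f).relIndex ((H (n + 1)).comap f) = (H n).relIndex (((H (n + 1)).comap f).map f) := by
      rw [Subgroup.relIndex_comap]
    rw [h1]
    exact relIndex_dvd_of_normal _ (Subgroup.map_comap_le _ _)
  odd n hn := by
    haveI := h.normal n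
    obtain ⟨m, hm⟩ := h.odd n hn
    have h1 : ((H n).comap f).relIndex ((H (n + 1)).comap f) = (H n).relIndex (((H (n + 1)).comap f).map f) := by
      rw [Subgroup.relIndex_comap]
    have h2 : (H n).relIndex (((H (n + 1)).comap f).map f) ∣ (H n).relIndex (H (n + 1)) :=
      relIndex_dvd_of_normal _ (Subgroup.map_comap_le _ _)
    rw [hm] at h2
    obtain ⟨j, -, hj⟩ := (Nat.dvd_prime_pow Fact.out).mp h2
    exact ⟨j, by rw [← hj]; exact h1⟩

theorem pLengthLE_of_injective {K : Type*} [Group K] [Finite G] [hp : Fact p.Prime] {k : ℕ}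
    (h : PLengthLE p k G) (f : K →* G) (hf : Function.Injective f) : PLengthLE p k K := by
  apply (upper_alt.comap f hf).pLengthLE (k := k)
  change ((upperPSeries p G (2 * k + 1)).1).comap f = ⊤
  rw [PLengthLE] at h
  rw [h, Subgroup.comap_top]

theorem pLengthLE_subgroup [Finite G] [hp : Fact p.Prime] {k : ℕ} (h : PLengthLE p k G) (M : Subgroup G) :
    PLengthLE p k M := pLengthLE_of_injective h M.subtype M.subtype_injective

theorem upper_mono {m n : ℕ} (h : m ≤ n) : (upperPSeries p G m).1 ≤ (upperPSeries p G n).1 := by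
  induction n, h using Nat.le_induction with
  | base => exact le_rfl
  | succ n _ ih => exact ih.trans (upper_le_succ n)

theorem pLengthLE_mono {k l : ℕ} (hkl : k ≤ l) (h : PLengthLE p k G) : PLengthLE p l G := by
  rw [PLengthLE] at h ⊢
  rw [eq_top_iff, ← h]
  exact upper_mono (by omega)

theorem pLengthLE_zero_iff [Finite G] [Fact p.Prime] : PLengthLE p 0 G ↔ (Nat.card G).Coprime p := by
  constructor
  · intro h
    have h1 := upper_alt.even (p := p) (H := fun n => (upperPSeries p G n).1) 0 (by simp)
    rw [PLengthLE] at h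
    change (((upperPSeries p G 0).1).relIndex (upperPSeries p G 1).1).Coprime p at h1
    rw [show 2 * 0 + 1 = 1 from rfl] at h
    rw [h, upper_zero, Subgroup.relIndex_bot_left, Subgroup.card_top] at h1
    exact h1
  · intro h
    have : (⊤ : Subgroup G) ≤ (upperPSeries p G 1).1 := by
      apply le_upper_even (n := 0) (by simp) (H := ⊥) bot_le inferInstance
      rw [Subgroup.relIndex_bot_left, Subgroup.card_top]
      exact h
    rw [PLengthLE]
    exact eq_top_iff.mpr this

/-- `p'`-extension: if `N` is a normal `p'`-subgroup then `l_p(G) ≤ l_p(G/N)`. -/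
theorem pLengthLE_of_coprime [Finite G] [Fact p.Prime] {k : ℕ} (N : Subgroup G) [N.Normal]
    (hN : (Nat.card N).Coprime p) (h : PLengthLE p k (G ⧸ N)) : PLengthLE p k G := by
  have key : ∀ n, ((upperPSeries p (G ⧸ N) (n + 1)).1).comap (QuotientGroup.mk' N) ≤ (upperPSeries p G (n + 1)).1 := by
    intro n
    induction n with
    | zero =>
      apply le_upper_even (n := 0) (by simp) (H := ⊥) bot_le inferInstance
      rw [Subgroup.relIndex_bot_left]
      have hle : N ≤ ((upperPSeries p (G ⧸ N) (0 + 1)).1).comap (QuotientGroup.mk' N) := by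
        intro x hx
        rw [mem_comap, (QuotientGroup.eq_one_iff x).mpr hx |> (fun h => (h : QuotientGroup.mk' _ x = 1))]
        exact one_mem _
      rw [card_eq_relIndex_mul hle, relIndex_comap_mk]
      apply Nat.Coprime.mul_left _ hN
      have h1 := upper_alt.even (p := p) (G := G ⧸ N) (H := fun n => (upperPSeries p (G ⧸ N) n).1) 0 (by simp)
      change (((upperPSeries p (G ⧸ N) 0).1).relIndex (upperPSeries p (G ⧸ N) 1).1).Coprime p at h1
      rw [upper_zero, Subgroup.relIndex_bot_left] at h1
      exact h1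
    | succ n ih =>
      have h1 : (((upperPSeries p (G ⧸ N) (n + 1)).1).comap (QuotientGroup.mk' N)).relIndex
          (((upperPSeries p (G ⧸ N) (n + 1 + 1)).1).comap (QuotientGroup.mk' N)) =
          ((upperPSeries p (G ⧸ N) (n + 1)).1).relIndex (upperPSeries p (G ⧸ N) (n + 1 + 1)).1 := by
        rw [Subgroup.relIndex_comap, Subgroup.map_comap_eq_self_of_surjective (QuotientGroup.mk'_surjective N)]
      by_cases hn : Even (n + 1)
      · apply le_upper_even hn ih inferInstance
        rw [h1]
        exact upper_alt.even (p := p) (G := G ⧸ N) (H := fun n => (upperPSeries p (G ⧸ N) n).1) _ hn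
      · apply le_upper_odd hn ih inferInstance
        rw [h1]
        exact upper_alt.odd (p := p) (G := G ⧸ N) (H := fun n => (upperPSeries p (G ⧸ N) n).1) _ hn
  rw [PLengthLE] at h ⊢
  have h2 := key (2 * k)
  rw [h, Subgroup.comap_top] at h2
  exact eq_top_iff.mpr h2

/-- General extension: `l_p(G) ≤ a + l_p(G/N)` if `N ≤ U_{2a}(G)`. -/
theorem pLengthLE_add_of_le [Finite G] [Fact p.Prime] {a b : ℕ} (N : Subgroup G) [N.Normal]
    (hN : N ≤ (upperPSeries p G (2 * a)).1) (h : PLengthLE p b (G ⧸ N)) : PLengthLE p (a + b) G := by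
  have key : ∀ n, ((upperPSeries p (G ⧸ N) n).1).comap (QuotientGroup.mk' N) ≤ (upperPSeries p G (2 * a + n)).1 := by
    intro n
    induction n with
    | zero =>
      rw [upper_zero, MonoidHom.comap_bot, QuotientGroup.ker_mk', Nat.add_zero]
      exact hN
    | succ n ih =>
      have h1 : (((upperPSeries p (G ⧸ N) n).1).comap (QuotientGroup.mk' N)).relIndex
          (((upperPSeries p (G ⧸ N) (n + 1)).1).comap (QuotientGroup.mk' N)) =
          ((upperPSeries p (G ⧸ N) n).1).relIndex (upperPSeries p (G ⧸ N) (n + 1)).1 := by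
        rw [Subgroup.relIndex_comap, Subgroup.map_comap_eq_self_of_surjective (QuotientGroup.mk'_surjective N)]
      by_cases hn : Even n
      · apply le_upper_even (n := 2 * a + n) (by rw [Nat.even_add]; simp [hn]) ih inferInstance
        rw [h1]
        exact upper_alt.even (p := p) (G := G ⧸ N) (H := fun n => (upperPSeries p (G ⧸ N) n).1) _ hn
      · apply le_upper_odd (n := 2 * a + n) (by rw [Nat.even_add]; simp [hn]) ih inferInstance
        rw [h1]
        exact upper_alt.odd (p := p) (G := G ⧸ N) (H := fun n => (upperPSeries p (G ⧸ N) n).1) _ hn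
  rw [PLengthLE] at h ⊢
  have h2 := key (2 * b + 1)
  rw [h, Subgroup.comap_top] at h2
  rw [show 2 * (a + b) + 1 = 2 * a + (2 * b + 1) by ring]
  exact eq_top_iff.mpr h2

/-- `p`-extension: if `N` is a normal `p`-subgroup then `l_p(G) ≤ 1 + l_p(G/N)`. -/
theorem pLengthLE_succ_of_isPGroup [Finite G] [Fact p.Prime] {k : ℕ} (N : Subgroup G) [N.Normal]
    (hN : IsPGroup p N) (h : PLengthLE p k (G ⧸ N)) : PLengthLE p (k + 1) G := by
  rw [add_comm]
  apply pLengthLE_add_of_le (a := 1) N _ h
  apply le_upper_odd (n := 1) (by decide) (H := ⊥) bot_le inferInstance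
  rw [Subgroup.relIndex_bot_left]
  exact IsPGroup.iff_card.mp hN

/-- the terms of the upper `p`-series are characteristic. -/
theorem upper_characteristic [Finite G] [Fact p.Prime] (n : ℕ) : ((upperPSeries p G n).1).Characteristic := by
  rw [Subgroup.characteristic_iff_map_le]
  intro φ
  exact map_upper_le φ.toMonoidHom φ.surjective n

/-- `U_n(N)` pushed to `G` lies in `U_n(G)`. -/
theorem map_subtype_upper_le [Finite G] [Fact p.Prime] (N : Subgroup G) [N.Normal] (n : ℕ) :
    ((upperPSeries p N n).1).map N.subtype ≤ (upperPSeries p G n).1 := by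
  have hnorm : ∀ n, (((upperPSeries p N n).1).map N.subtype).Normal := by
    intro n
    haveI := upper_characteristic (G := N) (p := p) n
    infer_instance
  induction n with
  | zero => rw [upper_zero, Subgroup.map_bot]; exact bot_le
  | succ n ih =>
    have h1 : (((upperPSeries p N n).1).map N.subtype).relIndex (((upperPSeries p N (n + 1)).1).map N.subtype) =
        ((upperPSeries p N n).1).relIndex (upperPSeries p N (n + 1)).1 :=
      Subgroup.relIndex_map_map_of_injective _ _ N.subtype_injective
    by_cases hn : Even n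
    · apply le_upper_even hn ih (hnorm _)
      rw [h1]
      exact upper_alt.even (p := p) (G := N) (H := fun n => (upperPSeries p N n).1) _ hn
    · apply le_upper_odd hn ih (hnorm _)
      rw [h1]
      exact upper_alt.odd (p := p) (G := N) (H := fun n => (upperPSeries p N n).1) _ hn

/-- Subadditivity of the `p`-length. -/
theorem pLengthLE_add [Finite G] [Fact p.Prime] {a b : ℕ} (N : Subgroup G) [N.Normal]
    (hN : PLengthLE p a N) (h : PLengthLE p b (G ⧸ N)) : PLengthLE p (a + b) G := by
  -- M = U_{2a}(N); N/M is a p'-group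
  set M : Subgroup G := ((upperPSeries p N (2 * a)).1).map N.subtype with hM
  haveI : M.Normal := by
    haveI := upper_characteristic (G := N) (p := p) (2 * a)
    infer_instance
  have hMN : M ≤ N := map_subtype_le _
  apply pLengthLE_add_of_le M (map_subtype_upper_le N (2 * a))
  -- l_p(G/M) ≤ b
  haveI hNm : (N.map (QuotientGroup.mk' M)).Normal := (inferInstance : N.Normal).map _ (QuotientGroup.mk'_surjective M)
  apply pLengthLE_of_coprime (N.map (QuotientGroup.mk' M))
  · rw [card_map_mk]
    have h1 : M.relIndex N = ((upperPSeries p N (2 * a)).1).relIndex ((upperPSeries p N (2 * a + 1)).1) := by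
      rw [PLengthLE] at hN
      rw [hN, Subgroup.relIndex_top_right, hM]
      have h2 : (((upperPSeries p N (2 * a)).1).map N.subtype).subgroupOf N = (upperPSeries p N (2 * a)).1 :=
        Subgroup.comap_map_eq_self_of_injective N.subtype_injective _
      rw [Subgroup.relIndex, h2]
    rw [h1]
    exact upper_alt.even (p := p) (G := N) (H := fun n => (upperPSeries p N n).1) _ (by simp)
  · exact pLengthLE_equiv h (QuotientGroup.quotientQuotientEquivQuotient M N hMN).symm

/-- subdirect products -/
theorem pLengthLE_of_inf_ker_eq_bot [Finite G] [hp : Fact p.Prime] {K₁ K₂ : Type*} [Group K₁] [Group K₂]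
    [Finite K₁] [Finite K₂] {k : ℕ} (f₁ : G →* K₁) (f₂ : G →* K₂) (hker : f₁.ker ⊓ f₂.ker = ⊥)
    (h₁ : PLengthLE p k K₁) (h₂ : PLengthLE p k K₂) : PLengthLE p k G := by
  have hdvd : ∀ n, (((upperPSeries p K₁ n).1).comap f₁ ⊓ ((upperPSeries p K₂ n).1).comap f₂).relIndex
      (((upperPSeries p K₁ (n + 1)).1).comap f₁ ⊓ ((upperPSeries p K₂ (n + 1)).1).comap f₂) ∣
      ((upperPSeries p K₁ n).1).relIndex (upperPSeries p K₁ (n + 1)).1 *
        ((upperPSeries p K₂ n).1).relIndex (upperPSeries p K₂ (n + 1)).1 := by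
    intro n
    set A₁ := ((upperPSeries p K₁ n).1).comap f₁
    set A₂ := ((upperPSeries p K₂ n).1).comap f₂
    set B₁ := ((upperPSeries p K₁ (n + 1)).1).comap f₁ with hB₁
    set B₂ := ((upperPSeries p K₂ (n + 1)).1).comap f₂ with hB₂
    have hA1 : A₁.relIndex B₁ ∣ ((upperPSeries p K₁ n).1).relIndex (upperPSeries p K₁ (n + 1)).1 := by
      rw [Subgroup.relIndex_comap]
      exact relIndex_dvd_of_normal _ (Subgroup.map_comap_le _ _)
    have hA2 : A₂.relIndex B₂ ∣ ((upperPSeries p K₂ n).1).relIndex (upperPSeries p K₂ (n + 1)).1 := by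
      rw [Subgroup.relIndex_comap]
      exact relIndex_dvd_of_normal _ (Subgroup.map_comap_le _ _)
    refine dvd_trans ?_ (Nat.mul_dvd_mul hA1 hA2)
    set L := B₁ ⊓ B₂
    have h1 : (A₁ ⊓ A₂).relIndex L = A₁.relIndex L * A₂.relIndex (A₁ ⊓ L) := by
      have h2 : (A₁ ⊓ A₂ ⊓ L).relIndex (A₁ ⊓ L) * (A₁ ⊓ L).relIndex L = (A₁ ⊓ A₂ ⊓ L).relIndex L :=
        Subgroup.relIndex_mul_relIndex _ _ _ (inf_le_inf_right _ inf_le_left) inf_le_right
      rw [Subgroup.inf_relIndex_right, Subgroup.inf_relIndex_right] at h2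
      have h3 : (A₁ ⊓ A₂ ⊓ L).relIndex (A₁ ⊓ L) = A₂.relIndex (A₁ ⊓ L) := by
        have : A₁ ⊓ A₂ ⊓ L = A₂ ⊓ (A₁ ⊓ L) := by
          rw [inf_comm A₁ A₂, inf_assoc]
        rw [this, Subgroup.inf_relIndex_right]
      rw [h3] at h2
      rw [← h2, mul_comm]
    rw [h1]
    apply Nat.mul_dvd_mul
    · exact relIndex_dvd_of_normal _ inf_le_left
    · exact relIndex_dvd_of_normal _ (inf_le_right.trans inf_le_right)
  have hser : AltSeries p (fun n => ((upperPSeries p K₁ n).1).comap f₁ ⊓ ((upperPSeries p K₂ n).1).comap f₂) :=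
    { zero := by
        change (((upperPSeries p K₁ 0).1).comap f₁ ⊓ ((upperPSeries p K₂ 0).1).comap f₂) = ⊥
        rw [upper_zero, upper_zero, MonoidHom.comap_bot, MonoidHom.comap_bot, hker]
      normal := fun n => inferInstance
      mono := fun n => inf_le_inf (comap_mono (upper_le_succ n)) (comap_mono (upper_le_succ n))
      even := fun n hn => by
        refine Nat.Coprime.coprime_dvd_left (hdvd n) (Nat.Coprime.mul_left ?_ ?_)
        · exact upper_alt.even (p := p) (G := K₁) (H := fun n => (upperPSeries p K₁ n).1) _ hn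
        · exact upper_alt.even (p := p) (G := K₂) (H := fun n => (upperPSeries p K₂ n).1) _ hn
      odd := fun n hn => by
        obtain ⟨m₁, hm₁⟩ := upper_alt.odd (p := p) (G := K₁) (H := fun n => (upperPSeries p K₁ n).1) _ hn
        obtain ⟨m₂, hm₂⟩ := upper_alt.odd (p := p) (G := K₂) (H := fun n => (upperPSeries p K₂ n).1) _ hn
        have h1 := hdvd n
        rw [hm₁, hm₂, ← pow_add] at h1
        obtain ⟨j, -, hj⟩ := (Nat.dvd_prime_pow Fact.out).mp h1
        exact ⟨j, hj⟩ }
  apply hser.pLengthLE (k := k)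
  rw [PLengthLE] at h₁ h₂
  rw [h₁, h₂, Subgroup.comap_top, Subgroup.comap_top, top_inf_eq]

theorem pLengthLE_of_inf_eq_bot [Finite G] [hp : Fact p.Prime] {k : ℕ} (M N : Subgroup G) [M.Normal] [N.Normal]
    (hMN : M ⊓ N = ⊥) (h₁ : PLengthLE p k (G ⧸ M)) (h₂ : PLengthLE p k (G ⧸ N)) : PLengthLE p k G :=
  pLengthLE_of_inf_ker_eq_bot (QuotientGroup.mk' M) (QuotientGroup.mk' N)
    (by rw [QuotientGroup.ker_mk', QuotientGroup.ker_mk', hMN]) h₁ h₂

/-- if `O_{p'}(G) = 1` then `l_p(G / O_p(G)) ≤ l_p(G) - 1`. -/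
theorem pLengthLE_quotient_of_upper_two_le [Finite G] [hp : Fact p.Prime] {k : ℕ} (K : Subgroup G) [K.Normal]
    (hK : (upperPSeries p G 2).1 ≤ K) (h : PLengthLE p (k + 1) G) : PLengthLE p k (G ⧸ K) := by
  have hser : AltSeries p (fun n => ((upperPSeries p G (n + 2)).1).map (QuotientGroup.mk' K)) :=
    { zero := by
        change ((upperPSeries p G 2).1).map (QuotientGroup.mk' K) = ⊥
        rw [Subgroup.map_eq_bot_iff, QuotientGroup.ker_mk']
        exact hK
      normal := fun n => (upperPSeries p G (n + 2)).2.map _ (QuotientGroup.mk'_surjective K)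
      mono := fun n => map_mono (upper_le_succ _)
      even := fun n hn => by
        refine Nat.Coprime.coprime_dvd_left (relIndex_map_dvd _ (QuotientGroup.mk'_surjective K) _ _) ?_
        exact upper_alt.even (p := p) (G := G) (H := fun n => (upperPSeries p G n).1) (n + 2) (by
          rw [Nat.even_add]; simp [hn])
      odd := fun n hn => by
        obtain ⟨m, hm⟩ := upper_alt.odd (p := p) (G := G) (H := fun n => (upperPSeries p G n).1) (n + 2) (by
          rw [Nat.even_add]; simp [hn])
        have h1 := relIndex_map_dvd _ (QuotientGroup.mk'_surjective K) ((upperPSeries p G (n + 2)).1)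
          ((upperPSeries p G (n + 1 + 2)).1)
        rw [show n + 1 + 2 = n + 2 + 1 from rfl, hm] at h1
        obtain ⟨j, -, hj⟩ := (Nat.dvd_prime_pow Fact.out).mp h1
        exact ⟨j, hj⟩ }
  apply hser.pLengthLE (k := k)
  rw [PLengthLE] at h
  rw [show 2 * k + 1 + 2 = 2 * (k + 1) + 1 by ring, h]
  exact Subgroup.map_top_of_surjective _ (QuotientGroup.mk'_surjective K)

theorem upper_one_eq_bot [Finite G] [Fact p.Prime] (h : pPrimeCore p G = ⊥) : (upperPSeries p G 1).1 = ⊥ := by
  rw [← le_bot_iff, ← h]
  apply le_pPrimeCore p (upperPSeries p G 1).2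
  have h1 := upper_alt.even (p := p) (G := G) (H := fun n => (upperPSeries p G n).1) 0 (by simp)
  change (((upperPSeries p G 0).1).relIndex (upperPSeries p G 1).1).Coprime p at h1
  rwa [upper_zero, Subgroup.relIndex_bot_left] at h1

theorem upper_two_eq [Finite G] [Fact p.Prime] (h : pPrimeCore p G = ⊥) : (upperPSeries p G 2).1 = pCore p G := by
  apply le_antisymm
  · apply le_pCore p (upperPSeries p G 2).2
    obtain ⟨m, hm⟩ := upper_alt.odd (p := p) (G := G) (H := fun n => (upperPSeries p G n).1) 1 (by decide)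
    change ((upperPSeries p G 1).1).relIndex (upperPSeries p G 2).1 = p ^ m at hm
    rw [upper_one_eq_bot h, Subgroup.relIndex_bot_left] at hm
    exact IsPGroup.of_card hm
  · apply le_upper_odd (n := 1) (by decide) (H := ⊥) bot_le inferInstance
    rw [Subgroup.relIndex_bot_left]
    exact IsPGroup.iff_card.mp (pCore_isPGroup p)

/-- `p`-soluble groups have a `p`-length. -/
theorem exists_pLengthLE [Finite G] [Fact p.Prime] (h : IsPSolvable p G) : ∃ k, PLengthLE p k G := by
  obtain ⟨n, H, h0, hn, hmono, hnorm, hstep⟩ := h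
  have key : ∀ i : Fin (n + 1), H i ≤ (upperPSeries p G (2 * (i : ℕ))).1 := by
    intro i
    induction i using Fin.induction with
    | zero => rw [h0]; exact bot_le
    | succ i ih =>
      rw [Fin.val_castSucc] at ih
      rw [Fin.val_succ, show 2 * ((i : ℕ) + 1) = 2 * (i : ℕ) + 1 + 1 by ring]
      rcases hstep i with hm | hc
      · exact le_upper_odd (n := 2 * (i : ℕ) + 1) (by simp) (ih.trans (upper_le_succ _)) (hnorm _) hm
      · exact (le_upper_even (n := 2 * (i : ℕ)) (by simp) ih (hnorm _) hc).trans (upper_le_succ _)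
  refine ⟨n, ?_⟩
  rw [PLengthLE, eq_top_iff, ← hn]
  have h1 := key (Fin.last n)
  rw [Fin.val_last] at h1
  exact h1.trans (upper_le_succ _)

theorem isPSolvable_of_pLengthLE [Finite G] [Fact p.Prime] {k : ℕ} (h : PLengthLE p k G) : IsPSolvable p G := by
  refine ⟨2 * k + 1, fun i => (upperPSeries p G i).1, rfl, ?_, ?_, ?_, ?_⟩
  · exact h
  · intro i j hij
    exact upper_mono hij
  · intro i
    exact (upperPSeries p G i).2
  · intro i
    by_cases hi : Even (i : ℕ)
    · right
      exact upper_alt.even (p := p) (G := G) (H := fun n => (upperPSeries p G n).1) _ hi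
    · left
      exact upper_alt.odd (p := p) (G := G) (H := fun n => (upperPSeries p G n).1) _ hi

theorem upper_lt_of_isSolvable [Finite G] [hp : Fact p.Prime] [Group.IsSolvable G] (n : ℕ)
    (h : (upperPSeries p G n).1 ≠ ⊤) : (upperPSeries p G n).1 < (upperPSeries p G (n + 2)).1 := by
  set U := (upperPSeries p G n).1 with hU
  haveI : Nontrivial (G ⧸ U) := QuotientGroup.nontrivial_iff.mpr h
  obtain ⟨N, ⟨hNn, hN1, hNm⟩, -⟩ := Subnormal.exists_isMinNormal_le (⊤ : Subgroup (G ⧸ U)) inferInstance top_ne_bot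
  haveI := hNn
  obtain ⟨-, r, hr, hrp⟩ := Fitting.minimal_normal_solvable hN1 inferInstance (by
    intro M hM hMN
    by_cases h1 : M = ⊥
    · exact Or.inl h1
    · exact Or.inr (hNm M hM hMN h1))
  haveI : Fact r.Prime := ⟨hr⟩
  have hNr : IsPGroup r N := by
    intro x
    refine ⟨1, ?_⟩
    rw [pow_one]
    exact Subtype.ext (hrp x x.2)
  obtain ⟨m, hm⟩ := IsPGroup.iff_card.mp hNr
  set W := N.comap (QuotientGroup.mk' U) with hW
  have hUW : U ≤ W := by
    intro x hx
    rw [hW, mem_comap, (QuotientGroup.eq_one_iff x).mpr hx |> (fun h => (h : QuotientGroup.mk' _ x = 1))]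
    exact one_mem _
  have hlt : U < W := by
    refine lt_of_le_of_ne hUW ?_
    intro hEq
    apply hN1
    have h1 : Nat.card N = 1 := by
      rw [← relIndex_comap_mk U N, ← hW, ← hEq, Subgroup.relIndex_self]
    exact Subgroup.card_eq_one.mp h1
  have hWle : W ≤ (upperPSeries p G (n + 2)).1 := by
    have hrel : U.relIndex W = r ^ m := by rw [hW, relIndex_comap_mk, hm]
    by_cases hrp' : r = p
    · subst hrp'
      by_cases hn : Even n
      · exact le_upper_odd (n := n + 1) (by rw [Nat.even_add_one]; simpa using hn) (H := U) (upper_le_succ n)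
          inferInstance ⟨m, hrel⟩
      · exact (le_upper_odd hn (H := U) le_rfl inferInstance ⟨m, hrel⟩).trans (upper_le_succ _)
    · have hco : (U.relIndex W).Coprime p := by
        rw [hrel]
        exact Nat.Coprime.pow_left m ((Nat.coprime_primes hr hp.out).mpr hrp')
      by_cases hn : Even n
      · exact (le_upper_even hn (H := U) le_rfl inferInstance hco).trans (upper_le_succ _)
      · exact le_upper_even (n := n + 1) (by rw [Nat.even_add_one]; exact hn) (H := U) (upper_le_succ n)
          inferInstance hco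
  exact lt_of_lt_of_le hlt hWle

theorem exists_pLengthLE_of_isSolvable [Finite G] [hp : Fact p.Prime] [Group.IsSolvable G] :
    ∃ k, PLengthLE p k G := by
  by_contra hcon
  push Not at hcon
  have h1 : ∀ k, (upperPSeries p G (2 * k)).1 ≠ ⊤ := by
    intro k h
    apply hcon k
    rw [PLengthLE, eq_top_iff, ← h]
    exact upper_le_succ _
  have h2 : ∀ k, k < Nat.card (upperPSeries p G (2 * k)).1 := by
    intro k
    induction k with
    | zero => exact Nat.card_pos
    | succ k ih =>
      have h3 := upper_lt_of_isSolvable (p := p) (G := G) (2 * k) (h1 k)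
      have h4 : Nat.card (upperPSeries p G (2 * k)).1 < Nat.card (upperPSeries p G (2 * (k + 1))).1 := by
        by_contra hle
        push Not at hle
        exact h3.ne (Subgroup.eq_of_le_of_card_ge h3.le hle)
      omega
  have h3 := h2 (Nat.card G)
  have h4 : Nat.card (upperPSeries p G (2 * Nat.card G)).1 ≤ Nat.card G := Subgroup.card_le_card_group _
  omega

theorem isPSolvable_of_isSolvable [Finite G] [hp : Fact p.Prime] [Group.IsSolvable G] : IsPSolvable p G := by
  obtain ⟨k, hk⟩ := exists_pLengthLE_of_isSolvable (p := p) (G := G)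
  exact isPSolvable_of_pLengthLE hk

end Cfsg.Agent.Lib.PLength
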