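import Mathlib
import Cfsg.Agent.Lib.NormalRankTwo
import Cfsg.Agent.Lib.SubgroupTools
import Cfsg.Agent.Lib.UniqueInvolution

/-!
# p-groups whose subgroups of equal order are isomorphic (helper67)
-/

set_option autoImplicit false

namespace Cfsg.Agent.Lib.SameOrder

open Subgroup

universe u

variable {P : Type u} [Group P] [Finite P] {p : ℕ} [hp : Fact p.Prime]

omit [Finite P] hp in
theorem comm_of_equiv {H K : Subgroup P} (e : H ≃* K) (hH : ∀ a ∈ H, ∀ b ∈ H, a * b = b * a) :
    ∀ a ∈ K, ∀ b ∈ K, a * b = b * a := by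
  intro a ha b hb
  have h1 := hH (e.symm ⟨a, ha⟩) (e.symm ⟨a, ha⟩).2 (e.symm ⟨b, hb⟩) (e.symm ⟨b, hb⟩).2
  have h2 : e.symm ⟨a, ha⟩ * e.symm ⟨b, hb⟩ = e.symm ⟨b, hb⟩ * e.symm ⟨a, ha⟩ := Subtype.ext h1
  have h3 := congrArg e h2
  rw [map_mul, map_mul, e.apply_symm_apply, e.apply_symm_apply] at h3
  exact congrArg Subtype.val h3

omit [Finite P] in
theorem inf_zpowers (N : Subgroup P) {g : P} (hg : orderOf g = p) (hgN : g ∉ N) : N ⊓ zpowers g = ⊥ := by
  have h1 : Nat.card (zpowers g) = p := by rw [Nat.card_zpowers, hg]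
  have hf : Fact (Nat.card (zpowers g)).Prime := ⟨h1 ▸ hp.out⟩
  have h2 := Subgroup.eq_bot_or_eq_top_of_prime_card ((N ⊓ zpowers g).subgroupOf (zpowers g))
  rcases h2 with h2 | h2
  · rw [Subgroup.subgroupOf_eq_bot] at h2
    rw [eq_bot_iff]
    intro x hx
    exact h2.le_bot ⟨hx, hx.2⟩
  · exfalso
    apply hgN
    rw [Subgroup.subgroupOf_eq_top] at h2
    exact (h2 (mem_zpowers g)).1

/-- Extending an elementary abelian subgroup by a commuting element. -/
theorem extend (N : Subgroup P) (hNc : ∀ a ∈ N, ∀ b ∈ N, a * b = b * a) (hNp : ∀ x ∈ N, x ^ p = 1)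
    {g : P} (hg : orderOf g = p) (hgN : g ∉ N) (hcg : ∀ x ∈ N, x * g = g * x) :
    ∃ E : Subgroup P, E = N ⊔ zpowers g ∧ Nat.card E = Nat.card N * p ∧ (∀ x ∈ E, x ^ p = 1) ∧
      (∀ a ∈ E, ∀ b ∈ E, a * b = b * a) ∧ g ∈ E := by
  have hcz : ∀ x ∈ N, ∀ y ∈ zpowers g, x * y = y * x := by
    intro x hx y hy
    obtain ⟨i, rfl⟩ := mem_zpowers_iff.1 hy
    exact (show Commute x g from hcg x hx).zpow_right i
  have hnorm : zpowers g ≤ normalizer (N : Set P) := by
    intro y hy
    apply Subgroup.mem_normalizer_fintype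
    intro x hx
    rw [← hcz x hx y hy, mul_inv_cancel_right]
    exact hx
  have hinf : N ⊓ zpowers g = ⊥ := inf_zpowers N hg hgN
  have hgp : ∀ y ∈ zpowers g, y ^ p = 1 := by
    intro y hy
    have := orderOf_dvd_of_mem_zpowers hy
    rw [hg] at this
    exact orderOf_dvd_iff_pow_eq_one.1 this
  refine ⟨N ⊔ zpowers g, rfl, ?_, ?_, ?_, mem_sup_right (mem_zpowers g)⟩
  · have h1 := SubgroupTools.card_sup_mul_card_inf hnorm
    rw [hinf, card_bot, mul_one, Nat.card_zpowers, hg] at h1
    exact h1
  · intro x hx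
    obtain ⟨a, ha, b, hb, rfl⟩ := (SubgroupTools.mem_sup_of_le_normalizer hnorm).1 hx
    have h1 : Commute a b := hcz a ha b hb
    rw [h1.mul_pow, hNp a ha, hgp b hb, one_mul]
  · intro x hx y hy
    obtain ⟨a, ha, b, hb, rfl⟩ := (SubgroupTools.mem_sup_of_le_normalizer hnorm).1 hx
    obtain ⟨c, hc, d, hd, rfl⟩ := (SubgroupTools.mem_sup_of_le_normalizer hnorm).1 hy
    have hbd : b * d = d * b := by
      obtain ⟨i, rfl⟩ := mem_zpowers_iff.1 hb
      obtain ⟨j, rfl⟩ := mem_zpowers_iff.1 hd
      exact (Commute.refl g).zpow_zpow i j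
    calc a * b * (c * d) = a * (b * c) * d := by group
      _ = a * (c * b) * d := by rw [hcz c hc b hb]
      _ = (a * c) * (b * d) := by group
      _ = (c * a) * (d * b) := by rw [hNc a ha c hc, hbd]
      _ = c * (a * d) * b := by group
      _ = c * (d * a) * b := by rw [hcz a ha d hd]
      _ = c * d * (a * b) := by group

/-- The hypothesis: subgroups of equal order are isomorphic. -/
def Same (P : Type u) [Group P] : Prop := ∀ H K : Subgroup P, Nat.card H = Nat.card K → Nonempty (H ≃* K)

omit [Finite P] hp in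
theorem pow_of_equiv {H K : Subgroup P} (e : H ≃* K) {n : ℕ} (hH : ∀ a ∈ H, a ^ n = 1) : ∀ a ∈ K, a ^ n = 1 := by
  intro a ha
  have h1 := hH (e.symm ⟨a, ha⟩) (e.symm ⟨a, ha⟩).2
  have h2 : e.symm ⟨a, ha⟩ ^ n = 1 := Subtype.ext h1
  rw [← map_pow, MulEquiv.map_eq_one_iff] at h2
  exact congrArg Subtype.val h2

/-- If there are two subgroups of order `p`, the exponent is `p`. -/
theorem exponent_of_two (hP : IsPGroup p P) (hS : Same P) {x y : P} (hx : orderOf x = p) (hy : orderOf y = p)
    (hxy : y ∉ zpowers x) : ∀ g : P, g ^ p = 1 := by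
  have hnt : Nontrivial P := ⟨x, 1, fun h => by
    rw [h, orderOf_one] at hx; exact hp.out.one_lt.ne hx⟩
  have hc : Nontrivial (center P) := hP.center_nontrivial
  obtain ⟨z, hzc, hz1, hzz⟩ := UniqueInvolution.exists_central_of_normal hP ⊤ top_ne_bot
  -- an element of order p in the center
  have hcard : p ∣ Nat.card (center P) := by
    obtain ⟨k, hk⟩ := IsPGroup.iff_card.1 (hP.to_subgroup (center P))
    rw [hk]
    apply dvd_pow_self
    rintro rfl
    have := Finite.one_lt_card_iff_nontrivial.2 hc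
    rw [hk, pow_zero] at this
    exact lt_irrefl _ this
  obtain ⟨⟨c, hcc⟩, hcp⟩ := exists_prime_orderOf_dvd_card' p hcard
  rw [Subgroup.orderOf_mk] at hcp
  have hcc' : ∀ g : P, c * g = g * c := fun g => (mem_center_iff.1 hcc g).symm
  -- one of x, y is not in ⟨c⟩
  have hex : ∃ w : P, orderOf w = p ∧ w ∉ zpowers c := by
    by_contra hcon
    push Not at hcon
    have h1 := hcon x hx
    have h2 := hcon y hy
    apply hxy
    have h3 : zpowers x = zpowers c := by
      apply eq_of_le_of_card_ge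
      · rw [zpowers_le]; exact h1
      · rw [Nat.card_zpowers, Nat.card_zpowers, hx, hcp]
    rw [h3]; exact h2
  obtain ⟨w, hw, hwc⟩ := hex
  have hzp : ∀ g : P, orderOf g = p → ∀ y ∈ zpowers g, y ^ p = 1 := by
    intro g hg y hy
    have := orderOf_dvd_of_mem_zpowers hy
    rw [hg] at this
    exact orderOf_dvd_iff_pow_eq_one.1 this
  obtain ⟨E, -, hEcard, hEp, -, -⟩ := extend (zpowers c) (by
    intro a ha b hb
    obtain ⟨i, rfl⟩ := mem_zpowers_iff.1 ha
    obtain ⟨j, rfl⟩ := mem_zpowers_iff.1 hb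
    exact (Commute.refl c).zpow_zpow i j) (hzp c hcp) hw hwc (by
    intro a ha
    obtain ⟨i, rfl⟩ := mem_zpowers_iff.1 ha
    exact (show Commute c w from hcc' w).zpow_left i)
  rw [Nat.card_zpowers, hcp, ← pow_two] at hEcard
  intro g
  obtain ⟨k, hk⟩ := (IsPGroup.iff_orderOf.1 hP) g
  by_contra hne
  have hk2 : 2 ≤ k := by
    by_contra hlt
    apply hne
    apply orderOf_dvd_iff_pow_eq_one.1
    rw [hk]
    calc p ^ k ∣ p ^ 1 := pow_dvd_pow p (by omega)
      _ = p := pow_one p
  have h1 : orderOf (g ^ p ^ (k - 2)) = p ^ 2 := by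
    rw [orderOf_pow_of_dvd (pow_pos hp.out.pos _).ne' (by rw [hk]; exact pow_dvd_pow p (by omega)), hk,
      Nat.pow_div (by omega) hp.out.pos]
    congr 1; omega
  obtain ⟨e⟩ := hS E (zpowers (g ^ p ^ (k - 2))) (by rw [hEcard, Nat.card_zpowers, h1])
  have h2 := pow_of_equiv e hEp _ (mem_zpowers _)
  have h3 := orderOf_dvd_of_pow_eq_one h2
  rw [h1] at h3
  have h4 := Nat.le_of_dvd hp.out.pos h3
  have h5 := hp.out.two_le
  nlinarith

/-- A nonabelian group of exponent `p` satisfying the hypothesis has order `p ^ 3`. -/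
theorem card_of_nonabelian (hP : IsPGroup p P) (hS : Same P) (hexp : ∀ g : P, g ^ p = 1)
    (hnc : ¬ ∀ a b : P, a * b = b * a) : p ≠ 2 ∧ Nat.card P = p ^ 3 := by
  classical
  have hp2 : p ≠ 2 := by
    rintro rfl
    apply hnc
    intro a b
    have h1 : ∀ x : P, x⁻¹ = x := fun x => inv_eq_of_mul_eq_one_right (by rw [← pow_two]; exact hexp x)
    have h2 := h1 (a * b)
    rw [mul_inv_rev, h1 a, h1 b] at h2
    exact h2.symm
  refine ⟨hp2, ?_⟩
  have hord : ∀ g : P, g ≠ 1 → orderOf g = p := fun g hg => orderOf_eq_prime (hexp g) hg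
  have hncyc : ¬ IsCyclic P := by
    intro h
    apply hnc
    intro a b
    obtain ⟨g, hg⟩ := h.exists_generator
    obtain ⟨i, rfl⟩ := mem_zpowers_iff.1 (hg a)
    obtain ⟨j, rfl⟩ := mem_zpowers_iff.1 (hg b)
    exact (Commute.refl g).zpow_zpow i j
  obtain ⟨n, hn⟩ := IsPGroup.iff_card.1 hP
  have hn3 : 3 ≤ n := by
    by_contra hlt
    apply hnc
    have hn2 : n = 0 ∨ n = 1 ∨ n = 2 := by omega
    rcases hn2 with rfl | rfl | rfl
    · intro a b
      have : Subsingleton P := by
        rw [← Finite.card_le_one_iff_subsingleton, hn, pow_zero]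
      exact Subsingleton.elim _ _
    · have : IsCyclic P := isCyclic_of_prime_card (by rw [hn, pow_one])
      exact absurd this hncyc
    · have := IsPGroup.isMulCommutative_of_card_eq_prime_sq hn
      intro a b
      exact this.is_comm.comm a b
  by_contra hne
  have hn4 : 4 ≤ n := by
    rcases Nat.lt_or_ge n 4 with h | h
    · exfalso
      apply hne
      rw [hn]; congr 1; omega
    · exact h
  -- an abelian subgroup of order p^3
  have hA : ∃ A : Subgroup P, Nat.card A = p ^ 3 ∧ ∀ a ∈ A, ∀ b ∈ A, a * b = b * a := by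
    obtain ⟨z, hz, hzp, N, hNn, hzN, hNcard, hNp, hNz⟩ :=
      NormalRankTwo.exists_normal_rank_two hp2 (Nat.card P) P rfl hP hncyc
    have hNcomm : ∀ a ∈ N, ∀ b ∈ N, a * b = b * a := by
      have := IsPGroup.isMulCommutative_of_card_eq_prime_sq hNcard
      intro a ha b hb
      exact congrArg Subtype.val (this.is_comm.comm (⟨a, ha⟩ : N) ⟨b, hb⟩)
    have hex : ∃ w ∈ N, w ∉ zpowers z := by
      by_contra hcon
      push Not at hcon
      have h1 : N ≤ zpowers z := fun x hx => hcon x hx
      have h2 := Subgroup.card_le_of_le h1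
      rw [hNcard, Nat.card_zpowers, hzp] at h2
      have := hp.out.two_le
      nlinarith
    obtain ⟨w, hwN, hwz⟩ := hex
    -- the centralizer of w has index at most p
    have hidx : (centralizer ({w} : Set P)).index ≤ p := by
      have h1 : Nat.card (P ⧸ centralizer ({w} : Set P)) ≤ Nat.card (zpowers z) := by
        apply Nat.card_le_card_of_injective (f := Quotient.lift (s := QuotientGroup.leftRel (centralizer ({w} : Set P)))
          (fun g : P => (⟨g * w * g⁻¹ * w⁻¹, hNz w hwN g⟩ : zpowers z)) (by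
            intro a b hab
            have h2 : a⁻¹ * b ∈ centralizer ({w} : Set P) := QuotientGroup.leftRel_apply.1 hab
            rw [mem_centralizer_singleton_iff] at h2
            apply Subtype.ext
            show a * w * a⁻¹ * w⁻¹ = b * w * b⁻¹ * w⁻¹
            congr 1
            calc a * w * a⁻¹ = a * (w * (a⁻¹ * b)) * b⁻¹ := by group
              _ = a * ((a⁻¹ * b) * w) * b⁻¹ := by rw [h2]
              _ = b * w * b⁻¹ := by group))
        intro a b
        induction a using Quotient.inductionOn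
        induction b using Quotient.inductionOn
        rename_i a b
        intro hab
        have h2 : a * w * a⁻¹ * w⁻¹ = b * w * b⁻¹ * w⁻¹ := congrArg Subtype.val hab
        have h3 : a * w * a⁻¹ = b * w * b⁻¹ := mul_right_cancel h2
        apply Quotient.sound
        rw [← Quotient.eq_iff_equiv]
        apply QuotientGroup.eq.2
        rw [mem_centralizer_singleton_iff]
        calc a⁻¹ * b * w = a⁻¹ * (b * w * b⁻¹) * b := by group
          _ = a⁻¹ * (a * w * a⁻¹) * b := by rw [h3]
          _ = w * (a⁻¹ * b) := by group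
      rw [Nat.card_zpowers, hzp] at h1
      rwa [Subgroup.index_eq_card]
    have hex2 : ∃ g ∈ centralizer ({w} : Set P), g ∉ N := by
      by_contra hcon
      push Not at hcon
      have h1 : centralizer ({w} : Set P) ≤ N := fun x hx => hcon x hx
      have h2 := Subgroup.card_le_of_le h1
      have h3 := (centralizer ({w} : Set P)).card_mul_index
      rw [hn] at h3
      have h4 : p ^ n ≤ p ^ 2 * p := by
        rw [← h3]
        exact Nat.mul_le_mul (h2.trans hNcard.le) hidx
      rw [← pow_succ] at h4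
      have := (Nat.pow_le_pow_iff_right hp.out.one_lt).1 h4
      omega
    obtain ⟨g, hg, hgN⟩ := hex2
    have hg1 : g ≠ 1 := fun h => hgN (h ▸ N.one_mem)
    have hcg : ∀ x ∈ N, x * g = g * x := by
      set C := N ⊓ centralizer ({g} : Set P) with hC
      have hzC : zpowers z ≤ C := by
        rw [zpowers_le]
        refine ⟨hzN, ?_⟩
        show z ∈ centralizer ({g} : Set P)
        rw [mem_centralizer_singleton_iff]
        exact (mem_center_iff.1 hz g).symm
      have hwC : w ∈ C := by
        refine ⟨hwN, ?_⟩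
        show w ∈ centralizer ({g} : Set P)
        rw [mem_centralizer_singleton_iff] at hg ⊢
        exact hg.symm
      have h1 : Nat.card C ∣ p ^ 2 := by
        rw [← hNcard]; exact card_dvd_of_le inf_le_left
      obtain ⟨i, hi, hCi⟩ := (Nat.dvd_prime_pow hp.out).1 h1
      have hi2 : i = 2 := by
        by_contra hne
        apply hwz
        have h2 : zpowers z = C := by
          apply eq_of_le_of_card_ge hzC
          rw [hCi, Nat.card_zpowers, hzp]
          calc p ^ i ≤ p ^ 1 := Nat.pow_le_pow_right hp.out.pos (by omega)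
            _ = p := pow_one p
        rw [h2]; exact hwC
      have h2 : C = N := by
        apply eq_of_le_of_card_ge inf_le_left
        rw [hCi, hi2, hNcard]
      intro x hx
      rw [← h2] at hx
      exact mem_centralizer_singleton_iff.1 hx.2
    obtain ⟨E, -, hEcard, -, hEc, -⟩ := extend N hNcomm hNp (hord g hg1) hgN hcg
    exact ⟨E, by rw [hEcard, hNcard]; ring, hEc⟩
  -- a nonabelian subgroup of order p^3
  have hB : ∃ B : Subgroup P, Nat.card B = p ^ 3 ∧ ∃ a ∈ B, ∃ b ∈ B, a * b ≠ b * a := by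
    have hctop : center P ≠ ⊤ := by
      intro h
      apply hnc
      intro a b
      have : b ∈ center P := h ▸ mem_top b
      exact mem_center_iff.1 this a
    have hQ : Nontrivial (P ⧸ center P) := QuotientGroup.nontrivial_iff.2 hctop
    have hcQ : Nontrivial (center (P ⧸ center P)) := (hP.to_quotient (center P)).center_nontrivial
    obtain ⟨⟨ub, hub⟩, hub1⟩ := exists_ne (1 : center (P ⧸ center P))
    obtain ⟨u, rfl⟩ := QuotientGroup.mk_surjective ub
    have hu : u ∉ center P := fun h => hub1 (Subtype.ext ((QuotientGroup.eq_one_iff u).2 h))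
    obtain ⟨v, hv⟩ : ∃ v : P, v * u ≠ u * v := by
      by_contra hcon
      push Not at hcon
      exact hu (mem_center_iff.2 hcon)
    set c := u * v * u⁻¹ * v⁻¹ with hc
    have hcc : c ∈ center P := by
      rw [← QuotientGroup.eq_one_iff, hc]
      have h1 := mem_center_iff.1 hub (v : P ⧸ center P)
      rw [QuotientGroup.mk_mul, QuotientGroup.mk_mul, QuotientGroup.mk_mul, ← h1, QuotientGroup.mk_inv,
        QuotientGroup.mk_inv]
      group
    have hc1 : c ≠ 1 := by
      intro h
      apply hv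
      rw [hc, mul_inv_eq_one, mul_inv_eq_iff_eq_mul] at h
      exact h.symm
    have hu1 : u ≠ 1 := fun h => hu (h ▸ one_mem _)
    have hv1 : v ≠ 1 := fun h => hv (by rw [h, one_mul, mul_one])
    have hzc : zpowers c ≤ center P := by rw [zpowers_le]; exact hcc
    obtain ⟨E, hE, hEcard, hEp, hEc, huE⟩ := extend (zpowers c) (by
      intro a ha b _
      exact (mem_center_iff.1 (hzc ha) b).symm) (fun x _ => hexp x) (hord u hu1) (fun h => hu (hzc h)) (by
      intro a ha
      exact (mem_center_iff.1 (hzc ha) u).symm)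
    rw [Nat.card_zpowers, hord c hc1] at hEcard
    have hcE : c ∈ E := by rw [hE]; exact mem_sup_left (mem_zpowers c)
    have hvE : v ∉ E := fun h => hv (hEc v h u huE)
    have hvu : v * u * v⁻¹ = c⁻¹ * u := by
      rw [hc]; group
    have hnorm : zpowers v ≤ normalizer (E : Set P) := by
      rw [zpowers_le]
      apply Subgroup.mem_normalizer_fintype
      intro x hx
      have h1 : E ≤ E.comap (MulAut.conj v).toMonoidHom := by
        rw [hE]
        apply sup_le
        · rw [zpowers_le, Subgroup.mem_comap]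
          show v * c * v⁻¹ ∈ zpowers c ⊔ zpowers u
          rw [mem_center_iff.1 hcc v, mul_inv_cancel_right]
          exact mem_sup_left (mem_zpowers c)
        · rw [zpowers_le, Subgroup.mem_comap]
          show v * u * v⁻¹ ∈ zpowers c ⊔ zpowers u
          rw [hvu]
          exact mul_mem (inv_mem (mem_sup_left (mem_zpowers c))) (mem_sup_right (mem_zpowers u))
      exact h1 hx
    refine ⟨E ⊔ zpowers v, ?_, v, mem_sup_right (mem_zpowers v), u, mem_sup_left huE, hv⟩
    have h1 := SubgroupTools.card_sup_mul_card_inf hnorm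
    rw [inf_zpowers E (hord v hv1) hvE, card_bot, mul_one, Nat.card_zpowers, hord v hv1, hEcard] at h1
    rw [h1]; ring
  obtain ⟨A, hAcard, hAc⟩ := hA
  obtain ⟨B, hBcard, a, ha, b, hb, hab⟩ := hB
  obtain ⟨e⟩ := hS A B (by rw [hAcard, hBcard])
  exact hab (comm_of_equiv e hAc a ha b hb)

omit [Finite P] hp in
theorem isCyclic_of_equiv {H K : Subgroup P} (e : H ≃* K) (h : IsCyclic H) : IsCyclic K :=
  isCyclic_of_surjective e e.surjective

/-- A generalized quaternion group satisfying the hypothesis has order 8. -/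
theorem quat_order {m : ℕ} (e : P ≃* QuaternionGroup (2 ^ m)) (hS : Same P) : m ≤ 1 := by
  classical
  by_contra hlt
  have hm : 2 ≤ m := by omega
  have hf2 : Fact (Nat.Prime 2) := ⟨Nat.prime_two⟩
  -- a cyclic subgroup of order 8
  have ha : orderOf (e.symm (QuaternionGroup.a 1)) = 2 * 2 ^ m := by
    rw [MulEquiv.orderOf_eq, QuaternionGroup.orderOf_a_one]
  have hx : orderOf (e.symm (QuaternionGroup.xa 0)) = 4 := by
    rw [MulEquiv.orderOf_eq, QuaternionGroup.orderOf_xa]
  set a := e.symm (QuaternionGroup.a 1) with hadef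
  set x := e.symm (QuaternionGroup.xa 0) with hxdef
  have hpow : 2 * 2 ^ m = 8 * 2 ^ (m - 2) := by
    obtain ⟨k, rfl⟩ : ∃ k, m = k + 2 := ⟨m - 2, by omega⟩
    rw [pow_add]; simp; ring
  have ha8 : orderOf (a ^ 2 ^ (m - 2)) = 8 := by
    rw [orderOf_pow_of_dvd (by positivity) (by rw [ha, hpow]; exact Dvd.intro_left _ rfl), ha, hpow]
    exact Nat.mul_div_cancel _ (by positivity)
  have hcardP : Nat.card P = 4 * 2 ^ m := by
    rw [Nat.card_congr e.toEquiv, Nat.card_eq_fintype_card, QuaternionGroup.card]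
  -- a subgroup of order 8 containing x
  obtain ⟨K, hKcard, hxK⟩ := Sylow.exists_subgroup_card_pow_prime_le (G := P) 2 (n := 2) (m := 3) (by
    rw [hcardP]
    obtain ⟨k, rfl⟩ : ∃ k, m = k + 2 := ⟨m - 2, by omega⟩
    refine ⟨2 * 2 ^ k, ?_⟩
    rw [pow_add]; norm_num; ring) (zpowers x) (by rw [Nat.card_zpowers, hx]; norm_num) (by norm_num)
  obtain ⟨f⟩ := hS (zpowers (a ^ 2 ^ (m - 2))) K (by rw [Nat.card_zpowers, ha8, hKcard]; norm_num)
  have hKcyc : IsCyclic K := isCyclic_of_equiv f inferInstance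
  obtain ⟨g, hg⟩ := hKcyc.exists_generator
  have hgord : orderOf (g : P) = 8 := by
    rw [Subgroup.orderOf_coe, orderOf_eq_card_of_forall_mem_zpowers hg, hKcard]; norm_num
  -- g corresponds to a power of a
  have hga : (g : P) ∈ zpowers a := by
    rcases hq : e (g : P) with i | i
    · have : (g : P) = e.symm (QuaternionGroup.a i) := by rw [← hq, e.symm_apply_apply]
      rw [this, hadef]
      have h1 : (QuaternionGroup.a i : QuaternionGroup (2 ^ m)) = (QuaternionGroup.a 1) ^ i.val := by
        have : NeZero (2 * 2 ^ m) := ⟨by positivity⟩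
        rw [QuaternionGroup.a_one_pow, ZMod.natCast_val, ZMod.cast_id', id]
      rw [h1, map_pow]
      exact npow_mem_zpowers _ _
    · exfalso
      have : orderOf (e (g : P)) = 4 := by rw [hq, QuaternionGroup.orderOf_xa]
      rw [MulEquiv.orderOf_eq, hgord] at this
      norm_num at this
  have hxa : x ∈ zpowers a := by
    have h1 : (⟨x, hxK (mem_zpowers x)⟩ : K) ∈ zpowers g := hg _
    obtain ⟨i, hi⟩ := mem_zpowers_iff.1 h1
    have h2 : (g : P) ^ i = x := congrArg Subtype.val hi
    rw [← h2]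
    exact zpow_mem hga i
  obtain ⟨i, hi⟩ := mem_zpowers_iff.1 hxa
  have h3 := congrArg e hi
  rw [map_zpow, hadef, hxdef, e.apply_symm_apply, e.apply_symm_apply] at h3
  -- powers of a are not of the form xa
  have h4 : ∀ n : ℕ, ∃ j, (QuaternionGroup.a 1 : QuaternionGroup (2 ^ m)) ^ n = QuaternionGroup.a j :=
    fun n => ⟨_, QuaternionGroup.a_one_pow n⟩
  have h5 : QuaternionGroup.xa 0 ∈ zpowers (QuaternionGroup.a 1 : QuaternionGroup (2 ^ m)) :=
    mem_zpowers_iff.2 ⟨i, h3⟩
  obtain ⟨n, hn⟩ := mem_powers_iff_mem_zpowers.2 h5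
  obtain ⟨j, hj⟩ := h4 n
  have hn' : (QuaternionGroup.a 1 : QuaternionGroup (2 ^ m)) ^ n = QuaternionGroup.xa 0 := hn
  rw [hj] at hn'
  cases hn'

end Cfsg.Agent.Lib.SameOrder
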