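import Cfsg.Agent.Lib.H1SameF
import Cfsg.Agent.Lib.H1ZamD
import Cfsg.Agent.Lib.QDFusion3
import Cfsg.Agent.Lib.CriticalOdd
import Cfsg.Agent.S4020

set_option autoImplicit false
set_option linter.unusedSectionVars false
set_option linter.unusedVariables false

open Subgroup MulAction Cfsg

namespace Cfsg.Agent.Lib.H1Same

theorem mem_of_pow_coprime {G : Type*} [Group G] {H : Subgroup G} {g : G} {m n : ℕ} (h : m.Coprime n)
    (h1 : g ^ m ∈ H) (h2 : g ^ n ∈ H) : g ∈ H := by
  have h3 := Nat.gcd_eq_gcd_ab m n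
  have h5 : Nat.gcd m n = 1 := h
  rw [h5, Nat.cast_one] at h3
  have h4 : g = (g ^ m) ^ (Nat.gcdA m n) * (g ^ n) ^ (Nat.gcdB m n) := by
    rw [← zpow_natCast, ← zpow_natCast, ← zpow_mul, ← zpow_mul, ← zpow_add, ← h3, zpow_one]
  rw [h4]
  exact mul_mem (zpow_mem h1 _) (zpow_mem h2 _)

variable {G : Type*} [Group G] [Finite G]

theorem npc_of_cyclic (hC : Cj G) (h2 : E2 G) {e : ℕ} [Fact e.Prime] (he : e = 3 ∨ e = 5) (E : Sylow e G)
    (hcyc : IsCyclic E) {t : G} (ht1 : t ≠ 1) (htt : t * t = 1) (hd : e ∣ Nat.card (centralizer ({t} : Set G))) :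
    ∃ G0 : Subgroup G, G0.Normal ∧ (Nat.card G0).Coprime e ∧ ∃ k, G0.index = e ^ k := by
  classical
  have hep : e.Prime := Fact.out
  have he2 : e ≠ 2 := by omega
  obtain ⟨x, hx⟩ := hcyc.exists_generator
  obtain ⟨m, hm⟩ := IsPGroup.iff_card.1 E.2
  have hxo : orderOf (x : G) = e ^ m := by
    rw [Subgroup.orderOf_coe, orderOf_eq_card_of_forall_mem_zpowers hx]; exact hm
  have hmpos : m ≠ 0 := by
    rintro rfl
    have h3 : e ∣ Nat.card G := hd.trans (Subgroup.card_subgroup_dvd_card _)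
    have h4 := E.dvd_card_of_dvd_card h3
    rw [pow_zero] at hm
    rw [hm] at h4
    exact hep.one_lt.ne' (Nat.dvd_one.1 h4)
  obtain ⟨n, rfl⟩ := Nat.exists_eq_succ_of_ne_zero hmpos
  obtain ⟨y, hy⟩ : ∃ y : G, y = (x : G) ^ (e ^ n) := ⟨_, rfl⟩
  have hyo : orderOf y = e := by
    rw [hy, orderOf_pow_of_dvd (pow_pos hep.pos n).ne' (by rw [hxo]; exact pow_dvd_pow e n.le_succ), hxo,
      Nat.succ_eq_add_one, pow_succ, Nat.mul_div_cancel_left _ (pow_pos hep.pos n)]
  have hy1 : y ≠ 1 := by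
    intro h; rw [h, orderOf_one] at hyo; exact hep.one_lt.ne hyo
  have hkey : normalizer ((E : Subgroup G) : Set G) ≤ centralizer ((E : Subgroup G) : Set G) := by
    intro g hg
    have hgx : g * x * g⁻¹ ∈ (E : Subgroup G) := (mem_normalizer_iff.1 hg x).1 x.2
    obtain ⟨k, hk⟩ : ∃ k : ℕ, (x : G) ^ k = g * x * g⁻¹ := by
      have h3 := hx ⟨_, hgx⟩
      obtain ⟨k, hk⟩ := (mem_powers_iff_mem_zpowers.2 h3)
      exact ⟨k, congrArg Subtype.val hk⟩
    have hpow : ∀ j : ℕ, g ^ j * x * (g ^ j)⁻¹ = (x : G) ^ (k ^ j) := by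
      intro j
      induction j with
      | zero => simp
      | succ j ih =>
        calc g ^ (j + 1) * x * (g ^ (j + 1))⁻¹ = g * (g ^ j * x * (g ^ j)⁻¹) * g⁻¹ := by
              rw [pow_succ', mul_inv_rev]; simp only [mul_assoc]
          _ = (g * x * g⁻¹) ^ (k ^ j) := by rw [ih, conj_pow]
          _ = (x : G) ^ (k ^ (j + 1)) := by rw [← hk, ← pow_mul, pow_succ']
    have hpowy : ∀ j : ℕ, g ^ j * y * (g ^ j)⁻¹ = y ^ (k ^ j) := by
      intro j
      rw [hy, ← conj_pow, hpow, ← pow_mul, ← pow_mul, mul_comm]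
    have hinv : ∀ j : ℕ, ¬ e ∣ k ^ j + 1 := by
      intro j hj
      have h3 : g ^ j * y * (g ^ j)⁻¹ = y⁻¹ := by
        rw [hpowy, eq_inv_iff_mul_eq_one, ← pow_succ]
        rw [← hyo] at hj
        exact orderOf_dvd_iff_pow_eq_one.1 hj
      obtain ⟨i, hi1, hi2⟩ := h2.exists_inv hep he2 hyo h3
      exact hC.noinv hep he2 ht1 htt hd _ y hi1 hyo hi2
    have hk0 : ¬ e ∣ k := by
      intro h
      have h3 := hpowy 1
      rw [pow_one, pow_one] at h3
      rw [← hyo] at h
      rw [orderOf_dvd_iff_pow_eq_one.1 h] at h3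
      apply hy1
      calc y = g⁻¹ * (g * y * g⁻¹) * g := by group
        _ = 1 := by rw [h3]; group
    have hk1 : (e : ℤ) ∣ (k : ℤ) - 1 := by
      have h1 := hinv 1
      have h2' := hinv 2
      rw [pow_one] at h1
      rw [pow_two] at h2'
      rcases he with rfl | rfl
      · omega
      · have h4 : k % 5 = 0 ∨ k % 5 = 1 ∨ k % 5 = 2 ∨ k % 5 = 3 ∨ k % 5 = 4 := by omega
        have h5 : (k * k + 1) % 5 = ((k % 5) * (k % 5) + 1) % 5 := by
          rw [Nat.add_mod, Nat.mul_mod]; simp [Nat.add_mod]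
        rcases h4 with h4 | h4 | h4 | h4 | h4
        · omega
        · omega
        · rw [h4] at h5; omega
        · rw [h4] at h5; omega
        · omega
    have h4 := dvd_sub_pow_of_dvd_sub (p := e) hk1 n
    have h5 : g ^ (e ^ n) ∈ centralizer ({(x : G)} : Set G) := by
      rw [mem_centralizer_singleton_iff]
      have h6 : (x : G) ^ (k ^ (e ^ n)) = x := by
        have h7 : (x : G) ^ ((k : ℤ) ^ (e ^ n) - 1) = 1 := by
          rw [← orderOf_dvd_iff_zpow_eq_one, hxo]
          rw [one_pow] at h4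
          push_cast
          exact h4
        calc (x : G) ^ (k ^ (e ^ n)) = (x : G) ^ ((k : ℤ) ^ (e ^ n)) := by
              rw [← zpow_natCast]; push_cast; rfl
          _ = (x : G) ^ ((k : ℤ) ^ (e ^ n) - 1) * x := by rw [← zpow_add_one]; congr 1; ring
          _ = x := by rw [h7, one_mul]
      have h7 := hpow (e ^ n)
      rw [h6] at h7
      calc g ^ e ^ n * (x : G) = (g ^ e ^ n * x * (g ^ e ^ n)⁻¹) * g ^ e ^ n := by group
        _ = x * g ^ e ^ n := by rw [h7]
    obtain ⟨u, b, hb, hgo⟩ := Nat.exists_eq_pow_mul_and_not_dvd (orderOf_pos g).ne' e hep.ne_one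
    have h6 : g ^ b ∈ centralizer ({(x : G)} : Set G) := by
      have h7 : IsPGroup e (zpowers (g ^ b)) := by
        apply IsPGroup.of_card (n := u)
        have hb0 : b ≠ 0 := by rintro rfl; exact hb (dvd_zero e)
        rw [Nat.card_zpowers, orderOf_pow_of_dvd hb0 (by rw [hgo]; exact Dvd.intro_left _ rfl), hgo,
          Nat.mul_div_cancel _ (Nat.pos_of_ne_zero hb0)]
      have h8 : g ^ b ∈ zpowers (g ^ b) ⊓ normalizer (E : Set G) := ⟨mem_zpowers _, pow_mem hg b⟩
      rw [h7.inf_normalizer_sylow] at h8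
      rw [mem_centralizer_singleton_iff]
      obtain ⟨i, hi⟩ := mem_zpowers_iff.1 (hx ⟨_, h8.2⟩)
      have hi' : (x : G) ^ i = g ^ b := congrArg Subtype.val hi
      rw [← hi', ← zpow_add_one, ← zpow_one_add, add_comm]
    have h7 : g ∈ centralizer ({(x : G)} : Set G) := by
      refine mem_of_pow_coprime ?_ h5 h6
      exact Nat.Coprime.pow_left _ ((Nat.Prime.coprime_iff_not_dvd hep).2 hb)
    rw [mem_centralizer_iff]
    intro h hh
    obtain ⟨i, hi⟩ := mem_zpowers_iff.1 (hx ⟨_, hh⟩)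
    have hi' : (x : G) ^ i = h := congrArg Subtype.val hi
    have h8 : Commute g (x : G) := mem_centralizer_singleton_iff.1 h7
    rw [← hi']
    exact (h8.zpow_right i).symm.eq
  refine ⟨(MonoidHom.transferSylow E hkey).ker, inferInstance, ?_, n + 1, ?_⟩
  · exact ((Nat.Prime.coprime_iff_not_dvd hep).2 (MonoidHom.not_dvd_card_ker_transferSylow E hkey)).symm
  · rw [(MonoidHom.ker_transferSylow_isComplement' E hkey).symm.index_eq_card]
    exact hm

end Cfsg.Agent.Lib.H1Same
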