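import Cfsg.Agent.Lib.H1SameG

set_option autoImplicit false
set_option linter.unusedSectionVars false
set_option linter.unusedVariables false

open Subgroup MulAction Cfsg

namespace Cfsg.Agent.Lib.H1Same

variable {G : Type*} [Group G] [Finite G]

/-- fixed points on the Sylow 2-subgroup -/
theorem fix_or {n e : ℕ} [Fact e.Prime] (hne : (n = 3 ∧ e = 3) ∨ (n = 5 ∧ e = 5)) (a : Sylow 2 G)
    (hcard : Nat.card a = 2 ^ n) {y : G} (hy : y ∈ normalizer ((a : Subgroup G) : Set G)) (hyo : orderOf y = e) :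
    (∃ t ∈ (a : Subgroup G), t ≠ 1 ∧ t * y = y * t) ∧ ((∀ s ∈ (a : Subgroup G), s * y = y * s) ∨
    ∀ T : Subgroup G, T ≤ (a : Subgroup G) → (∀ s ∈ T, s * y = y * s) → Nat.card T ∣ 2) := by
  have h1 := CriticalOdd.card_modEq_centralizer (q := e) (H := (a : Subgroup G)) (Q := zpowers y)
    (IsPGroup.of_card (n := 1) (by rw [Nat.card_zpowers, hyo, pow_one])) (by rw [zpowers_le]; exact hy)
  obtain ⟨F, hF⟩ : ∃ F : Subgroup G, F = (a : Subgroup G) ⊓ centralizer (zpowers y : Set G) := ⟨_, rfl⟩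
  rw [← hF] at h1
  have hFa : F ≤ (a : Subgroup G) := by rw [hF]; exact inf_le_left
  have hFy : ∀ s ∈ F, s * y = y * s := by
    intro s hs
    rw [hF] at hs
    exact (mem_centralizer_iff.1 hs.2 y (mem_zpowers y)).symm
  have hFmax : ∀ T : Subgroup G, T ≤ (a : Subgroup G) → (∀ s ∈ T, s * y = y * s) → T ≤ F := by
    intro T hT hTy s hs
    rw [hF]
    refine ⟨hT hs, mem_centralizer_iff.2 ?_⟩
    rintro z hz
    obtain ⟨i, rfl⟩ := mem_zpowers_iff.1 hz
    have h3 : Commute s y := hTy s hs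
    exact (h3.zpow_right i).symm.eq
  have h3 : Nat.card (a : Subgroup G) = 2 ^ n := hcard
  have h4 : Nat.card F ∣ 2 ^ n := by rw [← h3]; exact card_dvd_of_le hFa
  obtain ⟨k, hk, hFk⟩ := (Nat.dvd_prime_pow Nat.prime_two).1 h4
  rw [hFk, h3] at h1
  have h5 : k = 1 ∨ k = n := by
    rcases hne with ⟨rfl, rfl⟩ | ⟨rfl, rfl⟩
    · have h6 : 2 ^ 3 % 3 = 2 ^ k % 3 := h1
      interval_cases k <;> simp at h6 ⊢
    · have h6 : 2 ^ 5 % 5 = 2 ^ k % 5 := h1
      interval_cases k <;> simp at h6 ⊢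
  have hkpos : 0 < k := by
    rcases h5 with h | h
    · omega
    · rcases hne with ⟨h6, -⟩ | ⟨h6, -⟩ <;> omega
  refine ⟨?_, ?_⟩
  · have h6 : Nontrivial F := Finite.one_lt_card_iff_nontrivial.1 (by rw [hFk]; exact Nat.one_lt_pow hkpos.ne' (by norm_num))
    obtain ⟨t, ht⟩ := exists_ne (1 : F)
    exact ⟨t, hFa t.2, fun h => ht (Subtype.ext h), hFy t t.2⟩
  · rcases h5 with h | h
    · right
      intro T hT hTy
      have h6 := card_dvd_of_le (hFmax T hT hTy)
      rwa [hFk, h, pow_one] at h6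
    · left
      have h6 : F = (a : Subgroup G) := Subgroup.eq_of_le_of_card_ge hFa (by rw [hFk, h3, h])
      intro s hs
      exact hFy s (by rw [h6]; exact hs)

section pair

variable {q r n e : ℕ} (hC : Cj G) (h2 : E2 G) (hcard : ∀ P : Sylow 2 G, Nat.card P = q) (hr : r.Prime) (hr2 : r ≠ 2)
  (hqr : q = r + 1) (hqn : q = 2 ^ n) (hne : (n = 3 ∧ e = 3) ∨ (n = 5 ∧ e = 5)) [Fact e.Prime]
  (a : Sylow 2 G) (hN : Nat.card (normalizer ((a : Subgroup G) : Set G)) = Nat.card (XX a) * (q * (r * e)))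
include hC h2 hcard hr hr2 hqr hqn hne hN

theorem cyc_of_not_dvd (hX : ¬ e ∣ Nat.card (XX a)) : ∃ E : Sylow e G, IsCyclic E := by
  classical
  have hep : e.Prime := Fact.out
  have he2 : e ≠ 2 := by omega
  have heodd : Odd e := hep.odd_of_ne_two he2
  have heq : ¬ e ∣ q := by
    rw [hqn]
    intro h
    exact he2 ((Nat.prime_dvd_prime_iff_eq hep Nat.prime_two).1 (hep.dvd_of_dvd_pow h))
  have her : ¬ e ∣ r := by
    intro h
    have h3 := (Nat.prime_dvd_prime_iff_eq hep hr).1 h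
    rcases hne with ⟨h4, h5⟩ | ⟨h4, h5⟩
    · subst h4 h5; omega
    · subst h4 h5; omega
  have hcop : Nat.Coprime (e * e) (Nat.card (XX a) * (q * r)) := by
    have h3 : Nat.Coprime e (Nat.card (XX a) * (q * r)) := by
      rw [Nat.Prime.coprime_iff_not_dvd hep]
      intro h
      rcases hep.dvd_mul.1 h with h4 | h4
      · exact hX h4
      · rcases hep.dvd_mul.1 h4 with h5 | h5
        · exact heq h5
        · exact her h5
    exact Nat.Coprime.mul_left h3 h3
  have heN : e ∣ Nat.card (normalizer ((a : Subgroup G) : Set G)) := by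
    rw [hN]; exact ⟨Nat.card (XX a) * (q * r), by ring⟩
  have heN2 : ¬ e * e ∣ Nat.card (normalizer ((a : Subgroup G) : Set G)) := by
    rw [hN]
    intro h
    have h3 : Nat.card (XX a) * (q * (r * e)) = (Nat.card (XX a) * (q * r)) * e := by ring
    rw [h3] at h
    have h4 := hcop.dvd_of_dvd_mul_left h
    have h5 := Nat.le_of_dvd hep.pos h4
    have := hep.two_le
    nlinarith
  obtain ⟨y0, hy0⟩ := exists_prime_orderOf_dvd_card' (G := normalizer ((a : Subgroup G) : Set G)) e heN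
  obtain ⟨y, hy⟩ : ∃ y : G, y = y0 := ⟨_, rfl⟩
  have hyN : y ∈ normalizer ((a : Subgroup G) : Set G) := by rw [hy]; exact y0.2
  have hyo : orderOf y = e := by rw [hy, Subgroup.orderOf_coe, hy0]
  obtain ⟨⟨t, hta, ht1, hty⟩, hfix⟩ := fix_or hne a (by rw [hcard, hqn]) hyN hyo
  have htt := h2 a t hta
  have hfix' : ∀ T : Subgroup G, T ≤ (a : Subgroup G) → (∀ s ∈ T, s * y = y * s) → Nat.card T ∣ 2 := by
    rcases hfix with h | h
    · exfalso
      have h3 : y ∈ XX a := (mem_XX_iff hC h2 a).2 ⟨h, by rw [hyo]; exact heodd⟩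
      apply hX
      rw [← hyo, ← Subgroup.orderOf_mk y h3]
      exact orderOf_dvd_natCard _
    · exact h
  obtain ⟨C, hCd⟩ : ∃ C : Subgroup G, C = centralizer ({y} : Set G) := ⟨_, rfl⟩
  have htC : t ∈ C := by rw [hCd, mem_centralizer_singleton_iff]; exact hty
  have hz : IsPGroup 2 (zpowers (⟨t, htC⟩ : C)) := by
    apply IsPGroup.of_card_dvd_pow (n := 1)
    rw [Nat.card_zpowers, pow_one]
    exact orderOf_dvd_of_pow_eq_one (Subtype.ext (by rw [pow_two]; exact htt))
  obtain ⟨T, hT⟩ := hz.exists_le_sylow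
  have htT : (⟨t, htC⟩ : C) ∈ T := hT (mem_zpowers _)
  obtain ⟨P, hP⟩ := (T.2.map C.subtype).exists_le_sylow
  have hPa : P = a := TI hC h2 P a (hP ⟨_, htT, rfl⟩) hta ht1
  rw [hPa] at hP
  have hTc : Nat.card T ∣ 2 := by
    have h3 := hfix' _ hP (by
      rintro _ ⟨s, hs, rfl⟩
      exact mem_centralizer_singleton_iff.1 (hCd.le s.2))
    rwa [Cores.card_map_subtype] at h3
  have hTcyc : IsCyclic T := by
    rcases (Nat.dvd_prime Nat.prime_two).1 hTc with h | h
    · exact isCyclic_of_card_dvd_prime (p := 2) (by rw [h]; norm_num)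
    · exact isCyclic_of_prime_card h
  obtain ⟨P', L, hLn, hcompl⟩ := QDFusion.npc_of_cyclic T hTcyc
  have hLP : Nat.card L * Nat.card P' = Nat.card C := hcompl.card_mul
  have hLodd : Odd (Nat.card L) := by
    rw [← Nat.not_even_iff_odd]
    intro h
    have h3 : (P' : Subgroup C).index = Nat.card L := hcompl.index_eq_card
    apply P'.not_dvd_index
    rw [h3]; exact h.two_dvd
  obtain ⟨T1, hT1⟩ : ∃ T1 : Subgroup G, T1 = L.map C.subtype := ⟨_, rfl⟩
  have hT1c : Nat.card T1 = Nat.card L := by rw [hT1, Cores.card_map_subtype]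
  have hT1n : ∀ x ∈ T1, t * x * t ∈ T1 := by
    intro x hx
    rw [hT1] at hx ⊢
    obtain ⟨x', hx', rfl⟩ := hx
    refine ⟨⟨t, htC⟩ * x' * (⟨t, htC⟩ : C)⁻¹, hLn.conj_mem x' hx' ⟨t, htC⟩, ?_⟩
    show t * (x' : G) * t⁻¹ = t * (x' : G) * t
    rw [inv_eq_of_mul_eq_one_left htt]
  have hty' : e ∣ Nat.card (centralizer ({t} : Set G)) := by
    have h3 : y ∈ centralizer ({t} : Set G) := by rw [mem_centralizer_singleton_iff]; exact hty.symm
    rw [← hyo, ← Subgroup.orderOf_mk y h3]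
    exact orderOf_dvd_natCard _
  obtain ⟨F, hFT, hFp, hFi, hFt⟩ := H1Zam.exists_sylow_comm htt T1 (by rw [hT1c]; exact hLodd) hT1n e
    (fun z hz => hC.noinv hep he2 ht1 htt hty' t z htt hz)
  have hFN : F ≤ normalizer ((a : Subgroup G) : Set G) := by
    intro z hz
    apply core hC h2 a hta ht1
    rw [mem_centralizer_singleton_iff]
    exact (hFt z hz).symm
  have hnC : ¬ e * e ∣ Nat.card C := by
    intro h
    rw [← hLP] at h
    obtain ⟨i, hi⟩ := IsPGroup.iff_card.1 P'.2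
    have hi' : Nat.card P' = 2 ^ i := hi
    have he2c : Nat.Coprime (e * e) (2 ^ i) := by
      apply Nat.Coprime.pow_right
      have h3 : Nat.Coprime e 2 := Nat.coprime_two_right.2 heodd
      exact Nat.Coprime.mul_left h3 h3
    rw [hi'] at h
    have h3 := he2c.dvd_of_dvd_mul_right h
    rw [← hT1c, ← Cores.card_mul_relIndex hFT] at h3
    have h4 : Nat.Coprime (e * e) (F.relIndex T1) := by
      have h5 := (Nat.Prime.coprime_iff_not_dvd hep).2 hFi
      exact Nat.Coprime.mul_left h5 h5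
    have h5 := h4.dvd_of_dvd_mul_right h3
    exact heN2 (h5.trans (card_dvd_of_le hFN))
  have hyz : IsPGroup e (zpowers y) := IsPGroup.of_card (n := 1) (by rw [Nat.card_zpowers, hyo, pow_one])
  obtain ⟨E, hE⟩ := hyz.exists_le_sylow
  have hyE : y ∈ (E : Subgroup G) := hE (mem_zpowers y)
  refine ⟨E, ?_⟩
  have h4 := Cfsg.Agent.S4020.result (fun p _ H K _ _ h => hC H K h) E
  rcases h4 with h | h | ⟨⟨f⟩⟩
  · exact h
  · have hEC : (E : Subgroup G) ≤ C := by
      intro z hz
      rw [hCd, mem_centralizer_singleton_iff]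
      have h5 := h.1.is_comm.comm (⟨z, hz⟩ : (E : Subgroup G)) ⟨y, hyE⟩
      exact congrArg Subtype.val h5
    obtain ⟨i, hi⟩ := IsPGroup.iff_card.1 E.2
    have hi' : Nat.card (E : Subgroup G) = e ^ i := hi
    have h5 := card_dvd_of_le hEC
    rw [hi'] at h5
    have h6 : i < 2 := by
      by_contra hcon
      push Not at hcon
      apply hnC
      refine Dvd.dvd.trans ?_ h5
      rw [← pow_two]
      exact pow_dvd_pow e hcon
    have h7 : Nat.card E ∣ e := by
      rw [hi]
      have : i ≤ 1 := by omega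
      calc e ^ i ∣ e ^ 1 := pow_dvd_pow e this
        _ = e := pow_one e
    exact isCyclic_of_card_dvd_prime h7
  · exfalso
    have h5 := Nat.card_congr f.toEquiv
    obtain ⟨i, hi⟩ := IsPGroup.iff_card.1 E.2
    have hi' : Nat.card (E : Subgroup G) = e ^ i := hi
    rw [hi', Nat.card_eq_fintype_card, QuaternionGroup.card] at h5
    have h6 : 2 ∣ e ^ i := by rw [h5]; norm_num
    exact he2 ((Nat.prime_dvd_prime_iff_eq Nat.prime_two hep).1 (Nat.prime_two.dvd_of_dvd_pow h6)).symm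

theorem cyc_of_dvd (hX : e ∣ Nat.card (XX a)) : ∃ E : Sylow e G, IsCyclic E := by
  classical
  have hep : e.Prime := Fact.out
  have he2 : e ≠ 2 := by omega
  obtain ⟨x0, hx0⟩ := exists_prime_orderOf_dvd_card' (G := XX a) e hX
  have hxo : orderOf (x0 : G) = e := by rw [Subgroup.orderOf_coe, hx0]
  obtain ⟨E1⟩ : Nonempty (Sylow e (normalizer ((a : Subgroup G) : Set G))) := inferInstance
  obtain ⟨E, hE⟩ := (E1.2.map (normalizer ((a : Subgroup G) : Set G)).subtype).exists_le_sylow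
  refine ⟨E, ?_⟩
  have h4 := Cfsg.Agent.S4020.result (fun p _ H K _ _ h => hC H K h) E
  rcases h4 with h | h | ⟨⟨f⟩⟩
  · exact h
  · exfalso
    have hle : (E1 : Subgroup _).map (normalizer ((a : Subgroup G) : Set G)).subtype ≤ XX a := by
      intro z hz
      have hzE := hE hz
      have hzN : z ∈ normalizer ((a : Subgroup G) : Set G) := (map_subtype_le _) hz
      by_cases hz1 : z = 1
      · rw [hz1]; exact one_mem _
      · have hzo : orderOf z = e := orderOf_eq_prime (h.2 z hzE) hz1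
        obtain ⟨g, hg⟩ := hC (zpowers (x0 : G)) (zpowers z) (by rw [Nat.card_zpowers, Nat.card_zpowers, hxo, hzo])
        have h5 : z ∈ (zpowers (x0 : G)).map (MulAut.conj g).toMonoidHom := by rw [← hg]; exact mem_zpowers z
        obtain ⟨w, hw, hwz⟩ := h5
        have hwX : w ∈ XX a := (zpowers_le.2 x0.2) hw
        have h6 := XX_conj hC h2 a g hwX
        have h7 : g * w * g⁻¹ = z := hwz
        rw [h7] at h6
        exact XXX hC h2 hcard hr hr2 hqr (g • a) a h6 ((stab_iff a z).2 hzN)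
    have h5 := card_dvd_of_le hle
    rw [Cores.card_map_subtype] at h5
    obtain ⟨v, b, hb, hv⟩ := Nat.exists_eq_pow_mul_and_not_dvd (Nat.card_pos (α := XX a)).ne' e hep.ne_one
    have h6 : e ^ (v + 1) ∣ Nat.card (normalizer ((a : Subgroup G) : Set G)) := by
      rw [hN, hv]
      exact ⟨b * (q * r), by ring⟩
    have h7 := (E1.pow_dvd_card_of_pow_dvd_card h6).trans h5
    rw [hv, pow_succ] at h7
    exact hb (Nat.dvd_of_mul_dvd_mul_left (pow_pos hep.pos v) h7)
  · exfalso
    have h5 := Nat.card_congr f.toEquiv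
    obtain ⟨i, hi⟩ := IsPGroup.iff_card.1 E.2
    have hi' : Nat.card (E : Subgroup G) = e ^ i := hi
    rw [hi', Nat.card_eq_fintype_card, QuaternionGroup.card] at h5
    have h6 : 2 ∣ e ^ i := by rw [h5]; norm_num
    exact he2 ((Nat.prime_dvd_prime_iff_eq Nat.prime_two hep).1 (Nat.prime_two.dvd_of_dvd_pow h6)).symm

theorem exists_G0 : ∃ G0 : Subgroup G, G0.Normal ∧ (Nat.card G0).Coprime e ∧ ∃ k, G0.index = e ^ k := by
  have hep : e.Prime := Fact.out
  have heN : e ∣ Nat.card (normalizer ((a : Subgroup G) : Set G)) := by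
    rw [hN]; exact ⟨Nat.card (XX a) * (q * r), by ring⟩
  obtain ⟨y0, hy0⟩ := exists_prime_orderOf_dvd_card' (G := normalizer ((a : Subgroup G) : Set G)) e heN
  have hyo : orderOf (y0 : G) = e := by rw [Subgroup.orderOf_coe, hy0]
  obtain ⟨⟨t, hta, ht1, hty⟩, hfix⟩ := fix_or hne a (by rw [hcard, hqn]) y0.2 hyo
  have hty' : e ∣ Nat.card (centralizer ({t} : Set G)) := by
    have h3 : (y0 : G) ∈ centralizer ({t} : Set G) := by rw [mem_centralizer_singleton_iff]; exact hty.symm
    rw [← hyo, ← Subgroup.orderOf_mk _ h3]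
    exact orderOf_dvd_natCard _
  obtain ⟨E, hE⟩ : ∃ E : Sylow e G, IsCyclic E := by
    by_cases hX : e ∣ Nat.card (XX a)
    · exact cyc_of_dvd hC h2 hcard hr hr2 hqr hqn hne a hN hX
    · exact cyc_of_not_dvd hC h2 hcard hr hr2 hqr hqn hne a hN hX
  exact npc_of_cyclic hC h2 (by omega) E hE ht1 (h2 a t hta) hty'

end pair

end Cfsg.Agent.Lib.H1Same
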