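import Cfsg.Agent.Lib.H1SameH

set_option autoImplicit false
set_option linter.unusedSectionVars false
set_option linter.unusedVariables false

open Subgroup MulAction Cfsg

namespace Cfsg.Agent.Lib.H1Same

variable {G : Type*} [Group G] [Finite G]

theorem card_XX_le (hC : Cj G) (h2 : E2 G) (a : Sylow 2 G) (g : G) : Nat.card (XX a) ≤ Nat.card (XX (g • a)) := by
  have h1 : (XX a).map (MulAut.conj g).toMonoidHom ≤ XX (g • a) := by
    rintro _ ⟨x, hx, rfl⟩
    exact XX_conj hC h2 a g hx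
  have h3 := Subgroup.card_le_of_le h1
  rwa [Subgroup.card_map_of_injective (MulAut.conj g).injective] at h3

theorem card_XX_eq (hC : Cj G) (h2 : E2 G) (a b : Sylow 2 G) : Nat.card (XX a) = Nat.card (XX b) := by
  obtain ⟨g, rfl⟩ := exists_smul_eq G a b
  apply le_antisymm (card_XX_le hC h2 a g)
  have h3 := card_XX_le hC h2 (g • a) g⁻¹
  rwa [inv_smul_smul] at h3

theorem card_norm_eq (a b : Sylow 2 G) : Nat.card (normalizer ((a : Subgroup G) : Set G)) =
    Nat.card (normalizer ((b : Subgroup G) : Set G)) := by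
  have h1 : (normalizer ((a : Subgroup G) : Set G)).index = (normalizer ((b : Subgroup G) : Set G)).index := by
    have h2 := a.card_eq_index_normalizer
    have h3 := b.card_eq_index_normalizer
    exact h2.symm.trans h3
  have h2 := (normalizer ((a : Subgroup G) : Set G)).card_mul_index
  have h3 := (normalizer ((b : Subgroup G) : Set G)).card_mul_index
  rw [← h3, h1] at h2
  exact Nat.eq_of_mul_eq_mul_right (Nat.pos_of_ne_zero Subgroup.index_ne_zero_of_finite) h2

section pair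

variable {q r e : ℕ} (hC : Cj G) (h2 : E2 G) (hcard : ∀ P : Sylow 2 G, Nat.card P = q) (hr : r.Prime) (hr2 : r ≠ 2)
  (hqr : q = r + 1) (he : e < r) (heodd : Odd e)
  (hN : ∀ a : Sylow 2 G, Nat.card (normalizer ((a : Subgroup G) : Set G)) = Nat.card (XX a) * (q * (r * e)))
  {G0 : Subgroup G} (hG0 : G0.Normal) (hco : (Nat.card G0).Coprime e) (hi : ∃ k, G0.index = e ^ k)
  (htwo : ∃ a b : Sylow 2 G, a ≠ b)
include hC h2 hcard hr hr2 hqr he heodd hN hG0 hco hi htwo

theorem amb : H1Zam.Amb q r (fun a : Sylow 2 G => (a : Subgroup G)) XX (BB r) G0 := by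
  have hother : ∀ a : Sylow 2 G, ∃ b, a ≠ b := by
    intro a
    obtain ⟨c, d, hcd⟩ := htwo
    by_cases h : a = c
    · exact ⟨d, h ▸ hcd⟩
    · exact ⟨c, h⟩
  have hq : 2 ≤ q := by have := hr.two_le; omega
  have hinv : ∀ a : Sylow 2 G, ∃ t ∈ (a : Subgroup G), t ≠ 1 := by
    intro a
    have : Nontrivial (a : Subgroup G) := Finite.one_lt_card_iff_nontrivial.1 (by rw [hcard a]; omega)
    obtain ⟨t, ht⟩ := exists_ne (1 : (a : Subgroup G))
    exact ⟨t, t.2, fun h => ht (Subtype.ext h)⟩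
  refine ⟨hr, hr2, hqr, ?_, hcard, fun a s hs => h2 a s hs, ?_, ?_, fun a => odd_XX a, ?_, ?_, ?_, ?_, ?_, ?_, ?_, ?_,
    ?_, ?_, ?_, ?_⟩
  · intro a s hs
    exact (stab_iff a s).2 (le_normalizer hs)
  · intro a b s hs hba hb
    exact DD_invol hC h2 hba.symm (x := s) ⟨(stab_iff a s).2 (le_normalizer hs), hb⟩ (h2 a s hs)
  · intro a x hx
    exact (stab_iff a x).2 (XX_le a hx)
  · intro a
    obtain ⟨b, hab⟩ := hother a
    exact XX_not_dvd hC h2 hcard hr hr2 hqr hab
  · intro a s hs x hx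
    exact comm_XX a hs hx
  · intro g a x hx
    exact XX_conj hC h2 a g hx
  · intro g a s hs
    exact ⟨s, hs, rfl⟩
  · intro a b x hx hxb
    exact XXX hC h2 hcard hr hr2 hqr a b hx hxb
  · intro a b hab
    exact (BB_spec hC h2 hcard hr hr2 hqr hab).2.1
  · intro a b hab y hy
    exact (BB_spec hC h2 hcard hr hr2 hqr hab).1 hy
  · intro a b hab c hc
    exact BB_fix hC h2 hcard hr hr2 hqr hab hc
  · intro a b hab y hy x hxa hxb
    exact BX hC h2 hcard hr hr2 hqr hab hy hxa ((stab_iff b x).2 (XX_le b hxb))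
  · intro a b hab g hg hga
    refine dec0 hC h2 hcard hr hr2 hqr hab he (hN a) ((stab_iff a g).1 hga) ?_
    apply Nat.Coprime.coprime_dvd_left _ hco
    rw [← Subgroup.orderOf_mk g hg]
    exact orderOf_dvd_natCard _
  · intro s hs a hsa u y hu hy
    obtain ⟨t, ht, ht1⟩ := hinv a
    have hs2 : s ≠ 2 := by
      rintro rfl
      have h3 := odd_XX a
      rw [← Nat.not_even_iff_odd] at h3
      exact h3 (even_iff_two_dvd.2 hsa)
    refine hC.noinv hs hs2 ht1 (h2 a t ht) (hsa.trans (card_dvd_of_le ?_)) u y hu hy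
    intro x hx
    rw [mem_centralizer_singleton_iff]
    exact (comm_XX a ht hx).symm
  · intro s hs a hsa T hT x hx y hy
    have hfs : Fact s.Prime := ⟨hs⟩
    have hs2 : s ≠ 2 := by
      rintro rfl
      have h3 := odd_XX a
      rw [← Nat.not_even_iff_odd] at h3
      exact h3 (even_iff_two_dvd.2 hsa)
    obtain ⟨E, hE⟩ := hT.exists_le_sylow
    rcases Cfsg.Agent.S4020.result (fun p _ H K _ _ h => hC H K h) E with h | h | ⟨⟨f⟩⟩
    · have h3 := h.commGroup.mul_comm ⟨x, hE hx⟩ ⟨y, hE hy⟩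
      have h4 : (⟨x, hE hx⟩ : (E : Subgroup G)) * ⟨y, hE hy⟩ = ⟨y, hE hy⟩ * ⟨x, hE hx⟩ := by
        have := h.isMulCommutative
        exact mul_comm' _ _
      exact congrArg Subtype.val h4
    · exact congrArg Subtype.val (h.1.is_comm.comm (⟨x, hE hx⟩ : (E : Subgroup G)) ⟨y, hE hy⟩)
    · exfalso
      have h5 := Nat.card_congr f.toEquiv
      obtain ⟨i, hi⟩ := IsPGroup.iff_card.1 E.2
      have hi' : Nat.card (E : Subgroup G) = s ^ i := hi
      rw [hi', Nat.card_eq_fintype_card, QuaternionGroup.card] at h5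
      have h6 : 2 ∣ s ^ i := by rw [h5]; norm_num
      exact hs2 ((Nat.prime_dvd_prime_iff_eq Nat.prime_two hs).1 (Nat.prime_two.dvd_of_dvd_pow h6)).symm

theorem good : H1Zam.Good (fun a : Sylow 2 G => (a : Subgroup G)) XX (BB r) G0 G0 Set.univ := by
  have hA := amb hC h2 hcard hr hr2 hqr he heodd hN hG0 hco hi htwo
  obtain ⟨k, hk⟩ := hi
  have hmem2 : ∀ u : G, u * u = 1 → u ∈ G0 := by
    intro u hu
    apply H1Zam.mem_of_coprime_index
    rw [hk]
    apply Nat.Coprime.pow_right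
    have h3 : orderOf u ∣ 2 := orderOf_dvd_of_pow_eq_one (by rw [pow_two]; exact hu)
    exact Nat.Coprime.coprime_dvd_left h3 (Nat.coprime_two_left.2 heodd)
  refine ⟨le_rfl, fun _ _ _ _ => trivial, ?_, ?_, ?_, ?_⟩
  · intro c _ s hs
    exact hmem2 s (h2 c s hs)
  · intro c _ d _ hcd y hy
    apply H1Zam.mem_of_coprime_index
    rw [hk]
    apply Nat.Coprime.pow_right
    have h3 : orderOf y ∣ r := by
      have h4 : orderOf y ∣ Nat.card (BB r c d) := by
        rw [← Subgroup.orderOf_mk y hy]; exact orderOf_dvd_natCard _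
      rwa [(BB_spec hC h2 hcard hr hr2 hqr hcd).2.1] at h4
    apply Nat.Coprime.coprime_dvd_left h3
    rw [Nat.Prime.coprime_iff_not_dvd hr]
    intro h
    obtain ⟨j, hj⟩ := heodd
    exact absurd (Nat.le_of_dvd (by omega) h) (by omega)
  · intro c _ d _ hcd
    obtain ⟨u, hu⟩ := exists_FF hC h2 hcard hr hr2 hqr hcd
    refine ⟨u, hmem2 u hu.1, hu.1, hu.2, ?_, ?_⟩
    · intro y hy
      exact (((BB_spec hC h2 hcard hr hr2 hqr hcd).2.2.2.2 u hu y).1 hy).2
    · intro x hxc hxd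
      have h3 := FX hC h2 hcard hr hr2 hqr hcd hu hxc ((stab_iff d x).2 (XX_le d hxd))
      calc u * x = (u * x * u) * u := by rw [mul_assoc (u * x) u u, hu.1, mul_one]
        _ = x * u := by rw [h3]
  · obtain ⟨a, b, hab⟩ := htwo
    exact ⟨a, trivial, b, trivial, hab⟩

theorem card_sylow : Nat.card (Sylow 2 G) = q + 1 := by
  have h3 := H1Zam.main (amb hC h2 hcard hr hr2 hqr he heodd hN hG0 hco hi htwo) _ G0 Set.univ rfl
    (good hC h2 hcard hr hr2 hqr he heodd hN hG0 hco hi htwo)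
  rwa [Set.ncard_univ] at h3

theorem inf_bot (hO : ∀ K : Subgroup G, K.Normal → Odd (Nat.card K) → K = ⊥) (a : Sylow 2 G) : XX a ⊓ G0 = ⊥ := by
  have hA := amb hC h2 hcard hr hr2 hqr he heodd hN hG0 hco hi htwo
  have hH := good hC h2 hcard hr hr2 hqr he heodd hN hG0 hco hi htwo
  have hc : (Set.univ : Set (Sylow 2 G)).ncard = q + 1 := by
    rw [Set.ncard_univ]; exact card_sylow hC h2 hcard hr hr2 hqr he heodd hN hG0 hco hi htwo
  have hle : ∀ a b : Sylow 2 G, XX a ⊓ G0 ≤ XX b := fun a b => H1Zam.le_of_card hA hH hc trivial trivial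
  apply hO
  · constructor
    intro x hx g
    have h3 : g * x * g⁻¹ ∈ XX (g • a) ⊓ G0 := ⟨XX_conj hC h2 a g hx.1, hG0.conj_mem x hx.2 g⟩
    exact ⟨hle _ _ h3, h3.2⟩
  · exact (odd_XX a).of_dvd_nat (card_dvd_of_le inf_le_left)

theorem card_stab0 (hO : ∀ K : Subgroup G, K.Normal → Odd (Nat.card K) → K = ⊥) (a : Sylow 2 G) :
    Nat.card ↥(G0 ⊓ stabilizer G a) = q * r := by
  have hA := amb hC h2 hcard hr hr2 hqr he heodd hN hG0 hco hi htwo
  have hH := good hC h2 hcard hr hr2 hqr he heodd hN hG0 hco hi htwo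
  obtain ⟨b, hab⟩ : ∃ b, a ≠ b := by
    obtain ⟨c, d, hcd⟩ := htwo
    by_cases h : a = c
    · exact ⟨d, h ▸ hcd⟩
    · exact ⟨c, h⟩
  have h3 := H1Zam.card_stab hA hH (a := a) (b := b) trivial trivial hab
  rw [inf_bot hC h2 hcard hr hr2 hqr he heodd hN hG0 hco hi htwo hO a, Subgroup.card_bot, mul_one] at h3
  exact h3

theorem card_G0 (hO : ∀ K : Subgroup G, K.Normal → Odd (Nat.card K) → K = ⊥) :
    Nat.card G0 = (q + 1) * (q * r) := by
  have hA := amb hC h2 hcard hr hr2 hqr he heodd hN hG0 hco hi htwo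
  have hH := good hC h2 hcard hr hr2 hqr he heodd hN hG0 hco hi htwo
  obtain ⟨a, b, hab⟩ := htwo
  have h3 := card_stab0 hC h2 hcard hr hr2 hqr he heodd hN hG0 hco hi ⟨a, b, hab⟩ hO a
  have h4 : Nat.card (orbit G0 a) = q + 1 := by
    have h5 : orbit G0 a = Set.univ := by
      apply Set.eq_univ_of_forall
      intro c
      obtain ⟨h, hh, hc⟩ := H1Zam.trans hA hH (a := a) (b := c) trivial trivial
      exact ⟨⟨h, hh⟩, hc⟩
    rw [h5, Nat.card_congr (Equiv.Set.univ _)]
    exact card_sylow hC h2 hcard hr hr2 hqr he heodd hN hG0 hco hi ⟨a, b, hab⟩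
  have h5 := Nat.card_congr (orbitProdStabilizerEquivGroup G0 a)
  rw [Nat.card_prod, h4] at h5
  rw [← h5, ← h3]
  congr 1
  refine Nat.card_congr ⟨fun x => ⟨x.1, x.1.2, x.2⟩, fun x => ⟨⟨x, x.2.1⟩, x.2.2⟩, fun _ => rfl, fun _ => rfl⟩

end pair

end Cfsg.Agent.Lib.H1Same
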