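import Cfsg.Agent.Lib.H1SameI
import Cfsg.Agent.Lib.Sharp3Pgl
import Cfsg.Agent.Lib.ClSeven
import Cfsg.Agent.Lib.MobRec

set_option autoImplicit false
set_option linter.unusedSectionVars false
set_option linter.unusedVariables false

open Subgroup MulAction Cfsg

namespace Cfsg.Agent.Lib.H1Same

/-- recognition by counting -/
theorem psl_of_count {H α : Type*} [Group H] [Finite H] [MulAction H α] [Finite α] {f : ℕ} (hf : 2 ≤ f)
    (hα : Nat.card α = 2 ^ f + 1) (hH : Nat.card H = (2 ^ f + 1) * (2 ^ f * (2 ^ f - 1)))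
    (hfix : ∀ a b c : α, a ≠ b → a ≠ c → b ≠ c → ∀ g : H, g • a = a → g • b = b → g • c = c → g = 1) :
    Nonempty (H ≃* Matrix.ProjectiveSpecialLinearGroup (Fin 2) (GaloisField 2 f)) := by
  classical
  have hfα : Fintype α := Fintype.ofFinite α
  have hsharp : ∀ x : Fin 3 ↪ α, stabilizer H x = ⊥ := by
    intro x
    rw [eq_bot_iff]
    intro g hg
    rw [Subgroup.mem_bot]
    have h1 : ∀ i, g • x i = x i := fun i => by
      have h2 : g • x = x := hg
      exact congrArg (fun y : Fin 3 ↪ α => y i) h2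
    exact hfix (x 0) (x 1) (x 2) (fun h => absurd (x.injective h) (by decide)) (fun h => absurd (x.injective h) (by decide))
      (fun h => absurd (x.injective h) (by decide)) g (h1 0) (h1 1) (h1 2)
  have hcardα : Fintype.card α = 2 ^ f + 1 := by rw [← Nat.card_eq_fintype_card, hα]
  have h4 : 4 ≤ 2 ^ f := by
    calc 4 = 2 ^ 2 := by norm_num
      _ ≤ 2 ^ f := Nat.pow_le_pow_right (by norm_num) hf
  have hemb : Nat.card (Fin 3 ↪ α) = Nat.card H := by
    rw [Nat.card_eq_fintype_card, Fintype.card_embedding_eq, Fintype.card_fin, hcardα, hH]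
    obtain ⟨m, hm⟩ : ∃ m, 2 ^ f = m + 1 := ⟨2 ^ f - 1, by omega⟩
    rw [hm]
    simp only [Nat.descFactorial_succ, Nat.descFactorial_zero]
    have e1 : m + 1 + 1 - 2 = m := by omega
    have e2 : m + 1 + 1 - 1 = m + 1 := by omega
    have e3 : m + 1 - 1 = m := by omega
    rw [e1, e2, e3]
    simp
    ring
  have h3 : IsMultiplyPretransitive H α 3 := by
    constructor
    intro x y
    have h5 := Nat.card_congr (orbitProdStabilizerEquivGroup H x)
    rw [Nat.card_prod, hsharp x, Subgroup.card_bot, mul_one, ← hemb] at h5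
    have h6 : orbit H x = Set.univ := by
      apply Set.eq_of_subset_of_ncard_le (Set.subset_univ _) _ (Set.toFinite _)
      rw [Set.ncard_univ, ← h5]
      rfl
    have h7 : y ∈ orbit H x := by rw [h6]; trivial
    exact h7
  obtain ⟨F, _, _, hFc, ⟨e⟩⟩ := Sharp3Pgl.main_case hf hcardα h3 hsharp
  obtain ⟨e2⟩ := Sharp3Pgl.psl_equiv_pgl (F := F) (by omega : 1 ≤ f) hFc
  have hfin : Finite (GaloisField 2 f) := Nat.finite_of_card_ne_zero (by
    rw [GaloisField.card 2 f (by omega)]; positivity)
  have hfin' : Fintype (GaloisField 2 f) := Fintype.ofFinite _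
  have e3 : F ≃+* GaloisField 2 f := FiniteField.ringEquivOfCardEq (by
    rw [← Nat.card_eq_fintype_card (α := GaloisField 2 f), GaloisField.card 2 f (by omega), hFc])
  exact ⟨(e.trans e2.symm).trans (ClSeven.pslCongr 2 e3)⟩

end Cfsg.Agent.Lib.H1Same
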