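import Cfsg.Agent.Lib.H1SameJ
import Cfsg.Agent.S0813

set_option autoImplicit false
set_option linter.unusedSectionVars false
set_option linter.unusedVariables false

open Subgroup MulAction Cfsg

namespace Cfsg.Agent.Lib.H1Same

variable {G : Type*} [Group G] [Finite G]

section pair

variable {q r e : ℕ} (hC : Cj G) (h2 : E2 G) (hcard : ∀ P : Sylow 2 G, Nat.card P = q) (hr : r.Prime) (hr2 : r ≠ 2)
  (hqr : q = r + 1) (he : e < r) (heodd : Odd e)
  (hN : ∀ a : Sylow 2 G, Nat.card (normalizer ((a : Subgroup G) : Set G)) = Nat.card (XX a) * (q * (r * e)))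
  {G0 : Subgroup G} (hG0 : G0.Normal) (hco : (Nat.card G0).Coprime e) (hi : ∃ k, G0.index = e ^ k)
  (htwo : ∃ a b : Sylow 2 G, a ≠ b) (hO : ∀ K : Subgroup G, K.Normal → Odd (Nat.card K) → K = ⊥)
include hC h2 hcard hr hr2 hqr he heodd hN hG0 hco hi htwo hO

theorem fix_three (a b c : Sylow 2 G) (hab : a ≠ b) (hac : a ≠ c) (hbc : b ≠ c) (g : G) (hg : g ∈ G0)
    (ha : g • a = a) (hb : g • b = b) (hc : g • c = c) : g = 1 := by
  have hA := amb hC h2 hcard hr hr2 hqr he heodd hN hG0 hco hi htwo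
  have hH := good hC h2 hcard hr hr2 hqr he heodd hN hG0 hco hi htwo
  obtain ⟨x, hxa, hxb, y, hy, hgxy⟩ := hA.dec2 hab hg ha hb
  have hyG : y ∈ G0 := hH.hB a trivial b trivial hab hy
  have hxG : x ∈ G0 := by
    have h3 : x = g * y⁻¹ := by rw [hgxy]; group
    rw [h3]; exact mul_mem hg (inv_mem hyG)
  have h4 : x ∈ XX a ⊓ G0 := ⟨hxa, hxG⟩
  rw [inf_bot hC h2 hcard hr hr2 hqr he heodd hN hG0 hco hi htwo hO a, Subgroup.mem_bot] at h4
  rw [h4, one_mul] at hgxy
  rw [hgxy]
  by_contra hy1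
  rcases hA.Bfix' hab hy hy1 (by rw [← hgxy]; exact hc) with h | h
  · exact hac h.symm
  · exact hbc h.symm

theorem G0_psl {n : ℕ} (hn : 2 ≤ n) (hqn : q = 2 ^ n) :
    Nonempty (G0 ≃* Matrix.ProjectiveSpecialLinearGroup (Fin 2) (GaloisField 2 n)) := by
  apply psl_of_count (α := Sylow 2 G) hn
  · rw [card_sylow hC h2 hcard hr hr2 hqr he heodd hN hG0 hco hi htwo, hqn]
  · rw [card_G0 hC h2 hcard hr hr2 hqr he heodd hN hG0 hco hi htwo hO]
    have h3 : r = 2 ^ n - 1 := by omega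
    rw [hqn, h3]
  · intro a b c hab hac hbc g ha hb hc
    exact Subtype.ext (fix_three hC h2 hcard hr hr2 hqr he heodd hN hG0 hco hi htwo hO a b c hab hac hbc g g.2 ha hb hc)

theorem centralizer_G0 : centralizer (G0 : Set G) = ⊥ := by
  have hH := good hC h2 hcard hr hr2 hqr he heodd hN hG0 hco hi htwo
  have hCn : (centralizer (G0 : Set G)).Normal := by infer_instance
  have hfixall : ∀ g ∈ centralizer (G0 : Set G), ∀ a : Sylow 2 G, g • a = a := by
    intro g hg a
    rw [stab_iff]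
    apply SylowTools.mem_normalizer_of_forall
    intro s hs
    have h3 : s * g = g * s := mem_centralizer_iff.1 hg s (hH.hS a trivial hs)
    rw [← h3, mul_inv_cancel_right]; exact hs
  have hq4 : 4 ≤ q := by
    have := hr.two_le
    omega
  have hcs := card_sylow hC h2 hcard hr hr2 hqr he heodd hN hG0 hco hi htwo
  obtain ⟨a, b, c, hab, hac, hbc⟩ : ∃ a b c : Sylow 2 G, a ≠ b ∧ a ≠ c ∧ b ≠ c := by
    classical
    have hf : Fintype (Sylow 2 G) := Fintype.ofFinite _
    have h3 : 2 < Fintype.card (Sylow 2 G) := by rw [← Nat.card_eq_fintype_card, hcs]; omega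
    obtain ⟨a, b, c, hab, hac, hbc⟩ := Fintype.two_lt_card_iff.1 h3
    exact ⟨a, b, c, hab, hac, hbc⟩
  have hint : centralizer (G0 : Set G) ⊓ G0 = ⊥ := by
    rw [eq_bot_iff]
    rintro g ⟨hg1, hg2⟩
    rw [Subgroup.mem_bot]
    exact fix_three hC h2 hcard hr hr2 hqr he heodd hN hG0 hco hi htwo hO a b c hab hac hbc g hg2
      (hfixall g hg1 a) (hfixall g hg1 b) (hfixall g hg1 c)
  apply hO _ hCn
  obtain ⟨k, hk⟩ := hi
  have h3 : Nat.card (centralizer (G0 : Set G)) ∣ e ^ k := by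
    rw [← hk]
    have h4 : G0.relIndex (centralizer (G0 : Set G)) ∣ G0.index := Subgroup.relIndex_dvd_index_of_normal G0 _
    have h5 : G0.relIndex (centralizer (G0 : Set G)) = Nat.card (centralizer (G0 : Set G)) := by
      rw [← Subgroup.inf_relIndex_left, hint, Subgroup.relIndex_bot_left]
    rwa [h5] at h4
  exact (heodd.pow (n := k)).of_dvd_nat h3

end pair

/-- the case of nonnormal elementary abelian Sylow 2-subgroups -/
theorem nonnormal (hC : Cj G) (h2 : E2 G) {n : ℕ} (hn : 2 ≤ n) (hcard : ∀ P : Sylow 2 G, Nat.card P = 2 ^ n)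
    (htwo : ∃ a b : Sylow 2 G, a ≠ b) (hO : ∀ K : Subgroup G, K.Normal → Odd (Nat.card K) → K = ⊥) :
    (n = 3 ∧ Nonempty (G ≃* Matrix.ProjectiveSpecialLinearGroup (Fin 2) (GaloisField 2 3))) ∨
    (n = 5 ∧ Nonempty (G ≃* MulAut (Matrix.ProjectiveSpecialLinearGroup (Fin 2) (GaloisField 2 5)))) ∨
    (n = 2 ∧ Nonempty (G ≃* alternatingGroup (Fin 5))) := by
  classical
  obtain ⟨a0, b0, hab0⟩ := htwo
  have htwo : ∃ a b : Sylow 2 G, a ≠ b := ⟨a0, b0, hab0⟩
  obtain ⟨r, e, hr, hr2, hqr, hN0, hcases⟩ := struct hC h2 a0 hn (hcard a0)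
  have hN : ∀ a : Sylow 2 G, Nat.card (normalizer ((a : Subgroup G) : Set G)) = Nat.card (XX a) * (2 ^ n * (r * e)) := by
    intro a
    rw [card_norm_eq a a0, hN0, card_XX_eq hC h2 a a0]
  have he : e < r := by omega
  have heodd : Odd e := by
    rcases hcases with ⟨-, -, h⟩ | ⟨-, -, h⟩ | ⟨-, -, h⟩ | ⟨-, -, h⟩ <;> rw [h] <;> decide
  obtain ⟨G0, hG0, hco, hi⟩ : ∃ G0 : Subgroup G, G0.Normal ∧ (Nat.card G0).Coprime e ∧ ∃ k, G0.index = e ^ k := by
    by_cases he1 : e = 1
    · exact ⟨⊤, inferInstance, by rw [he1]; exact Nat.coprime_one_right _, 0, by rw [Subgroup.index_top, pow_zero]⟩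
    · have hne : (n = 3 ∧ e = 3) ∨ (n = 5 ∧ e = 5) := by omega
      have hfe : Fact e.Prime := ⟨by
        rcases hne with ⟨-, h⟩ | ⟨-, h⟩ <;> rw [h] <;> norm_num⟩
      exact exists_G0 hC h2 hcard hr hr2 hqr rfl hne a0 hN0
  have hpsl := G0_psl hC h2 hcard hr hr2 hqr he heodd hN hG0 hco hi htwo hO hn rfl
  have hcG0 := card_G0 hC h2 hcard hr hr2 hqr he heodd hN hG0 hco hi htwo hO
  have hcs := card_sylow hC h2 hcard hr hr2 hqr he heodd hN hG0 hco hi htwo
  have htop : e = 1 → G0 = ⊤ := by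
    intro h
    obtain ⟨k, hk⟩ := hi
    rw [h, one_pow] at hk
    exact Subgroup.index_eq_one.1 hk
  rcases hcases with ⟨hn2, hr3, he1⟩ | ⟨hn3, hr7, he1⟩ | ⟨hn3, hr7, he3⟩ | ⟨hn5, hr31, he5⟩
  · -- A5
    right; right
    have hG0t := htop he1
    have hcG : Nat.card G = 60 := by
      have h3 : Nat.card G0 = Nat.card G := by rw [hG0t]; exact Subgroup.card_top
      rw [← h3, hcG0, hn2, hr3]
      norm_num
    refine ⟨hn2, ?_⟩
    have hc5 : Nat.card (Sylow 2 G) = 5 := by rw [hcs, hn2]; norm_num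
    let φ : Sylow 2 G ≃ Fin 5 := Finite.equivFinOfCardEq hc5
    obtain ⟨a, b, c, hab, hac, hbc⟩ : ∃ a b c : Sylow 2 G, a ≠ b ∧ a ≠ c ∧ b ≠ c := by
      have hf : Fintype (Sylow 2 G) := Fintype.ofFinite _
      have h3 : 2 < Fintype.card (Sylow 2 G) := by rw [← Nat.card_eq_fintype_card, hc5]; omega
      obtain ⟨a, b, c, hab, hac, hbc⟩ := Fintype.two_lt_card_iff.1 h3
      exact ⟨a, b, c, hab, hac, hbc⟩
    apply Cfsg.Agent.Lib.MobCount.alternating_of_injective (n := 5) (by norm_num)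
      ((φ.permCongrHom : Equiv.Perm (Sylow 2 G) ≃* Equiv.Perm (Fin 5)).toMonoidHom.comp (MulAction.toPermHom G (Sylow 2 G)))
    · rw [MonoidHom.coe_comp]
      apply Function.Injective.comp (MulEquiv.injective _)
      rw [injective_iff_map_eq_one]
      intro g hg
      have h3 : ∀ x : Sylow 2 G, g • x = x := fun x => congrArg (fun p : Equiv.Perm (Sylow 2 G) => p x) hg
      exact fix_three hC h2 hcard hr hr2 hqr he heodd hN hG0 hco hi htwo hO a b c hab hac hbc g (by rw [hG0t]; trivial)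
        (h3 a) (h3 b) (h3 c)
    · rw [hcG]; decide
  · left
    have hG0t := htop he1
    rw [hn3] at hpsl
    obtain ⟨f⟩ := hpsl
    exact ⟨hn3, ⟨(Subgroup.topEquiv.symm.trans (MulEquiv.subgroupCongr hG0t.symm)).trans f⟩⟩
  · exfalso
    rw [hcG0, hn3, he3, hr7] at hco
    revert hco
    decide
  · right; left
    have hcen := centralizer_G0 hC h2 hcard hr hr2 hqr he heodd hN hG0 hco hi htwo hO
    rw [hn5] at hpsl
    obtain ⟨f⟩ := hpsl
    have hfin : Finite (GaloisField 2 5) := Nat.finite_of_card_ne_zero (by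
      rw [GaloisField.card 2 5 (by omega)]; positivity)
    have hfin' : Fintype (GaloisField 2 5) := Fintype.ofFinite _
    have hF : Fintype.card (GaloisField 2 5) = 2 ^ 5 := by
      rw [← Nat.card_eq_fintype_card, GaloisField.card 2 5 (by omega)]
    have haut := Cfsg.Agent.S0813.result (F := GaloisField 2 5) 2 5 (by norm_num) hF 2 le_rfl (by norm_num)
    obtain ⟨e2⟩ := Sharp3Pgl.psl_equiv_pgl (F := GaloisField 2 5) (by norm_num : 1 ≤ 5) hF
    rw [if_pos rfl, one_mul, ← Nat.card_congr e2.toEquiv, ← Nat.card_congr f.toEquiv] at haut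
    have hcMA : Nat.card (MulAut G0) = 5 * Nat.card G0 := by
      rw [← haut]
      exact Nat.card_congr (MulAut.congr f).toEquiv
    have hinj : Function.Injective (MulAut.conjNormal : G →* MulAut G0) := by
      rw [injective_iff_map_eq_one]
      intro g hg
      have h3 : g ∈ centralizer (G0 : Set G) := by
        rw [mem_centralizer_iff]
        intro h hh
        have h4 : MulAut.conjNormal g (⟨h, hh⟩ : G0) = ⟨h, hh⟩ := by rw [hg]; rfl
        have h5 := congrArg Subtype.val h4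
        rw [MulAut.conjNormal_apply] at h5
        have h6 : g * h * g⁻¹ = h := h5
        calc h * g = (g * h * g⁻¹) * g := by rw [h6]
          _ = g * h := by group
      rw [hcen] at h3
      exact h3
    have hdvd : Nat.card G ∣ 5 * Nat.card G0 := by
      rw [← hcMA]
      exact Subgroup.card_dvd_of_injective _ hinj
    obtain ⟨k, hk⟩ := hi
    have hGG0 : Nat.card G = Nat.card G0 * 5 ^ k := by rw [← G0.card_mul_index, hk, he5]
    have hG0pos : 0 < Nat.card G0 := Nat.card_pos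
    have hk1 : 5 ^ k ∣ 5 := by
      rw [hGG0, mul_comm 5] at hdvd
      exact Nat.dvd_of_mul_dvd_mul_left hG0pos hdvd
    have hk0 : k ≠ 0 := by
      rintro rfl
      rw [pow_zero, mul_one] at hGG0
      have h3 : 5 ∣ Nat.card G := by
        have h4 : 5 ∣ Nat.card (normalizer ((a0 : Subgroup G) : Set G)) := by
          rw [hN0, he5]; exact ⟨Nat.card (XX a0) * (2 ^ n * r), by ring⟩
        exact h4.trans (Subgroup.card_subgroup_dvd_card _)
      rw [hGG0] at h3
      rw [he5] at hco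
      have h5 := Nat.eq_one_of_dvd_coprimes hco h3 (dvd_refl 5)
      omega
    have h5k : 5 ^ k = 5 := by
      rcases (Nat.dvd_prime (by norm_num : Nat.Prime 5)).1 hk1 with h | h
      · exfalso
        have := Nat.one_lt_pow hk0 (by norm_num : 1 < 5)
        omega
      · exact h
    have hcGM : Nat.card G = Nat.card (MulAut G0) := by rw [hcMA, hGG0, h5k, mul_comm]
    have hbij : Function.Bijective (MulAut.conjNormal : G →* MulAut G0) := by
      rw [Nat.bijective_iff_injective_and_card]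
      exact ⟨hinj, hcGM⟩
    exact ⟨hn5, ⟨(MulEquiv.ofBijective _ hbij).trans (MulAut.congr f)⟩⟩

end Cfsg.Agent.Lib.H1Same
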