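import Cfsg.Agent.Lib.H1SameL

set_option autoImplicit false
set_option linter.unusedSectionVars false
set_option linter.unusedVariables false

open Subgroup MulAction Cfsg

namespace Cfsg.Agent.Lib.H1Same

/-- recognition of SL(2,3) -/
theorem sl23_of {G : Type*} [Group G] [Finite G] (hc : Nat.card G = 24) (D : Subgroup G) (hDn : D.Normal)
    (hD2 : IsPGroup 2 D)
    (hinv : ∀ u ∈ D, ∀ v ∈ D, orderOf u = 2 → orderOf v = 2 → u = v) {g : G} (hg : orderOf g = 3)
    (hgC : g ∉ centralizer (D : Set G)) : Nonempty (G ≃* Matrix.SpecialLinearGroup (Fin 2) (ZMod 3)) := by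
  have hgN : g ∈ normalizer (D : Set G) := by
    rw [normalizer_eq_top_iff.mpr hDn]; exact mem_top g
  obtain ⟨x, hx, y, hy, hx4, hsq, hconj, hgx, hgy, hD8⟩ :=
    QuatSylow.quaternion_action hD2 hinv (by rw [hg]; norm_num) hgN hgC
  have hrel : SLTwoThree.Rel x y g :=
    ⟨by rw [← hx4, pow_orderOf_eq_one], hsq, hconj, hgx, hgy, by rw [← hg, pow_orderOf_eq_one]⟩
  obtain ⟨M, hM⟩ : ∃ M, M = Subgroup.closure {x, y, g} := ⟨_, rfl⟩
  have hxM : x ∈ M := by rw [hM]; exact Subgroup.subset_closure (by simp)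
  have hyM : y ∈ M := by rw [hM]; exact Subgroup.subset_closure (by simp)
  have hgM : g ∈ M := by rw [hM]; exact Subgroup.subset_closure (by simp)
  have h3 : 3 ∣ Nat.card M := by rw [← hg]; exact Subgroup.orderOf_dvd_natCard _ hgM
  have hxy : ¬ (y * x = x * y) := by
    intro hcomm
    have h1 : y * x * y⁻¹ = x := by rw [hcomm, mul_inv_cancel_right]
    rw [hconj] at h1
    have h2 : x ^ 2 = 1 := by
      rw [pow_two]
      nth_rewrite 1 [← h1]
      exact inv_mul_cancel x
    have h3 : orderOf x ∣ 2 := orderOf_dvd_of_pow_eq_one h2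
    rw [hx4] at h3
    norm_num at h3
  have h8 : 8 ∣ Nat.card M := by
    have hle : D ⊓ M ≤ D := inf_le_left
    have h1 : 4 ∣ Nat.card (D ⊓ M : Subgroup G) := by
      rw [← hx4]; exact Subgroup.orderOf_dvd_natCard _ ⟨hx, hxM⟩
    have h2 : Nat.card (D ⊓ M : Subgroup G) ∣ 8 := by rw [← hD8]; exact Subgroup.card_dvd_of_le hle
    have h3 : Nat.card (D ⊓ M : Subgroup G) ≠ 4 := by
      intro h4
      have h5 : Subgroup.zpowers x ≤ D ⊓ M := by rw [Subgroup.zpowers_le]; exact ⟨hx, hxM⟩
      have h6 : Subgroup.zpowers x = D ⊓ M :=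
        Subgroup.eq_of_le_of_card_ge h5 (by rw [h4, Nat.card_zpowers, hx4])
      have h7 : y ∈ Subgroup.zpowers x := by rw [h6]; exact ⟨hy, hyM⟩
      obtain ⟨k, rfl⟩ := h7
      exact hxy ((Commute.refl x).zpow_left k).eq
    obtain ⟨k, hk⟩ := h1
    have h4 : Nat.card (D ⊓ M : Subgroup G) = 8 := by
      rw [hk] at h2 h3 ⊢
      have : k ∣ 2 := Nat.dvd_of_mul_dvd_mul_left (by norm_num : 0 < 4) (by simpa using h2)
      rcases (Nat.dvd_prime Nat.prime_two).mp this with h5 | h5
      · rw [h5] at h3; norm_num at h3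
      · rw [h5]
    rw [← h4]
    exact Subgroup.card_dvd_of_le inf_le_right
  have h24 : 24 ∣ Nat.card M := Nat.Coprime.mul_dvd_of_dvd_of_dvd (by norm_num : Nat.Coprime 8 3) h8 h3
  have hMt : M = ⊤ := by
    apply Subgroup.eq_top_of_card_eq
    rw [hc]
    exact Nat.dvd_antisymm (by rw [← hc]; exact Subgroup.card_subgroup_dvd_card M) h24
  exact SLTwoThree.equiv_SL hrel hc (by rw [← hM, hMt])

theorem q8_sq : (∀ x : QuaternionGroup 2, x * x = 1 ∨ x * x = QuaternionGroup.a 2) ∧
    (∀ x : QuaternionGroup 2, x * x = 1 → x = 1 ∨ x = QuaternionGroup.a 2) := by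
  decide

theorem not_solvable_alt5 : ¬ Group.IsSolvable (alternatingGroup (Fin 5)) := by
  intro h
  apply Equiv.Perm.fin_5_not_solvable
  have h1 : Group.IsSolvable (Equiv.Perm (Fin 5) ⧸ alternatingGroup (Fin 5)) := by
    have h2 : Nat.card (Equiv.Perm (Fin 5) ⧸ alternatingGroup (Fin 5)) = 2 := alternatingGroup.index_eq_two
    have hf : Fact (Nat.Prime 2) := ⟨Nat.prime_two⟩
    have h3 : IsCyclic (Equiv.Perm (Fin 5) ⧸ alternatingGroup (Fin 5)) := isCyclic_of_prime_card h2
    have h4 : ∀ a b : (Equiv.Perm (Fin 5) ⧸ alternatingGroup (Fin 5)), a * b = b * a := by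
      have := h3.isMulCommutative
      exact fun a b => mul_comm' a b
    exact Group.isSolvable_of_comm h4
  exact Group.isSolvable_of_ker_le_range (alternatingGroup (Fin 5)).subtype (QuotientGroup.mk' (alternatingGroup (Fin 5)))
    (by simp)

variable {G : Type*} [Group G] [Finite G]

theorem quat_case (hC : Cj G) (hO : ∀ K : Subgroup G, K.Normal → Odd (Nat.card K) → K = ⊥) (P : Sylow 2 G)
    (e : (P : Subgroup G) ≃* QuaternionGroup 2) :
    Nonempty (G ≃* Matrix.SpecialLinearGroup (Fin 2) (ZMod 3)) ∨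
    Nonempty (G ≃* Matrix.SpecialLinearGroup (Fin 2) (ZMod 5)) := by
  classical
  have hf2 : Fact (Nat.Prime 2) := ⟨Nat.prime_two⟩
  have hZc : Nat.card (center G) = 2 := BrauerSuzuki.card_center_eq_two P 0 e hO
  have hPc : Nat.card (P : Subgroup G) = 8 := by
    rw [Nat.card_congr e.toEquiv, Nat.card_eq_fintype_card, QuaternionGroup.card]
  have hZP : center G ≤ (P : Subgroup G) :=
    (Cores.le_pCore (inferInstance : (center G).Normal) (IsPGroup.of_card (n := 1) (by rw [hZc, pow_one]))).trans
      (Cores.pCore_le_sylow P)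
  have hs := QuotientGroup.mk'_surjective (center G)
  have hCq : Cj (G ⧸ center G) := hC.quot (center G)
  -- the odd core of the quotient
  have hOq : ∀ K : Subgroup (G ⧸ center G), K.Normal → Odd (Nat.card K) → K = ⊥ := by
    intro K hKn hKodd
    obtain ⟨K', hK'⟩ : ∃ K' : Subgroup G, K' = K.comap (QuotientGroup.mk' (center G)) := ⟨_, rfl⟩
    have hK'c : Nat.card K' = 2 * Nat.card K := by
      rw [hK', Cores.card_comap_mk, hZc]
    have hK'n : K'.Normal := by rw [hK']; exact hKn.comap _
    obtain ⟨T⟩ : Nonempty (Sylow 2 K') := inferInstance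
    have hTc : Nat.card T = 2 := by
      obtain ⟨i, hi⟩ := IsPGroup.iff_card.1 T.2
      have h1 : Nat.card T * (T : Subgroup K').index = Nat.card K' := (T : Subgroup K').card_mul_index
      have h2 : 2 ∣ Nat.card T := T.dvd_card_of_dvd_card (by rw [hK'c]; exact Dvd.intro _ rfl)
      have h3 : Nat.card T ∣ 2 * Nat.card K := by rw [← hK'c]; exact Subgroup.card_subgroup_dvd_card _
      have hi' : Nat.card T = 2 ^ i := hi
      rw [hi'] at h2 h3 ⊢
      have h4 : i < 2 := by
        by_contra hcon
        push Not at hcon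
        have h5 : 2 ^ 2 ∣ 2 * Nat.card K := (pow_dvd_pow 2 hcon).trans h3
        have h6 : 2 ∣ Nat.card K := by
          apply Nat.dvd_of_mul_dvd_mul_left (by norm_num : 0 < 2)
          simpa [pow_two] using h5
        rw [← Nat.not_even_iff_odd] at hKodd
        exact hKodd (even_iff_two_dvd.2 h6)
      have h5 : i ≠ 0 := by rintro rfl; norm_num at h2
      have h6 : i = 1 := by omega
      rw [h6, pow_one]
    obtain ⟨P', L, hLn, hcompl⟩ := QDFusion.npc_of_cyclic T (isCyclic_of_prime_card hTc)
    have hLodd : Odd (Nat.card L) := by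
      rw [← Nat.not_even_iff_odd]
      intro h
      have h3 : (P' : Subgroup K').index = Nat.card L := hcompl.index_eq_card
      apply P'.not_dvd_index
      rw [h3]; exact h.two_dvd
    have hLle : L ≤ pPrimeCore 2 K' := Cores.le_pPrimeCore hLn (Nat.coprime_two_right.2 hLodd)
    have hcore : (pPrimeCore 2 K').map K'.subtype = ⊥ := by
      apply hO
      · exact Cores.normal_map_subtype_of_characteristic _
      · rw [Cores.card_map_subtype]
        exact Nat.coprime_two_right.1 (Cores.coprime_card_pPrimeCore 2 _)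
    rw [Subgroup.map_eq_bot_iff_of_injective _ K'.subtype_injective] at hcore
    have hL : L = ⊥ := by rw [eq_bot_iff, ← hcore]; exact hLle
    have h3 := hcompl.card_mul
    rw [hL, Subgroup.card_bot, one_mul, hK'c] at h3
    obtain ⟨k, hk⟩ := IsPGroup.iff_card.1 P'.2
    have hk' : Nat.card P' = 2 ^ k := hk
    rw [hk'] at h3
    have h4 : Nat.card K = 1 := H1Zam.odd_dvd_pow_two hKodd (k := k) (h3 ▸ Dvd.intro_left 2 rfl)
    exact Subgroup.card_eq_one.1 h4
  -- Sylow 2-subgroup of the quotient
  have hPbp : IsPGroup 2 ((P : Subgroup G).map (QuotientGroup.mk' (center G))) := P.2.map _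
  have hPbi : ¬ 2 ∣ ((P : Subgroup G).map (QuotientGroup.mk' (center G))).index := by
    intro h
    exact P.not_dvd_index (h.trans (Subgroup.index_map_dvd _ hs))
  have hPbc : Nat.card ((P : Subgroup G).map (QuotientGroup.mk' (center G))) = 4 := by
    have h1 := Cores.card_map_mk hZP
    rw [hZc, hPc] at h1
    omega
  obtain ⟨Pb, hPb⟩ : ∃ Pb : Sylow 2 (G ⧸ center G), (Pb : Subgroup (G ⧸ center G)) =
      (P : Subgroup G).map (QuotientGroup.mk' (center G)) := ⟨hPbp.toSylow hPbi, rfl⟩
  -- squares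
  obtain ⟨z, hz⟩ := exists_prime_orderOf_dvd_card' (G := center G) 2 (by rw [hZc])
  have hzP : (z : G) ∈ (P : Subgroup G) := hZP z.2
  have hz1 : (z : G) ≠ 1 := by
    intro h
    have h1 : orderOf (z : G) = 2 := by rw [Subgroup.orderOf_coe, hz]
    rw [h, orderOf_one] at h1
    omega
  have hzz : (z : G) * z = 1 := by
    have h1 : z ^ 2 = 1 := by rw [← hz]; exact pow_orderOf_eq_one z
    rw [← pow_two]
    exact congrArg Subtype.val h1
  have hez : e ⟨z, hzP⟩ = QuaternionGroup.a 2 := by
    have h1 : e ⟨z, hzP⟩ * e ⟨z, hzP⟩ = 1 := by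
      rw [← map_mul, ← map_one e]
      congr 1
      exact Subtype.ext hzz
    rcases q8_sq.2 _ h1 with h | h
    · exfalso
      apply hz1
      have h2 : (⟨z, hzP⟩ : (P : Subgroup G)) = 1 := e.injective (by rw [h, map_one])
      exact congrArg Subtype.val h2
    · exact h
  have hsq : ∀ x ∈ (P : Subgroup G), x * x ∈ center G := by
    intro x hx
    rcases q8_sq.1 (e ⟨x, hx⟩) with h | h
    · have h2 : (⟨x, hx⟩ : (P : Subgroup G)) * ⟨x, hx⟩ = 1 := e.injective (by rw [map_mul, h, map_one])
      have h3 : x * x = 1 := congrArg Subtype.val h2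
      rw [h3]; exact one_mem _
    · have h2 : (⟨x, hx⟩ : (P : Subgroup G)) * ⟨x, hx⟩ = ⟨z, hzP⟩ := e.injective (by rw [map_mul, h, hez])
      have h3 : x * x = z := congrArg Subtype.val h2
      rw [h3]; exact z.2
  have hinv : ∀ u ∈ (P : Subgroup G), orderOf u = 2 → u = z := by
    intro u hu huo
    have h0 : u * u = 1 := by rw [← pow_two, ← huo]; exact pow_orderOf_eq_one u
    have h1 : e ⟨u, hu⟩ * e ⟨u, hu⟩ = 1 := by
      rw [← map_mul, ← map_one e]
      congr 1
      exact Subtype.ext h0
    rcases q8_sq.2 _ h1 with h | h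
    · exfalso
      have h2 : (⟨u, hu⟩ : (P : Subgroup G)) = 1 := e.injective (by rw [h, map_one])
      have h3 : u = 1 := congrArg Subtype.val h2
      rw [h3, orderOf_one] at huo
      omega
    · have h2 : (⟨u, hu⟩ : (P : Subgroup G)) = ⟨z, hzP⟩ := e.injective (by rw [h, hez])
      exact congrArg Subtype.val h2
  have hE2 : E2 (G ⧸ center G) := by
    apply E2_of Pb
    rw [hPb]
    rintro _ ⟨x, hx, rfl⟩
    rw [← map_mul, QuotientGroup.mk'_apply]
    exact (QuotientGroup.eq_one_iff _).2 (hsq x hx)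
  have hcardG : Nat.card G = 2 * Nat.card (G ⧸ center G) := by
    rw [← hZc, mul_comm]; exact Subgroup.card_eq_card_quotient_mul_card_subgroup _
  have hPbc' : Nat.card Pb = 2 ^ 2 := by
    have h1 : Nat.card Pb = Nat.card ((P : Subgroup G).map (QuotientGroup.mk' (center G))) := by rw [← hPb]
    rw [h1, hPbc]; norm_num
  by_cases htwo : ∃ a b : Sylow 2 (G ⧸ center G), a ≠ b
  · right
    have hcard : ∀ Q : Sylow 2 (G ⧸ center G), Nat.card Q = 2 ^ 2 := by
      intro Q
      rw [← hPbc']
      exact (Q.card_eq_multiplicity).trans (Pb.card_eq_multiplicity).symm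
    rcases nonnormal hCq hE2 le_rfl hcard htwo hOq with ⟨h, -⟩ | ⟨h, -⟩ | ⟨-, ⟨f⟩⟩
    · omega
    · omega
    · have hc60 : Nat.card (G ⧸ center G) = 60 := by
        have h1 : Nat.card (G ⧸ center G) = Nat.card (alternatingGroup (Fin 5)) := Nat.card_congr f.toEquiv
        have h2 := nat_card_alternatingGroup (α := Fin 5)
        rw [h1, h2, Nat.card_fin]; decide
      have hc120 : Nat.card G = 120 := by rw [hcardG, hc60]
      have hns : ¬ Group.IsSolvable G := by
        intro h
        apply not_solvable_alt5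
        have h1 : Group.IsSolvable (G ⧸ center G) := inferInstance
        exact Group.isSolvable_of_surjective (f := (f : (G ⧸ center G) →* alternatingGroup (Fin 5))) f.surjective
      obtain ⟨f1⟩ := SL25.recognize hc120 hns (fun Q => ⟨(Sylow.equiv Q P).trans e⟩)
      obtain ⟨f2⟩ := SL25.presEquiv
      exact ⟨f1.symm.trans f2⟩
  · left
    have hsub : Subsingleton (Sylow 2 (G ⧸ center G)) := ⟨fun a b => by
      by_contra hab; exact htwo ⟨a, b, hab⟩⟩
    have hPn : (Pb : Subgroup (G ⧸ center G)).Normal := by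
      have h3 : (Pb : Subgroup (G ⧸ center G)).Characteristic := Sylow.characteristic_of_subsingleton Pb
      exact Subgroup.normal_of_characteristic _
    rcases normalcase hCq hE2 le_rfl Pb hPbc' hPn hOq with ⟨-, hc12, -⟩ | ⟨h, -⟩ | ⟨h, -⟩
    · have hc24 : Nat.card G = 24 := by rw [hcardG, hc12]
      have hPnn : (P : Subgroup G).Normal := by
        have h1 : (P : Subgroup G) = ((P : Subgroup G).map (QuotientGroup.mk' (center G))).comap
            (QuotientGroup.mk' (center G)) := by
          rw [Subgroup.comap_map_eq_self]; rw [QuotientGroup.ker_mk']; exact hZP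
        rw [h1, ← hPb]
        exact hPn.comap _
      have hf3 : Fact (Nat.Prime 3) := ⟨Nat.prime_three⟩
      obtain ⟨g, hg⟩ := exists_prime_orderOf_dvd_card' (G := G) 3 (by rw [hc24]; norm_num)
      apply sl23_of hc24 (P : Subgroup G) hPnn P.2 (fun u hu v hv huo hvo => by rw [hinv u hu huo, hinv v hv hvo]) hg
      intro hgC
      have hN : normalizer ((zpowers g : Subgroup G) : Set G) = ⊤ := by
        apply Subgroup.eq_top_of_card_eq
        rw [hc24]
        apply Nat.dvd_antisymm (by rw [← hc24]; exact Subgroup.card_subgroup_dvd_card _)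
        refine Nat.Coprime.mul_dvd_of_dvd_of_dvd (by norm_num : Nat.Coprime 8 3) ?_ ?_
        · rw [← hPc]
          apply card_dvd_of_le
          intro x hx
          apply SylowTools.mem_normalizer_of_forall
          intro s hs
          obtain ⟨i, rfl⟩ := mem_zpowers_iff.1 hs
          have h1 : Commute x g := mem_centralizer_iff.1 hgC x hx
          rw [(h1.zpow_right i).eq, mul_inv_cancel_right]
          exact hs
        · rw [← hg, ← Nat.card_zpowers]
          exact card_dvd_of_le le_normalizer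
      have h1 := hO (zpowers g) (normalizer_eq_top_iff.1 hN) (by rw [Nat.card_zpowers, hg]; decide)
      rw [Subgroup.zpowers_eq_bot] at h1
      rw [h1, orderOf_one] at hg
      omega
    · omega
    · omega

end Cfsg.Agent.Lib.H1Same
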