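import Mathlib

/-!
# Doubly transitive groups with two-point stabilizers `B × X_{ab}` (helper1)
-/

set_option autoImplicit false
set_option linter.unusedSectionVars false

open Subgroup MulAction

namespace Cfsg.Agent.Lib.H1Zam

variable {G Ω : Type*} [Group G] [Finite G] [MulAction G Ω] [Finite Ω]

/-- the ambient data -/
structure Amb (q r : ℕ) (S X : Ω → Subgroup G) (B : Ω → Ω → Subgroup G) (G0 : Subgroup G) : Prop where
  rp : r.Prime
  r2 : r ≠ 2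
  qr : q = r + 1
  Sst : ∀ a, ∀ s ∈ S a, s • a = a
  Sc : ∀ a, Nat.card (S a) = q
  Sx : ∀ a, ∀ s ∈ S a, s * s = 1
  Sfree : ∀ a b, ∀ s ∈ S a, b ≠ a → s • b = b → s = 1
  Xst : ∀ a, ∀ x ∈ X a, x • a = a
  Xodd : ∀ a, Odd (Nat.card (X a))
  Xr : ∀ a, ¬ r ∣ Nat.card (X a)
  SX : ∀ a, ∀ s ∈ S a, ∀ x ∈ X a, s * x = x * s
  Xn : ∀ (g : G) a, ∀ x ∈ X a, g * x * g⁻¹ ∈ X (g • a)
  Sn : ∀ (g : G) a, ∀ s ∈ S a, g * s * g⁻¹ ∈ S (g • a)
  XX : ∀ a b, ∀ x ∈ X a, x • b = b → x ∈ X b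
  Bc : ∀ a b, a ≠ b → Nat.card (B a b) = r
  Bst : ∀ a b, a ≠ b → ∀ y ∈ B a b, y • a = a ∧ y • b = b
  Bfix : ∀ a b, a ≠ b → ∀ c, (∀ y ∈ B a b, y • c = c) → c = a ∨ c = b
  BX : ∀ a b, a ≠ b → ∀ y ∈ B a b, ∀ x ∈ X a, x ∈ X b → y * x = x * y
  dec : ∀ a b, a ≠ b → ∀ g ∈ G0, g • a = a → ∃ s ∈ S a, ∃ x ∈ X a, ∃ y ∈ B a b, g = s * x * y
  ty : ∀ s : ℕ, s.Prime → ∀ a, s ∣ Nat.card (X a) → ∀ u y : G, u * u = 1 → orderOf y = s → u * y * u ≠ y⁻¹
  ab : ∀ s : ℕ, s.Prime → ∀ a, s ∣ Nat.card (X a) → ∀ T : Subgroup G, IsPGroup s T → ∀ x ∈ T, ∀ y ∈ T, x * y = y * x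

/-- a good pair -/
structure Good (S X : Ω → Subgroup G) (B : Ω → Ω → Subgroup G) (G0 H : Subgroup G) (D : Set Ω) : Prop where
  le : H ≤ G0
  inv : ∀ h ∈ H, ∀ c ∈ D, h • c ∈ D
  hS : ∀ c ∈ D, S c ≤ H
  hB : ∀ c ∈ D, ∀ d ∈ D, c ≠ d → B c d ≤ H
  hu : ∀ c ∈ D, ∀ d ∈ D, c ≠ d → ∃ u ∈ H, u * u = 1 ∧ u • c = d ∧ (∀ y ∈ B c d, u * y * u = y⁻¹) ∧
    ∀ x ∈ X c, x ∈ X d → u * x = x * u
  two : ∃ c ∈ D, ∃ d ∈ D, c ≠ d

variable {q r : ℕ} {S X : Ω → Subgroup G} {B : Ω → Ω → Subgroup G} {G0 H : Subgroup G} {D : Set Ω}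

/-- commuting elements: an involution and an element of an odd-order subgroup -/
theorem pow_split {s x : G} {n : ℕ} (hs : s * s = 1) (hx : x ^ n = 1) (hn : Odd n) (hc : s * x = x * s) :
    (s * x) ^ n = s := by
  have h1 : Commute s x := hc
  rw [h1.mul_pow, hx, mul_one]
  obtain ⟨k, rfl⟩ := hn
  rw [pow_succ, pow_mul, pow_two, hs, one_pow, one_mul]

theorem pow_card_X (a : Ω) {x : G} (hx : x ∈ X a) : x ^ Nat.card (X a) = 1 := by
  have h1 : (⟨x, hx⟩ : X a) ^ Nat.card (X a) = 1 := pow_card_eq_one'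
  exact congrArg Subtype.val h1

theorem smul_pow_eq {g : G} {c : Ω} (h : g • c = c) (n : ℕ) : g ^ n • c = c := by
  have h1 : g ∈ stabilizer G c := h
  exact pow_mem h1 n

namespace Amb

variable (A : Amb q r S X B G0)
include A

theorem q4 : 4 ≤ q := by
  have := A.rp.two_le
  have := A.r2
  have := A.qr
  omega

theorem dec2 {a b : Ω} (hab : a ≠ b) {g : G} (hg : g ∈ G0) (ha : g • a = a) (hb : g • b = b) :
    ∃ x ∈ X a, x ∈ X b ∧ ∃ y ∈ B a b, g = x * y := by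
  obtain ⟨s, hs, x, hx, y, hy, h⟩ := A.dec a b hab g hg ha
  have h1 : (s * x) • b = b := by
    have h2 : g * y⁻¹ = s * x := by rw [h]; group
    rw [← h2, mul_smul]
    have h3 : y⁻¹ • b = b := by rw [inv_smul_eq_iff]; exact ((A.Bst a b hab y hy).2).symm
    rw [h3, hb]
  have h2 : s • b = b := by
    have h3 := pow_split (A.Sx a s hs) (pow_card_X a hx) (A.Xodd a) (A.SX a s hs x hx)
    rw [← h3]
    exact smul_pow_eq h1 _
  have h3 : s = 1 := A.Sfree a b s hs hab.symm h2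
  rw [h3, one_mul] at h1 h
  exact ⟨x, hx, A.XX a b x hx h1, y, hy, h⟩

/-- elements of `S_a X_a` inside `B` are trivial -/
theorem SXB {a b : Ω} (hab : a ≠ b) {s x y : G} (hs : s ∈ S a) (hx : x ∈ X a) (hy : y ∈ B a b)
    (h : s * x = y) : s = 1 ∧ x = 1 ∧ y = 1 := by
  have hr3 : Odd r := A.rp.odd_of_ne_two A.r2
  have hyr : y ^ r = 1 := by
    rw [← A.Bc a b hab]
    have h1 : (⟨y, hy⟩ : B a b) ^ Nat.card (B a b) = 1 := pow_card_eq_one'
    exact congrArg Subtype.val h1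
  have hsp := pow_split (A.Sx a s hs) (pow_card_X a hx) (A.Xodd a) (A.SX a s hs x hx)
  have hs1 : s = 1 := by
    have h1 : s ^ r = 1 := by
      rw [← hsp, h, ← pow_mul, mul_comm, pow_mul, hyr, one_pow]
    obtain ⟨k, hk⟩ := hr3
    rw [hk, pow_succ, pow_mul, pow_two, A.Sx a s hs, one_pow, one_mul] at h1
    exact h1
  rw [hs1, one_mul] at h
  have hx1 : x = 1 := by
    have h1 : orderOf x ∣ r := orderOf_dvd_of_pow_eq_one (by rw [h]; exact hyr)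
    have h2 : orderOf x ∣ Nat.card (X a) := orderOf_dvd_of_pow_eq_one (pow_card_X a hx)
    have h3 : Nat.Coprime r (Nat.card (X a)) := (Nat.Prime.coprime_iff_not_dvd A.rp).2 (A.Xr a)
    exact orderOf_eq_one_iff.1 (Nat.eq_one_of_dvd_coprimes h3 h1 h2)
  exact ⟨hs1, hx1, by rw [← h, hx1]⟩

/-- a non-trivial element of `B a b` fixes only `a` and `b` -/
theorem Bfix' {a b : Ω} (hab : a ≠ b) {y : G} (hy : y ∈ B a b) (hy1 : y ≠ 1) {c : Ω} (hc : y • c = c) :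
    c = a ∨ c = b := by
  apply A.Bfix a b hab
  intro z hz
  have : Fact r.Prime := ⟨A.rp⟩
  have h1 := mem_zpowers_of_prime_card (G := B a b) (p := r) (A.Bc a b hab) (g := ⟨y, hy⟩) (g' := ⟨z, hz⟩)
    (by intro h; exact hy1 (congrArg Subtype.val h))
  obtain ⟨n, hn⟩ := mem_zpowers_iff.1 h1
  have h2 : y ^ n = z := congrArg Subtype.val hn
  rw [← h2]
  have h3 : y ∈ stabilizer G c := hc
  exact zpow_mem h3 n

end Amb

/-- the order of a point stabilizer -/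
theorem card_stab (A : Amb q r S X B G0) (hH : Good S X B G0 H D) {a b : Ω} (ha : a ∈ D) (hb : b ∈ D) (hab : a ≠ b) :
    Nat.card ↥(H ⊓ stabilizer G a) = q * Nat.card ↥(X a ⊓ H) * r := by
  rw [← A.Sc a, ← A.Bc a b hab, ← Nat.card_prod, ← Nat.card_prod]
  symm
  have hmem : ∀ t : ((S a) × ↥(X a ⊓ H)) × (B a b), (t.1.1 : G) * t.1.2 * t.2 ∈ H ⊓ stabilizer G a := by
    intro t
    refine ⟨H.mul_mem (H.mul_mem (hH.hS a ha t.1.1.2) t.1.2.2.2) (hH.hB a ha b hb hab t.2.2), ?_⟩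
    show ((t.1.1 : G) * t.1.2 * t.2) • a = a
    rw [mul_smul, mul_smul, (A.Bst a b hab _ t.2.2).1, A.Xst a _ t.1.2.2.1, A.Sst a _ t.1.1.2]
  refine Nat.card_congr (Equiv.ofBijective
    (fun t : ((S a) × ↥(X a ⊓ H)) × (B a b) => (⟨(t.1.1 : G) * t.1.2 * t.2, hmem t⟩ : ↥(H ⊓ stabilizer G a))) ⟨?_, ?_⟩)
  · rintro ⟨⟨⟨s, hs⟩, ⟨x, hx, hxH⟩⟩, ⟨y, hy⟩⟩ ⟨⟨⟨s', hs'⟩, ⟨x', hx', hxH'⟩⟩, ⟨y', hy'⟩⟩ h
    have h1 : s * x * y = s' * x' * y' := congrArg Subtype.val h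
    have h2 : (s'⁻¹ * s) * (x'⁻¹ * x) = y' * y⁻¹ := by
      have h3 : (s'⁻¹ * s) * x'⁻¹ = x'⁻¹ * (s'⁻¹ * s) :=
        A.SX a _ ((S a).mul_mem ((S a).inv_mem hs') hs) _ ((X a).inv_mem hx')
      calc (s'⁻¹ * s) * (x'⁻¹ * x) = ((s'⁻¹ * s) * x'⁻¹) * x := by group
        _ = x'⁻¹ * s'⁻¹ * (s * x * y) * y⁻¹ := by rw [h3]; group
        _ = x'⁻¹ * s'⁻¹ * (s' * x' * y') * y⁻¹ := by rw [h1]
        _ = y' * y⁻¹ := by group
    obtain ⟨e1, e2, e3⟩ := A.SXB hab ((S a).mul_mem ((S a).inv_mem hs') hs) ((X a).mul_mem ((X a).inv_mem hx') hx)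
      ((B a b).mul_mem hy' ((B a b).inv_mem hy)) h2
    have f1 : s' = s := inv_mul_eq_one.1 e1
    have f2 : x' = x := inv_mul_eq_one.1 e2
    have f3 : y' = y := mul_inv_eq_one.1 e3
    subst f1 f2 f3
    rfl
  · rintro ⟨g, hg, hga⟩
    obtain ⟨s, hs, x, hx, y, hy, h⟩ := A.dec a b hab g (hH.le hg) hga
    have hsH := hH.hS a ha hs
    have hyH := hH.hB a ha b hb hab hy
    have hxH : x ∈ H := by
      have h1 : x = s⁻¹ * g * y⁻¹ := by rw [h]; group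
      rw [h1]; exact H.mul_mem (H.mul_mem (H.inv_mem hsH) hg) (H.inv_mem hyH)
    exact ⟨((⟨s, hs⟩, ⟨x, hx, hxH⟩), ⟨y, hy⟩), Subtype.ext h.symm⟩

theorem card_stab2 (A : Amb q r S X B G0) (hH : Good S X B G0 H D) {a b : Ω} (ha : a ∈ D) (hb : b ∈ D) (hab : a ≠ b) :
    Nat.card ↥((H ⊓ stabilizer G a) ⊓ stabilizer G b) = Nat.card ↥((X a ⊓ X b) ⊓ H) * r := by
  rw [← A.Bc a b hab, ← Nat.card_prod]
  symm
  have hmem : ∀ t : ↥((X a ⊓ X b) ⊓ H) × (B a b), (t.1 : G) * t.2 ∈ (H ⊓ stabilizer G a) ⊓ stabilizer G b := by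
    intro t
    refine ⟨⟨H.mul_mem t.1.2.2 (hH.hB a ha b hb hab t.2.2), ?_⟩, ?_⟩
    · show ((t.1 : G) * t.2) • a = a
      rw [mul_smul, (A.Bst a b hab _ t.2.2).1, A.Xst a _ t.1.2.1.1]
    · show ((t.1 : G) * t.2) • b = b
      rw [mul_smul, (A.Bst a b hab _ t.2.2).2, A.Xst b _ t.1.2.1.2]
  refine Nat.card_congr (Equiv.ofBijective
    (fun t : ↥((X a ⊓ X b) ⊓ H) × (B a b) => (⟨(t.1 : G) * t.2, hmem t⟩ : ↥((H ⊓ stabilizer G a) ⊓ stabilizer G b))) ⟨?_, ?_⟩)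
  · rintro ⟨⟨x, ⟨hx, hxb⟩, hxH⟩, ⟨y, hy⟩⟩ ⟨⟨x', ⟨hx', hxb'⟩, hxH'⟩, ⟨y', hy'⟩⟩ h
    have h1 : x * y = x' * y' := congrArg Subtype.val h
    have h2 : 1 * (x'⁻¹ * x) = y' * y⁻¹ := by
      calc 1 * (x'⁻¹ * x) = x'⁻¹ * (x * y) * y⁻¹ := by group
        _ = y' * y⁻¹ := by rw [h1]; group
    obtain ⟨e1, e2, e3⟩ := A.SXB hab (S a).one_mem ((X a).mul_mem ((X a).inv_mem hx') hx)
      ((B a b).mul_mem hy' ((B a b).inv_mem hy)) h2
    have f2 : x' = x := inv_mul_eq_one.1 e2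
    have f3 : y' = y := mul_inv_eq_one.1 e3
    subst f2 f3
    rfl
  · rintro ⟨g, ⟨hg, hga⟩, hgb⟩
    obtain ⟨x, hx, hxb, y, hy, h⟩ := A.dec2 hab (hH.le hg) hga hgb
    have hyH := hH.hB a ha b hb hab hy
    have hxH : x ∈ H := by
      have h1 : x = g * y⁻¹ := by rw [h]; group
      rw [h1]; exact H.mul_mem hg (H.inv_mem hyH)
    exact ⟨(⟨x, ⟨hx, hxb⟩, hxH⟩, ⟨y, hy⟩), Subtype.ext h.symm⟩

/-- the point stabilizer is transitive on the remaining points -/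
theorem trans_stab (A : Amb q r S X B G0) (hH : Good S X B G0 H D) {a b c : Ω} (ha : a ∈ D) (hb : b ∈ D) (hc : c ∈ D)
    (hab : a ≠ b) (hac : a ≠ c) : ∃ h ∈ H, h • a = a ∧ h • b = c := by
  classical
  have hr : Fact r.Prime := ⟨A.rp⟩
  set K : Subgroup G := H ⊓ stabilizer G a with hK
  have hBK : ∀ d ∈ D, a ≠ d → B a d ≤ K := by
    intro d hd had
    exact le_inf (hH.hB a ha d hd had) (fun y hy => (A.Bst a d had y hy).1)
  have hcard := card_stab A hH ha hb hab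
  have hqr := A.qr
  have hrp := A.rp
  -- Sylow subgroups
  have hidx : ∀ d, d ∈ D → a ≠ d → ¬ r ∣ ((B a d).subgroupOf K).index := by
    intro d hd had h
    have h1 := ((B a d).subgroupOf K).card_mul_index
    rw [Nat.card_congr (subgroupOfEquivOfLe (hBK d hd had)).toEquiv, A.Bc a d had, hcard] at h1
    have h2 : ((B a d).subgroupOf K).index = q * Nat.card ↥(X a ⊓ H) := by
      apply Nat.eq_of_mul_eq_mul_left hrp.pos
      rw [h1]; ring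
    rw [h2] at h
    rcases (Nat.Prime.dvd_mul hrp).1 h with h3 | h3
    · rw [hqr] at h3
      have : r ∣ 1 := (Nat.dvd_add_right (dvd_refl r)).1 h3
      exact hrp.one_lt.ne' (Nat.dvd_one.1 this)
    · exact A.Xr a (h3.trans (card_dvd_of_le inf_le_left))
  have hsyl : ∀ d, d ∈ D → a ≠ d → ∃ P : Sylow r K, (P : Subgroup K) = (B a d).subgroupOf K := by
    intro d hd had
    have hp : IsPGroup r ((B a d).subgroupOf K) := IsPGroup.of_card (n := 1) (by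
      rw [Nat.card_congr (subgroupOfEquivOfLe (hBK d hd had)).toEquiv, A.Bc a d had, pow_one])
    exact ⟨hp.toSylow (hidx d hd had), rfl⟩
  obtain ⟨P, hP⟩ := hsyl b hb hab
  obtain ⟨Q, hQ⟩ := hsyl c hc hac
  obtain ⟨g, hg⟩ := exists_smul_eq K P Q
  have hgH : (g : G) ∈ H := g.2.1
  have hga : (g : G) • a = a := g.2.2
  refine ⟨g, hgH, hga, ?_⟩
  have hfix : ∀ y ∈ B a c, y • ((g : G) • b) = (g : G) • b := by
    intro y hy
    have h1 : (⟨y, hBK c hc hac hy⟩ : K) ∈ (Q : Subgroup K) := by rw [hQ]; exact hy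
    rw [← hg] at h1
    obtain ⟨z, hz, hz'⟩ := h1
    have hz2 : z ∈ (B a b).subgroupOf K := by rw [← hP]; exact hz
    have h2 : y = (g : G) * z * (g : G)⁻¹ := (congrArg Subtype.val hz').symm
    rw [h2, mul_smul, mul_smul, inv_smul_smul, (A.Bst a b hab z hz2).2]
  rcases A.Bfix a c hac _ hfix with h | h
  · exfalso
    have h1 : (g : G) • b = (g : G) • a := by rw [h, hga]
    exact hab ((MulAction.injective (g : G)) h1).symm
  · exact h

theorem trans (A : Amb q r S X B G0) (hH : Good S X B G0 H D) {a b : Ω} (ha : a ∈ D) (hb : b ∈ D) :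
    ∃ h ∈ H, h • a = b := by
  by_cases hab : a = b
  · exact ⟨1, H.one_mem, by rw [one_smul, hab]⟩
  · obtain ⟨u, hu, -, h, -⟩ := hH.hu a ha b hb hab
    exact ⟨u, hu, h⟩

theorem trans2 (A : Amb q r S X B G0) (hH : Good S X B G0 H D) {a b c d : Ω} (ha : a ∈ D) (hb : b ∈ D) (hc : c ∈ D)
    (hd : d ∈ D) (hab : a ≠ b) (hcd : c ≠ d) : ∃ h ∈ H, h • a = c ∧ h • b = d := by
  obtain ⟨g, hg, hga⟩ := trans A hH ha hc
  have h1 : c ≠ g • b := by
    rw [← hga]; intro h; exact hab (MulAction.injective g h)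
  obtain ⟨k, hk, hkc, hkb⟩ := trans_stab A hH hc (hH.inv g hg b hb) hd h1 hcd
  exact ⟨k * g, H.mul_mem hk hg, by rw [mul_smul, hga, hkc], by rw [mul_smul, hkb]⟩

/-- the number of points -/
theorem card_points (A : Amb q r S X B G0) (hH : Good S X B G0 H D) {a b : Ω} (ha : a ∈ D) (hb : b ∈ D) (hab : a ≠ b) :
    (D.ncard - 1) * Nat.card ↥((X a ⊓ X b) ⊓ H) = q * Nat.card ↥(X a ⊓ H) := by
  classical
  set K : Subgroup G := H ⊓ stabilizer G a with hK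
  have horb : orbit K b = D \ {a} := by
    ext c
    constructor
    · rintro ⟨k, rfl⟩
      refine ⟨hH.inv k k.2.1 b hb, ?_⟩
      intro h
      have h1 : (k : G) • b = (k : G) • a := by
        have h2 : (k : G) • a = a := k.2.2
        rw [h2]; exact h
      exact hab (MulAction.injective (k : G) h1).symm
    · rintro ⟨hc, hca⟩
      obtain ⟨h, hh, h1, h2⟩ := trans_stab A hH ha hb hc hab (fun h => hca h.symm)
      exact ⟨⟨h, hh, h1⟩, h2⟩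
  have h1 : (stabilizer K b).index = D.ncard - 1 := by
    rw [index_stabilizer, horb, Set.ncard_sdiff_singleton_of_mem ha]
  have h2 : Nat.card (stabilizer K b) = Nat.card ↥((X a ⊓ X b) ⊓ H) * r := by
    rw [← card_stab2 A hH ha hb hab]
    refine Nat.card_congr
      { toFun := fun k => ⟨k.1.1, k.1.2, k.2⟩
        invFun := fun k => ⟨⟨k.1, k.2.1⟩, k.2.2⟩
        left_inv := fun k => rfl
        right_inv := fun k => rfl }
  have h3 := (stabilizer K b).card_mul_index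
  rw [h1, h2, card_stab A hH ha hb hab] at h3
  apply Nat.eq_of_mul_eq_mul_right A.rp.pos
  rw [← h3]; ring

/-- `|D| = q + 1` iff `X_a ∩ H` is trivial on `D` -/
theorem le_of_card (A : Amb q r S X B G0) (hH : Good S X B G0 H D) (hc : D.ncard = q + 1) {a b : Ω} (ha : a ∈ D)
    (hb : b ∈ D) : X a ⊓ H ≤ X b := by
  by_cases hab : a = b
  · rw [hab]; exact inf_le_left
  have h := card_points A hH ha hb hab
  rw [hc, Nat.add_sub_cancel] at h
  have hq := A.q4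
  have h1 := Nat.eq_of_mul_eq_mul_left (by omega) h
  have h2 : (X a ⊓ X b) ⊓ H ≤ X a ⊓ H := fun x hx => ⟨hx.1.1, hx.2⟩
  have h3 := Subgroup.eq_of_le_of_card_ge h2 (by rw [h1])
  rw [← h3]
  exact fun x hx => hx.1.2

theorem card_of_le (A : Amb q r S X B G0) (hH : Good S X B G0 H D) {a b : Ω} (ha : a ∈ D)
    (hb : b ∈ D) (hab : a ≠ b) (h : X a ⊓ H ≤ X b) : D.ncard = q + 1 := by
  have h1 := card_points A hH ha hb hab
  have h2 : (X a ⊓ X b) ⊓ H = X a ⊓ H := le_antisymm (fun x hx => ⟨hx.1.1, hx.2⟩) (fun x hx => ⟨⟨hx.1, h hx⟩, hx.2⟩)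
  rw [h2] at h1
  have h3 := Nat.eq_of_mul_eq_mul_right Nat.card_pos h1
  have : 0 < D.ncard := (Set.ncard_pos (Set.toFinite D)).2 ⟨a, ha⟩
  omega

end Cfsg.Agent.Lib.H1Zam
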