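import Cfsg.Agent.Lib.H1ZamA

set_option autoImplicit false
set_option linter.unusedSectionVars false

open Subgroup MulAction

namespace Cfsg.Agent.Lib.H1Zam

variable {G Ω : Type*} [Group G] [Finite G] [MulAction G Ω] [Finite Ω]
variable {q r : ℕ} {S X : Ω → Subgroup G} {B : Ω → Ω → Subgroup G} {G0 H : Subgroup G} {D : Set Ω}

/-- points of `D` fixed by `Y` -/
def fixD (D : Set Ω) (Y : Subgroup G) : Set Ω := {c | c ∈ D ∧ ∀ y ∈ Y, y • c = c}

theorem mem_norm_of_comm {Y : Subgroup G} {g : G} (h : ∀ y ∈ Y, g * y = y * g) : g ∈ normalizer (Y : Set G) := by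
  rw [mem_normalizer_iff]
  intro y
  constructor
  · intro hy; rw [h y hy, mul_inv_cancel_right]; exact hy
  · intro hy
    have h1 : g * (g * y * g⁻¹) = (g * y * g⁻¹) * g := h _ hy
    have h2 : y = g * y * g⁻¹ := by
      have h3 : g * (g * y * g⁻¹) = g * y := by rw [h1]; group
      exact (mul_left_cancel h3).symm
    rw [h2]; exact hy

theorem good_local (A : Amb q r S X B G0) (hH : Good S X B G0 H D) {a b : Ω} (ha : a ∈ D) (hb : b ∈ D) (hab : a ≠ b)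
    (Y : Subgroup G) (hYa : Y ≤ X a) (hYb : Y ≤ X b) :
    Good S X B G0 (H ⊓ normalizer (Y : Set G)) (fixD D Y) := by
  have hY : ∀ c ∈ fixD D Y, Y ≤ X c := fun c hc y hy => A.XX a c y (hYa hy) (hc.2 y hy)
  refine ⟨inf_le_left.trans hH.le, ?_, ?_, ?_, ?_, ?_⟩
  · rintro h ⟨hh, hn⟩ c hc
    refine ⟨hH.inv h hh c hc.1, fun y hy => ?_⟩
    have h1 : h⁻¹ * y * h ∈ Y := by
      have h2 := (mem_normalizer_iff.1 ((normalizer (Y : Set G)).inv_mem hn) y).1 hy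
      rwa [inv_inv] at h2
    have h2 : y = h * (h⁻¹ * y * h) * h⁻¹ := by group
    rw [h2, mul_smul, mul_smul, inv_smul_smul, hc.2 _ h1]
  · intro c hc s hs
    exact ⟨hH.hS c hc.1 hs, mem_norm_of_comm fun y hy => A.SX c s hs y (hY c hc hy)⟩
  · intro c hc d hd hcd y hy
    exact ⟨hH.hB c hc.1 d hd.1 hcd hy, mem_norm_of_comm fun z hz => A.BX c d hcd y hy z (hY c hc hz) (hY d hd hz)⟩
  · intro c hc d hd hcd
    obtain ⟨u, hu, h1, h2, h3, h4⟩ := hH.hu c hc.1 d hd.1 hcd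
    exact ⟨u, ⟨hu, mem_norm_of_comm fun z hz => h4 z (hY c hc hz) (hY d hd hz)⟩, h1, h2, h3, h4⟩
  · exact ⟨a, ⟨ha, fun y hy => A.Xst a y (hYa hy)⟩, b, ⟨hb, fun y hy => A.Xst b y (hYb hy)⟩, hab⟩

theorem local_lt (A : Amb q r S X B G0) (hH : Good S X B G0 H D) {a : Ω} (ha : a ∈ D)
    (Y : Subgroup G) (hYa : Y ≤ X a) (hne : ∃ c ∈ D, ∃ y ∈ Y, y • c ≠ c) :
    Nat.card ↥(H ⊓ normalizer (Y : Set G)) < Nat.card H := by
  apply lt_of_le_of_ne (Subgroup.card_le_of_le inf_le_left)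
  intro h
  have h1 : H ⊓ normalizer (Y : Set G) = H := Subgroup.eq_of_le_of_card_ge inf_le_left h.ge
  obtain ⟨c, hc, y, hy, hyc⟩ := hne
  obtain ⟨g, hg, hga⟩ := trans A hH ha hc
  apply hyc
  have hn : g ∈ normalizer (Y : Set G) := by
    have : g ∈ H ⊓ normalizer (Y : Set G) := by rw [h1]; exact hg
    exact this.2
  have h1 : g⁻¹ * y * g ∈ Y := by
    have h2 := (mem_normalizer_iff.1 ((normalizer (Y : Set G)).inv_mem hn) y).1 hy
    rwa [inv_inv] at h2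
  have h2 : y = g * (g⁻¹ * y * g) * g⁻¹ := by group
  rw [h2, ← hga, mul_smul, mul_smul, inv_smul_smul, A.Xst a _ (hYa h1)]

/-- the data obtained from the induction hypothesis -/
theorem local_data (A : Amb q r S X B G0) (hH : Good S X B G0 H D)
    (IH : ∀ (H' : Subgroup G) (D' : Set Ω), Good S X B G0 H' D' → Nat.card H' < Nat.card H → D'.ncard = q + 1)
    {a b : Ω} (ha : a ∈ D) (hb : b ∈ D) (hab : a ≠ b)
    (Y : Subgroup G) (hYa : Y ≤ X a) (hYb : Y ≤ X b) (hne : ∃ c ∈ D, ∃ y ∈ Y, y • c ≠ c) :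
    (fixD D Y).ncard = q + 1 ∧ ∀ c ∈ fixD D Y, ∀ d ∈ fixD D Y, ∀ x ∈ X c, x ∈ H → x ∈ normalizer (Y : Set G) → x ∈ X d := by
  have h1 := good_local A hH ha hb hab Y hYa hYb
  have h2 := IH _ _ h1 (local_lt A hH ha Y hYa hne)
  exact ⟨h2, fun c hc d hd x hx hxH hxn => le_of_card A h1 h2 hc hd ⟨hx, hxH, hxn⟩⟩

end Cfsg.Agent.Lib.H1Zam
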