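import Cfsg.Agent.Lib.H1ZamD

set_option autoImplicit false
set_option linter.unusedSectionVars false
set_option linter.unusedVariables false

open Subgroup MulAction
open scoped Pointwise

namespace Cfsg.Agent.Lib.H1Zam

variable {G Ω : Type*} [Group G] [Finite G] [MulAction G Ω] [Finite Ω]
variable {q r : ℕ} {S X : Ω → Subgroup G} {B : Ω → Ω → Subgroup G} {G0 H : Subgroup G} {D : Set Ω}

theorem Amb.s_ne_two (A : Amb q r S X B G0) {s : ℕ} (hs : s.Prime) {a : Ω} (h : s ∣ Nat.card (X a)) : s ≠ 2 := by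
  rintro rfl
  have := A.Xodd a
  rw [Nat.odd_iff] at this
  omega

theorem Amb.s_coprime (A : Amb q r S X B G0) {s : ℕ} (hs : s.Prime) {a : Ω} (h : s ∣ Nat.card (X a)) :
    Nat.Coprime s (q * r) := by
  apply Nat.Coprime.mul_right
  · rw [Nat.Prime.coprime_iff_not_dvd hs]
    intro h1
    have : Fact s.Prime := ⟨hs⟩
    obtain ⟨x, hx⟩ := exists_prime_orderOf_dvd_card' (G := S a) s (by rw [A.Sc a]; exact h1)
    have h2 : orderOf x ∣ 2 := orderOf_dvd_of_pow_eq_one (by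
      apply Subtype.ext
      rw [Subgroup.coe_pow, pow_two]
      exact A.Sx a x x.2)
    rw [hx] at h2
    exact A.s_ne_two hs h ((Nat.prime_dvd_prime_iff_eq hs Nat.prime_two).1 h2)
  · rw [Nat.coprime_primes hs A.rp]
    rintro rfl
    exact A.Xr a h

theorem mem_X1_of_fix (A : Amb q r S X B G0) (hH : Good S X B G0 H D)
    {a b : Ω} (ha : a ∈ D) (hb : b ∈ D) (hab : a ≠ b) {X1 : Subgroup G} (hX1 : X1 = X a ⊓ X b ⊓ H)
    (hc : (fixD D X1).ncard = q + 1) {h : G} (hh : h ∈ H) (hf : ∀ c ∈ fixD D X1, h • c = c) : h ∈ X1 := by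
  have haL : a ∈ fixD D X1 := ⟨ha, fun y hy => A.Xst a y (by rw [hX1] at hy; exact hy.1.1)⟩
  have hbL : b ∈ fixD D X1 := ⟨hb, fun y hy => A.Xst b y (by rw [hX1] at hy; exact hy.1.2)⟩
  obtain ⟨x, hx, hxb, y, hy, hxy⟩ := A.dec2 hab (hH.le hh) (hf a haL) (hf b hbL)
  have hyH := hH.hB a ha b hb hab hy
  have hxH : x ∈ H := by
    have h3 : x = h * y⁻¹ := by rw [hxy]; group
    rw [h3]; exact H.mul_mem hh (H.inv_mem hyH)
  have hx1 : x ∈ X1 := by rw [hX1]; exact ⟨⟨hx, hxb⟩, hxH⟩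
  have hy1 : y = 1 := by
    by_contra hy1
    have h1 : fixD D X1 ⊆ {a, b} := by
      intro c hc
      have h2 : y • c = c := by
        have h3 : y = x⁻¹ * h := by rw [hxy]; group
        rw [h3, mul_smul, hf c hc, inv_smul_eq_iff]
        exact (hc.2 x hx1).symm
      exact A.Bfix' hab hy hy1 h2
    have h2 := Set.ncard_le_ncard h1 (Set.toFinite _)
    have h3 : ({a, b} : Set Ω).ncard ≤ 2 := Set.ncard_insert_le a {b} |>.trans (by rw [Set.ncard_singleton])
    have := A.q4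
    omega
  rw [hxy, hy1, mul_one]; exact hx1

theorem exists_ne_mem (A : Amb q r S X B G0) {L : Set Ω} (hc : L.ncard = q + 1) (c : Ω) : ∃ d ∈ L, d ≠ c := by
  by_contra hcon
  push Not at hcon
  have h1 : L ⊆ {c} := fun x hx => hcon x hx
  have h2 := Set.ncard_le_ncard h1 (Set.toFinite _)
  rw [Set.ncard_singleton] at h2
  have := A.q4
  omega

theorem step1 (A : Amb q r S X B G0) (hH : Good S X B G0 H D)
    {a b : Ω} (ha : a ∈ D) (hb : b ∈ D) (hab : a ≠ b) {X1 : Subgroup G} (hX1 : X1 = X a ⊓ X b ⊓ H)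
    (hc : (fixD D X1).ncard = q + 1)
    (hst : ∀ c ∈ fixD D X1, ∀ x ∈ X c, x ∈ H → x ∈ normalizer (X1 : Set G) → x ∈ X1)
    {s : ℕ} (hs : s.Prime) (hsX : s ∣ Nat.card (X a)) {c : Ω} (hcL : c ∈ fixD D X1) {y : G} (hy : y ∈ H)
    (hyn : y ∈ normalizer (X1 : Set G)) (hyc : y • c = c) (hys : ∃ k, orderOf y = s ^ k) : y ∈ X1 := by
  classical
  have hX1a : X1 ≤ X a := by rw [hX1]; exact inf_le_left.trans inf_le_left
  have hX1b : X1 ≤ X b := by rw [hX1]; exact inf_le_left.trans inf_le_right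
  have hX1H : X1 ≤ H := by rw [hX1]; exact inf_le_right
  have hg := good_local A hH ha hb hab X1 hX1a hX1b
  obtain ⟨d, hdL, hdc⟩ := exists_ne_mem A hc c
  have hcard := card_stab A hg hcL hdL hdc.symm
  set K : Subgroup G := (H ⊓ normalizer (X1 : Set G)) ⊓ stabilizer G c with hK
  have hX1c : X c ⊓ (H ⊓ normalizer (X1 : Set G)) = X1 := by
    apply le_antisymm
    · rintro x ⟨h1, h2, h3⟩
      exact hst c hcL x h1 h2 h3
    · intro x hx
      exact ⟨A.XX a c x (hX1a hx) (hcL.2 x hx), hX1H hx, le_normalizer hx⟩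
  rw [hX1c] at hcard
  have hX1K : X1 ≤ K := fun x hx => ⟨⟨hX1H hx, le_normalizer hx⟩, hcL.2 x hx⟩
  have hn : (X1.subgroupOf K).Normal := by
    constructor
    intro x hx g
    exact (mem_normalizer_iff.1 g.2.1.2 x).1 hx
  have hidx : (X1.subgroupOf K).index = q * r := by
    have h1 := (X1.subgroupOf K).card_mul_index
    rw [Nat.card_congr (subgroupOfEquivOfLe hX1K).toEquiv, hcard] at h1
    apply Nat.eq_of_mul_eq_mul_left (Nat.card_pos (α := X1))
    rw [h1]; ring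
  have hyK : y ∈ K := ⟨⟨hy, hyn⟩, hyc⟩
  have h1 : y ^ (q * r) ∈ X1 := by
    have := Subgroup.pow_index_mem (X1.subgroupOf K) ⟨y, hyK⟩
    rw [hidx] at this
    exact this
  obtain ⟨k, hk⟩ := hys
  have hcop : Nat.Coprime (orderOf y) (q * r) := by
    rw [hk]; exact Nat.Coprime.pow_left k (A.s_coprime hs hsX)
  obtain ⟨m, hm⟩ := exists_pow_eq_self_of_coprime (n := q * r) (x := y) hcop.symm
  rw [← hm]
  exact X1.pow_mem h1 m

/-- an involution acting on a set with an odd number of elements has a fixed point -/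
theorem exists_fixed {L : Set Ω} (hodd : Odd L.ncard) {u : G} (hu : u * u = 1) (hL : ∀ c ∈ L, u • c ∈ L) :
    ∃ c ∈ L, u • c = c := by
  classical
  have hfin : Fintype L := Fintype.ofFinite L
  let f : Function.End L := fun c => ⟨u • (c : Ω), hL c c.2⟩
  have hf : f ^ 2 ^ 1 = 1 := by
    rw [pow_one]
    funext c
    apply Subtype.ext
    show u • u • (c : Ω) = c
    rw [smul_smul, hu, one_smul]
  have h1 := Equiv.Perm.card_fixedPoints_modEq (p := 2) (n := 1) hf
  have h2 : Fintype.card L = L.ncard := by rw [← Nat.card_eq_fintype_card]; rfl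
  rw [h2] at h1
  have h3 : Fintype.card (Function.fixedPoints f) ≠ 0 := by
    intro h4
    rw [h4] at h1
    have h5 : L.ncard % 2 = 0 := h1
    rw [Nat.odd_iff] at hodd
    omega
  obtain ⟨c, hc⟩ : Nonempty (Function.fixedPoints f) := by
    rw [← Fintype.card_pos_iff]; omega
  exact ⟨c, c.2, congrArg Subtype.val hc⟩

/-- the group `B c d` is transitive on the remaining points of a `(q + 1)`-point set -/
theorem trans_B (A : Amb q r S X B G0) {L : Set Ω} (hc : L.ncard = q + 1) {c d : Ω} (hcL : c ∈ L) (hdL : d ∈ L)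
    (hcd : c ≠ d) (hBL : ∀ y ∈ B c d, ∀ e ∈ L, y • e ∈ L) {e f : Ω} (he : e ∈ L) (hf : f ∈ L) (hec : e ≠ c)
    (hed : e ≠ d) (hfc : f ≠ c) (hfd : f ≠ d) : ∃ y ∈ B c d, y • e = f := by
  classical
  have h1 : orbit (B c d) e ⊆ L \ {c, d} := by
    rintro _ ⟨y, rfl⟩
    refine ⟨hBL y y.2 e he, ?_⟩
    rintro (h | h)
    · have h2 : (y : G) • e = (y : G) • c := by rw [(A.Bst c d hcd y y.2).1]; exact h
      exact hec (MulAction.injective (y : G) h2)
    · have h2 : (y : G) • e = (y : G) • d := by rw [(A.Bst c d hcd y y.2).2]; exact h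
      exact hed (MulAction.injective (y : G) h2)
  have h2 : stabilizer (B c d) e = ⊥ := by
    rw [eq_bot_iff]
    intro y hy
    rw [mem_bot]
    by_contra hy1
    rcases A.Bfix' hcd y.2 (fun h => hy1 (Subtype.ext h)) hy with h | h
    · exact hec h
    · exact hed h
  have h3 : (orbit (B c d) e).ncard = r := by
    rw [← index_stabilizer, h2, Subgroup.index_bot, A.Bc c d hcd]
  have h4 : (L \ {c, d}).ncard = r := by
    have h5 : ({c, d} : Set Ω) ⊆ L := by
      rintro x (rfl | rfl)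
      · exact hcL
      · exact hdL
    rw [Set.ncard_sdiff h5, hc, Set.ncard_pair hcd, A.qr]
    omega
  have h5 : orbit (B c d) e = L \ {c, d} := Set.eq_of_subset_of_ncard_le h1 (by rw [h3, h4])
  have h6 : f ∈ orbit (B c d) e := by
    rw [h5]
    refine ⟨hf, ?_⟩
    rintro (h | h)
    · exact hfc h
    · exact hfd h
  obtain ⟨y, hy⟩ := h6
  exact ⟨y, y.2, hy⟩

theorem step2 (A : Amb q r S X B G0) (hH : Good S X B G0 H D)
    {a b : Ω} (ha : a ∈ D) (hb : b ∈ D) (hab : a ≠ b) {X1 : Subgroup G} (hX1 : X1 = X a ⊓ X b ⊓ H)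
    (hc : (fixD D X1).ncard = q + 1)
    (hst : ∀ c ∈ fixD D X1, ∀ x ∈ X c, x ∈ H → x ∈ normalizer (X1 : Set G) → x ∈ X1)
    {s : ℕ} (hs : s.Prime) (hsX : s ∣ Nat.card (X a)) {x : G} (hxH : x ∈ H)
    (hxn : x ∈ normalizer (X1 : Set G)) (hxs : ∃ k, orderOf x = s ^ k) : x ∈ X1 := by
  classical
  by_contra hx1
  have hfs : Fact s.Prime := ⟨hs⟩
  have hX1a : X1 ≤ X a := by rw [hX1]; exact inf_le_left.trans inf_le_left
  have hX1b : X1 ≤ X b := by rw [hX1]; exact inf_le_left.trans inf_le_right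
  have hX1H : X1 ≤ H := by rw [hX1]; exact inf_le_right
  have hX1L : ∀ c ∈ fixD D X1, X1 ≤ X c := fun c hcL z hz => A.XX a c z (hX1a hz) (hcL.2 z hz)
  have hg := good_local A hH ha hb hab X1 hX1a hX1b
  have haL : a ∈ fixD D X1 := ⟨ha, fun y hy => A.Xst a y (hX1a hy)⟩
  have hxH' : x ∈ H ⊓ normalizer (X1 : Set G) := ⟨hxH, hxn⟩
  -- x² is not in X1
  have hx2 : x * x ∉ X1 := by
    intro h
    apply hx1
    obtain ⟨k, hk⟩ := hxs
    have hcop : Nat.Coprime (orderOf x) 2 := by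
      rw [hk]
      apply Nat.Coprime.pow_left
      rw [Nat.coprime_primes hs Nat.prime_two]
      exact A.s_ne_two hs hsX
    obtain ⟨m, hm⟩ := exists_pow_eq_self_of_coprime (n := 2) (x := x) hcop.symm
    rw [← hm, pow_two]
    exact X1.pow_mem h m
  have hx2s : ∃ k, orderOf (x * x) = s ^ k := by
    obtain ⟨k, hk⟩ := hxs
    have h1 : orderOf (x * x) ∣ s ^ k := by rw [← pow_two, ← hk]; exact orderOf_pow_dvd 2
    obtain ⟨j, -, hj⟩ := (Nat.dvd_prime_pow hs).1 h1
    exact ⟨j, hj⟩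
  have hnofix : ∀ c ∈ fixD D X1, x • c ≠ c := fun c hcL h =>
    hx1 (step1 A hH ha hb hab hX1 hc hst hs hsX hcL hxH hxn h hxs)
  have hnofix2 : ∀ c ∈ fixD D X1, (x * x) • c ≠ c := fun c hcL h =>
    hx2 (step1 A hH ha hb hab hX1 hc hst hs hsX hcL (H.mul_mem hxH hxH) (mul_mem hxn hxn) h hx2s)
  set e := x • a with he
  set d := x • e with hd
  have heL : e ∈ fixD D X1 := hg.inv x hxH' a haL
  have hdL : d ∈ fixD D X1 := hg.inv x hxH' e heL
  have hae : a ≠ e := (hnofix a haL).symm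
  have hed : e ≠ d := (hnofix e heL).symm
  have had : a ≠ d := by
    intro h
    apply hnofix2 a haL
    rw [mul_smul, ← he, ← hd, ← h]
  -- an involution swapping a and d, fixing e
  obtain ⟨u0, hu0, hu0u, hu0a, -, hu0c⟩ := hg.hu a haL d hdL had
  have hu0d : u0 • d = a := by rw [← hu0a, smul_smul, hu0u, one_smul]
  have hodd : Odd (fixD D X1).ncard := by
    rw [hc]
    have h2 := A.rp.odd_of_ne_two A.r2
    rw [A.qr]
    exact (h2.add_one).add_one
  obtain ⟨c0, hc0L, hc0⟩ := exists_fixed hodd hu0u (fun c hcL => hg.inv u0 hu0 c hcL)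
  have hc0a : c0 ≠ a := by rintro rfl; exact had (hc0.symm.trans hu0a)
  have hc0d : c0 ≠ d := by rintro rfl; exact had (hu0d.symm.trans hc0)
  obtain ⟨y, hy, hye⟩ := trans_B A hc haL hdL had (fun y hy f hf => hg.inv y (hg.hB a haL d hdL had hy) f hf)
    hc0L heL hc0a hc0d hae.symm hed
  have hyH := hg.hB a haL d hdL had hy
  set u := y * u0 * y⁻¹ with hu
  have huH : u ∈ H ⊓ normalizer (X1 : Set G) := mul_mem (mul_mem hyH hu0) (inv_mem hyH)
  have huu : u * u = 1 := by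
    rw [hu]
    calc y * u0 * y⁻¹ * (y * u0 * y⁻¹) = y * (u0 * u0) * y⁻¹ := by group
      _ = 1 := by rw [hu0u]; group
  have hya : y⁻¹ • a = a := by rw [inv_smul_eq_iff]; exact ((A.Bst a d had y hy).1).symm
  have hyd : y⁻¹ • d = d := by rw [inv_smul_eq_iff]; exact ((A.Bst a d had y hy).2).symm
  have hue : u • e = e := by
    rw [hu, mul_smul, mul_smul, ← hye, inv_smul_smul, hc0]
  have hua : u • a = d := by
    rw [hu, mul_smul, mul_smul, hya, hu0a, (A.Bst a d had y hy).2]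
  have hud : u • d = a := by
    rw [hu, mul_smul, mul_smul, hyd, hu0d, (A.Bst a d had y hy).1]
  -- u commutes with X1
  have huX : ∀ z ∈ X1, u * z = z * u := by
    intro z hz
    have h1 := hu0c z (hX1L a haL hz) (hX1L d hdL hz)
    have h2 := A.BX a d had y hy z (hX1L a haL hz) (hX1L d hdL hz)
    have h3 : y⁻¹ * z = z * y⁻¹ := by
      calc y⁻¹ * z = y⁻¹ * (z * y) * y⁻¹ := by group
        _ = y⁻¹ * (y * z) * y⁻¹ := by rw [h2]
        _ = z * y⁻¹ := by group
    calc u * z = y * u0 * (y⁻¹ * z) := by rw [hu]; group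
      _ = y * (u0 * z) * y⁻¹ := by rw [h3]; group
      _ = (y * z) * u0 * y⁻¹ := by rw [h1]; group
      _ = z * u := by rw [h2, hu]; group
  -- an involution swapping a and e
  obtain ⟨u1, hu1, hu1u, hu1a, hu1B, hu1c⟩ := hg.hu a haL e heL hae
  have hu1e : u1 • e = a := by rw [← hu1a, smul_smul, hu1u, one_smul]
  set g := x⁻¹ * u with hgd
  have hxd : x⁻¹ • d = e := by rw [hd, inv_smul_smul]
  have hxe : x⁻¹ • e = a := by rw [he, inv_smul_smul]
  have hga : g • a = e := by rw [hgd, mul_smul, hua, hxd]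
  have hge : g • e = a := by rw [hgd, mul_smul, hue, hxe]
  have hgH : g ∈ H ⊓ normalizer (X1 : Set G) := mul_mem (inv_mem hxH') huH
  have hkH : g * u1 ∈ H ⊓ normalizer (X1 : Set G) := mul_mem hgH hu1
  obtain ⟨x1, hx1a, hx1e, y1, hy1, hxy⟩ := A.dec2 hae (hg.le hkH)
    (by rw [mul_smul, hu1a, hge]) (by rw [mul_smul, hu1e, hga])
  have hy1H := hg.hB a haL e heL hae hy1
  have hx1H : x1 ∈ H ⊓ normalizer (X1 : Set G) := by
    have h3 : x1 = g * u1 * y1⁻¹ := by rw [hxy]; group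
    rw [h3]; exact mul_mem hkH (inv_mem hy1H)
  have hx1X : x1 ∈ X1 := hst a haL x1 hx1a hx1H.1 hx1H.2
  have hgg : g * g ∈ X1 := by
    have h1 : g = x1 * y1 * u1 := by
      rw [← hxy, mul_assoc, hu1u, mul_one]
    have h2 : u1 * x1 = x1 * u1 := hu1c x1 hx1a hx1e
    have h3 : u1 * y1 * u1 = y1⁻¹ := hu1B y1 hy1
    have h4 : y1 * x1 = x1 * y1 := A.BX a e hae y1 hy1 x1 hx1a hx1e
    have h5 : g * g = x1 * x1 := by
      calc g * g = x1 * y1 * (u1 * x1) * y1 * u1 := by rw [h1]; simp only [mul_assoc]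
        _ = x1 * (y1 * x1) * (u1 * y1 * u1) := by rw [h2]; simp only [mul_assoc]
        _ = x1 * x1 := by rw [h3, h4]; group
    rw [h5]; exact X1.mul_mem hx1X hx1X
  -- u inverts x modulo X1
  obtain ⟨z, hz, hzz⟩ : ∃ z ∈ X1, u * x * u = z * x⁻¹ := by
    have huinv : u⁻¹ = u := inv_eq_of_mul_eq_one_left huu
    refine ⟨(g * g)⁻¹, X1.inv_mem hgg, ?_⟩
    rw [hgd]
    have : (x⁻¹ * u * (x⁻¹ * u))⁻¹ * x⁻¹ = u⁻¹ * x * u⁻¹ := by group
    rw [this, huinv]
  -- the group T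
  have hzn : zpowers x ≤ normalizer (X1 : Set G) := by rw [zpowers_le]; exact hxn
  set T : Subgroup G := zpowers x ⊔ X1 with hT
  have hTset : (T : Set G) = (zpowers x : Set G) * (X1 : Set G) :=
    Subgroup.coe_mul_of_left_le_normalizer_right _ _ hzn
  have hTodd : Odd (Nat.card T) := by
    have h1 := ConjSylow.card_sup_mul_card_inf hzn
    have h2 : Nat.card T ∣ Nat.card (zpowers x) * Nat.card X1 := Dvd.intro _ h1
    have h3 : Odd (Nat.card (zpowers x) * Nat.card X1) := by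
      apply Odd.mul
      · obtain ⟨k, hk⟩ := hxs
        rw [Nat.card_zpowers, hk]
        exact (hs.odd_of_ne_two (A.s_ne_two hs hsX)).pow
      · exact (A.Xodd a).of_dvd_nat (card_dvd_of_le hX1a)
    exact h3.of_dvd_nat h2
  have hxT : x ∈ T := mem_sup_left (mem_zpowers x)
  have hX1T : X1 ≤ T := le_sup_right
  have huT : ∀ t ∈ T, u * t * u ∈ T := by
    have huinv : u⁻¹ = u := inv_eq_of_mul_eq_one_left huu
    have h1 : T ≤ T.comap (MulAut.conj u).toMonoidHom := by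
      rw [hT, sup_le_iff, zpowers_le]
      constructor
      · show u * x * u⁻¹ ∈ T
        rw [huinv, hzz]
        exact T.mul_mem (hX1T hz) (T.inv_mem hxT)
      · intro w hw
        show u * w * u⁻¹ ∈ T
        rw [huX w hw, mul_inv_cancel_right]; exact hX1T hw
    intro t ht
    have := h1 ht
    have h2 : u * t * u⁻¹ ∈ T := this
    rwa [huinv] at h2
  obtain ⟨h, hh, hcomm⟩ := exists_conj_comm huu T hTodd huT s (fun y hy => A.ty s hs a hsX u y huu hy) hxT hxs
  -- h x h⁻¹ = w x with w in X1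
  obtain ⟨w, hw, hwx⟩ : ∃ w ∈ X1, h * x * h⁻¹ = w * x := by
    have h1 : h ∈ (T : Set G) := hh
    rw [hTset] at h1
    obtain ⟨v, hv, w, hw, rfl⟩ := h1
    obtain ⟨k, rfl⟩ := mem_zpowers_iff.1 hv
    refine ⟨x ^ k * (w * (x * w⁻¹ * x⁻¹)) * (x ^ k)⁻¹, ?_, ?_⟩
    · have hkn : x ^ k ∈ normalizer (X1 : Set G) := zpow_mem hxn k
      refine (mem_normalizer_iff.1 hkn _).1 (X1.mul_mem hw ?_)
      exact (mem_normalizer_iff.1 hxn _).1 (X1.inv_mem hw)
    · show x ^ k * w * x * (x ^ k * w)⁻¹ = _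
      have h2 : x * (x ^ k)⁻¹ = (x ^ k)⁻¹ * x := ((Commute.refl x).zpow_right k).inv_right.eq
      rw [mul_inv_rev]
      calc x ^ k * w * x * (w⁻¹ * (x ^ k)⁻¹) = x ^ k * (w * (x * w⁻¹ * x⁻¹)) * (x * (x ^ k)⁻¹) := by group
        _ = _ := by rw [h2]; group
  rw [hwx] at hcomm
  have h1 : z * x⁻¹ = x := by
    have h2 : u * (w * x) * u = w * x := by rw [hcomm, mul_assoc, huu, mul_one]
    have h3 : u * (w * x) * u = w * (u * x * u) := by
      rw [← mul_assoc u w x, huX w hw]; simp only [mul_assoc]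
    rw [h3, hzz] at h2
    exact mul_left_cancel h2
  apply hx2
  have h4 : x * x = z := by
    calc x * x = (z * x⁻¹) * x := by rw [h1]
      _ = z := by group
  rw [h4]; exact hz

end Cfsg.Agent.Lib.H1Zam
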