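import Mathlib
import Cfsg.Agent.Lib.CharBasic2
import Cfsg.Agent.Lib.StructConst
import Cfsg.Agent.Lib.CharCentral

/-!
# Abelian Sylow 3-subgroups of exponent 3 which are TI (helper25)

The triangle group trick for elements `x, y, x y` of order 3, and counting.
-/

set_option autoImplicit false
set_option linter.all false

namespace Cfsg.Agent.Lib.H25Nine

open Cfsg Cfsg.Agent.Lib.CharBasic Cfsg.Agent.Lib.StructConst
open scoped ComplexConjugate Pointwise

universe u

variable {G : Type u} [Group G]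

/-- Elements `x, y` with `x³ = y³ = (xy)³ = 1`: either they are conjugate or some element of
order 3 commutes with `x⁻¹ y` and with its own conjugate by `x`. -/
theorem conj_or_commute [Finite G] {x y : G} (hx : x ^ 3 = 1) (hy : y ^ 3 = 1) (hxy : (x * y) ^ 3 = 1) :
    IsConj x y ∨ ∃ w : G, orderOf w = 3 ∧ Commute w (x⁻¹ * y) ∧ Commute w (x * w * x⁻¹) := by
  have hx' : x * x * x = 1 := by rw [← pow_three']; exact hx
  have hy' : y * y * y = 1 := by rw [← pow_three']; exact hy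
  have hxy' : x * y * (x * y) * (x * y) = 1 := by rw [← pow_three']; exact hxy
  set v := x⁻¹ * y with hv
  -- `σ v = x⁻¹ v x` commutes with `v`
  have hxi : x⁻¹ = x * x := by
    rw [inv_eq_iff_mul_eq_one]; rw [← hx']; group
  have hyi : y⁻¹ = y * y := by
    rw [inv_eq_iff_mul_eq_one]; rw [← hy']; group
  -- conj by x
  have e1 : x * v * x⁻¹ = y * x⁻¹ := by rw [hv]; group
  have hc1 : Commute v (x * v * x⁻¹) := by
    rw [e1]
    show x⁻¹ * y * (y * x⁻¹) = y * x⁻¹ * (x⁻¹ * y)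
    -- x⁻¹ y y x⁻¹ = x⁻¹ y⁻¹ x⁻¹ = (x y x)⁻¹ ; y x⁻¹ x⁻¹ y = y x y
    have a1 : x⁻¹ * y * (y * x⁻¹) = (x * y * x)⁻¹ := by
      rw [mul_inv_rev, mul_inv_rev, hyi]; group
    have a2 : y * x⁻¹ * (x⁻¹ * y) = y * x * y := by
      have : x⁻¹ * x⁻¹ = x := by rw [← mul_inv_rev, ← hxi, inv_inv]
      calc y * x⁻¹ * (x⁻¹ * y) = y * (x⁻¹ * x⁻¹) * y := by group
        _ = _ := by rw [this]
    rw [a1, a2, inv_eq_iff_mul_eq_one]
    rw [← hxy']; group
  -- conjugation automorphism
  have hc2 : Commute (x⁻¹ * v * x) v := by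
    have := hc1
    have h2 : Commute (x⁻¹ * v * x) (x⁻¹ * (x * v * x⁻¹) * x) := by
      show x⁻¹ * v * x * (x⁻¹ * (x * v * x⁻¹) * x) = x⁻¹ * (x * v * x⁻¹) * x * (x⁻¹ * v * x)
      calc x⁻¹ * v * x * (x⁻¹ * (x * v * x⁻¹) * x) = x⁻¹ * (v * (x * v * x⁻¹)) * x := by group
        _ = x⁻¹ * ((x * v * x⁻¹) * v) * x := by rw [hc1.eq]
        _ = _ := by group
    have h3 : x⁻¹ * (x * v * x⁻¹) * x = v := by group
    rwa [h3] at h2
  by_cases h3 : 3 ∣ orderOf v
  · right
    obtain ⟨k, hk⟩ := h3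
    have hpos : 0 < orderOf v := orderOf_pos v
    have hk0 : k ≠ 0 := by rintro rfl; omega
    refine ⟨v ^ k, ?_, ?_, ?_⟩
    · rw [orderOf_pow' v hk0, hk, Nat.gcd_eq_right (Dvd.intro_left 3 rfl)]
      exact Nat.mul_div_cancel _ (Nat.pos_of_ne_zero hk0)
    · exact (Commute.refl v).pow_left k
    · have : x * v ^ k * x⁻¹ = (x * v * x⁻¹) ^ k := by rw [conj_pow]
      rw [this]
      exact (hc1.pow_pow k k)
  · left
    -- Hilbert 90
    have hcop : Nat.Coprime (orderOf v) 3 := by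
      rw [Nat.coprime_comm]
      exact (Nat.prime_three.coprime_iff_not_dvd).mpr h3
    -- n with v^(3n) = v
    obtain ⟨n, hn⟩ : ∃ n : ℕ, v ^ (3 * n) = v := by
      obtain ⟨m, hm⟩ := exists_pow_eq_self_of_coprime (n := 3) (x := v) (by rw [Nat.coprime_comm]; exact hcop)
      exact ⟨m, by rw [pow_mul]; exact hm⟩
    set s := x⁻¹ * v * x with hs
    -- norm relation: y = x v, y^3 = 1 : σ²(v) σ(v) v = 1
    have hnorm : (x⁻¹ * s * x) * s * v = 1 := by
      have hyv : y = x * v := by rw [hv]; group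
      calc (x⁻¹ * s * x) * s * v = x⁻¹ * x⁻¹ * x⁻¹ * ((x * v) * (x * v) * (x * v)) := by
            rw [hs]; group
        _ = x⁻¹ * x⁻¹ * x⁻¹ * (y * y * y) := by rw [← hyv]
        _ = (x * x * x)⁻¹ := by rw [hy']; group
        _ = 1 := by rw [hx', inv_one]
    have hcs : Commute s v := hc2
    set r := x⁻¹ * s * x with hr
    have hcr : Commute r s := by
      show x⁻¹ * s * x * s = s * (x⁻¹ * s * x)
      calc x⁻¹ * s * x * s = x⁻¹ * (s * v) * x := by rw [hs]; group
        _ = x⁻¹ * (v * s) * x := by rw [hcs.eq]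
        _ = _ := by rw [hs]; group
    -- w = (v² s)^n ; σ w = (s² r)^n ; w (σ w)⁻¹ = v
    have hrv : r = v⁻¹ * s⁻¹ := by
      have : r * (s * v) = 1 := by rw [← mul_assoc]; exact hnorm
      rw [mul_eq_one_iff_eq_inv] at this
      rw [this, mul_inv_rev]
    set w := (v * v * s) ^ n with hw
    have hσw : x⁻¹ * w * x = (s * s * r) ^ n := by
      have : x⁻¹ * w * x = (x⁻¹ * (v * v * s) * x) ^ n := by
        have := conj_pow (a := x⁻¹) (b := v * v * s) (i := n)
        simp only [inv_inv] at this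
        rw [hw, this]
      rw [this]
      congr 1
      rw [hr, hs]; group
    have hsr : s * s * r = v⁻¹ * s := by
      rw [hrv]
      have : s * s * (v⁻¹ * s⁻¹) = v⁻¹ * (s * s * s⁻¹) := by
        have h4 : Commute (s * s) v⁻¹ := ((hcs.mul_left hcs)).inv_right
        calc s * s * (v⁻¹ * s⁻¹) = (s * s * v⁻¹) * s⁻¹ := by group
          _ = (v⁻¹ * (s * s)) * s⁻¹ := by rw [h4.eq]
          _ = _ := by group
      rw [this]; group
    have hkey : w * (x⁻¹ * w * x)⁻¹ = v := by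
      rw [hσw, hsr, hw]
      have h4 : Commute (v * v * s) (v⁻¹ * s) := by
        have c1 : Commute v (v⁻¹ * s) := ((Commute.refl v).inv_right).mul_right hcs.symm
        have c2 : Commute s (v⁻¹ * s) := (hcs.inv_right).mul_right (Commute.refl s)
        exact (c1.mul_left c1).mul_left c2
      rw [← inv_pow, ← (h4.inv_right).mul_pow]
      have h5 : v * v * s * (v⁻¹ * s)⁻¹ = v ^ 3 := by
        rw [mul_inv_rev, inv_inv, pow_three']; group
      rw [h5, ← pow_mul]
      exact hn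
    rw [isConj_iff]
    refine ⟨w⁻¹ , ?_⟩
    have hyv : y = x * v := by rw [hv]; group
    rw [hyv]
    have := hkey
    -- w⁻¹ x w = x (x⁻¹ w⁻¹ x) w and v = w (x⁻¹ w x)⁻¹ ; commute
    have h6 : x * v = w⁻¹ * x * w := by
      have h7 : Commute w (x⁻¹ * w * x)⁻¹ := by
        rw [hσw, hsr, hw]
        have h4 : Commute (v * v * s) (v⁻¹ * s) := by
          have c1 : Commute v (v⁻¹ * s) := ((Commute.refl v).inv_right).mul_right hcs.symm
          have c2 : Commute s (v⁻¹ * s) := (hcs.inv_right).mul_right (Commute.refl s)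
          exact (c1.mul_left c1).mul_left c2
        exact ((h4.pow_pow n n)).inv_right
      rw [h7.eq] at this
      rw [← this]
      group
    rw [h6]; group

/-- an abelian Sylow 3-subgroup of exponent 3 with centralizers of its elements in the normalizer -/
structure TIS (S : Subgroup G) : Prop where
  sylow : ∃ P : Sylow 3 G, (P : Subgroup G) = S
  exp : ∀ s ∈ S, s ^ 3 = 1
  comm : ∀ s ∈ S, ∀ t ∈ S, s * t = t * s
  cent : ∀ s ∈ S, s ≠ 1 → Subgroup.centralizer ({s} : Set G) ≤ Subgroup.normalizer (S : Set G)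

theorem mem_norm_of [Finite G] {S : Subgroup G} {g : G} (key : ∀ t ∈ S, g * t * g⁻¹ ∈ S) :
    g ∈ Subgroup.normalizer (S : Set G) := by
  rw [Subgroup.mem_normalizer_iff_map_conj_eq]
  apply Subgroup.eq_of_le_of_card_ge
  · rintro _ ⟨t, ht, rfl⟩
    exact key t ht
  · rw [Nat.card_congr (S.equivMapOfInjective _ (MulAut.conj g).injective).toEquiv.symm]

namespace TIS

variable {S : Subgroup G} [Finite G]

theorem mem_of_pow (h : TIS S) {g : G} (hg : g ∈ Subgroup.normalizer (S : Set G)) (hg3 : g ^ 3 = 1) :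
    g ∈ S := by
  obtain ⟨P, hP⟩ := h.sylow
  have hf : Fact (Nat.Prime 3) := ⟨Nat.prime_three⟩
  subst hP
  have hz : IsPGroup 3 (Subgroup.zpowers g) := by
    rw [IsPGroup.iff_card]
    have h1 := orderOf_dvd_of_pow_eq_one hg3
    rw [Nat.card_zpowers]
    rcases (Nat.dvd_prime Nat.prime_three).mp h1 with h2 | h2
    · exact ⟨0, by rw [h2]; rfl⟩
    · exact ⟨1, by rw [h2]; rfl⟩
  have hle : Subgroup.zpowers g ≤ Subgroup.normalizer ((P : Subgroup G) : Set G) := by
    rw [Subgroup.zpowers_le]; exact hg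
  have hsup : IsPGroup 3 (((P : Subgroup G) ⊔ Subgroup.zpowers g : Subgroup G)) :=
    IsPGroup.to_sup_of_normal_left' P.isPGroup' hz hle
  have := P.is_maximal' hsup le_sup_left
  rw [← this]
  exact (le_sup_right : Subgroup.zpowers g ≤ _) (Subgroup.mem_zpowers g)

theorem ti (h : TIS S) {s g : G} (hs : s ∈ S) (hs1 : s ≠ 1) (hg : g * s * g⁻¹ ∈ S) :
    g ∈ Subgroup.normalizer (S : Set G) := by
  have key : ∀ t ∈ S, g * t * g⁻¹ ∈ S := by
    intro t ht
    apply h.mem_of_pow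
    · apply h.cent _ hg
      · intro hc
        apply hs1
        have : s = g⁻¹ * (g * s * g⁻¹) * g := by group
        rw [this, hc]; group
      · rw [Subgroup.mem_centralizer_singleton_iff]
        have := h.comm s hs t ht
        calc g * t * g⁻¹ * (g * s * g⁻¹) = g * (t * s) * g⁻¹ := by group
          _ = g * (s * t) * g⁻¹ := by rw [this]
          _ = _ := by group
    · rw [conj_pow, h.exp t ht]; group
  exact mem_norm_of key

theorem exists_conj_mem (h : TIS S) {w : G} (hw : orderOf w = 3) : ∃ g : G, g * w * g⁻¹ ∈ S := by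
  obtain ⟨P, rfl⟩ := h.sylow
  have hf : Fact (Nat.Prime 3) := ⟨Nat.prime_three⟩
  have hz : IsPGroup 3 (Subgroup.zpowers w) := by
    rw [IsPGroup.iff_card, Nat.card_zpowers]
    exact ⟨1, by rw [hw]; rfl⟩
  obtain ⟨Q, hQ⟩ := hz.exists_le_sylow
  obtain ⟨g, hg⟩ := MulAction.exists_smul_eq G Q P
  refine ⟨g, ?_⟩
  rw [← hg]
  show _ ∈ (MulAut.conj g • (Q : Subgroup G))
  rw [Subgroup.mem_pointwise_smul_iff_inv_smul_mem]
  show (MulAut.conj g)⁻¹ (g * w * g⁻¹) ∈ (Q : Subgroup G)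
  rw [← map_inv, MulAut.conj_apply]
  have : g⁻¹ * (g * w * g⁻¹) * (g⁻¹)⁻¹ = w := by group
  rw [this]
  exact hQ (Subgroup.mem_zpowers w)

/-- The (3,3,3)-trick: nonconjugate `x, y` of order 3 with product in `S#` lie in `S`. -/
theorem triple (h : TIS S) {x y z : G} (hx : x ^ 3 = 1) (hy : y ^ 3 = 1) (hxy : x * y = z)
    (hz : z ∈ S) (hz1 : z ≠ 1) (hnc : ¬ IsConj x y) : x ∈ S ∧ y ∈ S := by
  have hxy3 : (x * y) ^ 3 = 1 := by rw [hxy]; exact h.exp z hz
  rcases conj_or_commute hx hy hxy3 with hc | ⟨w, hw, hwv, hwx⟩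
  · exact absurd hc hnc
  obtain ⟨g, hg⟩ := h.exists_conj_mem hw
  set w' := g * w * g⁻¹ with hw'
  set x' := g * x * g⁻¹ with hx'
  set y' := g * y * g⁻¹ with hy'
  have hw1 : w ≠ 1 := by rintro rfl; simp at hw
  have hw1' : w' ≠ 1 := by
    intro hc
    apply hw1
    have : w = g⁻¹ * w' * g := by rw [hw']; group
    rw [this, hc]; group
  have hx3' : x' ^ 3 = 1 := by rw [hx', conj_pow, hx]; group
  have hy3' : y' ^ 3 = 1 := by rw [hy', conj_pow, hy]; group
  have hw3 : w ^ 3 = 1 := by rw [← hw]; exact pow_orderOf_eq_one w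
  have hcomm : x' * w' * x'⁻¹ ∈ Subgroup.centralizer ({w'} : Set G) := by
    rw [Subgroup.mem_centralizer_singleton_iff]
    have := hwx.eq
    calc x' * w' * x'⁻¹ * w' = g * ((x * w * x⁻¹) * w) * g⁻¹ := by rw [hx', hw']; group
      _ = g * (w * (x * w * x⁻¹)) * g⁻¹ := by rw [this]
      _ = _ := by rw [hx', hw']; group
  have h1 : x' * w' * x'⁻¹ ∈ S := by
    apply h.mem_of_pow (h.cent w' hg hw1' hcomm)
    rw [conj_pow, hw', conj_pow, hw3]; group
  have hxN : x' ∈ Subgroup.normalizer (S : Set G) := h.ti hg hw1' h1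
  have hxS : x' ∈ S := h.mem_of_pow hxN hx3'
  have hvN : g * (x⁻¹ * y) * g⁻¹ ∈ Subgroup.normalizer (S : Set G) := by
    apply h.cent w' hg hw1'
    rw [Subgroup.mem_centralizer_singleton_iff]
    calc g * (x⁻¹ * y) * g⁻¹ * w' = g * ((x⁻¹ * y) * w) * g⁻¹ := by rw [hw']; group
      _ = g * (w * (x⁻¹ * y)) * g⁻¹ := by rw [hwv.eq]
      _ = _ := by rw [hw']; group
  have hyN : y' ∈ Subgroup.normalizer (S : Set G) := by
    have : y' = x' * (g * (x⁻¹ * y) * g⁻¹) := by rw [hy', hx']; group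
    rw [this]
    exact mul_mem hxN hvN
  have hyS : y' ∈ S := h.mem_of_pow hyN hy3'
  have hzS : g * z * g⁻¹ ∈ S := by
    have : g * z * g⁻¹ = x' * y' := by rw [← hxy, hx', hy']; group
    rw [this]
    exact mul_mem hxS hyS
  have hgN : g⁻¹ ∈ Subgroup.normalizer (S : Set G) := inv_mem (h.ti hz hz1 hzS)
  have e1 := (Subgroup.mem_normalizer_iff.mp hgN x').mp hxS
  have e2 := (Subgroup.mem_normalizer_iff.mp hgN y').mp hyS
  have f1 : g⁻¹ * x' * (g⁻¹)⁻¹ = x := by rw [hx']; group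
  have f2 : g⁻¹ * y' * (g⁻¹)⁻¹ = y := by rw [hy']; group
  rw [f1] at e1
  rw [f2] at e2
  exact ⟨e1, e2⟩

end TIS

open scoped Classical in
theorem sc_formula [Fintype G] (x y z : G) :
    (∑ a : G, ∑ b : G, if a * x * a⁻¹ * (b * y * b⁻¹) = z then (1 : ℂ) else 0) =
      (Nat.card G : ℂ) * ∑ χ : IrrCharacter G,
        (χ : G → ℂ) x * (χ : G → ℂ) y * conj ((χ : G → ℂ) z) / (χ : G → ℂ) 1 := by
  have h := sum_sum_conj (fun g : G => if g = z then (1 : ℂ) else 0) x y⁻¹
  have e1 : ∀ a b : G, a * x * a⁻¹ * (b * y⁻¹ * b⁻¹)⁻¹ = a * x * a⁻¹ * (b * y * b⁻¹) := by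
    intro a b; group
  simp only [e1] at h
  rw [h, Finset.mul_sum, Finset.mul_sum]
  apply Finset.sum_congr rfl
  intro χ _
  have hcard : (Nat.card G : ℂ) ≠ 0 := by exact_mod_cast Nat.card_pos.ne'
  have e2 : classInner (fun g : G => if g = z then (1 : ℂ) else 0) (χ : G → ℂ) =
      (Nat.card G : ℂ)⁻¹ * conj ((χ : G → ℂ) z) := by
    rw [classInner_def]
    simp only [ite_mul, one_mul, zero_mul, Finset.sum_ite_eq', Finset.mem_univ, if_true]
  have e3 : conj ((χ : G → ℂ) y⁻¹) = (χ : G → ℂ) y := by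
    rw [χ.2.inv, Complex.conj_conj]
  rw [e2, e3]
  field_simp

open scoped Classical in
theorem cnt_eq [Fintype G] (x u : G) :
    (∑ a : G, if a * x * a⁻¹ = u then (1 : ℂ) else 0) =
      if IsConj x u then (Nat.card (Subgroup.centralizer ({x} : Set G)) : ℂ) else 0 := by
  by_cases hc : IsConj x u
  · rw [if_pos hc]
    obtain ⟨g, hg⟩ := isConj_iff.mp hc
    rw [Finset.sum_boole]
    congr 1
    rw [Nat.card_eq_fintype_card, Fintype.card_subtype]
    apply Finset.card_bij' (fun a _ => g⁻¹ * a) (fun c _ => g * c)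
    · intro a ha
      simp only [Finset.mem_filter, Finset.mem_univ, true_and] at ha ⊢
      rw [Subgroup.mem_centralizer_singleton_iff]
      have : a * x * a⁻¹ = g * x * g⁻¹ := by rw [ha, hg]
      calc g⁻¹ * a * x = g⁻¹ * (a * x * a⁻¹) * a := by group
        _ = g⁻¹ * (g * x * g⁻¹) * a := by rw [this]
        _ = _ := by group
    · intro c hc
      simp only [Finset.mem_filter, Finset.mem_univ, true_and] at hc ⊢
      rw [Subgroup.mem_centralizer_singleton_iff] at hc
      calc g * c * x * (g * c)⁻¹ = g * (c * x) * c⁻¹ * g⁻¹ := by group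
        _ = g * (x * c) * c⁻¹ * g⁻¹ := by rw [hc]
        _ = g * x * g⁻¹ := by group
        _ = u := hg
    · intro a _; group
    · intro c _; group
  · rw [if_neg hc]
    apply Finset.sum_eq_zero
    intro a _
    rw [if_neg]
    intro h
    exact hc (isConj_iff.mpr ⟨a, h⟩)

open scoped Classical in
/-- the structure constant as a sum over a subgroup which contains all solutions -/
theorem sc_sub [Fintype G] {S : Subgroup G} {x y z : G}
    (hS : ∀ u v : G, IsConj x u → IsConj y v → u * v = z → u ∈ S) :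
    (Nat.card G : ℂ) * ∑ χ : IrrCharacter G,
        (χ : G → ℂ) x * (χ : G → ℂ) y * conj ((χ : G → ℂ) z) / (χ : G → ℂ) 1 =
      (Nat.card (Subgroup.centralizer ({x} : Set G)) : ℂ) *
        (Nat.card (Subgroup.centralizer ({y} : Set G)) : ℂ) *
        (((Finset.univ.filter fun u : S => IsConj x (u : G) ∧ IsConj y ((u : G)⁻¹ * z)).card : ℕ) : ℂ) := by
  rw [← sc_formula]
  have e1 : ∀ a : G, (∑ b : G, if a * x * a⁻¹ * (b * y * b⁻¹) = z then (1 : ℂ) else 0) =
      if IsConj y ((a * x * a⁻¹)⁻¹ * z) then (Nat.card (Subgroup.centralizer ({y} : Set G)) : ℂ) else 0 := by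
    intro a
    rw [← cnt_eq]
    apply Finset.sum_congr rfl
    intro b _
    congr 1
    rw [eq_iff_iff]
    constructor
    · intro h; rw [← h]; group
    · intro h; rw [h]; group
  simp only [e1]
  -- group by u = a x a⁻¹
  set T : Finset G := Finset.univ.filter fun u : G => u ∈ S with hT
  have e2 : (∑ a : G, if IsConj y ((a * x * a⁻¹)⁻¹ * z) then
      (Nat.card (Subgroup.centralizer ({y} : Set G)) : ℂ) else 0) =
      ∑ u : G, (∑ a : G, if a * x * a⁻¹ = u then (1 : ℂ) else 0) *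
        (if IsConj y (u⁻¹ * z) then (Nat.card (Subgroup.centralizer ({y} : Set G)) : ℂ) else 0) := by
    simp only [Finset.sum_mul]
    rw [Finset.sum_comm]
    apply Finset.sum_congr rfl
    intro a _
    simp only [ite_mul, one_mul, zero_mul, Finset.sum_ite_eq, Finset.mem_univ, if_true]
  rw [e2]
  simp only [cnt_eq]
  have e3 : ∀ u : G, (if IsConj x u then (Nat.card (Subgroup.centralizer ({x} : Set G)) : ℂ) else 0) *
      (if IsConj y (u⁻¹ * z) then (Nat.card (Subgroup.centralizer ({y} : Set G)) : ℂ) else 0) =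
      if IsConj x u ∧ IsConj y (u⁻¹ * z) then (Nat.card (Subgroup.centralizer ({x} : Set G)) : ℂ) *
        (Nat.card (Subgroup.centralizer ({y} : Set G)) : ℂ) else 0 := by
    intro u
    by_cases h1 : IsConj x u
    · by_cases h2 : IsConj y (u⁻¹ * z)
      · rw [if_pos h1, if_pos h2, if_pos ⟨h1, h2⟩]
      · rw [if_neg h2, mul_zero, if_neg (fun h : IsConj x u ∧ IsConj y (u⁻¹ * z) => h2 h.2)]
    · rw [if_neg h1, zero_mul, if_neg (fun h : IsConj x u ∧ IsConj y (u⁻¹ * z) => h1 h.1)]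
  simp only [e3]
  rw [← Finset.sum_filter, Finset.sum_const, nsmul_eq_mul]
  rw [mul_comm]
  congr 2
  -- cardinalities
  symm
  apply Finset.card_bij (fun (u : S) _ => (u : G))
  · intro u hu
    simp only [Finset.mem_filter, Finset.mem_univ, true_and] at hu ⊢
    exact hu
  · intro a _ b _ h
    exact Subtype.ext h
  · intro u hu
    simp only [Finset.mem_filter, Finset.mem_univ, true_and] at hu
    have : u ∈ S := hS u (u⁻¹ * z) hu.1 hu.2 (by group)
    exact ⟨⟨u, this⟩, by simpa using hu, rfl⟩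


/-! ### numeric lemmas -/

theorem num4 {ι : Type*} [Fintype ι] (i0 : ι) (u w : ι → ℤ) (d : ι → ℕ) (hd : ∀ i, 0 < d i)
    (hu0 : u i0 = -1) (hw0 : w i0 = -1) (hd0 : d i0 = 1) (hu : ∑ i, u i ^ 2 = 5)
    (hw : ∑ i, w i ^ 2 = 5) (huw : ∑ i, u i * w i = 4) (h9 : ∀ i, (9 : ℤ) ∣ d i - 4 * (u i + w i)) :
    (9 : ℚ) / 40 ≤ ∑ i, (-((u i - 2 * w i) * (w i - 2 * u i) * (u i + w i)) / 2 : ℚ) / d i := by
  classical
  rw [← Finset.add_sum_erase _ _ (Finset.mem_univ i0)] at hu hw huw ⊢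
  rw [hu0] at hu
  rw [hw0] at hw
  rw [hu0, hw0] at huw
  set T := Finset.univ.erase i0 with hT
  have hu' : ∑ i ∈ T, u i ^ 2 = 4 := by linarith
  have hw' : ∑ i ∈ T, w i ^ 2 = 4 := by linarith
  have huw' : ∑ i ∈ T, u i * w i = 3 := by linarith
  -- bounds
  have aux : ∀ (a b : ι → ℤ), ∑ i ∈ T, a i ^ 2 = 4 → ∑ i ∈ T, a i * b i = 3 → ∀ i ∈ T, -1 ≤ a i ∧ a i ≤ 1 := by
    intro a b ha hab i hi
    by_contra hcon
    have h1 : 4 ≤ a i ^ 2 := by
      rcases not_and_or.mp hcon with h | h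
      · nlinarith
      · nlinarith
    rw [← Finset.add_sum_erase _ _ hi] at ha hab
    have h2 : ∑ j ∈ T.erase i, a j ^ 2 = 0 := by
      have := Finset.sum_nonneg (s := T.erase i) (f := fun j => a j ^ 2) (fun j _ => sq_nonneg _)
      linarith
    have h3 : ∀ j ∈ T.erase i, a j = 0 := by
      intro j hj
      have := (Finset.sum_eq_zero_iff_of_nonneg (fun j _ => sq_nonneg (a j))).mp h2 j hj
      exact pow_eq_zero_iff (two_ne_zero) |>.mp this
    have h4 : ∑ j ∈ T.erase i, a j * b j = 0 := Finset.sum_eq_zero (fun j hj => by rw [h3 j hj, zero_mul])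
    rw [h2, add_zero] at ha
    rw [h4, add_zero] at hab
    have h5 : a i = 2 ∨ a i = -2 := by
      have : (a i - 2) * (a i + 2) = 0 := by linear_combination ha
      rcases mul_eq_zero.mp this with h | h
      · left; linarith
      · right; linarith
    rcases h5 with h5 | h5 <;> rw [h5] at hab <;> omega
  have hub := aux u w hu' huw'
  have hwb := aux w u hw' (by rw [← huw']; exact Finset.sum_congr rfl fun i _ => mul_comm _ _)
  have hterm : ∀ i ∈ T, (-(u i * w i : ℚ) / 8 - (u i - w i) ^ 2 / 5) ≤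
      (-((u i - 2 * w i) * (w i - 2 * u i) * (u i + w i)) / 2 : ℚ) / d i := by
    intro i hi
    obtain ⟨u1, u2⟩ := hub i hi
    obtain ⟨w1, w2⟩ := hwb i hi
    have h9i := h9 i
    have hdi := hd i
    have hdq : (0 : ℚ) < d i := by exact_mod_cast hdi
    have huc : u i = -1 ∨ u i = 0 ∨ u i = 1 := by omega
    have hwc : w i = -1 ∨ w i = 0 ∨ w i = 1 := by omega
    rcases huc with h | h | h <;> rcases hwc with h' | h' | h' <;> rw [h, h'] at h9i ⊢ <;>
      push_cast <;> rw [le_div_iff₀ hdq] <;> norm_num at h9i ⊢ <;>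
      first
      | linarith
      | (have h5 : (5 : ℕ) ≤ d i := by omega
         have h5' : (5 : ℚ) ≤ d i := by exact_mod_cast h5
         linarith)
      | (have h8 : (8 : ℕ) ≤ d i := by omega
         have h8' : (8 : ℚ) ≤ d i := by exact_mod_cast h8
         linarith)
  have hsum := Finset.sum_le_sum hterm
  have hval : ∑ i ∈ T, (-(u i * w i : ℚ) / 8 - (u i - w i) ^ 2 / 5) = -3 / 8 - 2 / 5 := by
    have e1 : ∑ i ∈ T, (-(u i * w i : ℚ) / 8 - (u i - w i) ^ 2 / 5) =
        -(((∑ i ∈ T, u i * w i : ℤ) : ℚ)) / 8 - (((∑ i ∈ T, u i ^ 2 : ℤ) : ℚ) -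
          2 * ((∑ i ∈ T, u i * w i : ℤ) : ℚ) + ((∑ i ∈ T, w i ^ 2 : ℤ) : ℚ)) / 5 := by
      push_cast
      rw [Finset.sum_sub_distrib, ← Finset.sum_div, ← Finset.sum_div, Finset.sum_neg_distrib]
      congr 2
      rw [Finset.mul_sum, ← Finset.sum_sub_distrib, ← Finset.sum_add_distrib]
      apply Finset.sum_congr rfl
      intro i _
      ring
    rw [e1, hu', hw', huw']
    norm_num
  rw [hval] at hsum
  rw [hu0, hw0, hd0]
  norm_num at hsum ⊢
  linarith

theorem num2 {ι : Type*} [Fintype ι] (k f : ι → ℤ) (d : ι → ℕ) (hd : ∀ i, 0 < d i) (g : ℕ)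
    (hk : ∑ i, k i ^ 2 = 2) (hdk : ∑ i, (d i : ℤ) * k i = 0) (hf : ∀ i, (3 : ℤ) ∣ f i - d i ^ 2)
    (hg : (∑ i, ((f i : ℚ) * k i) / d i) * g = 27) (hdg : ∑ i, d i ^ 2 = g) : g ≤ 40 := by
  classical
  obtain ⟨p, hp⟩ : ∃ p, k p ≠ 0 := by
    by_contra hcon
    push Not at hcon
    simp [hcon] at hk
  rw [← Finset.add_sum_erase _ _ (Finset.mem_univ p)] at hk hdk hg hdg
  have hp1 : 1 ≤ k p ^ 2 := by
    have := sq_nonneg (k p)
    have h0 : k p ^ 2 ≠ 0 := pow_ne_zero 2 hp
    omega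
  have hnn := Finset.sum_nonneg (s := Finset.univ.erase p) (f := fun j => k j ^ 2) (fun j _ => sq_nonneg _)
  have hp2 : k p = 1 ∨ k p = -1 := by
    have h1 : k p ^ 2 ≤ 2 := by linarith
    have : -1 ≤ k p ∧ k p ≤ 1 := ⟨by nlinarith, by nlinarith⟩
    omega
  have hps : k p ^ 2 = 1 := by rcases hp2 with h | h <;> rw [h] <;> norm_num
  rw [hps] at hk
  obtain ⟨q, hq, hq0⟩ : ∃ q ∈ Finset.univ.erase p, k q ≠ 0 := by
    by_contra hcon
    push Not at hcon
    rw [Finset.sum_eq_zero (fun j hj => by rw [hcon j hj]; norm_num)] at hk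
    norm_num at hk
  rw [← Finset.add_sum_erase _ _ hq] at hk hdk hg hdg
  have hq1 : 1 ≤ k q ^ 2 := by
    have := sq_nonneg (k q)
    have h0 : k q ^ 2 ≠ 0 := pow_ne_zero 2 hq0
    omega
  have hnn2 := Finset.sum_nonneg (s := (Finset.univ.erase p).erase q) (f := fun j => k j ^ 2) (fun j _ => sq_nonneg _)
  have hq2 : k q = 1 ∨ k q = -1 := by
    have h1 : k q ^ 2 ≤ 1 := by linarith
    have : -1 ≤ k q ∧ k q ≤ 1 := ⟨by nlinarith, by nlinarith⟩
    omega
  have hqs : k q ^ 2 = 1 := by rcases hq2 with h | h <;> rw [h] <;> norm_num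
  have hz : ∑ j ∈ (Finset.univ.erase p).erase q, k j ^ 2 = 0 := by linarith
  have hz' : ∀ j ∈ (Finset.univ.erase p).erase q, k j = 0 := by
    intro j hj
    have := (Finset.sum_eq_zero_iff_of_nonneg (fun j _ => sq_nonneg (k j))).mp hz j hj
    exact pow_eq_zero_iff (two_ne_zero) |>.mp this
  rw [Finset.sum_eq_zero (fun j hj => by rw [hz' j hj]; ring), add_zero] at hdk hg
  have hdp := hd p
  have hdq := hd q
  -- same degree, opposite signs
  have hsame : d p = d q ∧ k q = - k p := by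
    rcases hp2 with h | h <;> rcases hq2 with h' | h' <;> rw [h, h'] at hdk ⊢ <;> constructor <;> omega
  obtain ⟨hdd, hkk⟩ := hsame
  have hfp := hf p
  have hfq := hf q
  rw [← hdd] at hfq hg hdg
  have h3 : (3 : ℤ) ∣ k p * (f p - f q) := by
    apply Dvd.dvd.mul_left
    have : f p - f q = (f p - d p ^ 2) - (f q - d p ^ 2) := by ring
    rw [this]
    exact dvd_sub hfp hfq
  obtain ⟨m, hm⟩ := h3
  have hdpq : (d p : ℚ) ≠ 0 := by exact_mod_cast hdp.ne'
  have hgm : (3 * (m : ℚ)) * g = 27 * d p := by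
    have h4 : (3 * (m : ℚ)) = k p * (f p - f q) := by exact_mod_cast hm.symm
    rw [h4]
    have h5 : (k q : ℚ) = - k p := by exact_mod_cast hkk
    rw [h5] at hg
    field_simp at hg
    linear_combination hg
  have hgm' : m * g = 9 * d p := by
    have : ((m * g : ℤ) : ℚ) = ((9 * d p : ℤ) : ℚ) := by push_cast; linarith
    exact_mod_cast this
  have hg0 : 0 < g := by
    rcases Nat.eq_zero_or_pos g with h | h
    · rw [h] at hgm'; simp at hgm'; omega
    · exact h
  have hm1 : 1 ≤ m := by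
    by_contra hcon
    have : m ≤ 0 := by omega
    have : m * (g : ℤ) ≤ 0 := mul_nonpos_of_nonpos_of_nonneg this (by positivity)
    omega
  have hle : g ≤ 9 * d p := by
    have : (g : ℤ) ≤ m * g := by nlinarith
    have h6 : (g : ℤ) ≤ 9 * d p := by linarith
    exact_mod_cast h6
  have hdg2 : 2 * d p ^ 2 ≤ g := by
    have := Nat.zero_le (∑ x ∈ (Finset.univ.erase p).erase q, d x ^ 2)
    omega
  have h7 : 2 * g ^ 2 ≤ 81 * g := by nlinarith
  have h8 : 2 * g ≤ 81 := by
    have : g * (2 * g) ≤ g * 81 := by nlinarith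
    exact Nat.le_of_mul_le_mul_left this hg0
  omega

/-! ### integrality -/

theorem sum_subgroup [Fintype G] {χ : G → ℂ} (hχ : IsCharacter G χ) (H : Subgroup G) [Fintype H] :
    ∃ n : ℕ, ∑ x : H, χ (x : G) = (Nat.card H : ℂ) * n := by
  obtain ⟨n, hn⟩ := (hχ.restrict H).classInner_nat (isCharacter_one (G := H))
  refine ⟨n, ?_⟩
  rw [← hn, classInner_def]
  have hcard : (Nat.card H : ℂ) ≠ 0 := by exact_mod_cast Nat.card_pos.ne'
  rw [← mul_assoc, mul_inv_cancel₀ hcard, one_mul]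
  apply Finset.sum_congr rfl
  intro x _
  simp

theorem real_three [Finite G] {χ : G → ℂ} (hχ : IsCharacter G χ) {s : G} (hs : orderOf s = 3)
    (hr : IsConj s s⁻¹) {d : ℕ} (hd : χ 1 = d) : ∃ n : ℤ, χ s = n ∧ (3 : ℤ) ∣ n - d := by
  classical
  have := Fintype.ofFinite G
  obtain ⟨m, hm⟩ := sum_subgroup hχ (Subgroup.zpowers s)
  have hcard : Nat.card (Subgroup.zpowers s) = 3 := by rw [Nat.card_zpowers, hs]
  have h1 : ∑ x : Subgroup.zpowers s, χ (x : G) = χ 1 + χ s + χ (s ^ 2) := by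
    have e : ∑ x : Subgroup.zpowers s, χ (x : G) = ∑ i : Fin (orderOf s), χ (s ^ (i : ℕ)) := by
      symm
      apply Fintype.sum_equiv (finEquivZPowers (isOfFinOrder_of_finite s))
      intro i
      rw [finEquivZPowers_apply]
    rw [e, Fin.sum_univ_eq_sum_range (fun i => χ (s ^ i)) (orderOf s), hs]
    simp [Finset.sum_range_succ]
  have h2 : χ (s ^ 2) = χ s := by
    have : s ^ 2 = s⁻¹ := by
      have h3 := pow_orderOf_eq_one s
      rw [hs] at h3
      rw [eq_inv_iff_mul_eq_one, ← pow_succ]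
      exact h3
    rw [this]
    exact (hχ.isClassFunction.conj_eq hr).symm
  rw [h1, h2, hd, hcard] at hm
  have hint : IsIntegral ℤ (χ s) := by
    obtain ⟨n, ρ, rfl⟩ := hχ
    exact CharValues.isIntegral_character ρ s
  obtain ⟨n, hn⟩ := CharCentral.exists_int_of_isIntegral_rat hint ((3 * m - d) / 2 : ℚ) (by
    push_cast
    linear_combination (1 / 2 : ℂ) * hm)
  refine ⟨n, hn, ?_⟩
  rw [hn] at hm
  have h3 : (d : ℤ) + n + n = 3 * m := by exact_mod_cast hm
  omega

end Cfsg.Agent.Lib.H25Nine
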