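import Cfsg.Agent.Lib.H2219Def
import Cfsg.Agent.Lib.H76Char
import Cfsg.Agent.Lib.H25Nine
import Cfsg.Agent.S4709

/-! Piece A of S2219: the principal block when a Sylow normalizer inverts (helper23) -/

set_option autoImplicit false
set_option linter.all false

namespace Cfsg.Agent.Lib.H2219

open Cfsg Subgroup

universe u

variable {G : Type u} [Group G] [Finite G]

section group

variable (P C N : Subgroup G)

/-- group theory of an inverting element -/
theorem inv_group (p : ℕ) [Fact p.Prime] (P : Sylow p G) (hodd : Odd (Nat.card P)) (hP1 : Nat.card P ≠ 1)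
    {g : G} (hg : g ∈ Subgroup.normalizer ((P : Subgroup G) : Set G)) (hginv : ∀ y ∈ (P : Subgroup G), g * y * g⁻¹ = y⁻¹)
    (hrel : (Subgroup.centralizer ((P : Subgroup G) : Set G)).relIndex (Subgroup.normalizer ((P : Subgroup G) : Set G)) = 2) :
    (∀ y ∈ (P : Subgroup G), y ≠ 1 → y⁻¹ ≠ y) ∧ g ∉ Subgroup.centralizer ((P : Subgroup G) : Set G) ∧
    (∀ n ∈ Subgroup.normalizer ((P : Subgroup G) : Set G), n ∈ Subgroup.centralizer ((P : Subgroup G) : Set G) ∨
      ∀ y ∈ (P : Subgroup G), n * y * n⁻¹ = y⁻¹) := by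
  have h1 : ∀ y ∈ (P : Subgroup G), y ≠ 1 → y⁻¹ ≠ y := by
    intro y hy hy1 h
    apply hy1
    have h2 : y ^ 2 = 1 := by rw [pow_two]; nth_rewrite 1 [← h]; exact inv_mul_cancel y
    have h3 : orderOf (⟨y, hy⟩ : (P : Subgroup G)) ∣ Nat.card P := orderOf_dvd_natCard _
    have h4 : orderOf (⟨y, hy⟩ : (P : Subgroup G)) ∣ 2 := orderOf_dvd_of_pow_eq_one (Subtype.ext h2)
    have h5 := Nat.dvd_gcd h3 h4
    have h6 : Nat.gcd (Nat.card P) 2 = 1 := Nat.coprime_two_right.2 hodd
    rw [h6, Nat.dvd_one, orderOf_eq_one_iff] at h5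
    exact congrArg Subtype.val h5
  have hne : ∃ y ∈ (P : Subgroup G), y ≠ 1 := by
    by_contra h
    push Not at h
    apply hP1
    have : (P : Subgroup G) = ⊥ := (Subgroup.eq_bot_iff_forall _).2 h
    show Nat.card (P : Subgroup G) = 1
    rw [this]; simp
  have h2 : g ∉ Subgroup.centralizer ((P : Subgroup G) : Set G) := by
    intro h
    obtain ⟨y, hy, hy1⟩ := hne
    have h3 := Subgroup.mem_centralizer_iff.1 h y hy
    apply h1 y hy hy1
    rw [← hginv y hy, ← h3, mul_inv_cancel_right]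
  refine ⟨h1, h2, fun n hn => ?_⟩
  by_cases h3 : n ∈ Subgroup.centralizer ((P : Subgroup G) : Set G)
  · exact Or.inl h3
  · right
    have hidx : ((Subgroup.centralizer ((P : Subgroup G) : Set G)).subgroupOf (Subgroup.normalizer ((P : Subgroup G) : Set G))).index = 2 := hrel
    have h4 := (Subgroup.mul_mem_iff_of_index_two hidx (a := ⟨n, hn⟩) (b := ⟨g, hg⟩)).2 (by
      constructor
      · intro h; exact absurd h h3
      · intro h; exact absurd h h2)
    have h5 : n * g ∈ Subgroup.centralizer ((P : Subgroup G) : Set G) := h4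
    intro y hy
    have h6 := Subgroup.mem_centralizer_iff.1 h5 y⁻¹ (inv_mem hy)
    have h7 : y⁻¹ = (n * g) * y⁻¹ * (n * g)⁻¹ := by rw [← h6, mul_inv_cancel_right]
    have h8 : g * y⁻¹ * g⁻¹ = y := by rw [hginv y⁻¹ (inv_mem hy), inv_inv]
    calc n * y * n⁻¹ = n * (g * y⁻¹ * g⁻¹) * n⁻¹ := by rw [h8]
      _ = (n * g) * y⁻¹ * (n * g)⁻¹ := by group
      _ = y⁻¹ := h7.symm

end group

theorem inv_data (p : ℕ) [Fact p.Prime] (P : Sylow p G) (hP : Nat.card P = 7 ∨ Nat.card P = 9) (hab : IsMulCommutative P)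
    (hinv : ∃ g ∈ Subgroup.normalizer ((P : Subgroup G) : Set G), ∀ y ∈ (P : Subgroup G), g * y * g⁻¹ = y⁻¹)
    (hrel : (Subgroup.centralizer ((P : Subgroup G) : Set G)).relIndex (Subgroup.normalizer ((P : Subgroup G) : Set G)) = 2) :
    ∃ (θ : IrrCharacter G) (a δ : ℤ) (ζ : (↥(P : Subgroup G) →* ℂˣ) → IrrCharacter G),
      (a = 1 ∨ a = -1) ∧ (δ = 1 ∨ δ = -1) ∧ (θ : G → ℂ) ≠ (fun _ => 1) ∧
      (∀ z y : G, IsPPart p z y → y ∈ (P : Subgroup G) → y ≠ 1 → (θ : G → ℂ) z = a) ∧
      (charDegree (θ : G → ℂ) : ℤ) ≡ a [ZMOD (Nat.card P : ℤ)] ∧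
      (∀ ψ : ↥(P : Subgroup G) →* ℂˣ, ψ ≠ 1 → (ζ ψ : G → ℂ) ≠ (fun _ => 1) ∧
        (∀ g : G, ¬ p ∣ orderOf g → 1 + (a : ℂ) * (θ : G → ℂ) g = (δ : ℂ) * (ζ ψ : G → ℂ) g) ∧
        (∀ (z : G) (y : ↥(P : Subgroup G)), IsPPart p z (y : G) → (y : G) ≠ 1 →
          (ζ ψ : G → ℂ) z = (δ : ℂ) * (((ψ y : ℂˣ) : ℂ) + ((ψ y : ℂˣ) : ℂ)⁻¹))) := by
  classical
  obtain ⟨g, hg, hginv⟩ := hinv
  have hodd : Odd (Nat.card P) := by
    rcases hP with h | h
    · rw [h]; exact ⟨3, rfl⟩
    · rw [h]; exact ⟨4, rfl⟩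
  have hP1 : Nat.card P ≠ 1 := by rcases hP with h | h <;> rw [h] <;> norm_num
  obtain ⟨h1, h2, h3⟩ := inv_group p P hodd hP1 hg hginv hrel
  obtain ⟨M, hM⟩ := Cfsg.Agent.Lib.H76Char.exists_isPModular p
  have hCN' : Subgroup.centralizer ((P : Subgroup G) : Set G) ≤ Subgroup.normalizer ((P : Subgroup G) : Set G) := by
    intro c hc
    rw [Subgroup.mem_normalizer_iff]
    intro y
    have hc' := Subgroup.mem_centralizer_iff.1 hc
    constructor
    · intro hy
      have : c * y * c⁻¹ = y := by rw [← hc' y hy, mul_inv_cancel_right]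
      rw [this]; exact hy
    · intro hy
      have h4 := hc' _ hy
      have : y = c * y * c⁻¹ := by
        have h5 : c * y * c⁻¹ * c = c * (c * y * c⁻¹) := h4
        have h6 : c * y = c * (c * y * c⁻¹) := by rw [← h5]; group
        exact mul_left_cancel h6
      rw [this]; exact hy
  have hcyc : ∃ g : G, g ∈ Subgroup.normalizer ((P : Subgroup G) : Set G) ∧
      Subgroup.centralizer ((P : Subgroup G) : Set G) ⊔ Subgroup.zpowers g = Subgroup.normalizer ((P : Subgroup G) : Set G) := by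
    refine ⟨g, hg, le_antisymm (sup_le hCN' (by rw [Subgroup.zpowers_le]; exact hg)) ?_⟩
    have h4 := Subgroup.relIndex_mul_relIndex (Subgroup.centralizer ((P : Subgroup G) : Set G))
      (Subgroup.centralizer ((P : Subgroup G) : Set G) ⊔ Subgroup.zpowers g) (Subgroup.normalizer ((P : Subgroup G) : Set G)) le_sup_left
      (sup_le hCN' (by rw [Subgroup.zpowers_le]; exact hg))
    rw [hrel] at h4
    have h5 : (Subgroup.centralizer ((P : Subgroup G) : Set G)).relIndex (Subgroup.centralizer ((P : Subgroup G) : Set G) ⊔ Subgroup.zpowers g) ≠ 1 := by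
      intro h
      rw [Subgroup.relIndex_eq_one] at h
      exact h2 (h (Subgroup.mem_sup_right (Subgroup.mem_zpowers g)))
    have h6 : (Subgroup.centralizer ((P : Subgroup G) : Set G) ⊔ Subgroup.zpowers g).relIndex (Subgroup.normalizer ((P : Subgroup G) : Set G)) = 1 := by
      have h7 : (Subgroup.centralizer ((P : Subgroup G) : Set G)).relIndex (Subgroup.centralizer ((P : Subgroup G) : Set G) ⊔ Subgroup.zpowers g) ∣ 2 :=
        ⟨_, h4.symm⟩
      rcases (Nat.dvd_prime Nat.prime_two).1 h7 with h8 | h8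
      · exact absurd h8 h5
      · rw [h8] at h4; omega
    rwa [Subgroup.relIndex_eq_one] at h6
  have hfrob : ∀ y : G, y ∈ (P : Subgroup G) → y ≠ 1 → Subgroup.centralizer ({y} : Set G) ⊓ Subgroup.normalizer ((P : Subgroup G) : Set G) =
      Subgroup.centralizer ((P : Subgroup G) : Set G) := by
    intro y hy hy1
    apply le_antisymm
    · rintro n ⟨hn1, hn2⟩
      rcases h3 n hn2 with h | h
      · exact h
      · exfalso
        apply h1 y hy hy1
        have h4 := Subgroup.mem_centralizer_singleton_iff.1 hn1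
        rw [← h y hy, h4, mul_inv_cancel_right]
    · refine le_inf ?_ hCN'
      apply Subgroup.centralizer_le
      intro x hx
      rw [Set.mem_singleton_iff] at hx
      rw [hx]; exact hy
  obtain ⟨s, X, Y, hs, hXY, hdis, hX, hY, ⟨χ₁, hχ₁, hχ₁1⟩, a, d, δ, ζ, hδ, ha, hζ, hsur, hconst, hval, heq, hYY, hrl⟩ :=
    Cfsg.Agent.S4709.result p M hM P hab hP1 2 (by norm_num) (by rcases hP with h | h <;> rw [h] <;> norm_num) hrel hcyc hfrob
  -- a nontrivial element
  have hne : ∃ y ∈ (P : Subgroup G), y ≠ 1 := by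
    by_contra h
    push Not at h
    apply hP1
    have : (P : Subgroup G) = ⊥ := (Subgroup.eq_bot_iff_forall _).2 h
    show Nat.card (P : Subgroup G) = 1
    rw [this]; simp
  have hself : ∀ y ∈ (P : Subgroup G), IsPPart p y y := by
    intro y hy
    refine ⟨1, mul_one y, Commute.one_right y, ?_, ?_⟩
    · obtain ⟨k, hk⟩ := (IsPGroup.iff_orderOf (p := p)).1 P.2 ⟨y, hy⟩
      exact ⟨k, by rw [← hk]; exact (Subgroup.orderOf_mk y hy).symm⟩
    · rw [orderOf_one]
      exact fun h => (Fact.out : p.Prime).one_lt.ne' (Nat.dvd_one.1 h)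
  obtain ⟨y₀, hy₀, hy₀1⟩ := hne
  have ha1 : a χ₁ = 1 := by
    have h4 := (ha χ₁ hχ₁).2 y₀ y₀ (hself y₀ hy₀) hy₀ hy₀1
    rw [hχ₁1] at h4
    have h5 : (1 : ℂ) = (a χ₁ : ℂ) := h4
    exact_mod_cast h5.symm
  haveI hfinI : Finite (IrrCharacter G) := by infer_instance
  have hXf : X.Finite := Set.toFinite X
  have hXs : X.ncard ≤ 2 := by
    have : X.ncard = s := hX
    omega
  have hδ2 : δ ^ 2 = 1 := by rcases hδ with h | h <;> rw [h] <;> norm_num
  -- the sum over X
  have hsum1 : ∑ᶠ χ ∈ X, a χ ^ 2 = 1 + ∑ᶠ χ ∈ X \ {χ₁}, a χ ^ 2 := by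
    have h4 : X = {χ₁} ∪ (X \ {χ₁}) := by
      ext χ
      constructor
      · intro h
        by_cases h5 : χ = χ₁
        · exact Or.inl h5
        · exact Or.inr ⟨h, h5⟩
      · rintro (h | h)
        · rw [Set.mem_singleton_iff] at h; rw [h]; exact hχ₁
        · exact h.1
    conv_lhs => rw [h4]
    rw [finsum_mem_union Set.disjoint_sdiff_right (Set.toFinite _) (Set.toFinite _), finsum_mem_singleton, ha1]
    norm_num
  have hcardX : (X \ {χ₁}).ncard + 1 = X.ncard := Set.ncard_diff_singleton_add_one hχ₁ hXf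
  have hYne : ∃ η, η ∈ Y := by
    have h4 : Nat.card Y ≠ 0 := by rw [hY]; rcases hP with h | h <;> rw [h] <;> norm_num
    obtain ⟨⟨η, hη⟩⟩ : Nonempty Y := by
      by_contra h
      rw [not_nonempty_iff] at h
      exact h4 Nat.card_of_isEmpty
    exact ⟨η, hη⟩
  obtain ⟨η₀, hη₀⟩ := hYne
  have hdeg : ∀ χ : IrrCharacter G, (χ : G → ℂ) 1 = (charDegree (χ : G → ℂ) : ℂ) := fun χ => (BlockDeg.charDegree_cast_irr χ).symm
  -- d = 0 and X has two elements
  have key : d = 0 ∧ ∃ θ ∈ X, θ ≠ χ₁ ∧ a θ ^ 2 = 1 ∧ X = {χ₁, θ} := by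
    by_cases hX1 : (X \ {χ₁}).ncard = 0
    · exfalso
      have h4 : X \ {χ₁} = ∅ := (Set.ncard_eq_zero (Set.toFinite _)).1 hX1
      rw [h4, finsum_mem_empty, add_zero] at hsum1
      rw [hsum1] at heq
      have h5 : X = {χ₁} := by
        apply Set.Subset.antisymm
        · intro χ hχ
          by_contra h6
          have : χ ∈ X \ {χ₁} := ⟨hχ, h6⟩
          rw [h4] at this
          exact this
        · intro χ hχ
          rw [Set.mem_singleton_iff] at hχ; rw [hχ]; exact hχ₁
      have h6 := hrl η₀ hη₀ 1 (by rw [orderOf_one]; exact fun h => (Fact.out : p.Prime).one_lt.ne' (Nat.dvd_one.1 h))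
      rw [h5, finsum_mem_singleton, ha1, hχ₁1, hdeg η₀] at h6
      set n := charDegree (η₀ : G → ℂ) with hn
      rcases hP with h | h
      · rw [h] at heq h6
        norm_num at heq h6
        have h7 : (3 * d - δ) * (n : ℤ) + 1 = 0 := by exact_mod_cast h6
        have hd2 : d ^ 2 ≤ 1 := by nlinarith [sq_nonneg (d - δ)]
        have hd3 : -1 ≤ d ∧ d ≤ 1 := by constructor <;> nlinarith
        obtain ⟨hd4, hd5⟩ := hd3
        interval_cases d <;> rcases hδ with h8 | h8 <;> subst h8 <;> norm_num at heq <;> norm_num at h7 <;> omega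
      · rw [h] at heq h6
        norm_num at heq h6
        have hd2 : d ^ 2 ≤ 0 := by nlinarith [sq_nonneg (d - δ)]
        have hd3 : d = 0 := by
          have := sq_nonneg d
          exact pow_eq_zero_iff (two_ne_zero) |>.1 (le_antisymm hd2 this)
        rw [hd3] at heq
        rcases hδ with h8 | h8 <;> subst h8 <;> norm_num at heq
    · have hX1' : (X \ {χ₁}).ncard = 1 := by omega
      obtain ⟨θ, hθ⟩ := Set.ncard_eq_one.1 hX1'
      have hθX : θ ∈ X \ {χ₁} := by rw [hθ]; exact Set.mem_singleton θ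
      rw [hθ, finsum_mem_singleton] at hsum1
      rw [hsum1] at heq
      have ha0 := (ha θ hθX.1).1
      have ha2 : 1 ≤ a θ ^ 2 := by
        have := sq_nonneg (a θ)
        have h5 : a θ ^ 2 ≠ 0 := pow_ne_zero 2 ha0
        omega
      have hd0 : d = 0 := by
        by_contra hd
        have hd1 : 1 ≤ d ^ 2 := by
          have := sq_nonneg d
          have h5 : d ^ 2 ≠ 0 := pow_ne_zero 2 hd
          omega
        have h6 := sq_nonneg (d - δ)
        rcases hP with h | h
        · rw [h] at heq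
          norm_num at heq
          nlinarith
        · rw [h] at heq
          norm_num at heq
          nlinarith
      refine ⟨hd0, θ, hθX.1, hθX.2, ?_, ?_⟩
      · rw [hd0] at heq
        have h6 : (0 - δ) ^ 2 = 1 := by rw [zero_sub, neg_sq]; exact hδ2
        rw [h6] at heq
        norm_num at heq
        linarith
      · ext χ
        constructor
        · intro h
          by_cases h5 : χ = χ₁
          · rw [h5]; exact Set.mem_insert _ _
          · have : χ ∈ X \ {χ₁} := ⟨h, h5⟩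
            rw [hθ] at this
            rw [Set.mem_singleton_iff.1 this]
            exact Set.mem_insert_of_mem _ (Set.mem_singleton _)
        · rintro (h | h)
          · rw [h]; exact hχ₁
          · rw [Set.mem_singleton_iff] at h; rw [h]; exact hθX.1
  obtain ⟨hd0, θ, hθX, hθ1, haθ, hXeq⟩ := key
  have haθ' : a θ = 1 ∨ a θ = -1 := by
    have h4 : (a θ - 1) * (a θ + 1) = 0 := by linear_combination haθ
    rcases mul_eq_zero.1 h4 with h5 | h5
    · exact Or.inl (by omega)
    · exact Or.inr (by omega)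
  refine ⟨θ, a θ, δ, ζ, haθ', hδ, ?_, (ha θ hθX).2, ?_, ?_⟩
  · intro h
    exact hθ1 (Subtype.ext (h.trans hχ₁1.symm))
  · haveI : Fintype G := Fintype.ofFinite G
    haveI : Fintype (P : Subgroup G) := Fintype.ofFinite _
    obtain ⟨n, hn⟩ := Cfsg.Agent.Lib.H25Nine.sum_subgroup θ.2.isCharacter (P : Subgroup G)
    have h4 : ∑ x : (P : Subgroup G), (θ : G → ℂ) (x : G) = (charDegree (θ : G → ℂ) : ℂ) + ((Nat.card P : ℂ) - 1) * (a θ : ℂ) := by
      rw [← Finset.add_sum_erase Finset.univ _ (Finset.mem_univ (1 : (P : Subgroup G)))]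
      congr 1
      · exact hdeg θ
      · rw [Finset.sum_congr rfl (g := fun _ => (a θ : ℂ)) (by
          intro x hx
          have hx1 : x ≠ 1 := Finset.ne_of_mem_erase hx
          exact (ha θ hθX).2 x x (hself x x.2) x.2 (fun h => hx1 (Subtype.ext h))), Finset.sum_const,
          Finset.card_erase_of_mem (Finset.mem_univ _), Finset.card_univ, nsmul_eq_mul, ← Nat.card_eq_fintype_card]
        rw [Nat.cast_sub Nat.card_pos, Nat.cast_one]
    rw [h4] at hn
    have h5 : (charDegree (θ : G → ℂ) : ℤ) + ((Nat.card P : ℤ) - 1) * a θ = (Nat.card P : ℤ) * n := by exact_mod_cast hn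
    rw [Int.modEq_iff_dvd]
    exact ⟨a θ - n, by linear_combination -h5⟩
  · intro ψ hψ
    have hY1 := hζ ψ hψ
    refine ⟨?_, ?_, ?_⟩
    · intro h
      have h4 : ζ ψ = χ₁ := Subtype.ext (h.trans hχ₁1.symm)
      rw [h4] at hY1
      exact Set.disjoint_left.1 hdis hχ₁ hY1
    · intro x hx
      have h4 := hrl (ζ ψ) hY1 x hx
      rw [hXeq, finsum_mem_pair hθ1.symm, hd0, ha1, hχ₁1] at h4
      push_cast at h4
      linear_combination h4
    · intro z y hz hy
      have h4 := hval ψ hψ z y hz hy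
      have hψ2 : ψ ≠ ψ⁻¹ := by
        intro h
        apply hψ
        ext w
        have h5 : ψ w = (ψ w)⁻¹ := by
          have := DFunLike.congr_fun h w
          simpa using this
        have h6 : ψ w ^ 2 = 1 := by rw [pow_two]; nth_rewrite 2 [h5]; exact mul_inv_cancel _
        have h7 : ψ w ^ Nat.card P = 1 := by rw [← map_pow, pow_card_eq_one', map_one]
        have h8 := Nat.dvd_gcd (orderOf_dvd_of_pow_eq_one h7) (orderOf_dvd_of_pow_eq_one h6)
        have h9 : Nat.gcd (Nat.card P) 2 = 1 := Nat.coprime_two_right.2 hodd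
        rw [h9, Nat.dvd_one, orderOf_eq_one_iff] at h8
        rw [h8]; rfl
      have hset : {ψ' : ↥(P : Subgroup G) →* ℂˣ | ∃ n : G, n ∈ Subgroup.normalizer ((P : Subgroup G) : Set G) ∧
          ∀ w w' : ↥(P : Subgroup G), (w' : G) = n * w * n⁻¹ → ψ' w' = ψ w} = {ψ, ψ⁻¹} := by
        ext ψ'
        constructor
        · rintro ⟨n, hn, h5⟩
          rcases h3 n hn with h6 | h6
          · left
            ext w
            have h7 := h5 w w (by rw [← Subgroup.mem_centralizer_iff.1 h6 w w.2, mul_inv_cancel_right])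
            rw [h7]
          · right
            rw [Set.mem_singleton_iff]
            ext w
            have h7 := h5 w w⁻¹ (by rw [h6 w w.2]; rfl)
            rw [map_inv, inv_eq_iff_eq_inv] at h7
            rw [h7]; rfl
        · rintro (h5 | h5)
          · subst h5
            refine ⟨1, Subgroup.one_mem _, fun w w' h6 => ?_⟩
            have : w' = w := Subtype.ext (by rw [h6]; group)
            rw [this]
          · rw [Set.mem_singleton_iff] at h5
            subst h5
            refine ⟨g, hg, fun w w' h6 => ?_⟩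
            have : w' = w⁻¹ := Subtype.ext (by rw [h6, hginv w w.2]; rfl)
            rw [this, MonoidHom.inv_apply, map_inv, inv_inv]
      rw [hset, finsum_mem_pair hψ2, hd0] at h4
      rw [h4]
      push_cast
      rw [MonoidHom.inv_apply, Units.val_inv_eq_inv_val]
      ring

end Cfsg.Agent.Lib.H2219
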