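import Cfsg.Agent.Lib.H2219Def
import Cfsg.Agent.Lib.BlockSecond2

/-! Counting the elements whose 3-part is conjugate into `P \ ⟨a⟩` (piece B1 of S2219, helper10). -/

set_option autoImplicit false
set_option linter.all false

namespace Cfsg.Agent.Lib.H2219

open Cfsg

universe u

namespace B1

section general
variable {H : Type u} [Group H] [Finite H]

/-- number of 3-regular elements -/
noncomputable def Rg (H : Type u) [Group H] : ℕ := Nat.card {z : H // ¬ 3 ∣ orderOf z}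

/-- elements whose 3-part is conjugate to `u` -/
def Z (u : H) : Set H := {z | ∃ y, IsPPart 3 z y ∧ IsConj u y}

theorem card_of_fibers {α β : Type*} [Finite α] [Finite β] (f : α → β) (n : ℕ)
    (h : ∀ b, Nat.card {a // f a = b} = n) : Nat.card α = Nat.card β * n := by
  classical
  haveI := Fintype.ofFinite β
  rw [Nat.card_congr (Equiv.sigmaFiberEquiv f).symm, Nat.card_sigma]
  simp [h]

theorem ppart_unique {z y y' : H} (h : IsPPart 3 z y) (h' : IsPPart 3 z y') : y = y' := by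
  obtain ⟨w, e, c, ⟨k, hk⟩, hw⟩ := h
  obtain ⟨w', e', c', ⟨k', hk'⟩, hw'⟩ := h'
  exact (BlockSecond.eq_of_comm_of_orders Nat.prime_three c c' (by rw [e, e']) hk hk' hw hw').1

theorem orderOf_conj' (g x : H) : orderOf (g * x * g⁻¹) = orderOf x := by
  have := orderOf_injective (MulAut.conj g).toMonoidHom (MulAut.conj g).injective x
  simpa using this

theorem ppart_conj {z y : H} (g : H) (h : IsPPart 3 z y) : IsPPart 3 (g * z * g⁻¹) (g * y * g⁻¹) := by
  obtain ⟨w, e, c, ⟨k, hk⟩, hw⟩ := h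
  refine ⟨g * w * g⁻¹, ?_, ?_, ⟨k, ?_⟩, ?_⟩
  · rw [← e]; group
  · exact c.map (MulAut.conj g).toMonoidHom
  · rw [orderOf_conj']; exact hk
  · rw [orderOf_conj']; exact hw

theorem card_Z {u : H} {k : ℕ} (hu : orderOf u = 3 ^ k) :
    Nat.card (Z u) * Nat.card (Subgroup.centralizer ({u} : Set H)) =
      Nat.card H * Rg (Subgroup.centralizer ({u} : Set H)) := by
  classical
  set C := Subgroup.centralizer ({u} : Set H) with hC
  have hmem : ∀ c : C, Commute u (c : H) := fun c => (Subgroup.mem_centralizer_singleton_iff.1 c.2).symm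
  have hpp : ∀ c : C, ¬ 3 ∣ orderOf c → IsPPart 3 (u * (c : H)) u := fun c hc =>
    ⟨c, rfl, hmem c, ⟨k, hu⟩, by rwa [Subgroup.orderOf_coe]⟩
  let f : H × {c : C // ¬ 3 ∣ orderOf c} → Z u := fun x =>
    ⟨x.1 * (u * ((x.2 : C) : H)) * x.1⁻¹, x.1 * u * x.1⁻¹, ppart_conj _ (hpp _ x.2.2), isConj_iff.2 ⟨x.1, rfl⟩⟩
  have key := card_of_fibers f (Nat.card C) ?_
  · rw [Nat.card_prod] at key
    exact key.symm
  rintro ⟨z, y, hy, huy⟩
  obtain ⟨g, hg⟩ := isConj_iff.1 huy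
  obtain ⟨w, e, c, ho, hw⟩ := hy
  have hwc : g⁻¹ * w * g ∈ C := by
    rw [hC, Subgroup.mem_centralizer_singleton_iff]
    have : y * w = w * y := c
    rw [← hg] at this
    have h2 : g⁻¹ * (g * u * g⁻¹ * w) * g = g⁻¹ * (w * (g * u * g⁻¹)) * g := by rw [this]
    have h3 : u * (g⁻¹ * w * g) = g⁻¹ * w * g * u := by
      calc u * (g⁻¹ * w * g) = g⁻¹ * (g * u * g⁻¹ * w) * g := by group
        _ = g⁻¹ * (w * (g * u * g⁻¹)) * g := h2
        _ = _ := by group
    exact h3.symm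
  have hw0 : orderOf (g⁻¹ * w * g) = orderOf w := by
    have := orderOf_conj' g⁻¹ w
    simpa using this
  let c0 : C := ⟨g⁻¹ * w * g, hwc⟩
  have hc0 : ¬ 3 ∣ orderOf c0 := by
    rw [← Subgroup.orderOf_coe]
    show ¬ 3 ∣ orderOf (g⁻¹ * w * g)
    rw [hw0]; exact hw
  refine Nat.card_congr
    { toFun := fun x => ⟨x.1.1⁻¹ * g, ?_⟩
      invFun := fun x => ⟨(g * (x : H)⁻¹, ⟨x * c0 * x⁻¹, ?_⟩), ?_⟩
      left_inv := ?_
      right_inv := ?_ }
  · obtain ⟨⟨g1, c1⟩, hx⟩ := x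
    have hx' : g1 * (u * ((c1 : C) : H)) * g1⁻¹ = z := congrArg Subtype.val hx
    have h1 : IsPPart 3 z (g1 * u * g1⁻¹) := by
      rw [← hx']; exact ppart_conj _ (hpp _ c1.2)
    have h2 : IsPPart 3 z y := ⟨w, e, c, ho, hw⟩
    have h3 := ppart_unique h1 h2
    have h4 : g1 * u * g1⁻¹ = g * u * g⁻¹ := by rw [h3, hg]
    have h6 : g1⁻¹ * g * u = u * (g1⁻¹ * g) := by
      calc g1⁻¹ * g * u = g1⁻¹ * (g * u * g⁻¹) * g := by group
        _ = g1⁻¹ * (g1 * u * g1⁻¹) * g := by rw [h4]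
        _ = _ := by group
    exact Subgroup.mem_centralizer_singleton_iff.2 h6
  · rw [← Subgroup.orderOf_coe]
    show ¬ 3 ∣ orderOf ((x : H) * (c0 : H) * (x : H)⁻¹)
    rw [orderOf_conj', Subgroup.orderOf_coe]; exact hc0
  · apply Subtype.ext
    show g * (x : H)⁻¹ * (u * ((x : H) * (g⁻¹ * w * g) * (x : H)⁻¹)) * (g * (x : H)⁻¹)⁻¹ = z
    have hx : u * (x : H) = x * u := hmem x
    calc g * (x : H)⁻¹ * (u * ((x : H) * (g⁻¹ * w * g) * (x : H)⁻¹)) * (g * (x : H)⁻¹)⁻¹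
        = g * (x : H)⁻¹ * ((u * (x : H)) * (g⁻¹ * w * g) * (x : H)⁻¹) * (g * (x : H)⁻¹)⁻¹ := by group
      _ = g * (x : H)⁻¹ * ((x * u) * (g⁻¹ * w * g) * (x : H)⁻¹) * (g * (x : H)⁻¹)⁻¹ := by rw [hx]
      _ = g * u * g⁻¹ * w := by group
      _ = z := by rw [hg, e]
  · rintro ⟨⟨g1, c1⟩, hx⟩
    have hx' : g1 * (u * ((c1 : C) : H)) * g1⁻¹ = z := congrArg Subtype.val hx
    apply Subtype.ext
    have e1 : g * (g1⁻¹ * g)⁻¹ = g1 := by group
    refine Prod.ext e1 ?_
    apply Subtype.ext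
    apply Subtype.ext
    show g1⁻¹ * g * (g⁻¹ * w * g) * (g1⁻¹ * g)⁻¹ = ((c1 : C) : H)
    have h1 : IsPPart 3 z (g1 * u * g1⁻¹) := by
      rw [← hx']; exact ppart_conj _ (hpp _ c1.2)
    have h2 : IsPPart 3 z y := ⟨w, e, c, ho, hw⟩
    have h3 := ppart_unique h1 h2
    have h5 : w = g1 * ((c1 : C) : H) * g1⁻¹ := by
      have : y * w = y * (g1 * ((c1 : C) : H) * g1⁻¹) := by
        rw [e, ← h3, ← hx']; group
      exact mul_left_cancel this
    rw [h5]; group
  · intro x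
    apply Subtype.ext
    show (g * (x : H)⁻¹)⁻¹ * g = x
    group

/-- Burnside: central Sylow 3-subgroup -/
theorem card_reg_of_norm (P : Sylow 3 H) (hP : Nat.card P = 9)
    (hN : Subgroup.normalizer ((P : Subgroup H) : Set H) ≤ Subgroup.centralizer ((P : Subgroup H) : Set H)) :
    9 * Rg H = Nat.card H := by
  haveI : Fact (Nat.Prime 3) := ⟨Nat.prime_three⟩
  have hc := MonoidHom.ker_transferSylow_isComplement' P hN
  have hd := MonoidHom.not_dvd_card_ker_transferSylow P hN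
  set K := (MonoidHom.transferSylow P hN).ker with hK
  have h1 : Nat.card K * Nat.card P = Nat.card H := hc.card_mul
  have h2 : Rg H = Nat.card K := by
    refine Nat.card_congr (Equiv.subtypeEquivRight ?_)
    intro z
    constructor
    · intro hz
      rw [hK, MonoidHom.mem_ker]
      have h3 : orderOf (MonoidHom.transferSylow P hN z) ∣ orderOf z := orderOf_map_dvd _ _
      have h4 : orderOf (MonoidHom.transferSylow P hN z) ∣ 9 := by
        rw [← hP]; exact orderOf_dvd_natCard _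
      rw [← orderOf_eq_one_iff]
      have h5 : Nat.Coprime 9 (orderOf z) := by
        have : Nat.Coprime 3 (orderOf z) := (Nat.Prime.coprime_iff_not_dvd Nat.prime_three).2 hz
        exact Nat.Coprime.pow_left 2 this
      exact Nat.eq_one_of_dvd_coprimes h5 h4 h3
    · intro hz h3
      apply hd
      have h4 : orderOf (⟨z, hz⟩ : K) = orderOf z := Subgroup.orderOf_mk z hz
      exact (h3.trans (h4 ▸ dvd_refl _)).trans (orderOf_dvd_natCard (⟨z, hz⟩ : K))
  rw [h2, ← h1, hP, Nat.mul_comm]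


/-- a Sylow 3-subgroup `3 x 3` on whose basis the normalizer acts by signs -/
structure D9 (P : Sylow 3 H) (a b : H) : Prop where
  cardP : Nat.card P = 9
  cube : ∀ u ∈ (P : Subgroup H), u ^ 3 = 1
  ha : a ∈ (P : Subgroup H)
  hb : b ∈ (P : Subgroup H)
  ha1 : a ≠ 1
  hb1 : b ∉ Subgroup.zpowers a
  norm : ∀ g ∈ Subgroup.normalizer ((P : Subgroup H) : Set H),
    (g * a * g⁻¹ = a ∨ g * a * g⁻¹ = a⁻¹) ∧ (g * b * g⁻¹ = b ∨ g * b * g⁻¹ = b⁻¹)

namespace D9
variable {P : Sylow 3 H} {a b : H}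

theorem comm (h : D9 P a b) {u v : H} (hu : u ∈ (P : Subgroup H)) (hv : v ∈ (P : Subgroup H)) : u * v = v * u := by
  haveI : Fact (Nat.Prime 3) := ⟨Nat.prime_three⟩
  have h1 : IsMulCommutative P := IsPGroup.isMulCommutative_of_card_eq_prime_sq (p := 3) (by rw [h.cardP]; rfl)
  exact congrArg Subtype.val (h1.is_comm.comm (⟨u, hu⟩ : P) ⟨v, hv⟩)

theorem hb0 (h : D9 P a b) : b ≠ 1 := fun e => h.hb1 (e ▸ one_mem _)

theorem mem_ab (h : D9 P a b) (i j : ℕ) : a ^ i * b ^ j ∈ (P : Subgroup H) :=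
  mul_mem (pow_mem h.ha i) (pow_mem h.hb j)

theorem pow_mod (h : D9 P a b) {u : H} (hu : u ∈ (P : Subgroup H)) (i : ℕ) : u ^ (i % 3) = u ^ i := by
  conv_rhs => rw [← Nat.div_add_mod i 3, pow_add, pow_mul, h.cube u hu, one_pow, one_mul]

/-- independence -/
theorem indep (h : D9 P a b) {i j : ℕ} (hi : i < 3) (hj : j < 3) (e : a ^ i * b ^ j = 1) : i = 0 ∧ j = 0 := by
  have hj0 : j = 0 := by
    by_contra hne
    apply h.hb1
    have h1 : b ^ j ∈ Subgroup.zpowers a := by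
      have : b ^ j = (a ^ i)⁻¹ := (inv_eq_of_mul_eq_one_right e).symm
      rw [this]; exact inv_mem (pow_mem (Subgroup.mem_zpowers a) i)
    have h3 := h.cube b h.hb
    have hj' : j = 1 ∨ j = 2 := by omega
    rcases hj' with rfl | rfl
    · simpa using h1
    · have : b = (b ^ 2) ^ 2 := by rw [← pow_mul]; show b = b ^ (3 + 1); rw [pow_add, h3, one_mul, pow_one]
      rw [this]; exact pow_mem h1 2
  subst hj0
  refine ⟨?_, rfl⟩
  rw [pow_zero, mul_one] at e
  by_contra hne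
  have h3 := h.cube a h.ha
  have hi' : i = 1 ∨ i = 2 := by omega
  rcases hi' with rfl | rfl
  · exact h.ha1 (by simpa using e)
  · apply h.ha1
    have : a = (a ^ 2) ^ 2 := by rw [← pow_mul]; show a = a ^ (3 + 1); rw [pow_add, h3, one_mul, pow_one]
    rw [this, e, one_pow]

theorem inj (h : D9 P a b) {i j i' j' : ℕ} (hi : i < 3) (hj : j < 3) (hi' : i' < 3) (hj' : j' < 3)
    (e : a ^ i * b ^ j = a ^ i' * b ^ j') : i = i' ∧ j = j' := by
  have hc : b ^ j * a ^ (3 - i') = a ^ (3 - i') * b ^ j := h.comm (pow_mem h.hb _) (pow_mem h.ha _)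
  have h1 : a ^ ((i + (3 - i')) % 3) * b ^ ((j + (3 - j')) % 3) = 1 := by
    rw [h.pow_mod h.ha, h.pow_mod h.hb]
    calc a ^ (i + (3 - i')) * b ^ (j + (3 - j')) = a ^ i * (a ^ (3 - i') * b ^ j) * b ^ (3 - j') := by
          rw [pow_add, pow_add]; group
      _ = a ^ i * (b ^ j * a ^ (3 - i')) * b ^ (3 - j') := by rw [hc]
      _ = (a ^ i * b ^ j) * (a ^ (3 - i') * b ^ (3 - j')) := by group
      _ = (a ^ i' * b ^ j') * (a ^ (3 - i') * b ^ (3 - j')) := by rw [e]
      _ = a ^ i' * (b ^ j' * a ^ (3 - i')) * b ^ (3 - j') := by group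
      _ = a ^ i' * (a ^ (3 - i') * b ^ j') * b ^ (3 - j') := by
          rw [h.comm (pow_mem h.hb j') (pow_mem h.ha (3 - i'))]
      _ = (a ^ i' * a ^ (3 - i')) * (b ^ j' * b ^ (3 - j')) := by group
      _ = 1 := by
          rw [← pow_add, ← pow_add, Nat.add_sub_cancel' hi'.le, Nat.add_sub_cancel' hj'.le, h.cube a h.ha,
            h.cube b h.hb, one_mul]
  have h2 := h.indep (Nat.mod_lt _ (by norm_num)) (Nat.mod_lt _ (by norm_num)) h1
  omega

/-- all elements -/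
theorem elts (h : D9 P a b) {u : H} (hu : u ∈ (P : Subgroup H)) : ∃ i j : Fin 3, u = a ^ (i : ℕ) * b ^ (j : ℕ) := by
  classical
  let f : Fin 3 × Fin 3 → P := fun x => ⟨a ^ (x.1 : ℕ) * b ^ (x.2 : ℕ), h.mem_ab _ _⟩
  have hf : Function.Injective f := by
    rintro ⟨i, j⟩ ⟨i', j'⟩ e
    have e' : a ^ (i : ℕ) * b ^ (j : ℕ) = a ^ (i' : ℕ) * b ^ (j' : ℕ) := congrArg Subtype.val e
    have := h.inj i.2 j.2 i'.2 j'.2 e'
    exact Prod.ext (Fin.ext this.1) (Fin.ext this.2)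
  have hb : Function.Bijective f := by
    refine (Nat.bijective_iff_injective_and_card f).2 ⟨hf, ?_⟩
    have e9 : Nat.card (Fin 3 × Fin 3) = 9 := by simp
    exact e9.trans h.cardP.symm
  obtain ⟨⟨i, j⟩, hx⟩ := hb.2 ⟨u, hu⟩
  exact ⟨i, j, (congrArg Subtype.val hx).symm⟩

theorem fuse (h : D9 P a b) {u v : H} (hu : u ∈ (P : Subgroup H)) (hv : v ∈ (P : Subgroup H)) (huv : IsConj u v) :
    ∃ n ∈ Subgroup.normalizer ((P : Subgroup H) : Set H), n * u * n⁻¹ = v := by
  haveI : Fact (Nat.Prime 3) := ⟨Nat.prime_three⟩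
  haveI : IsMulCommutative P := IsPGroup.isMulCommutative_of_card_eq_prime_sq (p := 3) (by rw [h.cardP]; rfl)
  obtain ⟨g, hg⟩ := isConj_iff.1 huv
  have hy : (g⁻¹)⁻¹ * u * g⁻¹ ∈ P := by rw [inv_inv, hg]; exact hv
  obtain ⟨n, hn, e⟩ := P.conj_eq_normalizer_conj_of_mem u g⁻¹ hu hy
  refine ⟨n⁻¹, inv_mem hn, ?_⟩
  rw [inv_inv, ← e, inv_inv, hg]

/-- the 3-part of every element is conjugate into `P` -/
theorem cover (P : Sylow 3 H) (z : H) : ∃ u ∈ (P : Subgroup H), ∃ y, IsPPart 3 z y ∧ IsConj u y := by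
  haveI : Fact (Nat.Prime 3) := ⟨Nat.prime_three⟩
  obtain ⟨y, hy⟩ := BlockSecond.exists_isPPart Nat.prime_three z
  obtain ⟨k, hk⟩ : ∃ k, orderOf y = 3 ^ k := hy.choose_spec.2.2.1
  have h1 : IsPGroup 3 (Subgroup.zpowers y) := IsPGroup.of_card (n := k) (by rw [Nat.card_zpowers, hk])
  obtain ⟨Q, hQ⟩ := h1.exists_le_sylow
  obtain ⟨g, hg⟩ := MulAction.exists_smul_eq H Q P
  have h2 : g * y * g⁻¹ ∈ (P : Subgroup H) := by
    rw [← hg]
    show g * y * g⁻¹ ∈ ((g • Q : Sylow 3 H) : Subgroup H)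
    rw [Sylow.coe_subgroup_smul]
    have := Subgroup.smul_mem_pointwise_smul y (MulAut.conj g) (Q : Subgroup H) (hQ (Subgroup.mem_zpowers y))
    simpa using this
  exact ⟨_, h2, y, hy, (isConj_iff.2 ⟨g, rfl⟩ : IsConj y (g * y * g⁻¹)).symm⟩

/-- centralizers of elements with sign-free stabilizer -/
theorem cen_reg (h : D9 P a b) {u : H} (hu : u ∈ (P : Subgroup H))
    (hn : ∀ n ∈ Subgroup.normalizer ((P : Subgroup H) : Set H), n * u = u * n → n * a * n⁻¹ = a ∧ n * b * n⁻¹ = b) :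
    9 * Rg (Subgroup.centralizer ({u} : Set H)) = Nat.card (Subgroup.centralizer ({u} : Set H)) := by
  have hle : (P : Subgroup H) ≤ Subgroup.centralizer ({u} : Set H) := fun v hv =>
    Subgroup.mem_centralizer_singleton_iff.2 (h.comm hv hu)
  refine card_reg_of_norm (P.subtype hle) ?_ ?_
  · rw [← h.cardP]
    show Nat.card ((P : Subgroup H).subgroupOf _) = _
    exact Nat.card_congr (Subgroup.subgroupOfEquivOfLe hle).toEquiv
  · intro n hn'
    have hnP : (n : H) ∈ Subgroup.normalizer ((P : Subgroup H) : Set H) := by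
      rw [Subgroup.mem_normalizer_iff] at hn' ⊢
      intro v
      constructor
      · intro hv
        have := (hn' ⟨v, hle hv⟩).1 (by
          show (⟨v, hle hv⟩ : Subgroup.centralizer ({u} : Set H)) ∈ (P : Subgroup H).subgroupOf _
          exact Subgroup.mem_subgroupOf.2 hv)
        exact this
      · intro hv
        have hv' : v ∈ Subgroup.centralizer ({u} : Set H) := by
          have h1 : (n : H)⁻¹ * ((n : H) * v * (n : H)⁻¹) * (n : H) ∈ Subgroup.centralizer ({u} : Set H) :=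
            mul_mem (mul_mem (inv_mem n.2) (hle hv)) n.2
          have h2 : (n : H)⁻¹ * ((n : H) * v * (n : H)⁻¹) * (n : H) = v := by group
          rwa [h2] at h1
        exact (hn' ⟨v, hv'⟩).2 hv
    obtain ⟨e1, e2⟩ := hn n hnP (Subgroup.mem_centralizer_singleton_iff.1 n.2)
    rw [Subgroup.mem_centralizer_iff]
    rintro v hv
    apply Subtype.ext
    show (v : H) * n = n * v
    obtain ⟨i, j, e⟩ := h.elts (u := (v : H)) hv
    have c1 : Commute (n : H) a := by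
      show (n : H) * a = a * n
      calc (n : H) * a = n * a * (n : H)⁻¹ * n := by group
        _ = a * n := by rw [e1]
    have c2 : Commute (n : H) b := by
      show (n : H) * b = b * n
      calc (n : H) * b = n * b * (n : H)⁻¹ * n := by group
        _ = b * n := by rw [e2]
    rw [e]
    exact ((c1.pow_right _).mul_right (c2.pow_right _)).eq.symm


theorem Z_one_card {u : H} (hu3 : ∃ k, orderOf u = 3 ^ k) (hcen : ∀ x : H, Commute u x) : Nat.card (Z u) = Rg H := by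
  obtain ⟨k, hk⟩ := hu3
  refine Nat.card_congr
    { toFun := fun z => ⟨u⁻¹ * z, ?_⟩
      invFun := fun w => ⟨u * w, u, ⟨w, rfl, hcen w, ⟨k, hk⟩, w.2⟩, IsConj.refl u⟩
      left_inv := fun z => Subtype.ext (by show u * (u⁻¹ * (z : H)) = z; group)
      right_inv := fun w => Subtype.ext (by show u⁻¹ * (u * (w : H)) = w; group) }
  obtain ⟨z, y, ⟨w, e, c, ho, hw⟩, huy⟩ := z
  obtain ⟨g, hg⟩ := isConj_iff.1 huy
  have hy : y = u := by
    rw [← hg]
    have : u * g = g * u := hcen g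
    rw [← this]; group
  show ¬ 3 ∣ orderOf (u⁻¹ * z)
  have : u⁻¹ * z = w := by rw [← e, hy]; group
  rw [this]; exact hw

theorem ord (h : D9 P a b) {u : H} (hu : u ∈ (P : Subgroup H)) : ∃ k, orderOf u = 3 ^ k := by
  have h1 : orderOf u ∣ 3 ^ 1 := by rw [pow_one]; exact orderOf_dvd_of_pow_eq_one (h.cube u hu)
  obtain ⟨k, -, hk⟩ := (Nat.dvd_prime_pow Nat.prime_three).1 h1
  exact ⟨k, hk⟩

theorem conj_a (h : D9 P a b) {n : H} (hn : n ∈ Subgroup.normalizer ((P : Subgroup H) : Set H)) (i : ℕ) :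
    n * a ^ i * n⁻¹ = a ^ i ∨ n * a ^ i * n⁻¹ = a ^ (2 * i) := by
  have h3 := h.cube a h.ha
  have ha' : a⁻¹ = a ^ 2 := by
    rw [inv_eq_iff_mul_eq_one, ← h3]; group
  rcases (h.norm n hn).1 with e | e
  · left
    rw [← conj_pow, e]
  · right
    rw [← conj_pow, e, ha', ← pow_mul]

theorem conj_b (h : D9 P a b) {n : H} (hn : n ∈ Subgroup.normalizer ((P : Subgroup H) : Set H)) (i : ℕ) :
    n * b ^ i * n⁻¹ = b ^ i ∨ n * b ^ i * n⁻¹ = b ^ (2 * i) := by
  have h3 := h.cube b h.hb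
  have ha' : b⁻¹ = b ^ 2 := by
    rw [inv_eq_iff_mul_eq_one, ← h3]; group
  rcases (h.norm n hn).2 with e | e
  · left
    rw [← conj_pow, e]
  · right
    rw [← conj_pow, e, ha', ← pow_mul]

theorem conj_ab (h : D9 P a b) {n : H} (hn : n ∈ Subgroup.normalizer ((P : Subgroup H) : Set H)) (i j : ℕ) :
    ∃ i' j' : ℕ, (i' = i ∨ i' = 2 * i) ∧ (j' = j ∨ j' = 2 * j) ∧ n * (a ^ i * b ^ j) * n⁻¹ = a ^ (i' % 3) * b ^ (j' % 3) := by
  have e : n * (a ^ i * b ^ j) * n⁻¹ = (n * a ^ i * n⁻¹) * (n * b ^ j * n⁻¹) := by group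
  rcases h.conj_a hn i with e1 | e1 <;> rcases h.conj_b hn j with e2 | e2
  · exact ⟨i, j, Or.inl rfl, Or.inl rfl, by rw [e, e1, e2, h.pow_mod h.ha, h.pow_mod h.hb]⟩
  · exact ⟨i, 2 * j, Or.inl rfl, Or.inr rfl, by rw [e, e1, e2, h.pow_mod h.ha, h.pow_mod h.hb]⟩
  · exact ⟨2 * i, j, Or.inr rfl, Or.inl rfl, by rw [e, e1, e2, h.pow_mod h.ha, h.pow_mod h.hb]⟩
  · exact ⟨2 * i, 2 * j, Or.inr rfl, Or.inr rfl, by rw [e, e1, e2, h.pow_mod h.ha, h.pow_mod h.hb]⟩

/-- the case `b` central -/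
theorem central_case (h : D9 P a b) (hcen : ∀ x : H, Commute b x)
    (hs : ∃ s ∈ Subgroup.normalizer ((P : Subgroup H) : Set H), s * a * s⁻¹ = a⁻¹) :
    9 * Rg H = 2 * Nat.card H := by
  classical
  have h3 := h.cube a h.ha
  have ha' : a⁻¹ = a ^ 2 := by
    rw [inv_eq_iff_mul_eq_one, ← h3]; group
  -- bijection
  let f : (Σ e : Fin 2 × Fin 3, Z (a ^ (e.1 : ℕ) * b ^ (e.2 : ℕ))) → H := fun x => x.2.1
  have hinj : Function.Injective f := by
    rintro ⟨⟨i, j⟩, ⟨z, y, hy, hyc⟩⟩ ⟨⟨i', j'⟩, ⟨z', y', hy', hyc'⟩⟩ e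
    have e' : z = z' := e
    subst e'
    have e2 := ppart_unique hy hy'
    subst e2
    obtain ⟨n, hn, hne⟩ := h.fuse (h.mem_ab i j) (h.mem_ab i' j') (hyc.trans hyc'.symm)
    obtain ⟨i1, j1, hi1, hj1, e3⟩ := h.conj_ab hn i j
    have hnb : n * b ^ (j : ℕ) * n⁻¹ = b ^ (j : ℕ) := by
      have : b ^ (j : ℕ) * n = n * b ^ (j : ℕ) := ((hcen n).pow_left _)
      rw [← this]; group
    have key : (i : ℕ) = i' ∧ (j : ℕ) = j' := by
      rcases h.conj_a hn i with e1 | e1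
      · have : a ^ (i : ℕ) * b ^ (j : ℕ) = a ^ (i' : ℕ) * b ^ (j' : ℕ) := by
          rw [← hne]
          have e : n * (a ^ (i : ℕ) * b ^ (j : ℕ)) * n⁻¹ = (n * a ^ (i : ℕ) * n⁻¹) * (n * b ^ (j : ℕ) * n⁻¹) := by group
          rw [e, e1, hnb]
        exact h.inj (by omega) j.2 (by omega) j'.2 this
      · have : a ^ (2 * (i : ℕ)) * b ^ (j : ℕ) = a ^ (i' : ℕ) * b ^ (j' : ℕ) := by
          rw [← hne]
          have e : n * (a ^ (i : ℕ) * b ^ (j : ℕ)) * n⁻¹ = (n * a ^ (i : ℕ) * n⁻¹) * (n * b ^ (j : ℕ) * n⁻¹) := by group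
          rw [e, e1, hnb]
        have h4 := h.inj (by omega) j.2 (by omega) j'.2 this
        omega
    have hi : i = i' := Fin.ext key.1
    have hj : j = j' := Fin.ext key.2
    subst hi; subst hj
    rfl
  have hsurj : Function.Surjective f := by
    intro z
    obtain ⟨u, hu, y, hy, huy⟩ := cover P z
    obtain ⟨i, j, e⟩ := h.elts hu
    by_cases hi : (i : ℕ) < 2
    · exact ⟨⟨(⟨i, hi⟩, j), ⟨z, y, hy, by show IsConj (a ^ (i : ℕ) * b ^ (j : ℕ)) y; rw [← e]; exact huy⟩⟩, rfl⟩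
    · obtain ⟨s, hsN, hsa⟩ := hs
      refine ⟨⟨(1, j), ⟨z, y, hy, ?_⟩⟩, rfl⟩
      show IsConj (a ^ 1 * b ^ (j : ℕ)) y
      refine IsConj.trans ?_ huy
      rw [isConj_iff]
      refine ⟨s, ?_⟩
      have hsb : s * b ^ (j : ℕ) * s⁻¹ = b ^ (j : ℕ) := by
        have : b ^ (j : ℕ) * s = s * b ^ (j : ℕ) := ((hcen s).pow_left _)
        rw [← this]; group
      have hi2 : (i : ℕ) = 2 := by omega
      have e : s * (a ^ 1 * b ^ (j : ℕ)) * s⁻¹ = (s * a * s⁻¹) * (s * b ^ (j : ℕ) * s⁻¹) := by group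
      rw [e, hsa, hsb, ha', ‹u = _›, hi2]
  have hcard : Nat.card H = ∑ e : Fin 2 × Fin 3, Nat.card (Z (a ^ (e.1 : ℕ) * b ^ (e.2 : ℕ))) := by
    rw [← Nat.card_eq_of_bijective f ⟨hinj, hsurj⟩, Nat.card_sigma]
  have h0 : ∀ j : Fin 3, Nat.card (Z (a ^ ((0 : Fin 2) : ℕ) * b ^ (j : ℕ))) = Rg H := by
    intro j
    have e : a ^ ((0 : Fin 2) : ℕ) * b ^ (j : ℕ) = b ^ (j : ℕ) := by simp
    rw [e]
    exact Z_one_card (h.ord (pow_mem h.hb _)) (fun x => (hcen x).pow_left _)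
  have h1 : ∀ j : Fin 3, 9 * Nat.card (Z (a ^ ((1 : Fin 2) : ℕ) * b ^ (j : ℕ))) = Nat.card H := by
    intro j
    have e : a ^ ((1 : Fin 2) : ℕ) * b ^ (j : ℕ) = a ^ 1 * b ^ (j : ℕ) := rfl
    rw [e]
    obtain ⟨k, hk⟩ := h.ord (h.mem_ab 1 j)
    have h5 := card_Z hk
    have h6 := h.cen_reg (h.mem_ab 1 j) (by
      intro n hn hc
      have hb : n * b * n⁻¹ = b := by
        have : b * n = n * b := hcen n
        rw [← this]; group
      refine ⟨?_, hb⟩
      have hbj : n * b ^ (j : ℕ) * n⁻¹ = b ^ (j : ℕ) := by rw [← conj_pow, hb]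
      have h7 : n * (a ^ 1 * b ^ (j : ℕ)) * n⁻¹ = a ^ 1 * b ^ (j : ℕ) := by rw [hc]; group
      have h8 : (n * a * n⁻¹) * b ^ (j : ℕ) = a * b ^ (j : ℕ) := by
        calc (n * a * n⁻¹) * b ^ (j : ℕ) = (n * a * n⁻¹) * (n * b ^ (j : ℕ) * n⁻¹) := by rw [hbj]
          _ = n * (a ^ 1 * b ^ (j : ℕ)) * n⁻¹ := by group
          _ = a * b ^ (j : ℕ) := by rw [h7, pow_one]
      exact mul_right_cancel h8)
    have hpos : 0 < Nat.card (Subgroup.centralizer ({a ^ 1 * b ^ (j : ℕ)} : Set H)) := Nat.card_pos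
    have h9 : (9 * Nat.card (Z (a ^ 1 * b ^ (j : ℕ)))) * Nat.card (Subgroup.centralizer ({a ^ 1 * b ^ (j : ℕ)} : Set H))
        = Nat.card H * Nat.card (Subgroup.centralizer ({a ^ 1 * b ^ (j : ℕ)} : Set H)) := by
      rw [mul_assoc, h5, ← mul_assoc, mul_comm 9, mul_assoc, h6]
    exact Nat.eq_of_mul_eq_mul_right hpos h9
  rw [Fintype.sum_prod_type] at hcard
  rw [Fin.sum_univ_two] at hcard
  simp only [h0] at hcard
  rw [Fin.sum_univ_three, Fin.sum_univ_three] at hcard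
  have := h1 0
  have := h1 1
  have := h1 2
  omega


theorem mem_norm_coe {C : Subgroup H} (hle : (P : Subgroup H) ≤ C) {n : C} :
    n ∈ Subgroup.normalizer (((P.subtype hle : Sylow 3 C) : Subgroup C) : Set C) ↔
      (n : H) ∈ Subgroup.normalizer ((P : Subgroup H) : Set H) := by
  have key : ∀ v : C, v ∈ ((P.subtype hle : Sylow 3 C) : Subgroup C) ↔ (v : H) ∈ (P : Subgroup H) := by
    intro v
    show v ∈ (P : Subgroup H).subgroupOf C ↔ _
    exact Subgroup.mem_subgroupOf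
  constructor
  · intro hn'
    rw [Subgroup.mem_normalizer_iff] at hn' ⊢
    intro v
    constructor
    · intro hv
      have := (hn' ⟨v, hle hv⟩).1 ((key _).2 hv)
      exact (key _).1 this
    · intro hv
      have hv' : v ∈ C := by
        have h1 : (n : H)⁻¹ * ((n : H) * v * (n : H)⁻¹) * (n : H) ∈ C :=
          mul_mem (mul_mem (inv_mem n.2) (hle hv)) n.2
        have h2 : (n : H)⁻¹ * ((n : H) * v * (n : H)⁻¹) * (n : H) = v := by group
        rwa [h2] at h1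
      exact (key _).1 ((hn' ⟨v, hv'⟩).2 ((key _).2 hv))
  · intro hn'
    rw [Subgroup.mem_normalizer_iff] at hn' ⊢
    intro v
    rw [key, key]
    exact hn' v

/-- the centralizer of `b` -/
theorem cen_b (h : D9 P a b)
    (hs : ∃ s ∈ Subgroup.normalizer ((P : Subgroup H) : Set H), s * a * s⁻¹ = a⁻¹ ∧ s * b * s⁻¹ = b) :
    9 * Rg (Subgroup.centralizer ({b} : Set H)) = 2 * Nat.card (Subgroup.centralizer ({b} : Set H)) := by
  set C := Subgroup.centralizer ({b} : Set H) with hC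
  have hle : (P : Subgroup H) ≤ C := fun v hv =>
    Subgroup.mem_centralizer_singleton_iff.2 (h.comm hv h.hb)
  have key : ∀ v : C, v ∈ ((P.subtype hle : Sylow 3 C) : Subgroup C) ↔ (v : H) ∈ (P : Subgroup H) := by
    intro v
    show v ∈ (P : Subgroup H).subgroupOf C ↔ _
    exact Subgroup.mem_subgroupOf
  let a' : C := ⟨a, hle h.ha⟩
  let b' : C := ⟨b, hle h.hb⟩
  have hD : D9 (P.subtype hle) a' b' := by
    refine ⟨?_, ?_, (key _).2 h.ha, (key _).2 h.hb, fun e => h.ha1 (congrArg Subtype.val e), ?_, ?_⟩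
    · refine Eq.trans ?_ h.cardP
      show Nat.card ((P : Subgroup H).subgroupOf _) = _
      exact Nat.card_congr (Subgroup.subgroupOfEquivOfLe hle).toEquiv
    · intro u hu
      exact Subtype.ext (h.cube u ((key u).1 hu))
    · intro hb
      obtain ⟨k, hk⟩ := Subgroup.mem_zpowers_iff.1 hb
      exact h.hb1 (Subgroup.mem_zpowers_iff.2 ⟨k, by
        have := congrArg Subtype.val hk
        simpa using this⟩)
    · intro n hn
      have h1 := h.norm n ((mem_norm_coe hle).1 hn)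
      refine ⟨?_, ?_⟩
      · rcases h1.1 with e | e
        · exact Or.inl (Subtype.ext e)
        · exact Or.inr (Subtype.ext e)
      · rcases h1.2 with e | e
        · exact Or.inl (Subtype.ext e)
        · exact Or.inr (Subtype.ext e)
  refine hD.central_case ?_ ?_
  · intro x
    exact Subtype.ext (Subgroup.mem_centralizer_singleton_iff.1 x.2).symm
  · obtain ⟨s, hs1, hs2, hs3⟩ := hs
    have hsC : s ∈ C := by
      rw [hC, Subgroup.mem_centralizer_singleton_iff]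
      calc s * b = s * b * s⁻¹ * s := by group
        _ = b * s := by rw [hs3]
    exact ⟨⟨s, hsC⟩, (mem_norm_coe hle).2 hs1, Subtype.ext hs2⟩

end D9

end general

end B1

open B1

variable {G : Type u} [Group G] [Finite G]

theorem KH.d9 {P : Sylow 3 G} {a b : G} (h : KH P a b) : D9 P a b :=
  ⟨h.cardP, h.cube, h.ha, h.hb, h.ha1, h.hb1, h.norm⟩

theorem count (P : Sylow 3 G) (a b : G) (h : KH P a b) :
    3 * Nat.card {z : G // ∃ y, IsPPart 3 z y ∧ ∃ g : G, g * y * g⁻¹ ∈ (P : Subgroup G) ∧ g * y * g⁻¹ ∉ Subgroup.zpowers a} = Nat.card G := by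
  classical
  have hD := h.d9
  have h3a := hD.cube a hD.ha
  have h3b := hD.cube b hD.hb
  have ha' : a⁻¹ = a ^ 2 := by rw [inv_eq_iff_mul_eq_one, ← h3a]; group
  have hb' : b⁻¹ = b ^ 2 := by rw [inv_eq_iff_mul_eq_one, ← h3b]; group
  obtain ⟨s, hs, hsa, hsb⟩ := h.s
  obtain ⟨t, ht, hta, htb⟩ := h.t
  -- class of b
  have e1 : 9 * Nat.card (Z b) = 2 * Nat.card G := by
    obtain ⟨k, hk⟩ := hD.ord hD.hb
    have h5 := card_Z hk
    have h6 := hD.cen_b ⟨s, hs, hsa, hsb⟩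
    have hpos : 0 < Nat.card (Subgroup.centralizer ({b} : Set G)) := Nat.card_pos
    refine Nat.eq_of_mul_eq_mul_right hpos ?_
    rw [mul_assoc, h5, ← mul_assoc, mul_comm 9, mul_assoc, h6, mul_assoc, mul_left_comm]
  -- class of a b
  have e2 : 9 * Nat.card (Z (a * b)) = Nat.card G := by
    obtain ⟨k, hk⟩ := hD.ord (mul_mem hD.ha hD.hb)
    have h5 := card_Z hk
    have h6 := hD.cen_reg (mul_mem hD.ha hD.hb) (by
      intro n hn hc
      obtain ⟨h7, h8⟩ := hD.norm n hn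
      have h9 : (n * a * n⁻¹) * (n * b * n⁻¹) = a * b := by
        calc (n * a * n⁻¹) * (n * b * n⁻¹) = n * (a * b) * n⁻¹ := by group
          _ = a * b := by rw [hc]; group
      have hii : ∀ i j : ℕ, i < 3 → j < 3 → a ^ i * b ^ j = a * b → i = 1 ∧ j = 1 := by
        intro i j hi hj e
        have : a ^ i * b ^ j = a ^ 1 * b ^ 1 := by rw [e, pow_one, pow_one]
        exact hD.inj hi hj (by norm_num) (by norm_num) this
      rcases h7 with e | e <;> rcases h8 with e' | e'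
      · exact ⟨e, e'⟩
      · rw [e, e', hb'] at h9
        have := hii 1 2 (by norm_num) (by norm_num) (by rw [pow_one]; exact h9)
        omega
      · rw [e, e', ha'] at h9
        have := hii 2 1 (by norm_num) (by norm_num) (by rw [pow_one]; exact h9)
        omega
      · rw [e, e', ha', hb'] at h9
        have := hii 2 2 (by norm_num) (by norm_num) h9
        omega)
    have hpos : 0 < Nat.card (Subgroup.centralizer ({a * b} : Set G)) := Nat.card_pos
    refine Nat.eq_of_mul_eq_mul_right hpos ?_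
    rw [mul_assoc, h5, ← mul_assoc, mul_comm 9, mul_assoc, h6]
  -- the union
  set W : Set G := {z : G | ∃ y, IsPPart 3 z y ∧ ∃ g : G, g * y * g⁻¹ ∈ (P : Subgroup G) ∧ g * y * g⁻¹ ∉ Subgroup.zpowers a} with hW
  have hWu : W = Z b ∪ Z (a * b) := by
    ext z
    constructor
    · rintro ⟨y, hy, g, hg, hga⟩
      obtain ⟨i, j, e⟩ := hD.elts hg
      have hyc : IsConj (g * y * g⁻¹) y := (isConj_iff.2 ⟨g, rfl⟩ : IsConj y (g * y * g⁻¹)).symm
      have hj : (j : ℕ) ≠ 0 := by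
        intro h0
        apply hga
        rw [e, h0, pow_zero, mul_one]
        exact pow_mem (Subgroup.mem_zpowers a) _
      have hj' : (j : ℕ) = 1 ∨ (j : ℕ) = 2 := by omega
      have hi' : (i : ℕ) = 0 ∨ (i : ℕ) = 1 ∨ (i : ℕ) = 2 := by omega
      rcases hi' with hi | hi | hi
      · left
        refine ⟨y, hy, IsConj.trans ?_ hyc⟩
        rw [e, hi, pow_zero, one_mul]
        rcases hj' with hj | hj
        · rw [hj, pow_one]
        · rw [hj, isConj_iff]
          exact ⟨t, by rw [htb, hb']⟩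
      · right
        refine ⟨y, hy, IsConj.trans ?_ hyc⟩
        rw [e, hi, pow_one]
        rcases hj' with hj | hj
        · rw [hj, pow_one]
        · rw [hj, isConj_iff]
          refine ⟨t, ?_⟩
          calc t * (a * b) * t⁻¹ = (t * a * t⁻¹) * (t * b * t⁻¹) := by group
            _ = _ := by rw [hta, htb, hb']
      · right
        refine ⟨y, hy, IsConj.trans ?_ hyc⟩
        rw [e, hi]
        rcases hj' with hj | hj
        · rw [hj, pow_one, isConj_iff]
          refine ⟨s, ?_⟩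
          calc s * (a * b) * s⁻¹ = (s * a * s⁻¹) * (s * b * s⁻¹) := by group
            _ = _ := by rw [hsa, hsb, ha']
        · rw [hj, isConj_iff]
          refine ⟨s * t, ?_⟩
          calc s * t * (a * b) * (s * t)⁻¹ = (s * (t * a * t⁻¹) * s⁻¹) * (s * (t * b * t⁻¹) * s⁻¹) := by group
            _ = (s * a * s⁻¹) * (s * b * s⁻¹)⁻¹ := by rw [hta, htb]; group
            _ = _ := by rw [hsa, hsb, ha', hb']
    · rintro (⟨y, hy, hyc⟩ | ⟨y, hy, hyc⟩)
      · obtain ⟨g, hg⟩ := isConj_iff.1 hyc.symm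
        exact ⟨y, hy, g, by rw [hg]; exact hD.hb, by rw [hg]; exact hD.hb1⟩
      · obtain ⟨g, hg⟩ := isConj_iff.1 hyc.symm
        refine ⟨y, hy, g, by rw [hg]; exact mul_mem hD.ha hD.hb, ?_⟩
        rw [hg]
        intro hc
        apply hD.hb1
        have : b = a⁻¹ * (a * b) := by group
        rw [this]
        exact mul_mem (inv_mem (Subgroup.mem_zpowers a)) hc
  have hdis : Disjoint (Z b) (Z (a * b)) := by
    rw [Set.disjoint_left]
    rintro z ⟨y, hy, hyc⟩ ⟨y', hy', hyc'⟩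
    have e := ppart_unique hy hy'
    subst e
    obtain ⟨n, hn, hne⟩ := hD.fuse hD.hb (mul_mem hD.ha hD.hb) (hyc.trans hyc'.symm)
    have hne' : n * (a ^ 0 * b ^ 1) * n⁻¹ = a ^ 1 * b ^ 1 := by
      rw [pow_zero, one_mul, pow_one, pow_one]; exact hne
    obtain ⟨i', j', hi', hj', e⟩ := hD.conj_ab hn 0 1
    rw [hne'] at e
    have := hD.inj (by norm_num) (by norm_num) (Nat.mod_lt _ (by norm_num)) (Nat.mod_lt _ (by norm_num)) e
    omega
  have hcard : Nat.card W = Nat.card (Z b) + Nat.card (Z (a * b)) := by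
    rw [hWu, Nat.card_coe_set_eq, Nat.card_coe_set_eq, Nat.card_coe_set_eq]
    exact Set.ncard_union_eq hdis (Set.toFinite _) (Set.toFinite _)
  have hfin : 3 * Nat.card W = Nat.card G := by omega
  exact hfin

end Cfsg.Agent.Lib.H2219
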