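import Cfsg.Agent.Lib.H76RealExt
import Cfsg.Agent.Lib.H76PAct
import Cfsg.Agent.Lib.PermLemma

set_option autoImplicit false

/-!
Real irreducible characters of odd degree (helper76), used by S4581.
-/

namespace Cfsg.Agent.Lib.H76RO

open scoped ComplexConjugate
open Cfsg Cfsg.Agent.Lib Cfsg.Agent.Lib.CharBasic Cfsg.Agent.Lib.Clifford Cfsg.Agent.Lib.CliffordCorr
open Cfsg.Agent.Lib.H76RealExt Cfsg.Agent.Lib.H76Ker

universe u v

instance fact2 : Fact (Nat.Prime 2) := ⟨Nat.prime_two⟩

section Basic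

variable {G : Type u} [Group G]

theorem sum_comp_hom {G' : Type v} [Group G'] [Fintype G] [Fintype G'] {f : G →* G'} (hf : Function.Surjective f)
    (φ : G' → ℂ) : ∑ x : G, φ (f x) = (Nat.card f.ker : ℂ) * ∑ y : G', φ y := by
  classical
  rw [← Finset.sum_fiberwise (s := Finset.univ) (g := f) (f := fun x => φ (f x)), Finset.mul_sum]
  apply Finset.sum_congr rfl
  intro y _
  rw [Finset.sum_congr rfl (g := fun _ => φ y) (by
    intro x hx
    rw [(Finset.mem_filter.mp hx).2]), Finset.sum_const, nsmul_eq_mul]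
  congr 1
  norm_cast
  rw [MonoidHom.card_fiber_eq_of_mem_range f (hf y) (hf 1), Nat.card_eq_fintype_card,
    Fintype.card_subtype]
  congr 1
  ext x
  simp [MonoidHom.mem_ker]

theorem classInner_comp_hom {G' : Type v} [Group G'] [Fintype G] [Fintype G'] {f : G →* G'} (hf : Function.Surjective f)
    (a b : G' → ℂ) : classInner (fun x => a (f x)) (fun x => b (f x)) = classInner a b := by
  unfold classInner
  rw [sum_comp_hom hf (fun y => a y * (starRingEnd ℂ) (b y)), ← mul_assoc]
  congr 1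
  have h1 : Nat.card G = Nat.card f.ker * Nat.card G' := by
    rw [← Subgroup.card_mul_index f.ker, Subgroup.index_ker, f.range_eq_top.mpr hf,
      Subgroup.card_top]
  rw [h1]
  have h2 : (Nat.card f.ker : ℂ) ≠ 0 := by exact_mod_cast Nat.card_pos.ne'
  have h3 : (Nat.card G' : ℂ) ≠ 0 := by exact_mod_cast Nat.card_pos.ne'
  push_cast
  field_simp

/-- real irreducible characters of odd degree -/
def RO (χ : G → ℂ) : Prop :=
  IsIrrCharacter G χ ∧ (∀ g, conj (χ g) = χ g) ∧ ∃ d : ℕ, Odd d ∧ χ 1 = d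

/-- the complex valued function of a sign character -/
def sg (ν : G →* ℤˣ) : G → ℂ := fun x => (((ν x : ℤˣ) : ℤ) : ℂ)

theorem sg_apply (ν : G →* ℤˣ) (x : G) : sg ν x = (((ν x : ℤˣ) : ℤ) : ℂ) := rfl

theorem sg_eq_iff (ν : G →* ℤˣ) {G' : Type v} [Group G'] (μ : G' →* ℤˣ) (x : G) (y : G') :
    sg ν x = sg μ y ↔ ν x = μ y := by
  rw [sg_apply, sg_apply]
  constructor
  · intro h
    apply Units.ext
    exact_mod_cast h
  · intro h; rw [h]

theorem isIrr_sg (ν : G →* ℤˣ) : IsIrrCharacter G (sg ν) := by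
  have h := isIrrCharacter_of_unitsHom ((Units.map (Int.castRingHom ℂ).toMonoidHom).comp ν)
  exact h

theorem conj_sg (ν : G →* ℤˣ) (x : G) : conj (sg ν x) = sg ν x := by
  rw [sg_apply, map_intCast]

theorem sg_one (ν : G →* ℤˣ) : sg ν 1 = 1 := by rw [sg_apply, map_one]; simp

theorem sg_mul_self (ν : G →* ℤˣ) (x : G) : sg ν x * sg ν x = 1 := by
  rw [sg_apply]
  have h : ν x * ν x = 1 := by
    rcases Int.units_eq_one_or (ν x) with h | h <;> rw [h] <;> rfl
  have h2 := congrArg (fun u : ℤˣ => ((u : ℤ) : ℂ)) h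
  simp only [Units.val_mul, Units.val_one] at h2
  push_cast at h2
  exact h2

theorem sg_mul (ν μ : G →* ℤˣ) (x : G) : sg (ν * μ) x = sg ν x * sg μ x := by
  rw [sg_apply, sg_apply, sg_apply, MonoidHom.mul_apply]
  push_cast; rfl

/-- every real linear character is a sign character -/
theorem exists_sg [Finite G] {α : G → ℂ} (hα : IsIrrCharacter G α) (h1 : α 1 = 1) (hr : ∀ g, conj (α g) = α g) :
    ∃ ν : G →* ℤˣ, α = sg ν := by
  classical
  obtain ⟨f, hf⟩ := hα.isCharacter.exists_hom h1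
  have hsq : ∀ g, α g * α g = 1 := by
    intro g
    have := hα.isCharacter.mul_conj_of_linear h1 g
    rwa [hr] at this
  have hor : ∀ g, α g = 1 ∨ α g = -1 := fun g => mul_self_eq_one_iff.1 (hsq g)
  have hm : ∀ g h, α (g * h) = α g * α h := fun g h => by
    have := hα.isCharacter.map_mul_of_linear h1 g h
    exact this
  refine ⟨{ toFun := fun g => if α g = 1 then 1 else -1, map_one' := by rw [if_pos h1], map_mul' := ?_ }, ?_⟩
  · intro g h
    simp only [hm]
    have hne : (-1 : ℂ) ≠ 1 := by norm_num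
    rcases hor g with h2 | h2 <;> rcases hor h with h3 | h3 <;> rw [h2, h3] <;> simp [hne]
  · funext g
    rw [sg_apply]
    have hne : (-1 : ℂ) ≠ 1 := by norm_num
    rcases hor g with h2 | h2
    · simp [h2]
    · simp [h2, hne]

/-- odd multiplicity -/
def OM [Fintype G] (Φ ψ : G → ℂ) : Prop := ∃ n : ℕ, Odd n ∧ classInner Φ ψ = n

theorem OM.ne_zero [Fintype G] {Φ ψ : G → ℂ} (h : OM Φ ψ) : classInner Φ ψ ≠ 0 := by
  obtain ⟨n, hn, h⟩ := h
  rw [h]
  intro h2
  have : n = 0 := by exact_mod_cast h2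
  subst this
  exact absurd hn (by decide)

theorem conj_indFun [Fintype G] (H : Subgroup G) (θ : H → ℂ) (g : G) :
    conj (indFun H θ g) = indFun H (fun x => conj (θ x)) g := by
  rw [IndFun.indFun_apply, IndFun.indFun_apply, map_mul, map_sum, map_inv₀, map_natCast]
  congr 1
  apply Finset.sum_congr rfl
  intro x _
  by_cases hx : x⁻¹ * g * x ∈ H
  · rw [IndFun.extendByZero_mem H θ hx, IndFun.extendByZero_mem H _ hx]
  · rw [IndFun.extendByZero_not_mem H θ hx, IndFun.extendByZero_not_mem H _ hx, map_zero]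

/-- a real character of odd degree has a real irreducible constituent of odd degree with odd multiplicity -/
theorem exists_real_odd [Fintype G] {Φ : G → ℂ} (hΦ : IsCharacter G Φ) (hr : ∀ g, conj (Φ g) = Φ g) {d : ℕ}
    (hd : Φ 1 = d) (hodd : Odd d) : ∃ χ : G → ℂ, RO χ ∧ OM Φ χ := by
  classical
  have hm : ∀ ψ : IrrCharacter G, ∃ m : ℕ, classInner Φ (ψ : G → ℂ) = m := fun ψ => hΦ.classInner_nat ψ.2.isCharacter
  have hn : ∀ ψ : IrrCharacter G, ∃ m : ℕ, (ψ : G → ℂ) 1 = m := fun ψ => ψ.2.isCharacter.exists_degree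
  choose m hm using hm
  choose n hn using hn
  have h1 := hΦ.isClassFunction.expansion_apply 1
  have h2 : d = ∑ ψ : IrrCharacter G, m ψ * n ψ := by
    have : (d : ℂ) = ((∑ ψ : IrrCharacter G, m ψ * n ψ : ℕ) : ℂ) := by
      rw [← hd, h1]; push_cast
      apply Finset.sum_congr rfl
      intro ψ _
      rw [hm, hn]
    exact_mod_cast this
  let σ : IrrCharacter G → IrrCharacter G := fun ψ => ⟨fun g => conj ((ψ : G → ℂ) g), ψ.2.conj⟩
  obtain ⟨ψ, -, h4, h5⟩ := exists_fixed_odd (Finset.univ : Finset (IrrCharacter G)) σ (fun _ _ => Finset.mem_univ _)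
    (fun ψ _ => Subtype.ext (by funext g; simp [σ])) (fun ψ => m ψ * n ψ) (fun ψ _ => by
      have e1 : m (σ ψ) = m ψ := by
        have h3 : Φ = fun g => conj (Φ g) := funext (fun g => (hr g).symm)
        have h4 : classInner Φ (σ ψ : G → ℂ) = classInner Φ (ψ : G → ℂ) := by
          conv_lhs => rw [h3]
          show classInner (fun g => conj (Φ g)) (fun g => conj ((ψ : G → ℂ) g)) = _
          rw [classInner_conj_conj]
          obtain ⟨k, hk⟩ := hΦ.classInner_nat ψ.2.isCharacter
          rw [← conj_classInner, hk, map_natCast]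
        rw [hm, hm] at h4
        exact_mod_cast h4
      have e2 : n (σ ψ) = n ψ := by
        have h4 : ((σ ψ : G → ℂ)) 1 = (ψ : G → ℂ) 1 := by
          show conj ((ψ : G → ℂ) 1) = _
          rw [hn, map_natCast]
        rw [hn, hn] at h4
        exact_mod_cast h4
      simp only [e1, e2]) (by rw [← h2]; exact hodd)
  rw [Nat.odd_mul] at h5
  exact ⟨ψ, ⟨ψ.2, fun g => congrFun (congrArg Subtype.val h4) g, n ψ, h5.2, hn ψ⟩, m ψ, h5.1, hm ψ⟩

/-- real characters of odd degree are trivial on normal subgroups of odd order -/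
theorem trivial_on_odd [Finite G] {χ : G → ℂ} (hχ : RO χ) (V : Subgroup G) [V.Normal] (hV : Odd (Nat.card V)) {g : G}
    (hg : g ∈ V) : χ g = χ 1 := by
  classical
  have := Fintype.ofFinite G
  have := Fintype.ofFinite V
  obtain ⟨h1, h2, d, hd, hd1⟩ := hχ
  obtain ⟨θ, h3, h4⟩ := exists_real_odd (h1.isCharacter.restrict V) (fun x => h2 x) (d := d) hd1 hd
  have h5 := Cfsg.Agent.Lib.PermLemma.real_irr_of_odd hV ⟨θ, h3.1⟩ (fun g => by
    have := h3.2.1 g
    exact Complex.conj_eq_iff_im.1 this)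
  have h6 : θ = 1 := h5
  rw [h6] at h4
  exact eq_one_of_trivial_constituent h1 V h4.ne_zero hg

/-- the restriction of a real character of odd degree along a homomorphism from a `2`-group has a sign character
with odd multiplicity. -/
theorem exists_nu {P : Type v} [Group P] [Fintype P] (hP : IsPGroup 2 P) (i : P →* G) {χ : G → ℂ}
    (hχ : IsCharacter G χ) (hr : ∀ g, conj (χ g) = χ g) {d : ℕ} (hd : χ 1 = d) (hodd : Odd d) :
    ∃ ν : P →* ℤˣ, OM (fun x => χ (i x)) (sg ν) := by
  obtain ⟨α, h1, h2⟩ := exists_real_odd (hχ.comp i) (fun x => hr _) (d := d) (by simp only [map_one]; exact hd) hodd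
  obtain ⟨h3, h4, e, he, h5⟩ := h1
  have h6 := linear_of_pgroup hP h3 h5 (fun h => by
    have := he
    rw [← Nat.not_even_iff_odd, even_iff_two_dvd] at this
    exact this h)
  subst h6
  obtain ⟨ν, rfl⟩ := exists_sg h3 (by rw [h5]; simp) h4
  exact ⟨ν, h2⟩

end Basic

end Cfsg.Agent.Lib.H76RO
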