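import Cfsg.Agent.Lib.IndFun
import Cfsg.Agent.Lib.StructConst
import Cfsg.Agent.Lib.SylowExtend
import Cfsg.Agent.Lib.H76RO
import Cfsg.Agent.Lib.H25Nine

/-!
# Normal subgroups from generalized characters of norm three (helper25)
-/

set_option autoImplicit false
set_option linter.all false
set_option maxHeartbeats 400000

namespace Cfsg.Agent.Lib.H25Tri

open Cfsg Cfsg.Agent.Lib.CharBasic
open Cfsg.Agent.Lib.IndFun hiding classInner_add_left classInner_add_right classInner_sub_left classInner_sub_right classInner_smul_left classInner_smul_right classInner_neg_left classInner_neg_right classInner_sum_left classInner_sum_right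
open scoped ComplexConjugate

universe u v

theorem norm3 {ι : Type*} [Fintype ι] (n : ι → ℤ) (i0 : ι) (h0 : n i0 = 1) (h3 : ∑ i, n i ^ 2 = 3) :
    ∃ a b : ι, a ≠ i0 ∧ b ≠ i0 ∧ a ≠ b ∧ n a ^ 2 = 1 ∧ n b ^ 2 = 1 ∧
      ∀ j, j ≠ i0 → j ≠ a → j ≠ b → n j = 0 := by
  classical
  have h1 : ∑ i ∈ Finset.univ.erase i0, n i ^ 2 = 2 := by
    have := Finset.add_sum_erase Finset.univ (fun i => n i ^ 2) (Finset.mem_univ i0)
    simp only [h0] at this
    linarith
  obtain ⟨a, ha, ha0⟩ := Finset.exists_ne_zero_of_sum_ne_zero (by rw [h1]; norm_num : ∑ i ∈ Finset.univ.erase i0, n i ^ 2 ≠ 0)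
  have ha1 : a ≠ i0 := (Finset.mem_erase.mp ha).1
  have h2 := Finset.add_sum_erase _ (fun i => n i ^ 2) ha
  rw [h1] at h2
  have h4 : 0 ≤ ∑ i ∈ (Finset.univ.erase i0).erase a, n i ^ 2 := Finset.sum_nonneg fun i _ => sq_nonneg _
  have hna : n a ^ 2 = 1 := by
    have h5 : n a ^ 2 ≤ 2 := by
      have : n a ^ 2 + ∑ i ∈ (Finset.univ.erase i0).erase a, n i ^ 2 = 2 := h2
      linarith
    have h6 : n a ≠ 0 := fun h => ha0 (by simp [h])
    have h7 : n a ≤ 1 := by nlinarith
    have h8 : -1 ≤ n a := by nlinarith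
    have h9 : n a = 1 ∨ n a = -1 := by omega
    rcases h9 with h | h <;> rw [h] <;> norm_num
  have h5 : ∑ i ∈ (Finset.univ.erase i0).erase a, n i ^ 2 = 1 := by
    have : n a ^ 2 + ∑ i ∈ (Finset.univ.erase i0).erase a, n i ^ 2 = 2 := h2
    linarith
  obtain ⟨b, hb, hb0⟩ := Finset.exists_ne_zero_of_sum_ne_zero (by rw [h5]; norm_num : ∑ i ∈ (Finset.univ.erase i0).erase a, n i ^ 2 ≠ 0)
  have hb1 := (Finset.mem_erase.mp hb).1
  have hb2 := (Finset.mem_erase.mp (Finset.mem_erase.mp hb).2).1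
  have h6 := Finset.add_sum_erase _ (fun i => n i ^ 2) hb
  rw [h5] at h6
  have h7 : 0 ≤ ∑ i ∈ ((Finset.univ.erase i0).erase a).erase b, n i ^ 2 := Finset.sum_nonneg fun i _ => sq_nonneg _
  have hnb : n b ^ 2 = 1 := by
    have h8 : n b ≠ 0 := fun h => hb0 (by simp [h])
    have h9 : n b ^ 2 + ∑ i ∈ ((Finset.univ.erase i0).erase a).erase b, n i ^ 2 = 1 := h6
    have h10 : 0 < n b ^ 2 := by positivity
    linarith
  have h8 : ∑ i ∈ ((Finset.univ.erase i0).erase a).erase b, n i ^ 2 = 0 := by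
    have h9 : n b ^ 2 + ∑ i ∈ ((Finset.univ.erase i0).erase a).erase b, n i ^ 2 = 1 := h6
    linarith
  rw [Finset.sum_eq_zero_iff_of_nonneg (fun i _ => sq_nonneg _)] at h8
  refine ⟨a, b, ha1, hb2, fun h => hb1 h.symm, hna, hnb, fun j h1 h2 h3 => ?_⟩
  have := h8 j (by simp [h1, h2, h3])
  exact pow_eq_zero_iff (by norm_num) |>.mp this

/-- the class function of norm three on a group of order six -/
noncomputable def f3 {Q : Type v} [Group Q] (c : Q) (x : Q) : ℂ := by
  classical exact if x = c ∨ x = c⁻¹ then 3 else 0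

section Q

variable {Q : Type v} [Group Q] [Finite Q] {c s : Q}

theorem conj_c (hQ : Nat.card Q = 6) (hc : orderOf c = 3) (g : Q) : g * c * g⁻¹ = c ∨ g * c * g⁻¹ = c⁻¹ := by
  have h1 : (Subgroup.zpowers c).index = 2 := by
    have := (Subgroup.zpowers c).card_mul_index
    rw [Nat.card_zpowers, hc, hQ] at this
    omega
  have h2 : (Subgroup.zpowers c).Normal := Subgroup.normal_of_index_eq_two h1
  have h3 := h2.conj_mem c (Subgroup.mem_zpowers c) g
  obtain ⟨k, hk⟩ := Subgroup.mem_zpowers_iff.mp h3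
  rw [← hk]
  have h4 : c ^ (k % 3) = c ^ k := by
    have h5 := zpow_mod_orderOf c k
    rw [hc] at h5
    exact_mod_cast h5
  have h6 : k % 3 = 0 ∨ k % 3 = 1 ∨ k % 3 = 2 := by omega
  rcases h6 with h | h | h
  · exfalso
    rw [h, zpow_zero] at h4
    rw [← h4] at hk
    have : c = 1 := by
      have := congrArg (fun x => g⁻¹ * x * g) hk
      simpa [mul_assoc] using this.symm
    rw [this, orderOf_one] at hc
    omega
  · left; rw [← h4, h, zpow_one]
  · right
    rw [← h4, h]
    have : c ^ 3 = 1 := by rw [← hc]; exact pow_orderOf_eq_one c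
    rw [eq_inv_iff_mul_eq_one]
    rw [show (2 : ℤ) = ((2 : ℕ) : ℤ) by norm_num, zpow_natCast, ← pow_succ, this]

theorem f3_class (hQ : Nat.card Q = 6) (hc : orderOf c = 3) : IsClassFunction Q (f3 c) := by
  classical
  intro x g
  unfold f3
  have key : ∀ y g : Q, (y = c ∨ y = c⁻¹) → (g * y * g⁻¹ = c ∨ g * y * g⁻¹ = c⁻¹) := by
    intro y g hy
    rcases hy with rfl | rfl
    · exact conj_c hQ hc g
    · rcases conj_c hQ hc g with h | h
      · right
        have : g * c⁻¹ * g⁻¹ = (g * c * g⁻¹)⁻¹ := by group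
        rw [this, h]
      · left
        have : g * c⁻¹ * g⁻¹ = (g * c * g⁻¹)⁻¹ := by group
        rw [this, h, inv_inv]
  have h : (g * x * g⁻¹ = c ∨ g * x * g⁻¹ = c⁻¹) ↔ (x = c ∨ x = c⁻¹) := by
    constructor
    · intro h
      have := key _ g⁻¹ h
      simpa [mul_assoc] using this
    · exact key x g
  simp only [h]

theorem inner_f3 [Fintype Q] (hc : orderOf c = 3) (φ : Q → ℂ) :
    classInner (f3 c) φ = (Nat.card Q : ℂ)⁻¹ * (3 * conj (φ c) + 3 * conj (φ c⁻¹)) := by
  classical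
  unfold classInner
  congr 1
  have hne : c ≠ c⁻¹ := by
    intro h
    have h1 : c ^ 2 = 1 := by rw [sq]; nth_rewrite 1 [h]; exact inv_mul_cancel c
    have h2 := orderOf_dvd_of_pow_eq_one h1
    rw [hc] at h2
    omega
  have : ∀ g : Q, f3 c g * conj (φ g) = (if g = c then 3 * conj (φ g) else 0) + (if g = c⁻¹ then 3 * conj (φ g) else 0) := by
    intro g
    unfold f3
    by_cases h1 : g = c
    · subst h1; simp [hne]
    · by_cases h2 : g = c⁻¹
      · simp [h1, h2, hne.symm]
      · simp [h1, h2]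
  rw [Finset.sum_congr rfl fun g _ => this g, Finset.sum_add_distrib]
  simp

end Q

variable {G : Type u} [Group G]

theorem key [Finite G] (H : Subgroup G) {Q : Type v} [Group Q] [Finite Q] (π : H →* Q)
    (hπ : Function.Surjective π) (hQ : Nat.card Q = 6) (c s : Q) (hc : orderOf c = 3) (hs : s * c * s⁻¹ = c⁻¹)
    (hTI : ∀ h : H, (π h = c ∨ π h = c⁻¹) → ∀ g : G, g * (h : G) * g⁻¹ ∈ H → g ∈ H)
    (i : H) (hi : π i = 1) (hi2 : i * i = 1)
    (hno : ∀ x y : G, IsConj (i : G) x → IsConj (i : G) y → ∀ h : H, (h : G) = x * y →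
      ¬ (π h = c ∨ π h = c⁻¹)) :
    ∃ K : Subgroup G, K.Normal ∧ (i : G) ∈ K ∧ ∀ h : H, π h = c → (h : G) ∉ K := by
  classical
  have := Fintype.ofFinite G
  have := Fintype.ofFinite Q
  have := Fintype.ofFinite H
  have hc1 : c ≠ 1 := by rintro rfl; rw [orderOf_one] at hc; omega
  set f : H → ℂ := fun h => f3 c (π h) with hf
  have hf0 : ∀ h : H, ¬ (π h = c ∨ π h = c⁻¹) → f h = 0 := by
    intro h hh
    simp only [hf, f3, if_neg hh]
  set T : Set G := {g | ∃ h : H, (h : G) = g ∧ (π h = c ∨ π h = c⁻¹)} with hT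
  have hfT : ∀ x : H, (x : G) ∉ T → f x = 0 := by
    intro x hx
    exact hf0 x fun h => hx ⟨x, rfl, h⟩
  have hfc : IsClassFunction H f := by
    intro x g
    simp only [hf, map_mul, map_inv]
    exact f3_class hQ hc (π x) (π g)
  have hTI' : ∀ g : G, g ∉ H → ∀ t ∈ T, g * t * g⁻¹ ∈ T → t = 1 := by
    rintro g hg t ⟨h, rfl, hh⟩ ⟨h', h1, h2⟩
    exact absurd (hTI h hh g (by rw [← h1]; exact h'.2)) hg
  have hf1 : f 1 = 0 := hf0 1 (by rw [map_one]; rintro (h | h); exacts [hc1 h.symm, hc1 (inv_eq_one.mp h.symm)])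
  set F : G → ℂ := indFun H f with hF
  have hFc : IsClassFunction G F := indFun_isClassFunction H f
  have hcc : IsConj c c⁻¹ := isConj_iff.mpr ⟨s, hs⟩
  -- inner products
  have hff : classInner F F = 3 := by
    rw [hF, classInner_indFun_ti T H hTI' f f hfT hfc hfT hf1]
    rw [hf, H76RO.classInner_comp_hom hπ, inner_f3 hc, hQ]
    simp only [f3]
    simp
    have h3 : (starRingEnd ℂ) (3 : ℂ) = 3 := map_ofNat _ 3
    rw [h3]
    norm_num
  have hF1 : classInner F (fun _ => 1) = 1 := by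
    rw [hF, frobenius_reciprocity _ f _ isIrrCharacter_fun_one.isClassFunction]
    have := H76RO.classInner_comp_hom hπ (f3 c) (fun _ : Q => (1 : ℂ))
    rw [inner_f3 hc, hQ] at this
    refine Eq.trans this ?_
    norm_num
  have hint : ∀ χ : IrrCharacter G, ∃ n : ℤ, classInner F (χ : G → ℂ) = n := by
    intro χ
    rw [hF, frobenius_reciprocity _ f _ χ.2.isClassFunction]
    have h1 := (f3_class hQ hc).expansion
    have h2 : f = ∑ φ : IrrCharacter Q, classInner (f3 c) (φ : Q → ℂ) • (fun x : H => (φ : Q → ℂ) (π x)) := by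
      funext x
      have := congrFun h1 (π x)
      simp only [hf]
      rw [this]
      simp [Finset.sum_apply]
    rw [h2, classInner_sum_left]
    have h3 : ∀ φ : IrrCharacter Q, ∃ n : ℤ, classInner (f3 c) (φ : Q → ℂ) = n := by
      intro φ
      rw [inner_f3 hc, hQ]
      obtain ⟨d, hd⟩ := φ.2.isCharacter.exists_degree
      obtain ⟨n, hn, -⟩ := H25Nine.real_three φ.2.isCharacter hc hcc hd
      refine ⟨n, ?_⟩
      have h4 : (φ : Q → ℂ) c⁻¹ = (φ : Q → ℂ) c := (φ.2.isClassFunction.conj_eq hcc).symm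
      rw [h4, hn, map_intCast]
      push_cast
      ring
    choose n1 hn1 using h3
    have h5 : ∀ φ : IrrCharacter Q, ∃ n : ℕ, classInner (fun x : H => (φ : Q → ℂ) (π x)) (fun h : H => (χ : G → ℂ) h) = n := by
      intro φ
      exact (φ.2.isCharacter.comp π).classInner_nat (χ.2.isCharacter.restrict H)
    choose n2 hn2 using h5
    refine ⟨∑ φ, n1 φ * n2 φ, ?_⟩
    push_cast
    apply Finset.sum_congr rfl
    intro φ _
    rw [classInner_smul_left, hn1, hn2]
  choose n hn using hint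
  set o : IrrCharacter G := ⟨fun _ => 1, isIrrCharacter_fun_one⟩ with ho
  have hn0 : n o = 1 := by
    have := hn o
    rw [show ((o : IrrCharacter G) : G → ℂ) = fun _ => 1 from rfl, hF1] at this
    exact_mod_cast this.symm
  have hn3 : ∑ χ, n χ ^ 2 = 3 := by
    have h1 := hFc.classInner_eq_sum F
    rw [hff] at h1
    have h2 : (3 : ℂ) = ((∑ χ, n χ ^ 2 : ℤ) : ℂ) := by
      rw [h1]
      push_cast
      apply Finset.sum_congr rfl
      intro χ _
      rw [hn, map_intCast, sq]
    exact_mod_cast h2.symm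
  obtain ⟨a, b, ha0, hb0, hab, ha, hb, hrest⟩ := norm3 n o hn0 hn3
  -- sums
  have hsum : ∀ w : IrrCharacter G → ℂ, ∑ χ, (n χ : ℂ) * w χ = w o + n a * w a + n b * w b := by
    intro w
    have h1 : ∀ χ ∈ Finset.univ, χ ∉ ({o, a, b} : Finset (IrrCharacter G)) → (n χ : ℂ) * w χ = 0 := by
      intro χ _ hχ
      simp only [Finset.mem_insert, Finset.mem_singleton, not_or] at hχ
      rw [hrest χ hχ.1 hχ.2.1 hχ.2.2]
      simp
    rw [← Finset.sum_subset (Finset.subset_univ ({o, a, b} : Finset (IrrCharacter G))) (by simpa using h1)]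
    rw [Finset.sum_insert (by simp [ha0.symm, hb0.symm]), Finset.sum_insert (by simp [hab]), Finset.sum_singleton, hn0]
    push_cast
    ring
  have hval : ∀ g, F g = 1 + n a * (a : G → ℂ) g + n b * (b : G → ℂ) g := by
    intro g
    rw [hFc.expansion_apply g]
    simp only [hn]
    exact hsum fun χ => (χ : G → ℂ) g
  have hFone : F 1 = 0 := by rw [hF, indFun_one, hf1, mul_zero]
  have hFzero : ∀ g : G, (∀ x : G, ∀ h : H, (h : G) = x⁻¹ * g * x → ¬ (π h = c ∨ π h = c⁻¹)) → F g = 0 := by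
    intro g hg
    rw [hF, indFun_apply]
    apply mul_eq_zero_of_right
    apply Finset.sum_eq_zero
    intro x _
    by_cases hx : x⁻¹ * g * x ∈ H
    · rw [extendByZero_mem H f hx]
      exact hf0 _ (hg x ⟨_, hx⟩ rfl)
    · exact extendByZero_not_mem H f hx
  have hFi : F (i : G) = 0 := by
    apply hFzero
    intro x h hh hh'
    have h1 : x ∈ H := by
      apply hTI h hh' x
      rw [hh, show x * (x⁻¹ * (i : G) * x) * x⁻¹ = (i : G) by group]
      exact i.2
    have h2 : h = (⟨x, h1⟩ : H)⁻¹ * i * ⟨x, h1⟩ := Subtype.ext (by rw [hh]; rfl)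
    rw [h2, map_mul, map_mul, hi, mul_one, map_inv, inv_mul_cancel] at hh'
    rcases hh' with h | h
    · exact hc1 h.symm
    · exact hc1 (inv_eq_one.mp h.symm)
  have hii : (i : G)⁻¹ = i := by
    rw [inv_eq_iff_mul_eq_one]
    exact congrArg Subtype.val hi2
  have hsc : ∑ χ : IrrCharacter G, (n χ : ℂ) * ((χ : G → ℂ) i * conj ((χ : G → ℂ) i) / (χ : G → ℂ) 1) = 0 := by
    have h1 := StructConst.sum_sum_conj F (i : G) (i : G)
    have h2 : ∑ a : G, ∑ b : G, F (a * (i : G) * a⁻¹ * (b * (i : G) * b⁻¹)⁻¹) = 0 := by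
      apply Finset.sum_eq_zero; intro a _
      apply Finset.sum_eq_zero; intro b _
      apply hFzero
      intro x h hh
      apply hno (x⁻¹ * (a * (i : G) * a⁻¹) * x) (x⁻¹ * (b * (i : G) * b⁻¹) * x)
      · exact isConj_iff.mpr ⟨x⁻¹ * a, by group⟩
      · exact isConj_iff.mpr ⟨x⁻¹ * b, by group⟩
      · rw [hh]
        have : (b * (i : G) * b⁻¹)⁻¹ = b * (i : G) * b⁻¹ := by
          rw [show (b * (i : G) * b⁻¹)⁻¹ = b * (i : G)⁻¹ * b⁻¹ by group, hii]
        rw [this]
        group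
    rw [h2] at h1
    have h3 : (Nat.card G : ℂ) ≠ 0 := by exact_mod_cast Nat.card_pos.ne'
    have h4 := (mul_eq_zero.mp h1.symm).resolve_left (pow_ne_zero 2 h3)
    rw [← h4]
    apply Finset.sum_congr rfl
    intro χ _
    rw [hn]
    ring
  rw [hsum] at hsc
  have h1 := hval 1
  rw [hFone] at h1
  have h2 := hval (i : G)
  rw [hFi] at h2
  obtain ⟨da, hda, hda'⟩ := a.2.exists_degree
  obtain ⟨db, hdb, hdb'⟩ := b.2.exists_degree
  have hra : conj ((a : G → ℂ) i) = (a : G → ℂ) i := by rw [← a.2.inv, hii]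
  have hrb : conj ((b : G → ℂ) i) = (b : G → ℂ) i := by rw [← b.2.inv, hii]
  rw [hda', hdb'] at h1
  simp only [hra, hrb, hda', hdb'] at hsc
  have ho1 : ∀ g, (o : G → ℂ) g = 1 := fun _ => rfl
  simp only [ho1, map_one] at hsc
  have hna : n a = 1 ∨ n a = -1 := mul_self_eq_one_iff.mp (by rw [← sq]; exact ha)
  have hnb : n b = 1 ∨ n b = -1 := mul_self_eq_one_iff.mp (by rw [← sq]; exact hb)
  have hda0 : (da : ℂ) ≠ 0 := by exact_mod_cast hda.ne'
  have hdb0 : (db : ℂ) ≠ 0 := by exact_mod_cast hdb.ne'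
  have hfin : (a : G → ℂ) i = da ∧ (b : G → ℂ) i = db := by
    have num : ∀ (d e : ℂ) (y z : ℂ), d ≠ 0 → e ≠ 0 → 1 + d - e = 0 → 1 + y - z = 0 →
        1 + y * y / d - z * z / e = 0 → y = d ∧ z = e := by
      intro d e y z hd he h1 h2 h3
      have h4 : e = 1 + d := by linear_combination -h1
      have h5 : z = 1 + y := by linear_combination -h2
      subst h4 h5
      field_simp at h3
      have h6 : (y - d) ^ 2 = 0 := by linear_combination h3
      have h7 : y - d = 0 := pow_eq_zero_iff (by norm_num) |>.mp h6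
      exact ⟨by linear_combination h7, by linear_combination h7⟩
    rcases hna with hna | hna <;> rcases hnb with hnb | hnb <;> rw [hna, hnb] at h1 h2 hsc <;> push_cast at h1 h2 hsc
    · exfalso
      have : (0 : ℝ) = 1 + 1 * da + 1 * db := by exact_mod_cast h1
      have h8 : (0 : ℝ) < da := by exact_mod_cast hda
      have h9 : (0 : ℝ) < db := by exact_mod_cast hdb
      linarith
    · exact num da db ((a : G → ℂ) i) ((b : G → ℂ) i) hda0 hdb0 (by linear_combination -h1) (by linear_combination -h2) (by linear_combination hsc)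
    · have := num db da ((b : G → ℂ) i) ((a : G → ℂ) i) hdb0 hda0 (by linear_combination -h1) (by linear_combination -h2) (by linear_combination hsc)
      exact ⟨this.2, this.1⟩
    · exfalso
      have h8 : (da : ℂ) + db = 1 := by linear_combination h1
      have h9 : da + db = 1 := by exact_mod_cast h8
      omega
  refine ⟨SylowExtend.kerSub {a, b}, inferInstance, ?_, ?_⟩
  · rintro χ (rfl | hχ)
    · rw [hfin.1, hda']
    · rw [Set.mem_singleton_iff] at hχ
      rw [hχ, hfin.2, hdb']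
  · intro h hh hK
    have h3 : F (h : G) = f h := by
      rw [hF]
      apply indFun_ti T H hTI' f hfc hfT h ⟨h, rfl, Or.inl hh⟩
      rintro rfl
      rw [map_one] at hh
      exact hc1 hh.symm
    have h4 := hval (h : G)
    have h5 : (a : G → ℂ) h = (a : G → ℂ) 1 := hK a (by simp)
    have h6 : (b : G → ℂ) h = (b : G → ℂ) 1 := hK b (by simp)
    rw [h3, h5, h6, hda', hdb', ← h1] at h4
    simp only [hf, f3, hh] at h4
    simp at h4

end Cfsg.Agent.Lib.H25Tri
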