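import Cfsg.Agent.Lib.H2219Def
import Cfsg.Agent.Lib.BrauerApp
import Cfsg.Agent.Lib.H25Tri

/-!
Piece B2 of S2219 (helper99): the characters of the Klein case from Brauer's characterization.
-/

set_option autoImplicit false
set_option linter.all false

namespace Cfsg.Agent.Lib.H2219

open Cfsg Cfsg.Agent.Lib.CharBasic Cfsg.Agent.Lib.PPart
open scoped ComplexConjugate

universe u

variable {G : Type u} [Group G] [Finite G]

namespace B2

variable {P : Sylow 3 G} {a b : G}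

theorem comm (h : KH P a b) : IsMulCommutative (P : Subgroup G) :=
  IsPGroup.isMulCommutative_of_card_eq_prime_sq (p := 3) (G := ↥(P : Subgroup G)) (by rw [h.cardP]; norm_num)

theorem norm_A (h : KH P a b) {g x : G} (hg : g ∈ Subgroup.normalizer ((P : Subgroup G) : Set G)) (hx : x ∈ Subgroup.zpowers a) :
    g * x * g⁻¹ ∈ Subgroup.zpowers a := by
  obtain ⟨k, rfl⟩ := Subgroup.mem_zpowers_iff.1 hx
  have h1 : g * a ^ k * g⁻¹ = (g * a * g⁻¹) ^ k := by rw [conj_zpow]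
  rw [h1]
  rcases (h.norm g hg).1 with h2 | h2
  · rw [h2]; exact zpow_mem (Subgroup.mem_zpowers a) k
  · rw [h2]; exact zpow_mem (inv_mem (Subgroup.mem_zpowers a)) k

/-- strong closure -/
theorem closed (h : KH P a b) {x g : G} (hx : x ∈ Subgroup.zpowers a) (hg : g * x * g⁻¹ ∈ (P : Subgroup G)) :
    g * x * g⁻¹ ∈ Subgroup.zpowers a := by
  have hc := comm h
  have hxP : x ∈ (P : Subgroup G) := (Subgroup.zpowers_le.2 h.ha) hx
  obtain ⟨n, hn, h1⟩ := Sylow.conj_eq_normalizer_conj_of_mem P x g⁻¹ hxP (by rw [inv_inv]; exact hg)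
  rw [inv_inv] at h1
  rw [h1]
  have h2 := norm_A h (g := n⁻¹) (inv_mem hn) hx
  rwa [inv_inv] at h2

/-- the linear character with kernel `⟨a⟩` -/
theorem exists_lam (h : KH P a b) : ∃ lam : ↥(P : Subgroup G) →* ℂˣ,
    (∀ x : ↥(P : Subgroup G), lam x = 1 ↔ (x : G) ∈ Subgroup.zpowers a) ∧ ∀ x, lam x ^ 3 = 1 := by
  have hc := comm h
  have hcc : ∀ x y : ↥(P : Subgroup G), x * y = y * x := hc.is_comm.comm
  let A : Subgroup ↥(P : Subgroup G) := (Subgroup.zpowers a).subgroupOf (P : Subgroup G)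
  have hAn : A.Normal := ⟨fun n hn g => by rw [hcc g n, mul_inv_cancel_right]; exact hn⟩
  let inst : CommGroup (↥(P : Subgroup G) ⧸ A) := { (inferInstance : Group (↥(P : Subgroup G) ⧸ A)) with
    mul_comm := by
      intro x y
      obtain ⟨x, rfl⟩ := QuotientGroup.mk_surjective x
      obtain ⟨y, rfl⟩ := QuotientGroup.mk_surjective y
      rw [← QuotientGroup.mk_mul, ← QuotientGroup.mk_mul, hcc] }
  have hb : ((⟨b, h.hb⟩ : ↥(P : Subgroup G)) : ↥(P : Subgroup G) ⧸ A) ≠ 1 := by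
    rw [Ne, QuotientGroup.eq_one_iff]
    exact h.hb1
  obtain ⟨φ, hφ⟩ := @CommGroup.exists_apply_ne_one_of_hasEnoughRootsOfUnity (↥(P : Subgroup G) ⧸ A) ℂ inst _ _ _ _ hb
  let lam : ↥(P : Subgroup G) →* ℂˣ := φ.comp (QuotientGroup.mk' A)
  have hAlam : A ≤ lam.ker := by
    intro x hx
    show φ (QuotientGroup.mk' A x) = 1
    have : (QuotientGroup.mk' A x) = 1 := (QuotientGroup.eq_one_iff x).2 hx
    rw [this, map_one]
  have hblam : (⟨b, h.hb⟩ : ↥(P : Subgroup G)) ∉ lam.ker := fun hk => hφ hk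
  have hcA : Nat.card A = 3 := by
    have h1 : Nat.card A = Nat.card (Subgroup.zpowers a) :=
      Nat.card_congr (Subgroup.subgroupOfEquivOfLe (Subgroup.zpowers_le.2 h.ha)).toEquiv
    rw [h1, Nat.card_zpowers]
    exact orderOf_eq_prime (h.cube a h.ha) h.ha1
  have hck : Nat.card lam.ker = 3 := by
    have h1 : Nat.card lam.ker ∣ 3 ^ 2 := by
      have := Subgroup.card_subgroup_dvd_card lam.ker
      rw [h.cardP] at this
      exact this
    obtain ⟨k, hk, h2⟩ := (Nat.dvd_prime_pow Nat.prime_three).1 h1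
    have h3 : Nat.card A ∣ Nat.card lam.ker := Subgroup.card_dvd_of_le hAlam
    rw [hcA] at h3
    have h4 : k ≠ 2 := by
      rintro rfl
      have h5 : lam.ker = ⊤ := Subgroup.eq_top_of_card_eq _ (by rw [h2, h.cardP]; norm_num)
      exact hblam (h5 ▸ Subgroup.mem_top _)
    have h6 : k ≠ 0 := by
      rintro rfl
      rw [h2] at h3
      norm_num at h3
    have h7 : k = 1 := by omega
    rw [h2, h7, pow_one]
  have hAk : A = lam.ker := Subgroup.eq_of_le_of_card_ge hAlam (by rw [hcA, hck])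
  refine ⟨lam, fun x => ?_, fun x => ?_⟩
  · have h1 : lam x = 1 ↔ x ∈ lam.ker := Iff.rfl
    rw [h1, ← hAk]
    exact Subgroup.mem_subgroupOf
  · rw [← map_pow]
    have : x ^ 3 = 1 := Subtype.ext (h.cube x x.2)
    rw [this, map_one]

theorem root_sum {w : ℂˣ} (hw : w ^ 3 = 1) : (2 : ℂ) - (w : ℂ) - (w : ℂ) ^ 2 = if w = 1 then 0 else 3 := by
  have h1 : (w : ℂ) ^ 3 = 1 := by rw [← Units.val_pow_eq_pow_val, hw, Units.val_one]
  split_ifs with h
  · rw [h]; norm_num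
  · have h2 : (w : ℂ) - 1 ≠ 0 := fun h3 => h (Units.ext (by simpa using sub_eq_zero.1 h3))
    have h4 : ((w : ℂ) - 1) * ((w : ℂ) ^ 2 + w + 1) = 0 := by ring_nf; rw [h1]; ring
    have h5 := (mul_eq_zero.1 h4).resolve_left h2
    linear_combination -h5

/-- the exponent of the 3-part -/
theorem exists_exp3 (h : KH P a b) : ∃ e : ℕ, (∀ z y : G, IsPPart 3 z y ↔ y = z ^ e) ∧
    ∀ E : Subgroup G, Group.IsNilpotent E → ∃ π : E →* E, (∀ x, π x = x ^ e) ∧ Nat.card π.range ∣ 9 := by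
  have hdvd : 9 ∣ Nat.card G := by
    have := Subgroup.card_subgroup_dvd_card (P : Subgroup G)
    rwa [h.cardP] at this
  obtain ⟨m, hm⟩ := hdvd
  have hcop3 : ¬ 3 ∣ m := by
    rintro ⟨k, hk⟩
    have h1 : 3 ^ 3 ∣ Nat.card G := ⟨k, by rw [hm, hk]; ring⟩
    have h2 := P.pow_dvd_card_of_pow_dvd_card h1
    have h3 : Nat.card P = 9 := h.cardP
    rw [h3] at h2
    norm_num at h2
  have hcop : Nat.Coprime m 9 := by
    have : Nat.Coprime m 3 := ((Nat.Prime.coprime_iff_not_dvd Nat.prime_three).2 hcop3).symm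
    exact this.pow_right 2
  obtain ⟨e, -, he0, he1, -, -, -⟩ := BrauerApp.exists_exp hcop
  have hG : Nat.card G = m * 9 := by rw [hm, mul_comm]
  have key : ∀ y y' : G, Commute y y' → (∃ k : ℕ, orderOf y = 3 ^ k) → ¬ 3 ∣ orderOf y' → (y * y') ^ e = y := by
    intro y y' hc ⟨k, hk⟩ hy'
    have h1 : y' ^ e = 1 := by
      apply orderOf_dvd_iff_pow_eq_one.1
      have h2 : orderOf y' ∣ m * 9 := hG ▸ orderOf_dvd_natCard y'
      have h3 : Nat.Coprime (orderOf y') 9 := by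
        have : Nat.Coprime (orderOf y') 3 := ((Nat.Prime.coprime_iff_not_dvd Nat.prime_three).2 hy').symm
        exact this.pow_right 2
      exact (h3.dvd_of_dvd_mul_right h2).trans ((Nat.modEq_zero_iff_dvd).1 he0)
    have h2 : y ^ e = y := by
      have h3 : orderOf y ∣ 9 := by
        have h4 : orderOf y ∣ m * 9 := hG ▸ orderOf_dvd_natCard y
        have h5 : Nat.Coprime (orderOf y) m := by
          rw [hk]
          exact Nat.Coprime.pow_left k ((Nat.Prime.coprime_iff_not_dvd Nat.prime_three).2 hcop3)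
        exact h5.dvd_of_dvd_mul_left h4
      have h6 : e ≡ 1 [MOD orderOf y] := he1.of_dvd h3
      have h7 := pow_eq_pow_iff_modEq.2 h6
      rwa [pow_one] at h7
    rw [hc.mul_pow, h1, h2, mul_one]
  refine ⟨e, fun z y => ?_, fun E hE => BrauerApp.exists_powHom hG hcop he0 he1 E hE⟩
  constructor
  · rintro ⟨y', hy, hc, hk, hy'⟩
    rw [← hy, key y y' hc hk hy']
  · rintro rfl
    obtain ⟨e', f', hr⟩ := exists_isRegExp 3 Nat.prime_three G
    have hz := hr.mul_eq z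
    have hc : Commute (z ^ f') (z ^ e') := Commute.pow_pow (Commute.refl z) f' e'
    have h1 : (z ^ f' * z ^ e') ^ e = z ^ f' := key _ _ hc (hr.sing z) (hr.reg z)
    have h2 : z ^ f' * z ^ e' = z := by rw [hc.eq, hz]
    rw [h2] at h1
    rw [h1]
    exact ⟨z ^ e', h2, hc, hr.sing z, hr.reg z⟩

theorem class_fun (h : KH P a b) : IsClassFunction G (Psi P a) := by
  intro z c
  obtain ⟨e, he, -⟩ := exists_exp3 h
  have h1 : ∀ z c : G, (∃ y, IsPPart 3 z y ∧ ∃ g : G, g * y * g⁻¹ ∈ (P : Subgroup G) ∧ g * y * g⁻¹ ∉ Subgroup.zpowers a) →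
      ∃ y, IsPPart 3 (c * z * c⁻¹) y ∧ ∃ g : G, g * y * g⁻¹ ∈ (P : Subgroup G) ∧ g * y * g⁻¹ ∉ Subgroup.zpowers a := by
    rintro z c ⟨y, hy, g, h2, h3⟩
    have h4 := (he z y).1 hy
    refine ⟨c * y * c⁻¹, (he _ _).2 (by rw [conj_pow, h4]), g * c⁻¹, ?_, ?_⟩
    · have : g * c⁻¹ * (c * y * c⁻¹) * (g * c⁻¹)⁻¹ = g * y * g⁻¹ := by group
      rw [this]; exact h2
    · have : g * c⁻¹ * (c * y * c⁻¹) * (g * c⁻¹)⁻¹ = g * y * g⁻¹ := by group
      rw [this]; exact h3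
  have h2 : (∃ y, IsPPart 3 (c * z * c⁻¹) y ∧ ∃ g : G, g * y * g⁻¹ ∈ (P : Subgroup G) ∧ g * y * g⁻¹ ∉ Subgroup.zpowers a) ↔
      ∃ y, IsPPart 3 z y ∧ ∃ g : G, g * y * g⁻¹ ∈ (P : Subgroup G) ∧ g * y * g⁻¹ ∉ Subgroup.zpowers a := by
    refine ⟨fun h3 => ?_, h1 z c⟩
    have h4 := h1 _ c⁻¹ h3
    have h5 : c⁻¹ * (c * z * c⁻¹) * c⁻¹⁻¹ = z := by group
    rwa [h5] at h4
  unfold Psi
  by_cases h3 : ∃ y, IsPPart 3 z y ∧ ∃ g : G, g * y * g⁻¹ ∈ (P : Subgroup G) ∧ g * y * g⁻¹ ∉ Subgroup.zpowers a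
  · rw [if_pos (h2.2 h3), if_pos h3]
  · rw [if_neg (fun h4 => h3 (h2.1 h4)), if_neg h3]

theorem gen (h : KH P a b) : IsGeneralizedCharacter G (Psi P a) := by
  classical
  refine BrauerInd.isGeneralizedCharacter_of_restrict_elementary _ (class_fun h) fun E q hq hE => ?_
  have hnil := MGroups.isNilpotent_of_isElementary hq hE
  obtain ⟨e, he, hpow⟩ := exists_exp3 h
  obtain ⟨lam, hlam, hlam3⟩ := exists_lam h
  obtain ⟨π, hπ, hcard⟩ := hpow E hnil
  -- the 3-part of `E` is conjugate into `P`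
  have hR : IsPGroup 3 (π.range.map E.subtype) :=
    IsPGroup.of_card_dvd_pow (p := 3) (n := 2) (by
      rw [Subgroup.card_map_of_injective E.subtype_injective]
      exact hcard)
  obtain ⟨Q, hQ⟩ := hR.exists_le_sylow
  obtain ⟨g, hg⟩ := MulAction.exists_smul_eq G Q P
  have hgP : ∀ x : E, g * ((π x : E) : G) * g⁻¹ ∈ (P : Subgroup G) := by
    intro x
    rw [← hg]
    have h1 : ((π x : E) : G) ∈ (Q : Subgroup G) := hQ ⟨π x, ⟨x, rfl⟩, rfl⟩
    exact ⟨_, h1, rfl⟩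
  let ρ : E →* ↥(P : Subgroup G) := MonoidHom.mk' (fun x => ⟨g * ((π x : E) : G) * g⁻¹, hgP x⟩) (fun x y => Subtype.ext (by
    show g * ((π (x * y) : E) : G) * g⁻¹ = g * ((π x : E) : G) * g⁻¹ * (g * ((π y : E) : G) * g⁻¹)
    rw [map_mul, Subgroup.coe_mul]; group))
  have hval : ∀ x : E, Psi P a (x : G) = 2 - ((lam.comp ρ x : ℂˣ) : ℂ) - (((lam.comp ρ) ^ 2 : E →* ℂˣ) x : ℂ) := by
    intro x
    have h1 := root_sum (hlam3 (ρ x))
    have h2 : (((lam.comp ρ) ^ 2 : E →* ℂˣ) x : ℂ) = ((lam (ρ x) : ℂˣ) : ℂ) ^ 2 := by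
      rw [MonoidHom.pow_apply, Units.val_pow_eq_pow_val]; rfl
    rw [h2]
    refine Eq.trans ?_ h1.symm
    unfold Psi
    have h3 : ((π x : E) : G) = (x : G) ^ e := by rw [hπ]; rfl
    have h4 : (∃ y, IsPPart 3 (x : G) y ∧ ∃ g : G, g * y * g⁻¹ ∈ (P : Subgroup G) ∧ g * y * g⁻¹ ∉ Subgroup.zpowers a) ↔
        ¬ lam (ρ x) = 1 := by
      rw [hlam]
      constructor
      · rintro ⟨y, hy, g', h5, h6⟩ h7
        rw [(he _ _).1 hy, ← h3] at h5 h6
        apply h6
        have h8 := closed h (x := g * ((π x : E) : G) * g⁻¹) (g := g' * g⁻¹) h7 (by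
          have : g' * g⁻¹ * (g * ((π x : E) : G) * g⁻¹) * (g' * g⁻¹)⁻¹ = g' * ((π x : E) : G) * g'⁻¹ := by group
          rw [this]; exact h5)
        have : g' * g⁻¹ * (g * ((π x : E) : G) * g⁻¹) * (g' * g⁻¹)⁻¹ = g' * ((π x : E) : G) * g'⁻¹ := by group
        rwa [this] at h8
      · intro h5
        exact ⟨_, (he _ _).2 rfl, g, by rw [← h3]; exact hgP x, by rw [← h3]; exact h5⟩
    by_cases h5 : lam (ρ x) = 1
    · rw [if_neg (fun h6 => h4.1 h6 h5), if_pos h5]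
    · rw [if_pos (h4.2 h5), if_neg h5]
  have h2 : (fun x : E => Psi P a (x : G)) =
      (fun _ : E => ((2 : ℕ) : ℂ)) - (fun x : E => ((lam.comp ρ x : ℂˣ) : ℂ)) -
        (fun x : E => (((lam.comp ρ) ^ 2 : E →* ℂˣ) x : ℂ)) := by
    funext x
    simp only [Pi.sub_apply]
    rw [hval]
    norm_num
  rw [h2]
  exact ((BrauerInd.isCharacter_natCast 2).isGeneralized.sub (BrauerInd.isCharacter_hom _).isGeneralized).sub
    (BrauerInd.isCharacter_hom _).isGeneralized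

end B2

theorem klein_chars (P : Sylow 3 G) (a b : G) (h : KH P a b)
    (hcount : 3 * Nat.card {z : G // ∃ y, IsPPart 3 z y ∧ ∃ g : G, g * y * g⁻¹ ∈ (P : Subgroup G) ∧ g * y * g⁻¹ ∉ Subgroup.zpowers a} = Nat.card G) :
    ∃ (θ χ : IrrCharacter G) (δ δ' : ℤ), (δ = 1 ∨ δ = -1) ∧ (δ' = 1 ∨ δ' = -1) ∧ θ ≠ χ ∧
      (θ : G → ℂ) ≠ (fun _ => 1) ∧ (χ : G → ℂ) ≠ (fun _ => 1) ∧
      ∀ z : G, 1 + (δ : ℂ) * (θ : G → ℂ) z + (δ' : ℂ) * (χ : G → ℂ) z = Psi P a z := by
  classical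
  have := Fintype.ofFinite G
  set F : G → ℂ := Psi P a with hF
  have hFc : IsClassFunction G F := B2.class_fun h
  have hgen := B2.gen h
  have hG0 : (Nat.card G : ℂ) ≠ 0 := by exact_mod_cast Nat.card_pos.ne'
  -- sums
  have hsum : ∀ c : ℂ, (∑ z : G, if ∃ y, IsPPart 3 z y ∧ ∃ g : G, g * y * g⁻¹ ∈ (P : Subgroup G) ∧ g * y * g⁻¹ ∉ Subgroup.zpowers a
      then (3 * c : ℂ) else 0) = Nat.card G * c := by
    intro c
    rw [← Finset.sum_filter, Finset.sum_const, ← Fintype.card_subtype, ← Nat.card_eq_fintype_card, ← hcount]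
    push_cast
    rw [nsmul_eq_mul]
    ring
  have hF1 : classInner F (fun _ => 1) = 1 := by
    unfold classInner
    have h1 : ∑ g : G, F g * conj ((fun _ => (1 : ℂ)) g) = Nat.card G * 1 := by
      rw [← hsum 1]
      refine Finset.sum_congr rfl fun z _ => ?_
      rw [hF, map_one, mul_one]
      unfold Psi
      split_ifs <;> norm_num
    rw [h1, mul_one, inv_mul_cancel₀ hG0]
  have hFF : classInner F F = 3 := by
    unfold classInner
    have h1 : ∑ g : G, F g * conj (F g) = Nat.card G * 3 := by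
      rw [← hsum 3]
      refine Finset.sum_congr rfl fun z _ => ?_
      rw [hF]
      unfold Psi
      have h3 : (starRingEnd ℂ) (3 : ℂ) = 3 := map_ofNat _ 3
      split_ifs
      · rw [h3]
      · rw [zero_mul]
    rw [h1, ← mul_assoc, inv_mul_cancel₀ hG0, one_mul]
  have hint : ∀ χ : IrrCharacter G, ∃ n : ℤ, classInner F (χ : G → ℂ) = n := fun χ =>
    hgen.classInner_int χ.2.isGeneralized
  choose n hn using hint
  set o : IrrCharacter G := ⟨fun _ => 1, isIrrCharacter_fun_one⟩ with ho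
  have hn0 : n o = 1 := by
    have := hn o
    rw [show ((o : IrrCharacter G) : G → ℂ) = fun _ => 1 from rfl, hF1] at this
    exact_mod_cast this.symm
  have hn3 : ∑ χ, n χ ^ 2 = 3 := by
    have h1 := hFc.classInner_eq_sum F
    rw [hFF] at h1
    have h2 : (3 : ℂ) = ((∑ χ, n χ ^ 2 : ℤ) : ℂ) := by
      rw [h1]
      push_cast
      apply Finset.sum_congr rfl
      intro χ _
      rw [hn, map_intCast, sq]
    exact_mod_cast h2.symm
  obtain ⟨α, β, ha0, hb0, hab, ha, hb, hrest⟩ := H25Tri.norm3 n o hn0 hn3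
  have hsum2 : ∀ w : IrrCharacter G → ℂ, ∑ χ, (n χ : ℂ) * w χ = w o + n α * w α + n β * w β := by
    intro w
    have h1 : ∀ χ ∈ Finset.univ, χ ∉ ({o, α, β} : Finset (IrrCharacter G)) → (n χ : ℂ) * w χ = 0 := by
      intro χ _ hχ
      simp only [Finset.mem_insert, Finset.mem_singleton, not_or] at hχ
      rw [hrest χ hχ.1 hχ.2.1 hχ.2.2]
      simp
    rw [← Finset.sum_subset (Finset.subset_univ ({o, α, β} : Finset (IrrCharacter G))) (by simpa using h1)]
    rw [Finset.sum_insert (by simp [ha0.symm, hb0.symm]), Finset.sum_insert (by simp [hab]), Finset.sum_singleton, hn0]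
    push_cast
    ring
  have hval : ∀ g, F g = 1 + n α * (α : G → ℂ) g + n β * (β : G → ℂ) g := by
    intro g
    rw [hFc.expansion_apply g]
    simp only [hn]
    exact hsum2 fun χ => (χ : G → ℂ) g
  refine ⟨α, β, n α, n β, ?_, ?_, hab, ?_, ?_, fun z => (hval z).symm⟩
  · exact mul_self_eq_one_iff.mp (by rw [← sq]; exact ha)
  · exact mul_self_eq_one_iff.mp (by rw [← sq]; exact hb)
  · intro h1; exact ha0 (Subtype.ext h1)
  · intro h1; exact hb0 (Subtype.ext h1)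

end Cfsg.Agent.Lib.H2219
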