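import Cfsg.Agent.Lib.H2219Def
import Cfsg.Agent.Lib.BlockThird
import Cfsg.Agent.Lib.BRCore
import Cfsg.Agent.Lib.Contrib2
import Cfsg.Agent.Lib.H76Char
import Cfsg.Agent.Lib.H15Deg2p
import Cfsg.Agent.S0925
import Cfsg.Agent.S4710

/-! The piece B3 of S2219: degrees prime to 3 (helper57). -/

set_option autoImplicit false
set_option linter.all false

namespace Cfsg.Agent.Lib.H2219

open Cfsg Cfsg.Agent.Lib.BlockThird Cfsg.Agent.Lib.CharBasic Cfsg.Agent.Lib.BlockDeg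
open scoped ComplexConjugate

universe u

variable {G : Type u} [Group G] [Finite G]

theorem klein_deg [IsSimpleGroup G] (hG : ¬ IsMulCommutative G) (P : Sylow 3 G) (hP : Nat.card P = 9) (θ χ : IrrCharacter G) (δ δ' : ℤ)
    (hδ : δ = 1 ∨ δ = -1) (hδ' : δ' = 1 ∨ δ' = -1) (hne : θ ≠ χ) (hθ : (θ : G → ℂ) ≠ (fun _ => 1)) (hχ : (χ : G → ℂ) ≠ (fun _ => 1))
    (hrel : ∀ z : G, ¬ 3 ∣ orderOf z → 1 + (δ : ℂ) * (θ : G → ℂ) z + (δ' : ℂ) * (χ : G → ℂ) z = 0) :
    ¬ 3 ∣ charDegree (θ : G → ℂ) ∧ ¬ 3 ∣ charDegree (χ : G → ℂ) := by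
  classical
  haveI : Fact (Nat.Prime 3) := ⟨Nat.prime_three⟩
  have := Fintype.ofFinite G
  obtain ⟨M, hM⟩ := Cfsg.Agent.Lib.H76Char.exists_isPModular 3
  haveI : M.IsPrime := hM.2.1.isPrime
  have hperf : commutator G = ⊤ := Cfsg.Agent.Lib.H15Deg2p.perfect hG
  have ht1 : ∀ g : G, ((triv G : IrrCharacter G) : G → ℂ) g = 1 := fun g => rfl
  have hθt : θ ≠ triv G := fun h => hθ (by rw [h]; rfl)
  have hχt : χ ≠ triv G := fun h => hχ (by rw [h]; rfl)
  -- the class function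
  let c : IrrCharacter G → ℂ := fun ψ => (if ψ = triv G then 1 else 0) + (if ψ = θ then (δ : ℂ) else 0) + (if ψ = χ then (δ' : ℂ) else 0)
  set F : G → ℂ := ∑ ψ : IrrCharacter G, c ψ • (ψ : G → ℂ) with hF
  have hFapp : ∀ g, F g = 1 + (δ : ℂ) * (θ : G → ℂ) g + (δ' : ℂ) * (χ : G → ℂ) g := by
    intro g
    rw [hF, Finset.sum_apply]
    have e : ∀ ψ : IrrCharacter G, (c ψ • (ψ : G → ℂ)) g = (if ψ = triv G then (ψ : G → ℂ) g else 0) + (if ψ = θ then (δ : ℂ) * (ψ : G → ℂ) g else 0) +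
        (if ψ = χ then (δ' : ℂ) * (ψ : G → ℂ) g else 0) := by
      intro ψ
      show c ψ * (ψ : G → ℂ) g = _
      simp only [c]
      split_ifs <;> ring
    simp only [e]
    rw [Finset.sum_add_distrib, Finset.sum_add_distrib, Finset.sum_ite_eq', Finset.sum_ite_eq', Finset.sum_ite_eq', if_pos (Finset.mem_univ _),
      if_pos (Finset.mem_univ _), if_pos (Finset.mem_univ _), ht1]
  have hFc : IsClassFunction G F := isClassFunction_sum _ _ (fun ψ _ => ψ.2.isClassFunction.smul _)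
  have h1 := (Cfsg.Agent.S0925.result (G := G) 3 M hM).1 F hFc 1 ⟨0, by simp⟩ (by
    rintro u z ⟨y, hy1, hy2, hy3, hy4⟩ hz
    have hz1 : z = 1 := by
      obtain ⟨g, hg⟩ := isConj_iff.mp hz
      rw [← hg]; group
    rw [hz1, one_mul] at hy1
    rw [hFapp, ← hy1]
    exact hrel y hy4) (principalBlock M G) isPBlock_principal 1 1
    ⟨1, mul_one _, Commute.one_right _, ⟨0, by simp⟩, by rw [orderOf_one]; norm_num⟩ (IsConj.refl 1)
  have hci : ∀ ψ : IrrCharacter G, @classInner G _ (Fintype.ofFinite G) F (ψ : G → ℂ) = c ψ := by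
    intro ψ
    have h3 : @classInner G _ (Fintype.ofFinite G) F (ψ : G → ℂ) = classInner F (ψ : G → ℂ) := by
      congr 1
      exact Subsingleton.elim _ _
    rw [h3, hF]
    exact classInner_coeff_sum _ ψ
  unfold blockPart at h1
  simp only [hci] at h1
  set B : Set (IrrCharacter G) := principalBlock M G with hB
  have h2 : ∑ ψ : IrrCharacter G, (if ψ ∈ B then c ψ * (ψ : G → ℂ) 1 else 0) = 0 := by
    refine Eq.trans ?_ h1
    rw [finsum_mem_def, finsum_eq_sum_of_fintype]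
    apply Finset.sum_congr rfl
    intro ψ _
    by_cases hψ : ψ ∈ B
    · rw [if_pos hψ, Set.indicator_of_mem hψ]
    · rw [if_neg hψ, Set.indicator_of_notMem hψ]
  have htB : triv G ∈ B := triv_mem
  have h3 : ∀ ψ : IrrCharacter G, (if ψ ∈ B then c ψ * (ψ : G → ℂ) 1 else 0) = (if ψ = triv G then (if ψ ∈ B then (ψ : G → ℂ) 1 else 0) else 0) +
      (if ψ = θ then (if ψ ∈ B then (δ : ℂ) * (ψ : G → ℂ) 1 else 0) else 0) + (if ψ = χ then (if ψ ∈ B then (δ' : ℂ) * (ψ : G → ℂ) 1 else 0) else 0) := by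
    intro ψ
    simp only [c]
    split_ifs <;> ring
  simp only [h3] at h2
  rw [Finset.sum_add_distrib, Finset.sum_add_distrib, Finset.sum_ite_eq', Finset.sum_ite_eq', Finset.sum_ite_eq', if_pos (Finset.mem_univ _),
      if_pos (Finset.mem_univ _), if_pos (Finset.mem_univ _), if_pos htB, ht1] at h2
  -- degrees
  have hdeg : ∀ ψ : IrrCharacter G, ψ ≠ triv G → ∀ ε : ℤ, (ε = 1 ∨ ε = -1) → (1 : ℂ) + (ε : ℂ) * (ψ : G → ℂ) 1 ≠ 0 := by
    intro ψ hψ ε hε h
    apply hψ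
    apply Cfsg.Agent.Lib.BRCore.eq_triv_of_deg hperf
    rw [← charDegree_cast_irr] at h
    have h4 : (1 : ℤ) + ε * (charDegree (ψ : G → ℂ) : ℤ) = 0 := by exact_mod_cast h
    rcases hε with rfl | rfl
    · omega
    · omega
  have hθB : θ ∈ B := by
    by_contra hn
    rw [if_neg hn] at h2
    by_cases hc : χ ∈ B
    · rw [if_pos hc, add_zero] at h2
      exact hdeg χ hχt δ' hδ' h2
    · rw [if_neg hc] at h2
      norm_num at h2
  have hχB : χ ∈ B := by
    by_contra hn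
    rw [if_neg hn, if_pos hθB, add_zero] at h2
    exact hdeg θ hθt δ hδ h2
  -- heights
  have hfac : (Nat.card G).factorization 3 = 2 := by
    have h5 := P.card_eq_multiplicity
    rw [hP] at h5
    have h6 : (3 : ℕ) ^ 2 = 3 ^ ((Nat.card G).factorization 3) := by rw [← h5]; norm_num
    exact (Nat.pow_right_injective (by norm_num : 2 ≤ 3) h6).symm
  have hd : blockDefect 3 B = 2 := by
    rw [hB, Cfsg.Agent.Lib.Contrib2.blockDefect_principal hM, hfac]
  have hS := Cfsg.Agent.S4710.result (G := G) 3 M hM B isPBlock_principal 2 hd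
  have hfin : ∀ ψ ∈ B, ¬ 3 ∣ charDegree (ψ : G → ℂ) := by
    intro ψ hψ
    have h5 := (hS.2 ψ hψ).2 le_rfl
    have h6 : blockHeight 3 B (ψ : G → ℂ) = 0 := by omega
    rw [blockHeight_eq_zero_iff hψ] at h6
    have h7 := h6 _ htB
    unfold nuDeg at h7
    rw [Cfsg.Agent.Lib.BRCore.deg_triv, Nat.factorization_one] at h7
    intro h8
    have h9 := (Nat.prime_three.dvd_iff_one_le_factorization (charDegree_pos ψ.2).ne').1 h8
    have h10 : (0 : ℕ →₀ ℕ) 3 = 0 := rfl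
    omega
  exact ⟨hfin θ hθB, hfin χ hχB⟩

end Cfsg.Agent.Lib.H2219
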