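import Cfsg.Agent.Lib.H2219Def
import Cfsg.Agent.Lib.SimpleDeg
import Cfsg.Agent.Lib.CITNum
import Cfsg.Agent.Lib.CharApps
import Cfsg.Agent.Lib.BlockDeg

/-! S2219, piece C (helper83): the two degrees are `2 ^ m` and `q`, and `|G|_q = q`. -/

set_option autoImplicit false
set_option linter.all false

namespace Cfsg.Agent.Lib.H2219

open Cfsg

universe u

variable {G : Type u} [Group G] [Finite G]

/-- number theory: consecutive divisors of `2 ^ a * q ^ b` -/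
theorem num_pair (q a b d e : ℕ) (hq : q.Prime) (hq2 : q ≠ 2) (hq3 : q ≠ 3)
    (hd : d ∣ 2 ^ a * q ^ b) (he : e ∣ 2 ^ a * q ^ b) (hd1 : 1 < d) (he1 : 1 < e) (hde : d = e + 1) :
    ∃ m, 2 ≤ m ∧ ((d = 2 ^ m ∧ e = q) ∨ (d = q ∧ e = 2 ^ m)) := by
  have h2 : Nat.Prime 2 := Nat.prime_two
  obtain ⟨d1, d2, hd1', hd2', hdd⟩ := exists_dvd_and_dvd_of_dvd_mul hd
  obtain ⟨e1, e2, he1', he2', hee⟩ := exists_dvd_and_dvd_of_dvd_mul he
  obtain ⟨i, -, rfl⟩ := (Nat.dvd_prime_pow h2).1 hd1'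
  obtain ⟨j, -, rfl⟩ := (Nat.dvd_prime_pow hq).1 hd2'
  obtain ⟨k, -, rfl⟩ := (Nat.dvd_prime_pow h2).1 he1'
  obtain ⟨l, -, rfl⟩ := (Nat.dvd_prime_pow hq).1 he2'
  have hcop : Nat.Coprime d e := by
    rw [hde]; exact (Nat.coprime_self_add_left (m := e) (n := 1)).2 (Nat.coprime_one_left e)
  have nc2 : ¬ (2 ∣ d ∧ 2 ∣ e) := fun h => by
    have := Nat.eq_one_of_dvd_coprimes hcop h.1 h.2
    omega
  have ncq : ¬ (q ∣ d ∧ q ∣ e) := fun h => by
    have := Nat.eq_one_of_dvd_coprimes hcop h.1 h.2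
    exact hq.one_lt.ne' this
  have dv2 : ∀ s t : ℕ, s ≠ 0 → 2 ∣ 2 ^ s * q ^ t := fun s t hs => (dvd_pow_self 2 hs).mul_right _
  have dvq : ∀ s t : ℕ, t ≠ 0 → q ∣ 2 ^ s * q ^ t := fun s t ht => (dvd_pow_self q ht).mul_left _
  have hq5 : 3 < q := by
    have h3 := hq.two_le
    omega
  rcases Nat.eq_zero_or_pos i with hi | hi
  · -- d = q ^ j
    subst hi
    have hj : j ≠ 0 := by
      rintro rfl
      simp at hdd
      omega
    have hl : l = 0 := by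
      by_contra hl
      exact ncq ⟨hdd ▸ dvq _ _ hj, hee ▸ dvq _ _ hl⟩
    subst hl
    rw [pow_zero, one_mul] at hdd
    rw [pow_zero, mul_one] at hee
    have h4 : q ^ j = 2 ^ k + 1 := by rw [← hdd, ← hee, hde]
    have hj1 : j = 1 := by
      rcases CIT.eq_of_sub hq hq2 (Nat.pos_of_ne_zero hj) h4 with h | h
      · exact h
      · exfalso
        have : q ∣ 3 ^ 2 := by
          have h5 : q ∣ q ^ j := dvd_pow_self q hj
          rw [h] at h5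
          simpa using h5
        have h6 := (Nat.prime_dvd_prime_iff_eq hq Nat.prime_three).1 (hq.dvd_of_dvd_pow this)
        exact hq3 h6
    subst hj1
    rw [pow_one] at hdd h4
    refine ⟨k, ?_, Or.inr ⟨hdd, hee⟩⟩
    by_contra hk
    have : k = 0 ∨ k = 1 := by omega
    rcases this with rfl | rfl
    · rw [pow_zero] at h4; omega
    · rw [pow_one] at h4; omega
  · have hk : k = 0 := by
      by_contra hk
      exact nc2 ⟨hdd ▸ dv2 _ _ hi.ne', hee ▸ dv2 _ _ hk⟩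
    subst hk
    have hl : l ≠ 0 := by
      rintro rfl
      simp at hee
      omega
    have hj : j = 0 := by
      by_contra hj
      exact ncq ⟨hdd ▸ dvq _ _ hj, hee ▸ dvq _ _ hl⟩
    subst hj
    rw [pow_zero, one_mul] at hee
    rw [pow_zero, mul_one] at hdd
    have h4 : q ^ l + 1 = 2 ^ i := by rw [← hdd, ← hee, hde]
    have hl1 : l = 1 := CIT.eq_of_add hq hq2 (Nat.pos_of_ne_zero hl) h4
    subst hl1
    rw [pow_one] at hee h4
    refine ⟨i, ?_, Or.inl ⟨hdd, hee⟩⟩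
    by_contra hk
    have : i = 0 ∨ i = 1 := by omega
    rcases this with rfl | rfl
    · rw [pow_zero] at h4; omega
    · rw [pow_one] at h4; omega

theorem sylow_b [IsSimpleGroup G] (hG : ¬ IsMulCommutative G) (q a b : ℕ) (hq : q.Prime) (hq2 : q ≠ 2) (hq3 : q ≠ 3)
    (hcard : Nat.card G = 9 * 2 ^ a * q ^ b) (χ : IrrCharacter G) (h : charDegree (χ : G → ℂ) = q) : b = 1 := by
  haveI : Fact q.Prime := ⟨hq⟩
  have hZ : Subgroup.center G = ⊥ := SimpleDeg.center_eq_bot (fun hc => hG ⟨⟨hc⟩⟩)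
  obtain ⟨Q⟩ : Nonempty (Sylow q G) := inferInstance
  have h1 := SimpleDeg.sylow_of_prime_degree hZ χ.2 (by
    rw [← BlockDeg.charDegree_cast_irr, h]) Q
  have h2 := Sylow.card_eq_multiplicity Q
  rw [h1] at h2
  have h3 : (Nat.card G).factorization q = 1 := by
    have h4 : q ^ 1 = q ^ (Nat.card G).factorization q := by rw [pow_one]; exact h2
    exact (Nat.pow_right_injective hq.two_le h4).symm
  rw [hcard] at h3
  have h5 : Nat.Coprime q (9 * 2 ^ a) := by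
    rw [Nat.Prime.coprime_iff_not_dvd hq]
    intro hd
    rcases (Nat.Prime.dvd_mul hq).1 hd with h6 | h6
    · have h7 : q ∣ 3 ^ 2 := by simpa using h6
      exact hq3 ((Nat.prime_dvd_prime_iff_eq hq Nat.prime_three).1 (hq.dvd_of_dvd_pow h7))
    · exact hq2 ((Nat.prime_dvd_prime_iff_eq hq Nat.prime_two).1 (hq.dvd_of_dvd_pow h6))
  rw [Nat.factorization_mul (by positivity) (pow_ne_zero _ hq.pos.ne'), Finsupp.add_apply,
    Nat.factorization_eq_zero_of_not_dvd ((Nat.Prime.coprime_iff_not_dvd hq).1 h5),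
    Nat.Prime.factorization_pow hq, zero_add, Finsupp.single_eq_same] at h3
  exact h3

theorem pair [IsSimpleGroup G] (hG : ¬ IsMulCommutative G) (q a b : ℕ) (hq : q.Prime) (hq2 : q ≠ 2) (hq3 : q ≠ 3) (hcard : Nat.card G = 9 * 2 ^ a * q ^ b) (χ₁ χ₂ : IrrCharacter G)
    (h1 : 1 < charDegree (χ₁ : G → ℂ)) (h2 : 1 < charDegree (χ₂ : G → ℂ))
    (hd : charDegree (χ₁ : G → ℂ) = charDegree (χ₂ : G → ℂ) + 1 ∨ charDegree (χ₂ : G → ℂ) = charDegree (χ₁ : G → ℂ) + 1)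
    (h31 : ¬ 3 ∣ charDegree (χ₁ : G → ℂ)) (h32 : ¬ 3 ∣ charDegree (χ₂ : G → ℂ)) :
    b = 1 ∧ ∃ m, 2 ≤ m ∧ ((charDegree (χ₁ : G → ℂ) = 2 ^ m ∧ charDegree (χ₂ : G → ℂ) = q) ∨ (charDegree (χ₁ : G → ℂ) = q ∧ charDegree (χ₂ : G → ℂ) = 2 ^ m)) := by
  have hdv : ∀ χ : IrrCharacter G, ¬ 3 ∣ charDegree (χ : G → ℂ) → charDegree (χ : G → ℂ) ∣ 2 ^ a * q ^ b := by
    intro χ h
    have h3 : charDegree (χ : G → ℂ) ∣ Nat.card G := CharApps.irr_degree_dvd_card χ.2 (BlockDeg.charDegree_cast_irr χ).symm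
    rw [hcard, mul_assoc] at h3
    have h4 : Nat.Coprime (charDegree (χ : G → ℂ)) (3 ^ 2) :=
      Nat.Coprime.pow_right _ ((Nat.coprime_comm.1 ((Nat.Prime.coprime_iff_not_dvd Nat.prime_three).2 h)))
    exact Nat.Coprime.dvd_of_dvd_mul_left h4 h3
  have key : ∃ m, 2 ≤ m ∧ ((charDegree (χ₁ : G → ℂ) = 2 ^ m ∧ charDegree (χ₂ : G → ℂ) = q) ∨ (charDegree (χ₁ : G → ℂ) = q ∧ charDegree (χ₂ : G → ℂ) = 2 ^ m)) := by
    rcases hd with hd | hd
    · exact num_pair q a b _ _ hq hq2 hq3 (hdv _ h31) (hdv _ h32) h1 h2 hd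
    · obtain ⟨m, hm, h⟩ := num_pair q a b _ _ hq hq2 hq3 (hdv _ h32) (hdv _ h31) h2 h1 hd
      refine ⟨m, hm, ?_⟩
      rcases h with ⟨h, h'⟩ | ⟨h, h'⟩
      · exact Or.inr ⟨h', h⟩
      · exact Or.inl ⟨h', h⟩
  obtain ⟨m, hm, h⟩ := key
  refine ⟨?_, m, hm, h⟩
  rcases h with ⟨-, h⟩ | ⟨h, -⟩
  · exact sylow_b hG q a b hq hq2 hq3 hcard χ₂ h
  · exact sylow_b hG q a b hq hq2 hq3 hcard χ₁ h

end Cfsg.Agent.Lib.H2219
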