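import Mathlib
import Cfsg.Prelude.Def_Blocks
import Cfsg.Prelude.Def_Characters

/-! Definitions for S2219 (lead): the Klein case `KH` and the function `Psi`. -/

set_option autoImplicit false
set_option linter.all false

namespace Cfsg.Agent.Lib.H2219

open Cfsg

universe u

variable {G : Type u} [Group G] [Finite G]

/-- hypotheses of the Klein case -/
structure KH (P : Sylow 3 G) (a b : G) : Prop where
  cardP : Nat.card P = 9
  cube : ∀ u ∈ (P : Subgroup G), u ^ 3 = 1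
  ha : a ∈ (P : Subgroup G)
  hb : b ∈ (P : Subgroup G)
  ha1 : a ≠ 1
  hb1 : b ∉ Subgroup.zpowers a
  s : ∃ s ∈ Subgroup.normalizer ((P : Subgroup G) : Set G), s * a * s⁻¹ = a⁻¹ ∧ s * b * s⁻¹ = b
  t : ∃ t ∈ Subgroup.normalizer ((P : Subgroup G) : Set G), t * a * t⁻¹ = a ∧ t * b * t⁻¹ = b⁻¹
  norm : ∀ g ∈ Subgroup.normalizer ((P : Subgroup G) : Set G),
    (g * a * g⁻¹ = a ∨ g * a * g⁻¹ = a⁻¹) ∧ (g * b * g⁻¹ = b ∨ g * b * g⁻¹ = b⁻¹)

open Classical in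
/-- 3 on the elements whose 3-part is conjugate into `P \ ⟨a⟩`, 0 elsewhere -/
noncomputable def Psi (P : Sylow 3 G) (a : G) (z : G) : ℂ :=
  if ∃ y, IsPPart 3 z y ∧ ∃ g : G, g * y * g⁻¹ ∈ (P : Subgroup G) ∧ g * y * g⁻¹ ∉ Subgroup.zpowers a
  then 3 else 0

end Cfsg.Agent.Lib.H2219
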