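import Mathlib
import Cfsg.Agent.Lib.H2219Def
import Cfsg.Agent.Lib.ClSLn
import Cfsg.Agent.Lib.ClSeven
import Cfsg.Agent.S0997

/-! Piece D of S2219 (helper3): simple groups of order `9 * 2^a * q`, `q ≥ 11`. -/

set_option autoImplicit false
set_option linter.all false

namespace Cfsg.Agent.Lib.H2219

open Cfsg

universe u

variable {G : Type u} [Group G] [Finite G]

theorem card_psl2_D {F : Type} [Field F] [Fintype F] {q : ℕ} (hF : Fintype.card F = q) :
    Nat.gcd 2 (q - 1) * Nat.card (Matrix.ProjectiveSpecialLinearGroup (Fin 2) F) = q * (q ^ 2 - 1) := by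
  have h := ClSLn.card_PSL_formula hF 2 (by norm_num)
  have hq : 1 < q := by rw [← hF]; exact Fintype.one_lt_card
  simp only [Finset.prod_range_succ, Finset.range_zero, Finset.prod_empty] at h
  have h0 : 0 < q - 1 := by omega
  apply Nat.eq_of_mul_eq_mul_left h0
  calc (q - 1) * (Nat.gcd 2 (q - 1) * Nat.card (Matrix.ProjectiveSpecialLinearGroup (Fin 2) F)) =
      Nat.gcd 2 (q - 1) * ((q - 1) * Nat.card (Matrix.ProjectiveSpecialLinearGroup (Fin 2) F)) := by ring
    _ = _ := by rw [h]; simp; ring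

/-- `2^i * x = 2^j * y` with `x`, `y` odd -/
theorem odd_unique {i j x y : ℕ} (hx : Odd x) (hy : Odd y) (h : 2 ^ i * x = 2 ^ j * y) : i = j ∧ x = y := by
  have key : ∀ i j x y : ℕ, Odd x → 2 ^ i * x = 2 ^ j * y → j ≤ i := by
    intro i j x y hx h
    by_contra hlt
    obtain ⟨k, rfl⟩ := Nat.exists_eq_add_of_lt (not_le.1 hlt)
    rw [pow_add, pow_add, mul_assoc, mul_assoc] at h
    have h2 : x = 2 ^ k * (2 ^ 1 * y) := Nat.eq_of_mul_eq_mul_left (by positivity) h
    have h3 : Even x := by rw [h2]; exact ⟨2 ^ k * y, by ring⟩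
    exact (Nat.not_even_iff_odd.2 hx) h3
  have h1 := key i j x y hx h
  have h2 := key j i y x hy h.symm
  have h3 : i = j := le_antisymm h2 h1
  subst h3
  exact ⟨rfl, Nat.eq_of_mul_eq_mul_left (by positivity) h⟩

theorem big [IsSimpleGroup G] (hG : ¬ IsMulCommutative G) (q a : ℕ) (hq : q.Prime) (h11 : 11 ≤ q) (hcard : Nat.card G = 9 * 2 ^ a * q) :
    Nonempty (G ≃* Matrix.ProjectiveSpecialLinearGroup (Fin 2) (ZMod 17)) := by
  have hcyc : ¬ IsCyclic G := by
    intro h
    exact hG ⟨⟨fun x y => by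
      letI := IsCyclic.commGroup (α := G)
      exact mul_comm x y⟩⟩
  have hodd : Odd q := hq.odd_of_ne_two (by omega)
  rcases Cfsg.Agent.S0997.result hcyc q 2 a 9 hq Nat.prime_two (by omega) (by rw [hcard]; ring) (by omega) with
    ⟨m, F, hFf, hFt, hF, hm, ⟨e⟩⟩ | ⟨m, F, hFf, hFt, hF, hm, -, ⟨e⟩⟩
  · have h1 := card_psl2_D hF
    rw [← Nat.card_congr e.toEquiv, hcard] at h1
    have hg : Nat.gcd 2 (q - 1) = 2 := by
      obtain ⟨k, hk⟩ := hodd
      rw [hk, Nat.add_sub_cancel]; simp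
    rw [hg] at h1
    have h2 : q ^ 2 - 1 = 2 ^ (a + 1) * 9 := by
      apply Nat.eq_of_mul_eq_mul_left hq.pos
      rw [← h1]; ring
    have hm2 : 3 ≤ m := by
      by_contra hlt
      have : m = 0 ∨ m = 1 ∨ m = 2 := by omega
      rcases this with rfl | rfl | rfl <;> omega
    obtain ⟨k, rfl⟩ : ∃ k, m = k + 1 := ⟨m - 1, by omega⟩
    have hk0 : 1 ≤ 2 ^ k := Nat.one_le_two_pow
    have hkev : Even (2 ^ k) := by
      rw [Nat.even_pow]; exact ⟨even_two, by omega⟩
    rcases hm with hm | hm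
    · have h3 : q ^ 2 - 1 = 2 ^ (k + 2) * (2 ^ k + 1) := by
        rw [hm]
        have : (2 ^ (k + 1) + 1) ^ 2 = 2 ^ (k + 2) * (2 ^ k + 1) + 1 := by ring
        omega
      rw [h2] at h3
      obtain ⟨-, h4⟩ := odd_unique (by decide) (hkev.add_one) h3
      have h5 : 2 ^ k = 2 ^ 3 := by omega
      have h6 : k = 3 := Nat.pow_right_injective (le_refl 2) h5
      subst h6
      have hq17 : q = 17 := by rw [hm]; norm_num
      subst hq17
      haveI : Fact (Nat.Prime 17) := ⟨by norm_num⟩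
      have e2 : F ≃+* ZMod 17 := FiniteField.ringEquivOfCardEq (by rw [hF, ZMod.card])
      exact ⟨e.trans (ClSeven.pslCongr 2 e2)⟩
    · exfalso
      have h3 : q ^ 2 - 1 = 2 ^ (k + 2) * (2 ^ k - 1) := by
        have h4 : q + 1 = 2 ^ (k + 1) := by
          have : 1 ≤ 2 ^ (k + 1) := Nat.one_le_two_pow
          omega
        have h5 : q - 1 = 2 * (2 ^ k - 1) := by
          have : 2 ^ (k + 1) = 2 * 2 ^ k := by ring
          omega
        have h6 : q ^ 2 - 1 = (q + 1) * (q - 1) := by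
          rw [← Nat.sq_sub_sq, one_pow]
        rw [h6, h4, h5]; ring
      rw [h2] at h3
      have hk1 : Odd (2 ^ k - 1) := Nat.Even.sub_odd (by omega) hkev odd_one
      obtain ⟨-, h4⟩ := odd_unique (by decide) hk1 h3
      have h5 : 2 ^ k = 10 := by omega
      have hk4 : k < 4 := by
        by_contra hge
        have : 2 ^ 4 ≤ 2 ^ k := Nat.pow_le_pow_right (by norm_num) (by omega)
        omega
      interval_cases k <;> omega
  · exfalso
    have h1 := card_psl2_D hF
    rw [← Nat.card_congr e.toEquiv, hcard] at h1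
    have hm1 : 3 ≤ m := by
      by_contra hlt
      have : m = 0 ∨ m = 1 ∨ m = 2 := by omega
      rcases this with rfl | rfl | rfl <;> omega
    have hmev : Even (2 ^ m) := by
      rw [Nat.even_pow]; exact ⟨even_two, by omega⟩
    have hm0 : 8 ≤ 2 ^ m := by
      calc 8 = 2 ^ 3 := by norm_num
        _ ≤ 2 ^ m := Nat.pow_le_pow_right (by norm_num) hm1
    have hod : Odd (2 ^ m - 1) := Nat.Even.sub_odd (by omega) hmev odd_one
    have hg : Nat.gcd 2 (2 ^ m - 1) = 1 := by
      exact (Nat.coprime_two_left).2 hod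
    rw [hg, one_mul] at h1
    have h6 : (2 ^ m) ^ 2 - 1 = (2 ^ m + 1) * (2 ^ m - 1) := by
      rw [← Nat.sq_sub_sq, one_pow]
    rw [h6, ← hm] at h1
    have h2 : 2 ^ m * (2 ^ m - 1) = 2 ^ a * 9 := by
      apply Nat.eq_of_mul_eq_mul_left hq.pos
      calc q * (2 ^ m * (2 ^ m - 1)) = 2 ^ m * (q * (2 ^ m - 1)) := by ring
        _ = _ := by rw [← h1]; ring
    obtain ⟨-, h4⟩ := odd_unique hod (by decide) h2
    have h5 : 2 ^ m = 10 := by omega
    have hk4 : m < 4 := by
      by_contra hge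
      have : 2 ^ 4 ≤ 2 ^ m := Nat.pow_le_pow_right (by norm_num) (by omega)
      omega
    interval_cases m <;> omega

end Cfsg.Agent.Lib.H2219
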