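import Mathlib
import Cfsg.Prelude.Def_Blocks
import Cfsg.Prelude.Def_Characters
import Cfsg.Agent.Lib.H2219Def
import Cfsg.Agent.S1001

/-! S2219, piece E1 (helper25): the Sylow 7-normalizer of a simple group of order `9 * 2 ^ a * 7`. -/

set_option autoImplicit false
set_option linter.all false

namespace Cfsg.Agent.Lib.H2219

open Cfsg

universe u

variable {G : Type u} [Group G] [Finite G]

private theorem e1_arith (a n : ℕ) (hn : n ≡ 1 [MOD 7]) (e : ℕ) (h : n * e = 9 * 2 ^ a) (he : e ∣ 6) (he1 : e ≠ 1) : e = 2 := by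
  have h3 : (2 ^ a) % 7 = 1 ∨ (2 ^ a) % 7 = 2 ∨ (2 ^ a) % 7 = 4 := by
    clear h
    induction a with
    | zero => left; rfl
    | succ k ih =>
      rw [pow_succ]
      omega
  have he6 : e ≤ 6 := Nat.le_of_dvd (by norm_num) he
  unfold Nat.ModEq at hn
  have hle : e = 0 ∨ e = 1 ∨ e = 2 ∨ e = 3 ∨ e = 4 ∨ e = 5 ∨ e = 6 := by omega
  rcases hle with h' | h' | h' | h' | h' | h' | h'
  · subst h'; norm_num at he
  · exact absurd h' he1
  · exact h'
  · subst h'; omega
  · subst h'; norm_num at he
  · subst h'; norm_num at he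
  · subst h'; omega

theorem seven_norm [IsSimpleGroup G] (hG : ¬ IsMulCommutative G) (a : ℕ) (hcard : Nat.card G = 9 * 2 ^ a * 7) (Q : Sylow 7 G) :
    Nat.card Q = 7 ∧ (∀ y ∈ (Q : Subgroup G), y ≠ 1 → Subgroup.centralizer ({y} : Set G) = Q) ∧
    (∃ g ∈ Subgroup.normalizer ((Q : Subgroup G) : Set G), ∀ y ∈ (Q : Subgroup G), g * y * g⁻¹ = y⁻¹) ∧
    (Subgroup.centralizer ((Q : Subgroup G) : Set G)).relIndex (Subgroup.normalizer ((Q : Subgroup G) : Set G)) = 2 := by
  haveI : Fact (Nat.Prime 7) := ⟨by norm_num⟩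
  have hQ7 : Nat.card Q = 7 := by
    rw [Sylow.card_eq_multiplicity, hcard]
    have h1 : (9 * 2 ^ a * 7).factorization 7 = 1 := by
      rw [Nat.factorization_mul (by positivity) (by norm_num), Nat.factorization_mul (by norm_num) (by positivity)]
      rw [Nat.Prime.factorization_pow (by norm_num)]
      have h9 : Nat.factorization 9 7 = 0 := Nat.factorization_eq_zero_of_not_dvd (by norm_num)
      have h7 : Nat.factorization 7 7 = 1 := by
        rw [Nat.Prime.factorization_self (by norm_num)]
      simp [h9, h7]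
    rw [h1, pow_one]
  have hord : ∀ y ∈ (Q : Subgroup G), y ≠ 1 → orderOf y = 7 := by
    intro y hy hy1
    have h1 : orderOf y ∣ 7 := by
      have := Subgroup.orderOf_dvd_natCard (Q : Subgroup G) hy
      have h2 : Nat.card (Q : Subgroup G) = 7 := hQ7
      rwa [h2] at this
    rcases (Nat.dvd_prime (by norm_num : Nat.Prime 7)).1 h1 with h | h
    · exact absurd (orderOf_eq_one_iff.1 h) hy1
    · exact h
  have hz : ∀ y ∈ (Q : Subgroup G), y ≠ 1 → Subgroup.zpowers y = (Q : Subgroup G) := by
    intro y hy hy1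
    apply Subgroup.eq_of_le_of_card_ge
    · rwa [Subgroup.zpowers_le]
    · rw [Nat.card_zpowers, hord y hy hy1]
      exact le_of_eq hQ7
  have hc : ∀ y ∈ (Q : Subgroup G), y ≠ 1 → Subgroup.centralizer ({y} : Set G) = (Q : Subgroup G) := by
    intro y hy hy1
    rw [← hz y hy hy1]
    exact Cfsg.Agent.S1001.result 7 2 a (by norm_num) (by rw [hcard]; ring) y (hord y hy hy1)
  -- a generator
  obtain ⟨y₀, hy₀, hy₀1⟩ : ∃ y ∈ (Q : Subgroup G), y ≠ 1 := by
    by_contra hcon
    push Not at hcon
    have : (Q : Subgroup G) = ⊥ := by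
      rw [Subgroup.eq_bot_iff_forall]
      exact hcon
    have h2 : Nat.card (Q : Subgroup G) = 7 := hQ7
    rw [this, Subgroup.card_bot] at h2
    norm_num at h2
  set N := Subgroup.normalizer ((Q : Subgroup G) : Set G) with hN
  have hCQ : Subgroup.centralizer ((Q : Subgroup G) : Set G) = (Q : Subgroup G) := by
    apply le_antisymm
    · refine le_trans (Subgroup.centralizer_le ?_) (hc y₀ hy₀ hy₀1).le
      intro z hz'
      rw [Set.mem_singleton_iff] at hz'
      subst hz'
      exact hy₀
    · intro z hz'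
      rw [Subgroup.mem_centralizer_iff]
      intro w hw
      by_cases hz1 : z = 1
      · subst hz1; simp
      · have h1 : w ∈ Subgroup.centralizer ({z} : Set G) := by
          rw [hc z hz' hz1]; exact hw
        rw [Subgroup.mem_centralizer_singleton_iff] at h1
        exact h1
  have hQN : (Q : Subgroup G) ≤ N := Subgroup.le_normalizer
  set e := (Q : Subgroup G).relIndex N with he
  -- number of Sylow subgroups
  have hcount : Nat.card (Sylow 7 G) * e = 9 * 2 ^ a := by
    have h1 : Nat.card (Sylow 7 G) = N.index := Sylow.card_eq_index_normalizer Q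
    have h2 : N.index * Nat.card N = Nat.card G := Subgroup.index_mul_card N
    have h3 : e * Nat.card (Q : Subgroup G) = Nat.card N := by
      have h := Subgroup.relIndex_mul_relIndex (⊥ : Subgroup G) (Q : Subgroup G) N bot_le hQN
      rw [Subgroup.relIndex_bot_left, Subgroup.relIndex_bot_left] at h
      rw [he, mul_comm]
      exact h
    have h4 : Nat.card (Q : Subgroup G) = 7 := hQ7
    rw [h1]
    rw [← h3, h4, hcard] at h2
    have : N.index * e * 7 = 9 * 2 ^ a * 7 := by rw [← h2]; ring
    omega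
  have hmod : Nat.card (Sylow 7 G) ≡ 1 [MOD 7] := card_sylow_modEq_one 7 G
  have he6 : e ∣ 6 := by
    -- N/C embeds into MulAut Q
    have h1 : (Subgroup.centralizer ((Q : Subgroup G) : Set G)).relIndex N ∣ Nat.card (MulAut (Q : Subgroup G)) := by
      have hk := Subgroup.normalizerMonoidHom_ker (Q : Subgroup G)
      rw [Subgroup.relIndex, ← hk, Subgroup.index_ker]
      exact Subgroup.card_subgroup_dvd_card _
    rw [hCQ] at h1
    haveI : IsCyclic (Q : Subgroup G) := isCyclic_of_prime_card (p := 7) hQ7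
    rw [IsCyclic.card_mulAut] at h1
    have h2 : Nat.card (Q : Subgroup G) = 7 := hQ7
    rw [h2] at h1
    have h3 : Nat.totient 7 = 6 := by decide
    rwa [h3] at h1
  have he1 : e ≠ 1 := by
    intro h1
    have hle : N ≤ Subgroup.centralizer ((Q : Subgroup G) : Set G) := by
      rw [hCQ]
      exact Subgroup.relIndex_eq_one.1 h1
    have hcomp := MonoidHom.ker_transferSylow_isComplement' Q hle
    rcases (MonoidHom.normal_ker (MonoidHom.transferSylow Q hle)).eq_bot_or_eq_top with hb | ht
    · rw [hb] at hcomp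
      have : (Q : Subgroup G) = ⊤ := by
        have := hcomp.sup_eq_top
        simpa using this
      have h2 : Nat.card (Q : Subgroup G) = 7 := hQ7
      rw [this, Subgroup.card_top, hcard] at h2
      have : 0 < 2 ^ a := by positivity
      omega
    · rw [ht] at hcomp
      have h3 := hcomp.card_mul_card
      rw [Subgroup.card_top] at h3
      have h2 : Nat.card (Q : Subgroup G) = 7 := hQ7
      rw [h2] at h3
      have hpos : 0 < Nat.card G := Nat.card_pos
      omega
  have he2 : e = 2 := e1_arith a _ hmod e hcount he6 he1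
  refine ⟨hQ7, hc, ?_, ?_⟩
  · -- inversion
    have hlt : ∃ g ∈ N, g ∉ (Q : Subgroup G) := by
      by_contra hcon
      push Not at hcon
      exact he1 (Subgroup.relIndex_eq_one.2 hcon)
    obtain ⟨g, hgN, hgQ⟩ := hlt
    have hg2 : g * g ∈ (Q : Subgroup G) := by
      have h1 : ((Q : Subgroup G).subgroupOf N).index = 2 := he2
      have := Subgroup.mul_self_mem_of_index_two h1 ⟨g, hgN⟩
      rwa [Subgroup.mem_subgroupOf] at this
    have hconj : g * y₀ * g⁻¹ ∈ (Q : Subgroup G) := (Subgroup.mem_normalizer_iff.1 hgN y₀).1 hy₀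
    rw [← hz y₀ hy₀ hy₀1, Subgroup.mem_zpowers_iff] at hconj
    obtain ⟨k, hk⟩ := hconj
    have hk2 : y₀ ^ (k * k) = y₀ := by
      have h1 : (g * g) * y₀ * (g * g)⁻¹ = y₀ := by
        have : g * g ∈ Subgroup.centralizer ({y₀} : Set G) := by rw [hc y₀ hy₀ hy₀1]; exact hg2
        rw [Subgroup.mem_centralizer_singleton_iff] at this
        rw [mul_inv_eq_iff_eq_mul]
        first
          | exact this
          | exact this.symm
      have h2 : (g * g) * y₀ * (g * g)⁻¹ = g * (g * y₀ * g⁻¹) * g⁻¹ := by group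
      rw [h2, ← hk] at h1
      have h3 : g * y₀ ^ k * g⁻¹ = (g * y₀ * g⁻¹) ^ k := (conj_zpow).symm
      rw [h3, ← hk, ← zpow_mul] at h1
      exact h1
    have h7 : (7 : ℤ) ∣ (k - 1) * (k + 1) := by
      have h1 : y₀ ^ (k * k - 1) = 1 := by
        rw [zpow_sub, hk2]; simp
      have h2 := orderOf_dvd_iff_zpow_eq_one.2 h1
      rw [hord y₀ hy₀ hy₀1] at h2
      have h3 : (k - 1) * (k + 1) = k * k - 1 := by ring
      rw [h3]
      exact_mod_cast h2
    have hinv : g * y₀ * g⁻¹ = y₀⁻¹ := by
      rcases (Int.prime_iff_natAbs_prime.2 (by norm_num) : Prime (7 : ℤ)).dvd_or_dvd h7 with h | h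
      · exfalso
        apply hgQ
        have h1 : y₀ ^ (k - 1) = 1 := by
          rw [← orderOf_dvd_iff_zpow_eq_one, hord y₀ hy₀ hy₀1]
          exact_mod_cast h
        have h2 : y₀ ^ k = y₀ := by
          have : k = (k - 1) + 1 := by ring
          rw [this, zpow_add, h1]; simp
        rw [h2] at hk
        rw [← hc y₀ hy₀ hy₀1, Subgroup.mem_centralizer_singleton_iff]
        have h3 : g * y₀ = y₀ * g := by
          rw [← mul_inv_eq_iff_eq_mul]; exact hk.symm
        first
          | exact h3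
          | exact h3.symm
      · have h1 : y₀ ^ (k + 1) = 1 := by
          rw [← orderOf_dvd_iff_zpow_eq_one, hord y₀ hy₀ hy₀1]
          exact_mod_cast h
        rw [← hk]
        have : k = (k + 1) + (-1) := by ring
        rw [this, zpow_add, h1]; simp
    refine ⟨g, hgN, ?_⟩
    intro y hy
    rw [← hz y₀ hy₀ hy₀1, Subgroup.mem_zpowers_iff] at hy
    obtain ⟨j, rfl⟩ := hy
    have h3 : g * y₀ ^ j * g⁻¹ = (g * y₀ * g⁻¹) ^ j := (conj_zpow).symm
    rw [h3, hinv, inv_zpow]
  · rw [hCQ]; exact he2

end Cfsg.Agent.Lib.H2219
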