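import Cfsg.Agent.Lib.H2219Def
import Cfsg.Agent.Lib.H25Nine
import Cfsg.Agent.Lib.SimplePQR
import Cfsg.Agent.Lib.BlockDeg

/-! S2219, piece E2: the core with the data A, E1 as hypotheses (helper84). -/

set_option autoImplicit false
set_option linter.all false

namespace Cfsg.Agent.Lib.H2219

open Cfsg Cfsg.Agent.Lib.CharBasic Cfsg.Agent.Lib.StructConst
open scoped ComplexConjugate

universe u

variable {G : Type u} [Group G] [Finite G]

namespace E2

theorem nums {x : ℂ} (h : x ^ 3 + x ^ 2 - 2 * x - 1 = 0) :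
    x ≠ x ^ 2 - 2 ∧ x ≠ 1 - x - x ^ 2 ∧ x ^ 2 - 2 ≠ 1 - x - x ^ 2 ∧ x ≠ 1 ∧ x ≠ -1 ∧ x ^ 2 - 2 ≠ 1 ∧ x ^ 2 - 2 ≠ -1 ∧
      1 - x - x ^ 2 ≠ 1 ∧ 1 - x - x ^ 2 ≠ -1 := by
  refine ⟨?_, ?_, ?_, ?_, ?_, ?_, ?_, ?_, ?_⟩ <;> intro hq <;> apply one_ne_zero (α := ℂ)
  · linear_combination (5 / 7 - 2 / 7 * x) * h + (6 / 7 + 1 / 7 * x - 2 / 7 * x ^ 2) * hq
  · linear_combination (-4 / 7 - 1 / 7 * x) * h + (-3 / 7 + 3 / 7 * x + 1 / 7 * x ^ 2) * hq
  · linear_combination (-1 / 7 - 6 / 7 * x) * h + (-2 / 7 + 2 / 7 * x + 3 / 7 * x ^ 2) * hq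
  · linear_combination (-1) * h + (2 * x + x ^ 2) * hq
  · linear_combination (1) * h + (2 - x ^ 2) * hq
  · linear_combination (2 - x) * h + (-1 - x + x ^ 2) * hq
  · linear_combination (-x) * h + (-1 + x + x ^ 2) * hq
  · linear_combination (-1 - 2 * x) * h + (4 - x - 2 * x ^ 2) * hq
  · linear_combination (-1) * h + (-x) * hq

/-- the periods -/
theorem periods {w : ℂ} (h7 : w ^ 7 = 1) (h1 : w ≠ 1) :
    let x := w + w⁻¹
    x ^ 3 + x ^ 2 - 2 * x - 1 = 0 ∧ w ^ 2 + (w ^ 2)⁻¹ = x ^ 2 - 2 ∧ w ^ 3 + (w ^ 3)⁻¹ = 1 - x - x ^ 2 := by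
  intro x
  have h0 : w ≠ 0 := by rintro rfl; norm_num at h7
  have hs : 1 + w + w ^ 2 + w ^ 3 + w ^ 4 + w ^ 5 + w ^ 6 = 0 := by
    have : (w - 1) * (1 + w + w ^ 2 + w ^ 3 + w ^ 4 + w ^ 5 + w ^ 6) = 0 := by linear_combination h7
    exact (mul_eq_zero.mp this).resolve_left (sub_ne_zero.mpr h1)
  have i1 : w⁻¹ = w ^ 6 := inv_eq_of_mul_eq_one_right (by linear_combination h7)
  have i2 : (w ^ 2)⁻¹ = w ^ 5 := inv_eq_of_mul_eq_one_right (by linear_combination h7)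
  have i3 : (w ^ 3)⁻¹ = w ^ 4 := inv_eq_of_mul_eq_one_right (by linear_combination h7)
  have hx : x = w + w ^ 6 := by rw [← i1]
  have e2 : x ^ 2 = w ^ 2 + w ^ 5 + 2 := by
    rw [hx]; linear_combination (2 + w ^ 5) * h7
  have e3 : x ^ 3 = w ^ 3 + w ^ 4 + 3 * x := by
    rw [pow_succ, e2, hx]; linear_combination (w + w ^ 4) * h7
  refine ⟨?_, ?_, ?_⟩
  · rw [e3, e2, hx]; linear_combination hs
  · rw [i2, e2]; ring
  · rw [i3, e2, hx]; linear_combination hs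

/-- a linear character which is nontrivial at `y` -/
theorem exists_hom {Q : Subgroup G} (hQ : Nat.card Q = 7) {y : Q} (hy : y ≠ 1) : ∃ φ : ↥Q →* ℂˣ, φ y ≠ 1 := by
  have : Fact (Nat.Prime 7) := ⟨by norm_num⟩
  have hc : IsCyclic Q := isCyclic_of_prime_card hQ
  letI : CommGroup Q := hc.commGroup
  exact CommGroup.exists_apply_ne_one_of_hasEnoughRootsOfUnity Q ℂ hy

/-- nonzero values in a column with prescribed total -/
theorem column {y : G} {c : ℕ} (hc : Nat.card (Subgroup.centralizer ({y} : Set G)) = c) (F : Finset (IrrCharacter G))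
    (hF : ∑ χ ∈ F, (χ : G → ℂ) y * conj ((χ : G → ℂ) y) = c) (χ : IrrCharacter G) (hχ : χ ∉ F) : (χ : G → ℂ) y = 0 := by
  classical
  have h1 := column_orthogonality y y
  rw [if_pos (IsConj.refl y), hc, ← Finset.sum_add_sum_compl F, hF] at h1
  have h2 : ∑ χ ∈ Fᶜ, (χ : G → ℂ) y * conj ((χ : G → ℂ) y) = 0 := by linear_combination h1
  simp only [Complex.mul_conj] at h2
  have h3 : ∑ χ ∈ Fᶜ, Complex.normSq ((χ : G → ℂ) y) = 0 := by exact_mod_cast h2
  have h4 := (Finset.sum_eq_zero_iff_of_nonneg (fun χ _ => Complex.normSq_nonneg _)).mp h3 χ (by simpa using hχ)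
  exact Complex.normSq_eq_zero.mp h4

theorem core [IsSimpleGroup G] (hG : ¬ IsMulCommutative G) (a : ℕ) (hcard : Nat.card G = 9 * 2 ^ a * 7)
    (χ₇ χ₈ : IrrCharacter G) (h7 : charDegree (χ₇ : G → ℂ) = 7) (h8 : charDegree (χ₈ : G → ℂ) = 8)
    (hrel : ∀ z : G, ¬ 3 ∣ orderOf z → (χ₈ : G → ℂ) z = 1 + (χ₇ : G → ℂ) z)
    (Q : Subgroup G) (hQ : Nat.card Q = 7) (hC : ∀ y ∈ Q, y ≠ 1 → Subgroup.centralizer ({y} : Set G) = Q)
    (θ : IrrCharacter G) (a' δ : ℤ) (ζ : (↥Q →* ℂˣ) → IrrCharacter G)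
    (ha' : a' = 1 ∨ a' = -1) (hδ : δ = 1 ∨ δ = -1) (hθ1 : (θ : G → ℂ) ≠ (fun _ => 1))
    (hθ : ∀ z y : G, IsPPart 7 z y → y ∈ Q → y ≠ 1 → (θ : G → ℂ) z = a')
    (hζ : ∀ ψ : ↥Q →* ℂˣ, ψ ≠ 1 → (ζ ψ : G → ℂ) ≠ (fun _ => 1) ∧
        (∀ g : G, ¬ 7 ∣ orderOf g → 1 + (a' : ℂ) * (θ : G → ℂ) g = (δ : ℂ) * (ζ ψ : G → ℂ) g) ∧
        (∀ (z : G) (y : ↥Q), IsPPart 7 z (y : G) → (y : G) ≠ 1 →
          (ζ ψ : G → ℂ) z = (δ : ℂ) * (((ψ y : ℂˣ) : ℂ) + ((ψ y : ℂˣ) : ℂ)⁻¹))) : Nat.card G = 504 := by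
  classical
  have := Fintype.ofFinite G
  have hp7 : Fact (Nat.Prime 7) := ⟨by norm_num⟩
  have hZ : Subgroup.center G = ⊥ := by
    rcases IsSimpleGroup.eq_bot_or_eq_top_of_normal (Subgroup.center G) inferInstance with h | h
    · exact h
    · exfalso
      apply hG
      refine ⟨⟨fun x y => ?_⟩⟩
      have hx : x ∈ Subgroup.center G := by rw [h]; exact Subgroup.mem_top x
      exact (Subgroup.mem_center_iff.mp hx y).symm
  -- the element y
  obtain ⟨y, hy1⟩ : ∃ y : Q, y ≠ 1 := by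
    by_contra hcon
    push Not at hcon
    have : Subsingleton Q := ⟨fun p q => by rw [hcon p, hcon q]⟩
    have := Nat.card_of_subsingleton (1 : Q)
    omega
  have hy1' : (y : G) ≠ 1 := fun h => hy1 (Subtype.ext h)
  have hy7 : y ^ 7 = 1 := by rw [← hQ]; exact pow_card_eq_one'
  have hoy : orderOf (y : G) = 7 := by
    rw [Subgroup.orderOf_coe]
    exact orderOf_eq_prime hy7 hy1
  have hpy : IsPPart 7 (y : G) (y : G) := ⟨1, mul_one _, Commute.one_right _, ⟨1, by rw [hoy, pow_one]⟩, by simp⟩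
  have hcy : Nat.card (Subgroup.centralizer ({(y : G)} : Set G)) = 7 := by rw [hC y y.2 hy1', hQ]
  obtain ⟨φ, hφ⟩ := exists_hom hQ hy1
  set w : ℂ := ((φ y : ℂˣ) : ℂ) with hw
  have hw7 : w ^ 7 = 1 := by
    have : (φ y) ^ 7 = 1 := by rw [← map_pow, hy7, map_one]
    rw [hw, ← Units.val_pow_eq_pow_val, this, Units.val_one]
  have hw1 : w ≠ 1 := by
    intro h; apply hφ; exact Units.ext h
  obtain ⟨hx, hx2, hx3⟩ := periods hw7 hw1
  set x := w + w⁻¹ with hxd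
  obtain ⟨n12, n13, n23, n1a, n1b, n2a, n2b, n3a, n3b⟩ := nums hx
  have hφk : ∀ k : ℕ, k ∈ [1, 2, 3] → φ ^ k ≠ 1 := by
    intro k hk h
    have h1 : w ^ k = 1 := by
      have h2 := congrArg (fun f : ↥Q →* ℂˣ => ((f y : ℂˣ) : ℂ)) h
      simpa [hw] using h2
    have h3 : orderOf w = 7 := by
      have : Fact (Nat.Prime 7) := ⟨by norm_num⟩
      exact orderOf_eq_prime hw7 hw1
    have h4 := orderOf_dvd_of_pow_eq_one h1
    rw [h3] at h4
    simp only [List.mem_cons, List.mem_nil_iff, or_false] at hk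
    rcases hk with rfl | rfl | rfl <;> norm_num at h4
  set z1 := ζ (φ ^ 1) with hz1
  set z2 := ζ (φ ^ 2) with hz2
  set z3 := ζ (φ ^ 3) with hz3
  obtain ⟨p1, q1, r1⟩ := hζ (φ ^ 1) (hφk 1 (by simp))
  obtain ⟨p2, q2, r2⟩ := hζ (φ ^ 2) (hφk 2 (by simp))
  obtain ⟨p3, q3, r3⟩ := hζ (φ ^ 3) (hφk 3 (by simp))
  have v1 : (z1 : G → ℂ) y = δ * x := by
    rw [hz1, r1 y y hpy hy1']; simp [hxd, hw]
  have v2 : (z2 : G → ℂ) y = δ * (x ^ 2 - 2) := by
    rw [hz2, r2 y y hpy hy1', ← hx2]; simp [hw]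
  have v3 : (z3 : G → ℂ) y = δ * (1 - x - x ^ 2) := by
    rw [hz3, r3 y y hpy hy1', ← hx3]; simp [hw]
  have vθ : (θ : G → ℂ) y = a' := hθ y y hpy y.2 hy1'
  let tr : IrrCharacter G := ⟨fun _ => 1, isIrrCharacter_fun_one⟩
  have vt : (tr : G → ℂ) y = 1 := rfl
  have hδ0 : (δ : ℂ) * δ = 1 := by rcases hδ with h | h <;> rw [h] <;> norm_num
  have ha0 : (a' : ℂ) * a' = 1 := by rcases ha' with h | h <;> rw [h] <;> norm_num
  have hδne : (δ : ℂ) ≠ 0 := by rintro h; rw [h] at hδ0; norm_num at hδ0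
  -- real values
  have hxr : conj x = x := by
    have hwn : conj w = w⁻¹ := by
      have h1 : ‖w‖ = 1 := by
        have h2 : ‖w‖ ^ 7 = 1 := by rw [← norm_pow, hw7, norm_one]
        exact (pow_eq_one_iff_of_nonneg (norm_nonneg _) (by norm_num)).mp h2
      rw [Complex.inv_def, Complex.normSq_eq_norm_sq, h1]; simp
    rw [hxd, map_add, map_inv₀, hwn, inv_inv, add_comm]
  -- non-equalities
  have nz : ∀ (c : ℂ), c ≠ 1 → c ≠ -1 → (δ : ℂ) * c ≠ a' := by
    intro c h1 h2 h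
    rcases hδ with hd | hd <;> rcases ha' with hh | hh <;> rw [hd, hh] at h <;> push_cast at h
    · exact h1 (by linear_combination h)
    · exact h2 (by linear_combination h)
    · exact h2 (by linear_combination -h)
    · exact h1 (by linear_combination -h)
  have dtθ : tr ≠ θ := fun h => hθ1 (by rw [← h])
  have dt1 : tr ≠ z1 := fun h => p1 (by rw [← hz1, ← h])
  have dt2 : tr ≠ z2 := fun h => p2 (by rw [← hz2, ← h])
  have dt3 : tr ≠ z3 := fun h => p3 (by rw [← hz3, ← h])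
  have dθ1 : θ ≠ z1 := fun h => nz x n1a n1b (by rw [← v1, ← vθ, h])
  have dθ2 : θ ≠ z2 := fun h => nz _ n2a n2b (by rw [← v2, ← vθ, h])
  have dθ3 : θ ≠ z3 := fun h => nz _ n3a n3b (by rw [← v3, ← vθ, h])
  have d12 : z1 ≠ z2 := fun h => n12 (mul_left_cancel₀ hδne (by rw [← v1, ← v2, h]))
  have d13 : z1 ≠ z3 := fun h => n13 (mul_left_cancel₀ hδne (by rw [← v1, ← v3, h]))
  have d23 : z2 ≠ z3 := fun h => n23 (mul_left_cancel₀ hδne (by rw [← v2, ← v3, h]))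
  set F : Finset (IrrCharacter G) := {tr, θ, z1, z2, z3} with hF
  have sumF : ∀ f : IrrCharacter G → ℂ, ∑ χ ∈ F, f χ = f tr + f θ + f z1 + f z2 + f z3 := by
    intro f
    rw [hF, Finset.sum_insert (by simp [dtθ, dt1, dt2, dt3]), Finset.sum_insert (by simp [dθ1, dθ2, dθ3]),
      Finset.sum_insert (by simp [d12, d13]), Finset.sum_insert (by simp [d23]), Finset.sum_singleton]
    ring
  have hzero : ∀ χ : IrrCharacter G, χ ∉ F → (χ : G → ℂ) y = 0 := by
    apply column hcy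
    rw [sumF]
    simp only [vt, vθ, v1, v2, v3]
    simp only [map_mul, map_sub, map_one, map_pow, hxr, map_ofNat, map_intCast]
    push_cast
    linear_combination ha0 + (x ^ 2 + (x ^ 2 - 2) ^ 2 + (1 - x - x ^ 2) ^ 2) * hδ0 + (2 * x) * hx
  -- the values of χ₇, χ₈ at y
  have e7 : (χ₇ : G → ℂ) 1 = 7 := by rw [← BlockDeg.charDegree_cast_irr, h7]; norm_num
  have e8 : (χ₈ : G → ℂ) 1 = 8 := by rw [← BlockDeg.charDegree_cast_irr, h8]; norm_num
  have hidx7 : (Subgroup.centralizer ({(y : G)} : Set G)).index = 9 * 2 ^ a := by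
    have h1 := Subgroup.card_mul_index (Subgroup.centralizer ({(y : G)} : Set G))
    rw [hcy, hcard] at h1
    omega
  have w7 : (χ₇ : G → ℂ) y = 0 := by
    apply SimplePQR.eq_zero_of_coprime hZ χ₇.2 (n := 7) _ (by rw [e7]; norm_num) hy1'
    · rw [hidx7]
      exact Nat.Coprime.mul_right (by norm_num) (Nat.Coprime.pow_right _ (by norm_num))
    · intro h; rw [h] at e7; norm_num at e7
  have w8 : (χ₈ : G → ℂ) y = 1 := by
    rw [hrel y (by rw [hoy]; norm_num), w7, add_zero]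
  have hθ8 : χ₈ = θ := by
    by_contra hne
    have h1 : χ₈ ∈ F := by
      by_contra h
      have := hzero χ₈ h
      rw [w8] at this
      exact one_ne_zero this
    rw [hF] at h1
    simp only [Finset.mem_insert, Finset.mem_singleton] at h1
    have nzz : ∀ c : ℂ, c ≠ 1 → c ≠ -1 → (δ : ℂ) * c ≠ 1 := by
      intro c h1 h2 h
      rcases hδ with hd | hd <;> rw [hd] at h <;> push_cast at h
      · exact h1 (by linear_combination h)
      · exact h2 (by linear_combination -h)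
    rcases h1 with h | h | h | h | h
    · rw [h] at e8
      have : (1 : ℂ) = 8 := e8
      norm_num at this
    · exact hne h
    · exact nzz _ n1a n1b (by rw [← v1, ← h, w8])
    · exact nzz _ n2a n2b (by rw [← v2, ← h, w8])
    · exact nzz _ n3a n3b (by rw [← v3, ← h, w8])
  have ha1 : (a' : ℂ) = 1 := by rw [← vθ, ← hθ8, w8]
  have h81 : ∀ k : ℕ, k ∈ [1, 2, 3] → (ζ (φ ^ k) : G → ℂ) 1 = 9 ∧ (δ : ℂ) = 1 := by
    intro k hk
    obtain ⟨-, q, -⟩ := hζ (φ ^ k) (hφk k hk)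
    have h1 := q 1 (by simp)
    rw [ha1, ← hθ8, e8, one_mul] at h1
    have h2 := BlockDeg.charDegree_cast_irr (ζ (φ ^ k))
    rcases hδ with hd | hd
    · rw [hd] at h1 ⊢
      push_cast at h1 ⊢
      exact ⟨by linear_combination -h1, rfl⟩
    · exfalso
      rw [hd, ← h2] at h1
      push_cast at h1
      have h3 : ((charDegree (ζ (φ ^ k) : G → ℂ) + 9 : ℕ) : ℂ) = 0 := by push_cast; linear_combination h1
      have h4 : charDegree (ζ (φ ^ k) : G → ℂ) + 9 = 0 := by exact_mod_cast h3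
      omega
  have hδ1 := (h81 1 (by simp)).2
  -- a ≥ 3
  have ha3 : 3 ≤ a := by
    have h1 := BlockDeg.charDegree_dvd_card χ₈.2
    rw [h8, hcard] at h1
    have h2 : 2 ^ 3 ∣ 2 ^ a * 63 := by
      have e : 9 * 2 ^ a * 7 = 2 ^ a * 63 := by ring
      rw [← e]; exact h1
    have h3 : 2 ^ 3 ∣ 2 ^ a := (Nat.Coprime.dvd_of_dvd_mul_right (by norm_num) h2)
    exact (Nat.pow_dvd_pow_iff_le_right (by norm_num)).mp h3
  -- the involution
  have hp2 : Fact (Nat.Prime 2) := ⟨Nat.prime_two⟩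
  obtain ⟨S⟩ : Nonempty (Sylow 2 G) := inferInstance
  have hSc : Nat.card S = 2 ^ a := by
    rw [S.card_eq_multiplicity, hcard]
    congr 1
    have e : 9 * 2 ^ a * 7 = 2 ^ a * 63 := by ring
    rw [e, Nat.factorization_mul (by positivity) (by norm_num), Nat.factorization_pow]
    simp only [Finsupp.coe_add, Pi.add_apply, Finsupp.smul_apply, smul_eq_mul]
    rw [Nat.Prime.factorization_self Nat.prime_two, Nat.factorization_eq_zero_of_not_dvd (by norm_num : ¬ 2 ∣ 63)]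
    simp
  obtain ⟨t, htS, hto, htc⟩ : ∃ z ∈ (S : Subgroup G), orderOf z = 2 ∧ ∀ x ∈ (S : Subgroup G), x * z = z * x := by
    have h1 : Nontrivial (S : Subgroup G) := by
      rw [← Finite.one_lt_card_iff_nontrivial]
      change 1 < Nat.card S
      rw [hSc]; exact Nat.one_lt_two_pow (by omega)
    have h2 : Nontrivial (Subgroup.center (S : Subgroup G)) := S.2.center_nontrivial
    have h3 : IsPGroup 2 (Subgroup.center (S : Subgroup G)) := S.2.to_subgroup _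
    obtain ⟨n, hn⟩ := h3.exists_card_eq
    have h4 : 2 ∣ Nat.card (Subgroup.center (S : Subgroup G)) := by
      rcases Nat.eq_zero_or_pos n with h0 | h0
      · exfalso
        rw [h0, pow_zero] at hn
        have h5 : 1 < Nat.card (Subgroup.center (S : Subgroup G)) := Finite.one_lt_card_iff_nontrivial.mpr h2
        omega
      · rw [hn]; exact dvd_pow_self 2 h0.ne'
    obtain ⟨z, hz⟩ := exists_prime_orderOf_dvd_card' 2 h4
    refine ⟨((z : (S : Subgroup G)) : G), (z : (S : Subgroup G)).2, ?_, ?_⟩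
    · rw [Subgroup.orderOf_coe, Subgroup.orderOf_coe]; exact hz
    · intro x hx
      have := Subgroup.mem_center_iff.mp z.2 ⟨x, hx⟩
      exact congrArg Subtype.val this
  have ht1 : t ≠ 1 := by rintro rfl; simp at hto
  have hSC : (S : Subgroup G) ≤ Subgroup.centralizer ({t} : Set G) := by
    intro s hs
    rw [Subgroup.mem_centralizer_singleton_iff]
    exact htc s hs
  have hdC : 2 ^ a ∣ Nat.card (Subgroup.centralizer ({t} : Set G)) := by
    rw [← hSc]; exact Subgroup.card_dvd_of_le hSC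
  have hidxt : Nat.Coprime 8 (Subgroup.centralizer ({t} : Set G)).index := by
    have h1 : ¬ 2 ∣ (S : Subgroup G).index := S.not_dvd_index
    have h2 : (Subgroup.centralizer ({t} : Set G)).index ∣ (S : Subgroup G).index := Subgroup.index_dvd_of_le hSC
    have h3 : Nat.Coprime 2 (Subgroup.centralizer ({t} : Set G)).index :=
      (Nat.Prime.coprime_iff_not_dvd Nat.prime_two).mpr (fun h => h1 (h.trans h2))
    have e : 8 = 2 ^ 3 := by norm_num
    rw [e]; exact Nat.Coprime.pow_left 3 h3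
  have t8 : (χ₈ : G → ℂ) t = 0 := by
    apply SimplePQR.eq_zero_of_coprime hZ χ₈.2 (n := 8) _ (by rw [e8]; norm_num) ht1 hidxt
    intro h; rw [h] at e8; norm_num at e8
  have hζt : ∀ k : ℕ, k ∈ [1, 2, 3] → (ζ (φ ^ k) : G → ℂ) t = 1 := by
    intro k hk
    obtain ⟨-, q, -⟩ := hζ (φ ^ k) (hφk k hk)
    have h1 := q t (by rw [hto]; norm_num)
    rw [← hθ8, t8, mul_zero, add_zero, hδ1, one_mul] at h1
    exact h1.symm
  -- the structure constant
  have hsc := H25Nine.sc_sub (S := (⊤ : Subgroup G)) (x := t) (y := t) (z := (y : G)) (fun _ _ _ _ _ => Subgroup.mem_top _)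
  rw [← Finset.sum_add_sum_compl F, sumF] at hsc
  have hrest : ∑ χ ∈ Fᶜ, (χ : G → ℂ) t * (χ : G → ℂ) t * conj ((χ : G → ℂ) y) / (χ : G → ℂ) 1 = 0 := by
    apply Finset.sum_eq_zero
    intro χ hχ
    rw [hzero χ (by simpa using hχ)]; simp
  rw [hrest] at hsc
  have tt : (tr : G → ℂ) t = 1 := rfl
  have t1 : (tr : G → ℂ) 1 = 1 := rfl
  rw [tt, ← hθ8, t8, hz1, hζt 1 (by simp), (h81 1 (by simp)).1, hz2, hζt 2 (by simp), (h81 2 (by simp)).1,
    hz3, hζt 3 (by simp), (h81 3 (by simp)).1, ← hz1, ← hz2, ← hz3, v1, v2, v3, hδ1] at hsc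
  simp only [map_mul, map_sub, map_one, map_pow, hxr, map_ofNat, one_mul, mul_one, zero_mul, zero_div, add_zero] at hsc
  set N := (Finset.univ.filter fun u : (⊤ : Subgroup G) => IsConj t (u : G) ∧ IsConj t ((u : G)⁻¹ * (y : G))).card with hN
  have hfin : (8 * Nat.card G : ℂ) = 9 * ((Nat.card (Subgroup.centralizer ({t} : Set G)) : ℂ) *
      (Nat.card (Subgroup.centralizer ({t} : Set G)) : ℂ) * (N : ℂ)) := by
    rw [← hsc]; ring
  have hfin' : 8 * Nat.card G = 9 * (Nat.card (Subgroup.centralizer ({t} : Set G)) *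
      Nat.card (Subgroup.centralizer ({t} : Set G)) * N) := by exact_mod_cast hfin
  obtain ⟨c, hc⟩ := hdC
  rw [hc, hcard] at hfin'
  have h9 : 56 = 2 ^ a * (c * c * N) := by
    have h10 : (9 * 2 ^ a) * 56 = (9 * 2 ^ a) * (2 ^ a * (c * c * N)) := by
      calc (9 * 2 ^ a) * 56 = 8 * (9 * 2 ^ a * 7) := by ring
        _ = 9 * (2 ^ a * c * (2 ^ a * c) * N) := hfin'
        _ = _ := by ring
    exact Nat.eq_of_mul_eq_mul_left (by positivity) h10
  have h11 : 2 ^ a ∣ 56 := ⟨_, h9⟩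
  have h12 : a ≤ 3 := by
    by_contra hcon
    have h13 : 2 ^ 4 ∣ 56 := (pow_dvd_pow 2 (by omega : 4 ≤ a)).trans h11
    norm_num at h13
  have h14 : a = 3 := le_antisymm h12 ha3
  rw [hcard, h14]
  norm_num

end E2

end Cfsg.Agent.Lib.H2219
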