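import Cfsg.Agent.Lib.H2219Def
import Cfsg.Agent.Lib.H2219A
import Cfsg.Agent.Lib.H2219E1
import Cfsg.Agent.Lib.H2219E2A

/-! S2219, piece E2 (helper84). -/

set_option autoImplicit false
set_option linter.all false

namespace Cfsg.Agent.Lib.H2219

open Cfsg

universe u

variable {G : Type u} [Group G] [Finite G]

theorem seven [IsSimpleGroup G] (hG : ¬ IsMulCommutative G) (a : ℕ) (hcard : Nat.card G = 9 * 2 ^ a * 7) (χ₇ χ₈ : IrrCharacter G)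
    (h7 : charDegree (χ₇ : G → ℂ) = 7) (h8 : charDegree (χ₈ : G → ℂ) = 8)
    (hrel : ∀ z : G, ¬ 3 ∣ orderOf z → (χ₈ : G → ℂ) z = 1 + (χ₇ : G → ℂ) z) : Nat.card G = 504 := by
  have hp7 : Fact (Nat.Prime 7) := ⟨by norm_num⟩
  obtain ⟨Q⟩ : Nonempty (Sylow 7 G) := inferInstance
  obtain ⟨h1, h2, h3, h4⟩ := seven_norm hG a hcard Q
  have hcomm : IsMulCommutative Q := by
    have hc : IsCyclic Q := isCyclic_of_prime_card h1
    letI : CommGroup Q := hc.commGroup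
    exact ⟨⟨fun x y => mul_comm x y⟩⟩
  obtain ⟨θ, a', δ, ζ, ha', hδ, hθ1, hθ, -, hζ⟩ := inv_data 7 Q (Or.inl h1) hcomm h3 h4
  exact E2.core hG a hcard χ₇ χ₈ h7 h8 hrel (Q : Subgroup G) h1 h2 θ a' δ ζ ha' hδ hθ1 hθ hζ

end Cfsg.Agent.Lib.H2219
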