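import Cfsg.Agent.Lib.H2219Def
import Cfsg.Agent.Lib.H25Nine
import Cfsg.Agent.Lib.CharApps
import Cfsg.Agent.Lib.BlockDeg

/-! S2219, piece F (helper81): the pair of degrees (4, 5) is impossible. -/

set_option autoImplicit false
set_option linter.all false

namespace Cfsg.Agent.Lib.H2219

open Cfsg Cfsg.Agent.Lib.CharBasic

universe u

variable {G : Type u} [Group G] [Finite G]

theorem f_faithful [IsSimpleGroup G] {χ : IrrCharacter G} (hne : (χ : G → ℂ) ≠ fun _ => 1) {g : G}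
    (hg : (χ : G → ℂ) g = (χ : G → ℂ) 1) : g = 1 := by
  obtain ⟨χ, n, ρ, hρ, h⟩ := χ
  have h1 : ρ.character ≠ fun _ => 1 := by
    intro e
    apply hne
    show χ = fun _ => 1
    rw [← h, e]
  have hinj := CharApps.injective_of_simple ρ hρ h1
  apply hinj
  have h2 : ρ.character g = (Module.finrank ℂ (Fin n → ℂ) : ℂ) := by
    have : χ g = χ 1 := hg
    rw [← h] at this
    rw [this, Representation.char_one]
  rw [(CharValues.character_eq_finrank_iff ρ g).1 h2, map_one]
  rfl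

/-- `P` is generated by `a` and `b` -/
theorem f_gen {P : Sylow 3 G} {a b : G} (h : KH P a b) : (P : Subgroup G) = Subgroup.closure {a, b} := by
  have hle : Subgroup.closure {a, b} ≤ (P : Subgroup G) := by
    rw [Subgroup.closure_le]
    rintro x (rfl | rfl)
    · exact h.ha
    · exact h.hb
  symm
  apply Subgroup.eq_of_le_of_card_ge hle
  have ha3 : orderOf a = 3 := orderOf_eq_prime (h.cube a h.ha) h.ha1
  have hlt : Subgroup.zpowers a < Subgroup.closure {a, b} := by
    refine lt_of_le_of_ne ?_ ?_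
    · rw [Subgroup.zpowers_le]
      exact Subgroup.subset_closure (by simp)
    · intro e
      apply h.hb1
      rw [e]
      exact Subgroup.subset_closure (by simp)
  have h1 : Nat.card (Subgroup.zpowers a) < Nat.card (Subgroup.closure {a, b}) := by
    by_contra hcon
    push Not at hcon
    exact hlt.ne (Subgroup.eq_of_le_of_card_ge hlt.le hcon)
  rw [Nat.card_zpowers, ha3] at h1
  have h2 : Nat.card (Subgroup.closure {a, b}) ∣ 9 := by
    have := Subgroup.card_dvd_of_le hle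
    have h9 : Nat.card (P : Subgroup G) = 9 := h.cardP
    rwa [h9] at this
  have h9 : Nat.card (P : Subgroup G) = 9 := h.cardP
  rw [h9]
  generalize Nat.card (Subgroup.closure {a, b}) = k at h1 h2
  have hk : k ≤ 9 := Nat.le_of_dvd (by norm_num) h2
  interval_cases k <;> omega

theorem f_comm {P : Sylow 3 G} {a b : G} (h : KH P a b) : ∀ x ∈ (P : Subgroup G), ∀ y ∈ (P : Subgroup G), x * y = y * x := by
  have hc : Nat.card (P : Subgroup G) = 3 ^ 2 := h.cardP
  haveI : Fact (Nat.Prime 3) := ⟨by norm_num⟩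
  intro x hx y hy
  have := (IsPGroup.commGroupOfCardEqPrimeSq hc).mul_comm ⟨x, hx⟩ ⟨y, hy⟩
  exact congrArg Subtype.val this

theorem f_real {P : Sylow 3 G} {a b : G} (h : KH P a b) {u : G} (hu : u ∈ (P : Subgroup G)) : IsConj u u⁻¹ := by
  obtain ⟨s, hs, hsa, hsb⟩ := h.s
  obtain ⟨t, ht, hta, htb⟩ := h.t
  rw [isConj_iff]
  refine ⟨s * t, ?_⟩
  have hcomm := f_comm h
  have hle : (P : Subgroup G) ≤ Subgroup.closure {a, b} := (f_gen h).le
  have hle' : Subgroup.closure {a, b} ≤ (P : Subgroup G) := (f_gen h).ge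
  have := hle hu
  induction this using Subgroup.closure_induction with
  | mem x hx =>
    rcases hx with rfl | rfl
    · calc s * t * x * (s * t)⁻¹ = s * (t * x * t⁻¹) * s⁻¹ := by group
        _ = x⁻¹ := by rw [hta, hsa]
    · calc s * t * x * (s * t)⁻¹ = s * (t * x * t⁻¹) * s⁻¹ := by group
        _ = (s * x * s⁻¹)⁻¹ := by rw [htb]; group
        _ = x⁻¹ := by rw [hsb]
  | one => group
  | mul x y hx hy ihx ihy =>
    calc s * t * (x * y) * (s * t)⁻¹ = (s * t * x * (s * t)⁻¹) * (s * t * y * (s * t)⁻¹) := by group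
      _ = x⁻¹ * y⁻¹ := by rw [ihx (hle' hx), ihy (hle' hy)]
      _ = (x * y)⁻¹ := by rw [← mul_inv_rev, hcomm x (hle' hx) y (hle' hy)]
  | inv x hx ih =>
    calc s * t * x⁻¹ * (s * t)⁻¹ = (s * t * x * (s * t)⁻¹)⁻¹ := by group
      _ = x⁻¹⁻¹ := by rw [ih (hle' hx)]

theorem f_mem_zp {a : G} (ha : orderOf a = 3) {x : G} (hx : x ∈ Subgroup.zpowers a) : x = 1 ∨ x = a ∨ x = a⁻¹ := by
  have h1 : x ∈ Submonoid.powers a := (mem_powers_iff_mem_zpowers).mpr hx
  rw [Submonoid.mem_powers_iff] at h1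
  obtain ⟨n, rfl⟩ := h1
  have h3 : a ^ 3 = 1 := by rw [← ha]; exact pow_orderOf_eq_one a
  have : n % 3 < 3 := Nat.mod_lt _ (by norm_num)
  rw [← Nat.mod_add_div n 3, pow_add, pow_mul, h3, one_pow, mul_one]
  interval_cases h : n % 3
  · left; simp
  · right; left; simp
  · right; right
    rw [eq_inv_iff_mul_eq_one, ← pow_succ]; exact h3

/-- values of a real character on elements of order 3 -/
theorem f_val {χ : IrrCharacter G} {d : ℕ} (hd : charDegree (χ : G → ℂ) = d) {u : G} (hu : orderOf u = 3)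
    (hr : IsConj u u⁻¹) : ∃ n : ℤ, (χ : G → ℂ) u = n ∧ (3 : ℤ) ∣ n - d ∧ 0 ≤ (d : ℤ) + 2 * n ∧ n ≤ d := by
  classical
  haveI := Fintype.ofFinite G
  have h1 : (χ : G → ℂ) 1 = d := by rw [← hd]; exact (BlockDeg.charDegree_cast_irr χ).symm
  obtain ⟨n, hn, h3⟩ := H25Nine.real_three χ.2.isCharacter hu hr h1
  refine ⟨n, hn, h3, ?_, ?_⟩
  · obtain ⟨m, hm⟩ := H25Nine.sum_subgroup χ.2.isCharacter (Subgroup.zpowers u)
    have hcard : Nat.card (Subgroup.zpowers u) = 3 := by rw [Nat.card_zpowers, hu]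
    have e : ∑ x : Subgroup.zpowers u, (χ : G → ℂ) (x : G) = (χ : G → ℂ) 1 + (χ : G → ℂ) u + (χ : G → ℂ) (u ^ 2) := by
      have e : ∑ x : Subgroup.zpowers u, (χ : G → ℂ) (x : G) = ∑ i : Fin (orderOf u), (χ : G → ℂ) (u ^ (i : ℕ)) := by
        symm
        apply Fintype.sum_equiv (finEquivZPowers (isOfFinOrder_of_finite u))
        intro i
        rw [finEquivZPowers_apply]
      rw [e, Fin.sum_univ_eq_sum_range (fun i => (χ : G → ℂ) (u ^ i)) (orderOf u), hu]
      simp [Finset.sum_range_succ]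
    have h2 : (χ : G → ℂ) (u ^ 2) = (χ : G → ℂ) u := by
      have : u ^ 2 = u⁻¹ := by
        have h3 := pow_orderOf_eq_one u
        rw [hu] at h3
        rw [eq_inv_iff_mul_eq_one, ← pow_succ]
        exact h3
      rw [this]
      exact (χ.2.isCharacter.isClassFunction.conj_eq hr).symm
    rw [e, h2, h1, hn, hcard] at hm
    have h4 : (d : ℤ) + n + n = 3 * m := by exact_mod_cast hm
    omega
  · have hb : ‖(χ : G → ℂ) u‖ ≤ d := by
      obtain ⟨k, ρ, hρ⟩ := χ.2.isCharacter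
      have h5 := CharValues.norm_character_le ρ u
      have h6 : (Module.finrank ℂ (Fin k → ℂ) : ℂ) = (d : ℂ) := by
        rw [← h1, ← hρ, Representation.char_one]
      have h7 : Module.finrank ℂ (Fin k → ℂ) = d := by exact_mod_cast h6
      rw [h7, hρ] at h5
      exact h5
    rw [hn] at hb
    have h8 : |(n : ℝ)| ≤ d := by
      rw [← Complex.norm_intCast]; exact hb
    have h9 : (n : ℝ) ≤ d := (le_abs_self _).trans h8
    exact_mod_cast h9

theorem five [IsSimpleGroup G] (hG : ¬ IsMulCommutative G) (P : Sylow 3 G) (a b : G) (h : KH P a b) (χ₄ χ₅ : IrrCharacter G)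
    (h4 : charDegree (χ₄ : G → ℂ) = 4) (h5 : charDegree (χ₅ : G → ℂ) = 5)
    (hrel : ∀ z : G, 1 + (χ₄ : G → ℂ) z - (χ₅ : G → ℂ) z = Psi P a z) : False := by
  classical
  haveI := Fintype.ofFinite G
  have e4 : (χ₄ : G → ℂ) 1 = 4 := by
    rw [← BlockDeg.charDegree_cast_irr, h4]; norm_num
  have hne : (χ₄ : G → ℂ) ≠ fun _ => 1 := by
    intro hc
    rw [hc] at e4
    norm_num at e4
  have ho : ∀ u ∈ (P : Subgroup G), u ≠ 1 → orderOf u = 3 := fun u hu hu1 => orderOf_eq_prime (h.cube u hu) hu1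
  have ha3 : orderOf a = 3 := ho a h.ha h.ha1
  -- values of χ₄
  have hv4 : ∀ u ∈ (P : Subgroup G), u ≠ 1 → (χ₄ : G → ℂ) u = 1 ∨ (χ₄ : G → ℂ) u = -2 := by
    intro u hu hu1
    obtain ⟨n, hn, h3, h0, hd⟩ := f_val h4 (ho u hu hu1) (f_real h hu)
    have hn4 : n ≠ 4 := by
      rintro rfl
      apply hu1
      apply f_faithful hne
      rw [hn, e4]; norm_num
    have : n = 1 ∨ n = -2 := by omega
    rcases this with rfl | rfl
    · left; rw [hn]; norm_num
    · right; rw [hn]; norm_num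
  have hv1 : ∀ u ∈ (P : Subgroup G), u ∉ Subgroup.zpowers a → (χ₄ : G → ℂ) u = 1 := by
    intro u hu hua
    have hu1 : u ≠ 1 := by rintro rfl; exact hua (Subgroup.one_mem _)
    have hP : Psi P a u = 3 := by
      unfold Psi
      rw [if_pos]
      refine ⟨u, ⟨1, mul_one u, Commute.one_right u, ⟨1, by rw [ho u hu hu1]; norm_num⟩, by simp⟩, 1, ?_, ?_⟩
      · simpa using hu
      · simpa using hua
    have h6 := hrel u
    rw [hP] at h6
    rcases hv4 u hu hu1 with h7 | h7
    · exact h7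
    · exfalso
      obtain ⟨n, hn, h3, h0, hd⟩ := f_val h5 (ho u hu hu1) (f_real h hu)
      rw [h7, hn] at h6
      have h8 : (1 : ℤ) + (-2) - n = 3 := by exact_mod_cast h6
      omega
  -- sums
  have hsum : ∀ (H : Subgroup G), ∑ x : H, ((χ₄ : G → ℂ) (x : G) - 1) =
      ∑ x ∈ Finset.univ.filter (fun x : G => x ∈ H), ((χ₄ : G → ℂ) x - 1) := by
    intro H
    rw [Finset.sum_subtype (Finset.univ.filter (fun x : G => x ∈ H)) (p := fun x => x ∈ H) (by simp)]
  have hle : Subgroup.zpowers a ≤ (P : Subgroup G) := by rw [Subgroup.zpowers_le]; exact h.ha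
  have hPa : ∑ x : (P : Subgroup G), ((χ₄ : G → ℂ) (x : G) - 1) = ∑ x : Subgroup.zpowers a, ((χ₄ : G → ℂ) (x : G) - 1) := by
    rw [hsum, hsum]
    symm
    apply Finset.sum_subset
    · intro x hx
      simp only [Finset.mem_filter, Finset.mem_univ, true_and] at hx ⊢
      exact hle hx
    · intro x hx hxa
      simp only [Finset.mem_filter, Finset.mem_univ, true_and] at hx hxa
      rw [hv1 x hx hxa, sub_self]
  have hcP : Fintype.card (P : Subgroup G) = 9 := by rw [← Nat.card_eq_fintype_card]; exact h.cardP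
  have hca : Fintype.card (Subgroup.zpowers a) = 3 := by rw [← Nat.card_eq_fintype_card, Nat.card_zpowers, ha3]
  rw [Finset.sum_sub_distrib, Finset.sum_sub_distrib] at hPa
  simp only [Finset.sum_const, Finset.card_univ, hcP, hca, nsmul_eq_mul, mul_one] at hPa
  obtain ⟨m, hm⟩ := H25Nine.sum_subgroup χ₄.2.isCharacter (P : Subgroup G)
  have hcP' : Nat.card (P : Subgroup G) = 9 := h.cardP
  rw [hcP'] at hm
  have e : ∑ x : Subgroup.zpowers a, (χ₄ : G → ℂ) (x : G) = (χ₄ : G → ℂ) 1 + (χ₄ : G → ℂ) a + (χ₄ : G → ℂ) (a ^ 2) := by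
    have e : ∑ x : Subgroup.zpowers a, (χ₄ : G → ℂ) (x : G) = ∑ i : Fin (orderOf a), (χ₄ : G → ℂ) (a ^ (i : ℕ)) := by
      symm
      apply Fintype.sum_equiv (finEquivZPowers (isOfFinOrder_of_finite a))
      intro i
      rw [finEquivZPowers_apply]
    rw [e, Fin.sum_univ_eq_sum_range (fun i => (χ₄ : G → ℂ) (a ^ i)) (orderOf a), ha3]
    simp [Finset.sum_range_succ]
  have h2 : (χ₄ : G → ℂ) (a ^ 2) = (χ₄ : G → ℂ) a := by
    have : a ^ 2 = a⁻¹ := by
      have h3 := pow_orderOf_eq_one a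
      rw [ha3] at h3
      rw [eq_inv_iff_mul_eq_one, ← pow_succ]
      exact h3
    rw [this]
    exact (χ₄.2.isCharacter.isClassFunction.conj_eq (f_real h h.ha)).symm
  rw [hm, e, h2, e4] at hPa
  rcases hv4 a h.ha h.ha1 with h7 | h7
  · rw [h7] at hPa
    push_cast at hPa
    have h8 : ((9 * m : ℤ) : ℂ) - 9 = ((4 + 1 + 1 - 3 : ℤ) : ℂ) := by
      push_cast; linear_combination hPa
    have h9 : (9 * m : ℤ) - 9 = 3 := by exact_mod_cast h8
    omega
  · rw [h7] at hPa
    push_cast at hPa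
    have h8 : ((9 * m : ℤ) : ℂ) - 9 = ((4 - 2 - 2 - 3 : ℤ) : ℂ) := by
      push_cast; linear_combination hPa
    have h9 : (9 * m : ℤ) - 9 = -3 := by exact_mod_cast h8
    omega

end Cfsg.Agent.Lib.H2219
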