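import Cfsg.Agent.Lib.H2219Def

/-! Piece G of S2219 (helper51): fusion in a Sylow 3-subgroup of order 9 of a simple group. -/

set_option autoImplicit false
set_option linter.all false

namespace Cfsg.Agent.Lib.H2219

open Cfsg Subgroup

universe u

variable {G : Type u} [Group G] [Finite G]

/-- a transitive conjugation action -/
theorem gcard_orbit (N : Subgroup G) (S : Set G) (hS : ∀ n ∈ N, ∀ x ∈ S, n * x * n⁻¹ ∈ S) {g : G} (hg : g ∈ S)
    (ht : ∀ x ∈ S, ∃ n ∈ N, n * g * n⁻¹ = x) : Nat.card S = (centralizer ({g} : Set G)).relIndex N := by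
  let act : MulAction N S :=
    { smul := fun n x => ⟨n * x * (n : G)⁻¹, hS n n.2 x x.2⟩
      one_smul := fun x => Subtype.ext (by show (1 : G) * x * (1 : G)⁻¹ = x; simp)
      mul_smul := fun a b x => Subtype.ext (by
        show ((a * b : N) : G) * x * ((a * b : N) : G)⁻¹ = a * (b * x * (b : G)⁻¹) * (a : G)⁻¹
        rw [coe_mul]; group) }
  have h2 : (MulAction.stabilizer N (⟨g, hg⟩ : S)) = (centralizer ({g} : Set G)).subgroupOf N := by
    ext n
    rw [MulAction.mem_stabilizer_iff, mem_subgroupOf, mem_centralizer_singleton_iff]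
    constructor
    · intro h
      have : (n : G) * g * (n : G)⁻¹ = g := congrArg Subtype.val h
      rw [mul_inv_eq_iff_eq_mul] at this
      exact this
    · intro h
      apply Subtype.ext
      show (n : G) * g * (n : G)⁻¹ = g
      rw [mul_inv_eq_iff_eq_mul]
      exact h
  have h3 := MulAction.index_stabilizer N (⟨g, hg⟩ : S)
  have h4 : MulAction.orbit N (⟨g, hg⟩ : S) = Set.univ := by
    ext x
    simp only [Set.mem_univ, iff_true]
    obtain ⟨n, hn, h⟩ := ht x x.2
    exact ⟨⟨n, hn⟩, Subtype.ext h⟩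
  rw [h2, h4, Set.ncard_univ] at h3
  exact h3.symm

/-- no nontrivial element of an abelian Sylow subgroup is centralized by the normalizer -/
theorem gfix [IsSimpleGroup G] (hG : ¬ IsMulCommutative G) (P : Sylow 3 G) [hP : IsMulCommutative (P : Subgroup G)] {u : G}
    (hu : u ∈ (P : Subgroup G)) (hf : ∀ n ∈ normalizer ((P : Subgroup G) : Set G), n * u * n⁻¹ = u) : u = 1 := by
  classical
  have : Fact (Nat.Prime 3) := ⟨by norm_num⟩
  letI : CommGroup (P : Subgroup G) := { (inferInstance : Group (P : Subgroup G)) with mul_comm := hP.is_comm.comm }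
  have hf' : ∀ n ∈ normalizer ((P : Subgroup G) : Set G), ∀ k : ℕ, n⁻¹ * u ^ k * n = u ^ k := by
    intro n hn k
    have h1 := hf n⁻¹ (inv_mem hn)
    rw [inv_inv] at h1
    have h2 : n⁻¹ * u ^ k * n = (n⁻¹ * u * n) ^ k := by
      have := conj_pow (a := n⁻¹) (b := u) (i := k)
      rw [inv_inv] at this
      exact this.symm
    rw [h2, h1]
  have key : ∀ (k : ℕ) (g₀ : G), g₀⁻¹ * u ^ k * g₀ ∈ (P : Subgroup G) → g₀⁻¹ * u ^ k * g₀ = u ^ k := by
    intro k g₀ h
    obtain ⟨n, hn, h1⟩ := P.conj_eq_normalizer_conj_of_mem (u ^ k) g₀ (pow_mem hu k) h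
    rw [h1]
    exact hf' n hn k
  let τ : G →* (P : Subgroup G) := (MonoidHom.id (P : Subgroup G)).transfer
  have h1 : τ u = ⟨u ^ (P : Subgroup G).index, MonoidHom.transfer_eq_pow_aux u key⟩ :=
    MonoidHom.transfer_eq_pow (MonoidHom.id (P : Subgroup G)) u key
  have h2 : τ.ker = ⊤ := by
    rcases IsSimpleGroup.eq_bot_or_eq_top_of_normal τ.ker inferInstance with h | h
    · exfalso
      apply hG
      have hinj := (MonoidHom.ker_eq_bot_iff τ).1 h
      exact ⟨⟨fun a b => hinj (by rw [map_mul, map_mul, mul_comm])⟩⟩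
    · exact h
  have h3 : τ u = 1 := by
    rw [← MonoidHom.mem_ker, h2]; trivial
  rw [h1] at h3
  have h4 : u ^ (P : Subgroup G).index = 1 := congrArg Subtype.val h3
  obtain ⟨k, hk⟩ := P.2 ⟨u, hu⟩
  have hk' : u ^ 3 ^ k = 1 := congrArg Subtype.val hk
  have h5 := Nat.dvd_gcd (orderOf_dvd_of_pow_eq_one h4) (orderOf_dvd_of_pow_eq_one hk')
  have h6 : Nat.gcd (P : Subgroup G).index (3 ^ k) = 1 := by
    apply Nat.Coprime.pow_right
    rw [Nat.coprime_comm]
    exact (Nat.Prime.coprime_iff_not_dvd Nat.prime_three).mpr P.not_dvd_index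
  rw [h6, Nat.dvd_one, orderOf_eq_one_iff] at h5
  exact h5

theorem gsq {P : Sylow 3 G} {u : G} (hu : u ∈ (P : Subgroup G)) (h : u⁻¹ = u) : u = 1 := by
  have : Fact (Nat.Prime 3) := ⟨by norm_num⟩
  obtain ⟨k, hk⟩ := P.2 ⟨u, hu⟩
  have hk' : u ^ 3 ^ k = 1 := congrArg Subtype.val hk
  have h2 : u ^ 2 = 1 := by
    rw [sq]
    nth_rw 1 [← h]
    exact inv_mul_cancel u
  have h5 := Nat.dvd_gcd (orderOf_dvd_of_pow_eq_one h2) (orderOf_dvd_of_pow_eq_one hk')
  have h6 : Nat.gcd 2 (3 ^ k) = 1 := Nat.Coprime.pow_right k (by norm_num)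
  rw [h6, Nat.dvd_one, orderOf_eq_one_iff] at h5
  exact h5

/-- orbits of size two -/
theorem gtwo [IsSimpleGroup G] (hG : ¬ IsMulCommutative G) (P : Sylow 3 G) [hP : IsMulCommutative (P : Subgroup G)] {x : G}
    (hx : x ∈ (P : Subgroup G)) (hx1 : x ≠ 1) (h2 : Nat.card {y | y ∈ (P : Subgroup G) ∧ IsConj x y} = 2) :
    (∀ n ∈ normalizer ((P : Subgroup G) : Set G), n * x * n⁻¹ = x ∨ n * x * n⁻¹ = x⁻¹) ∧
      ∃ n ∈ normalizer ((P : Subgroup G) : Set G), n * x * n⁻¹ = x⁻¹ := by
  set S : Set G := {y | y ∈ (P : Subgroup G) ∧ IsConj x y} with hS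
  have hxS : x ∈ S := ⟨hx, IsConj.refl x⟩
  have hNS : ∀ n ∈ normalizer ((P : Subgroup G) : Set G), ∀ y ∈ S, n * y * n⁻¹ ∈ S := by
    intro n hn y hy
    exact ⟨(mem_normalizer_iff.mp hn y).mp hy.1, hy.2.trans (isConj_iff.mpr ⟨n, rfl⟩)⟩
  obtain ⟨n0, hn0, h0⟩ : ∃ n ∈ normalizer ((P : Subgroup G) : Set G), n * x * n⁻¹ ≠ x := by
    by_contra h
    push Not at h
    exact hx1 (gfix hG P hx h)
  set x' := n0 * x * n0⁻¹ with hx'
  have hx'S : x' ∈ S := hNS n0 hn0 x hxS
  have hall : ∀ y ∈ S, y = x ∨ y = x' := by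
    have h3 : ({x, x'} : Set G) ⊆ S := by
      rintro y (rfl | rfl)
      · exact hxS
      · exact hx'S
    have h4 : S.ncard = 2 := h2
    have h5 := Set.eq_of_subset_of_ncard_le h3 (by rw [Set.ncard_pair (Ne.symm h0), h4]) (Set.toFinite _)
    intro y hy
    rw [← h5] at hy
    exact hy
  have hcomm : ∀ a ∈ (P : Subgroup G), ∀ b ∈ (P : Subgroup G), a * b = b * a := fun a ha b hb =>
    congrArg Subtype.val (hP.is_comm.comm ⟨a, ha⟩ ⟨b, hb⟩)
  have hw : x * x' = 1 := by
    apply gfix hG P (mul_mem hx hx'S.1)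
    intro n hn
    have h3 : n * (x * x') * n⁻¹ = (n * x * n⁻¹) * (n * x' * n⁻¹) := by group
    rw [h3]
    have h4 : n * x * n⁻¹ ≠ n * x' * n⁻¹ := by
      intro h
      apply h0
      have := mul_right_cancel h
      exact (mul_left_cancel this).symm
    rcases hall _ (hNS n hn x hxS) with h5 | h5 <;> rcases hall _ (hNS n hn x' hx'S) with h6 | h6
    · exact absurd (h5.trans h6.symm) h4
    · rw [h5, h6]
    · rw [h5, h6]; exact (hcomm _ hx _ hx'S.1).symm
    · exact absurd (h5.trans h6.symm) h4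
  have hinv : x' = x⁻¹ := (inv_eq_of_mul_eq_one_right hw).symm
  constructor
  · intro n hn
    rcases hall _ (hNS n hn x hxS) with h | h
    · exact Or.inl h
    · exact Or.inr (h.trans hinv)
  · exact ⟨n0, hn0, hinv⟩

theorem gcore [IsSimpleGroup G] (hG : ¬ IsMulCommutative G) (P : Sylow 3 G) (hP : Nat.card P = 9)
    [hPc : IsMulCommutative (P : Subgroup G)] {a b : G} (ha : a ∈ (P : Subgroup G)) (hb : b ∈ (P : Subgroup G))
    (ha1 : a ≠ 1) (hb1 : b ≠ 1) (hab : ¬ IsConj a b)
    (ha2 : Nat.card {y | y ∈ (P : Subgroup G) ∧ IsConj a y} = 2) (hb2 : Nat.card {y | y ∈ (P : Subgroup G) ∧ IsConj b y} = 2) :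
    ((∃ g ∈ Subgroup.normalizer ((P : Subgroup G) : Set G), ∀ y ∈ (P : Subgroup G), g * y * g⁻¹ = y⁻¹) ∧
      (Subgroup.centralizer ((P : Subgroup G) : Set G)).relIndex (Subgroup.normalizer ((P : Subgroup G) : Set G)) = 2) ∨
    ∃ a b : G, KH P a b := by
  classical
  have : Fact (Nat.Prime 3) := ⟨by norm_num⟩
  have hP' : Nat.card (P : Subgroup G) = 9 := hP
  obtain ⟨hna, na, hna1, hna2⟩ := gtwo hG P ha ha1 ha2
  obtain ⟨hnb, nb, hnb1, hnb2⟩ := gtwo hG P hb hb1 hb2
  have hcomm : ∀ a ∈ (P : Subgroup G), ∀ b ∈ (P : Subgroup G), a * b = b * a := fun a ha b hb =>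
    congrArg Subtype.val (hPc.is_comm.comm ⟨a, ha⟩ ⟨b, hb⟩)
  have hba : b ≠ a := by rintro rfl; exact hab (IsConj.refl _)
  have hbai : b ≠ a⁻¹ := by
    rintro rfl
    exact hab (isConj_iff.mpr ⟨na, hna2⟩)
  -- P is generated by a and b
  have hgen : closure {a, b} = (P : Subgroup G) := by
    have hle : closure {a, b} ≤ (P : Subgroup G) := by
      rw [closure_le]
      rintro y (rfl | rfl)
      · exact ha
      · exact hb
    have haK : a ∈ closure ({a, b} : Set G) := subset_closure (by simp)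
    have hbK : b ∈ closure ({a, b} : Set G) := subset_closure (by simp)
    have h1 : Nat.card (closure ({a, b} : Set G)) ∣ 9 := by rw [← hP']; exact card_dvd_of_le hle
    have h2 : Nat.card (closure ({a, b} : Set G)) ≠ 1 := by
      intro h
      rw [Subgroup.card_eq_one] at h
      rw [h, mem_bot] at haK
      exact ha1 haK
    have h3 : Nat.card (closure ({a, b} : Set G)) ≠ 3 := by
      intro h
      have h4 : orderOf a ∣ 3 := by rw [← h]; exact Subgroup.orderOf_dvd_natCard _ haK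
      have h5 : orderOf a = 3 := by
        rcases (Nat.dvd_prime Nat.prime_three).mp h4 with h5 | h5
        · exact absurd (orderOf_eq_one_iff.mp h5) ha1
        · exact h5
      have h6 : zpowers a = closure ({a, b} : Set G) := by
        apply Subgroup.eq_of_le_of_card_ge (zpowers_le.mpr haK)
        rw [Nat.card_zpowers, h5, h]
      rw [← h6, mem_zpowers_iff_mem_range_orderOf, h5] at hbK
      obtain ⟨i, hi, hib⟩ := Finset.mem_image.mp hbK
      rw [Finset.mem_range] at hi
      interval_cases i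
      · exact hb1 (by rw [← hib]; exact pow_zero a)
      · exact hba (by rw [← hib]; exact pow_one a)
      · apply hbai
        rw [← hib]
        show a ^ 2 = a⁻¹
        rw [eq_inv_iff_mul_eq_one, ← pow_succ]
        have h9 := pow_orderOf_eq_one a
        rw [h5] at h9
        exact h9
    have h4 : Nat.card (closure ({a, b} : Set G)) = 9 := by
      have h5 : Nat.card (closure ({a, b} : Set G)) ∈ (9 : ℕ).divisors := Nat.mem_divisors.mpr ⟨h1, by norm_num⟩
      have h6 : (9 : ℕ).divisors = {1, 3, 9} := by decide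
      rw [h6] at h5
      simp only [Finset.mem_insert, Finset.mem_singleton] at h5
      rcases h5 with h5 | h5 | h5
      · exact absurd h5 h2
      · exact absurd h5 h3
      · exact h5
    exact Subgroup.eq_of_le_of_card_ge hle (by rw [hP', h4])
  have hcent : ∀ g, g * a * g⁻¹ = a → g * b * g⁻¹ = b → ∀ y ∈ (P : Subgroup G), g * y * g⁻¹ = y := by
    intro g h1 h2 y hy
    rw [← hgen] at hy
    induction hy using closure_induction with
    | mem x hx => rcases hx with rfl | rfl <;> assumption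
    | one => group
    | mul x y _ _ hx hy =>
      calc g * (x * y) * g⁻¹ = (g * x * g⁻¹) * (g * y * g⁻¹) := by group
        _ = _ := by rw [hx, hy]
    | inv x _ hx =>
      calc g * x⁻¹ * g⁻¹ = (g * x * g⁻¹)⁻¹ := by group
        _ = _ := by rw [hx]
  have hinvt : ∀ g, g * a * g⁻¹ = a⁻¹ → g * b * g⁻¹ = b⁻¹ → ∀ y ∈ (P : Subgroup G), g * y * g⁻¹ = y⁻¹ := by
    intro g h1 h2 y hy
    have hle : ∀ y ∈ closure ({a, b} : Set G), y ∈ (P : Subgroup G) := fun y hy => by rw [← hgen]; exact hy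
    rw [← hgen] at hy
    induction hy using closure_induction with
    | mem x hx => rcases hx with rfl | rfl <;> assumption
    | one => group
    | mul x y hx' hy' hx hy =>
      calc g * (x * y) * g⁻¹ = (g * x * g⁻¹) * (g * y * g⁻¹) := by group
        _ = x⁻¹ * y⁻¹ := by rw [hx, hy]
        _ = (x * y)⁻¹ := by rw [← mul_inv_rev, hcomm y (hle y hy') x (hle x hx')]
    | inv x _ hx =>
      calc g * x⁻¹ * g⁻¹ = (g * x * g⁻¹)⁻¹ := by group
        _ = _ := by rw [hx]
  by_cases hs : ∃ s ∈ normalizer ((P : Subgroup G) : Set G), s * a * s⁻¹ = a⁻¹ ∧ s * b * s⁻¹ = b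
  · -- both types exist
    right
    obtain ⟨s, hs1, hs2, hs3⟩ := hs
    have ht : ∃ t ∈ normalizer ((P : Subgroup G) : Set G), t * a * t⁻¹ = a ∧ t * b * t⁻¹ = b⁻¹ := by
      rcases hna nb hnb1 with h | h
      · exact ⟨nb, hnb1, h, hnb2⟩
      · refine ⟨s * nb, mul_mem hs1 hnb1, ?_, ?_⟩
        · calc s * nb * a * (s * nb)⁻¹ = s * (nb * a * nb⁻¹) * s⁻¹ := by group
            _ = (s * a * s⁻¹)⁻¹ := by rw [h]; group
            _ = a := by rw [hs2, inv_inv]
        · calc s * nb * b * (s * nb)⁻¹ = s * (nb * b * nb⁻¹) * s⁻¹ := by group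
            _ = (s * b * s⁻¹)⁻¹ := by rw [hnb2]; group
            _ = b⁻¹ := by rw [hs3]
    obtain ⟨t, ht1, ht2, ht3⟩ := ht
    have hbz : b ∉ zpowers a := by
      intro h
      obtain ⟨k, hk⟩ := mem_zpowers_iff.mp h
      apply hb1
      apply gsq hb
      have h1 : s * b * s⁻¹ = b⁻¹ := by
        rw [← hk, ← conj_zpow, hs2, inv_zpow]
      rw [hs3] at h1
      exact h1.symm
    have haz : a ∉ zpowers b := by
      intro h
      obtain ⟨k, hk⟩ := mem_zpowers_iff.mp h
      apply ha1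
      apply gsq ha
      have h1 : t * a * t⁻¹ = a⁻¹ := by
        rw [← hk, ← conj_zpow, ht3, inv_zpow]
      rw [ht2] at h1
      exact h1.symm
    have hcube : ∀ x ∈ (P : Subgroup G), ∀ y ∈ (P : Subgroup G), y ∉ zpowers x → x ^ 3 = 1 := by
      intro x hx y hy hyx
      have h1 : orderOf x ∣ 9 := by rw [← hP']; exact Subgroup.orderOf_dvd_natCard _ hx
      have h5 : orderOf x ∈ (9 : ℕ).divisors := Nat.mem_divisors.mpr ⟨h1, by norm_num⟩
      have h6 : (9 : ℕ).divisors = {1, 3, 9} := by decide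
      rw [h6] at h5
      simp only [Finset.mem_insert, Finset.mem_singleton] at h5
      rcases h5 with h5 | h5 | h5
      · rw [orderOf_eq_one_iff.mp h5, one_pow]
      · rw [← h5, pow_orderOf_eq_one]
      · exfalso
        apply hyx
        have h7 : zpowers x = (P : Subgroup G) := by
          apply Subgroup.eq_of_le_of_card_ge (zpowers_le.mpr hx)
          rw [Nat.card_zpowers, h5, hP']
        rw [h7]; exact hy
    have ha3 := hcube a ha b hb hbz
    have hb3 := hcube b hb a ha haz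
    refine ⟨a, b, ⟨hP, ?_, ha, hb, ha1, hbz, ⟨s, hs1, hs2, hs3⟩, ⟨t, ht1, ht2, ht3⟩, fun g hg => ⟨hna g hg, hnb g hg⟩⟩⟩
    intro y hy
    have hle : ∀ y ∈ closure ({a, b} : Set G), y ∈ (P : Subgroup G) := fun y hy => by rw [← hgen]; exact hy
    rw [← hgen] at hy
    induction hy using closure_induction with
    | mem x hx => rcases hx with rfl | rfl <;> assumption
    | one => exact one_pow 3
    | mul x y hx' hy' hx hy =>
      have h1 : Commute x y := hcomm x (hle x hx') y (hle y hy')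
      rw [h1.mul_pow, hx, hy, one_mul]
    | inv x _ hx => rw [inv_pow, hx, inv_one]
  · -- every element of the normalizer centralizes or inverts P
    left
    have key : ∀ g ∈ normalizer ((P : Subgroup G) : Set G),
        (g * a * g⁻¹ = a ∧ g * b * g⁻¹ = b) ∨ (g * a * g⁻¹ = a⁻¹ ∧ g * b * g⁻¹ = b⁻¹) := by
      intro g hg
      rcases hna g hg with h1 | h1 <;> rcases hnb g hg with h2 | h2
      · exact Or.inl ⟨h1, h2⟩
      · exfalso
        rcases hnb na hna1 with h3 | h3
        · exact hs ⟨na, hna1, hna2, h3⟩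
        · apply hs
          refine ⟨na * g, mul_mem hna1 hg, ?_, ?_⟩
          · calc na * g * a * (na * g)⁻¹ = na * (g * a * g⁻¹) * na⁻¹ := by group
              _ = _ := by rw [h1, hna2]
          · calc na * g * b * (na * g)⁻¹ = na * (g * b * g⁻¹) * na⁻¹ := by group
              _ = (na * b * na⁻¹)⁻¹ := by rw [h2]; group
              _ = _ := by rw [h3, inv_inv]
      · exact absurd ⟨g, hg, h1, h2⟩ hs
      · exact Or.inr ⟨h1, h2⟩
    have hna' : na * a * na⁻¹ = a⁻¹ ∧ na * b * na⁻¹ = b⁻¹ := by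
      rcases key na hna1 with h | h
      · exfalso
        apply ha1
        apply gsq ha
        rw [← hna2, h.1]
      · exact h
    have hinv := hinvt na hna'.1 hna'.2
    refine ⟨⟨na, hna1, hinv⟩, ?_⟩
    have hC : ∀ g ∈ normalizer ((P : Subgroup G) : Set G), g ∈ centralizer ((P : Subgroup G) : Set G) ↔ g * a * g⁻¹ = a := by
      intro g hg
      constructor
      · intro h
        rw [mul_inv_eq_iff_eq_mul]
        exact (mem_centralizer_iff.mp h a ha).symm
      · intro h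
        rcases key g hg with h1 | h1
        · rw [mem_centralizer_iff]
          intro y hy
          have := hcent g h1.1 h1.2 y hy
          rw [mul_inv_eq_iff_eq_mul] at this
          exact this.symm
        · exfalso
          apply ha1
          apply gsq ha
          rw [← h1.1, h]
    unfold relIndex
    rw [index_eq_two_iff]
    refine ⟨⟨na, hna1⟩, fun g => ?_⟩
    rw [mem_subgroupOf, mem_subgroupOf]
    have e1 : (((g * ⟨na, hna1⟩ : normalizer ((P : Subgroup G) : Set G))) : G) = g * na := rfl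
    rw [e1, hC _ (mul_mem g.2 hna1), hC _ g.2]
    have h1 : (g : G) * na * a * ((g : G) * na)⁻¹ = ((g : G) * a * (g : G)⁻¹)⁻¹ := by
      calc (g : G) * na * a * ((g : G) * na)⁻¹ = (g : G) * (na * a * na⁻¹) * (g : G)⁻¹ := by group
        _ = _ := by rw [hna2]; group
    rw [h1]
    have haa : a⁻¹ ≠ a := fun h => ha1 (gsq ha h)
    rcases hna g g.2 with h2 | h2
    · rw [h2]
      right
      exact ⟨rfl, haa⟩
    · rw [h2, inv_inv]
      left
      exact ⟨rfl, haa⟩

theorem cases [IsSimpleGroup G] (hG : ¬ IsMulCommutative G) (P : Sylow 3 G) (hP : Nat.card P = 9)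
    (h3 : 3 ≤ Nat.card {C : ConjClasses G // ∃ g ∈ C.carrier, g ≠ 1 ∧ orderOf g ∣ 9}) :
    ((∃ g ∈ Subgroup.normalizer ((P : Subgroup G) : Set G), ∀ y ∈ (P : Subgroup G), g * y * g⁻¹ = y⁻¹) ∧
      (Subgroup.centralizer ((P : Subgroup G) : Set G)).relIndex (Subgroup.normalizer ((P : Subgroup G) : Set G)) = 2) ∨
    ∃ a b : G, KH P a b := by
  classical
  have : Fact (Nat.Prime 3) := ⟨by norm_num⟩
  have hPc : IsMulCommutative (P : Subgroup G) := IsPGroup.isMulCommutative_of_card_eq_prime_sq (p := 3) (by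
    show Nat.card P = 3 ^ 2
    rw [hP]; norm_num)
  have hcomm : ∀ a ∈ (P : Subgroup G), ∀ b ∈ (P : Subgroup G), a * b = b * a := fun a ha b hb =>
    congrArg Subtype.val (hPc.is_comm.comm ⟨a, ha⟩ ⟨b, hb⟩)
  -- representatives in P
  have hrep : ∀ C : {C : ConjClasses G // ∃ g ∈ C.carrier, g ≠ 1 ∧ orderOf g ∣ 9},
      ∃ x ∈ (P : Subgroup G), x ≠ 1 ∧ ConjClasses.mk x = C.1 := by
    rintro ⟨C, g, hg, hg1, hg9⟩
    have h1 : IsPGroup 3 (zpowers g) := by
      intro x
      refine ⟨2, Subtype.ext ?_⟩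
      have : orderOf (x : G) ∣ 9 := (orderOf_dvd_of_mem_zpowers x.2).trans hg9
      have := orderOf_dvd_iff_pow_eq_one.mp this
      show (x : G) ^ 3 ^ 2 = 1
      norm_num
      exact this
    obtain ⟨Q, hQ⟩ := h1.exists_le_sylow
    obtain ⟨h, hh⟩ := MulAction.exists_smul_eq G Q P
    refine ⟨h * g * h⁻¹, ?_, ?_, ?_⟩
    · rw [← hh]
      rw [Sylow.coe_subgroup_smul]
      exact ⟨g, hQ (mem_zpowers g), rfl⟩
    · intro h2
      apply hg1
      have : h * g = 1 * h := by rw [← h2]; group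
      simpa using this
    · have h2 : ConjClasses.mk g = C := ConjClasses.mem_carrier_iff_mk_eq.mp hg
      show ConjClasses.mk (h * g * h⁻¹) = C
      rw [← h2, ConjClasses.mk_eq_mk_iff_isConj]
      exact (isConj_iff.mpr ⟨h, rfl⟩).symm
  have : Fintype {C : ConjClasses G // ∃ g ∈ C.carrier, g ≠ 1 ∧ orderOf g ∣ 9} := Fintype.ofFinite _
  rw [Nat.card_eq_fintype_card] at h3
  obtain ⟨C1, C2, C3, h12, h13, h23⟩ := Fintype.two_lt_card_iff.mp (show 2 < _ from h3)
  obtain ⟨x1, hx1, hx11, hm1⟩ := hrep C1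
  obtain ⟨x2, hx2, hx21, hm2⟩ := hrep C2
  obtain ⟨x3, hx3, hx31, hm3⟩ := hrep C3
  have n12 : ¬ IsConj x1 x2 := fun h => h12 (Subtype.ext (by
    rw [← hm1, ← hm2]; exact ConjClasses.mk_eq_mk_iff_isConj.mpr h))
  have n13 : ¬ IsConj x1 x3 := fun h => h13 (Subtype.ext (by
    rw [← hm1, ← hm3]; exact ConjClasses.mk_eq_mk_iff_isConj.mpr h))
  have n23 : ¬ IsConj x2 x3 := fun h => h23 (Subtype.ext (by
    rw [← hm2, ← hm3]; exact ConjClasses.mk_eq_mk_iff_isConj.mpr h))
  -- sizes
  have hsz : ∀ x ∈ (P : Subgroup G), x ≠ 1 → 2 ≤ Nat.card {y | y ∈ (P : Subgroup G) ∧ IsConj x y} ∧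
      ¬ 3 ∣ Nat.card {y | y ∈ (P : Subgroup G) ∧ IsConj x y} := by
    intro x hx hx1
    have h1 := gcard_orbit (normalizer ((P : Subgroup G) : Set G)) {y | y ∈ (P : Subgroup G) ∧ IsConj x y} (by
      intro n hn y hy
      exact ⟨(mem_normalizer_iff.mp hn y).mp hy.1, hy.2.trans (isConj_iff.mpr ⟨n, rfl⟩)⟩)
      (g := x) ⟨hx, IsConj.refl x⟩ (by
      rintro y ⟨hy, hxy⟩
      obtain ⟨g, hg⟩ := isConj_iff.mp hxy
      obtain ⟨n, hn, h⟩ := P.conj_eq_normalizer_conj_of_mem x g⁻¹ hx (by rw [inv_inv, hg]; exact hy)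
      refine ⟨n⁻¹, inv_mem hn, ?_⟩
      rw [inv_inv, ← h, inv_inv, hg])
    constructor
    · have h2 : Nat.card {y | y ∈ (P : Subgroup G) ∧ IsConj x y} ≠ 0 := by
        have : Nonempty {y | y ∈ (P : Subgroup G) ∧ IsConj x y} := ⟨⟨x, hx, IsConj.refl x⟩⟩
        exact Nat.card_pos.ne'
      have h3 : Nat.card {y | y ∈ (P : Subgroup G) ∧ IsConj x y} ≠ 1 := by
        intro h
        apply hx1
        apply gfix hG P hx
        intro n hn
        rw [h1, relIndex_eq_one] at h
        have := mem_centralizer_singleton_iff.mp (h hn)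
        rw [mul_inv_eq_iff_eq_mul]
        exact this
      omega
    · rw [h1]
      intro h
      have h2 : (P : Subgroup G) ≤ centralizer ({x} : Set G) := fun y hy =>
        mem_centralizer_singleton_iff.mpr (hcomm y hy x hx)
      have h3 := relIndex_dvd_of_le_left (normalizer ((P : Subgroup G) : Set G)) h2
      have h4 := relIndex_mul_index (le_normalizer (H := (P : Subgroup G)))
      exact P.not_dvd_index ((h.trans h3).trans (Dvd.intro _ h4))
  obtain ⟨s1, d1⟩ := hsz x1 hx1 hx11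
  obtain ⟨s2, d2⟩ := hsz x2 hx2 hx21
  obtain ⟨s3, d3⟩ := hsz x3 hx3 hx31
  have hsum : Nat.card {y | y ∈ (P : Subgroup G) ∧ IsConj x1 y} + Nat.card {y | y ∈ (P : Subgroup G) ∧ IsConj x2 y} +
      Nat.card {y | y ∈ (P : Subgroup G) ∧ IsConj x3 y} ≤ 8 := by
    have e1 : ({y | y ∈ (P : Subgroup G) ∧ IsConj x1 y} ∪ {y | y ∈ (P : Subgroup G) ∧ IsConj x2 y} ∪
        {y | y ∈ (P : Subgroup G) ∧ IsConj x3 y}) ⊆ ((P : Subgroup G) : Set G) \ {1} := by
      have h : ∀ x : G, x ≠ 1 → ∀ y, IsConj x y → y ≠ 1 := by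
        rintro x hx y hy rfl
        obtain ⟨c, hc⟩ := isConj_iff.mp hy
        apply hx
        have : c * x = 1 * c := by rw [← hc]; group
        simpa using this
      rintro y ((hy | hy) | hy)
      · exact ⟨hy.1, h x1 hx11 y hy.2⟩
      · exact ⟨hy.1, h x2 hx21 y hy.2⟩
      · exact ⟨hy.1, h x3 hx31 y hy.2⟩
    have e2 := Set.ncard_le_ncard e1 (Set.toFinite _)
    have e3 := Set.ncard_diff_singleton_of_mem (s := ((P : Subgroup G) : Set G)) (a := 1) (one_mem (P : Subgroup G))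
    have e4 : ((P : Subgroup G) : Set G).ncard = 9 := hP
    rw [e3, e4, Set.ncard_union_eq (by
      rw [Set.disjoint_left]
      rintro y (hy | hy) hy'
      · exact n13 (hy.2.trans hy'.2.symm)
      · exact n23 (hy.2.trans hy'.2.symm)) (Set.toFinite _) (Set.toFinite _), Set.ncard_union_eq (by
      rw [Set.disjoint_left]
      rintro y hy hy'
      exact n12 (hy.2.trans hy'.2.symm)) (Set.toFinite _) (Set.toFinite _)] at e2
    exact e2
  by_cases c1 : Nat.card {y | y ∈ (P : Subgroup G) ∧ IsConj x1 y} = 2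
  · by_cases c2 : Nat.card {y | y ∈ (P : Subgroup G) ∧ IsConj x2 y} = 2
    · exact gcore hG P hP hx1 hx2 hx11 hx21 n12 c1 c2
    · have c3 : Nat.card {y | y ∈ (P : Subgroup G) ∧ IsConj x3 y} = 2 := by omega
      exact gcore hG P hP hx1 hx3 hx11 hx31 n13 c1 c3
  · have c2 : Nat.card {y | y ∈ (P : Subgroup G) ∧ IsConj x2 y} = 2 := by omega
    have c3 : Nat.card {y | y ∈ (P : Subgroup G) ∧ IsConj x3 y} = 2 := by omega
    exact gcore hG P hP hx2 hx3 hx21 hx31 n23 c2 c3

end Cfsg.Agent.Lib.H2219
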