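import Mathlib
import Cfsg.Agent.Lib.H2219Def
import Cfsg.Agent.Lib.H2219A
import Cfsg.Agent.Lib.H2219B1
import Cfsg.Agent.Lib.H2219B2
import Cfsg.Agent.Lib.H2219B3
import Cfsg.Agent.Lib.H2219C
import Cfsg.Agent.Lib.H2219D
import Cfsg.Agent.Lib.H2219E1
import Cfsg.Agent.Lib.H2219E2
import Cfsg.Agent.Lib.H2219F
import Cfsg.Agent.Lib.H2219G
import Cfsg.Agent.Lib.PBNum
import Cfsg.Agent.Lib.BlockDeg
import Cfsg.Agent.S1011

/-! S2219: assembly (lead). -/

set_option autoImplicit false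
set_option linter.all false

namespace Cfsg.Agent.Lib.H2219

open Cfsg

universe u

variable {G : Type u} [Group G] [Finite G]

theorem two_le [IsSimpleGroup G] (hG : ¬ IsMulCommutative G) {χ : IrrCharacter G}
    (h : (χ : G → ℂ) ≠ (fun _ => 1)) : 2 ≤ charDegree (χ : G → ℂ) := by
  haveI := Fintype.ofFinite G
  apply PBNum.two_le_deg hG
  intro h'
  apply h
  rw [h']
  rfl

def Goal (G : Type u) [Group G] : Prop :=
  (∃ (F : Type) (_ : Field F) (_ : Fintype F), Fintype.card F = 8 ∧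
        Nonempty (G ≃* Matrix.ProjectiveSpecialLinearGroup (Fin 2) F)) ∨
      Nonempty (G ≃* Matrix.ProjectiveSpecialLinearGroup (Fin 2) (ZMod 17))

theorem fin [IsSimpleGroup G] (hG : ¬ IsMulCommutative G) (q a b : ℕ) (hq : q.Prime) (hq2 : q ≠ 2)
    (hq3 : q ≠ 3) (hcard : Nat.card G = 9 * 2 ^ a * q ^ b) (χs χl : IrrCharacter G)
    (h1 : 2 ≤ charDegree (χs : G → ℂ))
    (hrel : ∀ z : G, ¬ 3 ∣ orderOf z → (χl : G → ℂ) z = 1 + (χs : G → ℂ) z)
    (h3s : ¬ 3 ∣ charDegree (χs : G → ℂ)) (h3l : ¬ 3 ∣ charDegree (χl : G → ℂ))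
    (h5 : charDegree (χs : G → ℂ) = 4 → charDegree (χl : G → ℂ) = 5 → False) : Goal G := by
  have hd : charDegree (χl : G → ℂ) = charDegree (χs : G → ℂ) + 1 := by
    have h := hrel 1 (by rw [orderOf_one]; norm_num)
    rw [← BlockDeg.charDegree_cast_irr, ← BlockDeg.charDegree_cast_irr] at h
    have h' : ((charDegree (χl : G → ℂ) : ℕ) : ℂ) = ((charDegree (χs : G → ℂ) + 1 : ℕ) : ℂ) := by
      rw [h]; push_cast; ring
    exact_mod_cast h'
  obtain ⟨hb, m, hm, hcases⟩ := pair hG q a b hq hq2 hq3 hcard χs χl (by omega) (by omega)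
    (Or.inr hd) h3s h3l
  rw [hb, pow_one] at hcard
  by_cases h11 : 11 ≤ q
  · exact Or.inr (big hG q a hq h11 hcard)
  · have hq57 : q = 5 ∨ q = 7 := by
      have : q < 11 := by omega
      interval_cases q <;> first | (exfalso; revert hq; decide) | omega | simp
    -- powers of two
    have hpow : 2 ^ m ≠ 6 := by
      intro h6
      have : m < 3 := by
        by_contra hcon
        have := Nat.pow_le_pow_right (show 0 < 2 by norm_num) (show 3 ≤ m by omega)
        omega
      interval_cases m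
      · omega
    rcases hq57 with rfl | rfl
    · rcases hcases with ⟨ha, hb'⟩ | ⟨ha, hb'⟩
      · exact (h5 (by omega) (by omega)).elim
      · exact absurd (by omega) hpow
    · rcases hcases with ⟨ha, hb'⟩ | ⟨ha, hb'⟩
      · exact absurd (by omega) hpow
      · have h504 := seven hG a hcard χs χl (by omega) (by omega) hrel
        left
        haveI : Fact (Nat.Prime 2) := ⟨Nat.prime_two⟩
        letI : Fintype (GaloisField 2 3) := Fintype.ofFinite _
        refine ⟨GaloisField 2 3, inferInstance, inferInstance, ?_, ?_⟩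
        · rw [← Nat.card_eq_fintype_card, GaloisField.card 2 3 (by norm_num)]; norm_num
        · letI : Fintype (GaloisField 2 3) := Fintype.ofFinite _
          exact Cfsg.Agent.S1011.result h504
            (by rw [← Nat.card_eq_fintype_card, GaloisField.card 2 3 (by norm_num)]; norm_num)

/-- a pair of characters with `1 + δθ + δ'χ = 0` on 3-regular elements -/
theorem fin' [IsSimpleGroup G] (hG : ¬ IsMulCommutative G) (q a b : ℕ) (hq : q.Prime) (hq2 : q ≠ 2)
    (hq3 : q ≠ 3) (hcard : Nat.card G = 9 * 2 ^ a * q ^ b) (θ χ : IrrCharacter G) (δ δ' : ℤ)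
    (hδ : δ = 1 ∨ δ = -1) (hδ' : δ' = 1 ∨ δ' = -1)
    (hθ : (θ : G → ℂ) ≠ (fun _ => 1)) (hχ : (χ : G → ℂ) ≠ (fun _ => 1))
    (hrel : ∀ z : G, ¬ 3 ∣ orderOf z → 1 + (δ : ℂ) * (θ : G → ℂ) z + (δ' : ℂ) * (χ : G → ℂ) z = 0)
    (h3θ : ¬ 3 ∣ charDegree (θ : G → ℂ)) (h3χ : ¬ 3 ∣ charDegree (χ : G → ℂ))
    (h5 : (δ = 1 → charDegree (θ : G → ℂ) = 4 → δ' = -1 → charDegree (χ : G → ℂ) = 5 → False))
    (h5' : (δ' = 1 → charDegree (χ : G → ℂ) = 4 → δ = -1 → charDegree (θ : G → ℂ) = 5 → False)) :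
    Goal G := by
  have t2 := two_le hG hθ
  have c2 := two_le hG hχ
  have h := hrel 1 (by rw [orderOf_one]; norm_num)
  rw [← BlockDeg.charDegree_cast_irr, ← BlockDeg.charDegree_cast_irr] at h
  have hz : (1 : ℤ) + δ * (charDegree (θ : G → ℂ) : ℤ) + δ' * (charDegree (χ : G → ℂ) : ℤ) = 0 := by
    exact_mod_cast h
  rcases hδ with rfl | rfl
  · rcases hδ' with rfl | rfl
    · exfalso; omega
    · refine fin hG q a b hq hq2 hq3 hcard θ χ t2 ?_ h3θ h3χ (fun h4 h5'' => h5 rfl h4 rfl h5'')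
      intro z hz'
      have := hrel z hz'
      push_cast at this
      linear_combination (-1 : ℂ) * this
  · rcases hδ' with rfl | rfl
    · refine fin hG q a b hq hq2 hq3 hcard χ θ c2 ?_ h3χ h3θ (fun h4 h5'' => h5' rfl h4 rfl h5'')
      intro z hz'
      have := hrel z hz'
      push_cast at this
      linear_combination (-1 : ℂ) * this
    · exfalso; omega

theorem exists_hom {A : Type*} [Group A] [Finite A] (hab : IsMulCommutative A) (h : Nat.card A ≠ 1) :
    ∃ ψ : A →* ℂˣ, ψ ≠ 1 := by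
  letI : CommGroup A := { (inferInstance : Group A) with mul_comm := hab.is_comm.comm }
  have hnt : Nontrivial A := by
    rw [← Finite.one_lt_card_iff_nontrivial]
    have := Nat.card_pos (α := A)
    omega
  obtain ⟨x, hx⟩ := exists_ne (1 : A)
  obtain ⟨φ, hφ⟩ := CommGroup.exists_apply_ne_one_of_hasEnoughRootsOfUnity A ℂ hx
  exact ⟨φ, fun h => hφ (by rw [h]; rfl)⟩

theorem inv_case [IsSimpleGroup G] (hG : ¬ IsMulCommutative G) (q a b : ℕ) (hq : q.Prime) (hq2 : q ≠ 2)
    (hq3 : q ≠ 3) (hcard : Nat.card G = 9 * 2 ^ a * q ^ b) (P : Sylow 3 G) (hP : Nat.card P = 9)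
    (hinv : ∃ g ∈ Subgroup.normalizer ((P : Subgroup G) : Set G), ∀ y ∈ (P : Subgroup G), g * y * g⁻¹ = y⁻¹)
    (hrel : (Subgroup.centralizer ((P : Subgroup G) : Set G)).relIndex
      (Subgroup.normalizer ((P : Subgroup G) : Set G)) = 2) : Goal G := by
  haveI : Fact (Nat.Prime 3) := ⟨Nat.prime_three⟩
  have hab : IsMulCommutative P := by
    have h32 : Nat.card (P : Subgroup G) = 3 ^ 2 := by rw [show Nat.card (P : Subgroup G) = 9 from hP]; norm_num
    exact ⟨⟨fun x y => by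
      letI := IsPGroup.commGroupOfCardEqPrimeSq h32
      exact mul_comm x y⟩⟩
  obtain ⟨θ, c, δ, ζ, hc, hδ, hθ, hval, hcong, hζ⟩ := inv_data 3 P (Or.inr hP) hab hinv hrel
  obtain ⟨ψ, hψ⟩ := exists_hom hab (by rw [show Nat.card (P : Subgroup G) = 9 from hP]; norm_num)
  obtain ⟨hζ1, hζr, -⟩ := hζ ψ hψ
  have t2 := two_le hG hθ
  have z2 := two_le hG hζ1
  have h := hζr 1 (by rw [orderOf_one]; norm_num)
  rw [← BlockDeg.charDegree_cast_irr, ← BlockDeg.charDegree_cast_irr] at h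
  have hz : (1 : ℤ) + c * (charDegree (θ : G → ℂ) : ℤ) = δ * (charDegree (ζ ψ : G → ℂ) : ℤ) := by
    exact_mod_cast h
  rw [show Nat.card P = 9 from hP] at hcong
  have hm := Int.emod_emod_of_dvd
  have hcong' : (charDegree (θ : G → ℂ) : ℤ) % 9 = c % 9 := hcong
  refine fin' hG q a b hq hq2 hq3 hcard θ (ζ ψ) c (-δ) hc (by rcases hδ with rfl | rfl <;> simp) hθ hζ1 ?_ ?_ ?_ ?_ ?_
  · intro z hz'
    have := hζr z hz'
    push_cast
    linear_combination this
  · rcases hc with rfl | rfl <;> omega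
  · rcases hc with rfl | rfl <;> rcases hδ with rfl | rfl <;> omega
  · intro _ h4 _ _
    rcases hc with rfl | rfl <;> omega
  · intro _ _ _ h5
    rcases hc with rfl | rfl <;> omega

theorem klein_case [IsSimpleGroup G] (hG : ¬ IsMulCommutative G) (q a b : ℕ) (hq : q.Prime) (hq2 : q ≠ 2)
    (hq3 : q ≠ 3) (hcard : Nat.card G = 9 * 2 ^ a * q ^ b) (P : Sylow 3 G) (hP : Nat.card P = 9)
    (x y : G) (h : KH P x y) : Goal G := by
  obtain ⟨θ, χ, δ, δ', hδ, hδ', hne, hθ, hχ, hrel⟩ := klein_chars P x y h (count P x y h)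
  have hreg : ∀ z : G, ¬ 3 ∣ orderOf z →
      1 + (δ : ℂ) * (θ : G → ℂ) z + (δ' : ℂ) * (χ : G → ℂ) z = 0 := by
    intro z hz
    rw [hrel z, Psi, if_neg]
    rintro ⟨w, ⟨v, hwv, hcomm, ⟨k, hk⟩, hv⟩, g, hg, hg'⟩
    -- the 3-part of a 3-regular element is trivial
    apply hg'
    have hw : w = 1 := by
      have h1 : orderOf w ∣ orderOf z := by
        have hcop : Nat.Coprime (orderOf w) (orderOf v) := by
          rw [hk]
          exact Nat.Coprime.pow_left _ ((Nat.Prime.coprime_iff_not_dvd Nat.prime_three).2 hv)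
        rw [← hwv, hcomm.orderOf_mul_eq_mul_orderOf_of_coprime hcop]
        exact dvd_mul_right _ _
      have h2 : k = 0 := by
        by_contra hk0
        apply hz
        refine dvd_trans ?_ h1
        rw [hk]
        exact dvd_pow_self 3 hk0
      rw [h2, pow_zero] at hk
      exact orderOf_eq_one_iff.1 hk
    rw [hw]
    simp only [mul_one, mul_inv_cancel]
    exact one_mem _
  obtain ⟨h3θ, h3χ⟩ := klein_deg hG P hP θ χ δ δ' hδ hδ' hne hθ hχ hreg
  refine fin' hG q a b hq hq2 hq3 hcard θ χ δ δ' hδ hδ' hθ hχ hreg h3θ h3χ ?_ ?_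
  · rintro rfl h4 rfl h5
    refine five hG P x y h θ χ h4 h5 (fun z => ?_)
    rw [← hrel z]; push_cast; ring
  · rintro rfl h4 rfl h5
    refine five hG P x y h χ θ h4 h5 (fun z => ?_)
    rw [← hrel z]; push_cast; ring

theorem main [IsSimpleGroup G] (hG : ¬ IsMulCommutative G)
    (q a b : ℕ) (hq : q.Prime) (hq2 : q ≠ 2) (hq3 : q ≠ 3) (hcard : Nat.card G = 9 * 2 ^ a * q ^ b)
    (h3 : 3 ≤ Nat.card {C : ConjClasses G // ∃ g ∈ C.carrier, g ≠ 1 ∧ orderOf g ∣ 9}) : Goal G := by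
  haveI : Fact (Nat.Prime 3) := ⟨Nat.prime_three⟩
  obtain ⟨P⟩ : Nonempty (Sylow 3 G) := inferInstance
  have hP : Nat.card P = 9 := by
    rw [P.card_eq_multiplicity, hcard]
    have h2 : Nat.factorization (9 * 2 ^ a * q ^ b) 3 = 2 := by
      rw [Nat.factorization_mul (by positivity) (pow_ne_zero _ hq.ne_zero),
        Nat.factorization_mul (by norm_num) (by positivity)]
      simp only [Finsupp.add_apply, Nat.factorization_pow, Finsupp.smul_apply, smul_eq_mul]
      have e1 : Nat.factorization 9 3 = 2 := by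
        rw [show (9 : ℕ) = 3 ^ 2 by norm_num, Nat.factorization_pow]
        simp [Nat.prime_three.factorization_self]
      have e2 : Nat.factorization 2 3 = 0 := Nat.factorization_eq_zero_of_not_dvd (by norm_num)
      have e3 : Nat.factorization q 3 = 0 := by
        apply Nat.factorization_eq_zero_of_not_dvd
        intro h
        exact hq3 ((Nat.prime_dvd_prime_iff_eq Nat.prime_three hq).1 h).symm
      rw [e1, e2, e3]; ring
    rw [h2]; norm_num
  rcases cases hG P hP h3 with ⟨hinv, hrel⟩ | ⟨x, y, h⟩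
  · exact inv_case hG q a b hq hq2 hq3 hcard P hP hinv hrel
  · exact klein_case hG q a b hq hq2 hq3 hcard P hP x y h

end Cfsg.Agent.Lib.H2219
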