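import Cfsg.Agent.Lib.Components

set_option autoImplicit false

open Cfsg Cfsg.Agent.Lib.Components

namespace Cfsg.Agent.Lib

open Subgroup Equiv Equiv.Perm

variable {n : ℕ}

/-- Pointwise stabilizer of a finset in the alternating group. -/
def fixP (S : Finset (Fin n)) : Subgroup (alternatingGroup (Fin n)) where
  carrier := {g | ∀ x ∈ S, g.1 x = x}
  one_mem' := fun x _ => rfl
  mul_mem' := by
    intro a b ha hb x hx
    show a.1 (b.1 x) = x
    rw [hb x hx, ha x hx]
  inv_mem' := by
    intro a ha x hx
    show (a.1)⁻¹ x = x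
    rw [Perm.inv_eq_iff_eq]
    exact (ha x hx).symm

theorem mem_fixP {S : Finset (Fin n)} {g : alternatingGroup (Fin n)} :
    g ∈ fixP S ↔ ∀ x ∈ S, g.1 x = x := Iff.rfl

/-- the 3-cycle `a ↦ b ↦ c ↦ a`-like element. -/
theorem tc_mem {a b c : Fin n} (hab : a ≠ b) (hac : a ≠ c) :
    swap a b * swap a c ∈ alternatingGroup (Fin n) := by
  rw [Equiv.Perm.mem_alternatingGroup, Perm.sign_mul, sign_swap hab, sign_swap hac]
  decide

/-- The 3-cycle in the alternating group. -/
def tc (a b c : Fin n) (hab : a ≠ b) (hac : a ≠ c) : alternatingGroup (Fin n) :=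
  ⟨swap a b * swap a c, tc_mem hab hac⟩

theorem tc_fix {S : Finset (Fin n)} {a b c : Fin n} (hab : a ≠ b) (hac : a ≠ c)
    (ha : a ∉ S) (hb : b ∉ S) (hc : c ∉ S) : tc a b c hab hac ∈ fixP S := by
  intro x hx
  have h1 : x ≠ a := fun h => ha (h ▸ hx)
  have h2 : x ≠ b := fun h => hb (h ▸ hx)
  have h3 : x ≠ c := fun h => hc (h ▸ hx)
  show swap a b (swap a c x) = x
  rw [swap_apply_of_ne_of_ne h1 h3, swap_apply_of_ne_of_ne h1 h2]

theorem tc_apply_a {a b c : Fin n} (hab : a ≠ b) (hac : a ≠ c) :
    (tc a b c hab hac).1 a = c ∨ b = c := by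
  by_cases h : b = c
  · exact Or.inr h
  · left
    show swap a b (swap a c a) = c
    rw [swap_apply_left, swap_apply_of_ne_of_ne hac.symm (fun h' => h h'.symm)]

theorem tc_apply_c {a b c : Fin n} (hab : a ≠ b) (hac : a ≠ c) :
    (tc a b c hab hac).1 c = b := by
  show swap a b (swap a c c) = b
  rw [swap_apply_right, swap_apply_left]

theorem tc_apply_b {a b c : Fin n} (hab : a ≠ b) (hac : a ≠ c) (hbc : b ≠ c) :
    (tc a b c hab hac).1 b = a := by
  show swap a b (swap a c b) = a
  rw [swap_apply_of_ne_of_ne hab.symm hbc, swap_apply_right]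

/-- If `g` commutes with `tc a b c` and moves no `x`... : if `tc` moves `a`, `g` preserves the
set of moved points. -/
theorem centralizer_moved {g t : alternatingGroup (Fin n)} (h : g * t = t * g) {x : Fin n}
    (hx : t.1 x = x) : t.1 (g.1 x) = g.1 x := by
  have h1 := congrArg (fun y : alternatingGroup (Fin n) => y.1 x) h
  simp only [Subgroup.coe_mul, Perm.mul_apply] at h1
  rw [hx] at h1
  exact h1.symm

/-- The centralizer of `fixP S` is `fixP Sᶜ` if `Sᶜ` has at least 4 points. -/
theorem centralizer_fixP {S : Finset (Fin n)} (h4 : 4 ≤ (Sᶜ).card) :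
    centralizer (fixP S : Set (alternatingGroup (Fin n))) = fixP Sᶜ := by
  apply le_antisymm
  · intro g hg x hx
    rw [mem_centralizer_iff] at hg
    by_contra hne
    -- choose a, b in S^c \ {x, g x} distinct
    have hxS : x ∉ S := Finset.mem_compl.mp hx
    have h2 : 1 < ((Sᶜ \ {x, g.1 x}) : Finset (Fin n)).card := by
      have h3 : (Sᶜ).card - ({x, g.1 x} : Finset (Fin n)).card ≤ (Sᶜ \ {x, g.1 x}).card :=
        Finset.le_card_sdiff _ _
      have h5 : ({x, g.1 x} : Finset (Fin n)).card ≤ 2 := Finset.card_le_two
      omega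
    obtain ⟨a, ha, b, hb, hab⟩ := Finset.one_lt_card.mp h2
    simp only [Finset.mem_sdiff, Finset.mem_compl, Finset.mem_insert, Finset.mem_singleton,
      not_or] at ha hb
    have hxa : x ≠ a := fun h => ha.2.1 h.symm
    have hxb : x ≠ b := fun h => hb.2.1 h.symm
    have ht := tc_fix (S := S) hxa hxb hxS ha.1 hb.1
    have hcomm := hg _ ht
    -- t fixes g x, so t fixes x
    have hfix : (tc x a b hxa hxb).1 (g.1 x) = g.1 x := by
      show swap x a (swap x b (g.1 x)) = g.1 x
      rw [swap_apply_of_ne_of_ne hne (fun h => hb.2.2 h.symm),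
        swap_apply_of_ne_of_ne hne (fun h => ha.2.2 h.symm)]
    have h6 := congrArg (fun y : alternatingGroup (Fin n) => y.1 x) hcomm
    simp only [Subgroup.coe_mul, Perm.mul_apply] at h6
    rw [hfix] at h6
    have h7 := (g.1).injective h6
    rcases tc_apply_a hxa hxb with h8 | h8
    · exact hxb (h7.trans h8)
    · exact hab h8
  · intro g hg
    rw [mem_centralizer_iff]
    intro h hh
    apply Subtype.ext
    apply Equiv.ext
    intro x
    show h.1 (g.1 x) = g.1 (h.1 x)
    by_cases hx : x ∈ S
    · have h1 : h.1 x = x := hh x hx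
      rw [h1]
      by_cases h2 : g.1 x ∈ S
      · exact hh _ h2
      · exfalso
        have h3 : g.1 (g.1 x) = g.1 x := hg _ (Finset.mem_compl.mpr h2)
        have h4 := (g.1).injective h3
        exact h2 (by rw [h4]; exact hx)
    · have h1 : g.1 x = x := hg x (Finset.mem_compl.mpr hx)
      rw [h1]
      by_cases h2 : h.1 x ∈ S
      · exfalso
        have h3 : h.1 (h.1 x) = h.1 x := hh _ h2
        have h4 := (h.1).injective h3
        exact hx (h4 ▸ h2)
      · exact (hg _ (Finset.mem_compl.mpr h2)).symm

/-- Conjugates of `fixP`. -/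
theorem fixP_conj (S : Finset (Fin n)) (g : alternatingGroup (Fin n)) :
    (fixP S).map (MulAut.conj g).toMonoidHom = fixP (S.image g.1) := by
  ext x
  constructor
  · rintro ⟨y, hy, rfl⟩ z hz
    obtain ⟨w, hw, rfl⟩ := Finset.mem_image.mp hz
    show g.1 (y.1 (g.1.symm (g.1 w))) = g.1 w
    rw [Equiv.symm_apply_apply, hy w hw]
  · intro hx
    refine ⟨g⁻¹ * x * g, ?_, ?_⟩
    · intro w hw
      show g.1.symm (x.1 (g.1 w)) = w
      rw [hx _ (Finset.mem_image_of_mem _ hw), Equiv.symm_apply_apply]
    · show g * (g⁻¹ * x * g) * g⁻¹ = x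
      group

/-- `fixP` is injective on sets with complement of size at least three. -/
theorem fixP_le_iff {S T : Finset (Fin n)} (h : 3 ≤ (Sᶜ).card) :
    fixP S ≤ fixP T ↔ T ⊆ S := by
  constructor
  · intro hle x hx
    by_contra hxS
    have h2 : 1 < ((Sᶜ \ {x}) : Finset (Fin n)).card := by
      have h3 : (Sᶜ).card - ({x} : Finset (Fin n)).card ≤ (Sᶜ \ {x}).card :=
        Finset.le_card_sdiff _ _
      rw [Finset.card_singleton] at h3
      omega
    obtain ⟨a, ha, b, hb, hab⟩ := Finset.one_lt_card.mp h2
    simp only [Finset.mem_sdiff, Finset.mem_compl, Finset.mem_singleton] at ha hb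
    have hxa : x ≠ a := fun h => ha.2 h.symm
    have hxb : x ≠ b := fun h => hb.2 h.symm
    have ht := hle (tc_fix (S := S) hxa hxb hxS ha.1 hb.1)
    have h3 := ht x hx
    rcases tc_apply_a hxa hxb with h8 | h8
    · exact hxb (h3.symm.trans h8)
    · exact hab h8
  · intro hle g hg x hx
    exact hg x (hle hx)

theorem fixP_inj {S T : Finset (Fin n)} (h : 3 ≤ (Sᶜ).card) (h' : 3 ≤ (Tᶜ).card)
    (he : fixP S = fixP T) : S = T :=
  Finset.Subset.antisymm ((fixP_le_iff h').mp he.ge) ((fixP_le_iff h).mp he.le)

theorem mem_normalizer_iff_map {G : Type*} [Group G] {H : Subgroup G} {g : G} :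
    g ∈ normalizer (H : Set G) ↔ H.map (MulAut.conj g).toMonoidHom = H := by
  constructor
  · intro hg
    ext x
    constructor
    · rintro ⟨y, hy, rfl⟩
      exact (mem_normalizer_iff.mp hg y).mp hy
    · intro hx
      refine ⟨g⁻¹ * x * g, ?_, ?_⟩
      · rw [SetLike.mem_coe, mem_normalizer_iff.mp hg]
        have : g * (g⁻¹ * x * g) * g⁻¹ = x := by group
        rw [this]
        exact hx
      · show g * (g⁻¹ * x * g) * g⁻¹ = x
        group
  · intro h
    rw [mem_normalizer_iff]
    intro x
    constructor
    · intro hx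
      rw [← h]
      exact ⟨x, hx, rfl⟩
    · intro hx
      rw [← h] at hx
      obtain ⟨y, hy, hyx⟩ := hx
      have : g * y * g⁻¹ = g * x * g⁻¹ := hyx
      have h2 : y = x := by
        have h3 := congrArg (fun z => g⁻¹ * z * g) this
        simpa [mul_assoc] using h3
      rw [← h2]
      exact hy

theorem card_compl_image (S : Finset (Fin n)) (g : Perm (Fin n)) :
    ((S.image g)ᶜ).card = (Sᶜ).card := by
  rw [Finset.card_compl, Finset.card_compl, Finset.card_image_of_injective _ g.injective]

theorem normalizer_fixP {S : Finset (Fin n)} (h : 3 ≤ (Sᶜ).card) {g : alternatingGroup (Fin n)} :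
    g ∈ normalizer (fixP S : Set (alternatingGroup (Fin n))) ↔ S.image g.1 = S := by
  rw [mem_normalizer_iff_map, fixP_conj]
  constructor
  · intro he
    exact fixP_inj (by rw [card_compl_image]; exact h) h he
  · intro he
    rw [he]

theorem image_compl_eq_iff (S : Finset (Fin n)) (g : Perm (Fin n)) :
    (Sᶜ).image g = Sᶜ ↔ S.image g = S := by
  have h1 : (Sᶜ).image g = (S.image g)ᶜ := by
    ext x
    simp only [Finset.mem_image, Finset.mem_compl, not_exists, not_and]
    constructor
    · rintro ⟨y, hy, rfl⟩ z hz h2
      exact hy (g.injective h2 ▸ hz)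
    · intro hx
      exact ⟨g⁻¹ x, fun h2 => hx _ h2 (Equiv.apply_symm_apply g x), Equiv.apply_symm_apply g x⟩
  rw [h1]
  constructor
  · intro h
    exact compl_injective h
  · intro h
    rw [h]

theorem quasisimple_fixP {S : Finset (Fin n)} (h5 : 5 ≤ (Sᶜ).card) :
    IsQuasisimple (fixP S) := by
  classical
  have hcard : Nat.card {x : Fin n // x ∉ S} = (Sᶜ).card := by
    rw [Nat.card_eq_fintype_card]
    exact Fintype.card_of_subtype _ (fun x => Finset.mem_compl)
  have hsimple : IsSimpleGroup (alternatingGroup {x : Fin n // x ∉ S}) :=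
    alternatingGroup.isSimpleGroup (by rw [hcard]; exact h5)
  have hnc : ¬ IsMulCommutative (alternatingGroup {x : Fin n // x ∉ S}) := by
    intro hc
    have hc' := hc.is_comm.comm
    have hcf : 5 ≤ Fintype.card {x : Fin n // x ∉ S} := by
      rw [← Nat.card_eq_fintype_card, hcard]; exact h5
    -- pick distinct a b c d
    obtain ⟨f⟩ : Nonempty (Fin 4 ↪ {x : Fin n // x ∉ S}) :=
      Function.Embedding.nonempty_of_card_le (by simp; simp at hcf; omega)
    set a := f 0 with ha
    set b := f 1 with hb
    set c := f 2 with hc2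
    set d := f 3 with hd
    have hab : a ≠ b := fun h => by simpa using f.injective h
    have hac : a ≠ c := fun h => by simpa using f.injective h
    have had : a ≠ d := fun h => by simpa using f.injective h
    have hbc : b ≠ c := fun h => by simpa using f.injective h
    have hbd : b ≠ d := fun h => by simpa using f.injective h
    have hcd : c ≠ d := fun h => by simpa using f.injective h
    have m1 : swap a b * swap a c ∈ alternatingGroup {x : Fin n // x ∉ S} := by
      rw [Equiv.Perm.mem_alternatingGroup, Perm.sign_mul, sign_swap hab, sign_swap hac]; decide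
    have m2 : swap a b * swap a d ∈ alternatingGroup {x : Fin n // x ∉ S} := by
      rw [Equiv.Perm.mem_alternatingGroup, Perm.sign_mul, sign_swap hab, sign_swap had]; decide
    have h1 := hc' ⟨_, m1⟩ ⟨_, m2⟩
    have h2 := congrArg (fun y : alternatingGroup {x : Fin n // x ∉ S} => y.1 d) h1
    simp only [Subgroup.coe_mul, Perm.mul_apply] at h2
    -- lhs: (ab)(ac)(ab)(ad) d = (ab)(ac)(ab) a = (ab)(ac) b = (ab) b = a
    rw [swap_apply_right, swap_apply_left, swap_apply_of_ne_of_ne hab.symm hbc, swap_apply_right,
      swap_apply_of_ne_of_ne had.symm hcd.symm, swap_apply_of_ne_of_ne had.symm hbd.symm,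
      swap_apply_right, swap_apply_left] at h2
    exact hab h2
  have hq : IsQuasisimple (alternatingGroup {x : Fin n // x ∉ S}) := quasisimple_of_simple hnc
  let f : alternatingGroup {x : Fin n // x ∉ S} →* alternatingGroup (Fin n) :=
    { toFun := fun g => ⟨ofSubtype g.1, by
        rw [Equiv.Perm.mem_alternatingGroup, Perm.sign_ofSubtype]
        exact Equiv.Perm.mem_alternatingGroup.mp g.2⟩
      map_one' := by
        apply Subtype.ext
        exact map_one ofSubtype
      map_mul' := by
        intro x y
        apply Subtype.ext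
        exact map_mul ofSubtype _ _ }
  have hinj : Function.Injective f := by
    intro x y hxy
    apply Subtype.ext
    have h1 : ofSubtype x.1 = ofSubtype y.1 := congrArg Subtype.val hxy
    exact ofSubtype_injective h1
  have hrange : f.range = fixP S := by
    ext g
    constructor
    · rintro ⟨y, rfl⟩ x hx
      exact ofSubtype_apply_of_not_mem y.1 (by simpa using hx)
    · intro hg
      have h1 : ∀ x, x ∉ S ↔ g.1 x ∉ S := by
        intro x
        constructor
        · intro hx hgx
          have h3 := hg _ hgx
          exact hx ((g.1.injective h3) ▸ hgx)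
        · intro hgx hx
          exact hgx (by rw [hg x hx]; exact hx)
      refine ⟨⟨g.1.subtypePerm (fun x => (h1 x).symm), ?_⟩, ?_⟩
      · rw [Equiv.Perm.mem_alternatingGroup, Perm.sign_subtypePerm _ (fun x => (h1 x).symm) (by
          intro x hx hxS
          exact hx (hg x hxS))]
        exact Equiv.Perm.mem_alternatingGroup.mp g.2
      · apply Subtype.ext
        exact ofSubtype_subtypePerm (fun x => (h1 x).symm) (by
          intro x hx hxS
          exact hx (hg x hxS))
  have h1 := quasisimple_congr (MonoidHom.ofInjective hinj) hq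
  rw [hrange] at h1
  exact h1

theorem standard_fixP {S : Finset (Fin n)} (h4 : S.card = 4) (hn : 9 ≤ n) :
    IsStandardSubgroup (fixP S) := by
  classical
  have hc : (Sᶜ).card = n - 4 := by rw [Finset.card_compl, h4, Fintype.card_fin]
  have hcent : centralizer (fixP S : Set (alternatingGroup (Fin n))) = fixP Sᶜ :=
    centralizer_fixP (by omega)
  have hnorm : ∀ g : alternatingGroup (Fin n),
      g ∈ normalizer (fixP S : Set (alternatingGroup (Fin n))) ↔ S.image g.1 = S :=
    fun g => normalizer_fixP (by omega)
  have hnorm2 : ∀ g : alternatingGroup (Fin n),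
      g ∈ normalizer (fixP Sᶜ : Set (alternatingGroup (Fin n))) ↔ S.image g.1 = S := by
    intro g
    rw [normalizer_fixP (by rw [compl_compl]; omega), image_compl_eq_iff]
  refine ⟨quasisimple_fixP (by omega), ?_, ?_, ?_⟩
  · rw [hcent]
    constructor
    · -- an involution
      obtain ⟨a, b, c, d, hab, hac, had, hbc, hbd, hcd, hS⟩ := Finset.card_eq_four.mp h4
      have hm : swap a b * swap c d ∈ alternatingGroup (Fin n) := by
        rw [Equiv.Perm.mem_alternatingGroup, Perm.sign_mul, sign_swap hab, sign_swap hcd]; decide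
      have hfix : (⟨_, hm⟩ : alternatingGroup (Fin n)) ∈ fixP Sᶜ := by
        intro x hx
        rw [Finset.mem_compl, hS] at hx
        simp only [Finset.mem_insert, Finset.mem_singleton, not_or] at hx
        show swap a b (swap c d x) = x
        rw [swap_apply_of_ne_of_ne hx.2.2.1 hx.2.2.2, swap_apply_of_ne_of_ne hx.1 hx.2.1]
      rw [even_iff_two_dvd]
      have ho : orderOf (⟨⟨_, hm⟩, hfix⟩ : fixP Sᶜ) = 2 := by
        apply orderOf_eq_prime
        · apply Subtype.ext
          apply Subtype.ext
          show (swap a b * swap c d) ^ 2 = 1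
          have hcomm : Commute (swap a b) (swap c d) := by
            apply Equiv.Perm.Disjoint.commute
            intro x
            by_cases hxa : x = a
            · right; rw [hxa, swap_apply_of_ne_of_ne hac had]
            · by_cases hxb : x = b
              · right; rw [hxb, swap_apply_of_ne_of_ne hbc hbd]
              · left; rw [swap_apply_of_ne_of_ne hxa hxb]
          rw [hcomm.mul_pow, pow_two, pow_two, swap_mul_self, swap_mul_self, one_mul]
        · intro h1
          have h2 : swap a b * swap c d = 1 := congrArg (fun y : fixP Sᶜ => y.1.1) h1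
          have h3 : swap a b (swap c d a) = a := congrFun (congrArg DFunLike.coe h2) a
          rw [swap_apply_of_ne_of_ne hac had, swap_apply_left] at h3
          exact hab h3.symm
      rw [← ho]
      exact orderOf_dvd_natCard _
    · intro g hg
      rw [hnorm2] at hg
      rw [← Nat.not_even_iff_odd]
      intro hev
      rw [even_iff_two_dvd] at hev
      have : Fact (Nat.Prime 2) := ⟨Nat.prime_two⟩
      obtain ⟨t, ht⟩ := exists_prime_orderOf_dvd_card' 2 hev
      have ht1 : t.1.1 ≠ 1 := by
        intro h
        have : t = 1 := by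
          apply Subtype.ext; apply Subtype.ext; exact h
        rw [this, orderOf_one] at ht
        omega
      have ht2 : t.1.1 ^ 2 = 1 := by
        have := pow_orderOf_eq_one t
        rw [ht] at this
        exact congrArg (fun y : ↥(fixP Sᶜ ⊓ (fixP Sᶜ).map (MulAut.conj g).toMonoidHom) => y.1.1) this
      have hs1 : t.1.1.support ⊆ S := by
        intro x hx
        by_contra hxS
        exact (mem_support.mp hx) (t.2.1 x (Finset.mem_compl.mpr hxS))
      have hs2 : t.1.1.support ⊆ S.image g.1 := by
        intro x hx
        by_contra hxS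
        have h1 : t.1 ∈ fixP ((Sᶜ).image g.1) := (fixP_conj Sᶜ g) ▸ t.2.2
        have h2 : x ∈ (Sᶜ).image g.1 := by
          rw [Finset.mem_image]
          refine ⟨g.1.symm x, ?_, Equiv.apply_symm_apply _ _⟩
          rw [Finset.mem_compl]
          intro h3
          exact hxS (Finset.mem_image.mpr ⟨_, h3, Equiv.apply_symm_apply _ _⟩)
        exact (mem_support.mp hx) (h1 x h2)
      have hsc : t.1.1.support.card = 4 := by
        have h1 : 2 ∣ t.1.1.support.card := Equiv.Perm.two_dvd_card_support ht2
        have h2 : t.1.1.support.card ≤ 4 := by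
          rw [← h4]; exact Finset.card_le_card hs1
        have h3 : t.1.1.support.card ≠ 0 := by
          rw [Ne, Equiv.Perm.card_support_eq_zero]; exact ht1
        have h5 : t.1.1.support.card ≠ 2 := by
          intro h6
          have h7 := (Equiv.Perm.card_support_eq_two.mp h6).sign_eq
          have h8 := Equiv.Perm.mem_alternatingGroup.mp t.1.2
          rw [h7] at h8
          exact absurd h8 (by decide)
        omega
      have e1 : t.1.1.support = S := Finset.eq_of_subset_of_card_le hs1 (by omega)
      have e2 : t.1.1.support = S.image g.1 :=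
        Finset.eq_of_subset_of_card_le hs2 (by
          rw [Finset.card_image_of_injective _ g.1.injective]; omega)
      exact hg (e2.symm.trans e1)
  · intro g _ hcomm
    have h1 : (fixP S).map (MulAut.conj g).toMonoidHom ≤
        centralizer (fixP S : Set (alternatingGroup (Fin n))) := by
      rw [le_centralizer_iff_commutator, commutator_comm]
      exact hcomm
    rw [hcent, fixP_conj, fixP_le_iff (by rw [card_compl_image]; omega)] at h1
    have h2 := Finset.card_le_card h1
    rw [Finset.card_image_of_injective _ g.1.injective] at h2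
    omega
  · rw [hcent]
    ext g
    rw [hnorm, hnorm2]

theorem iInf_stabilizer_eq_fixP {m : ℕ} (f : Fin m → Fin n) :
    (⨅ i : Fin m, MulAction.stabilizer ↥(alternatingGroup (Fin n)) (f i)) =
      fixP (Finset.univ.image f) := by
  ext g
  rw [Subgroup.mem_iInf]
  constructor
  · intro h x hx
    obtain ⟨i, -, rfl⟩ := Finset.mem_image.mp hx
    exact h i
  · intro h i
    exact h (f i) (Finset.mem_image_of_mem _ (Finset.mem_univ _))

end Cfsg.Agent.Lib
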