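import Cfsg.Agent.Lib.BenderMax
import Cfsg.Agent.Lib.PCoreTools

/-!
Bender's maximal subgroup theorem (seat helper22).
-/

set_option autoImplicit false
set_option linter.unusedSectionVars false

open Subgroup Cfsg

namespace Cfsg.Agent.Lib.H22BenderMax

open Cfsg.Agent.Lib.Components Cfsg.Agent.Lib.Layer Cfsg.Agent.Lib.CompRel
  Cfsg.Agent.Lib.BenderMax Cfsg.Agent.Lib.LocalLayer

variable {G : Type*} [Group G] [Finite G]

theorem le_OA {p : ℕ} {A K : Subgroup G} (hKA : K ≤ A) (hn : A ≤ normalizer (K : Set G))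
    (hp : IsPGroup p ↥K) : K ≤ OA p A := by
  have h1 : (K.subgroupOf A).Normal := normal_subgroupOf_of_le_normalizer hn
  have h2 : K.subgroupOf A ≤ pCore p ↥A :=
    Cores.le_pCore h1 (hp.of_equiv (subgroupOfEquivOfLe hKA).symm)
  rw [← map_subgroupOf_eq_of_le hKA]
  exact Subgroup.map_mono h2

theorem mem_OA_of_FA {p : ℕ} [hp : Fact p.Prime] {A : Subgroup G} {x : G} (hx : x ∈ FA A) {n : ℕ}
    (hxn : x ^ p ^ n = 1) : x ∈ OA p A := by
  rw [FA_eq A p, mem_sup_of_commute (OA_le_centralizer_NA A p)] at hx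
  obtain ⟨a, ha, b, hb, rfl⟩ := hx
  obtain ⟨k, hk⟩ := (isPGroup_OA A p) ⟨a, ha⟩
  have hk' : a ^ p ^ k = 1 := congrArg Subtype.val hk
  have hab : Commute a b := (mem_centralizer_iff.mp (OA_le_centralizer_NA A p ha) b hb).symm
  have hb1 : b ^ p ^ (n + k) = 1 := by
    have h1 : (a * b) ^ p ^ (n + k) = 1 := by rw [pow_add, pow_mul, hxn, one_pow]
    rw [hab.mul_pow] at h1
    have h2 : a ^ p ^ (n + k) = 1 := by rw [add_comm, pow_add, pow_mul, hk', one_pow]
    rwa [h2, one_mul] at h1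
  have hb2 : b ^ Nat.card ↥(NA p A) = 1 :=
    congrArg Subtype.val (pow_card_eq_one' (x := (⟨b, hb⟩ : ↥(NA p A))))
  have h3 : Nat.Coprime (p ^ (n + k)) (Nat.card ↥(NA p A)) :=
    Nat.Coprime.pow_left _ (coprime_card_NA A p).symm
  have h4 : orderOf b ∣ Nat.gcd (p ^ (n + k)) (Nat.card ↥(NA p A)) :=
    Nat.dvd_gcd (orderOf_dvd_of_pow_eq_one hb1) (orderOf_dvd_of_pow_eq_one hb2)
  rw [h3.gcd_eq_one, Nat.dvd_one, orderOf_eq_one_iff] at h4
  rw [h4, mul_one]
  exact ha

theorem FA_le_of_OA {A S : Subgroup G} (h : ∀ p : ℕ, p.Prime → OA p A ≤ S) : FA A ≤ S := by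
  unfold FA
  rw [Cores.fittingSubgroup_eq_iSup, Subgroup.map_iSup]
  exact iSup_le fun p => h p p.2

theorem OA_le_OA_of_le {p : ℕ} [hp : Fact p.Prime] {A L : Subgroup G} (hLA : L ≤ A) (h : OA p A ≤ L) :
    OA p A ≤ OA p L :=
  le_OA h (hLA.trans (le_normalizer_OA A p)) (isPGroup_OA A p)

theorem EA_le {M N : Subgroup G} (h1 : FS M ≤ N) (h2 : FS N ≤ M) : EA M ≤ EA N := by
  set L := M ⊓ N with hL
  have hFML : FS M ≤ L := le_inf (FS_le M) h1
  have hFNL : FS N ≤ L := le_inf h2 (FS_le N)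
  change (layer ↥M).map M.subtype ≤ _
  rw [Subgroup.map_le_iff_le_comap]
  refine sSup_le fun K hK => ?_
  rw [← Subgroup.map_le_iff_le_comap]
  set K₀ := K.map M.subtype with hK₀
  have hKM : K₀ ≤ M := Subgroup.map_subtype_le _
  have hKE : K₀ ≤ EA M := Subgroup.map_mono (component_le_layer hK)
  have hKL : K₀ ≤ L := hKE.trans ((EA_le_FS M).trans hFML)
  have hK₀M : K₀.subgroupOf M = K := by
    rw [hK₀, Subgroup.subgroupOf, Subgroup.comap_map_eq_self_of_injective M.subtype_injective]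
  have hc : IsComponent (K₀.subgroupOf L) := by
    have h3 : IsComponent (K₀.subgroupOf M) := by rw [hK₀M]; exact hK
    exact ⟨isSubnormal_subgroupOf_of_le h3.1 hKM inf_le_left,
      (quasisimple_subgroupOf hKL).mpr ((quasisimple_subgroupOf hKM).mp h3.2)⟩
  have hEN : ((EA N).subgroupOf L).Normal :=
    normal_subgroupOf_of_le_normalizer (inf_le_right.trans (le_normalizer_EA N))
  have hFN : ((FA N).subgroupOf L).Normal :=
    normal_subgroupOf_of_le_normalizer (inf_le_right.trans (le_normalizer_FA N))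
  have hENL : EA N ≤ L := (EA_le_FS N).trans hFNL
  have hFNL' : FA N ≤ L := (FA_le_FS N).trans hFNL
  rcases component_le_or_le_centralizer_rel hKL hENL hc hEN.isSubnormal with h | h
  · exact h
  · exfalso
    have h4 : K₀ ≤ centralizer (FA N : Set G) := by
      refine (component_le_or_le_centralizer_rel hKL hFNL' hc hFN.isSubnormal).resolve_left ?_
      intro h5
      have h6 : Group.IsSolvable ↥(FA N) := by
        have := isNilpotent_FA (A := N)
        infer_instance
      refine component_not_le_solvable hc (S := (FA N).subgroupOf L) ?_ (subgroupOf_mono _ h5)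
      exact SubgroupTools.isSolvable_subgroupOf L h6
    have h5 : K₀ ≤ centralizer (FS N : Set G) := by
      rw [FS_eq]; exact le_centralizer_sup h h4
    have h6 : K₀ ≤ FA N := (le_inf (hKL.trans inf_le_right) h5).trans (inf_centralizer_FS_le N)
    have h7 : K₀ ≤ centralizer (K₀ : Set G) := h4.trans (centralizer_le (SetLike.coe_subset_coe.mpr h6))
    exact component_not_le_centralizer_self hc (le_centralizer_subgroupOf h7)

theorem normalizer_eq [IsSimpleGroup G] {A X : Subgroup G} (hA : IsCoatom A) (hX : X ≠ ⊥)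
    (hXA : X ≤ A) (hAX : A ≤ normalizer (X : Set G)) : normalizer (X : Set G) = A := by
  rcases hA.le_iff.mp hAX with h | h
  · exfalso
    have hn : X.Normal := Subgroup.normalizer_eq_top_iff.mp h
    rcases hn.eq_bot_or_eq_top with h1 | h1
    · exact hX h1
    · rw [h1, top_le_iff] at hXA
      exact hA.1 hXA
  · exact h

theorem OA_comm {p q : ℕ} (hp : p.Prime) (hq : q.Prime) (hpq : p ≠ q) (A : Subgroup G) :
    OA p A ≤ centralizer (OA q A : Set G) := by
  have := Fact.mk hp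
  have := Fact.mk hq
  refine (OA_le_centralizer_NA A p).trans (centralizer_le (SetLike.coe_subset_coe.mpr ?_))
  intro x hx
  refine mem_NA_of_coprime A p (OA_le_FA A q hx) ?_
  obtain ⟨n, hn⟩ := (isPGroup_OA A q) ⟨x, hx⟩
  have hn' : x ^ q ^ n = 1 := congrArg Subtype.val hn
  refine Nat.Coprime.coprime_dvd_left (orderOf_dvd_of_pow_eq_one hn') ?_
  exact Nat.Coprime.pow_left n ((Nat.coprime_primes hq hp).mpr hpq.symm)

section main

variable {M N : Subgroup G}

theorem OA_ne_bot_of_L (h1 : FS M ≤ N) (hE : EA M = ⊥) {q : ℕ} (hq : q.Prime)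
    (h : OA q (M ⊓ N) ≠ ⊥) : OA q M ≠ ⊥ := by
  intro h0
  apply h
  have := Fact.mk hq
  have hFS : FS M = FA M := by rw [FS_eq, hE, bot_sup_eq]
  have hc : OA q (M ⊓ N) ≤ centralizer (FS M : Set G) := by
    rw [hFS]
    apply le_centralizer_comm
    apply FA_le_of_OA
    intro p hp
    have := Fact.mk hp
    by_cases hpq : p = q
    · rw [hpq, h0]; exact bot_le
    · have h2 : OA p M ≤ OA p (M ⊓ N) :=
        OA_le_OA_of_le inf_le_left (le_inf (OA_le M p) ((OA_le_FA M p).trans ((FA_le_FS M).trans h1)))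
      exact h2.trans (OA_comm hp hq hpq _)
  have h3 : OA q (M ⊓ N) ≤ FA M :=
    (le_inf ((OA_le _ q).trans inf_le_left) hc).trans (inf_centralizer_FS_le M)
  rw [eq_bot_iff, ← h0]
  intro x hx
  obtain ⟨n, hn⟩ := (isPGroup_OA (M ⊓ N) q) ⟨x, hx⟩
  exact mem_OA_of_FA (h3 hx) (congrArg Subtype.val hn)

theorem normalizer_le_normalizer {p q : ℕ} (hp : p.Prime) (hq : q.Prime) (hpq : p ≠ q)
    {L : Subgroup G} (hC : centralizer (OA p L : Set G) ≤ L) :
    normalizer (OA p L : Set G) ≤ normalizer (OA q L : Set G) := by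
  have := Fact.mk hp
  have := Fact.mk hq
  set C := centralizer (OA p L : Set G) with hCdef
  have h1 : normalizer (OA p L : Set G) ≤ normalizer (C : Set G) :=
    normalizer_le_normalizer_centralizer _
  have h2 : normalizer (C : Set G) ≤ normalizer (OA q C : Set G) :=
    PCoreTools.normalizer_le_of_characteristic (pCore_characteristic q ↥C)
  have h3 : OA q L = OA q C := by
    apply le_antisymm
    · exact le_OA (OA_comm hq hp hpq.symm L) (hC.trans (le_normalizer_OA L q)) (isPGroup_OA L q)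
    · refine le_OA ((OA_le C q).trans hC) ?_ (isPGroup_OA C q)
      exact (le_normalizer_OA L p).trans (h1.trans h2)
  rw [h3]
  exact h1.trans h2

/-- elements of `M` centralizing `O_r(M)` for `r ≠ p` -/
def Y (M : Subgroup G) (p : ℕ) : Subgroup G :=
  M ⊓ centralizer ((⨆ r : {r : ℕ // r.Prime ∧ r ≠ p}, OA r.1 M : Subgroup G) : Set G)

theorem le_normalizer_Y (M : Subgroup G) (p : ℕ) : M ≤ normalizer (Y M p : Set G) := by
  refine le_trans (le_inf le_normalizer ?_) inf_normalizer_le_normalizer_inf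
  refine le_trans ?_ (normalizer_le_normalizer_centralizer _)
  intro g hg
  rw [← map_conj_eq_iff, Subgroup.map_iSup]
  congr 1
  funext r
  have := Fact.mk r.2.1
  exact map_conj_eq_iff.mpr (le_normalizer_OA M r.1 hg)

theorem OA_L_le {p q : ℕ} (hp : p.Prime) (hq : q.Prime) (hpq : p ≠ q)
    (h1 : FS M ≤ N) (hE : EA M = ⊥)
    (hN : normalizer (OA q (M ⊓ N) : Set G) ≤ normalizer (OA p (M ⊓ N) : Set G)) :
    OA p (M ⊓ N) ≤ OA p M := by
  have := Fact.mk hp
  have := Fact.mk hq
  set L := M ⊓ N with hL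
  have hLM : L ≤ M := inf_le_left
  have hFS : FS M = FA M := by rw [FS_eq, hE, bot_sup_eq]
  have hML : ∀ r : ℕ, r.Prime → OA r M ≤ OA r L := fun r hr => by
    have := Fact.mk hr
    exact OA_le_OA_of_le hLM (le_inf (OA_le M r) ((OA_le_FA M r).trans ((FA_le_FS M).trans h1)))
  have hLY : ∀ r : ℕ, r.Prime → OA r L ≤ Y M r := by
    intro r hr
    refine le_inf ((OA_le L r).trans hLM) (le_centralizer_iSup fun s => ?_)
    refine (OA_comm hr s.2.1 s.2.2.symm L).trans (centralizer_le (SetLike.coe_subset_coe.mpr ?_))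
    exact hML s.1 s.2.1
  have hW : Y M p ⊓ Y M q ≤ FA L := by
    have h2 : Y M p ⊓ Y M q ≤ centralizer (FS M : Set G) := by
      rw [hFS]
      apply le_centralizer_comm
      apply FA_le_of_OA
      intro r hr
      apply le_centralizer_comm
      by_cases hrp : r = p
      · refine inf_le_right.trans (inf_le_right.trans (centralizer_le (SetLike.coe_subset_coe.mpr ?_)))
        exact le_iSup (fun r : {r : ℕ // r.Prime ∧ r ≠ q} => OA r.1 M) ⟨r, hr, by rw [hrp]; exact hpq⟩
      · refine inf_le_left.trans (inf_le_right.trans (centralizer_le (SetLike.coe_subset_coe.mpr ?_)))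
        exact le_iSup (fun r : {r : ℕ // r.Prime ∧ r ≠ p} => OA r.1 M) ⟨r, hr, hrp⟩
    have h3 : Y M p ⊓ Y M q ≤ FA M :=
      (le_inf (inf_le_left.trans inf_le_left) h2).trans (inf_centralizer_FS_le M)
    refine h3.trans (FA_le_of_OA fun r hr => ?_)
    have := Fact.mk hr
    exact (hML r hr).trans (OA_le_FA L r)
  have hYL : Y M p ≤ normalizer (OA q L : Set G) := by
    intro y hy
    apply mem_normalizer_fintype
    intro x hx
    have hyM : y ∈ M := (mem_inf.mp hy).1
    have hxY : x ∈ Y M q := hLY q hq hx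
    have hxM : x ∈ M := (mem_inf.mp hxY).1
    have h2 : y * x * y⁻¹ * x⁻¹ ∈ Y M p ⊓ Y M q := by
      refine mem_inf.mpr ⟨?_, ?_⟩
      · have e : y * x * y⁻¹ * x⁻¹ = y * (x * y⁻¹ * x⁻¹) := by group
        rw [e]
        exact mul_mem hy ((mem_normalizer_iff.mp (le_normalizer_Y M p hxM) _).mp (inv_mem hy))
      · exact mul_mem ((mem_normalizer_iff.mp (le_normalizer_Y M q hyM) _).mp hxY) (inv_mem hxY)
    have h3 : y * x * y⁻¹ ∈ FA L := by
      have e : y * x * y⁻¹ = (y * x * y⁻¹ * x⁻¹) * x := by group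
      rw [e]
      exact mul_mem (hW h2) (OA_le_FA L q hx)
    obtain ⟨n, hn⟩ := (isPGroup_OA L q) ⟨x, hx⟩
    have hn' : x ^ q ^ n = 1 := congrArg Subtype.val hn
    refine mem_OA_of_FA h3 (n := n) ?_
    rw [conj_pow, hn', mul_one, mul_inv_cancel]
  have hYL' : Y M p ≤ normalizer (OA p L : Set G) := hYL.trans hN
  have hs : ((OA p L).subgroupOf M).IsSubnormal := by
    refine IsSubnormal.step _ ((Y M p).subgroupOf M) (subgroupOf_mono _ (hLY p hp))
      (normal_subgroupOf_of_le_normalizer (le_normalizer_Y M p)).isSubnormal ?_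
    apply normal_subgroupOf_of_le_normalizer
    intro x hx
    have h2 := mem_normalizer_iff.mp (hYL' hx)
    rw [mem_normalizer_iff]
    intro z
    exact h2 z
  have h4 : (OA p L).subgroupOf M ≤ pCore p ↥M :=
    subnormal_pgroup_le_pCore hs ((isPGroup_OA L p).of_equiv
      (subgroupOfEquivOfLe ((OA_le L p).trans hLM)).symm)
  rw [← map_subgroupOf_eq_of_le ((OA_le L p).trans hLM)]
  exact Subgroup.map_mono h4

/-- **Bender's maximal subgroup theorem** -/
theorem main [IsSimpleGroup G] (hM : IsCoatom M) (hN : IsCoatom N) (hMN : M ≠ N)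
    (h1 : FS M ≤ N) (h2 : FS N ≤ M) :
    ∃ p : ℕ, p.Prime ∧ IsPGroup p ↥(FS M) ∧ IsPGroup p ↥(FS N) := by
  have hEE : EA M = EA N := le_antisymm (EA_le h1 h2) (EA_le h2 h1)
  have hEM : EA M = ⊥ := by
    by_contra hne
    apply hMN
    rw [← normalizer_eq hM hne (BenderMax.EA_le M) (le_normalizer_EA M), hEE]
    exact normalizer_eq hN (hEE ▸ hne) (BenderMax.EA_le N) (le_normalizer_EA N)
  have hEN : EA N = ⊥ := hEE ▸ hEM
  have hFM : FS M = FA M := by rw [FS_eq, hEM, bot_sup_eq]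
  have hFN : FS N = FA N := by rw [FS_eq, hEN, bot_sup_eq]
  have hcomm : N ⊓ M = M ⊓ N := inf_comm _ _
  -- `O_q(M) ≠ 1 ↔ O_q(N) ≠ 1`
  have hMle : ∀ r : ℕ, r.Prime → OA r M ≤ OA r (M ⊓ N) := fun r hr => by
    have := Fact.mk hr
    exact OA_le_OA_of_le inf_le_left
      (le_inf (OA_le M r) ((OA_le_FA M r).trans ((FA_le_FS M).trans h1)))
  have hNle : ∀ r : ℕ, r.Prime → OA r N ≤ OA r (M ⊓ N) := fun r hr => by
    have := Fact.mk hr
    exact OA_le_OA_of_le inf_le_right
      (le_inf ((OA_le_FA N r).trans ((FA_le_FS N).trans h2)) (OA_le N r))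
  have hMN1 : ∀ r : ℕ, r.Prime → OA r M ≠ ⊥ → OA r N ≠ ⊥ := by
    intro r hr h
    refine OA_ne_bot_of_L h2 hEN hr ?_
    rw [hcomm]
    intro h3
    exact h (le_bot_iff.mp (h3 ▸ hMle r hr))
  have hNM1 : ∀ r : ℕ, r.Prime → OA r N ≠ ⊥ → OA r M ≠ ⊥ := by
    intro r hr h
    refine OA_ne_bot_of_L h1 hEM hr ?_
    intro h3
    exact h (le_bot_iff.mp (h3 ▸ hNle r hr))
  by_cases hex : ∃ p q : ℕ, p.Prime ∧ q.Prime ∧ p ≠ q ∧ OA p M ≠ ⊥ ∧ OA q M ≠ ⊥
  · exfalso
    obtain ⟨p, q, hp, hq, hpq, hpM, hqM⟩ := hex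
    have := Fact.mk hp
    have := Fact.mk hq
    have hCL : ∀ r : ℕ, r.Prime → OA r M ≠ ⊥ → centralizer (OA r (M ⊓ N) : Set G) ≤ M ⊓ N := by
      intro r hr hrM
      have := Fact.mk hr
      apply le_inf
      · exact ((centralizer_le (SetLike.coe_subset_coe.mpr (hMle r hr))).trans
          (centralizer_le_normalizer' _)).trans
          (normalizer_eq hM hrM (OA_le M r) (le_normalizer_OA M r)).le
      · exact ((centralizer_le (SetLike.coe_subset_coe.mpr (hNle r hr))).trans
          (centralizer_le_normalizer' _)).trans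
          (normalizer_eq hN (hMN1 r hr hrM) (OA_le N r) (le_normalizer_OA N r)).le
    have hqp : normalizer (OA q (M ⊓ N) : Set G) ≤ normalizer (OA p (M ⊓ N) : Set G) :=
      normalizer_le_normalizer hq hp hpq.symm (hCL q hq hqM)
    have hM1 : OA p (M ⊓ N) = OA p M :=
      le_antisymm (OA_L_le hp hq hpq h1 hEM hqp) (hMle p hp)
    have hN1 : OA p (M ⊓ N) = OA p N := by
      refine le_antisymm ?_ (hNle p hp)
      have h3 := OA_L_le (M := N) (N := M) hp hq hpq h2 hEN (by rw [hcomm]; exact hqp)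
      rwa [hcomm] at h3
    apply hMN
    rw [← normalizer_eq hM hpM (OA_le M p) (le_normalizer_OA M p), ← hM1, hN1]
    exact normalizer_eq hN (hMN1 p hp hpM) (OA_le N p) (le_normalizer_OA N p)
  · have hp : ∃ p : ℕ, p.Prime ∧ ∀ q : ℕ, q.Prime → q ≠ p → OA q M = ⊥ := by
      by_cases h3 : ∃ p : ℕ, p.Prime ∧ OA p M ≠ ⊥
      · obtain ⟨p, hp, hpM⟩ := h3
        refine ⟨p, hp, fun q hq hqp => ?_⟩
        by_contra h4
        exact hex ⟨p, q, hp, hq, hqp.symm, hpM, h4⟩
      · push Not at h3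
        exact ⟨2, Nat.prime_two, fun q hq _ => h3 q hq⟩
    obtain ⟨p, hp, hpM⟩ := hp
    have := Fact.mk hp
    refine ⟨p, hp, ?_, ?_⟩
    · rw [hFM]
      refine (isPGroup_OA M p).to_le (FA_le_of_OA fun q hq => ?_)
      by_cases hqp : q = p
      · rw [hqp]
      · rw [hpM q hq hqp]; exact bot_le
    · rw [hFN]
      refine (isPGroup_OA N p).to_le (FA_le_of_OA fun q hq => ?_)
      by_cases hqp : q = p
      · rw [hqp]
      · have h4 : OA q N = ⊥ := by
          by_contra h5
          exact hNM1 q hq h5 (hpM q hq hqp)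
        rw [h4]; exact bot_le

end main

end Cfsg.Agent.Lib.H22BenderMax
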