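import Cfsg.Agent.S4441
import Cfsg.Agent.S0960
import Cfsg.Agent.Lib.Subsec
import Cfsg.Agent.Lib.CharBasic2
/-!
# Projective generalized characters of the principal block, Sylow order `p` (helper71)
-/

set_option autoImplicit false
set_option linter.all false

namespace Cfsg.Agent.Lib.K0Data

open scoped ComplexConjugate
open Cfsg Cfsg.Agent.Lib Cfsg.Agent.Lib.CharBasic Cfsg.Agent.Lib.BlockRing
open Cfsg.Agent.Lib.BlockOsima Cfsg.Agent.Lib.Subsec

universe u

variable {K : Type u} [Group K] {p : ℕ} {M : Ideal AlgInt}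

theorem relIndex_dvd [Finite K] (hp : p.Prime) {P : Subgroup K} (hP : Nat.card P = p) :
    (Subgroup.centralizer (P : Set K)).relIndex (Subgroup.normalizer (P : Set K)) ∣ p - 1 := by
  haveI : Fact p.Prime := ⟨hp⟩
  haveI : IsCyclic P := isCyclic_of_prime_card hP
  have h1 : Nat.card (MulAut P) = p - 1 := by
    rw [IsCyclic.card_mulAut, hP, Nat.totient_prime hp]
  have key := Subgroup.card_dvd_of_injective _ (QuotientGroup.kerLift_injective P.normalizerMonoidHom)
  rw [Subgroup.normalizerMonoidHom_ker, ← Subgroup.index, ← Subgroup.relIndex, h1] at key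
  exact key

theorem add_div_le {e p : ℕ} (h0 : 0 < e) (hp : 1 < p) (h : e ∣ p - 1) : e + (p - 1) / e ≤ p ∧ 0 < (p - 1) / e := by
  obtain ⟨q, hq⟩ := h
  have h1 : (p - 1) / e = q := by rw [hq]; exact Nat.mul_div_cancel_left q h0
  rw [h1]
  have hq0 : 0 < q := by
    rcases Nat.eq_zero_or_pos q with rfl | h
    · omega
    · exact h
  refine ⟨?_, hq0⟩
  have h2 : e + q ≤ e * q + 1 := by
    obtain ⟨a, rfl⟩ := Nat.exists_eq_add_of_le' h0
    obtain ⟨b, rfl⟩ := Nat.exists_eq_add_of_le' hq0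
    nlinarith [Nat.zero_le (a * b)]
  omega

/-- `p`-singular elements, decomposition inside the Sylow subgroup of order `p` -/
theorem sing_decomp [Finite K] [Fact p.Prime] (P : Sylow p K) (hP : Nat.card P = p) {k : K}
    (hk : p ∣ orderOf k) : ∃ c x y : K, x ∈ (P : Subgroup K) ∧ x ≠ 1 ∧
      y ∈ Subgroup.centralizer ((P : Subgroup K) : Set K) ∧ ¬ p ∣ orderOf y ∧ c * k * c⁻¹ = x * y := by
  have hp : p.Prime := Fact.out
  obtain ⟨u, s, hus, hc, hu, hs, -, -⟩ := exists_p_decomp hp (g := k) (orderOf_pos k).ne'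
  have hu1 : u ≠ 1 := by
    rintro rfl
    rw [one_mul] at hus
    exact hs (hus ▸ hk)
  have hpg : IsPGroup p (Subgroup.zpowers u) := IsPGroup.of_card (by rw [Nat.card_zpowers, hu])
  obtain ⟨Q, hQ⟩ := hpg.exists_le_sylow
  obtain ⟨c, hcQ⟩ := MulAction.exists_smul_eq K Q P
  have hx : c * u * c⁻¹ ∈ (P : Subgroup K) := by
    rw [← hcQ, Sylow.coe_subgroup_smul]
    exact Subgroup.smul_mem_pointwise_smul u (MulAut.conj c) _ (hQ (Subgroup.mem_zpowers u))
  have hx1 : c * u * c⁻¹ ≠ 1 := by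
    intro h
    apply hu1
    have h1 : u = c⁻¹ * (c * u * c⁻¹) * c := by group
    rw [h1, h]; group
  have hcomm : Commute (c * u * c⁻¹) (c * s * c⁻¹) := hc.map (MulAut.conj c).toMonoidHom
  have hz : Subgroup.zpowers (c * u * c⁻¹) = (P : Subgroup K) := by
    apply Subgroup.eq_of_le_of_card_ge
    · rw [Subgroup.zpowers_le]; exact hx
    · rw [hP, Nat.card_zpowers]
      have h1 : orderOf (c * u * c⁻¹) ∣ p := by
        have h2 : orderOf (⟨c * u * c⁻¹, hx⟩ : P) ∣ Nat.card P := orderOf_dvd_natCard _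
        rwa [Subgroup.orderOf_mk, hP] at h2
      rcases (Nat.dvd_prime hp).1 h1 with h2 | h2
      · exact absurd (orderOf_eq_one_iff.1 h2) hx1
      · exact h2.ge
  refine ⟨c, c * u * c⁻¹, c * s * c⁻¹, hx, hx1, ?_, ?_, ?_⟩
  · rw [← hz, Subgroup.mem_centralizer_iff]
    rintro a ⟨n, rfl⟩
    exact (hcomm.zpow_left n).eq
  · have h1 : orderOf (c * s * c⁻¹) = orderOf s := by
      have := orderOf_injective (MulAut.conj c).toMonoidHom (MulAut.conj c).injective s
      simpa using this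
    rwa [h1]
  · rw [← hus]; group

theorem sum_one {e : ℕ} {s : ℕ → ℂ} (h0 : s 0 = 0) (hn : s (e + 1) = 0) {i₀ : ℕ} (hi₀ : i₀ < e) {c : ℂ}
    (hc : c * conj c = 1) (hs : ∀ i, i < e → s (i + 1) = if i = i₀ then c else 0) :
    ∑ j ∈ Finset.range (e + 1), (s (j + 1) - s j) * conj (s (j + 1) - s j) = 2 := by
  have h1 : ∀ j, j ≤ e + 1 → s j = if j = i₀ + 1 then c else 0 := by
    intro j hj
    rcases j with _ | j
    · rw [h0, if_neg (by omega)]
    · rcases Nat.lt_or_ge j e with h | h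
      · rw [hs j h]; simp
      · have : j = e := by omega
        subst this
        rw [hn, if_neg (by omega)]
  have h2 : ∀ j ∈ Finset.range (e + 1), (s (j + 1) - s j) * conj (s (j + 1) - s j) =
      (if j = i₀ then 1 else 0) + (if j = i₀ + 1 then 1 else 0) := by
    intro j hj
    rw [Finset.mem_range] at hj
    rw [h1 (j + 1) (by omega), h1 j (by omega)]
    by_cases ha : j = i₀
    · subst ha
      simp [hc]
    · by_cases hb : j = i₀ + 1
      · subst hb
        simp [hc]
      · have hc1 : ¬ (j + 1 = i₀ + 1) := by omega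
        simp [ha, hb]
  rw [Finset.sum_congr rfl h2, Finset.sum_add_distrib, Finset.sum_ite_eq', Finset.sum_ite_eq',
    if_pos (Finset.mem_range.2 (by omega)), if_pos (Finset.mem_range.2 (by omega))]
  norm_num

theorem sum_all {e : ℕ} (he : 0 < e) {s : ℕ → ℂ} (h0 : s 0 = 0) (hn : s (e + 1) = 0) {c : ℂ}
    (hc : c * conj c = 1) (hs : ∀ i, i < e → s (i + 1) = c) :
    ∑ j ∈ Finset.range (e + 1), (s (j + 1) - s j) * conj (s (j + 1) - s j) = 2 := by
  have h2 : ∀ j ∈ Finset.range (e + 1), (s (j + 1) - s j) * conj (s (j + 1) - s j) =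
      (if j = 0 then 1 else 0) + (if j = e then 1 else 0) := by
    intro j hj
    rw [Finset.mem_range] at hj
    rcases j with _ | j
    · rw [hs 0 he, h0, if_pos rfl, if_neg (by omega), sub_zero, hc, add_zero]
    · by_cases hb : j + 1 = e
      · rw [if_neg (by omega), if_pos hb, hs j (by omega), hb, hn]
        simp [hc]
      · rw [hs (j + 1) (by omega), hs j (by omega), sub_self, if_neg (by omega), if_neg hb]
        simp
  rw [Finset.sum_congr rfl h2, Finset.sum_add_distrib, Finset.sum_ite_eq', Finset.sum_ite_eq',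
    if_pos (Finset.mem_range.2 (by omega)), if_pos (Finset.mem_range.2 (by omega))]
  norm_num

section inner

variable [Fintype K]

open scoped Classical in
theorem exists_data [hpf : Fact p.Prime] (hM : IsPModular p M) (hodd : p ≠ 2) (P : Sylow p K) (hP : Nat.card P = p) :
    ∃ (n : ℕ) (g : ℕ → K → ℂ) (b : ℕ → ℂ), 0 < n ∧ g 0 = 0 ∧ g (n + 1) = 0 ∧
      (∀ i, IsGeneralizedCharacter K (g i)) ∧ (∀ i k, p ∣ orderOf k → g i k = 0) ∧
      (∀ μ ∈ principalBlock M K, ∑ j ∈ Finset.range (n + 1),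
        (classInner (μ : K → ℂ) (g (j + 1)) - classInner (μ : K → ℂ) (g j)) *
          conj (classInner (μ : K → ℂ) (g (j + 1)) - classInner (μ : K → ℂ) (g j)) = 2) ∧
      (∀ μ ∈ principalBlock M K, (μ : K → ℂ) 1 =
        ∑ j ∈ Finset.range (n + 1), classInner (μ : K → ℂ) (g j) * b j) ∧
      Nat.card (principalBlock M K) ≤ p := by
  have hp : p.Prime := hpf.out
  haveI := isPrime hM
  set e := (Subgroup.centralizer ((P : Subgroup K) : Set K)).relIndex
    (Subgroup.normalizer ((P : Subgroup K) : Set K)) with he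
  have hdvd : e ∣ p - 1 := relIndex_dvd hp hP
  have he0 : 0 < e := Nat.pos_of_ne_zero Subgroup.index_ne_zero_of_finite
  obtain ⟨hle, hq0⟩ := add_div_le he0 hp.one_lt hdvd
  obtain ⟨X, Y, hXY, hdisj, hX, hY, εX, ε, h1, h2, h3, h4, h5⟩ := S4441.result p M hM hodd P hP e he.symm
  obtain ⟨hcard, -⟩ := S0960.result p M hM hodd P hP e he.symm
  have hYne : ∃ θ₀, θ₀ ∈ Y := by
    by_contra h
    push Not at h
    have : Y = ∅ := Set.eq_empty_iff_forall_notMem.2 h
    rw [this] at hY
    simp at hY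
    omega
  obtain ⟨θ₀, hθ₀⟩ := hYne
  haveI : Fintype X := Fintype.ofFinite X
  haveI : Fintype Y := Fintype.ofFinite Y
  let E : X ≃ Fin e := (Finite.equivFin X).trans (finCongr hX)
  let v : ℕ → IrrCharacter K := fun i => if h : i < e then (E.symm ⟨i, h⟩ : X) else θ₀
  have hvX : ∀ i, i < e → v i ∈ X := by
    intro i hi
    simp only [v, dif_pos hi]
    exact (E.symm ⟨i, hi⟩).2
  have hvinj : ∀ i j, i < e → j < e → v i = v j → i = j := by
    intro i j hi hj hij
    simp only [v, dif_pos hi, dif_pos hj] at hij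
    have := E.symm.injective (Subtype.ext hij)
    simpa using this
  have hvsurj : ∀ χ ∈ X, ∃ i, i < e ∧ v i = χ := by
    intro χ hχ
    refine ⟨(E ⟨χ, hχ⟩ : Fin e), (E ⟨χ, hχ⟩).2, ?_⟩
    simp only [v, dif_pos (E ⟨χ, hχ⟩).2]
    simp
  set SY : K → ℂ := ∑ θ ∈ fs Y, (θ : K → ℂ) with hSY
  let g : ℕ → K → ℂ := fun j => if 0 < j ∧ j ≤ e then
    ((εX (v (j - 1)) : ℤ) : ℂ) • (v (j - 1) : K → ℂ) + ((ε : ℤ) : ℂ) • SY else 0
  have hg0 : g 0 = 0 := by simp [g]
  have hgn : g (e + 1) = 0 := by simp [g]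
  have hgi : ∀ i, i < e → g (i + 1) = ((εX (v i) : ℤ) : ℂ) • (v i : K → ℂ) + ((ε : ℤ) : ℂ) • SY := by
    intro i hi
    simp only [g]
    rw [if_pos ⟨Nat.succ_pos i, hi⟩]
    simp
  -- inner products
  have hconj : ∀ z : ℤ, conj (z : ℂ) = z := fun z => map_intCast _ z
  have hinY : ∀ μ : IrrCharacter K, classInner (μ : K → ℂ) SY = if μ ∈ Y then 1 else 0 := by
    intro μ
    rw [hSY, classInner_sum_right]
    simp only [irr_orthonormal]
    rw [Finset.sum_ite_eq]
    simp only [mem_fs]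
  have hin : ∀ μ : IrrCharacter K, ∀ i, i < e → classInner (μ : K → ℂ) (g (i + 1)) =
      (if μ = v i then (εX (v i) : ℂ) else 0) + (if μ ∈ Y then (ε : ℂ) else 0) := by
    intro μ i hi
    rw [hgi i hi, classInner_add_right, classInner_smul_right, classInner_smul_right, irr_orthonormal, hinY,
      hconj, hconj]
    split_ifs <;> simp
  have hin0 : ∀ μ : IrrCharacter K, classInner (μ : K → ℂ) (0 : K → ℂ) = 0 := fun μ => classInner_zero_right _
  have hXnotY : ∀ μ, μ ∈ X → μ ∉ Y := fun μ hx hy => Set.disjoint_left.1 hdisj hx hy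
  have hε2 : (ε : ℂ) * ε = 1 := by
    rcases h2 with h | h <;> rw [h] <;> norm_num
  have hεX2 : ∀ χ ∈ X, (εX χ : ℂ) * εX χ = 1 := by
    intro χ hχ
    rcases (h1 χ hχ).1 with h | h <;> rw [h] <;> norm_num
  refine ⟨e, g, fun j => if 0 < j ∧ j ≤ e then (εX (v (j - 1)) : ℂ) * (v (j - 1) : K → ℂ) 1 else 0,
    he0, hg0, hgn, ?_, ?_, ?_, ?_, hcard.trans_le hle⟩
  · -- generalized characters
    intro j
    by_cases hj : 0 < j ∧ j ≤ e
    · simp only [g, if_pos hj]
      refine IsGeneralizedCharacter.add ?_ ?_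
      · exact IsGeneralizedCharacter.intCast_smul (IsCharacter.isGeneralized (v (j - 1)).2.isCharacter) _
      · refine IsGeneralizedCharacter.intCast_smul ?_ _
        rw [hSY]
        exact isGeneralized_sum _ _ (fun θ _ => θ.2.isGeneralized)
    · simp only [g, if_neg hj]
      exact isGeneralized_zero
  · -- vanishing
    intro j k hk
    by_cases hj : 0 < j ∧ j ≤ e
    · simp only [g, if_pos hj]
      set i := j - 1 with hi
      have hie : i < e := by omega
      obtain ⟨c, x, y, hx, hx1, hy, hyr, hc⟩ := sing_decomp P hP hk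
      have hval : ∀ χ ∈ X, (χ : K → ℂ) k = εX χ := by
        intro χ hχ
        rw [← (h1 χ hχ).2.2 x hx hx1 y hy hyr, ← hc]
        exact (χ.2.isClassFunction k c).symm
      have hw := weak_orthogonality hM (BlockThird.isPBlock_principal (M := M) (G := K)) (x := (1 : K)) (y := k)
        (by rw [orderOf_one]; exact hp.one_lt.not_ge ∘ Nat.le_of_dvd one_pos) hk
      rw [hXY, finsum_mem_union hdisj (Set.toFinite _) (Set.toFinite _),
        finsum_mem_eq_finite_toFinset_sum _ (Set.toFinite X),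
        finsum_mem_eq_finite_toFinset_sum _ (Set.toFinite Y)] at hw
      have hX1 : ∑ χ ∈ fs X, (χ : K → ℂ) 1 * conj ((χ : K → ℂ) k) = ε * (θ₀ : K → ℂ) 1 := by
        rw [h5 θ₀ hθ₀ 1 (by rw [orderOf_one]; exact hp.one_lt.not_ge ∘ Nat.le_of_dvd one_pos),
          finsum_mem_eq_finite_toFinset_sum _ (Set.toFinite X)]
        refine Finset.sum_congr rfl fun χ hχ => ?_
        rw [hval χ (mem_fs.1 hχ), hconj, mul_comm]
      have hY1 : ∑ χ ∈ fs Y, (χ : K → ℂ) 1 * conj ((χ : K → ℂ) k) = (θ₀ : K → ℂ) 1 * conj (SY k) := by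
        rw [hSY, Finset.sum_apply, map_sum, Finset.mul_sum]
        refine Finset.sum_congr rfl fun χ hχ => ?_
        rw [h4 χ (mem_fs.1 hχ) θ₀ hθ₀ 1 (by rw [orderOf_one]; exact hp.one_lt.not_ge ∘ Nat.le_of_dvd one_pos)]
      have hw' : (θ₀ : K → ℂ) 1 * (ε + conj (SY k)) = 0 := by
        have : ∑ χ ∈ fs X, (χ : K → ℂ) 1 * conj ((χ : K → ℂ) k) +
          ∑ χ ∈ fs Y, (χ : K → ℂ) 1 * conj ((χ : K → ℂ) k) = 0 := hw
        rw [hX1, hY1] at this
        linear_combination this
      have hSk : SY k = -ε := by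
        rcases mul_eq_zero.1 hw' with h | h
        · exact absurd h θ₀.2.one_ne_zero
        · have h6 := congrArg (starRingEnd ℂ) h
          rw [map_add, Complex.conj_conj, hconj, map_zero] at h6
          linear_combination h6
      rw [Pi.add_apply, Pi.smul_apply, Pi.smul_apply, smul_eq_mul, smul_eq_mul, hval _ (hvX i hie), hSk]
      linear_combination hεX2 _ (hvX i hie) - hε2
    · simp only [g, if_neg hj]
      rfl
  · intro μ hμ
    have hs0 : classInner (μ : K → ℂ) (g 0) = 0 := by rw [hg0]; exact hin0 μ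
    have hsn : classInner (μ : K → ℂ) (g (e + 1)) = 0 := by rw [hgn]; exact hin0 μ
    rw [hXY] at hμ
    rcases hμ with hμ | hμ
    · obtain ⟨i₀, hi₀, rfl⟩ := hvsurj μ hμ
      refine sum_one (s := fun j => classInner (v i₀ : K → ℂ) (g j)) hs0 hsn hi₀ (c := (εX (v i₀) : ℂ))
        (by rw [hconj]; exact hεX2 _ hμ) ?_
      intro i hi
      show classInner (v i₀ : K → ℂ) (g (i + 1)) = _
      rw [hin _ i hi, if_neg (hXnotY _ hμ), add_zero]
      by_cases h : i = i₀
      · subst h; simp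
      · rw [if_neg h, if_neg]
        intro h'
        exact h (hvinj _ _ hi hi₀ h'.symm)
    · refine sum_all he0 (s := fun j => classInner (μ : K → ℂ) (g j)) hs0 hsn (c := (ε : ℂ))
        (by rw [hconj]; exact hε2) ?_
      intro i hi
      show classInner (μ : K → ℂ) (g (i + 1)) = _
      rw [hin _ i hi, if_pos hμ, if_neg, zero_add]
      rintro rfl
      exact hXnotY _ (hvX i hi) hμ
  · intro μ hμ
    have hs0 : classInner (μ : K → ℂ) (g 0) = 0 := by rw [hg0]; exact hin0 μ
    rw [Finset.sum_range_succ', hs0, zero_mul, add_zero]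
    have hb : ∀ i ∈ Finset.range e, classInner (μ : K → ℂ) (g (i + 1)) *
        (if 0 < i + 1 ∧ i + 1 ≤ e then (εX (v (i + 1 - 1)) : ℂ) * (v (i + 1 - 1) : K → ℂ) 1 else 0) =
        ((if μ = v i then (εX (v i) : ℂ) else 0) + (if μ ∈ Y then (ε : ℂ) else 0)) *
          ((εX (v i) : ℂ) * (v i : K → ℂ) 1) := by
      intro i hi
      rw [Finset.mem_range] at hi
      rw [hin μ i hi, if_pos (show 0 < i + 1 ∧ i + 1 ≤ e from ⟨Nat.succ_pos i, hi⟩), Nat.add_sub_cancel]
    rw [Finset.sum_congr rfl hb]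
    rw [hXY] at hμ
    rcases hμ with hμ | hμ
    · obtain ⟨i₀, hi₀, rfl⟩ := hvsurj μ hμ
      rw [Finset.sum_eq_single i₀]
      · rw [if_pos rfl, if_neg (hXnotY _ hμ), add_zero]
        linear_combination (-(v i₀ : K → ℂ) 1) * hεX2 _ hμ
      · intro i hi hne
        rw [Finset.mem_range] at hi
        rw [if_neg, if_neg (hXnotY _ hμ), add_zero, zero_mul]
        intro h
        exact hne (hvinj _ _ hi hi₀ h.symm)
      · intro h; exact absurd (Finset.mem_range.2 hi₀) h
    · have hb2 : ∀ i ∈ Finset.range e, ((if μ = v i then (εX (v i) : ℂ) else 0) + (if μ ∈ Y then (ε : ℂ) else 0)) *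
          ((εX (v i) : ℂ) * (v i : K → ℂ) 1) = (ε : ℂ) * ((εX (v i) : ℂ) * (v i : K → ℂ) 1) := by
        intro i hi
        rw [Finset.mem_range] at hi
        rw [if_pos hμ, if_neg, zero_add]
        rintro rfl
        exact hXnotY _ (hvX i hi) hμ
      rw [Finset.sum_congr rfl hb2, ← Finset.mul_sum]
      have hsum : ∑ i ∈ Finset.range e, (εX (v i) : ℂ) * (v i : K → ℂ) 1 =
          ∑ χ ∈ fs X, (εX χ : ℂ) * (χ : K → ℂ) 1 := by
        refine Finset.sum_bij (fun i _ => v i) ?_ ?_ ?_ ?_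
        · intro i hi
          exact mem_fs.2 (hvX i (Finset.mem_range.1 hi))
        · intro i hi j hj hij
          exact hvinj _ _ (Finset.mem_range.1 hi) (Finset.mem_range.1 hj) hij
        · intro χ hχ
          obtain ⟨i, hi, rfl⟩ := hvsurj χ (mem_fs.1 hχ)
          exact ⟨i, Finset.mem_range.2 hi, rfl⟩
        · intro i _; rfl
      have h6 := h5 μ hμ 1 (by rw [orderOf_one]; exact hp.one_lt.not_ge ∘ Nat.le_of_dvd one_pos)
      rw [finsum_mem_eq_finite_toFinset_sum _ (Set.toFinite X)] at h6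
      rw [hsum]
      have h7 : (ε : ℂ) * (μ : K → ℂ) 1 = ∑ χ ∈ fs X, (εX χ : ℂ) * (χ : K → ℂ) 1 := h6
      rw [← h7]
      linear_combination (-(μ : K → ℂ) 1) * hε2

end inner

end Cfsg.Agent.Lib.K0Data
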