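import Cfsg.Agent.Lib.K0Quot
import Cfsg.Agent.Lib.K0Data
import Cfsg.Agent.Lib.BlockCentral
import Cfsg.Agent.Lib.CycAvg
/-!
# Heights zero characters of the principal block and sections with small centralizer (helper71)
-/

set_option autoImplicit false
set_option linter.all false

namespace Cfsg.Agent.Lib.K0Main

open scoped ComplexConjugate
open Cfsg Cfsg.Agent.Lib Cfsg.Agent.Lib.CharBasic Cfsg.Agent.Lib.BlockRing Cfsg.Agent.Lib.PPart
open Cfsg.Agent.Lib.BlockOsima Cfsg.Agent.Lib.Subsec Cfsg.Agent.Lib.CycAvg Cfsg.Agent.Lib.H76Blk2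
open Cfsg.Agent.Lib.BlockSecond Cfsg.Agent.Lib.Contrib Cfsg.Agent.Lib.BlockDeg

universe u

/-- Counting with Galois averages. -/
theorem count_le {ι : Type*} (S T : Finset ι) (hTS : T ⊆ S) {N : ℕ} [NeZero N] (J : Finset ℕ)
    (d : ℕ → ι → ℂ) (hd : ∀ j ∈ J, ∀ i ∈ S, d j i ∈ CycAvg.Z N) (c : ℕ)
    (hc : ∑ j ∈ J, ∑ i ∈ S, d j i * conj (d j i) = (c : ℂ)) (r : ℕ)
    (hT : ∀ i ∈ T, r ≤ (J.filter fun j => d j i ≠ 0).card) :
    r * T.card ≤ c := by
  have h1 : (c : ℝ) = ∑ j ∈ J, ∑ i ∈ S, avn N (d j i) := by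
    have h2 := congrArg (av N) hc
    rw [av_sum, av_natCast] at h2
    have h3 : ∑ j ∈ J, av N (∑ i ∈ S, d j i * conj (d j i)) = ((∑ j ∈ J, ∑ i ∈ S, avn N (d j i) : ℝ) : ℂ) := by
      push_cast
      refine Finset.sum_congr rfl fun j hj => ?_
      rw [av_sum]
      exact Finset.sum_congr rfl fun i hi => av_mul_conj (hd j hj i hi)
    rw [h3] at h2
    exact_mod_cast h2.symm
  have h4 : (r * T.card : ℝ) ≤ c := by
    rw [h1, Finset.sum_comm]
    calc (r * T.card : ℝ) = ∑ i ∈ T, (r : ℝ) := by rw [Finset.sum_const, nsmul_eq_mul, mul_comm]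
      _ ≤ ∑ i ∈ T, ∑ j ∈ J, avn N (d j i) := by
        refine Finset.sum_le_sum fun i hi => ?_
        calc (r : ℝ) ≤ ((J.filter fun j => d j i ≠ 0).card : ℝ) := by exact_mod_cast hT i hi
          _ = ∑ j ∈ J.filter (fun j => d j i ≠ 0), (1 : ℝ) := by simp
          _ ≤ ∑ j ∈ J.filter (fun j => d j i ≠ 0), avn N (d j i) := by
            refine Finset.sum_le_sum fun j hj => ?_
            rw [Finset.mem_filter] at hj
            exact one_le_avn (hd j hj.1 i (hTS hi)) hj.2
          _ ≤ ∑ j ∈ J, avn N (d j i) :=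
            Finset.sum_le_sum_of_subset_of_nonneg (Finset.filter_subset _ _) fun j _ _ => avn_nonneg _
      _ ≤ ∑ i ∈ S, ∑ j ∈ J, avn N (d j i) :=
        Finset.sum_le_sum_of_subset_of_nonneg hTS fun i _ _ => Finset.sum_nonneg fun j _ => avn_nonneg _
  exact_mod_cast h4

variable {G : Type u} [Group G] [Finite G] {p : ℕ} {M : Ideal AlgInt}

theorem val_expand (x : G) (χ : IrrCharacter G) (c : Cz x) :
    (χ : G → ℂ) (x * (c : G)) = ∑ ψ : IrrCharacter (Cz x), coef x (χ : G → ℂ) (ψ : Cz x → ℂ) * (ψ : Cz x → ℂ) c := by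
  letI := Fintype.ofFinite (Cz x)
  have h := (BlockSecond.isClassFunction_section χ.2.isClassFunction (u := x) (H := Cz x)
    (fun g hg => mem_Cz.1 hg)).expansion_apply c
  rw [h]
  exact Finset.sum_congr rfl fun ψ _ => by rw [coef_eq]

theorem natDegree_int (ψ : IrrCharacter G) : ∃ n : ℕ, (ψ : G → ℂ) 1 = n := ⟨_, (charDegree_cast_irr ψ).symm⟩

theorem value_mem {x : G} {N : ℕ} (hN : x ^ N = 1) (χ : IrrCharacter G) : (χ : G → ℂ) x ∈ CycAvg.Z N := by
  have h := val_expand x χ 1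
  rw [Subgroup.coe_one, mul_one] at h
  rw [h]
  refine (CycAvg.Z N).sum_mem fun ψ _ => (CycAvg.Z N).mul_mem (coef_mem hN χ ψ) ?_
  obtain ⟨n, hn⟩ := natDegree_int ψ
  rw [hn]
  exact natCast_mem _ n

/-- values at `p`-elements of characters of degree prime to `p` -/
theorem value_ne_zero (hM : IsPModular p M) {x : G} {k : ℕ} (hx : orderOf x = p ^ k) {χ : IrrCharacter G}
    (hχ : ¬ p ∣ charDegree (χ : G → ℂ)) : (χ : G → ℂ) x ≠ 0 := by
  haveI := isPrime hM
  obtain ⟨e, f, he⟩ := exists_isRegExp p hM.1 G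
  have h1 := BrauerApp.char_sub_char_regular_idl hM he χ.2.isCharacter x
  rw [he.pow_e_of_sing x ⟨k, hx⟩] at h1
  intro h0
  rw [h0, zero_sub] at h1
  have h2 := idl_neg h1
  rw [neg_neg, ← charDegree_cast_irr] at h2
  exact hχ ((idl_natCast_iff hM _).1 h2)

open scoped Classical in
theorem card_eq_filter :
    Nat.card {χ : IrrCharacter G // χ ∈ principalBlock M G ∧ ¬ p ∣ charDegree (χ : G → ℂ)} =
      ((fs (principalBlock M G)).filter fun χ : IrrCharacter G => ¬ p ∣ charDegree (χ : G → ℂ)).card := by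
  rw [Nat.card_eq_fintype_card, Fintype.card_subtype]
  congr 1
  ext χ
  simp [mem_fs]

/-- the `p`-nilpotent case -/
theorem nil_case (hM : IsPModular p M) {x : G} {k : ℕ} (hx : orderOf x = p ^ k) {N : Subgroup (Cz x)} [N.Normal]
    (hN : ¬ p ∣ Nat.card N) {m : ℕ} (hm : N.index = p ^ m) (hm2 : m ≤ 2) :
    Nat.card {χ : IrrCharacter G // χ ∈ principalBlock M G ∧ ¬ p ∣ charDegree (χ : G → ℂ)} ≤ p ^ 2 := by
  classical
  have hp := hM.1
  haveI : NeZero (p ^ k) := ⟨(pow_pos hp.pos k).ne'⟩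
  have h1r : ¬ p ∣ orderOf (1 : Cz x) := by
    rw [orderOf_one]; exact hp.one_lt.not_ge ∘ Nat.le_of_dvd one_pos
  have h1 := BlockSection.principal_section_sum hM hx (H := Cz x) (fun g => mem_Cz) h1r h1r
  rw [BlockSection.sum_principal_of_normal_complement hM hN hm h1r h1r] at h1
  simp only [Subgroup.coe_one, mul_one] at h1
  rw [finsum_mem_eq_finite_toFinset_sum _ (Set.toFinite _)] at h1
  rw [card_eq_filter]
  have h2 := count_le (fs (principalBlock M G))
    ((fs (principalBlock M G)).filter fun χ : IrrCharacter G => ¬ p ∣ charDegree (χ : G → ℂ)) (Finset.filter_subset _ _)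
    (N := p ^ k) {0} (fun _ χ => (χ : G → ℂ) x) (fun _ _ χ _ => value_mem (by rw [← hx, pow_orderOf_eq_one]) χ)
    (p ^ m) (by rw [Finset.sum_singleton]; push_cast; exact h1) 1 (by
      intro χ hχ
      rw [Finset.mem_filter] at hχ
      rw [Finset.filter_true_of_mem]
      · simp
      · intro _ _
        exact value_ne_zero hM hx hχ.2)
  rw [one_mul] at h2
  exact h2.trans (Nat.pow_le_pow_right hp.pos hm2)

/-- `ψ(h_{p'})` is a generalized character -/
theorem gen_pow (hp : p.Prime) {e f : ℕ} (he : IsRegExp p G e f) (ψ : IrrCharacter G) :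
    IsGeneralizedCharacter G (fun h => (ψ : G → ℂ) (h ^ e)) := by
  apply BrauerInd.isGeneralizedCharacter_of_restrict_elementary
  · intro g h
    simp only
    rw [conj_pow, ψ.2.isClassFunction]
  intro E q hq hEq
  have hnil := MGroups.isNilpotent_of_isElementary hq hEq
  obtain ⟨πe, πf, hπe, hπf⟩ := BlockCentral.exists_homs hp he E hnil
  have h1 : (fun x : E => (ψ : G → ℂ) ((x : G) ^ e)) = (fun x : E => (ψ : G → ℂ) (E.subtype.comp πe x)) := by
    funext x
    rw [MonoidHom.comp_apply, hπe]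
    rfl
  rw [h1]
  exact ψ.2.isGeneralized.comp _

theorem sum_sum_mul {ι H : Type*} [Fintype H] (s : Finset ι) (f : ι → H → ℂ) (w w' : H → ℂ) :
    ∑ i ∈ s, (∑ h : H, f i h * w h) * conj (∑ h : H, f i h * w' h) =
      ∑ h : H, ∑ k : H, w h * conj (w' k) * ∑ i ∈ s, f i h * conj (f i k) := by
  have h1 : ∀ i ∈ s, (∑ h : H, f i h * w h) * conj (∑ h : H, f i h * w' h) =
      ∑ h : H, ∑ k : H, w h * conj (w' k) * (f i h * conj (f i k)) := by
    intro i _
    rw [map_sum, Finset.sum_mul_sum]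
    refine Finset.sum_congr rfl fun h _ => Finset.sum_congr rfl fun k _ => ?_
    rw [map_mul]; ring
  rw [Finset.sum_congr rfl h1, Finset.sum_comm]
  refine Finset.sum_congr rfl fun h _ => ?_
  rw [Finset.sum_comm]
  exact Finset.sum_congr rfl fun k _ => by rw [Finset.mul_sum]

/-- The section of an element `x` of order `p` with `|C(x)|_p = p²`. -/
theorem main_case (hM : IsPModular p M) (hodd : p ≠ 2) {x : G} (hx : orderOf x = p)
    (hc : (Nat.card (Cz x)).factorization p = 2) :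
    Nat.card {χ : IrrCharacter G // χ ∈ principalBlock M G ∧ ¬ p ∣ charDegree (χ : G → ℂ)} ≤ p ^ 2 := by
  classical
  have hp := hM.1
  haveI : Fact p.Prime := ⟨hp⟩
  haveI := isPrime hM
  haveI : NeZero p := ⟨hp.ne_zero⟩
  letI := Fintype.ofFinite G
  letI := Fintype.ofFinite (Cz x)
  set Q : Subgroup (Cz x) := Subgroup.zpowers (zz x) with hQ
  have hzz : ∀ h : Cz x, zz x * h = h * zz x := fun h => Subtype.ext (mem_Cz.1 h.2).eq
  have hcent : Subgroup.centralizer (Q : Set (Cz x)) = ⊤ := by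
    rw [eq_top_iff]
    intro h _
    rw [Subgroup.mem_centralizer_iff]
    rintro a ⟨n, rfl⟩
    exact ((show Commute (zz x) h from hzz h).zpow_left n).eq
  haveI hQn : Q.Normal := by
    constructor
    intro a ha h
    have h1 : h ∈ Subgroup.centralizer (Q : Set (Cz x)) := by rw [hcent]; trivial
    rw [Subgroup.mem_centralizer_iff] at h1
    have h2 : h * a * h⁻¹ = a := by rw [← h1 a ha, mul_inv_cancel_right]
    rwa [h2]
  have hordz : orderOf (zz x) = p := by
    rw [← hx]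
    exact (Subgroup.orderOf_coe (zz x)).symm
  have hQcard : Nat.card Q = p := by rw [hQ, Nat.card_zpowers, hordz]
  have hQp : IsPGroup p Q := IsPGroup.of_card (n := 1) (by rw [hQcard, pow_one])
  have hsup : Q ⊔ Subgroup.centralizer (Q : Set (Cz x)) = ⊤ := by rw [hcent, sup_top_eq]
  letI : Fintype (Cz x ⧸ Q) := Fintype.ofFinite _
  have hcardK : p * Nat.card (Cz x ⧸ Q) = Nat.card (Cz x) := by
    rw [← hQcard]; exact Q.card_mul_index
  let P : Sylow p (Cz x ⧸ Q) := default
  have hP : Nat.card P = p := by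
    rw [P.card_eq_multiplicity]
    have h1 : (Nat.card (Cz x)).factorization p = (Nat.card (Cz x ⧸ Q)).factorization p + 1 := by
      rw [← hcardK, Nat.factorization_mul hp.ne_zero Nat.card_pos.ne', Finsupp.add_apply, hp.factorization_self,
        add_comm]
    have h2 : (Nat.card (Cz x ⧸ Q)).factorization p = 1 := by omega
    rw [h2, pow_one]
  obtain ⟨n, g, b, hn0, hg0, hgn, hgen, hvan, hsum2, hone, hcard⟩ := K0Data.exists_data hM hodd P hP
  obtain ⟨e, f, he⟩ := exists_isRegExp p hp (Cz x)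
  set B0 := principalBlock M G with hB0
  set BK := principalBlock M (Cz x ⧸ Q) with hBK
  let A : (Cz x → ℂ) → IrrCharacter G → ℂ := fun w χ => ∑ h : Cz x, (χ : G → ℂ) (x * ((h ^ e : Cz x) : G)) * w h
  let A' : (Cz x → ℂ) → IrrCharacter (Cz x ⧸ Q) → ℂ := fun w μ =>
    ∑ h : Cz x, (μ : Cz x ⧸ Q → ℂ) ((h ^ e : Cz x) : Cz x ⧸ Q) * w h
  have hxk : orderOf x = p ^ 1 := by rw [hx, pow_one]
  have star : ∀ w w', ∑ χ ∈ fs B0, A w χ * conj (A w' χ) = (p : ℂ) * ∑ μ ∈ fs BK, A' w μ * conj (A' w' μ) := by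
    intro w w'
    simp only [A, A']
    rw [sum_sum_mul, sum_sum_mul, Finset.mul_sum]
    refine Finset.sum_congr rfl fun h _ => ?_
    rw [Finset.mul_sum]
    refine Finset.sum_congr rfl fun k _ => ?_
    have h1 := BlockSection.principal_section_sum hM hxk (H := Cz x) (fun g => mem_Cz) (he.reg h) (he.reg k)
    have h2 := K0Quot.quot_sum hM hQp hsup (he.reg h) (he.reg k)
    rw [h2, hQcard, finsum_mem_eq_finite_toFinset_sum _ (Set.toFinite _),
      finsum_mem_eq_finite_toFinset_sum _ (Set.toFinite _)] at h1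
    have h3 : ∑ χ ∈ fs B0, (χ : G → ℂ) (x * ((h ^ e : Cz x) : G)) * conj ((χ : G → ℂ) (x * ((k ^ e : Cz x) : G))) =
      (p : ℂ) * ∑ μ ∈ fs BK, (μ : Cz x ⧸ Q → ℂ) ((h ^ e : Cz x) : Cz x ⧸ Q) *
        conj ((μ : Cz x ⧸ Q → ℂ) ((k ^ e : Cz x) : Cz x ⧸ Q)) := h1
    rw [h3]; ring
  let w : ℕ → Cz x → ℂ := fun j h => (Nat.card (Cz x) : ℂ)⁻¹ * conj (g j (h : Cz x ⧸ Q))
  have hcz0 : (Nat.card (Cz x) : ℂ) ≠ 0 := by exact_mod_cast Nat.card_pos.ne'
  have hp0 : (p : ℂ) ≠ 0 := by exact_mod_cast hp.ne_zero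
  -- values of `A'`
  have hA' : ∀ j, ∀ μ : IrrCharacter (Cz x ⧸ Q), A' (w j) μ = classInner (μ : Cz x ⧸ Q → ℂ) (g j) := by
    intro j μ
    have h1 : ∀ h : Cz x, (μ : Cz x ⧸ Q → ℂ) ((h ^ e : Cz x) : Cz x ⧸ Q) * w j h =
        (fun k : Cz x ⧸ Q => (Nat.card (Cz x) : ℂ)⁻¹ * ((μ : Cz x ⧸ Q → ℂ) k * conj (g j k))) (h : Cz x ⧸ Q) := by
      intro h
      simp only [w]
      by_cases hk : p ∣ orderOf (h : Cz x ⧸ Q)
      · rw [hvan j _ hk]; simp
      · obtain ⟨y, hy, hyk⟩ := exists_regular_lift hp Q hk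
        have h2 : ((h ^ e : Cz x) : Cz x ⧸ Q) = (h : Cz x ⧸ Q) := by
          rw [QuotientGroup.mk_pow, ← hyk, ← QuotientGroup.mk_pow, he.pow_e_of_reg y hy]
        rw [h2]; ring
    simp only [A']
    rw [Finset.sum_congr rfl fun h _ => h1 h]
    refine (BlockNormP.sum_quot Q (fun k : Cz x ⧸ Q => (Nat.card (Cz x) : ℂ)⁻¹ * ((μ : Cz x ⧸ Q → ℂ) k * conj (g j k)))).trans ?_
    rw [← Finset.mul_sum, classInner, hQcard]
    have h3 : (Nat.card (Cz x) : ℂ) = p * Nat.card (Cz x ⧸ Q) := by exact_mod_cast hcardK.symm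
    have h4 : (Nat.card (Cz x ⧸ Q) : ℂ) ≠ 0 := by exact_mod_cast Nat.card_pos.ne'
    rw [h3]
    field_simp
  -- integrality of `A`
  have hAmem : ∀ j χ, A (w j) χ ∈ CycAvg.Z p := by
    intro j χ
    have h1 : A (w j) χ = ∑ ψ : IrrCharacter (Cz x), coef x (χ : G → ℂ) (ψ : Cz x → ℂ) *
        classInner (fun h : Cz x => (ψ : Cz x → ℂ) (h ^ e)) (fun h : Cz x => g j (h : Cz x ⧸ Q)) := by
      simp only [A, w, val_expand, classInner]
      simp only [Finset.sum_mul, Finset.mul_sum]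
      rw [Finset.sum_comm]
      refine Finset.sum_congr rfl fun ψ _ => Finset.sum_congr rfl fun h _ => ?_
      ring
    rw [h1]
    refine (CycAvg.Z p).sum_mem fun ψ _ => (CycAvg.Z p).mul_mem (coef_mem (by rw [← hx, pow_orderOf_eq_one]) χ ψ) ?_
    have h2 : IsGeneralizedCharacter (Cz x) (fun h : Cz x => g j (h : Cz x ⧸ Q)) :=
      (hgen j).comp (QuotientGroup.mk' Q)
    obtain ⟨m, hm⟩ := (gen_pow hp he ψ).classInner_int h2
    rw [hm]
    exact intCast_mem _ m
  have hAsub : ∀ w w' χ, A (w - w') χ = A w χ - A w' χ := by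
    intro w w' χ
    simp only [A, Pi.sub_apply, mul_sub, Finset.sum_sub_distrib]
  have hA'sub : ∀ w w' χ, A' (w - w') χ = A' w χ - A' w' χ := by
    intro w w' χ
    simp only [A', Pi.sub_apply, mul_sub, Finset.sum_sub_distrib]
  have hw0 : w 0 = 0 := by funext h; simp [w, hg0]
  have hwn : w (n + 1) = 0 := by funext h; simp [w, hgn]
  have hA0 : ∀ χ, A 0 χ = 0 := by intro χ; simp [A]
  -- the value at `x` is a combination
  have hval : ∀ χ ∈ fs B0, (χ : G → ℂ) x = ∑ j ∈ Finset.range (n + 1), A (w j) χ * b j := by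
    let v : Cz x → ℂ := (fun h => if h = 1 then 1 else 0) - ∑ j ∈ Finset.range (n + 1), b j • w j
    have hv : ∀ χ, A v χ = (χ : G → ℂ) x - ∑ j ∈ Finset.range (n + 1), A (w j) χ * b j := by
      intro χ
      simp only [A, v, Pi.sub_apply, mul_sub, Finset.sum_sub_distrib, Finset.sum_apply, Pi.smul_apply, smul_eq_mul]
      congr 1
      · rw [Finset.sum_eq_single 1]
        · simp
        · intro h _ hh; simp [hh]
        · intro h; exact absurd (Finset.mem_univ _) h
      · simp only [Finset.mul_sum, Finset.sum_mul]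
        rw [Finset.sum_comm]
        refine Finset.sum_congr rfl fun j _ => Finset.sum_congr rfl fun h _ => ?_
        ring
    have hv' : ∀ μ, A' v μ = (μ : Cz x ⧸ Q → ℂ) 1 - ∑ j ∈ Finset.range (n + 1), A' (w j) μ * b j := by
      intro χ
      simp only [A', v, Pi.sub_apply, mul_sub, Finset.sum_sub_distrib, Finset.sum_apply, Pi.smul_apply, smul_eq_mul]
      congr 1
      · rw [Finset.sum_eq_single 1]
        · simp
        · intro h _ hh; simp [hh]
        · intro h; exact absurd (Finset.mem_univ _) h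
      · simp only [Finset.mul_sum, Finset.sum_mul]
        rw [Finset.sum_comm]
        refine Finset.sum_congr rfl fun j _ => Finset.sum_congr rfl fun h _ => ?_
        ring
    have h1 : ∑ χ ∈ fs B0, A v χ * conj (A v χ) = 0 := by
      rw [star, Finset.sum_eq_zero, mul_zero]
      intro μ hμ
      rw [hv', hone μ (mem_fs.1 hμ)]
      simp only [hA', sub_self, zero_mul]
    have h2 : ∑ χ ∈ fs B0, ‖A v χ‖ ^ 2 = 0 := by
      have h3 : ((∑ χ ∈ fs B0, ‖A v χ‖ ^ 2 : ℝ) : ℂ) = 0 := by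
        rw [← h1]
        push_cast
        refine Finset.sum_congr rfl fun χ _ => ?_
        rw [Complex.mul_conj, Complex.normSq_eq_norm_sq]
        push_cast; rfl
      exact_mod_cast h3
    intro χ hχ
    have h4 := (Finset.sum_eq_zero_iff_of_nonneg (fun χ _ => by positivity)).1 h2 χ hχ
    have h5 : A v χ = 0 := by
      rw [← norm_eq_zero]
      exact pow_eq_zero_iff (two_ne_zero) |>.1 h4
    rw [hv] at h5
    exact sub_eq_zero.1 h5
  -- the counting
  rw [card_eq_filter]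
  have htot : ∑ j ∈ Finset.range (n + 1), ∑ χ ∈ fs B0, (A (w (j + 1)) χ - A (w j) χ) *
      conj (A (w (j + 1)) χ - A (w j) χ) = ((2 * p * (fs BK).card : ℕ) : ℂ) := by
    have h1 : ∀ j ∈ Finset.range (n + 1), ∑ χ ∈ fs B0, (A (w (j + 1)) χ - A (w j) χ) *
        conj (A (w (j + 1)) χ - A (w j) χ) = (p : ℂ) * ∑ μ ∈ fs BK,
          (classInner (μ : Cz x ⧸ Q → ℂ) (g (j + 1)) - classInner (μ : Cz x ⧸ Q → ℂ) (g j)) *
          conj (classInner (μ : Cz x ⧸ Q → ℂ) (g (j + 1)) - classInner (μ : Cz x ⧸ Q → ℂ) (g j)) := by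
      intro j _
      have h2 := star (w (j + 1) - w j) (w (j + 1) - w j)
      simp only [hAsub, hA'sub, hA'] at h2
      exact h2
    rw [Finset.sum_congr rfl h1, ← Finset.mul_sum, Finset.sum_comm,
      Finset.sum_congr rfl (fun μ hμ => hsum2 μ (mem_fs.1 hμ)), Finset.sum_const, nsmul_eq_mul]
    push_cast; ring
  have hcount := count_le (fs B0)
    ((fs B0).filter fun χ : IrrCharacter G => ¬ p ∣ charDegree (χ : G → ℂ)) (Finset.filter_subset _ _)
    (N := p) (Finset.range (n + 1)) (fun j χ => A (w (j + 1)) χ - A (w j) χ)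
    (fun j _ χ _ => (CycAvg.Z p).sub_mem (hAmem _ _) (hAmem _ _)) _ htot 2 (by
      intro χ hχ
      rw [Finset.mem_filter] at hχ
      by_contra hlt
      rw [not_le] at hlt
      have htel : ∑ j ∈ Finset.range (n + 1), (A (w (j + 1)) χ - A (w j) χ) = 0 := by
        rw [Finset.sum_range_sub (fun j => A (w j) χ), hwn, hw0, hA0, sub_zero]
      have hall : ∀ j ∈ Finset.range (n + 1), A (w (j + 1)) χ - A (w j) χ = 0 := by
        rcases Nat.lt_succ_iff.1 hlt |>.lt_or_eq with h0 | h1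
        · rw [Nat.lt_one_iff, Finset.card_eq_zero, Finset.filter_eq_empty_iff] at h0
          intro j hj
          exact not_not.1 (h0 hj)
        · obtain ⟨j₀, hj₀⟩ := Finset.card_eq_one.1 h1
          have h2 : j₀ ∈ (Finset.range (n + 1)).filter (fun j => A (w (j + 1)) χ - A (w j) χ ≠ 0) := by
            rw [hj₀]; exact Finset.mem_singleton_self _
          rw [← Finset.sum_filter_ne_zero, hj₀, Finset.sum_singleton] at htel
          exact absurd htel (Finset.mem_filter.1 h2).2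
      have hz : ∀ j, j ≤ n + 1 → A (w j) χ = 0 := by
        intro j
        induction j with
        | zero => intro _; rw [hw0, hA0]
        | succ j ih =>
          intro hj
          have h3 := hall j (Finset.mem_range.2 (by omega))
          rw [ih (by omega), sub_zero] at h3
          exact h3
      apply value_ne_zero hM hxk hχ.2
      rw [hval χ hχ.1]
      refine Finset.sum_eq_zero fun j hj => ?_
      rw [hz j (by have := Finset.mem_range.1 hj; omega), zero_mul])
  have hBKcard : (fs BK).card ≤ p := by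
    refine le_trans (le_of_eq ?_) hcard
    rw [Nat.card_coe_set_eq, Set.ncard_eq_toFinset_card _ (Set.toFinite BK)]
  have h3 : 2 * ((fs B0).filter fun χ : IrrCharacter G => ¬ p ∣ charDegree (χ : G → ℂ)).card ≤ 2 * (p * p) := by
    refine hcount.trans ?_
    rw [mul_assoc]
    exact Nat.mul_le_mul_left 2 (Nat.mul_le_mul_left p hBKcard)
  rw [pow_two]
  exact Nat.le_of_mul_le_mul_left h3 two_pos

end Cfsg.Agent.Lib.K0Main
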