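import Cfsg.Agent.Lib.H25Inv
import Cfsg.Agent.Lib.H76Blk2
import Cfsg.Agent.Lib.H12Van
import Cfsg.Agent.Lib.K0Main
import Cfsg.Agent.Lib.H25BpM
import Cfsg.Agent.Lib.H25Nine

set_option autoImplicit false

/-!
# The principal block of a central extension (helper25)
-/

namespace Cfsg.Agent.Lib.H25InvC

open scoped ComplexConjugate
open Cfsg Cfsg.Agent.Lib Cfsg.Agent.Lib.CharBasic Cfsg.Agent.Lib.BlockRing Cfsg.Agent.Lib.BlockIdem
open Cfsg.Agent.Lib.BlockThird Cfsg.Agent.Lib.Subsec Cfsg.Agent.Lib.H76Blk2 Cfsg.Agent.Lib.H25Inv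
open Subgroup

universe u

section mu

variable {Γ : Type u} [Group Γ] {p : ℕ} {M : Ideal AlgInt} {z : Γ}

/-- the scalar by which a central element acts -/
noncomputable def mu (z : Γ) (χ : IrrCharacter Γ) : ℂ := (χ : Γ → ℂ) z / (χ : Γ → ℂ) 1

theorem mu_mul (hz : z ∈ center Γ) (χ : IrrCharacter Γ) (x : Γ) :
    (χ : Γ → ℂ) (z * x) = mu z χ * (χ : Γ → ℂ) x := by
  have h1 := H12Van.mul_central χ.2 hz x
  have h2 := χ.2.one_ne_zero
  rw [← Subgroup.mem_center_iff.1 hz x, mu, div_mul_eq_mul_div, eq_div_iff h2, h1, mul_comm]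

theorem mu_pow_mul (hz : z ∈ center Γ) (χ : IrrCharacter Γ) (k : ℕ) (x : Γ) :
    (χ : Γ → ℂ) (z ^ k * x) = mu z χ ^ k * (χ : Γ → ℂ) x := by
  induction k with
  | zero => simp
  | succ k ih => rw [pow_succ', mul_assoc, mu_mul hz, ih, pow_succ', mul_assoc]

theorem mu_pow (hz : z ∈ center Γ) (hzp : z ^ p = 1) (χ : IrrCharacter Γ) : mu z χ ^ p = 1 := by
  have h1 := mu_pow_mul hz χ p 1
  rw [hzp, mul_one] at h1
  have h2 := χ.2.one_ne_zero
  have h3 : (mu z χ ^ p - 1) * (χ : Γ → ℂ) 1 = 0 := by linear_combination -h1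
  rcases mul_eq_zero.1 h3 with h4 | h4
  · exact sub_eq_zero.1 h4
  · exact absurd h4 h2

end mu

open scoped Classical in
theorem fourier {ι : Type*} (S : Finset ι) (μ t : ι → ℂ) {p : ℕ} (hp : p.Prime)
    (hμ : ∀ i ∈ S, μ i ^ p = 1) (h0 : ∀ k < p, k ≠ 0 → ∑ i ∈ S, μ i ^ k * t i = 0) {ζ : ℂ} (hζ : ζ ^ p = 1) :
    (p : ℂ) * ∑ i ∈ S.filter (fun i => μ i = ζ), t i = ∑ i ∈ S, t i := by
  have hζ0 : ζ ≠ 0 := by
    rintro rfl
    rw [zero_pow hp.ne_zero] at hζ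
    exact zero_ne_one hζ
  have h1 : ∀ i ∈ S, ∑ k ∈ Finset.range p, (μ i * ζ⁻¹) ^ k = if μ i = ζ then (p : ℂ) else 0 := by
    intro i hi
    split_ifs with h
    · rw [h, mul_inv_cancel₀ hζ0]
      simp
    · have h2 : μ i * ζ⁻¹ ≠ 1 := by
        intro h3
        apply h
        rw [mul_inv_eq_one₀ hζ0] at h3
        exact h3
      rw [geom_sum_eq h2, mul_pow, hμ i hi, inv_pow, hζ, inv_one, mul_one, sub_self, zero_div]
  have h2 : ∑ i ∈ S, (∑ k ∈ Finset.range p, (μ i * ζ⁻¹) ^ k) * t i =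
      (p : ℂ) * ∑ i ∈ S.filter (fun i => μ i = ζ), t i := by
    rw [Finset.sum_filter, Finset.mul_sum]
    refine Finset.sum_congr rfl fun i hi => ?_
    rw [h1 i hi]
    split_ifs <;> simp
  rw [← h2]
  have h3 : ∑ i ∈ S, (∑ k ∈ Finset.range p, (μ i * ζ⁻¹) ^ k) * t i =
      ∑ k ∈ Finset.range p, (ζ⁻¹) ^ k * ∑ i ∈ S, μ i ^ k * t i := by
    simp only [Finset.sum_mul, Finset.mul_sum]
    rw [Finset.sum_comm]
    refine Finset.sum_congr rfl fun k _ => Finset.sum_congr rfl fun i _ => ?_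
    rw [mul_pow]
    ring
  rw [h3, Finset.sum_eq_single_of_mem 0 (Finset.mem_range.2 hp.pos)]
  · simp
  · intro k hk hk0
    rw [h0 k (Finset.mem_range.1 hk) hk0, mul_zero]

section main

variable {Γ : Type u} [Group Γ] [Finite Γ] {p : ℕ} [hp : Fact p.Prime] {M : Ideal AlgInt} {z : Γ}

open scoped Classical in
theorem orth (hM : IsPModular p M) (hz : z ∈ center Γ) (hord : orderOf z = p) {g h : Γ}
    (hg : ¬ p ∣ orderOf g) (hh : ¬ p ∣ orderOf h) {ζ : ℂ} (hζ : ζ ^ p = 1) :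
    (p : ℂ) * ∑ χ ∈ (fs (principalBlock M Γ)).filter (fun χ => mu z χ = ζ),
      (χ : Γ → ℂ) g * conj ((χ : Γ → ℂ) h) =
    ∑ χ ∈ fs (principalBlock M Γ), (χ : Γ → ℂ) g * conj ((χ : Γ → ℂ) h) := by
  have hzp : z ^ p = 1 := by rw [← hord]; exact pow_orderOf_eq_one z
  refine fourier (fs (principalBlock M Γ)) (mu z) (fun χ => (χ : Γ → ℂ) g * conj ((χ : Γ → ℂ) h)) hp.out
    (fun χ _ => mu_pow hz hzp χ) ?_ hζ
  intro k hk hk0
  have hne : z ^ k ≠ 1 := by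
    intro h1
    have h2 := orderOf_dvd_of_pow_eq_one h1
    rw [hord] at h2
    exact absurd (Nat.le_of_dvd (Nat.pos_of_ne_zero hk0) h2) (not_le.2 hk)
  have hordk : orderOf (z ^ k) = p ^ 1 := by
    rw [pow_one]
    refine orderOf_eq_prime ?_ hne
    rw [← pow_mul, mul_comm, pow_mul, hzp, one_pow]
  have hcm : ∀ x : Γ, Commute z x := fun x => (Subgroup.mem_center_iff.1 hz x).symm
  have h1 := BlockOrth.block_orthogonality hM (B := principalBlock M Γ) isPBlock_principal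
    (g := z ^ k * g) (h := h) (u := z ^ k) (v := 1)
    ⟨g, rfl, (hcm g).pow_left k, ⟨1, hordk⟩, hg⟩
    ⟨h, one_mul _, Commute.one_left _, ⟨0, by rw [orderOf_one, pow_zero]⟩, hh⟩
    (fun hc => hne (isConj_one_left.1 hc))
  rw [finsum_mem_eq_finite_toFinset_sum _ (Set.toFinite _)] at h1
  have h2 : (Set.toFinite (principalBlock M Γ)).toFinset = fs (principalBlock M Γ) := by
    ext χ
    simp
  rw [h2] at h1
  rw [← h1]
  refine Finset.sum_congr rfl fun χ _ => ?_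
  rw [mu_pow_mul hz, χ.2.inv, mul_assoc]

open scoped Classical in
theorem tri (hp2 : p ≠ 2) (hz : z ∈ center Γ) (hord : orderOf z = p) {τ g : Γ} (hτ : τ * τ = 1)
    (hg : ¬ p ∣ orderOf g) {ζ : ℂ} (hζ : ζ ^ p = 1) :
    (p : ℂ) * ∑ χ ∈ (Finset.univ : Finset (IrrCharacter Γ)).filter (fun χ => mu z χ = ζ),
      (χ : Γ → ℂ) τ ^ 2 * (χ : Γ → ℂ) g / (χ : Γ → ℂ) 1 =
    ∑ χ : IrrCharacter Γ, (χ : Γ → ℂ) τ ^ 2 * (χ : Γ → ℂ) g / (χ : Γ → ℂ) 1 := by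
  have := Fintype.ofFinite Γ
  have hzp : z ^ p = 1 := by rw [← hord]; exact pow_orderOf_eq_one z
  have hcm : ∀ x : Γ, Commute z x := fun x => (Subgroup.mem_center_iff.1 hz x).symm
  refine fourier Finset.univ (mu z) (fun χ : IrrCharacter Γ => (χ : Γ → ℂ) τ ^ 2 * (χ : Γ → ℂ) g / (χ : Γ → ℂ) 1)
    hp.out (fun χ _ => mu_pow hz hzp χ) ?_ hζ
  intro k hk hk0
  have h1 := H25Nine.sc_formula τ τ (z ^ k * g)⁻¹
  have h2 : ∀ a b : Γ, a * τ * a⁻¹ * (b * τ * b⁻¹) ≠ (z ^ k * g)⁻¹ := by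
    intro a b hab
    set U := a * τ * a⁻¹ with hU
    set V := b * τ * b⁻¹ with hV
    have hUU : U * U = 1 := by
      rw [hU]
      calc a * τ * a⁻¹ * (a * τ * a⁻¹) = a * (τ * τ) * a⁻¹ := by group
        _ = 1 := by rw [hτ]; group
    have hVV : V * V = 1 := by
      rw [hV]
      calc b * τ * b⁻¹ * (b * τ * b⁻¹) = b * (τ * τ) * b⁻¹ := by group
        _ = 1 := by rw [hτ]; group
    have hVi : V⁻¹ = V := inv_eq_of_mul_eq_one_left hVV
    have hUi : U⁻¹ = U := inv_eq_of_mul_eq_one_left hUU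
    have h3 : z ^ k * g = V * U := by
      have h4 := congrArg (·⁻¹) hab
      simp only [inv_inv, mul_inv_rev] at h4
      rw [hVi, hUi] at h4
      exact h4.symm
    have h4 : U * (z ^ k * g) * U⁻¹ = (z ^ k * g)⁻¹ := by
      rw [← hab, h3]
      group
    have hcz : Commute (z ^ k) U := (hcm U).pow_left k
    have h5 : U * g * U⁻¹ = (z ^ k)⁻¹ * (z ^ k)⁻¹ * g⁻¹ := by
      have h6 : z ^ k * (U * g * U⁻¹) = g⁻¹ * (z ^ k)⁻¹ := by
        rw [mul_inv_rev (z ^ k) g] at h4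
        rw [← h4]
        calc z ^ k * (U * g * U⁻¹) = (z ^ k * U) * g * U⁻¹ := by group
          _ = (U * z ^ k) * g * U⁻¹ := by rw [hcz.eq]
          _ = U * (z ^ k * g) * U⁻¹ := by group
      have h7 : g⁻¹ * (z ^ k)⁻¹ = (z ^ k)⁻¹ * g⁻¹ := by
        have := ((hcm g).pow_left k).inv_inv
        exact this.symm.eq
      rw [h7] at h6
      calc U * g * U⁻¹ = (z ^ k)⁻¹ * (z ^ k * (U * g * U⁻¹)) := by group
        _ = (z ^ k)⁻¹ * (z ^ k)⁻¹ * g⁻¹ := by rw [h6]; group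
    set m := orderOf g with hm
    have h6 : (U * g * U⁻¹) ^ m = 1 := by
      rw [conj_pow, hm, pow_orderOf_eq_one]; group
    have hcz2 : Commute ((z ^ k)⁻¹ * (z ^ k)⁻¹) g⁻¹ := by
      have h7 : Commute (z ^ k)⁻¹ g⁻¹ := ((hcm g).pow_left k).inv_inv
      exact h7.mul_left h7
    rw [h5, hcz2.mul_pow, inv_pow g m, hm, pow_orderOf_eq_one, inv_one, mul_one, ← mul_inv_rev, inv_pow,
      inv_eq_one, ← pow_add, ← pow_mul] at h6
    have h7 := orderOf_dvd_of_pow_eq_one h6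
    rw [hord] at h7
    rcases (Nat.Prime.dvd_mul hp.out).1 h7 with h8 | h8
    · have h9 : p ∣ 2 * k := by rwa [two_mul]
      rcases (Nat.Prime.dvd_mul hp.out).1 h9 with h10 | h10
      · exact hp2 ((Nat.prime_dvd_prime_iff_eq hp.out Nat.prime_two).1 h10)
      · exact absurd (Nat.le_of_dvd (Nat.pos_of_ne_zero hk0) h10) (not_le.2 hk)
    · exact hg h8
  have h3 : (∑ a : Γ, ∑ b : Γ, if a * τ * a⁻¹ * (b * τ * b⁻¹) = (z ^ k * g)⁻¹ then (1 : ℂ) else 0) = 0 :=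
    Finset.sum_eq_zero fun a _ => Finset.sum_eq_zero fun b _ => if_neg (h2 a b)
  rw [h3] at h1
  have hcard : (Nat.card Γ : ℂ) ≠ 0 := by exact_mod_cast Nat.card_pos.ne'
  have h4 := (mul_eq_zero.1 h1.symm).resolve_left hcard
  rw [← h4]
  refine Finset.sum_congr rfl fun χ _ => ?_
  have h5 : conj ((χ : Γ → ℂ) (z ^ k * g)⁻¹) = (χ : Γ → ℂ) (z ^ k * g) := by
    rw [χ.2.inv, Complex.conj_conj]
  rw [h5, mu_pow_mul hz]
  ring

open scoped Classical in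
/-- the difference of two slices of the class function of `tri`, block part -/
theorem tri_block (hp2 : p ≠ 2) (hM : IsPModular p M) (hz : z ∈ center Γ) (hord : orderOf z = p) {τ g : Γ}
    (hτ : τ * τ = 1) (hg : ¬ p ∣ orderOf g) {ζ : ℂ} (hζ : ζ ^ p = 1) :
    ∑ χ ∈ (fs (principalBlock M Γ)).filter (fun χ => mu z χ = ζ),
      (χ : Γ → ℂ) τ ^ 2 * (χ : Γ → ℂ) g / (χ : Γ → ℂ) 1 =
    ∑ χ ∈ (fs (principalBlock M Γ)).filter (fun χ => mu z χ = 1),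
      (χ : Γ → ℂ) τ ^ 2 * (χ : Γ → ℂ) g / (χ : Γ → ℂ) 1 := by
  have := Fintype.ofFinite Γ
  let c : IrrCharacter Γ → ℂ := fun χ => ((if mu z χ = ζ then 1 else 0) - (if mu z χ = 1 then 1 else 0)) *
    ((χ : Γ → ℂ) τ ^ 2 / (χ : Γ → ℂ) 1)
  let Θ : Γ → ℂ := ∑ χ : IrrCharacter Γ, c χ • (χ : Γ → ℂ)
  have hΘ : ∀ y : Γ, ¬ p ∣ orderOf y → Θ y = 0 := by
    intro y hy
    have h1 := tri hp2 hz hord hτ hy hζ
    have h2 := tri hp2 hz hord hτ hy (one_pow p)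
    have hp0 : (p : ℂ) ≠ 0 := by exact_mod_cast hp.out.ne_zero
    have h3 := mul_left_cancel₀ hp0 (h1.trans h2.symm)
    rw [Finset.sum_filter, Finset.sum_filter] at h3
    have h4 : Θ y = ∑ χ : IrrCharacter Γ, c χ * (χ : Γ → ℂ) y := by
      simp [Θ, Finset.sum_apply]
    rw [h4, ← sub_eq_zero.2 h3, ← Finset.sum_sub_distrib]
    refine Finset.sum_congr rfl fun χ _ => ?_
    simp only [c]
    split_ifs <;> ring
  have h1 := H25BpM.blockPart_preg hM (b := principalBlock M Γ) isPBlock_principal hg Θ 0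
    (fun y hy => by rw [hΘ y hy]; rfl)
  rw [blockPart_eq, blockPart_eq] at h1
  have h2 : ∀ χ : IrrCharacter Γ, classInner Θ (χ : Γ → ℂ) = c χ := fun χ => classInner_coeff_sum c χ
  have h3 : ∀ χ : IrrCharacter Γ, classInner (0 : Γ → ℂ) (χ : Γ → ℂ) = 0 := by
    intro χ
    rw [classInner_def]
    simp
  simp only [h2, h3, zero_mul, Finset.sum_const_zero] at h1
  rw [Finset.sum_filter, Finset.sum_filter, ← sub_eq_zero, ← Finset.sum_sub_distrib]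
  refine Eq.trans (Finset.sum_congr rfl fun χ _ => ?_) h1
  simp only [c]
  split_ifs <;> ring

omit [Finite Γ] hp in
theorem isPGroup_zpowers (hord : orderOf z = p) : IsPGroup p (zpowers z) := by
  refine IsPGroup.of_card (n := 1) ?_
  rw [Nat.card_zpowers, hord, pow_one]

omit [Finite Γ] hp in
theorem sup_top (hz : z ∈ center Γ) : zpowers z ⊔ centralizer (zpowers z : Set Γ) = ⊤ := by
  have h1 : centralizer (zpowers z : Set Γ) = ⊤ := by
    rw [eq_top_iff]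
    intro g _
    rw [mem_centralizer_iff]
    rintro _ ⟨k, rfl⟩
    have h2 : Commute z g := (Subgroup.mem_center_iff.1 hz g).symm
    exact (h2.zpow_left k).eq
  rw [h1, sup_top_eq]

omit hp in
open scoped Classical in
theorem sum_one (hM : IsPModular p M) (hz : z ∈ center Γ) (hord : orderOf z = p) [(zpowers z).Normal]
    (T : (Γ → ℂ) → ℂ) :
    ∑ χ ∈ (fs (principalBlock M Γ)).filter (fun χ => mu z χ = 1), T (χ : Γ → ℂ) =
      ∑ ξ ∈ fs (principalBlock M (Γ ⧸ zpowers z)), T (infl (zpowers z) ξ : Γ → ℂ) := by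
  symm
  refine Finset.sum_bij (fun ξ _ => infl (zpowers z) ξ) ?_ ?_ ?_ (fun _ _ => rfl)
  · intro ξ hξ
    rw [Finset.mem_filter]
    refine ⟨mem_fs.2 ((infl_mem_principal hM (isPGroup_zpowers hord) (sup_top hz)).2 (mem_fs.1 hξ)), ?_⟩
    rw [mu, infl_apply, infl_apply]
    have h1 : ((z : Γ) : Γ ⧸ zpowers z) = ((1 : Γ) : Γ ⧸ zpowers z) := by
      rw [QuotientGroup.mk_one, QuotientGroup.eq_one_iff]
      exact mem_zpowers z
    rw [h1]
    exact div_self ξ.2.one_ne_zero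
  · intro ξ _ ξ' _ h
    apply Subtype.ext
    funext x
    obtain ⟨g, rfl⟩ := QuotientGroup.mk_surjective x
    have h1 := congrArg (fun χ : IrrCharacter Γ => (χ : Γ → ℂ) g) h
    simpa only [infl_apply] using h1
  · intro χ hχ
    rw [Finset.mem_filter] at hχ
    have h1 : ∀ n ∈ zpowers z, (χ : Γ → ℂ) n = (χ : Γ → ℂ) 1 := by
      intro n hn
      obtain ⟨k, hk⟩ := (isOfFinOrder_of_finite z).mem_zpowers_iff_mem_range_orderOf.1 hn |> Finset.mem_image.1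
      have h2 := mu_pow_mul hz χ k 1
      rw [hχ.2, one_pow, one_mul, mul_one] at h2
      rw [← hk.2, h2]
    obtain ⟨ψ, hψ, hψ2⟩ := χ.2.deflate (zpowers z) h1
    have h3 : infl (zpowers z) ⟨ψ, hψ⟩ = χ := Subtype.ext (funext fun g => hψ2 g)
    refine ⟨⟨ψ, hψ⟩, ?_, h3⟩
    rw [mem_fs, ← infl_mem_principal hM (isPGroup_zpowers hord) (sup_top hz), h3]
    exact mem_fs.1 hχ.1

open scoped Classical in
/-- the characters of the principal block other than `1` and `E` -/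
noncomputable def rest (M : Ideal AlgInt) {G : Type u} [Group G] [Finite G] (E : IrrCharacter G) :
    Finset (IrrCharacter G) := ((fs (principalBlock M G)).erase (triv G)).erase E

open scoped Classical in
theorem mem_rest {G : Type u} [Group G] [Finite G] {E ξ : IrrCharacter G} :
    ξ ∈ rest M E ↔ ξ ≠ E ∧ ξ ≠ triv G ∧ ξ ∈ principalBlock M G := by
  rw [rest, Finset.mem_erase, Finset.mem_erase, mem_fs]

omit hp in
open scoped Classical in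
theorem Shape_sum {G : Type u} [Group G] [Finite G] (hM : IsPModular p M) {E : IrrCharacter G} {s δ : ℤ}
    (hS : Shape p M G E s δ) (T : IrrCharacter G → ℂ) :
    ∑ ξ ∈ fs (principalBlock M G), T ξ = T (triv G) + (T E + ∑ ξ ∈ rest M E, T ξ) := by
  have := isPrime hM
  rw [rest, Finset.add_sum_erase _ _ (Finset.mem_erase.2 ⟨hS.ne, mem_fs.2 hS.mem⟩),
    Finset.add_sum_erase _ _ (mem_fs.2 triv_mem)]

open scoped Classical in
theorem expand (hM : IsPModular p M) (hz : z ∈ center Γ) (hord : orderOf z = p) [(zpowers z).Normal]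
    {E : IrrCharacter (Γ ⧸ zpowers z)} {s δ : ℤ} (hS : Shape p M (Γ ⧸ zpowers z) E s δ)
    {χ : IrrCharacter Γ} (hχ : χ ∈ principalBlock M Γ) :
    ∃ u v : ℤ, ∀ g : Γ, ¬ p ∣ orderOf g →
      (χ : Γ → ℂ) g = u * (1 + s * (E : Γ ⧸ zpowers z → ℂ) (g : Γ ⧸ zpowers z)) + v := by
  have := Fintype.ofFinite Γ
  obtain ⟨e, f, he⟩ := PPart.exists_isRegExp p hp.out Γ
  have hgen := K0Main.gen_pow hp.out he χ
  obtain ⟨c, hc, -⟩ := hgen.exists_coeff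
  have hze : z ^ e = 1 := by
    apply he.pow_e_of_sing
    exact ⟨1, by rw [hord, pow_one]⟩
  have hcm : ∀ x : Γ, Commute z x := fun x => (Subgroup.mem_center_iff.1 hz x).symm
  -- vanishing coefficients
  have h0 : ∀ ψ : IrrCharacter Γ, mu z ψ ≠ 1 →
      classInner (fun h => (χ : Γ → ℂ) (h ^ e)) (ψ : Γ → ℂ) = 0 := by
    intro ψ hψ
    have h1 : ∑ g : Γ, (χ : Γ → ℂ) (g ^ e) * conj ((ψ : Γ → ℂ) g) =
        conj (mu z ψ) * ∑ g : Γ, (χ : Γ → ℂ) (g ^ e) * conj ((ψ : Γ → ℂ) g) := by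
      conv_lhs => rw [← Equiv.sum_comp (Equiv.mulLeft z)]
      rw [Finset.mul_sum]
      refine Finset.sum_congr rfl fun g _ => ?_
      rw [Equiv.coe_mulLeft, mu_mul hz, map_mul, (hcm g).mul_pow, hze, one_mul]
      ring
    have h2 : (1 - conj (mu z ψ)) * ∑ g : Γ, (χ : Γ → ℂ) (g ^ e) * conj ((ψ : Γ → ℂ) g) = 0 := by
      linear_combination h1
    rw [classInner_def]
    rcases mul_eq_zero.1 h2 with h3 | h3
    · exfalso
      apply hψ
      have h4 := congrArg conj (sub_eq_zero.1 h3).symm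
      rwa [Complex.conj_conj, map_one] at h4
    · rw [h3, mul_zero]
  -- the expansion
  have key : ∀ y : Γ, ¬ p ∣ orderOf y → (χ : Γ → ℂ) y =
      ∑ ψ ∈ (fs (principalBlock M Γ)).filter (fun ψ => mu z ψ = 1),
        classInner (fun h => (χ : Γ → ℂ) (h ^ e)) (ψ : Γ → ℂ) * (ψ : Γ → ℂ) y := by
    intro y hy
    have h1 := H25BpM.blockPart_preg hM (b := principalBlock M Γ) isPBlock_principal hy
      (χ : Γ → ℂ) (fun h => (χ : Γ → ℂ) (h ^ e)) (fun c hc => by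
        rw [he.pow_e_of_reg c hc])
    rw [blockPart_eq, blockPart_eq] at h1
    simp only [irr_orthonormal, ite_mul, one_mul, zero_mul] at h1
    rw [Finset.sum_ite_eq, if_pos (mem_fs.2 hχ)] at h1
    rw [h1, Finset.sum_filter]
    refine Finset.sum_congr rfl fun ψ _ => ?_
    split_ifs with h2
    · rfl
    · rw [h0 ψ h2, zero_mul]
  refine ⟨s * c (infl (zpowers z) E) + δ * ∑ ξ ∈ rest M E,
      c (infl (zpowers z) ξ), c (infl (zpowers z) (triv _)) - s * c (infl (zpowers z) E), ?_⟩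
  intro y hy
  rw [key y hy, sum_one hM hz hord
    (fun ψ => classInner (fun h => (χ : Γ → ℂ) (h ^ e)) ψ * ψ y), Shape_sum hM hS]
  simp only [hc, infl_apply]
  have h1 : ∀ ξ ∈ rest M E,
      (c (infl (zpowers z) ξ) : ℂ) * (ξ : Γ ⧸ zpowers z → ℂ) (y : Γ ⧸ zpowers z) =
      (δ * (1 + s * (E : Γ ⧸ zpowers z → ℂ) (y : Γ ⧸ zpowers z))) * c (infl (zpowers z) ξ) := by
    intro ξ hξ
    rw [mem_rest] at hξ
    rw [hS.val ξ hξ.2.2 hξ.2.1 hξ.1 _ (regular_mk hy), mul_comm]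
  rw [Finset.sum_congr rfl h1, ← Finset.mul_sum, coe_triv]
  have h2 : (s : ℂ) * s = 1 := by exact_mod_cast hS.s2
  push_cast
  linear_combination (-(c (infl (zpowers z) E) : ℂ) * (E : Γ ⧸ zpowers z → ℂ) (y : Γ ⧸ zpowers z)) * h2

end main

/-- the final equation -/
theorem final_eq {F x p1 p2 : ℂ} (hF0 : F ≠ 0) (hF1 : F - 1 ≠ 0) (h1 : p1 * F + 1 ≠ 0) (h2 : p2 * F + 1 ≠ 0)
    (hp : p1 + p2 = -1)
    (h : (p1 * x + 1) ^ 3 / (p1 * F + 1) + (p2 * x + 1) ^ 3 / (p2 * F + 1) +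
      (1 - p1 ^ 2 - p2 ^ 2) * (x ^ 3 / F) = 1 + (x - 1) ^ 3 / (F - 1)) :
    (F - x) ^ 3 * (p1 * p2 * (F - 2)) = 0 := by
  have hp2 : p2 = -1 - p1 := by linear_combination hp
  obtain ⟨a, ha⟩ : ∃ a, a = p1 * F + 1 := ⟨_, rfl⟩
  obtain ⟨b, hb⟩ : ∃ b, b = p2 * F + 1 := ⟨_, rfl⟩
  obtain ⟨c, hc⟩ : ∃ c, c = F - 1 := ⟨_, rfl⟩
  rw [← ha, ← hb, ← hc] at h
  rw [← ha] at h1
  rw [← hb] at h2
  rw [← hc] at hF1
  field_simp at h
  subst ha hb hc hp2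
  linear_combination (-1 : ℂ) * h

section two

variable {Γ : Type u} [Group Γ] [Finite Γ] {p : ℕ} [hp : Fact p.Prime] {M : Ideal AlgInt} {z : Γ}

theorem real_of_involution {G : Type u} [Group G] [Finite G] (χ : IrrCharacter G) {τ : G} (hτ : τ * τ = 1) :
    conj ((χ : G → ℂ) τ) = (χ : G → ℂ) τ := by
  rw [← χ.2.inv, inv_eq_of_mul_eq_one_left hτ]

open scoped Classical in
/-- three slices -/
theorem slice (hM : IsPModular p M) (hz : z ∈ center Γ) (hord : orderOf z = p) [(zpowers z).Normal]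
    {E : IrrCharacter (Γ ⧸ zpowers z)} {s δ : ℤ} (hS : Shape p M (Γ ⧸ zpowers z) E s δ) {ζ : ℂ} (hζ : ζ ^ p = 1)
    {g h : Γ} (hg : ¬ p ∣ orderOf g) (hh : ¬ p ∣ orderOf h) (hhh : h * h = 1) :
    ∑ χ ∈ (fs (principalBlock M Γ)).filter (fun χ => mu z χ = ζ), (χ : Γ → ℂ) g * (χ : Γ → ℂ) h =
      1 + ((1 + s * (E : Γ ⧸ zpowers z → ℂ) g) - 1) * ((1 + s * (E : Γ ⧸ zpowers z → ℂ) h) - 1) +
        ((rest M E).card : ℂ) * ((1 + s * (E : Γ ⧸ zpowers z → ℂ) g) * (1 + s * (E : Γ ⧸ zpowers z → ℂ) h)) := by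
  have hp0 : (p : ℂ) ≠ 0 := by exact_mod_cast hp.out.ne_zero
  have h1 := orth hM hz hord hg hh hζ
  have h2 := orth hM hz hord hg hh (one_pow p)
  have h3 := mul_left_cancel₀ hp0 (h1.trans h2.symm)
  have h4 : ∀ χ : IrrCharacter Γ, conj ((χ : Γ → ℂ) h) = (χ : Γ → ℂ) h := fun χ => real_of_involution χ hhh
  simp only [h4] at h3
  rw [h3, sum_one hM hz hord (fun χ => χ g * χ h), Shape_sum hM hS]
  simp only [infl_apply]
  have h5 : ∀ ξ ∈ rest M E, (ξ : Γ ⧸ zpowers z → ℂ) g * (ξ : Γ ⧸ zpowers z → ℂ) h =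
      (1 + s * (E : Γ ⧸ zpowers z → ℂ) g) * (1 + s * (E : Γ ⧸ zpowers z → ℂ) h) := by
    intro ξ hξ
    rw [mem_rest] at hξ
    rw [hS.val ξ hξ.2.2 hξ.2.1 hξ.1 _ (regular_mk hg), hS.val ξ hξ.2.2 hξ.2.1 hξ.1 _ (regular_mk hh)]
    have hd : (δ : ℂ) * δ = 1 := by exact_mod_cast hS.d2
    linear_combination ((1 + s * (E : Γ ⧸ zpowers z → ℂ) g) * (1 + s * (E : Γ ⧸ zpowers z → ℂ) h)) * hd
  rw [Finset.sum_congr rfl h5, Finset.sum_const, nsmul_eq_mul, coe_triv]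
  have hs : (s : ℂ) * s = 1 := by exact_mod_cast hS.s2
  linear_combination (-((E : Γ ⧸ zpowers z → ℂ) g) * (E : Γ ⧸ zpowers z → ℂ) h) * hs

theorem F_eq_two (hp2 : p ≠ 2) (hM : IsPModular p M) (hz : z ∈ center Γ) (hord : orderOf z = p)
    [(zpowers z).Normal] {E : IrrCharacter (Γ ⧸ zpowers z)} {s δ : ℤ}
    (hS : Shape p M (Γ ⧸ zpowers z) E s δ)
    (hlin : ∀ χ : IrrCharacter Γ, (χ : Γ → ℂ) 1 = 1 → (χ : Γ → ℂ) z = 1) {τ : Γ} (hτ : τ * τ = 1)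
    (hne : (E : Γ ⧸ zpowers z → ℂ) (τ : Γ ⧸ zpowers z) ≠ (E : Γ ⧸ zpowers z → ℂ) 1) :
    s = 1 ∧ (E : Γ ⧸ zpowers z → ℂ) 1 = 1 := by
  classical
  have hpp : p.Prime := hp.out
  have hp1 : ¬ p ∣ orderOf (1 : Γ) := by rw [orderOf_one, Nat.dvd_one]; exact hpp.one_lt.ne'
  have hpτ : ¬ p ∣ orderOf τ := by
    intro h1
    have h2 : orderOf τ ∣ 2 := orderOf_dvd_of_pow_eq_one (by rw [sq, hτ])
    exact hp2 ((Nat.prime_dvd_prime_iff_eq hpp Nat.prime_two).1 (h1.trans h2))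
  -- a nontrivial root of unity
  obtain ⟨ζ, hζ, hζ1⟩ : ∃ ζ : ℂ, ζ ^ p = 1 ∧ ζ ≠ 1 := by
    have hprim := Complex.isPrimitiveRoot_exp p hpp.ne_zero
    exact ⟨_, hprim.pow_eq_one, hprim.ne_one hpp.one_lt⟩
  set B := (fs (principalBlock M Γ)).filter (fun χ => mu z χ = ζ) with hB
  have hBmem : ∀ χ ∈ B, χ ∈ principalBlock M Γ ∧ mu z χ = ζ := by
    intro χ hχ
    rw [hB, Finset.mem_filter, mem_fs] at hχ
    exact hχ
  set F : ℂ := 1 + s * (E : Γ ⧸ zpowers z → ℂ) ((1 : Γ) : Γ ⧸ zpowers z) with hF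
  set x : ℂ := 1 + s * (E : Γ ⧸ zpowers z → ℂ) (τ : Γ ⧸ zpowers z) with hx
  have hs : (s : ℂ) * s = 1 := by exact_mod_cast hS.s2
  have hs0 : (s : ℂ) ≠ 0 := by
    intro h0
    rw [h0, mul_zero] at hs
    exact zero_ne_one hs
  have hδ : (δ : ℂ) * δ = 1 := by exact_mod_cast hS.d2
  have hδ0 : (δ : ℂ) ≠ 0 := by
    intro h0
    rw [h0, mul_zero] at hδ
    exact zero_ne_one hδ
  have hE1 : (E : Γ ⧸ zpowers z → ℂ) ((1 : Γ) : Γ ⧸ zpowers z) ≠ 0 := E.2.one_ne_zero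
  have hF0 : F ≠ 0 := hS.F_ne
  have hF1 : F - 1 ≠ 0 := by
    rw [hF, add_sub_cancel_left]
    exact mul_ne_zero hs0 hE1
  have hFx : F - x ≠ 0 := by
    rw [hF, hx]
    intro h0
    apply hne
    have h1 : (s : ℂ) * ((E : Γ ⧸ zpowers z → ℂ) (τ : Γ ⧸ zpowers z) -
        (E : Γ ⧸ zpowers z → ℂ) ((1 : Γ) : Γ ⧸ zpowers z)) = 0 := by linear_combination -h0
    have h2 := (mul_eq_zero.1 h1).resolve_left hs0
    exact sub_eq_zero.1 h2
  -- the coefficients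
  have hex : ∀ χ : IrrCharacter Γ, ∃ u v : ℤ, χ ∈ principalBlock M Γ → ∀ g : Γ, ¬ p ∣ orderOf g →
      (χ : Γ → ℂ) g = u * (1 + s * (E : Γ ⧸ zpowers z → ℂ) (g : Γ ⧸ zpowers z)) + v := by
    intro χ
    by_cases h1 : χ ∈ principalBlock M Γ
    · obtain ⟨u, v, h2⟩ := expand hM hz hord hS h1
      exact ⟨u, v, fun _ => h2⟩
    · exact ⟨0, 0, fun h => absurd h h1⟩
  choose u v huv using hex
  have v1 : ∀ χ ∈ B, (χ : Γ → ℂ) 1 = u χ * F + v χ := fun χ hχ => huv χ (hBmem χ hχ).1 1 hp1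
  have vτ : ∀ χ ∈ B, (χ : Γ → ℂ) τ = u χ * x + v χ := fun χ hχ => huv χ (hBmem χ hχ).1 τ hpτ
  have q11 := slice hM hz hord hS hζ hp1 hp1 (mul_one 1)
  have q1τ := slice hM hz hord hS hζ hp1 hpτ hτ
  have qττ := slice hM hz hord hS hζ hpτ hpτ hτ
  rw [← hB, ← hF] at q11 q1τ
  rw [← hx] at q1τ
  rw [← hB, ← hx] at qττ
  set r : ℂ := ((rest M E).card : ℂ) with hr
  set α : ℂ := ∑ χ ∈ B, (u χ : ℂ) ^ 2 with hα
  set β : ℂ := ∑ χ ∈ B, (u χ : ℂ) * v χ with hβ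
  set γ : ℂ := ∑ χ ∈ B, (v χ : ℂ) ^ 2 with hγ
  have w11 : ∑ χ ∈ B, (χ : Γ → ℂ) 1 * (χ : Γ → ℂ) 1 = α * (F * F) + β * (F + F) + γ := by
    rw [hα, hβ, hγ, Finset.sum_mul, Finset.sum_mul, ← Finset.sum_add_distrib, ← Finset.sum_add_distrib]
    refine Finset.sum_congr rfl fun χ hχ => ?_
    rw [v1 χ hχ]; ring
  have w1τ : ∑ χ ∈ B, (χ : Γ → ℂ) 1 * (χ : Γ → ℂ) τ = α * (F * x) + β * (F + x) + γ := by
    rw [hα, hβ, hγ, Finset.sum_mul, Finset.sum_mul, ← Finset.sum_add_distrib, ← Finset.sum_add_distrib]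
    refine Finset.sum_congr rfl fun χ hχ => ?_
    rw [v1 χ hχ, vτ χ hχ]; ring
  have wττ : ∑ χ ∈ B, (χ : Γ → ℂ) τ * (χ : Γ → ℂ) τ = α * (x * x) + β * (x + x) + γ := by
    rw [hα, hβ, hγ, Finset.sum_mul, Finset.sum_mul, ← Finset.sum_add_distrib, ← Finset.sum_add_distrib]
    refine Finset.sum_congr rfl fun χ hχ => ?_
    rw [vτ χ hχ]; ring
  rw [w11] at q11
  rw [w1τ] at q1τ
  rw [wττ] at qττ
  have e1 : (F - x) * ((α - (r + 1)) * F + (β + 1)) = 0 := by linear_combination q11 - q1τ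
  have e2 : (F - x) * ((α - (r + 1)) * x + (β + 1)) = 0 := by linear_combination q1τ - qττ
  have e1' := (mul_eq_zero.1 e1).resolve_left hFx
  have e2' := (mul_eq_zero.1 e2).resolve_left hFx
  have e3 : (F - x) * (α - (r + 1)) = 0 := by linear_combination e1' - e2'
  have eα : α = r + 1 := sub_eq_zero.1 ((mul_eq_zero.1 e3).resolve_left hFx)
  have eβ : β = -1 := by linear_combination e1' - F * eα
  have eγ : γ = 2 := by linear_combination q11 - (F * F) * eα - (F + F) * eβ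
  have zγ : ∑ χ ∈ B, v χ ^ 2 = 2 := by
    have : ((∑ χ ∈ B, v χ ^ 2 : ℤ) : ℂ) = ((2 : ℤ) : ℂ) := by
      push_cast
      exact eγ
    exact_mod_cast this
  obtain ⟨c₁, hc₁, c₂, hc₂, hc, k₁, k₂, k₃⟩ := H25Star.two_support zγ
  have hβ' := H25Star.inner_two (g := u) hc₁ hc₂ hc k₃
  have hβ'' : v c₁ * u c₁ + v c₂ * u c₂ = -1 := by
    have h1 : ((∑ χ ∈ B, v χ * u χ : ℤ) : ℂ) = ((-1 : ℤ) : ℂ) := by
      push_cast
      rw [← eβ, hβ]
      exact Finset.sum_congr rfl fun χ _ => mul_comm _ _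
    have h2 : ∑ χ ∈ B, v χ * u χ = -1 := by exact_mod_cast h1
    rw [← hβ', h2]
  -- the identity for the third powers
  have t1 := tri_block hp2 hM hz hord hτ hpτ hζ
  rw [← hB, sum_one hM hz hord (fun χ => χ τ ^ 2 * χ τ / χ 1), Shape_sum hM hS] at t1
  simp only [infl_apply] at t1
  have t2 : ∀ ξ ∈ rest M E, (ξ : Γ ⧸ zpowers z → ℂ) (τ : Γ ⧸ zpowers z) ^ 2 *
      (ξ : Γ ⧸ zpowers z → ℂ) (τ : Γ ⧸ zpowers z) / (ξ : Γ ⧸ zpowers z → ℂ) ((1 : Γ) : Γ ⧸ zpowers z) =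
      x ^ 3 / F := by
    intro ξ hξ
    rw [mem_rest] at hξ
    rw [hS.val ξ hξ.2.2 hξ.2.1 hξ.1 _ (regular_mk hpτ), hS.val ξ hξ.2.2 hξ.2.1 hξ.1 _ (regular_mk hp1),
      ← hx, ← hF, div_eq_div_iff (mul_ne_zero hδ0 hF0) hF0]
    linear_combination (δ * x ^ 3 * F) * hδ
  rw [Finset.sum_congr rfl t2, Finset.sum_const, nsmul_eq_mul, ← hr, coe_triv] at t1
  have t3 : (E : Γ ⧸ zpowers z → ℂ) (τ : Γ ⧸ zpowers z) ^ 2 *
      (E : Γ ⧸ zpowers z → ℂ) (τ : Γ ⧸ zpowers z) / (E : Γ ⧸ zpowers z → ℂ) ((1 : Γ) : Γ ⧸ zpowers z) =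
      (x - 1) ^ 3 / (F - 1) := by
    rw [div_eq_div_iff hE1 hF1, hx, hF]
    linear_combination (-(s : ℂ) * (E : Γ ⧸ zpowers z → ℂ) (τ : Γ ⧸ zpowers z) ^ 3 *
      (E : Γ ⧸ zpowers z → ℂ) ((1 : Γ) : Γ ⧸ zpowers z)) * hs
  rw [t3] at t1
  -- left-hand side
  have hχ1 : ∀ χ ∈ B, (u χ : ℂ) * F + v χ ≠ 0 := fun χ hχ => by
    rw [← v1 χ hχ]; exact χ.2.one_ne_zero
  have t4 : ∀ χ ∈ B, (χ : Γ → ℂ) τ ^ 2 * (χ : Γ → ℂ) τ / (χ : Γ → ℂ) 1 =
      (u χ * x + v χ) ^ 3 / (u χ * F + v χ) := by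
    intro χ hχ
    rw [v1 χ hχ, vτ χ hχ, ← pow_succ]
  rw [Finset.sum_congr rfl t4] at t1
  have hc₂' : c₂ ∈ B.erase c₁ := Finset.mem_erase.2 ⟨hc.symm, hc₂⟩
  rw [← Finset.add_sum_erase B _ hc₁, ← Finset.add_sum_erase (B.erase c₁) _ hc₂'] at t1
  have t5 : ∀ χ ∈ (B.erase c₁).erase c₂, ((u χ : ℂ) * x + v χ) ^ 3 / (u χ * F + v χ) =
      (u χ : ℂ) ^ 2 * (x ^ 3 / F) := by
    intro χ hχ
    rw [Finset.mem_erase, Finset.mem_erase] at hχ
    have h0 := k₃ χ hχ.2.2 hχ.2.1 hχ.1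
    have h1 := hχ1 χ hχ.2.2
    rw [h0, Int.cast_zero, add_zero] at h1 ⊢
    rw [add_zero]
    have hu : (u χ : ℂ) ≠ 0 := left_ne_zero_of_mul h1
    field_simp
  rw [Finset.sum_congr rfl t5, ← Finset.sum_mul] at t1
  have t6 : α = (u c₁ : ℂ) ^ 2 + ((u c₂ : ℂ) ^ 2 + ∑ χ ∈ (B.erase c₁).erase c₂, (u χ : ℂ) ^ 2) := by
    rw [hα, Finset.add_sum_erase (B.erase c₁) (fun χ => (u χ : ℂ) ^ 2) hc₂',
      Finset.add_sum_erase B (fun χ => (u χ : ℂ) ^ 2) hc₁]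
  -- normal form of the two terms
  have t7 : ∀ c ∈ B, v c ^ 2 = 1 → ((v c * u c : ℤ) : ℂ) * F + 1 ≠ 0 ∧
      ((u c : ℂ) * x + v c) ^ 3 / (u c * F + v c) =
        (((v c * u c : ℤ) : ℂ) * x + 1) ^ 3 / (((v c * u c : ℤ) : ℂ) * F + 1) := by
    intro c hcB hv
    have hvc : (v c : ℂ) ^ 2 = 1 := by exact_mod_cast hv
    have hv0 : (v c : ℂ) ≠ 0 := by
      intro h0
      rw [h0] at hvc
      norm_num at hvc
    have h1 : ((v c * u c : ℤ) : ℂ) * F + 1 = v c * (u c * F + v c) := by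
      push_cast
      linear_combination -hvc
    have h2 : ((v c * u c : ℤ) : ℂ) * x + 1 = v c * (u c * x + v c) := by
      push_cast
      linear_combination -hvc
    refine ⟨by rw [h1]; exact mul_ne_zero hv0 (hχ1 c hcB), ?_⟩
    rw [h1, h2, div_eq_div_iff (hχ1 c hcB) (mul_ne_zero hv0 (hχ1 c hcB))]
    linear_combination (-(v c : ℂ) * (u c * x + v c) ^ 3 * (u c * F + v c)) * hvc
  obtain ⟨n₁, m₁⟩ := t7 c₁ hc₁ k₁
  obtain ⟨n₂, m₂⟩ := t7 c₂ hc₂ k₂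
  have hpsum : ((v c₁ * u c₁ : ℤ) : ℂ) + ((v c₂ * u c₂ : ℤ) : ℂ) = -1 := by exact_mod_cast hβ''
  have hsq : ∀ c, v c ^ 2 = 1 → (((v c * u c : ℤ) : ℂ)) ^ 2 = (u c : ℂ) ^ 2 := by
    intro c hv
    have hvc : (v c : ℂ) ^ 2 = 1 := by exact_mod_cast hv
    push_cast
    linear_combination ((u c : ℂ) ^ 2) * hvc
  have hfin := final_eq hF0 hF1 n₁ n₂ hpsum (x := x) (by
    rw [← m₁, ← m₂, hsq _ k₁, hsq _ k₂]
    have t8 : ∑ χ ∈ (B.erase c₁).erase c₂, (u χ : ℂ) ^ 2 = r + 1 - (u c₁ : ℂ) ^ 2 - (u c₂ : ℂ) ^ 2 := by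
      linear_combination eα - t6
    rw [t8] at t1
    linear_combination t1)
  have hfin' := (mul_eq_zero.1 hfin).resolve_left (pow_ne_zero 3 hFx)
  -- neither factor vanishes
  have hnz : ∀ c ∈ B, v c ^ 2 = 1 → ((v c * u c : ℤ) : ℂ) ≠ 0 := by
    intro c hcB hv h0
    have h1 : v c * u c = 0 := by exact_mod_cast h0
    have hv0 : v c ≠ 0 := by
      rintro h2
      rw [h2] at hv
      norm_num at hv
    have hu : u c = 0 := (mul_eq_zero.1 h1).resolve_left hv0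
    have h2 := v1 c hcB
    rw [hu, Int.cast_zero, zero_mul, zero_add] at h2
    obtain ⟨n, hn0, hn⟩ := c.2.exists_degree
    have h3 : (v c : ℤ) = n := by
      rw [hn] at h2
      exact_mod_cast h2.symm
    have h4 : (c : Γ → ℂ) 1 = 1 := by
      rw [h3] at hv
      have h5 : (n : ℤ) = 1 := by nlinarith
      rw [hn]
      exact_mod_cast h5
    have h5 := hlin c h4
    have h6 := (hBmem c hcB).2
    rw [mu, h4, h5, div_one] at h6
    exact hζ1 h6.symm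
  have hF2 : F = 2 := by
    rcases mul_eq_zero.1 hfin' with h1 | h1
    · rcases mul_eq_zero.1 h1 with h2 | h2
      · exact absurd h2 (hnz c₁ hc₁ k₁)
      · exact absurd h2 (hnz c₂ hc₂ k₂)
    · exact sub_eq_zero.1 h1
  obtain ⟨n, hn0, hn⟩ := E.2.exists_degree
  have hn' : (E : Γ ⧸ zpowers z → ℂ) ((1 : Γ) : Γ ⧸ zpowers z) = n := hn
  rw [hF, hn'] at hF2
  have h1 : 1 + s * (n : ℤ) = 2 := by exact_mod_cast hF2
  have h2 : s * (n : ℤ) = 1 := by omega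
  have h3 : s = 1 ∨ s = -1 := by
    have h4 : (s - 1) * (s + 1) = 0 := by linear_combination hS.s2
    rcases mul_eq_zero.1 h4 with h5 | h5
    · left; omega
    · right; omega
  rcases h3 with h3 | h3
  · rw [h3, one_mul] at h2
    refine ⟨h3, ?_⟩
    rw [hn]
    exact_mod_cast h2
  · rw [h3] at h2
    omega

end two

end Cfsg.Agent.Lib.H25InvC
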