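import Cfsg.Agent.Lib.H25InvC
import Cfsg.Agent.Lib.H25Ext
import Cfsg.Agent.Lib.H76Char
import Cfsg.Agent.Lib.PLengthOne
import Cfsg.Agent.Lib.FusionControl
import Cfsg.Agent.Lib.Fitting
import Cfsg.Agent.S0938

set_option autoImplicit false

/-!
# Abelian Sylow subgroups inverted by their normaliser (helper25)
-/

namespace Cfsg.Agent.Lib.H25InvD

open scoped ComplexConjugate
open Cfsg Cfsg.Agent.Lib Cfsg.Agent.Lib.CharBasic Cfsg.Agent.Lib.BlockRing Cfsg.Agent.Lib.BlockIdem
open Cfsg.Agent.Lib.BlockThird Cfsg.Agent.Lib.Subsec Cfsg.Agent.Lib.H25Inv Cfsg.Agent.Lib.H25InvC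
open Subgroup

universe u

section basic

variable {G : Type u} [Group G] {p : ℕ} {P : Subgroup G}

theorem Inv.equiv {G' : Type u} [Group G'] (e : G' ≃* G) (h : Inv p P) : Inv p (P.comap e.toMonoidHom) where
  syl := by
    obtain ⟨Q, hQ⟩ := h.syl
    have hei : Function.Injective e.toMonoidHom := fun a b hab => e.injective hab
    refine ⟨Q.comapOfInjective e.toMonoidHom hei ?_, ?_⟩
    · intro x _
      obtain ⟨y, hy⟩ := e.surjective x
      exact ⟨y, hy⟩
    · rw [← hQ]
      rfl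
  comm x hx y hy := e.injective (by
    rw [map_mul, map_mul]
    exact h.comm _ hx _ hy)
  norm n hn := by
    have h1 : ∀ x ∈ P, e n * x * (e n)⁻¹ ∈ P := by
      intro x hx
      have h2 := hn (e.symm x) (by
        show e (e.symm x) ∈ P
        rwa [e.apply_symm_apply])
      have h3 : e (n * e.symm x * n⁻¹) ∈ P := h2
      rwa [map_mul, map_mul, map_inv, e.apply_symm_apply] at h3
    rcases h.norm _ h1 with h2 | h2
    · left
      intro x hx
      apply e.injective
      rw [map_mul, map_mul, map_inv]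
      exact h2 _ hx
    · right
      intro x hx
      apply e.injective
      rw [map_mul, map_mul, map_inv, map_inv]
      exact h2 _ hx
  inv := by
    obtain ⟨t, ht⟩ := h.inv
    refine ⟨e.symm t, ?_⟩
    intro x hx
    apply e.injective
    rw [map_mul, map_mul, map_inv, map_inv, e.apply_symm_apply]
    exact ht _ hx

/-- passage to the quotient by a normal `p'`-subgroup -/
theorem Inv.quotient [Finite G] [hp : Fact p.Prime] (h : Inv p P) (N : Subgroup G) [hN : N.Normal] :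
    Inv p (P.map (QuotientGroup.mk' N)) where
  syl := by
    obtain ⟨Q, hQ⟩ := h.syl
    refine ⟨Q.mapSurjective (QuotientGroup.mk'_surjective N), ?_⟩
    rw [Sylow.coe_mapSurjective, hQ]
  comm := by
    rintro _ ⟨x, hx, rfl⟩ _ ⟨y, hy, rfl⟩
    rw [← map_mul, ← map_mul, h.comm x hx y hy]
  norm := by
    intro n' hn'
    obtain ⟨n, rfl⟩ := QuotientGroup.mk'_surjective N n'
    obtain ⟨Q, hQ⟩ := h.syl
    have h1 : (Q : Subgroup G) ≤ N ⊔ P := by rw [hQ]; exact le_sup_right
    have h2 : ((n • Q : Sylow p G) : Subgroup G) ≤ N ⊔ P := by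
      rintro - ⟨q, hq, rfl⟩
      show n * q * n⁻¹ ∈ N ⊔ P
      have hqP : q ∈ P := by rw [← hQ]; exact hq
      obtain ⟨y, hy, hy2⟩ := hn' _ (mem_map_of_mem _ hqP)
      rw [← map_inv, ← map_mul, ← map_mul] at hy2
      have h3 : n * q * n⁻¹ * y⁻¹ ∈ N := by
        rw [← QuotientGroup.ker_mk' N, MonoidHom.mem_ker, map_mul, ← hy2, map_inv, mul_inv_cancel]
      have h4 : n * q * n⁻¹ = (n * q * n⁻¹ * y⁻¹) * y := by group
      rw [h4]
      exact mul_mem_sup h3 hy
    obtain ⟨c, hc⟩ := MulAction.exists_smul_eq (N ⊔ P : Subgroup G) ((n • Q).subtype h2) (Q.subtype h1)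
    rw [Sylow.smul_subtype] at hc
    have h3' := Sylow.subtype_injective hc
    rw [Subgroup.smul_def, smul_smul] at h3'
    have h3 := Sylow.smul_eq_iff_mem_normalizer.mp h3'
    have hQs : (Q : Set G) = (P : Set G) := by rw [← hQ]; rfl
    rw [hQs] at h3
    have h4 : ∀ x ∈ P, ((c : G) * n) * x * ((c : G) * n)⁻¹ ∈ P := fun x hx => (mem_normalizer_iff.1 h3 x).1 hx
    obtain ⟨k, hk, y, hy, hky⟩ := mem_sup_of_normal_left.1 c.2
    have hcm : QuotientGroup.mk' N (c : G) = QuotientGroup.mk' N y := by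
      rw [← hky, map_mul]
      have : QuotientGroup.mk' N k = 1 := by
        rw [← MonoidHom.mem_ker, QuotientGroup.ker_mk']; exact hk
      rw [this, one_mul]
    -- `c` acts trivially on the image
    have h5 : ∀ x ∈ P, QuotientGroup.mk' N ((c : G) * n * x * ((c : G) * n)⁻¹) =
        QuotientGroup.mk' N (n * x * n⁻¹) := by
      intro x hx
      obtain ⟨w, hw, hw2⟩ := hn' _ (mem_map_of_mem _ hx)
      rw [← map_inv, ← map_mul, ← map_mul] at hw2
      have h6 : (c : G) * n * x * ((c : G) * n)⁻¹ = c * (n * x * n⁻¹) * (c : G)⁻¹ := by group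
      rw [h6, map_mul, map_mul, map_inv, hcm, ← hw2, ← map_mul, h.comm y hy w hw, map_mul, mul_inv_cancel_right]
    rcases h.norm _ h4 with h6 | h6
    · left
      rintro _ ⟨x, hx, rfl⟩
      rw [← map_inv, ← map_mul, ← map_mul, ← h5 x hx, h6 x hx]
    · right
      rintro _ ⟨x, hx, rfl⟩
      rw [← map_inv, ← map_mul, ← map_mul, ← h5 x hx, h6 x hx, map_inv]
  inv := by
    obtain ⟨t, ht⟩ := h.inv
    refine ⟨QuotientGroup.mk' N t, ?_⟩
    rintro _ ⟨x, hx, rfl⟩
    rw [← map_inv, ← map_mul, ← map_mul, ht x hx, map_inv]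

/-- the situation of the statement -/
theorem Inv.of_index [Finite G] [hp : Fact p.Prime] (Q : Sylow p G)
    (hab : IsMulCommutative (Q : Subgroup G)) (hres : pResidual p G = ⊤)
    (hidx : ((centralizer ((Q : Subgroup G) : Set G)).subgroupOf (normalizer ((Q : Subgroup G) : Set G))).index = 2) :
    Inv p (Q : Subgroup G) := by
  have hcomm : ∀ x ∈ (Q : Subgroup G), ∀ y ∈ (Q : Subgroup G), x * y = y * x := by
    intro x hx y hy
    exact congrArg Subtype.val (hab.is_comm.comm (⟨x, hx⟩ : (Q : Subgroup G)) ⟨y, hy⟩)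
  set N := normalizer ((Q : Subgroup G) : Set G) with hN
  set C := centralizer ((Q : Subgroup G) : Set G) with hC
  have hCN : C ≤ N := centralizer_le_normalizer _
  have hne : C.subgroupOf N ≠ ⊤ := by
    intro h
    rw [h, index_top] at hidx
    norm_num at hidx
  obtain ⟨t, ht⟩ : ∃ t : N, t ∉ C.subgroupOf N := by
    by_contra hcon
    push Not at hcon
    exact hne (eq_top_iff.2 fun x _ => hcon x)
  have htC : (t : G) ∉ C := ht
  have hcase : ∀ n : G, n ∈ N → n ∈ C ∨ n * (t : G)⁻¹ ∈ C := by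
    intro n hn
    by_cases h1 : n ∈ C
    · exact Or.inl h1
    · right
      have h2 := (Subgroup.mul_mem_iff_of_index_two hidx (a := ⟨n, hn⟩) (b := t⁻¹)).2 (by
        constructor
        · intro h3; exact absurd h3 h1
        · intro h3; exact absurd ((inv_mem_iff).1 h3) ht)
      exact h2
  have hnx : ∀ n ∈ N, ∀ x ∈ (Q : Subgroup G), n * x * n⁻¹ ∈ (Q : Subgroup G) := fun n hn x hx =>
    (mem_normalizer_iff.1 hn x).1 hx
  have hCx : ∀ n ∈ C, ∀ x ∈ (Q : Subgroup G), n * x * n⁻¹ = x := by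
    intro n hn x hx
    rw [← mem_centralizer_iff.1 hn x hx, mul_inv_cancel_right]
  -- all elements outside `C` act like `t`
  have hact : ∀ n ∈ N, n ∉ C → ∀ x ∈ (Q : Subgroup G), n * x * n⁻¹ = t * x * (t : G)⁻¹ := by
    intro n hn hnC x hx
    have h1 := (hcase n hn).resolve_left hnC
    have h2 := hCx _ h1 (t * x * (t : G)⁻¹) (hnx t t.2 x hx)
    rw [← h2]
    group
  have htt : ∀ x ∈ (Q : Subgroup G), t * (t * x * (t : G)⁻¹) * (t : G)⁻¹ = x := by
    intro x hx
    have h1 : (t : G) * t ∈ C := by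
      have h2 := (Subgroup.mul_mem_iff_of_index_two hidx (a := t) (b := t)).2 Iff.rfl
      exact h2
    have h2 := hCx _ h1 x hx
    rw [mul_inv_rev] at h2
    conv_rhs => rw [← h2]
    group
  let L : Subgroup G :=
    { carrier := {y | y ∈ (Q : Subgroup G) ∧ t * y * (t : G)⁻¹ = y⁻¹}
      mul_mem' := by
        rintro a b ⟨ha, ha2⟩ ⟨hb, hb2⟩
        refine ⟨mul_mem ha hb, ?_⟩
        rw [hcomm a ha b hb, mul_inv_rev, ← ha2, ← hb2, ← hcomm _ (hnx t t.2 b hb) _ (hnx t t.2 a ha)]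
        group
      one_mem' := ⟨one_mem _, by group⟩
      inv_mem' := by
        rintro a ⟨ha, ha2⟩
        refine ⟨inv_mem ha, ?_⟩
        calc (t : G) * a⁻¹ * (t : G)⁻¹ = (t * a * (t : G)⁻¹)⁻¹ := by group
          _ = (a⁻¹)⁻¹ := by rw [ha2] }
  have hL : ⁅(Q : Subgroup G), N⁆ ≤ L := by
    rw [commutator_le]
    intro x hx n hn
    rw [commutatorElement_def]
    by_cases hnC : n ∈ C
    · have h1 : x * n * x⁻¹ * n⁻¹ = 1 := by
        have h2 := hCx n hnC x⁻¹ (inv_mem hx)
        calc x * n * x⁻¹ * n⁻¹ = x * (n * x⁻¹ * n⁻¹) := by group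
          _ = 1 := by rw [h2, mul_inv_cancel]
      rw [h1]
      exact one_mem _
    · have h1 : x * n * x⁻¹ * n⁻¹ = x * (t * x⁻¹ * (t : G)⁻¹) := by
        rw [← hact n hn hnC x⁻¹ (inv_mem hx)]
        group
      rw [h1]
      have h3 := hnx t t.2 x⁻¹ (inv_mem hx)
      refine ⟨mul_mem hx h3, ?_⟩
      have h4 := htt x⁻¹ (inv_mem hx)
      calc (t : G) * (x * (t * x⁻¹ * (t : G)⁻¹)) * (t : G)⁻¹ =
          (t * x * (t : G)⁻¹) * (t * (t * x⁻¹ * (t : G)⁻¹) * (t : G)⁻¹) := by group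
        _ = (t * x * (t : G)⁻¹) * x⁻¹ := by rw [h4]
        _ = (x * (t * x⁻¹ * (t : G)⁻¹))⁻¹ := by group
  have htinv : ∀ x ∈ (Q : Subgroup G), t * x * (t : G)⁻¹ = x⁻¹ := by
    intro x hx
    have h1 := FusionControl.abelian_inf_pResidual_eq Q hab
    rw [hres, inf_top_eq] at h1
    have h2 : x ∈ L := by
      apply hL
      have h3 := hx
      rw [h1] at h3
      exact h3
    exact h2.2
  refine ⟨⟨Q, rfl⟩, hcomm, ?_, ⟨t, htinv⟩⟩
  intro n hn
  have hnN : n ∈ N := by
    have h1 : n • Q = Q := by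
      apply Sylow.ext
      apply Subgroup.eq_of_le_of_card_ge
      · rintro - ⟨q, hq, rfl⟩
        exact hn q hq
      · exact (Nat.card_congr (Sylow.equiv Q (n • Q)).toEquiv).le
    exact Sylow.smul_eq_iff_mem_normalizer.1 h1
  by_cases hnC : n ∈ C
  · left
    exact fun x hx => hCx n hnC x hx
  · right
    intro x hx
    rw [hact n hnN hnC x hx, htinv x hx]

end basic

section main

variable {G : Type u} [Group G] [Finite G] {p : ℕ} [hp : Fact p.Prime] {P : Subgroup G}

/-- an involution in a group with an inverted Sylow subgroup -/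
theorem two_dvd_card (h : Inv p P) (hp2 : p ≠ 2) (hP : P ≠ ⊥) : 2 ∣ Nat.card G := by
  obtain ⟨t, ht⟩ := h.inv
  obtain ⟨x, hx, hx1⟩ := P.bot_or_exists_ne_one.resolve_left hP
  by_contra h2
  have hodd : Odd (orderOf t) := by
    rw [← Nat.not_even_iff_odd]
    intro he
    exact h2 ((even_iff_two_dvd.1 he).trans (orderOf_dvd_natCard t))
  have h1 : ∀ k : ℕ, (∀ y ∈ P, t ^ (2 * k) * y * (t ^ (2 * k))⁻¹ = y) := by
    intro k
    induction k with
    | zero => intro y _; simp
    | succ k ih =>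
      intro y hy
      have h3 : t ^ (2 * (k + 1)) = t ^ (2 * k) * t * t := by rw [mul_add, mul_one, pow_add, sq, mul_assoc]
      have h4 : t * y⁻¹ * t⁻¹ = y := by
        have := ht y⁻¹ (inv_mem hy)
        rwa [inv_inv] at this
      have h5 : t * t * y * (t * t)⁻¹ = y := by
        calc t * t * y * (t * t)⁻¹ = t * (t * y * t⁻¹) * t⁻¹ := by group
          _ = t * y⁻¹ * t⁻¹ := by rw [ht y hy]
          _ = y := h4
      rw [h3]
      calc t ^ (2 * k) * t * t * y * (t ^ (2 * k) * t * t)⁻¹ =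
          t ^ (2 * k) * (t * t * y * (t * t)⁻¹) * (t ^ (2 * k))⁻¹ := by group
        _ = y := by rw [h5, ih y hy]
  obtain ⟨k, hk⟩ := hodd
  have h3 : t ^ (2 * k) * t = 1 := by rw [← pow_succ, ← hk, pow_orderOf_eq_one]
  have h4 : x = x⁻¹ := by
    have h5 := h1 k (t * x * t⁻¹) (by rw [ht x hx]; exact inv_mem hx)
    have h6 : t ^ (2 * k) * (t * x * t⁻¹) * (t ^ (2 * k))⁻¹ = x := by
      calc t ^ (2 * k) * (t * x * t⁻¹) * (t ^ (2 * k))⁻¹ = (t ^ (2 * k) * t) * x * (t ^ (2 * k) * t)⁻¹ := by group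
        _ = x := by rw [h3]; group
    rw [h6, ht x hx] at h5
    exact h5
  exact hx1 (h.sq_eq_one hp2 hx h4)

/-- If `O_{p'}(G) = 1` then `P` is normal. -/
theorem normal_of_inv (h : Inv p P) (hp2 : p ≠ 2) (hnc : ¬ IsCyclic P)
    (hO : ∀ N : Subgroup G, N.Normal → ¬ p ∣ Nat.card N → N = ⊥) : P.Normal := by
  classical
  obtain ⟨M, hM⟩ := H76Char.exists_isPModular p
  have := isPrime hM
  have hpp : p.Prime := hp.out
  obtain ⟨Γ, _, _, φ, z, hφ, hz, hord, hker, hlin⟩ := H25Ext.exists_ext h hnc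
  have hnorm : (zpowers z).Normal := by rw [← hker]; infer_instance
  let e : Γ ⧸ zpowers z ≃* G :=
    (QuotientGroup.quotientMulEquivOfEq hker.symm).trans (QuotientGroup.quotientKerEquivOfSurjective φ hφ)
  have h' := Inv.equiv e h
  set P' := P.comap e.toMonoidHom with hP'
  have hmem' : ∀ x, x ∈ P' ↔ e x ∈ P := fun x => Iff.rfl
  have hcardP : Nat.card P' = Nat.card P := by
    refine Nat.card_congr ⟨fun x => ⟨e x, x.2⟩, fun y => ⟨e.symm y, ?_⟩, ?_, ?_⟩
    · rw [hmem', e.apply_symm_apply]; exact y.2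
    · intro x
      apply Subtype.ext
      exact e.symm_apply_apply x
    · intro y
      apply Subtype.ext
      exact e.apply_symm_apply y
  have h9 : 9 ≤ Nat.card P := by
    obtain ⟨k, hk⟩ := h.card
    have h3 : 3 ≤ p := by
      have := hpp.two_le
      omega
    have hk2 : 2 ≤ k := by
      by_contra hcon
      apply hnc
      have h4 : k = 0 ∨ k = 1 := by omega
      rcases h4 with rfl | rfl
      · rw [pow_zero] at hk
        have := (Nat.card_eq_one_iff_unique.1 hk).1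
        exact isCyclic_of_subsingleton
      · rw [pow_one] at hk
        exact isCyclic_of_prime_card hk
    rw [hk]
    calc 9 = 3 ^ 2 := by norm_num
      _ ≤ p ^ 2 := Nat.pow_le_pow_left h3 2
      _ ≤ p ^ k := Nat.pow_le_pow_right hpp.pos hk2
  have hPbot : P ≠ ⊥ := by
    intro h0
    rw [h0, card_bot] at h9
    norm_num at h9
  obtain ⟨E, s, δ, hS⟩ := h'.shape hp2 hM (by rw [hcardP]; exact h9)
  -- no normal `p'`-subgroups in the quotient
  have hO' : ∀ N : Subgroup (Γ ⧸ zpowers z), N.Normal → ¬ p ∣ Nat.card N → N = ⊥ := by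
    intro N hN hNc
    have h1 := hO (N.map e.toMonoidHom) (hN.map _ e.surjective) (by
      rwa [← Nat.card_congr (N.equivMapOfInjective e.toMonoidHom (fun a b hab => e.injective hab)).toEquiv])
    rw [Subgroup.map_eq_bot_iff] at h1
    rw [eq_bot_iff]
    intro x hx
    have h2 := h1 hx
    rw [MonoidHom.mem_ker] at h2
    exact mem_bot.2 (e.injective (h2.trans (map_one e).symm))
  obtain ⟨K, hK1, hK2, hK3, -, -⟩ := Cfsg.Agent.S0938.result p M hM
    (principalBlock M (Γ ⧸ zpowers z)) isPBlock_principal (triv _) triv_mem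
  have hKbot := hO' K hK1 hK3
  have hfaith : ∀ g : Γ ⧸ zpowers z, (∀ χ ∈ principalBlock M (Γ ⧸ zpowers z),
      (χ : Γ ⧸ zpowers z → ℂ) g = (χ : Γ ⧸ zpowers z → ℂ) 1) → g = 1 := by
    intro g hg
    have h1 : g ∈ (K : Set (Γ ⧸ zpowers z)) := by rw [hK2]; exact hg
    rw [SetLike.mem_coe, hKbot, mem_bot] at h1
    exact h1
  have hp1 : ¬ p ∣ orderOf (1 : Γ ⧸ zpowers z) := by
    rw [orderOf_one, Nat.dvd_one]; exact hpp.one_lt.ne'
  have hfaith2 : ∀ g : Γ ⧸ zpowers z, ¬ p ∣ orderOf g →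
      (E : Γ ⧸ zpowers z → ℂ) g = (E : Γ ⧸ zpowers z → ℂ) 1 → g = 1 := by
    intro g hg hEg
    apply hfaith
    intro χ hχ
    by_cases h1 : χ = triv _
    · rw [h1]
      rfl
    · by_cases h2 : χ = E
      · rw [h2, hEg]
      · rw [hS.val χ hχ h1 h2 g hg, hS.val χ hχ h1 h2 1 hp1, hEg]
  -- an involution
  have h2 : 2 ∣ Nat.card Γ := by
    refine (two_dvd_card h hp2 hPbot).trans ?_
    exact Subgroup.card_dvd_of_surjective φ hφ
  have : Fact (Nat.Prime 2) := ⟨Nat.prime_two⟩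
  obtain ⟨τ, hτ⟩ := exists_prime_orderOf_dvd_card' 2 h2
  have hττ : τ * τ = 1 := by rw [← sq, ← hτ, pow_orderOf_eq_one]
  have hτZ : τ ∉ zpowers z := by
    intro h3
    have h4 := orderOf_dvd_of_mem_zpowers h3
    rw [hτ, hord] at h4
    exact hp2 ((Nat.prime_dvd_prime_iff_eq Nat.prime_two hpp).1 h4).symm
  have hτreg : ¬ p ∣ orderOf τ := by
    rw [hτ]
    intro h3
    exact hp2 ((Nat.prime_dvd_prime_iff_eq hpp Nat.prime_two).1 h3)
  have hne : (E : Γ ⧸ zpowers z → ℂ) (τ : Γ ⧸ zpowers z) ≠ (E : Γ ⧸ zpowers z → ℂ) 1 := by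
    intro h3
    have h4 := hfaith2 _ (H76Blk2.regular_mk hτreg) h3
    exact hτZ ((QuotientGroup.eq_one_iff _).1 h4)
  obtain ⟨hs1, hE1⟩ := F_eq_two hp2 hM hz hord hS hlin hττ hne
  -- the kernel of `E`
  obtain ⟨f, hf⟩ := E.2.isCharacter.exists_hom hE1
  have hEker : ∀ g, g ∈ f.ker ↔ (E : Γ ⧸ zpowers z → ℂ) g = 1 := by
    intro g
    rw [MonoidHom.mem_ker, hf]
    constructor
    · intro h0
      rw [h0, Units.val_one]
    · intro h0
      exact Units.ext h0
  have hkp : IsPGroup p f.ker := by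
    rw [IsPGroup.iff_orderOf]
    intro g
    obtain ⟨a, b, he⟩ := PPart.exists_isRegExp p hpp (Γ ⧸ zpowers z)
    have h3 : (g : Γ ⧸ zpowers z) ^ a = 1 := by
      apply hfaith2 _ (he.reg g)
      rw [hE1, hf, map_pow]
      have h4 : f g = 1 := g.2
      rw [h4, one_pow, Units.val_one]
    have h4 : (g : Γ ⧸ zpowers z) ^ b = g := by
      have h5 := he.pow_add g
      rw [pow_add, h3, one_mul] at h5
      exact h5
    obtain ⟨k, hk⟩ := he.sing (g : Γ ⧸ zpowers z)
    rw [h4, Subgroup.orderOf_coe] at hk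
    exact ⟨k, hk⟩
  have hPk : P' ≤ f.ker := by
    intro x hx
    rw [hEker]
    obtain ⟨t, ht⟩ := h'.inv
    have h3 : (E : Γ ⧸ zpowers z → ℂ) x⁻¹ = (E : Γ ⧸ zpowers z → ℂ) x := by
      rw [← ht x hx]
      exact E.2.isClassFunction _ _
    have h4 : (E : Γ ⧸ zpowers z → ℂ) x * (E : Γ ⧸ zpowers z → ℂ) x = 1 := by
      nth_rw 2 [← h3]
      rw [← E.2.isCharacter.map_mul_of_linear hE1, mul_inv_cancel, hE1]
    obtain ⟨k, hk⟩ := h'.order hx
    have hodd : Odd (orderOf x) := by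
      rw [hk]; exact (hpp.odd_of_ne_two hp2).pow
    obtain ⟨m, hm⟩ := hodd
    have h5 : (E : Γ ⧸ zpowers z → ℂ) x ^ orderOf x = 1 := by
      rw [hf, ← Units.val_pow_eq_pow_val, ← map_pow, pow_orderOf_eq_one, map_one, Units.val_one]
    rw [hm, pow_succ, pow_mul, sq, h4, one_pow, one_mul] at h5
    exact h5
  have heq : P' = f.ker := by
    obtain ⟨Q, hQ⟩ := h'.syl
    rw [← hQ] at hPk ⊢
    exact (Q.3 hkp hPk).symm
  have hn : P'.Normal := by rw [heq]; infer_instance
  constructor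
  intro x hx g
  have h3 := hn.conj_mem (e.symm x) (by rw [hmem', e.apply_symm_apply]; exact hx) (e.symm g)
  rw [hmem', map_mul, map_mul, map_inv, e.apply_symm_apply, e.apply_symm_apply] at h3
  exact h3

/-- the theorem -/
theorem main (hp2 : p ≠ 2) (Q : Sylow p G) (hab : IsMulCommutative (Q : Subgroup G))
    (hnc : ¬ IsCyclic (Q : Subgroup G))
    (hidx : ((centralizer ((Q : Subgroup G) : Set G)).subgroupOf (normalizer ((Q : Subgroup G) : Set G))).index = 2)
    (hres : pResidual p G = ⊤) : PLengthLE p 1 G := by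
  have h := Inv.of_index Q hab hres hidx
  have hn := Fitting.normal_pPrimeCore p (G := G)
  have hcop := Fitting.coprime_card_pPrimeCore (p := p) (G := G)
  have hnd : ¬ p ∣ Nat.card (pPrimeCore p G) := (Nat.Prime.coprime_iff_not_dvd hp.out).1 hcop.symm
  have h' := Inv.quotient h (pPrimeCore p G)
  -- the image of `Q` is isomorphic to `Q`
  have hinj : Function.Injective ((QuotientGroup.mk' (pPrimeCore p G)).comp (Q : Subgroup G).subtype) := by
    rw [injective_iff_map_eq_one]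
    intro x hx
    have h1 : (x : G) ∈ pPrimeCore p G := by
      rw [← QuotientGroup.ker_mk' (pPrimeCore p G)]
      exact hx
    obtain ⟨k, hk⟩ := IsPGroup.iff_orderOf.mp Q.2 x
    have h2 : orderOf (x : G) ∣ Nat.card (pPrimeCore p G) := by
      have := orderOf_dvd_natCard (⟨x, h1⟩ : pPrimeCore p G)
      rwa [Subgroup.orderOf_mk] at this
    rw [Subgroup.orderOf_coe, hk] at h2
    have h3 : k = 0 := by
      by_contra hk0
      exact hnd ((dvd_pow_self p hk0).trans h2)
    rw [h3, pow_zero, orderOf_eq_one_iff] at hk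
    exact hk
  have hnc' : ¬ IsCyclic ((Q : Subgroup G).map (QuotientGroup.mk' (pPrimeCore p G))) := by
    intro hc
    apply hnc
    have h1 : (Q : Subgroup G).map (QuotientGroup.mk' (pPrimeCore p G)) =
        ((QuotientGroup.mk' (pPrimeCore p G)).comp (Q : Subgroup G).subtype).range := by
      rw [MonoidHom.range_comp, Subgroup.range_subtype]
    rw [h1] at hc
    exact isCyclic_of_injective (MonoidHom.rangeRestrict _) (fun a b hab => hinj (congrArg Subtype.val hab))
  have hbot := Fitting.pPrimeCore_quotient_pPrimeCore (p := p) (G := G)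
  have hnormal := normal_of_inv h' hp2 hnc' (by
    intro N hN hNc
    rw [eq_bot_iff, ← hbot]
    exact Fitting.le_pPrimeCore p hN ((Nat.Prime.coprime_iff_not_dvd hp.out).2 hNc).symm)
  apply PLengthOne.pLengthLE_of_quotient hnd
  apply PLengthOne.PL1Data.pLengthLE (N := ⊥) (K := (Q : Subgroup G).map (QuotientGroup.mk' (pPrimeCore p G)))
  refine ⟨inferInstance, hnormal, bot_le, ?_, ?_, ?_⟩
  · rw [card_bot, Nat.dvd_one]; exact hp.out.one_lt.ne'
  · rintro _ ⟨x, hx, rfl⟩
    obtain ⟨k, hk⟩ := Q.2 ⟨x, hx⟩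
    refine ⟨k, ?_⟩
    rw [← map_pow]
    have h1 : x ^ p ^ k = 1 := congrArg Subtype.val hk
    rw [h1, map_one]
    exact one_mem _
  · obtain ⟨R, hR⟩ := h'.syl
    rw [← hR]
    exact R.not_dvd_index

end main

end Cfsg.Agent.Lib.H25InvD
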