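import Mathlib
import Cfsg.Agent.Lib.H25Nine
import Cfsg.Agent.Lib.BlockDeg

/-!
# Self-centralizing TI elementary abelian Sylow 3-subgroups of order 9 (helper25)
-/

set_option autoImplicit false
set_option linter.all false

namespace Cfsg.Agent.Lib.H25Nine

open Cfsg Cfsg.Agent.Lib.CharBasic Cfsg.Agent.Lib.StructConst
open scoped ComplexConjugate Pointwise

universe u

variable {G : Type u} [Group G]

theorem TIS.index_mod [Finite G] {S : Subgroup G} (h : TIS S) :
    ∃ k : ℕ, (Subgroup.normalizer (S : Set G)).index + Nat.card S = Nat.card S * k + 1 := by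
  classical
  have := Fintype.ofFinite G
  set N := Subgroup.normalizer (S : Set G) with hN
  have := Fintype.ofFinite S
  have : Fintype (G ⧸ N) := Fintype.ofFinite _
  have hb := MulAction.sum_card_fixedBy_eq_card_orbits_mul_card_group S (G ⧸ N)
  refine ⟨Fintype.card (Quotient (MulAction.orbitRel S (G ⧸ N))), ?_⟩
  rw [mul_comm, Nat.card_eq_fintype_card, ← hb]
  rw [← Finset.add_sum_erase _ _ (Finset.mem_univ (1 : S))]
  have h1 : Fintype.card (MulAction.fixedBy (G ⧸ N) (1 : S)) = N.index := by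
    rw [Subgroup.index_eq_card, Nat.card_eq_fintype_card]
    apply Fintype.card_congr
    apply (Equiv.subtypeUnivEquiv _)
    intro x
    rw [MulAction.mem_fixedBy, one_smul]
  have h2 : ∀ s ∈ Finset.univ.erase (1 : S), Fintype.card (MulAction.fixedBy (G ⧸ N) s) = 1 := by
    intro s hs
    have hs1 : (s : G) ≠ 1 := by
      intro hc
      exact (Finset.mem_erase.mp hs).1 (Subtype.ext hc)
    rw [Fintype.card_eq_one_iff]
    have hsN : (s : G) ∈ N := Subgroup.le_normalizer s.2
    refine ⟨⟨((1 : G) : G ⧸ N), ?_⟩, ?_⟩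
    · rw [MulAction.mem_fixedBy]
      show (((s : G) * 1 : G) : G ⧸ N) = ((1 : G) : G ⧸ N)
      rw [mul_one, QuotientGroup.eq]
      simpa using hsN
    · rintro ⟨x, hx⟩
      apply Subtype.ext
      induction x using QuotientGroup.induction_on with
      | H g =>
        rw [MulAction.mem_fixedBy] at hx
        have hx' : (((s : G) * g : G) : G ⧸ N) = (g : G ⧸ N) := hx
        rw [QuotientGroup.eq] at hx'
        show (g : G ⧸ N) = ((1 : G) : G ⧸ N)
        rw [eq_comm, QuotientGroup.eq]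
        simp only [inv_one, one_mul]
        have h3 : g⁻¹ * (s : G)⁻¹ * g ∈ N := by
          have : ((s : G) * g)⁻¹ * g = g⁻¹ * (s : G)⁻¹ * g := by group
          rwa [this] at hx'
        have h4 : g⁻¹ * (s : G)⁻¹ * g ∈ S := by
          apply h.mem_of_pow h3
          have := conj_pow (a := g⁻¹) (b := (s : G)⁻¹) (i := 3)
          simp only [inv_inv] at this
          rw [this, inv_pow, h.exp s s.2]
          group
        have h5 : g⁻¹ ∈ N := by
          apply h.ti (inv_mem s.2)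
          · simpa using hs1
          · rwa [inv_inv]
        simpa using inv_mem h5
  rw [h1, Finset.sum_congr rfl h2, Finset.sum_const, Finset.card_erase_of_mem (Finset.mem_univ _),
    Finset.card_univ]
  have : 0 < Fintype.card S := Fintype.card_pos
  simp only [smul_eq_mul, mul_one]
  omega

/-- the hypotheses -/
structure Nine (S : Subgroup G) : Prop extends TIS S where
  card : Nat.card S = 9
  cent' : ∀ s ∈ S, s ≠ 1 → Subgroup.centralizer ({s} : Set G) = S

namespace Nine

variable {S : Subgroup G} [Finite G]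

theorem card_orbit (h : Nine S) {a : G} (ha : a ∈ S) (ha1 : a ≠ 1) :
    Nat.card {u : S // IsConj a (u : G)} * 9 = Nat.card (Subgroup.normalizer (S : Set G)) := by
  classical
  have := Fintype.ofFinite G
  have := Fintype.ofFinite S
  have h1 : ∑ u : S, (∑ p : G, if p * a * p⁻¹ = (u : G) then (1 : ℂ) else 0) =
      (Nat.card (Subgroup.normalizer (S : Set G)) : ℂ) := by
    rw [Finset.sum_comm]
    have e : ∀ p : G, (∑ u : S, if p * a * p⁻¹ = (u : G) then (1 : ℂ) else 0) =
        if p ∈ Subgroup.normalizer (S : Set G) then 1 else 0 := by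
      intro p
      by_cases hp : p ∈ Subgroup.normalizer (S : Set G)
      · have hp' : p * a * p⁻¹ ∈ S := (Subgroup.mem_normalizer_iff.mp hp a).mp ha
        rw [if_pos hp, Finset.sum_eq_single (⟨p * a * p⁻¹, hp'⟩ : S)]
        · rw [if_pos rfl]
        · intro u _ hu
          rw [if_neg]
          intro hc
          exact hu (Subtype.ext hc.symm)
        · intro hc
          exact absurd (Finset.mem_univ _) hc
      · rw [if_neg hp]
        apply Finset.sum_eq_zero
        intro u _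
        rw [if_neg]
        intro hc
        apply hp
        apply h.ti ha ha1
        rw [hc]
        exact u.2
    rw [Finset.sum_congr rfl (fun p _ => e p), Finset.sum_boole]
    congr 1
    rw [Nat.card_eq_fintype_card, Fintype.card_subtype]
  simp only [cnt_eq, h.cent' a ha ha1, h.card] at h1
  rw [← Finset.sum_filter, Finset.sum_const, nsmul_eq_mul] at h1
  have h2 : Nat.card {u : S // IsConj a (u : G)} = (Finset.univ.filter fun u : S => IsConj a (u : G)).card := by
    rw [Nat.card_eq_fintype_card, Fintype.card_subtype]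
  rw [h2]
  exact_mod_cast h1

theorem order3 (h : Nine S) {a : G} (ha : a ∈ S) (ha1 : a ≠ 1) : orderOf a = 3 :=
  orderOf_eq_prime (h.exp a ha) ha1

/-- an involution of the normalizer inverts `S` -/
theorem inverts (h : Nine S) (he : 2 ∣ Nat.card (Subgroup.normalizer (S : Set G))) {s : G}
    (hs : s ∈ S) : IsConj s s⁻¹ := by
  have hf : Fact (Nat.Prime 2) := ⟨Nat.prime_two⟩
  obtain ⟨t, ht⟩ := exists_prime_orderOf_dvd_card' 2 he
  have ht2 : orderOf (t : G) = 2 := by rw [← ht]; exact Subgroup.orderOf_coe t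
  have htt : (t : G) * t = 1 := by
    have := pow_orderOf_eq_one (t : G)
    rw [ht2, sq] at this
    exact this
  have hts : (t : G) * s * (t : G)⁻¹ ∈ S := (Subgroup.mem_normalizer_iff.mp t.2 s).mp hs
  set r := s * ((t : G) * s * (t : G)⁻¹) with hr
  have hrS : r ∈ S := mul_mem hs hts
  have htr : (t : G) * r = r * t := by
    have e1 : (t : G) * r * (t : G)⁻¹ = r := by
      calc (t : G) * r * (t : G)⁻¹ = ((t : G) * s * (t : G)⁻¹) * (((t : G) * t) * s * ((t : G) * t)⁻¹) := by
            rw [hr]; group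
        _ = ((t : G) * s * (t : G)⁻¹) * s := by rw [htt]; group
        _ = r := by rw [h.comm _ hts _ hs]
    calc (t : G) * r = (t : G) * r * (t : G)⁻¹ * t := by group
      _ = r * t := by rw [e1]
  have hr1 : r = 1 := by
    by_contra hr1
    have h1 : (t : G) ∈ Subgroup.centralizer ({r} : Set G) := by
      rw [Subgroup.mem_centralizer_singleton_iff]; exact htr
    rw [h.cent' r hrS hr1] at h1
    have h2 := h.exp _ h1
    have h3 : orderOf (t : G) ∣ 3 := orderOf_dvd_of_pow_eq_one h2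
    rw [ht2] at h3
    omega
  rw [isConj_iff]
  refine ⟨t, ?_⟩
  rw [eq_inv_iff_mul_eq_one, h.comm _ hts _ hs]
  exact hr1

/-- coordinates -/
noncomputable def co (a c : G) (p : ZMod 3 × ZMod 3) : G := a ^ p.1.val * c ^ p.2.val

omit [Finite G] in
theorem pow_val_add {a : G} (ha : a ^ 3 = 1) (x y : ZMod 3) : a ^ (x + y).val = a ^ x.val * a ^ y.val := by
  rw [ZMod.val_add, ← pow_add, ← pow_mod_orderOf, ← pow_mod_orderOf a (x.val + y.val)]
  congr 1
  exact Nat.mod_mod_of_dvd _ (orderOf_dvd_of_pow_eq_one ha)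

theorem co_add (h : Nine S) {a c : G} (ha : a ∈ S) (hc : c ∈ S) (p q : ZMod 3 × ZMod 3) :
    co a c (p + q) = co a c p * co a c q := by
  unfold co
  rw [Prod.fst_add, Prod.snd_add, pow_val_add (h.exp a ha), pow_val_add (h.exp c hc)]
  have := h.comm _ (pow_mem ha q.1.val) _ (pow_mem hc p.2.val)
  calc a ^ p.1.val * a ^ q.1.val * (c ^ p.2.val * c ^ q.2.val) =
      a ^ p.1.val * (a ^ q.1.val * c ^ p.2.val) * c ^ q.2.val := by group
    _ = a ^ p.1.val * (c ^ p.2.val * a ^ q.1.val) * c ^ q.2.val := by rw [this]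
    _ = _ := by group

theorem co_mem (h : Nine S) {a c : G} (ha : a ∈ S) (hc : c ∈ S) (p : ZMod 3 × ZMod 3) : co a c p ∈ S :=
  mul_mem (pow_mem ha _) (pow_mem hc _)

omit [Finite G] in
theorem co_zero (a c : G) : co a c 0 = 1 := by simp [co]

theorem co_neg (h : Nine S) {a c : G} (ha : a ∈ S) (hc : c ∈ S) (p : ZMod 3 × ZMod 3) :
    co a c (-p) = (co a c p)⁻¹ := by
  rw [eq_inv_iff_mul_eq_one, ← h.co_add ha hc, neg_add_cancel, co_zero]

theorem co_sub (h : Nine S) {a c : G} (ha : a ∈ S) (hc : c ∈ S) (p q : ZMod 3 × ZMod 3) :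
    (co a c p)⁻¹ * co a c q = co a c (q - p) := by
  rw [sub_eq_neg_add, h.co_add ha hc, h.co_neg ha hc]

omit [Finite G] in
theorem co_10 (a c : G) : co a c (1, 0) = a := by
  have : (1 : ZMod 3).val = 1 := rfl
  simp [co, this]

omit [Finite G] in
theorem co_01 (a c : G) : co a c (0, 1) = c := by
  have : (1 : ZMod 3).val = 1 := rfl
  simp [co, this]

theorem co_inj (h : Nine S) {a c : G} (ha : a ∈ S) (hc : c ∈ S) (ha1 : a ≠ 1)
    (hca : c ∉ Subgroup.zpowers a) : Function.Injective (co a c) := by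
  have key : ∀ p, co a c p = 1 → p = 0 := by
    rintro ⟨i, j⟩ hp
    have hp' : a ^ i.val * c ^ j.val = 1 := hp
    have hj : j = 0 := by
      by_contra hj
      apply hca
      have h1 : c ^ j.val = a⁻¹ ^ i.val := by
        rw [inv_pow]; exact eq_inv_of_mul_eq_one_right hp'
      have h2 : c ^ j.val ∈ Subgroup.zpowers a := by
        rw [h1]
        exact pow_mem (inv_mem (Subgroup.mem_zpowers a)) _
      have h3 : (c ^ j.val) ^ j.val = c := by
        rw [← pow_mul]
        have hc3 := h.exp c hc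
        have : j.val * j.val = 1 ∨ j.val * j.val = 4 := by
          have h4 := ZMod.val_lt j
          have h5 : j.val ≠ 0 := by
            intro h6
            exact hj ((ZMod.val_eq_zero j).mp h6)
          have : j.val = 1 ∨ j.val = 2 := by omega
          rcases this with h6 | h6 <;> rw [h6] <;> simp
        rcases this with h6 | h6 <;> rw [h6]
        · exact pow_one c
        · rw [show (4 : ℕ) = 3 + 1 from rfl, pow_succ, hc3, one_mul]
      rw [← h3]
      exact pow_mem h2 _
    have hi : i = 0 := by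
      rw [hj, ZMod.val_zero, pow_zero, mul_one] at hp'
      have h1 := orderOf_dvd_of_pow_eq_one hp'
      rw [h.order3 ha ha1] at h1
      have h2 := ZMod.val_lt i
      have h3 : i.val = 0 := Nat.eq_zero_of_dvd_of_lt h1 h2
      exact (ZMod.val_eq_zero i).mp h3
    rw [hi, hj]; rfl
  intro p q hpq
  have h1 := h.co_sub ha hc p q
  rw [hpq, inv_mul_cancel] at h1
  have := key _ h1.symm
  exact (sub_eq_zero.mp this).symm

/-- coordinates as a bijection -/
theorem co_bij (h : Nine S) {a c : G} (ha : a ∈ S) (hc : c ∈ S) (ha1 : a ≠ 1)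
    (hca : c ∉ Subgroup.zpowers a) :
    Function.Bijective (fun p : ZMod 3 × ZMod 3 => (⟨co a c p, h.co_mem ha hc p⟩ : S)) := by
  have := Fintype.ofFinite S
  rw [Fintype.bijective_iff_injective_and_card]
  constructor
  · intro p q hpq
    exact h.co_inj ha hc ha1 hca (congrArg Subtype.val hpq)
  · rw [← Nat.card_eq_fintype_card (α := S), h.card, Fintype.card_prod, ZMod.card]

theorem exists_indep (h : Nine S) {a : G} (ha : a ∈ S) (ha1 : a ≠ 1) :
    ∃ c ∈ S, c ∉ Subgroup.zpowers a := by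
  by_contra hcon
  push Not at hcon
  have h1 : S ≤ Subgroup.zpowers a := hcon
  have h2 := Subgroup.card_le_of_le h1
  rw [h.card, Nat.card_zpowers, h.order3 ha ha1] at h2
  omega

theorem exists_ne (h : Nine S) : ∃ a ∈ S, a ≠ 1 := by
  by_contra hcon
  push Not at hcon
  have h1 : S = ⊥ := by
    rw [Subgroup.eq_bot_iff_forall]; exact hcon
  have h2 := h.card
  rw [h1, Subgroup.card_bot] at h2
  omega

/-- real integer values -/
theorem values (h : Nine S) (he : 2 ∣ Nat.card (Subgroup.normalizer (S : Set G))) {s : G}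
    (hs : s ∈ S) (hs1 : s ≠ 1) : ∃ f : IrrCharacter G → ℤ, ∀ χ : IrrCharacter G,
      (χ : G → ℂ) s = f χ ∧ (3 : ℤ) ∣ f χ - charDegree (χ : G → ℂ) := by
  choose f hf using fun χ : IrrCharacter G => real_three χ.2.isCharacter (h.order3 hs hs1)
    (h.inverts he hs) (d := charDegree (χ : G → ℂ)) (by rw [BlockDeg.charDegree_cast_irr χ])
  exact ⟨f, hf⟩

/-- orthogonality in integer form -/
theorem orth (h : Nine S) {s t : G} (hs : s ∈ S) (hs1 : s ≠ 1) {f f' : IrrCharacter G → ℤ}
    (hf : ∀ χ : IrrCharacter G, (χ : G → ℂ) s = f χ) (hf' : ∀ χ : IrrCharacter G, (χ : G → ℂ) t = f' χ) :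
    (IsConj s t → ∑ χ, f χ * f' χ = 9) ∧ (¬ IsConj s t → ∑ χ, f χ * f' χ = 0) := by
  classical
  have h1 := column_orthogonality s t
  have h2 : ∀ χ : IrrCharacter G, (χ : G → ℂ) s * conj ((χ : G → ℂ) t) = ((f χ * f' χ : ℤ) : ℂ) := by
    intro χ
    rw [hf, hf', map_intCast]
    push_cast; rfl
  simp only [h2] at h1
  constructor
  · intro hc
    rw [if_pos hc, h.cent' s hs hs1, h.card] at h1
    exact_mod_cast h1
  · intro hc
    rw [if_neg hc] at h1
    exact_mod_cast h1

theorem orth_deg {s : G} (hs1 : s ≠ 1) {f : IrrCharacter G → ℤ}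
    (hf : ∀ χ : IrrCharacter G, (χ : G → ℂ) s = f χ) :
    ∑ χ : IrrCharacter G, (charDegree (χ : G → ℂ) : ℤ) * f χ = 0 := by
  have h1 := sum_degree_mul s hs1
  simp only [hf, ← BlockDeg.charDegree_cast_irr] at h1
  exact_mod_cast h1

theorem sum_deg_sq : ∑ χ : IrrCharacter G, charDegree (χ : G → ℂ) ^ 2 = Nat.card G := by
  have h1 := sum_degree_sq (G := G)
  simp only [← BlockDeg.charDegree_cast_irr] at h1
  exact_mod_cast h1

open scoped Classical in
/-- structure constants in rational form -/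
theorem sc (h : Nine S) [Fintype G] {x y z : G} (hx : x ∈ S) (hx1 : x ≠ 1) (hy : y ∈ S) (hy1 : y ≠ 1)
    (hz : z ∈ S) (hz1 : z ≠ 1) (hxy : ¬ IsConj x y) {f f' f'' : IrrCharacter G → ℤ}
    (hf : ∀ χ : IrrCharacter G, (χ : G → ℂ) x = f χ) (hf' : ∀ χ : IrrCharacter G, (χ : G → ℂ) y = f' χ)
    (hf'' : ∀ χ : IrrCharacter G, (χ : G → ℂ) z = f'' χ) {m : ℕ}
    (hm : Nat.card {u : S // IsConj x (u : G) ∧ IsConj y ((u : G)⁻¹ * z)} = m) :
    (Nat.card G : ℚ) * ∑ χ : IrrCharacter G, ((f χ : ℚ) * f' χ * f'' χ) / charDegree (χ : G → ℂ) = 81 * m := by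
  have h1 := sc_sub (S := S) (x := x) (y := y) (z := z) (by
    intro u v hu hv huv
    have hu3 : u ^ 3 = 1 := by
      obtain ⟨c, hc⟩ := isConj_iff.mp hu
      rw [← hc, conj_pow, h.exp x hx]; group
    have hv3 : v ^ 3 = 1 := by
      obtain ⟨c, hc⟩ := isConj_iff.mp hv
      rw [← hc, conj_pow, h.exp y hy]; group
    exact (h.triple hu3 hv3 huv hz hz1 (fun hc => hxy ((hu.trans hc).trans hv.symm))).1)
  rw [← Fintype.card_subtype, ← Nat.card_eq_fintype_card, hm, h.cent' x hx hx1, h.cent' y hy hy1, h.card] at h1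
  have h2 : ∀ χ : IrrCharacter G, (χ : G → ℂ) x * (χ : G → ℂ) y * conj ((χ : G → ℂ) z) / (χ : G → ℂ) 1 =
      ((((f χ : ℚ) * f' χ * f'' χ) / charDegree (χ : G → ℂ) : ℚ) : ℂ) := by
    intro χ
    rw [hf, hf', hf'', map_intCast, ← BlockDeg.charDegree_cast_irr]
    push_cast; rfl
  simp only [h2] at h1
  rw [← Rat.cast_sum] at h1
  have h3 : (((Nat.card G : ℚ) * ∑ χ : IrrCharacter G, ((f χ : ℚ) * f' χ * f'' χ) / charDegree (χ : G → ℂ) : ℚ) : ℂ) =
      ((81 * m : ℚ) : ℂ) := by
    rw [Rat.cast_mul, Rat.cast_natCast, h1]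
    push_cast; ring
  exact_mod_cast h3

theorem normal_of_index (h : Nine S) (hi : (Subgroup.normalizer (S : Set G)).index = 1) : S.Normal := by
  rw [Subgroup.index_eq_one, Subgroup.normalizer_eq_top_iff] at hi
  exact hi

/-- the case `|N(S):S| = 2` -/
theorem two (h : Nine S) (he : Nat.card (Subgroup.normalizer (S : Set G)) = 18) : S.Normal := by
  classical
  have := Fintype.ofFinite G
  have := Fintype.ofFinite S
  have he2 : 2 ∣ Nat.card (Subgroup.normalizer (S : Set G)) := by rw [he]; norm_num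
  obtain ⟨a, ha, ha1⟩ := h.exists_ne
  obtain ⟨c, hc, hca⟩ := h.exists_indep ha ha1
  have hbij := h.co_bij ha hc ha1 hca
  have hinj := h.co_inj ha hc ha1 hca
  have hne : ∀ p : ZMod 3 × ZMod 3, p ≠ 0 → co a c p ≠ 1 := by
    intro p hp h1
    apply hp
    apply hinj
    rw [h1, co_zero]
  -- conjugacy
  have hconj : ∀ p q : ZMod 3 × ZMod 3, p ≠ 0 → (IsConj (co a c p) (co a c q) ↔ q = p ∨ q = -p) := by
    intro p q hp
    constructor
    · intro hpq
      have h1 := h.card_orbit (h.co_mem ha hc p) (hne p hp)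
      rw [he] at h1
      have h2 : Nat.card {u : S // IsConj (co a c p) (u : G)} = 2 := by omega
      rw [Nat.card_eq_fintype_card, Fintype.card_subtype, Finset.card_eq_two] at h2
      obtain ⟨u, v, huv, h3⟩ := h2
      have m1 : (⟨co a c p, h.co_mem ha hc p⟩ : S) ∈ ({u, v} : Finset S) := by
        rw [← h3]; simp only [Finset.mem_filter, Finset.mem_univ, true_and]; exact IsConj.refl _
      have m2 : (⟨co a c (-p), h.co_mem ha hc (-p)⟩ : S) ∈ ({u, v} : Finset S) := by
        rw [← h3]; simp only [Finset.mem_filter, Finset.mem_univ, true_and]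
        rw [h.co_neg ha hc]
        exact h.inverts he2 (h.co_mem ha hc p)
      have m3 : (⟨co a c q, h.co_mem ha hc q⟩ : S) ∈ ({u, v} : Finset S) := by
        rw [← h3]; simp only [Finset.mem_filter, Finset.mem_univ, true_and]; exact hpq
      have m12 : p ≠ -p := by
        have : ∀ p : ZMod 3 × ZMod 3, p ≠ 0 → p ≠ -p := by decide
        exact this p hp
      simp only [Finset.mem_insert, Finset.mem_singleton] at m1 m2 m3
      have inj' : ∀ p q : ZMod 3 × ZMod 3, (⟨co a c p, h.co_mem ha hc p⟩ : S) = ⟨co a c q, h.co_mem ha hc q⟩ → p = q :=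
        fun p q hh => hinj (congrArg Subtype.val hh)
      rcases m1 with m1 | m1 <;> rcases m2 with m2 | m2 <;> rcases m3 with m3 | m3
      · exact absurd (inj' _ _ (m1.trans m2.symm)) m12
      · exact absurd (inj' _ _ (m1.trans m2.symm)) m12
      · left; exact inj' _ _ (m3.trans m1.symm)
      · right; exact inj' _ _ (m3.trans m2.symm)
      · right; exact inj' _ _ (m3.trans m2.symm)
      · left; exact inj' _ _ (m3.trans m1.symm)
      · exact absurd (inj' _ _ (m1.trans m2.symm)) m12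
      · exact absurd (inj' _ _ (m1.trans m2.symm)) m12
    · rintro (rfl | rfl)
      · exact IsConj.refl _
      · rw [h.co_neg ha hc]
        exact h.inverts he2 (h.co_mem ha hc p)
  have hcount : ∀ p q r : ZMod 3 × ZMod 3, p ≠ 0 → q ≠ 0 →
      Nat.card {u : S // IsConj (co a c p) (u : G) ∧ IsConj (co a c q) ((u : G)⁻¹ * co a c r)} =
      Fintype.card {t : ZMod 3 × ZMod 3 // (t = p ∨ t = -p) ∧ (r - t = q ∨ r - t = -q)} := by
    intro p q r hp hq
    rw [← Nat.card_eq_fintype_card]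
    symm
    apply Nat.card_congr
    apply Equiv.ofBijective (fun t => ⟨⟨co a c t.1, h.co_mem ha hc t.1⟩, by
      rw [h.co_sub ha hc, hconj p t hp, hconj q _ hq]; exact t.2⟩)
    constructor
    · intro t t' htt
      exact Subtype.ext (hinj (congrArg (fun z => ((z : S) : G)) (congrArg Subtype.val htt)))
    · rintro ⟨u, hu⟩
      obtain ⟨t, ht⟩ := hbij.2 u
      refine ⟨⟨t, ?_⟩, Subtype.ext ht⟩
      rw [← ht] at hu
      change IsConj (co a c p) (co a c t) ∧ IsConj (co a c q) ((co a c t)⁻¹ * co a c r) at hu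
      rw [h.co_sub ha hc, hconj p t hp, hconj q _ hq] at hu
      exact hu
  have n10 : ((1, 0) : ZMod 3 × ZMod 3) ≠ 0 := by decide
  have n01 : ((0, 1) : ZMod 3 × ZMod 3) ≠ 0 := by decide
  have n11 : ((1, 1) : ZMod 3 × ZMod 3) ≠ 0 := by decide
  obtain ⟨fa, hfa⟩ := h.values he2 (h.co_mem ha hc (1, 0)) (hne _ n10)
  obtain ⟨fc, hfc⟩ := h.values he2 (h.co_mem ha hc (0, 1)) (hne _ n01)
  obtain ⟨fz, hfz⟩ := h.values he2 (h.co_mem ha hc (1, 1)) (hne _ n11)
  have nac : ¬ IsConj (co a c (1, 0)) (co a c (0, 1)) := by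
    rw [hconj _ _ n10]; decide
  have naz : ¬ IsConj (co a c (1, 0)) (co a c (1, 1)) := by
    rw [hconj _ _ n10]; decide
  have s1 := h.sc (h.co_mem ha hc _) (hne _ n10) (h.co_mem ha hc _) (hne _ n01) (h.co_mem ha hc _)
    (hne _ n11) nac (fun χ => (hfa χ).1) (fun χ => (hfc χ).1) (fun χ => (hfz χ).1) (m := 1)
    (by rw [hcount _ _ _ n10 n01]; decide)
  have s2 := h.sc (h.co_mem ha hc _) (hne _ n10) (h.co_mem ha hc _) (hne _ n01) (h.co_mem ha hc _)
    (hne _ n10) nac (fun χ => (hfa χ).1) (fun χ => (hfc χ).1) (fun χ => (hfa χ).1) (m := 0)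
    (by rw [hcount _ _ _ n10 n01]; decide)
  have oaa := (h.orth (h.co_mem ha hc _) (hne _ n10) (fun χ => (hfa χ).1) (fun χ => (hfa χ).1)).1 (IsConj.refl _)
  have ozz := (h.orth (h.co_mem ha hc _) (hne _ n11) (fun χ => (hfz χ).1) (fun χ => (hfz χ).1)).1 (IsConj.refl _)
  have oaz := (h.orth (h.co_mem ha hc _) (hne _ n10) (fun χ => (hfa χ).1) (fun χ => (hfz χ).1)).2 naz
  have oda := orth_deg (hne _ n10) (fun χ => (hfa χ).1)
  have odz := orth_deg (hne _ n11) (fun χ => (hfz χ).1)
  have hdiv : ∀ χ : IrrCharacter G, ∃ k : ℤ, fz χ - fa χ = 3 * k := by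
    intro χ
    have h1 := dvd_sub (hfz χ).2 (hfa χ).2
    have h2 : fz χ - (charDegree (χ : G → ℂ) : ℤ) - (fa χ - charDegree (χ : G → ℂ)) = fz χ - fa χ := by ring
    rw [h2] at h1
    exact h1
  choose k hk using hdiv
  have hle := num2 k (fun χ => fa χ * fc χ) (fun χ : IrrCharacter G => charDegree (χ : G → ℂ))
    (fun χ => BlockDeg.charDegree_pos χ.2) (Nat.card G) ?_ ?_ ?_ ?_ sum_deg_sq
  · have h1 := (Subgroup.normalizer (S : Set G)).index_mul_card
    rw [he] at h1
    obtain ⟨m, hm⟩ := h.index_mod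
    rw [h.card] at hm
    apply h.normal_of_index
    omega
  · have h1 : ∑ χ : IrrCharacter G, (3 * k χ) ^ 2 = 18 := by
      have : ∀ χ : IrrCharacter G, (3 * k χ) ^ 2 = fz χ * fz χ - 2 * (fa χ * fz χ) + fa χ * fa χ := by
        intro χ; rw [← hk χ]; ring
      simp only [this]
      rw [Finset.sum_add_distrib, Finset.sum_sub_distrib, ← Finset.mul_sum, oaa, ozz, oaz]
      norm_num
    have h2 : ∑ χ : IrrCharacter G, (3 * k χ) ^ 2 = 9 * ∑ χ, k χ ^ 2 := by
      rw [Finset.mul_sum]
      exact Finset.sum_congr rfl fun χ _ => by ring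
    omega
  · have h1 : 3 * ∑ χ : IrrCharacter G, (charDegree (χ : G → ℂ) : ℤ) * k χ = 0 := by
      rw [Finset.mul_sum]
      have : ∀ χ : IrrCharacter G, 3 * ((charDegree (χ : G → ℂ) : ℤ) * k χ) =
          (charDegree (χ : G → ℂ) : ℤ) * fz χ - (charDegree (χ : G → ℂ) : ℤ) * fa χ := by
        intro χ
        rw [← mul_sub, hk χ]; ring
      simp only [this]
      rw [Finset.sum_sub_distrib, oda, odz, sub_zero]
    omega
  · intro χ
    have h1 := (hfa χ).2
    have h2 := (hfc χ).2
    have h3 : fa χ * fc χ - (charDegree (χ : G → ℂ) : ℤ) ^ 2 =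
        (fa χ - charDegree (χ : G → ℂ)) * fc χ + charDegree (χ : G → ℂ) * (fc χ - charDegree (χ : G → ℂ)) := by ring
    show (3 : ℤ) ∣ fa χ * fc χ - (charDegree (χ : G → ℂ) : ℤ) ^ 2
    rw [h3]
    exact dvd_add (Dvd.dvd.mul_right h1 _) (Dvd.dvd.mul_left h2 _)
  · have h1 : ∀ χ : IrrCharacter G, (((fa χ * fc χ : ℤ) : ℚ) * k χ) / charDegree (χ : G → ℂ) =
        (1 / 3) * (((fa χ : ℚ) * fc χ * fz χ) / charDegree (χ : G → ℂ) -
          ((fa χ : ℚ) * fc χ * fa χ) / charDegree (χ : G → ℂ)) := by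
      intro χ
      have h2 : (fz χ : ℚ) - fa χ = 3 * k χ := by exact_mod_cast hk χ
      rw [← sub_div, ← mul_sub, h2]
      push_cast; ring
    simp only [h1]
    rw [← Finset.mul_sum, Finset.sum_sub_distrib]
    push_cast at s1 s2
    linear_combination (1 / 3 : ℚ) * s1 - (1 / 3 : ℚ) * s2

/-- the trivial character -/
def tr (G : Type u) [Group G] : IrrCharacter G := ⟨fun _ => 1, isIrrCharacter_fun_one⟩

/-- the case `|N(S):S| = 4`: bound for the order -/
theorem four (h : Nine S) (he : Nat.card (Subgroup.normalizer (S : Set G)) = 36) : Nat.card G ≤ 720 := by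
  classical
  have := Fintype.ofFinite G
  have he2 : 2 ∣ Nat.card (Subgroup.normalizer (S : Set G)) := by rw [he]; norm_num
  obtain ⟨a, ha, ha1⟩ := h.exists_ne
  -- choose `c` in the orbit of `a`
  obtain ⟨c, hc, hcc, hca, hca'⟩ : ∃ c ∈ S, IsConj a c ∧ c ≠ a ∧ c ≠ a⁻¹ := by
    by_contra hcon
    push Not at hcon
    have h1 := h.card_orbit ha ha1
    rw [he] at h1
    have h2 : Nat.card {u : S // IsConj a (u : G)} = 4 := by omega
    have h3 : Nat.card {u : S // IsConj a (u : G)} ≤ Nat.card ({a, a⁻¹} : Set G) := by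
      apply Nat.card_le_card_of_injective
        (fun u => (⟨(u.1 : G), by
          by_cases hu : (u.1 : G) = a
          · left; exact hu
          · right; exact hcon _ u.1.2 u.2 hu⟩ : ({a, a⁻¹} : Set G)))
      intro u v huv
      exact Subtype.ext (Subtype.ext (congrArg (fun z : ({a, a⁻¹} : Set G) => (z : G)) huv))
    rw [h2] at h3
    have h4 : Nat.card ({a, a⁻¹} : Set G) ≤ 2 := by
      rw [Nat.card_coe_set_eq]
      exact Set.ncard_insert_le _ _ |>.trans (by rw [Set.ncard_singleton])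
    omega
  have hcz : c ∉ Subgroup.zpowers a := by
    intro hcz
    rw [mem_zpowers_iff_mem_range_orderOf, h.order3 ha ha1] at hcz
    rw [Finset.mem_image] at hcz
    obtain ⟨i, hi, hic⟩ := hcz
    rw [Finset.mem_range] at hi
    have ha3 := h.exp a ha
    interval_cases i
    · rw [pow_zero] at hic
      rw [← hic, isConj_one_left] at hcc
      exact ha1 hcc
    · rw [pow_one] at hic
      exact hca hic.symm
    · apply hca'
      rw [← hic, eq_inv_iff_mul_eq_one, ← pow_succ]
      exact ha3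
  have hbij := h.co_bij ha hc ha1 hcz
  have hinj := h.co_inj ha hc ha1 hcz
  have hne : ∀ p : ZMod 3 × ZMod 3, p ≠ 0 → co a c p ≠ 1 := by
    intro p hp h1
    apply hp
    apply hinj
    rw [h1, co_zero]
  have hO : ∀ p : ZMod 3 × ZMod 3, p ≠ 0 →
      (Finset.univ.filter fun q : ZMod 3 × ZMod 3 => IsConj (co a c p) (co a c q)).card = 4 := by
    intro p hp
    have h1 := h.card_orbit (h.co_mem ha hc p) (hne p hp)
    rw [he] at h1
    have h2 : Nat.card {u : S // IsConj (co a c p) (u : G)} = 4 := by omega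
    rw [← Fintype.card_subtype, ← Nat.card_eq_fintype_card, ← h2]
    apply Nat.card_congr
    apply Equiv.ofBijective (fun t => ⟨⟨co a c t.1, h.co_mem ha hc t.1⟩, t.2⟩)
    constructor
    · intro t t' htt
      exact Subtype.ext (hinj (congrArg (fun z => ((z : S) : G)) (congrArg Subtype.val htt)))
    · rintro ⟨u, hu⟩
      obtain ⟨t, ht⟩ := hbij.2 u
      refine ⟨⟨t, ?_⟩, Subtype.ext ht⟩
      rw [← ht] at hu
      exact hu
  have inv_conj : ∀ p : ZMod 3 × ZMod 3, IsConj (co a c p) (co a c (-p)) := by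
    intro p
    rw [h.co_neg ha hc]
    exact h.inverts he2 (h.co_mem ha hc p)
  -- the orbit of `a`
  set A : Finset (ZMod 3 × ZMod 3) := {(1, 0), (2, 0), (0, 1), (0, 2)} with hA
  have hA1 : (Finset.univ.filter fun q : ZMod 3 × ZMod 3 => IsConj (co a c (1, 0)) (co a c q)) = A := by
    symm
    apply Finset.eq_of_subset_of_card_le
    · intro q hq
      simp only [Finset.mem_filter, Finset.mem_univ, true_and]
      simp only [hA, Finset.mem_insert, Finset.mem_singleton] at hq
      have hc01 : IsConj (co a c (1, 0)) (co a c (0, 1)) := by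
        rw [co_10, co_01]; exact hcc
      rcases hq with rfl | rfl | rfl | rfl
      · exact IsConj.refl _
      · exact inv_conj (1, 0)
      · exact hc01
      · exact hc01.trans (inv_conj (0, 1))
    · rw [hO _ (by decide)]
      decide
  have hconjA : ∀ q, IsConj (co a c (1, 0)) (co a c q) ↔ q ∈ A := by
    intro q
    rw [← hA1]
    simp only [Finset.mem_filter, Finset.mem_univ, true_and]
  set B : Finset (ZMod 3 × ZMod 3) := {(1, 1), (2, 2), (1, 2), (2, 1)} with hB
  have hB1 : (Finset.univ.filter fun q : ZMod 3 × ZMod 3 => IsConj (co a c (1, 1)) (co a c q)) = B := by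
    apply Finset.eq_of_subset_of_card_le
    · intro q hq
      simp only [Finset.mem_filter, Finset.mem_univ, true_and] at hq
      have h0 : q ≠ 0 := by
        rintro rfl
        rw [co_zero, isConj_one_left] at hq
        exact hne (1, 1) (by decide) hq
      have h1 : q ∉ A := by
        intro hqA
        have h2 := (hconjA q).mpr hqA
        have h3 := (hconjA (1, 1)).mp (h2.trans hq.symm)
        revert h3; decide
      have : ∀ q : ZMod 3 × ZMod 3, q ≠ 0 → q ∉ A → q ∈ B := by decide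
      exact this q h0 h1
    · rw [hO _ (by decide)]
      decide
  have hconjB : ∀ q, IsConj (co a c (1, 1)) (co a c q) ↔ q ∈ B := by
    intro q
    rw [← hB1]
    simp only [Finset.mem_filter, Finset.mem_univ, true_and]
  have hcount : ∀ r : ZMod 3 × ZMod 3,
      Nat.card {u : S // IsConj (co a c (1, 0)) (u : G) ∧ IsConj (co a c (1, 1)) ((u : G)⁻¹ * co a c r)} =
      Fintype.card {t : ZMod 3 × ZMod 3 // t ∈ A ∧ r - t ∈ B} := by
    intro r
    rw [← Nat.card_eq_fintype_card]
    symm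
    apply Nat.card_congr
    apply Equiv.ofBijective (fun t => ⟨⟨co a c t.1, h.co_mem ha hc t.1⟩, by
      rw [h.co_sub ha hc, hconjA, hconjB]; exact t.2⟩)
    constructor
    · intro t t' htt
      exact Subtype.ext (hinj (congrArg (fun z => ((z : S) : G)) (congrArg Subtype.val htt)))
    · rintro ⟨u, hu⟩
      obtain ⟨t, ht⟩ := hbij.2 u
      refine ⟨⟨t, ?_⟩, Subtype.ext ht⟩
      rw [← ht] at hu
      change IsConj (co a c (1, 0)) (co a c t) ∧ IsConj (co a c (1, 1)) ((co a c t)⁻¹ * co a c r) at hu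
      rw [h.co_sub ha hc, hconjA, hconjB] at hu
      exact hu
  have n10 : ((1, 0) : ZMod 3 × ZMod 3) ≠ 0 := by decide
  have n11 : ((1, 1) : ZMod 3 × ZMod 3) ≠ 0 := by decide
  obtain ⟨fa, hfa⟩ := h.values he2 (h.co_mem ha hc (1, 0)) (hne _ n10)
  obtain ⟨fb, hfb⟩ := h.values he2 (h.co_mem ha hc (1, 1)) (hne _ n11)
  have nab : ¬ IsConj (co a c (1, 0)) (co a c (1, 1)) := by
    rw [hconjA]; decide
  have s1 := h.sc (h.co_mem ha hc _) (hne _ n10) (h.co_mem ha hc _) (hne _ n11) (h.co_mem ha hc _)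
    (hne _ n10) nab (fun χ => (hfa χ).1) (fun χ => (hfb χ).1) (fun χ => (hfa χ).1) (m := 2)
    (by rw [hcount]; decide)
  have s2 := h.sc (h.co_mem ha hc _) (hne _ n10) (h.co_mem ha hc _) (hne _ n11) (h.co_mem ha hc _)
    (hne _ n11) nab (fun χ => (hfa χ).1) (fun χ => (hfb χ).1) (fun χ => (hfb χ).1) (m := 2)
    (by rw [hcount]; decide)
  have oaa := (h.orth (h.co_mem ha hc _) (hne _ n10) (fun χ => (hfa χ).1) (fun χ => (hfa χ).1)).1 (IsConj.refl _)
  have obb := (h.orth (h.co_mem ha hc _) (hne _ n11) (fun χ => (hfb χ).1) (fun χ => (hfb χ).1)).1 (IsConj.refl _)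
  have oab := (h.orth (h.co_mem ha hc _) (hne _ n10) (fun χ => (hfa χ).1) (fun χ => (hfb χ).1)).2 nab
  have hdiv : ∀ χ : IrrCharacter G, ∃ k : ℤ, fa χ - fb χ = 3 * k := by
    intro χ
    have h1 := dvd_sub (hfa χ).2 (hfb χ).2
    have h2 : fa χ - (charDegree (χ : G → ℂ) : ℤ) - (fb χ - charDegree (χ : G → ℂ)) = fa χ - fb χ := by ring
    rw [h2] at h1
    exact h1
  choose k hk using hdiv
  -- sum over S
  have hval : ∀ (χ : IrrCharacter G) (q : ZMod 3 × ZMod 3), (χ : G → ℂ) (co a c q) =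
      if q = 0 then (charDegree (χ : G → ℂ) : ℂ) else if q ∈ A then (fa χ : ℂ) else (fb χ : ℂ) := by
    intro χ q
    by_cases hq : q = 0
    · rw [if_pos hq, hq, co_zero, BlockDeg.charDegree_cast_irr]
    rw [if_neg hq]
    by_cases hqA : q ∈ A
    · rw [if_pos hqA, ← (hfa χ).1]
      exact (χ.2.isClassFunction.conj_eq ((hconjA q).mpr hqA)).symm
    · rw [if_neg hqA, ← (hfb χ).1]
      have hqB : q ∈ B := by
        have : ∀ q : ZMod 3 × ZMod 3, q ≠ 0 → q ∉ A → q ∈ B := by decide
        exact this q hq hqA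
      exact (χ.2.isClassFunction.conj_eq ((hconjB q).mpr hqB)).symm
  have h9 : ∀ χ : IrrCharacter G, ∃ m : ℤ, (charDegree (χ : G → ℂ) : ℤ) + 4 * fa χ + 4 * fb χ = 9 * m := by
    intro χ
    have := Fintype.ofFinite S
    obtain ⟨m, hm⟩ := sum_subgroup χ.2.isCharacter S
    refine ⟨m, ?_⟩
    rw [h.card] at hm
    have h1 : ∑ x : S, (χ : G → ℂ) (x : G) = ∑ q : ZMod 3 × ZMod 3, (χ : G → ℂ) (co a c q) := by
      symm
      exact Fintype.sum_bijective _ hbij _ _ (fun q => rfl)
    rw [h1] at hm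
    simp only [hval] at hm
    have h2 : ∀ x y z : ℂ, (∑ q : ZMod 3 × ZMod 3, if q = 0 then x else if q ∈ A then y else z) =
        x + 4 * y + 4 * z := by
      intro x y z
      rw [Finset.sum_ite, Finset.sum_ite, Finset.sum_const, Finset.sum_const, Finset.sum_const]
      have c1 : (Finset.univ.filter fun q : ZMod 3 × ZMod 3 => q = 0).card = 1 := by decide
      have c2 : ((Finset.univ.filter fun q : ZMod 3 × ZMod 3 => ¬ q = 0).filter fun q => q ∈ A).card = 4 := by decide
      have c3 : ((Finset.univ.filter fun q : ZMod 3 × ZMod 3 => ¬ q = 0).filter fun q => ¬ q ∈ A).card = 4 := by decide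
      rw [c1, c2, c3]
      simp only [nsmul_eq_mul]
      push_cast; ring
    rw [h2] at hm
    have h3 : (((charDegree (χ : G → ℂ) : ℤ) + 4 * fa χ + 4 * fb χ : ℤ) : ℂ) = ((9 * (m : ℤ) : ℤ) : ℂ) := by
      push_cast; exact hm
    exact_mod_cast h3
  have hfa1 : fa (tr G) = 1 := by
    have : ((fa (tr G) : ℤ) : ℂ) = 1 := ((hfa (tr G)).1).symm
    exact_mod_cast this
  have hfb1 : fb (tr G) = 1 := by
    have : ((fb (tr G) : ℤ) : ℂ) = 1 := ((hfb (tr G)).1).symm
    exact_mod_cast this
  have hk1 : k (tr G) = 0 := by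
    have := hk (tr G)
    rw [hfa1, hfb1] at this
    omega
  have hd1 : charDegree ((tr G : IrrCharacter G) : G → ℂ) = 1 := by
    have h1 := BlockDeg.charDegree_cast_irr (tr G)
    have h2 : ((tr G : IrrCharacter G) : G → ℂ) 1 = 1 := rfl
    rw [h2] at h1
    exact_mod_cast h1
  have hle := num4 (tr G) (fun χ => - k χ - fb χ) (fun χ => k χ - fa χ)
    (fun χ : IrrCharacter G => charDegree (χ : G → ℂ)) (fun χ => BlockDeg.charDegree_pos χ.2)
    (by simp only [hk1, hfb1]; norm_num) (by simp only [hk1, hfa1]; norm_num) hd1 ?_ ?_ ?_ ?_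
  · -- conclusion
    have h1 : ∀ χ : IrrCharacter G, (-(((((- k χ - fb χ : ℤ) : ℚ)) - 2 * ((k χ - fa χ : ℤ) : ℚ)) *
        (((k χ - fa χ : ℤ) : ℚ) - 2 * ((- k χ - fb χ : ℤ) : ℚ)) *
        (((- k χ - fb χ : ℤ) : ℚ) + ((k χ - fa χ : ℤ) : ℚ))) / 2 : ℚ) / charDegree (χ : G → ℂ) =
        (1 / 2) * (((fa χ : ℚ) * fb χ * fa χ) / charDegree (χ : G → ℂ) +
          ((fa χ : ℚ) * fb χ * fb χ) / charDegree (χ : G → ℂ)) := by
      intro χ
      have h2 : (fa χ : ℚ) - fb χ = 3 * k χ := by exact_mod_cast hk χ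
      have e1 : (((- k χ - fb χ : ℤ) : ℚ)) - 2 * ((k χ - fa χ : ℤ) : ℚ) = fa χ := by
        push_cast; linear_combination (1 : ℚ) * h2
      have e2 : ((k χ - fa χ : ℤ) : ℚ) - 2 * ((- k χ - fb χ : ℤ) : ℚ) = fb χ := by
        push_cast; linear_combination (-1 : ℚ) * h2
      have e3 : ((- k χ - fb χ : ℤ) : ℚ) + ((k χ - fa χ : ℤ) : ℚ) = - (fa χ + fb χ) := by
        push_cast; ring
      rw [e1, e2, e3, ← add_div]
      ring
    simp only [h1] at hle
    rw [← Finset.mul_sum, Finset.sum_add_distrib] at hle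
    push_cast at s1 s2
    have hg : (0 : ℚ) < Nat.card G := by exact_mod_cast Nat.card_pos
    have h3 : (Nat.card G : ℚ) * (9 / 40) ≤ 162 := by
      calc (Nat.card G : ℚ) * (9 / 40) ≤ (Nat.card G : ℚ) * _ := mul_le_mul_of_nonneg_left hle hg.le
        _ = 162 := by linear_combination (1 / 2 : ℚ) * s1 + (1 / 2 : ℚ) * s2
    have h4 : (Nat.card G : ℚ) ≤ 720 := by linarith
    exact_mod_cast h4
  · have h1 : 9 * ∑ χ : IrrCharacter G, (- k χ - fb χ) ^ 2 = 45 := by
      rw [Finset.mul_sum]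
      have : ∀ χ : IrrCharacter G, 9 * (- k χ - fb χ) ^ 2 = fa χ * fa χ + 4 * (fa χ * fb χ) + 4 * (fb χ * fb χ) := by
        intro χ
        have := hk χ
        have e : 3 * (- k χ - fb χ) = - (fa χ + 2 * fb χ) := by linear_combination (1 : ℤ) * (hk χ)
        calc 9 * (- k χ - fb χ) ^ 2 = (3 * (- k χ - fb χ)) ^ 2 := by ring
          _ = _ := by rw [e]; ring
      simp only [this]
      rw [Finset.sum_add_distrib, Finset.sum_add_distrib, ← Finset.mul_sum, ← Finset.mul_sum, oaa, obb, oab]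
      norm_num
    show ∑ χ : IrrCharacter G, (- k χ - fb χ) ^ 2 = 5
    omega
  · have h1 : 9 * ∑ χ : IrrCharacter G, (k χ - fa χ) ^ 2 = 45 := by
      rw [Finset.mul_sum]
      have : ∀ χ : IrrCharacter G, 9 * (k χ - fa χ) ^ 2 = 4 * (fa χ * fa χ) + 4 * (fa χ * fb χ) + fb χ * fb χ := by
        intro χ
        have e : 3 * (k χ - fa χ) = - (2 * fa χ + fb χ) := by linear_combination (-1 : ℤ) * (hk χ)
        calc 9 * (k χ - fa χ) ^ 2 = (3 * (k χ - fa χ)) ^ 2 := by ring
          _ = _ := by rw [e]; ring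
      simp only [this]
      rw [Finset.sum_add_distrib, Finset.sum_add_distrib, ← Finset.mul_sum, ← Finset.mul_sum, oaa, obb, oab]
      norm_num
    show ∑ χ : IrrCharacter G, (k χ - fa χ) ^ 2 = 5
    omega
  · have h1 : 9 * ∑ χ : IrrCharacter G, (- k χ - fb χ) * (k χ - fa χ) = 36 := by
      rw [Finset.mul_sum]
      have : ∀ χ : IrrCharacter G, 9 * ((- k χ - fb χ) * (k χ - fa χ)) =
          2 * (fa χ * fa χ) + 5 * (fa χ * fb χ) + 2 * (fb χ * fb χ) := by
        intro χ
        have e : 3 * (k χ - fa χ) = - (2 * fa χ + fb χ) := by linear_combination (-1 : ℤ) * (hk χ)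
        have e' : 3 * (- k χ - fb χ) = - (fa χ + 2 * fb χ) := by linear_combination (1 : ℤ) * (hk χ)
        calc 9 * ((- k χ - fb χ) * (k χ - fa χ)) = (3 * (- k χ - fb χ)) * (3 * (k χ - fa χ)) := by ring
          _ = _ := by rw [e, e']; ring
      simp only [this]
      rw [Finset.sum_add_distrib, Finset.sum_add_distrib, ← Finset.mul_sum, ← Finset.mul_sum, ← Finset.mul_sum,
        oaa, obb, oab]
      norm_num
    show ∑ χ : IrrCharacter G, (- k χ - fb χ) * (k χ - fa χ) = 4
    omega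
  · intro χ
    obtain ⟨m, hm⟩ := h9 χ
    refine ⟨m, ?_⟩
    show (charDegree (χ : G → ℂ) : ℤ) - 4 * ((- k χ - fb χ) + (k χ - fa χ)) = 9 * m
    rw [← hm]; ring

end Nine

end Cfsg.Agent.Lib.H25Nine
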