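import Cfsg.Agent.Lib.H25Tri
import Cfsg.Agent.Lib.CoprimeGen

/-!
# Abelian Sylow 3-subgroups containing the centralizers of their elements in the normalizer (helper25)
-/

set_option autoImplicit false
set_option linter.all false
set_option maxHeartbeats 400000

namespace Cfsg.Agent.Lib.H25Tri

open Cfsg Cfsg.Agent.Lib.H25Nine

universe u v

variable {G : Type u} [Group G] [Finite G] {S : Subgroup G}

theorem le_of_pgroup (h : TIS S) {P : Subgroup G} (hP : IsPGroup 3 P)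
    (hle : P ≤ Subgroup.normalizer (S : Set G)) : P ≤ S := by
  obtain ⟨P₀, hP₀⟩ := h.sylow
  have hf : Fact (Nat.Prime 3) := ⟨Nat.prime_three⟩
  subst hP₀
  have hsup : IsPGroup 3 (((P₀ : Subgroup G) ⊔ P : Subgroup G)) :=
    IsPGroup.to_sup_of_normal_left' P₀.isPGroup' hP hle
  have := P₀.is_maximal' hsup le_sup_left
  rw [← this]
  exact le_sup_right

theorem pgroup_le (h : TIS S) {P : Subgroup G} (hP : IsPGroup 3 P) {u : G} (hu : u ∈ P) (huS : u ∈ S)
    (hu1 : u ≠ 1) : P ≤ S := by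
  have hf : Fact (Nat.Prime 3) := ⟨Nat.prime_three⟩
  have hnt : Nontrivial P := ⟨⟨⟨u, hu⟩, 1, fun h => hu1 (congrArg Subtype.val h)⟩⟩
  have hc : Nontrivial (Subgroup.center P) := IsPGroup.center_nontrivial hP
  obtain ⟨⟨y, hy⟩, hy1⟩ := exists_ne (1 : Subgroup.center P)
  have hy1' : (y : G) ≠ 1 := fun h => hy1 (Subtype.ext (Subtype.ext h))
  have hyc : ∀ x ∈ P, x * (y : G) = (y : G) * x := by
    intro x hx
    exact congrArg Subtype.val (Subgroup.mem_center_iff.mp hy ⟨x, hx⟩)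
  have hyN : (y : G) ∈ Subgroup.normalizer (S : Set G) := by
    apply h.cent u huS hu1
    rw [Subgroup.mem_centralizer_singleton_iff]
    exact (hyc u hu).symm
  have hyS : (y : G) ∈ S := by
    have h1 : Subgroup.zpowers (y : G) ≤ P := by rw [Subgroup.zpowers_le]; exact y.2
    have h2 : IsPGroup 3 (Subgroup.zpowers (y : G)) := hP.to_le h1
    exact le_of_pgroup h h2 (by rw [Subgroup.zpowers_le]; exact hyN) (Subgroup.mem_zpowers _)
  apply le_of_pgroup h hP
  intro x hx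
  apply h.cent y hyS hy1'
  rw [Subgroup.mem_centralizer_singleton_iff]
  exact hyc x hx

/-- fusion of elements commuting with elements of `S` -/
theorem fuse (h : TIS S) {x x' u u' : G} (hc : IsConj x x') (hu : u ∈ S) (hu1 : u ≠ 1) (hxu : x * u = u * x)
    (hu' : u' ∈ S) (hu1' : u' ≠ 1) (hxu' : x' * u' = u' * x') :
    ∃ n ∈ Subgroup.normalizer (S : Set G), n * x' * n⁻¹ = x := by
  have hf : Fact (Nat.Prime 3) := ⟨Nat.prime_three⟩
  obtain ⟨g, hg⟩ := isConj_iff.mp hc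
  set C := Subgroup.centralizer ({x} : Set G) with hC
  have huC : u ∈ C := by rw [hC, Subgroup.mem_centralizer_singleton_iff]; exact hxu.symm
  set w := g⁻¹ * u' * g with hw
  have hwC : w ∈ C := by
    rw [hC, Subgroup.mem_centralizer_singleton_iff, hw]
    have : x = g⁻¹ * x' * g := by rw [← hg]; group
    rw [this]
    calc g⁻¹ * u' * g * (g⁻¹ * x' * g) = g⁻¹ * (u' * x') * g := by group
      _ = g⁻¹ * (x' * u') * g := by rw [hxu']
      _ = _ := by group
  have pz : ∀ y : G, y ^ 3 = 1 → ∀ hy : y ∈ C, IsPGroup 3 (Subgroup.zpowers (⟨y, hy⟩ : C)) := by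
    intro y hy3 hy
    rw [IsPGroup.iff_card, Nat.card_zpowers, Subgroup.orderOf_mk]
    rcases (Nat.dvd_prime Nat.prime_three).mp (orderOf_dvd_of_pow_eq_one hy3) with h2 | h2
    · exact ⟨0, by rw [h2]; rfl⟩
    · exact ⟨1, by rw [h2]; rfl⟩
  have hu3 := h.exp u hu
  have hw3 : w ^ 3 = 1 := by
    have := conj_pow (i := 3) (a := g⁻¹) (b := u')
    rw [inv_inv] at this
    rw [hw, this, h.exp u' hu']; group
  obtain ⟨P1, hP1⟩ := (pz u hu3 huC).exists_le_sylow
  obtain ⟨P2, hP2⟩ := (pz w hw3 hwC).exists_le_sylow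
  obtain ⟨k, hk⟩ := MulAction.exists_smul_eq C P2 P1
  have hmem : (k : G) * w * (k : G)⁻¹ ∈ (P1 : Subgroup C).map C.subtype := by
    refine ⟨k * ⟨w, hwC⟩ * k⁻¹, ?_, rfl⟩
    rw [SetLike.mem_coe, ← hk]
    have h3 : (⟨w, hwC⟩ : C) ∈ P2 := hP2 (Subgroup.mem_zpowers _)
    have h4 : k * ⟨w, hwC⟩ * k⁻¹ ∈ ((k • P2 : Sylow 3 C) : Subgroup C) := by
      rw [Sylow.coe_subgroup_smul]
      exact Subgroup.smul_mem_pointwise_smul _ (MulAut.conj k) _ h3
    exact h4
  have hPS : (P1 : Subgroup C).map C.subtype ≤ S := by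
    apply pgroup_le h (P1.isPGroup'.map C.subtype) (u := u) _ hu hu1
    exact ⟨⟨u, huC⟩, hP1 (Subgroup.mem_zpowers _), rfl⟩
  have h4 : ((k : G) * g⁻¹) * u' * ((k : G) * g⁻¹)⁻¹ ∈ S := by
    have : ((k : G) * g⁻¹) * u' * ((k : G) * g⁻¹)⁻¹ = (k : G) * w * (k : G)⁻¹ := by rw [hw]; group
    rw [this]
    exact hPS hmem
  refine ⟨(k : G) * g⁻¹, h.ti hu' hu1' h4, ?_⟩
  rw [← hg]
  have h5 : (k : G) * x = x * k := Subgroup.mem_centralizer_singleton_iff.mp k.2
  calc (k : G) * g⁻¹ * (g * x * g⁻¹) * ((k : G) * g⁻¹)⁻¹ = (k : G) * x * (k : G)⁻¹ := by group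
    _ = x * (k : G) * (k : G)⁻¹ := by rw [h5]
    _ = x := by group

/-- a normal subgroup meeting `S` trivially -/
theorem eq_bot_of_inf (h : TIS S) (hnc : ¬ IsCyclic S) (hCS : Subgroup.centralizer (S : Set G) ≤ S)
    (N : Subgroup G) [N.Normal] (hN : N ⊓ S = ⊥) : N = ⊥ := by
  have hf : Fact (Nat.Prime 3) := ⟨Nat.prime_three⟩
  have hcomm : IsMulCommutative S := isMulCommutative_iff_of_setLike.mpr (fun a ha b hb => h.comm a ha b hb)
  have h3 : ¬ 3 ∣ Nat.card N := by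
    intro hd
    obtain ⟨w, hw⟩ := exists_prime_orderOf_dvd_card' 3 hd
    have hw' : orderOf (w : G) = 3 := by rw [Subgroup.orderOf_coe]; exact hw
    obtain ⟨g, hg⟩ := h.exists_conj_mem hw'
    have h1 : g * (w : G) * g⁻¹ ∈ N ⊓ S := ⟨Subgroup.Normal.conj_mem inferInstance _ w.2 g, hg⟩
    rw [hN, Subgroup.mem_bot] at h1
    have : (w : G) = 1 := by
      have := congrArg (fun x => g⁻¹ * x * g) h1
      simpa [mul_assoc] using this
    rw [this, orderOf_one] at hw'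
    omega
  have hcop : (Nat.card S).Coprime (Nat.card N) := by
    obtain ⟨P, hP⟩ := h.sylow
    obtain ⟨n, hn⟩ := IsPGroup.iff_card.mp P.isPGroup'
    rw [← hP, hn]
    exact Nat.Coprime.pow_left n ((Nat.Prime.coprime_iff_not_dvd Nat.prime_three).mpr h3)
  have := CoprimeGen.iSup_centralizer_eq hcomm hnc (K := N) (le_trans le_top (by rw [Subgroup.normalizer_eq_top])) hcop
  rw [eq_bot_iff, ← this]
  apply iSup₂_le
  rintro a ⟨ha, ha1⟩ x ⟨hx, hxa⟩
  have hxN := h.cent a ha ha1 hxa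
  rw [← hN]
  refine ⟨hx, hCS ?_⟩
  rw [Subgroup.mem_centralizer_iff]
  intro t ht
  have h1 : x * t * x⁻¹ * t⁻¹ ∈ N ⊓ S := by
    constructor
    · have : x * t * x⁻¹ * t⁻¹ = x * (t * x⁻¹ * t⁻¹) := by group
      rw [this]
      exact N.mul_mem hx (Subgroup.Normal.conj_mem inferInstance _ (N.inv_mem hx) t)
    · exact S.mul_mem ((Subgroup.mem_normalizer_iff.mp hxN t).mp ht) (S.inv_mem ht)
  rw [hN, Subgroup.mem_bot] at h1
  have : x * t * x⁻¹ = t := by
    have := congrArg (fun y => y * t) h1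
    simpa [mul_assoc] using this
  calc t * x = x * t * x⁻¹ * x := by rw [this]
    _ = x * t := by group

theorem normal_of_zpowers (h : TIS S) {a : G} (ha : a ∈ S) (ha1 : a ≠ 1)
    (hn : ∀ g : G, g * a * g⁻¹ ∈ Subgroup.zpowers a) : S.Normal := by
  have hf : Fact (Nat.Prime 3) := ⟨Nat.prime_three⟩
  constructor
  intro s hs g
  have h1 : g * a * g⁻¹ ∈ S := by
    have : Subgroup.zpowers a ≤ S := by rw [Subgroup.zpowers_le]; exact ha
    exact this (hn g)
  exact (Subgroup.mem_normalizer_iff.mp (h.ti ha ha1 h1) s).mp hs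

end Cfsg.Agent.Lib.H25Tri
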