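import Cfsg.Agent.Lib.H25TriB
import Cfsg.Agent.Lib.CFMin
import Cfsg.Agent.S3331

/-!
# Sylow 3-subgroup of order nine with `N(T)/T` a four-group (helper25)
-/

set_option autoImplicit false
set_option linter.all false
set_option maxHeartbeats 400000

namespace Cfsg.Agent.Lib.H25Tri

open Cfsg Cfsg.Agent.Lib.H25Nine

universe u v

variable {G : Type u} [Group G]

structure Dat (S : Subgroup G) (a b s t : G) : Prop where
  tis : TIS S
  ha : a ∈ S
  hb : b ∈ S
  ha1 : a ≠ 1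
  hb1 : b ≠ 1
  gen : ∀ x ∈ S, ∃ i j : ℤ, x = a ^ i * b ^ j
  hs : s ∈ Subgroup.normalizer (S : Set G)
  ht : t ∈ Subgroup.normalizer (S : Set G)
  s2 : s * s = 1
  t2 : t * t = 1
  st : s * t = t * s
  sa : s * a = a⁻¹ * s
  sb : s * b = b * s
  ta : t * a = a * t
  tb : t * b = b⁻¹ * t
  coset : ∀ x ∈ Subgroup.normalizer (S : Set G), ∃ y ∈ S, x = y ∨ x = y * s ∨ x = y * t ∨ x = y * (s * t)
  CS : Subgroup.centralizer (S : Set G) ≤ S
  cyc : ¬ IsCyclic S
  cardN : Nat.card (Subgroup.normalizer (S : Set G)) = 36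

namespace Dat

variable {S : Subgroup G} {a b s t : G}

theorem swap (D : Dat S a b s t) : Dat S b a t s where
  tis := D.tis
  ha := D.hb
  hb := D.ha
  ha1 := D.hb1
  hb1 := D.ha1
  gen := by
    intro x hx
    obtain ⟨i, j, rfl⟩ := D.gen x hx
    exact ⟨j, i, D.tis.comm _ (S.zpow_mem D.ha i) _ (S.zpow_mem D.hb j)⟩
  hs := D.ht
  ht := D.hs
  s2 := D.t2
  t2 := D.s2
  st := D.st.symm
  sa := D.tb
  sb := D.ta
  ta := D.sb
  tb := D.sa
  coset := by
    intro x hx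
    obtain ⟨y, hy, h⟩ := D.coset x hx
    refine ⟨y, hy, ?_⟩
    rw [← D.st]
    tauto
  CS := D.CS
  cyc := D.cyc
  cardN := D.cardN

variable [Finite G]

theorem ab (D : Dat S a b s t) : a * b = b * a := D.tis.comm _ D.ha _ D.hb

theorem a3 (D : Dat S a b s t) : a ^ 3 = 1 := D.tis.exp a D.ha
theorem b3 (D : Dat S a b s t) : b ^ 3 = 1 := D.tis.exp b D.hb

theorem inv_ne (D : Dat S a b s t) : a⁻¹ ≠ a := by
  intro h
  apply D.ha1
  have h1 : a * a = 1 := by nth_rewrite 1 [← h]; exact inv_mul_cancel a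
  have h2 := D.a3
  rw [pow_succ, sq, h1, one_mul] at h2
  exact h2

theorem sai (D : Dat S a b s t) (i : ℤ) : s * a ^ i = a ^ (-i) * s := by
  have h : s * a * s⁻¹ = a⁻¹ := by rw [D.sa]; group
  have h2 := conj_zpow (i := i) (a := s) (b := a)
  rw [h, inv_zpow'] at h2
  rw [h2]; group

theorem tai (D : Dat S a b s t) (i : ℤ) : t * a ^ i = a ^ i * t :=
  (Commute.zpow_right (show Commute t a from D.ta) i).eq

theorem sbi (D : Dat S a b s t) (i : ℤ) : s * b ^ i = b ^ i * s := D.swap.tai i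
theorem tbi (D : Dat S a b s t) (i : ℤ) : t * b ^ i = b ^ (-i) * t := D.swap.sai i

theorem zpow_mod (D : Dat S a b s t) (i : ℤ) : a ^ i = 1 ∨ a ^ i = a ∨ a ^ i = a⁻¹ := by
  have h3 : orderOf a = 3 := orderOf_eq_prime_iff.mpr ⟨D.a3, D.ha1⟩ |> fun h => h
  have h5 := zpow_mod_orderOf a i
  rw [h3] at h5
  have h6 : i % 3 = 0 ∨ i % 3 = 1 ∨ i % 3 = 2 := by omega
  have h7 : a ^ (2 : ℤ) = a⁻¹ := by
    rw [eq_inv_iff_mul_eq_one]
    have h8 := D.a3
    have h9 : a ^ (2 : ℤ) = a ^ 2 := by norm_cast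
    rw [h9, ← pow_succ, h8]
  rcases h6 with h | h | h
  · left; rw [← h5]; push_cast; rw [h, zpow_zero]
  · right; left; rw [← h5]; push_cast; rw [h, zpow_one]
  · right; right; rw [← h5]; push_cast; rw [h, h7]

/-- the centralizer of `a` and `s` in the normalizer -/
def VV (S : Subgroup G) (a s : G) : Subgroup (Subgroup.normalizer (S : Set G)) :=
  (Subgroup.centralizer ({a, s} : Set G)).subgroupOf _

omit [Finite G] in
theorem mem_VV {x : Subgroup.normalizer (S : Set G)} : x ∈ VV S a s ↔ a * (x : G) = x * a ∧ s * (x : G) = x * s := by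
  unfold VV
  rw [Subgroup.mem_subgroupOf, Subgroup.mem_centralizer_iff]
  simp

theorem mem_VV_iff (D : Dat S a b s t) {x : Subgroup.normalizer (S : Set G)} :
    x ∈ VV S a s ↔ ∃ j : ℤ, (x : G) = b ^ j ∨ (x : G) = b ^ j * t := by
  rw [mem_VV]
  constructor
  · rintro ⟨h1, h2⟩
    obtain ⟨y, hy, h⟩ := D.coset x x.2
    have hya : y * a = a * y := D.tis.comm _ hy _ D.ha
    have key : ∀ i j : ℤ, s * (a ^ i * b ^ j) = a ^ i * b ^ j * s → a ^ i = 1 := by
      intro i j h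
      rw [← mul_assoc, D.sai, mul_assoc, D.sbi, ← mul_assoc, mul_left_inj, mul_left_inj] at h
      rcases D.zpow_mod i with h3 | h3 | h3
      · exact h3
      · rw [zpow_neg, h3] at h
        exact absurd h D.inv_ne
      · rw [zpow_neg, h3, inv_inv] at h
        exact absurd h.symm D.inv_ne
    have hbad : ∀ z : G, z * a = a⁻¹ * z → (x : G) = y * z → False := by
      intro z hz h
      rw [h] at h1
      rw [mul_assoc, hz, ← mul_assoc, ← mul_assoc] at h1
      have h3 : y * a⁻¹ = a⁻¹ * y := D.tis.comm _ hy _ (S.inv_mem D.ha)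
      rw [h3] at h1
      have h4 := mul_right_cancel h1
      have h5 := mul_right_cancel h4
      exact D.inv_ne h5.symm
    obtain ⟨i, j, hij⟩ := D.gen y hy
    rcases h with h | h | h | h
    · refine ⟨j, Or.inl ?_⟩
      rw [h, hij] at h2
      rw [h, hij, key i j h2, one_mul]
    · exact (hbad s D.sa h).elim
    · refine ⟨j, Or.inr ?_⟩
      rw [h, hij] at h2
      have h4 : s * (a ^ i * b ^ j) = a ^ i * b ^ j * s := by
        rw [← mul_assoc, mul_assoc (a ^ i * b ^ j) t s, ← D.st, ← mul_assoc (a ^ i * b ^ j)] at h2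
        exact mul_right_cancel h2
      rw [h, hij, key i j h4, one_mul]
    · refine (hbad (s * t) ?_ h).elim
      rw [mul_assoc, D.ta, ← mul_assoc, D.sa, mul_assoc]
  · rintro ⟨j, h | h⟩ <;> rw [h]
    · exact ⟨D.tis.comm _ D.ha _ (S.zpow_mem D.hb j), D.sbi j⟩
    · constructor
      · rw [← mul_assoc, D.tis.comm _ D.ha _ (S.zpow_mem D.hb j), mul_assoc, mul_assoc, D.ta]
      · rw [← mul_assoc, D.sbi, mul_assoc, mul_assoc, D.st]

theorem VV_normal (D : Dat S a b s t) : (VV S a s).Normal := by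
  constructor
  intro x hx g
  obtain ⟨y, hy, hg⟩ := D.coset g g.2
  obtain ⟨i, k, hik⟩ := D.gen y hy
  -- conjugation by y
  have conj_w : ∀ w : G, (w = 1 ∨ w = s ∨ w = t ∨ w = s * t) → ∀ j : ℤ,
      (∃ m : ℤ, w * b ^ j * w⁻¹ = b ^ m) ∧ w * t * w⁻¹ = t := by
    have hs' : s⁻¹ = s := by rw [inv_eq_iff_mul_eq_one]; exact D.s2
    have ht' : t⁻¹ = t := by rw [inv_eq_iff_mul_eq_one]; exact D.t2
    rintro w (rfl | rfl | rfl | rfl) j
    · exact ⟨⟨j, by group⟩, by group⟩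
    · exact ⟨⟨j, by rw [D.sbi]; group⟩, by rw [D.st]; group⟩
    · exact ⟨⟨-j, by rw [D.tbi]; group⟩, by group⟩
    · refine ⟨⟨-j, ?_⟩, ?_⟩
      · rw [mul_assoc s t, D.tbi, ← mul_assoc, D.sbi]; group
      · have h8 : s * t * t = t * (s * t) := by rw [D.st, mul_assoc, D.st]
        rw [h8]; group
  have hgw : ∃ w : G, (w = 1 ∨ w = s ∨ w = t ∨ w = s * t) ∧ (g : G) = a ^ i * b ^ k * w := by
    rcases hg with h | h | h | h
    · exact ⟨1, Or.inl rfl, by rw [h, hik, mul_one]⟩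
    · exact ⟨s, by tauto, by rw [h, hik]⟩
    · exact ⟨t, by tauto, by rw [h, hik]⟩
    · exact ⟨s * t, by tauto, by rw [h, hik]⟩
  obtain ⟨w, hw, hgw⟩ := hgw
  rw [D.mem_VV_iff] at hx ⊢
  obtain ⟨j, hj⟩ := hx
  obtain ⟨⟨m, hm⟩, hwt⟩ := conj_w w hw j
  have hab : ∀ i j : ℤ, a ^ i * b ^ j = b ^ j * a ^ i := fun i j => D.tis.comm _ (S.zpow_mem D.ha i) _ (S.zpow_mem D.hb j)
  rcases hj with h | h
  · refine ⟨m, Or.inl ?_⟩
    push_cast
    rw [h, hgw]
    calc a ^ i * b ^ k * w * b ^ j * (a ^ i * b ^ k * w)⁻¹ = a ^ i * (b ^ k * (w * b ^ j * w⁻¹) * b ^ (-k)) * a ^ (-i) := by group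
      _ = a ^ i * b ^ m * a ^ (-i) := by rw [hm]; congr 2; group
      _ = b ^ m := by rw [hab]; group
  · refine ⟨m + k + k, Or.inr ?_⟩
    push_cast
    rw [h, hgw]
    calc a ^ i * b ^ k * w * (b ^ j * t) * (a ^ i * b ^ k * w)⁻¹
        = a ^ i * (b ^ k * (w * b ^ j * w⁻¹) * ((w * t * w⁻¹) * b ^ (-k))) * a ^ (-i) := by group
      _ = a ^ i * (b ^ (m + k + k) * t) * a ^ (-i) := by
        rw [hm, hwt, D.tbi]
        congr 2
        group
      _ = a ^ i * b ^ (m + k + k) * (t * a ^ (-i)) := by group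
      _ = b ^ (m + k + k) * t := by rw [D.tai, hab]; group

theorem card_VV (D : Dat S a b s t) : Nat.card (VV S a s) = 6 := by
  classical
  have hb' : b ∈ Subgroup.normalizer (S : Set G) := Subgroup.le_normalizer D.hb
  have h3 : orderOf b = 3 := orderOf_eq_prime_iff.mpr ⟨D.b3, D.hb1⟩
  have ht1 : t ≠ 1 := by
    rintro rfl
    have := D.tb
    rw [one_mul, mul_one] at this
    exact D.swap.inv_ne this.symm
  have h2 : orderOf t = 2 := orderOf_eq_prime_iff.mpr ⟨by rw [sq]; exact D.t2, ht1⟩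
  have hbV : (⟨b, hb'⟩ : Subgroup.normalizer (S : Set G)) ∈ VV S a s := D.mem_VV_iff.mpr ⟨1, Or.inl (by simp)⟩
  have htV : (⟨t, D.ht⟩ : Subgroup.normalizer (S : Set G)) ∈ VV S a s := D.mem_VV_iff.mpr ⟨0, Or.inr (by simp)⟩
  have d3 : 3 ∣ Nat.card (VV S a s) := by
    have := orderOf_dvd_natCard (⟨_, hbV⟩ : VV S a s)
    rwa [← Subgroup.orderOf_coe, ← Subgroup.orderOf_coe, h3] at this
  have d2 : 2 ∣ Nat.card (VV S a s) := by
    have := orderOf_dvd_natCard (⟨_, htV⟩ : VV S a s)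
    rwa [← Subgroup.orderOf_coe, ← Subgroup.orderOf_coe, h2] at this
  have d6 : 6 ∣ Nat.card (VV S a s) := Nat.Coprime.mul_dvd_of_dvd_of_dvd (by norm_num : Nat.Coprime 2 3) d2 d3
  have hle : Nat.card (VV S a s) ≤ 6 := by
    have hinj : Nat.card (VV S a s) ≤ Nat.card ({b ^ (0 : ℤ), b ^ (1 : ℤ), b⁻¹, b ^ (0 : ℤ) * t, b ^ (1 : ℤ) * t, b⁻¹ * t} : Finset G) := by
      apply Nat.card_le_card_of_injective (fun x : VV S a s => (⟨((x : Subgroup.normalizer (S : Set G)) : G), ?_⟩ : ({b ^ (0 : ℤ), b ^ (1 : ℤ), b⁻¹, b ^ (0 : ℤ) * t, b ^ (1 : ℤ) * t, b⁻¹ * t} : Finset G)))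
      · intro x y hxy
        have := congrArg Subtype.val hxy
        exact Subtype.ext (Subtype.ext this)
      · obtain ⟨j, hj⟩ := D.mem_VV_iff.mp x.2
        simp only [Finset.mem_insert, Finset.mem_singleton]
        rcases hj with h | h <;> rcases D.swap.zpow_mod j with h' | h' | h' <;> rw [h, h'] <;> simp
    refine le_trans hinj ?_
    rw [Nat.card_eq_fintype_card, Fintype.card_coe]
    exact Finset.card_le_six
  exact le_antisymm hle (Nat.le_of_dvd Nat.card_pos d6)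

end Dat

end Cfsg.Agent.Lib.H25Tri
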