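import Cfsg.Agent.Lib.H25TriE
import Cfsg.Agent.Lib.ClSeven
import Cfsg.Agent.Lib.Simple168

/-!
# Sylow 3-subgroup of order nine with `N(T)/T` a four-group, main argument (helper25)
-/

set_option autoImplicit false
set_option linter.all false
set_option maxHeartbeats 400000

namespace Cfsg.Agent.Lib.H25Tri

open Cfsg Cfsg.Agent.Lib.H25Nine

universe u v

variable {G : Type u} [Group G] {S : Subgroup G} {a b s t : G} [Finite G]

/-- a subgroup of order prime to three normalized by `S` -/
theorem eq_bot_of_inv (h : TIS S) (hnc : ¬ IsCyclic S) (hCS : Subgroup.centralizer (S : Set G) ≤ S)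
    (N : Subgroup G) (hSN : S ≤ Subgroup.normalizer (N : Set G)) (h3 : ¬ 3 ∣ Nat.card N) : N = ⊥ := by
  have hf : Fact (Nat.Prime 3) := ⟨Nat.prime_three⟩
  have hcomm : IsMulCommutative S := isMulCommutative_iff_of_setLike.mpr (fun a ha b hb => h.comm a ha b hb)
  have hcop : (Nat.card S).Coprime (Nat.card N) := by
    obtain ⟨P, hP⟩ := h.sylow
    obtain ⟨n, hn⟩ := IsPGroup.iff_card.mp P.isPGroup'
    rw [← hP, hn]
    exact Nat.Coprime.pow_left n ((Nat.Prime.coprime_iff_not_dvd Nat.prime_three).mpr h3)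
  have hN : N ⊓ S = ⊥ := by
    apply Subgroup.inf_eq_bot_of_coprime
    exact hcop.symm
  have := CoprimeGen.iSup_centralizer_eq hcomm hnc (K := N) hSN hcop
  rw [eq_bot_iff, ← this]
  apply iSup₂_le
  rintro a ⟨ha, ha1⟩ x ⟨hx, hxa⟩
  have hxN := h.cent a ha ha1 hxa
  rw [← hN]
  refine ⟨hx, hCS ?_⟩
  rw [Subgroup.mem_centralizer_iff]
  intro t ht
  have h1 : x * t * x⁻¹ * t⁻¹ ∈ N ⊓ S := by
    constructor
    · have : x * t * x⁻¹ * t⁻¹ = x * (t * x⁻¹ * t⁻¹) := by group
      rw [this]
      exact N.mul_mem hx ((Subgroup.mem_normalizer_iff.mp (hSN ht) _).mp (N.inv_mem hx))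
    · exact S.mul_mem ((Subgroup.mem_normalizer_iff.mp hxN t).mp ht) (S.inv_mem ht)
  rw [hN, Subgroup.mem_bot] at h1
  have : x * t * x⁻¹ = t := by
    have := congrArg (fun y => y * t) h1
    simpa [mul_assoc] using this
  calc t * x = x * t * x⁻¹ * x := by rw [this]
    _ = x * t := by group

/-- in a normal subgroup, a Sylow subgroup is trivial if the number of Sylows is prime to three -/
theorem sylow_trivial (h : TIS S) (hnc : ¬ IsCyclic S) (hCS : Subgroup.centralizer (S : Set G) ≤ S)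
    (K : Subgroup G) [hK : K.Normal] (p : ℕ) [hp : Fact p.Prime] (hp3 : p ≠ 3)
    (hn : ¬ 3 ∣ Nat.card (Sylow p K)) : ¬ p ∣ Nat.card K := by
  have hf : Fact (Nat.Prime 3) := ⟨Nat.prime_three⟩
  let f : S →* MulAut K := (MulAut.conjNormal (H := K)).comp S.subtype
  letI : MulAction S (Sylow p K) := MulAction.compHom _ f
  have hS3 : IsPGroup 3 S := by
    obtain ⟨P, hP⟩ := h.sylow
    rw [← hP]; exact P.isPGroup'
  obtain ⟨P, hP⟩ := hS3.nonempty_fixed_point_of_prime_not_dvd_card (α := Sylow p K) hn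
  have hinv : S ≤ Subgroup.normalizer (((P : Subgroup K).map K.subtype : Subgroup G) : Set G) := by
    intro x hx
    apply mem_norm_of
    rintro _ ⟨y, hy, rfl⟩
    have h1 : f ⟨x, hx⟩ • P = P := hP ⟨x, hx⟩
    have h2 : f ⟨x, hx⟩ y ∈ (P : Subgroup K) := by
      rw [← h1, Sylow.pointwise_smul_def]
      exact Subgroup.smul_mem_pointwise_smul _ (f ⟨x, hx⟩) _ hy
    exact ⟨_, h2, rfl⟩
  have h3 : Nat.card ((P : Subgroup K).map K.subtype : Subgroup G) = Nat.card (P : Subgroup K) :=
    (Nat.card_congr (Subgroup.equivMapOfInjective _ _ K.subtype_injective).toEquiv).symm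
  have h4 := eq_bot_of_inv h hnc hCS _ hinv (by
    rw [h3]
    obtain ⟨n, hn⟩ := IsPGroup.iff_card.mp P.isPGroup'
    rw [hn]
    intro hd
    have := (Nat.prime_dvd_prime_iff_eq Nat.prime_three hp.out).mp (Nat.prime_three.dvd_of_dvd_pow hd)
    exact hp3 this.symm)
  rw [Subgroup.map_eq_bot_iff, Subgroup.ker_subtype, le_bot_iff] at h4
  intro hd
  have h5 : p ∣ Nat.card (P : Subgroup K) := P.dvd_card_of_dvd_card hd
  rw [h4] at h5
  simp at h5
  exact hp.out.one_lt.ne' h5

section A5

open Equiv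

def w1 : alternatingGroup (Fin 5) := ⟨swap 0 1 * swap 2 3, by rw [Perm.mem_alternatingGroup]; decide⟩
def w2 : alternatingGroup (Fin 5) := ⟨swap 0 2 * swap 1 3, by rw [Perm.mem_alternatingGroup]; decide⟩
def w3 : alternatingGroup (Fin 5) := ⟨swap 0 3 * swap 1 2, by rw [Perm.mem_alternatingGroup]; decide⟩
def cc : alternatingGroup (Fin 5) := ⟨swap 0 1 * swap 1 2, by rw [Perm.mem_alternatingGroup]; decide⟩

set_option maxRecDepth 20000 in
def W : Subgroup (alternatingGroup (Fin 5)) where
  carrier := (({1, w1, w2, w3} : Finset (alternatingGroup (Fin 5))) : Set _)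
  one_mem' := by simp
  mul_mem' := by
    intro a b ha hb
    simp only [Finset.coe_insert, Finset.coe_singleton, Set.mem_insert_iff, Set.mem_singleton_iff] at ha hb ⊢
    rcases ha with rfl | rfl | rfl | rfl <;> rcases hb with rfl | rfl | rfl | rfl <;> decide
  inv_mem' := by
    intro a ha
    simp only [Finset.coe_insert, Finset.coe_singleton, Set.mem_insert_iff, Set.mem_singleton_iff] at ha ⊢
    rcases ha with rfl | rfl | rfl | rfl <;> decide

def WF : Finset (alternatingGroup (Fin 5)) := {1, w1, w2, w3}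

theorem mem_W (x : alternatingGroup (Fin 5)) : x ∈ W ↔ x ∈ WF := Iff.rfl

set_option maxRecDepth 20000 in
theorem card_W : Nat.card W = 4 := by
  have h : Nat.card W = Nat.card WF := Nat.card_congr (Equiv.subtypeEquivRight mem_W)
  rw [h, Nat.card_eq_fintype_card, Fintype.card_coe]
  decide

set_option maxRecDepth 20000 in
theorem cc_norm : ∀ x ∈ W, cc * x * cc⁻¹ ∈ W := by
  intro x hx
  rw [mem_W] at hx ⊢
  revert x
  decide

set_option maxRecDepth 20000 in
theorem cc3 : orderOf cc = 3 := orderOf_eq_prime_iff.mpr ⟨by decide, by decide⟩ 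

theorem n2_A5 {K : Type v} [Group K] [Finite K] (e : K ≃* alternatingGroup (Fin 5)) :
    ¬ 3 ∣ Nat.card (Sylow 2 K) := by
  have hf : Fact (Nat.Prime 2) := ⟨Nat.prime_two⟩
  have hK : Nat.card K = 60 := by
    rw [Nat.card_congr e.toEquiv, nat_card_alternatingGroup]
    simp
    decide
  set W' : Subgroup K := W.map e.symm.toMonoidHom with hW'
  have hc : Nat.card W' = 4 := by
    rw [hW', ← card_W]
    exact (Nat.card_congr (Subgroup.equivMapOfInjective _ _ e.symm.injective).toEquiv).symm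
  have hfac : (Nat.card K).factorization 2 = 2 := by
    rw [hK]
    rw [show 60 = 2 ^ 2 * 15 by norm_num, Nat.factorization_mul (by norm_num) (by norm_num), Nat.prime_two.factorization_pow]
    simp [Nat.factorization_eq_zero_of_not_dvd (show ¬ 2 ∣ 15 by norm_num)]
  let P : Sylow 2 K := Sylow.ofCard W' (by rw [hc, hfac]; norm_num)
  rw [P.card_eq_index_normalizer]
  have h1 := (Subgroup.normalizer (P : Set K)).card_mul_index
  rw [hK] at h1
  have h2 : e.symm cc ∈ Subgroup.normalizer (P : Set K) := by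
    show _ ∈ Subgroup.normalizer ((P : Subgroup K) : Set K)
    apply mem_norm_of
    rintro _ ⟨y, hy, rfl⟩
    refine ⟨cc * y * cc⁻¹, cc_norm y hy, ?_⟩
    simp
  have h3 : 3 ∣ Nat.card (Subgroup.normalizer (P : Set K)) := by
    have := Subgroup.orderOf_dvd_natCard _ h2
    rwa [orderOf_injective e.symm.toMonoidHom e.symm.injective cc |> fun h => (h : orderOf (e.symm cc) = orderOf cc), cc3] at this
  intro h4
  have := Nat.mul_dvd_mul h3 h4
  rw [h1] at this
  omega

theorem n7_168 {K : Type v} [Group K] [Finite K] (hK : Nat.card K = 168) :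
    ¬ 3 ∣ Nat.card (Sylow 7 K) := by
  have hf : Fact (Nat.Prime 7) := ⟨by norm_num⟩
  have h1 := card_sylow_modEq_one 7 K
  have h2 : Nat.card (Sylow 7 K) ∣ 24 := by
    obtain ⟨P⟩ : Nonempty (Sylow 7 K) := inferInstance
    have h3 := P.card_dvd_index
    have h4 := (P : Subgroup K).card_mul_index
    rw [hK] at h4
    have h5 : 7 ∣ Nat.card (P : Subgroup K) := P.dvd_card_of_dvd_card (by rw [hK]; norm_num)
    obtain ⟨k, hk⟩ := h5
    rw [hk] at h4
    have h6 : (P : Subgroup K).index ∣ 24 := ⟨k, by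
      have : 7 * (k * (P : Subgroup K).index) = 7 * 24 := by rw [← mul_assoc, h4]
      have := Nat.eq_of_mul_eq_mul_left (by norm_num) this
      rw [← this, mul_comm]⟩
    exact h3.trans h6
  intro h3
  have h4 := Nat.le_of_dvd (by norm_num) h2
  unfold Nat.ModEq at h1
  interval_cases Nat.card (Sylow 7 K) <;> omega

end A5

end Cfsg.Agent.Lib.H25Tri
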