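import Cfsg.Agent.Lib.H25TriF

/-!
# Sylow 3-subgroup of order nine with `N(T)/T` a four-group, end of the argument (helper25)
-/

set_option autoImplicit false
set_option linter.all false
set_option maxHeartbeats 400000

namespace Cfsg.Agent.Lib.H25Tri

open Cfsg Cfsg.Agent.Lib.H25Nine

universe u v

variable {G : Type u} [Group G] {S : Subgroup G} {a b s t : G} [Finite G]

namespace Dat

theorem s_inv (D : Dat S a b s t) : s⁻¹ = s := by rw [inv_eq_iff_mul_eq_one]; exact D.s2

/-- every element of the normalizer is `y * w` with `w` of order at most two -/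
theorem form (D : Dat S a b s t) {x : G} (hx : x ∈ Subgroup.normalizer (S : Set G)) :
    ∃ y ∈ S, ∃ w ∈ Subgroup.normalizer (S : Set G), w * w = 1 ∧ x = y * w := by
  obtain ⟨y, hy, h⟩ := D.coset x hx
  refine ⟨y, hy, ?_⟩
  rcases h with h | h | h | h
  · exact ⟨1, one_mem _, by simp, by rw [h, mul_one]⟩
  · exact ⟨s, D.hs, D.s2, h⟩
  · exact ⟨t, D.ht, D.t2, h⟩
  · refine ⟨s * t, mul_mem D.hs D.ht, ?_, h⟩
    calc s * t * (s * t) = s * (t * s) * t := by group
      _ = (s * s) * (t * t) := by rw [← D.st]; group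
      _ = 1 := by rw [D.s2, D.t2, one_mul]

theorem sq_mem (D : Dat S a b s t) {x : G} (hx : x ∈ Subgroup.normalizer (S : Set G)) : x * x ∈ S := by
  obtain ⟨y, hy, w, hw, hw2, rfl⟩ := D.form hx
  have : y * w * (y * w) = y * (w * y * w⁻¹) := by
    have hwi : w⁻¹ = w := by rw [inv_eq_iff_mul_eq_one]; exact hw2
    rw [hwi]; group
  rw [this]
  exact S.mul_mem hy ((Subgroup.mem_normalizer_iff.mp hw y).mp hy)

/-- `s * t` inverts `S` -/
theorem zinv (D : Dat S a b s t) {y : G} (hy : y ∈ S) : (s * t) * y = y⁻¹ * (s * t) := by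
  obtain ⟨i, j, rfl⟩ := D.gen y hy
  have hab : a ^ (-i) * b ^ (-j) = b ^ (-j) * a ^ (-i) := D.tis.comm _ (S.zpow_mem D.ha _) _ (S.zpow_mem D.hb _)
  calc s * t * (a ^ i * b ^ j) = s * (t * a ^ i) * b ^ j := by group
    _ = s * a ^ i * (t * b ^ j) := by rw [D.tai]; group
    _ = a ^ (-i) * (s * b ^ (-j)) * t := by rw [D.tbi, D.sai]; group
    _ = a ^ (-i) * b ^ (-j) * (s * t) := by rw [D.sbi]; group
    _ = (a ^ i * b ^ j)⁻¹ * (s * t) := by rw [hab]; group

theorem z2 (D : Dat S a b s t) : (s * t) * (s * t) = 1 := by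
  calc s * t * (s * t) = s * (t * s) * t := by group
      _ = (s * s) * (t * t) := by rw [← D.st]; group
      _ = 1 := by rw [D.s2, D.t2, one_mul]

theorem exists_K (D : Dat S a b s t) (hnc : ¬ IsConj t (s * t)) :
    ∃ K : Subgroup G, K.Normal ∧ t ∈ K ∧ a ∉ K := by
  classical
  set H := Subgroup.normalizer (S : Set G) with hH
  have hVn := D.VV_normal
  have ha : a ∈ H := Subgroup.le_normalizer D.ha
  set π : H →* H ⧸ VV S a s := QuotientGroup.mk' (VV S a s) with hπ
  have hker : ∀ x : H, π x = 1 ↔ x ∈ VV S a s := fun x => QuotientGroup.eq_one_iff x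
  have hQ : Nat.card (H ⧸ VV S a s) = 6 := by
    have h1 : Nat.card H = Nat.card (H ⧸ VV S a s) * Nat.card (VV S a s) :=
      (VV S a s).card_eq_card_quotient_mul_card_subgroup
    have h2 : Nat.card H = 36 := D.cardN
    rw [h2, D.card_VV] at h1
    omega
  set c := π ⟨a, ha⟩ with hc
  have hc1 : c ≠ 1 := by
    rw [hc]
    intro h
    rw [hker, mem_VV] at h
    have h2 := h.2
    simp only at h2
    rw [D.sa] at h2
    exact D.inv_ne (mul_right_cancel h2)
  have hc3 : orderOf c = 3 := by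
    have hf : Fact (Nat.Prime 3) := ⟨Nat.prime_three⟩
    apply orderOf_eq_prime _ hc1
    rw [hc, ← map_pow]
    have : (⟨a, ha⟩ : H) ^ 3 = 1 := Subtype.ext D.a3
    rw [this, map_one]
  have hcc : ∀ q : H ⧸ VV S a s, (q = c ∨ q = c⁻¹) → q * q ≠ 1 := by
    intro q hq h
    have h1 : orderOf q = 3 := by
      rcases hq with rfl | rfl
      · exact hc3
      · rw [orderOf_inv]; exact hc3
    have h2 := orderOf_dvd_of_pow_eq_one (show q ^ 2 = 1 by rw [sq]; exact h)
    rw [h1] at h2
    omega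
  have hsq : ∀ h : H, (π h = c ∨ π h = c⁻¹) → ((h * h : H) : G) ∈ S ∧ ((h * h : H) : G) ≠ 1 := by
    intro h hh
    refine ⟨D.sq_mem h.2, fun h1 => ?_⟩
    have h2 : h * h = 1 := Subtype.ext h1
    apply hcc _ hh
    rw [← map_mul, h2, map_one]
  have hTI : ∀ h : H, (π h = c ∨ π h = c⁻¹) → ∀ g : G, g * (h : G) * g⁻¹ ∈ H → g ∈ H := by
    intro h hh g hg
    obtain ⟨h1, h2⟩ := hsq h hh
    apply D.tis.ti h1 h2
    have h3 : g * ((h * h : H) : G) * g⁻¹ = (g * (h : G) * g⁻¹) * (g * (h : G) * g⁻¹) := by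
      push_cast; group
    rw [h3]
    exact D.sq_mem hg
  have htV : (⟨t, D.ht⟩ : H) ∈ VV S a s := D.mem_VV_iff.mpr ⟨0, Or.inr (by simp)⟩
  obtain ⟨K, hK, htK, haK⟩ := key H π (QuotientGroup.mk'_surjective _) hQ c (π ⟨s, D.hs⟩) hc3
    (by
      rw [hc, ← map_inv, ← map_mul, ← map_mul, ← map_inv]
      congr 1
      apply Subtype.ext
      push_cast
      rw [D.sa]; group)
    hTI ⟨t, D.ht⟩ ((hker _).mpr htV) (Subtype.ext D.t2) (by
      intro x y hx hy h hxy hh
      obtain ⟨h1, h2⟩ := hsq h hh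
      simp only at hx hy
      have inv2 : ∀ z : G, IsConj t z → z * z = 1 := by
        intro z hz
        obtain ⟨g, rfl⟩ := isConj_iff.mp hz
        calc g * t * g⁻¹ * (g * t * g⁻¹) = g * (t * t) * g⁻¹ := by group
          _ = 1 := by rw [D.t2]; group
      have hx2 := inv2 x hx
      have hy2 := inv2 y hy
      have hxi : x⁻¹ = x := by rw [inv_eq_iff_mul_eq_one]; exact hx2
      have hyi : y⁻¹ = y := by rw [inv_eq_iff_mul_eq_one]; exact hy2
      have hxH : x ∈ H := by
        apply D.tis.ti h1 h2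
        have : x * ((h * h : H) : G) * x⁻¹ = ((h * h : H) : G)⁻¹ := by
          push_cast
          rw [hxy]
          simp only [mul_inv_rev, hxi, hyi]
          calc x * (x * y * (x * y)) * x = (x * x) * y * x * y * x := by group
            _ = _ := by rw [hx2]; group
        rw [this]
        exact S.inv_mem h1
      have hyH : y ∈ H := by
        have : y = x * (h : G) := by
          rw [hxy, ← mul_assoc, hx2, one_mul]
        rw [this]
        exact H.mul_mem hxH h.2
      -- each conjugate of t in H is in V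
      have hco : ∀ z : H, IsConj t (z : G) → π z = 1 := by
        intro z hz
        rw [hker]
        have hz2 := inv2 z hz
        have hfin : ∀ u ∈ S, u ≠ 1 → (z : G) * u = u * z → z ∈ VV S a s := by
          intro u hu hu1 hzu
          obtain ⟨n, hn, hn'⟩ := fuse D.tis hz D.ha D.ha1 D.ta hu hu1 hzu
          have h3 : z = (⟨n, hn⟩ : H)⁻¹ * ⟨t, D.ht⟩ * ((⟨n, hn⟩ : H)⁻¹)⁻¹ := by
            apply Subtype.ext
            push_cast
            rw [← hn']; group
          rw [h3]
          exact hVn.conj_mem _ htV _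
        obtain ⟨w, hw, hzw⟩ := D.coset z z.2
        have hwb : ∀ u ∈ S, w * u = u * w := fun u hu => D.tis.comm _ hw _ hu
        rcases hzw with hzw | hzw | hzw | hzw
        · apply hfin a D.ha D.ha1
          rw [hzw]; exact hwb a D.ha
        · apply hfin b D.hb D.hb1
          rw [hzw, mul_assoc, D.sb, ← mul_assoc, hwb b D.hb, mul_assoc]
        · apply hfin a D.ha D.ha1
          rw [hzw, mul_assoc, D.ta, ← mul_assoc, hwb a D.ha, mul_assoc]
        · exfalso
          apply hnc
          refine hz.trans (IsConj.symm ?_)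
          rw [isConj_iff]
          refine ⟨w * w, ?_⟩
          have hw3 := D.tis.exp w hw
          have hww : (w * w)⁻¹ = w := by
            rw [inv_eq_iff_mul_eq_one, ← hw3, pow_succ, sq]
          rw [hww, mul_assoc, D.zinv hw, ← mul_assoc, hzw]
          rw [mul_inv_cancel_right]
      have h6 : h = ⟨x, hxH⟩ * ⟨y, hyH⟩ := Subtype.ext hxy
      have h7 : π h = 1 := by rw [h6, map_mul, hco ⟨x, hxH⟩ hx, hco ⟨y, hyH⟩ hy, one_mul]
      rw [h7] at hh
      rcases hh with h | h
      · exact hc1 h.symm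
      · exact hc1 (inv_eq_one.mp h.symm))
  exact ⟨K, hK, htK, haK ⟨a, ha⟩ rfl⟩

end Dat

end Cfsg.Agent.Lib.H25Tri
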