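import Cfsg.Agent.Lib.H25TriG

/-!
# Sylow 3-subgroup of order nine with `N(T)/T` a four-group, conclusion (helper25)
-/

set_option autoImplicit false
set_option linter.all false
set_option maxHeartbeats 400000

namespace Cfsg.Agent.Lib.H25Tri

open Cfsg Cfsg.Agent.Lib.H25Nine

universe u v

variable {G : Type u} [Group G] {S : Subgroup G} {a b s t : G} [Finite G]

namespace Dat

theorem core_bot (D : Dat S a b s t) : pPrimeCore 3 G = ⊥ := by
  have hf : Fact (Nat.Prime 3) := ⟨Nat.prime_three⟩
  have := CFCore.pPrimeCore_normal 3 G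
  apply eq_bot_of_inv D.tis D.cyc D.CS _ (by rw [Subgroup.normalizer_eq_top]; exact le_top)
  exact CFCore.pPrimeCore_not_dvd

theorem main_nc (D : Dat S a b s t) (hnc : ¬ IsConj t (s * t)) : S.Normal := by
  classical
  have hf : Fact (Nat.Prime 3) := ⟨Nat.prime_three⟩
  obtain ⟨K, hK, htK, haK⟩ := D.exists_K hnc
  have hbb : b⁻¹ * b⁻¹ = b := by
    have := D.b3
    rw [inv_mul_eq_iff_eq_mul, inv_eq_iff_mul_eq_one, ← mul_assoc]
    rwa [pow_succ, sq] at this
  have haa : a⁻¹ * a⁻¹ = a := by
    have := D.a3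
    rw [inv_mul_eq_iff_eq_mul, inv_eq_iff_mul_eq_one, ← mul_assoc]
    rwa [pow_succ, sq] at this
  have hbK : b ∈ K := by
    have h1 : t * (b * t⁻¹ * b⁻¹) ∈ K := K.mul_mem htK (hK.conj_mem _ (K.inv_mem htK) b)
    have h2 : t * (b * t⁻¹ * b⁻¹) = b := by
      calc t * (b * t⁻¹ * b⁻¹) = (t * b) * t⁻¹ * b⁻¹ := by group
        _ = b⁻¹ * b⁻¹ := by rw [D.tb]; group
        _ = b := hbb
    rwa [h2] at h1
  have hKS : ∀ x ∈ K, x ∈ S → ∃ j : ℤ, x = b ^ j := by
    intro x hx hxS
    obtain ⟨i, j, rfl⟩ := D.gen x hxS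
    have h1 : a ^ i ∈ K := by
      have := K.mul_mem hx (K.zpow_mem hbK (-j))
      simpa [mul_assoc] using this
    rcases D.zpow_mod i with h | h | h
    · exact ⟨j, by rw [h, one_mul]⟩
    · rw [h] at h1; exact absurd h1 haK
    · rw [h] at h1; exact absurd ((K.inv_mem_iff).mp h1) haK
  -- the centralizer of `b` in `K`
  set b' : K := ⟨b, hbK⟩ with hb'
  have hb3 : orderOf b' = 3 := by
    rw [← Subgroup.orderOf_coe]
    exact orderOf_eq_prime D.b3 D.hb1
  have hcX : Subgroup.centralizer ((Subgroup.zpowers b' : Subgroup K) : Set K) = Subgroup.zpowers b' := by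
    apply le_antisymm
    · intro x hx
      rw [Subgroup.mem_centralizer_iff] at hx
      have h1 : b * (x : G) = x * b := congrArg Subtype.val (hx b' (Subgroup.mem_zpowers b'))
      have hxN : (x : G) ∈ Subgroup.normalizer (S : Set G) := by
        apply D.tis.cent b D.hb D.hb1
        rw [Subgroup.mem_centralizer_singleton_iff]
        exact h1.symm
      have hxa : (x : G) * a = a * x ∨ (x : G) * a = a⁻¹ * x := by
        obtain ⟨y, hy, h⟩ := D.coset x hxN
        have hya : y * a = a * y := D.tis.comm _ hy _ D.ha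
        have hya' : y * a⁻¹ = a⁻¹ * y := D.tis.comm _ hy _ (S.inv_mem D.ha)
        rcases h with h | h | h | h <;> rw [h]
        · left; exact hya
        · right; rw [mul_assoc, D.sa, ← mul_assoc, hya', mul_assoc]
        · left; rw [mul_assoc, D.ta, ← mul_assoc, hya, mul_assoc]
        · right; rw [mul_assoc, mul_assoc, D.ta, ← mul_assoc s, D.sa, ← mul_assoc, ← mul_assoc, hya']; group
      have hxa' : (x : G) * a = a * x := by
        rcases hxa with h | h
        · exact h
        · exfalso
          apply haK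
          have h2 : (x : G) * (a * (x : G)⁻¹ * a⁻¹) ∈ K := K.mul_mem x.2 (hK.conj_mem _ (K.inv_mem x.2) a)
          have h3 : (x : G) * (a * (x : G)⁻¹ * a⁻¹) = a := by
            calc (x : G) * (a * (x : G)⁻¹ * a⁻¹) = (x * a) * (x : G)⁻¹ * a⁻¹ := by group
              _ = a⁻¹ * a⁻¹ := by rw [h]; group
              _ = a := haa
          rwa [h3] at h2
      have hxS : (x : G) ∈ S := by
        apply D.CS
        rw [Subgroup.mem_centralizer_iff]
        intro y hy
        obtain ⟨i, j, rfl⟩ := D.gen y hy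
        have c1 : Commute (x : G) a := hxa'
        have c2 : Commute (x : G) b := h1.symm
        exact ((c1.zpow_right i).mul_right (c2.zpow_right j)).symm.eq
      obtain ⟨j, hj⟩ := hKS x x.2 hxS
      exact Subgroup.mem_zpowers_iff.mpr ⟨j, Subtype.ext (by rw [hj]; rfl)⟩
    · intro x hx
      rw [Subgroup.mem_centralizer_iff]
      intro y hy
      obtain ⟨i, rfl⟩ := Subgroup.mem_zpowers_iff.mp hx
      obtain ⟨j, rfl⟩ := Subgroup.mem_zpowers_iff.mp hy
      rw [← zpow_add, ← zpow_add, add_comm]
  have hX3 : Nat.card (Subgroup.zpowers b') = 3 := by rw [Nat.card_zpowers, hb3]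
  have hcore : pPrimeCore 3 K = ⊥ := CFMin.pPrimeCore_sub_eq_bot hK D.core_bot
  have hbot : ∀ N : Subgroup K, N.Normal → (Nat.card N).Coprime 3 → N = ⊥ := by
    intro N hN h
    have := CFCore.le_pPrimeCore hN h
    rwa [hcore, le_bot_iff] at this
  rcases S3331.result (Subgroup.zpowers b') hX3 hcX with ⟨N, hN, -, hc, h⟩ | ⟨N, hN, -, h2, ⟨e⟩⟩ | hpsl
  · -- small case
    have hN1 := hbot N hN hc
    have hKc : Nat.card K = 3 ∨ Nat.card K = 6 := by
      have h1 : Nat.card K = Nat.card (K ⧸ N) * Nat.card N := N.card_eq_card_quotient_mul_card_subgroup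
      have h2 : Nat.card N = 1 := by rw [hN1]; simp
      rw [h2, mul_one] at h1
      rcases h with h | ⟨⟨e⟩⟩
      · left; rw [h1, h]
      · right
        rw [h1, Nat.card_congr e.toEquiv, Nat.card_eq_fintype_card, Fintype.card_perm, Fintype.card_fin]
        rfl
    have hsq : ∀ y : K, y * y ∈ Subgroup.zpowers b' := by
      intro y
      have h1 := (Subgroup.zpowers b').card_mul_index
      rw [hX3] at h1
      rcases hKc with h | h
      · have h2 : (Subgroup.zpowers b').index = 1 := by omega
        rw [Subgroup.index_eq_one] at h2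
        rw [h2]; exact Subgroup.mem_top _
      · have h2 : (Subgroup.zpowers b').index = 2 := by omega
        exact Subgroup.mul_self_mem_of_index_two h2 y
    apply normal_of_zpowers D.tis D.hb D.hb1
    intro g
    have hy : g * b * g⁻¹ ∈ K := hK.conj_mem _ hbK g
    set y : K := ⟨g * b * g⁻¹, hy⟩ with hyd
    have hy3 : y ^ 3 = 1 := by
      apply Subtype.ext
      push_cast
      rw [hyd]
      simp only
      rw [conj_pow, D.b3]; group
    have hy4 : y = (y * y) * (y * y) := by
      calc y = y ^ 3 * y := by rw [hy3, one_mul]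
        _ = _ := by rw [pow_succ, sq]; group
    have hyz : y ∈ Subgroup.zpowers b' := by
      rw [hy4]
      exact mul_mem (hsq y) (hsq y)
    obtain ⟨j, hj⟩ := Subgroup.mem_zpowers_iff.mp hyz
    refine Subgroup.mem_zpowers_iff.mpr ⟨j, ?_⟩
    have := congrArg Subtype.val hj
    simpa [hb', hyd] using this
  · exfalso
    have hN1 : N = ⊥ := by
      apply hbot N hN
      have : IsPGroup 2 N := by
        intro n
        refine ⟨1, Subtype.ext ?_⟩
        have := h2 n n.2
        simpa using this
      obtain ⟨k, hk⟩ := IsPGroup.iff_card.mp this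
      rw [hk]
      exact Nat.Coprime.pow_left k (by norm_num)
    subst hN1
    have e2 : K ≃* alternatingGroup (Fin 5) := (QuotientGroup.quotientBot (G := K)).symm.trans e
    have hf2 : Fact (Nat.Prime 2) := ⟨Nat.prime_two⟩
    apply sylow_trivial D.tis D.cyc D.CS K 2 (by norm_num) (n2_A5 e2)
    have h1 : orderOf (⟨t, htK⟩ : K) ∣ Nat.card K := orderOf_dvd_natCard _
    have h3 : orderOf t = 2 := by
      apply orderOf_eq_prime (by rw [sq]; exact D.t2)
      rintro rfl
      have := D.tb
      rw [one_mul, mul_one] at this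
      exact D.swap.inv_ne this.symm
    rwa [← Subgroup.orderOf_coe, h3] at h1
  · exfalso
    obtain ⟨e⟩ := hpsl
    have hKc : Nat.card K = 168 := by
      rw [Nat.card_congr e.toEquiv]
      exact ClSeven.card_psl27
    have hf7 : Fact (Nat.Prime 7) := ⟨by norm_num⟩
    apply sylow_trivial D.tis D.cyc D.CS K 7 (by norm_num) (n7_168 hKc)
    rw [hKc]; norm_num

theorem main (D : Dat S a b s t) : S.Normal := by
  by_cases h1 : IsConj t (s * t)
  · by_cases h2 : IsConj s (t * s)
    · exfalso
      rw [← D.st] at h2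
      have h3 : IsConj t s := h1.trans h2.symm
      obtain ⟨n, hn, hn'⟩ := fuse D.tis h3 D.ha D.ha1 D.ta D.hb D.hb1 D.sb
      have hVn := D.VV_normal
      have htV : (⟨t, D.ht⟩ : Subgroup.normalizer (S : Set G)) ∈ VV S a s := D.mem_VV_iff.mpr ⟨0, Or.inr (by simp)⟩
      have h4 := hVn.conj_mem _ htV (⟨n, hn⟩⁻¹)
      rw [D.mem_VV_iff] at h4
      have h5 : n⁻¹ * t * n = s := by rw [← hn']; group
      push_cast at h4
      rw [inv_inv, h5] at h4
      have ha' : ∀ j : ℤ, b ^ j * a = a * b ^ j := fun j => D.tis.comm _ (S.zpow_mem D.hb j) _ D.ha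
      have h6 : s * a = a * s := by
        obtain ⟨j, h | h⟩ := h4
        · rw [h]; exact ha' j
        · rw [h, mul_assoc, D.ta, ← mul_assoc, ha', mul_assoc]
      rw [D.sa] at h6
      exact D.inv_ne (mul_right_cancel h6)
    · exact D.swap.main_nc h2
  · exact D.main_nc h1

end Dat

end Cfsg.Agent.Lib.H25Tri
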