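import Cfsg.Agent.Lib.H25TriH

/-!
# Coordinates for `N(T)/T` a four-group (helper25)
-/

set_option autoImplicit false
set_option linter.all false
set_option maxHeartbeats 400000

namespace Cfsg.Agent.Lib.H25Tri

open Cfsg Cfsg.Agent.Lib.H25Nine

universe u v

variable {G : Type u} [Group G] {S : Subgroup G} [Finite G]

theorem gen9 (h : TIS S) (hc : Nat.card S = 9) {u v : G} (hu : u ∈ S) (hu1 : u ≠ 1) (hv : v ∈ S)
    (hvu : v ∉ Subgroup.zpowers u) : ∀ x ∈ S, ∃ i j : ℤ, x = u ^ i * v ^ j := by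
  intro x hx
  have hf : Fact (Nat.Prime 3) := ⟨Nat.prime_three⟩
  set u' : S := ⟨u, hu⟩
  set v' : S := ⟨v, hv⟩
  set x' : S := ⟨x, hx⟩
  have hn : (Subgroup.zpowers u').Normal := by
    constructor
    intro n hn g
    have : g * n * g⁻¹ = n := by
      have : g * n = n * g := Subtype.ext (h.comm g g.2 n n.2)
      rw [this]; group
    rwa [this]
  have h3 : orderOf u' = 3 := orderOf_eq_prime (Subtype.ext (h.exp u hu)) (fun h => hu1 (congrArg Subtype.val h))
  have hq : Nat.card (S ⧸ Subgroup.zpowers u') = 3 := by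
    have h1 := (Subgroup.zpowers u').card_eq_card_quotient_mul_card_subgroup
    rw [Nat.card_zpowers, h3, hc] at h1
    omega
  have hv1 : (QuotientGroup.mk' (Subgroup.zpowers u') v') ≠ 1 := by
    intro h
    apply hvu
    have h1 : v' ∈ Subgroup.zpowers u' := (QuotientGroup.eq_one_iff v').mp h
    obtain ⟨k, hk⟩ := Subgroup.mem_zpowers_iff.mp h1
    exact Subgroup.mem_zpowers_iff.mpr ⟨k, congrArg Subtype.val hk⟩
  have h4 := mem_zpowers_of_prime_card hq hv1 (g' := QuotientGroup.mk' (Subgroup.zpowers u') x')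
  obtain ⟨j, hj⟩ := Subgroup.mem_zpowers_iff.mp h4
  have h5 : x' * (v' ^ j)⁻¹ ∈ Subgroup.zpowers u' := by
    rw [← QuotientGroup.eq_one_iff]
    show QuotientGroup.mk' (Subgroup.zpowers u') (x' * (v' ^ j)⁻¹) = 1
    rw [map_mul, map_inv, map_zpow, hj, mul_inv_cancel]
  obtain ⟨i, hi⟩ := Subgroup.mem_zpowers_iff.mp h5
  refine ⟨i, j, ?_⟩
  have h6 : x' = u' ^ i * v' ^ j := by rw [hi]; group
  exact congrArg Subtype.val h6

theorem inv_ne' (h : TIS S) {a : G} (ha : a ∈ S) (ha1 : a ≠ 1) : a⁻¹ ≠ a := by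
  intro h'
  apply ha1
  have h1 : a * a = 1 := by nth_rewrite 1 [← h']; exact inv_mul_cancel a
  have h2 := h.exp a ha
  rw [pow_succ, sq, h1, one_mul] at h2
  exact h2

/-- the elements of `S` centralized by `s` when `s` normalizes, is an involution and neither centralizes nor inverts -/
theorem split (h : TIS S) (hc : Nat.card S = 9) {s : G} (hs : s ∈ Subgroup.normalizer (S : Set G)) (hs2 : s * s = 1)
    (h1 : ∃ y ∈ S, s * y ≠ y * s) (h2 : ∃ y ∈ S, s * y ≠ y⁻¹ * s) :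
    ∃ b d : G, b ∈ S ∧ d ∈ S ∧ b ≠ 1 ∧ d ≠ 1 ∧ s * b = b * s ∧ s * d = d⁻¹ * s ∧
      (∀ x ∈ S, ∃ i j : ℤ, x = b ^ i * d ^ j) ∧ (∀ x ∈ S, s * x = x * s → ∃ i : ℤ, x = b ^ i) ∧
      (∀ x ∈ S, s * x = x⁻¹ * s → ∃ i : ℤ, x = d ^ i) := by
  have hsi : s⁻¹ = s := by rw [inv_eq_iff_mul_eq_one]; exact hs2
  have hcj : ∀ y ∈ S, s * y * s ∈ S := by
    intro y hy
    have := (Subgroup.mem_normalizer_iff.mp hs y).mp hy
    rwa [hsi] at this
  obtain ⟨y, hy, hyc⟩ := h1
  obtain ⟨w, hw, hwc⟩ := h2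
  have hmul : ∀ y ∈ S, s * (y * (s * y * s)) = (y * (s * y * s)) * s := by
    intro y hy
    rw [h.comm y hy _ (hcj y hy)]
    calc s * (s * y * s * y) = (s * s) * y * s * y := by group
      _ = y * s * y := by rw [hs2, one_mul]
      _ = y * s * y * (s * s) := by rw [hs2, mul_one]
      _ = y * (s * y * s) * s := by group
      _ = s * y * s * y * s := by rw [h.comm y hy _ (hcj y hy)]
  refine ⟨w * (s * w * s), y⁻¹ * (s * y * s), S.mul_mem hw (hcj w hw), S.mul_mem (S.inv_mem hy) (hcj y hy), ?_, ?_, hmul w hw, ?_, ?_⟩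
  · intro h3
    apply hwc
    have h4 : s * w * s = w⁻¹ := by
      rw [eq_inv_iff_mul_eq_one, ← h.comm _ hw _ (hcj w hw)]; exact h3
    rw [← h4, mul_assoc, hs2, mul_one]
  · intro h3
    apply hyc
    have h4 : s * y * s = y := by
      rw [inv_mul_eq_one] at h3; exact h3.symm
    calc s * y = s * y * s * s := by rw [mul_assoc _ s s, hs2, mul_one]
      _ = y * s := by rw [h4]
  · rw [mul_inv_rev, inv_inv]
    have e1 : (s * y * s)⁻¹ * y = y * (s * y * s)⁻¹ := h.comm _ (S.inv_mem (hcj y hy)) _ hy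
    rw [e1]
    have e2 : (s * y * s)⁻¹ = s * y⁻¹ * s := by rw [mul_inv_rev, mul_inv_rev, hsi]; group
    rw [e2]
    calc s * (y⁻¹ * (s * y * s)) = s * ((s * y * s) * y⁻¹) := by rw [h.comm _ (S.inv_mem hy) _ (hcj y hy)]
      _ = (s * s) * y * s * y⁻¹ := by group
      _ = y * s * y⁻¹ := by rw [hs2, one_mul]
      _ = y * (s * y⁻¹ * (s * s)) := by rw [hs2]; group
      _ = y * (s * y⁻¹ * s) * s := by group
  · -- generation
    set b := w * (s * w * s) with hb
    set d := y⁻¹ * (s * y * s) with hd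
    have hbS : b ∈ S := S.mul_mem hw (hcj w hw)
    have hdS : d ∈ S := S.mul_mem (S.inv_mem hy) (hcj y hy)
    have hb1 : b ≠ 1 := by
      intro h3
      apply hwc
      have h4 : s * w * s = w⁻¹ := by
        rw [eq_inv_iff_mul_eq_one, ← h.comm _ hw _ (hcj w hw)]; exact h3
      rw [← h4, mul_assoc, hs2, mul_one]
    have hd1 : d ≠ 1 := by
      intro h3
      apply hyc
      have h4 : s * y * s = y := by
        rw [hd, inv_mul_eq_one] at h3; exact h3.symm
      calc s * y = s * y * s * s := by rw [mul_assoc _ s s, hs2, mul_one]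
        _ = y * s := by rw [h4]
    have hsb : Commute s b := hmul w hw
    have hsd : s * d * s⁻¹ = d⁻¹ := by
      have e2 : (s * y * s)⁻¹ = s * y⁻¹ * s := by rw [mul_inv_rev, mul_inv_rev, hsi]; group
      rw [hsi, hd, mul_inv_rev, inv_inv, e2]
      calc s * (y⁻¹ * (s * y * s)) * s = s * y⁻¹ * s * y * (s * s) := by group
        _ = s * y⁻¹ * s * y := by rw [hs2, mul_one]
    have hdb : d ∉ Subgroup.zpowers b := by
      intro hdb
      obtain ⟨k, hk⟩ := Subgroup.mem_zpowers_iff.mp hdb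
      have h3 : s * d * s⁻¹ = d := by rw [← hk, (hsb.zpow_right k).eq]; group
      rw [hsd] at h3
      exact inv_ne' h hdS hd1 h3
    have hgen := gen9 h hc hbS hb1 hdS hdb
    have e3 : ∀ j : ℤ, s * d ^ j * s⁻¹ = (d ^ j)⁻¹ := fun j => by rw [← conj_zpow, hsd, inv_zpow]
    have e4 : ∀ i : ℤ, s * b ^ i * s⁻¹ = b ^ i := fun i => by rw [(hsb.zpow_right i).eq]; group
    refine ⟨hgen, ?_, ?_⟩
    · intro x hx hsx
      obtain ⟨i, j, hij⟩ := hgen x hx
      refine ⟨i, ?_⟩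
      have h3 : s * x * s⁻¹ = b ^ i * (d ^ j)⁻¹ := by
        rw [hij]
        have : s * (b ^ i * d ^ j) * s⁻¹ = (s * b ^ i * s⁻¹) * (s * d ^ j * s⁻¹) := by group
        rw [this, e3, e4]
      have h4 : s * x * s⁻¹ = x := by rw [hsx]; group
      rw [h4, hij, mul_right_inj] at h3
      have h5 : d ^ j = 1 := by
        by_contra hne
        exact inv_ne' h (S.zpow_mem hdS j) hne h3.symm
      rw [hij, h5, mul_one]
    · intro x hx hsx
      obtain ⟨i, j, hij⟩ := hgen x hx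
      refine ⟨j, ?_⟩
      have h3 : s * x * s⁻¹ = b ^ i * (d ^ j)⁻¹ := by
        rw [hij]
        have : s * (b ^ i * d ^ j) * s⁻¹ = (s * b ^ i * s⁻¹) * (s * d ^ j * s⁻¹) := by group
        rw [this, e3, e4]
      have h4 : s * x * s⁻¹ = x⁻¹ := by rw [hsx]; group
      rw [h4, hij, mul_inv_rev, h.comm _ (S.inv_mem (S.zpow_mem hdS j)) _ (S.inv_mem (S.zpow_mem hbS i)), mul_left_inj] at h3
      have h5 : b ^ i = 1 := by
        by_contra hne
        exact inv_ne' h (S.zpow_mem hbS i) hne h3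
      rw [hij, h5, one_mul]

/-- two commuting involutions, neither inverting `S` nor centralizing it -/
theorem pair (h : TIS S) (hc : Nat.card S = 9) {s t : G} (hs : s ∈ Subgroup.normalizer (S : Set G)) (hs2 : s * s = 1)
    (ht : t ∈ Subgroup.normalizer (S : Set G)) (ht2 : t * t = 1) (hst : s * t = t * s)
    (h1 : ∃ y ∈ S, s * y ≠ y * s) (h2 : ∃ y ∈ S, s * y ≠ y⁻¹ * s)
    (h3 : ∃ y ∈ S, t * y ≠ y * t) (h4 : ∃ y ∈ S, t * y ≠ y⁻¹ * t) (h5 : ∃ y ∈ S, (s * t) * y ≠ y * (s * t)) :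
    ∃ a b : G, a ∈ S ∧ b ∈ S ∧ a ≠ 1 ∧ b ≠ 1 ∧ (∀ x ∈ S, ∃ i j : ℤ, x = a ^ i * b ^ j) ∧
      s * a = a⁻¹ * s ∧ s * b = b * s ∧ t * a = a * t ∧ t * b = b⁻¹ * t := by
  have hsi : s⁻¹ = s := by rw [inv_eq_iff_mul_eq_one]; exact hs2
  have hti : t⁻¹ = t := by rw [inv_eq_iff_mul_eq_one]; exact ht2
  obtain ⟨b, d, hb, hd, hb1, hd1, hsb, hsd, hgen, hcent, hinv⟩ := split h hc hs hs2 h1 h2
  -- `t` acts on `⟨b⟩` and on `⟨d⟩`
  have pw : ∀ c : G, c ∈ S → c ≠ 1 → ∀ i : ℤ, c ^ i = 1 ∨ c ^ i = c ∨ c ^ i = c⁻¹ := by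
    intro c hcS hc1 i
    have h3 : orderOf c = 3 := orderOf_eq_prime (h.exp c hcS) hc1
    have h5 := zpow_mod_orderOf c i
    rw [h3] at h5
    have h6 : i % 3 = 0 ∨ i % 3 = 1 ∨ i % 3 = 2 := by omega
    rcases h6 with h6 | h6 | h6
    · left; rw [← h5]; push_cast; rw [h6, zpow_zero]
    · right; left; rw [← h5]; push_cast; rw [h6, zpow_one]
    · right; right; rw [← h5]; push_cast; rw [h6]
      rw [eq_inv_iff_mul_eq_one]
      have h9 : c ^ (2 : ℤ) = c ^ 2 := by norm_cast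
      rw [h9, ← pow_succ, h.exp c hcS]
  have tact : ∀ c : G, c ∈ S → c ≠ 1 → (∃ i : ℤ, t * c * t⁻¹ = c ^ i) → t * c = c * t ∨ t * c = c⁻¹ * t := by
    rintro c hcS hc1 ⟨i, hi⟩
    rcases pw c hcS hc1 i with h6 | h6 | h6
    · exfalso
      rw [h6] at hi
      exact hc1 (conj_eq_one_iff.mp hi)
    · left
      rw [h6] at hi
      exact mul_inv_eq_iff_eq_mul.mp hi
    · right
      rw [h6] at hi
      exact mul_inv_eq_iff_eq_mul.mp hi
  have htc : ∀ y ∈ S, t * y * t⁻¹ ∈ S := fun y hy => (Subgroup.mem_normalizer_iff.mp ht y).mp hy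
  have hst' : s * t⁻¹ = t⁻¹ * s := by rw [hti]; exact hst
  have tb : t * b = b * t ∨ t * b = b⁻¹ * t := by
    apply tact b hb hb1
    apply hcent _ (htc b hb)
    calc s * (t * b * t⁻¹) = (s * t) * b * t⁻¹ := by group
      _ = t * (s * b) * t⁻¹ := by rw [hst]; group
      _ = t * b * (s * t⁻¹) := by rw [hsb]; group
      _ = t * b * t⁻¹ * s := by rw [hst']; group
  have td : t * d = d * t ∨ t * d = d⁻¹ * t := by
    apply tact d hd hd1
    apply hinv _ (htc d hd)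
    calc s * (t * d * t⁻¹) = (s * t) * d * t⁻¹ := by group
      _ = t * (s * d) * t⁻¹ := by rw [hst]; group
      _ = t * d⁻¹ * (s * t⁻¹) := by rw [hsd]; group
      _ = (t * d * t⁻¹)⁻¹ * s := by rw [hst']; group
  have ext2 : ∀ w : G, ∀ e f : ℤ, w * b = b ^ e * w → w * d = d ^ f * w → ∀ i j : ℤ, w * (b ^ i * d ^ j) = (b ^ (e * i) * d ^ (f * j)) * w := by
    intro w e f h1 h2 i j
    have h3 : w * b * w⁻¹ = b ^ e := by rw [h1]; group
    have h4 : w * d * w⁻¹ = d ^ f := by rw [h2]; group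
    have h5 : w * b ^ i * w⁻¹ = b ^ (e * i) := by rw [← conj_zpow, h3, zpow_mul]
    have h6 : w * d ^ j * w⁻¹ = d ^ (f * j) := by rw [← conj_zpow, h4, zpow_mul]
    rw [← h5, ← h6]; group
  have hgen' : ∀ x ∈ S, ∃ i j : ℤ, x = d ^ i * b ^ j := by
    intro x hx
    obtain ⟨i, j, hij⟩ := hgen x hx
    exact ⟨j, i, by rw [hij]; exact h.comm _ (S.zpow_mem hb i) _ (S.zpow_mem hd j)⟩
  rcases tb with tb | tb <;> rcases td with td | td
  · -- t centralizes S
    exfalso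
    obtain ⟨y, hy, hyt⟩ := h3
    obtain ⟨i, j, rfl⟩ := hgen y hy
    apply hyt
    have := ext2 t 1 1 (by rw [zpow_one]; exact tb) (by rw [zpow_one]; exact td) i j
    rwa [one_mul, one_mul] at this
  · -- s t centralizes S
    exfalso
    obtain ⟨y, hy, hyt⟩ := h5
    obtain ⟨i, j, rfl⟩ := hgen y hy
    apply hyt
    have := ext2 (s * t) 1 1 (by rw [zpow_one, mul_assoc, tb, ← mul_assoc, hsb, mul_assoc])
      (by
        rw [zpow_one, mul_assoc, td, ← mul_assoc]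
        have : s * d⁻¹ = d * s := by
          have h6 : s * d * s⁻¹ = d⁻¹ := by rw [hsd]; group
          have h7 : (s * d * s⁻¹)⁻¹ = d := by rw [h6, inv_inv]
          calc s * d⁻¹ = (s * d * s⁻¹)⁻¹ * s := by group
            _ = d * s := by rw [h7]
        rw [this, mul_assoc]) i j
    rwa [one_mul, one_mul] at this
  · exact ⟨d, b, hd, hb, hd1, hb1, hgen', hsd, hsb, td, tb⟩
  · -- t inverts
    exfalso
    obtain ⟨y, hy, hyt⟩ := h4
    obtain ⟨i, j, rfl⟩ := hgen y hy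
    apply hyt
    have := ext2 t (-1) (-1) (by rw [zpow_neg_one]; exact tb) (by rw [zpow_neg_one]; exact td) i j
    rw [this]
    congr 1
    rw [mul_inv_rev, ← zpow_neg, ← zpow_neg, h.comm _ (S.zpow_mem hd _) _ (S.zpow_mem hb _)]
    congr 2 <;> ring

end Cfsg.Agent.Lib.H25Tri
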