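import Mathlib

/-!
# The algebra of quadratic forms for `3^2 : D_8` (helper25)
-/

set_option autoImplicit false
set_option linter.all false
set_option maxHeartbeats 400000

namespace Cfsg.Agent.Lib.H25W

section dual

variable {K : Type*} [Field K] {a b e x u1 v1 u2 v2 g11 g12 g22 : K}

theorem dual11 (ha : a ≠ 0) (hb : b ≠ 0) (hx : x ≠ 0) (hxe : x = a + b + e)
    (h11 : u1 ^ 2 / a + v1 ^ 2 / b - (u1 + v1) ^ 2 / x = g11)
    (h12 : u1 * u2 / a + v1 * v2 / b - (u1 + v1) * (u2 + v2) / x = g12)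
    (h22 : u2 ^ 2 / a + v2 ^ 2 / b - (u2 + v2) ^ 2 / x = g22) :
    e * (g22 * u1 ^ 2 - 2 * g12 * u1 * u2 + g11 * u2 ^ 2) = (g11 * g22 - g12 ^ 2) * (a * (a + e)) := by
  obtain rfl : e = x - a - b := by rw [hxe]; ring
  subst h11 h12 h22
  field_simp
  ring

theorem dual12 (ha : a ≠ 0) (hb : b ≠ 0) (hx : x ≠ 0) (hxe : x = a + b + e)
    (h11 : u1 ^ 2 / a + v1 ^ 2 / b - (u1 + v1) ^ 2 / x = g11)
    (h12 : u1 * u2 / a + v1 * v2 / b - (u1 + v1) * (u2 + v2) / x = g12)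
    (h22 : u2 ^ 2 / a + v2 ^ 2 / b - (u2 + v2) ^ 2 / x = g22) :
    e * (g22 * u1 * v1 - g12 * (u1 * v2 + u2 * v1) + g11 * u2 * v2) = (g11 * g22 - g12 ^ 2) * (a * b) := by
  obtain rfl : e = x - a - b := by rw [hxe]; ring
  subst h11 h12 h22
  field_simp
  ring

theorem dual22 (ha : a ≠ 0) (hb : b ≠ 0) (hx : x ≠ 0) (hxe : x = a + b + e)
    (h11 : u1 ^ 2 / a + v1 ^ 2 / b - (u1 + v1) ^ 2 / x = g11)
    (h12 : u1 * u2 / a + v1 * v2 / b - (u1 + v1) * (u2 + v2) / x = g12)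
    (h22 : u2 ^ 2 / a + v2 ^ 2 / b - (u2 + v2) ^ 2 / x = g22) :
    e * (g22 * v1 ^ 2 - 2 * g12 * v1 * v2 + g11 * v2 ^ 2) = (g11 * g22 - g12 ^ 2) * (b * (b + e)) := by
  obtain rfl : e = x - a - b := by rw [hxe]; ring
  subst h11 h12 h22
  field_simp
  ring

end dual

/-- reduction of a ternary form -/
theorem ternary {K : Type*} [Field K] {q s m x b1 s1 c1 b2 s2 c2 : K} (hq : q ≠ 0) (hs : s ≠ 0) (hm : m ≠ 0)
    (hx : x ≠ 0) (hx' : x = q + s + m) :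
    (b1 - q * c1 / m) * (b2 - q * c2 / m) / q + (s1 - s * c1 / m) * (s2 - s * c2 / m) / s
      - ((b1 - q * c1 / m) + (s1 - s * c1 / m)) * ((b2 - q * c2 / m) + (s2 - s * c2 / m)) / x
    = b1 * b2 / q + s1 * s2 / s + c1 * c2 / m - (b1 + s1 + c1) * (b2 + s2 + c2) / x := by
  obtain rfl : m = x - q - s := by rw [hx']; ring
  field_simp
  ring

end Cfsg.Agent.Lib.H25W
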