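import Cfsg.Agent.Lib.H25Wa

/-!
# The algebra of quadratic forms for `3^2 : D_8`, conclusion (helper25)
-/

set_option autoImplicit false
set_option linter.all false
set_option maxHeartbeats 400000

namespace Cfsg.Agent.Lib.H25W

theorem quad (a b : ℂ) (h : a * b = 0) : a = 0 ∨ b = 0 := mul_eq_zero.mp h

/-- case `c' = 4 c`: the equation for `p` -/
theorem case1_p {p m c u u' : ℂ} (hp : p ≠ 0) (hm : m ≠ 0) (h3 : 3 * m * c ^ 2 = m + 1)
    (a1 : 8 * (u + p * c) ^ 2 + (u' + p * (4 * c)) ^ 2 = 8 * (p * (p + 1)))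
    (a2 : 8 * (u + p * c) * c + (u' + p * (4 * c)) * (4 * c) = 8 * p)
    (b1 : m * (11 * u ^ 2 + 6 * u * u' + u' ^ 2) = p * (p + m)) :
    (m * (1 + p + m) = 8 * p ∧ 3 * m * c * u = 3 * p ∧ 3 * m * c * u' = -(12 * p)) ∨ m * (1 + p + m) = 32 * p := by
  set X := 3 * m * c * u with hX
  set Y := 3 * m * c * u' with hY
  have hXY : 2 * X + Y = -(6 * p) := by
    rw [hX, hY]
    linear_combination (3 / 4 * m) * a2 - 6 * p * h3
  have e1 : 11 * X ^ 2 + 6 * X * Y + Y ^ 2 = 3 * ((m + 1) * (p * (p + m))) := by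
    apply mul_left_cancel₀ hm
    rw [hX, hY]
    linear_combination (9 * m ^ 2 * c ^ 2) * b1 + (3 * m * p * (p + m)) * h3
  have e2 : X ^ 2 - 4 * p * X + 11 * p ^ 2 = p * (m * (1 + p + m)) := by
    have hY' : Y = -(6 * p) - 2 * X := by linear_combination hXY
    rw [hY'] at e1
    linear_combination e1 / 3
  have e3 : (X + p) ^ 2 = 2 * p * (m * (1 + p + m)) := by
    have h1 : 8 * (X + p * (m + 1)) ^ 2 + (Y + 4 * p * (m + 1)) ^ 2 = 24 * (p * (p + 1)) * (m * (m + 1)) := by
      rw [hX, hY]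
      linear_combination (9 * m ^ 2 * c ^ 2) * a1 + (24 * m * (p * (p + 1)) - 8 * (2 * (3 * m * c * u) * p + p ^ 2 * (3 * m * c ^ 2 + m + 1)) - (2 * (3 * m * c * u') * (4 * p) + 16 * p ^ 2 * (3 * m * c ^ 2 + m + 1))) * h3
    have hY' : Y = -(6 * p) - 2 * X := by linear_combination hXY
    rw [hY'] at h1
    linear_combination h1 / 12
  have e4 : (X - 3 * p) * (X - 7 * p) = 0 := by linear_combination 2 * e2 - e3
  rcases mul_eq_zero.mp e4 with h | h
  · left
    have hx : X = 3 * p := by linear_combination h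
    refine ⟨?_, hx, by linear_combination hXY - 2 * hx⟩
    apply mul_left_cancel₀ hp
    rw [hx] at e3
    linear_combination -e3 / 2
  · right
    have hx : X = 7 * p := by linear_combination h
    apply mul_left_cancel₀ hp
    rw [hx] at e3
    linear_combination -e3 / 2

/-- case `c' = 4 c`: the equation for `q` -/
theorem case1_q {q m c w w' : ℂ} (hq : q ≠ 0) (hm : m ≠ 0) (h3 : 3 * m * c ^ 2 = m + 1)
    (a1 : 11 * (w + q * c) ^ 2 - 6 * (w + q * c) * (w' + q * (4 * c)) + (w' + q * (4 * c)) ^ 2 = q * (q + 1))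
    (a2 : 11 * (w + q * c) * c - 3 * ((w + q * c) * (4 * c) + (w' + q * (4 * c)) * c) + (w' + q * (4 * c)) * (4 * c) = q)
    (b1 : m * (2 * w ^ 2 + w' ^ 2) = 2 * q * (q + m)) :
    (m * (1 + q + m) = 8 * q ∧ 3 * m * c * w = -(3 * q) ∧ 3 * m * c * w' = -(6 * q)) ∨ 9 * (m * (1 + q + m)) = 8 * q := by
  set X := 3 * m * c * w with hX
  set Y := 3 * m * c * w' with hY
  have hXY : Y = X - 3 * q := by
    rw [hX, hY]
    linear_combination (3 * m) * a2 - 3 * q * h3
  have e1 : 2 * X ^ 2 + Y ^ 2 = 6 * ((m + 1) * (q * (q + m))) := by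
    apply mul_left_cancel₀ hm
    rw [hX, hY]
    linear_combination (9 * m ^ 2 * c ^ 2) * b1 + (6 * m * q * (q + m)) * h3
  have e2 : (X - q) ^ 2 = 2 * q * (m * (1 + q + m)) := by
    rw [hXY] at e1
    linear_combination e1 / 3
  have e3 : 2 * (X + q) ^ 2 = q * (m * (1 + q + m)) := by
    have h1 : 11 * (X + q * (m + 1)) ^ 2 - 6 * (X + q * (m + 1)) * (Y + 4 * q * (m + 1)) + (Y + 4 * q * (m + 1)) ^ 2 = 3 * (q * (q + 1)) * (m * (m + 1)) := by
      have k1 : X + q * (m + 1) = 3 * m * c * (w + q * c) := by rw [hX]; linear_combination (-q) * h3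
      have k2 : Y + 4 * q * (m + 1) = 3 * m * c * (w' + q * (4 * c)) := by rw [hY]; linear_combination (-4 * q) * h3
      rw [k1, k2]
      linear_combination (9 * m ^ 2 * c ^ 2) * a1 + (3 * m * (q * (q + 1))) * h3
    rw [hXY] at h1
    linear_combination h1 / 3
  have e4 : (X + 3 * q) * (3 * X + q) = 0 := by linear_combination 2 * e3 - e2
  rcases mul_eq_zero.mp e4 with h | h
  · left
    have hx : X = -(3 * q) := by linear_combination h
    refine ⟨?_, hx, by rw [hXY, hx]; ring⟩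
    apply mul_left_cancel₀ hq
    rw [hx] at e3
    linear_combination -e3
  · right
    have hx : X = -(q / 3) := by linear_combination h / 3
    apply mul_left_cancel₀ hq
    rw [hx] at e3
    linear_combination -9 * e3

/-- case `7 c' = 20 c`, `c = 7 d`, `c' = 20 d`: the equation for `p` -/
theorem case2_p {p m d u u' : ℂ} (hp : p ≠ 0) (hm : m ≠ 0) (h3 : 99 * m * d ^ 2 = m + 1)
    (a1 : 8 * (u + p * (7 * d)) ^ 2 + (u' + p * (20 * d)) ^ 2 = 8 * (p * (p + 1)))
    (a2 : 8 * (u + p * (7 * d)) * (7 * d) + (u' + p * (20 * d)) * (20 * d) = 8 * p)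
    (b1 : m * (11 * u ^ 2 + 6 * u * u' + u' ^ 2) = p * (p + m)) :
    (m * (1 + p + m) = 9800 * p ∧ m * d * u = 7 * p ∧ m * d * u' = -(20 * p)) ∨ m * (1 + p + m) = 32 * p := by
  set X := 99 * m * d * u with hX
  set Y := 99 * m * d * u' with hY
  have hXY : 14 * X + 5 * Y = -(198 * p) := by
    rw [hX, hY]
    linear_combination (99 / 4 * m) * a2 - (198 * p) * h3
  have hY' : Y = -(198 * p + 14 * X) / 5 := by linear_combination hXY / 5
  have e1 : 11 * X ^ 2 + 6 * X * Y + Y ^ 2 = 99 * ((m + 1) * (p * (p + m))) := by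
    apply mul_left_cancel₀ hm
    rw [hX, hY]
    linear_combination (99 ^ 2 * m ^ 2 * d ^ 2) * b1 + (99 * m * p * (p + m)) * h3
  have e2 : 17 * X ^ 2 - 132 * p * X + 12243 * p ^ 2 = 825 * p * (m * (1 + p + m)) := by
    rw [hY'] at e1
    linear_combination 25 / 3 * e1
  have e3 : (X + 7 * p) ^ 2 = 50 * p * (m * (1 + p + m)) := by
    have h1 : 8 * (X + 7 * p * (m + 1)) ^ 2 + (Y + 20 * p * (m + 1)) ^ 2 = 8 * 99 * (p * (p + 1)) * (m * (m + 1)) := by
      have k1 : X + 7 * p * (m + 1) = 99 * m * d * (u + p * (7 * d)) := by rw [hX]; linear_combination (-7 * p) * h3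
      have k2 : Y + 20 * p * (m + 1) = 99 * m * d * (u' + p * (20 * d)) := by rw [hY]; linear_combination (-20 * p) * h3
      rw [k1, k2]
      linear_combination (99 ^ 2 * m ^ 2 * d ^ 2) * a1 + (8 * 99 * m * (p * (p + 1))) * h3
    rw [hY'] at h1
    linear_combination 25 / 396 * h1
  have e4 : (X - 693 * p) * (X - 33 * p) = 0 := by linear_combination 2 * e2 - 33 * e3
  rcases mul_eq_zero.mp e4 with h | h
  · left
    have hx : X = 693 * p := by linear_combination h
    refine ⟨?_, ?_, ?_⟩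
    · apply mul_left_cancel₀ hp
      rw [hx] at e3
      linear_combination -e3 / 50
    · have : X = 99 * (m * d * u) := by rw [hX]; ring
      linear_combination (hx - this) / 99
    · have : Y = 99 * (m * d * u') := by rw [hY]; ring
      have h4 : Y = -(1980 * p) := by rw [hY', hx]; ring
      linear_combination (h4 - this) / 99
  · right
    have hx : X = 33 * p := by linear_combination h
    apply mul_left_cancel₀ hp
    rw [hx] at e3
    linear_combination -e3 / 50

/-- case `7 c' = 20 c`, `c = 7 d`, `c' = 20 d`: the equation for `q` -/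
theorem case2_q {q m d w w' : ℂ} (hq : q ≠ 0) (hm : m ≠ 0) (h3 : 99 * m * d ^ 2 = m + 1)
    (a1 : 11 * (w + q * (7 * d)) ^ 2 - 6 * (w + q * (7 * d)) * (w' + q * (20 * d)) + (w' + q * (20 * d)) ^ 2 = q * (q + 1))
    (a2 : 11 * (w + q * (7 * d)) * (7 * d) - 3 * ((w + q * (7 * d)) * (20 * d) + (w' + q * (20 * d)) * (7 * d)) + (w' + q * (20 * d)) * (20 * d) = q)
    (b1 : m * (2 * w ^ 2 + w' ^ 2) = 2 * q * (q + m)) :
    (49 * (m * (1 + q + m)) = 5000 * q ∧ 7 * (m * d * w) = -q ∧ 7 * (m * d * w') = -(10 * q)) ∨ 25 * (m * (1 + q + m)) = 8 * q := by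
  set X := 99 * m * d * w with hX
  set Y := 99 * m * d * w' with hY
  have hXY : Y = 17 * X + 99 * q := by
    rw [hX, hY]
    linear_combination (-99 * m) * a2 + (99 * q) * h3
  have e1 : 2 * X ^ 2 + Y ^ 2 = 198 * ((m + 1) * (q * (q + m))) := by
    apply mul_left_cancel₀ hm
    rw [hX, hY]
    linear_combination (99 ^ 2 * m ^ 2 * d ^ 2) * b1 + (198 * m * q * (q + m)) * h3
  have e2 : 97 * X ^ 2 + 1122 * q * X + 3201 * q ^ 2 = 66 * q * (m * (1 + q + m)) := by
    rw [hXY] at e1
    linear_combination e1 / 3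
  have e3 : 2 * (X + 7 * q) ^ 2 = q * (m * (1 + q + m)) := by
    have h1 : 11 * (X + 7 * q * (m + 1)) ^ 2 - 6 * (X + 7 * q * (m + 1)) * (Y + 20 * q * (m + 1)) + (Y + 20 * q * (m + 1)) ^ 2 = 99 * (q * (q + 1)) * (m * (m + 1)) := by
      have k1 : X + 7 * q * (m + 1) = 99 * m * d * (w + q * (7 * d)) := by rw [hX]; linear_combination (-7 * q) * h3
      have k2 : Y + 20 * q * (m + 1) = 99 * m * d * (w' + q * (20 * d)) := by rw [hY]; linear_combination (-20 * q) * h3
      rw [k1, k2]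
      linear_combination (99 ^ 2 * m ^ 2 * d ^ 2) * a1 + (99 * m * (q * (q + 1))) * h3
    rw [hXY] at h1
    linear_combination h1 / 99
  have e4 : (5 * X + 33 * q) * (7 * X + 99 * q) = 0 := by linear_combination 66 * e3 - e2
  rcases mul_eq_zero.mp e4 with h | h
  · right
    have hx : X = -(33 / 5 * q) := by linear_combination h / 5
    apply mul_left_cancel₀ hq
    rw [hx] at e3
    linear_combination -25 * e3
  · left
    have hx : X = -(99 / 7 * q) := by linear_combination h / 7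
    refine ⟨?_, ?_, ?_⟩
    · apply mul_left_cancel₀ hq
      rw [hx] at e3
      linear_combination -49 * e3
    · have : X = 99 * (m * d * w) := by rw [hX]; ring
      linear_combination 7 * (hx - this) / 99
    · have : Y = 99 * (m * d * w') := by rw [hY]; ring
      have h4 : Y = -(990 / 7 * q) := by rw [hXY, hx]; ring
      linear_combination 7 * (h4 - this) / 99

end Cfsg.Agent.Lib.H25W
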