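import Cfsg.Agent.Lib.H25Wb

/-!
# The algebra of quadratic forms for `3^2 : D_8`, final statement (helper25)
-/

set_option autoImplicit false
set_option linter.all false
set_option maxHeartbeats 400000

namespace Cfsg.Agent.Lib.H25W

theorem final_dual {p q s m : ℤ} (hp : (p : ZMod 9) = 1) (hq : (q : ZMod 9) = 1) (hs : (s : ZMod 9) = 1)
    (hm : (m : ZMod 9) = 2) {c c' u u' w w' v v' : ℂ}
    (a1 : 8 * (u + p * c) ^ 2 + (u' + p * c') ^ 2 = 8 * (p * (p + 1)))
    (a2 : 8 * (u + p * c) * c + (u' + p * c') * c' = 8 * p)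
    (a3 : m * (8 * c ^ 2 + c' ^ 2) = 8 * (m + 1))
    (e1 : 11 * (w + q * c) ^ 2 - 6 * (w + q * c) * (w' + q * c') + (w' + q * c') ^ 2 = q * (q + 1))
    (e2 : 11 * (w + q * c) * c - 3 * ((w + q * c) * c' + (w' + q * c') * c) + (w' + q * c') * c' = q)
    (e3 : m * (11 * c ^ 2 - 6 * c * c' + c' ^ 2) = m + 1)
    (b1 : m * (2 * w ^ 2 + w' ^ 2) = 2 * q * (q + m))
    (b2 : m * (2 * w * v + w' * v') = 2 * q * s)
    (b3 : m * (2 * v ^ 2 + v' ^ 2) = 2 * s * (s + m))
    (f1 : m * (11 * u ^ 2 + 6 * u * u' + u' ^ 2) = p * (p + m))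
    (f2 : m * (11 * u * v + 3 * (u * v' + u' * v) + u' * v') = p * s)
    (f3 : m * (11 * v ^ 2 + 6 * v * v' + v' ^ 2) = s * (s + m)) : s = 1 := by
  have hm0 : (m : ℂ) ≠ 0 := by
    intro h
    have : m = 0 := by exact_mod_cast h
    rw [this] at hm
    revert hm; decide
  have hp0 : (p : ℂ) ≠ 0 := by
    intro h
    have : p = 0 := by exact_mod_cast h
    rw [this] at hp
    revert hp; decide
  have hq0 : (q : ℂ) ≠ 0 := by
    intro h
    have : q = 0 := by exact_mod_cast h
    rw [this] at hq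
    revert hq; decide
  have hs0 : (s : ℂ) ≠ 0 := by
    intro h
    have : s = 0 := by exact_mod_cast h
    rw [this] at hs
    revert hs; decide
  have hm10 : (m : ℂ) + 1 ≠ 0 := by
    intro h
    have : m + 1 = 0 := by exact_mod_cast h
    have h2 : ((m + 1 : ℤ) : ZMod 9) = 0 := by rw [this]; rfl
    push_cast at h2
    rw [hm] at h2
    revert h2; decide
  have hc : (4 * c - c') * (20 * c - 7 * c') = 0 := by
    apply mul_left_cancel₀ hm0
    linear_combination 8 * e3 - a3
  have hv : (2 * v + v') * (10 * v + v') = 0 := by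
    apply mul_left_cancel₀ hm0
    linear_combination 2 * f3 - b3
  rcases mul_eq_zero.mp hc with hc | hc
  · have hc' : c' = 4 * c := by linear_combination -hc
    subst hc'
    have h3 : 3 * m * c ^ 2 = (m : ℂ) + 1 := by linear_combination a3 / 8
    rcases case1_p hp0 hm0 h3 a1 a2 f1 with ⟨hW, hu, hu'⟩ | hW
    swap
    · exfalso
      have h1 : m * (1 + p + m) = 32 * p := by exact_mod_cast hW
      have h2 := congrArg (Int.cast : ℤ → ZMod 9) h1
      push_cast at h2
      rw [hm, hp] at h2
      revert h2; decide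
    rcases case1_q hq0 hm0 h3 e1 e2 b1 with ⟨hW', hw, hw'⟩ | hW'
    swap
    · exfalso
      have h1 : 9 * (m * (1 + q + m)) = 8 * q := by exact_mod_cast hW'
      have h2 := congrArg (Int.cast : ℤ → ZMod 9) h1
      push_cast at h2
      rw [hm, hq] at h2
      revert h2; decide
    have hvv : v + v' = -(c * s) := by
      apply mul_left_cancel₀ (mul_ne_zero hq0 hm0)
      linear_combination (-1 / 2 * m * c) * b2 + (m / 3 * v) * hw + (m / 6 * v') * hw'
    rcases mul_eq_zero.mp hv with hv | hv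
    · have hv1 : v' = -(2 * v) := by linear_combination hv
      have hv2 : v = c * s := by linear_combination hv - hvv
      have h5 : (m : ℂ) * (s * (s - 1)) = 0 := by
        rw [hv1, hv2] at b3
        linear_combination b3 / 2 - (s : ℂ) ^ 2 * h3
      have h6 : (s : ℂ) = 1 := by
        have h7 := (mul_eq_zero.mp ((mul_eq_zero.mp h5).resolve_left hm0)).resolve_left hs0
        linear_combination h7
      exact_mod_cast h6
    · exfalso
      have hv1 : v' = -(10 * v) := by linear_combination hv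
      have hv2 : 9 * v = c * s := by linear_combination hv - hvv
      have h5 : (17 * ((m + 1) * s) : ℂ) = 81 * (s + m) := by
        apply mul_left_cancel₀ hs0
        rw [hv1] at b3
        linear_combination 81 / 2 * b3 - (51 * m * (9 * v + c * s)) * hv2 - (17 * (s : ℂ) ^ 2) * h3
      have h1 : 17 * ((m + 1) * s) = 81 * (s + m) := by exact_mod_cast h5
      have h2 := congrArg (Int.cast : ℤ → ZMod 9) h1
      push_cast at h2
      rw [hm, hs] at h2
      revert h2; decide
  · exfalso
    obtain ⟨d, hd⟩ : ∃ d, c = 7 * d := ⟨c / 7, by ring⟩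
    have hd' : c' = 20 * d := by linear_combination -hc / 7 + 20 / 7 * hd
    subst hd hd'
    have h3 : 99 * m * d ^ 2 = (m : ℂ) + 1 := by linear_combination a3 / 8
    rcases case2_p hp0 hm0 h3 a1 a2 f1 with ⟨hW, hu, hu'⟩ | hW
    swap
    · have h1 : m * (1 + p + m) = 32 * p := by exact_mod_cast hW
      have h2 := congrArg (Int.cast : ℤ → ZMod 9) h1
      push_cast at h2
      rw [hm, hp] at h2
      revert h2; decide
    rcases case2_q hq0 hm0 h3 e1 e2 b1 with ⟨hW', hw, hw'⟩ | hW'
    swap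
    · have h1 : 25 * (m * (1 + q + m)) = 8 * q := by exact_mod_cast hW'
      have h2 := congrArg (Int.cast : ℤ → ZMod 9) h1
      push_cast at h2
      rw [hm, hq] at h2
      revert h2; decide
    have h4 : v + 5 * v' = -(7 * d * s) := by
      apply mul_left_cancel₀ hq0
      linear_combination (-7 / 2 * d) * b2 + v * hw + v' / 2 * hw'
    have h5 : 17 * v + v' = d * s := by
      apply mul_left_cancel₀ hp0
      linear_combination d * f2 - (11 * v + 3 * v') * hu - (3 * v + v') * hu'
    have hv1 : v' = -(10 * v) := by linear_combination (h4 + 7 * h5) / 12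
    have hv2 : 7 * v = d * s := by linear_combination h5 - hv1
    have h6 : (17 * ((m + 1) * s) : ℂ) = 1617 * (s + m) := by
      apply mul_left_cancel₀ hs0
      rw [hv1] at b3
      linear_combination 49 * 33 / 2 * b3 - (33 * 51 * m * (7 * v + d * s)) * hv2 - (17 * (s : ℂ) ^ 2) * h3
    have h1 : 17 * ((m + 1) * s) = 1617 * (s + m) := by exact_mod_cast h6
    have h2 := congrArg (Int.cast : ℤ → ZMod 9) h1
    push_cast at h2
    rw [hm, hs] at h2
    revert h2; decide

/-- the quadratic form with weights `x, y, z` -/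
noncomputable def Q3 (x y z a b c a' b' c' : ℂ) : ℂ := a * a' / x + b * b' / y + c * c' / z - (a + b + c) * (a' + b' + c') / (x + y + z)

/-- Gram matrices of two vectors in the four forms imply `s = 1` -/
theorem final_gram {p q s m : ℤ} (hp : (p : ZMod 9) = 1) (hq : (q : ZMod 9) = 1) (hs : (s : ZMod 9) = 1)
    (hm : (m : ZMod 9) = 2) {a a' b b' t t' c c' : ℂ}
    (A11 : Q3 1 p m 0 a c 0 a c = 1) (A12 : Q3 1 p m 0 a c 0 a' c' = 0) (A22 : Q3 1 p m 0 a' c' 0 a' c' = 8)
    (E11 : Q3 1 q m 0 b c 0 b c = 1 / 2) (E12 : Q3 1 q m 0 b c 0 b' c' = 3 / 2) (E22 : Q3 1 q m 0 b' c' 0 b' c' = 11 / 2)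
    (B11 : Q3 q s m b t c b t c = 1) (B12 : Q3 q s m b t c b' t' c' = 0) (B22 : Q3 q s m b' t' c' b' t' c' = 2)
    (F11 : Q3 p s m a t c a t c = 1 / 2) (F12 : Q3 p s m a t c a' t' c' = -(3 / 2)) (F22 : Q3 p s m a' t' c' a' t' c' = 11 / 2) :
    s = 1 := by
  have hm0 : (m : ℂ) ≠ 0 := by
    intro h
    have : m = 0 := by exact_mod_cast h
    rw [this] at hm
    revert hm; decide
  have hp0 : (p : ℂ) ≠ 0 := by
    intro h
    have : p = 0 := by exact_mod_cast h
    rw [this] at hp
    revert hp; decide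
  have hq0 : (q : ℂ) ≠ 0 := by
    intro h
    have : q = 0 := by exact_mod_cast h
    rw [this] at hq
    revert hq; decide
  have hs0 : (s : ℂ) ≠ 0 := by
    intro h
    have : s = 0 := by exact_mod_cast h
    rw [this] at hs
    revert hs; decide
  have hx : ∀ x y z : ℤ, (x : ZMod 9) + y + z = 4 → (x : ℂ) + y + z ≠ 0 := by
    intro x y z h h0
    have h1 : x + y + z = 0 := by exact_mod_cast h0
    have h2 := congrArg (Int.cast : ℤ → ZMod 9) h1
    push_cast at h2
    rw [h] at h2
    revert h2; decide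
  have x1 : (1 : ℂ) + p + m ≠ 0 := by
    have := hx 1 p m (by push_cast; rw [hp, hm]; decide)
    simpa using this
  have x2 : (1 : ℂ) + q + m ≠ 0 := by
    have := hx 1 q m (by push_cast; rw [hq, hm]; decide)
    simpa using this
  have x3 : (q : ℂ) + s + m ≠ 0 := hx q s m (by rw [hq, hs, hm]; decide)
  have x4 : (p : ℂ) + s + m ≠ 0 := hx p s m (by rw [hp, hs, hm]; decide)
  unfold Q3 at *
  -- first plane
  have A11' : a ^ 2 / p + c ^ 2 / m - (a + c) ^ 2 / (1 + p + m) = 1 := by linear_combination A11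
  have A12' : a * a' / p + c * c' / m - (a + c) * (a' + c') / (1 + p + m) = 0 := by linear_combination A12
  have A22' : a' ^ 2 / p + c' ^ 2 / m - (a' + c') ^ 2 / (1 + p + m) = 8 := by linear_combination A22
  have E11' : b ^ 2 / q + c ^ 2 / m - (b + c) ^ 2 / (1 + q + m) = 1 / 2 := by linear_combination E11
  have E12' : b * b' / q + c * c' / m - (b + c) * (b' + c') / (1 + q + m) = 3 / 2 := by linear_combination E12
  have E22' : b' ^ 2 / q + c' ^ 2 / m - (b' + c') ^ 2 / (1 + q + m) = 11 / 2 := by linear_combination E22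
  have a1 := dual11 hp0 hm0 x1 (by ring : (1 : ℂ) + p + m = p + m + 1) A11' A12' A22'
  have a2 := dual12 hp0 hm0 x1 (by ring : (1 : ℂ) + p + m = p + m + 1) A11' A12' A22'
  have a3 := dual22 hp0 hm0 x1 (by ring : (1 : ℂ) + p + m = p + m + 1) A11' A12' A22'
  have e1 := dual11 hq0 hm0 x2 (by ring : (1 : ℂ) + q + m = q + m + 1) E11' E12' E22'
  have e2 := dual12 hq0 hm0 x2 (by ring : (1 : ℂ) + q + m = q + m + 1) E11' E12' E22'
  have e3 := dual22 hq0 hm0 x2 (by ring : (1 : ℂ) + q + m = q + m + 1) E11' E12' E22'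
  -- ternary forms
  have T := fun (b t c b' t' c' : ℂ) => ternary (b1 := b) (s1 := t) (c1 := c) (b2 := b') (s2 := t') (c2 := c') hq0 hs0 hm0 x3 rfl
  have T' := fun (b t c b' t' c' : ℂ) => ternary (b1 := b) (s1 := t) (c1 := c) (b2 := b') (s2 := t') (c2 := c') hp0 hs0 hm0 x4 rfl
  obtain ⟨d, hd⟩ : ∃ d, c = m * d := ⟨c / m, by field_simp⟩
  obtain ⟨d', hd'⟩ : ∃ d', c' = m * d' := ⟨c' / m, by field_simp⟩
  have B11' := (T b t c b t c).trans B11
  have B12' := (T b t c b' t' c').trans B12
  have B22' := (T b' t' c' b' t' c').trans B22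
  have F11' := (T' a t c a t c).trans F11
  have F12' := (T' a t c a' t' c').trans F12
  have F22' := (T' a' t' c' a' t' c').trans F22
  have dd : ∀ z : ℂ, z * c / m = z * d := fun z => by rw [hd]; field_simp
  have dd' : ∀ z : ℂ, z * c' / m = z * d' := fun z => by rw [hd']; field_simp
  simp only [dd, dd'] at B11' B12' B22' F11' F12' F22'
  have B11'' : (b - q * d) ^ 2 / q + (t - s * d) ^ 2 / s - ((b - q * d) + (t - s * d)) ^ 2 / (q + s + m) = 1 := by linear_combination B11'
  have B22'' : (b' - q * d') ^ 2 / q + (t' - s * d') ^ 2 / s - ((b' - q * d') + (t' - s * d')) ^ 2 / (q + s + m) = 2 := by linear_combination B22'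
  have F11'' : (a - p * d) ^ 2 / p + (t - s * d) ^ 2 / s - ((a - p * d) + (t - s * d)) ^ 2 / (p + s + m) = 1 / 2 := by linear_combination F11'
  have F22'' : (a' - p * d') ^ 2 / p + (t' - s * d') ^ 2 / s - ((a' - p * d') + (t' - s * d')) ^ 2 / (p + s + m) = 11 / 2 := by linear_combination F22'
  have b1 := dual11 hq0 hs0 x3 rfl B11'' B12' B22''
  have b2 := dual12 hq0 hs0 x3 rfl B11'' B12' B22''
  have b3 := dual22 hq0 hs0 x3 rfl B11'' B12' B22''
  have f1 := dual11 hp0 hs0 x4 rfl F11'' F12' F22''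
  have f2 := dual12 hp0 hs0 x4 rfl F11'' F12' F22''
  have f3 := dual22 hp0 hs0 x4 rfl F11'' F12' F22''
  apply final_dual hp hq hs hm (c := d) (c' := d') (u := a - p * d) (u' := a' - p * d') (w := b - q * d) (w' := b' - q * d')
    (v := t - s * d) (v' := t' - s * d')
  · linear_combination a1
  · apply mul_left_cancel₀ hm0
    rw [hd, hd'] at a2
    linear_combination a2
  · apply mul_left_cancel₀ hm0
    rw [hd, hd'] at a3
    linear_combination a3
  · linear_combination 2 * e1
  · apply mul_left_cancel₀ hm0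
    rw [hd, hd'] at e2
    linear_combination 2 * e2
  · apply mul_left_cancel₀ hm0
    rw [hd, hd'] at e3
    linear_combination 2 * e3
  · linear_combination b1
  · linear_combination b2
  · linear_combination b3
  · linear_combination 2 * f1
  · linear_combination 2 * f2
  · linear_combination 2 * f3

end Cfsg.Agent.Lib.H25W
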