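import Mathlib

/-!
# The group `3^2 : D_8`: a model (helper25)
-/

set_option autoImplicit false
set_option linter.all false
set_option maxHeartbeats 400000

namespace Cfsg.Agent.Lib.H25W

abbrev V := ZMod 3 × ZMod 3
abbrev D := DihedralGroup 4
abbrev MM := V × D

/-- action of the dihedral group on vectors -/
def act : D → V → V
  | .r k, v => if k = 0 then v else if k = 1 then (-v.2, v.1) else if k = 2 then (-v.1, -v.2) else (v.2, -v.1)
  | .sr k, v => if k = 0 then (-v.1, v.2) else if k = 1 then (v.2, v.1) else if k = 2 then (v.1, -v.2) else (-v.2, -v.1)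

set_option maxRecDepth 100000 in
theorem act_mul : ∀ e e' : D, ∀ v : V, act (e * e') v = act e (act e' v) := by decide

set_option maxRecDepth 100000 in
theorem act_add : ∀ e : D, ∀ v v' : V, act e (v + v') = act e v + act e v' := by decide

set_option maxRecDepth 100000 in
theorem act_eq_id : ∀ e : D, (act e (1, 0) = (1, 0) ∧ act e (0, 1) = (0, 1)) → e = 1 := by decide

def mulM (x y : MM) : MM := (x.1 + act x.2 y.1, x.2 * y.2)
def oneM : MM := (0, 1)

def pow4 (x : MM) : MM := mulM (mulM x x) (mulM x x)

def uu : MM := ((1, 0), 1)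
def ww : MM := ((1, 1), 1)
def us : MM := ((1, 0), .sr 2)
def wq : MM := ((1, 1), .sr 1)

def invo (n : MM) : Bool := mulM n n = oneM ∧ n ≠ oneM
def tq (n : MM) : Bool := n.2 = .sr 1 ∨ n.2 = .sr 3
def tr (n : MM) : Bool := n.2 = .sr 0 ∨ n.2 = .sr 2
def tzz (n : MM) : Bool := n.2 = .r 2
def tz (n : MM) : Bool := n.2 = .r 2 ∨ n.2 = .sr 0 ∨ n.2 = .sr 2

def cnt (f g : MM → Bool) (τ : MM) : ℕ :=
  (Finset.univ.filter (fun n : MM => invo n && f n && (invo (mulM n τ) && g (mulM n τ)))).card

def ccnt (τ : MM) : ℕ := (Finset.univ.filter (fun n : MM => mulM n τ = mulM τ n)).card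

set_option maxRecDepth 1000000 in
theorem ccnt_uu : ccnt uu = 18 := by decide
set_option maxRecDepth 1000000 in
theorem ccnt_ww : ccnt ww = 18 := by decide
set_option maxRecDepth 1000000 in
theorem ccnt_us : ccnt us = 6 := by decide
set_option maxRecDepth 1000000 in
theorem ccnt_wq : ccnt wq = 6 := by decide

set_option maxRecDepth 1000000 in
theorem cnt_tq_tq_uu : cnt tq tq uu = 0 := by decide
set_option maxRecDepth 1000000 in
theorem cnt_tq_tq_us : cnt tq tq us = 0 := by decide
set_option maxRecDepth 1000000 in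
theorem cnt_tq_tq_ww : cnt tq tq ww = 3 := by decide
set_option maxRecDepth 1000000 in
theorem cnt_tq_tq_wq : cnt tq tq wq = 0 := by decide
set_option maxRecDepth 1000000 in
theorem cnt_tq_tz_uu : cnt tq tz uu = 0 := by decide
set_option maxRecDepth 1000000 in
theorem cnt_tq_tz_us : cnt tq tz us = 0 := by decide
set_option maxRecDepth 1000000 in
theorem cnt_tq_tz_ww : cnt tq tz ww = 0 := by decide
set_option maxRecDepth 1000000 in
theorem cnt_tq_tz_wq : cnt tq tz wq = 3 := by decide
set_option maxRecDepth 1000000 in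
theorem cnt_tz_tq_uu : cnt tz tq uu = 0 := by decide
set_option maxRecDepth 1000000 in
theorem cnt_tz_tq_us : cnt tz tq us = 0 := by decide
set_option maxRecDepth 1000000 in
theorem cnt_tz_tq_ww : cnt tz tq ww = 0 := by decide
set_option maxRecDepth 1000000 in
theorem cnt_tz_tq_wq : cnt tz tq wq = 3 := by decide
set_option maxRecDepth 1000000 in
theorem cnt_tz_tz_uu : cnt tz tz uu = 12 := by decide
set_option maxRecDepth 1000000 in
theorem cnt_tz_tz_us : cnt tz tz us = 6 := by decide
set_option maxRecDepth 1000000 in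
theorem cnt_tz_tz_ww : cnt tz tz ww = 9 := by decide
set_option maxRecDepth 1000000 in
theorem cnt_tz_tz_wq : cnt tz tz wq = 0 := by decide

set_option maxRecDepth 1000000 in
theorem nc_uu_ww : ∀ g : MM, mulM g uu ≠ mulM ww g := by decide
set_option maxRecDepth 1000000 in
theorem nc_us_wq : ∀ g : MM, mulM g us ≠ mulM wq g := by decide

set_option maxRecDepth 1000000 in
theorem conj_q : ∀ n : MM, invo n = true → tq n = true → ∃ g : MM, mulM g n = mulM (0, .sr 1) g := by decide
set_option maxRecDepth 1000000 in
theorem conj_r : ∀ n : MM, invo n = true → tr n = true → ∃ g : MM, mulM g n = mulM (0, .sr 0) g := by decide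
set_option maxRecDepth 1000000 in
theorem conj_z : ∀ n : MM, invo n = true → tzz n = true → ∃ g : MM, mulM g n = mulM (0, .r 2) g := by decide
set_option maxRecDepth 1000000 in
theorem invo_type : ∀ n : MM, invo n = true → tq n = true ∨ tr n = true ∨ tzz n = true := by decide
set_option maxRecDepth 1000000 in
theorem tz_iff : ∀ n : MM, tz n = true ↔ tr n = true ∨ tzz n = true := by decide
set_option maxRecDepth 1000000 in
theorem tq_not : ∀ n : MM, tq n = true → tr n = false ∧ tzz n = false := by decide
set_option maxRecDepth 1000000 in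
theorem ncj_q : ∀ g : MM, mulM g (0, .sr 1) ≠ mulM (0, .sr 0) g := by decide


end Cfsg.Agent.Lib.H25W
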