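import Cfsg.Agent.Lib.H25Wd
import Cfsg.Agent.Lib.H25TriI

/-!
# The group `3^2 : D_8` inside a group (helper25)
-/

set_option autoImplicit false
set_option linter.all false
set_option maxHeartbeats 400000

namespace Cfsg.Agent.Lib.H25W

open Cfsg Cfsg.Agent.Lib.H25Nine DihedralGroup

universe u

variable {G : Type u} [Group G]

structure Wr (S : Subgroup G) (ρ : D →* G) (a b : G) : Prop where
  tis : TIS S
  ha : a ∈ S
  hb : b ∈ S
  ha1 : a ≠ 1
  hb1 : b ≠ 1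
  gen : ∀ x ∈ S, ∃ i j : ℤ, x = a ^ i * b ^ j
  hρ : ∀ e, ρ e ∈ Subgroup.normalizer (S : Set G)
  s0a : ρ (sr 0) * a = a⁻¹ * ρ (sr 0)
  s0b : ρ (sr 0) * b = b * ρ (sr 0)
  s1a : ρ (sr 1) * a = b * ρ (sr 1)
  s1b : ρ (sr 1) * b = a * ρ (sr 1)
  cov : ∀ x ∈ Subgroup.normalizer (S : Set G), ∃ y ∈ S, ∃ e, x = y * ρ e
  CS : Subgroup.centralizer (S : Set G) ≤ S
  cyc : ¬ IsCyclic S

/-- coordinates -/
def co (a b : G) (v : V) : G := a ^ v.1.val * b ^ v.2.val

def el (ρ : D →* G) (a b : G) (x : MM) : G := co a b x.1 * ρ x.2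

namespace Wr

variable {S : Subgroup G} {ρ : D →* G} {a b : G} [Finite G]

theorem a3 (W : Wr S ρ a b) : a ^ 3 = 1 := W.tis.exp a W.ha
theorem b3 (W : Wr S ρ a b) : b ^ 3 = 1 := W.tis.exp b W.hb
theorem ab (W : Wr S ρ a b) : a * b = b * a := W.tis.comm _ W.ha _ W.hb

theorem pow_val_add {c : G} (hc : c ^ 3 = 1) (x y : ZMod 3) : c ^ (x + y).val = c ^ x.val * c ^ y.val := by
  rw [← pow_add, ZMod.val_add]
  conv_rhs => rw [← Nat.mod_add_div (x.val + y.val) 3, pow_add, pow_mul, hc, one_pow, mul_one]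

theorem pow_val_neg {c : G} (hc : c ^ 3 = 1) (x : ZMod 3) : c ^ (-x).val = (c ^ x.val)⁻¹ := by
  rw [eq_inv_iff_mul_eq_one, ← pow_val_add hc, neg_add_cancel]
  simp

omit [Finite G] in
theorem co_mem (W : Wr S ρ a b) (v : V) : co a b v ∈ S := S.mul_mem (S.pow_mem W.ha _) (S.pow_mem W.hb _)

theorem co_add (W : Wr S ρ a b) (v v' : V) : co a b (v + v') = co a b v * co a b v' := by
  unfold co
  rw [Prod.fst_add, Prod.snd_add, pow_val_add W.a3, pow_val_add W.b3]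
  have := W.tis.comm _ (S.pow_mem W.ha v'.1.val) _ (S.pow_mem W.hb v.2.val)
  calc a ^ v.1.val * a ^ v'.1.val * (b ^ v.2.val * b ^ v'.2.val)
      = a ^ v.1.val * (a ^ v'.1.val * b ^ v.2.val) * b ^ v'.2.val := by group
    _ = _ := by rw [this]; group

theorem s0co (W : Wr S ρ a b) (v : V) : ρ (sr 0) * co a b v = co a b (act (sr 0) v) * ρ (sr 0) := by
  have h1 : ρ (sr 0) * a * (ρ (sr 0))⁻¹ = a⁻¹ := by rw [W.s0a]; group
  have h2 : ρ (sr 0) * b * (ρ (sr 0))⁻¹ = b := by rw [W.s0b]; group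
  have h3 : act (sr 0) v = (-v.1, v.2) := by simp [act]
  rw [h3]
  unfold co
  simp only
  rw [pow_val_neg W.a3]
  have h4 : ρ (sr 0) * (a ^ v.1.val * b ^ v.2.val) * (ρ (sr 0))⁻¹ = (a ^ v.1.val)⁻¹ * b ^ v.2.val := by
    have : ρ (sr 0) * (a ^ v.1.val * b ^ v.2.val) * (ρ (sr 0))⁻¹ = (ρ (sr 0) * a ^ v.1.val * (ρ (sr 0))⁻¹) * (ρ (sr 0) * b ^ v.2.val * (ρ (sr 0))⁻¹) := by group
    rw [this, ← conj_pow, ← conj_pow, h1, h2, inv_pow]
  rw [← h4]; group

theorem s1co (W : Wr S ρ a b) (v : V) : ρ (sr 1) * co a b v = co a b (act (sr 1) v) * ρ (sr 1) := by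
  have h1 : ρ (sr 1) * a * (ρ (sr 1))⁻¹ = b := by rw [W.s1a]; group
  have h2 : ρ (sr 1) * b * (ρ (sr 1))⁻¹ = a := by rw [W.s1b]; group
  have h3 : act (sr 1) v = (v.2, v.1) := by
    simp only [act]
    rw [if_neg (by decide), if_pos trivial]
  rw [h3]
  unfold co
  simp only
  have h4 : ρ (sr 1) * (a ^ v.1.val * b ^ v.2.val) * (ρ (sr 1))⁻¹ = a ^ v.2.val * b ^ v.1.val := by
    have : ρ (sr 1) * (a ^ v.1.val * b ^ v.2.val) * (ρ (sr 1))⁻¹ = (ρ (sr 1) * a ^ v.1.val * (ρ (sr 1))⁻¹) * (ρ (sr 1) * b ^ v.2.val * (ρ (sr 1))⁻¹) := by group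
    rw [this, ← conj_pow, ← conj_pow, h1, h2]
    exact W.tis.comm _ (S.pow_mem W.hb _) _ (S.pow_mem W.ha _)
  rw [← h4]; group

set_option maxRecDepth 10000 in
theorem words : ∀ e : D, e ∈ ({1, sr 0, sr 1, sr 0 * sr 1, sr 1 * sr 0, sr 0 * sr 1 * sr 0, sr 1 * sr 0 * sr 1, sr 0 * sr 1 * (sr 0 * sr 1)} : Finset D) := by decide

theorem conj_co (W : Wr S ρ a b) (e : D) (v : V) : ρ e * co a b v = co a b (act e v) * ρ e := by
  have hmul : ∀ e e' : D, (∀ v, ρ e * co a b v = co a b (act e v) * ρ e) → (∀ v, ρ e' * co a b v = co a b (act e' v) * ρ e') →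
      ∀ v, ρ (e * e') * co a b v = co a b (act (e * e') v) * ρ (e * e') := by
    intro e e' h h' v
    rw [map_mul, mul_assoc, h', ← mul_assoc, h, act_mul, mul_assoc]
  have h0 := W.s0co
  have h1 := W.s1co
  have h01 := hmul _ _ h0 h1
  have h10 := hmul _ _ h1 h0
  have := words e
  simp only [Finset.mem_insert, Finset.mem_singleton] at this
  rcases this with rfl | rfl | rfl | rfl | rfl | rfl | rfl | rfl
  · rw [map_one, one_mul, mul_one]
    congr 1
  · exact h0 v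
  · exact h1 v
  · exact h01 v
  · exact h10 v
  · exact hmul _ _ h01 h0 v
  · exact hmul _ _ h10 h1 v
  · exact hmul _ _ h01 h01 v

theorem el_mul (W : Wr S ρ a b) (x y : MM) : el ρ a b (mulM x y) = el ρ a b x * el ρ a b y := by
  unfold el mulM
  simp only
  rw [W.co_add, map_mul]
  calc co a b x.1 * co a b (act x.2 y.1) * (ρ x.2 * ρ y.2)
      = co a b x.1 * (co a b (act x.2 y.1) * ρ x.2) * ρ y.2 := by group
    _ = _ := by rw [← W.conj_co]; group

theorem co_eq_one (W : Wr S ρ a b) {v : V} (h : co a b v = 1) : v = 0 := by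
  have h1 := W.conj_co (sr 0) v
  have h2 : act (sr 0) v = (-v.1, v.2) := by simp [act]
  rw [h, mul_one, h2] at h1
  have h3 : co a b (-v.1, v.2) = 1 := by
    have : (1 : G) * ρ (sr 0) = co a b (-v.1, v.2) * ρ (sr 0) := by rw [one_mul]; exact h1
    exact (mul_right_cancel this).symm
  have key : ∀ c : G, c ^ 3 = 1 → c ≠ 1 → ∀ x : ZMod 3, c ^ x.val = 1 → x = 0 := by
    intro c hc hc1 x hx
    have ho : orderOf c = 3 := orderOf_eq_prime hc hc1
    have hd := orderOf_dvd_of_pow_eq_one hx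
    rw [ho] at hd
    have hlt := ZMod.val_lt x
    have : x.val = 0 := by omega
    exact (ZMod.val_eq_zero x).mp this
  have h4 : co a b (-v.1 - v.1, 0) = 1 := by
    have e1 : ((-v.1 - v.1, 0) : V) + v = (-v.1, v.2) := by ext <;> simp
    have e2 := W.co_add (-v.1 - v.1, 0) v
    rw [e1, h, h3, mul_one] at e2
    exact e2.symm
  have h5 : -v.1 - v.1 = 0 := by
    apply key a W.a3 W.ha1
    unfold co at h4
    simpa using h4
  have h6 : v.1 = 0 := by
    have : ∀ x : ZMod 3, -x - x = 0 → x = 0 := by decide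
    exact this _ h5
  have h7 : v.2 = 0 := by
    apply key b W.b3 W.hb1
    unfold co at h
    rw [h6] at h
    simpa using h
  exact Prod.ext h6 h7

theorem co_inj (W : Wr S ρ a b) {v v' : V} (h : co a b v = co a b v') : v = v' := by
  have h1 := W.co_add (v - v') v'
  rw [sub_add_cancel, h] at h1
  have h2 : co a b (v - v') = 1 := (mul_eq_right.mp h1.symm)
  exact sub_eq_zero.mp (W.co_eq_one h2)

theorem ρ_mem (W : Wr S ρ a b) {e : D} (h : ρ e ∈ S) : e = 1 := by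
  apply act_eq_id
  have key : ∀ v, act e v = v := by
    intro v
    apply W.co_inj
    have h1 := W.conj_co e v
    rw [W.tis.comm _ h _ (W.co_mem v)] at h1
    exact (mul_right_cancel h1).symm
  exact ⟨key _, key _⟩

theorem el_inj (W : Wr S ρ a b) {x y : MM} (h : el ρ a b x = el ρ a b y) : x = y := by
  unfold el at h
  have h1 : ρ (x.2 * y.2⁻¹) ∈ S := by
    have : ρ (x.2 * y.2⁻¹) = (co a b x.1)⁻¹ * co a b y.1 := by
      rw [map_mul, map_inv, mul_inv_eq_iff_eq_mul, mul_assoc, ← h]; group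
    rw [this]
    exact S.mul_mem (S.inv_mem (W.co_mem _)) (W.co_mem _)
  have h2 : x.2 = y.2 := mul_inv_eq_one.mp (W.ρ_mem h1)
  rw [h2] at h
  exact Prod.ext (W.co_inj (mul_right_cancel h)) h2

theorem exists_co (W : Wr S ρ a b) {x : G} (hx : x ∈ S) : ∃ v, co a b v = x := by
  obtain ⟨i, j, rfl⟩ := W.gen x hx
  refine ⟨((i : ZMod 3), (j : ZMod 3)), ?_⟩
  unfold co
  have key : ∀ c : G, c ^ 3 = 1 → ∀ i : ℤ, c ^ ((i : ZMod 3)).val = c ^ i := by
    intro c hc i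
    rw [← zpow_natCast, ZMod.val_intCast]
    conv_rhs => rw [← Int.emod_add_mul_ediv i 3, zpow_add, zpow_mul]
    have : c ^ (3 : ℤ) = 1 := by exact_mod_cast hc
    rw [this, one_zpow, mul_one]
    norm_num
  simp only
  rw [key a W.a3, key b W.b3]

theorem el_surj (W : Wr S ρ a b) {x : G} (hx : x ∈ Subgroup.normalizer (S : Set G)) : ∃ n, el ρ a b n = x := by
  obtain ⟨y, hy, e, rfl⟩ := W.cov x hx
  obtain ⟨v, hv⟩ := W.exists_co hy
  exact ⟨(v, e), by unfold el; rw [← hv]⟩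

theorem el_mem (W : Wr S ρ a b) (n : MM) : el ρ a b n ∈ Subgroup.normalizer (S : Set G) :=
  mul_mem (Subgroup.le_normalizer (W.co_mem _)) (W.hρ _)

theorem el_one (W : Wr S ρ a b) : el ρ a b oneM = 1 := by
  unfold el oneM co
  simp

end Wr

end Cfsg.Agent.Lib.H25W
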