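import Cfsg.Agent.Lib.H25We

/-!
# The group `3^2 : D_8` inside a group: centralizers, fusion and counting (helper25)
-/

set_option autoImplicit false
set_option linter.all false
set_option maxHeartbeats 400000

namespace Cfsg.Agent.Lib.H25W

open Cfsg Cfsg.Agent.Lib.H25Nine DihedralGroup

universe u

variable {G : Type u} [Group G]

/-- elements of the model whose fourth power is a nontrivial element of the Sylow subgroup -/
def sing (τ : MM) : Bool := (pow4 τ).2 = 1 ∧ (pow4 τ).1 ≠ 0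

theorem sing_uu : sing uu = true := by decide
theorem sing_ww : sing ww = true := by decide
theorem sing_us : sing us = true := by decide
theorem sing_wq : sing wq = true := by decide

namespace Wr

variable {S : Subgroup G} {ρ : D →* G} {a b : G} [Finite G]

theorem pow4_el (W : Wr S ρ a b) (τ : MM) : el ρ a b (pow4 τ) = el ρ a b τ ^ 4 := by
  unfold pow4
  rw [W.el_mul, W.el_mul]
  have : ∀ y : G, y * y * (y * y) = y ^ 4 := fun y => by rw [← sq, ← sq, ← pow_mul]
  exact this _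

theorem sing_pow (W : Wr S ρ a b) {τ : MM} (hτ : sing τ = true) : el ρ a b τ ^ 4 ∈ S ∧ el ρ a b τ ^ 4 ≠ 1 := by
  unfold sing at hτ
  rw [decide_eq_true_eq] at hτ
  rw [← W.pow4_el]
  constructor
  · unfold el
    rw [hτ.1, map_one, mul_one]
    exact W.co_mem _
  · intro h
    unfold el at h
    rw [hτ.1, map_one, mul_one] at h
    exact hτ.2 (W.co_eq_one h)

theorem norm_of_conj (W : Wr S ρ a b) {τ τ' : MM} (hτ : sing τ = true) (hτ' : sing τ' = true) {g : G}
    (hg : g * el ρ a b τ * g⁻¹ = el ρ a b τ') : g ∈ Subgroup.normalizer (S : Set G) := by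
  apply W.tis.ti (W.sing_pow hτ).1 (W.sing_pow hτ).2
  rw [← conj_pow, hg]
  exact (W.sing_pow hτ').1

theorem norm_of_inv (W : Wr S ρ a b) {τ : MM} (hτ : sing τ = true) {g : G}
    (hg : g * el ρ a b τ * g⁻¹ = (el ρ a b τ)⁻¹) : g ∈ Subgroup.normalizer (S : Set G) := by
  apply W.tis.ti (W.sing_pow hτ).1 (W.sing_pow hτ).2
  rw [← conj_pow, hg, inv_pow]
  exact S.inv_mem (W.sing_pow hτ).1

theorem conj_model (W : Wr S ρ a b) {τ τ' : MM} (hτ : sing τ = true) (hτ' : sing τ' = true)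
    (h : IsConj (el ρ a b τ) (el ρ a b τ')) : ∃ g : MM, mulM g τ = mulM τ' g := by
  obtain ⟨g, hg⟩ := isConj_iff.mp h
  obtain ⟨n, rfl⟩ := W.el_surj (W.norm_of_conj hτ hτ' hg)
  refine ⟨n, W.el_inj ?_⟩
  rw [W.el_mul, W.el_mul]
  rw [← hg]; group

theorem card_cent (W : Wr S ρ a b) {τ : MM} (hτ : sing τ = true) :
    Nat.card (Subgroup.centralizer ({el ρ a b τ} : Set G)) = ccnt τ := by
  unfold ccnt
  rw [← Fintype.card_subtype, ← Nat.card_eq_fintype_card]
  symm
  apply Nat.card_congr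
  refine Equiv.ofBijective (fun n => ⟨el ρ a b n.1, ?_⟩) ⟨?_, ?_⟩
  · rw [Subgroup.mem_centralizer_singleton_iff, ← W.el_mul, n.2, W.el_mul]
  · intro n n' h
    exact Subtype.ext (W.el_inj (congrArg Subtype.val h))
  · rintro ⟨x, hx⟩
    rw [Subgroup.mem_centralizer_singleton_iff] at hx
    have hxN : x ∈ Subgroup.normalizer (S : Set G) := W.norm_of_conj hτ hτ (by rw [hx]; group)
    obtain ⟨n, rfl⟩ := W.el_surj hxN
    refine ⟨⟨n, W.el_inj ?_⟩, rfl⟩
    rw [W.el_mul, W.el_mul]; exact hx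

theorem el_invo (W : Wr S ρ a b) (n : MM) : (el ρ a b n * el ρ a b n = 1 ∧ el ρ a b n ≠ 1) ↔ invo n = true := by
  unfold invo
  rw [decide_eq_true_eq, ← W.el_mul, ← W.el_one]
  constructor
  · rintro ⟨h1, h2⟩
    exact ⟨W.el_inj h1, fun h => h2 (by rw [h])⟩
  · rintro ⟨h1, h2⟩
    exact ⟨by rw [h1], fun h => h2 (W.el_inj h)⟩

/-- counting products in a `G`-invariant family of involutions -/
theorem count (W : Wr S ρ a b) {τ : MM} (hτ : sing τ = true) (A B : Set G) (f g : MM → Bool)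
    (hA : ∀ x ∈ A, x * x = 1 ∧ x ≠ 1) (hB : ∀ x ∈ B, x * x = 1 ∧ x ≠ 1)
    (hf : ∀ n, invo n = true → (el ρ a b n ∈ A ↔ f n = true)) (hg : ∀ n, invo n = true → (el ρ a b n ∈ B ↔ g n = true)) :
    Nat.card {x : G // x ∈ A ∧ x⁻¹ * el ρ a b τ ∈ B} = cnt f g τ := by
  unfold cnt
  rw [← Fintype.card_subtype, ← Nat.card_eq_fintype_card]
  symm
  have hmem : ∀ n, el ρ a b n ∈ A ↔ (invo n = true ∧ f n = true) := by
    intro n
    constructor
    · intro h
      have h1 := (W.el_invo n).mp (hA _ h)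
      exact ⟨h1, (hf n h1).mp h⟩
    · rintro ⟨h1, h2⟩
      exact (hf n h1).mpr h2
  have hmem' : ∀ n, el ρ a b n ∈ B ↔ (invo n = true ∧ g n = true) := by
    intro n
    constructor
    · intro h
      have h1 := (W.el_invo n).mp (hB _ h)
      exact ⟨h1, (hg n h1).mp h⟩
    · rintro ⟨h1, h2⟩
      exact (hg n h1).mpr h2
  have hinv : ∀ n, el ρ a b n ∈ A → (el ρ a b n)⁻¹ = el ρ a b n := by
    intro n h
    rw [inv_eq_iff_mul_eq_one]
    exact (hA _ h).1
  apply Nat.card_congr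
  refine Equiv.ofBijective (fun n => ⟨el ρ a b n.1, ?_⟩) ⟨?_, ?_⟩
  · have hn := n.2
    simp only [Bool.and_eq_true] at hn
    have h1 := (hmem n.1).mpr hn.1
    refine ⟨h1, ?_⟩
    rw [hinv _ h1, ← W.el_mul]
    exact (hmem' _).mpr hn.2
  · intro n n' h
    exact Subtype.ext (W.el_inj (congrArg Subtype.val h))
  · rintro ⟨x, hx, hy⟩
    have hxi : x⁻¹ = x := by rw [inv_eq_iff_mul_eq_one]; exact (hA x hx).1
    have hxN : x ∈ Subgroup.normalizer (S : Set G) := by
      apply W.norm_of_inv hτ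
      have h2 := (hB _ hy).1
      rw [hxi] at h2 ⊢
      rw [eq_inv_iff_mul_eq_one]
      rw [← h2]; group
    obtain ⟨n, rfl⟩ := W.el_surj hxN
    refine ⟨⟨n, ?_⟩, rfl⟩
    simp only [Bool.and_eq_true]
    refine ⟨(hmem n).mp hx, (hmem' _).mp ?_⟩
    rw [W.el_mul, ← hinv n hx]
    exact hy

/-- the class of `q` -/
def Xq (ρ : D →* G) : Set G := {x | IsConj (ρ (sr 1)) x}

/-- the union of the classes of `r` and `z` -/
def Xz (ρ : D →* G) : Set G := {x | IsConj (ρ (sr 0)) x ∨ IsConj (ρ (r 2)) x}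

theorem el_zero (ρ : D →* G) (a b : G) (e : D) : el ρ a b (0, e) = ρ e := by
  simp [el, co]

theorem el_conj (W : Wr S ρ a b) {n m : MM} (h : ∃ g : MM, mulM g n = mulM m g) : IsConj (el ρ a b m) (el ρ a b n) := by
  obtain ⟨g, hg⟩ := h
  have h1 := congrArg (el ρ a b) hg
  rw [W.el_mul, W.el_mul] at h1
  apply IsConj.symm
  rw [isConj_iff]
  exact ⟨el ρ a b g, by rw [h1]; group⟩

set_option maxRecDepth 1000000 in
theorem ncj2 : ∀ m : MM, mulM m (0, sr 0) ≠ mulM (0, sr 1) m := by decide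

theorem not_q_r (W : Wr S ρ a b) : ¬ IsConj (ρ (sr 1)) (ρ (sr 0)) := by
  intro h
  have hab : ρ (sr 1) * (a * b) = a * b * ρ (sr 1) := by
    rw [← mul_assoc, W.s1a, mul_assoc, W.s1b, ← mul_assoc, W.ab]
  have hab1 : a * b ≠ 1 := by
    intro h
    have : co a b (1, 1) = 1 := by
      show a ^ 1 * b ^ 1 = 1
      rw [pow_one, pow_one]; exact h
    exact absurd (W.co_eq_one this) (by decide)
  obtain ⟨n, hn, hn'⟩ := H25Tri.fuse W.tis h (S.mul_mem W.ha W.hb) hab1 hab W.hb W.hb1 W.s0b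
  obtain ⟨m, rfl⟩ := W.el_surj hn
  -- n * r * n⁻¹ = q
  apply ncj2 m
  apply W.el_inj
  rw [W.el_mul, W.el_mul, el_zero, el_zero, ← hn']
  group

theorem Xq_invo (W : Wr S ρ a b) : ∀ x ∈ Xq ρ, x * x = 1 ∧ x ≠ 1 := by
  rintro x hx
  obtain ⟨g, rfl⟩ := isConj_iff.mp hx
  have h1 : (ρ (sr 1)) * ρ (sr 1) = 1 ∧ ρ (sr 1) ≠ 1 := by
    rw [← el_zero ρ a b]
    exact (W.el_invo _).mpr (by decide)
  constructor
  · calc g * ρ (sr 1) * g⁻¹ * (g * ρ (sr 1) * g⁻¹) = g * (ρ (sr 1) * ρ (sr 1)) * g⁻¹ := by group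
      _ = 1 := by rw [h1.1]; group
  · intro h
    exact h1.2 (conj_eq_one_iff.mp h)

theorem Xz_invo (W : Wr S ρ a b) : ∀ x ∈ Xz ρ, x * x = 1 ∧ x ≠ 1 := by
  have key : ∀ e : D, invo (0, e) = true → ∀ x, IsConj (ρ e) x → x * x = 1 ∧ x ≠ 1 := by
    intro e he x hx
    obtain ⟨g, rfl⟩ := isConj_iff.mp hx
    have h1 : (ρ e) * ρ e = 1 ∧ ρ e ≠ 1 := by
      rw [← el_zero ρ a b]
      exact (W.el_invo _).mpr he
    constructor
    · calc g * ρ e * g⁻¹ * (g * ρ e * g⁻¹) = g * (ρ e * ρ e) * g⁻¹ := by group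
        _ = 1 := by rw [h1.1]; group
    · intro h
      exact h1.2 (conj_eq_one_iff.mp h)
  rintro x (hx | hx)
  · exact key _ (by decide) x hx
  · exact key _ (by decide) x hx

theorem Xq_iff (W : Wr S ρ a b) (hq : ¬ IsConj (ρ (sr 1)) (ρ (r 2))) (n : MM) (hn : invo n = true) :
    el ρ a b n ∈ Xq ρ ↔ tq n = true := by
  constructor
  · intro h
    rcases invo_type n hn with h1 | h1 | h1
    · exact h1
    · exfalso
      have h2 := W.el_conj (conj_r n hn h1)
      rw [el_zero] at h2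
      exact W.not_q_r (IsConj.trans h h2.symm)
    · exfalso
      have h2 := W.el_conj (conj_z n hn h1)
      rw [el_zero] at h2
      exact hq (IsConj.trans h h2.symm)
  · intro h
    have h2 := W.el_conj (conj_q n hn h)
    rw [el_zero] at h2
    exact h2

theorem Xz_iff (W : Wr S ρ a b) (hq : ¬ IsConj (ρ (sr 1)) (ρ (r 2))) (n : MM) (hn : invo n = true) :
    el ρ a b n ∈ Xz ρ ↔ tz n = true := by
  rw [tz_iff]
  constructor
  · intro h
    rcases invo_type n hn with h1 | h1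
    · exfalso
      have h2 := W.el_conj (conj_q n hn h1)
      rw [el_zero] at h2
      rcases h with h | h
      · exact W.not_q_r (IsConj.trans h2 h.symm)
      · exact hq (IsConj.trans h2 h.symm)
    · exact h1
  · rintro (h | h)
    · have h2 := W.el_conj (conj_r n hn h)
      rw [el_zero] at h2
      exact Or.inl h2
    · have h2 := W.el_conj (conj_z n hn h)
      rw [el_zero] at h2
      exact Or.inr h2

end Wr

end Cfsg.Agent.Lib.H25W
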