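import Cfsg.Agent.Lib.H25Wf
import Cfsg.Agent.Lib.BrauerApp
import Cfsg.Agent.Lib.BlockVal
import Cfsg.Agent.Lib.H76Char

/-!
# Character lemmas: values at elements of order six, congruences, products of invariant sets (helper25)
-/

set_option autoImplicit false
set_option linter.all false
set_option maxHeartbeats 400000

namespace Cfsg.Agent.Lib.H25W

open Cfsg Cfsg.Agent.Lib.CharBasic Cfsg.Agent.Lib.H25Nine Cfsg.Agent.Lib.BlockRing
open scoped ComplexConjugate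

universe u

variable {G : Type u} [Group G]

theorem real_six [Finite G] {χ : G → ℂ} (hχ : IsCharacter G χ) {y : G} (hy : orderOf y = 6)
    (hr : IsConj y y⁻¹) (hr2 : IsConj (y ^ 2) (y ^ 2)⁻¹) (hr3 : IsConj (y ^ 3) (y ^ 3)⁻¹) : ∃ n : ℤ, χ y = n := by
  classical
  have := Fintype.ofFinite G
  obtain ⟨d, hd⟩ := hχ.exists_degree
  obtain ⟨m, hm⟩ := sum_subgroup hχ (Subgroup.zpowers y)
  have hy2 : orderOf (y ^ 2) = 3 := by
    rw [orderOf_pow, hy]; rfl
  obtain ⟨k2, hk2, -⟩ := real_three hχ hy2 hr2 hd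
  have hcard : Nat.card (Subgroup.zpowers y) = 6 := by rw [Nat.card_zpowers, hy]
  have h1 : ∑ x : Subgroup.zpowers y, χ (x : G) = χ 1 + χ y + χ (y ^ 2) + χ (y ^ 3) + χ (y ^ 4) + χ (y ^ 5) := by
    have e : ∑ x : Subgroup.zpowers y, χ (x : G) = ∑ i : Fin (orderOf y), χ (y ^ (i : ℕ)) := by
      symm
      apply Fintype.sum_equiv (finEquivZPowers (isOfFinOrder_of_finite y))
      intro i
      rw [finEquivZPowers_apply]
    rw [e, Fin.sum_univ_eq_sum_range (fun i => χ (y ^ i)) (orderOf y), hy]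
    simp [Finset.sum_range_succ]
  have y6 : y ^ 6 = 1 := by rw [← hy]; exact pow_orderOf_eq_one y
  have h5 : χ (y ^ 5) = χ y := by
    have : y ^ 5 = y⁻¹ := by rw [eq_inv_iff_mul_eq_one, ← pow_succ, y6]
    rw [this]; exact (hχ.isClassFunction.conj_eq hr).symm
  have h4 : χ (y ^ 4) = χ (y ^ 2) := by
    have : y ^ 4 = (y ^ 2)⁻¹ := by rw [eq_inv_iff_mul_eq_one, ← pow_add, y6]
    rw [this]; exact (hχ.isClassFunction.conj_eq hr2).symm
  -- value at the involution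
  obtain ⟨m3, hm3⟩ := sum_subgroup hχ (Subgroup.zpowers (y ^ 3))
  have hy3 : orderOf (y ^ 3) = 2 := by rw [orderOf_pow, hy]; rfl
  have hcard3 : Nat.card (Subgroup.zpowers (y ^ 3)) = 2 := by rw [Nat.card_zpowers, hy3]
  have h3 : ∑ x : Subgroup.zpowers (y ^ 3), χ (x : G) = χ 1 + χ (y ^ 3) := by
    have e : ∑ x : Subgroup.zpowers (y ^ 3), χ (x : G) = ∑ i : Fin (orderOf (y ^ 3)), χ ((y ^ 3) ^ (i : ℕ)) := by
      symm
      apply Fintype.sum_equiv (finEquivZPowers (isOfFinOrder_of_finite (y ^ 3)))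
      intro i
      rw [finEquivZPowers_apply]
    rw [e, Fin.sum_univ_eq_sum_range (fun i => χ ((y ^ 3) ^ i)) (orderOf (y ^ 3)), hy3]
    simp [Finset.sum_range_succ]
  rw [h3, hd, hcard3] at hm3
  rw [h1, h5, h4, hd, hcard, hk2] at hm
  have hint : IsIntegral ℤ (χ y) := by
    obtain ⟨n, ρ, rfl⟩ := hχ
    exact CharValues.isIntegral_character ρ y
  obtain ⟨n, hn⟩ := CharCentral.exists_int_of_isIntegral_rat hint ((6 * m - 2 * k2 - 2 * m3) / 2 : ℚ) (by
    push_cast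
    push_cast at hm3 hm
    linear_combination (1 / 2 : ℂ) * hm - (1 / 2 : ℂ) * hm3)
  exact ⟨n, hn⟩

/-- congruence modulo two -/
theorem cong2 [Finite G] {χ : G → ℂ} (hχ : IsCharacter G χ) {c s : G} (hc : orderOf c = 3) (hs : s * s = 1)
    (hcs : c * s = s * c) {n m : ℤ} (hn : χ (c * s) = n) (hm : χ c = m) : (2 : ℤ) ∣ n - m := by
  have hf : Fact (Nat.Prime 2) := ⟨Nat.prime_two⟩
  obtain ⟨M, hM⟩ := H76Char.exists_isPModular 2
  obtain ⟨e, f, he⟩ := PPart.exists_isRegExp 2 Nat.prime_two G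
  have h1 := BrauerApp.char_sub_char_regular_idl hM he hχ (c * s)
  have h2 : (c * s) ^ e = c := by
    have hcomm : Commute c s := hcs
    rw [hcomm.mul_pow, he.pow_e_of_reg c (by rw [hc]; norm_num), he.pow_e_of_sing s, mul_one]
    have : orderOf s ∣ 2 := orderOf_dvd_of_pow_eq_one (by rw [sq]; exact hs)
    rcases (Nat.dvd_prime Nat.prime_two).mp this with h | h
    · exact ⟨0, by rw [h]; rfl⟩
    · exact ⟨1, by rw [h]; rfl⟩
  rw [h2, hn, hm] at h1
  have h3 : MemLocalIdeal M ((n - m : ℤ) : ℂ) := by push_cast; exact h1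
  exact (idl_intCast_iff hM _).mp h3

open scoped Classical in
/-- sum of a function over an invariant set -/
noncomputable def SS [Fintype G] (A : Set G) (χ : G → ℂ) : ℂ := ∑ x, (if x ∈ A then (1 : ℂ) else 0) * χ x

open scoped Classical in
theorem indicator_class (A : Set G) (hA : ∀ x ∈ A, ∀ g : G, g * x * g⁻¹ ∈ A) :
    IsClassFunction G (fun x => if x ∈ A then (1 : ℂ) else 0) := by
  intro x g
  simp only
  have : g * x * g⁻¹ ∈ A ↔ x ∈ A := by
    constructor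
    · intro h
      have := hA _ h g⁻¹
      simpa [mul_assoc] using this
    · intro h; exact hA x h g
  by_cases h : x ∈ A
  · rw [if_pos h, if_pos (this.mpr h)]
  · rw [if_neg h, if_neg (fun h' => h (this.mp h'))]

/-- the number of solutions of `x y = τ` in invariant sets -/
theorem count_formula [Finite G] [Fintype G] (A B : Set G) (hA : ∀ x ∈ A, ∀ g : G, g * x * g⁻¹ ∈ A)
    (hB : ∀ x ∈ B, ∀ g : G, g * x * g⁻¹ ∈ B) (τ : G) :
    ∑ χ : IrrCharacter G, SS A (χ : G → ℂ) * SS B (χ : G → ℂ) * (χ : G → ℂ) τ⁻¹ / (χ : G → ℂ) 1 =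
      (Nat.card G : ℂ) * (Nat.card {x : G // x ∈ A ∧ x⁻¹ * τ ∈ B} : ℂ) := by
  classical
  set α : G → ℂ := fun x => if x ∈ A then (1 : ℂ) else 0 with hα
  set β : G → ℂ := fun x => if x ∈ B then (1 : ℂ) else 0 with hβ
  have hαc : IsClassFunction G α := by
    have := indicator_class A hA
    convert this
  have hβc : IsClassFunction G β := by
    have := indicator_class B hB
    convert this
  have hSA : ∀ χ : G → ℂ, SS A χ = ∑ x, α x * χ x := by
    intro χ; rfl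
  have hSB : ∀ χ : G → ℂ, SS B χ = ∑ x, β x * χ x := by
    intro χ; rfl
  have h1 : ∀ χ : IrrCharacter G, SS A (χ : G → ℂ) * SS B (χ : G → ℂ) * (χ : G → ℂ) τ⁻¹ / (χ : G → ℂ) 1 =
      ∑ x, ∑ y, α x * β y * ((χ : G → ℂ) 1 * (χ : G → ℂ) (τ⁻¹ * x * y)) := by
    intro χ
    have h2 : ∀ x, ∑ y, β y * (χ : G → ℂ) (τ⁻¹ * x * y) = SS B (χ : G → ℂ) * (χ : G → ℂ) (τ⁻¹ * x) / (χ : G → ℂ) 1 := by
      intro x
      rw [hSB]
      exact StructConst.sum_mul_irr hβc χ.2 (τ⁻¹ * x)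
    have h3 : ∑ x, α x * (χ : G → ℂ) (τ⁻¹ * x) = SS A (χ : G → ℂ) * (χ : G → ℂ) τ⁻¹ / (χ : G → ℂ) 1 := by
      rw [hSA]
      exact StructConst.sum_mul_irr hαc χ.2 τ⁻¹
    have hne := χ.2.one_ne_zero
    calc SS A (χ : G → ℂ) * SS B (χ : G → ℂ) * (χ : G → ℂ) τ⁻¹ / (χ : G → ℂ) 1
        = SS B (χ : G → ℂ) * (SS A (χ : G → ℂ) * (χ : G → ℂ) τ⁻¹ / (χ : G → ℂ) 1) := by ring
      _ = SS B (χ : G → ℂ) * ∑ x, α x * (χ : G → ℂ) (τ⁻¹ * x) := by rw [h3]
      _ = ∑ x, α x * (χ : G → ℂ) 1 * (SS B (χ : G → ℂ) * (χ : G → ℂ) (τ⁻¹ * x) / (χ : G → ℂ) 1) := by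
        rw [Finset.mul_sum]
        apply Finset.sum_congr rfl
        intro x _
        field_simp
      _ = ∑ x, ∑ y, α x * β y * ((χ : G → ℂ) 1 * (χ : G → ℂ) (τ⁻¹ * x * y)) := by
        apply Finset.sum_congr rfl
        intro x _
        rw [← h2, Finset.mul_sum]
        apply Finset.sum_congr rfl
        intro y _
        ring
  rw [Finset.sum_congr rfl fun χ _ => h1 χ, Finset.sum_comm]
  have h4 : ∀ x, ∑ χ : IrrCharacter G, ∑ y, α x * β y * ((χ : G → ℂ) 1 * (χ : G → ℂ) (τ⁻¹ * x * y)) =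
      (Nat.card G : ℂ) * (α x * β (x⁻¹ * τ)) := by
    intro x
    rw [Finset.sum_comm]
    have h5 : ∀ y, ∑ χ : IrrCharacter G, α x * β y * ((χ : G → ℂ) 1 * (χ : G → ℂ) (τ⁻¹ * x * y)) =
        if y = x⁻¹ * τ then (Nat.card G : ℂ) * (α x * β (x⁻¹ * τ)) else 0 := by
      intro y
      rw [← Finset.mul_sum]
      split_ifs with hy
      · subst hy
        have : τ⁻¹ * x * (x⁻¹ * τ) = 1 := by group
        rw [this]
        have h6 := sum_degree_sq (G := G)
        have h7 : ∑ χ : IrrCharacter G, (χ : G → ℂ) 1 * (χ : G → ℂ) 1 = (Nat.card G : ℂ) := by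
          rw [← h6]
          apply Finset.sum_congr rfl
          intro χ _
          rw [sq]
        rw [h7]; ring
      · have hne : τ⁻¹ * x * y ≠ 1 := by
          intro h
          apply hy
          have : y = x⁻¹ * (τ * (τ⁻¹ * x * y)) := by group
          rw [this, h, mul_one]
        rw [sum_degree_mul _ hne, mul_zero]
    rw [Finset.sum_congr rfl fun y _ => h5 y, Finset.sum_ite_eq' Finset.univ (x⁻¹ * τ)]
    simp
  rw [Finset.sum_congr rfl fun x _ => h4 x, ← Finset.mul_sum]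
  congr 1
  rw [Nat.card_eq_fintype_card, Fintype.card_subtype]
  have : ∀ x, α x * β (x⁻¹ * τ) = if (x ∈ A ∧ x⁻¹ * τ ∈ B) then (1 : ℂ) else 0 := by
    intro x
    simp only [hα, hβ]
    by_cases h1 : x ∈ A <;> by_cases h2 : x⁻¹ * τ ∈ B <;> simp [h1, h2]
  rw [Finset.sum_congr rfl fun x _ => this x, Finset.sum_ite]
  simp

end Cfsg.Agent.Lib.H25W
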