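import Cfsg.Agent.Lib.H25Wg

/-!
# Characters on the 3-singular elements, `3^2 : D_8` (helper25)
-/

set_option autoImplicit false
set_option linter.all false
set_option maxHeartbeats 400000

namespace Cfsg.Agent.Lib.H25W

open Cfsg Cfsg.Agent.Lib.CharBasic Cfsg.Agent.Lib.H25Nine Cfsg.Agent.Lib.BlockRing DihedralGroup
open scoped ComplexConjugate

universe u

theorem sum3 (f : ZMod 3 → ℂ) : ∑ i, f i = f 0 + f 1 + f 2 := Fin.sum_univ_three f

theorem sumV (f : V → ℂ) : ∑ v, f v = f (0, 0) + f (0, 1) + f (0, 2) + (f (1, 0) + f (1, 1) + f (1, 2)) +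
    (f (2, 0) + f (2, 1) + f (2, 2)) := by
  rw [Fintype.sum_prod_type, sum3, sum3, sum3, sum3]

/-- sums over free actions -/
theorem free_sum {P Ω : Type*} [Group P] [Finite P] [MulAction P Ω] [Fintype Ω]
    (hfree : ∀ (p : P) (ω : Ω), p • ω = ω → p = 1) (f : Ω → ℂ) (hf : ∀ (p : P) (ω : Ω), f (p • ω) = f ω)
    (hint : ∀ ω, IsIntegral ℤ (f ω)) : ∃ z : ℂ, IsIntegral ℤ z ∧ ∑ ω, f ω = (Nat.card P : ℂ) * z := by
  classical
  let Q := Quotient (MulAction.orbitRel P Ω)
  have : Fintype Q := Fintype.ofFinite Q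
  refine ⟨∑ q : Q, f q.out, IsIntegral.sum _ fun q _ => hint _, ?_⟩
  rw [← Finset.sum_fiberwise (s := Finset.univ) (g := fun ω : Ω => (Quotient.mk _ ω : Q)) (f := f), Finset.mul_sum]
  apply Finset.sum_congr rfl
  intro q _
  have h1 : ∀ ω ∈ Finset.univ.filter (fun ω : Ω => (Quotient.mk _ ω : Q) = q), f ω = f q.out := by
    intro ω hω
    rw [Finset.mem_filter] at hω
    have h2 : (Quotient.mk _ ω : Q) = Quotient.mk _ q.out := by rw [hω.2, Quotient.out_eq]
    obtain ⟨p, hp⟩ := MulAction.orbitRel_apply.mp (Quotient.exact h2)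
    rw [← hp]; exact hf p _
  rw [Finset.sum_congr rfl h1, Finset.sum_const, nsmul_eq_mul]
  congr 1
  have h3 : (Finset.univ.filter (fun ω : Ω => (Quotient.mk _ ω : Q) = q)).card = Nat.card (MulAction.orbit P q.out) := by
    rw [Nat.card_eq_fintype_card, ← Set.toFinset_card]
    congr 1
    ext ω
    rw [Finset.mem_filter, Set.mem_toFinset]
    constructor
    · rintro ⟨-, h⟩
      have h2 : (Quotient.mk _ ω : Q) = Quotient.mk _ q.out := by rw [h, Quotient.out_eq]
      exact MulAction.orbitRel_apply.mp (Quotient.exact h2)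
    · intro h
      refine ⟨Finset.mem_univ _, ?_⟩
      rw [← Quotient.out_eq q]
      exact Quotient.sound (MulAction.orbitRel_apply.mpr h)
  rw [h3]
  have h4 : MulAction.stabilizer P q.out = ⊥ := by
    rw [eq_bot_iff]
    intro p hp
    exact hfree p _ hp
  have : Fintype P := Fintype.ofFinite P
  have h5 := MulAction.card_orbit_mul_card_stabilizer_eq_card_group P q.out
  rw [← Nat.card_eq_fintype_card, ← Nat.card_eq_fintype_card, ← Nat.card_eq_fintype_card, h4,
    Subgroup.card_bot, mul_one] at h5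
  rw [h5]

variable {G : Type u} [Group G] {S : Subgroup G} {ρ : D →* G} {a b : G}

namespace Wr

theorem real_model [Finite G] (W : Wr S ρ a b) {τ m : MM} (h : mulM τ m = oneM) (h' : ∃ g, mulM g τ = mulM m g) :
    IsConj (el ρ a b τ) (el ρ a b τ)⁻¹ := by
  have h1 : (el ρ a b τ)⁻¹ = el ρ a b m := by
    rw [inv_eq_iff_mul_eq_one, ← W.el_mul, h, W.el_one]
  rw [h1]
  exact (W.el_conj h').symm

theorem ord3 [Finite G] (W : Wr S ρ a b) {τ : MM} (h : mulM (mulM τ τ) τ = oneM) (h1 : τ ≠ oneM) : orderOf (el ρ a b τ) = 3 := by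
  apply orderOf_eq_prime
  · rw [pow_succ, sq, ← W.el_mul, ← W.el_mul, h, W.el_one]
  · intro h2
    exact h1 (W.el_inj (by rw [h2, W.el_one]))

theorem ord6 [Finite G] (W : Wr S ρ a b) {τ c s : MM} (hτ : τ = mulM c s) (hcs : mulM c s = mulM s c)
    (hc : mulM (mulM c c) c = oneM) (hc1 : c ≠ oneM) (hs : mulM s s = oneM) (hs1 : s ≠ oneM) :
    orderOf (el ρ a b τ) = 6 := by
  have h1 : Commute (el ρ a b c) (el ρ a b s) := by
    show _ * _ = _ * _
    rw [← W.el_mul, ← W.el_mul, hcs]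
  have h2 : orderOf (el ρ a b s) = 2 := by
    apply orderOf_eq_prime
    · rw [sq, ← W.el_mul, hs, W.el_one]
    · intro h2
      exact hs1 (W.el_inj (by rw [h2, W.el_one]))
  rw [hτ, W.el_mul, h1.orderOf_mul_eq_mul_orderOf_of_coprime (by rw [W.ord3 hc hc1, h2]; norm_num), W.ord3 hc hc1, h2]

end Wr

/-- integral values -/
structure Vals (S : Subgroup G) (ρ : D →* G) (a b : G) (U U' W W' : IrrCharacter G → ℤ) : Prop where
  hU : ∀ χ : IrrCharacter G, (χ : G → ℂ) (el ρ a b uu) = U χ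
  hU' : ∀ χ : IrrCharacter G, (χ : G → ℂ) (el ρ a b us) = U' χ
  hW : ∀ χ : IrrCharacter G, (χ : G → ℂ) (el ρ a b ww) = W χ
  hW' : ∀ χ : IrrCharacter G, (χ : G → ℂ) (el ρ a b wq) = W' χ

theorem exists_vals [Finite G] (W : Wr S ρ a b) : ∃ U U' W W' : IrrCharacter G → ℤ, Vals S ρ a b U U' W W' := by
  have r1 := W.real_model (τ := uu) (m := ((2, 0), 1)) (by decide) ⟨(0, r 2), by decide⟩
  have r2 := W.real_model (τ := ww) (m := ((2, 2), 1)) (by decide) ⟨(0, r 2), by decide⟩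
  have r3 := W.real_model (τ := us) (m := ((2, 0), sr 2)) (by decide) ⟨(0, r 2), by decide⟩
  have r4 := W.real_model (τ := wq) (m := ((2, 2), sr 1)) (by decide) ⟨(0, r 2), by decide⟩
  have o1 := W.ord3 (τ := uu) (by decide) (by decide)
  have o2 := W.ord3 (τ := ww) (by decide) (by decide)
  have o3 := W.ord6 (τ := us) (c := uu) (s := (0, sr 2)) (by decide) (by decide) (by decide) (by decide) (by decide) (by decide)
  have o4 := W.ord6 (τ := wq) (c := ww) (s := (0, sr 1)) (by decide) (by decide) (by decide) (by decide) (by decide) (by decide)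
  have p2 : ∀ τ, el ρ a b τ ^ 2 = el ρ a b (mulM τ τ) := fun τ => by rw [sq, W.el_mul]
  have p3 : ∀ τ, el ρ a b τ ^ 3 = el ρ a b (mulM (mulM τ τ) τ) := fun τ => by rw [pow_succ, sq, W.el_mul, W.el_mul]
  have q3 : IsConj (el ρ a b us ^ 2) (el ρ a b us ^ 2)⁻¹ := by
    rw [p2]; exact W.real_model (m := ((1, 0), 1)) (by decide) ⟨(0, r 2), by decide⟩
  have q4 : IsConj (el ρ a b wq ^ 2) (el ρ a b wq ^ 2)⁻¹ := by
    rw [p2]; exact W.real_model (m := ((1, 1), 1)) (by decide) ⟨(0, r 2), by decide⟩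
  have t3 : IsConj (el ρ a b us ^ 3) (el ρ a b us ^ 3)⁻¹ := by
    rw [p3]; exact W.real_model (m := (0, sr 2)) (by decide) ⟨(0, r 2), by decide⟩
  have t4 : IsConj (el ρ a b wq ^ 3) (el ρ a b wq ^ 3)⁻¹ := by
    rw [p3]; exact W.real_model (m := (0, sr 1)) (by decide) ⟨(0, r 2), by decide⟩
  choose U hU _ using fun χ : IrrCharacter G => real_three χ.2.isCharacter o1 r1 (H76Char.charDegree_eq χ.2.isCharacter).symm
  choose Ww hW _ using fun χ : IrrCharacter G => real_three χ.2.isCharacter o2 r2 (H76Char.charDegree_eq χ.2.isCharacter).symm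
  choose U' hU' using fun χ : IrrCharacter G => real_six χ.2.isCharacter o3 r3 q3 t3
  choose W' hW' using fun χ : IrrCharacter G => real_six χ.2.isCharacter o4 r4 q4 t4
  exact ⟨U, U', Ww, W', hU, hU', hW, hW'⟩

end Cfsg.Agent.Lib.H25W
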