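import Cfsg.Agent.Lib.H25Wh

/-!
# Characters on the 3-singular elements, `3^2 : D_8`: orthogonality and congruences (helper25)
-/

set_option autoImplicit false
set_option linter.all false
set_option maxHeartbeats 400000

namespace Cfsg.Agent.Lib.H25W

open Cfsg Cfsg.Agent.Lib.CharBasic Cfsg.Agent.Lib.H25Nine Cfsg.Agent.Lib.BlockRing DihedralGroup
open scoped ComplexConjugate

universe u

variable {G : Type u} [Group G] {S : Subgroup G} {ρ : D →* G} {a b : G} [Finite G]

theorem orth_eq (W : Wr S ρ a b) {τ : MM} (hτ : sing τ = true) {f : IrrCharacter G → ℤ}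
    (hf : ∀ χ : IrrCharacter G, (χ : G → ℂ) (el ρ a b τ) = f χ) : ∑ χ, f χ * f χ = ccnt τ := by
  have h1 := column_orthogonality (el ρ a b τ) (el ρ a b τ)
  rw [if_pos (IsConj.refl _), W.card_cent hτ] at h1
  simp only [hf, map_intCast] at h1
  exact_mod_cast h1

theorem orth_ne (W : Wr S ρ a b) {τ τ' : MM} (hτ : sing τ = true) (hτ' : sing τ' = true)
    (hn : ∀ g : MM, mulM g τ ≠ mulM τ' g) {f f' : IrrCharacter G → ℤ}
    (hf : ∀ χ : IrrCharacter G, (χ : G → ℂ) (el ρ a b τ) = f χ)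
    (hf' : ∀ χ : IrrCharacter G, (χ : G → ℂ) (el ρ a b τ') = f' χ) : ∑ χ, f χ * f' χ = 0 := by
  have h1 := column_orthogonality (el ρ a b τ) (el ρ a b τ')
  rw [if_neg (fun h => by obtain ⟨g, hg⟩ := W.conj_model hτ hτ' h; exact hn g hg)] at h1
  simp only [hf, hf', map_intCast] at h1
  exact_mod_cast h1

theorem orth_one (W : Wr S ρ a b) {τ : MM} (hτ : sing τ = true) {f : IrrCharacter G → ℤ}
    (hf : ∀ χ : IrrCharacter G, (χ : G → ℂ) (el ρ a b τ) = f χ) :
    ∑ χ : IrrCharacter G, (f χ : ℂ) * (χ : G → ℂ) 1 = 0 := by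
  have h0 : el ρ a b τ ≠ 1 := by
    intro h
    apply (W.sing_pow hτ).2
    rw [h, one_pow]
  have h1 := sum_degree_mul _ h0
  simp only [hf] at h1
  rw [← h1]
  apply Finset.sum_congr rfl
  intro χ _
  ring

theorem orth_SS [Fintype G] (W : Wr S ρ a b) {τ : MM} (hτ : sing τ = true) {f : IrrCharacter G → ℤ}
    (hf : ∀ χ : IrrCharacter G, (χ : G → ℂ) (el ρ a b τ) = f χ) (A : Set G) (hA : ∀ x ∈ A, x * x = 1 ∧ x ≠ 1) :
    ∑ χ : IrrCharacter G, (f χ : ℂ) * SS A (χ : G → ℂ) = 0 := by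
  classical
  unfold SS
  simp only [Finset.mul_sum]
  rw [Finset.sum_comm]
  apply Finset.sum_eq_zero
  intro x _
  by_cases hx : x ∈ A
  · have h1 := column_orthogonality (el ρ a b τ) x
    have hxi : x⁻¹ = x := by rw [inv_eq_iff_mul_eq_one]; exact (hA x hx).1
    rw [if_neg] at h1
    · rw [← h1]
      apply Finset.sum_congr rfl
      intro χ _
      rw [if_pos hx, hf, ← χ.2.inv, hxi, one_mul]
    · intro hc
      obtain ⟨g, hg⟩ := isConj_iff.mp hc
      apply (W.sing_pow hτ).2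
      have h2 : el ρ a b τ = g⁻¹ * x * g := by rw [← hg]; group
      have h3 : el ρ a b τ * el ρ a b τ = 1 := by
        rw [h2]
        calc g⁻¹ * x * g * (g⁻¹ * x * g) = g⁻¹ * (x * x) * g := by group
          _ = 1 := by rw [(hA x hx).1]; group
      calc el ρ a b τ ^ 4 = (el ρ a b τ * el ρ a b τ) * (el ρ a b τ * el ρ a b τ) := by rw [← sq, ← sq, ← pow_mul]
        _ = 1 := by rw [h3, one_mul]
  · apply Finset.sum_eq_zero
    intro χ _
    rw [if_neg hx, zero_mul, mul_zero]

variable {U U' Ww W' : IrrCharacter G → ℤ}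

theorem cong_UU' (W : Wr S ρ a b) (hv : Vals S ρ a b U U' Ww W') (χ : IrrCharacter G) : (2 : ℤ) ∣ U' χ - U χ := by
  have h : el ρ a b us = el ρ a b uu * el ρ a b (0, sr 2) := by rw [← W.el_mul]; rfl
  apply cong2 χ.2.isCharacter (c := el ρ a b uu) (s := el ρ a b (0, sr 2)) (W.ord3 (by decide) (by decide))
  · rw [← W.el_mul, ← W.el_one]; exact congrArg _ (by decide)
  · rw [← W.el_mul, ← W.el_mul]; exact congrArg _ (by decide)
  · rw [← h]; exact hv.hU' χ
  · exact hv.hU χ

theorem cong_WW' (W : Wr S ρ a b) (hv : Vals S ρ a b U U' Ww W') (χ : IrrCharacter G) : (2 : ℤ) ∣ W' χ - Ww χ := by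
  have h : el ρ a b wq = el ρ a b ww * el ρ a b (0, sr 1) := by rw [← W.el_mul]; rfl
  apply cong2 χ.2.isCharacter (c := el ρ a b ww) (s := el ρ a b (0, sr 1)) (W.ord3 (by decide) (by decide))
  · rw [← W.el_mul, ← W.el_one]; exact congrArg _ (by decide)
  · rw [← W.el_mul, ← W.el_mul]; exact congrArg _ (by decide)
  · rw [← h]; exact hv.hW' χ
  · exact hv.hW χ

theorem cong_U (W : Wr S ρ a b) (hv : Vals S ρ a b U U' Ww W') (χ : IrrCharacter G) :
    (3 : ℤ) ∣ U χ - charDegree (χ : G → ℂ) := by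
  have r1 := W.real_model (τ := uu) (m := ((2, 0), 1)) (by decide) ⟨(0, r 2), by decide⟩
  obtain ⟨n, hn, hn'⟩ := real_three χ.2.isCharacter (W.ord3 (τ := uu) (by decide) (by decide)) r1 (H76Char.charDegree_eq χ.2.isCharacter).symm
  rw [hv.hU] at hn
  have : U χ = n := by exact_mod_cast hn
  rw [this]; exact hn'

theorem cong_W (W : Wr S ρ a b) (hv : Vals S ρ a b U U' Ww W') (χ : IrrCharacter G) :
    (3 : ℤ) ∣ Ww χ - charDegree (χ : G → ℂ) := by
  have r1 := W.real_model (τ := ww) (m := ((2, 2), 1)) (by decide) ⟨(0, r 2), by decide⟩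
  obtain ⟨n, hn, hn'⟩ := real_three χ.2.isCharacter (W.ord3 (τ := ww) (by decide) (by decide)) r1 (H76Char.charDegree_eq χ.2.isCharacter).symm
  rw [hv.hW] at hn
  have : Ww χ = n := by exact_mod_cast hn
  rw [this]; exact hn'

set_option maxRecDepth 1000000 in
theorem cj_u : ∀ v : V, v ≠ 0 → (v.1 = 0 ∨ v.2 = 0) → ∃ g : MM, mulM g (v, 1) = mulM uu g := by decide
set_option maxRecDepth 1000000 in
theorem cj_w : ∀ v : V, v.1 ≠ 0 → v.2 ≠ 0 → ∃ g : MM, mulM g (v, 1) = mulM ww g := by decide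

theorem val_co (W : Wr S ρ a b) (hv : Vals S ρ a b U U' Ww W') (χ : IrrCharacter G) (v : V) :
    (χ : G → ℂ) (co a b v) = if v = 0 then (χ : G → ℂ) 1 else if (v.1 = 0 ∨ v.2 = 0) then (U χ : ℂ) else (Ww χ : ℂ) := by
  have he : el ρ a b (v, 1) = co a b v := by unfold el; rw [map_one, mul_one]
  split_ifs with h h'
  · rw [h]
    have : co a b 0 = 1 := by simp [co]
    rw [this]
  · rw [← he, ← hv.hU, (χ.2.isClassFunction.conj_eq (W.el_conj (cj_u v h h')))]
  · push Not at h'
    rw [← he, ← hv.hW, (χ.2.isClassFunction.conj_eq (W.el_conj (cj_w v h'.1 h'.2)))]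

/-- the bijection of the coordinates with `S` -/
theorem sum_S (W : Wr S ρ a b) [Fintype S] (f : G → ℂ) : ∑ x : S, f (x : G) = ∑ v : V, f (co a b v) := by
  symm
  apply Fintype.sum_bijective (fun v : V => (⟨co a b v, W.co_mem v⟩ : S))
  · constructor
    · intro v v' h
      exact W.co_inj (congrArg Subtype.val h)
    · rintro ⟨x, hx⟩
      obtain ⟨v, rfl⟩ := W.exists_co hx
      exact ⟨v, rfl⟩
  · intro v; rfl

theorem card_S (W : Wr S ρ a b) : Nat.card S = 9 := by
  classical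
  have := Fintype.ofFinite S
  have h1 := sum_S W (fun _ => (1 : ℂ))
  rw [Finset.sum_const, Finset.sum_const, Finset.card_univ, Finset.card_univ] at h1
  have h2 : Fintype.card V = 9 := by decide
  rw [h2] at h1
  rw [Nat.card_eq_fintype_card]
  simp at h1
  exact_mod_cast h1

theorem cong9 (W : Wr S ρ a b) (hv : Vals S ρ a b U U' Ww W') (χ : IrrCharacter G) :
    (9 : ℤ) ∣ charDegree (χ : G → ℂ) + 4 * U χ + 4 * Ww χ := by
  classical
  have := Fintype.ofFinite G
  have := Fintype.ofFinite S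
  obtain ⟨n, hn⟩ := sum_subgroup χ.2.isCharacter S
  rw [sum_S W, sumV, card_S W] at hn
  simp only [val_co W hv] at hn
  have e1 : (χ : G → ℂ) 1 = charDegree (χ : G → ℂ) := (H76Char.charDegree_eq χ.2.isCharacter).symm
  rw [e1] at hn
  have h2 : ((charDegree (χ : G → ℂ) + 4 * U χ + 4 * Ww χ : ℤ) : ℂ) = ((9 * n : ℤ) : ℂ) := by
    push_cast
    have k : ∀ v : V, v ≠ 0 → (v = 0) = False := fun v h => by simp [h]
    rw [if_pos (by decide), if_neg (by decide), if_pos (by decide), if_neg (by decide), if_pos (by decide),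
      if_neg (by decide), if_pos (by decide), if_neg (by decide), if_neg (by decide), if_neg (by decide), if_neg (by decide),
      if_neg (by decide), if_pos (by decide), if_neg (by decide), if_neg (by decide), if_neg (by decide), if_neg (by decide)] at hn
    push_cast at hn
    linear_combination hn
  exact ⟨n, by exact_mod_cast h2⟩

end Cfsg.Agent.Lib.H25W
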