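import Cfsg.Agent.Lib.H25Wi

/-!
# Nonvanishing on 3-elements, `3^2 : D_8` (helper25)
-/

set_option autoImplicit false
set_option linter.all false
set_option maxHeartbeats 400000

namespace Cfsg.Agent.Lib.H25W

open Cfsg Cfsg.Agent.Lib.CharBasic Cfsg.Agent.Lib.H25Nine Cfsg.Agent.Lib.BlockRing DihedralGroup
open scoped ComplexConjugate

universe u

variable {G : Type u} [Group G] {S : Subgroup G} {ρ : D →* G} {a b : G} [Finite G]
variable {U U' Ww W' : IrrCharacter G → ℤ}

open scoped Classical in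
/-- sums over a class of 3-elements modulo nine -/
theorem sum_mod (W : Wr S ρ a b) [Fintype G] (A : Set G) (hA : ∀ x ∈ A, ∀ g : G, g * x * g⁻¹ ∈ A) (hA3 : ∀ x ∈ A, x ^ 3 = 1)
    {χ : G → ℂ} (hχ : IsIrrCharacter G χ) (c : G) (hc : c ∈ S) :
    ∃ z : ℂ, IsIntegral ℤ z ∧ SS A χ * χ c / χ 1 = (∑ v : V, (if co a b v ∈ A then (1 : ℂ) else 0) * χ (c * co a b v)) + 9 * z := by
  classical
  have := Fintype.ofFinite S
  have h1 : SS A χ * χ c / χ 1 = ∑ y, (if y ∈ A then (1 : ℂ) else 0) * χ (c * y) := by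
    have := StructConst.sum_mul_irr (a := fun x => if x ∈ A then (1 : ℂ) else 0) (by
      have := indicator_class A hA
      convert this) hχ c
    rw [this]
    rfl
  -- the free part
  let Ω := {y : G // y ∉ S ∧ y ∈ A}
  letI act : MulAction S Ω :=
    { smul := fun t y => ⟨(t : G) * y.1 * (t : G)⁻¹, by
        refine ⟨fun h => y.2.1 ?_, hA _ y.2.2 _⟩
        have h2 : y.1 = (t : G)⁻¹ * ((t : G) * y.1 * (t : G)⁻¹) * t := by group
        rw [h2]
        exact S.mul_mem (S.mul_mem (S.inv_mem t.2) h) t.2⟩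
      one_smul := fun y => Subtype.ext (by
        show ((1 : S) : G) * y.1 * ((1 : S) : G)⁻¹ = y.1
        simp)
      mul_smul := fun s t y => Subtype.ext (by
        show ((s * t : S) : G) * y.1 * ((s * t : S) : G)⁻¹ = (s : G) * ((t : G) * y.1 * (t : G)⁻¹) * (s : G)⁻¹
        push_cast; group) }
  have hfree : ∀ (t : S) (y : Ω), t • y = y → t = 1 := by
    intro t y h
    by_contra ht
    have ht1 : (t : G) ≠ 1 := fun h => ht (Subtype.ext h)
    have h2 : (t : G) * y.1 * (t : G)⁻¹ = y.1 := congrArg Subtype.val h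
    have h3 : y.1 ∈ Subgroup.normalizer (S : Set G) := by
      apply W.tis.cent t t.2 ht1
      rw [Subgroup.mem_centralizer_singleton_iff]
      calc y.1 * (t : G) = ((t : G) * y.1 * (t : G)⁻¹) * t := by rw [h2]
        _ = t * y.1 := by group
    exact y.2.1 (W.tis.mem_of_pow h3 (hA3 _ y.2.2))
  obtain ⟨z, hz, hz'⟩ := free_sum (P := S) (Ω := Ω) hfree (fun y => χ (c * y.1)) (by
      intro t y
      show χ (c * ((t : G) * y.1 * (t : G)⁻¹)) = χ (c * y.1)
      have : c * ((t : G) * y.1 * (t : G)⁻¹) = (t : G) * (c * y.1) * (t : G)⁻¹ := by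
        have h4 := W.tis.comm c hc t t.2
        calc c * ((t : G) * y.1 * (t : G)⁻¹) = (c * t) * y.1 * (t : G)⁻¹ := by group
          _ = _ := by rw [h4]; group
      rw [this]
      exact hχ.isClassFunction _ _)
    (fun y => H76Char.isIntegral_of_isCharacter hχ.isCharacter _)
  refine ⟨z, hz, ?_⟩
  rw [h1]
  have hcard : (Nat.card S : ℂ) = 9 := by rw [card_S W]; norm_num
  rw [hcard] at hz'
  rw [← hz']
  rw [← sum_S W (fun y => (if y ∈ A then (1 : ℂ) else 0) * χ (c * y))]
  rw [← Finset.sum_filter_add_sum_filter_not Finset.univ (fun y => y ∈ S)]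
  congr 1
  · rw [Finset.sum_subtype (p := fun y => y ∈ S) _ (by intro x; simp)]
  · have h5 : ∑ x ∈ Finset.univ.filter (fun y => ¬ y ∈ S), (if x ∈ A then (1 : ℂ) else 0) * χ (c * x) =
        ∑ x ∈ Finset.univ.filter (fun y => y ∉ S ∧ y ∈ A), χ (c * x) := by
      rw [← Finset.sum_filter_add_sum_filter_not (Finset.univ.filter (fun y => ¬ y ∈ S)) (fun y => y ∈ A)]
      have h6 : ∑ x ∈ (Finset.univ.filter (fun y => ¬ y ∈ S)).filter (fun y => ¬ y ∈ A), (if x ∈ A then (1 : ℂ) else 0) * χ (c * x) = 0 := by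
        apply Finset.sum_eq_zero
        intro x hx
        rw [Finset.mem_filter] at hx
        rw [if_neg hx.2, zero_mul]
      rw [h6, add_zero]
      apply Finset.sum_congr
      · ext x; simp
      · intro x hx
        rw [Finset.mem_filter] at hx
        have : x ∈ A := by
          simp at hx
          tauto
        rw [if_pos this, one_mul]
    rw [h5, Finset.sum_subtype (p := fun y => y ∉ S ∧ y ∈ A) _ (by intro x; simp)]

def cls (c : G) : Set G := {y : G | IsConj c y}

omit [Finite G] in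
theorem mem_cls (c y : G) : y ∈ cls c ↔ IsConj c y := Iff.rfl

theorem ord_us (W : Wr S ρ a b) : orderOf (el ρ a b us) = 6 :=
  W.ord6 (τ := us) (c := uu) (s := (0, sr 2)) (by decide) (by decide) (by decide) (by decide) (by decide) (by decide)

theorem ord_wq (W : Wr S ρ a b) : orderOf (el ρ a b wq) = 6 :=
  W.ord6 (τ := wq) (c := ww) (s := (0, sr 1)) (by decide) (by decide) (by decide) (by decide) (by decide) (by decide)

set_option maxRecDepth 1000000 in
theorem ncj_w : ∀ v : V, v ≠ 0 → (v.1 = 0 ∨ v.2 = 0) → ∀ g : MM, mulM g ww ≠ mulM (v, 1) g := by decide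
set_option maxRecDepth 1000000 in
theorem ncj_u : ∀ v : V, (v.1 ≠ 0 ∧ v.2 ≠ 0) → ∀ g : MM, mulM g uu ≠ mulM (v, 1) g := by decide
set_option maxRecDepth 1000000 in
theorem sing_v : ∀ v : V, v ≠ 0 → sing (v, 1) = true := by decide

theorem mem_cls_w (W : Wr S ρ a b) (v : V) : co a b v ∈ cls (el ρ a b ww) ↔ (v.1 ≠ 0 ∧ v.2 ≠ 0) := by
  have he : el ρ a b (v, 1) = co a b v := by unfold el; rw [map_one, mul_one]
  constructor
  · intro h
    by_contra hcon
    have h2 : v.1 = 0 ∨ v.2 = 0 := by tauto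
    rw [mem_cls, ← he] at h
    by_cases hv : v = 0
    · subst hv
      have : el ρ a b ((0 : V), (1 : D)) = 1 := W.el_one
      rw [this] at h
      have h3 : el ρ a b ww = 1 := isConj_one_left.mp h
      rw [← W.el_one] at h3
      exact absurd (W.el_inj h3) (by decide)
    · obtain ⟨g, hg⟩ := W.conj_model sing_ww (sing_v v hv) h
      exact ncj_w v hv h2 g hg
  · rintro ⟨h1, h2⟩
    rw [mem_cls, ← he]
    exact W.el_conj (cj_w v h1 h2)

theorem mem_cls_u (W : Wr S ρ a b) (v : V) : co a b v ∈ cls (el ρ a b uu) ↔ (v ≠ 0 ∧ (v.1 = 0 ∨ v.2 = 0)) := by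
  have he : el ρ a b (v, 1) = co a b v := by unfold el; rw [map_one, mul_one]
  constructor
  · intro h
    rw [mem_cls, ← he] at h
    by_cases hv : v = 0
    · exfalso
      subst hv
      have : el ρ a b ((0 : V), (1 : D)) = 1 := W.el_one
      rw [this] at h
      have h3 : el ρ a b uu = 1 := isConj_one_left.mp h
      rw [← W.el_one] at h3
      exact absurd (W.el_inj h3) (by decide)
    · refine ⟨hv, ?_⟩
      by_contra hcon
      push Not at hcon
      obtain ⟨g, hg⟩ := W.conj_model sing_uu (sing_v v hv) h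
      exact ncj_u v hcon g hg
  · rintro ⟨h1, h2⟩
    rw [mem_cls, ← he]
    exact W.el_conj (cj_u v h1 h2)

theorem cls_inv (c : G) : ∀ x ∈ cls c, ∀ g : G, g * x * g⁻¹ ∈ cls c := by
  intro x hx g
  exact IsConj.trans hx (isConj_iff.mpr ⟨g, rfl⟩)

theorem cls_three {c : G} (hc : c ^ 3 = 1) : ∀ x ∈ cls c, x ^ 3 = 1 := by
  intro x hx
  obtain ⟨g, rfl⟩ := isConj_iff.mp hx
  rw [conj_pow, hc]; group

theorem SS_zero [Fintype G] {c : G} {χ : G → ℂ} (hχ : IsClassFunction G χ) (h0 : χ c = 0) : SS (cls c) χ = 0 := by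
  classical
  unfold SS
  apply Finset.sum_eq_zero
  intro x _
  by_cases hx : x ∈ cls c
  · rw [← hχ.conj_eq hx, h0, mul_zero]
  · rw [if_neg hx, zero_mul]

theorem dvd_of_integral {n : ℤ} {z : ℂ} (hz : IsIntegral ℤ z) (h : (0 : ℂ) = 2 * n + 9 * z) : (9 : ℤ) ∣ 2 * n := by
  obtain ⟨k, hk⟩ := CharCentral.exists_int_of_isIntegral_rat hz (-(2 * n) / 9 : ℚ) (by
    push_cast
    linear_combination (-1 / 9 : ℂ) * h)
  rw [hk] at h
  have : (0 : ℤ) = 2 * n + 9 * k := by exact_mod_cast h
  exact ⟨-k, by linarith⟩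

open scoped Classical in
theorem U_of_W (W : Wr S ρ a b) (hv : Vals S ρ a b U U' Ww W') (χ : IrrCharacter G) (h0 : Ww χ = 0) : (9 : ℤ) ∣ 2 * U χ := by
  have := Fintype.ofFinite G
  have hw3 : el ρ a b ww ^ 3 = 1 := by rw [← W.ord3 (τ := ww) (by decide) (by decide)]; exact pow_orderOf_eq_one _
  obtain ⟨z, hz, h1⟩ := sum_mod W (cls (el ρ a b ww)) (cls_inv _) (cls_three hw3) χ.2 (co a b (1, 0)) (W.co_mem _)
  rw [SS_zero χ.2.isClassFunction (by rw [hv.hW, h0]; simp), zero_mul, zero_div] at h1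
  have h2 : (∑ v : V, (if co a b v ∈ cls (el ρ a b ww) then (1 : ℂ) else 0) * (χ : G → ℂ) (co a b (1, 0) * co a b v)) = 2 * (U χ : ℂ) := by
    have h3 : ∀ v : V, (if co a b v ∈ cls (el ρ a b ww) then (1 : ℂ) else 0) * (χ : G → ℂ) (co a b (1, 0) * co a b v)
        = if (v.1 ≠ 0 ∧ v.2 ≠ 0) then (if (1, 0) + v = 0 then (χ : G → ℂ) 1 else if (((1, 0) + v : V).1 = 0 ∨ ((1, 0) + v : V).2 = 0) then (U χ : ℂ) else (Ww χ : ℂ)) else 0 := by
      intro v
      rw [← W.co_add, val_co W hv]
      by_cases h : v.1 ≠ 0 ∧ v.2 ≠ 0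
      · rw [if_pos ((mem_cls_w W v).mpr h), if_pos h, one_mul]
      · rw [if_neg (fun h' => h ((mem_cls_w W v).mp h')), if_neg h, zero_mul]
    rw [Finset.sum_congr rfl fun v _ => h3 v, sumV]
    rw [if_neg (by decide), if_neg (by decide), if_neg (by decide), if_neg (by decide), if_pos (by decide), if_neg (by decide),
      if_neg (by decide), if_pos (by decide), if_neg (by decide), if_neg (by decide), if_neg (by decide), if_pos (by decide),
      if_neg (by decide), if_pos (by decide), if_pos (by decide), if_neg (by decide), if_pos (by decide), h0]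
    push_cast; ring
  rw [h2] at h1
  exact dvd_of_integral hz h1

open scoped Classical in
theorem W_of_U (W : Wr S ρ a b) (hv : Vals S ρ a b U U' Ww W') (χ : IrrCharacter G) (h0 : U χ = 0) : (9 : ℤ) ∣ 2 * Ww χ := by
  have := Fintype.ofFinite G
  have hw3 : el ρ a b uu ^ 3 = 1 := by rw [← W.ord3 (τ := uu) (by decide) (by decide)]; exact pow_orderOf_eq_one _
  obtain ⟨z, hz, h1⟩ := sum_mod W (cls (el ρ a b uu)) (cls_inv _) (cls_three hw3) χ.2 (co a b (1, 1)) (W.co_mem _)
  rw [SS_zero χ.2.isClassFunction (by rw [hv.hU, h0]; simp), zero_mul, zero_div] at h1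
  have h2 : (∑ v : V, (if co a b v ∈ cls (el ρ a b uu) then (1 : ℂ) else 0) * (χ : G → ℂ) (co a b (1, 1) * co a b v)) = 2 * (Ww χ : ℂ) := by
    have h3 : ∀ v : V, (if co a b v ∈ cls (el ρ a b uu) then (1 : ℂ) else 0) * (χ : G → ℂ) (co a b (1, 1) * co a b v)
        = if (v ≠ 0 ∧ (v.1 = 0 ∨ v.2 = 0)) then (if (1, 1) + v = 0 then (χ : G → ℂ) 1 else if (((1, 1) + v : V).1 = 0 ∨ ((1, 1) + v : V).2 = 0) then (U χ : ℂ) else (Ww χ : ℂ)) else 0 := by
      intro v
      rw [← W.co_add, val_co W hv]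
      by_cases h : v ≠ 0 ∧ (v.1 = 0 ∨ v.2 = 0)
      · rw [if_pos ((mem_cls_u W v).mpr h), if_pos h, one_mul]
      · rw [if_neg (fun h' => h ((mem_cls_u W v).mp h')), if_neg h, zero_mul]
    rw [Finset.sum_congr rfl fun v _ => h3 v, sumV]
    rw [if_neg (by decide), if_pos (by decide), if_neg (by decide), if_neg (by decide), if_pos (by decide), if_neg (by decide), if_pos (by decide),
      if_pos (by decide), if_neg (by decide), if_neg (by decide), if_neg (by decide), if_neg (by decide),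
      if_pos (by decide), if_neg (by decide), if_pos (by decide), if_neg (by decide), if_neg (by decide), h0]
    push_cast; ring
  rw [h2] at h1
  exact dvd_of_integral hz h1

theorem singular_zero (W : Wr S ρ a b) (hv : Vals S ρ a b U U' Ww W') (χ : IrrCharacter G) (h0 : U χ = 0) (h1 : Ww χ = 0) :
    U' χ = 0 ∧ W' χ = 0 := by
  have hf : Fact (Nat.Prime 3) := ⟨Nat.prime_three⟩
  obtain ⟨M, hM⟩ := H76Char.exists_isPModular 3
  have h2 := cong9 W hv χ
  rw [h0, h1] at h2
  have h3 : 9 ∣ charDegree (χ : G → ℂ) := by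
    simp at h2
    exact_mod_cast h2
  have hd := BlockDefect.charDegree_spec χ.2
  have hfac : (Nat.card G).factorization 3 ≤ (charDegree (χ : G → ℂ)).factorization 3 := by
    obtain ⟨P, hP⟩ := W.tis.sylow
    have h4 : Nat.card (P : Subgroup G) = 3 ^ (Nat.card G).factorization 3 := P.card_eq_multiplicity
    rw [hP, card_S W] at h4
    have h5 : (Nat.card G).factorization 3 = 2 := by
      have : 3 ^ (Nat.card G).factorization 3 = 3 ^ 2 := by rw [← h4]; norm_num
      exact Nat.pow_right_injective (le_refl 2 |> fun _ => by norm_num) this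
    rw [h5]
    exact (Nat.prime_three.pow_dvd_iff_le_factorization hd.2).mp (by norm_num; exact h3)
  constructor
  · have h6 := BlockVal.defect_zero_vanish hM hfac (g := el ρ a b us) (by
      rw [ord_us W]; norm_num)
    rw [hv.hU'] at h6
    exact_mod_cast h6
  · have h6 := BlockVal.defect_zero_vanish hM hfac (g := el ρ a b wq) (by
      rw [ord_wq W]; norm_num)
    rw [hv.hW'] at h6
    exact_mod_cast h6

end Cfsg.Agent.Lib.H25W
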