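import Mathlib

/-!
# Combinatorics of the nine characters, `3^2 : D_8` (helper25)
-/

set_option autoImplicit false
set_option linter.all false
set_option maxHeartbeats 800000

namespace Cfsg.Agent.Lib.H25W

def rU : Fin 3 → ℤ := ![1, 1, -2]
def rV : Fin 3 → ℤ := ![1, -1, 0]

/-- conditions on a quadruple of values -/
def good (U U' W W' : ℤ) : Bool :=
  (U * U + 3 * (U' * U') + W * W + 3 * (W' * W') ≤ 18) ∧ (U' - U) % 2 = 0 ∧ (W' - W) % 2 = 0 ∧ (U - W) % 3 = 0 ∧
  (W = 0 → (2 * U) % 9 = 0) ∧ (U = 0 → (2 * W) % 9 = 0) ∧ (U = 0 → W = 0 → U' = 0 ∧ W' = 0)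

def typed (U U' W W' : ℤ) : Bool :=
  (U = 0 ∧ U' = 0 ∧ W = 0 ∧ W' = 0) ∨ ∃ j k : Fin 3, (U = rU j ∧ U' = rV j ∧ W = rU k ∧ W' = rV k) ∨
    (U = -rU j ∧ U' = -rV j ∧ W = -rU k ∧ W' = -rV k)

set_option maxRecDepth 1000000 in
theorem classify_dec : ∀ a b c d : Fin 9, good ((a : ℤ) - 4) ((b : ℤ) - 4) ((c : ℤ) - 4) ((d : ℤ) - 4) = true →
    typed ((a : ℤ) - 4) ((b : ℤ) - 4) ((c : ℤ) - 4) ((d : ℤ) - 4) = true := by decide +kernel

theorem classify {U U' W W' : ℤ} (h : good U U' W W' = true) : typed U U' W W' = true := by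
  have hb : U * U + 3 * (U' * U') + W * W + 3 * (W' * W') ≤ 18 := by
    unfold good at h
    rw [decide_eq_true_eq] at h
    exact h.1
  have key : ∀ x : ℤ, x * x ≤ 18 → ∃ a : Fin 9, x = (a : ℤ) - 4 := by
    intro x hx
    have h1 : x ≤ 4 := by nlinarith
    have h2 : -4 ≤ x := by nlinarith
    refine ⟨⟨(x + 4).toNat, by omega⟩, ?_⟩
    simp only
    omega
  obtain ⟨a, rfl⟩ := key U (by nlinarith [mul_self_nonneg U', mul_self_nonneg W, mul_self_nonneg W'])
  obtain ⟨b, rfl⟩ := key U' (by nlinarith [mul_self_nonneg U', mul_self_nonneg W, mul_self_nonneg W', mul_self_nonneg ((a : ℤ) - 4)])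
  obtain ⟨c, rfl⟩ := key W (by nlinarith [mul_self_nonneg ((b : ℤ) - 4), mul_self_nonneg W, mul_self_nonneg W', mul_self_nonneg ((a : ℤ) - 4)])
  obtain ⟨d, rfl⟩ := key W' (by nlinarith [mul_self_nonneg ((b : ℤ) - 4), mul_self_nonneg ((c : ℤ) - 4), mul_self_nonneg W', mul_self_nonneg ((a : ℤ) - 4)])
  exact classify_dec a b c d h

abbrev T9 := Fin 3 × Fin 3

theorem sum_fin9 {R : Type*} [AddCommMonoid R] (f : T9 → R) : ∑ t, f t = (f (0, 0) + f (0, 1) + f (0, 2)) + (f (1, 0) + f (1, 1) + f (1, 2)) +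
    (f (2, 0) + f (2, 1) + f (2, 2)) := by
  rw [Fintype.sum_prod_type, Fin.sum_univ_three, Fin.sum_univ_three, Fin.sum_univ_three, Fin.sum_univ_three]

set_option maxRecDepth 100000 in
theorem typed_iff {U U' W W' : ℤ} (h : typed U U' W W' = true) : ∃ o : Option T9, ∃ ε : ℤ, ε * ε = 1 ∧
    (o = none → U = 0 ∧ U' = 0 ∧ W = 0 ∧ W' = 0) ∧
    ∀ t : T9, o = some t → U = ε * rU t.1 ∧ U' = ε * rV t.1 ∧ W = ε * rU t.2 ∧ W' = ε * rV t.2 := by
  unfold typed at h
  rw [decide_eq_true_eq] at h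
  rcases h with h | ⟨j, k, h | h⟩
  · exact ⟨none, 1, by norm_num, fun _ => h, fun t ht => by simp at ht⟩
  · refine ⟨some (j, k), 1, by norm_num, fun h => by simp at h, fun t ht => ?_⟩
    simp only [Option.some.injEq] at ht
    subst ht
    simpa using h
  · refine ⟨some (j, k), -1, by norm_num, fun h => by simp at h, fun t ht => ?_⟩
    simp only [Option.some.injEq] at ht
    subst ht
    simpa using h

section nine

variable {ι : Type*} [Fintype ι] [DecidableEq ι] {U U' W W' : ι → ℤ}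

structure Orth (U U' W W' : ι → ℤ) : Prop where
  uu : ∑ i, U i * U i = 18
  vv : ∑ i, U' i * U' i = 6
  ww : ∑ i, W i * W i = 18
  xx : ∑ i, W' i * W' i = 6
  uv : ∑ i, U i * U' i = 0
  uw : ∑ i, U i * W i = 0
  ux : ∑ i, U i * W' i = 0
  vw : ∑ i, U' i * W i = 0
  vx : ∑ i, U' i * W' i = 0
  wx : ∑ i, W i * W' i = 0

theorem bound (h : Orth U U' W W') (i : ι) : U i * U i + 3 * (U' i * U' i) + W i * W i + 3 * (W' i * W' i) ≤ 18 := by
  set c : ι → ℤ := fun j => U i * U j + 3 * U' i * U' j + W i * W j + 3 * W' i * W' j with hc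
  set E := U i * U i + 3 * (U' i * U' i) + W i * W i + 3 * (W' i * W' i) with hE
  have h1 : ∑ j, c j ^ 2 = 18 * E := by
    have : ∀ j, c j ^ 2 = U i * U i * (U j * U j) + 9 * (U' i * U' i) * (U' j * U' j) + W i * W i * (W j * W j) + 9 * (W' i * W' i) * (W' j * W' j)
        + 6 * (U i * U' i) * (U j * U' j) + 2 * (U i * W i) * (U j * W j) + 6 * (U i * W' i) * (U j * W' j) + 6 * (U' i * W i) * (U' j * W j)
        + 18 * (U' i * W' i) * (U' j * W' j) + 6 * (W i * W' i) * (W j * W' j) := by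
      intro j; simp only [hc]; ring
    rw [Finset.sum_congr rfl fun j _ => this j]
    simp only [Finset.sum_add_distrib, ← Finset.mul_sum]
    rw [h.uu, h.vv, h.ww, h.xx, h.uv, h.uw, h.ux, h.vw, h.vx, h.wx, hE]
    ring
  have h2 : c i ^ 2 ≤ ∑ j, c j ^ 2 := Finset.single_le_sum (fun j _ => sq_nonneg (c j)) (Finset.mem_univ i)
  have h3 : c i = E := by simp only [hc, hE]; ring
  rw [h1, h3] at h2
  have h4 : 0 ≤ E := by rw [hE]; nlinarith [mul_self_nonneg (U i), mul_self_nonneg (U' i), mul_self_nonneg (W i), mul_self_nonneg (W' i)]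
  by_contra hcon
  push Not at hcon
  nlinarith

/-- the nine characters -/
structure Grid (U U' W W' : ι → ℤ) (X : T9 → ι) (ε : T9 → ℤ) : Prop where
  sq : ∀ t, ε t * ε t = 1
  val : ∀ t, U (X t) = ε t * rU t.1 ∧ U' (X t) = ε t * rV t.1 ∧ W (X t) = ε t * rU t.2 ∧ W' (X t) = ε t * rV t.2
  inj : Function.Injective X
  rest : ∀ i, (∀ t, i ≠ X t) → U i = 0 ∧ U' i = 0 ∧ W i = 0 ∧ W' i = 0

theorem exists_grid (h : Orth U U' W W') (hg : ∀ i, U i * U i + 3 * (U' i * U' i) + W i * W i + 3 * (W' i * W' i) ≤ 18 →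
    good (U i) (U' i) (W i) (W' i) = true) : ∃ X ε, Grid U U' W W' X ε := by
  have h1 := fun i => typed_iff (classify (hg i (bound h i)))
  choose o ε hε hn hs using h1
  -- counting
  set N : T9 → ℕ := fun t => (Finset.univ.filter (fun i => o i = some t)).card with hN
  have hsum : ∀ (F : ι → ℤ) (f : T9 → ℤ), (∀ i, o i = none → F i = 0) → (∀ i t, o i = some t → F i = f t) →
      ∑ i, F i = ∑ t, (N t : ℤ) * f t := by
    intro F f h0 h1
    rw [← Finset.sum_fiberwise (s := Finset.univ) (g := o) (f := F), Fintype.sum_option]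
    have e0 : ∑ i ∈ Finset.univ.filter (fun i => o i = none), F i = 0 := by
      apply Finset.sum_eq_zero
      intro i hi
      rw [Finset.mem_filter] at hi
      exact h0 i hi.2
    rw [e0, zero_add]
    apply Finset.sum_congr rfl
    intro t _
    have e1 : ∀ i ∈ Finset.univ.filter (fun i => o i = some t), F i = f t := by
      intro i hi
      rw [Finset.mem_filter] at hi
      exact h1 i t hi.2
    rw [Finset.sum_congr rfl e1, Finset.sum_const, nsmul_eq_mul]
  have prod : ∀ (A B : ι → ℤ) (fa fb : T9 → ℤ), (∀ i, o i = none → A i = 0) → (∀ i t, o i = some t → A i = ε i * fa t) →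
      (∀ i t, o i = some t → B i = ε i * fb t) → ∑ i, A i * B i = ∑ t, (N t : ℤ) * (fa t * fb t) := by
    intro A B fa fb h0 h1 h2
    apply hsum
    · intro i hi; rw [h0 i hi, zero_mul]
    · intro i t ht
      rw [h1 i t ht, h2 i t ht]
      calc ε i * fa t * (ε i * fb t) = (ε i * ε i) * (fa t * fb t) := by ring
        _ = fa t * fb t := by rw [hε, one_mul]
  have u0 : ∀ i, o i = none → U i = 0 := fun i hi => (hn i hi).1
  have v0 : ∀ i, o i = none → U' i = 0 := fun i hi => (hn i hi).2.1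
  have w0 : ∀ i, o i = none → W i = 0 := fun i hi => (hn i hi).2.2.1
  have x0 : ∀ i, o i = none → W' i = 0 := fun i hi => (hn i hi).2.2.2
  have u1 : ∀ i t, o i = some t → U i = ε i * rU t.1 := fun i t ht => (hs i t ht).1
  have v1 : ∀ i t, o i = some t → U' i = ε i * rV t.1 := fun i t ht => (hs i t ht).2.1
  have w1 : ∀ i t, o i = some t → W i = ε i * rU t.2 := fun i t ht => (hs i t ht).2.2.1
  have x1 : ∀ i t, o i = some t → W' i = ε i * rV t.2 := fun i t ht => (hs i t ht).2.2.2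
  have k1 := (prod U U (fun t => rU t.1) (fun t => rU t.1) u0 u1 u1).symm.trans h.uu
  have k2 := (prod U' U' (fun t => rV t.1) (fun t => rV t.1) v0 v1 v1).symm.trans h.vv
  have k3 := (prod W W (fun t => rU t.2) (fun t => rU t.2) w0 w1 w1).symm.trans h.ww
  have k4 := (prod W' W' (fun t => rV t.2) (fun t => rV t.2) x0 x1 x1).symm.trans h.xx
  have k5 := (prod U U' (fun t => rU t.1) (fun t => rV t.1) u0 u1 v1).symm.trans h.uv
  have k6 := (prod U W (fun t => rU t.1) (fun t => rU t.2) u0 u1 w1).symm.trans h.uw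
  have k7 := (prod U W' (fun t => rU t.1) (fun t => rV t.2) u0 u1 x1).symm.trans h.ux
  have k8 := (prod U' W (fun t => rV t.1) (fun t => rU t.2) v0 v1 w1).symm.trans h.vw
  have k9 := (prod U' W' (fun t => rV t.1) (fun t => rV t.2) v0 v1 x1).symm.trans h.vx
  have k10 := (prod W W' (fun t => rU t.2) (fun t => rV t.2) w0 w1 x1).symm.trans h.wx
  rw [sum_fin9] at k1 k2 k3 k4 k5 k6 k7 k8 k9 k10
  simp only [rU, rV, Matrix.cons_val_zero, Matrix.cons_val_one, Matrix.cons_val] at k1 k2 k3 k4 k5 k6 k7 k8 k9 k10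
  have hN1 : ∀ t : T9, N t = 1 := by
    have hh : N (0, 0) = 1 ∧ N (0, 1) = 1 ∧ N (0, 2) = 1 ∧ N (1, 0) = 1 ∧ N (1, 1) = 1 ∧ N (1, 2) = 1 ∧
        N (2, 0) = 1 ∧ N (2, 1) = 1 ∧ N (2, 2) = 1 := by
      refine ⟨?_, ?_, ?_, ?_, ?_, ?_, ?_, ?_, ?_⟩ <;> omega
    rintro ⟨j, k⟩
    obtain ⟨a1, a2, a3, a4, a5, a6, a7, a8, a9⟩ := hh
    fin_cases j <;> fin_cases k <;> assumption
  have hX : ∀ t : T9, ∃ i, Finset.univ.filter (fun i => o i = some t) = {i} := fun t => Finset.card_eq_one.mp (hN1 t)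
  choose X hX using hX
  have hoX : ∀ t, o (X t) = some t := by
    intro t
    have : X t ∈ Finset.univ.filter (fun i => o i = some t) := by rw [hX]; exact Finset.mem_singleton_self _
    exact (Finset.mem_filter.mp this).2
  refine ⟨X, fun t => ε (X t), fun t => hε _, fun t => hs _ t (hoX t), ?_, ?_⟩
  · intro t t' htt
    have h1 := hoX t
    rw [htt, hoX t'] at h1
    exact (Option.some.inj h1).symm
  · intro i hi
    apply hn
    cases hoi : o i with
    | none => rfl
    | some t =>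
      exfalso
      apply hi t
      have : i ∈ Finset.univ.filter (fun i => o i = some t) := by rw [Finset.mem_filter]; exact ⟨Finset.mem_univ _, hoi⟩
      rw [hX, Finset.mem_singleton] at this
      exact this

theorem Grid.sum {X : T9 → ι} {ε : T9 → ℤ} (h : Grid U U' W W' X ε) (F f : ι → ℂ) (h0 : ∀ i, (∀ t, i ≠ X t) → F i = 0) :
    ∑ i, F i * f i = ∑ t, F (X t) * f (X t) := by
  rw [← Finset.sum_image (s := Finset.univ) (g := X) (f := fun i => F i * f i) (fun t _ t' _ htt => h.inj htt)]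
  symm
  apply Finset.sum_subset (Finset.subset_univ _)
  intro i _ hi
  rw [h0 i (fun t ht => hi (by rw [ht]; exact Finset.mem_image_of_mem _ (Finset.mem_univ _))), zero_mul]

end nine

end Cfsg.Agent.Lib.H25W
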