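import Cfsg.Agent.Lib.H25Wc
import Cfsg.Agent.Lib.H25Wj
import Cfsg.Agent.Lib.H25Wk

/-!
# The linear character for `3^2 : D_8` (helper25)
-/

set_option autoImplicit false
set_option linter.all false
set_option maxHeartbeats 800000

namespace Cfsg.Agent.Lib.H25W

open Cfsg Cfsg.Agent.Lib.CharBasic Cfsg.Agent.Lib.H25Nine Cfsg.Agent.Lib.BlockRing DihedralGroup
open scoped ComplexConjugate

universe u

section alg

structure Rel (y : T9 → ℂ) : Prop where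
  r1 : y (0, 0) + y (0, 1) + y (0, 2) = y (1, 0) + y (1, 1) + y (1, 2)
  r2 : y (1, 0) + y (1, 1) + y (1, 2) = y (2, 0) + y (2, 1) + y (2, 2)
  c1 : y (0, 0) + y (1, 0) + y (2, 0) = y (0, 1) + y (1, 1) + y (2, 1)
  c2 : y (0, 1) + y (1, 1) + y (2, 1) = y (0, 2) + y (1, 2) + y (2, 2)

theorem Rel.e02 {y : T9 → ℂ} (h : Rel y) : y (0, 2) = y (1, 0) + y (1, 1) - y (2, 2) := by
  obtain ⟨h1, h2, h3, h4⟩ := h; linear_combination (h1 - h2 - h3 - 2 * h4) / 3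
theorem Rel.e12 {y : T9 → ℂ} (h : Rel y) : y (1, 2) = y (0, 0) + y (0, 1) - y (2, 2) := by
  obtain ⟨h1, h2, h3, h4⟩ := h; linear_combination (-2 * h1 - h2 - h3 - 2 * h4) / 3
theorem Rel.e20 {y : T9 → ℂ} (h : Rel y) : y (2, 0) = y (0, 1) + y (1, 1) - y (2, 2) := by
  obtain ⟨h1, h2, h3, h4⟩ := h; linear_combination (-h1 - 2 * h2 + h3 - h4) / 3
theorem Rel.e21 {y : T9 → ℂ} (h : Rel y) : y (2, 1) = y (0, 0) + y (1, 0) - y (2, 2) := by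
  obtain ⟨h1, h2, h3, h4⟩ := h; linear_combination (-h1 - 2 * h2 - 2 * h3 - h4) / 3

theorem gram {x y z : T9 → ℂ} {N nu nv nw nx : ℂ} (hx0 : x (0, 0) = 1) (hx : ∀ t, x t ≠ 0)
    (Rx : Rel x) (Ry : Rel y) (Rz : Rel z)
    (T1 : ∑ t, (rU t.1 : ℂ) * (y t * z t / x t) = N * nu) (T2 : ∑ t, (rV t.1 : ℂ) * (y t * z t / x t) = N * nv)
    (T3 : ∑ t, (rU t.2 : ℂ) * (y t * z t / x t) = N * nw) (T4 : ∑ t, (rV t.2 : ℂ) * (y t * z t / x t) = N * nx) :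
    Q3 1 (x (0, 1)) (-x (2, 2)) 0 (y (0, 1) - y (0, 0) * x (0, 1)) (-y (2, 2) + y (0, 0) * x (2, 2))
      0 (z (0, 1) - z (0, 0) * x (0, 1)) (-z (2, 2) + z (0, 0) * x (2, 2)) = N * (nu / 6 + nv / 2 + nw / 3) ∧
    Q3 1 (x (1, 0)) (-x (2, 2)) 0 (y (1, 0) - y (0, 0) * x (1, 0)) (-y (2, 2) + y (0, 0) * x (2, 2))
      0 (z (1, 0) - z (0, 0) * x (1, 0)) (-z (2, 2) + z (0, 0) * x (2, 2)) = N * (nu / 3 + nw / 6 + nx / 2) ∧
    Q3 (x (1, 0)) (x (1, 1)) (-x (2, 2)) (y (1, 0) - y (0, 0) * x (1, 0)) (y (1, 1) - y (0, 0) * x (1, 1)) (-y (2, 2) + y (0, 0) * x (2, 2))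
      (z (1, 0) - z (0, 0) * x (1, 0)) (z (1, 1) - z (0, 0) * x (1, 1)) (-z (2, 2) + z (0, 0) * x (2, 2)) = N * (nu / 6 - nv / 2 + nw / 3) ∧
    Q3 (x (0, 1)) (x (1, 1)) (-x (2, 2)) (y (0, 1) - y (0, 0) * x (0, 1)) (y (1, 1) - y (0, 0) * x (1, 1)) (-y (2, 2) + y (0, 0) * x (2, 2))
      (z (0, 1) - z (0, 0) * x (0, 1)) (z (1, 1) - z (0, 0) * x (1, 1)) (-z (2, 2) + z (0, 0) * x (2, 2)) = N * (nu / 3 + nw / 6 - nx / 2) := by
  rw [sum_fin9] at T1 T2 T3 T4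
  simp only [rU, rV, Matrix.cons_val_zero, Matrix.cons_val_one, Matrix.cons_val] at T1 T2 T3 T4
  push_cast at T1 T2 T3 T4
  have n01 := hx (0, 1)
  have n10 := hx (1, 0)
  have n11 := hx (1, 1)
  have n22 := hx (2, 2)
  have n02 := hx (0, 2)
  have n12 := hx (1, 2)
  have n20 := hx (2, 0)
  have n21 := hx (2, 1)
  have x02 := Rx.e02
  have x12 := Rx.e12
  have x20 := Rx.e20
  have x21 := Rx.e21
  rw [hx0] at x12 x21
  have d1 : 1 + x (0, 1) + -x (2, 2) ≠ 0 := by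
    have : 1 + x (0, 1) + -x (2, 2) = x (1, 2) := by rw [x12]; ring
    rw [this]; exact n12
  have d2 : 1 + x (1, 0) + -x (2, 2) ≠ 0 := by
    have : 1 + x (1, 0) + -x (2, 2) = x (2, 1) := by rw [x21]; ring
    rw [this]; exact n21
  have d3 : x (1, 0) + x (1, 1) + -x (2, 2) ≠ 0 := by
    have : x (1, 0) + x (1, 1) + -x (2, 2) = x (0, 2) := by rw [x02]; ring
    rw [this]; exact n02
  have d4 : x (0, 1) + x (1, 1) + -x (2, 2) ≠ 0 := by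
    have : x (0, 1) + x (1, 1) + -x (2, 2) = x (2, 0) := by rw [x20]; ring
    rw [this]; exact n20
  refine ⟨?_, ?_, ?_, ?_⟩
  · have e : Q3 1 (x (0, 1)) (-x (2, 2)) 0 (y (0, 1) - y (0, 0) * x (0, 1)) (-y (2, 2) + y (0, 0) * x (2, 2))
        0 (z (0, 1) - z (0, 0) * x (0, 1)) (-z (2, 2) + z (0, 0) * x (2, 2)) =
        y (0, 0) * z (0, 0) / x (0, 0) + y (0, 1) * z (0, 1) / x (0, 1) - y (2, 2) * z (2, 2) / x (2, 2) - y (1, 2) * z (1, 2) / x (1, 2) := by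
      rw [hx0, Ry.e12, Rz.e12, x12]
      rw [show 1 + x (0, 1) - x (2, 2) = 1 + x (0, 1) + -x (2, 2) by ring]
      unfold Q3
      field_simp
      ring
    rw [e]
    linear_combination T1 / 6 + T2 / 2 + T3 / 3
  · have e : Q3 1 (x (1, 0)) (-x (2, 2)) 0 (y (1, 0) - y (0, 0) * x (1, 0)) (-y (2, 2) + y (0, 0) * x (2, 2))
        0 (z (1, 0) - z (0, 0) * x (1, 0)) (-z (2, 2) + z (0, 0) * x (2, 2)) =
        y (0, 0) * z (0, 0) / x (0, 0) + y (1, 0) * z (1, 0) / x (1, 0) - y (2, 2) * z (2, 2) / x (2, 2) - y (2, 1) * z (2, 1) / x (2, 1) := by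
      rw [hx0, Ry.e21, Rz.e21, x21]
      rw [show 1 + x (1, 0) - x (2, 2) = 1 + x (1, 0) + -x (2, 2) by ring]
      unfold Q3
      field_simp
      ring
    rw [e]
    linear_combination T1 / 3 + T3 / 6 + T4 / 2
  · have e : Q3 (x (1, 0)) (x (1, 1)) (-x (2, 2)) (y (1, 0) - y (0, 0) * x (1, 0)) (y (1, 1) - y (0, 0) * x (1, 1)) (-y (2, 2) + y (0, 0) * x (2, 2))
      (z (1, 0) - z (0, 0) * x (1, 0)) (z (1, 1) - z (0, 0) * x (1, 1)) (-z (2, 2) + z (0, 0) * x (2, 2)) =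
        y (1, 0) * z (1, 0) / x (1, 0) + y (1, 1) * z (1, 1) / x (1, 1) - y (2, 2) * z (2, 2) / x (2, 2) - y (0, 2) * z (0, 2) / x (0, 2) := by
      rw [Ry.e02, Rz.e02, x02]
      rw [show x (1, 0) + x (1, 1) - x (2, 2) = x (1, 0) + x (1, 1) + -x (2, 2) by ring]
      unfold Q3
      field_simp
      ring
    rw [e]
    linear_combination T1 / 6 - T2 / 2 + T3 / 3
  · have e : Q3 (x (0, 1)) (x (1, 1)) (-x (2, 2)) (y (0, 1) - y (0, 0) * x (0, 1)) (y (1, 1) - y (0, 0) * x (1, 1)) (-y (2, 2) + y (0, 0) * x (2, 2))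
      (z (0, 1) - z (0, 0) * x (0, 1)) (z (1, 1) - z (0, 0) * x (1, 1)) (-z (2, 2) + z (0, 0) * x (2, 2)) =
        y (0, 1) * z (0, 1) / x (0, 1) + y (1, 1) * z (1, 1) / x (1, 1) - y (2, 2) * z (2, 2) / x (2, 2) - y (2, 0) * z (2, 0) / x (2, 0) := by
      rw [Ry.e20, Rz.e20, x20]
      rw [show x (0, 1) + x (1, 1) - x (2, 2) = x (0, 1) + x (1, 1) + -x (2, 2) by ring]
      unfold Q3
      field_simp
      ring
    rw [e]
    linear_combination T1 / 3 + T3 / 6 - T4 / 2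

theorem Q3_scale (x y z a b d a' b' d' c : ℂ) :
    Q3 x y z (a / c) (b / c) (d / c) (a' / c) (b' / c) (d' / c) = Q3 x y z a b d a' b' d' / c ^ 2 := by
  unfold Q3
  ring

theorem rel_of_sums {y : T9 → ℂ} (h1 : ∑ t, (rU t.1 : ℂ) * y t = 0) (h2 : ∑ t, (rV t.1 : ℂ) * y t = 0)
    (h3 : ∑ t, (rU t.2 : ℂ) * y t = 0) (h4 : ∑ t, (rV t.2 : ℂ) * y t = 0) : Rel y := by
  rw [sum_fin9] at h1 h2 h3 h4
  simp only [rU, rV, Matrix.cons_val_zero, Matrix.cons_val_one, Matrix.cons_val] at h1 h2 h3 h4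
  push_cast at h1 h2 h3 h4
  refine ⟨?_, ?_, ?_, ?_⟩
  · linear_combination h2
  · linear_combination (h1 - h2) / 2
  · linear_combination h4
  · linear_combination (h3 - h4) / 2

end alg

end Cfsg.Agent.Lib.H25W
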