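import Cfsg.Agent.Lib.H25Wl

/-!
# The linear character for `3^2 : D_8`, existence (helper25)
-/

set_option autoImplicit false
set_option linter.all false
set_option maxHeartbeats 800000

namespace Cfsg.Agent.Lib.H25W

open Cfsg Cfsg.Agent.Lib.CharBasic Cfsg.Agent.Lib.H25Nine Cfsg.Agent.Lib.BlockRing DihedralGroup
open scoped ComplexConjugate

universe u

variable {G : Type u} [Group G] {S : Subgroup G} {ρ : D →* G} {a b : G} [Finite G]
variable {U U' Ww W' : IrrCharacter G → ℤ}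

set_option maxRecDepth 1000000 in
theorem nc_uu_us : ∀ g : MM, mulM g uu ≠ mulM us g := by decide
set_option maxRecDepth 1000000 in
theorem nc_uu_wq : ∀ g : MM, mulM g uu ≠ mulM wq g := by decide
set_option maxRecDepth 1000000 in
theorem nc_us_ww : ∀ g : MM, mulM g us ≠ mulM ww g := by decide
set_option maxRecDepth 1000000 in
theorem nc_ww_wq : ∀ g : MM, mulM g ww ≠ mulM wq g := by decide

theorem orth_all (W : Wr S ρ a b) (hv : Vals S ρ a b U U' Ww W') : Orth U U' Ww W' where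
  uu := by rw [orth_eq W sing_uu hv.hU, ccnt_uu]; rfl
  vv := by rw [orth_eq W sing_us hv.hU', ccnt_us]; rfl
  ww := by rw [orth_eq W sing_ww hv.hW, ccnt_ww]; rfl
  xx := by rw [orth_eq W sing_wq hv.hW', ccnt_wq]; rfl
  uv := orth_ne W sing_uu sing_us nc_uu_us hv.hU hv.hU'
  uw := orth_ne W sing_uu sing_ww nc_uu_ww hv.hU hv.hW
  ux := orth_ne W sing_uu sing_wq nc_uu_wq hv.hU hv.hW'
  vw := orth_ne W sing_us sing_ww nc_us_ww hv.hU' hv.hW
  vx := orth_ne W sing_us sing_wq nc_us_wq hv.hU' hv.hW'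
  wx := orth_ne W sing_ww sing_wq nc_ww_wq hv.hW hv.hW'

theorem good_all (W : Wr S ρ a b) (hv : Vals S ρ a b U U' Ww W') (χ : IrrCharacter G)
    (hb : U χ * U χ + 3 * (U' χ * U' χ) + Ww χ * Ww χ + 3 * (W' χ * W' χ) ≤ 18) :
    good (U χ) (U' χ) (Ww χ) (W' χ) = true := by
  unfold good
  rw [decide_eq_true_eq]
  have h1 := cong_UU' W hv χ
  have h2 := cong_WW' W hv χ
  have h3 := cong_U W hv χ
  have h4 := cong_W W hv χ
  refine ⟨hb, by omega, by omega, by omega, ?_, ?_, ?_⟩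
  · intro h
    have := U_of_W W hv χ h
    omega
  · intro h
    have := W_of_U W hv χ h
    omega
  · intro h h'
    exact singular_zero W hv χ h h'

open scoped Classical in
theorem exists_grid' (W : Wr S ρ a b) (hv : Vals S ρ a b U U' Ww W') :
    ∃ (X : T9 → IrrCharacter G) (ε : T9 → ℤ), Grid U U' Ww W' X ε :=
  exists_grid (orth_all W hv) (good_all W hv)

def triv (G : Type u) [Group G] [Finite G] : IrrCharacter G := ⟨fun _ => 1, isIrrCharacter_fun_one⟩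

theorem grid_eq {X : T9 → IrrCharacter G} {ε : T9 → ℤ} (hG : Grid U U' Ww W' X ε) {χ : IrrCharacter G}
    (h1 : U χ = 1) (h2 : U' χ = 1) (h3 : Ww χ = 1) (h4 : W' χ = 1) : χ = X (0, 0) ∧ ε (0, 0) = 1 := by
  have h5 : ∃ t, χ = X t := by
    by_contra hcon
    push Not at hcon
    have := (hG.rest χ hcon).1
    omega
  obtain ⟨t, rfl⟩ := h5
  obtain ⟨e1, e2, e3, e4⟩ := hG.val t
  have hε : ε t = 1 ∨ ε t = -1 := mul_self_eq_one_iff.mp (hG.sq t)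
  rw [h1] at e1
  rw [h2] at e2
  rw [h3] at e3
  rw [h4] at e4
  obtain ⟨j, k⟩ := t
  rcases hε with h | h <;> rw [h] at e1 e2 e3 e4 <;> fin_cases j <;> fin_cases k <;>
    first
    | exact ⟨rfl, h⟩
    | (exfalso; revert e1 e2 e3 e4; simp [rU, rV])

theorem triv_vals (hv : Vals S ρ a b U U' Ww W') : U (triv G) = 1 ∧ U' (triv G) = 1 ∧ Ww (triv G) = 1 ∧ W' (triv G) = 1 := by
  have h1 := hv.hU (triv G)
  have h2 := hv.hU' (triv G)
  have h3 := hv.hW (triv G)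
  have h4 := hv.hW' (triv G)
  have e : ∀ g, ((triv G : IrrCharacter G) : G → ℂ) g = 1 := fun _ => rfl
  rw [e] at h1 h2 h3 h4
  exact ⟨by exact_mod_cast h1.symm, by exact_mod_cast h2.symm, by exact_mod_cast h3.symm, by exact_mod_cast h4.symm⟩

theorem count_qq (W : Wr S ρ a b) (hq : ¬ IsConj (ρ (sr 1)) (ρ (r 2))) {τ : MM} (hτ : sing τ = true) :
    Nat.card {x : G // x ∈ Wr.Xq ρ ∧ x⁻¹ * el ρ a b τ ∈ Wr.Xq ρ} = cnt tq tq τ :=
  W.count hτ _ _ tq tq W.Xq_invo W.Xq_invo (W.Xq_iff hq) (W.Xq_iff hq)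
theorem count_qz (W : Wr S ρ a b) (hq : ¬ IsConj (ρ (sr 1)) (ρ (r 2))) {τ : MM} (hτ : sing τ = true) :
    Nat.card {x : G // x ∈ Wr.Xq ρ ∧ x⁻¹ * el ρ a b τ ∈ Wr.Xz ρ} = cnt tq tz τ :=
  W.count hτ _ _ tq tz W.Xq_invo W.Xz_invo (W.Xq_iff hq) (W.Xz_iff hq)
theorem count_zz (W : Wr S ρ a b) (hq : ¬ IsConj (ρ (sr 1)) (ρ (r 2))) {τ : MM} (hτ : sing τ = true) :
    Nat.card {x : G // x ∈ Wr.Xz ρ ∧ x⁻¹ * el ρ a b τ ∈ Wr.Xz ρ} = cnt tz tz τ :=
  W.count hτ _ _ tz tz W.Xz_invo W.Xz_invo (W.Xz_iff hq) (W.Xz_iff hq)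

omit [Finite G] in
theorem Xq_inv : ∀ x ∈ Wr.Xq ρ, ∀ g : G, g * x * g⁻¹ ∈ Wr.Xq ρ := by
  intro x hx g
  exact IsConj.trans hx (isConj_iff.mpr ⟨g, rfl⟩)
omit [Finite G] in
theorem Xz_inv : ∀ x ∈ Wr.Xz ρ, ∀ g : G, g * x * g⁻¹ ∈ Wr.Xz ρ := by
  rintro x (hx | hx) g
  · exact Or.inl (IsConj.trans hx (isConj_iff.mpr ⟨g, rfl⟩))
  · exact Or.inr (IsConj.trans hx (isConj_iff.mpr ⟨g, rfl⟩))

open scoped Classical in
/-- the linear character -/
theorem linear_one (W : Wr S ρ a b) (hq : ¬ IsConj (ρ (sr 1)) (ρ (r 2))) (hv : Vals S ρ a b U U' Ww W')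
    {X : T9 → IrrCharacter G} {ε : T9 → ℤ} (hG : Grid U U' Ww W' X ε) : ε (1, 1) * charDegree (X (1, 1) : G → ℂ) = 1 := by
  have := Fintype.ofFinite G
  obtain ⟨t1, t2, t3, t4⟩ := triv_vals hv
  obtain ⟨hX0, hε0⟩ := grid_eq hG t1 t2 t3 t4
  -- signed degrees
  set xi : T9 → ℤ := fun t => ε t * charDegree (X t : G → ℂ) with hxi
  set x : T9 → ℂ := fun t => (xi t : ℂ) with hx
  have hdeg : ∀ t, ((X t : IrrCharacter G) : G → ℂ) 1 = charDegree (X t : G → ℂ) := fun t => (H76Char.charDegree_eq (X t).2.isCharacter).symm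
  have hεC : ∀ t, (ε t : ℂ) * ε t = 1 := fun t => by exact_mod_cast hG.sq t
  have hε0' : ∀ t, (ε t : ℂ) ≠ 0 := fun t h => by
    have := hεC t
    rw [h] at this
    simp at this
  have hx' : ∀ t, x t = ε t * ((X t : IrrCharacter G) : G → ℂ) 1 := by
    intro t; simp only [hx, hxi]; rw [hdeg]; push_cast; rfl
  have hxne : ∀ t, x t ≠ 0 := by
    intro t
    rw [hx']
    exact mul_ne_zero (hε0' t) (X t).2.one_ne_zero
  have hx0 : x (0, 0) = 1 := by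
    rw [hx', hε0, ← hX0]
    show ((1 : ℤ) : ℂ) * 1 = 1
    norm_num
  -- sums over the grid
  have gsum : ∀ (F : IrrCharacter G → ℤ) (φ : T9 → ℤ), (∀ χ, (∀ t, χ ≠ X t) → F χ = 0) → (∀ t, F (X t) = ε t * φ t) →
      ∀ f : IrrCharacter G → ℂ, ∑ χ, (F χ : ℂ) * f χ = ∑ t, (φ t : ℂ) * (ε t * f (X t)) := by
    intro F φ h0 h1 f
    rw [hG.sum (fun χ => (F χ : ℂ)) f (fun χ h => by rw [h0 χ h]; simp)]
    apply Finset.sum_congr rfl
    intro t _
    rw [h1 t]; push_cast; ring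
  have gU := gsum U (fun t => rU t.1) (fun χ h => (hG.rest χ h).1) (fun t => (hG.val t).1)
  have gU' := gsum U' (fun t => rV t.1) (fun χ h => (hG.rest χ h).2.1) (fun t => (hG.val t).2.1)
  have gW := gsum Ww (fun t => rU t.2) (fun χ h => (hG.rest χ h).2.2.1) (fun t => (hG.val t).2.2.1)
  have gW' := gsum W' (fun t => rV t.2) (fun χ h => (hG.rest χ h).2.2.2) (fun t => (hG.val t).2.2.2)
  have Rx : Rel x := by
    apply rel_of_sums
    · rw [← orth_one W sing_uu hv.hU, gU]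
      exact Finset.sum_congr rfl fun t _ => by rw [hx']
    · rw [← orth_one W sing_us hv.hU', gU']
      exact Finset.sum_congr rfl fun t _ => by rw [hx']
    · rw [← orth_one W sing_ww hv.hW, gW]
      exact Finset.sum_congr rfl fun t _ => by rw [hx']
    · rw [← orth_one W sing_wq hv.hW', gW']
      exact Finset.sum_congr rfl fun t _ => by rw [hx']
  set yy : Set G → T9 → ℂ := fun A t => ε t * SS A ((X t : IrrCharacter G) : G → ℂ) with hyy
  have Ry : ∀ A : Set G, (∀ x ∈ A, x * x = 1 ∧ x ≠ 1) → Rel (yy A) := by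
    intro A hA
    apply rel_of_sums
    · rw [← orth_SS W sing_uu hv.hU A hA, gU]
    · rw [← orth_SS W sing_us hv.hU' A hA, gU']
    · rw [← orth_SS W sing_ww hv.hW A hA, gW]
    · rw [← orth_SS W sing_wq hv.hW' A hA, gW']
  -- structure constants
  have hT : ∀ (A B : Set G) (hA : ∀ x ∈ A, ∀ g : G, g * x * g⁻¹ ∈ A) (hB : ∀ x ∈ B, ∀ g : G, g * x * g⁻¹ ∈ B)
      (τ : MM) (F : IrrCharacter G → ℤ) (φ : T9 → ℤ) (n : ℕ), (∀ χ : IrrCharacter G, (χ : G → ℂ) (el ρ a b τ) = F χ) →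
      (∀ χ, (∀ t, χ ≠ X t) → F χ = 0) → (∀ t, F (X t) = ε t * φ t) →
      Nat.card {x : G // x ∈ A ∧ x⁻¹ * el ρ a b τ ∈ B} = n →
      ∑ t, (φ t : ℂ) * (yy A t * yy B t / x t) = (Nat.card G : ℂ) * n := by
    intro A B hA hB τ F φ n hF h0 h1 hn
    have h2 := count_formula A B hA hB (el ρ a b τ)
    rw [hn] at h2
    rw [← h2]
    have h3 : ∀ χ : IrrCharacter G, SS A (χ : G → ℂ) * SS B (χ : G → ℂ) * (χ : G → ℂ) (el ρ a b τ)⁻¹ / (χ : G → ℂ) 1 =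
        (F χ : ℂ) * (SS A (χ : G → ℂ) * SS B (χ : G → ℂ) / (χ : G → ℂ) 1) := by
      intro χ
      rw [χ.2.inv, hF, map_intCast]
      ring
    rw [Finset.sum_congr rfl fun χ _ => h3 χ, gsum F φ h0 h1]
    apply Finset.sum_congr rfl
    intro t _
    rw [hx']
    simp only [hyy]
    have h4 := hεC t
    have h5 := hε0' t
    have h6 := (X t).2.one_ne_zero
    field_simp
  set N : ℂ := (Nat.card G : ℂ) with hN
  have hN0 : N ≠ 0 := by rw [hN]; exact_mod_cast Nat.card_pos.ne'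
  obtain ⟨c, hc⟩ : ∃ c : ℂ, c ^ 2 = N := IsAlgClosed.exists_pow_nat_eq N (by norm_num)
  set Y := yy (Wr.Xq ρ) with hY
  set Z := yy (Wr.Xz ρ) with hZ
  have RY : Rel Y := Ry _ W.Xq_invo
  have RZ : Rel Z := Ry _ W.Xz_invo
  have key : ∀ (A B : Set G) (hA : ∀ x ∈ A, ∀ g : G, g * x * g⁻¹ ∈ A) (hB : ∀ x ∈ B, ∀ g : G, g * x * g⁻¹ ∈ B) (f g : MM → Bool)
      (hcnt : ∀ τ : MM, sing τ = true → Nat.card {x : G // x ∈ A ∧ x⁻¹ * el ρ a b τ ∈ B} = cnt f g τ),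
      (∑ t : T9, ((rU t.1 : ℤ) : ℂ) * (yy A t * yy B t / x t) = N * (cnt f g uu : ℕ)) ∧
      (∑ t : T9, ((rV t.1 : ℤ) : ℂ) * (yy A t * yy B t / x t) = N * (cnt f g us : ℕ)) ∧
      (∑ t : T9, ((rU t.2 : ℤ) : ℂ) * (yy A t * yy B t / x t) = N * (cnt f g ww : ℕ)) ∧
      (∑ t : T9, ((rV t.2 : ℤ) : ℂ) * (yy A t * yy B t / x t) = N * (cnt f g wq : ℕ)) := by
    intro A B hA hB f g hcnt
    exact ⟨hT A B hA hB uu U (fun t => rU t.1) _ hv.hU (fun χ h => (hG.rest χ h).1) (fun t => (hG.val t).1) (hcnt _ sing_uu),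
      hT A B hA hB us U' (fun t => rV t.1) _ hv.hU' (fun χ h => (hG.rest χ h).2.1) (fun t => (hG.val t).2.1) (hcnt _ sing_us),
      hT A B hA hB ww Ww (fun t => rU t.2) _ hv.hW (fun χ h => (hG.rest χ h).2.2.1) (fun t => (hG.val t).2.2.1) (hcnt _ sing_ww),
      hT A B hA hB wq W' (fun t => rV t.2) _ hv.hW' (fun χ h => (hG.rest χ h).2.2.2) (fun t => (hG.val t).2.2.2) (hcnt _ sing_wq)⟩
  obtain ⟨a1, a2, a3, a4⟩ := key _ _ Xq_inv Xq_inv tq tq (fun τ hτ => count_qq W hq hτ)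
  obtain ⟨b1, b2, b3, b4⟩ := key _ _ Xq_inv Xz_inv tq tz (fun τ hτ => count_qz W hq hτ)
  obtain ⟨c1, c2, c3, c4⟩ := key _ _ Xz_inv Xz_inv tz tz (fun τ hτ => count_zz W hq hτ)
  rw [cnt_tq_tq_uu] at a1
  rw [cnt_tq_tq_us] at a2
  rw [cnt_tq_tq_ww] at a3
  rw [cnt_tq_tq_wq] at a4
  rw [cnt_tq_tz_uu] at b1
  rw [cnt_tq_tz_us] at b2
  rw [cnt_tq_tz_ww] at b3
  rw [cnt_tq_tz_wq] at b4
  rw [cnt_tz_tz_uu] at c1
  rw [cnt_tz_tz_us] at c2
  rw [cnt_tz_tz_ww] at c3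
  rw [cnt_tz_tz_wq] at c4
  obtain ⟨A1, A2, A3, A4⟩ := gram hx0 hxne Rx RY RY a1 a2 a3 a4
  obtain ⟨B1, B2, B3, B4⟩ := gram hx0 hxne Rx RY RZ b1 b2 b3 b4
  obtain ⟨C1, C2, C3, C4⟩ := gram hx0 hxne Rx RZ RZ c1 c2 c3 c4
  -- congruences mod nine
  have mod9 : ∀ t : T9, (xi t : ZMod 9) = -4 * ((rU t.1 : ℤ) : ZMod 9) - 4 * ((rU t.2 : ℤ) : ZMod 9) := by
    intro t
    have h1 := cong9 W hv (X t)
    rw [(hG.val t).1, (hG.val t).2.2.1] at h1
    have h2 : (9 : ℤ) ∣ xi t + 4 * rU t.1 + 4 * rU t.2 := by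
      have h3 : xi t + 4 * rU t.1 + 4 * rU t.2 = ε t * (charDegree (X t : G → ℂ) + 4 * (ε t * rU t.1) + 4 * (ε t * rU t.2)) := by
        simp only [hxi]
        linear_combination (-4 * rU t.1 - 4 * rU t.2) * hG.sq t
      rw [h3]; exact Dvd.dvd.mul_left h1 _
    have h4 : ((xi t + 4 * rU t.1 + 4 * rU t.2 : ℤ) : ZMod 9) = 0 := (ZMod.intCast_zmod_eq_zero_iff_dvd _ 9).mpr h2
    push_cast at h4
    linear_combination h4
  have m1 : (xi (0, 1) : ZMod 9) = 1 := by rw [mod9]; decide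
  have m2 : (xi (1, 0) : ZMod 9) = 1 := by rw [mod9]; decide
  have m3 : (xi (1, 1) : ZMod 9) = 1 := by rw [mod9]; decide
  have m4 : ((-xi (2, 2) : ℤ) : ZMod 9) = 2 := by push_cast; rw [mod9]; decide
  have hfin : xi (1, 1) = 1 := by
    have hm' : ((-xi (2, 2) : ℤ) : ℂ) = -x (2, 2) := by push_cast; rfl
    have h01 : (xi (0, 1) : ℂ) = x (0, 1) := rfl
    have h10 : (xi (1, 0) : ℂ) = x (1, 0) := rfl
    have h11 : (xi (1, 1) : ℂ) = x (1, 1) := rfl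
    have hc0 : c ^ 2 ≠ 0 := by rw [hc]; exact hN0
    have z : ∀ v : ℂ, (0 : ℂ) = 0 / c := fun _ => by simp
    apply final_gram (p := xi (0, 1)) (q := xi (1, 0)) (s := xi (1, 1)) (m := -xi (2, 2)) m1 m2 m3 m4
      (a := (Y (0, 1) - Y (0, 0) * x (0, 1)) / c) (a' := (Z (0, 1) - Z (0, 0) * x (0, 1)) / c)
      (b := (Y (1, 0) - Y (0, 0) * x (1, 0)) / c) (b' := (Z (1, 0) - Z (0, 0) * x (1, 0)) / c)
      (t := (Y (1, 1) - Y (0, 0) * x (1, 1)) / c) (t' := (Z (1, 1) - Z (0, 0) * x (1, 1)) / c)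
      (c := (-Y (2, 2) + Y (0, 0) * x (2, 2)) / c) (c' := (-Z (2, 2) + Z (0, 0) * x (2, 2)) / c)
    · rw [z 0, Q3_scale, hm', h01, A1, hc]; field_simp; norm_num
    · rw [z 0, Q3_scale, hm', h01, B1, hc]; push_cast; field_simp; norm_num
    · rw [z 0, Q3_scale, hm', h01, C1, hc]; push_cast; field_simp; norm_num
    · rw [z 0, Q3_scale, hm', h10, A2, hc]; push_cast; field_simp; norm_num
    · rw [z 0, Q3_scale, hm', h10, B2, hc]; push_cast; field_simp; norm_num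
    · rw [z 0, Q3_scale, hm', h10, C2, hc]; push_cast; field_simp; norm_num
    · rw [Q3_scale, hm', h10, h11, A3, hc]; push_cast; field_simp; norm_num
    · rw [Q3_scale, hm', h10, h11, B3, hc]; push_cast; field_simp; norm_num
    · rw [Q3_scale, hm', h10, h11, C3, hc]; push_cast; field_simp; norm_num
    · rw [Q3_scale, hm', h01, h11, A4, hc]; push_cast; field_simp; norm_num
    · rw [Q3_scale, hm', h01, h11, B4, hc]; push_cast; field_simp; norm_num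
    · rw [Q3_scale, hm', h01, h11, C4, hc]; push_cast; field_simp; norm_num
  exact hfin

end Cfsg.Agent.Lib.H25W
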