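import Cfsg.Agent.Lib.H25Wm
import Cfsg.Agent.Lib.MGroups

/-!
# The subgroup of index two for `3^2 : D_8` (helper25)
-/

set_option autoImplicit false
set_option linter.all false
set_option maxHeartbeats 800000

namespace Cfsg.Agent.Lib.H25W

open Cfsg Cfsg.Agent.Lib.CharBasic Cfsg.Agent.Lib.H25Nine Cfsg.Agent.Lib.BlockRing DihedralGroup
open scoped ComplexConjugate

universe u

variable {G : Type u} [Group G] {S : Subgroup G} {ρ : D →* G} {a b : G}

/-- the outer automorphism -/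
def outer : D →* D where
  toFun e := match e with
    | .r i => .r i
    | .sr i => .sr (i + 1)
  map_one' := rfl
  map_mul' := by
    rintro (i | i) (j | j)
    · rfl
    · show sr (j - i + 1) = r i * sr (j + 1)
      rw [r_mul_sr]; congr 1; ring
    · show sr (i + j + 1) = sr (i + 1) * r j
      rw [sr_mul_r]; congr 1; ring
    · show r (j - i) = sr (i + 1) * sr (j + 1)
      rw [sr_mul_sr]; congr 1; ring

theorem outer_sr (i : ZMod 4) : outer (sr i) = sr (i + 1) := rfl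
theorem outer_r (i : ZMod 4) : outer (r i) = r i := rfl

theorem outer_surj : ∀ e : D, ∃ e', outer e' = e := by decide

namespace Wr

variable [Finite G]

theorem s2a (W : Wr S ρ a b) : ρ (sr 2) * a = a * ρ (sr 2) := by
  have h := W.conj_co (sr 2) (1, 0)
  have h1 : act (sr 2) ((1, 0) : V) = (1, 0) := by decide
  have h2 : co a b (1, 0) = a := by
    show a ^ 1 * b ^ 0 = a
    rw [pow_one, pow_zero, mul_one]
  rw [h1, h2] at h
  exact h

theorem s2b (W : Wr S ρ a b) : ρ (sr 2) * b = b⁻¹ * ρ (sr 2) := by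
  have h := W.conj_co (sr 2) (0, 1)
  have h1 : act (sr 2) ((0, 1) : V) = (0, 2) := by decide
  have h2 : co a b (0, 1) = b := by
    show a ^ 0 * b ^ 1 = b
    rw [pow_one, pow_zero, one_mul]
  have h3 : co a b (0, 2) = b⁻¹ := by
    show a ^ 0 * b ^ 2 = b⁻¹
    rw [pow_zero, one_mul, eq_inv_iff_mul_eq_one, ← pow_succ]
    exact W.b3
  rw [h1, h2, h3] at h
  exact h

theorem swap (W : Wr S ρ a b) : Wr S (ρ.comp outer) (a * b⁻¹) (a * b) where
  tis := W.tis
  ha := S.mul_mem W.ha (S.inv_mem W.hb)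
  hb := S.mul_mem W.ha W.hb
  ha1 := by
    intro h
    have h1 : co a b (1, 2) = 1 := by
      show a ^ 1 * b ^ 2 = 1
      have : b ^ 2 = b⁻¹ := by rw [eq_inv_iff_mul_eq_one, ← pow_succ]; exact W.b3
      rw [pow_one, this]; exact h
    exact absurd (W.co_eq_one h1) (by decide)
  hb1 := by
    intro h
    have h1 : co a b (1, 1) = 1 := by
      show a ^ 1 * b ^ 1 = 1
      rw [pow_one, pow_one]; exact h
    exact absurd (W.co_eq_one h1) (by decide)
  gen := by
    intro x hx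
    obtain ⟨i, j, rfl⟩ := W.gen x hx
    have hab : Commute a b := W.ab
    refine ⟨2 * (i - j), 2 * (i + j), ?_⟩
    have h1 : (a * b⁻¹) ^ (2 * (i - j)) = a ^ (2 * (i - j)) * b ^ (-(2 * (i - j))) := by
      rw [(hab.inv_right).mul_zpow, inv_zpow', zpow_neg]
    have h2 : (a * b) ^ (2 * (i + j)) = a ^ (2 * (i + j)) * b ^ (2 * (i + j)) := hab.mul_zpow _
    have h3 : a ^ (3 * i) = 1 := by
      rw [zpow_mul]
      have : a ^ (3 : ℤ) = 1 := by exact_mod_cast W.a3
      rw [this, one_zpow]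
    have h4 : b ^ (3 * j) = 1 := by
      rw [zpow_mul]
      have : b ^ (3 : ℤ) = 1 := by exact_mod_cast W.b3
      rw [this, one_zpow]
    rw [h1, h2]
    have h5 := (hab.zpow_zpow (2 * (i + j)) (-(2 * (i - j)))).eq
    calc a ^ i * b ^ j = a ^ (i + 3 * i) * b ^ (j + 3 * j) := by rw [zpow_add, zpow_add, h3, h4, mul_one, mul_one]
      _ = a ^ (2 * (i - j)) * (a ^ (2 * (i + j)) * b ^ (-(2 * (i - j)))) * b ^ (2 * (i + j)) := by
        rw [show i + 3 * i = 2 * (i - j) + 2 * (i + j) by ring, show j + 3 * j = -(2 * (i - j)) + 2 * (i + j) by ring, zpow_add, zpow_add]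
        group
      _ = _ := by rw [h5]; group
  hρ := fun e => W.hρ _
  s0a := by
    show ρ (outer (sr 0)) * _ = _ * ρ (outer (sr 0))
    rw [outer_sr, zero_add]
    have hb' : ρ (sr 1) * b⁻¹ = a⁻¹ * ρ (sr 1) := by
      have h1 : ρ (sr 1) * b * (ρ (sr 1))⁻¹ = a := by rw [W.s1b]; group
      rw [← h1]; group
    rw [← mul_assoc, W.s1a, mul_assoc, hb']; group
  s0b := by
    show ρ (outer (sr 0)) * _ = _ * ρ (outer (sr 0))
    rw [outer_sr, zero_add, ← mul_assoc, W.s1a, mul_assoc, W.s1b, ← mul_assoc, W.ab]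
  s1a := by
    show ρ (outer (sr 1)) * _ = _ * ρ (outer (sr 1))
    rw [outer_sr, show (1 : ZMod 4) + 1 = 2 by decide]
    have hb' : ρ (sr 2) * b⁻¹ = b * ρ (sr 2) := by
      have h1 : ρ (sr 2) * b * (ρ (sr 2))⁻¹ = b⁻¹ := by rw [W.s2b]; group
      have h2 : b = (ρ (sr 2) * b * (ρ (sr 2))⁻¹)⁻¹ := by rw [h1, inv_inv]
      nth_rewrite 2 [h2]; group
    rw [← mul_assoc, W.s2a, mul_assoc, hb', mul_assoc]
  s1b := by
    show ρ (outer (sr 1)) * _ = _ * ρ (outer (sr 1))
    rw [outer_sr, show (1 : ZMod 4) + 1 = 2 by decide]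
    rw [← mul_assoc, W.s2a, mul_assoc, W.s2b, mul_assoc]
  cov := by
    intro x hx
    obtain ⟨y, hy, e, rfl⟩ := W.cov x hx
    obtain ⟨e', rfl⟩ := outer_surj e
    exact ⟨y, hy, e', rfl⟩
  CS := W.CS
  cyc := W.cyc

end Wr

end Cfsg.Agent.Lib.H25W
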