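import Cfsg.Agent.Lib.H25Wn

/-!
# The subgroup of index two for `3^2 : D_8`, existence (helper25)
-/

set_option autoImplicit false
set_option linter.all false
set_option maxHeartbeats 800000

namespace Cfsg.Agent.Lib.H25W

open Cfsg Cfsg.Agent.Lib.CharBasic Cfsg.Agent.Lib.H25Nine Cfsg.Agent.Lib.BlockRing DihedralGroup
open scoped ComplexConjugate

universe u

variable {G : Type u} [Group G] {S : Subgroup G} {ρ : D →* G} {a b : G} [Finite G]

theorem exists_hom (W : Wr S ρ a b) (hq : ¬ IsConj (ρ (sr 1)) (ρ (r 2))) :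
    ∃ f : G →* ℂˣ, (∀ g, f g * f g = 1) ∧ ∀ i, f (ρ (sr i)) = -1 := by
  classical
  obtain ⟨U, U', Ww, W', hv⟩ := exists_vals W
  obtain ⟨X, ε, hG⟩ := exists_grid' W hv
  have h1 := linear_one W hq hv hG
  have hε : ε (1, 1) = 1 ∨ ε (1, 1) = -1 := mul_self_eq_one_iff.mp (hG.sq _)
  have hε1 : ε (1, 1) = 1 := by
    rcases hε with h | h
    · exact h
    · rw [h] at h1; omega
  rw [hε1, one_mul] at h1
  have hdeg : ((X (1, 1) : IrrCharacter G) : G → ℂ) 1 = 1 := by
    rw [← H76Char.charDegree_eq (X (1, 1)).2.isCharacter]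
    exact_mod_cast h1
  obtain ⟨f, hf⟩ := MGroups.exists_hom_of_one_eq_one (X (1, 1)).2.isCharacter hdeg
  have hfv : ∀ g, ((f g : ℂˣ) : ℂ) = ((X (1, 1) : IrrCharacter G) : G → ℂ) g := fun g => by rw [hf]
  obtain ⟨v1, v2, v3, v4⟩ := hG.val (1, 1)
  rw [hε1] at v1 v2 v3 v4
  have w1 : (f (el ρ a b uu) : ℂ) = 1 := by rw [hfv, hv.hU, v1]; norm_num [rU]
  have w2 : (f (el ρ a b us) : ℂ) = -1 := by rw [hfv, hv.hU', v2]; norm_num [rV]
  have w3 : (f (el ρ a b ww) : ℂ) = 1 := by rw [hfv, hv.hW, v3]; norm_num [rU]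
  have w4 : (f (el ρ a b wq) : ℂ) = -1 := by rw [hfv, hv.hW', v4]; norm_num [rV]
  -- the square is trivial
  have hsqc : IsCharacter G (fun g => (f g : ℂ) * (f g : ℂ)) := by
    have := (X (1, 1)).2.isCharacter.mul (X (1, 1)).2.isCharacter
    convert this using 1
    funext g
    rw [Pi.mul_apply, hfv]
  have hsqi : IsIrrCharacter G (fun g => (f g : ℂ) * (f g : ℂ)) := hsqc.isIrr_of_one_eq_one (by simp)
  set μ : IrrCharacter G := ⟨_, hsqi⟩ with hμ
  have hμv : ∀ g, (μ : G → ℂ) g = (f g : ℂ) * (f g : ℂ) := fun g => rfl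
  have hμX := grid_eq hG (χ := μ)
    (by have := hv.hU μ; rw [hμv, w1] at this; have h : ((1 : ℤ) : ℂ) = U μ := by rw [← this]; norm_num
        exact_mod_cast h.symm)
    (by have := hv.hU' μ; rw [hμv, w2] at this; have h : ((1 : ℤ) : ℂ) = U' μ := by rw [← this]; norm_num
        exact_mod_cast h.symm)
    (by have := hv.hW μ; rw [hμv, w3] at this; have h : ((1 : ℤ) : ℂ) = Ww μ := by rw [← this]; norm_num
        exact_mod_cast h.symm)
    (by have := hv.hW' μ; rw [hμv, w4] at this; have h : ((1 : ℤ) : ℂ) = W' μ := by rw [← this]; norm_num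
        exact_mod_cast h.symm)
  obtain ⟨t1, t2, t3, t4⟩ := triv_vals hv
  have hX0 := grid_eq hG t1 t2 t3 t4
  have hμt : μ = triv G := hμX.1.trans hX0.1.symm
  have hsq : ∀ g, f g * f g = 1 := by
    intro g
    apply Units.ext
    push_cast
    rw [← hμv, hμt]; rfl
  refine ⟨f, hsq, ?_⟩
  have s2 : f (ρ (sr 2)) = -1 := by
    have h : el ρ a b us = el ρ a b uu * ρ (sr 2) := by
      rw [← Wr.el_zero ρ a b, ← W.el_mul]; rfl
    apply Units.ext
    rw [h, map_mul] at w2
    push_cast at w2 ⊢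
    rw [w1, one_mul] at w2
    exact w2
  have s1 : f (ρ (sr 1)) = -1 := by
    have h : el ρ a b wq = el ρ a b ww * ρ (sr 1) := by
      rw [← Wr.el_zero ρ a b, ← W.el_mul]; rfl
    apply Units.ext
    rw [h, map_mul] at w4
    push_cast at w4 ⊢
    rw [w3, one_mul] at w4
    exact w4
  have r2 : f (ρ (r 2)) = 1 := by
    have : (r 2 : D) = r 1 * r 1 := by decide
    rw [this, map_mul, map_mul, hsq]
  intro i
  have key : ∀ j : ZMod 4, f (ρ (sr j)) = -1 → f (ρ (sr (j + 2))) = -1 := by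
    intro j hj
    have : (sr (j + 2) : D) = sr j * r 2 := by rw [sr_mul_r]
    rw [this, map_mul, map_mul, hj, r2, mul_one]
  have h0 := key 2 s2
  have h3 := key 1 s1
  have hi : i = 0 ∨ i = 1 ∨ i = 2 ∨ i = 3 := by revert i; decide
  rcases hi with rfl | rfl | rfl | rfl
  · exact h0
  · exact s1
  · exact s2
  · exact h3

theorem exists_hom' (W : Wr S ρ a b) : ∃ f : G →* ℂˣ, (∀ g, f g * f g = 1) ∧ ∀ i, f (ρ (sr i)) = -1 := by
  by_cases hq : IsConj (ρ (sr 1)) (ρ (r 2))
  · have hq' : ¬ IsConj ((ρ.comp outer) (sr 1)) ((ρ.comp outer) (r 2)) := by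
      intro h
      have e1 : (ρ.comp outer) (sr 1) = ρ (sr 2) := by
        rw [MonoidHom.comp_apply, outer_sr, show (1 : ZMod 4) + 1 = 2 by decide]
      have e2 : (ρ.comp outer) (r 2) = ρ (r 2) := rfl
      rw [e1, e2] at h
      have h3 : IsConj (ρ (sr 0)) (ρ (sr 2)) := by
        rw [isConj_iff]
        refine ⟨ρ (r 3), ?_⟩
        rw [← map_mul, ← map_inv, ← map_mul]
        congr 1
      exact W.not_q_r (hq.trans (h.symm.trans h3.symm))
    obtain ⟨f, h1, h2⟩ := exists_hom W.swap hq'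
    refine ⟨f, h1, fun i => ?_⟩
    have := h2 (i - 1)
    rw [MonoidHom.comp_apply, outer_sr, sub_add_cancel] at this
    exact this
  · exact exists_hom W hq

/-- the subgroup of index two -/
theorem exists_K (W : Wr S ρ a b) : ∃ K : Subgroup G, K.Normal ∧ K.index = 2 ∧ S ≤ K ∧ (∀ i, ρ (sr i) ∉ K) ∧ ∀ i, ρ (r i) ∈ K := by
  obtain ⟨f, h1, h2⟩ := exists_hom' W
  have hne : (-1 : ℂˣ) ≠ 1 := by
    intro h
    have := congrArg Units.val h
    norm_num at this
  have hval : ∀ g, f g = 1 ∨ f g = -1 := by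
    intro g
    have h3 := h1 g
    have h4 : ((f g : ℂˣ) : ℂ) * f g = 1 := by
      have := congrArg Units.val h3
      simpa using this
    rcases mul_self_eq_one_iff.mp h4 with h | h
    · left; exact Units.ext h
    · right; exact Units.ext (by rw [h]; rfl)
  refine ⟨f.ker, inferInstance, ?_, ?_, ?_, ?_⟩
  · rw [Subgroup.index_eq_two_iff]
    refine ⟨ρ (sr 0), fun g => ?_⟩
    rw [MonoidHom.mem_ker, MonoidHom.mem_ker, map_mul, h2]
    rcases hval g with h | h <;> rw [h]
    · right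
      refine ⟨rfl, ?_⟩
      rw [one_mul]; exact hne
    · left
      refine ⟨by simp, hne⟩
  · intro s hs
    rw [MonoidHom.mem_ker]
    have h3 := W.tis.exp s hs
    have h4 : f s ^ 3 = 1 := by rw [← map_pow, h3, map_one]
    have h5 := h1 s
    rw [pow_succ, sq, h5, one_mul] at h4
    exact h4
  · intro i hi
    rw [MonoidHom.mem_ker, h2] at hi
    exact hne hi
  · intro i
    rw [MonoidHom.mem_ker]
    have : (r i : D) = sr 0 * sr i := by rw [sr_mul_sr, sub_zero]
    rw [this, map_mul, map_mul, h2, h2]; simp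

end Cfsg.Agent.Lib.H25W
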