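import Cfsg.Agent.Lib.H25Wo

/-!
# Coordinates for `3^2 : D_8` exist (helper25)
-/

set_option autoImplicit false
set_option linter.all false
set_option maxHeartbeats 400000

namespace Cfsg.Agent.Lib.H25W

open Cfsg Cfsg.Agent.Lib.H25Nine DihedralGroup

universe u

variable {G : Type u} [Group G] {S : Subgroup G} {ρ : D →* G}

theorem ncyc (h : TIS S) (hc : Nat.card S = 9) : ¬ IsCyclic S := by
  intro hcyc
  obtain ⟨g, hg⟩ := hcyc.exists_generator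
  have h1 : orderOf g = 9 := by rw [orderOf_eq_card_of_forall_mem_zpowers hg, hc]
  have h2 : g ^ 3 = 1 := Subtype.ext (h.exp g g.2)
  have h3 := orderOf_dvd_of_pow_eq_one h2
  rw [h1] at h3
  revert h3
  decide

theorem rel1 (i : ZMod 4) : (r 1 : D) * sr i * (r 1)⁻¹ = sr (i + 2) := by
  revert i; decide

theorem rel2 : (sr 0 : D) * sr 2 = r 2 := by decide
theorem rel3 : (sr 2 : D) * sr 0 = r 2 := by decide
theorem rel4 (i : ZMod 4) : (sr i : D) * sr i = 1 := by revert i; decide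
theorem rel5 : (sr 0 : D) * sr 1 = sr 1 * sr 2 := by decide
theorem rel6 : (r 2 : D) ≠ 1 := by decide
theorem rel7 (i : ZMod 4) : (sr i : D) ≠ 1 := by revert i; decide

theorem inv_shift (hρ : ∀ e, ρ e ∈ Subgroup.normalizer (S : Set G)) {i : ZMod 4}
    (h : ∀ y ∈ S, ρ (sr i) * y = y⁻¹ * ρ (sr i)) : ∀ y ∈ S, ρ (sr (i + 2)) * y = y⁻¹ * ρ (sr (i + 2)) := by
  intro y hy
  have h1 : (ρ (r 1))⁻¹ * y * ρ (r 1) ∈ S := by
    have h2 := (Subgroup.mem_normalizer_iff.mp (inv_mem (hρ (r 1))) y).mp hy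
    rwa [inv_inv] at h2
  have h3 := h _ h1
  rw [← rel1 i, map_mul, map_mul, map_inv]
  have h4 : ρ (sr i) * ((ρ (r 1))⁻¹ * y * ρ (r 1)) * (ρ (sr i))⁻¹ = ((ρ (r 1))⁻¹ * y * ρ (r 1))⁻¹ := by
    rw [h3]; group
  have h5 : ρ (r 1) * (ρ (sr i) * ((ρ (r 1))⁻¹ * y * ρ (r 1)) * (ρ (sr i))⁻¹) * (ρ (r 1))⁻¹ = y⁻¹ := by
    rw [h4]; group
  rw [← h5]; group

theorem exists_wr [Finite G] (h : TIS S) (hc : Nat.card S = 9) (hCS : Subgroup.centralizer (S : Set G) ≤ S)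
    (hρ : ∀ e, ρ e ∈ Subgroup.normalizer (S : Set G))
    (hf : ∀ e, e ≠ 1 → ρ e ∉ S)
    (cov : ∀ x ∈ Subgroup.normalizer (S : Set G), ∃ y ∈ S, ∃ e, x = y * ρ e) :
    ∃ a b : G, Wr S ρ a b := by
  have faith : ∀ e, e ≠ 1 → ∃ y ∈ S, ρ e * y ≠ y * ρ e := by
    intro e he
    by_contra hcon
    push Not at hcon
    apply hf e he
    apply hCS
    rw [Subgroup.mem_centralizer_iff]
    intro y hy
    exact (hcon y hy).symm
  have hs2 : ∀ i, ρ (sr i) * ρ (sr i) = 1 := fun i => by rw [← map_mul, rel4, map_one]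
  have hst : ρ (sr 0) * ρ (sr 2) = ρ (r 2) := by rw [← map_mul, rel2]
  have hts : ρ (sr 2) * ρ (sr 0) = ρ (r 2) := by rw [← map_mul, rel3]
  have noninv : ¬ ((∀ y ∈ S, ρ (sr 0) * y = y⁻¹ * ρ (sr 0)) ∧ (∀ y ∈ S, ρ (sr 2) * y = y⁻¹ * ρ (sr 2))) := by
    rintro ⟨h0, h2⟩
    obtain ⟨y, hy, hyn⟩ := faith (r 2) rel6
    apply hyn
    rw [← hst, mul_assoc, h2 y hy, ← mul_assoc, h0 _ (S.inv_mem hy), inv_inv, mul_assoc]
  have n0 : ∃ y ∈ S, ρ (sr 0) * y ≠ y⁻¹ * ρ (sr 0) := by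
    by_contra hcon
    push Not at hcon
    have h2 := inv_shift hρ hcon
    rw [zero_add] at h2
    exact noninv ⟨hcon, h2⟩
  have n2 : ∃ y ∈ S, ρ (sr 2) * y ≠ y⁻¹ * ρ (sr 2) := by
    by_contra hcon
    push Not at hcon
    have h2 := inv_shift hρ hcon
    have e : (2 + 2 : ZMod 4) = 0 := by decide
    rw [e] at h2
    exact noninv ⟨h2, hcon⟩
  obtain ⟨a, b, ha, hb, ha1, hb1, hgen, sa, sb, ta, tb⟩ := H25Tri.pair h hc (hρ (sr 0)) (hs2 0) (hρ (sr 2)) (hs2 2)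
    (hst.trans hts.symm) (faith _ (rel7 0)) n0 (faith _ (rel7 2)) n2
    (by rw [hst]; exact faith _ rel6)
  have hσi : (ρ (sr 1))⁻¹ = ρ (sr 1) := by rw [inv_eq_iff_mul_eq_one]; exact hs2 1
  have hA : ρ (sr 1) * b * (ρ (sr 1))⁻¹ ∈ S := (Subgroup.mem_normalizer_iff.mp (hρ (sr 1)) b).mp hb
  have hA1 : ρ (sr 1) * b * (ρ (sr 1))⁻¹ ≠ 1 := fun h => hb1 (conj_eq_one_iff.mp h)
  have h01 : ρ (sr 0) * ρ (sr 1) = ρ (sr 1) * ρ (sr 2) := by rw [← map_mul, ← map_mul, rel5]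
  have htb : ρ (sr 2) * b * (ρ (sr 2))⁻¹ = b⁻¹ := by rw [tb]; group
  have hsA : ρ (sr 0) * (ρ (sr 1) * b * (ρ (sr 1))⁻¹) * (ρ (sr 0))⁻¹ = (ρ (sr 1) * b * (ρ (sr 1))⁻¹)⁻¹ := by
    calc ρ (sr 0) * (ρ (sr 1) * b * (ρ (sr 1))⁻¹) * (ρ (sr 0))⁻¹
        = (ρ (sr 0) * ρ (sr 1)) * b * (ρ (sr 0) * ρ (sr 1))⁻¹ := by group
      _ = ρ (sr 1) * (ρ (sr 2) * b * (ρ (sr 2))⁻¹) * (ρ (sr 1))⁻¹ := by rw [h01]; group
      _ = _ := by rw [htb]; group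
  have hsb : ρ (sr 0) * b * (ρ (sr 0))⁻¹ = b := by rw [sb]; group
  refine ⟨ρ (sr 1) * b * (ρ (sr 1))⁻¹, b, ⟨h, hA, hb, hA1, hb1, ?_, hρ, ?_, sb, ?_, ?_, cov, hCS, ncyc h hc⟩⟩
  · apply H25Tri.gen9 h hc hA hA1 hb
    intro hmem
    obtain ⟨k, hk⟩ := Subgroup.mem_zpowers_iff.mp hmem
    have e1 : ρ (sr 0) * b * (ρ (sr 0))⁻¹ = b⁻¹ := by
      nth_rewrite 1 [← hk]
      rw [← conj_zpow, hsA, inv_zpow, hk]
    rw [hsb] at e1
    exact H25Tri.inv_ne' h hb hb1 e1.symm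
  · rw [← hsA]; group
  · rw [hσi]
    calc ρ (sr 1) * (ρ (sr 1) * b * ρ (sr 1)) = (ρ (sr 1) * ρ (sr 1)) * b * ρ (sr 1) := by group
      _ = b * ρ (sr 1) := by rw [hs2, one_mul]
  · group

end Cfsg.Agent.Lib.H25W
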