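import Cfsg.Agent.Lib.H25Wp

/-!
# The action of `D_8` on `3^2` from a Sylow subgroup (helper25)
-/

set_option autoImplicit false
set_option linter.all false
set_option maxHeartbeats 400000

namespace Cfsg.Agent.Lib.H25W

open Cfsg Cfsg.Agent.Lib.H25Nine DihedralGroup

universe u

variable {G : Type u} [Group G] {S : Subgroup G}

theorem exists_rho [Finite G] (hc : Nat.card S = 9) (N : Subgroup G) (hNd : N = Subgroup.normalizer (S : Set G))
    (hN : Nat.card N = 72)
    (E : Subgroup ↥N) (e : E ≃* DihedralGroup 4) :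
    ∃ ρ : D →* G, (∀ e, ρ e ∈ Subgroup.normalizer (S : Set G)) ∧ (∀ e, e ≠ 1 → ρ e ∉ S) ∧
      ∀ x ∈ Subgroup.normalizer (S : Set G), ∃ y ∈ S, ∃ e, x = y * ρ e := by
  classical
  rw [← hNd]
  have hSN : S ≤ N := by rw [hNd]; exact Subgroup.le_normalizer
  set ρ : D →* G := N.subtype.comp (E.subtype.comp e.symm.toMonoidHom) with hρ
  have hρN : ∀ e, ρ e ∈ N := fun x => (((e.symm x : E) : N)).2
  have hρinj : Function.Injective ρ := by
    intro x y h
    have h1 : ((e.symm x : E) : N) = ((e.symm y : E) : N) := Subtype.ext h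
    exact e.symm.injective (Subtype.ext h1)
  have hf : ∀ e, e ≠ 1 → ρ e ∉ S := by
    intro x hx hxS
    apply hx
    apply hρinj
    rw [map_one]
    have h1 : orderOf (ρ x) ∣ 8 := by
      rw [orderOf_injective ρ hρinj]
      have h2 : orderOf x ∣ Nat.card D := orderOf_dvd_natCard x
      rwa [DihedralGroup.nat_card] at h2
    have h2 : orderOf (ρ x) ∣ 9 := by
      rw [← hc]
      have : orderOf (⟨ρ x, hxS⟩ : S) ∣ Nat.card S := orderOf_dvd_natCard _
      rwa [Subgroup.orderOf_mk] at this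
    have h3 := Nat.dvd_gcd h1 h2
    have h4 : orderOf (ρ x) = 1 := by
      have : Nat.gcd 8 9 = 1 := by norm_num
      rw [this] at h3
      exact Nat.dvd_one.mp h3
    exact orderOf_eq_one_iff.mp h4
  refine ⟨ρ, hρN, hf, ?_⟩
  intro x hx
  have h1 : Function.Injective (fun p : S × D => (⟨(p.1 : G) * ρ p.2, N.mul_mem (hSN p.1.2) (hρN p.2)⟩ : N)) := by
    rintro ⟨y, e⟩ ⟨y', e'⟩ h
    have h1 : (y : G) * ρ e = y' * ρ e' := congrArg Subtype.val h
    have h2 : (y' : G)⁻¹ * y = ρ (e' * e⁻¹) := by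
      rw [inv_mul_eq_iff_eq_mul, map_mul, map_inv, ← mul_assoc, ← h1]; group
    have h3 : e' * e⁻¹ = 1 := by
      by_contra hne
      apply hf _ hne
      rw [← h2]
      exact S.mul_mem (S.inv_mem y'.2) y.2
    have h4 : (y' : G)⁻¹ * y = 1 := by rw [h2, h3, map_one]
    rw [Prod.mk.injEq]
    exact ⟨Subtype.ext (inv_mul_eq_one.mp h4).symm, (mul_inv_eq_one.mp h3).symm⟩
  have h2 := h1.bijective_of_nat_card_le (by rw [Nat.card_prod, hc, DihedralGroup.nat_card, hN])
  obtain ⟨⟨y, e⟩, h⟩ := h2.2 ⟨x, hx⟩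
  exact ⟨y, y.2, e, (congrArg Subtype.val h).symm⟩

theorem comm9 [Finite G] (hc : Nat.card S = 9) : ∀ s ∈ S, ∀ t ∈ S, s * t = t * s := by
  have hf : Fact (Nat.Prime 3) := ⟨Nat.prime_three⟩
  have := IsPGroup.isMulCommutative_of_card_eq_prime_sq (p := 3) (G := S) (by rw [hc]; norm_num)
  intro s hs t ht
  exact congrArg Subtype.val (this.is_comm.comm ⟨s, hs⟩ ⟨t, ht⟩)

end Cfsg.Agent.Lib.H25W
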