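import Cfsg.Agent.Lib.H25Nine2
import Cfsg.Agent.Lib.H25TriF

/-!
# Simplicity from a self-centralizing Sylow subgroup of order nine (helper25)
-/

set_option autoImplicit false
set_option linter.all false
set_option maxHeartbeats 400000

namespace Cfsg.Agent.Lib.H25W

open Cfsg Cfsg.Agent.Lib.H25Nine

universe u

variable {G : Type u} [Group G] {S : Subgroup G} [Finite G]

theorem nine_cyc (h : Nine S) : ¬ IsCyclic S := by
  intro hcyc
  obtain ⟨g, hg⟩ := hcyc.exists_generator
  have h1 : orderOf g = 9 := by rw [orderOf_eq_card_of_forall_mem_zpowers hg, h.card]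
  have h2 : g ^ 3 = 1 := Subtype.ext (h.exp g g.2)
  have h3 := orderOf_dvd_of_pow_eq_one h2
  rw [h1] at h3
  revert h3
  decide

theorem nine_CS (h : Nine S) : Subgroup.centralizer (S : Set G) ≤ S := by
  obtain ⟨a, ha, ha1⟩ := h.exists_ne
  conv_rhs => rw [← h.cent' a ha ha1]
  apply Subgroup.centralizer_le
  simpa using ha

theorem nine_restrict (h : Nine S) {L : Subgroup G} (hL : S ≤ L) : Nine (S.subgroupOf L) := by
  have hf : Fact (Nat.Prime 3) := ⟨Nat.prime_three⟩
  have hcent : ∀ s ∈ S.subgroupOf L, s ≠ 1 → Subgroup.centralizer ({s} : Set L) = S.subgroupOf L := by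
    intro s hs hs1
    have h1 := h.cent' (s : G) hs (fun h => hs1 (Subtype.ext h))
    ext x
    rw [Subgroup.mem_centralizer_singleton_iff, Subgroup.mem_subgroupOf, ← h1, Subgroup.mem_centralizer_singleton_iff]
    constructor
    · intro h; exact congrArg Subtype.val h
    · intro h; exact Subtype.ext h
  refine
    { sylow := ?_
      exp := fun s hs => Subtype.ext (h.exp s hs)
      comm := fun s hs t ht => Subtype.ext (h.comm s hs t ht)
      cent := fun s hs hs1 => by rw [hcent s hs hs1]; exact Subgroup.le_normalizer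
      card := by rw [Nat.card_congr (Subgroup.subgroupOfEquivOfLe hL).toEquiv]; exact h.card
      cent' := hcent }
  obtain ⟨P, hP⟩ := h.sylow
  subst hP
  exact ⟨P.subtype hL, rfl⟩

theorem normal_up (hS : ∃ P : Sylow 3 G, (P : Subgroup G) = S) {L : Subgroup G} (hLn : L.Normal) (hSL : S ≤ L)
    (h : (S.subgroupOf L).Normal) : S.Normal := by
  have hf : Fact (Nat.Prime 3) := ⟨Nat.prime_three⟩
  obtain ⟨P, hP⟩ := hS
  subst hP
  have h1 : ((P.subtype hSL : Sylow 3 L) : Subgroup L).Normal := h
  have h2 := Sylow.characteristic_of_normal (P.subtype hSL) h1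
  have h3 : (((P.subtype hSL : Sylow 3 L) : Subgroup L).map L.subtype).Normal := ConjAct.normal_of_characteristic_of_normal
  rw [Sylow.coe_subtype, Subgroup.subgroupOf_map_subtype, inf_eq_left.mpr hSL] at h3
  exact h3

theorem nine_simple (h : Nine S) (hN : Nat.card (Subgroup.normalizer (S : Set G)) = 36)
    (hirr : ∀ L : Subgroup G, L.Normal → L ⊓ S ≠ ⊥ → S ≤ L) (hnn : ¬ S.Normal) : IsSimpleGroup G := by
  have hf : Fact (Nat.Prime 3) := ⟨Nat.prime_three⟩
  have hnt : Nontrivial G := by
    obtain ⟨a, ha, ha1⟩ := h.exists_ne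
    exact ⟨a, 1, ha1⟩
  refine { eq_bot_or_eq_top_of_normal := ?_ }
  intro L hLn
  by_contra hcon
  push Not at hcon
  obtain ⟨hb, ht⟩ := hcon
  have h1 : L ⊓ S ≠ ⊥ := fun h1 => hb (H25Tri.eq_bot_of_inf h.toTIS (nine_cyc h) (nine_CS h) L h1)
  have hSL := hirr L hLn h1
  have h' := nine_restrict h hSL
  have hcard : Nat.card (Subgroup.normalizer ((S.subgroupOf L : Subgroup L) : Set L)) =
      Nat.card (Subgroup.normalizer (S : Set G) ⊓ L : Subgroup G) := by
    rw [← Subgroup.subgroupOf_normalizer_eq hSL]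
    rw [← Subgroup.inf_subgroupOf_right]
    exact Nat.card_congr (Subgroup.subgroupOfEquivOfLe inf_le_right).toEquiv
  have hd1 : 9 ∣ Nat.card (Subgroup.normalizer (S : Set G) ⊓ L : Subgroup G) := by
    rw [← h.card]
    exact Subgroup.card_dvd_of_le (le_inf Subgroup.le_normalizer hSL)
  have hd2 : Nat.card (Subgroup.normalizer (S : Set G) ⊓ L : Subgroup G) ∣ 36 := by
    rw [← hN]
    exact Subgroup.card_dvd_of_le inf_le_left
  have hnn' : ¬ (S.subgroupOf L).Normal := fun hn => hnn (normal_up h.sylow hLn hSL hn)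
  obtain ⟨m, hm⟩ := hd1
  have hm4 : m ∣ 4 := by
    rw [hm] at hd2
    obtain ⟨k, hk⟩ := hd2
    have h0 : 9 * 4 = 9 * (m * k) := by rw [← mul_assoc, ← hk]
    exact ⟨k, Nat.eq_of_mul_eq_mul_left (by norm_num) h0⟩
  have hm' : m = 1 ∨ m = 2 ∨ m = 4 := by
    have : m ∈ Nat.divisors 4 := Nat.mem_divisors.mpr ⟨hm4, by norm_num⟩
    have h6 : Nat.divisors 4 = {1, 2, 4} := by decide
    rw [h6] at this
    simpa using this
  rcases hm' with rfl | rfl | rfl
  · -- Burnside
    obtain ⟨P', hP'⟩ := h'.sylow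
    have h2 : Subgroup.normalizer ((S.subgroupOf L : Subgroup L) : Set L) = S.subgroupOf L := by
      symm
      apply Subgroup.eq_of_le_of_card_ge Subgroup.le_normalizer
      rw [h'.card, hcard, hm]
    have h3 : Subgroup.normalizer ((P' : Subgroup L) : Set L) ≤ Subgroup.centralizer ((P' : Subgroup L) : Set L) := by
      rw [hP', h2]
      intro s hs
      rw [Subgroup.mem_centralizer_iff]
      intro t ht
      exact h'.comm t ht s hs
    have h4 := MonoidHom.ker_transferSylow_isComplement' P' h3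
    have h5 := MonoidHom.not_dvd_card_ker_transferSylow P' h3
    have h6 := H25Tri.eq_bot_of_inv h'.toTIS (nine_cyc h') (nine_CS h') (MonoidHom.transferSylow P' h3).ker
      (by rw [Subgroup.normalizer_eq_top]; exact le_top) h5
    apply hnn'
    have h7 : (P' : Subgroup L) = ⊤ := by
      rw [h6] at h4
      have := h4.sup_eq_top
      rwa [bot_sup_eq] at this
    rw [← hP', h7]
    infer_instance
  · exact hnn' (h'.two (by rw [hcard, hm]))
  · apply ht
    have h2 : Subgroup.normalizer (S : Set G) ⊓ L = Subgroup.normalizer (S : Set G) := by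
      apply Subgroup.eq_of_le_of_card_ge inf_le_left
      rw [hN, hm]
    have h3 : Subgroup.normalizer (S : Set G) ≤ L := by rw [← h2]; exact inf_le_right
    obtain ⟨P, hP⟩ := h.sylow
    have h4 := Sylow.normalizer_sup_eq_top' (N := L) P (by rw [hP]; exact hSL)
    have h5 : Subgroup.normalizer ((P : Subgroup G) : Set G) ≤ L := by rw [hP]; exact h3
    have h6 : Subgroup.normalizer ((P : Subgroup G) : Set G) ⊔ L ≤ L := sup_le h5 le_rfl
    rw [eq_top_iff]
    refine le_trans ?_ h6
    rw [← h4]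
    apply le_of_eq
    rfl

end Cfsg.Agent.Lib.H25W
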