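import Cfsg.Agent.Lib.H25Wq
import Cfsg.Agent.Lib.H25Wr

/-!
# The subgroup of index two for `3^2 : D_8`: structure (helper25)
-/

set_option autoImplicit false
set_option linter.all false
set_option maxHeartbeats 400000

namespace Cfsg.Agent.Lib.H25W

open Cfsg Cfsg.Agent.Lib.H25Nine DihedralGroup

universe u

theorem act_fix_r : ∀ i : ZMod 4, ∀ v : V, v ≠ 0 → act (r i) v = v → i = 0 := by decide

set_option maxRecDepth 10000 in
theorem act_irr : ∀ v : V, v ≠ 0 → ∀ w : V, ∃ i j : Fin 3, w = (i.val • v) + (j.val • act (r 1) v) := by decide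

theorem no_act : ∀ e : D, act e (1, 0) ≠ (1, 1) := by decide

theorem act_1_0 : ∀ e : D, ∃ i : ZMod 4, act e (1, 0) = act (r i) (1, 0) := by decide

variable {G : Type u} [Group G] {S : Subgroup G} {ρ : D →* G} {a b : G} [Finite G]

theorem co_one' (a b : G) : co a b 0 = 1 := by simp [co]

theorem co_nsmul (W : Wr S ρ a b) (n : ℕ) (v : V) : co a b (n • v) = co a b v ^ n := by
  induction n with
  | zero => rw [zero_smul, co_one', pow_zero]
  | succ n ih => rw [succ_nsmul, W.co_add, ih, pow_succ]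

theorem nine_K (W : Wr S ρ a b) {K : Subgroup G} (hSK : S ≤ K) (hs : ∀ i, ρ (sr i) ∉ K) : Nine (S.subgroupOf K) := by
  have hf : Fact (Nat.Prime 3) := ⟨Nat.prime_three⟩
  have hcent : ∀ s ∈ S.subgroupOf K, s ≠ 1 → Subgroup.centralizer ({s} : Set K) = S.subgroupOf K := by
    intro s hsS hs1
    have hs1' : (s : G) ≠ 1 := fun h => hs1 (Subtype.ext h)
    have hsS' : (s : G) ∈ S := hsS
    apply le_antisymm
    · intro x hx
      rw [Subgroup.mem_centralizer_singleton_iff] at hx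
      have hx' : (x : G) * s = s * x := congrArg Subtype.val hx
      have hxN : (x : G) ∈ Subgroup.normalizer (S : Set G) :=
        W.tis.cent s hsS' hs1' (Subgroup.mem_centralizer_singleton_iff.mpr hx')
      obtain ⟨y, hy, e, he⟩ := W.cov _ hxN
      rw [Subgroup.mem_subgroupOf]
      obtain ⟨v, hv⟩ := W.exists_co hsS'
      have hv0 : v ≠ 0 := by
        rintro rfl
        rw [co_one'] at hv
        exact hs1' hv.symm
      have heK : ρ e ∈ K := by
        have : ρ e = y⁻¹ * x := by rw [he]; group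
        rw [this]
        exact K.mul_mem (K.inv_mem (hSK hy)) x.2
      have hce : ρ e * s = s * ρ e := by
        have h1 : ρ e = y⁻¹ * x := by rw [he]; group
        rw [h1, mul_assoc, hx', ← mul_assoc, ← mul_assoc, W.tis.comm _ (S.inv_mem hy) _ hsS']
      rw [← hv] at hce
      have h2 := W.conj_co e v
      rw [hce] at h2
      have h3 := W.co_inj (mul_right_cancel h2)
      rcases e with i | i
      · have h4 := act_fix_r i v hv0 h3.symm
        rw [he, h4]
        have h5 : (r 0 : D) = 1 := rfl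
        rw [h5, map_one, mul_one]
        exact hy
      · exact absurd heK (hs i)
    · intro x hx
      rw [Subgroup.mem_centralizer_singleton_iff]
      exact Subtype.ext (W.tis.comm _ hx _ hsS')
  refine
    { sylow := ?_
      exp := fun s hs => Subtype.ext (W.tis.exp s hs)
      comm := fun s hs t ht => Subtype.ext (W.tis.comm s hs t ht)
      cent := fun s hs hs1 => by rw [hcent s hs hs1]; exact Subgroup.le_normalizer
      card := by rw [Nat.card_congr (Subgroup.subgroupOfEquivOfLe hSK).toEquiv]; exact card_S W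
      cent' := hcent }
  obtain ⟨P, hP⟩ := W.tis.sylow
  subst hP
  exact ⟨P.subtype hSK, rfl⟩

theorem card_NK (W : Wr S ρ a b) (hN : Nat.card (Subgroup.normalizer (S : Set G)) = 72) {K : Subgroup G}
    (hK : K.Normal) (hi : K.index = 2) (hSK : S ≤ K) (hs : ∀ i, ρ (sr i) ∉ K) :
    Nat.card (Subgroup.normalizer ((S.subgroupOf K : Subgroup K) : Set K)) = 36 := by
  rw [← Subgroup.subgroupOf_normalizer_eq hSK, ← Subgroup.inf_subgroupOf_right]
  have h1 : Nat.card ((Subgroup.normalizer (S : Set G) ⊓ K).subgroupOf K) = Nat.card (Subgroup.normalizer (S : Set G) ⊓ K : Subgroup G) :=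
    Nat.card_congr (Subgroup.subgroupOfEquivOfLe inf_le_right).toEquiv
  rw [h1]
  have h2 := Subgroup.card_mul_index (K.subgroupOf (Subgroup.normalizer (S : Set G)))
  rw [hN] at h2
  have h3 : (K.subgroupOf (Subgroup.normalizer (S : Set G))).index = 2 := by
    have h4 : K.relIndex (Subgroup.normalizer (S : Set G)) ∣ K.index := Subgroup.relIndex_dvd_index_of_normal K _
    rw [hi] at h4
    rcases (Nat.dvd_prime Nat.prime_two).mp h4 with h5 | h5
    · exfalso
      rw [Subgroup.relIndex_eq_one] at h5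
      exact hs 0 (h5 (W.hρ _))
    · exact h5
  rw [h3] at h2
  have h4 : Nat.card (K.subgroupOf (Subgroup.normalizer (S : Set G))) = Nat.card (Subgroup.normalizer (S : Set G) ⊓ K : Subgroup G) := by
    rw [← Subgroup.inf_subgroupOf_left]
    exact Nat.card_congr (Subgroup.subgroupOfEquivOfLe inf_le_left).toEquiv
  rw [← h4]
  omega

theorem irr_K (W : Wr S ρ a b) {K : Subgroup G} (hSK : S ≤ K) (hr : ρ (r 1) ∈ K) (L : Subgroup K) (hL : L.Normal)
    (hLS : L ⊓ S.subgroupOf K ≠ ⊥) : S.subgroupOf K ≤ L := by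
  obtain ⟨⟨x, hxL, hxS⟩, hx1⟩ := Subgroup.ne_bot_iff_exists_ne_one.mp hLS
  have hx1' : (x : G) ≠ 1 := fun h => hx1 (Subtype.ext (Subtype.ext h))
  have hxS' : (x : G) ∈ S := hxS
  obtain ⟨v, hv⟩ := W.exists_co hxS'
  have hv0 : v ≠ 0 := by
    rintro rfl
    rw [co_one'] at hv
    exact hx1' hv.symm
  intro z hz
  have hz' : (z : G) ∈ S := hz
  obtain ⟨w, hw⟩ := W.exists_co hz'
  obtain ⟨i, j, hij⟩ := act_irr v hv0 w
  set c : K := ⟨ρ (r 1), hr⟩
  have h1 : c * x * c⁻¹ ∈ L := hL.conj_mem _ hxL c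
  have h2 : z = x ^ i.val * (c * x * c⁻¹) ^ j.val := by
    apply Subtype.ext
    show (z : G) = (x : G) ^ i.val * (ρ (r 1) * (x : G) * (ρ (r 1))⁻¹) ^ j.val
    have h3 : ρ (r 1) * (x : G) * (ρ (r 1))⁻¹ = co a b (act (r 1) v) := by
      rw [← hv, W.conj_co]; group
    rw [h3, ← hv, ← co_nsmul W, ← co_nsmul W, ← W.co_add, ← hij, hw]
  rw [h2]
  exact L.mul_mem (L.pow_mem hxL _) (L.pow_mem h1 _)

/-- the two classes of elements of order three -/
theorem not_conj (W : Wr S ρ a b) (g : G) : g * co a b (1, 0) * g⁻¹ ≠ co a b (1, 1) := by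
  intro h
  have h1 : co a b (1, 0) ≠ 1 := by
    intro h
    have := W.co_eq_one h
    revert this; decide
  have hg : g ∈ Subgroup.normalizer (S : Set G) := W.tis.ti (W.co_mem _) h1 (by rw [h]; exact W.co_mem _)
  obtain ⟨y, hy, e, rfl⟩ := W.cov g hg
  have h2 : y * ρ e * co a b (1, 0) * (y * ρ e)⁻¹ = y * (ρ e * co a b (1, 0) * (ρ e)⁻¹) * y⁻¹ := by group
  have h3 : ρ e * co a b (1, 0) * (ρ e)⁻¹ = co a b (act e (1, 0)) := by rw [W.conj_co]; group
  rw [h2, h3, W.tis.comm _ hy _ (W.co_mem _), mul_inv_cancel_right] at h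
  exact no_act e (W.co_inj h)

/-- elements of `K` conjugate in `G` to `a` are conjugate in `K` to `a` -/
theorem conj_K (W : Wr S ρ a b) {K : Subgroup G} (hK : K.Normal) (hSK : S ≤ K) (hs : ∀ i, ρ (sr i) ∉ K)
    (hr : ∀ i, ρ (r i) ∈ K) (g : G) :
    ∃ k ∈ K, g * co a b (1, 0) * g⁻¹ = k * co a b (1, 0) * k⁻¹ := by
  have h1 : co a b (1, 0) ≠ 1 := by
    intro h
    have := W.co_eq_one h
    revert this; decide
  have hmem : co a b (1, 0) ∈ S := W.co_mem _
  -- an element of `K` of order three is conjugate in `K` to an element of `S`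
  have hgK : g * co a b (1, 0) * g⁻¹ ∈ K := hK.conj_mem _ (hSK hmem) g
  have h3 : (g * co a b (1, 0) * g⁻¹) ^ 3 = 1 := by
    rw [conj_pow, W.tis.exp _ hmem, mul_one, mul_inv_cancel]
  have hf : Fact (Nat.Prime 3) := ⟨Nat.prime_three⟩
  have ho : orderOf (⟨_, hgK⟩ : K) = 3 := by
    apply orderOf_eq_prime
    · exact Subtype.ext h3
    · intro h
      have := congrArg Subtype.val h
      exact h1 (conj_eq_one_iff.mp this)
  obtain ⟨k, h4⟩ := (nine_K W hSK hs).toTIS.exists_conj_mem ho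
  rw [Subgroup.mem_subgroupOf] at h4
  have h5 : (k : G) * g * co a b (1, 0) * ((k : G) * g)⁻¹ ∈ S := by
    have : (k : G) * g * co a b (1, 0) * ((k : G) * g)⁻¹ = (k : G) * (g * co a b (1, 0) * g⁻¹) * (k : G)⁻¹ := by group
    rw [this]
    exact h4
  have hg : (k : G) * g ∈ Subgroup.normalizer (S : Set G) := W.tis.ti hmem h1 h5
  obtain ⟨y, hy, e, he⟩ := W.cov _ hg
  obtain ⟨i, hi⟩ := act_1_0 e
  refine ⟨(k : G)⁻¹ * ρ (r i), K.mul_mem (K.inv_mem k.2) (hr i), ?_⟩
  have h6 : ρ e * co a b (1, 0) * (ρ e)⁻¹ = co a b (act e (1, 0)) := by rw [W.conj_co]; group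
  have h7 : ρ (r i) * co a b (1, 0) * (ρ (r i))⁻¹ = co a b (act e (1, 0)) := by rw [W.conj_co, hi]; group
  have h8 : y * co a b (act e (1, 0)) * y⁻¹ = co a b (act e (1, 0)) := by
    rw [W.tis.comm _ hy _ (W.co_mem _), mul_inv_cancel_right]
  calc g * co a b (1, 0) * g⁻¹ = (k : G)⁻¹ * (((k : G) * g) * co a b (1, 0) * ((k : G) * g)⁻¹) * k := by group
    _ = (k : G)⁻¹ * (y * (ρ e * co a b (1, 0) * (ρ e)⁻¹) * y⁻¹) * k := by rw [he]; group
    _ = (k : G)⁻¹ * (ρ (r i) * co a b (1, 0) * (ρ (r i))⁻¹) * k := by rw [h6, h8, h7]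
    _ = _ := by group

end Cfsg.Agent.Lib.H25W
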