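import Cfsg.Agent.Lib.H4CSd
import Cfsg.Agent.Lib.AltSix
import Cfsg.Agent.Lib.AutAlt
import Cfsg.Agent.Lib.ClSeven
import Cfsg.Agent.Lib.SymIndex

/-!
# Groups with a 2-central involution with centralizer `Z₂ × S₄` (S3222), V (helper4)
-/

set_option autoImplicit false
set_option linter.unusedSectionVars false

namespace Cfsg.Agent.Lib.CSF

open Equiv Cfsg.Agent.Lib.Involutions Equiv.Perm
open scoped commutatorElement Pointwise

local notation "C(" z ")" => Subgroup.centralizer ({z} : Set _)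

/-- two elements of order 3 of `A₆`, not 3-cycles, are conjugate -/
theorem cycleType_of {x : Perm (Fin 6)} (hx : orderOf x = 3) (h3 : ¬ x.IsThreeCycle) :
    x.cycleType = {3, 3} := by
  obtain ⟨n, hn⟩ := cycleType_prime_order (σ := x) (by rw [hx]; norm_num)
  rw [hx] at hn
  have h1 : x.cycleType.sum ≤ 6 := by
    rw [sum_cycleType]
    exact (Finset.card_le_univ _)
  rw [hn, Multiset.sum_replicate, smul_eq_mul] at h1
  have h2 : n = 0 ∨ n = 1 := by omega
  rcases h2 with rfl | rfl
  · exfalso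
    apply h3
    show x.cycleType = {3}
    rw [hn]; rfl
  · rw [hn]; rfl

/-- the standard element -/
abbrev s33 : Perm (Fin 6) := swap 0 1 * swap 1 2 * (swap 3 4 * swap 4 5)
/-- an odd permutation commuting with it -/
abbrev o33 : Perm (Fin 6) := swap 0 3 * swap 1 4 * swap 2 5

theorem s33_type : s33.cycleType = {3, 3} := by
  apply cycleType_of
  · exact orderOf_eq_prime (by decide) (by decide)
  · intro h
    have h1 := h.card_support
    have h2 : s33.support.card = 6 := by decide
    omega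

theorem exists_conj33 {x y : alternatingGroup (Fin 6)} (hx : orderOf x = 3) (hx3 : ¬ (x : Perm (Fin 6)).IsThreeCycle)
    (hy : orderOf y = 3) (hy3 : ¬ (y : Perm (Fin 6)).IsThreeCycle) :
    ∃ c : alternatingGroup (Fin 6), c * x * c⁻¹ = y := by
  have hx' : orderOf (x : Perm (Fin 6)) = 3 := (Subgroup.orderOf_coe x).trans hx
  have hy' : orderOf (y : Perm (Fin 6)) = 3 := (Subgroup.orderOf_coe y).trans hy
  obtain ⟨a, ha⟩ := isConj_iff.1 (isConj_iff_cycleType_eq.2 (s33_type.trans (cycleType_of hx' hx3).symm))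
  obtain ⟨b, hb⟩ := isConj_iff.1 (isConj_iff_cycleType_eq.2 (s33_type.trans (cycleType_of hy' hy3).symm))
  have key : b * a⁻¹ * x * (b * a⁻¹)⁻¹ = y := by
    rw [← ha, ← hb]; group
  by_cases hs : sign (b * a⁻¹) = 1
  · exact ⟨⟨b * a⁻¹, mem_alternatingGroup.2 hs⟩, Subtype.ext key⟩
  · refine ⟨⟨b * o33 * a⁻¹, mem_alternatingGroup.2 ?_⟩, Subtype.ext ?_⟩
    · have h1 : sign (b * a⁻¹) = -1 := (Int.units_eq_one_or _).resolve_left hs
      have h2 : sign o33 = -1 := by decide
      rw [Perm.sign_mul] at h1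
      rw [Perm.sign_mul, Perm.sign_mul, h2, mul_comm (sign b), mul_assoc, h1]
      decide
    · show b * o33 * a⁻¹ * x * (b * o33 * a⁻¹)⁻¹ = y
      rw [← ha, ← hb]
      have h3 : o33 * s33 * o33⁻¹ = s33 := by decide
      calc b * o33 * a⁻¹ * (a * s33 * a⁻¹) * (b * o33 * a⁻¹)⁻¹ = b * (o33 * s33 * o33⁻¹) * b⁻¹ := by group
        _ = _ := by rw [h3]

variable {G : Type*} [Group G] [Finite G]

variable {t : G} {f : Perm (Fin 4) →* G} {R : Sylow 2 G} {M : Subgroup G}

theorem psl9_equiv {F : Type*} [Field F] [Fintype F] (hF : Fintype.card F = 9) :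
    Nonempty (Matrix.ProjectiveSpecialLinearGroup (Fin 2) F ≃* alternatingGroup (Fin 6)) := by
  obtain ⟨K, hK, hKf, hc, ⟨e⟩⟩ := Lib.AltSix.psl2_nine_aux
  exact ⟨(Lib.ClSeven.pslCongr 2 (FiniteField.ringEquivOfCardEq (hF.trans hc.symm))).trans e.symm⟩

theorem CM.exists_alt (h : CM t f R M) (hne : C(t) ≠ ⊤) :
    Nat.card M = 360 ∧ Nonempty (M ≃* alternatingGroup (Fin 6)) := by
  have hno : ∀ H : Subgroup M, H.index ≠ 2 := fun H hH => hne (h.case_index hH)
  have hz : orderOf (⟨f z0, h.fM z0⟩ : M) = 2 := by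
    rw [Subgroup.orderOf_mk]; exact f_order h.s.c (by decide) (by decide)
  obtain ⟨e⟩ := h.cent
  obtain ⟨F, iF, iF2, hF, ⟨φ⟩⟩ := DihD8.psl2 hno hz e
  have h1 := Subgroup.card_mul_index M
  have h2 := Subgroup.card_mul_index C(t)
  rw [h.i] at h1
  rw [h.s.c.card_C] at h2
  have h3 := h.index_gt hne
  rcases hF with ⟨-, h168⟩ | ⟨hF9, h360⟩
  · omega
  · obtain ⟨ψ⟩ := psl9_equiv hF9
    exact ⟨h360, ⟨φ.trans ψ⟩⟩

theorem CM.final (h : CM t f R M) (hne : C(t) ≠ ⊤) : Nonempty (G ≃* Perm (Fin 6)) := by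
  classical
  cases nonempty_fintype G
  obtain ⟨hM360, ⟨ψ⟩⟩ := h.exists_alt hne
  have hMn := h.n
  let Φ : G →* MulAut (alternatingGroup (Fin 6)) := (MulAut.congr ψ).toMonoidHom.comp MulAut.conjNormal
  have hΦ : ∀ g x, Φ g x = ψ (MulAut.conjNormal g (ψ.symm x)) := fun g x => rfl
  let P : G → Prop := fun g => ∀ x : alternatingGroup (Fin 6), (x : Perm (Fin 6)).IsThreeCycle →
    (Φ g x : Perm (Fin 6)).IsThreeCycle
  have hPmul : ∀ g g', P g → P g' → P (g * g') := by
    intro g g' hg hg' x hx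
    rw [map_mul]
    exact hg _ (hg' _ hx)
  have hconj : ∀ (c x : alternatingGroup (Fin 6)), (x : Perm (Fin 6)).IsThreeCycle →
      ((c * x * c⁻¹ : alternatingGroup (Fin 6)) : Perm (Fin 6)).IsThreeCycle := by
    intro c x hx
    show ((c : Perm (Fin 6)) * x * (c : Perm (Fin 6))⁻¹).cycleType = {3}
    rw [cycleType_conj]; exact hx
  have hPM : ∀ g ∈ M, P g := by
    intro g hg x hx
    have h1 : MulAut.conjNormal g (ψ.symm x) = (⟨g, hg⟩ : M) * ψ.symm x * (⟨g, hg⟩ : M)⁻¹ := by
      apply Subtype.ext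
      rw [MulAut.conjNormal_apply]
      rfl
    rw [hΦ, h1, map_mul, map_mul, map_inv, MulEquiv.apply_symm_apply]
    exact hconj _ _ hx
  have hPt : P t := by
    let c3 : Perm (Fin 4) := swap 0 1 * swap 1 2
    let y : alternatingGroup (Fin 6) := ψ ⟨f c3, h.fM c3⟩
    have hy : Φ t y = y := by
      rw [hΦ, MulEquiv.symm_apply_apply]
      congr 1
      apply Subtype.ext
      rw [MulAut.conjNormal_apply]
      show t * f c3 * t⁻¹ = f c3
      rw [← h.s.c.hf]; group
    have hc3 : orderOf c3 = 3 := orderOf_eq_prime (by decide) (by decide)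
    have hyo : orderOf y = 3 := by
      rw [MulEquiv.orderOf_eq, Subgroup.orderOf_mk, orderOf_injective f h.s.c.finj, hc3]
    intro x hx
    have hxo : orderOf x = 3 := by rw [← Subgroup.orderOf_coe]; exact hx.orderOf
    by_contra hcon
    by_cases hy3 : (y : Perm (Fin 6)).IsThreeCycle
    · obtain ⟨c, hc⟩ := isConj_iff.1 (alternatingGroup.isThreeCycle_isConj
        (by rw [Nat.card_eq_fintype_card]; decide) hy3 hx)
      apply hcon
      rw [← hc, map_mul, map_mul, map_inv, hy]
      exact hconj _ _ hy3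
    · obtain ⟨c, hc⟩ := exists_conj33 hyo hy3 (by rw [MulEquiv.orderOf_eq]; exact hxo) hcon
      have h1 : x = (Φ t).symm c * y * ((Φ t).symm c)⁻¹ := by
        apply (Φ t).injective
        rw [map_mul, map_mul, map_inv, MulEquiv.apply_symm_apply, hy, hc]
      apply hy3
      have h2 : y = ((Φ t).symm c)⁻¹ * x * ((Φ t).symm c)⁻¹⁻¹ := by rw [h1]; group
      rw [h2]
      exact hconj _ _ hx
  have hP : ∀ g, P g := by
    intro g
    by_cases hg : g ∈ M
    · exact hPM g hg
    · have h1 : t * g ∈ M := by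
        rw [Subgroup.mul_mem_iff_of_index_two h.i]
        exact iff_of_false h.tM hg
      have h2 : g = t * (t * g) := by rw [← mul_assoc, mul_self h.s.c.ht, one_mul]
      rw [h2]
      exact hPmul _ _ hPt (hPM _ h1)
  let κ : Perm (Fin 6) →* MulAut (alternatingGroup (Fin 6)) := MulAut.conjNormal
  have hκ : Function.Injective κ := by
    rw [injective_iff_map_eq_one]
    intro π hπ
    apply SymIndex.eq_one_of_commute (by decide) π
    intro a
    have h1 := congrArg (fun φ : MulAut (alternatingGroup (Fin 6)) => ((φ a : alternatingGroup (Fin 6)) : Perm (Fin 6))) hπ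
    exact h1
  have hran : ∀ g, Φ g ∈ κ.range := by
    intro g
    obtain ⟨π, hπ⟩ := AutAlt.exists_conj_of_threeCycle (Φ g) (by decide) (hP g)
    exact ⟨π, hπ⟩
  let E : Perm (Fin 6) ≃* κ.range := MonoidHom.ofInjective hκ
  let Θ : G →* Perm (Fin 6) := E.symm.toMonoidHom.comp (Φ.codRestrict κ.range hran)
  have hΘ : Function.Injective Θ := by
    rw [injective_iff_map_eq_one]
    intro g hg
    have h1 : Φ.codRestrict κ.range hran g = 1 := by
      apply E.symm.injective
      rw [map_one]; exact hg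
    have h2 : Φ g = 1 := congrArg Subtype.val h1
    have h3 : ∀ m ∈ M, g * m = m * g := by
      intro m hm
      have h4 := congrArg (fun φ : MulAut (alternatingGroup (Fin 6)) => φ (ψ ⟨m, hm⟩)) h2
      have h5 : ψ (MulAut.conjNormal g (ψ.symm (ψ ⟨m, hm⟩))) = ψ ⟨m, hm⟩ := h4
      rw [MulEquiv.symm_apply_apply] at h5
      have h6 := congrArg Subtype.val (ψ.injective h5)
      rw [MulAut.conjNormal_apply] at h6
      have h7 : g * m * g⁻¹ = m := h6
      calc g * m = (g * m * g⁻¹) * g := by group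
        _ = m * g := by rw [h7]
    have h4 : g ∈ C(t) := h.s.le (Subgroup.mem_centralizer_singleton_iff.2 (h3 _ (h.fM z0)))
    obtain ⟨σ, hσ⟩ := h.s.c.dec g h4
    have h5 : σ = 1 := by
      apply center_triv
      intro τ
      apply h.s.c.finj
      rw [map_mul, map_mul]
      have h6 := h3 _ (h.fM τ)
      rcases hσ with hσ | hσ
      · rw [← hσ]; exact h6
      · rw [hσ] at h6
        apply mul_left_cancel (a := t)
        calc t * (f σ * f τ) = t * f σ * f τ := by group
          _ = f τ * (t * f σ) := h6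
          _ = (f τ * t) * f σ := by group
          _ = t * (f τ * f σ) := by rw [h.s.c.hf]; group
    rw [h5, map_one, mul_one] at hσ
    rcases hσ with hσ | hσ
    · exact hσ
    · exfalso
      have h6 : M ≤ C(t) := by
        intro m hm
        rw [Subgroup.mem_centralizer_singleton_iff]
        have := h3 m hm
        rw [hσ] at this
        exact this.symm
      have h7 := Subgroup.card_le_of_le h6
      rw [hM360, h.s.c.card_C] at h7
      omega
  have hcard : Nat.card G = Nat.card (Perm (Fin 6)) := by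
    have h1 := Subgroup.card_mul_index M
    rw [h.i, hM360] at h1
    rw [← h1, Nat.card_eq_fintype_card, Fintype.card_perm, Fintype.card_fin]
    decide
  exact ⟨MulEquiv.ofBijective Θ ((Nat.bijective_iff_injective_and_card Θ).2 ⟨hΘ, hcard⟩)⟩

end Cfsg.Agent.Lib.CSF
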