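import Cfsg.Agent.Lib.H25Ws
import Cfsg.Agent.Lib.H4CSe
import Cfsg.Agent.S3341

/-!
# Recognition of `S₆` (helper25)
-/

set_option autoImplicit false
set_option linter.all false
set_option maxHeartbeats 400000

namespace Cfsg.Agent.Lib.H25W

open Cfsg Cfsg.Agent.Lib Cfsg.Agent.Lib.H25Nine DihedralGroup Equiv Equiv.Perm

universe u

/-- an automorphism of `A₆` preserving the class of an element of order three preserves 3-cycles -/
theorem three_of_class (φ : MulAut (alternatingGroup (Fin 6))) {y : alternatingGroup (Fin 6)} (hy : orderOf y = 3)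
    (h : ∃ c, φ y = c * y * c⁻¹) (x : alternatingGroup (Fin 6)) (hx : (x : Perm (Fin 6)).IsThreeCycle) :
    (φ x : Perm (Fin 6)).IsThreeCycle := by
  have hconj : ∀ (c x : alternatingGroup (Fin 6)), (x : Perm (Fin 6)).IsThreeCycle →
      ((c * x * c⁻¹ : alternatingGroup (Fin 6)) : Perm (Fin 6)).IsThreeCycle := by
    intro c x hx
    show ((c : Perm (Fin 6)) * x * (c : Perm (Fin 6))⁻¹).cycleType = {3}
    rw [cycleType_conj]; exact hx
  obtain ⟨d, hd⟩ := h
  have hxo : orderOf x = 3 := by rw [← Subgroup.orderOf_coe]; exact hx.orderOf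
  by_contra hcon
  by_cases hy3 : (y : Perm (Fin 6)).IsThreeCycle
  · obtain ⟨c, hc⟩ := isConj_iff.1 (alternatingGroup.isThreeCycle_isConj
      (by rw [Nat.card_eq_fintype_card]; decide) hy3 hx)
    apply hcon
    rw [← hc, map_mul, map_mul, map_inv, hd]
    exact hconj _ _ (hconj _ _ hy3)
  · obtain ⟨c, hc⟩ := CSF.exists_conj33 hy hy3 (by rw [MulEquiv.orderOf_eq]; exact hxo) hcon
    have h1 : φ x = φ (φ.symm (c * d⁻¹) * y * (φ.symm (c * d⁻¹))⁻¹) := by
      rw [map_mul, map_mul, map_inv, MulEquiv.apply_symm_apply, hd, ← hc]; group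
    have h2 := φ.injective h1
    apply hy3
    have h3 : y = (φ.symm (c * d⁻¹))⁻¹ * x * ((φ.symm (c * d⁻¹))⁻¹)⁻¹ := by rw [h2]; group
    rw [h3]
    exact hconj _ _ hx

variable {G : Type u} [Group G] {S : Subgroup G} {ρ : D →* G} {a b : G} [Finite G]

theorem inv_r2 (W : Wr S ρ a b) {y : G} (hy : y ∈ S) : ρ (r 2) * y = y⁻¹ * ρ (r 2) := by
  obtain ⟨v, rfl⟩ := W.exists_co hy
  rw [W.conj_co]
  congr 1
  have h1 : ∀ v : V, act (r 2) v + v = 0 := by decide
  rw [eq_inv_iff_mul_eq_one, ← W.co_add, h1, co_one']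

theorem ne10 : ((1, 0) : V) ≠ 0 := by decide
theorem ne11 : ((1, 1) : V) ≠ 0 := by decide

theorem recog (W : Wr S ρ a b) (hN : Nat.card (Subgroup.normalizer (S : Set G)) = 72) :
    S.Normal ∨ Nonempty (G ≃* Perm (Fin 6)) := by
  classical
  obtain ⟨K, hK, hi, hSK, hs, hr⟩ := exists_K W
  have h9 := nine_K W hSK hs
  have h36 := card_NK W hN hK hi hSK hs
  by_cases hnn : (S.subgroupOf K).Normal
  · left
    exact normal_up W.tis.sylow hK hSK hnn
  right
  have hsimple := nine_simple h9 h36 (fun L hL h => irr_K W hSK (hr 1) L hL h) hnn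
  have hf : Fact (Nat.Prime 3) := ⟨Nat.prime_three⟩
  have h1 : co a b (1, 0) ≠ 1 := fun h => ne10 (W.co_eq_one h)
  have h1' : co a b (1, 1) ≠ 1 := fun h => ne11 (W.co_eq_one h)
  obtain ⟨P, hP⟩ := h9.sylow
  obtain ⟨ψ⟩ := S3341.result (G := K) P (S.subgroupOf K) hP.symm
    (isMulCommutative_iff_of_setLike.mpr (fun a ha b hb => h9.comm a ha b hb)) h9.exp h9.card
    ⟨⟨co a b (1, 0), hSK (W.co_mem _)⟩, ⟨co a b (1, 1), hSK (W.co_mem _)⟩,
      orderOf_eq_prime (Subtype.ext (W.tis.exp _ (W.co_mem _))) (fun h => h1 (congrArg Subtype.val h)),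
      orderOf_eq_prime (Subtype.ext (W.tis.exp _ (W.co_mem _))) (fun h => h1' (congrArg Subtype.val h)),
      fun g hg => not_conj W (g : G) (congrArg Subtype.val hg)⟩ h9.cent'
  have hKc : Nat.card K = 360 := by
    rw [Nat.card_congr ψ.toEquiv]
    have h2 := two_mul_nat_card_alternatingGroup (α := Fin 6)
    rw [Nat.card_eq_fintype_card (α := Perm (Fin 6)), Fintype.card_perm, Fintype.card_fin] at h2
    have h3 : Nat.factorial 6 = 720 := by decide
    rw [h3] at h2
    omega
  let Φ : G →* MulAut (alternatingGroup (Fin 6)) := (MulAut.congr ψ).toMonoidHom.comp MulAut.conjNormal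
  have hΦ : ∀ g x, Φ g x = ψ (MulAut.conjNormal g (ψ.symm x)) := fun g x => rfl
  let y : alternatingGroup (Fin 6) := ψ ⟨co a b (1, 0), hSK (W.co_mem _)⟩
  have hy : orderOf y = 3 := by
    rw [MulEquiv.orderOf_eq]
    exact orderOf_eq_prime (Subtype.ext (W.tis.exp _ (W.co_mem _))) (fun h => h1 (congrArg Subtype.val h))
  have hcls : ∀ g, ∃ c, Φ g y = c * y * c⁻¹ := by
    intro g
    obtain ⟨k, hk, hgk⟩ := conj_K W hK hSK hs hr g
    refine ⟨ψ ⟨k, hk⟩, ?_⟩
    rw [hΦ, MulEquiv.symm_apply_apply, ← map_mul, ← map_inv, ← map_mul]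
    congr 1
    apply Subtype.ext
    rw [MulAut.conjNormal_apply]
    exact hgk
  let κ : Perm (Fin 6) →* MulAut (alternatingGroup (Fin 6)) := MulAut.conjNormal
  have hκ : Function.Injective κ := by
    rw [injective_iff_map_eq_one]
    intro π hπ
    apply SymIndex.eq_one_of_commute (by decide) π
    intro a
    have h1 := congrArg (fun φ : MulAut (alternatingGroup (Fin 6)) => ((φ a : alternatingGroup (Fin 6)) : Perm (Fin 6))) hπ
    exact h1
  have hran : ∀ g, Φ g ∈ κ.range := by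
    intro g
    obtain ⟨π, hπ⟩ := AutAlt.exists_conj_of_threeCycle (Φ g) (by decide) (fun x hx => three_of_class (Φ g) hy (hcls g) x hx)
    exact ⟨π, hπ⟩
  let E : Perm (Fin 6) ≃* κ.range := MonoidHom.ofInjective hκ
  let Θ : G →* Perm (Fin 6) := E.symm.toMonoidHom.comp (Φ.codRestrict κ.range hran)
  have hΘ : Function.Injective Θ := by
    rw [injective_iff_map_eq_one]
    intro g hg
    have h1 : Φ.codRestrict κ.range hran g = 1 := by
      apply E.symm.injective
      rw [map_one]; exact hg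
    have h2 : Φ g = 1 := congrArg Subtype.val h1
    have h3 : ∀ m ∈ K, g * m = m * g := by
      intro m hm
      have h4 := congrArg (fun φ : MulAut (alternatingGroup (Fin 6)) => φ (ψ ⟨m, hm⟩)) h2
      have h5 : ψ (MulAut.conjNormal g (ψ.symm (ψ ⟨m, hm⟩))) = ψ ⟨m, hm⟩ := h4
      rw [MulEquiv.symm_apply_apply] at h5
      have h6 := congrArg Subtype.val (ψ.injective h5)
      rw [MulAut.conjNormal_apply] at h6
      have h7 : g * m * g⁻¹ = m := h6
      calc g * m = (g * m * g⁻¹) * g := by group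
        _ = m * g := by rw [h7]
    have hgS : g ∈ S := by
      apply W.CS
      rw [Subgroup.mem_centralizer_iff]
      intro m hm
      exact (h3 m (hSK hm)).symm
    by_contra hg1
    have h4 := inv_r2 W hgS
    rw [← h3 _ (hr 2)] at h4
    exact H25Tri.inv_ne' W.tis hgS hg1 (mul_right_cancel h4).symm
  have hcard : Nat.card G = Nat.card (Perm (Fin 6)) := by
    have h1 := Subgroup.card_mul_index K
    rw [hi, hKc] at h1
    rw [← h1, Nat.card_eq_fintype_card, Fintype.card_perm, Fintype.card_fin]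
    decide
  exact ⟨MulEquiv.ofBijective Θ ((Nat.bijective_iff_injective_and_card Θ).2 ⟨hΘ, hcard⟩)⟩

end Cfsg.Agent.Lib.H25W
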