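import Cfsg.Agent.Lib.H25Wq

/-!
# `3^2 : D_8` inside a group, without the trivial intersection condition (helper25)
-/

set_option autoImplicit false
set_option linter.all false
set_option maxHeartbeats 400000

namespace Cfsg.Agent.Lib.H25X

open Cfsg Cfsg.Agent.Lib.H25Nine Cfsg.Agent.Lib.H25W DihedralGroup
open scoped Pointwise

universe u

variable {G : Type u} [Group G]

structure PT (S : Subgroup G) : Prop where
  sylow : ∃ P : Sylow 3 G, (P : Subgroup G) = S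
  exp : ∀ s ∈ S, s ^ 3 = 1
  comm : ∀ s ∈ S, ∀ t ∈ S, s * t = t * s

namespace PT

variable {S : Subgroup G} [Finite G]

theorem mem_of_pow (h : PT S) {g : G} (hg : g ∈ Subgroup.normalizer (S : Set G)) (hg3 : g ^ 3 = 1) :
    g ∈ S := by
  obtain ⟨P, hP⟩ := h.sylow
  have hf : Fact (Nat.Prime 3) := ⟨Nat.prime_three⟩
  subst hP
  have hz : IsPGroup 3 (Subgroup.zpowers g) := by
    rw [IsPGroup.iff_card]
    have h1 := orderOf_dvd_of_pow_eq_one hg3
    rw [Nat.card_zpowers]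
    rcases (Nat.dvd_prime Nat.prime_three).mp h1 with h2 | h2
    · exact ⟨0, by rw [h2]; rfl⟩
    · exact ⟨1, by rw [h2]; rfl⟩
  have hle : Subgroup.zpowers g ≤ Subgroup.normalizer ((P : Subgroup G) : Set G) := by
    rw [Subgroup.zpowers_le]; exact hg
  have hsup : IsPGroup 3 (((P : Subgroup G) ⊔ Subgroup.zpowers g : Subgroup G)) :=
    IsPGroup.to_sup_of_normal_left' P.isPGroup' hz hle
  have := P.is_maximal' hsup le_sup_left
  rw [← this]
  exact (le_sup_right : Subgroup.zpowers g ≤ _) (Subgroup.mem_zpowers g)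

theorem exists_conj_mem (h : PT S) {w : G} (hw : orderOf w = 3) : ∃ g : G, g * w * g⁻¹ ∈ S := by
  obtain ⟨P, rfl⟩ := h.sylow
  have hf : Fact (Nat.Prime 3) := ⟨Nat.prime_three⟩
  have hz : IsPGroup 3 (Subgroup.zpowers w) := by
    rw [IsPGroup.iff_card, Nat.card_zpowers]
    exact ⟨1, by rw [hw]; rfl⟩
  obtain ⟨Q, hQ⟩ := hz.exists_le_sylow
  obtain ⟨g, hg⟩ := MulAction.exists_smul_eq G Q P
  refine ⟨g, ?_⟩
  rw [← hg]
  show _ ∈ (MulAut.conj g • (Q : Subgroup G))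
  rw [Subgroup.mem_pointwise_smul_iff_inv_smul_mem]
  show (MulAut.conj g)⁻¹ (g * w * g⁻¹) ∈ (Q : Subgroup G)
  rw [← map_inv, MulAut.conj_apply]
  have : g⁻¹ * (g * w * g⁻¹) * (g⁻¹)⁻¹ = w := by group
  rw [this]
  exact hQ (Subgroup.mem_zpowers w)

theorem ti (h : PT S) {s g : G} (hs : s ∈ S) (hs1 : s ≠ 1) (hg : g * s * g⁻¹ ∈ S)
    (hc : Subgroup.centralizer ({g * s * g⁻¹} : Set G) ≤ Subgroup.normalizer (S : Set G)) :
    g ∈ Subgroup.normalizer (S : Set G) := by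
  have key : ∀ t ∈ S, g * t * g⁻¹ ∈ S := by
    intro t ht
    apply h.mem_of_pow
    · apply hc
      rw [Subgroup.mem_centralizer_singleton_iff]
      have := h.comm s hs t ht
      calc g * t * g⁻¹ * (g * s * g⁻¹) = g * (t * s) * g⁻¹ := by group
        _ = g * (s * t) * g⁻¹ := by rw [this]
        _ = _ := by group
    · rw [conj_pow, h.exp t ht]; group
  exact mem_norm_of key

end PT

variable {S : Subgroup G}

theorem gen9 [Finite G] (h : PT S) (hc : Nat.card S = 9) {u v : G} (hu : u ∈ S) (hu1 : u ≠ 1) (hv : v ∈ S)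
    (hvu : v ∉ Subgroup.zpowers u) : ∀ x ∈ S, ∃ i j : ℤ, x = u ^ i * v ^ j := by
  intro x hx
  have hf : Fact (Nat.Prime 3) := ⟨Nat.prime_three⟩
  set u' : S := ⟨u, hu⟩
  set v' : S := ⟨v, hv⟩
  set x' : S := ⟨x, hx⟩
  have hn : (Subgroup.zpowers u').Normal := by
    constructor
    intro n hn g
    have : g * n * g⁻¹ = n := by
      have : g * n = n * g := Subtype.ext (h.comm g g.2 n n.2)
      rw [this]; group
    rwa [this]
  have h3 : orderOf u' = 3 := orderOf_eq_prime (Subtype.ext (h.exp u hu)) (fun h => hu1 (congrArg Subtype.val h))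
  have hq : Nat.card (S ⧸ Subgroup.zpowers u') = 3 := by
    have h1 := (Subgroup.zpowers u').card_eq_card_quotient_mul_card_subgroup
    rw [Nat.card_zpowers, h3, hc] at h1
    omega
  have hv1 : (QuotientGroup.mk' (Subgroup.zpowers u') v') ≠ 1 := by
    intro h
    apply hvu
    have h1 : v' ∈ Subgroup.zpowers u' := (QuotientGroup.eq_one_iff v').mp h
    obtain ⟨k, hk⟩ := Subgroup.mem_zpowers_iff.mp h1
    exact Subgroup.mem_zpowers_iff.mpr ⟨k, congrArg Subtype.val hk⟩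
  have h4 := mem_zpowers_of_prime_card hq hv1 (g' := QuotientGroup.mk' (Subgroup.zpowers u') x')
  obtain ⟨j, hj⟩ := Subgroup.mem_zpowers_iff.mp h4
  have h5 : x' * (v' ^ j)⁻¹ ∈ Subgroup.zpowers u' := by
    rw [← QuotientGroup.eq_one_iff]
    show QuotientGroup.mk' (Subgroup.zpowers u') (x' * (v' ^ j)⁻¹) = 1
    rw [map_mul, map_inv, map_zpow, hj, mul_inv_cancel]
  obtain ⟨i, hi⟩ := Subgroup.mem_zpowers_iff.mp h5
  refine ⟨i, j, ?_⟩
  have h6 : x' = u' ^ i * v' ^ j := by rw [hi]; group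
  exact congrArg Subtype.val h6

theorem inv_ne' (h : PT S) {a : G} (ha : a ∈ S) (ha1 : a ≠ 1) : a⁻¹ ≠ a := by
  intro h'
  apply ha1
  have h1 : a * a = 1 := by nth_rewrite 1 [← h']; exact inv_mul_cancel a
  have h2 := h.exp a ha
  rw [pow_succ, sq, h1, one_mul] at h2
  exact h2

/-- the elements of `S` centralized by `s` when `s` normalizes, is an involution and neither centralizes nor inverts -/
theorem split [Finite G] (h : PT S) (hc : Nat.card S = 9) {s : G} (hs : s ∈ Subgroup.normalizer (S : Set G)) (hs2 : s * s = 1)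
    (h1 : ∃ y ∈ S, s * y ≠ y * s) (h2 : ∃ y ∈ S, s * y ≠ y⁻¹ * s) :
    ∃ b d : G, b ∈ S ∧ d ∈ S ∧ b ≠ 1 ∧ d ≠ 1 ∧ s * b = b * s ∧ s * d = d⁻¹ * s ∧
      (∀ x ∈ S, ∃ i j : ℤ, x = b ^ i * d ^ j) ∧ (∀ x ∈ S, s * x = x * s → ∃ i : ℤ, x = b ^ i) ∧
      (∀ x ∈ S, s * x = x⁻¹ * s → ∃ i : ℤ, x = d ^ i) := by
  have hsi : s⁻¹ = s := by rw [inv_eq_iff_mul_eq_one]; exact hs2
  have hcj : ∀ y ∈ S, s * y * s ∈ S := by
    intro y hy
    have := (Subgroup.mem_normalizer_iff.mp hs y).mp hy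
    rwa [hsi] at this
  obtain ⟨y, hy, hyc⟩ := h1
  obtain ⟨w, hw, hwc⟩ := h2
  have hmul : ∀ y ∈ S, s * (y * (s * y * s)) = (y * (s * y * s)) * s := by
    intro y hy
    rw [h.comm y hy _ (hcj y hy)]
    calc s * (s * y * s * y) = (s * s) * y * s * y := by group
      _ = y * s * y := by rw [hs2, one_mul]
      _ = y * s * y * (s * s) := by rw [hs2, mul_one]
      _ = y * (s * y * s) * s := by group
      _ = s * y * s * y * s := by rw [h.comm y hy _ (hcj y hy)]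
  refine ⟨w * (s * w * s), y⁻¹ * (s * y * s), S.mul_mem hw (hcj w hw), S.mul_mem (S.inv_mem hy) (hcj y hy), ?_, ?_, hmul w hw, ?_, ?_⟩
  · intro h3
    apply hwc
    have h4 : s * w * s = w⁻¹ := by
      rw [eq_inv_iff_mul_eq_one, ← h.comm _ hw _ (hcj w hw)]; exact h3
    rw [← h4, mul_assoc, hs2, mul_one]
  · intro h3
    apply hyc
    have h4 : s * y * s = y := by
      rw [inv_mul_eq_one] at h3; exact h3.symm
    calc s * y = s * y * s * s := by rw [mul_assoc _ s s, hs2, mul_one]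
      _ = y * s := by rw [h4]
  · rw [mul_inv_rev, inv_inv]
    have e1 : (s * y * s)⁻¹ * y = y * (s * y * s)⁻¹ := h.comm _ (S.inv_mem (hcj y hy)) _ hy
    rw [e1]
    have e2 : (s * y * s)⁻¹ = s * y⁻¹ * s := by rw [mul_inv_rev, mul_inv_rev, hsi]; group
    rw [e2]
    calc s * (y⁻¹ * (s * y * s)) = s * ((s * y * s) * y⁻¹) := by rw [h.comm _ (S.inv_mem hy) _ (hcj y hy)]
      _ = (s * s) * y * s * y⁻¹ := by group
      _ = y * s * y⁻¹ := by rw [hs2, one_mul]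
      _ = y * (s * y⁻¹ * (s * s)) := by rw [hs2]; group
      _ = y * (s * y⁻¹ * s) * s := by group
  · -- generation
    set b := w * (s * w * s) with hb
    set d := y⁻¹ * (s * y * s) with hd
    have hbS : b ∈ S := S.mul_mem hw (hcj w hw)
    have hdS : d ∈ S := S.mul_mem (S.inv_mem hy) (hcj y hy)
    have hb1 : b ≠ 1 := by
      intro h3
      apply hwc
      have h4 : s * w * s = w⁻¹ := by
        rw [eq_inv_iff_mul_eq_one, ← h.comm _ hw _ (hcj w hw)]; exact h3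
      rw [← h4, mul_assoc, hs2, mul_one]
    have hd1 : d ≠ 1 := by
      intro h3
      apply hyc
      have h4 : s * y * s = y := by
        rw [hd, inv_mul_eq_one] at h3; exact h3.symm
      calc s * y = s * y * s * s := by rw [mul_assoc _ s s, hs2, mul_one]
        _ = y * s := by rw [h4]
    have hsb : Commute s b := hmul w hw
    have hsd : s * d * s⁻¹ = d⁻¹ := by
      have e2 : (s * y * s)⁻¹ = s * y⁻¹ * s := by rw [mul_inv_rev, mul_inv_rev, hsi]; group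
      rw [hsi, hd, mul_inv_rev, inv_inv, e2]
      calc s * (y⁻¹ * (s * y * s)) * s = s * y⁻¹ * s * y * (s * s) := by group
        _ = s * y⁻¹ * s * y := by rw [hs2, mul_one]
    have hdb : d ∉ Subgroup.zpowers b := by
      intro hdb
      obtain ⟨k, hk⟩ := Subgroup.mem_zpowers_iff.mp hdb
      have h3 : s * d * s⁻¹ = d := by rw [← hk, (hsb.zpow_right k).eq]; group
      rw [hsd] at h3
      exact inv_ne' h hdS hd1 h3
    have hgen := gen9 h hc hbS hb1 hdS hdb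
    have e3 : ∀ j : ℤ, s * d ^ j * s⁻¹ = (d ^ j)⁻¹ := fun j => by rw [← conj_zpow, hsd, inv_zpow]
    have e4 : ∀ i : ℤ, s * b ^ i * s⁻¹ = b ^ i := fun i => by rw [(hsb.zpow_right i).eq]; group
    refine ⟨hgen, ?_, ?_⟩
    · intro x hx hsx
      obtain ⟨i, j, hij⟩ := hgen x hx
      refine ⟨i, ?_⟩
      have h3 : s * x * s⁻¹ = b ^ i * (d ^ j)⁻¹ := by
        rw [hij]
        have : s * (b ^ i * d ^ j) * s⁻¹ = (s * b ^ i * s⁻¹) * (s * d ^ j * s⁻¹) := by group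
        rw [this, e3, e4]
      have h4 : s * x * s⁻¹ = x := by rw [hsx]; group
      rw [h4, hij, mul_right_inj] at h3
      have h5 : d ^ j = 1 := by
        by_contra hne
        exact inv_ne' h (S.zpow_mem hdS j) hne h3.symm
      rw [hij, h5, mul_one]
    · intro x hx hsx
      obtain ⟨i, j, hij⟩ := hgen x hx
      refine ⟨j, ?_⟩
      have h3 : s * x * s⁻¹ = b ^ i * (d ^ j)⁻¹ := by
        rw [hij]
        have : s * (b ^ i * d ^ j) * s⁻¹ = (s * b ^ i * s⁻¹) * (s * d ^ j * s⁻¹) := by group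
        rw [this, e3, e4]
      have h4 : s * x * s⁻¹ = x⁻¹ := by rw [hsx]; group
      rw [h4, hij, mul_inv_rev, h.comm _ (S.inv_mem (S.zpow_mem hdS j)) _ (S.inv_mem (S.zpow_mem hbS i)), mul_left_inj] at h3
      have h5 : b ^ i = 1 := by
        by_contra hne
        exact inv_ne' h (S.zpow_mem hbS i) hne h3
      rw [hij, h5, one_mul]

/-- two commuting involutions, neither inverting `S` nor centralizing it -/
theorem pair [Finite G] (h : PT S) (hc : Nat.card S = 9) {s t : G} (hs : s ∈ Subgroup.normalizer (S : Set G)) (hs2 : s * s = 1)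
    (ht : t ∈ Subgroup.normalizer (S : Set G)) (ht2 : t * t = 1) (hst : s * t = t * s)
    (h1 : ∃ y ∈ S, s * y ≠ y * s) (h2 : ∃ y ∈ S, s * y ≠ y⁻¹ * s)
    (h3 : ∃ y ∈ S, t * y ≠ y * t) (h4 : ∃ y ∈ S, t * y ≠ y⁻¹ * t) (h5 : ∃ y ∈ S, (s * t) * y ≠ y * (s * t)) :
    ∃ a b : G, a ∈ S ∧ b ∈ S ∧ a ≠ 1 ∧ b ≠ 1 ∧ (∀ x ∈ S, ∃ i j : ℤ, x = a ^ i * b ^ j) ∧
      s * a = a⁻¹ * s ∧ s * b = b * s ∧ t * a = a * t ∧ t * b = b⁻¹ * t := by
  have hsi : s⁻¹ = s := by rw [inv_eq_iff_mul_eq_one]; exact hs2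
  have hti : t⁻¹ = t := by rw [inv_eq_iff_mul_eq_one]; exact ht2
  obtain ⟨b, d, hb, hd, hb1, hd1, hsb, hsd, hgen, hcent, hinv⟩ := split h hc hs hs2 h1 h2
  -- `t` acts on `⟨b⟩` and on `⟨d⟩`
  have pw : ∀ c : G, c ∈ S → c ≠ 1 → ∀ i : ℤ, c ^ i = 1 ∨ c ^ i = c ∨ c ^ i = c⁻¹ := by
    intro c hcS hc1 i
    have h3 : orderOf c = 3 := orderOf_eq_prime (h.exp c hcS) hc1
    have h5 := zpow_mod_orderOf c i
    rw [h3] at h5
    have h6 : i % 3 = 0 ∨ i % 3 = 1 ∨ i % 3 = 2 := by omega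
    rcases h6 with h6 | h6 | h6
    · left; rw [← h5]; push_cast; rw [h6, zpow_zero]
    · right; left; rw [← h5]; push_cast; rw [h6, zpow_one]
    · right; right; rw [← h5]; push_cast; rw [h6]
      rw [eq_inv_iff_mul_eq_one]
      have h9 : c ^ (2 : ℤ) = c ^ 2 := by norm_cast
      rw [h9, ← pow_succ, h.exp c hcS]
  have tact : ∀ c : G, c ∈ S → c ≠ 1 → (∃ i : ℤ, t * c * t⁻¹ = c ^ i) → t * c = c * t ∨ t * c = c⁻¹ * t := by
    rintro c hcS hc1 ⟨i, hi⟩
    rcases pw c hcS hc1 i with h6 | h6 | h6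
    · exfalso
      rw [h6] at hi
      exact hc1 (conj_eq_one_iff.mp hi)
    · left
      rw [h6] at hi
      exact mul_inv_eq_iff_eq_mul.mp hi
    · right
      rw [h6] at hi
      exact mul_inv_eq_iff_eq_mul.mp hi
  have htc : ∀ y ∈ S, t * y * t⁻¹ ∈ S := fun y hy => (Subgroup.mem_normalizer_iff.mp ht y).mp hy
  have hst' : s * t⁻¹ = t⁻¹ * s := by rw [hti]; exact hst
  have tb : t * b = b * t ∨ t * b = b⁻¹ * t := by
    apply tact b hb hb1
    apply hcent _ (htc b hb)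
    calc s * (t * b * t⁻¹) = (s * t) * b * t⁻¹ := by group
      _ = t * (s * b) * t⁻¹ := by rw [hst]; group
      _ = t * b * (s * t⁻¹) := by rw [hsb]; group
      _ = t * b * t⁻¹ * s := by rw [hst']; group
  have td : t * d = d * t ∨ t * d = d⁻¹ * t := by
    apply tact d hd hd1
    apply hinv _ (htc d hd)
    calc s * (t * d * t⁻¹) = (s * t) * d * t⁻¹ := by group
      _ = t * (s * d) * t⁻¹ := by rw [hst]; group
      _ = t * d⁻¹ * (s * t⁻¹) := by rw [hsd]; group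
      _ = (t * d * t⁻¹)⁻¹ * s := by rw [hst']; group
  have ext2 : ∀ w : G, ∀ e f : ℤ, w * b = b ^ e * w → w * d = d ^ f * w → ∀ i j : ℤ, w * (b ^ i * d ^ j) = (b ^ (e * i) * d ^ (f * j)) * w := by
    intro w e f h1 h2 i j
    have h3 : w * b * w⁻¹ = b ^ e := by rw [h1]; group
    have h4 : w * d * w⁻¹ = d ^ f := by rw [h2]; group
    have h5 : w * b ^ i * w⁻¹ = b ^ (e * i) := by rw [← conj_zpow, h3, zpow_mul]
    have h6 : w * d ^ j * w⁻¹ = d ^ (f * j) := by rw [← conj_zpow, h4, zpow_mul]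
    rw [← h5, ← h6]; group
  have hgen' : ∀ x ∈ S, ∃ i j : ℤ, x = d ^ i * b ^ j := by
    intro x hx
    obtain ⟨i, j, hij⟩ := hgen x hx
    exact ⟨j, i, by rw [hij]; exact h.comm _ (S.zpow_mem hb i) _ (S.zpow_mem hd j)⟩
  rcases tb with tb | tb <;> rcases td with td | td
  · -- t centralizes S
    exfalso
    obtain ⟨y, hy, hyt⟩ := h3
    obtain ⟨i, j, rfl⟩ := hgen y hy
    apply hyt
    have := ext2 t 1 1 (by rw [zpow_one]; exact tb) (by rw [zpow_one]; exact td) i j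
    rwa [one_mul, one_mul] at this
  · -- s t centralizes S
    exfalso
    obtain ⟨y, hy, hyt⟩ := h5
    obtain ⟨i, j, rfl⟩ := hgen y hy
    apply hyt
    have := ext2 (s * t) 1 1 (by rw [zpow_one, mul_assoc, tb, ← mul_assoc, hsb, mul_assoc])
      (by
        rw [zpow_one, mul_assoc, td, ← mul_assoc]
        have : s * d⁻¹ = d * s := by
          have h6 : s * d * s⁻¹ = d⁻¹ := by rw [hsd]; group
          have h7 : (s * d * s⁻¹)⁻¹ = d := by rw [h6, inv_inv]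
          calc s * d⁻¹ = (s * d * s⁻¹)⁻¹ * s := by group
            _ = d * s := by rw [h7]
        rw [this, mul_assoc]) i j
    rwa [one_mul, one_mul] at this
  · exact ⟨d, b, hd, hb, hd1, hb1, hgen', hsd, hsb, td, tb⟩
  · -- t inverts
    exfalso
    obtain ⟨y, hy, hyt⟩ := h4
    obtain ⟨i, j, rfl⟩ := hgen y hy
    apply hyt
    have := ext2 t (-1) (-1) (by rw [zpow_neg_one]; exact tb) (by rw [zpow_neg_one]; exact td) i j
    rw [this]
    congr 1
    rw [mul_inv_rev, ← zpow_neg, ← zpow_neg, h.comm _ (S.zpow_mem hd _) _ (S.zpow_mem hb _)]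
    congr 2 <;> ring

structure Xr (S : Subgroup G) (ρ : D →* G) (a b : G) : Prop where
  tis : PT S
  ha : a ∈ S
  hb : b ∈ S
  ha1 : a ≠ 1
  hb1 : b ≠ 1
  gen : ∀ x ∈ S, ∃ i j : ℤ, x = a ^ i * b ^ j
  hρ : ∀ e, ρ e ∈ Subgroup.normalizer (S : Set G)
  s0a : ρ (sr 0) * a = a⁻¹ * ρ (sr 0)
  s0b : ρ (sr 0) * b = b * ρ (sr 0)
  s1a : ρ (sr 1) * a = b * ρ (sr 1)
  s1b : ρ (sr 1) * b = a * ρ (sr 1)
  cov : ∀ x ∈ Subgroup.normalizer (S : Set G), ∃ y ∈ S, ∃ e, x = y * ρ e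
  CS : Subgroup.centralizer (S : Set G) ≤ S
  cyc : ¬ IsCyclic S

namespace Xr

variable {S : Subgroup G} {ρ : D →* G} {a b : G} [Finite G]

theorem a3 (W : Xr S ρ a b) : a ^ 3 = 1 := W.tis.exp a W.ha
theorem b3 (W : Xr S ρ a b) : b ^ 3 = 1 := W.tis.exp b W.hb
theorem ab (W : Xr S ρ a b) : a * b = b * a := W.tis.comm _ W.ha _ W.hb

theorem pow_val_add {c : G} (hc : c ^ 3 = 1) (x y : ZMod 3) : c ^ (x + y).val = c ^ x.val * c ^ y.val := by
  rw [← pow_add, ZMod.val_add]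
  conv_rhs => rw [← Nat.mod_add_div (x.val + y.val) 3, pow_add, pow_mul, hc, one_pow, mul_one]

theorem pow_val_neg {c : G} (hc : c ^ 3 = 1) (x : ZMod 3) : c ^ (-x).val = (c ^ x.val)⁻¹ := by
  rw [eq_inv_iff_mul_eq_one, ← pow_val_add hc, neg_add_cancel]
  simp

omit [Finite G] in
theorem co_mem (W : Xr S ρ a b) (v : V) : co a b v ∈ S := S.mul_mem (S.pow_mem W.ha _) (S.pow_mem W.hb _)

theorem co_add (W : Xr S ρ a b) (v v' : V) : co a b (v + v') = co a b v * co a b v' := by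
  unfold co
  rw [Prod.fst_add, Prod.snd_add, pow_val_add W.a3, pow_val_add W.b3]
  have := W.tis.comm _ (S.pow_mem W.ha v'.1.val) _ (S.pow_mem W.hb v.2.val)
  calc a ^ v.1.val * a ^ v'.1.val * (b ^ v.2.val * b ^ v'.2.val)
      = a ^ v.1.val * (a ^ v'.1.val * b ^ v.2.val) * b ^ v'.2.val := by group
    _ = _ := by rw [this]; group

theorem s0co (W : Xr S ρ a b) (v : V) : ρ (sr 0) * co a b v = co a b (act (sr 0) v) * ρ (sr 0) := by
  have h1 : ρ (sr 0) * a * (ρ (sr 0))⁻¹ = a⁻¹ := by rw [W.s0a]; group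
  have h2 : ρ (sr 0) * b * (ρ (sr 0))⁻¹ = b := by rw [W.s0b]; group
  have h3 : act (sr 0) v = (-v.1, v.2) := by simp [act]
  rw [h3]
  unfold co
  simp only
  rw [pow_val_neg W.a3]
  have h4 : ρ (sr 0) * (a ^ v.1.val * b ^ v.2.val) * (ρ (sr 0))⁻¹ = (a ^ v.1.val)⁻¹ * b ^ v.2.val := by
    have : ρ (sr 0) * (a ^ v.1.val * b ^ v.2.val) * (ρ (sr 0))⁻¹ = (ρ (sr 0) * a ^ v.1.val * (ρ (sr 0))⁻¹) * (ρ (sr 0) * b ^ v.2.val * (ρ (sr 0))⁻¹) := by group
    rw [this, ← conj_pow, ← conj_pow, h1, h2, inv_pow]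
  rw [← h4]; group

theorem s1co (W : Xr S ρ a b) (v : V) : ρ (sr 1) * co a b v = co a b (act (sr 1) v) * ρ (sr 1) := by
  have h1 : ρ (sr 1) * a * (ρ (sr 1))⁻¹ = b := by rw [W.s1a]; group
  have h2 : ρ (sr 1) * b * (ρ (sr 1))⁻¹ = a := by rw [W.s1b]; group
  have h3 : act (sr 1) v = (v.2, v.1) := by
    simp only [act]
    rw [if_neg (by decide), if_pos trivial]
  rw [h3]
  unfold co
  simp only
  have h4 : ρ (sr 1) * (a ^ v.1.val * b ^ v.2.val) * (ρ (sr 1))⁻¹ = a ^ v.2.val * b ^ v.1.val := by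
    have : ρ (sr 1) * (a ^ v.1.val * b ^ v.2.val) * (ρ (sr 1))⁻¹ = (ρ (sr 1) * a ^ v.1.val * (ρ (sr 1))⁻¹) * (ρ (sr 1) * b ^ v.2.val * (ρ (sr 1))⁻¹) := by group
    rw [this, ← conj_pow, ← conj_pow, h1, h2]
    exact W.tis.comm _ (S.pow_mem W.hb _) _ (S.pow_mem W.ha _)
  rw [← h4]; group

set_option maxRecDepth 10000 in
theorem words : ∀ e : D, e ∈ ({1, sr 0, sr 1, sr 0 * sr 1, sr 1 * sr 0, sr 0 * sr 1 * sr 0, sr 1 * sr 0 * sr 1, sr 0 * sr 1 * (sr 0 * sr 1)} : Finset D) := by decide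

theorem conj_co (W : Xr S ρ a b) (e : D) (v : V) : ρ e * co a b v = co a b (act e v) * ρ e := by
  have hmul : ∀ e e' : D, (∀ v, ρ e * co a b v = co a b (act e v) * ρ e) → (∀ v, ρ e' * co a b v = co a b (act e' v) * ρ e') →
      ∀ v, ρ (e * e') * co a b v = co a b (act (e * e') v) * ρ (e * e') := by
    intro e e' h h' v
    rw [map_mul, mul_assoc, h', ← mul_assoc, h, act_mul, mul_assoc]
  have h0 := W.s0co
  have h1 := W.s1co
  have h01 := hmul _ _ h0 h1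
  have h10 := hmul _ _ h1 h0
  have := words e
  simp only [Finset.mem_insert, Finset.mem_singleton] at this
  rcases this with rfl | rfl | rfl | rfl | rfl | rfl | rfl | rfl
  · rw [map_one, one_mul, mul_one]
    congr 1
  · exact h0 v
  · exact h1 v
  · exact h01 v
  · exact h10 v
  · exact hmul _ _ h01 h0 v
  · exact hmul _ _ h10 h1 v
  · exact hmul _ _ h01 h01 v

theorem el_mul (W : Xr S ρ a b) (x y : MM) : el ρ a b (mulM x y) = el ρ a b x * el ρ a b y := by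
  unfold el mulM
  simp only
  rw [W.co_add, map_mul]
  calc co a b x.1 * co a b (act x.2 y.1) * (ρ x.2 * ρ y.2)
      = co a b x.1 * (co a b (act x.2 y.1) * ρ x.2) * ρ y.2 := by group
    _ = _ := by rw [← W.conj_co]; group

theorem co_eq_one (W : Xr S ρ a b) {v : V} (h : co a b v = 1) : v = 0 := by
  have h1 := W.conj_co (sr 0) v
  have h2 : act (sr 0) v = (-v.1, v.2) := by simp [act]
  rw [h, mul_one, h2] at h1
  have h3 : co a b (-v.1, v.2) = 1 := by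
    have : (1 : G) * ρ (sr 0) = co a b (-v.1, v.2) * ρ (sr 0) := by rw [one_mul]; exact h1
    exact (mul_right_cancel this).symm
  have key : ∀ c : G, c ^ 3 = 1 → c ≠ 1 → ∀ x : ZMod 3, c ^ x.val = 1 → x = 0 := by
    intro c hc hc1 x hx
    have ho : orderOf c = 3 := orderOf_eq_prime hc hc1
    have hd := orderOf_dvd_of_pow_eq_one hx
    rw [ho] at hd
    have hlt := ZMod.val_lt x
    have : x.val = 0 := by omega
    exact (ZMod.val_eq_zero x).mp this
  have h4 : co a b (-v.1 - v.1, 0) = 1 := by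
    have e1 : ((-v.1 - v.1, 0) : V) + v = (-v.1, v.2) := by ext <;> simp
    have e2 := W.co_add (-v.1 - v.1, 0) v
    rw [e1, h, h3, mul_one] at e2
    exact e2.symm
  have h5 : -v.1 - v.1 = 0 := by
    apply key a W.a3 W.ha1
    unfold co at h4
    simpa using h4
  have h6 : v.1 = 0 := by
    have : ∀ x : ZMod 3, -x - x = 0 → x = 0 := by decide
    exact this _ h5
  have h7 : v.2 = 0 := by
    apply key b W.b3 W.hb1
    unfold co at h
    rw [h6] at h
    simpa using h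
  exact Prod.ext h6 h7

theorem co_inj (W : Xr S ρ a b) {v v' : V} (h : co a b v = co a b v') : v = v' := by
  have h1 := W.co_add (v - v') v'
  rw [sub_add_cancel, h] at h1
  have h2 : co a b (v - v') = 1 := (mul_eq_right.mp h1.symm)
  exact sub_eq_zero.mp (W.co_eq_one h2)

theorem ρ_mem (W : Xr S ρ a b) {e : D} (h : ρ e ∈ S) : e = 1 := by
  apply act_eq_id
  have key : ∀ v, act e v = v := by
    intro v
    apply W.co_inj
    have h1 := W.conj_co e v
    rw [W.tis.comm _ h _ (W.co_mem v)] at h1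
    exact (mul_right_cancel h1).symm
  exact ⟨key _, key _⟩

theorem el_inj (W : Xr S ρ a b) {x y : MM} (h : el ρ a b x = el ρ a b y) : x = y := by
  unfold el at h
  have h1 : ρ (x.2 * y.2⁻¹) ∈ S := by
    have : ρ (x.2 * y.2⁻¹) = (co a b x.1)⁻¹ * co a b y.1 := by
      rw [map_mul, map_inv, mul_inv_eq_iff_eq_mul, mul_assoc, ← h]; group
    rw [this]
    exact S.mul_mem (S.inv_mem (W.co_mem _)) (W.co_mem _)
  have h2 : x.2 = y.2 := mul_inv_eq_one.mp (W.ρ_mem h1)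
  rw [h2] at h
  exact Prod.ext (W.co_inj (mul_right_cancel h)) h2

theorem exists_co (W : Xr S ρ a b) {x : G} (hx : x ∈ S) : ∃ v, co a b v = x := by
  obtain ⟨i, j, rfl⟩ := W.gen x hx
  refine ⟨((i : ZMod 3), (j : ZMod 3)), ?_⟩
  unfold co
  have key : ∀ c : G, c ^ 3 = 1 → ∀ i : ℤ, c ^ ((i : ZMod 3)).val = c ^ i := by
    intro c hc i
    rw [← zpow_natCast, ZMod.val_intCast]
    conv_rhs => rw [← Int.emod_add_mul_ediv i 3, zpow_add, zpow_mul]
    have : c ^ (3 : ℤ) = 1 := by exact_mod_cast hc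
    rw [this, one_zpow, mul_one]
    norm_num
  simp only
  rw [key a W.a3, key b W.b3]

theorem el_surj (W : Xr S ρ a b) {x : G} (hx : x ∈ Subgroup.normalizer (S : Set G)) : ∃ n, el ρ a b n = x := by
  obtain ⟨y, hy, e, rfl⟩ := W.cov x hx
  obtain ⟨v, hv⟩ := W.exists_co hy
  exact ⟨(v, e), by unfold el; rw [← hv]⟩

theorem el_mem (W : Xr S ρ a b) (n : MM) : el ρ a b n ∈ Subgroup.normalizer (S : Set G) :=
  mul_mem (Subgroup.le_normalizer (W.co_mem _)) (W.hρ _)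

theorem el_one (W : Xr S ρ a b) : el ρ a b oneM = 1 := by
  unfold el oneM co
  simp

end Xr

namespace Xr

variable {S : Subgroup G} {ρ : D →* G} {a b : G} [Finite G]

theorem s2a (W : Xr S ρ a b) : ρ (sr 2) * a = a * ρ (sr 2) := by
  have h := W.conj_co (sr 2) (1, 0)
  have h1 : act (sr 2) ((1, 0) : V) = (1, 0) := by decide
  have h2 : co a b (1, 0) = a := by
    show a ^ 1 * b ^ 0 = a
    rw [pow_one, pow_zero, mul_one]
  rw [h1, h2] at h
  exact h

theorem s2b (W : Xr S ρ a b) : ρ (sr 2) * b = b⁻¹ * ρ (sr 2) := by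
  have h := W.conj_co (sr 2) (0, 1)
  have h1 : act (sr 2) ((0, 1) : V) = (0, 2) := by decide
  have h2 : co a b (0, 1) = b := by
    show a ^ 0 * b ^ 1 = b
    rw [pow_one, pow_zero, one_mul]
  have h3 : co a b (0, 2) = b⁻¹ := by
    show a ^ 0 * b ^ 2 = b⁻¹
    rw [pow_zero, one_mul, eq_inv_iff_mul_eq_one, ← pow_succ]
    exact W.b3
  rw [h1, h2, h3] at h
  exact h

theorem swap (W : Xr S ρ a b) : Xr S (ρ.comp outer) (a * b⁻¹) (a * b) where
  tis := W.tis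
  ha := S.mul_mem W.ha (S.inv_mem W.hb)
  hb := S.mul_mem W.ha W.hb
  ha1 := by
    intro h
    have h1 : co a b (1, 2) = 1 := by
      show a ^ 1 * b ^ 2 = 1
      have : b ^ 2 = b⁻¹ := by rw [eq_inv_iff_mul_eq_one, ← pow_succ]; exact W.b3
      rw [pow_one, this]; exact h
    exact absurd (W.co_eq_one h1) (by decide)
  hb1 := by
    intro h
    have h1 : co a b (1, 1) = 1 := by
      show a ^ 1 * b ^ 1 = 1
      rw [pow_one, pow_one]; exact h
    exact absurd (W.co_eq_one h1) (by decide)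
  gen := by
    intro x hx
    obtain ⟨i, j, rfl⟩ := W.gen x hx
    have hab : Commute a b := W.ab
    refine ⟨2 * (i - j), 2 * (i + j), ?_⟩
    have h1 : (a * b⁻¹) ^ (2 * (i - j)) = a ^ (2 * (i - j)) * b ^ (-(2 * (i - j))) := by
      rw [(hab.inv_right).mul_zpow, inv_zpow', zpow_neg]
    have h2 : (a * b) ^ (2 * (i + j)) = a ^ (2 * (i + j)) * b ^ (2 * (i + j)) := hab.mul_zpow _
    have h3 : a ^ (3 * i) = 1 := by
      rw [zpow_mul]
      have : a ^ (3 : ℤ) = 1 := by exact_mod_cast W.a3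
      rw [this, one_zpow]
    have h4 : b ^ (3 * j) = 1 := by
      rw [zpow_mul]
      have : b ^ (3 : ℤ) = 1 := by exact_mod_cast W.b3
      rw [this, one_zpow]
    rw [h1, h2]
    have h5 := (hab.zpow_zpow (2 * (i + j)) (-(2 * (i - j)))).eq
    calc a ^ i * b ^ j = a ^ (i + 3 * i) * b ^ (j + 3 * j) := by rw [zpow_add, zpow_add, h3, h4, mul_one, mul_one]
      _ = a ^ (2 * (i - j)) * (a ^ (2 * (i + j)) * b ^ (-(2 * (i - j)))) * b ^ (2 * (i + j)) := by
        rw [show i + 3 * i = 2 * (i - j) + 2 * (i + j) by ring, show j + 3 * j = -(2 * (i - j)) + 2 * (i + j) by ring, zpow_add, zpow_add]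
        group
      _ = _ := by rw [h5]; group
  hρ := fun e => W.hρ _
  s0a := by
    show ρ (outer (sr 0)) * _ = _ * ρ (outer (sr 0))
    rw [outer_sr, zero_add]
    have hb' : ρ (sr 1) * b⁻¹ = a⁻¹ * ρ (sr 1) := by
      have h1 : ρ (sr 1) * b * (ρ (sr 1))⁻¹ = a := by rw [W.s1b]; group
      rw [← h1]; group
    rw [← mul_assoc, W.s1a, mul_assoc, hb']; group
  s0b := by
    show ρ (outer (sr 0)) * _ = _ * ρ (outer (sr 0))
    rw [outer_sr, zero_add, ← mul_assoc, W.s1a, mul_assoc, W.s1b, ← mul_assoc, W.ab]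
  s1a := by
    show ρ (outer (sr 1)) * _ = _ * ρ (outer (sr 1))
    rw [outer_sr, show (1 : ZMod 4) + 1 = 2 by decide]
    have hb' : ρ (sr 2) * b⁻¹ = b * ρ (sr 2) := by
      have h1 : ρ (sr 2) * b * (ρ (sr 2))⁻¹ = b⁻¹ := by rw [W.s2b]; group
      have h2 : b = (ρ (sr 2) * b * (ρ (sr 2))⁻¹)⁻¹ := by rw [h1, inv_inv]
      nth_rewrite 2 [h2]; group
    rw [← mul_assoc, W.s2a, mul_assoc, hb', mul_assoc]
  s1b := by
    show ρ (outer (sr 1)) * _ = _ * ρ (outer (sr 1))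
    rw [outer_sr, show (1 : ZMod 4) + 1 = 2 by decide]
    rw [← mul_assoc, W.s2a, mul_assoc, W.s2b, mul_assoc]
  cov := by
    intro x hx
    obtain ⟨y, hy, e, rfl⟩ := W.cov x hx
    obtain ⟨e', rfl⟩ := outer_surj e
    exact ⟨y, hy, e', rfl⟩
  CS := W.CS
  cyc := W.cyc

end Xr

namespace Xr

variable {S : Subgroup G} {ρ : D →* G} {a b : G} [Finite G]

theorem pow4_el (W : Xr S ρ a b) (τ : MM) : el ρ a b (pow4 τ) = el ρ a b τ ^ 4 := by
  unfold pow4
  rw [W.el_mul, W.el_mul]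
  have : ∀ y : G, y * y * (y * y) = y ^ 4 := fun y => by rw [← sq, ← sq, ← pow_mul]
  exact this _

theorem sing_pow (W : Xr S ρ a b) {τ : MM} (hτ : sing τ = true) : el ρ a b τ ^ 4 ∈ S ∧ el ρ a b τ ^ 4 ≠ 1 := by
  unfold sing at hτ
  rw [decide_eq_true_eq] at hτ
  rw [← W.pow4_el]
  constructor
  · unfold el
    rw [hτ.1, map_one, mul_one]
    exact W.co_mem _
  · intro h
    unfold el at h
    rw [hτ.1, map_one, mul_one] at h
    exact hτ.2 (W.co_eq_one h)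

theorem el_invo (W : Xr S ρ a b) (n : MM) : (el ρ a b n * el ρ a b n = 1 ∧ el ρ a b n ≠ 1) ↔ invo n = true := by
  unfold invo
  rw [decide_eq_true_eq, ← W.el_mul, ← W.el_one]
  constructor
  · rintro ⟨h1, h2⟩
    exact ⟨W.el_inj h1, fun h => h2 (by rw [h])⟩
  · rintro ⟨h1, h2⟩
    exact ⟨by rw [h1], fun h => h2 (W.el_inj h)⟩

theorem el_conj (W : Xr S ρ a b) {n m : MM} (h : ∃ g : MM, mulM g n = mulM m g) : IsConj (el ρ a b m) (el ρ a b n) := by
  obtain ⟨g, hg⟩ := h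
  have h1 := congrArg (el ρ a b) hg
  rw [W.el_mul, W.el_mul] at h1
  apply IsConj.symm
  rw [isConj_iff]
  exact ⟨el ρ a b g, by rw [h1]; group⟩

theorem real_model (W : Xr S ρ a b) {τ m : MM} (h : mulM τ m = oneM) (h' : ∃ g, mulM g τ = mulM m g) :
    IsConj (el ρ a b τ) (el ρ a b τ)⁻¹ := by
  have h1 : (el ρ a b τ)⁻¹ = el ρ a b m := by
    rw [inv_eq_iff_mul_eq_one, ← W.el_mul, h, W.el_one]
  rw [h1]
  exact (W.el_conj h').symm

theorem ord3 (W : Xr S ρ a b) {τ : MM} (h : mulM (mulM τ τ) τ = oneM) (h1 : τ ≠ oneM) : orderOf (el ρ a b τ) = 3 := by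
  apply orderOf_eq_prime
  · rw [pow_succ, sq, ← W.el_mul, ← W.el_mul, h, W.el_one]
  · intro h2
    exact h1 (W.el_inj (by rw [h2, W.el_one]))

theorem ord6 (W : Xr S ρ a b) {τ c s : MM} (hτ : τ = mulM c s) (hcs : mulM c s = mulM s c)
    (hc : mulM (mulM c c) c = oneM) (hc1 : c ≠ oneM) (hs : mulM s s = oneM) (hs1 : s ≠ oneM) :
    orderOf (el ρ a b τ) = 6 := by
  have h1 : Commute (el ρ a b c) (el ρ a b s) := by
    show _ * _ = _ * _
    rw [← W.el_mul, ← W.el_mul, hcs]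
  have h2 : orderOf (el ρ a b s) = 2 := by
    apply orderOf_eq_prime
    · rw [sq, ← W.el_mul, hs, W.el_one]
    · intro h2
      exact hs1 (W.el_inj (by rw [h2, W.el_one]))
  rw [hτ, W.el_mul, h1.orderOf_mul_eq_mul_orderOf_of_coprime (by rw [W.ord3 hc hc1, h2]; norm_num), W.ord3 hc hc1, h2]

theorem sum_S (W : Xr S ρ a b) [Fintype S] (f : G → ℂ) : ∑ x : S, f (x : G) = ∑ v : V, f (co a b v) := by
  symm
  apply Fintype.sum_bijective (fun v : V => (⟨co a b v, W.co_mem v⟩ : S))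
  · constructor
    · intro v v' h
      exact W.co_inj (congrArg Subtype.val h)
    · rintro ⟨x, hx⟩
      obtain ⟨v, rfl⟩ := W.exists_co hx
      exact ⟨v, rfl⟩
  · intro v; rfl

theorem card_S (W : Xr S ρ a b) : Nat.card S = 9 := by
  classical
  have := Fintype.ofFinite S
  have h1 := sum_S W (fun _ => (1 : ℂ))
  rw [Finset.sum_const, Finset.sum_const, Finset.card_univ, Finset.card_univ] at h1
  have h2 : Fintype.card V = 9 := by decide
  rw [h2] at h1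
  rw [Nat.card_eq_fintype_card]
  simp at h1
  exact_mod_cast h1


end Xr

variable {ρ : D →* G}

theorem ncyc' (h : PT S) (hc : Nat.card S = 9) : ¬ IsCyclic S := by
  intro hcyc
  obtain ⟨g, hg⟩ := hcyc.exists_generator
  have h1 : orderOf g = 9 := by rw [orderOf_eq_card_of_forall_mem_zpowers hg, hc]
  have h2 : g ^ 3 = 1 := Subtype.ext (h.exp g g.2)
  have h3 := orderOf_dvd_of_pow_eq_one h2
  rw [h1] at h3
  revert h3
  decide

theorem exists_xr [Finite G] (h : PT S) (hc : Nat.card S = 9) (hCS : Subgroup.centralizer (S : Set G) ≤ S)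
    (hρ : ∀ e, ρ e ∈ Subgroup.normalizer (S : Set G))
    (hf : ∀ e, e ≠ 1 → ρ e ∉ S)
    (cov : ∀ x ∈ Subgroup.normalizer (S : Set G), ∃ y ∈ S, ∃ e, x = y * ρ e) :
    ∃ a b : G, Xr S ρ a b := by
  have faith : ∀ e, e ≠ 1 → ∃ y ∈ S, ρ e * y ≠ y * ρ e := by
    intro e he
    by_contra hcon
    push Not at hcon
    apply hf e he
    apply hCS
    rw [Subgroup.mem_centralizer_iff]
    intro y hy
    exact (hcon y hy).symm
  have hs2 : ∀ i, ρ (sr i) * ρ (sr i) = 1 := fun i => by rw [← map_mul, rel4, map_one]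
  have hst : ρ (sr 0) * ρ (sr 2) = ρ (r 2) := by rw [← map_mul, rel2]
  have hts : ρ (sr 2) * ρ (sr 0) = ρ (r 2) := by rw [← map_mul, rel3]
  have noninv : ¬ ((∀ y ∈ S, ρ (sr 0) * y = y⁻¹ * ρ (sr 0)) ∧ (∀ y ∈ S, ρ (sr 2) * y = y⁻¹ * ρ (sr 2))) := by
    rintro ⟨h0, h2⟩
    obtain ⟨y, hy, hyn⟩ := faith (r 2) rel6
    apply hyn
    rw [← hst, mul_assoc, h2 y hy, ← mul_assoc, h0 _ (S.inv_mem hy), inv_inv, mul_assoc]
  have n0 : ∃ y ∈ S, ρ (sr 0) * y ≠ y⁻¹ * ρ (sr 0) := by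
    by_contra hcon
    push Not at hcon
    have h2 := inv_shift hρ hcon
    rw [zero_add] at h2
    exact noninv ⟨hcon, h2⟩
  have n2 : ∃ y ∈ S, ρ (sr 2) * y ≠ y⁻¹ * ρ (sr 2) := by
    by_contra hcon
    push Not at hcon
    have h2 := inv_shift hρ hcon
    have e : (2 + 2 : ZMod 4) = 0 := by decide
    rw [e] at h2
    exact noninv ⟨h2, hcon⟩
  obtain ⟨a, b, ha, hb, ha1, hb1, hgen, sa, sb, ta, tb⟩ := H25X.pair h hc (hρ (sr 0)) (hs2 0) (hρ (sr 2)) (hs2 2)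
    (hst.trans hts.symm) (faith _ (rel7 0)) n0 (faith _ (rel7 2)) n2
    (by rw [hst]; exact faith _ rel6)
  have hσi : (ρ (sr 1))⁻¹ = ρ (sr 1) := by rw [inv_eq_iff_mul_eq_one]; exact hs2 1
  have hA : ρ (sr 1) * b * (ρ (sr 1))⁻¹ ∈ S := (Subgroup.mem_normalizer_iff.mp (hρ (sr 1)) b).mp hb
  have hA1 : ρ (sr 1) * b * (ρ (sr 1))⁻¹ ≠ 1 := fun h => hb1 (conj_eq_one_iff.mp h)
  have h01 : ρ (sr 0) * ρ (sr 1) = ρ (sr 1) * ρ (sr 2) := by rw [← map_mul, ← map_mul, rel5]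
  have htb : ρ (sr 2) * b * (ρ (sr 2))⁻¹ = b⁻¹ := by rw [tb]; group
  have hsA : ρ (sr 0) * (ρ (sr 1) * b * (ρ (sr 1))⁻¹) * (ρ (sr 0))⁻¹ = (ρ (sr 1) * b * (ρ (sr 1))⁻¹)⁻¹ := by
    calc ρ (sr 0) * (ρ (sr 1) * b * (ρ (sr 1))⁻¹) * (ρ (sr 0))⁻¹
        = (ρ (sr 0) * ρ (sr 1)) * b * (ρ (sr 0) * ρ (sr 1))⁻¹ := by group
      _ = ρ (sr 1) * (ρ (sr 2) * b * (ρ (sr 2))⁻¹) * (ρ (sr 1))⁻¹ := by rw [h01]; group
      _ = _ := by rw [htb]; group
  have hsb : ρ (sr 0) * b * (ρ (sr 0))⁻¹ = b := by rw [sb]; group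
  refine ⟨ρ (sr 1) * b * (ρ (sr 1))⁻¹, b, ⟨h, hA, hb, hA1, hb1, ?_, hρ, ?_, sb, ?_, ?_, cov, hCS, ncyc' h hc⟩⟩
  · apply H25X.gen9 h hc hA hA1 hb
    intro hmem
    obtain ⟨k, hk⟩ := Subgroup.mem_zpowers_iff.mp hmem
    have e1 : ρ (sr 0) * b * (ρ (sr 0))⁻¹ = b⁻¹ := by
      nth_rewrite 1 [← hk]
      rw [← conj_zpow, hsA, inv_zpow, hk]
    rw [hsb] at e1
    exact H25X.inv_ne' h hb hb1 e1.symm
  · rw [← hsA]; group
  · rw [hσi]
    calc ρ (sr 1) * (ρ (sr 1) * b * ρ (sr 1)) = (ρ (sr 1) * ρ (sr 1)) * b * ρ (sr 1) := by group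
      _ = b * ρ (sr 1) := by rw [hs2, one_mul]
  · group


namespace Xr

variable {a b : G} [Finite G]

/-- conjugation of the coordinates by an element of the normalizer -/
theorem conj (W : Xr S ρ a b) {g : G} (hg : g ∈ Subgroup.normalizer (S : Set G)) :
    Xr S ((MulAut.conj g).toMonoidHom.comp ρ) (g * a * g⁻¹) (g * b * g⁻¹) where
  tis := W.tis
  ha := (Subgroup.mem_normalizer_iff.mp hg a).mp W.ha
  hb := (Subgroup.mem_normalizer_iff.mp hg b).mp W.hb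
  ha1 := fun h => W.ha1 (conj_eq_one_iff.mp h)
  hb1 := fun h => W.hb1 (conj_eq_one_iff.mp h)
  gen := by
    intro x hx
    have h1 : g⁻¹ * x * g ∈ S := by
      have h2 := (Subgroup.mem_normalizer_iff.mp (inv_mem hg) x).mp hx
      rwa [inv_inv] at h2
    obtain ⟨i, j, hij⟩ := W.gen _ h1
    refine ⟨i, j, ?_⟩
    rw [conj_zpow, conj_zpow]
    calc x = g * (g⁻¹ * x * g) * g⁻¹ := by group
      _ = g * (a ^ i * b ^ j) * g⁻¹ := by rw [hij]
      _ = _ := by group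
  hρ := fun e => mul_mem (mul_mem hg (W.hρ e)) (inv_mem hg)
  s0a := by
    show g * ρ (sr 0) * g⁻¹ * (g * a * g⁻¹) = (g * a * g⁻¹)⁻¹ * (g * ρ (sr 0) * g⁻¹)
    calc g * ρ (sr 0) * g⁻¹ * (g * a * g⁻¹) = g * (ρ (sr 0) * a) * g⁻¹ := by group
      _ = g * (a⁻¹ * ρ (sr 0)) * g⁻¹ := by rw [W.s0a]
      _ = _ := by group
  s0b := by
    show g * ρ (sr 0) * g⁻¹ * (g * b * g⁻¹) = (g * b * g⁻¹) * (g * ρ (sr 0) * g⁻¹)
    calc g * ρ (sr 0) * g⁻¹ * (g * b * g⁻¹) = g * (ρ (sr 0) * b) * g⁻¹ := by group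
      _ = g * (b * ρ (sr 0)) * g⁻¹ := by rw [W.s0b]
      _ = _ := by group
  s1a := by
    show g * ρ (sr 1) * g⁻¹ * (g * a * g⁻¹) = (g * b * g⁻¹) * (g * ρ (sr 1) * g⁻¹)
    calc g * ρ (sr 1) * g⁻¹ * (g * a * g⁻¹) = g * (ρ (sr 1) * a) * g⁻¹ := by group
      _ = g * (b * ρ (sr 1)) * g⁻¹ := by rw [W.s1a]
      _ = _ := by group
  s1b := by
    show g * ρ (sr 1) * g⁻¹ * (g * b * g⁻¹) = (g * a * g⁻¹) * (g * ρ (sr 1) * g⁻¹)
    calc g * ρ (sr 1) * g⁻¹ * (g * b * g⁻¹) = g * (ρ (sr 1) * b) * g⁻¹ := by group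
      _ = g * (a * ρ (sr 1)) * g⁻¹ := by rw [W.s1b]
      _ = _ := by group
  cov := by
    intro x hx
    have h1 : g⁻¹ * x * g ∈ Subgroup.normalizer (S : Set G) := mul_mem (mul_mem (inv_mem hg) hx) hg
    obtain ⟨y, hy, e, he⟩ := W.cov _ h1
    refine ⟨g * y * g⁻¹, (Subgroup.mem_normalizer_iff.mp hg y).mp hy, e, ?_⟩
    show x = g * y * g⁻¹ * (g * ρ e * g⁻¹)
    calc x = g * (g⁻¹ * x * g) * g⁻¹ := by group
      _ = g * (y * ρ e) * g⁻¹ := by rw [he]
      _ = _ := by group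
  CS := W.CS
  cyc := W.cyc

end Xr

end Cfsg.Agent.Lib.H25X
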