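import Cfsg.Agent.Lib.H25Xc
import Cfsg.Agent.Lib.H25Xd

/-!
# The 3-local structure of `A₈` (helper25)
-/

set_option autoImplicit false
set_option linter.all false
set_option maxHeartbeats 400000

namespace Cfsg.Agent.Lib.H25X

open Cfsg Cfsg.Agent.Lib.H25Nine Cfsg.Agent.Lib.H25W DihedralGroup
open scoped Pointwise

universe u

variable {G : Type u} [Group G]

structure Loc (S : Subgroup G) (ρ : D →* G) (a b : G) (φ : L0 →* G) : Prop where
  X : Xr S ρ a b
  inj : Function.Injective φ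
  pz : φ zL = a
  pa : φ aL = b
  norm : ∀ g : G, (g * a * g⁻¹ = a ∨ g * a * g⁻¹ = a⁻¹) → g ∈ φ.range
  cy : Subgroup.centralizer ({a * b} : Set G) ≤ Subgroup.normalizer (S : Set G)

namespace Loc

variable {S : Subgroup G} {ρ : D →* G} {a b : G} {φ : L0 →* G} [Finite G]

/-- elements of `L0` whose tenth power generates `⟨zL⟩` -/
def ten (l : L0) : Prop := l ^ 10 = zL ∨ l ^ 10 = zL⁻¹

theorem ten_z : ten zL := Or.inl pow_vals.1
theorem ten_t : ten (zL * tL) := Or.inl pow_vals.2.1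
theorem ten_f : ten (zL * fL) := Or.inl pow_vals.2.2.1
theorem ten_ff : ten (zL * (fL * fL)) := Or.inl pow_vals.2.2.2
theorem ten_inv {l : L0} (h : ten l) : ten l⁻¹ := by
  unfold ten at *
  rw [inv_pow]
  rcases h with h | h <;> rw [h]
  · right; rfl
  · left; rw [inv_inv]

theorem mem_range_of_conj (L : Loc S ρ a b φ) {l l' : L0} (hl : ten l) (hl' : ten l') {g : G}
    (hg : g * φ l * g⁻¹ = φ l') : g ∈ φ.range := by
  apply L.norm
  have h1 : g * φ (l ^ 10) * g⁻¹ = φ (l' ^ 10) := by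
    rw [map_pow, map_pow, ← hg, conj_pow]
  rcases hl with h | h <;> rcases hl' with h' | h' <;> rw [h, h'] at h1
  · rw [L.pz] at h1; left; exact h1
  · rw [map_inv, L.pz] at h1; right; exact h1
  · rw [map_inv, L.pz] at h1
    right
    have h2 : (g * a⁻¹ * g⁻¹)⁻¹ = a⁻¹ := by rw [h1]
    calc g * a * g⁻¹ = (g * a⁻¹ * g⁻¹)⁻¹ := by group
      _ = _ := h2
  · rw [map_inv, L.pz] at h1
    left
    have h2 : (g * a⁻¹ * g⁻¹)⁻¹ = a := by rw [h1, inv_inv]
    calc g * a * g⁻¹ = (g * a⁻¹ * g⁻¹)⁻¹ := by group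
      _ = _ := h2

theorem conj_L (L : Loc S ρ a b φ) {l l' : L0} (hl : ten l) (hl' : ten l') (h : IsConj (φ l) (φ l')) :
    ∃ g : L0, g * l = l' * g := by
  obtain ⟨g, hg⟩ := isConj_iff.mp h
  obtain ⟨x, rfl⟩ := L.mem_range_of_conj hl hl' hg
  refine ⟨x, L.inj ?_⟩
  rw [map_mul, map_mul, ← hg]; group

theorem conj_φ (φ : L0 →* G) {l l' : L0} (h : ∃ g : L0, g * l = l' * g) : IsConj (φ l) (φ l') := by
  obtain ⟨g, hg⟩ := h
  rw [isConj_iff]
  refine ⟨φ g, ?_⟩
  rw [← map_mul, hg, map_mul]; group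

theorem card_cent_L (L : Loc S ρ a b φ) {l : L0} (hl : ten l) :
    Nat.card (Subgroup.centralizer ({φ l} : Set G)) = cc l := by
  unfold cc
  rw [← Fintype.card_subtype, ← Nat.card_eq_fintype_card]
  symm
  apply Nat.card_congr
  refine Equiv.ofBijective (fun n => ⟨φ n.1, ?_⟩) ⟨?_, ?_⟩
  · rw [Subgroup.mem_centralizer_singleton_iff, ← map_mul, n.2, map_mul]
  · intro n n' h
    exact Subtype.ext (L.inj (congrArg Subtype.val h))
  · rintro ⟨x, hx⟩
    rw [Subgroup.mem_centralizer_singleton_iff] at hx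
    obtain ⟨n, rfl⟩ := L.mem_range_of_conj hl hl (g := x) (by rw [hx]; group)
    refine ⟨⟨n, L.inj ?_⟩, rfl⟩
    rw [map_mul, map_mul]; exact hx

theorem cent_z (L : Loc S ρ a b φ) : Nat.card (Subgroup.centralizer ({a} : Set G)) = 180 := by
  rw [← L.pz, L.card_cent_L ten_z, cc_vals.1]

/-- elements of the model whose fourth power is `ww` -/
def yes (τ : MM) : Prop := pow4 τ = ww

theorem yes_ww : yes ww := by unfold yes; decide
theorem yes_wq : yes wq := by unfold yes; decide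

theorem el_ww (ρ : D →* G) (a b : G) : el ρ a b ww = a * b := by
  unfold el ww co
  show a ^ 1 * b ^ 1 * ρ 1 = a * b
  rw [pow_one, pow_one, map_one, mul_one]

theorem yes_pow (L : Loc S ρ a b φ) {τ : MM} (h : yes τ) : el ρ a b τ ^ 4 = a * b := by
  rw [← L.X.pow4_el, h, el_ww]

theorem ab_mem (L : Loc S ρ a b φ) : a * b ∈ S := S.mul_mem L.X.ha L.X.hb
theorem ab_ne (L : Loc S ρ a b φ) : a * b ≠ 1 := by
  intro h
  have : co a b (1, 1) = 1 := by
    show a ^ 1 * b ^ 1 = 1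
    rw [pow_one, pow_one]; exact h
  exact absurd (L.X.co_eq_one this) (by decide)

theorem norm_of_conj (L : Loc S ρ a b φ) {τ τ' : MM} (hτ : yes τ) (hτ' : yes τ') {g : G}
    (hg : g * el ρ a b τ * g⁻¹ = el ρ a b τ') : g ∈ Subgroup.normalizer (S : Set G) := by
  apply L.cy
  rw [Subgroup.mem_centralizer_singleton_iff]
  have h1 : g * (a * b) * g⁻¹ = a * b := by
    rw [← L.yes_pow hτ, ← conj_pow, hg, L.yes_pow hτ', L.yes_pow hτ]
  calc g * (a * b) = (g * (a * b) * g⁻¹) * g := by group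
    _ = _ := by rw [h1]

theorem norm_of_inv (L : Loc S ρ a b φ) {τ : MM} (hτ : yes τ) {g : G}
    (hg : g * el ρ a b τ * g⁻¹ = (el ρ a b τ)⁻¹) : g ∈ Subgroup.normalizer (S : Set G) := by
  have h1 : g * (a * b) * g⁻¹ = (a * b)⁻¹ := by
    rw [← L.yes_pow hτ, ← conj_pow, hg, inv_pow]
  apply L.X.tis.ti L.ab_mem L.ab_ne
  · rw [h1]; exact S.inv_mem L.ab_mem
  · rw [h1]
    intro x hx
    apply L.cy
    rw [Subgroup.mem_centralizer_singleton_iff] at hx ⊢
    calc x * (a * b) = (a * b) * ((a * b)⁻¹ * x) * (a * b) := by group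
      _ = (a * b) * (x * (a * b)⁻¹) * (a * b) := by rw [hx]
      _ = _ := by group

theorem conj_model (L : Loc S ρ a b φ) {τ τ' : MM} (hτ : yes τ) (hτ' : yes τ')
    (h : IsConj (el ρ a b τ) (el ρ a b τ')) : ∃ g : MM, mulM g τ = mulM τ' g := by
  obtain ⟨g, hg⟩ := isConj_iff.mp h
  obtain ⟨n, rfl⟩ := L.X.el_surj (L.norm_of_conj hτ hτ' hg)
  refine ⟨n, L.X.el_inj ?_⟩
  rw [L.X.el_mul, L.X.el_mul]
  rw [← hg]; group

theorem card_cent (L : Loc S ρ a b φ) {τ : MM} (hτ : yes τ) :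
    Nat.card (Subgroup.centralizer ({el ρ a b τ} : Set G)) = ccnt τ := by
  unfold ccnt
  rw [← Fintype.card_subtype, ← Nat.card_eq_fintype_card]
  symm
  apply Nat.card_congr
  refine Equiv.ofBijective (fun n => ⟨el ρ a b n.1, ?_⟩) ⟨?_, ?_⟩
  · rw [Subgroup.mem_centralizer_singleton_iff, ← L.X.el_mul, n.2, L.X.el_mul]
  · intro n n' h
    exact Subtype.ext (L.X.el_inj (congrArg Subtype.val h))
  · rintro ⟨x, hx⟩
    rw [Subgroup.mem_centralizer_singleton_iff] at hx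
    have hxN : x ∈ Subgroup.normalizer (S : Set G) := L.norm_of_conj hτ hτ (by rw [hx]; group)
    obtain ⟨n, rfl⟩ := L.X.el_surj hxN
    refine ⟨⟨n, L.X.el_inj ?_⟩, rfl⟩
    rw [L.X.el_mul, L.X.el_mul]; exact hx

theorem cent_y (L : Loc S ρ a b φ) : Nat.card (Subgroup.centralizer ({a * b} : Set G)) = 18 := by
  rw [← el_ww ρ a b, L.card_cent yes_ww, ccnt_ww]

omit [Finite G] in
theorem card_cent_conj [Finite G] {x y : G} (h : IsConj x y) :
    Nat.card (Subgroup.centralizer ({x} : Set G)) = Nat.card (Subgroup.centralizer ({y} : Set G)) := by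
  have h1 := CharBasic.card_isConj_mul_card_centralizer x
  have h2 := CharBasic.card_isConj_mul_card_centralizer y
  have h3 : Nat.card {z : G // IsConj x z} = Nat.card {z : G // IsConj y z} := by
    apply Nat.card_congr
    apply Equiv.subtypeEquivRight
    intro z
    exact ⟨fun hz => h.symm.trans hz, fun hz => h.trans hz⟩
  rw [h3, ← h2] at h1
  have h4 : Nat.card {z : G // IsConj y z} ≠ 0 := by
    intro h0
    rw [h0, zero_mul] at h2
    exact Nat.card_pos.ne h2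
  exact Nat.eq_of_mul_eq_mul_left (Nat.pos_of_ne_zero h4) h1

theorem ncj_ab (L : Loc S ρ a b φ) : ¬ IsConj a (a * b) := by
  intro h
  have := card_cent_conj h
  rw [L.cent_z, L.cent_y] at this
  omega

theorem cj_ab (L : Loc S ρ a b φ) : IsConj a b := by
  rw [isConj_iff]
  exact ⟨ρ (sr 1), by rw [L.X.s1a]; group⟩

theorem real_a (L : Loc S ρ a b φ) : IsConj a a⁻¹ := by
  rw [isConj_iff]
  exact ⟨ρ (sr 0), by rw [L.X.s0a]; group⟩

theorem real_ab (L : Loc S ρ a b φ) : IsConj (a * b) (a * b)⁻¹ := by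
  rw [← el_ww ρ a b]
  exact L.X.real_model (τ := ww) (m := ((2, 2), 1)) (by decide) ⟨(0, r 2), by decide⟩

/-- the Sylow argument -/
theorem fuse (L : Loc S ρ a b φ) {s x y : G} (hs : s * s = 1) (hs1 : s ≠ 1) (hx : x ^ 3 = 1) (hx1 : x ≠ 1) (hy : y ^ 3 = 1)
    (hy1 : y ≠ 1) (hsx : s * x = x * s) (hsy : s * y = y * s) : IsConj x y ∨ IsConj x y⁻¹ := by
  have hf : Fact (Nat.Prime 3) := ⟨Nat.prime_three⟩
  set C : Subgroup G := Subgroup.centralizer ({s} : Set G) with hC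
  set x' : C := ⟨x, by rw [hC, Subgroup.mem_centralizer_singleton_iff]; exact hsx.symm⟩ with hx'
  set y' : C := ⟨y, by rw [hC, Subgroup.mem_centralizer_singleton_iff]; exact hsy.symm⟩ with hy'
  have ox : orderOf x' = 3 := orderOf_eq_prime (Subtype.ext hx) (fun h => hx1 (congrArg Subtype.val h))
  have oy : orderOf y' = 3 := orderOf_eq_prime (Subtype.ext hy) (fun h => hy1 (congrArg Subtype.val h))
  have pz : ∀ w : C, orderOf w = 3 → ∃ Q : Sylow 3 C, w ∈ Q := by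
    intro w hw
    have hz : IsPGroup 3 (Subgroup.zpowers w) := by
      rw [IsPGroup.iff_card, Nat.card_zpowers]
      exact ⟨1, by rw [hw]; rfl⟩
    obtain ⟨Q, hQ⟩ := hz.exists_le_sylow
    exact ⟨Q, hQ (Subgroup.mem_zpowers w)⟩
  obtain ⟨P1, h1⟩ := pz x' ox
  obtain ⟨P2, h2⟩ := pz y' oy
  obtain ⟨c, hc⟩ := MulAction.exists_smul_eq C P1 P2
  -- the order of `P2`
  have hcard : Nat.card P2 = 3 := by
    obtain ⟨k, hk⟩ := P2.isPGroup'.exists_card_eq
    set M : Subgroup G := (P2 : Subgroup C).map C.subtype with hM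
    have hMc : Nat.card M = 3 ^ k := by
      rw [← hk, hM]
      exact Subgroup.card_map_of_injective C.subtype_injective
    have hMp : IsPGroup 3 M := IsPGroup.of_card hMc
    obtain ⟨Q, hQ⟩ := hMp.exists_le_sylow
    obtain ⟨P, hP⟩ := L.X.tis.sylow
    have hQc : Nat.card Q = 9 := by
      rw [Sylow.card_eq_multiplicity Q, ← Sylow.card_eq_multiplicity P]
      show Nat.card (P : Subgroup G) = 9
      rw [hP, L.X.card_S]
    have hk2 : 3 ^ k ∣ 9 := by
      rw [← hMc, ← hQc]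
      exact Subgroup.card_dvd_of_le hQ
    have hk3 : k ≤ 2 := by
      have : 3 ^ k ≤ 3 ^ 2 := Nat.le_of_dvd (by norm_num) hk2
      exact (Nat.pow_le_pow_iff_right (by norm_num)).mp this
    have hk1 : k ≠ 0 := by
      rintro rfl
      have h5 : Nat.card P2 = 1 := by rw [hk]; rfl
      have h6 : (⟨y', h2⟩ : P2) = 1 := by
        have : Subsingleton P2 := (Nat.card_eq_one_iff_unique.mp h5).1
        exact Subsingleton.elim _ _
      exact hy1 (congrArg (fun w : P2 => ((w : C) : G)) h6)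
    have hk4 : k ≠ 2 := by
      rintro rfl
      have h5 : M = Q := Subgroup.eq_of_le_of_card_ge hQ (by rw [hMc]; exact hQc.le)
      obtain ⟨g, hg⟩ := MulAction.exists_smul_eq G Q P
      have hsQ : ∀ q ∈ (Q : Subgroup G), s * q = q * s := by
        intro q hq
        rw [← h5] at hq
        obtain ⟨w, -, rfl⟩ := hq
        exact (Subgroup.mem_centralizer_singleton_iff.mp (show (w : G) ∈ Subgroup.centralizer ({s} : Set G) from w.2)).symm
      have h6 : g * s * g⁻¹ ∈ S := by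
        apply L.X.CS
        rw [Subgroup.mem_centralizer_iff]
        intro t ht
        rw [← hP, ← hg] at ht
        have h7 : g⁻¹ * t * g ∈ (Q : Subgroup G) := by
          have h8 := Subgroup.mem_pointwise_smul_iff_inv_smul_mem.mp (show t ∈ (MulAut.conj g • (Q : Subgroup G)) from ht)
          have h9 : (MulAut.conj g)⁻¹ • t = g⁻¹ * t * g := by
            show (MulAut.conj g)⁻¹ t = _
            rw [← map_inv, MulAut.conj_apply, inv_inv]
          rwa [h9] at h8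
        have h8 := hsQ _ h7
        calc t * (g * s * g⁻¹) = g * ((g⁻¹ * t * g) * s) * g⁻¹ := by group
          _ = g * (s * (g⁻¹ * t * g)) * g⁻¹ := by rw [h8]
          _ = _ := by group
      have h7 := L.X.tis.exp _ h6
      have h8 : (g * s * g⁻¹) * (g * s * g⁻¹) = 1 := by
        calc (g * s * g⁻¹) * (g * s * g⁻¹) = g * (s * s) * g⁻¹ := by group
          _ = 1 := by rw [hs]; group
      rw [pow_succ, sq, h8, one_mul] at h7
      exact hs1 (conj_eq_one_iff.mp h7)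
    have : k = 1 := by omega
    rw [hk, this]; rfl
  have h3 : c * x' * c⁻¹ ∈ (P2 : Subgroup C) := by
    rw [← hc]
    show _ ∈ (MulAut.conj c • (P1 : Subgroup C))
    rw [Subgroup.mem_pointwise_smul_iff_inv_smul_mem]
    show (MulAut.conj c)⁻¹ (c * x' * c⁻¹) ∈ (P1 : Subgroup C)
    rw [← map_inv, MulAut.conj_apply]
    have : c⁻¹ * (c * x' * c⁻¹) * (c⁻¹)⁻¹ = x' := by group
    rw [this]
    exact h1
  -- both generate
  have hy1' : (⟨y', h2⟩ : P2) ≠ 1 := fun h => hy1 (congrArg (fun w : P2 => ((w : C) : G)) h)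
  have h4 := mem_zpowers_of_prime_card hcard hy1' (g' := (⟨c * x' * c⁻¹, h3⟩ : P2))
  obtain ⟨k, hk⟩ := Subgroup.mem_zpowers_iff.mp h4
  have hk' : y ^ k = (c : G) * x * (c : G)⁻¹ := congrArg (fun w : P2 => ((w : C) : G)) hk
  have oy' : orderOf y = 3 := orderOf_eq_prime hy hy1
  have hmod := zpow_mod_orderOf y k
  rw [oy'] at hmod
  have h6 : k % 3 = 0 ∨ k % 3 = 1 ∨ k % 3 = 2 := by omega
  rcases h6 with h6 | h6 | h6
  · exfalso
    rw [← hmod] at hk'
    push_cast at hk'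
    rw [h6, zpow_zero] at hk'
    exact hx1 (conj_eq_one_iff.mp hk'.symm)
  · left
    rw [← hmod] at hk'
    push_cast at hk'
    rw [h6, zpow_one] at hk'
    exact isConj_iff.mpr ⟨c, hk'.symm⟩
  · right
    rw [← hmod] at hk'
    push_cast at hk'
    rw [h6] at hk'
    have h9 : y ^ (2 : ℤ) = y⁻¹ := by
      rw [eq_inv_iff_mul_eq_one]
      have h9 : y ^ (2 : ℤ) = y ^ 2 := by norm_cast
      rw [h9, ← pow_succ, hy]
    rw [h9] at hk'
    exact isConj_iff.mpr ⟨c, hk'.symm⟩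

theorem not_q_r (L : Loc S ρ a b φ) : ¬ IsConj (ρ (sr 1)) (ρ (sr 0)) := by
  intro h
  obtain ⟨g, hg⟩ := isConj_iff.mp h
  have hqq : ρ (sr 1) * (a * b) = a * b * ρ (sr 1) := by
    rw [← mul_assoc, L.X.s1a, mul_assoc, L.X.s1b, ← mul_assoc, L.X.ab]
  have hr : ρ (sr 0) * ρ (sr 0) = 1 ∧ ρ (sr 0) ≠ 1 := by
    rw [← Wr.el_zero ρ a b]
    exact (L.X.el_invo _).mpr (by decide)
  have h1 := L.fuse (s := ρ (sr 0)) (x := b) (y := g * (a * b) * g⁻¹) hr.1 hr.2 L.X.b3 L.X.hb1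
    (by rw [conj_pow, L.X.tis.exp _ L.ab_mem]; group) (fun h => L.ab_ne (conj_eq_one_iff.mp h)) L.X.s0b
    (by
      rw [← hg]
      calc g * ρ (sr 1) * g⁻¹ * (g * (a * b) * g⁻¹) = g * (ρ (sr 1) * (a * b)) * g⁻¹ := by group
        _ = g * (a * b * ρ (sr 1)) * g⁻¹ := by rw [hqq]
        _ = _ := by group)
  have h2 : IsConj (g * (a * b) * g⁻¹) (a * b) := (isConj_iff.mpr ⟨g, rfl⟩ : IsConj (a * b) (g * (a * b) * g⁻¹)).symm
  have h3 : IsConj (g * (a * b) * g⁻¹)⁻¹ (a * b) := by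
    have : (g * (a * b) * g⁻¹)⁻¹ = g * (a * b)⁻¹ * g⁻¹ := by group
    rw [this]
    exact (IsConj.trans L.real_ab (isConj_iff.mpr ⟨g, rfl⟩)).symm
  rcases h1 with h1 | h1
  · exact L.ncj_ab (L.cj_ab.trans (h1.trans h2))
  · exact L.ncj_ab (L.cj_ab.trans (h1.trans h3))

/-- all involutions of the local subgroup are conjugate to `ρ (r 2)` -/
theorem invo_r (L : Loc S ρ a b φ) {x : L0} (h : x * x = 1) (h1 : x ≠ 1) : IsConj (ρ (r 2)) (φ x) := by
  have e0 : ρ (sr 0) ∈ φ.range := L.norm _ (Or.inr (by rw [L.X.s0a]; group))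
  have e2 : ρ (sr 2) ∈ φ.range := L.norm _ (Or.inl (by rw [L.X.s2a]; group))
  have er : ρ (r 2) ∈ φ.range := by
    rw [← rel2, map_mul]; exact mul_mem e0 e2
  have inv : ∀ e : D, invo (0, e) = true → ρ e * ρ e = 1 ∧ ρ e ≠ 1 := by
    intro e he
    rw [← Wr.el_zero ρ a b]
    exact (L.X.el_invo _).mpr he
  obtain ⟨s0, hs0⟩ := e0
  obtain ⟨s2, hs2⟩ := e2
  obtain ⟨r2, hr2⟩ := er
  have hne : ∀ (e : D) (s : L0), invo (0, e) = true → φ s = ρ e → s * s = 1 ∧ s ≠ 1 := by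
    intro e s he hs
    have h3 := inv e he
    rw [← hs] at h3
    exact ⟨L.inj (by rw [map_mul, h3.1, map_one]), fun h => h3.2 (by rw [h, map_one])⟩
  have k0 := hne (sr 0) s0 (by decide) hs0
  have k2 := hne (sr 2) s2 (by decide) hs2
  have kr := hne (r 2) r2 (by decide) hr2
  have inv_ne : a⁻¹ ≠ a := inv_ne' L.X.tis L.X.ha L.X.ha1
  have c0 : s0 * zL ≠ zL * s0 := by
    intro h
    have h3 : ρ (sr 0) * a = a * ρ (sr 0) := by rw [← hs0, ← L.pz, ← map_mul, h, map_mul]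
    rw [L.X.s0a] at h3
    exact inv_ne (mul_right_cancel h3)
  have c2 : s2 * zL = zL * s2 := L.inj (by rw [map_mul, map_mul, hs2, L.pz]; exact L.X.s2a)
  have cr : r2 * zL ≠ zL * r2 := by
    intro h
    have h3 : ρ (r 2) * a = a * ρ (r 2) := by rw [← hr2, ← L.pz, ← map_mul, h, map_mul]
    rw [← rel2, map_mul, mul_assoc, L.X.s2a, ← mul_assoc, L.X.s0a, mul_assoc] at h3
    exact inv_ne (mul_right_cancel h3)
  have i0 : IsConj (ρ (sr 0)) (φ sL) := by
    rcases invo_L s0 k0.1 k0.2 with h3 | h3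
    · exact absurd h3.1 c0
    · rw [← hs0]; exact conj_φ φ h3.2
  have ir : IsConj (ρ (r 2)) (φ sL) := by
    rcases invo_L r2 kr.1 kr.2 with h3 | h3
    · exact absurd h3.1 cr
    · rw [← hr2]; exact conj_φ φ h3.2
  have i2 : IsConj (ρ (sr 2)) (φ tL) := by
    rcases invo_L s2 k2.1 k2.2 with h3 | h3
    · rw [← hs2]; exact conj_φ φ h3.2
    · exact absurd c2 h3.1
  have i02 : IsConj (ρ (sr 0)) (ρ (sr 2)) := by
    rw [isConj_iff]
    refine ⟨ρ (r 3), ?_⟩
    rw [← map_mul, ← map_inv, ← map_mul]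
    congr 1
  rcases invo_L x h h1 with h3 | h3
  · exact ir.trans (i0.symm.trans (i02.trans (i2.trans (conj_φ φ h3.2).symm)))
  · exact ir.trans (conj_φ φ h3.2).symm

theorem invo_r' (L : Loc S ρ a b φ) : IsConj (ρ (r 2)) (ρ (sr 0)) := by
  have e0 : ρ (sr 0) ∈ φ.range := L.norm _ (Or.inr (by rw [L.X.s0a]; group))
  obtain ⟨s0, hs0⟩ := e0
  have h3 : ρ (sr 0) * ρ (sr 0) = 1 ∧ ρ (sr 0) ≠ 1 := by
    rw [← Wr.el_zero ρ a b]
    exact (L.X.el_invo _).mpr (by decide)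
  rw [← hs0] at h3 ⊢
  exact L.invo_r (L.inj (by rw [map_mul, h3.1, map_one])) (fun h => h3.2 (by rw [h, map_one]))

theorem not_q_z (L : Loc S ρ a b φ) : ¬ IsConj (ρ (sr 1)) (ρ (r 2)) := fun h => L.not_q_r (h.trans L.invo_r')

end Loc

end Cfsg.Agent.Lib.H25X
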