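import Cfsg.Agent.Lib.H25Xe
import Cfsg.Agent.Lib.H25Wi
import Cfsg.Agent.Lib.H25Wm

/-!
# Counting and orthogonality for `A₈` (helper25)
-/

set_option autoImplicit false
set_option linter.all false
set_option maxHeartbeats 1000000
set_option synthInstance.maxHeartbeats 400000

namespace Cfsg.Agent.Lib.H25X

open Cfsg Cfsg.Agent.Lib.CharBasic Cfsg.Agent.Lib.H25Nine Cfsg.Agent.Lib.H25W Cfsg.Agent.Lib.BlockRing DihedralGroup
open scoped ComplexConjugate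

universe u

variable {G : Type u} [Group G]

namespace Loc

variable {S : Subgroup G} {ρ : D →* G} {a b : G} {φ : L0 →* G} [Finite G]

theorem Xq_invo (L : Loc S ρ a b φ) : ∀ x ∈ Wr.Xq ρ, x * x = 1 ∧ x ≠ 1 := by
  rintro x hx
  obtain ⟨g, rfl⟩ := isConj_iff.mp hx
  have h1 : (ρ (sr 1)) * ρ (sr 1) = 1 ∧ ρ (sr 1) ≠ 1 := by
    rw [← Wr.el_zero ρ a b]
    exact (L.X.el_invo _).mpr (by decide)
  constructor
  · calc g * ρ (sr 1) * g⁻¹ * (g * ρ (sr 1) * g⁻¹) = g * (ρ (sr 1) * ρ (sr 1)) * g⁻¹ := by group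
      _ = 1 := by rw [h1.1]; group
  · intro h
    exact h1.2 (conj_eq_one_iff.mp h)

theorem Xz_invo (L : Loc S ρ a b φ) : ∀ x ∈ Wr.Xz ρ, x * x = 1 ∧ x ≠ 1 := by
  have key : ∀ e : D, invo (0, e) = true → ∀ x, IsConj (ρ e) x → x * x = 1 ∧ x ≠ 1 := by
    intro e he x hx
    obtain ⟨g, rfl⟩ := isConj_iff.mp hx
    have h1 : (ρ e) * ρ e = 1 ∧ ρ e ≠ 1 := by
      rw [← Wr.el_zero ρ a b]
      exact (L.X.el_invo _).mpr he
    constructor
    · calc g * ρ e * g⁻¹ * (g * ρ e * g⁻¹) = g * (ρ e * ρ e) * g⁻¹ := by group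
        _ = 1 := by rw [h1.1]; group
    · intro h
      exact h1.2 (conj_eq_one_iff.mp h)
  rintro x (hx | hx)
  · exact key _ (by decide) x hx
  · exact key _ (by decide) x hx

theorem Xz_mem (L : Loc S ρ a b φ) {x : G} : x ∈ Wr.Xz ρ ↔ IsConj (ρ (r 2)) x := by
  constructor
  · rintro (h | h)
    · exact L.invo_r'.trans h
    · exact h
  · exact Or.inr

theorem Xq_iff (L : Loc S ρ a b φ) (n : MM) (hn : invo n = true) :
    el ρ a b n ∈ Wr.Xq ρ ↔ tq n = true := by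
  constructor
  · intro h
    rcases invo_type n hn with h1 | h1 | h1
    · exact h1
    · exfalso
      have h2 := L.X.el_conj (conj_r n hn h1)
      rw [Wr.el_zero] at h2
      exact L.not_q_r (IsConj.trans h h2.symm)
    · exfalso
      have h2 := L.X.el_conj (conj_z n hn h1)
      rw [Wr.el_zero] at h2
      exact L.not_q_z (IsConj.trans h h2.symm)
  · intro h
    have h2 := L.X.el_conj (conj_q n hn h)
    rw [Wr.el_zero] at h2
    exact h2

theorem Xz_iff (L : Loc S ρ a b φ) (n : MM) (hn : invo n = true) :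
    el ρ a b n ∈ Wr.Xz ρ ↔ tz n = true := by
  rw [tz_iff]
  constructor
  · intro h
    rcases invo_type n hn with h1 | h1
    · exfalso
      have h2 := L.X.el_conj (conj_q n hn h1)
      rw [Wr.el_zero] at h2
      rcases h with h | h
      · exact L.not_q_r (IsConj.trans h2 h.symm)
      · exact L.not_q_z (IsConj.trans h2 h.symm)
    · exact h1
  · rintro (h | h)
    · have h2 := L.X.el_conj (conj_r n hn h)
      rw [Wr.el_zero] at h2
      exact Or.inl h2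
    · have h2 := L.X.el_conj (conj_z n hn h)
      rw [Wr.el_zero] at h2
      exact Or.inr h2

/-- counting products in a `G`-invariant family of involutions -/
theorem count (L : Loc S ρ a b φ) {τ : MM} (hτ : yes τ) (A B : Set G) (f g : MM → Bool)
    (hA : ∀ x ∈ A, x * x = 1 ∧ x ≠ 1) (hB : ∀ x ∈ B, x * x = 1 ∧ x ≠ 1)
    (hf : ∀ n, invo n = true → (el ρ a b n ∈ A ↔ f n = true)) (hg : ∀ n, invo n = true → (el ρ a b n ∈ B ↔ g n = true)) :
    Nat.card {x : G // x ∈ A ∧ x⁻¹ * el ρ a b τ ∈ B} = cnt f g τ := by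
  unfold cnt
  rw [← Fintype.card_subtype, ← Nat.card_eq_fintype_card]
  symm
  have hmem : ∀ n, el ρ a b n ∈ A ↔ (invo n = true ∧ f n = true) := by
    intro n
    constructor
    · intro h
      have h1 := (L.X.el_invo n).mp (hA _ h)
      exact ⟨h1, (hf n h1).mp h⟩
    · rintro ⟨h1, h2⟩
      exact (hf n h1).mpr h2
  have hmem' : ∀ n, el ρ a b n ∈ B ↔ (invo n = true ∧ g n = true) := by
    intro n
    constructor
    · intro h
      have h1 := (L.X.el_invo n).mp (hB _ h)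
      exact ⟨h1, (hg n h1).mp h⟩
    · rintro ⟨h1, h2⟩
      exact (hg n h1).mpr h2
  have hinv : ∀ n, el ρ a b n ∈ A → (el ρ a b n)⁻¹ = el ρ a b n := by
    intro n h
    rw [inv_eq_iff_mul_eq_one]
    exact (hA _ h).1
  apply Nat.card_congr
  refine Equiv.ofBijective (fun n => ⟨el ρ a b n.1, ?_⟩) ⟨?_, ?_⟩
  · have hn := n.2
    simp only [Bool.and_eq_true] at hn
    have h1 := (hmem n.1).mpr hn.1
    refine ⟨h1, ?_⟩
    rw [hinv _ h1, ← L.X.el_mul]
    exact (hmem' _).mpr hn.2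
  · intro n n' h
    exact Subtype.ext (L.X.el_inj (congrArg Subtype.val h))
  · rintro ⟨x, hx, hy⟩
    have hxi : x⁻¹ = x := by rw [inv_eq_iff_mul_eq_one]; exact (hA x hx).1
    have hxN : x ∈ Subgroup.normalizer (S : Set G) := by
      apply L.norm_of_inv hτ
      have h2 := (hB _ hy).1
      rw [hxi] at h2 ⊢
      rw [eq_inv_iff_mul_eq_one]
      rw [← h2]; group
    obtain ⟨n, rfl⟩ := L.X.el_surj hxN
    refine ⟨⟨n, ?_⟩, rfl⟩
    simp only [Bool.and_eq_true]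
    refine ⟨(hmem n).mp hx, (hmem' _).mp ?_⟩
    rw [L.X.el_mul, ← hinv n hx]
    exact hy

theorem inv_range (L : Loc S ρ a b φ) {l : L0} (hl : ten l) {x : G} (hx : x * x = 1)
    (hy : (x⁻¹ * φ l) * (x⁻¹ * φ l) = 1) : x ∈ φ.range := by
  have hxi : x⁻¹ = x := by rw [inv_eq_iff_mul_eq_one]; exact hx
  apply L.mem_range_of_conj hl (ten_inv hl)
  rw [map_inv, hxi, eq_inv_iff_mul_eq_one]
  rw [hxi] at hy
  rw [← hy]; group

theorem count_zz_L (L : Loc S ρ a b φ) {l : L0} (hl : ten l) :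
    Nat.card {x : G // x ∈ Wr.Xz ρ ∧ x⁻¹ * φ l ∈ Wr.Xz ρ} = ic l := by
  unfold ic
  rw [← Fintype.card_coe, ← Nat.card_eq_fintype_card]
  symm
  apply Nat.card_congr
  refine Equiv.ofBijective (fun n => ⟨φ n.1, ?_⟩) ⟨?_, ?_⟩
  · obtain ⟨⟨h1, h2⟩, h3, h4⟩ := (Finset.mem_filter.mp n.2).2
    refine ⟨Or.inr (L.invo_r h1 h2), ?_⟩
    rw [← map_inv, ← map_mul]
    exact Or.inr (L.invo_r h3 h4)
  · intro n n' h
    exact Subtype.ext (L.inj (congrArg Subtype.val h))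
  · rintro ⟨x, hx, hy⟩
    have h1 := L.Xz_invo _ hx
    have h2 := L.Xz_invo _ hy
    obtain ⟨n, rfl⟩ := L.inv_range hl h1.1 h2.1
    rw [← map_inv, ← map_mul] at h2
    refine ⟨⟨n, Finset.mem_filter.mpr ⟨Finset.mem_univ _, ⟨L.inj (by rw [map_mul, h1.1, map_one]), fun h => h1.2 (by rw [h, map_one])⟩,
      L.inj (by rw [map_mul, h2.1, map_one]), fun h => h2.2 (by rw [h, map_one])⟩⟩, rfl⟩

theorem count_q_L (L : Loc S ρ a b φ) {l : L0} (hl : ten l) (B : Set G) (hB : ∀ x ∈ B, x * x = 1 ∧ x ≠ 1) :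
    Nat.card {x : G // x ∈ Wr.Xq ρ ∧ x⁻¹ * φ l ∈ B} = 0 := by
  rw [Nat.card_eq_zero]
  left
  constructor
  rintro ⟨x, hx, hy⟩
  have h1 := L.Xq_invo _ hx
  obtain ⟨n, rfl⟩ := L.inv_range hl h1.1 (hB _ hy).1
  have h2 := L.invo_r (x := n) (L.inj (by rw [map_mul, h1.1, map_one])) (fun h => h1.2 (by rw [h, map_one]))
  exact L.not_q_z (IsConj.trans hx h2.symm)

/-- the six columns -/
def col (ρ : D →* G) (a b : G) (φ : L0 →* G) : Fin 6 → G :=
  ![φ zL, φ (zL * tL), φ (zL * fL), φ (zL * (fL * fL)), el ρ a b ww, el ρ a b wq]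

def ccn : Fin 6 → ℕ := ![180, 12, 15, 15, 18, 6]

theorem col_pow (L : Loc S ρ a b φ) : (φ zL) ^ 10 = a ∧ (φ (zL * tL)) ^ 10 = a ∧ (φ (zL * fL)) ^ 10 = a ∧
    (φ (zL * (fL * fL))) ^ 10 = a ∧ (el ρ a b ww) ^ 10 = a * b ∧ (el ρ a b wq) ^ 10 = a * b := by
  obtain ⟨h1, h2, h3, h4⟩ := pow_vals
  have hm : ∀ τ : MM, (el ρ a b τ) ^ 10 = el ρ a b (mulM (mulM (pow4 τ) (pow4 τ)) (mulM τ τ)) := by
    intro τ
    rw [L.X.el_mul, L.X.el_mul, L.X.el_mul, L.X.pow4_el, ← pow_add, ← sq, ← pow_add]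
  refine ⟨?_, ?_, ?_, ?_, ?_, ?_⟩
  · rw [← map_pow, h1, L.pz]
  · rw [← map_pow, h2, L.pz]
  · rw [← map_pow, h3, L.pz]
  · rw [← map_pow, h4, L.pz]
  · rw [hm, ← el_ww ρ a b]; exact congrArg _ (by decide)
  · rw [hm, ← el_ww ρ a b]; exact congrArg _ (by decide)

theorem ncj_of_pow {x y : G} (n : ℕ) (h : ¬ IsConj (x ^ n) (y ^ n)) : ¬ IsConj x y := by
  intro h'
  apply h
  obtain ⟨g, hg⟩ := isConj_iff.mp h'
  exact isConj_iff.mpr ⟨g, by rw [← conj_pow, hg]⟩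

theorem ncj_ten (L : Loc S ρ a b φ) {l l' : L0} (hl : ten l) (hl' : ten l') (h : ∀ g : L0, g * l ≠ l' * g) :
    ¬ IsConj (φ l) (φ l') := by
  intro h'
  obtain ⟨g, hg⟩ := L.conj_L hl hl' h'
  exact h g hg

theorem ncj_L : (∀ g : L0, g * zL ≠ (zL * tL) * g) ∧ (∀ g : L0, g * zL ≠ (zL * fL) * g) ∧ (∀ g : L0, g * zL ≠ (zL * (fL * fL)) * g) ∧
    (∀ g : L0, g * (zL * tL) ≠ (zL * fL) * g) ∧ (∀ g : L0, g * (zL * tL) ≠ (zL * (fL * fL)) * g) := by
  have key : ∀ (x y : L0) (n : ℕ), x ^ n = 1 → y ^ n ≠ 1 → ∀ g : L0, g * x ≠ y * g := by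
    intro x y n h1 h2 g hg
    apply h2
    have : y = g * x * g⁻¹ := by rw [hg]; group
    rw [this, conj_pow, h1]; group
  have key' : ∀ (x y : L0) (n : ℕ), x ^ n ≠ 1 → y ^ n = 1 → ∀ g : L0, g * x ≠ y * g := by
    intro x y n h1 h2 g hg
    apply h1
    have : x = g⁻¹ * y * (g⁻¹)⁻¹ := by rw [inv_inv, mul_assoc, ← hg]; group
    rw [this, conj_pow, h2]; group
  refine ⟨key _ _ 3 (by decide) (by decide), key _ _ 3 (by decide) (by decide), key _ _ 3 (by decide) (by decide),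
    key _ _ 6 (by decide) (by decide), key _ _ 6 (by decide) (by decide)⟩

end Loc

end Cfsg.Agent.Lib.H25X
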