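import Cfsg.Agent.Lib.H25Xf
import Cfsg.Agent.Lib.CharBasic2

/-!
# The six columns for `A₈` (helper25)
-/

set_option autoImplicit false
set_option linter.all false
set_option maxHeartbeats 1000000
set_option synthInstance.maxHeartbeats 400000

namespace Cfsg.Agent.Lib.H25X

open Cfsg Cfsg.Agent.Lib.CharBasic Cfsg.Agent.Lib.H25Nine Cfsg.Agent.Lib.H25W Cfsg.Agent.Lib.BlockRing DihedralGroup
open scoped ComplexConjugate

universe u

variable {G : Type u} [Group G]

namespace Loc

variable {S : Subgroup G} {ρ : D →* G} {a b : G} {φ : L0 →* G} [Finite G]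

theorem col_ncj (L : Loc S ρ a b φ) : ∀ i j : Fin 6, i < j → ¬ IsConj (col ρ a b φ i) (col ρ a b φ j) := by
  obtain ⟨p0, p1, p2, p3, p4, p5⟩ := L.col_pow
  obtain ⟨n1, n2, n3, n4, n5⟩ := ncj_L
  have hab := L.ncj_ab
  have c01 := L.ncj_ten ten_z ten_t n1
  have c02 := L.ncj_ten ten_z ten_f n2
  have c03 := L.ncj_ten ten_z ten_ff n3
  have c12 := L.ncj_ten ten_t ten_f n4
  have c13 := L.ncj_ten ten_t ten_ff n5
  have c23 := L.ncj_ten ten_f ten_ff ncj_f
  have cz : ∀ x y : G, x ^ 10 = a → y ^ 10 = a * b → ¬ IsConj x y := by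
    intro x y hx hy
    apply ncj_of_pow 10
    rw [hx, hy]; exact hab
  have c45 : ¬ IsConj (el ρ a b ww) (el ρ a b wq) := by
    intro h
    obtain ⟨g, hg⟩ := L.conj_model yes_ww yes_wq h
    exact nc_ww_wq g hg
  intro i j hij
  fin_cases i <;> fin_cases j <;> first | (exfalso; revert hij; decide) | exact c01 | exact c02 | exact c03 | exact c12 | exact c13 | exact c23 | exact c45 | exact cz _ _ p0 p4 | exact cz _ _ p1 p4 | exact cz _ _ p2 p4 | exact cz _ _ p3 p4 | exact cz _ _ p0 p5 | exact cz _ _ p1 p5 | exact cz _ _ p2 p5 | exact cz _ _ p3 p5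

theorem col_cent (L : Loc S ρ a b φ) : ∀ i : Fin 6, Nat.card (Subgroup.centralizer ({col ρ a b φ i} : Set G)) = ccn i := by
  obtain ⟨v1, v2, v3, v4⟩ := cc_vals
  intro i
  fin_cases i
  · show Nat.card (Subgroup.centralizer ({φ zL} : Set G)) = 180
    rw [L.card_cent_L ten_z, v1]
  · show Nat.card (Subgroup.centralizer ({φ (zL * tL)} : Set G)) = 12
    rw [L.card_cent_L ten_t, v2]
  · show Nat.card (Subgroup.centralizer ({φ (zL * fL)} : Set G)) = 15
    rw [L.card_cent_L ten_f, v3]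
  · show Nat.card (Subgroup.centralizer ({φ (zL * (fL * fL))} : Set G)) = 15
    rw [L.card_cent_L ten_ff, v4]
  · show Nat.card (Subgroup.centralizer ({el ρ a b ww} : Set G)) = 18
    rw [L.card_cent yes_ww, ccnt_ww]
  · show Nat.card (Subgroup.centralizer ({el ρ a b wq} : Set G)) = 6
    rw [L.card_cent yes_wq, ccnt_wq]

theorem col_orth (L : Loc S ρ a b φ) (i j : Fin 6) : ∑ χ : IrrCharacter G, (χ : G → ℂ) (col ρ a b φ i) * conj ((χ : G → ℂ) (col ρ a b φ j)) =
    if i = j then (ccn i : ℂ) else 0 := by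
  have h1 := column_orthogonality (col ρ a b φ i) (col ρ a b φ j)
  rw [h1]
  by_cases h : i = j
  · subst h
    rw [if_pos rfl, if_pos (IsConj.refl _), L.col_cent]
  · rw [if_neg h, if_neg]
    rcases lt_or_gt_of_ne h with h2 | h2
    · exact L.col_ncj i j h2
    · intro h3
      exact L.col_ncj j i h2 h3.symm

end Loc

/-- combinations of orthogonal columns -/
theorem comb {ι κ : Type*} [Fintype ι] [Fintype κ] [DecidableEq κ] (Z : κ → ι → ℂ) (P : κ → ℂ)
    (horth : ∀ i j, ∑ x, Z i x * conj (Z j x) = if i = j then P i else 0) (α β : κ → ℂ) :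
    ∑ x, (∑ i, α i * Z i x) * conj (∑ j, β j * Z j x) = ∑ i, α i * conj (β i) * P i := by
  have h1 : ∀ x, (∑ i, α i * Z i x) * conj (∑ j, β j * Z j x) = ∑ i, ∑ j, α i * conj (β j) * (Z i x * conj (Z j x)) := by
    intro x
    rw [map_sum, Finset.sum_mul]
    apply Finset.sum_congr rfl
    intro i _
    rw [Finset.mul_sum]
    apply Finset.sum_congr rfl
    intro j _
    rw [map_mul]; ring
  rw [Finset.sum_congr rfl fun x _ => h1 x, Finset.sum_comm]
  apply Finset.sum_congr rfl
  intro i _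
  rw [Finset.sum_comm]
  have h2 : ∀ j, ∑ x, α i * conj (β j) * (Z i x * conj (Z j x)) = if i = j then α i * conj (β j) * P i else 0 := by
    intro j
    rw [← Finset.mul_sum, horth]
    split_ifs <;> simp
  rw [Finset.sum_congr rfl fun j _ => h2 j, Finset.sum_ite_eq]
  simp

/-- multiplicities of linear characters -/
theorem lin_mult {M : Type*} [Group M] [Fintype M] (ψ : M →* G) (l : M →* ℂˣ) {χ : G → ℂ} (hχ : IsCharacter G χ) :
    ∃ n : ℕ, ∑ m, χ (ψ m) * conj (l m : ℂ) = Fintype.card M * n := by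
  have h1 : IsCharacter M (fun m => (l m : ℂ)) := by
    exact isCharacter_of_unitsHom l
  obtain ⟨n, hn⟩ := (hχ.comp ψ).classInner_nat h1
  refine ⟨n, ?_⟩
  rw [← hn, classInner_def, Nat.card_eq_fintype_card]
  have hcard : (Fintype.card M : ℂ) ≠ 0 := by exact_mod_cast Fintype.card_pos.ne'
  rw [← mul_assoc, mul_inv_cancel₀ hcard, one_mul]

end Cfsg.Agent.Lib.H25X
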