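import Cfsg.Agent.Lib.H25Xg

/-!
# Integrality of averages (helper25)
-/

set_option autoImplicit false
set_option linter.all false
set_option maxHeartbeats 1000000
set_option synthInstance.maxHeartbeats 400000

namespace Cfsg.Agent.Lib.H25X

open Cfsg Cfsg.Agent.Lib.CharBasic Cfsg.Agent.Lib.H25Nine Cfsg.Agent.Lib.H25W Cfsg.Agent.Lib.BlockRing DihedralGroup
open scoped ComplexConjugate

universe u

variable {G : Type u} [Group G] [Finite G]

theorem pow_val_add' {M : Type*} [Monoid M] {c : M} {n : ℕ} [NeZero n] (hc : c ^ n = 1) (x y : ZMod n) :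
    c ^ (x + y).val = c ^ x.val * c ^ y.val := by
  rw [← pow_add, ZMod.val_add]
  conv_rhs => rw [← Nat.mod_add_div (x.val + y.val) n, pow_add, pow_mul, hc, one_pow, mul_one]

/-- homomorphisms from cyclic groups -/
def cyc {M : Type*} [Monoid M] (n : ℕ) [NeZero n] (c : M) (hc : c ^ n = 1) : Multiplicative (ZMod n) →* M where
  toFun i := c ^ (Multiplicative.toAdd i).val
  map_one' := by
    show c ^ (0 : ZMod n).val = 1
    rw [ZMod.val_zero, pow_zero]
  map_mul' := fun x y => pow_val_add' hc _ _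

def R : Fin 4 → L0 := ![zL, zL * tL, zL * fL, zL * (fL * fL)]

theorem exists_omega : ∃ w : ℂˣ, w ^ 3 = 1 ∧ 1 + (w : ℂ) + (w : ℂ) * w = 0 ∧ conj (w : ℂ) = (w : ℂ) * w := by
  have hζ : IsPrimitiveRoot (Complex.exp (2 * Real.pi * Complex.I / (3 : ℕ))) 3 :=
    Complex.isPrimitiveRoot_exp 3 (by norm_num)
  set z := Complex.exp (2 * Real.pi * Complex.I / (3 : ℕ)) with hz
  have h3 : z ^ 3 = 1 := hζ.pow_eq_one
  have hne : z ≠ 1 := hζ.ne_one (by norm_num)
  have hz0 : z ≠ 0 := Complex.exp_ne_zero _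
  have hs : 1 + z + z * z = 0 := by
    have h : (z - 1) * (1 + z + z * z) = 0 := by linear_combination h3
    rcases mul_eq_zero.mp h with h | h
    · exact absurd (sub_eq_zero.mp h) hne
    · exact h
  refine ⟨Units.mk0 z hz0, ?_, hs, ?_⟩
  · apply Units.ext
    push_cast
    exact h3
  · show conj z = z * z
    have hn : ‖z‖ = 1 := by
      have : ‖z‖ ^ 3 = 1 := by rw [← norm_pow, h3, norm_one]
      exact (pow_eq_one_iff_of_nonneg (norm_nonneg _) (by norm_num)).mp this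
    have h1 : z * conj z = 1 := by
      rw [Complex.mul_conj, Complex.normSq_eq_norm_sq, hn]; norm_num
    have h2 : z * (z * z) = 1 := by rw [← h3]; ring
    exact mul_left_cancel₀ hz0 (h1.trans h2.symm)

theorem sum_idx {K : Type*} [Fintype K] (idx : K → Fin 4) (e : K → ℤ) (F : Fin 4 → ℂ) :
    ∑ k, (e k : ℂ) * F (idx k) = ∑ j, ((∑ k ∈ Finset.univ.filter (fun k => idx k = j), e k : ℤ) : ℂ) * F j := by
  rw [← Finset.sum_fiberwise (s := Finset.univ) (g := idx) (f := fun k => (e k : ℂ) * F (idx k))]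
  apply Finset.sum_congr rfl
  intro j _
  push_cast
  rw [Finset.sum_mul]
  apply Finset.sum_congr rfl
  intro k hk
  rw [(Finset.mem_filter.mp hk).2]

theorem avg {K : Type*} [Group K] [Fintype K] (φ : L0 →* G) (κ : K →* L0) (hκ : ∀ k, κ k * zL = zL * κ k) (ε : K →* ℤˣ)
    (idx idx' : K → Fin 4)
    (h : ∀ k, ∃ g : L0, g * (zL * κ k) = R (idx k) * g) (h' : ∀ k, ∃ g : L0, g * (zL * zL * κ k) = R (idx' k) * g)
    (hc : ∀ j, ∑ k ∈ Finset.univ.filter (fun k => idx k = j), ((ε k : ℤˣ) : ℤ) = ∑ k ∈ Finset.univ.filter (fun k => idx' k = j), ((ε k : ℤˣ) : ℤ))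
    {χ : G → ℂ} (hχ : IsCharacter G χ) :
    ∃ n : ℤ, ∑ j, ((∑ k ∈ Finset.univ.filter (fun k => idx k = j), ((ε k : ℤˣ) : ℤ) : ℤ) : ℂ) * χ (φ (R j)) = Fintype.card K * n := by
  obtain ⟨w, hw3, hw, hwc⟩ := exists_omega
  have hz3 : zL ^ 3 = 1 := by decide
  set f3 : Multiplicative (ZMod 3) →* L0 := cyc 3 zL hz3 with hf3
  have hcomm : ∀ m k, Commute (f3 m) (κ k) := by
    intro m k
    show Commute (zL ^ _) _
    exact (Commute.pow_left (show Commute zL (κ k) from (hκ k).symm) _)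
  set ψ : Multiplicative (ZMod 3) × K →* G := φ.comp (f3.noncommCoprod κ hcomm) with hψ
  set εC : K →* ℂˣ := (Units.map (Int.castRingHom ℂ).toMonoidHom).comp ε with hεC
  have hεv : ∀ k, ((εC k : ℂˣ) : ℂ) = ((ε k : ℤˣ) : ℤ) := fun k => rfl
  have hψv : ∀ i k, ψ (Multiplicative.ofAdd i, k) = φ (zL ^ i.val * κ k) := fun i k => rfl
  set l0 : Multiplicative (ZMod 3) × K →* ℂˣ := εC.comp (MonoidHom.snd _ _) with hl0
  set l1 : Multiplicative (ZMod 3) × K →* ℂˣ := ((cyc 3 w hw3).comp (MonoidHom.fst _ _)) * (εC.comp (MonoidHom.snd _ _)) with hl1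
  obtain ⟨n0, hn0⟩ := lin_mult ψ l0 hχ
  obtain ⟨n1, hn1⟩ := lin_mult ψ l1 hχ
  set A : ZMod 3 → ℂ := fun i => ∑ k, (((ε k : ℤˣ) : ℤ) : ℂ) * χ (φ (zL ^ i.val * κ k)) with hA
  have hconj : ∀ k : K, conj (((ε k : ℤˣ) : ℤ) : ℂ) = (((ε k : ℤˣ) : ℤ) : ℂ) := fun k => map_intCast (starRingEnd ℂ) _
  have e0 : ∑ m, χ (ψ m) * conj ((l0 m : ℂˣ) : ℂ) = A 0 + A 1 + A 2 := by
    rw [Fintype.sum_prod_type, ← sum3, ← Fintype.sum_equiv Multiplicative.ofAdd A]
    intro i
    simp only [hA]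
    apply Finset.sum_congr rfl
    intro k _
    show _ = χ (ψ (Multiplicative.ofAdd i, k)) * conj ((εC k : ℂˣ) : ℂ)
    rw [hψv, hεv, hconj]; ring
  have e1 : ∑ m, χ (ψ m) * conj ((l1 m : ℂˣ) : ℂ) =
      A 0 + ((w : ℂ) * w) * A 1 + (w : ℂ) * A 2 := by
    rw [Fintype.sum_prod_type, ← Fintype.sum_equiv Multiplicative.ofAdd (fun i : ZMod 3 => conj ((w : ℂ) ^ i.val) * A i)]
    · rw [sum3]
      have v0 : (0 : ZMod 3).val = 0 := rfl
      have v1 : (1 : ZMod 3).val = 1 := rfl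
      have v2 : (2 : ZMod 3).val = 2 := rfl
      rw [v0, v1, v2, map_pow, map_pow, map_pow, hwc]
      have h4 : (w : ℂ) ^ 3 = 1 := by
        have := congrArg (fun u : ℂˣ => (u : ℂ)) hw3
        simpa using this
      linear_combination (w : ℂ) * A 2 * h4
    · intro i
      simp only [hA]
      rw [Finset.mul_sum]
      apply Finset.sum_congr rfl
      intro k _
      show _ = χ (ψ (Multiplicative.ofAdd i, k)) * conj ((((w ^ i.val) * (εC k)) : ℂˣ) : ℂ)
      rw [hψv]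
      push_cast
      rw [hεv, map_mul (starRingEnd ℂ), hconj]; ring
  rw [e0] at hn0
  rw [e1] at hn1
  have hA1 : A 1 = ∑ j, ((∑ k ∈ Finset.univ.filter (fun k => idx k = j), ((ε k : ℤˣ) : ℤ) : ℤ) : ℂ) * χ (φ (R j)) := by
    rw [← sum_idx idx (fun k => ((ε k : ℤˣ) : ℤ)) (fun j => χ (φ (R j)))]
    apply Finset.sum_congr rfl
    intro k _
    have h1 : χ (φ (zL ^ (1 : ZMod 3).val * κ k)) = χ (φ (R (idx k))) := by
      have : zL ^ (1 : ZMod 3).val = zL := pow_one _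
      rw [this]
      exact hχ.isClassFunction.conj_eq (Loc.conj_φ φ (h k))
    rw [h1]
  have hA2 : A 2 = A 1 := by
    rw [hA1, Finset.sum_congr rfl fun j _ => by rw [hc j], ← sum_idx idx' (fun k => ((ε k : ℤˣ) : ℤ)) (fun j => χ (φ (R j)))]
    apply Finset.sum_congr rfl
    intro k _
    have h1 : χ (φ (zL ^ (2 : ZMod 3).val * κ k)) = χ (φ (R (idx' k))) := by
      have : zL ^ (2 : ZMod 3).val = zL * zL := pow_two _
      rw [this]
      exact hχ.isClassFunction.conj_eq (Loc.conj_φ φ (h' k))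
    rw [h1]
  refine ⟨(n0 : ℤ) - n1, ?_⟩
  rw [← hA1]
  rw [hA2] at hn0 hn1
  have hcard : Fintype.card (Multiplicative (ZMod 3) × K) = 3 * Fintype.card K := by
    rw [Fintype.card_prod]
    rfl
  rw [hcard] at hn0 hn1
  push_cast at hn0 hn1 ⊢
  linear_combination (1 / 3 : ℂ) * hn0 - (1 / 3 : ℂ) * hn1 + (1 / 3 : ℂ) * A 1 * hw

end Cfsg.Agent.Lib.H25X
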