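import Cfsg.Agent.Lib.H25Xh

/-!
# Integrality at the elements of order fifteen (helper25)
-/

set_option autoImplicit false
set_option linter.all false
set_option maxHeartbeats 1000000
set_option synthInstance.maxHeartbeats 400000

namespace Cfsg.Agent.Lib.H25X

open Cfsg Cfsg.Agent.Lib.CharBasic Cfsg.Agent.Lib.H25Nine Cfsg.Agent.Lib.H25W Cfsg.Agent.Lib.BlockRing DihedralGroup
open scoped ComplexConjugate

universe u

variable {G : Type u} [Group G] [Finite G]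

theorem exists_zeta : ∃ w : ℂˣ, w ^ 15 = 1 ∧ (w : ℂ) * conj (w : ℂ) = 1 ∧
    (w : ℂ) ^ 8 - (w : ℂ) ^ 7 + (w : ℂ) ^ 5 - (w : ℂ) ^ 4 + (w : ℂ) ^ 3 - (w : ℂ) + 1 = 0 := by
  have hζ : IsPrimitiveRoot (Complex.exp (2 * Real.pi * Complex.I / (15 : ℕ))) 15 :=
    Complex.isPrimitiveRoot_exp 15 (by norm_num)
  set z := Complex.exp (2 * Real.pi * Complex.I / (15 : ℕ)) with hz
  have h3 : z ^ 15 = 1 := hζ.pow_eq_one
  have hz0 : z ≠ 0 := Complex.exp_ne_zero _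
  have h5 : z ^ 5 ≠ 1 := fun h => by
    have := hζ.dvd_of_pow_eq_one 5 h
    revert this; decide
  have h33 : z ^ 3 ≠ 1 := fun h => by
    have := hζ.dvd_of_pow_eq_one 3 h
    revert this; decide
  have e1 : z ^ 10 + z ^ 5 + 1 = 0 := by
    have h : (z ^ 5 - 1) * (z ^ 10 + z ^ 5 + 1) = 0 := by linear_combination h3
    rcases mul_eq_zero.mp h with h | h
    · exact absurd (sub_eq_zero.mp h) h5
    · exact h
  have e2 : z ^ 2 + z + 1 ≠ 0 := by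
    intro h
    apply h33
    linear_combination (z - 1) * h
  have e3 : z ^ 8 - z ^ 7 + z ^ 5 - z ^ 4 + z ^ 3 - z + 1 = 0 := by
    have h : (z ^ 2 + z + 1) * (z ^ 8 - z ^ 7 + z ^ 5 - z ^ 4 + z ^ 3 - z + 1) = 0 := by linear_combination e1
    rcases mul_eq_zero.mp h with h | h
    · exact absurd h e2
    · exact h
  refine ⟨Units.mk0 z hz0, ?_, ?_, e3⟩
  · apply Units.ext
    push_cast
    exact h3
  · show z * conj z = 1
    have hn : ‖z‖ = 1 := by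
      have : ‖z‖ ^ 15 = 1 := by rw [← norm_pow, h3, norm_one]
      exact (pow_eq_one_iff_of_nonneg (norm_nonneg _) (by norm_num)).mp this
    rw [Complex.mul_conj, Complex.normSq_eq_norm_sq, hn]; norm_num

set_option synthInstance.maxHeartbeats 4000000 in
set_option synthInstance.maxSize 100000 in
theorem cls15 : (∃ g : L0, g * (zL * fL) ^ 2 = (zL * fL) * g) ∧ (∃ g : L0, g * (zL * fL) ^ 4 = (zL * fL) * g) ∧
    (∃ g : L0, g * (zL * fL) ^ 8 = (zL * fL) * g) ∧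
    (∃ g : L0, g * (zL * fL) ^ 7 = (zL * (fL * fL)) * g) ∧ (∃ g : L0, g * (zL * fL) ^ 11 = (zL * (fL * fL)) * g) ∧
    (∃ g : L0, g * (zL * fL) ^ 13 = (zL * (fL * fL)) * g) ∧ (∃ g : L0, g * (zL * fL) ^ 14 = (zL * (fL * fL)) * g) ∧
    (∃ g : L0, g * (zL * fL) ^ 5 = (zL * fL) ^ 10 * g) ∧
    (∃ g : L0, g * (zL * fL) ^ 6 = (zL * fL) ^ 3 * g) ∧ (∃ g : L0, g * (zL * fL) ^ 9 = (zL * fL) ^ 3 * g) ∧ (∃ g : L0, g * (zL * fL) ^ 12 = (zL * fL) ^ 3 * g) ∧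
    (zL * fL) ^ 15 = 1 := by decide +kernel

theorem gint (φ : L0 →* G) : ∃ s : ℂ, s ^ 2 = -15 ∧ conj s = -s ∧ ∀ χ : G → ℂ, IsCharacter G χ →
    ∃ n : ℤ, χ (φ (zL * fL)) - χ (φ (zL * (fL * fL))) = s * n := by
  obtain ⟨w, hw15, hwc, hΦ⟩ := exists_zeta
  obtain ⟨c2, c4, c8, c7, c11, c13, c14, c5, c6, c9, c12, c15⟩ := cls15
  set η : ℂ := conj (w : ℂ) with hη
  have hw15' : (w : ℂ) ^ 15 = 1 := by
    have := congrArg (fun u : ℂˣ => (u : ℂ)) hw15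
    simpa using this
  have hη15 : η ^ 15 = 1 := by rw [hη, ← map_pow, hw15', map_one]
  have hηΦ : η ^ 8 - η ^ 7 + η ^ 5 - η ^ 4 + η ^ 3 - η + 1 = 0 := by
    have := congrArg (starRingEnd ℂ) hΦ
    simpa using this
  have hw0 : (w : ℂ) ≠ 0 := w.ne_zero
  have hηc : conj η = (w : ℂ) := Complex.conj_conj _
  have hη0 : η ≠ 0 := by
    intro h
    rw [h] at hη15
    norm_num at hη15
  have hwη : (w : ℂ) = η ^ 14 := by
    have : (w : ℂ) * η = η ^ 14 * η := by rw [hwc, ← pow_succ, hη15]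
    exact mul_right_cancel₀ hη0 this
  set t : ℂ := η + η ^ 2 + η ^ 4 + η ^ 8 - η ^ 7 - η ^ 11 - η ^ 13 - η ^ 14 with ht
  have ht2 : t ^ 2 = -15 := by
    rw [ht]
    linear_combination (15 + 15 * η + 16 * η ^ 2 + 3 * η ^ 3 + 4 * η ^ 4 - 10 * η ^ 5 - 10 * η ^ 6 - 12 * η ^ 7 - 2 * η ^ 8 - 5 * η ^ 9
      - 4 * η ^ 10 - 5 * η ^ 11 - 4 * η ^ 12 - 5 * η ^ 13 - 2 * η ^ 14 + 3 * η ^ 15 + 5 * η ^ 16 + 5 * η ^ 17 + 4 * η ^ 18 + 3 * η ^ 19 + η ^ 20) * hηΦ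
  have hp : ∀ k m : ℕ, η ^ (15 * k + m) = η ^ m := by
    intro k m
    rw [pow_add, pow_mul, hη15, one_pow, one_mul]
  have htc : conj t = -t := by
    rw [ht]
    simp only [map_add, map_sub, map_pow, hηc, hwη]
    simp only [← pow_mul]
    have e1 : η ^ (14 * 2) = η ^ 13 := hp 1 13
    have e2 : η ^ (14 * 4) = η ^ 11 := hp 3 11
    have e3 : η ^ (14 * 8) = η ^ 7 := hp 7 7
    have e4 : η ^ (14 * 7) = η ^ 8 := hp 6 8
    have e5 : η ^ (14 * 11) = η ^ 4 := hp 10 4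
    have e6 : η ^ (14 * 13) = η ^ 2 := hp 12 2
    have e7 : η ^ (14 * 14) = η := (hp 13 1).trans (pow_one _)
    rw [e1, e2, e3, e4, e5, e6, e7]
    ring
  refine ⟨t, ht2, htc, ?_⟩
  intro χ hχ
  set x := zL * fL with hx
  set ψ : Multiplicative (ZMod 15) →* G := φ.comp (cyc 15 x c15) with hψ
  have hw7 : (w ^ 7) ^ 15 = 1 := by rw [← pow_mul, mul_comm, pow_mul, hw15, one_pow]
  obtain ⟨n1, hn1⟩ := lin_mult ψ (cyc 15 w hw15) hχ
  obtain ⟨n7, hn7⟩ := lin_mult ψ (cyc 15 (w ^ 7) hw7) hχ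
  have hF : ∀ (u : ℂˣ) (hu : u ^ 15 = 1), ∑ m, χ (ψ m) * conj (((cyc 15 u hu) m : ℂˣ) : ℂ) =
      ∑ i ∈ Finset.range 15, χ (φ (x ^ i)) * (conj (u : ℂ)) ^ i := by
    intro u hu
    rw [← Fin.sum_univ_eq_sum_range (fun i => χ (φ (x ^ i)) * (conj (u : ℂ)) ^ i) 15]
    apply Fintype.sum_equiv (Multiplicative.toAdd (α := ZMod 15))
    intro i
    show χ (φ (x ^ (Multiplicative.toAdd i).val)) * conj (((u ^ (Multiplicative.toAdd i).val : ℂˣ)) : ℂ) = χ (φ (x ^ (Multiplicative.toAdd i).val)) * (conj (u : ℂ)) ^ (Multiplicative.toAdd i).val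
    push_cast
    rw [map_pow (starRingEnd ℂ)]
  rw [hF] at hn1 hn7
  have hc : ∀ {l l' : L0}, (∃ g : L0, g * l = l' * g) → χ (φ l) = χ (φ l') := fun h => hχ.isClassFunction.conj_eq (Loc.conj_φ φ h)
  have k2 := hc c2
  have k4 := hc c4
  have k8 := hc c8
  have k7 := hc c7
  have k11 := hc c11
  have k13 := hc c13
  have k14 := hc c14
  have k5 := hc c5
  have k6 := hc c6
  have k9 := hc c9
  have k12 := hc c12
  have hcard : (Fintype.card (Multiplicative (ZMod 15)) : ℂ) = 15 := by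
    have : Fintype.card (Multiplicative (ZMod 15)) = 15 := rfl
    rw [this]; norm_num
  rw [hcard] at hn1 hn7
  rw [Finset.sum_range_succ, Finset.sum_range_succ, Finset.sum_range_succ, Finset.sum_range_succ, Finset.sum_range_succ,
    Finset.sum_range_succ, Finset.sum_range_succ, Finset.sum_range_succ, Finset.sum_range_succ, Finset.sum_range_succ,
    Finset.sum_range_succ, Finset.sum_range_succ, Finset.sum_range_succ, Finset.sum_range_succ, Finset.sum_range_succ,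
    Finset.sum_range_zero, k2, k4, k8, k7, k11, k13, k14, k5, k6, k9, k12, pow_one] at hn1 hn7
  have hcw7 : conj (((w ^ 7 : ℂˣ)) : ℂ) = η ^ 7 := by
    push_cast
    rw [map_pow (starRingEnd ℂ)]
  rw [hcw7] at hn7
  simp only [← pow_mul] at hn7
  have q2 : η ^ (7 * 2) = η ^ 14 := rfl
  have q3 : η ^ (7 * 3) = η ^ 6 := hp 1 6
  have q4 : η ^ (7 * 4) = η ^ 13 := hp 1 13
  have q5 : η ^ (7 * 5) = η ^ 5 := hp 2 5
  have q6 : η ^ (7 * 6) = η ^ 12 := hp 2 12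
  have q7 : η ^ (7 * 7) = η ^ 4 := hp 3 4
  have q8 : η ^ (7 * 8) = η ^ 11 := hp 3 11
  have q9 : η ^ (7 * 9) = η ^ 3 := hp 4 3
  have q10 : η ^ (7 * 10) = η ^ 10 := hp 4 10
  have q11 : η ^ (7 * 11) = η ^ 2 := hp 5 2
  have q12 : η ^ (7 * 12) = η ^ 9 := hp 5 9
  have q13 : η ^ (7 * 13) = η := (hp 6 1).trans (pow_one _)
  have q14 : η ^ (7 * 14) = η ^ 8 := hp 6 8
  have q1 : η ^ (7 * 1) = η ^ 7 := rfl
  rw [q2, q3, q4, q5, q6, q7, q8, q9, q10, q11, q12, q13, q14] at hn7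
  refine ⟨(n7 : ℤ) - n1, ?_⟩
  have hmain : (χ (φ x) - χ (φ (zL * (fL * fL)))) * t = 15 * ((n1 : ℂ) - n7) := by
    rw [ht]
    linear_combination hn1 - hn7
  push_cast
  have h15 : (χ (φ x) - χ (φ (zL * (fL * fL)))) * t * t = 15 * ((n1 : ℂ) - n7) * t := by rw [hmain]
  linear_combination (-1 / 15 : ℂ) * h15 + (1 / 15 : ℂ) * (χ (φ x) - χ (φ (zL * (fL * fL)))) * ht2

end Cfsg.Agent.Lib.H25X
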