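import Cfsg.Agent.Lib.H25Xi

/-!
# Integral coordinates of the characters (helper25)
-/

set_option autoImplicit false
set_option linter.all false
set_option maxHeartbeats 4000000
set_option synthInstance.maxHeartbeats 4000000
set_option synthInstance.maxSize 100000

namespace Cfsg.Agent.Lib.H25X

open Cfsg Cfsg.Agent.Lib.CharBasic Cfsg.Agent.Lib.H25Nine Cfsg.Agent.Lib.H25W Cfsg.Agent.Lib.BlockRing DihedralGroup
open scoped ComplexConjugate

universe u

def dih {M : Type*} [Monoid M] (n : ℕ) (F T : M) : DihedralGroup n → M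
  | .r i => F ^ i.val
  | .sr i => T * F ^ i.val

def vL : L0 := ⟨(1, Equiv.swap 0 2 * Equiv.swap 1 3), by rw [mem_L0]; decide⟩
def dL : L0 := ⟨(1, Equiv.swap 1 4 * Equiv.swap 2 3), by rw [mem_L0]; decide⟩

theorem mulV : ∀ x y : DihedralGroup 2, dih 2 tL vL (x * y) = dih 2 tL vL x * dih 2 tL vL y := by decide +kernel
theorem mulD : ∀ x y : DihedralGroup 5, dih 5 fL dL (x * y) = dih 5 fL dL x * dih 5 fL dL y := by decide +kernel

def kV : DihedralGroup 2 →* L0 where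
  toFun := dih 2 tL vL
  map_one' := by decide +kernel
  map_mul' := mulV

def kD : DihedralGroup 5 →* L0 where
  toFun := dih 5 fL dL
  map_one' := by decide +kernel
  map_mul' := mulD

def sgn5 : DihedralGroup 5 →* ℤˣ where
  toFun x := match x with
    | .r _ => 1
    | .sr _ => -1
  map_one' := rfl
  map_mul' := by decide +kernel

def idV (k : DihedralGroup 2) : Fin 4 := if k = 1 then 0 else 1
def idD : DihedralGroup 5 → Fin 4
  | .r i => if i = 0 then 0 else if i = 1 ∨ i = 4 then 2 else 3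
  | .sr _ => 1
def idD' : DihedralGroup 5 → Fin 4
  | .r i => if i = 0 then 0 else if i = 1 ∨ i = 4 then 3 else 2
  | .sr _ => 1

theorem commV : ∀ k, kV k * zL = zL * kV k := by decide +kernel
theorem commD : ∀ k, kD k * zL = zL * kD k := by decide +kernel

theorem clV : ∀ k, ∃ g : L0, g * (zL * kV k) = R (idV k) * g := by decide +kernel
theorem clV' : ∀ k, ∃ g : L0, g * (zL * zL * kV k) = R (idV k) * g := by decide +kernel
theorem clD : ∀ k, ∃ g : L0, g * (zL * kD k) = R (idD k) * g := by decide +kernel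
theorem clD' : ∀ k, ∃ g : L0, g * (zL * zL * kD k) = R (idD' k) * g := by decide +kernel

def wt {K : Type} [Fintype K] [DecidableEq K] (idx : K → Fin 4) (e : K → ℤ) (j : Fin 4) : ℤ := ∑ k ∈ Finset.univ.filter (fun k => idx k = j), e k

theorem wtV : ∀ j, wt idV (fun k => (((1 : DihedralGroup 2 →* ℤˣ) k : ℤˣ) : ℤ)) j = ![1, 3, 0, 0] j := by decide +kernel
theorem wtD : ∀ j, wt idD (fun k => (((1 : DihedralGroup 5 →* ℤˣ) k : ℤˣ) : ℤ)) j = ![1, 5, 2, 2] j := by decide +kernel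
theorem wtD' : ∀ j, wt idD' (fun k => (((1 : DihedralGroup 5 →* ℤˣ) k : ℤˣ) : ℤ)) j = ![1, 5, 2, 2] j := by decide +kernel
theorem wtS : ∀ j, wt idD (fun k => ((sgn5 k : ℤˣ) : ℤ)) j = ![1, -5, 2, 2] j := by decide +kernel
theorem wtS' : ∀ j, wt idD' (fun k => ((sgn5 k : ℤˣ) : ℤ)) j = ![1, -5, 2, 2] j := by decide +kernel

variable {G : Type u} [Group G] [Finite G]

theorem avgV (φ : L0 →* G) {χ : G → ℂ} (hχ : IsCharacter G χ) : ∃ n : ℤ, χ (φ zL) + 3 * χ (φ (zL * tL)) = 4 * n := by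
  obtain ⟨n, hn⟩ := avg φ kV commV 1 idV idV clV clV' (fun j => rfl) hχ
  refine ⟨n, ?_⟩
  have e := wtV
  unfold wt at e
  rw [Fin.sum_univ_four, e 0, e 1, e 2, e 3] at hn
  have hc : (Fintype.card (DihedralGroup 2) : ℂ) = 4 := by
    have : Fintype.card (DihedralGroup 2) = 4 := by decide
    rw [this]; norm_num
  rw [hc] at hn
  rw [← hn]
  show _ = ((1 : ℤ) : ℂ) * χ (φ zL) + ((3 : ℤ) : ℂ) * χ (φ (zL * tL)) + ((0 : ℤ) : ℂ) * χ (φ (zL * fL)) + ((0 : ℤ) : ℂ) * χ (φ (zL * (fL * fL)))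
  push_cast; ring

theorem avgD (φ : L0 →* G) {χ : G → ℂ} (hχ : IsCharacter G χ) : ∃ n : ℤ,
    χ (φ zL) + 5 * χ (φ (zL * tL)) + 2 * χ (φ (zL * fL)) + 2 * χ (φ (zL * (fL * fL))) = 10 * n := by
  obtain ⟨n, hn⟩ := avg φ kD commD 1 idD idD' clD clD' (fun j => by
    have e := wtD j
    have e' := wtD' j
    unfold wt at e e'
    rw [e, e']) hχ
  refine ⟨n, ?_⟩
  have e := wtD
  unfold wt at e
  rw [Fin.sum_univ_four, e 0, e 1, e 2, e 3] at hn
  have hc : (Fintype.card (DihedralGroup 5) : ℂ) = 10 := by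
    have : Fintype.card (DihedralGroup 5) = 10 := by decide
    rw [this]; norm_num
  rw [hc] at hn
  rw [← hn]
  show _ = ((1 : ℤ) : ℂ) * χ (φ zL) + ((5 : ℤ) : ℂ) * χ (φ (zL * tL)) + ((2 : ℤ) : ℂ) * χ (φ (zL * fL)) + ((2 : ℤ) : ℂ) * χ (φ (zL * (fL * fL)))
  push_cast; ring

theorem avgS (φ : L0 →* G) {χ : G → ℂ} (hχ : IsCharacter G χ) : ∃ n : ℤ,
    χ (φ zL) - 5 * χ (φ (zL * tL)) + 2 * χ (φ (zL * fL)) + 2 * χ (φ (zL * (fL * fL))) = 10 * n := by
  obtain ⟨n, hn⟩ := avg φ kD commD sgn5 idD idD' clD clD' (fun j => by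
    have e := wtS j
    have e' := wtS' j
    unfold wt at e e'
    rw [e, e']) hχ
  refine ⟨n, ?_⟩
  have e := wtS
  unfold wt at e
  rw [Fin.sum_univ_four, e 0, e 1, e 2, e 3] at hn
  have hc : (Fintype.card (DihedralGroup 5) : ℂ) = 10 := by
    have : Fintype.card (DihedralGroup 5) = 10 := by decide
    rw [this]; norm_num
  rw [hc] at hn
  rw [← hn]
  show _ = ((1 : ℤ) : ℂ) * χ (φ zL) + ((-5 : ℤ) : ℂ) * χ (φ (zL * tL)) + ((2 : ℤ) : ℂ) * χ (φ (zL * fL)) + ((2 : ℤ) : ℂ) * χ (φ (zL * (fL * fL)))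
  push_cast; ring

/-- integral coordinates -/
structure VA (ρ : D →* G) (a b : G) (φ : L0 →* G) (s : ℂ) (d U e g W W' : IrrCharacter G → ℤ) : Prop where
  hs : s ^ 2 = -15
  hsc : conj s = -s
  z0 : ∀ χ : IrrCharacter G, (χ : G → ℂ) (φ zL) = 4 * U χ - 3 * d χ + 3 * e χ
  z1 : ∀ χ : IrrCharacter G, (χ : G → ℂ) (φ (zL * tL)) = d χ - e χ
  z2 : ∀ χ : IrrCharacter G, 2 * (χ : G → ℂ) (φ (zL * fL)) = 4 * d χ - 2 * U χ + e χ + s * g χ
  z3 : ∀ χ : IrrCharacter G, 2 * (χ : G → ℂ) (φ (zL * (fL * fL))) = 4 * d χ - 2 * U χ + e χ - s * g χ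
  hW : ∀ χ : IrrCharacter G, (χ : G → ℂ) (el ρ a b ww) = W χ
  hW' : ∀ χ : IrrCharacter G, (χ : G → ℂ) (el ρ a b wq) = W' χ

variable {S : Subgroup G} {ρ : D →* G} {a b : G} {φ : L0 →* G}

theorem exists_va (L : Loc S ρ a b φ) : ∃ (s : ℂ) (d U e g W W' : IrrCharacter G → ℤ), VA ρ a b φ s d U e g W W' := by
  have r2 := L.X.real_model (τ := ww) (m := ((2, 2), 1)) (by decide) ⟨(0, r 2), by decide⟩
  have r4 := L.X.real_model (τ := wq) (m := ((2, 2), sr 1)) (by decide) ⟨(0, r 2), by decide⟩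
  have o2 := L.X.ord3 (τ := ww) (by decide) (by decide)
  have o4 := L.X.ord6 (τ := wq) (c := ww) (s := (0, sr 1)) (by decide) (by decide) (by decide) (by decide) (by decide) (by decide)
  have p2 : ∀ τ, el ρ a b τ ^ 2 = el ρ a b (mulM τ τ) := fun τ => by rw [sq, L.X.el_mul]
  have p3 : ∀ τ, el ρ a b τ ^ 3 = el ρ a b (mulM (mulM τ τ) τ) := fun τ => by rw [pow_succ, sq, L.X.el_mul, L.X.el_mul]
  have q4 : IsConj (el ρ a b wq ^ 2) (el ρ a b wq ^ 2)⁻¹ := by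
    rw [p2]; exact L.X.real_model (m := ((1, 1), 1)) (by decide) ⟨(0, r 2), by decide⟩
  have t4 : IsConj (el ρ a b wq ^ 3) (el ρ a b wq ^ 3)⁻¹ := by
    rw [p3]; exact L.X.real_model (m := (0, sr 1)) (by decide) ⟨(0, r 2), by decide⟩
  choose Ww hW _ using fun χ : IrrCharacter G => real_three χ.2.isCharacter o2 r2 (H76Char.charDegree_eq χ.2.isCharacter).symm
  choose W' hW' using fun χ : IrrCharacter G => real_six χ.2.isCharacter o4 r4 q4 t4
  obtain ⟨s, hs, hsc, hg⟩ := gint φ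
  choose U hU using fun χ : IrrCharacter G => avgV φ χ.2.isCharacter
  choose d hd using fun χ : IrrCharacter G => avgD φ χ.2.isCharacter
  choose e he using fun χ : IrrCharacter G => avgS φ χ.2.isCharacter
  choose g hg using fun χ : IrrCharacter G => hg χ χ.2.isCharacter
  refine ⟨s, d, U, e, g, Ww, W', hs, hsc, ?_, ?_, ?_, ?_, hW, hW'⟩
  · intro χ
    linear_combination hU χ - (3 / 10 : ℂ) * hd χ + (3 / 10 : ℂ) * he χ
  · intro χ
    linear_combination (1 / 10 : ℂ) * hd χ - (1 / 10 : ℂ) * he χ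
  · intro χ
    linear_combination (1 / 2 : ℂ) * hd χ - (1 / 2 : ℂ) * hU χ + hg χ - (1 / 10 : ℂ) * hd χ + (1 / 10 : ℂ) * he χ
  · intro χ
    linear_combination (1 / 2 : ℂ) * hd χ - (1 / 2 : ℂ) * hU χ - hg χ - (1 / 10 : ℂ) * hd χ + (1 / 10 : ℂ) * he χ

end Cfsg.Agent.Lib.H25X
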