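import Cfsg.Agent.Lib.H25Xj
import Cfsg.Agent.Lib.H25Wk

/-!
# Orthogonality of the integral coordinates (helper25)
-/

set_option autoImplicit false
set_option linter.all false
set_option maxHeartbeats 1000000

namespace Cfsg.Agent.Lib.H25X

open Cfsg Cfsg.Agent.Lib.CharBasic Cfsg.Agent.Lib.H25Nine Cfsg.Agent.Lib.H25W Cfsg.Agent.Lib.BlockRing DihedralGroup
open scoped ComplexConjugate
open Loc (col ccn)

universe u

variable {G : Type u} [Group G] [Finite G] {S : Subgroup G} {ρ : D →* G} {a b : G} {φ : L0 →* G}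

/-- rational combination of the columns -/
def IsComb (ρ : D →* G) (a b : G) (φ : L0 →* G) (f : IrrCharacter G → ℂ) (α : Fin 6 → ℚ) : Prop :=
  ∀ χ : IrrCharacter G, f χ = ∑ i, (α i : ℂ) * (χ : G → ℂ) (col ρ a b φ i)

theorem dotC (L : Loc S ρ a b φ) {f h : IrrCharacter G → ℂ} {α β : Fin 6 → ℚ} (hf : IsComb ρ a b φ f α) (hh : IsComb ρ a b φ h β) :
    ∑ χ, f χ * conj (h χ) = ((∑ i, α i * β i * ccn i : ℚ) : ℂ) := by
  have h1 := comb (fun i (χ : IrrCharacter G) => (χ : G → ℂ) (col ρ a b φ i)) (fun i => (ccn i : ℂ)) L.col_orth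
    (fun i => (α i : ℂ)) (fun i => (β i : ℂ))
  rw [Finset.sum_congr rfl fun χ _ => by rw [hf χ, hh χ], h1]
  push_cast
  apply Finset.sum_congr rfl
  intro i _
  rw [map_ratCast (starRingEnd ℂ)]

theorem dotZ (L : Loc S ρ a b φ) {f h : IrrCharacter G → ℤ} {α β : Fin 6 → ℚ} (hf : IsComb ρ a b φ (fun χ => f χ) α)
    (hh : IsComb ρ a b φ (fun χ => h χ) β) {n : ℤ} (hn : (∑ i, α i * β i * ccn i : ℚ) = n) :
    ∑ χ, f χ * h χ = n := by
  have h1 := dotC L hf hh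
  rw [hn] at h1
  have h2 : ∑ χ : IrrCharacter G, (f χ : ℂ) * conj (h χ : ℂ) = ((∑ χ, f χ * h χ : ℤ) : ℂ) := by
    push_cast
    apply Finset.sum_congr rfl
    intro χ _
    rw [map_intCast (starRingEnd ℂ)]
  rw [h2] at h1
  exact_mod_cast h1

variable {s : ℂ} {d U e g Ww W' : IrrCharacter G → ℤ}

theorem s_ne (hv : VA ρ a b φ s d U e g Ww W') : s ≠ 0 := by
  intro h
  have := hv.hs
  rw [h] at this
  norm_num at this

theorem dotZg (L : Loc S ρ a b φ) (hv : VA ρ a b φ s d U e g Ww W') {f : IrrCharacter G → ℤ} {α γ : Fin 6 → ℚ}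
    (hf : IsComb ρ a b φ (fun χ => f χ) α)
    (hh : IsComb ρ a b φ (fun χ => s * g χ) γ) (hn : (∑ i, α i * γ i * ccn i : ℚ) = 0) :
    ∑ χ, f χ * g χ = 0 := by
  have h1 := dotC L hf hh
  rw [hn] at h1
  have h2 : ∑ χ : IrrCharacter G, (f χ : ℂ) * conj (s * g χ : ℂ) = (-s) * ((∑ χ, f χ * g χ : ℤ) : ℂ) := by
    push_cast
    rw [Finset.mul_sum]
    apply Finset.sum_congr rfl
    intro χ _
    rw [map_mul, hv.hsc, map_intCast (starRingEnd ℂ)]
    ring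
  rw [h2] at h1
  have h3 : ((∑ χ, f χ * g χ : ℤ) : ℂ) = 0 := by
    rcases mul_eq_zero.mp (h1.trans (by norm_num)) with h | h
    · exact absurd (neg_eq_zero.mp h) (s_ne hv)
    · exact h
  exact_mod_cast h3

theorem dotgg (L : Loc S ρ a b φ) (hv : VA ρ a b φ s d U e g Ww W') {γ : Fin 6 → ℚ}
    (hh : IsComb ρ a b φ (fun χ => s * g χ) γ) (hn : (∑ i, γ i * γ i * ccn i : ℚ) = 30) :
    ∑ χ, g χ * g χ = 2 := by
  have h1 := dotC L hh hh
  rw [hn] at h1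
  have h2 : ∑ χ : IrrCharacter G, (s * g χ : ℂ) * conj (s * g χ : ℂ) = (-s ^ 2) * ((∑ χ, g χ * g χ : ℤ) : ℂ) := by
    push_cast
    rw [Finset.mul_sum]
    apply Finset.sum_congr rfl
    intro χ _
    rw [map_mul, hv.hsc, map_intCast (starRingEnd ℂ)]
    ring
  rw [h2, hv.hs] at h1
  have h3 : ((∑ χ, g χ * g χ : ℤ) : ℂ) = 2 := by
    linear_combination (1 / 15 : ℂ) * h1
  exact_mod_cast h3

/-- the six orthogonal integral functions -/
structure Orth6 {ι : Type*} [Fintype ι] (U U' W W' e g : ι → ℤ) : Prop extends Orth U U' W W' where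
  ee : ∑ i, e i * e i = 6
  gg : ∑ i, g i * g i = 2
  eu : ∑ i, U i * e i = 0
  ev : ∑ i, U' i * e i = 0
  ew : ∑ i, W i * e i = 0
  ex : ∑ i, W' i * e i = 0
  gu : ∑ i, U i * g i = 0
  gv : ∑ i, U' i * g i = 0
  gw : ∑ i, W i * g i = 0
  gx : ∑ i, W' i * g i = 0
  ge : ∑ i, e i * g i = 0

theorem bound6 {ι : Type*} [Fintype ι] {U U' W W' e g : ι → ℤ} (h : Orth6 U U' W W' e g) (i : ι) :
    U i * U i + 3 * (U' i * U' i) + W i * W i + 3 * (W' i * W' i) + 3 * (e i * e i) + 9 * (g i * g i) ≤ 18 := by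
  set c : ι → ℤ := fun j => U i * U j + 3 * U' i * U' j + W i * W j + 3 * W' i * W' j + 3 * e i * e j + 9 * g i * g j with hc
  set E := U i * U i + 3 * (U' i * U' i) + W i * W i + 3 * (W' i * W' i) + 3 * (e i * e i) + 9 * (g i * g i) with hE
  have h1 : ∑ j, c j ^ 2 = 18 * E := by
    have : ∀ j, c j ^ 2 = U i * U i * (U j * U j) + 9 * (U' i * U' i) * (U' j * U' j) + W i * W i * (W j * W j) + 9 * (W' i * W' i) * (W' j * W' j)
        + 6 * (U i * U' i) * (U j * U' j) + 2 * (U i * W i) * (U j * W j) + 6 * (U i * W' i) * (U j * W' j) + 6 * (U' i * W i) * (U' j * W j)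
        + 18 * (U' i * W' i) * (U' j * W' j) + 6 * (W i * W' i) * (W j * W' j)
        + 9 * (e i * e i) * (e j * e j) + 81 * (g i * g i) * (g j * g j)
        + 6 * (U i * e i) * (U j * e j) + 18 * (U' i * e i) * (U' j * e j) + 6 * (W i * e i) * (W j * e j) + 18 * (W' i * e i) * (W' j * e j)
        + 18 * (U i * g i) * (U j * g j) + 54 * (U' i * g i) * (U' j * g j) + 18 * (W i * g i) * (W j * g j) + 54 * (W' i * g i) * (W' j * g j)
        + 54 * (e i * g i) * (e j * g j) := by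
      intro j; simp only [hc]; ring
    rw [Finset.sum_congr rfl fun j _ => this j]
    simp only [Finset.sum_add_distrib, ← Finset.mul_sum]
    rw [h.uu, h.vv, h.ww, h.xx, h.uv, h.uw, h.ux, h.vw, h.vx, h.wx, h.ee, h.gg, h.eu, h.ev, h.ew, h.ex, h.gu, h.gv, h.gw, h.gx, h.ge, hE]
    ring
  have h2 : c i ^ 2 ≤ ∑ j, c j ^ 2 := Finset.single_le_sum (fun j _ => sq_nonneg (c j)) (Finset.mem_univ i)
  have h3 : c i = E := by simp only [hc, hE]; ring
  rw [h1, h3] at h2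
  have h4 : 0 ≤ E := by
    rw [hE]
    nlinarith [mul_self_nonneg (U i), mul_self_nonneg (U' i), mul_self_nonneg (W i), mul_self_nonneg (W' i), mul_self_nonneg (e i), mul_self_nonneg (g i)]
  by_contra hcon
  push Not at hcon
  nlinarith

def cU : Fin 6 → ℚ := ![1 / 4, 3 / 4, 0, 0, 0, 0]
def cV : Fin 6 → ℚ := ![-(1 / 20), 1 / 4, 2 / 5, 2 / 5, 0, 0]
def cE : Fin 6 → ℚ := ![1 / 10, -(1 / 2), 1 / 5, 1 / 5, 0, 0]
def cG : Fin 6 → ℚ := ![0, 0, 1, -1, 0, 0]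
def cW : Fin 6 → ℚ := ![0, 0, 0, 0, 1, 0]
def cX : Fin 6 → ℚ := ![0, 0, 0, 0, 0, 1]

theorem comb_expand (α : Fin 6 → ℚ) (χ : IrrCharacter G) : ∑ i, (α i : ℂ) * (χ : G → ℂ) (col ρ a b φ i) =
    (α 0 : ℂ) * (χ : G → ℂ) (φ zL) + (α 1 : ℂ) * (χ : G → ℂ) (φ (zL * tL)) + (α 2 : ℂ) * (χ : G → ℂ) (φ (zL * fL)) +
    (α 3 : ℂ) * (χ : G → ℂ) (φ (zL * (fL * fL))) + (α 4 : ℂ) * (χ : G → ℂ) (el ρ a b ww) + (α 5 : ℂ) * (χ : G → ℂ) (el ρ a b wq) := by
  rw [Fin.sum_univ_six]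
  rfl

theorem isU (hv : VA ρ a b φ s d U e g Ww W') : IsComb ρ a b φ (fun χ => (U χ : ℂ)) cU := by
  intro χ
  rw [comb_expand]
  have e0 : cU 0 = 1 / 4 := rfl
  have e1 : cU 1 = 3 / 4 := rfl
  have e2 : cU 2 = 0 := rfl
  have e3 : cU 3 = 0 := rfl
  have e4 : cU 4 = 0 := rfl
  have e5 : cU 5 = 0 := rfl
  rw [e0, e1, e2, e3, e4, e5, hv.z0, hv.z1]
  push_cast; ring

theorem isV (hv : VA ρ a b φ s d U e g Ww W') : IsComb ρ a b φ (fun χ => ((2 * d χ - U χ : ℤ) : ℂ)) cV := by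
  intro χ
  rw [comb_expand]
  have e0 : cV 0 = -(1 / 20) := rfl
  have e1 : cV 1 = 1 / 4 := rfl
  have e2 : cV 2 = 2 / 5 := rfl
  have e3 : cV 3 = 2 / 5 := rfl
  have e4 : cV 4 = 0 := rfl
  have e5 : cV 5 = 0 := rfl
  rw [e0, e1, e2, e3, e4, e5, hv.z0, hv.z1]
  push_cast
  linear_combination (-1 / 5 : ℂ) * hv.z2 χ - (1 / 5 : ℂ) * hv.z3 χ

theorem isE (hv : VA ρ a b φ s d U e g Ww W') : IsComb ρ a b φ (fun χ => (e χ : ℂ)) cE := by
  intro χ
  rw [comb_expand]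
  have e0 : cE 0 = 1 / 10 := rfl
  have e1 : cE 1 = -(1 / 2) := rfl
  have e2 : cE 2 = 1 / 5 := rfl
  have e3 : cE 3 = 1 / 5 := rfl
  have e4 : cE 4 = 0 := rfl
  have e5 : cE 5 = 0 := rfl
  rw [e0, e1, e2, e3, e4, e5, hv.z0, hv.z1]
  push_cast
  linear_combination (-1 / 10 : ℂ) * hv.z2 χ - (1 / 10 : ℂ) * hv.z3 χ

theorem isG (hv : VA ρ a b φ s d U e g Ww W') : IsComb ρ a b φ (fun χ => (s * g χ : ℂ)) cG := by
  intro χ
  rw [comb_expand]
  have e0 : cG 0 = 0 := rfl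
  have e1 : cG 1 = 0 := rfl
  have e2 : cG 2 = 1 := rfl
  have e3 : cG 3 = -1 := rfl
  have e4 : cG 4 = 0 := rfl
  have e5 : cG 5 = 0 := rfl
  rw [e0, e1, e2, e3, e4, e5]
  push_cast
  linear_combination (-1 / 2 : ℂ) * hv.z2 χ + (1 / 2 : ℂ) * hv.z3 χ

theorem isW (hv : VA ρ a b φ s d U e g Ww W') : IsComb ρ a b φ (fun χ => (Ww χ : ℂ)) cW := by
  intro χ
  rw [comb_expand]
  have e0 : cW 0 = 0 := rfl
  have e1 : cW 1 = 0 := rfl
  have e2 : cW 2 = 0 := rfl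
  have e3 : cW 3 = 0 := rfl
  have e4 : cW 4 = 1 := rfl
  have e5 : cW 5 = 0 := rfl
  rw [e0, e1, e2, e3, e4, e5, hv.hW]
  push_cast; ring

theorem isX (hv : VA ρ a b φ s d U e g Ww W') : IsComb ρ a b φ (fun χ => (W' χ : ℂ)) cX := by
  intro χ
  rw [comb_expand]
  have e0 : cX 0 = 0 := rfl
  have e1 : cX 1 = 0 := rfl
  have e2 : cX 2 = 0 := rfl
  have e3 : cX 3 = 0 := rfl
  have e4 : cX 4 = 0 := rfl
  have e5 : cX 5 = 1 := rfl
  rw [e0, e1, e2, e3, e4, e5, hv.hW']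
  push_cast; ring

theorem orth6 (L : Loc S ρ a b φ) (hv : VA ρ a b φ s d U e g Ww W') : Orth6 U (fun χ => 2 * d χ - U χ) Ww W' e g where
  uu := dotZ L (isU hv) (isU hv) (by decide +kernel)
  vv := dotZ L (isV hv) (isV hv) (by decide +kernel)
  ww := dotZ L (isW hv) (isW hv) (by decide +kernel)
  xx := dotZ L (isX hv) (isX hv) (by decide +kernel)
  uv := dotZ L (isU hv) (isV hv) (by decide +kernel)
  uw := dotZ L (isU hv) (isW hv) (by decide +kernel)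
  ux := dotZ L (isU hv) (isX hv) (by decide +kernel)
  vw := dotZ L (isV hv) (isW hv) (by decide +kernel)
  vx := dotZ L (isV hv) (isX hv) (by decide +kernel)
  wx := dotZ L (isW hv) (isX hv) (by decide +kernel)
  ee := dotZ L (isE hv) (isE hv) (by decide +kernel)
  gg := dotgg L hv (isG hv) (by decide +kernel)
  eu := dotZ L (isU hv) (isE hv) (by decide +kernel)
  ev := dotZ L (isV hv) (isE hv) (by decide +kernel)
  ew := dotZ L (isW hv) (isE hv) (by decide +kernel)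
  ex := dotZ L (isX hv) (isE hv) (by decide +kernel)
  gu := dotZg L hv (isU hv) (isG hv) (by decide +kernel)
  gv := dotZg L hv (isV hv) (isG hv) (by decide +kernel)
  gw := dotZg L hv (isW hv) (isG hv) (by decide +kernel)
  gx := dotZg L hv (isX hv) (isG hv) (by decide +kernel)
  ge := dotZg L hv (isE hv) (isG hv) (by decide +kernel)

end Cfsg.Agent.Lib.H25X
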