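import Cfsg.Agent.Lib.H25Xf
import Cfsg.Agent.Lib.H25Wj

/-!
# The class sum of the central 3-elements modulo nine (helper25)
-/

set_option autoImplicit false
set_option linter.all false
set_option maxHeartbeats 1000000
set_option synthInstance.maxHeartbeats 4000000
set_option synthInstance.maxSize 100000

namespace Cfsg.Agent.Lib.H25X

open Cfsg Cfsg.Agent.Lib.CharBasic Cfsg.Agent.Lib.H25Nine Cfsg.Agent.Lib.H25W Cfsg.Agent.Lib.BlockRing DihedralGroup
open scoped ComplexConjugate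

universe u

def X0 : Finset L0 := Finset.univ.filter (fun x : L0 => x.1.1 = 1 ∧ x * x * x = 1 ∧ x ≠ 1 ∧ x ≠ aL ∧ x ≠ aL * aL)

theorem X0_card : X0.card = 18 := cnt_c5.2

theorem X0_comm : ∀ x : L0, x.1.1 = 1 → x * zL = zL * x := by decide +kernel
theorem X0_nc : ∀ x : L0, x.1.1 = 1 → x * x * x = 1 → x ≠ 1 → x ≠ aL → x ≠ aL * aL → x * aL ≠ aL * x := by decide +kernel
theorem X0_cov : ∀ x : L0, x * zL = zL * x → x * x * x = 1 → (∃ i j : Fin 3, x = zL ^ i.val * aL ^ j.val) ∨ 
    (x.1.1 = 1 ∧ x * x * x = 1 ∧ x ≠ 1 ∧ x ≠ aL ∧ x ≠ aL * aL) ∨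
    (∃ g : L0, g * x = (zL * aL) * g ∨ g * x = (zL * zL * aL) * g) := by decide +kernel

variable {G : Type u} [Group G] [Finite G] {S : Subgroup G} {ρ : D →* G} {a b : G} {φ : L0 →* G}

theorem mem_cls_a (L : Loc S ρ a b φ) (v : V) : co a b v ∈ cls a ↔ (v ≠ 0 ∧ (v.1 = 0 ∨ v.2 = 0)) := by
  have he : el ρ a b (v, 1) = co a b v := by unfold el; rw [map_one, mul_one]
  have hu : el ρ a b uu = a := by
    show a ^ 1 * b ^ 0 * ρ 1 = a
    rw [pow_one, pow_zero, map_one, mul_one, mul_one]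
  constructor
  · intro h
    rw [mem_cls, ← he] at h
    by_cases hv : v = 0
    · exfalso
      subst hv
      have : el ρ a b ((0 : V), (1 : D)) = 1 := L.X.el_one
      rw [this] at h
      exact L.X.ha1 (isConj_one_left.mp h)
    · refine ⟨hv, ?_⟩
      by_contra hcon
      push Not at hcon
      have h2 := L.X.el_conj (cj_w v hcon.1 hcon.2)
      rw [Loc.el_ww] at h2
      exact L.ncj_ab (IsConj.trans h h2.symm)
  · rintro ⟨h1, h2⟩
    have h3 := L.X.el_conj (cj_u v h1 h2)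
    rw [hu, he] at h3
    exact h3

/-- the centralizers of the elements of the second type -/
theorem cent_w (L : Loc S ρ a b φ) {v : V} (h1 : v.1 ≠ 0) (h2 : v.2 ≠ 0) {y : G} (hy : y * co a b v = co a b v * y) :
    y ∈ Subgroup.normalizer (S : Set G) := by
  obtain ⟨m, hm⟩ := cj_w v h1 h2
  have he : el ρ a b (v, 1) = co a b v := by unfold el; rw [map_one, mul_one]
  have hm' := congrArg (el ρ a b) hm
  rw [L.X.el_mul, L.X.el_mul, he, Loc.el_ww] at hm'
  set g := el ρ a b m with hg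
  have hgN : g ∈ Subgroup.normalizer (S : Set G) := L.X.el_mem m
  have h3 : g * y * g⁻¹ ∈ Subgroup.normalizer (S : Set G) := by
    apply L.cy
    rw [Subgroup.mem_centralizer_singleton_iff]
    have h4 : a * b = g * co a b v * g⁻¹ := by rw [hm']; group
    rw [h4]
    calc g * y * g⁻¹ * (g * co a b v * g⁻¹) = g * (y * co a b v) * g⁻¹ := by group
      _ = g * (co a b v * y) * g⁻¹ := by rw [hy]
      _ = _ := by group
  have h5 : y = g⁻¹ * (g * y * g⁻¹) * g := by group
  rw [h5]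
  exact mul_mem (mul_mem (inv_mem hgN) h3) hgN

theorem co_vals (a b : G) : co a b (1, 0) = a ∧ co a b (0, 1) = b ∧ co a b (1, 1) = a * b := by
  refine ⟨?_, ?_, ?_⟩
  · show a ^ 1 * b ^ 0 = a
    rw [pow_one, pow_zero, mul_one]
  · show a ^ 0 * b ^ 1 = b
    rw [pow_one, pow_zero, one_mul]
  · show a ^ 1 * b ^ 1 = a * b
    rw [pow_one, pow_one]

theorem range_a (L : Loc S ρ a b φ) {y : G} (hy : y * a = a * y) : y ∈ φ.range := by
  apply L.norm
  left; rw [hy]; group

theorem X0_mem (L : Loc S ρ a b φ) {x : L0} (hx : x ∈ X0) : φ x ∈ cls a ∧ φ x ∉ S ∧ φ x * a = a * φ x := by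
  obtain ⟨h1, h2, h3, h4, h5⟩ := (Finset.mem_filter.mp hx).2
  refine ⟨?_, ?_, ?_⟩
  · obtain ⟨g, -, hg⟩ := cls3 x h1 h2 h3
    have h6 := Loc.conj_φ φ ⟨g, hg⟩
    rw [L.pa] at h6
    exact L.cj_ab.trans h6.symm
  · intro h
    have h6 := L.X.tis.comm _ h _ L.X.hb
    rw [← L.pa, ← map_mul, ← map_mul] at h6
    exact X0_nc x h1 h2 h3 h4 h5 (L.inj h6)
  · rw [← L.pz, ← map_mul, ← map_mul, X0_comm x h1]

theorem X0_surj (L : Loc S ρ a b φ) {y : G} (hy : y ∈ cls a) (hyS : y ∉ S) (hya : y * a = a * y) : ∃ x ∈ X0, φ x = y := by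
  obtain ⟨x, rfl⟩ := range_a L hya
  have h3 : x * x * x = 1 := by
    apply L.inj
    have := cls_three L.X.a3 _ hy
    rw [map_mul, map_mul, map_one, ← this, pow_succ, sq]
  have hc : x * zL = zL * x := L.inj (by rw [map_mul, map_mul, L.pz, hya])
  rcases X0_cov x hc h3 with ⟨i, j, h⟩ | h | ⟨g, h⟩
  · exfalso
    apply hyS
    rw [h, map_mul, map_pow, map_pow, L.pz, L.pa]
    exact S.mul_mem (S.pow_mem L.X.ha _) (S.pow_mem L.X.hb _)
  · exact ⟨x, Finset.mem_filter.mpr ⟨Finset.mem_univ _, h⟩, rfl⟩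
  · exfalso
    rcases h with h | h
    · have h6 := Loc.conj_φ φ ⟨g, h⟩
      rw [map_mul, L.pz, L.pa] at h6
      exact L.ncj_ab (IsConj.trans hy h6)
    · have h6 := Loc.conj_φ φ ⟨g, h⟩
      rw [map_mul, map_mul, L.pz, L.pa] at h6
      have h7 : a * a * b = co a b (2, 1) := by
        show a * a * b = a ^ 2 * b ^ 1
        rw [pow_one, sq]
      rw [h7] at h6
      have h8 := (mem_cls_a L (2, 1)).mp (IsConj.trans hy h6)
      revert h8; decide

open scoped Classical in
theorem sum_a (L : Loc S ρ a b φ) [Fintype G] (f : G → ℂ) :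
    ∑ y ∈ Finset.univ.filter (fun y => (y ∉ S ∧ y ∈ cls a) ∧ y * a = a * y), f y = ∑ x ∈ X0, f (φ x) := by
  symm
  apply Finset.sum_bij (fun x _ => φ x)
  · intro x hx
    obtain ⟨h1, h2, h3⟩ := X0_mem L hx
    exact Finset.mem_filter.mpr ⟨Finset.mem_univ _, ⟨h2, h1⟩, h3⟩
  · intro x _ y _ h
    exact L.inj h
  · intro y hy
    obtain ⟨⟨h1, h2⟩, h3⟩ := (Finset.mem_filter.mp hy).2
    obtain ⟨x, hx, h⟩ := X0_surj L h2 h1 h3
    exact ⟨x, hx, h⟩
  · intro x _; rfl

open scoped Classical in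
theorem sum_b (L : Loc S ρ a b φ) [Fintype G] {χ : G → ℂ} (hχ : IsClassFunction G χ) :
    ∑ y ∈ Finset.univ.filter (fun y => (y ∉ S ∧ y ∈ cls a) ∧ y * b = b * y), χ (a * b * y) =
    ∑ y ∈ Finset.univ.filter (fun y => (y ∉ S ∧ y ∈ cls a) ∧ y * a = a * y), χ (a * b * y) := by
  set q := ρ (sr 1) with hq
  have hqN : q ∈ Subgroup.normalizer (S : Set G) := L.X.hρ _
  have hqa : q * a * q⁻¹ = b := by rw [hq, L.X.s1a]; group
  have hqb : q * b * q⁻¹ = a := by rw [hq, L.X.s1b]; group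
  have hS : ∀ y, y ∉ S → q * y * q⁻¹ ∉ S := fun y hy h => hy ((Subgroup.mem_normalizer_iff.mp hqN y).mpr h)
  symm
  apply Finset.sum_bij (fun y _ => q * y * q⁻¹)
  · intro y hy
    obtain ⟨⟨h1, h2⟩, h3⟩ := (Finset.mem_filter.mp hy).2
    refine Finset.mem_filter.mpr ⟨Finset.mem_univ _, ⟨hS y h1, cls_inv a y h2 q⟩, ?_⟩
    rw [← hqa]
    calc q * y * q⁻¹ * (q * a * q⁻¹) = q * (y * a) * q⁻¹ := by group
      _ = q * (a * y) * q⁻¹ := by rw [h3]
      _ = _ := by group
  · intro x _ y _ h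
    exact mul_left_cancel (mul_right_cancel h)
  · intro y hy
    obtain ⟨⟨h1, h2⟩, h3⟩ := (Finset.mem_filter.mp hy).2
    refine ⟨q⁻¹ * y * q, Finset.mem_filter.mpr ⟨Finset.mem_univ _, ⟨?_, ?_⟩, ?_⟩, by group⟩
    · intro h
      apply h1
      have := (Subgroup.mem_normalizer_iff.mp hqN _).mp h
      have e : q * (q⁻¹ * y * q) * q⁻¹ = y := by group
      rwa [e] at this
    · have := cls_inv a y h2 q⁻¹
      rwa [inv_inv] at this
    · have hqb' : q⁻¹ * b * q = a := by rw [← hqa]; group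
      rw [← hqb']
      calc q⁻¹ * y * q * (q⁻¹ * b * q) = q⁻¹ * (y * b) * q := by group
        _ = q⁻¹ * (b * y) * q := by rw [h3]
        _ = _ := by group
  · intro y _
    have : a * b * (q * y * q⁻¹) = q * (a * b * y) * q⁻¹ := by
      have h1 : a * b = q * (a * b) * q⁻¹ := by
        calc a * b = b * a := L.X.ab
          _ = (q * a * q⁻¹) * (q * b * q⁻¹) := by rw [hqa, hqb]
          _ = _ := by group
      calc a * b * (q * y * q⁻¹) = (q * (a * b) * q⁻¹) * (q * y * q⁻¹) := by rw [← h1]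
        _ = _ := by group
    rw [this]
    exact (hχ _ _).symm

open scoped Classical in
theorem sum_mod (L : Loc S ρ a b φ) [Fintype G] {χ : G → ℂ} (hχ : IsIrrCharacter G χ) :
    ∃ z : ℂ, IsIntegral ℤ z ∧ SS (cls a) χ * χ (a * b) / χ 1 = 2 * χ a + 2 * χ (a * b) +
      2 * ∑ x ∈ X0, χ (φ (zL * (aL * x))) + 9 * z := by
  classical
  have := Fintype.ofFinite S
  have h1 : SS (cls a) χ * χ (a * b) / χ 1 = ∑ y, (if y ∈ cls a then (1 : ℂ) else 0) * χ (a * b * y) := by
    have := StructConst.sum_mul_irr (a := fun x => if x ∈ cls a then (1 : ℂ) else 0) (by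
      have := indicator_class (cls a) (cls_inv a)
      convert this) hχ (a * b)
    rw [this]
    rfl
  -- the free part
  let Ω := {y : G // (y ∉ S ∧ y ∈ cls a) ∧ ¬ (y * a = a * y) ∧ ¬ (y * b = b * y)}
  have hcomm : ∀ (t : S) (c : G), c ∈ S → ∀ y : G, ((t : G) * y * (t : G)⁻¹) * c = c * ((t : G) * y * (t : G)⁻¹) → y * c = c * y := by
    intro t c hc y h
    have h2 := L.X.tis.comm c hc t t.2
    have h3 : (t : G)⁻¹ * c * t = c := by
      calc (t : G)⁻¹ * c * t = (t : G)⁻¹ * (c * t) := by group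
        _ = (t : G)⁻¹ * (t * c) := by rw [h2]
        _ = c := by group
    calc y * c = y * ((t : G)⁻¹ * c * t) := by rw [h3]
      _ = (t : G)⁻¹ * (((t : G) * y * (t : G)⁻¹) * c) * t := by group
      _ = (t : G)⁻¹ * (c * ((t : G) * y * (t : G)⁻¹)) * t := by rw [h]
      _ = ((t : G)⁻¹ * c * t) * y := by group
      _ = c * y := by rw [h3]
  letI act : MulAction S Ω :=
    { smul := fun t y => ⟨(t : G) * y.1 * (t : G)⁻¹, by
        refine ⟨⟨fun h => y.2.1.1 ?_, cls_inv a _ y.2.1.2 _⟩, fun h => y.2.2.1 (hcomm t a L.X.ha _ h), fun h => y.2.2.2 (hcomm t b L.X.hb _ h)⟩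
        have h2 : y.1 = (t : G)⁻¹ * ((t : G) * y.1 * (t : G)⁻¹) * t := by group
        rw [h2]
        exact S.mul_mem (S.mul_mem (S.inv_mem t.2) h) t.2⟩
      one_smul := fun y => Subtype.ext (by
        show ((1 : S) : G) * y.1 * ((1 : S) : G)⁻¹ = y.1
        simp)
      mul_smul := fun s t y => Subtype.ext (by
        show ((s * t : S) : G) * y.1 * ((s * t : S) : G)⁻¹ = (s : G) * ((t : G) * y.1 * (t : G)⁻¹) * (s : G)⁻¹
        push_cast; group) }
  have hfree : ∀ (t : S) (y : Ω), t • y = y → t = 1 := by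
    intro t y h
    by_contra ht
    have ht1 : (t : G) ≠ 1 := fun h => ht (Subtype.ext h)
    have h2 : (t : G) * y.1 * (t : G)⁻¹ = y.1 := congrArg Subtype.val h
    have h3 : y.1 * (t : G) = t * y.1 := by
      calc y.1 * (t : G) = ((t : G) * y.1 * (t : G)⁻¹) * t := by rw [h2]
        _ = t * y.1 := by group
    obtain ⟨v, hv⟩ := L.X.exists_co t.2
    have key : ∀ c : G, c ^ 3 = 1 → ∀ n : ZMod 3, n ≠ 0 → y.1 * c ^ n.val = c ^ n.val * y.1 → y.1 * c = c * y.1 := by
      intro c hc n hn h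
      have hn' : n = 1 ∨ n = 2 := (by decide : ∀ n : ZMod 3, n ≠ 0 → n = 1 ∨ n = 2) n hn
      rcases hn' with rfl | rfl
      · have e : c ^ (1 : ZMod 3).val = c := pow_one _
        rwa [e] at h
      · have e : c ^ (2 : ZMod 3).val = c⁻¹ := by
          show c ^ 2 = c⁻¹
          rw [eq_inv_iff_mul_eq_one, ← pow_succ]; exact hc
        rw [e] at h
        calc y.1 * c = c * (c⁻¹ * y.1) * c := by group
          _ = c * (y.1 * c⁻¹) * c := by rw [h]
          _ = _ := by group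
    by_cases hv2 : v.2 = 0
    · have h4 : (t : G) = a ^ v.1.val := by
        rw [← hv]; unfold co; rw [hv2, ZMod.val_zero, pow_zero, mul_one]
      have hv1 : v.1 ≠ 0 := by
        intro h5
        rw [h5, ZMod.val_zero, pow_zero] at h4
        exact ht1 h4
      rw [h4] at h3
      exact y.2.2.1 (key a L.X.a3 v.1 hv1 h3)
    · by_cases hv1 : v.1 = 0
      · have h4 : (t : G) = b ^ v.2.val := by
          rw [← hv]; unfold co; rw [hv1, ZMod.val_zero, pow_zero, one_mul]
        rw [h4] at h3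
        exact y.2.2.2 (key b L.X.b3 v.2 hv2 h3)
      · rw [← hv] at h3
        exact y.2.1.1 (L.X.tis.mem_of_pow (cent_w L hv1 hv2 h3) (cls_three L.X.a3 _ y.2.1.2))
  obtain ⟨z, hz, hz'⟩ := free_sum (P := S) (Ω := Ω) hfree (fun y => χ (a * b * y.1)) (by
      intro t y
      show χ (a * b * ((t : G) * y.1 * (t : G)⁻¹)) = χ (a * b * y.1)
      have : a * b * ((t : G) * y.1 * (t : G)⁻¹) = (t : G) * (a * b * y.1) * (t : G)⁻¹ := by
        have h4 := L.X.tis.comm (a * b) L.ab_mem t t.2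
        calc a * b * ((t : G) * y.1 * (t : G)⁻¹) = (a * b * t) * y.1 * (t : G)⁻¹ := by group
          _ = _ := by rw [h4]; group
      rw [this]
      exact hχ.isClassFunction _ _)
    (fun y => H76Char.isIntegral_of_isCharacter hχ.isCharacter _)
  refine ⟨z, hz, ?_⟩
  rw [h1]
  have hcard : (Nat.card S : ℂ) = 9 := by rw [L.X.card_S]; norm_num
  rw [hcard] at hz'
  rw [← hz']
  -- split the sum
  have hsplit : ∑ y, (if y ∈ cls a then (1 : ℂ) else 0) * χ (a * b * y) =
      ∑ y : S, (if (y : G) ∈ cls a then (1 : ℂ) else 0) * χ (a * b * y) +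
      ∑ y ∈ Finset.univ.filter (fun y => y ∉ S ∧ y ∈ cls a), χ (a * b * y) := by
    rw [← Finset.sum_filter_add_sum_filter_not Finset.univ (fun y => y ∈ S)]
    congr 1
    · rw [Finset.sum_subtype (p := fun y => y ∈ S) _ (by intro x; simp)]
    · rw [← Finset.sum_filter_add_sum_filter_not (Finset.univ.filter (fun y => ¬ y ∈ S)) (fun y => y ∈ cls a)]
      have h6 : ∑ x ∈ (Finset.univ.filter (fun y => ¬ y ∈ S)).filter (fun y => ¬ y ∈ cls a), (if x ∈ cls a then (1 : ℂ) else 0) * χ (a * b * x) = 0 := by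
        apply Finset.sum_eq_zero
        intro x hx
        rw [Finset.mem_filter] at hx
        rw [if_neg hx.2, zero_mul]
      rw [h6, add_zero]
      apply Finset.sum_congr
      · ext x; simp
      · intro x hx
        rw [Finset.mem_filter] at hx
        have : x ∈ cls a := by
          simp at hx
          tauto
        rw [if_pos this, one_mul]
  have hsplit2 : ∑ y ∈ Finset.univ.filter (fun y => y ∉ S ∧ y ∈ cls a), χ (a * b * y) =
      ∑ y ∈ Finset.univ.filter (fun y => (y ∉ S ∧ y ∈ cls a) ∧ y * a = a * y), χ (a * b * y) +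
      (∑ y ∈ Finset.univ.filter (fun y => (y ∉ S ∧ y ∈ cls a) ∧ y * b = b * y), χ (a * b * y) +
      ∑ y ∈ Finset.univ.filter (fun y => (y ∉ S ∧ y ∈ cls a) ∧ ¬ (y * a = a * y) ∧ ¬ (y * b = b * y)), χ (a * b * y)) := by
    rw [← Finset.sum_filter_add_sum_filter_not (Finset.univ.filter (fun y => y ∉ S ∧ y ∈ cls a)) (fun y => y * a = a * y),
      Finset.filter_filter, Finset.filter_filter]
    congr 1
    rw [← Finset.sum_filter_add_sum_filter_not (Finset.univ.filter (fun y => (y ∉ S ∧ y ∈ cls a) ∧ ¬ y * a = a * y)) (fun y => y * b = b * y),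
      Finset.filter_filter, Finset.filter_filter]
    congr 1
    · apply Finset.sum_congr
      · ext y
        simp only [Finset.mem_filter, Finset.mem_univ, true_and]
        constructor
        · rintro ⟨⟨h1, h2⟩, h3⟩
          exact ⟨h1, h3⟩
        · rintro ⟨h1, h3⟩
          refine ⟨⟨h1, fun h2 => h1.1 ?_⟩, h3⟩
          apply L.X.CS
          rw [Subgroup.mem_centralizer_iff]
          intro t ht
          obtain ⟨i, j, rfl⟩ := L.X.gen t ht
          have c1 : Commute y a := h2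
          have c2 : Commute y b := h3
          exact ((c1.zpow_right i).mul_right (c2.zpow_right j)).eq.symm
      · intro x _; rfl
    · apply Finset.sum_congr
      · ext y
        simp only [Finset.mem_filter, Finset.mem_univ, true_and]
        tauto
      · intro x _; rfl
  have hab' : ∀ x : L0, a * b * φ x = φ (zL * (aL * x)) := by
    intro x
    rw [map_mul, map_mul, L.pz, L.pa, mul_assoc]
  rw [hsplit, hsplit2, sum_b L hχ.isClassFunction, sum_a L (fun y => χ (a * b * y))]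
  have hΩ : ∑ y ∈ Finset.univ.filter (fun y => (y ∉ S ∧ y ∈ cls a) ∧ ¬ (y * a = a * y) ∧ ¬ (y * b = b * y)), χ (a * b * y) =
      ∑ y : Ω, χ (a * b * y.1) := by
    rw [Finset.sum_subtype (p := fun y => (y ∉ S ∧ y ∈ cls a) ∧ ¬ (y * a = a * y) ∧ ¬ (y * b = b * y)) _ (by intro x; simp)]
  rw [hΩ]
  have hSS : ∑ y : S, (if (y : G) ∈ cls a then (1 : ℂ) else 0) * χ (a * b * y) = 2 * χ a + 2 * χ (a * b) := by
    rw [L.X.sum_S (fun y => (if y ∈ cls a then (1 : ℂ) else 0) * χ (a * b * y))]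
    have hcls : ∀ v : V, (if co a b v ∈ cls a then (1 : ℂ) else 0) * χ (a * b * co a b v) =
        if (v ≠ 0 ∧ (v.1 = 0 ∨ v.2 = 0)) then χ (co a b ((1, 1) + v)) else 0 := by
      intro v
      rw [L.X.co_add, (co_vals a b).2.2]
      by_cases h : v ≠ 0 ∧ (v.1 = 0 ∨ v.2 = 0)
      · rw [if_pos ((mem_cls_a L v).mpr h), if_pos h, one_mul]
      · rw [if_neg (fun h' => h ((mem_cls_a L v).mp h')), if_neg h, zero_mul]
    rw [Finset.sum_congr rfl fun v _ => hcls v, sumV]
    rw [if_neg (by decide), if_pos (by decide), if_pos (by decide), if_pos (by decide), if_neg (by decide), if_neg (by decide),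
      if_pos (by decide), if_neg (by decide), if_neg (by decide)]
    have hee : ∀ v : V, el ρ a b (v, 1) = co a b v := fun v => by unfold el; rw [map_one, mul_one]
    have hww : ∀ v : V, v.1 ≠ 0 → v.2 ≠ 0 → χ (co a b v) = χ (a * b) := by
      intro v h1 h2
      have h3 := L.X.el_conj (cj_w v h1 h2)
      rw [Loc.el_ww, hee] at h3
      exact (hχ.isClassFunction.conj_eq h3).symm
    have haa : ∀ v : V, v ≠ 0 → (v.1 = 0 ∨ v.2 = 0) → χ (co a b v) = χ a := by
      intro v h1 h2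
      exact (hχ.isClassFunction.conj_eq ((mem_cls_a L v).mpr ⟨h1, h2⟩)).symm
    rw [hww ((1, 1) + (0, 1)) (by decide) (by decide), haa ((1, 1) + (0, 2)) (by decide) (by decide),
      hww ((1, 1) + (1, 0)) (by decide) (by decide), haa ((1, 1) + (2, 0)) (by decide) (by decide)]
    ring
  rw [hSS, Finset.sum_congr rfl fun x _ => by rw [hab' x]]
  ring

end Cfsg.Agent.Lib.H25X
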