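import Cfsg.Agent.Lib.H25Xk
import Cfsg.Agent.Lib.H25Xl

/-!
# Classification of the nine characters for `A₈` (helper25)
-/

set_option autoImplicit false
set_option linter.all false
set_option maxHeartbeats 1000000
set_option synthInstance.maxHeartbeats 4000000
set_option synthInstance.maxSize 100000

namespace Cfsg.Agent.Lib.H25X

open Cfsg Cfsg.Agent.Lib.CharBasic Cfsg.Agent.Lib.H25Nine Cfsg.Agent.Lib.H25W Cfsg.Agent.Lib.BlockRing DihedralGroup
open scoped ComplexConjugate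

universe u

section ints

def hyp (U V W X e g : ℤ) : Bool :=
  (U * U + 3 * (V * V) + W * W + 3 * (X * X) + 3 * (e * e) + 9 * (g * g) ≤ 18) ∧ (V - U) % 2 = 0 ∧ (X - W) % 2 = 0 ∧ (U - W) % 3 = 0 ∧
  (e - g) % 2 = 0 ∧ (U = 0 → V = 0 → e = 0 → g = 0 → (14 * W) % 9 = 0) ∧ (U = 0 → V = 0 → e = 0 → g = 0 → W = 0 → X = 0)

def con1 (U V W X : ℤ) : Bool := W * W + 3 * (X * X) ≤ U * U + 3 * (V * V)
def con2 (U V W X e g : ℤ) : Bool := W * W + 3 * (X * X) = U * U + 3 * (V * V) → (good U V W X = true ∧ (U ≠ 0 → e = 0 ∧ g = 0))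

set_option maxRecDepth 1000000 in
theorem dec12 : ∀ (a : Fin 9) (b : Fin 5) (c : Fin 9) (d e : Fin 5) (f : Fin 3), hyp ((a : ℤ) - 4) ((b : ℤ) - 2) ((c : ℤ) - 4) ((d : ℤ) - 2) ((e : ℤ) - 2) ((f : ℤ) - 1) = true →
    con1 ((a : ℤ) - 4) ((b : ℤ) - 2) ((c : ℤ) - 4) ((d : ℤ) - 2) = true ∧ con2 ((a : ℤ) - 4) ((b : ℤ) - 2) ((c : ℤ) - 4) ((d : ℤ) - 2) ((e : ℤ) - 2) ((f : ℤ) - 1) = true := by decide +kernel

theorem ints {U V W X e g : ℤ} (h : hyp U V W X e g = true) : con1 U V W X = true ∧ con2 U V W X e g = true := by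
  have hb : U * U + 3 * (V * V) + W * W + 3 * (X * X) + 3 * (e * e) + 9 * (g * g) ≤ 18 := by
    unfold hyp at h
    rw [decide_eq_true_eq] at h
    exact h.1
  have sU := mul_self_nonneg U
  have sV := mul_self_nonneg V
  have sW := mul_self_nonneg W
  have sX := mul_self_nonneg X
  have se := mul_self_nonneg e
  have sg := mul_self_nonneg g
  have k9 : ∀ x : ℤ, x * x ≤ 18 → ∃ a : Fin 9, x = (a : ℤ) - 4 := by
    intro x hx
    have h1 : x ≤ 4 := by nlinarith
    have h2 : -4 ≤ x := by nlinarith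
    refine ⟨⟨(x + 4).toNat, by omega⟩, ?_⟩
    simp only
    omega
  have k5 : ∀ x : ℤ, x * x ≤ 6 → ∃ a : Fin 5, x = (a : ℤ) - 2 := by
    intro x hx
    have h1 : x ≤ 2 := by nlinarith
    have h2 : -2 ≤ x := by nlinarith
    refine ⟨⟨(x + 2).toNat, by omega⟩, ?_⟩
    simp only
    omega
  have k3 : ∀ x : ℤ, x * x ≤ 2 → ∃ a : Fin 3, x = (a : ℤ) - 1 := by
    intro x hx
    have h1 : x ≤ 1 := by nlinarith
    have h2 : -1 ≤ x := by nlinarith
    refine ⟨⟨(x + 1).toNat, by omega⟩, ?_⟩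
    simp only
    omega
  obtain ⟨a, rfl⟩ := k9 U (by omega)
  obtain ⟨b, rfl⟩ := k5 V (by omega)
  obtain ⟨c, rfl⟩ := k9 W (by omega)
  obtain ⟨d, rfl⟩ := k5 X (by omega)
  obtain ⟨e', rfl⟩ := k5 e (by omega)
  obtain ⟨f, rfl⟩ := k3 g (by omega)
  exact dec12 a b c d e' f h

end ints

variable {G : Type u} [Group G] [Finite G] {S : Subgroup G} {ρ : D →* G} {a b : G} {φ : L0 →* G}
variable {s : ℂ} {d U e g Ww W' : IrrCharacter G → ℤ}

theorem val_a (L : Loc S ρ a b φ) (hv : VA ρ a b φ s d U e g Ww W') (χ : IrrCharacter G) :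
    (χ : G → ℂ) a = ((4 * U χ - 3 * d χ + 3 * e χ : ℤ) : ℂ) := by
  rw [← L.pz, hv.z0]; push_cast; ring

theorem val_ab (hv : VA ρ a b φ s d U e g Ww W') (χ : IrrCharacter G) : (χ : G → ℂ) (a * b) = Ww χ := by
  rw [← hv.hW, Loc.el_ww]

theorem cong_U (L : Loc S ρ a b φ) (hv : VA ρ a b φ s d U e g Ww W') (χ : IrrCharacter G) :
    (3 : ℤ) ∣ U χ - charDegree (χ : G → ℂ) := by
  have o : orderOf a = 3 := orderOf_eq_prime L.X.a3 L.X.ha1
  obtain ⟨n, hn, hn'⟩ := real_three χ.2.isCharacter o L.real_a (H76Char.charDegree_eq χ.2.isCharacter).symm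
  rw [val_a L hv] at hn
  have : 4 * U χ - 3 * d χ + 3 * e χ = n := by exact_mod_cast hn
  omega

theorem cong_W (L : Loc S ρ a b φ) (hv : VA ρ a b φ s d U e g Ww W') (χ : IrrCharacter G) :
    (3 : ℤ) ∣ Ww χ - charDegree (χ : G → ℂ) := by
  have o : orderOf (a * b) = 3 := orderOf_eq_prime (L.X.tis.exp _ L.ab_mem) L.ab_ne
  obtain ⟨n, hn, hn'⟩ := real_three χ.2.isCharacter o L.real_ab (H76Char.charDegree_eq χ.2.isCharacter).symm
  rw [val_ab hv] at hn
  have : Ww χ = n := by exact_mod_cast hn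
  rw [this]; exact hn'

theorem cong_WW' (L : Loc S ρ a b φ) (hv : VA ρ a b φ s d U e g Ww W') (χ : IrrCharacter G) : (2 : ℤ) ∣ W' χ - Ww χ := by
  have h : el ρ a b wq = el ρ a b ww * el ρ a b (0, sr 1) := by rw [← L.X.el_mul]; rfl
  apply cong2 χ.2.isCharacter (c := el ρ a b ww) (s := el ρ a b (0, sr 1)) (L.X.ord3 (by decide) (by decide))
  · rw [← L.X.el_mul, ← L.X.el_one]; exact congrArg _ (by decide)
  · rw [← L.X.el_mul, ← L.X.el_mul]; exact congrArg _ (by decide)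
  · rw [← h]; exact hv.hW' χ
  · exact hv.hW χ

theorem cong_eg (hv : VA ρ a b φ s d U e g Ww W') (χ : IrrCharacter G) : (e χ - g χ) % 2 = 0 := by
  have h1 : IsIntegral ℤ ((χ : G → ℂ) (φ (zL * fL)) * (χ : G → ℂ) (φ (zL * (fL * fL)))) :=
    (H76Char.isIntegral_of_isCharacter χ.2.isCharacter _).mul (H76Char.isIntegral_of_isCharacter χ.2.isCharacter _)
  set F : ℤ := 4 * d χ - 2 * U χ + e χ with hF
  have h2 : 4 * ((χ : G → ℂ) (φ (zL * fL)) * (χ : G → ℂ) (φ (zL * (fL * fL)))) = ((F ^ 2 + 15 * g χ ^ 2 : ℤ) : ℂ) := by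
    have e1 := hv.z2 χ
    have e2 := hv.z3 χ
    have : 4 * ((χ : G → ℂ) (φ (zL * fL)) * (χ : G → ℂ) (φ (zL * (fL * fL)))) = (2 * (χ : G → ℂ) (φ (zL * fL))) * (2 * (χ : G → ℂ) (φ (zL * (fL * fL)))) := by ring
    rw [this, e1, e2, hF]
    push_cast
    linear_combination (-(g χ : ℂ) ^ 2) * hv.hs
  obtain ⟨n, hn⟩ := CharCentral.exists_int_of_isIntegral_rat h1 ((F ^ 2 + 15 * g χ ^ 2) / 4 : ℚ) (by
    push_cast at h2 ⊢
    linear_combination (1 / 4 : ℂ) * h2)
  rw [hn] at h2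
  have h3 : 4 * n = F ^ 2 + 15 * g χ ^ 2 := by exact_mod_cast h2
  have h4 : (F + g χ) % 2 = 0 := by
    have h5 : (F + g χ) ^ 2 = 4 * n - 14 * g χ ^ 2 + 2 * F * g χ := by linear_combination -h3
    have h6 : (2 : ℤ) ∣ (F + g χ) ^ 2 := by
      rw [h5]
      exact ⟨2 * n - 7 * g χ ^ 2 + F * g χ, by ring⟩
    exact Int.emod_eq_zero_of_dvd (Int.prime_two.dvd_of_dvd_pow h6)
  omega

theorem cong9 (L : Loc S ρ a b φ) (hv : VA ρ a b φ s d U e g Ww W') (χ : IrrCharacter G) :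
    (9 : ℤ) ∣ charDegree (χ : G → ℂ) + 4 * (4 * U χ - 3 * d χ + 3 * e χ) + 4 * Ww χ := by
  classical
  have := Fintype.ofFinite G
  have := Fintype.ofFinite S
  obtain ⟨n, hn⟩ := sum_subgroup χ.2.isCharacter S
  rw [L.X.sum_S, sumV, L.X.card_S] at hn
  have hee : ∀ v : V, el ρ a b (v, 1) = co a b v := fun v => by unfold el; rw [map_one, mul_one]
  have hww : ∀ v : V, v.1 ≠ 0 → v.2 ≠ 0 → (χ : G → ℂ) (co a b v) = Ww χ := by
    intro v h1 h2
    have h3 := L.X.el_conj (cj_w v h1 h2)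
    rw [hee] at h3
    rw [← hv.hW]
    exact (χ.2.isClassFunction.conj_eq h3).symm
  have haa : ∀ v : V, v ≠ 0 → (v.1 = 0 ∨ v.2 = 0) → (χ : G → ℂ) (co a b v) = ((4 * U χ - 3 * d χ + 3 * e χ : ℤ) : ℂ) := by
    intro v h1 h2
    rw [← val_a L hv]
    exact (χ.2.isClassFunction.conj_eq ((mem_cls_a L v).mpr ⟨h1, h2⟩)).symm
  have h00 : co a b (0, 0) = 1 := by simp [co]
  have e1 : (χ : G → ℂ) 1 = charDegree (χ : G → ℂ) := (H76Char.charDegree_eq χ.2.isCharacter).symm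
  rw [h00, e1, haa (0, 1) (by decide) (by decide), haa (0, 2) (by decide) (by decide), haa (1, 0) (by decide) (by decide),
    hww (1, 1) (by decide) (by decide), hww (1, 2) (by decide) (by decide), haa (2, 0) (by decide) (by decide),
    hww (2, 1) (by decide) (by decide), hww (2, 2) (by decide) (by decide)] at hn
  have h2 : ((charDegree (χ : G → ℂ) + 4 * (4 * U χ - 3 * d χ + 3 * e χ) + 4 * Ww χ : ℤ) : ℂ) = ((9 * n : ℤ) : ℂ) := by
    push_cast at hn ⊢
    linear_combination hn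
  exact ⟨n, by exact_mod_cast h2⟩

/-- the contribution of the non-free elements when the values at the first type vanish -/
theorem sum_X0 (L : Loc S ρ a b φ) {χ : G → ℂ} (hχ : IsClassFunction G χ) (h1 : χ (φ (zL * tL)) = 0)
    (h2 : χ (φ (zL * fL)) = 0) (h3 : χ (φ (zL * (fL * fL))) = 0) :
    ∑ x ∈ X0, χ (φ (zL * (aL * x))) = 6 * χ (a * b) := by
  have haL3 : aL * aL * aL = 1 := conj_vals.2.2.1
  have key : ∀ x ∈ X0, χ (φ (zL * (aL * x))) = if (aL * x * (aL * x) * (aL * x) = 1) then χ (a * b) else 0 := by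
    intro x hx
    obtain ⟨q1, q2, q3, q4, q5⟩ := (Finset.mem_filter.mp hx).2
    have hw1 : (aL * x).1.1 = 1 := by
      show (1 : S3) * x.1.1 = 1
      rw [q1, one_mul]
    have hc : ∀ (w y g : L0), g * zL = zL * g → g * w = y * g → χ (φ (zL * w)) = χ (φ (zL * y)) := by
      intro w y g hg hwy
      apply hχ.conj_eq
      apply Loc.conj_φ
      refine ⟨g, ?_⟩
      rw [← mul_assoc, hg, mul_assoc, hwy, mul_assoc]
    have hcube : ∀ (w y g : L0), g * w = y * g → (w * w * w = 1 ↔ y * y * y = 1) := by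
      intro w y g hwy
      have e1 : y = g * w * g⁻¹ := by rw [hwy]; group
      rw [e1]
      have e2 : g * w * g⁻¹ * (g * w * g⁻¹) * (g * w * g⁻¹) = g * (w * w * w) * g⁻¹ := by group
      rw [e2]
      constructor
      · intro h; rw [h]; group
      · intro h; exact conj_eq_one_iff.mp h
    rcases cls5 (aL * x) hw1 with h | ⟨g, hg, h | h | h | h⟩
    · exfalso
      apply q5
      have : x = aL * aL * (aL * x) := by rw [← mul_assoc, haL3, one_mul]
      rw [this, h, mul_one]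
    · rw [hc _ _ g hg h, h1, if_neg]
      rw [hcube _ _ g h]; decide
    · rw [hc _ _ g hg h, if_pos ((hcube _ _ g h).mpr haL3), map_mul, L.pz, L.pa]
    · rw [hc _ _ g hg h, h2, if_neg]
      rw [hcube _ _ g h]; decide
    · rw [hc _ _ g hg h, h3, if_neg]
      rw [hcube _ _ g h]; decide
  have h4 : (X0.filter (fun x => aL * x * (aL * x) * (aL * x) = 1)).card = 6 := by
    rw [← cnt_c5.1]
    unfold X0
    rw [Finset.filter_filter]
    apply congrArg
    apply Finset.filter_congr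
    intro x _
    tauto
  rw [Finset.sum_congr rfl key, ← Finset.sum_filter, Finset.sum_const, nsmul_eq_mul, h4]
  norm_num

theorem dvd_of_integral' {n : ℤ} {z : ℂ} (hz : IsIntegral ℤ z) (h : (0 : ℂ) = n + 9 * z) : (9 : ℤ) ∣ n := by
  obtain ⟨k, hk⟩ := CharCentral.exists_int_of_isIntegral_rat hz (-n / 9 : ℚ) (by
    push_cast
    linear_combination (-1 / 9 : ℂ) * h)
  rw [hk] at h
  have : (0 : ℤ) = n + 9 * k := by exact_mod_cast h
  exact ⟨-k, by linarith⟩

theorem zero_case (L : Loc S ρ a b φ) (hv : VA ρ a b φ s d U e g Ww W') (χ : IrrCharacter G) (hU : U χ = 0)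
    (hd : 2 * d χ - U χ = 0) (he : e χ = 0) (hg : g χ = 0) : (14 * Ww χ) % 9 = 0 := by
  have := Fintype.ofFinite G
  have hd' : d χ = 0 := by omega
  have e0 : (χ : G → ℂ) a = 0 := by rw [val_a L hv, hU, hd', he]; norm_num
  have e1 : (χ : G → ℂ) (φ (zL * tL)) = 0 := by rw [hv.z1, hd', he]; norm_num
  have e2 : (χ : G → ℂ) (φ (zL * fL)) = 0 := by
    have := hv.z2 χ
    rw [hU, hd', he, hg] at this
    push_cast at this
    linear_combination (1 / 2 : ℂ) * this
  have e3 : (χ : G → ℂ) (φ (zL * (fL * fL))) = 0 := by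
    have := hv.z3 χ
    rw [hU, hd', he, hg] at this
    push_cast at this
    linear_combination (1 / 2 : ℂ) * this
  obtain ⟨z, hz, h⟩ := sum_mod L χ.2
  rw [SS_zero χ.2.isClassFunction e0, sum_X0 L χ.2.isClassFunction e1 e2 e3, e0, val_ab hv, zero_mul, zero_div] at h
  have h2 : (9 : ℤ) ∣ 14 * Ww χ := by
    apply dvd_of_integral' hz
    push_cast
    linear_combination h
  omega

theorem zero_case' (L : Loc S ρ a b φ) (hv : VA ρ a b φ s d U e g Ww W') (χ : IrrCharacter G) (hU : U χ = 0)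
    (hd : 2 * d χ - U χ = 0) (he : e χ = 0) (hg : g χ = 0) (hW : Ww χ = 0) : W' χ = 0 := by
  have o4 := L.X.ord6 (τ := wq) (c := ww) (s := (0, sr 1)) (by decide) (by decide) (by decide) (by decide) (by decide) (by decide)
  have hf : Fact (Nat.Prime 3) := ⟨Nat.prime_three⟩
  obtain ⟨M, hM⟩ := H76Char.exists_isPModular 3
  have hd' : d χ = 0 := by omega
  have h2 := cong9 L hv χ
  rw [hU, hd', he, hW] at h2
  have h3 : 9 ∣ charDegree (χ : G → ℂ) := by
    simp at h2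
    exact_mod_cast h2
  have hd := BlockDefect.charDegree_spec χ.2
  have hfac : (Nat.card G).factorization 3 ≤ (charDegree (χ : G → ℂ)).factorization 3 := by
    obtain ⟨P, hP⟩ := L.X.tis.sylow
    have h4 : Nat.card (P : Subgroup G) = 3 ^ (Nat.card G).factorization 3 := P.card_eq_multiplicity
    rw [hP, L.X.card_S] at h4
    have h5 : (Nat.card G).factorization 3 = 2 := by
      have : 3 ^ (Nat.card G).factorization 3 = 3 ^ 2 := by rw [← h4]; norm_num
      exact Nat.pow_right_injective (le_refl 2 |> fun _ => by norm_num) this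
    rw [h5]
    exact (Nat.prime_three.pow_dvd_iff_le_factorization hd.2).mp (by norm_num; exact h3)
  have h6 := BlockVal.defect_zero_vanish hM hfac (g := el ρ a b wq) (by rw [o4]; norm_num)
  rw [hv.hW'] at h6
  exact_mod_cast h6

theorem hyp_all (L : Loc S ρ a b φ) (hv : VA ρ a b φ s d U e g Ww W') (χ : IrrCharacter G) :
    hyp (U χ) (2 * d χ - U χ) (Ww χ) (W' χ) (e χ) (g χ) = true := by
  unfold hyp
  rw [decide_eq_true_eq]
  have h2 := cong_WW' L hv χ
  have h3 := cong_U L hv χ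
  have h4 := cong_W L hv χ
  refine ⟨bound6 (orth6 L hv) χ, by omega, by omega, by omega, cong_eg hv χ, zero_case L hv χ, zero_case' L hv χ⟩

theorem equal_all (L : Loc S ρ a b φ) (hv : VA ρ a b φ s d U e g Ww W') (χ : IrrCharacter G) :
    Ww χ * Ww χ + 3 * (W' χ * W' χ) = U χ * U χ + 3 * ((2 * d χ - U χ) * (2 * d χ - U χ)) := by
  have h1 : ∀ χ : IrrCharacter G, 0 ≤ (U χ * U χ + 3 * ((2 * d χ - U χ) * (2 * d χ - U χ))) - (Ww χ * Ww χ + 3 * (W' χ * W' χ)) := by
    intro χ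
    have h2 := (ints (hyp_all L hv χ)).1
    unfold con1 at h2
    rw [decide_eq_true_eq] at h2
    omega
  have h2 : ∑ χ, ((U χ * U χ + 3 * ((2 * d χ - U χ) * (2 * d χ - U χ))) - (Ww χ * Ww χ + 3 * (W' χ * W' χ))) = 0 := by
    rw [Finset.sum_sub_distrib, Finset.sum_add_distrib, Finset.sum_add_distrib, ← Finset.mul_sum, ← Finset.mul_sum]
    have o := orth6 L hv
    rw [o.uu, o.vv, o.ww, o.xx]
    norm_num
  have h3 := (Finset.sum_eq_zero_iff_of_nonneg (fun χ _ => h1 χ)).mp h2 χ (Finset.mem_univ _)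
  omega

theorem con_all (L : Loc S ρ a b φ) (hv : VA ρ a b φ s d U e g Ww W') (χ : IrrCharacter G) :
    good (U χ) (2 * d χ - U χ) (Ww χ) (W' χ) = true ∧ (U χ ≠ 0 → e χ = 0 ∧ g χ = 0) := by
  have h2 := (ints (hyp_all L hv χ)).2
  unfold con2 at h2
  rw [decide_eq_true_eq] at h2
  exact h2 (equal_all L hv χ)

open scoped Classical in
theorem exists_gridX (L : Loc S ρ a b φ) (hv : VA ρ a b φ s d U e g Ww W') :
    ∃ (X : T9 → IrrCharacter G) (ε : T9 → ℤ), Grid U (fun χ => 2 * d χ - U χ) Ww W' X ε :=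
  exists_grid (orth6 L hv).toOrth (fun χ _ => (con_all L hv χ).1)

end Cfsg.Agent.Lib.H25X
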