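import Cfsg.Agent.Lib.H25Xm
import Cfsg.Agent.Lib.H25Xb
import Cfsg.Agent.Lib.H25Wl

/-!
# The Gram matrices for `A₈` (helper25)
-/

set_option autoImplicit false
set_option linter.all false
set_option maxHeartbeats 4000000

namespace Cfsg.Agent.Lib.H25X

open Cfsg Cfsg.Agent.Lib.CharBasic Cfsg.Agent.Lib.H25Nine Cfsg.Agent.Lib.H25W Cfsg.Agent.Lib.BlockRing DihedralGroup
open scoped ComplexConjugate
open Loc (col ccn)

universe u

variable {G : Type u} [Group G] [Finite G] {S : Subgroup G} {ρ : D →* G} {a b : G} {φ : L0 →* G}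
variable {s : ℂ} {d U e g Ww W' : IrrCharacter G → ℤ}

theorem col_ten (L : Loc S ρ a b φ) (i : Fin 6) : col ρ a b φ i ^ 10 ≠ 1 := by
  obtain ⟨p0, p1, p2, p3, p4, p5⟩ := L.col_pow
  have ha := L.X.ha1
  have hab := L.ab_ne
  fin_cases i
  · show φ zL ^ 10 ≠ 1
    rw [p0]; exact ha
  · show φ (zL * tL) ^ 10 ≠ 1
    rw [p1]; exact ha
  · show φ (zL * fL) ^ 10 ≠ 1
    rw [p2]; exact ha
  · show φ (zL * (fL * fL)) ^ 10 ≠ 1
    rw [p3]; exact ha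
  · show el ρ a b ww ^ 10 ≠ 1
    rw [p4]; exact hab
  · show el ρ a b wq ^ 10 ≠ 1
    rw [p5]; exact hab

theorem comb_one (L : Loc S ρ a b φ) {f : IrrCharacter G → ℤ} {α : Fin 6 → ℚ} (hf : IsComb ρ a b φ (fun χ => f χ) α) :
    ∑ χ : IrrCharacter G, (f χ : ℂ) * (χ : G → ℂ) 1 = 0 := by
  have hf' : ∀ χ : IrrCharacter G, (f χ : ℂ) = ∑ i, (α i : ℂ) * (χ : G → ℂ) (col ρ a b φ i) := hf
  rw [Finset.sum_congr rfl fun χ _ => by rw [hf' χ, Finset.sum_mul], Finset.sum_comm]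
  apply Finset.sum_eq_zero
  intro i _
  have h0 : col ρ a b φ i ≠ 1 := by
    intro h
    apply col_ten L i
    rw [h, one_pow]
  have h1 := sum_degree_mul _ h0
  have h2 : ∀ χ : IrrCharacter G, (α i : ℂ) * (χ : G → ℂ) (col ρ a b φ i) * (χ : G → ℂ) 1 = (α i : ℂ) * ((χ : G → ℂ) 1 * (χ : G → ℂ) (col ρ a b φ i)) := fun χ => by ring
  rw [Finset.sum_congr rfl fun χ _ => h2 χ, ← Finset.mul_sum, h1, mul_zero]

theorem comb_SS [Fintype G] (L : Loc S ρ a b φ) {f : IrrCharacter G → ℤ} {α : Fin 6 → ℚ} (hf : IsComb ρ a b φ (fun χ => f χ) α)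
    (A : Set G) (hA : ∀ x ∈ A, x * x = 1 ∧ x ≠ 1) :
    ∑ χ : IrrCharacter G, (f χ : ℂ) * SS A (χ : G → ℂ) = 0 := by
  classical
  have hf' : ∀ χ : IrrCharacter G, (f χ : ℂ) = ∑ i, (α i : ℂ) * (χ : G → ℂ) (col ρ a b φ i) := hf
  rw [Finset.sum_congr rfl fun χ _ => by rw [hf' χ, Finset.sum_mul], Finset.sum_comm]
  apply Finset.sum_eq_zero
  intro i _
  unfold SS
  simp only [Finset.mul_sum]
  rw [Finset.sum_comm]
  apply Finset.sum_eq_zero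
  intro x _
  by_cases hx : x ∈ A
  · have h1 := column_orthogonality (col ρ a b φ i) x
    have hxi : x⁻¹ = x := by rw [inv_eq_iff_mul_eq_one]; exact (hA x hx).1
    rw [if_neg] at h1
    · have h2 : ∀ χ : IrrCharacter G, (α i : ℂ) * (χ : G → ℂ) (col ρ a b φ i) * ((if x ∈ A then (1 : ℂ) else 0) * (χ : G → ℂ) x) =
          (α i : ℂ) * ((χ : G → ℂ) (col ρ a b φ i) * conj ((χ : G → ℂ) x)) := by
        intro χ
        rw [if_pos hx, ← χ.2.inv, hxi]; ring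
      rw [Finset.sum_congr rfl fun χ _ => h2 χ, ← Finset.mul_sum, h1, mul_zero]
    · intro hc
      obtain ⟨g, hg⟩ := isConj_iff.mp hc
      apply col_ten L i
      have h2 : col ρ a b φ i = g⁻¹ * x * (g⁻¹)⁻¹ := by rw [← hg]; group
      have h3 : x ^ 10 = 1 := by
        have : x ^ 2 = 1 := by rw [sq]; exact (hA x hx).1
        calc x ^ 10 = (x ^ 2) ^ 5 := by rw [← pow_mul]
          _ = 1 := by rw [this, one_pow]
      rw [h2, conj_pow, h3]; group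
  · apply Finset.sum_eq_zero
    intro χ _
    rw [if_neg hx, zero_mul, mul_zero]

theorem comb_count [Fintype G] (L : Loc S ρ a b φ) {f : IrrCharacter G → ℤ} {α : Fin 6 → ℚ} (hf : IsComb ρ a b φ (fun χ => f χ) α)
    (A B : Set G) (hA : ∀ x ∈ A, ∀ g : G, g * x * g⁻¹ ∈ A) (hB : ∀ x ∈ B, ∀ g : G, g * x * g⁻¹ ∈ B)
    (n : Fin 6 → ℕ) (hn : ∀ i, Nat.card {x : G // x ∈ A ∧ x⁻¹ * col ρ a b φ i ∈ B} = n i) {k : ℚ} (hk : ∑ i, α i * n i = k) :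
    ∑ χ : IrrCharacter G, (f χ : ℂ) * (SS A (χ : G → ℂ) * SS B (χ : G → ℂ) / (χ : G → ℂ) 1) = (Nat.card G : ℂ) * (k : ℂ) := by
  have h1 : ∀ χ : IrrCharacter G, (f χ : ℂ) = ∑ i, (α i : ℂ) * (χ : G → ℂ) (col ρ a b φ i)⁻¹ := by
    intro χ
    have h2 := congrArg (starRingEnd ℂ) (hf χ)
    simp only at h2
    rw [map_intCast (starRingEnd ℂ), map_sum] at h2
    rw [h2]
    apply Finset.sum_congr rfl
    intro i _
    rw [map_mul (starRingEnd ℂ), map_ratCast (starRingEnd ℂ), χ.2.inv]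
  rw [Finset.sum_congr rfl fun χ _ => by rw [h1 χ, Finset.sum_mul], Finset.sum_comm, ← hk]
  push_cast
  rw [Finset.mul_sum]
  apply Finset.sum_congr rfl
  intro i _
  have h2 := count_formula A B hA hB (col ρ a b φ i)
  rw [hn] at h2
  have h3 : ∀ χ : IrrCharacter G, (α i : ℂ) * (χ : G → ℂ) (col ρ a b φ i)⁻¹ * (SS A (χ : G → ℂ) * SS B (χ : G → ℂ) / (χ : G → ℂ) 1) =
      (α i : ℂ) * (SS A (χ : G → ℂ) * SS B (χ : G → ℂ) * (χ : G → ℂ) (col ρ a b φ i)⁻¹ / (χ : G → ℂ) 1) := fun χ => by ring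
  rw [Finset.sum_congr rfl fun χ _ => h3 χ, ← Finset.mul_sum, h2]
  ring

theorem count_zz (L : Loc S ρ a b φ) (i : Fin 6) :
    Nat.card {x : G // x ∈ Wr.Xz ρ ∧ x⁻¹ * col ρ a b φ i ∈ Wr.Xz ρ} = ![30, 6, 0, 0, 9, 0] i := by
  obtain ⟨v1, v2, v3, v4⟩ := ic_vals
  fin_cases i
  · exact (L.count_zz_L Loc.ten_z).trans v1
  · exact (L.count_zz_L Loc.ten_t).trans v2
  · exact (L.count_zz_L Loc.ten_f).trans v3
  · exact (L.count_zz_L Loc.ten_ff).trans v4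
  · exact (L.count Loc.yes_ww _ _ tz tz L.Xz_invo L.Xz_invo L.Xz_iff L.Xz_iff).trans cnt_tz_tz_ww
  · exact (L.count Loc.yes_wq _ _ tz tz L.Xz_invo L.Xz_invo L.Xz_iff L.Xz_iff).trans cnt_tz_tz_wq

theorem count_qz (L : Loc S ρ a b φ) (i : Fin 6) :
    Nat.card {x : G // x ∈ Wr.Xq ρ ∧ x⁻¹ * col ρ a b φ i ∈ Wr.Xz ρ} = ![0, 0, 0, 0, 0, 3] i := by
  fin_cases i
  · exact L.count_q_L Loc.ten_z _ L.Xz_invo
  · exact L.count_q_L Loc.ten_t _ L.Xz_invo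
  · exact L.count_q_L Loc.ten_f _ L.Xz_invo
  · exact L.count_q_L Loc.ten_ff _ L.Xz_invo
  · exact (L.count Loc.yes_ww _ _ tq tz L.Xq_invo L.Xz_invo L.Xq_iff L.Xz_iff).trans cnt_tq_tz_ww
  · exact (L.count Loc.yes_wq _ _ tq tz L.Xq_invo L.Xz_invo L.Xq_iff L.Xz_iff).trans cnt_tq_tz_wq

theorem count_qq (L : Loc S ρ a b φ) (i : Fin 6) :
    Nat.card {x : G // x ∈ Wr.Xq ρ ∧ x⁻¹ * col ρ a b φ i ∈ Wr.Xq ρ} = ![0, 0, 0, 0, 3, 0] i := by
  fin_cases i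
  · exact L.count_q_L Loc.ten_z _ L.Xq_invo
  · exact L.count_q_L Loc.ten_t _ L.Xq_invo
  · exact L.count_q_L Loc.ten_f _ L.Xq_invo
  · exact L.count_q_L Loc.ten_ff _ L.Xq_invo
  · exact (L.count Loc.yes_ww _ _ tq tq L.Xq_invo L.Xq_invo L.Xq_iff L.Xq_iff).trans cnt_tq_tq_ww
  · exact (L.count Loc.yes_wq _ _ tq tq L.Xq_invo L.Xq_invo L.Xq_iff L.Xq_iff).trans cnt_tq_tq_wq

end Cfsg.Agent.Lib.H25X
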