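import Cfsg.Agent.Lib.H25Xn

/-!
# The degrees of the nine characters for `A₈` (helper25)
-/

set_option autoImplicit false
set_option linter.all false
set_option maxHeartbeats 4000000

namespace Cfsg.Agent.Lib.H25X

open Cfsg Cfsg.Agent.Lib.CharBasic Cfsg.Agent.Lib.H25Nine Cfsg.Agent.Lib.H25W Cfsg.Agent.Lib.BlockRing DihedralGroup
open scoped ComplexConjugate
open Loc (col ccn)

universe u

variable {G : Type u} [Group G] [Finite G] {S : Subgroup G} {ρ : D →* G} {a b : G} {φ : L0 →* G}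
variable {s : ℂ} {d U e g Ww W' : IrrCharacter G → ℤ}

theorem triv_vals (L : Loc S ρ a b φ) (hv : VA ρ a b φ s d U e g Ww W') :
    U (triv G) = 1 ∧ 2 * d (triv G) - U (triv G) = 1 ∧ Ww (triv G) = 1 ∧ W' (triv G) = 1 := by
  have ev : ∀ g, ((triv G : IrrCharacter G) : G → ℂ) g = 1 := fun _ => rfl
  have h3 := hv.hW (triv G)
  have h4 := hv.hW' (triv G)
  have hz0 := hv.z0 (triv G)
  have hz1 := hv.z1 (triv G)
  have hz2 := hv.z2 (triv G)
  have hz3 := hv.z3 (triv G)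
  rw [ev] at h3 h4 hz0 hz1 hz2 hz3
  have k0 : 4 * U (triv G) - 3 * d (triv G) + 3 * e (triv G) = 1 := by exact_mod_cast hz0.symm
  have k1 : d (triv G) - e (triv G) = 1 := by exact_mod_cast hz1.symm
  have k2 : (4 * d (triv G) - 2 * U (triv G) + e (triv G)) * 2 = 4 := by
    have : ((4 * d (triv G) - 2 * U (triv G) + e (triv G) : ℂ)) * 2 = 4 := by linear_combination -hz2 - hz3
    exact_mod_cast this
  have hw : Ww (triv G) = 1 := by exact_mod_cast h3.symm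
  have hx : W' (triv G) = 1 := by exact_mod_cast h4.symm
  refine ⟨by omega, by omega, hw, hx⟩

theorem SS_Xz [Fintype G] (L : Loc S ρ a b φ) {χ : G → ℂ} (hχ : IsClassFunction G χ) :
    SS (Wr.Xz ρ) χ = (Nat.card {x : G // IsConj (ρ (r 2)) x} : ℂ) * χ (ρ (r 2)) := by
  classical
  unfold SS
  have h1 : ∀ x : G, (if x ∈ Wr.Xz ρ then (1 : ℂ) else 0) * χ x = if IsConj (ρ (r 2)) x then χ (ρ (r 2)) else 0 := by
    intro x
    by_cases h : IsConj (ρ (r 2)) x
    · rw [if_pos (L.Xz_mem.mpr h), if_pos h, one_mul]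
      exact (hχ.conj_eq h).symm
    · rw [if_neg (fun h' => h (L.Xz_mem.mp h')), if_neg h, zero_mul]
  rw [Finset.sum_congr rfl fun x _ => h1 x, ← Finset.sum_filter, Finset.sum_const, nsmul_eq_mul, Nat.card_eq_fintype_card,
    Fintype.card_subtype]

open scoped Classical in
theorem degrees (L : Loc S ρ a b φ) (hv : VA ρ a b φ s d U e g Ww W')
    {X : T9 → IrrCharacter G} {ε : T9 → ℤ} (hG : Grid U (fun χ => 2 * d χ - U χ) Ww W' X ε) :
    ε (0, 0) = 1 ∧ X (0, 0) = triv G ∧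
    ((ε (0, 1) * charDegree (X (0, 1) : G → ℂ) = 1 ∧ ε (1, 0) * charDegree (X (1, 0) : G → ℂ) = 16 ∧
      ε (1, 1) * charDegree (X (1, 1) : G → ℂ) = 16 ∧ ε (2, 2) * charDegree (X (2, 2) : G → ℂ) = -8 ∧
      (ε (1, 1) : ℂ) * (X (1, 1) : G → ℂ) (ρ (r 2)) = -(ε (2, 2) : ℂ) * (X (2, 2) : G → ℂ) (ρ (r 2)) + 8) ∨
     (ε (0, 1) * charDegree (X (0, 1) : G → ℂ) = 28 ∧ ε (1, 0) * charDegree (X (1, 0) : G → ℂ) = -56 ∧
      ε (1, 1) * charDegree (X (1, 1) : G → ℂ) = 7 ∧ ε (2, 2) * charDegree (X (2, 2) : G → ℂ) = -35 ∧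
      (Nat.card {x : G // IsConj (ρ (r 2)) x} : ℂ) ^ 2 * ((ε (1, 1) : ℂ) * (X (1, 1) : G → ℂ) (ρ (r 2)) - 7) ^ 2 = 35 * Nat.card G)) ∧
    (ε (0, 0) * charDegree (X (0, 0) : G → ℂ) + ε (0, 1) * charDegree (X (0, 1) : G → ℂ) - ε (2, 2) * charDegree (X (2, 2) : G → ℂ) =
      ε (1, 2) * charDegree (X (1, 2) : G → ℂ)) := by
  have := Fintype.ofFinite G
  obtain ⟨t1, t2, t3, t4⟩ := triv_vals L hv
  obtain ⟨hX0, hε0⟩ := grid_eq hG t1 t2 t3 t4
  refine ⟨hε0, hX0.symm, ?_⟩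
  -- signed degrees
  set xi : T9 → ℤ := fun t => ε t * charDegree (X t : G → ℂ) with hxi
  set x : T9 → ℂ := fun t => (xi t : ℂ) with hx
  have hdeg : ∀ t, ((X t : IrrCharacter G) : G → ℂ) 1 = charDegree (X t : G → ℂ) := fun t => (H76Char.charDegree_eq (X t).2.isCharacter).symm
  have hεC : ∀ t, (ε t : ℂ) * ε t = 1 := fun t => by exact_mod_cast hG.sq t
  have hε0' : ∀ t, (ε t : ℂ) ≠ 0 := fun t h => by
    have := hεC t
    rw [h] at this
    simp at this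
  have hx' : ∀ t, x t = ε t * ((X t : IrrCharacter G) : G → ℂ) 1 := by
    intro t; simp only [hx, hxi]; rw [hdeg]; push_cast; rfl
  have hxne : ∀ t, x t ≠ 0 := by
    intro t
    rw [hx']
    exact mul_ne_zero (hε0' t) (X t).2.one_ne_zero
  have hx0 : x (0, 0) = 1 := by
    rw [hx', hε0, ← hX0]
    show ((1 : ℤ) : ℂ) * 1 = 1
    norm_num
  -- sums over the grid
  have gsum : ∀ (F : IrrCharacter G → ℤ) (ph : T9 → ℤ), (∀ χ, (∀ t, χ ≠ X t) → F χ = 0) → (∀ t, F (X t) = ε t * ph t) →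
      ∀ f : IrrCharacter G → ℂ, ∑ χ, (F χ : ℂ) * f χ = ∑ t, (ph t : ℂ) * (ε t * f (X t)) := by
    intro F ph h0 h1 f
    rw [hG.sum (fun χ => (F χ : ℂ)) f (fun χ h => by rw [h0 χ h]; simp)]
    apply Finset.sum_congr rfl
    intro t _
    rw [h1 t]; push_cast; ring
  have gU := gsum U (fun t => rU t.1) (fun χ h => (hG.rest χ h).1) (fun t => (hG.val t).1)
  have gU' := gsum (fun χ => 2 * d χ - U χ) (fun t => rV t.1) (fun χ h => (hG.rest χ h).2.1) (fun t => (hG.val t).2.1)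
  have gW := gsum Ww (fun t => rU t.2) (fun χ h => (hG.rest χ h).2.2.1) (fun t => (hG.val t).2.2.1)
  have gW' := gsum W' (fun t => rV t.2) (fun χ h => (hG.rest χ h).2.2.2) (fun t => (hG.val t).2.2.2)
  have Rx : Rel x := by
    apply rel_of_sums
    · rw [← comb_one L (isU hv), gU]
      exact Finset.sum_congr rfl fun t _ => by rw [hx']
    · rw [← comb_one L (isV hv), gU']
      exact Finset.sum_congr rfl fun t _ => by rw [hx']
    · rw [← comb_one L (isW hv), gW]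
      exact Finset.sum_congr rfl fun t _ => by rw [hx']
    · rw [← comb_one L (isX hv), gW']
      exact Finset.sum_congr rfl fun t _ => by rw [hx']
  set yy : Set G → T9 → ℂ := fun A t => ε t * SS A ((X t : IrrCharacter G) : G → ℂ) with hyy
  have Ry : ∀ A : Set G, (∀ x ∈ A, x * x = 1 ∧ x ≠ 1) → Rel (yy A) := by
    intro A hA
    apply rel_of_sums
    · rw [← comb_SS L (isU hv) A hA, gU]
    · rw [← comb_SS L (isV hv) A hA, gU']
    · rw [← comb_SS L (isW hv) A hA, gW]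
    · rw [← comb_SS L (isX hv) A hA, gW']
  set N : ℂ := (Nat.card G : ℂ) with hN
  have hN0 : N ≠ 0 := by rw [hN]; exact_mod_cast Nat.card_pos.ne'
  -- structure constants
  have hT : ∀ (A B : Set G) (hA : ∀ x ∈ A, ∀ g : G, g * x * g⁻¹ ∈ A) (hB : ∀ x ∈ B, ∀ g : G, g * x * g⁻¹ ∈ B)
      (n : Fin 6 → ℕ) (hn : ∀ i, Nat.card {x : G // x ∈ A ∧ x⁻¹ * col ρ a b φ i ∈ B} = n i)
      (F : IrrCharacter G → ℤ) (ph : T9 → ℤ) (α : Fin 6 → ℚ) (hF : IsComb ρ a b φ (fun χ => F χ) α) (k : ℚ) (hk : ∑ i, α i * n i = k),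
      (∀ χ, (∀ t, χ ≠ X t) → F χ = 0) → (∀ t, F (X t) = ε t * ph t) →
      ∑ t, (ph t : ℂ) * (yy A t * yy B t / x t) = N * (k : ℂ) := by
    intro A B hA hB n hn F ph α hF k hk h0 h1
    rw [← comb_count L hF A B hA hB n hn hk, gsum F ph h0 h1]
    apply Finset.sum_congr rfl
    intro t _
    rw [hx']
    simp only [hyy]
    have h4 := hεC t
    have h5 := hε0' t
    have h6 := (X t).2.one_ne_zero
    field_simp
  obtain ⟨c, hc⟩ : ∃ c : ℂ, c ^ 2 = N := IsAlgClosed.exists_pow_nat_eq N (by norm_num)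
  set Y := yy (Wr.Xq ρ) with hY
  set Z := yy (Wr.Xz ρ) with hZ
  have RY : Rel Y := Ry _ L.Xq_invo
  have RZ : Rel Z := Ry _ L.Xz_invo
  have key : ∀ (A B : Set G) (hA : ∀ x ∈ A, ∀ g : G, g * x * g⁻¹ ∈ A) (hB : ∀ x ∈ B, ∀ g : G, g * x * g⁻¹ ∈ B)
      (n : Fin 6 → ℕ) (hn : ∀ i, Nat.card {x : G // x ∈ A ∧ x⁻¹ * col ρ a b φ i ∈ B} = n i) (k1 k2 k3 k4 : ℚ)
      (h1 : ∑ i, cU i * n i = k1) (h2 : ∑ i, cV i * n i = k2) (h3 : ∑ i, cW i * n i = k3) (h4 : ∑ i, cX i * n i = k4),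
      (∑ t : T9, ((rU t.1 : ℤ) : ℂ) * (yy A t * yy B t / x t) = N * (k1 : ℂ)) ∧
      (∑ t : T9, ((rV t.1 : ℤ) : ℂ) * (yy A t * yy B t / x t) = N * (k2 : ℂ)) ∧
      (∑ t : T9, ((rU t.2 : ℤ) : ℂ) * (yy A t * yy B t / x t) = N * (k3 : ℂ)) ∧
      (∑ t : T9, ((rV t.2 : ℤ) : ℂ) * (yy A t * yy B t / x t) = N * (k4 : ℂ)) := by
    intro A B hA hB n hn k1 k2 k3 k4 h1 h2 h3 h4
    exact ⟨hT A B hA hB n hn U (fun t => rU t.1) cU (isU hv) k1 h1 (fun χ h => (hG.rest χ h).1) (fun t => (hG.val t).1),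
      hT A B hA hB n hn (fun χ => 2 * d χ - U χ) (fun t => rV t.1) cV (isV hv) k2 h2 (fun χ h => (hG.rest χ h).2.1) (fun t => (hG.val t).2.1),
      hT A B hA hB n hn Ww (fun t => rU t.2) cW (isW hv) k3 h3 (fun χ h => (hG.rest χ h).2.2.1) (fun t => (hG.val t).2.2.1),
      hT A B hA hB n hn W' (fun t => rV t.2) cX (isX hv) k4 h4 (fun χ h => (hG.rest χ h).2.2.2) (fun t => (hG.val t).2.2.2)⟩
  obtain ⟨a1, a2, a3, a4⟩ := key _ _ Xq_inv Xq_inv _ (count_qq L) 0 0 3 0 (by decide +kernel) (by decide +kernel) (by decide +kernel) (by decide +kernel)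
  obtain ⟨b1, b2, b3, b4⟩ := key _ _ Xq_inv Xz_inv _ (count_qz L) 0 0 0 3 (by decide +kernel) (by decide +kernel) (by decide +kernel) (by decide +kernel)
  obtain ⟨c1, c2, c3, c4⟩ := key _ _ Xz_inv Xz_inv _ (count_zz L) 12 0 9 0 (by decide +kernel) (by decide +kernel) (by decide +kernel) (by decide +kernel)
  obtain ⟨A1, A2, A3, A4⟩ := gram hx0 hxne Rx RY RY a1 a2 a3 a4
  obtain ⟨B1, B2, B3, B4⟩ := gram hx0 hxne Rx RY RZ b1 b2 b3 b4
  obtain ⟨C1, C2, C3, C4⟩ := gram hx0 hxne Rx RZ RZ c1 c2 c3 c4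
  -- congruences mod nine
  have mod9 : ∀ t : T9, (xi t : ZMod 9) = -4 * (((5 * rU t.1 - 3 * rV t.1) / 2 : ℤ) : ZMod 9) - 4 * ((rU t.2 : ℤ) : ZMod 9) := by
    intro t
    have h1 := cong9 L hv (X t)
    have hU0 : U (X t) ≠ 0 := by
      rw [(hG.val t).1]
      intro h
      have h2 := hG.sq t
      rcases mul_eq_zero.mp h with h | h
      · rw [h] at h2; norm_num at h2
      · revert h
        have : ∀ j : Fin 3, rU j ≠ 0 := by decide
        exact this _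
    have he0 := ((con_all L hv (X t)).2 hU0).1
    have hd0 : 2 * d (X t) = ε t * rU t.1 + ε t * rV t.1 := by
      have h2 := (hG.val t).1
      have h3 := (hG.val t).2.1
      linarith
    have h2 : 2 * ((5 * rU t.1 - 3 * rV t.1) / 2) = 5 * rU t.1 - 3 * rV t.1 := by
      have : ∀ j : Fin 3, 2 * ((5 * rU j - 3 * rV j) / 2) = 5 * rU j - 3 * rV j := by decide
      exact this _
    have h5 : 4 * U (X t) - 3 * d (X t) + 3 * e (X t) = ε t * ((5 * rU t.1 - 3 * rV t.1) / 2) := by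
      rw [he0, (hG.val t).1]
      have h6 : 2 * (4 * (ε t * rU t.1) - 3 * d (X t) + 3 * 0) = 2 * (ε t * ((5 * rU t.1 - 3 * rV t.1) / 2)) := by
        linear_combination (-3) * hd0 - ε t * h2
      omega
    rw [h5, (hG.val t).2.2.1] at h1
    have h2' : (9 : ℤ) ∣ xi t + 4 * ((5 * rU t.1 - 3 * rV t.1) / 2) + 4 * rU t.2 := by
      have h3 : xi t + 4 * ((5 * rU t.1 - 3 * rV t.1) / 2) + 4 * rU t.2 = ε t * (charDegree (X t : G → ℂ) + 4 * (ε t * ((5 * rU t.1 - 3 * rV t.1) / 2)) + 4 * (ε t * rU t.2)) := by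
        simp only [hxi]
        linear_combination (-4 * ((5 * rU t.1 - 3 * rV t.1) / 2) - 4 * rU t.2) * hG.sq t
      rw [h3]; exact Dvd.dvd.mul_left h1 _
    have h4 : ((xi t + 4 * ((5 * rU t.1 - 3 * rV t.1) / 2) + 4 * rU t.2 : ℤ) : ZMod 9) = 0 := (ZMod.intCast_zmod_eq_zero_iff_dvd _ 9).mpr h2'
    push_cast at h4 ⊢
    linear_combination h4
  have m1 : (xi (0, 1) : ZMod 9) = 1 := by rw [mod9]; decide
  have m2 : (xi (1, 0) : ZMod 9) = 7 := by rw [mod9]; decide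
  have m3 : (xi (1, 1) : ZMod 9) = 7 := by rw [mod9]; decide
  have m4 : ((-xi (2, 2) : ℤ) : ZMod 9) = 8 := by push_cast; rw [mod9]; decide
  have hm' : ((-xi (2, 2) : ℤ) : ℂ) = -x (2, 2) := by push_cast; rfl
  have h01 : (xi (0, 1) : ℂ) = x (0, 1) := rfl
  have h10 : (xi (1, 0) : ℂ) = x (1, 0) := rfl
  have h11 : (xi (1, 1) : ℂ) = x (1, 1) := rfl
  have hc0 : c ^ 2 ≠ 0 := by rw [hc]; exact hN0
  have hcne : c ≠ 0 := fun h => hc0 (by rw [h]; ring)
  have z : ∀ v : ℂ, (0 : ℂ) = 0 / c := fun _ => by simp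
  have hfin := final_gram (p := xi (0, 1)) (q := xi (1, 0)) (s := xi (1, 1)) (m := -xi (2, 2)) m1 m2 m3 m4
      (a := (Y (0, 1) - Y (0, 0) * x (0, 1)) / c) (a' := (Z (0, 1) - Z (0, 0) * x (0, 1)) / c)
      (b := (Y (1, 0) - Y (0, 0) * x (1, 0)) / c) (b' := (Z (1, 0) - Z (0, 0) * x (1, 0)) / c)
      (t := (Y (1, 1) - Y (0, 0) * x (1, 1)) / c) (t' := (Z (1, 1) - Z (0, 0) * x (1, 1)) / c)
      (c := (-Y (2, 2) + Y (0, 0) * x (2, 2)) / c) (c' := (-Z (2, 2) + Z (0, 0) * x (2, 2)) / c)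
      (by rw [z 0, Q3_scale, hm', h01, A1, hc]; push_cast; field_simp; norm_num)
      (by rw [z 0, Q3_scale, hm', h01, B1, hc]; push_cast; field_simp; norm_num)
      (by rw [z 0, Q3_scale, hm', h01, C1, hc]; push_cast; field_simp; norm_num)
      (by rw [z 0, Q3_scale, hm', h10, A2, hc]; push_cast; field_simp; norm_num)
      (by rw [z 0, Q3_scale, hm', h10, B2, hc]; push_cast; field_simp; norm_num)
      (by rw [z 0, Q3_scale, hm', h10, C2, hc]; push_cast; field_simp; norm_num)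
      (by rw [Q3_scale, hm', h10, h11, A3, hc]; push_cast; field_simp; norm_num)
      (by rw [Q3_scale, hm', h10, h11, B3, hc]; push_cast; field_simp; norm_num)
      (by rw [Q3_scale, hm', h10, h11, C3, hc]; push_cast; field_simp; norm_num)
      (by rw [Q3_scale, hm', h01, h11, A4, hc]; push_cast; field_simp; norm_num)
      (by rw [Q3_scale, hm', h01, h11, B4, hc]; push_cast; field_simp; norm_num)
      (by rw [Q3_scale, hm', h01, h11, C4, hc]; push_cast; field_simp; norm_num)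
  obtain ⟨hcase, hlin, hquad⟩ := hfin
  set K : ℂ := (Nat.card {x : G // IsConj (ρ (r 2)) x} : ℂ) with hK
  have hK0 : K ≠ 0 := by
    rw [hK]
    have : Nonempty {x : G // IsConj (ρ (r 2)) x} := ⟨⟨_, IsConj.refl _⟩⟩
    exact_mod_cast Nat.card_pos.ne'
  have hZv : ∀ t, Z t = ε t * (K * ((X t : IrrCharacter G) : G → ℂ) (ρ (r 2))) := by
    intro t
    show ε t * SS (Wr.Xz ρ) ((X t : IrrCharacter G) : G → ℂ) = _
    rw [SS_Xz L (X t).2.isClassFunction]
  have hZ0 : Z (0, 0) = K := by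
    rw [hZv, hε0, ← hX0]
    show ((1 : ℤ) : ℂ) * (K * 1) = K
    push_cast; ring
  refine ⟨?_, ?_⟩
  · rcases hcase with ⟨q1, q2, q3, q4⟩ | ⟨q1, q2, q3, q4⟩
    · left
      refine ⟨q1, q2, q3, by simp only [hxi] at q4 ⊢; linarith, ?_⟩
      have w1 : x (1, 1) = 16 := by rw [← h11, q3]; norm_num
      have w2 : x (2, 2) = -8 := by
        have : -x (2, 2) = 8 := by rw [← hm', q4]; norm_num
        linear_combination -this
      rw [w1, w2, hZ0, hZv, hZv, q3, q4] at hlin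
      push_cast at hlin
      field_simp at hlin
      linear_combination (1 / 16 : ℂ) * hlin
    · right
      refine ⟨q1, q2, q3, by simp only [hxi] at q4 ⊢; linarith, ?_⟩
      have w1 : x (1, 1) = 7 := by rw [← h11, q3]; norm_num
      have w2 : x (2, 2) = -35 := by
        have : -x (2, 2) = 35 := by rw [← hm', q4]; norm_num
        linear_combination -this
      rw [w1, w2, hZ0, hZv, hZv, q3, q4] at hlin
      rw [w2, hZ0, hZv, q4] at hquad
      push_cast at hlin hquad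
      set α := (ε (1, 1) : ℂ) * (K * ((X (1, 1) : IrrCharacter G) : G → ℂ) (ρ (r 2))) - K * 7 with hα
      set β := -((ε (2, 2) : ℂ) * (K * ((X (2, 2) : IrrCharacter G) : G → ℂ) (ρ (r 2)))) + K * -35 with hβ
      have e1 : β = 10 * α := by
        have : 2 * 35 * (α / c) * c = 7 * (β / c) * c := by rw [hlin]
        rw [mul_assoc (2 * 35 : ℂ), div_mul_cancel₀ _ hcne, mul_assoc (7 : ℂ), div_mul_cancel₀ _ hcne] at this
        linear_combination (-1 / 7 : ℂ) * this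
      have e2 : α ^ 2 = 35 * N := by
        rw [e1] at hquad
        have : 9 * (10 * α / c) ^ 2 * c ^ 2 = 25 * 35 * (35 + 1) * c ^ 2 := by rw [hquad]
        have h9 : 9 * (10 * α / c) ^ 2 * c ^ 2 = 900 * α ^ 2 := by field_simp; ring
        rw [h9, hc] at this
        linear_combination (1 / 900 : ℂ) * this
      rw [← e2, hα]; ring
  · have h5 := Rx.e12
    have h6 : ((xi (0, 0) + xi (0, 1) - xi (2, 2) : ℤ) : ℂ) = (xi (1, 2) : ℤ) := by
      push_cast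
      exact h5.symm
    exact_mod_cast h6

end Cfsg.Agent.Lib.H25X
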