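import Cfsg.Agent.Lib.H25Xo
import Cfsg.Agent.Lib.BlockDeg

/-!
# The value of the character of degree seven on the central involution (helper25)
-/

set_option autoImplicit false
set_option linter.all false
set_option maxHeartbeats 4000000
set_option synthInstance.maxHeartbeats 4000000
set_option synthInstance.maxSize 100000

namespace Cfsg.Agent.Lib.H25X

open Cfsg Cfsg.Agent.Lib.CharBasic Cfsg.Agent.Lib.H25Nine Cfsg.Agent.Lib.H25W Cfsg.Agent.Lib.BlockRing DihedralGroup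
open scoped ComplexConjugate
open Loc (col ccn)

universe u

def tag (x : L0) (j : Fin 4) : Prop := (j = 0 ∧ x = 1) ∨ (j = 1 ∧ x * x = 1 ∧ x ≠ 1) ∨ (j = 2 ∧ ∃ g : L0, g * x = zL * g) ∨
  (j = 3 ∧ ∃ g : L0, g * x = (zL * tL) * g)

instance (x : L0) (j : Fin 4) : Decidable (tag x j) := by unfold tag; infer_instance

variable {G : Type u} [Group G] [Finite G] {S : Subgroup G} {ρ : D →* G} {a b : G} {φ : L0 →* G}

theorem mult3 (L : Loc S ρ a b φ) {K : Type} [Group K] [Fintype K] (κ : K →* L0) (ε : K →* ℤˣ) (idx : K → Fin 4)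
    (h : ∀ k, tag (κ k) (idx k)) {χ : G → ℂ} (hχ : IsCharacter G χ) :
    ∃ n : ℕ, ((∑ k ∈ Finset.univ.filter (fun k => idx k = 0), ((ε k : ℤˣ) : ℤ) : ℤ) : ℂ) * χ 1 +
      ((∑ k ∈ Finset.univ.filter (fun k => idx k = 1), ((ε k : ℤˣ) : ℤ) : ℤ) : ℂ) * χ (ρ (r 2)) +
      ((∑ k ∈ Finset.univ.filter (fun k => idx k = 2), ((ε k : ℤˣ) : ℤ) : ℤ) : ℂ) * χ a +
      ((∑ k ∈ Finset.univ.filter (fun k => idx k = 3), ((ε k : ℤˣ) : ℤ) : ℤ) : ℂ) * χ (φ (zL * tL)) = Fintype.card K * n := by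
  set εC : K →* ℂˣ := (Units.map (Int.castRingHom ℂ).toMonoidHom).comp ε with hεC
  have hεv : ∀ k, ((εC k : ℂˣ) : ℂ) = ((ε k : ℤˣ) : ℤ) := fun k => rfl
  have hconj : ∀ k : K, conj (((ε k : ℤˣ) : ℤ) : ℂ) = (((ε k : ℤˣ) : ℤ) : ℂ) := fun k => map_intCast (starRingEnd ℂ) _
  obtain ⟨n, hn⟩ := lin_mult (φ.comp κ) εC hχ
  refine ⟨n, ?_⟩
  rw [← hn]
  have h1 : ∀ k, χ ((φ.comp κ) k) * conj ((εC k : ℂˣ) : ℂ) = (((ε k : ℤˣ) : ℤ) : ℂ) * (![χ 1, χ (ρ (r 2)), χ a, χ (φ (zL * tL))] (idx k)) := by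
    intro k
    rw [hεv, hconj, mul_comm]
    congr 1
    show χ (φ (κ k)) = _
    rcases h k with ⟨h1, h2⟩ | ⟨h1, h2, h3⟩ | ⟨h1, h2⟩ | ⟨h1, h2⟩
    · rw [h1, h2, map_one]; rfl
    · rw [h1]
      exact (hχ.isClassFunction.conj_eq (L.invo_r h2 h3)).symm
    · rw [h1]
      have := hχ.isClassFunction.conj_eq (Loc.conj_φ φ h2)
      rw [L.pz] at this
      exact this
    · rw [h1]
      exact hχ.isClassFunction.conj_eq (Loc.conj_φ φ h2)
  rw [Finset.sum_congr rfl fun k _ => h1 k, sum_idx idx (fun k => ((ε k : ℤˣ) : ℤ)), Fin.sum_univ_four]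
  rfl

def id6 (k : Multiplicative (ZMod 6)) : Fin 4 :=
  if Multiplicative.toAdd k = 0 then 0 else if Multiplicative.toAdd k = 3 then 1 else if Multiplicative.toAdd k = 2 ∨ Multiplicative.toAdd k = 4 then 2 else 3

theorem z6 : (zL * tL) ^ 6 = 1 := by decide +kernel
def k6 : Multiplicative (ZMod 6) →* L0 := cyc 6 (zL * tL) z6

theorem mulS : ∀ x y : DihedralGroup 3, dih 3 zL sL (x * y) = dih 3 zL sL x * dih 3 zL sL y := by decide +kernel
def kS : DihedralGroup 3 →* L0 where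
  toFun := dih 3 zL sL
  map_one' := by decide +kernel
  map_mul' := mulS
def sgn3 : DihedralGroup 3 →* ℤˣ where
  toFun x := match x with
    | .r _ => 1
    | .sr _ => -1
  map_one' := rfl
  map_mul' := by decide +kernel
def idS : DihedralGroup 3 → Fin 4
  | .r i => if i = 0 then 0 else 2
  | .sr _ => 1

theorem tagV : ∀ k, tag (kV k) (idV k) := by decide +kernel
theorem tag6 : ∀ k, tag (k6 k) (id6 k) := by decide +kernel
theorem tagS : ∀ k, tag (kS k) (idS k) := by decide +kernel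

theorem wt6 : ∀ j, wt id6 (fun k => (((1 : Multiplicative (ZMod 6) →* ℤˣ) k : ℤˣ) : ℤ)) j = ![1, 1, 2, 2] j := by decide +kernel
theorem wtS3 : ∀ j, wt idS (fun k => ((sgn3 k : ℤˣ) : ℤ)) j = ![1, -3, 2, 0] j := by decide +kernel

theorem mV (L : Loc S ρ a b φ) {χ : G → ℂ} (hχ : IsCharacter G χ) : ∃ n : ℕ, χ 1 + 3 * χ (ρ (r 2)) = 4 * n := by
  obtain ⟨n, hn⟩ := mult3 L kV 1 idV tagV hχ
  have e := wtV
  unfold wt at e
  refine ⟨n, ?_⟩
  rw [e 0, e 1, e 2, e 3] at hn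
  have hc : (Fintype.card (DihedralGroup 2) : ℂ) = 4 := by
    have : Fintype.card (DihedralGroup 2) = 4 := by decide
    rw [this]; norm_num
  rw [hc] at hn
  rw [← hn]
  show _ = ((1 : ℤ) : ℂ) * χ 1 + ((3 : ℤ) : ℂ) * χ (ρ (r 2)) + ((0 : ℤ) : ℂ) * χ a + ((0 : ℤ) : ℂ) * χ (φ (zL * tL))
  push_cast; ring

theorem m6 (L : Loc S ρ a b φ) {χ : G → ℂ} (hχ : IsCharacter G χ) : ∃ n : ℕ,
    χ 1 + χ (ρ (r 2)) + 2 * χ a + 2 * χ (φ (zL * tL)) = 6 * n := by
  obtain ⟨n, hn⟩ := mult3 L k6 1 id6 tag6 hχ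
  have e := wt6
  unfold wt at e
  refine ⟨n, ?_⟩
  rw [e 0, e 1, e 2, e 3] at hn
  have hc : (Fintype.card (Multiplicative (ZMod 6)) : ℂ) = 6 := by
    have : Fintype.card (Multiplicative (ZMod 6)) = 6 := rfl
    rw [this]; norm_num
  rw [hc] at hn
  rw [← hn]
  show _ = ((1 : ℤ) : ℂ) * χ 1 + ((1 : ℤ) : ℂ) * χ (ρ (r 2)) + ((2 : ℤ) : ℂ) * χ a + ((2 : ℤ) : ℂ) * χ (φ (zL * tL))
  push_cast; ring

theorem mS (L : Loc S ρ a b φ) {χ : G → ℂ} (hχ : IsCharacter G χ) : ∃ n : ℕ,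
    χ 1 - 3 * χ (ρ (r 2)) + 2 * χ a = 6 * n := by
  obtain ⟨n, hn⟩ := mult3 L kS sgn3 idS tagS hχ
  have e := wtS3
  unfold wt at e
  refine ⟨n, ?_⟩
  rw [e 0, e 1, e 2, e 3] at hn
  have hc : (Fintype.card (DihedralGroup 3) : ℂ) = 6 := by
    have : Fintype.card (DihedralGroup 3) = 6 := by decide
    rw [this]; norm_num
  rw [hc] at hn
  rw [← hn]
  show _ = ((1 : ℤ) : ℂ) * χ 1 + ((-3 : ℤ) : ℂ) * χ (ρ (r 2)) + ((2 : ℤ) : ℂ) * χ a + ((0 : ℤ) : ℂ) * χ (φ (zL * tL))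
  push_cast; ring

theorem int_t (L : Loc S ρ a b φ) (χ : IrrCharacter G) : ∃ n : ℤ, (χ : G → ℂ) (ρ (r 2)) = n := by
  obtain ⟨n, hn⟩ := mV L χ.2.isCharacter
  have e1 : (χ : G → ℂ) 1 = charDegree (χ : G → ℂ) := (H76Char.charDegree_eq χ.2.isCharacter).symm
  rw [e1] at hn
  obtain ⟨k, hk⟩ := CharCentral.exists_int_of_isIntegral_rat (H76Char.isIntegral_of_isCharacter χ.2.isCharacter (ρ (r 2)))
    ((4 * n - charDegree (χ : G → ℂ)) / 3 : ℚ) (by push_cast; linear_combination (1 / 3 : ℂ) * hn)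
  exact ⟨k, hk⟩

variable {s : ℂ} {d U e g Ww W' : IrrCharacter G → ℤ}

/-- summary of the arithmetic -/
structure Seven (ρ : D →* G) (a b : G) (χ : IrrCharacter G) : Prop where
  deg : (χ : G → ℂ) 1 = 7
  va : (χ : G → ℂ) a = 4
  vab : (χ : G → ℂ) (a * b) = 1
  vt : (χ : G → ℂ) (ρ (r 2)) = 3

open scoped Classical in
theorem seven (L : Loc S ρ a b φ) (hv : VA ρ a b φ s d U e g Ww W')
    {X : T9 → IrrCharacter G} {ε : T9 → ℤ} (hG : Grid U (fun χ => 2 * d χ - U χ) Ww W' X ε) :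
    ε (1, 1) = 1 ∧ Seven ρ a b (X (1, 1)) ∧ 35 ∣ Nat.card G ∧ 64 ∣ Nat.card G ∧ 180 ∣ Nat.card G ∧
    (X (1, 1) : G → ℂ) (φ (zL * tL)) = 0 ∧ (X (1, 1) : G → ℂ) (φ (zL * fL)) = -1 ∧ (X (1, 1) : G → ℂ) (φ (zL * (fL * fL))) = -1 ∧
    Nat.card {x : G // IsConj (ρ (r 2)) x} ^ 2 * 16 = 35 * Nat.card G := by
  obtain ⟨hε0, hX0, hcase, h12⟩ := degrees L hv hG
  have hεv : ∀ t, ε t = 1 ∨ ε t = -1 := fun t => mul_self_eq_one_iff.mp (hG.sq t)
  have hdeg : ∀ t, ((X t : IrrCharacter G) : G → ℂ) 1 = charDegree (X t : G → ℂ) := fun t => (H76Char.charDegree_eq (X t).2.isCharacter).symm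
  -- values on the grid
  have hU0 : ∀ t, U (X t) ≠ 0 := by
    intro t
    rw [(hG.val t).1]
    intro h
    have h2 := hG.sq t
    rcases mul_eq_zero.mp h with h | h
    · rw [h] at h2; norm_num at h2
    · revert h
      have : ∀ j : Fin 3, rU j ≠ 0 := by decide
      exact this _
  have he : ∀ t, e (X t) = 0 ∧ g (X t) = 0 := fun t => (con_all L hv (X t)).2 (hU0 t)
  have hd : ∀ t, 2 * d (X t) = ε t * (rU t.1 + rV t.1) := by
    intro t
    have h2 := (hG.val t).1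
    have h3 := (hG.val t).2.1
    linarith
  have r11 : rU (1 : Fin 3) = 1 ∧ rV (1 : Fin 3) = -1 := by decide
  have r22 : rU (2 : Fin 3) = -2 ∧ rV (2 : Fin 3) = 0 := by decide
  have u11 : U (X (1, 1)) = ε (1, 1) := by rw [(hG.val (1, 1)).1, r11.1, mul_one]
  have u22 : U (X (2, 2)) = -2 * ε (2, 2) := by rw [(hG.val (2, 2)).1, r22.1]; ring
  have d11 : d (X (1, 1)) = 0 := by
    have := hd (1, 1)
    rw [r11.1, r11.2] at this
    omega
  have d22 : d (X (2, 2)) = -ε (2, 2) := by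
    have := hd (2, 2)
    rw [r22.1, r22.2] at this
    omega
  have w11 : Ww (X (1, 1)) = ε (1, 1) := by rw [(hG.val (1, 1)).2.2.1, r11.1, mul_one]
  have va11 : (X (1, 1) : G → ℂ) a = 4 * ε (1, 1) := by
    rw [val_a L hv, u11, d11, (he _).1]; push_cast; ring
  have va22 : (X (2, 2) : G → ℂ) a = -5 * ε (2, 2) := by
    rw [val_a L hv, u22, d22, (he _).1]; push_cast; ring
  have vt11 : (X (1, 1) : G → ℂ) (φ (zL * tL)) = 0 := by
    rw [hv.z1, d11, (he _).1]; norm_num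
  have vt22 : (X (2, 2) : G → ℂ) (φ (zL * tL)) = -ε (2, 2) := by
    rw [hv.z1, d22, (he _).1]; push_cast; ring
  obtain ⟨T1, hT1⟩ := int_t L (X (1, 1))
  obtain ⟨T2, hT2⟩ := int_t L (X (2, 2))
  obtain ⟨n1, hn1⟩ := mV L (X (1, 1)).2.isCharacter
  obtain ⟨n2, hn2⟩ := mV L (X (2, 2)).2.isCharacter
  obtain ⟨n3, hn3⟩ := m6 L (X (1, 1)).2.isCharacter
  obtain ⟨n4, hn4⟩ := m6 L (X (2, 2)).2.isCharacter
  obtain ⟨n5, hn5⟩ := mS L (X (1, 1)).2.isCharacter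
  rw [hdeg, hT1] at hn1
  rw [hdeg, hT2] at hn2
  rw [hdeg, hT1, va11, vt11] at hn3
  rw [hdeg, hT2, va22, vt22] at hn4
  rw [hdeg, hT1, va11] at hn5
  have k1 : (charDegree (X (1, 1) : G → ℂ) : ℤ) + 3 * T1 = 4 * n1 := by exact_mod_cast hn1
  have k2 : (charDegree (X (2, 2) : G → ℂ) : ℤ) + 3 * T2 = 4 * n2 := by exact_mod_cast hn2
  have k3 : (charDegree (X (1, 1) : G → ℂ) : ℤ) + T1 + 2 * (4 * ε (1, 1)) + 2 * 0 = 6 * n3 := by exact_mod_cast hn3
  have k4 : (charDegree (X (2, 2) : G → ℂ) : ℤ) + T2 + 2 * (-5 * ε (2, 2)) + 2 * (-ε (2, 2)) = 6 * n4 := by exact_mod_cast hn4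
  have k5 : (charDegree (X (1, 1) : G → ℂ) : ℤ) - 3 * T1 + 2 * (4 * ε (1, 1)) = 6 * n5 := by exact_mod_cast hn5
  have cg : ∀ t, charDegree (X t : G → ℂ) ∣ Nat.card G := fun t => BlockDeg.charDegree_dvd_card (X t).2
  have h180 : 180 ∣ Nat.card G := by
    rw [← L.cent_z]; exact Subgroup.card_subgroup_dvd_card _
  rcases hcase with ⟨q1, q2, q3, q4, q5⟩ | ⟨q1, q2, q3, q4, q5⟩
  · exfalso
    rw [hT1, hT2] at q5
    have q5' : ε (1, 1) * T1 = -ε (2, 2) * T2 + 8 := by exact_mod_cast q5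
    rcases hεv (1, 1) with h1 | h1
    · rcases hεv (2, 2) with h2 | h2
      · rw [h2] at q4; omega
      · rw [h1] at q3 k3 k5 q5'
        rw [h2] at q4 k4 q5'
        omega
    · rw [h1] at q3; omega
  · have hε1 : ε (1, 1) = 1 := by
      rcases hεv (1, 1) with h1 | h1
      · exact h1
      · rw [h1] at q3; omega
    rw [hε1] at q3 k3 k5 va11 w11 u11
    have hT : T1 = 3 := by omega
    have hdg : charDegree (X (1, 1) : G → ℂ) = 7 := by omega
    refine ⟨hε1, ⟨?_, ?_, ?_, ?_⟩, ?_, ?_, h180, vt11, ?_, ?_, ?_⟩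
    · rw [hdeg, hdg]; norm_num
    · rw [va11]; norm_num
    · rw [val_ab hv, w11]; norm_num
    · rw [hT1, hT]; norm_num
    · have h35 : charDegree (X (2, 2) : G → ℂ) = 35 := by
        rcases hεv (2, 2) with h2 | h2 <;> rw [h2] at q4 <;> omega
      rw [← h35]; exact cg _
    · have h64 : charDegree (X (1, 2) : G → ℂ) = 64 := by
        rw [q1, q4] at h12
        have h0 : ε (0, 0) * (charDegree (X (0, 0) : G → ℂ) : ℤ) = 1 := by
          rw [hε0, hX0]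
          have : ((triv G : IrrCharacter G) : G → ℂ) 1 = charDegree ((triv G : IrrCharacter G) : G → ℂ) := (H76Char.charDegree_eq (triv G).2.isCharacter).symm
          have h1 : ((triv G : IrrCharacter G) : G → ℂ) 1 = 1 := rfl
          rw [h1] at this
          have h2 : charDegree ((triv G : IrrCharacter G) : G → ℂ) = 1 := by exact_mod_cast this.symm
          rw [h2]; norm_num
        rw [h0] at h12
        rcases hεv (1, 2) with h2 | h2 <;> rw [h2] at h12 <;> omega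
      rw [← h64]; exact cg _
    · have h2 := hv.z2 (X (1, 1))
      rw [d11, u11, (he _).1, (he _).2] at h2
      push_cast at h2
      linear_combination (1 / 2 : ℂ) * h2
    · have h2 := hv.z3 (X (1, 1))
      rw [d11, u11, (he _).1, (he _).2] at h2
      push_cast at h2
      linear_combination (1 / 2 : ℂ) * h2
    · rw [hε1, hT1, hT] at q5
      have : ((Nat.card {x : G // IsConj (ρ (r 2)) x} ^ 2 * 16 : ℕ) : ℂ) = ((35 * Nat.card G : ℕ) : ℂ) := by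
        push_cast at q5 ⊢
        linear_combination q5
      exact_mod_cast this

end Cfsg.Agent.Lib.H25X
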