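import Cfsg.Agent.Lib.H25Xp
import Cfsg.Agent.Lib.H25Xq
import Cfsg.Agent.Lib.CoprimeGen

/-!
# The order of the group (helper25)
-/

set_option autoImplicit false
set_option linter.all false
set_option maxHeartbeats 4000000

namespace Cfsg.Agent.Lib.H25X

open Cfsg Cfsg.Agent.Lib.CharBasic Cfsg.Agent.Lib.H25Nine Cfsg.Agent.Lib.H25W Cfsg.Agent.Lib.BlockRing DihedralGroup
open scoped ComplexConjugate
open Loc (col ccn)

universe u

variable {G : Type u} [Group G] [Finite G] {S : Subgroup G} {ρ : D →* G} {a b : G} {φ : L0 →* G}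

theorem zL_c3 : (zL : L0).1.1 = c3 := rfl

/-- elements with first component `c3` -/
theorem first_c3 (L : Loc S ρ a b φ) {χ : G → ℂ} (hχ : IsClassFunction G χ) (y : L0) (hy : y.1.1 = c3) :
    y = zL ∨ χ (φ y) = χ (φ (zL * tL)) ∨ χ (φ y) = χ (a * b) ∨ χ (φ y) = χ (φ (zL * fL)) ∨ χ (φ y) = χ (φ (zL * (fL * fL))) := by
  have hw1 : (zL⁻¹ * y).1.1 = 1 := by
    show (c3)⁻¹ * y.1.1 = 1
    rw [hy, inv_mul_cancel]
  have hc : ∀ (w y g : L0), g * zL = zL * g → g * w = y * g → χ (φ (zL * w)) = χ (φ (zL * y)) := by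
    intro w y g hg hwy
    apply hχ.conj_eq
    apply Loc.conj_φ
    refine ⟨g, ?_⟩
    rw [← mul_assoc, hg, mul_assoc, hwy, mul_assoc]
  have hyz : y = zL * (zL⁻¹ * y) := by group
  rcases cls5 (zL⁻¹ * y) hw1 with h | ⟨g, hg, h | h | h | h⟩
  · left
    rw [hyz, h, mul_one]
  · right; left
    rw [hyz]; exact hc _ _ g hg h
  · right; right; left
    rw [hyz, hc _ _ g hg h, map_mul, L.pz, L.pa]
  · right; right; right; left
    rw [hyz]; exact hc _ _ g hg h
  · right; right; right; right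
    rw [hyz]; exact hc _ _ g hg h

theorem faithful (L : Loc S ρ a b φ) {χ : IrrCharacter G} (h7 : Seven ρ a b χ) (h1 : (χ : G → ℂ) (φ (zL * tL)) = 0)
    (h2 : (χ : G → ℂ) (φ (zL * fL)) = -1) (h3 : (χ : G → ℂ) (φ (zL * (fL * fL))) = -1) :
    ∀ g, (χ : G → ℂ) g = 7 → g = 1 := by
  obtain ⟨N, hN, hN1, hN2⟩ := exists_ker χ.2.isCharacter
  have hf : Fact (Nat.Prime 3) := ⟨Nat.prime_three⟩
  have hc := χ.2.isClassFunction
  rw [h7.deg] at hN1
  have valS : ∀ s ∈ S, s ≠ 1 → IsConj a s ∨ IsConj (a * b) s := by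
    intro s hs hs1
    obtain ⟨v, rfl⟩ := L.X.exists_co hs
    have hee : el ρ a b (v, 1) = co a b v := by unfold el; rw [map_one, mul_one]
    have hv0 : v ≠ 0 := by
      rintro rfl
      exact hs1 (by unfold co; simp)
    by_cases h : v.1 = 0 ∨ v.2 = 0
    · left; exact (mem_cls_a L v).mpr ⟨hv0, h⟩
    · right
      push Not at h
      have h3 := L.X.el_conj (cj_w v h.1 h.2)
      rw [Loc.el_ww, hee] at h3
      exact h3
  have hNS : ∀ s ∈ S, s ∈ N → s = 1 := by
    intro s hs hsN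
    by_contra hs1
    have h5 := (hN1 s).mp hsN
    rcases valS s hs hs1 with h | h
    · rw [← hc.conj_eq h, h7.va] at h5; norm_num at h5
    · rw [← hc.conj_eq h, h7.vab] at h5; norm_num at h5
  -- centralizer of `a`
  have hCa : ∀ x ∈ N, x * a = a * x → x = 1 := by
    intro x hx hxa
    obtain ⟨x0, rfl⟩ := range_a L hxa
    have hcm : x0 * zL = zL * x0 := L.inj (by rw [map_mul, map_mul, L.pz, hxa])
    have hcm1 : x0.1.1 * c3 = c3 * x0.1.1 := congrArg (fun y : L0 => y.1.1) hcm
    have vals : ∀ y : L0, y.1.1 = c3 → y = zL ∨ (χ : G → ℂ) (φ y) = 0 ∨ (χ : G → ℂ) (φ y) = 1 ∨ (χ : G → ℂ) (φ y) = -1 := by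
      intro y hy
      rcases first_c3 L hc y hy with h | h | h | h | h
      · left; exact h
      · right; left; rw [h, h1]
      · right; right; left; rw [h, h7.vab]
      · right; right; right; rw [h, h2]
      · right; right; right; rw [h, h3]
    have hzi : ∀ z0 : L0, (χ : G → ℂ) (φ (z0 * x0)) = (χ : G → ℂ) (φ z0) := by
      intro z0
      rw [map_mul]; exact hN2 _ hx _
    rcases first_zpow x0.1.1 hcm1 with h | h | h
    · -- first component one
      have h5 := hzi zL
      rw [L.pz, h7.va] at h5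
      rcases vals (zL * x0) (by show c3 * x0.1.1 = c3; rw [h, mul_one]) with h6 | h6 | h6 | h6
      · have : x0 = 1 := mul_eq_left.mp h6
        rw [this, map_one]
      · rw [h6] at h5; norm_num at h5
      · rw [h6] at h5; norm_num at h5
      · rw [h6] at h5; norm_num at h5
    · exfalso
      have h5 := hzi 1
      rw [one_mul, map_one, h7.deg] at h5
      rcases vals x0 h with h6 | h6 | h6 | h6
      · rw [h6, L.pz, h7.va] at h5; norm_num at h5
      · rw [h6] at h5; norm_num at h5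
      · rw [h6] at h5; norm_num at h5
      · rw [h6] at h5; norm_num at h5
    · exfalso
      have h5 := hzi (zL * zL)
      have ha4 : (χ : G → ℂ) (φ (zL * zL)) = 4 := by
        rw [map_mul, L.pz]
        have : a * a = a⁻¹ := by rw [eq_inv_iff_mul_eq_one, ← sq, ← pow_succ]; exact L.X.a3
        rw [this, ← hc.conj_eq L.real_a, h7.va]
      rw [ha4] at h5
      rcases vals (zL * zL * x0) (by show c3 * c3 * x0.1.1 = c3; rw [h]; decide) with h6 | h6 | h6 | h6
      · have h8 : zL * x0 = 1 := by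
          rw [mul_assoc] at h6
          exact mul_eq_left.mp h6
        have h9 : φ x0 ∈ S := by
          have : φ x0 = a⁻¹ := by
            rw [← L.pz, eq_inv_iff_mul_eq_one, ← map_mul, hcm, h8, map_one]
          rw [this]; exact S.inv_mem L.X.ha
        have h10 := hNS _ h9 hx
        have h11 : x0 = 1 := L.inj (by rw [h10, map_one])
        rw [h11, mul_one] at h8
        have h12 : a = 1 := by rw [← L.pz, h8, map_one]
        exact L.X.ha1 h12
      · rw [h6] at h5; norm_num at h5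
      · rw [h6] at h5; norm_num at h5
      · rw [h6] at h5; norm_num at h5
  have hCab : ∀ x ∈ N, x * (a * b) = (a * b) * x → x = 1 := by
    intro x hx hxa
    have hxN : x ∈ Subgroup.normalizer (S : Set G) := L.cy (Subgroup.mem_centralizer_singleton_iff.mpr hxa)
    apply hNS x _ hx
    apply L.X.CS
    rw [Subgroup.mem_centralizer_iff]
    intro t ht
    have h5 : x * t * x⁻¹ * t⁻¹ = 1 := by
      apply hNS
      · exact S.mul_mem ((Subgroup.mem_normalizer_iff.mp hxN t).mp ht) (S.inv_mem ht)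
      · have : x * t * x⁻¹ * t⁻¹ = x * (t * x⁻¹ * t⁻¹) := by group
        rw [this]
        exact N.mul_mem hx (hN.conj_mem _ (N.inv_mem hx) t)
    have : x * t * x⁻¹ = t := by
      have := congrArg (fun y => y * t) h5
      simpa [mul_assoc] using this
    calc t * x = x * t * x⁻¹ * x := by rw [this]
      _ = x * t := by group
  -- all centralizers
  have hCs : ∀ s ∈ S, s ≠ 1 → ∀ x ∈ N, x * s = s * x → x = 1 := by
    intro s hs hs1 x hx hxs
    have key : ∀ c : G, (∀ x ∈ N, x * c = c * x → x = 1) → IsConj c s → x = 1 := by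
      intro c hcc hcs
      obtain ⟨g, hg⟩ := isConj_iff.mp hcs.symm
      have h5 : g * x * g⁻¹ = 1 := by
        apply hcc _ (hN.conj_mem _ hx g)
        rw [← hg]
        calc g * x * g⁻¹ * (g * s * g⁻¹) = g * (x * s) * g⁻¹ := by group
          _ = g * (s * x) * g⁻¹ := by rw [hxs]
          _ = _ := by group
      exact conj_eq_one_iff.mp h5
    rcases valS s hs hs1 with h | h
    · exact key a hCa h
    · exact key (a * b) hCab h
  have hcomm : IsMulCommutative S := isMulCommutative_iff_of_setLike.mpr (fun a ha b hb => L.X.tis.comm a ha b hb)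
  have h3' : ¬ 3 ∣ Nat.card N := by
    intro hd
    obtain ⟨w, hw⟩ := exists_prime_orderOf_dvd_card' 3 hd
    have hw' : orderOf (w : G) = 3 := by rw [Subgroup.orderOf_coe]; exact hw
    obtain ⟨g, hg⟩ := L.X.tis.exists_conj_mem hw'
    have h5 := hNS _ hg (hN.conj_mem _ w.2 g)
    have : (w : G) = 1 := conj_eq_one_iff.mp h5
    rw [this, orderOf_one] at hw'
    omega
  have hcop : (Nat.card S).Coprime (Nat.card N) := by
    rw [L.X.card_S]
    exact Nat.Coprime.pow_left 2 ((Nat.Prime.coprime_iff_not_dvd Nat.prime_three).mpr h3')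
  have hgen := CoprimeGen.iSup_centralizer_eq hcomm L.X.cyc (K := N) (le_trans le_top (by rw [Subgroup.normalizer_eq_top])) hcop
  have hbot : N = ⊥ := by
    rw [eq_bot_iff, ← hgen]
    apply iSup₂_le
    rintro s ⟨hs, hs1⟩ x ⟨hx, hxs⟩
    rw [Subgroup.mem_bot]
    exact hCs s hs hs1 x hx (Subgroup.mem_centralizer_singleton_iff.mp hxs)
  intro g hg
  have : g ∈ N := (hN1 g).mpr hg
  rw [hbot, Subgroup.mem_bot] at this
  exact this

variable {s : ℂ} {d U e g Ww W' : IrrCharacter G → ℤ}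

/-- the character is determined by its values on the six columns, hence rational -/
theorem rational (L : Loc S ρ a b φ) (hv : VA ρ a b φ s d U e g Ww W')
    {X : T9 → IrrCharacter G} {ε : T9 → ℤ} (hG : Grid U (fun χ => 2 * d χ - U χ) Ww W' X ε) (hε : ε (1, 1) = 1)
    (h7 : Seven ρ a b (X (1, 1))) (h1 : (X (1, 1) : G → ℂ) (φ (zL * tL)) = 0)
    (h2 : (X (1, 1) : G → ℂ) (φ (zL * fL)) = -1) (h3 : (X (1, 1) : G → ℂ) (φ (zL * (fL * fL))) = -1) (x : G) :
    ∃ n : ℤ, (X (1, 1) : G → ℂ) x = n := by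
  have hint : IsIntegral ℤ ((X (1, 1) : G → ℂ) x) := H76Char.isIntegral_of_isCharacter (X (1, 1)).2.isCharacter x
  have hfix : ∀ σ : ℂ →+* ℂ, σ ((X (1, 1) : G → ℂ) x) = (X (1, 1) : G → ℂ) x := by
    intro σ
    set μ : IrrCharacter G := ⟨_, CharGalois.isIrrCharacter_map (X (1, 1)).2 σ⟩ with hμ
    have hμv : ∀ y, (μ : G → ℂ) y = σ ((X (1, 1) : G → ℂ) y) := fun y => rfl
    have v4 : (X (1, 1) : G → ℂ) (el ρ a b ww) = 1 := by rw [Loc.el_ww]; exact h7.vab
    have v5 : (X (1, 1) : G → ℂ) (el ρ a b wq) = -1 := by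
      rw [hv.hW', (hG.val (1, 1)).2.2.2, hε]
      have : rV (1 : Fin 3) = -1 := by decide
      rw [this]; norm_num
    have v0 : (X (1, 1) : G → ℂ) (φ zL) = 4 := by rw [L.pz]; exact h7.va
    have hcol : ∀ i, (μ : G → ℂ) (col ρ a b φ i) = (X (1, 1) : G → ℂ) (col ρ a b φ i) := by
      intro i
      rw [hμv]
      fin_cases i
      · show σ ((X (1, 1) : G → ℂ) (φ zL)) = (X (1, 1) : G → ℂ) (φ zL)
        rw [v0]; exact map_ofNat σ 4
      · show σ ((X (1, 1) : G → ℂ) (φ (zL * tL))) = (X (1, 1) : G → ℂ) (φ (zL * tL))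
        rw [h1, map_zero]
      · show σ ((X (1, 1) : G → ℂ) (φ (zL * fL))) = (X (1, 1) : G → ℂ) (φ (zL * fL))
        rw [h2, map_neg, map_one]
      · show σ ((X (1, 1) : G → ℂ) (φ (zL * (fL * fL)))) = (X (1, 1) : G → ℂ) (φ (zL * (fL * fL)))
        rw [h3, map_neg, map_one]
      · show σ ((X (1, 1) : G → ℂ) (el ρ a b ww)) = (X (1, 1) : G → ℂ) (el ρ a b ww)
        rw [v4, map_one]
      · show σ ((X (1, 1) : G → ℂ) (el ρ a b wq)) = (X (1, 1) : G → ℂ) (el ρ a b wq)
        rw [v5, map_neg, map_one]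
    have hsame : ∀ (f : IrrCharacter G → ℤ) (α : Fin 6 → ℚ), IsComb ρ a b φ (fun χ => f χ) α → f μ = f (X (1, 1)) := by
      intro f α hf
      have e1 : (f μ : ℂ) = ∑ i, (α i : ℂ) * (μ : G → ℂ) (col ρ a b φ i) := hf μ
      have e2 : (f (X (1, 1)) : ℂ) = ∑ i, (α i : ℂ) * (X (1, 1) : G → ℂ) (col ρ a b φ i) := hf (X (1, 1))
      have : (f μ : ℂ) = f (X (1, 1)) := by
        rw [e1, e2]
        exact Finset.sum_congr rfl fun i _ => by rw [hcol i]
      exact_mod_cast this
    have s1 := hsame U cU (isU hv)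
    have s2 := hsame (fun χ => 2 * d χ - U χ) cV (isV hv)
    have s3 := hsame Ww cW (isW hv)
    have s4 := hsame W' cX (isX hv)
    try simp only at s2
    have hv1 := hG.val (1, 1)
    try simp only at hv1
    rw [hε] at hv1
    have hex : ∃ t, μ = X t := by
      by_contra hcon
      push Not at hcon
      have := (hG.rest μ hcon).1
      rw [s1, hv1.1] at this
      revert this; decide
    obtain ⟨t, ht⟩ := hex
    have ht' := hG.val t
    try simp only at ht'
    rw [← ht, s2, s1, s3, s4, hv1.2.1, hv1.1, hv1.2.2.1, hv1.2.2.2] at ht'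
    have hεt : ε t = 1 ∨ ε t = -1 := mul_self_eq_one_iff.mp (hG.sq t)
    have ht1 : t = (1, 1) := by
      obtain ⟨e1, e2, e3, e4⟩ := ht'
      obtain ⟨j, k⟩ := t
      rcases hεt with h | h <;> rw [h] at e1 e2 e3 e4 <;> fin_cases j <;> fin_cases k <;>
        first
        | rfl
        | (exfalso; revert e1 e2 e3 e4; decide)
    rw [← hμv, ht, ht1]
  obtain ⟨q, hq⟩ := CharGalois.exists_rat_of_fixed (hint.tower_top) hfix
  obtain ⟨n, hn⟩ := CharCentral.exists_int_of_isIntegral_rat hint q hq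
  exact ⟨n, hn⟩

end Cfsg.Agent.Lib.H25X
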