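import Cfsg.Agent.Lib.H25Xr

/-!
# The order of the group, conclusion (helper25)
-/

set_option autoImplicit false
set_option linter.all false
set_option maxHeartbeats 4000000

namespace Cfsg.Agent.Lib.H25X

open Cfsg Cfsg.Agent.Lib.CharBasic Cfsg.Agent.Lib.H25Nine Cfsg.Agent.Lib.H25W Cfsg.Agent.Lib.BlockRing DihedralGroup
open Loc (col ccn)

universe u

variable {G : Type u} [Group G] [Finite G] {S : Subgroup G} {ρ : D →* G} {a b : G} {φ : L0 →* G}

open scoped Classical in
theorem card_cls_mod (L : Loc S ρ a b φ) : ∃ k : ℤ, (Nat.card {x : G // IsConj a x} : ℤ) = 40 + 9 * k := by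
  have := Fintype.ofFinite G
  obtain ⟨z, hz, h⟩ := sum_mod L (triv G).2
  have ev : ∀ g, ((triv G : IrrCharacter G) : G → ℂ) g = 1 := fun _ => rfl
  have h1 : SS (cls a) ((triv G : IrrCharacter G) : G → ℂ) = (Nat.card {x : G // IsConj a x} : ℂ) := by
    unfold SS
    have h2 : ∀ x : G, (if x ∈ cls a then (1 : ℂ) else 0) * ((triv G : IrrCharacter G) : G → ℂ) x = if IsConj a x then 1 else 0 := by
      intro x
      rw [ev, mul_one]
      exact if_congr Iff.rfl rfl rfl
    rw [Finset.sum_congr rfl fun x _ => h2 x, ← Finset.sum_filter, Finset.sum_const, nsmul_eq_mul, mul_one, Nat.card_eq_fintype_card,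
      Fintype.card_subtype]
  rw [h1] at h
  simp only [ev] at h
  rw [Finset.sum_const, X0_card] at h
  have h3 : (Nat.card {x : G // IsConj a x} : ℂ) = 40 + 9 * z := by
    have : (Nat.card {x : G // IsConj a x} : ℂ) * 1 / 1 = 2 * 1 + 2 * 1 + 2 * (18 • (1 : ℂ)) + 9 * z := h
    rw [mul_one, div_one] at this
    rw [this]
    norm_num
  obtain ⟨k, hk⟩ := CharCentral.exists_int_of_isIntegral_rat hz (((Nat.card {x : G // IsConj a x} : ℚ) - 40) / 9) (by
    push_cast
    linear_combination (-1 / 9 : ℂ) * h3)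
  rw [hk] at h3
  exact ⟨k, by exact_mod_cast h3⟩

theorem arith {N K c : ℕ} (hN : 0 < N) (h35 : 35 ∣ N) (h64 : 64 ∣ N) (h180 : 180 ∣ N) (hK : K ^ 2 * 16 = 35 * N) (hKc : K * c = N) :
    ∃ j : ℕ, c = 96 * j ∧ N = 20160 * j ^ 2 := by
  have h1 : 20160 ∣ N := by
    have h2 : Nat.lcm (Nat.lcm 35 64) 180 ∣ N := Nat.lcm_dvd (Nat.lcm_dvd h35 h64) h180
    have h3 : Nat.lcm (Nat.lcm 35 64) 180 = 20160 := by norm_num
    rwa [h3] at h2
  obtain ⟨k, rfl⟩ := h1
  have h2 : 16 * (20160 * k) = 35 * c ^ 2 := by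
    apply Nat.eq_of_mul_eq_mul_left hN
    calc 20160 * k * (16 * (20160 * k)) = (K * c) ^ 2 * 16 := by rw [hKc]; ring
      _ = (K ^ 2 * 16) * c ^ 2 := by ring
      _ = 35 * (20160 * k) * c ^ 2 := by rw [hK]
      _ = _ := by ring
  have h3 : c ^ 2 = 96 ^ 2 * k := by omega
  have h4 : 96 ∣ c := by
    rw [← Nat.pow_dvd_pow_iff (n := 2) (by norm_num)]
    exact ⟨k, h3⟩
  obtain ⟨j, rfl⟩ := h4
  refine ⟨j, rfl, ?_⟩
  have h5 : j ^ 2 = k := by
    have : 96 ^ 2 * j ^ 2 = 96 ^ 2 * k := by rw [← h3]; ring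
    exact Nat.eq_of_mul_eq_mul_left (by norm_num) this
  rw [h5]

open scoped Classical in
theorem order (L : Loc S ρ a b φ) : Nat.card G = 20160 ∧ Nat.card (Subgroup.centralizer ({ρ (r 2)} : Set G)) = 96 := by
  obtain ⟨s, d, U, e, g, Ww, W', hv⟩ := exists_va L
  obtain ⟨X, ε, hG⟩ := exists_gridX L hv
  obtain ⟨hε, h7, h35, h64, h180, v1, v2, v3, hK⟩ := seven L hv hG
  have hfaith := faithful L h7 v1 v2 v3
  have hrat := rational L hv hG hε h7 v1 v2 v3
  have hKc := CharBasic.card_isConj_mul_card_centralizer (ρ (r 2))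
  obtain ⟨j, hc, hN⟩ := arith Nat.card_pos h35 h64 h180 hK hKc
  have hj0 : j ≠ 0 := by
    rintro rfl
    have : Nat.card G ≠ 0 := Nat.card_pos.ne'
    rw [hN] at this
    exact this (by norm_num)
  set χ := X (1, 1) with hχ
  have hdeg : (χ : G → ℂ) 1 = ((7 : ℕ) : ℂ) := by rw [h7.deg]; norm_num
  -- modulo nine
  have hmod : (j ^ 2 * 4) % 9 = 4 := by
    obtain ⟨k, hk⟩ := card_cls_mod L
    have h1 := CharBasic.card_isConj_mul_card_centralizer a
    rw [L.cent_z, hN] at h1
    have h2 : Nat.card {x : G // IsConj a x} = 112 * j ^ 2 := by omega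
    rw [h2] at hk
    omega
  -- values on elements of prime power order
  have hvals : ∀ p : ℕ, p.Prime → ∀ g : G, (∃ k, orderOf g = p ^ k) → g ≠ 1 → ∃ n : ℤ, (χ : G → ℂ) g = n ∧ n ≠ 7 ∧ n ≤ 7 ∧ -7 ≤ n ∧
      (p : ℤ) ∣ n - 7 := by
    rintro p hp g ⟨k, hk⟩ hg
    obtain ⟨n, hn⟩ := hrat g
    refine ⟨n, hn, ?_, ?_, ?_, ?_⟩
    · rintro rfl
      exact hg (hfaith g (by rw [hn]; norm_num))
    · have h1 := norm_le χ.2.isCharacter hdeg g
      rw [hn] at h1
      have h2 : ‖((n : ℤ) : ℂ)‖ = |(n : ℝ)| := by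
        rw [Complex.norm_intCast]
      rw [h2] at h1
      have h3 : (n : ℝ) ≤ 7 := le_trans (le_abs_self _) (by exact_mod_cast h1)
      exact_mod_cast h3
    · have h1 := norm_le χ.2.isCharacter hdeg g
      rw [hn] at h1
      have h2 : ‖((n : ℤ) : ℂ)‖ = |(n : ℝ)| := by
        rw [Complex.norm_intCast]
      rw [h2] at h1
      have h3 : -(n : ℝ) ≤ 7 := le_trans (neg_le_abs _) (by exact_mod_cast h1)
      have h4 : (-7 : ℝ) ≤ n := by linarith
      exact_mod_cast h4
    · have := cong_p χ.2.isCharacter hdeg hp hk hn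
      exact_mod_cast this
  have hprime : ∀ p : ℕ, p.Prime → p ∣ j → p = 2 := by
    intro p hp hpj
    by_contra hp2
    have hp2j : p ^ 2 ∣ j ^ 2 := pow_dvd_pow_of_dvd hpj 2
    have hpne3 : p ≠ 3 := by
      rintro rfl
      obtain ⟨q, hq⟩ := hp2j
      omega
    have hp5 : 5 ≤ p := by
      by_contra hlt
      push Not at hlt
      interval_cases p
      · exact absurd hp (by decide)
      · exact absurd hp (by decide)
      · exact hp2 rfl
      · exact hpne3 rfl
      · exact absurd hp (by decide)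
    rcases Nat.lt_or_ge p 8 with hlt | hge
    · -- p = 5 or 7
      have hp57 : p = 5 ∨ p = 7 := by
        interval_cases p
        · left; rfl
        · exact absurd hp (by decide)
        · right; rfl
      have h3 : p ^ 3 ∣ Nat.card G := by
        rw [hN]
        have h4 : p ∣ 20160 := by rcases hp57 with rfl | rfl <;> norm_num
        have h5 := Nat.mul_dvd_mul h4 hp2j
        have : p * p ^ 2 = p ^ 3 := by ring
        rwa [this] at h5
      have h4 := schur χ.2.isCharacter hdeg [7 - (p : ℤ), 7 - 2 * (p : ℤ)] hp (by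
        intro g hgk hg
        obtain ⟨n, hn, h1, h2, h3, h4⟩ := hvals p hp g hgk hg
        refine ⟨n, ?_, hn⟩
        simp only [List.mem_cons, List.not_mem_nil, or_false]
        rcases hp57 with rfl | rfl <;> (push_cast at h4; omega)) h3
      simp only [List.map_cons, List.map_nil, List.prod_cons, List.prod_nil] at h4
      rcases hp57 with rfl | rfl
      · norm_num at h4
      · norm_num at h4
    · have hp11 : 11 ≤ p := by
        by_contra hlt
        push Not at hlt
        interval_cases p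
        · exact absurd hp (by decide)
        · exact absurd hp (by decide)
        · exact absurd hp (by decide)
      have h3 : p ^ 2 ∣ Nat.card G := by
        rw [hN]; exact Dvd.dvd.mul_left hp2j _
      have h4 := schur χ.2.isCharacter hdeg [7 - (p : ℤ)] hp (by
        intro g hgk hg
        obtain ⟨n, hn, h1, h2, h3, h4⟩ := hvals p hp g hgk hg
        refine ⟨n, ?_, hn⟩
        simp only [List.mem_cons, List.not_mem_nil, or_false]
        obtain ⟨q, hq⟩ := h4
        have hp' : (11 : ℤ) ≤ p := by exact_mod_cast hp11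
        have hq0 : q < 0 := by
          by_contra hcon
          push Not at hcon
          have : 0 ≤ (p : ℤ) * q := by positivity
          have h8 : n = 7 := by omega
          exact h1 h8
        have hq1 : -2 < q := by
          by_contra hcon
          push Not at hcon
          nlinarith
        have hq2 : q = -1 := by omega
        rw [hq2] at hq
        linarith) h3
      simp only [List.map_cons, List.map_nil, List.prod_cons, List.prod_nil, mul_one] at h4
      have h5 : ((7 : ℕ) : ℤ) - (7 - (p : ℤ)) = ((p : ℕ) : ℤ) := by push_cast; ring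
      rw [h5, Int.natCast_dvd_natCast] at h4
      have h6 := Nat.le_of_dvd hp.pos h4
      nlinarith
  obtain hj2 := Nat.eq_prime_pow_of_unique_prime_dvd hj0 (p := 2) (fun {q} hq hqj => hprime q hq hqj)
  set i := j.primeFactorsList.length with hi
  have hi2 : i ≤ 2 := by
    by_contra hcon
    push Not at hcon
    have h3 : 2 ^ 12 ∣ Nat.card G := by
      rw [hN, hj2]
      have h4 : 2 ^ 3 ∣ 2 ^ i := pow_dvd_pow 2 hcon
      have h5 : (2 ^ 3) ^ 2 ∣ (2 ^ i) ^ 2 := pow_dvd_pow_of_dvd h4 2
      have h6 := Nat.mul_dvd_mul (show 2 ^ 6 ∣ 20160 by norm_num) h5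
      exact dvd_trans (by norm_num) h6
    have h4 := schur χ.2.isCharacter hdeg [5, 3, 1, -1, -3, -5, -7] Nat.prime_two (by
      intro g hgk hg
      obtain ⟨n, hn, h1, h2, h3, h4⟩ := hvals 2 Nat.prime_two g hgk hg
      refine ⟨n, ?_, hn⟩
      simp only [List.mem_cons, List.not_mem_nil, or_false]
      push_cast at h4
      omega) h3
    simp only [List.map_cons, List.map_nil, List.prod_cons, List.prod_nil] at h4
    norm_num at h4
  have hj1 : j = 1 := by
    rw [hj2] at hmod ⊢
    have : i = 0 ∨ i = 1 ∨ i = 2 := by omega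
    rcases this with h | h | h <;> rw [h] at hmod ⊢
    · rfl
    · exfalso; revert hmod; decide
    · exfalso; revert hmod; decide
  rw [hj1] at hc hN
  exact ⟨by rw [hN]; norm_num, by rw [hc]⟩

theorem full_norm : ∀ x : L0, x * zL = zL * x ∨ x * zL = zL * zL * x := by decide +kernel

/-- the input of the recognition -/
theorem endData (L : Loc S ρ a b φ) : EndData φ where
  inj := L.inj
  norm := by
    apply le_antisymm
    · intro g hg
      rw [L.pz] at hg
      have h1 := (Subgroup.mem_normalizer_iff.mp hg a).mp (Subgroup.mem_zpowers a)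
      obtain ⟨k, hk⟩ := Subgroup.mem_zpowers_iff.mp h1
      have oa : orderOf a = 3 := orderOf_eq_prime L.X.a3 L.X.ha1
      have hmod := zpow_mod_orderOf a k
      rw [oa, hk] at hmod
      have h6 : k % 3 = 0 ∨ k % 3 = 1 ∨ k % 3 = 2 := by omega
      apply L.norm
      rcases h6 with h6 | h6 | h6
      · exfalso
        push_cast at hmod
        rw [h6, zpow_zero] at hmod
        exact L.X.ha1 (conj_eq_one_iff.mp hmod.symm)
      · left
        push_cast at hmod
        rw [h6, zpow_one] at hmod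
        exact hmod.symm
      · right
        push_cast at hmod
        rw [h6] at hmod
        rw [← hmod, eq_inv_iff_mul_eq_one]
        have h9 : a ^ (2 : ℤ) = a ^ 2 := by norm_cast
        rw [h9, ← pow_succ, L.X.a3]
    · rintro _ ⟨x, rfl⟩
      rw [L.pz]
      have h1 : φ x * a * (φ x)⁻¹ = a ∨ φ x * a * (φ x)⁻¹ = a⁻¹ := by
        rcases full_norm x with h | h
        · left
          rw [← L.pz, ← map_mul, h, map_mul]; group
        · right
          rw [← L.pz, ← map_mul, h, map_mul, map_mul, L.pz]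
          have : a * a = a⁻¹ := by rw [eq_inv_iff_mul_eq_one, ← sq, ← pow_succ]; exact L.X.a3
          rw [this]; group
      apply mem_norm_of
      intro t ht
      obtain ⟨k, rfl⟩ := Subgroup.mem_zpowers_iff.mp ht
      rw [← conj_zpow]
      rcases h1 with h | h
      · rw [h]; exact Subgroup.zpow_mem_zpowers a k
      · rw [h]; exact Subgroup.zpow_mem _ (Subgroup.inv_mem _ (Subgroup.mem_zpowers a)) k
  card := (order L).1
  cent := by
    rw [← (order L).2]
    have h1 : tL * tL = 1 ∧ tL ≠ 1 := by decide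
    exact (Loc.card_cent_conj (L.invo_r h1.1 h1.2)).symm
  conj := by rw [L.pz, L.pa]; exact L.cj_ab
  yy := by
    intro x hx hc
    rw [map_mul, L.pz, L.pa] at hc
    rw [L.pz, L.pa]
    have hxN : x ∈ Subgroup.normalizer (S : Set G) := L.cy (Subgroup.mem_centralizer_singleton_iff.mpr hc)
    obtain ⟨i, j, rfl⟩ := L.X.gen x (L.X.tis.mem_of_pow hxN hx)
    exact Subgroup.mul_mem _ (Subgroup.zpow_mem _ (Subgroup.subset_closure (by simp)) _)
      (Subgroup.zpow_mem _ (Subgroup.subset_closure (by simp)) _)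

end Cfsg.Agent.Lib.H25X
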