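import Cfsg.Agent.Lib.H25Xe

/-!
# Coordinates for the 3-local data of `A₈` (helper25)
-/

set_option autoImplicit false
set_option linter.all false
set_option maxHeartbeats 1000000

namespace Cfsg.Agent.Lib.H25X

open Cfsg Cfsg.Agent.Lib.H25Nine Cfsg.Agent.Lib.H25W DihedralGroup
open scoped Pointwise

universe u

theorem quotE {N : Type*} [Group N] [Finite N] (M : Subgroup N) [M.Normal] (hM : Nat.card M = 9)
    (e : N ⧸ M ≃* DihedralGroup 4) : Nat.card N = 72 ∧ ∃ E : Subgroup N, Nonempty (E ≃* DihedralGroup 4) := by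
  have hf2 : Fact (Nat.Prime 2) := ⟨Nat.prime_two⟩
  have h72 : Nat.card N = 72 := by
    rw [Subgroup.card_eq_card_quotient_mul_card_subgroup M, hM, Nat.card_congr e.toEquiv, DihedralGroup.nat_card]
  refine ⟨h72, ?_⟩
  obtain ⟨E⟩ : Nonempty (Sylow 2 N) := inferInstance
  have hE8 : Nat.card (E : Subgroup N) = 8 := by
    rw [E.card_eq_multiplicity, h72]
    have : (72 : ℕ).factorization 2 = 3 := by
      rw [show 72 = 2 ^ 3 * 9 by norm_num, Nat.factorization_mul (by norm_num) (by norm_num), Nat.prime_two.factorization_pow]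
      simp [Nat.factorization_eq_zero_of_not_dvd (show ¬ 2 ∣ 9 by norm_num)]
    rw [this]; norm_num
  refine ⟨E, ?_⟩
  have hEM : (E : Subgroup N) ⊓ M = ⊥ := by
    apply Subgroup.inf_eq_bot_of_coprime
    rw [hE8, hM]; norm_num
  let f : (E : Subgroup N) →* N ⧸ M := (QuotientGroup.mk' M).comp (E : Subgroup N).subtype
  have hf : Function.Injective f := by
    rw [injective_iff_map_eq_one]
    intro x hx
    have h1 : (x : N) ∈ M := (QuotientGroup.eq_one_iff _).mp hx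
    have h2 : (x : N) ∈ (E : Subgroup N) ⊓ M := ⟨x.2, h1⟩
    rw [hEM, Subgroup.mem_bot] at h2
    exact Subtype.ext h2
  have hc : Nat.card (E : Subgroup N) = Nat.card (N ⧸ M) := by
    rw [hE8, Nat.card_congr e.toEquiv, DihedralGroup.nat_card]
  exact ⟨(MulEquiv.ofBijective f ((Nat.bijective_iff_injective_and_card f).2 ⟨hf, hc⟩)).trans e⟩

set_option maxRecDepth 1000000 in
theorem act_axis : ∀ v : V, v ≠ 0 → (v.1 = 0 ∨ v.2 = 0) → ∃ e : D, act e (1, 0) = v := by decide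
set_option maxRecDepth 1000000 in
theorem act_diag : ∀ v : V, v.1 ≠ 0 → v.2 ≠ 0 → ∃ e : D, act e (1, 2) = v := by decide

variable {G : Type u} [Group G] [Finite G] {S : Subgroup G} {ρ : D →* G} {a b : G}

theorem exists_coord (W : Xr S ρ a b) {z : G} (hz : z ∈ S) (hz1 : z ≠ 1) : ∃ (ρ' : D →* G) (b' : G), Xr S ρ' z b' := by
  obtain ⟨v, rfl⟩ := W.exists_co hz
  have hv0 : v ≠ 0 := by
    rintro rfl
    exact hz1 (by unfold co; simp)
  have c10 : co a b (1, 0) = a := by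
    show a ^ 1 * b ^ 0 = a
    rw [pow_one, pow_zero, mul_one]
  have c12 : co a b (1, 2) = a * b⁻¹ := by
    show a ^ 1 * b ^ 2 = a * b⁻¹
    have : b ^ 2 = b⁻¹ := by rw [eq_inv_iff_mul_eq_one, ← pow_succ]; exact W.b3
    rw [pow_one, this]
  by_cases h : v.1 = 0 ∨ v.2 = 0
  · obtain ⟨e, he⟩ := act_axis v hv0 h
    have h1 := W.conj_co e (1, 0)
    rw [he, c10] at h1
    have h2 : ρ e * a * (ρ e)⁻¹ = co a b v := by rw [h1]; group
    rw [← h2]
    exact ⟨_, _, W.conj (W.hρ e)⟩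
  · push Not at h
    obtain ⟨e, he⟩ := act_diag v h.1 h.2
    have h1 := W.conj_co e (1, 2)
    rw [he, c12] at h1
    have h2 : ρ e * (a * b⁻¹) * (ρ e)⁻¹ = co a b v := by rw [h1]; group
    rw [← h2]
    exact ⟨_, _, W.swap.conj (W.hρ e)⟩

/-- the embedding of the local subgroup -/
theorem exists_phi {z : G} (hz1 : z ≠ 1) (hz3 : z ^ 3 = 1)
    (eL : Subgroup.normalizer (Subgroup.zpowers z : Set G) ≃* L0) :
    ∃ φ : L0 →* G, Function.Injective φ ∧ φ zL = z ∧ ∀ g : G, (g * z * g⁻¹ = z ∨ g * z * g⁻¹ = z⁻¹) → g ∈ φ.range := by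
  set M := Subgroup.normalizer (Subgroup.zpowers z : Set G) with hM
  have oz : orderOf z = 3 := orderOf_eq_prime hz3 hz1
  set φ0 : L0 →* G := M.subtype.comp eL.symm.toMonoidHom with hφ0
  have hφ0v : ∀ x, φ0 x = (eL.symm x : M) := fun x => rfl
  have hinj : Function.Injective φ0 := fun x y h => eL.symm.injective (Subtype.ext h)
  have hrange : ∀ g ∈ M, g ∈ φ0.range := fun g hg => ⟨eL ⟨g, hg⟩, by rw [hφ0v, MulEquiv.symm_apply_apply]⟩
  have hzM : z ∈ M := Subgroup.le_normalizer (Subgroup.mem_zpowers z)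
  have hnorm : ∀ g : G, (g * z * g⁻¹ = z ∨ g * z * g⁻¹ = z⁻¹) → g ∈ M := by
    intro g h
    apply mem_norm_of
    intro t ht
    obtain ⟨k, rfl⟩ := Subgroup.mem_zpowers_iff.mp ht
    rw [← conj_zpow]
    rcases h with h | h
    · rw [h]; exact Subgroup.zpow_mem_zpowers z k
    · rw [h]; exact Subgroup.zpow_mem _ (Subgroup.inv_mem _ (Subgroup.mem_zpowers z)) k
  obtain ⟨x, hx⟩ := hrange z hzM
  have hx3 : x * x * x = 1 := hinj (by rw [map_mul, map_mul, hx, map_one, ← hz3, pow_succ, sq])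
  have hx1 : x ≠ 1 := fun h => hz1 (by rw [← hx, h, map_one])
  have hact : ∀ g : L0, g * x = x * g ∨ g * x = x * x * g := by
    intro g
    have hgM : φ0 g ∈ M := (eL.symm g).2
    have h1 := (Subgroup.mem_normalizer_iff.mp hgM z).mp (Subgroup.mem_zpowers z)
    obtain ⟨k, hk⟩ := Subgroup.mem_zpowers_iff.mp h1
    have hmod := zpow_mod_orderOf z k
    rw [oz, hk] at hmod
    have h6 : k % 3 = 0 ∨ k % 3 = 1 ∨ k % 3 = 2 := by omega
    rcases h6 with h6 | h6 | h6
    · exfalso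
      push_cast at hmod
      rw [h6, zpow_zero] at hmod
      exact hz1 (conj_eq_one_iff.mp hmod.symm)
    · left
      push_cast at hmod
      rw [h6, zpow_one] at hmod
      apply hinj
      rw [map_mul, map_mul, hx]
      nth_rewrite 2 [hmod]
      group
    · right
      push_cast at hmod
      rw [h6] at hmod
      have h9 : z ^ (2 : ℤ) = z * z := by
        have h9 : z ^ (2 : ℤ) = z ^ 2 := by norm_cast
        rw [h9, sq]
      rw [h9] at hmod
      apply hinj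
      rw [map_mul, map_mul, map_mul, hx, hmod]
      group
  rcases norm3 x hx3 (fun g _ => hact g) with h | h | h
  · exact absurd h hx1
  · refine ⟨φ0, hinj, by rw [← h, hx], fun g hg => hrange g (hnorm g hg)⟩
  · have hs := conj_vals.1
    refine ⟨φ0.comp (MulAut.conj sL).toMonoidHom, ?_, ?_, ?_⟩
    · exact hinj.comp (MulAut.conj sL).injective
    · show φ0 (sL * zL * sL⁻¹) = z
      rw [hs, ← h, ← hx]
      congr 1
      group
    · intro g hg
      obtain ⟨y, hy⟩ := hrange g (hnorm g hg)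
      refine ⟨sL⁻¹ * y * sL, ?_⟩
      show φ0 (sL * (sL⁻¹ * y * sL) * sL⁻¹) = g
      rw [← hy]
      congr 1
      group

theorem exists_loc {P : Sylow 3 G} {S : Subgroup G} (hSP : S = P) {y z : G} (hyS : y ∈ S) (hzS : z ∈ S) (hy1 : y ≠ 1) (hz1 : z ≠ 1)
    (hcard : Nat.card S = 9) (hexp : ∀ a ∈ S, a ^ 3 = 1)
    (hC : Subgroup.centralizer (S : Set G) = S)
    (eN : Subgroup.normalizer (S : Set G) ⧸ S.subgroupOf (Subgroup.normalizer (S : Set G)) ≃* DihedralGroup 4)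
    (hyn : (S.subgroupOf (Subgroup.centralizer ({y} : Set G))).Normal)
    (hycard : Nat.card (Subgroup.centralizer ({y} : Set G)) = 18)
    (hzcard : Nat.card (Subgroup.centralizer ({z} : Set G)) = 180)
    (eL : Subgroup.normalizer (Subgroup.zpowers z : Set G) ≃* L0) :
    ∃ (ρ : D →* G) (a b : G) (φ : L0 →* G), Loc S ρ a b φ := by
  have hf : Fact (Nat.Prime 3) := ⟨Nat.prime_three⟩
  have hPT : PT S := ⟨⟨P, hSP.symm⟩, hexp, comm9 hcard⟩
  have hSN : S ≤ Subgroup.normalizer (S : Set G) := Subgroup.le_normalizer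
  obtain ⟨h72, E, ⟨e⟩⟩ := quotE _ (by rw [Nat.card_congr (Subgroup.subgroupOfEquivOfLe hSN).toEquiv]; exact hcard) eN
  obtain ⟨ρ0, hρ, hf', cov⟩ := exists_rho hcard _ rfl h72 E e
  obtain ⟨a0, b0, W0⟩ := exists_xr hPT hcard (le_of_eq hC) hρ hf' cov
  obtain ⟨ρ, b, W⟩ := exists_coord W0 hzS hz1
  have hee : ∀ v : V, el ρ z b (v, 1) = co z b v := fun v => by unfold el; rw [map_one, mul_one]
  -- the centralizer of `y`
  have hyN : Subgroup.centralizer ({y} : Set G) ≤ Subgroup.normalizer (S : Set G) := by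
    intro x hx
    apply mem_norm_of
    intro t ht
    have htC : t ∈ Subgroup.centralizer ({y} : Set G) := Subgroup.mem_centralizer_singleton_iff.mpr (hPT.comm t ht y hyS)
    exact hyn.conj_mem ⟨t, htC⟩ ht ⟨x, hx⟩
  obtain ⟨w, hw⟩ := W.exists_co hyS
  have hw0 : w ≠ 0 := by
    rintro rfl
    exact hy1 (by rw [← hw]; unfold co; simp)
  have hww : w.1 ≠ 0 ∧ w.2 ≠ 0 := by
    by_contra hcon
    have h1 : w.1 = 0 ∨ w.2 = 0 := by tauto
    have h3 := W.el_conj (cj_u w hw0 h1)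
    have hu : el ρ z b uu = z := by
      show z ^ 1 * b ^ 0 * ρ 1 = z
      rw [pow_one, pow_zero, map_one, mul_one, mul_one]
    rw [hu, hee, hw] at h3
    have h4 := Loc.card_cent_conj h3
    rw [hzcard, hycard] at h4
    omega
  have hcy : Subgroup.centralizer ({z * b} : Set G) ≤ Subgroup.normalizer (S : Set G) := by
    intro x hx
    obtain ⟨m, hm⟩ := cj_w w hww.1 hww.2
    have hm' := congrArg (el ρ z b) hm
    rw [W.el_mul, W.el_mul, hee, Loc.el_ww, hw] at hm'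
    set g := el ρ z b m with hg
    have hgN : g ∈ Subgroup.normalizer (S : Set G) := W.el_mem m
    have h3 : g⁻¹ * x * g ∈ Subgroup.normalizer (S : Set G) := by
      apply hyN
      rw [Subgroup.mem_centralizer_singleton_iff] at hx ⊢
      have h4 : y = g⁻¹ * (z * b) * g := by rw [mul_assoc, ← hm']; group
      rw [h4]
      calc g⁻¹ * x * g * (g⁻¹ * (z * b) * g) = g⁻¹ * (x * (z * b)) * g := by group
        _ = g⁻¹ * (z * b * x) * g := by rw [hx]
        _ = _ := by group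
    have h5 : x = g * (g⁻¹ * x * g) * g⁻¹ := by group
    rw [h5]
    exact mul_mem (mul_mem hgN h3) (inv_mem hgN)
  obtain ⟨φ1, hinj, hφz, hnorm⟩ := exists_phi hz1 (hexp z hzS) eL
  -- `b` in the local subgroup
  obtain ⟨x, hx⟩ := hnorm b (Or.inl (by rw [← W.ab]; group))
  obtain ⟨r2, hr2⟩ := hnorm (ρ (sr 2)) (Or.inl (by rw [W.s2a]; group))
  have hx3 : x * x * x = 1 := hinj (by rw [map_mul, map_mul, hx, map_one, ← W.b3, pow_succ, sq])
  have hx1 : x ≠ 1 := fun h => W.hb1 (by rw [← hx, h, map_one])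
  have hxz : x * zL = zL * x := hinj (by rw [map_mul, map_mul, hx, hφz, W.ab])
  have hrz : r2 * zL = zL * r2 := hinj (by rw [map_mul, map_mul, hr2, hφz, W.s2a])
  have hrx : r2 * x * x = x * r2 := by
    apply hinj
    rw [map_mul, map_mul, map_mul, hx, hr2, W.s2b]
    have h1 : b⁻¹ * ρ (sr 2) * b = b⁻¹ * (b⁻¹ * ρ (sr 2)) := by rw [mul_assoc, W.s2b]
    rw [h1, ← mul_assoc]
    congr 1
    have h3 := W.b3
    calc b⁻¹ * b⁻¹ = b⁻¹ * b⁻¹ * 1 := by rw [mul_one]
      _ = b⁻¹ * b⁻¹ * b ^ 3 := by rw [h3]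
      _ = b := by group
  have hx11 : x.1.1 = 1 := by
    apply first_one x.1.1 r2.1.1
    · exact congrArg (fun y : L0 => y.1.1) hxz
    · exact congrArg (fun y : L0 => y.1.1) hrz
    · exact congrArg (fun y : L0 => y.1.1) hrx
    · exact congrArg (fun y : L0 => y.1.1) hx3
  obtain ⟨g, hg, hgx⟩ := cls3 x hx11 hx3 hx1
  refine ⟨ρ, z, b, φ1.comp (MulAut.conj g⁻¹).toMonoidHom, W, ?_, ?_, ?_, ?_, hcy⟩
  · exact hinj.comp (MulAut.conj g⁻¹).injective
  · show φ1 (g⁻¹ * zL * (g⁻¹)⁻¹) = z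
    rw [← hφz]
    congr 1
    rw [inv_inv, mul_assoc, ← hg]; group
  · show φ1 (g⁻¹ * aL * (g⁻¹)⁻¹) = b
    rw [← hx]
    congr 1
    rw [inv_inv, mul_assoc, ← hgx]; group
  · intro k hk
    obtain ⟨l, hl⟩ := hnorm k hk
    refine ⟨g * l * g⁻¹, ?_⟩
    show φ1 (g⁻¹ * (g * l * g⁻¹) * (g⁻¹)⁻¹) = k
    rw [← hl]
    congr 1
    group

end Cfsg.Agent.Lib.H25X
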