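import Mathlib.FieldTheory.Finite.Basic
import Mathlib.Algebra.Algebra.ZMod
import Mathlib.Algebra.Ring.Subring.Basic
import Mathlib.RingTheory.IntegralDomain

/-!
# A cyclic group acting regularly on an elementary abelian 2-group generates a field
-/

set_option autoImplicit false

namespace Cfsg.Agent.Lib.H26FieldPow

theorem ringHom_eq_frob {F : Type*} [Field F] [Finite F] (p : ℕ) [hp : Fact p.Prime] [CharP F p]
    (σ : F →+* F) : ∃ j : ℕ, ∀ x, σ x = x ^ p ^ j := by
  letI : Algebra (ZMod p) F := ZMod.algebra F p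
  have hcomm : ∀ r : ZMod p, σ (algebraMap (ZMod p) F r) = algebraMap (ZMod p) F r := by
    intro r
    have h1 : σ.comp (algebraMap (ZMod p) F) = algebraMap (ZMod p) F := Subsingleton.elim _ _
    exact congrArg (fun g : ZMod p →+* F => g r) h1
  let f : F →ₐ[ZMod p] F := { σ with commutes' := hcomm }
  have hb : Function.Bijective f := Finite.injective_iff_bijective.1 σ.injective
  obtain ⟨n, hn⟩ := (FiniteField.bijective_frobeniusAlgEquivOfAlgebraic_pow (ZMod p) F).2
    (AlgEquiv.ofBijective f hb)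
  refine ⟨n, fun x => ?_⟩
  have h1 := congrArg (fun g : F ≃ₐ[ZMod p] F => g x) hn
  simp only [AlgEquiv.coe_ofBijective] at h1
  have h2 : f x = σ x := rfl
  rw [← h2, ← h1, AlgEquiv.coe_pow, FiniteField.coe_frobeniusAlgEquivOfAlgebraic_iterate,
    ZMod.card]

section

variable {E : Type*} [AddCommGroup E] [Finite E]

/-- `φ` generates a group acting regularly on `E ∖ 0`, `ψ` normalizes it: then `ψ` acts on `φ` by a power
of two. -/
theorem exists_pow_two (hE : ∀ x : E, x + x = 0) (φ : AddMonoid.End E) (ψ : (AddMonoid.End E)ˣ) {s : E}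
    (hs : s ≠ 0) (hφ : Function.Injective φ) (hreg : ∀ x : E, x ≠ 0 → ∃ i : ℕ, (φ ^ i) s = x)
    {m : ℕ} (hψ : (ψ : AddMonoid.End E) * φ = φ ^ m * ψ) : ∃ j : ℕ, φ ^ m = φ ^ 2 ^ j := by
  classical
  set F := Subring.closure ({φ} : Set (AddMonoid.End E)) with hF
  have hφF : φ ∈ F := Subring.subset_closure rfl
  have hcφ : ∀ x ∈ F, x * φ = φ * x := by
    intro x hx
    have h1 : F ≤ Subring.centralizer ({φ} : Set (AddMonoid.End E)) := by
      rw [hF, Subring.closure_le]
      rintro y rfl
      rw [SetLike.mem_coe, Subring.mem_centralizer_iff]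
      rintro z rfl; rfl
    have h2 := h1 hx
    rw [Subring.mem_centralizer_iff] at h2
    exact (h2 φ rfl).symm
  have hcφi : ∀ x ∈ F, ∀ i : ℕ, x * φ ^ i = φ ^ i * x := fun x hx i =>
    ((show Commute x φ from hcφ x hx).pow_right i)
  have happ : ∀ (x y : AddMonoid.End E) (e : E), (x * y) e = x (y e) := fun x y e => rfl
  have hzero : ∀ x ∈ F, x s = 0 → x = 0 := by
    intro x hx h
    ext e
    by_cases he : e = 0
    · rw [he, map_zero]; rfl
    · obtain ⟨i, rfl⟩ := hreg e he
      rw [← happ, hcφi x hx i, happ, h, map_zero]; rfl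
  have hpow : ∀ x ∈ F, x ≠ 0 → ∃ i : ℕ, x = φ ^ i := by
    intro x hx hx0
    obtain ⟨i, hi⟩ := hreg (x s) (fun h => hx0 (hzero x hx h))
    refine ⟨i, ?_⟩
    have h1 : x - φ ^ i = 0 := by
      apply hzero _ (sub_mem hx (pow_mem hφF i))
      show x s - (φ ^ i) s = 0
      rw [hi, sub_self]
    exact sub_eq_zero.1 h1
  have hφi : ∀ i : ℕ, Function.Injective (φ ^ i) := by
    intro i
    induction i with
    | zero => exact fun a b h => h
    | succ n ih =>
      rw [pow_succ]
      intro a b h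
      exact hφ (ih h)
  have hmulcomm : ∀ x y : F, x * y = y * x := by
    rintro ⟨x, hx⟩ ⟨y, hy⟩
    apply Subtype.ext
    show x * y = y * x
    by_cases hy0 : y = 0
    · rw [hy0, mul_zero, zero_mul]
    · obtain ⟨i, rfl⟩ := hpow y hy hy0
      exact hcφi x hx i
  letI : CommRing F := { (inferInstance : Ring F) with mul_comm := hmulcomm }
  have hnt : Nontrivial F := ⟨1, 0, fun h => by
    have h1 : (1 : AddMonoid.End E) = 0 := congrArg Subtype.val h
    have h2 := congrArg (fun f : AddMonoid.End E => f s) h1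
    exact hs h2⟩
  have hnz : NoZeroDivisors F := ⟨by
    rintro ⟨x, hx⟩ ⟨y, hy⟩ hxy
    have hxy' : x * y = 0 := congrArg Subtype.val hxy
    by_cases hx0 : x = 0
    · exact Or.inl (Subtype.ext hx0)
    by_cases hy0 : y = 0
    · exact Or.inr (Subtype.ext hy0)
    exfalso
    obtain ⟨i, rfl⟩ := hpow x hx hx0
    obtain ⟨j, rfl⟩ := hpow y hy hy0
    rw [← pow_add] at hxy'
    apply hs
    apply hφi (i + j)
    rw [hxy', map_zero]; rfl⟩
  have hdom : IsDomain F := NoZeroDivisors.to_isDomain F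
  have hfinE : Finite (AddMonoid.End E) := 
    Finite.of_injective (fun f : AddMonoid.End E => (f : E → E)) DFunLike.coe_injective
  have hfin : Finite F := inferInstance
  letI : Field F := (Finite.isField_of_domain F).toField
  have hchar : CharP F 2 := by
    refine CharTwo.of_one_ne_zero_of_two_eq_zero one_ne_zero ?_
    apply Subtype.ext
    ext e
    show (((2 : F) : AddMonoid.End E)) e = 0
    have : ((2 : F) : AddMonoid.End E) = 1 + 1 := by
      rw [← one_add_one_eq_two]; rfl
    rw [this]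
    exact hE e
  let c : AddMonoid.End E →+* AddMonoid.End E :=
  { toFun := fun x => (ψ : AddMonoid.End E) * x * ((ψ⁻¹ : (AddMonoid.End E)ˣ) : AddMonoid.End E)
    map_one' := by rw [mul_one, Units.mul_inv]
    map_zero' := by rw [mul_zero, zero_mul]
    map_add' := fun x y => by rw [mul_add, add_mul]
    map_mul' := fun x y => by
      rw [show (ψ : AddMonoid.End E) * x * (ψ⁻¹ : (AddMonoid.End E)ˣ) *
        ((ψ : AddMonoid.End E) * y * (ψ⁻¹ : (AddMonoid.End E)ˣ)) =
        (ψ : AddMonoid.End E) * x * (((ψ⁻¹ : (AddMonoid.End E)ˣ) : AddMonoid.End E) * ψ) * y *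
          (ψ⁻¹ : (AddMonoid.End E)ˣ) by simp only [mul_assoc], Units.inv_mul, mul_one]
      simp only [mul_assoc] }
  have hcφ' : c φ = φ ^ m := by
    show (ψ : AddMonoid.End E) * φ * (ψ⁻¹ : (AddMonoid.End E)ˣ) = φ ^ m
    rw [hψ, mul_assoc, Units.mul_inv, mul_one]
  have hcF : F ≤ F.comap c := by
    rw [hF, Subring.closure_le]
    rintro y rfl
    rw [SetLike.mem_coe, Subring.mem_comap, hcφ']
    exact pow_mem hφF m
  let σ : F →+* F := c.restrict F F (fun x hx => hcF hx)
  obtain ⟨j, hj⟩ := ringHom_eq_frob 2 σ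
  refine ⟨j, ?_⟩
  have h1 := congrArg Subtype.val (hj ⟨φ, hφF⟩)
  rw [← hcφ']
  exact h1

end

end Cfsg.Agent.Lib.H26FieldPow
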