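import Cfsg.Agent.Lib.H15Tb
import Cfsg.Agent.Lib.EppoFour
import Cfsg.Agent.Lib.SpcA1

/-!
# S4371, piece R3 (helper26): reduction to the almost simple case
-/

set_option autoImplicit false
set_option linter.all false

namespace Cfsg.Agent.Lib.H26R3

open Subgroup Cfsg Cfsg.Agent.Lib Cfsg.Agent.Lib.H15T

universe u

variable {G : Type u} [Group G] [Finite G]

theorem solv_of_quot (N : Subgroup G) [N.Normal] (h1 : Group.IsSolvable N) (h2 : Group.IsSolvable (G ⧸ N)) :
    Group.IsSolvable G := EppoFour.solvable_of_quot N h1 h2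

theorem solv_of_burnside (P : Sylow 2 G) (hP : normalizer ((P : Subgroup G) : Set G) ≤ centralizer ((P : Subgroup G) : Set G)) :
    Group.IsSolvable G := by
  set f := MonoidHom.transferSylow P hP with hf
  have h1 : Odd (Nat.card f.ker) := by
    rw [← Nat.not_even_iff_odd, even_iff_two_dvd]
    exact MonoidHom.not_dvd_card_ker_transferSylow P hP
  have h2 : Group.IsSolvable f.ker := Cfsg.Agent.S0205.result h1
  have h3 : Group.IsNilpotent (P : Subgroup G) := P.isPGroup'.isNilpotent
  have h4 : Group.IsSolvable (P : Subgroup G) := inferInstance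
  have h5 : Group.IsSolvable (G ⧸ f.ker) :=
    Group.isSolvable_of_isSolvable_injective (f := QuotientGroup.kerLift f) (QuotientGroup.kerLift_injective f)
  exact solv_of_quot f.ker h2 h5

theorem mem_of_pow_coprime {H : Subgroup G} {x : G} {a b : ℕ} (hab : Nat.Coprime a b) (ha : x ^ a ∈ H) (hb : x ^ b ∈ H) :
    x ∈ H := by
  have h1 := Nat.gcd_eq_gcd_ab a b
  rw [Nat.Coprime.gcd_eq_one hab] at h1
  have h2 : x = (x ^ a) ^ (Nat.gcdA a b) * (x ^ b) ^ (Nat.gcdB a b) := by
    rw [← zpow_natCast x a, ← zpow_natCast x b, ← zpow_mul, ← zpow_mul, ← zpow_add, ← h1]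
    simp
  rw [h2]
  exact mul_mem (zpow_mem ha _) (zpow_mem hb _)

/-- if odd order elements of `N(S)` act trivially on `S` modulo the solvable normal subgroup `C`, `G` is solvable -/
theorem solv_of_comm (C : Subgroup G) [hCn : C.Normal] (hC : Group.IsSolvable C) (S : Sylow 2 G)
    (hSc : ∀ a ∈ (S : Subgroup G), ∀ b ∈ (S : Subgroup G), a * b = b * a)
    (hB : ∀ a ∈ (S : Subgroup G), ∀ n ∈ normalizer ((S : Subgroup G) : Set G), Odd (orderOf n) → a * n * a⁻¹ * n⁻¹ ∈ C) :
    Group.IsSolvable G := by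
  set π := QuotientGroup.mk' C with hπ
  have hsurj : Function.Surjective π := QuotientGroup.mk'_surjective _
  set S' : Sylow 2 (G ⧸ C) := S.mapSurjective hsurj with hS'
  have hS'c : (S' : Subgroup (G ⧸ C)) = (S : Subgroup G).map π := Sylow.coe_mapSurjective hsurj S
  -- elements of N(S) centralize S mod C
  have h1 : ∀ n ∈ normalizer ((S : Subgroup G) : Set G), ∀ a ∈ (S : Subgroup G), π a * π n = π n * π a := by
    have key : normalizer ((S : Subgroup G) : Set G) ≤ (centralizer ((S' : Subgroup (G ⧸ C)) : Set (G ⧸ C))).comap π := by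
      intro n hn
      have hno : orderOf n ≠ 0 := (orderOf_pos n).ne'
      obtain ⟨k, m, hm2, hkm⟩ := Nat.exists_eq_pow_mul_and_not_dvd hno 2 (by norm_num)
      have hmodd : Odd m := by rw [← Nat.not_even_iff_odd, even_iff_two_dvd]; exact hm2
      apply mem_of_pow_coprime (a := 2 ^ k) (b := m) ((Nat.coprime_two_left.mpr hmodd).pow_left k)
      · -- odd order element
        have ho : orderOf (n ^ 2 ^ k) = m := by
          rw [orderOf_pow, hkm, Nat.gcd_eq_right (dvd_mul_right _ _), Nat.mul_div_cancel_left _ (by positivity)]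
        have hn' : n ^ 2 ^ k ∈ normalizer ((S : Subgroup G) : Set G) := pow_mem hn _
        rw [mem_comap, mem_centralizer_iff]
        intro y hy
        have hy' : y ∈ (S : Subgroup G).map π := by rw [← hS'c]; exact hy
        obtain ⟨a, ha, rfl⟩ := hy'
        have h2 := hB a ha _ hn' (by rw [ho]; exact hmodd)
        have h3 : π (a * n ^ 2 ^ k * a⁻¹ * (n ^ 2 ^ k)⁻¹) = 1 := (QuotientGroup.eq_one_iff _).2 h2
        rw [map_mul, map_mul, map_mul, map_inv, map_inv] at h3
        have h4 : π a * π (n ^ 2 ^ k) * (π a)⁻¹ = π (n ^ 2 ^ k) := mul_inv_eq_one.1 h3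
        exact mul_inv_eq_iff_eq_mul.1 h4
      · -- 2-element
        have ho : orderOf (n ^ m) = 2 ^ k := by
          rw [orderOf_pow, hkm, Nat.gcd_eq_right (dvd_mul_left _ _), Nat.mul_div_cancel _ (Nat.pos_of_ne_zero (by
            rintro rfl; exact hm2 (dvd_zero 2)))]
        have hn' : n ^ m ∈ normalizer ((S : Subgroup G) : Set G) := pow_mem hn _
        have hp : IsPGroup 2 (zpowers (n ^ m)) := IsPGroup.of_card (n := k) (by rw [Nat.card_zpowers, ho])
        have hin : n ^ m ∈ (S : Subgroup G) := by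
          have h5 : IsPGroup 2 (((S : Subgroup G) ⊔ zpowers (n ^ m) : Subgroup G)) := by
            apply S.isPGroup'.to_sup_of_normal_left' hp
            exact (zpowers_le.2 hn')
          have h6 := S.is_maximal' h5 le_sup_left
          have h7 : n ^ m ∈ ((S : Subgroup G) ⊔ zpowers (n ^ m) : Subgroup G) := le_sup_right (a := (S : Subgroup G)) (mem_zpowers _)
          rw [h6] at h7
          exact h7
        rw [mem_comap, mem_centralizer_iff]
        intro y hy
        have hy' : y ∈ (S : Subgroup G).map π := by rw [← hS'c]; exact hy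
        obtain ⟨a, ha, rfl⟩ := hy'
        rw [← map_mul, ← map_mul, hSc a ha _ hin]
    intro n hn a ha
    have h2 := key hn
    rw [mem_comap, mem_centralizer_iff] at h2
    exact h2 (π a) (by
      show π a ∈ (S' : Subgroup (G ⧸ C))
      rw [hS'c]; exact mem_map_of_mem π ha)
  have h2 : normalizer ((S' : Subgroup (G ⧸ C)) : Set (G ⧸ C)) ≤ centralizer ((S' : Subgroup (G ⧸ C)) : Set (G ⧸ C)) := by
    intro x hx
    obtain ⟨g, rfl⟩ := hsurj x
    -- Frattini
    set K : Subgroup G := (S : Subgroup G) ⊔ C with hK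
    have hKmap : K.map π = (S' : Subgroup (G ⧸ C)) := by
      rw [hK, Subgroup.map_sup, hS'c]
      have : C.map π = ⊥ := by rw [Subgroup.map_eq_bot_iff, hπ, QuotientGroup.ker_mk']
      rw [this, sup_bot_eq]
    have hcomap : (S' : Subgroup (G ⧸ C)).comap π = K := by
      rw [← hKmap, Subgroup.comap_map_eq, hπ, QuotientGroup.ker_mk']
      rw [hK, sup_assoc, sup_idem]
    have hSK : (S : Subgroup G) ≤ K := le_sup_left
    have hgS : ((S : Subgroup G).map (MulAut.conj g).toMonoidHom) ≤ K := by
      rintro _ ⟨a, ha, rfl⟩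
      rw [← hcomap, mem_comap]
      have h3 : π ((MulAut.conj g).toMonoidHom a) = π g * π a * (π g)⁻¹ := by simp
      rw [h3]
      have h4 : π a ∈ (S' : Subgroup (G ⧸ C)) := by rw [hS'c]; exact mem_map_of_mem π ha
      exact (mem_normalizer_iff.1 hx (π a)).1 h4
    -- two Sylow subgroups of K
    have hS1 : ((S : Subgroup G).map (MulAut.conj g).toMonoidHom) = ((g • S : Sylow 2 G) : Subgroup G) := rfl
    let P1 : Sylow 2 K := S.subtype hSK
    let P2 : Sylow 2 K := (g • S).subtype hgS
    obtain ⟨k, hk⟩ := MulAction.exists_smul_eq K P2 P1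
    have hkS : (k : G) * g ∈ normalizer ((S : Subgroup G) : Set G) := by
      have h5 : ((k : G) • (g • S) : Sylow 2 G) = S := by
        apply Sylow.ext
        have h6 : ((k • P2 : Sylow 2 K) : Subgroup K).map K.subtype = ((P1 : Sylow 2 K) : Subgroup K).map K.subtype := by rw [hk]
        have h7 : ((P1 : Sylow 2 K) : Subgroup K).map K.subtype = (S : Subgroup G) := Subgroup.map_subgroupOf_eq_of_le hSK
        have h8 : ((k • P2 : Sylow 2 K) : Subgroup K).map K.subtype = (((k : G) • (g • S) : Sylow 2 G) : Subgroup G) := by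
          have h9 : ((P2 : Sylow 2 K) : Subgroup K).map K.subtype = ((g • S : Sylow 2 G) : Subgroup G) := Subgroup.map_subgroupOf_eq_of_le hgS
          rw [Sylow.coe_subgroup_smul, Sylow.coe_subgroup_smul (g := (k : G)), ← h9]
          ext y
          constructor
          · rintro ⟨z, hz, rfl⟩
            rw [SetLike.mem_coe, Subgroup.mem_smul_pointwise_iff_exists] at hz
            obtain ⟨w, hw, rfl⟩ := hz
            rw [Subgroup.mem_smul_pointwise_iff_exists]
            exact ⟨(w : G), ⟨w, hw, rfl⟩, rfl⟩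
          · intro hy
            rw [Subgroup.mem_smul_pointwise_iff_exists] at hy
            obtain ⟨w, ⟨w', hw', rfl⟩, rfl⟩ := hy
            refine ⟨MulAut.conj k • w', ?_, rfl⟩
            rw [SetLike.mem_coe, Subgroup.mem_smul_pointwise_iff_exists]
            exact ⟨w', hw', rfl⟩
        rw [← h8, h6, h7]
      exact Sylow.smul_eq_iff_mem_normalizer.1 (by rw [mul_smul]; exact h5)
    have hkK : π (k : G) ∈ (S' : Subgroup (G ⧸ C)) := by
      rw [← hKmap]; exact mem_map_of_mem π k.2
    rw [hS'c] at hkK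
    obtain ⟨s, hs, hsk⟩ := hkK
    rw [mem_centralizer_iff]
    intro y hy
    have hy' : y ∈ (S : Subgroup G).map π := by rw [← hS'c]; exact hy
    obtain ⟨a, ha, rfl⟩ := hy'
    have h3 := h1 _ hkS a ha
    rw [map_mul, ← hsk] at h3
    have h4 : π a * π s = π s * π a := by rw [← map_mul, ← map_mul, hSc a ha s hs]
    have h5 : π s * (π a * π g) = π s * (π g * π a) := by
      calc π s * (π a * π g) = (π s * π a) * π g := by group
        _ = π a * (π s * π g) := by rw [← h4]; group
        _ = π s * π g * π a := h3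
        _ = _ := by group
    exact mul_left_cancel h5
  exact solv_of_quot C hC (solv_of_burnside S' h2)

theorem exists_fixed {V : Subgroup G} (hV : V.Normal) (hVab : ∀ a ∈ V, ∀ b ∈ V, a * b = b * a) (hV1 : V ≠ ⊥)
    {s t : G} (hs : s * s = 1) (ht : t * t = 1) (hst : s * t = t * s) (hs1 : s ≠ 1) (ht1 : t ≠ 1) (hne : s ≠ t) :
    ∃ x : G, orderOf x = 2 ∧ ∃ v ∈ V, v ≠ 1 ∧ v * x = x * v := by
  obtain ⟨⟨v, hv⟩, hv1'⟩ := Subgroup.ne_bot_iff_exists_ne_one.1 hV1
  have hv1 : v ≠ 1 := fun h0 => hv1' (Subtype.ext h0)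
  have key : ∀ x : G, x * x = 1 → (∃ w ∈ V, w ≠ 1 ∧ w * x = x * w) ∨ x * v * x⁻¹ = v⁻¹ := by
    intro x hx
    have hxi : x⁻¹ = x := inv_eq_of_mul_eq_one_left hx
    have h1 : x * v * x⁻¹ ∈ V := hV.conj_mem v hv x
    by_cases h2 : v * (x * v * x⁻¹) = 1
    · right
      exact (inv_eq_of_mul_eq_one_right h2).symm
    · left
      refine ⟨v * (x * v * x⁻¹), mul_mem hv h1, h2, ?_⟩
      have h3 := hVab v hv _ h1
      calc v * (x * v * x⁻¹) * x = (x * v * x⁻¹) * v * x := by rw [h3]
        _ = x * v * x⁻¹ * (x * x) * v * x⁻¹ := by rw [hx, hxi]; group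
        _ = x * (v * (x * v * x⁻¹)) := by group
  have ho : ∀ x : G, x * x = 1 → x ≠ 1 → orderOf x = 2 := fun x hx hx1 =>
    orderOf_eq_prime (by rw [pow_two]; exact hx) hx1
  rcases key s hs with ⟨w, hw, hw1, hws⟩ | h1
  · exact ⟨s, ho s hs hs1, w, hw, hw1, hws⟩
  rcases key t ht with ⟨w, hw, hw1, hws⟩ | h2
  · exact ⟨t, ho t ht ht1, w, hw, hw1, hws⟩
  have hst2 : (s * t) * (s * t) = 1 := by
    calc (s * t) * (s * t) = s * (t * s) * t := by group
      _ = s * (s * t) * t := by rw [hst]
      _ = (s * s) * (t * t) := by group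
      _ = 1 := by rw [hs, ht, one_mul]
  have hst1 : s * t ≠ 1 := by
    intro h
    apply hne
    have h3 := eq_inv_of_mul_eq_one_left h
    rw [h3]
    exact inv_eq_of_mul_eq_one_left ht
  refine ⟨s * t, ho _ hst2 hst1, v, hv, hv1, ?_⟩
  have h3 : (s * t) * v * (s * t)⁻¹ = v := by
    calc (s * t) * v * (s * t)⁻¹ = s * (t * v * t⁻¹) * s⁻¹ := by group
      _ = (s * v * s⁻¹)⁻¹ := by rw [h2]; group
      _ = v := by rw [h1, inv_inv]
  calc v * (s * t) = (s * t) * v * (s * t)⁻¹ * (s * t) := by rw [h3]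
    _ = s * t * v := by group

variable {r : ℕ}

theorem even_of_not_solv {A : Subgroup G} (hA : ¬ Group.IsSolvable A) : ∃ t ∈ A, orderOf t = 2 := by
  have h1 : 2 ∣ Nat.card A := by
    by_contra h
    apply hA
    apply Cfsg.Agent.S0205.result
    rw [← Nat.not_even_iff_odd, even_iff_two_dvd]; exact h
  obtain ⟨x, hx⟩ := exists_prime_orderOf_dvd_card' 2 h1
  exact ⟨x, x.2, by rw [Subgroup.orderOf_coe]; exact hx⟩

theorem solv_of_le {A B : Subgroup G} (hAB : A ≤ B) (hB : Group.IsSolvable B) : Group.IsSolvable A :=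
  Group.isSolvable_of_isSolvable_injective (f := Subgroup.inclusion hAB) (Subgroup.inclusion_injective hAB)

theorem no_comm (h : HypR G r) {A B : Subgroup G} (hA : ¬ Group.IsSolvable A) (hB : ¬ Group.IsSolvable B)
    (hc : ∀ a ∈ A, ∀ b ∈ B, a * b = b * a) : False := by
  obtain ⟨t, ht, hto⟩ := even_of_not_solv hB
  apply hA
  apply solv_of_le (B := centralizer ({t} : Set G)) _ (h.solv_cent hto)
  intro a ha
  rw [mem_centralizer_singleton_iff]
  exact hc a ha t ht

theorem rad_trivial (h : HypR G r) (hns : ¬ Group.IsSolvable G)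
    (hB : ∀ (A R : Subgroup G), IsPGroup 2 A → IsPGroup r R → A ≤ normalizer (R : Set G) →
      ∀ n ∈ normalizer (A : Set G), n ∈ normalizer (R : Set G) → Odd (orderOf n) → ∀ a ∈ A,
        a * n * a⁻¹ * n⁻¹ ∈ centralizer (R : Set G))
    {N : Subgroup G} (hN : N.Normal) (hNs : Group.IsSolvable N) : N = ⊥ := by
  by_contra hne
  obtain ⟨p, hp, R, hR, hR1, hRp⟩ := SpcA.exists_normal_p hN hNs hne
  obtain ⟨V, hV, hVR, hV1, hVab⟩ := EppoFour.exists_abelian_normal hp R hRp hR1
  have hVp : IsPGroup p V := hRp.to_le hVR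
  haveI := Fact.mk hp
  have hCn : (centralizer (V : Set G)).Normal := by
    haveI := hV
    infer_instance
  obtain ⟨⟨v, hv⟩, hv1'⟩ := Subgroup.ne_bot_iff_exists_ne_one.1 hV1
  have hv1 : v ≠ 1 := fun h0 => hv1' (Subtype.ext h0)
  have hCv : centralizer (V : Set G) ≤ centralizer ({v} : Set G) :=
    centralizer_le (by rintro _ rfl; exact hv)
  by_cases h2 : p = 2
  · subst h2
    obtain ⟨S, hVS⟩ := hVp.exists_le_sylow
    have hvo : orderOf v = 2 := orderOf_eq_prime (by rw [pow_two]; exact h.sq_eq_one hVp hv) hv1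
    have hSC : (S : Subgroup G) ≤ centralizer (V : Set G) := by
      intro s hs
      rw [mem_centralizer_iff]
      intro w hw
      exact h.comm S.isPGroup' (hVS hw) hs
    have h3 : Group.IsSolvable (centralizer (V : Set G)) := solv_of_le hCv (h.solv_cent hvo)
    have h4 : Odd (Nat.card (G ⧸ centralizer (V : Set G))) := by
      rw [← Nat.not_even_iff_odd, even_iff_two_dvd, ← Subgroup.index_eq_card]
      intro h5
      exact S.not_dvd_index (h5.trans (Subgroup.index_dvd_of_le hSC))
    exact hns (solv_of_quot _ h3 (Cfsg.Agent.S0205.result h4))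
  · obtain ⟨S⟩ : Nonempty (Sylow 2 G) := inferInstance
    by_cases hS : ∃ s ∈ (S : Subgroup G), ∃ t ∈ (S : Subgroup G), s ≠ 1 ∧ t ≠ 1 ∧ s ≠ t
    · obtain ⟨s, hs, t, ht, hs1, ht1, hst⟩ := hS
      obtain ⟨x, hx, w, hw, hw1, hwx⟩ := exists_fixed hV hVab hV1 (h.sq_eq_one S.isPGroup' hs)
        (h.sq_eq_one S.isPGroup' ht) (h.comm S.isPGroup' hs ht) hs1 ht1 hst
      have hpw : p ∣ orderOf w := by
        obtain ⟨k, hk⟩ := hVp ⟨w, hw⟩
        have hk' : w ^ p ^ k = 1 := by simpa using congrArg Subtype.val hk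
        obtain ⟨j, -, hj⟩ := (Nat.dvd_prime_pow hp).1 (orderOf_dvd_of_pow_eq_one hk')
        rcases Nat.eq_zero_or_pos j with h0 | h0
        · rw [h0, pow_zero, orderOf_eq_one_iff] at hj
          exact absurd hj hw1
        · rw [hj]; exact dvd_pow_self p h0.ne'
      have hwc : w ∈ centralizer ({x} : Set G) := by
        rw [mem_centralizer_singleton_iff]; exact hwx
      have hpc : p ∣ Nat.card (centralizer ({x} : Set G)) := by
        refine hpw.trans ?_
        have := orderOf_dvd_natCard (⟨w, hwc⟩ : centralizer ({x} : Set G))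
        rwa [orderOf_mk] at this
      have hpr : p = r := (h.dvd_cent hx hp hpc).resolve_left h2
      subst hpr
      have hvo : orderOf v = p := orderOf_eq_prime (h.pow_r hVp hv) hv1
      have hCs : Group.IsSolvable (centralizer (V : Set G)) := by
        apply solv_of_le hCv
        exact solv_of_dvd h.rp (fun q hq hd => h.dvd_cent_r hvo hq hd) h.r2
      have hVn : ∀ g : G, g ∈ normalizer (V : Set G) := fun g => by
        rw [normalizer_eq_top_iff.2 hV]; exact mem_top g
      exact hns (solv_of_comm _ hCs S (fun a ha b hb => h.comm S.isPGroup' ha hb) (fun a ha n hn ho =>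
        hB S V S.isPGroup' hVp (fun g _ => hVn g) n hn (hVn n) ho a ha))
    · push Not at hS
      apply hns
      apply solv_of_burnside S
      intro n hn
      rw [mem_centralizer_iff]
      intro a ha
      by_cases ha1 : a = 1
      · rw [ha1, one_mul, mul_one]
      · have h3 : n * a * n⁻¹ ∈ (S : Subgroup G) := (mem_normalizer_iff.1 hn a).1 ha
        have h4 : n * a * n⁻¹ ≠ 1 := by
          intro h5
          apply ha1
          calc a = n⁻¹ * (n * a * n⁻¹) * n := by group
            _ = 1 := by rw [h5]; group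
        have h5 := hS a ha _ h3 ha1 h4
        calc a * n = (n * a * n⁻¹) * n := by rw [← h5]
          _ = n * a := by group

theorem almost_simple_of (h : HypR G r) (hns : ¬ Group.IsSolvable G)
    (hB : ∀ (A R : Subgroup G), IsPGroup 2 A → IsPGroup r R → A ≤ normalizer (R : Set G) →
      ∀ n ∈ normalizer (A : Set G), n ∈ normalizer (R : Set G) → Odd (orderOf n) → ∀ a ∈ A,
        a * n * a⁻¹ * n⁻¹ ∈ centralizer (R : Set G)) :
    ∃ L : Subgroup G, L.Normal ∧ IsSimpleGroup L ∧ ¬ Group.IsSolvable L ∧ centralizer (L : Set G) = ⊥ := by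
  classical
  have hrad : ∀ N : Subgroup G, N.Normal → Group.IsSolvable N → N = ⊥ := fun N hN hNs => rad_trivial h hns hB hN hNs
  have htop : (⊤ : Subgroup G) ≠ ⊥ := by
    intro ht
    apply hns
    have h1 : Group.IsSolvable (⊤ : Subgroup G) := by rw [ht]; infer_instance
    exact Group.isSolvable_of_surjective (f := (⊤ : Subgroup G).subtype) (fun x => ⟨⟨x, mem_top x⟩, rfl⟩)
  -- minimal normal subgroup
  obtain ⟨M, ⟨hMn, hM1⟩, hMmin⟩ := Set.exists_min_image {N : Subgroup G | N.Normal ∧ N ≠ ⊥} (fun N : Subgroup G => Nat.card N)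
    (Set.toFinite _) ⟨⊤, inferInstance, htop⟩
  have hMns : ¬ Group.IsSolvable M := fun hs => hM1 (hrad M hMn hs)
  -- minimal normal subgroup of M
  obtain ⟨T, ⟨hT1, hTM, hTn⟩, hTmin⟩ := Set.exists_min_image
    {T : Subgroup G | T ≠ ⊥ ∧ T ≤ M ∧ M ≤ normalizer (T : Set G)} (fun N : Subgroup G => Nat.card N)
    (Set.toFinite _) ⟨M, hM1, le_rfl, le_normalizer⟩
  have hTns : ¬ Group.IsSolvable T := by
    intro hTs
    obtain ⟨R, hRn, hRs, hRmax⟩ := EppoFour.exists_solv_radical M
    have hRc : R.Characteristic := by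
      rw [Subgroup.characteristic_iff_map_le]
      intro φ
      apply hRmax
      · exact hRn.map φ.toMonoidHom φ.surjective
      · exact Group.isSolvable_of_surjective (f := φ.toMonoidHom.subgroupMap R) (φ.toMonoidHom.subgroupMap_surjective R)
    have h1 : (R.map M.subtype).Normal := Fitting.normal_map_subtype_of_characteristic hRc
    have h2 : Group.IsSolvable (R.map M.subtype) :=
      Group.isSolvable_of_surjective (f := M.subtype.subgroupMap R) (M.subtype.subgroupMap_surjective R)
    have h3 := hrad _ h1 h2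
    rw [Subgroup.map_eq_bot_iff_of_injective _ M.subtype_injective] at h3
    have h4 : (T.subgroupOf M).Normal := Subgroup.normal_subgroupOf_iff_le_normalizer hTM |>.2 hTn
    have h5 : Group.IsSolvable (T.subgroupOf M) :=
      Group.isSolvable_of_isSolvable_injective (f := (Subgroup.subgroupOfEquivOfLe hTM).toMonoidHom)
        (Subgroup.subgroupOfEquivOfLe hTM).injective
    have h6 := hRmax _ h4 h5
    rw [h3, le_bot_iff, Subgroup.subgroupOf_eq_bot] at h6
    rw [disjoint_iff, inf_eq_left.2 hTM] at h6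
    exact hT1 h6
  have hTG : T.Normal := by
    by_contra hTn'
    have h1 : ∃ g : G, T.map (MulAut.conj g).toMonoidHom ≠ T := by
      by_contra h2
      push Not at h2
      apply hTn'
      constructor
      intro t ht g
      have h3 : (MulAut.conj g).toMonoidHom t ∈ T.map (MulAut.conj g).toMonoidHom := mem_map_of_mem _ ht
      rw [h2 g] at h3
      simpa using h3
    obtain ⟨g, hg⟩ := h1
    set U : Subgroup G := T.map (MulAut.conj g).toMonoidHom with hU
    have hUcard : Nat.card U = Nat.card T := by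
      rw [hU]; exact Subgroup.card_map_of_injective (MulAut.conj g).injective
    have hUM : U ≤ M := by
      rintro _ ⟨t, ht, rfl⟩
      have := hMn.conj_mem t (hTM ht) g
      simpa using this
    have hUn : M ≤ normalizer (U : Set G) := by
      intro m hm
      have hm' : g⁻¹ * m * g ∈ normalizer (T : Set G) := hTn (by simpa using hMn.conj_mem m hm g⁻¹)
      rw [mem_normalizer_iff] at hm' ⊢
      intro x
      have hx : ∀ y : G, y ∈ U ↔ g⁻¹ * y * g ∈ T := by
        intro y
        constructor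
        · rintro ⟨t, ht, rfl⟩
          have : g⁻¹ * ((MulAut.conj g).toMonoidHom t) * g = t := by simp; group
          rw [this]; exact ht
        · intro hy
          refine ⟨_, hy, ?_⟩
          simp; group
      rw [hx, hx, hm' (g⁻¹ * x * g)]
      have : g⁻¹ * m * g * (g⁻¹ * x * g) * (g⁻¹ * m * g)⁻¹ = g⁻¹ * (m * x * m⁻¹) * g := by group
      rw [this]
    have hinf : T ⊓ U = ⊥ := by
      by_contra hne
      have h3 := hTmin (T ⊓ U) ⟨hne, inf_le_left.trans hTM, by
        intro m hm
        have ha := hTn hm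
        have hb := hUn hm
        rw [mem_normalizer_iff] at ha hb ⊢
        intro x
        have e1 := ha x
        have e2 := hb x
        simp only [SetLike.mem_coe, Subgroup.mem_inf] at e1 e2 ⊢
        rw [e1, e2]⟩
      have h4 : T ⊓ U = T := Subgroup.eq_of_le_of_card_ge inf_le_left h3
      have h5 : T ≤ U := inf_eq_left.1 h4
      exact hg (Subgroup.eq_of_le_of_card_ge h5 hUcard.le).symm
    have hUns : ¬ Group.IsSolvable U := by
      intro hs
      apply hTns
      exact Group.isSolvable_of_isSolvable_injective (f := (MulAut.conj g).toMonoidHom.subgroupMap T) (by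
        intro a b hab
        apply Subtype.ext
        have h3 : (MulAut.conj g).toMonoidHom (a : G) = (MulAut.conj g).toMonoidHom (b : G) := congrArg Subtype.val hab
        exact (MulAut.conj g).injective h3)
    apply no_comm h hTns hUns
    intro a ha b hb
    have h3 : a * b * a⁻¹ * b⁻¹ ∈ T ⊓ U := by
      refine ⟨?_, ?_⟩
      · have h4 : b * a⁻¹ * b⁻¹ ∈ T := (mem_normalizer_iff.1 (hTn (hUM hb)) a⁻¹).1 (inv_mem ha)
        have h5 : a * b * a⁻¹ * b⁻¹ = a * (b * a⁻¹ * b⁻¹) := by group
        rw [h5]; exact mul_mem ha h4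
      · have h4 : a * b * a⁻¹ ∈ U := (mem_normalizer_iff.1 (hUn (hTM ha)) b).1 hb
        exact U.mul_mem h4 (U.inv_mem hb)
    rw [hinf, Subgroup.mem_bot] at h3
    calc a * b = a * b * a⁻¹ * b⁻¹ * (b * a) := by group
      _ = b * a := by rw [h3, one_mul]
  have hTM' : T = M := Subgroup.eq_of_le_of_card_ge hTM (hMmin T ⟨hTG, hT1⟩)
  subst hTM'
  refine ⟨T, hMn, ?_, hMns, ?_⟩
  · haveI : Nontrivial T := (Subgroup.nontrivial_iff_ne_bot T).2 hT1
    refine { eq_bot_or_eq_top_of_normal := ?_ }
    intro H hH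
    by_cases hH1 : H = ⊥
    · left; exact hH1
    right
    have h1 : H.map T.subtype ≠ ⊥ := by
      rwa [ne_eq, Subgroup.map_eq_bot_iff_of_injective _ T.subtype_injective]
    have h2 : H.map T.subtype ≤ T := by rintro _ ⟨a, -, rfl⟩; exact a.2
    have h3 : T ≤ normalizer ((H.map T.subtype : Subgroup G) : Set G) := by
      intro m hm
      rw [mem_normalizer_iff]
      intro x
      constructor
      · rintro ⟨a, ha, rfl⟩
        exact ⟨⟨m, hm⟩ * a * ⟨m, hm⟩⁻¹, hH.conj_mem a ha _, rfl⟩
      · rintro ⟨a, ha, hax⟩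
        have hax' : (a : G) = m * x * m⁻¹ := hax
        refine ⟨⟨m, hm⟩⁻¹ * a * ⟨m, hm⟩, by simpa using hH.conj_mem a ha ⟨m, hm⟩⁻¹, ?_⟩
        show m⁻¹ * (a : G) * m = x
        rw [hax']; group
    have h4 := hTmin _ ⟨h1, h2, h3⟩
    have h5 : H.map T.subtype = T := Subgroup.eq_of_le_of_card_ge h2 h4
    rw [eq_top_iff]
    intro x _
    have h6 : (x : G) ∈ H.map T.subtype := by rw [h5]; exact x.2
    obtain ⟨a, ha, hax⟩ := h6
    have : a = x := Subtype.ext hax
    rw [← this]; exact ha
  · by_contra hC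
    have hCn : (centralizer (T : Set G)).Normal := by
      haveI := hMn
      infer_instance
    have hCns : ¬ Group.IsSolvable (centralizer (T : Set G)) := fun hs => hC (hrad _ hCn hs)
    apply no_comm h hMns hCns
    intro a ha b hb
    exact (mem_centralizer_iff.1 hb a ha)

end Cfsg.Agent.Lib.H26R3
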