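import Mathlib
import Cfsg.Agent.Lib.PSLOut
import Cfsg.Agent.Lib.SL2Basic

/-!
Quaternion elements of `SL₂(q)`, `q` odd, the corresponding four-group of `PSL₂(q)`, its centralizer in
`PGL₂(q)`, and automorphisms of `2`-power order trivial on it when `2` is not a square (seat helper53).
-/

set_option autoImplicit false

namespace Cfsg.Agent.Lib.H53PSL2

open Matrix Cfsg.Agent.Lib.PSLAut

variable {F : Type*} [Field F]

local notation "SL2" => Matrix.SpecialLinearGroup (Fin 2) F
local notation "M2" => Matrix (Fin 2) (Fin 2) F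
local notation "PSL2" => Matrix.ProjectiveSpecialLinearGroup (Fin 2) F

/-- the quaternion unit `i` -/
def qi (F : Type*) [Field F] : Matrix.SpecialLinearGroup (Fin 2) F :=
  ⟨!![0, 1; -1, 0], by rw [Matrix.det_fin_two_of]; ring⟩

/-- the quaternion unit `j` -/
def qj {a b : F} (h : a ^ 2 + b ^ 2 = -1) : Matrix.SpecialLinearGroup (Fin 2) F :=
  ⟨!![a, b; b, -a], by rw [Matrix.det_fin_two_of]; linear_combination -h⟩

/-- the quaternion unit of order three -/
def qw (h2 : (2 : F) ≠ 0) {a b : F} (h : a ^ 2 + b ^ 2 = -1) : Matrix.SpecialLinearGroup (Fin 2) F :=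
  ⟨!![(-1 + a + b) / 2, (1 + b - a) / 2; (-1 + b - a) / 2, (-1 - a - b) / 2], by
    rw [Matrix.det_fin_two_of]; field_simp
    linear_combination (-2) * h⟩

theorem coe_qi : ((qi F : SL2) : M2) = !![0, 1; -1, 0] := rfl
theorem coe_qj {a b : F} (h : a ^ 2 + b ^ 2 = -1) : ((qj h : SL2) : M2) = !![a, b; b, -a] := rfl
theorem coe_qw (h2 : (2 : F) ≠ 0) {a b : F} (h : a ^ 2 + b ^ 2 = -1) : ((qw h2 h : SL2) : M2) =
    !![(-1 + a + b) / 2, (1 + b - a) / 2; (-1 + b - a) / 2, (-1 - a - b) / 2] := rfl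

theorem qi_sq : (qi F * qi F : SL2) = -1 := by
  apply Subtype.ext
  ext i j
  fin_cases i <;> fin_cases j <;> simp [coe_qi, Matrix.mul_apply]

theorem qj_sq {a b : F} (h : a ^ 2 + b ^ 2 = -1) : (qj h * qj h : SL2) = -1 := by
  apply Subtype.ext
  ext i j
  fin_cases i <;> fin_cases j <;> simp [coe_qj, Matrix.mul_apply] <;> first | linear_combination h | ring

theorem qj_mul_qi {a b : F} (h : a ^ 2 + b ^ 2 = -1) : (qj h * qi F : SL2) = -(qi F * qj h) := by
  apply Subtype.ext
  ext i j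
  fin_cases i <;> fin_cases j <;> simp [coe_qi, coe_qj, Matrix.mul_apply]

theorem qw_mul_qi (h2 : (2 : F) ≠ 0) {a b : F} (h : a ^ 2 + b ^ 2 = -1) :
    (qw h2 h * qi F : SL2) = (qi F * qj h) * qw h2 h := by
  apply Subtype.ext
  ext i j
  fin_cases i <;> fin_cases j <;> simp [coe_qi, coe_qj, coe_qw, Matrix.mul_apply] <;> field_simp <;>
    first | linear_combination h | linear_combination -h

theorem qw_mul_qj (h2 : (2 : F) ≠ 0) {a b : F} (h : a ^ 2 + b ^ 2 = -1) :
    (qw h2 h * qj h : SL2) = qi F * qw h2 h := by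
  apply Subtype.ext
  ext i j
  fin_cases i <;> fin_cases j <;> simp [coe_qi, coe_qj, coe_qw, Matrix.mul_apply] <;> field_simp <;>
    first | linear_combination h | linear_combination -h

/-- a matrix commuting with `i` and `j` is scalar -/
theorem scalar_of_commute (h2 : (2 : F) ≠ 0) {a b : F} (h : a ^ 2 + b ^ 2 = -1) (g : M2)
    (hi : g * (qi F : M2) = (qi F : M2) * g) (hj : g * (qj h : M2) = (qj h : M2) * g) :
    g = Matrix.scalar (Fin 2) (g 0 0) := by
  rw [Matrix.eta_fin_two g] at hi hj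
  rw [coe_qi, Matrix.mul_fin_two, Matrix.mul_fin_two] at hi
  rw [coe_qj, Matrix.mul_fin_two, Matrix.mul_fin_two] at hj
  have e1 := congrFun (congrFun hi 0) 0
  have e2 := congrFun (congrFun hi 0) 1
  have f1 := congrFun (congrFun hj 0) 0
  have f2 := congrFun (congrFun hj 0) 1
  have f3 := congrFun (congrFun hj 1) 0
  simp at e1 e2 f1 f2 f3
  -- e1 : -g01 = g10, e2: g00 = g11
  have hy : g 0 1 = 0 := by
    have k1 : 2 * (b * g 0 1) = 0 := by linear_combination f1 - b * e1
    have k2 : 2 * (a * g 0 1) = 0 := by linear_combination (-1) * f2 + b * e2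
    have k1' : b * g 0 1 = 0 := (mul_eq_zero.1 k1).resolve_left h2
    have k2' : a * g 0 1 = 0 := (mul_eq_zero.1 k2).resolve_left h2
    linear_combination (g 0 1) * h - a * k2' - b * k1'
  have hz : g 1 0 = 0 := by linear_combination -e1 - hy
  ext i j
  fin_cases i <;> fin_cases j
  · simp
  · simpa using hy
  · simpa using hz
  · simp; exact e2.symm

/-- the automorphism of `PSL₂` given by conjugation by an element of `SL₂` -/
theorem dg_coe (s : SL2) : dg (s : GL (Fin 2) F) = MulAut.conj (QuotientGroup.mk s : PSL2) := by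
  refine aut_ext fun x => ?_
  rw [dg_mk, MulAut.conj_apply]
  show (QuotientGroup.mk _ : PSL2) = QuotientGroup.mk (s * x * s⁻¹)
  congr 1

theorem neg_coe (x : SL2) : ((-x : SL2) : M2) = -(x : M2) := rfl

theorem cg_eq_or (g : GL (Fin 2) F) (x : SL2) (h : dg g (QuotientGroup.mk x : PSL2) = QuotientGroup.mk x) :
    g.1 * (x : M2) = (x : M2) * g.1 ∨ g.1 * (x : M2) = -((x : M2) * g.1) := by
  rw [dg_mk, SL2Basic.mk_eq_mk_iff] at h
  rcases h with h | h
  · left
    have := congrArg (fun y : SL2 => (y : M2) * g.1) h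
    simp only [cg_coe] at this
    rw [mul_assoc, ← Units.val_mul, inv_mul_cancel, Units.val_one, mul_one] at this
    exact this
  · right
    have := congrArg (fun y : SL2 => (y : M2) * g.1) h
    simp only [cg_coe, neg_coe] at this
    rw [mul_assoc, ← Units.val_mul, inv_mul_cancel, Units.val_one, mul_one] at this
    rw [this, neg_mul]

theorem dg_eq_one_of_commute (h2 : (2 : F) ≠ 0) {a b : F} (h : a ^ 2 + b ^ 2 = -1) (g : GL (Fin 2) F)
    (hi : g.1 * (qi F : M2) = (qi F : M2) * g.1) (hj : g.1 * (qj h : M2) = (qj h : M2) * g.1) :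
    dg g = 1 := by
  apply dg_of_mem_center
  rw [GeneralLinearGroup.mem_center_iff_val_mem_range_scalar]
  exact ⟨g.1 0 0, (scalar_of_commute h2 h g.1 hi hj).symm⟩

theorem mk_inv_of_sq {v : SL2} (hv : v * v = -1) : (QuotientGroup.mk v : PSL2)⁻¹ = QuotientGroup.mk v := by
  rw [inv_eq_iff_mul_eq_one]
  show (QuotientGroup.mk (v * v) : PSL2) = QuotientGroup.mk 1
  rw [hv, SL2Basic.mk_eq_mk_iff]
  right; rfl

theorem dg_eq_conj_of_commute (h2 : (2 : F) ≠ 0) {a b : F} (h : a ^ 2 + b ^ 2 = -1) (g : GL (Fin 2) F)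
    (v : SL2) (hv : v * v = -1)
    (hi : (g.1 * (v : M2)) * (qi F : M2) = (qi F : M2) * (g.1 * (v : M2)))
    (hj : (g.1 * (v : M2)) * (qj h : M2) = (qj h : M2) * (g.1 * (v : M2))) :
    dg g = MulAut.conj (QuotientGroup.mk v : PSL2) := by
  have h1 : dg (g * (v : GL (Fin 2) F)) = 1 := dg_eq_one_of_commute h2 h _ hi hj
  rw [map_mul, dg_coe] at h1
  rw [eq_inv_of_mul_eq_one_left h1, ← map_inv, mk_inv_of_sq hv]

/-- The centralizer in `PGL₂` of the four-group of `PSL₂` is the four-group. -/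
theorem exists_conj_of_fix (h2 : (2 : F) ≠ 0) {a b : F} (h : a ^ 2 + b ^ 2 = -1) (g : GL (Fin 2) F)
    (hi : dg g (QuotientGroup.mk (qi F) : PSL2) = QuotientGroup.mk (qi F))
    (hj : dg g (QuotientGroup.mk (qj h) : PSL2) = QuotientGroup.mk (qj h)) :
    ∃ v : SL2, (v = 1 ∨ v = qi F ∨ v = qj h ∨ v = qi F * qj h) ∧
      dg g = MulAut.conj (QuotientGroup.mk v : PSL2) := by
  have I2 : (qi F : M2) * (qi F : M2) = -1 := congrArg Subtype.val (qi_sq (F := F))
  have J2 : (qj h : M2) * (qj h : M2) = -1 := congrArg Subtype.val (qj_sq h)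
  have JI : (qj h : M2) * (qi F : M2) = -((qi F : M2) * (qj h : M2)) := congrArg Subtype.val (qj_mul_qi h)
  have K2 : (qi F * qj h : SL2) * (qi F * qj h) = -1 := by
    apply Subtype.ext
    show ((qi F : M2) * (qj h : M2)) * ((qi F : M2) * (qj h : M2)) = -1
    calc ((qi F : M2) * (qj h : M2)) * ((qi F : M2) * (qj h : M2))
        = (qi F : M2) * ((qj h : M2) * (qi F : M2)) * (qj h : M2) := by simp only [mul_assoc]
      _ = -(((qi F : M2) * (qi F : M2)) * ((qj h : M2) * (qj h : M2))) := by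
        rw [JI]; simp only [mul_assoc, neg_mul, mul_neg]
      _ = -1 := by rw [I2, J2]; simp
  rcases cg_eq_or g _ hi with ei | ei <;> rcases cg_eq_or g _ hj with ej | ej
  · refine ⟨1, Or.inl rfl, ?_⟩
    rw [dg_eq_one_of_commute h2 h g ei ej]
    show (1 : MulAut PSL2) = MulAut.conj (1 : PSL2)
    rw [map_one]
  · -- commutes with i, anticommutes with j: g = i
    refine ⟨qi F, Or.inr (Or.inl rfl), dg_eq_conj_of_commute h2 h g _ qi_sq ?_ ?_⟩
    · calc g.1 * (qi F : M2) * (qi F : M2) = (qi F : M2) * g.1 * (qi F : M2) := by rw [ei]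
        _ = _ := by rw [mul_assoc]
    · calc g.1 * (qi F : M2) * (qj h : M2) = -(g.1 * ((qj h : M2) * (qi F : M2))) := by
            rw [JI, mul_neg, neg_neg, mul_assoc]
        _ = -((g.1 * (qj h : M2)) * (qi F : M2)) := by rw [mul_assoc]
        _ = _ := by rw [ej, neg_mul, neg_neg, mul_assoc]
  · -- anticommutes with i, commutes with j
    refine ⟨qj h, Or.inr (Or.inr (Or.inl rfl)), dg_eq_conj_of_commute h2 h g _ (qj_sq h) ?_ ?_⟩
    · calc g.1 * (qj h : M2) * (qi F : M2) = -((g.1 * (qi F : M2)) * (qj h : M2)) := by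
            rw [mul_assoc, JI, mul_neg, mul_assoc]
        _ = _ := by rw [ei, neg_mul, neg_neg, mul_assoc]
    · calc g.1 * (qj h : M2) * (qj h : M2) = (qj h : M2) * g.1 * (qj h : M2) := by rw [ej]
        _ = _ := by rw [mul_assoc]
  · refine ⟨qi F * qj h, Or.inr (Or.inr (Or.inr rfl)), dg_eq_conj_of_commute h2 h g _ K2 ?_ ?_⟩
    · show g.1 * ((qi F : M2) * (qj h : M2)) * (qi F : M2) = (qi F : M2) * (g.1 * ((qi F : M2) * (qj h : M2)))
      calc g.1 * ((qi F : M2) * (qj h : M2)) * (qi F : M2)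
          = g.1 * ((qi F : M2) * ((qj h : M2) * (qi F : M2))) := by simp only [mul_assoc]
        _ = -((g.1 * (qi F : M2)) * ((qi F : M2) * (qj h : M2))) := by
            rw [JI]; simp only [mul_assoc, mul_neg]
        _ = _ := by rw [ei, neg_mul, neg_neg, mul_assoc]
    · show g.1 * ((qi F : M2) * (qj h : M2)) * (qj h : M2) = (qj h : M2) * (g.1 * ((qi F : M2) * (qj h : M2)))
      calc g.1 * ((qi F : M2) * (qj h : M2)) * (qj h : M2)
          = -(g.1 * ((qj h : M2) * (qi F : M2)) * (qj h : M2)) := by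
            rw [JI, mul_neg, neg_mul, neg_neg]
        _ = -((g.1 * (qj h : M2)) * ((qi F : M2) * (qj h : M2))) := by simp only [mul_assoc]
        _ = _ := by rw [ej, neg_mul, neg_neg, mul_assoc]

/-! ### automorphisms of 2-power order when 2 is not a square -/

variable [Fintype F]

/-- If `2` is not a square in the finite field `F`, all automorphisms of `F` have odd order. -/
theorem odd_orderOf_aut (h2 : ¬ IsSquare (2 : F)) (σ : F ≃+* F) : Odd (orderOf σ) := by
  classical
  have h20 : (2 : F) ≠ 0 := by rintro h; rw [h] at h2; exact h2 ⟨0, by simp⟩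
  have hch : ringChar F ≠ 2 := by
    intro hc
    have := ringChar.charP F
    rw [hc] at this
    exact h20 (by simpa using CharP.cast_eq_zero F 2)
  by_contra hcon
  rw [Nat.not_odd_iff_even] at hcon
  obtain ⟨m, hm⟩ := hcon
  apply h2
  rw [FiniteField.isSquare_iff hch h20]
  have hcard := FFAut.card_fixed_pow σ
  set K := FFAut.fixed σ with hK
  have hK2 : (2 : F) ∈ K := by
    rw [hK, FFAut.mem_fixed]; exact map_ofNat σ 2
  have hfinK : Finite K := inferInstance
  have : Fintype K := Fintype.ofFinite K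
  have h2K : (⟨2, hK2⟩ : K) ≠ 0 := fun h => h20 (congrArg Subtype.val h)
  have hp := FiniteField.pow_card_sub_one_eq_one _ h2K
  have hp' : (2 : F) ^ (Nat.card K - 1) = 1 := by
    have := congrArg Subtype.val hp
    rw [Nat.card_eq_fintype_card]
    simpa using this
  set k := Nat.card K with hk
  have hodd : Odd k := by
    have h1 : Odd (Fintype.card F) := Nat.odd_iff.2 (FiniteField.odd_card_of_char_ne_two hch)
    rw [← hcard] at h1
    have : orderOf σ ≠ 0 := by
      have := FFAut.finite_aut (F := F)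
      exact (orderOf_pos σ).ne'
    obtain ⟨n, hn⟩ := Nat.exists_eq_succ_of_ne_zero this
    rw [hn, pow_succ'] at h1
    exact (Nat.odd_mul.1 h1).1
  have hdiv : k - 1 ∣ Fintype.card F / 2 := by
    rw [← hcard, hm, pow_add]
    obtain ⟨c, hc⟩ := Nat.sub_dvd_pow_sub_pow k 1 m
    rw [one_pow] at hc
    have hkm : Odd (k ^ m) := hodd.pow
    obtain ⟨d, hd⟩ := hkm
    have h3 : k ^ m * k ^ m / 2 = (k ^ m - 1) * (d + 1) := by
      rw [hd]
      have : (2 * d + 1) * (2 * d + 1) = 2 * ((2 * d) * (d + 1)) + 1 := by ring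
      rw [this]
      have h4 : 2 * d + 1 - 1 = 2 * d := by omega
      rw [h4]
      omega
    rw [h3, hc]
    exact ⟨c * (d + 1), by ring⟩
  obtain ⟨c, hc⟩ := hdiv
  rw [hc, pow_mul, hp', one_pow]

omit [Fintype F] in
theorem aut_pow (g : GL (Fin 2) F) (σ : F ≃+* F) (n : ℕ) :
    ∃ h : GL (Fin 2) F, (dg g * fd σ : MulAut PSL2) ^ n = dg h * fd (σ ^ n) := by
  induction n with
  | zero => exact ⟨1, by simp⟩
  | succ n ih =>
    obtain ⟨h, hh⟩ := ih
    refine ⟨h * fGL (σ ^ n) g, ?_⟩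
    rw [pow_succ, hh, map_mul, ← fd_dg, pow_succ, map_mul]
    group

/-- If `2` is not a square in the finite field `F`, then an automorphism of `PSL₂(F)` of `2`-power order
fixing the standard four-group elementwise is conjugation by an element of the four-group. -/
theorem two_aut (h2 : ¬ IsSquare (2 : F)) {a b : F} (h : a ^ 2 + b ^ 2 = -1) (θ : MulAut PSL2) (k : ℕ)
    (hk : θ ^ 2 ^ k = 1)
    (hi : θ (QuotientGroup.mk (qi F) : PSL2) = QuotientGroup.mk (qi F))
    (hj : θ (QuotientGroup.mk (qj h) : PSL2) = QuotientGroup.mk (qj h)) :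
    ∃ v : SL2, (v = 1 ∨ v = qi F ∨ v = qj h ∨ v = qi F * qj h) ∧
      θ = MulAut.conj (QuotientGroup.mk v : PSL2) := by
  have h20 : (2 : F) ≠ 0 := by rintro h; rw [h] at h2; exact h2 ⟨0, by simp⟩
  obtain ⟨g, σ, rfl⟩ := aut_psl_two θ
  obtain ⟨h', hh'⟩ := aut_pow g σ (2 ^ k)
  rw [hk] at hh'
  have h3 := (dg_fd_eq_one le_rfl hh'.symm).1
  have hσ : σ = 1 := by
    have h4 : orderOf σ ∣ 2 ^ k := orderOf_dvd_of_pow_eq_one h3
    rw [Nat.dvd_prime_pow Nat.prime_two] at h4
    obtain ⟨m, -, hm⟩ := h4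
    have h5 := odd_orderOf_aut h2 σ
    rw [hm] at h5
    have h6 : m = 0 := by
      by_contra hne
      rw [← Nat.not_even_iff_odd] at h5
      exact h5 ((Nat.even_pow' hne).2 even_two)
    rw [h6, pow_zero, orderOf_eq_one_iff] at hm
    exact hm
  subst hσ
  rw [map_one, mul_one] at hi hj ⊢
  exact exists_conj_of_fix h20 h g hi hj

end Cfsg.Agent.Lib.H53PSL2
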