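import Mathlib
import Cfsg.Agent.Lib.ClUtil
import Cfsg.Agent.Lib.ClSL2Syl

/-!
Elements of order `4` in `SL₂(q)`, `q` odd, and commuting pairs of `SL₂`'s (seat helper53).
-/

set_option autoImplicit false

namespace Cfsg.Agent.Lib.H53SL2

open Matrix Matrix.SpecialLinearGroup
open scoped MatrixGroups

variable {F : Type*} [Field F] [Fintype F]

theorem exists_sum_two_sq (x : F) : ∃ a b : F, a ^ 2 + b ^ 2 = x := by
  by_cases h2 : (2 : F) = 0
  · obtain ⟨a, ha⟩ := (FiniteField.isSquare_of_char_two (by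
      have : CharP F 2 := CharTwo.of_one_ne_zero_of_two_eq_zero one_ne_zero h2
      exact ringChar.eq F 2) x)
    exact ⟨a, 0, by rw [ha]; ring⟩
  · by_cases hx : x = 0
    · exact ⟨0, 0, by rw [hx]; ring⟩
    · obtain ⟨X, Y, h⟩ := ClSL2Syl.exists_sq_add_one h2 x hx
      by_cases hY : Y = 0
      · -- then -1 is a square, so everything is a sum of two squares
        have hX : X ^ 2 = -1 := by rw [hY] at h; linear_combination -h
        refine ⟨(x + 1) / 2, X * (x - 1) / 2, ?_⟩
        field_simp
        have h4 : (4 : F) = 2 ^ 2 := by norm_num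
        linear_combination (x - 1) ^ 2 * hX
      · refine ⟨X / Y, 1 / Y, ?_⟩
        field_simp
        linear_combination -h

/-- The standard element of order 4. -/
def J4 (F : Type*) [Field F] : SL(2, F) := ⟨!![0, -1; 1, 0], by rw [Matrix.det_fin_two_of]; ring⟩

theorem coe_J4 : ((J4 F : SL(2, F)) : Matrix (Fin 2) (Fin 2) F) = !![0, -1; 1, 0] := rfl

theorem J4_sq : ((J4 F : SL(2, F)) : Matrix (Fin 2) (Fin 2) F) * (J4 F : Matrix (Fin 2) (Fin 2) F) = -1 := by
  rw [coe_J4, Matrix.mul_fin_two]
  ext i j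
  fin_cases i <;> fin_cases j <;> simp

/-- All elements of `SL₂(q)` (`q` odd) with square `-1` are conjugate to the standard one. -/
theorem exists_conj_J4 (h2 : (2 : F) ≠ 0) (x : SL(2, F))
    (hx : (x : Matrix (Fin 2) (Fin 2) F) * (x : Matrix (Fin 2) (Fin 2) F) = -1) :
    ∃ g : SL(2, F), g * J4 F * g⁻¹ = x := by
  set a := (x : Matrix (Fin 2) (Fin 2) F) 0 0 with ha
  set b := (x : Matrix (Fin 2) (Fin 2) F) 0 1 with hb
  set c := (x : Matrix (Fin 2) (Fin 2) F) 1 0 with hc
  set d := (x : Matrix (Fin 2) (Fin 2) F) 1 1 with hd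
  have hm : (x : Matrix (Fin 2) (Fin 2) F) = !![a, b; c, d] := Matrix.eta_fin_two _
  have hdet : a * d - b * c = 1 := by
    have := x.det_coe
    rwa [Matrix.det_fin_two] at this
  rw [hm, Matrix.mul_fin_two] at hx
  have e00 := congrFun (congrFun hx 0) 0
  have e01 := congrFun (congrFun hx 0) 1
  have e10 := congrFun (congrFun hx 1) 0
  have e11 := congrFun (congrFun hx 1) 1
  simp at e00 e01 e10 e11
  -- trace zero
  have htr : a + d = 0 := by
    by_contra h
    have hb0 : b * (a + d) = 0 := by linear_combination e01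
    have hc0 : c * (a + d) = 0 := by linear_combination e10
    have hb1 : b = 0 := (mul_eq_zero.1 hb0).resolve_right h
    have hc1 : c = 0 := (mul_eq_zero.1 hc0).resolve_right h
    have h3 : (a - d) * (a + d) = 0 := by rw [hb1, hc1] at e00 e11; linear_combination e00 - e11
    have h4 : a - d = 0 := (mul_eq_zero.1 h3).resolve_right h
    have h5 : a * a = -1 := by rw [hb1] at e00; linear_combination e00
    have h6 : a * a = 1 := by rw [hb1] at hdet; linear_combination hdet + a * h4
    have h7 : (2 : F) = 0 := by linear_combination h5 - h6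
    exact h2 h7
  have hda : d = -a := by linear_combination htr
  have hq : a ^ 2 + b * c = -1 := by linear_combination e00
  -- find the vector
  suffices hsol : ∃ s t : F, c * s ^ 2 - 2 * a * s * t - b * t ^ 2 = 1 by
    obtain ⟨s, t, hst⟩ := hsol
    let g : SL(2, F) := ⟨!![s, a * s + b * t; t, c * s - a * t], by
      rw [Matrix.det_fin_two_of]; linear_combination hst⟩
    have hg : (g : Matrix (Fin 2) (Fin 2) F) = !![s, a * s + b * t; t, c * s - a * t] := rfl
    refine ⟨g, ?_⟩
    rw [mul_inv_eq_iff_eq_mul]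
    apply coeMonoidHom_injective
    rw [map_mul, map_mul, coeMonoidHom_apply, coeMonoidHom_apply, coeMonoidHom_apply, hg, coe_J4, hm,
      Matrix.mul_fin_two, Matrix.mul_fin_two]
    ext i j
    fin_cases i <;> fin_cases j <;> simp
    · linear_combination (-s) * hq
    · rw [hda]; ring
    · rw [hda]; linear_combination (-t) * hq
  by_cases hc0 : c = 0
  · have ha0 : a ≠ 0 := by
      rintro h
      rw [h, hc0] at hq
      simp at hq
    refine ⟨-(1 + b) / (2 * a), 1, ?_⟩
    rw [hc0]
    field_simp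
    ring
  · obtain ⟨X, t, h⟩ := exists_sum_two_sq c
    refine ⟨(X + a * t) / c, t, ?_⟩
    field_simp
    linear_combination h - t ^ 2 * hq

section Embedded

variable {L : Type*} [Group L] (e : L ≃* SL(2, F)) {j : L}

include e in
theorem eq_of_sq_eq_one (h2 : (2 : F) ≠ 0) (hj : orderOf j = 2) {a : L} (ha : a * a = 1) : a = 1 ∨ a = j := by
  by_cases h1 : a = 1
  · exact Or.inl h1
  right
  have hj1 : j ≠ 1 := by
    rintro rfl
    rw [orderOf_one] at hj; omega
  have hjj : j * j = 1 := by
    have := pow_orderOf_eq_one j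
    rwa [hj, sq] at this
  have e1 := ClSL2Syl.unique_involution h2 (e a) (by rwa [Ne, EmbeddingLike.map_eq_one_iff]) (by rw [← map_mul, ha, map_one])
  have e2 := ClSL2Syl.unique_involution h2 (e j) (by rwa [Ne, EmbeddingLike.map_eq_one_iff]) (by rw [← map_mul, hjj, map_one])
  apply e.injective
  apply coeMonoidHom_injective
  rw [coeMonoidHom_apply, coeMonoidHom_apply, e1, e2]

include e in
theorem coe_map_j (h2 : (2 : F) ≠ 0) (hj : orderOf j = 2) : ((e j : SL(2, F)) : Matrix (Fin 2) (Fin 2) F) = -1 := by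
  have hj1 : j ≠ 1 := by
    rintro rfl
    rw [orderOf_one] at hj; omega
  have hjj : j * j = 1 := by
    have := pow_orderOf_eq_one j
    rwa [hj, sq] at this
  exact ClSL2Syl.unique_involution h2 (e j) (by rwa [Ne, EmbeddingLike.map_eq_one_iff]) (by rw [← map_mul, hjj, map_one])

include e in
/-- elements of `L ≅ SL₂(q)` with square `j` exist. -/
theorem exists_sq_eq (h2 : (2 : F) ≠ 0) (hj : orderOf j = 2) : ∃ x : L, x * x = j := by
  refine ⟨e.symm (J4 F), ?_⟩
  apply e.injective
  apply coeMonoidHom_injective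
  rw [map_mul, MulEquiv.apply_symm_apply, map_mul, coeMonoidHom_apply, coeMonoidHom_apply, J4_sq,
    coe_map_j e h2 hj]

include e in
/-- elements of `L ≅ SL₂(q)` with square `j` are conjugate. -/
theorem conj_of_sq_eq (h2 : (2 : F) ≠ 0) (hj : orderOf j = 2) {x y : L} (hx : x * x = j) (hy : y * y = j) :
    ∃ g : L, g * x * g⁻¹ = y := by
  have key : ∀ z : L, z * z = j → ∃ g : SL(2, F), g * J4 F * g⁻¹ = e z := by
    intro z hz
    apply exists_conj_J4 h2
    have := congrArg (fun t : L => ((e t : SL(2, F)) : Matrix (Fin 2) (Fin 2) F)) hz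
    rw [← coe_map_j e h2 hj, ← hz, map_mul]
    rfl
  obtain ⟨g, hg⟩ := key x hx
  obtain ⟨h, hh⟩ := key y hy
  refine ⟨e.symm (h * g⁻¹), ?_⟩
  apply e.injective
  rw [map_mul, map_mul, map_inv, MulEquiv.apply_symm_apply, ← hg, ← hh]
  group

include e in
theorem j_central (h2 : (2 : F) ≠ 0) (hj : orderOf j = 2) (x : L) : x * j = j * x := by
  apply e.injective
  apply coeMonoidHom_injective
  rw [map_mul, map_mul, map_mul, map_mul, coeMonoidHom_apply, coeMonoidHom_apply, coe_map_j e h2 hj]
  simp

end Embedded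

end Cfsg.Agent.Lib.H53SL2
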