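import Mathlib
import Cfsg.Agent.Lib.H53PSL2
import Cfsg.Agent.Lib.H53SL2

/-!
More on the standard four-group of `PSL₂(q)`, `q` odd (seat helper53).
-/

set_option autoImplicit false

namespace Cfsg.Agent.Lib.H53PSL2

open Matrix Cfsg.Agent.Lib.PSLAut

variable {F : Type*} [Field F]

local notation "SL2" => Matrix.SpecialLinearGroup (Fin 2) F
local notation "M2" => Matrix (Fin 2) (Fin 2) F
local notation "PSL2" => Matrix.ProjectiveSpecialLinearGroup (Fin 2) F

theorem isPGroup_zpowers {G : Type*} [Group G] {p k : ℕ} {x : G} (h : x ^ p ^ k = 1) :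
    IsPGroup p (Subgroup.zpowers x) := by
  rintro ⟨_, m, rfl⟩
  refine ⟨k, Subtype.ext ?_⟩
  show (x ^ m) ^ p ^ k = 1
  rw [← zpow_natCast, ← _root_.zpow_mul, mul_comm, _root_.zpow_mul, zpow_natCast, h, _root_.one_zpow]

theorem mk_eq_one_iff (x : SL2) : (QuotientGroup.mk x : PSL2) = 1 ↔ x = 1 ∨ x = -1 :=
  SL2Basic.mk_eq_mk_iff x 1

theorem mk_qi_ne : (QuotientGroup.mk (qi F) : PSL2) ≠ 1 := by
  rw [Ne, mk_eq_one_iff]
  rintro (h | h)
  · have := congrArg (fun x : SL2 => (x : M2) 0 1) h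
    simp [coe_qi] at this
  · have := congrArg (fun x : SL2 => (x : M2) 0 1) h
    simp [coe_qi] at this

theorem mk_qj_ne (h2 : (2 : F) ≠ 0) {a b : F} (h : a ^ 2 + b ^ 2 = -1) :
    (QuotientGroup.mk (qj h) : PSL2) ≠ 1 := by
  rw [Ne, mk_eq_one_iff]
  rintro (h' | h')
  · have e1 := congrArg (fun x : SL2 => (x : M2) 0 1) h'
    have e2 := congrArg (fun x : SL2 => (x : M2) 0 0) h'
    have e3 := congrArg (fun x : SL2 => (x : M2) 1 1) h'
    simp [coe_qj] at e1 e2 e3
    apply h2; linear_combination (-1) * e2 - e3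
  · have e1 := congrArg (fun x : SL2 => (x : M2) 0 1) h'
    have e2 := congrArg (fun x : SL2 => (x : M2) 0 0) h'
    have e3 := congrArg (fun x : SL2 => (x : M2) 1 1) h'
    simp [coe_qj] at e1 e2 e3
    apply h2; linear_combination e2 - e3

theorem mk_qi_ne_qj (h2 : (2 : F) ≠ 0) {a b : F} (h : a ^ 2 + b ^ 2 = -1) :
    (QuotientGroup.mk (qi F) : PSL2) ≠ QuotientGroup.mk (qj h) := by
  rw [Ne, SL2Basic.mk_eq_mk_iff]
  rintro (h' | h')
  · have e1 := congrArg (fun x : SL2 => (x : M2) 0 1) h'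
    have e2 := congrArg (fun x : SL2 => (x : M2) 1 0) h'
    simp [coe_qi, coe_qj] at e1 e2
    apply h2; linear_combination e1 - e2
  · have e1 := congrArg (fun x : SL2 => (x : M2) 0 1) h'
    have e2 := congrArg (fun x : SL2 => (x : M2) 1 0) h'
    simp [coe_qi, coe_qj] at e1 e2
    apply h2; linear_combination e1 + e2

theorem mk_qi_sq : (QuotientGroup.mk (qi F) : PSL2) * QuotientGroup.mk (qi F) = 1 := by
  show (QuotientGroup.mk (qi F * qi F) : PSL2) = 1
  rw [mk_eq_one_iff, qi_sq]; right; rfl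

theorem mk_qj_sq {a b : F} (h : a ^ 2 + b ^ 2 = -1) :
    (QuotientGroup.mk (qj h) : PSL2) * QuotientGroup.mk (qj h) = 1 := by
  show (QuotientGroup.mk (qj h * qj h) : PSL2) = 1
  rw [mk_eq_one_iff, qj_sq]; right; rfl

theorem mk_comm {a b : F} (h : a ^ 2 + b ^ 2 = -1) :
    (QuotientGroup.mk (qj h) : PSL2) * QuotientGroup.mk (qi F) =
      QuotientGroup.mk (qi F) * QuotientGroup.mk (qj h) := by
  show (QuotientGroup.mk (qj h * qi F) : PSL2) = QuotientGroup.mk (qi F * qj h)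
  rw [SL2Basic.mk_eq_mk_iff, qj_mul_qi]; right; rfl

theorem mk_qw_qi (h2 : (2 : F) ≠ 0) {a b : F} (h : a ^ 2 + b ^ 2 = -1) :
    (QuotientGroup.mk (qw h2 h) : PSL2) * QuotientGroup.mk (qi F) * (QuotientGroup.mk (qw h2 h))⁻¹ =
      QuotientGroup.mk (qi F) * QuotientGroup.mk (qj h) := by
  rw [mul_inv_eq_iff_eq_mul]
  show (QuotientGroup.mk (qw h2 h * qi F) : PSL2) = QuotientGroup.mk ((qi F * qj h) * qw h2 h)
  rw [qw_mul_qi]

theorem mk_qw_qj (h2 : (2 : F) ≠ 0) {a b : F} (h : a ^ 2 + b ^ 2 = -1) :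
    (QuotientGroup.mk (qw h2 h) : PSL2) * QuotientGroup.mk (qj h) * (QuotientGroup.mk (qw h2 h))⁻¹ =
      QuotientGroup.mk (qi F) := by
  rw [mul_inv_eq_iff_eq_mul]
  show (QuotientGroup.mk (qw h2 h * qj h) : PSL2) = QuotientGroup.mk (qi F * qw h2 h)
  rw [qw_mul_qj]

/-- If `2` is a square then `PSL₂(F)` has elements `x, y` generating a nonabelian `2`-subgroup. -/
theorem exists_nonabelian_two (h2 : (2 : F) ≠ 0) (hsq : IsSquare (2 : F)) {a b : F} (h : a ^ 2 + b ^ 2 = -1) :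
    ∃ H : Subgroup PSL2, IsPGroup 2 H ∧ ∃ x ∈ H, ∃ y ∈ H, x * y ≠ y * x := by
  have : Fact (Nat.Prime 2) := ⟨Nat.prime_two⟩
  obtain ⟨r, hr⟩ := hsq
  have hr0 : r ≠ 0 := by rintro rfl; apply h2; rw [hr]; ring
  let x : SL2 := ⟨!![1 / r, 1 / r; -1 / r, 1 / r], by
    rw [Matrix.det_fin_two_of]; field_simp; linear_combination hr⟩
  have hx : (x : M2) = !![1 / r, 1 / r; -1 / r, 1 / r] := rfl
  have hxx : x * x = qi F := by
    apply Subtype.ext
    ext i j
    fin_cases i <;> fin_cases j <;> simp [coe_qi, hx, Matrix.mul_apply] <;> field_simp <;>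
      first | linear_combination hr | linear_combination -hr | ring
  have hjx : qj h * x * (qj h)⁻¹ = x⁻¹ := by
    rw [mul_inv_eq_iff_eq_mul, eq_inv_mul_iff_mul_eq]
    apply Subtype.ext
    ext i j
    fin_cases i <;> fin_cases j <;> simp [coe_qj, hx, Matrix.mul_apply] <;> field_simp <;>
      first | linear_combination (-b) * hr | linear_combination (-a) * hr | linear_combination b * hr | linear_combination a * hr
  set X : PSL2 := QuotientGroup.mk x with hX
  set J : PSL2 := QuotientGroup.mk (qj h) with hJ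
  have hXX : X * X = QuotientGroup.mk (qi F) := by
    show (QuotientGroup.mk (x * x) : PSL2) = _
    rw [hxx]
  have hJX : J * X * J⁻¹ = X⁻¹ := by
    show (QuotientGroup.mk (qj h * x * (qj h)⁻¹) : PSL2) = QuotientGroup.mk x⁻¹
    rw [hjx]
  have hX4 : X ^ 2 ^ 2 = 1 := by
    have : X ^ 2 ^ 2 = (X * X) * (X * X) := by
      show X ^ (2 + 2) = _
      rw [pow_add, pow_two]
    rw [this, hXX, mk_qi_sq]
  refine ⟨Subgroup.zpowers J ⊔ Subgroup.zpowers X, ?_, X, Subgroup.mem_sup_right (Subgroup.mem_zpowers _), J,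
    Subgroup.mem_sup_left (Subgroup.mem_zpowers _), ?_⟩
  · apply IsPGroup.to_sup_of_normal_right'
    · exact isPGroup_zpowers (k := 1) (by rw [pow_one, pow_two]; exact mk_qj_sq h)
    · exact isPGroup_zpowers hX4
    · rw [Subgroup.zpowers_le, Subgroup.mem_normalizer_iff_map_conj_eq, MonoidHom.map_zpowers]
      change Subgroup.zpowers (J * X * J⁻¹) = _
      rw [hJX, Subgroup.zpowers_inv]
  · intro hc
    rw [← hc, mul_inv_cancel_right] at hJX
    have : X * X = 1 := by rw [← eq_inv_iff_mul_eq_one]; exact hJX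
    rw [hXX] at this
    exact mk_qi_ne this

end Cfsg.Agent.Lib.H53PSL2
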