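import Mathlib
import Cfsg.Agent.Lib.H53PSL2b
import Cfsg.Agent.Lib.InvAct
import Cfsg.Agent.Lib.RelSylow
import Cfsg.Agent.Lib.CoprimeAction2
import Cfsg.Agent.Lib.H32Basic

/-!
Groups of Janko–Ree type: a simple group with abelian Sylow `2`-subgroups having an involution `t` with
`C(t) = ⟨t⟩ × E`, `PSL₂(q) ≅ N ⊴ E`, `C_E(N) = 1` (seat helper53).
-/

set_option autoImplicit false

namespace Cfsg.Agent.Lib.H53Ree

open Subgroup

/-- An isolated involution in an abelian Sylow `2`-subgroup: impossible in a nonabelian simple group. -/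
theorem exists_conj_ne {G : Type*} [Group G] [Finite G] [IsSimpleGroup G] (hG : ¬ IsMulCommutative G)
    (S : Sylow 2 G) (hab : IsMulCommutative (S : Subgroup G)) (T : G) (hTS : T ∈ (S : Subgroup G))
    (hTT : T * T = 1) (hT1 : T ≠ 1) : ∃ g : G, g * T * g⁻¹ ∈ (S : Subgroup G) ∧ g * T * g⁻¹ ≠ T := by
  classical
  have : Fact (Nat.Prime 2) := ⟨Nat.prime_two⟩
  by_contra hcon
  push Not at hcon
  let _ : CommGroup (S : Subgroup G) := { (inferInstance : Group (S : Subgroup G)) with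
    mul_comm := fun a b => hab.is_comm.comm a b }
  have hTk : ∀ k : ℕ, T ^ k = 1 ∨ T ^ k = T := by
    intro k
    induction k with
    | zero => left; simp
    | succ k ih =>
      rcases ih with h | h
      · right; rw [pow_succ, h, one_mul]
      · left; rw [pow_succ, h, hTT]
  have key : ∀ (k : ℕ) (g₀ : G), g₀⁻¹ * T ^ k * g₀ ∈ (S : Subgroup G) → g₀⁻¹ * T ^ k * g₀ = T ^ k := by
    intro k g₀ h
    rcases hTk k with h1 | h1
    · rw [h1]; group
    · rw [h1] at h ⊢
      have := hcon g₀⁻¹ (by simpa using h)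
      simpa using this
  have hτ := MonoidHom.transfer_eq_pow (MonoidHom.id (S : Subgroup G)) T key
  set τ := MonoidHom.transfer (MonoidHom.id (S : Subgroup G)) with hτd
  have hker : τ.ker = ⊤ := by
    rcases (inferInstance : τ.ker.Normal).eq_bot_or_eq_top with h | h
    · exfalso
      apply hG
      refine ⟨⟨fun a b => ?_⟩⟩
      have hinj : Function.Injective τ := (MonoidHom.ker_eq_bot_iff τ).1 h
      apply hinj
      rw [map_mul, map_mul, mul_comm]
    · exact h
  have hT : τ T = 1 := by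
    have : T ∈ τ.ker := by rw [hker]; exact Subgroup.mem_top _
    exact this
  rw [hτ] at hT
  have hT' : T ^ (S : Subgroup G).index = 1 := congrArg Subtype.val hT
  rcases hTk (S : Subgroup G).index with h1 | h1
  · have h2 : orderOf T = 2 := orderOf_eq_prime (by rw [pow_two]; exact hTT) hT1
    have h3 : orderOf T ∣ (S : Subgroup G).index := orderOf_dvd_of_pow_eq_one hT'
    rw [h2] at h3
    exact S.not_dvd_index h3
  · rw [h1] at hT'; exact hT1 hT'

/-- All involutions of the Sylow subgroup are conjugate. -/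
theorem conj_all {G : Type*} [Group G] [Finite G] [IsSimpleGroup G] (hG : ¬ IsMulCommutative G)
    (S : Sylow 2 G) (hab : IsMulCommutative (S : Subgroup G)) (T I J W : G)
    (hTS : T ∈ (S : Subgroup G)) (hIS : I ∈ (S : Subgroup G)) (hJS : J ∈ (S : Subgroup G))
    (hTT : T * T = 1) (hII : I * I = 1) (hJJ : J * J = 1)
    (hT1 : T ≠ 1) (hI1 : I ≠ 1) (hJ1 : J ≠ 1) (hIJ : I ≠ J)
    (hTI : T ≠ I) (hTJ : T ≠ J) (hTIJ : T ≠ I * J)
    (hWT : W * T * W⁻¹ = T) (hWI : W * I * W⁻¹ = I * J) (hWJ : W * J * W⁻¹ = I)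
    (hS : ∀ x ∈ (S : Subgroup G), x = 1 ∨ x = I ∨ x = J ∨ x = I * J ∨ x = T ∨ x = T * I ∨ x = T * J ∨ x = T * (I * J)) :
    ∀ s ∈ (S : Subgroup G), s ≠ 1 → ∃ g : G, g * T * g⁻¹ = s := by
  classical
  have : Fact (Nat.Prime 2) := ⟨Nat.prime_two⟩
  have hcomm : ∀ a ∈ (S : Subgroup G), ∀ b ∈ (S : Subgroup G), a * b = b * a := by
    intro a ha b hb
    exact congrArg Subtype.val (hab.is_comm.comm (⟨a, ha⟩ : (S : Subgroup G)) ⟨b, hb⟩)
  set Nm : Subgroup G := Subgroup.normalizer ((S : Subgroup G) : Set G) with hNm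
  set O : Set G := {v : G | ∃ k ∈ Nm, k * T * k⁻¹ = v} with hO
  have hcard := Lib.InvAct.card_conj_orbit Nm T
  rw [← hO] at hcard
  have hOodd : Odd O.ncard := by
    by_contra hcon
    rw [Nat.not_odd_iff_even] at hcon
    have h1 : (S : Subgroup G) ≤ Nm ⊓ Subgroup.centralizer ({T} : Set G) := by
      intro x hx
      refine Subgroup.mem_inf.2 ⟨Subgroup.le_normalizer hx, ?_⟩
      rw [Subgroup.mem_centralizer_singleton_iff]
      exact hcomm x hx T hTS
    have h2 : Nat.card (S : Subgroup G) ∣ Nat.card ↥(Nm ⊓ Subgroup.centralizer ({T} : Set G)) :=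
      Subgroup.card_dvd_of_le h1
    have h3 : 2 * Nat.card (S : Subgroup G) ∣ Nat.card Nm := by
      rw [hcard]; exact mul_dvd_mul hcon.two_dvd h2
    have h4 : 2 * Nat.card (S : Subgroup G) ∣ Nat.card G := h3.trans (Subgroup.card_subgroup_dvd_card Nm)
    have h5 := (S : Subgroup G).card_mul_index
    rw [← h5, mul_comm] at h4
    exact S.not_dvd_index (Nat.dvd_of_mul_dvd_mul_left Nat.card_pos h4)
  have hOS : ∀ s ∈ O, s ∈ (S : Subgroup G) := by
    rintro s ⟨k, hk, rfl⟩
    exact (Subgroup.mem_normalizer_iff.1 hk T).1 hTS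
  have hTO : T ∈ O := ⟨1, one_mem _, by group⟩
  have h1O : (1 : G) ∉ O := by
    rintro ⟨k, hk, h⟩
    apply hT1
    have : T = k⁻¹ * (k * T * k⁻¹) * k := by group
    rw [this, h]; group
  -- Burnside
  have hB : ∀ g : G, g * T * g⁻¹ ∈ (S : Subgroup G) → g * T * g⁻¹ ∈ O := by
    intro g hg
    obtain ⟨n, hn, h⟩ := Sylow.conj_eq_normalizer_conj_of_mem S T g⁻¹ hTS (by rw [inv_inv]; exact hg)
    rw [inv_inv] at h
    rw [h]
    exact ⟨n⁻¹, inv_mem hn, by rw [inv_inv]⟩
  -- closed under W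
  have hWO : ∀ s ∈ O, W * s * W⁻¹ ∈ (S : Subgroup G) → W * s * W⁻¹ ∈ O := by
    rintro s ⟨k, hk, rfl⟩ h
    have h2 : W * (k * T * k⁻¹) * W⁻¹ = (W * k) * T * (W * k)⁻¹ := by group
    rw [h2] at h ⊢
    exact hB _ h
  have hWIJ : W * (I * J) * W⁻¹ = J := by
    calc W * (I * J) * W⁻¹ = (W * I * W⁻¹) * (W * J * W⁻¹) := by group
      _ = I * J * I := by rw [hWI, hWJ]
      _ = J * I * I := by rw [hcomm I hIS J hJS]
      _ = J := by rw [mul_assoc, hII, mul_one]
  have hWT' : ∀ x, W * (T * x) * W⁻¹ = T * (W * x * W⁻¹) := by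
    intro x
    calc W * (T * x) * W⁻¹ = (W * T * W⁻¹) * (W * x * W⁻¹) := by group
      _ = _ := by rw [hWT]
  have hIJS : I * J ∈ (S : Subgroup G) := mul_mem hIS hJS
  -- orbits
  have o1 : I ∈ O → I * J ∈ O := fun h => by rw [← hWI]; exact hWO I h (by rw [hWI]; exact hIJS)
  have o2 : I * J ∈ O → J ∈ O := fun h => by rw [← hWIJ]; exact hWO _ h (by rw [hWIJ]; exact hJS)
  have o3 : J ∈ O → I ∈ O := fun h => by rw [← hWJ]; exact hWO _ h (by rw [hWJ]; exact hIS)
  have p1 : T * I ∈ O → T * (I * J) ∈ O := fun h => by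
    rw [← hWI, ← hWT']; exact hWO _ h (by rw [hWT', hWI]; exact mul_mem hTS hIJS)
  have p2 : T * (I * J) ∈ O → T * J ∈ O := fun h => by
    have e : T * J = W * (T * (I * J)) * W⁻¹ := by rw [hWT', hWIJ]
    rw [e]; exact hWO _ h (by rw [hWT', hWIJ]; exact mul_mem hTS hJS)
  have p3 : T * J ∈ O → T * I ∈ O := fun h => by
    have e : T * I = W * (T * J) * W⁻¹ := by rw [hWT', hWJ]
    rw [e]; exact hWO _ h (by rw [hWT', hWJ]; exact mul_mem hTS hIS)
  -- distinctness
  have dIJ1 : I ≠ I * J := fun h => hJ1 (by simpa using h)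
  have dIJ2 : J ≠ I * J := fun h => hI1 (by simpa using h)
  have hI_inv : I⁻¹ = I := by rw [inv_eq_iff_mul_eq_one]; exact hII
  have hIJ1 : I * J ≠ 1 := fun h => hIJ (by rw [← hI_inv]; exact (eq_inv_of_mul_eq_one_left h ▸ by rw [inv_inv] : I⁻¹ = J))
  have dTI1 : T ≠ T * I := fun h => hI1 (by simpa using h)
  have dTJ1 : T ≠ T * J := fun h => hJ1 (by simpa using h)
  have dTIJ1 : T ≠ T * (I * J) := fun h => hIJ1 (by simpa using h)
  have dTITJ : T * I ≠ T * J := fun h => hIJ (mul_left_cancel h)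
  have dTITIJ : T * I ≠ T * (I * J) := fun h => dIJ1 (mul_left_cancel h)
  have dTJTIJ : T * J ≠ T * (I * J) := fun h => dIJ2 (mul_left_cancel h)
  -- O ≠ {T}
  obtain ⟨g, hg1, hg2⟩ := exists_conj_ne hG S hab T hTS hTT hT1
  have hgO := hB g hg1
  have main : (I ∈ O ∧ J ∈ O ∧ I * J ∈ O) ∧ (T * I ∈ O ∧ T * J ∈ O ∧ T * (I * J) ∈ O) := by
    have hcase : (I ∈ O ∧ J ∈ O ∧ I * J ∈ O) ∨ (T * I ∈ O ∧ T * J ∈ O ∧ T * (I * J) ∈ O) := by
      rcases hS _ hg1 with h | h | h | h | h | h | h | h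
      · rw [h] at hgO; exact absurd hgO h1O
      · rw [h] at hgO; exact Or.inl ⟨hgO, o2 (o1 hgO), o1 hgO⟩
      · rw [h] at hgO; exact Or.inl ⟨o3 hgO, hgO, o1 (o3 hgO)⟩
      · rw [h] at hgO; exact Or.inl ⟨o3 (o2 hgO), o2 hgO, hgO⟩
      · exact absurd h hg2
      · rw [h] at hgO; exact Or.inr ⟨hgO, p2 (p1 hgO), p1 hgO⟩
      · rw [h] at hgO; exact Or.inr ⟨p3 hgO, hgO, p1 (p3 hgO)⟩
      · rw [h] at hgO; exact Or.inr ⟨p3 (p2 hgO), p2 hgO, hgO⟩
    by_contra hcon
    have hfour : O.ncard = 4 := by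
      rcases hcase with hc | hc
      · have hno : T * I ∉ O ∧ T * J ∉ O ∧ T * (I * J) ∉ O := by
          refine ⟨fun h => hcon ⟨hc, h, p2 (p1 h), p1 h⟩, fun h => hcon ⟨hc, p3 h, h, p1 (p3 h)⟩,
            fun h => hcon ⟨hc, p3 (p2 h), p2 h, h⟩⟩
        have : O = ({T, I, J, I * J} : Finset G) := by
          ext x
          simp only [Finset.coe_insert, Finset.coe_singleton, Set.mem_insert_iff, Set.mem_singleton_iff]
          constructor
          · intro hx
            rcases hS x (hOS x hx) with h | h | h | h | h | h | h | h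
            · rw [h] at hx; exact absurd hx h1O
            · simp [h]
            · simp [h]
            · simp [h]
            · simp [h]
            · rw [h] at hx; exact absurd hx hno.1
            · rw [h] at hx; exact absurd hx hno.2.1
            · rw [h] at hx; exact absurd hx hno.2.2
          · rintro (h | h | h | h) <;> rw [h]
            · exact hTO
            · exact hc.1
            · exact hc.2.1
            · exact hc.2.2
        rw [this, Set.ncard_coe_finset, Finset.card_insert_of_notMem, Finset.card_insert_of_notMem,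
          Finset.card_insert_of_notMem, Finset.card_singleton]
        · simpa using dIJ2
        · simpa using ⟨hIJ, hJ1⟩
        · simpa using ⟨hTI, hTJ, hTIJ⟩
      · have hno : I ∉ O ∧ J ∉ O ∧ (I * J) ∉ O := by
          refine ⟨fun h => hcon ⟨⟨h, o2 (o1 h), o1 h⟩, hc⟩, fun h => hcon ⟨⟨o3 h, h, o1 (o3 h)⟩, hc⟩,
            fun h => hcon ⟨⟨o3 (o2 h), o2 h, h⟩, hc⟩⟩
        have : O = ({T, T * I, T * J, T * (I * J)} : Finset G) := by
          ext x
          simp only [Finset.coe_insert, Finset.coe_singleton, Set.mem_insert_iff, Set.mem_singleton_iff]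
          constructor
          · intro hx
            rcases hS x (hOS x hx) with h | h | h | h | h | h | h | h
            · rw [h] at hx; exact absurd hx h1O
            · rw [h] at hx; exact absurd hx hno.1
            · rw [h] at hx; exact absurd hx hno.2.1
            · rw [h] at hx; exact absurd hx hno.2.2
            · simp [h]
            · simp [h]
            · simp [h]
            · simp [h]
          · rintro (h | h | h | h) <;> rw [h]
            · exact hTO
            · exact hc.1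
            · exact hc.2.1
            · exact hc.2.2
        rw [this, Set.ncard_coe_finset, Finset.card_insert_of_notMem, Finset.card_insert_of_notMem,
          Finset.card_insert_of_notMem, Finset.card_singleton]
        · simpa using dIJ2
        · simpa using ⟨hIJ, hJ1⟩
        · simpa using ⟨hI1, hJ1, hIJ1⟩
    rw [hfour] at hOodd
    exact absurd hOodd (by decide)
  intro s hs hs1
  have hsO : s ∈ O := by
    rcases hS s hs with h | h | h | h | h | h | h | h
    · exact absurd h hs1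
    · rw [h]; exact main.1.1
    · rw [h]; exact main.1.2.1
    · rw [h]; exact main.1.2.2
    · rw [h]; exact hTO
    · rw [h]; exact main.2.1
    · rw [h]; exact main.2.2.1
    · rw [h]; exact main.2.2.2
  obtain ⟨k, -, hk⟩ := hsO
  exact ⟨k, hk⟩


/-! ### part (i): perfect central extensions -/

/-- If the Sylow `2`-subgroups of `G` are elementary abelian, contain independent `T, I, J`, and all involutions
of `S` are conjugate, then a perfect central extension of `G` by a `2`-group is trivial. -/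
theorem ext_trivial {G : Type*} [Group G] [Finite G] (S : Sylow 2 G)
    (hsq : ∀ s ∈ (S : Subgroup G), s * s = 1)
    (T I J : G) (hT : T ∈ (S : Subgroup G)) (hI : I ∈ (S : Subgroup G)) (hJ : J ∈ (S : Subgroup G))
    (hT1 : T ≠ 1) (hI1 : I ≠ 1) (hJ1 : J ≠ 1) (hIJ : I * J ≠ 1) (hTI : T * I ≠ 1) (hTJ : T * J ≠ 1)
    (hTIJ : T * (I * J) ≠ 1)
    (hconj : ∀ s ∈ (S : Subgroup G), s ≠ 1 → ∃ g : G, g * T * g⁻¹ = s)
    {L : Type*} [Group L] [Finite L] (Z : Subgroup L) [hZn : Z.Normal] (hperf : commutator L = ⊤)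
    (hZ : Z ≤ Subgroup.center L) (hZ2 : IsPGroup 2 ↥Z) (e : L ⧸ Z ≃* G) : Z = ⊥ := by
  classical
  have : Fact (Nat.Prime 2) := ⟨Nat.prime_two⟩
  set f : L →* G := e.toMonoidHom.comp (QuotientGroup.mk' Z) with hf
  have hfs : Function.Surjective f := e.surjective.comp (QuotientGroup.mk'_surjective Z)
  have hfk : ∀ x, f x = 1 ↔ x ∈ Z := by
    intro x
    rw [hf]
    show e (QuotientGroup.mk' Z x) = 1 ↔ x ∈ Z
    rw [EmbeddingLike.map_eq_one_iff, QuotientGroup.mk'_apply, QuotientGroup.eq_one_iff]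
  have hzc : ∀ z ∈ Z, ∀ x : L, x * z = z * x := fun z hz x => Subgroup.mem_center_iff.1 (hZ hz) x
  set P : Subgroup L := (S : Subgroup G).comap f with hP
  have hZP : Z ≤ P := fun z hz => by
    rw [hP, Subgroup.mem_comap, (hfk z).2 hz]; exact one_mem _
  have hPidx : ¬ 2 ∣ P.index := by
    rw [hP, Subgroup.index_comap_of_surjective _ hfs]; exact S.not_dvd_index
  -- squares of elements of P are in Z, commutators are in Z
  have hsqZ : ∀ x ∈ P, x * x ∈ Z := by
    intro x hx
    rw [← hfk, map_mul]; exact hsq _ hx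
  have hcomS : ∀ a ∈ (S : Subgroup G), ∀ b ∈ (S : Subgroup G), a * b = b * a := by
    intro a ha b hb
    have h1 := hsq _ (mul_mem ha hb)
    have ha' := hsq a ha
    have hb' := hsq b hb
    calc a * b = a * (a * b * (a * b)) * b := by rw [h1]; group
      _ = (a * a) * (b * a) * (b * b) := by group
      _ = b * a := by rw [ha', hb']; group
  -- lifts
  obtain ⟨t, ht⟩ := hfs T
  obtain ⟨i, hi⟩ := hfs I
  obtain ⟨j, hj⟩ := hfs J
  have htP : t ∈ P := by rw [hP, Subgroup.mem_comap, ht]; exact hT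
  have hiP : i ∈ P := by rw [hP, Subgroup.mem_comap, hi]; exact hI
  have hjP : j ∈ P := by rw [hP, Subgroup.mem_comap, hj]; exact hJ
  -- the subgroup Z² of squares
  let Q : Subgroup L :=
    { carrier := {x | ∃ z ∈ Z, x = z * z}
      one_mem' := ⟨1, one_mem _, by simp⟩
      mul_mem' := by
        rintro _ _ ⟨z, hz, rfl⟩ ⟨w, hw, rfl⟩
        refine ⟨z * w, mul_mem hz hw, ?_⟩
        calc z * z * (w * w) = z * (z * w) * w := by group
          _ = z * (w * z) * w := by rw [hzc w hw z]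
          _ = _ := by group
      inv_mem' := by
        rintro _ ⟨z, hz, rfl⟩
        exact ⟨z⁻¹, inv_mem hz, by group⟩ }
  have hQZ : Q ≤ Z := by rintro _ ⟨z, hz, rfl⟩; exact mul_mem hz hz
  have hQc : ∀ q ∈ Q, ∀ x : L, x * q = q * x := fun q hq x => hzc q (hQZ hq) x
  -- all elements of P \ Z have the same square modulo Q
  have hk : ∀ x ∈ P, f x ≠ 1 → ∃ q ∈ Q, x * x = t * t * q := by
    intro x hx hx1
    obtain ⟨g, hg⟩ := hconj (f x) hx hx1
    obtain ⟨l, rfl⟩ := hfs g
    rw [← ht, ← map_inv, ← map_mul, ← map_mul] at hg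
    have hz : (l * t * l⁻¹)⁻¹ * x ∈ Z := by
      rw [← hfk, map_mul, map_inv, hg]; group
    set z := (l * t * l⁻¹)⁻¹ * x with hzd
    have hx' : x = (l * t * l⁻¹) * z := by rw [hzd]; group
    refine ⟨z * z, ⟨z, hz, rfl⟩, ?_⟩
    have htt : t * t ∈ Z := hsqZ t htP
    calc x * x = (l * t * l⁻¹) * (z * (l * t * l⁻¹)) * z := by
          conv_lhs => rw [hx']
          group
      _ = (l * t * l⁻¹) * ((l * t * l⁻¹) * z) * z := by rw [← hzc z hz (l * t * l⁻¹)]
      _ = (l * (t * t) * l⁻¹) * (z * z) := by group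
      _ = t * t * (z * z) := by rw [hzc _ htt l]; group
  -- commutators of P lie in Q
  -- c(x,y) := x y x⁻¹ y⁻¹ ; (xy)² = x² y² [y⁻¹..]
  have hcZ : ∀ x ∈ P, ∀ y ∈ P, x * y * x⁻¹ * y⁻¹ ∈ Z := by
    intro x hx y hy
    rw [← hfk]
    simp only [map_mul, map_inv]
    rw [hcomS _ hx _ hy]; group
  have hsqmul : ∀ x ∈ P, ∀ y ∈ P, (x * y) * (x * y) = (x * x) * (y * y) * (y * x * y⁻¹ * x⁻¹) := by
    intro x hx y hy
    have h1 := hcZ y hy x hx
    have h2 : y * x = (y * x * y⁻¹ * x⁻¹) * (x * y) := by group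
    calc (x * y) * (x * y) = x * (y * x) * y := by group
      _ = x * ((y * x * y⁻¹ * x⁻¹) * (x * y)) * y := by rw [← h2]
      _ = x * ((x * y) * (y * x * y⁻¹ * x⁻¹)) * y := by rw [hzc _ h1 (x * y)]
      _ = x * x * y * ((y * x * y⁻¹ * x⁻¹) * y) := by group
      _ = x * x * y * (y * (y * x * y⁻¹ * x⁻¹)) := by rw [hzc _ h1 y]
      _ = _ := by group
  have htt : t * t ∈ Z := hsqZ t htP
  -- work in the quotient by Q
  have hQn : Q.Normal := ⟨fun q hq g => by rw [hQc q hq g, mul_inv_cancel_right]; exact hq⟩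
  have hmk : ∀ x ∈ P, f x ≠ 1 → (QuotientGroup.mk (x * x) : L ⧸ Q) = QuotientGroup.mk (t * t) := by
    intro x hx hx1
    obtain ⟨q, hq, h⟩ := hk x hx hx1
    rw [h, QuotientGroup.mk_mul_of_mem _ hq]
  have hcen : ∀ z ∈ Z, ∀ x : L ⧸ Q, x * QuotientGroup.mk z = QuotientGroup.mk z * x := by
    intro z hz x
    obtain ⟨y, rfl⟩ := QuotientGroup.mk_surjective x
    show (QuotientGroup.mk (y * z) : L ⧸ Q) = QuotientGroup.mk (z * y)
    rw [hzc z hz y]
  -- commutator [y,x] = κ⁻¹ for independent x, y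
  set κ : L ⧸ Q := QuotientGroup.mk (t * t) with hκ
  have hcom : ∀ x ∈ P, ∀ y ∈ P, f x ≠ 1 → f y ≠ 1 → f (x * y) ≠ 1 →
      (QuotientGroup.mk (y * x * y⁻¹ * x⁻¹) : L ⧸ Q) = κ⁻¹ := by
    intro x hx y hy h1 h2 h3
    have h4 := hmk _ (mul_mem hx hy) h3
    rw [hsqmul x hx y hy] at h4
    have h5 : (QuotientGroup.mk ((x * x) * (y * y) * (y * x * y⁻¹ * x⁻¹)) : L ⧸ Q) =
        QuotientGroup.mk (x * x) * QuotientGroup.mk (y * y) * QuotientGroup.mk (y * x * y⁻¹ * x⁻¹) := rfl
    rw [h5, hmk x hx h1, hmk y hy h2] at h4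
    have h6 : κ * (QuotientGroup.mk (y * x * y⁻¹ * x⁻¹) : L ⧸ Q) = 1 := by
      have := congrArg (fun w => κ⁻¹ * w) h4
      simpa [mul_assoc] using this
    exact eq_inv_of_mul_eq_one_right h6
  -- bilinearity
  have hbil : ∀ x ∈ P, ∀ y ∈ P, ∀ w ∈ P, (x * y) * w * (x * y)⁻¹ * w⁻¹ =
      (x * w * x⁻¹ * w⁻¹) * (y * w * y⁻¹ * w⁻¹) := by
    intro x hx y hy w hw
    have h1 := hcZ y hy w hw
    calc (x * y) * w * (x * y)⁻¹ * w⁻¹ = x * (y * w * y⁻¹ * w⁻¹) * (w * x⁻¹ * w⁻¹) := by group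
      _ = (y * w * y⁻¹ * w⁻¹) * x * (w * x⁻¹ * w⁻¹) := by rw [hzc _ h1 x]
      _ = (y * w * y⁻¹ * w⁻¹) * (x * w * x⁻¹ * w⁻¹) := by group
      _ = _ := by rw [hzc _ h1]
  have hκ1 : κ = 1 := by
    -- [ij, t] = [i,t][j,t]
    have e1 := hcom t htP i hiP (by rw [ht]; exact hT1) (by rw [hi]; exact hI1) (by rw [map_mul, ht, hi]; exact hTI)
    have e2 := hcom t htP j hjP (by rw [ht]; exact hT1) (by rw [hj]; exact hJ1) (by rw [map_mul, ht, hj]; exact hTJ)
    have e3 := hcom t htP (i * j) (mul_mem hiP hjP) (by rw [ht]; exact hT1) (by rw [map_mul, hi, hj]; exact hIJ)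
      (by rw [map_mul, map_mul, ht, hi, hj]; exact hTIJ)
    rw [hbil i hiP j hjP t htP] at e3
    have h5 : (QuotientGroup.mk ((i * t * i⁻¹ * t⁻¹) * (j * t * j⁻¹ * t⁻¹)) : L ⧸ Q) =
        QuotientGroup.mk (i * t * i⁻¹ * t⁻¹) * QuotientGroup.mk (j * t * j⁻¹ * t⁻¹) := rfl
    rw [h5, e1, e2] at e3
    have : κ⁻¹ = 1 := by simpa using e3
    rwa [inv_eq_one] at this
  have hPcomm : ∀ x ∈ P, ∀ y ∈ P, y * x * y⁻¹ * x⁻¹ ∈ Q := by
    intro x hx y hy
    by_cases h1 : f x = 1
    · have := hzc x ((hfk x).1 h1) y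
      rw [this]; have : x * y * y⁻¹ * x⁻¹ = 1 := by group
      rw [this]; exact one_mem _
    by_cases h2 : f y = 1
    · have := hzc y ((hfk y).1 h2) x
      rw [← this]; have : x * y * y⁻¹ * x⁻¹ = 1 := by group
      rw [this]; exact one_mem _
    by_cases h3 : f (x * y) = 1
    · -- y = x⁻¹ z
      have hz := (hfk _).1 h3
      have h4 : y * x = x⁻¹ * (x * y) * x := by group
      have h5 : y * x = x * y := by
        rw [h4, mul_assoc, ← hzc _ hz x]; group
      rw [h5]; have : x * y * y⁻¹ * x⁻¹ = 1 := by group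
      rw [this]; exact one_mem _
    · have := hcom x hx y hy h1 h2 h3
      rw [hκ1, inv_one, QuotientGroup.eq_one_iff] at this
      exact this
  -- transfer to the abelian group P / (Q ∩ P)
  let Q' : Subgroup P := Q.subgroupOf P
  have hQ'n : Q'.Normal := inferInstance
  let _ : CommGroup (P ⧸ Q') := { (inferInstance : Group (P ⧸ Q')) with
    mul_comm := by
      intro a b
      obtain ⟨x, rfl⟩ := QuotientGroup.mk_surjective a
      obtain ⟨y, rfl⟩ := QuotientGroup.mk_surjective b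
      show (QuotientGroup.mk (x * y) : P ⧸ Q') = QuotientGroup.mk (y * x)
      rw [QuotientGroup.eq, Subgroup.mem_subgroupOf]
      have := hPcomm (x : L)⁻¹ (inv_mem x.2) (y : L)⁻¹ (inv_mem y.2)
      simpa [mul_assoc] using this }
  let ϕ : P →* P ⧸ Q' := QuotientGroup.mk' Q'
  have hτ1 : ∀ x : L, MonoidHom.transfer ϕ x = 1 := by
    intro x
    have hk1 : commutator L ≤ (MonoidHom.transfer ϕ).ker := by
      rw [commutator_def, Subgroup.commutator_le]
      intro a _ b _
      rw [MonoidHom.mem_ker, map_commutatorElement, commutatorElement_eq_one_iff_mul_comm]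
      exact mul_comm _ _
    have : x ∈ (MonoidHom.transfer ϕ).ker := hk1 (by rw [hperf]; exact Subgroup.mem_top _)
    exact this
  have hpow : ∀ z ∈ Z, z ^ P.index ∈ Q := by
    intro z hz
    have key : ∀ (k : ℕ) (g₀ : L), g₀⁻¹ * z ^ k * g₀ ∈ P → g₀⁻¹ * z ^ k * g₀ = z ^ k := by
      intro k g₀ _
      have := hzc _ (pow_mem hz k) g₀⁻¹
      rw [this]; group
    have h1 := MonoidHom.transfer_eq_pow ϕ z key
    rw [hτ1] at h1
    have h2 := (QuotientGroup.eq_one_iff _).1 h1.symm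
    exact Subgroup.mem_subgroupOf.1 h2
  -- conclude
  by_contra hne
  have hZ2dvd : 2 ∣ Nat.card Z := by
    have h1 : Nontrivial Z := (Subgroup.nontrivial_iff_ne_bot Z).2 hne
    obtain ⟨n, hn, h2⟩ := hZ2.nontrivial_iff_card.1 h1
    rw [h2]; exact dvd_pow_self 2 hn.ne'
  have hsurj : Function.Surjective (fun z : Z => (⟨z * z, mul_mem z.2 z.2⟩ : Z)) := by
    intro z
    -- z ∈ Q
    have hzQ : (z : L) ∈ Q := by
      obtain ⟨n, hn⟩ := hZ2 z
      have hcop : Nat.Coprime (2 ^ n) P.index :=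
        Nat.Coprime.pow_left n ((Nat.Prime.coprime_iff_not_dvd Nat.prime_two).2 hPidx)
      have hc2 : IsCoprime ((2 ^ n : ℕ) : ℤ) (P.index : ℤ) := Nat.isCoprime_iff_coprime.2 hcop
      obtain ⟨a, b, hab⟩ := hc2
      have hzn : (z : L) ^ (2 ^ n) = 1 := congrArg Subtype.val hn
      have h4 : (z : L) = ((z : L) ^ P.index) ^ b := by
        have h5 : (z : L) = ((z : L) ^ (2 ^ n)) ^ a * ((z : L) ^ P.index) ^ b := by
          rw [← zpow_natCast, ← zpow_natCast, ← zpow_mul, ← zpow_mul, ← zpow_add]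
          rw [mul_comm _ a, mul_comm _ b, hab, zpow_one]
        rw [hzn, one_zpow, one_mul] at h5
        exact h5
      rw [h4]
      exact zpow_mem (hpow _ z.2) _
    obtain ⟨w, hw, hwz⟩ := hzQ
    exact ⟨⟨w, hw⟩, Subtype.ext hwz.symm⟩
  have hinj := Finite.injective_iff_surjective.2 hsurj
  obtain ⟨z, hz⟩ := exists_prime_orderOf_dvd_card' 2 hZ2dvd
  have h1 : z = 1 := by
    apply hinj
    apply Subtype.ext
    have : z * z = 1 := by rw [← pow_two, ← hz]; exact pow_orderOf_eq_one z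
    show (z : L) * z = 1 * 1
    rw [mul_one]
    exact congrArg Subtype.val this
  rw [h1, orderOf_one] at hz
  exact absurd hz (by norm_num)

end Cfsg.Agent.Lib.H53Ree
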