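import Mathlib
import Cfsg.Agent.Lib.H53Ree

/-!
Groups of Janko–Ree type, part 2: structure of the Sylow `2`-subgroup (seat helper53).
-/

set_option autoImplicit false

namespace Cfsg.Agent.Lib.H53Ree

open Subgroup Cfsg.Agent.Lib.H53PSL2

variable {G : Type*} [Group G] [Finite G] {F : Type*} [Field F] [Fintype F]

local notation "PSL2" => Matrix.ProjectiveSpecialLinearGroup (Fin 2) F
local notation "SL2" => Matrix.SpecialLinearGroup (Fin 2) F

/-- Restriction of an automorphism to an invariant embedded subgroup. -/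
theorem exists_restrict {N : Type*} [Group N] [Finite N] (ι : N →* G) (hι : Function.Injective ι) (α : MulAut G)
    (hα : ∀ y, ∃ z, α (ι y) = ι z) : ∃ α' : MulAut N, ∀ y, ι (α' y) = α (ι y) := by
  choose f hf using hα
  have hmul : ∀ x y, f (x * y) = f x * f y := by
    intro x y
    apply hι
    rw [← hf, map_mul, map_mul, map_mul, hf, hf]
  have hinj : Function.Injective f := by
    intro x y hxy
    apply hι
    apply α.injective
    rw [hf, hf, hxy]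
  refine ⟨MulEquiv.ofBijective (MonoidHom.mk' f hmul) (Finite.injective_iff_bijective.1 hinj), fun y => ?_⟩
  exact (hf y).symm

theorem restrict_pow {N : Type*} [Group N] (ι : N →* G) (α : MulAut G) (α' : MulAut N)
    (h : ∀ y, ι (α' y) = α (ι y)) (n : ℕ) : ∀ y, ι ((α' ^ n) y) = (α ^ n) (ι y) := by
  induction n with
  | zero => intro y; simp
  | succ n ih =>
    intro y
    rw [pow_succ, pow_succ, MulAut.mul_apply, MulAut.mul_apply, ih, h]

/-- The basic configuration. -/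
structure Conf (t : G) (ι : Matrix.ProjectiveSpecialLinearGroup (Fin 2) F →* G) : Prop where
  ab : ∀ S : Sylow 2 G, ∀ x ∈ (S : Subgroup G), ∀ y ∈ (S : Subgroup G), x * y = y * x
  tt : t * t = 1
  t1 : t ≠ 1
  inj : Function.Injective ι
  comm : ∀ y, t * ι y = ι y * t
  norm : ∀ c, c * t = t * c → ∀ y, ∃ z, c * ι y * c⁻¹ = ι z
  cent : ∀ c, c * t = t * c → (∀ y, c * ι y = ι y * c) → c = 1 ∨ c = t
  nt : ∀ y, ι y ≠ t
  h2 : (2 : F) ≠ 0

variable {t : G} {ι : Matrix.ProjectiveSpecialLinearGroup (Fin 2) F →* G}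

theorem Conf.not_isSquare (C : Conf t ι) : ¬ IsSquare (2 : F) := by
  intro hsq
  have : Fact (Nat.Prime 2) := ⟨Nat.prime_two⟩
  obtain ⟨a, b, hab⟩ := H53SL2.exists_sum_two_sq (-1 : F)
  obtain ⟨H, hH, x, hx, y, hy, hxy⟩ := exists_nonabelian_two C.h2 hsq hab
  obtain ⟨S, hS⟩ := (hH.map ι).exists_le_sylow
  apply hxy
  apply C.inj
  rw [map_mul, map_mul]
  exact C.ab S _ (hS ⟨x, hx, rfl⟩) _ (hS ⟨y, hy, rfl⟩)

/-- the predicate "`v` is one of `1, i, j, ij`" -/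
def IsV {a b : F} (h : a ^ 2 + b ^ 2 = -1) (v : SL2) : Prop :=
  v = 1 ∨ v = qi F ∨ v = qj h ∨ v = qi F * qj h

theorem Conf.aut_eq (C : Conf t ι) {a b : F} (h : a ^ 2 + b ^ 2 = -1) (α : MulAut G)
    (hα : ∀ y, ∃ z, α (ι y) = ι z) (k : ℕ) (hk : ∀ y, (α ^ 2 ^ k) (ι y) = ι y)
    (hi : α (ι (QuotientGroup.mk (qi F))) = ι (QuotientGroup.mk (qi F)))
    (hj : α (ι (QuotientGroup.mk (qj h))) = ι (QuotientGroup.mk (qj h))) :
    ∃ v : SL2, IsV h v ∧ ∀ y, α (ι y) = ι (QuotientGroup.mk v) * ι y * (ι (QuotientGroup.mk v))⁻¹ := by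
  obtain ⟨α', hα'⟩ := exists_restrict ι C.inj α hα
  have hk' : α' ^ 2 ^ k = 1 := by
    ext y
    apply C.inj
    rw [restrict_pow ι α α' hα', hk, MulAut.one_apply]
  obtain ⟨v, hv, hvc⟩ := two_aut C.not_isSquare h α' k hk' (C.inj (by rw [hα', hi])) (C.inj (by rw [hα', hj]))
  refine ⟨v, hv, fun y => ?_⟩
  rw [← hα', hvc, MulAut.conj_apply, map_mul, map_mul, map_inv]

theorem Conf.conj_iota (C : Conf t ι) (x : G) (hx : x * t = t * x) {a b : F} (h : a ^ 2 + b ^ 2 = -1)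
    (k : ℕ) (hk : x ^ 2 ^ k = 1) (hi : x * ι (QuotientGroup.mk (qi F)) = ι (QuotientGroup.mk (qi F)) * x)
    (hj : x * ι (QuotientGroup.mk (qj h)) = ι (QuotientGroup.mk (qj h)) * x) :
    ∃ v : SL2, IsV h v ∧ (x = ι (QuotientGroup.mk v) ∨ x = t * ι (QuotientGroup.mk v)) := by
  obtain ⟨v, hv, hvc⟩ := C.aut_eq h (MulAut.conj x) (fun y => by
      obtain ⟨z, hz⟩ := C.norm x hx y
      exact ⟨z, hz⟩) k (fun y => by rw [← map_pow, hk, map_one, MulAut.one_apply])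
    (by rw [MulAut.conj_apply, hi]; group) (by rw [MulAut.conj_apply, hj]; group)
  refine ⟨v, hv, ?_⟩
  have hc : ∀ y, ((ι (QuotientGroup.mk v))⁻¹ * x) * ι y = ι y * ((ι (QuotientGroup.mk v))⁻¹ * x) := by
    intro y
    have h1 := hvc y
    rw [MulAut.conj_apply] at h1
    calc ((ι (QuotientGroup.mk v))⁻¹ * x) * ι y = (ι (QuotientGroup.mk v))⁻¹ * (x * ι y * x⁻¹) * x := by group
      _ = _ := by rw [h1]; group
  have hct : ((ι (QuotientGroup.mk v))⁻¹ * x) * t = t * ((ι (QuotientGroup.mk v))⁻¹ * x) := by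
    have h1 := C.comm (QuotientGroup.mk v)
    have h2 : (ι (QuotientGroup.mk v))⁻¹ * t = t * (ι (QuotientGroup.mk v))⁻¹ := by
      calc (ι (QuotientGroup.mk v))⁻¹ * t = (ι (QuotientGroup.mk v))⁻¹ * (t * ι (QuotientGroup.mk v)) * (ι (QuotientGroup.mk v))⁻¹ := by group
        _ = _ := by rw [h1]; group
    rw [mul_assoc, hx, ← mul_assoc, h2, mul_assoc]
  rcases C.cent _ hct hc with h1 | h1
  · left
    rw [inv_mul_eq_one] at h1; exact h1.symm
  · right
    rw [inv_mul_eq_iff_eq_mul] at h1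
    rw [h1, C.comm]

/-- abbreviations -/
def II (ι : Matrix.ProjectiveSpecialLinearGroup (Fin 2) F →* G) : G := ι (QuotientGroup.mk (qi F))
def JJ (ι : Matrix.ProjectiveSpecialLinearGroup (Fin 2) F →* G) {a b : F} (h : a ^ 2 + b ^ 2 = -1) : G :=
  ι (QuotientGroup.mk (qj h))
def WW (ι : Matrix.ProjectiveSpecialLinearGroup (Fin 2) F →* G) (h2 : (2 : F) ≠ 0) {a b : F}
    (h : a ^ 2 + b ^ 2 = -1) : G := ι (QuotientGroup.mk (qw h2 h))

theorem iota_mk_one : ι (QuotientGroup.mk (1 : SL2)) = 1 := map_one ι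

theorem iota_mk_mul (x y : SL2) : ι (QuotientGroup.mk (x * y)) = ι (QuotientGroup.mk x) * ι (QuotientGroup.mk y) :=
  map_mul ι (QuotientGroup.mk x) (QuotientGroup.mk y)

/-- relations in `G` -/
theorem Conf.rel (C : Conf t ι) {a b : F} (h : a ^ 2 + b ^ 2 = -1) :
    II ι * II ι = 1 ∧ JJ ι h * JJ ι h = 1 ∧ II ι ≠ 1 ∧ JJ ι h ≠ 1 ∧ II ι ≠ JJ ι h ∧ t ≠ II ι ∧ t ≠ JJ ι h ∧
      t ≠ II ι * JJ ι h ∧ WW ι C.h2 h * t * (WW ι C.h2 h)⁻¹ = t ∧
      WW ι C.h2 h * II ι * (WW ι C.h2 h)⁻¹ = II ι * JJ ι h ∧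
      WW ι C.h2 h * JJ ι h * (WW ι C.h2 h)⁻¹ = II ι ∧ JJ ι h * II ι = II ι * JJ ι h := by
  refine ⟨?_, ?_, ?_, ?_, ?_, ?_, ?_, ?_, ?_, ?_, ?_, ?_⟩
  · rw [II, ← map_mul, mk_qi_sq, map_one]
  · rw [JJ, ← map_mul, mk_qj_sq, map_one]
  · rw [II, Ne, ← map_one ι]; exact fun e => mk_qi_ne (C.inj e)
  · rw [JJ, Ne, ← map_one ι]; exact fun e => mk_qj_ne C.h2 h (C.inj e)
  · exact fun e => mk_qi_ne_qj C.h2 h (C.inj e)
  · exact fun e => C.nt _ e.symm
  · exact fun e => C.nt _ e.symm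
  · exact fun e => C.nt (QuotientGroup.mk (qi F) * QuotientGroup.mk (qj h)) (by rw [map_mul]; exact e.symm)
  · rw [WW, ← C.comm]; group
  · rw [WW, II, JJ, ← map_inv, ← map_mul, ← map_mul, mk_qw_qi, map_mul]
  · rw [WW, II, JJ, ← map_inv, ← map_mul, ← map_mul, mk_qw_qj]
  · rw [II, JJ, ← map_mul, ← map_mul, mk_comm]

/-- there is a Sylow 2-subgroup containing `t, i, j` -/
theorem Conf.exists_sylow (C : Conf t ι) {a b : F} (h : a ^ 2 + b ^ 2 = -1) :
    ∃ S : Sylow 2 G, t ∈ (S : Subgroup G) ∧ II ι ∈ (S : Subgroup G) ∧ JJ ι h ∈ (S : Subgroup G) := by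
  have : Fact (Nat.Prime 2) := ⟨Nat.prime_two⟩
  obtain ⟨r1, r2, -, -, -, -, -, -, -, -, -, r12⟩ := C.rel h
  have z1 : IsPGroup 2 (Subgroup.zpowers t) := isPGroup_zpowers (k := 1) (by rw [pow_one, pow_two]; exact C.tt)
  have z2 : IsPGroup 2 (Subgroup.zpowers (II ι)) := isPGroup_zpowers (k := 1) (by rw [pow_one, pow_two]; exact r1)
  have z3 : IsPGroup 2 (Subgroup.zpowers (JJ ι h)) := isPGroup_zpowers (k := 1) (by rw [pow_one, pow_two]; exact r2)
  have z4 : IsPGroup 2 (Subgroup.zpowers (II ι) ⊔ Subgroup.zpowers (JJ ι h) : Subgroup G) := by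
    apply z2.to_sup_of_normal_right' z3
    rw [Subgroup.zpowers_le]
    apply Subgroup.centralizer_le_normalizer
    rw [Subgroup.mem_centralizer_iff]
    rintro _ ⟨k, rfl⟩
    have : Commute (JJ ι h) (II ι) := r12
    exact (this.zpow_left k).eq
  have z5 : IsPGroup 2 (Subgroup.zpowers t ⊔ (Subgroup.zpowers (II ι) ⊔ Subgroup.zpowers (JJ ι h)) : Subgroup G) := by
    apply z1.to_sup_of_normal_right' z4
    rw [Subgroup.zpowers_le]
    apply Subgroup.centralizer_le_normalizer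
    have : Subgroup.zpowers (II ι) ⊔ Subgroup.zpowers (JJ ι h) ≤ Subgroup.centralizer ({t} : Set G) := by
      rw [sup_le_iff, Subgroup.zpowers_le, Subgroup.zpowers_le, Subgroup.mem_centralizer_singleton_iff,
        Subgroup.mem_centralizer_singleton_iff]
      exact ⟨(C.comm _).symm, (C.comm _).symm⟩
    rw [Subgroup.mem_centralizer_iff]
    intro y hy
    exact Subgroup.mem_centralizer_singleton_iff.1 (this hy)
  obtain ⟨S, hS⟩ := z5.exists_le_sylow
  exact ⟨S, hS (Subgroup.mem_sup_left (Subgroup.mem_zpowers _)),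
    hS (Subgroup.mem_sup_right (Subgroup.mem_sup_left (Subgroup.mem_zpowers _))),
    hS (Subgroup.mem_sup_right (Subgroup.mem_sup_right (Subgroup.mem_zpowers _)))⟩

theorem Conf.mem_sylow (C : Conf t ι) {a b : F} (h : a ^ 2 + b ^ 2 = -1) (S : Sylow 2 G)
    (hT : t ∈ (S : Subgroup G)) (hI : II ι ∈ (S : Subgroup G)) (hJ : JJ ι h ∈ (S : Subgroup G))
    (x : G) (hx : x ∈ (S : Subgroup G)) : x = 1 ∨ x = II ι ∨ x = JJ ι h ∨ x = II ι * JJ ι h ∨ x = t ∨
      x = t * II ι ∨ x = t * JJ ι h ∨ x = t * (II ι * JJ ι h) := by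
  obtain ⟨n, hn⟩ := S.isPGroup' ⟨x, hx⟩
  have hn' : x ^ 2 ^ n = 1 := congrArg Subtype.val hn
  obtain ⟨v, hv, hxv⟩ := C.conj_iota x (C.ab S x hx t hT) h n hn' (C.ab S x hx _ hI) (C.ab S x hx _ hJ)
  rcases hxv with hxv | hxv <;> rcases hv with rfl | rfl | rfl | rfl
  · rw [iota_mk_one] at hxv; tauto
  · have : x = II ι := hxv
    tauto
  · have : x = JJ ι h := hxv
    tauto
  · rw [iota_mk_mul] at hxv
    have : x = II ι * JJ ι h := hxv
    tauto
  · rw [iota_mk_one, mul_one] at hxv; tauto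
  · have : x = t * II ι := hxv
    tauto
  · have : x = t * JJ ι h := hxv
    tauto
  · rw [iota_mk_mul] at hxv
    have : x = t * (II ι * JJ ι h) := hxv
    tauto

end Cfsg.Agent.Lib.H53Ree
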