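import Mathlib
import Cfsg.Agent.Lib.DkSub

/-!
Tori of `PSL₂(q)`: the cyclic torus through a `p'`-element, its normalizer, centralizers (helper18).
-/

set_option autoImplicit false

namespace Cfsg.Agent.Lib.ReePSL

open Cfsg.Agent.Lib Cfsg.Agent.Lib.MobCount MulAction Matrix Cfsg.Agent.Lib.ClProjLine Cfsg.Agent.Lib.DkTorus
open Cfsg.Agent.Lib.DkSub
open scoped LinearAlgebra.Projectivization MatrixGroups

variable {F : Type*} [Field F] [Fintype F]

/-- Tori in `PSL₂(q)`. -/
theorem tor (p : ℕ) [Fact p.Prime] [CharP F p] (h4 : 4 ≤ Fintype.card F) (c : P2 F) (hc1 : c ≠ 1) (hcp : ¬ p ∣ orderOf c) :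
    ∃ T N : Subgroup (P2 F), T ≤ N ∧ IsCyclic T ∧ c ∈ T ∧
      (Nat.gcd 2 (Fintype.card F - 1) * Nat.card T = Fintype.card F - 1 ∨
        Nat.gcd 2 (Fintype.card F - 1) * Nat.card T = Fintype.card F + 1) ∧
      Nat.card N = 2 * Nat.card T ∧ (∀ t ∈ N, t ∉ T → t * t = 1) ∧
      (∀ g : P2 F, g * c * g⁻¹ ∈ Subgroup.zpowers c → g ∈ N) := by
  obtain ⟨T, N, hTN, hT, hcT, hcardT, hcardN, hsq, hnorm⟩ := torus p (tP F c)
    (fun h => hc1 (tP_inj (by rw [h, map_one]))) (by rw [orderOf_injective _ tP_inj]; exact hcp)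
  have hTL := card_T_inf p h4 T hT hcardT
  have hnot : ¬ (N ⊓ LL F) ≤ T := by
    intro hle
    have h1 : N ⊓ LL F ≤ T ⊓ LL F := le_inf hle inf_le_right
    have h2 : Nat.card (N ⊓ LL F : Subgroup (PGL(Fin 2, F))) ≤ Nat.card (T ⊓ LL F : Subgroup (PGL(Fin 2, F))) :=
      Subgroup.card_le_of_le h1
    have h3 : Nat.card N ≤ Nat.gcd 2 (Fintype.card F - 1) * Nat.card (N ⊓ LL F : Subgroup (PGL(Fin 2, F))) := by
      have h5 := Subgroup.card_mul_index ((LL F).subgroupOf N)
      have h6 : Nat.card ((LL F).subgroupOf N) = Nat.card (N ⊓ LL F : Subgroup (PGL(Fin 2, F))) := by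
        rw [← Subgroup.inf_subgroupOf_left]
        exact Nat.card_congr (Subgroup.subgroupOfEquivOfLe inf_le_left).toEquiv
      have h7 : ((LL F).subgroupOf N).index ≤ Nat.gcd 2 (Fintype.card F - 1) := by
        rw [← index_LL]
        have : (LL F).FiniteIndex := inferInstance
        exact Nat.le_of_dvd (Nat.pos_of_ne_zero Subgroup.FiniteIndex.index_ne_zero) (by
          haveI : (LL F).Normal := LL_normal
          exact Subgroup.relIndex_dvd_index_of_normal _ _)
      rw [← h5, h6, mul_comm]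
      exact Nat.mul_le_mul_right _ h7
    have h8 : Nat.card N ≤ Nat.card T := by
      rw [← hTL]
      exact h3.trans (Nat.mul_le_mul_left _ h2)
    have h9 : 0 < Nat.card T := Nat.card_pos
    omega
  obtain ⟨h1, h2⟩ := dih_sub hT hsq hcardN hTN (H := N ⊓ LL F) inf_le_left hnot
  have h3 : N ⊓ LL F ⊓ T = T ⊓ LL F := by
    rw [inf_right_comm, inf_eq_right.mpr hTN]
  rw [h3] at h1 h2
  refine ⟨T.comap (tP F), N.comap (tP F), Subgroup.comap_mono hTN, ?_, ?_, ?_, ?_, ?_, ?_⟩
  · haveI := hT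
    haveI : IsCyclic (T.comap (tP F)) := by
      have : Function.Injective ((tP F).subgroupComap T) := by
        intro a b hab
        apply Subtype.ext
        apply tP_inj
        exact congrArg Subtype.val hab
      exact isCyclic_of_injective _ this
    exact this
  · exact hcT
  · rw [card_comap, hTL]; exact hcardT
  · rw [card_comap, card_comap, h1]
  · intro t ht htT
    apply tP_inj
    rw [map_mul, map_one]
    exact hsq _ ht htT
  · intro g hg
    rw [Subgroup.mem_comap]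
    apply hnorm
    obtain ⟨n, hn⟩ := hg
    refine ⟨n, ?_⟩
    have := congrArg (tP F) hn
    simpa using this

/-- Elements outside a torus invert it. -/
theorem inverts {G : Type*} [Group G] {T N : Subgroup G} (hTN : T ≤ N) (hsq : ∀ t ∈ N, t ∉ T → t * t = 1)
    {t s : G} (ht : t ∈ N) (htT : t ∉ T) (hs : s ∈ T) : t * s * t⁻¹ = s⁻¹ := by
  have h1 := hsq t ht htT
  have h2 := hsq (t * s) (mul_mem ht (hTN hs)) (fun h => htT (by
    have := mul_mem h (inv_mem hs)
    rwa [mul_inv_cancel_right] at this))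
  have h3 : t⁻¹ = t := inv_eq_of_mul_eq_one_left h1
  rw [h3]
  rw [eq_inv_iff_mul_eq_one, mul_assoc (t * s)]
  exact h2

/-- The centralizer of an element of order `> 2` of a torus is the torus. -/
theorem cent {G : Type*} [Group G] {T N : Subgroup G} (hTN : T ≤ N) (hsq : ∀ t ∈ N, t ∉ T → t * t = 1)
    {c : G} (hc : c ∈ T) (hc2 : c * c ≠ 1) (hn : ∀ g : G, g * c * g⁻¹ ∈ Subgroup.zpowers c → g ∈ N)
    {g : G} (hg : g * c = c * g) : g ∈ T := by
  by_contra hgT
  have h1 : g * c * g⁻¹ = c := by rw [hg, mul_inv_cancel_right]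
  have hgN : g ∈ N := hn g (by rw [h1]; exact Subgroup.mem_zpowers c)
  have h2 := inverts hTN hsq hgN hgT hc
  rw [h1] at h2
  exact hc2 (by rw [← eq_inv_iff_mul_eq_one]; exact h2)

end Cfsg.Agent.Lib.ReePSL
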