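import Mathlib
import Cfsg.Agent.Lib.H53Ree2

/-!
Groups of Janko–Ree type, part 3: automorphisms of `2`-power order centralizing a Sylow `2`-subgroup
(seat helper53).
-/

set_option autoImplicit false

namespace Cfsg.Agent.Lib.H53Ree

open Subgroup Cfsg.Agent.Lib.H53PSL2

variable {G : Type*} [Group G] [Finite G] {F : Type*} [Field F] [Fintype F]

local notation "PSL2" => Matrix.ProjectiveSpecialLinearGroup (Fin 2) F
local notation "SL2" => Matrix.SpecialLinearGroup (Fin 2) F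

variable {t : G} {ι : Matrix.ProjectiveSpecialLinearGroup (Fin 2) F →* G}

/-- An automorphism fixing `t` leaves `N = ι(PSL₂)` invariant. -/
theorem Conf.aut_stab (C : Conf t ι) [hs : IsSimpleGroup (Matrix.ProjectiveSpecialLinearGroup (Fin 2) F)]
    (α : MulAut G) (hα : α t = t) : ∀ y, ∃ z, α (ι y) = ι z := by
  classical
  set N1 : Subgroup G := ι.range with hN1
  set N2 : Subgroup G := N1.map α.toMonoidHom with hN2
  have m1 : ∀ y, ι y ∈ N1 := fun y => ⟨y, rfl⟩
  have m2 : ∀ y, α (ι y) ∈ N2 := fun y => ⟨ι y, m1 y, rfl⟩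
  have hn2 : ∀ c, c * t = t * c → ∀ x ∈ N2, c * x * c⁻¹ ∈ N2 := by
    rintro c hc _ ⟨_, ⟨y, rfl⟩, rfl⟩
    have hc' : α.symm c * t = t * α.symm c := by
      apply α.injective
      rw [map_mul, map_mul, hα, MulEquiv.apply_symm_apply, hc]
    obtain ⟨z, hz⟩ := C.norm _ hc' y
    have : c * α (ι y) * c⁻¹ = α (ι z) := by
      rw [← hz, map_mul, map_mul, map_inv, MulEquiv.apply_symm_apply]
    show c * α (ι y) * c⁻¹ ∈ N2
    rw [this]; exact m2 z
  have hc2 : ∀ y, α (ι y) * t = t * α (ι y) := by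
    intro y
    have := congrArg α (C.comm y)
    rw [map_mul, map_mul, hα] at this
    exact this.symm
  -- the subgroup of PSL2
  let K : Subgroup PSL2 := N2.comap ι
  have hK : K.Normal := ⟨fun x hx g => by
    show ι (g * x * g⁻¹) ∈ N2
    rw [map_mul, map_mul, map_inv]
    exact hn2 _ (C.comm g).symm _ hx⟩
  rcases hK.eq_bot_or_eq_top with h | h
  · exfalso
    -- N1 and N2 commute
    have hcom : ∀ x y, α (ι y) * ι x = ι x * α (ι y) := by
      intro x y
      have h1 : α (ι y) * ι x * (α (ι y))⁻¹ * (ι x)⁻¹ ∈ N2 := by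
        have : α (ι y) * ι x * (α (ι y))⁻¹ * (ι x)⁻¹ = α (ι y) * (ι x * (α (ι y))⁻¹ * (ι x)⁻¹) := by group
        rw [this]
        exact mul_mem (m2 y) (hn2 _ (C.comm x).symm _ (inv_mem (m2 y)))
      obtain ⟨z, hz⟩ := C.norm _ (hc2 y) x
      have h2 : α (ι y) * ι x * (α (ι y))⁻¹ * (ι x)⁻¹ = ι (z * x⁻¹) := by rw [hz, map_mul, map_inv]
      rw [h2] at h1
      have h3 : z * x⁻¹ ∈ K := h1
      rw [h, Subgroup.mem_bot] at h3
      rw [h3, map_one] at h2
      have : α (ι y) * ι x = (α (ι y) * ι x * (α (ι y))⁻¹ * (ι x)⁻¹) * (ι x * α (ι y)) := by group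
      rw [this, h2, one_mul]
    obtain ⟨y, hy⟩ := exists_ne (1 : PSL2)
    rcases C.cent _ (hc2 y) (fun x => hcom x y) with h1 | h1
    · apply hy
      apply C.inj
      apply α.injective
      rw [h1, map_one, map_one]
    · have : ι y = t := by
        apply α.injective
        rw [h1, hα]
      exact C.nt y this
  · have h1 : N1 ≤ N2 := by
      rintro _ ⟨y, rfl⟩
      have : y ∈ K := by rw [h]; exact Subgroup.mem_top y
      exact this
    have h2 : N1 = N2 := by
      apply Subgroup.eq_of_le_of_card_ge h1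
      rw [hN2, Subgroup.card_map_of_injective α.injective]
    intro y
    have h3 := m2 y
    rw [← h2] at h3
    obtain ⟨z, hz⟩ := h3
    exact ⟨z, hz.symm⟩

theorem Conf.sylow_le (C : Conf t ι) (S : Sylow 2 G) (hT : t ∈ (S : Subgroup G)) :
    (S : Subgroup G) ≤ Subgroup.centralizer ({t} : Set G) := by
  intro x hx
  rw [Subgroup.mem_centralizer_singleton_iff]
  exact C.ab S x hx t hT

/-- An automorphism trivial on `S` and on `N` is trivial on `C(t)`. -/
theorem Conf.trivial_on_centralizer (C : Conf t ι) (S : Sylow 2 G) (hT : t ∈ (S : Subgroup G))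
    (α : MulAut G) (hS : ∀ s ∈ (S : Subgroup G), α s = s) (hα : ∀ y, α (ι y) = ι y) :
    ∀ x, x * t = t * x → α x = x := by
  classical
  have : Fact (Nat.Prime 2) := ⟨Nat.prime_two⟩
  have hti : t⁻¹ = t := by rw [inv_eq_iff_mul_eq_one]; exact C.tt
  -- α x = x or x t
  have key : ∀ x, x * t = t * x → α x = x ∨ α x = x * t := by
    intro x hx
    have hx' : t * x = x * t := hx.symm
    have h1 : (x⁻¹ * α x) * t = t * (x⁻¹ * α x) := by
      have e1 : α x * t = t * α x := by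
        have := congrArg α hx
        rw [map_mul, map_mul, hS t hT] at this
        exact this
      have e2 : x⁻¹ * t = t * x⁻¹ := by
        calc x⁻¹ * t = x⁻¹ * (t * x) * x⁻¹ := by group
          _ = t * x⁻¹ := by rw [hx']; group
      rw [mul_assoc, e1, ← mul_assoc, e2, mul_assoc]
    have h2 : ∀ y, (x⁻¹ * α x) * ι y = ι y * (x⁻¹ * α x) := by
      intro y
      obtain ⟨z, hz⟩ := C.norm x hx y
      have h3 : α x * ι y * (α x)⁻¹ = ι z := by
        have := congrArg α hz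
        rw [map_mul, map_mul, map_inv, hα, hα] at this
        exact this
      calc (x⁻¹ * α x) * ι y = x⁻¹ * (α x * ι y * (α x)⁻¹) * α x := by group
        _ = x⁻¹ * (x * ι y * x⁻¹) * α x := by rw [h3, hz]
        _ = ι y * (x⁻¹ * α x) := by group
    rcases C.cent _ h1 h2 with h3 | h3
    · left; rw [inv_mul_eq_one] at h3; exact h3.symm
    · right; rw [inv_mul_eq_iff_eq_mul] at h3; exact h3
  -- 2-elements are fixed
  have htwo : ∀ y, y * t = t * y → (∃ k : ℕ, y ^ 2 ^ k = 1) → α y = y := by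
    intro y hy hk
    obtain ⟨g, hg, hgS⟩ := Lib.H32Basic.exists_conj_mem_sylow_of_le S (Subgroup.centralizer ({t} : Set G))
      (C.sylow_le S hT) y (Subgroup.mem_centralizer_singleton_iff.2 hy) hk
    rw [Subgroup.mem_centralizer_singleton_iff] at hg
    have h1 := hS _ hgS
    rw [map_mul, map_mul, map_inv] at h1
    rcases key g hg with h2 | h2
    · rw [h2] at h1
      have := congrArg (fun z => g⁻¹ * z * g) h1
      simpa [mul_assoc] using this
    · rw [h2] at h1
      have e1 : α y * t = t * α y := by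
        have := congrArg α hy
        rw [map_mul, map_mul, hS t hT] at this
        exact this
      have h3 : g * t * α y * (g * t)⁻¹ = g * α y * g⁻¹ := by
        calc g * t * α y * (g * t)⁻¹ = g * (t * α y) * t⁻¹ * g⁻¹ := by group
          _ = g * α y * g⁻¹ := by rw [← e1]; group
      rw [h3] at h1
      have := congrArg (fun z => g⁻¹ * z * g) h1
      simpa [mul_assoc] using this
  intro x hx
  rcases key x hx with h | h
  · exact h
  · exfalso
    obtain ⟨k, m, hm, hkm⟩ := Nat.exists_eq_two_pow_mul_odd (n := orderOf x) (orderOf_pos x).ne'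
    have hxm : (x ^ m) ^ 2 ^ k = 1 := by
      rw [← pow_mul, mul_comm, ← hkm]; exact pow_orderOf_eq_one x
    have hcx : Commute x t := hx
    have h1 := htwo (x ^ m) (hcx.pow_left m).eq ⟨k, hxm⟩
    rw [map_pow, h, hcx.mul_pow] at h1
    have h2 : t ^ m = 1 := by simpa using h1
    obtain ⟨l, rfl⟩ := hm
    rw [pow_succ, pow_mul, pow_two, C.tt, one_pow, one_mul] at h2
    exact C.t1 h2

/-- Frattini-type argument with an abelian Sylow subgroup. -/
theorem exists_normalizing {Γ : Type*} [Group Γ] [Finite Γ] {H P : Subgroup Γ}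
    (hP : Lib.RelSylow.IsSyl 2 P H) (hab : ∀ x ∈ P, ∀ y ∈ P, x * y = y * x) (h0 : Γ) (hh : h0 ∈ H)
    (T : Subgroup Γ) (hTP : T ≤ P) (hT' : ∀ τ ∈ T, h0 * τ * h0⁻¹ ∈ P) :
    ∃ n ∈ H ⊓ Subgroup.normalizer (P : Set Γ), ∀ τ ∈ T, n * τ * n⁻¹ = h0 * τ * h0⁻¹ := by
  have : Fact (Nat.Prime 2) := ⟨Nat.prime_two⟩
  set T' : Subgroup Γ := T.map (MulAut.conj h0).toMonoidHom with hT'd
  set D : Subgroup Γ := H ⊓ Subgroup.centralizer (T' : Set Γ) with hD
  have hPD : P ≤ D := by
    intro x hx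
    refine Subgroup.mem_inf.2 ⟨hP.1 hx, ?_⟩
    rw [Subgroup.mem_centralizer_iff]
    rintro _ ⟨τ, hτ, rfl⟩
    exact hab _ (hT' τ hτ) x hx
  have hSylD : Lib.RelSylow.IsSyl 2 P D := by
    refine ⟨hPD, hP.2.1, ?_⟩
    intro hdvd
    apply hP.2.2
    rw [← Subgroup.relIndex_mul_relIndex P D H hPD inf_le_left]
    exact dvd_mul_of_dvd_left hdvd _
  set P' : Subgroup Γ := P.map (MulAut.conj h0).toMonoidHom with hP'
  have hP'D : P' ≤ D := by
    rintro _ ⟨x, hx, rfl⟩
    refine Subgroup.mem_inf.2 ⟨?_, ?_⟩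
    · exact mul_mem (mul_mem hh (hP.1 hx)) (inv_mem hh)
    · rw [Subgroup.mem_centralizer_iff]
      rintro _ ⟨τ, hτ, rfl⟩
      show (h0 * τ * h0⁻¹) * (h0 * x * h0⁻¹) = (h0 * x * h0⁻¹) * (h0 * τ * h0⁻¹)
      calc (h0 * τ * h0⁻¹) * (h0 * x * h0⁻¹) = h0 * (τ * x) * h0⁻¹ := by group
        _ = h0 * (x * τ) * h0⁻¹ := by rw [hab τ (hTP hτ) x hx]
        _ = _ := by group
  obtain ⟨d, hd, hle⟩ := hSylD.exists_conj_le (hP.2.1.map _) hP'D
  have hcard : P' = P.map (MulAut.conj d).toMonoidHom := by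
    apply Subgroup.eq_of_le_of_card_ge hle
    rw [Subgroup.card_map_of_injective (MulAut.conj d).injective,
      Subgroup.card_map_of_injective (MulAut.conj h0).injective]
  have hdH := (Subgroup.mem_inf.1 hd).1
  have hdc := (Subgroup.mem_inf.1 hd).2
  refine ⟨d⁻¹ * h0, Subgroup.mem_inf.2 ⟨mul_mem (inv_mem hdH) hh, ?_⟩, ?_⟩
  · rw [Lib.RelSylow.mem_normalizer_iff_map, ← Lib.RelSylow.conj_conj, ← hP', hcard, Lib.RelSylow.conj_conj,
      inv_mul_cancel, Lib.RelSylow.conj_one]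
  · intro τ hτ
    have h1 := Subgroup.mem_centralizer_iff.1 hdc _ (⟨τ, hτ, rfl⟩ : h0 * τ * h0⁻¹ ∈ (T' : Set Γ))
    calc d⁻¹ * h0 * τ * (d⁻¹ * h0)⁻¹ = d⁻¹ * ((h0 * τ * h0⁻¹) * d) := by group
      _ = d⁻¹ * (d * (h0 * τ * h0⁻¹)) := by rw [h1]
      _ = _ := by group

end Cfsg.Agent.Lib.H53Ree
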