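import Mathlib
import Cfsg.Agent.Lib.H53Ree3

/-!
Groups of Janko–Ree type, part 4: automorphisms of `2`-power order centralizing a Sylow `2`-subgroup are
inner (seat helper53).
-/

set_option autoImplicit false

namespace Cfsg.Agent.Lib.H53Ree

open Subgroup Cfsg.Agent.Lib.H53PSL2
open scoped commutatorElement

variable {G : Type*} [Group G] [Finite G] {F : Type*} [Field F] [Fintype F]

local notation "PSL2" => Matrix.ProjectiveSpecialLinearGroup (Fin 2) F
local notation "SL2" => Matrix.SpecialLinearGroup (Fin 2) F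

variable {t : G} {ι : Matrix.ProjectiveSpecialLinearGroup (Fin 2) F →* G}

theorem conj_mulAut (α : MulAut G) (g : G) : α * MulAut.conj g * α⁻¹ = MulAut.conj (α g) := by
  ext x
  simp [MulAut.mul_apply]

theorem Conf.inner (C : Conf t ι) [hs : IsSimpleGroup (Matrix.ProjectiveSpecialLinearGroup (Fin 2) F)]
    [IsSimpleGroup G] (hG : ¬ IsMulCommutative G) (hmax : IsCoatom (Subgroup.centralizer ({t} : Set G)))
    {a b : F} (h : a ^ 2 + b ^ 2 = -1) (S : Sylow 2 G) (hT : t ∈ (S : Subgroup G))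
    (hI : II ι ∈ (S : Subgroup G)) (hJ : JJ ι h ∈ (S : Subgroup G))
    (φ : MulAut G) (k : ℕ) (hφ : φ ^ 2 ^ k = 1) (hφS : ∀ s ∈ (S : Subgroup G), φ s = s) :
    ∃ g : G, φ = MulAut.conj g := by
  classical
  have : Fact (Nat.Prime 2) := ⟨Nat.prime_two⟩
  have hab := C.ab S
  have hSab : IsMulCommutative (S : Subgroup G) := ⟨⟨fun x y => Subtype.ext (hab x x.2 y y.2)⟩⟩
  obtain ⟨r1, r2, r3, r4, r5, r6, r7, r8, r9, r10, r11, r12⟩ := C.rel h
  have hlist := C.mem_sylow h S hT hI hJ
  have hconj := conj_all hG S hSab t (II ι) (JJ ι h) (WW ι C.h2 h) hT hI hJ C.tt r1 r2 C.t1 r3 r4 r5 r6 r7 r8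
    r9 r10 r11 hlist
  have hcinj : Function.Injective (MulAut.conj : G →* MulAut G) := by
    rw [injective_iff_map_eq_one]
    intro g hg
    have hgc : g ∈ Subgroup.center G := by
      rw [Subgroup.mem_center_iff]
      intro x
      have := congrArg (fun α : MulAut G => α x) hg
      simp only [MulAut.conj_apply, MulAut.one_apply] at this
      calc x * g = (g * x * g⁻¹) * g := by rw [this]
        _ = g * x := by group
    rcases (inferInstance : (Subgroup.center G).Normal).eq_bot_or_eq_top with h1 | h1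
    · rw [h1, Subgroup.mem_bot] at hgc; exact hgc
    · exfalso; apply hG
      refine ⟨⟨fun x y => ?_⟩⟩
      have hy : y ∈ Subgroup.center G := by rw [h1]; exact Subgroup.mem_top y
      exact Subgroup.mem_center_iff.1 hy x
  set Inn : Subgroup (MulAut G) := (MulAut.conj : G →* MulAut G).range with hInn
  have hInnN : Inn.Normal := ⟨fun x hx α => by
    obtain ⟨g, rfl⟩ := hx
    rw [conj_mulAut]; exact ⟨_, rfl⟩⟩
  set H : Subgroup (MulAut G) := Inn ⊔ Subgroup.zpowers φ with hH
  set IS : Subgroup (MulAut G) := (S : Subgroup G).map (MulAut.conj : G →* MulAut G) with hIS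
  have hφc : ∀ s ∈ (S : Subgroup G), φ * MulAut.conj s = MulAut.conj s * φ := by
    intro s hs
    have := conj_mulAut φ s
    rw [hφS s hs] at this
    rw [← mul_inv_eq_iff_eq_mul]; exact this
  have hφH : φ ∈ H := Subgroup.mem_sup_right (Subgroup.mem_zpowers φ)
  have hInnH : Inn ≤ H := le_sup_left
  have hISInn : IS ≤ Inn := by rintro _ ⟨s, _, rfl⟩; exact ⟨s, rfl⟩
  have hQ : IsPGroup 2 (IS ⊔ Subgroup.zpowers φ : Subgroup (MulAut G)) := by
    apply (S.isPGroup'.map _).to_sup_of_normal_right' (isPGroup_zpowers hφ)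
    apply le_trans _ (Subgroup.centralizer_le_normalizer _)
    rintro _ ⟨s, hs, rfl⟩
    rw [Subgroup.mem_centralizer_iff]
    rintro _ ⟨m, rfl⟩
    have : Commute φ (MulAut.conj s) := hφc s hs
    exact (this.zpow_left m).eq
  obtain ⟨P, hQP, hP⟩ := Lib.RelSylow.exists_isSyl_ge hQ (sup_le (hISInn.trans hInnH)
    ((Subgroup.zpowers_le.2 hφH))) (H := H)
  have hISP : IS ≤ P := le_sup_left.trans hQP
  have hφP : φ ∈ P := hQP (Subgroup.mem_sup_right (Subgroup.mem_zpowers φ))
  have hPInn : ∀ x ∈ P, x ∈ Inn → ∃ s ∈ (S : Subgroup G), x = MulAut.conj s := by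
    rintro x hx ⟨g, rfl⟩
    have h1 : IsPGroup 2 (P.comap (MulAut.conj : G →* MulAut G)) := hP.2.1.comap_of_injective _ hcinj
    have h2 : (S : Subgroup G) ≤ P.comap (MulAut.conj : G →* MulAut G) := by
      intro s hs
      exact hISP ⟨s, hs, rfl⟩
    have h3 := S.is_maximal' h1 h2
    refine ⟨g, ?_, rfl⟩
    rw [← h3]; exact hx
  have hHdec : ∀ x ∈ H, ∃ g : G, ∃ m : ℤ, x = MulAut.conj g * φ ^ m := by
    intro x hx
    rw [hH, Subgroup.mem_sup_of_normal_left] at hx
    obtain ⟨_, ⟨g, rfl⟩, _, ⟨m, rfl⟩, rfl⟩ := hx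
    exact ⟨g, m, rfl⟩
  have hPdec : ∀ x ∈ P, ∃ s ∈ (S : Subgroup G), ∃ m : ℤ, x = MulAut.conj s * φ ^ m := by
    intro x hx
    obtain ⟨g, m, hgm⟩ := hHdec x (hP.1 hx)
    have h1 : MulAut.conj g ∈ P := by
      have : MulAut.conj g = x * (φ ^ m)⁻¹ := by rw [hgm]; group
      rw [this]; exact mul_mem hx (inv_mem (zpow_mem hφP m))
    obtain ⟨s, hs, hse⟩ := hPInn _ h1 ⟨g, rfl⟩
    exact ⟨s, hs, m, by rw [hgm, hse]⟩
  have hPab : ∀ x ∈ P, ∀ y ∈ P, x * y = y * x := by
    intro x hx y hy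
    obtain ⟨s, hs, m, rfl⟩ := hPdec x hx
    obtain ⟨s', hs', m', rfl⟩ := hPdec y hy
    have c1 : Commute (MulAut.conj s) (MulAut.conj s') := by
      show MulAut.conj s * MulAut.conj s' = MulAut.conj s' * MulAut.conj s
      rw [← map_mul, ← map_mul, hab s hs s' hs']
    have c2 : Commute φ (MulAut.conj s) := hφc s hs
    have c3 : Commute φ (MulAut.conj s') := hφc s' hs'
    have : Commute (MulAut.conj s * φ ^ m) (MulAut.conj s' * φ ^ m') := by
      apply Commute.mul_left
      · exact c1.mul_right (c2.zpow_left m').symm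
      · exact (c3.zpow_left m).mul_right ((Commute.refl φ).zpow_zpow m m')
    exact this.eq
  have hPabI : IsMulCommutative P := ⟨⟨fun x y => Subtype.ext (hPab x x.2 y y.2)⟩⟩
  -- the complement A
  set N : Subgroup (MulAut G) := H ⊓ Subgroup.normalizer (P : Set (MulAut G)) with hN
  have hPN : P ≤ N := le_inf hP.1 Subgroup.le_normalizer
  have hrel : ¬ 2 ∣ P.relIndex N := by
    intro hdvd
    apply hP.2.2
    rw [← Subgroup.relIndex_mul_relIndex P N H hPN inf_le_left]
    exact dvd_mul_of_dvd_left hdvd _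
  have hPcard : ∃ n, Nat.card P = 2 ^ n := IsPGroup.iff_card.1 hP.2.1
  obtain ⟨n, hn⟩ := hPcard
  have hcop : (Nat.card P).Coprime (P.relIndex N) := by
    rw [hn]; exact Nat.Coprime.pow_left n ((Nat.Prime.coprime_iff_not_dvd Nat.prime_two).2 hrel)
  obtain ⟨A, hAN, hAcard, hPA, hPAN⟩ := Lib.CoprimeAction.exists_complement_rel (N := P) (S := N) inf_le_right
    (by rw [inf_eq_left.2 hPN]; exact hcop)
  rw [inf_eq_left.2 hPN] at hPAN
  have hdec := Lib.CoprimeAction2.sup_commutator_eq_of_abelian (A := A) (V := P) (hAN.trans inf_le_right)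
    (by rw [hAcard]; exact hcop.symm)
  have hPAInn : ⁅P, A⁆ ≤ Inn := by
    rw [Subgroup.commutator_le]
    intro x hx y hy
    obtain ⟨g1, m1, rfl⟩ := hHdec x (hP.1 hx)
    obtain ⟨g2, m2, rfl⟩ := hHdec y ((hAN hy).1)
    rw [← QuotientGroup.eq_one_iff (N := Inn)]
    have e1 : (QuotientGroup.mk (MulAut.conj g1) : MulAut G ⧸ Inn) = 1 := (QuotientGroup.eq_one_iff _).2 ⟨g1, rfl⟩
    have e2 : (QuotientGroup.mk (MulAut.conj g2) : MulAut G ⧸ Inn) = 1 := (QuotientGroup.eq_one_iff _).2 ⟨g2, rfl⟩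
    have e3 : (QuotientGroup.mk ⁅MulAut.conj g1 * φ ^ m1, MulAut.conj g2 * φ ^ m2⁆ : MulAut G ⧸ Inn) =
        ⁅(QuotientGroup.mk (MulAut.conj g1) : MulAut G ⧸ Inn) * QuotientGroup.mk (φ ^ m1),
          (QuotientGroup.mk (MulAut.conj g2) : MulAut G ⧸ Inn) * QuotientGroup.mk (φ ^ m2)⁆ := rfl
    rw [e3, e1, e2, one_mul, one_mul, commutatorElement_eq_one_iff_mul_comm]
    show (QuotientGroup.mk (φ ^ m1 * φ ^ m2) : MulAut G ⧸ Inn) = QuotientGroup.mk (φ ^ m2 * φ ^ m1)
    rw [← zpow_add, ← zpow_add, add_comm]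
  have hPAP : ⁅P, A⁆ ≤ P := by
    conv_rhs => rw [← hdec]
    exact le_sup_right
  have hφdec : φ ∈ (P ⊓ Subgroup.centralizer (A : Set (MulAut G))) ⊔ ⁅P, A⁆ := by rw [hdec]; exact hφP
  obtain ⟨c, hc, u, hu, hcu⟩ := (Lib.SubgroupTools.mem_sup_of_le_normalizer (by
    intro x hx
    apply Subgroup.centralizer_le_normalizer
    rw [Subgroup.mem_centralizer_iff]
    intro y hy
    exact hPab y (Subgroup.mem_inf.1 hy).1 x (hPAP hx))).1 hφdec
  have hcP : c ∈ P := (Subgroup.mem_inf.1 hc).1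
  have hcA := (Subgroup.mem_inf.1 hc).2
  obtain ⟨s0, hs0, rfl⟩ := hPInn u (hPAP hu) (hPAInn hu)
  -- c commutes with N
  have hcN : ∀ n ∈ N, n * c = c * n := by
    have : N ≤ Subgroup.centralizer ({c} : Set (MulAut G)) := by
      rw [← hPAN, sup_le_iff]
      refine ⟨fun x hx => ?_, fun x hx => ?_⟩
      · rw [Subgroup.mem_centralizer_singleton_iff]; exact hPab x hx c hcP
      · rw [Subgroup.mem_centralizer_singleton_iff]; exact Subgroup.mem_centralizer_iff.1 hcA x hx
    intro n hn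
    exact Subgroup.mem_centralizer_singleton_iff.1 (this hn)
  have hcN' : ∀ n ∈ N, ∀ x, n (c x) = c (n x) := by
    intro n hn x
    have := congrArg (fun α : MulAut G => α x) (hcN n hn)
    simpa [MulAut.mul_apply] using this
  have hcS : ∀ s ∈ (S : Subgroup G), c s = s := by
    intro s hs
    have h1 : c = φ * (MulAut.conj s0)⁻¹ := by rw [← hcu]; group
    rw [h1, MulAut.mul_apply, ← map_inv, MulAut.conj_apply, inv_inv]
    have h2 : s0⁻¹ * s * s0 = s := by rw [mul_assoc, hab s hs s0 hs0]; group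
    rw [h2, hφS s hs]
  obtain ⟨k', hk'⟩ := hP.2.1 ⟨c, hcP⟩
  have hck : c ^ 2 ^ k' = 1 := congrArg Subtype.val hk'
  suffices hc1 : c = 1 by
    exact ⟨s0, by rw [← hcu, hc1, one_mul]⟩
  -- c on N = PSL2
  obtain ⟨v, hv, hvc⟩ := C.aut_eq h c (C.aut_stab c (hcS t hT)) k' (fun y => by rw [hck, MulAut.one_apply])
    (hcS _ hI) (hcS _ hJ)
  set W := WW ι C.h2 h with hW
  have hWIJ : W * (II ι * JJ ι h) * W⁻¹ = JJ ι h := by
    calc W * (II ι * JJ ι h) * W⁻¹ = (W * II ι * W⁻¹) * (W * JJ ι h * W⁻¹) := by group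
      _ = II ι * JJ ι h * II ι := by rw [r10, r11]
      _ = JJ ι h * (II ι * II ι) := by rw [← r12]; group
      _ = JJ ι h := by rw [r1, mul_one]
  have hWt : ∀ x, W * (t * x) * W⁻¹ = t * (W * x * W⁻¹) := by
    intro x
    calc W * (t * x) * W⁻¹ = (W * t * W⁻¹) * (W * x * W⁻¹) := by group
      _ = _ := by rw [r9]
  have hIJS : II ι * JJ ι h ∈ (S : Subgroup G) := mul_mem hI hJ
  have hWS : ∀ x ∈ (S : Subgroup G), W * x * W⁻¹ ∈ (S : Subgroup G) := by
    intro x hx
    rcases hlist x hx with rfl | rfl | rfl | rfl | rfl | rfl | rfl | rfl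
    · rw [mul_one, mul_inv_cancel]; exact one_mem _
    · rw [r10]; exact hIJS
    · rw [r11]; exact hI
    · rw [hWIJ]; exact hJ
    · rw [r9]; exact hT
    · rw [hWt, r10]; exact mul_mem hT hIJS
    · rw [hWt, r11]; exact mul_mem hT hI
    · rw [hWt, hWIJ]; exact mul_mem hT hJ
  obtain ⟨n1, hn1, hn1'⟩ := exists_normalizing hP hPab (MulAut.conj W) (hInnH ⟨W, rfl⟩) IS hISP (by
    rintro _ ⟨s, hs, rfl⟩
    rw [← map_inv, ← map_mul, ← map_mul]
    exact hISP ⟨_, hWS s hs, rfl⟩)
  have hn1S : ∀ s ∈ (S : Subgroup G), n1 s = W * s * W⁻¹ := by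
    intro s hs
    apply hcinj
    rw [← conj_mulAut, hn1' _ ⟨s, hs, rfl⟩, map_mul, map_mul, map_inv]
  have hn1t : n1 t = t := by rw [hn1S t hT, r9]
  -- v = 1
  have hvS : ι (QuotientGroup.mk v) ∈ (S : Subgroup G) := by
    rcases hv with rfl | rfl | rfl | rfl
    · rw [iota_mk_one]; exact one_mem _
    · exact hI
    · exact hJ
    · rw [iota_mk_mul]; exact hIJS
  obtain ⟨n1', hn1r⟩ := exists_restrict ι C.inj n1 (C.aut_stab n1 hn1t)
  have hVW : W * ι (QuotientGroup.mk v) * W⁻¹ = ι (QuotientGroup.mk v) := by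
    set V : G := ι (QuotientGroup.mk v) with hV
    set q : PSL2 := (QuotientGroup.mk v)⁻¹ * ((QuotientGroup.mk (qw C.h2 h)) * QuotientGroup.mk v * (QuotientGroup.mk (qw C.h2 h))⁻¹) with hq
    have hιq : ι q = V⁻¹ * (W * V * W⁻¹) := by
      rw [hq, map_mul, map_inv, map_mul, map_mul, map_inv]; rfl
    have hqc : ∀ z, ι q * ι z = ι z * ι q := by
      intro z
      obtain ⟨y, rfl⟩ := n1'.surjective z
      rw [hn1r, hιq]
      have h1 : c (n1 (ι y)) = V * n1 (ι y) * V⁻¹ := by
        rw [← hn1r, hvc]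
      have h2 : n1 (c (ι y)) = (W * V * W⁻¹) * n1 (ι y) * (W * V * W⁻¹)⁻¹ := by
        rw [hvc, map_mul, map_mul, map_inv, hn1S _ hvS]
      rw [hcN' n1 hn1, h1] at h2
      calc V⁻¹ * (W * V * W⁻¹) * n1 (ι y) = V⁻¹ * ((W * V * W⁻¹) * n1 (ι y) * (W * V * W⁻¹)⁻¹) * (W * V * W⁻¹) := by group
        _ = V⁻¹ * (V * n1 (ι y) * V⁻¹) * (W * V * W⁻¹) := by rw [h2]
        _ = n1 (ι y) * (V⁻¹ * (W * V * W⁻¹)) := by group
    rcases C.cent _ (C.comm q).symm hqc with h1 | h1
    · rw [hιq, inv_mul_eq_one] at h1; exact h1.symm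
    · exact absurd h1 (C.nt q)
  have hV1 : ι (QuotientGroup.mk v) = 1 := by
    rcases hv with rfl | rfl | rfl | rfl
    · exact iota_mk_one
    · exfalso
      have : II ι * JJ ι h = II ι := by rw [← r10]; exact hVW
      exact r4 (by simpa using this)
    · exfalso
      have : II ι = JJ ι h := by
        have e : W * JJ ι h * W⁻¹ = JJ ι h := hVW
        rw [r11] at e; exact e
      exact r5 this
    · exfalso
      rw [iota_mk_mul] at hVW
      have e : W * (II ι * JJ ι h) * W⁻¹ = II ι * JJ ι h := hVW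
      rw [hWIJ] at e
      exact r3 (by simpa using e.symm)
  have hcι : ∀ y, c (ι y) = ι y := by
    intro y; rw [hvc, hV1]; group
  have hcC := C.trivial_on_centralizer S hT c hcS hcι
  -- centralizers of the other involutions
  have hcs : ∀ s ∈ (S : Subgroup G), s ≠ 1 → (∀ x, x * s = s * x → c x = x) ∧
      ∃ α : MulAut G, α t = s := by
    intro s hs hs1
    obtain ⟨g, hg⟩ := hconj s hs hs1
    obtain ⟨n2, hn2, hn2'⟩ := exists_normalizing hP hPab (MulAut.conj g) (hInnH ⟨g, rfl⟩)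
      (Subgroup.zpowers (MulAut.conj t)) (by
        rw [Subgroup.zpowers_le]; exact hISP ⟨t, hT, rfl⟩) (by
        rintro _ ⟨m, rfl⟩
        have e : MulAut.conj g * (MulAut.conj t) ^ m * (MulAut.conj g)⁻¹ = (MulAut.conj s) ^ m := by
          rw [← conj_zpow, ← map_inv, ← map_mul, ← map_mul, hg]
        show MulAut.conj g * (MulAut.conj t) ^ m * (MulAut.conj g)⁻¹ ∈ P
        rw [e]
        exact zpow_mem (hISP ⟨s, hs, rfl⟩) m)
    have hn2t : n2 t = s := by
      apply hcinj
      rw [← conj_mulAut, hn2' _ (Subgroup.mem_zpowers _), ← map_inv, ← map_mul, ← map_mul, hg]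
    refine ⟨fun x hx => ?_, n2, hn2t⟩
    have h1 : n2⁻¹ x * t = t * n2⁻¹ x := by
      apply n2.injective
      rw [map_mul, map_mul, MulAut.apply_inv_self, hn2t, hx]
    have h2 := hcC _ h1
    have h3 := hcN' n2 hn2 (n2⁻¹ x)
    rw [h2, MulAut.apply_inv_self] at h3
    exact h3.symm
  -- fixed subgroup
  let Fx : Subgroup G :=
    { carrier := {x | c x = x}
      one_mem' := map_one c
      mul_mem' := by
        intro x y hx hy
        show c (x * y) = x * y
        rw [map_mul, hx, hy]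
      inv_mem' := by
        intro x hx
        show c x⁻¹ = x⁻¹
        rw [map_inv, hx] }
  have hle : Subgroup.centralizer ({t} : Set G) ≤ Fx := fun x hx =>
    hcC x (Subgroup.mem_centralizer_singleton_iff.1 hx)
  rcases hmax.le_iff.1 hle with h1 | h1
  · ext x
    have : x ∈ Fx := by rw [h1]; exact Subgroup.mem_top x
    exact this
  · exfalso
    obtain ⟨hcI, α, hα⟩ := hcs (II ι) hI r3
    have h2 : Subgroup.centralizer ({II ι} : Set G) ≤ Subgroup.centralizer ({t} : Set G) := by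
      rw [← h1]
      intro x hx
      exact hcI x (Subgroup.mem_centralizer_singleton_iff.1 hx)
    have h3 : Nat.card (Subgroup.centralizer ({II ι} : Set G)) = Nat.card (Subgroup.centralizer ({t} : Set G)) := by
      have : Subgroup.centralizer ({II ι} : Set G) = (Subgroup.centralizer ({t} : Set G)).map α.toMonoidHom := by
        ext x
        constructor
        · intro hx
          refine ⟨α⁻¹ x, ?_, MulAut.apply_inv_self G α x⟩
          rw [SetLike.mem_coe, Subgroup.mem_centralizer_singleton_iff]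
          rw [Subgroup.mem_centralizer_singleton_iff] at hx
          apply α.injective
          rw [map_mul, map_mul, MulAut.apply_inv_self, hα, hx]
        · rintro ⟨y, hy, rfl⟩
          rw [SetLike.mem_coe, Subgroup.mem_centralizer_singleton_iff] at hy
          rw [Subgroup.mem_centralizer_singleton_iff]
          show α y * II ι = II ι * α y
          rw [← hα, ← map_mul, hy, map_mul]
      rw [this, Subgroup.card_map_of_injective α.injective]
    have h4 := Subgroup.eq_of_le_of_card_ge h2 h3.ge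
    have h5 : W ∈ Subgroup.centralizer ({II ι} : Set G) := by
      rw [h4, Subgroup.mem_centralizer_singleton_iff]
      exact (C.comm _).symm
    rw [Subgroup.mem_centralizer_singleton_iff] at h5
    have h6 : II ι * JJ ι h = II ι := by
      rw [← r10, h5]; group
    exact r4 (by simpa using h6)

end Cfsg.Agent.Lib.H53Ree
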