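import Mathlib
import Cfsg.Agent.Lib.ReeA
import Cfsg.Agent.Lib.H53Ree2
import Cfsg.Agent.Lib.CoprimeAction
import Cfsg.Agent.S3206
import Cfsg.Agent.Lib.TransferApps

/-!
Abstract small Ree groups, part B: involutions, elements with fixed points (helper18).
-/

set_option autoImplicit false

namespace Cfsg.Agent.Lib.ReeB

open Cfsg.Agent.Lib.ReePSL Cfsg.Agent.Lib.ReeA Cfsg.Agent.Lib.H53Ree Cfsg.Agent.Lib.H53PSL2

/-- `p`-subgroups are conjugate into subgroups of index prime to `p`. -/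
theorem conj_into {G : Type*} [Group G] [Finite G] {p : ℕ} [Fact p.Prime] (T : Subgroup G) (hT : ¬ p ∣ T.index)
    {Q : Subgroup G} (hQ : IsPGroup p Q) : ∃ g : G, ∀ x ∈ Q, g * x * g⁻¹ ∈ T := by
  obtain ⟨P⟩ : Nonempty (Sylow p T) := inferInstance
  have h1 : IsPGroup p ((P : Subgroup T).map T.subtype) := P.isPGroup'.map _
  have h2 : ¬ p ∣ ((P : Subgroup T).map T.subtype).index := by
    rw [Subgroup.index_map_subtype]
    exact Nat.Prime.not_dvd_mul Fact.out P.not_dvd_index hT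
  obtain ⟨S, hS⟩ := hQ.exists_le_sylow
  obtain ⟨g, hg⟩ := MulAction.exists_smul_eq G S (h1.toSylow h2)
  refine ⟨g, fun x hx => ?_⟩
  have h3 : g * x * g⁻¹ ∈ ((g • S : Sylow p G) : Subgroup G) := by
    rw [Sylow.coe_subgroup_smul, Subgroup.mem_pointwise_smul_iff_inv_smul_mem]
    have : (MulAut.conj g)⁻¹ • (g * x * g⁻¹) = x := by
      rw [← map_inv, MulAut.smul_def, MulAut.conj_apply]; group
    show (MulAut.conj g)⁻¹ • (g * x * g⁻¹) ∈ (S : Subgroup G)
    rw [this]; exact hS hx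
  rw [hg] at h3
  obtain ⟨y, -, hy⟩ := h3
  rw [← hy]
  exact y.2

end Cfsg.Agent.Lib.ReeB

namespace Cfsg.Agent.Lib.ReeA.RD

open Cfsg.Agent.Lib.ReePSL Cfsg.Agent.Lib.ReeA Cfsg.Agent.Lib.H53Ree Cfsg.Agent.Lib.H53PSL2 Cfsg.Agent.Lib.ReeB

variable {G : Type*} [Group G] [Finite G] {K : Type*} [Field K] [Fintype K] {m : ℕ} (D : RD G K m)

local notation "q" => Fintype.card K
local notation "PSL2" => Matrix.ProjectiveSpecialLinearGroup (Fin 2) K

theorem charP (D : RD G K m) : CharP K 3 := by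
  obtain ⟨n, hp, hn⟩ := FiniteField.card K (ringChar K)
  have h1 : ringChar K ∣ 3 ^ (2 * m + 1) := by
    rw [← D.hK, hn]; exact dvd_pow_self _ n.ne_zero
  have h2 := (Nat.prime_dvd_prime_iff_eq hp Nat.prime_three).mp (hp.dvd_of_dvd_pow h1)
  rw [← h2]; infer_instance

theorem psl_simple (D : RD G K m) : IsSimpleGroup PSL2 :=
  Cfsg.Agent.S3206.isSimple_psl (by have := D.q_ge; omega)

theorem two_ne (D : RD G K m) : (2 : K) ≠ 0 :=
  Cfsg.Agent.S3206.two_ne (by rw [Nat.odd_iff]; have := D.q_mod; omega)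

/-- the unique involution of `H` -/
theorem exists_i : ∃ i ∈ D.H, i ≠ 1 ∧ i * i = 1 ∧ ∀ j ∈ D.H, j ≠ 1 → j * j = 1 → j = i := by
  haveI := D.cyc
  have h2 : 2 ∣ Nat.card D.H := by rw [D.card_H]; have := D.q_mod; omega
  have : Fact (Nat.Prime 2) := ⟨Nat.prime_two⟩
  obtain ⟨i, hi⟩ := exists_prime_orderOf_dvd_card' 2 h2
  have h1 : i * i = 1 := by rw [← pow_two, ← hi]; exact pow_orderOf_eq_one i
  have h3 : i ≠ 1 := by rintro rfl; simp at hi
  refine ⟨i, i.2, fun h => h3 (Subtype.ext h), congrArg Subtype.val h1, ?_⟩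
  intro j hj hj1 hjj
  have hc : Nat.card (Subgroup.zpowers (⟨j, hj⟩ : D.H)) = Nat.card (Subgroup.zpowers i) := by
    rw [Nat.card_zpowers, Nat.card_zpowers, hi]
    exact orderOf_eq_prime (by rw [pow_two]; exact Subtype.ext hjj) (fun h => hj1 (congrArg Subtype.val h))
  have he := Cfsg.Agent.Lib.TransferApps.cyclic_subgroup_eq_of_card hc
  have h4 : (⟨j, hj⟩ : D.H) ∈ Subgroup.zpowers i := by rw [← he]; exact Subgroup.mem_zpowers _
  obtain ⟨k, hk⟩ := h4
  have hk' : i ^ k = (⟨j, hj⟩ : D.H) := hk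
  rcases Int.even_or_odd k with ⟨l, rfl⟩ | ⟨l, rfl⟩
  · exfalso
    apply hj1
    rw [← two_mul, zpow_mul] at hk'
    have : i ^ (2 : ℤ) = 1 := by rw [zpow_ofNat, pow_two]; exact h1
    rw [this, one_zpow] at hk'
    exact (congrArg Subtype.val hk').symm
  · rw [zpow_add, zpow_mul] at hk'
    have : i ^ (2 : ℤ) = 1 := by rw [zpow_ofNat, pow_two]; exact h1
    rw [this, one_zpow, one_mul, zpow_one] at hk'
    exact (congrArg Subtype.val hk').symm

/-- the involution of `H` -/
noncomputable def i : G := D.exists_i.choose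
theorem i_mem : D.i ∈ D.H := D.exists_i.choose_spec.1
theorem i_ne : D.i ≠ 1 := D.exists_i.choose_spec.2.1
theorem i_sq : D.i * D.i = 1 := D.exists_i.choose_spec.2.2.1
theorem eq_i {j : G} (hj : j ∈ D.H) (h1 : j ≠ 1) (h2 : j * j = 1) : j = D.i :=
  D.exists_i.choose_spec.2.2.2 j hj h1 h2

theorem syl_comm (D : RD G K m) (S : Sylow 2 G) {x y : G} (hx : x ∈ (S : Subgroup G)) (hy : y ∈ (S : Subgroup G)) :
    x * y = y * x := by
  have h1 := (D.syl S).2 x hx
  have h2 := (D.syl S).2 y hy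
  have h3 := (D.syl S).2 (x * y) (mul_mem hx hy)
  have hx' : x⁻¹ = x := inv_eq_of_mul_eq_one_left h1
  have hy' : y⁻¹ = y := inv_eq_of_mul_eq_one_left h2
  have h4 : x * y = (x * y)⁻¹ := (inv_eq_of_mul_eq_one_left h3).symm
  rw [mul_inv_rev, hx', hy'] at h4
  exact h4

/-- A `PSL₂` complement of an involution of `H` in its centralizer. -/
theorem exists_conf {a : G} (ha : a ∈ D.H) (ha1 : a ≠ 1) (haa : a * a = 1) :
    ∃ ι : PSL2 →* G, Conf a ι ∧ ∀ c, c * a = a * c → ∃ y, c = ι y ∨ c = a * ι y := by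
  obtain ⟨e⟩ := D.cent a ha ha1 haa
  haveI := D.psl_simple
  have hac : ∀ c : Subgroup.centralizer ({a} : Set G), (c : G) * a = a * c := fun c =>
    Subgroup.mem_centralizer_singleton_iff.mp c.2
  have hamem : a ∈ Subgroup.centralizer ({a} : Set G) := Subgroup.mem_centralizer_singleton_iff.mpr rfl
  set a' : Subgroup.centralizer ({a} : Set G) := ⟨a, hamem⟩ with ha'
  have hcen : ∀ c, c * a' = a' * c := fun c => Subtype.ext (hac c)
  -- the centre of `PSL₂` is trivial
  have hz : ∀ y0 : PSL2, (∀ y, y * y0 = y0 * y) → y0 = 1 := by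
    intro y0 hy0
    have h1 : y0 ∈ Subgroup.center PSL2 := Subgroup.mem_center_iff.mpr hy0
    rcases (inferInstance : (Subgroup.center PSL2).Normal).eq_bot_or_eq_top with h | h
    · rw [h] at h1; exact h1
    · exfalso
      have hn := mk_qi_ne (F := K)
      obtain ⟨b, c, hbc⟩ := Lib.H53SL2.exists_sum_two_sq (-1 : K)
      have h5 := mk_qw_qi D.two_ne hbc
      have h6 : (QuotientGroup.mk (qi K) : PSL2) ∈ Subgroup.center PSL2 := by rw [h]; trivial
      rw [Subgroup.mem_center_iff] at h6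
      rw [h6, mul_inv_cancel_right] at h5
      have h7 : (QuotientGroup.mk (qj hbc) : PSL2) = 1 := by
        have := mul_left_cancel (a := (QuotientGroup.mk (qi K) : PSL2)) (h5.symm.trans (mul_one _).symm)
        exact this
      exact mk_qj_ne D.two_ne hbc h7
  have he2 : (e a').2 = 1 := by
    apply hz
    intro y
    have := hcen (e.symm (1, y))
    have h1 := congrArg (fun c => (e c).2) this
    simpa using h1
  have he1 : (e a').1 ≠ 1 := by
    intro h
    apply ha1
    have : e a' = 1 := Prod.ext h he2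
    have := (MulEquiv.map_eq_one_iff e).mp this
    exact congrArg Subtype.val this
  have hz2 : ∀ c : Multiplicative (ZMod 2), c = 1 ∨ c = (e a').1 := by
    intro c
    have key : ∀ a b : Multiplicative (ZMod 2), a ≠ 1 → b = 1 ∨ b = a := by decide
    exact key _ _ he1
  set ι : PSL2 →* G := ((Subgroup.centralizer ({a} : Set G)).subtype.comp e.symm.toMonoidHom).comp
    (MonoidHom.inr (Multiplicative (ZMod 2)) PSL2) with hι
  have hιe : ∀ y, ι y = (e.symm (1, y) : G) := fun y => rfl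
  have hcov : ∀ c, c * a = a * c → ∃ y, c = ι y ∨ c = a * ι y := by
    intro c hc
    set c' : Subgroup.centralizer ({a} : Set G) := ⟨c, Subgroup.mem_centralizer_singleton_iff.mpr hc⟩ with hc'
    refine ⟨(e c').2, ?_⟩
    rcases hz2 (e c').1 with h | h
    · left
      rw [hιe]
      have : e.symm (1, (e c').2) = c' := by
        rw [MulEquiv.symm_apply_eq]; exact Prod.ext h.symm rfl
      rw [this]
    · right
      rw [hιe]
      have : a' * e.symm (1, (e c').2) = c' := by
        apply e.injective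
        rw [map_mul, MulEquiv.apply_symm_apply]
        apply Prod.ext
        · show (e a').1 * 1 = (e c').1
          rw [mul_one, h]
        · show (e a').2 * (e c').2 = (e c').2
          rw [he2, one_mul]
      exact (congrArg Subtype.val this).symm
  have hcomm : ∀ y, a * ι y = ι y * a := fun y => (hac (e.symm (1, y))).symm
  have hinj : Function.Injective ι := by
    intro x y hxy
    have h1 : e.symm (1, x) = e.symm (1, y) := Subtype.ext hxy
    exact congrArg Prod.snd (e.symm.injective h1)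
  have hnt : ∀ y, ι y ≠ a := by
    intro y hy
    have h1 : e.symm (1, y) = a' := Subtype.ext hy
    rw [MulEquiv.symm_apply_eq] at h1
    exact he1 (congrArg Prod.fst h1).symm
  refine ⟨ι, ?_, hcov⟩
  refine
    { ab := fun S x hx y hy => D.syl_comm S hx hy
      tt := haa
      t1 := ha1
      inj := hinj
      comm := hcomm
      norm := ?_
      cent := ?_
      nt := hnt
      h2 := D.two_ne }
  · intro c hc y
    obtain ⟨x, hx | hx⟩ := hcov c hc
    · exact ⟨x * y * x⁻¹, by rw [hx, map_mul, map_mul, map_inv]⟩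
    · refine ⟨x * y * x⁻¹, ?_⟩
      rw [hx, map_mul, map_mul, map_inv, mul_inv_rev, hcomm x]
      have := hcomm y
      calc ι x * a * ι y * ((ι x)⁻¹ * a⁻¹) = ι x * (a * ι y) * (ι x)⁻¹ * a⁻¹ := by group
        _ = ι x * ι y * (a * (ι x)⁻¹) * a⁻¹ := by rw [this]; group
        _ = ι x * ι y * ((ι x)⁻¹ * a) * a⁻¹ := by rw [← map_inv, hcomm x⁻¹]
        _ = _ := by group
  · intro c hc hcy
    obtain ⟨x, hx | hx⟩ := hcov c hc
    · left
      rw [hx, hz x, map_one]
      intro y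
      apply hinj
      rw [map_mul, map_mul, ← hx]
      exact (hcy y).symm
    · right
      rw [hx, hz x, map_one, mul_one]
      intro y
      apply hinj
      rw [map_mul, map_mul]
      have h1 := hcy y
      rw [hx, mul_assoc, ← mul_assoc (ι y), ← hcomm y, mul_assoc a] at h1
      exact (mul_left_cancel h1).symm

/-- All involutions are conjugate. -/
theorem inv_conj {t : G} (ht1 : t ≠ 1) (htt : t * t = 1) : ∃ g : G, g * D.i * g⁻¹ = t := by
  classical
  haveI : Fact (Nat.Prime 2) := ⟨Nat.prime_two⟩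
  obtain ⟨ι, C, -⟩ := D.exists_conf D.i_mem D.i_ne D.i_sq
  haveI := D.simple
  obtain ⟨a, b, h⟩ := Lib.H53SL2.exists_sum_two_sq (-1 : K)
  obtain ⟨S, hT, hI, hJ⟩ := C.exists_sylow h
  have hSab : IsMulCommutative (S : Subgroup G) :=
    ⟨⟨fun x y => Subtype.ext (D.syl_comm S x.2 y.2)⟩⟩
  obtain ⟨r1, r2, r3, r4, r5, r6, r7, r8, r9, r10, r11, r12⟩ := C.rel h
  have hlist := C.mem_sylow h S hT hI hJ
  have hconj := conj_all D.ncomm S hSab D.i (II ι) (JJ ι h) (WW ι C.h2 h) hT hI hJ C.tt r1 r2 C.t1 r3 r4 r5 r6 r7 r8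
    r9 r10 r11 hlist
  have h1 : IsPGroup 2 (Subgroup.zpowers t) := isPGroup_zpowers (k := 1) (by rw [pow_one, pow_two]; exact htt)
  obtain ⟨S', hS'⟩ := h1.exists_le_sylow
  obtain ⟨g, hg⟩ := MulAction.exists_smul_eq G S' S
  have h2 : g * t * g⁻¹ ∈ (S : Subgroup G) := by
    rw [← hg, Lib.H32Basic.mem_sylow_smul_iff]
    have : g⁻¹ * (g * t * g⁻¹) * g = t := by group
    rw [this]; exact hS' (Subgroup.mem_zpowers t)
  obtain ⟨k, hk⟩ := hconj _ h2 (by
    intro h
    apply ht1
    have : t = g⁻¹ * (g * t * g⁻¹) * g := by group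
    rw [this, h]; group)
  refine ⟨g⁻¹ * k, ?_⟩
  have : g⁻¹ * k * D.i * (g⁻¹ * k)⁻¹ = g⁻¹ * (k * D.i * k⁻¹) * g := by group
  rw [this, hk]; group

end Cfsg.Agent.Lib.ReeA.RD
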