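import Mathlib
import Cfsg.Agent.Lib.ReeB

/-!
Abstract small Ree groups, part C: fixed points (helper18).
-/

set_option autoImplicit false

namespace Cfsg.Agent.Lib.ReeA.RD

open Cfsg.Agent.Lib.ReePSL Cfsg.Agent.Lib.ReeA Cfsg.Agent.Lib.H53Ree Cfsg.Agent.Lib.H53PSL2 Cfsg.Agent.Lib.ReeB

variable {G : Type*} [Group G] [Finite G] {K : Type*} [Field K] [Fintype K] {m : ℕ} (D : RD G K m)

local notation "q" => Fintype.card K
local notation "PSL2" => Matrix.ProjectiveSpecialLinearGroup (Fin 2) K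

theorem card_PSL (D : RD G K m) : 2 * Nat.card PSL2 = q * (q ^ 2 - 1) := by
  have h1 := Cfsg.Agent.Lib.MobCount.card_P2 (F := K) rfl
  have h2 : Nat.gcd 2 (q - 1) = 2 := Nat.gcd_eq_left (by have := D.q_mod; omega)
  rw [h2] at h1; exact h1

/-- a `PSL₂` complement for every involution -/
theorem exists_conf' (D : RD G K m) {t : G} (ht1 : t ≠ 1) (htt : t * t = 1) :
    ∃ ι : PSL2 →* G, Conf t ι ∧ ∀ c, c * t = t * c → ∃ y, c = ι y ∨ c = t * ι y := by
  obtain ⟨g, rfl⟩ := D.inv_conj ht1 htt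
  obtain ⟨ι, C, hc⟩ := D.exists_conf D.i_mem D.i_ne D.i_sq
  have key : ∀ c : G, c * (g * D.i * g⁻¹) = (g * D.i * g⁻¹) * c → (g⁻¹ * c * g) * D.i = D.i * (g⁻¹ * c * g) := by
    intro c hc
    calc (g⁻¹ * c * g) * D.i = g⁻¹ * (c * (g * D.i * g⁻¹)) * g := by group
      _ = g⁻¹ * ((g * D.i * g⁻¹) * c) * g := by rw [hc]
      _ = _ := by group
  refine ⟨(MulAut.conj g).toMonoidHom.comp ι, ?_, ?_⟩
  · refine
      { ab := C.ab
        tt := htt
        t1 := ht1
        inj := fun x y hxy => C.inj ((MulAut.conj g).injective hxy)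
        comm := ?_
        norm := ?_
        cent := ?_
        nt := ?_
        h2 := C.h2 }
    · intro y
      show g * D.i * g⁻¹ * (g * ι y * g⁻¹) = g * ι y * g⁻¹ * (g * D.i * g⁻¹)
      have := C.comm y
      calc g * D.i * g⁻¹ * (g * ι y * g⁻¹) = g * (D.i * ι y) * g⁻¹ := by group
        _ = g * (ι y * D.i) * g⁻¹ := by rw [this]
        _ = _ := by group
    · intro c hc y
      obtain ⟨z, hz⟩ := C.norm (g⁻¹ * c * g) (key c hc) y
      refine ⟨z, ?_⟩
      show c * (g * ι y * g⁻¹) * c⁻¹ = g * ι z * g⁻¹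
      rw [← hz]; group
    · intro c hc hy
      rcases C.cent (g⁻¹ * c * g) (key c hc) (by
        intro y
        have h1 : c * (g * ι y * g⁻¹) = (g * ι y * g⁻¹) * c := hy y
        calc g⁻¹ * c * g * ι y = g⁻¹ * (c * (g * ι y * g⁻¹)) * g := by group
          _ = g⁻¹ * ((g * ι y * g⁻¹) * c) * g := by rw [h1]
          _ = _ := by group) with h | h
      · left
        have : c = g * (g⁻¹ * c * g) * g⁻¹ := by group
        rw [this, h]; group
      · right
        have : c = g * (g⁻¹ * c * g) * g⁻¹ := by group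
        rw [this, h]
    · intro y hy
      have h1 : g * ι y * g⁻¹ = g * D.i * g⁻¹ := hy
      exact C.nt y (mul_left_cancel (mul_right_cancel h1))
  · intro c hcc
    obtain ⟨y, h | h⟩ := hc _ (key c hcc)
    · refine ⟨y, Or.inl ?_⟩
      show c = g * ι y * g⁻¹
      rw [← h]; group
    · refine ⟨y, Or.inr ?_⟩
      show c = g * D.i * g⁻¹ * (g * ι y * g⁻¹)
      have : g * D.i * g⁻¹ * (g * ι y * g⁻¹) = g * (D.i * ι y) * g⁻¹ := by group
      rw [this, ← h]; group

/-- centralizer orders of involutions -/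
theorem card_cent (D : RD G K m) {t : G} (ht1 : t ≠ 1) (htt : t * t = 1) :
    Nat.card (Subgroup.centralizer ({t} : Set G)) = q * (q ^ 2 - 1) := by
  obtain ⟨ι, C, hc⟩ := D.exists_conf' ht1 htt
  have hm : ∀ y, ι y ∈ Subgroup.centralizer ({t} : Set G) := fun y =>
    Subgroup.mem_centralizer_singleton_iff.mpr (C.comm y).symm
  have hm2 : ∀ y, t * ι y ∈ Subgroup.centralizer ({t} : Set G) := fun y =>
    mul_mem (Subgroup.mem_centralizer_singleton_iff.mpr rfl) (hm y)
  let f : PSL2 ⊕ PSL2 → Subgroup.centralizer ({t} : Set G) :=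
    Sum.elim (fun y => ⟨ι y, hm y⟩) (fun y => ⟨t * ι y, hm2 y⟩)
  have hf : Function.Bijective f := by
    constructor
    · rintro (x | x) (y | y) hxy
      · exact congrArg _ (C.inj (congrArg Subtype.val hxy))
      · exfalso
        have h1 : ι x = t * ι y := congrArg Subtype.val hxy
        apply C.nt (x * y⁻¹)
        rw [map_mul, map_inv, h1, mul_inv_cancel_right]
      · exfalso
        have h1 : t * ι x = ι y := congrArg Subtype.val hxy
        apply C.nt (y * x⁻¹)
        rw [map_mul, map_inv, ← h1, mul_inv_cancel_right]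
      · have h1 : t * ι x = t * ι y := congrArg Subtype.val hxy
        exact congrArg _ (C.inj (mul_left_cancel h1))
    · rintro ⟨c, hcc⟩
      obtain ⟨y, h | h⟩ := hc c (Subgroup.mem_centralizer_singleton_iff.mp hcc)
      · exact ⟨Sum.inl y, Subtype.ext h.symm⟩
      · exact ⟨Sum.inr y, Subtype.ext h.symm⟩
  rw [← Nat.card_congr (Equiv.ofBijective f hf), Nat.card_sum, ← two_mul, D.card_PSL]

/-- `3`-elements are conjugate into `U`. -/
theorem three_conj {Q : Subgroup G} (hQ : IsPGroup 3 Q) : ∃ g : G, ∀ x ∈ Q, g * x * g⁻¹ ∈ D.U := by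
  haveI : Fact (Nat.Prime 3) := ⟨Nat.prime_three⟩
  refine conj_into D.U ?_ hQ
  have h1 := Subgroup.card_mul_index D.U
  rw [D.card_U, D.card_G, mul_assoc] at h1
  have h0 : 0 < q ^ 3 := by have := D.q_ge; positivity
  have h2 := Nat.eq_of_mul_eq_mul_left h0 h1
  rw [h2]
  refine Nat.Prime.not_dvd_mul Nat.prime_three D.three_not_dvd_sub ?_
  intro h
  have h3 : 3 ∣ q ^ 3 := dvd_pow D.dvd_q (by norm_num)
  have := (Nat.dvd_add_right h3).mp h
  norm_num at this

theorem ord_three {u : G} (hu : IsPGroup 3 (Subgroup.zpowers u)) : ∃ k, orderOf u = 3 ^ k := by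
  haveI : Fact (Nat.Prime 3) := ⟨Nat.prime_three⟩
  obtain ⟨k, hk⟩ := IsPGroup.iff_card.mp hu
  exact ⟨k, by rw [← hk, Nat.card_zpowers]⟩

/-- conjugating two fixed points to the base points -/
theorem conj_H {g : G} {x y : G ⧸ D.B} (hxy : x ≠ y) (hx : g • x = x) (hy : g • y = y) :
    ∃ a : G, a • D.o = x ∧ a • D.z = y ∧ a⁻¹ * g * a ∈ D.H := by
  obtain ⟨a, rfl, rfl⟩ := D.two_trans hxy
  refine ⟨a, rfl, rfl, D.stab2.mp ⟨?_, ?_⟩⟩
  · rw [mul_smul, mul_smul, hx, inv_smul_smul]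
  · rw [mul_smul, mul_smul, hy, inv_smul_smul]

theorem orderOf_conj_inv (a g : G) : orderOf (a⁻¹ * g * a) = orderOf g := by
  have := (MulAut.conj a⁻¹).orderOf_eq g
  rwa [MulAut.conj_apply, inv_inv] at this

theorem orderOf_of_two {g : G} {x y : G ⧸ D.B} (hxy : x ≠ y) (hx : g • x = x) (hy : g • y = y) :
    orderOf g ∣ q - 1 := by
  obtain ⟨a, -, -, ha⟩ := D.conj_H hxy hx hy
  rw [← orderOf_conj_inv a g]
  exact D.orderOf_H ha

theorem three_uniq {u : G} (hu1 : u ≠ 1) (hu : IsPGroup 3 (Subgroup.zpowers u)) {x y : G ⧸ D.B}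
    (hx : u • x = x) (hy : u • y = y) : x = y := by
  by_contra hxy
  have h1 := D.orderOf_of_two hxy hx hy
  obtain ⟨k, hk⟩ := ord_three hu
  rw [hk] at h1
  have h2 : k = 0 := by
    by_contra hk0
    exact D.three_not_dvd_sub ((dvd_pow_self 3 hk0).trans h1)
  rw [h2, pow_zero, orderOf_eq_one_iff] at hk
  exact hu1 hk

theorem three_fix {Q : Subgroup G} (hQ : IsPGroup 3 Q) : ∃ x : G ⧸ D.B, ∀ u ∈ Q, u • x = x := by
  obtain ⟨g, hg⟩ := D.three_conj hQ
  refine ⟨g⁻¹ • D.o, fun u hu => ?_⟩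
  have h1 := D.smul_o.mpr (D.hUB (hg u hu))
  have : u • g⁻¹ • D.o = g⁻¹ • ((g * u * g⁻¹) • D.o) := by
    rw [← mul_smul, ← mul_smul]; congr 1; group
  rw [this, h1]

/-- An element commuting with a non-trivial `3`-element fixes its fixed point. -/
theorem comm_fix {u g : G} (hu1 : u ≠ 1) (hu : IsPGroup 3 (Subgroup.zpowers u)) (hc : g * u = u * g) {x : G ⧸ D.B}
    (hx : u • x = x) : g • x = x := by
  apply D.three_uniq hu1 hu _ hx
  rw [← mul_smul, ← hc, mul_smul, hx]

theorem isPGroup_of_mem {p : ℕ} {Q : Subgroup G} (hQ : IsPGroup p Q) {u : G} (hu : u ∈ Q) : IsPGroup p (Subgroup.zpowers u) :=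
  hQ.to_le ((Subgroup.zpowers_le).mpr hu)

/-- an element of `3'`-order with a fixed point has two fixed points -/
theorem exists_second {g : G} (hg : ¬ 3 ∣ orderOf g) {x : G ⧸ D.B} (hx : g • x = x) : ∃ y, y ≠ x ∧ g • y = y := by
  obtain ⟨a, rfl⟩ := QuotientGroup.mk_surjective x
  have ha : (QuotientGroup.mk a : G ⧸ D.B) = a • D.o := by
    unfold o
    show _ = (QuotientGroup.mk (a * 1) : G ⧸ D.B)
    rw [mul_one]
  rw [ha] at hx ⊢
  set h := a⁻¹ * g * a with hh
  have h1 : h • D.o = D.o := by rw [hh, mul_smul, mul_smul, hx, inv_smul_smul]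
  have hB : h ∈ D.B := D.smul_o.mp h1
  have ho : orderOf h = orderOf g := orderOf_conj_inv a g
  have hU : Subgroup.zpowers h ≤ Subgroup.normalizer (D.U : Set G) := by
    rw [Subgroup.zpowers_le, Subgroup.mem_normalizer_iff]
    intro u
    constructor
    · exact fun hu => D.nU h hB u hu
    · intro hu
      have := D.nU h⁻¹ (inv_mem hB) _ hu
      have e : h⁻¹ * (h * u * h⁻¹) * h⁻¹⁻¹ = u := by group
      rwa [e] at this
  have hcop : (Nat.card (Subgroup.zpowers h)).Coprime (Nat.card D.U) := by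
    rw [Nat.card_zpowers, ho, D.card_U, D.hK, ← pow_mul]
    exact (Nat.Coprime.pow_left _ ((Nat.Prime.coprime_iff_not_dvd Nat.prime_three).mpr hg)).symm
  obtain ⟨k, hk, hk2⟩ := Cfsg.Agent.Lib.CoprimeAction.exists_fixed_point (X := G ⧸ D.B) hU hcop
    (Or.inl inferInstance) D.z (by
      intro b hb
      have hbB : b ∈ D.B := (Subgroup.zpowers_le.mpr hB) hb
      have hne : b • D.z ≠ D.o := by
        intro he
        have : b⁻¹ • (b • D.z) = b⁻¹ • D.o := by rw [he]
        rw [inv_smul_smul, D.smul_o.mpr (inv_mem hbB)] at this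
        exact D.o_ne_z this.symm
      obtain ⟨u, hu, hu2⟩ := D.exists_u hne
      exact ⟨u, hu, hu2.symm⟩)
  refine ⟨a • (k • D.z), ?_, ?_⟩
  · intro he
    have h2 := smul_left_cancel a he
    have : k⁻¹ • (k • D.z) = k⁻¹ • D.o := by rw [h2]
    rw [inv_smul_smul, D.smul_o.mpr (inv_mem (D.hUB hk))] at this
    exact D.o_ne_z this.symm
  · have h3 := hk2 h (Subgroup.mem_zpowers h)
    have : g • a • k • D.z = a • (h • (k • D.z)) := by
      rw [hh, ← mul_smul, ← mul_smul, ← mul_smul, ← mul_smul]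
      congr 1; group
    rw [this, h3]

end Cfsg.Agent.Lib.ReeA.RD
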