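import Cfsg.Agent.S1159
import Cfsg.Agent.Lib.ReeC

/-!
# A group isospectral to the direct cube of a small Ree group (helper26)
-/

set_option autoImplicit false

namespace Cfsg.Agent.Lib.H26ReeCube

open Subgroup

local notation "SL2" => Matrix.SpecialLinearGroup (Fin 2)
local notation "PSL2" => Matrix.ProjectiveSpecialLinearGroup (Fin 2)
local notation "M2" => Matrix (Fin 2) (Fin 2)

/-- if `x` centralises no non-trivial element of the kernel then `x` and `π x` have the same order -/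
theorem orderOf_eq_of_no_fixed {X Q : Type*} [Group X] [Group Q] (π : X →* Q) (x : X)
    (h : ∀ w ∈ π.ker, x * w = w * x → w = 1) : orderOf x = orderOf (π x) := by
  refine Nat.dvd_antisymm ?_ (orderOf_map_dvd π x)
  refine orderOf_dvd_of_pow_eq_one (h _ ?_ ?_)
  · rw [MonoidHom.mem_ker, map_pow, pow_orderOf_eq_one]
  · rw [← pow_succ, ← pow_succ']

section action

variable {K : Type*} [Field K] [CharP K 3] (A : Type*) [CommRing A] [Algebra K A]

/-- base change -/
def up : SL2 K →* M2 A where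
  toFun g := (algebraMap K A).mapMatrix (g : M2 K)
  map_one' := by rw [Matrix.SpecialLinearGroup.coe_one, map_one]
  map_mul' g h := by rw [Matrix.SpecialLinearGroup.coe_mul, map_mul]

/-- Frobenius and base change -/
def tw : SL2 K →* M2 A :=
  (up A).comp (Matrix.SpecialLinearGroup.map (frobenius K 3))

/-- the action of a sign and an element of `SL₂` -/
def act0 (e : ℤˣ × SL2 K) : MulAut (Multiplicative (M2 A)) :=
    { toFun := fun M => Multiplicative.ofAdd ((e.1 : ℤ) • (up A e.2 * M.toAdd * tw A e.2⁻¹))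
      invFun := fun M => Multiplicative.ofAdd ((e.1 : ℤ) • (up A e.2⁻¹ * M.toAdd * tw A e.2))
      left_inv := fun M => by
        show Multiplicative.ofAdd ((e.1 : ℤ) • (up A e.2⁻¹ * ((e.1 : ℤ) • (up A e.2 * M.toAdd * tw A e.2⁻¹)) * tw A e.2)) = M
        rw [mul_smul_comm, smul_mul_assoc, smul_smul, ← mul_assoc, ← mul_assoc, ← map_mul, inv_mul_cancel, map_one, one_mul,
          mul_assoc, ← map_mul, inv_mul_cancel, map_one, mul_one, ← Units.val_mul, Int.units_mul_self, Units.val_one,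
          one_smul]
        rfl
      right_inv := fun M => by
        show Multiplicative.ofAdd ((e.1 : ℤ) • (up A e.2 * ((e.1 : ℤ) • (up A e.2⁻¹ * M.toAdd * tw A e.2)) * tw A e.2⁻¹)) = M
        rw [mul_smul_comm, smul_mul_assoc, smul_smul, ← mul_assoc, ← mul_assoc, ← map_mul, mul_inv_cancel, map_one, one_mul,
          mul_assoc, ← map_mul, mul_inv_cancel, map_one, mul_one, ← Units.val_mul, Int.units_mul_self, Units.val_one,
          one_smul]
        rfl
      map_mul' := fun M N => by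
        show Multiplicative.ofAdd ((e.1 : ℤ) • (up A e.2 * (M.toAdd + N.toAdd) * tw A e.2⁻¹)) =
          Multiplicative.ofAdd ((e.1 : ℤ) • (up A e.2 * M.toAdd * tw A e.2⁻¹) + (e.1 : ℤ) • (up A e.2 * N.toAdd * tw A e.2⁻¹))
        rw [mul_add, add_mul, smul_add] }

/-- the action of `{± 1} × SL₂` -/
def act : ℤˣ × SL2 K →* MulAut (Multiplicative (M2 A)) where
  toFun := act0 A
  map_one' := by
    ext1 M
    show Multiplicative.ofAdd (((1 : ℤˣ) : ℤ) • (up A (1 : SL2 K) * M.toAdd * tw A (1 : SL2 K)⁻¹)) = M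
    rw [inv_one, map_one, map_one, one_mul, mul_one, Units.val_one, one_smul]
    rfl
  map_mul' g h := by
    ext1 M
    show Multiplicative.ofAdd (((g.1 * h.1 : ℤˣ) : ℤ) • (up A (g.2 * h.2) * M.toAdd * tw A (g.2 * h.2)⁻¹)) =
      Multiplicative.ofAdd ((g.1 : ℤ) • (up A g.2 * ((h.1 : ℤ) • (up A h.2 * M.toAdd * tw A h.2⁻¹)) * tw A g.2⁻¹))
    rw [mul_inv_rev, map_mul, map_mul, Units.val_mul, mul_smul_comm, smul_mul_assoc, smul_smul]
    simp only [mul_assoc]

theorem act_apply (e : ℤˣ × SL2 K) (M : Multiplicative (M2 A)) :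
    act A e M = Multiplicative.ofAdd ((e.1 : ℤ) • (up A e.2 * M.toAdd * tw A e.2⁻¹)) := rfl

theorem up_neg_one : up A (-1 : SL2 K) = -1 := by
  show (algebraMap K A).mapMatrix ((-1 : SL2 K) : M2 K) = -1
  rw [Matrix.SpecialLinearGroup.coe_neg, Matrix.SpecialLinearGroup.coe_one, map_neg, map_one]

theorem tw_neg_one : tw A (-1 : SL2 K) = -1 := by
  have : Matrix.SpecialLinearGroup.map (n := Fin 2) (frobenius K 3) (-1) = -1 := by
    ext i j
    simp
    fin_cases i <;> fin_cases j <;> simp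
  show up A _ = _
  rw [this, up_neg_one]

omit [CharP K 3] in
theorem center_cases {g : SL2 K} (hg : g ∈ center (SL2 K)) : g = 1 ∨ g = -1 := by
  rw [Matrix.SpecialLinearGroup.mem_center_iff] at hg
  obtain ⟨r, hr, h⟩ := hg
  rw [Fintype.card_fin] at hr
  rw [sq, mul_self_eq_one_iff] at hr
  rcases hr with h1 | h1
  · left
    apply Subtype.ext
    rw [← h, h1, map_one]; rfl
  · right
    apply Subtype.ext
    rw [← h, h1, map_neg, map_one, Matrix.SpecialLinearGroup.coe_neg, Matrix.SpecialLinearGroup.coe_one]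

theorem act_center {g : SL2 K} (hg : g ∈ center (SL2 K)) : act A (1, g) = 1 := by
  rcases center_cases hg with rfl | rfl
  · exact map_one _
  · ext1 M
    rw [act_apply]
    have : ((-1 : SL2 K))⁻¹ = -1 := by rw [inv_eq_iff_mul_eq_one]; simp
    simp only [this, up_neg_one, tw_neg_one]
    simp

/-- the action of `{± 1} × PSL₂` -/
noncomputable def actP : ℤˣ × PSL2 K →* MulAut (Multiplicative (M2 A)) :=
  MonoidHom.noncommCoprod ((act A).comp (MonoidHom.inl ℤˣ (SL2 K)))
    (QuotientGroup.lift (center (SL2 K)) ((act A).comp (MonoidHom.inr ℤˣ (SL2 K))) (fun g hg => act_center A hg))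
    (fun e g => by
      obtain ⟨g, rfl⟩ := QuotientGroup.mk_surjective g
      show act A (e, 1) * act A (1, g) = act A (1, g) * act A (e, 1)
      rw [← map_mul, ← map_mul]
      simp)

theorem actP_mk (e : ℤˣ) (g : SL2 K) : actP A (e, (QuotientGroup.mk g : PSL2 K)) = act A (e, g) := by
  show act A (e, 1) * act A (1, g) = _
  rw [← map_mul]
  simp

/-- the semidirect product -/
abbrev XX (K : Type*) [Field K] [CharP K 3] (A : Type*) [CommRing A] [Algebra K A] :=
  Multiplicative (M2 A) ⋊[actP (K := K) A] (ℤˣ × PSL2 K)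

omit [CharP K 3] in
theorem ch (g : SL2 K) : (g : M2 K) * (g : M2 K) = (g 0 0 + g 1 1) • (g : M2 K) - 1 := by
  have hd : g 0 0 * g 1 1 - g 0 1 * g 1 0 = 1 := by rw [← Matrix.det_fin_two]; exact g.2
  ext i j
  fin_cases i <;> fin_cases j <;> simp [Matrix.mul_apply, Fin.sum_univ_two]
  · linear_combination (-1 : K) * hd
  · ring
  · ring
  · linear_combination (-1 : K) * hd

omit [CharP K 3] in
theorem up_sq (g : SL2 K) : up A g * up A g = (g 0 0 + g 1 1) • up A g - 1 := by
  show (algebraMap K A).mapMatrix (g : M2 K) * (algebraMap K A).mapMatrix (g : M2 K) = _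
  rw [← map_mul, ch, map_sub, map_one]
  congr 1
  ext i j
  show algebraMap K A ((g 0 0 + g 1 1) * g i j) = (g 0 0 + g 1 1) • algebraMap K A (g i j)
  rw [map_mul, Algebra.smul_def]

theorem tw_sq (g : SL2 K) : tw A g * tw A g = ((g 0 0 + g 1 1) ^ 3) • tw A g - 1 := by
  have := up_sq A (Matrix.SpecialLinearGroup.map (frobenius K 3) g)
  have e : (Matrix.SpecialLinearGroup.map (frobenius K 3) g) 0 0 + (Matrix.SpecialLinearGroup.map (frobenius K 3) g) 1 1 =
      (g 0 0 + g 1 1) ^ 3 := by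
    rw [← frobenius_def, map_add]; rfl
  rw [e] at this
  exact this

variable {A} in
theorem fixed {e : ℤˣ} {g : SL2 K} {M : Multiplicative (M2 A)} (h : act A (e, g) M = M) (hM : M ≠ 1) :
    ((e : ℤ) : K) * (g 0 0 + g 1 1) ^ 3 = g 0 0 + g 1 1 := by
  by_contra hne
  apply hM
  set a := g 0 0 + g 1 1 with ha
  set N : M2 A := M.toAdd with hN
  have h1 : (e : ℤ) • (up A g * N * tw A g⁻¹) = N := congrArg Multiplicative.toAdd h
  have h2 : (e : ℤ) • (up A g * N) = N * tw A g := by
    conv_rhs => rw [← h1]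
    rw [smul_mul_assoc, mul_assoc, ← map_mul, inv_mul_cancel, map_one, mul_one]
  have he : (e : ℤ) * (e : ℤ) = 1 := by rw [← Units.val_mul, Int.units_mul_self, Units.val_one]
  have h3 : N * tw A g * tw A g = up A g * up A g * N := by
    rw [← h2, smul_mul_assoc, mul_assoc, ← h2, mul_smul_comm, smul_smul, he, one_smul, mul_assoc]
  rw [mul_assoc, tw_sq, up_sq, mul_sub, sub_mul, mul_one, one_mul, sub_left_inj, mul_smul_comm, smul_mul_assoc, ← h2,
    ← Int.cast_smul_eq_zsmul K, smul_smul] at h3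
  have h4 : (a ^ 3 * ((e : ℤ) : K) - a) • (up A g * N) = 0 := by rw [sub_smul, h3, sub_self]
  have h5 : a ^ 3 * ((e : ℤ) : K) - a ≠ 0 := fun h6 => hne (by linear_combination h6)
  have h6 : up A g * N = 0 := by
    have := congrArg (fun X => (a ^ 3 * ((e : ℤ) : K) - a)⁻¹ • X) h4
    simp only [smul_smul, inv_mul_cancel₀ h5, one_smul, smul_zero] at this
    exact this
  have h7 : N = 0 := by
    have : up A g⁻¹ * (up A g * N) = N := by rw [← mul_assoc, ← map_mul, inv_mul_cancel, map_one, one_mul]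
    rw [← this, h6, mul_zero]
  exact h7

theorem cube_eq_one (M : Multiplicative (M2 A)) (hA : (3 : A) = 0) : M ^ 3 = 1 := by
  show Multiplicative.ofAdd (3 • M.toAdd) = Multiplicative.ofAdd 0
  congr 1
  rw [← Nat.cast_smul_eq_nsmul A, Nat.cast_ofNat, hA, zero_smul]

omit [CharP K 3] in
theorem mk_neg_one : (QuotientGroup.mk (-1 : SL2 K) : PSL2 K) = 1 := by
  rw [QuotientGroup.eq_one_iff, Matrix.SpecialLinearGroup.mem_center_iff]
  exact ⟨-1, by simp, by rw [map_neg, map_one, Matrix.SpecialLinearGroup.coe_neg, Matrix.SpecialLinearGroup.coe_one]⟩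

omit [CharP K 3] in
theorem sl_sq {g : SL2 K} (ha : g 0 0 + g 1 1 = 0) : g * g = -1 := by
  apply Subtype.ext
  rw [Matrix.SpecialLinearGroup.coe_mul, ch, ha]
  simp

omit [CharP K 3] in
theorem sl_cube {g : SL2 K} (ha : (g 0 0 + g 1 1) ^ 2 = 1) : g * g * g = 1 ∨ g * g * g = -1 := by
  have h1 : (g : M2 K) * (g : M2 K) * (g : M2 K) = -((g 0 0 + g 1 1) • (1 : M2 K)) := by
    rw [ch, sub_mul, smul_mul_assoc, ch, one_mul, smul_sub, smul_smul, ← sq, ha, one_smul]
    abel
  rw [sq, mul_self_eq_one_iff] at ha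
  rcases ha with h | h
  · right
    apply Subtype.ext
    rw [Matrix.SpecialLinearGroup.coe_mul, Matrix.SpecialLinearGroup.coe_mul, h1, h]
    simp
  · left
    apply Subtype.ext
    rw [Matrix.SpecialLinearGroup.coe_mul, Matrix.SpecialLinearGroup.coe_mul, h1, h]
    simp

variable {A} in
theorem orders [Fintype K] (hq : Fintype.card K % 4 = 3) (x : XX K A) :
    orderOf x = orderOf x.right ∨ orderOf x ∣ 6 ∨ orderOf x ∣ 9 := by
  have h3 : (3 : K) = 0 := by exact_mod_cast CharP.cast_eq_zero K 3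
  have hA : (3 : A) = 0 := by
    have := congrArg (algebraMap K A) h3
    rwa [map_ofNat, map_zero] at this
  have hker : ∀ w : XX K A, w.right = 1 → w ^ 3 = 1 := by
    intro w hw
    obtain ⟨w', rfl⟩ : ∃ w', w = SemidirectProduct.inl w' := ⟨w.left, by ext1 <;> simp [hw]⟩
    rw [← map_pow, cube_eq_one A w' hA, map_one]
  by_cases h : ∀ w, actP A x.right w = w → w = 1
  · left
    refine orderOf_eq_of_no_fixed SemidirectProduct.rightHom x ?_
    intro w hw hc
    have hw' : w.right = 1 := hw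
    obtain ⟨w', rfl⟩ : ∃ w', w = SemidirectProduct.inl w' := ⟨w.left, by ext1 <;> simp [hw']⟩
    have h1 := congrArg SemidirectProduct.left hc
    simp only [SemidirectProduct.mul_left, SemidirectProduct.left_inl, SemidirectProduct.right_inl, map_one,
      MulAut.one_apply] at h1
    rw [mul_comm w'] at h1
    rw [h w' (mul_left_cancel h1), map_one]
  · right
    push Not at h
    obtain ⟨w, hw, hw1⟩ := h
    obtain ⟨e, g, hx⟩ : ∃ (e : ℤˣ) (g : SL2 K), x.right = (e, (QuotientGroup.mk g : PSL2 K)) := by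
      obtain ⟨g, hg⟩ := QuotientGroup.mk_surjective x.right.2
      exact ⟨x.right.1, g, by rw [hg]⟩
    rw [hx, actP_mk] at hw
    have h1 := fixed hw hw1
    by_cases ha : g 0 0 + g 1 1 = 0
    · left
      have h2 := sl_sq ha
      have h4 : (x ^ 2).right = 1 := by
        rw [sq, SemidirectProduct.mul_right, hx, Prod.mk_mul_mk, Int.units_mul_self, ← QuotientGroup.mk_mul, h2, mk_neg_one]
        rfl
      apply orderOf_dvd_of_pow_eq_one
      have := hker _ h4
      rwa [← pow_mul] at this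
    · right
      have h2 : ((e : ℤ) : K) * (g 0 0 + g 1 1) ^ 2 = 1 := by
        apply mul_right_cancel₀ ha
        rw [one_mul]; linear_combination h1
      have h4 : e = 1 := by
        rcases Int.units_eq_one_or e with h | h
        · exact h
        · exfalso
          rw [h] at h2
          have : IsSquare (-1 : K) := ⟨g 0 0 + g 1 1, by push_cast at h2; linear_combination h2⟩
          rw [FiniteField.isSquare_neg_one_iff] at this
          exact this hq
      rw [h4, Units.val_one, Int.cast_one, one_mul] at h2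
      have h5 : (x ^ 3).right = 1 := by
        rw [pow_succ, sq, SemidirectProduct.mul_right, SemidirectProduct.mul_right, hx, h4, Prod.mk_mul_mk, Prod.mk_mul_mk,
          ← QuotientGroup.mk_mul, ← QuotientGroup.mk_mul]
        rcases sl_cube h2 with h | h
        · rw [h]; rfl
        · rw [h, mk_neg_one]; rfl
      apply orderOf_dvd_of_pow_eq_one
      have := hker _ h5
      rwa [← pow_mul] at this

/-- the transvection -/
def tv (t : K) : SL2 K := ⟨!![1, t; 0, 1], by simp⟩

omit [CharP K 3] in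
theorem tv_mul (s t : K) : tv s * tv t = tv (s + t) := by
  apply Subtype.ext
  rw [Matrix.SpecialLinearGroup.coe_mul]
  ext i j
  fin_cases i <;> fin_cases j <;> simp [tv, Matrix.mul_apply, Fin.sum_univ_two, add_comm]

omit [CharP K 3] in
theorem tv_zero : tv (0 : K) = 1 := by
  apply Subtype.ext
  ext i j
  fin_cases i <;> fin_cases j <;> simp [tv]

omit [CharP K 3] in
theorem tv_inv (t : K) : (tv t)⁻¹ = tv (-t) := by
  rw [inv_eq_iff_mul_eq_one, tv_mul, add_neg_cancel, tv_zero]

theorem map_tv (t : K) : Matrix.SpecialLinearGroup.map (frobenius K 3) (tv t) = tv (t ^ 3) := by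
  apply Subtype.ext
  rw [Matrix.SpecialLinearGroup.map_apply_coe]
  ext i j
  fin_cases i <;> fin_cases j <;> simp [tv, frobenius_def]

omit [CharP K 3] in
theorem up_tv (t : K) : up A (tv t) = !![1, algebraMap K A t; 0, 1] := by
  show (algebraMap K A).mapMatrix _ = _
  ext i j
  fin_cases i <;> fin_cases j <;> simp [tv]

theorem tw_tv (t : K) : tw A (tv t) = !![1, algebraMap K A (t ^ 3); 0, 1] := by
  show up A _ = _
  rw [map_tv, up_tv]

/-- an element of order 9 -/
theorem exists_nine [Nontrivial A] : ∃ x : XX K A, orderOf x = 9 := by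
  have h3 : (3 : K) = 0 := by exact_mod_cast CharP.cast_eq_zero K 3
  have hA : (3 : A) = 0 := by
    have := congrArg (algebraMap K A) h3
    rwa [map_ofNat, map_zero] at this
  let M : Multiplicative (M2 A) := Multiplicative.ofAdd !![0, 0; 1, 0]
  let x : XX K A := ⟨M, (1, (QuotientGroup.mk (tv 1) : PSL2 K))⟩
  have hr : (x ^ 3).right = 1 := by
    rw [pow_succ, sq, SemidirectProduct.mul_right, SemidirectProduct.mul_right]
    show ((1 : ℤˣ), (QuotientGroup.mk (tv 1) : PSL2 K)) * (1, (QuotientGroup.mk (tv 1) : PSL2 K)) *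
      (1, (QuotientGroup.mk (tv 1) : PSL2 K)) = 1
    rw [Prod.mk_mul_mk, Prod.mk_mul_mk, ← QuotientGroup.mk_mul, ← QuotientGroup.mk_mul, tv_mul, tv_mul,
      show (1 : K) + 1 + 1 = 0 by linear_combination h3, tv_zero]
    rfl
  have hl : (x ^ 3).left ≠ 1 := by
    rw [pow_succ, sq, SemidirectProduct.mul_left, SemidirectProduct.mul_left, SemidirectProduct.mul_right]
    show M * actP A (1, (QuotientGroup.mk (tv 1) : PSL2 K)) M * actP A ((1, (QuotientGroup.mk (tv 1) : PSL2 K)) *
      (1, (QuotientGroup.mk (tv 1) : PSL2 K))) M ≠ 1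
    rw [Prod.mk_mul_mk, ← QuotientGroup.mk_mul, tv_mul, actP_mk, mul_one, actP_mk, act_apply, act_apply]
    intro h
    have h1 := congrArg Multiplicative.toAdd h
    rw [tv_inv, tv_inv, up_tv, tw_tv, up_tv, tw_tv] at h1
    have h2 := congrFun (congrFun h1 0) 1
    simp [M, Matrix.mul_apply, Fin.sum_univ_two] at h2
    exact one_ne_zero (α := A) (by linear_combination h2 + 6 * hA)
  refine ⟨x, ?_⟩
  have h9 : x ^ 9 = 1 := by
    have : (x ^ 3) = SemidirectProduct.inl (x ^ 3).left := by ext1 <;> simp [hr]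
    rw [show 9 = 3 * 3 from rfl, pow_mul, this, ← map_pow, cube_eq_one A _ hA, map_one]
  have hp : Fact (Nat.Prime 3) := ⟨Nat.prime_three⟩
  have := orderOf_eq_prime_pow (p := 3) (n := 1) (x := x) (by
    rw [pow_one]; intro h; apply hl; rw [h]; rfl) (by rw [show 3 ^ (1 + 1) = 9 from rfl]; exact h9)
  rw [this]; rfl

end action

section spectrum

variable {R X : Type*} [Group R] [Group X]

theorem orderOf_triple {A B C : Type*} [Group A] [Group B] [Group C] (a : A) (b : B) (c : C) :
    orderOf (a, b, c) = (orderOf a).lcm ((orderOf b).lcm (orderOf c)) := by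
  rw [Prod.orderOf_mk, Prod.orderOf_mk]

theorem spectrum_eq {D E : ℕ} (hX : ∀ x : X, ∃ r : R, orderOf r = orderOf x)
    (hR : ∀ r : R, (∃ x : X, orderOf x = orderOf r) ∨ orderOf r ∣ D ∨ orderOf r ∣ E)
    (hD : ∀ d, d ∣ D → ∃ r : R, orderOf r = d) (hE : ∀ d, d ∣ E → ∃ r : R, orderOf r = d) :
    Set.range (orderOf : R × R × X → ℕ) = Set.range (orderOf : R × R × R → ℕ) := by
  ext n
  constructor
  · rintro ⟨⟨a, b, x⟩, rfl⟩
    obtain ⟨c, hc⟩ := hX x
    exact ⟨(a, b, c), by rw [orderOf_triple, orderOf_triple, hc]⟩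
  · rintro ⟨⟨a, b, c⟩, rfl⟩
    rw [orderOf_triple]
    have key : ∀ u v w : R, (∃ r : R, orderOf r = (orderOf u).lcm (orderOf v)) →
        (orderOf u).lcm ((orderOf v).lcm (orderOf w)) ∈ Set.range (orderOf : R × R × X → ℕ) := by
      rintro u v w ⟨r, hr⟩
      refine ⟨(r, w, 1), ?_⟩
      rw [orderOf_triple, hr, orderOf_one, Nat.lcm_one_right, Nat.lcm_assoc]
    rcases hR c with ⟨x, hx⟩ | hc
    · exact ⟨(a, b, x), by rw [orderOf_triple, hx]⟩
    rcases hR b with ⟨x, hx⟩ | hb
    · exact ⟨(a, c, x), by rw [orderOf_triple, hx, Nat.lcm_comm (orderOf c)]⟩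
    rcases hR a with ⟨x, hx⟩ | ha
    · exact ⟨(b, c, x), by rw [orderOf_triple, hx, ← Nat.lcm_assoc, Nat.lcm_comm]⟩
    have hab : ∀ {Z : ℕ} {u v : R}, (∀ d, d ∣ Z → ∃ r : R, orderOf r = d) → orderOf u ∣ Z → orderOf v ∣ Z →
      ∃ r : R, orderOf r = (orderOf u).lcm (orderOf v) := fun h h1 h2 => h _ (Nat.lcm_dvd h1 h2)
    have s1 : (∃ r : R, orderOf r = (orderOf a).lcm (orderOf b)) ∨ (∃ r : R, orderOf r = (orderOf a).lcm (orderOf c)) ∨
        (∃ r : R, orderOf r = (orderOf b).lcm (orderOf c)) := by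
      rcases ha with ha | ha <;> rcases hb with hb | hb <;> rcases hc with hc | hc
      · exact Or.inl (hab hD ha hb)
      · exact Or.inl (hab hD ha hb)
      · exact Or.inr (Or.inl (hab hD ha hc))
      · exact Or.inr (Or.inr (hab hE hb hc))
      · exact Or.inr (Or.inr (hab hD hb hc))
      · exact Or.inr (Or.inl (hab hE ha hc))
      · exact Or.inl (hab hE ha hb)
      · exact Or.inl (hab hE ha hb)
    rcases s1 with h | h | h
    · exact key a b c h
    · rw [Nat.lcm_comm (orderOf b)]; exact key a c b h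
    · rw [← Nat.lcm_assoc, Nat.lcm_comm ((orderOf a).lcm (orderOf b)), Nat.lcm_comm (orderOf a), ← Nat.lcm_assoc,
        Nat.lcm_comm (orderOf c), Nat.lcm_assoc, Nat.lcm_comm (orderOf c)]
      have := key b c a h
      rwa [Nat.lcm_comm (orderOf c)] at this

end spectrum

section ree

open Cfsg.Lie

variable {K : Type*} [Field K] [Fintype K] {m : ℕ}

theorem exists_even {G : Type*} [Group G] [Finite G] (D : ReeA.RD G K m) {n : ℕ} (hn : 2 ∣ n) (hn0 : n ≠ 0) {g : G}
    (hg : orderOf g = n) : ∃ y : ℤˣ × PSL2 K, orderOf y = n := by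
  obtain ⟨k, rfl⟩ := hn
  have hk : k ≠ 0 := by rintro rfl; simp at hn0
  have ht1 : g ^ k ≠ 1 := by
    intro h
    have := orderOf_dvd_of_pow_eq_one h
    rw [hg] at this
    have := Nat.le_of_dvd (by omega) this
    omega
  have htt : g ^ k * g ^ k = 1 := by rw [← pow_add, ← two_mul, ← hg, pow_orderOf_eq_one]
  obtain ⟨a, ha⟩ := D.inv_conj ht1 htt
  obtain ⟨e⟩ := D.cent D.i D.i_mem D.i_ne D.i_sq
  have hc : a⁻¹ * g * a ∈ centralizer ({D.i} : Set G) := by
    rw [mem_centralizer_singleton_iff]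
    have h1 : D.i = a⁻¹ * g ^ k * a := by rw [← ha]; group
    rw [h1]
    calc a⁻¹ * g * a * (a⁻¹ * g ^ k * a) = a⁻¹ * (g * g ^ k) * a := by group
      _ = a⁻¹ * (g ^ k * g) * a := by rw [← pow_succ, ← pow_succ']
      _ = _ := by group
  have e2 : Multiplicative (ZMod 2) ≃* ℤˣ := mulEquivOfPrimeCardEq (p := 2) (by simp) (by simp)
  refine ⟨(e2.prodCongr (MulEquiv.refl _)) (e ⟨_, hc⟩), ?_⟩
  rw [MulEquiv.orderOf_eq, MulEquiv.orderOf_eq, ← orderOf_submonoid, ← hg]
  exact ReeA.RD.orderOf_conj_inv a g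

theorem exists_of_right {G : Type*} [Group G] [Finite G] (D : ReeA.RD G K m) (y : ℤˣ × PSL2 K) :
    ∃ g : G, orderOf g = orderOf y := by
  obtain ⟨e⟩ := D.cent D.i D.i_mem D.i_ne D.i_sq
  have e2 : Multiplicative (ZMod 2) ≃* ℤˣ := mulEquivOfPrimeCardEq (p := 2) (by simp) (by simp)
  refine ⟨(e.symm ((e2.prodCongr (MulEquiv.refl _)).symm y) : centralizer ({D.i} : Set G)), ?_⟩
  rw [orderOf_submonoid, MulEquiv.orderOf_eq, MulEquiv.orderOf_eq]

theorem exists_dvd {G : Type*} [Group G] {n d : ℕ} (hn : n ≠ 0) (hd : d ∣ n) (h : ∃ g : G, orderOf g = n) :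
    ∃ g : G, orderOf g = d := by
  obtain ⟨g, hg⟩ := h
  obtain ⟨k, rfl⟩ := hd
  refine ⟨g ^ k, ?_⟩
  have hk : k ≠ 0 := by rintro rfl; simp at hn
  rw [orderOf_pow_of_dvd hk (by rw [hg]; exact Dvd.intro_left d rfl), hg, Nat.mul_div_cancel _ (Nat.pos_of_ne_zero hk)]

theorem spectrum_ree (hm : 1 ≤ m) (hK : Fintype.card K = 3 ^ (2 * m + 1)) [CharP K 3] (A : Type*) [CommRing A]
    [Algebra K A] [Nontrivial A] :
    Set.range (orderOf : ↥(twistedG2 K (3 ^ m)) × ↥(twistedG2 K (3 ^ m)) × XX K A → ℕ) =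
    Set.range (orderOf : ↥(twistedG2 K (3 ^ m)) × ↥(twistedG2 K (3 ^ m)) × ↥(twistedG2 K (3 ^ m)) → ℕ) := by
  have D := ReeQ.rd hK hm
  have ho := S1159.result hm hK
  have hq := ReeA.pow_mod m
  have hq27 := ReeA.pow_ge hm
  have hinr : ∀ n, (∃ y : ℤˣ × PSL2 K, orderOf y = n) → ∃ x : XX K A, orderOf x = n := by
    rintro n ⟨y, rfl⟩
    exact ⟨SemidirectProduct.inr y, orderOf_injective SemidirectProduct.inr SemidirectProduct.inr_injective y⟩
  have hev : ∀ n, 2 ∣ n → n ≠ 0 → (∃ g : ↥(twistedG2 K (3 ^ m)), orderOf g = n) → ∃ x : XX K A, orderOf x = n := by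
    rintro n h1 h2 ⟨g, hg⟩
    exact hinr _ (exists_even D h1 h2 hg)
  refine spectrum_eq (D := 3 ^ (2 * m + 1) - 3 ^ (m + 1) + 1) (E := 3 ^ (2 * m + 1) + 3 ^ (m + 1) + 1) ?_ ?_ ?_ ?_
  · intro x
    rcases orders (by rw [hK]; omega) x with h | h | h
    · rw [h]; exact exists_of_right D _
    · exact (ho _).2 (Or.inl h)
    · exact (ho _).2 (Or.inr (Or.inl h))
  · intro r
    rcases (ho (orderOf r)).1 ⟨r, rfl⟩ with h | h | h | h | h | h
    · left
      exact exists_dvd (by norm_num) h (hev 6 (by norm_num) (by norm_num) ((ho 6).2 (Or.inl dvd_rfl)))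
    · left
      exact exists_dvd (by norm_num) h (exists_nine A)
    · left
      exact exists_dvd (by omega) h (hev _ (by omega) (by omega) ((ho _).2 (Or.inr (Or.inr (Or.inl dvd_rfl)))))
    · left
      exact exists_dvd (by omega) h (hev _ (by omega) (by omega) ((ho _).2 (Or.inr (Or.inr (Or.inr (Or.inl dvd_rfl))))))
    · right; left; exact h
    · right; right; exact h
  · intro d hd
    exact (ho d).2 (by tauto)
  · intro d hd
    exact (ho d).2 (by tauto)

end ree

end Cfsg.Agent.Lib.H26ReeCube
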