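import Cfsg.Agent.Lib.H26SuzW

/-!
# The rank one set-up: the case `W ≠ 1`, end
-/

set_option autoImplicit false
open MulAction

namespace Cfsg.Agent.Lib.H26SuzB1

open Subgroup Cfsg.Agent.Lib.RankOne Cfsg.Agent.Lib.RankOneB Cfsg.Agent.Lib.RankOneC Cfsg.Agent.Lib.H26SuzKD
  Cfsg.Agent.Lib.H26SuzPP Cfsg.Agent.Lib.H26SuzT Cfsg.Agent.Lib.H26SuzS1 Cfsg.Agent.Lib.H26SuzW

universe u v

variable {G : Type u} {Ω : Type v} [Group G] [Finite G] [MulAction G Ω] [FaithfulSMul G Ω] {a : Ω} {t : G} {Q : Subgroup G}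
  (hS : Cfsg.IsRankOneSetup G Ω a t Q)
  (h2 : ∃ x y : G, x ≠ 1 ∧ y ≠ 1 ∧ x ≠ y ∧ x * x = 1 ∧ y * y = 1 ∧ x * y = y * x)

include hS h2

/-- `S \ E` is the union of the `k (r E) k⁻¹` if `|S| = q²` -/
theorem cover {K : Subgroup G} (hK : ∀ x, x ∈ K ↔ x ∈ Cfsg.invertedBy (DD G a t) t) {S : Subgroup G} (hSQ : S ≤ Q)
    (hSn : ∀ h ∈ stabilizer G a, ∀ x ∈ S, h * x * h⁻¹ ∈ S) (hES : EE hS h2 ≤ S) (hcard : Nat.card S = qq Q ^ 2) {r : G}
    (hr : r ∈ S) (hrr : r * r ≠ 1) {x : G} (hx : x ∈ S) (hxE : x ∉ EE hS h2) :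
    ∃ k ∈ K, ∃ e ∈ EE hS h2, x = k * (r * e) * k⁻¹ := by
  classical
  have hKE : ∀ k ∈ K, ∀ x ∈ EE hS h2, k * x * k⁻¹ ∈ EE hS h2 := fun k hk x hx => EE_conj hS h2 ((hK k).1 hk).1.1 hx
  have hfpf : ∀ k ∈ K, k ≠ 1 → ∀ x ∈ Q, k * x = x * k → x = 1 := fun k hk hk1 x hx h => K_fpf hS ((hK k).1 hk) hk1 hx h
  have hKS : ∀ k ∈ K, ∀ x ∈ S, k * x * k⁻¹ ∈ S := fun k hk x hx => hSn k ((hK k).1 hk).1.1 x hx
  have hrE : r ∉ EE hS h2 := fun h => hrr (EE_sq hS h2 h)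
  have hre : ∀ k ∈ K, ∀ e ∈ EE hS h2, k * (r * e) * k⁻¹ ∉ EE hS h2 := by
    intro k hk e he h
    have h6 := hKE k⁻¹ (K.inv_mem hk) _ h
    have e1 : k⁻¹ * (k * (r * e) * k⁻¹) * k⁻¹⁻¹ = r * e := by group
    rw [e1] at h6
    apply hrE
    have := mul_mem h6 (inv_mem he)
    rwa [mul_inv_cancel_right] at this
  let F : K × EE hS h2 → {x : S // ¬ ((x : G) ∈ EE hS h2)} := fun p =>
    ⟨⟨(p.1 : G) * (r * p.2) * (p.1 : G)⁻¹, hKS _ p.1.2 _ (S.mul_mem hr (hES p.2.2))⟩, hre _ p.1.2 _ p.2.2⟩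
  have hFinj : Function.Injective F := by
    rintro ⟨k, e⟩ ⟨k', e'⟩ h
    have h3 : (k : G) * (r * e) * (k : G)⁻¹ = (k' : G) * (r * e') * (k' : G)⁻¹ :=
      congrArg (fun z : {x : S // ¬ ((x : G) ∈ EE hS h2)} => ((z : S) : G)) h
    have h4 : r⁻¹ * (((k' : G)⁻¹ * k) * r * ((k' : G)⁻¹ * k)⁻¹) = e' * (((k' : G)⁻¹ * k) * e * ((k' : G)⁻¹ * k)⁻¹)⁻¹ := by
      have h5 : ((k' : G)⁻¹ * k) * (r * e) * ((k' : G)⁻¹ * k)⁻¹ = r * e' := by
        calc ((k' : G)⁻¹ * k) * (r * e) * ((k' : G)⁻¹ * k)⁻¹ = (k' : G)⁻¹ * ((k : G) * (r * e) * (k : G)⁻¹) * k' := by group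
          _ = _ := by rw [h3]; group
      calc r⁻¹ * (((k' : G)⁻¹ * k) * r * ((k' : G)⁻¹ * k)⁻¹)
          = r⁻¹ * (((k' : G)⁻¹ * k) * (r * e) * ((k' : G)⁻¹ * k)⁻¹) * (((k' : G)⁻¹ * k) * e * ((k' : G)⁻¹ * k)⁻¹)⁻¹ := by group
        _ = _ := by rw [h5]; group
    have hcK : (k' : G)⁻¹ * k ∈ K := K.mul_mem (K.inv_mem k'.2) k.2
    have hkk : k = k' := by
      by_contra hne
      have hc1 : (k' : G)⁻¹ * k ≠ 1 := fun h' => hne (Subtype.ext (inv_mul_eq_one.1 h')).symm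
      have h6 : r⁻¹ * (((k' : G)⁻¹ * k) * r * ((k' : G)⁻¹ * k)⁻¹) ∈ EE hS h2 := by
        rw [h4]; exact mul_mem e'.2 (inv_mem (hKE _ hcK _ e.2))
      exact hrE (fpf_quot (M := EE hS h2) (fun x hx => hKE _ hcK x hx)
        (fun x hx h => hfpf _ hcK hc1 x (EE_le_Q hS h2 hx) h) (EE_le_Q hS h2) (fun x hx h => hfpf _ hcK hc1 x hx h) (hSQ hr) h6)
    subst hkk
    have h7 : (e : G) = e' := by
      have h8 := mul_right_cancel h3
      have h9 := mul_left_cancel h8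
      exact mul_left_cancel h9
    rw [Subtype.ext h7]
  have hFcard : Nat.card (K × EE hS h2) = Nat.card {x : S // ¬ ((x : G) ∈ EE hS h2)} := by
    have h3 := Nat.card_congr (Equiv.sumCompl (fun x : S => (x : G) ∈ EE hS h2))
    rw [Nat.card_sum, hcard] at h3
    have h4 : Nat.card {x : S // (x : G) ∈ EE hS h2} = qq Q := by
      rw [← card_EE hS h2]
      exact Nat.card_congr ⟨fun x => ⟨x.1, x.2⟩, fun x => ⟨⟨x.1, hES x.2⟩, x.2⟩, fun _ => rfl, fun _ => rfl⟩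
    rw [Nat.card_prod, card_EE hS h2]
    rw [h4] at h3
    have h5 := card_K hS hK
    have h6 : Nat.card K * qq Q + qq Q = qq Q ^ 2 := by rw [← h5]; ring
    omega
  obtain ⟨p, hp⟩ := ((Nat.bijective_iff_injective_and_card F).2 ⟨hFinj, hFcard⟩).2 ⟨⟨x, hx⟩, hxE⟩
  have h3 := congrArg (fun z : {x : S // ¬ ((x : G) ∈ EE hS h2)} => ((z : S) : G)) hp
  exact ⟨p.1, p.1.2, p.2, p.2.2, h3.symm⟩

/-- the components in `D` of the elements of `S` lie in `K` -/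
theorem h_mem_K {K : Subgroup G} (hK : ∀ x, x ∈ K ↔ x ∈ Cfsg.invertedBy (DD G a t) t)
    (hKn : ∀ d ∈ DD G a t, ∀ c ∈ K, d * c * d⁻¹ ∈ K) {S : Subgroup G} (hSQ : S ≤ Q)
    (hSn : ∀ h ∈ stabilizer G a, ∀ x ∈ S, h * x * h⁻¹ ∈ S) (hES : EE hS h2 ≤ S) (hcard : Nat.card S = qq Q ^ 2) {s r : G}
    (hs : s ∈ Cfsg.involutionsIn (stabilizer G a : Set G)) (hr : r ∈ S) (hst : t * s * t = r⁻¹ * t * r)
    (hrr : r * r ≠ 1) {x : G} (hx : x ∈ S) (hx1 : x ≠ 1) {g h f : G} (hg : g ∈ Q) (hh : h ∈ DD G a t) (hf : f ∈ Q)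
    (e : t * x * t = g * h * t * f) : h ∈ K := by
  have htt := hS.mul_self
  have hQk : ∀ k ∈ K, ∀ y ∈ Q, k * y * k⁻¹ ∈ Q := fun k hk y hy => hS.conj_mem k ((hK k).1 hk).1.1 y hy
  by_cases hxE : x ∈ EE hS h2
  · have hxi : x ∈ Cfsg.involutionsIn (stabilizer G a : Set G) := hxE.resolve_left hx1
    obtain ⟨k, hk, rfl⟩ := K_conj_surj hS hs hxi
    have hktk : t * k * t = k⁻¹ := ((mem_invertedBy hS).1 hk).2
    rw [conj_can htt hst hktk] at e
    have hkK := (hK k).2 hk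
    obtain ⟨-, h3, -⟩ := can_unique hS (Q.inv_mem (hQk k hkK r (hSQ hr))) hg (mul_mem hk.1 hk.1) hh (hQk k hkK r (hSQ hr)) hf e
    rw [← h3]; exact K.mul_mem hkK hkK
  · obtain ⟨k, hk, e1, he1, rfl⟩ := cover hS h2 hK hSQ hSn hES hcard hr hrr hx hxE
    have hkK := (hK k).1 hk
    have hktk : t * k * t = k⁻¹ := ((mem_invertedBy hS).1 hkK).2
    have htk : t * k = k⁻¹ * t := by rw [← hktk, mul_assoc, htt, mul_one]
    have htki : t * k⁻¹ * t = k := by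
      have h0 := ((mem_invertedBy hS).1 (inv_mem_K hS hkK)).2
      rwa [inv_inv] at h0
    have h4 : t * k⁻¹ = k * t := by nth_rw 2 [← htki]; rw [mul_assoc, htt, mul_one]
    -- canonical form of `r e₁`
    have h3 : t * (r * e1) * t = (k * g * k⁻¹) * (k * h * k) * t * (k * f * k⁻¹) := by
      calc t * (r * e1) * t = (t * k⁻¹) * (k * (r * e1) * k⁻¹) * (k * t) := by group
        _ = (k * t) * (k * (r * e1) * k⁻¹) * (t * k⁻¹) := by rw [h4]
        _ = k * (t * (k * (r * e1) * k⁻¹) * t) * k⁻¹ := by group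
        _ = k * (g * h * t * f) * k⁻¹ := by rw [e]
        _ = k * g * h * (t * k⁻¹) * (k * f * k⁻¹) := by group
        _ = _ := by rw [h4]; group
    have hkhk : k * h * k ∈ K := by
      have hD : k * h * k ∈ DD G a t := mul_mem (mul_mem hkK.1 hh) hkK.1
      by_cases he11 : e1 = 1
      · -- `t r t = r t s`
        have hrt : t * r * t = r * 1 * t * s := by
          have : r * (t * s * t) * t = t * r * t := by rw [hst]; group
          rw [← this]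
          calc r * (t * s * t) * t = r * t * s * (t * t) := by group
            _ = _ := by rw [htt, mul_one, mul_one]
        rw [he11, mul_one, hrt] at h3
        obtain ⟨-, h5, -⟩ := can_unique hS (hSQ hr) (hQk k hk g hg) (one_mem _) hD (mem_Q_of_sq hS hs.1 hs.2.2) (hQk k hk f hf) h3
        rw [← h5]; exact K.one_mem
      · have hei : e1 ∈ Cfsg.involutionsIn (stabilizer G a : Set G) := he1.resolve_left he11
        obtain ⟨c, hc, rfl⟩ := K_conj_surj hS hs hei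
        exact re_mem_K hS hK hKn hs (hSQ hr) hst ((hK c).2 hc) (hQk k hk g hg) hD (hQk k hk f hf) h3
    have : h = k⁻¹ * (k * h * k) * k⁻¹ := by group
    rw [this]
    exact K.mul_mem (K.mul_mem (K.inv_mem hk) hkhk) (K.inv_mem hk)

/-- **the case `W ≠ 1`** -/
theorem B1 (hI : IH.{u, v} (Nat.card G)) {w : G} (hw1 : w ≠ 1) (hw : w ∈ DD G a t) (hwt : w * t = t * w)
    (hwE : ∀ x ∈ EE hS h2, w * x = x * w) : PP t Q := by
  classical
  have hwo : Odd (orderOf w) := OddInv.odd_orderOf_of_mem hS.odd_card hw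
  refine ⟨?_, ?_⟩
  · intro s hs r hr hs1 hss hst hrr
    exfalso
    obtain ⟨k₀, hk₀, hKn, -⟩ := exists_K hS h2
    set K := zpowers k₀ with hKdef
    have hK : ∀ x, x ∈ K ↔ x ∈ Cfsg.invertedBy (DD G a t) t := fun x => by rw [← hk₀]; rfl
    have hsi : s ∈ Cfsg.involutionsIn (stabilizer G a : Set G) := ⟨hS.le hs, hs1, hss⟩
    have hwr : w * r = r * w := (cent_r hS hsi hr hst hw hwt).2
    have hcw : ∀ x, x ∈ centralizer {w} ↔ w * x = x * w := fun x => by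
      rw [mem_centralizer_singleton_iff]; exact eq_comm
    -- `C_Q(w)` has order `q²`
    obtain ⟨s1, hs1', s2, hs2', hne⟩ := exists_two_invol hS h2
    have hPP := PP_cent hS hI hw1 ⟨hw.1, hw.2⟩ hwt (z₁ := s1) (z₂ := s2) (mem_Q_of_sq hS hs1'.1 hs1'.2.2)
      (mem_Q_of_sq hS hs2'.1 hs2'.2.2) hs1'.2.1 hs2'.2.1 hne hs1'.2.2 hs2'.2.2
      (EE_central hS h2 (Or.inr hs1') (mem_Q_of_sq hS hs2'.1 hs2'.2.2)) (hwE s1 (Or.inr hs1')).symm (hwE s2 (Or.inr hs2')).symm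
    have hqq : qq (Q ⊓ centralizer {w}) = qq Q := by
      have e1 : ∀ x : ↥(Q ⊓ centralizer {w}), x * x = 1 → (x : G) * x = 1 := fun x hx => congrArg Subtype.val hx
      have e2 : ∀ x : Q, x * x = 1 → (x : G) * x = 1 := fun x hx => congrArg Subtype.val hx
      refine Nat.card_congr ⟨fun x => ⟨⟨x.1, x.1.2.1⟩, Subtype.ext (e1 _ x.2)⟩,
        fun x => ⟨⟨x.1, x.1.2, (hcw _).2 (hwE _ ((mem_EE_iff hS h2).2 ⟨x.1.2, e2 _ x.2⟩))⟩,
          Subtype.ext (e2 _ x.2)⟩, fun _ => rfl, fun _ => rfl⟩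
    have hTcard : Nat.card ↥(Q ⊓ centralizer {w}) = qq Q ^ 2 := by
      have h3 := hPP.1 s ⟨hs, (hcw s).2 (hwE s (Or.inr hsi))⟩ r ⟨hr, (hcw r).2 hwr⟩ hs1 hss hst hrr
      rw [h3, hqq]
    set T := Q ⊓ centralizer {w} with hTdef
    have hwK : ∀ k ∈ K, w * k = k * w := by
      intro k hk
      have hw' : w ∈ DD G a t ⊓ centralizer (Cfsg.involutionsIn (stabilizer G a : Set G)) :=
        ⟨hw, mem_centralizer_iff.2 fun x hx => (hwE x (Or.inr hx)).symm⟩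
      rw [← CV_K_eq hS] at hw'
      exact (mem_centralizer_iff.1 hw'.2 k ((hK k).1 hk)).symm
    obtain ⟨S, hSm, ⟨m, hm, hcQ⟩, hcase⟩ := exists_S hS h2
    have hSQ : S ≤ Q := fun x hx => ((hSm x).1 hx).1
    have hSn : ∀ h ∈ stabilizer G a, ∀ x ∈ S, h * x * h⁻¹ ∈ S := by
      intro h hh x hx
      obtain ⟨h3, n, hn⟩ := (hSm x).1 hx
      exact (hSm _).2 ⟨hS.conj_mem h hh x h3, n, by rw [conj_pow, hn, mul_one, mul_inv_cancel]⟩
    have hES : EE hS h2 ≤ S := fun x hx => (hSm x).2 ⟨EE_le_Q hS h2 hx, 1, by rw [pow_one, pow_two, EE_sq hS h2 hx]⟩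
    have hTS : T ≤ S := by
      intro x hx
      obtain ⟨n, hn⟩ := exists_pow_q hS h2
      refine (hSm x).2 ⟨hx.1, n * 2, ?_⟩
      have h3 : (⟨x, hx⟩ : T) ^ Nat.card T = 1 := pow_card_eq_one'
      rw [hTcard, hn, ← pow_mul] at h3
      exact congrArg Subtype.val h3
    have hTm : ∀ x, x ∈ T ↔ x ∈ S ∧ w * x = x * w := by
      intro x
      constructor
      · intro hx; exact ⟨hTS hx, (hcw x).1 hx.2⟩
      · intro hx; exact ⟨hSQ hx.1, (hcw x).2 hx.2⟩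
    have hST : S ≤ T := by
      rcases hcase with hab | ⟨-, hsq, hcm, hc | hc⟩
      · intro x hx
        exact (hTm x).2 ⟨hx, fix_of_omega hab (fun x hx => ((hSm x).1 hx).2) hwo (fun x hx => hSn w hw.1 x hx)
          (fun x hx hxx => hwE x ((mem_EE_iff hS h2).2 ⟨hSQ hx, hxx⟩)) x hx⟩
      · have h3 : T = S := eq_of_le_of_card_ge hTS (by rw [hTcard, hc])
        rw [h3]
      · exact (not_cube hS h2 hw hwE hK hwK hSn hSQ (fun x hx => ((hSm x).1 hx).2) hES hsq hcm hc hTm hTcard).elim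
    have hScard : Nat.card S = qq Q ^ 2 := by rw [← hTcard]; exact congrArg (fun H : Subgroup G => Nat.card H) (le_antisymm hST hTS)
    have hrS : r ∈ S := hTS ⟨hr, (hcw r).2 hwr⟩
    have hsS : s ∈ S := hES (Or.inr hsi)
    have L : LData a t Q S K :=
    { hS := hS
      SQ := hSQ
      Sn := fun h hh y hy => hSn h hh y hy
      Kinv := fun k hk => (mem_invertedBy hS).1 ((hK k).1 hk)
      can := by
        intro x hx hx1
        obtain ⟨g, hg, h, hh, f, hf, e⟩ := exists_can hS (hSQ hx) hx1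
        have h3 := can_cent hS hw hwt ((hTm x).1 (hST hx)).2 hg hh hf e
        exact ⟨g, hTS ⟨hg, (hcw g).2 h3.1⟩, h, h_mem_K hS h2 hK hKn hSQ hSn hES hScard hsi hrS hst hrr hx hx1 hg hh hf e,
          f, hTS ⟨hf, (hcw f).2 h3.2⟩, e⟩
      sr := ⟨s, hsS, r, hrS, hs1, hst⟩
      sqrt := by
        intro k hk
        obtain ⟨l, hl, hll, -⟩ := K_sqrt hS ((hK k).1 hk)
        exact ⟨l, (hK l).2 hl, hll⟩ }
    obtain ⟨k1, hk1, hk11⟩ := exists_K_ne_one hS h2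
    have B := L.toBlk ⟨k1, (hK k1).2 hk1, hk11⟩ (by
      intro k hk hk1 x hx hxS
      have hfpf : ∀ x ∈ Q, k * x = x * k → x = 1 := fun x hx h => K_fpf hS ((hK k).1 hk) hk1 hx h
      exact fpf_quot (M := S) (fun x hx => hSn k ((hK k).1 hk).1.1 x hx) (fun x hx h => hfpf x (hSQ hx) h) hSQ hfpf hx hxS)
    have hQS : Q ≤ S := by
      intro x hx
      by_contra hxS
      obtain ⟨A, hSA, hAQ, -, hA, -⟩ := B.exists_subgroup hx hxS
      have h3 : Nat.card A ∣ Nat.card Q := card_dvd_of_le hAQ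
      rw [hA, L.card_LL, hcQ] at h3
      have e1 : Nat.card S * Nat.card K * (Nat.card S + 1) + Nat.card S =
        Nat.card S * (Nat.card K * (Nat.card S + 1) + 1) := by ring
      rw [e1] at h3
      have h4 := Nat.dvd_of_mul_dvd_mul_left Nat.card_pos h3
      have hSe : Even (Nat.card S) := by
        obtain ⟨n, hn⟩ := exists_pow_q hS h2
        have h5 := two_le_pow hS h2
        rw [hScard, hn]
        rw [hn] at h5
        have : n ≠ 0 := by rintro rfl; norm_num at h5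
        exact (Nat.even_pow' (by norm_num)).2 ((Nat.even_pow' this).2 even_two)
      have hKo : Odd (Nat.card K) := by
        refine (odd_D hS).of_dvd_nat (card_dvd_of_le ?_)
        intro x hx
        exact ((hK x).1 hx).1
      have h5 : Even (Nat.card K * (Nat.card S + 1) + 1) := by
        have : Odd (Nat.card K * (Nat.card S + 1)) := hKo.mul (Even.add_one hSe)
        exact Odd.add_one this
      have h6 : 2 ∣ m := (even_iff_two_dvd.1 h5).trans h4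
      exact (Nat.not_even_iff_odd.2 hm) (even_iff_two_dvd.2 h6)
    exact hw1 (eq_one_of_cent hS hw (fun x hx => ((hTm x).1 (hST (hQS hx))).2))
  · intro hcomm hp
    exfalso
    apply hw1
    refine eq_one_of_cent hS hw (fix_of_omega hcomm (fun x hx => ?_) hwo (fun x hx => hS.conj_mem w hw.1 x hx)
      (fun x hx hxx => hwE x ((mem_EE_iff hS h2).2 ⟨hx, hxx⟩)))
    obtain ⟨n, hn⟩ := hp ⟨x, hx⟩
    exact ⟨n, congrArg Subtype.val hn⟩

end Cfsg.Agent.Lib.H26SuzB1
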