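import Cfsg.Agent.Lib.H26SuzF
import Cfsg.Agent.Lib.WielandtFix2
import Cfsg.Agent.Lib.SubgroupTools

/-!
# The rank one set-up: the case `W = 1 ≠ V`
-/

set_option autoImplicit false
open MulAction

namespace Cfsg.Agent.Lib.H26SuzB2

open Subgroup Cfsg.Agent.Lib.RankOne Cfsg.Agent.Lib.RankOneB Cfsg.Agent.Lib.RankOneC Cfsg.Agent.Lib.H26SuzKD
  Cfsg.Agent.Lib.H26SuzPP Cfsg.Agent.Lib.H26SuzT Cfsg.Agent.Lib.H26SuzS1 Cfsg.Agent.Lib.H26SuzW Cfsg.Agent.Lib.H26SuzF

universe u v

theorem lt_arith {x p : ℕ} (hx : 2 ≤ x) (hp : 2 ≤ p) : (x - 1) * p < x ^ p - 1 := by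
  obtain ⟨y, rfl⟩ : ∃ y, x = y + 2 := ⟨x - 2, by omega⟩
  obtain ⟨m, rfl⟩ : ∃ m, p = m + 2 := ⟨p - 2, by omega⟩
  have key : ∀ m : ℕ, (y + 1) * (m + 2) + 2 ≤ (y + 2) ^ (m + 2) := by
    intro m
    induction m with
    | zero =>
      have : (y + 2) ^ (0 + 2) = y * y + 4 * y + 4 := by ring
      rw [this]
      nlinarith
    | succ m ih =>
      have h0 : (y + 2) ^ (m + 1 + 2) = (y + 2) * (y + 2) ^ (m + 2) := by ring
      have h1 : 2 * (y + 2) ^ (m + 2) ≤ (y + 2) * (y + 2) ^ (m + 2) := Nat.mul_le_mul_right _ (by omega)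
      rw [h0]
      nlinarith
  have h1 := key m
  have e : y + 2 - 1 = y + 1 := by omega
  rw [e]
  omega

/-- a prime divisor of `x ^ p - 1` not dividing `x - 1` -/
theorem exists_l {x p : ℕ} (hx : 2 ≤ x) (hxe : Even x) (hp : p.Prime) : ∃ l, l.Prime ∧ l ∣ x ^ p - 1 ∧ ¬ l ∣ x - 1 := by
  by_contra hcon
  push Not at hcon
  have hpos : x ^ p - 1 ≠ 0 := by
    have := lt_arith hx hp.two_le
    omega
  have hd : x ^ p - 1 ∣ (x - 1) * p := by
    rw [← Nat.factorization_prime_le_iff_dvd hpos (Nat.mul_ne_zero (by omega) hp.ne_zero)]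
    intro l hl
    by_cases hlx : l ∣ x ^ p - 1
    · have h1 := hcon l hl hlx
      have hlp : Fact l.Prime := ⟨hl⟩
      have hlo : Odd l := by
        rcases hl.eq_two_or_odd' with h | h
        · exfalso
          rw [h] at h1
          obtain ⟨c, hc⟩ := hxe
          omega
        · exact h
      have hnx : ¬ l ∣ x := by
        intro h
        have h3 : l ∣ x - (x - 1) := Nat.dvd_sub h h1
        have h4 : x - (x - 1) = 1 := by omega
        rw [h4] at h3
        exact hl.one_lt.ne' (Nat.dvd_one.1 h3)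
      have h2 := padicValNat.pow_sub_pow (p := l) hlo (x := x) (y := 1) (by omega) h1 hnx (n := p) hp.ne_zero
      rw [one_pow] at h2
      rw [Nat.factorization_mul (by omega) hp.ne_zero, Finsupp.add_apply, Nat.factorization_def _ hl,
        Nat.factorization_def _ hl, Nat.factorization_def _ hl, h2]
    · rw [Nat.factorization_eq_zero_of_not_dvd hlx]; exact Nat.zero_le _
  have h1 := Nat.le_of_dvd (Nat.mul_pos (by omega) hp.pos) hd
  have := lt_arith hx hp.two_le
  omega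

variable {G : Type u} {Ω : Type v} [Group G] [Finite G] [MulAction G Ω] [FaithfulSMul G Ω] {a : Ω} {t : G} {Q : Subgroup G}
  (hS : Cfsg.IsRankOneSetup G Ω a t Q)
  (h2 : ∃ x y : G, x ≠ 1 ∧ y ≠ 1 ∧ x ≠ y ∧ x * x = 1 ∧ y * y = 1 ∧ x * y = y * x)

/-- a `p`-group of automorphisms has the number of fixed points congruent to the order. -/
theorem modEq {H : Subgroup G} {v : G} {p : ℕ} (hp : p.Prime) (hvp : v ^ p = 1) (hn : ∀ x ∈ H, v * x * v⁻¹ ∈ H) :
    Nat.card H ≡ Nat.card ↥(H ⊓ centralizer {v}) [MOD p] := by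
  classical
  have : Fact p.Prime := ⟨hp⟩
  have hn' : ∀ y ∈ zpowers v, ∀ x ∈ H, y * x * y⁻¹ ∈ H := by
    have hN : ∀ i : ℕ, ∀ x ∈ H, v ^ i * x * (v ^ i)⁻¹ ∈ H := by
      intro i
      induction i with
      | zero => intro x hx; simpa using hx
      | succ i ih =>
        intro x hx
        have e : v ^ (i + 1) * x * (v ^ (i + 1))⁻¹ = v ^ i * (v * x * v⁻¹) * (v ^ i)⁻¹ := by rw [pow_succ]; group
        rw [e]; exact ih _ (hn x hx)
    rintro y hy x hx
    obtain ⟨i, hi⟩ := (mem_powers_iff_mem_zpowers (x := v)).2 hy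
    have hi' : v ^ i = y := hi
    rw [← hi']; exact hN i x hx
  letI : MulAction (zpowers v) H :=
  { smul := fun y x => ⟨(y : G) * x * (y : G)⁻¹, hn' y y.2 x x.2⟩
    one_smul := fun x => Subtype.ext (by show (1 : G) * x * (1 : G)⁻¹ = x; group)
    mul_smul := fun y z x => Subtype.ext (by show ((y : G) * z) * x * ((y : G) * z)⁻¹ = y * (z * x * (z : G)⁻¹) * (y : G)⁻¹; group) }
  have hpg : IsPGroup p (zpowers v) := by
    rintro ⟨y, hy⟩
    obtain ⟨i, rfl⟩ := Subgroup.mem_zpowers_iff.1 hy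
    refine ⟨1, Subtype.ext ?_⟩
    show (v ^ i) ^ p ^ 1 = 1
    rw [pow_one, ← zpow_natCast, ← zpow_mul, mul_comm, zpow_mul, zpow_natCast, hvp, one_zpow]
  have h1 := hpg.card_modEq_card_fixedPoints H
  have h3 : Nat.card (fixedPoints (zpowers v) H) = Nat.card ↥(H ⊓ centralizer {v}) := by
    refine Nat.card_congr ⟨fun x => ⟨x.1, x.1.2, ?_⟩, fun x => ⟨⟨x.1, x.2.1⟩, ?_⟩, fun _ => rfl, fun _ => rfl⟩
    · show (x.1 : G) ∈ centralizer {v}
      rw [mem_centralizer_singleton_iff]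
      have h4 : v * x.1 * v⁻¹ = x.1 := congrArg Subtype.val (x.2 ⟨v, mem_zpowers v⟩)
      nth_rw 1 [← h4]; group
    · rintro ⟨y, hy⟩
      obtain ⟨i, rfl⟩ := Subgroup.mem_zpowers_iff.1 hy
      apply Subtype.ext
      show v ^ i * (x : G) * (v ^ i)⁻¹ = x
      have h4 : Commute v (x : G) := (mem_centralizer_singleton_iff.1 x.2.2).symm
      rw [(h4.zpow_left i).eq, mul_inv_cancel_right]
  rw [← h3]
  exact h1

omit [FaithfulSMul G Ω] in
include hS in
theorem stab_normalizes {x : G} (hx : x ∈ stabilizer G a) : x ∈ normalizer (Q : Set G) := by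
  rw [mem_normalizer_iff]
  intro y
  refine ⟨fun hy => hS.conj_mem x hx y hy, fun hy => ?_⟩
  have := hS.conj_mem x⁻¹ (inv_mem hx) _ hy
  have e : x⁻¹ * (x * y * x⁻¹) * x⁻¹⁻¹ = y := by group
  rwa [e] at this

include hS h2

/-- **Wielandt**: `|H| = |C_H(v)| ^ p` -/
theorem card_eq (hW : ∀ w ∈ DD G a t, w * t = t * w → (∀ x ∈ EE hS h2, w * x = x * w) → w = 1) {v : G} {p : ℕ} (hp : p.Prime)
    (hv1 : v ≠ 1) (hvp : v ^ p = 1) (hv : v ∈ DD G a t) (hvt : v * t = t * v) (hpQ : ¬ p ∣ Nat.card Q) :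
    Nat.card Q = Nat.card ↥(Q ⊓ centralizer {v}) ^ p := by
  classical
  obtain ⟨k₀, hk₀, hKn, -⟩ := exists_K hS h2
  have hK : ∀ x, x ∈ zpowers k₀ ↔ x ∈ Cfsg.invertedBy (DD G a t) t := fun x => by rw [← hk₀]; rfl
  obtain ⟨g, hg, hq, hcC, -⟩ := field hS h2 hW hp hv1 hvp hv hvt hk₀ hKn
  have hg2 : 2 ≤ 2 ^ g := by
    calc 2 = 2 ^ 1 := by norm_num
      _ ≤ 2 ^ g := Nat.pow_le_pow_right (by norm_num) hg
  obtain ⟨l, hl, hlq, hlg⟩ := exists_l hg2 ((Nat.even_pow' hg.ne').2 even_two) hp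
  have hlf : Fact l.Prime := ⟨hl⟩
  have hcK : Nat.card (zpowers k₀) + 1 = qq Q := card_K hS hK
  have hlK : l ∣ Nat.card (zpowers k₀) := by
    have : Nat.card (zpowers k₀) = (2 ^ g) ^ p - 1 := by rw [← hq]; omega
    rw [this]; exact hlq
  obtain ⟨u, hu⟩ := exists_prime_orderOf_dvd_card' (G := zpowers k₀) l hlK
  have hu' : orderOf (u : G) = l := by rw [Subgroup.orderOf_coe]; exact hu
  have hUK : zpowers (u : G) ≤ zpowers k₀ := by rw [zpowers_le]; exact u.2
  have hcU : Nat.card (zpowers (u : G)) = l := by rw [Nat.card_zpowers, hu']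
  have hpf : Fact p.Prime := ⟨hp⟩
  have hvord : orderOf v = p := orderOf_eq_prime hvp hv1
  have hcE : Nat.card (zpowers v) = p := by rw [Nat.card_zpowers, hvord]
  have hVmem : ∀ e ∈ zpowers v, e ∈ DD G a t ∧ e * t = t * e := by
    intro e he
    obtain ⟨i, rfl⟩ := Subgroup.mem_zpowers_iff.1 he
    exact ⟨zpow_mem hv i, ((show Commute v t from hvt).zpow_left i).eq⟩
  have hKV : ∀ x ∈ zpowers k₀, x * t = t * x → x = 1 := by
    intro x hx hxt
    have h3 := ((mem_invertedBy hS).1 ((hK x).1 hx)).2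
    have h4 : t * x * t = x := by rw [← hxt, mul_assoc, hS.mul_self, mul_one]
    rw [h4] at h3
    exact D_sq hS ((hK x).1 hx).1 (by nth_rw 1 [h3]; rw [inv_mul_cancel])
  have hUE : zpowers (u : G) ⊓ zpowers v = ⊥ := by
    rw [eq_bot_iff]
    rintro x ⟨hx1, hx2⟩
    exact mem_bot.2 (hKV x (hUK hx1) (hVmem x hx2).2)
  -- `U` is normalized by `D`
  have hUn : ∀ e ∈ DD G a t, ∀ x ∈ zpowers (u : G), e * x * e⁻¹ ∈ zpowers (u : G) := by
    intro e he x hx
    have h3 : e * x * e⁻¹ ∈ zpowers k₀ := hKn e he x (hUK hx)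
    -- the elements of `K` with `x ^ l = 1`
    have hxl : x ^ l = 1 := by
      have := orderOf_dvd_natCard (⟨x, hx⟩ : zpowers (u : G))
      rw [hcU] at this
      have h4 := orderOf_dvd_iff_pow_eq_one.1 this
      exact congrArg Subtype.val h4
    have h4 : (e * x * e⁻¹) ^ l = 1 := by rw [conj_pow, hxl]; group
    letI : CommGroup (zpowers k₀) := IsCyclic.commGroup
    have h5 : Nat.card {y : zpowers k₀ // y ^ l = 1} = l := by
      have h6 : Nat.card (powMonoidHom l : zpowers k₀ →* zpowers k₀).ker = l := by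
        rw [IsCyclic.card_powMonoidHom_ker (G := zpowers k₀)]; exact Nat.gcd_eq_right hlK
      exact (Nat.card_congr (Equiv.subtypeEquivRight fun y => Iff.rfl)).trans h6
    let F : zpowers (u : G) → {y : zpowers k₀ // y ^ l = 1} := fun y => ⟨⟨y, hUK y.2⟩, by
      apply Subtype.ext
      show (y : G) ^ l = 1
      have := orderOf_dvd_natCard y
      rw [hcU] at this
      exact congrArg Subtype.val (orderOf_dvd_iff_pow_eq_one.1 this)⟩
    have hF : Function.Injective F := by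
      intro y z h
      exact Subtype.ext (congrArg (fun w : {y : zpowers k₀ // y ^ l = 1} => ((w : zpowers k₀) : G)) h)
    obtain ⟨y, hy⟩ := ((Nat.bijective_iff_injective_and_card F).2 ⟨hF, by rw [h5, hcU]⟩).2
      ⟨⟨e * x * e⁻¹, h3⟩, Subtype.ext h4⟩
    have h6 := congrArg (fun w : {y : zpowers k₀ // y ^ l = 1} => ((w : zpowers k₀) : G)) hy
    have h7 : (y : G) = e * x * e⁻¹ := h6
    rw [← h7]; exact y.2
  have hEN : zpowers v ≤ normalizer (zpowers (u : G) : Set G) := by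
    intro e he
    rw [mem_normalizer_iff]
    intro x
    refine ⟨fun hx => hUn e (hVmem e he).1 x hx, fun hx => ?_⟩
    have := hUn e⁻¹ (inv_mem (hVmem e he).1) _ hx
    have e1 : e⁻¹ * (e * x * e⁻¹) * e⁻¹⁻¹ = x := by group
    rwa [e1] at this
  have hcC' : ∀ x ∈ zpowers (u : G), x ≠ 1 → v * x ≠ x * v := by
    intro x hx hx1 hvx
    apply hlg
    have h3 : orderOf x = l := by
      have := orderOf_dvd_natCard (⟨x, hx⟩ : zpowers (u : G))
      rw [hcU, Subgroup.orderOf_mk] at this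
      rcases (Nat.dvd_prime hl).1 this with h | h
      · exact absurd (orderOf_eq_one_iff.1 h) hx1
      · exact h
    let C : Subgroup (zpowers k₀) := (centralizer {v}).subgroupOf (zpowers k₀)
    have hC : Nat.card C = 2 ^ g - 1 := by
      have h4 : Nat.card C = Nat.card {x : zpowers k₀ // v * x = x * v} := by
        refine Nat.card_congr (Equiv.subtypeEquivRight fun x => ?_)
        show (x : G) ∈ centralizer {v} ↔ _
        rw [mem_centralizer_singleton_iff]; exact eq_comm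
      omega
    have h5 : (⟨x, hUK hx⟩ : zpowers k₀) ∈ C := by
      show x ∈ centralizer {v}
      rw [mem_centralizer_singleton_iff]; exact hvx.symm
    have h6 := orderOf_dvd_natCard (⟨_, h5⟩ : C)
    rw [hC, Subgroup.orderOf_mk, Subgroup.orderOf_mk, h3] at h6
    exact h6
  have hgen : ∀ e ∈ zpowers v, e ≠ 1 → ∃ i : ℤ, e ^ i = v := by
    intro e he he1
    have h3 : zpowers (⟨e, he⟩ : zpowers v) = ⊤ := by
      have : Fact (Nat.card (zpowers v)).Prime := ⟨by rw [hcE]; exact hp⟩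
      exact zpowers_eq_top_of_prime_card rfl (fun h => he1 (congrArg Subtype.val h))
    have h4 : (⟨v, mem_zpowers v⟩ : zpowers v) ∈ zpowers (⟨e, he⟩ : zpowers v) := by rw [h3]; exact mem_top _
    obtain ⟨i, hi⟩ := Subgroup.mem_zpowers_iff.1 h4
    exact ⟨i, congrArg Subtype.val hi⟩
  have hQn : zpowers (u : G) ⊔ zpowers v ≤ normalizer (Q : Set G) := by
    refine sup_le ?_ ?_
    · intro x hx
      exact stab_normalizes hS ((hK x).1 (hUK hx)).1.1
    · intro x hx
      exact stab_normalizes hS (hVmem x hx).1.1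
  have hu1 : (u : G) ≠ 1 := by
    intro h
    rw [h, orderOf_one] at hu'
    exact hl.one_lt.ne hu'
  have hlQ : ¬ l ∣ Nat.card Q := by
    intro h
    obtain ⟨x, hx⟩ := exists_prime_orderOf_dvd_card' (G := Q) l h
    have h3 := modEq (H := Q) (v := (u : G)) hl (by rw [← hu', pow_orderOf_eq_one])
      (fun x hx => hS.conj_mem u ((hK _).1 u.2).1.1 x hx)
    have h4 : Q ⊓ centralizer {(u : G)} = ⊥ := by
      rw [eq_bot_iff]
      intro x hx
      exact mem_bot.2 (K_fpf hS ((hK _).1 u.2) hu1 hx.1 (mem_centralizer_singleton_iff.1 hx.2).symm)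
    rw [h4, card_bot] at h3
    have h5 := (Nat.modEq_zero_iff_dvd.2 h).symm.trans h3
    have h6 := (Nat.modEq_iff_dvd' (Nat.zero_le 1)).1 h5
    exact hl.one_lt.ne' (Nat.dvd_one.1 h6)
  have hcop : Nat.Coprime (Nat.card Q) (Nat.card ↥(zpowers (u : G) ⊔ zpowers v)) := by
    rw [SubgroupTools.card_sup_of_disjoint hEN (disjoint_iff.2 hUE), hcU, hcE]
    exact Nat.Coprime.mul_right (Nat.Coprime.symm ((Nat.Prime.coprime_iff_not_dvd hl).2 hlQ))
      (Nat.Coprime.symm ((Nat.Prime.coprime_iff_not_dvd hp).2 hpQ))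
  have hnil := Q_nilpotent hS h2
  have key := WielandtFix.frobenius_wielandt (zpowers (u : G)) (zpowers v) Q hUE
    (fun e he x hx => hUn e (hVmem e he).1 x hx) (by
      intro e he he1 x hx hex
      by_contra hx1
      obtain ⟨i, hi⟩ := hgen e he he1
      apply hcC' x hx hx1
      rw [← hi]
      exact ((show Commute e x from hex).zpow_left i).eq) hQn inferInstance hcop
  have h3 : Q ⊓ centralizer (zpowers (u : G) : Set G) = ⊥ := by
    rw [eq_bot_iff]
    intro x hx
    exact mem_bot.2 (K_fpf hS ((hK _).1 u.2) hu1 hx.1 (mem_centralizer_iff.1 hx.2 u (mem_zpowers _)))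
  have h4 : Q ⊓ centralizer ((zpowers (u : G) ⊔ zpowers v : Subgroup G) : Set G) = ⊥ := by
    rw [eq_bot_iff, ← h3]
    intro x hx
    exact ⟨hx.1, centralizer_le (show (zpowers (u : G) : Set G) ⊆ _ from le_sup_left (a := zpowers (u : G)) (b := zpowers v)) hx.2⟩
  have h5 : Q ⊓ centralizer (zpowers v : Set G) = Q ⊓ centralizer {v} := by
    congr 1
    ext x
    rw [mem_centralizer_iff, mem_centralizer_singleton_iff]
    constructor
    · intro h; exact (h v (mem_zpowers v)).symm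
    · intro h y hy
      obtain ⟨i, rfl⟩ := Subgroup.mem_zpowers_iff.1 hy
      exact ((show Commute v x from h.symm).zpow_left i).eq
  rw [h3, h4, h5, card_bot, one_pow, one_mul, mul_one, hcE] at key
  exact key

end Cfsg.Agent.Lib.H26SuzB2
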