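import Cfsg.Agent.Lib.H26SuzInd

/-!
# The rank one set-up: the normal closure of `t`
-/

set_option autoImplicit false
open MulAction

namespace Cfsg.Agent.Lib.H26SuzCl

open Subgroup Cfsg.Agent.Lib.RankOne Cfsg.Agent.Lib.RankOneB Cfsg.Agent.Lib.RankOneC Cfsg.Agent.Lib.H26SuzInd

universe u v

variable {G : Type u} {Ω : Type v} [Group G] [Finite G] [MulAction G Ω] {a : Ω} {t : G} {Q : Subgroup G}
  (hS : Cfsg.IsRankOneSetup G Ω a t Q)

theorem t_mem : t ∈ normalClosure ({t} : Set G) := subset_normalClosure rfl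

include hS

theorem K_mem {k : G} (hk : k ∈ Cfsg.invertedBy (stabilizer G a ⊓ stabilizer G (t • a)) t) :
    k ∈ normalClosure ({t} : Set G) := by
  obtain ⟨l, hl, hll, -⟩ := K_sqrt hS hk
  have h1 := ((mem_invertedBy hS).1 (inv_mem_K hS hl)).2
  rw [inv_inv] at h1
  -- l * l = (l * t * l⁻¹) * t
  have e : k = (l * t * l⁻¹) * t := by
    rw [← hll]
    nth_rw 2 [← h1]
    group
  rw [e]
  exact mul_mem (normalClosure_normal.conj_mem _ t_mem l) t_mem

theorem Q_le {k : G} (hk : k ∈ Cfsg.invertedBy (stabilizer G a ⊓ stabilizer G (t • a)) t) (hk1 : k ≠ 1) :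
    Q ≤ normalClosure ({t} : Set G) := by
  have hka : k ∈ stabilizer G a := hk.1.1
  let f : Q → Q := fun y => y * ⟨k * (y : G)⁻¹ * k⁻¹, hS.conj_mem k hka _ (Q.inv_mem y.2)⟩
  have hinj : Function.Injective f := by
    intro y₁ y₂ h
    have h1 : (y₁ : G) * (k * (y₁ : G)⁻¹ * k⁻¹) = y₂ * (k * (y₂ : G)⁻¹ * k⁻¹) := congrArg Subtype.val h
    have h3 : k * ((y₂ : G)⁻¹ * y₁) = ((y₂ : G)⁻¹ * y₁) * k := by
      have h4 : (y₂ : G)⁻¹ * y₁ = (k * (y₂ : G)⁻¹ * k⁻¹) * (k * y₁ * k⁻¹) := by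
        have e2 : (y₂ : G)⁻¹ * (y₁ * (k * (y₁ : G)⁻¹ * k⁻¹)) = (k * (y₂ : G)⁻¹ * k⁻¹) := by rw [h1]; group
        rw [← e2]; group
      nth_rw 2 [h4]
      group
    have h5 := K_fpf hS hk hk1 (Q.mul_mem (Q.inv_mem y₂.2) y₁.2) h3
    exact (Subtype.ext (inv_mul_eq_one.1 h5)).symm
  intro x hx
  obtain ⟨y, hy⟩ := Finite.surjective_of_injective hinj ⟨x, hx⟩
  have h1 : (y : G) * (k * (y : G)⁻¹ * k⁻¹) = x := congrArg Subtype.val hy
  have e : x = ((y : G) * k * (y : G)⁻¹) * k⁻¹ := by rw [← h1]; group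
  rw [e]
  exact mul_mem (normalClosure_normal.conj_mem _ (K_mem hS hk) _) (inv_mem (K_mem hS hk))

theorem core_eq_bot [FaithfulSMul G Ω] : (stabilizer G a).normalCore = ⊥ := by
  rw [eq_bot_iff]
  intro x hx
  rw [mem_bot]
  apply FaithfulSMul.eq_of_smul_eq_smul (α := Ω)
  intro c
  obtain ⟨g, rfl⟩ := exists_move hS c
  have h1 : g⁻¹ * x * g⁻¹⁻¹ ∈ (stabilizer G a).normalCore := (stabilizer G a).normalCore_normal.conj_mem x hx g⁻¹
  have h2 := mem_stabilizer_iff.1 ((stabilizer G a).normalCore_le h1)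
  rw [inv_inv, mul_smul, mul_smul, inv_smul_eq_iff] at h2
  rw [h2, one_smul]

theorem simple_cl [FaithfulSMul G Ω]
    (h2 : ∃ x y : G, x ≠ 1 ∧ y ≠ 1 ∧ x ≠ y ∧ x * x = 1 ∧ y * y = 1 ∧ x * y = y * x) :
    IsSimpleGroup (normalClosure ({t} : Set G)) := by
  obtain ⟨k, hk, hk1⟩ := exists_K_ne_one hS h2
  have hQ := Q_le hS hk hk1
  set N := normalClosure ({t} : Set G) with hN
  have htN : t ∈ N := t_mem
  have hSN := setup_sub hS hQ htN
  obtain ⟨s, hs, s', hs', hne⟩ := exists_two_invol hS h2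
  have hsQ := mem_Q_of_sq hS hs.1 hs.2.2
  have hsQ' := mem_Q_of_sq hS hs'.1 hs'.2.2
  have h2N : ∃ x y : N, x ≠ 1 ∧ y ≠ 1 ∧ x ≠ y ∧ x * x = 1 ∧ y * y = 1 ∧ x * y = y * x :=
    ⟨⟨s, hQ hsQ⟩, ⟨s', hQ hsQ'⟩, fun h => hs.2.1 (congrArg Subtype.val h), fun h => hs'.2.1 (congrArg Subtype.val h),
      fun h => hne (congrArg Subtype.val h), Subtype.ext hs.2.2, Subtype.ext hs'.2.2,
      Subtype.ext (invol_central hS h2 s hs s' hsQ')⟩
  have hnt : Nontrivial N := ⟨⟨⟨t, htN⟩, 1, fun h => hS.ne_one (congrArg Subtype.val h)⟩⟩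
  refine { exists_pair_ne := hnt.exists_pair_ne, eq_bot_or_eq_top_of_normal := ?_ }
  intro M hM
  rcases Nat.even_or_odd (Nat.card M) with he | ho
  · right
    have : Fact (Nat.Prime 2) := ⟨Nat.prime_two⟩
    obtain ⟨z, hz⟩ := exists_prime_orderOf_dvd_card' (G := M) 2 (even_iff_two_dvd.1 he)
    have hz1 : (z : N) ≠ 1 := by
      intro h
      have : z = 1 := Subtype.ext h
      rw [this, orderOf_one] at hz; omega
    have hzz : (z : N) * z = 1 := by
      have := pow_orderOf_eq_one z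
      rw [hz, pow_two] at this
      exact congrArg Subtype.val this
    -- all involutions of `N` are in `M`
    have hall : ∀ w : N, w ≠ 1 → w * w = 1 → w ∈ M := by
      intro w hw1 hww
      obtain ⟨g, hg⟩ := conj_invol hSN hz1 hzz hw1 hww
      rw [← hg]; exact hM.conj_mem _ z.2 g
    have hle : N ≤ M.map N.subtype := by
      refine (closure_le (K := M.map N.subtype)).2 ?_
      intro x hx
      obtain ⟨c, hc, hcx⟩ := Group.mem_conjugatesOfSet_iff.1 hx
      rw [Set.mem_singleton_iff] at hc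
      subst hc
      obtain ⟨g, rfl⟩ := isConj_iff.1 hcx
      have hxN : g * c * g⁻¹ ∈ N := normalClosure_normal.conj_mem _ t_mem g
      refine ⟨⟨g * c * g⁻¹, hxN⟩, hall _ ?_ ?_, rfl⟩
      · intro h
        have h1 : g * c * g⁻¹ = 1 := congrArg Subtype.val h
        exact hS.ne_one (by rwa [conj_eq_one_iff] at h1)
      · apply Subtype.ext
        show g * c * g⁻¹ * (g * c * g⁻¹) = 1
        calc g * c * g⁻¹ * (g * c * g⁻¹) = g * (c * c) * g⁻¹ := by group
          _ = 1 := by rw [hS.mul_self]; group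
    rw [eq_top_iff]
    intro x _
    obtain ⟨y, hy, hyx⟩ := hle x.2
    rwa [← Subtype.ext (a1 := y) (a2 := x) hyx]
  · left
    have h3 := odd_normal_le hSN h2N M hM ho
    rw [core_eq_bot hSN] at h3
    exact le_bot_iff.1 h3

end Cfsg.Agent.Lib.H26SuzCl
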