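import Cfsg.Agent.Lib.H26SuzB1

/-!
# The rank one set-up: elements of prime order in `V` act as field automorphisms
-/

set_option autoImplicit false
open MulAction

namespace Cfsg.Agent.Lib.H26SuzF

open Subgroup Cfsg.Agent.Lib.RankOne Cfsg.Agent.Lib.RankOneB Cfsg.Agent.Lib.RankOneC Cfsg.Agent.Lib.H26SuzKD
  Cfsg.Agent.Lib.H26SuzPP Cfsg.Agent.Lib.H26SuzT Cfsg.Agent.Lib.H26SuzS1 Cfsg.Agent.Lib.H26SuzW

universe u v

/-- arithmetic -/
theorem arith {n j p : ℕ} (hn : 0 < n) (hp : p.Prime) (h1 : 2 ^ n - 1 ∣ 2 ^ (j * p) - 1) (h2 : n.gcd j ≠ n) :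
    n = n.gcd j * p := by
  have h3 := Nat.pow_sub_one_gcd_pow_sub_one 2 n (j * p)
  rw [Nat.gcd_eq_left h1] at h3
  have h4 : n.gcd (j * p) = n := by
    have h5 : 2 ^ n = 2 ^ (n.gcd (j * p)) := by
      have h6 : 1 ≤ 2 ^ n := Nat.one_le_two_pow
      have h7 : 1 ≤ 2 ^ (n.gcd (j * p)) := Nat.one_le_two_pow
      omega
    exact (Nat.pow_right_injective (le_refl 2) h5).symm
  have h5 : n ∣ j * p := Nat.gcd_eq_left_iff_dvd.1 h4
  obtain ⟨g, n', j', hg, hco, hn', hj'⟩ := Nat.exists_coprime' (m := n) (n := j) (Nat.gcd_pos_of_pos_left j hn)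
  have hgg : n.gcd j = g := by
    rw [hn', hj', Nat.gcd_mul_right, Nat.coprime_iff_gcd_eq_one.1 hco, one_mul]
  rw [hgg] at h2 ⊢
  rw [hn', hj'] at h5
  have h6 : n' ∣ j' * p := by
    have h7 : n' * g ∣ (j' * p) * g := by
      convert h5 using 1; ring
    exact Nat.dvd_of_mul_dvd_mul_right hg h7
  have h7 : n' ∣ p := hco.dvd_of_dvd_mul_left h6
  rcases (Nat.dvd_prime hp).1 h7 with h8 | h8
  · exfalso; apply h2; rw [hn', h8, one_mul]
  · rw [hn', h8, mul_comm]

variable {G : Type u} {Ω : Type v} [Group G] [Finite G] [MulAction G Ω] [FaithfulSMul G Ω] {a : Ω} {t : G} {Q : Subgroup G}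
  (hS : Cfsg.IsRankOneSetup G Ω a t Q)
  (h2 : ∃ x y : G, x ≠ 1 ∧ y ≠ 1 ∧ x ≠ y ∧ x * x = 1 ∧ y * y = 1 ∧ x * y = y * x)

include hS h2

/-- the field automorphism facts -/
theorem field (hW : ∀ w ∈ DD G a t, w * t = t * w → (∀ x ∈ EE hS h2, w * x = x * w) → w = 1) {v : G} {p : ℕ} (hp : p.Prime)
    (hv1 : v ≠ 1) (hvp : v ^ p = 1) (hv : v ∈ DD G a t) (hvt : v * t = t * v) {k₀ : G}
    (hk₀ : (zpowers k₀ : Set G) = Cfsg.invertedBy (DD G a t) t) (hKn : ∀ d ∈ DD G a t, ∀ c ∈ zpowers k₀, d * c * d⁻¹ ∈ zpowers k₀) :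
    ∃ g : ℕ, 0 < g ∧ qq Q = (2 ^ g) ^ p ∧ Nat.card {x : zpowers k₀ // v * x = x * v} + 1 = 2 ^ g ∧
      qq (Q ⊓ centralizer {v}) = 2 ^ g := by
  classical
  have hK : ∀ x, x ∈ zpowers k₀ ↔ x ∈ Cfsg.invertedBy (DD G a t) t := fun x => by rw [← hk₀]; rfl
  obtain ⟨n, hn⟩ := exists_pow_q hS h2
  have hq4 := two_le_pow hS h2
  have hn0 : 0 < n := by
    rcases Nat.eq_zero_or_pos n with h | h
    · rw [h] at hn; omega
    · exact h
  have hcK : Nat.card (zpowers k₀) = 2 ^ n - 1 := by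
    have := card_K hS hK
    omega
  obtain ⟨j, hj⟩ := conj_pow_two hS h2 hk₀ hv (hKn v hv k₀ (mem_zpowers k₀))
  have hcj : ∀ x ∈ zpowers k₀, v * x * v⁻¹ = x ^ 2 ^ j := by
    intro x hx
    obtain ⟨i, rfl⟩ := Subgroup.mem_zpowers_iff.1 hx
    rw [← conj_zpow, hj, ← zpow_natCast, ← zpow_natCast, ← zpow_mul, ← zpow_mul, mul_comm]
  have hcommK : ∀ x : G, x ∈ zpowers k₀ → (v * x = x * v ↔ x ^ (2 ^ j - 1) = 1) := by
    intro x hx
    have h3 := hcj x hx
    have h4 : x ^ 2 ^ j = x ^ (2 ^ j - 1) * x := by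
      rw [← pow_succ, Nat.sub_add_cancel Nat.one_le_two_pow]
    constructor
    · intro h
      rw [h, mul_inv_cancel_right, h4] at h3
      exact (mul_eq_right.1 h3.symm)
    · intro h
      rw [h4, h, one_mul] at h3
      nth_rw 2 [← h3]; group
  -- number of fixed points in `K`
  letI : CommGroup (zpowers k₀) := IsCyclic.commGroup
  have hcount : Nat.card {x : zpowers k₀ // v * x = x * v} = 2 ^ (n.gcd j) - 1 := by
    rw [← Nat.pow_sub_one_gcd_pow_sub_one 2 n j, ← hcK, ← IsCyclic.card_powMonoidHom_ker (G := zpowers k₀)]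
    refine Nat.card_congr (Equiv.subtypeEquivRight fun x => ?_)
    rw [hcommK x x.2, MonoidHom.mem_ker, powMonoidHom_apply, Subtype.ext_iff]
    rfl
  -- the order
  have hpow : ∀ i : ℕ, ∀ x ∈ zpowers k₀, v ^ i * x * (v ^ i)⁻¹ = x ^ 2 ^ (j * i) := by
    intro i
    induction i with
    | zero => intro x _; simp
    | succ i ih =>
      intro x hx
      calc v ^ (i + 1) * x * (v ^ (i + 1))⁻¹ = v ^ i * (v * x * v⁻¹) * (v ^ i)⁻¹ := by rw [pow_succ]; group
        _ = v ^ i * (x ^ 2 ^ j) * (v ^ i)⁻¹ := by rw [hcj x hx]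
        _ = (x ^ 2 ^ j) ^ 2 ^ (j * i) := ih _ (pow_mem hx _)
        _ = _ := by rw [← pow_mul, ← pow_add]; congr 2; ring
  have hdvd : 2 ^ n - 1 ∣ 2 ^ (j * p) - 1 := by
    have h3 := hpow p k₀ (mem_zpowers k₀)
    rw [hvp] at h3
    have h4 : k₀ ^ (2 ^ (j * p) - 1) = 1 := by
      have h5 : k₀ ^ 2 ^ (j * p) = k₀ ^ (2 ^ (j * p) - 1) * k₀ := by
        rw [← pow_succ, Nat.sub_add_cancel Nat.one_le_two_pow]
      rw [← h3] at h5
      have h6 : k₀ = k₀ ^ (2 ^ (j * p) - 1) * k₀ := by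
        calc k₀ = 1 * k₀ * 1⁻¹ := by group
          _ = _ := h5
      exact mul_eq_right.1 h6.symm
    have h5 := orderOf_dvd_of_pow_eq_one h4
    rwa [← Nat.card_zpowers, hcK] at h5
  have hne : n.gcd j ≠ n := by
    intro h
    rw [h] at hcount
    have hall : ∀ x ∈ zpowers k₀, v * x = x * v := by
      have h3 : Nat.card {x : zpowers k₀ // v * x = x * v} = Nat.card (zpowers k₀) := by rw [hcount, hcK]
      have h4 : Function.Bijective (fun x : {x : zpowers k₀ // v * x = x * v} => x.1) :=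
        (Nat.bijective_iff_injective_and_card _).2 ⟨Subtype.val_injective, h3⟩
      intro x hx
      obtain ⟨y, hy⟩ := h4.2 ⟨x, hx⟩
      have h5 := y.2
      have hy' : y.1 = ⟨x, hx⟩ := hy
      rw [hy'] at h5
      exact h5
    apply hv1
    have h3 : v ∈ DD G a t ⊓ centralizer {t} ⊓ centralizer (Cfsg.invertedBy (DD G a t) t) := by
      refine mem_inf.2 ⟨mem_inf.2 ⟨hv, mem_centralizer_singleton_iff.2 hvt⟩, mem_centralizer_iff.2 ?_⟩
      intro x hx
      exact (hall x ((hK x).2 hx)).symm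
    rw [CV_K_eq hS] at h3
    apply hW v hv hvt
    intro x hx
    rcases hx with rfl | hx
    · group
    · exact (mem_centralizer_iff.1 h3.2 x hx).symm
  have hng := arith hn0 hp hdvd hne
  have hg0 : 0 < n.gcd j := Nat.gcd_pos_of_pos_left j hn0
  refine ⟨n.gcd j, hg0, ?_, ?_, ?_⟩
  · rw [← pow_mul, ← hng, hn]
  · rw [hcount, Nat.sub_add_cancel Nat.one_le_two_pow]
  · obtain ⟨⟨s, r⟩, ⟨hs, hr, hst⟩, -⟩ := structure_eq hS
    dsimp only at hs hr hst
    have hvs : v * s = s * v := (cent_r hS hs hr hst hv hvt).1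
    have hsQ := mem_Q_of_sq hS hs.1 hs.2.2
    have h3 : qq (Q ⊓ centralizer {v}) = Nat.card (Option {x : zpowers k₀ // v * x = x * v}) := by
      symm
      have hm : ∀ x : {x : zpowers k₀ // v * x = x * v}, ((x.1 : G)⁻¹ * s * x.1) ∈ Q ⊓ centralizer {v} := by
        intro x
        refine mem_inf.2 ⟨?_, ?_⟩
        · have h4 := hS.conj_mem (x.1 : G)⁻¹ (inv_mem ((hK _).1 x.1.2).1.1) s hsQ
          rwa [inv_inv] at h4
        · rw [mem_centralizer_singleton_iff]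
          have h4 := x.2
          have h5 : (x.1 : G)⁻¹ * v = v * (x.1 : G)⁻¹ := by
            rw [inv_mul_eq_iff_eq_mul, ← mul_assoc, ← h4, mul_inv_cancel_right]
          calc (x.1 : G)⁻¹ * s * x.1 * v = (x.1 : G)⁻¹ * (s * v) * (v⁻¹ * (x.1 * v)) := by group
            _ = (x.1 : G)⁻¹ * (v * s) * (v⁻¹ * (v * x.1)) := by rw [hvs, h4]
            _ = ((x.1 : G)⁻¹ * v) * s * x.1 := by group
            _ = _ := by rw [h5]; group
      have hm2 : ∀ x : {x : zpowers k₀ // v * x = x * v}, ((x.1 : G)⁻¹ * s * x.1) * ((x.1 : G)⁻¹ * s * x.1) = 1 := by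
        intro x
        calc ((x.1 : G)⁻¹ * s * x.1) * ((x.1 : G)⁻¹ * s * x.1) = (x.1 : G)⁻¹ * (s * s) * x.1 := by group
          _ = 1 := by rw [hs.2.2]; group
      refine Nat.card_congr (Equiv.ofBijective (fun o : Option {x : zpowers k₀ // v * x = x * v} => (match o with
        | none => ⟨1, one_mul 1⟩
        | some x => ⟨⟨_, hm x⟩, Subtype.ext (hm2 x)⟩ : {x : ↥(Q ⊓ centralizer {v}) // x * x = 1})) ⟨?_, ?_⟩)
      · rintro (_ | x) (_ | y) h
        · rfl
        · exfalso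
          have h4 : (1 : G) = (y.1 : G)⁻¹ * s * y.1 :=
            congrArg (fun z : {x : ↥(Q ⊓ centralizer {v}) // x * x = 1} => ((z : ↥(Q ⊓ centralizer {v})) : G)) h
          apply hs.2.1
          have : s = y.1 * ((y.1 : G)⁻¹ * s * y.1) * (y.1 : G)⁻¹ := by group
          rw [this, ← h4]; group
        · exfalso
          have h4 : (x.1 : G)⁻¹ * s * x.1 = 1 :=
            congrArg (fun z : {x : ↥(Q ⊓ centralizer {v}) // x * x = 1} => ((z : ↥(Q ⊓ centralizer {v})) : G)) h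
          apply hs.2.1
          have : s = x.1 * ((x.1 : G)⁻¹ * s * x.1) * (x.1 : G)⁻¹ := by group
          rw [this, h4]; group
        · have h4 : (x.1 : G)⁻¹ * s * x.1 = (y.1 : G)⁻¹ * s * y.1 :=
            congrArg (fun z : {x : ↥(Q ⊓ centralizer {v}) // x * x = 1} => ((z : ↥(Q ⊓ centralizer {v})) : G)) h
          have h5 := K_conj_injective hS hs.1 hs.2.1 hs.2.2 ((hK _).1 x.1.2) ((hK _).1 y.1.2) h4
          rw [Subtype.ext (Subtype.ext h5)]
      · rintro ⟨⟨x, hx⟩, hxx⟩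
        have hxx' : x * x = 1 :=
          congrArg (fun z : ↥(Q ⊓ centralizer {v}) => (z : G)) hxx
        by_cases hx1 : x = 1
        · subst hx1; exact ⟨none, rfl⟩
        · have hxi : x ∈ Cfsg.involutionsIn (stabilizer G a : Set G) := ⟨hS.le hx.1, hx1, hxx'⟩
          obtain ⟨k, hk, rfl⟩ := K_conj_surj hS hs hxi
          have hkK := (hK k).2 hk
          have hvk : v * k = k * v := by
            have h4 := hKn v hv k hkK
            have h5 := mem_centralizer_singleton_iff.1 hx.2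
            have h6 : (v * k * v⁻¹)⁻¹ * s * (v * k * v⁻¹) = k⁻¹ * s * k := by
              have h7 : v⁻¹ * s = s * v⁻¹ := by rw [inv_mul_eq_iff_eq_mul, ← mul_assoc, hvs, mul_inv_cancel_right]
              calc (v * k * v⁻¹)⁻¹ * s * (v * k * v⁻¹) = v * k⁻¹ * (v⁻¹ * s) * v * k * v⁻¹ := by group
                _ = v * k⁻¹ * (s * v⁻¹) * v * k * v⁻¹ := by rw [h7]
                _ = v * (k⁻¹ * s * k) * v⁻¹ := by group
                _ = (k⁻¹ * s * k) * v * v⁻¹ := by rw [h5]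
                _ = _ := by group
            have h7 := K_conj_injective hS hs.1 hs.2.1 hs.2.2 ((hK _).1 h4) hk h6
            nth_rw 2 [← h7]; group
          exact ⟨some ⟨⟨k, hkK⟩, hvk⟩, rfl⟩
    rw [h3, Finite.card_option, hcount, Nat.sub_add_cancel Nat.one_le_two_pow]

end Cfsg.Agent.Lib.H26SuzF
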