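import Cfsg.Agent.Lib.RankOneC

/-!
# The rank one set-up: subgroups, quotients and centralizers (induction tools)
-/

set_option autoImplicit false
open MulAction

namespace Cfsg.Agent.Lib.H26SuzInd

open Subgroup Cfsg.Agent.Lib.RankOne Cfsg.Agent.Lib.RankOneB Cfsg.Agent.Lib.RankOneC

universe u v

variable {G : Type u} {Ω : Type v} [Group G] [MulAction G Ω] {a : Ω} {t : G} {Q : Subgroup G}
  (hS : Cfsg.IsRankOneSetup G Ω a t Q)

section sub

include hS

/-- A subgroup containing `Q` and `t` inherits the set-up. -/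
theorem setup_sub [Finite G] {N : Subgroup G} (hQ : Q ≤ N) (ht : t ∈ N) :
    Cfsg.IsRankOneSetup N Ω a (⟨t, ht⟩ : N) (Q.subgroupOf N) := by
  have htt := hS.mul_self
  have key : ∀ x y : Ω, x ≠ y → ∃ n : N, (n : G) • a = x ∧ (n : G) • t • a = y := by
    intro x y hxy
    obtain ⟨n1, hn1⟩ : ∃ n1 : N, (n1 : G) • a = x := by
      by_cases hx : x = a
      · exact ⟨1, by rw [hx]; exact one_smul _ _⟩
      · obtain ⟨z, hz, hzx⟩ := Q_trans hS hx
        exact ⟨⟨z * t, N.mul_mem (hQ hz) ht⟩, by show (z * t) • a = x; rw [mul_smul, hzx]⟩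
    have h1 : (n1 : G)⁻¹ • y ≠ a := by
      intro h
      rw [inv_smul_eq_iff, hn1] at h
      exact hxy h.symm
    obtain ⟨z, hz, hzy⟩ := Q_trans hS h1
    refine ⟨n1 * ⟨z, hQ hz⟩, ?_, ?_⟩
    · show ((n1 : G) * z) • a = x
      rw [mul_smul, Q_fix hS hz, hn1]
    · show ((n1 : G) * z) • t • a = y
      rw [mul_smul, hzy, smul_inv_smul]
  exact
  { two_transitive := by
      rw [is_two_pretransitive_iff]
      intro x y x' y' h h'
      obtain ⟨n, hn1, hn2⟩ := key x y h
      obtain ⟨m, hm1, hm2⟩ := key x' y' h'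
      refine ⟨m * n⁻¹, ?_, ?_⟩
      · show ((m : G) * (n : G)⁻¹) • x = x'
        rw [mul_smul, ← hn1, inv_smul_smul, hm1]
      · show ((m : G) * (n : G)⁻¹) • y = y'
        rw [mul_smul, ← hn2, inv_smul_smul, hm2]
    mul_self := Subtype.ext htt
    ne_one := fun h => hS.ne_one (congrArg Subtype.val h)
    not_mem := fun h => hS.not_mem h
    le := fun x hx => hS.le hx
    conj_mem := fun h hh x hx => hS.conj_mem (h : G) hh (x : G) hx
    inf_eq_bot := by
      rw [eq_bot_iff]
      intro x hx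
      have h1 : (x : G) ∈ Q ⊓ stabilizer G (t • a) := ⟨hx.1, hx.2⟩
      rw [hS.inf_eq_bot, mem_bot] at h1
      exact mem_bot.2 (Subtype.ext h1)
    sup_eq := by
      apply le_antisymm
      · exact sup_le (fun x hx => hS.le hx) inf_le_left
      · intro x hx
        obtain ⟨y, hy, d, hd, hyd⟩ := exists_mul hS (g := (x : G)) hx
        have hdN : d ∈ N := by
          have : d = y⁻¹ * x := by rw [hyd]; group
          rw [this]; exact N.mul_mem (N.inv_mem (hQ hy)) x.2
        have e : x = (⟨y, hQ hy⟩ : N) * ⟨d, hdN⟩ := Subtype.ext hyd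
        rw [e]
        exact mul_mem_sup (show (⟨y, hQ hy⟩ : N) ∈ Q.subgroupOf N from hy) (show _ from hd)
    even_card := by
      have e : Nat.card (Q.subgroupOf N) = Nat.card Q := Nat.card_congr (subgroupOfEquivOfLe hQ).toEquiv
      rw [e]; exact hS.even_card
    odd_card := by
      refine hS.odd_card.of_dvd_nat ?_
      have h1 : (stabilizer N a ⊓ stabilizer N ((⟨t, ht⟩ : N) • a)).map N.subtype ≤
          stabilizer G a ⊓ stabilizer G (t • a) := by
        rintro _ ⟨x, hx, rfl⟩
        exact hx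
      have h2 := card_dvd_of_le h1
      rwa [Nat.card_congr (equivMapOfInjective _ N.subtype N.subtype_injective).toEquiv.symm] at h2 }

end sub

section quot

theorem card_map_eq {G H : Type*} [Group G] [Group H] (f : G →* H) (Q : Subgroup G) (h : ∀ x ∈ Q, f x = 1 → x = 1) :
    Nat.card (Q.map f) = Nat.card Q := by
  symm
  refine Nat.card_congr (Equiv.ofBijective (fun x : Q => (⟨f x, x, x.2, rfl⟩ : Q.map f)) ⟨?_, ?_⟩)
  · intro x y hxy
    have h1 : f (x * (y : G)⁻¹) = 1 := by
      rw [map_mul, map_inv, mul_inv_eq_one]; exact congrArg Subtype.val hxy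
    exact Subtype.ext (mul_inv_eq_one.1 (h _ (Q.mul_mem x.2 (Q.inv_mem y.2)) h1))
  · rintro ⟨_, x, hx, rfl⟩
    exact ⟨⟨x, hx⟩, rfl⟩

/-- the kernel of the action -/
abbrev ker (G : Type u) (Ω : Type v) [Group G] [MulAction G Ω] : Subgroup G := (MulAction.toPermHom G Ω).ker

theorem mem_ker {g : G} : g ∈ ker G Ω ↔ ∀ x : Ω, g • x = x := by
  rw [MonoidHom.mem_ker, Equiv.ext_iff]; rfl

/-- the action of `G / ker` -/
@[reducible] noncomputable def quotAct (G : Type u) (Ω : Type v) [Group G] [MulAction G Ω] : MulAction (G ⧸ ker G Ω) Ω :=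
  MulAction.compHom Ω (QuotientGroup.kerLift (MulAction.toPermHom G Ω))

theorem quot_smul (g : G) (x : Ω) : letI := quotAct G Ω; ((g : G ⧸ ker G Ω) • x) = g • x := rfl

theorem quot_faithful : letI := quotAct G Ω; FaithfulSMul (G ⧸ ker G Ω) Ω := by
  letI := quotAct G Ω
  constructor
  intro x y h
  obtain ⟨g, rfl⟩ := QuotientGroup.mk_surjective x
  obtain ⟨g', rfl⟩ := QuotientGroup.mk_surjective y
  rw [QuotientGroup.eq, mem_ker]
  intro c
  rw [mul_smul, inv_smul_eq_iff]
  exact (h c).symm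

include hS

theorem ker_le : ker G Ω ≤ stabilizer G a ⊓ stabilizer G (t • a) := by
  intro g hg
  rw [mem_ker] at hg
  exact ⟨hg _, hg _⟩

theorem quot_setup [Finite G] : letI := quotAct G Ω
    Cfsg.IsRankOneSetup (G ⧸ ker G Ω) Ω a ((t : G) : G ⧸ ker G Ω) (Q.map (QuotientGroup.mk' (ker G Ω))) := by
  letI := quotAct G Ω
  have hstab : ∀ (g : G) (c : Ω), ((g : G ⧸ ker G Ω) ∈ stabilizer (G ⧸ ker G Ω) c) ↔ g ∈ stabilizer G c := fun g c => Iff.rfl
  exact
  { two_transitive := by
      rw [is_two_pretransitive_iff]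
      intro x y x' y' h h'
      obtain ⟨g, h1, h2⟩ := two_trans hS h h'
      exact ⟨g, h1, h2⟩
    mul_self := by rw [← QuotientGroup.mk_mul, hS.mul_self]; rfl
    ne_one := by
      intro h
      rw [QuotientGroup.eq_one_iff, mem_ker] at h
      exact ta_ne hS (h a)
    not_mem := hS.not_mem
    le := by
      rintro _ ⟨x, hx, rfl⟩
      exact hS.le hx
    conj_mem := by
      intro h hh x hx
      obtain ⟨g, rfl⟩ := QuotientGroup.mk_surjective h
      obtain ⟨y, hy, rfl⟩ := hx
      exact ⟨g * y * g⁻¹, hS.conj_mem g hh y hy, rfl⟩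
    inf_eq_bot := by
      rw [eq_bot_iff]
      rintro _ ⟨⟨x, hx, rfl⟩, hx2⟩
      have h1 : x ∈ Q ⊓ stabilizer G (t • a) := ⟨hx, hx2⟩
      rw [hS.inf_eq_bot, mem_bot] at h1
      rw [h1, map_one]; exact one_mem _
    sup_eq := by
      apply le_antisymm
      · refine sup_le ?_ inf_le_left
        rintro _ ⟨x, hx, rfl⟩
        exact hS.le hx
      · intro x hx
        obtain ⟨g, rfl⟩ := QuotientGroup.mk_surjective x
        obtain ⟨y, hy, d, hd, hyd⟩ := exists_mul hS (g := g) hx
        rw [hyd, QuotientGroup.mk_mul]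
        exact mul_mem_sup ⟨y, hy, rfl⟩ (show _ from hd)
    even_card := by
      rw [card_map_eq _ Q (fun x hx h => Q_inf_D hS hx (ker_le hS ((QuotientGroup.eq_one_iff x).1 h)))]
      exact hS.even_card
    odd_card := by
      refine hS.odd_card.of_dvd_nat ?_
      have h1 : (stabilizer (G ⧸ ker G Ω) a ⊓ stabilizer (G ⧸ ker G Ω) (((t : G) : G ⧸ ker G Ω) • a)) =
          (stabilizer G a ⊓ stabilizer G (t • a)).map (QuotientGroup.mk' (ker G Ω)) := by
        ext x
        obtain ⟨g, rfl⟩ := QuotientGroup.mk_surjective x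
        constructor
        · intro hx
          exact ⟨g, hx, rfl⟩
        · rintro ⟨y, hy, hyg⟩
          rw [← hyg]
          exact hy
      rw [h1]
      exact Subgroup.card_map_dvd _ _ }

end quot

section cent

/-- the fixed points of `X` -/
def Fx (Ω : Type v) [MulAction G Ω] (X : Set G) : Set Ω := {c | ∀ x ∈ X, x • c = c}

/-- the action of `C_G(X)` on the fixed points of `X` -/
instance centAct (X : Set G) : MulAction (centralizer X) (Fx Ω X) where
  smul g c := ⟨(g : G) • (c : Ω), fun x hx => by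
    have h1 := mem_centralizer_iff.1 g.2 x hx
    rw [smul_smul, h1, mul_smul, c.2 x hx]⟩
  one_smul c := Subtype.ext (one_smul G (c : Ω))
  mul_smul g h c := Subtype.ext (mul_smul (g : G) (h : G) (c : Ω))

theorem cent_smul (X : Set G) (g : centralizer X) (c : Fx Ω X) : ((g • c : Fx Ω X) : Ω) = (g : G) • (c : Ω) := rfl

variable {X : Set G} (hX : ∀ x ∈ X, (x • a = a ∧ x • t • a = t • a) ∧ x * t = t * x)
include hS hX

theorem t_mem_cent : t ∈ centralizer X := mem_centralizer_iff.2 fun x hx => (hX x hx).2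

theorem a_mem_Fx : a ∈ Fx Ω X := fun x hx => (hX x hx).1.1

theorem cent_setup [Finite G] :
    Cfsg.IsRankOneSetup (centralizer X) (Fx Ω X) ⟨a, a_mem_Fx hS hX⟩ ⟨t, t_mem_cent hS hX⟩ (Q.subgroupOf (centralizer X)) := by
  have hX' : ∀ x ∈ X, x • a = a ∧ x • t • a = t • a := fun x hx => (hX x hx).1
  obtain ⟨d, hd1, hd2, hd3⟩ := third_point (Ω := Ω) hS
  have h3 : ∃ d : Ω, d ≠ a ∧ d ≠ t • a ∧ ∀ x ∈ X, x • d = d :=
    ⟨d, hd2, hd3, fun x hx => third_fixed hS (hX x hx).2 hd1⟩
  exact
  { two_transitive := by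
      rw [is_two_pretransitive_iff]
      rintro x y x' y' h h'
      obtain ⟨g, h1, h2, h3⟩ := cent_two_trans hS hX' h3 (b₁ := (x : Ω)) (b₂ := y) (c₁ := x') (c₂ := y')
        (fun z hz => ⟨x.2 z hz, y.2 z hz, x'.2 z hz, y'.2 z hz⟩) (fun he => h (Subtype.ext he))
        (fun he => h' (Subtype.ext he))
      exact ⟨⟨g, mem_centralizer_iff.2 h1⟩, Subtype.ext h2, Subtype.ext h3⟩
    mul_self := Subtype.ext hS.mul_self
    ne_one := fun h => hS.ne_one (congrArg Subtype.val h)
    not_mem := fun h => ta_ne hS (congrArg Subtype.val (mem_stabilizer_iff.1 h))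
    le := fun x hx => mem_stabilizer_iff.2 (Subtype.ext (Q_fix hS hx))
    conj_mem := fun h hh x hx => hS.conj_mem (h : G)
      (mem_stabilizer_iff.2 (congrArg Subtype.val (mem_stabilizer_iff.1 hh))) (x : G) hx
    inf_eq_bot := by
      rw [eq_bot_iff]
      intro x hx
      have h1 : (x : G) ∈ Q ⊓ stabilizer G (t • a) :=
        ⟨hx.1, mem_stabilizer_iff.2 (congrArg Subtype.val (mem_stabilizer_iff.1 hx.2))⟩
      rw [hS.inf_eq_bot, mem_bot] at h1
      exact mem_bot.2 (Subtype.ext h1)
    sup_eq := by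
      apply le_antisymm
      · exact sup_le (fun x hx => mem_stabilizer_iff.2 (Subtype.ext (Q_fix hS hx))) inf_le_left
      · intro g hg
        have hga : (g : G) • a = a := congrArg Subtype.val (mem_stabilizer_iff.1 hg)
        have hgc := mem_centralizer_iff.1 g.2
        obtain ⟨y, hy, hyX, hyb⟩ := cent_trans_a hS hX' (ta_ne hS) (c := (g : G) • t • a) (by
          intro h; exact ta_ne hS (MulAction.injective (g : G) (h.trans hga.symm))) (fun x hx => (hX' x hx).2)
          (fun x hx => by rw [smul_smul, hgc x hx, mul_smul, (hX' x hx).2])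
        have hyc : y ∈ centralizer X := mem_centralizer_iff.2 hyX
        have e : g = (⟨y, hyc⟩ : centralizer X) * (⟨y, hyc⟩⁻¹ * g) := by group
        rw [e]
        refine mul_mem_sup (show (⟨y, hyc⟩ : centralizer X) ∈ Q.subgroupOf _ from hy) ⟨?_, ?_⟩
        · apply mem_stabilizer_iff.2
          apply Subtype.ext
          show (y⁻¹ * (g : G)) • a = a
          rw [mul_smul, hga, inv_smul_eq_iff, Q_fix hS hy]
        · apply mem_stabilizer_iff.2
          apply Subtype.ext
          show (y⁻¹ * (g : G)) • t • a = t • a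
          rw [mul_smul, inv_smul_eq_iff, hyb]
    even_card := by
      obtain ⟨z, hzQ, hzX, hz1, hzz⟩ := cent_invol_Q hS hX' h3
      have hzc : z ∈ centralizer X := mem_centralizer_iff.2 hzX
      have ho : orderOf (⟨⟨z, hzc⟩, hzQ⟩ : Q.subgroupOf (centralizer X)) = 2 := by
        rw [orderOf_eq_prime_iff]
        refine ⟨?_, fun h => hz1 ?_⟩
        · rw [pow_two]; exact Subtype.ext (Subtype.ext hzz)
        · exact congrArg (fun w : Q.subgroupOf (centralizer X) => ((w : centralizer X) : G)) h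
      rw [even_iff_two_dvd, ← ho]
      exact orderOf_dvd_natCard _
    odd_card := by
      refine hS.odd_card.of_dvd_nat ?_
      have h1 : (stabilizer (centralizer X) (⟨a, a_mem_Fx hS hX⟩ : Fx Ω X) ⊓
          stabilizer (centralizer X) ((⟨t, t_mem_cent hS hX⟩ : centralizer X) • (⟨a, a_mem_Fx hS hX⟩ : Fx Ω X))).map
            (centralizer X).subtype ≤ stabilizer G a ⊓ stabilizer G (t • a) := by
        rintro _ ⟨x, hx, rfl⟩
        exact ⟨mem_stabilizer_iff.2 (congrArg Subtype.val (mem_stabilizer_iff.1 hx.1)),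
          mem_stabilizer_iff.2 (congrArg Subtype.val (mem_stabilizer_iff.1 hx.2))⟩
      have h2 := card_dvd_of_le h1
      rwa [card_map_eq _ _ (fun x _ h => Subtype.ext h)] at h2 }

end cent

end Cfsg.Agent.Lib.H26SuzInd
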