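import Cfsg.Agent.Lib.FrobAction3
import Cfsg.Agent.Lib.H32MinAct
import Cfsg.Agent.Lib.OddInv

/-!
# Groups of odd order with an involutory automorphism, transitive on a vector space

`X` is a solvable group of odd order acting faithfully on a finite abelian group `Z`, transitively on
`Z ∖ 1`; `τ` is an involutory automorphism of `X` whose fixed points fix `s ≠ 1` and whose inverted
elements act without fixed points. Then the inverted elements form a self-centralizing cyclic normal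
subgroup (Peterfalvi, "A theorem of Suzuki").
-/

set_option autoImplicit false

namespace Cfsg.Agent.Lib.H26SuzK

open Subgroup

variable {X Z : Type*} [Group X] [Finite X] [CommGroup Z]

/-- The configuration. -/
structure Conf (act : X →* MulAut Z) (τ : X →* X) (s : Z) : Prop where
  odd : Odd (Nat.card X)
  solv : Group.IsSolvable X
  inj : Function.Injective act
  tt : ∀ x, τ (τ x) = x
  trans : ∀ z w : Z, z ≠ 1 → w ≠ 1 → ∃ x : X, act x z = w
  s_ne : s ≠ 1
  fix : ∀ x, τ x = x → act x s = s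
  inv : ∀ x, τ x = x⁻¹ → x ≠ 1 → ∀ z, act x z = z → z = 1

/-- The stabilizer of `z` in `A`. -/
def st (act : X →* MulAut Z) (A : Subgroup X) (z : Z) : Subgroup X where
  carrier := {a | a ∈ A ∧ act a z = z}
  one_mem' := ⟨one_mem _, by rw [map_one]; rfl⟩
  mul_mem' := fun {a b} ha hb => ⟨mul_mem ha.1 hb.1, by
    rw [map_mul, MulAut.mul_apply, hb.2, ha.2]⟩
  inv_mem' := fun {a} ha => ⟨inv_mem ha.1, by
    have h1 : act a⁻¹ (act a z) = z := by
      rw [← MulAut.mul_apply, ← map_mul, inv_mul_cancel, map_one]; rfl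
    rwa [ha.2] at h1⟩

omit [Finite X] in
theorem mem_st {act : X →* MulAut Z} {A : Subgroup X} {z : Z} {a : X} :
    a ∈ st act A z ↔ a ∈ A ∧ act a z = z := Iff.rfl

/-- the class of subgroups considered -/
structure Good (τ : X →* X) (A : Subgroup X) : Prop where
  normal : A.Normal
  inv : ∀ a ∈ A, τ a ∈ A
  comm : ∀ a ∈ A, ∀ b ∈ A, a * b = b * a

section Sqrt

theorem eq_one_of_sq {Y : Type*} [Group Y] [Finite Y] (ho : Odd (Nat.card Y)) {x : Y} (h : x * x = 1) :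
    x = 1 := by
  have h1 : orderOf x ∣ 2 := orderOf_dvd_of_pow_eq_one (by rw [pow_two]; exact h)
  have h2 : Odd (orderOf x) := ho.of_dvd_nat (orderOf_dvd_natCard x)
  rcases (Nat.dvd_prime Nat.prime_two).1 h1 with h3 | h3
  · exact orderOf_eq_one_iff.1 h3
  · rw [h3] at h2; exact absurd h2 (by decide)

theorem exists_sqrt {Y : Type*} [Group Y] [Finite Y] (ho : Odd (Nat.card Y)) (u : Y) :
    ∃ k : ℕ, u ^ k * u ^ k = u :=
  OddInv.exists_sqrt (ho.of_dvd_nat (orderOf_dvd_natCard u))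

/-- in odd order, whatever contains `x * x` contains `x` -/
theorem mem_of_sq {Y : Type*} [Group Y] [Finite Y] (ho : Odd (Nat.card Y)) {A : Subgroup Y} {x : Y}
    (h : x * x ∈ A) : x ∈ A := by
  obtain ⟨k, hk⟩ := exists_sqrt ho x
  have h1 : (x * x) ^ k = x := by
    rw [(Commute.refl x).mul_pow, hk]
  rw [← h1]
  exact pow_mem h k

end Sqrt

section Semireg

variable {act : X →* MulAut Z} {τ : X →* X} {s : Z}

theorem card_st_le (d : Conf act τ s) (A : Subgroup X) [hA : A.Normal] {z w : Z} (hz : z ≠ 1)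
    (hw : w ≠ 1) : Nat.card (st act A z) ≤ Nat.card (st act A w) := by
  obtain ⟨x, hx⟩ := d.trans z w hz hw
  refine Nat.card_le_card_of_injective (fun a : st act A z => (⟨x * a * x⁻¹,
    hA.conj_mem _ a.2.1 x, ?_⟩ : st act A w)) ?_
  · rw [map_mul, map_mul, MulAut.mul_apply, MulAut.mul_apply]
    have h1 : act x⁻¹ w = z := by
      rw [← hx, ← MulAut.mul_apply, ← map_mul, inv_mul_cancel, map_one]; rfl
    rw [h1, a.2.2, hx]
  · intro a b hab
    have h1 : x * (a : X) * x⁻¹ = x * (b : X) * x⁻¹ := congrArg Subtype.val hab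
    exact Subtype.ext (mul_left_cancel (mul_right_cancel h1))

theorem card_st (d : Conf act τ s) (A : Subgroup X) [A.Normal] {z w : Z} (hz : z ≠ 1)
    (hw : w ≠ 1) : Nat.card (st act A z) = Nat.card (st act A w) :=
  le_antisymm (card_st_le d A hz hw) (card_st_le d A hw hz)

/-- Abelian normal subgroups act semiregularly. -/
theorem semireg (d : Conf act τ s) (A : Subgroup X) [A.Normal]
    (hc : ∀ a ∈ A, ∀ b ∈ A, a * b = b * a) {a : X} (ha : a ∈ A) (ha1 : a ≠ 1) {z₀ : Z}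
    (hz : act a z₀ = z₀) : z₀ = 1 := by
  by_contra hz₀
  have hex : ∃ z, act a z ≠ z := by
    by_contra hcon
    push Not at hcon
    apply ha1
    apply d.inj
    rw [map_one]
    ext z
    exact hcon z
  obtain ⟨z, hzne⟩ := hex
  have hz1 : z ≠ 1 := by rintro rfl; exact hzne (map_one _)
  have heq : ∀ {u w : Z}, u ≠ 1 → w ≠ 1 → st act A u ≤ st act A w → st act A u = st act A w :=
    fun hu hw hle => Subgroup.eq_of_le_of_card_ge hle (card_st d A hw hu).le
  have hne : st act A z₀ ≠ st act A z := by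
    intro h
    have h1 : a ∈ st act A z₀ := ⟨ha, hz⟩
    rw [h] at h1
    exact hzne h1.2
  have hprod : z₀ * z ≠ 1 := by
    intro h
    apply hzne
    have h1 : z = z₀⁻¹ := eq_inv_of_mul_eq_one_right h
    rw [h1, map_inv, hz]
  have hle : st act A (z₀ * z) ≤ st act A z₀ ⊓ st act A z := by
    rintro b ⟨hb, hbz⟩
    rw [map_mul] at hbz
    set u := act b z₀ * z₀⁻¹ with hu
    have hu' : u = z * (act b z)⁻¹ := by
      rw [hu, mul_inv_eq_iff_eq_mul, mul_assoc, mul_comm _ z₀, ← mul_assoc, mul_comm z z₀, ← hbz,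
        mul_inv_cancel_right]
    have hu1 : u = 1 := by
      by_contra hu1
      have h1 : st act A z₀ ≤ st act A u := by
        rintro c ⟨hcA, hcz⟩
        refine ⟨hcA, ?_⟩
        rw [hu, map_mul, map_inv, hcz, ← MulAut.mul_apply, ← map_mul, hc c hcA b hb, map_mul,
          MulAut.mul_apply, hcz]
      have h2 : st act A z ≤ st act A u := by
        rintro c ⟨hcA, hcz⟩
        refine ⟨hcA, ?_⟩
        rw [hu', map_mul, map_inv, hcz, ← MulAut.mul_apply, ← map_mul, hc c hcA b hb, map_mul,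
          MulAut.mul_apply, hcz]
      exact hne ((heq hz₀ hu1 h1).trans (heq hz1 hu1 h2).symm)
    refine ⟨⟨hb, ?_⟩, hb, ?_⟩
    · rw [hu, mul_inv_eq_one] at hu1; exact hu1
    · rw [hu', mul_inv_eq_one] at hu1; exact hu1.symm
  exact hne ((heq hprod hz₀ (hle.trans inf_le_left)).symm.trans (heq hprod hz1 (hle.trans inf_le_right)))

theorem Good.fix (d : Conf act τ s) {A : Subgroup X} (hA : Good τ A) {a : X} (ha : a ∈ A)
    (h : τ a = a) : a = 1 := by
  have := hA.normal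
  by_contra h1
  exact d.s_ne (semireg d A hA.comm ha h1 (d.fix a h))

/-- `τ` inverts abelian normal subgroups -/
theorem Good.inverted (d : Conf act τ s) {A : Subgroup X} (hA : Good τ A) {a : X} (ha : a ∈ A) :
    τ a = a⁻¹ := by
  have h1 : a * τ a = 1 := by
    apply hA.fix d (mul_mem ha (hA.inv a ha))
    rw [map_mul, d.tt, hA.comm _ (hA.inv a ha) _ ha]
  exact (eq_inv_of_mul_eq_one_right h1)

theorem mul_invert {x y : X} (hx : τ x = x⁻¹) (hy : τ y = y⁻¹) (hxy : x * y = y * x) :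
    τ (x * y) = (x * y)⁻¹ := by
  rw [map_mul, hx, hy, hxy, mul_inv_rev]

theorem exists_decomp (d : Conf act τ s) (B : Subgroup X) (hB : ∀ x ∈ B, τ x ∈ B) {x : X} (hx : x ∈ B) :
    ∃ y ∈ B, ∃ z ∈ B, τ y = y ∧ τ z = z⁻¹ ∧ x = y * z := by
  set u := (τ x)⁻¹ * x with hu
  have hτu : τ u = u⁻¹ := by
    rw [hu, map_mul, map_inv, d.tt, mul_inv_rev, inv_inv]
  obtain ⟨k, hk⟩ := exists_sqrt d.odd u
  have huB : u ∈ B := mul_mem (inv_mem (hB x hx)) hx
  have hz : τ (u ^ k) = (u ^ k)⁻¹ := by rw [map_pow, hτu, inv_pow]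
  refine ⟨x * (u ^ k)⁻¹, mul_mem hx (inv_mem (pow_mem huB k)), u ^ k, pow_mem huB k, ?_, hz, by group⟩
  rw [map_mul, map_inv, hz, inv_inv]
  have h1 : x = τ x * (u ^ k * u ^ k) := by rw [hk, hu]; group
  calc τ x * u ^ k = τ x * (u ^ k * u ^ k) * (u ^ k)⁻¹ := by group
    _ = x * (u ^ k)⁻¹ := by rw [← h1]

/-- Elements inverted by `τ` centralize the good subgroups. -/
theorem Good.centralized (d : Conf act τ s) {A : Subgroup X} (hA : Good τ A) {k : X}
    (hk : τ k = k⁻¹) {a : X} (ha : a ∈ A) : k * a = a * k := by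
  have := hA.normal
  have h1 : k * a * k⁻¹ ∈ A := this.conj_mem a ha k
  have h2 := hA.inverted d h1
  rw [map_mul, map_mul, map_inv, hk, hA.inverted d ha, inv_inv] at h2
  -- k⁻¹ a⁻¹ k = k a⁻¹ k⁻¹
  have h3 : Commute (k * k) a := by
    have h4 : k⁻¹ * a⁻¹ * k = k * a⁻¹ * k⁻¹ := by rw [h2]; group
    have h5 : a⁻¹ * (k * k) = (k * k) * a⁻¹ := by
      calc a⁻¹ * (k * k) = k * (k⁻¹ * a⁻¹ * k) * k := by group
        _ = k * (k * a⁻¹ * k⁻¹) * k := by rw [h4]
        _ = (k * k) * a⁻¹ := by group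
    have h6 : Commute a⁻¹ (k * k) := h5
    exact (Commute.inv_left_iff.1 h6).symm
  obtain ⟨j, hj⟩ := exists_sqrt d.odd k
  have h7 : (k * k) ^ j = k := by rw [(Commute.refl k).mul_pow, hj]
  have h8 := h3.pow_left j
  rw [h7] at h8
  exact h8

end Semireg

section Main

variable {act : X →* MulAut Z} {τ : X →* X} {s : Z}

/-- The key step: no class two extension of a maximal good subgroup. -/
theorem key (d : Conf act τ s) [Finite Z] {A : Subgroup X} (hA : Good τ A)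
    (hmax : ∀ B : Subgroup X, Good τ B → A ≤ B → B = A) {B : Subgroup X} (hBn : B.Normal)
    (hBτ : ∀ x ∈ B, τ x ∈ B) (hAB : A ≤ B) (hcent : ∀ x ∈ B, ∀ a ∈ A, x * a = a * x)
    (hcomm : ∀ x ∈ B, ∀ y ∈ B, (x * y)⁻¹ * (y * x) ∈ A) {r : ℕ} (hr : r.Prime) (hr2 : r ≠ 2)
    (hBr : ∀ x ∈ B, x ^ r ∈ A) : B = A := by
  classical
  have hrf := Fact.mk hr
  have hz1 : Nontrivial Z := ⟨s, 1, d.s_ne⟩
  have hmem1 : ∀ x y : X, y * x = x * y * ((x * y)⁻¹ * (y * x)) := fun x y => by group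
  -- the commutator is fixed or inverted
  have hcpow : ∀ x ∈ B, ∀ y ∈ B, ((x * y)⁻¹ * (y * x)) ^ r = 1 := by
    intro x hx y hy
    have hc := hcomm x hx y hy
    exact H32MinAct.comm_pow (hcent x hx _ hc).symm (hcent y hy _ hc).symm (hmem1 x y)
      (hcent y hy _ (hBr x hx)).symm
  have hmulpow : ∀ x ∈ B, ∀ y ∈ B, (x * y) ^ r = x ^ r * y ^ r := by
    intro x hx y hy
    have hc := hcomm x hx y hy
    exact H32MinAct.mul_pow_prime hr hr2 (hcent x hx _ hc).symm (hcent y hy _ hc).symm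
      (hcpow x hx y hy) (hmem1 x y)
  have hF : ∀ x ∈ B, ∀ y ∈ B, τ x = x → τ y = y → x * y = y * x := by
    intro x hx y hy h1 h2
    have hc := hcomm x hx y hy
    have h3 : τ ((x * y)⁻¹ * (y * x)) = (x * y)⁻¹ * (y * x) := by
      rw [map_mul, map_inv, map_mul, map_mul, h1, h2]
    have h4 := hA.fix d hc h3
    exact (inv_mul_eq_one.1 h4)
  have hI : ∀ x ∈ B, ∀ y ∈ B, τ x = x⁻¹ → τ y = y⁻¹ → x * y = y * x := by
    intro x hx y hy h1 h2
    have hc := hcomm x hx y hy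
    have hcc : ∀ b ∈ B, b * ((x * y)⁻¹ * (y * x)) = (x * y)⁻¹ * (y * x) * b := fun b hb => hcent b hb _ hc
    have h3 : τ ((x * y)⁻¹ * (y * x)) = (x * y)⁻¹ * (y * x) := by
      rw [map_mul, map_inv, map_mul, map_mul, h1, h2]
      -- (x⁻¹ y⁻¹)⁻¹ (y⁻¹ x⁻¹) = y x y⁻¹ x⁻¹
      have h4 := hcc _ (mul_mem hx hy)
      calc (x⁻¹ * y⁻¹)⁻¹ * (y⁻¹ * x⁻¹) = (x * y) * ((x * y)⁻¹ * (y * x)) * (x * y)⁻¹ := by group
        _ = (x * y)⁻¹ * (y * x) := by rw [h4]; group
    have h4 := hA.fix d hc h3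
    exact (inv_mul_eq_one.1 h4)
  have hgood : (∀ a ∈ B, ∀ b ∈ B, a * b = b * a) → B = A := fun h => hmax B ⟨hBn, hBτ, h⟩ hAB
  by_contra hne
  have hnc : ∃ x ∈ B, ∃ y ∈ B, x * y ≠ y * x := by
    by_contra hcon
    push Not at hcon
    exact hne (hgood hcon)
  -- an element of order `r` in `A`
  obtain ⟨x, hx, y, hy, hxy⟩ := hnc
  set c := (x * y)⁻¹ * (y * x) with hc
  have hcA : c ∈ A := hcomm x hx y hy
  have hc1 : c ≠ 1 := fun h => hxy (inv_mul_eq_one.1 h)
  have hcr : c ^ r = 1 := hcpow x hx y hy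
  have hor : orderOf c = r := orderOf_eq_prime hcr hc1
  -- the inverted elements of `B`
  let BI : Subgroup X :=
  { carrier := {x | x ∈ B ∧ τ x = x⁻¹}
    one_mem' := ⟨one_mem _, by rw [map_one, inv_one]⟩
    mul_mem' := fun {a b} ha hb => ⟨mul_mem ha.1 hb.1,
      mul_invert ha.2 hb.2 (hI a ha.1 b hb.1 ha.2 hb.2)⟩
    inv_mem' := fun {a} ha => ⟨inv_mem ha.1, by rw [map_inv, ha.2]⟩ }
  have hBI : ∀ {x : X}, x ∈ BI ↔ x ∈ B ∧ τ x = x⁻¹ := Iff.rfl
  have hfpf : FrobAction.IsFPF (act.comp BI.subtype) := by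
    intro b hb v hv
    exact d.inv b b.2.2 (fun h => hb (Subtype.ext h)) v hv
  have hcyc : IsCyclic BI := FrobAction.isCyclic_of_comm hfpf
    (fun a b => Subtype.ext (hI a a.2.1 b b.2.1 a.2.2 b.2.2))
  have hcBI : c ∈ BI := ⟨hAB hcA, hA.inverted d hcA⟩
  have htors : ∀ z ∈ BI, z ^ r = 1 → z ∈ A := by
    intro z hz hzr
    have h1 : (⟨z, hz⟩ : BI) ∈ Subgroup.zpowers (⟨c, hcBI⟩ : BI) := by
      apply FrobAction3.mem_zpowers_of_isCyclic
      rw [Subgroup.orderOf_mk, Subgroup.orderOf_mk, hor]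
      exact orderOf_dvd_of_pow_eq_one hzr
    obtain ⟨j, hj⟩ := Subgroup.mem_zpowers_iff.1 h1
    have h2 : c ^ j = z := congrArg Subtype.val hj
    rw [← h2]
    exact zpow_mem hcA j
  -- a nontrivial fixed element of `B`
  obtain ⟨f, hfB, hf, hf1⟩ : ∃ f ∈ B, τ f = f ∧ f ≠ 1 := by
    by_contra hcon
    push Not at hcon
    apply hne
    apply hgood
    intro a ha b hb
    obtain ⟨y1, hy1, z1, hz1, e1, e2, rfl⟩ := exists_decomp d B hBτ ha
    obtain ⟨y2, hy2, z2, hz2, e3, e4, rfl⟩ := exists_decomp d B hBτ hb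
    rw [hcon y1 hy1 e1, hcon y2 hy2 e3, one_mul, one_mul]
    exact hI z1 hz1 z2 hz2 e2 e4
  have hFr : ∀ y ∈ B, τ y = y → y ^ r = 1 := by
    intro y hy h1
    exact hA.fix d (hBr y hy) (by rw [map_pow, h1])
  -- the elements of exponent `r`
  let Ω : Subgroup X :=
  { carrier := {x | x ∈ B ∧ x ^ r = 1}
    one_mem' := ⟨one_mem _, one_pow _⟩
    mul_mem' := fun {a b} ha hb => ⟨mul_mem ha.1 hb.1, by
      rw [hmulpow a ha.1 b hb.1, ha.2, hb.2, one_mul]⟩
    inv_mem' := fun {a} ha => ⟨inv_mem ha.1, by rw [inv_pow, ha.2, inv_one]⟩ }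
  have hΩ : ∀ {x : X}, x ∈ Ω ↔ x ∈ B ∧ x ^ r = 1 := Iff.rfl
  have hΩc : ∀ x ∈ Ω, ∃ y ∈ B, ∃ z ∈ A, τ y = y ∧ x = y * z := by
    rintro x ⟨hx, hxr⟩
    obtain ⟨y, hy, z, hz, e1, e2, rfl⟩ := exists_decomp d B hBτ hx
    rw [hmulpow y hy z hz, hFr y hy e1, one_mul] at hxr
    exact ⟨y, hy, z, htors z ⟨hz, e2⟩ hxr, e1, rfl⟩
  have hΩg : Good τ Ω :=
  { normal := ⟨fun x hx g => ⟨hBn.conj_mem x hx.1 g, by rw [conj_pow, hx.2]; group⟩⟩
    inv := fun x hx => ⟨hBτ x hx.1, by rw [← map_pow, hx.2, map_one]⟩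
    comm := by
      intro a ha b hb
      obtain ⟨y1, hy1, z1, hz1, e1, rfl⟩ := hΩc a ha
      obtain ⟨y2, hy2, z2, hz2, e2, rfl⟩ := hΩc b hb
      have h1 := hF y1 hy1 y2 hy2 e1 e2
      have h2 : z1 * y2 = y2 * z1 := (hcent y2 hy2 z1 hz1).symm
      have h3 : z2 * y1 = y1 * z2 := (hcent y1 hy1 z2 hz2).symm
      have h4 : z1 * z2 = z2 * z1 := hA.comm z1 hz1 z2 hz2
      calc y1 * z1 * (y2 * z2) = y1 * (z1 * y2) * z2 := by group
        _ = y1 * y2 * (z1 * z2) := by rw [h2]; group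
        _ = y2 * (y1 * z2) * z1 := by rw [h1, h4]; group
        _ = y2 * z2 * (y1 * z1) := by rw [← h3]; group }
  exact hf1 (hΩg.fix d (hΩ.2 ⟨hfB, hFr f hfB hf⟩) hf)

/-- the derived series of a subgroup, inside the group -/
def ser (C : Subgroup X) : ℕ → Subgroup X
  | 0 => C
  | n + 1 => ⁅ser C n, ser C n⁆

omit [Finite X] in
theorem ser_normal (C : Subgroup X) [hC : C.Normal] (n : ℕ) : (ser C n).Normal := by
  induction n with
  | zero => exact hC
  | succ n ih =>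
    have := ih
    exact (inferInstance : (⁅ser C n, ser C n⁆ : Subgroup X).Normal)

/-- A maximal good subgroup is self-centralizing. -/
theorem centralizer_le (d : Conf act τ s) [Finite Z] {A : Subgroup X} (hA : Good τ A)
    (hmax : ∀ B : Subgroup X, Good τ B → A ≤ B → B = A) : centralizer (A : Set X) ≤ A := by
  classical
  have hAn := hA.normal
  by_contra hcon
  set C := centralizer (A : Set X) with hC
  have hCmem : ∀ {x : X}, x ∈ C ↔ ∀ a ∈ A, x * a = a * x := by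
    intro x
    rw [hC, mem_centralizer_iff]
    exact ⟨fun h a ha => (h a ha).symm, fun h a ha => (h a ha).symm⟩
  have hAC : A ≤ C := fun a ha => hCmem.2 fun b hb => hA.comm a ha b hb
  have hCn : C.Normal := by rw [hC]; infer_instance
  have hCτ : ∀ x ∈ C, τ x ∈ C := by
    intro x hx
    rw [hCmem]
    intro a ha
    have h1 := hCmem.1 hx (τ a) (hA.inv a ha)
    have h2 := congrArg τ h1
    rwa [map_mul, map_mul, d.tt] at h2
  -- the derived series of `C`
  obtain ⟨F, hFd'⟩ : ∃ F, F = ser C := ⟨_, rfl⟩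
  have hF0 : F 0 = C := by rw [hFd']; rfl
  have hFs : ∀ n, F (n + 1) = ⁅F n, F n⁆ := fun n => by rw [hFd']; rfl
  have hFn : ∀ n, (F n).Normal := fun n => by rw [hFd']; exact ser_normal C n
  have hFτ : ∀ n, ∀ x ∈ F n, τ x ∈ F n := by
    intro n
    induction n with
    | zero => rw [hF0]; exact hCτ
    | succ n ih =>
      intro x hx
      have h1 : (F n).map τ ≤ F n := by
        rintro _ ⟨y, hy, rfl⟩; exact ih y hy
      have h2 : (F (n + 1)).map τ ≤ F (n + 1) := by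
        rw [hFs, map_commutator]
        exact commutator_mono h1 h1
      exact h2 ⟨x, hx, rfl⟩
  have hFC : ∀ n, F n ≤ C := by
    intro n
    induction n with
    | zero => rw [hF0]
    | succ n ih =>
      rw [hFs]
      have := hFn n
      exact (commutator_le_left (F n) (F n)).trans ih
  have hFd : ∀ n, F n ≤ derivedSeries X n := by
    intro n
    induction n with
    | zero => rw [derivedSeries_zero]; exact le_top
    | succ n ih => rw [hFs, derivedSeries_succ]; exact commutator_mono ih ih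
  obtain ⟨n, hn⟩ := d.solv.solvable
  have hex : ∃ k, F k ≤ A := ⟨n, by
    have := hFd n; rw [hn] at this; exact this.trans bot_le⟩
  obtain ⟨j, hj1, hj2⟩ : ∃ j, ¬ F j ≤ A ∧ F (j + 1) ≤ A := by
    have h1 := Nat.find_spec hex
    have h2 : Nat.find hex ≠ 0 := by
      intro h
      rw [h, hF0] at h1
      exact hcon h1
    obtain ⟨j, hj⟩ := Nat.exists_eq_succ_of_ne_zero h2
    refine ⟨j, Nat.find_min hex (by omega), ?_⟩
    rw [hj] at h1
    exact h1
  -- `B₀ = F j A`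
  have hFjn := hFn j
  set B₀ : Subgroup X := F j ⊔ A with hB₀
  have hB₀C : B₀ ≤ C := sup_le (hFC j) hAC
  have hB₀n : B₀.Normal := by rw [hB₀]; infer_instance
  have hB₀τ : ∀ x ∈ B₀, τ x ∈ B₀ := by
    intro x hx
    rw [hB₀, mem_sup_of_normal_right] at hx ⊢
    obtain ⟨y, hy, z, hz, rfl⟩ := hx
    exact ⟨τ y, hFτ j y hy, τ z, hA.inv z hz, (map_mul _ _ _).symm⟩
  have hB₀c : ∀ x ∈ B₀, ∀ y ∈ B₀, (x * y)⁻¹ * (y * x) ∈ A := by
    intro x hx y hy
    rw [hB₀, mem_sup_of_normal_right] at hx hy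
    obtain ⟨x1, hx1, a, ha, rfl⟩ := hx
    obtain ⟨y1, hy1, b, hb, rfl⟩ := hy
    have e1 := hCmem.1 (hFC j hx1)
    have e2 := hCmem.1 (hFC j hy1)
    have h1 : (x1 * y1)⁻¹ * (y1 * x1) ∈ A := by
      apply hj2
      rw [hFs]
      have := commutator_mem_commutator (inv_mem hy1) (inv_mem hx1)
      rw [commutatorElement_def] at this
      have e : y1⁻¹ * x1⁻¹ * y1⁻¹⁻¹ * x1⁻¹⁻¹ = (x1 * y1)⁻¹ * (y1 * x1) := by group
      rwa [e] at this
    have h2 : (x1 * a * (y1 * b))⁻¹ * (y1 * b * (x1 * a)) = (x1 * y1)⁻¹ * (y1 * x1) := by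
      have e3 : x1 * a * (y1 * b) = x1 * y1 * (a * b) := by
        calc x1 * a * (y1 * b) = x1 * (a * y1) * b := by group
          _ = x1 * y1 * (a * b) := by rw [← e2 a ha]; group
      have e4 : y1 * b * (x1 * a) = y1 * x1 * (a * b) := by
        calc y1 * b * (x1 * a) = y1 * (b * x1) * a := by group
          _ = y1 * x1 * (b * a) := by rw [← e1 b hb]; group
          _ = y1 * x1 * (a * b) := by rw [hA.comm b hb a ha]
      have hab : a * b ∈ A := mul_mem ha hb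
      have e5 : (x1 * y1)⁻¹ * (y1 * x1) * (a * b) = (a * b) * ((x1 * y1)⁻¹ * (y1 * x1)) :=
        hA.comm _ h1 _ hab
      rw [e3, e4]
      calc (x1 * y1 * (a * b))⁻¹ * (y1 * x1 * (a * b))
          = (a * b)⁻¹ * ((x1 * y1)⁻¹ * (y1 * x1) * (a * b)) := by group
        _ = (x1 * y1)⁻¹ * (y1 * x1) := by rw [e5]; group
    rw [h2]
    exact h1
  -- an element of prime order modulo `A`
  obtain ⟨x, hxF, hxA⟩ : ∃ x ∈ F j, x ∉ A := by
    by_contra h; push Not at h; exact hj1 h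
  have hπx : ((x : X) : X ⧸ A) ≠ 1 := fun h => hxA ((QuotientGroup.eq_one_iff x).mp h)
  have ho1 : orderOf ((x : X) : X ⧸ A) ≠ 1 := fun h => hπx (orderOf_eq_one_iff.1 h)
  obtain ⟨r, hr, hrd⟩ := Nat.exists_prime_and_dvd ho1
  have hrodd : r ≠ 2 := by
    rintro rfl
    have h1 : (2 : ℕ) ∣ Nat.card (X ⧸ A) := hrd.trans (orderOf_dvd_natCard _)
    have h2 : (2 : ℕ) ∣ Nat.card X := h1.trans (Subgroup.card_quotient_dvd_card A)
    exact (Nat.not_even_iff_odd.2 d.odd) (even_iff_two_dvd.2 h2)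
  set x₀ := x ^ (orderOf ((x : X) : X ⧸ A) / r) with hx₀
  have hx₀o : orderOf ((x₀ : X) : X ⧸ A) = r := by
    have e : ((x₀ : X) : X ⧸ A) = ((x : X) : X ⧸ A) ^ (orderOf ((x : X) : X ⧸ A) / r) := rfl
    rw [e, orderOf_pow_orderOf_div (orderOf_pos _).ne' hrd]
  have hx₀A : x₀ ∉ A := by
    intro h
    have h1 : ((x₀ : X) : X ⧸ A) = 1 := (QuotientGroup.eq_one_iff x₀).mpr h
    rw [h1, orderOf_one] at hx₀o
    exact hr.one_lt.ne hx₀o
  let B : Subgroup X :=
  { carrier := {x | x ∈ B₀ ∧ x ^ r ∈ A}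
    one_mem' := ⟨one_mem _, by rw [one_pow]; exact one_mem _⟩
    mul_mem' := fun {a b} ha hb => ⟨mul_mem ha.1 hb.1, by
      have h1 : Commute ((a : X) : X ⧸ A) ((b : X) : X ⧸ A) := by
        have h2 := hB₀c a ha.1 b hb.1
        show ((a * b : X) : X ⧸ A) = ((b * a : X) : X ⧸ A)
        exact QuotientGroup.eq.2 h2
      rw [← QuotientGroup.eq_one_iff, QuotientGroup.mk_pow, QuotientGroup.mk_mul, h1.mul_pow,
        ← QuotientGroup.mk_pow, ← QuotientGroup.mk_pow, (QuotientGroup.eq_one_iff _).mpr ha.2,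
        (QuotientGroup.eq_one_iff _).mpr hb.2, one_mul]⟩
    inv_mem' := fun {a} ha => ⟨inv_mem ha.1, by rw [inv_pow]; exact inv_mem ha.2⟩ }
  have hB : ∀ {x : X}, x ∈ B ↔ x ∈ B₀ ∧ x ^ r ∈ A := Iff.rfl
  have hAB₀ : A ≤ B₀ := le_sup_right
  have hres := key d hA hmax (B := B) ⟨fun x hx g => ⟨hB₀n.conj_mem x hx.1 g, by
      rw [conj_pow]; exact hAn.conj_mem _ hx.2 g⟩⟩
    (fun x hx => ⟨hB₀τ x hx.1, by rw [← map_pow]; exact hA.inv _ hx.2⟩)
    (fun a ha => ⟨hAB₀ ha, pow_mem ha r⟩) (fun x hx a ha => hCmem.1 (hB₀C hx.1) a ha)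
    (fun x hx y hy => hB₀c x hx.1 y hy.1) hr hrodd (fun x hx => hx.2)
  apply hx₀A
  rw [← hres]
  refine ⟨(le_sup_left : F j ≤ B₀) (pow_mem hxF _), ?_⟩
  rw [← QuotientGroup.eq_one_iff, QuotientGroup.mk_pow, ← hx₀o, pow_orderOf_eq_one]

/-- The inverted elements form a self-centralizing cyclic normal subgroup. -/
theorem main (d : Conf act τ s) [Finite Z] :
    ∃ C : Subgroup X, (∀ x, x ∈ C ↔ τ x = x⁻¹) ∧ IsCyclic C ∧ C.Normal ∧
      centralizer (C : Set X) ≤ C := by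
  obtain ⟨A, hA⟩ := (Set.toFinite {A : Subgroup X | Good τ A}).exists_maximal
    ⟨⊥, ⟨inferInstance, fun a ha => by rw [mem_bot] at ha ⊢; rw [ha, map_one],
      fun a ha b hb => by rw [mem_bot] at ha hb; rw [ha, hb]⟩⟩
  have hg : Good τ A := hA.1
  have hmax : ∀ B : Subgroup X, Good τ B → A ≤ B → B = A := fun B hB hAB =>
    le_antisymm (hA.2 hB hAB) hAB
  have hAn := hg.normal
  have hc := centralizer_le d hg hmax
  have hz1 : Nontrivial Z := ⟨s, 1, d.s_ne⟩
  refine ⟨A, fun x => ⟨fun hx => hg.inverted d hx, fun hx => hc ?_⟩, ?_, hAn, hc⟩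
  · rw [mem_centralizer_iff]
    intro a ha
    exact (hg.centralized d hx ha).symm
  · have hfpf : FrobAction.IsFPF (act.comp A.subtype) := by
      intro b hb v hv
      exact d.inv b (hg.inverted d b.2) (fun h => hb (Subtype.ext h)) v hv
    exact FrobAction.isCyclic_of_comm hfpf (fun a b => Subtype.ext (hg.comm a a.2 b b.2))

end Main

end Cfsg.Agent.Lib.H26SuzK
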