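import Mathlib
import Cfsg.Prelude.Def_LieRecognition
import Cfsg.Agent.Lib.OddInv

/-!
The split rank-one set-up (Peterfalvi, "A theorem of Suzuki", section 1).
-/

set_option autoImplicit false

namespace Cfsg.Agent.Lib.RankOne

open MulAction

variable {G Ω : Type*} [Group G] [MulAction G Ω] {a : Ω} {t : G} {Q : Subgroup G}

theorem mem_D {x : G} : x ∈ stabilizer G a ⊓ stabilizer G (t • a) ↔ x • a = a ∧ x • t • a = t • a := Iff.rfl

section basic

variable (hS : Cfsg.IsRankOneSetup G Ω a t Q)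
include hS

theorem t_inv : t⁻¹ = t := by
  rw [inv_eq_iff_mul_eq_one]; exact hS.mul_self

theorem ta_ne : t • a ≠ a := fun h => hS.not_mem (mem_stabilizer_iff.2 h)

theorem tta : t • (t • a) = a := by rw [smul_smul, hS.mul_self, one_smul]

theorem two_trans {x y x' y' : Ω} (h : x ≠ y) (h' : x' ≠ y') : ∃ g : G, g • x = x' ∧ g • y = y' :=
  (is_two_pretransitive_iff.1 hS.two_transitive) h h'

/-- every element of `G_a` is `y d`. -/
theorem exists_mul {g : G} (hg : g ∈ stabilizer G a) :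
    ∃ y ∈ Q, ∃ d ∈ stabilizer G a ⊓ stabilizer G (t • a), g = y * d := by
  let D := stabilizer G a ⊓ stabilizer G (t • a)
  let S : Subgroup G :=
    { carrier := {g | ∃ y ∈ Q, ∃ d ∈ D, g = y * d}
      mul_mem' := by
        rintro _ _ ⟨y, hy, d, hd, rfl⟩ ⟨y', hy', d', hd', rfl⟩
        exact ⟨y * (d * y' * d⁻¹), Q.mul_mem hy (hS.conj_mem d hd.1 y' hy'), d * d', D.mul_mem hd hd', by group⟩
      one_mem' := ⟨1, Q.one_mem, 1, D.one_mem, by simp⟩
      inv_mem' := by
        rintro _ ⟨y, hy, d, hd, rfl⟩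
        refine ⟨d⁻¹ * y⁻¹ * d, ?_, d⁻¹, D.inv_mem hd, by group⟩
        have := hS.conj_mem d⁻¹ (D.inv_mem hd).1 y⁻¹ (Q.inv_mem hy)
        rwa [inv_inv] at this }
  have h1 : Q ⊔ D ≤ S := by
    apply sup_le
    · intro y hy; exact ⟨y, hy, 1, D.one_mem, by simp⟩
    · intro d hd; exact ⟨1, Q.one_mem, d, hd, by simp⟩
  have : g ∈ Q ⊔ D := by rw [hS.sup_eq]; exact hg
  exact h1 this

theorem Q_trans {b : Ω} (hb : b ≠ a) : ∃ y ∈ Q, y • (t • a) = b := by
  obtain ⟨g, hg1, hg2⟩ := two_trans hS (ta_ne hS).symm hb.symm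
  obtain ⟨y, hy, d, hd, rfl⟩ := exists_mul hS (mem_stabilizer_iff.2 hg1)
  refine ⟨y, hy, ?_⟩
  rw [mul_smul, mem_stabilizer_iff.1 hd.2] at hg2
  exact hg2

theorem Q_fix {x : G} (hx : x ∈ Q) : x • a = a := mem_stabilizer_iff.1 (hS.le hx)

theorem Q_free {x : G} (hx : x ∈ Q) (hx1 : x ≠ 1) {b : Ω} (hb : x • b = b) : b = a := by
  by_contra hba
  obtain ⟨y, hy, rfl⟩ := Q_trans hS hba
  apply hx1
  have h1 : y⁻¹ * x * y ∈ Q ⊓ stabilizer G (t • a) := by
    refine Subgroup.mem_inf.2 ⟨Q.mul_mem (Q.mul_mem (Q.inv_mem hy) hx) hy, ?_⟩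
    rw [mem_stabilizer_iff, mul_smul, mul_smul, hb, inv_smul_smul]
  rw [hS.inf_eq_bot, Subgroup.mem_bot] at h1
  have : x = y * (y⁻¹ * x * y) * y⁻¹ := by group
  rw [this, h1]; group

theorem Q_eq {x y : G} (hx : x ∈ Q) (hy : y ∈ Q) {b : Ω} (hb : b ≠ a) (h : x • b = y • b) : x = y := by
  by_contra hne
  apply hb
  apply Q_free hS (x := y⁻¹ * x) (Q.mul_mem (Q.inv_mem hy) hx)
  · intro h1
    apply hne
    rw [inv_mul_eq_one] at h1; exact h1.symm
  · rw [mul_smul, h, inv_smul_smul]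

theorem Q_reg {b c : Ω} (hb : b ≠ a) (hc : c ≠ a) : ∃! x : Q, (x : G) • b = c := by
  obtain ⟨y, hy, rfl⟩ := Q_trans hS hb
  obtain ⟨z, hz, rfl⟩ := Q_trans hS hc
  refine ⟨⟨z * y⁻¹, Q.mul_mem hz (Q.inv_mem hy)⟩, ?_, ?_⟩
  · simp [mul_smul]
  · rintro ⟨w, hw⟩ hw'
    simp only at hw'
    have := Q_eq hS hw (Q.mul_mem hz (Q.inv_mem hy)) hb (by rw [hw']; simp [mul_smul])
    exact Subtype.ext this

theorem Q_inf_D {x : G} (hx : x ∈ Q) (hxD : x ∈ stabilizer G a ⊓ stabilizer G (t • a)) : x = 1 := by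
  have : x ∈ Q ⊓ stabilizer G (t • a) := ⟨hx, hxD.2⟩
  rw [hS.inf_eq_bot] at this
  exact Subgroup.mem_bot.1 this

/-- `t` normalises `D`. -/
theorem t_conj_D {x : G} (hx : x ∈ stabilizer G a ⊓ stabilizer G (t • a)) :
    t * x * t⁻¹ ∈ stabilizer G a ⊓ stabilizer G (t • a) := by
  rw [t_inv hS]
  rw [mem_D] at hx ⊢
  constructor
  · rw [mul_smul, mul_smul, hx.2, tta hS]
  · rw [mul_smul, mul_smul, tta hS, hx.1]

end basic

section dihedral

/-- In a dihedral group generated by two involutions whose product has even order there is an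
involution commuting with both. -/
theorem exists_central_invol {H : Type*} [Group H] [Finite H] {s u : H} (hs : s * s = 1)
    (hu : u * u = 1) (heven : ¬ Odd (orderOf (s * u))) : ∃ z : H, z ≠ 1 ∧ z * z = 1 ∧ z * s = s * z ∧ z * u = u * z := by
  rw [Nat.not_odd_iff_even] at heven
  obtain ⟨m, hm⟩ := heven
  have hpos : 0 < orderOf (s * u) := orderOf_pos _
  have hsi : s⁻¹ = s := by rw [inv_eq_iff_mul_eq_one]; exact hs
  have hui : u⁻¹ = u := by rw [inv_eq_iff_mul_eq_one]; exact hu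
  have hz2 : (s * u) ^ m * (s * u) ^ m = 1 := by
    rw [← pow_add, ← hm, pow_orderOf_eq_one]
  have hzi : ((s * u) ^ m)⁻¹ = (s * u) ^ m := by rw [inv_eq_iff_mul_eq_one]; exact hz2
  refine ⟨(s * u) ^ m, ?_, hz2, ?_, ?_⟩
  · intro h
    have := orderOf_dvd_of_pow_eq_one h
    have := Nat.le_of_dvd (by omega) this
    omega
  · have h1 : s * (s * u) ^ m * s⁻¹ = (s * u) ^ m := by
      rw [← conj_pow]
      have : s * (s * u) * s⁻¹ = (s * u)⁻¹ := by
        rw [mul_inv_rev, hui, hsi, ← mul_assoc, hs, one_mul]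
      rw [this, inv_pow, hzi]
    rw [mul_inv_eq_iff_eq_mul] at h1
    exact h1.symm
  · have h1 : u * (s * u) ^ m * u⁻¹ = (s * u) ^ m := by
      rw [← conj_pow]
      have : u * (s * u) * u⁻¹ = (s * u)⁻¹ := by
        rw [mul_inv_rev, hui, hsi, mul_assoc, mul_assoc, hu, mul_one]
      rw [this, inv_pow, hzi]
    rw [mul_inv_eq_iff_eq_mul] at h1
    exact h1.symm

/-- two involutions with product of odd order are conjugate, by the involution `w`, or by a power of the product. -/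
theorem exists_pow_conj {H : Type*} [Group H] {s u : H} (hs : s * s = 1)
    (hu : u * u = 1) (hodd : Odd (orderOf (u * s))) : ∃ k : ℕ, (u * s) ^ k * s * ((u * s) ^ k)⁻¹ = u := by
  obtain ⟨k, hk⟩ := OddInv.exists_sqrt hodd
  have hsi : s⁻¹ = s := by rw [inv_eq_iff_mul_eq_one]; exact hs
  have hui : u⁻¹ = u := by rw [inv_eq_iff_mul_eq_one]; exact hu
  refine ⟨k, ?_⟩
  have h1 : s * (u * s) ^ k * s⁻¹ = ((u * s) ^ k)⁻¹ := by
    rw [← conj_pow, ← inv_pow]
    congr 1
    rw [mul_inv_rev, hui, hsi, mul_assoc, mul_assoc, hs, mul_one]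
  have h2 : s * ((u * s) ^ k)⁻¹ = (u * s) ^ k * s := by
    have h3 : s * ((u * s) ^ k)⁻¹ * s⁻¹ = (u * s) ^ k := by
      calc s * ((u * s) ^ k)⁻¹ * s⁻¹ = (s * (u * s) ^ k * s⁻¹)⁻¹ := by group
        _ = (u * s) ^ k := by rw [h1, inv_inv]
    exact mul_inv_eq_iff_eq_mul.1 h3
  rw [mul_assoc, h2, ← mul_assoc, hk, mul_assoc, hs, mul_one]

theorem exists_invol_conj {H : Type*} [Group H] {s u : H} (hs : s * s = 1)
    (hu : u * u = 1) (hodd : Odd (orderOf (u * s))) : ∃ w : H, w * w = 1 ∧ w * s * w = u := by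
  obtain ⟨k, hk⟩ := OddInv.exists_sqrt hodd
  have hsi : s⁻¹ = s := by rw [inv_eq_iff_mul_eq_one]; exact hs
  have hui : u⁻¹ = u := by rw [inv_eq_iff_mul_eq_one]; exact hu
  have h1 : s * (u * s) ^ k * s = ((u * s) ^ k)⁻¹ := by
    have h0 : s * (u * s) ^ k * s⁻¹ = ((u * s) ^ k)⁻¹ := by
      rw [← conj_pow, ← inv_pow]
      congr 1
      rw [mul_inv_rev, hui, hsi, mul_assoc, mul_assoc, hs, mul_one]
    rwa [hsi] at h0
  have h2 : s * (u * s) ^ k = ((u * s) ^ k)⁻¹ * s := by
    rw [← h1, mul_assoc, hs, mul_one]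
  refine ⟨(u * s) ^ k * s, ?_, ?_⟩
  · calc (u * s) ^ k * s * ((u * s) ^ k * s) = (u * s) ^ k * (s * (u * s) ^ k * s) := by group
      _ = 1 := by rw [h1]; group
  · calc (u * s) ^ k * s * s * ((u * s) ^ k * s) = (u * s) ^ k * (s * s) * (u * s) ^ k * s := by group
      _ = ((u * s) ^ k * (u * s) ^ k) * s := by rw [hs, mul_one]
      _ = u := by rw [hk, mul_assoc, hs, mul_one]

theorem odd_orderOf_comm {H : Type*} [Group H] {s u : H} (h : Odd (orderOf (s * u))) : Odd (orderOf (u * s)) := by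
  have : u * s = MulAut.conj u (s * u) := by rw [MulAut.conj_apply]; group
  rw [this, MulEquiv.orderOf_eq]
  exact h

end dihedral

section finite

variable [Finite G] (hS : Cfsg.IsRankOneSetup G Ω a t Q)
include hS

theorem D_sq {d : G} (hd : d ∈ stabilizer G a ⊓ stabilizer G (t • a)) (h : d * d = 1) : d = 1 :=
  OddInv.eq_one_of_sq_eq_one hS.odd_card hd h

theorem mem_Q_of_sq {x : G} (hx : x ∈ stabilizer G a) (h : x * x = 1) : x ∈ Q := by
  obtain ⟨y, hy, d, hd, rfl⟩ := exists_mul hS hx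
  have h1 : d * d = (y * (d * y * d⁻¹))⁻¹ := by
    rw [eq_inv_iff_mul_eq_one]
    calc d * d * (y * (d * y * d⁻¹)) = (d * d) * ((y * d * (y * d)) * (d * d)⁻¹) := by group
      _ = 1 := by rw [h]; group
  have h2 : d * d = 1 := by
    apply Q_inf_D hS _ (Subgroup.mul_mem _ hd hd)
    rw [h1]
    exact Q.inv_mem (Q.mul_mem hy (hS.conj_mem d hd.1 y hy))
  rw [D_sq hS hd h2, mul_one]
  exact hy

theorem invol_fix_only {x : G} (hx : x • a = a) (hx1 : x ≠ 1) (h : x * x = 1) {b : Ω} (hb : x • b = b) : b = a :=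
  Q_free hS (mem_Q_of_sq hS (mem_stabilizer_iff.2 hx) h) hx1 hb

theorem exists_invol : ∃ s ∈ Q, s ≠ 1 ∧ s * s = 1 := by
  have : Fact (Nat.Prime 2) := ⟨Nat.prime_two⟩
  obtain ⟨x, hx⟩ := exists_prime_orderOf_dvd_card' (G := Q) 2 (even_iff_two_dvd.1 hS.even_card)
  refine ⟨x, x.2, ?_, ?_⟩
  · intro h
    have : x = 1 := Subtype.ext h
    rw [this, orderOf_one] at hx
    omega
  · have h := pow_orderOf_eq_one x
    rw [hx, pow_two] at h
    exact congrArg Subtype.val h

/-- The centraliser of an involution of `G_a` lies in `G_a`. -/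
theorem centralizer_le {s : G} (hsa : s • a = a) (hs1 : s ≠ 1) (hs : s * s = 1) {g : G} (hg : g * s = s * g) :
    g • a = a := by
  apply invol_fix_only hS hsa hs1 hs
  rw [smul_smul, ← hg, mul_smul, hsa]

theorem odd_mul {s u : G} (hsa : s • a = a) (hs1 : s ≠ 1) (hs : s * s = 1) (hua : u • a ≠ a) (hu : u * u = 1) :
    Odd (orderOf (s * u)) := by
  by_contra hodd
  obtain ⟨z, hz1, hz, hzs, hzu⟩ := exists_central_invol hs hu hodd
  have hza : z • a = a := centralizer_le hS hsa hs1 hs hzs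
  exact hua (centralizer_le hS hza hz1 hz hzu.symm)

theorem exists_invol_a : ∃ s : G, s • a = a ∧ s ≠ 1 ∧ s * s = 1 := by
  obtain ⟨s, hs, h1, h2⟩ := exists_invol hS
  exact ⟨s, Q_fix hS hs, h1, h2⟩

theorem conj_invol {u v : G} (hu1 : u ≠ 1) (hu : u * u = 1) (hv1 : v ≠ 1) (hv : v * v = 1) :
    ∃ g : G, g * u * g⁻¹ = v := by
  -- it is enough to conjugate everything to t
  suffices h : ∀ u : G, u ≠ 1 → u * u = 1 → ∃ g : G, g * u * g⁻¹ = t by
    obtain ⟨g, hg⟩ := h u hu1 hu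
    obtain ⟨g', hg'⟩ := h v hv1 hv
    refine ⟨g'⁻¹ * g, ?_⟩
    calc g'⁻¹ * g * u * (g'⁻¹ * g)⁻¹ = g'⁻¹ * (g * u * g⁻¹) * g' := by group
      _ = g'⁻¹ * (g' * v * g'⁻¹) * g' := by rw [hg, hg']
      _ = v := by group
  have key : ∀ u : G, u ≠ 1 → u * u = 1 → u • a = a → ∀ w : G, w * w = 1 → w • a ≠ a → ∃ g : G, g * u * g⁻¹ = w := by
    intro u hu1 hu hua w hw hwa
    have hodd := odd_mul hS hua hu1 hu hwa hw
    have hodd' : Odd (orderOf (w * u)) := by
      have : w * u = MulAut.conj u⁻¹ (u * w) := by rw [MulAut.conj_apply]; group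
      rw [this, MulEquiv.orderOf_eq]
      exact hodd
    obtain ⟨k, hk⟩ := exists_pow_conj hu hw hodd'
    exact ⟨_, hk⟩
  intro u hu1 hu
  by_cases hua : u • a = a
  · exact key u hu1 hu hua t hS.mul_self (ta_ne hS)
  · obtain ⟨s, hsa, hs1, hs⟩ := exists_invol_a hS
    obtain ⟨g, hg⟩ := key s hs1 hs hsa u hu hua
    obtain ⟨g', hg'⟩ := key s hs1 hs hsa t hS.mul_self (ta_ne hS)
    refine ⟨g' * g⁻¹, ?_⟩
    calc g' * g⁻¹ * u * (g' * g⁻¹)⁻¹ = g' * (g⁻¹ * u * g) * g'⁻¹ := by group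
      _ = g' * (g⁻¹ * (g * s * g⁻¹) * g) * g'⁻¹ := by rw [hg]
      _ = g' * s * g'⁻¹ := by group
      _ = t := hg'

/-- every involution fixes a point. -/
theorem exists_fix {u : G} (hu1 : u ≠ 1) (hu : u * u = 1) : ∃ c : Ω, u • c = c ∧ ∀ b : Ω, u • b = b → b = c := by
  obtain ⟨s, hsa, hs1, hs⟩ := exists_invol_a hS
  obtain ⟨g, rfl⟩ := conj_invol hS hs1 hs hu1 hu
  refine ⟨g • a, ?_, ?_⟩
  · rw [mul_smul, mul_smul, inv_smul_smul, hsa]
  · intro b hb
    have : g⁻¹ • b = a := by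
      apply invol_fix_only hS hsa hs1 hs
      have := congrArg (fun x => g⁻¹ • x) hb
      simpa [mul_smul] using this
    rw [← this, smul_inv_smul]

/-- the uniqueness of the fixed point. -/
theorem fix_unique {u : G} (hu1 : u ≠ 1) (hu : u * u = 1) {b c : Ω} (hb : u • b = b) (hc : u • c = c) : b = c := by
  obtain ⟨d, _, hd⟩ := exists_fix hS hu1 hu
  rw [hd b hb, hd c hc]

theorem card_Ga : Nat.card (stabilizer G a) =
    Nat.card Q * Nat.card ↥(stabilizer G a ⊓ stabilizer G (t • a)) := by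
  rw [← Nat.card_prod]
  symm
  refine Nat.card_congr (Equiv.ofBijective
    (fun p : Q × ↥(stabilizer G a ⊓ stabilizer G (t • a)) =>
      (⟨p.1.1 * p.2.1, (stabilizer G a).mul_mem (hS.le p.1.2) p.2.2.1⟩ : stabilizer G a)) ⟨?_, ?_⟩)
  · rintro ⟨⟨y, hy⟩, ⟨d, hd⟩⟩ ⟨⟨y', hy'⟩, ⟨d', hd'⟩⟩ h
    simp only [Subtype.mk.injEq] at h
    have h1 : y'⁻¹ * y = 1 := by
      apply Q_inf_D hS (Q.mul_mem (Q.inv_mem hy') hy)
      have : y'⁻¹ * y = d' * d⁻¹ := by
        rw [inv_mul_eq_iff_eq_mul, ← mul_assoc, ← h]; group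
      rw [this]
      exact Subgroup.mul_mem _ hd' (Subgroup.inv_mem _ hd)
    have h2 : y = y' := (inv_mul_eq_one.1 h1).symm
    subst h2
    have h3 : d = d' := mul_left_cancel h
    subst h3
    rfl
  · rintro ⟨g, hg⟩
    obtain ⟨y, hy, d, hd, rfl⟩ := exists_mul hS hg
    exact ⟨(⟨y, hy⟩, ⟨d, hd⟩), rfl⟩

theorem card_Ω : Nat.card Ω = Nat.card Q + 1 := by
  rw [← Finite.card_option]
  symm
  refine Nat.card_congr (Equiv.ofBijective (fun o : Option Q => match o with
    | none => a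
    | some x => (x : G) • t • a) ⟨?_, ?_⟩)
  · rintro (_ | ⟨x, hx⟩) (_ | ⟨y, hy⟩) h
    · rfl
    · exfalso
      apply ta_ne hS
      simp only at h
      have := congrArg (fun z => y⁻¹ • z) h
      simp only [inv_smul_smul] at this
      rw [← this, Q_fix hS (Q.inv_mem hy)]
    · exfalso
      apply ta_ne hS
      simp only at h
      have := congrArg (fun z => x⁻¹ • z) h
      simp only [inv_smul_smul] at this
      rw [this, Q_fix hS (Q.inv_mem hx)]
    · simp only at h
      have := Q_eq hS hx hy (ta_ne hS) h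
      subst this; rfl
  · intro b
    by_cases hb : b = a
    · exact ⟨none, hb.symm⟩
    · obtain ⟨y, hy, h⟩ := Q_trans hS hb
      exact ⟨some ⟨y, hy⟩, h⟩

theorem card_G : Nat.card G =
    Nat.card Q * Nat.card ↥(stabilizer G a ⊓ stabilizer G (t • a)) * (Nat.card Q + 1) := by
  have : MulAction.IsPretransitive G Ω := by
    have := hS.two_transitive
    exact isPretransitive_of_is_two_pretransitive
  rw [← Subgroup.card_mul_index (stabilizer G a), index_stabilizer_of_transitive, card_Ω hS, card_Ga hS]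

theorem exists_sylow_le : ∃ P : Sylow 2 G, (P : Subgroup G) ≤ Q := by
  have : Fact (Nat.Prime 2) := ⟨Nat.prime_two⟩
  obtain ⟨S⟩ : Nonempty (Sylow 2 Q) := inferInstance
  have hp : IsPGroup 2 ((S : Subgroup Q).map Q.subtype) := S.isPGroup'.map _
  obtain ⟨P, hP⟩ := hp.exists_le_sylow
  refine ⟨P, ?_⟩
  have hle : (S : Subgroup Q).map Q.subtype ≤ Q := by
    rintro _ ⟨x, _, rfl⟩; exact x.2
  have hcard : Nat.card ((S : Subgroup Q).map Q.subtype) = Nat.card P := by
    rw [P.card_eq_multiplicity]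
    have h1 : Nat.card ((S : Subgroup Q).map Q.subtype) = Nat.card S :=
      Nat.card_congr ((S : Subgroup Q).equivMapOfInjective Q.subtype Q.subtype_injective).symm.toEquiv
    rw [h1, S.card_eq_multiplicity, card_G hS]
    congr 1
    have hQ : Nat.card Q ≠ 0 := Nat.card_pos.ne'
    have hD : Nat.card ↥(stabilizer G a ⊓ stabilizer G (t • a)) ≠ 0 := Nat.card_pos.ne'
    rw [Nat.factorization_mul (Nat.mul_ne_zero hQ hD) (by omega), Nat.factorization_mul hQ hD]
    simp only [Finsupp.coe_add, Pi.add_apply]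
    have f1 : (Nat.card ↥(stabilizer G a ⊓ stabilizer G (t • a))).factorization 2 = 0 := by
      apply Nat.factorization_eq_zero_of_not_dvd
      rw [← even_iff_two_dvd, Nat.not_even_iff_odd]; exact hS.odd_card
    have f2 : (Nat.card Q + 1).factorization 2 = 0 := by
      apply Nat.factorization_eq_zero_of_not_dvd
      have := hS.even_card
      rw [← even_iff_two_dvd]
      simpa [Nat.even_add_one] using this
    rw [f1, f2]; omega
  have heq : (S : Subgroup Q).map Q.subtype = P := by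
    apply SetLike.coe_injective
    apply Set.eq_of_subset_of_ncard_le hP
    rw [← Nat.card_coe_set_eq, ← Nat.card_coe_set_eq]
    exact hcard.symm.le
  rw [← heq]
  exact hle

theorem canonical {g : G} (hg : g ∉ stabilizer G a) :
    ∃! p : G × G, p.1 ∈ MulAction.stabilizer G a ∧ p.2 ∈ Q ∧ g = p.1 * t * p.2 := by
  have hga : g⁻¹ • a ≠ a := by
    intro h
    apply hg
    rw [mem_stabilizer_iff]
    rw [inv_smul_eq_iff] at h
    exact h.symm
  obtain ⟨y, hy, hya⟩ := Q_trans hS hga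
  refine ⟨(g * y * t, y⁻¹), ⟨?_, Q.inv_mem hy, ?_⟩, ?_⟩
  · rw [mem_stabilizer_iff, mul_smul, mul_smul, hya, smul_inv_smul]
  · have := hS.mul_self
    calc g = g * y * (t * t) * y⁻¹ := by rw [this]; group
      _ = _ := by group
  · rintro ⟨x, z⟩ ⟨hx, hz, rfl⟩
    dsimp only at hx hz ⊢
    have h1 : z⁻¹ • t • a = y • t • a := by
      rw [hya]
      simp only [mul_inv_rev, mul_smul, t_inv hS]
      rw [mem_stabilizer_iff.1 ((stabilizer G a).inv_mem hx)]
    have h2 : z⁻¹ = y := Q_eq hS (Q.inv_mem hz) hy (ta_ne hS) h1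
    subst h2
    ext
    · show x = x * t * z * z⁻¹ * t
      have := hS.mul_self
      calc x = x * (t * t) := by rw [this, mul_one]
        _ = _ := by group
    · simp

/-! ### the set `K` of elements of `D` inverted by `t`, and the involutions of `G_a` -/

theorem mem_invertedBy {k : G} : k ∈ Cfsg.invertedBy (stabilizer G a ⊓ stabilizer G (t • a)) t ↔
    (k • a = a ∧ k • t • a = t • a) ∧ t * k * t = k⁻¹ := by
  unfold Cfsg.invertedBy
  rw [Set.mem_ofPred_eq, mem_D, t_inv hS]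

theorem mem_invol {s : G} : s ∈ Cfsg.involutionsIn (stabilizer G a : Set G) ↔ s • a = a ∧ s ≠ 1 ∧ s * s = 1 := Iff.rfl

theorem card_invol_eq : Nat.card (Cfsg.invertedBy (stabilizer G a ⊓ stabilizer G (t • a)) t) =
    Nat.card (Cfsg.involutionsIn (stabilizer G a : Set G)) := by
  let J : Set G := {u | u ≠ 1 ∧ u * u = 1 ∧ u • a ≠ a}
  have htt := hS.mul_self
  have hti := t_inv hS
  have e1 : Nat.card (Cfsg.involutionsIn (stabilizer G a : Set G) × Q) = Nat.card J := by
    refine Nat.card_congr (Equiv.ofBijective (fun p => ⟨p.2.1 * t * p.1.1 * t * p.2.1⁻¹, ?_⟩) ⟨?_, ?_⟩)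
    · obtain ⟨⟨s, hsa, hs1, hs⟩, ⟨y, hy⟩⟩ := p
      dsimp only
      have h1 : y * t * s * t * y⁻¹ = (y * t) * s * (y * t)⁻¹ := by rw [mul_inv_rev, hti]; group
      refine ⟨?_, ?_, ?_⟩
      · rw [h1]
        intro h
        apply hs1
        have := congrArg (fun z => (y * t)⁻¹ * z * (y * t)) h
        simpa [mul_assoc] using this
      · rw [h1]
        calc (y * t) * s * (y * t)⁻¹ * ((y * t) * s * (y * t)⁻¹) = (y * t) * (s * s) * (y * t)⁻¹ := by group
          _ = 1 := by rw [hs]; group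
      · intro h
        have h2 : s • t • a = t • a := by
          have h3 : y⁻¹ • a = a := Q_fix hS (Q.inv_mem hy)
          rw [mul_smul, mul_smul, mul_smul, mul_smul, h3] at h
          have h4 : t • s • t • a = a := by
            have := congrArg (fun z => y⁻¹ • z) h
            simpa [h3] using this
          have h5 := congrArg (fun z => t • z) h4
          simpa [smul_smul, ← mul_assoc, htt] using h5
        exact ta_ne hS (invol_fix_only hS hsa hs1 hs h2)
    · rintro ⟨⟨s, hsa, hs1, hs⟩, ⟨y, hy⟩⟩ ⟨⟨s', hsa', hs1', hs'⟩, ⟨y', hy'⟩⟩ h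
      simp only [Subtype.mk.injEq] at h
      have hu : ∀ y s : G, y ∈ Q → s • a = a → (y * t * s * t * y⁻¹) • (y • t • a) = y • t • a := by
        intro y s hy hsa
        rw [smul_smul, smul_smul]
        have : y * t * s * t * y⁻¹ * y * t = y * t * s := by
          calc _ = y * t * s * (t * t) := by group
            _ = _ := by rw [htt, mul_one]
        rw [this, mul_smul, mul_smul, hsa]
      have hinv1 : y * t * s * t * y⁻¹ ≠ 1 := by
        have h1 : y * t * s * t * y⁻¹ = (y * t) * s * (y * t)⁻¹ := by rw [mul_inv_rev, hti]; group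
        rw [h1]
        intro h
        apply hs1
        have := congrArg (fun z => (y * t)⁻¹ * z * (y * t)) h
        simpa [mul_assoc] using this
      have hinv2 : y * t * s * t * y⁻¹ * (y * t * s * t * y⁻¹) = 1 := by
        have h1 : y * t * s * t * y⁻¹ = (y * t) * s * (y * t)⁻¹ := by rw [mul_inv_rev, hti]; group
        rw [h1]
        calc (y * t) * s * (y * t)⁻¹ * ((y * t) * s * (y * t)⁻¹) = (y * t) * (s * s) * (y * t)⁻¹ := by group
          _ = 1 := by rw [hs]; group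
      have hyy : y • t • a = y' • t • a := by
        apply fix_unique hS hinv1 hinv2 (hu y s hy hsa)
        rw [h]; exact hu y' s' hy' hsa'
      have := Q_eq hS hy hy' (ta_ne hS) hyy
      subst this
      have h6 : s = s' := by
        have := congrArg (fun z => (y * t)⁻¹ * z * (y * t)) h
        simp only [mul_inv_rev, hti] at this
        have e : ∀ s : G, t * y⁻¹ * (y * t * s * t * y⁻¹) * (y * t) = s := by
          intro s
          calc _ = (t * t) * s * (t * t) := by group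
            _ = s := by rw [htt]; group
        rw [e, e] at this
        exact this
      subst h6
      rfl
    · rintro ⟨u, hu1, hu, hua⟩
      obtain ⟨c, hc, hcu⟩ := exists_fix hS hu1 hu
      have hca : c ≠ a := by
        rintro rfl
        exact hua hc
      obtain ⟨y, hy, rfl⟩ := Q_trans hS hca
      refine ⟨(⟨t * y⁻¹ * u * y * t, ?_⟩, ⟨y, hy⟩), ?_⟩
      · rw [mem_invol hS]
        have h1 : t * y⁻¹ * u * y * t = (y * t)⁻¹ * u * (y * t) := by rw [mul_inv_rev, hti]; group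
        refine ⟨?_, ?_, ?_⟩
        · rw [mul_smul, mul_smul, mul_smul, mul_smul, hc, inv_smul_smul, tta hS]
        · rw [h1]; intro h
          apply hu1
          have := congrArg (fun z => (y * t) * z * (y * t)⁻¹) h
          simpa [mul_assoc] using this
        · rw [h1]
          calc (y * t)⁻¹ * u * (y * t) * ((y * t)⁻¹ * u * (y * t)) = (y * t)⁻¹ * (u * u) * (y * t) := by group
            _ = 1 := by rw [hu]; group
      · apply Subtype.ext
        show y * t * (t * y⁻¹ * u * y * t) * t * y⁻¹ = u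
        calc _ = y * (t * t) * y⁻¹ * u * y * (t * t) * y⁻¹ := by group
          _ = u := by rw [htt]; group
  have e2 : Nat.card (Cfsg.invertedBy (stabilizer G a ⊓ stabilizer G (t • a)) t × Q) = Nat.card J := by
    refine Nat.card_congr (Equiv.ofBijective (fun p => ⟨p.2.1 * (p.1.1 * t) * p.2.1⁻¹, ?_⟩) ⟨?_, ?_⟩)
    · obtain ⟨⟨k, hk⟩, ⟨y, hy⟩⟩ := p
      dsimp only
      rw [mem_invertedBy hS] at hk
      have hkt : k * t * (k * t) = 1 := by
        calc k * t * (k * t) = k * (t * k * t) := by group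
          _ = 1 := by rw [hk.2]; group
      have hkta : (y * (k * t) * y⁻¹) • a = y • t • a := by
        have h3 : y⁻¹ • a = a := Q_fix hS (Q.inv_mem hy)
        rw [mul_smul, mul_smul, h3, mul_smul, hk.1.2]
      refine ⟨?_, ?_, ?_⟩
      · intro h
        rw [h, one_smul] at hkta
        apply ta_ne hS
        have := congrArg (fun z => y⁻¹ • z) hkta
        simp only [inv_smul_smul] at this
        rw [← this, Q_fix hS (Q.inv_mem hy)]
      · calc y * (k * t) * y⁻¹ * (y * (k * t) * y⁻¹) = y * ((k * t) * (k * t)) * y⁻¹ := by group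
          _ = 1 := by rw [hkt]; group
      · rw [hkta]
        intro h
        apply ta_ne hS
        have := congrArg (fun z => y⁻¹ • z) h
        simp only [inv_smul_smul] at this
        rw [this, Q_fix hS (Q.inv_mem hy)]
    · rintro ⟨⟨k, hk⟩, ⟨y, hy⟩⟩ ⟨⟨k', hk'⟩, ⟨y', hy'⟩⟩ h
      simp only [Subtype.mk.injEq] at h
      rw [mem_invertedBy hS] at hk hk'
      have hkta : ∀ k y : G, k • t • a = t • a → y ∈ Q → (y * (k * t) * y⁻¹) • a = y • t • a := by
        intro k y hk hy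
        have h3 : y⁻¹ • a = a := Q_fix hS (Q.inv_mem hy)
        rw [mul_smul, mul_smul, h3, mul_smul, hk]
      have hyy : y • t • a = y' • t • a := by
        rw [← hkta k y hk.1.2 hy, ← hkta k' y' hk'.1.2 hy', h]
      have := Q_eq hS hy hy' (ta_ne hS) hyy
      subst this
      have h6 : k = k' := by simpa using h
      subst h6
      rfl
    · rintro ⟨u, hu1, hu, hua⟩
      obtain ⟨y, hy, hyu⟩ := Q_trans hS hua
      have hui : u⁻¹ = u := by rw [inv_eq_iff_mul_eq_one]; exact hu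
      have hya : y⁻¹ • a = a := Q_fix hS (Q.inv_mem hy)
      refine ⟨(⟨y⁻¹ * u * y * t, ?_⟩, ⟨y, hy⟩), ?_⟩
      · rw [mem_invertedBy hS]
        refine ⟨⟨?_, ?_⟩, ?_⟩
        · rw [mul_smul, mul_smul, mul_smul, hyu, smul_smul y⁻¹ u, mul_smul, smul_smul u u, hu, one_smul, hya]
        · rw [mul_smul, mul_smul, mul_smul, tta hS, Q_fix hS hy, ← hyu, inv_smul_smul]
        · rw [mul_inv_rev, mul_inv_rev, mul_inv_rev, inv_inv, hti, hui]
          calc t * (y⁻¹ * u * y * t) * t = t * y⁻¹ * u * y * (t * t) := by group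
            _ = _ := by rw [htt]; group
      · apply Subtype.ext
        show y * (y⁻¹ * u * y * t * t) * y⁻¹ = u
        calc _ = u * y * (t * t) * y⁻¹ := by group
          _ = u := by rw [htt]; group
  rw [Nat.card_prod] at e1 e2
  have hQ : 0 < Nat.card Q := Nat.card_pos
  exact Nat.eq_of_mul_eq_mul_right hQ (e2.trans e1.symm)

theorem outside_conj_injective {s : G} (hsa : s • a = a) (hs1 : s ≠ 1) (hs : s * s = 1) {w w' : G}
    (hw : w * w = 1) (hwa : w • a ≠ a) (hw' : w' * w' = 1) (hwa' : w' • a ≠ a) (h : w * s * w = w' * s * w') :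
    w = w' := by
  let J : Set G := {u | u * u = 1 ∧ u • a ≠ a}
  let φ : J → J := fun w => ⟨w.1 * s * w.1, by
    obtain ⟨w, hw, hwa⟩ := w
    dsimp only
    constructor
    · calc w * s * w * (w * s * w) = w * s * (w * w) * s * w := by group
        _ = w * (s * s) * w := by rw [hw]; group
        _ = 1 := by rw [hs, mul_one, hw]
    · intro h
      have h1 : s • w • a = w • a := by
        rw [mul_smul, mul_smul] at h
        have := congrArg (fun z => w • z) h
        simpa [smul_smul, ← mul_assoc, hw] using this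
      exact hwa (invol_fix_only hS hsa hs1 hs h1)⟩
  have hsurj : Function.Surjective φ := by
    rintro ⟨u, hu, hua⟩
    obtain ⟨w, hw, hwu⟩ := exists_invol_conj hs hu (odd_orderOf_comm (odd_mul hS hsa hs1 hs hua hu))
    refine ⟨⟨w, hw, ?_⟩, Subtype.ext hwu⟩
    intro hwa
    apply hua
    rw [← hwu, mul_smul, mul_smul, hwa, hsa, hwa]
  have hinj : Function.Injective φ := Finite.injective_iff_surjective.2 hsurj
  have := @hinj ⟨w, hw, hwa⟩ ⟨w', hw', hwa'⟩ (Subtype.ext h)
  exact congrArg Subtype.val this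

theorem inv_mem_K {k : G} (hk : k ∈ Cfsg.invertedBy (stabilizer G a ⊓ stabilizer G (t • a)) t) :
    k⁻¹ ∈ Cfsg.invertedBy (stabilizer G a ⊓ stabilizer G (t • a)) t := by
  rw [mem_invertedBy hS] at hk ⊢
  refine ⟨⟨?_, ?_⟩, ?_⟩
  · rw [inv_smul_eq_iff]; exact hk.1.1.symm
  · rw [inv_smul_eq_iff]; exact hk.1.2.symm
  · rw [← hk.2]
    calc t * (t * k * t) * t = (t * t) * k * (t * t) := by group
      _ = k := by rw [hS.mul_self]; group
      _ = (t * k * t)⁻¹ := by rw [hk.2, inv_inv]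

theorem K_conj_injective {s : G} (hsa : s • a = a) (hs1 : s ≠ 1) (hs : s * s = 1) {k k' : G}
    (hk : k ∈ Cfsg.invertedBy (stabilizer G a ⊓ stabilizer G (t • a)) t)
    (hk' : k' ∈ Cfsg.invertedBy (stabilizer G a ⊓ stabilizer G (t • a)) t) (h : k⁻¹ * s * k = k'⁻¹ * s * k') :
    k = k' := by
  have htt := hS.mul_self
  have key : ∀ k ∈ Cfsg.invertedBy (stabilizer G a ⊓ stabilizer G (t • a)) t,
      (t * k⁻¹) * (t * k⁻¹) = 1 ∧ (t * k⁻¹) • a ≠ a ∧ (t * k⁻¹) * s * (t * k⁻¹) = t * (k⁻¹ * s * k) * t := by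
    intro k hk
    have hki := inv_mem_K hS hk
    rw [mem_invertedBy hS] at hki
    have e : t * k⁻¹ = k * t := by
      have := hki.2
      rw [inv_inv] at this
      calc t * k⁻¹ = t * k⁻¹ * (t * t) := by rw [htt, mul_one]
        _ = (t * k⁻¹ * t) * t := by group
        _ = k * t := by rw [this]
    refine ⟨?_, ?_, ?_⟩
    · calc t * k⁻¹ * (t * k⁻¹) = (t * k⁻¹ * t) * k⁻¹ := by group
        _ = 1 := by rw [hki.2]; group
    · rw [mul_smul, hki.1.1]; exact ta_ne hS
    · nth_rewrite 2 [e]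
      group
  obtain ⟨h1, h2, h3⟩ := key k hk
  obtain ⟨h1', h2', h3'⟩ := key k' hk'
  have := outside_conj_injective hS hsa hs1 hs h1 h2 h1' h2' (by rw [h3, h3', h])
  exact inv_injective (mul_left_cancel this)

theorem K_conj_surj {s s' : G} (hs : s ∈ Cfsg.involutionsIn (stabilizer G a : Set G))
    (hs' : s' ∈ Cfsg.involutionsIn (stabilizer G a : Set G)) :
    ∃ k ∈ Cfsg.invertedBy (stabilizer G a ⊓ stabilizer G (t • a)) t, k⁻¹ * s * k = s' := by
  let φ : Cfsg.invertedBy (stabilizer G a ⊓ stabilizer G (t • a)) t → Cfsg.involutionsIn (stabilizer G a : Set G) :=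
    fun k => ⟨k.1⁻¹ * s * k.1, by
      obtain ⟨k, hk⟩ := k
      dsimp only
      have hk2 := hk
      rw [mem_invertedBy hS] at hk
      have hsm := hs
      rw [mem_invol hS] at hs ⊢
      refine ⟨?_, ?_, ?_⟩
      · rw [mul_smul, mul_smul, hk.1.1, hs.1, inv_smul_eq_iff, hk.1.1]
      · intro h
        apply hs.2.1
        have := congrArg (fun z => k * z * k⁻¹) h
        simpa [mul_assoc] using this
      · calc k⁻¹ * s * k * (k⁻¹ * s * k) = k⁻¹ * (s * s) * k := by group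
          _ = 1 := by rw [hs.2.2]; group⟩
  have hinj : Function.Injective φ := by
    rintro ⟨k, hk⟩ ⟨k', hk'⟩ h
    have h' := congrArg Subtype.val h
    exact Subtype.ext (K_conj_injective hS hs.1 hs.2.1 hs.2.2 hk hk' h')
  have hbij : Function.Bijective φ :=
    (Nat.bijective_iff_injective_and_card φ).2 ⟨hinj, card_invol_eq hS⟩
  obtain ⟨⟨k, hk⟩, h⟩ := hbij.2 ⟨s', hs'⟩
  exact ⟨k, hk, congrArg Subtype.val h⟩

/-- square roots in `K`; `k t` is conjugate to `t`. -/
theorem K_sqrt {k : G} (hk : k ∈ Cfsg.invertedBy (stabilizer G a ⊓ stabilizer G (t • a)) t) :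
    ∃ l ∈ Cfsg.invertedBy (stabilizer G a ⊓ stabilizer G (t • a)) t, l * l = k ∧ l * t * l⁻¹ = k * t := by
  obtain ⟨m, hm⟩ := OddInv.exists_sqrt (OddInv.odd_orderOf_of_mem hS.odd_card hk.1)
  have hl := OddInv.pow_mem_invertedBy hk m
  refine ⟨k ^ m, hl, hm, ?_⟩
  have := ((mem_invertedBy hS).1 (inv_mem_K hS hl)).2
  rw [inv_inv] at this
  have e : t * (k ^ m)⁻¹ = k ^ m * t := by
    calc t * (k ^ m)⁻¹ = t * (k ^ m)⁻¹ * (t * t) := by rw [hS.mul_self, mul_one]
      _ = (t * (k ^ m)⁻¹ * t) * t := by group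
      _ = k ^ m * t := by rw [this]
  rw [mul_assoc, e, ← mul_assoc, hm]

theorem swap_decomp {u : G} (hu : u * u = 1) (hua : u • a = t • a) :
    u * t ∈ Cfsg.invertedBy (stabilizer G a ⊓ stabilizer G (t • a)) t := by
  have hui : u⁻¹ = u := by rw [inv_eq_iff_mul_eq_one]; exact hu
  rw [mem_invertedBy hS]
  refine ⟨⟨?_, ?_⟩, ?_⟩
  · rw [mul_smul, ← hua, smul_smul, hu, one_smul]
  · rw [mul_smul, tta hS, hua]
  · rw [mul_inv_rev, hui, t_inv hS]
    calc t * (u * t) * t = t * u * (t * t) := by group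
      _ = _ := by rw [hS.mul_self, mul_one]

theorem outside_decomp {u : G} (hu : u * u = 1) (hua : u • a ≠ a) :
    ∃ k ∈ Cfsg.invertedBy (stabilizer G a ⊓ stabilizer G (t • a)) t, ∃ y ∈ Q, u = y⁻¹ * (k * t) * y := by
  obtain ⟨y, hy, hyu⟩ := Q_trans hS hua
  have h1 : (y⁻¹ * u * y) * (y⁻¹ * u * y) = 1 := by
    calc (y⁻¹ * u * y) * (y⁻¹ * u * y) = y⁻¹ * (u * u) * y := by group
      _ = 1 := by rw [hu]; group
  have h2 : (y⁻¹ * u * y) • a = t • a := by
    rw [mul_smul, mul_smul, Q_fix hS hy, ← hyu, inv_smul_smul]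
  refine ⟨_, swap_decomp hS h1 h2, y⁻¹, Q.inv_mem hy, ?_⟩
  calc u = y * (y⁻¹ * u * y) * y⁻¹ := by group
    _ = y * (y⁻¹ * u * y * (t * t)) * y⁻¹ := by rw [hS.mul_self, mul_one]
    _ = _ := by group

theorem outside_decomp_unique {k k' y y' : G}
    (hk : k • t • a = t • a) (hk' : k' • t • a = t • a) (hy : y ∈ Q) (hy' : y' ∈ Q)
    (h : y⁻¹ * (k * t) * y = y'⁻¹ * (k' * t) * y') : y = y' ∧ k = k' := by
  have e : ∀ k y : G, k • t • a = t • a → y ∈ Q → (y⁻¹ * (k * t) * y) • a = y⁻¹ • t • a := by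
    intro k y hk hy
    rw [mul_smul, Q_fix hS hy, mul_smul, mul_smul, hk]
  have h1 : y⁻¹ • t • a = y'⁻¹ • t • a := by rw [← e k y hk hy, ← e k' y' hk' hy', h]
  have h2 := inv_injective (Q_eq hS (Q.inv_mem hy) (Q.inv_mem hy') (ta_ne hS) h1)
  subst h2
  refine ⟨rfl, ?_⟩
  simpa using h

/-- The structure equation. -/
theorem structure_eq : ∃! p : G × G, p.1 ∈ Cfsg.involutionsIn (stabilizer G a : Set G) ∧ p.2 ∈ Q ∧
      t * p.1 * t = p.2⁻¹ * t * p.2 := by
  have htt := hS.mul_self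
  have hti := t_inv hS
  obtain ⟨s, hsa, hs1, hs⟩ := exists_invol_a hS
  have hout : ∀ s : G, s • a = a → s ≠ 1 → s * s = 1 → t * s * t * (t * s * t) = 1 ∧ (t * s * t) • a ≠ a := by
    intro s hsa hs1 hs
    constructor
    · calc t * s * t * (t * s * t) = t * s * (t * t) * s * t := by group
        _ = t * (s * s) * t := by rw [htt]; group
        _ = 1 := by rw [hs, mul_one, htt]
    · intro h
      have h1 : s • t • a = t • a := by
        rw [mul_smul, mul_smul] at h
        have := congrArg (fun z => t • z) h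
        simpa [smul_smul, ← mul_assoc, htt] using this
      exact ta_ne hS (invol_fix_only hS hsa hs1 hs h1)
  obtain ⟨ho1, ho2⟩ := hout s hsa hs1 hs
  obtain ⟨k, hk, r, hr, he⟩ := outside_decomp hS ho1 ho2
  obtain ⟨l, hl, hll, hlt⟩ := K_sqrt hS hk
  have hlK := (mem_invertedBy hS).1 hl
  -- m' = l⁻¹, m = t l⁻¹ t = l ; s' = m s m⁻¹ with t m t = l⁻¹
  refine ⟨(l * s * l⁻¹, l⁻¹ * r * l), ⟨?_, ?_, ?_⟩, ?_⟩
  · rw [mem_invol hS]
    refine ⟨?_, ?_, ?_⟩
    · have : l⁻¹ • a = a := by rw [inv_smul_eq_iff]; exact hlK.1.1.symm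
      rw [mul_smul, mul_smul, this, hsa, hlK.1.1]
    · intro h
      apply hs1
      have := congrArg (fun z => l⁻¹ * z * l) h
      simpa [mul_assoc] using this
    · calc l * s * l⁻¹ * (l * s * l⁻¹) = l * (s * s) * l⁻¹ := by group
        _ = 1 := by rw [hs]; group
  · have := hS.conj_mem l⁻¹ ((stabilizer G a).inv_mem (mem_stabilizer_iff.2 hlK.1.1)) r hr
    rwa [inv_inv] at this
  · dsimp only
    have e1 : t * (l * s * l⁻¹) * t = (t * l * t) * (t * s * t) * (t * l * t)⁻¹ := by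
      rw [mul_inv_rev, mul_inv_rev, hti]
      calc t * (l * s * l⁻¹) * t = t * l * 1 * s * 1 * l⁻¹ * t := by group
        _ = t * l * (t * t) * s * (t * t) * l⁻¹ * t := by rw [htt]
        _ = _ := by group
    rw [e1, hlK.2, he, ← hlt]
    group
  · rintro ⟨s', r'⟩ ⟨hs', hr', he'⟩
    dsimp only at hs' hr' he'
    have hs0 : (l * s * l⁻¹) ∈ Cfsg.involutionsIn (stabilizer G a : Set G) := by
      rw [mem_invol hS]
      refine ⟨?_, ?_, ?_⟩
      · have : l⁻¹ • a = a := by rw [inv_smul_eq_iff]; exact hlK.1.1.symm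
        rw [mul_smul, mul_smul, this, hsa, hlK.1.1]
      · intro h
        apply hs1
        have := congrArg (fun z => l⁻¹ * z * l) h
        simpa [mul_assoc] using this
      · calc l * s * l⁻¹ * (l * s * l⁻¹) = l * (s * s) * l⁻¹ := by group
          _ = 1 := by rw [hs]; group
    have he0 : t * (l * s * l⁻¹) * t = (l⁻¹ * r * l)⁻¹ * t * (l⁻¹ * r * l) := by
      have e1 : t * (l * s * l⁻¹) * t = (t * l * t) * (t * s * t) * (t * l * t)⁻¹ := by
        rw [mul_inv_rev, mul_inv_rev, hti]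
        calc t * (l * s * l⁻¹) * t = t * l * 1 * s * 1 * l⁻¹ * t := by group
          _ = t * l * (t * t) * s * (t * t) * l⁻¹ * t := by rw [htt]
          _ = _ := by group
      rw [e1, hlK.2, he, ← hlt]
      group
    have hr0 : l⁻¹ * r * l ∈ Q := by
      have := hS.conj_mem l⁻¹ ((stabilizer G a).inv_mem (mem_stabilizer_iff.2 hlK.1.1)) r hr
      rwa [inv_inv] at this
    generalize l * s * l⁻¹ = s0 at hs0 he0 ⊢
    generalize l⁻¹ * r * l = r0 at hr0 he0 ⊢
    obtain ⟨c, hc, hcs⟩ := K_conj_surj hS hs0 hs'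
    have hcK := (mem_invertedBy hS).1 hc
    have hciK := (mem_invertedBy hS).1 (inv_mem_K hS hc)
    have e2 : t * s' * t = (c * r0 * c⁻¹)⁻¹ * (c * c * t) * (c * r0 * c⁻¹) := by
      have e3 : t * s' * t = (t * c⁻¹ * t) * (t * s0 * t) * (t * c⁻¹ * t)⁻¹ := by
        rw [← hcs, mul_inv_rev, mul_inv_rev, hti, inv_inv]
        calc t * (c⁻¹ * s0 * c) * t = t * c⁻¹ * 1 * s0 * 1 * c * t := by group
          _ = t * c⁻¹ * (t * t) * s0 * (t * t) * c * t := by rw [htt]
          _ = _ := by group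
      have e4 : c * t * c⁻¹ = c * c * t := by
        have : t * c⁻¹ = c * t := by
          calc t * c⁻¹ = t * c⁻¹ * (t * t) := by rw [htt, mul_one]
            _ = (t * c⁻¹ * t) * t := by group
            _ = c * t := by rw [hciK.2, inv_inv]
        rw [mul_assoc, this, ← mul_assoc]
      rw [e3, hciK.2, inv_inv, he0, ← e4]
      group
    have e5 : r'⁻¹ * (1 * t) * r' = (c * r0 * c⁻¹)⁻¹ * (c * c * t) * (c * r0 * c⁻¹) := by
      rw [← e2, he', one_mul]
    have hcc : (c * c) • t • a = t • a := by rw [mul_smul, hcK.1.2, hcK.1.2]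
    obtain ⟨h1, h2⟩ := outside_decomp_unique hS (one_smul G (t • a)) hcc hr'
      (hS.conj_mem c (mem_stabilizer_iff.2 hcK.1.1) r0 hr0) e5
    have hc1 : c = 1 := D_sq hS hc.1 h2.symm
    subst hc1
    simp only [inv_one, one_mul, mul_one] at h1 hcs
    rw [h1, hcs]

end finite

end Cfsg.Agent.Lib.RankOne
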