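import Mathlib
import Cfsg.Prelude.Def_LieRecognition
import Cfsg.Agent.Lib.OddInv
import Cfsg.Agent.Lib.RankOne
import Cfsg.Prelude.Def_Solvable

/-!
The split rank-one set-up, continued: centralisers of subsets of `D` fixing three points.
-/

set_option autoImplicit false

namespace Cfsg.Agent.Lib.RankOneB

open MulAction Cfsg.Agent.Lib.RankOne

variable {G Ω : Type*} [Group G] [MulAction G Ω] {a : Ω} {t : G} {Q : Subgroup G}

section one
variable [Finite G] (hS : Cfsg.IsRankOneSetup G Ω a t Q)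
variable {X : Set G} (hX : ∀ x ∈ X, x • a = a ∧ x • t • a = t • a)
include hS hX

/-- `C_Q(X)` is regular on `Fix(X) \ {a}`. -/
theorem cent_trans_a {b c : Ω} (hb : b ≠ a) (hc : c ≠ a) (hbX : ∀ x ∈ X, x • b = b) (hcX : ∀ x ∈ X, x • c = c) :
    ∃ y ∈ Q, (∀ x ∈ X, x * y = y * x) ∧ y • b = c := by
  obtain ⟨⟨y, hy⟩, hyb, -⟩ := Q_reg hS hb hc
  simp only at hyb
  refine ⟨y, hy, ?_, hyb⟩
  intro x hx
  have h1 : x * y * x⁻¹ ∈ Q := hS.conj_mem x (mem_stabilizer_iff.2 (hX x hx).1) y hy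
  have h2 : (x * y * x⁻¹) • b = y • b := by
    have : x⁻¹ • b = b := by rw [inv_smul_eq_iff]; exact (hbX x hx).symm
    rw [mul_smul, mul_smul, this, hyb, hcX x hx]
  have h3 := Q_eq hS h1 hy hb h2
  rw [mul_inv_eq_iff_eq_mul] at h3
  exact h3

theorem cent_trans_ta {b c : Ω} (hb : b ≠ t • a) (hc : c ≠ t • a) (hbX : ∀ x ∈ X, x • b = b) (hcX : ∀ x ∈ X, x • c = c) :
    ∃ y : G, (∀ x ∈ X, x * y = y * x) ∧ y • t • a = t • a ∧ y • b = c := by
  have htt := hS.mul_self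
  have hti := t_inv hS
  have hb' : t • b ≠ a := by
    intro h
    apply hb
    rw [← h, smul_smul, htt, one_smul]
  have hc' : t • c ≠ a := by
    intro h
    apply hc
    rw [← h, smul_smul, htt, one_smul]
  have hX' : ∀ x ∈ {x | t * x * t ∈ X}, x • a = a ∧ x • t • a = t • a := by
    intro x hx
    have h1 := hX _ hx
    have e : x = t * (t * x * t) * t := by
      calc x = (t * t) * x * (t * t) := by rw [htt]; group
        _ = _ := by group
    constructor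
    · rw [e, mul_smul, mul_smul, h1.2, smul_smul, htt, one_smul]
    · rw [e, mul_smul, mul_smul, tta hS, h1.1]
  obtain ⟨y, hy, hyX, hyb⟩ := cent_trans_a hS hX' hb' hc'
    (by
      intro x hx
      have h1 := hbX _ hx
      have e : x * t = t * (t * x * t) := by
        calc x * t = (t * t) * x * t := by rw [htt]; group
          _ = _ := by group
      rw [smul_smul, e, mul_smul, h1])
    (by
      intro x hx
      have h1 := hcX _ hx
      have e : x * t = t * (t * x * t) := by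
        calc x * t = (t * t) * x * t := by rw [htt]; group
          _ = _ := by group
      rw [smul_smul, e, mul_smul, h1])
  refine ⟨t * y * t, ?_, ?_, ?_⟩
  · intro x hx
    have h1 : (t * x * t) ∈ {x | t * x * t ∈ X} := by
      show t * (t * x * t) * t ∈ X
      have e : t * (t * x * t) * t = x := by
        calc t * (t * x * t) * t = (t * t) * x * (t * t) := by group
          _ = _ := by rw [htt]; group
      rw [e]; exact hx
    have h2 := hyX _ h1
    calc x * (t * y * t) = (t * t) * x * t * y * t := by rw [htt]; group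
      _ = t * ((t * x * t) * y) * t := by group
      _ = t * (y * (t * x * t)) * t := by rw [h2]
      _ = t * y * t * x * (t * t) := by group
      _ = _ := by rw [htt]; group
  · rw [mul_smul, mul_smul, tta hS, Q_fix hS hy]
  · rw [mul_smul, mul_smul, hyb, smul_smul, htt, one_smul]

variable (h3 : ∃ d : Ω, d ≠ a ∧ d ≠ t • a ∧ ∀ x ∈ X, x • d = d)
include h3

theorem cent_to_a {b : Ω} (hbX : ∀ x ∈ X, x • b = b) : ∃ g : G, (∀ x ∈ X, x * g = g * x) ∧ g • b = a := by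
  obtain ⟨d, hda, hdt, hdX⟩ := h3
  by_cases hb : b = t • a
  · -- move b to d by C_Q(X), d to a by cent_trans_ta
    subst hb
    obtain ⟨y, hy, hyX, hyb⟩ := cent_trans_a hS hX (ta_ne hS) hda hbX hdX
    obtain ⟨z, hzX, hzt, hzd⟩ := cent_trans_ta hS hX hdt (ta_ne hS).symm hdX (fun x hx => (hX x hx).1)
    refine ⟨z * y, ?_, ?_⟩
    · intro x hx; rw [← mul_assoc, hzX x hx, mul_assoc, hyX x hx, mul_assoc]
    · rw [mul_smul, hyb, hzd]
  · obtain ⟨z, hzX, hzt, hzd⟩ := cent_trans_ta hS hX hb (ta_ne hS).symm hbX (fun x hx => (hX x hx).1)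
    exact ⟨z, hzX, hzd⟩

theorem cent_two_trans {b₁ b₂ c₁ c₂ : Ω} (hf : ∀ x ∈ X, x • b₁ = b₁ ∧ x • b₂ = b₂ ∧ x • c₁ = c₁ ∧ x • c₂ = c₂)
    (hb : b₁ ≠ b₂) (hc : c₁ ≠ c₂) : ∃ g : G, (∀ x ∈ X, x * g = g * x) ∧ g • b₁ = c₁ ∧ g • b₂ = c₂ := by
  have key : ∀ b₁ b₂ : Ω, (∀ x ∈ X, x • b₁ = b₁) → (∀ x ∈ X, x • b₂ = b₂) → b₁ ≠ b₂ →
      ∃ g : G, (∀ x ∈ X, x * g = g * x) ∧ g • b₁ = a ∧ g • b₂ = t • a := by
    intro b₁ b₂ h1 h2 hne
    obtain ⟨g, hg, hgb⟩ := cent_to_a hS hX h3 h1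
    have h4 : g • b₂ ≠ a := by
      intro h; apply hne
      rw [← hgb] at h
      exact (smul_left_cancel g h).symm
    obtain ⟨y, hy, hyX, hyb⟩ := cent_trans_a hS hX h4 (ta_ne hS)
      (by intro x hx; rw [smul_smul, hg x hx, mul_smul, h2 x hx]) (fun x hx => (hX x hx).2)
    refine ⟨y * g, ?_, ?_, ?_⟩
    · intro x hx; rw [← mul_assoc, hyX x hx, mul_assoc, hg x hx, mul_assoc]
    · rw [mul_smul, hgb, Q_fix hS hy]
    · rw [mul_smul, hyb]
  obtain ⟨g, hg, hg1, hg2⟩ := key b₁ b₂ (fun x hx => (hf x hx).1) (fun x hx => (hf x hx).2.1) hb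
  obtain ⟨g', hg', hg1', hg2'⟩ := key c₁ c₂ (fun x hx => (hf x hx).2.2.1) (fun x hx => (hf x hx).2.2.2) hc
  refine ⟨g'⁻¹ * g, ?_, ?_, ?_⟩
  · intro x hx
    have h1 : x * g'⁻¹ = g'⁻¹ * x := by
      rw [eq_inv_mul_iff_mul_eq, ← mul_assoc, ← hg' x hx]; group
    rw [← mul_assoc, h1, mul_assoc, hg x hx, mul_assoc]
  · rw [mul_smul, hg1, inv_smul_eq_iff, hg1']
  · rw [mul_smul, hg2, inv_smul_eq_iff, hg2']

/-- There is an involution centralising `X` and interchanging `a` and `t • a`. -/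
theorem cent_swap : ∃ z : G, (∀ x ∈ X, x * z = z * x) ∧ z * z = 1 ∧ z • a = t • a ∧ z • t • a = a := by
  obtain ⟨g, hg, hg1, hg2⟩ := cent_two_trans hS hX h3 (b₁ := a) (b₂ := t • a) (c₁ := t • a) (c₂ := a)
    (fun x hx => ⟨(hX x hx).1, (hX x hx).2, (hX x hx).2, (hX x hx).1⟩) (ta_ne hS).symm (ta_ne hS)
  have hgD : g * g ∈ stabilizer G a ⊓ stabilizer G (t • a) := by
    rw [mem_D]
    constructor
    · rw [mul_smul, hg1, hg2]
    · rw [mul_smul, hg2, hg1]
  obtain ⟨m, hm⟩ := OddInv.odd_orderOf_of_mem hS.odd_card hgD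
  have hgg : (g * g) ^ (2 * m + 1) = 1 := by rw [← hm]; exact pow_orderOf_eq_one _
  refine ⟨g ^ (2 * m + 1), ?_, ?_, ?_, ?_⟩
  · intro x hx
    have : Commute x g := hg x hx
    exact (this.pow_right _)
  · rw [← pow_add]
    have : 2 * m + 1 + (2 * m + 1) = 2 * (2 * m + 1) := by ring
    rw [this, pow_mul, pow_two, hgg]
  · have h1 : ∀ m : ℕ, ((g * g) ^ m) • a = a := by
      intro m
      have := Subgroup.pow_mem _ hgD m
      exact (mem_D.1 this).1
    rw [pow_succ', pow_mul, pow_two, mul_smul, h1, hg1]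
  · have h1 : ∀ m : ℕ, ((g * g) ^ m) • t • a = t • a := by
      intro m
      have := Subgroup.pow_mem _ hgD m
      exact (mem_D.1 this).2
    rw [pow_succ', pow_mul, pow_two, mul_smul, h1, hg2]

theorem cent_invol_Q : ∃ z ∈ Q, (∀ x ∈ X, x * z = z * x) ∧ z ≠ 1 ∧ z * z = 1 := by
  obtain ⟨z, hzX, hzz, hza, hzt⟩ := cent_swap hS hX h3
  have hz1 : z ≠ 1 := by
    rintro rfl
    rw [one_smul] at hza
    exact ta_ne hS hza.symm
  obtain ⟨c, hc, hcu⟩ := exists_fix (Ω := Ω) hS hz1 hzz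
  have hcX : ∀ x ∈ X, x • c = c := by
    intro x hx
    apply hcu
    rw [smul_smul, ← hzX x hx, mul_smul, hc]
  obtain ⟨g, hg, hgc⟩ := cent_to_a hS hX h3 hcX
  have e1 : (g * z * g⁻¹) * (g * z * g⁻¹) = 1 := by
    calc (g * z * g⁻¹) * (g * z * g⁻¹) = g * (z * z) * g⁻¹ := by group
      _ = 1 := by rw [hzz]; group
  refine ⟨g * z * g⁻¹, ?_, ?_, ?_, e1⟩
  · apply mem_Q_of_sq hS _ e1
    rw [mem_stabilizer_iff]
    have : g⁻¹ • a = c := by rw [inv_smul_eq_iff, hgc]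
    rw [mul_smul, mul_smul, this, hc, hgc]
  · intro x hx
    have h1 : x * g⁻¹ = g⁻¹ * x := by
      rw [eq_inv_mul_iff_mul_eq, ← mul_assoc, ← hg x hx]; group
    calc x * (g * z * g⁻¹) = (x * g) * z * g⁻¹ := by group
      _ = g * (x * z) * g⁻¹ := by rw [hg x hx]; group
      _ = g * z * (x * g⁻¹) := by rw [hzX x hx]; group
      _ = _ := by rw [h1]; group
  · intro h
    apply hz1
    have := congrArg (fun w => g⁻¹ * w * g) h
    simpa [mul_assoc] using this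

/-- `X` is conjugate under `K` into `C_D(t)`. -/
theorem conj_into : ∃ l ∈ Cfsg.invertedBy (stabilizer G a ⊓ stabilizer G (t • a)) t,
    ∀ x ∈ X, (l * x * l⁻¹) * t = t * (l * x * l⁻¹) := by
  obtain ⟨z, hzX, hzz, hza, hzt⟩ := cent_swap hS hX h3
  have hk := swap_decomp hS hzz hza
  obtain ⟨l, hl, hll, hlt⟩ := K_sqrt hS hk
  have hz : z = l * t * l⁻¹ := by
    rw [hlt, mul_assoc, hS.mul_self, mul_one]
  refine ⟨l⁻¹, inv_mem_K hS hl, ?_⟩
  intro x hx
  have h1 := hzX x hx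
  rw [hz] at h1
  rw [inv_inv]
  calc l⁻¹ * x * l * t = l⁻¹ * (x * (l * t * l⁻¹)) * l := by group
    _ = l⁻¹ * ((l * t * l⁻¹) * x) * l := by rw [h1]
    _ = _ := by group

end one

section two
variable [Finite G] (hS : Cfsg.IsRankOneSetup G Ω a t Q)
include hS

/-- elements of `C_D(t)` fix a third point. -/
theorem third_point : ∃ d : Ω, t • d = d ∧ d ≠ a ∧ d ≠ t • a := by
  obtain ⟨c, hc, hcu⟩ := exists_fix (Ω := Ω) hS hS.ne_one hS.mul_self
  refine ⟨c, hc, ?_, ?_⟩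
  · rintro rfl; exact ta_ne hS hc
  · rintro rfl
    rw [tta hS] at hc
    exact ta_ne hS hc.symm

theorem third_fixed {x : G} (hx : x * t = t * x) {d : Ω} (hd : t • d = d) : x • d = d := by
  apply fix_unique (Ω := Ω) hS hS.ne_one hS.mul_self _ hd
  rw [smul_smul, ← hx, mul_smul, hd]

/-- Non-identity elements of `K` act fixed-point-freely on `Q`. -/
theorem K_fpf {x : G} (hx : x ∈ Cfsg.invertedBy (stabilizer G a ⊓ stabilizer G (t • a)) t) (hx1 : x ≠ 1)
    {y : G} (hy : y ∈ Q) (hxy : x * y = y * x) : y = 1 := by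
  by_contra hy1
  have hxD := (mem_invertedBy hS).1 hx
  have hX : ∀ z ∈ ({x} : Set G), z • a = a ∧ z • t • a = t • a := by
    intro z hz
    rw [Set.mem_singleton_iff] at hz
    subst hz; exact hxD.1
  have h3 : ∃ d : Ω, d ≠ a ∧ d ≠ t • a ∧ ∀ z ∈ ({x} : Set G), z • d = d := by
    refine ⟨y • t • a, ?_, ?_, ?_⟩
    · intro h
      apply ta_ne hS
      have := congrArg (fun w => y⁻¹ • w) h
      simp only [inv_smul_smul] at this
      rw [this, Q_fix hS (Q.inv_mem hy)]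
    · intro h
      exact ta_ne hS (Q_free hS hy hy1 h)
    · intro z hz
      rw [Set.mem_singleton_iff] at hz
      subst hz
      rw [smul_smul, hxy, mul_smul, hxD.1.2]
  obtain ⟨l, hl, hlx⟩ := conj_into hS hX h3
  have hlx := hlx x rfl
  have hlK := (mem_invertedBy hS).1 hl
  -- t' = l⁻¹ t l commutes with x
  have ht' : (l⁻¹ * t * l) * x = x * (l⁻¹ * t * l) := by
    calc (l⁻¹ * t * l) * x = l⁻¹ * (t * (l * x * l⁻¹)) * l := by group
      _ = l⁻¹ * ((l * x * l⁻¹) * t) * l := by rw [hlx]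
      _ = _ := by group
  -- d = t t' ∈ D inverts x
  set d := t * (l⁻¹ * t * l) with hd
  have hdD : d ∈ stabilizer G a ⊓ stabilizer G (t • a) := by
    have e : d = (t * l⁻¹ * t) * l := by rw [hd]; group
    rw [e]
    apply Subgroup.mul_mem _ _ hl.1
    have := t_conj_D hS (inv_mem_K hS hl).1
    rwa [t_inv hS] at this
  have hdx : d * x * d⁻¹ = x⁻¹ := by
    have e : d * x * d⁻¹ = t * ((l⁻¹ * t * l) * x * (l⁻¹ * t * l)⁻¹) * t⁻¹ := by rw [hd]; group
    rw [e, ht']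
    have e2 : x * (l⁻¹ * t * l) * (l⁻¹ * t * l)⁻¹ = x := by group
    rw [e2, t_inv hS, hxD.2]
  have hddx : (d * d) * x = x * (d * d) := by
    have h1 : d * d * x * (d * d)⁻¹ = x := by
      calc d * d * x * (d * d)⁻¹ = d * (d * x * d⁻¹) * d⁻¹ := by group
        _ = d * x⁻¹ * d⁻¹ := by rw [hdx]
        _ = (d * x * d⁻¹)⁻¹ := by group
        _ = x := by rw [hdx, inv_inv]
    exact mul_inv_eq_iff_eq_mul.1 h1
  obtain ⟨m, hm⟩ := OddInv.exists_sqrt (OddInv.odd_orderOf_of_mem hS.odd_card hdD)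
  have hdc : d * x = x * d := by
    have hc : Commute (d * d) x := hddx
    have h2 := hc.pow_left m
    have e : (d * d) ^ m = d := by
      rw [← pow_two, ← pow_mul, mul_comm, pow_mul, pow_two, hm]
    rw [e] at h2
    exact h2
  have hxx : x = x⁻¹ := by
    rw [← hdx, hdc]; group
  apply hx1
  apply D_sq hS hx.1
  nth_rewrite 2 [hxx]
  group

/-- conjugation by elements of `C_D(t)` preserves `K`. -/
theorem V_conj_K {v k : G} (hv : v ∈ stabilizer G a ⊓ stabilizer G (t • a)) (hvt : v * t = t * v)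
    (hk : k ∈ Cfsg.invertedBy (stabilizer G a ⊓ stabilizer G (t • a)) t) :
    v * k * v⁻¹ ∈ Cfsg.invertedBy (stabilizer G a ⊓ stabilizer G (t • a)) t :=
  OddInv.conj_mem_invertedBy hv hvt hk

theorem CDt_le_CDs {s r : G} (hs : s ∈ Cfsg.involutionsIn (stabilizer G a : Set G)) (hr : r ∈ Q)
    (h : t * s * t = r⁻¹ * t * r) {d : G} (hd : d ∈ stabilizer G a ⊓ stabilizer G (t • a)) (hdt : d * t = t * d) :
    d * s = s * d := by
  obtain ⟨p, hp, hpu⟩ := structure_eq hS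
  have h1 := hpu (s, r) ⟨hs, hr, h⟩
  have hs' := (mem_invol hS).1 hs
  have hd' := mem_D.1 hd
  have hdi : d⁻¹ • a = a := by rw [inv_smul_eq_iff]; exact hd'.1.symm
  have h2 := hpu (d * s * d⁻¹, d * r * d⁻¹) ⟨?_, ?_, ?_⟩
  · have h3 := h1.trans h2.symm
    simp only [Prod.mk.injEq] at h3
    rw [eq_mul_inv_iff_mul_eq] at h3
    exact h3.1.symm
  · rw [mem_invol hS]
    refine ⟨?_, ?_, ?_⟩
    · rw [mul_smul, mul_smul, hdi, hs'.1, hd'.1]
    · intro h
      apply hs'.2.1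
      have := congrArg (fun z => d⁻¹ * z * d) h
      simpa [mul_assoc] using this
    · calc d * s * d⁻¹ * (d * s * d⁻¹) = d * (s * s) * d⁻¹ := by group
        _ = 1 := by rw [hs'.2.2]; group
  · exact hS.conj_mem d hd.1 r hr
  · dsimp only
    have e : d⁻¹ * t = t * d⁻¹ := by
      rw [inv_mul_eq_iff_eq_mul, ← mul_assoc, hdt]; group
    calc t * (d * s * d⁻¹) * t = (t * d) * s * (d⁻¹ * t) := by group
      _ = d * (t * s * t) * d⁻¹ := by rw [← hdt, e]; group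
      _ = (d * r⁻¹ * (t * r)) * d⁻¹ := by rw [h]; group
      _ = (d * r * d⁻¹)⁻¹ * (d * t) * r * d⁻¹ := by group
      _ = (d * r * d⁻¹)⁻¹ * t * (d * r * d⁻¹) := by rw [hdt]; group

theorem CD_eq {s r : G} (hs : s ∈ Cfsg.involutionsIn (stabilizer G a : Set G)) (hr : r ∈ Q)
    (h : t * s * t = r⁻¹ * t * r) :
    (stabilizer G a ⊓ stabilizer G (t • a)) ⊓ Subgroup.centralizer {t} =
      (stabilizer G a ⊓ stabilizer G (t • a)) ⊓ Subgroup.centralizer {s} := by
  apply SetLike.coe_injective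
  have hle : (((stabilizer G a ⊓ stabilizer G (t • a)) ⊓ Subgroup.centralizer {t} : Subgroup G) : Set G) ⊆
      ((stabilizer G a ⊓ stabilizer G (t • a)) ⊓ Subgroup.centralizer {s} : Subgroup G) := by
    rintro d ⟨hd, hdt⟩
    exact ⟨hd, Subgroup.mem_centralizer_singleton_iff.2
      (CDt_le_CDs hS hs hr h hd (Subgroup.mem_centralizer_singleton_iff.1 hdt))⟩
  apply Set.eq_of_subset_of_ncard_le hle
  rw [← Nat.card_coe_set_eq, ← Nat.card_coe_set_eq]
  -- |D| = |C_D(t)| |K| and K × C_D(s) → D, (k, c) ↦ c k  injective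
  have e1 := OddInv.card_eq_mul t hS.mul_self _ hS.odd_card (fun x hx => t_conj_D hS hx)
  have hs' := (mem_invol hS).1 hs
  have e2 : Nat.card (↥((stabilizer G a ⊓ stabilizer G (t • a)) ⊓ Subgroup.centralizer {s}) ×
      (Cfsg.invertedBy (stabilizer G a ⊓ stabilizer G (t • a)) t)) ≤
      Nat.card ↥(stabilizer G a ⊓ stabilizer G (t • a)) := by
    refine Nat.card_le_card_of_injective
      (fun p => ⟨p.1.1 * p.2.1, Subgroup.mul_mem _ p.1.2.1 p.2.2.1⟩) ?_
    rintro ⟨⟨c, hc⟩, ⟨k, hk⟩⟩ ⟨⟨c', hc'⟩, ⟨k', hk'⟩⟩ hck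
    simp only [Subtype.mk.injEq] at hck
    have g1 := Subgroup.mem_centralizer_singleton_iff.1 hc.2
    have g2 := Subgroup.mem_centralizer_singleton_iff.1 hc'.2
    have f : ∀ c k : G, c * s = s * c → (c * k)⁻¹ * s * (c * k) = k⁻¹ * s * k := by
      intro c k hc
      calc (c * k)⁻¹ * s * (c * k) = k⁻¹ * c⁻¹ * (s * c) * k := by group
        _ = k⁻¹ * s * k := by rw [← hc]; group
    have g3 : k = k' := by
      apply K_conj_injective hS hs'.1 hs'.2.1 hs'.2.2 hk hk'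
      rw [← f c k g1, ← f c' k' g2, hck]
    subst g3
    have g4 : c = c' := mul_right_cancel hck
    subst g4
    rfl
  rw [Nat.card_prod, e1] at e2
  exact Nat.le_of_mul_le_mul_right e2 (Nat.card_pos_iff.2 ⟨⟨⟨1, ⟨Subgroup.one_mem _, by simp⟩⟩⟩, inferInstance⟩)

theorem CV_K_eq :
      (stabilizer G a ⊓ stabilizer G (t • a)) ⊓ Subgroup.centralizer {t} ⊓ Subgroup.centralizer (Cfsg.invertedBy (stabilizer G a ⊓ stabilizer G (t • a)) t) =
        (stabilizer G a ⊓ stabilizer G (t • a)) ⊓ Subgroup.centralizer (Cfsg.involutionsIn (stabilizer G a : Set G)) := by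
  obtain ⟨⟨s, r⟩, ⟨hs, hr, h⟩, -⟩ := structure_eq hS
  dsimp only at hs hr h
  have hCD := CD_eq hS hs hr h
  have hs' := (mem_invol hS).1 hs
  ext d
  constructor
  · rintro ⟨⟨hd, hdt⟩, hdK⟩
    refine ⟨hd, ?_⟩
    have hds : d ∈ (stabilizer G a ⊓ stabilizer G (t • a)) ⊓ Subgroup.centralizer {s} := by
      rw [← hCD]; exact ⟨hd, hdt⟩
    have hds' := Subgroup.mem_centralizer_singleton_iff.1 hds.2
    show d ∈ Subgroup.centralizer _
    rw [Subgroup.mem_centralizer_iff]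
    intro s' hs'
    obtain ⟨k, hk, rfl⟩ := K_conj_surj hS hs hs'
    have hdk : k * d = d * k := Subgroup.mem_centralizer_iff.1 hdK k hk
    have hdk' : k⁻¹ * d = d * k⁻¹ := by
      rw [inv_mul_eq_iff_eq_mul, ← mul_assoc, hdk]; group
    calc k⁻¹ * s * k * d = k⁻¹ * s * (k * d) := by group
      _ = k⁻¹ * (s * d) * k := by rw [hdk]; group
      _ = (k⁻¹ * d) * s * k := by rw [← hds']; group
      _ = d * (k⁻¹ * s * k) := by rw [hdk']; group
  · rintro ⟨hd, hdI⟩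
    have hdI' := Subgroup.mem_centralizer_iff.1 hdI
    have hdst : d ∈ (stabilizer G a ⊓ stabilizer G (t • a)) ⊓ Subgroup.centralizer {t} := by
      rw [hCD]
      exact ⟨hd, Subgroup.mem_centralizer_singleton_iff.2 (hdI' s hs).symm⟩
    refine ⟨hdst, ?_⟩
    show d ∈ Subgroup.centralizer _
    rw [Subgroup.mem_centralizer_iff]
    intro k hk
    have hdt := Subgroup.mem_centralizer_singleton_iff.1 hdst.2
    have hk2 := V_conj_K hS hd hdt hk
    have hinv : k⁻¹ * s * k ∈ Cfsg.involutionsIn (stabilizer G a : Set G) := by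
      have hkK := (mem_invertedBy hS).1 hk
      rw [mem_invol hS]
      refine ⟨?_, ?_, ?_⟩
      · rw [mul_smul, mul_smul, hkK.1.1, hs'.1, inv_smul_eq_iff, hkK.1.1]
      · intro h
        apply hs'.2.1
        have := congrArg (fun z => k * z * k⁻¹) h
        simpa [mul_assoc] using this
      · calc k⁻¹ * s * k * (k⁻¹ * s * k) = k⁻¹ * (s * s) * k := by group
          _ = 1 := by rw [hs'.2.2]; group
    have h5 : d * k * d⁻¹ = k := by
      apply K_conj_injective hS hs'.1 hs'.2.1 hs'.2.2 hk2 hk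
      have h6 := hdI' _ hinv
      have h7 := hdI' _ hs
      have h8 : d⁻¹ * s * d = s := by rw [mul_assoc, h7]; group
      calc (d * k * d⁻¹)⁻¹ * s * (d * k * d⁻¹) = d * (k⁻¹ * (d⁻¹ * s * d) * k) * d⁻¹ := by group
        _ = d * (k⁻¹ * s * k) * d⁻¹ := by rw [h8]
        _ = k⁻¹ * s * k := by rw [← h6]; group
    rw [mul_inv_eq_iff_eq_mul] at h5
    exact h5.symm

end two

/-! ### four-groups and `O(G)` -/

section four

/-- An odd order subgroup normalised by two commuting involutions is a product of centralisers. -/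
theorem four_group_gen {H : Type*} [Group H] [Finite H] (N : Subgroup H) (hodd : Odd (Nat.card N))
    {x y : H} (hx : x * x = 1) (hy : y * y = 1) (hxy : x * y = y * x)
    (hNx : ∀ n ∈ N, x * n * x⁻¹ ∈ N) (hNy : ∀ n ∈ N, y * n * y⁻¹ ∈ N) {n : H} (hn : n ∈ N) :
    ∃ p ∈ N, ∃ q ∈ N, ∃ r ∈ N, p * x = x * p ∧ q * (x * y) = (x * y) * q ∧ r * y = y * r ∧ n = p * q * r := by
  have hxi : x⁻¹ = x := by rw [inv_eq_iff_mul_eq_one]; exact hx
  have hyi : y⁻¹ = y := by rw [inv_eq_iff_mul_eq_one]; exact hy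
  obtain ⟨f, hf⟩ : ∃ f, f = x * y := ⟨_, rfl⟩
  have hff : f * f = 1 := by
    rw [hf]
    calc x * y * (x * y) = x * (y * x) * y := by group
      _ = (x * x) * (y * y) := by rw [← hxy]; group
      _ = 1 := by rw [hx, hy, one_mul]
  have hfi : f⁻¹ = f := by rw [inv_eq_iff_mul_eq_one]; exact hff
  have hfx : f * x = x * f := by rw [hf, mul_assoc, ← hxy]
  have hfy : f * y = y * f := by
    rw [hf, ← mul_assoc, ← hxy]
  have hNf : ∀ n ∈ N, f * n * f⁻¹ ∈ N := by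
    intro n hn
    have := hNx _ (hNy n hn)
    have e : x * (y * n * y⁻¹) * x⁻¹ = f * n * f⁻¹ := by rw [hf]; group
    rwa [e] at this
  obtain ⟨v, hv⟩ : ∃ v, v = n * y * n⁻¹ := ⟨_, rfl⟩
  have hvv : v * v = 1 := by
    rw [hv]
    calc n * y * n⁻¹ * (n * y * n⁻¹) = n * (y * y) * n⁻¹ := by group
      _ = 1 := by rw [hy]; group
  have hvi : v⁻¹ = v := by rw [inv_eq_iff_mul_eq_one]; exact hvv
  have hxvf : x * v * f ∈ N := by
    have e : x * v * f = (x * n * x⁻¹) * (f * n⁻¹ * f⁻¹) := by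
      rw [hv, hfi, hxi]
      calc x * (n * y * n⁻¹) * f = x * n * (x * x) * y * n⁻¹ * f := by rw [hx]; group
        _ = x * n * x * (x * y) * n⁻¹ * f := by group
        _ = x * n * x * f * n⁻¹ * f := by rw [← hf]
        _ = _ := by group
    rw [e]
    exact N.mul_mem (hNx n hn) (hNf n⁻¹ (N.inv_mem hn))
  have hxv2 : (x * v) * (x * v) ∈ N := by
    have e : (x * v) * (x * v) = (x * v * f) * (f * (x * v * f) * f⁻¹) := by
      rw [hfi]
      calc (x * v) * (x * v) = (x * v) * (f * f) * (x * v) * (f * f) := by rw [hff]; group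
        _ = _ := by group
    rw [e]
    exact N.mul_mem hxvf (hNf _ hxvf)
  obtain ⟨m, hm⟩ := OddInv.odd_orderOf_of_mem hodd hxv2
  have hgg : ((x * v) * (x * v)) ^ (2 * m + 1) = 1 := by rw [← hm]; exact pow_orderOf_eq_one _
  obtain ⟨e, he⟩ : ∃ e, e = (x * v) ^ (2 * m + 1) := ⟨_, rfl⟩
  have hee : e * e = 1 := by
    rw [he, ← pow_add]
    have : 2 * m + 1 + (2 * m + 1) = 2 * (2 * m + 1) := by ring
    rw [this, pow_mul, pow_two, hgg]
  have hei : e⁻¹ = e := by rw [inv_eq_iff_mul_eq_one]; exact hee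
  have hex : e * x = x * e := by
    have h1 : x * e * x⁻¹ = e⁻¹ := by
      rw [he, ← conj_pow, ← inv_pow]
      congr 1
      rw [mul_inv_rev, hxi, hvi]
      calc x * (x * v) * x = (x * x) * v * x := by group
        _ = v * x := by rw [hx, one_mul]
    rw [hei, mul_inv_eq_iff_eq_mul] at h1
    exact h1.symm
  have hev : e * v = v * e := by
    have h1 : v * e * v⁻¹ = e⁻¹ := by
      rw [he, ← conj_pow, ← inv_pow]
      congr 1
      rw [mul_inv_rev, hxi, hvi]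
      calc v * (x * v) * v = v * x * (v * v) := by group
        _ = v * x := by rw [hvv, mul_one]
    rw [hei, mul_inv_eq_iff_eq_mul] at h1
    exact h1.symm
  have hef : e * f ∈ N := by
    have h1 : e * f = ((x * v) * (x * v)) ^ m * (x * v * f) := by
      rw [he, pow_succ, pow_mul, pow_two]; group
    rw [h1]
    exact N.mul_mem (N.pow_mem hxv2 m) hxvf
  have hfe : f * e ∈ N := by
    have := hNf _ hef
    have e1 : f * (e * f) * f⁻¹ = f * e := by group
    rwa [e1] at this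
  obtain ⟨k, hk⟩ := exists_pow_conj hee hff (OddInv.odd_orderOf_of_mem hodd hfe)
  obtain ⟨p₁, hp₁⟩ : ∃ p₁, p₁ = (f * e) ^ k := ⟨_, rfl⟩
  rw [← hp₁] at hk
  have hp₁N : p₁ ∈ N := by rw [hp₁]; exact N.pow_mem hfe k
  have hp₁x : p₁ * x = x * p₁ := by
    rw [hp₁]
    have : Commute (f * e) x := by
      show f * e * x = x * (f * e)
      rw [mul_assoc, hex, ← mul_assoc, hfx, mul_assoc]
    exact this.pow_left k
  -- second step
  obtain ⟨v₁, hv₁⟩ : ∃ v₁, v₁ = p₁ * v * p₁⁻¹ := ⟨_, rfl⟩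
  have hv₁₁ : v₁ * v₁ = 1 := by
    rw [hv₁]
    calc p₁ * v * p₁⁻¹ * (p₁ * v * p₁⁻¹) = p₁ * (v * v) * p₁⁻¹ := by group
      _ = 1 := by rw [hvv]; group
  have hv₁f : f * v₁ = v₁ * f := by
    rw [← hk, hv₁]
    calc p₁ * e * p₁⁻¹ * (p₁ * v * p₁⁻¹) = p₁ * (e * v) * p₁⁻¹ := by group
      _ = p₁ * (v * e) * p₁⁻¹ := by rw [hev]
      _ = _ := by group
  have hyv : y * v₁ ∈ N := by
    have e1 : y * v₁ = (y * (p₁ * n) * y⁻¹) * (p₁ * n)⁻¹ := by
      rw [hv₁, hv, hyi]; group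
    rw [e1]
    exact N.mul_mem (hNy _ (N.mul_mem hp₁N hn)) (N.inv_mem (N.mul_mem hp₁N hn))
  obtain ⟨k', hk'⟩ := exists_pow_conj hv₁₁ hy (OddInv.odd_orderOf_of_mem hodd hyv)
  obtain ⟨q₁, hq₁⟩ : ∃ q₁, q₁ = (y * v₁) ^ k' := ⟨_, rfl⟩
  rw [← hq₁] at hk'
  have hq₁N : q₁ ∈ N := by rw [hq₁]; exact N.pow_mem hyv k'
  have hq₁f : q₁ * f = f * q₁ := by
    rw [hq₁]
    have : Commute (y * v₁) f := by
      show y * v₁ * f = f * (y * v₁)
      rw [mul_assoc, ← hv₁f, ← mul_assoc, ← hfy, mul_assoc]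
    exact this.pow_left k'
  refine ⟨p₁⁻¹, N.inv_mem hp₁N, q₁⁻¹, N.inv_mem hq₁N, q₁ * p₁ * n, N.mul_mem (N.mul_mem hq₁N hp₁N) hn, ?_, ?_, ?_, by group⟩
  · rw [inv_mul_eq_iff_eq_mul, ← mul_assoc, hp₁x]; group
  · rw [← hf, inv_mul_eq_iff_eq_mul, ← mul_assoc, hq₁f]; group
  · have h1 : (q₁ * p₁ * n) * y * (q₁ * p₁ * n)⁻¹ = y := by
      calc (q₁ * p₁ * n) * y * (q₁ * p₁ * n)⁻¹ = q₁ * (p₁ * (n * y * n⁻¹) * p₁⁻¹) * q₁⁻¹ := by group
        _ = y := by rw [← hv, ← hv₁, hk']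
    exact mul_inv_eq_iff_eq_mul.1 h1

variable [Finite G] (hS : Cfsg.IsRankOneSetup G Ω a t Q)
include hS

theorem core_le_D : (stabilizer G a).normalCore ≤ stabilizer G a ⊓ stabilizer G (t • a) := by
  intro g hg
  have h1 := (stabilizer G a).normalCore_le hg
  refine Subgroup.mem_inf.2 ⟨h1, ?_⟩
  have h2 : t⁻¹ * g * t ∈ (stabilizer G a).normalCore := by
    have := (stabilizer G a).normalCore_normal.conj_mem g hg t⁻¹
    rwa [inv_inv] at this
  have h3 := (stabilizer G a).normalCore_le h2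
  rw [mem_stabilizer_iff, mul_smul, mul_smul, inv_smul_eq_iff] at h3
  exact h3

theorem odd_normal_le (h2 : ∃ x y : G, x ≠ 1 ∧ y ≠ 1 ∧ x ≠ y ∧ x * x = 1 ∧ y * y = 1 ∧ x * y = y * x)
    (N : Subgroup G) (hN : N.Normal) (hodd : Odd (Nat.card N)) : N ≤ (stabilizer G a).normalCore := by
  obtain ⟨x, y, hx1, hy1, hne, hx, hy, hxy⟩ := h2
  have hxy1 : x * y ≠ 1 := by
    intro h
    apply hne
    rw [mul_eq_one_iff_eq_inv] at h
    rw [h, inv_eq_iff_mul_eq_one]; exact hy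
  have hxy2 : (x * y) * (x * y) = 1 := by
    calc x * y * (x * y) = x * (y * x) * y := by group
      _ = (x * x) * (y * y) := by rw [← hxy]; group
      _ = 1 := by rw [hx, hy, one_mul]
  obtain ⟨c, hc, hcu⟩ := exists_fix (Ω := Ω) hS hx1 hx
  have hyc : y • c = c := by
    apply hcu
    rw [smul_smul, hxy, mul_smul, hc]
  have hxyc : (x * y) • c = c := by rw [mul_smul, hyc, hc]
  have hfix : ∀ n ∈ N, n • c = c := by
    intro n hn
    obtain ⟨p, hp, q, hq, r, hr, hpx, hqf, hry, rfl⟩ := four_group_gen N hodd hx hy hxy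
      (fun n hn => hN.conj_mem n hn x) (fun n hn => hN.conj_mem n hn y) hn
    have e1 : p • c = c := by
      apply fix_unique (Ω := Ω) hS hx1 hx _ hc
      rw [smul_smul, ← hpx, mul_smul, hc]
    have e2 : q • c = c := by
      apply fix_unique (Ω := Ω) hS hxy1 hxy2 _ hxyc
      rw [smul_smul, ← hqf, mul_smul, hxyc]
    have e3 : r • c = c := by
      apply fix_unique (Ω := Ω) hS hy1 hy _ hyc
      rw [smul_smul, ← hry, mul_smul, hyc]
    rw [mul_smul, mul_smul, e3, e2, e1]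
  have hall : N ≤ stabilizer G a := by
    intro n hn
    obtain ⟨g, hg⟩ : ∃ g : G, g • c = a := by
      have : MulAction.IsPretransitive G Ω := by
        have := hS.two_transitive
        exact isPretransitive_of_is_two_pretransitive
      exact exists_smul_eq G c a
    have h1 := hfix _ (hN.conj_mem n hn g⁻¹)
    rw [inv_inv, mul_smul, mul_smul, inv_smul_eq_iff, hg] at h1
    exact mem_stabilizer_iff.2 h1
  exact (Subgroup.normal_le_normalCore).2 hall

theorem pPrimeCore_eq (h2 : ∃ x y : G, x ≠ 1 ∧ y ≠ 1 ∧ x ≠ y ∧ x * x = 1 ∧ y * y = 1 ∧ x * y = y * x) :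
    Cfsg.pPrimeCore 2 G = (stabilizer G a).normalCore := by
  apply le_antisymm
  · apply sSup_le
    rintro N ⟨hN, hodd⟩
    exact odd_normal_le hS h2 N hN (Nat.coprime_two_right.1 hodd)
  · apply le_sSup
    refine ⟨(stabilizer G a).normalCore_normal, ?_⟩
    rw [Nat.coprime_two_right]
    exact Odd.of_dvd_nat hS.odd_card (Subgroup.card_dvd_of_le (core_le_D hS))

end four

/-! ### consequences of: the involutions of `G_a` centralise `Q` -/

section central

variable [Finite G] (hS : Cfsg.IsRankOneSetup G Ω a t Q)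
include hS

theorem exists_move (c : Ω) : ∃ g : G, g • a = c := by
  have : MulAction.IsPretransitive G Ω := by
    have := hS.two_transitive
    exact isPretransitive_of_is_two_pretransitive
  exact exists_smul_eq G a c

/-- two involutions with different fixed points have product of odd order. -/
theorem odd_mul' {u v : G} (hu1 : u ≠ 1) (hu : u * u = 1) (hv1 : v ≠ 1) (hv : v * v = 1)
    {c d : Ω} (hc : u • c = c) (hd : v • d = d) (hcd : c ≠ d) : Odd (orderOf (u * v)) := by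
  obtain ⟨g, rfl⟩ := exists_move hS c
  have h1 : (g⁻¹ * u * g) * (g⁻¹ * u * g) = 1 := by
    calc (g⁻¹ * u * g) * (g⁻¹ * u * g) = g⁻¹ * (u * u) * g := by group
      _ = 1 := by rw [hu]; group
  have h2 : (g⁻¹ * v * g) * (g⁻¹ * v * g) = 1 := by
    calc (g⁻¹ * v * g) * (g⁻¹ * v * g) = g⁻¹ * (v * v) * g := by group
      _ = 1 := by rw [hv]; group
  have h3 : g⁻¹ * u * g ≠ 1 := by
    intro h
    apply hu1
    have := congrArg (fun z => g * z * g⁻¹) h
    simpa [mul_assoc] using this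
  have h4 : (g⁻¹ * u * g) • a = a := by rw [mul_smul, mul_smul, hc, inv_smul_smul]
  have h5 : (g⁻¹ * v * g) • a ≠ a := by
    intro h
    rw [mul_smul, mul_smul, inv_smul_eq_iff] at h
    exact hcd (fix_unique (Ω := Ω) hS hv1 hv h hd)
  have h6 := odd_mul hS h4 h3 h1 h5 h2
  have e : (g⁻¹ * u * g) * (g⁻¹ * v * g) = MulAut.conj g⁻¹ (u * v) := by
    rw [MulAut.conj_apply]; group
  rw [e, MulEquiv.orderOf_eq] at h6
  exact h6

variable (hZ : ∀ s ∈ Cfsg.involutionsIn (stabilizer G a : Set G), ∀ x ∈ Q, s * x = x * s)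
include hZ

theorem invol_comm_of_fix {u v : G} (hu1 : u ≠ 1) (hu : u * u = 1) (hv1 : v ≠ 1) (hv : v * v = 1)
    {c : Ω} (hc : u • c = c) (hd : v • c = c) : u * v = v * u := by
  obtain ⟨g, rfl⟩ := exists_move hS c
  have h1 : (g⁻¹ * u * g) * (g⁻¹ * u * g) = 1 := by
    calc (g⁻¹ * u * g) * (g⁻¹ * u * g) = g⁻¹ * (u * u) * g := by group
      _ = 1 := by rw [hu]; group
  have h2 : (g⁻¹ * v * g) * (g⁻¹ * v * g) = 1 := by
    calc (g⁻¹ * v * g) * (g⁻¹ * v * g) = g⁻¹ * (v * v) * g := by group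
      _ = 1 := by rw [hv]; group
  have h3 : g⁻¹ * u * g ≠ 1 := by
    intro h
    apply hu1
    have := congrArg (fun z => g * z * g⁻¹) h
    simpa [mul_assoc] using this
  have h4 : (g⁻¹ * u * g) • a = a := by rw [mul_smul, mul_smul, hc, inv_smul_smul]
  have h5 : (g⁻¹ * v * g) • a = a := by rw [mul_smul, mul_smul, hd, inv_smul_smul]
  have h6 := hZ (g⁻¹ * u * g) ⟨mem_stabilizer_iff.2 h4, h3, h1⟩ (g⁻¹ * v * g) (mem_Q_of_sq hS (mem_stabilizer_iff.2 h5) h2)
  calc u * v = g * ((g⁻¹ * u * g) * (g⁻¹ * v * g)) * g⁻¹ := by group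
    _ = g * ((g⁻¹ * v * g) * (g⁻¹ * u * g)) * g⁻¹ := by rw [h6]
    _ = _ := by group

/-- elements of the conjugate of `Q` attached to the fixed point of `t`: for `b, b' ≠ c` there is `q` in it
with `q b = b'`, `q` commutes with `t`. -/
theorem exists_Qc {c b b' : Ω} (hc : t • c = c) (hb : b ≠ c) (hb' : b' ≠ c) :
    ∃ g : G, g • a = c ∧ ∃ y ∈ Q, (g * y * g⁻¹) * t = t * (g * y * g⁻¹) ∧ (g * y * g⁻¹) • b = b' := by
  obtain ⟨g, rfl⟩ := exists_move hS c
  have h1 : g⁻¹ • b ≠ a := by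
    intro h; apply hb; rw [inv_smul_eq_iff] at h; exact h
  have h2 : g⁻¹ • b' ≠ a := by
    intro h; apply hb'; rw [inv_smul_eq_iff] at h; exact h
  obtain ⟨⟨y, hy⟩, hyb, -⟩ := Q_reg hS h1 h2
  simp only at hyb
  refine ⟨g, rfl, y, hy, ?_, ?_⟩
  · have h3 : (g⁻¹ * t * g) • a = a := by rw [mul_smul, mul_smul, hc, inv_smul_smul]
    have h4 : g⁻¹ * t * g ≠ 1 := by
      intro h
      apply hS.ne_one
      have := congrArg (fun z => g * z * g⁻¹) h
      simpa [mul_assoc] using this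
    have h5 : (g⁻¹ * t * g) * (g⁻¹ * t * g) = 1 := by
      calc (g⁻¹ * t * g) * (g⁻¹ * t * g) = g⁻¹ * (t * t) * g := by group
        _ = 1 := by rw [hS.mul_self]; group
    have h6 := hZ (g⁻¹ * t * g) ⟨mem_stabilizer_iff.2 h3, h4, h5⟩ y hy
    calc (g * y * g⁻¹) * t = g * (y * (g⁻¹ * t * g)) * g⁻¹ := by group
      _ = g * ((g⁻¹ * t * g) * y) * g⁻¹ := by rw [h6]
      _ = _ := by group
  · rw [mul_smul, mul_smul, hyb, smul_inv_smul]

theorem real_conj {u v : G} (hu1 : u ≠ 1) (hu2 : u * u = 1) (hv1 : v ≠ 1) (hv2 : v * v = 1) (hx : (u * v) * (u * v) ≠ 1) :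
    ∃ g : G, ∃ u' ∈ Cfsg.involutionsIn (stabilizer G a : Set G), g * (u * v) * g⁻¹ = u' * t := by
  obtain ⟨c, hc, hcu⟩ := exists_fix (Ω := Ω) hS hS.ne_one hS.mul_self
  obtain ⟨g₁, hg₁⟩ := conj_invol hS hv1 hv2 hS.ne_one hS.mul_self
  obtain ⟨d, hd, hdu⟩ := exists_fix (Ω := Ω) hS hu1 hu2
  have hac : a ≠ c := by rintro rfl; exact ta_ne hS hc
  have hdc : g₁ • d ≠ c := by
    intro h
    apply hx
    have hvd : v • d = d := by
      have : t • g₁ • d = g₁ • d := by rw [h, hc]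
      rw [← hg₁, mul_smul, mul_smul, inv_smul_smul] at this
      exact smul_left_cancel g₁ this
    have := invol_comm_of_fix hS hZ hu1 hu2 hv1 hv2 hd hvd
    calc u * v * (u * v) = u * (v * u) * v := by group
      _ = (u * u) * (v * v) := by rw [← this]; group
      _ = 1 := by rw [hu2, hv2, one_mul]
  obtain ⟨g, hg, y, hy, hyt, hyb⟩ := exists_Qc hS hZ hc hdc hac
  obtain ⟨g₂, hg₂⟩ : ∃ g₂, g₂ = g * y * g⁻¹ := ⟨_, rfl⟩
  rw [← hg₂] at hyt hyb
  have e0 : (g₂ * g₁) * u * (g₂ * g₁)⁻¹ * ((g₂ * g₁) * u * (g₂ * g₁)⁻¹) = 1 := by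
    calc _ = (g₂ * g₁) * (u * u) * (g₂ * g₁)⁻¹ := by group
      _ = 1 := by rw [hu2]; group
  refine ⟨g₂ * g₁, (g₂ * g₁) * u * (g₂ * g₁)⁻¹, ?_, ?_⟩
  · rw [mem_invol hS]
    refine ⟨?_, ?_, e0⟩
    · have : (g₂ * g₁)⁻¹ • a = d := by rw [inv_smul_eq_iff, mul_smul, hyb]
      rw [mul_smul, mul_smul, this, hd, mul_smul, hyb]
    · intro h
      apply hu1
      have := congrArg (fun z => (g₂ * g₁)⁻¹ * z * (g₂ * g₁)) h
      simpa [mul_assoc] using this
  · calc g₂ * g₁ * (u * v) * (g₂ * g₁)⁻¹ = (g₂ * g₁) * u * (g₂ * g₁)⁻¹ * (g₂ * (g₁ * v * g₁⁻¹) * g₂⁻¹) := by group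
      _ = (g₂ * g₁) * u * (g₂ * g₁)⁻¹ * t := by
        rw [hg₁, hyt]; group

theorem real_centralizer_odd {u v : G} (hu1 : u ≠ 1) (hu2 : u * u = 1) (hv1 : v ≠ 1) (hv2 : v * v = 1) (hx : (u * v) * (u * v) ≠ 1) :
    Odd (Nat.card ↥(Subgroup.centralizer {u * v})) := by
  classical
  by_contra hodd
  rw [Nat.not_odd_iff_even, even_iff_two_dvd] at hodd
  have : Fact (Nat.Prime 2) := ⟨Nat.prime_two⟩
  obtain ⟨⟨w, hwc⟩, hw⟩ := exists_prime_orderOf_dvd_card' (G := Subgroup.centralizer {u * v}) 2 hodd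
  have hw1 : w ≠ 1 := by
    rintro rfl
    have : (⟨1, hwc⟩ : Subgroup.centralizer {u * v}) = 1 := rfl
    rw [this, orderOf_one] at hw
    omega
  have hww : w * w = 1 := by
    have h := pow_orderOf_eq_one (⟨w, hwc⟩ : Subgroup.centralizer {u * v})
    rw [hw, pow_two] at h
    exact congrArg Subtype.val h
  have hwx := Subgroup.mem_centralizer_singleton_iff.1 hwc
  obtain ⟨c, hc, hcu⟩ := exists_fix (Ω := Ω) hS hw1 hww
  have hxc : (u * v) • c = c := by
    apply hcu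
    rw [smul_smul, hwx, mul_smul, hc]
  obtain ⟨d, hd, hdu⟩ := exists_fix (Ω := Ω) hS hu1 hu2
  let F := {b : Ω // (u * v) • b = b}
  have hfinΩ : Finite Ω := by
    apply Nat.finite_of_card_ne_zero
    rw [card_Ω hS]; omega
  have : Fintype F := Fintype.ofFinite F
  have hui : u⁻¹ = u := by rw [inv_eq_iff_mul_eq_one]; exact hu2
  have hvi : v⁻¹ = v := by rw [inv_eq_iff_mul_eq_one]; exact hv2
  let fu : F → F := fun b => ⟨u • b.1, by
    have h1 := b.2
    have h2 : v • b.1 = u • b.1 := by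
      rw [mul_smul] at h1
      have := congrArg (fun z => u⁻¹ • z) h1
      simp only [inv_smul_smul] at this
      rw [this, hui]
    rw [mul_smul]
    rw [← h2, smul_smul v v, hv2, one_smul]
    exact h2.symm⟩
  let fw : F → F := fun b => ⟨w • b.1, by
    have h1 := b.2
    rw [smul_smul, ← hwx, mul_smul, h1]⟩
  have hfu : (show Function.End F from fu) ^ 2 ^ 1 = 1 := by
    rw [pow_one, pow_two]
    funext b
    apply Subtype.ext
    show u • u • b.1 = b.1
    rw [smul_smul, hu2, one_smul]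
  have hfw : (show Function.End F from fw) ^ 2 ^ 1 = 1 := by
    rw [pow_one, pow_two]
    funext b
    apply Subtype.ext
    show w • w • b.1 = b.1
    rw [smul_smul, hww, one_smul]
  have m1 := Equiv.Perm.card_fixedPoints_modEq hfu
  have m2 := Equiv.Perm.card_fixedPoints_modEq hfw
  have c1 : Fintype.card (Function.fixedPoints (show Function.End F from fu)) = 0 := by
    rw [Fintype.card_eq_zero_iff]
    constructor
    rintro ⟨⟨b, hb⟩, hfb⟩
    have hub : u • b = b := congrArg Subtype.val hfb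
    have hvb : v • b = b := by
      rw [mul_smul] at hb
      have := congrArg (fun z => u⁻¹ • z) hb
      simp only [inv_smul_smul] at this
      rw [this, hui, hub]
    apply hx
    have := invol_comm_of_fix hS hZ hu1 hu2 hv1 hv2 hub hvb
    calc u * v * (u * v) = u * (v * u) * v := by group
      _ = (u * u) * (v * v) := by rw [← this]; group
      _ = 1 := by rw [hu2, hv2, one_mul]
  have c2 : Fintype.card (Function.fixedPoints (show Function.End F from fw)) = 1 := by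
    rw [Fintype.card_eq_one_iff]
    refine ⟨⟨⟨c, hxc⟩, Subtype.ext hc⟩, ?_⟩
    rintro ⟨⟨b, hb⟩, hfb⟩
    have hwb : w • b = b := congrArg Subtype.val hfb
    apply Subtype.ext
    apply Subtype.ext
    exact hcu b hwb
  rw [c1] at m1
  rw [c2] at m2
  have := m1.symm.trans m2
  exact absurd this (by decide)

theorem fusion_V (X : Set G) (hX : ∀ x ∈ X, (x • a = a ∧ x • t • a = t • a) ∧ x * t = t * x) (g : G)
    (hY : ∀ x ∈ X, ((g * x * g⁻¹) • a = a ∧ (g * x * g⁻¹) • t • a = t • a) ∧ (g * x * g⁻¹) * t = t * (g * x * g⁻¹)) :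
    ∃ v : G, (v • a = a ∧ v • t • a = t • a) ∧ v * t = t * v ∧ ∀ x ∈ X, v * x * v⁻¹ = g * x * g⁻¹ := by
  have htt := hS.mul_self
  have hti := t_inv hS
  obtain ⟨c, hc, hca, hcta⟩ := third_point (Ω := Ω) hS
  have hXc : ∀ x ∈ X, x • c = c := fun x hx => third_fixed hS (hX x hx).2 hc
  have h3 : ∃ d : Ω, d ≠ a ∧ d ≠ t • a ∧ ∀ x ∈ X, x • d = d := ⟨c, hca, hcta, hXc⟩
  -- T
  obtain ⟨T, hT⟩ : ∃ T, T = g⁻¹ * t * g := ⟨_, rfl⟩
  have hT1 : T ≠ 1 := by
    rw [hT]; intro h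
    apply hS.ne_one
    have := congrArg (fun z => g * z * g⁻¹) h
    simpa [mul_assoc] using this
  have hTT : T * T = 1 := by
    rw [hT]
    calc (g⁻¹ * t * g) * (g⁻¹ * t * g) = g⁻¹ * (t * t) * g := by group
      _ = 1 := by rw [hS.mul_self]; group
  have hTX : ∀ x ∈ X, x * T = T * x := by
    intro x hx
    rw [hT]
    calc x * (g⁻¹ * t * g) = g⁻¹ * ((g * x * g⁻¹) * t) * g := by group
      _ = g⁻¹ * (t * (g * x * g⁻¹)) * g := by rw [(hY x hx).2]
      _ = _ := by group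
  -- conjugating involutions of C(X) with different fixed points
  have conj1 : ∀ u v : G, u ≠ 1 → u * u = 1 → v ≠ 1 → v * v = 1 → (∀ x ∈ X, x * u = u * x) → (∀ x ∈ X, x * v = v * x) →
      ∀ c d : Ω, u • c = c → v • d = d → c ≠ d → ∃ k : G, (∀ x ∈ X, x * k = k * x) ∧ k * u * k⁻¹ = v := by
    intro u v hu1 hu hv1 hv hXu hXv c d hc hd hcd
    have hodd := odd_mul' hS hv1 hv hu1 hu hd hc hcd.symm
    obtain ⟨k, hk⟩ := exists_pow_conj hu hv hodd
    refine ⟨(v * u) ^ k, ?_, hk⟩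
    intro x hx
    have : Commute x (v * u) := by
      show x * (v * u) = v * u * x
      rw [← mul_assoc, hXv x hx, mul_assoc, hXu x hx, mul_assoc]
    exact this.pow_right k
  have hex : ∃ k : G, (∀ x ∈ X, x * k = k * x) ∧ k * T * k⁻¹ = t := by
    obtain ⟨d, hd, -⟩ := exists_fix (Ω := Ω) hS hT1 hTT
    by_cases hcd : d = c
    · subst hcd
      obtain ⟨h, hh, hha⟩ := cent_to_a hS (fun x hx => (hX x hx).1) h3 hXc
      have e1 : (h * t * h⁻¹) ≠ 1 := by
        intro h'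
        apply hS.ne_one
        have := congrArg (fun z => h⁻¹ * z * h) h'
        simpa [mul_assoc] using this
      have e2 : (h * t * h⁻¹) * (h * t * h⁻¹) = 1 := by
        calc (h * t * h⁻¹) * (h * t * h⁻¹) = h * (t * t) * h⁻¹ := by group
          _ = 1 := by rw [htt]; group
      have e3 : ∀ x ∈ X, x * (h * t * h⁻¹) = (h * t * h⁻¹) * x := by
        intro x hx
        have h1 : x * h⁻¹ = h⁻¹ * x := by
          rw [eq_inv_mul_iff_mul_eq, ← mul_assoc, ← hh x hx]; group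
        calc x * (h * t * h⁻¹) = (x * h) * t * h⁻¹ := by group
          _ = h * (x * t) * h⁻¹ := by rw [hh x hx]; group
          _ = h * t * (x * h⁻¹) := by rw [(hX x hx).2]; group
          _ = _ := by rw [h1]; group
      have e4 : (h * t * h⁻¹) • a = a := by
        have : h⁻¹ • a = d := by rw [inv_smul_eq_iff, hha]
        rw [mul_smul, mul_smul, this, hc, hha]
      obtain ⟨k, hk, hkT⟩ := conj1 T (h * t * h⁻¹) hT1 hTT e1 e2 hTX e3 d a hd e4 hca
      obtain ⟨k', hk', hkt⟩ := conj1 (h * t * h⁻¹) t e1 e2 hS.ne_one htt e3 (fun x hx => (hX x hx).2) a d e4 hc hca.symm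
      refine ⟨k' * k, ?_, ?_⟩
      · intro x hx; rw [← mul_assoc, hk' x hx, mul_assoc, hk x hx, mul_assoc]
      · calc k' * k * T * (k' * k)⁻¹ = k' * (k * T * k⁻¹) * k'⁻¹ := by group
          _ = t := by rw [hkT, hkt]
    · exact conj1 T t hT1 hTT hS.ne_one htt hTX (fun x hx => (hX x hx).2) d c hd hc hcd
  obtain ⟨k, hk, hkT⟩ := hex
  obtain ⟨h, hh⟩ : ∃ h, h = g * k⁻¹ := ⟨_, rfl⟩
  have hht : h * t = t * h := by
    rw [← hkT, hT, hh]
    calc g * k⁻¹ * (k * (g⁻¹ * t * g) * k⁻¹) = t * (g * k⁻¹) := by group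
      _ = (k * (g⁻¹ * t * g) * k⁻¹) * (g * k⁻¹) := by
        rw [← hT, hkT]
  have hhx : ∀ x ∈ X, h * x * h⁻¹ = g * x * g⁻¹ := by
    intro x hx
    rw [hh]
    have h1 : x * k = k * x := hk x hx
    calc g * k⁻¹ * x * (g * k⁻¹)⁻¹ = g * (k⁻¹ * (x * k)) * g⁻¹ := by group
      _ = g * x * g⁻¹ := by rw [h1]; group
  have hhc : h • c = c := third_fixed hS hht hc
  have hha : h • a ≠ c := by
    intro h'
    rw [← hhc] at h'
    exact hca (smul_left_cancel h h').symm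
  obtain ⟨g', hg', y, hy, hyt, hyb⟩ := exists_Qc hS hZ hc hca.symm hha
  obtain ⟨q, hq⟩ : ∃ q, q = g' * y * g'⁻¹ := ⟨_, rfl⟩
  rw [← hq] at hyt hyb
  obtain ⟨v, hv⟩ : ∃ v, v = q⁻¹ * h := ⟨_, rfl⟩
  have hva : v • a = a := by rw [hv, mul_smul, ← hyb, inv_smul_smul]
  have hvt : v * t = t * v := by
    have : q⁻¹ * t = t * q⁻¹ := by
      rw [inv_mul_eq_iff_eq_mul, ← mul_assoc, hyt]; group
    rw [hv, mul_assoc, hht, ← mul_assoc, this, mul_assoc]
  have hvta : v • t • a = t • a := by rw [smul_smul, hvt, mul_smul, hva]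
  refine ⟨v, ⟨hva, hvta⟩, hvt, ?_⟩
  intro x hx
  rw [← hhx x hx]
  have e1 : h * x * h⁻¹ = q * (v * x * v⁻¹) * q⁻¹ := by rw [hv]; group
  -- z = v x v⁻¹
  have hxi : x⁻¹ • a = a := by rw [inv_smul_eq_iff]; exact (hX x hx).1.1.symm
  have hvi : v⁻¹ • a = a := by rw [inv_smul_eq_iff]; exact hva.symm
  have hza : (v * x * v⁻¹)⁻¹ • a = a := by
    rw [mul_inv_rev, mul_inv_rev, inv_inv, mul_smul, mul_smul, hvi, hxi, hva]
  have hvc : v • c = c := third_fixed hS hvt hc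
  have hvic : v⁻¹ • c = c := by rw [inv_smul_eq_iff]; exact hvc.symm
  have hzc : (v * x * v⁻¹) • c = c := by rw [mul_smul, mul_smul, hvic, hXc x hx, hvc]
  -- q z q⁻¹ z⁻¹ = g' (y * (z' y⁻¹ z'⁻¹)) g'⁻¹ with z' = g'⁻¹ z g' ∈ G_a
  have hz'a : (g'⁻¹ * (v * x * v⁻¹) * g') ∈ stabilizer G a := by
    rw [mem_stabilizer_iff, mul_smul, mul_smul, hg', hzc, ← hg', inv_smul_smul]
  have hmem : y * ((g'⁻¹ * (v * x * v⁻¹) * g') * y⁻¹ * (g'⁻¹ * (v * x * v⁻¹) * g')⁻¹) ∈ Q :=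
    Q.mul_mem hy (hS.conj_mem _ hz'a _ (Q.inv_mem hy))
  have e2 : (h * x * h⁻¹) * (v * x * v⁻¹)⁻¹ = g' * (y * ((g'⁻¹ * (v * x * v⁻¹) * g') * y⁻¹ * (g'⁻¹ * (v * x * v⁻¹) * g')⁻¹)) * g'⁻¹ := by
    rw [e1, hq]; group
  have hfixa : ((h * x * h⁻¹) * (v * x * v⁻¹)⁻¹) • a = a := by
    rw [mul_smul, hza, hhx x hx]
    exact (hY x hx).1.1
  have hone : y * ((g'⁻¹ * (v * x * v⁻¹) * g') * y⁻¹ * (g'⁻¹ * (v * x * v⁻¹) * g')⁻¹) = 1 := by
    by_contra hne
    rw [e2] at hfixa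
    have h7 : (y * ((g'⁻¹ * (v * x * v⁻¹) * g') * y⁻¹ * (g'⁻¹ * (v * x * v⁻¹) * g')⁻¹)) • (g'⁻¹ • a) = g'⁻¹ • a := by
      rw [mul_smul, mul_smul] at hfixa
      have := congrArg (fun z => g'⁻¹ • z) hfixa
      simpa only [inv_smul_smul] using this
    have h8 := Q_free hS hmem hne h7
    rw [inv_smul_eq_iff, hg'] at h8
    exact hca h8.symm
  rw [hone] at e2
  have h9 : (h * x * h⁻¹) * (v * x * v⁻¹)⁻¹ = 1 := by rw [e2]; group
  exact (mul_inv_eq_one.1 h9).symm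

end central

end Cfsg.Agent.Lib.RankOneB
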