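import Mathlib
import Cfsg.Prelude.Def_LieRecognition
import Cfsg.Agent.Lib.OddInv
import Cfsg.Agent.Lib.RankOne
import Cfsg.Agent.Lib.RankOneB
import Cfsg.Agent.S0033

/-!
The split rank-one set-up, continued: `Q` is nilpotent, the involutions of `G_a` are central in `Q`
(when `G` has 2-rank at least 2).
-/

set_option autoImplicit false

namespace Cfsg.Agent.Lib.RankOneC

open MulAction Cfsg.Agent.Lib.RankOne Cfsg.Agent.Lib.RankOneB

/-- a nontrivial normal subgroup of a nilpotent group meets the centre. -/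
theorem exists_mem_center {H : Type*} [Group H] [hn : Group.IsNilpotent H] (N : Subgroup H) (hN : N.Normal)
    (hne : ∃ x ∈ N, x ≠ 1) : ∃ x ∈ N, x ≠ 1 ∧ x ∈ Subgroup.center H := by
  classical
  have hex : ∃ n, ∃ x ∈ N, x ≠ 1 ∧ x ∈ Subgroup.upperCentralSeries H n := by
    obtain ⟨x, hx, hx1⟩ := hne
    refine ⟨Group.nilpotencyClass H, x, hx, hx1, ?_⟩
    rw [Subgroup.upperCentralSeries_nilpotencyClass]; trivial
  have hmin := Nat.find_spec hex
  obtain ⟨x, hx, hx1, hxn⟩ := hmin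
  refine ⟨x, hx, hx1, ?_⟩
  rcases hm : Nat.find hex with _ | m
  · rw [hm, Subgroup.upperCentralSeries_zero, Subgroup.mem_bot] at hxn
    exact absurd hxn hx1
  · rw [hm, Subgroup.mem_upperCentralSeries_succ_iff] at hxn
    rw [Subgroup.mem_center_iff]
    intro y
    by_contra hne'
    have h1 : x * y * x⁻¹ * y⁻¹ ≠ 1 := by
      intro h
      apply hne'
      rw [mul_inv_eq_one, mul_inv_eq_iff_eq_mul] at h
      exact h.symm
    have h2 : x * y * x⁻¹ * y⁻¹ ∈ N := by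
      have e : x * y * x⁻¹ * y⁻¹ = x * (y * x⁻¹ * y⁻¹) := by group
      rw [e]
      exact N.mul_mem hx (hN.conj_mem _ (N.inv_mem hx) y)
    exact Nat.find_min hex (m := m) (by omega) ⟨_, h2, h1, hxn y⟩

/-- a nilpotent finite group of even order has a central involution. -/
theorem exists_central_invol' {H : Type*} [Group H] [Finite H] [hn : Group.IsNilpotent H] (heven : Even (Nat.card H)) :
    ∃ z ∈ Subgroup.center H, z ≠ 1 ∧ z * z = 1 := by
  have : Fact (Nat.Prime 2) := ⟨Nat.prime_two⟩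
  obtain ⟨P⟩ : Nonempty (Sylow 2 H) := inferInstance
  have hP1 : ∃ x ∈ (P : Subgroup H), x ≠ 1 := by
    obtain ⟨x, hx⟩ := exists_prime_orderOf_dvd_card' (G := H) 2 (even_iff_two_dvd.1 heven)
    have hPb : (P : Subgroup H) ≠ ⊥ := by
      intro h
      have h1 := P.card_eq_multiplicity
      have h0 : Nat.card P = 1 := by
        have : Nat.card (P : Subgroup H) = 1 := by rw [h]; exact Subgroup.card_bot
        exact this
      rw [h0] at h1
      have h2 : 0 < (Nat.card H).factorization 2 :=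
        Nat.Prime.factorization_pos_of_dvd Nat.prime_two Nat.card_pos.ne' (even_iff_two_dvd.1 heven)
      have h3 : 1 < 2 ^ (Nat.card H).factorization 2 := Nat.one_lt_two_pow h2.ne'
      omega
    obtain ⟨x, hx1⟩ := (Subgroup.ne_bot_iff_exists_ne_one.1 hPb)
    refine ⟨x, x.2, ?_⟩
    intro h
    exact hx1 (Subtype.ext h)
  obtain ⟨x, hx, hx1, hxc⟩ := exists_mem_center (P : Subgroup H) inferInstance hP1
  obtain ⟨k, hk⟩ := P.isPGroup' ⟨x, hx⟩
  have hk' : x ^ 2 ^ k = 1 := congrArg Subtype.val hk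
  classical
  have hex : ∃ k, x ^ 2 ^ k = 1 := ⟨k, hk'⟩
  rcases hm : Nat.find hex with _ | m
  · have := Nat.find_spec hex
    rw [hm] at this
    simp at this
    exact absurd this hx1
  · refine ⟨x ^ 2 ^ m, (Subgroup.center H).pow_mem hxc _, ?_, ?_⟩
    · exact Nat.find_min hex (m := m) (by omega)
    · have := Nat.find_spec hex
      rw [hm] at this
      rw [← pow_add, ← two_mul, ← pow_succ']
      exact this

variable {G Ω : Type*} [Group G] [MulAction G Ω] {a : Ω} {t : G} {Q : Subgroup G}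
variable [Finite G] (hS : Cfsg.IsRankOneSetup G Ω a t Q)
include hS

theorem exists_two_invol (h2 : ∃ x y : G, x ≠ 1 ∧ y ≠ 1 ∧ x ≠ y ∧ x * x = 1 ∧ y * y = 1 ∧ x * y = y * x) :
    ∃ s ∈ Cfsg.involutionsIn (stabilizer G a : Set G), ∃ s' ∈ Cfsg.involutionsIn (stabilizer G a : Set G), s ≠ s' := by
  obtain ⟨x, y, hx1, hy1, hne, hx, hy, hxy⟩ := h2
  obtain ⟨c, hc, hcu⟩ := exists_fix (Ω := Ω) hS hx1 hx
  have hyc : y • c = c := by
    apply hcu
    rw [smul_smul, hxy, mul_smul, hc]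
  obtain ⟨g, rfl⟩ := exists_move hS c
  have key : ∀ x : G, x ≠ 1 → x * x = 1 → x • g • a = g • a → g⁻¹ * x * g ∈ Cfsg.involutionsIn (stabilizer G a : Set G) := by
    intro x hx1 hx hxa
    refine ⟨?_, ?_, ?_⟩
    · show g⁻¹ * x * g ∈ stabilizer G a
      rw [mem_stabilizer_iff, mul_smul, mul_smul, hxa, inv_smul_smul]
    · intro h
      apply hx1
      have := congrArg (fun z => g * z * g⁻¹) h
      simpa [mul_assoc] using this
    · calc g⁻¹ * x * g * (g⁻¹ * x * g) = g⁻¹ * (x * x) * g := by group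
        _ = 1 := by rw [hx]; group
  refine ⟨_, key x hx1 hx hc, _, key y hy1 hy hyc, ?_⟩
  intro h
  apply hne
  have := congrArg (fun z => g * z * g⁻¹) h
  simpa [mul_assoc] using this

theorem exists_K_ne_one (h2 : ∃ x y : G, x ≠ 1 ∧ y ≠ 1 ∧ x ≠ y ∧ x * x = 1 ∧ y * y = 1 ∧ x * y = y * x) :
    ∃ k ∈ Cfsg.invertedBy (stabilizer G a ⊓ stabilizer G (t • a)) t, k ≠ 1 := by
  obtain ⟨s, hs, s', hs', hne⟩ := exists_two_invol hS h2
  obtain ⟨k, hk, hks⟩ := K_conj_surj hS hs hs'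
  refine ⟨k, hk, ?_⟩
  rintro rfl
  apply hne
  simpa using hks

theorem Q_nilpotent (h2 : ∃ x y : G, x ≠ 1 ∧ y ≠ 1 ∧ x ≠ y ∧ x * x = 1 ∧ y * y = 1 ∧ x * y = y * x) :
    Group.IsNilpotent Q := by
  obtain ⟨k, hk, hk1⟩ := exists_K_ne_one hS h2
  -- a power of prime order
  have hord : orderOf k ≠ 1 := by
    rw [Ne, orderOf_eq_one_iff]; exact hk1
  obtain ⟨p, hp, hpd⟩ := Nat.exists_prime_and_dvd hord
  have hpos : 0 < orderOf k := orderOf_pos k
  obtain ⟨x, hx⟩ : ∃ x, x = k ^ (orderOf k / p) := ⟨_, rfl⟩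
  have hxo : orderOf x = p := by
    rw [hx]; exact orderOf_pow_orderOf_div hpos.ne' hpd
  have hxK : x ∈ Cfsg.invertedBy (stabilizer G a ⊓ stabilizer G (t • a)) t := by
    rw [hx]; exact OddInv.pow_mem_invertedBy hk _
  have hxK' := (mem_invertedBy hS).1 hxK
  have hx1 : x ≠ 1 := by
    intro h
    rw [h, orderOf_one] at hxo
    exact hp.one_lt.ne hxo
  have hconj : ∀ n : ℕ, ∀ y ∈ Q, x ^ n * y * (x ^ n)⁻¹ ∈ Q := by
    intro n y hy
    apply hS.conj_mem _ _ _ hy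
    exact Subgroup.pow_mem _ (mem_stabilizer_iff.2 hxK'.1.1) n
  have hconjx : ∀ y ∈ Q, x * y * x⁻¹ ∈ Q := by
    intro y hy
    have := hconj 1 y hy
    simpa using this
  have hconjx' : ∀ y ∈ Q, x⁻¹ * y * x ∈ Q := by
    intro y hy
    have := hS.conj_mem x⁻¹ (Subgroup.inv_mem _ (mem_stabilizer_iff.2 hxK'.1.1)) y hy
    simpa using this
  let φ : Q ≃* Q :=
    { toFun := fun y => ⟨x * y * x⁻¹, hconjx y y.2⟩
      invFun := fun y => ⟨x⁻¹ * y * x, hconjx' y y.2⟩
      left_inv := by intro y; apply Subtype.ext; show x⁻¹ * (x * y.1 * x⁻¹) * x = y.1; group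
      right_inv := by intro y; apply Subtype.ext; show x * (x⁻¹ * y.1 * x) * x⁻¹ = y.1; group
      map_mul' := by intro y z; apply Subtype.ext; show x * (y.1 * z.1) * x⁻¹ = (x * y.1 * x⁻¹) * (x * z.1 * x⁻¹); group }
  have hφ : ∀ y : Q, (φ y).1 = x * y.1 * x⁻¹ := fun y => rfl
  have hfpf : MonoidHom.FixedPointFree (φ : Q →* Q) := by
    intro y hy
    have h1 : x * y.1 * x⁻¹ = y.1 := congrArg Subtype.val hy
    apply Subtype.ext
    exact K_fpf hS hxK hx1 y.2 (mul_inv_eq_iff_eq_mul.1 h1)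
  have hφn : ∀ n : ℕ, ∀ y : Q, ((φ ^ n) y).1 = x ^ n * y.1 * (x ^ n)⁻¹ := by
    intro n
    induction n with
    | zero => intro y; simp
    | succ n ih =>
      intro y
      rw [pow_succ', MulAut.mul_apply, hφ, ih, pow_succ']
      group
  have hφp : φ ^ p = 1 := by
    ext y
    rw [hφn, ← hxo, pow_orderOf_eq_one]
    simp
  have hφ1 : φ ≠ 1 := by
    intro h
    obtain ⟨s, hs, hs1, -⟩ := exists_invol hS
    apply hs1
    have : φ ⟨s, hs⟩ = ⟨s, hs⟩ := by rw [h]; rfl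
    exact congrArg Subtype.val (hfpf ⟨s, hs⟩ this)
  have hord' : orderOf φ = p := by
    have h1 := orderOf_dvd_of_pow_eq_one hφp
    rcases (Nat.dvd_prime hp).1 h1 with h | h
    · exact absurd (orderOf_eq_one_iff.1 h) hφ1
    · exact h
  exact Cfsg.Agent.S0033.result φ hfpf p hp hord'

theorem invol_central (h2 : ∃ x y : G, x ≠ 1 ∧ y ≠ 1 ∧ x ≠ y ∧ x * x = 1 ∧ y * y = 1 ∧ x * y = y * x) :
    ∀ s ∈ Cfsg.involutionsIn (stabilizer G a : Set G), ∀ x ∈ Q, s * x = x * s := by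
  have hnil := Q_nilpotent hS h2
  obtain ⟨⟨z, hzQ⟩, hzc, hz1, hzz⟩ := exists_central_invol' (H := Q) hS.even_card
  have hzc' := Subgroup.mem_center_iff.1 hzc
  have hz1' : z ≠ 1 := by rintro rfl; exact hz1 rfl
  have hzz' : z * z = 1 := congrArg Subtype.val hzz
  intro s hs x hx
  obtain ⟨k, hk, rfl⟩ := K_conj_surj hS (s := z) ⟨hS.le hzQ, hz1', hzz'⟩ hs
  have hkK := (mem_invertedBy hS).1 hk
  have h3 : k * x * k⁻¹ ∈ Q := hS.conj_mem k (mem_stabilizer_iff.2 hkK.1.1) x hx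
  have h4 : (k * x * k⁻¹) * z = z * (k * x * k⁻¹) := congrArg Subtype.val (hzc' ⟨_, h3⟩)
  calc k⁻¹ * z * k * x = k⁻¹ * (z * (k * x * k⁻¹)) * k := by group
    _ = k⁻¹ * ((k * x * k⁻¹) * z) * k := by rw [h4]
    _ = _ := by group

end Cfsg.Agent.Lib.RankOneC
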