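import Cfsg.Agent.Lib.H26SuzK
import Cfsg.Agent.Lib.RankOneC
import Cfsg.Agent.S0205

/-!
# The rank one set-up: the set `K` of elements of `D` inverted by `t` is a cyclic normal subgroup
-/

set_option autoImplicit false
open MulAction

namespace Cfsg.Agent.Lib.H26SuzKD

open Subgroup Cfsg.Agent.Lib.RankOne Cfsg.Agent.Lib.RankOneB Cfsg.Agent.Lib.RankOneC

universe u v

variable {G : Type u} {Ω : Type v} [Group G] [Finite G] [MulAction G Ω] [FaithfulSMul G Ω] {a : Ω} {t : G} {Q : Subgroup G}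
  (hS : Cfsg.IsRankOneSetup G Ω a t Q)
  (h2 : ∃ x y : G, x ≠ 1 ∧ y ≠ 1 ∧ x ≠ y ∧ x * x = 1 ∧ y * y = 1 ∧ x * y = y * x)

/-- `D`, the two-point stabilizer -/
abbrev DD (G : Type u) {Ω : Type v} [Group G] [MulAction G Ω] (a : Ω) (t : G) : Subgroup G :=
  stabilizer G a ⊓ stabilizer G (t • a)

include hS h2

/-- the involutions of `G_a` and `1` -/
def EE : Subgroup G where
  carrier := {x | x = 1 ∨ x ∈ Cfsg.involutionsIn (stabilizer G a : Set G)}
  one_mem' := Or.inl rfl
  mul_mem' := by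
    have hc := invol_central hS h2
    intro x y hx hy
    rcases hx with rfl | hx
    · rw [one_mul]; exact hy
    rcases hy with rfl | hy
    · rw [mul_one]; exact Or.inr hx
    have hyQ : y ∈ Q := mem_Q_of_sq hS hy.1 hy.2.2
    have hxy := hc x hx y hyQ
    by_cases h1 : x * y = 1
    · exact Or.inl h1
    refine Or.inr ⟨Subgroup.mul_mem _ hx.1 hy.1, h1, ?_⟩
    calc x * y * (x * y) = x * (y * x) * y := by group
      _ = (x * x) * (y * y) := by rw [← hxy]; group
      _ = 1 := by rw [hx.2.2, hy.2.2, one_mul]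
  inv_mem' := by
    intro x hx
    rcases hx with rfl | hx
    · left; exact inv_one
    · right
      have : x⁻¹ = x := inv_eq_of_mul_eq_one_left hx.2.2
      rw [this]; exact hx

theorem mem_EE {x : G} : x ∈ EE hS h2 ↔ x = 1 ∨ x ∈ Cfsg.involutionsIn (stabilizer G a : Set G) := Iff.rfl

theorem EE_le_Q : EE hS h2 ≤ Q := by
  rintro x (rfl | hx)
  · exact one_mem _
  · exact mem_Q_of_sq hS hx.1 hx.2.2

theorem EE_central {x y : G} (hx : x ∈ EE hS h2) (hy : y ∈ Q) : x * y = y * x := by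
  rcases hx with rfl | hx
  · rw [one_mul, mul_one]
  · exact invol_central hS h2 x hx y hy

theorem EE_sq {x : G} (hx : x ∈ EE hS h2) : x * x = 1 := by
  rcases hx with rfl | hx
  · rw [one_mul]
  · exact hx.2.2

theorem EE_conj {d : G} (hd : d ∈ stabilizer G a) {x : G} (hx : x ∈ EE hS h2) :
    d * x * d⁻¹ ∈ EE hS h2 := by
  rcases hx with rfl | hx
  · left; group
  · right
    refine ⟨Subgroup.mul_mem _ (Subgroup.mul_mem _ hd hx.1) (Subgroup.inv_mem _ hd), ?_, ?_⟩
    · intro h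
      apply hx.2.1
      have : x = d⁻¹ * (d * x * d⁻¹) * d := by group
      rw [this, h]; group
    · calc d * x * d⁻¹ * (d * x * d⁻¹) = d * (x * x) * d⁻¹ := by group
        _ = 1 := by rw [hx.2.2]; group

theorem stab_le_normalizer : stabilizer G a ≤ normalizer (EE hS h2 : Set G) := by
  intro d hd
  rw [mem_normalizer_iff]
  intro x
  refine ⟨fun hx => EE_conj hS h2 hd hx, fun hx => ?_⟩
  have := EE_conj hS h2 (Subgroup.inv_mem _ hd) hx
  have e : d⁻¹ * (d * x * d⁻¹) * d⁻¹⁻¹ = x := by group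
  rwa [e] at this

/-- The action of `D` on `E`. -/
noncomputable def rho : DD G a t →* MulAut (EE hS h2) :=
  (EE hS h2).normalizerMonoidHom.comp
    (Subgroup.inclusion (inf_le_left.trans (stab_le_normalizer hS h2)))

theorem rho_apply (d : DD G a t) (x : EE hS h2) : ((rho hS h2 d x : EE hS h2) : G) = d * x * (d : G)⁻¹ := rfl

omit h2 in
/-- conjugation by `t` on `D` -/
def tau : DD G a t →* DD G a t where
  toFun d := ⟨t * d * t, t_conj_D hS d.2 |> fun h => by
    have : t⁻¹ = t := t_inv hS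
    rwa [this] at h⟩
  map_one' := by
    apply Subtype.ext
    show t * 1 * t = 1
    rw [mul_one, hS.mul_self]
  map_mul' x y := by
    apply Subtype.ext
    show t * ((x : G) * y) * t = t * x * t * (t * y * t)
    calc t * ((x : G) * y) * t = t * x * (t * t) * y * t := by rw [hS.mul_self]; group
      _ = _ := by group

omit h2 in
theorem tau_apply (d : DD G a t) : ((tau hS d : DD G a t) : G) = t * d * t := rfl

omit h2 in
theorem tau_tau (d : DD G a t) : tau hS (tau hS d) = d := by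
  apply Subtype.ext
  rw [tau_apply, tau_apply]
  calc t * (t * (d : G) * t) * t = (t * t) * d * (t * t) := by group
    _ = d := by rw [hS.mul_self]; group

omit h2 in
theorem mem_K_iff {d : DD G a t} : (d : G) ∈ Cfsg.invertedBy (DD G a t) t ↔ tau hS d = d⁻¹ := by
  rw [mem_invertedBy hS, ← Subtype.coe_inj, tau_apply]
  exact ⟨fun h => h.2, fun h => ⟨d.2, h⟩⟩

omit h2 in
theorem fixed_iff {d : DD G a t} : tau hS d = d ↔ (d : G) * t = t * d := by
  rw [← Subtype.coe_inj, tau_apply]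
  constructor
  · intro h
    calc (d : G) * t = t * d * t * t := by rw [h]
      _ = t * d * (t * t) := by group
      _ = t * d := by rw [hS.mul_self, mul_one]
  · intro h
    calc t * (d : G) * t = d * t * t := by rw [← h]
      _ = d * (t * t) := by group
      _ = d := by rw [hS.mul_self, mul_one]

theorem mem_ker {d : DD G a t} : d ∈ (rho hS h2).ker ↔ ∀ x ∈ EE hS h2, (d : G) * x = x * d := by
  rw [MonoidHom.mem_ker]
  constructor
  · intro h x hx
    have h1 := congrArg (fun f : MulAut (EE hS h2) => ((f ⟨x, hx⟩ : EE hS h2) : G)) h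
    have h3 : (d : G) * x * (d : G)⁻¹ = x := h1
    rw [mul_inv_eq_iff_eq_mul] at h3
    exact h3
  · intro h
    ext x
    rw [rho_apply, h x x.2, mul_inv_cancel_right]
    rfl

theorem ker_spec {d : DD G a t} (hd : d ∈ (rho hS h2).ker) :
    (d : G) * t = t * d ∧ ∀ k ∈ Cfsg.invertedBy (DD G a t) t, (d : G) * k = k * d := by
  have h1 : (d : G) ∈ DD G a t ⊓ centralizer (Cfsg.involutionsIn (stabilizer G a : Set G)) := by
    refine ⟨d.2, ?_⟩
    have : (d : G) ∈ centralizer (Cfsg.involutionsIn (stabilizer G a : Set G)) := by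
      rw [mem_centralizer_iff]
      intro x hx
      exact ((mem_ker hS h2).1 hd x (Or.inr hx)).symm
    exact this
  rw [← CV_K_eq hS] at h1
  refine ⟨mem_centralizer_singleton_iff.1 h1.1.2, fun k hk => ?_⟩
  exact (mem_centralizer_iff.1 h1.2 k hk).symm

theorem ker_le_comap : (rho hS h2).ker ≤ (rho hS h2).ker.comap (tau hS) := by
  intro d hd
  rw [mem_comap]
  have : tau hS d = d := (fixed_iff hS).2 (ker_spec hS h2 hd).1
  rw [this]
  exact hd

/-- `τ` on `D / C_D(E)` -/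
noncomputable def tauQ : (DD G a t ⧸ (rho hS h2).ker) →* (DD G a t ⧸ (rho hS h2).ker) :=
  QuotientGroup.map _ _ (tau hS) (ker_le_comap hS h2)

theorem tauQ_mk (d : DD G a t) : tauQ hS h2 (d : DD G a t ⧸ (rho hS h2).ker) = (tau hS d : DD G a t) := rfl

omit [FaithfulSMul G Ω] h2 in
theorem odd_D : Odd (Nat.card (DD G a t)) := hS.odd_card

theorem lift_mk (d : DD G a t) (x : EE hS h2) :
    ((QuotientGroup.kerLift (rho hS h2) (d : DD G a t ⧸ (rho hS h2).ker) x : EE hS h2) : G) =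
      d * x * (d : G)⁻¹ := rfl

/-- every inverted element of the quotient is the image of an element of `K` -/
theorem exists_lift {x : DD G a t ⧸ (rho hS h2).ker} (hx : tauQ hS h2 x = x⁻¹) :
    ∃ k : DD G a t, tau hS k = k⁻¹ ∧ x = k := by
  have ho : Odd (Nat.card (DD G a t ⧸ (rho hS h2).ker)) :=
    (odd_D hS).of_dvd_nat (Subgroup.card_quotient_dvd_card _)
  obtain ⟨j, hj⟩ := H26SuzK.exists_sqrt ho x
  obtain ⟨e, he⟩ := QuotientGroup.mk_surjective (x ^ j)
  have h1 : tauQ hS h2 (x ^ j) = (x ^ j)⁻¹ := by rw [map_pow, hx, inv_pow]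
  refine ⟨(tau hS e)⁻¹ * e, ?_, ?_⟩
  · rw [map_mul, map_inv, tau_tau, mul_inv_rev, inv_inv]
  · rw [QuotientGroup.mk_mul, QuotientGroup.mk_inv, ← tauQ_mk hS h2, he, h1, inv_inv, hj]

/-- `E` is commutative -/
noncomputable abbrev EEcomm : CommGroup (EE hS h2) :=
  { (inferInstance : Group (EE hS h2)) with
      mul_comm := fun x y => Subtype.ext (EE_central hS h2 x.2 (EE_le_Q hS h2 y.2)) }

theorem conf : ∃ s : EE hS h2, ((s : G) ∈ Cfsg.involutionsIn (stabilizer G a : Set G) ∧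
    DD G a t ⊓ centralizer {t} = DD G a t ⊓ centralizer {(s : G)}) ∧
    letI := EEcomm hS h2
    H26SuzK.Conf (QuotientGroup.kerLift (rho hS h2)) (tauQ hS h2) s := by
  obtain ⟨⟨s, r⟩, ⟨hs, hr, h⟩, -⟩ := structure_eq hS
  dsimp only at hs hr h
  have hCD := CD_eq hS hs hr h
  refine ⟨⟨s, Or.inr hs⟩, ⟨hs, hCD⟩, ?_⟩
  have ho : Odd (Nat.card (DD G a t ⧸ (rho hS h2).ker)) :=
    (odd_D hS).of_dvd_nat (Subgroup.card_quotient_dvd_card _)
  letI := EEcomm hS h2
  exact
  { odd := ho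
    solv := Cfsg.Agent.S0205.result ho
    inj := QuotientGroup.kerLift_injective _
    tt := by
      intro x
      obtain ⟨d, rfl⟩ := QuotientGroup.mk_surjective x
      rw [tauQ_mk, tauQ_mk, tau_tau]
    trans := by
      rintro ⟨z, hz⟩ ⟨w, hw⟩ hz1 hw1
      have hz' : z ∈ Cfsg.involutionsIn (stabilizer G a : Set G) :=
        hz.resolve_left (fun h' => hz1 (Subtype.ext h'))
      have hw' : w ∈ Cfsg.involutionsIn (stabilizer G a : Set G) :=
        hw.resolve_left (fun h' => hw1 (Subtype.ext h'))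
      obtain ⟨k, hk, hkw⟩ := K_conj_surj hS hz' hw'
      refine ⟨((⟨k, hk.1⟩ : DD G a t)⁻¹ : DD G a t), ?_⟩
      apply Subtype.ext
      rw [lift_mk]
      show k⁻¹ * z * k⁻¹⁻¹ = w
      rw [inv_inv]; exact hkw
    s_ne := fun h' => hs.2.1 (congrArg Subtype.val h')
    fix := by
      intro x hx
      obtain ⟨d, rfl⟩ := QuotientGroup.mk_surjective x
      rw [tauQ_mk, QuotientGroup.eq] at hx
      -- `k² ∈ W` for the inverted part `k` of `d`
      set u := (tau hS d)⁻¹ * d with hu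
      have hτu : tau hS u = u⁻¹ := by rw [hu, map_mul, map_inv, tau_tau, mul_inv_rev, inv_inv]
      have h3 : tau hS u = u := (fixed_iff hS).2 (ker_spec hS h2 hx).1
      have h4 : u = 1 := H26SuzK.eq_one_of_sq (odd_D hS) (by
        nth_rw 1 [← h3]
        rw [hτu, inv_mul_cancel])
      have h5 : tau hS d = d := by rw [hu, inv_mul_eq_one] at h4; exact h4
      have h6 : (d : G) ∈ DD G a t ⊓ centralizer {t} :=
        ⟨d.2, mem_centralizer_singleton_iff.2 ((fixed_iff hS).1 h5)⟩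
      rw [hCD] at h6
      have h7 := mem_centralizer_singleton_iff.1 h6.2
      apply Subtype.ext
      rw [lift_mk]
      show (d : G) * s * (d : G)⁻¹ = s
      rw [h7, mul_inv_cancel_right]
    inv := by
      intro x hx hx1 z hz
      obtain ⟨k, hk, rfl⟩ := exists_lift hS h2 hx
      have hkK := (mem_K_iff hS).2 hk
      have hk1 : (k : G) ≠ 1 := by
        intro h'
        apply hx1
        have : k = 1 := Subtype.ext h'
        rw [this]; rfl
      have h3 := congrArg Subtype.val hz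
      rw [lift_mk, mul_inv_eq_iff_eq_mul] at h3
      exact Subtype.ext (K_fpf hS hkK hk1 (EE_le_Q hS h2 z.2) h3) }

theorem mem_pow_K {k : G} (hk : k ∈ Cfsg.invertedBy (DD G a t) t) (j : ℤ) :
    k ^ j ∈ Cfsg.invertedBy (DD G a t) t := by
  refine ⟨zpow_mem hk.1 j, ?_⟩
  rw [← conj_zpow, hk.2, inv_zpow]

/-- `K` is a cyclic subgroup, normal in `D`; and `C_D(K) = K C_D(E)`. -/
theorem exists_K : ∃ k₀ : G, (zpowers k₀ : Set G) = Cfsg.invertedBy (DD G a t) t ∧
    (∀ d ∈ DD G a t, ∀ c ∈ zpowers k₀, d * c * d⁻¹ ∈ zpowers k₀) ∧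
    ∀ d ∈ DD G a t, (∀ c ∈ zpowers k₀, d * c = c * d) → ∃ c ∈ zpowers k₀,
      ∀ x ∈ EE hS h2, (c⁻¹ * d) * x = x * (c⁻¹ * d) := by
  classical
  obtain ⟨s, -, hconf⟩ := conf hS h2
  letI := EEcomm hS h2
  obtain ⟨C, hC, hCc, hCn, hCC⟩ := H26SuzK.main hconf
  obtain ⟨⟨c, hcC⟩, hc⟩ := hCc.exists_generator
  obtain ⟨k, hk, hck⟩ := exists_lift hS h2 ((hC c).1 hcC)
  have hkK : (k : G) ∈ Cfsg.invertedBy (DD G a t) t := (mem_K_iff hS).2 hk
  have hpow : ∀ j : ℤ, (k : G) ^ j ∈ Cfsg.invertedBy (DD G a t) t := fun j => mem_pow_K hS h2 hkK j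
  -- elements of `C`
  have hgen : ∀ x ∈ C, ∃ j : ℤ, x = ((k ^ j : DD G a t) : DD G a t ⧸ (rho hS h2).ker) := by
    intro x hx
    obtain ⟨j, hj⟩ := Subgroup.mem_zpowers_iff.1 (hc ⟨x, hx⟩)
    refine ⟨j, ?_⟩
    have h1 : c ^ j = x := congrArg Subtype.val hj
    rw [← h1, hck]; rfl
  have hmain : ∀ k' : DD G a t, tau hS k' = k'⁻¹ → ∃ j : ℤ, k' = k ^ j := by
    intro k' hk'
    have h1 : (k' : DD G a t ⧸ (rho hS h2).ker) ∈ C := by
      rw [hC, tauQ_mk, hk']; rfl
    obtain ⟨j, hj⟩ := hgen _ h1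
    refine ⟨j, ?_⟩
    rw [QuotientGroup.eq] at hj
    -- w = k'⁻¹ k^j is in the kernel
    obtain ⟨hwt, hwK⟩ := ker_spec hS h2 hj
    set w := k'⁻¹ * k ^ j with hw
    have h3 : tau hS w = w := (fixed_iff hS).2 hwt
    have h4 : tau hS w = k' * (k ^ j)⁻¹ := by
      rw [hw, map_mul, map_inv, map_zpow, hk', hk, inv_inv, inv_zpow]
    have h5 : w * k ^ j = k ^ j * w := Subtype.ext (hwK _ (hpow j) |> fun h => by
      push_cast; exact h)
    have h6 : w * w = 1 := by
      nth_rw 1 [← h3]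
      rw [h4]
      have h7 : (k ^ j)⁻¹ * w = w * (k ^ j)⁻¹ := by
        rw [inv_mul_eq_iff_eq_mul, ← mul_assoc, ← h5, mul_inv_cancel_right]
      rw [mul_assoc, h7, ← mul_assoc, hw]
      group
    have h8 := H26SuzK.eq_one_of_sq (odd_D hS) h6
    rw [hw, inv_mul_eq_one] at h8
    exact h8
  have hset : ∀ x : G, x ∈ zpowers (k : G) ↔ x ∈ Cfsg.invertedBy (DD G a t) t := by
    intro x
    constructor
    · intro hx
      obtain ⟨j, rfl⟩ := Subgroup.mem_zpowers_iff.1 hx
      exact hpow j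
    · intro hx
      have hxD : x ∈ DD G a t := hx.1
      obtain ⟨j, hj⟩ := hmain ⟨x, hxD⟩ ((mem_K_iff hS).1 hx)
      rw [Subgroup.mem_zpowers_iff]
      exact ⟨j, by
        have := congrArg Subtype.val hj
        rw [Subgroup.coe_zpow] at this
        exact this.symm⟩
  refine ⟨k, Set.ext fun x => hset x, ?_, ?_⟩
  · intro d hd x hx
    obtain ⟨p, ⟨hp1, hp2, hp3⟩, -⟩ := OddInv.exists_unique_mul t hS.mul_self (DD G a t) (odd_D hS)
      (fun x hx => t_conj_D hS hx) d hd
    have hy : p.1 * t = t * p.1 := mem_centralizer_singleton_iff.1 hp1.2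
    have hz : p.2 ∈ zpowers (k : G) := (hset _).2 hp2
    have h1 : p.2 * x * p.2⁻¹ ∈ zpowers (k : G) := mul_mem (mul_mem hz hx) (inv_mem hz)
    have h2' := V_conj_K hS hp1.1 hy ((hset _).1 h1)
    rw [← hset] at h2'
    have e : d * x * d⁻¹ = p.1 * (p.2 * x * p.2⁻¹) * p.1⁻¹ := by rw [hp3]; group
    rw [e]
    exact h2'
  · intro d hd hdc
    have h1 : ((⟨d, hd⟩ : DD G a t) : DD G a t ⧸ (rho hS h2).ker) ∈ C := by
      apply hCC
      rw [mem_centralizer_iff]
      intro x hx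
      obtain ⟨j, rfl⟩ := hgen x hx
      rw [← QuotientGroup.mk_mul, ← QuotientGroup.mk_mul]
      congr 1
      apply Subtype.ext
      have := hdc ((k : G) ^ j) (zpow_mem (mem_zpowers _) j)
      push_cast
      exact this.symm
    obtain ⟨j, hj⟩ := hgen _ h1
    refine ⟨(k : G) ^ j, zpow_mem (mem_zpowers _) j, ?_⟩
    intro x hx
    have h3 := QuotientGroup.eq.1 hj.symm
    have h4 := (mem_ker hS h2).1 h3 x hx
    push_cast at h4
    exact h4

end Cfsg.Agent.Lib.H26SuzKD
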