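import Cfsg.Agent.Lib.H26SuzB2

/-!
# The rank one set-up: the claim `P(G)`
-/

set_option autoImplicit false
open MulAction

namespace Cfsg.Agent.Lib.H26SuzP

open Subgroup Cfsg.Agent.Lib.RankOne Cfsg.Agent.Lib.RankOneB Cfsg.Agent.Lib.RankOneC Cfsg.Agent.Lib.H26SuzKD
  Cfsg.Agent.Lib.H26SuzPP Cfsg.Agent.Lib.H26SuzT Cfsg.Agent.Lib.H26SuzS1 Cfsg.Agent.Lib.H26SuzW Cfsg.Agent.Lib.H26SuzF
  Cfsg.Agent.Lib.H26SuzB2

universe u v

variable {G : Type u} {Ω : Type v} [Group G] [Finite G] [MulAction G Ω] [FaithfulSMul G Ω] {a : Ω} {t : G} {Q : Subgroup G}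
  (hS : Cfsg.IsRankOneSetup G Ω a t Q)
  (h2 : ∃ x y : G, x ≠ 1 ∧ y ≠ 1 ∧ x ≠ y ∧ x * x = 1 ∧ y * y = 1 ∧ x * y = y * x)

omit [FaithfulSMul G Ω] in
include hS in
theorem p_odd {v : G} {p : ℕ} (hp : p.Prime) (hv1 : v ≠ 1) (hvp : v ^ p = 1) (hv : v ∈ DD G a t) : p ≠ 2 := by
  have hpf : Fact p.Prime := ⟨hp⟩
  have h1 := OddInv.odd_orderOf_of_mem hS.odd_card hv
  rw [orderOf_eq_prime hvp hv1] at h1
  rintro rfl
  exact absurd h1 (by decide)

omit [FaithfulSMul G Ω] in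
include hS in
theorem not_dvd {v : G} {p k : ℕ} (hp : p.Prime) (hv1 : v ≠ 1) (hvp : v ^ p = 1) (hv : v ∈ DD G a t)
    (hc : Nat.card ↥(Q ⊓ centralizer {v}) = 2 ^ k) : ¬ p ∣ Nat.card Q := by
  intro h
  have h1 := modEq (H := Q) hp hvp (fun x hx => hS.conj_mem v hv.1 x hx)
  rw [hc] at h1
  have h3 : p ∣ 2 ^ k := (Nat.modEq_zero_iff_dvd).1 (h1.symm.trans (Nat.modEq_zero_iff_dvd.2 h))
  exact p_odd hS hp hv1 hvp hv ((Nat.prime_dvd_prime_iff_eq hp Nat.prime_two).1 (hp.dvd_of_dvd_pow h3))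

theorem exists_two {H : Subgroup G} (hH : 4 ≤ qq H) : ∃ z₁ ∈ H, ∃ z₂ ∈ H, z₁ ≠ 1 ∧ z₂ ≠ 1 ∧ z₁ ≠ z₂ ∧ z₁ * z₁ = 1 ∧ z₂ * z₂ = 1 := by
  classical
  have h1 := card_ne' (⟨1, one_mul 1⟩ : {x : H // x * x = 1})
  have h3 : 1 < Nat.card {y : {x : H // x * x = 1} // y ≠ ⟨1, one_mul 1⟩} := by
    unfold qq at hH; omega
  rw [Finite.one_lt_card_iff_nontrivial] at h3
  obtain ⟨y, z, hyz⟩ := h3.exists_pair_ne
  refine ⟨y.1.1, y.1.1.2, z.1.1, z.1.1.2, ?_, ?_, ?_, congrArg Subtype.val y.1.2, congrArg Subtype.val z.1.2⟩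
  · intro h; exact y.2 (Subtype.ext (Subtype.ext h))
  · intro h; exact z.2 (Subtype.ext (Subtype.ext h))
  · intro h; exact hyz (Subtype.ext (Subtype.ext (Subtype.ext h)))

include hS h2

theorem B2a (hI : IH.{u, v} (Nat.card G)) (hW : ∀ w ∈ DD G a t, w * t = t * w → (∀ x ∈ EE hS h2, w * x = x * w) → w = 1)
    {v : G} {p : ℕ} (hp : p.Prime) (hv1 : v ≠ 1) (hvp : v ^ p = 1) (hv : v ∈ DD G a t) (hvt : v * t = t * v) {g : ℕ}
    (hg : 2 ≤ g) (hq : qq Q = (2 ^ g) ^ p) (hqv : qq (Q ⊓ centralizer {v}) = 2 ^ g) : PP t Q := by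
  have h4 : 4 ≤ qq (Q ⊓ centralizer {v}) := by
    rw [hqv]
    calc 4 = 2 ^ 2 := by norm_num
      _ ≤ 2 ^ g := Nat.pow_le_pow_right (by norm_num) hg
  obtain ⟨z₁, h1, z₂, h2', h11, h21, hne, hz1, hz2⟩ := exists_two h4
  have hPP := PP_cent hS hI hv1 ⟨hv.1, hv.2⟩ hvt h1.1 h2'.1 h11 h21 hne hz1 hz2
    (EE_central hS h2 ((mem_EE_iff hS h2).2 ⟨h1.1, hz1⟩) h2'.1) (mem_centralizer_singleton_iff.1 h1.2)
    (mem_centralizer_singleton_iff.1 h2'.2)
  rw [PP, hqv] at hPP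
  refine ⟨?_, ?_⟩
  · intro s hs r hr hs1 hss hst hrr
    have hsi : s ∈ Cfsg.involutionsIn (stabilizer G a : Set G) := ⟨hS.le hs, hs1, hss⟩
    obtain ⟨h5, h6⟩ := cent_r hS hsi hr hst hv hvt
    have h7 := hPP.1 s ⟨hs, mem_centralizer_singleton_iff.2 h5.symm⟩ r ⟨hr, mem_centralizer_singleton_iff.2 h6.symm⟩ hs1 hss
      hst hrr
    have h8 := card_eq hS h2 hW hp hv1 hvp hv hvt (not_dvd hS (k := g * 2) hp hv1 hvp hv (by rw [h7, pow_mul]))
    rw [h8, h7, hq]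
    ring
  · intro hcomm hpg
    have hpg' : IsPGroup 2 ↥(Q ⊓ centralizer {v}) := hpg.to_le inf_le_left
    have h7 := hPP.2 (fun x hx y hy => hcomm x hx.1 y hy.1) hpg'
    have : Fact (Nat.Prime 2) := ⟨Nat.prime_two⟩
    obtain ⟨k, hk⟩ := IsPGroup.iff_card.1 hpg'
    have h8 := card_eq hS h2 hW hp hv1 hvp hv hvt (not_dvd hS hp hv1 hvp hv hk)
    rw [h8, hq]
    calc Nat.card ↥(Q ⊓ centralizer {v}) ^ p ≤ ((2 ^ g) ^ 2) ^ p := Nat.pow_le_pow_left h7 p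
      _ = _ := by ring

/-- The inputs in the case `q = 2 ^ p`, `|V| = p`. -/
structure Inputs (hS : Cfsg.IsRankOneSetup G Ω a t Q) : Prop where
  odd : ∀ {v : G} {p : ℕ}, p.Prime → v ≠ 1 → v ^ p = 1 → v ∈ DD G a t → v * t = t * v →
    (∀ d ∈ DD G a t, d * t = t * d → d ∈ zpowers v) → (∀ k ∈ Cfsg.invertedBy (DD G a t) t, v * k = k * v → k = 1) →
    qq Q = 2 ^ p → ∀ x ∈ Q, ∃ n : ℕ, x ^ 2 ^ n = 1
  abel : ∀ {v : G} {p : ℕ}, p.Prime → v ≠ 1 → v ^ p = 1 → v ∈ DD G a t → v * t = t * v →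
    (∀ d ∈ DD G a t, d * t = t * d → d ∈ zpowers v) → (∀ k ∈ Cfsg.invertedBy (DD G a t) t, v * k = k * v → k = 1) →
    qq Q = 2 ^ p → (∀ x ∈ Q, ∀ y ∈ Q, x * y = y * x) → IsPGroup 2 Q → ∀ j, Nat.card Q = (2 ^ j) ^ p → j < 3
  nine : ∀ {v : G} {p : ℕ}, p.Prime → v ≠ 1 → v ^ p = 1 → v ∈ DD G a t → v * t = t * v →
    (∀ d ∈ DD G a t, d * t = t * d → d ∈ zpowers v) → (∀ k ∈ Cfsg.invertedBy (DD G a t) t, v * k = k * v → k = 1) →
    Nat.card ↥(Q ⊓ centralizer {v}) = 8 → qq (Q ⊓ centralizer {v}) = 2 →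
    ∀ s ∈ Q, ∀ r ∈ Q, s ≠ 1 → s * s = 1 → t * s * t = r⁻¹ * t * r → r * r = 1

/-- if `2 ^ p = q` then `|V| = p` -/
theorem V_le (hW : ∀ w ∈ DD G a t, w * t = t * w → (∀ x ∈ EE hS h2, w * x = x * w) → w = 1)
    {v : G} {p : ℕ} (hp : p.Prime) (hv1 : v ≠ 1) (hv : v ∈ DD G a t) (hvt : v * t = t * v)
    (hq : qq Q = 2 ^ p) : ∀ d ∈ DD G a t, d * t = t * d → d ∈ zpowers v := by
  classical
  obtain ⟨k₀, hk₀, hKn, -⟩ := exists_K hS h2
  have hK : ∀ x, x ∈ zpowers k₀ ↔ x ∈ Cfsg.invertedBy (DD G a t) t := fun x => by rw [← hk₀]; rfl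
  have hcK : Nat.card (zpowers k₀) + 1 = qq Q := card_K hS hK
  -- every element of `V` has order dividing `p`
  have hexp : ∀ d ∈ DD G a t, d * t = t * d → d ^ p = 1 := by
    intro d hd hdt
    obtain ⟨j, hj⟩ := conj_pow_two hS h2 hk₀ hd (hKn d hd k₀ (mem_zpowers k₀))
    have hcj : ∀ x ∈ zpowers k₀, d * x * d⁻¹ = x ^ 2 ^ j := by
      intro x hx
      obtain ⟨i, rfl⟩ := Subgroup.mem_zpowers_iff.1 hx
      rw [← conj_zpow, hj, ← zpow_natCast, ← zpow_natCast, ← zpow_mul, ← zpow_mul, mul_comm]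
    have hpow : ∀ i : ℕ, ∀ x ∈ zpowers k₀, d ^ i * x * (d ^ i)⁻¹ = x ^ 2 ^ (j * i) := by
      intro i
      induction i with
      | zero => intro x _; simp
      | succ i ih =>
        intro x hx
        calc d ^ (i + 1) * x * (d ^ (i + 1))⁻¹ = d ^ i * (d * x * d⁻¹) * (d ^ i)⁻¹ := by rw [pow_succ]; group
          _ = d ^ i * (x ^ 2 ^ j) * (d ^ i)⁻¹ := by rw [hcj x hx]
          _ = (x ^ 2 ^ j) ^ 2 ^ (j * i) := ih _ (pow_mem hx _)
          _ = _ := by rw [← pow_mul, ← pow_add]; congr 2; ring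
    have h2p : ∀ x ∈ zpowers k₀, x ^ 2 ^ p = x := by
      intro x hx
      have h3 : x ^ Nat.card (zpowers k₀) = 1 := by
        have := pow_card_eq_one' (G := zpowers k₀) (x := ⟨x, hx⟩)
        exact congrArg Subtype.val this
      have h4 : 2 ^ p = Nat.card (zpowers k₀) + 1 := by rw [hcK, hq]
      rw [h4, pow_succ, h3, one_mul]
    have h2pi : ∀ i : ℕ, ∀ x ∈ zpowers k₀, x ^ (2 ^ p) ^ i = x := by
      intro i
      induction i with
      | zero => intro x _; simp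
      | succ i ih =>
        intro x hx
        rw [pow_succ, pow_mul, ih x hx, h2p x hx]
    apply hW (d ^ p) (pow_mem hd p) ((show Commute d t from hdt).pow_left p).eq
    have h3 : d ^ p ∈ DD G a t ⊓ centralizer {t} ⊓ centralizer (Cfsg.invertedBy (DD G a t) t) := by
      refine mem_inf.2 ⟨mem_inf.2 ⟨pow_mem hd p, mem_centralizer_singleton_iff.2
        ((show Commute d t from hdt).pow_left p).eq⟩, mem_centralizer_iff.2 ?_⟩
      intro x hx
      have h4 := hpow p x ((hK x).2 hx)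
      rw [mul_comm j p, pow_mul 2 p j, h2pi j x ((hK x).2 hx)] at h4
      nth_rw 1 [← h4]; group
    rw [CV_K_eq hS] at h3
    intro x hx
    rcases hx with rfl | hx
    · group
    · exact (mem_centralizer_iff.1 h3.2 x hx).symm
  -- `V` is cyclic
  obtain ⟨v₀, hv₀, hv₀'⟩ := exists_V hS h2
  have hWb : DD G a t ⊓ centralizer {t} ⊓ centralizer (Cfsg.invertedBy (DD G a t) t) = ⊥ := by
    rw [eq_bot_iff]
    intro w hw
    have hw' := hw
    rw [CV_K_eq hS] at hw'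
    refine mem_bot.2 (hW w hw'.1 (mem_centralizer_singleton_iff.1 hw.1.2) ?_)
    intro x hx
    rcases hx with rfl | hx
    · group
    · exact (mem_centralizer_iff.1 hw'.2 x hx).symm
  rw [hWb, bot_sup_eq, ← zpowers_eq_closure] at hv₀'
  have hV : ∀ d ∈ DD G a t, d * t = t * d → d ∈ zpowers v₀ := by
    intro d hd hdt
    rw [hv₀']; exact ⟨hd, mem_centralizer_singleton_iff.2 hdt⟩
  have hpf : Fact p.Prime := ⟨hp⟩
  have hv0 := hV v hv hvt
  have hv₀1 : v₀ ≠ 1 := by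
    rintro rfl
    rw [zpowers_one_eq_bot, mem_bot] at hv0
    exact hv1 hv0
  have hc0 : Nat.card (zpowers v₀) = p := by
    rw [Nat.card_zpowers]
    exact orderOf_eq_prime (hexp v₀ hv₀.1 (mem_centralizer_singleton_iff.1 hv₀.2)) hv₀1
  have hcv : Nat.card (zpowers v) = p := by
    rw [Nat.card_zpowers]
    exact orderOf_eq_prime (hexp v hv hvt) hv1
  have h3 : zpowers v = zpowers v₀ := eq_of_le_of_card_ge (by rw [zpowers_le]; exact hv0) (by rw [hc0, hcv])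
  intro d hd hdt
  rw [h3]; exact hV d hd hdt

/-- the case `W = 1 ≠ V` -/
theorem B2 (hI : IH.{u, v} (Nat.card G)) (hin : Inputs hS)
    (hW : ∀ w ∈ DD G a t, w * t = t * w → (∀ x ∈ EE hS h2, w * x = x * w) → w = 1)
    {v : G} {p : ℕ} (hp : p.Prime) (hv1 : v ≠ 1) (hvp : v ^ p = 1) (hv : v ∈ DD G a t) (hvt : v * t = t * v) : PP t Q := by
  classical
  obtain ⟨k₀, hk₀, hKn, -⟩ := exists_K hS h2
  have hK : ∀ x, x ∈ zpowers k₀ ↔ x ∈ Cfsg.invertedBy (DD G a t) t := fun x => by rw [← hk₀]; rfl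
  obtain ⟨g, hg, hq, hcC, hqv⟩ := field hS h2 hW hp hv1 hvp hv hvt hk₀ hKn
  rcases Nat.lt_or_ge 1 g with hg2 | hg2
  · exact B2a hS h2 hI hW hp hv1 hvp hv hvt hg2 hq hqv
  have hg1 : g = 1 := by omega
  subst hg1
  rw [pow_one] at hq hcC hqv
  have hVle := V_le hS h2 hW hp hv1 hv hvt hq
  have hKC : ∀ k ∈ Cfsg.invertedBy (DD G a t) t, v * k = k * v → k = 1 := by
    intro k hk hvk
    have h3 : Nat.card {x : zpowers k₀ // v * x = x * v} = 1 := by omega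
    have h4 := Nat.card_eq_one_iff_unique.1 h3
    have h5 := h4.1.elim ⟨⟨k, (hK k).2 hk⟩, hvk⟩ ⟨1, by show v * 1 = 1 * v; group⟩
    exact congrArg (fun z : {x : zpowers k₀ // v * x = x * v} => ((z : zpowers k₀) : G)) h5
  have hQ2 : IsPGroup 2 Q := by
    intro x
    obtain ⟨n, hn⟩ := hin.odd hp hv1 hvp hv hvt hVle hKC hq x x.2
    exact ⟨n, Subtype.ext hn⟩
  have : Fact (Nat.Prime 2) := ⟨Nat.prime_two⟩
  obtain ⟨k, hk⟩ := IsPGroup.iff_card.1 (hQ2.to_le (inf_le_left : Q ⊓ centralizer {v} ≤ Q))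
  have hQc := card_eq hS h2 hW hp hv1 hvp hv hvt (not_dvd hS hp hv1 hvp hv hk)
  rw [hk] at hQc
  refine ⟨?_, ?_⟩
  · intro s hs r hr hs1 hss hst hrr
    obtain ⟨S, hSm, -, hcase⟩ := exists_S hS h2
    have hSQ : S = Q := by
      ext x
      rw [hSm]
      constructor
      · exact fun h => h.1
      · intro h
        exact ⟨h, hin.odd hp hv1 hvp hv hvt hVle hKC hq x h⟩
    subst hSQ
    rcases hcase with hab | ⟨-, -, -, hc | hc⟩
    · have hk3 := hin.abel hp hv1 hvp hv hvt hVle hKC hq hab hQ2 k hQc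
      have hk2 : k = 2 := by
        by_contra hne
        have hk1 : k ≤ 1 := by omega
        apply hrr
        -- `|Q| ≤ q`, so `Q = E`
        have h3 : Nat.card S ≤ qq S := by
          rw [hQc, hq]
          exact Nat.pow_le_pow_left (by
            calc 2 ^ k ≤ 2 ^ 1 := Nat.pow_le_pow_right (by norm_num) hk1
              _ = 2 := by norm_num) p
        have h4 : EE hS h2 = S := eq_of_le_of_card_ge (EE_le_Q hS h2) (by rw [card_EE hS h2]; exact h3)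
        have h5 : r ∈ EE hS h2 := by rw [h4]; exact hr
        exact EE_sq hS h2 h5
      rw [hQc, hk2, hq]; exact pow_right_comm 2 2 p
    · exact hc
    · exfalso
      apply hrr
      have h3 : k = 3 := by
        rw [hQc, hq] at hc
        have h4 : (2 ^ k) ^ p = (2 ^ 3) ^ p := by rw [hc]; exact pow_right_comm 2 p 3
        have h5 := Nat.pow_left_injective hp.ne_zero h4
        exact Nat.pow_right_injective (le_refl 2) h5
      rw [h3] at hk
      exact hin.nine hp hv1 hvp hv hvt hVle hKC (by rw [hk]; norm_num) hqv s hs r hr hs1 hss hst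
  · intro hcomm hpg
    have hk3 := hin.abel hp hv1 hvp hv hvt hVle hKC hq hcomm hpg k hQc
    rw [hQc, hq]
    calc (2 ^ k) ^ p ≤ (2 ^ 2) ^ p := Nat.pow_le_pow_left (Nat.pow_le_pow_right (by norm_num) (by omega)) p
      _ = _ := pow_right_comm 2 2 p

/-- **P(G)**, the induction step. -/
theorem step (hI : IH.{u, v} (Nat.card G)) (hin : Inputs hS) : PP t Q := by
  classical
  by_cases hW : ∀ w ∈ DD G a t, w * t = t * w → (∀ x ∈ EE hS h2, w * x = x * w) → w = 1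
  · by_cases hV : ∀ x ∈ stabilizer G a ⊓ stabilizer G (t • a), x * t = t * x → x = 1
    · exact H26SuzZ.PP_V hS h2 hV
    · push Not at hV
      obtain ⟨x, hx, hxt, hx1⟩ := hV
      -- an element of prime order
      have hord : orderOf x ≠ 1 := by rw [Ne, orderOf_eq_one_iff]; exact hx1
      obtain ⟨p, hp, m, hm⟩ := Nat.exists_prime_and_dvd hord
      have hpf : Fact p.Prime := ⟨hp⟩
      have hm0 : m ≠ 0 := by
        rintro rfl
        have := orderOf_pos x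
        omega
      refine B2 hS h2 hI hin hW hp (v := x ^ m) ?_ ?_ (pow_mem hx m) ((show Commute x t from hxt).pow_left m).eq
      · intro h
        have h3 := orderOf_dvd_of_pow_eq_one h
        rw [hm] at h3
        have h4 := Nat.le_of_dvd (Nat.pos_of_ne_zero hm0) h3
        have h5 := hp.two_le
        have : 0 < m := Nat.pos_of_ne_zero hm0
        nlinarith
      · rw [← pow_mul, mul_comm m p, ← hm, pow_orderOf_eq_one]
  · push Not at hW
    obtain ⟨w, hw, hwt, hwE, hw1⟩ := hW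
    exact H26SuzB1.B1 hS h2 hI hw1 hw hwt hwE

end Cfsg.Agent.Lib.H26SuzP
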