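import Cfsg.Agent.Lib.H26SuzInd

/-!
# The rank one set-up: the claim `PP` on the order of `Q` and its inductive behaviour
-/

set_option autoImplicit false
open MulAction

namespace Cfsg.Agent.Lib.H26SuzPP

open Subgroup Cfsg.Agent.Lib.RankOne Cfsg.Agent.Lib.RankOneB Cfsg.Agent.Lib.RankOneC Cfsg.Agent.Lib.H26SuzInd

universe u v

/-- the number of solutions of `x² = 1` -/
noncomputable def qq {G : Type*} [Group G] (Q : Subgroup G) : ℕ := Nat.card {x : Q // x * x = 1}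

theorem qq_congr {G H : Type*} [Group G] [Group H] {Q : Subgroup G} {Q' : Subgroup H} (e : Q ≃* Q') : qq Q = qq Q' :=
  Nat.card_congr (e.toEquiv.subtypeEquiv fun x => by
    show x * x = 1 ↔ e x * e x = 1
    rw [← map_mul, EmbeddingLike.map_eq_one_iff])

/-- the claim -/
def PP {G : Type*} [Group G] (t : G) (Q : Subgroup G) : Prop :=
  (∀ s ∈ Q, ∀ r ∈ Q, s ≠ 1 → s * s = 1 → t * s * t = r⁻¹ * t * r → r * r ≠ 1 → Nat.card Q = qq Q ^ 2) ∧
    ((∀ x ∈ Q, ∀ y ∈ Q, x * y = y * x) → IsPGroup 2 Q → Nat.card Q ≤ qq Q ^ 2)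

theorem PP_of_hom {G H : Type*} [Group G] [Group H] (f : G →* H) (t : G) (Q : Subgroup G)
    (hinj : ∀ x ∈ Q, f x = 1 → x = 1) (h : PP (f t) (Q.map f)) : PP t Q := by
  have hinj' : Function.Injective (f.subgroupMap Q) := by
    rw [injective_iff_map_eq_one]
    intro x hx
    exact Subtype.ext (hinj x x.2 (congrArg Subtype.val hx))
  let e : Q ≃* Q.map f := MulEquiv.ofBijective (f.subgroupMap Q) ⟨hinj', f.subgroupMap_surjective Q⟩
  have hc := Nat.card_congr e.toEquiv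
  have hq : qq Q = qq (Q.map f) := qq_congr e
  refine ⟨?_, ?_⟩
  · intro s hs r hr hs1 hss hst hrr
    rw [hc, hq]
    refine h.1 (f s) (mem_map_of_mem f hs) (f r) (mem_map_of_mem f hr) (fun h' => hs1 (hinj s hs h'))
      (by rw [← map_mul, hss, map_one]) (by rw [← map_mul, ← map_mul, hst, map_mul, map_mul, map_inv]) ?_
    intro h'
    exact hrr (hinj _ (Q.mul_mem hr hr) (by rw [map_mul, h']))
  · intro hcomm hp
    rw [hc, hq]
    refine h.2 ?_ (hp.map _)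
    rintro _ ⟨x, hx, rfl⟩ _ ⟨y, hy, rfl⟩
    rw [← map_mul, hcomm x hx y hy, map_mul]

theorem PP_sub {G : Type*} [Group G] {t : G} {Q N : Subgroup G} (hQ : Q ≤ N) (ht : t ∈ N)
    (h : PP (⟨t, ht⟩ : N) (Q.subgroupOf N)) : PP t Q := by
  have hc := Nat.card_congr (subgroupOfEquivOfLe hQ).toEquiv
  have hq : qq (Q.subgroupOf N) = qq Q := qq_congr (subgroupOfEquivOfLe hQ)
  refine ⟨?_, ?_⟩
  · intro s hs r hr hs1 hss hst hrr
    rw [← hc, ← hq]
    refine h.1 ⟨s, hQ hs⟩ hs ⟨r, hQ hr⟩ hr (fun h' => hs1 (congrArg Subtype.val h')) (Subtype.ext hss)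
      (Subtype.ext hst) (fun h' => hrr (congrArg Subtype.val h'))
  · intro hcomm hp
    rw [← hc, ← hq]
    refine h.2 (fun x hx y hy => Subtype.ext (hcomm x hx y hy)) (hp.of_equiv (subgroupOfEquivOfLe hQ).symm)

/-- the induction hypothesis -/
def IH (n : ℕ) : Prop :=
  ∀ (G : Type u) (Ω : Type v) [Group G] [Finite G] [MulAction G Ω] [FaithfulSMul G Ω] (a : Ω) (t : G) (Q : Subgroup G),
    Cfsg.IsRankOneSetup G Ω a t Q → (∃ x y : G, x ≠ 1 ∧ y ≠ 1 ∧ x ≠ y ∧ x * x = 1 ∧ y * y = 1 ∧ x * y = y * x) →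
      Nat.card G < n → PP t Q

section

variable {G : Type u} {Ω : Type v} [Group G] [Finite G] [MulAction G Ω] {a : Ω} {t : G} {Q : Subgroup G}
  (hS : Cfsg.IsRankOneSetup G Ω a t Q)
include hS

/-- the claim for a quotient -/
theorem PP_quot {z₁ z₂ : G} (h1 : z₁ ∈ Q) (h2 : z₂ ∈ Q) (h11 : z₁ ≠ 1) (h21 : z₂ ≠ 1) (hne : z₁ ≠ z₂) (hz1 : z₁ * z₁ = 1)
    (hz2 : z₂ * z₂ = 1) (hc : z₁ * z₂ = z₂ * z₁) {n : ℕ} (hI : IH.{u, v} n) (hn : Nat.card (G ⧸ ker G Ω) < n) : PP t Q := by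
  letI := quotAct G Ω
  haveI := quot_faithful (G := G) (Ω := Ω)
  have hinj : ∀ x ∈ Q, QuotientGroup.mk' (ker G Ω) x = 1 → x = 1 := fun x hx h =>
    Q_inf_D hS hx (ker_le hS ((QuotientGroup.eq_one_iff x).1 h))
  refine PP_of_hom (QuotientGroup.mk' (ker G Ω)) t Q hinj ?_
  refine hI (G ⧸ ker G Ω) Ω a _ _ (quot_setup hS)
    ⟨QuotientGroup.mk' _ z₁, QuotientGroup.mk' _ z₂, fun h => h11 (hinj _ h1 h), fun h => h21 (hinj _ h2 h), ?_,
      by rw [← map_mul, hz1, map_one], by rw [← map_mul, hz2, map_one], by rw [← map_mul, hc, map_mul]⟩ hn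
  intro h
  apply hne
  have : QuotientGroup.mk' (ker G Ω) (z₁ * z₂⁻¹) = 1 := by rw [map_mul, map_inv, h, mul_inv_cancel]
  exact mul_inv_eq_one.1 (hinj _ (Q.mul_mem h1 (Q.inv_mem h2)) this)

/-- the claim for the centralizer of `v ∈ V` -/
theorem PP_cent (hI : IH.{u, v} (Nat.card G)) {v : G} (hv1 : v ≠ 1) (hv : v • a = a ∧ v • t • a = t • a) (hvt : v * t = t * v)
    {z₁ z₂ : G} (h1 : z₁ ∈ Q) (h2 : z₂ ∈ Q) (h11 : z₁ ≠ 1) (h21 : z₂ ≠ 1) (hne : z₁ ≠ z₂) (hz1 : z₁ * z₁ = 1)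
    (hz2 : z₂ * z₂ = 1) (hc : z₁ * z₂ = z₂ * z₁) (hc1 : z₁ * v = v * z₁) (hc2 : z₂ * v = v * z₂) :
    PP t (Q ⊓ centralizer {v}) := by
  have hX : ∀ x ∈ ({v} : Set G), (x • a = a ∧ x • t • a = t • a) ∧ x * t = t * x := by
    rintro x rfl; exact ⟨hv, hvt⟩
  have hS' := cent_setup hS hX
  have ht : t ∈ centralizer {v} := t_mem_cent hS hX
  have h1' : z₁ ∈ centralizer {v} := mem_centralizer_singleton_iff.2 hc1
  have h2' : z₂ ∈ centralizer {v} := mem_centralizer_singleton_iff.2 hc2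
  have hvc : v ∈ centralizer {v} := mem_centralizer_singleton_iff.2 rfl
  refine PP_sub inf_le_right ht ?_
  rw [inf_subgroupOf_right]
  refine PP_quot hS' (z₁ := ⟨z₁, h1'⟩) (z₂ := ⟨z₂, h2'⟩) h1 h2 (fun h => h11 (congrArg Subtype.val h))
    (fun h => h21 (congrArg Subtype.val h)) (fun h => hne (congrArg Subtype.val h)) (Subtype.ext hz1) (Subtype.ext hz2)
    (Subtype.ext hc) hI ?_
  -- the kernel contains `v`
  set N := ker (centralizer {v}) (Fx Ω {v}) with hN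
  have hvN : (⟨v, hvc⟩ : centralizer {v}) ∈ N := by
    rw [hN, H26SuzInd.mem_ker]
    intro c
    exact Subtype.ext (c.2 v rfl)
  have hN1 : 1 < Nat.card N := by
    rw [Finite.one_lt_card_iff_nontrivial]
    exact ⟨⟨1, ⟨⟨v, hvc⟩, hvN⟩, fun h => hv1 (congrArg (fun w : N => ((w : centralizer {v}) : G)) h).symm⟩⟩
  have h3 := Subgroup.card_eq_card_quotient_mul_card_subgroup N
  have h4 : Nat.card (centralizer {v}) ≤ Nat.card G := Nat.card_le_card_of_injective _ Subtype.val_injective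
  have h5 : 0 < Nat.card (centralizer {v} ⧸ N) := Nat.card_pos
  nlinarith

end

end Cfsg.Agent.Lib.H26SuzPP
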