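import Cfsg.Agent.Lib.SUZBlk

/-!
Blocks in the split rank one set-up (helper24, SUZ project, piece S2): the index function on `Q / S` and the main theorem:
for `x ∈ Q \ S` the elements of `Q` moving `t a` into `{a} ∪ S t a` or into the `L`-orbit of `x t a` form a subgroup of order `|L| + |S|`.
-/

set_option autoImplicit false

namespace Cfsg.Agent.Lib.SUZBlk

open MulAction Cfsg.Agent.Lib.RankOne Cfsg.Agent.Lib.SUZGeo

variable {G Ω : Type*} [Group G] [MulAction G Ω] {a : Ω} {t : G} {Q S K L : Subgroup G}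

namespace Blk

variable (B : Blk a t Q S K L)

/-- `S` in `G_a` -/
def N (_ : Blk a t Q S K L) : Subgroup (stabilizer G a) := S.subgroupOf (stabilizer G a)

instance : B.N.Normal := ⟨fun y hy h => by
  rw [N, Subgroup.mem_subgroupOf] at hy ⊢
  exact B.Sn h h.2 y hy⟩

def QH (_ : Blk a t Q S K L) : Subgroup (stabilizer G a) := Q.subgroupOf (stabilizer G a)

instance : B.QH.Normal := ⟨fun y hy h => by
  rw [QH, Subgroup.mem_subgroupOf] at hy ⊢
  exact B.Qn h.2 hy⟩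

/-- the quotient `Q / S` -/
def V : Subgroup (stabilizer G a ⧸ B.N) := B.QH.map (QuotientGroup.mk' B.N)

instance : B.V.Normal := Subgroup.Normal.map inferInstance _ (QuotientGroup.mk'_surjective _)

include B in
theorem Kle : K ≤ stabilizer G a := fun k hk => (B.KD k hk).1

noncomputable def actHom : K →* MulAut B.V :=
  (MulAut.conjNormal (H := B.V)).comp ((QuotientGroup.mk' B.N).comp (Subgroup.inclusion B.Kle))

noncomputable instance : MulDistribMulAction K B.V := MulDistribMulAction.compHom _ B.actHom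

/-- class of an element of `Q` -/
def cls (x : Q) : B.V := ⟨QuotientGroup.mk' B.N ⟨x, B.hS.le x.2⟩, Subgroup.mem_map_of_mem _ (by
  rw [QH, Subgroup.mem_subgroupOf]; exact x.2)⟩

theorem cls_mul (x y : Q) : B.cls (x * y) = B.cls x * B.cls y := rfl

theorem cls_inv (x : Q) : B.cls x⁻¹ = (B.cls x)⁻¹ := rfl

theorem cls_eq_iff (x y : Q) : B.cls x = B.cls y ↔ (x : G)⁻¹ * y ∈ S := by
  rw [Subtype.ext_iff]
  change ((⟨x, _⟩ : stabilizer G a) : stabilizer G a ⧸ B.N) = ((⟨y, _⟩ : stabilizer G a) : stabilizer G a ⧸ B.N) ↔ _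
  rw [QuotientGroup.eq]
  rfl

theorem cls_surj (v : B.V) : ∃ x : Q, B.cls x = v := by
  obtain ⟨_, ⟨h, hh, rfl⟩⟩ := v
  rw [SetLike.mem_coe, QH, Subgroup.mem_subgroupOf] at hh
  exact ⟨⟨h, hh⟩, rfl⟩

theorem cls_eq_one (x : Q) : B.cls x = 1 ↔ (x : G) ∈ S := by
  have : B.cls x = 1 ↔ B.cls 1 = B.cls x := by
    constructor
    · intro h; rw [h]; rfl
    · intro h; rw [← h]; rfl
  rw [this, B.cls_eq_iff]
  simp

theorem smul_cls (k : K) (x : Q) : k • B.cls x = B.cls ⟨k * x * (k : G)⁻¹, B.Qn (B.KD k k.2).1 x.2⟩ := by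
  apply Subtype.ext
  change ((MulAut.conjNormal (H := B.V) (QuotientGroup.mk' B.N ⟨k, _⟩) (B.cls x) : B.V) : stabilizer G a ⧸ B.N) = _
  rw [MulAut.conjNormal_apply]
  rfl

/-- the index of a class: the `L`-orbit of its points -/
def idx (v : B.V) : Set Ω := {c | ∃ x : Q, B.cls x = v ∧ ∃ l ∈ L, c = l • (x : G) • t • a}

theorem idx_cls (x : Q) : B.idx (B.cls x) = {c | ∃ l ∈ L, c = l • (x : G) • t • a} := by
  ext c
  constructor
  · rintro ⟨x', hx', l, hl, rfl⟩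
    rw [B.cls_eq_iff] at hx'
    have h1 : (x' : G) * (x : G)⁻¹ ∈ S := by
      have := S.inv_mem (B.Sn (x' : G) (Q_fix B.hS x'.2) _ hx')
      have e : ((x' : G) * ((x' : G)⁻¹ * x) * (x' : G)⁻¹)⁻¹ = (x' : G) * (x : G)⁻¹ := by group
      rwa [e] at this
    refine ⟨l * ((x' : G) * (x : G)⁻¹), L.mul_mem hl (B.SL h1), ?_⟩
    rw [mul_smul l, ← mul_smul ((x' : G) * (x : G)⁻¹), inv_mul_cancel_right]
  · rintro ⟨l, hl, rfl⟩
    exact ⟨x, rfl, l, hl, rfl⟩

theorem idx_eq_iff (x z : Q) : B.idx (B.cls z) = B.idx (B.cls x) ↔ ∃ l ∈ L, l • (x : G) • t • a = (z : G) • t • a := by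
  rw [B.idx_cls, B.idx_cls]
  constructor
  · intro h
    have : (z : G) • t • a ∈ {c | ∃ l ∈ L, c = l • (x : G) • t • a} := by
      rw [← h]; exact ⟨1, L.one_mem, (one_smul _ _).symm⟩
    obtain ⟨l, hl, h'⟩ := this
    exact ⟨l, hl, h'.symm⟩
  · rintro ⟨l, hl, h⟩
    ext c
    constructor
    · rintro ⟨l', hl', rfl⟩
      exact ⟨l' * l, L.mul_mem hl' hl, by rw [← h, mul_smul l' l]⟩
    · rintro ⟨l', hl', rfl⟩
      exact ⟨l' * l⁻¹, L.mul_mem hl' (L.inv_mem hl), by rw [← h, mul_smul l', inv_smul_smul]⟩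

/-- N1 -/
theorem mem_Nset {x z : Q} (hxS : (x : G) ∉ S) {l : G} (hl : l ∈ L) (hla : l • a ≠ a)
    (h : l • (x : G) • t • a = (z : G) • t • a) : B.cls z ∈ Nset K B.idx (B.cls x) := by
  refine ⟨?_, (B.idx_eq_iff x z).2 ⟨l, hl, h⟩, ?_⟩
  · intro h1
    rw [B.cls_eq_one, ← B.mem_C_iff z.2, ← h] at h1
    have := B.C_L' hl h1
    rw [B.mem_C_iff x.2] at this
    exact hxS this
  · rintro ⟨k, hk⟩
    simp only at hk
    rw [B.smul_cls, B.cls_eq_iff] at hk
    apply B.key x.2 hxS hl hla z.2 h k.2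
    have := B.Sn (z : G) (Q_fix B.hS z.2) _ (S.inv_mem hk)
    have e : (z : G) * (((k : G) * (x : G) * (k : G)⁻¹)⁻¹ * (z : G))⁻¹ * (z : G)⁻¹ = ((k : G) * (x : G) * (k : G)⁻¹) * (z : G)⁻¹ := by group
    simp only at this
    rw [e] at this
    have := S.inv_mem this
    rwa [mul_inv_rev, inv_inv] at this

/-- N2 -/
theorem of_mem_Nset {x z : Q} (h : B.cls z ∈ Nset K B.idx (B.cls x)) :
    ∃ l ∈ L, l • a ≠ a ∧ l • (x : G) • t • a = (z : G) • t • a := by
  obtain ⟨-, h1, h2⟩ := h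
  obtain ⟨l, hl, hlz⟩ := (B.idx_eq_iff x z).1 h1
  refine ⟨l, hl, ?_, hlz⟩
  intro hla
  apply h2
  obtain ⟨y, hy, k, hk, rfl⟩ := B.cov l hl hla
  refine ⟨⟨k, hk⟩, ?_⟩
  simp only
  rw [B.smul_cls, B.cls_eq_iff]
  rw [mul_smul y, B.K_pt hk, ← mul_smul y] at hlz
  have h3 := Q_eq B.hS (Q.mul_mem (B.SQ hy) (B.Qn (B.KD k hk).1 x.2)) z.2 (ta_ne B.hS) hlz
  rw [← h3]
  exact B.Sn' (Q_fix B.hS (B.Qn (B.KD k hk).1 x.2)) hy |> fun h => by
    have e : (k * (x : G) * k⁻¹)⁻¹ * (y * (k * x * k⁻¹)) = (k * (x : G) * k⁻¹)⁻¹ * y * (k * x * k⁻¹) := by group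
    simp only
    rw [e]; exact h

theorem data : Data K B.idx where
  nontrivial := by
    obtain ⟨k, hk, h⟩ := B.K1
    exact ⟨⟨k, hk⟩, fun h' => h (congrArg Subtype.val h')⟩
  fpf := by
    intro k hk v hv
    obtain ⟨x, rfl⟩ := B.cls_surj v
    rw [B.smul_cls] at hv
    have hv' := hv.symm
    rw [B.cls_eq_iff] at hv'
    rw [B.cls_eq_one]
    exact B.Kfpf k k.2 (fun h => hk (Subtype.ext h)) x x.2 hv'
  inv := by
    intro k v _
    obtain ⟨x, rfl⟩ := B.cls_surj v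
    rw [B.smul_cls, B.idx_eq_iff]
    exact ⟨k, B.KL k.2, B.K_pt k.2⟩
  ne := by
    intro v hv
    obtain ⟨x, rfl⟩ := B.cls_surj v
    have hxS : (x : G) ∉ S := fun h => hv ((B.cls_eq_one x).2 h)
    have hne : t • (x : G) • t • a ≠ a := by
      intro h
      have h1 : (x : G) • t • a = t • a := by
        have := congrArg (fun c => t • c) h
        rwa [smul_smul t t, B.hS.mul_self, one_smul] at this
      exact B.pt_ne_b x.2 (fun h' => hxS (by rw [h']; exact S.one_mem)) h1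
    obtain ⟨z, hz, hz'⟩ := B.exists_pt hne
    exact ⟨B.cls ⟨z, hz⟩, B.mem_Nset hxS B.tL (ta_ne B.hS) hz'.symm⟩
  rule := by
    intro s hs v hv
    obtain ⟨x, rfl⟩ := B.cls_surj s
    obtain ⟨z, rfl⟩ := B.cls_surj v
    have hxS : (x : G) ∉ S := fun h => hs ((B.cls_eq_one x).2 h)
    obtain ⟨l, hl, hla, hlz⟩ := B.of_mem_Nset hv
    obtain ⟨y₁, h1, y, h2, y₂, h3, hy, rfl⟩ := B.dec l hl hla
    let x' : Q := ⟨y₂ * x, Q.mul_mem (B.SQ h3) x.2⟩
    let z' : Q := ⟨y₁⁻¹ * z, Q.mul_mem (Q.inv_mem (B.SQ h1)) z.2⟩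
    have hx'S : (x' : G) ∉ S := fun h' => hxS ((S.mul_mem_cancel_left h3).1 h')
    have hx'1 : (x' : G) ≠ 1 := fun h' => hx'S (by rw [h']; exact S.one_mem)
    have hcx : B.cls x = B.cls x' := by
      rw [B.cls_eq_iff]
      have := B.Sn' (Q_fix B.hS x.2) h3
      rwa [mul_assoc] at this
    have hcz : B.cls z = B.cls z' := by
      rw [B.cls_eq_iff]
      have := B.Sn' (Q_fix B.hS z.2) (S.inv_mem h1)
      rwa [mul_assoc] at this
    have hz' : (z' : G) • t • a = (t * y * t) • (x' : G) • t • a := by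
      change (y₁⁻¹ * (z : G)) • t • a = (t * y * t) • (y₂ * (x : G)) • t • a
      rw [mul_smul y₁⁻¹ (z : G), ← hlz, mul_smul _ y₂, mul_smul y₁, inv_smul_smul, mul_smul y₂ (x : G)]
    obtain ⟨y', hy', hy'1, hrule⟩ := B.rule (Q_fix B.hS x'.2) (B.pt_ne_b x'.2 hx'1) h2 hy
    rw [← hz', ← mul_smul _ (z' : G)] at hrule
    have h4 := B.mem_Nset (x := x'⁻¹) (z := x'⁻¹ * z') (fun h' => hx'S (by simpa using S.inv_mem h'))
      (L.mul_mem (L.mul_mem B.tL (B.SL hy')) B.tL) (l := t * y' * t) ?_ hrule.symm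
    · rw [hcx, hcz, ← B.cls_inv, ← B.cls_mul]
      exact h4
    · intro h5
      rw [mul_smul, mul_smul] at h5
      have h6 : y' • t • a = t • a := by
        have := congrArg (fun c => t • c) h5
        rwa [smul_smul t t, B.hS.mul_self, one_smul] at this
      exact ta_ne B.hS (Q_free B.hS (B.SQ hy') hy'1 h6)

include B in
/-- MAIN THEOREM of the block geometry -/
theorem exists_subgroup [Finite G] {x : G} (hx : x ∈ Q) (hxS : x ∉ S) : ∃ A : Subgroup G, S ≤ A ∧ A ≤ Q ∧ x ∈ A ∧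
    Nat.card A = Nat.card L + Nat.card S ∧
    ∀ z ∈ Q, z ∈ A ↔ z ∈ S ∨ ∃ l ∈ L, l • x • t • a = z • t • a := by
  obtain ⟨A0, hA0⟩ := B.data.exists_subgroup (B.cls ⟨x, hx⟩)
  -- the preimage in `Q`
  let f : Q →* B.V := { toFun := B.cls, map_one' := rfl, map_mul' := B.cls_mul }
  let A : Subgroup G := (A0.comap f).map Q.subtype
  have hA : ∀ z ∈ Q, z ∈ A ↔ z ∈ S ∨ ∃ l ∈ L, l • x • t • a = z • t • a := by
    intro z hz
    have h1 : z ∈ A ↔ B.cls ⟨z, hz⟩ ∈ A0 := by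
      constructor
      · rintro ⟨z', hz', rfl⟩; exact hz'
      · intro h; exact ⟨⟨z, hz⟩, h, rfl⟩
    rw [h1, hA0, B.cls_eq_one, B.idx_eq_iff]
    constructor
    · rintro (h | ⟨h, -⟩)
      · exact Or.inl h
      · exact Or.inr h
    · rintro (h | h)
      · exact Or.inl h
      · right
        refine ⟨h, ?_⟩
        intro h2
        rw [B.cls_eq_one] at h2
        obtain ⟨l, hl, hlz⟩ := h
        have h3 := (B.mem_C_iff hz).2 h2
        rw [← hlz] at h3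
        exact hxS ((B.mem_C_iff hx).1 (B.C_L' hl h3))
  have hAQ : A ≤ Q := by
    rintro _ ⟨z, -, rfl⟩; exact z.2
  refine ⟨A, fun y hy => (hA y (B.SQ hy)).2 (Or.inl hy), hAQ, (hA x hx).2 (Or.inr ⟨1, L.one_mem, one_smul _ _⟩), ?_, hA⟩
  classical
  -- a bijection `A ≃ L ⊕ S`
  have hdis : ∀ z ∈ Q, z ∈ S → ¬ ∃ l ∈ L, l • x • t • a = z • t • a := by
    rintro z hz h2 ⟨l, hl, hlz⟩
    have h3 := (B.mem_C_iff hz).2 h2
    rw [← hlz] at h3
    exact hxS ((B.mem_C_iff hx).1 (B.C_L' hl h3))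
  have hex : ∀ l : L, ∃ z ∈ Q, z • t • a = (l : G) • x • t • a := by
    intro l
    apply B.exists_pt
    intro h
    have h1 : (l : G) • x • t • a ∈ C a t S := by rw [h]; exact Or.inl rfl
    exact hxS ((B.mem_C_iff hx).1 (B.C_L' l.2 h1))
  choose g hgQ hg using hex
  have hgA : ∀ l, g l ∈ A := fun l => (hA _ (hgQ l)).2 (Or.inr ⟨l, l.2, (hg l).symm⟩)
  let F : L ⊕ S → A := Sum.elim (fun l => ⟨g l, hgA l⟩) (fun y => ⟨y, (hA y (B.SQ y.2)).2 (Or.inl y.2)⟩)
  have hF : Function.Bijective F := by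
    constructor
    · rintro (l | y) (l' | y') h
      · have h1 : g l = g l' := congrArg Subtype.val h
        have h2 : (l : G) • x • t • a = (l' : G) • x • t • a := by rw [← hg, ← hg, h1]
        have h3 : ((l' : G)⁻¹ * l) • x • t • a = x • t • a := by rw [mul_smul, h2, inv_smul_smul]
        have h4 := B.free hx hxS (L.mul_mem (L.inv_mem l'.2) l.2) h3
        rw [inv_mul_eq_one] at h4
        rw [Subtype.ext h4]
      · exfalso
        have h1 : g l = y' := congrArg Subtype.val h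
        exact hdis y' (B.SQ y'.2) y'.2 ⟨l, l.2, by rw [← hg, h1]⟩
      · exfalso
        have h1 : (y : G) = g l' := congrArg Subtype.val h
        exact hdis y (B.SQ y.2) y.2 ⟨l', l'.2, by rw [← hg, h1]⟩
      · have h1 : (y : G) = y' := congrArg (fun w : A => (w : G)) h
        rw [Subtype.ext h1]
    · rintro ⟨z, hz⟩
      rcases (hA z (hAQ hz)).1 hz with h | ⟨l, hl, hlz⟩
      · exact ⟨Sum.inr ⟨z, h⟩, rfl⟩
      · refine ⟨Sum.inl ⟨l, hl⟩, Subtype.ext ?_⟩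
        exact Q_eq B.hS (hgQ ⟨l, hl⟩) (hAQ hz) (ta_ne B.hS) ((hg ⟨l, hl⟩).trans hlz)
  rw [← Nat.card_congr (Equiv.ofBijective F hF), Nat.card_sum]

end Blk

end Cfsg.Agent.Lib.SUZBlk
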