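import Cfsg.Agent.Lib.H26SuzV
import Cfsg.Agent.Lib.SUZBlk2

/-!
# The rank one set-up: the canonical form, and the subgroups `S K ∪ S K t S`
-/

set_option autoImplicit false
open MulAction

namespace Cfsg.Agent.Lib.H26SuzS1

open Subgroup Cfsg.Agent.Lib.RankOne Cfsg.Agent.Lib.RankOneB Cfsg.Agent.Lib.RankOneC

universe u v

variable {G : Type u} {Ω : Type v} [Group G] [Finite G] [MulAction G Ω] {a : Ω} {t : G} {Q : Subgroup G}
  (hS : Cfsg.IsRankOneSetup G Ω a t Q)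

include hS

theorem not_stab {x : G} (hx : x ∈ Q) (hx1 : x ≠ 1) : t * x * t ∉ stabilizer G a := by
  intro h
  rw [mem_stabilizer_iff, mul_smul, mul_smul] at h
  have h1 : x • t • a = t • a := by
    apply MulAction.injective t
    show t • x • t • a = t • t • a
    rw [h, tta hS]
  exact ta_ne hS (Q_free hS hx hx1 h1)

theorem exists_can {x : G} (hx : x ∈ Q) (hx1 : x ≠ 1) : ∃ g ∈ Q, ∃ h ∈ stabilizer G a ⊓ stabilizer G (t • a), ∃ f ∈ Q,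
    t * x * t = g * h * t * f := by
  obtain ⟨p, ⟨hp1, hp2, hp3⟩, -⟩ := canonical hS (not_stab hS hx hx1)
  obtain ⟨y, hy, d, hd, hyd⟩ := exists_mul hS hp1
  exact ⟨y, hy, d, hd, p.2, hp2, by rw [hp3, hyd]⟩

theorem can_unique {g g' h h' f f' : G} (hg : g ∈ Q) (hg' : g' ∈ Q) (hh : h ∈ stabilizer G a ⊓ stabilizer G (t • a))
    (hh' : h' ∈ stabilizer G a ⊓ stabilizer G (t • a)) (hf : f ∈ Q) (hf' : f' ∈ Q)
    (e : g * h * t * f = g' * h' * t * f') : g = g' ∧ h = h' ∧ f = f' := by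
  have hns : g * h * t * f ∉ stabilizer G a := by
    intro h1
    rw [mem_stabilizer_iff, mul_smul, Q_fix hS hf, mul_smul] at h1
    have h2 : t • a = (g * h)⁻¹ • a := by rw [eq_inv_smul_iff, h1]
    rw [mem_stabilizer_iff.1 (inv_mem (mul_mem (hS.le hg) hh.1))] at h2
    exact ta_ne hS h2
  have hu := (canonical hS hns).unique (y₁ := (g * h, f)) (y₂ := (g' * h', f')) ⟨mul_mem (hS.le hg) hh.1, hf, rfl⟩
    ⟨mul_mem (hS.le hg') hh'.1, hf', e⟩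
  have h1 : g * h = g' * h' := congrArg Prod.fst hu
  have h2 : f = f' := congrArg Prod.snd hu
  have h3 : g'⁻¹ * g = h' * h⁻¹ := by
    rw [inv_mul_eq_iff_eq_mul, ← mul_assoc, ← h1, mul_inv_cancel_right]
  have h4 : g'⁻¹ * g = 1 := Q_inf_D hS (Q.mul_mem (Q.inv_mem hg') hg) (by rw [h3]; exact mul_mem hh' (inv_mem hh))
  rw [h4] at h3
  exact ⟨(inv_mul_eq_one.1 h4).symm, (mul_inv_eq_one.1 h3.symm).symm, h2⟩

section K

omit [Finite G] hS in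
theorem conj_can {G : Type u} [Group G] {t s r : G} (htt : t * t = 1) (hst : t * s * t = r⁻¹ * t * r) {k : G} (hk : t * k * t = k⁻¹) :
    t * (k⁻¹ * s * k) * t = (k * r * k⁻¹)⁻¹ * (k * k) * t * (k * r * k⁻¹) := by
  have h1 : t * k⁻¹ * t = k := by
    have : (t * k * t)⁻¹ = k⁻¹⁻¹ := by rw [hk]
    have hti : t⁻¹ = t := by rw [inv_eq_iff_mul_eq_one]; exact htt
    rw [mul_inv_rev, mul_inv_rev, hti, inv_inv] at this
    rw [mul_assoc]; exact this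
  have h3 : t * k = k⁻¹ * t := by rw [← hk]; rw [mul_assoc, htt, mul_one]
  have h4 : t * k⁻¹ = k * t := by nth_rw 2 [← h1]; rw [mul_assoc, htt, mul_one]
  calc t * (k⁻¹ * s * k) * t = (t * k⁻¹ * t) * (t * s * t) * (t * k * t) := by
        have : (t * k⁻¹ * t) * (t * s * t) * (t * k * t) = t * k⁻¹ * (t * t) * s * (t * t) * k * t := by group
        rw [this, htt]; group
    _ = k * (r⁻¹ * t * r) * k⁻¹ := by rw [h1, hst, hk]
    _ = (k * r * k⁻¹)⁻¹ * (k * (t * k⁻¹)) * (k * r * k⁻¹) := by group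
    _ = _ := by rw [h4]; group

/-- The component in `D` of `t (r e) t` lies in `K`. -/
theorem re_mem_K {s r : G} {K : Subgroup G} (hK : ∀ x, x ∈ K ↔ x ∈ Cfsg.invertedBy (stabilizer G a ⊓ stabilizer G (t • a)) t)
    (hKn : ∀ d ∈ stabilizer G a ⊓ stabilizer G (t • a), ∀ c ∈ K, d * c * d⁻¹ ∈ K)
    (hs : s ∈ Cfsg.involutionsIn (stabilizer G a : Set G)) (hr : r ∈ Q) (hst : t * s * t = r⁻¹ * t * r)
    {k : G} (hk : k ∈ K) {g h f : G} (hg : g ∈ Q) (hh : h ∈ stabilizer G a ⊓ stabilizer G (t • a)) (hf : f ∈ Q)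
    (e : t * (r * (k⁻¹ * s * k)) * t = g * h * t * f) : h ∈ K := by
  have htt := hS.mul_self
  have hti := t_inv hS
  have hsi : s⁻¹ = s := by rw [inv_eq_iff_mul_eq_one]; exact hs.2.2
  have hsQ : s ∈ Q := mem_Q_of_sq hS hs.1 hs.2.2
  have hkK := (hK k).1 hk
  have hka : k ∈ stabilizer G a := hkK.1.1
  have hktk : t * k * t = k⁻¹ := ((mem_invertedBy hS).1 hkK).2
  have htki : t * k⁻¹ * t = k := by
    have h0 := ((mem_invertedBy hS).1 (inv_mem_K hS hkK)).2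
    rwa [inv_inv] at h0
  have h3 : t * k = k⁻¹ * t := by rw [← hktk]; rw [mul_assoc, htt, mul_one]
  have h4 : t * k⁻¹ = k * t := by nth_rw 2 [← htki]; rw [mul_assoc, htt, mul_one]
  -- `t r t = r t s`
  have hrt : t * r * t = r * t * s := by
    have : r * (t * s * t) * t = t * r * t := by rw [hst]; group
    rw [← this]
    calc r * (t * s * t) * t = r * t * s * (t * t) := by group
      _ = _ := by rw [htt, mul_one]
  -- `t x t = r (t y t) k⁻² r_k`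
  have hxy : t * (r * (k⁻¹ * s * k)) * t = r * (t * (k * (r * (k⁻¹ * s * k)) * k⁻¹)⁻¹ * t) * (k⁻¹ * k⁻¹) * (k * r * k⁻¹) := by
    have h5 : (k * (r * (k⁻¹ * s * k)) * k⁻¹)⁻¹ = s * (k * r * k⁻¹)⁻¹ := by
      calc (k * (r * (k⁻¹ * s * k)) * k⁻¹)⁻¹ = s⁻¹ * (k * r * k⁻¹)⁻¹ := by group
        _ = _ := by rw [hsi]
    calc t * (r * (k⁻¹ * s * k)) * t = (t * r * t) * (t * (k⁻¹ * s * k) * t) := by
          calc t * (r * (k⁻¹ * s * k)) * t = t * r * 1 * (k⁻¹ * s * k) * t := by group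
            _ = t * r * (t * t) * (k⁻¹ * s * k) * t := by rw [htt]
            _ = _ := by group
      _ = (r * t * s) * ((k * r * k⁻¹)⁻¹ * (k * k) * t * (k * r * k⁻¹)) := by rw [hrt, conj_can htt hst hktk]
      _ = r * t * (s * (k * r * k⁻¹)⁻¹) * (k * (k * t)) * (k * r * k⁻¹) := by group
      _ = r * t * (s * (k * r * k⁻¹)⁻¹) * (k * (t * k⁻¹)) * (k * r * k⁻¹) := by rw [h4]
      _ = r * t * (s * (k * r * k⁻¹)⁻¹) * (k * t) * k⁻¹ * (k * r * k⁻¹) := by group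
      _ = r * t * (s * (k * r * k⁻¹)⁻¹) * (t * k⁻¹) * k⁻¹ * (k * r * k⁻¹) := by rw [h4]
      _ = _ := by rw [h5]; group
  -- canonical form of `t y t`
  have hy : t * (k * (r * (k⁻¹ * s * k)) * k⁻¹)⁻¹ * t = (k⁻¹ * f⁻¹ * k) * (t * (k * h⁻¹ * k)) * (k⁻¹ * g⁻¹ * k) := by
    have h5 : t * (k * (r * (k⁻¹ * s * k)) * k⁻¹) * t = (k⁻¹ * g * k) * (k⁻¹ * h * k⁻¹) * t * (k⁻¹ * f * k) := by
      calc t * (k * (r * (k⁻¹ * s * k)) * k⁻¹) * t = (t * k) * ((r * (k⁻¹ * s * k))) * (k⁻¹ * t) := by group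
        _ = (k⁻¹ * t) * ((r * (k⁻¹ * s * k))) * (t * k) := by rw [h3]
        _ = k⁻¹ * (t * (r * (k⁻¹ * s * k)) * t) * k := by group
        _ = k⁻¹ * (g * h * t * f) * k := by rw [e]
        _ = k⁻¹ * g * h * (t * k) * (k⁻¹ * f * k) := by group
        _ = k⁻¹ * g * h * (k⁻¹ * t) * (k⁻¹ * f * k) := by rw [h3]
        _ = _ := by group
    have h6 : t * (k * (r * (k⁻¹ * s * k)) * k⁻¹)⁻¹ * t = (t * (k * (r * (k⁻¹ * s * k)) * k⁻¹) * t)⁻¹ := by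
      rw [mul_inv_rev (t * _) t, mul_inv_rev t, hti, mul_assoc]
    rw [h6, h5]
    calc (k⁻¹ * g * k * (k⁻¹ * h * k⁻¹) * t * (k⁻¹ * f * k))⁻¹
        = (k⁻¹ * f⁻¹ * k) * (t⁻¹ * (k * h⁻¹ * k)) * (k⁻¹ * g⁻¹ * k) := by group
      _ = _ := by rw [hti]
  have hform : g * h * t * f = (r * (k⁻¹ * f⁻¹ * k)) * (k⁻¹ * (t * h⁻¹ * t) * k) * t * (k * (g⁻¹ * r) * k⁻¹) := by
    rw [← e, hxy, hy]
    have h5 : t * (k * h⁻¹ * k) = k⁻¹ * (t * h⁻¹ * t) * k⁻¹ * t := by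
      calc t * (k * h⁻¹ * k) = (t * k) * h⁻¹ * k := by group
        _ = k⁻¹ * t * h⁻¹ * 1 * k := by rw [h3]; group
        _ = k⁻¹ * t * h⁻¹ * (t * t) * k := by rw [htt]
        _ = k⁻¹ * t * h⁻¹ * t * (t * k) := by group
        _ = k⁻¹ * t * h⁻¹ * t * (k⁻¹ * t) := by rw [h3]
        _ = _ := by group
    rw [h5]
    have h6 : k⁻¹ * t * (k⁻¹ * g⁻¹ * k) * (k⁻¹ * k⁻¹) * (k * r * k⁻¹) = k * t * (k * (g⁻¹ * r) * k⁻¹) := by
      calc k⁻¹ * t * (k⁻¹ * g⁻¹ * k) * (k⁻¹ * k⁻¹) * (k * r * k⁻¹)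
          = k⁻¹ * (t * k⁻¹) * k⁻¹ * (k * (g⁻¹ * r) * k⁻¹) := by group
        _ = k⁻¹ * (k * t) * k⁻¹ * (k * (g⁻¹ * r) * k⁻¹) := by rw [h4]
        _ = (t * k⁻¹) * (k * (g⁻¹ * r) * k⁻¹) := by group
        _ = _ := by rw [h4]
    calc r * (k⁻¹ * f⁻¹ * k * (k⁻¹ * (t * h⁻¹ * t) * k⁻¹ * t) * (k⁻¹ * g⁻¹ * k)) * (k⁻¹ * k⁻¹) * (k * r * k⁻¹)
        = r * (k⁻¹ * f⁻¹ * k) * (k⁻¹ * (t * h⁻¹ * t)) * (k⁻¹ * t * (k⁻¹ * g⁻¹ * k) * (k⁻¹ * k⁻¹) * (k * r * k⁻¹)) := by group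
      _ = _ := by rw [h6]; group
  have hQk : ∀ y ∈ Q, k⁻¹ * y * k ∈ Q := by
    intro y hy
    have := hS.conj_mem k⁻¹ (inv_mem hka) y hy
    rwa [inv_inv] at this
  have hth : t * h⁻¹ * t ∈ stabilizer G a ⊓ stabilizer G (t • a) := by
    have := t_conj_D hS (inv_mem hh)
    rwa [hti] at this
  have hD1 : k⁻¹ * (t * h⁻¹ * t) * k ∈ stabilizer G a ⊓ stabilizer G (t • a) :=
    mul_mem (mul_mem (inv_mem hkK.1) hth) hkK.1
  obtain ⟨-, heq, -⟩ := can_unique hS hg (Q.mul_mem hr (hQk _ (Q.inv_mem hf))) hh hD1 hf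
    (hS.conj_mem k hka _ (Q.mul_mem (Q.inv_mem hg) hr)) hform
  -- decompose `h = v κ`
  obtain ⟨p, ⟨hp1, hp2, hp3⟩, -⟩ := OddInv.exists_unique_mul t hS.mul_self (stabilizer G a ⊓ stabilizer G (t • a)) hS.odd_card
      (fun x hx => t_conj_D hS hx) h hh
  have hvt : p.1 * t = t * p.1 := mem_centralizer_singleton_iff.1 hp1.2
  have hκ : p.2 ∈ K := (hK _).2 hp2
  have hκt : t * p.2⁻¹ * t = p.2 := by
    have h0 := ((mem_invertedBy hS).1 (inv_mem_K hS hp2)).2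
    rwa [inv_inv] at h0
  have h7 : t * h⁻¹ * t = p.2 * p.1⁻¹ := by
    have h8 : p.1⁻¹ * t = t * p.1⁻¹ := by
      rw [inv_mul_eq_iff_eq_mul, ← mul_assoc, hvt, mul_inv_cancel_right]
    calc t * h⁻¹ * t = t * p.2⁻¹ * (p.1⁻¹ * t) := by rw [hp3]; group
      _ = t * p.2⁻¹ * (t * p.1⁻¹) := by rw [h8]
      _ = (t * p.2⁻¹ * t) * p.1⁻¹ := by group
      _ = _ := by rw [hκt]
  rw [h7] at heq
  -- `v² ∈ K`
  have h8 : p.1 * p.1 ∈ K := by
    have h9 : p.1 * p.1 = (k⁻¹ * p.2) * (p.1⁻¹ * (k * p.2⁻¹) * p.1⁻¹⁻¹) := by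
      have h10 : h = p.1 * p.2 := hp3
      rw [h10] at heq
      have h11 : p.1 = k⁻¹ * (p.2 * p.1⁻¹) * k * p.2⁻¹ := by rw [← heq]; group
      nth_rw 1 [h11]
      group
    rw [h9]
    refine K.mul_mem (K.mul_mem (K.inv_mem hk) hκ) (hKn _ (inv_mem hp1.1) _ (K.mul_mem hk (K.inv_mem hκ)))
  have h9 : p.1 * p.1 = 1 := by
    have h10 := ((mem_invertedBy hS).1 ((hK _).1 h8)).2
    have h11 : t * (p.1 * p.1) * t = p.1 * p.1 := by
      calc t * (p.1 * p.1) * t = (t * p.1) * (p.1 * t) := by group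
        _ = (p.1 * t) * (t * p.1) := by rw [hvt]
        _ = p.1 * (t * t) * p.1 := by group
        _ = _ := by rw [htt, mul_one]
    rw [h11] at h10
    have h12 : (p.1 * p.1) * (p.1 * p.1) = 1 := by
      nth_rw 1 [h10]; rw [inv_mul_cancel]
    exact D_sq hS (mul_mem hp1.1 hp1.1) h12
  have h10 : p.1 = 1 := D_sq hS hp1.1 h9
  rw [hp3, h10, one_mul]
  exact hκ

end K

end Cfsg.Agent.Lib.H26SuzS1

namespace Cfsg.Agent.Lib.H26SuzS1

open Subgroup Cfsg.Agent.Lib.RankOne Cfsg.Agent.Lib.RankOneB Cfsg.Agent.Lib.RankOneC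

universe u v

variable {G : Type u} {Ω : Type v} [Group G] [MulAction G Ω] {a : Ω} {t : G} {Q S K : Subgroup G}

/-- the hypotheses under which `S K ∪ S K t S` is a subgroup -/
structure LData (a : Ω) (t : G) (Q S K : Subgroup G) : Prop where
  hS : Cfsg.IsRankOneSetup G Ω a t Q
  SQ : S ≤ Q
  Sn : ∀ h : G, h • a = a → ∀ y ∈ S, h * y * h⁻¹ ∈ S
  Kinv : ∀ k ∈ K, (k • a = a ∧ k • t • a = t • a) ∧ t * k * t = k⁻¹
  can : ∀ x ∈ S, x ≠ 1 → ∃ g ∈ S, ∃ h ∈ K, ∃ f ∈ S, t * x * t = g * h * t * f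
  sr : ∃ s ∈ S, ∃ r ∈ S, s ≠ 1 ∧ t * s * t = r⁻¹ * t * r
  sqrt : ∀ k ∈ K, ∃ l ∈ K, l * l = k

namespace LData

variable (L : LData a t Q S K)
include L

/-- the group -/
def LL (_ : LData a t Q S K) : Subgroup G := closure ((S : Set G) ∪ K ∪ {t})

theorem SL : S ≤ L.LL := fun _ hx => subset_closure (Or.inl (Or.inl hx))
theorem KL : K ≤ L.LL := fun _ hx => subset_closure (Or.inl (Or.inr hx))
theorem tL : t ∈ L.LL := subset_closure (Or.inr rfl)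

theorem tk {k : G} (hk : k ∈ K) : t * k = k⁻¹ * t := by
  rw [← (L.Kinv k hk).2, mul_assoc, L.hS.mul_self, mul_one]

theorem kt {k : G} (hk : k ∈ K) : k * t = t * k⁻¹ := by
  rw [L.tk (K.inv_mem hk), inv_inv]

theorem Sn' {h : G} (hh : h • a = a) {y : G} (hy : y ∈ S) : h⁻¹ * y * h ∈ S := by
  have := L.Sn h⁻¹ (by rw [inv_smul_eq_iff, hh]) y hy
  rwa [inv_inv] at this

theorem form {l : G} (hl : l ∈ L.LL) :
    (∃ y ∈ S, ∃ k ∈ K, l = y * k) ∨ (∃ y ∈ S, ∃ k ∈ K, ∃ z ∈ S, l = y * k * t * z) := by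
  have htt := L.hS.mul_self
  have hti : t⁻¹ = t := by rw [inv_eq_iff_mul_eq_one]; exact htt
  have htmul : ∀ l : G, ((∃ y ∈ S, ∃ k ∈ K, l = y * k) ∨ (∃ y ∈ S, ∃ k ∈ K, ∃ z ∈ S, l = y * k * t * z)) →
      ((∃ y ∈ S, ∃ k ∈ K, t * l = y * k) ∨ (∃ y ∈ S, ∃ k ∈ K, ∃ z ∈ S, t * l = y * k * t * z)) := by
    rintro l (⟨y, hy, k, hk, rfl⟩ | ⟨y, hy, k, hk, z, hz, rfl⟩)
    · right
      refine ⟨1, S.one_mem, k⁻¹, K.inv_mem hk, k⁻¹ * y * k, L.Sn' (L.Kinv k hk).1.1 hy, ?_⟩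
      calc t * (y * k) = (t * k) * (k⁻¹ * y * k) := by group
        _ = _ := by rw [L.tk hk, one_mul]
    · by_cases hy1 : y = 1
      · left
        refine ⟨k⁻¹ * z * k, L.Sn' (L.Kinv k hk).1.1 hz, k⁻¹, K.inv_mem hk, ?_⟩
        rw [hy1]
        calc t * (1 * k * t * z) = (t * k * t) * z := by group
          _ = _ := by rw [(L.Kinv k hk).2]; group
      · right
        obtain ⟨g, hg, h, hh, f, hf, e⟩ := L.can y hy hy1
        refine ⟨g, hg, h * k, K.mul_mem hh hk, k * f * k⁻¹ * z, S.mul_mem (L.Sn k (L.Kinv k hk).1.1 f hf) hz, ?_⟩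
        calc t * (y * k * t * z) = t * y * (k * t) * z := by group
          _ = (t * y * t) * k⁻¹ * z := by rw [L.kt hk]; group
          _ = g * h * (t * k⁻¹) * (k * f * k⁻¹) * z := by rw [e]; group
          _ = _ := by rw [← L.kt hk]; group
  have hleft : ∀ x ∈ ((S : Set G) ∪ K ∪ {t}), ∀ l : G, ((∃ y ∈ S, ∃ k ∈ K, l = y * k) ∨ (∃ y ∈ S, ∃ k ∈ K, ∃ z ∈ S, l = y * k * t * z)) →
      ((∃ y ∈ S, ∃ k ∈ K, x * l = y * k) ∨ (∃ y ∈ S, ∃ k ∈ K, ∃ z ∈ S, x * l = y * k * t * z)) := by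
    rintro x ((hx | hx) | hx) l hl
    · rcases hl with ⟨y, hy, k, hk, rfl⟩ | ⟨y, hy, k, hk, z, hz, rfl⟩
      · left; exact ⟨x * y, S.mul_mem hx hy, k, hk, by group⟩
      · right; exact ⟨x * y, S.mul_mem hx hy, k, hk, z, hz, by group⟩
    · have hxa := (L.Kinv x hx).1.1
      rcases hl with ⟨y, hy, k, hk, rfl⟩ | ⟨y, hy, k, hk, z, hz, rfl⟩
      · left; exact ⟨x * y * x⁻¹, L.Sn x hxa y hy, x * k, K.mul_mem hx hk, by group⟩
      · right; exact ⟨x * y * x⁻¹, L.Sn x hxa y hy, x * k, K.mul_mem hx hk, z, hz, by group⟩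
    · rw [Set.mem_singleton_iff] at hx
      rw [hx]; exact htmul l hl
  refine closure_induction_left (p := fun l _ => (∃ y ∈ S, ∃ k ∈ K, l = y * k) ∨ (∃ y ∈ S, ∃ k ∈ K, ∃ z ∈ S, l = y * k * t * z))
    (Or.inl ⟨1, S.one_mem, 1, K.one_mem, by group⟩) (fun x hx y _ hy => hleft x hx y hy) ?_ hl
  intro x hx y _ hy
  refine hleft x⁻¹ ?_ y hy
  rcases hx with (hx | hx) | hx
  · exact Or.inl (Or.inl (S.inv_mem hx))
  · exact Or.inl (Or.inr (K.inv_mem hx))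
  · rw [Set.mem_singleton_iff] at hx
    right; rw [hx, hti]; rfl

theorem big_move {y k z : G} (hy : y ∈ S) (hk : k ∈ K) (hz : z ∈ S) : (y * k * t * z) • a ≠ a := by
  intro h
  have h1 : (y * k) • t • a = a := by
    rw [mul_smul, Q_fix L.hS (L.SQ hz), mul_smul] at h
    exact h
  rw [mul_smul, (L.Kinv k hk).1.2] at h1
  have h2 : y • t • a = y • a := by rw [h1, Q_fix L.hS (L.SQ hy)]
  exact ta_ne L.hS (MulAction.injective y h2)

/-- The constructor for the block structure. -/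
theorem toBlk (hK1 : ∃ k ∈ K, k ≠ 1) (hfpf : ∀ k ∈ K, k ≠ 1 → ∀ x ∈ Q, x⁻¹ * (k * x * k⁻¹) ∈ S → x ∈ S) :
    SUZBlk.Blk a t Q S K L.LL where
  hS := L.hS
  SQ := L.SQ
  Sn := L.Sn
  KD := fun k hk => (L.Kinv k hk).1
  K1 := hK1
  Kfpf := hfpf
  SL := L.SL
  KL := L.KL
  tL := L.tL
  cov := by
    intro l hl hla
    rcases L.form hl with ⟨y, hy, k, hk, rfl⟩ | ⟨y, hy, k, hk, z, hz, rfl⟩
    · exact ⟨y, hy, k, hk, rfl⟩
    · exact absurd hla (L.big_move hy hk hz)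
  dec := by
    intro l hl hla
    rcases L.form hl with ⟨y, hy, k, hk, rfl⟩ | ⟨y, hy, k, hk, z, hz, rfl⟩
    · exfalso; apply hla
      rw [mul_smul, (L.Kinv k hk).1.1, Q_fix L.hS (L.SQ hy)]
    · obtain ⟨s, hs, r, hr, hs1, hst⟩ := L.sr
      obtain ⟨c, hc, hcc⟩ := L.sqrt k hk
      have h1 := conj_can L.hS.mul_self hst (L.Kinv c hc).2
      rw [hcc] at h1
      have hr' := L.Sn c (L.Kinv c hc).1.1 r hr
      refine ⟨y * (c * r * c⁻¹), S.mul_mem hy hr', c⁻¹ * s * c, L.Sn' (L.Kinv c hc).1.1 hs, (c * r * c⁻¹)⁻¹ * z,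
        S.mul_mem (S.inv_mem hr') hz, ?_, ?_⟩
      · intro h
        apply hs1
        have : s = c * (c⁻¹ * s * c) * c⁻¹ := by group
        rw [this, h]; group
      · rw [h1]; group
  inv := by
    intro y hy hy1
    obtain ⟨g, hg, h, hh, f, hf, e⟩ := L.can y hy hy1
    refine ⟨g, hg, ?_⟩
    have : t • y • t • a = (t * y * t) • a := by rw [mul_smul, mul_smul]
    rw [this, e, mul_smul, Q_fix L.hS (L.SQ hf), mul_smul, mul_smul, (L.Kinv h hh).1.2]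

theorem card_LL [Finite G] : Nat.card L.LL = Nat.card S * Nat.card K * (Nat.card S + 1) := by
  have h1 : Nat.card S * Nat.card K * (Nat.card S + 1) = Nat.card (S × K × Option S) := by
    rw [Nat.card_prod, Nat.card_prod, Finite.card_option, mul_assoc]
  rw [h1]
  symm
  have hK : ∀ k ∈ K, k ∈ stabilizer G a ⊓ stabilizer G (t • a) := fun k hk => (L.Kinv k hk).1
  refine Nat.card_congr (Equiv.ofBijective (fun p : S × K × Option S => (match p with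
    | (y, k, none) => ⟨y * k, L.LL.mul_mem (L.SL y.2) (L.KL k.2)⟩
    | (y, k, some z) => ⟨y * k * t * z, L.LL.mul_mem (L.LL.mul_mem (L.LL.mul_mem (L.SL y.2) (L.KL k.2)) L.tL) (L.SL z.2)⟩ :
      L.LL)) ⟨?_, ?_⟩)
  · rintro ⟨y, k, _ | z⟩ ⟨y', k', _ | z'⟩ h
    · have h2 : (y : G) * k = y' * k' := congrArg Subtype.val h
      have h3 : (y : G) * k * t * 1 = y' * k' * t * 1 := by rw [h2]
      obtain ⟨h4, h5, -⟩ := can_unique L.hS (L.SQ y.2) (L.SQ y'.2) (hK _ k.2) (hK _ k'.2) Q.one_mem Q.one_mem h3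
      rw [Subtype.ext h4, Subtype.ext h5]
    · exfalso
      have h2 : (y : G) * k = y' * k' * t * z' := congrArg Subtype.val h
      apply L.big_move y'.2 k'.2 z'.2
      rw [← h2, mul_smul, (L.Kinv k k.2).1.1, Q_fix L.hS (L.SQ y.2)]
    · exfalso
      have h2 : (y : G) * k * t * z = y' * k' := congrArg Subtype.val h
      apply L.big_move y.2 k.2 z.2
      rw [h2, mul_smul, (L.Kinv k' k'.2).1.1, Q_fix L.hS (L.SQ y'.2)]
    · have h2 : (y : G) * k * t * z = y' * k' * t * z' := congrArg Subtype.val h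
      obtain ⟨h4, h5, h6⟩ := can_unique L.hS (L.SQ y.2) (L.SQ y'.2) (hK _ k.2) (hK _ k'.2) (L.SQ z.2) (L.SQ z'.2) h2
      rw [Subtype.ext h4, Subtype.ext h5, Subtype.ext h6]
  · rintro ⟨l, hl⟩
    rcases L.form hl with ⟨y, hy, k, hk, rfl⟩ | ⟨y, hy, k, hk, z, hz, rfl⟩
    · exact ⟨(⟨y, hy⟩, ⟨k, hk⟩, none), rfl⟩
    · exact ⟨(⟨y, hy⟩, ⟨k, hk⟩, some ⟨z, hz⟩), rfl⟩

end LData

end Cfsg.Agent.Lib.H26SuzS1
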