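import Cfsg.Agent.Lib.HigmanCor

/-!
# Suzuki 2-groups (helper6): the order is `q ^ 2` or `q ^ 3`
-/

set_option autoImplicit false
set_option linter.all false

namespace Cfsg.Agent.Lib.HigmanBase

open Cfsg HigmanLin
open scoped commutatorElement

universe u v

theorem pow_lemma {a n i c : ℕ} (hn : 2 ≤ n) (he : 2 ^ a + (2 ^ n - 1) * 2 ^ i = 2 ^ c) :
    i = a ∧ c = a + n := by
  have h4 : 4 ≤ 2 ^ n := by
    calc 4 = 2 ^ 2 := by norm_num
      _ ≤ 2 ^ n := Nat.pow_le_pow_right (by norm_num) hn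
  obtain ⟨n', rfl⟩ : ∃ n', n = n' + 1 := ⟨n - 1, by omega⟩
  rcases lt_trichotomy i a with hlt | heq | hgt
  · exfalso
    obtain ⟨d, rfl⟩ := Nat.exists_eq_add_of_lt hlt
    have hic : i < c := by
      by_contra hcon
      have h1 : 2 ^ c ≤ 2 ^ i := Nat.pow_le_pow_right (by norm_num) (by omega)
      have h2 : 2 ^ i * 3 ≤ (2 ^ (n' + 1) - 1) * 2 ^ i := by
        rw [mul_comm]; exact Nat.mul_le_mul_right _ (by omega)
      have h3 : 0 < 2 ^ i := by positivity
      have h5 : 0 < 2 ^ (i + d + 1) := by positivity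
      omega
    obtain ⟨e, rfl⟩ := Nat.exists_eq_add_of_lt hic
    have h1 : 2 ^ i * (2 ^ (d + 1) + (2 ^ (n' + 1) - 1)) = 2 ^ i * 2 ^ (e + 1) := by
      rw [mul_add, ← pow_add, ← pow_add, mul_comm (2 ^ i) (2 ^ (n' + 1) - 1), ← add_assoc,
        ← add_assoc]
      exact he
    have h2 := Nat.eq_of_mul_eq_mul_left (by positivity) h1
    rw [pow_succ, pow_succ, pow_succ] at h2
    rw [pow_succ] at h4
    omega
  · subst heq
    refine ⟨rfl, ?_⟩
    have h1 : 2 ^ (i + (n' + 1)) = 2 ^ c := by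
      rw [← he, pow_add]
      have h0 : 0 < 2 ^ (n' + 1) := by positivity
      obtain ⟨t, ht⟩ : ∃ t, 2 ^ (n' + 1) = t + 1 := ⟨2 ^ (n' + 1) - 1, by omega⟩
      rw [ht, Nat.add_sub_cancel]; ring
    exact (Nat.pow_right_injective (le_refl 2) h1).symm
  · exfalso
    obtain ⟨d, rfl⟩ := Nat.exists_eq_add_of_lt hgt
    have hac : a < c := by
      by_contra hcon
      have h1 : 2 ^ c ≤ 2 ^ a := Nat.pow_le_pow_right (by norm_num) (by omega)
      have h5 : 0 < (2 ^ (n' + 1) - 1) * 2 ^ (a + d + 1) := Nat.mul_pos (by omega) (by positivity)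
      omega
    obtain ⟨e, rfl⟩ := Nat.exists_eq_add_of_lt hac
    have h1 : 2 ^ a * (1 + (2 ^ (n' + 1) - 1) * 2 ^ (d + 1)) = 2 ^ a * 2 ^ (e + 1) := by
      rw [← pow_add, ← add_assoc, ← he, mul_add, mul_one]
      congr 1
      rw [mul_left_comm, ← pow_add, ← add_assoc]
    have h2 := Nat.eq_of_mul_eq_mul_left (by positivity) h1
    rw [pow_succ 2 d, pow_succ 2 e] at h2
    have h3 : (2 ^ (n' + 1) - 1) * (2 ^ d * 2) = ((2 ^ (n' + 1) - 1) * 2 ^ d) * 2 := by ring
    rw [h3] at h2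
    omega

variable {P : Type u} [Group P] [Finite P] {K : Type v} [CommGroup K]

theorem exists_psi (F : Type*) [Field F] [CharP F 2] : ∃ ψ : F →+ ZMod 2, ψ 1 ≠ 0 := by
  letI : Algebra (ZMod 2) F := ZMod.algebra F 2
  by_contra hcon
  push Not at hcon
  have : ∀ f : Module.Dual (ZMod 2) F, f 1 = 0 := fun f => hcon f.toAddMonoidHom
  rw [Module.forall_dual_apply_eq_zero_iff] at this
  exact one_ne_zero this

namespace Hyp

variable {φ : K →* MulAut P} (h : Hyp φ) (hna : ∃ x y : P, x * y ≠ y * x)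

include h in
theorem card_F {F : Type u} [Field F] [CharP F 2] [Finite F] {ι : P → F} {χ : K → F}
    (f : Fld φ ι χ) : ∃ n, 2 ≤ n ∧ Nat.card F = 2 ^ n := by
  have hcZ := f.card_Z h
  obtain ⟨n, hn⟩ := IsPGroup.iff_card.1 (h.isP.to_subgroup h.Z)
  rw [hn] at hcZ
  refine ⟨n, ?_, hcZ.symm⟩
  by_contra hlt
  obtain ⟨a, ha0, ha1⟩ := f.exists_ne h
  have h1 : Nat.card F ≤ 2 := by
    rw [← hcZ]
    calc 2 ^ n ≤ 2 ^ 1 := Nat.pow_le_pow_right (by norm_num) (by omega)
      _ = 2 := by norm_num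
  classical
  haveI : Fintype F := Fintype.ofFinite F
  rw [Nat.card_eq_fintype_card] at h1
  have h2 : ({0, 1, a} : Finset F).card ≤ Fintype.card F := Finset.card_le_univ _
  have h3 : ({0, 1, a} : Finset F).card = 3 := by
    rw [Finset.card_eq_three]
    exact ⟨0, 1, a, zero_ne_one, Ne.symm ha0, Ne.symm ha1, rfl⟩
  omega

include h hna

theorem card_eq {F : Type u} [Field F] [CharP F 2] [Finite F] {ι : P → F} {χ : K → F}
    (f : Fld φ ι χ) : Nat.card P = Nat.card F ^ 2 ∨ Nat.card P = Nat.card F ^ 3 := by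
  classical
  haveI : Fintype F := Fintype.ofFinite F
  haveI : Fintype P := Fintype.ofFinite P
  obtain ⟨ψ, hψ⟩ := exists_psi F
  obtain ⟨n, hn2, hn⟩ := h.card_F f
  obtain ⟨M, hM⟩ := IsPGroup.iff_card.1 h.isP
  set S := ∑ x : P, sg (ψ (ι (x * x))) with hS
  have hSk : ∀ κ : F, κ ≠ 0 → ∑ x : P, sg (ψ (κ * ι (x * x))) = S := by
    intro κ hκ
    obtain ⟨k, rfl⟩ := f.χ_surj κ hκ
    rw [hS, ← Equiv.sum_comp (φ k).toEquiv (fun x => sg (ψ (ι (x * x))))]
    refine Finset.sum_congr rfl fun x _ => ?_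
    rw [← f.act k _ (h.sq_mem hna x), map_mul]; rfl
  have hS0 : ∑ x : P, sg (ψ ((0 : F) * ι (x * x))) = Fintype.card P := by
    simp [sg_zero]
  have htot : ∑ κ : F, ∑ x : P, sg (ψ (κ * ι (x * x))) =
      (Fintype.card P : ℤ) + (Fintype.card F - 1) * S := by
    rw [← Finset.add_sum_erase Finset.univ _ (Finset.mem_univ (0 : F)), hS0]
    congr 1
    rw [Finset.sum_congr rfl (fun κ hκ => hSk κ (Finset.ne_of_mem_erase hκ)), Finset.sum_const,
      Finset.card_erase_of_mem (Finset.mem_univ _), Finset.card_univ, nsmul_eq_mul]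
    congr 1
    have : 1 ≤ Fintype.card F := Fintype.card_pos
    push_cast [Nat.cast_sub this]
    rfl
  have hinner : ∀ c : F, c ≠ 0 → ∑ κ : F, sg (ψ (κ * c)) = 0 := by
    intro c hc
    have h1 := sum_sg (Q := Multiplicative F) (fun κ => ψ (κ.toAdd * c)) (by
      intro a b
      rw [toAdd_mul, add_mul, map_add])
    rcases h1 with h1 | h1
    · rw [← h1]
      exact (Equiv.sum_comp (Multiplicative.toAdd (α := F)) (fun κ => sg (ψ (κ * c)))).symm
    · exfalso
      have h2 : ∑ x : Multiplicative F, sg (ψ (x.toAdd * c)) < ∑ x : Multiplicative F, (1 : ℤ) := by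
        apply Finset.sum_lt_sum
        · intro i _
          unfold sg; split_ifs <;> norm_num
        · refine ⟨Multiplicative.ofAdd c⁻¹, Finset.mem_univ _, ?_⟩
          rw [toAdd_ofAdd, inv_mul_cancel₀ hc, sg, if_neg hψ]; norm_num
      rw [h1] at h2
      simp at h2
  have htot2 : ∑ κ : F, ∑ x : P, sg (ψ (κ * ι (x * x))) = (Fintype.card F : ℤ) * Fintype.card F := by
    rw [Finset.sum_comm]
    have h1 : ∀ x : P, ∑ κ : F, sg (ψ (κ * ι (x * x))) =
        if x ∈ h.Z then (Fintype.card F : ℤ) else 0 := by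
      intro x
      by_cases hx : x ∈ h.Z
      · rw [if_pos hx, h.mem_Z.1 hx, f.map_one]
        simp [sg_zero]
      · rw [if_neg hx]
        apply hinner
        intro h0
        exact hx (f.inj _ (h.sq_mem hna x) h0)
    simp_rw [h1]
    rw [← Finset.sum_filter, Finset.sum_const, nsmul_eq_mul]
    congr 1
    have h2 := f.card_Z h
    rw [Nat.card_eq_fintype_card (α := F)] at h2
    rw [← h2, Nat.card_eq_fintype_card, Fintype.card_subtype]
  rw [htot] at htot2
  have hcF : (Fintype.card F : ℤ) = 2 ^ n := by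
    rw [← Nat.card_eq_fintype_card, hn]; push_cast; rfl
  have hcP : (Fintype.card P : ℤ) = 2 ^ M := by
    rw [← Nat.card_eq_fintype_card, hM]; push_cast; rfl
  rw [hcF, hcP] at htot2
  rw [hM, hn]
  have hpos : (1 : ℕ) ≤ 2 ^ n := Nat.one_le_two_pow
  rcases h.sum_sq hna f ψ with h0 | ⟨j, hj⟩
  · left
    change S = 0 at h0
    rw [h0, mul_zero, add_zero] at htot2
    have : (2 : ℕ) ^ M = 2 ^ n * 2 ^ n := by exact_mod_cast htot2
    rw [this, pow_two]
  · change S ^ 2 = 2 ^ j at hj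
    have h1 : S.natAbs ^ 2 = 2 ^ j := by
      have := congrArg Int.natAbs hj
      rw [Int.natAbs_pow, Int.natAbs_pow] at this
      exact this
    obtain ⟨i, -, hi⟩ := (Nat.dvd_prime_pow Nat.prime_two).1
      (show S.natAbs ∣ 2 ^ j from by rw [← h1]; exact dvd_pow_self _ two_ne_zero)
    rcases Int.natAbs_eq S with hs | hs
    · exfalso
      rw [hs, hi] at htot2
      have e : 2 ^ M + (2 ^ n - 1) * 2 ^ i = 2 ^ (2 * n) := by
        have e1 : ((2 ^ M + (2 ^ n - 1) * 2 ^ i : ℕ) : ℤ) = ((2 ^ (2 * n) : ℕ) : ℤ) := by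
          push_cast [Nat.cast_sub hpos]
          rw [two_mul, pow_add]
          push_cast at htot2
          exact htot2
        exact_mod_cast e1
      obtain ⟨-, h3⟩ := pow_lemma hn2 e
      have h4 : M = n := by omega
      have h5 : h.Z = ⊤ := by
        apply Subgroup.eq_top_of_card_eq
        rw [f.card_Z h, hM, hn, h4]
      obtain ⟨x, y, hxy⟩ := hna
      have hx : x ∈ h.Z := by rw [h5]; trivial
      exact hxy (h.central hx y)
    · right
      rw [hs, hi] at htot2
      have e : 2 ^ (2 * n) + (2 ^ n - 1) * 2 ^ i = 2 ^ M := by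
        have e1 : ((2 ^ (2 * n) + (2 ^ n - 1) * 2 ^ i : ℕ) : ℤ) = ((2 ^ M : ℕ) : ℤ) := by
          push_cast [Nat.cast_sub hpos]
          rw [two_mul, pow_add]
          push_cast at htot2
          linear_combination -htot2
        exact_mod_cast e1
      obtain ⟨-, h3⟩ := pow_lemma hn2 e
      rw [h3, ← pow_mul]
      congr 1
      omega

theorem exponent : Monoid.exponent P = 4 := by
  have h4 : Monoid.exponent P ∣ 4 := by
    rw [Monoid.exponent_dvd_iff_forall_pow_eq_one]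
    intro x
    have h1 : x * x * (x * x) = 1 := h.sq_mem hna x
    calc x ^ 4 = x * x * (x * x) := by rw [show 4 = 2 + 2 from rfl, pow_add, pow_two]
      _ = 1 := h1
  have h2 : ¬ Monoid.exponent P ∣ 2 := by
    intro hd
    rw [Monoid.exponent_dvd_iff_forall_pow_eq_one] at hd
    obtain ⟨x, y, hxy⟩ := hna
    have hx : x * x = 1 := by rw [← pow_two]; exact hd x
    exact hxy (h.central hx y)
  obtain ⟨k, hk, hk2⟩ := (Nat.dvd_prime_pow Nat.prime_two).1 (show Monoid.exponent P ∣ 2 ^ 2 from h4)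
  interval_cases k
  · rw [hk2] at h2; exact absurd (by norm_num) h2
  · rw [hk2] at h2; exact absurd (by norm_num) h2
  · rw [hk2]; rfl

end Hyp

end Cfsg.Agent.Lib.HigmanBase
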