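import Cfsg.Agent.Lib.H26SuzS1
import Cfsg.Agent.Lib.H26SuzPP
import Cfsg.Agent.S1137
import Cfsg.Agent.S1138

/-!
# The rank one set-up: coprime action tools and the Sylow 2-subgroup of `Q`
-/

set_option autoImplicit false
open MulAction

namespace Cfsg.Agent.Lib.H26SuzT

open Subgroup Cfsg.Agent.Lib.RankOne Cfsg.Agent.Lib.RankOneB Cfsg.Agent.Lib.RankOneC Cfsg.Agent.Lib.H26SuzKD

universe u v

section tools

variable {G : Type u} [Group G] [Finite G]

theorem two_el_eq_one {e : G} {n m : ℕ} (h1 : e ^ 2 ^ n = 1) (hm : Odd m) (h2 : e ^ m = 1) : e = 1 := by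
  have h3 := orderOf_dvd_of_pow_eq_one h1
  have h4 := orderOf_dvd_of_pow_eq_one h2
  have h5 : Nat.Coprime (2 ^ n) m := Nat.Coprime.pow_left _ (Nat.coprime_two_left.2 hm)
  exact orderOf_eq_one_iff.1 (Nat.eq_one_of_dvd_coprimes h5 h3 h4)

/-- coprime action, elementary form -/
theorem coprime_step {w x e : G} (hw : Odd (orderOf w)) (he : w * e = e * w) {n : ℕ} (hen : e ^ 2 ^ n = 1)
    (h : w * x * w⁻¹ = x * e) : e = 1 := by
  have h1 : ∀ m : ℕ, w ^ m * x * (w ^ m)⁻¹ = x * e ^ m := by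
    intro m
    induction m with
    | zero => simp
    | succ m ih =>
      have h3 : w * e ^ m = e ^ m * w := (show Commute w e from he).pow_right m
      calc w ^ (m + 1) * x * (w ^ (m + 1))⁻¹ = w * (w ^ m * x * (w ^ m)⁻¹) * w⁻¹ := by rw [pow_succ']; group
        _ = w * (x * e ^ m) * w⁻¹ := by rw [ih]
        _ = (w * x * w⁻¹) * (w * e ^ m) * w⁻¹ := by group
        _ = (x * e) * (e ^ m * w) * w⁻¹ := by rw [h, h3]
        _ = _ := by rw [pow_succ']; group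
  have h2 := h1 (orderOf w)
  rw [pow_orderOf_eq_one] at h2
  have h3 : e ^ orderOf w = 1 := by
    have h4 : x * e ^ orderOf w = x * 1 := by rw [← h2]; group
    exact mul_left_cancel h4
  exact two_el_eq_one hen hw h3

/-- an element of odd order which is trivial on `Ω₁` of an abelian 2-group is trivial on it. -/
theorem fix_of_omega {S : Subgroup G} (hcomm : ∀ x ∈ S, ∀ y ∈ S, x * y = y * x) (hp : ∀ x ∈ S, ∃ n : ℕ, x ^ 2 ^ n = 1) {w : G}
    (hw : Odd (orderOf w)) (hn : ∀ x ∈ S, w * x * w⁻¹ ∈ S) (h1 : ∀ x ∈ S, x * x = 1 → w * x = x * w) :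
    ∀ x ∈ S, w * x = x * w := by
  have key : ∀ n : ℕ, ∀ x ∈ S, x ^ 2 ^ n = 1 → w * x = x * w := by
    intro n
    induction n with
    | zero => intro x _ h; rw [pow_zero, pow_one] at h; rw [h]; group
    | succ n ih =>
      intro x hx hxn
      have h2 : w * (x * x) = (x * x) * w := ih (x * x) (S.mul_mem hx hx) (by
        rw [← pow_two, ← pow_mul, ← pow_succ']; exact hxn)
      set e := x⁻¹ * (w * x * w⁻¹) with he
      have heS : e ∈ S := S.mul_mem (S.inv_mem hx) (hn x hx)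
      have hee : e * e = 1 := by
        have h3 := hcomm _ (S.inv_mem hx) _ (hn x hx)
        calc e * e = x⁻¹ * ((w * x * w⁻¹) * x⁻¹) * (w * x * w⁻¹) := by rw [he]; group
          _ = x⁻¹ * (x⁻¹ * (w * x * w⁻¹)) * (w * x * w⁻¹) := by rw [h3]
          _ = (x * x)⁻¹ * (w * (x * x)) * w⁻¹ := by group
          _ = 1 := by rw [h2]; group
      have h4 := coprime_step hw (h1 e heS hee) (n := 1) (x := x) (e := e) (by rw [pow_one, pow_two, hee]) (by rw [he]; group)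
      rw [he, inv_mul_eq_one] at h4
      nth_rw 2 [h4]; group
  intro x hx
  obtain ⟨n, hn⟩ := hp x hx
  exact key n x hx hn

/-- a fixed point free element is fixed point free on quotients -/
theorem fpf_quot {M : Subgroup G} {k : G} (hk : ∀ x ∈ M, k * x * k⁻¹ ∈ M) (hf : ∀ x ∈ M, k * x = x * k → x = 1) {Q : Subgroup G}
    (hMQ : M ≤ Q) (hfQ : ∀ x ∈ Q, k * x = x * k → x = 1) {x : G} (hx : x ∈ Q) (h : x⁻¹ * (k * x * k⁻¹) ∈ M) : x ∈ M := by
  let F : M → M := fun f => f * ⟨k * (f : G)⁻¹ * k⁻¹, hk _ (M.inv_mem f.2)⟩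
  have hinj : Function.Injective F := by
    intro y₁ y₂ h
    have h1 : (y₁ : G) * (k * (y₁ : G)⁻¹ * k⁻¹) = y₂ * (k * (y₂ : G)⁻¹ * k⁻¹) := congrArg Subtype.val h
    have h3 : k * ((y₂ : G)⁻¹ * y₁) = ((y₂ : G)⁻¹ * y₁) * k := by
      have h4 : (y₂ : G)⁻¹ * y₁ = (k * (y₂ : G)⁻¹ * k⁻¹) * (k * y₁ * k⁻¹) := by
        have e2 : (y₂ : G)⁻¹ * (y₁ * (k * (y₁ : G)⁻¹ * k⁻¹)) = (k * (y₂ : G)⁻¹ * k⁻¹) := by rw [h1]; group
        rw [← e2]; group
      nth_rw 2 [h4]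
      group
    have h5 := hf _ (M.mul_mem (M.inv_mem y₂.2) y₁.2) h3
    exact (Subtype.ext (inv_mul_eq_one.1 h5)).symm
  obtain ⟨f, hf'⟩ := Finite.surjective_of_injective hinj ⟨_, h⟩
  have h1 : (f : G) * (k * (f : G)⁻¹ * k⁻¹) = x⁻¹ * (k * x * k⁻¹) := congrArg Subtype.val hf'
  have h2 : k * (x * f) = (x * f) * k := by
    have h3 : k * x * k⁻¹ = x * (f * (k * (f : G)⁻¹ * k⁻¹)) := by rw [h1]; group
    calc k * (x * f) = (k * x * k⁻¹) * (k * f) := by group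
      _ = x * (f * (k * (f : G)⁻¹ * k⁻¹)) * (k * f) := by rw [h3]
      _ = _ := by group
  have h3 := hfQ _ (Q.mul_mem hx (hMQ f.2)) h2
  have h4 : x = (f : G)⁻¹ := eq_inv_of_mul_eq_one_left h3
  rw [h4]; exact M.inv_mem f.2

end tools

variable {G : Type u} {Ω : Type v} [Group G] [Finite G] [MulAction G Ω] [FaithfulSMul G Ω] {a : Ω} {t : G} {Q : Subgroup G}
  (hS : Cfsg.IsRankOneSetup G Ω a t Q)
  (h2 : ∃ x y : G, x ≠ 1 ∧ y ≠ 1 ∧ x ≠ y ∧ x * x = 1 ∧ y * y = 1 ∧ x * y = y * x)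

include hS h2

/-- the Sylow 2-subgroup of `Q` -/
theorem exists_S : ∃ S : Subgroup G, (∀ x, x ∈ S ↔ x ∈ Q ∧ ∃ n : ℕ, x ^ 2 ^ n = 1) ∧
    (∃ m, Odd m ∧ Nat.card Q = Nat.card S * m) ∧
    ((∀ x ∈ S, ∀ y ∈ S, x * y = y * x) ∨
      ((∀ z ∈ S, (∀ x ∈ S, z * x = x * z) → z * z = 1) ∧ (∀ x ∈ S, x * x ∈ EE hS h2) ∧
        (∀ x ∈ S, ∀ y ∈ S, x⁻¹ * y⁻¹ * x * y ∈ EE hS h2) ∧
        (Nat.card S = H26SuzPP.qq Q ^ 2 ∨ Nat.card S = H26SuzPP.qq Q ^ 3))) := by
  classical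
  have : Fact (Nat.Prime 2) := ⟨Nat.prime_two⟩
  obtain ⟨S⟩ : Nonempty (Sylow 2 Q) := inferInstance
  have hnil := Q_nilpotent hS h2
  have hSn : (S : Subgroup Q).Normal := by
    have h1 := (Group.isNilpotent_of_finite_tfae (G := Q)).out 0 3
    exact h1.1 hnil 2 inferInstance S
  have hmem : ∀ x : Q, x ∈ (S : Subgroup Q) ↔ ∃ n : ℕ, x ^ 2 ^ n = 1 := by
    intro x
    constructor
    · intro hx
      obtain ⟨n, hn⟩ := S.isPGroup' ⟨x, hx⟩
      exact ⟨n, congrArg Subtype.val hn⟩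
    · intro h
      refine KleinFuse.mem_sylow_of_normalizer S ?_ h
      rw [Subgroup.normalizer_eq_top_iff.2 hSn]
      exact mem_top _
  have hcard : Nat.card ((S : Subgroup Q).map Q.subtype) = Nat.card (S : Subgroup Q) :=
    (Nat.card_congr ((S : Subgroup Q).equivMapOfInjective Q.subtype Q.subtype_injective).toEquiv).symm
  have hE : ∀ x : Q, x * x = 1 → (x : G) ∈ EE hS h2 := by
    intro x hx
    by_cases h1 : (x : G) = 1
    · exact Or.inl h1
    · exact Or.inr ⟨hS.le x.2, h1, congrArg Subtype.val hx⟩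
  refine ⟨(S : Subgroup Q).map Q.subtype, ?_, ?_, ?_⟩
  · intro x
    rw [Subgroup.mem_map]
    constructor
    · rintro ⟨y, hy, rfl⟩
      obtain ⟨n, hn⟩ := (hmem y).1 hy
      exact ⟨y.2, n, congrArg Subtype.val hn⟩
    · rintro ⟨hx, n, hn⟩
      exact ⟨⟨x, hx⟩, (hmem _).2 ⟨n, Subtype.ext hn⟩, rfl⟩
  · rw [hcard]
    refine ⟨(S : Subgroup Q).index, ?_, ((S : Subgroup Q).card_mul_index).symm⟩
    exact Nat.not_even_iff_odd.1 fun h => S.not_dvd_index (even_iff_two_dvd.1 h)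
  · rcases sylow_Q hS h2 S with hc | hc
    · left
      rintro _ ⟨x, hx, rfl⟩ _ ⟨y, hy, rfl⟩
      have h1 : (⟨x, hx⟩ : (S : Subgroup Q)) * ⟨y, hy⟩ = ⟨y, hy⟩ * ⟨x, hx⟩ := hc.is_comm.comm _ _
      have h3 := congrArg (fun z : (S : Subgroup Q) => ((z : Q) : G)) h1
      exact h3
    · right
      obtain ⟨h3, h4⟩ := Cfsg.Agent.S1137.result hc
      obtain ⟨h5, h6, h7, -⟩ := Cfsg.Agent.S1138.result hc
      have hz : ∀ z : (S : Subgroup Q), z ∈ center (S : Subgroup Q) → ((z : Q) : G) ∈ EE hS h2 := by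
        intro z hz
        exact hE z (congrArg Subtype.val (h4 z hz))
      have hcen : Nat.card (center (S : Subgroup Q)) = H26SuzPP.qq Q := by
        refine Nat.card_congr (Equiv.ofBijective (fun z => (⟨(z : (S : Subgroup Q)), congrArg Subtype.val (h4 z z.2)⟩ :
          {x : Q // x * x = 1})) ⟨?_, ?_⟩)
        · intro x y hxy
          exact Subtype.ext (Subtype.ext (congrArg (fun z : {x : Q // x * x = 1} => (z : Q)) hxy))
        · rintro ⟨x, hx⟩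
          have hxS : x ∈ (S : Subgroup Q) := (hmem x).2 ⟨1, by rw [pow_one, pow_two]; exact hx⟩
          by_cases hx1 : x = 1
          · exact ⟨1, Subtype.ext hx1.symm⟩
          · have := (h3 ⟨x, hxS⟩).1 ⟨fun h => hx1 (congrArg Subtype.val h), Subtype.ext hx⟩
            exact ⟨⟨⟨x, hxS⟩, this.1⟩, rfl⟩
      refine ⟨?_, ?_, ?_, ?_⟩
      · rintro _ ⟨z, hz, rfl⟩ h
        have : (⟨z, hz⟩ : (S : Subgroup Q)) ∈ center (S : Subgroup Q) := by
          rw [mem_center_iff]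
          intro x
          exact Subtype.ext (Subtype.ext (h _ ⟨x, x.2, rfl⟩).symm)
        exact congrArg (fun z : (S : Subgroup Q) => ((z : Q) : G)) (h4 _ this)
      · rintro _ ⟨x, hx, rfl⟩
        exact hz _ (h5 ⟨x, hx⟩)
      · rintro _ ⟨x, hx, rfl⟩ _ ⟨y, hy, rfl⟩
        exact hz _ (h6 ⟨x, hx⟩ ⟨y, hy⟩)
      · rw [hcard, ← hcen]; exact h7

end Cfsg.Agent.Lib.H26SuzT
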