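import Cfsg.Agent.Lib.H26SuzKD
import Cfsg.Agent.Lib.H26FieldPow
import Mathlib.GroupTheory.Nilpotent
import Cfsg.Agent.Lib.KleinFuse

/-!
# The rank one set-up: Sylow 2-subgroups of `Q`, and `V / W` is cyclic
-/

set_option autoImplicit false
open MulAction

namespace Cfsg.Agent.Lib.H26SuzKD

open Subgroup Cfsg.Agent.Lib.RankOne Cfsg.Agent.Lib.RankOneB Cfsg.Agent.Lib.RankOneC

universe u v

variable {G : Type u} {Ω : Type v} [Group G] [Finite G] [MulAction G Ω] [FaithfulSMul G Ω] {a : Ω} {t : G} {Q : Subgroup G}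
  (hS : Cfsg.IsRankOneSetup G Ω a t Q)
  (h2 : ∃ x y : G, x ≠ 1 ∧ y ≠ 1 ∧ x ≠ y ∧ x * x = 1 ∧ y * y = 1 ∧ x * y = y * x)

include hS h2

/-- The action of `D` on `E`, additively. -/
noncomputable def rhoAdd : letI := EEcomm hS h2; DD G a t →* AddMonoid.End (Additive (EE hS h2)) :=
  letI := EEcomm hS h2
  { toFun := fun d => MonoidHom.toAdditive (rho hS h2 d).toMonoidHom
    map_one' := by
      ext x
      show ((rho hS h2 1 (Additive.toMul x) : EE hS h2) : G) = _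
      rw [map_one]; rfl
    map_mul' := fun x y => by
      ext z
      show ((rho hS h2 (x * y) (Additive.toMul z) : EE hS h2) : G) = _
      rw [map_mul]; rfl }

/-- `v k₀ v⁻¹` is a power `k₀ ^ 2 ^ j` -/
theorem conj_pow_two {k₀ : G} (hk₀ : (zpowers k₀ : Set G) = Cfsg.invertedBy (DD G a t) t) {v : G}
    (hv : v ∈ DD G a t) (hvk : v * k₀ * v⁻¹ ∈ zpowers k₀) : ∃ j : ℕ, v * k₀ * v⁻¹ = k₀ ^ 2 ^ j := by
  classical
  letI := EEcomm hS h2
  have hK : ∀ x : G, x ∈ zpowers k₀ ↔ x ∈ Cfsg.invertedBy (DD G a t) t := fun x => by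
    rw [← hk₀]; rfl
  have hk₀K := (hK k₀).1 (mem_zpowers k₀)
  obtain ⟨s, ⟨hs, -⟩, -⟩ := conf hS h2
  have hpows : ∀ x ∈ zpowers k₀, ∃ i : ℕ, k₀ ^ i = x := by
    intro x hx
    obtain ⟨i, hi⟩ := (mem_powers_iff_mem_zpowers (x := k₀)).2 hx
    exact ⟨i, hi⟩
  obtain ⟨m, hm⟩ := hpows _ hvk
  set k' : DD G a t := ⟨k₀, hk₀K.1⟩ with hk'
  set v' : DD G a t := ⟨v, hv⟩ with hv'
  have hvk' : v' * k' = k' ^ m * v' := by
    apply Subtype.ext
    show v * k₀ = ((k' ^ m : DD G a t) : G) * v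
    rw [Subgroup.coe_pow]
    show v * k₀ = k₀ ^ m * v
    rw [hm]; group
  have hinj : ∀ d : DD G a t, Function.Injective (rhoAdd hS h2 d) := by
    intro d x y h
    exact (rho hS h2 d).injective h
  obtain ⟨j, hj⟩ := H26FieldPow.exists_pow_two (E := Additive (EE hS h2))
    (fun x => Subtype.ext (EE_sq hS h2 (Additive.toMul x).2)) (rhoAdd hS h2 k')
    (Units.map (rhoAdd hS h2 : DD G a t →* _) (toUnits v')) (s := Additive.ofMul s)
    (fun h => hs.2.1 (congrArg Subtype.val h)) (hinj k') (by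
      intro x hx
      have hx' : ((Additive.toMul x : EE hS h2) : G) ∈ Cfsg.involutionsIn (stabilizer G a : Set G) :=
        (Additive.toMul x).2.resolve_left (fun h' => hx (Subtype.ext h'))
      obtain ⟨k, hk, hkx⟩ := K_conj_surj hS hs hx'
      obtain ⟨i, hi⟩ := hpows k⁻¹ (inv_mem ((hK k).2 hk))
      refine ⟨i, ?_⟩
      rw [← map_pow]
      apply Subtype.ext
      show ((k' ^ i : DD G a t) : G) * s * ((k' ^ i : DD G a t) : G)⁻¹ = _
      rw [Subgroup.coe_pow]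
      show k₀ ^ i * (s : G) * (k₀ ^ i)⁻¹ = _
      rw [hi, inv_inv]
      exact hkx) (m := m) (by
      show rhoAdd hS h2 v' * rhoAdd hS h2 k' = _
      rw [← map_mul, hvk', map_mul, map_pow]; rfl)
  refine ⟨j, ?_⟩
  rw [← hm]
  rw [← map_pow, ← map_pow] at hj
  have h1 : (k' ^ m)⁻¹ * k' ^ 2 ^ j ∈ (rho hS h2).ker := by
    rw [← MonoidHom.eq_iff]
    ext x
    have h3 := congrArg (fun f : AddMonoid.End (Additive (EE hS h2)) => f (Additive.ofMul x)) hj
    exact congrArg (fun z : EE hS h2 => (z : G)) h3.symm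
  obtain ⟨h3, -⟩ := ker_spec hS h2 h1
  have h4 : (((k' ^ m)⁻¹ * k' ^ 2 ^ j : DD G a t) : G) ∈ zpowers k₀ := by
    push_cast
    exact mul_mem (inv_mem (pow_mem (mem_zpowers k₀) m)) (pow_mem (mem_zpowers k₀) _)
  have h5 := (mem_K_iff hS).1 ((hK _).1 h4)
  have h6 := (fixed_iff hS).2 h3
  have h7 : (k' ^ m)⁻¹ * k' ^ 2 ^ j = 1 := H26SuzK.eq_one_of_sq (odd_D hS) (by
    nth_rw 1 [← h6]
    rw [h5, inv_mul_cancel])
  rw [inv_mul_eq_one] at h7
  have h8 := congrArg Subtype.val h7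
  rw [Subgroup.coe_pow, Subgroup.coe_pow] at h8
  exact h8

/-- `V / C_V(K)` is cyclic. -/
theorem exists_V : ∃ v ∈ DD G a t ⊓ centralizer {t},
    (DD G a t ⊓ centralizer {t} ⊓ centralizer (Cfsg.invertedBy (DD G a t) t)) ⊔ Subgroup.closure {v} =
      DD G a t ⊓ centralizer {t} := by
  classical
  obtain ⟨k₀, hk₀, hn, -⟩ := exists_K hS h2
  have hK : ∀ x : G, x ∈ zpowers k₀ ↔ x ∈ Cfsg.invertedBy (DD G a t) t := fun x => by
    rw [← hk₀]; rfl
  set V := DD G a t ⊓ centralizer {t} with hV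
  have hVn : V ≤ normalizer (zpowers k₀ : Set G) := by
    intro v hv
    rw [mem_normalizer_iff]
    intro x
    refine ⟨fun hx => hn v hv.1 x hx, fun hx => ?_⟩
    have h1 := hn v⁻¹ (inv_mem hv.1) _ hx
    have e : v⁻¹ * (v * x * v⁻¹) * v⁻¹⁻¹ = x := by group
    rwa [e] at h1
  -- the squaring automorphism
  have hcomm : ∀ x y : zpowers k₀, x * y = y * x := fun x y => by
    have := (inferInstance : IsCyclic (zpowers k₀))
    letI := IsCyclic.commGroup (α := zpowers k₀)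
    exact mul_comm x y
  have hodd : Odd (Nat.card (zpowers k₀)) := by
    refine (odd_D hS).of_dvd_nat (card_dvd_of_le ?_)
    intro x hx
    exact ((hK x).1 hx).1
  let P₀ : zpowers k₀ →* zpowers k₀ :=
  { toFun := fun x => x ^ 2
    map_one' := one_pow 2
    map_mul' := fun x y => (show Commute x y from hcomm x y).mul_pow 2 }
  have hP₀ : Function.Bijective P₀ := by
    rw [← Finite.injective_iff_bijective, injective_iff_map_eq_one]
    intro x hx
    exact H26SuzK.eq_one_of_sq hodd (by rw [← pow_two]; exact hx)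
  let P : MulAut (zpowers k₀) := MulEquiv.ofBijective P₀ hP₀
  have hP : ∀ (j : ℕ) (x : zpowers k₀), (P ^ j) x = x ^ 2 ^ j := by
    intro j
    induction j with
    | zero => intro x; simp
    | succ n ih =>
      intro x
      rw [pow_succ, MulAut.mul_apply, ih]
      show (x ^ 2) ^ 2 ^ n = _
      rw [← pow_mul, pow_succ']
  let θ : V →* MulAut (zpowers k₀) := (zpowers k₀).normalizerMonoidHom.comp (Subgroup.inclusion hVn)
  have hθ : ∀ (v : V) (x : zpowers k₀), ((θ v x : zpowers k₀) : G) = v * x * (v : G)⁻¹ := fun v x => rfl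
  have hrange : θ.range ≤ zpowers P := by
    rintro _ ⟨v, rfl⟩
    obtain ⟨j, hj⟩ := conj_pow_two hS h2 hk₀ v.2.1 (hn v v.2.1 k₀ (mem_zpowers k₀))
    refine ⟨j, ?_⟩
    show P ^ (j : ℤ) = θ v
    rw [zpow_natCast]
    ext x
    obtain ⟨i, hi⟩ := Subgroup.mem_zpowers_iff.1 x.2
    rw [hP, hθ, Subgroup.coe_pow, ← hi]
    have h1 : (v : G) * k₀ ^ i * (v : G)⁻¹ = (v * k₀ * (v : G)⁻¹) ^ i := by rw [conj_zpow]
    rw [h1, hj, ← zpow_natCast, ← zpow_natCast, ← zpow_mul, ← zpow_mul, mul_comm]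
  have hcyc : IsCyclic θ.range := by
    have h1 : IsCyclic (zpowers P) := inferInstance
    exact isCyclic_of_injective (Subgroup.inclusion hrange) (Subgroup.inclusion_injective hrange)
  obtain ⟨⟨g, v₀, rfl⟩, hg⟩ := hcyc.exists_generator
  refine ⟨v₀, v₀.2, le_antisymm (sup_le inf_le_left ((Subgroup.closure_le _).2 (by simp))) ?_⟩
  intro v hv
  obtain ⟨i, hi⟩ := Subgroup.mem_zpowers_iff.1 (hg ⟨θ ⟨v, hv⟩, ⟨v, hv⟩, rfl⟩)
  have h1 : θ v₀ ^ i = θ ⟨v, hv⟩ := congrArg Subtype.val hi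
  have hw : θ (⟨v, hv⟩ * (v₀ ^ i)⁻¹) = 1 := by
    rw [map_mul, map_inv, map_zpow, h1, mul_inv_cancel]
  have h3 : v = (v * ((v₀ : G) ^ i)⁻¹) * (v₀ : G) ^ i := by group
  have hvi : (v₀ : G) ^ i ∈ V := V.zpow_mem v₀.2 i
  have hvw : v * ((v₀ : G) ^ i)⁻¹ ∈ V := V.mul_mem hv (V.inv_mem hvi)
  have hci : (v₀ : G) ^ i ∈ Subgroup.closure {(v₀ : G)} :=
    (Subgroup.closure {(v₀ : G)}).zpow_mem (Subgroup.subset_closure rfl) i
  have hwc : v * ((v₀ : G) ^ i)⁻¹ ∈ V ⊓ centralizer (Cfsg.invertedBy (DD G a t) t) := by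
    refine mem_inf.2 ⟨hvw, ?_⟩
    rw [mem_centralizer_iff]
    intro x hx
    have hx' := (hK x).2 hx
    have h4 := congrArg (fun f : MulAut (zpowers k₀) => ((f ⟨x, hx'⟩ : zpowers k₀) : G)) hw
    simp only [hθ] at h4
    have h5 : (v * ((v₀ : G) ^ i)⁻¹) * x * (v * ((v₀ : G) ^ i)⁻¹)⁻¹ = x := by
      simpa using h4
    rw [mul_inv_eq_iff_eq_mul] at h5
    exact h5.symm
  have h6 := Subgroup.mul_mem_sup hwc hci
  rw [← h3] at h6
  exact h6

/-- Sylow 2-subgroups of `Q`. -/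
theorem sylow_Q (S : Sylow 2 ↥Q) :
    IsMulCommutative (S : Subgroup ↥Q) ∨ Cfsg.IsSuzukiTwoGroup ↥(S : Subgroup ↥Q) := by
  classical
  by_cases hc : ∀ x y : (S : Subgroup Q), x * y = y * x
  · exact Or.inl ⟨⟨hc⟩⟩
  right
  push Not at hc
  have : Fact (Nat.Prime 2) := ⟨Nat.prime_two⟩
  obtain ⟨k₀, hk₀, hn, -⟩ := exists_K hS h2
  have hK : ∀ x : G, x ∈ zpowers k₀ ↔ x ∈ Cfsg.invertedBy (DD G a t) t := fun x => by
    rw [← hk₀]; rfl
  have hnil := Q_nilpotent hS h2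
  have hSn : (S : Subgroup Q).Normal := by
    have h1 := (Group.isNilpotent_of_finite_tfae (G := Q)).out 0 3
    exact h1.1 hnil 2 inferInstance S
  -- membership in the image of `S` in `G`
  have hmem : ∀ x : Q, x ∈ (S : Subgroup Q) ↔ ∃ n : ℕ, x ^ 2 ^ n = 1 := by
    intro x
    constructor
    · intro hx
      obtain ⟨n, hn⟩ := S.isPGroup' ⟨x, hx⟩
      exact ⟨n, congrArg Subtype.val hn⟩
    · intro h
      refine KleinFuse.mem_sylow_of_normalizer S ?_ h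
      rw [Subgroup.normalizer_eq_top_iff.2 hSn]
      exact mem_top _
  set S' : Subgroup G := (S : Subgroup Q).map Q.subtype with hS'
  have hmem' : ∀ x : G, x ∈ S' ↔ x ∈ Q ∧ ∃ n : ℕ, x ^ 2 ^ n = 1 := by
    intro x
    rw [hS', Subgroup.mem_map]
    constructor
    · rintro ⟨y, hy, rfl⟩
      obtain ⟨n, hn⟩ := (hmem y).1 hy
      exact ⟨y.2, n, congrArg Subtype.val hn⟩
    · rintro ⟨hx, n, hn⟩
      exact ⟨⟨x, hx⟩, (hmem _).2 ⟨n, Subtype.ext hn⟩, rfl⟩
  let e : (S : Subgroup Q) ≃* S' := (S : Subgroup Q).equivMapOfInjective Q.subtype Q.subtype_injective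
  have he : ∀ x : (S : Subgroup Q), ((e x : S') : G) = ((x : Q) : G) := fun x => rfl
  have hnorm : zpowers k₀ ≤ normalizer (S' : Set G) := by
    intro c hc
    have hca : c ∈ stabilizer G a := ((hK c).1 hc).1.1
    have hstep : ∀ d ∈ stabilizer G a, ∀ x ∈ S', d * x * d⁻¹ ∈ S' := by
      intro d hd x hx
      rw [hmem'] at hx ⊢
      obtain ⟨hxQ, n, hxn⟩ := hx
      exact ⟨hS.conj_mem d hd x hxQ, n, by rw [conj_pow, hxn]; group⟩
    rw [mem_normalizer_iff]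
    intro x
    refine ⟨fun hx => hstep c hca x hx, fun hx => ?_⟩
    have h1 := hstep c⁻¹ (Subgroup.inv_mem _ hca) _ hx
    have e : c⁻¹ * (c * x * c⁻¹) * c⁻¹⁻¹ = x := by group
    rwa [e] at h1
  let θ : zpowers k₀ →* MulAut S' := S'.normalizerMonoidHom.comp (Subgroup.inclusion hnorm)
  have hθ : ∀ (c : zpowers k₀) (x : S'), ((θ c x : S') : G) = c * x * (c : G)⁻¹ := fun c x => rfl
  let θ' : zpowers k₀ →* MulAut (S : Subgroup Q) := (MulAut.congr e).symm.toMonoidHom.comp θ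
  have hθ' : ∀ (c : zpowers k₀) (x : (S : Subgroup Q)),
      (((θ' c x : (S : Subgroup Q)) : Q) : G) = c * ((x : Q) : G) * (c : G)⁻¹ := by
    intro c x
    have h1 : e (θ' c x) = θ c (e x) := by
      show e (e.symm (θ c (e x))) = _
      rw [MulEquiv.apply_symm_apply]
    have h3 := congrArg (fun z : S' => (z : G)) h1
    simp only [he, hθ] at h3
    exact h3
  have hinv : ∀ x : (S : Subgroup Q), x ≠ 1 → x * x = 1 →
      (((x : Q) : G)) ∈ Cfsg.involutionsIn (stabilizer G a : Set G) := by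
    intro x hx1 hx
    refine ⟨hS.le (x : Q).2, fun h => hx1 (Subtype.ext (Subtype.ext h)), ?_⟩
    have := congrArg (fun z : (S : Subgroup Q) => ((z : Q) : G)) hx
    exact this
  refine ⟨inferInstance, S.isPGroup', hc, ?_, θ'.range, ?_, ?_⟩
  · obtain ⟨s, hs, s', hs', hne⟩ := exists_two_invol hS h2
    have hsQ : s ∈ Q := mem_Q_of_sq hS hs.1 hs.2.2
    have hsQ' : s' ∈ Q := mem_Q_of_sq hS hs'.1 hs'.2.2
    have h1 : (⟨s, hsQ⟩ : Q) ∈ (S : Subgroup Q) := (hmem _).2 ⟨1, Subtype.ext (by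
      show s ^ 2 ^ 1 = 1; rw [pow_one, pow_two]; exact hs.2.2)⟩
    have h3 : (⟨s', hsQ'⟩ : Q) ∈ (S : Subgroup Q) := (hmem _).2 ⟨1, Subtype.ext (by
      show s' ^ 2 ^ 1 = 1; rw [pow_one, pow_two]; exact hs'.2.2)⟩
    refine ⟨⟨_, h1⟩, ⟨_, h3⟩, fun h => hne (congrArg (fun z : (S : Subgroup Q) => ((z : Q) : G)) h),
      fun h => hs.2.1 (congrArg (fun z : (S : Subgroup Q) => ((z : Q) : G)) h), ?_,
      fun h => hs'.2.1 (congrArg (fun z : (S : Subgroup Q) => ((z : Q) : G)) h), ?_⟩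
    · exact Subtype.ext (Subtype.ext hs.2.2)
    · exact Subtype.ext (Subtype.ext hs'.2.2)
  · exact isCyclic_of_surjective θ'.rangeRestrict θ'.rangeRestrict_surjective
  · intro x y hx1 hx hy1 hy
    obtain ⟨k, hk, hkx⟩ := K_conj_surj hS (hinv x hx1 hx) (hinv y hy1 hy)
    have hk' := inv_mem ((hK k).2 hk)
    refine ⟨⟨θ' ⟨k⁻¹, hk'⟩, ⟨_, rfl⟩⟩, ?_, ?_⟩
    · apply Subtype.ext
      apply Subtype.ext
      show (((θ' ⟨k⁻¹, hk'⟩ x : (S : Subgroup Q)) : Q) : G) = _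
      rw [hθ']
      show k⁻¹ * ((x : Q) : G) * k⁻¹⁻¹ = _
      rw [inv_inv]
      exact hkx
    · rintro ⟨_, c, rfl⟩ hc
      apply Subtype.ext
      have h1 := congrArg (fun z : (S : Subgroup Q) => ((z : Q) : G)) hc
      simp only [hθ'] at h1
      have hcK := (hK _).1 (inv_mem c.2)
      have h3 := K_conj_injective hS (hinv x hx1 hx).1 (hinv x hx1 hx).2.1 (hinv x hx1 hx).2.2 hcK hk
        (by rw [inv_inv, h1, hkx])
      have h4 : c = ⟨k⁻¹, hk'⟩ := Subtype.ext (by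
        show (c : G) = k⁻¹
        rw [← h3, inv_inv])
      rw [h4]

end Cfsg.Agent.Lib.H26SuzKD
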