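import Cfsg.Agent.Lib.H26SuzPP
import Cfsg.Agent.Lib.H26SuzCl
import Cfsg.Agent.Lib.ZassMain
import Cfsg.Agent.S0346
import Cfsg.Agent.S1147

/-!
# The rank one set-up with `V = 1`
-/

set_option autoImplicit false
open MulAction

namespace Cfsg.Agent.Lib.H26SuzZ

open Subgroup Cfsg.Agent.Lib.RankOne Cfsg.Agent.Lib.RankOneB Cfsg.Agent.Lib.RankOneC Cfsg.Agent.Lib.H26SuzInd
  Cfsg.Agent.Lib.H26SuzPP Cfsg.Agent.Lib.H26SuzCl

universe u v

variable {G : Type u} {Ω : Type v} [Group G] [Finite G] [MulAction G Ω] {a : Ω} {t : G} {Q : Subgroup G}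
  (hS : Cfsg.IsRankOneSetup G Ω a t Q)

include hS

theorem finite_Ω : Finite Ω := by
  apply Nat.finite_of_card_ne_zero
  rw [card_Ω hS]; omega

theorem mem_invol_iff {x : G} : x ∈ Cfsg.involutionsIn (stabilizer G a : Set G) ↔ x ∈ Q ∧ x ≠ 1 ∧ x * x = 1 := by
  constructor
  · intro h; exact ⟨mem_Q_of_sq hS h.1 h.2.2, h.2⟩
  · intro h; exact ⟨hS.le h.1, h.2⟩

theorem qq_eq : qq Q = Nat.card (Cfsg.involutionsIn (stabilizer G a : Set G)) + 1 := by
  classical
  have h1 : Nat.card (Option (Cfsg.involutionsIn (stabilizer G a : Set G))) = qq Q := by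
    refine Nat.card_congr (Equiv.ofBijective (fun o : Option (Cfsg.involutionsIn (stabilizer G a : Set G)) =>
      (match o with
        | none => ⟨1, one_mul 1⟩
        | some x => ⟨⟨x.1, ((mem_invol_iff hS).1 x.2).1⟩, Subtype.ext ((mem_invol_iff hS).1 x.2).2.2⟩ : {x : Q // x * x = 1}))
      ⟨?_, ?_⟩)
    · rintro (_ | x) (_ | y) h
      · rfl
      · exfalso
        have h3 := congrArg (fun z : {x : Q // x * x = 1} => ((z : Q) : G)) h
        exact ((mem_invol_iff hS).1 y.2).2.1 h3.symm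
      · exfalso
        have h3 := congrArg (fun z : {x : Q // x * x = 1} => ((z : Q) : G)) h
        exact ((mem_invol_iff hS).1 x.2).2.1 h3
      · have h3 := congrArg (fun z : {x : Q // x * x = 1} => ((z : Q) : G)) h
        exact congrArg some (Subtype.ext h3)
    · rintro ⟨x, hx⟩
      by_cases h : x = 1
      · subst h; exact ⟨none, rfl⟩
      · exact ⟨some ⟨x, (mem_invol_iff hS).2 ⟨x.2, fun h' => h (Subtype.ext h'), congrArg Subtype.val hx⟩⟩, rfl⟩
  rw [← h1, Finite.card_option]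

/-- `V = 1` -/
theorem D_eq (hV : ∀ x ∈ stabilizer G a ⊓ stabilizer G (t • a), x * t = t * x → x = 1) {d : G}
    (hd : d ∈ stabilizer G a ⊓ stabilizer G (t • a)) : d ∈ Cfsg.invertedBy (stabilizer G a ⊓ stabilizer G (t • a)) t := by
  obtain ⟨p, ⟨hp1, hp2, hp3⟩, -⟩ := OddInv.exists_unique_mul t hS.mul_self (stabilizer G a ⊓ stabilizer G (t • a)) hS.odd_card
      (fun x hx => t_conj_D hS hx) d hd
  have h1 := hV p.1 hp1.1 (mem_centralizer_singleton_iff.1 hp1.2)
  rw [h1, one_mul] at hp3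
  rw [hp3]; exact hp2

theorem card_D (hV : ∀ x ∈ stabilizer G a ⊓ stabilizer G (t • a), x * t = t * x → x = 1) :
    Nat.card ↥(stabilizer G a ⊓ stabilizer G (t • a)) + 1 = qq Q := by
  rw [qq_eq hS, ← card_invol_eq hS]
  congr 1
  exact Nat.card_congr (Equiv.subtypeEquivRight fun x => ⟨fun h => D_eq hS hV h, fun h => h.1⟩)

theorem fix3 (hV : ∀ x ∈ stabilizer G a ⊓ stabilizer G (t • a), x * t = t * x → x = 1) (g : G) (x y z : Ω) (hxy : x ≠ y)
    (hyz : y ≠ z) (hxz : x ≠ z) (h1 : g • x = x) (h2 : g • y = y) (h3 : g • z = z) : g = 1 := by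
  obtain ⟨h, hx, hy⟩ := two_trans hS hxy (ta_ne hS).symm
  have e : ∀ c : Ω, g • c = c → (h * g * h⁻¹) • h • c = h • c := by
    intro c hc
    rw [mul_smul, mul_smul, inv_smul_smul, hc]
  have hX : ∀ w ∈ ({h * g * h⁻¹} : Set G), w • a = a ∧ w • t • a = t • a := by
    rintro w rfl
    refine ⟨?_, ?_⟩
    · nth_rw 1 [← hx]; rw [e x h1, hx]
    · rw [← hy, e y h2]
  obtain ⟨l, hl, hlt⟩ := conj_into hS hX ⟨h • z, fun h' => hxz (MulAction.injective h (hx.trans h'.symm)),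
    fun h' => hyz (MulAction.injective h (hy.trans h'.symm)), fun w hw => by rw [Set.mem_singleton_iff] at hw; rw [hw, e z h3]⟩
  have h4 := hlt _ rfl
  have h5 : h * g * h⁻¹ ∈ stabilizer G a ⊓ stabilizer G (t • a) := hX _ rfl
  have h6 := hV _ (mul_mem (mul_mem hl.1 h5) (inv_mem hl.1)) h4
  rw [conj_eq_one_iff, conj_eq_one_iff] at h6
  exact h6

variable (h2 : ∃ x y : G, x ≠ 1 ∧ y ≠ 1 ∧ x ≠ y ∧ x * x = 1 ∧ y * y = 1 ∧ x * y = y * x)
include h2

theorem zass [FaithfulSMul G Ω] [IsSimpleGroup G]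
    (hV : ∀ x ∈ stabilizer G a ⊓ stabilizer G (t • a), x * t = t * x → x = 1) : Cfsg.IsZassenhausGroup G Ω := by
  obtain ⟨k, hk, hk1⟩ := exists_K_ne_one hS h2
  refine ⟨inferInstance, hS.two_transitive, fix3 hS hV, ⟨k, hk1, a, t • a, (ta_ne hS).symm, hk.1.1, hk.1.2⟩, ?_⟩
  intro N hN hNt
  refine ⟨a, fun h => hk1 ?_⟩
  rcases IsSimpleGroup.eq_bot_or_eq_top_of_normal N hN with rfl | rfl
  · exfalso
    obtain ⟨g, hg⟩ := MulAction.exists_smul_eq (⊥ : Subgroup G) a (t • a)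
    have : g = 1 := Subsingleton.elim _ _
    rw [this, one_smul] at hg
    exact ta_ne hS hg.symm
  · have h3 : (⟨k, mem_top k⟩ : (⊤ : Subgroup G)) ∈ stabilizer (⊤ : Subgroup G) a := hk.1.1
    rw [h, mem_bot] at h3
    exact congrArg Subtype.val h3

theorem PP_simple [FaithfulSMul G Ω] [IsSimpleGroup G]
    (hV : ∀ x ∈ stabilizer G a ⊓ stabilizer G (t • a), x * t = t * x → x = 1) : PP t Q := by
  have hZ := zass hS h2 hV
  have hfin := finite_Ω hS
  have := Fintype.ofFinite Ω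
  have hcΩ := card_Ω hS
  have hfixQ : ∀ u ∈ Q, u ≠ 1 → ∀ c : Ω, u • c = c → c = a := fun u hu hu1 c hc => Q_free hS hu hu1 hc
  -- abelian case
  have hab : (∀ x ∈ Q, ∀ y ∈ Q, x * y = y * x) → ∀ x ∈ Q, x * x = 1 := by
    intro hcomm
    have hK := ZassKernel.mem_kernel_iff hZ a Q hS.le (by rw [hcΩ]) hfixQ
    rcases ZassMain.main hZ (ta_ne hS).symm Q hK hcomm with h | ⟨E, _, _, -, -, h, -⟩
    · intro x hx
      by_cases hx1 : x = 1
      · rw [hx1, one_mul]
      obtain ⟨s, hs, hs1, hss⟩ := exists_invol hS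
      obtain ⟨g, hg1, hg2, hg3⟩ := h a (t • a) (s • t • a) a (t • a) (x • t • a) (ta_ne hS).symm
        (fun h' => ta_ne hS (MulAction.injective s (h'.symm.trans (Q_fix hS hs).symm)))
        (fun h' => ta_ne hS (Q_free hS hs hs1 h'.symm)) (ta_ne hS).symm
        (fun h' => ta_ne hS (MulAction.injective x (h'.symm.trans (Q_fix hS hx).symm)))
        (fun h' => ta_ne hS (Q_free hS hx hx1 h'.symm))
      have h3 : g * s * g⁻¹ = x := by
        apply Q_eq hS (hS.conj_mem g hg1 s hs) hx (ta_ne hS)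
        rw [mul_smul, mul_smul, ← hg3]
        congr 2
        rw [inv_smul_eq_iff, hg2]
      rw [← h3]
      calc g * s * g⁻¹ * (g * s * g⁻¹) = g * (s * s) * g⁻¹ := by group
        _ = 1 := by rw [hss]; group
    · exfalso
      rw [hcΩ] at h
      have := hS.even_card
      rcases this with ⟨m, hm⟩
      omega
  have hle : (∀ x ∈ Q, x * x = 1) → Nat.card Q ≤ qq Q := by
    intro h
    exact Nat.card_le_card_of_injective (fun x : Q => (⟨x, Subtype.ext (h x x.2)⟩ : {x : Q // x * x = 1}))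
      (fun x y hxy => congrArg (fun z : {x : Q // x * x = 1} => z.1) hxy)
  refine ⟨?_, ?_⟩
  · intro s hs r hr hs1 hss hst hrr
    by_cases hcomm : ∀ x ∈ Q, ∀ y ∈ Q, x * y = y * x
    · exact absurd (hab hcomm r hr) hrr
    push Not at hcomm
    have hpp := Cfsg.Agent.S0346.result hZ
    rw [← Nat.card_eq_fintype_card, hcΩ, Nat.add_sub_cancel] at hpp
    obtain ⟨p, n, hp, hn, hpn⟩ := hpp
    have hp2 : p = 2 := by
      have h3 := hS.even_card
      rw [← hpn, Nat.even_pow] at h3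
      exact (Nat.Prime.even_iff hp.nat_prime).1 h3.1
    have hQ2 : IsPGroup 2 Q := IsPGroup.of_card (n := n) (by rw [← hpn, hp2])
    obtain ⟨m, -, -, h3, -, h4, -⟩ := Cfsg.Agent.S1147.result hZ (ta_ne hS).symm Q hS.le hS.conj_mem
      (fun c d hc hd => Q_reg hS hc hd) hQ2 hcomm
    rw [hcΩ] at h3
    have h5 := card_D hS hV
    rw [h4] at h5
    have h6 : 1 ≤ 2 ^ m := Nat.one_le_two_pow
    have h7 : qq Q = 2 ^ m := by omega
    rw [h7, ← pow_mul, mul_comm m 2]; omega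
  · intro hcomm _
    have h3 := hle (hab hcomm)
    have h4 : 1 ≤ qq Q := by rw [qq_eq hS]; omega
    nlinarith

/-- the case `V = 1` -/
theorem PP_V [FaithfulSMul G Ω] (hV : ∀ x ∈ stabilizer G a ⊓ stabilizer G (t • a), x * t = t * x → x = 1) : PP t Q := by
  obtain ⟨k, hk, hk1⟩ := exists_K_ne_one hS h2
  have hQ := Q_le hS hk hk1
  have hsimp := simple_cl hS h2
  set N := normalClosure ({t} : Set G) with hN
  have htN : t ∈ N := t_mem
  have hSN := setup_sub hS hQ htN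
  obtain ⟨s, hs, s', hs', hne⟩ := exists_two_invol hS h2
  have hsQ := mem_Q_of_sq hS hs.1 hs.2.2
  have hsQ' := mem_Q_of_sq hS hs'.1 hs'.2.2
  have h2N : ∃ x y : N, x ≠ 1 ∧ y ≠ 1 ∧ x ≠ y ∧ x * x = 1 ∧ y * y = 1 ∧ x * y = y * x :=
    ⟨⟨s, hQ hsQ⟩, ⟨s', hQ hsQ'⟩, fun h => hs.2.1 (congrArg Subtype.val h), fun h => hs'.2.1 (congrArg Subtype.val h),
      fun h => hne (congrArg Subtype.val h), Subtype.ext hs.2.2, Subtype.ext hs'.2.2,
      Subtype.ext (invol_central hS h2 s hs s' hsQ')⟩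
  refine PP_sub hQ htN (PP_simple hSN h2N ?_)
  intro x hx hxt
  exact Subtype.ext (hV x ⟨hx.1, hx.2⟩ (congrArg Subtype.val hxt))

end Cfsg.Agent.Lib.H26SuzZ
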