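import Cfsg.Agent.Lib.H26SuzT
import Cfsg.Agent.Lib.H26SuzZ

/-!
# The rank one set-up: the case `W ≠ 1`
-/

set_option autoImplicit false
open MulAction

namespace Cfsg.Agent.Lib.H26SuzW

open Subgroup Cfsg.Agent.Lib.RankOne Cfsg.Agent.Lib.RankOneB Cfsg.Agent.Lib.RankOneC Cfsg.Agent.Lib.H26SuzKD
  Cfsg.Agent.Lib.H26SuzPP Cfsg.Agent.Lib.H26SuzT Cfsg.Agent.Lib.H26SuzS1

universe u v

theorem card_ne' {X : Type u} [Finite X] (a : X) : Nat.card {x : X // x ≠ a} + 1 = Nat.card X := by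
  classical
  have := Fintype.ofFinite X
  have hpos : 0 < Nat.card X := by
    have : Nonempty X := ⟨a⟩
    exact Nat.card_pos
  rw [Nat.card_eq_fintype_card, Fintype.card_subtype_compl, Fintype.card_subtype_eq,
    ← Nat.card_eq_fintype_card]
  omega

variable {G : Type u} {Ω : Type v} [Group G] [Finite G] [MulAction G Ω] [FaithfulSMul G Ω] {a : Ω} {t : G} {Q : Subgroup G}
  (hS : Cfsg.IsRankOneSetup G Ω a t Q)

include hS

theorem eq_one_of_cent {w : G} (hw : w ∈ DD G a t) (hc : ∀ x ∈ Q, w * x = x * w) : w = 1 := by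
  apply FaithfulSMul.eq_of_smul_eq_smul (α := Ω)
  intro c
  rw [one_smul]
  by_cases hca : c = a
  · rw [hca]; exact hw.1
  · obtain ⟨y, hy, rfl⟩ := Q_trans hS hca
    rw [smul_smul, hc y hy, mul_smul, mem_stabilizer_iff.1 hw.2]

omit [FaithfulSMul G Ω] in
theorem cent_r {s r w : G} (hs : s ∈ Cfsg.involutionsIn (stabilizer G a : Set G)) (hr : r ∈ Q) (hst : t * s * t = r⁻¹ * t * r)
    (hw : w ∈ DD G a t) (hwt : w * t = t * w) : w * s = s * w ∧ w * r = r * w := by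
  have h1 := CDt_le_CDs hS hs hr hst hw hwt
  refine ⟨h1, ?_⟩
  obtain ⟨p, hp, hpu⟩ := structure_eq hS
  have h3 := hpu (s, r) ⟨hs, hr, hst⟩
  have hwt' : w⁻¹ * t = t * w⁻¹ := by rw [inv_mul_eq_iff_eq_mul, ← mul_assoc, hwt, mul_inv_cancel_right]
  have h4 := hpu (s, w * r * w⁻¹) ⟨hs, hS.conj_mem w hw.1 r hr, by
    show t * s * t = (w * r * w⁻¹)⁻¹ * t * (w * r * w⁻¹)
    calc t * s * t = t * (s * w) * w⁻¹ * t := by group
      _ = (t * w) * s * (w⁻¹ * t) := by rw [← h1]; group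
      _ = (w * t) * s * (t * w⁻¹) := by rw [hwt, hwt']
      _ = w * (t * s * t) * w⁻¹ := by group
      _ = w * (r⁻¹ * t * r) * w⁻¹ := by rw [hst]
      _ = w * r⁻¹ * w⁻¹ * (w * t) * r * w⁻¹ := by group
      _ = _ := by rw [hwt]; group⟩
  have h5 : r = w * r * w⁻¹ := congrArg Prod.snd (h3.trans h4.symm)
  nth_rw 2 [h5]; group

omit [FaithfulSMul G Ω] in
theorem can_cent {x g h f w : G} (hw : w ∈ DD G a t) (hwt : w * t = t * w) (hx : w * x = x * w)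
    (hg : g ∈ Q) (hh : h ∈ DD G a t) (hf : f ∈ Q) (e : t * x * t = g * h * t * f) : w * g = g * w ∧ w * f = f * w := by
  have hwt' : w⁻¹ * t = t * w⁻¹ := by rw [inv_mul_eq_iff_eq_mul, ← mul_assoc, hwt, mul_inv_cancel_right]
  have h1 : g * h * t * f = (w * g * w⁻¹) * (w * h * w⁻¹) * t * (w * f * w⁻¹) := by
    rw [← e]
    calc t * x * t = t * (x * w) * w⁻¹ * t := by group
      _ = (t * w) * x * (w⁻¹ * t) := by rw [← hx]; group
      _ = (w * t) * x * (t * w⁻¹) := by rw [hwt, hwt']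
      _ = w * (t * x * t) * w⁻¹ := by group
      _ = w * (g * h * t * f) * w⁻¹ := by rw [e]
      _ = (w * g * w⁻¹) * (w * h * w⁻¹) * (w * t) * f * w⁻¹ := by group
      _ = _ := by rw [hwt]; group
  obtain ⟨h3, -, h4⟩ := can_unique hS hg (hS.conj_mem w hw.1 g hg) hh (mul_mem (mul_mem hw hh) (inv_mem hw)) hf
    (hS.conj_mem w hw.1 f hf) h1
  exact ⟨by nth_rw 2 [h3]; group, by nth_rw 2 [h4]; group⟩

variable (h2 : ∃ x y : G, x ≠ 1 ∧ y ≠ 1 ∧ x ≠ y ∧ x * x = 1 ∧ y * y = 1 ∧ x * y = y * x)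
include h2

theorem mem_EE_iff {x : G} : x ∈ EE hS h2 ↔ x ∈ Q ∧ x * x = 1 := by
  constructor
  · intro h; exact ⟨EE_le_Q hS h2 h, EE_sq hS h2 h⟩
  · rintro ⟨h1, h3⟩
    by_cases hx : x = 1
    · exact Or.inl hx
    · exact Or.inr ⟨hS.le h1, hx, h3⟩

theorem card_EE : Nat.card (EE hS h2) = qq Q := by
  refine Nat.card_congr (Equiv.ofBijective (fun x => (⟨⟨x, EE_le_Q hS h2 x.2⟩, Subtype.ext (EE_sq hS h2 x.2)⟩ :
    {x : Q // x * x = 1})) ⟨?_, ?_⟩)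
  · intro x y h
    exact Subtype.ext (congrArg (fun z : {x : Q // x * x = 1} => ((z : Q) : G)) h)
  · rintro ⟨x, hx⟩
    exact ⟨⟨x, (mem_EE_iff hS h2).2 ⟨x.2, congrArg Subtype.val hx⟩⟩, rfl⟩

theorem exists_pow_q : ∃ n : ℕ, qq Q = 2 ^ n := by
  have : Fact (Nat.Prime 2) := ⟨Nat.prime_two⟩
  have h : IsPGroup 2 (EE hS h2) := fun x => ⟨1, by
    rw [pow_one, pow_two]; exact Subtype.ext (EE_sq hS h2 x.2)⟩
  obtain ⟨n, hn⟩ := IsPGroup.iff_card.1 h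
  exact ⟨n, by rw [← card_EE hS h2, hn]⟩

theorem two_le_pow : 4 ≤ qq Q := by
  obtain ⟨n, hn⟩ := exists_pow_q hS h2
  obtain ⟨s, hs, s', hs', hne⟩ := exists_two_invol hS h2
  have hsE : s ∈ EE hS h2 := Or.inr hs
  have hsE' : s' ∈ EE hS h2 := Or.inr hs'
  have h3 : 2 < Nat.card (EE hS h2) := by
    classical
    have := Fintype.ofFinite (EE hS h2)
    rw [Nat.card_eq_fintype_card, Fintype.two_lt_card_iff]
    exact ⟨1, ⟨s, hsE⟩, ⟨s', hsE'⟩, fun h => hs.2.1 (congrArg Subtype.val h).symm,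
      fun h => hs'.2.1 (congrArg Subtype.val h).symm, fun h => hne (congrArg Subtype.val h)⟩
  rw [card_EE hS h2, hn] at h3
  rw [hn]
  have h4 : 1 < n := by
    by_contra hle
    have : n ≤ 1 := by omega
    have := Nat.pow_le_pow_right (n := 2) (by norm_num) this
    omega
  calc 4 = 2 ^ 2 := by norm_num
    _ ≤ 2 ^ n := Nat.pow_le_pow_right (by norm_num) h4

omit [FaithfulSMul G Ω] h2 in
theorem card_K {K : Subgroup G} (hK : ∀ x, x ∈ K ↔ x ∈ Cfsg.invertedBy (DD G a t) t) : Nat.card K + 1 = qq Q := by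
  rw [H26SuzZ.qq_eq hS, ← card_invol_eq hS]
  congr 1
  exact Nat.card_congr (Equiv.subtypeEquivRight fun x => hK x)

/-- the exclusion of `|S| = q³`. -/
theorem not_cube {w : G} (hw : w ∈ DD G a t) (hwE : ∀ x ∈ EE hS h2, w * x = x * w) {K : Subgroup G}
    (hK : ∀ x, x ∈ K ↔ x ∈ Cfsg.invertedBy (DD G a t) t) (hwK : ∀ k ∈ K, w * k = k * w)
    {S T : Subgroup G} (hSn : ∀ h ∈ stabilizer G a, ∀ x ∈ S, h * x * h⁻¹ ∈ S) (hSQ : S ≤ Q)
    (hS2 : ∀ x ∈ S, ∃ n : ℕ, x ^ 2 ^ n = 1) (hES : EE hS h2 ≤ S)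
    (hsq : ∀ x ∈ S, x * x ∈ EE hS h2) (hcm : ∀ x ∈ S, ∀ y ∈ S, x⁻¹ * y⁻¹ * x * y ∈ EE hS h2)
    (hcard : Nat.card S = qq Q ^ 3) (hT : ∀ x, x ∈ T ↔ x ∈ S ∧ w * x = x * w) (hTc : Nat.card T = qq Q ^ 2) : False := by
  classical
  have hwo : Odd (orderOf w) := OddInv.odd_orderOf_of_mem hS.odd_card hw
  have hq := two_le_pow hS h2
  have hEc : ∀ x ∈ EE hS h2, ∀ y ∈ S, x * y = y * x := fun x hx y hy => EE_central hS h2 hx (hSQ hy)
  let E' : Subgroup S := (EE hS h2).subgroupOf S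
  have hE'n : E'.Normal := ⟨fun x hx g => by
    show (g : G) * x * (g : G)⁻¹ ∈ EE hS h2
    rw [← hEc x hx g g.2, mul_inv_cancel_right]; exact hx⟩
  have hwS : ∀ x ∈ S, w * x * w⁻¹ ∈ S := fun x hx => hSn w hw.1 x hx
  let ψ : S → S := fun y => ⟨(y : G)⁻¹ * (w * y * w⁻¹), S.mul_mem (S.inv_mem y.2) (hwS y y.2)⟩
  have hcomm : ∀ x y : S, (QuotientGroup.mk (x * y) : S ⧸ E') = QuotientGroup.mk (y * x) := by
    intro x y
    rw [QuotientGroup.eq]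
    show ((x : G) * y)⁻¹ * (y * x) ∈ EE hS h2
    have h3 := hcm y y.2 x x.2
    have e : ((x : G) * y)⁻¹ * (y * x) = (y : G)⁻¹ * (x : G)⁻¹ * y * x := by group
    rw [e]; exact h3
  let φ : S →* S ⧸ E' :=
  { toFun := fun y => QuotientGroup.mk (ψ y)
    map_one' := by
      have : ψ 1 = 1 := Subtype.ext (by show (1 : G)⁻¹ * (w * 1 * w⁻¹) = 1; group)
      rw [this]; rfl
    map_mul' := by
      intro y z
      have h3 : ψ (y * z) = z⁻¹ * (ψ y) * (⟨w * z * w⁻¹, hwS z z.2⟩ : S) := Subtype.ext (by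
        show ((y : G) * z)⁻¹ * (w * (y * z) * w⁻¹) = (z : G)⁻¹ * ((y : G)⁻¹ * (w * y * w⁻¹)) * (w * z * w⁻¹); group)
      have h4 : ψ z = z⁻¹ * (⟨w * z * w⁻¹, hwS z z.2⟩ : S) := rfl
      rw [h3, h4, QuotientGroup.mk_mul, hcomm, ← QuotientGroup.mk_mul, mul_assoc, QuotientGroup.mk_mul] }
  have hφ : ∀ y : S, φ y = QuotientGroup.mk (ψ y) := fun _ => rfl
  have hker : φ.ker = T.subgroupOf S := by
    ext y
    have hm : y ∈ T.subgroupOf S ↔ (y : G) ∈ T := mem_subgroupOf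
    rw [MonoidHom.mem_ker, hφ, QuotientGroup.eq_one_iff, hm, hT]
    constructor
    · intro h
      have h3 : (y : G)⁻¹ * (w * y * w⁻¹) ∈ EE hS h2 := h
      have h4 := coprime_step hwo (hwE _ h3) (n := 1) (x := (y : G)) (by rw [pow_one, pow_two, EE_sq hS h2 h3]) (by group)
      rw [inv_mul_eq_one] at h4
      exact ⟨y.2, by nth_rw 2 [h4]; group⟩
    · rintro ⟨-, h⟩
      show (y : G)⁻¹ * (w * y * w⁻¹) ∈ EE hS h2
      rw [h]
      have : (y : G)⁻¹ * (y * w * w⁻¹) = 1 := by group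
      rw [this]; exact one_mem _
  have hTS : T ≤ S := fun x hx => ((hT x).1 hx).1
  have hrange : Nat.card φ.range = qq Q := by
    have h3 : Nat.card φ.range * Nat.card φ.ker = Nat.card S := by
      rw [← Nat.card_congr (QuotientGroup.quotientKerEquivRange φ).toEquiv]
      exact (Subgroup.card_eq_card_quotient_mul_card_subgroup _).symm
    rw [hker, Nat.card_congr (subgroupOfEquivOfLe hTS).toEquiv, hTc, hcard] at h3
    have h4 : 0 < qq Q ^ 2 := by positivity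
    have h5 : Nat.card φ.range * qq Q ^ 2 = qq Q * qq Q ^ 2 := by rw [h3]; ring
    exact Nat.eq_of_mul_eq_mul_right h4 h5
  -- an element outside `T`
  obtain ⟨y, hyS, hyT⟩ : ∃ y ∈ S, y ∉ T := by
    by_contra hcon
    push Not at hcon
    have h3 : Nat.card S ≤ Nat.card T := card_le_of_le hcon
    rw [hcard, hTc] at h3
    have : qq Q ^ 2 * 4 ≤ qq Q ^ 2 * qq Q := Nat.mul_le_mul_left _ hq
    have h4 : 0 < qq Q ^ 2 := by positivity
    nlinarith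
  obtain ⟨x0, hx0⟩ : ∃ x0, x0 = y⁻¹ * (w * y * w⁻¹) := ⟨_, rfl⟩
  have hx0S : x0 ∈ S := by rw [hx0]; exact S.mul_mem (S.inv_mem hyS) (hwS y hyS)
  have hx0E : x0 ∉ EE hS h2 := by
    intro h
    have h3 : (⟨y, hyS⟩ : S) ∈ φ.ker := by
      rw [MonoidHom.mem_ker, hφ, QuotientGroup.eq_one_iff]
      show y⁻¹ * (w * y * w⁻¹) ∈ EE hS h2
      rw [← hx0]; exact h
    rw [hker] at h3
    exact hyT h3
  have hKE : ∀ k ∈ K, ∀ x ∈ EE hS h2, k * x * k⁻¹ ∈ EE hS h2 := fun k hk x hx => EE_conj hS h2 ((hK k).1 hk).1.1 hx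
  have hfpf : ∀ k ∈ K, k ≠ 1 → ∀ x ∈ Q, k * x = x * k → x = 1 := fun k hk hk1 x hx h => K_fpf hS ((hK k).1 hk) hk1 hx h
  -- the elements `k x0 k⁻¹`
  have hKS : ∀ k ∈ K, ∀ x ∈ S, k * x * k⁻¹ ∈ S := fun k hk x hx => hSn k ((hK k).1 hk).1.1 x hx
  let F : K → {z : φ.range // z ≠ 1} := fun k => ⟨⟨QuotientGroup.mk ⟨(k : G) * x0 * (k : G)⁻¹, hKS k k.2 x0 hx0S⟩,
    ⟨⟨(k : G) * y * (k : G)⁻¹, hKS k k.2 y hyS⟩, by
      rw [hφ]
      congr 1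
      apply Subtype.ext
      show ((k : G) * y * (k : G)⁻¹)⁻¹ * (w * (k * y * (k : G)⁻¹) * w⁻¹) = k * x0 * (k : G)⁻¹
      have h3 := hwK k k.2
      have h4 : (k : G)⁻¹ * w⁻¹ = w⁻¹ * (k : G)⁻¹ := by rw [← mul_inv_rev, h3, mul_inv_rev]
      calc ((k : G) * y * (k : G)⁻¹)⁻¹ * (w * (k * y * (k : G)⁻¹) * w⁻¹)
          = (k : G) * y⁻¹ * (k : G)⁻¹ * (w * k) * y * ((k : G)⁻¹ * w⁻¹) := by group
        _ = (k : G) * y⁻¹ * (k : G)⁻¹ * (k * w) * y * (w⁻¹ * (k : G)⁻¹) := by rw [h3, h4]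
        _ = _ := by rw [hx0]; group⟩⟩, by
      intro h
      have h3 := congrArg Subtype.val h
      have h4 : (QuotientGroup.mk (⟨(k : G) * x0 * (k : G)⁻¹, hKS k k.2 x0 hx0S⟩ : S) : S ⧸ E') = 1 := h3
      rw [QuotientGroup.eq_one_iff] at h4
      apply hx0E
      have h5 : (k : G) * x0 * (k : G)⁻¹ ∈ EE hS h2 := h4
      have h6 := hKE (k : G)⁻¹ (K.inv_mem k.2) _ h5
      have e : (k : G)⁻¹ * (k * x0 * (k : G)⁻¹) * (k : G)⁻¹⁻¹ = x0 := by group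
      rwa [e] at h6⟩
  have hFinj : Function.Injective F := by
    intro k k' h
    have h3 := congrArg (fun z => ((z : {z : φ.range // z ≠ 1}) : φ.range).1) h
    have h4 : (QuotientGroup.mk (⟨(k : G) * x0 * (k : G)⁻¹, hKS k k.2 x0 hx0S⟩ : S) : S ⧸ E') =
      QuotientGroup.mk (⟨(k' : G) * x0 * (k' : G)⁻¹, hKS k' k'.2 x0 hx0S⟩ : S) := h3
    rw [QuotientGroup.eq] at h4
    have h5 : ((k : G) * x0 * (k : G)⁻¹)⁻¹ * ((k' : G) * x0 * (k' : G)⁻¹) ∈ EE hS h2 := h4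
    have h6 := hKE (k : G)⁻¹ (K.inv_mem k.2) _ h5
    have e : (k : G)⁻¹ * (((k : G) * x0 * (k : G)⁻¹)⁻¹ * ((k' : G) * x0 * (k' : G)⁻¹)) * (k : G)⁻¹⁻¹ =
      x0⁻¹ * (((k : G)⁻¹ * k') * x0 * ((k : G)⁻¹ * k')⁻¹) := by group
    rw [e] at h6
    by_contra hne
    have hc1 : (k : G)⁻¹ * k' ≠ 1 := fun h' => hne (Subtype.ext (inv_mul_eq_one.1 h'))
    have hcK : (k : G)⁻¹ * k' ∈ K := K.mul_mem (K.inv_mem k.2) k'.2
    exact hx0E (fpf_quot (M := EE hS h2) (fun x hx => hKE _ hcK x hx)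
      (fun x hx h => hfpf _ hcK hc1 x (EE_le_Q hS h2 hx) h) (EE_le_Q hS h2) (fun x hx h => hfpf _ hcK hc1 x hx h) (hSQ hx0S) h6)
  have hFcard : Nat.card K = Nat.card {z : φ.range // z ≠ 1} := by
    have h3 := Cfsg.Agent.Lib.H26SuzW.card_ne' (1 : φ.range)
    rw [hrange] at h3
    have := card_K hS hK
    omega
  have hFsurj : Function.Surjective F := ((Nat.bijective_iff_injective_and_card F).2 ⟨hFinj, hFcard⟩).2
  -- `w x0 w⁻¹`
  obtain ⟨k0, hk0⟩ := hFsurj ⟨⟨QuotientGroup.mk ⟨w * x0 * w⁻¹, hwS x0 hx0S⟩, ⟨⟨w * y * w⁻¹, hwS y hyS⟩, by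
      rw [hφ]
      congr 1
      apply Subtype.ext
      show (w * y * w⁻¹)⁻¹ * (w * (w * y * w⁻¹) * w⁻¹) = w * x0 * w⁻¹
      rw [hx0]; group⟩⟩, by
      intro h
      have h3 := congrArg Subtype.val h
      have h4 : (QuotientGroup.mk (⟨w * x0 * w⁻¹, hwS x0 hx0S⟩ : S) : S ⧸ E') = 1 := h3
      rw [QuotientGroup.eq_one_iff] at h4
      apply hx0E
      have h5 : w * x0 * w⁻¹ ∈ EE hS h2 := h4
      have h6 := EE_conj hS h2 (inv_mem hw.1) h5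
      have e : w⁻¹ * (w * x0 * w⁻¹) * w⁻¹⁻¹ = x0 := by group
      rwa [e] at h6⟩
  have h3 := congrArg (fun z => ((z : {z : φ.range // z ≠ 1}) : φ.range).1) hk0
  have h4 : (QuotientGroup.mk (⟨(k0 : G) * x0 * (k0 : G)⁻¹, hKS k0 k0.2 x0 hx0S⟩ : S) : S ⧸ E') =
      QuotientGroup.mk (⟨w * x0 * w⁻¹, hwS x0 hx0S⟩ : S) := h3
  rw [QuotientGroup.eq] at h4
  obtain ⟨e, he⟩ : ∃ e, e = ((k0 : G) * x0 * (k0 : G)⁻¹)⁻¹ * (w * x0 * w⁻¹) := ⟨_, rfl⟩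
  have heE : e ∈ EE hS h2 := by rw [he]; exact h4
  have h5 : w * x0 * w⁻¹ = (k0 : G) * x0 * (k0 : G)⁻¹ * e := by rw [he]; group
  have hsq0 := hsq x0 hx0S
  have h6 : x0 * x0 = (k0 : G) * (x0 * x0) * (k0 : G)⁻¹ := by
    have h7 : w * (x0 * x0) * w⁻¹ = x0 * x0 := by rw [hwE _ hsq0, mul_inv_cancel_right]
    have h9 := hEc e heE _ (hKS k0 k0.2 x0 hx0S)
    calc x0 * x0 = (w * x0 * w⁻¹) * (w * x0 * w⁻¹) := h7.symm.trans (by group)
      _ = ((k0 : G) * x0 * (k0 : G)⁻¹ * e) * ((k0 : G) * x0 * (k0 : G)⁻¹ * e) := by rw [h5]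
      _ = (k0 : G) * x0 * (k0 : G)⁻¹ * (e * ((k0 : G) * x0 * (k0 : G)⁻¹)) * e := by group
      _ = (k0 : G) * x0 * (k0 : G)⁻¹ * (((k0 : G) * x0 * (k0 : G)⁻¹) * e) * e := by rw [h9]
      _ = ((k0 : G) * (x0 * x0) * (k0 : G)⁻¹) * (e * e) := by group
      _ = _ := by rw [EE_sq hS h2 heE, mul_one]
  have hk01 : (k0 : G) = 1 := by
    by_contra hne
    have h7 : (k0 : G) * (x0 * x0) = (x0 * x0) * k0 := by nth_rw 2 [h6]; group
    have h8 := hfpf k0 k0.2 hne _ (EE_le_Q hS h2 hsq0) h7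
    exact hx0E ((mem_EE_iff hS h2).2 ⟨hSQ hx0S, h8⟩)
  rw [hk01] at h5
  have h5' : w * x0 * w⁻¹ = x0 * e := by rw [h5]; group
  have he1 := coprime_step hwo (hwE e heE) (n := 1) (by rw [pow_one, pow_two, EE_sq hS h2 heE]) h5'
  rw [he1, mul_one] at h5'
  have hwx0 : w * x0 = x0 * w := by nth_rw 2 [← h5']; group
  obtain ⟨n, hn⟩ := hS2 x0 hx0S
  have hx01 := coprime_step hwo hwx0 hn (x := y) (by rw [hx0]; group)
  exact hx0E (by rw [hx01]; exact one_mem _)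

end Cfsg.Agent.Lib.H26SuzW
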