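import Cfsg.Agent.Lib.TwE6
set_option autoImplicit false
set_option linter.unusedSectionVars false
set_option linter.unusedVariables false
set_option linter.unusedSimpArgs false

/-!
The groups 2E6(q): orders, perfectness, simplicity.
-/

namespace Cfsg.Agent.Lib.TwE6
open Cfsg.Lie Cfsg.Agent.Lib.ChevX Cfsg.Agent.Lib.ChevGood Cfsg.Agent.Lib.ChevRel Cfsg.Agent.Lib.ChevNPerm
  Cfsg.Agent.Lib.ChevClosed Cfsg.Agent.Lib.ChevBruhat Cfsg.Agent.Lib.TwFix Cfsg.Agent.Lib.TwFix.TwRk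
  Cfsg.Agent.Lib.TwTab Cfsg.Agent.Lib.TwField
open scoped MatrixGroups Matrix commutatorElement

theorem chkL : tabE6.chkL lwE6 = true := by decide +kernel
theorem chkI : tabE6.chkI = true := by decide +kernel
theorem chkS : tabE6.chkS chevE6 0 56 = true := by decide +kernel
theorem chkF : tabE6.chkF chevE6 39 46 47 1 = true := by decide +kernel
def pathsP : List (List ℕ × ℕ) := [([], 0), ([], 0), ([], 0), ([], 0), ([], 0), ([], 0), ([], 0), ([], 0), ([], 0), ([], 0), ([], 0), ([], 0), ([], 0), ([], 0), ([], 0), ([], 0), ([], 0), ([], 0), ([], 0), ([], 0), ([], 0), ([], 0), ([], 0), ([], 0), ([], 0), ([], 0), ([], 0), ([], 0), ([], 0), ([], 0), ([], 0), ([], 0), ([], 0), ([], 0), ([], 0), ([], 0), ([4], 56), ([4, 0, 1], 56), ([4, 1], 56), ([3], 47), ([1, 2, 0, 1], 56), ([4, 2, 1], 56), ([0, 1], 56), ([2, 0, 1], 56), ([3, 1], 47), ([0, 1, 2, 1], 56), ([2], 47), ([], 47), ([3, 1, 2, 0, 1], 56), ([4, 3, 2,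 1], 56), ([3, 2, 0, 1], 56), ([1], 47), ([3, 0, 1, 2, 1], 56), ([2, 1], 47), ([2, 3, 0, 1, 2, 1], 56), ([1, 2, 3, 0, 1, 2, 1], 56), ([], 56), ([1], 56), ([2, 1], 56), ([1, 2, 1], 56), ([3, 0, 1], 47), ([3, 2, 1], 56), ([3, 1, 2, 1], 56), ([0, 1], 47), ([2, 3, 1, 2, 1], 56), ([2, 0, 1], 47), ([0, 1, 2, 3, 0, 1, 2, 1], 56), ([1, 2, 3, 1, 2, 1], 56), ([0, 1, 2, 3, 1, 2, 1], 56), ([1, 2, 0, 1], 47), ([2, 1, 2, 0, 1], 47), ([3, 2, 1, 2, 0, 1], 47)]
theorem chk6P : tabE6.chk6 pathsP [56, 47] = true := by decide +kernel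
theorem chkQ : tabE6.chkQ chevF4 [0, 1, 2, 3, 6, 8, 11, 4, 7, 9, 12, 10, 13, 14, 15, 18, 20, 27, 21, 28, 29, 24, 32, 25, 46, 39, 47, 37, 40, 48, 44, 51, 53, 36, 38, 41, 49, 45, 52, 54, 55, 60, 63, 65, 66, 69, 70, 71] [0, 1, 2, 3] = true := by decide +kernel

section
variable {K : Type*} [Field K] [Fintype K] {q : ℕ} (hq : IsPrimePow q) (hK : Fintype.card K = q ^ 2)

/-! ### the order of the torus -/

theorem th_mul (T : TwSys chevE6 K) {a b c d a' b' c' d' : K} (ha : a ≠ 0) (hb : b ≠ 0) (hc : c ≠ 0) (hd : d ≠ 0)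
    (ha' : a' ≠ 0) (hb' : b' ≠ 0) (hc' : c' ≠ 0) (hd' : d' ≠ 0) (q : ℕ) :
    th q (a * a') (b * b') (c * c') (d * d') = th q a b c d * th q a' b' c' d' := by
  have o1 := hpOk (c0 := a) (c1 := b) (c2 := c) (c3 := d) (c4 := c ^ q) (c5 := a ^ q)
    ⟨ha, hb, hc, hd, pow_ne_zero _ hc, pow_ne_zero _ ha⟩
  have o2 := hpOk (c0 := a') (c1 := b') (c2 := c') (c3 := d') (c4 := c' ^ q) (c5 := a' ^ q)
    ⟨ha', hb', hc', hd', pow_ne_zero _ hc', pow_ne_zero _ ha'⟩
  have haa := mul_ne_zero ha ha'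
  have hcc := mul_ne_zero hc hc'
  have o3 := hpOk (c0 := a * a') (c1 := b * b') (c2 := c * c') (c3 := d * d') (c4 := (c * c') ^ q) (c5 := (a * a') ^ q)
    ⟨haa, mul_ne_zero hb hb', hcc, mul_ne_zero hd hd', pow_ne_zero _ hcc, pow_ne_zero _ haa⟩
  unfold th hp
  rw [← mul_inv_eq_one]
  apply TwAll.diag_eq_one T (mul_mem (HP_mem G o3) (inv_mem (mul_mem (HP_mem G o1) (HP_mem G o2))))
  intro j
  have hj := G.simple_lt j j.2
  set s := chevE6.simple j with hs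
  set l1 : List (ℕ × K) := [(0, a), (1, b), (2, c), (3, d), (4, c ^ q), (5, a ^ q)] with hl1
  set l2 : List (ℕ × K) := [(0, a'), (1, b'), (2, c'), (3, d'), (4, c' ^ q), (5, a' ^ q)] with hl2
  have h12 : HP chevE6 K l1 * HP chevE6 K l2 * xg chevE6 K s ((chr chevE6 l1 s * chr chevE6 l2 s)⁻¹) *
      (HP chevE6 K l1 * HP chevE6 K l2)⁻¹ = xg chevE6 K s 1 := by
    have e1 := HP_conj G o2 hj ((chr chevE6 l1 s * chr chevE6 l2 s)⁻¹)
    have e2 := HP_conj G o1 hj (chr chevE6 l2 s * (chr chevE6 l1 s * chr chevE6 l2 s)⁻¹)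
    have e3 : chr chevE6 l1 s * (chr chevE6 l2 s * (chr chevE6 l1 s * chr chevE6 l2 s)⁻¹) = 1 := by
      have := chr_ne o1 s
      have := chr_ne o2 s
      field_simp
    rw [e3, ← e1] at e2
    rw [← e2]; group
  have h3 : chr chevE6 [(0, a * a'), (1, b * b'), (2, c * c'), (3, d * d'), (4, (c * c') ^ q), (5, (a * a') ^ q)] s =
      chr chevE6 l1 s * chr chevE6 l2 s := by
    rw [hl1, hl2]
    unfold chr
    simp only [List.map_cons, List.map_nil, List.prod_cons, List.prod_nil, mul_one]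
    rw [mul_pow, mul_pow, mul_zpow, mul_zpow, mul_zpow, mul_zpow, mul_zpow, mul_zpow]
    ring
  have h4 := HP_conj G o3 hj ((chr chevE6 l1 s * chr chevE6 l2 s)⁻¹)
  rw [h3, mul_inv_cancel₀ (mul_ne_zero (chr_ne o1 s) (chr_ne o2 s))] at h4
  show _ * xg chevE6 K s 1 * _ = xg chevE6 K s 1
  have h5 : (HP chevE6 K l1 * HP chevE6 K l2)⁻¹ * xg chevE6 K s 1 * (HP chevE6 K l1 * HP chevE6 K l2) =
      xg chevE6 K s ((chr chevE6 l1 s * chr chevE6 l2 s)⁻¹) := by
    rw [← h12]; group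
  refine Eq.trans ?_ h4
  rw [← h5]; group

/-- the units fixed by `t ↦ t^q` -/
def Fq (K : Type*) [Field K] (q : ℕ) : Subgroup Kˣ := (powMonoidHom q : Kˣ →* Kˣ).eqLocus (MonoidHom.id Kˣ)

theorem mem_Fq {u : Kˣ} : u ∈ Fq K q ↔ u ^ q = u := Iff.rfl

/-- the parametrization of the torus -/
noncomputable def thF : (Kˣ × Kˣ) × (↥(Fq K q) × ↥(Fq K q)) →* ↥(chevE6.diagonalSubgroup K ⊓ Γ0 chevE6 K tabE6 q) where
  toFun p := ⟨th q (p.1.1 : K) (p.2.1.1 : K) (p.1.2 : K) (p.2.2.1 : K),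
    th_mem hq hK p.1.1.ne_zero p.2.1.1.ne_zero p.1.2.ne_zero p.2.2.1.ne_zero
      (by have := congrArg Units.val (mem_Fq.mp p.2.1.2); simpa using this)
      (by have := congrArg Units.val (mem_Fq.mp p.2.2.2); simpa using this)⟩
  map_one' := by
    apply Subtype.ext
    show th q (1 : K) 1 1 1 = 1
    have h := th_mul (T hq hK) (one_ne_zero (α := K)) (one_ne_zero (α := K)) (one_ne_zero (α := K)) (one_ne_zero (α := K))
      (one_ne_zero (α := K)) (one_ne_zero (α := K)) (one_ne_zero (α := K)) (one_ne_zero (α := K)) q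
    rw [mul_one] at h
    exact left_eq_mul.mp h
  map_mul' p p' := by
    apply Subtype.ext
    exact th_mul (T hq hK) p.1.1.ne_zero p.2.1.1.ne_zero p.1.2.ne_zero p.2.2.1.ne_zero
      p'.1.1.ne_zero p'.2.1.1.ne_zero p'.1.2.ne_zero p'.2.2.1.ne_zero q

theorem thF_surj : Function.Surjective (thF hq hK) := by
  rintro ⟨g, hg⟩
  obtain ⟨a, b, c, d, ha, hb0, hc, hd0, hb, hd, rfl⟩ := exists_th hq hK (g := g) ⟨hg.1, (all hq hK).le hg.2⟩
  refine ⟨((Units.mk0 a ha, Units.mk0 c hc), (⟨Units.mk0 b hb0, ?_⟩, ⟨Units.mk0 d hd0, ?_⟩)), rfl⟩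
  · rw [mem_Fq]; exact Units.ext (by simpa using hb)
  · rw [mem_Fq]; exact Units.ext (by simpa using hd)

theorem thF_ker (p : (Kˣ × Kˣ) × (↥(Fq K q) × ↥(Fq K q))) : p ∈ (thF hq hK).ker ↔
    (p.1.1 ^ 3 = 1 ∧ p.1.1 ^ (q + 1) = 1) ∧ p.1.2 = p.1.1 ^ 2 ∧ p.2.1 = 1 ∧ p.2.2 = 1 := by
  obtain ⟨⟨a, c⟩, b, d⟩ := p
  rw [MonoidHom.mem_ker]
  have h1 : thF hq hK ((a, c), (b, d)) = 1 ↔ thF hq hK ((a, c), (b, d)) = thF hq hK 1 := by rw [map_one]
  rw [h1, Subtype.ext_iff]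
  show th q (a : K) (b.1 : K) (c : K) (d.1 : K) = th q 1 1 1 1 ↔ _
  unfold th
  rw [HP6 (T hq hK) ⟨a.ne_zero, b.1.ne_zero, c.ne_zero, d.1.ne_zero, pow_ne_zero _ c.ne_zero, pow_ne_zero _ a.ne_zero⟩
    ⟨one_ne_zero, one_ne_zero, one_ne_zero, one_ne_zero, pow_ne_zero _ one_ne_zero, pow_ne_zero _ one_ne_zero⟩]
  rw [one_pow]
  simp only [div_one]
  constructor
  · rintro ⟨k0, k1, k2, k3, k4, k5⟩
    obtain ⟨m0, m1, m2, m3, m4, m5⟩ := ker6 a.ne_zero (pow_ne_zero q a.ne_zero) k0 k1 k2 k3 k4 k5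
    refine ⟨⟨Units.ext (by simpa using m0), Units.ext ?_⟩, Units.ext (by simpa using m2), ?_, ?_⟩
    · rw [Units.val_pow_eq_pow_val, Units.val_one, pow_succ, m5]
      calc (a : K) ^ 2 * a = (a : K) ^ 3 := by ring
        _ = 1 := m0
    · exact Subtype.ext (Units.ext (by simpa using m1))
    · exact Subtype.ext (Units.ext (by simpa using m3))
  · rintro ⟨⟨h1, h2⟩, h3, h4, h5⟩
    have e3 : (c : K) = (a : K) ^ 2 := by
      have h3' : c = a ^ 2 := h3
      rw [h3']; simp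
    have e1 : (a : K) ^ 3 = 1 := by
      have := congrArg Units.val h1
      simpa using this
    have e2 : (a : K) ^ q = (a : K) ^ 2 := by
      have h6 : (a : K) ^ (q + 1) = 1 := by
        have := congrArg Units.val h2
        simpa using this
      apply mul_right_cancel₀ a.ne_zero
      rw [← pow_succ, h6]
      calc (1 : K) = (a : K) ^ 3 := e1.symm
        _ = _ := by ring
    have e4 : (b.1 : K) = 1 := by
      have h4' : b = 1 := h4
      rw [h4']; rfl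
    have e5 : (d.1 : K) = 1 := by
      have h5' : d = 1 := h5
      rw [h5']; rfl
    have e6 : (c : K) ^ q = (a : K) := by
      rw [e3, ← pow_mul, mul_comm, pow_mul, e2]
      calc ((a : K) ^ 2) ^ 2 = (a : K) ^ 3 * (a : K) := by ring
        _ = (a : K) := by rw [e1, one_mul]
    rw [e6, e2, e3, e4, e5]
    refine ⟨rfl, one_pow 2, ?_, ?_, ?_, ?_⟩
    · calc ((a : K) ^ 2) ^ 2 = (a : K) ^ 3 * (a : K) := by ring
        _ = (a : K) * 1 := by rw [e1, one_mul, mul_one]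
    · calc (1 : K) ^ 2 = (a : K) ^ 3 := by rw [e1, one_pow]
        _ = _ := by ring
    · ring
    · calc ((a : K) ^ 2) ^ 2 = (a : K) ^ 3 * (a : K) := by ring
        _ = (a : K) := by rw [e1, one_mul]

include hK in
theorem card_Fq (hq : IsPrimePow q) : Nat.card ↥(Fq K q) = q - 1 :=
  card_units_fix hq.pos (by norm_num) hK

theorem card_ker : Nat.card ↥(thF hq hK).ker = Nat.gcd 3 (q + 1) := by
  have h1 : Nat.card ↥(thF hq hK).ker = Nat.card ↥(powMonoidHom (Nat.gcd 3 (q + 1)) : Kˣ →* Kˣ).ker := by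
    apply Nat.card_congr
    refine
      { toFun := fun p => ⟨p.1.1.1, ?_⟩
        invFun := fun u => ⟨((u.1, u.1 ^ 2), (1, 1)), ?_⟩
        left_inv := ?_
        right_inv := ?_ }
    · have h := ((thF_ker hq hK p.1).mp p.2).1
      rw [MonoidHom.mem_ker, powMonoidHom_apply]
      have h2 := Nat.dvd_gcd (orderOf_dvd_of_pow_eq_one h.1) (orderOf_dvd_of_pow_eq_one h.2)
      exact orderOf_dvd_iff_pow_eq_one.mp h2
    · rw [thF_ker]
      have h := u.2
      rw [MonoidHom.mem_ker, powMonoidHom_apply] at h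
      have h2 := orderOf_dvd_of_pow_eq_one h
      exact ⟨⟨orderOf_dvd_iff_pow_eq_one.mp (h2.trans (Nat.gcd_dvd_left _ _)),
        orderOf_dvd_iff_pow_eq_one.mp (h2.trans (Nat.gcd_dvd_right _ _))⟩, rfl, rfl, rfl⟩
    · rintro ⟨⟨⟨a, c⟩, b, d⟩, hp⟩
      obtain ⟨-, h2, h3, h4⟩ := (thF_ker hq hK _).mp hp
      apply Subtype.ext
      simp only at h2 h3 h4 ⊢
      rw [h2, h3, h4]
    · rintro ⟨u, hu⟩
      rfl
  rw [h1, IsCyclic.card_powMonoidHom_ker, Nat.card_units, Nat.card_eq_fintype_card, hK]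
  have h2 : Nat.gcd 3 (q + 1) ∣ q ^ 2 - 1 := by
    refine (Nat.gcd_dvd_right 3 (q + 1)).trans ⟨q - 1, ?_⟩
    have := Nat.sq_sub_sq q 1
    simpa using this
  exact Nat.gcd_eq_right h2

include hq hK in
theorem card_H : Nat.gcd 3 (q + 1) * Nat.card ↥(chevE6.diagonalSubgroup K ⊓ Γ0 chevE6 K tabE6 q) =
    (q - 1) ^ 4 * (q + 1) ^ 2 := by
  have : Finite (GL chevE6.Idx K) := inferInstance
  have h1 : Nat.card ((Kˣ × Kˣ) × (↥(Fq K q) × ↥(Fq K q))) = (q ^ 2 - 1) ^ 2 * (q - 1) ^ 2 := by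
    rw [Nat.card_prod, Nat.card_prod, Nat.card_prod, card_Fq hK hq, Nat.card_units, Nat.card_eq_fintype_card, hK]
    ring
  have h2 := Subgroup.card_eq_card_quotient_mul_card_subgroup (thF hq hK).ker
  rw [h1, card_ker hq hK, Nat.card_congr (QuotientGroup.quotientKerEquivOfSurjective _ (thF_surj hq hK)).toEquiv] at h2
  rw [mul_comm, ← h2]
  have h3 : q ^ 2 - 1 = (q + 1) * (q - 1) := by
    have := Nat.sq_sub_sq q 1
    simpa using this
  rw [h3]; ring

/-! ### orders -/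

theorem card_T : ∀ r, Pos chevE6 r → Nat.card (Tset (T hq hK) r) = q ^ wtabE6.erN r := by
  refine TwTab.card_Tset (sig hq hK) chk1E6 chk2E6 chk3E6 listed (all hq hK).le
    (fun j hj => nl_mem_Γ0 (sig hq hK) chk1E6 chk2E6 (sig_e hq hK) chkJ chk3E6 hj) chk7E6 chk6E6 ?_ ?_
  · intro b hb
    have : chevE6.nroots = 72 := rfl
    rw [this]
    simp only [baseE6, List.mem_cons, List.not_mem_nil, or_false] at hb
    omega
  · intro b hb hbb
    simp only [baseE6, List.mem_cons, List.not_mem_nil, or_false] at hbb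
    rcases hbb with rfl | rfl | rfl | rfl
    · have h1 := Tset_hd_one (sig hq hK) chk1E6 chk2E6 chk3E6 listed (j := 3) (by decide) (sig_e hq hK) chkJ rfl
      have h2 : wtabE6.erN 46 = 1 := rfl
      rw [h2, pow_one]
      exact (congrArg (fun s : Set K => Nat.card s) h1).trans (card_fix hq.pos (by norm_num) hK)
    · have h1 := Tset_hd_one (sig hq hK) chk1E6 chk2E6 chk3E6 listed (j := 2) (by decide) (sig_e hq hK) chkJ rfl
      have h2 : wtabE6.erN 39 = 1 := rfl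
      rw [h2, pow_one]
      exact (congrArg (fun s : Set K => Nat.card s) h1).trans (card_fix hq.pos (by norm_num) hK)
    · have h1 := Tset_univ (sig hq hK) chk1E6 chk2E6 listed (r := ⟨56, hb⟩) (show tabE6.rh 56 ≠ 56 by decide)
      have h2 : wtabE6.erN 56 = 2 := rfl
      rw [h2, h1, Nat.card_univ, Nat.card_eq_fintype_card, hK]
    · have h1 := Tset_univ (sig hq hK) chk1E6 chk2E6 listed (r := ⟨42, hb⟩) (show tabE6.rh 42 ≠ 42 by decide)
      have h2 : wtabE6.erN 42 = 2 := rfl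
      rw [h2, h1, Nat.card_univ, Nat.card_eq_fintype_card, hK]

include hq hK in
theorem card_U : Nat.card ↥(chevE6.posUnipotent K ⊓ Γ0 chevE6 K tabE6 q) = q ^ 36 := by
  rw [card_U_tab (sig hq hK) chk1E6 chk2E6 chk3E6 listed chk4E6 chk5E6 hp0 (all hq hK).le
    (fun j hj => nl_mem_Γ0 (sig hq hK) chk1E6 chk2E6 (sig_e hq hK) chkJ chk3E6 hj) (all hq hK) chk7E6 (card_T hq hK)]
  congr 1

include hq hK in
theorem card_Γ : Nat.card ↥(Γ0 chevE6 K tabE6 q) = q ^ 36 *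
    Nat.card ↥(chevE6.diagonalSubgroup K ⊓ Γ0 chevE6 K tabE6 q) * (cntE6.zipIdx.map fun x => x.1 * q ^ x.2).sum := by
  rw [card_Γ_tab (sig hq hK) chk1E6 chk2E6 chk3E6 listed chk4E6 chk5E6 hp0 (all hq hK).le
    (fun j hj => nl_mem_Γ0 (sig hq hK) chk1E6 chk2E6 (sig_e hq hK) chkJ chk3E6 hj) (all hq hK) chk7E6 bsE6 kokE6
    (card_T hq hK), card_U hq hK,
    sum_of_cnt (N := 1152) (M := 37) rfl exallE6 cnt_eqE6 exps_ltE6]

/-! ### perfectness -/

include hq hK in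
theorem exists_sq_ne : ∃ a : K, a ≠ 0 ∧ a ^ 2 ≠ 1 := by
  classical
  by_contra hcon
  push Not at hcon
  have h1 : (Finset.univ : Finset K) ⊆ {0, 1, -1} := by
    intro a _
    by_cases ha : a = 0
    · simp [ha]
    · have h2 := hcon a ha
      rcases mul_eq_zero.mp (show (a - 1) * (a + 1) = 0 by linear_combination h2) with h | h
      · simp [sub_eq_zero.mp h]
      · simp [eq_neg_of_add_eq_zero_left h]
  have h2 := Finset.card_le_card h1
  have h3 : ({0, 1, -1} : Finset K).card ≤ 3 := Finset.card_le_three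
  rw [Finset.card_univ, hK] at h2
  have h4 : 2 ^ 2 ≤ q ^ 2 := Nat.pow_le_pow_left hq.two_le 2
  omega

include hq hK in
theorem perf : commutator ↥(Γ0 chevE6 K tabE6 q) = ⊤ := by
  obtain ⟨a, ha, ha2⟩ := exists_sq_ne hq hK
  have hr : chevE6.rank = 6 := rfl
  have o1 := hpOk (c0 := a) (c1 := 1) (c2 := 1) (c3 := 1) (c4 := 1 ^ q) (c5 := a ^ q)
    ⟨ha, one_ne_zero, one_ne_zero, one_ne_zero, pow_ne_zero _ one_ne_zero, pow_ne_zero _ ha⟩
  refine perfGF (sig hq hK) chk1E6 chk2E6 chk3E6 listed (sig_e hq hK) chkJ chk4E6 chk5E6 (all hq hK) chk6P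
    (by decide) (by decide) (by decide) chkS chkF chkL
    (th_mem hq hK ha one_ne_zero one_ne_zero one_ne_zero (one_pow q) (one_pow q)) (χ := a ^ 2) ?_ ha2
  intro t
  unfold th hp
  rw [HP_conj G o1 (show 56 < chevE6.nroots by decide)]
  congr 2
  have h1 := chr6 [(0, a), (1, 1), (2, 1), (3, (1 : K)), (4, 1 ^ q), (5, a ^ q)] 0 (by simp) (by norm_num)
  have h2 : chevE6.simple 0 = 56 := rfl
  rw [h2] at h1
  rw [h1]
  simp [cm]

end

end Cfsg.Agent.Lib.TwE6
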