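import Cfsg.Agent.Lib.H26TwD4B
import Cfsg.Agent.Lib.TwE6End

/-! Multiplier of `²E₆(q)`, `q ≥ 3`: the upper bound (helper26). -/

set_option autoImplicit false
set_option linter.unusedSectionVars false
set_option linter.unusedVariables false

universe u

namespace Cfsg.Agent.Lib.TwE6
open Cfsg.Lie Cfsg.Agent.Lib.ChevX Cfsg.Agent.Lib.ChevGood Cfsg.Agent.Lib.ChevRel Cfsg.Agent.Lib.ChevNPerm
  Cfsg.Agent.Lib.ChevClosed Cfsg.Agent.Lib.ChevBruhat Cfsg.Agent.Lib.TwFix Cfsg.Agent.Lib.TwFix.TwRk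
  Cfsg.Agent.Lib.TwTab Cfsg.Agent.Lib.TwField Cfsg.Agent.Lib.H26TwDig Cfsg.Agent.Lib.H26TwB
open Cfsg.Agent.Lib.SchurSylow
open scoped MatrixGroups Matrix

/-- parameters -/
def parE6 : List (ℤ × ℤ × ℤ × ℤ × ℤ × ℤ) := [(0, 0, -1, 0, 0, 0), (-1, 0, 0, 0, 0, 0), (0, 0, 0, 0, 0, -1),
  (0, 0, -1, -1, -1, -1), (-1, 0, 0, -1, 0, 0), (-1, -1, 0, -1, -1, -1), (0, 0, 0, -1, 0, 0)]

/-- digits of the characters -/
def EP (p : ℤ × ℤ × ℤ × ℤ × ℤ × ℤ) (s : ℕ) : List ℤ :=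
  [p.1 * chevE6.cartan 0 s + p.2.1 * chevE6.cartan 5 s + p.2.2.1 * chevE6.cartan 1 s +
    p.2.2.2.1 * chevE6.cartan 2 s + p.2.2.2.2.1 * chevE6.cartan 4 s + p.2.2.2.2.2 * chevE6.cartan 3 s,
   p.2.1 * chevE6.cartan 0 s + p.1 * chevE6.cartan 5 s + p.2.2.1 * chevE6.cartan 1 s +
    p.2.2.2.2.1 * chevE6.cartan 2 s + p.2.2.2.1 * chevE6.cartan 4 s + p.2.2.2.2.2 * chevE6.cartan 3 s]

def EE6 (i s : ℕ) : List ℤ := EP (parE6.getD i (0, 0, 0, 0, 0, 0)) s

def goodE6 (l : List ℤ) : Bool := [[1, 0], [-1, 0], [0, 1], [0, -1]].contains l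

def rpE6 : List ℕ := [0, 0, 0, 0, 0, 0, 0, 0, 0, 0, 0, 0, 0, 0, 0, 0, 0, 0, 0, 0, 0, 0, 0, 0, 46, 39, 47, 37, 40, 48, 44, 51,
  53, 36, 38, 41, 49, 45, 52, 54, 55, 60, 63, 65, 66, 69, 70, 71]

theorem chkE : tabE6.chkE chevE6 2 7 EE6 goodE6 rpE6 71 46 70 = true := by decide +kernel

theorem chkInv6 : tabE6.chkInv = true := by decide +kernel

section
variable {K : Type u} [Field K] [Fintype K] {q : ℕ} (hq : IsPrimePow q) (hK : Fintype.card K = q ^ 2)

include hq hK in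
theorem torE6 (p : ℤ × ℤ × ℤ × ℤ × ℤ × ℤ) (z : K) (hz : z ≠ 0) : ∃ h ∈ chevE6.diagonalSubgroup K ⊓ Γ0 chevE6 K tabE6 q,
    ∀ r : Fin chevE6.nroots, Acts chevE6 h r (z ^ val q (EP p r)) := by
  obtain ⟨a0, a1, b0, c0, c1, d0⟩ := p
  have hF : Nat.card K = q ^ 2 := by rw [Nat.card_eq_fintype_card, hK]
  set A : ℤ := a0 + q * a1 with hA
  set B : ℤ := b0 * (1 + q) with hB
  set C : ℤ := c0 + q * c1 with hC
  set E : ℤ := d0 * (1 + q) with hE
  have ha : z ^ A ≠ 0 := zpow_ne_zero _ hz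
  have hb : z ^ B ≠ 0 := zpow_ne_zero _ hz
  have hc : z ^ C ≠ 0 := zpow_ne_zero _ hz
  have hd : z ^ E ≠ 0 := zpow_ne_zero _ hz
  have hbq : (z ^ B) ^ q = z ^ B := by
    rw [← zpow_natCast, ← zpow_mul]
    refine zpow_red hF hz (K := b0) ?_
    rw [hB]; ring
  have hdq : (z ^ E) ^ q = z ^ E := by
    rw [← zpow_natCast, ← zpow_mul]
    refine zpow_red hF hz (K := d0) ?_
    rw [hE]; ring
  refine ⟨th q (z ^ A) (z ^ B) (z ^ C) (z ^ E), th_mem hq hK ha hb hc hd hbq hdq, fun r t => ?_⟩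
  have hok := hpOk (c0 := z ^ A) (c1 := z ^ B) (c2 := z ^ C) (c3 := z ^ E) (c4 := (z ^ C) ^ q) (c5 := (z ^ A) ^ q)
    ⟨ha, hb, hc, hd, pow_ne_zero _ hc, pow_ne_zero _ ha⟩
  have h1 := HP_conj G hok r.2 t
  unfold th hp
  rw [h1]
  congr 2
  unfold chr
  simp only [List.map_cons, List.map_nil, List.prod_cons, List.prod_nil, mul_one]
  rw [← zpow_natCast (z ^ A) q, ← zpow_natCast (z ^ C) q, ← zpow_mul, ← zpow_mul, ← zpow_mul, ← zpow_mul,
    ← zpow_mul, ← zpow_mul, ← zpow_mul, ← zpow_mul, ← zpow_add₀ hz, ← zpow_add₀ hz, ← zpow_add₀ hz,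
    ← zpow_add₀ hz, ← zpow_add₀ hz]
  refine zpow_red hF hz (K := c1 * chevE6.cartan 4 r + a1 * chevE6.cartan 5 r) ?_
  simp only [EP, val]
  rw [hA, hB, hC, hE]
  ring

theorem copE6 (q : ℕ) (l : List ℤ) (hl : goodE6 l = true) : IsCoprime (val q l) ((q : ℤ) ^ 2 - 1) := by
  have hl' : l ∈ ([[1, 0], [-1, 0], [0, 1], [0, -1]] : List (List ℤ)) := List.contains_iff_mem.mp hl
  simp only [List.mem_cons, List.not_mem_nil, or_false] at hl'
  rcases hl' with rfl | rfl | rfl | rfl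
  · exact ⟨1, 0, by simp only [val]; ring⟩
  · exact ⟨-1, 0, by simp only [val]; ring⟩
  · exact ⟨q, -1, by simp only [val]; ring⟩
  · exact ⟨-q, -1, by simp only [val]; ring⟩

include hq hK in
theorem cop_H {p : ℕ} [hp : Fact p.Prime] [CharP K p] :
    (Nat.card ↥(chevE6.diagonalSubgroup K ⊓ Γ0 chevE6 K tabE6 q)).Coprime p := by
  have hpq : p ∣ q := by
    obtain ⟨n, -, hn⟩ := FiniteField.card K p
    rw [hK] at hn
    have h1 : p ∣ q ^ 2 := by rw [hn]; exact dvd_pow_self p n.ne_zero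
    exact hp.out.dvd_of_dvd_pow h1
  have hq0 := hq.pos
  have c1 : (q - 1).Coprime p := by
    refine Nat.Coprime.coprime_dvd_right hpq ?_
    have h2 : (q - 1 + 1).Coprime (q - 1) := by
      rw [Nat.coprime_self_add_left]; exact Nat.coprime_one_left _
    rw [Nat.sub_add_cancel hq0] at h2
    exact h2.symm
  have c2 : (q + 1).Coprime p := by
    refine Nat.Coprime.coprime_dvd_right hpq ?_
    rw [Nat.coprime_self_add_left]; exact Nat.coprime_one_left _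
  have h1 : ((q - 1) ^ 4 * (q + 1) ^ 2).Coprime p := Nat.Coprime.mul_left (c1.pow_left 4) (c2.pow_left 2)
  rw [← card_H hq hK] at h1
  exact Nat.Coprime.coprime_mul_left h1

include hq hK in
/-- **the multiplier of `²E₆(q)`, `q ≥ 3`: the `p`-part** -/
theorem pStemDvd_char (hq3 : 3 ≤ q) {p : ℕ} [Fact p.Prime] [CharP K p] : PStemDvd p ↥(twistedE6 K q) 1 := by
  rw [twisted_eq (hT hK)]
  have hF : Nat.card K = q ^ 2 := by rw [Nat.card_eq_fintype_card, hK]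
  exact pStemDvd_p_GF (sig hq hK) chk1E6 chk2E6 chk3E6 listed (sig_e hq hK) chkJ chk4E6 chk5E6
    (all hq hK) (Or.inl rfl) hq3 hF chkE (fun i _ z hz => torE6 hq hK _ z hz) (copE6 q)
    (ChevBlocks.isPGroup_posUnipotent p G) (cop_H hq hK)

/-! ### the part prime to the characteristic -/

include hq hK in
theorem hBH6 : ∀ j < tabE6.nz, ∀ p : K, p ≠ 0 → p ^ q ^ (tabE6.jwN j).length = p →
    BH chevE6 K q ((tabE6.jwN j).map tabE6.sim) p = 1 → p = 1 := by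
  intro j hj p hp hpq h
  have h0 : HOk chevE6 ([] : List (ℕ × K)) := by intro x hx; simp at hx
  have hone : HP chevE6 K ([] : List (ℕ × K)) = 1 := rfl
  -- it suffices to look at one adjacent root
  have key : ∀ (J : List ℕ) (i m : ℕ), (∀ x ∈ J, x < chevE6.rank) → m < chevE6.rank →
      (∀ x : K, x ≠ 0 → chr chevE6 (J.zipIdx.map fun y => (y.1, x ^ q ^ y.2)) (chevE6.simple m) = (x ^ q ^ i)⁻¹) →
      p ^ q ^ i = p ∨ i = 0 →
      BH chevE6 K q (J.map tabE6.sim) p = 1 → p = 1 := by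
    intro J i m hJ hm hc hpi hB
    have e := BH_eq_HP (D := chevE6) (F := K) (C := tabE6) chk1E6 q hJ p
    rw [e, ← hone] at hB
    have hOk : HOk chevE6 (J.zipIdx.map fun y => (y.1, p ^ q ^ y.2)) := by
      intro x hx
      obtain ⟨y, hy, rfl⟩ := List.mem_map.mp hx
      exact ⟨hJ _ (List.fst_mem_of_mem_zipIdx hy), pow_ne_zero _ hp⟩
    rw [HP_eq_iff G (T hq hK) hOk h0] at hB
    have h1 := hB m hm
    rw [hc p hp] at h1
    have h2 : chr chevE6 ([] : List (ℕ × K)) (chevE6.simple m) = 1 := rfl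
    rw [h2, inv_eq_one] at h1
    rcases hpi with h3 | h3
    · rw [← h3]; exact h1
    · rw [h3, pow_zero, pow_one] at h1; exact h1
  have hj4 : j < 4 := hj
  have hr : chevE6.rank = 6 := rfl
  have hchr : ∀ (J : List ℕ) (x : K) (m : ℕ), (∀ y ∈ J, y < 6) → m < 6 →
      chr chevE6 (J.zipIdx.map fun y => (y.1, x ^ q ^ y.2)) (chevE6.simple m) =
      ((J.zipIdx.map fun y => (y.1, x ^ q ^ y.2)).map fun y => y.2 ^ (cm y.1 m)).prod := by
    intro J x m hJ hm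
    refine chr6 _ m ?_ hm
    intro y hy
    obtain ⟨w, hw, rfl⟩ := List.mem_map.mp hy
    exact hJ _ (List.fst_mem_of_mem_zipIdx hw)
  interval_cases j
  · refine key [0, 5] 0 2 (by rw [hr]; simp) (by rw [hr]; norm_num) ?_ (Or.inr rfl) h
    intro x hx
    rw [hchr _ _ _ (by simp) (by norm_num)]
    simp [List.zipIdx, cm]
  · refine key [2, 4] 0 0 (by rw [hr]; simp) (by rw [hr]; norm_num) ?_ (Or.inr rfl) h
    intro x hx
    rw [hchr _ _ _ (by simp) (by norm_num)]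
    simp [List.zipIdx, cm]
  · refine key [3] 0 1 (by rw [hr]; simp) (by rw [hr]; norm_num) ?_ (Or.inr rfl) h
    intro x hx
    rw [hchr _ _ _ (by simp) (by norm_num)]
    simp [List.zipIdx, cm]
  · refine key [1] 0 3 (by rw [hr]; simp) (by rw [hr]; norm_num) ?_ (Or.inr rfl) h
    intro x hx
    rw [hchr _ _ _ (by simp) (by norm_num)]
    simp [List.zipIdx, cm]

include hq hK in
theorem card_FF2 : Nat.card ↥(FF ((frob hq hK : K ≃+* K) : K →+* K) 2) = q ^ 2 := by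
  have h : FF ((frob hq hK : K ≃+* K) : K →+* K) 2 = ⊤ := by
    ext t
    rw [mem_FF (q := q) _ (fun t => frob_eq hq hK t)]
    simpa using hT hK t
  rw [h, Nat.card_congr Subfield.topEquiv.toEquiv, Nat.card_eq_fintype_card, hK]

include hq hK in
theorem card_FF1 : Nat.card ↥(FF ((frob hq hK : K ≃+* K) : K →+* K) 1) = q := by
  refine Eq.trans ?_ (card_fix (K := K) hq.pos (n := 2) (by norm_num) hK)
  apply Nat.card_congr
  refine Equiv.subtypeEquivRight (fun t => ?_)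
  rw [mem_FF (q := q) _ (fun t => frob_eq hq hK t), pow_one]
  rfl

include hq hK in
theorem pStemDvd_prime_to {p : ℕ} [Fact p.Prime] [CharP K p] {r : ℕ} (hr : r.Prime) (hrp : r ≠ p) :
    PStemDvd r ↥(twistedE6 K q) (Nat.gcd 3 (q + 1)) := by
  rw [twisted_eq (hT hK)]
  intro Δ _ _ σ hσ hk
  have h1 := card_ker_dvd_GF (F := K) (sig hq hK) chk1E6 chk2E6 chk3E6 listed (sig_e hq hK) chkJ chk4E6 chk5E6 chkInv6
    (hone hK) (all hq hK) ((frob hq hK : K ≃+* K) : K →+* K) (fun t => frob_eq hq hK t) (hBH6 hq hK)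
    (ChevBlocks.isPGroup_posUnipotent p G) σ hr hrp hσ hk
  have h2 : ∏ j : Fin tabE6.nz, (Nat.card ↥(FF ((frob hq hK : K ≃+* K) : K →+* K) (tabE6.jwN j).length) - 1) =
      (q - 1) ^ 4 * (q + 1) ^ 2 := by
    have : ∏ j : Fin 4, (Nat.card ↥(FF ((frob hq hK : K ≃+* K) : K →+* K) (tabE6.jwN j).length) - 1) =
      (q - 1) ^ 4 * (q + 1) ^ 2 := by
      rw [Fin.prod_univ_four]
      have a1 : (tabE6.jwN ((0 : Fin 4) : ℕ)).length = 2 := rfl
      have a2 : (tabE6.jwN ((1 : Fin 4) : ℕ)).length = 2 := rfl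
      have a3 : (tabE6.jwN ((2 : Fin 4) : ℕ)).length = 1 := rfl
      have a4 : (tabE6.jwN ((3 : Fin 4) : ℕ)).length = 1 := rfl
      rw [a1, a2, a3, a4, card_FF2 hq hK, card_FF1 hq hK]
      have h3 : q ^ 2 - 1 = (q + 1) * (q - 1) := by
        have := Nat.sq_sub_sq q 1
        simpa using this
      rw [h3]; ring
    exact this
  have h3 : Nat.card ↥((chevE6.diagonalSubgroup K).subgroupOf (Γ0 chevE6 K tabE6 q)) =
      Nat.card ↥(chevE6.diagonalSubgroup K ⊓ Γ0 chevE6 K tabE6 q) := by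
    rw [← Subgroup.inf_subgroupOf_right]
    exact Nat.card_congr (Subgroup.subgroupOfEquivOfLe inf_le_right).toEquiv
  rw [h2, h3, ← card_H hq hK] at h1
  exact Nat.dvd_of_mul_dvd_mul_right Nat.card_pos h1

include hq hK in
/-- **upper bound** -/
theorem stemDvd (hq3 : 3 ≤ q) : StemDvd ↥(twistedE6 K q) (Nat.gcd 3 (q + 1)) := by
  obtain ⟨p, hp⟩ := CharP.exists K
  haveI := hp
  haveI : Fact p.Prime := ⟨(CharP.char_is_prime_or_zero K p).resolve_right (CharP.char_ne_zero_of_finite K p)⟩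
  apply StemDvd.of_forall
  intro r hr
  by_cases hrp : r = p
  · subst hrp
    exact (pStemDvd_char hq hK hq3).mono (one_dvd _)
  · exact pStemDvd_prime_to hq hK hr hrp

end
end Cfsg.Agent.Lib.TwE6
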