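import Mathlib
import Cfsg.Agent.Lib.H30InvC
import Cfsg.Agent.Lib.SL25
import Cfsg.Agent.S0205

/-! Theorem L unconditionally and the case of three involutions. (helper30) -/

set_option autoImplicit false

open Subgroup

universe u

namespace Cfsg.Agent.Lib.H30InvD

open H50Out

/-- **Theorem L**: automorphisms of a finite 2-group centralizing all its involutions form a solvable group. -/
theorem inv_solvable {S : Type u} [Group S] [Finite S] (h2 : IsPGroup 2 S)
    (A : Subgroup (MulAut S)) (hA : ∀ φ ∈ A, ∀ s, s * s = 1 → φ s = s) : Group.IsSolvable A :=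
  H30InvC.main (fun h => Cfsg.Agent.S0205.result h) _ S rfl h2 A hA

/-- permutation action on the involutions -/
def permInv (X : Type u) [Group X] : MulAut X →* Equiv.Perm {x : X // orderOf x = 2} where
  toFun φ :=
    { toFun := fun x => ⟨φ x, by rw [MulEquiv.orderOf_eq]; exact x.2⟩
      invFun := fun x => ⟨φ⁻¹ x, by rw [MulEquiv.orderOf_eq]; exact x.2⟩
      left_inv := fun x => Subtype.ext (by simp)
      right_inv := fun x => Subtype.ext (by simp) }
  map_one' := rfl
  map_mul' := fun φ ψ => rfl

theorem three {X : Type u} [Group X] [Finite X] (h2 : IsPGroup 2 X)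
    (h3 : Nat.card {x : X // orderOf x = 2} = 3) : Group.IsSolvable (MulAut X) := by
  refine isSolvable_of_ker (permInv X) ?_ ?_
  · apply inv_solvable h2
    intro φ hφ s hs
    by_cases h1 : s = 1
    · rw [h1, map_one]
    · have ho : orderOf s = 2 := orderOf_eq_prime (by rw [pow_two]; exact hs) h1
      have h4 := DFunLike.congr_fun (MonoidHom.mem_ker.1 hφ) ⟨s, ho⟩
      exact congrArg Subtype.val h4
  · have hc : Nat.card (Equiv.Perm {x : X // orderOf x = 2}) = 6 := by
      rw [Nat.card_perm, h3]; rfl
    have hd : Nat.card (permInv X).range ∣ 6 := hc ▸ Subgroup.card_subgroup_dvd_card _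
    apply SL25.solvable_of_dvd_sixty (hd.trans (by norm_num))
    intro h
    have := Nat.le_of_dvd (by norm_num) hd
    omega

end Cfsg.Agent.Lib.H30InvD
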