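import Mathlib
import Cfsg.Agent.S0215

/-!
# Automorphisms centralizing a Sylow 2-subgroup (Glauberman)
-/

set_option autoImplicit false

open Subgroup

namespace Cfsg.Agent.Lib.H3CentSylow

/-- `X = N ⋊ A`, `A` a subgroup of the Sylow 2-subgroup `P` centralizing `P ⊓ N`. -/
structure Cfg {X : Type*} [Group X] (N A : Subgroup X) (P : Sylow 2 X) : Prop where
  normal : N.Normal
  le : A ≤ (P : Subgroup X)
  inf : N ⊓ A = ⊥
  mul : ∀ x : X, ∃ n ∈ N, ∃ a ∈ A, x = n * a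
  comm : ∀ a ∈ A, ∀ s ∈ (P : Subgroup X) ⊓ N, a * s = s * a

namespace Cfg

variable {X : Type*} [Group X] {N A : Subgroup X} {P : Sylow 2 X} (h : Cfg N A P)

include h

theorem eq_of_mod {a b : X} (ha : a ∈ A) (hb : b ∈ A) (hab : a⁻¹ * b ∈ N) : a = b := by
  have h1 : a⁻¹ * b ∈ N ⊓ A := ⟨hab, A.mul_mem (A.inv_mem ha) hb⟩
  rw [h.inf, mem_bot, inv_mul_eq_one] at h1
  exact h1

theorem decomp {x : X} (hx : x ∈ (P : Subgroup X)) :
    ∃ s ∈ (P : Subgroup X) ⊓ N, ∃ a ∈ A, x = s * a := by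
  obtain ⟨n, hn, a, ha, rfl⟩ := h.mul x
  refine ⟨n, ⟨?_, hn⟩, a, ha, rfl⟩
  have := (P : Subgroup X).mul_mem hx ((P : Subgroup X).inv_mem (h.le ha))
  rwa [mul_inv_cancel_right] at this

/-- A conjugate in `P` of an element `z` central in `A`. -/
theorem conj_eq {z : X} (hz : z ∈ A) (hzA : ∀ a ∈ A, a * z = z * a) {g : X}
    (hg : g * z * g⁻¹ ∈ (P : Subgroup X)) : ∃ s ∈ (P : Subgroup X) ⊓ N, g * z * g⁻¹ = z * s := by
  obtain ⟨n, hn, a, ha, rfl⟩ := h.mul g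
  have h1 : n * a * z * (n * a)⁻¹ = n * z * n⁻¹ := by
    have : n * a * z * (n * a)⁻¹ = n * (a * z) * a⁻¹ * n⁻¹ := by group
    rw [this, hzA a ha]; group
  rw [h1] at hg ⊢
  have hN := h.normal
  refine ⟨z⁻¹ * (n * z * n⁻¹), ⟨(P : Subgroup X).mul_mem ((P : Subgroup X).inv_mem (h.le hz)) hg, ?_⟩,
    by group⟩
  have h2 : z⁻¹ * n * z ∈ N := by
    have := hN.conj_mem n hn z⁻¹
    rwa [inv_inv] at this
  have h3 : z⁻¹ * (n * z * n⁻¹) = (z⁻¹ * n * z) * n⁻¹ := by group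
  rw [h3]
  exact N.mul_mem h2 (N.inv_mem hn)

theorem conj_N {k : X} (hk : k ∈ N) {a : X} (ha : a ∈ A) (hka : k * a * k⁻¹ ∈ (P : Subgroup X)) :
    a⁻¹ * (k * a * k⁻¹) ∈ (P : Subgroup X) ⊓ N := by
  have hN := h.normal
  refine ⟨(P : Subgroup X).mul_mem ((P : Subgroup X).inv_mem (h.le ha)) hka, ?_⟩
  have h2 : a⁻¹ * k * a ∈ N := by
    have := hN.conj_mem k hk a⁻¹
    rwa [inv_inv] at this
  have h3 : a⁻¹ * (k * a * k⁻¹) = (a⁻¹ * k * a) * k⁻¹ := by group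
  rw [h3]
  exact N.mul_mem h2 (N.inv_mem hk)

end Cfg

/-- The key element `k`. -/
structure Key {X : Type*} [Group X] (N A : Subgroup X) (P : Sylow 2 X) (z s' : X) (R : Subgroup X)
    (k : X) : Prop where
  kN : k ∈ N
  kA : ∀ a ∈ A, k * a * k⁻¹ ∈ (P : Subgroup X)
  ne : s' ≠ 1
  sR : s' ∈ R
  R_eq : R = (P : Subgroup X) ⊓ N ⊓ centralizer {s'}
  kz : k * z * k⁻¹ = z * s'⁻¹
  zeta : ∀ a ∈ A, a⁻¹ * (k * a * k⁻¹) ∈ R ∧ ∀ r ∈ R, a⁻¹ * (k * a * k⁻¹) * r = r * (a⁻¹ * (k * a * k⁻¹))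
  Rk : ∀ r ∈ R, k⁻¹ * r * k ∈ (P : Subgroup X) ⊓ N
  max : ∀ s ∈ (P : Subgroup X) ⊓ N, s ≠ 1 → (∃ g : X, g * z * g⁻¹ = z * s) →
    Nat.card ↥((P : Subgroup X) ⊓ N ⊓ centralizer {s}) ≤ Nat.card R

theorem exists_key {X : Type*} [Group X] [Finite X] {N A : Subgroup X} {P : Sylow 2 X}
    (h : Cfg N A P) {z : X} (hz : z ∈ A) (hzA : ∀ a ∈ A, a * z = z * a)
    (hne : ∃ g : X, g * z * g⁻¹ ∈ (P : Subgroup X) ∧ g * z * g⁻¹ ≠ z) :
    ∃ (s' : X) (R : Subgroup X) (k : X), Key N A P z s' R k := by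
  classical
  have hN := h.normal
  set S : Subgroup X := (P : Subgroup X) ⊓ N with hS
  let Sg : Set X := {s | s ∈ S ∧ s ≠ 1 ∧ ∃ g : X, g * z * g⁻¹ = z * s}
  have hSg : Sg.Nonempty := by
    obtain ⟨g, hg, hg1⟩ := hne
    obtain ⟨s, hs, hs1⟩ := h.conj_eq hz hzA hg
    refine ⟨s, hs, ?_, g, hs1⟩
    rintro rfl
    rw [mul_one] at hs1
    exact hg1 hs1
  obtain ⟨s, ⟨hsS, hs1, g, hg⟩, hmax⟩ := Set.exists_max_image Sg
    (fun s => Nat.card ↥(S ⊓ centralizer {s})) (Set.toFinite _) hSg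
  -- `z` is central in `P`
  have hzP : ∀ x ∈ (P : Subgroup X), x * z = z * x := by
    intro x hx
    obtain ⟨t, ht, a, ha, rfl⟩ := h.decomp hx
    rw [mul_assoc, hzA a ha, ← mul_assoc, ← h.comm z hz t ht, mul_assoc]
  -- the 2-group `D = C_S(s) A`
  have hsz : s * z = z * s := hzP s hsS.1
  set D : Subgroup X := (S ⊓ centralizer {s}) ⊔ A with hD
  have hDP : D ≤ (P : Subgroup X) := sup_le (inf_le_left.trans inf_le_left) h.le
  have hDc : D ≤ centralizer {z * s} := by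
    refine sup_le ?_ ?_
    · rintro x ⟨hx1, hx2⟩
      rw [mem_centralizer_singleton_iff]
      have h1 : x * s = s * x := mem_centralizer_singleton_iff.mp hx2
      have h2 : x * z = z * x := hzP x hx1.1
      calc x * (z * s) = x * z * s := by group
        _ = z * (x * s) := by rw [h2]; group
        _ = z * s * x := by rw [h1]; group
    · intro a ha
      rw [mem_centralizer_singleton_iff]
      have h1 : a * s = s * a := h.comm a ha s hsS
      have h2 : a * z = z * a := hzA a ha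
      calc a * (z * s) = a * z * s := by group
        _ = z * (a * s) := by rw [h2]; group
        _ = z * s * a := by rw [h1]; group
  -- Sylow in `C(z)`
  have hPC : (P : Subgroup X) ≤ centralizer {z} := fun x hx => by
    rw [mem_centralizer_singleton_iff]; exact hzP x hx
  let PC : Sylow 2 (centralizer ({z} : Set X)) := P.subtype hPC
  have hD2 : ∀ x ∈ D, g⁻¹ * x * g ∈ centralizer ({z} : Set X) := by
    intro x hx
    rw [mem_centralizer_singleton_iff]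
    have h1 : x * (z * s) = z * s * x := mem_centralizer_singleton_iff.mp (hDc hx)
    rw [← hg] at h1
    calc g⁻¹ * x * g * z = g⁻¹ * (x * (g * z * g⁻¹)) * g := by group
      _ = g⁻¹ * (g * z * g⁻¹ * x) * g := by rw [h1]
      _ = z * (g⁻¹ * x * g) := by group
  let D' : Subgroup (centralizer ({z} : Set X)) :=
    (D.map (MulAut.conj g⁻¹).toMonoidHom).subgroupOf (centralizer {z})
  have hD'p : IsPGroup 2 D' := by
    have h1 : IsPGroup 2 (D.map (MulAut.conj g⁻¹).toMonoidHom) := (P.isPGroup'.to_le hDP).map _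
    exact h1.comap_subtype
  obtain ⟨Q, hQ⟩ := hD'p.exists_le_sylow
  obtain ⟨c, hc⟩ := MulAction.exists_smul_eq (centralizer ({z} : Set X)) Q PC
  have hk : ∀ x ∈ D, (c : X) * (g⁻¹ * x * g) * (c : X)⁻¹ ∈ (P : Subgroup X) := by
    intro x hx
    have h1 : (⟨g⁻¹ * x * g, hD2 x hx⟩ : centralizer ({z} : Set X)) ∈ D' := by
      rw [mem_subgroupOf]
      refine ⟨x, hx, ?_⟩
      simp [MulAut.conj_apply]
    have h2 := hQ h1
    have h3 : c * ⟨g⁻¹ * x * g, hD2 x hx⟩ * c⁻¹ ∈ PC := by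
      rw [← hc]
      change _ ∈ (c • Q : Sylow 2 _)
      rw [Sylow.smul_def]
      exact (Subgroup.smul_mem_pointwise_smul_iff (a := MulAut.conj c)).mpr h2
    exact h3
  -- choose `k ∈ N`
  obtain ⟨n, hn, a₀, ha₀, hcg⟩ := h.mul ((c : X) * g⁻¹)
  have hcz : (c : X) * z = z * c := mem_centralizer_singleton_iff.mp c.2
  obtain ⟨n', hn', a₁, ha₁, hcg'⟩ : ∃ n' ∈ N, ∃ a₁ ∈ A, (c : X) * g⁻¹ = a₁ * n' := by
    refine ⟨a₀⁻¹ * n * a₀, ?_, a₀, ha₀, by rw [hcg]; group⟩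
    have := hN.conj_mem n hn a₀⁻¹
    rwa [inv_inv] at this
  set k := n' with hkdef
  have hkc : k = a₁⁻¹ * ((c : X) * g⁻¹) := by rw [hcg']; group
  have hkD : ∀ x ∈ D, k * x * k⁻¹ ∈ (P : Subgroup X) := by
    intro x hx
    have h1 := hk x hx
    have h2 : k * x * k⁻¹ = a₁⁻¹ * ((c : X) * (g⁻¹ * x * g) * (c : X)⁻¹) * a₁ := by
      rw [hkc]; group
    rw [h2]
    exact (P : Subgroup X).mul_mem ((P : Subgroup X).mul_mem ((P : Subgroup X).inv_mem (h.le ha₁)) h1)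
      (h.le ha₁)
  have hky : k * (z * s) * k⁻¹ = z := by
    rw [hkc, ← hg]
    have h1 : a₁⁻¹ * ((c : X) * g⁻¹) * (g * z * g⁻¹) * (a₁⁻¹ * ((c : X) * g⁻¹))⁻¹ =
        a₁⁻¹ * ((c : X) * z) * (c : X)⁻¹ * a₁ := by group
    rw [h1, hcz]
    have h2 : a₁ * z = z * a₁ := hzA a₁ ha₁
    calc a₁⁻¹ * (z * c) * (c : X)⁻¹ * a₁ = a₁⁻¹ * (z * a₁) := by group
      _ = z := by rw [← h2]; group
  set s' := k * s * k⁻¹ with hs'
  set R : Subgroup X := (S ⊓ centralizer {s}).map (MulAut.conj k).toMonoidHom with hR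
  have hmemR : ∀ r, r ∈ R ↔ ∃ d ∈ S ⊓ centralizer {s}, k * d * k⁻¹ = r := by
    intro r
    rw [hR, mem_map]
    exact Iff.rfl
  have hRS : R ≤ S := by
    intro r hr
    obtain ⟨d, hd, rfl⟩ := (hmemR r).mp hr
    exact ⟨hkD d (mem_sup_left hd), hN.conj_mem d hd.1.2 k⟩
  have hkzz : k * z * k⁻¹ = z * s'⁻¹ := by
    have h1 : k * z * k⁻¹ * s' = z := by
      rw [hs']
      calc k * z * k⁻¹ * (k * s * k⁻¹) = k * (z * s) * k⁻¹ := by group
        _ = z := hky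
    calc k * z * k⁻¹ = k * z * k⁻¹ * s' * s'⁻¹ := by group
      _ = z * s'⁻¹ := by rw [h1]
  have hsCs : s ∈ S ⊓ centralizer {s} := ⟨hsS, mem_centralizer_singleton_iff.mpr rfl⟩
  have hs'R : s' ∈ R := (hmemR s').mpr ⟨s, hsCs, rfl⟩
  have hs'1 : s' ≠ 1 := by
    intro h1
    apply hs1
    rw [hs', mul_inv_eq_one, mul_eq_left] at h1
    exact h1
  have hcardR : Nat.card R = Nat.card ↥(S ⊓ centralizer {s}) :=
    Subgroup.card_map_of_injective (MulAut.conj k).injective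
  have hRle : R ≤ S ⊓ centralizer {s'} := by
    intro r hr
    refine ⟨hRS hr, ?_⟩
    obtain ⟨d, hd, rfl⟩ := (hmemR r).mp hr
    have h1 : d * s = s * d := mem_centralizer_singleton_iff.mp hd.2
    have h2 : k * d * k⁻¹ * s' = s' * (k * d * k⁻¹) := by
      rw [hs']
      calc k * d * k⁻¹ * (k * s * k⁻¹) = k * (d * s) * k⁻¹ := by group
        _ = k * s * k⁻¹ * (k * d * k⁻¹) := by rw [h1]; group
    exact mem_centralizer_singleton_iff.mpr h2
  have hcinv : centralizer ({s'⁻¹} : Set X) = centralizer {s'} := by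
    ext x
    rw [mem_centralizer_singleton_iff, mem_centralizer_singleton_iff]
    constructor
    · intro h1
      have : Commute x s'⁻¹ := h1
      exact (Commute.inv_right_iff.mp this)
    · intro h1
      have : Commute x s' := h1
      exact (Commute.inv_right_iff.mpr this)
  have hReq : R = S ⊓ centralizer {s'} := by
    apply Subgroup.eq_of_le_of_card_ge hRle
    have h1 := hmax s'⁻¹ ⟨S.inv_mem (hRS hs'R), inv_ne_one.mpr hs'1, k, hkzz⟩
    simp only [hcinv] at h1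
    rw [hcardR]
    exact h1
  refine ⟨s', R, k, ⟨hn', fun a ha => hkD a (mem_sup_right ha), hs'1, hs'R, hReq, hkzz, ?_, ?_, ?_⟩⟩
  · intro a ha
    have h1 := h.conj_N hn' ha (hkD a (mem_sup_right ha))
    have h2 : ∀ r ∈ R, a⁻¹ * (k * a * k⁻¹) * r = r * (a⁻¹ * (k * a * k⁻¹)) := by
      intro r hr
      have h4 := h.comm a ha r (hRS hr)
      obtain ⟨d, hd, rfl⟩ := (hmemR r).mp hr
      have h3 : a * d = d * a := h.comm a ha d hd.1
      have h5 : a⁻¹ * (k * d * k⁻¹) = k * d * k⁻¹ * a⁻¹ := by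
        rw [inv_mul_eq_iff_eq_mul, ← mul_assoc, h4]; group
      calc a⁻¹ * (k * a * k⁻¹) * (k * d * k⁻¹) = a⁻¹ * (k * (a * d) * k⁻¹) := by group
        _ = a⁻¹ * (k * d * k⁻¹) * (k * a * k⁻¹) := by rw [h3]; group
        _ = k * d * k⁻¹ * (a⁻¹ * (k * a * k⁻¹)) := by rw [h5]; group
    refine ⟨?_, h2⟩
    rw [hReq]
    exact ⟨h1, mem_centralizer_singleton_iff.mpr (h2 s' hs'R)⟩
  · intro r hr
    obtain ⟨d, hd, rfl⟩ := (hmemR r).mp hr
    have : k⁻¹ * (k * d * k⁻¹) * k = d := by group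
    rw [this]
    exact hd.1
  · intro t ht ht1 htg
    rw [hcardR]
    exact hmax t ⟨ht, ht1, htg⟩

namespace Key

variable {X : Type*} [Group X] {N A : Subgroup X} {P : Sylow 2 X} {z s' : X} {R : Subgroup X}
  {k : X}

theorem le_S (K : Key N A P z s' R k) : R ≤ (P : Subgroup X) ⊓ N := by
  rw [K.R_eq]; exact inf_le_left

theorem zeta_mul (h : Cfg N A P) (K : Key N A P z s' R k) {a b : X} (ha : a ∈ A) (hb : b ∈ A) :
    (a * b)⁻¹ * (k * (a * b) * k⁻¹) = (a⁻¹ * (k * a * k⁻¹)) * (b⁻¹ * (k * b * k⁻¹)) := by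
  have h1 := h.comm b hb _ (K.le_S (K.zeta a ha).1)
  set u := a⁻¹ * (k * a * k⁻¹) with hu
  have h2 : b⁻¹ * u = u * b⁻¹ := by
    rw [inv_mul_eq_iff_eq_mul, ← mul_assoc, h1, mul_assoc, mul_inv_cancel, mul_one]
  calc (a * b)⁻¹ * (k * (a * b) * k⁻¹) = b⁻¹ * u * (k * b * k⁻¹) := by rw [hu]; group
    _ = u * (b⁻¹ * (k * b * k⁻¹)) := by rw [h2]; group

/-- The homomorphism `a ↦ a⁻¹ a^k`. -/
noncomputable def zetaHom (h : Cfg N A P) (K : Key N A P z s' R k) : A →* R where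
  toFun a := ⟨(a : X)⁻¹ * (k * a * k⁻¹), (K.zeta a a.2).1⟩
  map_one' := by
    apply Subtype.ext
    simp
  map_mul' a b := Subtype.ext (K.zeta_mul h a.2 b.2)

theorem zetaHom_comm (h : Cfg N A P) (K : Key N A P z s' R k) (a : A) (r : R) :
    K.zetaHom h a * r = r * K.zetaHom h a :=
  Subtype.ext ((K.zeta a a.2).2 r r.2)

theorem zeta_z (K : Key N A P z s' R k) : z⁻¹ * (k * z * k⁻¹) = s'⁻¹ := by
  rw [K.kz]; group

end Key

/-- Lemma A. -/
theorem isolated_of_commutator {X : Type*} [Group X] [Finite X] {N A : Subgroup X} {P : Sylow 2 X}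
    (h : Cfg N A P) {z : X} (hz : z ∈ ⁅A, A⁆) (hzA : ∀ a ∈ A, a * z = z * a) :
    ∀ g : X, g * z * g⁻¹ ∈ (P : Subgroup X) → g * z * g⁻¹ = z := by
  by_contra hne
  push Not at hne
  have hzz : z ∈ A := by
    have h1 : ⁅A, A⁆ ≤ A := Subgroup.commutator_le.mpr fun a ha b hb => by
      rw [commutatorElement_def]
      exact A.mul_mem (A.mul_mem (A.mul_mem ha hb) (A.inv_mem ha)) (A.inv_mem hb)
    exact h1 hz
  obtain ⟨s', R, k, K⟩ := exists_key h hzz hzA hne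
  have h1 : commutator A ≤ (K.zetaHom h).ker := by
    rw [commutator_def, Subgroup.commutator_le]
    intro a _ b _
    rw [MonoidHom.mem_ker, map_commutatorElement, commutatorElement_eq_one_iff_mul_comm]
    exact K.zetaHom_comm h a _
  rw [← Subgroup.map_subtype_commutator] at hz
  obtain ⟨w, hw, rfl⟩ := hz
  have h2 := h1 hw
  rw [MonoidHom.mem_ker] at h2
  have h3 := congrArg Subtype.val h2
  have h4 : ((w : X))⁻¹ * (k * w * k⁻¹) = 1 := h3
  have h5 := K.zeta_z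
  rw [show (A.subtype w : X) = (w : X) from rfl] at h5
  rw [h4] at h5
  exact K.ne (inv_eq_one.mp h5.symm)

/-- Lemma B. -/
theorem isolated_of_aut {X : Type*} [Group X] [Finite X] {N A : Subgroup X} {P : Sylow 2 X}
    (h : Cfg N A P) (hA : ∀ a ∈ A, ∀ b ∈ A, a * b = b * a) (c : X ≃* X)
    (_hcN : ∀ n ∈ N, c n ∈ N) (hcA : ∀ a ∈ A, c a ∈ A) (hcA' : ∀ a ∈ A, ∃ b ∈ A, c b = a)
    (hcS : ∀ s ∈ (P : Subgroup X) ⊓ N, c s = s) {a : X} (ha : a ∈ A) {z : X} (hz : a * (c a)⁻¹ = z)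
    (hz2 : z * z = 1) :
    ∀ g : X, g * z * g⁻¹ ∈ (P : Subgroup X) → g * z * g⁻¹ = z := by
  classical
  by_contra hne
  push Not at hne
  have hzz : z ∈ A := by rw [← hz]; exact A.mul_mem ha (A.inv_mem (hcA a ha))
  have hzA : ∀ a ∈ A, a * z = z * a := fun a ha => hA a ha z hzz
  have hN := h.normal
  obtain ⟨s', R, k, K⟩ := exists_key h hzz hzA hne
  set S : Subgroup X := (P : Subgroup X) ⊓ N with hS
  have hRS : R ≤ S := K.le_S
  -- `s'` is an involution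
  have hs2 : s' * s' = 1 := by
    have h1 := K.zeta_mul h hzz hzz
    rw [hz2, K.zeta_z] at h1
    have h2 : s'⁻¹ * s'⁻¹ = 1 := by rw [← h1]; group
    have h3 := congrArg (·⁻¹) h2
    simpa using h3
  have hsinv : s'⁻¹ = s' := by rw [inv_eq_iff_mul_eq_one]; exact hs2
  set b := c a with hb
  have hbA : b ∈ A := hcA a ha
  set m1 := c k * k⁻¹ with hm1
  -- `m1` centralizes `R`
  have hm1R : ∀ r ∈ R, m1 * r = r * m1 := by
    intro r hr
    have h1 := hcS _ (K.Rk r hr)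
    have h2 := hcS r (hRS hr)
    rw [map_mul, map_mul, map_inv, h2] at h1
    have h3 : r * c k = c k * (k⁻¹ * r * k) := by rw [← h1]; group
    have h4 : r * m1 = c k * (k⁻¹ * r * k) * k⁻¹ := by rw [hm1, ← mul_assoc, h3]
    rw [h4, hm1]; group
  have hm1A : ∀ e ∈ A, ∀ e' ∈ A, c e' = e →
      m1 * e * m1⁻¹ = e * ((e'⁻¹ * (k * e' * k⁻¹)) * (e⁻¹ * (k * e * k⁻¹))⁻¹) := by
    intro e he e' he' hce
    have h1 : k * e' * k⁻¹ = e' * (e'⁻¹ * (k * e' * k⁻¹)) := by group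
    have h2 := congrArg c h1
    set ζ' := e'⁻¹ * (k * e' * k⁻¹) with hζ'
    set ζ := e⁻¹ * (k * e * k⁻¹) with hζ
    rw [map_mul, map_mul, map_mul, map_inv, hce, hcS ζ' (hRS (K.zeta e' he').1)] at h2
    have h3 : k * e * k⁻¹ = e * ζ := by rw [hζ]; group
    have h4 : m1 * (e * ζ) * m1⁻¹ = e * ζ' := by
      rw [← h3, ← h2, hm1]; group
    have h5 : m1 * ζ⁻¹ = ζ⁻¹ * m1 := hm1R _ (R.inv_mem (K.zeta e he).1)
    calc m1 * e * m1⁻¹ = m1 * (e * ζ) * m1⁻¹ * (m1 * ζ⁻¹) * m1⁻¹ := by group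
      _ = e * ζ' * ζ⁻¹ := by rw [h4, h5]; group
      _ = e * (ζ' * ζ⁻¹) := by group
  have hm1A' : ∀ e ∈ A, ∃ ρ ∈ R, m1 * e * m1⁻¹ = e * ρ := by
    intro e he
    obtain ⟨e', he', hce⟩ := hcA' e he
    exact ⟨_, R.mul_mem (K.zeta e' he').1 (R.inv_mem (K.zeta e he).1), hm1A e he e' he' hce⟩
  have hm1b : m1 * b * m1⁻¹ = b * s' := by
    rw [hm1A b hbA a ha rfl]
    congr 1
    have h1 := K.zeta_mul h hzz hbA
    have h2 : z * b = a := by rw [← hz]; group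
    rw [h2, K.zeta_z, hsinv] at h1
    rw [h1]; group
  -- powers
  have hpow : ∀ j : ℕ, (∀ e ∈ A, ∀ ρ ∈ R, m1 * e * m1⁻¹ = e * ρ → m1 ^ j * e * (m1 ^ j)⁻¹ = e * ρ ^ j) := by
    intro j
    induction j with
    | zero => intro e he ρ hρ h1; simp
    | succ j ih =>
      intro e he ρ hρ h1
      have h2 := ih e he ρ hρ h1
      have h3 : m1 * ρ ^ j = ρ ^ j * m1 := hm1R _ (R.pow_mem hρ j)
      calc m1 ^ (j + 1) * e * (m1 ^ (j + 1))⁻¹ = m1 * (m1 ^ j * e * (m1 ^ j)⁻¹) * m1⁻¹ := by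
            rw [pow_succ']; group
        _ = m1 * e * (ρ ^ j) * m1⁻¹ := by rw [h2]; group
        _ = m1 * e * m1⁻¹ * (m1 * ρ ^ j) * m1⁻¹ := by group
        _ = e * ρ * ρ ^ j := by rw [h1, h3]; group
        _ = e * ρ ^ (j + 1) := by rw [pow_succ']; group
  -- the `2`-part
  obtain ⟨i, w, hw, hord⟩ : ∃ i w, Odd w ∧ orderOf m1 = 2 ^ i * w := by
    have h1 : orderOf m1 ≠ 0 := (orderOf_pos m1).ne'
    obtain ⟨i, w, hw, h2⟩ := Nat.exists_eq_two_pow_mul_odd h1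
    exact ⟨i, w, hw, h2⟩
  set m := m1 ^ w with hm
  have hm2 : m ^ 2 ^ i = 1 := by
    rw [hm, ← pow_mul, mul_comm, ← hord, pow_orderOf_eq_one]
  have hmR : ∀ r ∈ R, m * r = r * m := fun r hr =>
    ((show Commute m1 r from hm1R r hr).pow_left w)
  have hs'w : s' ^ w = s' := by
    obtain ⟨u, rfl⟩ := hw
    rw [pow_succ, pow_mul, pow_two, hs2, one_pow, one_mul]
  have hmb : m * b * m⁻¹ = b * s' := by
    have := hpow w b hbA s' K.sR hm1b
    rwa [hs'w] at this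
  have hmA : ∀ e ∈ A, ∃ ρ ∈ R, m * e * m⁻¹ = e * ρ := by
    intro e he
    obtain ⟨ρ, hρ, h1⟩ := hm1A' e he
    exact ⟨ρ ^ w, R.pow_mem hρ w, hpow w e he ρ hρ h1⟩
  -- the `2`-group `Q`
  set RA : Subgroup X := R ⊔ A with hRA
  have hRAP : RA ≤ (P : Subgroup X) := sup_le (hRS.trans inf_le_left) h.le
  have hmRA : RA ≤ RA.comap (MulAut.conj m).toMonoidHom := by
    refine sup_le ?_ ?_
    · intro r hr
      rw [mem_comap]
      have h1 : (MulAut.conj m).toMonoidHom r = r := by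
        change m * r * m⁻¹ = r
        rw [hmR r hr]; group
      rw [h1]; exact mem_sup_left hr
    · intro e he
      rw [mem_comap]
      obtain ⟨ρ, hρ, h1⟩ := hmA e he
      have h2 : (MulAut.conj m).toMonoidHom e = e * ρ := h1
      rw [h2]
      exact RA.mul_mem (mem_sup_right he) (mem_sup_left hρ)
  have hmn : m ∈ normalizer (RA : Set X) := mem_normalizer_fintype fun x hx => hmRA hx
  have hzm : zpowers m ≤ normalizer (RA : Set X) := by
    rw [zpowers_le]; exact hmn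
  have hzp : IsPGroup 2 (zpowers m) := by
    apply IsPGroup.of_card (n := (Nat.factorization (orderOf m)) 2)
    rw [Nat.card_zpowers]
    obtain ⟨j, _, hj⟩ := (Nat.dvd_prime_pow Nat.prime_two).mp (orderOf_dvd_of_pow_eq_one hm2)
    rw [hj, Nat.factorization_pow, Nat.Prime.factorization Nat.prime_two]
    simp
  have hQ : IsPGroup 2 ↥(zpowers m ⊔ RA) :=
    IsPGroup.to_sup_of_normal_right' hzp (P.isPGroup'.to_le hRAP) hzm
  obtain ⟨Q, hQle⟩ := hQ.exists_le_sylow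
  obtain ⟨l, hl⟩ := MulAction.exists_smul_eq X Q P
  have hlP : ∀ x ∈ zpowers m ⊔ RA, l * x * l⁻¹ ∈ (P : Subgroup X) := by
    intro x hx
    have h1 := hQle hx
    rw [← hl]
    exact (Subgroup.smul_mem_pointwise_smul_iff (a := MulAut.conj l)).mpr h1
  have hlR : ∀ r ∈ R, l * r * l⁻¹ ∈ S := fun r hr =>
    ⟨hlP r (mem_sup_right (mem_sup_left hr)), hN.conj_mem r (hRS hr).2 l⟩
  have hlA : ∀ e ∈ A, ∃ s ∈ S, l * e * l⁻¹ = e * s := fun e he =>
    h.conj_eq he (fun a ha => hA a ha e he) (hlP e (mem_sup_right (mem_sup_right he)))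
  -- centralizing `R2`
  have hcomm : ∀ e ∈ A, ∀ s, l * e * l⁻¹ = e * s → ∀ r ∈ R, s * (l * r * l⁻¹) = l * r * l⁻¹ * s := by
    intro e he s hs r hr
    have h1 : e * r = r * e := h.comm e he r (hRS hr)
    have h2 : e * (l * r * l⁻¹) = (l * r * l⁻¹) * e := h.comm e he _ (hlR r hr)
    have h3 : s = e⁻¹ * (l * e * l⁻¹) := by rw [hs]; group
    have h5 : e⁻¹ * (l * r * l⁻¹) = l * r * l⁻¹ * e⁻¹ := by
      rw [inv_mul_eq_iff_eq_mul, ← mul_assoc, h2]; group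
    calc s * (l * r * l⁻¹) = e⁻¹ * (l * (e * r) * l⁻¹) := by rw [h3]; group
      _ = e⁻¹ * (l * r * l⁻¹) * (l * e * l⁻¹) := by rw [h1]; group
      _ = l * r * l⁻¹ * (e⁻¹ * (l * e * l⁻¹)) := by rw [h5]; group
      _ = l * r * l⁻¹ * s := by rw [← h3]
  set R2 : Subgroup X := R.map (MulAut.conj l).toMonoidHom with hR2
  have hmem2 : ∀ x, x ∈ R2 ↔ ∃ r ∈ R, l * r * l⁻¹ = x := by
    intro x
    rw [hR2, mem_map]; exact Iff.rfl
  have hcard2 : Nat.card R2 = Nat.card R := Subgroup.card_map_of_injective (MulAut.conj l).injective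
  have hR2S : R2 ≤ S := by
    intro x hx
    obtain ⟨r, hr, rfl⟩ := (hmem2 x).mp hx
    exact hlR r hr
  -- the element `t`
  obtain ⟨t, ht2, htc⟩ : ∃ t ∈ R2, S ⊓ centralizer {t} = R2 := by
    obtain ⟨s4, hs4, hl4⟩ := hlA z hzz
    by_cases h41 : s4 = 1
    · -- `l` commutes with `z`
      rw [h41, mul_one] at hl4
      have htt : l * s' * l⁻¹ ∈ R2 := (hmem2 _).mpr ⟨s', K.sR, rfl⟩
      refine ⟨l * s' * l⁻¹, htt, ?_⟩
      have hle : R2 ≤ S ⊓ centralizer {l * s' * l⁻¹} := by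
        intro x hx
        refine ⟨hR2S hx, ?_⟩
        obtain ⟨r, hr, rfl⟩ := (hmem2 x).mp hx
        refine mem_centralizer_singleton_iff.mpr ?_
        have h1 : r * s' = s' * r := by
          have := hr
          rw [K.R_eq] at this
          exact mem_centralizer_singleton_iff.mp this.2
        calc l * r * l⁻¹ * (l * s' * l⁻¹) = l * (r * s') * l⁻¹ := by group
          _ = l * s' * l⁻¹ * (l * r * l⁻¹) := by rw [h1]; group
      refine (Subgroup.eq_of_le_of_card_ge hle ?_).symm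
      rw [hcard2]
      refine K.max _ (hR2S htt) ?_ ⟨l * k, ?_⟩
      · intro h1
        rw [mul_inv_eq_one, mul_eq_left] at h1
        exact K.ne h1
      · calc l * k * z * (l * k)⁻¹ = l * (k * z * k⁻¹) * l⁻¹ := by group
          _ = l * (z * s') * l⁻¹ := by rw [K.kz, hsinv]
          _ = l * z * l⁻¹ * (l * s' * l⁻¹) := by group
          _ = z * (l * s' * l⁻¹) := by rw [hl4]
    · have hle : R2 ≤ S ⊓ centralizer {s4} := by
        intro x hx
        refine ⟨hR2S hx, ?_⟩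
        obtain ⟨r, hr, rfl⟩ := (hmem2 x).mp hx
        refine mem_centralizer_singleton_iff.mpr ?_
        exact (hcomm z hzz s4 hl4 r hr).symm
      have heq : R2 = S ⊓ centralizer {s4} := by
        refine Subgroup.eq_of_le_of_card_ge hle ?_
        rw [hcard2]
        exact K.max s4 hs4 h41 ⟨l, hl4⟩
      refine ⟨s4, ?_, heq.symm⟩
      rw [heq]
      exact ⟨hs4, mem_centralizer_singleton_iff.mpr rfl⟩
  have hCR : ∀ x ∈ S, (∀ r ∈ R, x * (l * r * l⁻¹) = l * r * l⁻¹ * x) → x ∈ R2 := by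
    intro x hx hxr
    rw [← htc]
    refine ⟨hx, mem_centralizer_singleton_iff.mpr ?_⟩
    obtain ⟨r, hr, rfl⟩ := (hmem2 t).mp ht2
    exact hxr r hr
  obtain ⟨s3, hs3, hl3⟩ := hlA b hbA
  have hs3R := hCR s3 hs3 (hcomm b hbA s3 hl3)
  obtain ⟨mS, hmS, mA, hmA', hlm⟩ := h.decomp (hlP m (mem_sup_left (mem_zpowers m)))
  have hmSc : ∀ r ∈ R, mS * (l * r * l⁻¹) = l * r * l⁻¹ * mS := by
    intro r hr
    have h1 : m * r = r * m := hmR r hr
    have h2 : mA * (l * r * l⁻¹) = (l * r * l⁻¹) * mA := h.comm mA hmA' _ (hlR r hr)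
    have h3 : mS = l * m * l⁻¹ * mA⁻¹ := by rw [hlm]; group
    have h5 : mA⁻¹ * (l * r * l⁻¹) = l * r * l⁻¹ * mA⁻¹ := by
      rw [inv_mul_eq_iff_eq_mul, ← mul_assoc, h2]; group
    calc mS * (l * r * l⁻¹) = l * m * l⁻¹ * (mA⁻¹ * (l * r * l⁻¹)) := by rw [h3]; group
      _ = l * (m * r) * l⁻¹ * mA⁻¹ := by rw [h5]; group
      _ = l * r * l⁻¹ * (l * m * l⁻¹ * mA⁻¹) := by rw [h1]; group
      _ = l * r * l⁻¹ * mS := by rw [← h3]
  have hmSR := hCR mS hmS hmSc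
  -- they commute ...
  have hcom : mS * s3 = s3 * mS := by
    obtain ⟨r, hr, h1⟩ := (hmem2 s3).mp hs3R
    rw [← h1]
    exact hmSc r hr
  -- ... but they do not
  have h1 : l * (m * b * m⁻¹) * l⁻¹ = l * (b * s') * l⁻¹ := by rw [hmb]
  have h2 : l * (m * b * m⁻¹) * l⁻¹ = (mS * mA) * (b * s3) * (mS * mA)⁻¹ := by
    rw [← hlm, ← hl3]; group
  have h3 : l * (b * s') * l⁻¹ = b * s3 * (l * s' * l⁻¹) := by
    rw [← hl3]; group
  have h4 : (mS * mA) * (b * s3) * (mS * mA)⁻¹ = b * s3 := by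
    have e1 : mA * b = b * mA := hA mA hmA' b hbA
    have e2 : mA * s3 = s3 * mA := h.comm mA hmA' s3 hs3
    have e3 : b * mS = mS * b := h.comm b hbA mS hmS
    calc (mS * mA) * (b * s3) * (mS * mA)⁻¹ = mS * (mA * b) * s3 * mA⁻¹ * mS⁻¹ := by group
      _ = mS * b * (mA * s3) * mA⁻¹ * mS⁻¹ := by rw [e1]; group
      _ = (mS * b) * s3 * mS⁻¹ := by rw [e2]; group
      _ = b * (mS * s3) * mS⁻¹ := by rw [← e3]; group
      _ = b * s3 := by rw [hcom]; group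
  rw [h2, h4, h3] at h1
  have h5 : l * s' * l⁻¹ = 1 := by
    have := congrArg (fun x => (b * s3)⁻¹ * x) h1
    simpa [mul_assoc] using this.symm
  rw [mul_inv_eq_one, mul_eq_left] at h5
  exact K.ne h5


/-- An element of order two of `A`, isolated in `P`, is trivial if `N` has no odd normal subgroup,
and `A` acts faithfully on `N`. -/
theorem eq_one_of_isolated {X : Type*} [Group X] [Finite X] {N A : Subgroup X} {P : Sylow 2 X}
    (h : Cfg N A P) (hO : ∀ M : Subgroup X, M.Normal → M ≤ N → Odd (Nat.card M) → M = ⊥)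
    (hfaith : ∀ a ∈ A, (∀ n ∈ N, a * n = n * a) → a = 1) {z : X} (hz : z ∈ A) (hz2 : z * z = 1)
    (hiso : ∀ g : X, g * z * g⁻¹ ∈ (P : Subgroup X) → g * z * g⁻¹ = z) : z = 1 := by
  by_contra hz1
  have ho : orderOf z = 2 := orderOf_eq_prime (by rw [pow_two]; exact hz2) hz1
  obtain ⟨M, hM, hMo, hMz⟩ := Cfsg.Agent.S0215.result P z ho (h.le hz) hiso
  have hN := h.normal
  have h1 : M ⊓ N = ⊥ := by
    apply hO _ inferInstance inf_le_right
    exact hMo.of_dvd_nat (Subgroup.card_dvd_of_le inf_le_left)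
  apply hz1
  apply hfaith z hz
  intro n hn
  have h2 : z * n * z⁻¹ * n⁻¹ ∈ M ⊓ N :=
    ⟨hMz n, N.mul_mem (hN.conj_mem n hn z) (N.inv_mem hn)⟩
  rw [h1, mem_bot, mul_inv_eq_one, mul_inv_eq_iff_eq_mul] at h2
  exact h2

end Cfsg.Agent.Lib.H3CentSylow
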