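import Mathlib
import Cfsg.Agent.Lib.H3CentSylow
import Cfsg.Agent.Lib.H3PGroup

/-!
# Automorphisms centralizing a Sylow 2-subgroup (Glauberman): conclusion
-/

set_option autoImplicit false

open Subgroup

universe u

namespace Cfsg.Agent.Lib.H3CentSylow

variable {G : Type*} [Group G] [Finite G]

instance finite_semidirect (A : Subgroup (MulAut G)) : Finite (G ⋊[A.subtype] A) :=
  Finite.of_equiv _ SemidirectProduct.equivProd.symm

/-- The split extension by a `2`-group of automorphisms centralizing a Sylow `2`-subgroup. -/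
theorem exists_cfg (S : Sylow 2 G) (A : Subgroup (MulAut G)) (hA : IsPGroup 2 A)
    (hfix : ∀ a ∈ A, ∀ s : G, s ∈ S → a s = s) :
    ∃ P : Sylow 2 (G ⋊[A.subtype] A),
      Cfg (SemidirectProduct.inl : G →* G ⋊[A.subtype] A).range
        (SemidirectProduct.inr : A →* G ⋊[A.subtype] A).range P ∧
      (P : Subgroup (G ⋊[A.subtype] A)) ⊓ (SemidirectProduct.inl : G →* G ⋊[A.subtype] A).range =
        (S : Subgroup G).map SemidirectProduct.inl := by
  classical
  set il : G →* G ⋊[A.subtype] A := SemidirectProduct.inl with hil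
  set ir : A →* G ⋊[A.subtype] A := SemidirectProduct.inr with hir
  have hcomm : ∀ a : A, ∀ s : G, s ∈ S → ir a * il s * (ir a)⁻¹ = il s := by
    intro a s hs
    have := SemidirectProduct.inl_aut (φ := A.subtype) a s
    rw [hil, hir, ← map_inv, ← this]
    congr 1
    exact hfix a a.2 s hs
  have h1 : IsPGroup 2 ((S : Subgroup G).map il) := S.isPGroup'.map il
  have h2 : IsPGroup 2 ir.range := by
    rw [MonoidHom.range_eq_map]
    have h3 : IsPGroup 2 (⊤ : Subgroup A) := hA.to_subgroup ⊤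
    exact h3.map ir
  have h3 : ir.range ≤ normalizer (((S : Subgroup G).map il : Subgroup _) : Set _) := by
    rintro _ ⟨a, rfl⟩
    apply mem_normalizer_fintype
    rintro _ ⟨s, hs, rfl⟩
    rw [hcomm a s hs]
    exact ⟨s, hs, rfl⟩
  have h4 : IsPGroup 2 ↥(ir.range ⊔ (S : Subgroup G).map il) :=
    IsPGroup.to_sup_of_normal_right' h2 h1 h3
  obtain ⟨P, hP⟩ := h4.exists_le_sylow
  have h5 : (P : Subgroup (G ⋊[A.subtype] A)) ⊓ il.range = (S : Subgroup G).map il := by
    apply le_antisymm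
    · rintro _ ⟨hx, ⟨g, rfl⟩⟩
      have h6 : IsPGroup 2 ((P : Subgroup (G ⋊[A.subtype] A)).comap il) :=
        P.isPGroup'.comap_of_injective il SemidirectProduct.inl_injective
      have h7 : (S : Subgroup G) ≤ (P : Subgroup (G ⋊[A.subtype] A)).comap il := by
        intro s hs
        exact hP (mem_sup_right ⟨s, hs, rfl⟩)
      have h8 := S.is_maximal' h6 h7
      refine ⟨g, ?_, rfl⟩
      change g ∈ (S : Subgroup G)
      rw [← h8]
      exact hx
    · rintro _ ⟨s, hs, rfl⟩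
      exact ⟨hP (mem_sup_right ⟨s, hs, rfl⟩), ⟨s, rfl⟩⟩
  refine ⟨P, ⟨?_, ?_, ?_, ?_, ?_⟩, h5⟩
  · rw [hil, SemidirectProduct.range_inl_eq_ker_rightHom]; infer_instance
  · rintro _ ⟨a, rfl⟩
    exact hP (mem_sup_left ⟨a, rfl⟩)
  · rw [eq_bot_iff]
    rintro _ ⟨⟨g, rfl⟩, ⟨a, ha⟩⟩
    have h6 := congrArg SemidirectProduct.right ha
    simp [hil, hir] at h6
    rw [mem_bot, ← ha, h6, map_one]
  · intro x
    exact ⟨il x.left, ⟨_, rfl⟩, ir x.right, ⟨_, rfl⟩, (SemidirectProduct.inl_left_mul_inr_right x).symm⟩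
  · rintro _ ⟨a, rfl⟩ s hs
    rw [h5] at hs
    obtain ⟨s, hs, rfl⟩ := hs
    have := hcomm a s hs
    rw [mul_inv_eq_iff_eq_mul] at this
    exact this

omit [Finite G] in
theorem hO_aux (hO : ∀ N : Subgroup G, N.Normal → Odd (Nat.card N) → N = ⊥) (A : Subgroup (MulAut G)) :
    ∀ M : Subgroup (G ⋊[A.subtype] A), M.Normal →
      M ≤ (SemidirectProduct.inl : G →* G ⋊[A.subtype] A).range → Odd (Nat.card M) → M = ⊥ := by
  intro M hM hle ho
  have h1 : (M.comap (SemidirectProduct.inl : G →* G ⋊[A.subtype] A)) = ⊥ := by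
    apply hO _ (hM.comap _)
    have h2 : (M.comap (SemidirectProduct.inl : G →* G ⋊[A.subtype] A)).map
        (SemidirectProduct.inl : G →* G ⋊[A.subtype] A) = M := Subgroup.map_comap_eq_self hle
    rw [← Subgroup.card_map_of_injective (f := (SemidirectProduct.inl : G →* G ⋊[A.subtype] A))
      SemidirectProduct.inl_injective, h2]
    exact ho
  rw [eq_bot_iff]
  intro x hx
  obtain ⟨g, rfl⟩ := hle hx
  have h2 : g ∈ M.comap (SemidirectProduct.inl : G →* G ⋊[A.subtype] A) := hx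
  rw [h1, mem_bot] at h2
  rw [h2, map_one, mem_bot]

omit [Finite G] in
theorem faith_aux (A : Subgroup (MulAut G)) :
    ∀ a ∈ (SemidirectProduct.inr : A →* G ⋊[A.subtype] A).range,
      (∀ n ∈ (SemidirectProduct.inl : G →* G ⋊[A.subtype] A).range, a * n = n * a) → a = 1 := by
  rintro _ ⟨a, rfl⟩ h
  have h1 : a = 1 := by
    apply Subtype.ext
    ext g
    have h2 := h _ ⟨g, rfl⟩
    rw [← mul_inv_eq_iff_eq_mul, ← map_inv, ← SemidirectProduct.inl_aut] at h2
    have h3 := SemidirectProduct.inl_injective h2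
    simpa using h3
  rw [h1, map_one]

/-- `A` is abelian. -/
theorem abelian (hO : ∀ N : Subgroup G, N.Normal → Odd (Nat.card N) → N = ⊥) (S : Sylow 2 G)
    (A : Subgroup (MulAut G)) (hA : IsPGroup 2 A)
    (hfix : ∀ a ∈ A, ∀ s : G, s ∈ S → a s = s) : ∀ a b : A, a * b = b * a := by
  classical
  by_contra hne
  have hne1 : ¬ (commutator A) ≤ ⊥ := by
    intro h1
    apply hne
    rw [le_bot_iff, commutator_eq_bot_iff_center_eq_top] at h1
    intro a b
    have h2 : b ∈ center A := by rw [h1]; exact mem_top b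
    exact mem_center_iff.mp h2 a
  obtain ⟨w, hw, hw1, hwc, hw2⟩ := H3PGroup.exists_central_mod hA ⊥ (commutator A) hne1
  rw [mem_bot] at hw1 hw2
  obtain ⟨P, hcfg, hPN⟩ := exists_cfg S A hA hfix
  set ir : A →* G ⋊[A.subtype] A := SemidirectProduct.inr with hir
  have h1 : ir w ∈ ⁅ir.range, ir.range⁆ := by
    have h2 : ir w ∈ (commutator A).map ir := ⟨w, hw, rfl⟩
    rw [_root_.commutator_def, Subgroup.map_commutator, ← MonoidHom.range_eq_map] at h2
    exact h2
  have h2 : ∀ a ∈ ir.range, a * ir w = ir w * a := by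
    rintro _ ⟨a, rfl⟩
    obtain ⟨e, he, h3⟩ := hwc a
    rw [mem_bot] at he
    rw [he, mul_one, mul_inv_eq_iff_eq_mul] at h3
    rw [← map_mul, h3, map_mul]
  have h3 := isolated_of_commutator hcfg h1 h2
  have h4 := eq_one_of_isolated hcfg (hO_aux hO A) (faith_aux A) (z := ir w) ⟨w, rfl⟩
    (by rw [← map_mul, ← pow_two, hw2, map_one]) h3
  apply hw1
  have : ir w = ir 1 := by rw [h4, map_one]
  exact SemidirectProduct.inr_injective this

/-- An element of `C` normalizing `A` centralizes it. -/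
theorem centralizes (hO : ∀ N : Subgroup G, N.Normal → Odd (Nat.card N) → N = ⊥) (S : Sylow 2 G)
    (A : Subgroup (MulAut G)) (hA : IsPGroup 2 A)
    (hfix : ∀ a ∈ A, ∀ s : G, s ∈ S → a s = s) (c : MulAut G) (hc : ∀ s : G, s ∈ S → c s = s)
    (hcA : ∀ a, a ∈ A ↔ c * a * c⁻¹ ∈ A) : ∀ a ∈ A, c * a = a * c := by
  classical
  by_contra hne
  push Not at hne
  obtain ⟨a₀, ha₀, hne⟩ := hne
  have hab := abelian hO S A hA hfix
  obtain ⟨P, hcfg, hPN⟩ := exists_cfg S A hA hfix
  -- the automorphism of `A`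
  let γ : A ≃* A :=
    { toFun := fun a => ⟨c * a * c⁻¹, (hcA a).mp a.2⟩
      invFun := fun a => ⟨c⁻¹ * a * c, by rw [hcA]; convert a.2 using 1; group⟩
      left_inv := fun a => by apply Subtype.ext; simp [mul_assoc]
      right_inv := fun a => by apply Subtype.ext; simp [mul_assoc]
      map_mul' := fun a b => by apply Subtype.ext; simp [mul_assoc] }
  -- the homomorphism `a ↦ a * (γ a)⁻¹`
  let θ : A →* A :=
    { toFun := fun a => a * (γ a)⁻¹
      map_one' := by simp
      map_mul' := fun a b => by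
        rw [map_mul, mul_inv_rev, hab (γ b)⁻¹ (γ a)⁻¹]
        rw [mul_assoc a b, ← mul_assoc b, hab b (γ a)⁻¹]
        simp only [mul_assoc] }
  have hθ : θ ⟨a₀, ha₀⟩ ≠ 1 := by
    intro h1
    apply hne
    have h2 : (⟨a₀, ha₀⟩ : A) * (γ ⟨a₀, ha₀⟩)⁻¹ = 1 := h1
    rw [mul_inv_eq_one] at h2
    have h3 := congrArg Subtype.val h2
    have h4 : a₀ = c * a₀ * c⁻¹ := h3
    calc c * a₀ = c * a₀ * c⁻¹ * c := by group
      _ = a₀ * c := by rw [← h4]
  -- an involution in the range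
  obtain ⟨a, ha1, ha2⟩ : ∃ a : A, θ a ≠ 1 ∧ θ a * θ a = 1 := by
    obtain ⟨k, hk⟩ := (IsPGroup.iff_orderOf.mp hA) (θ ⟨a₀, ha₀⟩)
    have hk0 : k ≠ 0 := by
      rintro rfl
      rw [pow_zero, orderOf_eq_one_iff] at hk
      exact hθ hk
    obtain ⟨j, rfl⟩ := Nat.exists_eq_succ_of_ne_zero hk0
    refine ⟨⟨a₀, ha₀⟩ ^ 2 ^ j, ?_, ?_⟩
    · rw [map_pow]
      intro h1
      have := orderOf_dvd_of_pow_eq_one h1
      rw [hk, Nat.pow_dvd_pow_iff_le_right (by norm_num)] at this
      omega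
    · rw [map_pow, ← pow_two, ← pow_mul, ← pow_succ, ← Nat.succ_eq_add_one, ← hk, pow_orderOf_eq_one]
  -- the automorphism of `X`
  let C : G ⋊[A.subtype] A ≃* G ⋊[A.subtype] A := SemidirectProduct.congr c γ (fun a => by
    ext g
    simp [γ])
  set il : G →* G ⋊[A.subtype] A := SemidirectProduct.inl with hil
  set ir : A →* G ⋊[A.subtype] A := SemidirectProduct.inr with hir
  have hCl : ∀ g, C (il g) = il (c g) := by
    intro g
    ext <;> simp [C, hil, SemidirectProduct.congr]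
  have hCr : ∀ a, C (ir a) = ir (γ a) := by
    intro g
    ext <;> simp [C, hir, SemidirectProduct.congr]
  have h3 := isolated_of_aut hcfg (a := ir a) (z := ir (θ a)) (c := C) ?_ ?_ ?_ ?_ ?_ ⟨a, rfl⟩ ?_ ?_
  · have h4 := eq_one_of_isolated hcfg (hO_aux hO A) (faith_aux A) (z := ir (θ a)) ⟨_, rfl⟩
      (by rw [← map_mul, ha2, map_one]) h3
    apply ha1
    have : ir (θ a) = ir 1 := by rw [h4, map_one]
    exact SemidirectProduct.inr_injective this
  · rintro _ ⟨a, rfl⟩ _ ⟨b, rfl⟩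
    rw [← map_mul, hab, map_mul]
  · rintro _ ⟨g, rfl⟩
    rw [hCl]; exact ⟨_, rfl⟩
  · rintro _ ⟨g, rfl⟩
    rw [hCr]; exact ⟨_, rfl⟩
  · rintro _ ⟨g, rfl⟩
    exact ⟨ir (γ.symm g), ⟨_, rfl⟩, by rw [hCr, MulEquiv.apply_symm_apply]⟩
  · intro s hs
    rw [hPN] at hs
    obtain ⟨s, hs, rfl⟩ := hs
    rw [hCl, hc s hs]
  · rw [hCr, ← map_inv, ← map_mul]
    rfl
  · rw [← map_mul, ha2, map_one]


/-- The main theorem, given the odd order theorem. -/
theorem main {G : Type u} [Group G] [Finite G]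
    (hodd : ∀ {H : Type u} [Group H] [Finite H], Odd (Nat.card H) → Group.IsSolvable H)
    (hO : ∀ N : Subgroup G, N.Normal → Odd (Nat.card N) → N = ⊥) (S : Sylow 2 G)
    (C : Subgroup (MulAut G)) (hC : ∀ φ : MulAut G, φ ∈ C ↔ ∀ s : G, s ∈ S → φ s = s) :
    (∀ T : Sylow 2 ↥C, (∀ a b : ↥T, a * b = b * a) ∧
      ∃ N : Subgroup ↥C, N.Normal ∧ Subgroup.IsComplement' N (T : Subgroup ↥C)) ∧
    Group.IsSolvable ↥C := by
  classical
  have hfix : ∀ T : Sylow 2 ↥C, ∀ a ∈ (T : Subgroup C).map C.subtype, ∀ s : G, s ∈ S → a s = s := by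
    rintro T _ ⟨a, ha, rfl⟩
    exact (hC a).mp a.2
  have hpg : ∀ T : Sylow 2 ↥C, IsPGroup 2 ((T : Subgroup C).map C.subtype) := fun T =>
    T.isPGroup'.map _
  have hmem : ∀ T : Sylow 2 ↥C, ∀ a : C, a ∈ (T : Subgroup C) ↔ (a : MulAut G) ∈ (T : Subgroup C).map C.subtype := by
    intro T a
    constructor
    · intro h; exact ⟨a, h, rfl⟩
    · rintro ⟨b, hb, h⟩
      have : b = a := Subtype.ext h
      rwa [← this]
  have hab : ∀ T : Sylow 2 ↥C, ∀ a b : ↥T, a * b = b * a := by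
    intro T a b
    have h1 := abelian hO S _ (hpg T) (hfix T) ⟨a, (hmem T a).mp a.2⟩ ⟨b, (hmem T b).mp b.2⟩
    have h2 := congrArg Subtype.val h1
    apply Subtype.ext
    apply Subtype.ext
    exact h2
  have hNC : ∀ T : Sylow 2 ↥C, (normalizer ((T : Subgroup C) : Set C)) ≤ centralizer ((T : Subgroup C) : Set C) := by
    intro T c hc
    rw [mem_centralizer_iff]
    intro a ha
    rw [mem_normalizer_iff] at hc
    have h1 := centralizes hO S _ (hpg T) (hfix T) (c : MulAut G) ((hC c).mp c.2) (by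
      intro x
      constructor
      · rintro ⟨a, ha, rfl⟩
        exact ⟨c * a * c⁻¹, (hc a).mp ha, rfl⟩
      · intro hx
        obtain ⟨b, hb, hbx⟩ := hx
        refine ⟨c⁻¹ * b * c, ?_, ?_⟩
        · refine (hc _).mpr ?_
          have e : c * (c⁻¹ * b * c) * c⁻¹ = b := by group
          rw [e]; exact hb
        · have h2 : (C.subtype (c⁻¹ * b * c) : MulAut G) = (c : MulAut G)⁻¹ * (C.subtype b) * c := rfl
          rw [h2, hbx]; group) a ((hmem T a).mp ha)
    apply Subtype.ext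
    exact h1.symm
  refine ⟨fun T => ⟨hab T, _, inferInstance, MonoidHom.ker_transferSylow_isComplement' T (hNC T)⟩, ?_⟩
  obtain ⟨T⟩ : Nonempty (Sylow 2 ↥C) := inferInstance
  have h1 : Group.IsSolvable (MonoidHom.transferSylow T (hNC T)).ker := by
    apply hodd
    have := MonoidHom.not_dvd_card_ker_transferSylow T (hNC T)
    rwa [← even_iff_two_dvd, Nat.not_even_iff_odd] at this
  have h2 : Group.IsSolvable T := by
    apply Group.isSolvable_of_comm
    exact hab T
  exact Group.isSolvable_of_ker_le_range (MonoidHom.transferSylow T (hNC T)).ker.subtype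
    (MonoidHom.transferSylow T (hNC T)) (by rw [range_subtype])

end Cfsg.Agent.Lib.H3CentSylow
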