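import Mathlib
import Cfsg.Prelude.Def_KGroupFacts
import Cfsg.Agent.Lib.H3CentSylow2

/-! Solvability of `Out(G)` from the action of `N_{Aut G}(S)` on a Sylow 2-subgroup (helper50). -/

set_option autoImplicit false

open Subgroup Cfsg
open scoped Pointwise

universe u

namespace Cfsg.Agent.Lib.H50Out

variable {G : Type u} [Group G]

/-- The automorphisms of `G` leaving the subgroup `S` invariant. -/
def stab (S : Subgroup G) : Subgroup (MulAut G) where
  carrier := {φ | ∀ s, φ s ∈ S ↔ s ∈ S}
  mul_mem' := fun {a b} ha hb s => by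
    rw [MulAut.mul_apply]; exact (ha _).trans (hb s)
  one_mem' := fun s => Iff.rfl
  inv_mem' := fun {φ} h s => by
    rw [← h (φ⁻¹ s), MulAut.apply_inv_self]

theorem mem_stab {S : Subgroup G} {φ : MulAut G} : φ ∈ stab S ↔ ∀ s, φ s ∈ S ↔ s ∈ S := Iff.rfl

/-- restriction -/
def restr (S : Subgroup G) : stab S →* MulAut S where
  toFun φ :=
    { toFun := fun s => ⟨(φ : MulAut G) s, (φ.2 s).2 s.2⟩
      invFun := fun s => ⟨(φ : MulAut G)⁻¹ s, ((stab S).inv_mem φ.2 s).2 s.2⟩
      left_inv := fun s => Subtype.ext (by simp)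
      right_inv := fun s => Subtype.ext (by simp)
      map_mul' := fun s t => Subtype.ext (by simp) }
  map_one' := rfl
  map_mul' := fun φ ψ => rfl

@[simp] theorem restr_apply (S : Subgroup G) (φ : stab S) (s : S) :
    ((restr S φ s : S) : G) = (φ : MulAut G) s := rfl

theorem mem_ker_restr {S : Subgroup G} {φ : stab S} :
    φ ∈ (restr S).ker ↔ ∀ s ∈ S, (φ : MulAut G) s = s := by
  rw [MonoidHom.mem_ker]
  constructor
  · intro h s hs
    have := DFunLike.congr_fun h ⟨s, hs⟩
    exact congrArg Subtype.val this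
  · intro h
    ext s
    exact h s s.2

theorem exists_stab_mul [Finite G] {p : ℕ} [Fact p.Prime] (S : Sylow p G) (φ : MulAut G) :
    ∃ g : G, ∃ ψ ∈ stab (S : Subgroup G), φ = MulAut.conj g * ψ := by
  obtain ⟨g, hg⟩ := MulAction.exists_smul_eq G S (φ • S)
  refine ⟨g, (MulAut.conj g)⁻¹ * φ, ?_, by group⟩
  have h1 : ∀ s, s ∈ (φ • S : Sylow p G) ↔ φ⁻¹ s ∈ (S : Subgroup G) := by
    intro s
    change s ∈ ((φ • S : Sylow p G) : Subgroup G) ↔ _
    rw [Sylow.pointwise_smul_def, Subgroup.mem_pointwise_smul_iff_inv_smul_mem]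
    rfl
  have h2 : ∀ s, s ∈ (g • S : Sylow p G) ↔ (MulAut.conj g)⁻¹ s ∈ (S : Subgroup G) := by
    intro s
    change s ∈ ((g • S : Sylow p G) : Subgroup G) ↔ _
    rw [Sylow.smul_def, Sylow.pointwise_smul_def, Subgroup.mem_pointwise_smul_iff_inv_smul_mem]
    rfl
  intro s
  rw [MulAut.mul_apply, ← h2, hg, h1, MulAut.inv_apply_self]

theorem out_solvable_of_stab [Finite G] {p : ℕ} [Fact p.Prime] (S : Sylow p G)
    (h : Group.IsSolvable (stab (S : Subgroup G))) : Group.IsSolvable (Out G) := by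
  haveI := h
  apply Group.isSolvable_of_surjective
    (f := (QuotientGroup.mk' (Inn G)).comp (stab (S : Subgroup G)).subtype)
  intro q
  obtain ⟨φ, rfl⟩ := QuotientGroup.mk'_surjective (Inn G) q
  obtain ⟨g, ψ, hψ, rfl⟩ := exists_stab_mul S φ
  refine ⟨⟨ψ, hψ⟩, ?_⟩
  have h1 : QuotientGroup.mk' (Inn G) (MulAut.conj g) = 1 := by
    rw [QuotientGroup.mk'_apply, QuotientGroup.eq_one_iff]
    exact ⟨g, rfl⟩
  rw [map_mul, h1, one_mul]
  rfl

theorem no_odd_normal [Finite G] [IsSimpleGroup G] (S : Sylow 2 G) (hS1 : (S : Subgroup G) ≠ ⊥) :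
    ∀ N : Subgroup G, N.Normal → Odd (Nat.card N) → N = ⊥ := by
  intro N hN hodd
  rcases hN.eq_bot_or_eq_top with h | h
  · exact h
  · exfalso
    subst h
    apply hS1
    rw [← Subgroup.card_eq_one]
    obtain ⟨n, hn⟩ := (IsPGroup.iff_card).mp S.isPGroup'
    have h1 : Nat.card (S : Subgroup G) ∣ Nat.card (⊤ : Subgroup G) := by
      rw [Subgroup.card_top]; exact Subgroup.card_subgroup_dvd_card _
    have h2 : Odd (Nat.card (S : Subgroup G)) := Odd.of_dvd_nat hodd h1
    rw [hn] at h2 ⊢
    rcases Nat.eq_zero_or_pos n with h3 | h3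
    · rw [h3, pow_zero]
    · exfalso
      rw [Nat.odd_iff] at h2
      have : 2 ∣ 2 ^ n := dvd_pow_self 2 h3.ne'
      omega

/-- The kernel of the restriction is solvable (Glauberman). -/
theorem ker_restr_solvable [Finite G]
    (hodd : ∀ {H : Type u} [Group H] [Finite H], Odd (Nat.card H) → Group.IsSolvable H)
    [IsSimpleGroup G] (S : Sylow 2 G) (hS1 : (S : Subgroup G) ≠ ⊥) :
    Group.IsSolvable (restr (S : Subgroup G)).ker := by
  let C : Subgroup (MulAut G) := (restr (S : Subgroup G)).ker.map (stab (S : Subgroup G)).subtype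
  have hC : ∀ φ : MulAut G, φ ∈ C ↔ ∀ s : G, s ∈ S → φ s = s := by
    intro φ
    constructor
    · rintro ⟨ψ, hψ, rfl⟩ s hs
      exact mem_ker_restr.1 hψ s hs
    · intro h
      have h1 : φ ∈ stab (S : Subgroup G) := by
        intro s
        constructor
        · intro hs
          have := h _ hs
          have h2 : φ s = s := φ.injective this
          rwa [h2] at hs
        · intro hs
          rw [h s hs]; exact hs
      exact ⟨⟨φ, h1⟩, mem_ker_restr.2 h, rfl⟩
  have h := (H3CentSylow.main hodd (no_odd_normal S hS1) S C hC).2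
  haveI := h
  have e := (restr (S : Subgroup G)).ker.equivMapOfInjective (stab (S : Subgroup G)).subtype
    (stab (S : Subgroup G)).subtype_injective
  exact Group.isSolvable_of_isSolvable_injective (f := e.toMonoidHom) e.injective

theorem isSolvable_of_ker {A B : Type*} [Group A] [Group B] (f : A →* B) (h1 : Group.IsSolvable f.ker)
    (h2 : Group.IsSolvable f.range) : Group.IsSolvable A := by
  apply Group.isSolvable_of_ker_le_range (f.ker.subtype) f.rangeRestrict
  rw [MonoidHom.ker_rangeRestrict, Subgroup.range_subtype]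

theorem out_solvable [Finite G]
    (hodd : ∀ {H : Type u} [Group H] [Finite H], Odd (Nat.card H) → Group.IsSolvable H)
    [IsSimpleGroup G] (S : Sylow 2 G) (hS1 : (S : Subgroup G) ≠ ⊥)
    (hS : Group.IsSolvable (restr (S : Subgroup G)).range) : Group.IsSolvable (Out G) :=
  out_solvable_of_stab S (isSolvable_of_ker _ (ker_restr_solvable hodd S hS1) hS)

end Cfsg.Agent.Lib.H50Out
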