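import Mathlib

/-!
The action on a normal elementary abelian subgroup as a matrix representation.
-/

set_option autoImplicit false

namespace Cfsg.Agent.Lib.H58ElemAb

/-- Additive automorphisms of a finite `ZMod p`-module of order `p^e` embed in `GL e p`. -/
theorem exists_addAut_toGL {V : Type*} [AddCommGroup V] (p : ℕ) [Fact p.Prime] [Module (ZMod p) V] [Finite V] (e : ℕ)
    (hcard : Nat.card V = p ^ e) :
    ∃ φ : AddAut V → GL (Fin e) (ZMod p), (∀ g h : AddAut V, φ (h.trans g) = φ g * φ h) ∧ Function.Injective φ := by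
  classical
  have hfin : Module.Finite (ZMod p) V := Module.Finite.of_finite
  have hrank : Module.finrank (ZMod p) V = e := by
    have h1 := FiniteField.pow_finrank_eq_natCard p V
    rw [hcard] at h1
    exact Nat.pow_right_injective (Fact.out : p.Prime).two_le h1
  let b := Module.finBasisOfFinrankEq (ZMod p) V hrank
  let T : (V →ₗ[ZMod p] V) ≃ₐ[ZMod p] Matrix (Fin e) (Fin e) (ZMod p) := LinearMap.toMatrixAlgEquiv b
  let ψ : AddAut V → (V →ₗ[ZMod p] V) := fun h => (AddEquiv.toAddMonoidHom h).toZModLinearMap p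
  have hψ : ∀ g h : AddAut V, ψ (h.trans g) = ψ g * ψ h := by
    intro g h
    exact LinearMap.ext fun x => rfl
  have hinv1 : ∀ g : AddAut V, ψ g * ψ g.symm = 1 := by
    intro g
    exact LinearMap.ext fun x => g.apply_symm_apply x
  have hinv2 : ∀ g : AddAut V, ψ g.symm * ψ g = 1 := by
    intro g
    exact LinearMap.ext fun x => g.symm_apply_apply x
  refine ⟨fun g => ⟨T (ψ g), T (ψ g.symm), by rw [← map_mul, hinv1, map_one], by rw [← map_mul, hinv2, map_one]⟩, ?_, ?_⟩
  · intro g h
    apply Units.ext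
    show T (ψ (h.trans g)) = T (ψ g) * T (ψ h)
    rw [hψ, map_mul]
  · intro g h hgh
    have h2 : T (ψ g) = T (ψ h) := congrArg Units.val hgh
    have h3 : ψ g = ψ h := T.injective h2
    ext x
    exact congrArg (fun f : V →ₗ[ZMod p] V => f x) h3

/-- `Aut A` embeds in `GL e p` for an elementary abelian group `A` of order `p^e`. -/
theorem exists_mulAut_toGL {A : Type*} [CommGroup A] [Finite A] (p e : ℕ) [Fact p.Prime]
    (hp : ∀ a : A, a ^ p = 1) (hcard : Nat.card A = p ^ e) :
    ∃ φ : MulAut A →* GL (Fin e) (ZMod p), Function.Injective φ := by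
  classical
  let _ : Module (ZMod p) (Additive A) := AddCommGroup.zmodModule (n := p) (by
    intro x
    exact congrArg Additive.ofMul (hp x.toMul))
  have hfinA : Finite (Additive A) := inferInstanceAs (Finite A)
  obtain ⟨φ, hφ, hinj⟩ := exists_addAut_toGL (V := Additive A) p e hcard
  refine ⟨MonoidHom.mk' (fun h => φ (MulEquiv.toAdditive h)) ?_, ?_⟩
  · intro g h
    rw [← hφ]
    rfl
  · intro g h hgh
    exact MulEquiv.toAdditive.injective (hinj hgh)

/-- conjugation action on a commutative normal subgroup of exponent `p` and order `p^e`, as a homomorphism to `GL e p`. -/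
theorem exists_toGL {H : Type*} [Group H] (F : Subgroup H) [Finite F] (hF : F.Normal) (p e : ℕ) [Fact p.Prime]
    (hab : ∀ a ∈ F, ∀ b ∈ F, a * b = b * a) (hp : ∀ a ∈ F, a ^ p = 1) (hcard : Nat.card F = p ^ e) :
    ∃ φ : H →* GL (Fin e) (ZMod p), φ.ker = Subgroup.centralizer (F : Set H) := by
  classical
  let _ : CommGroup F := { (inferInstance : Group F) with
    mul_comm := fun a b => Subtype.ext (hab a a.2 b b.2) }
  obtain ⟨φ, hφ⟩ := exists_mulAut_toGL (A := F) p e (fun a => Subtype.ext (hp a a.2)) hcard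
  refine ⟨φ.comp (MulAut.conjNormal (H := F)), ?_⟩
  ext h
  rw [MonoidHom.mem_ker, Subgroup.mem_centralizer_iff]
  constructor
  · intro h1 x hx
    have h2 : φ (MulAut.conjNormal (H := F) h) = φ 1 := by rw [map_one]; exact h1
    have h3 := hφ h2
    have h4 := congrArg (fun f : MulAut F => ((f ⟨x, hx⟩ : F) : H)) h3
    have h5 : h * x * h⁻¹ = x := h4
    rw [mul_inv_eq_iff_eq_mul] at h5
    exact h5.symm
  · intro h1
    have h3 : MulAut.conjNormal (H := F) h = 1 := by
      ext x
      rw [MulAut.conjNormal_apply]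
      show h * (x : H) * h⁻¹ = (x : H)
      rw [← h1 _ x.2, mul_inv_cancel_right]
    show φ (MulAut.conjNormal (H := F) h) = 1
    rw [h3, map_one]

end Cfsg.Agent.Lib.H58ElemAb
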