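import Mathlib
import Cfsg.Agent.Lib.H50Out
import Cfsg.Agent.Lib.Critical2
import Cfsg.Agent.Lib.H58ElemAb

/-! Transitive linear groups over GF(2): Frattini arguments. (helper30) -/

set_option autoImplicit false

open Subgroup

universe u

namespace Cfsg.Agent.Lib.H30LinA

variable {V : Type u} [CommGroup V] [Finite V]

/-- irreducible element -/
def Irr (g : MulAut V) : Prop := ∀ U : Subgroup V, (∀ u ∈ U, g u ∈ U) → U = ⊥ ∨ U = ⊤

/-- automorphism as endomorphism -/
def toE (g : MulAut V) : AddMonoid.End (Additive V) := MonoidHom.toAdditive (MulEquiv.toMonoidHom g)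

theorem toE_apply (g : MulAut V) (v : Additive V) : toE g v = Additive.ofMul (g v.toMul) := rfl

theorem toE_mul (g h : MulAut V) : toE (g * h) = toE g * toE h := rfl
theorem toE_one : toE (1 : MulAut V) = 1 := rfl

theorem centralizer_cyclic [Nontrivial V] {g : MulAut V} (hg : Irr g) (H : Subgroup (MulAut V))
    (hH : ∀ h ∈ H, h * g = g * h) : IsCyclic H := by
  classical
  let K : Subring (AddMonoid.End (Additive V)) := Subring.centralizer {toE g}
  haveI : Finite (AddMonoid.End (Additive V)) := Finite.of_injective
    (fun f : AddMonoid.End (Additive V) => (f : Additive V → Additive V)) (fun f g h => by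
      ext v; exact congrFun h v)
  haveI : Finite K := inferInstance
  haveI : Nontrivial (Additive V) := inferInstanceAs (Nontrivial V)
  haveI : Nontrivial K := by
    refine ⟨⟨0, 1, fun h => ?_⟩⟩
    obtain ⟨v, hv⟩ := exists_ne (0 : Additive V)
    have h1 : (0 : AddMonoid.End (Additive V)) = 1 := congrArg Subtype.val h
    exact hv (DFunLike.congr_fun h1 v).symm
  have hcomm : ∀ f ∈ K, ∀ v, f (toE g v) = toE g (f v) := by
    intro f hf v
    have h1 := Subring.mem_centralizer_iff.1 hf (toE g) rfl
    exact (DFunLike.congr_fun h1 v).symm
  haveI : NoZeroDivisors K := by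
    refine ⟨fun {a b} hab => ?_⟩
    let U : Subgroup V :=
      { carrier := {v | (a : AddMonoid.End (Additive V)) (Additive.ofMul v) = 0}
        mul_mem' := fun {x y} hx hy => by
          change (a : AddMonoid.End (Additive V)) (Additive.ofMul x + Additive.ofMul y) = 0
          rw [map_add]
          change _ + _ = _
          rw [show (a : AddMonoid.End (Additive V)) (Additive.ofMul x) = 0 from hx,
            show (a : AddMonoid.End (Additive V)) (Additive.ofMul y) = 0 from hy, add_zero]
        one_mem' := map_zero (a : AddMonoid.End (Additive V))
        inv_mem' := fun {x} hx => by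
          change (a : AddMonoid.End (Additive V)) (- Additive.ofMul x) = 0
          rw [map_neg, show (a : AddMonoid.End (Additive V)) (Additive.ofMul x) = 0 from hx, neg_zero] }
    have hU : ∀ u ∈ U, g u ∈ U := by
      intro u hu
      change (a : AddMonoid.End (Additive V)) (toE g (Additive.ofMul u)) = 0
      rw [hcomm a a.2, show (a : AddMonoid.End (Additive V)) (Additive.ofMul u) = 0 from hu, map_zero]
    rcases hg U hU with h | h
    · right
      apply Subtype.ext
      refine AddMonoidHom.ext fun v => ?_
      have h1 : (b : AddMonoid.End (Additive V)) v ∈ (U : Set V) := by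
        change (a : AddMonoid.End (Additive V)) ((b : AddMonoid.End (Additive V)) v) = 0
        have := DFunLike.congr_fun (congrArg Subtype.val hab) v
        exact this
      rw [h] at h1
      exact h1
    · left
      apply Subtype.ext
      refine AddMonoidHom.ext fun v => ?_
      have h1 : v.toMul ∈ U := h ▸ Subgroup.mem_top _
      exact h1
  haveI : IsDomain K := NoZeroDivisors.to_isDomain K
  have hF : IsField K := Finite.isDomain_to_isField K
  letI : CommRing K := { (inferInstance : Ring K) with mul_comm := hF.mul_comm }
  let f : H →* K :=
    { toFun := fun h => ⟨toE (h : MulAut V), by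
        rw [Subring.mem_centralizer_iff]
        rintro _ rfl
        rw [← toE_mul, ← toE_mul, hH h h.2]⟩
      map_one' := rfl
      map_mul' := fun a b => rfl }
  have hf : Function.Injective f := by
    intro a b hab
    apply Subtype.ext
    ext v
    have := DFunLike.congr_fun (congrArg Subtype.val hab) (Additive.ofMul v)
    exact this
  exact isCyclic_of_subgroup_isDomain f hf

theorem normalizer_solvable [Nontrivial V] {g : MulAut V} (hg : Irr g) (R : Subgroup (MulAut V))
    (hgR : g ∈ R) (hR : ∀ h ∈ R, h * g = g * h) : Group.IsSolvable (Subgroup.normalizer (R : Set (MulAut V))) := by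
  haveI : IsCyclic R := centralizer_cyclic hg R hR
  have hC : IsCyclic (Subgroup.centralizer (R : Set (MulAut V))) := by
    apply centralizer_cyclic hg
    intro h hh
    exact ((Subgroup.mem_centralizer_iff.1 hh) g hgR).symm
  refine H50Out.isSolvable_of_ker R.normalizerMonoidHom ?_ ?_
  · rw [Subgroup.normalizerMonoidHom_ker]
    letI : CommGroup (Subgroup.centralizer (R : Set (MulAut V))) := IsCyclic.commGroup
    have : Group.IsSolvable (Subgroup.centralizer (R : Set (MulAut V))) := inferInstance
    let f : ((Subgroup.centralizer (R : Set (MulAut V))).subgroupOf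
        (Subgroup.normalizer (R : Set (MulAut V)))) →* Subgroup.centralizer (R : Set (MulAut V)) :=
      { toFun := fun x => ⟨x.1.1, x.2⟩
        map_one' := rfl
        map_mul' := fun _ _ => rfl }
    have hf : Function.Injective f := fun x y hxy =>
      Subtype.ext (Subtype.ext (congrArg (fun z : Subgroup.centralizer (R : Set (MulAut V)) => (z : MulAut V)) hxy))
    exact Group.isSolvable_of_isSolvable_injective (f := f) hf
  · have hcomm : ∀ a b : MulAut R, a * b = b * a := by
      intro a b
      have e := IsCyclic.mulAutMulEquiv R
      apply e.injective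
      rw [map_mul, map_mul, mul_comm]
    letI : CommGroup (MulAut R) := { (inferInstance : Group (MulAut R)) with mul_comm := hcomm }
    have : Group.IsSolvable (MulAut R) := inferInstance
    infer_instance

end Cfsg.Agent.Lib.H30LinA
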