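import Mathlib
import Cfsg.Agent.Lib.H30LinA
import Cfsg.Agent.Lib.Zsigmondy

/-! Transitive linear groups over GF(2): Frattini arguments. (helper30) -/

set_option autoImplicit false

open Subgroup
open scoped Pointwise

universe u

namespace Cfsg.Agent.Lib.H30LinB

open H30LinA

theorem frattini {G : Type u} [Group G] [Finite G] (Y : Subgroup G) {r : ℕ} [Fact r.Prime] (P : Sylow r Y)
    {g : G} (hg : g ∈ Subgroup.normalizer (Y : Set G)) :
    ∃ y ∈ Y, ∃ m ∈ Subgroup.normalizer (((P : Subgroup Y).map Y.subtype : Subgroup G) : Set G), g = y * m := by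
  let α : MulAut Y := Y.normalizerMonoidHom ⟨g, hg⟩
  have hα : ∀ x : Y, ((α x : Y) : G) = g * x * g⁻¹ := fun x => rfl
  obtain ⟨y, hy⟩ := MulAction.exists_smul_eq Y P (α • P)
  refine ⟨y, y.2, (y : G)⁻¹ * g, ?_, by group⟩
  apply Subgroup.mem_normalizer_fintype
  rintro _ ⟨x, hx, rfl⟩
  have h1 : α x ∈ ((α • P : Sylow r Y) : Subgroup Y) := by
    rw [Sylow.pointwise_smul_def, Subgroup.mem_pointwise_smul_iff_inv_smul_mem]
    change α⁻¹ (α x) ∈ (P : Subgroup Y)
    rw [MulAut.inv_apply_self]; exact hx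
  rw [← hy, Sylow.smul_def, Sylow.pointwise_smul_def, Subgroup.mem_pointwise_smul_iff_inv_smul_mem] at h1
  refine ⟨_, h1, ?_⟩
  change (((MulAut.conj y)⁻¹ (α x) : Y) : G) = _
  rw [MulAut.conj_inv_apply]
  change (y : G)⁻¹ * ((α x : Y) : G) * (y : G) = (y : G)⁻¹ * g * (x : G) * ((y : G)⁻¹ * g)⁻¹
  rw [hα]; group

theorem exists_zsig {n : ℕ} (hn : 2 ≤ n) (h6 : n ≠ 6) :
    ∃ r : ℕ, r.Prime ∧ r ∣ 2 ^ n - 1 ∧ ∀ i, 1 ≤ i → i < n → ¬ r ∣ 2 ^ i - 1 := by
  by_cases hexc : (2, n) ∈ Zsigmondy.exc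
  · have : n = 4 ∨ n = 10 ∨ n = 12 ∨ n = 18 ∨ n = 3 ∨ n = 8 ∨ n = 20 := by
      simp only [Zsigmondy.exc, List.mem_cons, Prod.mk.injEq, true_and, List.not_mem_nil, or_false] at hexc
      omega
    rcases this with rfl | rfl | rfl | rfl | rfl | rfl | rfl
    · exact ⟨5, by norm_num, by norm_num, by intro i h1 h2; interval_cases i <;> norm_num⟩
    · exact ⟨11, by norm_num, by norm_num, by intro i h1 h2; interval_cases i <;> norm_num⟩
    · exact ⟨13, by norm_num, by norm_num, by intro i h1 h2; interval_cases i <;> norm_num⟩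
    · exact ⟨19, by norm_num, by norm_num, by intro i h1 h2; interval_cases i <;> norm_num⟩
    · exact ⟨7, by norm_num, by norm_num, by intro i h1 h2; interval_cases i <;> norm_num⟩
    · exact ⟨17, by norm_num, by norm_num, by intro i h1 h2; interval_cases i <;> norm_num⟩
    · exact ⟨41, by norm_num, by norm_num, by intro i h1 h2; interval_cases i <;> norm_num⟩
  · rcases Nat.lt_or_ge n 3 with h | h
    · have : n = 2 := by omega
      subst this
      exact ⟨3, by norm_num, by norm_num, by intro i h1 h2; interval_cases i; norm_num⟩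
    · obtain ⟨m, hm, hco, hm3⟩ := Zsigmondy.primitive_part (q := 2) le_rfl h hexc
      obtain ⟨r, hr, hrm⟩ := Nat.exists_prime_and_dvd (n := m) (by omega)
      refine ⟨r, hr, hrm.trans hm, fun i h1 h2 h3 => ?_⟩
      have := Nat.dvd_gcd hrm h3
      rw [Nat.Coprime.gcd_eq_one (hco i h1 h2)] at this
      exact hr.one_lt.ne' (Nat.dvd_one.1 this)

variable {V : Type u} [CommGroup V] [Finite V]

theorem zpowers_inv {g : MulAut V} {U : Subgroup V} (hU : ∀ u ∈ U, g u ∈ U) :
    ∀ b ∈ zpowers g, ∀ u ∈ U, b u ∈ U := by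
  have hst : zpowers g ≤ H50Out.stab U := by
    rw [zpowers_le]
    intro s
    constructor
    · intro hs
      -- finite order
      have h1 : ∀ k : ℕ, ∀ u ∈ U, (g ^ k) u ∈ U := by
        intro k
        induction k with
        | zero => intro u hu; exact hu
        | succ k ih => intro u hu; rw [pow_succ]; exact ih _ (hU u hu)
      have h2 := h1 (orderOf g - 1) _ hs
      have h3 : (g ^ (orderOf g - 1)) (g s) = (g ^ (orderOf g - 1) * g) s := rfl
      rw [h3, ← pow_succ, Nat.sub_add_cancel (orderOf_pos g), pow_orderOf_eq_one] at h2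
      exact h2
    · exact hU s
  intro b hb u hu
  exact (hst hb u).2 hu

theorem card_pow {n : ℕ} (hV : Nat.card V = 2 ^ n) (U : Subgroup V) : ∃ u, u ≤ n ∧ Nat.card U = 2 ^ u := by
  have h := U.card_subgroup_dvd_card
  rw [hV, Nat.dvd_prime_pow Nat.prime_two] at h
  exact h

/-- elements of primitive prime order are irreducible -/
theorem irr_of_zsig {n r : ℕ} (hV : Nat.card V = 2 ^ n) [hr : Fact r.Prime] (hr2 : r ≠ 2)
    (hz : ∀ i, 1 ≤ i → i < n → ¬ r ∣ 2 ^ i - 1) {g : MulAut V} (hg : orderOf g = r) : Irr g := by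
  haveI : Fact (Nat.Prime 2) := ⟨Nat.prime_two⟩
  have hf : ∀ U : Subgroup V, (∀ u ∈ U, g u ∈ U) → ∃ u j : ℕ, Nat.card U = 2 ^ u ∧
      Nat.card (Critical2.fixIn g U) = 2 ^ j ∧ j ≤ u ∧ u ≤ n ∧ r ∣ 2 ^ (u - j) - 1 := by
    intro U hU
    obtain ⟨u, hu, hcu⟩ := card_pow hV U
    obtain ⟨j, hj, hcj⟩ := card_pow hV (Critical2.fixIn g U)
    have h1 := Critical2.dvd_of_card hr2 g hg U (zpowers_inv hU) hcu hcj
    exact ⟨u, j, hcu, hcj, h1.1, hu, h1.2⟩
  have h0 : Nat.card (Critical2.fixIn g ⊤) = 1 := by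
    obtain ⟨u, j, hu, hj, hju, hun, hd⟩ := hf ⊤ (fun _ _ => Subgroup.mem_top _)
    have hun' : u = n := by
      rw [Subgroup.card_top, hV] at hu
      exact (Nat.pow_right_injective le_rfl hu).symm
    subst hun'
    by_contra hne
    have hj0 : j ≠ 0 := by rintro rfl; exact hne (by rw [hj, pow_zero])
    by_cases hju' : u - j = 0
    · have h3 : Critical2.fixIn g ⊤ = ⊤ := by
        apply Subgroup.eq_top_of_card_eq
        rw [hj, hV]; congr 1; omega
      have h4 : g = 1 := by
        ext v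
        have : v ∈ Critical2.fixIn g (⊤ : Subgroup V) := by rw [h3]; exact Subgroup.mem_top v
        exact this.2
      rw [h4, orderOf_one] at hg
      exact hr.out.one_lt.ne hg
    · exact hz (u - j) (by omega) (by omega) hd
  intro U hU
  obtain ⟨u, j, hu, hj, hju, hun, hd⟩ := hf U hU
  have hj0 : j = 0 := by
    have h1 : Nat.card (Critical2.fixIn g U) ∣ Nat.card (Critical2.fixIn g ⊤) :=
      Subgroup.card_dvd_of_le (fun x hx => ⟨Subgroup.mem_top _, hx.2⟩)
    rw [h0, hj, Nat.dvd_one] at h1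
    by_contra hne
    have := Nat.one_lt_two_pow hne
    omega
  subst hj0
  rw [Nat.sub_zero] at hd
  rcases Nat.eq_zero_or_pos u with h | h
  · left
    rw [← Subgroup.card_eq_one, hu, h, pow_zero]
  · right
    have : u = n := by
      by_contra hne
      exact hz u h (by omega) hd
    apply Subgroup.eq_top_of_card_eq
    rw [hu, hV, this]

theorem card_sub_one_dvd [Nontrivial V] (Y : Subgroup (MulAut V))
    (htr : ∀ v w : V, v ≠ 1 → w ≠ 1 → ∃ y ∈ Y, y v = w) {v : V} (hv : v ≠ 1) :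
    (Nat.card V - 1) * Nat.card (MulAction.stabilizer Y v) = Nat.card Y := by
  classical
  have h1 := MulAction.index_stabilizer (G := Y) v
  have h2 : MulAction.orbit Y v = {(1 : V)}ᶜ := by
    ext w
    rw [Set.mem_compl_iff, Set.mem_singleton_iff]
    constructor
    · rintro ⟨y, rfl⟩ h
      apply hv
      have h3 : (y : MulAut V) v = 1 := h
      exact (map_eq_one_iff _ (y : MulAut V).injective).1 h3
    · intro hw
      obtain ⟨y, hy, h⟩ := htr v w hv hw
      exact ⟨⟨y, hy⟩, h⟩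
  have h3 : (MulAction.orbit Y v).ncard = Nat.card V - 1 := by
    rw [h2, Set.ncard_compl, Set.ncard_singleton]
  rw [← h3, ← h1, mul_comm]
  exact Subgroup.card_mul_index _

end Cfsg.Agent.Lib.H30LinB
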