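import Mathlib
import Cfsg.Agent.Lib.H30LinB
import Cfsg.Agent.Lib.FrobAction
import Cfsg.Agent.Lib.CycNum
import Cfsg.Agent.Lib.SubgroupTools

/-! Transitive linear groups over GF(2), the case of dimension six. (helper30) -/

set_option autoImplicit false

open Subgroup
open scoped Pointwise

universe u

namespace Cfsg.Agent.Lib.H30LinC

open H30LinA H30LinB H50Out

variable {V : Type u} [CommGroup V] [Finite V]

/-- `v ↦ a v / v` -/
def dm (a : MulAut V) : V →* V where
  toFun v := a v * v⁻¹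
  map_one' := by simp
  map_mul' x y := by rw [map_mul, mul_inv]; exact mul_mul_mul_comm _ _ _ _

omit [Finite V] in
theorem dm_apply (a : MulAut V) (v : V) : dm a v = a v * v⁻¹ := rfl

omit [Finite V] in
theorem mem_ker (a : MulAut V) (v : V) : v ∈ (dm a).ker ↔ a v = v := by
  rw [MonoidHom.mem_ker, dm_apply, mul_inv_eq_one]

theorem card_ker_range (a : MulAut V) : Nat.card (dm a).ker * Nat.card (dm a).range = Nat.card V := by
  rw [← Subgroup.index_ker, Subgroup.card_mul_index]

omit [Finite V] in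
theorem disj (hV2 : ∀ v : V, v * v = 1) {a : MulAut V} {m : ℕ} (hm : Odd m) (ha : a ^ m = 1) :
    (dm a).ker ⊓ (dm a).range = ⊥ := by
  rw [eq_bot_iff]
  rintro _ ⟨h1, v, rfl⟩
  replace h1 : a (dm a v) = dm a v := (mem_ker _ _).1 h1
  have h2 : ∀ k : ℕ, (a ^ k) v = (dm a v) ^ k * v := by
    intro k
    induction k with
    | zero => simp
    | succ k ih =>
      rw [pow_succ', MulAut.mul_apply, ih, map_mul, map_pow, h1, pow_succ, mul_assoc]
      congr 1
      rw [dm_apply, inv_mul_cancel_right]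
  have h3 := h2 m
  rw [ha, MulAut.one_apply] at h3
  have h4 : (dm a v) ^ m = 1 := by
    have := h3.symm
    rwa [mul_eq_right] at this
  obtain ⟨k, rfl⟩ := hm
  rw [pow_succ, pow_mul, pow_two, hV2, one_pow, one_mul] at h4
  exact h4

omit [Finite V] in
theorem stab_ker {a b : MulAut V} (h : b * a = a * b) : b ∈ stab (dm a).ker := by
  intro s
  rw [mem_ker, mem_ker]
  have : a (b s) = b (a s) := by
    rw [← MulAut.mul_apply, ← h, MulAut.mul_apply]
  rw [this, EmbeddingLike.apply_eq_iff_eq]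

omit [Finite V] in
theorem stab_range {a b : MulAut V} (h : b * a = a * b) : b ∈ stab (dm a).range := by
  have key : ∀ c : MulAut V, c * a = a * c → ∀ s ∈ (dm a).range, c s ∈ (dm a).range := by
    rintro c hc _ ⟨v, rfl⟩
    refine ⟨c v, ?_⟩
    rw [dm_apply, dm_apply, map_mul, map_inv, ← MulAut.mul_apply, ← hc, MulAut.mul_apply]
  intro s
  constructor
  · intro hs
    have h1 : b⁻¹ * a = a * b⁻¹ := by
      rw [inv_mul_eq_iff_eq_mul, ← mul_assoc, h, mul_inv_cancel_right]
    have := key b⁻¹ h1 _ hs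
    rwa [MulAut.inv_apply_self] at this
  · exact key b h s

/-- an automorphism trivial on both parts is trivial -/
theorem eq_one (hV2 : ∀ v : V, v * v = 1) {a : MulAut V} {m : ℕ} (hm : Odd m) (ha : a ^ m = 1)
    {k : MulAut V} (h1 : ∀ v ∈ (dm a).ker, k v = v) (h2 : ∀ v ∈ (dm a).range, k v = v) : k = 1 := by
  have h3 : (dm a).ker ⊔ (dm a).range ≤ (dm k).ker := by
    rw [sup_le_iff]
    exact ⟨fun v hv => (mem_ker _ _).2 (h1 v hv), fun v hv => (mem_ker _ _).2 (h2 v hv)⟩
  have h4 : (dm a).ker ⊔ (dm a).range = ⊤ := by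
    apply Subgroup.eq_top_of_card_eq
    have h6 : Nat.card ↥((dm a).ker ⊔ (dm a).range) = Nat.card (dm a).ker * Nat.card (dm a).range :=
      SubgroupTools.card_sup_of_disjoint (by rw [Subgroup.normalizer_eq_top]; exact le_top)
        (disjoint_iff.2 (disj hV2 hm ha))
    rw [h6, card_ker_range]
  ext v
  have : v ∈ (dm k).ker := h3 (h4 ▸ Subgroup.mem_top v)
  exact (mem_ker _ _).1 this

/-- order of the automorphism group of a small elementary abelian 2-group -/
theorem card_aut_dvd (hV2 : ∀ v : V, v * v = 1) (U : Subgroup V) {e : ℕ} (hU : Nat.card U = 2 ^ e) :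
    Nat.card (MulAut U) ∣ ∏ i : Fin e, (2 ^ e - 2 ^ (i : ℕ)) := by
  haveI : Fact (Nat.Prime 2) := ⟨Nat.prime_two⟩
  obtain ⟨φ, hφ⟩ := H58ElemAb.exists_mulAut_toGL (A := U) 2 e
    (fun a => Subtype.ext (by rw [pow_two]; exact hV2 a)) hU
  have h1 := Subgroup.card_dvd_of_injective φ hφ
  rwa [Matrix.card_GL_field, ZMod.card] at h1

/-- the kernel of a subgroup on an invariant subgroup -/
def kerOn (R : Subgroup (MulAut V)) (U : Subgroup V) : Subgroup (MulAut V) where
  carrier := {k | k ∈ R ∧ ∀ u ∈ U, k u = u}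
  mul_mem' := fun {a b} ha hb => ⟨R.mul_mem ha.1 hb.1, fun u hu => by
    rw [MulAut.mul_apply, hb.2 u hu, ha.2 u hu]⟩
  one_mem' := ⟨R.one_mem, fun _ _ => rfl⟩
  inv_mem' := fun {a} ha => ⟨R.inv_mem ha.1, fun u hu => by
    conv_lhs => rw [← ha.2 u hu]
    rw [MulAut.inv_apply_self]⟩

omit [Finite V] in
theorem mem_kerOn {R : Subgroup (MulAut V)} {U : Subgroup V} {k : MulAut V} :
    k ∈ kerOn R U ↔ k ∈ R ∧ ∀ u ∈ U, k u = u := Iff.rfl

/-- index of the kernel of a 3-group -/
theorem card_dvd_kerOn (R : Subgroup (MulAut V)) (h3 : IsPGroup 3 R) (U : Subgroup V) (hR : R ≤ stab U)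
    {N c : ℕ} (hN : Nat.card (MulAut U) ∣ N) (hc : ¬ 3 ^ (c + 1) ∣ N) :
    Nat.card R ∣ 3 ^ c * Nat.card (kerOn R U) := by
  haveI : Fact (Nat.Prime 3) := ⟨Nat.prime_three⟩
  let f : R →* MulAut U := (restr U).comp (Subgroup.inclusion hR)
  have hk : Nat.card f.ker = Nat.card (kerOn R U) := by
    have h1 : kerOn R U = f.ker.map R.subtype := by
      ext k
      constructor
      · rintro ⟨hk1, hk2⟩
        refine ⟨⟨k, hk1⟩, ?_, rfl⟩
        rw [SetLike.mem_coe, MonoidHom.mem_ker]
        ext u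
        exact hk2 u u.2
      · rintro ⟨k, hk, rfl⟩
        refine ⟨k.2, fun u hu => ?_⟩
        have h1 := DFunLike.congr_fun (MonoidHom.mem_ker.1 hk) (⟨u, hu⟩ : U)
        exact congrArg Subtype.val h1
    rw [h1, Subgroup.card_map_of_injective R.subtype_injective]
  have h1 : Nat.card R = Nat.card f.range * Nat.card (kerOn R U) := by
    rw [← hk, ← Subgroup.index_ker, Subgroup.index_mul_card]
  rw [h1]
  apply Nat.mul_dvd_mul_right
  have h2 : IsPGroup 3 f.range := by
    have := h3.of_surjective f.rangeRestrict f.rangeRestrict_surjective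
    exact this
  obtain ⟨k, hk⟩ := (IsPGroup.iff_card (p := 3)).mp h2
  have h3 : 3 ^ k ∣ N := by
    rw [← hk]; exact (Subgroup.card_subgroup_dvd_card _).trans hN
  rw [hk]
  apply pow_dvd_pow
  by_contra hlt
  push Not at hlt
  exact hc ((pow_dvd_pow 3 hlt).trans h3)

/-- a group acting semiregularly on an invariant subgroup -/
theorem card_dvd_semireg (K : Subgroup (MulAut V)) (M : Subgroup V) (hK : K ≤ stab M)
    (h : ∀ k ∈ K, k ≠ 1 → ∀ m ∈ M, k m = m → m = 1) : Nat.card K ∣ Nat.card M - 1 := by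
  let f : K →* Equiv.Perm M := (MulAction.toPermHom (MulAut M) M).comp ((restr M).comp (Subgroup.inclusion hK))
  have hf : ∀ (k : K) (m : M), ((f k m : M) : V) = (k : MulAut V) m := fun _ _ => rfl
  apply CycNum.card_dvd_sub_one f 1
  · intro k
    apply Subtype.ext
    rw [hf, Subgroup.coe_one, map_one]
  · intro k hk m hm
    apply Subtype.ext
    apply h k k.2 (fun h1 => hk (Subtype.ext h1)) m m.2
    rw [← hf, hm]

end Cfsg.Agent.Lib.H30LinC
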