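import Mathlib
import Cfsg.Agent.Lib.H30LinG
import Cfsg.Agent.Lib.H30InvD

/-! Solvability of `Out(G)` if the involutions of a Sylow 2-subgroup commute and are conjugate. (helper30) -/

set_option autoImplicit false

open Subgroup
open scoped Pointwise

universe u

namespace Cfsg.Agent.Lib.H30OutA

open H50Out

theorem solvable_of_surj {A B C : Type*} [Group A] [Group B] [Group C] (f : A →* B)
    (hf : Function.Surjective f) (g : A →* C) (hg : Group.IsSolvable g.range)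
    (hk : Group.IsSolvable (g.ker.map f)) : Group.IsSolvable B := by
  haveI hn : (g.ker.map f).Normal := Subgroup.Normal.map inferInstance f hf
  have h1 : Group.IsSolvable (A ⧸ g.ker) := by
    haveI := hg
    exact Group.isSolvable_of_isSolvable_injective (f := (QuotientGroup.quotientKerEquivRange g).toMonoidHom)
      (QuotientGroup.quotientKerEquivRange g).injective
  have h2 : Group.IsSolvable (B ⧸ g.ker.map f) := by
    haveI := h1
    apply Group.isSolvable_of_surjective (f := QuotientGroup.map g.ker (g.ker.map f) f (Subgroup.le_comap_map f _))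
    intro q
    obtain ⟨b, rfl⟩ := QuotientGroup.mk_surjective q
    obtain ⟨a, rfl⟩ := hf b
    exact ⟨(a : A ⧸ g.ker), rfl⟩
  exact Group.isSolvable_of_ker_le_range (g.ker.map f).subtype (QuotientGroup.mk' (g.ker.map f)) (by
    rw [QuotientGroup.ker_mk', Subgroup.range_subtype])

variable {G : Type u} [Group G] [Finite G]

theorem conj_in {p : ℕ} [Fact p.Prime] (H : Subgroup G) (S T : Sylow p G) (hS : (S : Subgroup G) ≤ H)
    (hT : (T : Subgroup G) ≤ H) : ∃ h ∈ H, ∀ x, x ∈ (T : Subgroup G) ↔ h⁻¹ * x * h ∈ (S : Subgroup G) := by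
  obtain ⟨h, hh⟩ := MulAction.exists_smul_eq H (S.subtype hS) (T.subtype hT)
  have key : ∀ y : H, (y : G) ∈ (T : Subgroup G) ↔ (h : G)⁻¹ * y * h ∈ (S : Subgroup G) := by
    intro y
    have h1 : y ∈ ((T.subtype hT : Sylow p H) : Subgroup H) ↔ (y : G) ∈ (T : Subgroup G) := Iff.rfl
    rw [← h1, ← hh, Sylow.smul_def, Sylow.pointwise_smul_def, Subgroup.mem_pointwise_smul_iff_inv_smul_mem]
    change ((MulAut.conj h)⁻¹ y : H) ∈ ((S.subtype hS : Sylow p H) : Subgroup H) ↔ _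
    rw [MulAut.conj_inv_apply]
    rfl
  refine ⟨h, h.2, fun x => ?_⟩
  constructor
  · intro hx
    exact (key ⟨x, hT hx⟩).1 hx
  · intro hx
    have h1 : x ∈ H := by
      have h2 := H.mul_mem (H.mul_mem h.2 (hS hx)) (H.inv_mem h.2)
      have e : (h : G) * ((h : G)⁻¹ * x * h) * (h : G)⁻¹ = x := by group
      rwa [e] at h2
    exact (key ⟨x, h1⟩).2 hx

/-- The hypothesis on involutions. -/
structure Hyp (S : Sylow 2 G) : Prop where
  comm : ∀ s ∈ S, ∀ t ∈ S, orderOf s = 2 → orderOf t = 2 → s * t = t * s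
  conj : ∀ s ∈ S, ∀ t ∈ S, orderOf s = 2 → orderOf t = 2 → ∃ g : G, g * s * g⁻¹ = t

variable {S : Sylow 2 G}

omit [Finite G] in
theorem Hyp.comm' (h : Hyp S) {s t : G} (hs : s ∈ S) (ht : t ∈ S) (hs2 : s * s = 1) (ht2 : t * t = 1) :
    s * t = t * s := by
  by_cases h1 : s = 1
  · rw [h1, one_mul, mul_one]
  by_cases h2 : t = 1
  · rw [h2, one_mul, mul_one]
  exact h.comm s hs t ht (orderOf_eq_prime (by rw [pow_two]; exact hs2) h1)
    (orderOf_eq_prime (by rw [pow_two]; exact ht2) h2)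

/-- the subgroup of involutions -/
def Om (h : Hyp S) : Subgroup G where
  carrier := {s | s ∈ S ∧ s * s = 1}
  mul_mem' := fun {a b} ha hb => ⟨S.mul_mem ha.1 hb.1, by
    have := h.comm' ha.1 hb.1 ha.2 hb.2
    calc a * b * (a * b) = a * (b * a) * b := by group
      _ = (a * a) * (b * b) := by rw [← this]; group
      _ = 1 := by rw [ha.2, hb.2, one_mul]⟩
  one_mem' := ⟨S.one_mem, one_mul 1⟩
  inv_mem' := fun {a} ha => ⟨S.inv_mem ha.1, by rw [← mul_inv_rev, ha.2, inv_one]⟩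

omit [Finite G] in
theorem mem_Om {h : Hyp S} {s : G} : s ∈ Om h ↔ s ∈ S ∧ s * s = 1 := Iff.rfl

/-- conjugation into `S` -/
theorem mem_norm_of (h : Hyp S) {k : G} (hk : ∀ v ∈ Om h, k * v * k⁻¹ ∈ S) :
    k ∈ Subgroup.normalizer (Om h : Set G) := by
  apply Subgroup.mem_normalizer_fintype
  intro v hv
  refine ⟨hk v hv, ?_⟩
  calc k * v * k⁻¹ * (k * v * k⁻¹) = k * (v * v) * k⁻¹ := by group
    _ = 1 := by rw [hv.2]; group

theorem fusion (h : Hyp S) {v w : G} (hv : v ∈ Om h) (hw : w ∈ Om h) (hv1 : v ≠ 1) (hw1 : w ≠ 1) :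
    ∃ g ∈ Subgroup.normalizer (Om h : Set G), g * v * g⁻¹ = w := by
  obtain ⟨g, hg⟩ := h.conj v hv.1 w hw.1 (orderOf_eq_prime (by rw [pow_two]; exact hv.2) hv1)
    (orderOf_eq_prime (by rw [pow_two]; exact hw.2) hw1)
  let D : Subgroup G := Subgroup.centralizer {w}
  have hD : ∀ x, x ∈ D ↔ x * w = w * x := fun x => by
    rw [Subgroup.mem_centralizer_singleton_iff]
  have hVD : Om h ≤ D := fun x hx => (hD x).2 (h.comm' hx.1 hw.1 hx.2 hw.2)
  let V' : Subgroup G := (Om h).map (MulAut.conj g).toMonoidHom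
  have hV'D : V' ≤ D := by
    rintro _ ⟨x, hx, rfl⟩
    rw [hD]
    change g * x * g⁻¹ * w = w * (g * x * g⁻¹)
    rw [← hg]
    have := h.comm' hx.1 hv.1 hx.2 hv.2
    calc g * x * g⁻¹ * (g * v * g⁻¹) = g * (x * v) * g⁻¹ := by group
      _ = _ := by rw [this]; group
  have hV2 : IsPGroup 2 (Om h) := fun x => ⟨1, Subtype.ext (by
    have := x.2.2
    rw [pow_one, pow_two]; exact this)⟩
  have hV'2 : IsPGroup 2 V' := hV2.map _
  obtain ⟨T1, hT1⟩ := (hV2.comap_of_injective D.subtype D.subtype_injective).exists_le_sylow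
  obtain ⟨T2, hT2⟩ := (hV'2.comap_of_injective D.subtype D.subtype_injective).exists_le_sylow
  obtain ⟨d, hd⟩ := MulAction.exists_smul_eq D T2 T1
  obtain ⟨S1, hS1⟩ := (T1.isPGroup'.map D.subtype).exists_le_sylow
  obtain ⟨k, hk⟩ := MulAction.exists_smul_eq G S S1
  have hS1m : ∀ x, x ∈ (S1 : Subgroup G) → k⁻¹ * x * k ∈ S := by
    intro x hx
    rw [← hk, Sylow.smul_def, Sylow.pointwise_smul_def, Subgroup.mem_pointwise_smul_iff_inv_smul_mem] at hx
    change (MulAut.conj k)⁻¹ x ∈ (S : Subgroup G) at hx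
    rw [MulAut.conj_inv_apply] at hx
    exact hx
  have hkN : k⁻¹ ∈ Subgroup.normalizer (Om h : Set G) := by
    apply mem_norm_of h
    intro x hx
    have h1 : x ∈ (S1 : Subgroup G) := hS1 ⟨⟨x, hVD hx⟩, hT1 hx, rfl⟩
    rw [inv_inv]
    exact hS1m x h1
  have hdg : k⁻¹ * ((d : G) * g) ∈ Subgroup.normalizer (Om h : Set G) := by
    apply mem_norm_of h
    intro x hx
    have h1 : g * x * g⁻¹ ∈ V' := ⟨x, hx, rfl⟩
    have h2 : (⟨g * x * g⁻¹, hV'D h1⟩ : D) ∈ (T2 : Subgroup D) := hT2 h1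
    have h3 : d * ⟨g * x * g⁻¹, hV'D h1⟩ * d⁻¹ ∈ (T1 : Subgroup D) := by
      rw [← hd, Sylow.smul_def, Sylow.pointwise_smul_def, Subgroup.mem_pointwise_smul_iff_inv_smul_mem]
      change (MulAut.conj d)⁻¹ _ ∈ (T2 : Subgroup D)
      rw [MulAut.conj_inv_apply]
      have e : d⁻¹ * (d * ⟨g * x * g⁻¹, hV'D h1⟩ * d⁻¹) * d = ⟨g * x * g⁻¹, hV'D h1⟩ := by group
      rw [e]; exact h2
    have h4 := hS1m _ (hS1 ⟨_, h3, rfl⟩)
    have e : k⁻¹ * ((d : G) * g) * x * (k⁻¹ * ((d : G) * g))⁻¹ = k⁻¹ * (D.subtype (d * ⟨g * x * g⁻¹, hV'D h1⟩ * d⁻¹)) * k := by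
      change _ = k⁻¹ * ((d : G) * (g * x * g⁻¹) * (d : G)⁻¹) * k
      group
    rw [e]; exact h4
  refine ⟨(d : G) * g, ?_, ?_⟩
  · have := Subgroup.mul_mem _ (Subgroup.inv_mem _ hkN) hdg
    rwa [inv_inv, mul_inv_cancel_left] at this
  · have h1 := (hD d).1 d.2
    calc (d : G) * g * v * ((d : G) * g)⁻¹ = (d : G) * (g * v * g⁻¹) * (d : G)⁻¹ := by group
      _ = w := by rw [hg, h1]; group

end Cfsg.Agent.Lib.H30OutA
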