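import Mathlib
import Cfsg.Agent.Lib.H30OutA

/-! Solvability of `Out(G)` if the involutions of a Sylow 2-subgroup commute and are conjugate. (helper30) -/

set_option autoImplicit false

open Subgroup
open scoped Pointwise

universe u

namespace Cfsg.Agent.Lib.H30OutB

open H50Out H30OutA Cfsg

variable {G : Type u} [Group G] {S : Sylow 2 G}

theorem stab_le (h : Hyp S) : stab (S : Subgroup G) ≤ stab (Om h) := by
  intro φ hφ s
  have h1 : φ s ∈ S ↔ s ∈ S := hφ s
  rw [mem_Om, mem_Om, h1]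
  constructor
  · rintro ⟨h2, h3⟩
    refine ⟨h2, ?_⟩
    rw [← map_mul] at h3
    exact (map_eq_one_iff _ φ.injective).1 h3
  · rintro ⟨h2, h3⟩
    refine ⟨h2, ?_⟩
    rw [← map_mul, h3, map_one]

theorem conj_mem (h : Hyp S) {s v : G} (hs : s ∈ S) (hv : v ∈ Om h) : s * v * s⁻¹ ∈ Om h :=
  ⟨S.mul_mem (S.mul_mem hs hv.1) (S.inv_mem hs), by
    calc s * v * s⁻¹ * (s * v * s⁻¹) = s * (v * v) * s⁻¹ := by group
      _ = 1 := by rw [hv.2]; group⟩

variable [Finite G]

theorem stepB (h : Hyp S) {φ : MulAut G} (hφ : ∀ v ∈ Om h, φ v = v) :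
    ∃ c ∈ Subgroup.centralizer (Om h : Set G), (MulAut.conj c)⁻¹ * φ ∈ stab (S : Subgroup G) := by
  let C : Subgroup G := Subgroup.centralizer (Om h : Set G)
  have hCn : ∀ s ∈ S, ∀ c ∈ C, s * c * s⁻¹ ∈ C := by
    intro s hs c hc
    rw [Subgroup.mem_centralizer_iff] at hc ⊢
    intro v hv
    have h1 := hc (s⁻¹ * v * s) (by
      have := conj_mem h (S.inv_mem hs) hv
      rwa [inv_inv] at this)
    calc v * (s * c * s⁻¹) = s * ((s⁻¹ * v * s) * c) * s⁻¹ := by group
      _ = s * (c * (s⁻¹ * v * s)) * s⁻¹ := by rw [h1]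
      _ = s * c * s⁻¹ * v := by group
  let H : Subgroup G :=
    { carrier := {g | ∃ c ∈ C, ∃ s ∈ S, g = c * s}
      mul_mem' := by
        rintro _ _ ⟨c, hc, s, hs, rfl⟩ ⟨c', hc', s', hs', rfl⟩
        exact ⟨c * (s * c' * s⁻¹), C.mul_mem hc (hCn s hs c' hc'), s * s', S.mul_mem hs hs', by group⟩
      one_mem' := ⟨1, C.one_mem, 1, S.one_mem, by rw [one_mul]⟩
      inv_mem' := by
        rintro _ ⟨c, hc, s, hs, rfl⟩
        refine ⟨s⁻¹ * c⁻¹ * (s⁻¹)⁻¹, hCn s⁻¹ (S.inv_mem hs) c⁻¹ (C.inv_mem hc), s⁻¹, S.inv_mem hs, by group⟩ }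
  have hTm : ∀ x, x ∈ ((φ • S : Sylow 2 G) : Subgroup G) ↔ φ⁻¹ x ∈ (S : Subgroup G) := by
    intro x
    rw [Sylow.pointwise_smul_def, Subgroup.mem_pointwise_smul_iff_inv_smul_mem]
    rfl
  obtain ⟨k, ⟨c, hc, s, hs, rfl⟩, hk⟩ := conj_in H S (φ • S)
    (fun s hs => ⟨1, C.one_mem, s, hs, by rw [one_mul]⟩) (by
      intro x hx
      rw [hTm] at hx
      refine ⟨x * (φ⁻¹ x)⁻¹, ?_, φ⁻¹ x, hx, by group⟩
      rw [Subgroup.mem_centralizer_iff]
      intro v hv
      set s := φ⁻¹ x with hs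
      have hxs : x = φ s := by rw [hs, MulAut.apply_inv_self]
      have h1 : s⁻¹ * v * s ∈ Om h := by
        have := conj_mem h (S.inv_mem hx) hv
        rwa [inv_inv] at this
      have h2 := hφ _ h1
      rw [map_mul, map_mul, map_inv, hφ v hv, ← hxs] at h2
      -- x⁻¹ v x = s⁻¹ v s
      calc v * (x * s⁻¹) = x * (x⁻¹ * v * x) * s⁻¹ := by group
        _ = x * s⁻¹ * v := by rw [h2]; group)
  refine ⟨c, hc, fun y => ?_⟩
  have e : ((MulAut.conj c)⁻¹ * φ) y = c⁻¹ * φ y * c := by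
    rw [MulAut.mul_apply, MulAut.conj_inv_apply]
  rw [e]
  have h1 := hk (φ y)
  rw [hTm, MulAut.inv_apply_self] at h1
  rw [h1]
  have e2 : (c * s)⁻¹ * φ y * (c * s) = s⁻¹ * (c⁻¹ * φ y * c) * s := by group
  rw [e2]
  constructor
  · intro h2
    exact S.mul_mem (S.mul_mem (S.inv_mem hs) h2) hs
  · intro h2
    have h3 := S.mul_mem (S.mul_mem hs h2) (S.inv_mem hs)
    have e3 : s * (s⁻¹ * (c⁻¹ * φ y * c) * s) * s⁻¹ = c⁻¹ * φ y * c := by group
    rwa [e3] at h3

/-- automorphisms normalizing `S` and centralizing its involutions -/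
def LL (h : Hyp S) : Subgroup (MulAut G) where
  carrier := {φ | φ ∈ stab (S : Subgroup G) ∧ ∀ v ∈ Om h, φ v = v}
  mul_mem' := fun {a b} ha hb => ⟨(stab (S : Subgroup G)).mul_mem ha.1 hb.1, fun v hv => by
    rw [MulAut.mul_apply, hb.2 v hv, ha.2 v hv]⟩
  one_mem' := ⟨(stab (S : Subgroup G)).one_mem, fun _ _ => rfl⟩
  inv_mem' := fun {a} ha => ⟨(stab (S : Subgroup G)).inv_mem ha.1, fun v hv => by
    conv_lhs => rw [← ha.2 v hv]
    rw [MulAut.inv_apply_self]⟩

theorem LL_solvable [IsSimpleGroup G] (h : Hyp S) (hS1 : (S : Subgroup G) ≠ ⊥) : Group.IsSolvable (LL h) := by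
  have hodd : ∀ {H : Type u} [Group H] [Finite H], Odd (Nat.card H) → Group.IsSolvable H :=
    fun h => Cfsg.Agent.S0205.result h
  have hle : LL h ≤ stab (S : Subgroup G) := fun φ hφ => hφ.1
  refine isSolvable_of_ker ((restr (S : Subgroup G)).comp (Subgroup.inclusion hle)) ?_ ?_
  · haveI := ker_restr_solvable hodd S hS1
    let f : ((restr (S : Subgroup G)).comp (Subgroup.inclusion hle)).ker →* (restr (S : Subgroup G)).ker :=
      { toFun := fun x => ⟨Subgroup.inclusion hle x.1, x.2⟩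
        map_one' := rfl
        map_mul' := fun _ _ => rfl }
    refine Group.isSolvable_of_isSolvable_injective (f := f) ?_
    intro x y hxy
    apply Subtype.ext
    apply Subtype.ext
    have h1 := congrArg (fun z : (restr (S : Subgroup G)).ker => ((z : stab (S : Subgroup G)) : MulAut G)) hxy
    exact h1
  · apply H30InvD.inv_solvable S.isPGroup'
    rintro _ ⟨φ, rfl⟩ s hs
    apply Subtype.ext
    exact φ.2.2 s ⟨s.2, congrArg Subtype.val hs⟩

theorem main [IsSimpleGroup G] (h : Hyp S) (hS1 : (S : Subgroup G) ≠ ⊥) : Group.IsSolvable (Out G) := by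
  letI : CommGroup (Om h) := { (inferInstance : Group (Om h)) with
    mul_comm := fun a b => Subtype.ext (h.comm' a.2.1 b.2.1 a.2.2 b.2.2) }
  let Y : Subgroup (MulAut (Om h)) := (Om h).normalizerMonoidHom.range
  obtain ⟨N, hN, hYN⟩ := H30LinG.exists_solvable (V := Om h) (fun v => Subtype.ext v.2.2) Y (by
    intro v w hv hw
    obtain ⟨g, hg, e⟩ := fusion h v.2 w.2 (fun h1 => hv (Subtype.ext h1)) (fun h1 => hw (Subtype.ext h1))
    exact ⟨(Om h).normalizerMonoidHom ⟨g, hg⟩, ⟨⟨g, hg⟩, rfl⟩, Subtype.ext e⟩)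
  let X : Subgroup (stab (Om h)) := N.comap (restr (Om h))
  let π : MulAut G →* Out G := QuotientGroup.mk' (Inn G)
  have hπc : ∀ g : G, π (MulAut.conj g) = 1 := fun g => by
    rw [QuotientGroup.mk'_apply, QuotientGroup.eq_one_iff]
    exact ⟨g, rfl⟩
  let f : X →* Out G := (π.comp (stab (Om h)).subtype).comp X.subtype
  have hst : ∀ n ∈ Subgroup.normalizer (Om h : Set G), MulAut.conj n ∈ stab (Om h) := by
    intro n hn s
    rw [MulAut.conj_apply]
    exact ((Subgroup.mem_normalizer_iff.1 hn) s).symm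
  have hf : Function.Surjective f := by
    intro q
    obtain ⟨φ, rfl⟩ := QuotientGroup.mk'_surjective (Inn G) q
    obtain ⟨g, ψ, hψ, rfl⟩ := exists_stab_mul S φ
    have hψV := stab_le h hψ
    have hnorm : restr (Om h) ⟨ψ, hψV⟩ ∈ Subgroup.normalizer (Y : Set (MulAut (Om h))) := by
      apply Subgroup.mem_normalizer_fintype
      rintro _ ⟨n, rfl⟩
      have hn' : ψ (n : G) ∈ Subgroup.normalizer (Om h : Set G) := by
        apply Subgroup.mem_normalizer_fintype
        intro v hv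
        have h1 : ψ⁻¹ v ∈ Om h := (hψV (ψ⁻¹ v)).1 (by rw [MulAut.apply_inv_self]; exact hv)
        have h2 := (Subgroup.mem_normalizer_iff.1 n.2 _).1 h1
        have h3 := (hψV _).2 h2
        rwa [map_mul, map_mul, map_inv, MulAut.apply_inv_self] at h3
      refine ⟨⟨ψ (n : G), hn'⟩, ?_⟩
      ext v
      change ψ (n : G) * v * (ψ (n : G))⁻¹ = ψ ((n : G) * (ψ⁻¹ v) * (n : G)⁻¹)
      rw [map_mul, map_mul, map_inv, MulAut.apply_inv_self]
    obtain ⟨y, ⟨n, rfl⟩, m, hm, e⟩ := hYN _ hnorm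
    have hmem : (MulAut.conj (n : G))⁻¹ * ψ ∈ stab (Om h) :=
      (stab (Om h)).mul_mem ((stab (Om h)).inv_mem (hst n n.2)) hψV
    have hr : restr (Om h) ⟨(MulAut.conj (n : G))⁻¹ * ψ, hmem⟩ = m := by
      have e1 : (⟨(MulAut.conj (n : G))⁻¹ * ψ, hmem⟩ : stab (Om h)) =
          (⟨MulAut.conj (n : G), hst n n.2⟩ : stab (Om h))⁻¹ * ⟨ψ, hψV⟩ := rfl
      have e2 : restr (Om h) ⟨MulAut.conj (n : G), hst n n.2⟩ = (Om h).normalizerMonoidHom n := by
        ext v; rfl
      rw [e1, map_mul, map_inv, e, inv_mul_eq_iff_eq_mul, e2]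
    refine ⟨⟨⟨(MulAut.conj (n : G))⁻¹ * ψ, hmem⟩, ?_⟩, ?_⟩
    · change restr (Om h) _ ∈ N
      rw [hr]; exact hm
    · change π ((MulAut.conj (n : G))⁻¹ * ψ) = π (MulAut.conj g * ψ)
      rw [map_mul, map_mul, map_inv, hπc, hπc, inv_one]
  refine solvable_of_surj f hf ((restr (Om h)).comp X.subtype) ?_ ?_
  · haveI := hN
    have hle : ((restr (Om h)).comp X.subtype).range ≤ N := by
      rintro _ ⟨x, rfl⟩; exact x.2
    exact Group.isSolvable_of_isSolvable_injective (f := Subgroup.inclusion hle) (Subgroup.inclusion_injective hle)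
  · have hle : ((restr (Om h)).comp X.subtype).ker.map f ≤ (LL h).map π := by
      rintro _ ⟨x, hx, rfl⟩
      have hfix : ∀ v ∈ Om h, ((x : stab (Om h)) : MulAut G) v = v := by
        intro v hv
        have h1 := DFunLike.congr_fun (MonoidHom.mem_ker.1 hx) (⟨v, hv⟩ : Om h)
        exact congrArg Subtype.val h1
      obtain ⟨c, hc, hcs⟩ := stepB h hfix
      refine ⟨(MulAut.conj c)⁻¹ * ((x : stab (Om h)) : MulAut G), ⟨hcs, ?_⟩, ?_⟩
      · intro v hv
        rw [MulAut.mul_apply, hfix v hv, MulAut.conj_inv_apply]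
        have h1 := (Subgroup.mem_centralizer_iff.1 hc) v hv
        calc c⁻¹ * v * c = c⁻¹ * (v * c) := by group
          _ = v := by rw [h1]; group
      · change π ((MulAut.conj c)⁻¹ * _) = π _
        rw [map_mul, map_inv, hπc, inv_one, one_mul]
        rfl
    haveI := LL_solvable h hS1
    have h2 : Group.IsSolvable ((LL h).map π) :=
      Group.isSolvable_of_surjective (f := π.subgroupMap (LL h)) (π.subgroupMap_surjective _)
    exact Group.isSolvable_of_isSolvable_injective (f := Subgroup.inclusion hle) (Subgroup.inclusion_injective hle)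

end Cfsg.Agent.Lib.H30OutB
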