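import Mathlib
import Cfsg.Agent.Lib.H30OutB
import Cfsg.Agent.Lib.FrattiniP
import Cfsg.Agent.Lib.H70Frattini
import Cfsg.Agent.Lib.H53Sub8b

/-! Solvability of `Out(G)` if a Sylow 2-subgroup has two or three generators. (helper30) -/

set_option autoImplicit false

open Subgroup
open scoped Pointwise commutatorElement

universe u

namespace Cfsg.Agent.Lib.H30OutC

open H50Out H30OutA H30OutB H30InvC Cfsg

section two

variable {P : Type u} [Group P] [Finite P]

/-- automorphisms trivial modulo `Φ` -/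
def Kt (Φ : Subgroup P) : Subgroup (MulAut P) where
  carrier := {b | ∀ s, s⁻¹ * b s ∈ Φ}
  mul_mem' := fun {a b} ha hb s => by
    have h1 := Φ.mul_mem (hb s) (ha (b s))
    have e : s⁻¹ * b s * ((b s)⁻¹ * a (b s)) = s⁻¹ * a (b s) := by group
    rw [e] at h1
    exact h1
  one_mem' := fun s => by
    rw [MulAut.one_apply, inv_mul_cancel]; exact Φ.one_mem
  inv_mem' := fun {a} ha s => by
    have h1 := Φ.inv_mem (ha (a⁻¹ s))
    rwa [MulAut.apply_inv_self, mul_inv_rev, inv_inv] at h1

/-- fixed subgroup -/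
def FxE (φ : MulAut P) : Subgroup P where
  carrier := {s | φ s = s}
  mul_mem' := fun {a b} ha hb => by
    change φ (a * b) = a * b
    rw [map_mul, show φ a = a from ha, show φ b = b from hb]
  one_mem' := map_one φ
  inv_mem' := fun {a} ha => by
    change φ a⁻¹ = a⁻¹
    rw [map_inv, show φ a = a from ha]

theorem fix_coset (h2 : IsPGroup 2 P) (Φ : Subgroup P) {φ : MulAut P} {q : ℕ} [hq : Fact q.Prime] (hq2 : q ≠ 2)
    (hφ : orderOf φ = q) (hΦ : φ ∈ Kt Φ) (s : P) : ∃ t, s⁻¹ * t ∈ Φ ∧ φ t = t := by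
  have hle : zpowers φ ≤ Kt Φ := by rwa [zpowers_le]
  let act : MulAction (zpowers φ) {t : P // s⁻¹ * t ∈ Φ} :=
    { smul := fun b t => ⟨(b : MulAut P) t, by
        have h1 := Φ.mul_mem t.2 (hle b.2 (t : P))
        have e : s⁻¹ * (t : P) * ((t : P)⁻¹ * (b : MulAut P) t) = s⁻¹ * (b : MulAut P) t := by group
        rwa [e] at h1⟩
      one_smul := fun t => Subtype.ext rfl
      mul_smul := fun b c t => Subtype.ext rfl }
  have hqg : IsPGroup q (zpowers φ) := IsPGroup.of_card (n := 1) (by rw [Nat.card_zpowers, hφ, pow_one])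
  have hcard : Nat.card {t : P // s⁻¹ * t ∈ Φ} = Nat.card Φ :=
    Nat.card_congr
      { toFun := fun t => ⟨s⁻¹ * t, t.2⟩
        invFun := fun x => ⟨s * x, by rw [inv_mul_cancel_left]; exact x.2⟩
        left_inv := fun t => Subtype.ext (by simp)
        right_inv := fun x => Subtype.ext (by simp) }
  obtain ⟨t, ht⟩ := hqg.nonempty_fixed_point_of_prime_not_dvd_card {t : P // s⁻¹ * t ∈ Φ} (by
    rw [hcard]
    haveI : Fact (Nat.Prime 2) := ⟨Nat.prime_two⟩
    obtain ⟨k, hk⟩ := (IsPGroup.iff_card (p := 2)).mp (h2.to_subgroup Φ)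
    rw [hk]
    intro h
    exact hq2 ((Nat.prime_dvd_prime_iff_eq hq.out Nat.prime_two).1 (hq.out.dvd_of_dvd_pow h)))
  exact ⟨t, t.2, congrArg Subtype.val (ht ⟨φ, mem_zpowers φ⟩)⟩

theorem eq_one_of_prime (h2 : IsPGroup 2 P) {φ : MulAut P} {q : ℕ} [hq : Fact q.Prime] (hq2 : q ≠ 2)
    (hφ : orderOf φ = q) (hΦ : φ ∈ Kt (frattini P)) : False := by
  have h1 : FxE φ = ⊤ := by
    apply frattini_nongenerating
    rw [eq_top_iff]
    intro s _
    obtain ⟨t, ht, hf⟩ := fix_coset h2 (frattini P) hq2 hφ hΦ s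
    have e : s = t * (s⁻¹ * t)⁻¹ := by group
    rw [e]
    exact Subgroup.mul_mem _ (Subgroup.mem_sup_left hf) (Subgroup.mem_sup_right (Subgroup.inv_mem _ ht))
  have h3 : φ = 1 := by
    ext s
    have : s ∈ FxE φ := h1 ▸ Subgroup.mem_top s
    exact this
  rw [h3, orderOf_one] at hφ
  exact hq.out.one_lt.ne hφ

theorem Kt_two (h2 : IsPGroup 2 P) : IsPGroup 2 (Kt (frattini P)) := by
  have h1 : Nat.card (Kt (frattini P)) = 2 ^ (Nat.card (Kt (frattini P))).primeFactorsList.length := by
    apply Nat.eq_prime_pow_of_unique_prime_dvd Nat.card_pos.ne'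
    intro d hd hdvd
    by_contra hd2
    haveI : Fact d.Prime := ⟨hd⟩
    obtain ⟨g, hg⟩ := exists_prime_orderOf_dvd_card' d hdvd
    exact eq_one_of_prime h2 hd2 (φ := (g : MulAut P)) (by rw [Subgroup.orderOf_coe, hg]) g.2
  exact IsPGroup.of_card h1

theorem map_frat (φ : MulAut P) : (frattini P).map (MulEquiv.toMonoidHom φ) = frattini P :=
  Subgroup.characteristic_iff_map_eq.1 (inferInstance : (frattini P).Characteristic) φ

/-- action on the Frattini quotient -/
def Th (P : Type u) [Group P] [Finite P] : MulAut P →* MulAut (P ⧸ frattini P) where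
  toFun φ := QuotientGroup.congr (frattini P) (frattini P) φ (map_frat φ)
  map_one' := by ext ⟨x⟩; rfl
  map_mul' φ ψ := by ext ⟨x⟩; rfl

theorem mem_ker_Th (φ : MulAut P) : φ ∈ (Th P).ker ↔ φ ∈ Kt (frattini P) := by
  rw [MonoidHom.mem_ker]
  constructor
  · intro h s
    have h1 := DFunLike.congr_fun h (s : P ⧸ frattini P)
    exact QuotientGroup.eq.1 h1.symm
  · intro h
    ext ⟨s⟩
    exact (QuotientGroup.eq.2 (h s)).symm

theorem card_quot (h2 : IsPGroup 2 P) (T : Finset P) (hT : Subgroup.closure (T : Set P) = ⊤) :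
    ∃ m ≤ T.card, Nat.card (P ⧸ frattini P) = 2 ^ m := by
  haveI : Fact (Nat.Prime 2) := ⟨Nat.prime_two⟩
  obtain ⟨m, hm⟩ := (IsPGroup.iff_card (p := 2)).mp (h2.to_quotient (frattini P))
  refine ⟨m, ?_, hm⟩
  exact (FrattiniP.burnside_basis (H70Frattini.commutator_le_frattini h2)
    (fun x => H70Frattini.pow_mem_frattini h2 x) hm).2 T hT

theorem card_aut_quot (h2 : IsPGroup 2 P) {m : ℕ} (hm : Nat.card (P ⧸ frattini P) = 2 ^ m) :
    Nat.card (MulAut (P ⧸ frattini P)) ∣ ∏ i : Fin m, (2 ^ m - 2 ^ (i : ℕ)) := by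
  haveI : Fact (Nat.Prime 2) := ⟨Nat.prime_two⟩
  have hex : ∀ x : P ⧸ frattini P, x * x = 1 := by
    rintro ⟨s⟩
    have := H70Frattini.pow_mem_frattini h2 s
    rw [pow_two] at this
    exact (QuotientGroup.eq_one_iff (s * s)).2 this
  have hcomm : ∀ x y : P ⧸ frattini P, x * y = y * x := by
    intro x y
    have e1 : x⁻¹ = x := inv_eq_of_mul_eq_one_right (hex x)
    have e2 : y⁻¹ = y := inv_eq_of_mul_eq_one_right (hex y)
    have e3 : (x * y)⁻¹ = x * y := inv_eq_of_mul_eq_one_right (hex _)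
    rw [mul_inv_rev, e1, e2] at e3
    exact e3.symm
  letI : CommGroup (P ⧸ frattini P) := { (inferInstance : Group (P ⧸ frattini P)) with mul_comm := hcomm }
  obtain ⟨φ, hφ⟩ := H58ElemAb.exists_mulAut_toGL (A := P ⧸ frattini P) 2 m
    (fun a => by rw [pow_two]; exact hex a) hm
  have h1 := Subgroup.card_dvd_of_injective φ hφ
  rwa [Matrix.card_GL_field, ZMod.card] at h1

theorem aut_solvable_of_two (h2 : IsPGroup 2 P) {m : ℕ} (hm : Nat.card (P ⧸ frattini P) = 2 ^ m) (hm2 : m ≤ 2) :
    Group.IsSolvable (MulAut P) := by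
  haveI : Fact (Nat.Prime 2) := ⟨Nat.prime_two⟩
  refine isSolvable_of_ker (Th P) ?_ ?_
  · have : (Th P).ker = Kt (frattini P) := by ext φ; exact mem_ker_Th φ
    rw [this]
    haveI := (Kt_two h2).isNilpotent
    infer_instance
  · have h1 : Nat.card (Th P).range ∣ 6 := by
      refine (Subgroup.card_subgroup_dvd_card _).trans ((card_aut_quot h2 hm).trans ?_)
      interval_cases m
      · norm_num
      · norm_num
      · simp only [Fin.prod_univ_succ, Fin.prod_univ_zero]; norm_num
    apply SL25.solvable_of_dvd_sixty (h1.trans (by norm_num))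
    intro h
    have := Nat.le_of_dvd (by norm_num) h1
    omega

end two

section three

variable {G : Type u} [Group G] [Finite G] {S : Sylow 2 G}

theorem solvable_of_168 {H : Type u} [Group H] [Finite H] (h : Nat.card H ∣ 168) (O : Subgroup H) [O.Normal]
    (hO : Odd (Nat.card O)) (hO1 : O ≠ ⊥) : Group.IsSolvable H := by
  have hOs : Group.IsSolvable O := Cfsg.Agent.S0205.result hO
  have h3 : 3 ≤ Nat.card O := by
    have h4 : Nat.card O ≠ 1 := fun h => hO1 (Subgroup.card_eq_one.1 h)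
    have h5 : 0 < Nat.card O := Nat.card_pos
    obtain ⟨k, hk⟩ := hO
    omega
  have hq : Group.IsSolvable (H ⧸ O) := by
    have h5 : Nat.card (H ⧸ O) * Nat.card O = Nat.card H := by
      rw [← Subgroup.index_eq_card]; exact Subgroup.index_mul_card O
    have h6 := Nat.le_of_dvd (by norm_num) h
    apply H53Sub8b.solvable_of_card
    · intro h7
      have : 60 ∣ 168 := (h7.trans ⟨_, h5.symm⟩).trans h
      revert this; norm_num
    · nlinarith
  exact Group.isSolvable_of_ker_le_range O.subtype (QuotientGroup.mk' O) (by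
    rw [QuotientGroup.ker_mk', Subgroup.range_subtype])

theorem three_gen [IsSimpleGroup G] (hS1 : (S : Subgroup G) ≠ ⊥) {m : ℕ}
    (hm : Nat.card ((S : Subgroup G) ⧸ frattini (S : Subgroup G)) = 2 ^ m) (hm3 : m ≤ 3)
    (hg : ∃ g ∈ Subgroup.normalizer ((S : Subgroup G) : Set G), Odd (orderOf g) ∧
      g ∉ Subgroup.centralizer ((S : Subgroup G) : Set G)) : Group.IsSolvable (Out G) := by
  have hodd : ∀ {H : Type u} [Group H] [Finite H], Odd (Nat.card H) → Group.IsSolvable H :=
    fun h => Cfsg.Agent.S0205.result h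
  have h2 := S.isPGroup'
  apply out_solvable hodd S hS1
  rcases Nat.lt_or_ge m 3 with h | h
  · haveI := aut_solvable_of_two h2 hm (by omega)
    infer_instance
  have hm' : m = 3 := by omega
  subst hm'
  have h168 : Nat.card (MulAut ((S : Subgroup G) ⧸ frattini (S : Subgroup G))) ∣ 168 := by
    refine (card_aut_quot h2 hm).trans ?_
    simp only [Fin.prod_univ_succ, Fin.prod_univ_zero]
    norm_num
  let f : stab (S : Subgroup G) →* MulAut ((S : Subgroup G) ⧸ frattini (S : Subgroup G)) :=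
    (Th (S : Subgroup G)).comp (restr (S : Subgroup G))
  have hst : ∀ n ∈ Subgroup.normalizer ((S : Subgroup G) : Set G), MulAut.conj n ∈ stab (S : Subgroup G) := by
    intro n hn s
    rw [MulAut.conj_apply]
    exact ((Subgroup.mem_normalizer_iff.1 hn) s).symm
  let c : Subgroup.normalizer ((S : Subgroup G) : Set G) →* stab (S : Subgroup G) :=
    { toFun := fun n => ⟨MulAut.conj (n : G), hst n n.2⟩
      map_one' := Subtype.ext (map_one MulAut.conj)
      map_mul' := fun a b => Subtype.ext (map_mul MulAut.conj _ _) }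
  let H := f.range
  let d : Subgroup.normalizer ((S : Subgroup G) : Set G) →* H := f.rangeRestrict.comp c
  have hOn : d.range.Normal := by
    refine ⟨?_⟩
    rintro _ ⟨n, rfl⟩ ⟨_, ψ, rfl⟩
    have hn' : (ψ : MulAut G) (n : G) ∈ Subgroup.normalizer ((S : Subgroup G) : Set G) := by
      apply Subgroup.mem_normalizer_fintype
      intro v hv
      have h1 : (ψ : MulAut G)⁻¹ v ∈ (S : Subgroup G) := (ψ.2 _).1 (by rw [MulAut.apply_inv_self]; exact hv)
      have h2 := (Subgroup.mem_normalizer_iff.1 n.2 _).1 h1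
      have h3 := (ψ.2 _).2 h2
      rwa [map_mul, map_mul, map_inv, MulAut.apply_inv_self] at h3
    refine ⟨⟨(ψ : MulAut G) (n : G), hn'⟩, ?_⟩
    apply Subtype.ext
    change f (c ⟨(ψ : MulAut G) (n : G), hn'⟩) = f ψ * f (c n) * (f ψ)⁻¹
    rw [← map_mul, ← map_inv, ← map_mul]
    congr 1
    apply Subtype.ext
    ext g
    change (ψ : MulAut G) (n : G) * g * ((ψ : MulAut G) (n : G))⁻¹ =
      (ψ : MulAut G) ((n : G) * ((ψ : MulAut G)⁻¹ g) * (n : G)⁻¹)
    rw [map_mul, map_mul, map_inv, MulAut.apply_inv_self]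
  have hOodd : Odd (Nat.card d.range) := by
    have h1 : ((S : Subgroup G).subgroupOf (Subgroup.normalizer ((S : Subgroup G) : Set G))) ≤ d.ker := by
      intro s hs
      rw [MonoidHom.mem_ker]
      apply Subtype.ext
      change Th (S : Subgroup G) (restr (S : Subgroup G) (c s)) = 1
      rw [← MonoidHom.mem_ker, mem_ker_Th]
      intro x
      have h3 := H70Frattini.commutator_le_frattini h2
        (Subgroup.commutator_mem_commutator (Subgroup.mem_top x⁻¹) (Subgroup.mem_top (⟨(s : G), hs⟩ : (S : Subgroup G))))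
      have e : x⁻¹ * (restr (S : Subgroup G) (c s)) x = ⁅x⁻¹, (⟨(s : G), hs⟩ : (S : Subgroup G))⁆ := by
        apply Subtype.ext
        rw [commutatorElement_def, inv_inv]
        change (x : G)⁻¹ * ((s : G) * x * (s : G)⁻¹) = (x : G)⁻¹ * (s : G) * x * (s : G)⁻¹
        group
      rw [e]; exact h3
    have h3 : Nat.card d.range ∣ (S : Subgroup G).relIndex (Subgroup.normalizer ((S : Subgroup G) : Set G)) := by
      rw [← Subgroup.index_ker]
      exact Subgroup.index_dvd_of_le h1
    have h4 : ¬ 2 ∣ (S : Subgroup G).relIndex (Subgroup.normalizer ((S : Subgroup G) : Set G)) := by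
      intro h
      apply S.not_dvd_index
      exact h.trans (Subgroup.relIndex_dvd_index_of_le Subgroup.le_normalizer)
    rw [← Nat.not_even_iff_odd, even_iff_two_dvd]
    intro h5
    exact h4 (h5.trans h3)
  have hOne : d.range ≠ ⊥ := by
    intro hbot
    obtain ⟨g, hgN, hgo, hgc⟩ := hg
    apply hgc
    have h1 : d ⟨g, hgN⟩ = 1 := by
      have : d ⟨g, hgN⟩ ∈ d.range := ⟨_, rfl⟩
      rwa [hbot, Subgroup.mem_bot] at this
    have h3 : restr (S : Subgroup G) (c ⟨g, hgN⟩) ∈ Kt (frattini (S : Subgroup G)) := by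
      rw [← mem_ker_Th, MonoidHom.mem_ker]
      exact congrArg Subtype.val h1
    obtain ⟨k, hk⟩ := Kt_two h2 ⟨_, h3⟩
    have hk' : (restr (S : Subgroup G) (c ⟨g, hgN⟩)) ^ 2 ^ k = 1 := congrArg Subtype.val hk
    have h4 : (restr (S : Subgroup G) (c ⟨g, hgN⟩)) ^ orderOf g = 1 := by
      rw [← map_pow, ← map_pow]
      have : (⟨g, hgN⟩ : Subgroup.normalizer ((S : Subgroup G) : Set G)) ^ orderOf g = 1 :=
        Subtype.ext (pow_orderOf_eq_one g)
      rw [this, map_one, map_one]
    have h5 : restr (S : Subgroup G) (c ⟨g, hgN⟩) = 1 := by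
      rw [← orderOf_eq_one_iff, ← Nat.dvd_one]
      have h6 : Nat.Coprime (2 ^ k) (orderOf g) := Nat.Coprime.pow_left _ (Nat.coprime_two_left.2 hgo)
      rw [← h6.gcd_eq_one]
      exact Nat.dvd_gcd (orderOf_dvd_of_pow_eq_one hk') (orderOf_dvd_of_pow_eq_one h4)
    rw [Subgroup.mem_centralizer_iff]
    intro s hs
    have h6 := DFunLike.congr_fun h5 ⟨s, hs⟩
    have h7 : g * s * g⁻¹ = s := congrArg Subtype.val h6
    calc s * g = g * s * g⁻¹ * g := by rw [h7]
      _ = g * s := by group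
  haveI := hOn
  have hHs : Group.IsSolvable H :=
    solvable_of_168 ((Subgroup.card_subgroup_dvd_card _).trans h168) d.range hOodd hOne
  -- the range of restr
  let Th' : (restr (S : Subgroup G)).range →* MulAut ((S : Subgroup G) ⧸ frattini (S : Subgroup G)) :=
    (Th (S : Subgroup G)).comp (restr (S : Subgroup G)).range.subtype
  refine isSolvable_of_ker Th' ?_ ?_
  · have hK : IsPGroup 2 Th'.ker := by
      have h3 := Kt_two h2
      intro x
      obtain ⟨k, hk⟩ := h3 ⟨((x : (restr (S : Subgroup G)).range) : MulAut (S : Subgroup G)), by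
        rw [← mem_ker_Th]; exact x.2⟩
      have hk' : ((x : (restr (S : Subgroup G)).range) : MulAut (S : Subgroup G)) ^ 2 ^ k = 1 :=
        congrArg Subtype.val hk
      exact ⟨k, Subtype.ext (Subtype.ext hk')⟩
    haveI : Fact (Nat.Prime 2) := ⟨Nat.prime_two⟩
    haveI := hK.isNilpotent
    infer_instance
  · have hle : Th'.range ≤ H := by
      rintro _ ⟨⟨_, φ, rfl⟩, rfl⟩
      exact ⟨φ, rfl⟩
    haveI := hHs
    exact Group.isSolvable_of_isSolvable_injective (f := Subgroup.inclusion hle) (Subgroup.inclusion_injective hle)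

end three

end Cfsg.Agent.Lib.H30OutC
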