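import Cfsg.Agent.Lib.HallPi
import Cfsg.Agent.Lib.TransferApps
import Mathlib.GroupTheory.SpecificGroups.ZGroup

/-!
Conjugacy of subgroups of the same order: reduction along a normal Hall subgroup, and `Z`-groups.
-/

set_option autoImplicit false

namespace Cfsg.Agent.Lib.H30SO

open Subgroup Cfsg.Agent.Lib.SubgroupTools Cfsg.Agent.Lib.HallPi
open scoped Pointwise

universe u

/-- arithmetic: `a₁ a₂ = b₁ b₂`, `a₁, b₁ ∣ m`, `a₂, b₂ ∣ n`, `m, n` coprime. -/
theorem eq_of_mul_eq {a₁ a₂ b₁ b₂ m n : ℕ} (hmn : m.Coprime n) (ha₁ : a₁ ∣ m) (hb₁ : b₁ ∣ m)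
    (ha₂ : a₂ ∣ n) (hb₂ : b₂ ∣ n) (h : a₁ * a₂ = b₁ * b₂) : a₁ = b₁ := by
  apply Nat.dvd_antisymm
  · exact (Nat.Coprime.of_dvd ha₁ hb₂ hmn).dvd_of_dvd_mul_right (h ▸ dvd_mul_right a₁ a₂)
  · exact (Nat.Coprime.of_dvd hb₁ ha₂ hmn).dvd_of_dvd_mul_right (h ▸ dvd_mul_right b₁ b₂)

variable {G : Type u} [Group G] [Finite G]

theorem card_inf_of_hall {R : Subgroup G} [R.Normal] (hcop : (Nat.card R).Coprime R.index)
    {A B : Subgroup G} (h : Nat.card A = Nat.card B) :
    Nat.card (A ⊓ R : Subgroup G) = Nat.card (B ⊓ R : Subgroup G) := by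
  have h1 := card_map_mul_card_inf_ker (QuotientGroup.mk' R) A
  have h2 := card_map_mul_card_inf_ker (QuotientGroup.mk' R) B
  rw [QuotientGroup.ker_mk'] at h1 h2
  have hd : ∀ C : Subgroup G, Nat.card (C.map (QuotientGroup.mk' R)) ∣ R.index := fun C => by
    rw [index_eq_card]; exact card_subgroup_dvd_card _
  refine eq_of_mul_eq (m := Nat.card R) (n := R.index) hcop (card_dvd_of_le inf_le_right)
    (card_dvd_of_le inf_le_right) (hd A) (hd B) ?_
  rw [mul_comm, h1, mul_comm, h2, h]

theorem card_map_of_hall {R : Subgroup G} [R.Normal] (hcop : (Nat.card R).Coprime R.index)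
    {A B : Subgroup G} (h : Nat.card A = Nat.card B) :
    Nat.card (A.map (QuotientGroup.mk' R)) = Nat.card (B.map (QuotientGroup.mk' R)) := by
  have h1 := card_map_mul_card_inf_ker (QuotientGroup.mk' R) A
  have h2 := card_map_mul_card_inf_ker (QuotientGroup.mk' R) B
  rw [QuotientGroup.ker_mk'] at h1 h2
  rw [card_inf_of_hall hcop h] at h1
  exact Nat.eq_of_mul_eq_mul_right (Nat.card_pos (α := (B ⊓ R : Subgroup G))) (by rw [h1, h2, h])

theorem le_normalizer_inf_normal (A R : Subgroup G) [R.Normal] :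
    A ≤ normalizer ((A ⊓ R : Subgroup G) : Set G) := by
  intro a ha
  rw [mem_normalizer_iff_conj_smul, conj_smul_inf, conj_smul_normal a R, conj_smul_self_of_mem ha]

/-- two subgroups with the same intersection with a normal Hall subgroup `R` and the same image
modulo `R` are conjugate (in the normalizer of the intersection). -/
theorem conj_of_map_eq [hs : Group.IsSolvable G] {R : Subgroup G} [R.Normal]
    (hcop : (Nat.card R).Coprime R.index) {A B X : Subgroup G} (hA : A ⊓ R = X) (hB : B ⊓ R = X)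
    (hAB : A.map (QuotientGroup.mk' R) = B.map (QuotientGroup.mk' R)) :
    ∃ g : G, MulAut.conj g • X = X ∧ MulAut.conj g • A = B := by
  classical
  set f := QuotientGroup.mk' R with hf
  have hker : f.ker = R := QuotientGroup.ker_mk' R
  set π : Set ℕ := {p | p ∣ Nat.card R} with hπ
  have hRπ : PiNum π (Nat.card R) := fun p _ h => h
  have hIπ : PiNum πᶜ R.index := by
    intro p hp h1 h2
    exact Nat.Prime.not_coprime_iff_dvd.2 ⟨p, hp, h2, h1⟩ hcop
  have hmapπ : ∀ C : Subgroup G, PiNum πᶜ (Nat.card (C.map f)) := fun C =>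
    hIπ.of_dvd (by rw [index_eq_card]; exact card_subgroup_dvd_card _)
  set W : Subgroup G := normalizer (X : Set G) with hW
  have hAW : A ≤ W := by rw [hW, ← hA]; exact le_normalizer_inf_normal A R
  have hBW : B ≤ W := by rw [hW, ← hB]; exact le_normalizer_inf_normal B R
  set J : Subgroup G := (A ⊔ R) ⊓ W with hJ
  have hsup : A ⊔ R = B ⊔ R := by
    have h1 : (A.map f).comap f = (B.map f).comap f := by rw [hAB]
    rwa [comap_map_eq, comap_map_eq, hker] at h1
  have hAJ : A ≤ J := le_inf le_sup_left hAW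
  have hBJ : B ≤ J := le_inf (hsup ▸ le_sup_left) hBW
  have hJmap : J.map f = A.map f := by
    apply le_antisymm
    · refine (map_mono inf_le_left).trans ?_
      rw [Subgroup.map_sup, hf, QuotientGroup.map_mk'_self, sup_bot_eq]
    · exact map_mono hAJ
  have hsJ : Group.IsSolvable J := inferInstance
  -- Hall subgroups
  have key : ∀ C : Subgroup G, C ≤ J → C ⊓ R = X → C.map f = A.map f →
      ∃ C1 : Subgroup G, Cfsg.IsPiHallOf πᶜ C1 J ∧ C = X ⊔ C1 := by
    intro C hCJ hCX hCm
    have hsC : Group.IsSolvable C := inferInstance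
    obtain ⟨C1, hC1⟩ := exists_isPiHallOf (M := C) hsC πᶜ
    rw [isPiHallOf_iff, compl_compl] at hC1
    obtain ⟨hC1C, hC1p, hC1i⟩ := hC1
    have hcC := card_map_mul_card_inf_ker f C
    rw [hker, hCX] at hcC
    have hcJ := card_map_mul_card_inf_ker f J
    rw [hker] at hcJ
    have hrel := card_mul_relIndex_of_le hC1C
    have hXπ : PiNum π (Nat.card X) := hRπ.of_dvd (by rw [← hCX]; exact card_dvd_of_le inf_le_right)
    have hJRπ : PiNum π (Nat.card (J ⊓ R : Subgroup G)) := hRπ.of_dvd (card_dvd_of_le inf_le_right)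
    -- `|C1| = |C.map f|`
    have hcard : Nat.card C1 = Nat.card (C.map f) := by
      apply Nat.dvd_antisymm
      · exact hC1p.dvd_of_dvd_mul_right (n := Nat.card X) (by rw [compl_compl]; exact hXπ)
          (by rw [hcC, ← hrel]; exact dvd_mul_right _ _)
      · exact (hmapπ C).dvd_of_dvd_mul_right (n := C1.relIndex C) (by rw [compl_compl]; exact hC1i)
          (by rw [hrel, ← hcC]; exact dvd_mul_right _ _)
    have hXC : X ≤ C := hCX ▸ inf_le_left
    refine ⟨C1, ?_, ?_⟩
    · rw [isPiHallOf_iff, compl_compl]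
      refine ⟨hC1C.trans hCJ, hC1p, ?_⟩
      have hrelJ := card_mul_relIndex_of_le (hC1C.trans hCJ)
      have : C1.relIndex J = Nat.card (J ⊓ R : Subgroup G) := by
        apply Nat.eq_of_mul_eq_mul_left (Nat.card_pos (α := C1))
        rw [hrelJ, ← hcJ, hcard, hCm, hJmap]
      rw [this]
      exact hJRπ
    · symm
      apply Subgroup.eq_of_le_of_card_ge (sup_le hXC hC1C)
      have hcp : (Nat.card X).Coprime (Nat.card C1) := hXπ.coprime hC1p
      apply Nat.le_of_dvd Nat.card_pos
      rw [← hcC, ← hcard, mul_comm]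
      exact hcp.mul_dvd_of_dvd_of_dvd (card_dvd_of_le le_sup_left) (card_dvd_of_le le_sup_right)
  obtain ⟨A1, hA1, hA1e⟩ := key A hAJ hA rfl
  obtain ⟨B1, hB1, hB1e⟩ := key B hBJ hB hAB.symm
  obtain ⟨g, hgJ, hg⟩ := exists_conj_eq_rel hsJ hA1 hB1
  have hgX : MulAut.conj g • X = X := mem_normalizer_iff_conj_smul.1 hgJ.2
  refine ⟨g, hgX, ?_⟩
  conv_lhs => rw [hA1e]
  rw [conj_smul_sup, hgX, hg, ← hB1e]

/-- Reduction along a normal Hall subgroup. -/
theorem hall_reduction [hs : Group.IsSolvable G] (R : Subgroup G) [R.Normal]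
    (hcop : (Nat.card R).Coprime R.index)
    (hR : ∀ X Y : Subgroup G, X ≤ R → Y ≤ R → Nat.card X = Nat.card Y →
      ∃ g : G, MulAut.conj g • X = Y)
    (hQ : ∀ W A B : Subgroup (G ⧸ R), A ≤ W → B ≤ W → Nat.card A = Nat.card B →
      ∃ w ∈ W, MulAut.conj w • A = B)
    (A B : Subgroup G) (h : Nat.card A = Nat.card B) : ∃ g : G, MulAut.conj g • A = B := by
  obtain ⟨g, hg⟩ := hR (A ⊓ R) (B ⊓ R) inf_le_right inf_le_right (card_inf_of_hall hcop h)
  have hA' : (MulAut.conj g • A) ⊓ R = B ⊓ R := by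
    rw [← hg, conj_smul_inf, conj_smul_normal g R]
  set A' := MulAut.conj g • A with hA'd
  have hcard : Nat.card A' = Nat.card B := by rw [hA'd, card_conj_smul, h]
  set X := B ⊓ R with hX
  set W : Subgroup G := normalizer (X : Set G) with hW
  have hAW : A' ≤ W := by rw [hW, ← hA']; exact le_normalizer_inf_normal A' R
  have hBW : B ≤ W := by rw [hW, hX]; exact le_normalizer_inf_normal B R
  obtain ⟨w, hw, hwAB⟩ := hQ (W.map (QuotientGroup.mk' R)) (A'.map (QuotientGroup.mk' R))
    (B.map (QuotientGroup.mk' R)) (map_mono hAW) (map_mono hBW) (card_map_of_hall hcop hcard)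
  obtain ⟨w, hw', rfl⟩ := hw
  rw [← map_conj_smul] at hwAB
  have hwX : MulAut.conj w • X = X := mem_normalizer_iff_conj_smul.1 hw'
  obtain ⟨j, -, hj⟩ := conj_of_map_eq hcop (A := MulAut.conj w • A') (B := B) (X := X)
    (by rw [← conj_smul_normal w R, ← conj_smul_inf, hA', hwX]) rfl hwAB
  refine ⟨j * w * g, ?_⟩
  rw [← hj, hA'd, conj_smul_mul, conj_smul_mul]

/-- Subgroups of the same order of a `Z`-group are conjugate. -/
theorem zgroup_conj [IsZGroup G] (A B : Subgroup G) (h : Nat.card A = Nat.card B) :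
    ∃ g : G, MulAut.conj g • A = B := by
  refine hall_reduction (commutator G) (IsZGroup.coprime_commutator_index G) ?_ ?_ A B h
  · intro X Y hX hY hXY
    refine ⟨1, ?_⟩
    rw [conj_smul_one]
    haveI : IsCyclic (commutator G) := IsZGroup.isCyclic_commutator G
    have h1 : X.subgroupOf (commutator G) = Y.subgroupOf (commutator G) := by
      apply TransferApps.cyclic_subgroup_eq_of_card
      rw [card_subgroupOf_of_le hX, card_subgroupOf_of_le hY, hXY]
    have h2 := congrArg (fun Z => Z.map (commutator G).subtype) h1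
    simp only [subgroupOf_map_subtype] at h2
    rwa [inf_eq_left.2 hX, inf_eq_left.2 hY] at h2
  · intro W A B hA hB hAB
    refine ⟨1, one_mem _, ?_⟩
    rw [conj_smul_one]
    haveI : IsCyclic (G ⧸ commutator G) := (inferInstance : IsCyclic (Abelianization G))
    exact TransferApps.cyclic_subgroup_eq_of_card hAB

theorem zgroup_conj_rel [IsZGroup G] (W A B : Subgroup G) (hA : A ≤ W) (hB : B ≤ W)
    (h : Nat.card A = Nat.card B) : ∃ w ∈ W, MulAut.conj w • A = B := by
  obtain ⟨w, hw⟩ := zgroup_conj (A.subgroupOf W) (B.subgroupOf W)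
    (by rw [card_subgroupOf_of_le hA, card_subgroupOf_of_le hB, h])
  refine ⟨w, w.2, ?_⟩
  have h1 := congrArg (fun Z => Z.map W.subtype) hw
  simp only [conj_smul_map_subtype, subgroupOf_map_subtype] at h1
  rwa [inf_eq_left.2 hA, inf_eq_left.2 hB] at h1

end Cfsg.Agent.Lib.H30SO
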