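import Mathlib
import Cfsg.Agent.Lib.UniqueInvolution

set_option autoImplicit false

namespace Cfsg.Agent.Lib.PGroupElem

open Subgroup

/-- Two commuting elements of order `p`, one not a power of the other, generate an elementary abelian
subgroup of order `p²`. -/
theorem exists_card_sq {H : Type*} [Group H] [Finite H] {p : ℕ} (hp : p.Prime) {z y : H}
    (hz : orderOf z = p) (hy : orderOf y = p) (hyz : y ∉ zpowers z) (hc : z * y = y * z) :
    ∃ E : Subgroup H, Nat.card E = p ^ 2 ∧ (∀ a ∈ E, a ^ p = 1) ∧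
      (∀ a ∈ E, ∀ b ∈ E, a * b = b * a) ∧ z ∈ E ∧ y ∈ E := by
  have hzy : ∀ i j : ℤ, Commute (z ^ i) (y ^ j) := by
    intro i j
    apply Commute.zpow_zpow
    exact hc
  have hzp : ∀ a ∈ zpowers z, a ^ p = 1 := by
    intro a ha
    rw [← hz]
    exact orderOf_dvd_iff_pow_eq_one.1 (orderOf_dvd_of_mem_zpowers ha)
  have hyp : ∀ a ∈ zpowers y, a ^ p = 1 := by
    intro a ha
    rw [← hy]
    exact orderOf_dvd_iff_pow_eq_one.1 (orderOf_dvd_of_mem_zpowers ha)
  let f : zpowers z × zpowers y →* H :=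
    MonoidHom.noncommCoprod (zpowers z).subtype (zpowers y).subtype (by
      rintro ⟨_, i, rfl⟩ ⟨_, j, rfl⟩
      exact hzy i j)
  have hf : Function.Injective f := by
    rw [← MonoidHom.ker_eq_bot_iff, eq_bot_iff]
    rintro ⟨a, b⟩ hab
    rw [MonoidHom.mem_ker] at hab
    have h1 : (a : H) * (b : H) = 1 := hab
    have hb : (b : H) ∈ zpowers z := by
      have : (b : H) = (a : H)⁻¹ := eq_inv_of_mul_eq_one_right h1
      rw [this]; exact inv_mem a.2
    have hb1 : (b : H) = 1 := by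
      by_contra hne
      have h2 : orderOf (b : H) = p := by
        have h3 : orderOf (b : H) ∣ orderOf y := orderOf_dvd_of_mem_zpowers b.2
        rw [hy] at h3
        rcases (Nat.dvd_prime hp).1 h3 with h4 | h4
        · exact absurd (orderOf_eq_one_iff.1 h4) hne
        · exact h4
      have h3 : zpowers (b : H) = zpowers y := by
        apply Subgroup.eq_of_le_of_card_ge (zpowers_le.2 b.2)
        rw [Nat.card_zpowers, Nat.card_zpowers, h2, hy]
      apply hyz
      have : y ∈ zpowers (b : H) := by rw [h3]; exact mem_zpowers y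
      exact (zpowers_le.2 hb) this
    have ha1 : (a : H) = 1 := by rw [hb1, mul_one] at h1; exact h1
    rw [mem_bot]
    exact Prod.ext (Subtype.ext ha1) (Subtype.ext hb1)
  refine ⟨f.range, ?_, ?_, ?_, ⟨(⟨z, mem_zpowers z⟩, 1), by simp [f]⟩,
    ⟨(1, ⟨y, mem_zpowers y⟩), by simp [f]⟩⟩
  · rw [← Nat.card_congr (MonoidHom.ofInjective hf).toEquiv, Nat.card_prod, Nat.card_zpowers,
      Nat.card_zpowers, hz, hy, sq]
  · rintro _ ⟨⟨a, b⟩, rfl⟩
    rw [← map_pow]
    have : (a, b) ^ p = 1 := Prod.ext (Subtype.ext (hzp a a.2)) (Subtype.ext (hyp b b.2))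
    rw [this, map_one]
  · rintro _ ⟨a, rfl⟩ _ ⟨b, rfl⟩
    rw [← map_mul, ← map_mul]
    congr 1
    obtain ⟨⟨_, i, rfl⟩, ⟨_, j, rfl⟩⟩ := a
    obtain ⟨⟨_, k, rfl⟩, ⟨_, l, rfl⟩⟩ := b
    apply Prod.ext
    · exact Subtype.ext (((Commute.refl z).zpow_zpow i k).eq)
    · exact Subtype.ext (((Commute.refl y).zpow_zpow j l).eq)

/-- a nontrivial finite `p`-group has a central element of order `p` -/
theorem exists_central_orderOf {H : Type*} [Group H] [Finite H] [Nontrivial H] {p : ℕ}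
    [hp : Fact p.Prime] (hH : IsPGroup p H) : ∃ z : H, z ∈ center H ∧ orderOf z = p := by
  have : Group.IsNilpotent H := hH.isNilpotent
  have hcP : center H ≠ ⊥ := Group.IsNilpotent.center_ne_bot _
  have hcPp : IsPGroup p ↥(center H) := hH.to_subgroup _
  obtain ⟨k, hk⟩ := hcPp.exists_card_eq
  obtain ⟨z, hz⟩ := exists_prime_orderOf_dvd_card' (G := ↥(center H)) p (by
    rw [hk]
    apply dvd_pow_self
    rintro rfl
    apply hcP
    rw [pow_zero] at hk
    exact (Subgroup.card_eq_one).1 hk)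
  exact ⟨z, z.2, by rw [Subgroup.orderOf_coe, hz]⟩

/-- A finite `p`-group which is neither cyclic nor generalized quaternion contains an elementary abelian
subgroup of order `p²`, containing a given central element of order `p`. -/
theorem exists_elem_or {H : Type*} [Group H] [Finite H] {p : ℕ} [hp : Fact p.Prime]
    (hH : IsPGroup p H) :
    IsCyclic H ∨ (p = 2 ∧ ∃ n : ℕ, 1 ≤ n ∧ Nonempty (H ≃* QuaternionGroup (2 ^ n))) ∨
      ∃ E : Subgroup H, Nat.card E = p ^ 2 ∧ (∀ a ∈ E, a ^ p = 1) ∧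
      (∀ a ∈ E, ∀ b ∈ E, a * b = b * a) ∧ ∃ z ∈ E, z ∈ center H ∧ orderOf z = p := by
  by_cases h : ∀ x y : H, orderOf x = p → orderOf y = p → y ∈ Subgroup.zpowers x
  · rcases Cfsg.Agent.Lib.UniqueInvolution.isCyclic_or_quaternion hH h with h | h
    · exact Or.inl h
    · exact Or.inr (Or.inl h)
  right; right
  push Not at h
  obtain ⟨x0, y0, hx0, hy0, hxy0⟩ := h
  have hne : Nontrivial H := ⟨x0, 1, by
    rintro rfl; rw [orderOf_one] at hx0; exact hp.out.one_lt.ne hx0⟩
  obtain ⟨z, hzc, hz⟩ := exists_central_orderOf hH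
  obtain ⟨y, hy, hyz⟩ : ∃ y : H, orderOf y = p ∧ y ∉ zpowers z := by
    by_contra hcon
    push Not at hcon
    have h1 := hcon x0 hx0
    have h2 := hcon y0 hy0
    apply hxy0
    have e1 : zpowers x0 = zpowers z := by
      apply Subgroup.eq_of_le_of_card_ge (zpowers_le.2 h1)
      rw [Nat.card_zpowers, Nat.card_zpowers, hx0, hz]
    rw [e1]; exact h2
  obtain ⟨E, h1, h2, h3, h4, -⟩ := exists_card_sq hp.out hz hy hyz ((mem_center_iff.1 hzc) y).symm
  exact ⟨E, h1, h2, h3, z, h4, hzc, hz⟩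

end Cfsg.Agent.Lib.PGroupElem
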