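import Cfsg.Agent.Lib.H30SOa
import Cfsg.Agent.Lib.PGroupElem
import Cfsg.Agent.Lib.Fitting
import Cfsg.Agent.Lib.Cores

/-!
Sylow subgroups of solvable groups whose abelian `p`-subgroups of equal order are conjugate.
-/

set_option autoImplicit false

namespace Cfsg.Agent.Lib.H30SO

open Subgroup Cfsg.Agent.Lib.SubgroupTools
open scoped Pointwise

universe u v

/-- any two abelian `p`-subgroups of the same order are conjugate -/
def Bp (p : ℕ) (G : Type u) [Group G] : Prop :=
  ∀ A B : Subgroup G, IsPGroup p A → IsPGroup p B → IsMulCommutative A → IsMulCommutative B →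
    Nat.card A = Nat.card B → ∃ g : G, MulAut.conj g • A = B

/-- the three types of `p`-groups occurring -/
def Str (p : ℕ) {G : Type u} [Group G] (X : Subgroup G) : Prop :=
  IsCyclic X ∨ ((∀ a ∈ X, ∀ b ∈ X, a * b = b * a) ∧ ∀ a ∈ X, a ^ p = 1) ∨
    (p = 2 ∧ Nonempty (X ≃* QuaternionGroup 2))

variable {G : Type u} [Group G]

theorem card_pow_isPGroup {p k : ℕ} {X : Subgroup G} (h : Nat.card X = p ^ k) : IsPGroup p X :=
  IsPGroup.of_card h

theorem isMulComm_of {X : Subgroup G} (h : ∀ a ∈ X, ∀ b ∈ X, a * b = b * a) : IsMulCommutative X :=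
  isMulCommutative_iff_of_setLike.2 h

section lift

variable {H : Type v} [Group H] [Finite G]

/-- lifting a `p`-subgroup along a surjection with `p'`-kernel -/
theorem exists_lift {p : ℕ} [hp : Fact p.Prime] (f : G →* H) (hf : Function.Surjective f)
    (hk : ¬ p ∣ Nat.card f.ker) (A : Subgroup H) (hA : IsPGroup p A) :
    ∃ A' : Subgroup G, IsPGroup p A' ∧ A'.map f = A ∧ A' ⊓ f.ker = ⊥ := by
  classical
  have : Finite H := Finite.of_surjective f hf
  obtain ⟨P⟩ : Nonempty (Sylow p (A.comap f)) := inferInstance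
  have hP : IsPGroup p ((P : Subgroup (A.comap f)).map (A.comap f).subtype) := P.2.map _
  set A' := (P : Subgroup (A.comap f)).map (A.comap f).subtype with hA'
  have hle : A' ≤ A.comap f := map_subtype_le _
  have hmap : A'.map f ≤ A := map_le_iff_le_comap.2 hle
  have hinf : A' ⊓ f.ker = ⊥ := by
    have h1 : IsPGroup p (A' ⊓ f.ker : Subgroup G) := hP.to_le inf_le_left
    obtain ⟨k, hk'⟩ := h1.exists_card_eq
    rw [← Subgroup.card_eq_one, hk']
    rcases Nat.eq_zero_or_pos k with rfl | hk0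
    · rfl
    · exfalso
      apply hk
      exact (dvd_pow_self p hk0.ne').trans (hk' ▸ card_dvd_of_le inf_le_right)
  refine ⟨A', hP, ?_, hinf⟩
  apply Subgroup.eq_of_le_of_card_ge hmap
  have h1 := card_map_mul_card_inf_ker f A'
  rw [hinf, Subgroup.card_bot, mul_one] at h1
  -- `|A| ∣ |A'|`
  obtain ⟨k, hk'⟩ := hA.exists_card_eq
  have h2 : Nat.card (A.comap f) = Nat.card A * Nat.card f.ker := by
    have h3 := card_map_mul_card_inf_ker f (A.comap f)
    rw [map_comap_eq_self_of_surjective hf, inf_eq_right.2 (Subgroup.ker_le_comap f A)] at h3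
    exact h3.symm
  have h3 : p ^ k ∣ Nat.card (P : Subgroup (A.comap f)) := by
    apply P.pow_dvd_card_of_pow_dvd_card
    rw [h2, hk']
    exact dvd_mul_right _ _
  rw [h1, hk', hA', Subgroup.card_map_of_injective (A.comap f).subtype_injective]
  exact Nat.le_of_dvd Nat.card_pos h3

theorem Bp.of_surjective {p : ℕ} [hp : Fact p.Prime] (hB : Bp p G) (f : G →* H)
    (hf : Function.Surjective f) (hk : ¬ p ∣ Nat.card f.ker) : Bp p H := by
  intro A B hA hB' hAc hBc hAB
  obtain ⟨A', hA'p, hA'm, hA'i⟩ := exists_lift f hf hk A hA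
  obtain ⟨B', hB'p, hB'm, hB'i⟩ := exists_lift f hf hk B hB'
  have hcard : ∀ C : Subgroup G, C ⊓ f.ker = ⊥ → Nat.card (C.map f) = Nat.card C := by
    intro C hC
    have h1 := card_map_mul_card_inf_ker f C
    rwa [hC, Subgroup.card_bot, mul_one] at h1
  have hcomm : ∀ C : Subgroup G, C ⊓ f.ker = ⊥ → IsMulCommutative (C.map f) →
      IsMulCommutative C := by
    intro C hC hc
    apply isMulComm_of
    intro a ha b hb
    rw [← mul_inv_eq_one, ← Subgroup.mem_bot, ← hC]
    refine Subgroup.mem_inf.2 ⟨C.mul_mem (C.mul_mem ha hb) (C.inv_mem (C.mul_mem hb ha)), ?_⟩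
    rw [MonoidHom.mem_ker, map_mul, map_inv, mul_inv_eq_one, map_mul, map_mul]
    exact isMulCommutative_iff_of_setLike.1 hc _ (mem_map_of_mem f ha) _ (mem_map_of_mem f hb)
  obtain ⟨g, hg⟩ := hB A' B' hA'p hB'p (hcomm A' hA'i (hA'm ▸ hAc)) (hcomm B' hB'i (hB'm ▸ hBc))
    (by rw [← hcard A' hA'i, ← hcard B' hB'i, hA'm, hB'm, hAB])
  refine ⟨f g, ?_⟩
  rw [← hA'm, ← map_conj_smul, hg, hB'm]

end lift

/-- an element of `p`-power order lies in a normal subgroup as soon as some element of the same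
order does -/
theorem Bp.mem_of_orderOf_eq {p : ℕ} [hp : Fact p.Prime] (hB : Bp p G) {N : Subgroup G}
    [hN : N.Normal] {x y : G} {k : ℕ} (hy : y ∈ N) (hyo : orderOf y = p ^ k)
    (hxy : orderOf x = p ^ k) : x ∈ N := by
  obtain ⟨g, hg⟩ := hB (zpowers y) (zpowers x) (IsPGroup.of_card (by rw [Nat.card_zpowers, hyo]))
    (IsPGroup.of_card (by rw [Nat.card_zpowers, hxy])) inferInstance inferInstance
    (by rw [Nat.card_zpowers, Nat.card_zpowers, hyo, hxy])
  have h1 : x ∈ MulAut.conj g • zpowers y := hg ▸ mem_zpowers x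
  have h2 : MulAut.conj g • zpowers y ≤ MulAut.conj g • N :=
    conj_smul_mono g (zpowers_le.2 hy)
  rw [conj_smul_normal g N] at h2
  exact h2 h1

theorem Bp.mem_of_dvd [Finite G] {p : ℕ} [hp : Fact p.Prime] (hB : Bp p G) {N : Subgroup G}
    [hN : N.Normal] (h : p ∣ Nat.card N) {x : G} (hx : orderOf x = p) : x ∈ N := by
  obtain ⟨y, hy⟩ := exists_prime_orderOf_dvd_card' (G := N) p h
  exact hB.mem_of_orderOf_eq (k := 1) y.2 (by rw [Subgroup.orderOf_coe, hy, pow_one])
    (by rw [hx, pow_one])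

end Cfsg.Agent.Lib.H30SO
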