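import Cfsg.Agent.Lib.H30SOb
import Cfsg.Agent.Lib.H55Quat

/-!
The structure of the Sylow subgroups.
-/

set_option autoImplicit false

namespace Cfsg.Agent.Lib.H30SO

open Subgroup Cfsg.Agent.Lib.SubgroupTools
open scoped Pointwise commutatorElement

universe u v

theorem card_quat (n : ℕ) : Nat.card (QuaternionGroup (2 ^ n)) = 4 * 2 ^ n := by
  haveI : NeZero (2 ^ n) := ⟨by positivity⟩
  rw [Nat.card_eq_fintype_card, QuaternionGroup.card]

/-- a power of prime order `p ^ 2` of an element whose `p`-th power is nontrivial -/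
theorem exists_pow_orderOf {G : Type u} [Group G] {p : ℕ} [hp : Fact p.Prime] {X : Subgroup G}
    (hX : IsPGroup p X) {x : G} (hx : x ∈ X) (hxp : x ^ p ≠ 1) : ∃ y ∈ X, orderOf y = p ^ 2 := by
  obtain ⟨k, hk⟩ := IsPGroup.iff_orderOf.1 hX ⟨x, hx⟩
  rw [Subgroup.orderOf_mk] at hk
  have hk2 : 2 ≤ k := by
    by_contra hcon
    apply hxp
    rw [← orderOf_dvd_iff_pow_eq_one, hk]
    conv_rhs => rw [← pow_one p]
    exact pow_dvd_pow p (by omega)
  refine ⟨x ^ (p ^ (k - 2)), X.pow_mem hx _, ?_⟩
  have h1 : p ^ (k - 2) ∣ orderOf x := by rw [hk]; exact pow_dvd_pow p (by omega)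
  rw [orderOf_pow_of_dvd (pow_ne_zero _ hp.out.ne_zero) h1, hk, Nat.pow_div (by omega) hp.out.pos]
  congr 1; omega

theorem quat_xa_sq {n : ℕ} (i : ZMod (2 * n)) :
    (QuaternionGroup.xa i : QuaternionGroup n) * QuaternionGroup.xa i = QuaternionGroup.a n := by
  rw [QuaternionGroup.xa_mul_xa]
  congr 1
  simp

theorem quat_a_n_ne {n : ℕ} [NeZero n] : (QuaternionGroup.a (n : ZMod (2 * n)) : QuaternionGroup n) ≠ 1 := by
  rw [QuaternionGroup.one_def]
  intro h
  have h1 : ((n : ℕ) : ZMod (2 * n)) = 0 := QuaternionGroup.a.inj h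
  rw [ZMod.natCast_eq_zero_iff] at h1
  have hn : 0 < n := Nat.pos_of_ne_zero (NeZero.ne n)
  have := Nat.le_of_dvd hn h1
  omega

theorem orderOf_quat_xa {n : ℕ} [NeZero n] (i : ZMod (2 * n)) :
    orderOf (QuaternionGroup.xa i : QuaternionGroup n) = 2 ^ 2 := by
  have : orderOf (QuaternionGroup.xa i : QuaternionGroup n) = 4 := QuaternionGroup.orderOf_xa i
  rw [this]; norm_num

section struct

variable {G : Type u} [Group G] [Finite G] {p : ℕ} [hp : Fact p.Prime]

/-- the structure of Sylow subgroups when `O_{p'}(G) = 1` -/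
theorem struct_aux [hs : Group.IsSolvable G] (hB : Bp p G) (h : pPrimeCore p G = ⊥) (P : Sylow p G) :
    Str p (P : Subgroup G) := by
  classical
  have hCQ := Fitting.centralizer_pCore_le_of_solvable (G := G) p h
  set Q := pCore p G with hQ
  have hQP : Q ≤ P := Cores.pCore_le_sylow P
  have hQp : IsPGroup p Q := Cores.isPGroup_pCore p G
  haveI hQn : Q.Normal := Fitting.normal_pCore p
  rcases PGroupElem.exists_elem_or (H := P) P.2 with h1 | ⟨hp2, n, hn, ⟨e⟩⟩ | ⟨E, hEc, hEp, hEcomm, z, hzE, hzc, hz⟩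
  · exact Or.inl h1
  · -- generalized quaternion
    subst hp2
    right; right
    refine ⟨rfl, ?_⟩
    haveI : NeZero (2 ^ n) := ⟨by positivity⟩
    suffices hn1 : n = 1 by
      subst hn1
      exact ⟨e⟩
    by_contra hn1
    have hn2 : 2 ≤ n := by omega
    have hcardP : Nat.card P = 4 * 2 ^ n := by rw [Nat.card_congr e.toEquiv, card_quat]
    -- `Q` contains an element of order four
    have hQ4 : ∃ y ∈ Q, orderOf y = 2 ^ 2 := by
      by_contra hcon
      push Not at hcon
      have hexp : ∀ y ∈ Q, y ^ 2 = 1 := by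
        intro y hy
        by_contra hy2
        obtain ⟨w, hw, hwo⟩ := exists_pow_orderOf hQp hy hy2
        exact hcon w hw hwo
      -- all nontrivial elements are the same involution
      have huniq : ∀ y ∈ Q, ∀ w ∈ Q, y ≠ 1 → w ≠ 1 → y = w := by
        intro y hy w hw hy1 hw1
        have hoy : orderOf (e ⟨y, hQP hy⟩) = 2 := by
          rw [MulEquiv.orderOf_eq, Subgroup.orderOf_mk]
          exact orderOf_eq_prime (hexp y hy) hy1
        have how : orderOf (e ⟨w, hQP hw⟩) = 2 := by
          rw [MulEquiv.orderOf_eq, Subgroup.orderOf_mk]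
          exact orderOf_eq_prime (hexp w hw) hw1
        have h2 := (H55Quat.eq_of_orderOf_two _ hoy).trans (H55Quat.eq_of_orderOf_two _ how).symm
        exact congrArg Subtype.val (e.injective h2)
      have hcent : ∀ y ∈ Q, ∀ g : G, g * y = y * g := by
        intro y hy g
        by_cases hy1 : y = 1
        · rw [hy1, mul_one, one_mul]
        · have h2 : g * y * g⁻¹ = y := huniq _ (hQn.conj_mem y hy g) y hy
            (by rw [Ne, conj_eq_one_iff]; exact hy1) hy1
          rw [← mul_inv_eq_iff_eq_mul]; exact h2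
      have htop : (⊤ : Subgroup G) ≤ Q := by
        refine le_trans ?_ hCQ
        intro g _
        rw [mem_centralizer_iff]
        intro y hy
        exact (hcent y hy g).symm
      have hx : ((e.symm (QuaternionGroup.xa 0) : P) : G) ^ 2 = 1 := hexp _ (htop (mem_top _))
      have hx2 : orderOf ((e.symm (QuaternionGroup.xa 0) : P) : G) = 2 ^ 2 := by
        rw [Subgroup.orderOf_coe, MulEquiv.orderOf_eq, orderOf_quat_xa]
      have := orderOf_dvd_of_pow_eq_one hx
      rw [hx2] at this
      revert this; decide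
    obtain ⟨y, hyQ, hyo⟩ := hQ4
    -- a normal subgroup containing an element of order `4` contains `P`
    have hgen : ∀ N : Subgroup G, N.Normal → (∃ y ∈ N, orderOf y = 2 ^ 2) → (P : Subgroup G) ≤ N := by
      intro N hN hy
      obtain ⟨y, hyN, hyo⟩ := hy
      have hxa : ∀ i, ((e.symm (QuaternionGroup.xa i) : P) : G) ∈ N := fun i =>
        hB.mem_of_orderOf_eq hyN hyo (by rw [Subgroup.orderOf_coe, MulEquiv.orderOf_eq, orderOf_quat_xa])
      intro x hx
      obtain ⟨w, hw⟩ := e.symm.surjective ⟨x, hx⟩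
      rcases w with i | i
      · have h2 : (QuaternionGroup.a i : QuaternionGroup (2 ^ n)) =
            QuaternionGroup.xa 0 * QuaternionGroup.xa (i - ((2 ^ n : ℕ) : ZMod (2 * 2 ^ n))) := by
          rw [QuaternionGroup.xa_mul_xa]
          congr 1; ring
        have h3 : x = ((e.symm (QuaternionGroup.xa 0) : P) : G) *
            ((e.symm (QuaternionGroup.xa (i - ((2 ^ n : ℕ) : ZMod (2 * 2 ^ n)))) : P) : G) := by
          rw [← Subgroup.coe_mul, ← map_mul, ← h2, hw]
        rw [h3]
        exact N.mul_mem (hxa _) (hxa _)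
      · have h3 : x = ((e.symm (QuaternionGroup.xa i) : P) : G) := by rw [hw]
        rw [h3]; exact hxa i
    have hPQ : (P : Subgroup G) ≤ Q := hgen Q hQn ⟨y, hyQ, hyo⟩
    have hPQ' : (P : Subgroup G) = Q := le_antisymm hPQ hQP
    -- the commutator subgroup
    have hPn : (P : Subgroup G).Normal := hPQ' ▸ hQn
    have hcn : (⁅(P : Subgroup G), (P : Subgroup G)⁆).Normal := commutator_normal _ _
    have hc4 : ∃ y ∈ (⁅(P : Subgroup G), (P : Subgroup G)⁆ : Subgroup G), orderOf y = 2 ^ 2 := by
      obtain ⟨m, rfl⟩ : ∃ m, n = m + 2 := ⟨n - 2, by omega⟩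
      refine ⟨((e.symm ⁅(QuaternionGroup.xa 0 : QuaternionGroup (2 ^ (m + 2))),
        QuaternionGroup.a ((2 ^ m : ℕ) : ZMod (2 * 2 ^ (m + 2)))⁆ : P) : G), ?_, ?_⟩
      · rw [map_commutatorElement]
        exact commutator_mem_commutator (Subtype.prop _) (Subtype.prop _)
      · rw [Subgroup.orderOf_coe, MulEquiv.orderOf_eq]
        have h2 : ⁅(QuaternionGroup.xa 0 : QuaternionGroup (2 ^ (m + 2))),
            QuaternionGroup.a ((2 ^ m : ℕ) : ZMod (2 * 2 ^ (m + 2)))⁆ =
            (QuaternionGroup.a (-(2 ^ (m + 1) : ℕ) : ZMod (2 * 2 ^ (m + 2)))) := by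
          rw [commutatorElement_def, mul_inv_eq_iff_eq_mul, mul_inv_eq_iff_eq_mul,
            QuaternionGroup.xa_mul_a, QuaternionGroup.a_mul_a, QuaternionGroup.a_mul_xa]
          congr 1
          push_cast
          ring
        rw [h2]
        apply orderOf_eq_prime_pow
        · rw [pow_one, QuaternionGroup.one_def]
          rw [pow_two, QuaternionGroup.a_mul_a]
          intro h3
          have h4 := QuaternionGroup.a.inj h3
          have h5 : ((2 ^ (m + 2) : ℕ) : ZMod (2 * 2 ^ (m + 2))) = 0 := by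
            have : ((2 ^ (m + 2) : ℕ) : ZMod (2 * 2 ^ (m + 2))) =
                -(-((2 ^ (m + 1) : ℕ) : ZMod (2 * 2 ^ (m + 2))) + -((2 ^ (m + 1) : ℕ) : ZMod (2 * 2 ^ (m + 2)))) := by
              push_cast; ring
            rw [this, h4, neg_zero]
          rw [ZMod.natCast_eq_zero_iff] at h5
          have := Nat.le_of_dvd (by positivity) h5
          have h6 : 0 < 2 ^ (m + 2) := by positivity
          omega
        · rw [QuaternionGroup.one_def]
          have h3 : (2 : ℕ) ^ (1 + 1) = 2 * 2 := by norm_num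
          rw [h3, pow_mul, pow_two, pow_two, QuaternionGroup.a_mul_a, QuaternionGroup.a_mul_a]
          congr 1
          have : ((2 * 2 ^ (m + 2) : ℕ) : ZMod (2 * 2 ^ (m + 2))) = 0 := ZMod.natCast_self _
          calc -((2 ^ (m + 1) : ℕ) : ZMod (2 * 2 ^ (m + 2))) + -((2 ^ (m + 1) : ℕ) : ZMod (2 * 2 ^ (m + 2))) +
                (-((2 ^ (m + 1) : ℕ) : ZMod (2 * 2 ^ (m + 2))) + -((2 ^ (m + 1) : ℕ) : ZMod (2 * 2 ^ (m + 2))))
              = -((2 * 2 ^ (m + 2) : ℕ) : ZMod (2 * 2 ^ (m + 2))) := by push_cast; ring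
            _ = 0 := by rw [this, neg_zero]
    have hPc := hgen _ hcn hc4
    have hPne : (P : Subgroup G) ≠ ⊥ := by
      intro hbot
      have : Nat.card P = 1 := by rw [hbot]; exact Subgroup.card_bot
      rw [hcardP] at this
      have h6 : 0 < 2 ^ n := by positivity
      omega
    exact (not_le_of_gt (Group.IsSolvable.commutator_lt_of_ne_bot hPne)) hPc
  · -- elementary abelian
    right; left
    have hEmap : Nat.card (E.map (P : Subgroup G).subtype) = p ^ 2 := by
      rw [Subgroup.card_map_of_injective (P : Subgroup G).subtype_injective, hEc]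
    have hexp : ∀ x ∈ (P : Subgroup G), x ^ p = 1 := by
      intro x hx
      by_contra hxp
      obtain ⟨y, hyP, hyo⟩ := exists_pow_orderOf P.2 hx hxp
      have hcm : IsMulCommutative (E.map (P : Subgroup G).subtype) := by
        apply isMulComm_of
        rintro _ ⟨a, ha, rfl⟩ _ ⟨b, hb, rfl⟩
        exact congrArg Subtype.val (hEcomm a ha b hb)
      obtain ⟨g, hg⟩ := hB (E.map (P : Subgroup G).subtype) (zpowers y) (IsPGroup.of_card hEmap)
        (IsPGroup.of_card (by rw [Nat.card_zpowers, hyo])) hcm inferInstance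
        (by rw [hEmap, Nat.card_zpowers, hyo])
      have h1 : y ∈ MulAut.conj g • (E.map (P : Subgroup G).subtype) := hg ▸ mem_zpowers y
      rw [mem_conj_smul] at h1
      obtain ⟨a, ha, hay⟩ := h1
      have h2 : (g⁻¹ * y * g) ^ p = 1 := by
        rw [← hay]
        have := hEp a ha
        rw [← map_pow, this, map_one]
      have h3 : y ^ p = 1 := by
        have h4 : g⁻¹ * y * g = g⁻¹ * y * g⁻¹⁻¹ := by rw [inv_inv]
        rw [h4, conj_pow, conj_eq_one_iff] at h2
        exact h2
      have h5 := orderOf_dvd_of_pow_eq_one h3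
      rw [hyo] at h5
      have h6 := Nat.le_of_dvd hp.out.pos h5
      nlinarith [hp.out.two_le]
    refine ⟨?_, hexp⟩
    -- every element of `P` lies in the centre of `Q`
    set Z := (center Q).map Q.subtype with hZ
    haveI hZn : Z.Normal := Fitting.normal_map_subtype_of_characteristic inferInstance
    have hZp : IsPGroup p Z := (hQp.to_subgroup _).map _
    have hz1 : (z : G) ≠ 1 := by
      intro h1
      have h2 : z = 1 := Subtype.ext h1
      rw [h2, orderOf_one] at hz
      exact hp.out.one_lt.ne hz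
    have hQne : Q ≠ ⊥ := by
      intro hbot
      apply hz1
      rw [← Subgroup.mem_bot, ← hbot]
      apply hCQ
      rw [hbot, mem_centralizer_iff]
      intro y hy
      rw [SetLike.mem_coe, Subgroup.mem_bot] at hy
      rw [hy, one_mul, mul_one]
    have hZd : p ∣ Nat.card Z := by
      haveI : Nontrivial Q := (Subgroup.nontrivial_iff_ne_bot Q).2 hQne
      have h1 := hQp.center_nontrivial
      obtain ⟨k, hk⟩ := hZp.exists_card_eq
      rw [hk]
      apply dvd_pow_self
      rintro rfl
      rw [pow_zero, hZ, Subgroup.card_map_of_injective Q.subtype_injective, Subgroup.card_eq_one] at hk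
      exact (Subgroup.nontrivial_iff_ne_bot _).1 h1 hk
    have hPZ : (P : Subgroup G) ≤ Z := by
      intro x hx
      by_cases hx1 : x = 1
      · rw [hx1]; exact one_mem _
      · exact hB.mem_of_dvd hZd (orderOf_eq_prime (hexp x hx) hx1)
    intro a ha b hb
    obtain ⟨a', ha', haa⟩ := hPZ ha
    obtain ⟨b', hb', hbb⟩ := hPZ hb
    rw [← haa, ← hbb]
    exact congrArg Subtype.val ((mem_center_iff.1 ha') b').symm

end struct

end Cfsg.Agent.Lib.H30SO
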