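import Cfsg.Agent.Lib.CFCore
import Cfsg.Agent.Lib.CFMinFail
import Cfsg.Agent.Lib.ClsStab
import Cfsg.Agent.Lib.FrattiniQuot
import Cfsg.Agent.Lib.PGroupOdd

/-!
Minimal pairs: a `p'`-element acting nontrivially on a `p`-group acts nontrivially on a subgroup of class two
and exponent `p` (or `4`).
-/

set_option autoImplicit false

namespace Cfsg.Agent.Lib.MinPair

open Cfsg.Agent.Lib.CFSylow
open scoped commutatorElement

/-- centralizer of a subgroup -/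
abbrev cz {X : Type*} [Group X] (U : Subgroup X) : Subgroup X :=
  Subgroup.centralizer ((U : Subgroup X) : Set X)

/-- normalizer of a subgroup -/
abbrev nz {X : Type*} [Group X] (U : Subgroup X) : Subgroup X :=
  Subgroup.normalizer ((U : Subgroup X) : Set X)

variable {G : Type*} [Group G] [Finite G] {p : ℕ} [Fact p.Prime]

omit [Finite G] in
theorem pow_choose {c : G} (hc : c ^ p = 1) (hp : p ≠ 2) : c ^ (p.choose 2) = 1 := by
  obtain ⟨k, hk⟩ : p ∣ p.choose 2 := (Fact.out : p.Prime).dvd_choose_self (by norm_num) (by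
    have := (Fact.out : p.Prime).two_le
    omega)
  rw [hk, pow_mul, hc, one_pow]

omit [Fact p.Prime] in
/-- `g` fixes `x` if it fixes `⁅x, g⁆`. -/
theorem fix_of_fix {Q : Subgroup G} (hQ : IsPGroup p Q) {g : G} (hg : (orderOf g).Coprime p)
    {x : G} (hx : g * x * g⁻¹ * x⁻¹ ∈ Q)
    (h : g * (g * x * g⁻¹ * x⁻¹) * g⁻¹ = g * x * g⁻¹ * x⁻¹) : g * x * g⁻¹ = x := by
  obtain ⟨j, hj⟩ := hQ ⟨_, hx⟩
  have hj' : (g * x * g⁻¹ * x⁻¹) ^ p ^ j = 1 := congrArg Subtype.val hj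
  exact Cfsg.Agent.Lib.ClsStab.coprime_centralize hg hj' h

theorem minimal_pair {Q : Subgroup G} (hQ : IsPGroup p Q) {g : G} (hg : (orderOf g).Coprime p)
    (hgQ : g ∈ nz Q) (hnc : g ∉ cz Q) :
    ∃ R ≤ Q, g ∈ nz R ∧ g ∉ cz R ∧ R ≤ ⁅R, Subgroup.zpowers g⁆ ∧
      (∀ x ∈ R, x ^ p = 1 ∨ (p = 2 ∧ x ^ 4 = 1)) ∧ ⁅R, R⁆ ≤ cz R := by
  classical
  have hex : ∃ n, ∃ R ≤ Q, g ∈ nz R ∧ g ∉ cz R ∧ Nat.card R = n := ⟨_, Q, le_rfl, hgQ, hnc, rfl⟩
  obtain ⟨R, hRQ, hgR, hnR, hcard⟩ := Nat.find_spec hex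
  have hmin : ∀ R' : Subgroup G, R' < R → g ∈ nz R' → g ∈ cz R' := by
    intro R' hR' hg'
    by_contra hne
    refine Nat.find_min hex ?_ ⟨R', hR'.le.trans hRQ, hg', hne, rfl⟩
    rw [← hcard]
    refine lt_of_le_of_ne (Subgroup.card_le_of_le hR'.le) fun h => hR'.ne ?_
    exact Subgroup.eq_of_le_of_card_ge hR'.le h.ge
  have hRp : IsPGroup p R := hQ.to_le hRQ
  have hzR : ∀ h ∈ Subgroup.zpowers g, h ∈ nz R := fun h hh =>
    (Subgroup.zpowers_le.2 hgR) hh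
  have hconj : ∀ h ∈ nz R, ∀ x ∈ R, h * x * h⁻¹ ∈ R := fun h hh x hx =>
    le_normalizer_iff.1 (le_refl (nz R)) h hh x hx
  -- step 1
  have hcle : ⁅R, Subgroup.zpowers g⁆ ≤ R := by
    rw [Subgroup.commutator_le]
    intro x hx h hh
    have e : ⁅x, h⁆ = x * (h * x⁻¹ * h⁻¹) := by rw [commutatorElement_def]; group
    rw [e]; exact mul_mem hx (hconj h (hzR h hh) _ (inv_mem hx))
  have hstep1 : ⁅R, Subgroup.zpowers g⁆ = R := by
    by_contra hne
    have hlt := lt_of_le_of_ne hcle hne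
    have h1 : g ∈ nz ⁅R, Subgroup.zpowers g⁆ := by
      rw [mem_normalizer, cj_commutator, mem_normalizer.1 hgR, Cfsg.Agent.Lib.CFMinFail.cj_zpowers]
      simp
    have h2 := hmin _ hlt h1
    apply hnR
    rw [mem_centralizer]
    intro x hx
    have h3 : g * x * g⁻¹ * x⁻¹ ∈ ⁅R, Subgroup.zpowers g⁆ := by
      have h4 := inv_mem (Subgroup.commutator_mem_commutator hx (Subgroup.mem_zpowers g))
      rwa [commutatorElement_inv] at h4
    exact fix_of_fix hRp hg (hcle h3) (mem_centralizer.1 h2 _ h3)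
  -- the Frattini subgroup
  set Φ : Subgroup G := Subgroup.closure ({x | ∃ a ∈ R, ∃ b ∈ R, x = ⁅a, b⁆} ∪
    {x | ∃ a ∈ R, x = a ^ p}) with hΦ
  have hcomΦ : ∀ a ∈ R, ∀ b ∈ R, ⁅a, b⁆ ∈ Φ := fun a ha b hb =>
    Subgroup.subset_closure (Or.inl ⟨a, ha, b, hb, rfl⟩)
  have hpowΦ : ∀ a ∈ R, a ^ p ∈ Φ := fun a ha => Subgroup.subset_closure (Or.inr ⟨a, ha, rfl⟩)
  have hnzΦ : nz R ≤ nz Φ := by
    rw [le_normalizer_iff]
    intro n hn
    have h1 : Φ ≤ cj n⁻¹ Φ := by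
      rw [hΦ, Subgroup.closure_le, ← hΦ]
      rintro _ (⟨a, ha, b, hb, rfl⟩ | ⟨a, ha, rfl⟩)
      · rw [SetLike.mem_coe, mem_cj, inv_inv]
        have e : n * ⁅a, b⁆ * n⁻¹ = ⁅n * a * n⁻¹, n * b * n⁻¹⁆ := by
          simp only [commutatorElement_def]; group
        rw [e]; exact hcomΦ _ (hconj n hn a ha) _ (hconj n hn b hb)
      · rw [SetLike.mem_coe, mem_cj, inv_inv, ← conj_pow]
        exact hpowΦ _ (hconj n hn a ha)
    intro x hx
    have := h1 hx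
    rwa [mem_cj, inv_inv] at this
  have hΦR : Φ < R := by
    have hRne : R ≠ ⊥ := by
      rintro rfl
      apply hnR
      rw [mem_centralizer]
      intro a ha
      rw [Subgroup.mem_bot.1 ha]; group
    have hnt : Nontrivial ↥R := (Subgroup.nontrivial_iff_ne_bot R).2 hRne
    have h1 : Φ ≤ (frattini ↥R).map R.subtype := by
      rw [hΦ, Subgroup.closure_le, Cfsg.Agent.Lib.FrattiniQuot.frattini_eq_closure hRp]
      rintro _ (⟨a, ha, b, hb, rfl⟩ | ⟨a, ha, rfl⟩)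
      · exact ⟨⁅(⟨a, ha⟩ : ↥R), (⟨b, hb⟩ : ↥R)⁆,
          Subgroup.subset_closure (Or.inl ⟨⟨a, ha⟩, ⟨b, hb⟩, rfl⟩), rfl⟩
      · exact ⟨(⟨a, ha⟩ : ↥R) ^ p, Subgroup.subset_closure (Or.inr ⟨⟨a, ha⟩, rfl⟩), rfl⟩
    have h2 : frattini ↥R ≠ ⊤ := by
      obtain ⟨M, hM, -⟩ := (eq_top_or_exists_le_coatom (⊥ : Subgroup ↥R)).resolve_left bot_ne_top
      intro h
      have h3 : frattini ↥R ≤ M := frattini_le_coatom hM
      exact hM.1 (top_le_iff.1 (h ▸ h3))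
    refine lt_of_le_of_ne (h1.trans (Subgroup.map_subtype_le _)) ?_
    intro h
    apply h2
    rw [h] at h1
    rw [eq_top_iff]
    intro x _
    obtain ⟨y, hy, hyx⟩ := h1 x.2
    rwa [← Subtype.ext hyx]
  have hgΦ : g ∈ cz Φ := hmin Φ hΦR (hnzΦ hgR)
  have hzΦ : Subgroup.zpowers g ≤ cz Φ := by rw [Subgroup.zpowers_le]; exact hgΦ
  have hRnz : R ≤ nz R := Subgroup.le_normalizer
  -- `Φ` is central
  have hΦc : R ≤ cz Φ := by
    intro r hr
    rw [← hstep1] at hr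
    rw [mem_centralizer]
    intro z hz
    have hle : ⁅R, Subgroup.zpowers g⁆ ≤ Subgroup.centralizer {z} := by
      rw [Subgroup.commutator_le]
      intro x hx h hh
      rw [Subgroup.mem_centralizer_singleton_iff]
      have h1 : x⁻¹ * z * x⁻¹⁻¹ ∈ Φ := le_normalizer_iff.1 (le_refl (nz Φ)) _
        (hnzΦ (hRnz (inv_mem hx))) z hz
      have h2 := mem_centralizer.1 (hzΦ hh) _ h1
      have h3 := mem_centralizer.1 (hzΦ (inv_mem hh)) z hz
      have key : ⁅x, h⁆ * z * ⁅x, h⁆⁻¹ = z := by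
        calc ⁅x, h⁆ * z * ⁅x, h⁆⁻¹ = x * (h * (x⁻¹ * (h⁻¹ * z * h⁻¹⁻¹) * x⁻¹⁻¹) * h⁻¹) * x⁻¹ := by
              rw [commutatorElement_def]; group
          _ = x * (x⁻¹ * z * x⁻¹⁻¹) * x⁻¹ := by rw [h3, h2]
          _ = z := by group
      exact eq_mul_of_mul_inv_eq key
    have h1 := Subgroup.mem_centralizer_singleton_iff.1 (hle hr)
    rw [h1]; group
  have hcen : ∀ z ∈ Φ, ∀ r ∈ R, Commute z r := fun z hz r hr => by
    have h1 := mem_centralizer.1 (hΦc hr) z hz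
    exact (mul_inv_eq_iff_eq_mul.1 h1).symm
  -- exponent
  have hexp : ∀ n : ℕ, (∀ x ∈ R, x ^ n ∈ Φ) → (∀ x ∈ R, ∀ y ∈ R, (x * y) ^ n = x ^ n * y ^ n) →
      ∀ x ∈ R, x ^ n = 1 := by
    intro n hn hmul
    let T : Subgroup G :=
      { carrier := {x | x ∈ R ∧ x ^ n = 1}
        one_mem' := ⟨one_mem _, one_pow n⟩
        mul_mem' := by
          rintro a b ⟨ha, ha'⟩ ⟨hb, hb'⟩
          exact ⟨mul_mem ha hb, by rw [hmul a ha b hb, ha', hb', one_mul]⟩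
        inv_mem' := by
          rintro a ⟨ha, ha'⟩
          exact ⟨inv_mem ha, by rw [inv_pow, ha', inv_one]⟩ }
    have hle : ⁅R, Subgroup.zpowers g⁆ ≤ T := by
      rw [Subgroup.commutator_le]
      intro x hx h hh
      refine ⟨hcle (Subgroup.commutator_mem_commutator hx hh), ?_⟩
      have e : ⁅x, h⁆ = x * (h * x⁻¹ * h⁻¹) := by rw [commutatorElement_def]; group
      rw [e, hmul x hx _ (hconj h (hzR h hh) _ (inv_mem hx)), conj_pow, inv_pow,
        mem_centralizer.1 (hzΦ hh) _ (inv_mem (hn x hx)), mul_inv_cancel]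
    intro x hx
    rw [← hstep1] at hx
    exact (hle hx).2
  have hmulp : ∀ x ∈ R, ∀ y ∈ R, ∃ c : G, y * x = x * y * c ∧ Commute c x ∧ Commute c y ∧
      c ^ p = 1 := by
    intro x hx y hy
    have hc : ⁅y⁻¹, x⁻¹⁆ ∈ Φ := hcomΦ _ (inv_mem hy) _ (inv_mem hx)
    have e1 : y * x = x * y * ⁅y⁻¹, x⁻¹⁆ := by rw [commutatorElement_def]; group
    exact ⟨_, e1, hcen _ hc x hx, hcen _ hc y hy,
      PGroupOdd.pow_eq_one_of_comm' e1 (hcen _ hc y hy) (hcen _ (hpowΦ y hy) x hx)⟩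
  refine ⟨R, hRQ, hgR, hnR, hstep1.ge, ?_, ?_⟩
  · by_cases hp2 : p = 2
    · intro x hx
      refine Or.inr ⟨hp2, ?_⟩
      refine hexp 4 ?_ ?_ x hx
      · intro x hx
        have h1 := pow_mem (hpowΦ x hx) 2
        rwa [← pow_mul, hp2] at h1
      · intro x hx y hy
        obtain ⟨c, e1, hcx, hcy, hcp⟩ := hmulp x hx y hy
        rw [PGroupOdd.mul_pow_of_comm e1 hcx hcy]
        have h2 : c ^ (Nat.choose 4 2) = 1 := by
          have : Nat.choose 4 2 = 2 * 3 := by decide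
          rw [this, pow_mul, ← hp2, hcp, one_pow]
        rw [h2, mul_one]
    · intro x hx
      left
      refine hexp p hpowΦ ?_ x hx
      intro x hx y hy
      obtain ⟨c, e1, hcx, hcy, hcp⟩ := hmulp x hx y hy
      rw [PGroupOdd.mul_pow_of_comm e1 hcx hcy, pow_choose hcp hp2, mul_one]
  · rw [Subgroup.commutator_le]
    intro a ha b hb
    rw [mem_centralizer]
    intro r hr
    have := hcen _ (hcomΦ a ha b hb) r hr
    rw [this.eq]; group

end Cfsg.Agent.Lib.MinPair
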