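import Mathlib
import Cfsg.Agent.S1946
import Cfsg.Agent.Lib.MetaFusTwo
import Cfsg.Agent.Lib.MetaTwoAut2
import Cfsg.Agent.Lib.FusionInner
import Cfsg.Agent.Lib.FusionGroup
import Cfsg.Agent.Lib.BlockHomo5
import Cfsg.Agent.Lib.Cores

/-!
# Metacyclic Sylow 2-subgroups with a large cyclic quotient (helper29)

The odd order theorem enters as a hypothesis.
-/

set_option autoImplicit false

open Cfsg Cfsg.FusionSystem

namespace Cfsg.Agent.Lib.MetaSolv

open Cfsg.Agent.Lib.FusionBasic Cfsg.Agent.Lib.FusionSat Cfsg.Agent.Lib.FusionNormal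

universe u

theorem card_le_two {Q : Type*} [Group Q] [Finite Q] (hc : IsCyclic Q) (h : ∀ x : Q, x ^ 2 = 1) : Nat.card Q ≤ 2 := by
  obtain ⟨g, hg⟩ := hc.exists_generator
  rw [← orderOf_eq_card_of_forall_mem_zpowers hg]
  exact Nat.le_of_dvd (by norm_num) (orderOf_dvd_of_pow_eq_one (h g))

/-- the dihedral, quaternion and semidihedral groups are cyclic or have no large cyclic quotient -/
theorem not_excl {X : Type*} [Group X] [Finite X] (hX : IsPGroup 2 X) (hcyc : ¬ IsCyclic X) {Q : Type*} [Group Q] (f : X →* Q)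
    (hf : Function.Surjective f) (hQ : IsCyclic Q) (hQ2 : 2 < Nat.card Q) : ¬ Cfsg.Agent.Lib.MetaFusTwo.Excl X := by
  have hp : Fact (Nat.Prime 2) := ⟨Nat.prime_two⟩
  have hfinQ : Finite Q := Finite.of_surjective _ hf
  have hcomm : ∀ x y : Q, x * y = y * x := fun x y => (hQ.commutative.is_comm.comm x y)
  intro hex
  apply absurd hQ2
  rw [not_lt]
  apply card_le_two hQ
  intro q
  obtain ⟨x, rfl⟩ := hf q
  rcases hex with ⟨m, ⟨φ⟩⟩ | ⟨m, ⟨φ⟩⟩ | ⟨n, hn, hcard, a, b, ha, hb, hab⟩
  · -- dihedral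
    set g : DihedralGroup m →* Q := f.comp φ.symm.toMonoidHom with hg
    have hsr : ∀ i : ZMod m, g (DihedralGroup.sr i) ^ 2 = 1 := by
      intro i
      rw [← map_pow, pow_two, DihedralGroup.sr_mul_self, map_one]
    have key : ∀ w : DihedralGroup m, g w ^ 2 = 1 := by
      rintro (i | i)
      · have h1 : (DihedralGroup.r i : DihedralGroup m) = DihedralGroup.sr 0 * DihedralGroup.sr i := by
          rw [DihedralGroup.sr_mul_sr, sub_zero]
        rw [h1, map_mul, pow_two]
        calc g (DihedralGroup.sr 0) * g (DihedralGroup.sr i) * (g (DihedralGroup.sr 0) * g (DihedralGroup.sr i))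
            = g (DihedralGroup.sr 0) ^ 2 * g (DihedralGroup.sr i) ^ 2 := by
              rw [pow_two, pow_two, mul_assoc, ← mul_assoc (g (DihedralGroup.sr i)),
                hcomm (g (DihedralGroup.sr i)) (g (DihedralGroup.sr 0))]
              simp only [mul_assoc]
          _ = 1 := by rw [hsr, hsr, one_mul]
      · exact hsr i
    have h1 := key (φ x)
    have h2 : g (φ x) = f x := by
      show f (φ.symm (φ x)) = f x
      rw [φ.symm_apply_apply]
    rwa [h2] at h1
  · -- quaternion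
    have hm0 : m ≠ 0 := by
      rintro rfl
      have h1 : Finite (QuaternionGroup 0) := Finite.of_equiv _ φ.toEquiv
      have h2 : Function.Injective (fun i : ZMod (2 * 0) => (QuaternionGroup.a i : QuaternionGroup 0)) := by
        intro i j hij
        exact QuaternionGroup.a.inj hij
      have h3 := Finite.of_injective _ h2
      exact Infinite.not_finite (α := ZMod 0) h3
    have : NeZero m := ⟨hm0⟩
    have hcardX : Nat.card X = 4 * m := by
      rw [Nat.card_congr φ.toEquiv, Nat.card_eq_fintype_card, QuaternionGroup.card]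
    have hm1 : m ≠ 1 := by
      rintro rfl
      apply hcyc
      have h1 : orderOf (QuaternionGroup.xa 0 : QuaternionGroup 1) = 4 := QuaternionGroup.orderOf_xa 0
      refine isCyclic_of_orderOf_eq_card (φ.symm (QuaternionGroup.xa 0)) ?_
      rw [MulEquiv.orderOf_eq, h1, hcardX]
    obtain ⟨k, hk⟩ := IsPGroup.iff_card.mp hX
    have hmeven : Even m := by
      rw [hcardX] at hk
      have h1 : m ∣ 2 ^ k := ⟨4, by rw [← hk]; ring⟩
      obtain ⟨j, -, rfl⟩ := (Nat.dvd_prime_pow Nat.prime_two).1 h1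
      rcases j with _ | j
      · exact absurd (pow_zero 2) hm1
      · exact ⟨2 ^ j, by rw [pow_succ]; ring⟩
    obtain ⟨j, hj⟩ := hmeven
    set g : QuaternionGroup m →* Q := f.comp φ.symm.toMonoidHom with hg
    have hga : ∀ i : ZMod (2 * m), g (QuaternionGroup.a i) ^ 2 = 1 := by
      intro i
      have h1 : (QuaternionGroup.xa 0 : QuaternionGroup m) * QuaternionGroup.a i =
          QuaternionGroup.a (-i) * QuaternionGroup.xa 0 := by
        rw [QuaternionGroup.xa_mul_a, QuaternionGroup.a_mul_xa, zero_add, sub_neg_eq_add, zero_add]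
      have h2 := congrArg g h1
      rw [map_mul, map_mul, hcomm (g (QuaternionGroup.xa 0))] at h2
      have h3 := mul_right_cancel h2
      have h4 : g (QuaternionGroup.a i) * g (QuaternionGroup.a i) = 1 := by
        nth_rewrite 2 [h3]
        rw [← map_mul, QuaternionGroup.a_mul_a, add_neg_cancel]
        exact map_one g
      rw [pow_two, h4]
    have key : ∀ w : QuaternionGroup m, g w ^ 2 = 1 := by
      rintro (i | i)
      · exact hga i
      · rw [← map_pow, pow_two, QuaternionGroup.xa_mul_xa]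
        have h1 : (QuaternionGroup.a ((m : ZMod (2 * m)) + i - i) : QuaternionGroup m) =
            (QuaternionGroup.a (j : ZMod (2 * m))) ^ 2 := by
          rw [pow_two, QuaternionGroup.a_mul_a]
          congr 1
          rw [add_sub_cancel_right]
          exact (congrArg (Nat.cast : ℕ → ZMod (2 * m)) hj).trans (Nat.cast_add _ _)
        rw [h1, map_pow]
        exact hga _
    have h1 := key (φ x)
    have h2 : g (φ x) = f x := by
      show f (φ.symm (φ x)) = f x
      rw [φ.symm_apply_apply]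
    rwa [h2] at h1
  · -- semidihedral
    have hfb : f b ^ 2 = 1 := by
      rw [← map_pow]
      have : b ^ 2 = 1 := by rw [← hb]; exact pow_orderOf_eq_one b
      rw [this, map_one]
    have hfa : f a ^ 2 = 1 := by
      have h1 := congrArg f hab
      rw [map_mul, map_mul, hcomm (f b), map_inv, mul_inv_cancel_right, map_pow] at h1
      have h2 : f a ^ (2 ^ (n - 1) - 2) = 1 := by
        obtain ⟨l, rfl⟩ : ∃ l, n = l + 3 := ⟨n - 3, by omega⟩
        have h3 : 2 ^ (l + 3 - 1) = 4 * 2 ^ l := by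
          rw [show l + 3 - 1 = l + 2 by omega, pow_add]; ring
        have h4 : 1 ≤ 2 ^ l := Nat.one_le_two_pow
        have h5 : 2 ^ (l + 3 - 1) - 1 = (2 ^ (l + 3 - 1) - 2) + 1 := by omega
        rw [h5, pow_succ] at h1
        exact (mul_eq_right.mp h1.symm)
      have h3 : orderOf (f a) ∣ 2 ^ (n - 1) - 2 := orderOf_dvd_of_pow_eq_one h2
      have h4 : orderOf (f a) ∣ 2 ^ n := by
        rw [← ha]; exact orderOf_map_dvd f a
      obtain ⟨j, -, hj⟩ := (Nat.dvd_prime_pow Nat.prime_two).1 h4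
      have hj1 : j ≤ 1 := by
        by_contra hcon
        push Not at hcon
        have h5 : 2 ^ 2 ∣ 2 ^ (n - 1) - 2 := (pow_dvd_pow 2 hcon).trans (hj ▸ h3)
        have h6 : 2 ^ 2 ∣ 2 ^ (n - 1) := pow_dvd_pow 2 (by omega)
        have h7 : 2 ≤ 2 ^ (n - 1) := by
          calc 2 = 2 ^ 1 := by norm_num
            _ ≤ 2 ^ (n - 1) := Nat.pow_le_pow_right (by norm_num) (by omega)
        omega
      rw [← orderOf_dvd_iff_pow_eq_one, hj]
      exact pow_dvd_pow 2 hj1
    -- `X = ⟨a⟩ ∪ ⟨a⟩ b`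
    have hbn : b ∉ Subgroup.zpowers a := by
      intro hb'
      have h1 : b * a * b⁻¹ = a := by
        obtain ⟨i, rfl⟩ := Subgroup.mem_zpowers_iff.1 hb'
        group
      rw [h1] at hab
      have h2 : a ^ (2 ^ (n - 1) - 2) = 1 := by
        have h4 : 4 ≤ 2 ^ (n - 1) := by
          calc 4 = 2 ^ 2 := by norm_num
            _ ≤ 2 ^ (n - 1) := Nat.pow_le_pow_right (by norm_num) (by omega)
        have h5 : 2 ^ (n - 1) - 1 = (2 ^ (n - 1) - 2) + 1 := by omega
        rw [h5, pow_succ] at hab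
        exact (mul_eq_right.mp hab.symm)
      have h3 := orderOf_dvd_of_pow_eq_one h2
      rw [ha] at h3
      have h4 : 4 ≤ 2 ^ (n - 1) := by
        calc 4 = 2 ^ 2 := by norm_num
          _ ≤ 2 ^ (n - 1) := Nat.pow_le_pow_right (by norm_num) (by omega)
      have h5 := Nat.le_of_dvd (by omega) h3
      have h6 : 2 ^ (n - 1) ≤ 2 ^ n := Nat.pow_le_pow_right (by norm_num) (by omega)
      omega
    have hidx : (Subgroup.zpowers a).index = 2 := by
      have h1 := (Subgroup.zpowers a).card_mul_index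
      rw [Nat.card_zpowers, ha, hcard, pow_succ] at h1
      exact Nat.eq_of_mul_eq_mul_left (by positivity) h1
    by_cases hx : x ∈ Subgroup.zpowers a
    · obtain ⟨i, rfl⟩ := Subgroup.mem_zpowers_iff.1 hx
      rw [map_zpow, ← zpow_natCast, ← zpow_mul, mul_comm, zpow_mul, zpow_natCast, hfa, one_zpow]
    · have h1 : x * b ∈ Subgroup.zpowers a := by
        rw [Subgroup.mul_mem_iff_of_index_two hidx]
        exact ⟨fun h => absurd h hx, fun h => absurd h hbn⟩
      obtain ⟨i, hi⟩ := Subgroup.mem_zpowers_iff.1 h1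
      have h2 : x = a ^ i * b⁻¹ := by rw [hi, mul_inv_cancel_right]
      have h3 : f x = f a ^ i * (f b)⁻¹ := by rw [h2, map_mul, map_inv, map_zpow]
      have h4 : (f a ^ i) ^ 2 = 1 := by
        rw [← zpow_natCast, ← zpow_mul, mul_comm, zpow_mul, zpow_natCast, hfa, one_zpow]
      have h5 : ((f b)⁻¹) ^ 2 = 1 := by rw [inv_pow, hfb, inv_one]
      have hc : Commute (f a ^ i) (f b)⁻¹ := hcomm _ _
      rw [h3, hc.mul_pow, h4, h5, one_mul]

theorem solvable_of_compl {G : Type u} [Group G] [Finite G] (FT : ∀ H : Subgroup G, Odd (Nat.card H) → Group.IsSolvable H)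
    (h : HasNormalPComplement 2 G) : Group.IsSolvable G := by
  have hp : Fact (Nat.Prime 2) := ⟨Nat.prime_two⟩
  obtain ⟨P, N, hN, hc⟩ := h
  have h1 : N.index = Nat.card P := hc.symm.index_eq_card
  have h2 : (P : Subgroup G).index = Nat.card N := hc.index_eq_card
  have hodd : Odd (Nat.card N) := by
    rw [← h2, ← Nat.not_even_iff_odd, even_iff_two_dvd]
    exact P.not_dvd_index
  have hNs : Group.IsSolvable N := FT N hodd
  have hQ : IsPGroup 2 (G ⧸ N) := by
    obtain ⟨k, hk⟩ := IsPGroup.iff_card.mp P.isPGroup'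
    apply IsPGroup.of_card (n := k)
    rw [← hk, ← h1]
    rfl
  have hQn : Group.IsNilpotent (G ⧸ N) := hQ.isNilpotent
  have hQs : Group.IsSolvable (G ⧸ N) := inferInstance
  exact (Group.isSolvable_iff_subgroup_quotient N).2 ⟨hNs, hQs⟩

/-- the case of an automorphism group that is a 2-group: the normal complement -/
theorem compl_of_two {G : Type u} [Group G] [Finite G] (S : Sylow 2 G) (hm : IsMetacyclic (S : Subgroup G))
    (hex : ¬ Cfsg.Agent.Lib.MetaFusTwo.Excl (S : Subgroup G)) (hA : IsPGroup 2 (MulAut (S : Subgroup G))) :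
    HasNormalPComplement 2 G := by
  have hp : Fact (Nat.Prime 2) := ⟨Nat.prime_two⟩
  set F := groupFusionSystem (S : Subgroup G) with hFdef
  have hF : F.IsSaturated 2 := Cfsg.Agent.Lib.FusionGroup.groupFusionSystem_isSaturated S
  have hS := S.isPGroup'
  have hSc : F.StronglyClosed (S : Subgroup G) := by
    rw [stronglyClosed_iff]
    exact ⟨le_rfl, fun P f _ hf x hx => hf.map_mem hx⟩
  have hN : F.IsNormal (S : Subgroup G) := Cfsg.Agent.Lib.MetaFusTwo.normal_two hS hF hSc hm hex
  rw [Cfsg.Agent.S1946.result S]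
  intro a ha _ g hg
  rw [isNormal_iff] at hN
  have hle : Subgroup.zpowers a ≤ (S : Subgroup G) := by
    rw [Subgroup.zpowers_le]; exact ha
  have hf : FMap F (Subgroup.zpowers a) (fun x => g * x * g⁻¹) := by
    refine ⟨(MulAut.conj g).toMonoidHom.comp (Subgroup.zpowers a).subtype, ⟨hle, ?_, g, fun x => rfl⟩, fun x => rfl⟩
    rintro ⟨x, hx⟩
    obtain ⟨k, rfl⟩ := Subgroup.mem_zpowers_iff.1 hx
    show g * a ^ k * g⁻¹ ∈ (S : Subgroup G)
    rw [← conj_zpow]
    exact Subgroup.zpow_mem _ hg k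
  obtain ⟨f, hf1, hff, hfi⟩ := hN.2 _ _ hf
  obtain ⟨-, R, hR⟩ := fullyAutomized_of_fullyNormalized hS hF (isFullyNormalized_top F)
  have hRtop : (R : Subgroup (F.autGroup (S : Subgroup G))) = ⊤ := by
    have h1 : IsPGroup 2 (⊤ : Subgroup (F.autGroup (S : Subgroup G))) := (hA.to_subgroup _).to_subgroup ⊤
    exact (R.3 h1 le_top).symm
  have h2 : (⟨_, hfi.equiv_mem_autGroup⟩ : F.autGroup (S : Subgroup G)) ∈
      (R : Subgroup (F.autGroup (S : Subgroup G))) := by
    rw [hRtop]; exact Subgroup.mem_top _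
  rw [hR, Subgroup.mem_subgroupOf] at h2
  obtain ⟨s, hs, h3⟩ := mem_autInducedBy_iff.1 h2
  refine ⟨s, hs, ?_⟩
  have h4 : f a = g * a * g⁻¹ := hff a (Subgroup.mem_zpowers a)
  rw [← h4]
  exact h3 ⟨a, ha⟩

/-- the homocyclic case -/
theorem solvable_of_homocyclic {G : Type u} [Group G] [Finite G]
    (FT : ∀ H : Subgroup G, Odd (Nat.card H) → Group.IsSolvable H) (S : Sylow 2 G) (m : ℕ) (hm : 2 ≤ m)
    (e : (S : Subgroup G) ≃* Multiplicative (ZMod (2 ^ m) × ZMod (2 ^ m))) : Group.IsSolvable G := by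
  have hp : Fact (Nat.Prime 2) := ⟨Nat.prime_two⟩
  have hKn : (pPrimeCore 2 G).Normal := Subgroup.sSup_normal _ (fun _ h => h.1)
  set K := pPrimeCore 2 G with hK
  have hKodd : Odd (Nat.card K) := Nat.coprime_two_right.1 (Cfsg.Agent.Lib.Cores.coprime_card_pPrimeCore 2 G)
  have hKs : Group.IsSolvable K := FT K hKodd
  have hsurj := QuotientGroup.mk'_surjective K
  have hO : ∀ N : Subgroup (G ⧸ K), N.Normal → Odd (Nat.card N) → N = ⊥ := by
    intro N hN hodd
    have h1 : N ≤ pPrimeCore 2 (G ⧸ K) := Cfsg.Agent.Lib.Cores.le_pPrimeCore hN (Nat.coprime_two_right.2 hodd)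
    exact eq_bot_iff.2 (h1.trans (le_of_eq (Cfsg.Agent.Lib.Cores.pPrimeCore_quotient_pPrimeCore 2 G)))
  let P : Sylow 2 (G ⧸ K) := S.mapSurjective hsurj
  have hPcoe : (P : Subgroup (G ⧸ K)) = (S : Subgroup G).map (QuotientGroup.mk' K) := Sylow.coe_mapSurjective _ _
  have hinj : Function.Injective ((QuotientGroup.mk' K).comp (S : Subgroup G).subtype) := by
    rw [injective_iff_map_eq_one]
    intro x hx
    have h1 : (x : G) ∈ K := (QuotientGroup.eq_one_iff _).1 hx
    have h2 : (x : G) ∈ (S : Subgroup G) ⊓ K := ⟨x.2, h1⟩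
    rw [hK, Cfsg.Agent.Lib.Cores.isPGroup_inf_pPrimeCore S.isPGroup', Subgroup.mem_bot] at h2
    exact Subtype.ext h2
  have hrange : ((QuotientGroup.mk' K).comp (S : Subgroup G).subtype).range = (P : Subgroup (G ⧸ K)) := by
    rw [hPcoe, MonoidHom.range_comp, Subgroup.range_subtype]
  have e1 : (S : Subgroup G) ≃* (P : Subgroup (G ⧸ K)) :=
    (MonoidHom.ofInjective hinj).trans (MulEquiv.subgroupCongr hrange)
  obtain ⟨h1, h2, h3⟩ := Cfsg.Agent.Lib.BlockHomo.main P m hm (e1.symm.trans e) hO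
  have hPs : Group.IsSolvable (P : Subgroup (G ⧸ K)) := by
    have h4 : Group.IsNilpotent (P : Subgroup (G ⧸ K)) := P.isPGroup'.isNilpotent
    infer_instance
  have hQs : Group.IsSolvable ((G ⧸ K) ⧸ (P : Subgroup (G ⧸ K))) := by
    have h4 : Nat.card ((G ⧸ K) ⧸ (P : Subgroup (G ⧸ K))) = 1 ∨ Nat.card ((G ⧸ K) ⧸ (P : Subgroup (G ⧸ K))) = 3 := h3
    have h5 : IsCyclic ((G ⧸ K) ⧸ (P : Subgroup (G ⧸ K))) := by
      rcases h4 with h4 | h4
      · have : Subsingleton ((G ⧸ K) ⧸ (P : Subgroup (G ⧸ K))) := (Nat.card_eq_one_iff_unique.1 h4).1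
        exact isCyclic_of_subsingleton
      · have h3' : Fact (Nat.Prime 3) := ⟨Nat.prime_three⟩
        exact isCyclic_of_prime_card h4
    exact Group.isSolvable_of_comm (fun x y => h5.commutative.is_comm.comm x y)
  have hQ : Group.IsSolvable (G ⧸ K) := (Group.isSolvable_iff_subgroup_quotient (P : Subgroup (G ⧸ K))).2 ⟨hPs, hQs⟩
  exact (Group.isSolvable_iff_subgroup_quotient K).2 ⟨hKs, hQ⟩

theorem main {G : Type u} [Group G] [Finite G] (FT : ∀ H : Subgroup G, Odd (Nat.card H) → Group.IsSolvable H)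
    (S : Sylow 2 G) (N : Subgroup (S : Subgroup G)) [hN : N.Normal] (hNc : IsCyclic N)
    (hQc : IsCyclic ((S : Subgroup G) ⧸ N)) (hQ : 2 < Nat.card ((S : Subgroup G) ⧸ N)) : Group.IsSolvable G := by
  have hp : Fact (Nat.Prime 2) := ⟨Nat.prime_two⟩
  by_cases hcyc : IsCyclic (S : Subgroup G)
  · -- cyclic Sylow 2-subgroups
    have heven : (Nat.card G).minFac = 2 := by
      rw [Nat.minFac_eq_two_iff]
      have h1 : 2 ∣ Nat.card (S : Subgroup G) := by
        rcases S.isPGroup'.card_eq_or_dvd with h | h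
        · exfalso
          have h2 : Nat.card ((S : Subgroup G) ⧸ N) ∣ Nat.card (S : Subgroup G) := Subgroup.card_quotient_dvd_card N
          rw [h, Nat.dvd_one] at h2
          omega
        · exact h
      exact h1.trans (Subgroup.card_subgroup_dvd_card _)
    exact solvable_of_compl FT ⟨S, _, inferInstance, IsCyclic.isComplement' heven hcyc⟩
  have hm : IsMetacyclic (S : Subgroup G) := ⟨N, hN, hNc, hQc⟩
  have hex := not_excl S.isPGroup' hcyc (QuotientGroup.mk' N) (QuotientGroup.mk'_surjective N) hQc hQ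
  by_cases hA : IsPGroup 2 (MulAut (S : Subgroup G))
  · exact solvable_of_compl FT (compl_of_two S hm hex hA)
  rcases Cfsg.Agent.Lib.MetaTwoAut.main S.isPGroup' hm hA with h | ⟨n, ⟨e⟩⟩
  · exact absurd (Or.inr (Or.inl ⟨2, h⟩)) hex
  · have hcard : Nat.card (S : Subgroup G) = 2 ^ n * 2 ^ n := by
      rw [Nat.card_congr e.toEquiv, Nat.card_prod, Nat.card_congr Multiplicative.toAdd, Nat.card_zmod]
    have hQS : Nat.card ((S : Subgroup G) ⧸ N) ∣ Nat.card (S : Subgroup G) := Subgroup.card_quotient_dvd_card N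
    rcases Nat.lt_or_ge n 2 with hn | hn
    · exfalso
      apply absurd hQ
      rw [not_lt]
      apply card_le_two hQc
      intro q
      obtain ⟨x, rfl⟩ := QuotientGroup.mk'_surjective N q
      rw [← map_pow]
      have h1 : x ^ 2 = 1 := by
        apply e.injective
        rw [map_pow, map_one]
        have key : ∀ w : Multiplicative (ZMod (2 ^ n)), w ^ 2 = 1 := by
          intro w
          have h3 : Nat.card (Multiplicative (ZMod (2 ^ n))) = 2 ^ n := by
            rw [Nat.card_congr Multiplicative.toAdd, Nat.card_zmod]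
          have h4 := orderOf_dvd_natCard w
          rw [h3] at h4
          exact orderOf_dvd_iff_pow_eq_one.1 (h4.trans (pow_dvd_pow 2 (by omega : n ≤ 1)))
        exact Prod.ext (key _) (key _)
      rw [h1, map_one]
    · exact solvable_of_homocyclic FT S n hn (e.trans (MulEquiv.prodMultiplicative _ _).symm)

end Cfsg.Agent.Lib.MetaSolv
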