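import Cfsg.Agent.Lib.H30SOg
import Cfsg.Agent.Lib.MetaSolv

/-!
The quaternion case: subgroups of `E T`.
-/

set_option autoImplicit false

namespace Cfsg.Agent.Lib.H30SO

open Subgroup Cfsg.Agent.Lib.SubgroupTools
open scoped Pointwise commutatorElement

universe u v

variable {G : Type u} [Group G] [Finite G]

/-- hyperplanes separate points in elementary abelian groups -/
theorem exists_hyperplane {q : ℕ} [hq : Fact q.Prime] {N : Subgroup G}
    (hNc : ∀ a ∈ N, ∀ b ∈ N, a * b = b * a) (hNe : ∀ a ∈ N, a ^ q = 1) {v w : G} (hv : v ∈ N)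
    (hw : w ∈ N) (hwv : w ∉ zpowers v) :
    ∃ K : Subgroup G, K ≤ N ∧ v ∈ K ∧ w ∉ K ∧ Nat.card K * q = Nat.card N := by
  classical
  have hfin : Set.Finite {K : Subgroup G | K ≤ N ∧ v ∈ K ∧ w ∉ K} := Set.toFinite _
  obtain ⟨K, hK⟩ := hfin.exists_maximal ⟨zpowers v, zpowers_le.2 hv, mem_zpowers v, hwv⟩
  obtain ⟨hKN, hvK, hwK⟩ := hK.prop
  refine ⟨K, hKN, hvK, hwK, ?_⟩
  have hnorm : ∀ u ∈ N, zpowers u ≤ normalizer (K : Set G) := by
    intro u hu
    rw [zpowers_le, mem_normalizer_iff_conj_smul]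
    ext x
    rw [mem_conj_smul]
    constructor
    · intro hx
      have hxN : x ∈ N := by
        have h1 := N.mul_mem (N.mul_mem hu (hKN hx)) (N.inv_mem hu)
        have h2 : u * (u⁻¹ * x * u) * u⁻¹ = x := by group
        rwa [h2] at h1
      have h3 : u⁻¹ * x * u = x := by
        rw [mul_assoc, hNc x hxN u hu, inv_mul_cancel_left]
      rwa [h3] at hx
    · intro hx
      have h3 : u⁻¹ * x * u = x := by
        rw [mul_assoc, hNc x (hKN hx) u hu, inv_mul_cancel_left]
      rw [h3]; exact hx
  have hwo : orderOf w = q := orderOf_eq_prime (hNe w hw) (fun h => hwv (h ▸ one_mem _))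
  have hsup : K ⊔ zpowers w = N := by
    apply le_antisymm (sup_le hKN (zpowers_le.2 hw))
    intro u hu
    by_cases huK : u ∈ K
    · exact (le_sup_left : K ≤ _) huK
    have h1 : w ∈ K ⊔ zpowers u := by
      by_contra hcon
      have h2 := hK.le_of_ge (y := K ⊔ zpowers u)
        ⟨sup_le hKN (zpowers_le.2 hu), (le_sup_left : K ≤ _) hvK, hcon⟩ le_sup_left
      exact huK (h2 ((le_sup_right : zpowers u ≤ _) (mem_zpowers u)))
    rw [mem_sup_of_le_normalizer (hnorm u hu)] at h1
    obtain ⟨k, hk, y, ⟨i, rfl⟩, hkw⟩ := h1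
    change k * u ^ i = w at hkw
    have hi : ¬ (q : ℤ) ∣ i := by
      rintro ⟨j, rfl⟩
      apply hwK
      rw [zpow_mul, zpow_natCast, hNe u hu, one_zpow, mul_one] at hkw
      rwa [← hkw]
    have hcop : IsCoprime (q : ℤ) i := (Nat.prime_iff_prime_int.1 hq.out).coprime_iff_not_dvd.2 hi
    obtain ⟨a, b, hab⟩ := hcop
    have h2 : u ^ i ∈ K ⊔ zpowers w := by
      have h3 : u ^ i = k⁻¹ * w := by rw [← hkw]; group
      rw [h3]
      exact Subgroup.mul_mem _ ((le_sup_left : K ≤ _) (K.inv_mem hk))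
        ((le_sup_right : zpowers w ≤ _) (mem_zpowers w))
    have h3 : u = (u ^ i) ^ b := by
      conv_lhs => rw [← zpow_one u, ← hab, zpow_add, mul_comm a, zpow_mul, zpow_natCast, hNe u hu,
        one_zpow, one_mul, mul_comm b, zpow_mul]
    rw [h3]
    exact Subgroup.zpow_mem _ h2 b
  have hdis : Disjoint K (zpowers w) := by
    rw [disjoint_iff, eq_bot_iff]
    intro x hx
    obtain ⟨hxK, hxw⟩ := Subgroup.mem_inf.1 hx
    rw [Subgroup.mem_bot]
    by_contra hx1
    have hxo : orderOf x = q := orderOf_eq_prime (hNe x (hKN hxK)) hx1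
    exact hwK ((zpowers_le.2 hxK) (eq_of_mem_zpowers hxo hwo hxw))
  rw [← hsup, card_sup_of_disjoint (hnorm w hw) hdis, Nat.card_zpowers, hwo]

theorem dq6 : ∀ x : QuaternionGroup 2, x * x = 1 → x = 1 ∨ x = .a 2 := by decide +kernel
theorem dq7 : ⁅(QuaternionGroup.xa 0 : QuaternionGroup 2), (QuaternionGroup.a 1 : QuaternionGroup 2)⁆ =
    (QuaternionGroup.a 2 : QuaternionGroup 2) := by decide +kernel
theorem dq8 : ∀ x : QuaternionGroup 2, x ≠ 1 → x = .a 2 ∨ x * x ≠ 1 := by decide +kernel

section main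

variable [hsol : Group.IsSolvable G]
  (hAB : ∀ A B : Subgroup G, IsMulCommutative A → IsMulCommutative B → Nat.card A = Nat.card B →
    ∃ g : G, MulAut.conj g • A = B)

include hAB in
theorem bp_of : ∀ p : ℕ, p.Prime → Bp p G := fun _ _ A B _ _ hA hB h => hAB A B hA hB h

include hAB in
/-- the key claim on the components of `E` -/
theorem claim (T : Sylow 2 G) (e : (T : Subgroup G) ≃* QuaternionGroup 2)
    (hR : (EE G ⊔ (T : Subgroup G)).Normal) {M : Subgroup G} (hME : M ≤ EE G)
    (hTM : (T : Subgroup G) ≤ normalizer (M : Set G)) {q : ℕ} [hq : Fact q.Prime] (hqE : q ∈ piE G) :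
    (T : Subgroup G) ≤ centralizer (pCore q G : Set G) ∨ M ⊓ pCore q G = ⊥ ∨ pCore q G ≤ M := by
  classical
  have hB := bp_of hAB
  have hEc := EE_comm hB
  obtain ⟨-, hNnc, hNc, hNe⟩ := piE_spec hB hqE
  set N := pCore q G with hN
  haveI hNn : N.Normal := Fitting.normal_pCore q
  have hNE : N ≤ EE G := pCore_le_EE hqE
  have hN1 : N ≠ ⊥ := by
    intro h; apply hNnc; rw [h]; infer_instance
  by_contra hcon
  push Not at hcon
  obtain ⟨hTC, hMN, hNM⟩ := hcon
  rw [← KN_eq_centralizer] at hTC
  set R : Subgroup G := EE G ⊔ (T : Subgroup G) with hRd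
  haveI := hR
  have hEK : EE G ≤ KN N := by
    intro x hx
    rw [mem_KN]
    intro n hn
    rw [hEc x hx n (hNE hn), mul_inv_cancel_right]
  -- no element of order four in the kernel
  have hno : ∀ y ∈ KN N, orderOf y ≠ 2 ^ 2 := fun y hy hyo =>
    hTC (quat_le_of_mem (hB 2 Nat.prime_two) e ⟨y, hy, hyo⟩)
  set f := QuotientGroup.mk' (KN N) with hf
  have hker : f.ker = KN N := QuotientGroup.ker_mk' _
  have hD : R.map f = (T : Subgroup G).map f := by
    rw [hRd, Subgroup.map_sup]
    have : (EE G).map f = ⊥ := by rw [Subgroup.map_eq_bot_iff, hker]; exact hEK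
    rw [this, bot_sup_eq]
  haveI hDn : ((T : Subgroup G).map f).Normal := by
    rw [← hD]; exact hR.map f (QuotientGroup.mk'_surjective _)
  set z : G := ((e.symm (.a 2) : (T : Subgroup G)) : G) with hz
  have hzT : z ∈ (T : Subgroup G) := Subtype.prop _
  -- the involution is not in the kernel
  have hzK : z ∉ KN N := by
    intro hzK
    have hDc : ∀ a ∈ (T : Subgroup G).map f, ∀ b ∈ (T : Subgroup G).map f, a * b = b * a := by
      rintro _ ⟨a, ha, rfl⟩ _ ⟨b, hb, rfl⟩
      rw [← map_mul, ← map_mul]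
      rcases dq2 (e ⟨a, ha⟩) (e ⟨b, hb⟩) with h4 | h4
      · rw [← map_mul, ← map_mul] at h4
        have h5 := congrArg Subtype.val (e.injective h4)
        change a * b = b * a at h5
        rw [h5]
      · have h5 : (⟨a, ha⟩ : (T : Subgroup G)) * ⟨b, hb⟩ = e.symm (.a 2) * (⟨b, hb⟩ * ⟨a, ha⟩) := by
          apply e.injective
          rw [map_mul, map_mul, map_mul, MulEquiv.apply_symm_apply, h4]
        have h6 := congrArg (fun x : (T : Subgroup G) => f (x : G)) h5
        change f (a * b) = f (z * (b * a)) at h6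
        have h7 : f z = 1 := by rw [← MonoidHom.mem_ker, hker]; exact hzK
        rw [h6, map_mul, h7, one_mul]
    have hcyc := (normal_comm_free (hB q hq.out) N hNc hNe hN1 _ hDc).1
    have hDe : ∀ x : (T : Subgroup G).map f, x ^ 2 = 1 := by
      rintro ⟨_, a, ha, rfl⟩
      apply Subtype.ext
      rw [Subgroup.coe_pow, Subgroup.coe_one]
      change (f a) ^ 2 = 1
      rw [← map_pow, pow_two]
      rcases dq1 (e ⟨a, ha⟩) with h4 | h4
      · rw [← map_mul, ← map_one e] at h4
        have h5 := congrArg Subtype.val (e.injective h4)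
        change a * a = 1 at h5
        rw [h5, map_one]
      · have h5 : (⟨a, ha⟩ : (T : Subgroup G)) * ⟨a, ha⟩ = e.symm (.a 2) := by
          apply e.injective
          rw [map_mul, MulEquiv.apply_symm_apply, h4]
        have h6 := congrArg (fun x : (T : Subgroup G) => f (x : G)) h5
        change f (a * a) = f z at h6
        rw [h6, ← MonoidHom.mem_ker, hker]; exact hzK
    have hcard := MetaSolv.card_le_two hcyc hDe
    set x : G := ((e.symm (.a 1) : (T : Subgroup G)) : G) with hx
    set y : G := ((e.symm (.xa 0) : (T : Subgroup G)) : G) with hy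
    have hxT : x ∈ (T : Subgroup G) := Subtype.prop _
    have hyT : y ∈ (T : Subgroup G) := Subtype.prop _
    have hord : ∀ u : QuaternionGroup 2, u * u ≠ 1 → ((e.symm u : (T : Subgroup G)) : G) ∉ KN N := by
      intro u hu hmem
      exact hno _ hmem (by rw [Subgroup.orderOf_coe, MulEquiv.orderOf_eq, orderOf_four hu])
    have hx1 : (⟨f x, mem_map_of_mem f hxT⟩ : (T : Subgroup G).map f) ≠ 1 := by
      intro h
      have h1 : f x = 1 := congrArg Subtype.val h
      rw [← MonoidHom.mem_ker, hker] at h1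
      exact hord _ (by decide) h1
    have hy1 : (⟨f y, mem_map_of_mem f hyT⟩ : (T : Subgroup G).map f) ≠ 1 := by
      intro h
      have h1 : f y = 1 := congrArg Subtype.val h
      rw [← MonoidHom.mem_ker, hker] at h1
      exact hord _ (by decide) h1
    have hxy : f x = f y := by
      by_contra hne
      have h3 : ({1, ⟨f x, mem_map_of_mem f hxT⟩, ⟨f y, mem_map_of_mem f hyT⟩} :
          Finset ((T : Subgroup G).map f)).card = 3 := by
        rw [Finset.card_eq_three]
        exact ⟨_, _, _, hx1.symm, hy1.symm, fun h => hne (congrArg Subtype.val h), rfl⟩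
      have h4 : 3 ≤ Nat.card ((T : Subgroup G).map f) := by
        rw [← h3]
        have := Fintype.ofFinite ((T : Subgroup G).map f)
        rw [Nat.card_eq_fintype_card]
        exact Finset.card_le_univ _
      omega
    have h1 : y * x⁻¹ ∈ KN N := by
      rw [← hker, MonoidHom.mem_ker, map_mul, map_inv, hxy, mul_inv_cancel]
    have h2 : y * x⁻¹ = ((e.symm (.xa 0 * (.a 1)⁻¹) : (T : Subgroup G)) : G) := by
      rw [map_mul, map_inv]; rfl
    rw [h2] at h1
    exact hord _ (by decide) h1
  -- `f` is injective on `T`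
  have hinj : ∀ t ∈ (T : Subgroup G), f t = 1 → t = 1 := by
    intro t ht hft
    have htK : t ∈ KN N := by rw [← hker]; exact hft
    by_contra ht1
    have h3 : e ⟨t, ht⟩ ≠ 1 := by
      intro h4
      rw [← map_one e] at h4
      exact ht1 (congrArg Subtype.val (e.injective h4))
    rcases dq8 _ h3 with h4 | h4
    · apply hzK
      have h5 : z = t := by rw [hz, ← h4, MulEquiv.symm_apply_apply]
      rw [h5]; exact htK
    · apply hno t htK
      rw [← orderOf_four h4, MulEquiv.orderOf_eq, Subgroup.orderOf_mk]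
  have hz2 : z * z = 1 := by
    have h1 : (e.symm (.a 2) : (T : Subgroup G)) * e.symm (.a 2) = 1 := by
      rw [← map_mul, ← map_one e.symm]; congr 1
    exact congrArg Subtype.val h1
  -- the image of the involution generates a normal subgroup
  have hDz : (zpowers (f z)).Normal := by
    constructor
    intro a ha g
    have h1 : g * f z * g⁻¹ = f z := by
      have h2 : g * f z * g⁻¹ ∈ (T : Subgroup G).map f := hDn.conj_mem _ (mem_map_of_mem f hzT) g
      obtain ⟨t, ht, hft⟩ := h2
      have h3 : t * t = 1 := by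
        apply hinj _ (mul_mem ht ht)
        rw [map_mul, hft]
        have h4 : g * f z * g⁻¹ * (g * f z * g⁻¹) = g * (f z * f z) * g⁻¹ := by group
        rw [h4, ← map_mul, hz2, map_one, mul_one, mul_inv_cancel]
      have h4 : e ⟨t, ht⟩ * e ⟨t, ht⟩ = 1 := by
        rw [← map_mul, ← map_one e]; congr 1; exact Subtype.ext h3
      rcases dq6 _ h4 with h5 | h5
      · exfalso
        rw [← map_one e] at h5
        have h6 : t = 1 := congrArg Subtype.val (e.injective h5)
        rw [h6, map_one] at hft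
        have h7 : f z = 1 := by
          have := hft.symm
          rwa [conj_eq_one_iff] at this
        rw [← MonoidHom.mem_ker, hker] at h7
        exact hzK h7
      · rw [← hft]
        congr 1
        rw [hz, ← h5, MulEquiv.symm_apply_apply]
    obtain ⟨k, rfl⟩ := ha
    change g * (f z) ^ k * g⁻¹ ∈ zpowers (f z)
    rw [← conj_zpow, h1]
    exact zpow_mem (mem_zpowers _) k
  have hfree : ∀ n ∈ N, n ≠ 1 → z * n * z⁻¹ ≠ n :=
    (normal_comm_free (hB q hq.out) N hNc hNe hN1 (zpowers (f z)) (by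
      rintro _ ⟨i, rfl⟩ _ ⟨j, rfl⟩
      change (f z) ^ i * (f z) ^ j = (f z) ^ j * (f z) ^ i
      rw [← zpow_add, ← zpow_add, add_comm])).2 z (mem_zpowers _) hzK
  -- `W₀`
  set W0 := M ⊓ N with hW0
  have hRW0 : R ≤ normalizer (W0 : Set G) := by
    rw [hRd]
    apply sup_le
    · intro x hx
      rw [mem_normalizer_iff_conj_smul]
      ext y
      rw [mem_conj_smul]
      constructor
      · intro hy
        have hyE : y ∈ EE G := by
          have h1 := (EE G).mul_mem ((EE G).mul_mem hx (hNE (Subgroup.mem_inf.1 hy).2)) ((EE G).inv_mem hx)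
          have h2 : x * (x⁻¹ * y * x) * x⁻¹ = y := by group
          rwa [h2] at h1
        have h3 : x⁻¹ * y * x = y := by
          rw [mul_assoc, hEc y hyE x hx, inv_mul_cancel_left]
        rwa [h3] at hy
      · intro hy
        have h3 : x⁻¹ * y * x = y := by
          rw [mul_assoc, hEc y (hNE (Subgroup.mem_inf.1 hy).2) x hx, inv_mul_cancel_left]
        rw [h3]; exact hy
    · intro x hx
      rw [mem_normalizer_iff_conj_smul, hW0, conj_smul_inf, conj_smul_normal x N,
        mem_normalizer_iff_conj_smul.1 (hTM hx)]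
  have hTW : ∀ W : Subgroup G, W ≤ N → Nat.card W = Nat.card W0 →
      (T : Subgroup G) ≤ normalizer (W : Set G) := by
    intro W hWN hWc
    obtain ⟨g, hg⟩ := hAB W0 W
      (isMulComm_of fun a ha b hb => hNc a (Subgroup.mem_inf.1 ha).2 b (Subgroup.mem_inf.1 hb).2)
      (isMulComm_of fun a ha b hb => hNc a (hWN ha) b (hWN hb)) hWc.symm
    have h1 : R ≤ normalizer ((MulAut.conj g • W0 : Subgroup G) : Set G) := by
      intro r hr
      have h2 : g⁻¹ * r * g ∈ R := by
        have := hR.conj_mem r hr g⁻¹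
        rwa [inv_inv] at this
      have h3 := mem_normalizer_iff_conj_smul.1 (hRW0 h2)
      rw [mem_normalizer_iff_conj_smul]
      conv_rhs => rw [← h3]
      rw [← conj_smul_mul, ← conj_smul_mul]
      congr 2
      group
    rw [hg] at h1
    exact (le_sup_right : (T : Subgroup G) ≤ R).trans h1
  obtain ⟨⟨v, hv⟩, hv1⟩ := Subgroup.ne_bot_iff_exists_ne_one.1 hMN
  have hv1' : v ≠ 1 := fun h => hv1 (Subtype.ext h)
  have hvN : v ∈ N := (Subgroup.mem_inf.1 hv).2
  obtain ⟨x, hxT, hxv⟩ : ∃ x ∈ (T : Subgroup G), x * v * x⁻¹ ∉ zpowers v := by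
    by_contra hcon
    push Not at hcon
    have h1 : (T : Subgroup G) ≤ normalizer ((zpowers v : Subgroup G) : Set G) := by
      intro x hx
      rw [mem_normalizer_iff_conj_smul]
      apply Subgroup.eq_of_le_of_card_ge
      · intro y hy
        rw [mem_conj_smul] at hy
        obtain ⟨k, hk⟩ := hy
        change v ^ k = x⁻¹ * y * x at hk
        have h2 : y = (x * v * x⁻¹) ^ k := by
          rw [conj_zpow, hk]; group
        rw [h2]
        exact zpow_mem (hcon x hx) k
      · rw [card_conj_smul]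
    have h2 := BG03o.commutator_le_centralizer_of_cyclic (C := zpowers v) inferInstance h1
    have h3 : z ∈ ⁅(T : Subgroup G), (T : Subgroup G)⁆ := by
      have h4 : z = ⁅((e.symm (.xa 0) : (T : Subgroup G)) : G), ((e.symm (.a 1) : (T : Subgroup G)) : G)⁆ := by
        rw [hz, ← dq7, map_commutatorElement]; rfl
      rw [h4]
      exact commutator_mem_commutator (Subtype.prop _) (Subtype.prop _)
    have h4 := mem_centralizer_iff.1 (h2 h3) v (mem_zpowers v)
    exact hfree v hvN hv1' (by rw [← h4, mul_inv_cancel_right])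
  have hwN : x * v * x⁻¹ ∈ N := hNn.conj_mem v hvN x
  obtain ⟨K, hKN, hvK, hwK, hKc⟩ := exists_hyperplane hNc hNe hvN hwN hxv
  -- choose `W`
  have hNp : IsPGroup q N := Cores.isPGroup_pCore q G
  obtain ⟨n, hn⟩ := hNp.exists_card_eq
  obtain ⟨a, ha⟩ := (hNp.to_le (inf_le_right : W0 ≤ N)).exists_card_eq
  obtain ⟨k, hk⟩ := (hNp.to_le hKN).exists_card_eq
  have hkn : k + 1 = n := by
    rw [hk, hn, ← pow_succ] at hKc
    exact Nat.pow_right_injective hq.out.two_le hKc
  have han : a < n := by
    by_contra hcon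
    have h1 : Nat.card N ≤ Nat.card W0 := by
      rw [hn, ha]; exact Nat.pow_le_pow_right hq.out.pos (by omega)
    have h2 := Subgroup.eq_of_le_of_card_ge (inf_le_right : W0 ≤ N) h1
    apply hNM
    rw [← h2]; exact inf_le_left
  have ha1 : 1 ≤ a := by
    by_contra hcon
    have : a = 0 := by omega
    rw [this, pow_zero, Subgroup.card_eq_one] at ha
    exact hMN ha
  have hvo : orderOf v = q := orderOf_eq_prime (hNe v hvN) hv1'
  obtain ⟨W, hWc, hWv⟩ := Sylow.exists_subgroup_card_pow_prime_le (G := K) q (n := 1) (m := a)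
    (by rw [hk]; exact pow_dvd_pow q (by omega)) ((zpowers v).subgroupOf K)
    (by rw [card_subgroupOf_of_le (zpowers_le.2 hvK), Nat.card_zpowers, hvo, pow_one]) ha1
  have hW1 : Nat.card (W.map K.subtype) = Nat.card W0 := by
    rw [Subgroup.card_map_of_injective K.subtype_injective, hWc, ha]
  have hW2 : W.map K.subtype ≤ N := (map_subtype_le W).trans hKN
  have hvW : v ∈ W.map K.subtype := ⟨⟨v, hvK⟩, hWv (by rw [mem_subgroupOf]; exact mem_zpowers v), rfl⟩
  have h1 := hTW _ hW2 hW1 hxT
  have h2 : x * v * x⁻¹ ∈ W.map K.subtype := (mem_normalizer_iff.1 h1 v).1 hvW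
  exact hwK ((map_subtype_le W) h2)

end main

end Cfsg.Agent.Lib.H30SO
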