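import Cfsg.Agent.Lib.H30SOh

/-!
Subgroups of `E T`, and the main theorem.
-/

set_option autoImplicit false

namespace Cfsg.Agent.Lib.H30SO

open Subgroup Cfsg.Agent.Lib.SubgroupTools Cfsg.Agent.Lib.HallPi
open scoped Pointwise commutatorElement

universe u v

variable {G : Type u} [Group G] [Finite G]

omit [Finite G] in
theorem conj_smul_eq_of_comm {g : G} {M : Subgroup G} (h : ∀ m ∈ M, g * m = m * g) :
    MulAut.conj g • M = M := by
  have h1 : g ∈ normalizer (M : Set G) := by
    rw [mem_normalizer_iff]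
    intro m
    constructor
    · intro hm
      rw [h m hm, mul_inv_cancel_right]; exact hm
    · intro hm
      have h2 := h _ hm
      have h3 : m = g * m * g⁻¹ := by
        have h4 : g * (g * m * g⁻¹) * g⁻¹ = g * m * g⁻¹ := by
          rw [h2, mul_inv_cancel_right]
        have h5 : g * m * g⁻¹ = m := by
          have h6 : g⁻¹ * (g * (g * m * g⁻¹) * g⁻¹) * g = g⁻¹ * (g * m * g⁻¹) * g := by rw [h4]
          have h7 : g⁻¹ * (g * (g * m * g⁻¹) * g⁻¹) * g = g * m * g⁻¹ := by group
          have h8 : g⁻¹ * (g * m * g⁻¹) * g = m := by group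
          rw [← h7, h6, h8]
        exact h5.symm
      rw [h3]; exact hm
  exact mem_normalizer_iff_conj_smul.1 h1

section main

variable [hsol : Group.IsSolvable G]
  (hAB : ∀ A B : Subgroup G, IsMulCommutative A → IsMulCommutative B → Nat.card A = Nat.card B →
    ∃ g : G, MulAut.conj g • A = B)

include hAB in
theorem odd_EE (T : Sylow 2 G) (e : (T : Subgroup G) ≃* QuaternionGroup 2) :
    2 ∉ piE G ∧ ¬ 2 ∣ Nat.card (EE G) := by
  have h1 : 2 ∉ piE G := by
    intro h
    have h2 := piE_spec (bp_of hAB) h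
    have h3 : (e.symm (.a 1) : (T : Subgroup G)) * e.symm (.xa 0) = e.symm (.xa 0) * e.symm (.a 1) := by
      apply Subtype.ext
      apply h2.2.2.1
      · rw [← h2.1 T]; exact Subtype.prop _
      · rw [← h2.1 T]; exact Subtype.prop _
    rw [← map_mul, ← map_mul] at h3
    have h4 := e.symm.injective h3
    revert h4; decide
  exact ⟨h1, fun h => h1 (mem_piE_of_dvd Nat.prime_two h)⟩

include hAB in
theorem to_T (T : Sylow 2 G) (e : (T : Subgroup G) ≃* QuaternionGroup 2) {X : Subgroup G}
    (hX : X ≤ EE G ⊔ (T : Subgroup G)) : ∃ x ∈ EE G, ∃ X2 : Subgroup G, X2 ≤ T ∧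
      MulAut.conj x • X = (X ⊓ EE G) ⊔ X2 ∧ (X ⊓ EE G) ⊓ X2 = ⊥ := by
  classical
  have hB := bp_of hAB
  have hEc := EE_comm hB
  have hodd := (odd_EE hAB T e).2
  set R : Subgroup G := EE G ⊔ (T : Subgroup G) with hR
  obtain ⟨P⟩ : Nonempty (Sylow 2 X) := inferInstance
  set P' := (P : Subgroup X).map X.subtype with hP'
  have hP'X : P' ≤ X := map_subtype_le _
  have hP'2 : IsPGroup 2 P' := P.2.map _
  have hTR : (T : Subgroup G) ≤ R := le_sup_right
  have hHall : Cfsg.IsPiHallOf {2} (T : Subgroup G) R := by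
    refine ⟨hTR, ?_, ?_⟩
    · intro p hp hpT
      obtain ⟨k, hk⟩ := T.2.exists_card_eq
      rw [hk] at hpT
      exact (Nat.prime_dvd_prime_iff_eq hp Nat.prime_two).1 (hp.dvd_of_dvd_pow hpT)
    · intro p hp hp2 hdvd
      rw [Set.mem_singleton_iff] at hp2
      subst hp2
      exact T.not_dvd_index (hdvd.trans (Subgroup.relIndex_dvd_index_of_le hTR))
  obtain ⟨r, hrR, hr⟩ := exists_conj_le_rel (M := R) inferInstance hHall (hP'X.trans hX) (by
    intro p hp hpP
    obtain ⟨k, hk⟩ := hP'2.exists_card_eq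
    rw [hk] at hpP
    exact (Nat.prime_dvd_prime_iff_eq hp Nat.prime_two).1 (hp.dvd_of_dvd_pow hpP))
  have hTn : (T : Subgroup G) ≤ normalizer (EE G : Set G) := by
    rw [normalizer_eq_top_iff.2 (EE_normal G)]; exact le_top
  rw [hR, mem_sup_of_le_normalizer hTn] at hrR
  obtain ⟨y, hy, t, ht, rfl⟩ := hrR
  rw [conj_smul_mul, conj_smul_self_of_mem ht] at hr
  refine ⟨y⁻¹, (EE G).inv_mem hy, MulAut.conj y⁻¹ • P', ?_, ?_, ?_⟩
  · have h1 := conj_smul_mono y⁻¹ hr
    rwa [← conj_smul_mul, inv_mul_cancel, conj_smul_one] at h1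
  · have hXE : MulAut.conj y⁻¹ • (X ⊓ EE G) = X ⊓ EE G := conj_smul_eq_of_comm fun m hm =>
      hEc _ ((EE G).inv_mem hy) m (Subgroup.mem_inf.1 hm).2
    symm
    apply Subgroup.eq_of_le_of_card_ge
    · apply sup_le
      · rw [← hXE]; exact conj_smul_mono _ inf_le_left
      · exact conj_smul_mono _ hP'X
    · rw [card_conj_smul]
      have h1 := card_map_mul_card_inf_ker (QuotientGroup.mk' (EE G)) X
      rw [QuotientGroup.ker_mk'] at h1
      have h2 : Nat.card (X.map (QuotientGroup.mk' (EE G))) ∣ 2 ^ 3 := by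
        have h3 : X.map (QuotientGroup.mk' (EE G)) ≤ (T : Subgroup G).map (QuotientGroup.mk' (EE G)) := by
          refine (map_mono hX).trans ?_
          rw [hR, Subgroup.map_sup, QuotientGroup.map_mk'_self, bot_sup_eq]
        refine (Subgroup.card_dvd_of_le h3).trans ?_
        have h4 := card_map_mul_card_inf_ker (QuotientGroup.mk' (EE G)) (T : Subgroup G)
        rw [card_of_quat e] at h4
        rw [show (2 : ℕ) ^ 3 = 8 by norm_num, ← h4]
        exact dvd_mul_right _ _
      obtain ⟨k, -, hk⟩ := (Nat.dvd_prime_pow Nat.prime_two).1 h2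
      have h3 : 2 ^ k ∣ Nat.card (P : Subgroup X) := by
        apply P.pow_dvd_card_of_pow_dvd_card
        rw [← h1, hk]; exact dvd_mul_right _ _
      have h4 : Nat.card (MulAut.conj y⁻¹ • P' : Subgroup G) = Nat.card (P : Subgroup X) := by
        rw [card_conj_smul, hP', Subgroup.card_map_of_injective X.subtype_injective]
      apply Nat.le_of_dvd Nat.card_pos
      rw [← h1, hk]
      apply Nat.Coprime.mul_dvd_of_dvd_of_dvd
      · apply Nat.Coprime.pow_left
        rw [Nat.Prime.coprime_iff_not_dvd Nat.prime_two]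
        exact fun h => hodd (h.trans (Subgroup.card_dvd_of_le inf_le_right))
      · exact (h3.trans (h4 ▸ Subgroup.card_dvd_of_le le_sup_right))
      · exact Subgroup.card_dvd_of_le le_sup_left
  · apply inf_eq_bot_of_coprime'
    obtain ⟨k, hk⟩ := hP'2.exists_card_eq
    rw [card_conj_smul, hk]
    apply Nat.Coprime.pow_right
    rw [Nat.coprime_comm, Nat.Prime.coprime_iff_not_dvd Nat.prime_two]
    exact fun h => hodd (h.trans (Subgroup.card_dvd_of_le inf_le_right))

omit [Finite G] in
/-- different subgroups of the same order in a quaternion group have order `4` and generate it -/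
theorem quat_subgroups {T : Subgroup G} (e : T ≃* QuaternionGroup 2) {X Y : Subgroup G} (hX : X ≤ T)
    (hY : Y ≤ T) (h : Nat.card X = Nat.card Y) (hne : X ≠ Y) : Nat.card X = 4 ∧ X ⊔ Y = T := by
  have hT8 := card_of_quat e
  haveI : Finite T := Nat.finite_of_card_ne_zero (by rw [hT8]; norm_num)
  haveI : Finite X := Finite.of_injective _ (Subgroup.inclusion_injective hX)
  haveI : Finite Y := Finite.of_injective _ (Subgroup.inclusion_injective hY)
  have h1 : Nat.card X ∣ 2 ^ 3 := by
    have := Subgroup.card_dvd_of_le hX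
    rwa [hT8] at this
  obtain ⟨k, hk3, hk⟩ := (Nat.dvd_prime_pow Nat.prime_two).1 h1
  have hinv : ∀ x y : G, (hx : x ∈ T) → (hy : y ∈ T) → orderOf x = 2 → orderOf y = 2 → x = y := by
    intro x y hx hy hox hoy
    have hx' : orderOf (e ⟨x, hx⟩) = 2 := by rw [MulEquiv.orderOf_eq, Subgroup.orderOf_mk, hox]
    have hy' : orderOf (e ⟨y, hy⟩) = 2 := by rw [MulEquiv.orderOf_eq, Subgroup.orderOf_mk, hoy]
    have h3 := (H55Quat.eq_of_orderOf_two 2 hx').trans (H55Quat.eq_of_orderOf_two 2 hy').symm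
    exact congrArg Subtype.val (e.injective h3)
  have hk2 : k = 2 := by
    interval_cases k
    · exfalso
      apply hne
      rw [pow_zero] at hk
      rw [hk] at h
      rw [Subgroup.card_eq_one.1 hk, Subgroup.card_eq_one.1 h.symm]
    · exfalso
      apply hne
      rw [pow_one] at hk
      haveI : Fact (Nat.Prime 2) := ⟨Nat.prime_two⟩
      obtain ⟨x, hx⟩ := exists_prime_orderOf_dvd_card' (G := X) 2 (by rw [hk])
      obtain ⟨y, hy⟩ := exists_prime_orderOf_dvd_card' (G := Y) 2 (by rw [← h, hk])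
      rw [← Subgroup.orderOf_coe] at hx hy
      have hxy := hinv x y (hX x.2) (hY y.2) hx hy
      have h2 : zpowers (x : G) = X := Subgroup.eq_of_le_of_card_ge (zpowers_le.2 x.2) (by
        rw [Nat.card_zpowers, hx, hk])
      have h3 : zpowers (y : G) = Y := Subgroup.eq_of_le_of_card_ge (zpowers_le.2 y.2) (by
        rw [Nat.card_zpowers, hy, ← h, hk])
      rw [← h2, ← h3, hxy]
    · rfl
    · exfalso
      apply hne
      have h2 : X = T := Subgroup.eq_of_le_of_card_ge hX (by rw [hT8, hk]; norm_num)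
      have h3 : Y = T := Subgroup.eq_of_le_of_card_ge hY (by rw [hT8, ← h, hk]; norm_num)
      rw [h2, h3]
  rw [hk2] at hk
  refine ⟨by rw [hk]; norm_num, ?_⟩
  have hle : X ⊔ Y ≤ T := sup_le hX hY
  haveI : Finite (X ⊔ Y : Subgroup G) := Finite.of_injective _ (Subgroup.inclusion_injective hle)
  apply Subgroup.eq_of_le_of_card_ge hle
  have h2 : Nat.card X < Nat.card (X ⊔ Y : Subgroup G) := by
    by_contra hcon
    have h3 := Subgroup.eq_of_le_of_card_ge (le_sup_left : X ≤ X ⊔ Y) (not_lt.1 hcon)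
    have h4 : Y ≤ X := by rw [h3]; exact le_sup_right
    exact hne (Subgroup.eq_of_le_of_card_ge h4 h.le).symm
  have h3 : Nat.card (X ⊔ Y : Subgroup G) ∣ 2 ^ 3 := by
    have := Subgroup.card_dvd_of_le hle
    rwa [hT8] at this
  obtain ⟨l, hl3, hl⟩ := (Nat.dvd_prime_pow Nat.prime_two).1 h3
  rw [hk, hl] at h2
  have h4 : 2 < l := (Nat.pow_lt_pow_iff_right (by norm_num)).1 h2
  have h5 : l = 3 := by omega
  rw [hT8, hl, h5]; norm_num

include hAB in
theorem conj_in_R (T : Sylow 2 G) (e : (T : Subgroup G) ≃* QuaternionGroup 2)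
    (hR : (EE G ⊔ (T : Subgroup G)).Normal) {X Y : Subgroup G} (hX : X ≤ EE G ⊔ (T : Subgroup G))
    (hY : Y ≤ EE G ⊔ (T : Subgroup G)) (h : Nat.card X = Nat.card Y) :
    ∃ g : G, MulAut.conj g • X = Y := by
  classical
  have hB := bp_of hAB
  have hEc := EE_comm hB
  have hodd := (odd_EE hAB T e).2
  obtain ⟨g0, hg0⟩ := hAB (X ⊓ EE G) (Y ⊓ EE G)
    (isMulComm_of fun a ha b hb => hEc a (Subgroup.mem_inf.1 ha).2 b (Subgroup.mem_inf.1 hb).2)
    (isMulComm_of fun a ha b hb => hEc a (Subgroup.mem_inf.1 ha).2 b (Subgroup.mem_inf.1 hb).2)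
    (card_inf_of_hall (EE_coprime hB) h)
  set X' := MulAut.conj g0 • X with hX'
  have hX'E : X' ⊓ EE G = Y ⊓ EE G := by rw [hX', ← hg0, conj_smul_inf, conj_smul_normal g0 (EE G)]
  have hX'R : X' ≤ EE G ⊔ (T : Subgroup G) := by
    have h1 := conj_smul_mono g0 hX
    haveI := hR
    rwa [conj_smul_normal g0 (EE G ⊔ (T : Subgroup G))] at h1
  obtain ⟨x, hxE, X2, hX2T, hX2, hX2i⟩ := to_T hAB T e hX'R
  obtain ⟨y, hyE, Y2, hY2T, hY2, hY2i⟩ := to_T hAB T e hY
  rw [hX'E] at hX2 hX2i
  set M := Y ⊓ EE G with hM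
  have hME : M ≤ EE G := inf_le_right
  -- it is enough to conjugate `M X2` to `M Y2`
  suffices hs : ∃ g : G, MulAut.conj g • (M ⊔ X2) = M ⊔ Y2 by
    obtain ⟨g, hg⟩ := hs
    refine ⟨y⁻¹ * g * x * g0, ?_⟩
    rw [conj_smul_mul, conj_smul_mul, conj_smul_mul, ← hX', hX2, hg, ← hY2, ← conj_smul_mul,
      inv_mul_cancel, conj_smul_one]
  have hnormX : X2 ≤ normalizer (M : Set G) := by
    have h1 : X2 ≤ MulAut.conj x • X' := by rw [hX2]; exact le_sup_right
    have h2 : (MulAut.conj x • X') ⊓ EE G = M := by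
      rw [← conj_smul_normal x (EE G), ← conj_smul_inf, hX'E]
      exact conj_smul_eq_of_comm fun m hm => hEc x hxE m (hME hm)
    rw [← h2]
    exact h1.trans (le_normalizer_inf_normal _ _)
  have hnormY : Y2 ≤ normalizer (M : Set G) := by
    have h1 : Y2 ≤ MulAut.conj y • Y := by rw [hY2]; exact le_sup_right
    have h2 : (MulAut.conj y • Y) ⊓ EE G = M := by
      rw [← conj_smul_normal y (EE G), ← conj_smul_inf]
      exact conj_smul_eq_of_comm fun m hm => hEc y hyE m (hME hm)
    rw [← h2]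
    exact h1.trans (le_normalizer_inf_normal _ _)
  have hc1 := card_sup_of_disjoint hnormX (disjoint_iff.2 hX2i)
  have hc2 := card_sup_of_disjoint hnormY (disjoint_iff.2 hY2i)
  have hcXY : Nat.card (M ⊔ X2 : Subgroup G) = Nat.card (M ⊔ Y2 : Subgroup G) := by
    rw [← hX2, ← hY2, card_conj_smul, card_conj_smul, card_conj_smul, h]
  have hcard : Nat.card X2 = Nat.card Y2 :=
    Nat.eq_of_mul_eq_mul_left (Nat.card_pos (α := M)) (by rw [← hc1, ← hc2, hcXY])
  by_cases hne : X2 = Y2
  · exact ⟨1, by rw [conj_smul_one, hne]⟩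
  obtain ⟨hX24, hXYT⟩ := quat_subgroups e hX2T hY2T hcard hne
  have hY24 : Nat.card Y2 = 4 := by rw [← hcard, hX24]
  have hTM : (T : Subgroup G) ≤ normalizer (M : Set G) := by rw [← hXYT]; exact sup_le hnormX hnormY
  haveI : Fact (Nat.Prime 2) := ⟨Nat.prime_two⟩
  have hX2c : IsMulCommutative X2 := IsPGroup.isMulCommutative_of_card_eq_prime_sq (p := 2) (by
    rw [hX24]; norm_num)
  have hY2c : IsMulCommutative Y2 := IsPGroup.isMulCommutative_of_card_eq_prime_sq (p := 2) (by
    rw [hY24]; norm_num)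
  set M' := M ⊓ centralizer ((T : Subgroup G) : Set G) with hM'
  have hM'E : M' ≤ EE G := inf_le_left.trans hME
  have hM'T : ∀ m ∈ M', ∀ t ∈ (T : Subgroup G), m * t = t * m := fun m hm t ht =>
    (mem_centralizer_iff.1 (Subgroup.mem_inf.1 hm).2 t ht).symm
  -- facts on `M' ⊔ Z`, `Z ≤ T` of order four, abelian
  have hfact : ∀ Z : Subgroup G, Z ≤ T → Nat.card Z = 4 → IsMulCommutative Z →
      IsMulCommutative (M' ⊔ Z : Subgroup G) ∧ Nat.card (M' ⊔ Z : Subgroup G) = Nat.card M' * 4 ∧
        (M' ⊔ Z) ⊓ EE G = M' := by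
    intro Z hZT hZ4 hZc
    have hZn : Z ≤ normalizer (M' : Set G) := by
      refine le_trans ?_ (Subgroup.centralizer_le_normalizer _)
      intro z hz
      rw [mem_centralizer_iff]
      intro m hm
      exact hM'T m hm z (hZT hz)
    have hcop : (Nat.card M').Coprime (Nat.card Z) := by
      rw [hZ4, show (4 : ℕ) = 2 ^ 2 by norm_num]
      apply Nat.Coprime.pow_right
      rw [Nat.coprime_comm, Nat.Prime.coprime_iff_not_dvd Nat.prime_two]
      exact fun h => hodd (h.trans (Subgroup.card_dvd_of_le hM'E))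
    have hcd : Nat.card (M' ⊔ Z : Subgroup G) = Nat.card M' * 4 := by
      rw [card_sup_of_coprime hZn hcop, hZ4]
    refine ⟨?_, hcd, ?_⟩
    · apply isMulComm_of
      intro a ha b hb
      rw [mem_sup_of_le_normalizer hZn] at ha hb
      obtain ⟨m, hm, z, hz, rfl⟩ := ha
      obtain ⟨m', hm', z', hz', rfl⟩ := hb
      have e1 : m * z * (m' * z') = m * m' * (z * z') := by
        rw [mul_assoc, ← mul_assoc z, ← hM'T m' hm' z (hZT hz)]; group
      have e2 : m' * z' * (m * z) = m' * m * (z' * z) := by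
        rw [mul_assoc, ← mul_assoc z', ← hM'T m hm z' (hZT hz')]; group
      rw [e1, e2, hEc m (hM'E hm) m' (hM'E hm'), isMulCommutative_iff_of_setLike.1 hZc z hz z' hz']
    · symm
      apply Subgroup.eq_of_le_of_card_ge (le_inf le_sup_left hM'E)
      apply Nat.le_of_dvd Nat.card_pos
      have h1 : Nat.card ((M' ⊔ Z) ⊓ EE G : Subgroup G) ∣ Nat.card M' * 4 := by
        rw [← hcd]; exact Subgroup.card_dvd_of_le inf_le_left
      apply Nat.Coprime.dvd_of_dvd_mul_right _ h1
      rw [show (4 : ℕ) = 2 ^ 2 by norm_num]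
      apply Nat.Coprime.pow_right
      rw [Nat.coprime_comm, Nat.Prime.coprime_iff_not_dvd Nat.prime_two]
      exact fun h => hodd (h.trans (Subgroup.card_dvd_of_le inf_le_right))
  obtain ⟨hAc, hAcd, hAE⟩ := hfact X2 hX2T hX24 hX2c
  obtain ⟨hBc, hBcd, hBE⟩ := hfact Y2 hY2T hY24 hY2c
  obtain ⟨g, hg⟩ := hAB (M' ⊔ X2) (M' ⊔ Y2) hAc hBc (by rw [hAcd, hBcd])
  have hgM' : MulAut.conj g • M' = M' := by
    conv_lhs => rw [← hAE]
    rw [conj_smul_inf, hg, conj_smul_normal g (EE G), hBE]
  have hgX2 : MulAut.conj g • X2 = Y2 := by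
    have hXB : MulAut.conj g • X2 ≤ M' ⊔ Y2 := by rw [← hg]; exact conj_smul_mono g le_sup_right
    have hp4 : ∀ Z : Subgroup G, Nat.card Z = 4 → IsPGroup 2 Z := fun Z hZ =>
      IsPGroup.of_card (n := 2) (by rw [hZ]; norm_num)
    have hrel : ∀ Z : Subgroup G, Z ≤ M' ⊔ Y2 → Nat.card Z = 4 → ¬ 2 ∣ Z.relIndex (M' ⊔ Y2) := by
      intro Z hZ hZ4 hd
      have h1 := card_mul_relIndex_of_le hZ
      rw [hZ4, hBcd, mul_comm] at h1
      have h2 := Nat.eq_of_mul_eq_mul_right (by norm_num) h1
      rw [h2] at hd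
      exact hodd (hd.trans (Subgroup.card_dvd_of_le hM'E))
    obtain ⟨m, hm, hmX⟩ := sylow_conj_rel (p := 2) hXB (le_sup_right : Y2 ≤ M' ⊔ Y2)
      (hp4 _ (by rw [card_conj_smul, hX24])) (hp4 _ hY24) (hrel _ hXB (by rw [card_conj_smul, hX24]))
      (hrel _ le_sup_right hY24)
    rw [← hmX]
    symm
    exact conj_smul_eq_of_comm fun a ha => isMulCommutative_iff_of_setLike.1 hBc m hm a (hXB ha)
  -- `g` normalizes `M`
  have hgM : MulAut.conj g • M = M := by
    have hle : M ≤ MulAut.conj g⁻¹ • M := by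
      apply le_of_forall hME
      intro q hq hqE P hPM hP
      have hPq := le_pCore_of_piE hB hqE hP
      haveI : (pCore q G).Normal := Fitting.normal_pCore q
      rcases claim hAB T e hR hME hTM hqE with h1 | h1 | h1
      · have h2 : P ≤ M' := le_inf hPM (hPq.trans (Subgroup.le_centralizer_iff.1 h1))
        have h3 : M' = MulAut.conj g⁻¹ • M' := by
          conv_rhs => rw [← hgM']
          rw [← conj_smul_mul, inv_mul_cancel, conj_smul_one]
        refine h2.trans ?_
        rw [h3]
        exact conj_smul_mono g⁻¹ inf_le_left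
      · have h2 : P ≤ ⊥ := by rw [← h1]; exact le_inf hPM hPq
        exact h2.trans bot_le
      · refine hPq.trans ?_
        have h2 := conj_smul_mono g⁻¹ h1
        rwa [conj_smul_normal g⁻¹ (pCore q G)] at h2
    have h2 := Subgroup.eq_of_le_of_card_ge hle (by rw [card_conj_smul])
    conv_lhs => rw [h2]
    rw [← conj_smul_mul, mul_inv_cancel, conj_smul_one]
  exact ⟨g, by rw [conj_smul_sup, hgM, hgX2]⟩

include hAB in
/-- **main theorem** -/
theorem main (A B : Subgroup G) (h : Nat.card A = Nat.card B) : ∃ g : G, MulAut.conj g • A = B := by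
  classical
  have hB := bp_of hAB
  have hEc := EE_comm hB
  haveI : Fact (Nat.Prime 2) := ⟨Nat.prime_two⟩
  by_cases hq : ∃ T : Sylow 2 G, Nonempty ((T : Subgroup G) ≃* QuaternionGroup 2)
  · obtain ⟨T, ⟨e⟩⟩ := hq
    obtain ⟨h2E, hodd⟩ := odd_EE hAB T e
    -- `E T` is normal
    set f := QuotientGroup.mk' (EE G) with hf
    have hfs : Function.Surjective f := QuotientGroup.mk'_surjective _
    have hker : f.ker = EE G := QuotientGroup.ker_mk' _
    have hTker : (T : Subgroup G) ⊓ f.ker = ⊥ := by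
      rw [hker]
      apply inf_eq_bot_of_coprime'
      rw [card_of_quat e, show (8 : ℕ) = 2 ^ 3 by norm_num]
      apply Nat.Coprime.pow_left
      rw [Nat.Prime.coprime_iff_not_dvd Nat.prime_two]
      exact hodd
    have hBq : Bp 2 (G ⧸ EE G) := (hB 2 Nat.prime_two).of_surjective f hfs (by rw [hker]; exact hodd)
    haveI : Group.IsSolvable (G ⧸ EE G) := inferInstance
    have hle : ((T.mapSurjective hfs : Sylow 2 (G ⧸ EE G)) : Subgroup (G ⧸ EE G)) ≤ pCore 2 (G ⧸ EE G) := by
      apply quat_le_pCore hBq (T.mapSurjective hfs) ((equivMap f T hTker).symm.trans e)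
      intro q hq hq2
      haveI : Fact q.Prime := ⟨hq⟩
      obtain ⟨P⟩ : Nonempty (Sylow q G) := inferInstance
      have h1 : pCore q (G ⧸ EE G) ≤ (P : Subgroup G).map f := Cores.pCore_le_sylow (P.mapSurjective hfs)
      have h2 : IsCyclic ((P : Subgroup G).map f) := by
        by_cases hqE : q ∈ piE G
        · have h3 : (P : Subgroup G).map f = ⊥ := by
            rw [Subgroup.map_eq_bot_iff, hker, (piE_spec hB hqE).1 P]
            exact pCore_le_EE hqE
          rw [h3]; infer_instance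
        · rcases cyclic_or_quat hB hqE P with h3 | h3
          · exact isCyclic_of_surjective (f.subgroupMap P) (f.subgroupMap_surjective P)
          · exact absurd h3.1 hq2
      exact isCyclic_of_injective (Subgroup.inclusion h1) (Subgroup.inclusion_injective h1)
    have hR : (EE G ⊔ (T : Subgroup G)).Normal := by
      have h1 : (T : Subgroup G).map f = pCore 2 (G ⧸ EE G) :=
        le_antisymm hle (Cores.pCore_le_sylow (T.mapSurjective hfs))
      have h2 : ((T : Subgroup G).map f).comap f = EE G ⊔ (T : Subgroup G) := by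
        rw [comap_map_eq, hker, sup_comm]
      rw [← h2, h1]
      haveI : (pCore 2 (G ⧸ EE G)).Normal := Fitting.normal_pCore 2
      infer_instance
    set R : Subgroup G := EE G ⊔ (T : Subgroup G) with hRd
    haveI := hR
    have hcR : Nat.card R ∣ Nat.card (EE G) * 8 := by
      have h1 := Cores.card_sup_dvd (T : Subgroup G) (EE G)
      rw [card_of_quat e, sup_comm, mul_comm] at h1
      exact h1
    obtain ⟨hcop, hZ⟩ := final_data R (by
      intro q hq P
      by_cases hqE : q ∈ piE G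
      · left
        rw [(piE_spec hB hqE).1 P]
        exact (pCore_le_EE hqE).trans le_sup_left
      by_cases hq2 : q = 2
      · subst hq2
        left
        obtain ⟨g, hg⟩ := MulAction.exists_smul_eq G T P
        have h1 : (P : Subgroup G) = MulAut.conj g • (T : Subgroup G) := by rw [← hg]; rfl
        rw [h1]
        have h2 := conj_smul_mono g (le_sup_right : (T : Subgroup G) ≤ R)
        rwa [conj_smul_normal g R] at h2
      · right
        constructor
        · intro hd
          rcases (hq.out.dvd_mul).1 (hd.trans hcR) with h1 | h1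
          · exact hqE (mem_piE_of_dvd hq.out h1)
          · apply hq2
            have h3 : q ∣ 2 ^ 3 := by simpa using h1
            exact (Nat.prime_dvd_prime_iff_eq hq.out Nat.prime_two).1 (hq.out.dvd_of_dvd_pow h3)
        · rcases cyclic_or_quat hB hqE P with h3 | h3
          · exact h3
          · exact absurd h3.1 hq2)
    haveI := hZ
    exact hall_reduction R hcop (fun X Y hX hY hXY => conj_in_R hAB T e hR hX hY hXY)
      zgroup_conj_rel A B h
  · obtain ⟨hcop, hZ⟩ := final_data (EE G) (by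
      intro q hq' P
      by_cases hqE : q ∈ piE G
      · left
        rw [(piE_spec hB hqE).1 P]
        exact pCore_le_EE hqE
      · right
        refine ⟨fun hd => hqE (mem_piE_of_dvd hq'.out hd), ?_⟩
        rcases cyclic_or_quat hB hqE P with h3 | ⟨h3, h4⟩
        · exact h3
        · subst h3
          exact absurd ⟨P, h4⟩ hq)
    haveI := hZ
    exact hall_reduction (EE G) hcop (fun X Y hX hY hXY => hAB X Y
      (isMulComm_of fun a ha b hb => hEc a (hX ha) b (hX hb))
      (isMulComm_of fun a ha b hb => hEc a (hY ha) b (hY hb)) hXY) zgroup_conj_rel A B h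

end main

end Cfsg.Agent.Lib.H30SO
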