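import Cfsg.Agent.Lib.H31KBal

/-!
# Local `k`-balance passes from `K / Z(K)` to a perfect group `K`; `k`-balance from the components (helper31)
-/

set_option autoImplicit false
open scoped Pointwise commutatorElement
open Subgroup Cfsg

namespace Cfsg.Agent.Lib.H31KBal2

open Cfsg.Agent.Lib.H31Delta Cfsg.Agent.Lib.H31KBal

universe u v

section Iso
variable {X : Type u} {Y : Type v} [Group X] [Group Y] {p : ℕ}

theorem map_cppc_le' [Finite Y] (e : X ≃* Y) (x : X) [Finite X] :
    (centralizerPPrimeCore p x).map e.toMonoidHom ≤ centralizerPPrimeCore p (e x) := by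
  apply le_cppc
  · rintro _ ⟨c, hc, rfl⟩
    rw [mem_centralizer_singleton_iff]
    have h1 := mem_centralizer_singleton_iff.1 (cppc_le p x hc)
    change e c * e x = e x * e c
    rw [← map_mul, ← map_mul, h1]
  · intro c hc
    apply mem_normalizer_fintype
    rintro _ ⟨d, hd, rfl⟩
    have hc' : e.symm c ∈ centralizer {x} := by
      rw [mem_centralizer_singleton_iff] at hc ⊢
      apply e.injective
      rw [map_mul, map_mul, e.apply_symm_apply]; exact hc
    have h1 := (mem_normalizer_iff.1 (le_normalizer_cppc p x hc') d).1 hd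
    refine ⟨_, h1, ?_⟩
    change e (e.symm c * d * (e.symm c)⁻¹) = c * e d * c⁻¹
    rw [map_mul, map_mul, map_inv, e.apply_symm_apply]
  · rw [Subgroup.card_map_of_injective (show Function.Injective e.toMonoidHom from e.injective)]
    exact coprime_card_cppc p x

theorem map_delta_le' [Finite X] [Finite Y] (e : X ≃* Y) (A : Subgroup X) :
    (signalizerDelta p A).map e.toMonoidHom ≤ signalizerDelta p (A.map e.toMonoidHom) := by
  rw [le_delta_iff]
  rintro _ ⟨a, ha, rfl⟩ ha1
  have ha1' : a ≠ 1 := fun h => ha1 (by rw [h, map_one])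
  exact (map_mono (delta_le ha ha1')).trans (map_cppc_le' e a)

end Iso

section Aut
variable {K : Type u} [Group K]

/-- the action of automorphisms on `K / Z(K)`. -/
def quotAut : MulAut K →* MulAut (K ⧸ center K) where
  toFun φ := QuotientGroup.congr (center K) (center K) φ
    (Subgroup.characteristic_iff_map_eq.1 inferInstance φ)
  map_one' := by
    ext x
    obtain ⟨x, rfl⟩ := QuotientGroup.mk_surjective x
    rfl
  map_mul' a b := by
    ext x
    obtain ⟨x, rfl⟩ := QuotientGroup.mk_surjective x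
    rfl

theorem quotAut_mk (φ : MulAut K) (x : K) :
    quotAut φ (QuotientGroup.mk x : K ⧸ center K) = QuotientGroup.mk (φ x) := rfl

theorem quotAut_injective (hK : commutator K = ⊤) : Function.Injective (quotAut (K := K)) := by
  rw [injective_iff_map_eq_one]
  intro φ hφ
  have h1 : ∀ x : K, x⁻¹ * φ x ∈ center K := by
    intro x
    rw [← QuotientGroup.eq, ← quotAut_mk, hφ]; rfl
  have h2 : ∀ x ∈ commutator K, φ x = x := by
    intro x hx
    have hle : commutator K ≤ (φ.toMonoidHom.eqLocus (MonoidHom.id K)) := by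
      rw [commutator_def, Subgroup.commutator_le]
      intro a _ b _
      change φ ⁅a, b⁆ = ⁅a, b⁆
      rw [map_commutatorElement]
      have ha := mem_center_iff.1 (h1 a)
      have hb := mem_center_iff.1 (h1 b)
      obtain ⟨z, hz⟩ : ∃ z, z = a⁻¹ * φ a := ⟨_, rfl⟩
      obtain ⟨w, hw⟩ : ∃ w, w = b⁻¹ * φ b := ⟨_, rfl⟩
      have ea : φ a = a * z := by rw [hz]; group
      have eb : φ b = b * w := by rw [hw]; group
      rw [← hz] at ha
      rw [← hw] at hb
      rw [ea, eb, commutatorElement_def, commutatorElement_def]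
      calc a * z * (b * w) * (a * z)⁻¹ * (b * w)⁻¹
          = a * (z * b) * (w * z⁻¹ * a⁻¹) * w⁻¹ * b⁻¹ := by group
        _ = a * (b * z) * (w * z⁻¹ * a⁻¹) * w⁻¹ * b⁻¹ := by rw [ha b]
        _ = a * b * ((z * w) * z⁻¹) * a⁻¹ * w⁻¹ * b⁻¹ := by group
        _ = a * b * ((w * z) * z⁻¹) * a⁻¹ * w⁻¹ * b⁻¹ := by rw [ha w]
        _ = a * b * (w * a⁻¹) * w⁻¹ * b⁻¹ := by group
        _ = a * b * (a⁻¹ * w) * w⁻¹ * b⁻¹ := by rw [hb a⁻¹]
        _ = a * b * a⁻¹ * b⁻¹ := by group
    exact hle hx
  ext x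
  exact h2 x (by rw [hK]; exact mem_top x)

theorem locallyKBalanced_of_quotient [Finite K] {p k : ℕ} (hK : commutator K = ⊤)
    (h : IsLocallyKBalanced p k (K ⧸ center K)) : IsLocallyKBalanced p k K := by
  intro H hH A hA hAk
  have hinj := quotAut_injective hK
  set H' : Subgroup (MulAut (K ⧸ center K)) := H.map quotAut with hH'
  let e : H ≃* H' := H.equivMapOfInjective quotAut hinj
  have h1 : (MulAut.conj : (K ⧸ center K) →* MulAut (K ⧸ center K)).range ≤ H' := by
    rintro _ ⟨x, rfl⟩
    obtain ⟨x, rfl⟩ := QuotientGroup.mk_surjective x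
    refine ⟨MulAut.conj x, hH ⟨x, rfl⟩, ?_⟩
    ext y
    obtain ⟨y, rfl⟩ := QuotientGroup.mk_surjective y
    rfl
  have h2 := h H' h1 (A.map e.toMonoidHom) (ThompsonJ.elemAb_map e.toMonoidHom hA)
    (by rw [Subgroup.card_map_of_injective (show Function.Injective e.toMonoidHom from e.injective)]
        exact hAk)
  have h3 := map_delta_le' (p := p) e A
  rw [h2, le_bot_iff, Subgroup.map_eq_bot_iff_of_injective _
    (show Function.Injective e.toMonoidHom from e.injective)] at h3
  exact h3

end Aut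

section Main
variable {G : Type u} [Group G] [Finite G] {p : ℕ} [Fact p.Prime]

theorem isKBalanced {k : ℕ} (hk : 1 ≤ k) (h : ∀ x : G, orderOf x = p →
    ∀ K : Subgroup (↥(Subgroup.centralizer ({x} : Set G)) ⧸
      Cfsg.pPrimeCore p ↥(Subgroup.centralizer ({x} : Set G))), Cfsg.IsComponent K →
      Cfsg.IsLocallyKBalanced p k ↥K) : Cfsg.IsKBalanced p k G := by
  intro A hA hAk b hb hAb
  rintro x ⟨hx, hxC⟩
  set C := centralizer ({b} : Set G) with hC
  have hAC : A ≤ C := fun a ha => mem_centralizer_singleton_iff.2 (hAb a ha)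
  have h1 := mem_delta_image hA hAC (x := ⟨x, hxC⟩) hx
  rw [delta_eq_bot (Cores.pPrimeCore_quotient_pPrimeCore p C) hk (elemAb_image hA)
    ((card_image hA hAC).trans hAk) (h b hb), mem_bot, QuotientGroup.mk'_apply,
    QuotientGroup.eq_one_iff] at h1
  exact ⟨_, h1, rfl⟩

end Main

end Cfsg.Agent.Lib.H31KBal2
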