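import Cfsg.Agent.Lib.CharPIff
import Cfsg.Agent.Lib.Cores
import Mathlib.LinearAlgebra.Matrix.SpecialLinearGroup
import Mathlib.LinearAlgebra.Matrix.Transvection

/-!
# The centralizer of a transvection in `SL(n, 2)` has characteristic 2 (helper31)
-/

set_option autoImplicit false
open Subgroup Cfsg Matrix

namespace Cfsg.Agent.Lib.H31Transv

variable {F : Type*} [Field F] {n : ℕ}

/-- the condition of commuting with the transvection, entrywise -/
theorem entries {i k : Fin n} {g : Matrix (Fin n) (Fin n) F}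
    (h : g * Matrix.transvection i k 1 = Matrix.transvection i k 1 * g) :
    (∀ r, r ≠ i → g r i = 0) ∧ (∀ s, s ≠ k → g k s = 0) ∧ g i i = g k k := by
  have h1 : g * Matrix.single i k 1 = Matrix.single i k 1 * g := by
    unfold Matrix.transvection at h
    rw [mul_add, add_mul, mul_one, one_mul] at h
    exact add_left_cancel h
  refine ⟨fun r hr => ?_, fun s hs => ?_, ?_⟩
  · have := congrFun (congrFun h1 r) k
    rw [Matrix.mul_single_apply_same, Matrix.single_mul_apply_of_ne _ _ _ _ _ hr, mul_one] at this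
    exact this
  · have := congrFun (congrFun h1 i) s
    rw [Matrix.single_mul_apply_same, Matrix.mul_single_apply_of_ne _ _ _ _ _ hs, one_mul] at this
    exact this.symm
  · have := congrFun (congrFun h1 i) k
    rw [Matrix.mul_single_apply_same, Matrix.single_mul_apply_same, mul_one, one_mul] at this
    exact this

set_option linter.unusedSectionVars false
variable [Fintype F] [DecidableEq F]

theorem two_elems (hF : Fintype.card F = 2) (x : F) : x = 0 ∨ x = 1 := by
  by_contra hno
  push Not at hno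
  have h1 : ({0, 1, x} : Finset F).card = 3 := by
    rw [Finset.card_eq_three]
    exact ⟨0, 1, x, zero_ne_one, hno.1.symm, hno.2.symm, rfl⟩
  have h2 := Finset.card_le_univ ({0, 1, x} : Finset F)
  omega

theorem charP_two (hF : Fintype.card F = 2) : CharP F 2 := by
  have h1 : (2 : F) = 0 := by
    rcases two_elems hF (2 : F) with h | h
    · exact h
    · exfalso
      have : (1 : F) = 0 := by linear_combination h
      exact one_ne_zero this
  exact CharTwo.of_one_ne_zero_of_two_eq_zero one_ne_zero h1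

theorem isPGroup_aux {G : Type*} [Group G] {H : Subgroup G} (h : ∀ x ∈ H, x ^ 4 = 1) : IsPGroup 2 H :=
  fun x => ⟨2, Subtype.ext (h x x.2)⟩

variable {i j : Fin n}

/-- `N = g - 1` for `g` in the unipotent radical -/
theorem cube_zero {N : Matrix (Fin n) (Fin n) F} (h0 : ∀ r s, r ≠ i → s ≠ j → N r s = 0)
    (h1 : ∀ r, N r i = 0) (h2 : ∀ s, N j s = 0) : N * (N * N) = 0 := by
  have hsq : ∀ r s, (N * N) r s = 0 ∨ (r = i ∧ s = j) := by
    intro r s
    by_cases hr : r = i
    · by_cases hs : s = j
      · exact Or.inr ⟨hr, hs⟩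
      · left
        rw [Matrix.mul_apply]
        apply Finset.sum_eq_zero
        intro k _
        by_cases hk : k = i
        · rw [hk, h1, zero_mul]
        · rw [h0 k s hk hs, mul_zero]
    · left
      rw [Matrix.mul_apply]
      apply Finset.sum_eq_zero
      intro k _
      by_cases hk : k = j
      · rw [hk, h2, mul_zero]
      · rw [h0 r k hr hk, zero_mul]
  ext r s
  rw [Matrix.mul_apply, Matrix.zero_apply]
  apply Finset.sum_eq_zero
  intro k _
  rcases hsq k s with h | h
  · rw [h, mul_zero]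
  · rw [h.1, h1, zero_mul]

theorem pow_four_eq_one [CharP F 2] {g : Matrix (Fin n) (Fin n) F}
    (h : (g - 1) * ((g - 1) * (g - 1)) = 0) : g ^ 4 = 1 := by
  set N := g - 1 with hN
  have hg : g = 1 + N := by rw [hN]; abel
  have h2 : (2 : Matrix (Fin n) (Fin n) F) = 0 := by
    have : ((2 : ℕ) : Matrix (Fin n) (Fin n) F) = ((2 : ℕ) : F) • (1 : Matrix (Fin n) (Fin n) F) := by
      rw [Nat.cast_smul_eq_nsmul, nsmul_one]
    rw [show (2 : Matrix (Fin n) (Fin n) F) = ((2 : ℕ) : Matrix (Fin n) (Fin n) F) by norm_cast, this,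
      CharP.cast_eq_zero, zero_smul]
  have e : (1 + N) ^ 4 = 1 + 2 * (2 * N) + 2 * (3 * (N * N)) + 4 * (N * (N * N)) + N * (N * (N * N)) := by
    noncomm_ring
  rw [hg, e, h, h2]
  simp


theorem mul_left {A B : Matrix (Fin n) (Fin n) F} (hA : ∀ r, r ≠ i → A r i = 0)
    (hB : ∀ k s, k ≠ i → s ≠ j → B k s = (1 : Matrix (Fin n) (Fin n) F) k s) {r s : Fin n} (hr : r ≠ i)
    (hs : s ≠ j) : (A * B) r s = A r s := by
  have h1 : (A * B) r s = (A * (1 : Matrix (Fin n) (Fin n) F)) r s := by
    rw [Matrix.mul_apply, Matrix.mul_apply]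
    apply Finset.sum_congr rfl
    intro k _
    by_cases hk : k = i
    · rw [hk, hA r hr, zero_mul, zero_mul]
    · rw [hB k s hk hs]
  rw [h1, mul_one]

theorem mul_right {A A' B : Matrix (Fin n) (Fin n) F} (hB : ∀ s, s ≠ j → B j s = 0)
    (hA : ∀ r k, r ≠ i → k ≠ j → A r k = A' r k) {r s : Fin n} (hr : r ≠ i)
    (hs : s ≠ j) : (A * B) r s = (A' * B) r s := by
  rw [Matrix.mul_apply, Matrix.mul_apply]
  apply Finset.sum_congr rfl
  intro k _
  by_cases hk : k = j
  · rw [hk, hB s hs, mul_zero, mul_zero]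
  · rw [hA r k hr hk]

theorem charP' (hF : Fintype.card F = 2) (hij : i ≠ j) (t : Matrix.SpecialLinearGroup (Fin n) F)
    (ht : (t : Matrix (Fin n) (Fin n) F) = Matrix.transvection i j 1) :
    H49Base.CharP' 2 ↥(centralizer ({t} : Set (Matrix.SpecialLinearGroup (Fin n) F))) := by
  have hp2 : Fact (Nat.Prime 2) := ⟨Nat.prime_two⟩
  have hc2 : CharP F 2 := charP_two hF
  set C := centralizer ({t} : Set (Matrix.SpecialLinearGroup (Fin n) F)) with hC
  have hent : ∀ c : Matrix.SpecialLinearGroup (Fin n) F, c ∈ C →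
      (∀ r, r ≠ i → (c : Matrix (Fin n) (Fin n) F) r i = 0) ∧
      (∀ s, s ≠ j → (c : Matrix (Fin n) (Fin n) F) j s = 0) ∧
      (c : Matrix (Fin n) (Fin n) F) i i = 1 ∧ (c : Matrix (Fin n) (Fin n) F) j j = 1 := by
    intro c hc
    have h1 := mem_centralizer_singleton_iff.1 hc
    have h2 : (c : Matrix (Fin n) (Fin n) F) * t = t * c := by
      rw [← Matrix.SpecialLinearGroup.coe_mul, h1, Matrix.SpecialLinearGroup.coe_mul]
    rw [ht] at h2
    obtain ⟨e1, e2, e3⟩ := entries h2
    have h3 : (c : Matrix (Fin n) (Fin n) F) i i = 1 := by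
      rcases two_elems hF ((c : Matrix (Fin n) (Fin n) F) i i) with h | h
      · exfalso
        have h4 := Matrix.det_eq_zero_of_column_eq_zero (A := (c : Matrix (Fin n) (Fin n) F)) i
          (fun r => by
            by_cases hr : r = i
            · rw [hr]; exact h
            · exact e1 r hr)
        rw [Matrix.SpecialLinearGroup.det_coe] at h4
        exact one_ne_zero h4
      · exact h
    exact ⟨e1, e2, h3, e3 ▸ h3⟩
  let Q : Subgroup C :=
    { carrier := {g | ∀ r s, r ≠ i → s ≠ j → ((g : Matrix.SpecialLinearGroup (Fin n) F) :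
        Matrix (Fin n) (Fin n) F) r s = (1 : Matrix (Fin n) (Fin n) F) r s}
      one_mem' := by
        intro r s _ _
        rfl
      mul_mem' := by
        intro a b ha hb r s hr hs
        change ((a : Matrix.SpecialLinearGroup (Fin n) F) * (b : Matrix.SpecialLinearGroup (Fin n) F) :
          Matrix (Fin n) (Fin n) F) r s = _
        rw [mul_right (A' := (1 : Matrix (Fin n) (Fin n) F)) (hent b b.2).2.1 ha hr hs, one_mul]
        exact hb r s hr hs
      inv_mem' := by
        intro a ha r s hr hs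
        have h1 : (((a⁻¹ : C) : Matrix.SpecialLinearGroup (Fin n) F) : Matrix (Fin n) (Fin n) F) *
          ((a : Matrix.SpecialLinearGroup (Fin n) F) : Matrix (Fin n) (Fin n) F) = 1 := by
          rw [← Matrix.SpecialLinearGroup.coe_mul, ← Subgroup.coe_mul, inv_mul_cancel]
          rfl
        rw [← h1, mul_left (hent _ (a⁻¹).2).1 ha hr hs] }
  have hQmem : ∀ g : C, g ∈ Q ↔ ∀ r s, r ≠ i → s ≠ j → ((g : Matrix.SpecialLinearGroup (Fin n) F) :
        Matrix (Fin n) (Fin n) F) r s = (1 : Matrix (Fin n) (Fin n) F) r s := fun g => Iff.rfl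
  have hQn : Q.Normal := by
    refine ⟨fun a ha h => ?_⟩
    rw [hQmem]
    intro r s hr hs
    have h1 : (((h * a * h⁻¹ : C) : Matrix.SpecialLinearGroup (Fin n) F) : Matrix (Fin n) (Fin n) F) =
        ((h : Matrix.SpecialLinearGroup (Fin n) F) : Matrix (Fin n) (Fin n) F) *
        ((a : Matrix.SpecialLinearGroup (Fin n) F) : Matrix (Fin n) (Fin n) F) *
        (((h⁻¹ : C) : Matrix.SpecialLinearGroup (Fin n) F) : Matrix (Fin n) (Fin n) F) := rfl
    have h2 : ((h : Matrix.SpecialLinearGroup (Fin n) F) : Matrix (Fin n) (Fin n) F) *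
        (((h⁻¹ : C) : Matrix.SpecialLinearGroup (Fin n) F) : Matrix (Fin n) (Fin n) F) = 1 := by
      rw [← Matrix.SpecialLinearGroup.coe_mul, ← Subgroup.coe_mul, mul_inv_cancel]
      rfl
    rw [h1, mul_right (A' := ((h : Matrix.SpecialLinearGroup (Fin n) F) : Matrix (Fin n) (Fin n) F))
      (hent _ (h⁻¹).2).2.1 (fun r k hr hk => mul_left (hent _ h.2).1 ha hr hk) hr hs, h2]
  have hQp : IsPGroup 2 Q := by
    apply isPGroup_aux
    intro x hx
    apply Subtype.ext
    apply Subtype.ext
    change ((x : Matrix.SpecialLinearGroup (Fin n) F) : Matrix (Fin n) (Fin n) F) ^ 4 = 1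
    obtain ⟨e1, e2, e3, e4⟩ := hent x x.2
    apply pow_four_eq_one
    apply cube_zero (i := i) (j := j)
    · intro r s hr hs
      rw [Matrix.sub_apply, (hQmem x).1 hx r s hr hs, sub_self]
    · intro r
      rw [Matrix.sub_apply]
      by_cases hr : r = i
      · rw [hr, e3, Matrix.one_apply_eq, sub_self]
      · rw [e1 r hr, Matrix.one_apply_ne hr, sub_self]
    · intro s
      rw [Matrix.sub_apply]
      by_cases hs : s = j
      · rw [hs, e4, Matrix.one_apply_eq, sub_self]
      · rw [e2 s hs, Matrix.one_apply_ne (Ne.symm hs), sub_self]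
  have hQle : Q ≤ pCore 2 C := Cores.le_pCore hQn hQp
  refine le_trans ?_ hQle
  intro c hc
  have hc' : ∀ q ∈ Q, q * c = c * q := fun q hq => mem_centralizer_iff.1 hc q (hQle hq)
  obtain ⟨e1, e2, e3, e4⟩ := hent c c.2
  rw [hQmem]
  intro r s hr _
  by_cases hrj : r = j
  · subst hrj
    by_cases hs : s = r
    · rw [hs, e4, Matrix.one_apply_eq]
    · rw [e2 s hs, Matrix.one_apply_ne (Ne.symm hs)]
  · -- the root element `1 + E_ir`
    have hir : i ≠ r := Ne.symm hr
    let x : Matrix.SpecialLinearGroup (Fin n) F :=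
      ⟨Matrix.transvection i r 1, Matrix.det_transvection_of_ne i r hir 1⟩
    have hxC : x ∈ C := by
      rw [hC, mem_centralizer_singleton_iff]
      apply Subtype.ext
      change Matrix.transvection i r (1 : F) * (t : Matrix (Fin n) (Fin n) F) =
        (t : Matrix (Fin n) (Fin n) F) * Matrix.transvection i r (1 : F)
      rw [ht]
      unfold Matrix.transvection
      have hA : Matrix.single i r (1 : F) * Matrix.single i j (1 : F) = 0 :=
        Matrix.single_mul_single_of_ne _ _ _ _ (Ne.symm hir) _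
      have hB : Matrix.single i j (1 : F) * Matrix.single i r (1 : F) = 0 :=
        Matrix.single_mul_single_of_ne _ _ _ _ (Ne.symm hij) _
      simp only [add_mul, mul_add, one_mul, mul_one, hA, hB, add_zero]
      abel
    have hxQ : (⟨x, hxC⟩ : C) ∈ Q := by
      rw [hQmem]
      intro a b ha hb
      change (Matrix.transvection i r (1 : F)) a b = _
      unfold Matrix.transvection
      rw [Matrix.add_apply, Matrix.single_apply_of_row_ne (Ne.symm ha), add_zero]
    have h1 := hc' _ hxQ
    have h2 : ((c : Matrix.SpecialLinearGroup (Fin n) F) : Matrix (Fin n) (Fin n) F) *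
        Matrix.transvection i r 1 = Matrix.transvection i r 1 *
        ((c : Matrix.SpecialLinearGroup (Fin n) F) : Matrix (Fin n) (Fin n) F) :=
      (congrArg (fun y : C => ((y : Matrix.SpecialLinearGroup (Fin n) F) : Matrix (Fin n) (Fin n) F)) h1).symm
    obtain ⟨-, f2, f3⟩ := entries h2
    by_cases hs : s = r
    · rw [hs, ← f3, e3, Matrix.one_apply_eq]
    · rw [f2 s hs, Matrix.one_apply_ne (Ne.symm hs)]

end Cfsg.Agent.Lib.H31Transv
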