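import Mathlib
import Cfsg.Agent.Lib.BlockSection
import Cfsg.Agent.Lib.BlockHomo4
import Cfsg.Agent.Lib.Contrib2
import Cfsg.Agent.S4611
import Cfsg.Agent.S4735

/-!
# Columns of the principal 2-block at an involution with solvable centralizer (helper32)
-/

set_option autoImplicit false
set_option linter.all false
set_option maxHeartbeats 400000

namespace Cfsg.Agent.Lib.H32E8a

open Cfsg Cfsg.Agent.Lib Cfsg.Agent.Lib.BlockRing Cfsg.Agent.Lib.BlockGA
open Cfsg.Agent.Lib.BlockIdem Cfsg.Agent.Lib.BlockThird Cfsg.Agent.Lib.BlockSecond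
open Cfsg.Agent.Lib.CharBasic Cfsg.Agent.Lib.BlockHomo
open scoped ComplexConjugate
open MonoidAlgebra (single)

universe u

section solvable

variable {H : Type u} [Group H] [Finite H] {p : ℕ} {M : Ideal AlgInt}

theorem core_not_dvd (hM : IsPModular p M) : ¬ p ∣ Nat.card (pPrimeCore p H) := by
  have := Fact.mk hM.1
  exact (Nat.Prime.coprime_iff_not_dvd hM.1).mp (Cores.coprime_card_pPrimeCore p H).symm

theorem eB_solvable [Group.IsSolvable H] (hM : IsPModular p M) :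
    eB (principalBlock M H) = BlockCore.normE (pPrimeCore p H) := by
  have := isPrime hM
  apply center_ext (eB_mem_center _) (BlockCore.normE_mem_center _)
  intro χ
  by_cases hχ : χ ∈ principalBlock M H
  · rw [omega_eB_mem hχ, (BlockCore.omega_normE_eq_one_iff _ χ.2).2
      (BlockCore.ker_of_principal hM (core_not_dvd hM) hχ)]
  · rw [omega_eB_not_mem hχ]
    rcases BlockCore.omega_normE_zero_or_one (pPrimeCore p H) χ.2 with h0 | h0
    · exact h0.symm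
    · exact absurd ((S4611.mem_principal_iff hM.1 hM χ).mpr
        ((BlockCore.omega_normE_eq_one_iff _ χ.2).1 h0)) hχ

theorem quot_mem [Group.IsSolvable H] (hM : IsPModular p M)
    (ψ : IrrCharacter (H ⧸ pPrimeCore p H)) : ψ ∈ principalBlock M (H ⧸ pPrimeCore p H) := by
  have := Fact.mk hM.1
  exact BlockInfl.mem_principal_of_centralizer_le hM (Cores.isPGroup_pCore p _)
      (Fitting.centralizer_pCore_le_of_solvable p (Cores.pPrimeCore_quotient_pPrimeCore p H)) _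

open scoped Classical in
theorem sum_quot [Group.IsSolvable H] (hM : IsPModular p M) (y y' : H) :
    ∑ᶠ ψ ∈ principalBlock M H, (ψ : H → ℂ) y * conj ((ψ : H → ℂ) y') =
      if IsConj (y : H ⧸ pPrimeCore p H) (y' : H ⧸ pPrimeCore p H) then
        (Nat.card (Subgroup.centralizer ({(y : H ⧸ pPrimeCore p H)} : Set (H ⧸ pPrimeCore p H))) : ℂ)
      else 0 := by
  have hbij := S4735.bijOn_infl hM (pPrimeCore p H) (core_not_dvd hM)
  rw [← finsum_mem_eq_of_bijOn _ hbij (f := fun ψ : IrrCharacter (H ⧸ pPrimeCore p H) =>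
    (ψ : H ⧸ pPrimeCore p H → ℂ) (y : H ⧸ pPrimeCore p H) *
      conj ((ψ : H ⧸ pPrimeCore p H → ℂ) (y' : H ⧸ pPrimeCore p H))) (fun ψ _ => rfl)]
  rw [← CharBasic.column_orthogonality]
  have h1 : principalBlock M (H ⧸ pPrimeCore p H) = Set.univ :=
    Set.eq_univ_of_forall (quot_mem hM)
  rw [h1, finsum_mem_univ, finsum_eq_sum_of_fintype]

end solvable

variable {G : Type u} [Group G] [Finite G] {p : ℕ} {M : Ideal AlgInt} {t : G}

theorem mem_cent (t g : G) : g ∈ Subgroup.centralizer ({t} : Set G) ↔ Commute t g := by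
  rw [Subgroup.mem_centralizer_singleton_iff]
  exact ⟨fun h => h.symm, fun h => h.symm⟩

variable {H : Subgroup G}

open scoped Classical in
theorem sum_pair (hM : IsPModular p M) {k : ℕ} (ht : orderOf t = p ^ k)
    (hmem : ∀ g, g ∈ H ↔ Commute t g) [Group.IsSolvable H]
    {y y' : H} (hy : ¬ p ∣ orderOf y) (hy' : ¬ p ∣ orderOf y') :
    ∑ χ ∈ PB M G, (χ : G → ℂ) (t * (y : G)) * conj ((χ : G → ℂ) (t * (y' : G))) =
      if IsConj (y : H ⧸ pPrimeCore p H) (y' : H ⧸ pPrimeCore p H) then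
        (Nat.card (Subgroup.centralizer ({(y : H ⧸ pPrimeCore p H)} :
          Set (H ⧸ pPrimeCore p H))) : ℂ)
      else 0 := by
  rw [← finsum_PB, BlockSection.principal_section_sum hM ht hmem hy hy', sum_quot hM]

theorem sum_deg (hM : IsPModular p M) {k : ℕ} (ht : orderOf t = p ^ k) (ht1 : t ≠ 1)
    (hmem : ∀ g, g ∈ H ↔ Commute t g) {y : H} (hy : ¬ p ∣ orderOf y) :
    ∑ χ ∈ PB M G, (χ : G → ℂ) (t * (y : G)) * (χ : G → ℂ) 1 = 0 := by
  have h := BlockOrth.block_orthogonality hM (B := principalBlock M G) isPBlock_principal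
    (g := t * y) (h := 1) (u := t) (v := 1)
    ⟨y, rfl, (hmem y).1 y.2, ⟨k, ht⟩, by rwa [Subgroup.orderOf_coe]⟩
    ⟨1, mul_one _, Commute.one_right _, ⟨0, by simp⟩, by
      rw [orderOf_one, Nat.dvd_one]; exact hM.1.one_lt.ne'⟩ (by
      intro h
      rw [isConj_one_left] at h
      exact ht1 h)
  rw [finsum_PB] at h
  simpa using h

/-- The sum formula. -/
theorem sum_sq_y (hM : IsPModular p M) {k : ℕ} (ht : orderOf t = p ^ k)
    (hmem : ∀ g, g ∈ H ↔ Commute t g) [Group.IsSolvable H]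
    {y : H} (hy : ¬ p ∣ orderOf y) (z : G)
    (hz : ∀ o ∈ pPrimeCore p H, ∀ a : G,
      ¬ IsConj (z * (a * z * a⁻¹)) (t * y * o)⁻¹) :
    ∑ χ ∈ PB M G, (χ : G → ℂ) z * (χ : G → ℂ) z * (χ : G → ℂ) (t * y) / (χ : G → ℂ) 1 = 0 := by
  classical
  have fH : Fintype H := Fintype.ofFinite H
  have hyG : ¬ p ∣ orderOf (y : G) := by rwa [Subgroup.orderOf_coe]
  have hyc : Commute t (y : G) := (hmem y).1 y.2
  have hE : eB (principalBlock M H) = BlockCore.normE (pPrimeCore p H) := eB_solvable hM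
  have hin : ∀ χ : IrrCharacter G, χ ∈ principalBlock M G →
      lin (χ : G → ℂ) (single (t * (y : G)) 1 * incH H (BlockCore.normE (pPrimeCore p H))) =
        (χ : G → ℂ) (t * y) := by
    intro χ hχ
    rw [← hE, BlockSection.principal_section hM ht hyG hyc hmem hχ]
  have hout : ∀ χ : IrrCharacter G, χ ∉ principalBlock M G →
      lin (χ : G → ℂ) (single (t * (y : G)) 1 * incH H (BlockCore.normE (pPrimeCore p H))) = 0 := by
    intro χ hχ
    rw [← hE, BlockSection.not_principal_of_principal hM ht hyG hyc hmem hχ]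
  have h2 : ∑ χ ∈ PB M G, (χ : G → ℂ) z * (χ : G → ℂ) z * (χ : G → ℂ) (t * y) / (χ : G → ℂ) 1 =
      ∑ χ : IrrCharacter G, (χ : G → ℂ) z * (χ : G → ℂ) z *
        lin (χ : G → ℂ) (single (t * (y : G)) 1 * incH H (BlockCore.normE (pPrimeCore p H))) /
          (χ : G → ℂ) 1 := by
    rw [PB, Finset.sum_filter]
    refine Finset.sum_congr rfl fun χ _ => ?_
    split_ifs with hχ
    · rw [hin χ hχ]
    · rw [hout χ hχ, mul_zero, zero_div]
  rw [h2]
  have h3 : ∀ χ : IrrCharacter G,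
      lin (χ : G → ℂ) (single (t * (y : G)) 1 * incH H (BlockCore.normE (pPrimeCore p H))) =
      ∑ c : H, (BlockCore.normE (pPrimeCore p H)).coeff c * (χ : G → ℂ) (t * y * c) := by
    intro χ
    rw [lin_single_mul_eq, lin_incH, lin_apply]
  have h4 : ∀ χ : IrrCharacter G, (χ : G → ℂ) z * (χ : G → ℂ) z *
        lin (χ : G → ℂ) (single (t * (y : G)) 1 * incH H (BlockCore.normE (pPrimeCore p H))) /
          (χ : G → ℂ) 1 =
      ∑ c : H, (BlockCore.normE (pPrimeCore p H)).coeff c *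
        ((χ : G → ℂ) z * (χ : G → ℂ) z * (χ : G → ℂ) (t * y * c) / (χ : G → ℂ) 1) := by
    intro χ
    rw [h3, Finset.mul_sum, Finset.sum_div]
    refine Finset.sum_congr rfl fun c _ => ?_
    ring
  rw [Finset.sum_congr rfl fun χ _ => h4 χ, Finset.sum_comm]
  refine Finset.sum_eq_zero fun c _ => ?_
  rw [← Finset.mul_sum]
  by_cases hc : c ∈ pPrimeCore p H
  · rw [sum_sq_div _ _ (hz c hc), mul_zero]
  · have : (BlockCore.normE (pPrimeCore p H)).coeff c = 0 := by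
      rw [BlockCore.normE, coeff_ofFun, if_neg hc]
    rw [this, zero_mul]

/-! ### integrality -/

/-- multiplication by a central element -/
theorem central_mul {H : Type u} [Group H] [Finite H] {ψ : H → ℂ} (hψ : IsIrrCharacter H ψ) {t : H}
    (ht : ∀ h : H, t * h = h * t) (x : H) : ψ 1 * ψ (x * t) = ψ x * ψ t := by
  classical
  have := Fintype.ofFinite H
  have h1 := BlockOrth.sum_conj_char hψ x t
  have h2 : ∀ a : H, ψ (x * (a * t * a⁻¹)) = ψ (x * t) := by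
    intro a
    rw [← ht a, mul_inv_cancel_right]
  rw [Finset.sum_congr rfl fun a _ => h2 a, Finset.sum_const, Finset.card_univ, nsmul_eq_mul,
    ← Nat.card_eq_fintype_card] at h1
  have hH : (Nat.card H : ℂ) ≠ 0 := by exact_mod_cast Nat.card_pos.ne'
  apply mul_left_cancel₀ hH
  linear_combination h1

/-- the coefficients of `h ↦ χ(t h)` on the centralizer are integers -/
theorem coef_int [Fintype H] (hmem : ∀ g, g ∈ H ↔ Commute t g) (ht2 : t * t = 1) (χ : IrrCharacter G)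
    (ψ : IrrCharacter H) :
    ∃ z : ℤ, classInner (fun c : H => (χ : G → ℂ) (t * (c : G))) (ψ : H → ℂ) = z := by
  have htH : t ∈ H := (hmem t).2 rfl
  obtain ⟨n, hn⟩ := (χ.2.isCharacter.restrict H).classInner_nat ψ.2.isCharacter
  have hc : ∀ h : H, (⟨t, htH⟩ : H) * h = h * ⟨t, htH⟩ := fun h =>
    Subtype.ext ((hmem h).1 h.2).eq
  have h0 := ψ.2.one_ne_zero
  have hsq : (ψ : H → ℂ) ⟨t, htH⟩ * (ψ : H → ℂ) ⟨t, htH⟩ = (ψ : H → ℂ) 1 * (ψ : H → ℂ) 1 := by
    have e0 : (⟨t, htH⟩ : H) * ⟨t, htH⟩ = 1 := Subtype.ext ht2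
    rw [← central_mul ψ.2 hc ⟨t, htH⟩, e0]
  obtain ⟨e, he, heψ⟩ : ∃ e : ℤ, (e = 1 ∨ e = -1) ∧ (ψ : H → ℂ) ⟨t, htH⟩ = e * (ψ : H → ℂ) 1 := by
    rcases mul_self_eq_mul_self_iff.1 hsq with h | h
    · exact ⟨1, Or.inl rfl, by rw [h]; simp⟩
    · exact ⟨-1, Or.inr rfl, by rw [h]; simp⟩
  have hmul : ∀ c : H, (ψ : H → ℂ) (c * ⟨t, htH⟩) = e * (ψ : H → ℂ) c := by
    intro c
    apply mul_left_cancel₀ h0
    rw [central_mul ψ.2 hc c, heψ]; ring
  refine ⟨e * n, ?_⟩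
  rw [classInner_def] at hn ⊢
  have h1 : ∑ c : H, (χ : G → ℂ) (t * (c : G)) * conj ((ψ : H → ℂ) c) =
      ∑ c : H, (χ : G → ℂ) (c : G) * conj ((ψ : H → ℂ) (c * ⟨t, htH⟩)) := by
    refine Fintype.sum_equiv (Equiv.mulLeft (⟨t, htH⟩ : H)) _ _ fun c => ?_
    have e1 : ((Equiv.mulLeft (⟨t, htH⟩ : H)) c : H) = ⟨t, htH⟩ * c := rfl
    have e2 : (⟨t, htH⟩ : H) * c * ⟨t, htH⟩ = c := by
      rw [hc c, mul_assoc]
      have : (⟨t, htH⟩ : H) * ⟨t, htH⟩ = 1 := Subtype.ext ht2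
      rw [this, mul_one]
    rw [e1, e2]
    rfl
  rw [h1]
  have h2 : ∀ c : H, (χ : G → ℂ) (c : G) * conj ((ψ : H → ℂ) (c * ⟨t, htH⟩)) =
      e * ((χ : G → ℂ) (c : G) * conj ((ψ : H → ℂ) c)) := by
    intro c
    rw [hmul c, map_mul, map_intCast]; ring
  rw [Finset.sum_congr rfl fun c _ => h2 c, ← Finset.mul_sum]
  push_cast
  rw [← hn]
  ring

theorem exists_coef (hM : IsPModular p M) {k : ℕ} (ht : orderOf t = p ^ k) (ht2 : t * t = 1)
    (hmem : ∀ g, g ∈ H ↔ Commute t g) {χ : IrrCharacter G} (hχ : χ ∈ principalBlock M G) :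
    ∃ m : IrrCharacter H → ℤ, ∀ y : H, ¬ p ∣ orderOf y →
      (χ : G → ℂ) (t * (y : G)) = ∑ ψ ∈ PB M H, (m ψ : ℂ) * (ψ : H → ℂ) y := by
  classical
  have := Fintype.ofFinite H
  choose m hm using coef_int (H := H) hmem ht2 χ
  refine ⟨m, fun y hy => ?_⟩
  rw [← BlockSection.blockPart_principal_section hM ht hmem hy hχ, blockPart, ← finsum_PB]
  refine finsum_mem_congr rfl fun ψ _ => ?_
  rw [← hm ψ]
  congr 2
  apply Subsingleton.elim

theorem tri_int {X : Type u} [Group X] [Finite X] {ψ : X → ℂ} (hψ : IsCharacter X ψ) {y : X}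
    (hy : y ^ 3 = 1) {ζ : ℂ} (hζ : ζ ^ 3 = 1) :
    ∃ z : ℤ, ψ 1 + ζ ^ 2 * ψ y + ζ * ψ y⁻¹ = 3 * z := by
  obtain ⟨n, ρ, rfl⟩ := hψ
  obtain ⟨μ, hμ, hk⟩ := CharValues.exists_eigenvalues ρ y
  have hμ3 : ∀ i, μ i ^ 3 = 1 := by
    intro i
    obtain ⟨c, hc⟩ := orderOf_dvd_of_pow_eq_one hy
    rw [hc, pow_mul, hμ i, one_pow]
  have hy2 : y⁻¹ = y ^ 2 := by
    rw [inv_eq_iff_mul_eq_one, ← pow_succ', hy]
  have h0 := hk 0
  have h1 := hk 1
  have h2 := hk 2
  rw [pow_zero] at h0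
  rw [pow_one] at h1
  rw [hy2, h0, h1, h2, Finset.mul_sum, Finset.mul_sum, ← Finset.sum_add_distrib, ← Finset.sum_add_distrib]
  have key : ∀ i, ∃ z : ℤ, μ i ^ 0 + ζ ^ 2 * μ i ^ 1 + ζ * μ i ^ 2 = 3 * z := by
    intro i
    by_cases h : ζ ^ 2 * μ i = 1
    · refine ⟨1, ?_⟩
      have e : ζ * μ i ^ 2 = (ζ ^ 2 * μ i) ^ 2 := by
        linear_combination (-ζ * μ i ^ 2) * hζ
      rw [pow_one, e, h]; norm_num
    · refine ⟨0, ?_⟩
      have e : (ζ ^ 2 * μ i - 1) * (μ i ^ 0 + ζ ^ 2 * μ i ^ 1 + ζ * μ i ^ 2) = 0 := by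
        have e3 := hμ3 i
        linear_combination (ζ ^ 3) * e3 + (ζ * μ i ^ 2 + 1) * hζ
      rcases mul_eq_zero.1 e with h' | h'
      · exact absurd (sub_eq_zero.1 h') h
      · rw [h']; simp
  choose z hz using key
  refine ⟨∑ i, z i, ?_⟩
  push_cast
  rw [Finset.mul_sum]
  exact Finset.sum_congr rfl fun i _ => hz i

/-- integrality of the averaged values -/
theorem avg_int (hM : IsPModular p M) {k : ℕ} (ht : orderOf t = p ^ k) (ht2 : t * t = 1)
    (hmem : ∀ g, g ∈ H ↔ Commute t g) {χ : IrrCharacter G} (hχ : χ ∈ principalBlock M G)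
    {y : H} (hy : ¬ p ∣ orderOf y) (hy3 : y ^ 3 ∈ pPrimeCore p H) {ζ : ℂ} (hζ : ζ ^ 3 = 1) :
    ∃ z : ℤ, (χ : G → ℂ) t + ζ ^ 2 * (χ : G → ℂ) (t * y) + ζ * (χ : G → ℂ) (t * (y : G)⁻¹) = 3 * z := by
  obtain ⟨m, hm⟩ := exists_coef hM ht ht2 hmem hχ
  have e1 := hm 1 (by rw [orderOf_one, Nat.dvd_one]; exact hM.1.one_lt.ne')
  have e2 := hm y hy
  have e3 := hm y⁻¹ (by rwa [orderOf_inv])
  rw [OneMemClass.coe_one, mul_one] at e1
  rw [InvMemClass.coe_inv] at e3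
  rw [e1, e2, e3, Finset.mul_sum, Finset.mul_sum, ← Finset.sum_add_distrib, ← Finset.sum_add_distrib]
  have key : ∀ ψ : IrrCharacter H, ∃ z : ℤ, ψ ∈ PB M H →
      (m ψ : ℂ) * (ψ : H → ℂ) 1 + ζ ^ 2 * ((m ψ : ℂ) * (ψ : H → ℂ) y) +
        ζ * ((m ψ : ℂ) * (ψ : H → ℂ) y⁻¹) = 3 * z := by
    intro ψ
    by_cases hψ : ψ ∈ PB M H
    · obtain ⟨φ, -, hφ⟩ := BlockInfl.exists_deflate hM (pPrimeCore p H) (core_not_dvd hM) (mem_PB.1 hψ)
      obtain ⟨z, hz⟩ := tri_int φ.2.isCharacter (y := (y : H ⧸ pPrimeCore p H)) (by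
        rw [← QuotientGroup.mk_pow]
        exact (QuotientGroup.eq_one_iff _).2 hy3) hζ
      refine ⟨m ψ * z, fun _ => ?_⟩
      rw [hφ 1, hφ y, hφ y⁻¹]
      push_cast
      rw [QuotientGroup.mk_one, QuotientGroup.mk_inv]
      linear_combination (m ψ : ℂ) * hz
    · exact ⟨0, fun h => absurd h hψ⟩
  choose z hz using key
  refine ⟨∑ ψ ∈ PB M H, z ψ, ?_⟩
  push_cast
  rw [Finset.mul_sum]
  exact Finset.sum_congr rfl fun ψ hψ => hz ψ hψ

end Cfsg.Agent.Lib.H32E8a
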