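import Mathlib
import Cfsg.Agent.Lib.H32E8a
import Cfsg.Agent.Lib.H32E8b

/-!
# The principal 2-block cannot have automizer of order 21 at a solvable centralizer (helper32)
-/

set_option autoImplicit false
set_option linter.all false
set_option maxHeartbeats 400000

namespace Cfsg.Agent.Lib.H32E8c

open Cfsg Cfsg.Agent.Lib Cfsg.Agent.Lib.BlockRing Cfsg.Agent.Lib.BlockGA
open Cfsg.Agent.Lib.BlockIdem Cfsg.Agent.Lib.BlockThird Cfsg.Agent.Lib.BlockSecond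
open Cfsg.Agent.Lib.CharBasic Cfsg.Agent.Lib.BlockHomo
open scoped ComplexConjugate

universe u

variable {G : Type u} [Group G] [Finite G] {M : Ideal AlgInt} {t : G} {H : Subgroup G}

theorem exists_w : ∃ w : ℂ, w ^ 2 + w + 1 = 0 := by
  have h := Complex.isPrimitiveRoot_exp 3 (by norm_num)
  refine ⟨Complex.exp (2 * Real.pi * Complex.I / (3 : ℕ)), ?_⟩
  set w := Complex.exp (2 * Real.pi * Complex.I / (3 : ℕ)) with hw
  have h1 : w ^ 3 = 1 := h.pow_eq_one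
  have h2 : w ≠ 1 := h.ne_one (by norm_num)
  have h3 : (w - 1) * (w ^ 2 + w + 1) = 0 := by linear_combination h1
  rcases mul_eq_zero.1 h3 with h | h
  · exact absurd (sub_eq_zero.1 h) h2
  · exact h

/-- complex conjugation -/
noncomputable abbrev conjIrr' (χ : IrrCharacter G) : IrrCharacter G := Contrib2.conjIrr χ

theorem conj_ty (χ : IrrCharacter G) (ht2 : t * t = 1) {y : G} (hy : Commute t y) :
    conj ((χ : G → ℂ) (t * y)) = (χ : G → ℂ) (t * y⁻¹) := by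
  have ht : t⁻¹ = t := inv_eq_of_mul_eq_one_left ht2
  rw [← χ.2.inv, mul_inv_rev, ht]
  rw [hy.inv_right.eq]

theorem main_block (hM : IsPModular 2 M) (ht : orderOf t = 2)
    (hmem : ∀ g, g ∈ H ↔ Commute t g) [Group.IsSolvable H] (y : H) (hy : ¬ 2 ∣ orderOf y)
    (hy3 : y ^ 3 ∈ pPrimeCore 2 H) (h24 : Nat.card (H ⧸ pPrimeCore 2 H) = 24)
    (h6 : Nat.card (Subgroup.centralizer ({(y : H ⧸ pPrimeCore 2 H)} : Set (H ⧸ pPrimeCore 2 H))) = 6)
    (hreal : ¬ IsConj (y : H ⧸ pPrimeCore 2 H) ((y⁻¹ : H) : H ⧸ pPrimeCore 2 H))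
    (hy1 : (y : H ⧸ pPrimeCore 2 H) ≠ 1)
    (hprod : ∀ o ∈ pPrimeCore 2 H, ∀ a : G, ¬ IsConj (t * (a * t * a⁻¹)) (t * y * o)⁻¹)
    (hprod' : ∀ o ∈ pPrimeCore 2 H, ∀ a : G, ¬ IsConj (t * (a * t * a⁻¹)) (t * ((y⁻¹ : H) : G) * o)⁻¹)
    (hlin : ∀ χ : IrrCharacter G, (χ : G → ℂ) 1 = 1 → χ = triv G)
    (hS : ∀ χ : IrrCharacter G, ∃ m : ℕ, (χ : G → ℂ) 1 + 7 * (χ : G → ℂ) t = 8 * m) : False := by
  classical
  have hprime := isPrime hM
  have ht' : orderOf t = 2 ^ 1 := by rw [ht, pow_one]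
  have ht2 : t * t = 1 := by rw [← sq, ← ht, pow_orderOf_eq_one]
  have ht1 : t ≠ 1 := by rintro rfl; rw [orderOf_one] at ht; omega
  have h1r : ¬ 2 ∣ orderOf (1 : H) := by rw [orderOf_one]; norm_num
  have hy' : ¬ 2 ∣ orderOf y⁻¹ := by rwa [orderOf_inv]
  have hty : Commute t (y : G) := (hmem y).1 y.2
  have hmk1 : ((1 : H) : H ⧸ pPrimeCore 2 H) = 1 := rfl
  have hy1' : ((y⁻¹ : H) : H ⧸ pPrimeCore 2 H) ≠ 1 := by
    rw [QuotientGroup.mk_inv]; exact inv_ne_one.2 hy1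
  have hreal' : ¬ IsConj ((y⁻¹ : H) : H ⧸ pPrimeCore 2 H) (y : H ⧸ pPrimeCore 2 H) := fun h => hreal h.symm
  -- values
  obtain ⟨X, hX⟩ : ∃ X : IrrCharacter G → ℂ, ∀ χ, X χ = (χ : G → ℂ) t := ⟨_, fun _ => rfl⟩
  obtain ⟨V, hV⟩ : ∃ V : IrrCharacter G → ℂ, ∀ χ, V χ = (χ : G → ℂ) (t * y) := ⟨_, fun _ => rfl⟩
  obtain ⟨V', hV'⟩ : ∃ V' : IrrCharacter G → ℂ, ∀ χ, V' χ = (χ : G → ℂ) (t * ((y⁻¹ : H) : G)) :=
    ⟨_, fun _ => rfl⟩
  have cV : ∀ χ, conj (V χ) = V' χ := fun χ => by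
    rw [hV, hV', conj_ty χ ht2 hty, InvMemClass.coe_inv]
  have cV' : ∀ χ, conj (V' χ) = V χ := fun χ => by rw [← cV, Complex.conj_conj]
  have cX : ∀ χ, conj (X χ) = X χ := fun χ => by
    rw [hX]
    have := conj_ty χ ht2 (Commute.one_right t)
    rwa [inv_one, mul_one] at this
  -- column products
  have sXX : ∑ χ ∈ PB M G, X χ * X χ = 24 := by
    have h := H32E8a.sum_pair hM ht' hmem h1r h1r
    rw [if_pos (IsConj.refl _), hmk1] at h
    have hc : Nat.card (Subgroup.centralizer ({(1 : H ⧸ pPrimeCore 2 H)} : Set (H ⧸ pPrimeCore 2 H))) = 24 := by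
      rw [← h24]
      have : Subgroup.centralizer ({(1 : H ⧸ pPrimeCore 2 H)} : Set (H ⧸ pPrimeCore 2 H)) = ⊤ := by
        rw [eq_top_iff]; intro x _
        rw [Subgroup.mem_centralizer_singleton_iff]; simp
      rw [this]; exact Subgroup.card_top
    rw [hc] at h
    rw [show (24 : ℂ) = ((24 : ℕ) : ℂ) by norm_num, ← h]
    refine Finset.sum_congr rfl fun χ _ => ?_
    rw [OneMemClass.coe_one, mul_one, ← hX, cX]
  have sXV : ∑ χ ∈ PB M G, X χ * V χ = 0 := by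
    have h := H32E8a.sum_pair hM ht' hmem h1r hy'
    rw [if_neg (by rw [hmk1]; intro hc; exact hy1' (isConj_one_right.1 hc))] at h
    rw [← h]
    refine Finset.sum_congr rfl fun χ _ => ?_
    rw [OneMemClass.coe_one, mul_one, ← hX, ← hV', cV']
  have sXV' : ∑ χ ∈ PB M G, X χ * V' χ = 0 := by
    have h := H32E8a.sum_pair hM ht' hmem h1r hy
    rw [if_neg (by rw [hmk1]; intro hc; exact hy1 (isConj_one_right.1 hc))] at h
    rw [← h]
    refine Finset.sum_congr rfl fun χ _ => ?_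
    rw [OneMemClass.coe_one, mul_one, ← hX, ← hV, cV]
  have sVV' : ∑ χ ∈ PB M G, V χ * V' χ = 6 := by
    have h := H32E8a.sum_pair hM ht' hmem hy hy
    rw [if_pos (IsConj.refl _), h6] at h
    rw [show (6 : ℂ) = ((6 : ℕ) : ℂ) by norm_num, ← h]
    refine Finset.sum_congr rfl fun χ _ => ?_
    rw [← hV, cV]
  have sVV : ∑ χ ∈ PB M G, V χ * V χ = 0 := by
    have h := H32E8a.sum_pair hM ht' hmem hy hy'
    rw [if_neg hreal] at h
    rw [← h]
    refine Finset.sum_congr rfl fun χ _ => ?_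
    rw [← hV, ← hV', cV']
  have sV'V' : ∑ χ ∈ PB M G, V' χ * V' χ = 0 := by
    have h := H32E8a.sum_pair hM ht' hmem hy' hy
    rw [if_neg hreal'] at h
    rw [← h]
    refine Finset.sum_congr rfl fun χ _ => ?_
    rw [← hV, ← hV', cV]
  have dX : ∑ χ ∈ PB M G, X χ * (χ : G → ℂ) 1 = 0 := by
    have h := H32E8a.sum_deg hM ht' ht1 hmem h1r
    rw [← h]
    refine Finset.sum_congr rfl fun χ _ => ?_
    rw [hX, OneMemClass.coe_one, mul_one]
  have dV : ∑ χ ∈ PB M G, V χ * (χ : G → ℂ) 1 = 0 := by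
    have h := H32E8a.sum_deg hM ht' ht1 hmem hy
    rw [← h]
    refine Finset.sum_congr rfl fun χ _ => ?_
    rw [hV]
  have dV' : ∑ χ ∈ PB M G, V' χ * (χ : G → ℂ) 1 = 0 := by
    have h := H32E8a.sum_deg hM ht' ht1 hmem hy'
    rw [← h]
    refine Finset.sum_congr rfl fun χ _ => ?_
    rw [hV']
  have kV : ∑ χ ∈ PB M G, X χ * X χ * V χ / (χ : G → ℂ) 1 = 0 := by
    have h := H32E8a.sum_sq_y hM ht' hmem hy t hprod
    rw [← h]
    refine Finset.sum_congr rfl fun χ _ => ?_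
    rw [hX, hV]
  have kV' : ∑ χ ∈ PB M G, X χ * X χ * V' χ / (χ : G → ℂ) 1 = 0 := by
    have h := H32E8a.sum_sq_y hM ht' hmem hy' t hprod'
    rw [← h]
    refine Finset.sum_congr rfl fun χ _ => ?_
    rw [hX, hV']
  -- bilinear form
  have bil : ∀ a b c a' b' c' : ℂ, ∑ χ ∈ PB M G, (a * X χ + b * V χ + c * V' χ) *
      (a' * X χ + b' * V χ + c' * V' χ) = 24 * (a * a') + 6 * (b * c' + c * b') := by
    intro a b c a' b' c'
    have : ∀ χ ∈ PB M G, (a * X χ + b * V χ + c * V' χ) * (a' * X χ + b' * V χ + c' * V' χ) =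
        (a * a') * (X χ * X χ) + (a * b' + b * a') * (X χ * V χ) + (a * c' + c * a') * (X χ * V' χ) +
        (b * c' + c * b') * (V χ * V' χ) + (b * b') * (V χ * V χ) + (c * c') * (V' χ * V' χ) :=
      fun χ _ => by ring
    rw [Finset.sum_congr rfl this, Finset.sum_add_distrib, Finset.sum_add_distrib,
      Finset.sum_add_distrib, Finset.sum_add_distrib, Finset.sum_add_distrib, ← Finset.mul_sum,
      ← Finset.mul_sum, ← Finset.mul_sum, ← Finset.mul_sum, ← Finset.mul_sum, ← Finset.mul_sum,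
      sXX, sXV, sXV', sVV', sVV, sV'V']
    ring
  have lin1 : ∀ a b c : ℂ, ∑ χ ∈ PB M G, (a * X χ + b * V χ + c * V' χ) * (χ : G → ℂ) 1 = 0 := by
    intro a b c
    have : ∀ χ ∈ PB M G, (a * X χ + b * V χ + c * V' χ) * (χ : G → ℂ) 1 =
        a * (X χ * (χ : G → ℂ) 1) + b * (V χ * (χ : G → ℂ) 1) + c * (V' χ * (χ : G → ℂ) 1) :=
      fun χ _ => by ring
    rw [Finset.sum_congr rfl this, Finset.sum_add_distrib, Finset.sum_add_distrib, ← Finset.mul_sum,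
      ← Finset.mul_sum, ← Finset.mul_sum, dX, dV, dV']
    ring
  -- integrality
  obtain ⟨w, hw⟩ := exists_w
  have hw3 : w ^ 3 = 1 := by linear_combination (w - 1) * hw
  have hVe : ∀ χ : IrrCharacter G, (χ : G → ℂ) (t * (y : G)⁻¹) = V' χ := fun χ => by
    rw [hV', InvMemClass.coe_inv]
  have hint : ∀ ζ : ℂ, ζ ^ 3 = 1 → ∃ c : IrrCharacter G → ℤ, ∀ χ ∈ PB M G,
      1 * X χ + ζ ^ 2 * V χ + ζ * V' χ = 3 * (c χ : ℂ) := by
    intro ζ hζ
    have h1 : ∀ χ : IrrCharacter G, ∃ z : ℤ, χ ∈ PB M G →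
        1 * X χ + ζ ^ 2 * V χ + ζ * V' χ = 3 * (z : ℂ) := by
      intro χ
      by_cases hχ : χ ∈ PB M G
      · obtain ⟨z, hz⟩ := H32E8a.avg_int hM ht' ht2 hmem (mem_PB.1 hχ) hy hy3 hζ
        refine ⟨z, fun _ => ?_⟩
        rw [← hz, hVe, hX, hV, one_mul]
      · exact ⟨0, fun h => absurd h hχ⟩
    choose c hc using h1
    exact ⟨c, hc⟩
  obtain ⟨c0, hc0⟩ := hint 1 (one_pow 3)
  obtain ⟨c1, hc1⟩ := hint w hw3
  obtain ⟨c2, hc2⟩ := hint (w ^ 2) (by rw [← pow_mul, mul_comm, pow_mul, hw3, one_pow])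
  have cval : ∀ χ ∈ PB M G, ((c0 χ + c1 χ + c2 χ : ℤ) : ℂ) = X χ := by
    intro χ hχ
    have e0 := hc0 χ hχ
    have e1 := hc1 χ hχ
    have e2 := hc2 χ hχ
    push_cast
    have : (3 : ℂ) * (c0 χ + c1 χ + c2 χ) = 3 * X χ := by
      linear_combination (-1 : ℂ) * e0 - e1 - e2 + (V χ * (w ^ 2 - w + 1) + V' χ) * hw
    exact mul_left_cancel₀ (by norm_num) this
  have ip : ∀ (ζ ξ : ℂ) (c c' : IrrCharacter G → ℤ) (n : ℤ),
      (∀ χ ∈ PB M G, 1 * X χ + ζ ^ 2 * V χ + ζ * V' χ = 3 * (c χ : ℂ)) →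
      (∀ χ ∈ PB M G, 1 * X χ + ξ ^ 2 * V χ + ξ * V' χ = 3 * (c' χ : ℂ)) →
      (24 * (1 * 1) + 6 * (ζ ^ 2 * ξ + ζ * ξ ^ 2) : ℂ) = 9 * n →
      ∑ χ ∈ PB M G, c χ * c' χ = n := by
    intro ζ ξ c c' n h1 h2 h3
    have h4 := bil 1 (ζ ^ 2) ζ 1 (ξ ^ 2) ξ
    rw [Finset.sum_congr rfl (g := fun χ => 9 * ((c χ * c' χ : ℤ) : ℂ)) (fun χ hχ => by
      rw [h1 χ hχ, h2 χ hχ]; push_cast; ring), ← Finset.mul_sum, h3] at h4
    have h5 := mul_left_cancel₀ (by norm_num : (9 : ℂ) ≠ 0) h4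
    rw [← Int.cast_sum] at h5
    exact_mod_cast h5
  have dg : ∀ χ : IrrCharacter G, (χ : G → ℂ) 1 = (charDegree (χ : G → ℂ) : ℂ) := fun χ =>
    (BlockDefect.charDegree_spec χ.2).1
  have dz : ∀ (ζ : ℂ) (c : IrrCharacter G → ℤ),
      (∀ χ ∈ PB M G, 1 * X χ + ζ ^ 2 * V χ + ζ * V' χ = 3 * (c χ : ℂ)) →
      ∑ χ ∈ PB M G, c χ * (charDegree (χ : G → ℂ) : ℤ) = 0 := by
    intro ζ c h1
    have h4 := lin1 1 (ζ ^ 2) ζ
    rw [Finset.sum_congr rfl (g := fun χ => 3 * ((c χ * (charDegree (χ : G → ℂ) : ℤ) : ℤ) : ℂ))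
      (fun χ hχ => by
      rw [h1 χ hχ, dg]; push_cast; ring), ← Finset.mul_sum] at h4
    have h5 := (mul_eq_zero.1 h4).resolve_left (by norm_num)
    rw [← Int.cast_sum] at h5
    exact_mod_cast h5
  have hinj : ∀ {a b : ℤ}, (3 : ℂ) * a = 3 * b → a = b := fun h => by
    exact_mod_cast mul_left_cancel₀ (by norm_num : (3 : ℂ) ≠ 0) h
  have hbar : ∀ χ ∈ PB M G, conjIrr' χ ∈ PB M G := fun χ hχ => mem_PB.2 (Contrib2.conj_mem_principal (mem_PB.1 hχ))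
  have bX : ∀ χ, X (conjIrr' χ) = X χ := fun χ => by
    rw [hX, Contrib2.conjIrr_apply, ← hX, cX]
  have bV : ∀ χ, V (conjIrr' χ) = V' χ := fun χ => by
    rw [hV, Contrib2.conjIrr_apply, ← hV, cV]
  have bV' : ∀ χ, V' (conjIrr' χ) = V χ := fun χ => by
    rw [hV', Contrib2.conjIrr_apply, ← hV', cV']
  have htr : triv G ∈ PB M G := mem_PB.2 triv_mem
  have tX : X (triv G) = 1 := by rw [hX]; rfl
  have tV : V (triv G) = 1 := by rw [hV]; rfl
  have tV' : V' (triv G) = 1 := by rw [hV']; rfl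
  refine H32E8b.combi (PB M G) (triv G) htr (fun χ => charDegree (χ : G → ℂ)) ?_ ?_ ?_
    conjIrr' hbar ?_ c0 c1 c2 ?_ ?_ ?_ ?_ ?_ ?_ ?_ ?_ ?_ ?_ ?_ ?_ (dz _ _ hc0) (dz _ _ hc1) (dz _ _ hc2) ?_ ?_
  · intro χ _
    exact Nat.pos_of_ne_zero (BlockDefect.charDegree_spec χ.2).2
  · intro χ _ h
    apply hlin
    rw [dg, h, Nat.cast_one]
  · have := dg (triv G)
    rw [show ((triv G : IrrCharacter G) : G → ℂ) 1 = 1 from rfl] at this
    exact_mod_cast this.symm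
  · intro χ _
    have e1 := dg χ
    have e2 := dg (conjIrr' χ)
    rw [Contrib2.conjIrr_apply, e1, Complex.conj_natCast] at e2
    exact_mod_cast e2.symm
  · have := hc0 _ htr
    rw [tX, tV, tV'] at this
    apply hinj
    rw [← this]; norm_num
  · have := hc1 _ htr
    rw [tX, tV, tV'] at this
    apply hinj
    rw [← this]
    push_cast
    linear_combination hw
  · have := hc2 _ htr
    rw [tX, tV, tV'] at this
    apply hinj
    rw [← this]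
    push_cast
    linear_combination (w ^ 2 - w + 1) * hw
  · intro χ hχ
    apply hinj
    rw [← hc0 _ hχ, ← hc0 _ (hbar _ hχ), bX, bV, bV']
    ring
  · intro χ hχ
    apply hinj
    rw [← hc2 _ hχ, ← hc1 _ (hbar _ hχ), bX, bV, bV']
    linear_combination (-(w * V χ)) * hw3
  · intro χ hχ
    apply hinj
    rw [← hc1 _ hχ, ← hc2 _ (hbar _ hχ), bX, bV, bV']
    linear_combination (w * V' χ) * hw3
  · simp only [sq]
    exact ip _ _ _ _ 4 hc0 hc0 (by norm_num)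
  · simp only [sq]
    exact ip _ _ _ _ 4 hc1 hc1 (by push_cast; linear_combination (12 : ℂ) * hw3)
  · simp only [sq]
    exact ip _ _ _ _ 4 hc2 hc2 (by push_cast; linear_combination (12 * (w ^ 3 + 1) : ℂ) * hw3)
  · exact ip _ _ _ _ 2 hc0 hc1 (by push_cast; linear_combination (6 : ℂ) * hw)
  · exact ip _ _ _ _ 2 hc0 hc2 (by push_cast; linear_combination (6 : ℂ) * (w ^ 2 - w + 1) * hw)
  · exact ip _ _ _ _ 2 hc1 hc2 (by push_cast; linear_combination (6 * (w ^ 3 - w + 1) : ℂ) * hw)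
  · have key : ∀ (ζ : ℂ) (c : IrrCharacter G → ℤ),
        (∀ χ ∈ PB M G, 1 * X χ + ζ ^ 2 * V χ + ζ * V' χ = 3 * (c χ : ℂ)) →
        ((∑ χ ∈ PB M G, (((c0 χ + c1 χ + c2 χ) ^ 2 * c χ : ℤ) : ℚ) / (charDegree (χ : G → ℂ) : ℚ) : ℚ) : ℂ) =
          3⁻¹ * ∑ χ ∈ PB M G, X χ * X χ * X χ / (χ : G → ℂ) 1 := by
      intro ζ c h
      have e1 : ∀ χ ∈ PB M G, (((((c0 χ + c1 χ + c2 χ) ^ 2 * c χ : ℤ) : ℚ) /
          (charDegree (χ : G → ℂ) : ℚ) : ℚ) : ℂ) = 3⁻¹ * (X χ * X χ * X χ / (χ : G → ℂ) 1) +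
          3⁻¹ * ζ ^ 2 * (X χ * X χ * V χ / (χ : G → ℂ) 1) + 3⁻¹ * ζ * (X χ * X χ * V' χ / (χ : G → ℂ) 1) := by
        intro χ hχ
        have h1 := h χ hχ
        have h2 := cval χ hχ
        rw [dg]
        push_cast at h2 ⊢
        rw [h2]
        linear_combination (-(3 : ℂ)⁻¹ * X χ ^ 2 / (charDegree (χ : G → ℂ) : ℂ)) * h1
      rw [Rat.cast_sum, Finset.sum_congr rfl e1, Finset.sum_add_distrib, Finset.sum_add_distrib,
        ← Finset.mul_sum, ← Finset.mul_sum, ← Finset.mul_sum, kV, kV']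
      ring
    have k0 := key _ _ hc0
    have k1 := key _ _ hc1
    rw [← k1] at k0
    exact_mod_cast k0
  · intro χ hχ
    obtain ⟨m, hm⟩ := hS χ
    refine ⟨m, ?_⟩
    have h2 := cval χ hχ
    rw [dg, ← hX, ← h2] at hm
    exact_mod_cast hm

end Cfsg.Agent.Lib.H32E8c
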