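import Cfsg.Agent.S0105
import Cfsg.Agent.S0071
import Cfsg.Agent.Lib.SchurSylow
import Cfsg.Agent.Lib.StrongEmb

/-!
# Groups all of whose nonabelian subgroups are self-normalizing (helper81)
-/

set_option autoImplicit false
open Cfsg

namespace Cfsg.Agent.Lib.H81SelfNorm

open Subgroup
open scoped commutatorElement

universe u

/-- every nonabelian subgroup is self-normalizing -/
def SN (G : Type u) [Group G] : Prop :=
  ∀ H : Subgroup G, ¬ IsMulCommutative H → normalizer (H : Set G) = H

section tools

theorem comm_elem {G : Type*} [Group G] {K : Subgroup G} (hK : IsMulCommutative K) {a b : G}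
    (ha : a ∈ K) (hb : b ∈ K) : a * b = b * a :=
  congrArg Subtype.val (hK.is_comm.comm ⟨a, ha⟩ ⟨b, hb⟩)

theorem comm_of_elem {G : Type*} [Group G] {K : Subgroup G} (h : ∀ a ∈ K, ∀ b ∈ K, a * b = b * a) :
    IsMulCommutative K :=
  ⟨⟨fun a b => Subtype.ext (h a a.2 b b.2)⟩⟩

theorem comm_of_le {G : Type*} [Group G] {H K : Subgroup G} (h : H ≤ K) (hK : IsMulCommutative K) :
    IsMulCommutative H :=
  comm_of_elem fun _ ha _ hb => comm_elem hK (h ha) (h hb)

/-- an element of `p`-power order normalizing a Sylow `p`-subgroup lies in it. -/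
theorem mem_sylow_of_normalizer {G : Type*} [Group G] [Finite G] {p : ℕ} [Fact p.Prime] (S : Sylow p G)
    {x : G} {k : ℕ} (hx : x ^ p ^ k = 1) (hN : x ∈ normalizer ((S : Subgroup G) : Set G)) :
    x ∈ (S : Subgroup G) := by
  have hp : IsPGroup p (zpowers x) := by
    rintro ⟨y, n, rfl⟩
    refine ⟨k, Subtype.ext ?_⟩
    show (x ^ n) ^ p ^ k = 1
    rw [← zpow_natCast, ← zpow_mul, mul_comm, zpow_mul, zpow_natCast, hx, one_zpow]
  have h := hp.inf_normalizer_sylow S
  have h1 : x ∈ zpowers x ⊓ normalizer ((S : Subgroup G) : Set G) := ⟨mem_zpowers x, hN⟩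
  exact (h ▸ h1 : x ∈ zpowers x ⊓ (S : Subgroup G)).2

/-- With all Sylow subgroups abelian, `Z(X) ∩ X' = 1`. -/
theorem center_inf_commutator {X : Type*} [Group X] [Finite X]
    (h : ∀ (p : ℕ) [Fact p.Prime] (S : Sylow p X), IsMulCommutative (S : Subgroup X)) :
    center X ⊓ commutator X = ⊥ := by
  rw [eq_bot_iff]
  rintro z ⟨hz1, hz2⟩
  rw [mem_bot]
  by_contra hz
  have ho : orderOf z ≠ 1 := fun h => hz (orderOf_eq_one_iff.mp h)
  obtain ⟨r, hr, hrd⟩ := Nat.exists_prime_and_dvd ho
  have := Fact.mk hr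
  set w := z ^ (orderOf z / r) with hw
  have how : orderOf w = r := by
    rw [hw, orderOf_pow_of_dvd (by
      intro h0
      have := Nat.div_mul_cancel hrd
      rw [h0, zero_mul] at this
      exact (orderOf_pos z).ne this) (Nat.div_dvd_of_dvd hrd)]
    exact Nat.div_div_self hrd (orderOf_pos z).ne'
  have hwr : w ^ r ^ 1 = 1 := by
    rw [pow_one]
    have := pow_orderOf_eq_one w
    rwa [how] at this
  have hwc : w ∈ center X := pow_mem hz1 _
  have hw2 : w ∈ commutator X := pow_mem hz2 _
  let S : Sylow r X := default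
  have hwS : w ∈ (S : Subgroup X) := by
    apply mem_sylow_of_normalizer S hwr
    exact Subgroup.center_le_normalizer _ hwc
  have h1 := SchurSylow.mem_commutator_of_central r (S : Subgroup X) S.not_dvd_index hwc hw2 hwS hwr
  have h2 : ⁅(S : Subgroup X), (S : Subgroup X)⁆ = ⊥ := by
    rw [Subgroup.commutator_eq_bot_iff_le_centralizer]
    intro a ha
    rw [Subgroup.mem_centralizer_iff]
    intro b hb
    exact comm_elem (h r S) hb ha
  rw [h2, mem_bot] at h1
  rw [h1, orderOf_one] at how
  exact hr.ne_one how.symm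

/-- In a perfect group with an abelian Sylow subgroup `S` no nonidentity element of `S` is central
in `N(S)`. -/
theorem sylow_cent_normalizer {X : Type*} [Group X] [Finite X] (hperf : commutator X = ⊤) {p : ℕ}
    [Fact p.Prime] (S : Sylow p X) (hS : IsMulCommutative (S : Subgroup X)) {z : X}
    (hz : z ∈ (S : Subgroup X))
    (hzc : ∀ n ∈ normalizer ((S : Subgroup X) : Set X), n * z = z * n) : z = 1 := by
  obtain ⟨N, hN, ⟨e⟩⟩ := Cfsg.Agent.S0105.result S hS
  have h1 : commutator X ≤ N := by
    rw [commutator_def, Subgroup.commutator_le]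
    intro x _ y _
    rw [← QuotientGroup.eq_one_iff, ← QuotientGroup.mk'_apply, map_commutatorElement,
      commutatorElement_eq_one_iff_mul_comm]
    apply e.injective
    rw [map_mul, map_mul]
    apply Subtype.ext
    exact comm_elem hS (e (QuotientGroup.mk x)).2.1 (e (QuotientGroup.mk y)).2.1
  have h2 : N = ⊤ := top_le_iff.mp (hperf ▸ h1)
  have hsub : Subsingleton (X ⧸ N) := by
    rw [h2]; exact QuotientGroup.subsingleton_quotient_top
  have h3 : z ∈ ((S : Subgroup X) ⊓ centralizer (normalizer ((S : Subgroup X) : Set X) : Set X) : Subgroup X) := by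
    refine ⟨hz, ?_⟩
    show z ∈ centralizer _
    rw [Subgroup.mem_centralizer_iff]
    exact hzc
  have h4 : (⟨z, h3⟩ : ((S : Subgroup X) ⊓ centralizer (normalizer ((S : Subgroup X) : Set X) : Set X) : Subgroup X)) = 1 := by
    rw [← e.apply_symm_apply ⟨z, h3⟩, Subsingleton.elim (e.symm ⟨z, h3⟩) 1, map_one]
  exact congrArg Subtype.val h4

end tools

variable {G : Type u} [Group G]

theorem normal_comm (hSN : SN G) {X Y : Subgroup G} (hYX : Y ≤ X) (hn : X ≤ normalizer (Y : Set G)) :
    Y = X ∨ IsMulCommutative Y := by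
  by_cases h : IsMulCommutative Y
  · right; exact h
  · left
    apply le_antisymm hYX
    rw [hSN Y h] at hn
    exact hn

theorem le_normalizer_commutator (X : Subgroup G) : X ≤ normalizer ((⁅X, X⁆ : Subgroup G) : Set G) := by
  rw [← Subgroup.normal_subgroupOf_iff_le_normalizer (Subgroup.commutator_le_self X)]
  have h : (⁅X, X⁆ : Subgroup G).subgroupOf X = commutator X := by
    rw [← Subgroup.map_subtype_commutator, Subgroup.subgroupOf, Subgroup.comap_map_eq_self_of_injective X.subtype_injective]
  rw [h]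
  infer_instance

theorem perfect_of_not_solvable (hSN : SN G) {X : Subgroup G} (hX : ¬ Group.IsSolvable X) :
    ⁅X, X⁆ = X := by
  rcases normal_comm hSN (Subgroup.commutator_le_self X) (le_normalizer_commutator X) with h | h
  · exact h
  · exfalso
    apply hX
    have h1 : Group.IsSolvable (commutator X) := by
      apply isSolvable_of_comm
      rintro ⟨a, ha⟩ ⟨b, hb⟩
      · apply Subtype.ext
        apply Subtype.ext
        have ha' : (a : G) ∈ ⁅X, X⁆ := by
          rw [← Subgroup.map_subtype_commutator]; exact ⟨a, ha, rfl⟩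
        have hb' : (b : G) ∈ ⁅X, X⁆ := by
          rw [← Subgroup.map_subtype_commutator]; exact ⟨b, hb, rfl⟩
        exact comm_elem h ha' hb'
    have h3 : Group.IsSolvable (X ⧸ commutator X) := by
      have : Group.IsSolvable (Abelianization X) := inferInstance
      exact this
    exact Group.isSolvable_of_ker_le_range (commutator X).subtype (QuotientGroup.mk' (commutator X)) (by simp)


theorem le_normalizer_of {X M : Subgroup G} (h : ∀ x ∈ X, ∀ c ∈ M, x * c * x⁻¹ ∈ M) :
    X ≤ normalizer (M : Set G) := by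
  intro x hx
  rw [Subgroup.mem_normalizer_iff]
  intro c
  constructor
  · exact h x hx c
  · intro hc
    have h1 := h x⁻¹ (X.inv_mem hx) _ hc
    have h2 : x⁻¹ * (x * c * x⁻¹) * x⁻¹⁻¹ = c := by group
    rwa [h2] at h1

/-- in a nonsolvable subgroup abelian normal subgroups are central. -/
theorem le_centralizer_of_not_solvable [Finite G] (hSN : SN G) {X Q : Subgroup G}
    (hX : ¬ Group.IsSolvable X) (hQX : Q ≤ X) (hQ : IsMulCommutative Q)
    (hn : X ≤ normalizer (Q : Set G)) : X ≤ centralizer (Q : Set G) := by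
  classical
  let M : Subgroup G := X ⊓ centralizer (Q : Set G)
  have hMX : M ≤ X := inf_le_left
  have hMn0 : ∀ x ∈ X, ∀ c ∈ M, x * c * x⁻¹ ∈ M := by
    rintro x hx c ⟨hcX, hcQ⟩
    refine ⟨X.mul_mem (X.mul_mem hx hcX) (X.inv_mem hx), ?_⟩
    show _ ∈ centralizer (Q : Set G)
    replace hcQ : c ∈ centralizer (Q : Set G) := hcQ
    rw [Subgroup.mem_centralizer_iff] at hcQ ⊢
    intro y hy
    have h1 : x⁻¹ * y * x ∈ Q := by
      have h2 := (Subgroup.mem_normalizer_iff.mp (hn (X.inv_mem hx)) y).mp hy
      rwa [inv_inv] at h2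
    have h3 := hcQ _ h1
    calc y * (x * c * x⁻¹) = x * ((x⁻¹ * y * x) * c) * x⁻¹ := by group
      _ = x * (c * (x⁻¹ * y * x)) * x⁻¹ := by rw [h3]
      _ = x * c * x⁻¹ * y := by group
  have hMn := le_normalizer_of hMn0
  have hQM : Q ≤ M := by
    refine le_inf hQX ?_
    intro a ha
    rw [Subgroup.mem_centralizer_iff]
    intro b hb
    exact comm_elem hQ hb ha
  rcases normal_comm hSN hMX hMn with h | hMc
  · rw [← h]; exact inf_le_right
  exfalso
  have hperf := perfect_of_not_solvable hSN hX
  have hperf' : commutator X = ⊤ := by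
    have h1 := Subgroup.map_subtype_commutator X
    rw [hperf] at h1
    rw [eq_top_iff]
    intro x _
    have h3 : (x : G) ∈ (commutator X).map X.subtype := by rw [h1]; exact x.2
    obtain ⟨y, hy, hyx⟩ := h3
    have : y = x := Subtype.ext hyx
    rw [← this]; exact hy
  have hMnorm : (M.subgroupOf X).Normal := (Subgroup.normal_subgroupOf_iff_le_normalizer hMX).mpr hMn
  have hXM : ¬ X ≤ M := by
    intro h
    apply hX
    apply Group.isSolvable_of_comm
    intro a b
    exact Subtype.ext (comm_elem hMc (h a.2) (h b.2))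
  have hperfbar : commutator (X ⧸ M.subgroupOf X) = ⊤ := by
    have h1 := Subgroup.map_commutator ⊤ ⊤ (QuotientGroup.mk' (M.subgroupOf X))
    rw [Subgroup.map_top_of_surjective _ (QuotientGroup.mk'_surjective _), ← commutator_def,
      ← commutator_def, hperf', Subgroup.map_top_of_surjective _ (QuotientGroup.mk'_surjective _)] at h1
    exact h1.symm
  have hcard : Nat.card (X ⧸ M.subgroupOf X) ≠ 1 := by
    intro h
    apply hXM
    have h1 : (M.subgroupOf X).index = 1 := h
    rw [Subgroup.index_eq_one, Subgroup.subgroupOf_eq_top] at h1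
    exact h1
  obtain ⟨p, hp, hpd⟩ := Nat.exists_prime_and_dvd hcard
  have := Fact.mk hp
  let S : Sylow p (X ⧸ M.subgroupOf X) := default
  have hSb : (S : Subgroup (X ⧸ M.subgroupOf X)) ≠ ⊥ := by
    intro h
    have h1 := S.not_dvd_index
    rw [h, Subgroup.index_bot] at h1
    exact h1 hpd
  have : Nontrivial (S : Subgroup (X ⧸ M.subgroupOf X)) := (Subgroup.nontrivial_iff_ne_bot _).mpr hSb
  have hcn : Nontrivial (center (S : Subgroup (X ⧸ M.subgroupOf X))) := S.2.center_nontrivial
  obtain ⟨zc, hzc1⟩ := exists_ne (1 : center (S : Subgroup (X ⧸ M.subgroupOf X)))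
  set zb : X ⧸ M.subgroupOf X := ((zc : (S : Subgroup (X ⧸ M.subgroupOf X))) : X ⧸ M.subgroupOf X) with hzb
  have hzbS : zb ∈ (S : Subgroup (X ⧸ M.subgroupOf X)) := (zc : (S : Subgroup (X ⧸ M.subgroupOf X))).2
  have hzb1 : zb ≠ 1 := fun h => hzc1 (Subtype.ext (Subtype.ext h))
  have hzbc : ∀ s ∈ (S : Subgroup (X ⧸ M.subgroupOf X)), s * zb = zb * s := by
    intro s hs
    exact congrArg Subtype.val (Subgroup.mem_center_iff.mp zc.2 ⟨s, hs⟩)
  obtain ⟨z, hz⟩ := QuotientGroup.mk_surjective zb
  let H : Subgroup G := ((zpowers zb).comap (QuotientGroup.mk' (M.subgroupOf X))).map X.subtype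
  have hHmem : ∀ x : X, (x : G) ∈ H ↔ (QuotientGroup.mk x : X ⧸ M.subgroupOf X) ∈ zpowers zb := by
    intro x
    constructor
    · rintro ⟨y, hy, hyx⟩
      have : y = x := Subtype.ext hyx
      rw [← this]; exact hy
    · intro h
      exact ⟨x, h, rfl⟩
  have hHX : H ≤ X := Subgroup.map_subtype_le _
  have hzH : (z : G) ∈ H := (hHmem z).mpr (by rw [hz]; exact mem_zpowers zb)
  have hMH : M ≤ H := by
    intro m hm
    have h1 : (QuotientGroup.mk (⟨m, hMX hm⟩ : X) : X ⧸ M.subgroupOf X) = 1 := by
      rw [QuotientGroup.eq_one_iff]; exact hm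
    exact (hHmem ⟨m, hMX hm⟩).mpr (by rw [h1]; exact one_mem _)
  have hHna : ¬ IsMulCommutative H := by
    intro hH
    apply hzb1
    rw [← hz, QuotientGroup.eq_one_iff]
    refine ⟨z.2, ?_⟩
    show (z : G) ∈ centralizer (Q : Set G)
    rw [Subgroup.mem_centralizer_iff]
    intro y hy
    exact comm_elem hH (hMH (hQM hy)) hzH
  have hNH := hSN H hHna
  -- normalizing elements
  have key : ∀ n : X ⧸ M.subgroupOf X, (∀ y ∈ zpowers zb, n * y * n⁻¹ ∈ zpowers zb) → n ∈ zpowers zb := by
    intro n hn
    obtain ⟨x, rfl⟩ := QuotientGroup.mk_surjective n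
    rw [← hHmem, ← hNH, Subgroup.mem_normalizer_iff]
    have h1 : ∀ h ∈ H, (x : G) * h * (x : G)⁻¹ ∈ H := by
      intro h hh
      have h2 : (x : G) * h * (x : G)⁻¹ = ((x * ⟨h, hHX hh⟩ * x⁻¹ : X) : G) := rfl
      rw [h2, hHmem]
      exact hn _ ((hHmem ⟨h, hHX hh⟩).mp hh)
    -- finite: conjugation is bijective on H
    have h3 : H.map (MulAut.conj (x : G)).toMonoidHom = H := by
      apply Subgroup.eq_of_le_of_card_ge
      · rintro _ ⟨h, hh, rfl⟩
        exact h1 h hh
      · have h5 : Nat.card (H.map (MulAut.conj (x : G)).toMonoidHom) = Nat.card H :=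
          Subgroup.card_map_of_injective (MulAut.conj (x : G)).injective
        exact h5.ge
    intro h
    constructor
    · exact h1 h
    · intro hh
      have h4 : (x : G) * h * (x : G)⁻¹ ∈ H.map (MulAut.conj (x : G)).toMonoidHom := by rw [h3]; exact hh
      obtain ⟨h', hh', he⟩ := h4
      have : h' = h := (MulAut.conj (x : G)).injective he
      rw [← this]; exact hh'
  have hSz : (S : Subgroup (X ⧸ M.subgroupOf X)) ≤ zpowers zb := by
    intro s hs
    apply key
    rintro _ ⟨n, rfl⟩
    have h1 : Commute s (zb ^ n) := (show Commute s zb from hzbc s hs).zpow_right n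
    show s * zb ^ n * s⁻¹ ∈ _
    rw [h1.eq]
    have : zb ^ n * s * s⁻¹ = zb ^ n := by group
    rw [this]
    exact ⟨n, rfl⟩
  have hSeq : (S : Subgroup (X ⧸ M.subgroupOf X)) = zpowers zb :=
    le_antisymm hSz (by rw [zpowers_le]; exact hzbS)
  apply hzb1
  apply sylow_cent_normalizer hperfbar S
    (comm_of_elem fun a ha b hb => by
      obtain ⟨i, rfl⟩ := hSz ha
      obtain ⟨j, rfl⟩ := hSz hb
      exact (Commute.refl zb).zpow_zpow i j) hzbS
  intro n hn
  have h1 : n ∈ zpowers zb := by
    apply key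
    intro y hy
    rw [← hSeq] at hy ⊢
    exact (Subgroup.mem_normalizer_iff.mp hn y).mp hy
  obtain ⟨i, rfl⟩ := h1
  exact (Commute.refl zb).zpow_left i

/-- a solvable subgroup has an abelian maximal one containing the derived group. -/
theorem exists_max [Finite G] (hSN : SN G) {X : Subgroup G} (hX : Group.IsSolvable X)
    (hna : ¬ IsMulCommutative X) :
    ∃ M : Subgroup G, ⁅X, X⁆ ≤ M ∧ M < X ∧ IsMulCommutative M ∧ X ≤ normalizer (M : Set G) ∧
      ∀ y ∈ X, y ∉ M → M ⊔ zpowers y = X := by
  classical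
  have hne : Nontrivial X := by
    rw [Subgroup.nontrivial_iff_ne_bot]
    rintro rfl
    exact hna (comm_of_elem fun a ha b hb => by rw [mem_bot.mp ha, mem_bot.mp hb])
  have hlt : ⁅X, X⁆ < X := by
    refine lt_of_le_of_ne (Subgroup.commutator_le_self X) ?_
    intro h
    have h1 := Group.IsSolvable.commutator_lt_top_of_nontrivial (G := X)
    apply h1.ne
    have h2 := Subgroup.map_subtype_commutator X
    rw [h] at h2
    rw [eq_top_iff]
    intro x _
    have h3 : (x : G) ∈ (commutator X).map X.subtype := by rw [h2]; exact x.2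
    obtain ⟨y, hy, hyx⟩ := h3
    have : y = x := Subtype.ext hyx
    rw [← this]; exact hy
  have hfin : Set.Finite {M : Subgroup G | ⁅X, X⁆ ≤ M ∧ M < X} := Set.toFinite _
  obtain ⟨M, hM⟩ := hfin.exists_maximal ⟨⁅X, X⁆, le_rfl, hlt⟩
  obtain ⟨⟨hM1, hM2⟩, hM3⟩ := hM
  have hMn : X ≤ normalizer (M : Set G) := by
    apply le_normalizer_of
    intro x hx c hc
    have h1 : ⁅x, c⁆ ∈ M := hM1 (Subgroup.commutator_mem_commutator hx (hM2.le hc))
    have h2 : x * c * x⁻¹ = ⁅x, c⁆ * c := by rw [commutatorElement_def]; group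
    rw [h2]
    exact M.mul_mem h1 hc
  refine ⟨M, hM1, hM2, ?_, hMn, ?_⟩
  · rcases normal_comm hSN hM2.le hMn with h | h
    · exact absurd h hM2.ne
    · exact h
  · intro y hy hyM
    by_contra hne'
    have h1 : M ⊔ zpowers y ≤ X := sup_le hM2.le (by rw [zpowers_le]; exact hy)
    have h2 : M ⊔ zpowers y < X := lt_of_le_of_ne h1 hne'
    have h3 := hM3 ⟨hM1.trans le_sup_left, h2⟩ le_sup_left
    exact hyM (h3 (Subgroup.mem_sup_right (mem_zpowers y)))


theorem coprime_of_coset {X : Type*} [Group X] [Finite X] (M : Subgroup X) [M.Normal] {g : X}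
    (hgen : M ⊔ zpowers g = ⊤) : M.index ∣ orderOf g := by
  have h1 : ∀ x : X ⧸ M, x ∈ zpowers (QuotientGroup.mk g : X ⧸ M) := by
    intro x
    obtain ⟨y, rfl⟩ := QuotientGroup.mk_surjective x
    have hy : y ∈ M ⊔ zpowers g := by rw [hgen]; exact mem_top y
    rw [Subgroup.mem_sup_of_normal_left] at hy
    obtain ⟨m, hm, z, ⟨n, rfl⟩, rfl⟩ := hy
    refine ⟨n, ?_⟩
    show (QuotientGroup.mk g : X ⧸ M) ^ n = QuotientGroup.mk (m * g ^ n)
    rw [QuotientGroup.mk_mul, (QuotientGroup.eq_one_iff m).mpr hm, one_mul, QuotientGroup.mk_zpow]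
  have h2 : Nat.card (X ⧸ M) = orderOf (QuotientGroup.mk g : X ⧸ M) :=
    (orderOf_eq_card_of_forall_mem_zpowers h1).symm
  have h3 : M.index = Nat.card (X ⧸ M) := rfl
  rw [h3, h2]
  exact orderOf_map_dvd (QuotientGroup.mk' M) g

/-- elements of order prime to `p` in a `p`-subgroup. -/
theorem eq_one_of_coprime {G : Type*} [Group G] [Finite G] {p : ℕ} [Fact p.Prime] {Q : Subgroup G}
    (hQ : IsPGroup p Q) {g : G} (hg : g ∈ Q) (hc : Nat.Coprime (orderOf g) p) : g = 1 := by
  obtain ⟨k, hk⟩ := (IsPGroup.iff_orderOf.mp hQ) ⟨g, hg⟩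
  rw [Subgroup.orderOf_mk] at hk
  rw [hk] at hc
  have h1 : k = 0 := by
    by_contra hne
    have hp : p.Prime := Fact.out
    have : p ∣ p ^ k := dvd_pow_self p hne
    have h2 := Nat.Coprime.eq_one_of_dvd (Nat.Coprime.symm hc) this
    exact hp.ne_one h2
  rw [h1, pow_zero] at hk
  exact orderOf_eq_one_iff.mp hk

/-- the Sylow subgroups are abelian. -/
theorem sylow_comm {G : Type u} [Group G] [Finite G] [IsSimpleGroup G] (hG : ¬ IsMulCommutative G) (hSN : SN G)
    {p : ℕ} [hp : Fact p.Prime] (P : Sylow p G) : IsMulCommutative (P : Subgroup G) := by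
  classical
  by_contra hPna
  have hns : ¬ Group.IsSolvable G := by
    intro h
    apply hG
    exact ⟨⟨fun a b => IsSimpleGroup.comm_iff_isSolvable.mpr h a b⟩⟩
  -- no normal complement
  have hno : ¬ ∃ N : Subgroup G, N.Normal ∧ N.IsComplement' (P : Subgroup G) := by
    rintro ⟨N, hN, hNP⟩
    rcases hN.eq_bot_or_eq_top with h1 | h1
    · rw [h1] at hNP
      have h2 := Subgroup.isComplement'_bot_left.mp hNP
      apply hns
      have h3 : Group.IsSolvable (P : Subgroup G) := by
        have := P.2.isNilpotent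
        infer_instance
      rw [h2] at h3
      exact Group.isSolvable_of_surjective (f := (Subgroup.topEquiv (G := G)).toMonoidHom)
        (Subgroup.topEquiv (G := G)).surjective
    · rw [h1] at hNP
      have h2 := Subgroup.isComplement'_top_left.mp hNP
      apply hPna
      rw [h2]
      exact comm_of_elem fun a ha b hb => by rw [mem_bot.mp ha, mem_bot.mp hb]
  rw [Cfsg.Agent.S0071.result P] at hno
  push Not at hno
  obtain ⟨Q0, hQ0P, g0, hg0, hg0c, hg0n⟩ := hno
  -- choose a maximal one
  let 𝒮 : Set (Subgroup G) := {Q | IsPGroup p Q ∧ ∃ g ∈ normalizer (Q : Set G),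
    Nat.Coprime (orderOf g) p ∧ g ∉ centralizer (Q : Set G)}
  have h𝒮 : 𝒮.Nonempty := ⟨Q0, P.2.to_le hQ0P, g0, hg0, hg0c, hg0n⟩
  obtain ⟨Q, ⟨hQp, g, hgN, hgc, hgn⟩, hQmax⟩ := (Set.toFinite 𝒮).exists_maximal h𝒮
  set X := normalizer (Q : Set G) with hX
  have hQX : Q ≤ X := Subgroup.le_normalizer
  have hXna : ¬ IsMulCommutative X := by
    intro h
    apply hgn
    rw [Subgroup.mem_centralizer_iff]
    intro q hq
    exact comm_elem h (hQX hq) hgN
  have hQc : IsMulCommutative Q := by
    rcases normal_comm hSN hQX le_rfl with h | h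
    · exfalso
      apply hgn
      have h1 : g ∈ Q := by rw [h]; exact hgN
      rw [eq_one_of_coprime hQp h1 hgc]
      exact one_mem _
    · exact h
  by_cases hXs : Group.IsSolvable X
  · obtain ⟨M, hM1, hMX, hMc, hMn, hMgen⟩ := exists_max hSN hXs hXna
    have hMnorm : (M.subgroupOf X).Normal := (Subgroup.normal_subgroupOf_iff_le_normalizer hMX.le).mpr hMn
    -- generation inside X
    have hgen : ∀ y : X, (y : G) ∉ M → (M.subgroupOf X) ⊔ zpowers y = ⊤ := by
      intro y hy
      have h1 := hMgen y y.2 hy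
      apply Subgroup.map_injective X.subtype_injective
      rw [Subgroup.map_sup, Subgroup.map_subgroupOf_eq_of_le hMX.le, MonoidHom.map_zpowers,
        ← MonoidHom.range_eq_map, X.range_subtype]
      exact h1
    by_cases hQM : Q ≤ M
    · have hgM : g ∉ M := by
        intro h
        apply hgn
        rw [Subgroup.mem_centralizer_iff]
        intro q hq
        exact comm_elem hMc (hQM hq) h
      have hidx : (M.subgroupOf X).index ∣ orderOf g := by
        have := coprime_of_coset (M.subgroupOf X) (hgen ⟨g, hgN⟩ hgM)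
        rwa [Subgroup.orderOf_mk] at this
      have hidxp : Nat.Coprime (M.subgroupOf X).index p := Nat.Coprime.coprime_dvd_left hidx hgc
      -- p-elements of X lie in M
      have hpM : ∀ x ∈ X, ∀ k : ℕ, x ^ p ^ k = 1 → x ∈ M := by
        intro x hx k hk
        have h1 : (QuotientGroup.mk (⟨x, hx⟩ : X) : X ⧸ M.subgroupOf X) = 1 := by
          have h2 : orderOf (QuotientGroup.mk (⟨x, hx⟩ : X) : X ⧸ M.subgroupOf X) ∣ p ^ k := by
            apply orderOf_dvd_of_pow_eq_one
            rw [← QuotientGroup.mk_pow]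
            have : (⟨x, hx⟩ : X) ^ p ^ k = 1 := Subtype.ext hk
            rw [this, QuotientGroup.mk_one]
          have h3 : orderOf (QuotientGroup.mk (⟨x, hx⟩ : X) : X ⧸ M.subgroupOf X) ∣ (M.subgroupOf X).index :=
            orderOf_dvd_natCard _
          have h4 : Nat.Coprime (p ^ k) (M.subgroupOf X).index := Nat.Coprime.pow_left _ hidxp.symm
          exact orderOf_eq_one_iff.mp (Nat.eq_one_of_dvd_coprimes h4 h2 h3)
        rw [QuotientGroup.eq_one_iff] at h1
        exact h1
      let R : Subgroup G :=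
        { carrier := {x | x ∈ M ∧ ∃ k : ℕ, x ^ p ^ k = 1}
          one_mem' := ⟨M.one_mem, 0, one_pow _⟩
          mul_mem' := by
            rintro x y ⟨hx, k, hk⟩ ⟨hy, l, hl⟩
            refine ⟨M.mul_mem hx hy, k + l, ?_⟩
            have hcom : Commute x y := comm_elem hMc hx hy
            rw [hcom.mul_pow, pow_add, pow_mul, hk, one_pow, mul_comm (p ^ k), pow_mul, hl, one_pow,
              one_mul]
          inv_mem' := by
            rintro x ⟨hx, k, hk⟩
            exact ⟨M.inv_mem hx, k, by rw [inv_pow, hk, inv_one]⟩ }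
      have hRp : IsPGroup p R := by
        rintro ⟨x, hx, k, hk⟩
        exact ⟨k, Subtype.ext hk⟩
      have hQR : Q ≤ R := by
        intro q hq
        obtain ⟨k, hk⟩ := hQp ⟨q, hq⟩
        exact ⟨hQM hq, k, congrArg Subtype.val hk⟩
      have hRn : X ≤ normalizer (R : Set G) := by
        apply le_normalizer_of
        rintro x hx c ⟨hc, k, hk⟩
        refine ⟨(Subgroup.mem_normalizer_iff.mp (hMn hx) c).mp hc, k, ?_⟩
        have : x * c * x⁻¹ = MulAut.conj x c := rfl
        rw [this, ← map_pow, hk, map_one]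
      have hR𝒮 : R ∈ 𝒮 := by
        refine ⟨hRp, g, hRn hgN, hgc, ?_⟩
        intro h
        exact hgn (Subgroup.centralizer_le (show (Q : Set G) ⊆ R from hQR) h)
      have hRQ : R = Q := le_antisymm (hQmax hR𝒮 hQR) hQR
      -- Q is a Sylow subgroup
      have hsyl : ∀ S : Subgroup G, IsPGroup p S → Q ≤ S → S = Q := by
        intro S hS hQS
        apply StrongEmb.isSylow_of_normalizer (p := p) _ hS hQS
        intro R' hR' hQR' hR'n
        apply le_antisymm _ hQR'
        intro x hx
        obtain ⟨k, hk⟩ := hR' ⟨x, hx⟩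
        have hk' : x ^ p ^ k = 1 := congrArg Subtype.val hk
        rw [← hRQ]
        exact ⟨hpM x (hR'n hx) k hk', k, hk'⟩
      obtain ⟨S, hQS⟩ := hQp.exists_le_sylow
      have hSQ := hsyl S S.2 hQS
      obtain ⟨c, hc⟩ := MulAction.exists_smul_eq G S P
      apply hPna
      have hPe : (P : Subgroup G) = (S : Subgroup G).map (MulAut.conj c).toMonoidHom := by
        rw [← hc]; rfl
      rw [hPe, hSQ]
      apply comm_of_elem
      rintro _ ⟨a, ha, rfl⟩ _ ⟨b, hb, rfl⟩
      show MulAut.conj c a * MulAut.conj c b = MulAut.conj c b * MulAut.conj c a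
      rw [← map_mul, ← map_mul, comm_elem hQc ha hb]
    · -- Q is not contained in M
      obtain ⟨q, hqQ, hqM⟩ := Set.not_subset.mp hQM
      have hidx : (M.subgroupOf X).index ∣ orderOf q := by
        have := coprime_of_coset (M.subgroupOf X) (hgen ⟨q, hQX hqQ⟩ hqM)
        rwa [Subgroup.orderOf_mk] at this
      obtain ⟨k, hk⟩ := (IsPGroup.iff_orderOf.mp hQp) ⟨q, hqQ⟩
      rw [Subgroup.orderOf_mk] at hk
      have hgM : g ∈ M := by
        have h1 : (QuotientGroup.mk (⟨g, hgN⟩ : X) : X ⧸ M.subgroupOf X) = 1 := by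
          have h2 : orderOf (QuotientGroup.mk (⟨g, hgN⟩ : X) : X ⧸ M.subgroupOf X) ∣ orderOf g := by
            have := orderOf_map_dvd (QuotientGroup.mk' (M.subgroupOf X)) ⟨g, hgN⟩
            rwa [Subgroup.orderOf_mk] at this
          have h3 : orderOf (QuotientGroup.mk (⟨g, hgN⟩ : X) : X ⧸ M.subgroupOf X) ∣ p ^ k := by
            rw [← hk]
            exact (_root_.orderOf_dvd_natCard _).trans hidx
          have h4 : Nat.Coprime (orderOf g) (p ^ k) := Nat.Coprime.pow_right _ hgc
          exact orderOf_eq_one_iff.mp (Nat.eq_one_of_dvd_coprimes h4 h2 h3)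
        rw [QuotientGroup.eq_one_iff] at h1
        exact h1
      apply hgn
      rw [Subgroup.mem_centralizer_iff]
      intro s hs
      -- [g, s] is a p'-element of Q
      have h1 : s * g * s⁻¹ ∈ M := (Subgroup.mem_normalizer_iff.mp (hMn (hQX hs)) g).mp hgM
      set g' := (s * g * s⁻¹)⁻¹ with hg'
      have hg'M : g' ∈ M := M.inv_mem h1
      have hg'o : orderOf g' = orderOf g := by
        rw [hg', orderOf_inv]
        have : s * g * s⁻¹ = MulAut.conj s g := rfl
        rw [this, MulEquiv.orderOf_eq]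
      have hcom : Commute g g' := comm_elem hMc hgM hg'M
      have h2 : (g * g') ^ orderOf g = 1 := by
        rw [hcom.mul_pow, pow_orderOf_eq_one, one_mul, ← hg'o, pow_orderOf_eq_one]
      have h3 : g * g' ∈ Q := by
        have h4 : g * g' = (g * s * g⁻¹) * s⁻¹ := by rw [hg']; group
        rw [h4]
        exact Q.mul_mem ((Subgroup.mem_normalizer_iff.mp hgN s).mp hs) (Q.inv_mem hs)
      have h4 : g * g' = 1 := by
        apply eq_one_of_coprime hQp h3
        exact Nat.Coprime.coprime_dvd_left (orderOf_dvd_of_pow_eq_one h2) hgc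
      have h5 : g * s * g⁻¹ * s⁻¹ = 1 := by rw [← h4, hg']; group
      calc s * g = (g * s * g⁻¹ * s⁻¹)⁻¹ * (g * s) := by group
        _ = g * s := by rw [h5, inv_one, one_mul]
  · exact hgn (le_centralizer_of_not_solvable hSN hXs hQX hQc le_rfl hgN)


theorem mem_zpowers_of_cyclic {R : Type*} [Group R] [Finite R] (hR : IsCyclic R) {a b : R}
    (h : orderOf a = orderOf b) : b ∈ zpowers a := by
  classical
  have := Fintype.ofFinite R
  have h1 := IsCyclic.card_pow_eq_one_le (α := R) (n := orderOf a) (orderOf_pos a)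
  have h2 : (Finset.univ.filter (fun x : R => x ∈ zpowers a)) ⊆
      (Finset.univ.filter (fun x : R => x ^ orderOf a = 1)) := by
    intro x hx
    simp only [Finset.mem_filter, Finset.mem_univ, true_and] at hx ⊢
    obtain ⟨n, rfl⟩ := hx
    show (a ^ n) ^ orderOf a = 1
    rw [← zpow_natCast, ← zpow_mul, mul_comm, zpow_mul, zpow_natCast, pow_orderOf_eq_one, one_zpow]
  have h3 : (Finset.univ.filter (fun x : R => x ∈ zpowers a)).card = orderOf a := by
    rw [← Fintype.card_subtype, ← Nat.card_eq_fintype_card]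
    exact Nat.card_zpowers a
  have h4 := Finset.eq_of_subset_of_card_le h2 (by rw [h3]; exact h1)
  have h5 : b ∈ (Finset.univ.filter (fun x : R => x ^ orderOf a = 1)) := by
    simp only [Finset.mem_filter, Finset.mem_univ, true_and]
    rw [h]; exact pow_orderOf_eq_one b
  rw [← h4] at h5
  simpa using h5

/-- all centralizers of nonidentity elements are abelian. -/
theorem cent_comm {G : Type u} [Group G] [Finite G] [IsSimpleGroup G] (hG : ¬ IsMulCommutative G) (hSN : SN G)
    {x : G} (hx : x ≠ 1) : IsMulCommutative (centralizer ({x} : Set G)) := by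
  classical
  by_contra hna
  have hns : ¬ Group.IsSolvable G := by
    intro h
    apply hG
    exact ⟨⟨fun a b => IsSimpleGroup.comm_iff_isSolvable.mpr h a b⟩⟩
  have hperf : commutator G = ⊤ := by
    rcases (inferInstance : (commutator G).Normal).eq_bot_or_eq_top with h | h
    · exfalso
      apply hG
      have h1 := (_root_.commutator_eq_bot_iff_center_eq_top (G := G)).mp h
      exact ⟨⟨fun a b => (Subgroup.mem_center_iff.mp (show b ∈ center G by rw [h1]; exact mem_top b) a)⟩⟩
    · exact h
  -- an element of prime order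
  obtain ⟨r, hr, hrd⟩ := Nat.exists_prime_and_dvd (fun h => hx (orderOf_eq_one_iff.mp h) : orderOf x ≠ 1)
  have := Fact.mk hr
  obtain ⟨x0, hx0o, hx0z⟩ : ∃ x0 : G, orderOf x0 = r ∧ x0 ∈ zpowers x := by
    refine ⟨x ^ (orderOf x / r), ?_, npow_mem_zpowers _ _⟩
    rw [orderOf_pow_of_dvd (by
      intro h0
      have := Nat.div_mul_cancel hrd
      rw [h0, zero_mul] at this
      exact (orderOf_pos x).ne this) (Nat.div_dvd_of_dvd hrd)]
    exact Nat.div_div_self hrd (orderOf_pos x).ne'
  have hx01 : x0 ≠ 1 := by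
    rintro rfl
    rw [orderOf_one] at hx0o
    exact hr.ne_one hx0o.symm
  set X := centralizer ({x0} : Set G) with hX
  have hxX : centralizer ({x} : Set G) ≤ X := by
    intro c hc
    obtain ⟨n, rfl⟩ := hx0z
    rw [mem_centralizer_singleton_iff] at hc ⊢
    exact (show Commute c x from hc).zpow_right n
  have hXna : ¬ IsMulCommutative X := fun h => hna (comm_of_le hxX h)
  have hx0X : x0 ∈ X := mem_centralizer_singleton_iff.mpr rfl
  have hNX : normalizer ((zpowers x0 : Subgroup G) : Set G) ≤ X := by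
    have h1 := hSN X hXna
    rw [← h1]
    apply le_normalizer_of
    intro n hn c hc
    rw [hX, mem_centralizer_singleton_iff] at hc ⊢
    have h2 : n⁻¹ * x0 * n ∈ zpowers x0 := by
      have := (Subgroup.mem_normalizer_iff.mp (inv_mem hn) x0).mp (mem_zpowers x0)
      rwa [inv_inv] at this
    obtain ⟨i, hi⟩ := h2
    have h3 : c * (n⁻¹ * x0 * n) = (n⁻¹ * x0 * n) * c := by
      rw [← hi]
      exact (show Commute c x0 from hc).zpow_right i
    calc n * c * n⁻¹ * x0 = n * (c * (n⁻¹ * x0 * n)) * n⁻¹ := by group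
      _ = n * ((n⁻¹ * x0 * n) * c) * n⁻¹ := by rw [h3]
      _ = x0 * (n * c * n⁻¹) := by group
  -- Sylow subgroups of X
  have hsylX : ∀ (p : ℕ) [Fact p.Prime] (S : Sylow p X), IsMulCommutative (S : Subgroup X) := by
    intro p _ S
    have h1 : IsPGroup p ((S : Subgroup X).map X.subtype) := S.2.map X.subtype
    obtain ⟨P, hP⟩ := h1.exists_le_sylow
    have h2 := sylow_comm hG hSN P
    apply comm_of_elem
    intro a ha b hb
    apply Subtype.ext
    exact comm_elem h2 (hP ⟨a, ha, rfl⟩) (hP ⟨b, hb, rfl⟩)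
  have hZ := center_inf_commutator hsylX
  have hcentX : ∀ c : X, (∀ a ∈ X, a * (c : G) = c * a) → c ∈ commutator X → c = 1 := by
    intro c hc1 hc2
    have h1 : c ∈ center X ⊓ commutator X := by
      refine ⟨?_, hc2⟩
      show c ∈ center X
      rw [Subgroup.mem_center_iff]
      intro a
      exact Subtype.ext (hc1 a a.2)
    rw [hZ] at h1
    exact h1
  have hcomX : ∀ c : X, (c : G) ∈ ⁅X, X⁆ ↔ c ∈ commutator X := by
    intro c
    rw [← Subgroup.map_subtype_commutator]
    constructor
    · rintro ⟨y, hy, hyx⟩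
      have : y = c := Subtype.ext hyx
      rw [← this]; exact hy
    · intro h
      exact ⟨c, h, rfl⟩
  have hx0c : ∀ a ∈ X, a * x0 = x0 * a := fun a ha => mem_centralizer_singleton_iff.mp ha
  by_cases hXs : Group.IsSolvable X
  · obtain ⟨M, hM1, hMX, hMc, hMn, hMgen⟩ := exists_max hSN hXs hXna
    have hMnorm : (M.subgroupOf X).Normal := (Subgroup.normal_subgroupOf_iff_le_normalizer hMX.le).mpr hMn
    have hidx1 : (M.subgroupOf X).index ≠ 1 := by
      intro h
      rw [Subgroup.index_eq_one, Subgroup.subgroupOf_eq_top] at h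
      exact absurd (le_antisymm hMX.le h) hMX.ne
    obtain ⟨l, hl, hld⟩ := Nat.exists_prime_and_dvd hidx1
    have := Fact.mk hl
    let S : Sylow l X := default
    have hSM : ¬ (S : Subgroup X) ≤ M.subgroupOf X := by
      intro h
      exact S.not_dvd_index (hld.trans (Subgroup.index_dvd_of_le h))
    obtain ⟨y, hyS, hyM⟩ := Set.not_subset.mp hSM
    have hyM' : (y : G) ∉ M := fun h => hyM h
    have hXgen := hMgen y y.2 hyM'
    obtain ⟨k, hk⟩ := S.2 ⟨y, hyS⟩
    have hk' : y ^ l ^ k = 1 := congrArg Subtype.val hk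
    -- the subgroup X'⟨y⟩
    have hYX : ⁅X, X⁆ ⊔ zpowers (y : G) ≤ X :=
      sup_le (Subgroup.commutator_le_self X) (by rw [zpowers_le]; exact y.2)
    have hYn : X ≤ normalizer ((⁅X, X⁆ ⊔ zpowers (y : G) : Subgroup G) : Set G) := by
      apply le_normalizer_of
      intro a ha c hc
      have h1 : a * c * a⁻¹ = ⁅a, c⁆ * c := by rw [commutatorElement_def]; group
      rw [h1]
      exact mul_mem (Subgroup.mem_sup_left (Subgroup.commutator_mem_commutator ha (hYX hc))) hc
    rcases normal_comm hSN hYX hYn with hY | hY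
    · -- X = X'⟨y⟩
      -- the quotient is cyclic
      have hcyc : ∀ q : X ⧸ commutator X, q ∈ zpowers (QuotientGroup.mk y : X ⧸ commutator X) := by
        intro q
        obtain ⟨a, rfl⟩ := QuotientGroup.mk_surjective q
        have h1 : commutator X ⊔ zpowers y = ⊤ := by
          apply Subgroup.map_injective X.subtype_injective
          rw [Subgroup.map_sup, Subgroup.map_subtype_commutator, MonoidHom.map_zpowers,
            ← MonoidHom.range_eq_map, X.range_subtype]
          exact hY
        have ha : a ∈ commutator X ⊔ zpowers y := by rw [h1]; exact mem_top a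
        rw [Subgroup.mem_sup_of_normal_left] at ha
        obtain ⟨m, hm, z, ⟨n, rfl⟩, rfl⟩ := ha
        refine ⟨n, ?_⟩
        show (QuotientGroup.mk y : X ⧸ commutator X) ^ n = QuotientGroup.mk (m * y ^ n)
        rw [QuotientGroup.mk_mul, (QuotientGroup.eq_one_iff m).mpr hm, one_mul, QuotientGroup.mk_zpow]
      have hcyc' : IsCyclic (X ⧸ commutator X) := ⟨_, hcyc⟩
      have hordq : ∀ q : X ⧸ commutator X, orderOf q ∣ l ^ k := by
        intro q
        obtain ⟨n, rfl⟩ := hcyc q
        apply orderOf_dvd_of_pow_eq_one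
        have h1 : (QuotientGroup.mk y : X ⧸ commutator X) ^ l ^ k = 1 := by
          rw [← QuotientGroup.mk_pow, hk', QuotientGroup.mk_one]
        show ((QuotientGroup.mk y : X ⧸ commutator X) ^ n) ^ l ^ k = 1
        rw [← zpow_natCast, ← zpow_mul, mul_comm, zpow_mul, zpow_natCast, h1, one_zpow]
      -- r = l
      have hrl : r = l := by
        set xx : X := ⟨x0, hx0X⟩ with hxx
        have h1 : orderOf (QuotientGroup.mk xx : X ⧸ commutator X) ≠ 1 := by
          intro h
          rw [orderOf_eq_one_iff, QuotientGroup.eq_one_iff] at h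
          exact hx01 (congrArg Subtype.val (hcentX xx hx0c h))
        have h2 : orderOf (QuotientGroup.mk xx : X ⧸ commutator X) ∣ r := by
          have h3 := orderOf_map_dvd (QuotientGroup.mk' (commutator X)) xx
          rw [hxx, Subgroup.orderOf_mk, hx0o] at h3
          exact h3
        have h3 : orderOf (QuotientGroup.mk xx : X ⧸ commutator X) = r :=
          (Nat.dvd_prime hr).mp h2 |>.resolve_left h1
        have h4 := hordq (QuotientGroup.mk xx)
        rw [h3] at h4
        exact (Nat.prime_dvd_prime_iff_eq hr hl).mp (hr.dvd_of_dvd_pow h4)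
      subst hrl
      have h1 : IsPGroup r ((S : Subgroup X).map X.subtype) := S.2.map X.subtype
      obtain ⟨P, hP⟩ := h1.exists_le_sylow
      have hPc := sylow_comm hG hSN P
      -- x0 lies in S
      have hx0S : (⟨x0, hx0X⟩ : X) ∈ (S : Subgroup X) := by
        apply mem_sylow_of_normalizer S (k := 1)
        · rw [pow_one]
          have h2 := pow_orderOf_eq_one x0
          rw [hx0o] at h2
          exact Subtype.ext h2
        · apply Subgroup.center_le_normalizer
          rw [Subgroup.mem_center_iff]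
          intro a
          exact Subtype.ext (hx0c a a.2)
      have hx0P : x0 ∈ (P : Subgroup G) := hP ⟨⟨x0, hx0X⟩, hx0S, rfl⟩
      have hPX : (P : Subgroup G) ≤ X := by
        intro a ha
        rw [hX, mem_centralizer_singleton_iff]
        exact comm_elem hPc ha hx0P
      have hyP : (y : G) ∈ (P : Subgroup G) := hP ⟨y, hyS, rfl⟩
      -- P is cyclic
      let f : (P : Subgroup G) →* X ⧸ commutator X :=
        (QuotientGroup.mk' (commutator X)).comp (Subgroup.inclusion hPX)
      have hf : Function.Injective f := by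
        rw [← MonoidHom.ker_eq_bot_iff, eq_bot_iff]
        intro c hc
        have h2 : (Subgroup.inclusion hPX c) ∈ commutator X := by
          rw [← QuotientGroup.eq_one_iff]; exact hc
        have h3 : ((Subgroup.inclusion hPX c : X) : G) ∈ M := hM1 ((hcomX _).mpr h2)
        have h4 : X ≤ centralizer ({(c : G)} : Set G) := by
          rw [← hXgen, sup_le_iff, zpowers_le]
          refine ⟨?_, ?_⟩
          · intro m hm
            rw [mem_centralizer_singleton_iff]
            exact comm_elem hMc hm h3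
          · rw [mem_centralizer_singleton_iff]
            exact comm_elem hPc hyP c.2
        have h5 := hcentX (Subgroup.inclusion hPX c)
          (fun a ha => mem_centralizer_singleton_iff.mp (h4 ha)) h2
        rw [mem_bot]
        exact Subgroup.inclusion_injective hPX (by rw [h5, map_one])
      have hPcyc : IsCyclic (P : Subgroup G) := isCyclic_of_injective f hf
      apply hx01
      apply sylow_cent_normalizer hperf P hPc hx0P
      intro n hn
      have h2 : n ∈ normalizer ((zpowers x0 : Subgroup G) : Set G) := by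
        have h3 : ∀ m ∈ normalizer ((P : Subgroup G) : Set G), m * x0 * m⁻¹ ∈ zpowers x0 := by
          intro m hm
          have h4 : m * x0 * m⁻¹ ∈ (P : Subgroup G) := (Subgroup.mem_normalizer_iff.mp hm x0).mp hx0P
          have h5 : orderOf (⟨x0, hx0P⟩ : (P : Subgroup G)) = orderOf (⟨m * x0 * m⁻¹, h4⟩ : (P : Subgroup G)) := by
            rw [Subgroup.orderOf_mk, Subgroup.orderOf_mk]
            have : m * x0 * m⁻¹ = MulAut.conj m x0 := rfl
            rw [this, MulEquiv.orderOf_eq]
          obtain ⟨i, hi⟩ := mem_zpowers_of_cyclic hPcyc h5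
          exact ⟨i, congrArg Subtype.val hi⟩
        apply le_normalizer_of (X := normalizer ((P : Subgroup G) : Set G)) _ hn
        rintro m hm _ ⟨i, rfl⟩
        obtain ⟨j, hj⟩ := h3 m hm
        refine ⟨j * i, ?_⟩
        show x0 ^ (j * i) = m * x0 ^ i * m⁻¹
        have h6 : x0 ^ j = m * x0 * m⁻¹ := hj
        rw [zpow_mul, h6, conj_zpow]
      exact mem_centralizer_singleton_iff.mp (hNX h2)
    · -- X' central
      apply hXna
      have h1 : commutator X = ⊥ := by
        rw [eq_bot_iff]
        intro c hc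
        rw [mem_bot]
        apply hcentX c _ hc
        have hc' := (hcomX c).mpr hc
        have h4 : M ⊔ zpowers (y : G) ≤ centralizer ({(c : G)} : Set G) := by
          rw [sup_le_iff, zpowers_le]
          refine ⟨?_, ?_⟩
          · intro m hm
            rw [mem_centralizer_singleton_iff]
            exact comm_elem hMc hm (hM1 hc')
          · rw [mem_centralizer_singleton_iff]
            exact comm_elem hY (Subgroup.mem_sup_right (mem_zpowers _)) (Subgroup.mem_sup_left hc')
        rw [hXgen] at h4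
        exact fun a ha => mem_centralizer_singleton_iff.mp (h4 ha)
      have h2 := (_root_.commutator_eq_bot_iff_center_eq_top (G := X)).mp h1
      exact ⟨⟨fun a b => (Subgroup.mem_center_iff.mp (show b ∈ center X by rw [h2]; exact mem_top b) a)⟩⟩
  · have h1 := perfect_of_not_solvable hSN hXs
    apply hx01
    have h2 := hcentX ⟨x0, hx0X⟩ hx0c ((hcomX _).mp (by rw [h1]; exact hx0X))
    exact congrArg Subtype.val h2

end Cfsg.Agent.Lib.H81SelfNorm
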