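import Mathlib
import Cfsg.Agent.Lib.H32E8c
import Cfsg.Agent.Lib.H32E8d
import Cfsg.Agent.Lib.H76Char
import Cfsg.Agent.Lib.BRCore
import Cfsg.Agent.Lib.H81SelfNorm

/-!
# Local data for the centralizer of an involution (helper32)
-/

set_option autoImplicit false
set_option linter.all false
set_option maxHeartbeats 400000

namespace Cfsg.Agent.Lib.H32E8e

open Cfsg Cfsg.Agent.Lib Subgroup
open Cfsg.Agent.Lib.BlockSecond

universe u

section local_

variable {H : Type u} [Group H] [Finite H]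

theorem local_data [Group.IsSolvable H] (P : Sylow 2 H)
    (hPc : ∀ a ∈ (P : Subgroup H), ∀ b ∈ (P : Subgroup H), a * b = b * a)
    (h8 : Nat.card (P : Subgroup H) = 8) {t : H} (htP : t ∈ (P : Subgroup H)) (ht : orderOf t = 2)
    (htc : ∀ x, x * t = t * x) {y : H} (hyo : Odd (orderOf y)) (hyN : y ∈ normalizer ((P : Subgroup H) : Set H))
    {s : H} (hs : s ∈ (P : Subgroup H)) (hys : y * s ≠ s * y) :
    Nat.card (H ⧸ pPrimeCore 2 H) = 24 ∧
      Nat.card (centralizer ({(y : H ⧸ pPrimeCore 2 H)} : Set (H ⧸ pPrimeCore 2 H))) = 6 ∧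
      y ^ 3 ∈ pPrimeCore 2 H ∧ ¬ IsConj (y : H ⧸ pPrimeCore 2 H) ((y⁻¹ : H) : H ⧸ pPrimeCore 2 H) ∧
      ∃ T : Subgroup (H ⧸ pPrimeCore 2 H), (y : H ⧸ pPrimeCore 2 H) ∉ T ∧ ∀ u, u * u = 1 → u ∈ T := by
  classical
  set O := pPrimeCore 2 H with hO
  have hcop : (Nat.card O).Coprime 2 := Cores.coprime_card_pPrimeCore 2 H
  have hinf : ∀ x, x ∈ (P : Subgroup H) → x ∈ O → x = 1 := by
    intro x hx hxO
    have h1 : orderOf x ∣ 8 := by
      rw [← h8]
      have := orderOf_dvd_natCard (⟨x, hx⟩ : (P : Subgroup H))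
      rwa [Subgroup.orderOf_mk] at this
    have h2 : orderOf x ∣ Nat.card O := by
      have := orderOf_dvd_natCard (⟨x, hxO⟩ : O)
      rwa [Subgroup.orderOf_mk] at this
    have h3 : (Nat.card O).Coprime 8 := by
      rw [show (8 : ℕ) = 2 ^ 3 by norm_num]; exact hcop.pow_right 3
    have h4 := Nat.eq_one_of_dvd_coprimes h3 h2 h1
    exact orderOf_eq_one_iff.1 h4
  have hsurj : Function.Surjective (QuotientGroup.mk' O) := QuotientGroup.mk'_surjective O
  obtain ⟨Pb, hPb⟩ : ∃ Pb : Sylow 2 (H ⧸ O), (Pb : Subgroup (H ⧸ O)) = (P : Subgroup H).map (QuotientGroup.mk' O) :=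
    ⟨P.mapSurjective hsurj, rfl⟩
  have hinj : Function.Injective ((QuotientGroup.mk' O).comp (P : Subgroup H).subtype) := by
    rw [injective_iff_map_eq_one]
    intro x hx
    have h1 : (x : H) ∈ O := by
      rw [← QuotientGroup.eq_one_iff]; exact hx
    exact Subtype.ext (hinf x x.2 h1)
  have hcard : Nat.card (Pb : Subgroup (H ⧸ O)) = 8 := by
    rw [hPb, ← h8]
    have h1 : (P : Subgroup H).map (QuotientGroup.mk' O) = ((QuotientGroup.mk' O).comp (P : Subgroup H).subtype).range := by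
      rw [MonoidHom.range_comp, range_subtype]
    rw [h1]
    exact (Nat.card_congr (MonoidHom.ofInjective hinj).toEquiv).symm
  have hcomm : ∀ a ∈ (Pb : Subgroup (H ⧸ O)), ∀ b ∈ (Pb : Subgroup (H ⧸ O)), a * b = b * a := by
    rw [hPb]
    rintro _ ⟨a, ha, rfl⟩ _ ⟨b, hb, rfl⟩
    rw [← map_mul, ← map_mul, hPc a ha b hb]
  have ht1 : t ≠ 1 := by rintro rfl; rw [orderOf_one] at ht; omega
  obtain ⟨h1, h2, h3, h4, h5, h6, h7⟩ := H32E8d.quot_data (X := H ⧸ O)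
    (Cores.pPrimeCore_quotient_pPrimeCore 2 H) Pb hcomm hcard (t := (t : H ⧸ O))
    (by rw [hPb]; exact ⟨t, htP, rfl⟩) (by
      intro h
      exact ht1 (hinf t htP ((QuotientGroup.eq_one_iff t).1 h))) (by
      intro x
      obtain ⟨x, rfl⟩ := QuotientGroup.mk_surjective x
      rw [← QuotientGroup.mk_mul, ← QuotientGroup.mk_mul, htc]) (y := (y : H ⧸ O)) (by
      have : orderOf (y : H ⧸ O) ∣ orderOf y := orderOf_map_dvd (QuotientGroup.mk' O) y
      exact hyo.of_dvd_nat this) (s := (s : H ⧸ O)) (by rw [hPb]; exact ⟨s, hs, rfl⟩) (by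
      intro h
      apply hys
      have h1 : y * s * y⁻¹ * s⁻¹ ∈ (P : Subgroup H) :=
        mul_mem ((mem_normalizer_iff.1 hyN s).1 hs) (inv_mem hs)
      have h2 : y * s * y⁻¹ * s⁻¹ ∈ O := by
        rw [← QuotientGroup.eq_one_iff]
        rw [QuotientGroup.mk_mul, QuotientGroup.mk_mul, QuotientGroup.mk_mul, h, QuotientGroup.mk_inv,
          QuotientGroup.mk_inv]
        group
      have h3 := hinf _ h1 h2
      rw [mul_inv_eq_one, mul_inv_eq_iff_eq_mul] at h3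
      exact h3)
  refine ⟨h2, h3, ?_, ?_, Pb, h5, h7⟩
  · rw [← QuotientGroup.eq_one_iff, QuotientGroup.mk_pow]; exact h4
  · rw [QuotientGroup.mk_inv]; exact h6

end local_

section prod

variable {G : Type u} [Group G] [Finite G] {t : G} {H : Subgroup G}

theorem prodcond (hmem : ∀ g, g ∈ H ↔ Commute t g) (ht : orderOf t = 2) (y : H) (hyo : Odd (orderOf y))
    (T : Subgroup (H ⧸ pPrimeCore 2 H)) (hyT : (y : H ⧸ pPrimeCore 2 H) ∉ T)
    (hT : ∀ u, u * u = 1 → u ∈ T) :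
    ∀ o ∈ pPrimeCore 2 H, ∀ a : G, ¬ IsConj (t * (a * t * a⁻¹)) (t * y * o)⁻¹ := by
  intro o ho a hc
  have ht2 : t * t = 1 := by rw [← sq, ← ht, pow_orderOf_eq_one]
  have htH : t ∈ H := (hmem t).2 rfl
  obtain ⟨b, hb⟩ := isConj_iff.1 hc
  obtain ⟨r, hr⟩ : ∃ r, r = b * t * b⁻¹ := ⟨_, rfl⟩
  obtain ⟨s, hs⟩ : ∃ s, s = b * (a * t * a⁻¹) * b⁻¹ := ⟨_, rfl⟩
  have hr2 : r * r = 1 := by
    rw [hr]; calc b * t * b⁻¹ * (b * t * b⁻¹) = b * (t * t) * b⁻¹ := by group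
      _ = 1 := by rw [ht2]; group
  have hs2 : s * s = 1 := by
    rw [hs]; calc b * (a * t * a⁻¹) * b⁻¹ * (b * (a * t * a⁻¹) * b⁻¹) = b * (a * (t * t) * a⁻¹) * b⁻¹ := by group
      _ = 1 := by rw [ht2]; group
  have hrs : r * s = (t * y * o)⁻¹ := by
    rw [← hb, hr, hs]; group
  have hri : r⁻¹ = r := inv_eq_of_mul_eq_one_left hr2
  have hsi : s⁻¹ = s := inv_eq_of_mul_eq_one_left hs2
  have hg : t * y * o = s * r := by
    rw [← inv_inv (t * y * o), ← hrs, mul_inv_rev, hri, hsi]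
  have hinv : r * (t * ((y * o : H) : G)) * r⁻¹ = (t * ((y * o : H) : G))⁻¹ := by
    rw [Subgroup.coe_mul, ← mul_assoc t, hg, mul_inv_rev, hri, hsi, mul_assoc, mul_assoc, hr2, mul_one]
  have hyo' : ¬ 2 ∣ orderOf ((y * o : H) : G) := by
    rw [Subgroup.orderOf_coe]
    intro h2
    have h3 : (y * o) ^ orderOf y ∈ pPrimeCore 2 H := by
      rw [← QuotientGroup.eq_one_iff, QuotientGroup.mk_pow, QuotientGroup.mk_mul,
        (QuotientGroup.eq_one_iff o).2 ho, mul_one, ← QuotientGroup.mk_pow, pow_orderOf_eq_one]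
      rfl
    have h4 : ((y * o) ^ orderOf y) ^ Nat.card (pPrimeCore 2 H) = 1 := by
      have := pow_card_eq_one' (x := (⟨(y * o) ^ orderOf y, h3⟩ : pPrimeCore 2 H))
      exact congrArg Subtype.val this
    rw [← pow_mul] at h4
    have h5 := h2.trans (orderOf_dvd_of_pow_eq_one h4)
    rcases (Nat.Prime.dvd_mul Nat.prime_two).1 h5 with h6 | h6
    · exact (Nat.not_even_iff_odd.2 hyo) (even_iff_two_dvd.2 h6)
    · have h7 := Cores.coprime_card_pPrimeCore 2 H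
      exact (Nat.Prime.coprime_iff_not_dvd Nat.prime_two).1 h7.symm h6
  have hcyo : Commute t ((y * o : H) : G) := (hmem _).1 (y * o).2
  have h1 := eq_of_comm_of_orders Nat.prime_two (x := r * t * r⁻¹) (y := r * ((y * o : H) : G) * r⁻¹)
    (x' := t⁻¹) (y' := (((y * o : H) : G))⁻¹) (hcyo.map (MulAut.conj r).toMonoidHom)
    (hcyo.inv_left.inv_right) (by
      rw [← mul_inv_rev, ← hcyo.eq, ← hinv]; group) (k := 1) (k' := 1)
    (by rw [BlockThird.orderOf_conj, ht, pow_one]) (by rw [orderOf_inv, ht, pow_one])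
    (by rw [BlockThird.orderOf_conj]; exact hyo') (by rw [orderOf_inv]; exact hyo')
  have hti : t⁻¹ = t := inv_eq_of_mul_eq_one_left ht2
  have hrH : r ∈ H := by
    rw [hmem]
    have := h1.1
    rw [hti, mul_inv_eq_iff_eq_mul] at this
    exact this.symm
  have hgH : t * y * o ∈ H := mul_mem (mul_mem htH y.2) o.2
  have hsH : s ∈ H := by
    have : s = (t * y * o) * r⁻¹ := by rw [hg]; group
    rw [this]; exact mul_mem hgH (inv_mem hrH)
  have e1 : ((⟨r, hrH⟩ : H) : H ⧸ pPrimeCore 2 H) ∈ T := hT _ (by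
    rw [← QuotientGroup.mk_mul, QuotientGroup.eq_one_iff]
    have : (⟨r, hrH⟩ : H) * ⟨r, hrH⟩ = 1 := Subtype.ext hr2
    rw [this]; exact one_mem _)
  have e2 : ((⟨s, hsH⟩ : H) : H ⧸ pPrimeCore 2 H) ∈ T := hT _ (by
    rw [← QuotientGroup.mk_mul, QuotientGroup.eq_one_iff]
    have : (⟨s, hsH⟩ : H) * ⟨s, hsH⟩ = 1 := Subtype.ext hs2
    rw [this]; exact one_mem _)
  have e3 : ((⟨t, htH⟩ : H) : H ⧸ pPrimeCore 2 H) ∈ T := hT _ (by
    rw [← QuotientGroup.mk_mul, QuotientGroup.eq_one_iff]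
    have : (⟨t, htH⟩ : H) * ⟨t, htH⟩ = 1 := Subtype.ext ht2
    rw [this]; exact one_mem _)
  apply hyT
  have e4 : (⟨t, htH⟩ : H) * y * o = ⟨s, hsH⟩ * ⟨r, hrH⟩ := Subtype.ext hg
  have e5 : (y : H ⧸ pPrimeCore 2 H) = ((⟨t, htH⟩ : H) : H ⧸ pPrimeCore 2 H)⁻¹ *
      (((⟨s, hsH⟩ : H) : H ⧸ pPrimeCore 2 H) * ((⟨r, hrH⟩ : H) : H ⧸ pPrimeCore 2 H)) := by
    rw [← QuotientGroup.mk_mul (pPrimeCore 2 H) ⟨s, hsH⟩, ← e4, QuotientGroup.mk_mul, QuotientGroup.mk_mul,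
      (QuotientGroup.eq_one_iff o).2 ho]
    group
  rw [e5]
  exact mul_mem (inv_mem e3) (mul_mem e2 e1)

end prod

end Cfsg.Agent.Lib.H32E8e
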