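import Mathlib
import Cfsg.Agent.Lib.H32E8e

/-!
# Odd groups of automorphisms of a group of order 8 (helper32)
-/

set_option autoImplicit false
set_option linter.all false
set_option maxHeartbeats 400000

namespace Cfsg.Agent.Lib.H32E8f

open Cfsg Cfsg.Agent.Lib Subgroup

universe u

theorem trans_data {V : Type u} [Group V] [Finite V] (h8 : Nat.card V = 8) (A : Subgroup (MulAut V))
    (hodd : Odd (Nat.card A)) (hfix : ∀ v : V, (∀ a ∈ A, a v = v) → v = 1) (h7 : Nat.card A ≠ 7) :
    ∃ t : V, t ≠ 1 ∧ (∃ a ∈ A, a ≠ 1 ∧ a ^ 3 = 1 ∧ a t = t) ∧ ∀ s, s ≠ 1 → ∃ b ∈ A, b t = s := by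
  classical
  by_cases h : ∀ t : V, t ≠ 1 → ∀ a ∈ A, a t = t → a = 1
  · exfalso
    have h1 := SmallSimple.card_modEq_of_orbits (H := A) (X := V) (Nat.card A) {1}
      (by
        rintro x hx a
        rw [Set.mem_singleton_iff] at hx
        rw [hx]
        exact map_one (a : MulAut V)) (by
        intro x hx
        rw [Set.mem_singleton_iff] at hx
        have h2 : MulAction.stabilizer A x = ⊥ := by
          rw [eq_bot_iff]
          intro a ha
          rw [Subgroup.mem_bot]
          exact Subtype.ext (h x hx a a.2 ha)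
        have h3 : Nat.card (MulAction.orbit A x) = Nat.card A := by
          rw [Nat.card_congr (MulAction.orbitEquivQuotientStabilizer A x), h2]
          exact (Subgroup.index_bot (G := A))
        rw [h3])
    rw [h8] at h1
    have h2 : Nat.card ({1} : Set V) = 1 := by simp
    rw [h2] at h1
    have h3 : Nat.card A ∣ 7 := (Nat.modEq_iff_dvd' (by norm_num)).1 h1.symm
    rcases (Nat.dvd_prime (by norm_num : Nat.Prime 7)).1 h3 with h4 | h4
    · have h5 : A = ⊥ := eq_bot_of_card_eq A h4
      have h6 : ∀ v : V, v = 1 := fun v => hfix v (fun a ha => by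
        rw [h5, mem_bot] at ha; rw [ha]; rfl)
      have : Nat.card V ≤ 1 := by
        rw [Finite.card_le_one_iff_subsingleton]
        exact ⟨fun a b => by rw [h6 a, h6 b]⟩
      omega
    · exact h7 h4
  · push Not at h
    obtain ⟨t, ht1, a, haA, hat, ha1⟩ := h
    have ho1 : orderOf a ≠ 1 := fun h => ha1 (orderOf_eq_one_iff.1 h)
    obtain ⟨q, hq, hqd⟩ := Nat.exists_prime_and_dvd ho1
    have hqA : orderOf a ∣ Nat.card A := by
      have := orderOf_dvd_natCard (⟨a, haA⟩ : A)
      rwa [Subgroup.orderOf_mk] at this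
    have hq2 : q ≠ 2 := by
      rintro rfl
      exact (Nat.not_even_iff_odd.2 hodd) (even_iff_two_dvd.2 (hqd.trans hqA))
    obtain ⟨a', ha'⟩ : ∃ a', a' = a ^ (orderOf a / q) := ⟨_, rfl⟩
    have hoa' : orderOf a' = q := by
      rw [ha']; exact orderOf_pow_orderOf_div (orderOf_pos a).ne' hqd
    have ha'A : a' ∈ A := by rw [ha']; exact pow_mem haA _
    have ha'1 : a' ≠ 1 := by
      rintro h; rw [h, orderOf_one] at hoa'; exact hq.one_lt.ne hoa'
    have ha'q : a' ^ q = 1 := by rw [← hoa']; exact pow_orderOf_eq_one _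
    have hst : ∀ k : ℕ, (a ^ k) t = t := by
      intro k
      induction k with
      | zero => rfl
      | succ k ih => rw [pow_succ, MulAut.mul_apply, hat, ih]
    have ha't : a' t = t := by rw [ha']; exact hst _
    have := Fact.mk hq
    obtain ⟨hq3, hfx⟩ := H32E8d.fix_aut h8 hq2 ha'q ha'1 ht1 ha't
    subst hq3
    refine ⟨t, ht1, ⟨a', ha'A, ha'1, ha'q, ha't⟩, ?_⟩
    -- orbit of t
    have hPg : IsPGroup 3 (zpowers (⟨a', ha'A⟩ : A)) := by
      apply IsPGroup.of_card (n := 1)
      rw [Nat.card_zpowers, Subgroup.orderOf_mk, hoa', pow_one]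
    have hmod := hPg.card_modEq_card_fixedPoints (MulAction.orbit A t)
    have hcoe : ∀ (g : zpowers (⟨a', ha'A⟩ : A)) (x : MulAction.orbit A t),
        ((g • x : MulAction.orbit A t) : V) = ((g : A) : MulAut V) (x : V) := fun g x => rfl
    have hF : MulAction.fixedPoints (zpowers (⟨a', ha'A⟩ : A)) (MulAction.orbit A t) =
        {⟨t, MulAction.mem_orbit_self t⟩} := by
      ext x
      rw [MulAction.mem_fixedPoints, Set.mem_singleton_iff]
      constructor
      · intro hx
        have h1 := congrArg Subtype.val (hx ⟨⟨a', ha'A⟩, mem_zpowers _⟩)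
        rw [hcoe] at h1
        rcases hfx _ h1 with h2 | h2
        · exfalso
          obtain ⟨b, hb⟩ := x.2
          have hb' : (b : MulAut V) t = (x : V) := hb
          rw [h2] at hb'
          apply ht1
          apply (b : MulAut V).injective
          rw [hb', map_one]
        · exact Subtype.ext h2
      · rintro rfl ⟨g, k, rfl⟩
        apply Subtype.ext
        rw [hcoe]
        have h1 : zpowers a' ≤ MulAction.stabilizer (MulAut V) t := by
          rw [zpowers_le]; exact ha't
        exact h1 ⟨k, rfl⟩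
    rw [hF] at hmod
    have hc1 : Nat.card ({⟨t, MulAction.mem_orbit_self t⟩} : Set (MulAction.orbit A t)) = 1 := by simp
    rw [hc1] at hmod
    have hoddO : Odd (Nat.card (MulAction.orbit A t)) := by
      have : Nat.card (MulAction.orbit A t) ∣ Nat.card A := by
        rw [Nat.card_congr (MulAction.orbitEquivQuotientStabilizer A t)]
        exact Subgroup.index_dvd_card _
      exact hodd.of_dvd_nat this
    have hsub : MulAction.orbit A t ⊆ ({1} : Set V)ᶜ := by
      rintro x ⟨b, hb⟩ hx
      have hb' : (b : MulAut V) t = x := hb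
      rw [Set.mem_singleton_iff] at hx
      rw [hx] at hb'
      apply ht1
      apply (b : MulAut V).injective
      rw [hb', map_one]
    have h7' : (({1} : Set V)ᶜ).ncard = 7 := by
      rw [Set.ncard_compl, h8, Set.ncard_singleton]
    have hle : (MulAction.orbit A t).ncard ≤ 7 := by
      rw [← h7']; exact Set.ncard_le_ncard hsub (Set.toFinite _)
    have hn : Nat.card (MulAction.orbit A t) = (MulAction.orbit A t).ncard := rfl
    rw [hn] at hmod hoddO
    have hne1 : (MulAction.orbit A t).ncard ≠ 1 := by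
      intro h1
      obtain ⟨x, hx⟩ := Set.ncard_eq_one.1 h1
      apply ht1
      apply hfix
      intro b hb
      have h2 : b t ∈ MulAction.orbit A t := ⟨⟨b, hb⟩, rfl⟩
      have h3 : t ∈ MulAction.orbit A t := MulAction.mem_orbit_self t
      rw [hx, Set.mem_singleton_iff] at h2 h3
      rw [h2, h3]
    have h77 : (MulAction.orbit A t).ncard = 7 := by
      obtain ⟨m, hm⟩ := hoddO
      rw [hm] at hmod hle hne1 ⊢
      have : (2 * m + 1) % 3 = 1 := hmod
      omega
    have heq : MulAction.orbit A t = ({1} : Set V)ᶜ :=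
      Set.eq_of_subset_of_ncard_le hsub (by rw [h7', h77]) (Set.toFinite _)
    intro s hs
    have h2 : s ∈ MulAction.orbit A t := by rw [heq]; exact hs
    obtain ⟨b, hb⟩ := h2
    exact ⟨b, b.2, hb⟩

end Cfsg.Agent.Lib.H32E8f
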