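import Cfsg.Agent.Lib.PSLSylow

set_option autoImplicit false

/-!
# Groups of Heisenberg type (helper32)

`IsHT G`: commutators are central, centralizers of noncentral elements are abelian, and the conjugacy class of a
noncentral element `s` is `Z(G) s`. The Sylow `p`-subgroups of `SL₃(q)`, `q` a power of `p`, are of this type.
-/

namespace Cfsg.Agent.Lib.H32Heis

structure IsHT (G : Type*) [Group G] : Prop where
  comm : ∀ a b c : G, (a * b * a⁻¹ * b⁻¹) * c = c * (a * b * a⁻¹ * b⁻¹)
  cent : ∀ s t x y : G, t * s ≠ s * t → s * x = x * s → s * y = y * s → x * y = y * x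
  surj : ∀ s t z : G, t * s ≠ s * t → (∀ c, z * c = c * z) → ∃ x, x * s = z * s * x
  nonab : ∃ a b : G, a * b ≠ b * a

theorem IsHT.of_equiv {G H : Type*} [Group G] [Group H] (e : G ≃* H) (h : IsHT G) : IsHT H where
  comm a b c := by
    have h1 := congrArg e (h.comm (e.symm a) (e.symm b) (e.symm c))
    simpa using h1
  cent s t x y hts hx hy := by
    have h1 := h.cent (e.symm s) (e.symm t) (e.symm x) (e.symm y)
      (fun h2 => hts (by simpa using congrArg e h2))
      (by simpa using congrArg e.symm hx) (by simpa using congrArg e.symm hy)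
    simpa using congrArg e h1
  surj s t z hts hz := by
    obtain ⟨x, hx⟩ := h.surj (e.symm s) (e.symm t) (e.symm z)
      (fun h2 => hts (by simpa using congrArg e h2))
      (fun c => by simpa using congrArg e.symm (hz (e c)))
    exact ⟨e x, by simpa using congrArg e hx⟩
  nonab := by
    obtain ⟨a, b, hab⟩ := h.nonab
    exact ⟨e a, e b, fun h2 => hab (e.injective (by simpa using h2))⟩

open Matrix MatrixGroups Cfsg.Agent.Lib.PSLAut

section Mat

variable {K : Type*} [Field K]

/-- the unitriangular matrix with entries `a`, `b`, `c`. -/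
def mk3 (a b c : K) : SpecialLinearGroup (Fin 3) K :=
  ⟨!![1, a, c; 0, 1, b; 0, 0, 1], by simp [Matrix.det_fin_three]⟩

theorem isUT_mk3 (a b c : K) : IsUT (mk3 a b c).1 := by
  constructor
  · intro i; fin_cases i <;> rfl
  · intro i j hij
    fin_cases i <;> fin_cases j <;> first | rfl | (exact absurd hij (by decide))

theorem eq_mk3 {s : SpecialLinearGroup (Fin 3) K} (hs : IsUT s.1) : s = mk3 (s.1 0 1) (s.1 1 2) (s.1 0 2) := by
  apply Subtype.ext
  ext i j
  fin_cases i <;> fin_cases j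
  · exact hs.1 0
  · rfl
  · rfl
  · exact hs.2 1 0 (by decide)
  · exact hs.1 1
  · rfl
  · exact hs.2 2 0 (by decide)
  · exact hs.2 2 1 (by decide)
  · exact hs.1 2

theorem mk3_mul (a b c a' b' c' : K) : mk3 a b c * mk3 a' b' c' = mk3 (a + a') (b + b') (c + c' + a * b') := by
  apply Subtype.ext
  show (mk3 a b c).1 * (mk3 a' b' c').1 = (mk3 (a + a') (b + b') (c + c' + a * b')).1
  simp only [mk3]
  ext i j
  fin_cases i <;> fin_cases j <;> simp [Matrix.mul_apply, Fin.sum_univ_three] <;> ring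

theorem mk3_inj {a b c a' b' c' : K} : mk3 a b c = mk3 a' b' c' ↔ a = a' ∧ b = b' ∧ c = c' := by
  constructor
  · intro h
    have h1 : ∀ i j, (mk3 a b c).1 i j = (mk3 a' b' c').1 i j := fun i j => by rw [h]
    exact ⟨h1 0 1, h1 1 2, h1 0 2⟩
  · rintro ⟨rfl, rfl, rfl⟩; rfl

theorem mk3_one : mk3 (0 : K) 0 0 = 1 := by
  apply Subtype.ext
  ext i j
  fin_cases i <;> fin_cases j <;> rfl

theorem mk3_inv (a b c : K) : (mk3 a b c)⁻¹ = mk3 (-a) (-b) (a * b - c) := by
  rw [inv_eq_iff_mul_eq_one, mk3_mul, ← mk3_one, mk3_inj]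
  refine ⟨by ring, by ring, by ring⟩

theorem mk3_comm {a b c a' b' c' : K} :
    mk3 a b c * mk3 a' b' c' = mk3 a' b' c' * mk3 a b c ↔ a * b' = a' * b := by
  rw [mk3_mul, mk3_mul, mk3_inj]
  constructor
  · rintro ⟨-, -, h⟩; linear_combination h
  · intro h; exact ⟨by ring, by ring, by linear_combination h⟩

end Mat

section Fin

variable {K : Type*} [Field K] [Finite K]

theorem exists_mk3 (s : UT 3 K) : ∃ a b c : K, (s : SpecialLinearGroup (Fin 3) K) = mk3 a b c :=
  ⟨_, _, _, eq_mk3 s.2⟩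

theorem isHT_UT : IsHT (UT 3 K) where
  comm x y z := by
    obtain ⟨a, b, c, h1⟩ := exists_mk3 x
    obtain ⟨a', b', c', h2⟩ := exists_mk3 y
    obtain ⟨a'', b'', c'', h3⟩ := exists_mk3 z
    apply Subtype.ext
    push_cast
    rw [h1, h2, h3, mk3_inv, mk3_inv, mk3_mul, mk3_mul, mk3_mul, mk3_comm]
    ring
  cent s t x y hts hx hy := by
    obtain ⟨a, b, c, h1⟩ := exists_mk3 s
    obtain ⟨a', b', c', h2⟩ := exists_mk3 t
    obtain ⟨a₁, b₁, c₁, h3⟩ := exists_mk3 x
    obtain ⟨a₂, b₂, c₂, h4⟩ := exists_mk3 y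
    have e1 : a * b₁ = a₁ * b := by
      have := congrArg Subtype.val hx
      push_cast at this
      rwa [h1, h3, mk3_comm] at this
    have e2 : a * b₂ = a₂ * b := by
      have := congrArg Subtype.val hy
      push_cast at this
      rwa [h1, h4, mk3_comm] at this
    have e3 : ¬ (a = 0 ∧ b = 0) := by
      rintro ⟨rfl, rfl⟩
      apply hts
      apply Subtype.ext
      push_cast
      rw [h1, h2, mk3_comm]
      ring
    apply Subtype.ext
    push_cast
    rw [h3, h4, mk3_comm]
    by_cases ha : a = 0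
    · have hb : b ≠ 0 := fun hb => e3 ⟨ha, hb⟩
      subst ha
      have f1 : a₁ = 0 := by
        have : a₁ * b = 0 := by rw [← e1]; ring
        exact (mul_eq_zero.1 this).resolve_right hb
      have f2 : a₂ = 0 := by
        have : a₂ * b = 0 := by rw [← e2]; ring
        exact (mul_eq_zero.1 this).resolve_right hb
      rw [f1, f2]; ring
    · apply mul_left_cancel₀ ha
      linear_combination a₁ * e2 - a₂ * e1
  surj s t z hts hz := by
    obtain ⟨a, b, c, h1⟩ := exists_mk3 s
    obtain ⟨a', b', c', h2⟩ := exists_mk3 t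
    obtain ⟨a₁, b₁, c₁, h3⟩ := exists_mk3 z
    have hz' : ∀ α β γ : K, a₁ * β = α * b₁ := by
      intro α β γ
      have := congrArg Subtype.val (hz ⟨mk3 α β γ, isUT_mk3 α β γ⟩)
      push_cast at this
      rwa [h3, mk3_comm] at this
    have ha₁ : a₁ = 0 := by have := hz' 0 1 0; simpa using this
    have hb₁ : b₁ = 0 := by have := hz' 1 0 0; simpa using this.symm
    have e3 : ¬ (a = 0 ∧ b = 0) := by
      rintro ⟨rfl, rfl⟩
      apply hts
      apply Subtype.ext
      push_cast
      rw [h1, h2, mk3_comm]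
      ring
    subst ha₁ hb₁
    by_cases hb : b = 0
    · have ha : a ≠ 0 := fun ha => e3 ⟨ha, hb⟩
      refine ⟨⟨mk3 0 (-c₁ / a) 0, isUT_mk3 _ _ _⟩, Subtype.ext ?_⟩
      push_cast
      rw [h1, h3, mk3_mul, mk3_mul, mk3_mul, mk3_inj]
      refine ⟨by ring, by ring, ?_⟩
      field_simp
      ring
    · refine ⟨⟨mk3 (c₁ / b) 0 0, isUT_mk3 _ _ _⟩, Subtype.ext ?_⟩
      push_cast
      rw [h1, h3, mk3_mul, mk3_mul, mk3_mul, mk3_inj]
      refine ⟨by ring, by ring, ?_⟩
      field_simp
      ring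
  nonab := by
    refine ⟨⟨mk3 1 0 0, isUT_mk3 _ _ _⟩, ⟨mk3 0 1 0, isUT_mk3 _ _ _⟩, fun h => ?_⟩
    have := congrArg Subtype.val h
    push_cast at this
    rw [mk3_comm] at this
    simp at this

end Fin

/-- Sylow `p`-subgroups of `SL₃(K)` are of Heisenberg type. -/
theorem isHT_sylow {K : Type*} [Field K] [Fintype K] {p : ℕ} [Fact p.Prime] [CharP K p]
    (T : Sylow p (SpecialLinearGroup (Fin 3) K)) : IsHT (T : Subgroup (SpecialLinearGroup (Fin 3) K)) := by
  haveI : Finite (SpecialLinearGroup (Fin 3) K) := inferInstance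
  have h1 : IsHT ((SylUT 3 K p : Sylow p (SpecialLinearGroup (Fin 3) K)) : Subgroup (SpecialLinearGroup (Fin 3) K)) :=
    isHT_UT
  exact h1.of_equiv ((SylUT 3 K p).equiv T)

end Cfsg.Agent.Lib.H32Heis
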