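import Cfsg.Agent.Lib.H32Heis
import Cfsg.Agent.Lib.FusionNormal
import Cfsg.Agent.Lib.FusionEss
import Cfsg.Agent.Lib.FusionJoin
import Cfsg.Agent.Lib.FusionModel

set_option autoImplicit false

/-!
# Saturated fusion systems over groups of Heisenberg type (helper32)
-/

namespace Cfsg.Agent.Lib.H32Heis

open Cfsg Cfsg.FusionSystem Cfsg.Agent.Lib.FusionBasic Cfsg.Agent.Lib.FusionSat Cfsg.Agent.Lib.FusionAlperin
  Cfsg.Agent.Lib.FusionNormal Cfsg.Agent.Lib.FusionEss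

/-- A `p`-element of `M` lies in `K` if `K ⊴ M` contains a Sylow `p`-subgroup of the whole group. -/
theorem mem_of_sylow_le {G : Type*} [Group G] [Finite G] {p : ℕ} [Fact p.Prime] (R : Sylow p G) (M K : Subgroup G)
    (hKM : K ≤ M) (hn : ∀ m ∈ M, ∀ k ∈ K, m * k * m⁻¹ ∈ K) (hR : (R : Subgroup G) ≤ K) {x : G} (hx : x ∈ M) {k : ℕ}
    (hxp : x ^ p ^ k = 1) : x ∈ K := by
  have hRM : (R : Subgroup G) ≤ M := hR.trans hKM
  let R' : Sylow p M := R.subtype hRM
  have h1 : IsPGroup p (Subgroup.zpowers (⟨x, hx⟩ : M)) := by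
    rintro ⟨y, hy⟩
    obtain ⟨n, rfl⟩ := Subgroup.mem_zpowers_iff.1 hy
    refine ⟨k, Subtype.ext (Subtype.ext ?_)⟩
    show (x ^ n) ^ p ^ k = 1
    rw [← zpow_natCast, zpow_comm, zpow_natCast, hxp, one_zpow]
  obtain ⟨P, hP⟩ := h1.exists_le_sylow
  obtain ⟨m, hm⟩ := MulAction.exists_smul_eq M R' P
  have h2 : (⟨x, hx⟩ : M) ∈ (P : Subgroup M) := hP (Subgroup.mem_zpowers _)
  rw [← hm, Sylow.coe_subgroup_smul, Subgroup.mem_smul_pointwise_iff_exists] at h2
  obtain ⟨r, hr, hrx⟩ := h2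
  have h3 : (r : G) ∈ (R : Subgroup G) := hr
  have h4 := hn m m.2 r (hR h3)
  have h5 : (m : G) * r * (m : G)⁻¹ = x := congrArg Subtype.val hrx
  rwa [h5] at h4

/-- Untyped version of `IsHT`. -/
structure HTS {Ω : Type*} [Group Ω] (S : Subgroup Ω) : Prop where
  comm : ∀ a ∈ S, ∀ b ∈ S, ∀ c ∈ S, (a * b * a⁻¹ * b⁻¹) * c = c * (a * b * a⁻¹ * b⁻¹)
  cent : ∀ s ∈ S, ∀ t ∈ S, ∀ x ∈ S, ∀ y ∈ S, t * s ≠ s * t → s * x = x * s → s * y = y * s → x * y = y * x
  surj : ∀ s ∈ S, ∀ t ∈ S, ∀ z ∈ S, t * s ≠ s * t → (∀ c ∈ S, z * c = c * z) → ∃ x ∈ S, x * s = z * s * x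
  nonab : ∃ a ∈ S, ∃ b ∈ S, a * b ≠ b * a

theorem IsHT.hts {Ω : Type*} [Group Ω] {S : Subgroup Ω} (h : IsHT S) : HTS S where
  comm a ha b hb c hc := congrArg Subtype.val (h.comm ⟨a, ha⟩ ⟨b, hb⟩ ⟨c, hc⟩)
  cent s hs t ht x hx y hy h1 h2 h3 := congrArg Subtype.val (h.cent ⟨s, hs⟩ ⟨t, ht⟩ ⟨x, hx⟩ ⟨y, hy⟩
    (fun h4 => h1 (congrArg Subtype.val h4)) (Subtype.ext h2) (Subtype.ext h3))
  surj s hs t ht z hz h1 h2 := by
    obtain ⟨x, hx⟩ := h.surj ⟨s, hs⟩ ⟨t, ht⟩ ⟨z, hz⟩ (fun h4 => h1 (congrArg Subtype.val h4))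
      (fun c => Subtype.ext (h2 c c.2))
    exact ⟨x, x.2, congrArg Subtype.val hx⟩
  nonab := by
    obtain ⟨a, b, hab⟩ := h.nonab
    exact ⟨a, a.2, b, b.2, fun h4 => hab (Subtype.ext h4)⟩

universe u

variable {Ω : Type u} [Group Ω] {S : Subgroup Ω} {F : FusionSystem S} {E Q : Subgroup Ω} {p : ℕ}

theorem mem_Z {x : Ω} : x ∈ centralizerIn S S ↔ x ∈ S ∧ ∀ c ∈ S, x * c = c * x := by
  rw [mem_centralizerIn]
  refine and_congr_right fun _ => ?_
  rw [Subgroup.mem_centralizer_iff]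
  exact ⟨fun h c hc => (h c hc).symm, fun h c hc => (h c hc).symm⟩

theorem Z_le_centric (hE : F.IsCentric E) : centralizerIn S S ≤ E := by
  refine le_trans ?_ (hE.2 E (isConj_refl F hE.1))
  intro x hx
  rw [mem_Z] at hx
  rw [mem_centralizerIn]
  refine ⟨hx.1, ?_⟩
  rw [Subgroup.mem_centralizer_iff]
  exact fun c hc => (hx.2 c (hE.1 hc)).symm

/-- A subgroup between the centre and the whole group is normal. -/
theorem le_normalizer_of_Z (h : HTS S) (hE : E ≤ S) (hZ : centralizerIn S S ≤ E) :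
    S ≤ Subgroup.normalizer (E : Set Ω) := by
  have key : ∀ s ∈ S, ∀ x ∈ E, s * x * s⁻¹ ∈ E := by
    intro s hs x hx
    have h1 : s * x * s⁻¹ * x⁻¹ ∈ E := hZ (mem_Z.2 ⟨S.mul_mem (S.mul_mem (S.mul_mem hs (hE hx)) (S.inv_mem hs))
      (S.inv_mem (hE hx)), h.comm s hs x (hE hx)⟩)
    have h2 := E.mul_mem h1 hx
    simpa using h2
  intro s hs
  rw [Subgroup.mem_normalizer_iff]
  intro x
  refine ⟨key s hs x, fun hx => ?_⟩
  have := key s⁻¹ (S.inv_mem hs) _ hx
  simpa [mul_assoc] using this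

section

variable [Fact p.Prime] [Finite S]

/-- The centre of `S` is not invariant under `Aut_F(E)` for an essential subgroup `E`. -/
theorem not_inv (hS : IsPGroup p S) (hF : F.IsSaturated p) (h : HTS S) (hE : F.IsEssential p E)
    (hinv : ∀ α ∈ F.autGroup E, ∀ x : E, (x : Ω) ∈ centralizerIn S S → ((α x : E) : Ω) ∈ centralizerIn S S) : False := by
  have hES := hE.1.1
  have hZE : centralizerIn S S ≤ E := Z_le_centric hE.1
  have hc : centralizerIn S E ≤ E := hE.1.2 E (isConj_refl F hES)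
  have hlt := lt_of_essential hS hF hE
  have hn := le_normalizer_of_Z h hES hZE
  apply hlt.not_ge
  intro s hs
  refine mem_of_conj_mem_inn hc hs (hn hs) ?_ hES
  refine mem_inn_of_stabilizes_chain (F := F) hS (isRadical_of_essential hS hE)
    (fun j => if j = 0 then E else if j = 1 then centralizerIn S S else ⊥) 2 (by simp) (by simp) ?_
    (conjAut_mem_autGroup hES (hn hs) hs) ?_
  · intro j α hα x hx
    by_cases hj : j = 0
    · simp only [hj, if_true]; exact (α x).2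
    · by_cases hj1 : j = 1
      · simp only [hj, hj1, if_true, if_false] at hx ⊢
        simp at hx ⊢
        exact hinv α hα x hx
      · simp only [hj, hj1, if_false] at hx ⊢
        rw [Subgroup.mem_bot] at hx ⊢
        have : x = 1 := Subtype.ext hx
        rw [this, map_one]; rfl
  · intro j hj x hx
    rw [conjAut_apply]
    interval_cases j
    · simp only [if_true, zero_add, one_ne_zero, if_false]
      have h1 := h.comm (x : Ω)⁻¹ (S.inv_mem (hES x.2)) s hs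
      rw [inv_inv] at h1
      rw [mem_Z]
      have h2 : (x : Ω)⁻¹ * (s * x * s⁻¹) = (x : Ω)⁻¹ * s * x * s⁻¹ := by group
      rw [h2]
      exact ⟨S.mul_mem (S.mul_mem (S.mul_mem (S.inv_mem (hES x.2)) hs) (hES x.2)) (S.inv_mem hs), h1⟩
    · simp at hx
      rw [mem_Z] at hx
      have h2 : (x : Ω)⁻¹ * (s * x * s⁻¹) = 1 := by
        rw [← hx.2 s hs]; group
      simp [h2]

theorem not_essential_nonab (hS : IsPGroup p S) (hF : F.IsSaturated p) (h : HTS S) (hE : F.IsEssential p E)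
    {a b : Ω} (ha : a ∈ E) (hb : b ∈ E) (hab : a * b ≠ b * a) : False := by
  have hES := hE.1.1
  have hZE : centralizerIn S S ≤ E := Z_le_centric hE.1
  refine not_inv hS hF h hE ?_
  intro α hα x hx
  rw [mem_Z] at hx ⊢
  have h1 : ∀ y ∈ E, (α x : Ω) * y = y * (α x : Ω) := by
    intro y hy
    have h2 : x * α⁻¹ ⟨y, hy⟩ = α⁻¹ ⟨y, hy⟩ * x := Subtype.ext (hx.2 _ (hES (α⁻¹ ⟨y, hy⟩).2))
    have h3 := congrArg α h2
    rw [map_mul, map_mul, MulAut.apply_inv_self] at h3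
    exact congrArg Subtype.val h3
  refine ⟨hES (α x).2, ?_⟩
  by_contra h2
  push Not at h2
  obtain ⟨c, hc, h3⟩ := h2
  exact hab (h.cent (α x) (hES (α x).2) c hc a (hES ha) b (hES hb) (Ne.symm h3) (h1 a ha) (h1 b hb))

theorem not_essential_ab (hS : IsPGroup p S) (hF : F.IsSaturated p) (h : HTS S) (hE : F.IsEssential p E)
    (hQ : F.StronglyClosed Q) (hQZ : Q ≤ centralizerIn S S) (hQ1 : Q ≠ ⊥) : False := by
  have hES := hE.1.1
  haveI : Finite E := finite_of_le hES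
  have hZE : centralizerIn S S ≤ E := Z_le_centric hE.1
  have hQE : Q ≤ E := hQZ.trans hZE
  have hn := le_normalizer_of_Z h hES hZE
  refine not_inv hS hF h hE ?_
  by_contra h1
  push Not at h1
  obtain ⟨α, hα, y, hy, hz⟩ := h1
  rw [mem_Z] at hy
  -- `z = α y` is not central
  have h2 : ∃ t ∈ S, t * (α y : Ω) ≠ (α y : Ω) * t := by
    by_contra h3
    push Not at h3
    exact hz (mem_Z.2 ⟨hES (α y).2, fun c hc => (h3 c hc).symm⟩)
  obtain ⟨t, ht, hty⟩ := h2
  obtain ⟨c, hc, hc1⟩ : ∃ c ∈ Q, c ≠ 1 := by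
    by_contra h3
    push Not at h3
    exact hQ1 ((Subgroup.eq_bot_iff_forall Q).2 h3)
  have hcS : c ∈ S := hES (hQE hc)
  obtain ⟨s, hs, hsz⟩ := h.surj (α y) (hES (α y).2) t ht c hcS hty (mem_Z.1 (hQZ hc)).2
  have hQα : ∀ β ∈ F.autGroup E, ∀ x : E, (x : Ω) ∈ Q → ((β x : E) : Ω) ∈ Q := by
    intro β hβ x hx
    have h3 := StronglyClosed.map_mem F hQ (fmap_of_autGroup hES hβ) x.2 hx
    rwa [autFun_coe] at h3
  let M : Subgroup (F.autGroup E) :=
    { carrier := {β | (∀ q : E, (q : Ω) ∈ Q → (β : MulAut E) q = q) ∧ (((β : MulAut E) y * y⁻¹ : E) : Ω) ∈ Q}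
      one_mem' := ⟨fun q _ => rfl, by
        show ((y * y⁻¹ : E) : Ω) ∈ Q
        rw [mul_inv_cancel]; exact Q.one_mem⟩
      mul_mem' := by
        rintro β γ ⟨h3, h4⟩ ⟨h5, h6⟩
        refine ⟨fun q hq => ?_, ?_⟩
        · show (β : MulAut E) ((γ : MulAut E) q) = q
          rw [h5 q hq, h3 q hq]
        · show (((β : MulAut E) ((γ : MulAut E) y) * y⁻¹ : E) : Ω) ∈ Q
          have h7 : (γ : MulAut E) y = ((γ : MulAut E) y * y⁻¹) * y := by group
          rw [h7, map_mul, h3 _ h6, mul_assoc]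
          exact Q.mul_mem h6 h4
      inv_mem' := by
        rintro β ⟨h3, h4⟩
        have h5 : ∀ q : E, (q : Ω) ∈ Q → ((β⁻¹ : F.autGroup E) : MulAut E) q = q := by
          intro q hq
          show ((β : MulAut E)⁻¹) q = q
          have h6 := congrArg (⇑((β : MulAut E)⁻¹)) (h3 q hq)
          rw [MulAut.inv_apply_self] at h6
          exact h6.symm
        refine ⟨h5, ?_⟩
        show ((((β : MulAut E)⁻¹) y * y⁻¹ : E) : Ω) ∈ Q
        have h6 : ((((β : MulAut E) y * y⁻¹)⁻¹ : E) : Ω) ∈ Q := Q.inv_mem h4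
        have h7 := h5 _ h6
        have h8 : ((β : MulAut E)⁻¹) (((β : MulAut E) y * y⁻¹)⁻¹) = ((β : MulAut E)⁻¹) y * y⁻¹ := by
          rw [mul_inv_rev, inv_inv, map_mul, map_inv, MulAut.inv_apply_self]
        have h9 : ((β : MulAut E)⁻¹) (((β : MulAut E) y * y⁻¹)⁻¹) = ((β : MulAut E) y * y⁻¹)⁻¹ := h7
        rw [← h8, h9]; exact h6 }
  let K : Subgroup (F.autGroup E) :=
    { carrier := {β | (∀ q : E, (q : Ω) ∈ Q → (β : MulAut E) q = q) ∧ (β : MulAut E) y = y}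
      one_mem' := ⟨fun q _ => rfl, rfl⟩
      mul_mem' := by
        rintro β γ ⟨h3, h4⟩ ⟨h5, h6⟩
        refine ⟨fun q hq => ?_, ?_⟩
        · show (β : MulAut E) ((γ : MulAut E) q) = q
          rw [h5 q hq, h3 q hq]
        · show (β : MulAut E) ((γ : MulAut E) y) = y
          rw [h6, h4]
      inv_mem' := by
        rintro β ⟨h3, h4⟩
        refine ⟨fun q hq => ?_, ?_⟩
        · show ((β : MulAut E)⁻¹) q = q
          have h6 := congrArg (⇑((β : MulAut E)⁻¹)) (h3 q hq)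
          rw [MulAut.inv_apply_self] at h6
          exact h6.symm
        · show ((β : MulAut E)⁻¹) y = y
          have h6 := congrArg (⇑((β : MulAut E)⁻¹)) h4
          rw [MulAut.inv_apply_self] at h6
          exact h6.symm }
  have hKM : K ≤ M := by
    rintro β ⟨h3, h4⟩
    refine ⟨h3, ?_⟩
    rw [h4, mul_inv_cancel]; exact Q.one_mem
  have hnorm : ∀ m ∈ M, ∀ k ∈ K, m * k * m⁻¹ ∈ K := by
    intro m hm k hk
    have hm' := M.inv_mem hm
    refine ⟨fun q hq => ?_, ?_⟩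
    · show (m : MulAut E) ((k : MulAut E) (((m⁻¹ : F.autGroup E) : MulAut E) q)) = q
      rw [hm'.1 q hq, hk.1 q hq, hm.1 q hq]
    · show (m : MulAut E) ((k : MulAut E) (((m⁻¹ : F.autGroup E) : MulAut E) y)) = y
      have h7 : ((m⁻¹ : F.autGroup E) : MulAut E) y = (((m⁻¹ : F.autGroup E) : MulAut E) y * y⁻¹) * y := by group
      have h8 : (k : MulAut E) (((m⁻¹ : F.autGroup E) : MulAut E) y) = ((m⁻¹ : F.autGroup E) : MulAut E) y := by
        rw [h7, map_mul, hk.1 _ hm'.2, hk.2]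
      rw [h8]
      show (m : MulAut E) ((m : MulAut E)⁻¹ y) = y
      rw [MulAut.apply_inv_self]
  obtain ⟨-, R, hR⟩ := fullyAutomized_of_fullyNormalized hS hF hE.2.1
  have hRK : (R : Subgroup (F.autGroup E)) ≤ K := by
    rw [hR]
    intro β hβ
    obtain ⟨g, hg, hgβ⟩ := mem_autInducedBy_iff.1 (Subgroup.mem_subgroupOf.1 hβ)
    refine ⟨fun q hq => Subtype.ext ?_, Subtype.ext ?_⟩
    · rw [hgβ, ← (mem_Z.1 (hQZ hq)).2 g hg]; group
    · rw [hgβ, ← hy.2 g hg]; group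
  let κ : F.autGroup E := ⟨conjAut E s (hn hs), conjAut_mem_autGroup hES (hn hs) hs⟩
  let a : F.autGroup E := ⟨α, hα⟩
  obtain ⟨k, hk⟩ : ∃ k : ℕ, κ ^ p ^ k = 1 := by
    obtain ⟨k, hk⟩ := isPGroup_autInducedBy (P := E) hS (le_refl S)
      ⟨conjAut E s (hn hs), conjAut_mem_autInducedBy (hn hs) hs⟩
    have hk' : (conjAut E s (hn hs)) ^ p ^ k = 1 := congrArg Subtype.val hk
    exact ⟨k, Subtype.ext hk'⟩
  have hβp : (a⁻¹ * κ * a) ^ p ^ k = 1 := by
    have h3 : a⁻¹ * κ * a = a⁻¹ * κ * a⁻¹⁻¹ := by rw [inv_inv]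
    rw [h3, conj_pow, hk]; group
  have hβ0 : ((a⁻¹ * κ * a : F.autGroup E) : MulAut E) y = α⁻¹ ⟨c, hQE hc⟩ * y := by
    show α⁻¹ (conjAut E s (hn hs) (α y)) = _
    have h3 : conjAut E s (hn hs) (α y) = ⟨c, hQE hc⟩ * α y := by
      apply Subtype.ext
      rw [conjAut_apply, hsz]
      push_cast
      group
    rw [h3, map_mul, MulAut.inv_apply_self]
  have hβM : a⁻¹ * κ * a ∈ M := by
    refine ⟨fun q hq => ?_, ?_⟩
    · show α⁻¹ (conjAut E s (hn hs) (α q)) = q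
      have h3 : conjAut E s (hn hs) (α q) = α q := by
        apply Subtype.ext
        rw [conjAut_apply, ← (mem_Z.1 (hQZ (hQα α hα q hq))).2 s hs]
        group
      rw [h3, MulAut.inv_apply_self]
    · rw [hβ0, mul_inv_cancel_right]
      exact hQα α⁻¹ (Subgroup.inv_mem _ hα) _ hc
  have hβK := mem_of_sylow_le R M K hKM hnorm hRK hβM hβp
  have h3 := hβK.2
  rw [hβ0] at h3
  have h4 : α⁻¹ ⟨c, hQE hc⟩ = 1 := by simpa using h3
  have h5 := (map_eq_one_iff (α⁻¹) (α⁻¹).injective).1 h4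
  exact hc1 (congrArg Subtype.val h5)

/-- Saturated systems over groups of Heisenberg type: a nontrivial largest normal subgroup is centric. -/
theorem isCentric_core (hS : IsPGroup p S) (hF : F.IsSaturated p) (h : HTS S) (hne : F.core ≠ ⊥) :
    F.IsCentric F.core := by
  have hN := FusionJoin.isNormal_core F
  have hsc := isNormal_stronglyClosed hN
  set Q := F.core with hQdef
  have hQS : Q ≤ S := hN.1
  have hmax : ∀ R : Subgroup Ω, F.IsNormal R → R ≤ Q := fun R hR => le_sSup hR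
  have hnZ : ¬ Q ≤ centralizerIn S S := by
    intro hQZ
    have hSn : F.IsNormal S := by
      refine isNormal_of_essential hS hF ?_
      rintro P (rfl | hE)
      · exact ⟨le_rfl, fun a ha x hx => ha.mem hx⟩
      · exfalso
        by_cases hab : ∀ a ∈ P, ∀ b ∈ P, a * b = b * a
        · exact not_essential_ab hS hF h hE hsc hQZ hne
        · push Not at hab
          obtain ⟨a, ha, b, hb, hab⟩ := hab
          exact not_essential_nonab hS hF h hE ha hb hab
    obtain ⟨a, ha, b, hb, hab⟩ := h.nonab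
    exact hab ((mem_Z.1 (hQZ (hmax S hSn ha))).2 b hb)
  obtain ⟨e, heQ, heZ⟩ := SetLike.not_le_iff_exists.1 hnZ
  have h2 : ∃ t ∈ S, t * e ≠ e * t := by
    by_contra h3
    push Not at h3
    exact heZ (mem_Z.2 ⟨hQS heQ, fun c hc => (h3 c hc).symm⟩)
  obtain ⟨t, ht, hte⟩ := h2
  have hCab : ∀ x ∈ centralizerIn S Q, ∀ y ∈ centralizerIn S Q, x * y = y * x := by
    intro x hx y hy
    rw [mem_centralizerIn, Subgroup.mem_centralizer_iff] at hx hy
    exact h.cent e (hQS heQ) t ht x hx.1 y hy.1 hte (hx.2 e heQ) (hy.2 e heQ)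
  have hCsc : F.StronglyClosed (centralizerIn S Q) := by
    rw [stronglyClosed_iff]
    refine ⟨centralizerIn_le S Q, fun P f hP hf x hx => ?_⟩
    obtain ⟨-, hN2⟩ := (isNormal_iff F).1 hN
    obtain ⟨g, hg, hgf, hgQ⟩ := hN2 P f hf
    rw [mem_centralizerIn]
    refine ⟨hf.map_mem hx, ?_⟩
    rw [← hgf x hx]
    exact hgQ.map_centralizer hg le_sup_right (Subgroup.mem_sup_left hx) (mem_centralizerIn.1 (hP hx)).2
  have hCn : F.IsNormal (centralizerIn S Q) := isNormal_of_abelian_stronglyClosed hS hF hCsc hCab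
  have hCQ : centralizerIn S Q ≤ Q := hmax _ hCn
  refine ⟨hQS, fun R hR => ?_⟩
  have hRQ : R = Q := by
    obtain ⟨f, hf⟩ := isConj_iff_fiso.1 hR
    have h3 : R ≤ Q := by
      intro y hy
      obtain ⟨x, hx, rfl⟩ := hf.mem_iff.1 hy
      exact StronglyClosed.map_mem F hsc hf.1 hx hx
    haveI := finite_of_le hQS
    exact Subgroup.eq_of_le_of_card_ge h3 (isConj_card_eq hR).le
  rw [hRQ]; exact hCQ

theorem core_eq_bot_of_exotic (hS : IsPGroup p S) (hF : F.IsSaturated p) (h : HTS S) (hex : F.IsExotic p) :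
    F.core = ⊥ := by
  by_contra hne
  have hc := isCentric_core hS hF h hne
  obtain ⟨G, iG, fG, ι, h1, h2, -, -⟩ := FusionModel.exists_model hS hF (FusionJoin.isNormal_core F) hc
  exact hex.2 ⟨G, iG, fG, ι, h1, h2⟩

end

end Cfsg.Agent.Lib.H32Heis
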