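import Mathlib
import Cfsg.Agent.Lib.H32Basic

/-!
Pairs of involutions and conjugacy class counting (seat helper32).
-/

set_option autoImplicit false

namespace Cfsg.Agent.Lib.H32Invol

variable {G : Type*} [Group G]

/-- `(ij)^k i (ij)^{-k} = (ij)^{2k} i`. -/
theorem conj_pow_invol {i j : G} (hi : i ^ 2 = 1) (hj : j ^ 2 = 1) (k : ℕ) :
    (i * j) ^ k * i * ((i * j) ^ k)⁻¹ = (i * j) ^ (2 * k) * i := by
  have hi' : i⁻¹ = i := by
    rw [inv_eq_iff_mul_eq_one, ← pow_two]; exact hi
  have hj' : j⁻¹ = j := by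
    rw [inv_eq_iff_mul_eq_one, ← pow_two]; exact hj
  have h1 : i * (i * j) * i⁻¹ = (i * j)⁻¹ := by
    rw [mul_inv_rev, hi', hj']
    calc i * (i * j) * i = (i ^ 2) * j * i := by rw [pow_two]; group
      _ = j * i := by rw [hi]; group
  have h2 : i * (i * j) ^ k * i⁻¹ = ((i * j) ^ k)⁻¹ := by
    rw [← conj_pow, h1, inv_pow]
  have h3 : i * ((i * j) ^ k)⁻¹ = (i * j) ^ k * i := by
    calc i * ((i * j) ^ k)⁻¹ = i * (i * (i * j) ^ k * i⁻¹) := by rw [h2]
      _ = i ^ 2 * (i * j) ^ k * i⁻¹ := by rw [pow_two]; group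
      _ = (i * j) ^ k * i := by rw [hi, hi', one_mul]
  rw [mul_assoc, h3, two_mul, pow_add]; group

/-- Two involutions with product of odd order are conjugate by a power of the product. -/
theorem conj_of_odd {i j : G} (hi : i ^ 2 = 1) (hj : j ^ 2 = 1) (h : Odd (orderOf (i * j))) :
    ∃ k : ℕ, (i * j) ^ k * i * ((i * j) ^ k)⁻¹ = j := by
  obtain ⟨k, hk⟩ := h
  have hi' : i⁻¹ = i := by
    rw [inv_eq_iff_mul_eq_one, ← pow_two]; exact hi
  have hj' : j⁻¹ = j := by
    rw [inv_eq_iff_mul_eq_one, ← pow_two]; exact hj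
  refine ⟨k, ?_⟩
  rw [conj_pow_invol hi hj]
  have h1 : (i * j) ^ (2 * k) * (i * j) = 1 := by
    rw [← pow_succ, ← hk, pow_orderOf_eq_one]
  have h2 : (i * j) ^ (2 * k) = (i * j)⁻¹ := eq_inv_of_mul_eq_one_left h1
  rw [h2, mul_inv_rev, hi', hj', mul_assoc, ← pow_two, hi, mul_one]

/-- Two involutions with product of even order commute with an involution that is a power of the product. -/
theorem exists_invol_of_even [Finite G] {i j : G} (hi : i ^ 2 = 1) (hj : j ^ 2 = 1) (h : Even (orderOf (i * j))) :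
    ∃ k : ℕ, orderOf ((i * j) ^ k) = 2 ∧ Commute ((i * j) ^ k) i ∧ Commute ((i * j) ^ k) j := by
  obtain ⟨k, hk⟩ := h
  have hpos : 0 < orderOf (i * j) := orderOf_pos _
  have hkpos : 0 < k := by omega
  have hord : orderOf ((i * j) ^ k) = 2 := by
    have h1 : orderOf (i * j) = k * 2 := by omega
    rw [orderOf_pow' _ hkpos.ne', h1, Nat.gcd_eq_right (Dvd.intro 2 rfl)]
    exact Nat.mul_div_cancel_left 2 hkpos
  have hsq : ((i * j) ^ k) ^ 2 = 1 := by rw [← hord, pow_orderOf_eq_one]
  have hi' : i⁻¹ = i := by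
    rw [inv_eq_iff_mul_eq_one, ← pow_two]; exact hi
  have hj' : j⁻¹ = j := by
    rw [inv_eq_iff_mul_eq_one, ← pow_two]; exact hj
  have hinv : ((i * j) ^ k)⁻¹ = (i * j) ^ k := by
    rw [inv_eq_iff_mul_eq_one, ← pow_two]; exact hsq
  have hci : Commute ((i * j) ^ k) i := by
    have h1 : i * (i * j) * i⁻¹ = (i * j)⁻¹ := by
      rw [mul_inv_rev, hi', hj']
      calc i * (i * j) * i = (i ^ 2) * j * i := by rw [pow_two]; group
        _ = j * i := by rw [hi]; group
    have h2 : i * (i * j) ^ k * i⁻¹ = (i * j) ^ k := by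
      rw [← conj_pow, h1, inv_pow, hinv]
    show (i * j) ^ k * i = i * (i * j) ^ k
    calc (i * j) ^ k * i = (i * (i * j) ^ k * i⁻¹) * i := by rw [h2]
      _ = i * (i * j) ^ k := by group
  refine ⟨k, hord, hci, ?_⟩
  have h3 : Commute ((i * j) ^ k) (i * j) := (Commute.refl (i * j)).pow_left k
  have h4 : Commute ((i * j) ^ k) (i⁻¹ * (i * j)) := (hci.inv_right).mul_right h3
  have h5 : i⁻¹ * (i * j) = j := by group
  rwa [h5] at h4

/-- The number of conjugates is the index of the centralizer. -/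
theorem card_conj_eq_index [Finite G] (x : G) :
    Nat.card {y : G // IsConj x y} = (Subgroup.centralizer ({x} : Set G)).index := by
  rw [Subgroup.index]
  apply Nat.card_congr
  refine (Equiv.ofBijective
    (Quotient.lift (fun g : G => (⟨g * x * g⁻¹, isConj_iff.mpr ⟨g, rfl⟩⟩ : {y : G // IsConj x y})) ?_) ?_).symm
  · intro a b hab
    have hab' : a⁻¹ * b ∈ Subgroup.centralizer ({x} : Set G) := QuotientGroup.leftRel_apply.mp hab
    rw [Subgroup.mem_centralizer_singleton_iff] at hab'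
    apply Subtype.ext
    show a * x * a⁻¹ = b * x * b⁻¹
    calc a * x * a⁻¹ = a * (x * (a⁻¹ * b)) * b⁻¹ := by group
      _ = a * (a⁻¹ * b * x) * b⁻¹ := by rw [← hab']
      _ = b * x * b⁻¹ := by group
  · constructor
    · intro q r hqr
      induction q using Quotient.inductionOn with
      | h a =>
        induction r using Quotient.inductionOn with
        | h b =>
          have h1 : a * x * a⁻¹ = b * x * b⁻¹ := congrArg Subtype.val hqr
          apply Quotient.sound
          apply QuotientGroup.leftRel_apply.mpr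
          rw [Subgroup.mem_centralizer_singleton_iff]
          calc a⁻¹ * b * x = a⁻¹ * (b * x * b⁻¹) * b := by group
            _ = a⁻¹ * (a * x * a⁻¹) * b := by rw [h1]
            _ = x * (a⁻¹ * b) := by group
    · rintro ⟨y, hy⟩
      obtain ⟨c, hc⟩ := isConj_iff.mp hy
      exact ⟨Quotient.mk _ c, Subtype.ext hc⟩

end Cfsg.Agent.Lib.H32Invol

namespace Cfsg.Agent.Lib.H32Invol

/-- A finite type with an involution having exactly one fixed point has odd cardinality. -/
theorem odd_card_of_involutive {α : Type*} [Finite α] (f : α → α) (hf : Function.Involutive f) (a : α)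
    (hfix : ∀ x, f x = x ↔ x = a) : Odd (Nat.card α) := by
  classical
  have : Fintype α := Fintype.ofFinite α
  have : Fact (Nat.Prime 2) := ⟨Nat.prime_two⟩
  let F : Function.End α := f
  have h1 : (F ^ 2 ^ 1) = (1 : Function.End α) := by
    rw [pow_one, pow_two]
    funext x
    exact hf x
  have h2 := Equiv.Perm.card_fixedPoints_modEq (f := F) (p := 2) (n := 1) h1
  have h3 : Fintype.card (Function.fixedPoints F) = 1 := by
    rw [Fintype.card_eq_one_iff]
    refine ⟨⟨a, (hfix a).mpr rfl⟩, ?_⟩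
    rintro ⟨y, hy⟩
    exact Subtype.ext ((hfix y).mp hy)
  rw [h3] at h2
  rw [Nat.card_eq_fintype_card, Nat.odd_iff]
  exact h2

variable {G : Type*} [Group G]

/-- If the centralizer of a `p`-element has index prime to `p`, the element lies in the centre of some
Sylow `p`-subgroup. -/
theorem exists_sylow_center [Finite G] {p : ℕ} [Fact p.Prime] (z : G) (hz : ∃ k : ℕ, z ^ p ^ k = 1)
    (h : ¬ p ∣ (Subgroup.centralizer ({z} : Set G)).index) :
    ∃ P : Sylow p G, z ∈ (Subgroup.center ↥(P : Subgroup G)).map (P : Subgroup G).subtype := by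
  set C : Subgroup G := Subgroup.centralizer ({z} : Set G) with hC
  have hzC : z ∈ C := by rw [hC, Subgroup.mem_centralizer_singleton_iff]
  obtain ⟨Q⟩ : Nonempty (Sylow p C) := inferInstance
  have hQp : IsPGroup p ((Q : Subgroup C).map C.subtype) := Q.2.map _
  have hidx : ¬ p ∣ ((Q : Subgroup C).map C.subtype).index := by
    rw [Subgroup.index_map_subtype]
    intro hd
    rcases (Fact.out : p.Prime).dvd_mul.mp hd with h1 | h1
    · exact Q.not_dvd_index h1
    · exact h h1
  refine ⟨hQp.toSylow hidx, ?_⟩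
  rw [IsPGroup.toSylow_coe]
  have hzQ : (⟨z, hzC⟩ : C) ∈ (Q : Subgroup C) := by
    have hn : (Subgroup.zpowers (⟨z, hzC⟩ : C)).Normal := by
      constructor
      intro n hn g
      have hg : g * ⟨z, hzC⟩ = ⟨z, hzC⟩ * g := by
        apply Subtype.ext
        exact Subgroup.mem_centralizer_singleton_iff.mp g.2
      obtain ⟨i, rfl⟩ := hn
      have h2 : Commute g (⟨z, hzC⟩ : C) := hg
      have h3 : g * (⟨z, hzC⟩ : C) ^ i * g⁻¹ = (⟨z, hzC⟩ : C) ^ i := by
        rw [(h2.zpow_right i).eq]; group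
      have h4 : g * (fun x => (⟨z, hzC⟩ : C) ^ x) i * g⁻¹ = (⟨z, hzC⟩ : C) ^ i := h3
      rw [h4]
      exact Subgroup.zpow_mem_zpowers _ _
    have hp : IsPGroup p (Subgroup.zpowers (⟨z, hzC⟩ : C)) := by
      obtain ⟨k, hk⟩ := hz
      rw [IsPGroup.iff_card]
      have hord : orderOf (⟨z, hzC⟩ : C) ∣ p ^ k := by
        apply orderOf_dvd_of_pow_eq_one
        apply Subtype.ext
        simpa using hk
      obtain ⟨j, _, hj⟩ := (Nat.dvd_prime_pow Fact.out).mp hord
      exact ⟨j, by rw [Nat.card_zpowers, hj]⟩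
    exact (IsPGroup.le_sylow_of_normal hp Q) (Subgroup.mem_zpowers _)
  have hzQ' : z ∈ (Q : Subgroup C).map C.subtype := ⟨⟨z, hzC⟩, hzQ, rfl⟩
  refine ⟨⟨z, hzQ'⟩, ?_, rfl⟩
  show (⟨z, hzQ'⟩ : ↥((Q : Subgroup C).map C.subtype)) ∈ Subgroup.center _
  rw [Subgroup.mem_center_iff]
  intro g
  apply Subtype.ext
  obtain ⟨c, _, hc⟩ := g.2
  show (g : G) * z = z * (g : G)
  rw [← hc]
  exact Subgroup.mem_centralizer_singleton_iff.mp c.2

end Cfsg.Agent.Lib.H32Invol
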