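import Cfsg.Agent.Lib.CharGalois
import Cfsg.Agent.Lib.CharCentral
import Cfsg.Agent.Lib.CharBasic2
import Cfsg.Prelude.Def_Blocks

set_option autoImplicit false

/-! Schur's bound for the order of a `p`-group with a faithful rational-valued character. -/

namespace Cfsg.Agent.Lib.SchurBound

open Module Cfsg Cfsg.Agent.Lib
open scoped ComplexConjugate

theorem geom_one {μ : ℂ} {q : ℕ} (hμ : μ ^ q = 1) :
    ∑ j ∈ Finset.range q, μ ^ j = if μ = 1 then (q : ℂ) else 0 := by
  split_ifs with h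
  · subst h; simp
  · have h1 := mul_neg_geom_sum μ q
    rw [hμ, sub_self] at h1
    rcases mul_eq_zero.1 h1 with h2 | h2
    · exact absurd (sub_eq_zero.1 h2).symm h
    · exact h2

/-- a ring endomorphism of `ℂ` fixing `ζ` fixes `ℚ(ζ)` -/
theorem fixes_adjoin (σ : ℂ →+* ℂ) {ζ z : ℂ} (hζ : σ ζ = ζ) (hz : z ∈ IntermediateField.adjoin ℚ ({ζ} : Set ℂ)) :
    σ z = z := by
  induction hz using IntermediateField.adjoin_induction with
  | mem x hx => rw [Set.mem_singleton_iff.1 hx]; exact hζ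
  | algebraMap x => simp
  | add x y _ _ hx hy => rw [map_add, hx, hy]
  | inv x _ hx => rw [map_inv₀, hx]
  | mul x y _ _ hx hy => rw [map_mul, hx, hy]

section
variable {G : Type*} [Group G] [Finite G] {N0 : ℕ} (ρ : Representation ℂ G (Fin N0 → ℂ))

/-- `p`-rational characters: `χ(g^k) = χ(g)` for `p`-elements and `k` prime to `p` -/
theorem pow_eq {p r : ℕ} (hp : p.Prime) (hr : 0 < r) (hpr : ¬ p ∣ r) {g : G} {b : ℕ} (hg : orderOf g = p ^ b)
    (h : ρ.character g ∈ IntermediateField.adjoin ℚ ({Complex.exp (2 * Real.pi * Complex.I / r)} : Set ℂ))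
    {k : ℕ} (hk : ¬ p ∣ k) : ρ.character (g ^ k) = ρ.character g := by
  have hcop : Nat.Coprime (p ^ b) r := Nat.Coprime.pow_left b ((Nat.Prime.coprime_iff_not_dvd hp).2 hpr)
  obtain ⟨u, hu1, hu2⟩ := Nat.chineseRemainder hcop k 1
  have hu : u.Coprime (p ^ b * r) := by
    apply Nat.Coprime.mul_right
    · rcases Nat.eq_zero_or_pos b with hb | hb
      · rw [hb, pow_zero]; exact Nat.coprime_one_right _
      · apply Nat.Coprime.pow_right
        apply Nat.Coprime.symm
        rw [Nat.Prime.coprime_iff_not_dvd hp]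
        intro hd
        apply hk
        have h1 : u ≡ k [MOD p] := hu1.of_dvd (dvd_pow_self p hb.ne')
        exact (h1.dvd_iff dvd_rfl).1 hd
    · have h1 : Nat.gcd u r = Nat.gcd 1 r := hu2.gcd_eq
      rw [Nat.gcd_one_left] at h1
      exact h1
  have hpos : 0 < p ^ b * r := Nat.mul_pos (pow_pos hp.pos b) hr
  obtain ⟨σ, hσ⟩ := CharGalois.exists_ringHom_pow hpos hu
  set ζ : ℂ := Complex.exp (2 * Real.pi * Complex.I / r) with hζdef
  have hζ : IsPrimitiveRoot ζ r := Complex.isPrimitiveRoot_exp r hr.ne'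
  have hσζ : σ ζ = ζ := by
    rw [hσ ζ (by rw [mul_comm, pow_mul, hζ.pow_eq_one, one_pow])]
    have h1 : ζ ^ u = ζ ^ 1 := by
      have h2 : u % r = 1 % r := hu2
      rw [← pow_mod_orderOf ζ u, ← pow_mod_orderOf ζ 1, ← hζ.eq_orderOf, h2]
    rw [h1, pow_one]
  have h1 := CharGalois.map_apply_eq (G := G) ⟨N0, ρ, rfl⟩ σ u g (by
    intro μ hμ
    apply hσ
    rw [pow_mul, ← hg, hμ, one_pow])
  rw [fixes_adjoin σ hσζ h] at h1
  rw [h1]
  congr 1
  rw [pow_eq_pow_iff_modEq, hg]
  exact hu1.symm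

/-- the basic rationality computation -/
theorem key {p : ℕ} (hp : p.Prime) {g : G} {b : ℕ} (hg : orderOf g = p ^ (b + 1))
    (h : ∀ k : ℕ, ¬ p ∣ k → ρ.character (g ^ k) = ρ.character g) :
    ∃ d1 d2 : ℕ, d2 ≤ N0 ∧ ((p : ℂ) - 1) * ρ.character g = p * d1 - d2 := by
  classical
  obtain ⟨μ, hμ1, hμ2⟩ := CharValues.exists_eigenvalues ρ g
  have hN : finrank ℂ (Fin N0 → ℂ) = N0 := by simp
  refine ⟨(Finset.univ.filter fun i : Fin (finrank ℂ (Fin N0 → ℂ)) => μ i = 1).card, (Finset.univ.filter fun i : Fin (finrank ℂ (Fin N0 → ℂ)) => μ i ^ p = 1).card, ?_, ?_⟩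
  · refine (Finset.card_filter_le _ _).trans ?_
    rw [Finset.card_univ, Fintype.card_fin, hN]
  have hq : ∀ i : Fin (finrank ℂ (Fin N0 → ℂ)), (μ i ^ p) ^ (p ^ b) = 1 := by
    intro i
    rw [← pow_mul, ← pow_succ', ← hg]; exact hμ1 i
  -- the double sum
  have hL : ∑ i ∈ Finset.range p, ∑ j ∈ Finset.range (p ^ b), ρ.character (g ^ (i + p * j)) =
      (p : ℂ) ^ b * ((Finset.univ.filter fun i : Fin (finrank ℂ (Fin N0 → ℂ)) => μ i ^ p = 1).card + (p - 1) * ρ.character g) := by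
    obtain ⟨m, rfl⟩ : ∃ m, p = m + 1 := ⟨p - 1, (Nat.succ_pred_eq_of_pos hp.pos).symm⟩
    rw [Finset.sum_range_succ']
    have h1 : ∀ i ∈ Finset.range m, ∑ j ∈ Finset.range ((m + 1) ^ b), ρ.character (g ^ (i + 1 + (m + 1) * j)) =
        ((m + 1 : ℕ) : ℂ) ^ b * ρ.character g := by
      intro i hi
      rw [Finset.mem_range] at hi
      rw [Finset.sum_congr rfl (fun j _ => h (i + 1 + (m + 1) * j) (by
        intro hd
        rw [Nat.dvd_add_left (Dvd.intro j rfl)] at hd
        have := Nat.le_of_dvd (by omega) hd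
        omega))]
      simp
    rw [Finset.sum_congr rfl h1]
    have h2 : ∑ j ∈ Finset.range ((m + 1) ^ b), ρ.character (g ^ (0 + (m + 1) * j)) =
        ((m + 1 : ℕ) : ℂ) ^ b * ((Finset.univ.filter fun i : Fin (finrank ℂ (Fin N0 → ℂ)) => μ i ^ (m + 1) = 1).card : ℂ) := by
      simp_rw [zero_add, hμ2]
      rw [Finset.sum_comm]
      have h3 : ∀ i : Fin (finrank ℂ (Fin N0 → ℂ)), ∑ j ∈ Finset.range ((m + 1) ^ b), μ i ^ ((m + 1) * j) =
          if μ i ^ (m + 1) = 1 then ((m + 1 : ℕ) : ℂ) ^ b else 0 := by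
        intro i
        simp_rw [pow_mul]
        rw [geom_one (hq i)]
        push_cast
        rfl
      rw [Finset.sum_congr rfl (fun i _ => h3 i), ← Finset.sum_filter, Finset.sum_const, nsmul_eq_mul, mul_comm]
    rw [h2]
    simp only [Finset.sum_const, Finset.card_range, nsmul_eq_mul]
    push_cast
    ring
  have hR : ∑ i ∈ Finset.range p, ∑ j ∈ Finset.range (p ^ b), ρ.character (g ^ (i + p * j)) =
      (p : ℂ) ^ b * (p * (Finset.univ.filter fun i : Fin (finrank ℂ (Fin N0 → ℂ)) => μ i = 1).card) := by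
    simp_rw [hμ2]
    have h1 : ∀ i ∈ Finset.range p, ∑ j ∈ Finset.range (p ^ b), ∑ l : Fin (finrank ℂ (Fin N0 → ℂ)), μ l ^ (i + p * j) =
        ∑ l : Fin (finrank ℂ (Fin N0 → ℂ)), μ l ^ i * ∑ j ∈ Finset.range (p ^ b), (μ l ^ p) ^ j := by
      intro i _
      rw [Finset.sum_comm]
      refine Finset.sum_congr rfl fun l _ => ?_
      rw [Finset.mul_sum]
      refine Finset.sum_congr rfl fun j _ => ?_
      rw [pow_add, pow_mul]
    rw [Finset.sum_congr rfl h1, Finset.sum_comm]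
    have h2 : ∀ l : Fin (finrank ℂ (Fin N0 → ℂ)), ∑ i ∈ Finset.range p, μ l ^ i * ∑ j ∈ Finset.range (p ^ b), (μ l ^ p) ^ j =
        if μ l = 1 then (p : ℂ) ^ b * p else 0 := by
      intro l
      rw [← Finset.sum_mul, geom_one (hq l)]
      by_cases h3 : μ l ^ p = 1
      · rw [geom_one h3]
        by_cases h4 : μ l = 1
        · rw [if_pos h4, if_pos h3, if_pos h4]; push_cast; ring
        · rw [if_neg h4, if_neg h4, zero_mul]
      · rw [if_neg h3, mul_zero, if_neg]
        intro h4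
        exact h3 (by rw [h4, one_pow])
    rw [Finset.sum_congr rfl (fun l _ => h2 l), ← Finset.sum_filter, Finset.sum_const, nsmul_eq_mul]
    ring
  rw [hL] at hR
  have hp0 : (p : ℂ) ^ b ≠ 0 := pow_ne_zero _ (Nat.cast_ne_zero.2 hp.pos.ne')
  have := mul_left_cancel₀ hp0 hR
  linear_combination this

/-- `(∑ x_i)^p ≡ ∑ x_i^p` modulo `p` in the ring of algebraic integers -/
theorem sum_pow_congr {ι : Type*} (s : Finset ι) {p : ℕ} (hp : p.Prime) (μ : ι → ℂ) (hμ : ∀ i, IsIntegral ℤ (μ i)) :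
    ∃ r : ℂ, IsIntegral ℤ r ∧ (∑ i ∈ s, μ i) ^ p = ∑ i ∈ s, μ i ^ p + p * r := by
  classical
  let R := integralClosure ℤ ℂ
  let ν : ι → R := fun i => ⟨μ i, hμ i⟩
  have key : ∀ s : Finset ι, ∃ r : R, (∑ i ∈ s, ν i) ^ p = ∑ i ∈ s, ν i ^ p + p * r := by
    intro s
    induction s using Finset.induction_on with
    | empty => exact ⟨0, by simp [hp.ne_zero]⟩
    | insert a s ha ih =>
      obtain ⟨r, hr⟩ := ih
      obtain ⟨r', hr'⟩ := exists_add_pow_prime_eq hp (ν a) (∑ i ∈ s, ν i)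
      refine ⟨r + ν a * (∑ i ∈ s, ν i) * r', ?_⟩
      rw [Finset.sum_insert ha, Finset.sum_insert ha, hr', hr]
      ring
  obtain ⟨r, hr⟩ := key s
  refine ⟨r, r.2, ?_⟩
  have := congrArg (Subtype.val : R → ℂ) hr
  simpa [ν] using this

/-- values on `p`-elements -/
theorem values {p : ℕ} (hp : p.Prime)
    (h : ∀ g : G, (∃ b, orderOf g = p ^ b) → ∀ k : ℕ, ¬ p ∣ k → ρ.character (g ^ k) = ρ.character g) (b : ℕ) :
    ∀ g : G, orderOf g = p ^ b → ∃ c : ℤ, ρ.character g = c ∧ ((p : ℤ) - 1) * (N0 - c) ≤ p * N0 ∧ (p : ℤ) ∣ N0 - c := by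
  have hp2 : (2 : ℤ) ≤ p := by exact_mod_cast hp.two_le
  induction b with
  | zero =>
    intro g hg
    rw [pow_zero, orderOf_eq_one_iff] at hg
    subst hg
    refine ⟨N0, by simp, ?_, by simp⟩
    rw [sub_self, mul_zero]
    positivity
  | succ b ih =>
    intro g hg
    obtain ⟨d1, d2, hd2, hkey⟩ := key ρ hp hg (h g ⟨_, hg⟩)
    have hpc : (p : ℂ) - 1 ≠ 0 := by
      intro e
      have h1 : (p : ℂ) = 1 := sub_eq_zero.1 e
      exact hp.one_lt.ne' (by exact_mod_cast h1)
    obtain ⟨c, hc⟩ := CharCentral.exists_int_of_isIntegral_rat (CharValues.isIntegral_character ρ g)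
      (((p : ℚ) * d1 - d2) / (p - 1)) (by
        push_cast
        rw [eq_div_iff hpc, mul_comm]
        exact hkey)
    have hkc : ((p : ℤ) - 1) * c = p * d1 - d2 := by
      rw [hc] at hkey
      exact_mod_cast hkey
    refine ⟨c, hc, ?_, ?_⟩
    · have h1 : ((p : ℤ) - 1) * (N0 - c) = (p - 1) * N0 - (p * d1 - d2) := by rw [mul_sub, hkc]
      rw [h1]
      have h2 : (d2 : ℤ) ≤ N0 := by exact_mod_cast hd2
      have h3 : (0 : ℤ) ≤ p * d1 := by positivity
      nlinarith
    · -- congruence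
      have hgp : orderOf (g ^ p) = p ^ b := by
        rw [orderOf_pow, hg, Nat.gcd_eq_right (dvd_pow_self p (Nat.succ_ne_zero b)), pow_succ,
          Nat.mul_div_cancel _ hp.pos]
      obtain ⟨c', hc', -, hdvd⟩ := ih _ hgp
      obtain ⟨μ, hμ1, hμ2⟩ := CharValues.exists_eigenvalues ρ g
      have h1 := hμ2 1
      have h2 := hμ2 p
      simp only [pow_one] at h1
      obtain ⟨r, hr, hreq⟩ := sum_pow_congr Finset.univ hp μ (fun i =>
        IsIntegral.of_pow (orderOf_pos g) (by rw [hμ1 i]; exact isIntegral_one))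
      rw [← h1, ← h2, hc, hc'] at hreq
      have hpc0 : (p : ℂ) ≠ 0 := Nat.cast_ne_zero.2 hp.pos.ne'
      obtain ⟨m, hm⟩ := CharCentral.exists_int_of_isIntegral_rat hr (((c : ℚ) ^ p - c') / p) (by
        push_cast
        rw [eq_div_iff hpc0]
        linear_combination -hreq)
      have h3 : c ^ p = c' + p * m := by
        rw [hm] at hreq
        exact_mod_cast hreq
      have h4 : (p : ℤ) ∣ c ^ p - c' := ⟨m, by rw [h3]; ring⟩
      have h5 : (p : ℤ) ∣ c ^ p - c := by
        haveI := Fact.mk hp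
        rw [← ZMod.intCast_zmod_eq_zero_iff_dvd]
        push_cast
        rw [ZMod.pow_card, sub_self]
      have h6 : (N0 : ℤ) - c = (N0 - c') - (c ^ p - c') + (c ^ p - c) := by ring
      rw [h6]
      exact dvd_add (dvd_sub hdvd h4) h5

/-- Blichfeldt: if a generalized character takes only the values `s j` off the identity then the order divides the
product of the `θ 1 - s j` -/
theorem blichfeldt {P : Type*} [Group P] [Finite P] {θ : P → ℂ} (hθ : IsGeneralizedCharacter P θ) (m : ℤ) (hm : θ 1 = m)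
    (N : ℕ) (s : ℕ → ℤ) (h : ∀ g : P, g ≠ 1 → ∃ j < N, θ g = s j) :
    (Nat.card P : ℤ) ∣ ∏ j ∈ Finset.range N, (m - s j) := by
  classical
  have := Fintype.ofFinite P
  have hgen : ∀ N : ℕ, IsGeneralizedCharacter P (fun g => ∏ j ∈ Finset.range N, (θ g - s j)) := by
    intro N
    induction N with
    | zero =>
      have h2 := CharBasic.isGeneralized_one (G := P)
      convert h2 using 1
      funext g
      simp
    | succ N ih =>
      have h1 : IsGeneralizedCharacter P (fun g => θ g - s N) := by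
        have h2 := hθ.sub ((CharBasic.isGeneralized_one (G := P)).intCast_smul (s N))
        convert h2 using 1
        funext g
        simp
      have h3 := ih.mul h1
      convert h3 using 1
      funext g
      simp [Finset.prod_range_succ]
  obtain ⟨k, hk⟩ := (hgen N).classInner_int (CharBasic.isGeneralized_one (G := P))
  have hcard : (Nat.card P : ℂ) ≠ 0 := Nat.cast_ne_zero.2 Nat.card_pos.ne'
  rw [classInner, inv_mul_eq_iff_eq_mul₀ hcard] at hk
  have h1 : ∑ g : P, (∏ j ∈ Finset.range N, (θ g - s j)) * conj ((1 : P → ℂ) g) =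
      ∏ j ∈ Finset.range N, ((m : ℂ) - s j) := by
    rw [Finset.sum_eq_single (1 : P)]
    · simp [hm]
    · intro g _ hg
      obtain ⟨j, hj, hgj⟩ := h g hg
      rw [Finset.prod_eq_zero (Finset.mem_range.2 hj) (by rw [hgj, sub_self]), zero_mul]
    · intro h; exact absurd (Finset.mem_univ _) h
  rw [h1] at hk
  refine ⟨k, ?_⟩
  exact_mod_cast hk

/-- Schur's bound -/
theorem schur {p : ℕ} (hp : p.Prime)
    (h : ∀ g : G, (∃ b, orderOf g = p ^ b) → ∀ k : ℕ, ¬ p ∣ k → ρ.character (g ^ k) = ρ.character g)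
    (hfaith : ∀ g : G, ρ.character g = ρ.character 1 → g = 1) :
    (Nat.card G).factorization p ≤ ∑ i ∈ Finset.range (N0 + 1), N0 / ((p - 1) * p ^ i) := by
  haveI := Fact.mk hp
  obtain ⟨P⟩ : Nonempty (Sylow p G) := inferInstance
  have hp2 := hp.two_le
  set N := N0 / (p - 1) with hN
  have h1 : ρ.character 1 = N0 := by simp
  have hval : ∀ g : G, g ≠ 1 → (∃ b, orderOf g = p ^ b) → ∃ j < N, ρ.character g = ((N0 - p * (j + 1) : ℤ) : ℂ) := by
    intro g hg1 ⟨b, hb⟩
    obtain ⟨c, hc, hle, d, hd⟩ := values ρ hp h b g hb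
    have hcN : c ≤ N0 := by
      have h2 := CharValues.norm_character_le ρ g
      rw [hc] at h2
      have h3 : finrank ℂ (Fin N0 → ℂ) = N0 := by simp
      rw [h3, Complex.norm_intCast] at h2
      have h4 : (c : ℝ) ≤ N0 := (le_abs_self _).trans h2
      exact_mod_cast h4
    have hcne : c ≠ N0 := by
      rintro rfl
      apply hg1
      apply hfaith
      rw [hc, h1]
      simp
    have hp0 : (0 : ℤ) < p := by exact_mod_cast hp.pos
    have hd0 : 0 < d := by
      have h2 : (0 : ℤ) < p * d := by rw [← hd]; omega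
      exact (pos_iff_pos_of_mul_pos h2).1 hp0
    obtain ⟨e, rfl⟩ : ∃ e : ℕ, d = e + 1 := ⟨(d - 1).toNat, by omega⟩
    refine ⟨e, ?_, ?_⟩
    · rw [hd] at hle
      have h2 : ((p : ℤ) - 1) * (e + 1) ≤ N0 := by
        have h3 : (p : ℤ) * (((p : ℤ) - 1) * (e + 1)) ≤ p * N0 := by
          calc (p : ℤ) * (((p : ℤ) - 1) * (e + 1)) = (p - 1) * (p * (e + 1)) := by ring
            _ ≤ _ := hle
        exact le_of_mul_le_mul_left h3 hp0
      have h4 : (e + 1) * (p - 1) ≤ N0 := by
        zify [hp.one_le]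
        linarith
      have h5 : e + 1 ≤ N := (Nat.le_div_iff_mul_le (by omega)).2 h4
      omega
    · rw [hc]
      congr 1
      push_cast at hd ⊢
      linarith
  have hdiv := blichfeldt (P := P) (θ := fun g => ρ.character (g : G))
    ((show IsCharacter G ρ.character from ⟨N0, ρ, rfl⟩).restrict (P : Subgroup G)).isGeneralized (N0 : ℤ) (by
      simp) N (fun j => N0 - p * (j + 1)) (by
      intro g hg
      obtain ⟨k, hk⟩ := IsPGroup.iff_orderOf.1 P.2 g
      exact hval g (fun e => hg (Subtype.ext e)) ⟨k, by rw [← hk, Subgroup.orderOf_coe]⟩)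
  have hprod : ∏ j ∈ Finset.range N, ((N0 : ℤ) - ((fun j : ℕ => (N0 : ℤ) - p * ((j : ℤ) + 1)) j)) =
      ((p ^ N * N.factorial : ℕ) : ℤ) := by
    have h2 : ∀ j ∈ Finset.range N, ((N0 : ℤ) - ((fun j : ℕ => (N0 : ℤ) - p * ((j : ℤ) + 1)) j)) = ((p * (j + 1) : ℕ) : ℤ) := by
      intro j _
      push_cast
      ring
    rw [Finset.prod_congr rfl h2, ← Nat.cast_prod, Finset.prod_mul_distrib, Finset.prod_const, Finset.card_range,
      Finset.prod_range_add_one_eq_factorial]
  rw [hprod, Int.natCast_dvd_natCast] at hdiv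
  have hcP : Nat.card P = p ^ (Nat.card G).factorization p := P.card_eq_multiplicity
  rw [hcP] at hdiv
  have hne : p ^ N * N.factorial ≠ 0 := Nat.mul_ne_zero (pow_ne_zero _ hp.ne_zero) (Nat.factorial_ne_zero _)
  have h2 := (hp.pow_dvd_iff_le_factorization hne).1 hdiv
  rw [Nat.factorization_mul (pow_ne_zero _ hp.ne_zero) (Nat.factorial_ne_zero _), Finsupp.add_apply,
    hp.factorization_pow, Finsupp.single_eq_same,
    Nat.factorization_factorial hp (b := N0 + 1) (by
      have h3 : Nat.log p N ≤ N := Nat.log_le_self p N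
      have h4 : N ≤ N0 := Nat.div_le_self _ _
      omega)] at h2
  refine h2.trans (le_of_eq ?_)
  rw [Finset.range_eq_Ico, Finset.sum_eq_sum_Ico_succ_bot (Nat.succ_pos _), pow_zero, mul_one, zero_add]
  congr 1
  refine Finset.sum_congr rfl fun i _ => ?_
  rw [hN, Nat.div_div_eq_div_mul]

end

end Cfsg.Agent.Lib.SchurBound
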