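import Cfsg.Agent.Lib.H76Dade3
import Cfsg.Agent.Lib.CosetAvg
import Cfsg.Agent.Lib.BlockPair
import Cfsg.Agent.Lib.BlockTop
import Cfsg.Agent.Lib.BlockThird
import Cfsg.Agent.Lib.BrauerInd
import Cfsg.Agent.Lib.CharGalois
import Cfsg.Agent.Lib.SchurBound
import Cfsg.Agent.Lib.GlaubCyc2

set_option autoImplicit false
set_option linter.unusedSectionVars false

/-!
# p-rational extensions in the principal block (helper32), part 1
-/

namespace Cfsg.Agent.Lib.H32PRat

open scoped ComplexConjugate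
open Cfsg Cfsg.Agent.Lib.CharBasic Cfsg.Agent.Lib.CanonExt Cfsg.Agent.Lib.CosetAvg
open Cfsg.Agent.Lib.BlockRing Cfsg.Agent.Lib.BlockPair

universe u

/-- an algebraic number fixed by all endomorphisms of `ℂ` which fix `ζ` lies in `ℚ(ζ)` -/
theorem mem_adjoin_of_fixed {z ζ : ℂ} (hz : IsIntegral ℚ z)
    (h : ∀ σ : ℂ →+* ℂ, σ ζ = ζ → σ z = z) : z ∈ IntermediateField.adjoin ℚ ({ζ} : Set ℂ) := by
  let F := IntermediateField.adjoin ℚ ({ζ} : Set ℂ)
  have hz' : IsIntegral F z := hz.tower_top
  let K := IntermediateField.adjoin F ((minpoly F z).rootSet ℂ)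
  have hsplit : Polynomial.IsSplittingField F K (minpoly F z) :=
    IntermediateField.adjoin_rootSet_isSplittingField (IsAlgClosed.splits _)
  have hsep : (minpoly F z).Separable := (minpoly.irreducible hz').separable
  have hgal : IsGalois F K := IsGalois.of_separable_splitting_field hsep
  have hfd : FiniteDimensional F K := Polynomial.IsSplittingField.finiteDimensional K (minpoly F z)
  have hmem : z ∈ K := IntermediateField.subset_adjoin F _ (by
    rw [Polynomial.mem_rootSet]
    exact ⟨minpoly.ne_zero hz', minpoly.aeval F z⟩)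
  have hζF : ζ ∈ F := IntermediateField.subset_adjoin ℚ _ rfl
  have hfix : ∀ f : K ≃ₐ[F] K, f ⟨z, hmem⟩ = ⟨z, hmem⟩ := by
    intro f
    obtain ⟨σ, hσ⟩ := CharGalois.exists_extension_of_endo (F := K) (f : K →+* K)
    have h1 := hσ ⟨z, hmem⟩
    have h2 : σ z = (f ⟨z, hmem⟩ : ℂ) := h1
    have h3 : σ ζ = ζ := by
      have h4 := hσ (algebraMap F K ⟨ζ, hζF⟩)
      have h5 : (f : K →+* K) (algebraMap F K ⟨ζ, hζF⟩) = algebraMap F K ⟨ζ, hζF⟩ := f.commutes _
      rw [h5] at h4
      exact h4
    apply Subtype.ext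
    rw [← h2]
    exact h σ h3
  obtain ⟨q, hq⟩ := (IsGalois.mem_range_algebraMap_iff_fixed (⟨z, hmem⟩ : K)).mpr hfix
  have h1 : ((algebraMap F K q : K) : ℂ) = z := congrArg (Subtype.val) hq
  rw [← h1]
  exact q.2

section rs

open scoped Classical

variable {G : Type u} [Group G] {N : Subgroup G} [hN : N.Normal] {p : ℕ}

/-- the sum of `χ` over the `p`-regular elements of the coset `N g` -/
noncomputable def rs (p : ℕ) (N : Subgroup G) [Fintype N] (χ : G → ℂ) (g : G) : ℂ :=
  ∑ n : N, preg p χ ((n : G) * g)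

theorem rs_mul [Fintype N] (χ : G → ℂ) (n : N) (g : G) : rs p N χ ((n : G) * g) = rs p N χ g := by
  unfold rs
  rw [← Equiv.sum_comp (Equiv.mulRight n) (fun m : N => preg p χ ((m : G) * g))]
  refine Finset.sum_congr rfl fun m _ => ?_
  simp [mul_assoc]

theorem rs_class [Fintype N] {χ : G → ℂ} (hχ : IsClassFunction G χ) : IsClassFunction G (rs p N χ) := by
  intro g h
  unfold rs
  rw [← Equiv.sum_comp (MulAut.conjNormal h : N ≃* N).toEquiv]
  refine Finset.sum_congr rfl fun m _ => ?_
  have h1 : (((MulAut.conjNormal h : N ≃* N).toEquiv m : N) : G) * (h * g * h⁻¹) = h * (m * g) * h⁻¹ := by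
    change ((MulAut.conjNormal h m : N) : G) * _ = _
    rw [MulAut.conjNormal_apply]
    group
  rw [h1]
  exact isClassFunction_preg hχ _ _

theorem rs_one [Fintype N] (χ : G → ℂ) : rs p N χ 1 = ∑ n : N, preg p (fun n : N => χ n) n := by
  unfold rs
  refine Finset.sum_congr rfl fun n _ => ?_
  rw [mul_one]
  unfold preg
  rw [Subgroup.orderOf_coe]

theorem sum_rs [Fintype G] [Fintype N] (χ : G → ℂ) :
    ∑ g : G, rs p N χ g = (Nat.card N : ℂ) * ∑ g : G, preg p χ g := by
  unfold rs
  rw [Finset.sum_comm]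
  have h1 : ∀ n : N, ∑ g : G, preg p χ ((n : G) * g) = ∑ g : G, preg p χ g := fun n =>
    Equiv.sum_comp (Equiv.mulLeft (n : G)) (preg p χ)
  rw [Finset.sum_congr rfl fun n _ => h1 n]
  simp

theorem rs_twist [Fintype N] {β : G → ℂ} (hβ : ∀ (n : N) (g : G), β (n * g) = β g) (χ : G → ℂ) (g : G) :
    rs p N (fun x => β x * χ x) g = β g * rs p N χ g := by
  unfold rs
  rw [Finset.mul_sum]
  refine Finset.sum_congr rfl fun n _ => ?_
  unfold preg
  split_ifs
  · rw [mul_zero]
  · show β _ * χ _ = _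
    rw [hβ]

theorem rs_eq_avg [Finite G] [Fintype N] (χ : G → ℂ) (g : G) :
    rs p N χ g = (Nat.card N : ℂ) * ((Nat.card N : ℂ)⁻¹ * ∑ n : N, preg p χ ((n : G) * g)) := by
  rw [mul_inv_cancel_left₀ (by exact_mod_cast Nat.card_pos.ne')]
  rfl

/-- in the situation of Alperin and Dade the sums over the regular elements of a coset are constant -/
theorem rs_const [Finite G] [Fintype N] {M : Ideal AlgInt} (hM : IsPModular p M) {P : Subgroup G} (hPN : P ≤ N)
    (hPi : ¬ p ∣ P.index) (hsup : N ⊔ Subgroup.centralizer (P : Set G) = ⊤) {χ : IrrCharacter G}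
    (hχ : χ ∈ principalBlock M G) {θ : IrrCharacter N} (hext : ∀ n : N, (χ : G → ℂ) n = (θ : N → ℂ) n) (g : G) :
    rs p N (χ : G → ℂ) g = rs p N (χ : G → ℂ) 1 := by
  have := Fintype.ofFinite G
  have := isPrime hM
  have hθ : θ ∈ principalBlock M N := by
    refine H76Blk3.mem_principal_of_constituent hM hχ ?_
    have : (fun n : N => (χ : G → ℂ) n) = (θ : N → ℂ) := funext hext
    rw [this, θ.2.classInner_self]; exact one_ne_zero
  have key : ∀ β : G → ℂ, IsIrrCharacter G β → (∀ n : N, β n = β 1) → β ≠ (fun _ => 1) →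
      classInner (rs p N (χ : G → ℂ)) β = 0 := by
    intro β hβ hc hne
    have h1 : classInner (fun g => (Nat.card N : ℂ)⁻¹ * ∑ n : N, preg p (χ : G → ℂ) ((n : G) * g)) β =
        classInner (preg p (χ : G → ℂ)) β := classInner_avg _ _ (mul_eq_of_const' hβ.isCharacter hc)
    have h2 : rs p N (χ : G → ℂ) = (Nat.card N : ℂ) •
        (fun g => (Nat.card N : ℂ)⁻¹ * ∑ n : N, preg p (χ : G → ℂ) ((n : G) * g)) := by
      funext x
      rw [Pi.smul_apply, smul_eq_mul]
      exact rs_eq_avg _ _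
    rw [h2, classInner_smul_left, h1]
    -- the character `conj β * χ`
    have hβc : IsIrrCharacter G (fun g => conj (β g)) := hβ.conj
    have hβcc : ∀ n : N, (fun g => conj (β g)) (n : G) = (fun g => conj (β g)) 1 := fun n => by
      simp only [hc n]
    obtain ⟨hψ, -⟩ := (bijOn θ.2 χ.2 hext).mapsTo ⟨hβc, hβcc⟩
    have hnot : (⟨_, hψ⟩ : IrrCharacter G) ∉ principalBlock M G := by
      intro hmem
      have hψn : ∀ n : N, ((fun g => conj (β g)) * (χ : G → ℂ)) n = conj (β 1) * (θ : N → ℂ) n := by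
        intro n
        rw [Pi.mul_apply, hext, hc n]
      have h5 : ∀ n : N, ((fun g => conj (β g)) * (χ : G → ℂ)) n = (θ : N → ℂ) n := by
        intro n
        refine H76Dade.restrict_principal hM hPN hPi hsup (χ := ⟨_, hψ⟩) hmem ?_ n
        have : (fun n : N => ((fun g => conj (β g)) * (χ : G → ℂ)) n) = conj (β 1) • (θ : N → ℂ) := funext hψn
        rw [this, classInner_smul_left, θ.2.classInner_self, mul_one]
        simpa using hβ.one_ne_zero
      obtain ⟨χ', -, huniq⟩ := H76Dade.existsUnique_ext hM hPN hPi hsup hθ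
      have h6 := huniq ⟨_, hψ⟩ ⟨hmem, h5⟩
      have h7 := huniq χ ⟨hχ, hext⟩
      have h8 : ((fun g => conj (β g)) * (χ : G → ℂ)) = (χ : G → ℂ) := by
        have := congrArg Subtype.val (h6.trans h7.symm)
        exact this
      have h9 : (fun g => conj (β g)) = (fun _ => (1 : ℂ)) := by
        refine (bijOn θ.2 χ.2 hext).injOn ⟨hβc, hβcc⟩ ⟨isIrrCharacter_fun_one, fun _ => rfl⟩ ?_
        change (fun g => conj (β g)) * (χ : G → ℂ) = (fun _ => (1 : ℂ)) * (χ : G → ℂ)
        rw [h8]
        funext x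
        simp
      apply hne
      funext x
      have h10 := congrArg conj (congrFun h9 x)
      simpa using h10
    have h3 := pair_eq_zero (p := p) hM (BlockThird.triv G) ⟨_, hψ⟩ (fun h => hnot h)
    rw [pair_comm, pair_def] at h3
    rw [classInner_def]
    have h4 : ∑ x : G, preg p (χ : G → ℂ) x * conj (β x) = 0 := by
      rw [← h3]
      refine Finset.sum_congr rfl fun x _ => ?_
      unfold preg
      split_ifs
      · rw [zero_mul]
      · simp [mul_comm]
    rw [h4, mul_zero, mul_zero]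
  obtain ⟨c, hc⟩ : ∃ c, c = classInner (rs p N (χ : G → ℂ)) (fun _ => 1) := ⟨_, rfl⟩
  have h0 := eq_zero_of_orth (N := N) (f := fun x => rs p N (χ : G → ℂ) x - c)
    ((rs_class χ.2.isClassFunction).sub (fun _ _ => rfl)) (by
      intro n g
      simp only [rs_mul]) (by
      intro β hβ hβc
      have h1 : (fun x => rs p N (χ : G → ℂ) x - c) = rs p N (χ : G → ℂ) - c • (fun _ : G => (1 : ℂ)) := by
        funext x; simp
      rw [h1, classInner_sub_left, classInner_smul_left]
      by_cases hb : β = fun _ => 1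
      · rw [hb, ← hc, isIrrCharacter_fun_one.classInner_self, mul_one, sub_self]
      · rw [key β hβ hβc hb, isIrrCharacter_fun_one.classInner_eq_zero hβ (Ne.symm hb), mul_zero, sub_zero])
  have h1 := congrFun h0 g
  have h2 := congrFun h0 1
  simp only [Pi.zero_apply] at h1 h2
  rw [sub_eq_zero] at h1 h2
  rw [h1, h2]

end rs

end Cfsg.Agent.Lib.H32PRat
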