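import Cfsg.Agent.Lib.H32PRat1
import Cfsg.Agent.Lib.MGroups
import Cfsg.Agent.Lib.H23Nilp

set_option autoImplicit false
set_option linter.unusedSectionVars false

/-!
# p-rational extensions in the principal block (helper32), part 2
-/

namespace Cfsg.Agent.Lib.H32PRat

open scoped ComplexConjugate Classical
open Cfsg Cfsg.Agent.Lib.CharBasic Cfsg.Agent.Lib.CanonExt Cfsg.Agent.Lib.CosetAvg
open Cfsg.Agent.Lib.BlockRing Cfsg.Agent.Lib.BlockPair

universe u

variable {G : Type u} [Group G] [Finite G] {p : ℕ} {M : Ideal AlgInt}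

/-- the sum over the regular elements of a height zero character in the principal block -/
theorem sum_preg_ne_zero [Fintype G] (hM : IsPModular p M) {θ : IrrCharacter G} (hθ : θ ∈ principalBlock M G)
    (hd : ¬ p ∣ charDegree (θ : G → ℂ)) : ∑ x : G, preg p (θ : G → ℂ) x ≠ 0 := by
  have := isPrime hM
  intro h
  have h0 : blockHeight p (principalBlock M G) (θ : G → ℂ) = 0 := by
    unfold blockHeight
    rw [Nat.factorization_eq_zero_of_not_dvd hd]
    simp
  apply not_idl_pair hM BlockThird.isPBlock_principal hθ BlockThird.triv_mem h0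
  rw [omega_pel, pair_comm, pair_def]
  have h1 : ∑ x : G, (if p ∣ orderOf x then 0 else (θ : G → ℂ) x * (BlockThird.triv G : G → ℂ) x⁻¹) =
      ∑ x : G, preg p (θ : G → ℂ) x := by
    refine Finset.sum_congr rfl fun x _ => ?_
    unfold preg
    simp
  rw [h1, h, zero_div]
  exact idl_zero

/-- the principal block is detected by the sum over the regular elements -/
theorem mem_principal_of_sum_ne [Fintype G] (hM : IsPModular p M) {χ : IrrCharacter G}
    (h : ∑ x : G, preg p (χ : G → ℂ) x ≠ 0) : χ ∈ principalBlock M G := by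
  by_contra hcon
  apply h
  have h3 := pair_eq_zero (p := p) hM (BlockThird.triv G) χ (fun h => hcon h)
  rw [pair_comm, pair_def] at h3
  refine Eq.trans (Finset.sum_congr rfl fun x _ => ?_) h3
  unfold preg
  simp

/-- `k` is the exponent of the projection on the `p'`-part -/
structure PK (p : ℕ) (G : Type u) [Group G] (a m k : ℕ) : Prop where
  card : Nat.card G = p ^ a * m
  hm : ¬ p ∣ m
  hk0 : p ^ a ∣ k
  hk1 : k ≡ 1 [MOD m]

theorem exists_PK (G : Type u) [Group G] [Finite G] (hp : p.Prime) : ∃ a m k : ℕ, PK p G a m k := by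
  obtain ⟨a, m, hm, h⟩ := Nat.exists_eq_pow_mul_and_not_dvd (n := Nat.card G) Nat.card_pos.ne' p hp.ne_one
  have hcop : (p ^ a).Coprime m := Nat.Coprime.pow_left _ ((Nat.Prime.coprime_iff_not_dvd hp).2 hm)
  obtain ⟨k, hk0, hk1⟩ := Nat.chineseRemainder hcop 0 1
  exact ⟨a, m, k, h, hm, (Nat.modEq_zero_iff_dvd).1 hk0, hk1⟩

namespace PK

variable {a m k : ℕ}

theorem pow_of_dvd (h : PK p G a m k) {x : G} (hx : orderOf x ∣ m) : x ^ k = x := by
  have h1 : k ≡ 1 [MOD orderOf x] := h.hk1.of_dvd hx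
  have h2 := pow_eq_pow_iff_modEq.2 h1
  rw [h2, pow_one]

theorem dvd_of_reg (h : PK p G a m k) (hp : p.Prime) {x : G} (hx : ¬ p ∣ orderOf x) : orderOf x ∣ m := by
  have h1 : orderOf x ∣ p ^ a * m := by rw [← h.card]; exact orderOf_dvd_natCard x
  exact Nat.Coprime.dvd_of_dvd_mul_left (Nat.Coprime.pow_right _ ((Nat.Prime.coprime_iff_not_dvd hp).2 hx).symm) h1

theorem pow_reg (h : PK p G a m k) (hp : p.Prime) {x : G} (hx : ¬ p ∣ orderOf x) : x ^ k = x :=
  h.pow_of_dvd (h.dvd_of_reg hp hx)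

theorem card_dvd (h : PK p G a m k) : Nat.card G ∣ k * m := by
  rw [h.card]; exact Nat.mul_dvd_mul_right h.hk0 m

theorem order_dvd (h : PK p G a m k) (g : G) : orderOf (g ^ k) ∣ m := by
  rw [orderOf_dvd_iff_pow_eq_one, ← pow_mul]
  exact orderOf_dvd_iff_pow_eq_one.1 ((orderOf_dvd_natCard g).trans h.card_dvd)

theorem reg_pow (h : PK p G a m k) (g : G) : ¬ p ∣ orderOf (g ^ k) := fun h1 =>
  h.hm (h1.trans (h.order_dvd g))

theorem pow_pow (h : PK p G a m k) (g : G) : (g ^ k) ^ k = g ^ k := h.pow_of_dvd (h.order_dvd g)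

theorem pow_eq_one (h : PK p G a m k) {x : G} {n : ℕ} (hp : p.Prime) (hx : orderOf x = p ^ n) : x ^ k = 1 := by
  rw [← orderOf_dvd_iff_pow_eq_one]
  refine dvd_trans ?_ h.hk0
  have h1 : orderOf x ∣ p ^ a * m := by rw [← h.card]; exact orderOf_dvd_natCard x
  refine Nat.Coprime.dvd_of_dvd_mul_right ?_ h1
  rw [hx]
  exact Nat.Coprime.pow_left _ ((Nat.Prime.coprime_iff_not_dvd hp).2 h.hm)

/-- on nilpotent subgroups the `k`-th power is multiplicative -/
theorem mul_pow (h : PK p G a m k) (hp : p.Prime) {E : Subgroup G} (hE : Group.IsNilpotent E) (x y : E) :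
    (x * y) ^ k = x ^ k * y ^ k := by
  have h5 := (Group.isNilpotent_of_finite_tfae (G := E)).out 0 4
  obtain ⟨e⟩ := h5.1 hE
  obtain ⟨α, rfl⟩ := e.surjective x
  obtain ⟨β, rfl⟩ := e.surjective y
  rw [← map_mul, ← map_pow, ← map_pow, ← map_pow, ← map_mul]
  congr 1
  funext i P
  simp only [Pi.pow_apply, Pi.mul_apply]
  have hi : (i : ℕ).Prime := Nat.prime_of_mem_primeFactors i.2
  have hkey : (∀ z : P, z ^ k = 1) ∨ (∀ z : P, z ^ k = z) := by
    by_cases hip : (i : ℕ) = p
    · left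
      intro z
      have : Fact (i : ℕ).Prime := ⟨hi⟩
      obtain ⟨n, hn⟩ := (IsPGroup.iff_orderOf.1 P.isPGroup') z
      have h6 : orderOf (((z : P) : E) : G) = p ^ n := by
        rw [Subgroup.orderOf_coe, Subgroup.orderOf_coe, hn, hip]
      have h7 := h.pow_eq_one hp h6
      apply Subtype.ext
      apply Subtype.ext
      push_cast
      exact h7
    · right
      intro z
      have : Fact (i : ℕ).Prime := ⟨hi⟩
      obtain ⟨n, hn⟩ := (IsPGroup.iff_orderOf.1 P.isPGroup') z
      have h6 : orderOf (((z : P) : E) : G) = (i : ℕ) ^ n := by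
        rw [Subgroup.orderOf_coe, Subgroup.orderOf_coe, hn]
      have h7 : (((z : P) : E) : G) ^ k = (((z : P) : E) : G) := by
        apply h.pow_reg hp
        rw [h6]
        intro h8
        exact hip ((Nat.prime_dvd_prime_iff_eq hp hi).1 (hp.dvd_of_dvd_pow h8)).symm
      apply Subtype.ext
      apply Subtype.ext
      push_cast
      exact h7
  rcases hkey with hz | hz
  · rw [hz, hz, hz, one_mul]
  · rw [hz, hz, hz]

end PK

/-! ### local extensions -/

theorem exists_local (hM : IsPModular p M) {N : Subgroup G} [hNn : N.Normal] {θ : IrrCharacter N}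
    (hB : θ ∈ principalBlock M N) {Q : Subgroup G} (hQN : Q ≤ N) (hQi : ¬ p ∣ (Q.subgroupOf N).index)
    {X : Subgroup G} (hNX : N ≤ X) (hXi : ¬ p ∣ N.relIndex X)
    (hX : X ≤ N ⊔ Subgroup.centralizer (Q : Set G)) [Fintype N] [Fintype (N.subgroupOf X)] :
    ∃ θX : IrrCharacter X, (∀ n : N, (θX : X → ℂ) ⟨n, hNX n.2⟩ = (θ : N → ℂ) n) ∧
      ∀ x : X, rs p (N.subgroupOf X) (θX : X → ℂ) x = ∑ n : N, preg p (θ : N → ℂ) n := by
  have := isPrime hM
  let e : N.subgroupOf X ≃* N := Subgroup.subgroupOfEquivOfLe hNX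
  have hθ' : BlockTop.cmp e θ ∈ principalBlock M (N.subgroupOf X) := by
    rw [← BlockTop.image_principal (M := M) e]
    exact ⟨θ, hB, rfl⟩
  have hPN : Q.subgroupOf X ≤ N.subgroupOf X := Subgroup.comap_mono hQN
  have hPi : ¬ p ∣ (Q.subgroupOf X).index := by
    intro h
    have h1 : (Q.subgroupOf X).index = Q.relIndex N * N.relIndex X := by
      rw [Subgroup.relIndex_mul_relIndex Q N X hQN hNX]; rfl
    rw [h1] at h
    rcases (Nat.Prime.dvd_mul hM.1).1 h with h | h
    · exact hQi h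
    · exact hXi h
  have hsup : N.subgroupOf X ⊔ Subgroup.centralizer ((Q.subgroupOf X : Subgroup X) : Set X) = ⊤ := by
    rw [eq_top_iff]
    intro x _
    obtain ⟨n, hn, c, hc, hnc⟩ := Subgroup.mem_sup_of_normal_left.1 (hX x.2)
    have hcX : c ∈ X := by
      have : c = n⁻¹ * x := by rw [← hnc]; group
      rw [this]
      exact X.mul_mem (X.inv_mem (hNX hn)) x.2
    have hx : x = (⟨n, hNX hn⟩ : X) * ⟨c, hcX⟩ := Subtype.ext hnc.symm
    rw [hx]
    apply Subgroup.mul_mem_sup
    · exact Subgroup.mem_subgroupOf.2 hn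
    · rw [Subgroup.mem_centralizer_iff]
      intro y hy
      apply Subtype.ext
      exact Subgroup.mem_centralizer_iff.1 hc y (Subgroup.mem_subgroupOf.1 hy)
  obtain ⟨χ, ⟨hχ, hext⟩, -⟩ := H76Dade.existsUnique_ext hM hPN hPi hsup hθ'
  refine ⟨χ, fun n => ?_, fun x => ?_⟩
  · have h1 := hext ⟨⟨n, hNX n.2⟩, n.2⟩
    rw [BlockTop.cmp_apply] at h1
    exact h1
  · rw [rs_const hM hPN hPi hsup hχ hext, rs_one, ← Equiv.sum_comp e.toEquiv]
    refine Finset.sum_congr rfl fun n _ => ?_
    unfold preg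
    have h1 : orderOf (e.toEquiv n) = orderOf n := BlockTop.orderOf_equiv e n
    rw [h1]
    split_ifs
    · rfl
    · show (χ : X → ℂ) n = _
      rw [hext n, BlockTop.cmp_apply]
      rfl

/-- subgroups over `N` of index prime to `p` lie in `N C(Q)` -/
theorem le_of_index {N H X : Subgroup G} [H.Normal] (hNH : N ≤ H) (hNX : N ≤ X) (hp : p.Prime)
    {a : ℕ} (hH : H.index = p ^ a) (hXi : ¬ p ∣ N.relIndex X) : X ≤ H := by
  have h1 : H.relIndex X ∣ p ^ a := by
    rw [← hH]; exact Subgroup.relIndex_dvd_index_of_normal H X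
  have h2 : H.relIndex X ∣ N.relIndex X := by
    have h3 : N.relIndex (H ⊓ X) * (H ⊓ X).relIndex X = N.relIndex X :=
      Subgroup.relIndex_mul_relIndex N (H ⊓ X) X (le_inf hNH hNX) inf_le_right
    rw [Subgroup.inf_relIndex_right] at h3
    exact ⟨_, by rw [← h3, mul_comm]⟩
  obtain ⟨j, -, hj⟩ := (Nat.dvd_prime_pow hp).1 h1
  have h4 : j = 0 := by
    by_contra h0
    exact hXi ((dvd_pow_self p h0).trans (hj ▸ h2))
  rw [h4, pow_zero] at hj
  exact Subgroup.relIndex_eq_one.1 hj

theorem normal_sup_centralizer {N : Subgroup G} [hN : N.Normal] [Fact p.Prime] (Q : Sylow p N) :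
    (N ⊔ Subgroup.centralizer (((Q : Subgroup N).map N.subtype : Subgroup G) : Set G)).Normal := by
  obtain ⟨R, hR⟩ : ∃ R : Subgroup G, R = (Q : Subgroup N).map N.subtype := ⟨_, rfl⟩
  have hfr : Subgroup.normalizer (R : Set G) ⊔ N = ⊤ := by
    rw [hR]; exact Q.normalizer_sup_eq_top
  rw [← hR]
  rw [← Subgroup.normalizer_eq_top_iff, eq_top_iff, ← hfr]
  apply sup_le
  · intro g hg
    have hconj : ∀ g ∈ Subgroup.normalizer (R : Set G), ∀ x ∈ N ⊔ Subgroup.centralizer (R : Set G),
        g * x * g⁻¹ ∈ N ⊔ Subgroup.centralizer (R : Set G) := by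
      intro g hg x hx
      obtain ⟨n, hn, c, hc, rfl⟩ := Subgroup.mem_sup_of_normal_left.1 hx
      have h1 : g * (n * c) * g⁻¹ = (g * n * g⁻¹) * (g * c * g⁻¹) := by group
      rw [h1]
      apply Subgroup.mul_mem_sup (hN.conj_mem n hn g)
      rw [Subgroup.mem_centralizer_iff]
      intro r hr
      have h2 : g⁻¹ * r * g ∈ (R : Set G) := by
        have := (Subgroup.mem_normalizer_iff.1 (inv_mem hg) r).1 hr
        simpa using this
      have h3 := Subgroup.mem_centralizer_iff.1 hc _ h2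
      calc r * (g * c * g⁻¹) = g * ((g⁻¹ * r * g) * c) * g⁻¹ := by group
        _ = g * (c * (g⁻¹ * r * g)) * g⁻¹ := by rw [h3]
        _ = g * c * g⁻¹ * r := by group
    rw [Subgroup.mem_normalizer_iff]
    intro x
    constructor
    · exact hconj g hg x
    · intro hx
      have := hconj g⁻¹ (inv_mem hg) _ hx
      have h1 : g⁻¹ * (g * x * g⁻¹) * g⁻¹⁻¹ = x := by group
      rwa [h1] at this
  · exact le_sup_left.trans Subgroup.le_normalizer

end Cfsg.Agent.Lib.H32PRat
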