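import Cfsg.Agent.Lib.H32PRat2

set_option autoImplicit false
set_option linter.unusedSectionVars false

/-!
# p-rational extensions in the principal block (helper32), part 3
-/

namespace Cfsg.Agent.Lib.H32PRat

open scoped ComplexConjugate Classical
open Cfsg Cfsg.Agent.Lib.CharBasic Cfsg.Agent.Lib.CanonExt Cfsg.Agent.Lib.CosetAvg
open Cfsg.Agent.Lib.BlockRing Cfsg.Agent.Lib.BlockPair Cfsg.Agent.Lib.Clifford

universe u

variable {G : Type u} [Group G] [Finite G] {p : ℕ} {M : Ideal AlgInt}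

theorem exp_pow {m : ℕ} (hm : m ≠ 0) : Complex.exp (2 * Real.pi * Complex.I / m) ^ m = 1 :=
  (Complex.isPrimitiveRoot_exp m hm).pow_eq_one

/-- the determinantal order of a `p`-rational character is prime to the odd prime `p` -/
theorem not_dvd_detOrder (hp : p.Prime) (hp2 : p ≠ 2) {θ : G → ℂ} (hθ : IsCharacter G θ) {m : ℕ}
    (hm : ¬ p ∣ m) (hrat : ∀ x, θ x ∈ IntermediateField.adjoin ℚ ({Complex.exp (2 * Real.pi * Complex.I / m)} : Set ℂ)) :
    ¬ p ∣ detOrder θ := by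
  have hm0 : m ≠ 0 := by rintro rfl; exact hm (dvd_zero p)
  obtain ⟨a, m', k, hPK⟩ := exists_PK G hp
  have hm'0 : m' ≠ 0 := by rintro rfl; exact hPK.hm (dvd_zero p)
  have hpm : ¬ p ∣ m' * m := by
    intro h
    rcases hp.dvd_mul.1 h with h | h
    · exact hPK.hm h
    · exact hm h
  have hcop : (p ^ (a + 1)).Coprime (m' * m) := Nat.Coprime.pow_left _ ((Nat.Prime.coprime_iff_not_dvd hp).2 hpm)
  obtain ⟨j, hj2, hj1⟩ := Nat.chineseRemainder hcop 2 1
  have hjp : j ≡ 2 [MOD p] := hj2.of_dvd (dvd_pow_self p (Nat.succ_ne_zero a))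
  have hjc : j.Coprime (p ^ (a + 1) * (m' * m)) := by
    apply Nat.Coprime.mul_right
    · apply Nat.Coprime.pow_right
      apply Nat.Coprime.symm
      rw [Nat.Prime.coprime_iff_not_dvd hp]
      intro h
      have h1 := (hjp.dvd_iff dvd_rfl).1 h
      exact hp2 ((Nat.prime_dvd_prime_iff_eq hp Nat.prime_two).1 h1)
    · have := hj1.gcd_eq
      rw [Nat.gcd_one_left] at this
      exact this
  have hpos : 0 < p ^ (a + 1) * (m' * m) := Nat.mul_pos (pow_pos hp.pos _) (Nat.mul_pos (Nat.pos_of_ne_zero hm'0) (Nat.pos_of_ne_zero hm0))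
  obtain ⟨σ, hσ⟩ := CharGalois.exists_ringHom_pow hpos hjc
  have hσz : σ (Complex.exp (2 * Real.pi * Complex.I / m)) = Complex.exp (2 * Real.pi * Complex.I / m) := by
    rw [hσ _ (by
      rw [mul_comm m' m, mul_left_comm, pow_mul, exp_pow hm0, one_pow])]
    have h1 : j ≡ 1 [MOD m] := hj1.of_dvd (dvd_mul_left m m')
    have h2 : j ≡ 1 [MOD orderOf (Complex.exp (2 * Real.pi * Complex.I / m))] :=
      h1.of_dvd (orderOf_dvd_of_pow_eq_one (exp_pow hm0))
    rw [← pow_mod_orderOf _ j, show j % _ = 1 % _ from h2, pow_mod_orderOf, pow_one]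
  have hfix : (fun x => σ (θ x)) = θ := funext fun x => SchurBound.fixes_adjoin σ hσz (hrat x)
  obtain ⟨δ, hδ⟩ := DetChar.exists_detHom hθ
  have hj0 : j ≠ 0 := by
    rintro rfl
    have h1 := (Nat.modEq_zero_iff_dvd).1 hjp.symm
    exact hp2 ((Nat.prime_dvd_prime_iff_eq hp Nat.prime_two).1 h1)
  have h1 : detChar θ ^ (j - 1) = 1 := by
    funext x
    have h2 := Cfsg.Agent.Lib.GlaubCyc.detChar_map hθ σ x
    rw [hfix, hδ] at h2
    have h3 : (δ x : ℂ) ^ (p ^ (a + 1) * (m' * m)) = 1 := by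
      have h4 : (δ x) ^ Nat.card G = 1 := by rw [← map_pow, pow_card_eq_one', map_one]
      have h5 : Nat.card G ∣ p ^ (a + 1) * (m' * m) := by
        rw [hPK.card]
        exact ⟨p * m, by ring⟩
      obtain ⟨c, hc⟩ := h5
      rw [hc, pow_mul, ← Units.val_pow_eq_pow_val, h4, Units.val_one, one_pow]
    rw [hσ _ h3] at h2
    rw [Pi.pow_apply, Pi.one_apply, hδ]
    have h6 : (δ x : ℂ) * (δ x : ℂ) ^ (j - 1) = (δ x : ℂ) * 1 := by
      rw [← pow_succ', Nat.sub_add_cancel (Nat.one_le_iff_ne_zero.2 hj0), mul_one]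
      exact h2.symm
    exact mul_left_cancel₀ (Units.ne_zero _) h6
  intro h
  have h2 : p ∣ j - 1 := h.trans (orderOf_dvd_of_pow_eq_one h1)
  have h3 : j ≡ 1 [MOD p] := ((Nat.modEq_iff_dvd' (Nat.one_le_iff_ne_zero.2 hj0)).2 h2).symm
  have h4 : (2 : ℕ) ≡ 1 [MOD p] := hjp.symm.trans h3
  have h5 : p ∣ 2 - 1 := (Nat.modEq_iff_dvd' (by norm_num)).1 h4.symm
  exact hp.one_lt.ne' (Nat.dvd_one.1 h5)

theorem exists_ext [hpF : Fact p.Prime] (hp2 : p ≠ 2) (hM : IsPModular p M) {N : Subgroup G} [hN : N.Normal]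
    (θ : IrrCharacter N)
    (hinv : ∀ g : G, ∀ n n' : N, (n' : G) = g * (n : G) * g⁻¹ → (θ : N → ℂ) n' = (θ : N → ℂ) n)
    (hdeg : ¬ p ∣ charDegree (θ : N → ℂ)) {m : ℕ} (hm : ¬ p ∣ m)
    (hrat : ∀ x, (θ : N → ℂ) x ∈ IntermediateField.adjoin ℚ ({Complex.exp (2 * Real.pi * Complex.I / m)} : Set ℂ))
    (hB : θ ∈ principalBlock M N) {Q : Subgroup G} (hQN : Q ≤ N) (hQi : ¬ p ∣ (Q.subgroupOf N).index)
    (hnorm : (N ⊔ Subgroup.centralizer (Q : Set G)).Normal) {a : ℕ}
    (hidx : (N ⊔ Subgroup.centralizer (Q : Set G)).index = p ^ a) :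
    ∃ χ : G → ℂ, IsIrrCharacter G χ ∧ ∀ n : N, χ n = (θ : N → ℂ) n := by
  have := Fintype.ofFinite G
  apply ScalarDeg.extends_of_sylow θ.2
  · intro g
    funext n
    exact hinv g n _ rfl
  · intro r hr
    have : Fact r.Prime := ⟨hr⟩
    obtain ⟨R⟩ : Nonempty (Sylow r G) := inferInstance
    obtain ⟨X, hX⟩ : ∃ X : Subgroup G, X = N ⊔ (R : Subgroup G) := ⟨_, rfl⟩
    have hNX : N ≤ X := hX ▸ le_sup_left
    have hidxX : Nat.Coprime X.index r := by
      apply Nat.Coprime.symm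
      rw [Nat.Prime.coprime_iff_not_dvd hr]
      intro h
      exact R.not_dvd_index (h.trans (Subgroup.index_dvd_of_le (hX ▸ le_sup_right)))
    obtain ⟨c, hc⟩ : ∃ c, N.relIndex X = r ^ c := by
      obtain ⟨c, hc⟩ := (IsPGroup.iff_card.1 R.isPGroup')
      have h1 : N.relIndex X ∣ r ^ c := by
        rw [hX, Subgroup.relIndex_sup_left, ← hc]
        exact Subgroup.relIndex_dvd_card _ _
      obtain ⟨j, -, hj⟩ := (Nat.dvd_prime_pow hr).1 h1
      exact ⟨j, hj⟩
    refine ⟨X, hNX, ?_⟩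
    by_cases hrp : r = p
    · -- the canonical extension
      let e : N.subgroupOf X ≃* N := Subgroup.subgroupOfEquivOfLe hNX
      have hN' : (N.subgroupOf X).Normal := inferInstance
      have hθ' : IsIrrCharacter (N.subgroupOf X) (fun n => (θ : N → ℂ) (e n)) := (BlockTop.cmp e θ).2
      have hd : (fun n : N.subgroupOf X => (θ : N → ℂ) (e n)) 1 = ((charDegree (θ : N → ℂ) : ℕ) : ℂ) := by
        rw [BlockDeg.charDegree_cast_irr]
        simp
      obtain ⟨χ, ⟨hχ, hext, -⟩, -⟩ := canonical_extension (G := X) (N := N.subgroupOf X) hθ' (by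
        intro g
        funext n
        rw [cj_apply]
        exact hinv (g : G) _ _ rfl) hd (by
        change Nat.Coprime (N.relIndex X) _
        rw [hc, hrp]
        apply Nat.Coprime.pow_left
        rw [Nat.Prime.coprime_iff_not_dvd hpF.out]
        intro h
        rcases hpF.out.dvd_mul.1 h with h | h
        · exact not_dvd_detOrder hpF.out hp2 hθ'.isCharacter hm (fun x => hrat _) h
        · exact hdeg h)
      exact ⟨χ, hidxX, hχ, fun n => hext ⟨⟨n, hNX n.2⟩, n.2⟩⟩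
    · have hXi : ¬ p ∣ N.relIndex X := by
        rw [hc]
        intro h
        exact hrp ((Nat.prime_dvd_prime_iff_eq hpF.out hr).1 (hpF.out.dvd_of_dvd_pow h)).symm
      have hle := le_of_index (H := N ⊔ Subgroup.centralizer (Q : Set G)) le_sup_left hNX hpF.out hidx hXi
      have := Fintype.ofFinite N
      have := Fintype.ofFinite (N.subgroupOf X)
      obtain ⟨θX, h1, -⟩ := exists_local hM hB hQN hQi hNX hXi hle
      exact ⟨θX, hidxX, θX.2, h1⟩

end Cfsg.Agent.Lib.H32PRat
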