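import Cfsg.Agent.Lib.H32PRat3

set_option autoImplicit false
set_option linter.unusedSectionVars false

/-!
# p-rational extensions in the principal block (helper32), part 4
-/

namespace Cfsg.Agent.Lib.H32PRat

open scoped ComplexConjugate Classical
open Cfsg Cfsg.Agent.Lib.CharBasic Cfsg.Agent.Lib.CanonExt Cfsg.Agent.Lib.CosetAvg
open Cfsg.Agent.Lib.BlockRing Cfsg.Agent.Lib.BlockPair Cfsg.Agent.Lib.Clifford

universe u

variable {G : Type u} [Group G] [Finite G] {p : ℕ} {M : Ideal AlgInt}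

theorem not_dvd_relIndex {N K : Subgroup G} [N.Normal] (hp : p.Prime) (hK : ∀ x ∈ K, ¬ p ∣ orderOf x) :
    ¬ p ∣ N.relIndex (N ⊔ K) := by
  intro h
  rw [Subgroup.relIndex_sup_left] at h
  have h1 := h.trans (Subgroup.relIndex_dvd_card N K)
  have : Fact p.Prime := ⟨hp⟩
  obtain ⟨x, hx⟩ := exists_prime_orderOf_dvd_card' p h1
  apply hK x x.2
  rw [Subgroup.orderOf_coe, hx]

theorem norm_unit {X : Type*} [Group X] [Finite X] (l : X →* ℂˣ) (x : X) : ((l x : ℂˣ) : ℂ) * conj ((l x : ℂˣ) : ℂ) = 1 := by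
  have h1 : ((l x : ℂˣ) : ℂ) ^ Nat.card X = 1 := by
    rw [← Units.val_pow_eq_pow_val, ← map_pow, pow_card_eq_one', map_one, Units.val_one]
  have h2 : ‖((l x : ℂˣ) : ℂ)‖ = 1 := Complex.norm_eq_one_of_pow_eq_one h1 Nat.card_pos.ne'
  rw [Complex.mul_conj, Complex.normSq_eq_norm_sq, h2]
  simp

/-- the data of the local situation -/
structure Loc (p : ℕ) (N : Subgroup G) [Fintype N] (θ : N → ℂ) : Prop where
  irr : IsIrrCharacter N θ
  loc : ∀ X : Subgroup G, ∀ hNX : N ≤ X, ¬ p ∣ N.relIndex X → ∃ θX : X → ℂ, IsIrrCharacter X θX ∧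
    (∀ n : N, θX ⟨n, hNX n.2⟩ = θ n) ∧
      ∀ [Fintype (N.subgroupOf X)], ∀ x : X, rs p (N.subgroupOf X) θX x = ∑ n : N, preg p θ n
  ne : ∑ n : N, preg p θ n ≠ 0

theorem rs_restrict {N X : Subgroup G} (hNX : N ≤ X) [Fintype N] [Fintype (N.subgroupOf X)] (χ : G → ℂ) (x : X) :
    rs p (N.subgroupOf X) (fun y : X => χ y) x = rs p N χ x := by
  unfold rs
  rw [← Equiv.sum_comp (Subgroup.subgroupOfEquivOfLe hNX).toEquiv]
  refine Finset.sum_congr rfl fun n _ => ?_
  unfold preg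
  rw [← Subgroup.orderOf_coe]
  rfl

theorem Loc.exists_lin {N : Subgroup G} [hN : N.Normal] [Fintype N] {θ : N → ℂ} (h : Loc p N θ) {χ : G → ℂ}
    (hχ : IsIrrCharacter G χ) (hext : ∀ n : N, χ n = θ n) {X : Subgroup G} (hNX : N ≤ X) (hX : ¬ p ∣ N.relIndex X) :
    ∃ l : X →* ℂˣ, ∀ x : X, rs p N χ x = (l x : ℂ) * ∑ n : N, preg p θ n := by
  have := Fintype.ofFinite (N.subgroupOf X)
  obtain ⟨θX, hθX, h1, h2⟩ := h.loc X hNX hX
  let e : N.subgroupOf X ≃* N := Subgroup.subgroupOfEquivOfLe hNX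
  have hθ' : IsIrrCharacter (N.subgroupOf X) (fun n => θ (e n)) := (BlockTop.cmp e ⟨θ, h.irr⟩).2
  have hres : IsIrrCharacter X (fun x : X => χ x) :=
    isIrr_of_ext hθ' (hχ.isCharacter.restrict X) (fun n => hext ⟨n, n.2⟩)
  obtain ⟨l, hl, hl2⟩ := exists_linear_twist (N := N.subgroupOf X) hθ' hθX (fun n => h1 ⟨n, n.2⟩) hres (fun n => hext ⟨n, n.2⟩)
  refine ⟨l, fun x => ?_⟩
  rw [← h2 x, ← rs_restrict hNX χ x, hl2]
  exact rs_twist (β := fun x => (l x : ℂ)) (fun n g => by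
    show ((l _ : ℂˣ) : ℂ) = _
    rw [map_mul, hl, one_mul]) θX x

theorem Loc.exists_beta {N : Subgroup G} [hN : N.Normal] [Fintype N] {θ : N → ℂ} (h : Loc p N θ) {χ : G → ℂ}
    (hχ : IsIrrCharacter G χ) (hext : ∀ n : N, χ n = θ n) {a m k : ℕ} (hk : PK p G a m k) (hp : p.Prime) :
    ∃ β : G →* ℂˣ, ∀ g : G, rs p N χ (g ^ k) = (β g : ℂ) * ∑ n : N, preg p θ n := by
  have := Fintype.ofFinite G
  obtain ⟨s, hs⟩ : ∃ s : ℂ, s = ∑ n : N, preg p θ n := ⟨_, rfl⟩
  have hs0 : s ≠ 0 := hs ▸ h.ne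
  have hone : rs p N χ 1 = s := by
    rw [rs_one, hs]
    have : (fun n : N => χ n) = θ := funext hext
    rw [this]
  have hclass : IsClassFunction G (fun g => rs p N χ (g ^ k) / s) := by
    intro g x
    show rs p N χ ((x * g * x⁻¹) ^ k) / s = _
    rw [conj_pow, rs_class hχ.isClassFunction]
  have hgen : IsGeneralizedCharacter G (fun g => rs p N χ (g ^ k) / s) := by
    apply BrauerInd.isGeneralizedCharacter_of_restrict_elementary _ hclass
    intro E q hq hE
    have hnil := MGroups.isNilpotent_of_isElementary hq hE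
    let φ : E →* G :=
      { toFun := fun e => (e : G) ^ k
        map_one' := by simp
        map_mul' := fun a b => by
          have := congrArg (Subtype.val) (hk.mul_pow hp hnil a b)
          simpa using this }
    have hreg : ∀ x ∈ φ.range, ¬ p ∣ orderOf x := by
      rintro x ⟨e, rfl⟩
      exact hk.reg_pow (e : G)
    obtain ⟨l, hl⟩ := h.exists_lin hχ hext (X := N ⊔ φ.range) le_sup_left (not_dvd_relIndex hp hreg)
    let ψ : E →* (N ⊔ φ.range : Subgroup G) := φ.codRestrict _ (fun e => (le_sup_right : φ.range ≤ N ⊔ φ.range) ⟨e, rfl⟩)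
    have h1 : (fun e : E => rs p N χ ((e : G) ^ k) / s) = fun e : E => ((l.comp ψ) e : ℂ) := by
      funext e
      have h2 := hl (ψ e)
      rw [← hs] at h2
      have h3 : ((ψ e : (N ⊔ φ.range : Subgroup G)) : G) = (e : G) ^ k := rfl
      rw [h3] at h2
      rw [h2, mul_div_cancel_right₀ _ hs0]
      rfl
    rw [h1]
    exact ⟨_, 0, isCharacter_of_unitsHom (l.comp ψ), isCharacter_zero, by rw [sub_zero]⟩
  have hnorm : classInner (fun g => rs p N χ (g ^ k) / s) (fun g => rs p N χ (g ^ k) / s) = 1 := by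
    rw [classInner_def]
    have h1 : ∀ g : G, (rs p N χ (g ^ k) / s) * conj (rs p N χ (g ^ k) / s) = 1 := by
      intro g
      have hreg : ∀ x ∈ Subgroup.zpowers (g ^ k), ¬ p ∣ orderOf x := by
        intro x hx hdvd
        obtain ⟨z, rfl⟩ := hx
        refine hk.reg_pow g (hdvd.trans ?_)
        rw [orderOf_dvd_iff_pow_eq_one]
        rw [← zpow_natCast, ← zpow_mul, mul_comm, zpow_mul, zpow_natCast, pow_orderOf_eq_one, one_zpow]
      obtain ⟨l, hl⟩ := h.exists_lin hχ hext (X := N ⊔ Subgroup.zpowers (g ^ k)) le_sup_left (not_dvd_relIndex hp hreg)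
      have h2 := hl ⟨g ^ k, (le_sup_right : Subgroup.zpowers (g ^ k) ≤ _) (Subgroup.mem_zpowers _)⟩
      rw [← hs] at h2
      rw [h2, mul_div_cancel_right₀ _ hs0]
      exact norm_unit l _
    rw [Finset.sum_congr rfl fun g _ => h1 g]
    simp
  have h1 : rs p N χ (1 ^ k) / s = 1 := by rw [one_pow, hone, div_self hs0]
  have hirr := hgen.irr_of_norm_one hnorm (by rw [h1]; simp)
  obtain ⟨β, hβ⟩ := hirr.isCharacter.exists_hom h1
  refine ⟨β, fun g => ?_⟩
  rw [← hβ g, ← hs, div_mul_cancel₀ _ hs0]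

end Cfsg.Agent.Lib.H32PRat
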