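import Cfsg.Agent.Lib.H32PRat4

set_option autoImplicit false
set_option linter.unusedSectionVars false

/-!
# p-rational extensions in the principal block (helper32), part 5
-/

namespace Cfsg.Agent.Lib.H32PRat

open scoped ComplexConjugate Classical
open Cfsg Cfsg.Agent.Lib.CharBasic Cfsg.Agent.Lib.CanonExt Cfsg.Agent.Lib.CosetAvg
open Cfsg.Agent.Lib.BlockRing Cfsg.Agent.Lib.BlockPair Cfsg.Agent.Lib.Clifford

universe u

variable {G : Type u} [Group G] [Finite G] {p : ℕ} {M : Ideal AlgInt}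

theorem twist_irr {N : Subgroup G} [hN : N.Normal] {θ : N → ℂ} (hθ : IsIrrCharacter N θ) {χ : G → ℂ}
    (hχ : IsIrrCharacter G χ) (hext : ∀ n : N, χ n = θ n) (l : G →* ℂˣ) (hl : ∀ n : N, l n = 1) :
    IsIrrCharacter G (fun g => (l g : ℂ) * χ g) ∧ ∀ n : N, (fun g => (l g : ℂ) * χ g) n = θ n := by
  have := Fintype.ofFinite G
  refine ⟨((bijOn hθ hχ hext).mapsTo ⟨isIrrCharacter_of_unitsHom l, fun n => by
    simp only [hl n, map_one]⟩).1, fun n => ?_⟩
  simp only [hl n, hext n, Units.val_one, one_mul]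

theorem lin_mul {N : Subgroup G} (l : G →* ℂˣ) (hl : ∀ n : N, l n = 1) (n : N) (g : G) :
    (fun x => (l x : ℂ)) (n * g) = (fun x => (l x : ℂ)) g := by
  simp only [map_mul, hl n, one_mul]

/-- the adjusted extension -/
theorem Loc.exists_adj {N : Subgroup G} [hN : N.Normal] [Fintype N] {θ : N → ℂ} (h : Loc p N θ) {χ : G → ℂ}
    (hχ : IsIrrCharacter G χ) (hext : ∀ n : N, χ n = θ n) {a m k : ℕ} (hk : PK p G a m k) (hp : p.Prime)
    {d : ℕ} (hd : θ 1 = d) (hpd : ¬ p ∣ d) (hdet : ¬ p ∣ detOrder θ) :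
    ∃ χ2 : G → ℂ, IsIrrCharacter G χ2 ∧ (∀ n : N, χ2 n = θ n) ∧
      (∀ g : G, rs p N χ2 (g ^ k) = ∑ n : N, preg p θ n) ∧ ∀ g : G, (detChar χ2 g) ^ m = 1 := by
  obtain ⟨s, hs⟩ : ∃ s : ℂ, s = ∑ n : N, preg p θ n := ⟨_, rfl⟩
  have hs0 : s ≠ 0 := hs ▸ h.ne
  obtain ⟨β, hβ⟩ := h.exists_beta hχ hext hk hp
  rw [← hs] at hβ ⊢
  have hone : rs p N χ 1 = s := by
    rw [rs_one, hs]
    have : (fun n : N => χ n) = θ := funext hext
    rw [this]
  have hβN : ∀ n : N, β n = 1 := by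
    intro n
    have h1 := hβ (n : G)
    have h2 : rs p N χ ((n : G) ^ k) = s := by
      have h3 := rs_mul (p := p) χ (n ^ k) 1
      rw [hone, mul_one] at h3
      rw [← h3]
      congr 1
    rw [h2] at h1
    apply Units.ext
    have h4 : ((β n : ℂˣ) : ℂ) * s = 1 * s := by rw [one_mul]; exact h1.symm
    exact mul_right_cancel₀ hs0 h4
  have hβk : ∀ g, β (g ^ k) = β g := by
    intro g
    have h1 := hβ (g ^ k)
    rw [hk.pow_pow, hβ g] at h1
    exact (Units.ext (mul_right_cancel₀ hs0 h1)).symm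
  obtain ⟨hχ1, hext1⟩ := twist_irr h.irr hχ hext β⁻¹ (fun n => by rw [MonoidHom.inv_apply, hβN, inv_one])
  obtain ⟨χ1, hχ1d⟩ : ∃ χ1 : G → ℂ, χ1 = fun g => ((β⁻¹ g : ℂˣ) : ℂ) * χ g := ⟨_, rfl⟩
  rw [← hχ1d] at hχ1 hext1
  have hrs1 : ∀ g, rs p N χ1 (g ^ k) = s := by
    intro g
    rw [hχ1d, rs_twist (β := fun g => ((β⁻¹ g : ℂˣ) : ℂ)) (lin_mul β⁻¹ (fun n => by rw [MonoidHom.inv_apply, hβN, inv_one])) χ]
    rw [hβ g]
    simp only [MonoidHom.inv_apply, hβk g]
    rw [← mul_assoc, Units.inv_mul, one_mul]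
  -- the determinant
  obtain ⟨δ, hδ⟩ := DetChar.exists_detHom hχ1.isCharacter
  have hδN : ∀ n : N, (δ n) ^ detOrder θ = 1 := by
    intro n
    apply Units.ext
    rw [Units.val_pow_eq_pow_val, ← hδ, ← DetChar.detChar_restrict hχ1.isCharacter N n]
    have : (fun n : N => χ1 n) = θ := funext hext1
    rw [this]
    have h2 : detChar θ ^ detOrder θ = 1 := pow_orderOf_eq_one _
    have h3 := congrFun h2 n
    rw [Pi.pow_apply] at h3
    exact h3
  obtain ⟨c, hc⟩ : ∃ c, c = d * (detOrder θ * m) := ⟨_, rfl⟩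
  have hcp : c.Coprime (p ^ a) := by
    apply Nat.Coprime.pow_right
    apply Nat.Coprime.symm
    rw [Nat.Prime.coprime_iff_not_dvd hp, hc]
    intro h
    rcases hp.dvd_mul.1 h with h | h
    · exact hpd h
    rcases hp.dvd_mul.1 h with h | h
    · exact hdet h
    · exact hk.hm h
  obtain ⟨y, hy0, hy1⟩ := Nat.chineseRemainder hcp 0 (p ^ a - 1)
  obtain ⟨t, ht⟩ := (Nat.modEq_zero_iff_dvd).1 hy0
  obtain ⟨v, hv⟩ : p ^ a ∣ y + 1 := by
    have h1 : y + 1 ≡ (p ^ a - 1) + 1 [MOD p ^ a] := hy1.add_right 1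
    rw [Nat.sub_add_cancel (Nat.one_le_iff_ne_zero.2 (pow_pos hp.pos a).ne')] at h1
    exact (h1.dvd_iff dvd_rfl).2 dvd_rfl
  obtain ⟨l, hl⟩ : ∃ l : G →* ℂˣ, l = δ ^ (detOrder θ * m * t) := ⟨_, rfl⟩
  have hlN : ∀ n : N, l n = 1 := by
    intro n
    rw [hl, MonoidHom.pow_apply, mul_assoc, pow_mul, hδN, one_pow]
  have hlk : ∀ g, l (g ^ k) = 1 := by
    intro g
    rw [hl, MonoidHom.pow_apply, ← map_pow, ← pow_mul]
    have h1 : Nat.card G ∣ k * (detOrder θ * m * t) := hk.card_dvd.trans ⟨detOrder θ * t, by ring⟩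
    obtain ⟨w, hw⟩ := h1
    rw [hw, pow_mul, pow_card_eq_one', one_pow, map_one]
  obtain ⟨hχ2, hext2⟩ := twist_irr h.irr hχ1 hext1 l hlN
  refine ⟨_, hχ2, hext2, ?_, ?_⟩
  · intro g
    rw [rs_twist (β := fun g => ((l g : ℂˣ) : ℂ)) (lin_mul l hlN) χ1, hrs1]
    simp only [hlk, Units.val_one, one_mul]
  · intro g
    have hχ11 : χ1 1 = d := by
      have := hext1 1
      rw [OneMemClass.coe_one] at this
      rw [this, hd]
    rw [DetChar.detChar_mul_linear hχ1.isCharacter hχ11 l g, hδ, ← Units.val_pow_eq_pow_val, ← Units.val_mul,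
      ← Units.val_pow_eq_pow_val, ← Units.val_one]
    congr 1
    rw [hl, MonoidHom.pow_apply, ← pow_mul, ← pow_succ, ← pow_mul]
    have h1 : (detOrder θ * m * t * d + 1) * m = Nat.card G * v := by
      have h2 : detOrder θ * m * t * d = y := by rw [ht, hc]; ring
      rw [h2, hv, hk.card]; ring
    rw [h1, pow_mul, ← map_pow, pow_card_eq_one', map_one, one_pow]

/-- the adjusted extension is rational -/
theorem fixed_of_adj {N : Subgroup G} [hN : N.Normal] [Fintype N] {θ : N → ℂ} (hθ : IsIrrCharacter N θ) {χ : G → ℂ}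
    (hχ : IsIrrCharacter G χ) (hext : ∀ n : N, χ n = θ n) {a m k : ℕ} (hk : PK p G a m k) (hp : p.Prime)
    {d : ℕ} (hd : θ 1 = d) (hpd : ¬ p ∣ d) {s : ℂ} (hs0 : s ≠ 0) (hrs : ∀ g : G, rs p N χ (g ^ k) = s)
    (hdet : ∀ g : G, (detChar χ g) ^ m = 1) (σ : ℂ →+* ℂ) (hσθ : ∀ n : N, σ (θ n) = θ n)
    (hσm : ∀ z : ℂ, z ^ m = 1 → σ z = z) (g : G) : σ (χ g) = χ g := by
  have hσχ := CharGalois.isIrrCharacter_map hχ σ
  obtain ⟨μ, hμN, hμ⟩ := exists_linear_twist hθ hχ hext hσχ (fun n => by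
    show σ (χ n) = θ n
    rw [hext, hσθ])
  have hreg : preg p (fun g => σ (χ g)) = preg p χ := by
    funext x
    unfold preg
    split_ifs with hx
    · rfl
    · show σ (χ x) = χ x
      rw [CharGalois.map_apply_eq hχ.isCharacter σ 1 x (fun z hz => ?_), pow_one]
      rw [pow_one]
      obtain ⟨c, hc⟩ := hk.dvd_of_reg hp hx
      apply hσm
      rw [hc, pow_mul, hz, one_pow]
  have h1 : ∀ g, μ g ^ k = 1 := by
    intro g
    have h2 : rs p N (fun g => σ (χ g)) (g ^ k) = s := by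
      rw [← hrs g]
      unfold rs
      rw [hreg]
    rw [hμ, rs_twist (β := fun g => ((μ g : ℂˣ) : ℂ)) (lin_mul μ hμN) χ, hrs] at h2
    have h3 : ((μ (g ^ k) : ℂˣ) : ℂ) * s = 1 * s := by rw [one_mul]; exact h2
    have h4 : μ (g ^ k) = 1 := Units.ext (mul_right_cancel₀ hs0 h3)
    rw [← map_pow, h4]
  have hχ1 : χ 1 = d := by
    have := hext 1
    rw [OneMemClass.coe_one] at this
    rw [this, hd]
  have h2 : ∀ g, μ g ^ d = 1 := by
    intro g
    have h3 := GlaubCyc.detChar_map hχ.isCharacter σ g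
    rw [hσm _ (hdet g), hμ, DetChar.detChar_mul_linear hχ.isCharacter hχ1 μ g] at h3
    obtain ⟨δ, hδ⟩ := DetChar.exists_detHom hχ.isCharacter
    rw [hδ] at h3
    apply Units.ext
    rw [Units.val_pow_eq_pow_val]
    have h4 : ((μ g : ℂˣ) : ℂ) ^ d * (δ g : ℂ) = 1 * (δ g : ℂ) := by rw [one_mul]; exact h3
    exact mul_right_cancel₀ (Units.ne_zero _) h4
  have h3 : ∀ g, μ g = 1 := by
    intro g
    rw [← orderOf_eq_one_iff]
    have e1 : orderOf (μ g) ∣ k := orderOf_dvd_of_pow_eq_one (h1 g)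
    have e2 : orderOf (μ g) ∣ d := orderOf_dvd_of_pow_eq_one (h2 g)
    have e3 : orderOf (μ g) ∣ p ^ a * m := by
      rw [← hk.card]
      exact orderOf_dvd_of_pow_eq_one (by rw [← map_pow, pow_card_eq_one', map_one])
    have e4 : orderOf (μ g) ∣ m := by
      refine Nat.Coprime.dvd_of_dvd_mul_left ?_ e3
      apply Nat.Coprime.pow_right
      exact Nat.Coprime.coprime_dvd_left e2 ((Nat.Prime.coprime_iff_not_dvd hp).2 hpd).symm
    have e5 : Nat.Coprime k m := by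
      have := hk.hk1.gcd_eq
      rw [Nat.gcd_one_left] at this
      exact this
    exact Nat.eq_one_of_dvd_coprimes e5 e1 e4
  have h4 := congrFun hμ g
  simp only [h3, Units.val_one, one_mul] at h4
  exact h4

/-- the adjusted extension lies in the principal block -/
theorem mem_of_adj {N : Subgroup G} [hN : N.Normal] [Fintype N] (hM : IsPModular p M) {χ : IrrCharacter G}
    {a m k : ℕ} (hk : PK p G a m k) {s : ℂ} (hs0 : s ≠ 0) (hrs : ∀ g : G, rs p N (χ : G → ℂ) (g ^ k) = s) :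
    χ ∈ principalBlock M G := by
  have := Fintype.ofFinite G
  apply mem_principal_of_sum_ne hM
  intro h0
  have h1 := sum_rs (p := p) (N := N) (χ : G → ℂ)
  rw [h0, mul_zero] at h1
  have h2 : ∀ g : G, rs p N (χ : G → ℂ) g = if (∃ n : N, ¬ p ∣ orderOf ((n : G) * g)) then s else 0 := by
    intro g
    split_ifs with hg
    · obtain ⟨n, hn⟩ := hg
      rw [← rs_mul (χ : G → ℂ) n g, ← hk.pow_reg hM.1 hn, hrs]
    · push Not at hg
      unfold rs
      apply Finset.sum_eq_zero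
      intro n _
      unfold preg
      rw [if_pos (hg n)]
  rw [Finset.sum_congr rfl fun g _ => h2 g, Finset.sum_ite, Finset.sum_const_zero, add_zero, Finset.sum_const,
    nsmul_eq_mul] at h1
  rcases mul_eq_zero.1 h1 with h | h
  · rw [Nat.cast_eq_zero, Finset.card_eq_zero, Finset.filter_eq_empty_iff] at h
    apply h (Finset.mem_univ (1 : G))
    refine ⟨1, ?_⟩
    rw [OneMemClass.coe_one, one_mul, orderOf_one]
    exact fun h => hM.1.one_lt.not_ge (Nat.le_of_dvd one_pos h)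
  · exact hs0 h

end Cfsg.Agent.Lib.H32PRat
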