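import Cfsg.Prelude
import Cfsg.Agent.Lib.H32Sig4
import Cfsg.Agent.Lib.BaerSuzuki
import Cfsg.Agent.Lib.PF14Odd

/-!
# Simple groups with abelian Sylow `2`-subgroups: `σ`-fixed characters (helper32)
-/

set_option autoImplicit false

namespace Cfsg.Agent.Lib.H32Sig5

open Cfsg Cfsg.Agent.Lib.BlockRing Cfsg.Agent.Lib.BlockGA Cfsg.Agent.Lib.BlockIdem
open Cfsg.Agent.Lib.BlockPow Cfsg.Agent.Lib.CharBasic Cfsg.Agent.Lib.BlockDefect
open Cfsg.Agent.Lib.H32Sig3
open scoped ComplexConjugate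

universe u
variable {G : Type u} [Group G] [Finite G] {M : Ideal AlgInt}

theorem coprime_of {k : ℕ} (hk₁ : ∀ g : G, (∃ j : ℕ, orderOf g = 2 ^ j) → g ^ k = g)
    (hk₂ : ∀ g : G, Odd (orderOf g) → g ^ k = g⁻¹) : k.Coprime (Nat.card G) := by
  apply Nat.Coprime.symm
  apply Nat.coprime_of_dvd
  intro r hr hrG hrk
  have : Fact r.Prime := ⟨hr⟩
  obtain ⟨g, hg⟩ := exists_prime_orderOf_dvd_card' r hrG
  have h1 : g ^ k = 1 := by
    rw [← orderOf_dvd_iff_pow_eq_one, hg]; exact hrk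
  have h2 : g = 1 := by
    rcases hr.eq_two_or_odd' with h | h
    · rw [← hk₁ g ⟨1, by rw [hg, h, pow_one]⟩, h1]
    · have h3 := hk₂ g (by rw [hg]; exact h)
      rw [h1] at h3
      exact inv_eq_one.1 h3.symm
  rw [h2, orderOf_one] at hg
  exact hr.one_lt.ne hg

theorem pow_pow_of {k : ℕ} (hk₁ : ∀ g : G, (∃ j : ℕ, orderOf g = 2 ^ j) → g ^ k = g)
    (hk₂ : ∀ g : G, Odd (orderOf g) → g ^ k = g⁻¹) (g : G) : (g ^ k) ^ k = g := by
  -- decompose `g`
  obtain ⟨a, m, hm, hn⟩ := Nat.exists_eq_two_pow_mul_odd (orderOf_pos g).ne'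
  have hcop : Nat.Coprime (2 ^ a) m := Nat.Coprime.pow_left a (Nat.coprime_two_left.2 hm)
  -- u * 2^a + v * m = 1
  have hb := Nat.gcd_eq_gcd_ab (2 ^ a) m
  rw [hcop] at hb
  have e1 : g = (g ^ m) ^ (Nat.gcdB (2 ^ a) m) * (g ^ 2 ^ a) ^ (Nat.gcdA (2 ^ a) m) := by
    rw [← zpow_natCast g m, ← zpow_natCast g (2 ^ a), ← zpow_mul, ← zpow_mul, ← zpow_add]
    conv_lhs => rw [← zpow_one g]
    congr 1
    push_cast at hb ⊢
    linarith
  obtain ⟨x, hx⟩ : ∃ x, x = (g ^ m) ^ (Nat.gcdB (2 ^ a) m) := ⟨_, rfl⟩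
  obtain ⟨z, hz⟩ : ∃ z, z = (g ^ 2 ^ a) ^ (Nat.gcdA (2 ^ a) m) := ⟨_, rfl⟩
  rw [← hx, ← hz] at e1
  have hg1 : g ^ (2 ^ a * m) = 1 := by rw [← hn, pow_orderOf_eq_one]
  have hx1 : x ^ 2 ^ a = 1 := by
    rw [hx, ← zpow_natCast, ← zpow_mul, mul_comm, zpow_mul, zpow_natCast, ← pow_mul, mul_comm, hg1,
      one_zpow]
  have hz1 : z ^ m = 1 := by
    rw [hz, ← zpow_natCast, ← zpow_mul, mul_comm, zpow_mul, zpow_natCast, ← pow_mul, hg1,
      one_zpow]
  have hxk : x ^ k = x := by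
    apply hk₁
    obtain ⟨j, -, hj⟩ := (Nat.dvd_prime_pow Nat.prime_two).1 (orderOf_dvd_of_pow_eq_one hx1)
    exact ⟨j, hj⟩
  have hzk : z ^ k = z⁻¹ := by
    apply hk₂
    exact Odd.of_dvd_nat hm (orderOf_dvd_of_pow_eq_one hz1)
  have hc : Commute x z := by
    rw [hx, hz]
    exact (((Commute.refl g).pow_pow m (2 ^ a)).zpow_zpow _ _)
  have h1 : g ^ k = x * z⁻¹ := by rw [e1, hc.mul_pow, hxk, hzk]
  have hc' : Commute x z⁻¹ := hc.inv_right
  rw [h1, hc'.mul_pow, hxk, inv_pow, hzk, inv_inv, ← e1]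

theorem abelian_of_sylow (P : Sylow 2 G) (hP : IsMulCommutative P) :
    ∀ Q : Subgroup G, IsPGroup 2 Q → ∀ a ∈ Q, ∀ b ∈ Q, a * b = b * a := by
  have : Fact (Nat.Prime 2) := ⟨Nat.prime_two⟩
  intro Q hQ a ha b hb
  obtain ⟨P', hP'⟩ := hQ.exists_le_sylow
  have e : P' ≃* P := Sylow.equiv P' P
  have h1 : (⟨a, hP' ha⟩ : P') * ⟨b, hP' hb⟩ = ⟨b, hP' hb⟩ * ⟨a, hP' ha⟩ := by
    apply e.injective
    rw [map_mul, map_mul]
    exact hP.is_comm.comm _ _
  exact congrArg Subtype.val h1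

theorem not_principal_even (hM : IsPModular 2 M) {k : ℕ} (hk : k.Coprime (Nat.card G))
    (hk₂ : ∀ g : G, Odd (orderOf g) → g ^ k = g⁻¹) {B : Set (IrrCharacter G)} (hB : IsPBlock M B)
    (hst : powIrr hk '' B = B) (hne : B ≠ principalBlock M G) {χ : IrrCharacter G} (hχ : χ ∈ B) :
    Even (charDegree (χ : G → ℂ)) := by
  have := isPrime hM
  by_contra hodd
  apply hne
  have hst' : ∀ {B : Set (IrrCharacter G)}, powIrr hk '' B = B →
      ∀ χ ∈ B, ∃ ψ ∈ B, ∀ g : G, (ψ : G → ℂ) g = (χ : G → ℂ) (g ^ k) := by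
    intro B hst χ hχ
    refine ⟨powIrr hk χ, ?_, fun g => rfl⟩
    rw [← hst]
    exact ⟨χ, hχ, rfl⟩
  apply Contrib2.eq_of_symm_full hM hB Contrib2.isPBlock_principal ?_
    (Contrib2.blockDefect_principal hM)
  · intro g hg
    exact Contrib2.blockCoeff_inv_of_stable hk (hst' hst) (hk₂ g (by
      rw [← Nat.not_even_iff_odd, even_iff_two_dvd]; exact hg))
  · intro g hg
    exact Contrib2.blockCoeff_inv_of_stable hk (hst' (image_principal hk)) (hk₂ g (by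
      rw [← Nat.not_even_iff_odd, even_iff_two_dvd]; exact hg))
  · have h1 : (charDegree (χ : G → ℂ)).factorization 2 = 0 := by
      apply Nat.factorization_eq_zero_of_not_dvd
      rwa [← even_iff_two_dvd]
    unfold blockDefect
    have h2 : sInf ((fun χ : IrrCharacter G => (charDegree (χ : G → ℂ)).factorization 2) '' B) ≤ 0 := by
      apply Nat.sInf_le
      exact ⟨χ, hχ, h1⟩
    omega

theorem exists_principal (hM : IsPModular 2 M) {k : ℕ} (hk : k.Coprime (Nat.card G))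
    (hk₁ : ∀ g : G, (∃ j : ℕ, orderOf g = 2 ^ j) → g ^ k = g)
    (hk2 : ∀ g : G, (g ^ k) ^ k = g) {t : G} (ht : orderOf t = 2) :
    ∃ χ ∈ principalBlock M G, (χ : G → ℂ) ≠ (fun _ => 1) ∧ powIrr hk χ = χ := by
  classical
  have := isPrime hM
  by_contra hcon
  push Not at hcon
  have hB : IsPBlock M (principalBlock M G) := BlockThird.isPBlock_principal
  have h0 := BlockOsima.blockCoeff_eq_zero hM hB (y := t) (by rw [ht])
  rw [blockCoeff_eq_sum] at h0
  have hG : (Nat.card G : ℂ)⁻¹ ≠ 0 := inv_ne_zero (by exact_mod_cast Nat.card_pos.ne')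
  have h1 := (mul_eq_zero.1 h0).resolve_left hG
  have hinv2 : ∀ χ : IrrCharacter G, powIrr hk (powIrr hk χ) = χ :=
    powIrr_powIrr hk hk fun g => by rw [pow_mul]; exact hk2 g
  have hst : ∀ χ : IrrCharacter G, χ ∈ principalBlock M G → powIrr hk χ ∈ principalBlock M G := by
    intro χ hχ
    rw [← image_principal hk]
    exact ⟨χ, hχ, rfl⟩
  have hmem : ∀ χ : IrrCharacter G, powIrr hk χ ∈ principalBlock M G ↔ χ ∈ principalBlock M G := by
    intro χ
    refine ⟨fun h => ?_, hst χ⟩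
    have := hst _ h
    rwa [hinv2] at this
  have h2 := InvolBlock.idl_sum_invol hM (powIrr hk) hinv2
    (fun χ : IrrCharacter G => if χ ∈ principalBlock M G then (χ : G → ℂ) 1 * conj ((χ : G → ℂ) t) else 0)
    (by
      intro χ
      simp only [hmem]
      rw [powIrr_apply, powIrr_apply, one_pow, hk₁ t ⟨1, by rw [ht, pow_one]⟩])
    (by
      intro χ
      split_ifs with h
      · exact loc_mul (loc_value χ.2.isCharacter 1) (loc_conj_value χ.2.isCharacter t)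
      · exact loc_zero)
  rw [h1, zero_sub, idl_neg_iff] at h2
  have h3 : ∑ χ ∈ Finset.univ.filter (fun χ : IrrCharacter G => powIrr hk χ = χ),
      (if χ ∈ principalBlock M G then (χ : G → ℂ) 1 * conj ((χ : G → ℂ) t) else 0) = 1 := by
    rw [Finset.sum_eq_single (BlockThird.triv G)]
    · rw [if_pos BlockThird.triv_mem]
      simp
    · intro χ hχ hne
      rw [if_neg]
      intro h
      apply hcon χ h ?_ (Finset.mem_filter.1 hχ).2
      intro h4
      apply hne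
      apply Subtype.ext
      exact h4
    · intro h
      exfalso
      apply h
      rw [Finset.mem_filter]
      exact ⟨Finset.mem_univ _, Subtype.ext rfl⟩
  rw [h3] at h2
  exact one_not_idl h2

theorem main [IsSimpleGroup G] (hna : ¬ IsMulCommutative G) (P : Sylow 2 G) (hP : IsMulCommutative P)
    (M : Ideal Cfsg.AlgInt) (hM : Cfsg.IsPModular 2 M) (k : ℕ)
    (hk₁ : ∀ g : G, (∃ j : ℕ, orderOf g = 2 ^ j) → g ^ k = g)
    (hk₂ : ∀ g : G, Odd (orderOf g) → g ^ k = g⁻¹) :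
    (∃ χ₁ : Cfsg.IrrCharacter G, Even (Cfsg.charDegree (χ₁ : G → ℂ)) ∧
      ∀ g : G, (χ₁ : G → ℂ) (g ^ k) = (χ₁ : G → ℂ) g) ∧
    ∃ χ₂ ∈ Cfsg.principalBlock M G, (χ₂ : G → ℂ) ≠ (fun _ => 1) ∧
      ∀ g : G, (χ₂ : G → ℂ) (g ^ k) = (χ₂ : G → ℂ) g := by
  have : Fact (Nat.Prime 2) := ⟨Nat.prime_two⟩
  have hk := coprime_of hk₁ hk₂
  have hk2 := pow_pow_of hk₁ hk₂
  have hab := abelian_of_sylow P hP
  have hns : ¬ Group.IsSolvable G := by
    intro h
    apply hna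
    have h1 := (IsSimpleGroup.comm_iff_isSolvable (G := G)).2 h
    exact ⟨⟨h1⟩⟩
  have heven : 2 ∣ Nat.card G := by
    rw [← even_iff_two_dvd, ← Nat.not_odd_iff_even]
    intro h
    exact hns (PF14Odd.odd_order h)
  obtain ⟨t, ht⟩ := exists_prime_orderOf_dvd_card' 2 heven
  have htt : t * t = 1 := by
    have := pow_orderOf_eq_one t
    rwa [ht, sq] at this
  obtain ⟨y, hy1, hyo, hinv⟩ := BaerSuzuki.exists_inverted_odd t ht (by
    intro N hN hNp htN
    rcases hN.eq_bot_or_eq_top with h | h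
    · rw [h, Subgroup.mem_bot] at htN
      rw [htN, orderOf_one] at ht
      omega
    · apply hns
      have h1 : IsPGroup 2 G := by
        rw [h] at hNp
        exact hNp.of_equiv Subgroup.topEquiv
      have := h1.isNilpotent
      infer_instance)
  have hfix : ∀ χ : IrrCharacter G, powIrr hk χ = χ → ∀ g : G, (χ : G → ℂ) (g ^ k) = (χ : G → ℂ) g := by
    intro χ hχ g
    rw [← powIrr_apply hk χ g, hχ]
  constructor
  · obtain ⟨B, hB, hBst, hBne⟩ := H32Sig4.exists_block hM hab hk hk2 htt hinv hy1 hyo (hk₂ y hyo)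
    obtain ⟨χ, hχ, hχfix⟩ := H32Sig2.exists_fixed hM hk hk2 hB (by
      intro χ hχ
      rw [← hBst]
      exact ⟨χ, hχ, rfl⟩)
    exact ⟨χ, not_principal_even hM hk hk₂ hB hBst hBne hχ, hfix χ hχfix⟩
  · obtain ⟨χ, hχ, hχ1, hχfix⟩ := exists_principal hM hk hk₁ hk2 ht
    exact ⟨χ, hχ, hχ1, hfix χ hχfix⟩

end Cfsg.Agent.Lib.H32Sig5
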