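import Mathlib
import Cfsg.Prelude.Def_Local
import Cfsg.Agent.Lib.SylAmb
import Cfsg.Agent.Lib.RelSylow

/-! Tightly embedded subgroups: basic facts (helper32). -/

set_option autoImplicit false
open scoped Pointwise

namespace Cfsg.Agent.Lib.H32Tight

open Subgroup Cfsg.Agent.Lib.RelSylow

variable {G : Type*} [Group G]

/-- a 2-subgroup of odd order is trivial -/
theorem eq_bot_of_odd [Finite G] {X D : Subgroup G} (hX : IsPGroup 2 X) (hXD : X ≤ D)
    (hD : Odd (Nat.card D)) : X = ⊥ := by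
  obtain ⟨n, hn⟩ := IsPGroup.iff_card.mp hX
  have h1 : Nat.card X ∣ Nat.card D := card_dvd_of_le hXD
  rw [hn] at h1
  rcases n with _ | n
  · exact Subgroup.card_eq_one.mp (by simpa using hn)
  · exfalso
    have : 2 ∣ Nat.card D := (dvd_pow_self 2 (Nat.succ_ne_zero n)).trans h1
    exact (Nat.not_even_iff_odd.mpr hD) (even_iff_two_dvd.mpr this)

theorem isTightlyEmbedded_conj {Q : Subgroup G} (hQ : IsTightlyEmbedded Q) (x : G) :
    IsTightlyEmbedded (Q.map (MulAut.conj x).toMonoidHom) := by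
  constructor
  · rw [card_map_of_injective (MulAut.conj x).injective]; exact hQ.1
  · intro g hg
    have h1 : x⁻¹ * g * x ∉ normalizer (Q : Set G) := by
      intro h
      apply hg
      rw [← normalizer_conj, mem_conj_iff]
      exact h
    have h2 := hQ.2 _ h1
    have h3 : (Q.map (MulAut.conj x).toMonoidHom) ⊓ (Q.map (MulAut.conj x).toMonoidHom).map (MulAut.conj g).toMonoidHom
        = (Q ⊓ Q.map (MulAut.conj (x⁻¹ * g * x)).toMonoidHom).map (MulAut.conj x).toMonoidHom := by
      rw [Subgroup.map_inf _ _ _ (MulAut.conj x).injective, conj_conj, conj_conj]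
      congr 3
      group
    rw [h3, card_map_of_injective (MulAut.conj x).injective]
    exact h2

theorem mem_normalizer_of_conj_le [Finite G] {Q : Subgroup G} (hQ : IsTightlyEmbedded Q) {X : Subgroup G}
    (hX : IsPGroup 2 X) (hX1 : X ≠ ⊥) (hXQ : X ≤ Q) {g : G}
    (h : X.map (MulAut.conj g).toMonoidHom ≤ Q) : g ∈ normalizer (Q : Set G) := by
  by_contra hg
  apply hX1
  have h1 : X.map (MulAut.conj g).toMonoidHom ≤ Q ⊓ Q.map (MulAut.conj g).toMonoidHom :=
    le_inf h (map_mono hXQ)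
  have h2 := eq_bot_of_odd (hX.map _) h1 (hQ.2 g hg)
  exact (map_eq_bot_iff_of_injective _ (MulAut.conj g).injective).mp h2

theorem normalizer_le [Finite G] {Q : Subgroup G} (hQ : IsTightlyEmbedded Q) {X : Subgroup G}
    (hX : IsPGroup 2 X) (hX1 : X ≠ ⊥) (hXQ : X ≤ Q) :
    normalizer (X : Set G) ≤ normalizer (Q : Set G) := by
  intro g hg
  apply mem_normalizer_of_conj_le hQ hX hX1 hXQ
  rw [conj_eq_of_mem_normalizer hg]
  exact hXQ

section main
variable [Finite G]

/-- the situation of the basic lemma -/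
structure Sit (Q T S : Subgroup G) (g : G) : Prop where
  te : IsTightlyEmbedded Q
  hg : g ∉ normalizer (Q : Set G)
  ht1 : T ≠ ⊥
  syl : IsSyl 2 T (Q.map (MulAut.conj g).toMonoidHom ⊓ normalizer (Q : Set G))
  hTS : T ≤ S
  sylS : IsSyl 2 S (Q ⊔ T)

variable {Q T S : Subgroup G} {g : G}

theorem Sit.T_inf (h : Sit Q T S g) : T ⊓ Q = ⊥ := by
  apply eq_bot_of_odd (h.syl.2.1.to_le inf_le_left) (D := Q ⊓ Q.map (MulAut.conj g).toMonoidHom) _ (h.te.2 g h.hg)
  exact le_inf inf_le_right (inf_le_left.trans (h.syl.1.trans inf_le_left))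

omit [Finite G] in
theorem Sit.T_norm (h : Sit Q T S g) : T ≤ normalizer (Q : Set G) := h.syl.1.trans inf_le_right

theorem Sit.comm (h : Sit Q T S g) : ⁅T, S ⊓ normalizer (T : Set G) ⊓ Q⁆ = ⊥ := by
  rw [eq_bot_iff, ← h.T_inf, commutator_le]
  intro t ht r hr
  constructor
  · have : r * t⁻¹ * r⁻¹ ∈ T := (mem_normalizer_iff.mp hr.1.2 t⁻¹).mp (T.inv_mem ht)
    rw [commutatorElement_def, show t * r * t⁻¹ * r⁻¹ = t * (r * t⁻¹ * r⁻¹) by group]
    exact T.mul_mem ht this
  · have : t * r * t⁻¹ ∈ Q := (mem_normalizer_iff.mp (h.T_norm ht) r).mp hr.2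
    rw [commutatorElement_def]
    exact Q.mul_mem this (Q.inv_mem hr.2)

omit [Finite G] in
theorem Sit.mem_sup (h : Sit Q T S g) {x : G} (hx : x ∈ S) : ∃ q ∈ Q, ∃ t ∈ T, q * t = x := by
  have h1 := h.sylS.1 hx
  have h2 := coe_mul_of_right_le_normalizer_left Q T h.T_norm
  rw [← SetLike.mem_coe, h2] at h1
  exact Set.mem_mul.mp h1

omit [Finite G] in
theorem Sit.sup (h : Sit Q T S g) :
    T ⊔ (S ⊓ normalizer (T : Set G) ⊓ Q) = S ⊓ normalizer (T : Set G) := by
  apply le_antisymm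
  · exact sup_le (le_inf h.hTS le_normalizer) inf_le_left
  · rintro x ⟨hxS, hxN⟩
    obtain ⟨q, hq, t, ht, rfl⟩ := h.mem_sup hxS
    have ht' : t ∈ S ⊓ normalizer (T : Set G) := ⟨h.hTS ht, le_normalizer ht⟩
    have hq' : q ∈ S ⊓ normalizer (T : Set G) := by
      have := (S ⊓ normalizer (T : Set G)).mul_mem ⟨hxS, hxN⟩ (inv_mem ht')
      simpa using this
    exact mul_mem (le_sup_right (a := T) ⟨hq', hq⟩) (le_sup_left (a := T) ht)

omit [Finite G] in
theorem Sit.S_norm (h : Sit Q T S g) : S ≤ normalizer (Q : Set G) :=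
  h.sylS.1.trans (sup_le le_normalizer h.T_norm)

theorem Sit.embed (h : Sit Q T S g) :
    ∃ f : T →* ↥(S ⊓ normalizer (T : Set G) ⊓ Q), Function.Injective f := by
  classical
  haveI : Fact (Nat.Prime 2) := ⟨Nat.prime_two⟩
  by_cases hW : S ≤ normalizer (T : Set G)
  · have h1 : IsSyl 2 (S ⊓ Q) Q := h.sylS.inf le_sup_left (sup_le le_normalizer h.T_norm)
    have hle : T.map (MulAut.conj g⁻¹).toMonoidHom ≤ Q := by
      have := map_mono (f := (MulAut.conj g⁻¹).toMonoidHom) (h.syl.1.trans inf_le_left)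
      rwa [conj_conj, inv_mul_cancel, conj_one] at this
    obtain ⟨k, hk, hk2⟩ := h1.exists_conj_le (h.syl.2.1.map _) hle
    have hmem : ∀ t ∈ T, (k⁻¹ * g⁻¹) * t * (k⁻¹ * g⁻¹)⁻¹ ∈ S ⊓ normalizer (T : Set G) ⊓ Q := by
      intro t ht
      have h2 := hk2 (mem_map_of_mem _ ht)
      rw [mem_conj_iff] at h2
      have h3 : k⁻¹ * (MulAut.conj g⁻¹).toMonoidHom t * k = (k⁻¹ * g⁻¹) * t * (k⁻¹ * g⁻¹)⁻¹ := by
        simp [mul_assoc]
      rw [h3] at h2
      exact ⟨⟨h2.1, hW h2.1⟩, h2.2⟩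
    refine ⟨MonoidHom.mk' (fun t => ⟨(k⁻¹ * g⁻¹) * (t : G) * (k⁻¹ * g⁻¹)⁻¹, hmem t t.2⟩) ?_, ?_⟩
    · intro a b
      apply Subtype.ext
      simp only [Subgroup.coe_mul]
      group
    · intro a b hab
      have := congrArg Subtype.val hab
      simp only [MonoidHom.mk'_apply] at this
      exact Subtype.ext (mul_left_cancel (mul_right_cancel this))
  · set W := S ⊓ normalizer (T : Set G) with hWdef
    have hWS : W < S := lt_of_le_of_ne inf_le_left (fun e => hW (by rw [← e]; exact inf_le_right))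
    have h1 := Cfsg.Agent.Lib.SylAmb.lt_inf_normalizer h.sylS.2.1 hWS
    obtain ⟨s, hs, hsW⟩ := Set.exists_of_ssubset h1
    have hsW' : ∀ x ∈ W, s * x * s⁻¹ ∈ W := fun x hx => (mem_normalizer_iff.mp hs.2 x).mp hx
    have hTW : T ≤ W := le_inf h.hTS le_normalizer
    have hSQ : IsPGroup 2 (S ⊓ (Q.map (MulAut.conj g).toMonoidHom ⊓ normalizer (Q : Set G)) : Subgroup G) :=
      h.sylS.2.1.to_le inf_le_left
    have hT_eq := h.syl.eq_of_le hSQ inf_le_right (le_inf h.hTS h.syl.1)
    have hbot : ∀ t ∈ T, s * t * s⁻¹ ∈ T → t = 1 := by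
      by_contra hcon
      push Not at hcon
      obtain ⟨t, ht, hst, ht1⟩ := hcon
      set X := T ⊓ T.map (MulAut.conj s⁻¹).toMonoidHom with hX
      have htX : t ∈ X := by
        refine mem_inf.mpr ⟨ht, ?_⟩
        rw [mem_conj_iff]
        simpa using hst
      have hX1 : X ≠ ⊥ := by
        intro e
        rw [e] at htX
        exact ht1 (by simpa using htX)
      have hTQ : T ≤ Q.map (MulAut.conj g).toMonoidHom := h.syl.1.trans inf_le_left
      have hsN : s ∈ normalizer ((Q.map (MulAut.conj g).toMonoidHom : Subgroup G) : Set G) := by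
        apply mem_normalizer_of_conj_le (isTightlyEmbedded_conj h.te g)
          (h.syl.2.1.to_le (inf_le_left : X ≤ T)) hX1 ((inf_le_left : X ≤ T).trans hTQ)
        have h2 : X.map (MulAut.conj s).toMonoidHom ≤ T := by
          have := map_mono (f := (MulAut.conj s).toMonoidHom) (inf_le_right : X ≤ _)
          rwa [conj_conj, mul_inv_cancel, conj_one] at this
        exact h2.trans hTQ
      apply hsW
      refine SetLike.mem_coe.mpr (mem_inf.mpr ⟨hs.1, ?_⟩)
      rw [mem_normalizer_iff_map]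
      apply Subgroup.eq_of_le_of_card_ge
      · rw [hT_eq]
        rintro _ ⟨y, hy, rfl⟩
        have hyS : y ∈ S := hy.1
        have e1 : (MulAut.conj s).toMonoidHom y = s * y * s⁻¹ := rfl
        rw [e1]
        refine ⟨S.mul_mem (S.mul_mem hs.1 hyS) (S.inv_mem hs.1), ?_, ?_⟩
        · exact (mem_normalizer_iff.mp hsN y).mp hy.2.1
        · have hsn := h.S_norm hs.1
          exact (normalizer (Q : Set G)).mul_mem ((normalizer (Q : Set G)).mul_mem hsn hy.2.2)
            ((normalizer (Q : Set G)).inv_mem hsn)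
      · rw [card_map_of_injective (MulAut.conj s).injective]
    -- now build the map
    haveI hN : (T.subgroupOf W).Normal := by
      constructor
      rintro ⟨n, hn⟩ hnT ⟨w, hw⟩
      rw [mem_subgroupOf] at hnT ⊢
      exact (mem_normalizer_iff.mp hw.2 n).mp hnT
    let φ1 : T →* W ⧸ (T.subgroupOf W) := MonoidHom.mk'
      (fun t => QuotientGroup.mk' (T.subgroupOf W) ⟨s * (t : G) * s⁻¹, hsW' t (hTW t.2)⟩) (by
        intro a b
        rw [← map_mul]
        congr 1
        apply Subtype.ext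
        simp only [Subgroup.coe_mul]
        group)
    let φ2 : ↥(W ⊓ Q) →* W ⧸ (T.subgroupOf W) :=
      (QuotientGroup.mk' (T.subgroupOf W)).comp (Subgroup.inclusion inf_le_left)
    have hφ1 : Function.Injective φ1 := by
      rw [injective_iff_map_eq_one]
      intro t ht
      have : (⟨s * (t : G) * s⁻¹, hsW' t (hTW t.2)⟩ : W) ∈ T.subgroupOf W :=
        (QuotientGroup.eq_one_iff _).mp ht
      rw [mem_subgroupOf] at this
      exact Subtype.ext (hbot t t.2 this)
    have hφ2 : Function.Bijective φ2 := by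
      constructor
      · rw [injective_iff_map_eq_one]
        intro r hr
        have h3 : (Subgroup.inclusion inf_le_left r : W) ∈ T.subgroupOf W :=
          (QuotientGroup.eq_one_iff _).mp hr
        rw [mem_subgroupOf] at h3
        have h4 : (r : G) ∈ T ⊓ Q := ⟨h3, r.2.2⟩
        rw [h.T_inf] at h4
        exact Subtype.ext (by simpa using h4)
      · intro y
        obtain ⟨⟨w, hw⟩, rfl⟩ := QuotientGroup.mk'_surjective _ y
        have h5 := hw
        rw [hWdef, ← h.sup] at h5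
        have h6 : (S ⊓ normalizer (T : Set G) ⊓ Q) ≤ normalizer (T : Set G) :=
          inf_le_left.trans inf_le_right
        have h7 := coe_mul_of_left_le_normalizer_right (S ⊓ normalizer (T : Set G) ⊓ Q) T h6
        rw [sup_comm, ← SetLike.mem_coe, h7] at h5
        obtain ⟨r, hr, t, ht, rfl⟩ := Set.mem_mul.mp h5
        refine ⟨⟨r, hr⟩, ?_⟩
        apply QuotientGroup.eq.mpr
        rw [mem_subgroupOf]
        simpa using ht
    let e := MulEquiv.ofBijective φ2 hφ2
    exact ⟨e.symm.toMonoidHom.comp φ1, e.symm.injective.comp hφ1⟩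

theorem Sit.card_le (h : Sit Q T S g) :
    Nat.card ↥(S ⊓ normalizer (T : Set G) ⊓ Q) ≤ Nat.card T := by
  haveI : Fact (Nat.Prime 2) := ⟨Nat.prime_two⟩
  set R := S ⊓ normalizer (T : Set G) ⊓ Q with hR
  set Q' := Q.map (MulAut.conj g).toMonoidHom with hQ'
  have hTQ : T ≤ Q' := h.syl.1.trans inf_le_left
  have te' : IsTightlyEmbedded Q' := isTightlyEmbedded_conj h.te g
  have hR2 : IsPGroup 2 R := h.sylS.2.1.to_le (inf_le_left.trans inf_le_left)
  have hRle : R ≤ Q ⊓ normalizer (Q' : Set G) :=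
    le_inf inf_le_right ((inf_le_left.trans inf_le_right : R ≤ normalizer (T : Set G)).trans
      (normalizer_le te' h.syl.2.1 h.ht1 hTQ))
  obtain ⟨R1, hRR1, hR1⟩ := exists_isSyl_ge hR2 hRle
  obtain ⟨S', hS', hS'syl⟩ := exists_isSyl_ge hR1.2.1 (le_sup_right : R1 ≤ Q' ⊔ R1)
  have hRbot : R ≠ ⊥ := by
    intro e
    obtain ⟨f, hf⟩ := h.embed
    apply h.ht1
    rw [eq_bot_iff_forall]
    intro x hx
    have h1 : (f ⟨x, hx⟩ : G) ∈ (R : Subgroup G) := (f ⟨x, hx⟩).2
    rw [e, mem_bot] at h1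
    have h2 : f ⟨x, hx⟩ = f 1 := by rw [map_one]; exact Subtype.ext h1
    exact congrArg Subtype.val (hf h2)
  have hsit : Sit Q' R1 S' g⁻¹ := by
    refine ⟨te', ?_, ?_, ?_, hS', hS'syl⟩
    · rw [hQ', ← normalizer_conj, mem_conj_iff]
      intro hcon
      apply h.hg
      have : g⁻¹ * g⁻¹ * g = g⁻¹ := by group
      rw [this] at hcon
      exact inv_mem_iff.mp hcon
    · intro e
      apply hRbot
      rw [e] at hRR1
      exact le_bot_iff.mp hRR1
    · have : Q'.map (MulAut.conj g⁻¹).toMonoidHom = Q := by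
        rw [hQ', conj_conj, inv_mul_cancel, conj_one]
      rw [this]
      exact hR1
  obtain ⟨f, hf⟩ := hsit.embed
  calc Nat.card R ≤ Nat.card R1 := Subgroup.card_le_of_le hRR1
    _ ≤ Nat.card ↥(S' ⊓ normalizer (R1 : Set G) ⊓ Q') := Nat.card_le_card_of_injective f hf
    _ ≤ Nat.card T := by
      apply h.syl.card_le (hS'syl.2.1.to_le (inf_le_left.trans inf_le_left))
      refine le_inf inf_le_right ?_
      exact (inf_le_left.trans inf_le_right : (S' ⊓ normalizer (R1 : Set G) ⊓ Q') ≤ normalizer (R1 : Set G)).trans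
        (normalizer_le h.te hR1.2.1 hsit.ht1 (hR1.1.trans inf_le_left))

theorem Sit.nonempty_equiv (h : Sit Q T S g) :
    Nonempty (↥(S ⊓ normalizer (T : Set G) ⊓ Q) ≃* T) := by
  obtain ⟨f, hf⟩ := h.embed
  have h1 := h.card_le
  have hb : Function.Bijective f := hf.bijective_of_nat_card_le h1
  exact ⟨(MulEquiv.ofBijective f hb).symm⟩

end main

end Cfsg.Agent.Lib.H32Tight
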