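import Cfsg.Agent.Lib.NilMain
import Cfsg.Agent.Lib.WSup

/-! Normal `p`-complement theorems for other characteristic functors (S0628). -/

set_option autoImplicit false
set_option linter.unusedSectionVars false

namespace Cfsg.Agent.Lib.NilFunctors

open Subgroup Cfsg.Agent.Lib.CFSylow Cfsg.Agent.Lib.ClsStab Cfsg.Agent.Lib.NilCtrl
open Cfsg.Agent.Lib.RelSylow (IsSyl)
open scoped commutatorElement

universe u

variable {p : ℕ} [hp : Fact p.Prime]

/-- the groups in `Cls p` have abelian Sylow 2-subgroups (`p` odd). -/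
theorem cls_sylow_two (hp2 : p ≠ 2) {X : Type u} [Group X] [Finite X] (h : Cls p X) (T : Sylow 2 X) :
    IsMulCommutative T := by
  have h2 : Fact (Nat.Prime 2) := ⟨Nat.prime_two⟩
  obtain ⟨Q, K, hQn, hKn, hQK, hQ, hab, hrel, k, hk⟩ := h
  have hodd : Nat.Coprime 2 p := by
    rw [Nat.coprime_primes Nat.prime_two hp.out]; exact fun h => hp2 h.symm
  -- `T ≤ K`
  have hTK : (T : Subgroup X) ≤ K := by
    intro x hx
    obtain ⟨m, hm⟩ := T.isPGroup' ⟨x, hx⟩
    have hm' : x ^ 2 ^ m = 1 := congrArg Subtype.val hm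
    have h1 : x ^ p ^ k ∈ K := by rw [← hk]; exact pow_index_mem K x
    apply mem_of_pow_coprime (m := 2 ^ m) (n := p ^ k) (Nat.Coprime.pow _ _ hodd) (by rw [hm']; exact one_mem _) h1
  have hTQ : (T : Subgroup X) ⊓ Q = ⊥ := by
    rw [eq_bot_iff]
    intro x hx
    obtain ⟨m, hm⟩ := T.isPGroup' ⟨x, hx.1⟩
    have hm' : x ^ 2 ^ m = 1 := congrArg Subtype.val hm
    obtain ⟨n, hn⟩ := hQ ⟨x, hx.2⟩
    have hn' : x ^ p ^ n = 1 := congrArg Subtype.val hn
    exact mem_of_pow_coprime (M := ⊥) (m := 2 ^ m) (n := p ^ n) (Nat.Coprime.pow _ _ hodd)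
      (by rw [hm']; exact one_mem _) (by rw [hn']; exact one_mem _)
  refine ⟨⟨fun x y => ?_⟩⟩
  have h1 : ⁅(x : X), (y : X)⁆ ∈ (T : Subgroup X) ⊓ Q := by
    refine mem_inf.2 ⟨?_, hab (commutator_mem_commutator (hTK x.2) (hTK y.2))⟩
    exact mul_mem (mul_mem (mul_mem x.2 y.2) (inv_mem x.2)) (inv_mem y.2)
  rw [hTQ, mem_bot, commutatorElement_eq_one_iff_mul_comm] at h1
  exact Subtype.ext h1

theorem cls_not_involves (hp2 : p ≠ 2) {X : Type u} [Group X] [Finite X] (h : Cls p X) :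
    ¬ Cfsg.Involves (Matrix.SpecialLinearGroup (Fin 2) (ZMod p)) X :=
  PStabInvolve.not_involves_sl2_of_abelian hp2 (cls_sylow_two hp2 h)

theorem snc_isChar : Cfsg.IsCharPFunctor.{u} p (fun Q _ => Cfsg.stableNormalClosure p Q) := by
  refine ⟨?_, ?_⟩
  · intro Q _ _ hQ hn h0
    have h1 := StableClosure.omega_center_le (p := p) (S := Q)
    change Cfsg.stableNormalClosure p Q = ⊥ at h0
    rw [h0] at h1
    obtain ⟨z, hz1, hzp, hz⟩ := ClosedPS.exists_central_order_p (p := p) hQ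
    apply hz1
    rw [← mem_bot]
    apply h1
    exact subset_closure ⟨hz, hzp⟩
  · intro Q R _ _ _ _ φ
    exact StableClosure.snc_map φ

theorem sylIn_iff {X : Type u} [Group X] {S H : Subgroup X} : SylIn p S H ↔ IsSyl p S H :=
  ⟨fun h => ⟨h.le, h.isPGroup, h.not_dvd⟩, fun h => ⟨h.1, h.2.1, h.2.2⟩⟩

theorem nil_W (hp2 : p ≠ 2) {G : Type u} [Group G] [Finite G] (S : Sylow p G)
    (hN : Cfsg.HasNormalPComplement p ↥(normalizer (((Cfsg.stableNormalClosure p ↥(S : Subgroup G)).map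
      (S : Subgroup G).subtype) : Set G))) : Cfsg.HasNormalPComplement p G := by
  have hS := sylIn_sylow S
  refine NilMain.nil_all (fl := True) (W := fun Q _ => Cfsg.stableNormalClosure p Q) snc_isChar ?_
    (S : Subgroup G) (S : Subgroup G) hS (ClosedCF.ClosedIn.self _ _) (fun _ => rfl) hN
  intro X _ _ hX _ hc S D hS hD hDS
  have hDS' := hDS trivial
  subst hDS'
  obtain ⟨Q, hQ⟩ := (sylIn_iff.1 hS).toSylow
  rw [← hQ]
  exact WNormal.main (PStabInvolve.isActionPStable hp2 PStabInvolve.obst_sl2 (cls_not_involves hp2 hX)) hc Q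

end Cfsg.Agent.Lib.NilFunctors
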