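import Cfsg.Agent.Lib.ThompsonFact
import Cfsg.Agent.Lib.NilFunctors
import Cfsg.Agent.Lib.ZJLocal
import Cfsg.Agent.S3082

/-! Thompson's normal `p`-complement theorem (S0108). -/

set_option autoImplicit false
set_option linter.unusedSectionVars false

namespace Cfsg.Agent.Lib.ThompsonNil

open Subgroup Cfsg.Agent.Lib.CFSylow Cfsg.Agent.Lib.CFFusion Cfsg.Agent.Lib.CFControl
  Cfsg.Agent.Lib.CFLocal Cfsg.Agent.Lib.CFCore Cfsg.Agent.Lib.CFSection Cfsg.Agent.Lib.CFMin
  Cfsg.Agent.Lib.CFMain Cfsg.Agent.Lib.CFRed Cfsg.Agent.Lib.CFStmt Cfsg.Agent.Lib.ClosedCF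
  Cfsg.Agent.Lib.ClosedPS Cfsg.Agent.Lib.ClosedWF Cfsg.Agent.Lib.ClsStab Cfsg.Agent.Lib.NilCtrl
  Cfsg.Agent.Lib.NilMain Cfsg.Agent.Lib.NilFunctors
open Cfsg.Agent.Lib.RelSylow (IsSyl)
open Cfsg.Agent.Lib.ThompsonJ (J)

universe u

variable {p : ℕ} [hp : Fact p.Prime]

/-- in a minimal situation the group is in `Cls p`. -/
theorem cls_of_minimal {X : Type u} [Group X] [Finite X] {S : Subgroup X}
    (hO : Cfsg.pPrimeCore p X = ⊥) (hS : SylIn p S ⊤)
    (hsub : ∀ H : Subgroup X, S ≤ H → H ≠ ⊤ → Cfsg.HasNormalPComplement p ↥H)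
    (hquot : Cfsg.HasNormalPComplement p (X ⧸ Cfsg.pCore p X)) (hSQ : S ≠ Cfsg.pCore p X) : Cls p X := by
  have hQn : (Cfsg.pCore p X).Normal := pCore_normal p X
  set Q := Cfsg.pCore p X with hQdef
  have hQp : IsPGroup p Q := pCore_isPGroup
  have hQS : Q ≤ S := pCore_le hS
  set π := QuotientGroup.mk' Q with hπ
  have hpi : Function.Surjective π := QuotientGroup.mk'_surjective Q
  have hker : ∀ {x : X}, π x = 1 ↔ x ∈ Q := fun {x} => by
    rw [← MonoidHom.mem_ker, QuotientGroup.ker_mk']
  have hS' : SylIn p (S.map π) ⊤ := SylIn.map_surj hpi hS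
  have hc : centralizer (Q : Set X) ≤ Q := constrained_of_nil_quotient hO hquot
  obtain ⟨N, hNn, hNp, k, hk⟩ := PNilp.hasNormalPComplement_iff.1 hquot
  have hN1 : N ≠ ⊥ := by
    rintro rfl
    have h1 : IsPGroup p (X ⧸ Q) := by
      apply IsPGroup.of_card (n := k)
      rw [← hk, Subgroup.index_bot]
    apply hSQ
    refine le_antisymm ?_ hQS
    have h2 : IsPGroup p X := by
      intro x
      obtain ⟨j, hj⟩ := h1 (π x)
      rw [← map_pow, hker] at hj
      obtain ⟨i, hi⟩ := hQp ⟨_, hj⟩
      refine ⟨j + i, ?_⟩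
      have := congrArg Subtype.val hi
      rw [pow_add, pow_mul]
      simpa using this
    exact le_pCore (N := ⊤) inferInstance (h2.to_subgroup _) |>.trans' le_top
  obtain ⟨A, hAN, hA1, hAc, hSA⟩ := exists_abelian_invariant (p := p) hNn hNp hN1 hS'
  have htop : (A ⊔ S.map π).comap π = ⊤ := by
    by_contra hne
    have hSH : S ≤ (A ⊔ S.map π).comap π := by
      rw [← Subgroup.map_le_iff_le_comap]; exact le_sup_right
    have h1 := isPGroup_of_nil_constrained hQn hQp hc (hQS.trans hSH) (hsub _ hSH hne)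
    apply hA1
    rw [eq_bot_iff]
    intro a ha
    obtain ⟨x, rfl⟩ := hpi a
    have hx : x ∈ (A ⊔ S.map π).comap π := by
      show π x ∈ A ⊔ S.map π
      exact Subgroup.mem_sup_left ha
    obtain ⟨j, hj⟩ := h1 ⟨x, hx⟩
    have hj' : x ^ p ^ j = 1 := congrArg Subtype.val hj
    have h2 : (π x) ^ p ^ j = 1 := by rw [← map_pow, hj', map_one]
    have h3 : orderOf (π x) ∣ Nat.card N := by
      have := orderOf_dvd_natCard (⟨π x, hAN ha⟩ : N)
      rwa [Subgroup.orderOf_mk] at this
    have h4 : orderOf (π x) ∣ 1 := by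
      have := Nat.dvd_gcd h3 (orderOf_dvd_of_pow_eq_one h2)
      rwa [Nat.Coprime.gcd_eq_one (Nat.Coprime.pow_right j
        ((Nat.Prime.coprime_iff_not_dvd (Fact.out : p.Prime)).2 hNp).symm)] at this
    rw [Nat.dvd_one, orderOf_eq_one_iff] at h4
    rw [Subgroup.mem_bot]; exact h4
  have htop' : A ⊔ S.map π = ⊤ := by
    rw [eq_top_iff]
    intro y _
    obtain ⟨x, rfl⟩ := hpi y
    have : x ∈ (A ⊔ S.map π).comap π := htop ▸ Subgroup.mem_top x
    exact this
  have hNA : N = A := by
    refine le_antisymm ?_ hAN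
    intro n hn
    have h1 : n ∈ S.map π ⊔ A := by rw [sup_comm, htop']; exact Subgroup.mem_top n
    obtain ⟨s, hs, a, ha, rfl⟩ := (mem_sup_of_le_nz hSA).1 h1
    have h2 : s ∈ N := by
      have : s = s * a * a⁻¹ := by group
      rw [this]
      exact N.mul_mem hn (N.inv_mem (hAN ha))
    have h3 : s = 1 := pgroup_inf_eq_one hNp hS'.isPGroup h2 hs
    rw [h3, one_mul]; exact ha
  refine ⟨Q, N.comap π, hQn, inferInstance, ?_, hQp, ?_, ?_, k, ?_⟩
  · intro x hx
    show π x ∈ N
    rw [hker.2 hx]; exact one_mem _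
  · have h1 : (⁅N.comap π, N.comap π⁆).map π = ⊥ := by
      rw [Subgroup.map_commutator, Subgroup.map_comap_eq_self_of_surjective hpi, hNA, hAc]
    rw [Subgroup.map_eq_bot_iff, hπ, QuotientGroup.ker_mk'] at h1
    exact h1
  · have h1 : π.ker = Q := QuotientGroup.ker_mk' Q
    have h2 := Subgroup.relIndex_ker (K := N.comap π) π
    rw [h1, Subgroup.map_comap_eq_self_of_surjective hpi] at h2
    rw [h2]
    exact ((Nat.Prime.coprime_iff_not_dvd (Fact.out : p.Prime)).2 hNp).symm
  · rw [Subgroup.index_comap_of_surjective _ hpi, hk]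

/-- a group with trivial Sylow `p`-subgroup. -/
theorem nil_of_bot {X : Type u} [Group X] [Finite X] (hS : SylIn p (⊥ : Subgroup X) ⊤) :
    Cfsg.HasNormalPComplement p X := by
  rw [PNilp.hasNormalPComplement_iff]
  refine ⟨⊤, inferInstance, ?_, 0, by simp⟩
  have h := hS.not_dvd
  rwa [Subgroup.relIndex_bot_left] at h

theorem nil_of_isPGroup {X : Type u} [Group X] [Finite X] (h : IsPGroup p X) : Cfsg.HasNormalPComplement p X := by
  rw [PNilp.hasNormalPComplement_iff]
  obtain ⟨k, hk⟩ := IsPGroup.iff_card.1 h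
  refine ⟨⊥, inferInstance, ?_, k, by rw [index_bot, hk]⟩
  rw [card_bot]
  exact hp.out.one_lt.ne' ∘ (fun h => Nat.dvd_one.1 h)

/-- the first part of the reduction: all proper subgroups containing `S` are `p`-nilpotent, `O_{p'} = 1`, then
`G` is `p`-nilpotent or in `Cls p` with `C(O_p) ≤ O_p`. -/
theorem reduction (hp2 : p ≠ 2) {X : Type u} [Group X] [Finite X] {S : Subgroup X}
    (hO : Cfsg.pPrimeCore p X = ⊥) (hS : SylIn p S ⊤)
    (hsub : ∀ H : Subgroup X, S ≤ H → H ≠ ⊤ → Cfsg.HasNormalPComplement p ↥H) :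
    Cfsg.HasNormalPComplement p X ∨ S = Cfsg.pCore p X ∨
      (Cls p X ∧ centralizer (Cfsg.pCore p X : Set X) ≤ Cfsg.pCore p X) := by
  by_contra hcon
  push Not at hcon
  obtain ⟨hX, hSQ, hcon⟩ := hcon
  have hQn : (Cfsg.pCore p X).Normal := pCore_normal p X
  set Q := Cfsg.pCore p X with hQdef
  have hQS : Q ≤ S := pCore_le hS
  set π := QuotientGroup.mk' Q with hπ
  have hpi : Function.Surjective π := QuotientGroup.mk'_surjective Q
  have hS' : SylIn p (S.map π) ⊤ := SylIn.map_surj hpi hS
  have hquot : Cfsg.HasNormalPComplement p (X ⧸ Q) := by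
    by_cases hb : S.map π = ⊥
    · rw [hb] at hS'
      exact nil_of_bot hS'
    · obtain ⟨P', hP'⟩ := (sylIn_iff.1 hS').toSylow
      have hZ1 : ZJThm.ZJ (fun A => IsMulCommutative A) (S.map π) ≠ ⊥ := ZJLocal.ZJ_ne_bot hS'.isPGroup hb
      set Wb := ZJThm.ZJ (fun A => IsMulCommutative A) (S.map π) with hWb
      have hWp : IsPGroup p Wb := hS'.isPGroup.to_le ((ZJThm.fam_ab (p := p)).ZJ_le_self _)
      have hne : normalizer (Wb : Set (X ⧸ Q)) ≠ ⊤ := by
        intro h
        apply hZ1
        have h1 : Wb ≤ Cfsg.pCore p (X ⧸ Q) := le_pCore (normalizer_eq_top_iff.1 h) hWp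
        rw [Cores.pCore_quotient_pCore p X, le_bot_iff] at h1
        exact h1
      have hSn : S.map π ≤ normalizer (Wb : Set (X ⧸ Q)) :=
        le_normalizer.trans ((ZJThm.fam_ab (p := p)).normalizer_le (S.map π))
      have h2 : Cfsg.HasNormalPComplement p ↥((normalizer (Wb : Set (X ⧸ Q))).comap π) := by
        apply hsub
        · rw [← Subgroup.map_le_iff_le_comap]; exact hSn
        · intro h
          apply hne
          have h3 := congrArg (fun Y => Subgroup.map π Y) h
          simp only [Subgroup.map_comap_eq_self_of_surjective hpi, map_top_of_surjective π hpi] at h3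
          exact h3
      have h4 : Cfsg.HasNormalPComplement p ↥(normalizer (Wb : Set (X ⧸ Q))) := by
        have h5 := PNilp.HasNormalPComplement.of_surjective h2 (π.subgroupMap _) (π.subgroupMap_surjective _)
        rwa [Subgroup.map_comap_eq_self_of_surjective hpi] at h5
      refine Cfsg.Agent.S3082.result hp2 P' (P' : Subgroup (X ⧸ Q)) ⟨le_rfl, fun _ _ _ h => h⟩ (Or.inl ?_)
      rw [ZJThm.centerThompsonAOf_eq, hP']
      exact h4
  exact hcon (cls_of_minimal hO hS hsub hquot hSQ) (constrained_of_nil_quotient hO hquot)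

/-- `C_G(Z(S))` -/
abbrev CZ {X : Type u} [Group X] (S : Subgroup X) : Subgroup X :=
  centralizer ((S ⊓ centralizer (S : Set X) : Subgroup X) : Set X)

abbrev JE (p : ℕ) {X : Type u} [Group X] (S : Subgroup X) : Subgroup X := J (Cfsg.IsElementaryAbelian p) S

theorem le_CZ {X : Type u} [Group X] (S : Subgroup X) : S ≤ CZ S := by
  rw [le_centralizer_iff]; exact inf_le_right

theorem le_normalizer_JE {X : Type u} [Group X] (S : Subgroup X) : S ≤ normalizer (JE p S : Set X) :=
  le_normalizer.trans (ThompsonJ.normalizer_le_normalizer_J_elem S)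

theorem main (hp2 : p ≠ 2) (n : ℕ) : ∀ (X : Type u) [Group X] [Finite X], Nat.card X ≤ n →
    ∀ S : Subgroup X, SylIn p S ⊤ → Cfsg.HasNormalPComplement p ↥(normalizer (JE p S : Set X)) →
      Cfsg.HasNormalPComplement p ↥(CZ S) → Cfsg.HasNormalPComplement p X := by
  induction n with
  | zero =>
    intro X _ _ hn
    exact absurd hn (not_le.2 Nat.card_pos)
  | succ n ih =>
    intro X _ _ hn S hS hJ hZ
    -- proper subgroups containing `S`
    have hsub : ∀ H : Subgroup X, S ≤ H → H ≠ ⊤ → Cfsg.HasNormalPComplement p ↥H := by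
      intro H hSH hH
      have hlt : Nat.card H < Nat.card X := by
        refine lt_of_le_of_ne (Subgroup.card_le_card_group H) ?_
        intro h
        exact hH (Subgroup.card_eq_iff_eq_top H |>.1 h)
      have hS' : SylIn p (S.subgroupOf H) ⊤ := by
        rw [sylIn_iff]
        exact ZJLocal.isSyl_subgroupOf (sylIn_iff.1 (hS.of_le hSH le_top))
      have hmap : (S.subgroupOf H).map H.subtype = S := ZJLocal.map_subgroupOf hSH
      refine ih ↥H (by omega) (S.subgroupOf H) hS' ?_ ?_
      · have h1 : (JE p (S.subgroupOf H)).map H.subtype = JE p S := by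
          rw [JE, ThompsonJ.map_J_elem H.subtype_injective, hmap]
        have h2 : ∀ x : ↥(normalizer (JE p (S.subgroupOf H) : Set ↥H)),
            (((x : ↥H) : X)) ∈ normalizer (JE p S : Set X) := by
          intro x
          rw [← h1]
          exact le_normalizer_map H.subtype (mem_map_of_mem H.subtype x.2)
        let f : ↥(normalizer (JE p (S.subgroupOf H) : Set ↥H)) →* ↥(normalizer (JE p S : Set X)) :=
          (H.subtype.comp (normalizer (JE p (S.subgroupOf H) : Set ↥H)).subtype).codRestrict _ h2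
        refine PNilp.HasNormalPComplement.of_injective hJ f ?_
        intro x y hxy
        have : ((x : ↥H) : X) = ((y : ↥H) : X) := congrArg (fun z : ↥(normalizer (JE p S : Set X)) => (z : X)) hxy
        exact Subtype.ext (Subtype.ext this)
      · have h2 : ∀ x : ↥(CZ (S.subgroupOf H)), (((x : ↥H) : X)) ∈ CZ S := by
          intro x
          have hx := x.2
          rw [mem_centralizer_iff] at hx
          show ((x : ↥H) : X) ∈ centralizer ((S ⊓ centralizer (S : Set X) : Subgroup X) : Set X)
          rw [mem_centralizer_iff]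
          intro z hz
          have hzH : z ∈ H := hSH hz.1
          have h3 : (⟨z, hzH⟩ : ↥H) ∈ S.subgroupOf H ⊓ centralizer ((S.subgroupOf H : Subgroup ↥H) : Set ↥H) := by
            refine mem_inf.2 ⟨mem_subgroupOf.2 hz.1, ?_⟩
            rw [mem_centralizer_iff]
            intro y hy
            apply Subtype.ext
            exact mem_centralizer_iff.1 hz.2 y (mem_subgroupOf.1 hy)
          exact congrArg Subtype.val (hx _ h3)
        let f : ↥(CZ (S.subgroupOf H)) →* ↥(CZ S) :=
          (H.subtype.comp (CZ (S.subgroupOf H)).subtype).codRestrict _ h2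
        refine PNilp.HasNormalPComplement.of_injective hZ f ?_
        intro x y hxy
        have : ((x : ↥H) : X) = ((y : ↥H) : X) := congrArg (fun z : ↥(CZ S) => (z : X)) hxy
        exact Subtype.ext (Subtype.ext this)
    -- `O_{p'}`
    by_cases hO : Cfsg.pPrimeCore p X = ⊥
    swap
    · have hOn : (Cfsg.pPrimeCore p X).Normal := pPrimeCore_normal p X
      have hOp : ¬ p ∣ Nat.card (Cfsg.pPrimeCore p X) := pPrimeCore_not_dvd
      apply PNilp.HasNormalPComplement.of_quotient (Cfsg.pPrimeCore p X) hOp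
      set π := QuotientGroup.mk' (Cfsg.pPrimeCore p X) with hπ
      have hpi : Function.Surjective π := QuotientGroup.mk'_surjective _
      have hS' : SylIn p (S.map π) ⊤ := SylIn.map_surj hpi hS
      have hinj : ∀ x ∈ S, π x = 1 → x = 1 := fun x hx h =>
        WSup.eq_one_of_mem_pPrimeCore hS.isPGroup hx ((QuotientGroup.eq_one_iff x).1 h)
      refine ih _ ?_ (S.map π) hS' ?_ ?_
      · have := card_quotient_lt hO
        omega
      · have h1 : JE p (S.map π) = (JE p S).map π := (FactorizeQuot.map_J_elem_of_injOn π S hinj).symm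
        rw [h1, ← PConstraint.map_normalizer_eq hOp (hS.isPGroup.to_le ThompsonJ.J_le)]
        exact PNilp.HasNormalPComplement.of_surjective hJ (π.subgroupMap _) (π.subgroupMap_surjective _)
      · have h1 : CZ (S.map π) = (CZ S).map π := by
          unfold CZ
          rw [← FactorizeQuot.map_center_of_injOn π S hinj,
            ← PConstraint.map_centralizer_eq hOp (hS.isPGroup.to_le inf_le_left)]
        rw [h1]
        exact PNilp.HasNormalPComplement.of_surjective hZ (π.subgroupMap _) (π.subgroupMap_surjective _)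
    rcases reduction hp2 hO hS hsub with h | h | ⟨hX, hc⟩
    · exact h
    · -- `S` normal
      have hQn : (Cfsg.pCore p X).Normal := pCore_normal p X
      have h1 : normalizer (JE p S : Set X) = ⊤ := by
        rw [eq_top_iff]
        refine le_trans ?_ (ThompsonJ.normalizer_le_normalizer_J_elem S)
        rw [h, normalizer_eq_top_iff.2 hQn]
      rw [h1] at hJ
      exact PNilp.HasNormalPComplement.of_mulEquiv hJ Subgroup.topEquiv
    · have hQn : (Cfsg.pCore p X).Normal := pCore_normal p X
      have hQS : Cfsg.pCore p X ≤ S := pCore_le hS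
      obtain ⟨-, hfac⟩ := ThompsonFact.factor hp2 hc (fun V _ hV => hX.stable hp2 V hV) (sylIn_iff.1 hS)
        (Z := S ⊓ centralizer (S : Set X)) inf_le_right
      have hJp := isPGroup_of_nil_constrained hQn pCore_isPGroup hc (hQS.trans (le_normalizer_JE S)) hJ
      have hZp := isPGroup_of_nil_constrained hQn pCore_isPGroup hc (hQS.trans (le_CZ S)) hZ
      have hJS : normalizer (JE p S : Set X) ≤ S := (hS.eq_of_le (le_normalizer_JE S) hJp le_top).ge
      have hZS : CZ S ≤ S := (hS.eq_of_le (le_CZ S) hZp le_top).ge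
      have htop : S = ⊤ := by
        rw [eq_top_iff]
        intro g _
        obtain ⟨c, hc', n, hn', rfl⟩ := hfac g
        exact mul_mem (hZS (centralizer_le subset_normalClosure hc')) (hJS hn')
      apply nil_of_isPGroup
      have h1 := hS.isPGroup
      rw [htop] at h1
      exact h1.of_equiv Subgroup.topEquiv

end Cfsg.Agent.Lib.ThompsonNil
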