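import Mathlib
import Cfsg.Agent.Lib.H34ZJCrit
import Cfsg.Agent.Lib.H34AxGrp
import Cfsg.Agent.Lib.FusionPull
import Cfsg.Agent.Lib.ThompsonNil
import Cfsg.Agent.Lib.ConstrainedLocal

/-!
# The axiomatic Glauberman–Thompson criterion for fusion systems (helper34)
-/

set_option autoImplicit false

universe u v

namespace Cfsg.Agent.Lib.H34AxZJ

open Cfsg Cfsg.FusionSystem Cfsg.Agent.Lib.FusionBasic Cfsg.Agent.Lib.FusionSat Cfsg.Agent.Lib.FusionNormal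
  Cfsg.Agent.Lib.FusionSys Cfsg.Agent.Lib.FusionNormSat Cfsg.Agent.Lib.H34Chain Cfsg.Agent.Lib.FusionTools
  Cfsg.Agent.Lib.FusionQuot Cfsg.Agent.Lib.H34Reduce Cfsg.Agent.Lib.H34Lift Cfsg.Agent.Lib.H34Local
  Cfsg.Agent.Lib.FusionRealized Cfsg.Agent.Lib.FusionGroup Cfsg.Agent.Lib.H34Functor Cfsg.Agent.Lib.H34Center
  Cfsg.Agent.Lib.H34JCenter Cfsg.Agent.Lib.H34Inner Cfsg.Agent.Lib.H34CharInner Cfsg.Agent.Lib.H34Sparse
  Cfsg.Agent.Lib.H34ZJCrit Cfsg.Agent.Lib.H34AxGrp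
open scoped commutatorElement

section overg

variable {Ω : Type*} [Group Ω] {S : Subgroup Ω} {F : FusionSystem S} {P Q R D V : Subgroup Ω} {f g : Ω → Ω} {p : ℕ}
variable {G : Type*} [Group G] {ι : S →* G}

theorem j_eq_lift : FusionPull.j ι = lift ι := by
  funext x
  by_cases hx : x ∈ S
  · rw [FusionPull.j_of_mem ι hx, lift_of_mem hx]
  · unfold FusionPull.j lift
    rw [dif_neg hx]

/-- The system induced by an overgroup of the Sylow subgroup. -/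
theorem exists_over [Finite G] [Fact p.Prime] (hι : Function.Injective ι) (T : Sylow p G) (hT : (T : Subgroup G) = ι.range)
    (K : Subgroup G) (hTK : ι.range ≤ K) : ∃ D : FusionSystem S, D.IsSaturated p ∧ ∀ P f, FMap D P f ↔
      P ≤ S ∧ (∀ x ∈ P, f x ∈ S) ∧ ∃ g ∈ K, ∀ x ∈ P, lift ι (f x) = g * lift ι x * g⁻¹ := by
  have hT1 : FusionPull.T1 ι K = S := by
    ext x
    rw [FusionPull.mem_T1]
    refine ⟨fun h => h.1, fun h => ⟨h, hTK (FusionPull.j_mem_range ι h)⟩⟩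
  obtain ⟨D, hD1, hD2⟩ := exists_cast hT1 (FusionPull.pull hι K)
  refine ⟨D, ?_, ?_⟩
  · rw [hD2]
    have hle : (T : Subgroup G) ≤ K := hT.le.trans hTK
    refine isSaturated_of_isRealizedBy _ (FusionPull.pull_isRealizedBy hι K) (T.subtype hle) ?_
    rw [Sylow.coe_subtype]
    ext x
    rw [Subgroup.mem_subgroupOf, hT]
    constructor
    · rintro ⟨y, hy⟩
      refine ⟨⟨y, by rw [hT1]; exact y.2⟩, ?_⟩
      apply Subtype.ext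
      rw [FusionPull.pullHom_coe, FusionPull.j_coe]
      exact hy
    · rintro ⟨y, hy⟩
      have h1 := congrArg Subtype.val hy
      rw [FusionPull.pullHom_coe] at h1
      rw [← h1]
      exact FusionPull.j_mem_range ι (FusionPull.T1_le K y.2)
  · intro P f
    rw [hD1, FusionPull.fmap_pull_iff, hT1, j_eq_lift]

theorem range_maximal [Finite G] [Fact p.Prime] (hr : F.IsRealizedBy ι) (T : Sylow p G) (hT : (T : Subgroup G) = ι.range)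
    (hQS : Q ≤ S) (hOn : (im ι Q).Normal) (hOc : Subgroup.centralizer (im ι Q : Set G) ≤ im ι Q)
    (h2 : ∀ E : FusionSystem S, E.IsSaturated p → (∀ P f, FMap E P f → FMap F P f) →
      (∀ P f, FMap F P f → FMap E P f) ∨ (∀ P f, FMap E P f → Inn' S P f))
    (K : Subgroup G) (hTK : ι.range ≤ K) (hK : K ≠ ⊤) : K = ι.range := by
  obtain ⟨D, hD1, hD2⟩ := exists_over hr.1 T hT K hTK
  have himQ : im ι Q ≤ ι.range := by
    intro y hy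
    obtain ⟨x, hx, rfl⟩ := (mem_im_iff' hQS).1 hy
    rw [lift_of_mem (hQS hx)]; exact ⟨_, rfl⟩
  have hconj : ∀ g : G, ∀ x ∈ Q, g * lift ι x * g⁻¹ ∈ ι.range := fun g x hx =>
    himQ (hOn.conj_mem _ ((mem_im_iff' hQS).2 ⟨x, hx, rfl⟩) g)
  -- two elements acting in the same way on `Q`
  have key : ∀ (g k : G) (f : Ω → Ω), (∀ x ∈ Q, lift ι (f x) = g * lift ι x * g⁻¹) →
      (∀ x ∈ Q, lift ι (f x) = k * lift ι x * k⁻¹) → k⁻¹ * g ∈ ι.range := by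
    intro g k f hg hk
    apply himQ
    apply hOc
    refine mem_centralizer_iff'.2 fun y hy => ?_
    obtain ⟨x, hx, rfl⟩ := (mem_im_iff' hQS).1 hy
    calc k⁻¹ * g * lift ι x * (k⁻¹ * g)⁻¹ = k⁻¹ * (g * lift ι x * g⁻¹) * k := by group
      _ = lift ι x := by rw [← hg x hx, hk x hx]; group
  rcases h2 D hD1 (fun P f hf => by
    obtain ⟨h3, h4, g, -, h5⟩ := (hD2 P f).1 hf
    exact (fmap_realized_iff hr).2 ⟨h3, h4, g, h5⟩) with h | h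
  · exfalso
    apply hK
    rw [eq_top_iff]
    intro g _
    obtain ⟨f, hf, hfg⟩ := exists_fmap_of_conj hr hQS g (hconj g)
    obtain ⟨-, -, k, hk, hfk⟩ := (hD2 Q f).1 (h Q f hf)
    have h6 := hTK (key g k f hfg hfk)
    have e : g = k * (k⁻¹ * g) := by group
    rw [e]; exact K.mul_mem hk h6
  · refine le_antisymm ?_ hTK
    intro k hk
    obtain ⟨f, hf, hfk⟩ := exists_fmap_of_conj hr hQS k (hconj k)
    have hfD : FMap D Q f := (hD2 Q f).2 ⟨hQS, fun x hx => hf.map_mem hx, k, hk, hfk⟩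
    obtain ⟨s, hs, hfs⟩ := h Q f hfD
    have hιs : ι ⟨s, hs⟩ ∈ ι.range := ⟨_, rfl⟩
    have h6 := key k (ι ⟨s, hs⟩) f hfk (fun x hx => by rw [hfs x hx, lift_conj hs (hQS hx), lift_of_mem hs])
    have e : k = ι ⟨s, hs⟩ * ((ι ⟨s, hs⟩)⁻¹ * k) := by group
    rw [e]; exact ι.range.mul_mem hιs h6

/-- preimage in `S` -/
def pr (ι : S →* G) (Q' : Subgroup G) : Subgroup Ω := (Q'.comap ι).map S.subtype

theorem pr_le (Q' : Subgroup G) : pr ι Q' ≤ S := by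
  rintro _ ⟨x, -, rfl⟩; exact x.2

theorem mem_pr {Q' : Subgroup G} {x : Ω} : x ∈ pr ι Q' ↔ x ∈ S ∧ lift ι x ∈ Q' := by
  constructor
  · rintro ⟨x, hx, rfl⟩
    exact ⟨x.2, by rw [show (S.subtype x : Ω) = (x : Ω) from rfl, lift_coe]; exact hx⟩
  · rintro ⟨h1, h2⟩
    rw [lift_of_mem h1] at h2
    exact ⟨⟨x, h1⟩, h2, rfl⟩

theorem im_pr {Q' : Subgroup G} (h : Q' ≤ ι.range) : im ι (pr ι Q') = Q' := by
  ext y
  rw [mem_im_iff' (pr_le Q')]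
  constructor
  · rintro ⟨x, hx, rfl⟩; exact (mem_pr.1 hx).2
  · intro hy
    obtain ⟨x, rfl⟩ := h hy
    exact ⟨x, mem_pr.2 ⟨x.2, by rw [lift_coe]; exact hy⟩, lift_coe x⟩

theorem im_le_im_iff (hι : Function.Injective ι) (hP : P ≤ S) (hQ : Q ≤ S) : im ι P ≤ im ι Q ↔ P ≤ Q := by
  constructor
  · intro h x hx
    exact (lift_mem_im_iff hι hQ (hP hx)).1 (h ((mem_im_iff' hP).2 ⟨x, hx, rfl⟩))
  · intro h y hy
    obtain ⟨x, hx, rfl⟩ := (mem_im_iff' hP).1 hy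
    exact (mem_im_iff' hQ).2 ⟨x, h hx, rfl⟩

theorem im_commutator (hP : P ≤ S) (hQ : Q ≤ S) : im ι ⁅P, Q⁆ = ⁅im ι P, im ι Q⁆ := by
  have h1 : (⁅P, Q⁆).subgroupOf S = ⁅P.subgroupOf S, Q.subgroupOf S⁆ := by
    apply Subgroup.map_injective S.subtype_injective
    have h3 : ⁅P, Q⁆ ≤ S := (Subgroup.commutator_mono hP hQ).trans (Subgroup.commutator_le_self S)
    rw [Subgroup.map_commutator, Subgroup.subgroupOf_map_subtype, Subgroup.subgroupOf_map_subtype,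
      Subgroup.subgroupOf_map_subtype, inf_eq_left.2 h3, inf_eq_left.2 hP, inf_eq_left.2 hQ]
  show ((⁅P, Q⁆).subgroupOf S).map ι = _
  rw [h1, Subgroup.map_commutator]

theorem im_bot : im ι (⊥ : Subgroup Ω) = ⊥ := by
  rw [eq_bot_iff]
  intro y hy
  obtain ⟨x, hx, rfl⟩ := (mem_im_iff' bot_le).1 hy
  rw [Subgroup.mem_bot] at hx
  rw [hx, lift_one]
  exact Subgroup.mem_bot.2 rfl

theorem im_le_range (hP : P ≤ S) : im ι P ≤ ι.range := by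
  intro y hy
  obtain ⟨x, hx, rfl⟩ := (mem_im_iff' hP).1 hy
  rw [lift_of_mem (hP hx)]; exact ⟨_, rfl⟩

variable [Finite S]

/-- transfer of the axioms to a realizing group -/
theorem ax_of (hr : F.IsRealizedBy ι) (𝒜 : Set (Subgroup Ω)) (h𝒜 : ∀ A ∈ 𝒜, A ≤ S ∧ IsMulCommutative ↥A)
    (hne : 𝒜.Nonempty)
    (hinv : ∀ Q : Subgroup Ω, Q ≤ S → (∃ A ∈ 𝒜, A ≤ Q) → ∀ f, FMap F Q f → (∀ x ∈ Q, f x ∈ Q) → ∀ x ∈ Q, x ∈ IA 𝒜 Q →
      f x ∈ IA 𝒜 Q)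
    (hrep : ∀ B : Subgroup Ω, B ≤ S → ⁅⁅B, B⁆, B⁆ = ⊥ → (∃ A ∈ 𝒜, ⁅B, B⁆ ≤ A ∧ ¬ B ≤ A) →
      ∃ A ∈ 𝒜, ⁅B, B⁆ ≤ A ∧ ¬ B ≤ A ∧ B ≤ Subgroup.normalizer (A : Set Ω)) :
    Ax ι.range ((fun A => im ι A) '' 𝒜) := by
  refine ⟨?_, ?_, ?_, ?_, ?_⟩
  · rintro _ ⟨A, hA, rfl⟩
    exact im_le_range (h𝒜 A hA).1
  · rintro _ ⟨A, hA, rfl⟩
    obtain ⟨h1, h2⟩ := h𝒜 A hA
    have h3 := (Subgroup.commutator_self_eq_bot_iff (H := A)).2 h2
    rw [← Subgroup.commutator_self_eq_bot_iff]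
    show ⁅im ι A, im ι A⁆ = ⊥
    rw [← im_commutator h1 h1, h3, im_bot]
  · exact hne.image _
  · rintro Q' hQ' ⟨_, ⟨A₀, hA₀, rfl⟩, hA₀Q⟩ g hg
    set Q := pr ι Q' with hQ
    have hQS : Q ≤ S := pr_le Q'
    have hQQ : im ι Q = Q' := im_pr hQ'
    have hle : ∀ A ∈ 𝒜, (im ι A ≤ Q' ↔ A ≤ Q) := fun A hA => by
      rw [← hQQ]; exact im_le_im_iff hr.1 (h𝒜 A hA).1 hQS
    have hA₀Q' : A₀ ≤ Q := (hle A₀ hA₀).1 hA₀Q
    obtain ⟨f, hf, hfg⟩ := exists_fmap_of_conj hr hQS g (fun x hx => by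
      apply hQ'
      exact (Subgroup.mem_normalizer_iff.1 hg _).1 (mem_pr.1 hx).2)
    have hfQ : ∀ x ∈ Q, f x ∈ Q := fun x hx => by
      refine mem_pr.2 ⟨hf.map_mem hx, ?_⟩
      rw [hfg x hx]
      exact (Subgroup.mem_normalizer_iff.1 hg _).1 (mem_pr.1 hx).2
    have hI : im ι (IA 𝒜 Q) = IA ((fun A => im ι A) '' 𝒜) Q' := by
      have hIS : IA 𝒜 Q ≤ S := (IA_le hA₀ hA₀Q').trans (h𝒜 A₀ hA₀).1
      ext y
      rw [mem_im_iff' hIS, mem_IA]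
      constructor
      · rintro ⟨x, hx, rfl⟩ _ ⟨A, hA, rfl⟩ hAQ
        exact (mem_im_iff' (h𝒜 A hA).1).2 ⟨x, mem_IA.1 hx A hA ((hle A hA).1 hAQ), rfl⟩
      · intro h
        obtain ⟨x, hx, rfl⟩ := (mem_im_iff' (h𝒜 A₀ hA₀).1).1 (h _ ⟨A₀, hA₀, rfl⟩ hA₀Q)
        refine ⟨x, mem_IA.2 fun A hA hAQ => ?_, rfl⟩
        exact (lift_mem_im_iff hr.1 (h𝒜 A hA).1 ((h𝒜 A₀ hA₀).1 hx)).1 (h _ ⟨A, hA, rfl⟩ ((hle A hA).2 hAQ))
    have hIQ : IA 𝒜 Q ≤ Q := (IA_le hA₀ hA₀Q').trans hA₀Q'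
    rw [← hI]
    refine FusionGroup.mem_normalizer_of_forall ι ?_
    intro y hy
    obtain ⟨x, hx, rfl⟩ := (mem_im_iff' (hIQ.trans hQS)).1 hy
    rw [← hfg x (hIQ hx)]
    exact (mem_im_iff' (hIQ.trans hQS)).2 ⟨_, hinv Q hQS ⟨A₀, hA₀, hA₀Q'⟩ f hf hfQ x (hIQ hx) hx, rfl⟩
  · rintro B' hB' hB3 ⟨_, ⟨A₀, hA₀, rfl⟩, hBA, hnBA⟩
    set B := pr ι B' with hB
    have hBS : B ≤ S := pr_le B'
    have hBB : im ι B = B' := im_pr hB'
    have hcS : ⁅B, B⁆ ≤ S := (Subgroup.commutator_mono hBS hBS).trans (Subgroup.commutator_le_self S)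
    have hcc : im ι ⁅B, B⁆ = ⁅B', B'⁆ := by rw [im_commutator hBS hBS, hBB]
    have h3 : ⁅⁅B, B⁆, B⁆ = ⊥ := by
      have hle : ⁅⁅B, B⁆, B⁆ ≤ S := (Subgroup.commutator_mono hcS hBS).trans (Subgroup.commutator_le_self S)
      rw [eq_bot_iff, ← im_le_im_iff hr.1 hle bot_le, im_commutator hcS hBS, hcc, hBB, hB3]
      exact bot_le
    obtain ⟨A, hA, h4, h5, h6⟩ := hrep B hBS h3 ⟨A₀, hA₀, by
      rw [← im_le_im_iff hr.1 hcS (h𝒜 A₀ hA₀).1, hcc]; exact hBA, fun h => hnBA (by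
        rw [← hBB]; exact (im_le_im_iff hr.1 hBS (h𝒜 A₀ hA₀).1).2 h)⟩
    have hAS := (h𝒜 A hA).1
    refine ⟨_, ⟨A, hA, rfl⟩, ?_, ?_, ?_⟩
    · rw [← hcc]; exact (im_le_im_iff hr.1 hcS hAS).2 h4
    · intro h
      exact h5 ((im_le_im_iff hr.1 hBS hAS).1 (by rw [hBB]; exact h))
    · intro b hb
      rw [← hBB] at hb
      obtain ⟨x, hx, rfl⟩ := (mem_im_iff' hBS).1 hb
      refine FusionGroup.mem_normalizer_of_forall ι ?_
      intro y hy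
      obtain ⟨a, ha, rfl⟩ := (mem_im_iff' hAS).1 hy
      rw [← lift_conj (hBS hx) (hAS ha)]
      exact (mem_im_iff' hAS).2 ⟨_, (Subgroup.mem_normalizer_iff.1 (h6 hx) a).1 ha, rfl⟩

end overg

section main

variable {Ω : Type u} [Group Ω] {S : Subgroup Ω} {F : FusionSystem S} {P Q R D V : Subgroup Ω} {f g : Ω → Ω} {p : ℕ}
variable [Fact p.Prime] [Finite S]

theorem ax_crit (hp : p ≠ 2) (hS : IsPGroup p S) (hF : F.IsSaturated p) (𝒜 : Set (Subgroup Ω))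
    (h𝒜 : ∀ A ∈ 𝒜, A ≤ S ∧ IsMulCommutative ↥A) (hne : 𝒜.Nonempty)
    (hinv : ∀ Q : Subgroup Ω, Q ≤ S → (∃ A ∈ 𝒜, A ≤ Q) → ∀ f, FMap F Q f → (∀ x ∈ Q, f x ∈ Q) → ∀ x ∈ Q, x ∈ IA 𝒜 Q →
      f x ∈ IA 𝒜 Q)
    (hrep : ∀ B : Subgroup Ω, B ≤ S → ⁅⁅B, B⁆, B⁆ = ⊥ → (∃ A ∈ 𝒜, ⁅B, B⁆ ≤ A ∧ ¬ B ≤ A) →
      ∃ A ∈ 𝒜, ⁅B, B⁆ ≤ A ∧ ¬ B ≤ A ∧ B ≤ Subgroup.normalizer (A : Set Ω))
    (hN : ∀ P f, FMap F P f → ExtN F (IA 𝒜 S) P f → Inn' S P f) : ∀ P f, FMap F P f → Inn' S P f := by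
  by_contra hcon
  obtain ⟨E, hE1, hE2, hE3, hE4⟩ := exists_sparse hF hcon
  obtain ⟨h2, h3, -⟩ := sparse_constrained hS hE1 (Or.inl hp) hE3 hE4
  obtain ⟨G, _, ι, hM⟩ := FusionModel.exists_isModel hS ⟨hE1, E.core, h2, h3⟩
  obtain ⟨hGf, hr, ⟨T, hT⟩, hcen⟩ := id hM
  have hQS := h2.1
  obtain ⟨A₀, hA₀⟩ := hne
  have hVS : IA 𝒜 S ≤ S := (IA_le hA₀ (h𝒜 A₀ hA₀).1).trans (h𝒜 A₀ hA₀).1
  have hOQ : im ι E.core = pCore p G := im_core_eq hM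
  have hOn : (im ι E.core).Normal := by rw [hOQ]; exact FusionNormal.pCore_normal (p := p) (X := G)
  have hOc : Subgroup.centralizer (im ι E.core : Set G) ≤ im ι E.core := by rw [hOQ]; exact hcen
  have h4 := normalizer_le_of_inn hr hQS hOn hOc hVS (by
      rintro P f hf ⟨g, hg, hgf, hgV⟩
      exact hN P f (hE2 P f hf) ⟨g, hE2 _ g hg, hgf, hE2 _ g hgV.1, hgV.2⟩)
  have hax := ax_of hr 𝒜 h𝒜 ⟨A₀, hA₀⟩ (fun Q hQ h f hf => hinv Q hQ h f (hE2 Q f hf)) hrep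
  have hI : im ι (IA 𝒜 S) = IA ((fun A => im ι A) '' 𝒜) ι.range := by
    ext y
    rw [mem_im_iff' hVS, mem_IA]
    constructor
    · rintro ⟨x, hx, rfl⟩ _ ⟨A, hA, rfl⟩ hAQ
      exact (mem_im_iff' (h𝒜 A hA).1).2 ⟨x, mem_IA.1 hx A hA (h𝒜 A hA).1, rfl⟩
    · intro h
      obtain ⟨x, hx, rfl⟩ := (mem_im_iff' (h𝒜 A₀ hA₀).1).1 (h _ ⟨A₀, hA₀, rfl⟩ (im_le_range (h𝒜 A₀ hA₀).1))
      refine ⟨x, mem_IA.2 fun A hA hAQ => ?_, rfl⟩
      exact (lift_mem_im_iff hr.1 (h𝒜 A hA).1 ((h𝒜 A₀ hA₀).1 hx)).1 (h _ ⟨A, hA, rfl⟩ (im_le_range (h𝒜 A hA).1))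
  rw [hI] at h4
  -- the Sylow subgroup is a proper subgroup
  have htop : ι.range ≠ ⊤ := fun h => hE3 (inner_of_range_top hr h)
  -- and `I(T)` is not normal
  have hnn : ¬ (IA ((fun A => im ι A) '' 𝒜) ι.range).Normal := by
    intro h
    rw [Subgroup.normalizer_eq_top_iff.2 h, top_le_iff] at h4
    exact htop h4
  have hTne : (T : Subgroup G) = ι.range := hT
  have hTsyl : RelSylow.IsSyl p ι.range ⊤ := by
    rw [← hT]
    refine ⟨le_top, T.isPGroup', ?_⟩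
    rw [Subgroup.relIndex_top_right]
    exact T.not_dvd_index
  have hred := ThompsonNil.reduction hp (ConstrainedLocal.CharP.pPrimeCore_eq_bot hcen) (NilFunctors.sylIn_iff.2 hTsyl)
    (by
      intro K hTK hK
      rw [range_maximal hr T hT hQS hOn hOc hE4 K hTK hK]
      refine PNilp.hasNormalPComplement_of_isPGroup ?_
      rw [← hT]; exact T.isPGroup')
  rcases hred with h | h | ⟨h, -⟩
  · apply htop
    rw [← hT]
    exact top_of_npc T hcen h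
  · -- `T` is normal
    have hTn : (ι.range).Normal := by
      rw [h]; exact FusionNormal.pCore_normal (p := p) (X := G)
    apply hnn
    have h5 := hax.inv ι.range le_rfl ⟨_, ⟨A₀, hA₀, rfl⟩, im_le_range (h𝒜 A₀ hA₀).1⟩
    rw [Subgroup.normalizer_eq_top_iff.2 hTn, top_le_iff, Subgroup.normalizer_eq_top_iff] at h5
    exact h5
  · exact hnn (hax.normal hTsyl hcen (fun V _ hV => h.stable hp V hV))

end main

end Cfsg.Agent.Lib.H34AxZJ
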