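import Mathlib
import Cfsg.Prelude.Def_Solvable
import Cfsg.Prelude.Def_Transfer
import Cfsg.Prelude.Def_LocalEven
import Cfsg.Agent.Lib.H34Basic
import Cfsg.Agent.Lib.H34SolvOff
import Cfsg.Agent.Lib.H34S4

set_option autoImplicit false

namespace Cfsg.Agent.Lib.H34ClassTwo

open Subgroup Cfsg.Agent.Lib.H34Basic Cfsg.Agent.Lib.H34SolvOff Cfsg.Agent.Lib.H34S4
open scoped commutatorElement

variable {G : Type*} [Group G]

theorem odd_conj_fix (y t z : G) (n k : ℕ) (hn : Odd n) (hy : y ^ n = 1) (h1 : y * t * y⁻¹ = t * z)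
    (h2 : y * z * y⁻¹ = z) (hz : z ^ 2 ^ k = 1) : z = 1 := by
  have h3 : ∀ m : ℕ, y ^ m * t * (y ^ m)⁻¹ = t * z ^ m := by
    intro m
    induction m with
    | zero => simp
    | succ m ih =>
      have h4 : y * z ^ m * y⁻¹ = z ^ m := by rw [← conj_pow, h2]
      calc y ^ (m + 1) * t * (y ^ (m + 1))⁻¹ = y * (y ^ m * t * (y ^ m)⁻¹) * y⁻¹ := by rw [pow_succ']; group
        _ = y * (t * z ^ m) * y⁻¹ := by rw [ih]
        _ = (y * t * y⁻¹) * (y * z ^ m * y⁻¹) := by group
        _ = t * (z * z ^ m) := by rw [h1, h4, mul_assoc]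
        _ = t * z ^ (m + 1) := by rw [pow_succ']
  have h4 := h3 n
  rw [hy] at h4
  have h5 : z ^ n = 1 := by
    have := congrArg (t⁻¹ * ·) h4
    simpa using this.symm
  have h6 : orderOf z ∣ Nat.gcd n (2 ^ k) := Nat.dvd_gcd (orderOf_dvd_of_pow_eq_one h5) (orderOf_dvd_of_pow_eq_one hz)
  have h7 : Nat.Coprime n (2 ^ k) := Nat.Coprime.pow_right _ ((Nat.coprime_two_right).2 hn)
  rw [h7.gcd_eq_one, Nat.dvd_one] at h6
  exact orderOf_eq_one_iff.1 h6

/-- elements acting trivially on the section `A / D` -/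
def stab (A D : Subgroup G) [A.Normal] [D.Normal] : Subgroup G :=
  (Subgroup.centralizer ((A.map (QuotientGroup.mk' D) : Subgroup (G ⧸ D)) : Set (G ⧸ D))).comap (QuotientGroup.mk' D)

theorem stab_normal (A D : Subgroup G) [A.Normal] [D.Normal] : (stab A D).Normal := by
  have h1 : (A.map (QuotientGroup.mk' D)).Normal := Subgroup.Normal.map inferInstance _ (QuotientGroup.mk'_surjective D)
  have h2 : (Subgroup.centralizer ((A.map (QuotientGroup.mk' D) : Subgroup (G ⧸ D)) : Set (G ⧸ D))).Normal := inferInstance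
  exact Subgroup.Normal.comap h2 _

theorem mem_stab (A D : Subgroup G) [A.Normal] [D.Normal] (g : G) : g ∈ stab A D ↔ ∀ a ∈ A, a⁻¹ * (g * a * g⁻¹) ∈ D := by
  unfold stab
  rw [Subgroup.mem_comap, Subgroup.mem_centralizer_iff]
  constructor
  · intro h a ha
    have h1 := h (QuotientGroup.mk' D a) ⟨a, ha, rfl⟩
    rw [← map_mul, ← map_mul] at h1
    have h2 := QuotientGroup.eq.1 h1
    have hD : D.Normal := inferInstance
    have h3 := hD.conj_mem _ h2 g
    have : g * ((a * g)⁻¹ * (g * a)) * g⁻¹ = a⁻¹ * (g * a * g⁻¹) := by group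
    rwa [this] at h3
  · rintro h _ ⟨a, ha, rfl⟩
    rw [← map_mul, ← map_mul]
    apply QuotientGroup.eq.2
    have hD : D.Normal := inferInstance
    have h3 := hD.conj_mem _ (h a ha) g⁻¹
    have : g⁻¹ * (a⁻¹ * (g * a * g⁻¹)) * g⁻¹⁻¹ = (a * g)⁻¹ * (g * a) := by group
    rwa [this] at h3

/-- the core computation: odd-order elements acting trivially on the sections are trivial -/
theorem odd_trivial [Finite G] (T V : Subgroup G) (hT : IsPGroup 2 T) (hCT : Subgroup.centralizer (T : Set G) ≤ T)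
    (y : G) (n : ℕ) (hn : Odd n) (hy : y ^ n = 1)
    (hV : ∀ v ∈ V, y * v * y⁻¹ = v)
    (hB : ∀ b ∈ T, (∀ t ∈ T, t * b = b * t) → b * b = 1 → b⁻¹ * (y * b * y⁻¹) ∈ V)
    (hV2 : ∀ v ∈ V, v * v = 1)
    (hTT : ∀ t ∈ T, y * t * y⁻¹ ∈ T)
    (hT1 : ∀ t ∈ T, ∀ s ∈ T, s * (t⁻¹ * (y * t * y⁻¹)) = (t⁻¹ * (y * t * y⁻¹)) * s) : y = 1 := by
  -- on the elements of order two of the centre
  have hBf : ∀ b ∈ T, (∀ t ∈ T, t * b = b * t) → b * b = 1 → y * b * y⁻¹ = b := by
    intro b hb hbc hb2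
    have h1 := hB b hb hbc hb2
    have h2 : b⁻¹ * (y * b * y⁻¹) = 1 := by
      refine odd_conj_fix y b _ n 1 hn hy (by group) (hV _ h1) ?_
      rw [pow_one, pow_two]; exact hV2 _ h1
    rw [inv_mul_eq_one] at h2
    exact h2.symm
  have hyc : ∀ z ∈ T, (∀ t ∈ T, t * z = z * t) → ∀ t ∈ T, t * (y * z * y⁻¹) = (y * z * y⁻¹) * t := by
    intro z hz hzc t ht
    -- y z y⁻¹ = z * (z⁻¹ (y z y⁻¹)), both factors central
    have h1 := hT1 z hz t ht
    have h2 := hzc t ht
    calc t * (y * z * y⁻¹) = (t * z) * (z⁻¹ * (y * z * y⁻¹)) := by group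
      _ = (z * t) * (z⁻¹ * (y * z * y⁻¹)) := by rw [h2]
      _ = z * (t * (z⁻¹ * (y * z * y⁻¹))) := by group
      _ = z * ((z⁻¹ * (y * z * y⁻¹)) * t) := by rw [h1]
      _ = _ := by group
  have hZf : ∀ k : ℕ, ∀ z ∈ T, (∀ t ∈ T, t * z = z * t) → z ^ 2 ^ k = 1 → y * z * y⁻¹ = z := by
    intro k
    induction k with
    | zero =>
      intro z _ _ h
      rw [pow_zero, pow_one] at h
      rw [h]; group
    | succ k ih =>
      intro z hz hzc h
      have h1 : y * (z * z) * y⁻¹ = z * z := by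
        apply ih _ (T.mul_mem hz hz)
        · intro t ht
          rw [← mul_assoc, hzc t ht, mul_assoc, hzc t ht, mul_assoc]
        · rw [← pow_two, ← pow_mul, ← pow_succ']; exact h
      have haT : z⁻¹ * (y * z * y⁻¹) ∈ T := T.mul_mem (T.inv_mem hz) (hTT z hz)
      have hac := hT1 z hz
      have hyz : (y * z * y⁻¹) * z = z * (y * z * y⁻¹) := hzc _ (hTT z hz)
      have ha2 : z⁻¹ * (y * z * y⁻¹) * (z⁻¹ * (y * z * y⁻¹)) = 1 := by
        have h2 : (y * z * y⁻¹) * z⁻¹ = z⁻¹ * (y * z * y⁻¹) := by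
          have := congrArg (fun w => z⁻¹ * w * z⁻¹) hyz
          simp only [mul_assoc, inv_mul_cancel_left, mul_inv_cancel, mul_one] at this
          simp only [mul_assoc]
          exact this.symm
        calc z⁻¹ * (y * z * y⁻¹) * (z⁻¹ * (y * z * y⁻¹)) = z⁻¹ * ((y * z * y⁻¹) * z⁻¹) * (y * z * y⁻¹) := by group
          _ = z⁻¹ * (z⁻¹ * (y * z * y⁻¹)) * (y * z * y⁻¹) := by rw [h2]
          _ = z⁻¹ * z⁻¹ * (y * (z * z) * y⁻¹) := by group
          _ = 1 := by rw [h1]; group
      have h3 := hBf _ haT hac ha2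
      have h4 : z⁻¹ * (y * z * y⁻¹) = 1 := by
        refine odd_conj_fix y z _ n 1 hn hy (by group) h3 ?_
        rw [pow_one, pow_two]; exact ha2
      rw [inv_mul_eq_one] at h4
      exact h4.symm
  have hTf : ∀ t ∈ T, y * t * y⁻¹ = t := by
    intro t ht
    have haT : t⁻¹ * (y * t * y⁻¹) ∈ T := T.mul_mem (T.inv_mem ht) (hTT t ht)
    obtain ⟨k, hk⟩ := hT ⟨_, haT⟩
    have hk' : (t⁻¹ * (y * t * y⁻¹)) ^ 2 ^ k = 1 := by simpa using congrArg Subtype.val hk
    have h3 := hZf k _ haT (hT1 t ht) hk'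
    have h4 : t⁻¹ * (y * t * y⁻¹) = 1 := odd_conj_fix y t _ n k hn hy (by group) h3 hk'
    rw [inv_mul_eq_one] at h4
    exact h4.symm
  have hyT : y ∈ T := by
    apply hCT
    rw [Subgroup.mem_centralizer_iff]
    intro t ht
    have := hTf t ht
    rw [mul_inv_eq_iff_eq_mul] at this
    exact this.symm
  obtain ⟨k, hk⟩ := hT ⟨y, hyT⟩
  have hk' : y ^ 2 ^ k = 1 := by simpa using congrArg Subtype.val hk
  have h6 : orderOf y ∣ Nat.gcd n (2 ^ k) := Nat.dvd_gcd (orderOf_dvd_of_pow_eq_one hy) (orderOf_dvd_of_pow_eq_one hk')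
  have h7 : Nat.Coprime n (2 ^ k) := Nat.Coprime.pow_right _ ((Nat.coprime_two_right).2 hn)
  rw [h7.gcd_eq_one, Nat.dvd_one] at h6
  exact orderOf_eq_one_iff.1 h6

/-- the elements of order dividing two in the centre of `T` -/
def omegaCenter (T : Subgroup G) : Subgroup G where
  carrier := {b | b ∈ T ∧ (∀ t ∈ T, t * b = b * t) ∧ b * b = 1}
  mul_mem' := by
    rintro a b ⟨ha, hac, ha2⟩ ⟨hb, hbc, hb2⟩
    refine ⟨T.mul_mem ha hb, ?_, ?_⟩
    · intro t ht
      rw [← mul_assoc, hac t ht, mul_assoc, hbc t ht, mul_assoc]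
    · calc a * b * (a * b) = a * (b * a) * b := by group
        _ = a * (a * b) * b := by rw [hac b hb]
        _ = (a * a) * (b * b) := by group
        _ = 1 := by rw [ha2, hb2, one_mul]
  one_mem' := ⟨T.one_mem, fun t _ => by simp, by simp⟩
  inv_mem' := by
    rintro a ⟨ha, hac, ha2⟩
    have : a⁻¹ = a := inv_eq_of_mul_eq_one_left ha2
    rw [this]
    exact ⟨ha, hac, ha2⟩

theorem mem_omegaCenter {T : Subgroup G} {b : G} :
    b ∈ omegaCenter T ↔ b ∈ T ∧ (∀ t ∈ T, t * b = b * t) ∧ b * b = 1 := Iff.rfl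

theorem omegaCenter_normal (T : Subgroup G) [hT : T.Normal] : (omegaCenter T).Normal := by
  refine ⟨?_⟩
  rintro b ⟨hb, hbc, hb2⟩ g
  refine ⟨hT.conj_mem _ hb g, ?_, ?_⟩
  · intro t ht
    have h1 := hbc (g⁻¹ * t * g) (by simpa using hT.conj_mem _ ht g⁻¹)
    calc t * (g * b * g⁻¹) = g * (g⁻¹ * t * g * b) * g⁻¹ := by group
      _ = g * (b * (g⁻¹ * t * g)) * g⁻¹ := by rw [h1]
      _ = _ := by group
  · calc g * b * g⁻¹ * (g * b * g⁻¹) = g * (b * b) * g⁻¹ := by group
      _ = 1 := by rw [hb2]; group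

theorem claimA [Finite G] [Group.IsSolvable G] (S : Sylow 2 G) (T V J : Subgroup G) [hTn : T.Normal] [hVn : V.Normal]
    (hT : IsPGroup 2 T) (hTmax : ∀ N : Subgroup G, N.Normal → IsPGroup 2 N → N ≤ T) (hTS : T ≤ (S : Subgroup G))
    (hCT : Subgroup.centralizer (T : Set G) ≤ T)
    (hcl : ∀ a ∈ (S : Subgroup G), ∀ b ∈ (S : Subgroup G), ∀ c ∈ (S : Subgroup G), c * ⁅a, b⁆ = ⁅a, b⁆ * c)
    (hV : omegaCenter (S : Subgroup G) ≤ V) (hVB : V ≤ omegaCenter T)
    (hJS : J ≤ (S : Subgroup G)) (hJV : J ≤ Subgroup.centralizer (V : Set G)) : J ≤ T := by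
  classical
  have h2p : Fact (Nat.Prime 2) := ⟨Nat.prime_two⟩
  let ZT : Subgroup G := T ⊓ Subgroup.centralizer (T : Set G)
  have hZTn : ZT.Normal := inferInstance
  have hBn : (omegaCenter T).Normal := omegaCenter_normal T
  let L : Subgroup G := Subgroup.normalClosure (J : Set G)
  have hCn : (Subgroup.centralizer (V : Set G)).Normal := inferInstance
  have hL1 : L ≤ Subgroup.centralizer (V : Set G) := Subgroup.normalClosure_le_normal hJV
  have hstab1 : (stab T ZT).Normal := stab_normal T ZT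
  have hstab2 : (stab (omegaCenter T) V).Normal := stab_normal (omegaCenter T) V
  have hL2 : L ≤ stab T ZT := by
    apply Subgroup.normalClosure_le_normal
    intro s hs
    have hsS := hJS hs
    show s ∈ stab T ZT
    rw [mem_stab]
    intro t ht
    refine ⟨T.mul_mem (T.inv_mem ht) (hTn.conj_mem _ ht s), ?_⟩
    show _ ∈ Subgroup.centralizer (T : Set G)
    rw [Subgroup.mem_centralizer_iff]
    intro u hu
    have h1 : t⁻¹ * (s * t * s⁻¹) = ⁅t⁻¹, s⁆ := by rw [commutatorElement_def]; group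
    rw [h1]
    exact hcl _ ((S : Subgroup G).inv_mem (hTS ht)) _ hsS _ (hTS hu)
  have hL3 : L ≤ stab (omegaCenter T) V := by
    apply Subgroup.normalClosure_le_normal
    intro s hs
    have hsS := hJS hs
    show s ∈ stab (omegaCenter T) V
    rw [mem_stab]
    intro b hb
    have h1 : b⁻¹ * (s * b * s⁻¹) = ⁅b⁻¹, s⁆ := by rw [commutatorElement_def]; group
    have h2 : b⁻¹ * (s * b * s⁻¹) ∈ omegaCenter T :=
      (omegaCenter T).mul_mem ((omegaCenter T).inv_mem hb) (hBn.conj_mem _ hb s)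
    apply hV
    refine ⟨hTS h2.1, ?_, h2.2.2⟩
    intro t ht
    rw [h1]
    exact hcl _ ((S : Subgroup G).inv_mem (hTS hb.1)) _ hsS _ ht
  have hLp : IsPGroup 2 L := by
    rintro ⟨x, hx⟩
    have hx0 : orderOf x ≠ 0 := (orderOf_pos x).ne'
    set k := (orderOf x).factorization 2 with hk
    refine ⟨k, ?_⟩
    apply Subtype.ext
    show x ^ 2 ^ k = 1
    have hord : orderOf (x ^ 2 ^ k) = orderOf x / 2 ^ k :=
      orderOf_pow_of_dvd (pow_pos (by norm_num) _).ne' (Nat.ordProj_dvd _ _)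
    have hodd : Odd (orderOf (x ^ 2 ^ k)) := by
      rw [hord]
      exact (Nat.coprime_two_left).1 (Nat.coprime_ordCompl Nat.prime_two hx0)
    have hyL : x ^ 2 ^ k ∈ L := Subgroup.pow_mem _ hx _
    set y := x ^ 2 ^ k with hy
    refine odd_trivial T V hT hCT y (orderOf y) hodd (pow_orderOf_eq_one y) ?_ ?_ ?_ ?_ ?_
    · intro v hv
      have h1 := Subgroup.mem_centralizer_iff.1 (hL1 hyL) v hv
      rw [← h1]; group
    · intro b hb hbc hb2
      exact (mem_stab _ _ _).1 (hL3 hyL) b ⟨hb, hbc, hb2⟩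
    · intro v hv
      exact (hVB hv).2.2
    · intro t ht
      exact hTn.conj_mem _ ht y
    · intro t ht s hs
      have h1 := (mem_stab _ _ _).1 (hL2 hyL) t ht
      exact Subgroup.mem_centralizer_iff.1 h1.2 s hs
  have hLn : L.Normal := Subgroup.normalClosure_normal
  exact (Subgroup.subset_normalClosure).trans (hTmax L hLn hLp)

theorem reduced [Finite G] (S : Sylow 2 G) (V : Subgroup G) [hVn : V.Normal]
    (hV : V = Subgroup.normalClosure (omegaCenter (S : Subgroup G) : Set G)) :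
    Cfsg.pCore 2 ((MulAut.conjNormal : G →* MulAut V).range) = ⊥ := by
  classical
  have h2p : Fact (Nat.Prime 2) := ⟨Nat.prime_two⟩
  set ρ : G →* MulAut V := MulAut.conjNormal with hρ
  have hρapp : ∀ (g : G) (v : V), ((ρ g v : V) : G) = g * v * g⁻¹ := fun g v => MulAut.conjNormal_apply g v
  set Kc := Cfsg.pCore 2 ρ.range with hKc
  have hKcn : Kc.Normal := Subgroup.sSup_normal _ (fun _ h => h.1)
  have hKcp : IsPGroup 2 Kc := isPGroup_pCore 2
  let Sb : Sylow 2 ρ.range := S.mapSurjective ρ.rangeRestrict_surjective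
  have hle : Kc ≤ (Sb : Subgroup ρ.range) := hKcp.le_sylow_of_normal Sb
  let KG : Subgroup G := Kc.comap ρ.rangeRestrict
  have hKGn : KG.Normal := inferInstance
  have hcn : (Subgroup.centralizer (KG : Set G)).Normal := inferInstance
  have hz : omegaCenter (S : Subgroup G) ≤ Subgroup.centralizer (KG : Set G) := by
    intro z hz
    rw [Subgroup.mem_centralizer_iff]
    intro g hg
    have h1 : ρ.rangeRestrict g ∈ (Sb : Subgroup ρ.range) := hle hg
    obtain ⟨s, hs, hsg⟩ := h1
    have h2 : ρ s = ρ g := congrArg Subtype.val hsg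
    have hzV : z ∈ V := by rw [hV]; exact Subgroup.subset_normalClosure hz
    have h3 : g * z * g⁻¹ = s * z * s⁻¹ := by
      have h4 := hρapp g ⟨z, hzV⟩
      have h5 := hρapp s ⟨z, hzV⟩
      rw [h2, h4] at h5
      exact h5
    have h4 : s * z * s⁻¹ = z := by rw [hz.2.1 s hs]; group
    rw [h4, mul_inv_eq_iff_eq_mul] at h3
    exact h3
  have hVC : V ≤ Subgroup.centralizer (KG : Set G) := by
    conv_lhs => rw [hV]
    exact Subgroup.normalClosure_le_normal hz
  rw [eq_bot_iff]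
  intro k hk
  obtain ⟨g, rfl⟩ := ρ.rangeRestrict_surjective k
  have hgK : g ∈ KG := hk
  rw [Subgroup.mem_bot]
  apply Subtype.ext
  show ρ g = 1
  ext v
  rw [hρapp]
  have h1 := Subgroup.mem_centralizer_iff.1 (hVC v.2) g hgK
  rw [h1]
  simp

theorem card_sup_mul_card_inf [Finite G] (V D : Subgroup G) [V.Normal] :
    Nat.card (V ⊔ D : Subgroup G) * Nat.card (V ⊓ D : Subgroup G) = Nat.card V * Nat.card D := by
  have h1 : Nat.card V * V.relIndex (V ⊔ D) = Nat.card (V ⊔ D : Subgroup G) := by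
    have := Subgroup.card_mul_index (V.subgroupOf (V ⊔ D))
    rw [← this]
    congr 1
    exact (Nat.card_congr (Subgroup.subgroupOfEquivOfLe (le_sup_left : V ≤ V ⊔ D)).toEquiv).symm
  have h2 : Nat.card (V ⊓ D : Subgroup G) * V.relIndex D = Nat.card D := by
    have := Subgroup.card_mul_index (V.subgroupOf D)
    rw [← this]
    congr 1
    have h3 : (V.subgroupOf D).map D.subtype = V ⊓ D := Subgroup.subgroupOf_map_subtype V D
    rw [← h3]
    exact Subgroup.card_map_of_injective D.subtype_injective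
  rw [Subgroup.relIndex_sup_left] at h1
  rw [← h1, ← h2]; ring

theorem claimB [Finite G] [Group.IsSolvable G] (hS4 : ¬ Cfsg.Involves (Equiv.Perm (Fin 4)) G) (S : Sylow 2 G)
    (T V : Subgroup G) [hTn : T.Normal] [hVn : V.Normal] (hTp : IsPGroup 2 T) (hTS : T ≤ (S : Subgroup G))
    (hV : V = Subgroup.normalClosure (omegaCenter (S : Subgroup G) : Set G)) (hVB : V ≤ omegaCenter T) :
    Cfsg.thompsonSubgroupOf 2 (S : Subgroup G) ≤ Subgroup.centralizer (V : Set G) := by
  classical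
  have h2p : Fact (Nat.Prime 2) := ⟨Nat.prime_two⟩
  unfold Cfsg.thompsonSubgroupOf
  rw [Subgroup.map_le_iff_le_comap]
  apply sSup_le
  rintro A ⟨⟨hAc, hA2⟩, hAmax⟩
  rw [← Subgroup.map_le_iff_le_comap]
  by_contra hcon
  apply hS4
  set ρ : G →* MulAut V := MulAut.conjNormal with hρ
  have hρapp : ∀ (g : G) (v : V), ((ρ g v : V) : G) = g * v * g⁻¹ := fun g v => MulAut.conjNormal_apply g v
  let AG : Subgroup G := A.map (S : Subgroup G).subtype
  have hAGS : AG ≤ (S : Subgroup G) := Subgroup.map_subtype_le _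
  have hAGc : ∀ a ∈ AG, ∀ b ∈ AG, a * b = b * a := by
    rintro _ ⟨a, ha, rfl⟩ _ ⟨b, hb, rfl⟩
    have := hAc.is_comm.comm ⟨a, ha⟩ ⟨b, hb⟩
    exact congrArg (fun x : A => ((x : (S : Subgroup G)) : G)) this
  have hAG2 : ∀ a ∈ AG, a * a = 1 := by
    rintro _ ⟨a, ha, rfl⟩
    have := hA2 a ha
    rw [pow_two] at this
    exact congrArg Subtype.val this
  have hVc : ∀ u ∈ V, ∀ v ∈ V, u * v = v * u := fun u hu v hv => (hVB hv).2.1 u (hVB hu).1
  have hV2 : ∀ v ∈ V, v * v = 1 := fun v hv => (hVB hv).2.2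
  have hVS : V ≤ (S : Subgroup G) := fun v hv => hTS (hVB hv).1
  let D : Subgroup G := AG ⊓ Subgroup.centralizer (V : Set G)
  have hDc : ∀ d ∈ D, ∀ v ∈ V, v * d = d * v := fun d hd v hv => Subgroup.mem_centralizer_iff.1 hd.2 v hv
  -- `V D` is elementary abelian
  have hVD : Nat.card (V ⊔ D : Subgroup G) ≤ Nat.card AG := by
    let E : Subgroup G := V ⊔ D
    have hES : E ≤ (S : Subgroup G) := sup_le hVS (inf_le_left.trans hAGS)
    have hE : ∀ e ∈ E, ∃ v ∈ V, ∃ d ∈ D, e = v * d := by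
      intro e he
      rw [← SetLike.mem_coe, Subgroup.normal_mul, Set.mem_mul] at he
      obtain ⟨v, hv, d, hd, h⟩ := he
      exact ⟨v, hv, d, hd, h.symm⟩
    have hE2 : ∀ e ∈ E, e * e = 1 := by
      intro e he
      obtain ⟨v, hv, d, hd, rfl⟩ := hE e he
      calc v * d * (v * d) = v * (d * v) * d := by group
        _ = v * (v * d) * d := by rw [hDc d hd v hv]
        _ = (v * v) * (d * d) := by group
        _ = 1 := by rw [hV2 v hv, hAG2 d hd.1, one_mul]
    have hEc : ∀ e ∈ E, ∀ e' ∈ E, e * e' = e' * e := by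
      intro e he e' he'
      have h1 := hE2 _ (E.mul_mem he he')
      have h2 := hE2 _ he
      have h3 := hE2 _ he'
      have hbi : e⁻¹ = e := inv_eq_of_mul_eq_one_left h2
      have hci : e'⁻¹ = e' := inv_eq_of_mul_eq_one_left h3
      have h4 : (e * e')⁻¹ = e * e' := inv_eq_of_mul_eq_one_left h1
      rw [mul_inv_rev, hbi, hci] at h4
      exact h4.symm
    have h1 : Cfsg.IsElementaryAbelian 2 (E.subgroupOf (S : Subgroup G)) := by
      refine ⟨⟨⟨?_⟩⟩, ?_⟩
      · rintro ⟨a, ha⟩ ⟨b, hb⟩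
        apply Subtype.ext
        apply Subtype.ext
        exact hEc _ ha _ hb
      · intro a ha
        apply Subtype.ext
        show (a : G) ^ 2 = 1
        rw [pow_two]; exact hE2 _ ha
    have h2 := hAmax _ h1
    have h3 : Nat.card (E.subgroupOf (S : Subgroup G)) = Nat.card E :=
      Nat.card_congr (Subgroup.subgroupOfEquivOfLe hES).toEquiv
    have h4 : Nat.card AG = Nat.card A := Subgroup.card_map_of_injective (Subgroup.subtype_injective _)
    rw [h3] at h2
    rw [h4]; exact h2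
  let Ab : Subgroup (MulAut V) := AG.map ρ
  have hcardA : Nat.card AG = Nat.card Ab * Nat.card D := by
    let f : AG →* MulAut V := ρ.comp AG.subtype
    have h1 : f.range = Ab := by
      show (ρ.comp AG.subtype).range = AG.map ρ
      rw [MonoidHom.range_comp, Subgroup.range_subtype]
    have h2 : f.ker = D.subgroupOf AG := by
      ext a
      rw [MonoidHom.mem_ker, Subgroup.mem_subgroupOf]
      constructor
      · intro h
        refine ⟨a.2, ?_⟩
        show (a : G) ∈ Subgroup.centralizer (V : Set G)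
        rw [Subgroup.mem_centralizer_iff]
        intro v hv
        have h3 := hρapp (a : G) ⟨v, hv⟩
        have h4 : ρ (a : G) = 1 := h
        rw [h4] at h3
        have h5 : v = a * v * (a : G)⁻¹ := h3
        conv_lhs => rw [h5]
        group
      · intro h
        show ρ (a : G) = 1
        ext v
        rw [hρapp, ← hDc _ h v v.2]
        simp
    have h3 := f.ker.card_mul_index
    rw [Subgroup.index_ker, h1, h2] at h3
    have h4 : Nat.card (D.subgroupOf AG) = Nat.card D :=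
      Nat.card_congr (Subgroup.subgroupOfEquivOfLe inf_le_left).toEquiv
    rw [h4] at h3
    rw [← h3, mul_comm]
  have hfix : Nat.card (V ⊓ AG : Subgroup G) ≤ Nat.card (fixSub Ab) := by
    have h1 : (V ⊓ AG).subgroupOf V ≤ fixSub Ab := by
      rintro v hv _ ⟨a, ha, rfl⟩
      apply Subtype.ext
      rw [hρapp, hAGc a ha v hv.2]
      simp
    have h2 := Subgroup.card_le_of_le h1
    have h3 : Nat.card ((V ⊓ AG).subgroupOf V) = Nat.card (V ⊓ AG : Subgroup G) :=
      Nat.card_congr (Subgroup.subgroupOfEquivOfLe inf_le_left).toEquiv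
    rwa [h3] at h2
  have hVDAG : V ⊓ D = V ⊓ AG := by
    apply le_antisymm
    · exact inf_le_inf_left _ inf_le_left
    · rintro v ⟨hv, hvA⟩
      refine ⟨hv, hvA, ?_⟩
      show v ∈ Subgroup.centralizer (V : Set G)
      rw [Subgroup.mem_centralizer_iff]
      intro u hu
      exact hVc u hu v hv
  have hoff : Nat.card V ≤ Nat.card Ab * Nat.card (fixSub Ab) := by
    have h1 := card_sup_mul_card_inf V D
    rw [hVDAG] at h1
    have h2 : Nat.card V * Nat.card D ≤ (Nat.card Ab * Nat.card (fixSub Ab)) * Nat.card D := by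
      rw [← h1]
      calc Nat.card (V ⊔ D : Subgroup G) * Nat.card (V ⊓ AG : Subgroup G)
          ≤ Nat.card AG * Nat.card (fixSub Ab) := Nat.mul_le_mul hVD hfix
        _ = _ := by rw [hcardA]; ring
    exact Nat.le_of_mul_le_mul_right h2 Nat.card_pos
  have hAbne : Ab ≠ ⊥ := by
    intro h
    apply hcon
    intro a ha
    rw [Subgroup.mem_centralizer_iff]
    intro v hv
    have h1 : ρ a ∈ Ab := ⟨a, ha, rfl⟩
    rw [h, Subgroup.mem_bot] at h1
    have h3 := hρapp a ⟨v, hv⟩
    rw [h1] at h3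
    have h5 : v = a * v * a⁻¹ := h3
    conv_lhs => rw [h5]
    group
  have hsolv : Group.IsSolvable ρ.range := Group.isSolvable_of_surjective ρ.rangeRestrict_surjective
  have hcore := reduced S V hV
  have hVc' : ∀ u v : V, u * v = v * u := fun u v => Subtype.ext (hVc u u.2 v v.2)
  have hV2' : ∀ v : V, v * v = 1 := fun v => Subtype.ext (hV2 v v.2)
  have hAb2 : ∀ a ∈ Ab, a * a = 1 := by
    rintro _ ⟨a, ha, rfl⟩
    rw [← map_mul, hAG2 a ha, map_one]
  have hAbH : Ab ≤ ρ.range := by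
    rintro _ ⟨a, _, rfl⟩
    exact ⟨a, rfl⟩
  obtain ⟨b, hb, x, hx, W, hb2, hx1, hx3, hbx, hW4, hWx, hWb, hfpf, _⟩ :=
    exists_S3_of_offender hVc' hV2' ρ.range hsolv hcore Ab hAbH hAb2 hAbne hoff
  have hVp : IsPGroup 2 V := hTp.to_le (fun v hv => (hVB hv).1)
  exact involves_S4_of_aut V hVp b x hb hx W hx1 hx3 hbx hW4 hWx hWb hfpf

theorem thompson_normal [Finite G] [Group.IsSolvable G] (hO : Cfsg.pPrimeCore 2 G = ⊥)
    (hS4 : ¬ Cfsg.Involves (Equiv.Perm (Fin 4)) G) (S : Sylow 2 G)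
    (hcl : (S : Subgroup G).lowerCentralSeries 2 = ⊥) :
    (Cfsg.thompsonSubgroupOf 2 (S : Subgroup G)).Normal := by
  classical
  have h2p : Fact (Nat.Prime 2) := ⟨Nat.prime_two⟩
  set T := Cfsg.pCore 2 G with hTdef
  have hTn : T.Normal := Subgroup.sSup_normal _ (fun _ h => h.1)
  have hTp : IsPGroup 2 T := isPGroup_pCore 2
  have hTS : T ≤ (S : Subgroup G) := hTp.le_sylow_of_normal S
  have hCT : Subgroup.centralizer (T : Set G) ≤ T := centralizer_pCore_le 2 hO
  have hTmax : ∀ N : Subgroup G, N.Normal → IsPGroup 2 N → N ≤ T := fun N h1 h2 => le_sSup ⟨h1, h2⟩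
  have hcl' : ∀ a ∈ (S : Subgroup G), ∀ b ∈ (S : Subgroup G), ∀ c ∈ (S : Subgroup G), c * ⁅a, b⁆ = ⁅a, b⁆ * c := by
    intro a ha b hb c hc
    have h1 : ⁅⁅a, b⁆, c⁆ ∈ (S : Subgroup G).lowerCentralSeries 2 := by
      rw [Subgroup.lowerCentralSeries_succ, Subgroup.lowerCentralSeries_succ, Subgroup.lowerCentralSeries_zero]
      exact Subgroup.commutator_mem_commutator (Subgroup.commutator_mem_commutator ha hb) hc
    rw [hcl, Subgroup.mem_bot, commutatorElement_eq_one_iff_mul_comm] at h1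
    exact h1.symm
  let V : Subgroup G := Subgroup.normalClosure (omegaCenter (S : Subgroup G) : Set G)
  have hVn : V.Normal := Subgroup.normalClosure_normal
  have hVB : V ≤ omegaCenter T := by
    have := omegaCenter_normal T
    apply Subgroup.normalClosure_le_normal
    rintro z ⟨hz, hzc, hz2⟩
    refine ⟨hCT ?_, fun t ht => hzc t (hTS ht), hz2⟩
    rw [Subgroup.mem_centralizer_iff]
    intro t ht
    exact hzc t (hTS ht)
  have hJS : Cfsg.thompsonSubgroupOf 2 (S : Subgroup G) ≤ (S : Subgroup G) := Subgroup.map_subtype_le _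
  have hJV := claimB hS4 S T V hTp hTS rfl hVB
  have hJT := claimA S T V _ hTp hTmax hTS hCT hcl' Subgroup.subset_normalClosure hVB hJS hJV
  -- normality
  refine ⟨fun x hx g => ?_⟩
  have key : (Cfsg.thompsonSubgroupOf 2 (S : Subgroup G)).map (MulAut.conj g).toMonoidHom ≤
      Cfsg.thompsonSubgroupOf 2 (S : Subgroup G) := by
    rw [Subgroup.map_le_iff_le_comap]
    conv_lhs => unfold Cfsg.thompsonSubgroupOf
    rw [Subgroup.map_le_iff_le_comap]
    apply sSup_le
    rintro A hA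
    have hAJ : A.map (S : Subgroup G).subtype ≤ Cfsg.thompsonSubgroupOf 2 (S : Subgroup G) :=
      Subgroup.map_mono (le_sSup hA)
    obtain ⟨⟨hAc, hA2⟩, hAmax⟩ := hA
    intro a ha
    rw [Subgroup.mem_comap, Subgroup.mem_comap]
    -- the conjugate of `A`
    let A' : Subgroup G := (A.map (S : Subgroup G).subtype).map (MulAut.conj g).toMonoidHom
    have hA'S : A' ≤ (S : Subgroup G) := by
      rintro _ ⟨y, hy, rfl⟩
      exact hTS (hTn.conj_mem _ (hJT (hAJ hy)) g)
    have hA'c : ∀ x ∈ A', ∀ y ∈ A', x * y = y * x := by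
      rintro _ ⟨_, ⟨u, hu', rfl⟩, rfl⟩ _ ⟨_, ⟨v, hv', rfl⟩, rfl⟩
      show (MulAut.conj g) (u : G) * (MulAut.conj g) (v : G) = (MulAut.conj g) (v : G) * (MulAut.conj g) (u : G)
      have h1 := hAc.is_comm.comm ⟨u, hu'⟩ ⟨v, hv'⟩
      have h2 : (u : G) * v = v * u := congrArg (fun x : A => ((x : (S : Subgroup G)) : G)) h1
      rw [← map_mul, h2, map_mul]
    have hA'2 : ∀ x ∈ A', x ^ 2 = 1 := by
      rintro _ ⟨_, ⟨u, hu', rfl⟩, rfl⟩
      show ((MulAut.conj g) (u : G)) ^ 2 = 1
      have h1 : (u : G) ^ 2 = 1 := congrArg Subtype.val (hA2 u hu')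
      rw [← map_pow, h1, map_one]
    have hA'e : Cfsg.IsElementaryAbelian 2 (A'.subgroupOf (S : Subgroup G)) := by
      refine ⟨⟨⟨?_⟩⟩, ?_⟩
      · rintro ⟨a, ha⟩ ⟨b, hb⟩
        apply Subtype.ext
        apply Subtype.ext
        exact hA'c _ ha _ hb
      · intro a ha
        apply Subtype.ext
        exact hA'2 _ ha
    have hA'card : Nat.card (A'.subgroupOf (S : Subgroup G)) = Nat.card A := by
      rw [Nat.card_congr (Subgroup.subgroupOfEquivOfLe hA'S).toEquiv]
      show Nat.card ((A.map (S : Subgroup G).subtype).map (MulAut.conj g).toMonoidHom : Subgroup G) = _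
      rw [Subgroup.card_map_of_injective (MulAut.conj g).injective,
        Subgroup.card_map_of_injective (Subgroup.subtype_injective _)]
    have hA'm : A'.subgroupOf (S : Subgroup G) ∈ Cfsg.maxElementaryAbelianSubgroups 2 (S : Subgroup G) := by
      refine ⟨hA'e, fun B hB => ?_⟩
      rw [hA'card]; exact hAmax B hB
    have h3 : (A'.subgroupOf (S : Subgroup G)).map (S : Subgroup G).subtype ≤ Cfsg.thompsonSubgroupOf 2 (S : Subgroup G) :=
      Subgroup.map_mono (le_sSup hA'm)
    rw [Subgroup.subgroupOf_map_subtype, inf_eq_left.2 hA'S] at h3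
    exact h3 ⟨_, ⟨a, ha, rfl⟩, rfl⟩
  exact key ⟨x, hx, rfl⟩

theorem elab_map_equiv (p : ℕ) {P Q : Type*} [Group P] [Group Q] (e : P ≃* Q) (A : Subgroup P)
    (hA : Cfsg.IsElementaryAbelian p A) : Cfsg.IsElementaryAbelian p (A.map e.toMonoidHom) := by
  obtain ⟨hAc, hAp⟩ := hA
  refine ⟨⟨⟨?_⟩⟩, ?_⟩
  · rintro ⟨_, ⟨u, hu, rfl⟩⟩ ⟨_, ⟨v, hv, rfl⟩⟩
    apply Subtype.ext
    show e u * e v = e v * e u
    have h1 := hAc.is_comm.comm ⟨u, hu⟩ ⟨v, hv⟩
    have h2 : u * v = v * u := congrArg Subtype.val h1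
    rw [← map_mul, h2, map_mul]
  · rintro _ ⟨u, hu, rfl⟩
    show (e u) ^ p = 1
    rw [← map_pow, hAp u hu, map_one]

theorem thompson_map_equiv_le (p : ℕ) {P Q : Type*} [Group P] [Group Q] (e : P ≃* Q) :
    (Cfsg.thompsonSubgroup p P).map e.toMonoidHom ≤ Cfsg.thompsonSubgroup p Q := by
  rw [Subgroup.map_le_iff_le_comap]
  apply sSup_le
  rintro A ⟨hA, hAmax⟩
  rw [← Subgroup.map_le_iff_le_comap]
  apply le_sSup
  refine ⟨elab_map_equiv p e A hA, fun B hB => ?_⟩
  have h1 := hAmax _ (elab_map_equiv p e.symm B hB)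
  have h2 : Nat.card (B.map e.symm.toMonoidHom) = Nat.card B := Subgroup.card_map_of_injective e.symm.injective
  have h3 : Nat.card (A.map e.toMonoidHom) = Nat.card A := Subgroup.card_map_of_injective e.injective
  rw [h2] at h1
  rw [h3]; exact h1

theorem thompson_map_equiv (p : ℕ) {P Q : Type*} [Group P] [Group Q] (e : P ≃* Q) :
    (Cfsg.thompsonSubgroup p P).map e.toMonoidHom = Cfsg.thompsonSubgroup p Q := by
  apply le_antisymm (thompson_map_equiv_le p e)
  have h1 := thompson_map_equiv_le p e.symm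
  have h2 := Subgroup.map_mono (f := e.toMonoidHom) h1
  rw [Subgroup.map_map] at h2
  have h3 : e.toMonoidHom.comp e.symm.toMonoidHom = MonoidHom.id Q := by
    ext x
    exact e.apply_symm_apply x
  rw [h3, Subgroup.map_id] at h2
  exact h2

theorem main [Finite G] [Group.IsSolvable G] (hS4 : ¬ Cfsg.Involves (Equiv.Perm (Fin 4)) G) (S : Sylow 2 G)
    (hcl : (S : Subgroup G).lowerCentralSeries 2 = ⊥) :
    Subgroup.normalizer ((Cfsg.thompsonSubgroupOf 2 (S : Subgroup G)) : Set G) ⊔ Cfsg.pPrimeCore 2 G = ⊤ := by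
  classical
  have h2p : Fact (Nat.Prime 2) := ⟨Nat.prime_two⟩
  set N := Cfsg.pPrimeCore 2 G with hN
  have hNn : N.Normal := Subgroup.sSup_normal _ (fun _ h => h.1)
  have hNc : (Nat.card N).Coprime 2 := pPrimeCore_card_coprime 2
  let π : G →* G ⧸ N := QuotientGroup.mk' N
  have hπ : Function.Surjective π := QuotientGroup.mk'_surjective N
  let Sb : Sylow 2 (G ⧸ N) := S.mapSurjective hπ
  have hSb : (Sb : Subgroup (G ⧸ N)) = (S : Subgroup G).map π := rfl
  have hsolv : Group.IsSolvable (G ⧸ N) := Group.isSolvable_of_surjective hπ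
  have hO : Cfsg.pPrimeCore 2 (G ⧸ N) = ⊥ := by
    set M := Cfsg.pPrimeCore 2 (G ⧸ N) with hM
    have hMn : M.Normal := Subgroup.sSup_normal _ (fun _ h => h.1)
    have hMc : (Nat.card M).Coprime 2 := pPrimeCore_card_coprime 2
    have h1 : M.comap π ≤ N := by
      refine le_sSup ⟨inferInstance, ?_⟩
      have h2 : Nat.card (M.comap π) = Nat.card N * Nat.card M := by
        have h3 : Nat.card N * N.relIndex (M.comap π) = Nat.card (M.comap π) := by
          have hle : N ≤ M.comap π := by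
            intro x hx
            show π x ∈ M
            have : π x = 1 := (QuotientGroup.eq_one_iff x).2 hx
            rw [this]; exact M.one_mem
          have := Subgroup.card_mul_index (N.subgroupOf (M.comap π))
          rw [← this]
          congr 1
          exact (Nat.card_congr (Subgroup.subgroupOfEquivOfLe hle).toEquiv).symm
        rw [← h3]
        congr 1
        have h4 : N = (⊥ : Subgroup (G ⧸ N)).comap π := by
          rw [MonoidHom.comap_bot, QuotientGroup.ker_mk']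
        have h5 : ((⊥ : Subgroup (G ⧸ N)).comap π).relIndex (M.comap π) = (⊥ : Subgroup (G ⧸ N)).relIndex M := by
          rw [Subgroup.relIndex_comap, Subgroup.map_comap_eq_self_of_surjective hπ]
        rw [← h4] at h5
        rw [h5, Subgroup.relIndex_bot_left]
      rw [h2]
      exact Nat.Coprime.mul_left hNc hMc
    rw [eq_bot_iff]
    intro x hx
    obtain ⟨g, rfl⟩ := hπ x
    have h2 : g ∈ N := h1 hx
    rw [Subgroup.mem_bot]
    exact (QuotientGroup.eq_one_iff g).2 h2
  have hS4b : ¬ Cfsg.Involves (Equiv.Perm (Fin 4)) (G ⧸ N) := fun h => hS4 (involves_of_involves_quotient N h)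
  have hclb : (Sb : Subgroup (G ⧸ N)).lowerCentralSeries 2 = ⊥ := by
    rw [hSb, ← Subgroup.map_lowerCentralSeries, hcl, Subgroup.map_bot]
  have hnorm := thompson_normal hO hS4b Sb hclb
  -- `J(S)` maps onto `J(S̄)`
  have hdis : (S : Subgroup G) ⊓ N = ⊥ := by
    have h1 : Nat.Coprime (Nat.card (S : Subgroup G)) (Nat.card N) := by
      obtain ⟨k, hk⟩ := IsPGroup.iff_card.1 S.2
      have hk' : Nat.card (S : Subgroup G) = 2 ^ k := hk
      rw [hk']
      exact Nat.Coprime.pow_left _ hNc.symm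
    exact Subgroup.inf_eq_bot_of_coprime h1
  let e0 : (S : Subgroup G) →* (Sb : Subgroup (G ⧸ N)) := π.subgroupMap (S : Subgroup G)
  have he0 : Function.Bijective e0 := by
    constructor
    · rw [injective_iff_map_eq_one]
      intro a ha
      have h1 : π (a : G) = 1 := congrArg Subtype.val ha
      have h2 : (a : G) ∈ N := (QuotientGroup.eq_one_iff _).1 h1
      have h3 : (a : G) ∈ (S : Subgroup G) ⊓ N := ⟨a.2, h2⟩
      rw [hdis, Subgroup.mem_bot] at h3
      exact Subtype.ext h3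
    · exact π.subgroupMap_surjective _
  let e : (S : Subgroup G) ≃* (Sb : Subgroup (G ⧸ N)) := MulEquiv.ofBijective e0 he0
  set J := Cfsg.thompsonSubgroupOf 2 (S : Subgroup G) with hJ
  have hJmap : J.map π = Cfsg.thompsonSubgroupOf 2 (Sb : Subgroup (G ⧸ N)) := by
    rw [hJ]
    unfold Cfsg.thompsonSubgroupOf
    rw [← thompson_map_equiv 2 e, Subgroup.map_map, Subgroup.map_map]
    rfl
  have hJS : J ≤ (S : Subgroup G) := Subgroup.map_subtype_le _
  let M : Subgroup G := J ⊔ N
  have hMeq : M = (J.map π).comap π := by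
    rw [Subgroup.comap_map_eq, QuotientGroup.ker_mk']
  have hMn : M.Normal := by
    rw [hMeq, hJmap]
    infer_instance
  -- `J` is a Sylow subgroup of `M`
  have hJM : J ≤ M := le_sup_left
  have hJp : IsPGroup 2 (J.subgroupOf M) := (S.2.to_le hJS).comap_subtype
  have hJidx : ¬ 2 ∣ (J.subgroupOf M).index := by
    have h1 : (J.subgroupOf M).index ∣ Nat.card N := by
      have h2 := card_sup_mul_card_inf N J
      have h3 : N ⊓ J = ⊥ := by
        rw [eq_bot_iff, ← hdis, inf_comm]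
        exact inf_le_inf_right _ hJS
      rw [h3] at h2
      have h4 : Nat.card (⊥ : Subgroup G) = 1 := by simp
      rw [h4, mul_one, sup_comm] at h2
      have h5 := (J.subgroupOf M).card_mul_index
      rw [Nat.card_congr (Subgroup.subgroupOfEquivOfLe hJM).toEquiv] at h5
      have h6 : Nat.card J * (J.subgroupOf M).index = Nat.card J * Nat.card N := by
        rw [h5]
        show Nat.card (J ⊔ N : Subgroup G) = _
        rw [h2, mul_comm]
      exact (Nat.eq_of_mul_eq_mul_left Nat.card_pos h6).dvd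
    intro h
    have h2 := h.trans h1
    have h3 : 2 ∣ 1 := by
      have := Nat.dvd_gcd h2 (dvd_refl 2)
      rwa [hNc.gcd_eq_one] at this
    omega
  let P : Sylow 2 M := hJp.toSylow hJidx
  have hfr := Sylow.normalizer_sup_eq_top P
  have hP : (P : Subgroup M).map M.subtype = J := by
    show (J.subgroupOf M).map M.subtype = J
    rw [Subgroup.subgroupOf_map_subtype, inf_eq_left.2 hJM]
  rw [eq_top_iff, ← hfr]
  apply sup_le
  · refine le_trans (le_of_eq ?_) le_sup_left
    rw [← hP]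
  · exact sup_le (Subgroup.le_normalizer.trans le_sup_left) le_sup_right

end Cfsg.Agent.Lib.H34ClassTwo
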