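import Cfsg.Agent.Lib.EssSection
import Cfsg.Agent.Lib.FusionTransv
import Cfsg.Agent.Lib.FusionGESMain

/-! `p`-groups that are the product of an extraspecial group of index `p` and a central cyclic group: saturated
fusion systems over them have a nontrivial normal subgroup (helper34). -/

set_option autoImplicit false

namespace Cfsg.Agent.Lib.H34Exs

open Cfsg Cfsg.FusionSystem
open Cfsg.Agent.Lib.FusionBasic Cfsg.Agent.Lib.FusionSat Cfsg.Agent.Lib.FusionNormal Cfsg.Agent.Lib.FusionAlperin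
open Cfsg.Agent.Lib.EssSection

variable {Ω : Type*} [Group Ω] {S E P : Subgroup Ω} {F : FusionSystem S} {p : ℕ} {z w : Ω}

structure XS (S : Subgroup Ω) (p : ℕ) (z w : Ω) : Prop where
  hS : IsPGroup p S
  zS : z ∈ S
  zp : z ^ p = 1
  z1 : z ≠ 1
  zc : ∀ s ∈ S, s * z = z * s
  comm : ∀ x ∈ S, ∀ y ∈ S, ∃ k : ℤ, x * y * x⁻¹ = y * z ^ k
  wS : w ∈ S
  wc : ∀ s ∈ S, s * w = w * s
  wz : w ∉ Subgroup.zpowers z
  nab : ∃ x ∈ S, ∃ y ∈ S, x * y ≠ y * x

theorem XS.zk (h : XS S p z w) {s : Ω} (hs : s ∈ S) (k : ℤ) : s * z ^ k = z ^ k * s :=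
  ((show Commute s z from h.zc s hs).zpow_right k).eq

theorem XS.cardK [Finite S] [hp : Fact p.Prime] (h : XS S p z w) {K : Subgroup Ω} (hK : K ≤ S) {c : Ω} (hc : c ∈ S) :
    Nat.card K ≤ p * Nat.card (K ⊓ Subgroup.centralizer {c} : Subgroup Ω) := by
  have hKf : Finite K := finite_of_le hK
  have hmem : ∀ t : K, ∃ k : ℤ, (t : Ω) * c * (t : Ω)⁻¹ * c⁻¹ = z ^ k := by
    intro t
    obtain ⟨k, hk⟩ := h.comm t (hK t.2) c hc
    refine ⟨k, ?_⟩
    rw [hk, h.zk hc k]; group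
  let χ : K →* Ω := MonoidHom.mk' (fun t => (t : Ω) * c * (t : Ω)⁻¹ * c⁻¹) (by
    intro t t'
    show ((t * t' : K) : Ω) * c * ((t * t' : K) : Ω)⁻¹ * c⁻¹ = ((t : Ω) * c * (t : Ω)⁻¹ * c⁻¹) * ((t' : Ω) * c * (t' : Ω)⁻¹ * c⁻¹)
    obtain ⟨k, hk⟩ := hmem t'
    rw [hk]
    have h1 : (t' : Ω) * c * (t' : Ω)⁻¹ = z ^ k * c := by rw [← hk]; group
    have h2 : ((t * t' : K) : Ω) * c * ((t * t' : K) : Ω)⁻¹ * c⁻¹ = (t : Ω) * ((t' : Ω) * c * (t' : Ω)⁻¹) * (t : Ω)⁻¹ * c⁻¹ := by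
      push_cast; group
    rw [h2, h1]
    have h3 := h.zk (hK t.2) k
    have h4 := h.zk (S.mul_mem (S.mul_mem (S.mul_mem (hK t.2) hc) (S.inv_mem (hK t.2))) (S.inv_mem hc)) k
    rw [h4]
    calc (t : Ω) * (z ^ k * c) * (t : Ω)⁻¹ * c⁻¹ = ((t : Ω) * z ^ k) * c * (t : Ω)⁻¹ * c⁻¹ := by group
      _ = _ := by rw [h3]; group)
  have hr : Nat.card χ.range ≤ p := by
    have h1 : χ.range ≤ Subgroup.zpowers z := by
      rintro _ ⟨t, rfl⟩
      obtain ⟨k, hk⟩ := hmem t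
      exact ⟨k, hk.symm⟩
    have h0 : Finite (Subgroup.zpowers z) := finite_of_le (Subgroup.zpowers_le.2 h.zS)
    refine (Subgroup.card_le_of_le h1).trans ?_
    rw [Nat.card_zpowers]
    exact Nat.le_of_dvd hp.out.pos (orderOf_dvd_of_pow_eq_one h.zp)
  have hk : Nat.card χ.ker = Nat.card (K ⊓ Subgroup.centralizer {c} : Subgroup Ω) := by
    have h1 : χ.ker.map K.subtype = K ⊓ Subgroup.centralizer {c} := by
      ext x
      constructor
      · rintro ⟨t, ht, rfl⟩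
        refine ⟨t.2, Subgroup.mem_centralizer_singleton_iff.2 ?_⟩
        have h2 : (t : Ω) * c * (t : Ω)⁻¹ * c⁻¹ = 1 := ht
        have h3 : (t : Ω) * c * (t : Ω)⁻¹ = c := mul_inv_eq_one.1 h2
        rw [mul_inv_eq_iff_eq_mul] at h3
        exact h3
      · rintro ⟨hx, hxc⟩
        refine ⟨⟨x, hx⟩, ?_, rfl⟩
        have hxc' := Subgroup.mem_centralizer_singleton_iff.1 hxc
        show x * c * x⁻¹ * c⁻¹ = 1
        rw [hxc']; group
    rw [← h1, Subgroup.card_map_of_injective K.subtype_injective]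
  have h1 := χ.ker.card_mul_index
  rw [Subgroup.index_ker, hk] at h1
  rw [← h1, mul_comm]
  exact Nat.mul_le_mul_right _ hr

theorem XS.memE (h : XS S p z w) (hE : F.IsCentric E) {v : Ω} (hv : v ∈ S) (hvc : ∀ s ∈ S, s * v = v * s) : v ∈ E :=
  hE.2 E (isConj_refl F hE.1) (mem_centralizerIn.2 ⟨hv, mem_centralizer_iff'.2 fun x hx => by
    rw [← hvc x (hE.1 hx)]; group⟩)

theorem XS.norm (h : XS S p z w) (hE : F.IsCentric E) : S ≤ Subgroup.normalizer (E : Set Ω) := by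
  have hz := h.memE hE h.zS h.zc
  have h1 : ∀ s ∈ S, ∀ x ∈ E, s * x * s⁻¹ ∈ E := by
    intro s hs x hx
    obtain ⟨k, hk⟩ := h.comm s hs x (hE.1 hx)
    rw [hk]
    exact E.mul_mem hx (E.zpow_mem hz k)
  intro s hs
  rw [Subgroup.mem_normalizer_iff]
  intro x
  refine ⟨h1 s hs x, fun hx => ?_⟩
  have h2 := h1 s⁻¹ (S.inv_mem hs) _ hx
  have h3 : s⁻¹ * (s * x * s⁻¹) * s⁻¹⁻¹ = x := by group
  rwa [h3] at h2

theorem XS.normIn (h : XS S p z w) (hE : F.IsCentric E) : normalizerIn S E = S :=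
  le_antisymm (normalizerIn_le S E) (le_inf le_rfl (h.norm hE))

/-- elements of `Aut_S(E)` -/
theorem XS.act (h : XS S p z w) (hE : F.IsCentric E) {u : MulAut E} (hu : u ∈ autInducedBy S E) :
    (∀ x : E, ∃ k : ℤ, ((u x : E) : Ω) = x * z ^ k) ∧ ∀ x : E, (x : Ω) ∈ Subgroup.zpowers z → u x = x := by
  obtain ⟨t, ht, h1⟩ := mem_autInducedBy_iff.1 hu
  refine ⟨fun x => ?_, ?_⟩
  · obtain ⟨k, hk⟩ := h.comm t ht x (hE.1 x.2)
    exact ⟨k, by rw [h1, hk]⟩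
  · rintro x ⟨k, hk⟩
    apply Subtype.ext
    have hk' : (x : Ω) = z ^ k := hk.symm
    rw [h1, hk', h.zk ht]; group

/-- an abelian essential subgroup: an automorphism outside `extAuts` moves `⟨z⟩` -/
theorem XS.claim1 [Finite S] [Fact p.Prime] (h : XS S p z w) (hF : F.IsSaturated p) (hE : F.IsEssential p E)
    (hab : ∀ x ∈ E, ∀ y ∈ E, x * y = y * x) {α : MulAut E} (hα : α ∈ F.autGroup E) (hαB : α ∉ extAuts F E) (hz : z ∈ E) :
    ((α ⟨z, hz⟩ : E) : Ω) ∉ Subgroup.zpowers z := by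
  intro hc
  have hS := h.hS
  have hEf : Finite E := finite_of_le hE.1.1
  have hs := essS_of_essential hS hF hE
  apply hαB
  -- the subgroup `K`
  let K : Subgroup (MulAut E) :=
    { carrier := {κ | κ ∈ F.autGroup E ∧ κ ⟨z, hz⟩ = ⟨z, hz⟩ ∧ ∀ x : E, ∃ k : ℤ, κ x = x * ⟨z, hz⟩ ^ k}
      one_mem' := ⟨Subgroup.one_mem _, rfl, fun x => ⟨0, by simp⟩⟩
      mul_mem' := by
        rintro κ κ' ⟨h1, h2, h3⟩ ⟨h1', h2', h3'⟩
        refine ⟨Subgroup.mul_mem _ h1 h1', by rw [MulAut.mul_apply, h2', h2], fun x => ?_⟩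
        obtain ⟨k', hk'⟩ := h3' x
        obtain ⟨k, hk⟩ := h3 x
        refine ⟨k + k', ?_⟩
        rw [MulAut.mul_apply, hk', map_mul, map_zpow, h2, hk, zpow_add, mul_assoc]
      inv_mem' := by
        rintro κ ⟨h1, h2, h3⟩
        have h2' : κ⁻¹ (⟨z, hz⟩ : E) = ⟨z, hz⟩ := by
          conv_lhs => rw [← h2]
          rw [MulAut.inv_apply_self]
        refine ⟨Subgroup.inv_mem _ h1, h2', fun x => ?_⟩
        obtain ⟨k, hk⟩ := h3 (κ⁻¹ x)
        rw [MulAut.apply_inv_self] at hk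
        refine ⟨-k, ?_⟩
        rw [zpow_neg]
        exact eq_mul_inv_of_mul_eq hk.symm }
  have hzE : (⟨z, hz⟩ : E) ^ p = 1 := Subtype.ext h.zp
  have hKp : IsPGroup p K := by
    rintro ⟨κ, h1, h2, h3⟩
    refine ⟨1, Subtype.ext ?_⟩
    show κ ^ p ^ 1 = 1
    rw [pow_one]
    ext x
    obtain ⟨k, hk⟩ := h3 x
    have h4 : ∀ n : ℕ, (κ ^ n) x = x * (⟨z, hz⟩ ^ k) ^ n := by
      intro n
      induction n with
      | zero => simp
      | succ n ih => rw [pow_succ', MulAut.mul_apply, ih, map_mul, map_pow, map_zpow, h2, hk, pow_succ', mul_assoc]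
    rw [h4, ← zpow_natCast, ← zpow_mul, mul_comm k, zpow_mul, zpow_natCast, hzE, one_zpow, mul_one]
    rfl
  have hKA : K ≤ F.autGroup E := fun κ hκ => hκ.1
  have hUK : autInducedBy S E ≤ K := by
    intro u hu
    obtain ⟨h1, h2⟩ := h.act hE.1 hu
    refine ⟨hs.le hu, h2 _ (Subgroup.mem_zpowers z), fun x => ?_⟩
    obtain ⟨k, hk⟩ := h1 x
    exact ⟨k, Subtype.ext (by rw [hk]; rfl)⟩
  have hKU := hs.max K hKA hKp hUK
  refine hs.norm α hα fun u hu => ?_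
  rw [← hKU]
  obtain ⟨h1, h2⟩ := h.act hE.1 hu
  obtain ⟨a, ha⟩ := hc
  have ha' : α ⟨z, hz⟩ = ⟨z, hz⟩ ^ a := Subtype.ext (by rw [← ha]; rfl)
  refine ⟨Subgroup.mul_mem _ (Subgroup.mul_mem _ hα (hs.le hu)) (Subgroup.inv_mem _ hα), ?_, fun x => ?_⟩
  · -- `α⁻¹ z ∈ ⟨z⟩`
    obtain ⟨Z, hZ⟩ : ∃ Z : Subgroup E, Z = Subgroup.zpowers (⟨z, hz⟩ : E) := ⟨_, rfl⟩
    have h3 : Z.map α.toMonoidHom = Z := by
      apply Subgroup.eq_of_le_of_card_ge
      · rw [hZ, MonoidHom.map_zpowers, Subgroup.zpowers_le]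
        exact ⟨a, ha'.symm⟩
      · rw [Subgroup.card_map_of_injective α.injective]
    have h4 : (⟨z, hz⟩ : E) ∈ Z.map α.toMonoidHom := by rw [h3, hZ]; exact Subgroup.mem_zpowers _
    obtain ⟨v, hv, hvz⟩ := h4
    have hvz' : α v = ⟨z, hz⟩ := hvz
    have h5 : α⁻¹ (⟨z, hz⟩ : E) = v := by rw [← hvz', MulAut.inv_apply_self]
    rw [MulAut.mul_apply, MulAut.mul_apply, h5, h2 v, hvz']
    rw [hZ] at hv
    obtain ⟨k, hk⟩ := hv
    exact ⟨k, by rw [← hk]; rfl⟩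
  · obtain ⟨k, hk⟩ := h1 (α⁻¹ x)
    have hk' : u (α⁻¹ x) = α⁻¹ x * ⟨z, hz⟩ ^ k := Subtype.ext (by rw [hk]; rfl)
    refine ⟨a * k, ?_⟩
    rw [MulAut.mul_apply, MulAut.mul_apply, hk', map_mul, map_zpow, ha', MulAut.apply_inv_self, zpow_mul]

theorem conj_eq_one (hab : ∀ x ∈ E, ∀ y ∈ E, x * y = y * x) (g : E) : (MulAut.conj g : MulAut E) = 1 := by
  ext x
  rw [MulAut.conj_apply, MulAut.one_apply]
  push_cast
  rw [hab g g.2 x x.2]; group

theorem XS.claim2 [Finite S] [hp : Fact p.Prime] (h : XS S p z w) (hF : F.IsSaturated p) (hE : F.IsEssential p E)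
    (hab : ∀ x ∈ E, ∀ y ∈ E, x * y = y * x) : Nat.card S ≤ p * Nat.card E := by
  by_contra hcon
  have hS := h.hS
  have hES := hE.1.1
  have hEf : Finite E := finite_of_le hES
  have hs := essS_of_essential hS hF hE
  obtain ⟨α, hα, hαB⟩ := SetLike.exists_of_lt (lt_of_le_of_ne hs.ext_le hs.ext_ne)
  have hz := h.memE hE.1 h.zS h.zc
  have key : ∀ c ∈ E, ∃ t ∈ S, t ∉ E ∧ t * c = c * t := by
    intro c hc
    by_contra h0
    push Not at h0
    have h1 := h.cardK (K := S) le_rfl (hES hc)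
    have h2 : S ⊓ Subgroup.centralizer {c} ≤ E := by
      rintro x ⟨hx, hxc⟩
      by_contra hxE
      exact h0 x hx hxE (Subgroup.mem_centralizer_singleton_iff.1 hxc)
    exact hcon (h1.trans (Nat.mul_le_mul_left _ (Subgroup.card_le_of_le h2)))
  obtain ⟨t, ht, htE, htc⟩ := key _ (α ⟨z, hz⟩).2
  obtain ⟨t', ht', htE', htc'⟩ := key _ (α⁻¹ ⟨z, hz⟩).2
  have htn := h.norm hE.1 ht
  have htn' := h.norm hE.1 ht'
  obtain ⟨u, hu⟩ : ∃ u, u = conjAut E t htn := ⟨_, rfl⟩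
  obtain ⟨u', hu'⟩ : ∃ u', u' = conjAut E t' htn' := ⟨_, rfl⟩
  have huU : u ∈ autInducedBy S E := by rw [hu]; exact conjAut_mem_autInducedBy htn ht
  have huU' : u' ∈ autInducedBy S E := by rw [hu']; exact conjAut_mem_autInducedBy htn' ht'
  have hun : u ≠ 1 := by
    intro h1
    apply htE
    exact mem_of_conj_mem_inn (hE.1.2 E (isConj_refl F hES)) ht htn ⟨1, by rw [map_one, ← h1, hu]⟩ hES
  have hun' : u' ≠ 1 := by
    intro h1
    apply htE'
    exact mem_of_conj_mem_inn (hE.1.2 E (isConj_refl F hES)) ht' htn' ⟨1, by rw [map_one, ← h1, hu']⟩ hES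
  have huc : u (α ⟨z, hz⟩) = α ⟨z, hz⟩ := by
    apply Subtype.ext
    rw [hu, conjAut_apply, htc]; group
  have huc' : u' (α⁻¹ ⟨z, hz⟩) = α⁻¹ ⟨z, hz⟩ := by
    apply Subtype.ext
    rw [hu', conjAut_apply, htc']; group
  obtain ⟨v, hv⟩ : ∃ v, v = α * u' * α⁻¹ := ⟨_, rfl⟩
  have hvz : v ⟨z, hz⟩ = ⟨z, hz⟩ := by
    rw [hv, MulAut.mul_apply, MulAut.mul_apply, huc', MulAut.apply_inv_self]
  have hvA : v ∈ F.autGroup E := by
    rw [hv]; exact Subgroup.mul_mem _ (Subgroup.mul_mem _ hα (hs.le huU')) (Subgroup.inv_mem _ hα)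
  have hux : ∀ x : E, ∃ k : ℤ, u x = x * ⟨z, hz⟩ ^ k := fun x => by
    obtain ⟨k, hk⟩ := (h.act hE.1 huU).1 x
    exact ⟨k, Subtype.ext (by rw [hk]; rfl)⟩
  have hux' : ∀ x : E, ∃ k : ℤ, u' x = x * ⟨z, hz⟩ ^ k := fun x => by
    obtain ⟨k, hk⟩ := (h.act hE.1 huU').1 x
    exact ⟨k, Subtype.ext (by rw [hk]; rfl)⟩
  have hcom : v * u = u * v := by
    ext x
    obtain ⟨j, hj⟩ := hux x
    obtain ⟨k, hk⟩ := hux' (α⁻¹ x)
    have h1 : v x = x * (α ⟨z, hz⟩) ^ k := by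
      rw [hv, MulAut.mul_apply, MulAut.mul_apply, hk, map_mul, map_zpow, MulAut.apply_inv_self]
    have h2 : x * (α ⟨z, hz⟩) ^ k * ⟨z, hz⟩ ^ j = x * ⟨z, hz⟩ ^ j * (α ⟨z, hz⟩) ^ k := by
      have h3 : ∀ a b : E, a * b = b * a := fun a b => Subtype.ext (hab a a.2 b b.2)
      rw [mul_assoc, h3 ((α ⟨z, hz⟩) ^ k), mul_assoc]
    rw [MulAut.mul_apply, MulAut.mul_apply, hj, h1, map_mul, map_mul, map_zpow, map_zpow, hvz, huc, h1, hj, h2]
  have hpU : ∀ a ∈ autInducedBy S E, ∃ k : ℕ, a ^ (p ^ k) = 1 := by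
    intro a ha
    obtain ⟨k, hk⟩ := (isPGroup_autInducedBy (P := E) hS le_rfl) ⟨a, ha⟩
    exact ⟨k, congrArg Subtype.val hk⟩
  have hzp : ∀ a : MulAut E, (∃ k : ℕ, a ^ (p ^ k) = 1) → IsPGroup p (Subgroup.zpowers a) := by
    rintro a ⟨k, hk⟩ ⟨_, n, rfl⟩
    refine ⟨k, Subtype.ext ?_⟩
    show (a ^ n) ^ p ^ k = 1
    rw [← zpow_natCast, ← zpow_mul, mul_comm, zpow_mul, zpow_natCast, hk, one_zpow]
  have hvp : ∃ k : ℕ, v ^ (p ^ k) = 1 := by
    obtain ⟨k, hk⟩ := hpU u' huU'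
    exact ⟨k, by rw [hv, conj_pow, hk]; group⟩
  have hKp : IsPGroup p (Subgroup.zpowers u ⊔ Subgroup.zpowers v : Subgroup (MulAut E)) := by
    refine IsPGroup.to_sup_of_normal_right' (hzp u (hpU u huU)) (hzp v hvp) ?_
    rw [Subgroup.zpowers_le, Subgroup.mem_normalizer_iff]
    intro x
    have h1 : ∀ n : ℤ, u * v ^ n * u⁻¹ = v ^ n := fun n => by
      have : Commute u (v ^ n) := (show Commute u v from hcom.symm).zpow_right n
      rw [this.eq]; group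
    constructor
    · rintro ⟨n, rfl⟩
      exact ⟨n, (h1 n).symm⟩
    · rintro ⟨n, hn⟩
      refine ⟨n, ?_⟩
      have hn' : v ^ n = u * x * u⁻¹ := hn
      have h2 := h1 n
      rw [hn'] at h2
      show v ^ n = x
      rw [hn']
      have h3 : u * (u * x * u⁻¹) = (u * x * u⁻¹) * u := mul_inv_eq_iff_eq_mul.1 h2
      have h4 : u * x * u⁻¹ = x := by
        have : u * (u * x * u⁻¹) = u * x := by rw [h3]; group
        exact mul_left_cancel this
      exact h4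
  obtain ⟨χ, hχ, hχK⟩ := exists_conj_le_autInducedBy (automized_receptive_of_fullyNormalized hS hF hE.2.1).1 _
    (sup_le (Subgroup.zpowers_le.2 (hs.le huU)) (Subgroup.zpowers_le.2 hvA)) hKp
  have h1 := hχK u (Subgroup.mem_sup_left (Subgroup.mem_zpowers u))
  have h2 := hχK v (Subgroup.mem_sup_right (Subgroup.mem_zpowers v))
  have hne : ∀ (a b : MulAut E), b ≠ 1 → ∀ g : E, a * b * a⁻¹ ≠ MulAut.conj g := by
    intro a b hb g hg
    rw [conj_eq_one hab, mul_inv_eq_one] at hg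
    exact hb (mul_eq_left.1 hg)
  have h3 : χ ∈ extAuts F E := hs.conj χ hχ _ h1 u huU rfl (hne χ u hun)
  have h4 : χ * α ∈ extAuts F E := by
    refine hs.conj (χ * α) (Subgroup.mul_mem _ hχ hα) _ h2 u' huU' ?_ ?_
    · rw [hv]; group
    · rw [hv]
      have : χ * (α * u' * α⁻¹) * χ⁻¹ = (χ * α) * u' * (χ * α)⁻¹ := by group
      rw [this]
      exact hne _ _ hun'
  apply hαB
  have : α = χ⁻¹ * (χ * α) := by group
  rw [this]
  exact Subgroup.mul_mem _ (Subgroup.inv_mem _ h3) h4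

theorem XS.exists_pow [Finite S] [hp : Fact p.Prime] (h : XS S p z w) (hE : F.IsCentric E) (hc : Nat.card S ≤ p * Nat.card E)
    {s : Ω} (hs : s ∈ S) (hsE : s ∉ E) {t : Ω} (ht : t ∈ S) : ∃ k : ℕ, ∃ e ∈ E, t = s ^ k * e := by
  have hES := hE.1
  have hn : (E.subgroupOf S).Normal := by
    refine ⟨fun x hx g => ?_⟩
    rw [Subgroup.mem_subgroupOf] at hx ⊢
    have := (Subgroup.mem_normalizer_iff.1 (h.norm hE g.2) (x : Ω)).1 hx
    exact this
  have hcE : Nat.card (E.subgroupOf S) = Nat.card E := Nat.card_congr (Subgroup.subgroupOfEquivOfLe hES).toEquiv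
  have h1 := (E.subgroupOf S).index_mul_card
  rw [hcE] at h1
  have hEf : Finite E := finite_of_le hES
  have hpos : 0 < Nat.card E := Nat.card_pos
  have h2 : (E.subgroupOf S).index ≤ p := by
    rw [← h1] at hc
    exact Nat.le_of_mul_le_mul_right hc hpos
  have h3 : (E.subgroupOf S).index ≠ 1 := by
    rw [Ne, Subgroup.index_eq_one]
    intro h4
    apply hsE
    have : (⟨s, hs⟩ : S) ∈ E.subgroupOf S := by rw [h4]; trivial
    exact this
  obtain ⟨n, hn'⟩ := (Fact.mk hp.out : Fact p.Prime).out |> fun _ => h.hS.index (E.subgroupOf S)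
  have h4 : (E.subgroupOf S).index = p := by
    refine le_antisymm h2 ?_
    rw [hn'] at h3 ⊢
    refine Nat.le_of_dvd (pow_pos hp.out.pos _) (dvd_pow_self p ?_)
    rintro rfl
    exact h3 (pow_zero p)
  have h5 : Nat.card (S ⧸ E.subgroupOf S) = p := h4
  have h6 : ((⟨s, hs⟩ : S) : S ⧸ E.subgroupOf S) ≠ 1 := by
    rw [Ne, QuotientGroup.eq_one_iff]
    exact fun h => hsE h
  obtain ⟨k, hk⟩ := mem_powers_of_prime_card h5 h6 (g' := ((⟨t, ht⟩ : S) : S ⧸ E.subgroupOf S))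
  have hk' : (((⟨s, hs⟩ : S) ^ k : S) : S ⧸ E.subgroupOf S) = ((⟨t, ht⟩ : S) : S ⧸ E.subgroupOf S) := hk
  rw [QuotientGroup.eq] at hk'
  refine ⟨k, (s ^ k)⁻¹ * t, hk', by group⟩

theorem two_zpow {p : ℕ} [hp : Fact p.Prime] (hp2 : p ≠ 2) {e : Ω} (he : e ^ p = 1) {i : ℤ} (h : e ^ i * e ^ i = 1) : e ^ i = 1 := by
  have h1 : (e ^ i) ^ 2 = 1 := by rw [pow_two]; exact h
  have h2 : (e ^ i) ^ p = 1 := by rw [← zpow_natCast, ← zpow_mul, mul_comm, zpow_mul, zpow_natCast, he, one_zpow]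
  have h3 := orderOf_dvd_of_pow_eq_one h1
  have h4 := orderOf_dvd_of_pow_eq_one h2
  have h5 : Nat.Coprime 2 p := by
    rw [Nat.coprime_primes Nat.prime_two hp.out]; exact fun h => hp2 h.symm
  have h6 := Nat.dvd_gcd h3 h4
  rw [h5] at h6
  exact orderOf_eq_one_iff.1 (Nat.dvd_one.1 h6)

theorem XS.exists_data [Finite S] [hp : Fact p.Prime] (h : XS S p z w) (hp2 : p ≠ 2) (hF : F.IsSaturated p)
    (hE : F.IsEssential p E) (hab : ∀ x ∈ E, ∀ y ∈ E, x * y = y * x) :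
    ∃ (D : Subgroup Ω) (f : Ω → Ω), D ≤ S ∧ (∀ d ∈ D, ∀ s ∈ S, s * d = d * s) ∧ D ≠ ⊥ ∧ FIso F S S f ∧ f z = z⁻¹ ∧
      (∀ v ∈ S, (∀ s ∈ S, s * v = v * s) → ∃ k : ℤ, f v = v * z ^ k) ∧
      (∀ v ∈ S, (∀ s ∈ S, s * v = v * s) → (v ∈ D ↔ f v = v)) ∧ ∀ a, FIso F E E a → ∀ v ∈ D, a v ∈ D := by
  have hS := h.hS
  have hES := hE.1.1
  have hz := h.memE hE.1 h.zS h.zc
  obtain ⟨s, hs, hsE⟩ := SetLike.exists_of_lt (Cfsg.Agent.Lib.FusionEss.lt_of_essential hS hF hE)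
  have hc := h.claim2 hF hE hab
  have hpw : ∀ t ∈ S, ∃ k : ℕ, ∃ e ∈ E, t = s ^ k * e := fun t ht => h.exists_pow hE.1 hc hs hsE ht
  have hsn := h.norm hE.1 hs
  have hconjE : ∀ (k : ℕ) (e : Ω), e ∈ E → ∀ x ∈ E, (s ^ k * e) * x * (s ^ k * e)⁻¹ = s ^ k * x * (s ^ k)⁻¹ := by
    intro k e he x hx
    have : (s ^ k * e) * x * (s ^ k * e)⁻¹ = s ^ k * (e * x * e⁻¹) * (s ^ k)⁻¹ := by group
    rw [this, hab e he x hx]; group
  obtain ⟨D, e₁, e₂, T⟩ := Cfsg.Agent.Lib.FusionTransv.exists_tdata hS hF hE hab hs hsn hsE hz h.z1 h.zp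
    (by rw [h.zc s hs]; group) (fun v hv => h.comm s hs v (hES hv)) (by
      rintro t ⟨ht, -⟩
      obtain ⟨k, e, he, rfl⟩ := hpw t ht
      exact ⟨k, fun x hx => hconjE k e he x hx⟩)
  have hm₁ := T.mem₁
  have hm₂ := T.mem₂
  -- `D` is central
  have hDc : ∀ d ∈ D, ∀ t ∈ S, t * d = d * t := by
    intro d hd t ht
    obtain ⟨k, e, he, rfl⟩ := hpw t ht
    have h1 := T.conjD d hd
    have h2 : Commute s d := mul_inv_eq_iff_eq_mul.1 h1
    have h3 := (h2.pow_left k).eq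
    rw [mul_assoc, hab e he d (T.le hd), ← mul_assoc, h3, mul_assoc]
  -- central elements
  have hsplit : ∀ v ∈ S, (∀ t ∈ S, t * v = v * t) → ∃ c ∈ D, ∃ i : ℤ, v = c * e₁ ^ i := by
    intro v hv hvc
    have hvE := h.memE hE.1 hv hvc
    obtain ⟨c, hcD, i, j, hvij⟩ := T.dec v hvE
    have h1 : s * v * s⁻¹ = v := by rw [hvc s hs]; group
    have h2 : s * v * s⁻¹ = (s * c * s⁻¹) * (s * e₁ * s⁻¹) ^ i * (s * e₂ * s⁻¹) ^ j := by
      rw [hvij, conj_zpow, conj_zpow]; group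
    rw [T.conjD c hcD, T.conj₁, T.conj₂, (show Commute e₂ e₁ from hab _ hm₂ _ hm₁).mul_zpow] at h2
    have h3 : e₁ ^ j = 1 := by
      have h4 : c * e₁ ^ i * (e₂ ^ j * e₁ ^ j) = c * e₁ ^ i * e₂ ^ j := by rw [← h2, h1, hvij]
      rw [← mul_assoc] at h4
      exact mul_eq_left.1 h4
    have h4 := Cfsg.Agent.Lib.FusionTransv.zpow_eq_one_of T.pow₁ T.pow₂ T.ne₁ h3
    exact ⟨c, hcD, i, by rw [hvij, h4, mul_one]⟩
  obtain ⟨h0, hh0, hh1, hh2, hhD⟩ := T.inv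
  have haE : ∀ x ∈ E, h0 (s * x * s⁻¹) = s * h0 x * s⁻¹ := by
    intro x hx
    obtain ⟨c, hcD, i, j, hxij⟩ := T.dec x hx
    have hcE := T.le hcD
    have hz1 : ∀ i : ℤ, e₁ ^ i ∈ E := fun i => E.zpow_mem hm₁ i
    have hz2 : ∀ i : ℤ, e₂ ^ i ∈ E := fun i => E.zpow_mem hm₂ i
    have hcx : ∀ (c' : Ω) (i j : ℤ), c' ∈ D → s * (c' * e₁ ^ i * e₂ ^ j) * s⁻¹ = c' * e₁ ^ (i + j) * e₂ ^ j := by
      intro c' i j hc'
      have h2 : s * (c' * e₁ ^ i * e₂ ^ j) * s⁻¹ = (s * c' * s⁻¹) * (s * e₁ * s⁻¹) ^ i * (s * e₂ * s⁻¹) ^ j := by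
        rw [conj_zpow, conj_zpow]; group
      rw [h2, T.conjD c' hc', T.conj₁, T.conj₂, (show Commute e₂ e₁ from hab _ hm₂ _ hm₁).mul_zpow,
        hab _ (hz2 j) _ (hz1 j), zpow_add]
      group
    have hfx : ∀ (c' : Ω) (i j : ℤ), c' ∈ D → h0 (c' * e₁ ^ i * e₂ ^ j) = c' * e₁ ^ (-i) * e₂ ^ (-j) := by
      intro c' i j hc'
      rw [hh0.1.map_mul (E.mul_mem (T.le hc') (hz1 i)) (hz2 j), hh0.1.map_mul (T.le hc') (hz1 i), hhD c' hc',
        hh0.1.map_zpow hm₁, hh0.1.map_zpow hm₂, hh1, hh2, inv_zpow', inv_zpow']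
    rw [hxij, hcx c i j hcD, hfx _ _ _ hcD, hfx _ _ _ hcD, hcx _ _ _ hcD]
    congr 3
    ring
  have haE' : ∀ (k : ℕ), ∀ x ∈ E, h0 (s ^ k * x * (s ^ k)⁻¹) = s ^ k * h0 x * (s ^ k)⁻¹ := by
    intro k
    induction k with
    | zero => intro x _; simp
    | succ k ih =>
      intro x hx
      have hsx : s ^ k * x * (s ^ k)⁻¹ ∈ E := (Subgroup.mem_normalizer_iff.1 (Subgroup.pow_mem _ hsn k) x).1 hx
      have e1 : s ^ (k + 1) * x * (s ^ (k + 1))⁻¹ = s * (s ^ k * x * (s ^ k)⁻¹) * s⁻¹ := by rw [pow_succ']; group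
      rw [e1, haE _ hsx, ih x hx, pow_succ']; group
  have hnorm : ∀ u ∈ autInducedBy S E, hh0.equiv * u * hh0.equiv⁻¹ ∈ autInducedBy S E := by
    intro u hu
    obtain ⟨t, ht, h1⟩ := mem_autInducedBy_iff.1 hu
    obtain ⟨k, e, he, rfl⟩ := hpw t ht
    rw [mem_autInducedBy_iff]
    refine ⟨s ^ k, S.pow_mem hs k, fun x => ?_⟩
    obtain ⟨y, hy⟩ : ∃ y, y = hh0.equiv⁻¹ x := ⟨_, rfl⟩
    have hyx : h0 (y : Ω) = x := by rw [hy]; exact hh0.apply_equiv_symm x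
    rw [MulAut.mul_apply, MulAut.mul_apply, ← hy, hh0.equiv_apply, h1, hconjE k e he y y.2, haE' k y y.2, hyx]
  obtain ⟨f, hf1, hf2, hf3⟩ := exists_ext_of_norm hS hF hE.2.1 hh0.equiv_mem_autGroup hnorm
  rw [h.normIn hE.1] at hf1
  have hfE : ∀ x ∈ E, f x = h0 x := fun x hx => by rw [hf3 ⟨x, hx⟩]; exact hh0.equiv_apply _
  have hfv : ∀ c ∈ D, ∀ i : ℤ, f (c * e₁ ^ i) = c * e₁ ^ i * (e₁ ^ (-i) * e₁ ^ (-i)) := by
    intro c hcD i
    rw [hfE _ (E.mul_mem (T.le hcD) (E.zpow_mem hm₁ i)), hh0.1.map_mul (T.le hcD) (E.zpow_mem hm₁ i), hhD c hcD,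
      hh0.1.map_zpow hm₁, hh1, inv_zpow']
    rw [mul_assoc c, ← mul_assoc (e₁ ^ i), ← zpow_add, add_neg_cancel, zpow_zero, one_mul]
  obtain ⟨m₁, hm1⟩ := T.memz
  have hm1' : z ^ m₁ = e₁ := hm1
  refine ⟨D, f, T.le.trans hES, hDc, ?_, hf1, ?_, ?_, ?_, T.invD⟩
  · rintro rfl
    obtain ⟨c, hc1, i, hi⟩ := hsplit w h.wS h.wc
    rw [Subgroup.mem_bot] at hc1
    apply h.wz
    rw [hi, hc1, one_mul, ← hm1', ← zpow_mul]
    exact ⟨_, rfl⟩
  · -- `z` is a power of `e₁`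
    have h1 : Subgroup.zpowers e₁ = Subgroup.zpowers z := by
      have h0 : Finite (Subgroup.zpowers z) := finite_of_le (Subgroup.zpowers_le.2 h.zS)
      apply Subgroup.eq_of_le_of_card_ge (Subgroup.zpowers_le.2 T.memz)
      rw [Nat.card_zpowers, Nat.card_zpowers, orderOf_eq_prime h.zp h.z1, orderOf_eq_prime T.pow₁ T.ne₁]
    have h2 : z ∈ Subgroup.zpowers e₁ := by rw [h1]; exact Subgroup.mem_zpowers z
    obtain ⟨m, hm⟩ := h2
    have hm' : e₁ ^ m = z := hm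
    rw [hfE z hz, ← hm', hh0.1.map_zpow hm₁, hh1, inv_zpow]
  · intro v hv hvc
    obtain ⟨c, hcD, i, rfl⟩ := hsplit v hv hvc
    refine ⟨m₁ * (-i + -i), ?_⟩
    rw [hfv c hcD, ← zpow_add, ← hm1', ← zpow_mul, ← zpow_mul]
  · intro v hv hvc
    obtain ⟨c, hcD, i, rfl⟩ := hsplit v hv hvc
    rw [hfv c hcD, mul_eq_left]
    constructor
    · intro h1
      have h2 : e₁ ^ i ∈ D := by
        have := D.mul_mem (D.inv_mem hcD) h1
        rwa [inv_mul_cancel_left] at this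
      have h3 := (T.inj i 0 (by rwa [zpow_zero, mul_one])).1
      rw [zpow_neg, h3]; simp
    · intro h1
      have h2 := two_zpow hp2 T.pow₁ h1
      rw [zpow_neg, inv_eq_one] at h2
      rw [h2, mul_one]; exact hcD

theorem XS.lemL [Finite S] [hp : Fact p.Prime] (h : XS S p z w) (hF : F.IsSaturated p) {f g : Ω → Ω}
    (hf : FIso F S S f) (hfz : f z = z⁻¹) (hfv : ∀ v ∈ S, (∀ s ∈ S, s * v = v * s) → ∃ k : ℤ, f v = v * z ^ k)
    (hg : FIso F S S g) (hgz : g z = z⁻¹) (hgv : ∀ v ∈ S, (∀ s ∈ S, s * v = v * s) → ∃ k : ℤ, g v = v * z ^ k) :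
    ∀ v ∈ S, (∀ s ∈ S, s * v = v * s) → f v = g v := by
  intro v hv hvc
  have hS := h.hS
  obtain ⟨θ, hθ⟩ : ∃ θ : MulAut S, θ = hf.equiv⁻¹ * hg.equiv := ⟨_, rfl⟩
  have hθA : θ ∈ F.autGroup S := by
    rw [hθ]
    exact Subgroup.mul_mem _ (Subgroup.inv_mem _ hf.equiv_mem_autGroup) hg.equiv_mem_autGroup
  have hθf : ∀ x : S, f ((θ x : S) : Ω) = g x := by
    intro x
    have h1 : hf.equiv (θ x) = hg.equiv x := by rw [hθ, MulAut.mul_apply, MulAut.apply_inv_self]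
    have h2 := congrArg Subtype.val h1
    rwa [hf.equiv_apply, hg.equiv_apply] at h2
  obtain ⟨a, ha⟩ := hfv v hv hvc
  obtain ⟨b, hb⟩ := hgv v hv hvc
  have hzz : ∀ k : ℤ, z ^ k ∈ S := fun k => S.zpow_mem h.zS k
  have h1 : ((θ ⟨v, hv⟩ : S) : Ω) = v * z ^ (a - b) := by
    apply hf.1.inj (θ ⟨v, hv⟩).2 (S.mul_mem hv (hzz _))
    rw [hθf, hb, hf.1.map_mul hv (hzz _), ha, hf.1.map_zpow h.zS, hfz, inv_zpow', mul_assoc, ← zpow_add]
    congr 2
    ring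
  have h2 : ((θ ⟨z, h.zS⟩ : S) : Ω) = z := by
    apply hf.1.inj (θ _).2 h.zS
    rw [hθf, hgz, hfz]
  have h3 : ∀ n : ℕ, (((θ ^ n) ⟨v, hv⟩ : S) : Ω) = v * z ^ ((a - b) * n) := by
    intro n
    induction n with
    | zero => simp
    | succ n ih =>
      have e1 : (θ ^ n) ⟨v, hv⟩ = ⟨v, hv⟩ * ⟨z, h.zS⟩ ^ ((a - b) * n) := Subtype.ext (by rw [ih]; rfl)
      have e2 : θ ⟨z, h.zS⟩ = ⟨z, h.zS⟩ := Subtype.ext h2
      rw [pow_succ', MulAut.mul_apply, e1, map_mul, map_zpow, e2]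
      push_cast
      rw [h1, mul_assoc, ← zpow_add]
      congr 2
      ring
  obtain ⟨hauto, -⟩ := automized_receptive_of_fullyNormalized hS hF (isFullyNormalized_top F)
  have h4 := ((isFullyAutomized_iff hS).1 hauto).2
  rw [← inn_eq_autInducedBy] at h4
  have hn := inn_subgroupOf_normal (F.autGroup S)
  have h5 := Subgroup.pow_index_mem ((Inn S).subgroupOf (F.autGroup S)) ⟨θ, hθA⟩
  obtain ⟨n, hn'⟩ : ∃ n, n = ((Inn S).subgroupOf (F.autGroup S)).index := ⟨_, rfl⟩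
  rw [← hn'] at h5
  have h6 : θ ^ n ∈ Inn S := h5
  obtain ⟨t, ht⟩ := h6
  have h7 := h3 n
  rw [← ht] at h7
  have h8 : ((MulAut.conj t (⟨v, hv⟩ : S) : S) : Ω) = v := by
    rw [MulAut.conj_apply]
    push_cast
    rw [hvc t t.2]; group
  have h9 : z ^ ((a - b) * n) = 1 := by
    have : v * z ^ ((a - b) * n) = v := by rw [← h7]; exact h8
    exact mul_eq_left.1 this
  have h10 : (p : ℤ) ∣ (a - b) * n := by
    have := orderOf_dvd_iff_zpow_eq_one.2 h9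
    rwa [orderOf_eq_prime h.zp h.z1] at this
  have h11 : ¬ (p : ℤ) ∣ n := by
    intro hd
    exact h4 (by
      have : p ∣ n := by exact_mod_cast hd
      rw [hn'] at this
      exact this)
  have h12 : (p : ℤ) ∣ a - b := ((Nat.prime_iff_prime_int.1 hp.out).dvd_or_dvd h10).resolve_right h11
  rw [ha, hb]
  congr 1
  have h13 : z ^ (a - b) = 1 := by
    obtain ⟨m, hm⟩ := h12
    rw [hm, zpow_mul, zpow_natCast, h.zp, one_zpow]
  rw [zpow_sub] at h13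
  exact mul_inv_eq_one.1 h13

theorem mul_card_le [hp : Fact p.Prime] {Z K : Subgroup Ω} [Finite K] (hK : IsPGroup p K) (h : Z < K) :
    p * Nat.card Z ≤ Nat.card K := by
  have h1 := (Z.subgroupOf K).index_mul_card
  have hc : Nat.card (Z.subgroupOf K) = Nat.card Z := Nat.card_congr (Subgroup.subgroupOfEquivOfLe h.le).toEquiv
  rw [hc] at h1
  rw [← h1]
  refine Nat.mul_le_mul_right _ ?_
  obtain ⟨n, hn⟩ := hK.index (Z.subgroupOf K)
  rw [hn]
  refine Nat.le_of_dvd (pow_pos hp.out.pos _) (dvd_pow_self p ?_)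
  rintro rfl
  rw [pow_zero, Subgroup.index_eq_one, Subgroup.subgroupOf_eq_top] at hn
  exact h.not_ge hn

theorem XS.small [Finite S] [hp : Fact p.Prime] (h : XS S p z w) (hF : F.IsSaturated p)
    (hE : F.IsEssential p E) (hab : ∀ x ∈ E, ∀ y ∈ E, x * y = y * x) (hP : F.IsCentric P) (hPS : P < S) :
    ∀ x ∈ P, ∀ y ∈ P, x * y = y * x := by
  have hS := h.hS
  have hES := hE.1.1
  have hEf : Finite E := finite_of_le hES
  have hPf : Finite P := finite_of_le hPS.le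
  obtain ⟨s, hs, hsE⟩ := SetLike.exists_of_lt (Cfsg.Agent.Lib.FusionEss.lt_of_essential hS hF hE)
  have hc := h.claim2 hF hE hab
  have h1 := h.cardK hES hs
  obtain ⟨Z, hZ⟩ : ∃ Z, Z = centralizerIn S S := ⟨_, rfl⟩
  have hZm : ∀ v, v ∈ Z ↔ v ∈ S ∧ ∀ t ∈ S, t * v = v * t := by
    intro v
    rw [hZ, mem_centralizerIn, mem_centralizer_iff']
    refine and_congr_right fun hv => ⟨fun h1 t ht => ?_, fun h1 t ht => ?_⟩
    · exact (mul_inv_eq_iff_eq_mul.1 (h1 t ht)).symm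
    · rw [← h1 t ht]; group
  have h2 : E ⊓ Subgroup.centralizer {s} ≤ Z := by
    rintro v ⟨hv, hvs⟩
    have hvs' := Subgroup.mem_centralizer_singleton_iff.1 hvs
    rw [hZm]
    refine ⟨hES hv, fun t ht => ?_⟩
    obtain ⟨k, e, he, rfl⟩ := h.exists_pow hE.1 hc hs hsE ht
    have h3 := ((show Commute s v from hvs'.symm).pow_left k).eq
    rw [mul_assoc, hab e he v hv, ← mul_assoc, h3, mul_assoc]
  have hZf : Finite Z := finite_of_le (fun v hv => ((hZm v).1 hv).1)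
  have h3 : Nat.card S ≤ p * (p * Nat.card Z) :=
    hc.trans (Nat.mul_le_mul_left _ (h1.trans (Nat.mul_le_mul_left _ (Subgroup.card_le_of_le h2))))
  have h4 := mul_card_le hS hPS
  have h5 : Nat.card P ≤ p * Nat.card Z := Nat.le_of_mul_le_mul_left (h4.trans h3) hp.out.pos
  intro x hx y hy
  by_cases hxZ : x ∈ Z
  · exact (((hZm x).1 hxZ).2 y (hPS.le hy)).symm
  · have h6 : Z < P ⊓ Subgroup.centralizer {x} := by
      refine lt_of_le_of_ne ?_ ?_
      · intro v hv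
        obtain ⟨hv1, hv2⟩ := (hZm v).1 hv
        refine ⟨h.memE hP hv1 hv2, Subgroup.mem_centralizer_singleton_iff.2 (hv2 x (hPS.le hx)).symm⟩
      · intro heq
        apply hxZ
        rw [heq]
        exact ⟨hx, Subgroup.mem_centralizer_singleton_iff.2 rfl⟩
    have hf : Finite (P ⊓ Subgroup.centralizer {x} : Subgroup Ω) := finite_of_le (inf_le_left.trans hPS.le)
    have h7 := mul_card_le (isPGroup_of_le hS (inf_le_left.trans hPS.le)) h6
    have h8 : (P ⊓ Subgroup.centralizer {x} : Subgroup Ω) = P :=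
      Subgroup.eq_of_le_of_card_ge inf_le_left (h5.trans h7)
    have h9 : y ∈ P ⊓ Subgroup.centralizer {x} := by rw [h8]; exact hy
    exact (Subgroup.mem_centralizer_singleton_iff.1 h9.2).symm

/-- `⟨z⟩` is invariant under the automorphisms of nonabelian subgroups -/
theorem XS.zinv [Finite S] [hp : Fact p.Prime] (h : XS S p z w) (hPS : P ≤ S) (hz : z ∈ P)
    (hnab : ¬ ∀ x ∈ P, ∀ y ∈ P, x * y = y * x) {a : Ω → Ω} (ha : FIso F P P a) : a z ∈ Subgroup.zpowers z := by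
  push Not at hnab
  obtain ⟨x, hx, y, hy, hxy⟩ := hnab
  obtain ⟨k, hk⟩ := h.comm x (hPS hx) y (hPS hy)
  obtain ⟨j, hj⟩ := h.comm (a x) (hPS (ha.mem hx)) (a y) (hPS (ha.mem hy))
  have h1 : a x * a y * (a x)⁻¹ = a y * (a z) ^ k := by
    rw [← ha.1.map_inv hx, ← ha.1.map_mul hx hy, ← ha.1.map_mul (P.mul_mem hx hy) (P.inv_mem hx), hk,
      ha.1.map_mul hy (P.zpow_mem hz k), ha.1.map_zpow hz]
  have h2 : (a z) ^ k = z ^ j := by rw [h1] at hj; exact mul_left_cancel hj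
  have hzk : z ^ k ≠ 1 := by
    intro h3
    rw [h3, mul_one, mul_inv_eq_iff_eq_mul] at hk
    exact hxy hk
  have hkp : ¬ (p : ℤ) ∣ k := by
    rintro ⟨m, rfl⟩
    exact hzk (by rw [zpow_mul, zpow_natCast, h.zp, one_zpow])
  have hco : IsCoprime (p : ℤ) k := (Nat.prime_iff_prime_int.1 hp.out).coprime_iff_not_dvd.2 hkp
  obtain ⟨u, v, huv⟩ := hco
  have hap : (a z) ^ (p : ℤ) = 1 := by rw [← ha.1.map_zpow hz, zpow_natCast, h.zp, ha.1.map_one]
  have h3 : a z = ((a z) ^ k) ^ v := by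
    have : a z = (a z) ^ (u * p + v * k) := by rw [huv, zpow_one]
    conv_lhs => rw [this]
    rw [zpow_add, mul_comm u, zpow_mul, hap, one_zpow, one_mul, mul_comm v, zpow_mul]
  rw [h3, h2, ← zpow_mul]
  exact ⟨_, rfl⟩

theorem XS.core_ne_bot [Finite S] [hp : Fact p.Prime] (h : XS S p z w) (hp2 : p ≠ 2) (hF : F.IsSaturated p) :
    F.core ≠ ⊥ := by
  have hS := h.hS
  have hSn : ¬ ∀ x ∈ S, ∀ y ∈ S, x * y = y * x := by
    intro h1
    obtain ⟨x, hx, y, hy, hxy⟩ := h.nab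
    exact hxy (h1 x hx y hy)
  intro hcore
  by_cases hex : ∃ E : Subgroup Ω, F.IsEssential p E ∧ ∀ x ∈ E, ∀ y ∈ E, x * y = y * x
  · obtain ⟨E, hE, hab⟩ := hex
    obtain ⟨D, f, hDS, hDc, hD1, hf, hfz, hfv, hfD, -⟩ := h.exists_data hp2 hF hE hab
    have hN : F.IsNormal D := by
      refine isNormal_of_essential hS hF ?_
      rintro P (rfl | hP)
      · refine ⟨hDS, fun a ha v hv => ?_⟩
        obtain ⟨b, hb, hb1, hb2⟩ := ha.symm
        have haz : a z ∈ Subgroup.zpowers z := h.zinv le_rfl h.zS hSn ha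
        have hbz : b z ∈ Subgroup.zpowers z := h.zinv le_rfl h.zS hSn hb
        obtain ⟨i, hi⟩ := haz
        obtain ⟨j, hj⟩ := hbz
        have hi' : z ^ i = a z := hi
        have hj' : z ^ j = b z := hj
        have hcen : ∀ (c : Ω → Ω), FIso F P P c → ∀ x ∈ P, (∀ s ∈ P, s * x = x * s) → ∀ s ∈ P, s * c x = c x * s := by
          intro c hc x hx hxc s hs
          obtain ⟨y, hy, rfl⟩ := (hc.2 s).1 hs
          rw [← hc.1.map_mul hy hx, hxc y hy, hc.1.map_mul hx hy]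
        have hg := (hb.trans hf).trans ha
        have hgz : a (f (b z)) = z⁻¹ := by
          rw [← hj', hf.1.map_zpow h.zS, hfz, inv_zpow, ← inv_zpow, ha.1.map_zpow (P.inv_mem h.zS), ha.1.map_inv h.zS,
            inv_zpow, ← ha.1.map_zpow h.zS, hj', hb2 z h.zS]
        have hgv : ∀ v ∈ P, (∀ s ∈ P, s * v = v * s) → ∃ k : ℤ, a (f (b v)) = v * z ^ k := by
          intro v hv hvc
          obtain ⟨k, hk⟩ := hfv (b v) (hb.mem hv) (hcen b hb v hv hvc)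
          refine ⟨i * k, ?_⟩
          rw [hk, ha.1.map_mul (hb.mem hv) (P.zpow_mem h.zS k), hb2 v hv, ha.1.map_zpow h.zS, ← hi', ← zpow_mul]
        have hvS := hDS hv
        have hvc : ∀ s ∈ P, s * v = v * s := fun s hs => hDc v hv s hs
        have hav := ha.mem hvS
        have havc := hcen a ha v hvS hvc
        rw [hfD (a v) hav havc]
        have h1 := h.lemL hF hf hfz hfv hg hgz hgv (a v) hav havc
        rw [h1]
        show a (f (b (a v))) = a v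
        rw [hb1 v hvS, (hfD v hvS hvc).1 hv]
      · have hPS := Cfsg.Agent.Lib.FusionEss.lt_of_essential hS hF hP
        have hPab := h.small hF hE hab hP.1 hPS
        obtain ⟨D', f', hDS', hDc', -, hf', hfz', hfv', hfD', hinv'⟩ := h.exists_data hp2 hF hP hPab
        have hsame := h.lemL hF hf hfz hfv hf' hfz' hfv'
        refine ⟨fun v hv => h.memE hP.1 (hDS hv) (fun s hs => hDc v hv s hs), fun a ha v hv => ?_⟩
        have hvS := hDS hv
        have hvc : ∀ s ∈ S, s * v = v * s := fun s hs => hDc v hv s hs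
        have h1 : v ∈ D' := by
          rw [hfD' v hvS hvc, ← hsame v hvS hvc]
          exact (hfD v hvS hvc).1 hv
        have h2 := hinv' a ha v h1
        have h2c : ∀ s ∈ S, s * a v = a v * s := fun s hs => hDc' _ h2 s hs
        rw [hfD (a v) (hDS' h2) h2c, hsame _ (hDS' h2) h2c]
        exact (hfD' _ (hDS' h2) h2c).1 h2
    have h1 : D ≤ F.core := le_sSup hN
    rw [hcore, le_bot_iff] at h1
    exact hD1 h1
  · push Not at hex
    have hN : F.IsNormal (Subgroup.zpowers z) := by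
      refine isNormal_of_essential hS hF ?_
      intro P hP
      have hPS : P ≤ S := by
        rcases hP with rfl | hP
        · exact le_rfl
        · exact hP.1.1
      have hzP : z ∈ P := by
        rcases hP with rfl | hP
        · exact h.zS
        · exact h.memE hP.1 h.zS h.zc
      have hPn : ¬ ∀ x ∈ P, ∀ y ∈ P, x * y = y * x := by
        rcases hP with rfl | hP
        · exact hSn
        · obtain ⟨x, hx, y, hy, hxy⟩ := hex P hP
          exact fun h1 => hxy (h1 x hx y hy)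
      refine ⟨Subgroup.zpowers_le.2 hzP, fun a ha x hx => ?_⟩
      obtain ⟨k, rfl⟩ := hx
      show a (z ^ k) ∈ _
      rw [ha.1.map_zpow hzP]
      exact Subgroup.zpow_mem _ (h.zinv hPS hzP hPn ha) k
    have h1 : Subgroup.zpowers z ≤ F.core := le_sSup hN
    rw [hcore, le_bot_iff, Subgroup.zpowers_eq_bot] at h1
    exact h.z1 h1

end Cfsg.Agent.Lib.H34Exs
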