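import Cfsg.Agent.Lib.ThompsonJ

/-! Basic facts on `omegaCenterThompson`, stable embeddings and `stableNormalClosure`. -/

set_option autoImplicit false

namespace Cfsg.Agent.Lib.StableClosure

open Subgroup Cfsg.Agent.Lib.ThompsonJ

universe u

variable {S S' : Type u} [Group S] [Group S'] {p : ℕ}

theorem thompsonSubgroup_map_equiv (η : S ≃* S') :
    (Cfsg.thompsonSubgroup p S).map η.toMonoidHom = Cfsg.thompsonSubgroup p S' := by
  rw [thompsonSubgroup_eq, thompsonSubgroup_eq, map_J_elem η.injective,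
    map_top_of_surjective _ η.surjective]

theorem center_inf_map {H : Type u} [Group H] {τ : S →* H} (hτ : Function.Injective τ)
    (J : Subgroup S) :
    (J ⊓ centralizer (J : Set S)).map τ = J.map τ ⊓ centralizer ((J.map τ : Subgroup H) : Set H) := by
  ext y
  constructor
  · rintro ⟨x, ⟨hx, hxc⟩, rfl⟩
    refine ⟨⟨x, hx, rfl⟩, ?_⟩
    show τ x ∈ centralizer ((J.map τ : Subgroup H) : Set H)
    rw [mem_centralizer_iff]
    rintro _ ⟨z, hz, rfl⟩
    rw [← map_mul, ← map_mul, mem_centralizer_iff.1 hxc z hz]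
  · rintro ⟨⟨x, hx, rfl⟩, hc⟩
    refine ⟨x, ⟨hx, ?_⟩, rfl⟩
    show x ∈ centralizer (J : Set S)
    rw [mem_centralizer_iff]
    intro z hz
    apply hτ
    rw [map_mul, map_mul]
    exact mem_centralizer_iff.1 hc _ ⟨z, hz, rfl⟩

theorem omegaCenterThompson_map {H : Type u} [Group H] {τ : S →* H} (hτ : Function.Injective τ) :
    (Cfsg.omegaCenterThompson p S).map τ =
      Cfsg.omegaOne p ((Cfsg.thompsonSubgroup p S).map τ ⊓
        centralizer (((Cfsg.thompsonSubgroup p S).map τ : Subgroup H) : Set H)) := by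
  unfold Cfsg.omegaCenterThompson
  rw [map_omegaOne hτ, center_inf_map hτ]

theorem omegaCenterThompson_map_equiv (η : S ≃* S') :
    (Cfsg.omegaCenterThompson p S).map η.toMonoidHom = Cfsg.omegaCenterThompson p S' := by
  rw [omegaCenterThompson_map η.injective, thompsonSubgroup_map_equiv]
  rfl

theorem omegaOne_normal {H : Subgroup S} (hH : H.Normal) : (Cfsg.omegaOne p H).Normal := by
  have : Normal (Subgroup.closure {x : S | x ∈ H ∧ x ^ p = 1}) := by
    refine ⟨?_⟩
    intro n hn g
    refine closure_induction (p := fun n _ => g * n * g⁻¹ ∈ closure {x : S | x ∈ H ∧ x ^ p = 1})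
      ?_ ?_ ?_ ?_ hn
    · intro x hx
      refine subset_closure ⟨hH.conj_mem x hx.1 g, ?_⟩
      rw [conj_pow, hx.2]; simp
    · simp
    · intro x y _ _ hx hy
      have := mul_mem hx hy
      simpa [mul_assoc] using this
    · intro x _ hx
      have := inv_mem hx
      simpa [mul_assoc] using this
  exact this

theorem isStableEmbedding_comp {H : Type u} [Group H] (η : S ≃* S') {τ : S' →* H}
    (h : Cfsg.IsStableEmbedding p τ) : Cfsg.IsStableEmbedding p (τ.comp η.toMonoidHom) := by
  obtain ⟨h1, h2, ⟨P, hP⟩, h4, h5, h6⟩ := h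
  refine ⟨h1.comp η.injective, h2, ⟨P, ?_⟩, h4, ?_, ?_⟩
  · rw [hP]
    ext y
    constructor
    · rintro ⟨x, rfl⟩; exact ⟨η.symm x, by simp⟩
    · rintro ⟨x, rfl⟩; exact ⟨η x, rfl⟩
  · rw [← Subgroup.map_map, thompsonSubgroup_map_equiv]; exact h5
  · intro V hV hle
    refine h6 V ?_
    rwa [← Subgroup.map_map, omegaCenterThompson_map_equiv] at hle

theorem omega_center_le : Cfsg.omegaOne p (center S) ≤ Cfsg.stableNormalClosure p S :=
  le_sInf fun _ h => h.1

theorem snc_map_le (η : S ≃* S') :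
    (Cfsg.stableNormalClosure p S).map η.toMonoidHom ≤ Cfsg.stableNormalClosure p S' := by
  apply le_sInf
  rintro W' ⟨h1, h2⟩
  rw [map_le_iff_le_comap]
  apply sInf_le
  refine ⟨?_, ?_⟩
  · rw [← map_le_iff_le_comap]
    refine le_trans ?_ h1
    rw [map_omegaOne η.injective]
    apply omegaOne_mono
    rintro _ ⟨x, hx, rfl⟩
    rw [mem_center_iff]
    intro g
    apply η.symm.injective
    have := mem_center_iff.1 hx (η.symm g)
    simpa using this
  · intro H _ τ hτ
    have h3 : (W'.comap η.toMonoidHom).map τ = W'.map (τ.comp η.symm.toMonoidHom) := by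
      ext y
      constructor
      · rintro ⟨x, hx, rfl⟩
        exact ⟨η x, hx, by simp⟩
      · rintro ⟨x, hx, rfl⟩
        exact ⟨η.symm x, by simpa using hx, by simp⟩
    rw [h3]
    exact h2 H _ (isStableEmbedding_comp η.symm hτ)

theorem snc_map (η : S ≃* S') :
    (Cfsg.stableNormalClosure p S).map η.toMonoidHom = Cfsg.stableNormalClosure p S' := by
  apply le_antisymm (snc_map_le η)
  intro y hy
  have h0 : η.symm.toMonoidHom y ∈ (Cfsg.stableNormalClosure p S').map η.symm.toMonoidHom :=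
    ⟨y, hy, rfl⟩
  have := snc_map_le (p := p) η.symm h0
  exact ⟨η.symm y, this, by simp⟩

theorem snc_characteristic : (Cfsg.stableNormalClosure p S).Characteristic := by
  rw [characteristic_iff_map_eq]
  intro η
  exact snc_map η

instance snc_normal : (Cfsg.stableNormalClosure p S).Normal :=
  @normal_of_characteristic _ _ _ snc_characteristic

theorem omega_center_le_oct [Finite S] :
    Cfsg.omegaOne p (center S) ≤ Cfsg.omegaCenterThompson p S := by
  have hmem : ∀ x ∈ center S, x ^ p = 1 → ∀ A ∈ maxIn (Cfsg.IsElementaryAbelian p) (⊤ : Subgroup S),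
      x ∈ A := by
    intro x hx hxp A hA
    exact mem_of_centralizes_elem hA (mem_top x) hxp (center_le_centralizer _ hx)
  unfold Cfsg.omegaOne
  rw [closure_le]
  rintro x ⟨hx, hxp⟩
  refine mem_omegaOne ⟨?_, ?_⟩ hxp
  · obtain ⟨A, hA⟩ := maxElem_nonempty p (⊤ : Subgroup S)
    rw [thompsonSubgroup_eq]
    exact le_J hA (hmem x hx hxp A hA)
  · exact center_le_centralizer _ hx

theorem snc_le_oct [Finite S] : Cfsg.stableNormalClosure p S ≤ Cfsg.omegaCenterThompson p S := by
  apply sInf_le
  refine ⟨omega_center_le_oct, ?_⟩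
  intro H _ τ hτ
  obtain ⟨h1, h2, _, h4, h5, h6⟩ := hτ
  rw [omegaCenterThompson_map h1]
  apply omegaOne_normal
  have := h5
  infer_instance

theorem snc_map_normal {H : Type u} [Group H] {τ : S →* H} (hτ : Cfsg.IsStableEmbedding p τ) :
    ((Cfsg.stableNormalClosure p S).map τ).Normal := by
  have hinj := hτ.1
  refine ⟨?_⟩
  rintro _ ⟨w, hw, rfl⟩ g
  -- it is enough that `g * τ w * g⁻¹` is in the range; use that for every W in the family.
  have key : ∀ W : Subgroup S, Cfsg.omegaOne p (Subgroup.center S) ≤ W →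
      (∀ (H : Type u) [Group H] (τ : S →* H), Cfsg.IsStableEmbedding p τ → (W.map τ).Normal) →
      g * τ w * g⁻¹ ∈ W.map τ := by
    intro W h1 h2
    have hwW : w ∈ W := (sInf_le ⟨h1, h2⟩ : Cfsg.stableNormalClosure p S ≤ W) hw
    exact (h2 H τ hτ).conj_mem _ ⟨w, hwW, rfl⟩ g
  have htop : g * τ w * g⁻¹ ∈ (Cfsg.omegaCenterThompson p S).map τ := by
    have : Finite S := by
      have := hτ.2.1
      exact Finite.of_injective τ hinj
    have hN : ((Cfsg.omegaCenterThompson p S).map τ).Normal := by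
      obtain ⟨h1, h2, _, h4, h5, h6⟩ := hτ
      rw [omegaCenterThompson_map h1]
      apply omegaOne_normal
      have := h5
      infer_instance
    exact hN.conj_mem _ ⟨w, snc_le_oct hw, rfl⟩ g
  obtain ⟨v, hv, hvw⟩ := htop
  refine ⟨v, ?_, hvw⟩
  show v ∈ Cfsg.stableNormalClosure p S
  unfold Cfsg.stableNormalClosure
  rw [mem_sInf]
  rintro W ⟨h1, h2⟩
  obtain ⟨v', hv', hvw'⟩ := key W h1 h2
  have : v' = v := hinj (by rw [hvw, hvw'])
  rwa [← this]

end Cfsg.Agent.Lib.StableClosure
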