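import Cfsg.Agent.Lib.H34FDef
import Cfsg.Agent.Lib.StableClosure
import Cfsg.Agent.Lib.SfUniq
import Cfsg.Agent.Lib.CFTriple

/-!
# The functor of largest offender-free normal elementary abelian subgroups (piece H34-A, helper63)
-/

set_option autoImplicit false
set_option linter.unusedSectionVars false

namespace Cfsg.Agent.Lib.H34FA1

open Subgroup Cfsg Cfsg.Agent.Lib.SfAct Cfsg.Agent.Lib.LocBase Cfsg.Agent.Lib.SfMin Cfsg.Agent.Lib.PReduced
  Cfsg.Agent.Lib.SfRel Cfsg.Agent.Lib.SfThomp Cfsg.Agent.Lib.H34FDef Cfsg.Agent.Lib.H34SolvOff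

universe u

section gen
variable {G : Type*} [Group G] [Finite G]

theorem lt_iff_relIndex {k l : ℕ} {R V : Subgroup G} :
    (Nat.card R ^ k * Nat.card ↥(V ⊓ centralizer (R : Set G)) ^ l <
      Nat.card V ^ l * Nat.card ↥(R ⊓ centralizer (V : Set G)) ^ k) ↔
      (centralizer (V : Set G)).relIndex R ^ k < (centralizer (R : Set G)).relIndex V ^ l := by
  have e1 := FrakM.card_mul_relIndex (inf_le_left : V ⊓ centralizer (R : Set G) ≤ V)
  have e2 := FrakM.card_mul_relIndex (inf_le_left : R ⊓ centralizer (V : Set G) ≤ R)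
  rw [Subgroup.inf_relIndex_left] at e1 e2
  rw [← e1, ← e2, mul_pow, mul_pow]
  have h1 : 0 < Nat.card ↥(R ⊓ centralizer (V : Set G)) ^ k := pow_pos Nat.card_pos _
  have h2 : 0 < Nat.card ↥(V ⊓ centralizer (R : Set G)) ^ l := pow_pos Nat.card_pos _
  set a := Nat.card ↥(R ⊓ centralizer (V : Set G)) ^ k
  set b := Nat.card ↥(V ⊓ centralizer (R : Set G)) ^ l
  set x := (centralizer (V : Set G)).relIndex R ^ k
  set y := (centralizer (R : Set G)).relIndex V ^ l
  have e3 : a * x * b = a * b * x := by ring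
  have e4 : b * y * a = a * b * y := by ring
  rw [e3, e4]
  exact Nat.mul_lt_mul_left (Nat.mul_pos h1 h2)

theorem le_iff_relIndex {k l : ℕ} {R V : Subgroup G} :
    (Nat.card R ^ k * Nat.card ↥(V ⊓ centralizer (R : Set G)) ^ l ≤
      Nat.card V ^ l * Nat.card ↥(R ⊓ centralizer (V : Set G)) ^ k) ↔
      (centralizer (V : Set G)).relIndex R ^ k ≤ (centralizer (R : Set G)).relIndex V ^ l := by
  have e1 := FrakM.card_mul_relIndex (inf_le_left : V ⊓ centralizer (R : Set G) ≤ V)
  have e2 := FrakM.card_mul_relIndex (inf_le_left : R ⊓ centralizer (V : Set G) ≤ R)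
  rw [Subgroup.inf_relIndex_left] at e1 e2
  rw [← e1, ← e2, mul_pow, mul_pow]
  have h1 : 0 < Nat.card ↥(R ⊓ centralizer (V : Set G)) ^ k := pow_pos Nat.card_pos _
  have h2 : 0 < Nat.card ↥(V ⊓ centralizer (R : Set G)) ^ l := pow_pos Nat.card_pos _
  set a := Nat.card ↥(R ⊓ centralizer (V : Set G)) ^ k
  set b := Nat.card ↥(V ⊓ centralizer (R : Set G)) ^ l
  set x := (centralizer (V : Set G)).relIndex R ^ k
  set y := (centralizer (R : Set G)).relIndex V ^ l
  have e3 : a * x * b = a * b * x := by ring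
  have e4 : b * y * a = a * b * y := by ring
  rw [e3, e4]
  exact Nat.mul_le_mul_left_iff (Nat.mul_pos h1 h2)

theorem PP_iff {k l : ℕ} {T V : Subgroup G} : PP k l T V ↔
    ∀ R : Subgroup G, R ≤ T → Ac R V →
      (centralizer (V : Set G)).relIndex R ^ k < (centralizer (R : Set G)).relIndex V ^ l := by
  constructor
  · intro h R hR hA; exact lt_iff_relIndex.mp (h R hR hA)
  · intro h R hR hA; exact lt_iff_relIndex.mpr (h R hR hA)

theorem _root_.Cfsg.Agent.Lib.H34FDef.Ac.mono_left {R R1 V : Subgroup G} (h : Ac R V) (h1 : R1 ≤ R)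
    (hne : ¬ R1 ≤ centralizer (V : Set G)) : Ac R1 V where
  comm := (commutator_mono h1 h1).trans h.comm
  sq := fun r hr => h.sq r (h1 hr)
  ne := hne

theorem _root_.Cfsg.Agent.Lib.H34FDef.Ac.mono {R R1 V V1 : Subgroup G} (h : Ac R V) (h1 : R1 ≤ R) (h2 : V1 ≤ V)
    (hne : ¬ R1 ≤ centralizer (V1 : Set G)) : Ac R1 V1 where
  comm := ((commutator_mono h1 h1).trans h.comm).trans (centralizer_le h2)
  sq := fun r hr => centralizer_le h2 (h.sq r (h1 hr))
  ne := hne

theorem _root_.Cfsg.Agent.Lib.H34FDef.PP.mono {k l : ℕ} {T T1 V : Subgroup G} (h : PP k l T V) (h1 : T1 ≤ T) :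
    PP k l T1 V := fun R hR hA => h R (hR.trans h1) hA

theorem PP_of_centralizes {k l : ℕ} {T V : Subgroup G} (h : T ≤ centralizer (V : Set G)) : PP k l T V :=
  fun _ hR hA => (hA.ne (hR.trans h)).elim

/-- index of `C_V(R)` in `V` is at least the product of the indices for `W` and `U` -/
theorem ri_ge {R R1 V V1 V2 : Subgroup G} (hV1 : V1 ≤ V) (hV2 : V2 ≤ V) (hR1 : R1 ≤ R)
    (hc : R1 ≤ centralizer (V1 : Set G)) :
    (centralizer (R : Set G)).relIndex V1 * (centralizer (R1 : Set G)).relIndex V2 ≤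
      (centralizer (R : Set G)).relIndex V := by
  -- C_V(R) ≤ C_V(R1) ≤ V
  have h1 : V ⊓ centralizer (R : Set G) ≤ V ⊓ centralizer (R1 : Set G) :=
    inf_le_inf_left V (centralizer_le hR1)
  have e1 := Subgroup.relIndex_mul_relIndex _ _ _ h1 (inf_le_left : V ⊓ centralizer (R1 : Set G) ≤ V)
  rw [Subgroup.inf_relIndex_left V (centralizer (R1 : Set G)), Subgroup.inf_relIndex_left V (centralizer (R : Set G))] at e1
  rw [← e1]
  apply Nat.mul_le_mul
  · -- V1 ≤ C_V(R1)
    have h2 : V1 ≤ V ⊓ centralizer (R1 : Set G) := le_inf hV1 (Subgroup.le_centralizer_iff.mp hc)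
    have h3 : (V ⊓ centralizer (R : Set G)).relIndex V1 ≤ (V ⊓ centralizer (R : Set G)).relIndex (V ⊓ centralizer (R1 : Set G)) :=
      Subgroup.relIndex_le_of_le_right h2 (ri_pos _ _).ne'
    refine le_trans ?_ h3
    rw [← Subgroup.inf_relIndex_right (centralizer (R : Set G)) V1, ← Subgroup.inf_relIndex_right (V ⊓ centralizer (R : Set G)) V1]
    apply le_of_eq
    congr 1
    apply le_antisymm
    · exact le_inf (le_inf (inf_le_right.trans hV1) inf_le_left) inf_le_right
    · exact le_inf (inf_le_left.trans inf_le_right) inf_le_right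
  · exact Subgroup.relIndex_le_of_le_right hV2 (ri_pos _ _).ne'

theorem pp_sup {k l : ℕ} {T V₁ V₂ : Subgroup G} (h1 : PP k l T V₁) (h2 : PP k l T V₂) : PP k l T (V₁ ⊔ V₂) := by
  rw [PP_iff] at *
  intro R hR hA
  set V := V₁ ⊔ V₂ with hV
  set R1 := R ⊓ centralizer (V₁ : Set G) with hR1
  have hCV : centralizer (V : Set G) = centralizer (V₁ : Set G) ⊓ centralizer (V₂ : Set G) := by
    apply le_antisymm
    · exact le_inf (centralizer_le (show V₁ ≤ V from le_sup_left)) (centralizer_le (show V₂ ≤ V from le_sup_right))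
    · rw [Subgroup.le_centralizer_iff]
      exact sup_le (Subgroup.le_centralizer_iff.mp inf_le_left) (Subgroup.le_centralizer_iff.mp inf_le_right)
  have e1 : (centralizer (V : Set G)).relIndex R =
      (centralizer (V₁ : Set G)).relIndex R * (centralizer (V₂ : Set G)).relIndex R1 := by
    have h3 : R1 ⊓ centralizer (V₂ : Set G) ≤ R1 := inf_le_left
    have e := Subgroup.relIndex_mul_relIndex _ _ _ h3 (inf_le_left : R1 ≤ R)
    rw [Subgroup.inf_relIndex_left R1 (centralizer (V₂ : Set G)), hR1, Subgroup.inf_relIndex_left R (centralizer (V₁ : Set G)),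
      ← hR1] at e
    have e' : R1 ⊓ centralizer (V₂ : Set G) = R ⊓ centralizer (V : Set G) := by rw [hCV, hR1, inf_assoc]
    rw [e', Subgroup.inf_relIndex_left R (centralizer (V : Set G))] at e
    rw [← e, mul_comm]
  have e2 := ri_ge (R := R) (R1 := R1) (V := V) (V1 := V₁) (V2 := V₂) le_sup_left le_sup_right inf_le_left inf_le_right
  set a := (centralizer (V₁ : Set G)).relIndex R
  set c := (centralizer (V₂ : Set G)).relIndex R1
  set b := (centralizer (R : Set G)).relIndex V₁
  set d := (centralizer (R1 : Set G)).relIndex V₂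
  rw [e1]
  refine lt_of_lt_of_le ?_ (Nat.pow_le_pow_left e2 l)
  rw [mul_pow, mul_pow]
  have hb : 0 < b := ri_pos _ _
  have hd : 0 < d := ri_pos _ _
  have ha : 0 < a := ri_pos _ _
  have hc : 0 < c := ri_pos _ _
  by_cases hc1 : R ≤ centralizer (V₁ : Set G)
  · have hRR : R1 = R := inf_eq_left.mpr hc1
    have hc2 : ¬ R1 ≤ centralizer (V₂ : Set G) := by
      rw [hRR]; intro h; apply hA.ne; rw [hCV]; exact le_inf hc1 h
    have ha1 : a = 1 := Subgroup.relIndex_eq_one.mpr hc1
    have hb1 : 1 ≤ b ^ l := Nat.one_le_pow _ _ hb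
    have h3 := h2 R1 (inf_le_left.trans hR) (hA.mono inf_le_left le_sup_right hc2)
    rw [ha1, one_pow, one_mul]
    calc c ^ k < d ^ l := h3
      _ = 1 * d ^ l := (one_mul _).symm
      _ ≤ b ^ l * d ^ l := Nat.mul_le_mul_right _ hb1
  · have h3 := h1 R hR (hA.mono le_rfl le_sup_left hc1)
    by_cases hc2 : R1 ≤ centralizer (V₂ : Set G)
    · have hcc : c = 1 := Subgroup.relIndex_eq_one.mpr hc2
      have hd1 : 1 ≤ d ^ l := Nat.one_le_pow _ _ hd
      rw [hcc, one_pow, mul_one]
      calc a ^ k < b ^ l := h3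
        _ = b ^ l * 1 := (mul_one _).symm
        _ ≤ b ^ l * d ^ l := Nat.mul_le_mul_left _ hd1
    · have h4 := h2 R1 (inf_le_left.trans hR) (hA.mono inf_le_left le_sup_right hc2)
      exact Nat.mul_lt_mul_of_lt_of_lt h3 h4

theorem maxE_le {S A V : Subgroup G} (hA : MaxE S A) (hV : V ≤ S) (hVe : IsElementaryAbelian 2 V)
    (hQ : PP 3 2 S V) : A ≤ centralizer (V : Set G) := by
  by_contra hne
  have hAA : A ≤ centralizer (A : Set G) := (elem_iff.mp hA.elem).1
  have hac : Ac A V := by
    refine ⟨?_, ?_, hne⟩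
    · rw [commutator_eq_bot_iff_le_centralizer.mpr hAA]; exact bot_le
    · intro r hr
      rw [(elem_iff.mp hA.elem).2 r hr]; exact one_mem _
  have h1 := (PP_iff.mp hQ) A hA.le hac
  set m := (centralizer (V : Set G)).relIndex A with hm
  set n := (centralizer (A : Set G)).relIndex V with hn
  set A₀ := A ⊓ centralizer (V : Set G) with hA₀
  have hB : IsElementaryAbelian 2 (A₀ ⊔ V) :=
    elem_sup (elem_mono hA.elem inf_le_left) hVe inf_le_right
  have h2 := hA.max _ (sup_le (inf_le_left.trans hA.le) hV) hB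
  have hAV : A ⊓ V ≤ V ⊓ centralizer (A : Set G) :=
    le_inf inf_le_right (inf_le_left.trans (elem_iff.mp hA.elem).1)
  have e1 : A₀.relIndex (A₀ ⊔ V) = A₀.relIndex V :=
    LocTrace.relIndex_sup_of_le_normalizer ((Subgroup.le_centralizer_iff.mp inf_le_right).trans (centralizer_le_normalizer _))
  have e2 := FrakM.card_mul_relIndex (le_sup_left : A₀ ≤ A₀ ⊔ V)
  have e3 := FrakM.card_mul_relIndex (inf_le_left : A₀ ≤ A)
  rw [Subgroup.inf_relIndex_left, ← hm] at e3
  have h3 : A₀.relIndex V ≤ m := by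
    rw [e1] at e2
    rw [← e2, ← e3] at h2
    exact Nat.le_of_mul_le_mul_left h2 Nat.card_pos
  have h4 : n ≤ A₀.relIndex V := by
    have h5 : A₀ ⊓ V ≤ centralizer (A : Set G) ⊓ V := by
      apply le_inf _ inf_le_right
      exact (inf_le_inf_right V inf_le_left).trans (hAV.trans inf_le_right)
    rw [hn, ← Subgroup.inf_relIndex_right A₀ V, ← Subgroup.inf_relIndex_right (centralizer (A : Set G)) V]
    exact Subgroup.relIndex_le_of_le_left h5 (ri_pos _ _).ne'
  have h5 : n ≤ m := h4.trans h3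
  have h6 : 0 < m := ri_pos _ _
  have h7 : n ^ 2 ≤ m ^ 2 := Nat.pow_le_pow_left h5 2
  have h8 : m ^ 2 ≤ m ^ 3 := Nat.pow_le_pow_right h6 (by norm_num)
  omega

theorem le_maxE {S A V : Subgroup G} (hA : MaxE S A) (hV : V ≤ S) (hVe : IsElementaryAbelian 2 V)
    (hQ : PP 3 2 S V) : V ≤ A := by
  have h1 := maxE_le hA hV hVe hQ
  have h2 : IsElementaryAbelian 2 (V ⊔ A : Subgroup G) := elem_sup hVe hA.elem (Subgroup.le_centralizer_iff.mp h1)
  have h3 := hA.max _ (sup_le hV hA.le) h2
  have h4 : A = V ⊔ A := Subgroup.eq_of_le_of_card_ge le_sup_right h3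
  rw [h4]; exact le_sup_left

theorem le_JJ' {S V : Subgroup G} (hV : V ≤ S) (hVe : IsElementaryAbelian 2 V) (hQ : PP 3 2 S V) : V ≤ JJ S := by
  obtain ⟨A, hA⟩ := exists_maxE S
  exact (le_maxE hA hV hVe hQ).trans (le_JJ hA)

/-- the candidates -/
structure Cand (T V : Subgroup G) : Prop where
  le : V ≤ T
  norm : T ≤ normalizer (V : Set G)
  elem : IsElementaryAbelian 2 V
  pp : PP 3 2 T V

theorem Cand.sup {T V₁ V₂ : Subgroup G} (h1 : Cand T V₁) (h2 : Cand T V₂) : Cand T (V₁ ⊔ V₂) := by
  obtain ⟨A, hA⟩ := exists_maxE T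
  have h3 := le_maxE hA h1.le h1.elem h1.pp
  have h4 := le_maxE hA h2.le h2.elem h2.pp
  exact ⟨sup_le h1.le h2.le, le_normalizer_sup h1.norm h2.norm, elem_mono hA.elem (sup_le h3 h4), pp_sup h1.pp h2.pp⟩

theorem Cand.bot (T : Subgroup G) : Cand T ⊥ where
  le := bot_le
  norm := by
    intro g _
    rw [Subgroup.mem_normalizer_iff]
    intro h
    simp
  elem := elem_bot
  pp := PP_of_centralizes (by
    intro g _
    rw [mem_centralizer_iff]
    intro x hx
    have : x = 1 := by simpa using hx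
    subst this; simp)

theorem cand_OZ (T : Subgroup G) : Cand T (OZ 2 T) where
  le := OZ_le T
  norm := (le_centralizer_OZ T).trans (centralizer_le_normalizer _)
  elem := elem_OZ 2 T
  pp := PP_of_centralizes (le_centralizer_OZ T)

/-- the largest candidate -/
def VV (T : Subgroup G) : Subgroup G := sSup {V | Cand T V}

theorem le_VV {T V : Subgroup G} (h : Cand T V) : V ≤ VV T := le_sSup h

theorem cand_VV (T : Subgroup G) : Cand T (VV T) := by
  have hfin : Set.Finite {V : Subgroup G | Cand T V} := Set.toFinite _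
  obtain ⟨V, hV, hmax⟩ := Set.Finite.exists_maximalFor (fun V : Subgroup G => Nat.card V) _ hfin ⟨⊥, Cand.bot T⟩
  have h1 : VV T = V := by
    apply le_antisymm
    · apply sSup_le
      intro W hW
      have h2 : Cand T (W ⊔ V) := hW.sup hV
      have h3 : Nat.card ↥(W ⊔ V) ≤ Nat.card V := by
        rcases le_total (Nat.card ↥(W ⊔ V)) (Nat.card V) with h | h
        · exact h
        · exact hmax h2 h
      have h4 : V = W ⊔ V := Subgroup.eq_of_le_of_card_ge le_sup_right h3
      rw [h4]; exact le_sup_left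
    · exact le_VV hV
  rw [h1]; exact hV

end gen

section transport
variable {G G' : Type*} [Group G] [Group G']

theorem map_inf_centralizer {f : G →* G'} (hf : Function.Injective f) (A B : Subgroup G) :
    (A ⊓ centralizer (B : Set G)).map f = A.map f ⊓ centralizer ((B.map f : Subgroup G') : Set G') := by
  ext y
  constructor
  · rintro ⟨x, ⟨hx, hxc⟩, rfl⟩
    refine ⟨⟨x, hx, rfl⟩, ?_⟩
    change f x ∈ centralizer ((B.map f : Subgroup G') : Set G')
    rw [mem_centralizer_iff]
    rintro _ ⟨z, hz, rfl⟩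
    rw [← map_mul, ← map_mul, mem_centralizer_iff.1 hxc z hz]
  · rintro ⟨⟨x, hx, rfl⟩, hc⟩
    refine ⟨x, ⟨hx, ?_⟩, rfl⟩
    change x ∈ centralizer (B : Set G)
    rw [mem_centralizer_iff]
    intro z hz
    apply hf
    rw [map_mul, map_mul]
    exact mem_centralizer_iff.1 hc _ ⟨z, hz, rfl⟩

theorem map_le_centralizer_iff {f : G →* G'} (hf : Function.Injective f) {A B : Subgroup G} :
    A.map f ≤ centralizer ((B.map f : Subgroup G') : Set G') ↔ A ≤ centralizer (B : Set G) := by
  constructor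
  · intro h
    have h1 : (A ⊓ centralizer (B : Set G)).map f = A.map f := by
      rw [map_inf_centralizer hf, inf_eq_left]; exact h
    have h2 := Subgroup.map_injective hf h1
    exact inf_eq_left.mp h2
  · intro h
    have h1 : (A ⊓ centralizer (B : Set G)).map f = A.map f := by rw [inf_eq_left.mpr h]
    rw [map_inf_centralizer hf] at h1
    exact inf_eq_left.mp h1

theorem ac_map_iff {f : G →* G'} (hf : Function.Injective f) {R V : Subgroup G} :
    Ac (R.map f) (V.map f) ↔ Ac R V := by
  constructor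
  · intro h
    refine ⟨?_, ?_, ?_⟩
    · have := h.comm
      rw [← Subgroup.map_commutator, map_le_centralizer_iff hf] at this
      exact this
    · intro r hr
      have := h.sq (f r) ⟨r, hr, rfl⟩
      rw [← map_pow] at this
      have h2 : (zpowers (r ^ 2)).map f ≤ centralizer ((V.map f : Subgroup G') : Set G') := by
        rw [MonoidHom.map_zpowers, zpowers_le]; exact this
      rw [map_le_centralizer_iff hf, zpowers_le] at h2
      exact h2
    · intro h2
      exact h.ne ((map_le_centralizer_iff hf).mpr h2)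
  · intro h
    refine ⟨?_, ?_, ?_⟩
    · rw [← Subgroup.map_commutator, map_le_centralizer_iff hf]
      exact h.comm
    · rintro _ ⟨r, hr, rfl⟩
      have h1 := h.sq r hr
      have h2 : (zpowers (r ^ 2)).map f ≤ centralizer ((V.map f : Subgroup G') : Set G') := by
        rw [map_le_centralizer_iff hf, zpowers_le]; exact h1
      rw [MonoidHom.map_zpowers, zpowers_le, map_pow] at h2
      exact h2
    · intro h2
      exact h.ne ((map_le_centralizer_iff hf).mp h2)

theorem pp_map_iff {f : G →* G'} (hf : Function.Injective f) {k l : ℕ} {T V : Subgroup G} :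
    PP k l (T.map f) (V.map f) ↔ PP k l T V := by
  have key : ∀ R : Subgroup G, Nat.card ↥(V.map f ⊓ centralizer ((R.map f : Subgroup G') : Set G')) =
      Nat.card ↥(V ⊓ centralizer (R : Set G)) := by
    intro R
    rw [← map_inf_centralizer hf]
    exact Subgroup.card_map_of_injective hf
  have key' : ∀ R : Subgroup G, Nat.card ↥(R.map f ⊓ centralizer ((V.map f : Subgroup G') : Set G')) =
      Nat.card ↥(R ⊓ centralizer (V : Set G)) := by
    intro R
    rw [← map_inf_centralizer hf]
    exact Subgroup.card_map_of_injective hf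
  constructor
  · intro h R hR hA
    have h1 := h (R.map f) (Subgroup.map_mono hR) ((ac_map_iff hf).mpr hA)
    rw [key, key', Subgroup.card_map_of_injective hf, Subgroup.card_map_of_injective hf] at h1
    exact h1
  · intro h R' hR' hA
    obtain ⟨R, hR, rfl⟩ : ∃ R : Subgroup G, R ≤ T ∧ R.map f = R' := by
      refine ⟨R'.comap f, ?_, ?_⟩
      · intro x hx
        obtain ⟨t, ht, e⟩ := hR' hx
        rw [← hf e]; exact ht
      · rw [Subgroup.map_comap_eq]
        apply inf_eq_right.mpr
        intro x hx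
        obtain ⟨t, _, e⟩ := hR' hx
        exact ⟨t, e⟩
    have h1 := h R hR ((ac_map_iff hf).mp hA)
    rw [key, key', Subgroup.card_map_of_injective hf, Subgroup.card_map_of_injective hf]
    exact h1

theorem le_normalizer_map_iff [Finite G] {f : G →* G'} (hf : Function.Injective f) {A B : Subgroup G} :
    A.map f ≤ normalizer ((B.map f : Subgroup G') : Set G') ↔ A ≤ normalizer (B : Set G) := by
  constructor
  · intro h a ha
    apply mem_normalizer_of_map_conj_le
    rintro _ ⟨b, hb, rfl⟩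
    have h1 := h ⟨a, ha, rfl⟩
    have h2 := (Subgroup.mem_normalizer_iff.mp h1 (f b)).mp ⟨b, hb, rfl⟩
    rw [← map_mul, ← map_inv, ← map_mul] at h2
    obtain ⟨c, hc, e⟩ := h2
    have := hf e
    change a * b * a⁻¹ ∈ B
    rw [← this]; exact hc
  · rintro h _ ⟨a, ha, rfl⟩
    rw [Subgroup.mem_normalizer_iff]
    intro y
    constructor
    · rintro ⟨b, hb, rfl⟩
      refine ⟨a * b * a⁻¹, (Subgroup.mem_normalizer_iff.mp (h ha) b).mp hb, by simp⟩
    · rintro ⟨b, hb, e⟩
      refine ⟨a⁻¹ * b * a, ?_, by rw [map_mul, map_mul, e]; simp; group⟩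
      have h1 := (Subgroup.mem_normalizer_iff.mp (inv_mem (h ha)) b).mp hb
      rw [inv_inv] at h1; exact h1

theorem cand_map_iff [Finite G] {f : G →* G'} (hf : Function.Injective f) {T V : Subgroup G} :
    Cand (T.map f) (V.map f) ↔ Cand T V := by
  constructor
  · intro h
    exact ⟨(Subgroup.map_le_map_iff_of_injective hf).mp h.le, (le_normalizer_map_iff hf).mp h.norm,
      (elem_map_iff hf).mp h.elem, (pp_map_iff hf).mp h.pp⟩
  · intro h
    exact ⟨Subgroup.map_mono h.le, (le_normalizer_map_iff hf).mpr h.norm, (elem_map_iff hf).mpr h.elem, (pp_map_iff hf).mpr h.pp⟩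

theorem VV_map [Finite G] [Finite G'] {f : G →* G'} (hf : Function.Injective f) (T : Subgroup G) :
    (VV T).map f = VV (T.map f) := by
  apply le_antisymm
  · exact le_VV ((cand_map_iff hf).mpr (cand_VV T))
  · have h1 := cand_VV (T.map f)
    obtain ⟨V, hV, e⟩ : ∃ V : Subgroup G, V ≤ T ∧ V.map f = VV (T.map f) := by
      refine ⟨(VV (T.map f)).comap f, ?_, ?_⟩
      · intro x hx
        obtain ⟨t, ht, e⟩ := h1.le hx
        rw [← hf e]; exact ht
      · rw [Subgroup.map_comap_eq]
        apply inf_eq_right.mpr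
        intro x hx
        obtain ⟨t, _, e⟩ := h1.le hx
        exact ⟨t, e⟩
    rw [← e] at h1 ⊢
    exact Subgroup.map_mono (le_VV ((cand_map_iff hf).mp h1))

end transport

section functor

/-- the functor -/
def VF (Q : Type u) [Group Q] : Subgroup Q := VV (⊤ : Subgroup Q)

theorem VF_map {Q R : Type u} [Group Q] [Group R] [Finite Q] (φ : Q ≃* R) : (VF Q).map φ.toMonoidHom = VF R := by
  have hR : Finite R := Finite.of_equiv Q φ.toEquiv
  unfold VF
  rw [VV_map φ.injective, Subgroup.map_top_of_surjective _ φ.surjective]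

theorem induced_VF {G : Type u} [Group G] [Finite G] (T : Subgroup G) : Cfsg.inducedFunctor (G := G) (fun Q _ => VF Q) T = VV T := by
  unfold Cfsg.inducedFunctor VF
  rw [VV_map T.subtype_injective, ← MonoidHom.range_eq_map, T.range_subtype]

theorem isChar_VF : Cfsg.IsCharPFunctor.{u} 2 (fun Q _ => VF Q) := by
  refine ⟨?_, ?_⟩
  · intro Q _ _ hQ hn h0
    have h1 : OZ 2 (⊤ : Subgroup Q) ≤ VF Q := le_VV (cand_OZ ⊤)
    change VF Q = ⊥ at h0
    rw [h0] at h1
    have h2 : IsPGroup 2 (⊤ : Subgroup Q) := hQ.to_subgroup ⊤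
    apply SfUniq.OZ_ne_bot h2 top_ne_bot
    exact le_bot_iff.mp h1
  · intro Q R _ _ _ _ φ
    exact VF_map φ

end functor

section conjn
variable {G : Type*} [Group G] [Finite G]

theorem normalizer_le_VV (T : Subgroup G) : normalizer (T : Set G) ≤ normalizer (VV T : Set G) := by
  intro g hg
  apply mem_normalizer_of_map_conj_eq
  rw [VV_map (MulAut.conj g).injective, map_conj_eq_of_mem hg]

end conjn

end Cfsg.Agent.Lib.H34FA1
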