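import Cfsg.Agent.Lib.H34FDef
import Cfsg.Agent.Lib.Involve
import Cfsg.Agent.Lib.CoprimeGen
import Cfsg.Agent.Lib.H70Frattini

/-!
# Lemma N (lead): `S₄`-free groups act `S₃`-freely on normal 2-subgroups
-/

set_option autoImplicit false
set_option linter.unusedSectionVars false

namespace Cfsg.Agent.Lib.H34FN

open Subgroup Cfsg Cfsg.Agent.Lib.SfAct Cfsg.Agent.Lib.LocBase Cfsg.Agent.Lib.SfMin Cfsg.Agent.Lib.PReduced
  Cfsg.Agent.Lib.SfRel Cfsg.Agent.Lib.SfThomp Cfsg.Agent.Lib.H34FDef Cfsg.Agent.Lib.H34SolvOff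

universe u

variable {G : Type u} [Group G] [Finite G]

theorem perm3_inv : ∀ s c : Equiv.Perm (Fin 3), Equiv.Perm.sign s = -1 → Equiv.Perm.sign c = 1 →
    s * c * s⁻¹ = c⁻¹ := by decide

theorem perm3_sq : ∀ s : Equiv.Perm (Fin 3), Equiv.Perm.sign s = -1 → s * s = 1 := by decide

theorem perm3_cube : ∀ c : Equiv.Perm (Fin 3), Equiv.Perm.sign c = 1 → c * c * c = 1 := by decide

/-- lifting the inversion of an element of order three through a surjection onto `S₃` -/
theorem exists_inv (K : Subgroup G) (f : K →* Equiv.Perm (Fin 3)) (hf : Function.Surjective f) :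
    ∃ (b y : K), (∃ k : ℕ, orderOf (b : G) = 2 ^ k) ∧ (∃ j : ℕ, orderOf (y : G) = 3 ^ j) ∧
      b * y * b⁻¹ = y⁻¹ ∧ f y ≠ 1 := by
  classical
  have h3p : Fact (Nat.Prime 3) := ⟨Nat.prime_three⟩
  set M : Subgroup K := (Equiv.Perm.sign.comp f).ker with hM
  have hMn : M.Normal := inferInstance
  -- a 3-element mapping to a nontrivial even permutation
  obtain ⟨c, hc1, hcs⟩ : ∃ c : Equiv.Perm (Fin 3), c ≠ 1 ∧ Equiv.Perm.sign c = 1 := by
    refine ⟨finRotate 3, by decide, by decide⟩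
  obtain ⟨k, hk⟩ := hf c
  obtain ⟨e, m, hm, hem⟩ := Nat.exists_eq_pow_mul_and_not_dvd (orderOf_pos k).ne' 3 (by norm_num)
  have hkM : k ^ m ∈ M := by
    rw [hM, MonoidHom.mem_ker, MonoidHom.comp_apply, map_pow, hk, map_pow, hcs, one_pow]
  have hko : orderOf (k ^ m) = 3 ^ e := by
    rw [orderOf_pow_of_dvd (by rintro rfl; simp at hm) (by rw [hem]; exact dvd_mul_left _ _), hem,
      Nat.mul_div_cancel]
    exact Nat.pos_of_ne_zero (by rintro rfl; simp at hm)
  have hfk : f (k ^ m) ≠ 1 := by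
    rw [map_pow, hk]
    intro h1
    have h2 := orderOf_dvd_of_pow_eq_one h1
    have h3 : orderOf c ∣ 3 := by
      apply orderOf_dvd_of_pow_eq_one
      rw [pow_succ, pow_succ, pow_one]
      exact perm3_cube c hcs
    have h4 : orderOf c = 3 := by
      rcases (Nat.dvd_prime Nat.prime_three).1 h3 with h | h
      · exact absurd (orderOf_eq_one_iff.1 h) hc1
      · exact h
    rw [h4] at h2
    exact hm h2
  have hZ : IsPGroup 3 (Subgroup.zpowers (⟨k ^ m, hkM⟩ : M)) := by
    apply IsPGroup.of_card (n := e)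
    rw [Nat.card_zpowers, Subgroup.orderOf_mk, hko]
  obtain ⟨P, hP⟩ := hZ.exists_le_sylow
  have hF := Sylow.normalizer_sup_eq_top P
  set P' : Subgroup K := (P : Subgroup M).map M.subtype with hP'
  have hex : ∃ g ∈ Subgroup.normalizer (P' : Set K), g ∉ M := by
    by_contra hc
    push Not at hc
    have h1 : M = ⊤ := by
      rw [eq_top_iff, ← hF]
      exact sup_le hc le_rfl
    obtain ⟨t, ht⟩ := hf (Equiv.swap 0 1)
    have h2 : t ∈ M := h1 ▸ Subgroup.mem_top t
    rw [hM, MonoidHom.mem_ker, MonoidHom.comp_apply, ht] at h2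
    exact absurd h2 (by decide)
  obtain ⟨g, hgN, hgM⟩ := hex
  obtain ⟨a, n, hn, han⟩ := Nat.exists_eq_pow_mul_and_not_dvd (orderOf_pos g).ne' 2 (by norm_num)
  have hsg : Equiv.Perm.sign (f g) = -1 := by
    rcases Int.units_eq_one_or (Equiv.Perm.sign (f g)) with h | h
    · exact absurd (show g ∈ M by rw [hM, MonoidHom.mem_ker]; exact h) hgM
    · exact h
  set b : K := g ^ n with hb
  have hsb : Equiv.Perm.sign (f b) = -1 := by
    rw [hb, map_pow, map_pow, hsg]
    exact Odd.neg_one_pow (Nat.odd_iff.2 (Nat.two_dvd_ne_zero.1 hn))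
  have hbo : orderOf b = 2 ^ a := by
    rw [hb, orderOf_pow_of_dvd (by rintro rfl; simp at hn) (by rw [han]; exact dvd_mul_left _ _), han,
      Nat.mul_div_cancel]
    exact Nat.pos_of_ne_zero (by rintro rfl; simp at hn)
  have hbN : b ∈ Subgroup.normalizer (P' : Set K) := Subgroup.pow_mem _ hgN _
  have hkP : k ^ m ∈ P' := ⟨⟨k ^ m, hkM⟩, hP (Subgroup.mem_zpowers _), rfl⟩
  have hP3 : IsPGroup 3 P' := P.2.map _
  -- the square of `b` fixes a coset of `D = P ∩ ker f`
  set D : Subgroup K := P' ⊓ f.ker with hD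
  have hDN : b * b ∈ Subgroup.normalizer (D : Set K) := by
    have h1 : b * b ∈ Subgroup.normalizer (P' : Set K) := mul_mem hbN hbN
    have h2 : b * b ∈ Subgroup.normalizer (f.ker : Set K) := by
      rw [Subgroup.normalizer_eq_top]; trivial
    rw [Subgroup.mem_normalizer_iff] at h1 h2 ⊢
    intro x
    simp only [hD, Subgroup.mem_inf]
    rw [h1 x, h2 x]
  have hcop : (orderOf (b * b)).Coprime (Nat.card D) := by
    have h1 : orderOf (b * b) ∣ 2 ^ a := by
      rw [← hbo, ← sq]; exact orderOf_pow_dvd 2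
    have h2 : IsPGroup 3 D := hP3.to_le inf_le_left
    obtain ⟨l, hl⟩ := IsPGroup.iff_card.1 h2
    rw [hl]
    exact Nat.Coprime.coprime_dvd_left h1 (Nat.Coprime.pow _ _ (by norm_num))
  have hfb2 : f (b * b) = 1 := by rw [map_mul]; exact perm3_sq _ hsb
  have hcoset : (k ^ m)⁻¹ * (b * b * (k ^ m) * (b * b)⁻¹) ∈ D := by
    rw [hD, Subgroup.mem_inf]
    refine ⟨?_, ?_⟩
    · exact mul_mem (inv_mem hkP) ((Subgroup.mem_normalizer_iff.1 (mul_mem hbN hbN) _).1 hkP)
    · rw [MonoidHom.mem_ker, map_mul, map_mul, map_mul, map_inv, map_inv, hfb2]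
      group
  obtain ⟨d, hd, hkd⟩ := CoprimeGen.exists_mul_commute hDN hcop hcoset
  set u : K := k ^ m * d with hu
  have hub : b * b * u = u * (b * b) := by
    have := Subgroup.mem_centralizer_iff.1 hkd (b * b) rfl
    exact this
  have huP : u ∈ P' := mul_mem hkP hd.1
  have hfu : f u = f (k ^ m) := by
    rw [hu, map_mul, (MonoidHom.mem_ker.1 hd.2), mul_one]
  have hsu : Equiv.Perm.sign (f u) = 1 := by
    rw [hfu]; exact MonoidHom.mem_ker.1 hkM
  set y : K := u⁻¹ * (b * u * b⁻¹) with hy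
  have hyP : y ∈ P' := mul_mem (inv_mem huP) ((Subgroup.mem_normalizer_iff.1 hbN _).1 huP)
  refine ⟨b, y, ⟨a, by rw [← hbo]; exact Subgroup.orderOf_coe b⟩, ?_, ?_, ?_⟩
  · obtain ⟨j, hj⟩ := (IsPGroup.iff_orderOf.1 hP3) ⟨y, hyP⟩
    refine ⟨j, ?_⟩
    rw [← hj, Subgroup.orderOf_mk]
    exact Subgroup.orderOf_coe y
  · rw [hy]
    have h1 : b * (u⁻¹ * (b * u * b⁻¹)) * b⁻¹ = b * u⁻¹ * b⁻¹ * ((b * b) * u * (b * b)⁻¹) := by group
    rw [h1, hub]
    group
  · have h1 : f y = (f u)⁻¹ * (f u)⁻¹ := by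
      rw [hy, map_mul, map_mul, map_mul, map_inv, map_inv, perm3_inv _ _ hsb hsu]
    have h2 := perm3_cube _ hsu
    rw [h1]
    intro h3
    apply hfk
    rw [← hfu]
    have h4 : f u = (f u * f u * f u) * ((f u)⁻¹ * (f u)⁻¹) := by group
    rw [h4, h2, h3, one_mul]

/-- an inverted element of order three on a normal 2-subgroup -/
theorem s4_of_inverted (W : Subgroup G) [W.Normal] (hW : IsPGroup 2 W) (b y : G)
    (hb2 : b * b ∈ centralizer (W : Set G)) (hy3 : y ^ 3 ∈ centralizer (W : Set G))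
    (hy : y ∉ centralizer (W : Set G)) (hyo : (orderOf y).Coprime 2) (hinv : b * y * b⁻¹ = y⁻¹) :
    Involves (Equiv.Perm (Fin 4)) G := by
  classical
  have h2p : Fact (Nat.Prime 2) := ⟨Nat.prime_two⟩
  set F : Subgroup G := (frattini W).map W.subtype with hF
  have hFW : F ≤ W := map_subtype_le _
  have hFn : F.Normal := by
    rw [hF]
    exact ConjAct.normal_of_characteristic_of_normal
  set q : G →* G ⧸ F := QuotientGroup.mk' F with hq
  set V : Subgroup (G ⧸ F) := W.map q with hV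
  have hVn : V.Normal := Subgroup.Normal.map inferInstance q (QuotientGroup.mk'_surjective F)
  have hVp : IsPGroup 2 V := hW.map q
  have hq1 : ∀ x : G, q x = 1 ↔ x ∈ F := fun x => QuotientGroup.eq_one_iff x
  have hVmem : ∀ v : V, ∃ w ∈ W, q w = v := by
    rintro ⟨_, ⟨w, hw, rfl⟩⟩
    exact ⟨w, hw, rfl⟩
  have hVc : ∀ u v : V, u * v = v * u := by
    intro u v
    obtain ⟨x, hx, hxu⟩ := hVmem u
    obtain ⟨z, hz, hzv⟩ := hVmem v
    apply Subtype.ext
    rw [Subgroup.coe_mul, Subgroup.coe_mul, ← hxu, ← hzv, ← map_mul, ← map_mul]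
    rw [← mul_inv_eq_one, ← map_inv, ← map_mul, hq1]
    have h1 : (⟨x, hx⟩ : W) * ⟨z, hz⟩ * (⟨z, hz⟩ * ⟨x, hx⟩)⁻¹ ∈ frattini W := by
      apply H70Frattini.commutator_le_frattini hW
      have h2 : (⟨x, hx⟩ : W) * ⟨z, hz⟩ * (⟨z, hz⟩ * ⟨x, hx⟩)⁻¹ =
          (⟨x, hx⟩ : W) * ⟨z, hz⟩ * (⟨x, hx⟩ : W)⁻¹ * (⟨z, hz⟩ : W)⁻¹ := by
        group
      rw [h2]
      exact Subgroup.commutator_mem_commutator (Subgroup.mem_top _) (Subgroup.mem_top _)
    exact ⟨_, h1, rfl⟩
  have hV2 : ∀ v : V, v * v = 1 := by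
    intro v
    obtain ⟨x, hx, hxv⟩ := hVmem v
    apply Subtype.ext
    rw [Subgroup.coe_mul, ← hxv, ← map_mul, Subgroup.coe_one, hq1]
    have h1 := H70Frattini.pow_mem_frattini hW ⟨x, hx⟩
    exact ⟨_, h1, by rw [sq]; rfl⟩
  set a : MulAut V := MulAut.conjNormal (q b) with ha
  set ξ : MulAut V := MulAut.conjNormal (q y) with hξ
  have happ : ∀ (g : G) (v : V), ((MulAut.conjNormal (q g) v : V) : G ⧸ F) = q g * v * (q g)⁻¹ :=
    fun g v => MulAut.conjNormal_apply _ _
  have hcen : ∀ g : G, g ∈ centralizer (W : Set G) → (MulAut.conjNormal (q g) : MulAut V) = 1 := by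
    intro g hg
    ext v
    rw [happ]
    obtain ⟨x, hx, hxv⟩ := hVmem v
    rw [← hxv, MulAut.one_apply, ← hxv, ← map_inv, ← map_mul, ← map_mul]
    congr 1
    rw [Subgroup.mem_centralizer_iff] at hg
    rw [← hg x hx]; group
  have haa : a * a = 1 := by
    rw [ha, ← map_mul, ← map_mul]
    exact hcen _ hb2
  have hξ3 : ξ ^ 3 = 1 := by
    rw [hξ, ← map_pow, ← map_pow]
    exact hcen _ hy3
  have hai : a * ξ * a⁻¹ = ξ⁻¹ := by
    rw [ha, hξ, ← map_inv, ← map_inv, ← map_mul, ← map_mul, ← map_inv, ← map_mul, ← map_mul, hinv, ← map_inv]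
  have hξ1 : ξ ≠ 1 := by
    intro h1
    apply hy
    have h2 : zpowers y ≤ centralizer (W : Set G) := by
      apply CoprimeAction2.le_centralizer_of_frattini
      · rw [Subgroup.normalizer_eq_top]; exact le_top
      · rw [Nat.card_zpowers]
        have h3 : IsPGroup 2 (frattini W) := hW.to_subgroup _
        obtain ⟨l, hl⟩ := IsPGroup.iff_card.1 h3
        rw [hl]
        exact Nat.Coprime.pow_right _ hyo
      · intro g hg w hw
        have h3 : (MulAut.conjNormal (q g) : MulAut V) = 1 := by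
          obtain ⟨k, rfl⟩ := Subgroup.mem_zpowers_iff.1 hg
          rw [map_zpow, map_zpow, ← hξ, h1, one_zpow]
        have h4 := congrArg (fun z : MulAut V => ((z ⟨q w, ⟨w, hw, rfl⟩⟩ : V) : G ⧸ F)) h3
        simp only [happ, MulAut.one_apply] at h4
        change g * w * g⁻¹ * w⁻¹ ∈ F
        rw [← hq1, map_mul, map_mul, map_mul, map_inv, map_inv, h4, mul_inv_cancel]
    exact h2 (mem_zpowers y)
  let _ : CommGroup V := { (inferInstance : Group V) with mul_comm := hVc }
  obtain ⟨W', hW4, hWx, hWa, hfpf, -⟩ := S4Plane.exists_plane hV2 a ξ haa hξ1 hξ3 hai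
  have h5 := H34S4.involves_S4_of_aut V hVp a ξ ⟨_, rfl⟩ ⟨_, rfl⟩ W' hξ1 hξ3 hai hW4 hWx hWa hfpf
  exact H34S4.involves_of_involves_quotient F h5

/-- a 2-element inverting a 3-element that acts nontrivially on a normal 2-subgroup -/
theorem s4_of_inv (W : Subgroup G) [W.Normal] (hW : IsPGroup 2 W) (b y : G) (hb : ∃ k : ℕ, orderOf b = 2 ^ k)
    (hyo : ∃ j : ℕ, orderOf y = 3 ^ j) (hinv : b * y * b⁻¹ = y⁻¹) (hy : y ∉ centralizer (W : Set G)) :
    Involves (Equiv.Perm (Fin 4)) G := by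
  classical
  have h2p : Fact (Nat.Prime 2) := ⟨Nat.prime_two⟩
  obtain ⟨k, hk⟩ := hb
  obtain ⟨j, hj⟩ := hyo
  have hbb : b * b * y = y * (b * b) := by
    have h1 : b * b * y * (b * b)⁻¹ = b * (b * y * b⁻¹) * b⁻¹ := by group
    rw [hinv] at h1
    have h2 : b * y⁻¹ * b⁻¹ = (b * y * b⁻¹)⁻¹ := by group
    rw [h2, hinv, inv_inv] at h1
    rw [mul_inv_eq_iff_eq_mul] at h1
    exact h1
  have hbbb : b * b * b = b * (b * b) := by group
  set W0 : Subgroup G := W ⊓ centralizer ({b * b} : Set G) with hW0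
  have hW0mem : ∀ w, w ∈ W0 ↔ w ∈ W ∧ b * b * w = w * (b * b) := by
    intro w
    rw [hW0, Subgroup.mem_inf, Subgroup.mem_centralizer_iff]
    constructor
    · rintro ⟨h1, h2⟩; exact ⟨h1, h2 _ rfl⟩
    · rintro ⟨h1, h2⟩
      refine ⟨h1, ?_⟩
      intro h hh
      rw [Set.mem_singleton_iff] at hh
      rw [hh]; exact h2
  have hyodd : (orderOf y).Coprime 2 := by
    rw [hj]; exact Nat.Coprime.pow_left _ (by norm_num)
  -- `y` acts nontrivially on `W0`
  have hyW0 : y ∉ centralizer (W0 : Set G) := by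
    intro hc
    apply hy
    have h1 : zpowers y ≤ centralizer (W : Set G) := by
      refine CoprimeAction2.thompson_PxQ (p := 2) (P := zpowers (b * b)) (Q := zpowers y) ?_ ?_ ?_ _ W rfl hW ?_ ?_ ?_
      · have h2 : orderOf (b * b) ∣ 2 ^ k := by
          rw [← hk, ← sq]; exact orderOf_pow_dvd 2
        obtain ⟨l, -, hl⟩ := (Nat.dvd_prime_pow Nat.prime_two).1 h2
        apply IsPGroup.of_card (n := l)
        rw [Nat.card_zpowers, hl]
      · rw [Nat.card_zpowers]; exact hyodd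
      · rw [zpowers_le, Subgroup.mem_centralizer_iff]
        intro h hh
        obtain ⟨n, rfl⟩ := Subgroup.mem_zpowers_iff.1 hh
        have h2 : Commute (b * b) y := hbb
        exact ((h2.zpow_right n).eq).symm
      · rw [Subgroup.normalizer_eq_top]; exact le_top
      · rw [Subgroup.normalizer_eq_top]; exact le_top
      · intro w hw
        have h2 : w ∈ W0 := by
          rw [hW0mem]
          exact ⟨hw.1, Subgroup.mem_centralizer_iff.1 hw.2 _ (mem_zpowers _)⟩
        rw [Subgroup.mem_centralizer_iff]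
        intro h hh
        obtain ⟨n, rfl⟩ := Subgroup.mem_zpowers_iff.1 hh
        have h3 : Commute y w := (Subgroup.mem_centralizer_iff.1 hc w h2).symm
        exact (h3.zpow_left n).eq
    exact h1 (mem_zpowers y)
  -- the right power of `y`
  have hex : ∃ i : ℕ, y ^ 3 ^ i ∈ centralizer (W0 : Set G) := by
    refine ⟨j, ?_⟩
    rw [← hj, pow_orderOf_eq_one]; exact one_mem _
  have hfind := Nat.find_spec hex
  obtain ⟨i, hi⟩ : ∃ i, Nat.find hex = i + 1 := by
    rcases Nat.eq_zero_or_pos (Nat.find hex) with h | h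
    · rw [h] at hfind
      exact absurd (by simpa using hfind) hyW0
    · exact ⟨Nat.find hex - 1, by omega⟩
  have hmin : y ^ 3 ^ i ∉ centralizer (W0 : Set G) := Nat.find_min hex (by omega)
  rw [hi] at hfind
  set y' : G := y ^ 3 ^ i with hy'
  have hy'3 : y' ^ 3 ∈ centralizer (W0 : Set G) := by
    rw [hy', ← pow_mul, ← pow_succ]; exact hfind
  have hinv' : b * y' * b⁻¹ = y'⁻¹ := by
    rw [hy', ← conj_pow, hinv, inv_pow]
  have hy'odd : (orderOf y').Coprime 2 :=
    Nat.Coprime.coprime_dvd_left (orderOf_pow_dvd _) hyodd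
  have hby' : b * b * y' = y' * (b * b) := by
    have h2 : Commute (b * b) y := hbb
    exact (h2.pow_right _).eq
  -- the normalizer of `W0`
  set N : Subgroup G := normalizer (W0 : Set G) with hN
  have hmemN : ∀ g : G, b * b * g = g * (b * b) → g ∈ N := by
    intro g hg
    apply H34S4.mem_normalizer_of_forall
    intro x hx
    rw [hW0mem] at hx ⊢
    refine ⟨(inferInstance : W.Normal).conj_mem x hx.1 g, ?_⟩
    have h2 : Commute (b * b) g := hg
    have h3 : Commute (b * b) x := hx.2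
    exact ((h2.mul_right h3).mul_right h2.inv_right).eq
  have hbN : b ∈ N := hmemN b hbbb
  have hyN : y' ∈ N := hmemN y' hby'
  have hW0N : W0 ≤ N := Subgroup.le_normalizer
  have hcenN : ∀ g : N, g ∈ centralizer ((W0.subgroupOf N : Subgroup N) : Set N) ↔
      (g : G) ∈ centralizer (W0 : Set G) := by
    intro g
    rw [Subgroup.mem_centralizer_iff, Subgroup.mem_centralizer_iff]
    constructor
    · intro h x hx
      exact congrArg Subtype.val (h ⟨x, hW0N hx⟩ hx)
    · intro h x hx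
      exact Subtype.ext (h x hx)
  have hnorm : (W0.subgroupOf N).Normal := Subgroup.normal_in_normalizer
  have hW0p : IsPGroup 2 (W0.subgroupOf N) :=
    (hW.to_le (inf_le_left : W0 ≤ W)).comap_of_injective N.subtype N.subtype_injective
  refine Involve.involves_subgroup (K := N) (s4_of_inverted (W0.subgroupOf N) hW0p ⟨b, hbN⟩ ⟨y', hyN⟩ ?_ ?_ ?_ ?_ ?_)
  · rw [hcenN]
    change b * b ∈ _
    rw [Subgroup.mem_centralizer_iff]
    intro x hx
    exact ((hW0mem x).1 hx).2.symm
  · rw [hcenN]; exact hy'3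
  · rw [hcenN]; exact hmin
  · rw [Subgroup.orderOf_mk]; exact hy'odd
  · exact Subtype.ext hinv'

theorem s3free_quot (hf : ¬ Involves (Equiv.Perm (Fin 4)) G) (W : Subgroup G) [W.Normal] (hW : IsPGroup 2 W) :
    ¬ Involves (Equiv.Perm (Fin 3)) (G ⧸ centralizer (W : Set G)) := by
  intro h
  obtain ⟨K, f, hfs⟩ := Involve.exists_hom h
  set q : G →* G ⧸ centralizer (W : Set G) := QuotientGroup.mk' _ with hq
  set L : Subgroup G := K.comap q with hL
  set f' : L →* Equiv.Perm (Fin 3) := f.comp (q.subgroupComap K) with hf'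
  have hf's : Function.Surjective f' :=
    hfs.comp (MonoidHom.subgroupComap_surjective_of_surjective _ _ (QuotientGroup.mk'_surjective _))
  obtain ⟨b, y, hb, hy, hinv, hfy⟩ := exists_inv L f' hf's
  apply hf
  refine s4_of_inv W hW (b : G) (y : G) hb hy ?_ ?_
  · exact congrArg Subtype.val hinv
  · intro hc
    apply hfy
    have h1 : q.subgroupComap K y = 1 := by
      apply Subtype.ext
      exact (QuotientGroup.eq_one_iff (y : G)).2 hc
    rw [hf', MonoidHom.comp_apply, h1, map_one]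

theorem s3free_core (hf : ¬ Involves (Equiv.Perm (Fin 4)) G) (hchar : centralizer (pCore 2 G : Set G) ≤ pCore 2 G) :
    ¬ Involves (Equiv.Perm (Fin 3)) (G ⧸ pCore 2 G) := by
  intro h
  obtain ⟨K, f, hfs⟩ := Involve.exists_hom h
  set q : G →* G ⧸ pCore 2 G := QuotientGroup.mk' _ with hq
  set L : Subgroup G := K.comap q with hL
  set f' : L →* Equiv.Perm (Fin 3) := f.comp (q.subgroupComap K) with hf'
  have hf's : Function.Surjective f' :=
    hfs.comp (MonoidHom.subgroupComap_surjective_of_surjective _ _ (QuotientGroup.mk'_surjective _))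
  obtain ⟨b, y, hb, hy, hinv, hfy⟩ := exists_inv L f' hf's
  apply hf
  refine s4_of_inv (pCore 2 G) (H34Basic.isPGroup_pCore 2) (b : G) (y : G) hb hy ?_ ?_
  · exact congrArg Subtype.val hinv
  · intro hc
    apply hfy
    have h1 : q.subgroupComap K y = 1 := by
      apply Subtype.ext
      exact (QuotientGroup.eq_one_iff (y : G)).2 (hchar hc)
    rw [hf', MonoidHom.comp_apply, h1, map_one]

end Cfsg.Agent.Lib.H34FN
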