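import Cfsg.Agent.Lib.H34ZL
import Cfsg.Agent.Lib.H34ZM
import Cfsg.Agent.Lib.SfN
import Cfsg.Agent.Lib.S3Sec
import Cfsg.Agent.Lib.ClSmall

/-!
# Offender bound for `S₃`-free groups with composition factors `Sz(q)`, `PSL₂(3^odd)` (helper34)
-/

set_option autoImplicit false
set_option linter.unusedSectionVars false

namespace Cfsg.Agent.Lib.H34ZMain

open Subgroup Cfsg Cfsg.Agent.Lib.Components Cfsg.Agent.Lib.Layer Cfsg.Agent.Lib.H34ZQ Cfsg.Agent.Lib.H34SolvOff
open Cfsg.Agent.Lib.SuzukiOvoid Cfsg.Agent.Lib.SuzukiGroup Cfsg.Agent.Lib.SuzukiFin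

theorem not_simple_a4 : ¬ IsSimpleGroup (alternatingGroup (Fin 4)) := by
  intro h
  let N : Subgroup (alternatingGroup (Fin 4)) :=
    { carrier := {x | x * x = 1}
      mul_mem' := by
        intro a b ha hb
        have key : ∀ a b : alternatingGroup (Fin 4), a * a = 1 → b * b = 1 → (a * b) * (a * b) = 1 := by decide +kernel
        exact key a b ha hb
      one_mem' := by show (1 : alternatingGroup (Fin 4)) * 1 = 1; rw [mul_one]
      inv_mem' := by
        intro a ha
        show a⁻¹ * a⁻¹ = 1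
        rw [← mul_inv_rev, show a * a = 1 from ha, inv_one] }
  have hN : N.Normal := ⟨by
    intro x hx g
    show (g * x * g⁻¹) * (g * x * g⁻¹) = 1
    have hx' : x * x = 1 := hx
    calc (g * x * g⁻¹) * (g * x * g⁻¹) = g * (x * x) * g⁻¹ := by group
      _ = 1 := by rw [hx']; group⟩
  have h1 : ∃ x : alternatingGroup (Fin 4), x * x = 1 ∧ x ≠ 1 := by decide +kernel
  have h2 : ∃ x : alternatingGroup (Fin 4), x * x ≠ 1 := by decide +kernel
  rcases hN.eq_bot_or_eq_top with h3 | h3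
  · obtain ⟨x, hx, hx1⟩ := h1
    have : x ∈ N := hx
    rw [h3, mem_bot] at this
    exact hx1 this
  · obtain ⟨x, hx⟩ := h2
    have : x ∈ N := by rw [h3]; trivial
    exact hx this

section qs
variable {G : Type*} [Group G] [Finite G]

theorem odd_fitting (h2 : pCore 2 G = ⊥) : Odd (Nat.card (fittingSubgroup G)) := by
  have h2p : Fact (Nat.Prime 2) := ⟨Nat.prime_two⟩
  have h1 := coprime_card_map_fitting (G := G) 2
  have hinj : Function.Injective (QuotientGroup.mk' (pCore 2 G)) := by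
    rw [← MonoidHom.ker_eq_bot_iff, QuotientGroup.ker_mk', h2]
  rw [← Nat.card_congr ((fittingSubgroup G).equivMapOfInjective _ hinj).toEquiv] at h1
  exact Nat.coprime_two_right.mp h1

theorem qs_of_component (h2 : pCore 2 G = ⊥) {K : Subgroup G} (hK : IsComponent K) {S : Type} [Group S]
    (e : (↥K ⧸ center K) ≃* S) : QS K S := by
  refine ⟨component_perfect hK, e.toMonoidHom.comp (QuotientGroup.mk' (center K)), ?_, ?_, ?_⟩
  · exact e.surjective.comp (QuotientGroup.mk'_surjective _)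
  · intro x hx y
    have h1 : QuotientGroup.mk' (center K) x = 1 := (map_eq_one_iff e e.injective).mp hx
    rw [QuotientGroup.mk'_apply, QuotientGroup.eq_one_iff, mem_center_iff] at h1
    exact (h1 y).symm
  · intro x hx
    have h1 : QuotientGroup.mk' (center K) x = 1 := (map_eq_one_iff e e.injective).mp hx
    rw [QuotientGroup.mk'_apply, QuotientGroup.eq_one_iff] at h1
    have h3 : ((center K).map K.subtype).IsSubnormal := isSubnormal_of_characteristic hK.1 inferInstance
    have h4 : Group.IsNilpotent ↥((center K).map K.subtype) := by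
      apply isNilpotent_of_le_centralizer
      rintro _ ⟨a, ha, rfl⟩
      rw [mem_centralizer_iff]
      rintro _ ⟨b, hb, rfl⟩
      exact congrArg Subtype.val (mem_center_iff.mp ha b)
    have h5 := subnormal_nilpotent_le_fitting h3 h4
    have h6 : (x : G) ∈ fittingSubgroup G := h5 ⟨x, h1, rfl⟩
    have h7 : orderOf (⟨x, h6⟩ : fittingSubgroup G) ∣ Nat.card (fittingSubgroup G) := orderOf_dvd_natCard _
    rw [Subgroup.orderOf_mk, Subgroup.orderOf_coe] at h7
    exact (odd_fitting h2).of_dvd_nat h7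

theorem exists_good {A : Subgroup G} (h2 : pCore 2 G = ⊥) (hA2 : ∀ a ∈ A, a * a = 1) (hA1 : A ≠ ⊥) (hNI : NI A) :
    ∃ K : Subgroup G, IsComponent K ∧ ∃ a ∈ A, ∃ x ∈ K, a * x ≠ x * a := by
  have hodd := odd_fitting h2
  have hAF : ∀ a ∈ A, ∀ x ∈ fittingSubgroup G, a * x * a⁻¹ = x := by
    by_contra hcon
    push Not at hcon
    obtain ⟨x, hxO, hx1, hxi, hxc⟩ := exists_inverted A (fittingSubgroup G) hA2 hodd isSolvable_fittingSubgroup (by
      intro b _ x hx
      exact (fittingSubgroup_normal G).conj_mem x hx b) hcon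
    refine hNI x hx1 ?_ hxi hxc
    have h6 : orderOf (⟨x, hxO⟩ : fittingSubgroup G) ∣ Nat.card (fittingSubgroup G) := orderOf_dvd_natCard _
    rw [Subgroup.orderOf_mk] at h6
    exact hodd.of_dvd_nat h6
  by_contra hcon
  push Not at hcon
  have h1 : A ≤ centralizer (generalizedFittingSubgroup G : Set G) := by
    apply le_centralizer_comm
    apply sup_le
    · apply sSup_le
      intro K hK x hx
      rw [mem_centralizer_iff]
      intro a ha
      exact hcon K hK a ha x hx
    · intro x hx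
      rw [mem_centralizer_iff]
      intro a ha
      exact mul_inv_eq_iff_eq_mul.mp (hAF a ha x hx)
  have h3 : A ≤ fittingSubgroup G := by
    refine le_trans ?_ center_genFitting_le_fitting
    exact le_inf (h1.trans centralizer_genFitting_le) h1
  apply hA1
  rw [eq_bot_iff]
  intro a ha
  rw [mem_bot]
  exact eq_one_of_sq_of_odd hodd (h3 ha) (hA2 a ha)

theorem alt {A K : Subgroup G} (hK : IsComponent K) : ∀ a ∈ A, (∀ x ∈ K, a * x * a⁻¹ ∈ K) ∨
    (∀ x ∈ K, ∀ y ∈ K, x * (a * y * a⁻¹) = (a * y * a⁻¹) * x) := by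
  intro a _
  rcases component_eq_or_le_centralizer hK (isComponent_conj a hK) with h | h
  · left
    intro x hx
    rw [h]
    exact ⟨x, hx, rfl⟩
  · right
    intro x hx y hy
    have := mem_centralizer_iff.mp (h hx) (a * y * a⁻¹) ⟨y, hy, rfl⟩
    exact this.symm

end qs

theorem exists_odd_elt {S : Type} [Group S] [Finite S] {p : ℕ} (hp : p.Prime) (hp2 : p ≠ 2) (h : p ∣ Nat.card S) :
    ∃ s : S, s ≠ 1 ∧ Odd (orderOf s) := by
  have hpF : Fact p.Prime := ⟨hp⟩
  obtain ⟨s, hs⟩ := exists_prime_orderOf_dvd_card' (G := S) p h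
  refine ⟨s, ?_, by rw [hs]; exact hp.odd_of_ne_two hp2⟩
  rintro rfl
  rw [orderOf_one] at hs
  exact hp.one_lt.ne hs

universe u

theorem struct {G : Type u} [Group G] [Finite G] (h2 : pCore 2 G = ⊥) (hS3 : ¬ Involves (Equiv.Perm (Fin 3)) G)
    (hK : IsCompositionKGroupWith IsSuzukiOrPSL2OddPowerThree G) {A : Subgroup G} (hA2 : ∀ a ∈ A, a * a = 1)
    (hA1 : A ≠ ⊥) (hNI : NI A) :
    ∃ (F : Type) (_ : Field F) (_ : Fintype F) (_ : CharP F 2) (m : ℕ) (_ : 1 ≤ m) (_ : Fintype.card F = 2 ^ (2 * m + 1))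
      (X : Subgroup G), QS X (Gz (th F m)) ∧ A ≤ normalizer (X : Set G) ∧ ∃ a ∈ A, ∃ x ∈ X, a * x ≠ x * a := by
  classical
  obtain ⟨K, hKc, hnc⟩ := exists_good h2 hA2 hA1 hNI
  have hs : IsSimpleGroup (↥K ⧸ center K) := hKc.2.2
  have hcomm : ¬ IsMulCommutative (↥K ⧸ center K) := by
    intro h
    have hperf := hKc.2.1
    have h1 : Group.IsPerfect (↥K ⧸ center K) := Group.IsPerfect.ofSurjective (QuotientGroup.mk'_surjective (center K))
    rw [Group.isPerfect_def] at h1
    have h3 : commutator (↥K ⧸ center K) = ⊥ := by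
      rw [commutator_eq_bot_iff_center_eq_top, eq_top_iff]
      intro g _
      rw [Subgroup.mem_center_iff]
      intro k
      exact h.1.comm k g
    obtain ⟨a, b, hab⟩ := hs.exists_pair_ne
    apply hab
    rw [h3] at h1
    have h5 : a ∈ (⊥ : Subgroup (↥K ⧸ center K)) := h1 ▸ mem_top a
    have h6 : b ∈ (⊥ : Subgroup (↥K ⧸ center K)) := h1 ▸ mem_top b
    rw [mem_bot] at h5 h6
    rw [h5, h6]
  have hgood : ∀ (S : Type) [Group S], QS K S → Good A K S := fun S _ hq => ⟨hq, alt hKc, hnc⟩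
  rcases hK K hKc.1 (center K) hs hcomm with hsz | ⟨F, iF, iFt, n, hF, ⟨e⟩⟩
  · rw [SuzukiLie.isoSuzuki_iff] at hsz
    obtain ⟨F, iF, iFt, m, hm, hF, ⟨e⟩⟩ := hsz
    have hchar : CharP F 2 := charTwo hF
    have e' : (↥K ⧸ center K) ≃* Gz (th F m) := e.trans (MulEquiv.subgroupCongr (Sz_eq m))
    have hθ := th_sq hF
    have hne := th_ne hm hF
    have hsim := SuzukiGroup.simple (th F m) hθ hne
    have hFn : Nat.card F = 2 ^ (2 * m + 1) := by rw [Nat.card_eq_fintype_card]; exact hF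
    obtain ⟨r, hr, hr1, hr2, -⟩ := H34ZM.zsig (n := 2 * m + 1) (by omega)
    have hodd : ∃ s : Gz (th F m), s ≠ 1 ∧ Odd (orderOf s) := by
      apply exists_odd_elt hr hr2
      rw [SuzukiGroup.card_G (th F m) hθ hne, hFn, ← pow_mul, mul_comm (2 * m + 1) 2]
      exact (Dvd.dvd.mul_left hr1 _).mul_right _
    obtain ⟨Y, hY, hAY⟩ := Good.exists_inv (H34ZM.not_comm (th F m) hθ hne) hodd hA2 hNI _ K rfl
      (hgood _ (qs_of_component h2 hKc e'))
    exact ⟨F, iF, iFt, hchar, m, hm, hF, Y, hY.qs, hAY, hY.nc⟩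
  · exfalso
    rcases Nat.eq_zero_or_pos n with hn | hn
    · subst hn
      have hF3 : Fintype.card F = 3 := by rw [hF]; norm_num
      obtain ⟨e3⟩ := ClSmall.psl2_three hF3
      apply not_simple_a4
      exact (e.trans e3).symm.isSimpleGroup
    · have hsim := H34ZL.simple_psl hn hF
      have hodd : ∃ s : Matrix.ProjectiveSpecialLinearGroup (Fin 2) F, s ≠ 1 ∧ Odd (orderOf s) := by
        apply exists_odd_elt Nat.prime_three (by norm_num)
        have h3 := MobCount.card_P2 (F := F) rfl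
        have h4 : Nat.Coprime 3 (Nat.gcd 2 (Fintype.card F - 1)) := by
          apply Nat.Coprime.coprime_dvd_right (Nat.gcd_dvd_left _ _)
          norm_num
        have h5 : 3 ∣ Nat.gcd 2 (Fintype.card F - 1) * Nat.card (MobCount.P2 F) := by
          rw [h3]
          apply Dvd.dvd.mul_right
          rw [hF]
          exact dvd_pow_self 3 (by omega)
        exact h4.dvd_of_dvd_mul_left h5
      obtain ⟨Y, hY, hAY⟩ := Good.exists_inv (H34ZL.not_comm_psl hn hF) hodd hA2 hNI _ K rfl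
        (hgood _ (qs_of_component h2 hKc e))
      have := H34ZL.psl2_case hS3 hn hF hY.qs hA2 hAY hNI
      obtain ⟨a, ha, x, hx, hne⟩ := hY.nc
      exact hne (this a ha x hx)

theorem main {G : Type u} [Group G] [Finite G] {V : Type*} [Group V] [Finite V] (hVc : ∀ u v : V, u * v = v * u)
    (hV2 : ∀ v : V, v * v = 1) (ρ : G →* MulAut V) (hρ : Function.Injective ρ)
    (h2 : pCore 2 G = ⊥) (hS3 : ¬ Involves (Equiv.Perm (Fin 3)) G)
    (hK : IsCompositionKGroupWith IsSuzukiOrPSL2OddPowerThree G) :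
    ∀ n : ℕ, ∀ A : Subgroup G, Nat.card A = n → (∀ a ∈ A, a * a = 1) →
      Nat.card A ^ 2 * Nat.card (fixSub (A.map ρ)) ≤ Nat.card V := by
  classical
  have hNoInv : SfN.NoInv ρ.range := by
    rintro _ ⟨b, rfl⟩ _ ⟨x, rfl⟩ hb hx hinv
    by_contra hx1
    apply hS3
    have hb' : b * b = 1 := hρ (by rw [map_mul, hb, map_one])
    have hbi : b⁻¹ = b := inv_eq_of_mul_eq_one_left hb'
    refine S3Sec.involves_perm_three x b (hρ (by rw [map_pow, hx, map_one])) (fun h => hx1 (by rw [h, map_one])) hb' ?_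
    apply hρ
    rw [map_mul, map_mul, map_inv, ← hinv, ← map_inv, hbi]
  intro n
  induction n using Nat.strong_induction_on with
  | _ n ih =>
  intro A hAn hA2
  by_contra hcon
  push Not at hcon
  have hA1 : A ≠ ⊥ := by
    rintro rfl
    rw [Subgroup.card_bot, one_pow, one_mul] at hcon
    exact absurd (Nat.card_le_card_of_injective _ (fixSub ((⊥ : Subgroup G).map ρ)).subtype_injective) (not_le.mpr hcon)
  have hAp : IsPGroup 2 A := fun a => ⟨1, by rw [pow_one, pow_two]; exact Subtype.ext (hA2 a a.2)⟩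
  have hNI : NI A := by
    rintro x hx1 hxo ⟨b, hbA, hbx⟩ hxc
    obtain ⟨A₁, hA₁⟩ : ∃ A₁, A₁ = A ⊓ centralizer {x} := ⟨_, rfl⟩
    have hmemA₁ : ∀ c, c ∈ A₁ ↔ c ∈ A ∧ c * x * c⁻¹ = x := by
      intro c
      rw [hA₁, Subgroup.mem_inf, Subgroup.mem_centralizer_singleton_iff, mul_inv_eq_iff_eq_mul]
    have hxne : x⁻¹ ≠ x := by
      intro h
      have h1 : x ^ 2 = 1 := by
        rw [pow_two]
        calc x * x = x⁻¹ * x := by rw [h]
          _ = 1 := inv_mul_cancel x
      have h2 : orderOf x ∣ 2 := orderOf_dvd_of_pow_eq_one h1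
      rcases (Nat.dvd_prime Nat.prime_two).mp h2 with h3 | h3
      · exact hx1 (orderOf_eq_one_iff.mp h3)
      · rw [h3] at hxo
        exact absurd hxo (by decide)
    have hbA₁ : b ∉ A₁ := by
      rw [hmemA₁]
      rintro ⟨-, h⟩
      rw [hbx] at h
      exact hxne h
    have hle : A₁ ≤ A := by rw [hA₁]; exact inf_le_left
    have hlt : A₁ < A := lt_of_le_of_ne hle (fun h => hbA₁ (h ▸ hbA))
    have hcard : Nat.card A ≤ 2 * Nat.card A₁ := by
      have hmem : ∀ a ∈ A, a ∈ A₁ ∨ b * a ∈ A₁ := by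
        intro a ha
        rcases hxc a ha with h | h
        · exact Or.inl ((hmemA₁ a).mpr ⟨ha, h⟩)
        · right
          rw [hmemA₁]
          refine ⟨A.mul_mem hbA ha, ?_⟩
          calc b * a * x * (b * a)⁻¹ = b * (a * x * a⁻¹) * b⁻¹ := by group
            _ = b * x⁻¹ * b⁻¹ := by rw [h]
            _ = (b * x * b⁻¹)⁻¹ := by group
            _ = x := by rw [hbx, inv_inv]
      let f : A → A₁ × Bool := fun a =>
        if h : (a : G) ∈ A₁ then (⟨a, h⟩, true) else (⟨b * a, (hmem a a.2).resolve_left h⟩, false)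
      have hf : Function.Injective f := by
        intro a c h
        by_cases h1 : (a : G) ∈ A₁ <;> by_cases h2 : (c : G) ∈ A₁
        · simp only [f, h1, h2, dif_pos] at h
          exact Subtype.ext (congrArg (fun z : A₁ × Bool => (z.1 : G)) h)
        · simp only [f, h1, h2, dif_pos, dif_neg, not_false_iff] at h
          simp at h
        · simp only [f, h1, h2, dif_pos, dif_neg, not_false_iff] at h
          simp at h
        · simp only [f, h1, h2, dif_neg, not_false_iff] at h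
          have h3 : b * (a : G) = b * c := congrArg (fun z : A₁ × Bool => (z.1 : G)) h
          exact Subtype.ext (mul_left_cancel h3)
      have := Nat.card_le_card_of_injective f hf
      rw [Nat.card_prod] at this
      simpa [mul_comm] using this
    have hρx1 : ρ x ≠ 1 := fun h => hx1 (hρ (by rw [h, map_one]))
    have h4 := SfN.four_le hVc hV2 hNoInv ⟨b, rfl⟩ ⟨x, rfl⟩ (by rw [← map_mul, hA2 b hbA, map_one])
      (by rw [orderOf_injective ρ hρ]; exact hxo) hρx1 (by rw [← map_mul, ← map_inv, ← map_mul, hbx, map_inv])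
      (A₁.map ρ) ((hAp.to_le hle).map ρ) (by
        rintro _ ⟨c, hc, rfl⟩
        rw [← map_mul, ← map_inv, ← map_mul, ((hmemA₁ c).mp hc).2]) (A.map ρ) (Subgroup.map_mono hle) ⟨b, hbA, rfl⟩
    have hcl : Nat.card A₁ < n := by
      rw [← hAn]
      exact lt_of_le_of_ne (Subgroup.card_le_of_le hlt.le)
        (fun h => hlt.ne (Subgroup.eq_of_le_of_card_ge hlt.le h.ge))
    have ih1 := ih _ hcl A₁ rfl (fun a ha => hA2 a (hlt.le ha))
    have hstep : Nat.card A ^ 2 * Nat.card (fixSub (A.map ρ)) ≤ Nat.card A₁ ^ 2 * Nat.card (fixSub (A₁.map ρ)) := by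
      calc Nat.card A ^ 2 * Nat.card (fixSub (A.map ρ)) ≤ (2 * Nat.card A₁) ^ 2 * Nat.card (fixSub (A.map ρ)) :=
            Nat.mul_le_mul_right _ (Nat.pow_le_pow_left hcard 2)
        _ = Nat.card A₁ ^ 2 * (4 * Nat.card (fixSub (A.map ρ))) := by ring
        _ ≤ _ := Nat.mul_le_mul_left _ h4
    exact absurd (hstep.trans ih1) (not_le.mpr hcon)
  obtain ⟨F, iF, iFt, iC, m, hm, hF, X, hX, hAX, a, haA, x, hxX, hax⟩ := struct h2 hS3 hK hA2 hA1 hNI
  have hθ := th_sq hF
  have hne := th_ne hm hF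
  have hsim := SuzukiGroup.simple (th F m) hθ hne
  have hFn : Nat.card F = 2 ^ (2 * m + 1) := by rw [Nat.card_eq_fintype_card]; exact hF
  obtain ⟨φ, h1, h2', h3⟩ := hX.mk' (H34ZM.not_comm (th F m) hθ hne)
  obtain ⟨r, hr, hr1, hr2, hr3⟩ := H34ZM.zsig (n := 2 * m + 1) (by omega)
  have hAXc : ∀ a ∈ A, ∀ x ∈ X, a * x * a⁻¹ ∈ X := fun a ha x hx => (mem_normalizer_iff.mp (hAX ha) x).mp hx
  obtain ⟨y, hyX, hyo, hyi⟩ := H34ZM.inverted (th F m) hθ hne hm hFn hX.perf h1 h2' h3 (hA2 a haA) (hAXc a haA)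
    ⟨x, hxX, hax⟩ hr (by rw [hFn, ← pow_mul, mul_comm (2 * m + 1) 2]; exact hr1)
  have hcb := H34ZM.card_bound (th F m) hθ hne hFn hX.perf h1 h2' h3 hA2 hAXc
  obtain ⟨C, hC⟩ : ∃ C, C = A ⊓ centralizer (X : Set G) := ⟨_, rfl⟩
  rw [← hC] at hcb
  have hle : C ≤ A := by rw [hC]; exact inf_le_left
  have hlt : C < A := by
    refine lt_of_le_of_ne hle (fun h => ?_)
    have : a ∈ C := h ▸ haA
    rw [hC] at this
    exact hax (mem_centralizer_iff.mp this.2 x hxX).symm
  have hfb := H34ZM.fix_bound hVc hV2 (B₁ := C.map ρ) (B := A.map ρ) (Subgroup.map_mono hle) ((hAp.to_le hle).map ρ)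
    (b := ρ a) (x := ρ y) ⟨a, haA, rfl⟩ (by rw [← map_mul, ← map_inv, ← map_mul, hyi, map_inv]) (by
      rintro _ ⟨c, hc, rfl⟩
      rw [← map_mul, ← map_inv, ← map_mul]
      congr 1
      rw [mul_inv_eq_iff_eq_mul]
      rw [SetLike.mem_coe, hC] at hc
      exact (mem_centralizer_iff.mp hc.2 y hyX).symm) hr hr2 (by rw [orderOf_injective ρ hρ]; exact hyo)
      (k := 2 * (2 * m + 1)) (by
        intro j hj hd
        have := hr3 j hj hd
        omega)
  have hcl : Nat.card C < n := by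
    rw [← hAn]
    exact lt_of_le_of_ne (Subgroup.card_le_of_le hlt.le)
      (fun h => hlt.ne (Subgroup.eq_of_le_of_card_ge hlt.le h.ge))
  have ih1 := ih _ hcl C rfl (fun a ha => hA2 a (hlt.le ha))
  have hstep : Nat.card A ^ 2 * Nat.card (fixSub (A.map ρ)) ≤ Nat.card C ^ 2 * Nat.card (fixSub (C.map ρ)) := by
    calc Nat.card A ^ 2 * Nat.card (fixSub (A.map ρ)) ≤ (Nat.card F * Nat.card C) ^ 2 * Nat.card (fixSub (A.map ρ)) :=
          Nat.mul_le_mul_right _ (Nat.pow_le_pow_left hcb 2)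
      _ = Nat.card C ^ 2 * (2 ^ (2 * (2 * m + 1)) * Nat.card (fixSub (A.map ρ))) := by rw [hFn]; ring
      _ ≤ _ := Nat.mul_le_mul_left _ hfb
  exact absurd (hstep.trans ih1) (not_le.mpr hcon)

end Cfsg.Agent.Lib.H34ZMain
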