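import Cfsg.Agent.Lib.H34FDef
import Cfsg.Agent.Lib.H34ZMain
import Cfsg.Agent.Lib.H34FN

/-!
# Thompson factorization for constrained `S₄`-free groups with composition factors
`Sz(q)`, `PSL₂(3^odd)` (helper83, piece H34-T)
-/

set_option autoImplicit false
set_option linter.unusedSectionVars false

namespace Cfsg.Agent.Lib.H34FT

open Subgroup Cfsg Cfsg.Agent.Lib.SfAct Cfsg.Agent.Lib.LocBase Cfsg.Agent.Lib.SfMin Cfsg.Agent.Lib.PReduced
open Cfsg.Agent.Lib.SfRel Cfsg.Agent.Lib.SfThomp Cfsg.Agent.Lib.H34FDef Cfsg.Agent.Lib.H34SolvOff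

universe u

/-! ### composition factors of quotients -/

theorem target_iso {X Y : Type*} [Group X] [Group Y] (e : X ≃* Y) (h : IsSuzukiOrPSL2OddPowerThree X) :
    IsSuzukiOrPSL2OddPowerThree Y := by
  rcases h with ⟨F, iF, iFt, m, hm, hc, ⟨f⟩⟩ | ⟨F, iF, iFt, n, hc, ⟨f⟩⟩
  · exact Or.inl ⟨F, iF, iFt, m, hm, hc, ⟨e.symm.trans f⟩⟩
  · exact Or.inr ⟨F, iF, iFt, n, hc, ⟨e.symm.trans f⟩⟩

theorem isSubnormal_comap {G H : Type*} [Group G] [Group H] (f : G →* H) {L : Subgroup H}
    (h : L.IsSubnormal) : (L.comap f).IsSubnormal := by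
  induction h with
  | top => rw [Subgroup.comap_top]; exact IsSubnormal.top
  | step A B hle hB hN ih =>
    refine IsSubnormal.step _ (B.comap f) (Subgroup.comap_mono hle) ih ?_
    rw [normal_subgroupOf_iff_le_normalizer hle] at hN
    rw [normal_subgroupOf_iff_le_normalizer (Subgroup.comap_mono hle)]
    exact (Subgroup.comap_mono hN).trans (le_normalizer_comap f)

theorem compK_of {P : ∀ (X : Type u) [Group X], Prop}
    (hP : ∀ (X Y : Type u) [Group X] [Group Y], (X ≃* Y) → P X → P Y)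
    {G H : Type u} [Group G] [Group H] (f : G →* H) (hf : Function.Surjective f)
    (h : IsCompositionKGroupWith P G) : IsCompositionKGroupWith P H := by
  intro L hL N hN hs hnc
  let L' : Subgroup G := L.comap f
  let g : ↥L' →* ↥L := f.subgroupComap L
  have hg : Function.Surjective g := f.subgroupComap_surjective_of_surjective L hf
  let q : ↥L' →* ↥L ⧸ N := (QuotientGroup.mk' N).comp g
  have hq : Function.Surjective q := (QuotientGroup.mk'_surjective N).comp hg
  let e : ↥L' ⧸ q.ker ≃* ↥L ⧸ N := QuotientGroup.quotientKerEquivOfSurjective q hq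
  have hs' : IsSimpleGroup (↥L' ⧸ q.ker) := (MulEquiv.isSimpleGroup_congr e).mpr hs
  have hnc' : ¬ IsMulCommutative (↥L' ⧸ q.ker) := by
    intro hc
    apply hnc
    refine ⟨⟨fun a b => ?_⟩⟩
    have := hc.is_comm.comm (e.symm a) (e.symm b)
    rw [← map_mul, ← map_mul] at this
    exact e.symm.injective this
  exact hP _ _ e (h L' (isSubnormal_comap f hL) q.ker hs' hnc')

theorem compK_map {G H : Type u} [Group G] [Group H] (f : G →* H) (hf : Function.Surjective f)
    (h : IsCompositionKGroupWith IsSuzukiOrPSL2OddPowerThree G) :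
    IsCompositionKGroupWith IsSuzukiOrPSL2OddPowerThree H :=
  compK_of (fun _ _ _ _ e => target_iso e) f hf h

theorem compK_quot {G : Type u} [Group G] (N : Subgroup G) [N.Normal]
    (h : IsCompositionKGroupWith IsSuzukiOrPSL2OddPowerThree G) :
    IsCompositionKGroupWith IsSuzukiOrPSL2OddPowerThree (G ⧸ N) :=
  compK_map (QuotientGroup.mk' N) (QuotientGroup.mk'_surjective N) h

theorem compK_equiv {G H : Type u} [Group G] [Group H] (e : G ≃* H)
    (h : IsCompositionKGroupWith IsSuzukiOrPSL2OddPowerThree G) :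
    IsCompositionKGroupWith IsSuzukiOrPSL2OddPowerThree H :=
  compK_map e.toMonoidHom e.surjective h

/-- the composition factor condition passes to subnormal subgroups -/
theorem compK_subn {G : Type u} [Group G] {L : Subgroup G} (hL : L.IsSubnormal)
    (h : IsCompositionKGroupWith IsSuzukiOrPSL2OddPowerThree G) :
    IsCompositionKGroupWith IsSuzukiOrPSL2OddPowerThree ↥L := by
  intro M hM N hN hs hnc
  have hM' : (M.map L.subtype).IsSubnormal := IsSubnormal.trans' hM hL
  let e0 : ↥M ≃* ↥(M.map L.subtype) := M.equivMapOfInjective L.subtype L.subtype_injective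
  let q : ↥(M.map L.subtype) →* ↥M ⧸ N := (QuotientGroup.mk' N).comp e0.symm.toMonoidHom
  have hq : Function.Surjective q := (QuotientGroup.mk'_surjective N).comp e0.symm.surjective
  let e : ↥(M.map L.subtype) ⧸ q.ker ≃* ↥M ⧸ N := QuotientGroup.quotientKerEquivOfSurjective q hq
  have hs' : IsSimpleGroup (↥(M.map L.subtype) ⧸ q.ker) := (MulEquiv.isSimpleGroup_congr e).mpr hs
  have hnc' : ¬ IsMulCommutative (↥(M.map L.subtype) ⧸ q.ker) := by
    intro hc
    apply hnc
    refine ⟨⟨fun a b => ?_⟩⟩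
    have := hc.is_comm.comm (e.symm a) (e.symm b)
    rw [← map_mul, ← map_mul] at this
    exact e.symm.injective this
  exact target_iso e (h _ hM' q.ker hs' hnc')

theorem involves_of_involves_surj {G H X : Type*} [Group G] [Group H] [Group X] (f : G →* H)
    (hf : Function.Surjective f) (h : Involves X H) : Involves X G := by
  obtain ⟨K, R, hR, ⟨e⟩⟩ := h
  let g : ↥(K.comap f) →* ↥K := f.subgroupComap K
  have hg : Function.Surjective g := MonoidHom.subgroupComap_surjective_of_surjective _ _ hf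
  refine H34S4.involves_of_surj (K.comap f) ((e.toMonoidHom.comp (QuotientGroup.mk' _)).comp g) ?_
  exact (e.surjective.comp (QuotientGroup.mk'_surjective _)).comp hg

variable {G : Type u} [Group G] [Finite G]

theorem core_range {V : Subgroup G} [V.Normal]
    (h : ∀ D : Subgroup G, D.Normal → pRes 2 D ≤ centralizer (V : Set G) → D ≤ centralizer (V : Set G)) :
    Cfsg.pCore 2 (rho V).range = ⊥ := by
  classical
  have h2p : Fact (Nat.Prime 2) := ⟨Nat.prime_two⟩
  set R := (rho V).range with hR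
  set D : Subgroup G := (Cfsg.pCore 2 R).comap (rho V).rangeRestrict with hD
  have hDn : D.Normal := by
    have : (Cfsg.pCore 2 R).Normal := pCore_normal _ _
    infer_instance
  have hpD : pRes 2 D ≤ centralizer (V : Set G) := by
    rw [pRes_le_iff]
    intro x hx ho
    rw [← ker_rho, MonoidHom.mem_ker]
    have h1 : (rho V).rangeRestrict x = 1 := by
      refine eq_one_of_isPGroup_of_pow (isPGroup_pCore 2 R) (mem_comap.mp hx) ho ?_
      rw [← map_pow, pow_orderOf_eq_one, map_one]
    exact congrArg Subtype.val h1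
  have h3 := h D hDn hpD
  rw [eq_bot_iff]
  intro y hy
  obtain ⟨g, rfl⟩ := (rho V).rangeRestrict_surjective y
  have h4 := h3 (mem_comap.mpr hy)
  rw [← ker_rho, MonoidHom.mem_ker] at h4
  rw [mem_bot]
  exact Subtype.ext h4

/-- **the offender bound**, relative index form -/
theorem bound_ri (hf : ¬ Involves (Equiv.Perm (Fin 4)) G)
    (hK : IsCompositionKGroupWith IsSuzukiOrPSL2OddPowerThree G) {W R : Subgroup G}
    (hW : PRed 2 W ⊤) (hR : ∀ r ∈ R, r * r ∈ centralizer (W : Set G)) :
    ((R ⊓ centralizer (W : Set G)).relIndex R) ^ 2 * Nat.card ↥(W ⊓ centralizer (R : Set G)) ≤ Nat.card W := by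
  classical
  have h2p : Fact (Nat.Prime 2) := ⟨Nat.prime_two⟩
  have hWn : W.Normal := normalizer_eq_top_iff.mp (top_le_iff.mp hW.norm)
  have hcomm : ∀ u v : W, u * v = v * u := fun u v =>
    Subtype.ext (mem_centralizer_iff.mp ((elem_iff.mp hW.elem).1 v.2) u u.2)
  have hsq : ∀ v : W, v * v = 1 := by
    intro v
    have := (elem_iff.mp hW.elem).2 _ v.2
    rw [pow_two] at this
    exact Subtype.ext this
  have hcore : Cfsg.pCore 2 (rho W).range = ⊥ :=
    core_range fun D hD hp => hW.red D le_top (by rw [normalizer_eq_top_iff.mpr hD]) hp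
  have hS3 : ¬ Involves (Equiv.Perm (Fin 3)) ↥(rho W).range := by
    intro h
    apply H34FN.s3free_quot hf W (elem_isPGroup hW.elem)
    let e : G ⧸ centralizer (W : Set G) ≃* ↥(rho W).range :=
      (QuotientGroup.quotientMulEquivOfEq (ker_rho W).symm).trans (QuotientGroup.quotientKerEquivRange (rho W))
    exact involves_of_involves_surj e.toMonoidHom e.surjective h
  have hKr : IsCompositionKGroupWith IsSuzukiOrPSL2OddPowerThree ↥(rho W).range :=
    compK_map (rho W).rangeRestrict (rho W).rangeRestrict_surjective hK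
  have hle : R.map (rho W) ≤ (rho W).range := by
    rintro _ ⟨a, _, rfl⟩
    exact ⟨a, rfl⟩
  have hA : ∀ a ∈ (R.map (rho W)).subgroupOf (rho W).range, a * a = 1 := by
    rintro ⟨_, hx⟩ ⟨a, ha, rfl⟩
    have := hR a ha
    rw [← ker_rho, MonoidHom.mem_ker, map_mul] at this
    exact Subtype.ext this
  have h1 := H34ZMain.main hcomm hsq (rho W).range.subtype (Subgroup.subtype_injective _) hcore hS3 hKr _
    ((R.map (rho W)).subgroupOf (rho W).range) rfl hA
  rw [Subgroup.map_subgroupOf_eq_of_le hle, card_fixSub,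
    Nat.card_congr (Subgroup.subgroupOfEquivOfLe hle).toEquiv, card_map_rho] at h1
  exact h1

theorem card_mul_ri {A B : Subgroup G} (h : A ≤ B) : Nat.card A * A.relIndex B = Nat.card B := by
  have := Subgroup.relIndex_mul_relIndex (⊥ : Subgroup G) A B bot_le h
  rwa [Subgroup.relIndex_bot_left, Subgroup.relIndex_bot_left] at this

/-- **the offender bound** -/
theorem bound (hf : ¬ Involves (Equiv.Perm (Fin 4)) G)
    (hK : IsCompositionKGroupWith IsSuzukiOrPSL2OddPowerThree G) {W R : Subgroup G}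
    (hW : PRed 2 W ⊤) (hR : ∀ r ∈ R, r * r ∈ centralizer (W : Set G)) :
    Nat.card R ^ 2 * Nat.card ↥(W ⊓ centralizer (R : Set G)) ≤
      Nat.card W * Nat.card ↥(R ⊓ centralizer (W : Set G)) ^ 2 := by
  have h1 := bound_ri hf hK hW hR
  have h2 := card_mul_ri (inf_le_left : R ⊓ centralizer (W : Set G) ≤ R)
  calc Nat.card R ^ 2 * Nat.card ↥(W ⊓ centralizer (R : Set G))
      = (((R ⊓ centralizer (W : Set G)).relIndex R) ^ 2 * Nat.card ↥(W ⊓ centralizer (R : Set G))) *
          Nat.card ↥(R ⊓ centralizer (W : Set G)) ^ 2 := by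
        rw [← h2]; ring
    _ ≤ _ := Nat.mul_le_mul_right _ h1

theorem bound' (hf : ¬ Involves (Equiv.Perm (Fin 4)) G)
    (hK : IsCompositionKGroupWith IsSuzukiOrPSL2OddPowerThree G) {V A : Subgroup G}
    (hV : PRed 2 V ⊤) (hA : ∀ a ∈ A, a * a ∈ centralizer (V : Set G)) :
    ((centralizer (V : Set G)).relIndex A) ^ 2 ≤ (centralizer (A : Set G)).relIndex V := by
  have h1 := bound_ri hf hK hV hA
  have h4 := card_mul_ri (inf_le_left : V ⊓ centralizer (A : Set G) ≤ V)
  rw [← h4, mul_comm] at h1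
  have h5 := Nat.le_of_mul_le_mul_left h1 Nat.card_pos
  rwa [Subgroup.inf_relIndex_left, Subgroup.inf_relIndex_left] at h5

theorem pred_V (hchar : IsCharP 2 (⊤ : Subgroup G)) {T : Subgroup G} (hT : IsSyl 2 T ⊤) :
    PRed 2 (ncl ⊤ (OZ 2 T)) ⊤ :=
  PRed.ncl (pRed_OZ T) hchar hT le_rfl hT.le

theorem maxE_le_centralizer (hchar : IsCharP 2 (⊤ : Subgroup G)) (hf : ¬ Involves (Equiv.Perm (Fin 4)) G)
    (hK : IsCompositionKGroupWith IsSuzukiOrPSL2OddPowerThree G) {T A : Subgroup G} (hT : IsSyl 2 T ⊤)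
    (hA : MaxE T A) : A ≤ centralizer (ncl ⊤ (OZ 2 T) : Set G) := by
  set V := ncl ⊤ (OZ 2 T) with hV
  have hVr := pred_V hchar hT
  rw [← hV] at hVr
  have hVT : V ≤ T := hVr.le_pCoreOf.trans hT.pCoreOf_le
  have hVC : V ≤ centralizer (V : Set G) := (elem_iff.mp hVr.elem).1
  have hA2 : ∀ a ∈ A, a * a ∈ centralizer (V : Set G) := by
    intro a ha
    have := (elem_iff.mp hA.elem).2 a ha
    rw [pow_two] at this
    rw [this]; exact one_mem _
  have h1 := bound' hf hK hVr hA2
  set m := (centralizer (V : Set G)).relIndex A with hm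
  have hmp : 0 < m := ri_pos _ _
  set A₀ := A ⊓ centralizer (V : Set G) with hA₀
  have hB : IsElementaryAbelian 2 (A₀ ⊔ V) :=
    elem_sup (elem_mono hA.elem inf_le_left) hVr.elem inf_le_right
  have h2 := hA.max _ (sup_le (inf_le_left.trans hA.le) hVT) hB
  -- cardinalities
  have hAV : A ⊓ V ≤ V ⊓ centralizer (A : Set G) :=
    le_inf inf_le_right (inf_le_left.trans (elem_iff.mp hA.elem).1)
  have e1 : A₀.relIndex (A₀ ⊔ V) = A₀.relIndex V :=
    LocTrace.relIndex_sup_of_le_normalizer ((Subgroup.le_centralizer_iff.mp inf_le_right).trans (centralizer_le_normalizer _))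
  have e2 := FrakM.card_mul_relIndex (le_sup_left : A₀ ≤ A₀ ⊔ V)
  have e3 := FrakM.card_mul_relIndex (inf_le_left : A₀ ≤ A)
  rw [Subgroup.inf_relIndex_left, ← hm] at e3
  have h3 : A₀.relIndex V ≤ m := by
    rw [e1] at e2
    rw [← e2, ← e3] at h2
    exact Nat.le_of_mul_le_mul_left h2 Nat.card_pos
  have h4 : (centralizer (A : Set G)).relIndex V ≤ A₀.relIndex V := by
    have h5 : A₀ ⊓ V ≤ centralizer (A : Set G) ⊓ V := by
      apply le_inf _ inf_le_right
      exact (inf_le_inf_right V inf_le_left).trans (hAV.trans inf_le_right)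
    rw [← Subgroup.inf_relIndex_right A₀ V, ← Subgroup.inf_relIndex_right (centralizer (A : Set G)) V]
    exact Subgroup.relIndex_le_of_le_left h5 (ri_pos _ _).ne'
  have h5 : m = 1 := by nlinarith
  rw [hm, Subgroup.relIndex_eq_one] at h5
  exact h5

theorem JJ_le_centralizer (hchar : IsCharP 2 (⊤ : Subgroup G)) (hf : ¬ Involves (Equiv.Perm (Fin 4)) G)
    (hK : IsCompositionKGroupWith IsSuzukiOrPSL2OddPowerThree G) {T : Subgroup G} (hT : IsSyl 2 T ⊤) :
    JJ T ≤ centralizer (ncl ⊤ (OZ 2 T) : Set G) := sSup_le fun _ hA => maxE_le_centralizer hchar hf hK hT hA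

/-- Frattini argument: if `J ≤ S ∩ C(W)` is determined by `S ∩ C(W)` then `G = C(W) N(J)` -/
theorem factor_gen {S W J : Subgroup G} (hS : IsSyl 2 S ⊤) (hW : W.Normal)
    (hJ : normalizer ((S ⊓ centralizer (W : Set G) : Subgroup G) : Set G) ≤ normalizer (J : Set G)) (g : G) :
    ∃ c ∈ centralizer (W : Set G), ∃ n ∈ normalizer (J : Set G), g = c * n := by
  have hV : (⊤ : Subgroup G) ≤ normalizer (W : Set G) := by rw [normalizer_eq_top_iff.mpr hW]
  have h1 := LocTrace.isSyl_TL hS hV
  obtain ⟨c, hc, n, hn, e⟩ := h1.frattini (H := ⊤) inf_le_left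
    (le_normalizer_inf le_normalizer (le_normalizer_centralizer hV)) (mem_top g)
  exact ⟨c, hc.2, n, hJ hn.2, e⟩

/-- **Thompson factorization** -/
theorem factor1 (hchar : IsCharP 2 (⊤ : Subgroup G)) (hf : ¬ Involves (Equiv.Perm (Fin 4)) G)
    (hK : IsCompositionKGroupWith IsSuzukiOrPSL2OddPowerThree G) {S : Subgroup G} (hS : IsSyl 2 S ⊤) (g : G) :
    ∃ c ∈ centralizer (ncl ⊤ (OZ 2 S) : Set G), ∃ n ∈ normalizer (JJ S : Set G), g = c * n := by
  have hn : (ncl ⊤ (OZ 2 S)).Normal := by
    rw [← normalizer_eq_top_iff, ← top_le_iff]; exact le_normalizer_ncl ⊤ _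
  refine factor_gen hS hn ?_ g
  have h2 := JJ_eq (le_inf (JJ_le S) (JJ_le_centralizer hchar hf hK hS)) inf_le_left
  have h3 := normalizer_le_JJ (S ⊓ centralizer (ncl ⊤ (OZ 2 S) : Set G))
  rwa [h2] at h3

end Cfsg.Agent.Lib.H34FT
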