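import Cfsg.Agent.Lib.H34FA1
import Cfsg.Agent.Lib.H34FT
import Cfsg.Agent.Lib.Involve
import Cfsg.Agent.S1997

/-!
# Assembly of S2796 (piece H34-A, helper63)
-/

set_option autoImplicit false
set_option linter.unusedSectionVars false

namespace Cfsg.Agent.Lib.H34FA2

open Subgroup Cfsg Cfsg.Agent.Lib.SfAct Cfsg.Agent.Lib.LocBase Cfsg.Agent.Lib.PReduced
  Cfsg.Agent.Lib.SfRel Cfsg.Agent.Lib.SfThomp Cfsg.Agent.Lib.H34FDef Cfsg.Agent.Lib.H34SolvOff
  Cfsg.Agent.Lib.H34FA1

universe u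

section one
variable {G : Type u} [Group G] [Finite G]

theorem VV_eq (hchar : IsCharP 2 (⊤ : Subgroup G)) (hf : ¬ Involves (Equiv.Perm (Fin 4)) G)
    (hK : IsCompositionKGroupWith IsSuzukiOrPSL2OddPowerThree G) {S : Subgroup G} (hS : IsSyl 2 S ⊤) :
    VV (S ⊓ centralizer (ncl ⊤ (OZ 2 S) : Set G)) = VV S := by
  have hWr := H34FT.pred_V hchar hS
  have hJC := H34FT.JJ_le_centralizer hchar hf hK hS
  have hWn : (⊤ : Subgroup G) ≤ normalizer (ncl ⊤ (OZ 2 S) : Set G) := le_normalizer_ncl ⊤ _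
  set W := ncl ⊤ (OZ 2 S) with hW
  have hWS : W ≤ S := hWr.le_pCoreOf.trans hS.pCoreOf_le
  have hWC : W ≤ centralizer (W : Set G) := (elem_iff.mp hWr.elem).1
  set S0 := S ⊓ centralizer (W : Set G) with hS0
  have hc := cand_VV S
  have hc0 := cand_VV S0
  apply le_antisymm
  · -- V0 ≤ VV S
    apply le_VV
    set V0 := VV S0 with hV0
    have hWS0 : W ≤ S0 := le_inf hWS hWC
    have hWV0 : W ≤ V0 := by
      apply le_VV
      refine ⟨hWS0, ?_, hWr.elem, PP_of_centralizes inf_le_right⟩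
      exact inf_le_right.trans (centralizer_le_normalizer _)
    have hCC : centralizer (V0 : Set G) ≤ centralizer (W : Set G) := centralizer_le hWV0
    refine ⟨hc0.le.trans inf_le_left, ?_, hc0.elem, ?_⟩
    · have h1 : S ≤ normalizer (S0 : Set G) :=
        le_normalizer_inf le_normalizer (le_normalizer_centralizer (le_top.trans hWn))
      exact h1.trans (normalizer_le_VV S0)
    · rw [PP_iff]
      intro R hR hA
      set R1 := R ⊓ centralizer (W : Set G) with hR1
      have hR1S : R1 ≤ S0 := inf_le_inf_right _ hR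
      have e1 : (centralizer (V0 : Set G)).relIndex R =
          (centralizer (W : Set G)).relIndex R * (centralizer (V0 : Set G)).relIndex R1 := by
        have h2 : R ⊓ centralizer (V0 : Set G) = R1 ⊓ centralizer (V0 : Set G) := by
          rw [hR1, inf_assoc, inf_eq_right.mpr hCC]
        have h3 : R ⊓ centralizer (V0 : Set G) ≤ R1 := by rw [h2]; exact inf_le_left
        have e := Subgroup.relIndex_mul_relIndex _ _ _ h3 (inf_le_left : R1 ≤ R)
        rw [Subgroup.inf_relIndex_left R (centralizer (V0 : Set G)), hR1,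
          Subgroup.inf_relIndex_left R (centralizer (W : Set G)), ← hR1] at e
        rw [← e, h2, Subgroup.inf_relIndex_left R1 (centralizer (V0 : Set G)), mul_comm]
      have e2 := ri_ge (R := R) (R1 := R1) (V := V0) (V1 := W) (V2 := V0) hWV0 le_rfl inf_le_left inf_le_right
      have e3 := H34FT.bound' hf hK (V := W) (A := R) hWr (by
        intro a ha
        rw [← pow_two]; exact hCC (hA.sq a ha))
      set a := (centralizer (W : Set G)).relIndex R
      set b := (centralizer (R : Set G)).relIndex W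
      set c := (centralizer (V0 : Set G)).relIndex R1
      set d := (centralizer (R1 : Set G)).relIndex V0
      have ha : 0 < a := SfMin.ri_pos _ _
      have hb : 0 < b := SfMin.ri_pos _ _
      have hcp : 0 < c := SfMin.ri_pos _ _
      have hd : 0 < d := SfMin.ri_pos _ _
      rw [e1]
      refine lt_of_lt_of_le ?_ (Nat.pow_le_pow_left e2 2)
      have h4 : (a ^ 2) ^ 2 ≤ b ^ 2 := Nat.pow_le_pow_left e3 2
      rw [mul_pow, mul_pow]
      by_cases h5 : R1 ≤ centralizer (V0 : Set G)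
      · have hc1 : c = 1 := Subgroup.relIndex_eq_one.mpr h5
        have ha1 : 1 < a := by
          by_contra h6
          have h7 : a = 1 := by omega
          have h8 : R ≤ centralizer (W : Set G) := Subgroup.relIndex_eq_one.mp h7
          have h9 : R1 = R := inf_eq_left.mpr h8
          rw [h9] at h5
          exact hA.ne h5
        rw [hc1, one_pow, mul_one]
        have h6 : a ^ 3 < a ^ 4 := Nat.pow_lt_pow_right ha1 (by norm_num)
        have h7 : (a ^ 2) ^ 2 = a ^ 4 := by ring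
        have h8 : 1 ≤ d ^ 2 := Nat.one_le_pow _ _ hd
        calc a ^ 3 < a ^ 4 := h6
          _ ≤ b ^ 2 := h7 ▸ h4
          _ = b ^ 2 * 1 := (mul_one _).symm
          _ ≤ b ^ 2 * d ^ 2 := Nat.mul_le_mul_left _ h8
      · have h6 := (PP_iff.mp hc0.pp) R1 hR1S (hA.mono inf_le_left le_rfl h5)
        have h7 : a ^ 3 ≤ b ^ 2 := by
          have h8 : a ^ 3 ≤ a ^ 4 := Nat.pow_le_pow_right ha (by norm_num)
          have h9 : (a ^ 2) ^ 2 = a ^ 4 := by ring
          exact h8.trans (h9 ▸ h4)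
        calc a ^ 3 * c ^ 3 < a ^ 3 * d ^ 2 := Nat.mul_lt_mul_of_pos_left h6 (pow_pos ha 3)
          _ ≤ b ^ 2 * d ^ 2 := Nat.mul_le_mul_right _ h7
  · apply le_VV
    have h1 : VV S ≤ S0 := le_inf hc.le ((le_JJ' hc.le hc.elem hc.pp).trans hJC)
    exact ⟨h1, inf_le_left.trans hc.norm, hc.elem, hc.pp.mono inf_le_left⟩

theorem factor2 (hchar : IsCharP 2 (⊤ : Subgroup G)) (hf : ¬ Involves (Equiv.Perm (Fin 4)) G)
    (hK : IsCompositionKGroupWith IsSuzukiOrPSL2OddPowerThree G) {S : Subgroup G} (hS : IsSyl 2 S ⊤) (g : G) :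
    ∃ c ∈ centralizer (ncl ⊤ (OZ 2 S) : Set G), ∃ n ∈ normalizer (VV S : Set G), g = c * n := by
  have hn : (ncl ⊤ (OZ 2 S)).Normal := by
    rw [← normalizer_eq_top_iff, ← top_le_iff]; exact le_normalizer_ncl ⊤ _
  refine H34FT.factor_gen hS hn ?_ g
  have h := normalizer_le_VV (S ⊓ centralizer (ncl ⊤ (OZ 2 S) : Set G))
  rwa [VV_eq hchar hf hK hS] at h

end one

section JJ
variable {G : Type u} [Group G] [Finite G]

theorem thompsonOf_eq (T : Subgroup G) : Cfsg.thompsonSubgroupOf 2 T = JJ T := by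
  rw [ThompsonJ.thompsonSubgroupOf_eq]
  unfold ThompsonJ.J JJ
  congr 1
  ext A
  constructor
  · rintro ⟨h1, h2, h3⟩
    exact ⟨h1, h2, h3⟩
  · intro h
    exact ⟨h.le, h.elem, h.max⟩

end JJ

theorem isChar_J : Cfsg.IsCharPFunctor.{u} 2 (fun Q _ => Cfsg.thompsonSubgroup 2 Q) := by
  refine ⟨?_, ?_⟩
  · intro Q _ _ hQ hn h0
    change Cfsg.thompsonSubgroup 2 Q = ⊥ at h0
    have h1 : OZ 2 (⊤ : Subgroup Q) ≤ Cfsg.thompsonSubgroupOf 2 (⊤ : Subgroup Q) := by
      rw [thompsonOf_eq]; exact OZ_le_JJ _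
    have h3 : Cfsg.thompsonSubgroupOf 2 (⊤ : Subgroup Q) = Cfsg.thompsonSubgroup 2 Q := by
      have h4 := StableClosure.thompsonSubgroup_map_equiv (p := 2) (Subgroup.topEquiv : (⊤ : Subgroup Q) ≃* Q)
      rw [← h4]; rfl
    rw [h3, h0] at h1
    have h2 : IsPGroup 2 (⊤ : Subgroup Q) := hQ.to_subgroup ⊤
    apply SfUniq.OZ_ne_bot h2 top_ne_bot
    exact le_bot_iff.mp h1
  · intro Q R _ _ _ _ φ
    exact StableClosure.thompsonSubgroup_map_equiv φ

theorem involves_sub {H : Type*} {G : Type*} [Group H] [Group G] {K : Subgroup G} (h : Involves H ↥K) : Involves H G := by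
  obtain ⟨L, f, hf⟩ := Involve.exists_hom h
  refine H34S4.involves_of_surj (L.map K.subtype)
    (f.comp (L.equivMapOfInjective K.subtype K.subtype_injective).symm.toMonoidHom) ?_
  exact hf.comp (MulEquiv.surjective _)

/-- the statement of Theorem B, in one universe -/
def ThmB : Prop := ∀ (X : Type u) [Group X] [Finite X], centralizer (pCore 2 X : Set X) ≤ pCore 2 X →
    ¬ Involves (Equiv.Perm (Fin 4)) X → ∀ (S D : Subgroup X), IsSyl 2 S ⊤ →
    (∀ H : Subgroup X, S ≤ H → IsCompositionKGroupWith IsSuzukiOrPSL2OddPowerThree H) → D ≤ S →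
    S ≤ normalizer (D : Set X) → IsElementaryAbelian 2 D → PP 3 2 S D →
    ∀ g : X, ∃ c ∈ centralizer (D : Set X), ∃ n ∈ normalizer (JJ S : Set X), g = c * n

theorem result (hB : ThmB.{u}) {G : Type u} [Group G] [Finite G] (hfree : ¬ Cfsg.Involves (Equiv.Perm (Fin 4)) G) (hsec : ∀ (K R : Subgroup G) [hR : (R.subgroupOf K).Normal], Subgroup.centralizer (Cfsg.pCore 2 (K ⧸ R.subgroupOf K) : Set (K ⧸ R.subgroupOf K)) ≤ Cfsg.pCore 2 (K ⧸ R.subgroupOf K) → Cfsg.IsCompositionKGroupWith Cfsg.IsSuzukiOrPSL2OddPowerThree (K ⧸ R.subgroupOf K)) (S : Sylow 2 G) (N : Subgroup G) (hN : N = Subgroup.normalizer (Cfsg.thompsonSubgroupOf 2 (S : Subgroup G) : Set G)) (A : Subgroup G) (hA : A = (Subgroup.normalClosure (((Cfsg.omegaOne 2 ((S : Subgroup G) ⊓ Subgroup.centralizer ((S : Subgroup G) : Set G))).subgroupOf N : Subgroup ↥N) : Set ↥N)).map N.subtype) : A ≤ S ∧ Cfsg.IsElementaryAbelian 2 A ∧ Cfsg.IsStronglyClosed A (S : Subgroup G) ∧ Cfsg.ControlsStrongFusion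 2 A := by
  have hfac : ∀ (X : Type u) [Group X] [Finite X], CFSection.IsSec X G →
      centralizer (pCore 2 X : Set X) ≤ pCore 2 X → ¬ Involves (Equiv.Perm (Fin 4)) X → ∀ T : Sylow 2 X,
      (∀ x : X, ∃ a ∈ centralizer (OZ 2 (T : Subgroup X) : Set X), ∃ b ∈ normalizer (JJ (T : Subgroup X) : Set X), x = a * b) ∧
      (∀ x : X, ∃ a ∈ centralizer (OZ 2 (T : Subgroup X) : Set X), ∃ b ∈ normalizer (VV (T : Subgroup X) : Set X), x = a * b) ∧
      (∀ x : X, ∃ a ∈ normalizer (JJ (T : Subgroup X) : Set X), ∃ b ∈ normalizer (VV (T : Subgroup X) : Set X), x = a * b) := by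
    intro X _ _ hX hc hf T
    have hT : IsSyl 2 (T : Subgroup X) ⊤ := isSyl_top T
    have hchar : IsCharP 2 (⊤ : Subgroup X) := isCharP_top.mpr hc
    have hKH : ∀ H : Subgroup X, (T : Subgroup X) ≤ H → IsCompositionKGroupWith IsSuzukiOrPSL2OddPowerThree H := by
      intro H hH
      have h1 : CFSection.IsSec ↥H G := (CFSection.isSec_subgroup H).trans hX
      have h2 : IsCharP 2 H := hchar.of_le le_top (hT.pCoreOf_le.trans hH)
      obtain ⟨K', R', hR', hC', ⟨e⟩⟩ := CFStmt.exists_KR_constrained h1 (isCharP_iff.mp h2)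
      exact H34FT.compK_equiv e (hsec K' R' hC')
    have hKX : IsCompositionKGroupWith IsSuzukiOrPSL2OddPowerThree X :=
      H34FT.compK_equiv (Subgroup.topEquiv : (⊤ : Subgroup X) ≃* X) (hKH ⊤ le_top)
    have hcz : centralizer (ncl ⊤ (OZ 2 (T : Subgroup X)) : Set X) ≤ centralizer (OZ 2 (T : Subgroup X) : Set X) :=
      centralizer_le (le_ncl ⊤ _)
    refine ⟨?_, ?_, ?_⟩
    · intro x
      obtain ⟨c, hc1, n, hn, e⟩ := H34FT.factor1 hchar hf hKX hT x
      exact ⟨c, hcz hc1, n, hn, e⟩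
    · intro x
      obtain ⟨c, hc1, n, hn, e⟩ := factor2 hchar hf hKX hT x
      exact ⟨c, hcz hc1, n, hn, e⟩
    · intro x
      have hV := cand_VV (T : Subgroup X)
      obtain ⟨c, hc1, n, hn, e⟩ := hB X hc hf T (VV (T : Subgroup X)) hT hKH hV.le hV.norm hV.elem hV.pp x⁻¹
      refine ⟨n⁻¹, inv_mem hn, c⁻¹, inv_mem (centralizer_le_normalizer _ hc1), ?_⟩
      rw [← mul_inv_rev, ← e, inv_inv]
  have hind : ∀ (X : Type u) [Group X] [Finite X] (T : Subgroup X),
      Cfsg.inducedFunctor (G := X) (fun Q _ => Cfsg.thompsonSubgroup 2 Q) T = JJ T := by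
    intro X _ _ T
    rw [← thompsonOf_eq]; rfl
  refine S1997.result (p := 2) S (fun Q _ => Cfsg.thompsonSubgroup 2 Q) (fun Q _ => VF Q) isChar_J isChar_VF ?_ ?_ N ?_ A hA
  · intro K R hR hc T
    have hX : CFSection.IsSec (↥K ⧸ R.subgroupOf K) G := CFSection.isSec_KR K R
    have hf : ¬ Involves (Equiv.Perm (Fin 4)) (↥K ⧸ R.subgroupOf K) := by
      intro h
      exact hfree (involves_sub (H34FT.involves_of_involves_surj (QuotientGroup.mk' (R.subgroupOf K)) (QuotientGroup.mk'_surjective _) h))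
    have h := hfac _ hX hc hf T
    rw [hind, induced_VF]
    exact h
  · rw [hind, induced_VF]
    exact le_inf (OZ_le_JJ _) (le_VV (cand_OZ _))
  · exact hN

end Cfsg.Agent.Lib.H34FA2
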