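import Cfsg.Agent.Lib.H34FDef
import Cfsg.Agent.Lib.H34SolvOff
import Cfsg.Agent.Lib.LocBase
import Cfsg.Agent.Lib.S3Sec
import Cfsg.Agent.Lib.SubgroupTools

/-!
# Piece Y1 (for helper34): a solvable minimal normal subgroup (helper88)
-/

set_option autoImplicit false
set_option maxHeartbeats 400000
set_option linter.unusedSectionVars false

namespace Cfsg.Agent.Lib.H34FY1

open Subgroup Cfsg Cfsg.Agent.Lib.LocBase Cfsg.Agent.Lib.H34SolvOff

universe u

variable {G : Type u} [Group G] [Finite G]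

theorem normal_of_sup {D A B : Subgroup G} (h : A ⊔ B = ⊤) (hA : A ≤ normalizer (D : Set G))
    (hB : B ≤ normalizer (D : Set G)) : D.Normal := by
  have : (⊤ : Subgroup G) ≤ normalizer (D : Set G) := by rw [← h]; exact sup_le hA hB
  exact normalizer_eq_top_iff.mp (top_le_iff.mp this)

theorem card_le_two_mul {A : Subgroup G} {x a : G} (ha : a ∈ A) (hax : a * x * a⁻¹ = x⁻¹)
    (hall : ∀ c ∈ A, c * x * c⁻¹ = x ∨ c * x * c⁻¹ = x⁻¹) :
    Nat.card A ≤ 2 * Nat.card ↥(A ⊓ centralizer ({x} : Set G)) := by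
  set B : Subgroup G := A ⊓ centralizer ({x} : Set G) with hB
  have hmem : ∀ c ∈ A, c * x * c⁻¹ = x → c ∈ B := by
    intro c hc h
    refine mem_inf.mpr ⟨hc, mem_centralizer_singleton_iff.mpr ?_⟩
    calc c * x = (c * x * c⁻¹) * c := by group
      _ = x * c := by rw [h]
  have hsub : (A : Set G) ⊆ (B : Set G) ∪ (fun b => a * b) '' (B : Set G) := by
    intro c hc
    rcases hall c hc with h | h
    · exact Or.inl (hmem c hc h)
    · refine Or.inr ⟨a⁻¹ * c, hmem _ (A.mul_mem (A.inv_mem ha) hc) ?_, by group⟩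
      have h1 : a⁻¹ * x⁻¹ * a = x := by rw [← hax]; group
      calc a⁻¹ * c * x * (a⁻¹ * c)⁻¹ = a⁻¹ * (c * x * c⁻¹) * a := by group
        _ = x := by rw [h, h1]
  have h1 : (A : Set G).ncard ≤ (B : Set G).ncard + (B : Set G).ncard := by
    refine (Set.ncard_le_ncard hsub (Set.toFinite _)).trans ((Set.ncard_union_le _ _).trans ?_)
    exact Nat.add_le_add_left (Set.ncard_image_le (Set.toFinite _)) _
  have e1 : (A : Set G).ncard = Nat.card A := rfl
  have e2 : (B : Set G).ncard = Nat.card B := rfl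
  rw [e1, e2] at h1
  omega

theorem y1 {S M A : Subgroup G} (hS : IsSyl 2 S ⊤) (hSM : S ≤ M) (hM : M ≠ ⊤)
    (huniq : ∀ H : Subgroup G, S ≤ H → H ≠ ⊤ → H ≤ M)
    (hcore : M.normalCore = ⊥) (hS3 : ¬ Involves (Equiv.Perm (Fin 3)) G) (hAS : A ≤ S)
    (hA2 : ∀ a ∈ A, a * a = 1) (hA1 : A ≠ ⊥)
    {N : Subgroup G} [N.Normal] (hN : N ≠ ⊥) (hNs : Group.IsSolvable N) :
    ∃ p k : ℕ, p.Prime ∧ p ≠ 2 ∧ (∀ j, 1 ≤ j → j ≤ 2 * k → ¬ p ∣ 2 ^ j - 1) ∧
      ∃ x : G, x ∉ M ∧ orderOf x = p ∧ (∃ a ∈ A, a * x * a⁻¹ = x⁻¹) ∧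
        Nat.card A ≤ 2 ^ k * Nat.card ↥(A ⊓ centralizer ({x} : Set G)) := by
  haveI : Fact (Nat.Prime 2) := ⟨Nat.prime_two⟩
  have hnt : Nontrivial N := (nontrivial_iff_ne_bot N).mpr hN
  obtain ⟨r, E, hr, hE, hEc, hEab, hEp⟩ := SubgroupTools.exists_characteristic_elementary N
  haveI : Fact r.Prime := ⟨hr⟩
  set K : Subgroup G := E.map N.subtype with hK
  have hKn : K.Normal := inferInstance
  have hK1 : K ≠ ⊥ := by
    rw [hK, Ne, map_eq_bot_iff_of_injective _ N.subtype_injective]; exact hE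
  have hKc : ∀ x ∈ K, ∀ y ∈ K, x * y = y * x := by
    rintro _ ⟨x, hx, rfl⟩ _ ⟨y, hy, rfl⟩
    rw [← map_mul, ← map_mul]
    congr 1
    exact congrArg Subtype.val (hEab.is_comm.comm (⟨x, hx⟩ : E) ⟨y, hy⟩)
  have hKp : ∀ x ∈ K, x ^ r = 1 := by
    rintro _ ⟨x, hx, rfl⟩
    rw [← map_pow, hEp x hx, map_one]
  have hcoreN : ∀ D : Subgroup G, D.Normal → D ≤ M → D = ⊥ := by
    intro D hD hDM
    have := (Subgroup.normal_le_normalCore (N := D) (H := M)).mpr hDM
    rw [hcore] at this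
    exact le_bot_iff.mp this
  have hKM : ¬ K ≤ M := fun h => hK1 (hcoreN K hKn h)
  have hKK : K ≤ centralizer (K : Set G) := fun x hx y hy => hKc y hy x hx
  have hpK : IsPGroup r K := fun x => ⟨1, Subtype.ext (by simpa using hKp x x.2)⟩
  -- `r` is odd
  have hr2 : r ≠ 2 := by
    intro h
    subst h
    obtain ⟨g, _, hg⟩ := hS.exists_conj_le hpK le_top
    have e : K.map (MulAut.conj g).toMonoidHom = K :=
      map_conj_eq_of_mem (by rw [normalizer_eq_top_iff.mpr hKn]; trivial)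
    rw [e] at hg
    exact hKM (hg.trans hSM)
  have hodd : Odd (Nat.card K) := by
    obtain ⟨n, hn⟩ := IsPGroup.iff_card.mp hpK
    rw [hn]
    exact (hr.odd_of_ne_two hr2).pow
  -- generation by `S` and `K`
  have hgen : K ⊔ S = ⊤ := by
    by_contra h
    exact hKM (le_sup_left.trans (huniq _ le_sup_right h))
  have hnorm : ∀ H : Subgroup G, H ≤ normalizer (K : Set G) := fun H => by
    rw [normalizer_eq_top_iff.mpr hKn]; exact le_top
  -- `K` meets `M` trivially
  have hKM1 : M ⊓ K = ⊥ := by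
    have hn : (M ⊓ K).Normal := by
      refine normal_of_sup (A := K) (B := M) (top_le_iff.mp (hgen ▸ sup_le_sup_left hSM K)) ?_ ?_
      · intro k hk
        have : k ∈ centralizer ((M ⊓ K : Subgroup G) : Set G) := fun y hy => hKc y (mem_inf.mp hy).2 k hk
        exact centralizer_le_normalizer _ this
      · exact le_normalizer_inf le_normalizer (hnorm M)
    exact hcoreN _ hn inf_le_left
  -- `S` acts faithfully on `K`
  have hSC : S ⊓ centralizer (K : Set G) = ⊥ := by
    have hn : (S ⊓ centralizer (K : Set G)).Normal := by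
      refine normal_of_sup hgen ?_ ?_
      · intro k hk
        have : k ∈ centralizer ((S ⊓ centralizer (K : Set G) : Subgroup G) : Set G) :=
          fun y hy => ((mem_inf.mp hy).2 k hk).symm
        exact centralizer_le_normalizer _ this
      · exact le_normalizer_inf le_normalizer (le_normalizer_centralizer (hnorm S))
    exact hcoreN _ hn (inf_le_left.trans hSM)
  have hne : ∃ b ∈ A, ∃ x ∈ K, b * x * b⁻¹ ≠ x := by
    by_contra h
    push Not at h
    apply hA1
    rw [← le_bot_iff, ← hSC]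
    refine le_inf hAS ?_
    intro b hb x hx
    have := h b hb x hx
    calc x * b = (b * x * b⁻¹) * b := by rw [this]
      _ = b * x := by group
  have hKs : Group.IsSolvable K := by
    refine ⟨1, ?_⟩
    rw [derivedSeries_one, commutator_def, commutator_eq_bot_iff_le_centralizer]
    intro x _ y _
    exact Subtype.ext (hKc y y.2 x x.2)
  obtain ⟨x, hxK, hx1, ⟨a, ha, hax⟩, hall⟩ := exists_inverted A K hA2 hodd hKs
    (fun b _ x hx => hKn.conj_mem x hx b) hne
  have hxo : orderOf x = r := orderOf_eq_prime (hKp x hxK) hx1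
  have hr3 : r ≠ 3 := by
    intro h
    apply hS3
    refine S3Sec.involves_perm_three x a (by rw [← h]; exact hKp x hxK) hx1 (hA2 a ha) ?_
    have : a⁻¹ = a := inv_eq_of_mul_eq_one_left (hA2 a ha)
    rw [← hax, this]
  refine ⟨r, 1, hr, hr2, ?_, x, ?_, hxo, ⟨a, ha, hax⟩, ?_⟩
  · intro j h1 h2 hd
    have hj : j = 1 ∨ j = 2 := by omega
    rcases hj with rfl | rfl
    · exact hr.one_lt.ne' (Nat.dvd_one.mp (by simpa using hd))
    · have : r ∣ 3 := by simpa using hd
      exact hr3 ((Nat.prime_dvd_prime_iff_eq hr Nat.prime_three).mp this)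
  · intro hxM
    apply hx1
    have : x ∈ M ⊓ K := mem_inf.mpr ⟨hxM, hxK⟩
    rw [hKM1] at this
    exact mem_bot.mp this
  · rw [pow_one]
    exact card_le_two_mul ha hax hall

end Cfsg.Agent.Lib.H34FY1
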