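import Cfsg.Agent.Lib.H34FDef

/-!
# Piece H34-Y2 of S2796/S2753 (helper17): components `PSL₂(3^odd)` lie in the unique maximal subgroup over `S`
-/

set_option autoImplicit false
set_option linter.unusedSectionVars false

namespace Cfsg.Agent.Lib.H34FY2

open Subgroup Cfsg Cfsg.Agent.Lib.SfAct Cfsg.Agent.Lib.LocBase Cfsg.Agent.Lib.SfMin Cfsg.Agent.Lib.PReduced Cfsg.Agent.Lib.SfRel Cfsg.Agent.Lib.SfThomp Cfsg.Agent.Lib.H34FDef Cfsg.Agent.Lib.H34SolvOff
open Cfsg.Agent.Lib.H34ZL Cfsg.Agent.Lib.Components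

universe u
variable {G : Type u} [Group G] [Finite G]

theorem perm3_two : ∀ α : Equiv.Perm (Fin 3), α * α = 1 ∨ α * α * α = 1 := by decide +kernel

/-- In an `S₃`-free group, an involution normalizing a group of order four which is normalized, but not centralized, by an
element of odd order, centralizes it. -/
theorem four_comm2 (hS3 : ¬ Cfsg.Involves (Equiv.Perm (Fin 3)) G) {P : Subgroup G} (hP : Nat.card P = 4)
    {h : G} (hh : h ∈ normalizer (P : Set G)) (hho : Odd (orderOf h)) (hhn : ∃ p ∈ P, h * p ≠ p * h)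
    {a : G} (ha : a ∈ normalizer (P : Set G)) (ha2 : ∃ k : ℕ, a ^ (2 ^ k) = 1) : ∀ p ∈ P, a * p = p * a := by
  classical
  by_contra hcon
  push Not at hcon
  apply hS3
  have hcard : Nat.card {w : P // w ≠ 1} = 3 := by
    have _ := Fintype.ofFinite P
    have h1 : Nat.card {w : P // w ≠ 1} = Nat.card P - 1 := by
      rw [Nat.card_eq_fintype_card, Fintype.card_subtype_compl, Fintype.card_subtype_eq, Nat.card_eq_fintype_card]
    omega
  have hfin : Finite {w : P // w ≠ 1} := inferInstance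
  obtain ⟨e⟩ : Nonempty ({w : P // w ≠ 1} ≃ Fin 3) := by
    have _ := Fintype.ofFinite {w : P // w ≠ 1}
    exact ⟨Fintype.equivFinOfCardEq (by rw [← Nat.card_eq_fintype_card]; exact hcard)⟩
  let κ : normalizer (P : Set G) →* MulAut P := P.normalizerMonoidHom
  have hκ : ∀ (g : normalizer (P : Set G)) (w : P), ((κ g w : P) : G) = g * w * (g : G)⁻¹ := fun g w => rfl
  let τ : MulAut P →* Equiv.Perm {w : P // w ≠ 1} :=
    MonoidHom.mk' (fun f => Equiv.Perm.subtypePerm (f.toEquiv : Equiv.Perm P) (fun w => by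
      show f w ≠ 1 ↔ w ≠ 1
      rw [not_iff_not]
      exact map_eq_one_iff f f.injective)) (by
      intro f g
      ext w
      rfl)
  have hτ : ∀ f w, ((τ f w : {w : P // w ≠ 1}) : P) = f w := fun f w => rfl
  let μ : Equiv.Perm {w : P // w ≠ 1} ≃* Equiv.Perm (Fin 3) :=
    MulEquiv.mk' e.permCongr (by
      intro x y
      ext i
      simp [Equiv.permCongr_apply])
  let f : normalizer (P : Set G) →* Equiv.Perm (Fin 3) := (μ.toMonoidHom.comp τ).comp κ
  have hf1 : ∀ g : normalizer (P : Set G), f g = 1 ↔ ∀ p ∈ P, (g : G) * p = p * g := by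
    intro g
    have h1 : f g = 1 ↔ τ (κ g) = 1 := by
      show μ (τ (κ g)) = 1 ↔ _
      exact map_eq_one_iff μ μ.injective
    rw [h1]
    constructor
    · intro h2 p hp
      by_cases hp1 : p = 1
      · rw [hp1, mul_one, one_mul]
      · have h3 := congrArg (fun (s : Equiv.Perm {w : P // w ≠ 1}) => ((s ⟨⟨p, hp⟩, fun h => hp1 (congrArg Subtype.val h)⟩ : {w : P // w ≠ 1}) : P)) h2
        have h4 := congrArg Subtype.val h3
        have h5 : (g : G) * p * (g : G)⁻¹ = p := h4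
        exact mul_inv_eq_iff_eq_mul.mp h5
    · intro h2
      ext w
      show (g : G) * w * (g : G)⁻¹ = w
      rw [h2 w (Subtype.coe_prop _), mul_inv_cancel_right]
  refine Involve.involves_of_hom f ?_
  set α := f ⟨a, ha⟩ with hα
  set β := f ⟨h, hh⟩ with hβ
  have hα1 : α ≠ 1 := by
    rw [hα, Ne, hf1]
    push Not
    exact hcon
  have hα2 : α * α = 1 := by
    obtain ⟨k, hk⟩ := ha2
    have h1 : α ^ (2 ^ k) = 1 := by
      rw [hα, ← map_pow]
      have : (⟨a, ha⟩ ^ (2 ^ k) : normalizer (P : Set G)) = 1 := Subtype.ext hk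
      rw [this, map_one]
    rcases perm3_two α with h2 | h2
    · exact h2
    · exfalso
      apply hα1
      have h3 : orderOf α ∣ 2 ^ k := orderOf_dvd_of_pow_eq_one h1
      have h4 : orderOf α ∣ 3 := orderOf_dvd_of_pow_eq_one (by rw [pow_succ, pow_two]; exact h2)
      have h5 : Nat.Coprime (2 ^ k) 3 := Nat.Coprime.pow_left k (by decide)
      rw [← orderOf_eq_one_iff]
      exact Nat.dvd_one.mp (h5 ▸ Nat.dvd_gcd h3 h4)
  have hβ1 : β ≠ 1 := by
    rw [hβ, Ne, hf1]
    push Not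
    exact hhn
  have hβo : Odd (orderOf β) := by
    have h1 : orderOf β ∣ orderOf (⟨h, hh⟩ : normalizer (P : Set G)) := orderOf_map_dvd f _
    rw [Subgroup.orderOf_mk] at h1
    exact hho.of_dvd_nat h1
  have hβ2 : β * β ≠ 1 := by
    intro h2
    have h3 : orderOf β ∣ 2 := orderOf_dvd_of_pow_eq_one (by rw [pow_two]; exact h2)
    rcases (Nat.dvd_prime Nat.prime_two).mp h3 with h4 | h4
    · exact hβ1 (orderOf_eq_one_iff.mp h4)
    · rw [h4] at hβo
      exact absurd hβo (by decide)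
  have hβ3 := perm3_odd β hβ1 hβ2
  intro γ
  rcases perm3 α β γ hα1 hα2 hβ1 hβ3 with h0 | h0 | h0 | h0 | h0 | h0
  · exact ⟨1, by rw [map_one, h0]⟩
  · exact ⟨_, h0.symm⟩
  · exact ⟨⟨h, hh⟩ * ⟨h, hh⟩, by rw [map_mul, h0]⟩
  · exact ⟨_, h0.symm⟩
  · exact ⟨⟨a, ha⟩ * ⟨h, hh⟩, by rw [map_mul, h0]⟩
  · exact ⟨⟨a, ha⟩ * (⟨h, hh⟩ * ⟨h, hh⟩), by rw [map_mul, map_mul, h0]⟩


theorem exists_invol {P : Subgroup G} (hPc4 : Nat.card P = 4) {h : G} (hhN : h ∈ normalizer (P : Set G))
    (hho : Odd (orderOf h)) (hhn : ∃ p ∈ P, h * p ≠ p * h) :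
    ∃ t ∈ P, ∃ t' ∈ P, t ≠ 1 ∧ t' ≠ 1 ∧ t ≠ t' ∧ t * t = 1 ∧ t' * t' = 1 := by
  classical
  -- two involutions
  obtain ⟨t, htP, htn⟩ := hhn
  obtain ⟨t', ht'⟩ : ∃ t', t' = h * t * h⁻¹ := ⟨_, rfl⟩
  have ht'P : t' ∈ P := by rw [ht']; exact (mem_normalizer_iff.mp hhN t).mp htP
  have htt' : t ≠ t' := by
    intro e
    apply htn
    rw [ht'] at e
    have := e.symm
    rwa [mul_inv_eq_iff_eq_mul] at this
  have ht1 : t ≠ 1 := by
    rintro rfl
    apply htn
    rw [mul_one, one_mul]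
  have ht'1 : t' ≠ 1 := by
    intro e
    apply ht1
    rw [ht'] at e
    have : t = h⁻¹ * (h * t * h⁻¹) * h := by group
    rw [this, e]; group
  have htt : t * t = 1 := by
    by_contra hcon
    have ho : orderOf t = 4 := by
      have h4 : orderOf (⟨t, htP⟩ : P) ∣ 4 := by rw [← hPc4]; exact orderOf_dvd_natCard _
      rw [Subgroup.orderOf_mk] at h4
      have h5 : orderOf t ∣ 2 ^ 2 := h4
      rw [Nat.dvd_prime_pow Nat.prime_two] at h5
      obtain ⟨j, hj, hj'⟩ := h5
      interval_cases j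
      · exact absurd (orderOf_eq_one_iff.mp hj') ht1
      · exfalso
        apply hcon
        have := pow_orderOf_eq_one t
        rw [hj', pow_one, pow_two] at this
        exact this
      · exact hj'
    have hz : zpowers t = P := Subgroup.eq_of_le_of_card_ge (by rw [zpowers_le]; exact htP) (by
      rw [Nat.card_zpowers, ho, hPc4])
    have ho' : orderOf t' = 4 := by
      rw [ht', ← ho]; exact (MulAut.conj h).orderOf_eq t
    have h6 : t' = t⁻¹ := by
      rw [← hz, ← (isOfFinOrder_of_finite t).mem_powers_iff_mem_zpowers] at ht'P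
      obtain ⟨j, hj⟩ := ht'P
      have hj' : t ^ j = t' := hj
      have h7 : t ^ (j % 4) = t' := by rw [← hj', ← ho, pow_mod_orderOf]
      have h8 : j % 4 < 4 := Nat.mod_lt _ (by norm_num)
      have ht4 : t ^ 4 = 1 := by rw [← ho]; exact pow_orderOf_eq_one t
      interval_cases (j % 4)
      · exact absurd h7.symm (by rw [pow_zero]; exact ht'1)
      · exact absurd (by rw [← h7, pow_one]) htt'
      · exfalso
        have h9 : t' ^ 2 = 1 := by rw [← h7, ← pow_mul]; exact ht4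
        have h10 : orderOf t' ∣ 2 := orderOf_dvd_of_pow_eq_one h9
        rw [ho'] at h10
        omega
      · rw [← h7]
        exact eq_inv_of_mul_eq_one_left (by rw [← pow_succ]; exact ht4)
    have h7 : h * t * h⁻¹ = t⁻¹ := by rw [← ht', h6]
    have h8 : (h * h) * t * (h * h)⁻¹ = t := by
      calc (h * h) * t * (h * h)⁻¹ = h * (h * t * h⁻¹) * h⁻¹ := by group
        _ = h * t⁻¹ * h⁻¹ := by rw [h7]
        _ = (h * t * h⁻¹)⁻¹ := by group
        _ = t := by rw [h7, inv_inv]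
    have h9 : Commute (h ^ 2) t := by rw [pow_two]; exact mul_inv_eq_iff_eq_mul.mp h8
    have h10 : Commute h t := by
      obtain ⟨k, hk⟩ := exists_pow_eq_self_of_coprime (x := h) (n := 2) (Nat.coprime_two_left.mpr hho)
      rw [← hk]
      exact h9.pow_left k
    exact htn h10
  have ht't' : t' * t' = 1 := by
    have : t' * t' = h * (t * t) * h⁻¹ := by rw [ht']; group
    rw [this, htt]; group
  exact ⟨t, htP, t', ht'P, ht1, ht'1, htt', htt, ht't'⟩

theorem y2 {S M : Subgroup G} (hS : IsSyl 2 S ⊤) (hSM : S ≤ M) (huniq : ∀ H : Subgroup G, S ≤ H → H ≠ ⊤ → H ≤ M)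
    (hcore : M.normalCore = ⊥) (hS3 : ¬ Involves (Equiv.Perm (Fin 3)) G) {K : Subgroup G} (hKc : IsComponent K)
    {F : Type} [Field F] [Fintype F] {n : ℕ} (hn : 1 ≤ n) (hF : Fintype.card F = 3 ^ (2 * n + 1))
    (e : K ≃* Matrix.ProjectiveSpecialLinearGroup (Fin 2) F) : K ≤ M := by
  classical
  have h2p : Fact (Nat.Prime 2) := ⟨Nat.prime_two⟩
  obtain ⟨hq27, hq8⟩ := arith hn
  obtain ⟨m, hm, hcS⟩ := card_psl (F := F) hn hF
  have hKcard : Nat.card K = 4 * m := by rw [Nat.card_congr e.toEquiv, hcS]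
  -- Sylow subgroup of K
  obtain ⟨S', hS'⟩ := hS.exists_sylow'
  have hSy : ¬ 2 ∣ S.index := by
    have := hS.ndvd
    rwa [relIndex_top_right] at this
  let Sy : Sylow 2 G := hS.pgroup.toSylow hSy
  have hnd : ¬ 2 ∣ (S ⊓ K).relIndex K := Cfsg.Agent.Lib.Subnormal.not_dvd_relIndex_sylow 2 hKc.1 Sy
  have hP : IsSyl 2 (S ⊓ K) K := ⟨inf_le_right, isPGroup_mono hS.pgroup inf_le_left, hnd⟩
  obtain ⟨P, hPdef⟩ : ∃ P, P = S ⊓ K := ⟨_, rfl⟩
  rw [← hPdef] at hP
  have hPc4 : Nat.card P = 4 := by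
    have h4 : Nat.card P * P.relIndex K = Nat.card K := by
      have := relIndex_mul_relIndex (⊥ : Subgroup G) P K bot_le hP.le
      rwa [relIndex_bot_left, relIndex_bot_left] at this
    obtain ⟨k, hk⟩ := IsPGroup.iff_card.mp hP.pgroup
    have h5 : ¬ 2 ∣ P.relIndex K := hP.ndvd
    rw [hKcard, hk] at h4
    have h6 : 2 ^ k ∣ 4 := by
      have h7 : 2 ^ k ∣ 4 * m := ⟨_, h4.symm⟩
      exact (Nat.Coprime.dvd_of_dvd_mul_right ((Nat.coprime_two_left.mpr hm).pow_left k) h7)
    have h8 : 4 ∣ 2 ^ k := by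
      have h7 : 4 ∣ 2 ^ k * P.relIndex K := ⟨m, h4⟩
      have h9 : Nat.Coprime 4 (P.relIndex K) := by
        have : (4 : ℕ) = 2 ^ 2 := rfl
        rw [this]
        exact (((Nat.Prime.coprime_iff_not_dvd Nat.prime_two).mpr h5)).pow_left 2
      exact h9.dvd_of_dvd_mul_right h7
    rw [hk]
    exact Nat.dvd_antisymm h6 h8
  have hPcomm : ∀ x ∈ P, ∀ y ∈ P, x * y = y * x := by
    have h4 : Nat.card P = 2 ^ 2 := hPc4
    have h5 := IsPGroup.isMulCommutative_of_card_eq_prime_sq h4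
    intro x hx y hy
    exact congrArg Subtype.val (h5.1.comm (⟨x, hx⟩ : P) ⟨y, hy⟩)
  have hP1 : P ≠ ⊥ := by
    intro h
    rw [h, Subgroup.card_bot] at hPc4
    omega
  obtain ⟨h, hhX, hhN, hho, hhn⟩ := exists_odd_norm (component_perfect hKc) hP hP1 hPcomm
  obtain ⟨t, htP, t', ht'P, ht1, ht'1, htt', htt, ht't'⟩ := exists_invol hPc4 hhN hho hhn
  have hPS : P ≤ S := by rw [hPdef]; exact inf_le_left
  -- elements of `S` normalizing `K` centralize `P`
  have hcP : ∀ s ∈ S, s ∈ normalizer (K : Set G) → ∀ p ∈ P, s * p = p * s := by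
    intro s hs hsK
    refine four_comm2 hS3 hPc4 hhN hho hhn ?_ ?_
    · rw [hPdef]
      have h1 : zpowers s ≤ normalizer ((S ⊓ K : Subgroup G) : Set G) :=
        le_normalizer_inf (by rw [zpowers_le]; exact le_normalizer hs) (by rw [zpowers_le]; exact hsK)
      exact h1 (mem_zpowers s)
    · obtain ⟨k, hk⟩ := hS.pgroup ⟨s, hs⟩
      exact ⟨k, congrArg Subtype.val hk⟩
  -- centralizers
  have key : ∀ u ∈ P, u ≠ 1 → ∀ x ∈ K, x * u = u * x → x ∈ M := by
    intro u hu hu1 x hx hxu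
    have hcom : ∀ s ∈ S, x * (s * u * s⁻¹) = (s * u * s⁻¹) * x := by
      intro s hs
      rcases component_eq_or_le_centralizer hKc (isComponent_conj s hKc) with h1 | h1
      · have h2 : s ∈ normalizer (K : Set G) := mem_normalizer_of_map_conj_eq h1.symm
        rw [hcP s hs h2 u hu, mul_inv_cancel_right]
        exact hxu
      · have h2 := mem_centralizer_iff.mp (h1 hx) (s * u * s⁻¹) ⟨u, hP.le hu, rfl⟩
        exact h2.symm
    obtain ⟨Z, hZ⟩ : ∃ Z : Subgroup G, Z = closure {y | ∃ s ∈ S, y = s * u * s⁻¹} := ⟨_, rfl⟩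
    have hZS : Z ≤ S := by
      rw [hZ, closure_le]
      rintro _ ⟨s, hs, rfl⟩
      exact mul_mem (mul_mem hs (hPS hu)) (inv_mem hs)
    have huZ : u ∈ Z := by
      rw [hZ]
      exact Subgroup.subset_closure ⟨1, one_mem _, by rw [one_mul, inv_one, mul_one]⟩
    have hSZ : S ≤ normalizer (Z : Set G) := by
      intro s hs
      apply mem_normalizer_of_map_conj_le
      rw [hZ, MonoidHom.map_closure, closure_le]
      rintro _ ⟨_, ⟨r, hr, rfl⟩, rfl⟩
      apply Subgroup.subset_closure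
      refine ⟨s * r, mul_mem hs hr, ?_⟩
      show s * (r * u * r⁻¹) * s⁻¹ = _
      group
    have hxZ : x ∈ normalizer (Z : Set G) := by
      have h1 : x ∈ centralizer (Z : Set G) := by
        have h2 : Z ≤ centralizer ({x} : Set G) := by
          rw [hZ, closure_le]
          rintro _ ⟨s, hs, rfl⟩
          rw [SetLike.mem_coe, mem_centralizer_singleton_iff]
          exact (hcom s hs).symm
        rw [mem_centralizer_iff]
        intro z hz
        exact mem_centralizer_singleton_iff.mp (h2 hz)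
      exact centralizer_le_normalizer' Z h1
    have hne : normalizer (Z : Set G) ≠ ⊤ := by
      intro h1
      have hZn : Z.Normal := normalizer_eq_top_iff.mp h1
      have h2 : Z ≤ M.normalCore := normal_le_normalCore.mpr (hZS.trans hSM)
      rw [hcore] at h2
      exact hu1 (h2 huZ)
    exact huniq _ hSZ hne hxZ
  have hq_odd : Odd (Fintype.card F) := by
    rw [hF]
    exact Odd.pow (by decide)
  have htK := hP.le htP
  have ht'K := hP.le ht'P
  have hcen : ∀ u (hu : u ∈ P), u ≠ 1 → BinPslE.cen (e ⟨u, hP.le hu⟩) ≤ (M.subgroupOf K).map e.toMonoidHom := by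
    intro u hu hu1 y hy
    obtain ⟨x, rfl⟩ := e.surjective y
    rw [BinPslE.mem_cen, ← map_mul, ← map_mul] at hy
    refine ⟨x, ?_, rfl⟩
    have h1 := e.injective hy
    exact key u hu hu1 x x.2 (congrArg Subtype.val h1)
  have hne : ∀ u (hu : u ∈ K), u ≠ 1 → e ⟨u, hu⟩ ≠ 1 := by
    intro u hu hu1 h1
    exact hu1 (congrArg Subtype.val ((map_eq_one_iff e e.injective).mp h1))
  have hsq : ∀ u (hu : u ∈ K), u * u = 1 → e ⟨u, hu⟩ * e ⟨u, hu⟩ = 1 := by
    intro u hu hu1
    rw [← map_mul]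
    have : (⟨u, hu⟩ * ⟨u, hu⟩ : K) = 1 := Subtype.ext hu1
    rw [this, map_one]
  rcases BinPslE.two_cent hq_odd (by rw [hF]; omega) (hne t htK ht1) (hsq t htK htt) (hne t' ht'K ht'1)
    (hsq t' ht'K ht't') (fun h1 => htt' (congrArg Subtype.val (e.injective h1)))
    ((M.subgroupOf K).map e.toMonoidHom) (hcen t htP ht1) (hcen t' ht'P ht'1) with h1 | ⟨-, -, h1⟩
  · intro x hx
    have h2 : e ⟨x, hx⟩ ∈ (M.subgroupOf K).map e.toMonoidHom := by rw [h1]; exact mem_top _
    obtain ⟨y, hy, hy'⟩ := h2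
    have h3 : y = ⟨x, hx⟩ := e.injective hy'
    rw [h3] at hy
    exact hy
  · exfalso
    rw [hF] at h1
    omega

end Cfsg.Agent.Lib.H34FY2
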