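import Cfsg.Agent.Lib.H34FY3
import Cfsg.Agent.Lib.ClSmall
import Cfsg.Agent.Lib.H34FY1
import Cfsg.Agent.Lib.H34FY2

/-!
# The structural lemma (helper34)
-/

set_option autoImplicit false
set_option linter.unusedSectionVars false

namespace Cfsg.Agent.Lib.H34FY

open Subgroup Cfsg Cfsg.Agent.Lib.Components Cfsg.Agent.Lib.Layer Cfsg.Agent.Lib.LocBase Cfsg.Agent.Lib.H34ZQ
open Cfsg.Agent.Lib.SuzukiOvoid Cfsg.Agent.Lib.SuzukiGroup Cfsg.Agent.Lib.SuzukiFin Cfsg.Agent.Lib.H34FY3
  Cfsg.Agent.Lib.H34FY1 Cfsg.Agent.Lib.H34FY2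

universe u
variable {G : Type u} [Group G] [Finite G]

theorem component_not_le {S M : Subgroup G} (hSM : S ≤ M) (huniq : ∀ H : Subgroup G, S ≤ H → H ≠ ⊤ → H ≤ M)
    (hcore : M.normalCore = ⊥) {K : Subgroup G} (hKc : IsComponent K) : ¬ K ≤ M := by
  intro hKM
  have hln : (layer G).Normal := by
    have := layer_characteristic G
    infer_instance
  set L := Subgroup.normalClosure (K : Set G) with hL
  have hLn : L.Normal := Subgroup.normalClosure_normal
  have hLl : L ≤ layer G := Subgroup.normalClosure_le_normal (component_le_layer hKc)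
  have hLM : ¬ L ≤ M := by
    intro h
    have h1 : L ≤ M.normalCore := Subgroup.normal_le_normalCore.mpr h
    rw [hcore, le_bot_iff] at h1
    have h2 : K ≤ ⊥ := h1 ▸ (Subgroup.subset_normalClosure : (K : Set G) ⊆ L)
    exact component_ne_bot hKc (le_bot_iff.mp h2)
  apply hLM
  have hSL : L ⊔ S = ⊤ := by
    by_contra h
    exact hLM (le_sup_left.trans (huniq _ le_sup_right h))
  rw [hL, Subgroup.normalClosure, Subgroup.closure_le]
  intro x hx
  rw [Group.mem_conjugatesOfSet_iff] at hx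
  obtain ⟨k, hk, hkx⟩ := hx
  obtain ⟨g, hg⟩ := isConj_iff.mp hkx
  have hgm : g ∈ L ⊔ S := by rw [hSL]; trivial
  obtain ⟨s, hs, l, hl, rfl⟩ := exists_mul_of_mem_sup_of_le' (A := L) (B := S) (by rw [Subgroup.normalizer_eq_top]; exact le_top) hgm
  have h1 : l * k * l⁻¹ ∈ K := (mem_normalizer_iff.mp (layer_le_normalizer_component hKc (hLl hl)) k).mp hk
  have h2 : x = s * (l * k * l⁻¹) * s⁻¹ := by rw [← hg]; group
  rw [h2]
  exact mul_mem (mul_mem (hSM hs) (hKM h1)) (inv_mem (hSM hs))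

theorem lemY {S M A : Subgroup G} (hS : IsSyl 2 S ⊤) (hSM : S ≤ M) (hM : M ≠ ⊤)
    (huniq : ∀ H : Subgroup G, S ≤ H → H ≠ ⊤ → H ≤ M) (hcore : M.normalCore = ⊥)
    (hS3 : ¬ Involves (Equiv.Perm (Fin 3)) G)
    (hK : IsCompositionKGroupWith IsSuzukiOrPSL2OddPowerThree G) (hAS : A ≤ S) (hA2 : ∀ a ∈ A, a * a = 1)
    (hA1 : A ≠ ⊥) :
    ∃ p k : ℕ, p.Prime ∧ p ≠ 2 ∧ (∀ j, 1 ≤ j → j ≤ 2 * k → ¬ p ∣ 2 ^ j - 1) ∧
      ∃ x : G, x ∉ M ∧ orderOf x = p ∧ (∃ a ∈ A, a * x * a⁻¹ = x⁻¹) ∧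
        Nat.card A ≤ 2 ^ k * Nat.card ↥(A ⊓ centralizer ({x} : Set G)) := by
  classical
  have hFn := fittingSubgroup_normal G
  by_cases hF1 : fittingSubgroup G = ⊥
  swap
  · exact y1 hS hSM hM huniq hcore hS3 hAS hA2 hA1 hF1 isSolvable_fittingSubgroup
  obtain ⟨K, hKc, hnc⟩ : ∃ K : Subgroup G, IsComponent K ∧ ∃ a ∈ A, ∃ x ∈ K, a * x ≠ x * a := by
    by_contra hcon
    push Not at hcon
    have h1 : A ≤ centralizer (generalizedFittingSubgroup G : Set G) := by
      apply le_centralizer_comm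
      apply sup_le
      · apply sSup_le
        intro K hK x hx
        rw [mem_centralizer_iff]
        intro a ha
        exact hcon K hK a ha x hx
      · rw [hF1]; exact bot_le
    have h3 : A ≤ fittingSubgroup G := by
      refine le_trans ?_ center_genFitting_le_fitting
      exact le_inf (h1.trans centralizer_genFitting_le) h1
    rw [hF1] at h3
    exact hA1 (le_bot_iff.mp h3)
  have hKM := component_not_le hSM huniq hcore hKc
  have hs : IsSimpleGroup (↥K ⧸ center K) := hKc.2.2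
  have hcomm : ¬ IsMulCommutative (↥K ⧸ center K) := by
    intro h
    have hperf := hKc.2.1
    have h1 : Group.IsPerfect (↥K ⧸ center K) := Group.IsPerfect.ofSurjective (QuotientGroup.mk'_surjective (center K))
    rw [Group.isPerfect_def] at h1
    have h3 : commutator (↥K ⧸ center K) = ⊥ := by
      rw [commutator_eq_bot_iff_center_eq_top, eq_top_iff]
      intro g _
      rw [Subgroup.mem_center_iff]
      intro k
      exact h.1.comm k g
    obtain ⟨a, b, hab⟩ := hs.exists_pair_ne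
    apply hab
    rw [h3] at h1
    have h5 : a ∈ (⊥ : Subgroup (↥K ⧸ center K)) := h1 ▸ mem_top a
    have h6 : b ∈ (⊥ : Subgroup (↥K ⧸ center K)) := h1 ▸ mem_top b
    rw [mem_bot] at h5 h6
    rw [h5, h6]
  have hZ : center K = ⊥ := by
    have h3 : ((center K).map K.subtype).IsSubnormal := isSubnormal_of_characteristic hKc.1 inferInstance
    have h4 : Group.IsNilpotent ↥((center K).map K.subtype) := by
      apply isNilpotent_of_le_centralizer
      rintro _ ⟨a, ha, rfl⟩
      rw [mem_centralizer_iff]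
      rintro _ ⟨b, hb, rfl⟩
      exact congrArg Subtype.val (mem_center_iff.mp ha b)
    have h5 := subnormal_nilpotent_le_fitting h3 h4
    rw [hF1, le_bot_iff] at h5
    exact (Subgroup.map_eq_bot_iff_of_injective _ K.subtype_injective).mp h5
  obtain ⟨e0⟩ : Nonempty (K ≃* (↥K ⧸ center K)) :=
    ⟨((QuotientGroup.quotientMulEquivOfEq hZ).trans QuotientGroup.quotientBot).symm⟩
  rcases hK K hKc.1 (center K) hs hcomm with hsz | ⟨F, iF, iFt, n, hF, ⟨e⟩⟩
  · rw [SuzukiLie.isoSuzuki_iff] at hsz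
    obtain ⟨F, iF, iFt, m, hm, hF, ⟨e⟩⟩ := hsz
    have hchar : CharP F 2 := charTwo hF
    have e' : K ≃* Gz (th F m) := (e0.trans e).trans (MulEquiv.subgroupCongr (Sz_eq m))
    exact y3 hS hSM hA2 hKc hm hF e' hnc hKM
  · exfalso
    rcases Nat.eq_zero_or_pos n with hn | hn
    · subst hn
      have hF3 : Fintype.card F = 3 := by rw [hF]; norm_num
      obtain ⟨e3⟩ := ClSmall.psl2_three hF3
      apply H34ZMain.not_simple_a4
      exact (e.trans e3).symm.isSimpleGroup
    · exact hKM (y2 hS hSM huniq hcore hS3 hKc hn hF (e0.trans e))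

end Cfsg.Agent.Lib.H34FY
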