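import Cfsg.Agent.Lib.H34FAPa
import Cfsg.Agent.Lib.H34FY
import Cfsg.Agent.Lib.H34FN
import Cfsg.Agent.Lib.H34FT

/-!
# Piece H34-AP: application of the core lemma (helper32)
-/

set_option autoImplicit false
set_option linter.unusedSectionVars false

namespace Cfsg.Agent.Lib.H34FAP

open Subgroup Cfsg Cfsg.Agent.Lib.LocBase Cfsg.Agent.Lib.H34FDef Cfsg.Agent.Lib.H34FB Cfsg.Agent.Lib.H34FX
open Cfsg.Agent.Lib.H34FAPa (card_map_inf_ker)
open scoped commutatorElement

universe u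

section Lift

variable {G : Type*} [Group G] [Finite G]

/-- lifting an element normalising `P` modulo `R` -/
theorem exists_lift {P R S : Subgroup G} [hR : R.Normal] (hPp : IsPGroup 2 P) (hS : IsSyl 2 S ⊤) (hSR : S ⊓ R ≤ P)
    (hPS : P ≤ S) {x : G} (hx : ∀ b ∈ P, x * b * x⁻¹ * b⁻¹ ∈ R) :
    ∃ r ∈ R, r * x ∈ normalizer (P : Set G) := by
  have hfp : Fact (Nat.Prime 2) := ⟨Nat.prime_two⟩
  have hRn : ∀ K : Subgroup G, K ≤ normalizer (R : Set G) := fun K => by rw [normalizer_eq_top]; exact le_top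
  -- `P` is Sylow in `P ⊔ R`
  have hSylR : IsSyl 2 (S ⊓ R) R := hS.inf_normal le_top (hRn ⊤)
  have hSyl : IsSyl 2 P (P ⊔ R) := by
    obtain ⟨T, hT, hPT⟩ := exists_isSyl_ge hPp (le_sup_left : P ≤ P ⊔ R)
    have h1 : S ⊓ R = T ⊓ R := hSylR.eq_of_le (hT.pgroup.to_le inf_le_left) inf_le_right
      (le_inf (hSR.trans hPT) inf_le_right)
    have h2 : T = P := by
      apply le_antisymm _ hPT
      intro t ht
      obtain ⟨q, hq, r, hr, rfl⟩ := (Subgroup.mem_sup_of_normal_right).1 (hT.le ht)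
      have h3 : r ∈ T := by
        have := T.mul_mem (T.inv_mem (hPT hq)) ht
        rwa [inv_mul_cancel_left] at this
      have h4 : r ∈ S ⊓ R := by rw [h1]; exact ⟨h3, hr⟩
      exact P.mul_mem hq (hSR h4)
    rwa [h2] at hT
  have hmap : (P ⊔ R).map (MulAut.conj x).toMonoidHom = P ⊔ R := by
    apply Subgroup.eq_of_le_of_card_ge
    · rw [Subgroup.map_sup]
      apply sup_le
      · rintro _ ⟨b, hb, rfl⟩
        have h1 : x * b * x⁻¹ = (x * b * x⁻¹ * b⁻¹) * b := by group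
        show x * b * x⁻¹ ∈ P ⊔ R
        rw [h1]
        exact mul_mem (mem_sup_right (hx b hb)) (mem_sup_left hb)
      · rintro _ ⟨b, hb, rfl⟩
        exact mem_sup_right (hR.conj_mem b hb x)
    · rw [card_map_conj]
  have hSyl2 : IsSyl 2 (P.map (MulAut.conj x).toMonoidHom) (P ⊔ R) := by
    have := hSyl.map_conj x
    rwa [hmap] at this
  obtain ⟨h, hh, he⟩ := hSyl.conj hSyl2
  rw [← map_conj_mul] at he
  obtain ⟨q, hq, r, hr, rfl⟩ := (Subgroup.mem_sup_of_normal_right).1 hh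
  refine ⟨r, hr, ?_⟩
  have h1 : q * r * x ∈ normalizer (P : Set G) := mem_normalizer_of_map_conj_eq he
  have h2 := mul_mem (inv_mem (le_normalizer hq)) h1
  have h3 : q⁻¹ * (q * r * x) = r * x := by group
  rwa [h3] at h2

end Lift

theorem app {G : Type u} [Group G] [Finite G] (hchar : centralizer (pCore 2 G : Set G) ≤ pCore 2 G)
    (hf : ¬ Involves (Equiv.Perm (Fin 4)) G)
    (hK : IsCompositionKGroupWith IsSuzukiOrPSL2OddPowerThree G) {S V W A : Subgroup G} (hS : IsSyl 2 S ⊤)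
    [hWn : W.Normal] (hWe : IsElementaryAbelian 2 W) (hVW : V ≤ W) (hSV : S ≤ normalizer (V : Set G))
    (hM : normalizer (V : Set G) ≠ ⊤)
    (huniq : ∀ H : Subgroup G, S ≤ H → H ≠ ⊤ → H ≤ normalizer (V : Set G)) (hQ : PP 1 1 S V) (hA : H34FX.InC S W A)
    (hAV : A ≤ centralizer (V : Set G)) (hquad : ∀ w ∈ W, ∀ a ∈ A, a * w * a⁻¹ * w⁻¹ ∈ centralizer (A : Set G))
    (hAO : ¬ A ≤ pCore 2 G) : False := by
  classical
  have hf2 : Fact (Nat.Prime 2) := ⟨Nat.prime_two⟩
  have hOc : (pCore 2 G).Characteristic := Cores.pCore_characteristic 2 G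
  have hOn : (pCore 2 G).Normal := inferInstance
  have hOp : IsPGroup 2 (pCore 2 G) := Cores.isPGroup_pCore 2 G
  set M := normalizer (V : Set G) with hMdef
  set R := M.normalCore with hRdef
  have hRn : R.Normal := inferInstance
  have hRM : R ≤ M := Subgroup.normalCore_le M
  have hCWn : (centralizer (W : Set G)).Normal := inferInstance
  have hCWR : centralizer (W : Set G) ≤ R :=
    Subgroup.normal_le_normalCore.2 ((cz_anti hVW).trans (centralizer_le_normalizer _))
  have hOS : pCore 2 G ≤ S := by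
    have := hS.pCoreOf_le
    rwa [pCoreOf_top] at this
  have hOR : pCore 2 G ≤ R := Subgroup.normal_le_normalCore.2 (hOS.trans hSV)
  have hRnn : ∀ K : Subgroup G, K ≤ normalizer (R : Set G) := fun K => by rw [normalizer_eq_top]; exact le_top
  -- Step 0
  have hSR : S ⊓ R ≤ pCore 2 G := by
    have h1 : IsSyl 2 (S ⊓ R) R := hS.inf_normal le_top (hRnn ⊤)
    have h2 := h1.frattini_sup le_top (hRnn ⊤)
    rw [top_inf_eq] at h2
    have h3 : S ≤ normalizer ((S ⊓ R : Subgroup G) : Set G) := le_normalizer_inf le_normalizer (hRnn S)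
    have h4 : normalizer ((S ⊓ R : Subgroup G) : Set G) = ⊤ := by
      by_contra hne
      apply hM
      rw [eq_top_iff, ← h2]
      exact sup_le hRM (huniq _ h3 hne)
    rw [normalizer_eq_top_iff] at h4
    exact le_sSup ⟨h4, h1.pgroup⟩
  -- Step 1
  set π : G →* G ⧸ R := QuotientGroup.mk' R with hπ
  have hπs : Function.Surjective π := QuotientGroup.mk'_surjective R
  have hπk : π.ker = R := QuotientGroup.ker_mk' R
  have hπ1 : ∀ g : G, π g = 1 ↔ g ∈ R := fun g => by rw [← MonoidHom.mem_ker, hπk]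
  have hMc : (M.map π).comap π = M := by
    rw [Subgroup.comap_map_eq, hπk, sup_eq_left.mpr hRM]
  obtain ⟨p, k, hp, hp2, hno, xq, hxM, hxo, ⟨aq, haq, hainv⟩, hcardA⟩ :=
    H34FY.lemY (G := G ⧸ R) (S := S.map π) (M := M.map π) (A := A.map π) (by
      refine ⟨le_top, hS.pgroup.map π, ?_⟩
      rw [Subgroup.relIndex_top_right]
      intro hd
      apply hS.ndvd
      rw [Subgroup.relIndex_top_right]
      exact hd.trans (Subgroup.index_map_dvd S hπs)) (Subgroup.map_mono hSV) (by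
      intro h
      apply hM
      rw [← hMc, h, Subgroup.comap_top]) (by
      intro H hSH hH
      have h1 : S ≤ H.comap π := Subgroup.map_le_iff_le_comap.1 hSH
      have h2 : H.comap π ≠ ⊤ := by
        intro h
        apply hH
        rw [← Subgroup.map_comap_eq_self_of_surjective hπs H, h, Subgroup.map_top_of_surjective π hπs]
      rw [← Subgroup.map_comap_eq_self_of_surjective hπs H]
      exact Subgroup.map_mono (huniq _ h1 h2)) (by
      rw [eq_bot_iff, ← Subgroup.map_comap_eq_self_of_surjective hπs ((M.map π).normalCore)]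
      rw [Subgroup.map_le_iff_le_comap]
      have h1 : ((M.map π).normalCore.comap π) ≤ R := by
        apply Subgroup.normal_le_normalCore.2
        exact (Subgroup.comap_mono (Subgroup.normalCore_le (M.map π))).trans hMc.le
      intro x hx
      rw [mem_comap, mem_bot, hπ1]
      exact h1 hx) (by
      intro h
      have h1 := H34FN.s3free_core hf hchar
      apply h1
      refine H34FT.involves_of_involves_surj (QuotientGroup.map (pCore 2 G) R (MonoidHom.id G) hOR) ?_ h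
      intro y
      obtain ⟨g, rfl⟩ := QuotientGroup.mk'_surjective R y
      exact ⟨QuotientGroup.mk' _ g, rfl⟩) (H34FT.compK_quot R hK) (Subgroup.map_mono hA.b.le) (by
      rintro _ ⟨a, ha, rfl⟩
      rw [← map_mul, hπ1]
      exact hCWR (hA.b.sq a ha)) (by
      intro h
      apply hAO
      have h1 : A ≤ R := by
        rw [← hπk]; exact (Subgroup.map_eq_bot_iff A).1 h
      exact (le_inf hA.b.le h1).trans hSR)
  obtain ⟨a, haA, rfl⟩ := haq
  obtain ⟨x0, rfl⟩ := hπs xq
  have haa : π a * π a = 1 := by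
    rw [← map_mul, hπ1]; exact hCWR (hA.b.sq a haA)
  -- the centralizer part of `A`
  set Ac : Subgroup G := A ⊓ (centralizer ({π x0} : Set (G ⧸ R))).comap π with hAc
  have hAcm : ∀ b, b ∈ Ac ↔ b ∈ A ∧ π b * π x0 = π x0 * π b := by
    intro b
    rw [hAc, mem_inf, mem_comap, mem_centralizer_singleton_iff]
  have hAcA : Ac ≤ A := inf_le_left
  have hcardAc : Nat.card A ≤ 2 ^ k * Nat.card Ac := by
    have h1 := card_map_inf_ker π A
    have h2 := card_map_inf_ker π Ac
    have h3 : Ac ⊓ π.ker = A ⊓ π.ker := by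
      apply le_antisymm (inf_le_inf_right _ inf_le_left)
      intro b hb
      refine ⟨(hAcm b).2 ⟨hb.1, ?_⟩, hb.2⟩
      have h4 : π b = 1 := hb.2
      rw [h4, one_mul, mul_one]
    have h4 : Ac.map π = A.map π ⊓ centralizer ({π x0} : Set (G ⧸ R)) := by
      ext y
      constructor
      · rintro ⟨b, hb, rfl⟩
        exact ⟨⟨b, hb.1, rfl⟩, hb.2⟩
      · rintro ⟨⟨b, hb, rfl⟩, hy⟩
        exact ⟨b, ⟨hb, hy⟩, rfl⟩
    rw [h3, h4] at h2
    rw [← h1, ← h2, ← mul_assoc]
    exact Nat.mul_le_mul_right _ hcardA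
  -- Step 2
  set P : Subgroup G := Ac ⊔ pCore 2 G with hPdef
  have hAcS : Ac ≤ S := hAcA.trans hA.b.le
  have hPS : P ≤ S := sup_le hAcS hOS
  have hPp : IsPGroup 2 P := hS.pgroup.to_le hPS
  have hPV : P ≤ normalizer (V : Set G) := hPS.trans hSV
  obtain ⟨r, hr, hyP⟩ := exists_lift (x := x0) hPp hS (hSR.trans le_sup_right) hPS (by
    intro b hb
    obtain ⟨c, hc, o, ho, rfl⟩ := (Subgroup.mem_sup_of_normal_right).1 hb
    rw [← hπ1]
    have h1 : π o = 1 := (hπ1 o).2 (hOR ho)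
    have h2 := ((hAcm c).1 hc).2
    rw [map_mul, map_mul, map_mul, map_mul, map_inv, map_inv, map_mul, h1, mul_one, ← h2]
    group)
  set y := r * x0 with hydef
  have hπy : π y = π x0 := by rw [hydef, map_mul, (hπ1 r).2 hr, one_mul]
  have hAcn : ∀ c ∈ A, ∀ b ∈ Ac, c * b * c⁻¹ ∈ Ac := by
    intro c hc b hb
    have hb' := (hAcm b).1 hb
    rw [hAcm]
    refine ⟨A.mul_mem (A.mul_mem hc hb'.1) (A.inv_mem hc), ?_⟩
    have h1 : π (c * b * c⁻¹) = π b := by
      have h2 : c * b * c⁻¹ = (c * b * c⁻¹ * b⁻¹) * b := by group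
      rw [h2, map_mul, (hπ1 _).2 (hCWR (hA.b.comm hc hb'.1)), one_mul]
    rw [h1]; exact hb'.2
  have haP' : ∀ c ∈ A, ∀ b ∈ P, c * b * c⁻¹ ∈ P := by
    intro c hc b hb
    obtain ⟨d, hd, o, ho, rfl⟩ := (Subgroup.mem_sup_of_normal_right).1 hb
    have h1 : c * (d * o) * c⁻¹ = (c * d * c⁻¹) * (c * o * c⁻¹) := by group
    rw [h1]
    exact mul_mem (mem_sup_left (hAcn c hc d hd)) (mem_sup_right (hOn.conj_mem o ho c))
  have haP : a ∈ normalizer (P : Set G) := by
    rw [mem_normalizer_iff]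
    intro b
    refine ⟨haP' a haA b, ?_⟩
    intro hb
    have h1 := haP' a⁻¹ (A.inv_mem haA) _ hb
    have h2 : a⁻¹ * (a * b * a⁻¹) * a⁻¹⁻¹ = b := by group
    rwa [h2] at h1
  -- Step 3
  set w := a * (y⁻¹ * a * y) with hw
  have hwP : w ∈ normalizer (P : Set G) := mul_mem haP (mul_mem (mul_mem (inv_mem hyP) haP) hyP)
  have hπw : π w = π x0 ^ 2 := by
    have h1 : π a * (π x0)⁻¹ * π a = π x0 := by
      have h2 := congrArg (fun t => t⁻¹) hainv
      simp only [mul_inv_rev, inv_inv] at h2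
      have h3 : (π a)⁻¹ = π a := inv_eq_of_mul_eq_one_right haa
      rw [h3, ← mul_assoc] at h2
      exact h2
    rw [hw, map_mul, map_mul, map_mul, map_inv, hπy, pow_two]
    calc π a * ((π x0)⁻¹ * π a * π x0) = (π a * (π x0)⁻¹ * π a) * π x0 := by group
      _ = _ := by rw [h1]
  have hww : a * w * a⁻¹ * w ∈ centralizer (W : Set G) := by
    have h1 : a * w * a⁻¹ * w = (a * a) * (y⁻¹ * (a * a) * y⁻¹⁻¹) := by rw [hw]; group
    rw [h1]
    exact mul_mem (hA.b.sq a haA) (hCWn.conj_mem _ (hA.b.sq a haA) y⁻¹)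
  obtain ⟨e, m, hpm, hem⟩ : ∃ e m : ℕ, ¬ p ∣ m ∧ orderOf w = p ^ e * m := by
    obtain ⟨e, m, h1, h2⟩ := Nat.exists_eq_pow_mul_and_not_dvd (orderOf_pos w).ne' p hp.ne_one
    exact ⟨e, m, h1, h2⟩
  set z := w ^ m with hz
  have hzo : z ^ p ^ e = 1 := by
    rw [hz, ← pow_mul, mul_comm, ← hem, pow_orderOf_eq_one]
  have hzP : z ∈ normalizer (P : Set G) := pow_mem hwP m
  have hπz : π z = π x0 ^ (2 * m) := by rw [hz, map_pow, hπw, pow_mul]
  have hzM : z ∉ M := by
    intro hzM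
    apply hxM
    have h1 : π z ∈ M.map π := ⟨z, hzM, rfl⟩
    have h2 : Nat.Coprime (2 * m) (orderOf (π x0)) := by
      rw [hxo]
      apply Nat.Coprime.mul_left
      · exact (Nat.coprime_primes Nat.prime_two hp).2 hp2.symm
      · exact ((Nat.Prime.coprime_iff_not_dvd hp).2 hpm).symm
    obtain ⟨j, hj⟩ := exists_pow_eq_self_of_coprime h2
    rw [← hj, ← hπz]
    exact pow_mem h1 j
  have hzp : z ^ p ∈ M := by
    apply hRM
    rw [← hπ1, map_pow, hπz, ← pow_mul, mul_comm, pow_mul, ← hxo, pow_orderOf_eq_one, one_pow]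
  have hzinv : a * z * a⁻¹ * z ∈ centralizer (W : Set G) := by
    have h1 : ∀ i : ℕ, a * w ^ i * a⁻¹ * w ^ i ∈ centralizer (W : Set G) := by
      intro i
      induction i with
      | zero =>
        have : a * w ^ 0 * a⁻¹ * w ^ 0 = 1 := by rw [pow_zero]; group
        rw [this]; exact one_mem _
      | succ i ih =>
        have h1 : a * w ^ (i + 1) * a⁻¹ * w ^ (i + 1) =
            (a * w ^ i * a⁻¹ * w ^ i) * ((w ^ i)⁻¹ * (a * w * a⁻¹ * w) * (w ^ i)⁻¹⁻¹) := by
          calc a * w ^ (i + 1) * a⁻¹ * w ^ (i + 1) = a * (w ^ i * w) * a⁻¹ * (w * w ^ i) := by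
                rw [← pow_succ, ← pow_succ']
            _ = _ := by group
        rw [h1]
        exact mul_mem ih (hCWn.conj_mem _ hww _)
    exact h1 m
  -- Step 4
  refine H34FAPa.step4 (P := P) (Ac := Ac) (W := W) (V := V) (z := z) (a := a) (p := p) (k := k) hWn hWe hVW hPV hPp
    (PP.mono hQ hPS) hzP haP hp hp2 ⟨e, hzo⟩ hzM hzp (hAV haA) (hA.b.sq a haA) hzinv le_sup_left (hAcA.trans hAV)
    (fun x hx => hA.b.sq x (hAcA hx)) (fun x hx => hA.b.comm (hAcA hx) haA)
    (fun w hw => cz_anti hAcA (hquad w hw a haA)) ?_ hno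
  intro U hU
  set B := Ac ⊓ centralizer (U : Set G) with hB
  have hBI : InB S W B := by
    refine hA.b.of_le ?_ (inf_le_left.trans hAcA)
    intro s hs
    refine ⟨(hAcm s).2 ⟨hA.b.ge hs, ?_⟩, cz_anti hU hs.2⟩
    have h1 : π s = 1 := (hπ1 s).2 (hCWR hs.2)
    rw [h1, one_mul, mul_one]
  have h1 := hA.max B hBI
  have h2 := card_mul_le (A := U) (B := W ⊓ centralizer (A : Set G)) (V := W ⊓ centralizer (B : Set G))
    (le_inf hU (Subgroup.le_centralizer_iff.mp inf_le_right)) (inf_le_inf_left W (cz_anti (inf_le_left.trans hAcA)))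
  have h3 : U ⊓ (W ⊓ centralizer (A : Set G)) ≤ U ⊓ centralizer ({a} : Set G) := by
    apply inf_le_inf_left
    refine inf_le_right.trans ?_
    apply centralizer_le
    intro x hx
    rw [Set.mem_singleton_iff] at hx
    rw [hx]; exact haA
  have h4 : Nat.card ↥(U ⊓ (W ⊓ centralizer (A : Set G))) ≤ Nat.card ↥(U ⊓ centralizer ({a} : Set G)) :=
    Subgroup.card_le_of_le h3
  have h5 : 0 < Nat.card ↥(W ⊓ centralizer (A : Set G)) := Nat.card_pos
  unfold mm at h1
  refine Nat.le_of_mul_le_mul_right ?_ h5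
  calc Nat.card B * Nat.card U * Nat.card ↥(W ⊓ centralizer (A : Set G))
      = Nat.card B * (Nat.card U * Nat.card ↥(W ⊓ centralizer (A : Set G))) := by ring
    _ ≤ Nat.card B * (Nat.card ↥(W ⊓ centralizer (B : Set G)) * Nat.card ↥(U ⊓ (W ⊓ centralizer (A : Set G)))) :=
        Nat.mul_le_mul_left _ h2
    _ = (Nat.card B * Nat.card ↥(W ⊓ centralizer (B : Set G))) * Nat.card ↥(U ⊓ (W ⊓ centralizer (A : Set G))) := by
        ring
    _ ≤ (Nat.card A * Nat.card ↥(W ⊓ centralizer (A : Set G))) * Nat.card ↥(U ⊓ centralizer ({a} : Set G)) :=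
        Nat.mul_le_mul h1 h4
    _ ≤ (2 ^ k * Nat.card Ac * Nat.card ↥(W ⊓ centralizer (A : Set G))) * Nat.card ↥(U ⊓ centralizer ({a} : Set G)) := by
        gcongr
    _ = _ := by ring

end Cfsg.Agent.Lib.H34FAP
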