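import Cfsg.Agent.Lib.H34FX
import Cfsg.Agent.Lib.H34FC

/-!
# Piece H34-AP, part a: application of the core lemma inside a group
-/

set_option autoImplicit false
set_option linter.unusedSectionVars false

namespace Cfsg.Agent.Lib.H34FAPa

open Subgroup Cfsg Cfsg.Agent.Lib.H34SolvOff Cfsg.Agent.Lib.H34FDef Cfsg.Agent.Lib.H34FB
open Cfsg.Agent.Lib.H34ZOff (conjAct conjAct_apply)
open scoped commutatorElement

variable {G : Type*} [Group G] [Finite G]

theorem card_map_inf_ker {H : Type*} [Group H] (f : G →* H) (X : Subgroup G) :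
    Nat.card (X.map f) * Nat.card ↥(X ⊓ f.ker) = Nat.card X := by
  have h1 : Nat.card ↥(X ⊓ f.ker) * (X ⊓ f.ker).relIndex X = Nat.card X := by
    have := Subgroup.relIndex_mul_relIndex (⊥ : Subgroup G) (X ⊓ f.ker) X bot_le inf_le_left
    rwa [Subgroup.relIndex_bot_left, Subgroup.relIndex_bot_left] at this
  rw [Subgroup.inf_relIndex_left, Subgroup.relIndex_ker] at h1
  rw [mul_comm]; exact h1

theorem mem_normalizer_map {H : Type*} [Group H] (f : G →* H) {X : Subgroup G} {g : G}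
    (hg : g ∈ normalizer (X : Set G)) : f g ∈ normalizer (X.map f : Set H) := by
  rw [mem_normalizer_iff]
  intro h
  constructor
  · rintro ⟨x, hx, rfl⟩
    exact ⟨g * x * g⁻¹, (mem_normalizer_iff.1 hg x).1 hx, by simp⟩
  · rintro ⟨x, hx, hxe⟩
    refine ⟨g⁻¹ * x * g, ?_, ?_⟩
    · have := (mem_normalizer_iff.1 (inv_mem hg) x).1 hx
      rwa [inv_inv] at this
    · rw [map_mul, map_mul, hxe, map_inv]; group

/-- the application of `H34FC.core` -/
theorem step4 {P Ac W V : Subgroup G} {z a : G} {p k : ℕ} (hWn : W.Normal)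
    (hWe : IsElementaryAbelian 2 W) (hVW : V ≤ W) (hPV : P ≤ normalizer (V : Set G)) (hP : IsPGroup 2 P)
    (hQ : PP 1 1 P V) (hzP : z ∈ normalizer (P : Set G)) (haP : a ∈ normalizer (P : Set G)) (hp : p.Prime)
    (hp2 : p ≠ 2) (hz : ∃ e, z ^ p ^ e = 1) (hzV : z ∉ normalizer (V : Set G))
    (hzp : z ^ p ∈ normalizer (V : Set G)) (haV : a ∈ centralizer (V : Set G))
    (ha : a * a ∈ centralizer (W : Set G)) (hinv : a * z * a⁻¹ * z ∈ centralizer (W : Set G)) (hAP : Ac ≤ P)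
    (hAV : Ac ≤ centralizer (V : Set G)) (hA2 : ∀ x ∈ Ac, x * x ∈ centralizer (W : Set G))
    (hAa : ∀ x ∈ Ac, x * a * x⁻¹ * a⁻¹ ∈ centralizer (W : Set G))
    (hquad : ∀ w ∈ W, a * w * a⁻¹ * w⁻¹ ∈ centralizer (Ac : Set G))
    (hcard : ∀ U : Subgroup G, U ≤ W → Nat.card ↥(Ac ⊓ centralizer (U : Set G)) * Nat.card U ≤
      2 ^ k * Nat.card Ac * Nat.card ↥(U ⊓ centralizer ({a} : Set G)))
    (hno : ∀ j, 1 ≤ j → j ≤ 2 * k → ¬ p ∣ 2 ^ j - 1) : False := by
  classical
  have hWcomm : ∀ u ∈ W, ∀ v ∈ W, u * v = v * u := fun u hu v hv =>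
    isMulCommutative_iff_of_setLike.mp hWe.1 u hu v hv
  have hW2 : ∀ w ∈ W, w * w = 1 := fun w hw => by
    have := hWe.2 w hw
    rwa [pow_two] at this
  -- the group `U`
  set U : Subgroup G := ⨆ i : ℕ, V.map (MulAut.conj (z ^ i)).toMonoidHom with hU
  have hVi : ∀ i : ℕ, V.map (MulAut.conj (z ^ i)).toMonoidHom ≤ U := fun i => le_iSup (fun i : ℕ =>
    V.map (MulAut.conj (z ^ i)).toMonoidHom) i
  have hVU : V ≤ U := by
    have h1 := hVi 0
    rwa [pow_zero, map_one, show ((1 : MulAut G).toMonoidHom) = MonoidHom.id G from rfl, Subgroup.map_id] at h1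
  have hUW : U ≤ W := by
    apply iSup_le
    rintro i _ ⟨v, hv, rfl⟩
    exact hWn.conj_mem v (hVW hv) (z ^ i)
  have hmemi : ∀ (i : ℕ) (v : G), v ∈ V → z ^ i * v * (z ^ i)⁻¹ ∈ U := fun i v hv => hVi i ⟨v, hv, rfl⟩
  -- all powers of `z`
  have hpow : ∀ g ∈ zpowers z, ∃ i : ℕ, g = z ^ i := by
    intro g hg
    rw [← mem_powers_iff_mem_zpowers] at hg
    obtain ⟨i, hi⟩ := hg
    exact ⟨i, hi.symm⟩
  -- stability under `g`
  have hstab : ∀ g : G, (∀ i : ℕ, ∀ v ∈ V, g * (z ^ i * v * (z ^ i)⁻¹) * g⁻¹ ∈ U) → g ∈ normalizer (U : Set G) := by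
    intro g hg
    have h1 : U.map (MulAut.conj g).toMonoidHom ≤ U := by
      rw [hU, Subgroup.map_iSup]
      apply iSup_le
      rintro i _ ⟨_, ⟨v, hv, rfl⟩, rfl⟩
      exact hg i v hv
    apply LocBase.mem_normalizer_of_map_conj_eq
    apply Subgroup.eq_of_le_of_card_ge h1
    rw [LocBase.card_map_conj]
  have hzU : z ∈ normalizer (U : Set G) := by
    apply hstab
    intro i v hv
    have h1 : z * (z ^ i * v * (z ^ i)⁻¹) * z⁻¹ = z ^ (i + 1) * v * (z ^ (i + 1))⁻¹ := by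
      rw [pow_succ']; group
    rw [h1]; exact hmemi _ v hv
  have hziP : ∀ i : ℕ, ∀ g ∈ P, (z ^ i)⁻¹ * g * z ^ i ∈ P := by
    intro i g hg
    have h1 := (mem_normalizer_iff.1 (inv_mem (pow_mem hzP i)) g).1 hg
    rwa [inv_inv] at h1
  have hPU : P ≤ normalizer (U : Set G) := by
    intro g hg
    apply hstab
    intro i v hv
    have h2 := hPV (hziP i g hg)
    have h3 := (mem_normalizer_iff.1 h2 v).1 hv
    have h4 : g * (z ^ i * v * (z ^ i)⁻¹) * g⁻¹ =
        z ^ i * (((z ^ i)⁻¹ * g * z ^ i) * v * ((z ^ i)⁻¹ * g * z ^ i)⁻¹) * (z ^ i)⁻¹ := by group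
    rw [h4]; exact hmemi _ _ h3
  have hfixW : ∀ c ∈ centralizer (W : Set G), ∀ v ∈ W, c * v * c⁻¹ = v := by
    intro c hc v hv
    rw [← mem_centralizer_iff.mp hc v hv, mul_inv_cancel_right]
  have haV' : ∀ v ∈ V, a * v * a⁻¹ = v := by
    intro v hv
    rw [← mem_centralizer_iff.mp haV v hv, mul_inv_cancel_right]
  -- `a zⁱ a⁻¹ zⁱ ∈ C(W)`
  have hCn : (centralizer (W : Set G)).Normal := inferInstance
  have hazi : ∀ i : ℕ, a * z ^ i * a⁻¹ * z ^ i ∈ centralizer (W : Set G) := by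
    intro i
    induction i with
    | zero =>
      have : a * z ^ 0 * a⁻¹ * z ^ 0 = 1 := by rw [pow_zero]; group
      rw [this]; exact one_mem _
    | succ i ih =>
      have h1 : a * z ^ (i + 1) * a⁻¹ * z ^ (i + 1) =
          (a * z ^ i * a⁻¹ * z ^ i) * ((z ^ i)⁻¹ * (a * z * a⁻¹ * z) * (z ^ i)⁻¹⁻¹) := by
        calc a * z ^ (i + 1) * a⁻¹ * z ^ (i + 1) = a * (z ^ i * z) * a⁻¹ * (z * z ^ i) := by
              rw [← pow_succ, ← pow_succ']
          _ = _ := by group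
      rw [h1]
      exact mul_mem ih (hCn.conj_mem _ hinv _)
  have hazv : ∀ i : ℕ, ∀ v ∈ V, a * (z ^ i * v * (z ^ i)⁻¹) * a⁻¹ = (z ^ i)⁻¹ * v * z ^ i := by
    intro i v hv
    have h1 := hfixW _ (hazi i) ((z ^ i)⁻¹ * v * (z ^ i)⁻¹⁻¹) (hWn.conj_mem v (hVW hv) (z ^ i)⁻¹)
    have h2 := haV' v hv
    calc a * (z ^ i * v * (z ^ i)⁻¹) * a⁻¹ = (a * z ^ i * a⁻¹) * (a * v * a⁻¹) * (a * z ^ i * a⁻¹)⁻¹ := by group
      _ = (a * z ^ i * a⁻¹) * v * (a * z ^ i * a⁻¹)⁻¹ := by rw [h2]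
      _ = (a * z ^ i * a⁻¹ * z ^ i) * ((z ^ i)⁻¹ * v * (z ^ i)⁻¹⁻¹) * (a * z ^ i * a⁻¹ * z ^ i)⁻¹ := by group
      _ = (z ^ i)⁻¹ * v * (z ^ i)⁻¹⁻¹ := h1
      _ = _ := by rw [inv_inv]
  have haU : a ∈ normalizer (U : Set G) := by
    apply hstab
    intro i v hv
    rw [hazv i v hv]
    obtain ⟨j, hj⟩ := hpow (z ^ i)⁻¹ (inv_mem (Subgroup.npow_mem_zpowers z i))
    have h1 : (z ^ i)⁻¹ * v * z ^ i = z ^ j * v * (z ^ j)⁻¹ := by rw [← hj, inv_inv]
    rw [h1]; exact hmemi j v hv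
  -- the action on `U`
  set N := normalizer (U : Set G) with hN
  set α : N →* MulAut U := conjAct (le_refl N) with hα
  have hαa : ∀ (g : N) (v : U), ((α g v : U) : G) = g * v * (g : G)⁻¹ := fun g v => conjAct_apply _ g v
  have hUcomm : ∀ u v : U, u * v = v * u := fun u v => Subtype.ext (hWcomm u (hUW u.2) v (hUW v.2))
  have hUexp : ∀ u : U, u * u = 1 := fun u => Subtype.ext (hW2 u (hUW u.2))
  -- two elements act in the same way
  have hker : ∀ g : N, (g : G) ∈ centralizer (U : Set G) ↔ α g = 1 := by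
    intro g
    constructor
    · intro hg
      ext v
      rw [hαa, ← mem_centralizer_iff.mp hg v v.2, mul_inv_cancel_right]; rfl
    · intro hg
      rw [mem_centralizer_iff]
      intro v hv
      have h1 := hαa g ⟨v, hv⟩
      rw [hg] at h1
      exact (mul_inv_eq_iff_eq_mul.mp h1.symm).symm
  have hCWU : centralizer (W : Set G) ≤ centralizer (U : Set G) := cz_anti hUW
  let zN : N := ⟨z, hzU⟩
  let aN : N := ⟨a, haU⟩
  have htr : ∀ g : N, ((V.subgroupOf U).map (α g).toMonoidHom).map U.subtype =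
      V.map (MulAut.conj (g : G)).toMonoidHom := by
    intro g
    ext x
    constructor
    · rintro ⟨_, ⟨v, hv, rfl⟩, rfl⟩
      exact ⟨(v : G), hv, (hαa g v).symm⟩
    · rintro ⟨v, hv, rfl⟩
      exact ⟨α g ⟨v, hVU hv⟩, ⟨⟨v, hVU hv⟩, hv, rfl⟩, hαa g ⟨v, hVU hv⟩⟩
  have hVV : (V.subgroupOf U).map U.subtype = V := Subgroup.map_subgroupOf_eq_of_le hVU
  set P' := (P.subgroupOf N).map α with hP'
  set A' := (Ac.subgroupOf N).map α with hA'
  set V' := V.subgroupOf U with hV'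
  let _ : CommGroup U := { (inferInstance : Group U) with mul_comm := hUcomm }
  refine H34FC.core (W := U) hUexp (P := P') (A := A') (z := α zN) (a := α aN) (p := p) (c := 2 ^ k) (V := V')
    ?_ hp hp2 ?_ ?_ ?_ ?_ ?_ ?_ ?_ ?_ ?_ ?_ ?_ ?_ ?_ ?_ ?_ ?_ ?_ ?_
  · exact (hP.comap_subtype (K := N)).map α
  · obtain ⟨e, he⟩ := hz
    refine ⟨e, ?_⟩
    rw [← map_pow]
    have : zN ^ p ^ e = 1 := Subtype.ext he
    rw [this, map_one]
  · rw [← map_mul, ← hker]
    exact hCWU ha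
  · rw [← mul_eq_one_iff_eq_inv, ← map_inv, ← map_mul, ← map_mul, ← map_mul, ← hker]
    exact hCWU hinv
  · apply mem_normalizer_map
    rw [mem_normalizer_iff]
    intro g
    rw [mem_subgroupOf, mem_subgroupOf]
    exact mem_normalizer_iff.1 haP g
  · apply mem_normalizer_map
    rw [mem_normalizer_iff]
    intro g
    rw [mem_subgroupOf, mem_subgroupOf]
    exact mem_normalizer_iff.1 hzP g
  · rintro _ ⟨g, hg, rfl⟩ v hv
    have hg' : (g : G) ∈ P := hg
    have hv' : (v : G) ∈ V := hv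
    show ((α g v : U) : G) ∈ V
    rw [hαa]
    exact (mem_normalizer_iff.1 (hPV hg') v).1 hv'
  · intro v hv
    have hv' : (v : G) ∈ V := hv
    apply Subtype.ext
    rw [hαa]
    exact haV' v hv'
  · -- generation
    apply Subgroup.map_injective U.subtype_injective
    rw [Subgroup.map_iSup]
    have h1 : (⊤ : Subgroup U).map U.subtype = U := by
      rw [← MonoidHom.range_eq_map, Subgroup.range_subtype]
    rw [h1]
    conv_rhs => rw [hU]
    congr 1
    funext i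
    rw [← map_pow, htr]
    rfl
  · apply Subgroup.map_injective U.subtype_injective
    rw [← map_pow, htr, hVV]
    exact LocBase.map_conj_eq_of_mem hzp
  · intro h
    apply hzV
    have h1 := congrArg (fun X : Subgroup U => X.map U.subtype) h
    have h2 : ((V.subgroupOf U).map (α zN).toMonoidHom).map U.subtype = (V.subgroupOf U).map U.subtype := h1
    rw [htr, hVV] at h2
    have h1 := h2
    exact LocBase.mem_normalizer_of_map_conj_eq h1
  · exact Subgroup.map_mono (fun g hg => hAP hg)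
  · rintro _ ⟨g, hg, rfl⟩ v hv
    have hg' : (g : G) ∈ Ac := hg
    have hv' : (v : G) ∈ V := hv
    apply Subtype.ext
    rw [hαa, ← mem_centralizer_iff.mp (hAV hg') v hv', mul_inv_cancel_right]
  · rintro _ ⟨g, hg, rfl⟩
    rw [← map_mul, ← hker]
    exact hCWU (hA2 g hg)
  · rintro _ ⟨g, hg, rfl⟩
    rw [← mul_inv_eq_iff_eq_mul, ← mul_inv_eq_one, ← map_inv, ← map_inv, ← map_mul, ← map_mul, ← map_mul, ← hker]
    have h1 : ((g * aN * g⁻¹ * aN⁻¹ : N) : G) ∈ centralizer (U : Set G) := hCWU (hAa g hg)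
    exact h1
  · rintro _ ⟨g, hg, rfl⟩ w
    have hg' : (g : G) ∈ Ac := hg
    apply Subtype.ext
    rw [hαa]
    have h1 : ((α aN w * w⁻¹ : U) : G) = a * w * a⁻¹ * (w : G)⁻¹ := by
      rw [Subgroup.coe_mul, hαa]; rfl
    rw [h1]
    have h2 := hquad w (hUW w.2)
    rw [mem_centralizer_iff.mp h2 g hg', mul_inv_cancel_right]
  · -- cardinality
    have h1 := hcard U hUW
    have h2 := card_map_inf_ker α (Ac.subgroupOf N)
    have hAcN : Ac ≤ N := hAP.trans hPU
    have h3 : Nat.card (Ac.subgroupOf N) = Nat.card Ac := Nat.card_congr (Subgroup.subgroupOfEquivOfLe hAcN).toEquiv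
    have h4 : Nat.card ↥(Ac.subgroupOf N ⊓ α.ker) = Nat.card ↥(Ac ⊓ centralizer (U : Set G)) := by
      have e : Ac.subgroupOf N ⊓ α.ker = (Ac ⊓ centralizer (U : Set G)).subgroupOf N := by
        ext g
        rw [mem_inf, mem_subgroupOf, mem_subgroupOf, mem_inf, MonoidHom.mem_ker, ← hker]
      rw [e]
      exact Nat.card_congr (Subgroup.subgroupOfEquivOfLe (inf_le_left.trans hAcN)).toEquiv
    have h5 : Nat.card ↥(U ⊓ centralizer ({a} : Set G)) ≤ Nat.card (fixSub (zpowers (α aN))) := by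
      refine Nat.card_le_card_of_injective (fun v : ↥(U ⊓ centralizer ({a} : Set G)) =>
        (⟨⟨v, v.2.1⟩, ?_⟩ : fixSub (zpowers (α aN)))) ?_
      · rw [H34FC.mem_fix_zpowers]
        apply Subtype.ext
        rw [hαa]
        have hv : (v : G) ∈ centralizer ({a} : Set G) := v.2.2
        rw [mem_centralizer_singleton_iff] at hv
        show a * (v : G) * a⁻¹ = v
        rw [← hv, mul_inv_cancel_right]
      · intro v w h
        have h1 : (⟨v, v.2.1⟩ : U) = ⟨w, w.2.1⟩ := congrArg (fixSub (zpowers (α aN))).subtype h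
        have h2 : (v : G) = w := congrArg U.subtype h1
        exact Subtype.ext h2
    rw [h4, h3] at h2
    have h6 : 0 < Nat.card ↥(Ac ⊓ centralizer (U : Set G)) := Nat.card_pos
    refine Nat.le_of_mul_le_mul_left ?_ h6
    calc Nat.card ↥(Ac ⊓ centralizer (U : Set G)) * Nat.card U
        ≤ 2 ^ k * Nat.card Ac * Nat.card ↥(U ⊓ centralizer ({a} : Set G)) := h1
      _ ≤ 2 ^ k * Nat.card Ac * Nat.card (fixSub (zpowers (α aN))) := Nat.mul_le_mul_left _ h5
      _ = 2 ^ k * (Nat.card A' * Nat.card ↥(Ac ⊓ centralizer (U : Set G))) * Nat.card (fixSub (zpowers (α aN))) := by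
          rw [h2]
      _ = _ := by ring
  · -- the offender inequality
    intro R hR hcomm hsq hne
    set R₁ : Subgroup N := R.comap α ⊓ P.subgroupOf N with hR₁
    have hR₁m : R₁.map α = R := by
      apply le_antisymm
      · rintro _ ⟨g, hg, rfl⟩
        exact hg.1
      · intro r hr
        obtain ⟨g, hg, rfl⟩ := hR hr
        exact ⟨g, ⟨hr, hg⟩, rfl⟩
    set R₂ : Subgroup G := R₁.map N.subtype with hR₂
    have hR₂P : R₂ ≤ P := by
      rintro _ ⟨g, hg, rfl⟩
      exact hg.2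
    have hact : ∀ g : N, ∀ v : G, ∀ hv : v ∈ V, ((α g ⟨v, hVU hv⟩ : U) : G) = g * v * (g : G)⁻¹ :=
      fun g v hv => hαa g ⟨v, hVU hv⟩
    have hP'V : ∀ g ∈ R, ∀ v ∈ V', g v ∈ V' := by
      intro g0 hg0 v hv
      obtain ⟨g, hgP, rfl⟩ := hR hg0
      have hg' : (g : G) ∈ P := hgP
      have hv' : (v : G) ∈ V := hv
      show ((α g v : U) : G) ∈ V
      rw [hαa]
      exact (mem_normalizer_iff.1 (hPV hg') v).1 hv'
    have hcV : ∀ g : N, (∀ v ∈ V', α g v = v) ↔ (g : G) ∈ centralizer (V : Set G) := by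
      intro g
      rw [mem_centralizer_iff]
      constructor
      · intro h v hv
        have h1 := congrArg Subtype.val (h ⟨v, hVU hv⟩ hv)
        rw [hαa] at h1
        exact (mul_inv_eq_iff_eq_mul.mp h1).symm
      · intro h v hv
        apply Subtype.ext
        rw [hαa, ← h v hv, mul_inv_cancel_right]
    have hAc : H34FDef.Ac R₂ V := by
      refine ⟨?_, ?_, ?_⟩
      · rw [commutator_le]
        rintro _ ⟨g, hg, rfl⟩ _ ⟨h, hh, rfl⟩
        have e : ⁅N.subtype g, N.subtype h⁆ = ((⁅g, h⁆ : N) : G) := rfl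
        rw [e, ← hcV]
        intro v hv
        have hv1 : (α h)⁻¹ v ∈ V' := hP'V _ (R.inv_mem hh.1) v hv
        have hv2 : (α g)⁻¹ ((α h)⁻¹ v) ∈ V' := hP'V _ (R.inv_mem hg.1) _ hv1
        have h1 := hcomm _ hg.1 _ hh.1 _ hv2
        rw [commutatorElement_def, map_mul, map_mul, map_mul, map_inv, map_inv, MulAut.mul_apply, MulAut.mul_apply,
          MulAut.mul_apply, h1, MulAut.apply_inv_self, MulAut.apply_inv_self]
      · rintro _ ⟨g, hg, rfl⟩
        have e : (N.subtype g) ^ 2 = ((g ^ 2 : N) : G) := rfl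
        rw [e, ← hcV]
        intro v hv
        rw [pow_two, map_mul, MulAut.mul_apply]
        exact hsq _ hg.1 v hv
      · intro hle
        obtain ⟨r, hr, v, hv, hrv⟩ := hne
        rw [← hR₁m] at hr
        obtain ⟨g, hg, rfl⟩ := hr
        exact hrv ((hcV g).2 (hle ⟨g, hg, rfl⟩) v hv)
    have hkey := hQ R₂ hR₂P hAc
    rw [pow_one, pow_one, pow_one, pow_one] at hkey
    have e1 : Nat.card R₂ = Nat.card R₁ := Subgroup.card_map_of_injective N.subtype_injective
    have e2 := card_map_inf_ker α R₁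
    rw [hR₁m] at e2
    set R₃ : Subgroup N := R₁ ⊓ (centralizer (V : Set G)).subgroupOf N with hR₃
    have e3 : R₂ ⊓ centralizer (V : Set G) = R₃.map N.subtype := by
      ext x
      constructor
      · rintro ⟨⟨g, hg, rfl⟩, hx⟩
        exact ⟨g, ⟨hg, hx⟩, rfl⟩
      · rintro ⟨g, ⟨hg, hx⟩, rfl⟩
        exact ⟨⟨g, hg, rfl⟩, hx⟩
    have e4 : Nat.card ↥(R₂ ⊓ centralizer (V : Set G)) = Nat.card R₃ := by
      rw [e3]; exact Subgroup.card_map_of_injective N.subtype_injective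
    have e5 := card_map_inf_ker α R₃
    have e6 : R₃ ⊓ α.ker = R₁ ⊓ α.ker := by
      apply le_antisymm (inf_le_inf_right _ inf_le_left)
      intro g hg
      refine ⟨⟨hg.1, ?_⟩, hg.2⟩
      show (g : G) ∈ centralizer (V : Set G)
      have h1 : (g : G) ∈ centralizer (U : Set G) := (hker g).2 hg.2
      exact cz_anti hVU h1
    have e7 : Nat.card (R₃.map α) = Nat.card {r : R // ∀ v ∈ V', (r : MulAut U) v = v} := by
      apply Nat.card_congr
      refine ⟨fun r => ⟨⟨r, ?_⟩, ?_⟩, fun r => ⟨((r : R) : MulAut U), ?_⟩, ?_, ?_⟩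
      · obtain ⟨g, hg, hgr⟩ := r.2
        rw [← hgr]; exact hg.1.1
      · obtain ⟨g, hg, hgr⟩ := r.2
        show ∀ v ∈ V', (r : MulAut U) v = v
        rw [← hgr]
        exact (hcV g).2 hg.2
      · have h1 : ((r : R) : MulAut U) ∈ R₁.map α := by rw [hR₁m]; exact (r : R).2
        obtain ⟨g, hg, hgr⟩ := h1
        refine ⟨g, ⟨hg, ?_⟩, hgr⟩
        show (g : G) ∈ centralizer (V : Set G)
        rw [← hcV, hgr]
        exact r.2
      · intro r; rfl
      · intro r; rfl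
    have e8 : Nat.card ↥(V' ⊓ fixSub R) ≤ Nat.card ↥(V ⊓ centralizer (R₂ : Set G)) := by
      refine Nat.card_le_card_of_injective (fun v : ↥(V' ⊓ fixSub R) =>
        (⟨((v : U) : G), v.2.1, ?_⟩ : ↥(V ⊓ centralizer (R₂ : Set G)))) ?_
      · show ((v : U) : G) ∈ centralizer (R₂ : Set G)
        rw [mem_centralizer_iff]
        rintro _ ⟨g, hg, rfl⟩
        have h1 := congrArg Subtype.val (v.2.2 (α g) hg.1)
        rw [hαa] at h1
        exact (mul_inv_eq_iff_eq_mul.mp h1)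
      · intro v w h
        apply Subtype.ext
        apply Subtype.ext
        exact congrArg (fun t : ↥(V ⊓ centralizer (R₂ : Set G)) => (t : G)) h
    have e9 : Nat.card V' = Nat.card V := Nat.card_congr (Subgroup.subgroupOfEquivOfLe hVU).toEquiv
    have h0 : 0 < Nat.card ↥(R₁ ⊓ α.ker) := Nat.card_pos
    rw [e1, ← e2, e4, ← e5, e6, e7] at hkey
    rw [e9]
    refine lt_of_mul_lt_mul_right ?_ (Nat.zero_le (Nat.card ↥(R₁ ⊓ α.ker)))
    calc Nat.card R * Nat.card ↥(V' ⊓ fixSub R) * Nat.card ↥(R₁ ⊓ α.ker)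
        = (Nat.card R * Nat.card ↥(R₁ ⊓ α.ker)) * Nat.card ↥(V' ⊓ fixSub R) := by ring
      _ ≤ (Nat.card R * Nat.card ↥(R₁ ⊓ α.ker)) * Nat.card ↥(V ⊓ centralizer (R₂ : Set G)) :=
          Nat.mul_le_mul_left _ e8
      _ < Nat.card V * (Nat.card {r : R // ∀ v ∈ V', (r : MulAut U) v = v} * Nat.card ↥(R₁ ⊓ α.ker)) := hkey
      _ = _ := by ring
  · intro j hj hj2
    apply hno j hj
    rw [← pow_mul, mul_comm k 2] at hj2
    exact (Nat.pow_le_pow_iff_right (by norm_num)).1 hj2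

end Cfsg.Agent.Lib.H34FAPa
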