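import Cfsg.Agent.Lib.H34FFb
import Cfsg.Agent.Lib.H34FN
import Cfsg.Agent.Lib.H34FT
import Cfsg.Agent.Lib.H34ZMain

/-!
# Piece F of the factorization programme: `f5` (helper53)
-/

set_option autoImplicit false
set_option linter.unusedSectionVars false

namespace Cfsg.Agent.Lib.H34FF

open Subgroup Cfsg Cfsg.Agent.Lib.LocBase Cfsg.Agent.Lib.PReduced Cfsg.Agent.Lib.H34FDef Cfsg.Agent.Lib.H34SolvOff
open Cfsg.Agent.Lib.H34ZQ Cfsg.Agent.Lib.SuzukiOvoid Cfsg.Agent.Lib.SuzukiGroup Cfsg.Agent.Lib.SuzukiFin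

section conj
variable {G : Type*} [Group G] [Finite G]

theorem map_inf_conj (A B : Subgroup G) (g : G) : (A ⊓ B).map (MulAut.conj g).toMonoidHom =
    A.map (MulAut.conj g).toMonoidHom ⊓ B.map (MulAut.conj g).toMonoidHom :=
  Subgroup.map_inf A B _ (MulAut.conj g).injective

theorem Ac.conj {R V : Subgroup G} (h : Ac R V) (g : G) :
    Ac (R.map (MulAut.conj g).toMonoidHom) (V.map (MulAut.conj g).toMonoidHom) := by
  refine ⟨?_, ?_, ?_⟩
  · rw [← Subgroup.map_commutator, ← map_conj_centralizer]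
    exact map_conj_mono g h.comm
  · intro r hr
    rw [← map_conj_centralizer, mem_map_conj]
    have := h.sq _ (mem_map_conj.mp hr)
    have h1 : g⁻¹ * r ^ 2 * g = (g⁻¹ * r * g) ^ 2 := by rw [pow_two, pow_two]; group
    rw [h1]; exact this
  · rw [← map_conj_centralizer, map_conj_le_map_conj]
    exact h.ne

theorem PP.conj {k l : ℕ} {T V : Subgroup G} (h : PP k l T V) (g : G) :
    PP k l (T.map (MulAut.conj g).toMonoidHom) (V.map (MulAut.conj g).toMonoidHom) := by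
  intro R hR hac
  obtain ⟨R', hR'⟩ : ∃ R', R' = R.map (MulAut.conj g⁻¹).toMonoidHom := ⟨_, rfl⟩
  have hRR : R = R'.map (MulAut.conj g).toMonoidHom := by
    rw [hR', ← map_conj_mul, mul_inv_cancel, map_conj_one]
  rw [hRR] at hR hac ⊢
  have h1 : R' ≤ T := (map_conj_le_map_conj g).mp hR
  have h2 : Ac R' V := by
    have := Ac.conj hac g⁻¹
    rwa [← map_conj_mul, ← map_conj_mul, inv_mul_cancel, map_conj_one, map_conj_one] at this
  have h3 := h R' h1 h2
  rw [← map_conj_centralizer, ← map_conj_centralizer, ← map_inf_conj, ← map_inf_conj, card_map_conj, card_map_conj,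
    card_map_conj, card_map_conj]
  exact h3

theorem PP.mono {k l : ℕ} {T T' V : Subgroup G} (h : PP k l T V) (hT : T' ≤ T) : PP k l T' V :=
  fun R hR hac => h R (hR.trans hT) hac

/-- `PP` for all 2-subgroups of the normalizer -/
theorem PP.good {S D : Subgroup G} (hS : IsSyl 2 S ⊤) (hSD : S ≤ normalizer (D : Set G)) (hP : PP 3 2 S D)
    {T : Subgroup G} (hT : IsPGroup 2 T) (hTD : T ≤ normalizer (D : Set G)) : PP 3 2 T D := by
  have h2p : Fact (Nat.Prime 2) := ⟨Nat.prime_two⟩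
  have hS' : IsSyl 2 S (normalizer (D : Set G)) := hS.of_le hSD le_top
  obtain ⟨n, hn, hle⟩ := hS'.exists_conj_le hT hTD
  have h1 : PP 3 2 (T.map (MulAut.conj n).toMonoidHom) D := PP.mono hP hle
  have h2 := PP.conj h1 n⁻¹
  rw [← map_conj_mul, inv_mul_cancel, map_conj_one, map_conj_eq_of_mem (inv_mem hn)] at h2
  exact h2

theorem PP.good' {S D : Subgroup G} (hS : IsSyl 2 S ⊤) (hSD : S ≤ normalizer (D : Set G)) (hP : PP 3 2 S D)
    (g : G) (T : Subgroup G) (hT : IsPGroup 2 T) (hTD : T ≤ normalizer (D.map (MulAut.conj g).toMonoidHom : Set G)) :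
    PP 3 2 T (D.map (MulAut.conj g).toMonoidHom) := by
  have h1 : PP 3 2 (T.map (MulAut.conj g⁻¹).toMonoidHom) D := by
    apply PP.good hS hSD hP (isPGroup_map_conj hT g⁻¹)
    rw [map_conj_le_iff, inv_inv, map_conj_normalizer]
    exact hTD
  have h2 := PP.conj h1 g
  rwa [← map_conj_mul, mul_inv_cancel, map_conj_one] at h2

end conj

universe u

/-- the element of odd prime order inverted by `A` -/
theorem exists_data {G : Type u} [Group G] [Finite G] (h2 : pCore 2 G = ⊥) (hS3 : ¬ Involves (Equiv.Perm (Fin 3)) G)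
    (hK : IsCompositionKGroupWith IsSuzukiOrPSL2OddPowerThree G) {A : Subgroup G} (hA2 : ∀ a ∈ A, a * a = 1)
    (hA1 : A ≠ ⊥) :
    ∃ (x : G) (A₁ : Subgroup G) (p c : ℕ), A₁ ≤ A ∧ (∀ u ∈ A₁, u * x = x * u) ∧ p.Prime ∧ p ≠ 2 ∧ orderOf x = p ∧ 2 ≤ c ∧
      Nat.card A ≤ c * Nat.card A₁ ∧ (∃ a ∈ A, a * x * a⁻¹ = x⁻¹) ∧
      ∀ i, 0 < i → 2 ^ (2 * i) < c ^ 4 → ¬ p ∣ 2 ^ (2 * i) - 1 := by
  classical
  by_cases hNI : NI A
  · obtain ⟨F, iF, iFt, iC, m, hm, hF, X, hX, hAX, a, haA, x, hxX, hax⟩ := H34ZMain.struct h2 hS3 hK hA2 hA1 hNI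
    have hθ := th_sq hF
    have hne := th_ne hm hF
    have hsim := SuzukiGroup.simple (th F m) hθ hne
    have hFn : Nat.card F = 2 ^ (2 * m + 1) := by rw [Nat.card_eq_fintype_card]; exact hF
    obtain ⟨φ, h1, h2', h3⟩ := hX.mk' (H34ZM.not_comm (th F m) hθ hne)
    obtain ⟨r, hr, hr1, hr2, hr3⟩ := H34ZM.zsig (n := 2 * m + 1) (by omega)
    have hAXc : ∀ a ∈ A, ∀ x ∈ X, a * x * a⁻¹ ∈ X := fun a ha x hx => (mem_normalizer_iff.mp (hAX ha) x).mp hx
    obtain ⟨y, hyX, hyo, hyi⟩ := H34ZM.inverted (th F m) hθ hne hm hFn hX.perf h1 h2' h3 (hA2 a haA) (hAXc a haA)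
      ⟨x, hxX, hax⟩ hr (by rw [hFn, ← pow_mul, mul_comm (2 * m + 1) 2]; exact hr1)
    have hcb := H34ZM.card_bound (th F m) hθ hne hFn hX.perf h1 h2' h3 hA2 hAXc
    refine ⟨y, A ⊓ centralizer (X : Set G), r, Nat.card F, inf_le_left, ?_, hr, hr2, hyo, ?_, hcb, ⟨a, haA, hyi⟩, ?_⟩
    · intro u hu
      exact (mem_centralizer_iff.mp hu.2 y hyX).symm
    · rw [hFn]
      calc 2 = 2 ^ 1 := rfl
        _ ≤ _ := Nat.pow_le_pow_right two_pos (by omega)
    · intro i hi hlt hd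
      have h4 := hr3 (2 * i) (by omega) hd
      rw [hFn, ← pow_mul] at hlt
      have h5 := (Nat.pow_lt_pow_iff_right (a := 2) (by norm_num)).mp hlt
      omega
  · unfold NI at hNI
    push Not at hNI
    obtain ⟨x, hx1, hxo, ⟨b, hbA, hbx⟩, hxc, -⟩ := hNI
    -- pass to prime order
    obtain ⟨p, hp, hpd⟩ := Nat.exists_prime_and_dvd (n := orderOf x) (fun h => hx1 (orderOf_eq_one_iff.mp h))
    have hp2 : p ≠ 2 := by
      rintro rfl
      exact absurd (hxo.of_dvd_nat hpd) (by decide)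
    obtain ⟨y, hy⟩ : ∃ y, y = x ^ (orderOf x / p) := ⟨_, rfl⟩
    have hyo : orderOf y = p := by rw [hy]; exact orderOf_pow_orderOf_div (orderOf_pos x).ne' hpd
    have hyc : ∀ c ∈ A, c * y * c⁻¹ = y ∨ c * y * c⁻¹ = y⁻¹ := by
      intro c hc
      rcases hxc c hc with h | h
      · left; rw [hy, ← conj_pow, h]
      · right; rw [hy, ← conj_pow, h, inv_pow]
    have hby : b * y * b⁻¹ = y⁻¹ := by rw [hy, ← conj_pow, hbx, inv_pow]
    have hy1 : y ≠ 1 := by rintro h; rw [h, orderOf_one] at hyo; exact hp.one_lt.ne hyo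
    have hbb := hA2 b hbA
    have hp3 : p ≠ 3 := by
      rintro rfl
      apply hS3
      refine S3Sec.involves_perm_three y b (by rw [← hyo, pow_orderOf_eq_one]) hy1 hbb ?_
      have hbi : b⁻¹ = b := inv_eq_of_mul_eq_one_left hbb
      rwa [hbi] at hby
    obtain ⟨A₁, hA₁⟩ : ∃ A₁, A₁ = A ⊓ centralizer {y} := ⟨_, rfl⟩
    have hmemA₁ : ∀ c, c ∈ A₁ ↔ c ∈ A ∧ c * y * c⁻¹ = y := by
      intro c
      rw [hA₁, Subgroup.mem_inf, Subgroup.mem_centralizer_singleton_iff, mul_inv_eq_iff_eq_mul]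
    have hle : A₁ ≤ A := by rw [hA₁]; exact inf_le_left
    have hcard : Nat.card A ≤ 2 * Nat.card A₁ := by
      have hmem : ∀ a ∈ A, a ∈ A₁ ∨ b * a ∈ A₁ := by
        intro a ha
        rcases hyc a ha with h | h
        · exact Or.inl ((hmemA₁ a).mpr ⟨ha, h⟩)
        · right
          rw [hmemA₁]
          refine ⟨A.mul_mem hbA ha, ?_⟩
          calc b * a * y * (b * a)⁻¹ = b * (a * y * a⁻¹) * b⁻¹ := by group
            _ = b * y⁻¹ * b⁻¹ := by rw [h]
            _ = (b * y * b⁻¹)⁻¹ := by group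
            _ = y := by rw [hby, inv_inv]
      let f : A → A₁ × Bool := fun a =>
        if h : (a : G) ∈ A₁ then (⟨a, h⟩, true) else (⟨b * a, (hmem a a.2).resolve_left h⟩, false)
      have hf : Function.Injective f := by
        intro a c h
        by_cases h1 : (a : G) ∈ A₁ <;> by_cases h2 : (c : G) ∈ A₁
        · simp only [f, h1, h2, dif_pos] at h
          exact Subtype.ext (congrArg (fun z : A₁ × Bool => (z.1 : G)) h)
        · simp only [f, h1, h2, dif_pos, dif_neg, not_false_iff] at h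
          simp at h
        · simp only [f, h1, h2, dif_pos, dif_neg, not_false_iff] at h
          simp at h
        · simp only [f, h1, h2, dif_neg, not_false_iff] at h
          have h3 : b * (a : G) = b * c := congrArg (fun z : A₁ × Bool => (z.1 : G)) h
          exact Subtype.ext (mul_left_cancel h3)
      have := Nat.card_le_card_of_injective f hf
      rw [Nat.card_prod] at this
      simpa [mul_comm] using this
    refine ⟨y, A₁, p, 2, hle, ?_, hp, hp2, hyo, le_rfl, hcard, ⟨b, hbA, hby⟩, ?_⟩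
    · intro u hu
      exact mul_inv_eq_iff_eq_mul.mp ((hmemA₁ u).mp hu).2
    · intro i hi hlt hd
      have h5 : 2 * i < 4 := (Nat.pow_lt_pow_iff_right (a := 2) (by norm_num)).mp hlt
      have h6 : i = 1 := by omega
      subst h6
      norm_num at hd
      exact hp3 ((Nat.prime_dvd_prime_iff_eq hp Nat.prime_three).mp hd)

theorem pCore_quot_bot {G : Type u} [Group G] [Finite G] : pCore 2 (G ⧸ pCore 2 G) = ⊥ := by
  have h2p : Fact (Nat.Prime 2) := ⟨Nat.prime_two⟩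
  obtain ⟨π, hπ⟩ : ∃ π : G →* G ⧸ pCore 2 G, π = QuotientGroup.mk' (pCore 2 G) := ⟨_, rfl⟩
  have hπs : Function.Surjective π := by rw [hπ]; exact QuotientGroup.mk'_surjective _
  have hker : π.ker = pCore 2 G := by rw [hπ]; exact QuotientGroup.ker_mk' _
  have h1 : IsPGroup 2 ↥((pCore 2 (G ⧸ pCore 2 G)).comap π) :=
    (isPGroup_pCore 2 (G ⧸ pCore 2 G)).comap_of_ker_isPGroup π (by rw [hker]; exact isPGroup_pCore 2 G)
  have h2 : (pCore 2 (G ⧸ pCore 2 G)).comap π ≤ pCore 2 G := le_pCore inferInstance h1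
  rw [eq_bot_iff]
  intro x hx
  obtain ⟨g, rfl⟩ := hπs x
  have h3 : g ∈ π.ker := by rw [hker]; exact h2 hx
  rw [mem_bot]
  exact h3

/-- `|D|, |E|`: conjugate normal offender-free subgroups inside `O_2(G)` commute -/
theorem comm_of_PP {G : Type*} [Group G] [Finite G] {D E : Subgroup G} (hDe : IsElementaryAbelian 2 D)
    (hEe : IsElementaryAbelian 2 E) (h1 : PP 3 2 E D) (h2 : PP 3 2 D E) : E ≤ centralizer (D : Set G) := by
  by_contra hcon
  have hcon' : ¬ D ≤ centralizer (E : Set G) := by rwa [Subgroup.le_centralizer_iff]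
  have hac : ∀ {X Y : Subgroup G}, IsElementaryAbelian 2 X → ¬ X ≤ centralizer (Y : Set G) → Ac X Y := by
    intro X Y hX hn
    rw [elem_iff] at hX
    refine ⟨?_, ?_, hn⟩
    · have h1 : ⁅X, X⁆ = ⊥ := by
        rw [Subgroup.commutator_eq_bot_iff_le_centralizer]; exact hX.1
      rw [h1]; exact bot_le
    · intro r hr
      rw [hX.2 r hr]; exact one_mem _
  have h3 := h1 E le_rfl (hac hEe hcon)
  have h4 := h2 D le_rfl (hac hDe hcon')
  obtain ⟨r, hr0, hr⟩ := exists_relIndex (B := D ⊓ centralizer (E : Set G)) (D := D) inf_le_left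
  obtain ⟨s, hs0, hs⟩ := exists_relIndex (B := E ⊓ centralizer (D : Set G)) (D := E) inf_le_left
  generalize Nat.card ↥(D ⊓ centralizer (E : Set G)) = b at *
  generalize Nat.card ↥(E ⊓ centralizer (D : Set G)) = e at *
  rw [hr, hs] at h3 h4
  have e1 : (s * e) ^ 3 * b ^ 2 = s ^ 3 * (e ^ 3 * b ^ 2) := by ring
  have e2 : (r * b) ^ 2 * e ^ 3 = r ^ 2 * (e ^ 3 * b ^ 2) := by ring
  have e3 : (r * b) ^ 3 * e ^ 2 = r ^ 3 * (b ^ 3 * e ^ 2) := by ring
  have e4 : (s * e) ^ 2 * b ^ 3 = s ^ 2 * (b ^ 3 * e ^ 2) := by ring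
  rw [e1, e2] at h3
  rw [e3, e4] at h4
  have h5 := Nat.lt_of_mul_lt_mul_right h3
  have h6 := Nat.lt_of_mul_lt_mul_right h4
  have h7 : r ^ 2 ≤ r ^ 3 := Nat.pow_le_pow_right hr0 (by norm_num)
  have h8 : s ^ 2 ≤ s ^ 3 := Nat.pow_le_pow_right hs0 (by norm_num)
  omega

theorem f5' {G : Type u} [Group G] [Finite G] (hchar : centralizer (pCore 2 G : Set G) ≤ pCore 2 G)
    (hS3 : ¬ Involves (Equiv.Perm (Fin 3)) (G ⧸ pCore 2 G))
    (hK : IsCompositionKGroupWith IsSuzukiOrPSL2OddPowerThree G) {S D : Subgroup G} (hS : IsSyl 2 S ⊤)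
    (hSD : S ≤ normalizer (D : Set G)) (hDe : IsElementaryAbelian 2 D) (hP : PP 3 2 S D) :
    D ≤ pCore 2 G ∧ IsElementaryAbelian 2 (ncl ⊤ D) := by
  classical
  have h2p : Fact (Nat.Prime 2) := ⟨Nat.prime_two⟩
  have hQS : pCore 2 G ≤ S := by
    have := hS.pCoreOf_le
    rwa [pCoreOf_top] at this
  have hQD : pCore 2 G ≤ normalizer (D : Set G) := hQS.trans hSD
  have hD : D ≤ pCore 2 G := by
    by_contra hcon
    have hA1 : D.map (QuotientGroup.mk' (pCore 2 G)) ≠ ⊥ := by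
      intro h
      apply hcon
      rw [Subgroup.map_eq_bot_iff, QuotientGroup.ker_mk'] at h
      exact h
    have hA2 : ∀ a ∈ D.map (QuotientGroup.mk' (pCore 2 G)), a * a = 1 := by
      intro a ha
      rw [← pow_two]
      exact (elem_map hDe (QuotientGroup.mk' (pCore 2 G))).2 a ha
    obtain ⟨x, A₁, p, c, hle, hcom, hp, hp2, hxo, hc, hcard, ⟨a, ⟨d, hd, rfl⟩, hinv⟩, hk⟩ :=
      exists_data pCore_quot_bot hS3 (H34FT.compK_quot (pCore 2 G) hK) hA2 hA1
    exact step (isPGroup_pCore 2 G) hchar hDe hQD (PP.good' hS hSD hP) hle hcom hp hp2 hxo hc hcard ⟨d, hd, hinv⟩ hk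
  refine ⟨hD, ?_⟩
  have hconj : ∀ g : G, D.map (MulAut.conj g).toMonoidHom ≤ pCore 2 G := by
    intro g
    rintro _ ⟨d, hd, rfl⟩
    exact (inferInstance : (pCore 2 G).Normal).conj_mem d (hD hd) g
  have hnorm : ∀ g : G, pCore 2 G ≤ normalizer (D.map (MulAut.conj g).toMonoidHom : Set G) := by
    intro g
    rw [← map_conj_normalizer]
    intro q hq
    rw [mem_map_conj]
    apply hQD
    have := (inferInstance : (pCore 2 G).Normal).conj_mem q hq g⁻¹
    rwa [inv_inv] at this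
  unfold ncl
  apply elem_iSup
  · intro g
    exact elem_map hDe _
  · intro g h
    refine comm_of_PP (elem_map hDe _) (elem_map hDe _) ?_ ?_
    · exact PP.good' hS hSD hP h _ (isPGroup_mono (isPGroup_pCore 2 G) (hconj g)) ((hconj g).trans (hnorm h))
    · exact PP.good' hS hSD hP g _ (isPGroup_mono (isPGroup_pCore 2 G) (hconj h)) ((hconj h).trans (hnorm g))

theorem f5 {G : Type u} [Group G] [Finite G] (hchar : centralizer (pCore 2 G : Set G) ≤ pCore 2 G)
    (hf : ¬ Involves (Equiv.Perm (Fin 4)) G)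
    (hK : IsCompositionKGroupWith IsSuzukiOrPSL2OddPowerThree G) {S D : Subgroup G} (hS : IsSyl 2 S ⊤)
    (hDS : D ≤ S) (hSD : S ≤ normalizer (D : Set G)) (hDe : IsElementaryAbelian 2 D) (hP : PP 3 2 S D) :
    IsElementaryAbelian 2 (ncl ⊤ D) :=
  (f5' hchar (H34FN.s3free_core hf hchar) hK hS hSD hDe hP).2

end Cfsg.Agent.Lib.H34FF
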