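import Cfsg.Agent.Lib.H34FX
import Cfsg.Agent.Lib.H34FT
import Cfsg.Agent.Lib.H34FAP
import Cfsg.Agent.Lib.H34FF

/-!
# Offenders on normal closures (helper34)
-/

set_option autoImplicit false
set_option linter.unusedSectionVars false

namespace Cfsg.Agent.Lib.H34FAT

open Subgroup Cfsg Cfsg.Agent.Lib.SfAct Cfsg.Agent.Lib.LocBase Cfsg.Agent.Lib.SfMin Cfsg.Agent.Lib.PReduced
open Cfsg.Agent.Lib.SfRel Cfsg.Agent.Lib.SfThomp Cfsg.Agent.Lib.H34FDef Cfsg.Agent.Lib.H34FB Cfsg.Agent.Lib.H34FX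

universe u

section
variable {G : Type*} [Group G] [Finite G]

theorem map_conj_normal (W : Subgroup G) [hW : W.Normal] (g : G) : W.map (MulAut.conj g).toMonoidHom = W := by
  apply map_conj_eq_of_mem
  rw [Subgroup.normalizer_eq_top]; trivial

theorem mm_conj {W B : Subgroup G} [hW : W.Normal] (g : G) : mm W (B.map (MulAut.conj g).toMonoidHom) = mm W B := by
  unfold mm
  rw [card_map_conj]
  congr 1
  have h1 : (W ⊓ centralizer (B : Set G)).map (MulAut.conj g).toMonoidHom =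
      W ⊓ centralizer ((B.map (MulAut.conj g).toMonoidHom : Subgroup G) : Set G) := by
    rw [map_inf_centralizer (MulAut.conj g).injective, map_conj_normal]
  rw [← h1, card_map_conj]

theorem inB_conj {S W B : Subgroup G} (hS : IsSyl 2 S ⊤) [hW : W.Normal] (h : H34FX.InB S W B) (hBO : B ≤ pCore 2 G) (g : G) :
    H34FX.InB S W (B.map (MulAut.conj g).toMonoidHom) := by
  have hOS : pCore 2 G ≤ S := by
    have := hS.pCoreOf_le
    rwa [pCoreOf_top] at this
  have hOn : (pCore 2 G).Normal := inferInstance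
  have hSW : S ⊓ centralizer (W : Set G) = pCore 2 G ⊓ centralizer (W : Set G) :=
    le_antisymm (le_inf (h.ge.trans hBO) inf_le_right) (inf_le_inf_right _ hOS)
  have hn : (S ⊓ centralizer (W : Set G)).Normal := by rw [hSW]; infer_instance
  refine ⟨?_, ?_, ?_⟩
  · rw [← map_conj_normal (S ⊓ centralizer (W : Set G)) g]
    exact Subgroup.map_mono h.ge
  · refine le_trans ?_ hOS
    rw [← map_conj_normal (pCore 2 G) g]
    exact Subgroup.map_mono hBO
  · rintro _ ⟨b, hb, rfl⟩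
    rw [← map_mul]
    exact (inferInstance : (centralizer (W : Set G)).Normal).conj_mem _ (h.sq b hb) g

theorem inC_conj {S W B : Subgroup G} (hS : IsSyl 2 S ⊤) [hW : W.Normal] (h : H34FX.InC S W B) (hBO : B ≤ pCore 2 G) (g : G) :
    H34FX.InC S W (B.map (MulAut.conj g).toMonoidHom) := by
  refine ⟨inB_conj hS h.b hBO g, ?_, fun B' hB' => by rw [mm_conj]; exact h.max B' hB'⟩
  intro hle
  apply h.ne
  intro b hb
  have h1 : g * b * g⁻¹ ∈ centralizer (W : Set G) := hle ⟨b, hb, rfl⟩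
  have h2 := (inferInstance : (centralizer (W : Set G)).Normal).conj_mem _ h1 g⁻¹
  have h3 : g⁻¹ * (g * b * g⁻¹) * g⁻¹⁻¹ = b := by group
  rwa [h3] at h2

theorem exists_A {S V W : Subgroup G} (hS : IsSyl 2 S ⊤) [hWn : W.Normal] (hWe : IsElementaryAbelian 2 W)
    (hVW : V ≤ W) (hncl : W ≤ ncl ⊤ V) (hQ : PP 1 1 S V) (hn : ¬ PP 1 1 S W) :
    ∃ A, H34FX.InC S W A ∧ A ≤ centralizer (V : Set G) ∧
      (∀ w ∈ W, ∀ a ∈ A, a * w * a⁻¹ * w⁻¹ ∈ centralizer (A : Set G)) ∧ ¬ A ≤ pCore 2 G := by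
  classical
  have hWc : W ≤ centralizer (W : Set G) := (elem_iff.mp hWe).1
  have hOS : pCore 2 G ≤ S := by
    have := hS.pCoreOf_le
    rwa [pCoreOf_top] at this
  by_contra hcon
  push Not at hcon
  have hmin : ∀ A, H34FX.InC S W A → (∀ B : Subgroup G, H34FX.InC S W B → B ≤ A → A ≤ B) → A ≤ pCore 2 G := fun A hA hm =>
    hcon A hA (hA.centralizes hVW hQ) (hA.quad hWc hm)
  obtain ⟨A₀, hA₀⟩ := exists_inC hn
  obtain ⟨A, hA⟩ := Set.Finite.exists_minimal (Set.toFinite {B : Subgroup G | H34FX.InC S W B}) ⟨A₀, hA₀⟩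
  set 𝒞 : Set (Subgroup G) := {A | H34FX.InC S W A ∧ ∀ B : Subgroup G, H34FX.InC S W B → B ≤ A → A ≤ B} with h𝒞
  have hA𝒞 : A ∈ 𝒞 := ⟨hA.prop, fun B hB hle => hA.le_of_le hB hle⟩
  have hconj : ∀ B ∈ 𝒞, ∀ g : G, B.map (MulAut.conj g).toMonoidHom ∈ 𝒞 := by
    intro B hB g
    have hBO := hmin B hB.1 hB.2
    refine ⟨inC_conj hS hB.1 hBO g, ?_⟩
    intro B' hB' hle
    have hB'O : B' ≤ pCore 2 G := by
      refine hle.trans ?_
      rw [← map_conj_normal (pCore 2 G) g]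
      exact Subgroup.map_mono hBO
    have h1 := hB.2 _ (inC_conj hS hB' hB'O g⁻¹) (by rw [map_conj_le_iff, inv_inv]; exact hle)
    rwa [map_conj_le_iff]
  have hJn : (⊤ : Subgroup G) ≤ normalizer ((sSup 𝒞 : Subgroup G) : Set G) := by
    intro g _
    apply mem_normalizer_of_map_conj_le
    rw [map_conj_le_iff]
    apply sSup_le
    intro B hB
    rw [← map_conj_le_iff]
    exact le_sSup (hconj B hB g)
  have hJV : sSup 𝒞 ≤ centralizer (V : Set G) := sSup_le fun B hB => hB.1.centralizes hVW hQ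
  have h1 : ncl ⊤ V ≤ centralizer ((sSup 𝒞 : Subgroup G) : Set G) :=
    ncl_le (Subgroup.le_centralizer_iff.mp hJV) (le_normalizer_centralizer hJn)
  have h2 : sSup 𝒞 ≤ centralizer (W : Set G) := Subgroup.le_centralizer_iff.mp (hncl.trans h1)
  exact hA𝒞.1.ne ((le_sSup hA𝒞).trans h2)

end

section sub
variable {G : Type u} [Group G] [Finite G]

theorem map_ncl {H V : Subgroup G} (hVH : V ≤ H) : (ncl ⊤ (V.subgroupOf H)).map H.subtype = ncl H V := by
  apply le_antisymm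
  · rw [Subgroup.map_le_iff_le_comap]
    apply ncl_le
    · intro v hv
      exact le_ncl H V hv
    · intro h _
      have h1 := le_normalizer_ncl H V h.2
      rw [mem_normalizer_iff] at h1 ⊢
      intro x
      exact h1 x
  · apply ncl_le
    · intro v hv
      exact ⟨⟨v, hVH hv⟩, le_ncl ⊤ _ hv, rfl⟩
    · have h1 := le_normalizer_map H.subtype (H := ncl ⊤ (V.subgroupOf H))
      refine le_trans ?_ h1
      intro h hh
      exact ⟨⟨h, hh⟩, le_normalizer_ncl ⊤ _ trivial, rfl⟩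

theorem isSyl_sub {S H : Subgroup G} (hS : IsSyl 2 S ⊤) (hSH : S ≤ H) : IsSyl 2 (S.subgroupOf H) (⊤ : Subgroup H) := by
  have h1 := hS.of_le hSH le_top
  refine ⟨le_top, h1.pgroup.of_equiv (Subgroup.subgroupOfEquivOfLe hSH).symm, ?_⟩
  rw [Subgroup.relIndex_top_right]
  exact h1.ndvd

theorem involves_sub {X : Type*} [Group X] {H : Subgroup G} (h : Involves X ↥H) : Involves X G := by
  have h1 := involves_mono (le_top : H ≤ ⊤) h
  have e : G ≃* ↥(⊤ : Subgroup G) := Subgroup.topEquiv.symm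
  exact H34FT.involves_of_involves_surj e.toMonoidHom e.surjective h1

theorem compK_top (h : IsCompositionKGroupWith IsSuzukiOrPSL2OddPowerThree ↥(⊤ : Subgroup G)) :
    IsCompositionKGroupWith IsSuzukiOrPSL2OddPowerThree G := H34FT.compK_equiv Subgroup.topEquiv h

end sub

theorem at1_aux : ∀ (n : ℕ) (G : Type u) [Group G] [Finite G], Nat.card G = n →
    centralizer (pCore 2 G : Set G) ≤ pCore 2 G → ¬ Involves (Equiv.Perm (Fin 4)) G →
    ∀ {S V : Subgroup G}, IsSyl 2 S ⊤ →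
    (∀ H : Subgroup G, S ≤ H → IsCompositionKGroupWith IsSuzukiOrPSL2OddPowerThree H) →
    S ≤ normalizer (V : Set G) → IsElementaryAbelian 2 (ncl ⊤ V) → PP 1 1 S V →
    PP 1 1 S (ncl ⊤ V) := by
  intro n
  induction n using Nat.strong_induction_on with
  | _ n ih =>
  intro G _ _ hn hchar hf S V hS hK hSV hVe hQ
  classical
  by_contra hcon
  obtain ⟨W, hW⟩ : ∃ W, W = ncl ⊤ V := ⟨_, rfl⟩
  rw [← hW] at hVe hcon
  have hVW : V ≤ W := by rw [hW]; exact le_ncl ⊤ V
  have hWn : W.Normal := by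
    rw [← normalizer_eq_top_iff, eq_top_iff, hW]
    exact le_normalizer_ncl ⊤ V
  have hWS : W ≤ S := by
    have h1 : W ≤ pCoreOf 2 (⊤ : Subgroup G) := LocBase.le_pCoreOf le_top (by rw [Subgroup.normalizer_eq_top]) (elem_isPGroup hVe)
    exact h1.trans hS.pCoreOf_le
  obtain ⟨Vs, hVs⟩ : ∃ Vs, Vs = sSup {U : Subgroup G | U ≤ W ∧ S ≤ normalizer (U : Set G) ∧ PP 1 1 S U} := ⟨_, rfl⟩
  have hVsW : Vs ≤ W := by rw [hVs]; exact sSup_le fun U hU => hU.1
  have hVVs : V ≤ Vs := by rw [hVs]; exact le_sSup ⟨hVW, hSV, hQ⟩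
  have hVsQ : PP 1 1 S Vs := by rw [hVs]; exact pp_sSup _ fun U hU => hU.2.2
  have hVsn : S ≤ normalizer (Vs : Set G) := by
    intro s hs
    apply mem_normalizer_of_map_conj_le
    rw [map_conj_le_iff]
    conv_lhs => rw [hVs]
    apply sSup_le
    intro U hU
    rw [← map_conj_le_iff, map_conj_eq_of_mem (hU.2.1 hs), hVs]
    exact le_sSup hU
  have hmax : ∀ U : Subgroup G, U ≤ W → S ≤ normalizer (U : Set G) → PP 1 1 S U → U ≤ Vs := by
    intro U h1 h2 h3
    rw [hVs]; exact le_sSup ⟨h1, h2, h3⟩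
  have hM : normalizer (Vs : Set G) ≠ ⊤ := by
    intro h
    have h1 : W ≤ Vs := by
      conv_lhs => rw [hW]
      exact ncl_le hVVs (by rw [h])
    have h2 : Vs = W := le_antisymm hVsW h1
    rw [h2] at hVsQ
    exact hcon hVsQ
  have huniq : ∀ H : Subgroup G, S ≤ H → H ≠ ⊤ → H ≤ normalizer (Vs : Set G) := by
    intro H hSH hH
    have hVsH : Vs ≤ H := hVsW.trans (hWS.trans hSH)
    have hcard : Nat.card ↥H < n := by
      rw [← hn]
      exact Components.card_lt_of_lt_top (lt_top_iff_ne_top.mpr hH)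
    have hcp : IsCharP 2 H := by
      have h1 : IsCharP 2 (⊤ : Subgroup G) := isCharP_top.mpr hchar
      exact h1.of_le le_top (hS.pCoreOf_le.trans hSH)
    have hnW : ncl H Vs ≤ W := ncl_le hVsW (by rw [Subgroup.normalizer_eq_top]; exact le_top)
    have h1 := ih _ hcard ↥H rfl (isCharP_iff.mp hcp) (fun h => hf (involves_sub h))
      (S := S.subgroupOf H) (V := Vs.subgroupOf H) (isSyl_sub hS hSH) ?_ ?_ ?_ ?_
    · rw [← pp_map H.subtype_injective, map_ncl hVsH, Subgroup.map_subgroupOf_eq_of_le hSH] at h1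
      have h2 := hmax _ hnW (hSH.trans (le_normalizer_ncl H Vs)) h1
      have h3 : ncl H Vs = Vs := le_antisymm h2 (le_ncl H Vs)
      have h4 := le_normalizer_ncl H Vs
      rwa [h3] at h4
    · intro H' hH'
      have h2 : S ≤ H'.map H.subtype := by
        intro s hs
        exact ⟨⟨s, hSH hs⟩, hH' hs, rfl⟩
      exact H34FT.compK_equiv (H'.equivMapOfInjective _ H.subtype_injective).symm (hK _ h2)
    · intro s hs
      have h2 := hVsn hs
      rw [mem_normalizer_iff] at h2 ⊢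
      intro x
      exact h2 x
    · rw [← elem_map_iff H.subtype_injective, map_ncl hVsH]
      exact elem_mono hVe hnW
    · rw [← pp_map H.subtype_injective, Subgroup.map_subgroupOf_eq_of_le hSH, Subgroup.map_subgroupOf_eq_of_le hVsH]
      exact hVsQ
  have hncl : W ≤ ncl ⊤ Vs := by
    conv_lhs => rw [hW]
    exact ncl_le (hVVs.trans (le_ncl ⊤ Vs)) (le_normalizer_ncl ⊤ Vs)
  obtain ⟨A, hA1, hA2, hA3, hA4⟩ := exists_A hS hVe hVsW hncl hVsQ hcon
  exact H34FAP.app hchar hf (compK_top (hK ⊤ le_top)) hS hVe hVsW hVsn hM huniq hVsQ hA1 hA2 hA3 hA4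

theorem at1 {G : Type u} [Group G] [Finite G] (hchar : centralizer (pCore 2 G : Set G) ≤ pCore 2 G)
    (hf : ¬ Involves (Equiv.Perm (Fin 4)) G)
    {S V : Subgroup G} (hS : IsSyl 2 S ⊤)
    (hK : ∀ H : Subgroup G, S ≤ H → IsCompositionKGroupWith IsSuzukiOrPSL2OddPowerThree H)
    (hSV : S ≤ normalizer (V : Set G)) (hVe : IsElementaryAbelian 2 (ncl ⊤ V)) (hQ : PP 1 1 S V) :
    PP 1 1 S (ncl ⊤ V) := at1_aux _ G rfl hchar hf hS hK hSV hVe hQ

/-- the third factorization -/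
theorem thmB {G : Type u} [Group G] [Finite G] (hchar : centralizer (pCore 2 G : Set G) ≤ pCore 2 G)
    (hf : ¬ Involves (Equiv.Perm (Fin 4)) G) {S D : Subgroup G} (hS : IsSyl 2 S ⊤)
    (hK : ∀ H : Subgroup G, S ≤ H → IsCompositionKGroupWith IsSuzukiOrPSL2OddPowerThree H)
    (hDS : D ≤ S) (hSD : S ≤ normalizer (D : Set G)) (hDe : IsElementaryAbelian 2 D) (hP : PP 3 2 S D) (g : G) :
    ∃ c ∈ centralizer (D : Set G), ∃ n ∈ normalizer (JJ S : Set G), g = c * n := by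
  have hUe := H34FF.f5 hchar hf (compK_top (hK ⊤ le_top)) hS hDS hSD hDe hP
  obtain ⟨U, hU⟩ : ∃ U, U = ncl ⊤ D := ⟨_, rfl⟩
  have hUn : U.Normal := by
    rw [← normalizer_eq_top_iff, eq_top_iff, hU]
    exact le_normalizer_ncl ⊤ D
  have hQ := at1 hchar hf hS hK hSD hUe (pp_32_11 hP)
  rw [← hU] at hUe hQ
  have hUS : U ≤ S := by
    have h1 : U ≤ pCoreOf 2 (⊤ : Subgroup G) := LocBase.le_pCoreOf le_top (by rw [Subgroup.normalizer_eq_top]) (elem_isPGroup hUe)
    exact h1.trans hS.pCoreOf_le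
  have hJ := JJ_le_of_pp hUS hUe hQ
  obtain ⟨c, hc, n, hn, e⟩ := H34FT.factor_gen (S := S) (W := U) (J := JJ S) hS hUn (by
    have h2 := JJ_eq (S := S ⊓ centralizer (U : Set G)) (T := S) (le_inf (JJ_le S) hJ) inf_le_left
    have h3 := normalizer_le_JJ (S ⊓ centralizer (U : Set G))
    rwa [h2] at h3) g
  refine ⟨c, ?_, n, hn, e⟩
  exact cz_anti (by rw [hU]; exact le_ncl ⊤ D) hc

end Cfsg.Agent.Lib.H34FAT
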