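import Cfsg.Agent.Lib.H34FDef

/-!
# Offender inequalities: basic lemmas (helper34)
-/

set_option autoImplicit false
set_option linter.unusedSectionVars false

namespace Cfsg.Agent.Lib.H34FB

open Subgroup Cfsg Cfsg.Agent.Lib.SfAct Cfsg.Agent.Lib.LocBase Cfsg.Agent.Lib.SfMin Cfsg.Agent.Lib.PReduced
open Cfsg.Agent.Lib.SfRel Cfsg.Agent.Lib.SfThomp Cfsg.Agent.Lib.H34FDef

section mono
variable {G : Type*} [Group G]

theorem cz_anti {A B : Subgroup G} (h : A ≤ B) : centralizer (B : Set G) ≤ centralizer (A : Set G) :=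
  Subgroup.centralizer_le h

theorem PP.mono {k l : ℕ} {T T' V : Subgroup G} (h : PP k l T V) (hT : T' ≤ T) : PP k l T' V :=
  fun R hR hA => h R (hR.trans hT) hA

theorem pp_of_le {k l : ℕ} {T V : Subgroup G} (h : T ≤ centralizer (V : Set G)) : PP k l T V :=
  fun _ hR hA => absurd (hR.trans h) hA.ne

theorem pp_bot {k l : ℕ} {T : Subgroup G} : PP k l T ⊥ := by
  apply pp_of_le
  intro x _
  rw [mem_centralizer_iff]
  intro y hy
  rw [SetLike.mem_coe, mem_bot] at hy
  rw [hy, one_mul, mul_one]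

theorem Ac.mono {R V V₁ : Subgroup G} (h : Ac R V) (hV : V₁ ≤ V) (hn : ¬ R ≤ centralizer (V₁ : Set G)) : Ac R V₁ :=
  ⟨h.comm.trans (cz_anti hV), fun r hr => cz_anti hV (h.sq r hr), hn⟩

end mono

section fin
variable {G : Type*} [Group G] [Finite G]

theorem card_mul_le {A B V : Subgroup G} (hA : A ≤ V) (hB : B ≤ V) :
    Nat.card A * Nat.card B ≤ Nat.card V * Nat.card ↥(A ⊓ B) := by
  have h1 := FrakM.card_mul_relIndex (inf_le_left : A ⊓ B ≤ A)
  have h2 := FrakM.card_mul_relIndex hB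
  rw [Subgroup.inf_relIndex_left] at h1
  have h3 : B.relIndex A ≤ B.relIndex V := Subgroup.relIndex_le_of_le_right hA (ri_pos _ _).ne'
  rw [← h1, ← h2]
  calc Nat.card ↥(A ⊓ B) * B.relIndex A * Nat.card B ≤ Nat.card ↥(A ⊓ B) * B.relIndex V * Nat.card B :=
        Nat.mul_le_mul_right _ (Nat.mul_le_mul_left _ h3)
    _ = _ := by ring

theorem arith {k l r r1 r2 v v1 v2 x x1 x2 : ℕ} (hx : 0 < x) (h3 : v1 * v2 * x ≤ v * x1 * x2)
    (h : r ^ k * x1 ^ l * (r1 ^ k * x2 ^ l) < v1 ^ l * r1 ^ k * (v2 ^ l * r2 ^ k)) :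
    r ^ k * x ^ l < v ^ l * r2 ^ k := by
  have h4 : (r ^ k * x ^ l) * (x1 * x2) ^ l * r1 ^ k < (v ^ l * r2 ^ k) * (x1 * x2) ^ l * r1 ^ k := by
    calc (r ^ k * x ^ l) * (x1 * x2) ^ l * r1 ^ k = (r ^ k * x1 ^ l * (r1 ^ k * x2 ^ l)) * x ^ l := by
          rw [mul_pow]; ring
      _ < (v1 ^ l * r1 ^ k * (v2 ^ l * r2 ^ k)) * x ^ l := Nat.mul_lt_mul_of_pos_right h (pow_pos hx l)
      _ = (v1 * v2 * x) ^ l * (r1 ^ k * r2 ^ k) := by rw [mul_pow, mul_pow]; ring
      _ ≤ (v * x1 * x2) ^ l * (r1 ^ k * r2 ^ k) := Nat.mul_le_mul_right _ (Nat.pow_le_pow_left h3 l)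
      _ = (v ^ l * r2 ^ k) * (x1 * x2) ^ l * r1 ^ k := by rw [mul_pow, mul_pow, mul_pow]; ring
  have h5 := Nat.lt_of_mul_lt_mul_right h4
  exact Nat.lt_of_mul_lt_mul_right h5

theorem key_card {R V₁ V₂ : Subgroup G} :
    Nat.card V₁ * Nat.card V₂ * Nat.card ↥((V₁ ⊔ V₂) ⊓ centralizer (R : Set G)) ≤
      Nat.card ↥(V₁ ⊔ V₂) * Nat.card ↥(V₁ ⊓ centralizer (R : Set G)) *
        Nat.card ↥(V₂ ⊓ centralizer ((R ⊓ centralizer (V₁ : Set G) : Subgroup G) : Set G)) := by
  set V := V₁ ⊔ V₂ with hV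
  set R1 := R ⊓ centralizer (V₁ : Set G) with hR1
  set X := V ⊓ centralizer (R : Set G) with hX
  set Y := V ⊓ centralizer (R1 : Set G) with hY
  have hXY : X ≤ Y := inf_le_inf_left V (cz_anti (inf_le_left : R1 ≤ R))
  have hV1Y : V₁ ≤ Y := le_inf le_sup_left (Subgroup.le_centralizer_iff.mp (inf_le_right : R1 ≤ _))
  have h1 := card_mul_le (A := V₁) (B := X) hV1Y hXY
  have h2 := card_mul_le (A := V₂) (B := Y) (V := V) le_sup_right inf_le_left
  have e1 : V₁ ⊓ X = V₁ ⊓ centralizer (R : Set G) := by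
    rw [hX, ← inf_assoc, inf_eq_left.mpr (le_sup_left : V₁ ≤ V)]
  have e2 : V₂ ⊓ Y = V₂ ⊓ centralizer (R1 : Set G) := by
    rw [hY, ← inf_assoc, inf_eq_left.mpr (le_sup_right : V₂ ≤ V)]
  rw [e1] at h1
  rw [e2] at h2
  have hYp : 0 < Nat.card Y := Nat.card_pos
  have h3 : (Nat.card V₁ * Nat.card V₂ * Nat.card X) * Nat.card Y ≤
      (Nat.card V * Nat.card ↥(V₁ ⊓ centralizer (R : Set G)) * Nat.card ↥(V₂ ⊓ centralizer (R1 : Set G))) *
        Nat.card Y := by
    calc (Nat.card V₁ * Nat.card V₂ * Nat.card X) * Nat.card Y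
        = (Nat.card V₁ * Nat.card X) * (Nat.card V₂ * Nat.card Y) := by ring
      _ ≤ (Nat.card Y * Nat.card ↥(V₁ ⊓ centralizer (R : Set G))) *
            (Nat.card V * Nat.card ↥(V₂ ⊓ centralizer (R1 : Set G))) := Nat.mul_le_mul h1 h2
      _ = _ := by ring
  exact Nat.le_of_mul_le_mul_right h3 hYp

theorem pp_sup {k l : ℕ} {T V₁ V₂ : Subgroup G} (h1 : PP k l T V₁) (h2 : PP k l T V₂) : PP k l T (V₁ ⊔ V₂) := by
  intro R hR hA
  set R1 := R ⊓ centralizer (V₁ : Set G) with hR1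
  have e1 : R ⊓ centralizer ((V₁ ⊔ V₂ : Subgroup G) : Set G) = R1 ⊓ centralizer (V₂ : Set G) := by
    apply le_antisymm
    · exact le_inf (inf_le_inf_left R (cz_anti le_sup_left)) (inf_le_right.trans (cz_anti le_sup_right))
    · refine le_inf (inf_le_left.trans inf_le_left) ?_
      rw [Subgroup.le_centralizer_iff]
      exact sup_le (Subgroup.le_centralizer_iff.mp (inf_le_left.trans inf_le_right)) (Subgroup.le_centralizer_iff.mp inf_le_right)
  rw [e1]
  refine arith (r1 := Nat.card R1) (v1 := Nat.card V₁) (v2 := Nat.card V₂)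
    (x1 := Nat.card ↥(V₁ ⊓ centralizer (R : Set G))) (x2 := Nat.card ↥(V₂ ⊓ centralizer (R1 : Set G)))
    Nat.card_pos key_card ?_
  have hp : ∀ (K : Subgroup G) (n : ℕ), 0 < Nat.card K ^ n := fun K n => pow_pos Nat.card_pos n
  have hA2 : ∀ {R' : Subgroup G}, R' ≤ R → ¬ R' ≤ centralizer (V₂ : Set G) → Ac R' V₂ := by
    intro R' hR' hn
    exact ⟨(commutator_mono hR' hR').trans (hA.comm.trans (cz_anti le_sup_right)),
      fun r hr => cz_anti le_sup_right (hA.sq r (hR' hr)), hn⟩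
  by_cases c1 : R ≤ centralizer (V₁ : Set G)
  · have e2 : R1 = R := inf_eq_left.mpr c1
    have e3 : V₁ ⊓ centralizer (R : Set G) = V₁ := inf_eq_left.mpr (Subgroup.le_centralizer_iff.mp c1)
    have c2 : ¬ R ≤ centralizer (V₂ : Set G) := by
      intro c2
      apply hA.ne
      rw [Subgroup.le_centralizer_iff]
      exact sup_le (Subgroup.le_centralizer_iff.mp c1) (Subgroup.le_centralizer_iff.mp c2)
    have h4 := h2 R hR (hA2 le_rfl c2)
    rw [e2, e3]
    calc _ = (Nat.card R ^ k * Nat.card V₁ ^ l) * (Nat.card R ^ k * Nat.card ↥(V₂ ⊓ centralizer (R : Set G)) ^ l) := by ring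
      _ < (Nat.card R ^ k * Nat.card V₁ ^ l) * (Nat.card V₂ ^ l * Nat.card ↥(R ⊓ centralizer (V₂ : Set G)) ^ k) :=
        Nat.mul_lt_mul_of_pos_left h4 (Nat.mul_pos (hp _ _) (hp _ _))
      _ = _ := by ring
  · have h3 := h1 R hR (Ac.mono hA le_sup_left c1)
    by_cases c2 : R1 ≤ centralizer (V₂ : Set G)
    · have e2 : R1 ⊓ centralizer (V₂ : Set G) = R1 := inf_eq_left.mpr c2
      have e3 : V₂ ⊓ centralizer (R1 : Set G) = V₂ := inf_eq_left.mpr (Subgroup.le_centralizer_iff.mp c2)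
      rw [e2, e3]
      calc _ = (Nat.card R ^ k * Nat.card ↥(V₁ ⊓ centralizer (R : Set G)) ^ l) * (Nat.card R1 ^ k * Nat.card V₂ ^ l) := by ring
        _ < (Nat.card V₁ ^ l * Nat.card R1 ^ k) * (Nat.card R1 ^ k * Nat.card V₂ ^ l) :=
          Nat.mul_lt_mul_of_pos_right h3 (Nat.mul_pos (hp _ _) (hp _ _))
        _ = _ := by ring
    · have h4 := h2 R1 (inf_le_left.trans hR) (hA2 inf_le_left c2)
      exact Nat.mul_lt_mul'' h3 h4

theorem pp_finset_sup {k l : ℕ} {T : Subgroup G} {ι : Type*} (s : Finset ι) (f : ι → Subgroup G)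
    (h : ∀ i ∈ s, PP k l T (f i)) : PP k l T (s.sup f) :=
  Finset.sup_induction pp_bot (fun _ h1 _ h2 => pp_sup h1 h2) h

theorem pp_iSup {k l : ℕ} {T : Subgroup G} {ι : Type*} [Finite ι] (f : ι → Subgroup G)
    (h : ∀ i, PP k l T (f i)) : PP k l T (⨆ i, f i) := by
  classical
  have := Fintype.ofFinite ι
  rw [← Finset.sup_univ_eq_iSup]
  exact pp_finset_sup _ f (fun i _ => h i)

theorem pp_sSup {k l : ℕ} {T : Subgroup G} (𝒮 : Set (Subgroup G))
    (h : ∀ V ∈ 𝒮, PP k l T V) : PP k l T (sSup 𝒮) := by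
  rw [sSup_eq_iSup']
  exact pp_iSup _ (fun i => h i i.2)

end fin

section map
variable {G : Type*} [Group G] {G' : Type*} [Group G']

theorem mem_centralizer_map {f : G →* G'} (hf : Function.Injective f) {V : Subgroup G} {x : G} :
    f x ∈ centralizer ((V.map f : Subgroup G') : Set G') ↔ x ∈ centralizer (V : Set G) := by
  rw [mem_centralizer_iff, mem_centralizer_iff]
  constructor
  · intro h v hv
    apply hf
    rw [map_mul, map_mul]
    exact h _ ⟨v, hv, rfl⟩
  · rintro h _ ⟨v, hv, rfl⟩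
    rw [← map_mul, ← map_mul, h v hv]

theorem map_inf_centralizer {f : G →* G'} (hf : Function.Injective f) (A V : Subgroup G) :
    (A ⊓ centralizer (V : Set G)).map f = A.map f ⊓ centralizer ((V.map f : Subgroup G') : Set G') := by
  ext y
  constructor
  · rintro ⟨x, hx, rfl⟩
    exact ⟨⟨x, hx.1, rfl⟩, (mem_centralizer_map hf).mpr hx.2⟩
  · rintro ⟨⟨x, hx, rfl⟩, hy⟩
    exact ⟨x, ⟨hx, (mem_centralizer_map hf).mp hy⟩, rfl⟩

theorem card_map {f : G →* G'} (hf : Function.Injective f) (A : Subgroup G) : Nat.card ↥(A.map f) = Nat.card A :=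
  Subgroup.card_map_of_injective hf

theorem ac_map {f : G →* G'} (hf : Function.Injective f) {R V : Subgroup G} : Ac (R.map f) (V.map f) ↔ Ac R V := by
  constructor
  · intro h
    refine ⟨?_, ?_, ?_⟩
    · intro x hx
      rw [← mem_centralizer_map hf]
      apply h.comm
      rw [← Subgroup.map_commutator]
      exact ⟨x, hx, rfl⟩
    · intro r hr
      rw [← mem_centralizer_map hf, map_pow]
      exact h.sq _ ⟨r, hr, rfl⟩
    · intro hn
      apply h.ne
      rintro _ ⟨r, hr, rfl⟩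
      exact (mem_centralizer_map hf).mpr (hn hr)
  · intro h
    refine ⟨?_, ?_, ?_⟩
    · rw [← Subgroup.map_commutator]
      rintro _ ⟨x, hx, rfl⟩
      exact (mem_centralizer_map hf).mpr (h.comm hx)
    · rintro _ ⟨r, hr, rfl⟩
      rw [← map_pow]
      exact (mem_centralizer_map hf).mpr (h.sq r hr)
    · intro hn
      apply h.ne
      intro r hr
      exact (mem_centralizer_map hf).mp (hn ⟨r, hr, rfl⟩)

theorem pp_map {f : G →* G'} (hf : Function.Injective f) {k l : ℕ} {T V : Subgroup G} :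
    PP k l (T.map f) (V.map f) ↔ PP k l T V := by
  constructor
  · intro h R hR hA
    have h1 := h (R.map f) (Subgroup.map_mono hR) ((ac_map hf).mpr hA)
    rw [← map_inf_centralizer hf, ← map_inf_centralizer hf, card_map hf, card_map hf, card_map hf, card_map hf] at h1
    exact h1
  · intro h R' hR' hA
    obtain ⟨R, hR⟩ : ∃ R, R = R'.comap f := ⟨_, rfl⟩
    have e : R.map f = R' := by
      rw [hR, Subgroup.map_comap_eq, inf_eq_right]
      exact hR'.trans (Subgroup.map_le_range f T)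
    rw [← e] at hA ⊢
    have hRT : R ≤ T := by
      intro x hx
      have h1 : f x ∈ T.map f := hR' (by rw [hR] at hx; exact hx)
      obtain ⟨y, hy, hyx⟩ := h1
      rw [← hf hyx]; exact hy
    have h1 := h R hRT ((ac_map hf).mp hA)
    rw [← map_inf_centralizer hf, ← map_inf_centralizer hf, card_map hf, card_map hf, card_map hf, card_map hf]
    exact h1

theorem pp_conj {k l : ℕ} {T V : Subgroup G} (g : G) :
    PP k l (T.map (MulAut.conj g).toMonoidHom) (V.map (MulAut.conj g).toMonoidHom) ↔ PP k l T V :=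
  pp_map (MulAut.conj g).injective

end map

section more
variable {G : Type*} [Group G] [Finite G]

theorem pp_32_11 {T V : Subgroup G} (h : PP 3 2 T V) : PP 1 1 T V := by
  intro R hR hA
  have h1 := h R hR hA
  rw [pow_one, pow_one, pow_one, pow_one]
  by_contra hcon
  push Not at hcon
  set r := Nat.card R
  set x := Nat.card ↥(V ⊓ centralizer (R : Set G))
  set v := Nat.card V
  set s := Nat.card ↥(R ⊓ centralizer (V : Set G))
  have hsr : s ≤ r := Subgroup.card_le_of_le inf_le_left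
  have h2 : v ^ 2 * s ^ 3 ≤ r ^ 3 * x ^ 2 := by
    calc v ^ 2 * s ^ 3 = (v * s) ^ 2 * s := by ring
      _ ≤ (r * x) ^ 2 * r := Nat.mul_le_mul (Nat.pow_le_pow_left hcon 2) hsr
      _ = r ^ 3 * x ^ 2 := by ring
  exact absurd h1 (not_lt.mpr h2)

theorem maxE_le {S A V : Subgroup G} (hA : MaxE S A) (hV : V ≤ S) (hVe : IsElementaryAbelian 2 V)
    (hQ : PP 1 1 S V) : A ≤ centralizer (V : Set G) := by
  by_contra hn
  have hac : Ac A V := by
    refine ⟨?_, ?_, hn⟩
    · rw [commutator_eq_bot_iff_le_centralizer.mpr (elem_iff.mp hA.elem).1]; exact bot_le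
    · intro r hr
      rw [(elem_iff.mp hA.elem).2 r hr]; exact one_mem _
  have h1 := hQ A hA.le hac
  rw [pow_one, pow_one, pow_one, pow_one] at h1
  set A1 := A ⊓ centralizer (V : Set G) with hA1
  have hB : IsElementaryAbelian 2 (A1 ⊔ V) := elem_sup (elem_mono hA.elem inf_le_left) hVe inf_le_right
  have h2 := hA.max _ (sup_le (inf_le_left.trans hA.le) hV) hB
  have h3 := card_mul_le (A := A1) (B := V) (V := A1 ⊔ V) le_sup_left le_sup_right
  have h4 : Nat.card ↥(A1 ⊓ V) ≤ Nat.card ↥(V ⊓ centralizer (A : Set G)) := by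
    apply Subgroup.card_le_of_le
    exact le_inf inf_le_right ((inf_le_left.trans inf_le_left).trans (elem_iff.mp hA.elem).1)
  have h5 : Nat.card A1 * Nat.card V ≤ Nat.card A * Nat.card ↥(V ⊓ centralizer (A : Set G)) :=
    h3.trans (Nat.mul_le_mul h2 h4)
  rw [mul_comm (Nat.card V)] at h1
  exact absurd h1 (not_lt.mpr h5)

theorem JJ_le_of_pp {S V : Subgroup G} (hV : V ≤ S) (hVe : IsElementaryAbelian 2 V)
    (hQ : PP 1 1 S V) : JJ S ≤ centralizer (V : Set G) := sSup_le fun _ hA => maxE_le hA hV hVe hQ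

/-- transfer to all 2-subgroups of the normalizer -/
theorem pp_of_syl {k l : ℕ} {S T V : Subgroup G} (hS : IsSyl 2 S ⊤) (hSV : S ≤ normalizer (V : Set G))
    (hT : IsPGroup 2 T) (hTV : T ≤ normalizer (V : Set G)) (h : PP k l S V) : PP k l T V := by
  obtain ⟨n, hn, hle⟩ := (hS.of_le hSV le_top).exists_conj_le hT hTV
  rw [← pp_conj n, map_conj_eq_of_mem hn]
  exact PP.mono h hle

end more

end Cfsg.Agent.Lib.H34FB
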