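import Cfsg.Agent.Lib.H34ZMain

/-!
# Offender bound: conjugation form and dual form (helper34)
-/

set_option autoImplicit false
set_option linter.unusedSectionVars false

namespace Cfsg.Agent.Lib.H34ZOff

open Subgroup Cfsg Cfsg.Agent.Lib.H34SolvOff
open scoped commutatorElement

universe u

/-- the character group -/
def Dual (V : Type*) [CommGroup V] : Type _ := V →* ℂˣ

instance (V : Type*) [CommGroup V] : CommGroup (Dual V) := inferInstanceAs (CommGroup (V →* ℂˣ))

instance (V : Type*) [CommGroup V] [Finite V] : Finite (Dual V) := inferInstanceAs (Finite (V →* ℂˣ))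

/-- the contragredient action -/
def dualAct {G V : Type*} [Group G] [CommGroup V] (ρ : G →* MulAut V) : G →* MulAut (Dual V) :=
  MonoidHom.mk' (fun g =>
    { toFun := fun χ => MonoidHom.comp (χ : V →* ℂˣ) (ρ g⁻¹).toMonoidHom
      invFun := fun χ => MonoidHom.comp (χ : V →* ℂˣ) (ρ g).toMonoidHom
      left_inv := by
        intro χ
        apply MonoidHom.ext
        intro v
        show (show V →* ℂˣ from χ) (ρ g⁻¹ (ρ g v)) = (show V →* ℂˣ from χ) v
        rw [← MulAut.mul_apply, ← map_mul, inv_mul_cancel, map_one]; rfl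
      right_inv := by
        intro χ
        apply MonoidHom.ext
        intro v
        show (show V →* ℂˣ from χ) (ρ g (ρ g⁻¹ v)) = (show V →* ℂˣ from χ) v
        rw [← MulAut.mul_apply, ← map_mul, mul_inv_cancel, map_one]; rfl
      map_mul' := by
        intro χ ψ
        rfl }) (by
    intro g h
    apply MulEquiv.ext
    intro χ
    apply MonoidHom.ext
    intro v
    show (show V →* ℂˣ from χ) (ρ (g * h)⁻¹ v) = (show V →* ℂˣ from χ) (ρ h⁻¹ (ρ g⁻¹ v))
    rw [mul_inv_rev, map_mul]; rfl)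

theorem dualAct_apply {G V : Type*} [Group G] [CommGroup V] (ρ : G →* MulAut V) (g : G) (χ : V →* ℂˣ) (v : V) :
    (show V →* ℂˣ from dualAct ρ g χ) v = χ (ρ g⁻¹ v) := rfl

theorem dual_bound {G : Type u} [Group G] [Finite G] {V : Type*} [CommGroup V] [Finite V]
    (hV2 : ∀ v : V, v * v = 1) (ρ : G →* MulAut V) (hρ : Function.Injective ρ)
    (h2 : pCore 2 G = ⊥) (hS3 : ¬ Involves (Equiv.Perm (Fin 3)) G)
    (hK : IsCompositionKGroupWith IsSuzukiOrPSL2OddPowerThree G) (A : Subgroup G) (hA2 : ∀ a ∈ A, a * a = 1)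
    (W : Subgroup V) (hW : ∀ a ∈ A, ∀ v : V, v⁻¹ * ρ a v ∈ W) : Nat.card A ^ 2 ≤ Nat.card W := by
  have hcV : Nat.card (Dual V) = Nat.card V := CommGroup.card_monoidHom_of_hasEnoughRootsOfUnity V ℂ
  have hcW : Nat.card ((V ⧸ W) →* ℂˣ) = Nat.card (V ⧸ W) := CommGroup.card_monoidHom_of_hasEnoughRootsOfUnity (V ⧸ W) ℂ
  have hinj : Function.Injective (dualAct ρ) := by
    rw [injective_iff_map_eq_one]
    intro g hg
    have h1 : ∀ v, ρ g⁻¹ v = v := by
      intro v
      by_contra hne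
      have h3 : (ρ g⁻¹ v) * v⁻¹ ≠ 1 := fun h => hne (mul_inv_eq_one.mp h)
      obtain ⟨χ, hχ⟩ := CommGroup.exists_apply_ne_one_of_hasEnoughRootsOfUnity V ℂ h3
      apply hχ
      have h4 : (show V →* ℂˣ from dualAct ρ g χ) v = χ v := by rw [hg]; rfl
      rw [dualAct_apply] at h4
      rw [map_mul χ, h4, map_inv χ, mul_inv_cancel]
    have h2 : ρ g⁻¹ = 1 := by
      ext v
      exact h1 v
    have h3 : g⁻¹ = 1 := hρ (by rw [h2, map_one])
    exact inv_eq_one.mp h3
  have hb := H34ZMain.main (V := Dual V) (fun u v => mul_comm u v) (by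
    intro χ
    apply MonoidHom.ext
    intro v
    show (show V →* ℂˣ from χ) v * (show V →* ℂˣ from χ) v = 1
    rw [← map_mul, hV2, map_one]) (dualAct ρ) hinj h2 hS3 hK _ A rfl hA2
  have hle : Nat.card (V ⧸ W) ≤ Nat.card (fixSub (A.map (dualAct ρ))) := by
    rw [← hcW]
    let ι : ((V ⧸ W) →* ℂˣ) → Dual V := fun χ => χ.comp (QuotientGroup.mk' W)
    refine Nat.card_le_card_of_injective (fun χ : (V ⧸ W) →* ℂˣ =>
      (⟨ι χ, ?_⟩ : fixSub (A.map (dualAct ρ)))) ?_
    · rw [mem_fixSub]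
      rintro _ ⟨a, ha, rfl⟩
      apply MonoidHom.ext
      intro v
      show χ (QuotientGroup.mk (ρ a⁻¹ v)) = χ (QuotientGroup.mk v)
      congr 1
      symm
      rw [QuotientGroup.eq]
      exact hW a⁻¹ (inv_mem ha) v
    · intro χ ψ h
      have h1 : χ.comp (QuotientGroup.mk' W) = ψ.comp (QuotientGroup.mk' W) :=
        congrArg (fixSub (A.map (dualAct ρ))).subtype h
      apply MonoidHom.ext
      intro v
      obtain ⟨v, rfl⟩ := QuotientGroup.mk'_surjective W v
      exact DFunLike.congr_fun h1 v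
  have hc := Subgroup.card_eq_card_quotient_mul_card_subgroup W
  have hpos : 0 < Nat.card (V ⧸ W) := Nat.card_pos
  have h5 : Nat.card (V ⧸ W) * Nat.card A ^ 2 ≤ Nat.card (V ⧸ W) * Nat.card W := by
    calc Nat.card (V ⧸ W) * Nat.card A ^ 2 = Nat.card A ^ 2 * Nat.card (V ⧸ W) := by ring
      _ ≤ Nat.card A ^ 2 * Nat.card (fixSub (A.map (dualAct ρ))) := Nat.mul_le_mul_left _ hle
      _ ≤ Nat.card (Dual V) := hb
      _ = Nat.card (V ⧸ W) * Nat.card W := by rw [hcV, hc]
  exact Nat.le_of_mul_le_mul_left h5 hpos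

section act
variable {L : Type u} [Group L] [Finite L]

/-- the conjugation action -/
noncomputable def conjAct {M G : Subgroup L} (hGM : G ≤ normalizer (M : Set L)) : G →* MulAut M :=
  M.normalizerMonoidHom.comp (Subgroup.inclusion hGM)

theorem conjAct_apply {M G : Subgroup L} (hGM : G ≤ normalizer (M : Set L)) (g : G) (v : M) :
    ((conjAct hGM g v : M) : L) = g * v * (g : L)⁻¹ := rfl

theorem conjAct_inj {M G : Subgroup L} (hGM : G ≤ normalizer (M : Set L))
    (hf : G ⊓ centralizer (M : Set L) = ⊥) : Function.Injective (conjAct hGM) := by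
  rw [injective_iff_map_eq_one]
  intro g hg
  have h1 : (g : L) ∈ G ⊓ centralizer (M : Set L) := by
    refine ⟨g.2, ?_⟩
    show (g : L) ∈ centralizer (M : Set L)
    rw [mem_centralizer_iff]
    intro v hv
    have h2 : ((conjAct hGM g ⟨v, hv⟩ : M) : L) = v := by rw [hg]; rfl
    rw [conjAct_apply] at h2
    exact (mul_inv_eq_iff_eq_mul.mp h2).symm
  rw [hf, mem_bot] at h1
  exact Subtype.ext h1

theorem card_fix {M G : Subgroup L} (hGM : G ≤ normalizer (M : Set L)) {A : Subgroup L} :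
    Nat.card ↥(M ⊓ centralizer (A : Set L)) ≤ Nat.card (fixSub ((A.subgroupOf G).map (conjAct hGM))) := by
  refine Nat.card_le_card_of_injective (fun v : ↥(M ⊓ centralizer (A : Set L)) =>
    (⟨⟨v, v.2.1⟩, ?_⟩ : fixSub ((A.subgroupOf G).map (conjAct hGM)))) ?_
  · rw [mem_fixSub]
    rintro _ ⟨a, ha, rfl⟩
    apply Subtype.ext
    rw [conjAct_apply]
    have h1 := mem_centralizer_iff.mp v.2.2 a ha
    show (a : L) * v * (a : L)⁻¹ = v
    rw [h1, mul_inv_cancel_right]
  · intro v w h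
    have h1 : (⟨v, v.2.1⟩ : M) = ⟨w, w.2.1⟩ := congrArg (fixSub ((A.subgroupOf G).map (conjAct hGM))).subtype h
    have h2 : (v : L) = w := congrArg M.subtype h1
    exact Subtype.ext h2

theorem bound (M G : Subgroup L) (hMc : ∀ x ∈ M, ∀ y ∈ M, x * y = y * x) (hM2 : ∀ x ∈ M, x * x = 1)
    (hGM : G ≤ Subgroup.normalizer (M : Set L)) (hf : G ⊓ Subgroup.centralizer (M : Set L) = ⊥)
    (ha : Cfsg.pCore 2 ↥G = ⊥) (hb : ¬ Cfsg.Involves (Equiv.Perm (Fin 3)) ↥G)
    (hc : Cfsg.IsCompositionKGroupWith Cfsg.IsSuzukiOrPSL2OddPowerThree ↥G) (A : Subgroup L) (hA : A ≤ G)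
    (hA2 : ∀ x ∈ A, x * x = 1) :
    Nat.card A ^ 2 * Nat.card ↥(M ⊓ Subgroup.centralizer (A : Set L)) ≤ Nat.card M ∧ Nat.card A ^ 2 ≤ Nat.card ↥⁅M, A⁆ := by
  have hcA : Nat.card (A.subgroupOf G) = Nat.card A := Nat.card_congr (Subgroup.subgroupOfEquivOfLe hA).toEquiv
  have hA2' : ∀ a ∈ A.subgroupOf G, a * a = 1 := fun a ha => Subtype.ext (hA2 a ha)
  have hcomm : ∀ u v : M, u * v = v * u := fun u v => Subtype.ext (hMc u u.2 v v.2)
  have hexp : ∀ v : M, v * v = 1 := fun v => Subtype.ext (hM2 v v.2)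
  constructor
  · have h1 := H34ZMain.main hcomm hexp (conjAct hGM) (conjAct_inj hGM hf) ha hb hc _ (A.subgroupOf G) rfl hA2'
    rw [hcA] at h1
    exact (Nat.mul_le_mul_left _ (card_fix hGM)).trans h1
  · let _ : CommGroup M := { (inferInstance : Group M) with mul_comm := hcomm }
    have hMA : ⁅M, A⁆ ≤ M := by
      rw [Subgroup.commutator_comm, ← le_normalizer_iff_commutator_le_right]
      exact hA.trans hGM
    have h1 := dual_bound hexp (conjAct hGM) (conjAct_inj hGM hf) ha hb hc (A.subgroupOf G) hA2'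
      ((⁅M, A⁆).subgroupOf M) (by
        intro a ha v
        rw [mem_subgroupOf]
        show (v : L)⁻¹ * (a * v * (a : L)⁻¹) ∈ ⁅M, A⁆
        have h2 : (v : L)⁻¹ * (a * v * (a : L)⁻¹) = ⁅(v : L)⁻¹, (a : L)⁆ := by
          rw [commutatorElement_def]; group
        rw [h2]
        exact commutator_mem_commutator (inv_mem v.2) ha)
    rw [hcA, Nat.card_congr (Subgroup.subgroupOfEquivOfLe hMA).toEquiv] at h1
    exact h1

end act

end Cfsg.Agent.Lib.H34ZOff
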