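import Cfsg.Agent.Lib.SfThomp
import Cfsg.Agent.Lib.H34ZOff

/-!
# Offender inequalities (helper34): definitions for the factorizations behind S2796, S2753
-/

set_option autoImplicit false
set_option linter.unusedSectionVars false

namespace Cfsg.Agent.Lib.H34FDef

open Subgroup Cfsg

/-- `R` acts on `V` as a nontrivial elementary abelian 2-group -/
structure Ac {G : Type*} [Group G] (R V : Subgroup G) : Prop where
  comm : ⁅R, R⁆ ≤ centralizer (V : Set G)
  sq : ∀ r ∈ R, r ^ 2 ∈ centralizer (V : Set G)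
  ne : ¬ R ≤ centralizer (V : Set G)

/-- `|R / C_R(V)| ^ k < |V / C_V(R)| ^ l` for all `R ≤ T` acting as a nontrivial elementary abelian 2-group -/
def PP {G : Type*} [Group G] (k l : ℕ) (T V : Subgroup G) : Prop :=
  ∀ R : Subgroup G, R ≤ T → Ac R V →
    Nat.card R ^ k * Nat.card ↥(V ⊓ centralizer (R : Set G)) ^ l <
      Nat.card V ^ l * Nat.card ↥(R ⊓ centralizer (V : Set G)) ^ k

end Cfsg.Agent.Lib.H34FDef
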