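import Cfsg.Agent.Lib.H34FDef

/-!
# E-groups and the functor `Ĵ` (helper30, for helper34's S2753): the chain lemma
-/

set_option autoImplicit false
set_option linter.unusedSectionVars false

namespace Cfsg.Agent.Lib.H34FE

open Subgroup Cfsg Cfsg.Agent.Lib.SfAct Cfsg.Agent.Lib.LocBase Cfsg.Agent.Lib.SfMin Cfsg.Agent.Lib.PReduced
open Cfsg.Agent.Lib.SfRel Cfsg.Agent.Lib.SfThomp Cfsg.Agent.Lib.H34FDef

universe u

/-- the second inequality: `|R / C_R(V)| < |[V, R]|` -/
def P2 {G : Type*} [Group G] (T V : Subgroup G) : Prop :=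
  ∀ R : Subgroup G, R ≤ T → Ac R V → Nat.card R < Nat.card ↥⁅V, R⁆ * Nat.card ↥(R ⊓ centralizer (V : Set G))

/-- E-groups inside an ambient group -/
def EG {G : Type*} [Group G] (U : Subgroup G) : Prop :=
  ∀ V : Subgroup G, V ≤ U → U ≤ normalizer (V : Set G) → IsElementaryAbelian 2 V → PP 3 2 U V → P2 U V →
    U ≤ centralizer (V : Set G)

theorem Ac.mono {G : Type*} [Group G] {R V W : Subgroup G} (h : Ac R V) (hW : W ≤ V) (hne : ¬ R ≤ centralizer (W : Set G)) :
    Ac R W where
  comm := h.comm.trans (centralizer_le hW)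
  sq := fun r hr => centralizer_le hW (h.sq r hr)
  ne := hne

theorem Ac.mono_left {G : Type*} [Group G] {R R' V : Subgroup G} (h : Ac R V) (hR : R' ≤ R) (hne : ¬ R' ≤ centralizer (V : Set G)) :
    Ac R' V where
  comm := (commutator_mono hR hR).trans h.comm
  sq := fun r hr => h.sq r (hR hr)
  ne := hne

theorem PP.mono {G : Type*} [Group G] {k l : ℕ} {T T' V : Subgroup G} (h : PP k l T V) (hT : T' ≤ T) : PP k l T' V :=
  fun R hR hA => h R (hR.trans hT) hA

theorem P2.mono {G : Type*} [Group G] {T T' V : Subgroup G} (h : P2 T V) (hT : T' ≤ T) : P2 T' V :=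
  fun R hR hA => h R (hR.trans hT) hA

section iso

variable {G T : Type*} [Group G] [Group T] {f : T →* G} (hf : Function.Injective f)

include hf in
theorem map_inf_centralizer (A B : Subgroup T) :
    (A ⊓ centralizer (B : Set T)).map f = A.map f ⊓ centralizer ((B.map f : Subgroup G) : Set G) := by
  ext x
  constructor
  · rintro ⟨a, ⟨ha, hc⟩, rfl⟩
    refine ⟨⟨a, ha, rfl⟩, ?_⟩
    show f a ∈ centralizer _
    rw [mem_centralizer_iff]
    rintro _ ⟨b, hb, rfl⟩
    rw [← map_mul, ← map_mul, mem_centralizer_iff.mp hc b hb]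
  · rintro ⟨⟨a, ha, rfl⟩, hc⟩
    refine ⟨a, ⟨ha, ?_⟩, rfl⟩
    show a ∈ centralizer _
    rw [mem_centralizer_iff]
    intro b hb
    apply hf
    rw [map_mul, map_mul]
    exact mem_centralizer_iff.mp hc _ ⟨b, hb, rfl⟩

include hf in
theorem map_le_centralizer_iff {A B : Subgroup T} :
    A.map f ≤ centralizer ((B.map f : Subgroup G) : Set G) ↔ A ≤ centralizer (B : Set T) := by
  constructor
  · intro h a ha
    rw [mem_centralizer_iff]
    intro b hb
    apply hf
    rw [map_mul, map_mul]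
    exact mem_centralizer_iff.mp (h ⟨a, ha, rfl⟩) _ ⟨b, hb, rfl⟩
  · rintro h _ ⟨a, ha, rfl⟩
    rw [mem_centralizer_iff]
    rintro _ ⟨b, hb, rfl⟩
    rw [← map_mul, ← map_mul, mem_centralizer_iff.mp (h ha) b hb]

include hf in
theorem map_mem_centralizer_iff {a : T} {B : Subgroup T} :
    f a ∈ centralizer ((B.map f : Subgroup G) : Set G) ↔ a ∈ centralizer (B : Set T) := by
  constructor
  · intro h
    rw [mem_centralizer_iff]
    intro b hb
    apply hf
    rw [map_mul, map_mul]
    exact mem_centralizer_iff.mp h _ ⟨b, hb, rfl⟩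
  · intro h
    rw [mem_centralizer_iff]
    rintro _ ⟨b, hb, rfl⟩
    rw [← map_mul, ← map_mul, mem_centralizer_iff.mp h b hb]

include hf in
theorem ac_map {R V : Subgroup T} : Ac (R.map f) (V.map f) ↔
    (⁅R, R⁆ ≤ centralizer (V : Set T) ∧ (∀ r ∈ R, r ^ 2 ∈ centralizer (V : Set T)) ∧ ¬ R ≤ centralizer (V : Set T)) := by
  constructor
  · intro h
    refine ⟨?_, ?_, fun hh => h.ne ((map_le_centralizer_iff hf).mpr hh)⟩
    · rw [← map_le_centralizer_iff hf, map_commutator]; exact h.comm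
    · intro r hr
      rw [← map_mem_centralizer_iff hf, map_pow]
      exact h.sq _ ⟨r, hr, rfl⟩
  · rintro ⟨h1, h2, h3⟩
    refine ⟨?_, ?_, fun hh => h3 ((map_le_centralizer_iff hf).mp hh)⟩
    · rw [← map_commutator, map_le_centralizer_iff hf]; exact h1
    · rintro _ ⟨r, hr, rfl⟩
      rw [← map_pow, map_mem_centralizer_iff hf]
      exact h2 r hr

include hf in
theorem card_map_eq (A : Subgroup T) : Nat.card ↥(A.map f) = Nat.card A := Subgroup.card_map_of_injective hf

include hf in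
theorem isE_iff : IsEGroup T ↔ EG f.range := by
  have key : ∀ V : Subgroup T, ((∀ R : Subgroup T,
      ⁅R, R⁆ ≤ Subgroup.centralizer (V : Set T) → (∀ r ∈ R, r ^ 2 ∈ Subgroup.centralizer (V : Set T)) →
      ¬ R ≤ Subgroup.centralizer (V : Set T) →
        (Nat.card V) ^ 2 * (Nat.card ↥(R ⊓ Subgroup.centralizer (V : Set T))) ^ 3 >
            (Nat.card R) ^ 3 * (Nat.card ↥(V ⊓ Subgroup.centralizer (R : Set T))) ^ 2 ∧
          Nat.card ↥⁅V, R⁆ * Nat.card ↥(R ⊓ Subgroup.centralizer (V : Set T)) > Nat.card R) ↔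
      (PP 3 2 f.range (V.map f) ∧ P2 f.range (V.map f))) := by
    intro V
    have hcard : ∀ R : Subgroup T, Nat.card ↥(V ⊓ centralizer (R : Set T)) =
        Nat.card ↥(V.map f ⊓ centralizer ((R.map f : Subgroup G) : Set G)) := by
      intro R
      rw [← map_inf_centralizer hf, card_map_eq hf]
    have hcard' : ∀ R : Subgroup T, Nat.card ↥(R ⊓ centralizer (V : Set T)) =
        Nat.card ↥(R.map f ⊓ centralizer ((V.map f : Subgroup G) : Set G)) := by
      intro R
      rw [← map_inf_centralizer hf, card_map_eq hf]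
    have hcard2 : ∀ R : Subgroup T, Nat.card ↥⁅V, R⁆ = Nat.card ↥⁅V.map f, R.map f⁆ := by
      intro R
      rw [← map_commutator, card_map_eq hf]
    constructor
    · intro h
      have h' : ∀ R : Subgroup G, R ≤ f.range → Ac R (V.map f) →
          (Nat.card R ^ 3 * Nat.card ↥(V.map f ⊓ centralizer (R : Set G)) ^ 2 <
            Nat.card ↥(V.map f) ^ 2 * Nat.card ↥(R ⊓ centralizer ((V.map f : Subgroup G) : Set G)) ^ 3) ∧
          Nat.card R < Nat.card ↥⁅V.map f, R⁆ * Nat.card ↥(R ⊓ centralizer ((V.map f : Subgroup G) : Set G)) := by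
        intro R hR hA
        have hRe : (R.comap f).map f = R := map_comap_eq_self hR
        rw [← hRe] at hA ⊢
        obtain ⟨h1, h2, h3⟩ := (ac_map hf).mp hA
        obtain ⟨h4, h5⟩ := h _ h1 h2 h3
        rw [card_map_eq hf, card_map_eq hf, ← hcard, ← hcard', ← hcard2]
        exact ⟨h4, h5⟩
      exact ⟨fun R hR hA => (h' R hR hA).1, fun R hR hA => (h' R hR hA).2⟩
    · rintro ⟨hp, hq⟩ R h1 h2 h3
      have hA := (ac_map hf).mpr ⟨h1, h2, h3⟩
      have hR : R.map f ≤ f.range := map_le_range f R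
      have h4 := hp _ hR hA
      have h5 := hq _ hR hA
      rw [card_map_eq hf, card_map_eq hf, ← hcard, ← hcard'] at h4
      rw [card_map_eq hf, ← hcard', ← hcard2] at h5
      exact ⟨h4, h5⟩
  constructor
  · intro h V hV hN hVe hp hq
    have hVf : (V.comap f).map f = V := map_comap_eq_self hV
    rw [← hVf] at hVe hp hq ⊢
    have hn : (V.comap f).Normal := by
      constructor
      intro v hv t
      have h1 : f t ∈ normalizer (V : Set G) := hN ⟨t, rfl⟩
      have h2 := (mem_normalizer_iff.mp h1 (f v)).mp hv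
      show f (t * v * t⁻¹) ∈ V
      rw [map_mul, map_mul, map_inv]
      exact h2
    have h1 := h _ hn ((elem_map_iff hf).mp hVe) ((key _).mpr ⟨hp, hq⟩)
    rintro _ ⟨t, rfl⟩
    rw [map_mem_centralizer_iff hf, mem_centralizer_iff]
    intro v hv
    exact (mem_center_iff.mp (h1 hv) t).symm
  · intro h V hn hVe hp
    obtain ⟨h1, h2⟩ := (key V).mp hp
    have h3 := h (V.map f) (map_le_range f V) (by
      rintro _ ⟨t, rfl⟩
      rw [mem_normalizer_iff]
      intro x
      constructor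
      · rintro ⟨v, hv, rfl⟩
        exact ⟨t * v * t⁻¹, hn.conj_mem v hv t, by rw [map_mul, map_mul, map_inv]⟩
      · rintro ⟨v, hv, e⟩
        refine ⟨t⁻¹ * v * t, ?_, ?_⟩
        · have := hn.conj_mem v hv t⁻¹
          rwa [inv_inv] at this
        · rw [map_mul, map_mul, map_inv, e]; group) (elem_map hVe f) h1 h2
    intro v hv
    rw [mem_center_iff]
    intro t
    have h4 : t ∈ centralizer (V : Set T) := (map_mem_centralizer_iff hf).mp (h3 ⟨t, rfl⟩)
    exact (mem_centralizer_iff.mp h4 v hv).symm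

end iso

variable {G : Type u} [Group G] [Finite G]

theorem isE_map_iff {S : Subgroup G} (U : Subgroup ↥S) : IsEGroup ↥U ↔ EG (U.map S.subtype) := by
  have hinj : Function.Injective (S.subtype.comp U.subtype) := S.subtype_injective.comp U.subtype_injective
  rw [isE_iff hinj, MonoidHom.range_comp, U.range_subtype]

theorem eg_map_conj {U : Subgroup G} (h : EG U) (g : G) : EG (U.map (MulAut.conj g).toMonoidHom) := by
  have h1 : IsEGroup ↥U := (isE_iff (f := U.subtype) U.subtype_injective).mpr (by rwa [U.range_subtype])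
  have hinj : Function.Injective ((MulAut.conj g).toMonoidHom.comp U.subtype) :=
    (MulAut.conj g).injective.comp U.subtype_injective
  have h2 := (isE_iff hinj).mp h1
  rwa [MonoidHom.range_comp, U.range_subtype] at h2

/-! ### index form -/

theorem pp_iff {k l : ℕ} {T V : Subgroup G} : PP k l T V ↔ ∀ R : Subgroup G, R ≤ T → Ac R V →
    ((centralizer (V : Set G)).relIndex R) ^ k < ((centralizer (R : Set G)).relIndex V) ^ l := by
  unfold PP
  refine forall_congr' fun R => forall_congr' fun hR => forall_congr' fun hA => ?_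
  have e1 := FrakM.card_mul_relIndex (inf_le_left : R ⊓ centralizer (V : Set G) ≤ R)
  have e2 := FrakM.card_mul_relIndex (inf_le_left : V ⊓ centralizer (R : Set G) ≤ V)
  rw [Subgroup.inf_relIndex_left] at e1 e2
  have p1 : 0 < Nat.card ↥(R ⊓ centralizer (V : Set G)) := Nat.card_pos
  have p2 : 0 < Nat.card ↥(V ⊓ centralizer (R : Set G)) := Nat.card_pos
  rw [← e1, ← e2]
  set a := Nat.card ↥(R ⊓ centralizer (V : Set G))
  set b := Nat.card ↥(V ⊓ centralizer (R : Set G))
  set m := (centralizer (V : Set G)).relIndex R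
  set n := (centralizer (R : Set G)).relIndex V
  have h1 : (a * m) ^ k * b ^ l = (a ^ k * b ^ l) * m ^ k := by rw [mul_pow]; ring
  have h2 : (b * n) ^ l * a ^ k = (a ^ k * b ^ l) * n ^ l := by rw [mul_pow]; ring
  rw [h1, h2]
  exact Nat.mul_lt_mul_left (Nat.mul_pos (Nat.pow_pos p1) (Nat.pow_pos p2))

theorem maxE_le {S A V : Subgroup G} (hA : MaxE S A) (hV : V ≤ S) (hVe : IsElementaryAbelian 2 V)
    (hQ : PP 3 2 S V) : A ≤ centralizer (V : Set G) := by
  by_contra hne
  have hAc : Ac A V := by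
    refine ⟨?_, ?_, hne⟩
    · have : ⁅A, A⁆ = ⊥ := by
        rw [commutator_eq_bot_iff_le_centralizer]
        exact (elem_iff.mp hA.elem).1
      rw [this]; exact bot_le
    · intro r hr
      rw [hA.elem.2 r hr]; exact one_mem _
  have h1 := pp_iff.mp hQ A hA.le hAc
  have hVC : V ≤ centralizer (V : Set G) := (elem_iff.mp hVe).1
  set m := (centralizer (V : Set G)).relIndex A with hm
  have hmp : 0 < m := ri_pos _ _
  set A₀ := A ⊓ centralizer (V : Set G) with hA₀
  have hB : IsElementaryAbelian 2 (A₀ ⊔ V) :=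
    elem_sup (elem_mono hA.elem inf_le_left) hVe inf_le_right
  have h2 := hA.max _ (sup_le (inf_le_left.trans hA.le) hV) hB
  have hAV : A ⊓ V ≤ V ⊓ centralizer (A : Set G) :=
    le_inf inf_le_right (inf_le_left.trans (elem_iff.mp hA.elem).1)
  have e1 : A₀.relIndex (A₀ ⊔ V) = A₀.relIndex V :=
    LocTrace.relIndex_sup_of_le_normalizer ((Subgroup.le_centralizer_iff.mp inf_le_right).trans (centralizer_le_normalizer _))
  have e2 := FrakM.card_mul_relIndex (le_sup_left : A₀ ≤ A₀ ⊔ V)
  have e3 := FrakM.card_mul_relIndex (inf_le_left : A₀ ≤ A)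
  rw [Subgroup.inf_relIndex_left, ← hm] at e3
  have h3 : A₀.relIndex V ≤ m := by
    rw [e1] at e2
    rw [← e2, ← e3] at h2
    exact Nat.le_of_mul_le_mul_left h2 Nat.card_pos
  have h4 : (centralizer (A : Set G)).relIndex V ≤ A₀.relIndex V := by
    have h5 : A₀ ⊓ V ≤ centralizer (A : Set G) ⊓ V := by
      apply le_inf _ inf_le_right
      exact (inf_le_inf_right V inf_le_left).trans (hAV.trans inf_le_right)
    rw [← Subgroup.inf_relIndex_right A₀ V, ← Subgroup.inf_relIndex_right (centralizer (A : Set G)) V]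
    exact Subgroup.relIndex_le_of_le_left h5 (ri_pos _ _).ne'
  have h5 : (centralizer (A : Set G)).relIndex V ≤ m := h4.trans h3
  have h6 : ((centralizer (A : Set G)).relIndex V) ^ 2 ≤ m ^ 2 := Nat.pow_le_pow_left h5 2
  have h7 : m ^ 2 ≤ m ^ 3 := Nat.pow_le_pow_right hmp (by norm_num)
  omega

theorem le_maxE {T A V : Subgroup G} (hA : MaxE T A) (hV : V ≤ T) (hVe : IsElementaryAbelian 2 V)
    (h : A ≤ centralizer (V : Set G)) : V ≤ A := by
  have h1 : IsElementaryAbelian 2 (V ⊔ A) := elem_sup hVe hA.elem (le_centralizer_iff.mp h)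
  have h2 := hA.max _ (sup_le hV hA.le) h1
  have h3 : A = V ⊔ A := Subgroup.eq_of_le_of_card_ge le_sup_right h2
  exact le_sup_left.trans h3.symm.le

/-! ### the functor -/

/-- `Ĵ` -/
def Jh (J T : Subgroup G) : Subgroup G := sSup {U | U ≤ T ∧ EG U ∧ J ≤ U}

theorem Jh_le (J T : Subgroup G) : Jh J T ≤ T := sSup_le fun _ hU => hU.1

/-- normal elementary abelian subgroups with both inequalities -/
theorem Jh_eq {T V : Subgroup G} (hVT : V ≤ T) (hTV : T ≤ normalizer (V : Set G)) (hVe : IsElementaryAbelian 2 V)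
    (hp : PP 3 2 T V) (hq : P2 T V) :
    V ≤ JJ T ∧ JJ (T ⊓ centralizer (V : Set G)) = JJ T ∧
      Jh (JJ T) T = Jh (JJ T) (T ⊓ centralizer (V : Set G)) := by
  have hVJ : V ≤ JJ T := by
    obtain ⟨A, hA⟩ := exists_maxE T
    exact (le_maxE hA hVT hVe (maxE_le hA hVT hVe hp)).trans (le_JJ hA)
  have hJC : JJ T ≤ centralizer (V : Set G) := sSup_le fun A hA => maxE_le hA hVT hVe hp
  refine ⟨hVJ, JJ_eq (le_inf (JJ_le T) hJC) inf_le_left, ?_⟩
  unfold Jh
  congr 1
  ext U
  constructor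
  · rintro ⟨h1, h2, h3⟩
    exact ⟨le_inf h1 (h2 V (hVJ.trans h3) (h1.trans hTV) hVe (PP.mono hp h1) (P2.mono hq h1)), h2, h3⟩
  · rintro ⟨h1, h2, h3⟩
    exact ⟨h1.trans inf_le_left, h2, h3⟩

theorem pp_step {T V D : Subgroup G} (hVD : V ≤ D) (hDe : IsElementaryAbelian 2 D) (hp : PP 3 2 T V)
    (hD : PP 3 2 (T ⊓ centralizer (V : Set G)) D) : PP 3 2 T D := by
  rw [pp_iff] at hp hD ⊢
  intro R hR hA
  set R1 := R ⊓ centralizer (V : Set G) with hR1
  set m1 := (centralizer (V : Set G)).relIndex R with hm1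
  set m2 := (centralizer (D : Set G)).relIndex R1 with hm2
  set f1 := (centralizer (R : Set G)).relIndex V with hf1
  set f2 := (centralizer (R1 : Set G)).relIndex D with hf2
  have pm1 : 0 < m1 := ri_pos _ _
  have pm2 : 0 < m2 := ri_pos _ _
  have pf1 : 0 < f1 := ri_pos _ _
  have pf2 : 0 < f2 := ri_pos _ _
  -- multiplicativity
  have hCD : centralizer (D : Set G) ≤ centralizer (V : Set G) := centralizer_le hVD
  have em : (centralizer (D : Set G)).relIndex R = m2 * m1 := by
    have h1 := Subgroup.relIndex_mul_relIndex (R1 ⊓ centralizer (D : Set G)) R1 R inf_le_left inf_le_left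
    have h2 : R1 ⊓ centralizer (D : Set G) = R ⊓ centralizer (D : Set G) := by
      rw [hR1, inf_assoc, inf_eq_right.mpr hCD]
    rw [Subgroup.inf_relIndex_left, ← hm2, hR1, Subgroup.inf_relIndex_left, ← hm1, ← hR1, h2,
      Subgroup.inf_relIndex_left] at h1
    exact h1.symm
  have ef : f1 * f2 ≤ (centralizer (R : Set G)).relIndex D := by
    have hC : D ⊓ centralizer (R : Set G) ≤ D ⊓ centralizer (R1 : Set G) :=
      inf_le_inf_left D (centralizer_le inf_le_left)
    have h1 := Subgroup.relIndex_mul_relIndex (D ⊓ centralizer (R : Set G)) (D ⊓ centralizer (R1 : Set G)) D hC inf_le_left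
    rw [Subgroup.inf_relIndex_left, Subgroup.inf_relIndex_left, ← hf2] at h1
    rw [← h1]
    apply Nat.mul_le_mul_right
    have h2 : V ≤ D ⊓ centralizer (R1 : Set G) := le_inf hVD (le_centralizer_iff.mp inf_le_right)
    have h3 : f1 = (D ⊓ centralizer (R : Set G)).relIndex V := by
      rw [hf1, ← Subgroup.inf_relIndex_right, ← Subgroup.inf_relIndex_right (D ⊓ centralizer (R : Set G))]
      congr 1
      rw [inf_assoc, inf_comm D, inf_assoc, inf_eq_left.mpr hVD]
    rw [h3]
    exact Subgroup.relIndex_le_of_le_right h2 (ri_pos _ _).ne'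
  have h1 : m1 ^ 3 ≤ f1 ^ 2 ∧ (¬ R ≤ centralizer (V : Set G) → m1 ^ 3 < f1 ^ 2) := by
    by_cases hc : R ≤ centralizer (V : Set G)
    · have : m1 = 1 := Subgroup.relIndex_eq_one.mpr hc
      rw [this, one_pow]
      exact ⟨Nat.pow_pos pf1, fun h => absurd hc h⟩
    · have := hp R hR (Ac.mono hA hVD hc)
      exact ⟨this.le, fun _ => this⟩
  have h2 : m2 ^ 3 ≤ f2 ^ 2 ∧ (¬ R1 ≤ centralizer (D : Set G) → m2 ^ 3 < f2 ^ 2) := by
    by_cases hc : R1 ≤ centralizer (D : Set G)
    · have : m2 = 1 := Subgroup.relIndex_eq_one.mpr hc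
      rw [this, one_pow]
      exact ⟨Nat.pow_pos pf2, fun h => absurd hc h⟩
    · have := hD R1 (inf_le_inf_right _ hR) (Ac.mono_left hA inf_le_left hc)
      exact ⟨this.le, fun _ => this⟩
  have h3 : m1 ^ 3 < f1 ^ 2 ∨ m2 ^ 3 < f2 ^ 2 := by
    by_cases hc : R ≤ centralizer (V : Set G)
    · right
      apply h2.2
      intro hh
      apply hA.ne
      have : R1 = R := inf_eq_left.mpr hc
      rwa [this] at hh
    · exact Or.inl (h1.2 hc)
  rw [em]
  have h4 : (m2 * m1) ^ 3 < (f1 * f2) ^ 2 := by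
    rw [mul_pow, mul_pow, mul_comm (m2 ^ 3)]
    rcases h3 with h | h
    · exact Nat.mul_lt_mul_of_lt_of_le h h2.1 (Nat.pow_pos pf2)
    · exact Nat.mul_lt_mul_of_le_of_lt h1.1 h (Nat.pow_pos pf1)
  exact h4.trans_le (Nat.pow_le_pow_left ef 2)

theorem chain (J : Subgroup G) : ∀ (n : ℕ) (T : Subgroup G), Nat.card T = n → JJ T = J →
    J ≤ Jh J T ∧ PP 3 2 T (OZ 2 (Jh J T)) := by
  intro n
  induction n using Nat.strong_induction_on with
  | _ n ih =>
    intro T hn hJ
    by_cases hE : EG T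
    · have h1 : Jh J T = T := le_antisymm (Jh_le J T) (le_sSup ⟨le_rfl, hE, hJ ▸ JJ_le T⟩)
      rw [h1]
      refine ⟨hJ ▸ JJ_le T, fun R hR hA => absurd (hR.trans (le_centralizer_OZ T)) hA.ne⟩
    · unfold EG at hE
      push Not at hE
      obtain ⟨V, hVT, hTV, hVe, hp, hq, hne⟩ := hE
      obtain ⟨hVJ, hJ2, hJh⟩ := Jh_eq hVT hTV hVe hp hq
      rw [hJ] at hVJ hJ2 hJh
      have hlt : Nat.card ↥(T ⊓ centralizer (V : Set G)) < n := by
        rw [← hn]
        apply lt_of_le_of_ne (Subgroup.card_le_of_le inf_le_left)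
        intro h
        apply hne
        have : T ⊓ centralizer (V : Set G) = T := Subgroup.eq_of_le_of_card_ge inf_le_left h.ge
        exact this ▸ inf_le_right
      obtain ⟨i1, i2⟩ := ih _ hlt _ rfl hJ2
      rw [← hJh] at i1 i2
      refine ⟨i1, pp_step ?_ (elem_OZ 2 _) hp i2⟩
      intro v hv
      rw [mem_OZ]
      refine ⟨i1 (hVJ hv), ?_, hVe.2 v hv⟩
      have h3 : Jh J T ≤ centralizer (V : Set G) := by
        rw [hJh]; exact (Jh_le _ _).trans inf_le_right
      exact le_centralizer_iff.mp h3 hv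

/-! ### conjugation, comparison with `jHat` -/

theorem Jh_map_conj_le {J T : Subgroup G} {g : G} :
    (Jh J T).map (MulAut.conj g).toMonoidHom ≤ Jh (J.map (MulAut.conj g).toMonoidHom) (T.map (MulAut.conj g).toMonoidHom) := by
  rw [map_conj_le_iff]
  refine sSup_le fun U hU => ?_
  rw [← map_conj_le_iff]
  exact le_sSup ⟨Subgroup.map_mono hU.1, eg_map_conj hU.2.1 g, Subgroup.map_mono hU.2.2⟩

theorem Jh_map_conj (J T : Subgroup G) (g : G) :
    (Jh J T).map (MulAut.conj g).toMonoidHom = Jh (J.map (MulAut.conj g).toMonoidHom) (T.map (MulAut.conj g).toMonoidHom) := by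
  apply le_antisymm Jh_map_conj_le
  have h1 := Jh_map_conj_le (J := J.map (MulAut.conj g).toMonoidHom) (T := T.map (MulAut.conj g).toMonoidHom) (g := g⁻¹)
  rw [← map_conj_mul, ← map_conj_mul, inv_mul_cancel, map_conj_one, map_conj_one, map_conj_le_iff, inv_inv] at h1
  exact h1

theorem normalizer_le_Jh (T : Subgroup G) : normalizer (T : Set G) ≤ normalizer (Jh (JJ T) T : Set G) := by
  intro g hg
  apply mem_normalizer_of_map_conj_eq
  rw [Jh_map_conj, map_conj_eq_of_mem hg, map_conj_eq_of_mem (normalizer_le_JJ T hg)]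

theorem thompson_eq (S : Subgroup G) : (thompsonSubgroup 2 ↥S).map S.subtype = JJ S := by
  unfold thompsonSubgroup JJ
  rw [(Subgroup.gc_map_comap S.subtype).l_sSup]
  apply le_antisymm
  · refine iSup₂_le fun A hA => le_sSup ?_
    refine ⟨map_subtype_le A, elem_map hA.1 _, fun B hB hBe => ?_⟩
    have h1 := hA.2 (B.subgroupOf S) ((elem_map_iff S.subtype_injective).mp (by rwa [Subgroup.map_subgroupOf_eq_of_le hB]))
    rw [card_map_eq S.subtype_injective]
    rwa [Nat.card_congr (Subgroup.subgroupOfEquivOfLe hB).toEquiv] at h1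
  · refine sSup_le fun A hA => ?_
    have h1 : (A.subgroupOf S).map S.subtype = A := Subgroup.map_subgroupOf_eq_of_le hA.le
    rw [← h1]
    refine le_iSup₂_of_le (A.subgroupOf S) ⟨(elem_map_iff S.subtype_injective).mp (by rw [h1]; exact hA.elem), fun B hB => ?_⟩ le_rfl
    have h2 := hA.max (B.map S.subtype) (map_subtype_le B) (elem_map hB _)
    rw [card_map_eq S.subtype_injective] at h2
    rwa [Nat.card_congr (Subgroup.subgroupOfEquivOfLe hA.le).toEquiv]

theorem jHat_eq (S : Subgroup G) : (jHat ↥S).map S.subtype = Jh (JJ S) S := by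
  unfold jHat Jh
  rw [(Subgroup.gc_map_comap S.subtype).l_sSup]
  apply le_antisymm
  · refine iSup₂_le fun U hU => le_sSup ?_
    refine ⟨map_subtype_le U, (isE_map_iff U).mp hU.1, ?_⟩
    rw [← thompson_eq]
    exact Subgroup.map_mono hU.2
  · refine sSup_le fun U hU => ?_
    have h1 : (U.subgroupOf S).map S.subtype = U := Subgroup.map_subgroupOf_eq_of_le hU.1
    rw [← h1]
    refine le_iSup₂_of_le (U.subgroupOf S) ⟨(isE_map_iff _).mpr (by rw [h1]; exact hU.2.1), ?_⟩ le_rfl
    rw [← Subgroup.map_le_map_iff_of_injective S.subtype_injective, h1, thompson_eq]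
    exact hU.2.2

/-- **piece E** -/
theorem pp_jhat {S : Subgroup G} :
    PP 3 2 S (omegaOne 2 ((jHat ↥S).map S.subtype ⊓ centralizer (((jHat ↥S).map S.subtype : Subgroup G) : Set G))) ∧
    omegaOne 2 ((jHat ↥S).map S.subtype ⊓ centralizer (((jHat ↥S).map S.subtype : Subgroup G) : Set G)) ≤ S ∧
    S ≤ normalizer ((omegaOne 2 ((jHat ↥S).map S.subtype ⊓ centralizer (((jHat ↥S).map S.subtype : Subgroup G) : Set G)) : Subgroup G) : Set G) ∧
    IsElementaryAbelian 2 (omegaOne 2 ((jHat ↥S).map S.subtype ⊓ centralizer (((jHat ↥S).map S.subtype : Subgroup G) : Set G))) := by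
  rw [jHat_eq]
  refine ⟨(chain (JJ S) _ S rfl rfl).2, ?_, ?_, elem_OZ 2 _⟩
  · exact (OZ_le _).trans (Jh_le _ _)
  · exact (le_normalizer.trans (normalizer_le_Jh S)).trans (normalizer_le_normalizer_OZ 2 _)

/-! ### the second factorization -/

/-- the dual bound for the conjugation action -/
theorem dual {W : Subgroup G} [hWn : W.Normal] (hWe : IsElementaryAbelian 2 W) (h2 : pCore 2 (rho W).range = ⊥)
    (h3 : ¬ Involves (Equiv.Perm (Fin 3)) (rho W).range)
    (hK : IsCompositionKGroupWith IsSuzukiOrPSL2OddPowerThree (rho W).range) {R : Subgroup G}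
    (hR : ∀ r ∈ R, r * r ∈ centralizer (W : Set G)) :
    ((centralizer (W : Set G)).relIndex R) ^ 2 ≤ Nat.card ↥⁅W, R⁆ := by
  classical
  have hcomm : ∀ u v : ↥W, u * v = v * u := fun u v =>
    Subtype.ext ((mem_centralizer_iff.mp ((elem_iff.mp hWe).1 v.2) _ u.2))
  let _ : CommGroup ↥W := { (inferInstance : Group ↥W) with mul_comm := hcomm }
  have hV2 : ∀ v : ↥W, v * v = 1 := by
    intro v
    apply Subtype.ext
    have := hWe.2 v v.2
    rw [pow_two] at this
    exact this
  have hle : ⁅W, R⁆ ≤ W := Subgroup.commutator_le_left W R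
  have hsq : ∀ a ∈ (R.map (rho W)).subgroupOf (rho W).range, a * a = 1 := by
    rintro ⟨_, hb⟩ ⟨r, hr, e⟩
    apply Subtype.ext
    have h4 := hR r hr
    rw [← ker_rho, MonoidHom.mem_ker, map_mul] at h4
    rw [e] at h4
    exact h4
  have h5 := H34ZOff.dual_bound (V := ↥W) hV2 (rho W).range.subtype (rho W).range.subtype_injective h2 h3 hK
    ((R.map (rho W)).subgroupOf (rho W).range) hsq (⁅W, R⁆.subgroupOf W) (by
      rintro ⟨_, hb⟩ ⟨r, hr, rfl⟩ v
      rw [mem_subgroupOf]
      show ((v⁻¹ * rho W r v : ↥W) : G) ∈ _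
      rw [Subgroup.coe_mul, rho_apply, Subgroup.coe_inv]
      have h6 := Subgroup.commutator_mem_commutator (inv_mem v.2) hr
      rw [commutatorElement_def, inv_inv] at h6
      simpa only [mul_assoc] using h6)
  rw [Nat.card_congr (Subgroup.subgroupOfEquivOfLe hle).toEquiv] at h5
  rw [Nat.card_congr (Subgroup.subgroupOfEquivOfLe (map_le_range (rho W) R)).toEquiv, card_map_rho,
    Subgroup.inf_relIndex_left] at h5
  exact h5

theorem pp_of_bound {S W : Subgroup G}
    (hb : ∀ R : Subgroup G, R ≤ S → Ac R W → ((centralizer (W : Set G)).relIndex R) ^ 2 ≤ (centralizer (R : Set G)).relIndex W) :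
    PP 3 2 S W := by
  rw [pp_iff]
  intro R hR hA
  have h1 := hb R hR hA
  set m := (centralizer (W : Set G)).relIndex R with hm
  have hmp : 0 < m := ri_pos _ _
  have hm1 : m ≠ 1 := fun h => hA.ne (Subgroup.relIndex_eq_one.mp h)
  calc m ^ 3 < m ^ 4 := Nat.pow_lt_pow_right (by omega) (by norm_num)
    _ = (m ^ 2) ^ 2 := by rw [← pow_mul]
    _ ≤ _ := Nat.pow_le_pow_left h1 2

theorem p2_of_bound {S W : Subgroup G}
    (hb : ∀ R : Subgroup G, R ≤ S → Ac R W → ((centralizer (W : Set G)).relIndex R) ^ 2 ≤ Nat.card ↥⁅W, R⁆) :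
    P2 S W := by
  intro R hR hA
  have h1 := hb R hR hA
  have e1 := FrakM.card_mul_relIndex (inf_le_left : R ⊓ centralizer (W : Set G) ≤ R)
  rw [Subgroup.inf_relIndex_left] at e1
  set m := (centralizer (W : Set G)).relIndex R with hm
  have hmp : 0 < m := ri_pos _ _
  have hm1 : m ≠ 1 := fun h => hA.ne (Subgroup.relIndex_eq_one.mp h)
  have h2 : m < Nat.card ↥⁅W, R⁆ := by
    refine lt_of_lt_of_le ?_ h1
    rw [pow_two]
    exact lt_mul_of_one_lt_left hmp (by omega)
  rw [← e1, mul_comm]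
  exact Nat.mul_lt_mul_of_pos_right h2 Nat.card_pos

theorem factor2_of {S W : Subgroup G} (hS : IsSyl 2 S ⊤) (hWn : W.Normal) (hWe : IsElementaryAbelian 2 W)
    (hWS : W ≤ S) (hp : PP 3 2 S W) (hq : P2 S W) (g : G) :
    ∃ c ∈ centralizer (W : Set G), ∃ n ∈ normalizer (((jHat ↥S).map S.subtype : Subgroup G) : Set G),
      n ∈ normalizer (JJ S : Set G) ∧ g = c * n := by
  have hSW : S ≤ normalizer (W : Set G) := le_top.trans (normalizer_eq_top_iff.mpr hWn).ge
  obtain ⟨-, h2, h3⟩ := Jh_eq hWS hSW hWe hp hq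
  have hCn : (centralizer (W : Set G)).Normal := by
    have := hWn
    infer_instance
  have hT : IsSyl 2 (S ⊓ centralizer (W : Set G)) (centralizer (W : Set G)) :=
    hS.inf_normal le_top (normalizer_eq_top_iff.mpr hCn).ge
  obtain ⟨c, hc, n, hn, e⟩ := hT.frattini (H := ⊤) le_top (normalizer_eq_top_iff.mpr hCn).ge (mem_top g)
  refine ⟨c, hc, n, ?_, ?_, e⟩
  · rw [jHat_eq, h3, ← h2]
    exact normalizer_le_Jh _ hn.2
  · rw [← h2]
    exact normalizer_le_JJ _ hn.2

theorem index_of_card {R W : Subgroup G} (h : Nat.card R ^ 2 * Nat.card ↥(W ⊓ centralizer (R : Set G)) ≤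
    Nat.card W * Nat.card ↥(R ⊓ centralizer (W : Set G)) ^ 2) :
    ((centralizer (W : Set G)).relIndex R) ^ 2 ≤ (centralizer (R : Set G)).relIndex W := by
  have e1 := FrakM.card_mul_relIndex (inf_le_left : R ⊓ centralizer (W : Set G) ≤ R)
  have e2 := FrakM.card_mul_relIndex (inf_le_left : W ⊓ centralizer (R : Set G) ≤ W)
  rw [Subgroup.inf_relIndex_left] at e1 e2
  have p1 : 0 < Nat.card ↥(R ⊓ centralizer (W : Set G)) := Nat.card_pos
  have p2 : 0 < Nat.card ↥(W ⊓ centralizer (R : Set G)) := Nat.card_pos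
  rw [← e1, ← e2] at h
  set a := Nat.card ↥(R ⊓ centralizer (W : Set G))
  set b := Nat.card ↥(W ⊓ centralizer (R : Set G))
  set m := (centralizer (W : Set G)).relIndex R
  set n := (centralizer (R : Set G)).relIndex W
  have h1 : (a ^ 2 * b) * m ^ 2 ≤ (a ^ 2 * b) * n := by
    calc (a ^ 2 * b) * m ^ 2 = (a * m) ^ 2 * b := by ring
      _ ≤ b * n * a ^ 2 := h
      _ = (a ^ 2 * b) * n := by ring
  exact Nat.le_of_mul_le_mul_left h1 (Nat.mul_pos (Nat.pow_pos p1) p2)

/-- **second factorization** from the facts on `(rho W).range` -/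
theorem factor2_range {S W : Subgroup G} (hS : IsSyl 2 S ⊤) [hWn : W.Normal] (hWe : IsElementaryAbelian 2 W)
    (hWS : W ≤ S) (h2 : pCore 2 (rho W).range = ⊥)
    (h3 : ¬ Involves (Equiv.Perm (Fin 3)) (rho W).range)
    (hK : IsCompositionKGroupWith IsSuzukiOrPSL2OddPowerThree (rho W).range)
    (hb : ∀ R : Subgroup G, (∀ r ∈ R, r * r ∈ centralizer (W : Set G)) →
      Nat.card R ^ 2 * Nat.card ↥(W ⊓ centralizer (R : Set G)) ≤ Nat.card W * Nat.card ↥(R ⊓ centralizer (W : Set G)) ^ 2)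
    (g : G) : ∃ c ∈ centralizer (W : Set G), ∃ n ∈ normalizer (((jHat ↥S).map S.subtype : Subgroup G) : Set G),
      n ∈ normalizer (JJ S : Set G) ∧ g = c * n := by
  have hsq : ∀ R : Subgroup G, Ac R W → ∀ r ∈ R, r * r ∈ centralizer (W : Set G) := by
    intro R hA r hr
    have := hA.sq r hr
    rwa [pow_two] at this
  exact factor2_of hS hWn hWe hWS (pp_of_bound fun R _ hA => index_of_card (hb R (hsq R hA)))
    (p2_of_bound fun R _ hA => dual hWe h2 h3 hK (hsq R hA)) g

end Cfsg.Agent.Lib.H34FE
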