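import Cfsg.Agent.Lib.H34FDef
import Cfsg.Agent.Lib.H34SolvOff
import Cfsg.Agent.Lib.PReduced

/-!
# Piece F of the factorization programme: module bound and the product of two conjugates (helper53)
-/

set_option autoImplicit false
set_option linter.unusedSectionVars false

namespace Cfsg.Agent.Lib.H34FF

open Subgroup Cfsg Cfsg.Agent.Lib.LocBase Cfsg.Agent.Lib.PReduced Cfsg.Agent.Lib.H34FDef Cfsg.Agent.Lib.H34SolvOff

/-- the module bound -/
theorem mod_bound {V : Type*} [Group V] [Finite V] (hVc : ∀ u v : V, u * v = v * u) (hV2 : ∀ v : V, v * v = 1)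
    {b x : MulAut V} (hbb : b * b = 1) (hbx : b * x * b⁻¹ = x⁻¹) {p N : ℕ} (hp : p.Prime) (hp2 : p ≠ 2)
    (hx : orderOf x = p) (hk : ∀ i, 0 < i → 2 ^ (2 * i) < N → ¬ p ∣ 2 ^ (2 * i) - 1) : N ≤ Nat.card V := by
  classical
  have hpF : Fact p.Prime := ⟨hp⟩
  have h2p : Fact (Nat.Prime 2) := ⟨Nat.prime_two⟩
  have hxo : Odd (orderOf x) := by rw [hx]; exact hp.odd_of_ne_two hp2
  have hx1 : x ≠ 1 := by rintro rfl; rw [orderOf_one] at hx; exact hp.one_lt.ne hx
  obtain ⟨W, hW⟩ : ∃ W : Subgroup V, W = (delta hVc x).range := ⟨_, rfl⟩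
  have hWx : ∀ w ∈ W, x w ∈ W := fun w hw => by
    rw [hW] at hw ⊢; exact delta_range_inv hVc x x (by group) w hw
  have hWb : ∀ w ∈ W, b w ∈ W := fun w hw => by
    rw [hW] at hw ⊢; exact delta_range_inv' hVc x b hbx w hw
  have hfpf : ∀ w ∈ W, x w = w → w = 1 := fun w hw h => delta_range_fpf hVc hV2 x hxo w (hW ▸ hw) h
  have hWne : W ≠ ⊥ := by
    intro h
    apply hx1
    ext v
    have h1 : delta hVc x v ∈ W := by rw [hW]; exact ⟨v, rfl⟩
    rw [h, Subgroup.mem_bot, delta_apply, inv_mul_eq_one] at h1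
    exact h1.symm
  have hinv : ∀ v : V, v⁻¹ = v := fun v => inv_eq_of_mul_eq_one_left (hV2 v)
  let C : Subgroup V :=
    { carrier := {v | v ∈ W ∧ b v = v}
      mul_mem' := by
        rintro u v ⟨h1, h2⟩ ⟨h3, h4⟩
        exact ⟨W.mul_mem h1 h3, by rw [map_mul, h2, h4]⟩
      one_mem' := ⟨W.one_mem, map_one b⟩
      inv_mem' := by
        rintro u ⟨h1, h2⟩
        exact ⟨W.inv_mem h1, by rw [map_inv, h2]⟩ }
  have hcross : ∀ v ∈ C, x v ∈ C → v = 1 := by
    intro v hv hxv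
    have h1 : b v = v := hv.2
    have h2 : b (x v) = x v := hxv.2
    have h4 : b * x = x⁻¹ * b := by rw [← hbx]; group
    have h5 : b (x v) = x⁻¹ v := by
      show (b * x) v = x⁻¹ v
      rw [h4, MulAut.mul_apply, h1]
    have h6 : x (x v) = v := by
      rw [← h2, h5]
      show (x * x⁻¹) v = v
      rw [mul_inv_cancel]; rfl
    exact hfpf v hv.1 (sq_fix x hxo v h6)
  have hsq : Nat.card C * Nat.card C ≤ Nat.card W := by
    rw [← Nat.card_prod]
    refine Nat.card_le_card_of_injective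
      (fun p : C × C => (⟨p.1 * x p.2, W.mul_mem p.1.2.1 (hWx _ p.2.2.1)⟩ : W)) ?_
    rintro ⟨⟨a, ha⟩, ⟨c, hc'⟩⟩ ⟨⟨a', ha'⟩, ⟨c', hc''⟩⟩ h
    have h1 : a * x c = a' * x c' := congrArg Subtype.val h
    have h2 : x (c * c'⁻¹) = a⁻¹ * a' := by
      rw [map_mul, map_inv]
      calc x c * (x c')⁻¹ = a⁻¹ * (a * x c) * (x c')⁻¹ := by group
        _ = a⁻¹ * (a' * x c') * (x c')⁻¹ := by rw [h1]
        _ = _ := by group
    have h3' : c * c'⁻¹ = 1 := hcross _ (C.mul_mem hc' (C.inv_mem hc'')) (by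
      rw [h2]; exact C.mul_mem (C.inv_mem ha) ha')
    have h4 : c = c' := mul_inv_eq_one.mp h3'
    subst h4
    have h5 : a = a' := mul_right_cancel h1
    subst h5
    rfl
  have hsq' : Nat.card W ≤ Nat.card C * Nat.card C := by
    let g : W →* V := (delta hVc b).comp W.subtype
    have h1 := Subgroup.card_eq_card_quotient_mul_card_subgroup g.ker
    rw [Nat.card_congr (QuotientGroup.quotientKerEquivRange g).toEquiv] at h1
    rw [h1]
    apply Nat.mul_le_mul
    · apply Subgroup.card_le_of_le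
      rintro _ ⟨w, rfl⟩
      have h2 : g w = (w : V)⁻¹ * b w := rfl
      rw [h2]
      refine ⟨W.mul_mem (W.inv_mem w.2) (hWb _ w.2), ?_⟩
      have h3 : b (b (w : V)) = w := by
        show (b * b) (w : V) = w
        rw [hbb]; rfl
      rw [map_mul, map_inv, h3, hinv (b w), hinv (w : V), hVc]
    · refine Nat.card_le_card_of_injective (fun w : g.ker => (⟨((w : W) : V), (w : W).2, ?_⟩ : C)) ?_
      · have h2 : g w = 1 := w.2
        have h3 : g w = ((w : W) : V)⁻¹ * b ((w : W) : V) := rfl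
        rw [h3, inv_mul_eq_one] at h2
        exact h2.symm
      · intro u v h
        have h' := congrArg (Subtype.val (p := fun g => g ∈ C)) h
        exact Subtype.ext (Subtype.ext h')
  have hV2p : IsPGroup 2 V := fun v => ⟨1, by rw [pow_one, pow_two]; exact hV2 v⟩
  obtain ⟨i, hi⟩ := IsPGroup.iff_card.mp (hV2p.to_subgroup C)
  have hWc : Nat.card W = 2 ^ (2 * i) := by
    have := le_antisymm hsq' hsq
    rw [this, hi, two_mul, pow_add]
  have hi0 : 0 < i := by
    rcases Nat.eq_zero_or_pos i with h | h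
    · exfalso
      rw [h, mul_zero, pow_zero] at hWc
      exact hWne (Subgroup.card_eq_one.mp hWc)
    · exact h
  have hmod : p ∣ 2 ^ (2 * i) - 1 := by
    have := Fintype.ofFinite W
    let f : Function.End W := fun w => ⟨x w, hWx w w.2⟩
    have hfn : ∀ (n : ℕ) (v : W), (((f ^ n : Function.End W) v : W) : V) = (x ^ n) v := by
      intro n
      induction n with
      | zero => intro v; rfl
      | succ n ih =>
        intro v
        rw [pow_succ', pow_succ', MulAut.mul_apply, ← ih]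
        rfl
    have hf1 : f ^ p ^ 1 = 1 := by
      funext v
      apply Subtype.ext
      rw [hfn, pow_one, ← hx, pow_orderOf_eq_one]
      rfl
    have h1 := Equiv.Perm.card_fixedPoints_modEq hf1
    have h2 : Fintype.card (Function.fixedPoints f) = 1 := by
      rw [Fintype.card_eq_one_iff]
      refine ⟨⟨1, Subtype.ext (map_one x)⟩, ?_⟩
      rintro ⟨v, hv⟩
      apply Subtype.ext
      apply Subtype.ext
      exact hfpf v v.2 (congrArg Subtype.val hv)
    rw [h2, ← Nat.card_eq_fintype_card, hWc] at h1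
    exact (Nat.modEq_iff_dvd' (Nat.one_le_pow _ _ two_pos)).mp h1.symm
  by_contra hcon
  push Not at hcon
  have h1 : Nat.card W ≤ Nat.card V := Nat.card_le_card_of_injective _ W.subtype_injective
  exact hk i hi0 (by rw [← hWc]; exact lt_of_le_of_lt h1 hcon) hmod

theorem comm_of_sq {H : Type*} [Group H] {D : Subgroup H} (hD2 : ∀ d ∈ D, d * d = 1) {a b : H} (ha : a ∈ D) (hb : b ∈ D) :
    a * b = b * a := by
  have h1 := hD2 a ha
  have h2 := hD2 b hb
  have h3 := hD2 _ (D.mul_mem ha hb)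
  have ha' : a⁻¹ = a := inv_eq_of_mul_eq_one_left h1
  have hb' : b⁻¹ = b := inv_eq_of_mul_eq_one_left h2
  have h4 : (a * b)⁻¹ = a * b := inv_eq_of_mul_eq_one_left h3
  rw [← h4, mul_inv_rev, ha', hb']

theorem card_map_le {H H' : Type*} [Group H] [Finite H] [Group H'] (f : H →* H') {D B : Subgroup H} (hBD : B ≤ D)
    (hB : B ≤ f.ker) {α : ℕ} (h : Nat.card D ≤ α * Nat.card B) : Nat.card (D.map f) ≤ α := by
  let g : D →* H' := f.comp D.subtype
  have h1 := Subgroup.card_eq_card_quotient_mul_card_subgroup g.ker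
  rw [Nat.card_congr (QuotientGroup.quotientKerEquivRange g).toEquiv] at h1
  have h2 : g.range = D.map f := by
    rw [MonoidHom.range_comp, Subgroup.range_subtype]
  rw [h2] at h1
  have h3 : Nat.card B ≤ Nat.card g.ker := by
    refine Nat.card_le_card_of_injective (fun b : B => (⟨⟨b, hBD b.2⟩, hB b.2⟩ : g.ker)) ?_
    intro u v huv
    have := congrArg (fun w : g.ker => ((w : D) : H)) huv
    exact Subtype.ext this
  have h4 : 0 < Nat.card g.ker := Nat.card_pos
  have h5 : Nat.card (D.map f) * Nat.card g.ker ≤ α * Nat.card g.ker := by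
    rw [← h1]
    exact h.trans (Nat.mul_le_mul_left _ h3)
  exact Nat.le_of_mul_le_mul_right h5 h4

theorem core {H : Type*} [Group H] [Finite H] {D E Dc Ec : Subgroup H} (hgen : D ⊔ E = ⊤)
    (hD2 : ∀ d ∈ D, d * d = 1) (hE2 : ∀ d ∈ E, d * d = 1) (hDc : Dc ≤ D) (hEc : Ec ≤ E)
    (h1 : ∀ t ∈ D, ∀ e ∈ Ec, t * e * t⁻¹ * e⁻¹ ∈ Dc) (h2 : ∀ t ∈ E, ∀ d ∈ Dc, t * d * t⁻¹ * d⁻¹ ∈ Ec)
    {α β N p : ℕ} (hα : Nat.card Dc ≤ α * Nat.card ↥(Dc ⊓ centralizer (E : Set H)))
    (hβ : Nat.card Ec ≤ β * Nat.card ↥(Ec ⊓ centralizer (D : Set H)))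
    {a z : H} (haa : a * a = 1) (haz : a * z * a⁻¹ = z⁻¹) (hp : p.Prime) (hp2 : p ≠ 2) (hz : orderOf z = p)
    (hne : ∃ f ∈ Dc ⊔ Ec, z * f * z⁻¹ * f⁻¹ ∉ (Dc ⊓ centralizer (E : Set H)) ⊔ (Ec ⊓ centralizer (D : Set H)))
    (hk : ∀ i, 0 < i → 2 ^ (2 * i) < N → ¬ p ∣ 2 ^ (2 * i) - 1) : N ≤ α * β := by
  classical
  have hDab : ∀ a ∈ D, ∀ b ∈ D, a * b = b * a := fun a ha b hb => comm_of_sq hD2 ha hb
  have hEab : ∀ a ∈ E, ∀ b ∈ E, a * b = b * a := fun a ha b hb => comm_of_sq hE2 ha hb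
  obtain ⟨F, hF⟩ : ∃ F : Subgroup H, F = Dc ⊔ Ec := ⟨_, rfl⟩
  obtain ⟨N0, hN0⟩ : ∃ N0 : Subgroup H, N0 = (Dc ⊓ centralizer (E : Set H)) ⊔ (Ec ⊓ centralizer (D : Set H)) := ⟨_, rfl⟩
  have hcenL : ∀ g : H, (∀ d ∈ D, d * g = g * d) → (∀ e ∈ E, e * g = g * e) → g ∈ Subgroup.center H := by
    intro g hd he
    have h3 : D ⊔ E ≤ centralizer {g} := by
      apply sup_le
      · intro d hd'
        rw [mem_centralizer_singleton_iff]
        exact hd d hd'
      · intro e he'
        rw [mem_centralizer_singleton_iff]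
        exact he e he'
    rw [Subgroup.mem_center_iff]
    intro h
    have h4 : h ∈ centralizer {g} := h3 (hgen ▸ Subgroup.mem_top h)
    rw [mem_centralizer_singleton_iff] at h4
    exact h4
  have hN0c : N0 ≤ Subgroup.center H := by
    rw [hN0]
    apply sup_le
    · intro g hg
      apply hcenL
      · intro d hd
        exact hDab d hd g (hDc hg.1)
      · intro e he
        exact mem_centralizer_iff.mp hg.2 e he
    · intro g hg
      apply hcenL
      · intro d hd
        exact mem_centralizer_iff.mp hg.2 d hd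
      · intro e he
        exact hEab e he g (hEc hg.1)
  have hN0n : N0.Normal := by
    constructor
    intro n hn g
    have := Subgroup.mem_center_iff.mp (hN0c hn) g
    rw [this, mul_inv_cancel_right]
    exact hn
  have hFn : F.Normal := by
    rw [← Subgroup.normalizer_eq_top_iff, eq_top_iff, ← hgen]
    apply sup_le
    · intro t ht
      apply mem_normalizer_of_map_conj_le
      rw [hF, Subgroup.map_sup]
      apply sup_le
      · rintro _ ⟨d, hd, rfl⟩
        apply le_sup_left (a := Dc)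
        show t * d * t⁻¹ ∈ Dc
        rw [hDab t ht d (hDc hd), mul_inv_cancel_right]
        exact hd
      · rintro _ ⟨e, he, rfl⟩
        show t * e * t⁻¹ ∈ Dc ⊔ Ec
        have h3 : t * e * t⁻¹ = (t * e * t⁻¹ * e⁻¹) * e := by group
        rw [h3]
        exact mul_mem (le_sup_left (a := Dc) (h1 t ht e he)) (le_sup_right (a := Dc) he)
    · intro t ht
      apply mem_normalizer_of_map_conj_le
      rw [hF, Subgroup.map_sup]
      apply sup_le
      · rintro _ ⟨d, hd, rfl⟩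
        show t * d * t⁻¹ ∈ Dc ⊔ Ec
        have h3 : t * d * t⁻¹ = (t * d * t⁻¹ * d⁻¹) * d := by group
        rw [h3]
        exact mul_mem (le_sup_right (a := Dc) (h2 t ht d hd)) (le_sup_left (a := Dc) hd)
      · rintro _ ⟨e, he, rfl⟩
        apply le_sup_right (a := Dc)
        show t * e * t⁻¹ ∈ Ec
        rw [hEab t ht e (hEc he), mul_inv_cancel_right]
        exact he
  obtain ⟨π, hπ⟩ : ∃ π : H →* H ⧸ N0, π = QuotientGroup.mk' N0 := ⟨_, rfl⟩
  have hπs : Function.Surjective π := by rw [hπ]; exact QuotientGroup.mk'_surjective N0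
  have hπk : π.ker = N0 := by rw [hπ]; exact QuotientGroup.ker_mk' N0
  have hπ1 : ∀ g, π g = 1 ↔ g ∈ N0 := by
    intro g
    rw [← MonoidHom.mem_ker, hπk]
  have hA : IsElementaryAbelian 2 (Dc.map π) := by
    apply elem_map
    rw [elem_iff]
    refine ⟨fun d hd => mem_centralizer_iff.mpr fun e he => hDab e (hDc he) d (hDc hd), fun d hd => ?_⟩
    rw [pow_two]; exact hD2 d (hDc hd)
  have hB : IsElementaryAbelian 2 (Ec.map π) := by
    apply elem_map
    rw [elem_iff]
    refine ⟨fun d hd => mem_centralizer_iff.mpr fun e he => hEab e (hEc he) d (hEc hd), fun d hd => ?_⟩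
    rw [pow_two]; exact hE2 d (hEc hd)
  have hAB : Dc.map π ≤ centralizer (Ec.map π : Set (H ⧸ N0)) := by
    rintro _ ⟨d, hd, rfl⟩
    rw [mem_centralizer_iff]
    rintro _ ⟨e, he, rfl⟩
    have h3 : d * e * d⁻¹ * e⁻¹ ∈ N0 := by
      rw [hN0]
      apply le_sup_left (a := Dc ⊓ centralizer (E : Set H))
      have h4 : d * e * d⁻¹ * e⁻¹ ∈ Ec := by
        have h5 := h2 e (hEc he) d hd
        have h6 : d * e * d⁻¹ * e⁻¹ = (e * d * e⁻¹ * d⁻¹)⁻¹ := by group
        rw [h6]
        exact Ec.inv_mem h5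
      exact Subgroup.mem_inf.mpr ⟨h1 d (hDc hd) e he, mem_centralizer_iff.mpr fun t ht => hEab t ht _ (hEc h4)⟩
    have h4 := (hπ1 _).mpr h3
    rw [map_mul, map_mul, map_mul, map_inv, map_inv, mul_inv_eq_one, mul_inv_eq_iff_eq_mul] at h4
    exact h4.symm
  obtain ⟨Fb, hFb⟩ : ∃ Fb : Subgroup (H ⧸ N0), Fb = F.map π := ⟨_, rfl⟩
  have hFbn : Fb.Normal := by rw [hFb]; exact hFn.map π hπs
  have hFbs : Fb = Dc.map π ⊔ Ec.map π := by rw [hFb, hF, Subgroup.map_sup]
  have hFbe : IsElementaryAbelian 2 Fb := by rw [hFbs]; exact elem_sup hA hB hAB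
  have hcardF : Nat.card Fb ≤ α * β := by
    have h3 : Nat.card (Dc.map π) ≤ α := card_map_le π inf_le_left (by rw [hπk, hN0]; exact le_sup_left) hα
    have h4 : Nat.card (Ec.map π) ≤ β := card_map_le π inf_le_left (by rw [hπk, hN0]; exact le_sup_right) hβ
    refine le_trans ?_ (Nat.mul_le_mul h3 h4)
    rw [← Nat.card_prod]
    have hnorm : Ec.map π ≤ normalizer (Dc.map π : Set (H ⧸ N0)) := by
      refine le_trans ?_ (centralizer_le_normalizer _)
      rw [Subgroup.le_centralizer_iff]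
      exact hAB
    refine Nat.card_le_card_of_surjective
      (fun p : Dc.map π × Ec.map π => (⟨(p.1 : H ⧸ N0) * p.2, by rw [hFbs]; exact mul_mem_sup p.1.2 p.2.2⟩ : Fb)) ?_
    rintro ⟨f, hf⟩
    rw [hFbs] at hf
    obtain ⟨u, hu, v, hv, rfl⟩ := exists_mul_of_mem_sup_of_le hnorm hf
    exact ⟨(⟨u, hu⟩, ⟨v, hv⟩), rfl⟩
  refine le_trans ?_ hcardF
  rw [elem_iff] at hFbe
  let κ : H ⧸ N0 →* MulAut Fb := MulAut.conjNormal
  have hκ : ∀ (g : H ⧸ N0) (f : Fb), ((κ g f : Fb) : H ⧸ N0) = g * f * g⁻¹ := fun g f => rfl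
  refine mod_bound (V := Fb) (b := κ (π a)) (x := κ (π z)) ?_ ?_ ?_ ?_ hp hp2 ?_ hk
  · intro u v
    exact Subtype.ext (mem_centralizer_iff.mp (hFbe.1 v.2) u u.2)
  · intro v
    apply Subtype.ext
    have := hFbe.2 v v.2
    rw [pow_two] at this
    exact this
  · rw [← map_mul, ← map_mul, haa, map_one, map_one]
  · have h3 : π a * π z * (π a)⁻¹ = (π z)⁻¹ := by rw [← map_mul, ← map_inv, ← map_mul, haz, map_inv]
    rw [← map_mul, ← map_inv, ← map_mul, h3, map_inv]
  · have hpF : Fact p.Prime := ⟨hp⟩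
    apply orderOf_eq_prime
    · rw [← map_pow, ← map_pow, ← hz, pow_orderOf_eq_one, map_one, map_one]
    · intro h
      obtain ⟨f, hf, hfn⟩ := hne
      apply hfn
      rw [← hN0, ← hπ1]
      have h3 := congrArg (fun w : MulAut Fb => ((w ⟨π f, by rw [hFb, hF]; exact ⟨f, hf, rfl⟩⟩ : Fb) : H ⧸ N0)) h
      have h4 : π z * π f * (π z)⁻¹ = π f := h3
      rw [map_mul, map_mul, map_mul, map_inv, map_inv, h4, mul_inv_cancel]

end Cfsg.Agent.Lib.H34FF
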