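import Cfsg.Agent.Lib.H34FFa

/-!
# Piece F of the factorization programme: an offender-free normal elementary abelian subgroup lies in `Q` (helper53)
-/

set_option autoImplicit false
set_option linter.unusedSectionVars false

namespace Cfsg.Agent.Lib.H34FF

open Subgroup Cfsg Cfsg.Agent.Lib.LocBase Cfsg.Agent.Lib.PReduced Cfsg.Agent.Lib.H34FDef Cfsg.Agent.Lib.H34SolvOff

theorem arith {α β c : ℕ} (hc : 2 ≤ c) (hα0 : 0 < α) (hβ0 : 0 < β) (hα : α = 1 ∨ α ^ 3 < (c * β) ^ 2)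
    (hβ : β = 1 ∨ β ^ 3 < (c * α) ^ 2) : α * β < c ^ 4 := by
  have hc1 : 1 ≤ c := by omega
  have hc2 : c ^ 2 ≤ c ^ 4 := Nat.pow_le_pow_right hc1 (by norm_num)
  have h14 : 1 < c ^ 4 := by
    calc 1 < 2 ^ 4 := by norm_num
      _ ≤ c ^ 4 := Nat.pow_le_pow_left hc 4
  rcases hα with h1 | h1
  · rcases hβ with h2 | h2
    · rw [h1, h2]; simpa using h14
    · rw [h1, one_mul]
      rw [h1, mul_one] at h2
      have h3 : β ≤ β ^ 3 := Nat.le_self_pow (by norm_num) β
      omega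
  · rcases hβ with h2 | h2
    · rw [h2, mul_one]
      rw [h2, mul_one] at h1
      have h3 : α ≤ α ^ 3 := Nat.le_self_pow (by norm_num) α
      omega
    · by_contra hcon
      push Not at hcon
      have h3 : α ^ 3 * β ^ 3 < (c * β) ^ 2 * (c * α) ^ 2 := Nat.mul_lt_mul'' h1 h2
      have h4 : (c * β) ^ 2 * (c * α) ^ 2 = c ^ 4 * (α * β) ^ 2 := by ring
      have h5 : α ^ 3 * β ^ 3 = (α * β) * (α * β) ^ 2 := by ring
      rw [h4, h5] at h3
      exact absurd (Nat.mul_le_mul_right ((α * β) ^ 2) hcon) (not_le.mpr h3)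

variable {G : Type*} [Group G] [Finite G]

/-- from `PP`: the index bound -/
theorem pp_bound {D E Dc Ec : Subgroup G} (hD2 : ∀ d ∈ Dc, d * d = 1) {c α β : ℕ}
    (hPP : PP 3 2 Dc E) (hEc : Ec ≤ E) (hα : Nat.card Dc = α * Nat.card ↥(Dc ⊓ centralizer (E : Set G)))
    (hβ : Nat.card Ec = β * Nat.card ↥(Ec ⊓ centralizer (D : Set G))) (hDc : Dc ≤ D)
    (hE : Nat.card E ≤ c * Nat.card Ec) : α = 1 ∨ α ^ 3 < (c * β) ^ 2 := by
  by_cases h : Dc ≤ centralizer (E : Set G)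
  · left
    rw [inf_eq_left.mpr h] at hα
    have h1 : 0 < Nat.card Dc := Nat.card_pos
    have h2 : 1 * Nat.card Dc = α * Nat.card Dc := by rw [one_mul]; exact hα
    exact (Nat.eq_of_mul_eq_mul_right h1 h2).symm
  · right
    have hac : Ac Dc E := by
      refine ⟨?_, ?_, h⟩
      · have h1 : ⁅Dc, Dc⁆ = ⊥ := by
          rw [Subgroup.commutator_eq_bot_iff_le_centralizer]
          intro a ha
          rw [mem_centralizer_iff]
          intro b hb
          exact comm_of_sq hD2 hb ha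
        rw [h1]; exact bot_le
      · intro r hr
        rw [pow_two, hD2 r hr]
        exact one_mem _
    have h1 := hPP Dc le_rfl hac
    have hb0 : 0 < Nat.card ↥(Dc ⊓ centralizer (E : Set G)) := Nat.card_pos
    have hm0 : 0 < Nat.card ↥(E ⊓ centralizer (Dc : Set G)) := Nat.card_pos
    have hm : Nat.card ↥(Ec ⊓ centralizer (D : Set G)) ≤ Nat.card ↥(E ⊓ centralizer (Dc : Set G)) :=
      Subgroup.card_le_of_le (inf_le_inf hEc (centralizer_le hDc))
    generalize Nat.card ↥(Dc ⊓ centralizer (E : Set G)) = b at *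
    generalize Nat.card ↥(E ⊓ centralizer (Dc : Set G)) = m at *
    generalize Nat.card ↥(Ec ⊓ centralizer (D : Set G)) = b' at *
    have hE' : Nat.card E ≤ c * (β * m) := by
      refine hE.trans (Nat.mul_le_mul_left _ ?_)
      rw [hβ]
      exact Nat.mul_le_mul_left _ hm
    have h2 : Nat.card E ^ 2 * b ^ 3 ≤ (c * (β * m)) ^ 2 * b ^ 3 := Nat.mul_le_mul_right _ (Nat.pow_le_pow_left hE' 2)
    have h3 := lt_of_lt_of_le h1 h2
    rw [hα] at h3
    have h4 : (α * b) ^ 3 * m ^ 2 = α ^ 3 * (b ^ 3 * m ^ 2) := by ring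
    have h5 : (c * (β * m)) ^ 2 * b ^ 3 = (c * β) ^ 2 * (b ^ 3 * m ^ 2) := by ring
    rw [h4, h5] at h3
    exact Nat.lt_of_mul_lt_mul_right h3

theorem exists_relIndex {B D : Subgroup G} (h : B ≤ D) : ∃ α, 0 < α ∧ Nat.card D = α * Nat.card B := by
  have h1 : Nat.card B * B.relIndex D = Nat.card D := by
    have := Subgroup.relIndex_mul_relIndex (⊥ : Subgroup G) B D bot_le h
    rwa [Subgroup.relIndex_bot_left, Subgroup.relIndex_bot_left] at this
  refine ⟨B.relIndex D, ?_, by rw [mul_comm]; exact h1.symm⟩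
  rcases Nat.eq_zero_or_pos (B.relIndex D) with h2 | h2
  · rw [h2, mul_zero] at h1
    exact absurd h1.symm Nat.card_pos.ne'
  · exact h2

theorem step {Q : Subgroup G} [hQn : Q.Normal] (hQ2 : IsPGroup 2 Q) (hQc : centralizer (Q : Set G) ≤ Q)
    {D : Subgroup G} (hDe : IsElementaryAbelian 2 D) (hQD : Q ≤ normalizer (D : Set G))
    (hgood : ∀ (g : G) (T : Subgroup G), IsPGroup 2 T → T ≤ normalizer (D.map (MulAut.conj g).toMonoidHom : Set G) →
      PP 3 2 T (D.map (MulAut.conj g).toMonoidHom))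
    {x : G ⧸ Q} {A₁ : Subgroup (G ⧸ Q)} (hA₁ : A₁ ≤ D.map (QuotientGroup.mk' Q)) (hcom : ∀ u ∈ A₁, u * x = x * u)
    {p c : ℕ} (hp : p.Prime) (hp2 : p ≠ 2) (hx : orderOf x = p) (hc2 : 2 ≤ c)
    (hcard : Nat.card (D.map (QuotientGroup.mk' Q)) ≤ c * Nat.card A₁)
    (hinv : ∃ a ∈ D, QuotientGroup.mk' Q a * x * (QuotientGroup.mk' Q a)⁻¹ = x⁻¹)
    (hk : ∀ i, 0 < i → 2 ^ (2 * i) < c ^ 4 → ¬ p ∣ 2 ^ (2 * i) - 1) : False := by
  classical
  have hpF : Fact p.Prime := ⟨hp⟩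
  obtain ⟨π, hπ⟩ : ∃ π : G →* G ⧸ Q, π = QuotientGroup.mk' Q := ⟨_, rfl⟩
  rw [← hπ] at hA₁ hcard hinv
  have hπs : Function.Surjective π := by rw [hπ]; exact QuotientGroup.mk'_surjective Q
  have hπ1 : ∀ g, π g = 1 ↔ g ∈ Q := by
    intro g
    rw [← MonoidHom.mem_ker, hπ, QuotientGroup.ker_mk']
  obtain ⟨y, hy⟩ := hπs x
  obtain ⟨a, haD, hax⟩ := hinv
  obtain ⟨hDab', hD2'⟩ := elem_iff.mp hDe
  have hD2 : ∀ d ∈ D, d * d = 1 := fun d hd => by rw [← pow_two]; exact hD2' d hd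
  have hDab : ∀ a ∈ D, ∀ b ∈ D, a * b = b * a := fun a ha b hb => comm_of_sq hD2 ha hb
  obtain ⟨E, hE⟩ : ∃ E : Subgroup G, E = D.map (MulAut.conj y).toMonoidHom := ⟨_, rfl⟩
  have hmE : ∀ g, g ∈ E ↔ y⁻¹ * g * y ∈ D := fun g => by rw [hE]; exact mem_map_conj
  have hE2 : ∀ e ∈ E, e * e = 1 := by
    intro e he
    have h1 := hD2 _ ((hmE e).mp he)
    have h2 : e * e = y * ((y⁻¹ * e * y) * (y⁻¹ * e * y)) * y⁻¹ := by group
    rw [h2, h1]; group
  have hEab : ∀ a ∈ E, ∀ b ∈ E, a * b = b * a := fun a ha b hb => comm_of_sq hE2 ha hb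
  obtain ⟨Dc, hDc⟩ : ∃ Dc : Subgroup G, Dc = A₁.comap π ⊓ D := ⟨_, rfl⟩
  obtain ⟨Ec, hEc⟩ : ∃ Ec : Subgroup G, Ec = Dc.map (MulAut.conj y).toMonoidHom := ⟨_, rfl⟩
  have hmEc : ∀ g, g ∈ Ec ↔ y⁻¹ * g * y ∈ Dc := fun g => by rw [hEc]; exact mem_map_conj
  have hmDc : ∀ g, g ∈ Dc ↔ π g ∈ A₁ ∧ g ∈ D := fun g => by rw [hDc]; rfl
  have hDcD : Dc ≤ D := by rw [hDc]; exact inf_le_right
  have hEcE : Ec ≤ E := by rw [hE, hEc]; exact Subgroup.map_mono hDcD
  -- index of `Dc` in `D`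
  have hcD : Nat.card D ≤ c * Nat.card Dc := by
    have h1 : Nat.card Dc * Dc.relIndex D = Nat.card D := by
      have := Subgroup.relIndex_mul_relIndex (⊥ : Subgroup G) Dc D bot_le hDcD
      rwa [Subgroup.relIndex_bot_left, Subgroup.relIndex_bot_left] at this
    have h2 : Dc.relIndex D = A₁.relIndex (D.map π) := by
      rw [hDc, Subgroup.inf_relIndex_right, Subgroup.relIndex_comap]
    have h3 : Nat.card A₁ * A₁.relIndex (D.map π) = Nat.card (D.map π) := by
      have := Subgroup.relIndex_mul_relIndex (⊥ : Subgroup (G ⧸ Q)) A₁ (D.map π) bot_le hA₁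
      rwa [Subgroup.relIndex_bot_left, Subgroup.relIndex_bot_left] at this
    have h4 : A₁.relIndex (D.map π) ≤ c := by
      have h5 : 0 < Nat.card A₁ := Nat.card_pos
      have h6 : A₁.relIndex (D.map π) * Nat.card A₁ ≤ c * Nat.card A₁ := by
        rw [mul_comm, h3]; exact hcard
      exact Nat.le_of_mul_le_mul_right h6 h5
    rw [← h1, h2, mul_comm]
    exact Nat.mul_le_mul_right _ h4
  have hcE : Nat.card E ≤ c * Nat.card Ec := by
    rw [hE, hEc, card_map_conj, card_map_conj]; exact hcD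
  -- `Dc` and `Ec` agree modulo `Q`
  have hDE : ∀ d ∈ Dc, π (y * d * y⁻¹) = π d := by
    intro d hd
    rw [map_mul, map_mul, map_inv, hy, ← hcom _ ((hmDc d).mp hd).1, mul_inv_cancel_right]
  have hyQ : ∀ q ∈ Q, y * q * y⁻¹ ∈ Q := fun q hq => hQn.conj_mem q hq y
  have hyQ' : ∀ q ∈ Q, y⁻¹ * q * y ∈ Q := fun q hq => by
    have := hQn.conj_mem q hq y⁻¹
    rwa [inv_inv] at this
  have hQE : Q ≤ normalizer (E : Set G) := by
    rw [le_normalizer_iff]
    intro q hq e he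
    rw [hmE] at he ⊢
    have h1 := conj_mem_of_le_normalizer hQD (hyQ' q hq) he
    have h2 : y⁻¹ * (q * e * q⁻¹) * y = y⁻¹ * q * y * (y⁻¹ * e * y) * (y⁻¹ * q * y)⁻¹ := by group
    rw [h2]; exact h1
  have hEcD : Ec ≤ normalizer (D : Set G) := by
    intro e he
    have h1 : y⁻¹ * e * y ∈ Dc := (hmEc e).mp he
    have h2 : (y⁻¹ * e * y)⁻¹ * e ∈ Q := by
      rw [← hπ1, map_mul, map_inv]
      have := hDE _ h1
      have h3 : y * (y⁻¹ * e * y) * y⁻¹ = e := by group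
      rw [h3] at this
      rw [this, inv_mul_cancel]
    have h3 : e = (y⁻¹ * e * y) * ((y⁻¹ * e * y)⁻¹ * e) := by group
    rw [h3]
    exact mul_mem (Subgroup.le_normalizer (hDcD h1)) (hQD h2)
  have hDcE : Dc ≤ normalizer (E : Set G) := by
    intro d hd
    have h1 : y * d * y⁻¹ ∈ E := by
      rw [hmE]
      have : y⁻¹ * (y * d * y⁻¹) * y = d := by group
      rw [this]; exact hDcD hd
    have h2 : (y * d * y⁻¹)⁻¹ * d ∈ Q := by
      rw [← hπ1, map_mul, map_inv, hDE d hd, inv_mul_cancel]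
    have h3 : d = (y * d * y⁻¹) * ((y * d * y⁻¹)⁻¹ * d) := by group
    rw [h3]
    exact mul_mem (Subgroup.le_normalizer h1) (hQE h2)
  have hπA : ∀ g, g ∈ Q → π g ∈ A₁ := fun g hg => by rw [(hπ1 g).mpr hg]; exact A₁.one_mem
  have h1 : ∀ t ∈ D, ∀ e ∈ Ec, t * e * t⁻¹ * e⁻¹ ∈ Dc := by
    intro t ht e he
    have h3 : t * e * t⁻¹ * e⁻¹ ∈ D := by
      have h4 := conj_mem_of_le_normalizer hEcD he (D.inv_mem ht)
      have h5 : t * e * t⁻¹ * e⁻¹ = t * (e * t⁻¹ * e⁻¹) := by group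
      rw [h5]
      exact D.mul_mem ht h4
    have h4 : t * e * t⁻¹ * e⁻¹ ∈ Q := by
      have h5 : y⁻¹ * e * y ∈ Dc := (hmEc e).mp he
      have h6 := hDE _ h5
      have h7 : y * (y⁻¹ * e * y) * y⁻¹ = e := by group
      rw [h7] at h6
      rw [← hπ1, map_mul, map_mul, map_mul, map_inv, map_inv, h6, ← map_inv, ← map_inv, ← map_mul, ← map_mul, ← map_mul,
        hDab t ht _ (hDcD h5)]
      have h8 : y⁻¹ * e * y * t * t⁻¹ * (y⁻¹ * e * y)⁻¹ = 1 := by group
      rw [h8, map_one]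
    exact (hmDc _).mpr ⟨hπA _ h4, h3⟩
  have h2 : ∀ t ∈ E, ∀ d ∈ Dc, t * d * t⁻¹ * d⁻¹ ∈ Ec := by
    intro t ht d hd
    have h3 : t * d * t⁻¹ * d⁻¹ ∈ E := by
      have h4 := conj_mem_of_le_normalizer hDcE hd (E.inv_mem ht)
      have h5 : t * d * t⁻¹ * d⁻¹ = t * (d * t⁻¹ * d⁻¹) := by group
      rw [h5]
      exact E.mul_mem ht h4
    have h4 : t * d * t⁻¹ * d⁻¹ ∈ Q := by
      have h5 : y * d * y⁻¹ ∈ E := by
        rw [hmE]
        have : y⁻¹ * (y * d * y⁻¹) * y = d := by group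
        rw [this]; exact hDcD hd
      have h6 := hDE _ hd
      rw [← hπ1, map_mul, map_mul, map_mul, map_inv, map_inv, ← h6, ← map_inv, ← map_inv, ← map_mul, ← map_mul, ← map_mul,
        hEab t ht _ h5]
      have h8 : y * d * y⁻¹ * t * t⁻¹ * (y * d * y⁻¹)⁻¹ = 1 := by group
      rw [h8, map_one]
    rw [hmEc, hmDc]
    refine ⟨hπA _ (hyQ' _ h4), (hmE _).mp h3⟩
  -- the element `z`
  obtain ⟨b, hb⟩ : ∃ b, b = y * a * y⁻¹ := ⟨_, rfl⟩
  have hbE : b ∈ E := by
    rw [hmE, hb]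
    have : y⁻¹ * (y * a * y⁻¹) * y = a := by group
    rw [this]; exact haD
  have haa : a * a = 1 := hD2 a haD
  have hai : a⁻¹ = a := inv_eq_of_mul_eq_one_left haa
  have hbi : b⁻¹ = b := inv_eq_of_mul_eq_one_left (hE2 b hbE)
  have hπw : π (a * b) = x⁻¹ * x⁻¹ := by
    have e1 : π a * x * π a = x⁻¹ := by
      have := hax
      rwa [← map_inv, hai] at this
    rw [hb, map_mul, map_mul, map_mul, map_inv, hy]
    calc π a * (x * π a * x⁻¹) = (π a * x * π a) * x⁻¹ := by group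
      _ = _ := by rw [e1]
  have hwi : a * (a * b) * a⁻¹ = (a * b)⁻¹ := by
    rw [mul_inv_rev, hai, hbi, ← mul_assoc, haa, one_mul]
  obtain ⟨k, s, hs, hks⟩ := Nat.exists_eq_two_pow_mul_odd (n := orderOf (a * b)) (orderOf_pos _).ne'
  obtain ⟨z, hz⟩ : ∃ z, z = (a * b) ^ (2 ^ k) := ⟨_, rfl⟩
  have hzo : orderOf z = s := by
    rw [hz, orderOf_pow_of_dvd (by positivity) ⟨s, hks⟩, hks]
    exact Nat.mul_div_cancel_left s (by positivity)
  have hπz : orderOf (π z) = p := by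
    have e1 : π z = (x ^ (2 * 2 ^ k))⁻¹ := by
      rw [hz, map_pow, hπw, ← pow_two, ← pow_mul, inv_pow]
    rw [e1, orderOf_inv, Nat.Coprime.orderOf_pow, hx]
    rw [hx, show 2 * 2 ^ k = 2 ^ (k + 1) by ring]
    exact Nat.Coprime.pow_right _ ((Nat.coprime_primes hp Nat.prime_two).mpr hp2)
  have hzp : z ^ p = 1 := by
    have e1 : z ^ p ∈ Q := by
      rw [← hπ1, map_pow, ← hπz, pow_orderOf_eq_one]
    refine eq_one_of_isPGroup_of_pow hQ2 e1 (n := s) ?_ ?_
    · exact Nat.coprime_two_right.mpr hs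
    · rw [← pow_mul, mul_comm, pow_mul, ← hzo, pow_orderOf_eq_one, one_pow]
  have hz1 : z ≠ 1 := by
    intro h
    rw [h, map_one, orderOf_one] at hπz
    exact hp.one_lt.ne hπz
  have hzord : orderOf z = p := orderOf_eq_prime hzp hz1
  have hzinv : a * z * a⁻¹ = z⁻¹ := by
    rw [hz, ← inv_pow, ← hwi, conj_pow]
  obtain ⟨L, hL⟩ : ∃ L : Subgroup G, L = D ⊔ E := ⟨_, rfl⟩
  have hDL : D ≤ L := by rw [hL]; exact le_sup_left
  have hEL : E ≤ L := by rw [hL]; exact le_sup_right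
  have hzL : z ∈ L := by
    rw [hz]; exact L.pow_mem (L.mul_mem (hDL haD) (hEL hbE)) _
  -- the bounds
  obtain ⟨α, hα0, hα⟩ := exists_relIndex (B := Dc ⊓ centralizer (E : Set G)) (D := Dc) inf_le_left
  obtain ⟨β, hβ0, hβ⟩ := exists_relIndex (B := Ec ⊓ centralizer (D : Set G)) (D := Ec) inf_le_left
  have hD2p : IsPGroup 2 D := elem_isPGroup hDe
  have hEe : IsElementaryAbelian 2 E := by rw [hE]; exact elem_map hDe _
  have hE2p : IsPGroup 2 E := elem_isPGroup hEe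
  have hPD : PP 3 2 Ec D := by
    have := hgood 1 Ec (isPGroup_mono hE2p hEcE)
    rw [map_conj_one] at this
    exact this hEcD
  have hPE : PP 3 2 Dc E := by
    rw [hE]
    exact hgood y Dc (isPGroup_mono hD2p hDcD) (by rw [← hE]; exact hDcE)
  have hb1 := pp_bound (D := D) (fun d hd => hD2 d (hDcD hd)) hPE hEcE hα hβ hDcD hcE
  have hb2 := pp_bound (D := E) (fun d hd => hE2 d (hEcE hd)) hPD hDcD hβ hα hEcE hcD
  have hlt := arith hc2 hα0 hβ0 hb1 hb2
  refine absurd hlt (not_lt.mpr ?_)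
  -- transport to `L`
  have hsub : ∀ K : Subgroup G, K ≤ L → Nat.card (K.subgroupOf L) = Nat.card K := fun K hK =>
    Nat.card_congr (Subgroup.subgroupOfEquivOfLe hK).toEquiv
  have hcen : ∀ K M : Subgroup G, K ≤ L → M ≤ L → (K ⊓ centralizer (M : Set G)).subgroupOf L =
      K.subgroupOf L ⊓ centralizer (M.subgroupOf L : Set L) := by
    intro K M hK hM
    ext g
    rw [mem_subgroupOf, Subgroup.mem_inf, Subgroup.mem_inf, mem_subgroupOf, mem_centralizer_iff, mem_centralizer_iff]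
    constructor
    · rintro ⟨h3, h4⟩
      exact ⟨h3, fun m hm => Subtype.ext (h4 m (mem_subgroupOf.mp hm))⟩
    · rintro ⟨h3, h4⟩
      exact ⟨h3, fun m hm => congrArg Subtype.val (h4 ⟨m, hM hm⟩ (mem_subgroupOf.mpr hm))⟩
  have hDcL : Dc ≤ L := hDcD.trans hDL
  have hEcL : Ec ≤ L := hEcE.trans hEL
  refine core (H := L) (D := D.subgroupOf L) (E := E.subgroupOf L) (Dc := Dc.subgroupOf L) (Ec := Ec.subgroupOf L)
    (a := ⟨a, hDL haD⟩) (z := ⟨z, hzL⟩) (p := p) ?_ ?_ ?_ ?_ ?_ ?_ ?_ ?_ ?_ ?_ ?_ hp hp2 ?_ ?_ hk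
  · rw [← Subgroup.subgroupOf_sup hDL hEL, ← hL, Subgroup.subgroupOf_self]
  · intro d hd
    exact Subtype.ext (hD2 d (mem_subgroupOf.mp hd))
  · intro d hd
    exact Subtype.ext (hE2 d (mem_subgroupOf.mp hd))
  · intro d hd
    exact mem_subgroupOf.mpr (hDcD (mem_subgroupOf.mp hd))
  · intro d hd
    exact mem_subgroupOf.mpr (hEcE (mem_subgroupOf.mp hd))
  · intro t ht e he
    exact mem_subgroupOf.mpr (h1 t (mem_subgroupOf.mp ht) e (mem_subgroupOf.mp he))
  · intro t ht e he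
    exact mem_subgroupOf.mpr (h2 t (mem_subgroupOf.mp ht) e (mem_subgroupOf.mp he))
  · rw [← hcen Dc E hDcL hEL, hsub _ hDcL, hsub _ (inf_le_left.trans hDcL)]
    exact hα.le
  · rw [← hcen Ec D hEcL hDL, hsub _ hEcL, hsub _ (inf_le_left.trans hEcL)]
    exact hβ.le
  · exact Subtype.ext haa
  · exact Subtype.ext hzinv
  · rw [← Subgroup.orderOf_coe]; exact hzord
  · by_contra hcon
    push Not at hcon
    rw [← hcen Dc E hDcL hEL, ← hcen Ec D hEcL hDL, ← Subgroup.subgroupOf_sup hDcL hEcL,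
      ← Subgroup.subgroupOf_sup (inf_le_left.trans hDcL) (inf_le_left.trans hEcL)] at hcon
    -- `z` centralizes `F / N0` and `N0`, hence `F`
    obtain ⟨F, hF⟩ : ∃ F : Subgroup G, F = Dc ⊔ Ec := ⟨_, rfl⟩
    obtain ⟨N0, hN0⟩ : ∃ N0 : Subgroup G, N0 = Dc ⊓ centralizer (E : Set G) ⊔ Ec ⊓ centralizer (D : Set G) := ⟨_, rfl⟩
    rw [← hF, ← hN0] at hcon
    have hFL : F ≤ L := by rw [hF]; exact sup_le hDcL hEcL
    have hcon' : ∀ f ∈ F, z * f * z⁻¹ * f⁻¹ ∈ N0 := fun f hf => mem_subgroupOf.mp (hcon ⟨f, hFL hf⟩ (mem_subgroupOf.mpr hf))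
    have hN0L : L ≤ centralizer (N0 : Set G) := by
      rw [Subgroup.le_centralizer_iff, hN0]
      apply sup_le
      · rw [hL, Subgroup.le_centralizer_iff]
        apply sup_le
        · intro d hd
          rw [mem_centralizer_iff]
          intro e he
          exact hDab e (hDcD he.1) d hd
        · rw [Subgroup.le_centralizer_iff]; exact inf_le_right
      · rw [hL, Subgroup.le_centralizer_iff]
        apply sup_le
        · rw [Subgroup.le_centralizer_iff]; exact inf_le_right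
        · intro d hd
          rw [mem_centralizer_iff]
          intro e he
          exact hEab e (hEcE he.1) d hd
    have hF2 : IsPGroup 2 F := by
      rw [hF]
      apply isPGroup_sup (isPGroup_mono hD2p hDcD) (isPGroup_mono hE2p hEcE)
      intro e he
      apply mem_normalizer_of_map_conj_le
      rintro _ ⟨d, hd, rfl⟩
      show e * d * e⁻¹ ∈ Dc
      have h3 := h1 d (hDcD hd) e he
      have h4 : e * d * e⁻¹ = (d * e * d⁻¹ * e⁻¹)⁻¹ * d := by group
      rw [h4]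
      exact Dc.mul_mem (Dc.inv_mem h3) hd
    have hN0F : N0 ≤ F := by
      rw [hN0, hF]
      exact sup_le_sup inf_le_left inf_le_left
    have hchain : ∀ (f n : G), z * f * z⁻¹ = n * f → z * n = n * z → ∀ j : ℕ, z ^ j * f * (z ^ j)⁻¹ = n ^ j * f := by
      intro f n h3 h4 j
      induction j with
      | zero => simp
      | succ j ih =>
        have h5 : z * n ^ j = n ^ j * z := ((Commute.pow_right (show Commute z n from h4) j)).eq
        calc z ^ (j + 1) * f * (z ^ (j + 1))⁻¹ = z * (z ^ j * f * (z ^ j)⁻¹) * z⁻¹ := by rw [pow_succ']; group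
          _ = z * n ^ j * f * z⁻¹ := by rw [ih]; group
          _ = n ^ j * (z * f * z⁻¹) := by rw [h5]; group
          _ = n ^ (j + 1) * f := by rw [h3, pow_succ, mul_assoc]
    have hzF : ∀ f ∈ F, z * f = f * z := by
      intro f hf
      obtain ⟨n, hn⟩ : ∃ n, n = z * f * z⁻¹ * f⁻¹ := ⟨_, rfl⟩
      have hnN : n ∈ N0 := by rw [hn]; exact hcon' f hf
      have h3 : z * f * z⁻¹ = n * f := by rw [hn]; group
      have h4 : z * n = n * z := (mem_centralizer_iff.mp (hN0L hzL) n hnN).symm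
      have h5 := hchain f n h3 h4 p
      rw [hzp, one_mul, inv_one, mul_one] at h5
      have h6 : n ^ p = 1 := by
        have : n ^ p * f = 1 * f := by rw [one_mul]; exact h5.symm
        exact mul_right_cancel this
      have h7 : n = 1 := eq_one_of_isPGroup_of_pow hF2 (hN0F hnN) (n := p)
        ((Nat.coprime_primes hp Nat.prime_two).mpr hp2) h6
      rw [h7, one_mul, mul_inv_eq_iff_eq_mul] at h3
      exact h3
    -- `L` centralizes `QF/F`
    have hLF : L ≤ normalizer (F : Set G) := by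
      rw [hL]
      apply sup_le
      · intro t ht
        apply mem_normalizer_of_map_conj_le
        rw [hF, Subgroup.map_sup]
        apply sup_le
        · rintro _ ⟨d, hd, rfl⟩
          apply le_sup_left (a := Dc)
          show t * d * t⁻¹ ∈ Dc
          rw [hDab t ht d (hDcD hd), mul_inv_cancel_right]
          exact hd
        · rintro _ ⟨e, he, rfl⟩
          show t * e * t⁻¹ ∈ Dc ⊔ Ec
          have h3 : t * e * t⁻¹ = (t * e * t⁻¹ * e⁻¹) * e := by group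
          rw [h3]
          exact mul_mem (le_sup_left (a := Dc) (h1 t ht e he)) (le_sup_right (a := Dc) he)
      · intro t ht
        apply mem_normalizer_of_map_conj_le
        rw [hF, Subgroup.map_sup]
        apply sup_le
        · rintro _ ⟨d, hd, rfl⟩
          show t * d * t⁻¹ ∈ Dc ⊔ Ec
          have h3 : t * d * t⁻¹ = (t * d * t⁻¹ * d⁻¹) * d := by group
          rw [h3]
          exact mul_mem (le_sup_right (a := Dc) (h2 t ht d hd)) (le_sup_left (a := Dc) hd)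
        · rintro _ ⟨e, he, rfl⟩
          apply le_sup_right (a := Dc)
          show t * e * t⁻¹ ∈ Ec
          rw [hEab t ht e (hEcE he), mul_inv_cancel_right]
          exact he
    let T0 : Subgroup G :=
      { carrier := {l | l ∈ normalizer (F : Set G) ∧ ∀ q ∈ Q, l * q * l⁻¹ * q⁻¹ ∈ F}
        mul_mem' := by
          rintro u v ⟨hu1, hu2⟩ ⟨hv1, hv2⟩
          refine ⟨mul_mem hu1 hv1, fun q hq => ?_⟩
          have h3 : u * v * q * (u * v)⁻¹ * q⁻¹ = (u * (v * q * v⁻¹ * q⁻¹) * u⁻¹) * (u * q * u⁻¹ * q⁻¹) := by group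
          rw [h3]
          exact F.mul_mem ((mem_normalizer_iff.mp hu1 _).mp (hv2 q hq)) (hu2 q hq)
        one_mem' := ⟨one_mem _, fun q hq => by
          have h3 : (1 : G) * q * 1⁻¹ * q⁻¹ = 1 := by group
          rw [h3]; exact F.one_mem⟩
        inv_mem' := by
          rintro u ⟨hu1, hu2⟩
          refine ⟨inv_mem hu1, fun q hq => ?_⟩
          have h3 : u⁻¹ * q * u⁻¹⁻¹ * q⁻¹ = u⁻¹ * (u * q * u⁻¹ * q⁻¹)⁻¹ * u⁻¹⁻¹ := by group
          rw [h3]
          exact (mem_normalizer_iff.mp (inv_mem hu1) _).mp (F.inv_mem (hu2 q hq)) }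
    have hLT : L ≤ T0 := by
      rw [hL]
      apply sup_le
      · intro t ht
        refine ⟨hLF (hDL ht), fun q hq => ?_⟩
        have h3 : t * q * t⁻¹ * q⁻¹ ∈ D := by
          have h4 := conj_mem_of_le_normalizer hQD hq (D.inv_mem ht)
          have h5 : t * q * t⁻¹ * q⁻¹ = t * (q * t⁻¹ * q⁻¹) := by group
          rw [h5]; exact D.mul_mem ht h4
        have h4 : t * q * t⁻¹ * q⁻¹ ∈ Q := Q.mul_mem (hQn.conj_mem q hq t) (Q.inv_mem hq)
        rw [hF]
        exact le_sup_left (a := Dc) ((hmDc _).mpr ⟨hπA _ h4, h3⟩)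
      · intro t ht
        refine ⟨hLF (hEL ht), fun q hq => ?_⟩
        have h3 : t * q * t⁻¹ * q⁻¹ ∈ E := by
          have h4 := conj_mem_of_le_normalizer hQE hq (E.inv_mem ht)
          have h5 : t * q * t⁻¹ * q⁻¹ = t * (q * t⁻¹ * q⁻¹) := by group
          rw [h5]; exact E.mul_mem ht h4
        have h4 : t * q * t⁻¹ * q⁻¹ ∈ Q := Q.mul_mem (hQn.conj_mem q hq t) (Q.inv_mem hq)
        rw [hF]
        apply le_sup_right (a := Dc)
        rw [hmEc, hmDc]
        exact ⟨hπA _ (hyQ' _ h4), (hmE _).mp h3⟩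
    have hzQ : z ∈ centralizer (Q : Set G) := by
      rw [mem_centralizer_iff]
      intro q hq
      obtain ⟨n, hn⟩ : ∃ n, n = z * q * z⁻¹ * q⁻¹ := ⟨_, rfl⟩
      have hnF : n ∈ F := by rw [hn]; exact (hLT hzL).2 q hq
      have h3 : z * q * z⁻¹ = n * q := by rw [hn]; group
      have h5 := hchain q n h3 (hzF n hnF) p
      rw [hzp, one_mul, inv_one, mul_one] at h5
      have h6 : n ^ p = 1 := by
        have : n ^ p * q = 1 * q := by rw [one_mul]; exact h5.symm
        exact mul_right_cancel this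
      have h7 : n = 1 := eq_one_of_isPGroup_of_pow hF2 hnF (n := p)
        ((Nat.coprime_primes hp Nat.prime_two).mpr hp2) h6
      rw [h7, one_mul, mul_inv_eq_iff_eq_mul] at h3
      exact h3.symm
    apply hz1
    exact eq_one_of_isPGroup_of_pow hQ2 (hQc hzQ) (n := p) ((Nat.coprime_primes hp Nat.prime_two).mpr hp2) hzp

end Cfsg.Agent.Lib.H34FF
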