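import Cfsg.Agent.Lib.SuzukiStr4

/-!
Suzuki groups, part 20: conjugacy of subfield subgroups; generation by two elements.
-/

set_option autoImplicit false
set_option linter.unusedSectionVars false
set_option linter.unusedSimpArgs false
open scoped LinearAlgebra.Projectivization Matrix Pointwise

namespace Cfsg.Agent.Lib.SuzukiConj

open Cfsg.Agent.Lib.SuzukiOvoid Cfsg.Agent.Lib.SuzukiGroup Cfsg.Agent.Lib.SuzukiFin
  Cfsg.Agent.Lib.SuzukiStab Cfsg.Agent.Lib.SuzukiSyl Cfsg.Agent.Lib.SuzukiPts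
  Cfsg.Agent.Lib.SuzukiTor Cfsg.Agent.Lib.SuzukiNoFix Cfsg.Agent.Lib.TICount
  Cfsg.Agent.Lib.SuzukiCount Cfsg.Agent.Lib.SuzukiTori Cfsg.Agent.Lib.SuzukiStr
  Cfsg.Agent.Lib.SuzukiStr2 Cfsg.Agent.Lib.SuzukiStr3 Cfsg.Agent.Lib.SuzukiStr4

section general
variable {F : Type*} [Field F] [CharP F 2] (θ : F ≃+* F) (hθ : ∀ x, θ (θ x) = x ^ 2)
  (hne : ∃ x, θ x ≠ x ^ 2)
include hθ hne

theorem stab_solvable (p : ov θ) : Group.IsSolvable (MulAction.stabilizer (Gz θ) p) := by
  obtain ⟨k, hk⟩ := exists_to θ hθ p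
  have h1 := B_solvable θ hθ hne
  have e : (MulAction.stabilizer (Gz θ) (inf θ)).map (MulAut.conj k).toMonoidHom =
      MulAction.stabilizer (Gz θ) p := by
    ext g
    constructor
    · rintro ⟨x, hx, rfl⟩
      show (k * x * k⁻¹) • p = p
      have hx' : x • inf θ = inf θ := hx
      rw [← hk, mul_smul, inv_smul_smul, mul_smul, hx']
    · intro hg
      refine ⟨k⁻¹ * g * k, ?_, by show k * (k⁻¹ * g * k) * k⁻¹ = g; group⟩
      show (k⁻¹ * g * k) • inf θ = inf θ
      have hg' : g • p = p := hg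
      rw [mul_smul, mul_smul, hk, hg', inv_smul_eq_iff, hk]
  rw [← e]
  exact Group.isSolvable_of_surjective (f := ((MulAction.stabilizer (Gz θ) (inf θ)).equivMapOfInjective
    (MulAut.conj k).toMonoidHom (MulAut.conj k).injective).toMonoidHom)
    (MulEquiv.surjective _)

theorem not_solvable : ¬ Group.IsSolvable (Gz θ) := by
  intro h
  have := simple θ hθ hne
  have h1 := Group.IsSolvable.commutator_lt_top_of_nontrivial (Gz θ)
  rw [perfect θ hθ hne] at h1
  exact lt_irrefl _ h1

theorem conj_of_simple [Finite F] {M : Subgroup (Gz θ)} (hs : IsSimpleGroup M)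
    (hns : ¬ Group.IsSolvable M) : ∃ (K : Subfield F) (k : Gz θ), (∀ x ∈ K, θ x ∈ K) ∧
      (∃ x ∈ K, x ≠ 0 ∧ x ≠ 1) ∧ M = (SzSub θ K).map (MulAut.conj k).toMonoidHom := by
  rcases struct θ hθ hne M with ⟨p, hp⟩ | ⟨c, hc, hT, hc2⟩ | h
  · exfalso
    apply hns
    have := stab_solvable θ hθ hne p
    exact Group.isSolvable_of_isSolvable_injective (f := Subgroup.inclusion hp)
      (Subgroup.inclusion_injective hp)
  · exfalso
    apply hns
    have hn : ((Subgroup.centralizer {c}).subgroupOf M).Normal := by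
      constructor
      intro n hn g
      rw [Subgroup.mem_subgroupOf] at hn ⊢
      exact (Subgroup.mem_normalizer_iff.mp (hc2 g.2) _).mp hn
    have hcC : c ∈ Subgroup.centralizer {c} := Subgroup.mem_centralizer_singleton_iff.mpr rfl
    have htop : (Subgroup.centralizer {c}).subgroupOf M = ⊤ := by
      rcases hs.eq_bot_or_eq_top_of_normal _ hn with h | h
      · exfalso
        have h1 : (⟨c, hc⟩ : M) ∈ (Subgroup.centralizer {c}).subgroupOf M := hcC
        rw [h, Subgroup.mem_bot] at h1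
        exact hT.1 (congrArg Subtype.val h1)
      · exact h
    apply Group.isSolvable_of_comm
    intro a b
    have ha : (a : Gz θ) ∈ Subgroup.centralizer {c} := by
      have : a ∈ (Subgroup.centralizer {c}).subgroupOf M := htop ▸ Subgroup.mem_top a
      exact this
    have hb : (b : Gz θ) ∈ Subgroup.centralizer {c} := by
      have : b ∈ (Subgroup.centralizer {c}).subgroupOf M := htop ▸ Subgroup.mem_top b
      exact this
    exact Subtype.ext (IsTor.comm θ hθ hne hT ha hb)
  · exact h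

section restrict
variable [Finite F] (K : Subfield F) (hK : ∀ x ∈ K, θ x ∈ K)

omit [CharP F 2] hθ hne in
/-- the restriction of `θ` to a subfield -/
noncomputable def restr : K ≃+* K :=
  RingEquiv.ofBijective ((θ.toRingHom.comp K.subtype).codRestrict K (fun x => hK x x.2))
    (Finite.injective_iff_bijective.mp (by
      intro a b hab
      apply Subtype.ext
      apply θ.injective
      exact congrArg Subtype.val hab))

omit [CharP F 2] hθ hne in
theorem coe_restr (x : K) : ((restr θ K hK x : K) : F) = θ x := rfl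

theorem restr_sq (x : K) : restr θ K hK (restr θ K hK x) = x ^ 2 := by
  apply Subtype.ext
  rw [coe_restr, coe_restr, hθ]; rfl

theorem restr_ne (h : ∃ x ∈ K, x ≠ 0 ∧ x ≠ 1) : ∃ x, restr θ K hK x ≠ x ^ 2 := by
  by_contra hcon
  push Not at hcon
  obtain ⟨x, hx, hx0, hx1⟩ := h
  have h1 : θ x = x ^ 2 := congrArg Subtype.val (hcon ⟨x, hx⟩)
  have h2 := hθ x
  rw [h1, map_pow, h1] at h2
  have h3 : x ^ 2 * ((x - 1) ^ 2) = 0 := by
    have t := c2 (F := F)
    linear_combination h2 - (x ^ 3 - x ^ 2) * t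
  rcases mul_eq_zero.mp h3 with h | h
  · exact hx0 (pow_eq_zero_iff two_ne_zero |>.mp h)
  · exact hx1 (sub_eq_zero.mp (pow_eq_zero_iff two_ne_zero |>.mp h))

include hK in
theorem card_SzSub (h : ∃ x ∈ K, x ≠ 0 ∧ x ≠ 1) : Nat.card (SzSub θ K) =
    Nat.card K ^ 2 * (Nat.card K ^ 2 + 1) * (Nat.card K - 1) := by
  have e := embEquiv θ hθ hne (restr θ K hK) (restr_sq θ hθ hne K hK)
    (restr_ne θ hθ hne K hK h) K.subtype (fun x => coe_restr θ K hK x)
  rw [← card_G (restr θ K hK) (restr_sq θ hθ hne K hK) (restr_ne θ hθ hne K hK h),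
    Nat.card_congr e.toEquiv, Subfield.fieldRange_subtype]

end restrict

omit hθ hne in
theorem card_subfield [Finite F] {N : ℕ} (hN : Odd N) (hF : Nat.card F = 2 ^ N) (K : Subfield F) :
    K = ⊤ ∨ Nat.card K ^ 3 ≤ Nat.card F := by
  have h1 := Module.natCard_eq_pow_finrank (K := K) (V := F)
  set d := Module.finrank K F with hd
  have hd0 : d ≠ 0 := by
    intro h
    rw [h, pow_zero] at h1
    have : 1 < Nat.card F := Finite.one_lt_card
    omega
  have hK0 : 0 < Nat.card K := Nat.card_pos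
  have := Fintype.ofFinite F
  rcases Nat.lt_or_ge d 3 with h | h
  · left
    have hd12 : d = 1 ∨ d = 2 := by omega
    rcases hd12 with h2 | h2
    · rw [h2, pow_one] at h1
      apply subfield_unique
      rw [← h1]
      exact (Nat.card_congr (Subfield.topEquiv (K := F)).toEquiv).symm
    · exfalso
      rw [h2, hF] at h1
      obtain ⟨j, hj⟩ : ∃ j, Nat.card K = 2 ^ j := by
        have h3 : Nat.card K ∣ 2 ^ N := ⟨Nat.card K, by rw [h1]; ring⟩
        obtain ⟨j, -, hj⟩ := (Nat.dvd_prime_pow Nat.prime_two).mp h3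
        exact ⟨j, hj⟩
      rw [hj, ← pow_mul] at h1
      have h4 := Nat.pow_right_injective (le_refl 2) h1
      have h5 : Even N := ⟨j, by omega⟩
      exact (Nat.not_even_iff_odd.mpr hN) h5
  · right
    rw [h1]
    exact Nat.pow_le_pow_right hK0 h

/-- the Suzuki group is generated by two elements -/
theorem two_gen {m : ℕ} (hm : 1 ≤ m) [Finite F] (hF : Nat.card F = 2 ^ (2 * m + 1)) :
    ∃ a b : Gz θ, Subgroup.closure ({a, b} : Set (Gz θ)) = ⊤ := by
  obtain ⟨κ, hκ⟩ := IsCyclic.exists_generator (α := Fˣ)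
  have hq8 : 8 ≤ Nat.card F := by
    rw [hF]
    calc 8 = 2 ^ 3 := by norm_num
      _ ≤ _ := Nat.pow_le_pow_right (by norm_num) (by omega)
  have hκo : orderOf κ = Nat.card F - 1 := by
    rw [orderOf_eq_card_of_forall_mem_zpowers hκ, Nat.card_units]
  have hκ1 : κ ≠ 1 := by
    intro h
    rw [h, orderOf_one] at hκo
    omega
  set a := Hg θ hθ κ with ha
  have hao : orderOf a = Nat.card F - 1 := by
    rw [← hκo]
    exact orderOf_injective (HHom θ hθ) (HHom_inj θ hθ) κ
  have ha1 : a ≠ 1 := fun h => hκ1 ((Hg_eq_one θ hθ).mp h)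
  have haodd : Odd (orderOf a) := by
    rw [hao, Nat.odd_sub (by omega)]
    have : Even (Nat.card F) := even_card
    simp [this]
  set b := Ug θ hθ 1 0 * Wg θ hθ with hb
  have hbinf : b • inf θ = pt θ 1 0 := by rw [hb, mul_smul, Wg_inf, Ug_zero_pt]
  have hb0 : b • pt θ 0 0 = inf θ := by rw [hb, mul_smul, Wg_zero, Ug_inf]
  refine ⟨a, b, ?_⟩
  set M := Subgroup.closure ({a, b} : Set (Gz θ)) with hM
  have haM : a ∈ M := Subgroup.subset_closure (by simp)
  have hbM : b ∈ M := Subgroup.subset_closure (by simp)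
  have hainf : a • inf θ = inf θ := Hg_inf θ hθ κ
  have ha0 : a • pt θ 0 0 = pt θ 0 0 := by rw [ha, Hg_pt]; simp
  have hfix : ∀ p : ov θ, a • p = p → p = inf θ ∨ p = pt θ 0 0 := by
    intro p hp
    by_contra hcon
    push Not at hcon
    exact ha1 (three_points θ hθ hne (a := inf θ) (b := pt θ 0 0) (c := p)
      (Ne.symm (pt_ne_inf θ 0 0)) (Ne.symm hcon.2) (Ne.symm hcon.1) hainf ha0 hp)
  have h10 : pt θ 1 0 ≠ pt θ (0 : F) 0 := fun h => one_ne_zero (pt_inj θ h).1
  have haT : a ∈ Tp θ (inf θ) (pt θ 0 0) := ⟨hainf, ha0⟩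
  have hpp : inf θ ≠ pt θ 0 0 := (pt_ne_inf θ 0 0).symm
  rcases struct θ hθ hne M with ⟨p, hp⟩ | ⟨c, hc, hT, hc2⟩ | ⟨K, k, h1, h2, h3⟩
  · exfalso
    have h1 : a • p = p := hp haM
    have h2 : b • p = p := hp hbM
    rcases hfix p h1 with h | h
    · rw [h, hbinf] at h2
      exact pt_ne_inf θ 1 0 h2
    · rw [h, hb0] at h2
      exact hpp h2
  · exfalso
    -- a normalises C(c)
    have hn := hc2 haM
    -- a ∈ C(c)
    have haC : a ∈ Subgroup.centralizer {c} := by
      by_contra hna
      rcases types θ hθ hne c with h | ⟨p, h⟩ | ⟨p, p', hpp', h⟩ | h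
      · exact hT.1 (Subgroup.mem_bot.mp h)
      · exact hT.2 p h
      · -- a permutes the two fixed points of c and has odd order
        have h4 : a * c * a⁻¹ ∈ Tp θ p p' := by
          rw [← centralizer_Tp θ hθ hne hpp' h hT.1]
          exact (Subgroup.mem_normalizer_iff.mp hn _).mp
            (Subgroup.mem_centralizer_singleton_iff.mpr rfl)
        have hcc : a * c * a⁻¹ ≠ 1 := conj_ne_one θ hθ hne hT.1
        have key : ∀ z : ov θ, c • z = z → z = p ∨ z = p' := by
          intro z hz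
          by_contra hcon
          push Not at hcon
          exact hT.1 (three_points θ hθ hne hpp' (Ne.symm hcon.2) (Ne.symm hcon.1) h.1 h.2 hz)
        have hmap : ∀ z : ov θ, z = p ∨ z = p' → a⁻¹ • z = p ∨ a⁻¹ • z = p' := by
          intro z hz
          apply key
          have h5 : (a * c * a⁻¹) • z = z := by
            rcases hz with rfl | rfl
            · exact h4.1
            · exact h4.2
          rw [mul_smul, mul_smul, ← eq_inv_smul_iff] at h5
          exact h5
        have hsq : a⁻¹ ^ 2 • p = p := by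
          rw [sq, mul_smul]
          rcases hmap p (Or.inl rfl) with h5 | h5
          · rw [h5, h5]
          · rw [h5]
            rcases hmap p' (Or.inr rfl) with h6 | h6
            · exact h6
            · exfalso
              exact hpp' (smul_left_cancel _ (h5.trans h6.symm))
        have hap : a⁻¹ • p = p := by
          obtain ⟨j, hj⟩ := haodd
          have h6 := smul_of_fix θ hsq (j + 1)
          rw [← pow_mul, show 2 * (j + 1) = orderOf a⁻¹ + 1 by rw [orderOf_inv, hj]; ring,
            pow_succ, pow_orderOf_eq_one, one_mul] at h6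
          exact h6
        have hap' : a⁻¹ • p' = p' := by
          rcases hmap p' (Or.inr rfl) with h5 | h5
          · exfalso
            exact hpp' (smul_left_cancel _ (hap.trans h5.symm))
          · exact h5
        apply hna
        rw [centralizer_Tp θ hθ hne hpp' h hT.1]
        exact ⟨by rw [inv_smul_eq_iff] at hap; exact hap.symm,
          by rw [inv_smul_eq_iff] at hap'; exact hap'.symm⟩
      · -- order considerations
        obtain ⟨e, he, h5⟩ := conj_index θ hθ hne h
        have h6 : orderOf (⟨a, hn⟩ : Subgroup.normalizer (Subgroup.centralizer {c} : Set (Gz θ))) ∣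
            Nat.card (Subgroup.normalizer (Subgroup.centralizer {c} : Set (Gz θ))) :=
          orderOf_dvd_natCard _
        rw [Subgroup.orderOf_mk, h5, hao] at h6
        have h7 := cent_dvd θ hθ hne h
        have h8 : Nat.Coprime (Nat.card F - 1) (Nat.card (Subgroup.centralizer {c})) :=
          Nat.Coprime.coprime_dvd_right h7
            (Nat.Coprime.coprime_mul_left_right (coprime_aux (F := F))).symm
        have h9 := h8.dvd_of_dvd_mul_left h6
        have h10 := Nat.le_of_dvd (by norm_num) (h9.trans he)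
        omega
    -- then C(c) = T
    have hce : Subgroup.centralizer {c} = Tp θ (inf θ) (pt θ 0 0) := by
      rw [← IsTor.centralizer_eq θ hθ hne hT haC ha1, centralizer_Tp θ hθ hne hpp haT ha1]
    have hbn := hc2 hbM
    rw [hce] at hbn
    have h4 := (Subgroup.mem_normalizer_iff.mp hbn a).mp haT
    have h5 : (b * a * b⁻¹) • inf θ = inf θ := h4.1
    have h6 : (b * a * b⁻¹) • pt θ 0 0 = pt θ 0 0 := h4.2
    rw [mul_smul, mul_smul, ← eq_inv_smul_iff] at h6
    rcases hfix _ h6 with h | h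
    · rw [inv_smul_eq_iff, hbinf] at h
      exact h10 h.symm
    · rw [inv_smul_eq_iff, hb0] at h
      exact hpp h.symm
  · -- subfield case: order of a
    rcases card_subfield ⟨m, rfl⟩ hF K with h4 | h4
    · rw [h3, h4]
      have : SzSub θ (⊤ : Subfield F) = ⊤ := by
        rw [eq_top_iff]
        intro g _
        have key : ∀ p : ov θ, p ∈ subPts θ (⊤ : Subfield F) := by
          intro p
          rcases cases θ p with rfl | ⟨x, y, rfl⟩
          · exact inf_mem_subPts _ _
          · exact (pt_mem_subPts _).mpr ⟨Subfield.mem_top x, Subfield.mem_top y⟩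
        exact mem_SzSub_of _ (fun p _ => key _) (fun p _ => key _)
      rw [this]
      exact Subgroup.map_top_of_surjective _ (MulAut.conj k).surjective
    · exfalso
      have h5 : orderOf (⟨a, haM⟩ : M) ∣ Nat.card M := orderOf_dvd_natCard _
      have h6 : Nat.card M = Nat.card (SzSub θ K) := by
        rw [h3]; exact Subgroup.card_map_of_injective (MulAut.conj k).injective
      rw [Subgroup.orderOf_mk, hao, h6, card_SzSub θ hθ hne K h1 h2] at h5
      have h7 : Nat.Coprime (Nat.card F - 1) (Nat.card K ^ 2) := by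
        apply Nat.Coprime.pow_right
        obtain ⟨j, hj⟩ : ∃ j, Nat.card K = 2 ^ j := exists_pow_two (F := K)
        rw [hj]
        apply Nat.Coprime.pow_right
        rw [Nat.coprime_two_right, ← hao]
        exact haodd
      rw [mul_assoc] at h5
      have h8 := h7.dvd_of_dvd_mul_left h5
      have hs1 : 1 < Nat.card K := Finite.one_lt_card
      obtain ⟨r, hr⟩ : ∃ r, Nat.card K = r + 1 := ⟨Nat.card K - 1, by omega⟩
      rw [hr] at h8 h4 hs1
      rw [Nat.add_sub_cancel] at h8
      have h9 := Nat.le_of_dvd (by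
        apply Nat.mul_pos
        · positivity
        · omega) h8
      have h10 : (r + 1) ^ 3 = ((r + 1) ^ 2 + 1) * r + r ^ 2 + 2 * r + 1 - r + 0 := by
        have : (r + 1) ^ 3 = r ^ 3 + 3 * r ^ 2 + 3 * r + 1 := by ring
        have : ((r + 1) ^ 2 + 1) * r = r ^ 3 + 2 * r ^ 2 + 2 * r := by ring
        omega
      have h11 : r ≤ r ^ 2 := by nlinarith
      have h12 : 0 < r ^ 2 := by apply Nat.pow_pos; omega
      omega

end general

section
variable {F : Type*} [Field F] [Fintype F] [CharP F 2] {m : ℕ}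

theorem exists_sub (hm : 1 ≤ m) (hF : Fintype.card F = 2 ^ (2 * m + 1)) {E : Type*} [Field E]
    [Fintype E] {k : ℕ} (hk : 1 ≤ k) (hE : Fintype.card E = 2 ^ (2 * k + 1))
    (hdiv : 2 * k + 1 ∣ 2 * m + 1) :
    ∃ S : Subgroup (Gz (th F m)), Nonempty (S ≃* Cfsg.Sz E k) := by
  obtain ⟨K, hK⟩ := SuzukiSubf.exists_subfield (by omega) (natCard_of hF) hdiv
  exact ⟨SzSub (th F m) K, szSub_equiv hm hF hk hE K hK⟩

theorem arith_inj {s t : ℕ} (hs : 1 ≤ s) (ht : 1 ≤ t)
    (h : s ^ 2 * (s ^ 2 + 1) * (s - 1) = t ^ 2 * (t ^ 2 + 1) * (t - 1)) : s = t := by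
  have key : ∀ s t : ℕ, 1 ≤ s → s < t →
      s ^ 2 * (s ^ 2 + 1) * (s - 1) < t ^ 2 * (t ^ 2 + 1) * (t - 1) := by
    intro s t hs hst
    have h1 : s ^ 2 ≤ t ^ 2 := Nat.pow_le_pow_left hst.le 2
    have h2 : s ^ 2 * (s ^ 2 + 1) ≤ t ^ 2 * (t ^ 2 + 1) := Nat.mul_le_mul h1 (by omega)
    have h3 : 0 < t ^ 2 * (t ^ 2 + 1) := by
      apply Nat.mul_pos
      · apply Nat.pow_pos; omega
      · omega
    calc s ^ 2 * (s ^ 2 + 1) * (s - 1) ≤ t ^ 2 * (t ^ 2 + 1) * (s - 1) := Nat.mul_le_mul_right _ h2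
      _ < t ^ 2 * (t ^ 2 + 1) * (t - 1) := Nat.mul_lt_mul_of_pos_left (by omega) h3
  rcases Nat.lt_trichotomy s t with h1 | h1 | h1
  · exact absurd h (key s t hs h1).ne
  · exact h1
  · exact absurd h (key t s ht h1).ne'

theorem conj_subf (hm : 1 ≤ m) (hF : Fintype.card F = 2 ^ (2 * m + 1)) {E : Type*} [Field E]
    [Fintype E] {k : ℕ} (hk : 1 ≤ k) (hE : Fintype.card E = 2 ^ (2 * k + 1))
    (S₁ S₂ : Subgroup (Gz (th F m))) (h1 : Nonempty (S₁ ≃* Cfsg.Sz E k))
    (h2 : Nonempty (S₂ ≃* Cfsg.Sz E k)) :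
    ∃ g : Gz (th F m), S₂ = S₁.map (MulAut.conj g).toMonoidHom := by
  have hθ := th_sq hF
  have hne := th_ne hm hF
  have : CharP E 2 := charTwo hE
  have hθE := th_sq hE
  have hneE := th_ne hk hE
  have hEs := Sz_eq (F := E) k
  rw [hEs] at h1 h2
  have key : ∀ S : Subgroup (Gz (th F m)), Nonempty (S ≃* Gz (th E k)) →
      ∃ (K : Subfield F) (g : Gz (th F m)), Nat.card K = Nat.card E ∧
        S = (SzSub (th F m) K).map (MulAut.conj g).toMonoidHom := by
    rintro S ⟨e⟩
    have hs : IsSimpleGroup S := by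
      have := simple (th E k) hθE hneE
      exact (MulEquiv.isSimpleGroup_congr e).mpr this
    have hns : ¬ Group.IsSolvable S := by
      intro h
      exact not_solvable (th E k) hθE hneE
        (Group.isSolvable_of_isSolvable_injective (f := e.symm.toMonoidHom) e.symm.injective)
    obtain ⟨K, g, hK1, hK2, hK3⟩ := conj_of_simple (th F m) hθ hne hs hns
    refine ⟨K, g, ?_, hK3⟩
    have h3 : Nat.card S = Nat.card (SzSub (th F m) K) := by
      rw [hK3]; exact Subgroup.card_map_of_injective (MulAut.conj g).injective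
    rw [card_SzSub (th F m) hθ hne K hK1 hK2, Nat.card_congr e.toEquiv,
      card_G (th E k) hθE hneE] at h3
    exact (arith_inj Nat.card_pos Nat.card_pos h3).symm
  obtain ⟨K1, g1, a1, b1⟩ := key S₁ h1
  obtain ⟨K2, g2, a2, b2⟩ := key S₂ h2
  have hK : K1 = K2 := subfield_unique (a1.trans a2.symm)
  subst hK
  refine ⟨g2 * g1⁻¹, ?_⟩
  rw [b2, b1]
  ext x
  rw [mem_map_conj _ hθ hne, mem_map_conj _ hθ hne, mem_map_conj _ hθ hne]
  rw [show g1⁻¹ * ((g2 * g1⁻¹)⁻¹ * x * (g2 * g1⁻¹)) * g1 = g2⁻¹ * x * g2 by group]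

end

end Cfsg.Agent.Lib.SuzukiConj
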