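import Cfsg.Agent.Lib.H34FDef
import Cfsg.Agent.Lib.H34ZMain
import Cfsg.Agent.Lib.MobSolv
import Cfsg.Agent.Lib.MobDickson
import Cfsg.Agent.Lib.DkMax
import Cfsg.Agent.Lib.SuzukiConj

/-!
# Overgroups of a Sylow 2-subgroup in groups with composition factors `Sz(q)`, `PSL₂(3^odd)`
(helper15, piece H34-K for helper34)
-/

set_option autoImplicit false
set_option linter.unusedSectionVars false

namespace Cfsg.Agent.Lib.H34FK

open Subgroup Cfsg Function

universe u

section generic

variable {K : ∀ (X : Type u) [Group X], Prop}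

theorem comm_congr {A B : Type*} [Group A] [Group B] (e : A ≃* B) (h : IsMulCommutative A) : IsMulCommutative B :=
  ⟨⟨fun x y => by
    have h1 := congrArg e (h.1.comm (e.symm x) (e.symm y))
    rwa [map_mul, map_mul, e.apply_symm_apply, e.apply_symm_apply] at h1⟩⟩

theorem helper (hKc : ∀ (X Y : Type u) [Group X] [Group Y], (X ≃* Y) → K X → K Y) {G : Type u} [Group G]
    (hG : IsCompositionKGroupWith K G) {L : Subgroup G} (hL : L.IsSubnormal) {Q : Type u} [Group Q] (ψ : ↥L →* Q)
    (hψ : Surjective ψ) (hs : IsSimpleGroup Q) (hc : ¬ IsMulCommutative Q) : K Q := by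
  have e := QuotientGroup.quotientKerEquivOfSurjective ψ hψ
  exact hKc _ _ e (hG L hL ψ.ker e.isSimpleGroup (fun h => hc (comm_congr e h)))

theorem comp_of_surj (hKc : ∀ (X Y : Type u) [Group X] [Group Y], (X ≃* Y) → K X → K Y) {G H : Type u} [Group G] [Group H]
    (f : G →* H) (hf : Surjective f) (hG : IsCompositionKGroupWith K G) : IsCompositionKGroupWith K H := by
  intro L hL N _ hs hc
  exact helper hKc hG (hL.comap f) ((QuotientGroup.mk' N).comp (f.subgroupComap L))
    ((QuotientGroup.mk'_surjective N).comp (f.subgroupComap_surjective_of_surjective L hf)) hs hc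

theorem comp_sub (hKc : ∀ (X Y : Type u) [Group X] [Group Y], (X ≃* Y) → K X → K Y) {G : Type u} [Group G]
    (hG : IsCompositionKGroupWith K G) {N : Subgroup G} (hN : N.IsSubnormal) : IsCompositionKGroupWith K ↥N := by
  intro L hL M _ hs hc
  have h1 : (L.map N.subtype).IsSubnormal := hL.trans' hN
  exact helper hKc hG h1 ((QuotientGroup.mk' M).comp (L.equivMapOfInjective N.subtype N.subtype_injective).symm.toMonoidHom)
    ((QuotientGroup.mk'_surjective M).comp (MulEquiv.surjective _)) hs hc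

theorem comp_ext (hKc : ∀ (X Y : Type u) [Group X] [Group Y], (X ≃* Y) → K X → K Y) {G Q : Type u} [Group G] [Group Q]
    (φ : G →* Q) (hφ : Surjective φ) (hN : IsCompositionKGroupWith K ↥φ.ker) (hQ : IsCompositionKGroupWith K Q) :
    IsCompositionKGroupWith K G := by
  intro L hL M _ hs hc
  have hn : ((φ.ker.subgroupOf L).map (QuotientGroup.mk' M)).Normal :=
    Subgroup.Normal.map inferInstance _ (QuotientGroup.mk'_surjective M)
  rcases hs.eq_bot_or_eq_top_of_normal _ hn with hA | hA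
  · have hθ : Surjective (φ.subgroupMap L) := φ.subgroupMap_surjective L
    have hk : (φ.subgroupMap L).ker ≤ (QuotientGroup.mk' M).ker := by
      intro x hx
      have hx' : x ∈ φ.ker.subgroupOf L := by
        rw [mem_subgroupOf, MonoidHom.mem_ker]
        exact congrArg Subtype.val ((MonoidHom.mem_ker).mp hx)
      have h1 : QuotientGroup.mk' M x ∈ (φ.ker.subgroupOf L).map (QuotientGroup.mk' M) := mem_map_of_mem _ hx'
      rw [hA, mem_bot] at h1
      exact h1
    let e := (QuotientGroup.quotientKerEquivOfSurjective _ hθ).symm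
    refine helper hKc hQ (hL.map hφ) ((QuotientGroup.lift _ (QuotientGroup.mk' M) hk).comp e.toMonoidHom) ?_ hs hc
    have h3 : Surjective (QuotientGroup.lift (φ.subgroupMap L).ker (QuotientGroup.mk' M) hk) := by
      intro y
      obtain ⟨x, rfl⟩ := QuotientGroup.mk'_surjective M y
      exact ⟨(x : ↥L ⧸ (φ.subgroupMap L).ker), rfl⟩
    exact h3.comp e.surjective
  · let ι : ↥(L.subgroupOf φ.ker) →* ↥L :=
      { toFun := fun x => ⟨x.1.1, x.2⟩, map_one' := rfl, map_mul' := fun _ _ => rfl }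
    refine helper hKc hN (hL.subgroupOf) ((QuotientGroup.mk' M).comp ι) ?_ hs hc
    intro y
    have hy : y ∈ (φ.ker.subgroupOf L).map (QuotientGroup.mk' M) := by rw [hA]; exact mem_top y
    obtain ⟨x, hx, rfl⟩ := hy
    exact ⟨⟨⟨x.1, hx⟩, x.2⟩, rfl⟩

theorem comp_solv {G : Type u} [Group G] (hG : Group.IsSolvable G) : IsCompositionKGroupWith K G := by
  intro L hL M _ hs hc
  exfalso
  apply hc
  have h1 : Group.IsSolvable ↥L := Group.isSolvable_of_isSolvable_injective L.subtype_injective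
  have h2 : Group.IsSolvable (↥L ⧸ M) := Group.isSolvable_of_surjective (QuotientGroup.mk'_surjective M)
  exact ⟨⟨IsSimpleGroup.comm_iff_isSolvable.mpr h2⟩⟩

theorem comp_simple (hKc : ∀ (X Y : Type u) [Group X] [Group Y], (X ≃* Y) → K X → K Y) {G : Type u} [Group G]
    (hs : IsSimpleGroup G) (hK : K G) : IsCompositionKGroupWith K G := by
  intro L hL M _ hs' hc
  rcases hL.eq_bot_or_top_of_isSimpleGroup hs with h | h
  · exfalso
    subst h
    have := hs'.exists_pair_ne
    obtain ⟨a, b, hab⟩ := this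
    apply hab
    obtain ⟨a, rfl⟩ := QuotientGroup.mk'_surjective M a
    obtain ⟨b, rfl⟩ := QuotientGroup.mk'_surjective M b
    rw [Subsingleton.elim a b]
  · subst h
    let f : G →* (↥(⊤ : Subgroup G) ⧸ M) := (QuotientGroup.mk' M).comp (topEquiv (G := G)).symm.toMonoidHom
    have hf : Surjective f := (QuotientGroup.mk'_surjective M).comp (MulEquiv.surjective _)
    rcases hs.eq_bot_or_eq_top_of_normal f.ker inferInstance with h1 | h1
    · exact hKc _ _ (MulEquiv.ofBijective f ⟨(MonoidHom.ker_eq_bot_iff f).mp h1, hf⟩) hK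
    · exfalso
      obtain ⟨a, b, hab⟩ := hs'.exists_pair_ne
      apply hab
      obtain ⟨a, rfl⟩ := hf a
      obtain ⟨b, rfl⟩ := hf b
      have h2 : a ∈ f.ker := by rw [h1]; exact mem_top a
      have h3 : b ∈ f.ker := by rw [h1]; exact mem_top b
      rw [MonoidHom.mem_ker] at h2 h3
      rw [h2, h3]

theorem relIndex_dvd {G : Type*} [Group G] [Finite G] (H N : Subgroup G) [N.Normal] : H.relIndex N ∣ H.index := by
  have h1 : H.relIndex (H ⊔ N) = H.relIndex N := by
    have h2 := relIndex_mul_relIndex (H := H ⊓ N) (K := H) (L := H ⊔ N) inf_le_left le_sup_left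
    have h3 := relIndex_mul_relIndex (H := H ⊓ N) (K := N) (L := H ⊔ N) inf_le_right le_sup_right
    rw [inf_relIndex_left] at h2
    rw [inf_relIndex_right, relIndex_sup_right] at h3
    have h4 : N.relIndex H * H.relIndex (H ⊔ N) = N.relIndex H * H.relIndex N := by
      rw [h2, ← h3, mul_comm]
    have h5 : N.relIndex H ≠ 0 := by
      rw [relIndex]
      exact index_ne_zero_of_finite
    exact Nat.eq_of_mul_eq_mul_left (Nat.pos_of_ne_zero h5) h4
  rw [← h1]
  exact relIndex_dvd_index_of_le le_sup_left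

end generic

theorem kk_congr (X Y : Type*) [Group X] [Group Y] (e : X ≃* Y) (h : IsSuzukiOrPSL2OddPowerThree X) :
    IsSuzukiOrPSL2OddPowerThree Y := by
  rcases h with ⟨F, i1, i2, m, hm, hF, ⟨e'⟩⟩ | ⟨F, i1, i2, n, hF, ⟨e'⟩⟩
  · exact Or.inl ⟨F, i1, i2, m, hm, hF, ⟨e.symm.trans e'⟩⟩
  · exact Or.inr ⟨F, i1, i2, n, hF, ⟨e.symm.trans e'⟩⟩

section sz

open Cfsg.Agent.Lib.SuzukiOvoid Cfsg.Agent.Lib.SuzukiGroup Cfsg.Agent.Lib.SuzukiFin
  Cfsg.Agent.Lib.SuzukiStab Cfsg.Agent.Lib.SuzukiSyl Cfsg.Agent.Lib.SuzukiPts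
  Cfsg.Agent.Lib.SuzukiTor Cfsg.Agent.Lib.SuzukiNoFix Cfsg.Agent.Lib.SuzukiMax Cfsg.Agent.Lib.SuzukiConj

variable {F : Type} [Field F] [CharP F 2] [Finite F] (θ : F ≃+* F) (hθ : ∀ x, θ (θ x) = x ^ 2)
  (hne : ∃ x, θ x ≠ x ^ 2)
include hθ hne

theorem sz_odd {H : Subgroup (Gz θ)} (hH : Odd H.index) : H = ⊤ ∨ Group.IsSolvable H := by
  haveI : Fact (Nat.Prime 2) := ⟨Nat.prime_two⟩
  have hP := isPGroup_Up θ hθ hne (inf θ)
  have hcard : ¬ 2 ∣ Nat.card (Gz θ ⧸ H) := by
    intro h
    exact (Nat.not_even_iff_odd.mpr hH) (even_iff_two_dvd.mpr h)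
  obtain ⟨x, hx⟩ := hP.nonempty_fixed_point_of_prime_not_dvd_card (Gz θ ⧸ H) hcard
  obtain ⟨g, rfl⟩ := QuotientGroup.mk_surjective x
  have h1 : ∀ u ∈ Up θ hθ hne (inf θ), g⁻¹ * u * g ∈ H := by
    intro u hu
    have h2 := hx ⟨u, hu⟩
    have h3 : ((u * g : Gz θ) : Gz θ ⧸ H) = (g : Gz θ ⧸ H) := h2
    have h4 := QuotientGroup.eq.mp h3.symm
    rwa [← mul_assoc] at h4
  have h2 : Up θ hθ hne (g⁻¹ • inf θ) ≤ H := by
    intro u hu
    have h3 := Up_conj θ hθ hne hu g
    rw [smul_inv_smul] at h3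
    have h4 := h1 _ h3
    rwa [show g⁻¹ * (g * u * g⁻¹) * g = u by group] at h4
  by_cases h3 : ∀ h ∈ H, h • (g⁻¹ • inf θ) = g⁻¹ • inf θ
  · right
    have h4 := stab_solvable θ hθ hne (g⁻¹ • inf θ)
    have h5 : H ≤ MulAction.stabilizer (Gz θ) (g⁻¹ • inf θ) := fun h hh => h3 h hh
    exact Group.isSolvable_of_isSolvable_injective (f := Subgroup.inclusion h5) (Subgroup.inclusion_injective h5)
  · left
    push Not at h3
    obtain ⟨h, hh, h4⟩ := h3
    exact top_of_move θ hθ hne h2 hh h4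

end sz

theorem odd_index_map {G G' : Type*} [Group G] [Group G'] [Finite G] [Finite G'] (e : G ≃* G') {H : Subgroup G}
    (hH : Odd H.index) : Odd (H.map e.toMonoidHom).index := by
  have h1 : (H.map e.toMonoidHom).index = H.index :=
    Subgroup.index_map_of_bijective e.bijective H
  rw [h1]
  exact hH

theorem solv_of_map {G G' : Type*} [Group G] [Group G'] (e : G ≃* G') {H : Subgroup G}
    (h : Group.IsSolvable (H.map e.toMonoidHom)) : Group.IsSolvable H :=
  Group.isSolvable_of_isSolvable_injective (f := e.toMonoidHom.subgroupMap H) (fun a b hab => by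
    apply Subtype.ext
    exact e.injective (congrArg Subtype.val hab))

/-- odd index subgroups of Suzuki groups -/
theorem suz_case {G : Type u} [Group G] [Finite G] (h : Lie.IsoSuzuki G) {H : Subgroup G} (hH : Odd H.index) :
    H = ⊤ ∨ Group.IsSolvable H := by
  rw [SuzukiLie.isoSuzuki_iff] at h
  obtain ⟨F, iF, iFt, m, hm, hF, ⟨e⟩⟩ := h
  have hchar : CharP F 2 := SuzukiFin.charTwo hF
  have e' : G ≃* SuzukiOvoid.Gz (SuzukiFin.th F m) := e.trans (MulEquiv.subgroupCongr (SuzukiFin.Sz_eq m))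
  have hθ := SuzukiFin.th_sq hF
  have hne := SuzukiFin.th_ne hm hF
  haveI : Finite (SuzukiOvoid.Gz (SuzukiFin.th F m)) := Finite.of_equiv _ e'.toEquiv
  rcases sz_odd (SuzukiFin.th F m) hθ hne (odd_index_map e' hH) with h1 | h1
  · left
    rw [eq_top_iff]
    intro x _
    have h2 : e' x ∈ H.map e'.toMonoidHom := by rw [h1]; exact mem_top _
    obtain ⟨y, hy, hxy⟩ := h2
    rwa [← e'.injective hxy]
  · right
    exact solv_of_map e' h1

section psl

open Cfsg.Agent.Lib.MobCount Cfsg.Agent.Lib.DkMax MulAction Matrix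
open scoped LinearAlgebra.Projectivization MatrixGroups

theorem comp_of_P2 {X : Type u} [Group X] {F₀ : Type} [Field F₀] [Fintype F₀] {d : ℕ}
    (h : Fintype.card F₀ = 3 ^ (2 * d + 1)) (e : X ≃* P2 F₀) :
    IsCompositionKGroupWith IsSuzukiOrPSL2OddPowerThree X := by
  rcases Nat.eq_zero_or_pos d with hd | hd
  · subst hd
    have h1 : Group.IsSolvable (P2 F₀) := solvable_P2 (by rw [h]; norm_num)
    exact comp_solv (Group.isSolvable_of_isSolvable_injective (f := e.toMonoidHom) e.injective)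
  · have h4 : 4 ≤ Fintype.card F₀ := by
      rw [h]
      have := (H34ZL.arith hd).1
      omega
    haveI := simple_P2 (F := F₀) h4
    exact comp_simple kk_congr e.isSimpleGroup (Or.inr ⟨F₀, _, _, d, h, ⟨e⟩⟩)

theorem mod5 (n : ℕ) : (3 ^ (2 * n + 1)) % 5 = 3 ∨ (3 ^ (2 * n + 1)) % 5 = 2 := by
  induction n with
  | zero => left; norm_num
  | succ k ih =>
    have h : 3 ^ (2 * (k + 1) + 1) = 3 ^ (2 * k + 1) * 9 := by ring
    rw [h, Nat.mul_mod]
    rcases ih with ih | ih <;> rw [ih] <;> norm_num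

theorem mod8 (n : ℕ) : (3 ^ (2 * n + 1)) % 8 = 3 := by
  rw [pow_succ, pow_mul, Nat.mul_mod, Nat.pow_mod]
  norm_num

variable {F : Type} [Field F] [Fintype F] {n : ℕ} (hF : Fintype.card F = 3 ^ (2 * n + 1))
include hF

theorem two_card : 2 * Nat.card (P2 F) = 3 ^ (2 * n + 1) * ((3 ^ (2 * n + 1)) ^ 2 - 1) := by
  have h1 := card_P2 (F := F) hF
  have h2 : Nat.gcd 2 (3 ^ (2 * n + 1) - 1) = 2 := by
    apply Nat.gcd_eq_left
    have := mod8 n
    omega
  rwa [h2] at h1

theorem not_five : ¬ 5 ∣ Nat.card (P2 F) := by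
  intro h
  have h1 := two_card hF
  have h2 : 5 ∣ 3 ^ (2 * n + 1) * ((3 ^ (2 * n + 1)) ^ 2 - 1) := by
    rw [← h1]; exact h.mul_left 2
  rcases (Nat.Prime.dvd_mul (by norm_num)).mp h2 with h3 | h3
  · have := Nat.Prime.dvd_of_dvd_pow (by norm_num : Nat.Prime 5) h3
    omega
  · have h4 := mod5 n
    have h5 : (3 ^ (2 * n + 1)) ^ 2 % 5 = 4 := by
      rw [Nat.pow_mod]
      rcases h4 with h4 | h4 <;> rw [h4] <;> norm_num
    omega

theorem not_eight : ¬ 8 ∣ Nat.card (P2 F) := by
  intro h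
  have h1 := two_card hF
  obtain ⟨k, hk⟩ : ∃ k, 3 ^ (2 * n + 1) = 8 * k + 3 := ⟨3 ^ (2 * n + 1) / 8, by have := mod8 n; omega⟩
  rw [hk] at h1
  have h2 : (8 * k + 3) ^ 2 - 1 = 8 * (8 * k ^ 2 + 6 * k + 1) := by
    have : (8 * k + 3) ^ 2 = 8 * (8 * k ^ 2 + 6 * k + 1) + 1 := by ring
    omega
  rw [h2] at h1
  have h4 : Nat.card (P2 F) = 4 * ((8 * k + 3) * (8 * k ^ 2 + 6 * k + 1)) := by
    have : 2 * Nat.card (P2 F) = 2 * (4 * ((8 * k + 3) * (8 * k ^ 2 + 6 * k + 1))) := by rw [h1]; ring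
    omega
  obtain ⟨j, hj⟩ := h
  have h5 : (8 * k + 3) * (8 * k ^ 2 + 6 * k + 1) = 2 * j := by omega
  have h6 : (8 * k + 3) * (8 * k ^ 2 + 6 * k + 1) = 2 * ((4 * k + 1) * (8 * k ^ 2 + 6 * k + 1) + (4 * k ^ 2 + 3 * k)) + 1 := by ring
  omega

theorem subfield_card (k : Subfield F) : ∃ d, Nat.card k = 3 ^ (2 * d + 1) := by
  classical
  haveI : Fintype k := Fintype.ofFinite k
  have h1 : Fintype.card F = Fintype.card k ^ Module.finrank k F := Module.card_eq_pow_finrank
  rw [hF] at h1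
  have h0 : Module.finrank k F ≠ 0 := Module.finrank_pos.ne'
  have h2 : Fintype.card k ∣ 3 ^ (2 * n + 1) := by
    rw [h1]
    exact dvd_pow_self _ h0
  obtain ⟨c, -, hc⟩ := (Nat.dvd_prime_pow Nat.prime_three).mp h2
  rw [hc, ← pow_mul] at h1
  have h3 := Nat.pow_right_injective (le_refl 2 |>.trans (by norm_num : 2 ≤ 3)) h1
  have h4 : Odd (c * Module.finrank k F) := by
    rw [← h3]
    exact ⟨n, rfl⟩
  obtain ⟨d, hd⟩ := (Nat.odd_mul.mp h4).1
  exact ⟨d, by rw [Nat.card_eq_fintype_card, hc, hd]⟩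

theorem psl_case {G : Type u} [Group G] [Finite G] (e : G ≃* P2 F) (H : Subgroup G) :
    IsCompositionKGroupWith IsSuzukiOrPSL2OddPowerThree ↥H := by
  classical
  haveI : Fact (Nat.Prime 3) := ⟨Nat.prime_three⟩
  haveI : CharP F 3 := by
    obtain ⟨p, hp⟩ := CharP.exists F
    obtain ⟨m, hpr, hm⟩ := FiniteField.card F p
    have h1 : p ∣ 3 ^ (2 * n + 1) := by
      rw [← hF, hm]
      exact dvd_pow_self p m.ne_zero
    have h2 := (Nat.prime_dvd_prime_iff_eq hpr Nat.prime_three).mp (hpr.dvd_of_dvd_pow h1)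
    rw [← h2]; exact hp
  let f : ↥H →* PGL(Fin 2, F) := (Matrix.ProjectiveSpecialLinearGroup.toPGL).comp (e.toMonoidHom.comp H.subtype)
  have hf : Function.Injective f :=
    Matrix.ProjectiveSpecialLinearGroup.toPGL_injective.comp (e.injective.comp H.subtype_injective)
  have hHG : Nat.card ↥H ∣ Nat.card (P2 F) := by
    rw [← Nat.card_congr e.toEquiv]
    exact Subgroup.card_subgroup_dvd_card H
  rcases dickson 3 f hf with ⟨-, h⟩ | ⟨C, hC, -, h, -⟩ | ⟨-, h, -⟩ | ⟨-, h, -⟩ | ⟨-, h, -⟩ | ⟨-, x, hx⟩ | ⟨g, k, h | h⟩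
  · letI : CommGroup ↥H := IsCyclic.commGroup
    exact comp_solv inferInstance
  · exact comp_solv (isSolvable_of_cyclic_index_two C h)
  · exact comp_solv (Burnside.isSolvable_of_card_eq 12 2 3 2 1 Nat.prime_two Nat.prime_three (by rw [h]; norm_num) h)
  · exact comp_solv (Burnside.isSolvable_of_card_eq 24 2 3 3 1 Nat.prime_two Nat.prime_three (by rw [h]; norm_num) h)
  · exfalso
    apply not_five hF
    rw [h] at hHG
    exact (show 5 ∣ 60 by norm_num).trans hHG
  · apply comp_solv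
    haveI := solvable_stab_pgl x
    let f' : ↥H →* stabilizer (PGL(Fin 2, F)) x := f.codRestrict _ (fun h => hx h)
    apply Group.isSolvable_of_isSolvable_injective (f := f')
    intro a b hab
    exact hf (congrArg Subtype.val hab)
  · obtain ⟨F₀, i1, i2, hc, ⟨e₀⟩⟩ := psl_small k
    obtain ⟨d, hd⟩ := subfield_card hF k
    rw [hd] at hc
    have e1 : ↥H ≃* f.range := MonoidHom.ofInjective hf
    have e2 : f.range ≃* ↥(f.range.map (MulAut.conj g).toMonoidHom) :=
      f.range.equivMapOfInjective _ (MulAut.conj g).injective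
    exact comp_of_P2 hc (((e1.trans e2).trans (MulEquiv.subgroupCongr h)).trans e₀)
  · exfalso
    obtain ⟨d, hd⟩ := subfield_card hF k
    have e1 : ↥H ≃* f.range := MonoidHom.ofInjective hf
    have e2 : f.range ≃* ↥(f.range.map (MulAut.conj g).toMonoidHom) :=
      f.range.equivMapOfInjective _ (MulAut.conj g).injective
    have h1 : Nat.card ↥H = Nat.card k * (Nat.card k ^ 2 - 1) := by
      rw [← card_pgl_sub k]
      exact Nat.card_congr ((e1.trans e2).trans (MulEquiv.subgroupCongr h)).toEquiv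
    apply not_eight hF
    refine Dvd.dvd.trans ?_ hHG
    rw [h1, hd]
    apply Dvd.dvd.mul_left
    obtain ⟨j, hj⟩ : ∃ j, 3 ^ (2 * d + 1) = 8 * j + 3 := ⟨3 ^ (2 * d + 1) / 8, by have := mod8 d; omega⟩
    rw [hj]
    refine ⟨8 * j ^ 2 + 6 * j + 1, ?_⟩
    have : (8 * j + 3) ^ 2 = 8 * (8 * j ^ 2 + 6 * j + 1) + 1 := by ring
    omega

end psl

theorem over_aux (m : ℕ) : ∀ {G : Type u} [Group G] [Finite G], Nat.card G = m →
    IsCompositionKGroupWith IsSuzukiOrPSL2OddPowerThree G → ∀ (H : Subgroup G), Odd H.index →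
    IsCompositionKGroupWith IsSuzukiOrPSL2OddPowerThree ↥H := by
  induction m using Nat.strong_induction_on with
  | _ m ih =>
  intro G _ _ hm hG H hH
  by_cases hex : ∃ N : Subgroup G, N.Normal ∧ N ≠ ⊥ ∧ N ≠ ⊤
  · obtain ⟨N, hN, hb, ht⟩ := hex
    have hc1 : Nat.card N < m := by
      rw [← hm]
      rcases (Subgroup.card_le_card_group N).lt_or_eq with h | h
      · exact h
      · exact absurd (Subgroup.eq_top_of_card_eq N h) ht
    have hc2 : Nat.card (G ⧸ N) < m := by
      have h1 := Subgroup.card_eq_card_quotient_mul_card_subgroup N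
      have h2 : 1 < Nat.card N := N.one_lt_card_iff_ne_bot.mpr hb
      have h3 : 0 < Nat.card (G ⧸ N) := Nat.card_pos
      rw [hm] at h1
      nlinarith
    have hsm : Surjective ((QuotientGroup.mk' N).subgroupMap H) := (QuotientGroup.mk' N).subgroupMap_surjective H
    apply comp_ext kk_congr ((QuotientGroup.mk' N).subgroupMap H) hsm
    · have h1 := ih _ hc1 rfl (comp_sub kk_congr hG hN.isSubnormal) (H.subgroupOf N)
        (hH.of_dvd_nat (relIndex_dvd H N))
      let ι : ↥(H.subgroupOf N) →* ↥((QuotientGroup.mk' N).subgroupMap H).ker :=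
        { toFun := fun x => ⟨⟨x.1.1, x.2⟩, by
            rw [MonoidHom.mem_ker]
            apply Subtype.ext
            exact (QuotientGroup.eq_one_iff _).mpr x.1.2⟩
          map_one' := rfl
          map_mul' := fun _ _ => rfl }
      refine comp_of_surj kk_congr ι ?_ h1
      rintro ⟨⟨x, hx⟩, hx'⟩
      have h2 : x ∈ N := by
        rw [MonoidHom.mem_ker] at hx'
        exact (QuotientGroup.eq_one_iff _).mp (congrArg Subtype.val hx')
      exact ⟨⟨⟨x, h2⟩, hx⟩, rfl⟩
    · exact ih _ hc2 rfl (comp_of_surj kk_congr (QuotientGroup.mk' N) (QuotientGroup.mk'_surjective N) hG)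
        (H.map (QuotientGroup.mk' N)) (hH.of_dvd_nat (H.index_map_dvd (QuotientGroup.mk'_surjective N)))
  · by_cases hnt : Nontrivial G
    · have hs : IsSimpleGroup G := ⟨fun N hN => by
        by_contra hcon
        push Not at hcon
        exact hex ⟨N, hN, hcon.1, hcon.2⟩⟩
      by_cases hcomm : IsMulCommutative G
      · have h1 : Group.IsSolvable G := Group.isSolvable_of_comm (fun a b => hcomm.1.comm a b)
        exact comp_solv (Group.isSolvable_of_isSolvable_injective H.subtype_injective)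
      · have hK : IsSuzukiOrPSL2OddPowerThree G := by
          refine helper kk_congr hG (L := ⊤) ((inferInstance : (⊤ : Subgroup G).Normal).isSubnormal) (topEquiv (G := G)).toMonoidHom
            (MulEquiv.surjective _) hs hcomm
        rcases hK with h | ⟨F, i1, i2, n, hF, ⟨e⟩⟩
        · rcases suz_case h hH with h1 | h1
          · subst h1
            exact comp_of_surj kk_congr (topEquiv (G := G)).symm.toMonoidHom (MulEquiv.surjective _) hG
          · exact comp_solv h1
        · exact psl_case hF e H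
    · rw [not_nontrivial_iff_subsingleton] at hnt
      exact comp_solv (Group.isSolvable_of_comm (fun a b => Subsingleton.elim _ _))

theorem compK_of_odd_index {G : Type u} [Group G] [Finite G]
    (hK : IsCompositionKGroupWith IsSuzukiOrPSL2OddPowerThree G) {H : Subgroup G} (hH : Odd H.index) :
    IsCompositionKGroupWith IsSuzukiOrPSL2OddPowerThree ↥H := over_aux _ rfl hK H hH

open Cfsg.Agent.Lib.LocBase in
/-- overgroups of a Sylow 2-subgroup -/
theorem compK_over {G : Type u} [Group G] [Finite G]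
    (hK : IsCompositionKGroupWith IsSuzukiOrPSL2OddPowerThree G) {S : Subgroup G} (hS : IsSyl 2 S ⊤) {H : Subgroup G}
    (hSH : S ≤ H) : IsCompositionKGroupWith IsSuzukiOrPSL2OddPowerThree ↥H := by
  apply compK_of_odd_index hK
  rw [← Nat.not_even_iff_odd, even_iff_two_dvd]
  intro h
  apply hS.ndvd
  rw [relIndex_top_right]
  exact h.trans (index_dvd_of_le hSH)

end Cfsg.Agent.Lib.H34FK
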