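import Cfsg.Agent.Lib.H34FB

/-!
# Best offenders (helper34)
-/

set_option autoImplicit false
set_option linter.unusedSectionVars false

namespace Cfsg.Agent.Lib.H34FX

open Subgroup Cfsg Cfsg.Agent.Lib.SfAct Cfsg.Agent.Lib.LocBase Cfsg.Agent.Lib.SfMin Cfsg.Agent.Lib.PReduced
open Cfsg.Agent.Lib.SfRel Cfsg.Agent.Lib.SfThomp Cfsg.Agent.Lib.H34FDef Cfsg.Agent.Lib.H34FB

variable {G : Type*} [Group G] [Finite G]

/-- candidates -/
structure InB (S W B : Subgroup G) : Prop where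
  ge : S ⊓ centralizer (W : Set G) ≤ B
  le : B ≤ S
  sq : ∀ b ∈ B, b * b ∈ centralizer (W : Set G)

/-- the measure -/
noncomputable def mm (W B : Subgroup G) : ℕ := Nat.card B * Nat.card ↥(W ⊓ centralizer (B : Set G))

/-- best offenders -/
structure InC (S W B : Subgroup G) : Prop where
  b : InB S W B
  ne : ¬ B ≤ centralizer (W : Set G)
  max : ∀ B' : Subgroup G, InB S W B' → mm W B' ≤ mm W B

theorem comm_mem {C : Subgroup G} [C.Normal] {a b : G} (ha : a * a ∈ C) (hb : b * b ∈ C) (hab : (a * b) * (a * b) ∈ C) :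
    a * b * a⁻¹ * b⁻¹ ∈ C := by
  have h1 : a * b * a⁻¹ * b⁻¹ = ((a * b) * (a * b)) * (b⁻¹ * (a * a)⁻¹ * b⁻¹⁻¹) * (b * b)⁻¹ := by group
  rw [h1]
  exact mul_mem (mul_mem hab ((inferInstance : C.Normal).conj_mem _ (inv_mem ha) b⁻¹)) (inv_mem hb)

section main
variable {S W : Subgroup G} [hWn : W.Normal]

theorem InB.comm {B : Subgroup G} (h : InB S W B) {a b : G} (ha : a ∈ B) (hb : b ∈ B) :
    a * b * a⁻¹ * b⁻¹ ∈ centralizer (W : Set G) :=
  comm_mem (h.sq a ha) (h.sq b hb) (h.sq _ (mul_mem ha hb))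

theorem InB.of_le {B B' : Subgroup G} (h : InB S W B) (h1 : S ⊓ centralizer (W : Set G) ≤ B') (h2 : B' ≤ B) :
    InB S W B' := ⟨h1, h2.trans h.le, fun b hb => h.sq b (h2 hb)⟩

theorem inB_base : InB S W (S ⊓ centralizer (W : Set G)) :=
  ⟨le_rfl, inf_le_left, fun b hb => mul_mem hb.2 hb.2⟩

theorem mm_base : mm W (S ⊓ centralizer (W : Set G)) = Nat.card ↥(S ⊓ centralizer (W : Set G)) * Nat.card W := by
  unfold mm
  congr 2
  have : W ⊓ centralizer ((S ⊓ centralizer (W : Set G) : Subgroup G) : Set G) = W := by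
    rw [inf_eq_left, Subgroup.le_centralizer_iff]
    exact inf_le_right
  rw [this]

theorem exists_inC (h : ¬ PP 1 1 S W) : ∃ B, InC S W B := by
  unfold PP at h
  push Not at h
  obtain ⟨R, hR, hA, hle⟩ := h
  simp only [pow_one] at hle
  set SW := S ⊓ centralizer (W : Set G) with hSW
  have hRn : R ≤ normalizer (SW : Set G) := by
    apply le_normalizer_inf (hR.trans le_normalizer)
    rw [Subgroup.normalizer_eq_top]; exact le_top
  have hB : InB S W (SW ⊔ R) := by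
    refine ⟨le_sup_left, sup_le inf_le_left hR, ?_⟩
    intro b hb
    obtain ⟨s, hs, r, hr, rfl⟩ := exists_mul_of_mem_sup_of_le hRn hb
    have h1 := hA.sq r hr
    have h2 : (s * r) * (s * r) = s * (r * s * r⁻¹) * r ^ 2 := by rw [pow_two]; group
    rw [h2]
    exact mul_mem (mul_mem hs.2 ((inferInstance : (centralizer (W : Set G)).Normal).conj_mem _ hs.2 r)) h1
  have hRC : R ⊓ SW = R ⊓ centralizer (W : Set G) := by
    rw [hSW, ← inf_assoc, inf_eq_left.mpr hR]
  have hcard : Nat.card ↥(SW ⊔ R) * Nat.card ↥(R ⊓ centralizer (W : Set G)) = Nat.card R * Nat.card SW := by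
    have e1 : SW.relIndex (SW ⊔ R) = SW.relIndex R := LocTrace.relIndex_sup_of_le_normalizer hRn
    have e2 := FrakM.card_mul_relIndex (le_sup_left : SW ≤ SW ⊔ R)
    have e3 := FrakM.card_mul_relIndex (inf_le_left : R ⊓ SW ≤ R)
    rw [Subgroup.inf_relIndex_left] at e3
    rw [← hRC, ← e2, e1, ← e3]
    ring
  have hC : W ⊓ centralizer ((SW ⊔ R : Subgroup G) : Set G) = W ⊓ centralizer (R : Set G) := by
    apply le_antisymm
    · exact inf_le_inf_left W (cz_anti le_sup_right)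
    · refine le_inf inf_le_left ?_
      rw [Subgroup.le_centralizer_iff]
      apply sup_le
      · rw [Subgroup.le_centralizer_iff]
        exact inf_le_left.trans (Subgroup.le_centralizer_iff.mp inf_le_right)
      · rw [Subgroup.le_centralizer_iff]; exact inf_le_right
  have hge : mm W SW ≤ mm W (SW ⊔ R) := by
    rw [mm_base]
    unfold mm
    rw [hC]
    have hp : 0 < Nat.card ↥(R ⊓ centralizer (W : Set G)) := Nat.card_pos
    refine Nat.le_of_mul_le_mul_right ?_ hp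
    calc Nat.card SW * Nat.card W * Nat.card ↥(R ⊓ centralizer (W : Set G))
        = Nat.card SW * (Nat.card W * Nat.card ↥(R ⊓ centralizer (W : Set G))) := by ring
      _ ≤ Nat.card SW * (Nat.card R * Nat.card ↥(W ⊓ centralizer (R : Set G))) := Nat.mul_le_mul_left _ hle
      _ = (Nat.card R * Nat.card SW) * Nat.card ↥(W ⊓ centralizer (R : Set G)) := by ring
      _ = _ := by rw [← hcard]; ring
  have hfin : Set.Finite {B : Subgroup G | InB S W B ∧ ¬ B ≤ centralizer (W : Set G)} := Set.toFinite _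
  obtain ⟨B, hBm, hBmax⟩ := Set.Finite.exists_maximalFor (fun B : Subgroup G => mm W B) _ hfin
    ⟨SW ⊔ R, hB, fun h => hA.ne (le_sup_right.trans h)⟩
  have hmax : ∀ B', InB S W B' → ¬ B' ≤ centralizer (W : Set G) → mm W B' ≤ mm W B := by
    intro B' h1 h2
    rcases le_total (mm W B') (mm W B) with h | h
    · exact h
    · exact hBmax ⟨h1, h2⟩ h
  refine ⟨B, hBm.1, hBm.2, ?_⟩
  intro B' hB'
  by_cases h1 : B' ≤ centralizer (W : Set G)
  · have h2 : B' = SW := le_antisymm (le_inf hB'.le h1) hB'.ge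
    rw [h2]
    exact hge.trans (hmax _ hB (fun h => hA.ne (le_sup_right.trans h)))
  · exact hmax B' hB' h1

theorem InC.centralizes {A V : Subgroup G} (h : InC S W A) (hV : V ≤ W) (hQ : PP 1 1 S V) :
    A ≤ centralizer (V : Set G) := by
  by_contra hn
  have hac : Ac A V := by
    refine ⟨?_, ?_, hn⟩
    · rw [commutator_le]
      intro a ha b hb
      exact cz_anti hV (h.b.comm ha hb)
    · intro r hr
      rw [pow_two]
      exact cz_anti hV (h.b.sq r hr)
  have h1 := hQ A h.b.le hac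
  rw [pow_one, pow_one, pow_one, pow_one] at h1
  set A1 := A ⊓ centralizer (V : Set G) with hA1
  have hB1 : InB S W A1 := h.b.of_le (le_inf h.b.ge (inf_le_right.trans (cz_anti hV))) inf_le_left
  have h2 := h.max A1 hB1
  have h3 := card_mul_le (A := V) (B := W ⊓ centralizer (A : Set G)) (V := W ⊓ centralizer (A1 : Set G))
    (le_inf hV (Subgroup.le_centralizer_iff.mp inf_le_right)) (inf_le_inf_left W (cz_anti inf_le_left))
  have h4 : V ⊓ (W ⊓ centralizer (A : Set G)) = V ⊓ centralizer (A : Set G) := by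
    rw [← inf_assoc, inf_eq_left.mpr hV]
  rw [h4] at h3
  unfold mm at h2
  have hp : 0 < Nat.card ↥(W ⊓ centralizer (A1 : Set G)) := Nat.card_pos
  have h5 : Nat.card V * (Nat.card A1 * Nat.card ↥(W ⊓ centralizer (A1 : Set G))) <
      Nat.card V * (Nat.card A1 * Nat.card ↥(W ⊓ centralizer (A1 : Set G))) := by
    calc Nat.card V * (Nat.card A1 * Nat.card ↥(W ⊓ centralizer (A1 : Set G)))
        ≤ Nat.card V * (Nat.card A * Nat.card ↥(W ⊓ centralizer (A : Set G))) := Nat.mul_le_mul_left _ h2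
      _ = Nat.card A * (Nat.card V * Nat.card ↥(W ⊓ centralizer (A : Set G))) := by ring
      _ ≤ Nat.card A * (Nat.card ↥(W ⊓ centralizer (A1 : Set G)) * Nat.card ↥(V ⊓ centralizer (A : Set G))) :=
        Nat.mul_le_mul_left _ h3
      _ = (Nat.card A * Nat.card ↥(V ⊓ centralizer (A : Set G))) * Nat.card ↥(W ⊓ centralizer (A1 : Set G)) := by ring
      _ < (Nat.card V * Nat.card A1) * Nat.card ↥(W ⊓ centralizer (A1 : Set G)) :=
        Nat.mul_lt_mul_of_pos_right h1 hp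
      _ = _ := by ring
  exact lt_irrefl _ h5

theorem card_fiber {β : Type*} [Finite β] {B : Subgroup G} {A : Subgroup G} (f : A → β)
    (hf : ∀ a b : A, f a = f b → (a : G)⁻¹ * b ∈ B) : Nat.card A ≤ Nat.card β * Nat.card B := by
  classical
  let r : β → G := fun q => if h : ∃ a : A, f a = q then (h.choose : G) else 1
  have hr : ∀ a : A, (r (f a))⁻¹ * (a : G) ∈ B := by
    intro a
    have h : ∃ b : A, f b = f a := ⟨a, rfl⟩
    have e : r (f a) = (h.choose : G) := dif_pos h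
    rw [e]
    exact hf _ _ h.choose_spec
  rw [← Nat.card_prod]
  refine Nat.card_le_card_of_injective (fun a : A => (f a, (⟨_, hr a⟩ : B))) ?_
  intro a b h
  have h1 : f a = f b := congrArg Prod.fst h
  have h2 : (r (f a))⁻¹ * (a : G) = (r (f b))⁻¹ * (b : G) := congrArg (fun z : β × B => (z.2 : G)) h
  rw [h1] at h2
  exact Subtype.ext (mul_left_cancel h2)

theorem InC.quad {A : Subgroup G} (h : InC S W A) (hWc : W ≤ centralizer (W : Set G))
    (hmin : ∀ B : Subgroup G, InC S W B → B ≤ A → A ≤ B) :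
    ∀ w ∈ W, ∀ a ∈ A, a * w * a⁻¹ * w⁻¹ ∈ centralizer (A : Set G) := by
  classical
  intro w hw
  by_contra hcon
  push Not at hcon
  obtain ⟨a0, ha0, hna0⟩ := hcon
  have hWm : ∀ g : G, ∀ v ∈ W, g * v * g⁻¹ ∈ W := fun g v hv => hWn.conj_mem v hv g
  have hWcomm : ∀ u ∈ W, ∀ v ∈ W, u * v = v * u := fun u hu v hv => (mem_centralizer_iff.mp (hWc hu) v hv).symm
  have hAcc : ∀ c ∈ centralizer (A : Set G), ∀ a ∈ A, a * c * a⁻¹ = c := by
    intro c hc a ha
    rw [mem_centralizer_iff.mp hc a ha, mul_inv_cancel_right]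
  -- the subgroup `B`
  let B : Subgroup G :=
    { carrier := {b | b ∈ A ∧ b * w * b⁻¹ * w⁻¹ ∈ centralizer (A : Set G)}
      one_mem' := ⟨one_mem _, by
        have : (1 : G) * w * 1⁻¹ * w⁻¹ = 1 := by group
        rw [this]; exact one_mem _⟩
      mul_mem' := by
        rintro b c ⟨hb, hb'⟩ ⟨hc, hc'⟩
        refine ⟨mul_mem hb hc, ?_⟩
        have h1 : (b * c) * w * (b * c)⁻¹ * w⁻¹ = (b * (c * w * c⁻¹ * w⁻¹) * b⁻¹) * (b * w * b⁻¹ * w⁻¹) := by group
        rw [h1, hAcc _ hc' b hb]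
        exact mul_mem hc' hb'
      inv_mem' := by
        rintro b ⟨hb, hb'⟩
        refine ⟨inv_mem hb, ?_⟩
        have h1 : b⁻¹ * w * b⁻¹⁻¹ * w⁻¹ = b⁻¹ * (b * w * b⁻¹ * w⁻¹)⁻¹ * b⁻¹⁻¹ := by group
        rw [h1, hAcc _ (inv_mem hb') _ (inv_mem hb)]
        exact inv_mem hb' }
  have hBmem : ∀ b, b ∈ B ↔ b ∈ A ∧ b * w * b⁻¹ * w⁻¹ ∈ centralizer (A : Set G) := fun b => Iff.rfl
  have hBA : B ≤ A := fun b hb => hb.1
  have ha0B : a0 ∉ B := fun hb => hna0 hb.2
  have hfixW : ∀ c ∈ centralizer (W : Set G), ∀ v ∈ W, c * v * c⁻¹ = v := by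
    intro c hc v hv
    rw [← mem_centralizer_iff.mp hc v hv, mul_inv_cancel_right]
  have hBI : InB S W B := h.b.of_le (by
    intro s hs
    refine ⟨h.b.ge hs, ?_⟩
    have h1 := hfixW s hs.2 w hw
    rw [h1, mul_inv_cancel]; exact one_mem _) hBA
  -- `B` centralises the differences
  have hBd : ∀ b ∈ B, ∀ a ∈ A, b * (a * w * a⁻¹ * w⁻¹) * b⁻¹ = a * w * a⁻¹ * w⁻¹ := by
    intro b hb a ha
    obtain ⟨c, hc⟩ : ∃ c, c = b * w * b⁻¹ * w⁻¹ := ⟨_, rfl⟩
    have hcA : c ∈ centralizer (A : Set G) := hc ▸ hb.2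
    have hcW : c ∈ W := by rw [hc]; exact mul_mem (hWm b w hw) (inv_mem hw)
    have hbw : b * w * b⁻¹ = c * w := by rw [hc]; group
    have h1 : (b * a) * w * (b * a)⁻¹ = (a * b) * w * (a * b)⁻¹ := by
      have h2 : b * a = (b * a * b⁻¹ * a⁻¹) * (a * b) := by group
      have h3 : (b * a) * w * (b * a)⁻¹ = (b * a * b⁻¹ * a⁻¹) * ((a * b) * w * (a * b)⁻¹) * (b * a * b⁻¹ * a⁻¹)⁻¹ := by
        group
      rw [h3, hfixW _ (h.b.comm (hBA hb) ha) _ (hWm (a * b) w hw)]
    have h2 : (a * b) * w * (a * b)⁻¹ = c * (a * w * a⁻¹) := by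
      calc (a * b) * w * (a * b)⁻¹ = a * (b * w * b⁻¹) * a⁻¹ := by group
        _ = a * (c * w) * a⁻¹ := by rw [hbw]
        _ = (a * c * a⁻¹) * (a * w * a⁻¹) := by group
        _ = _ := by rw [hAcc c hcA a ha]
    have h3 : b * (a * w * a⁻¹ * w⁻¹) * b⁻¹ = ((b * a) * w * (b * a)⁻¹) * (b * w * b⁻¹)⁻¹ := by group
    rw [h3, h1, h2, hbw]
    have h4 : a * w * a⁻¹ * w⁻¹ ∈ W := mul_mem (hWm a w hw) (inv_mem hw)
    calc c * (a * w * a⁻¹) * (c * w)⁻¹ = c * (a * w * a⁻¹ * w⁻¹) * c⁻¹ := by group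
      _ = (a * w * a⁻¹ * w⁻¹) * c * c⁻¹ := by rw [hWcomm c hcW _ h4]
      _ = _ := by group
  -- counting
  set C := W ⊓ centralizer (A : Set G) with hC
  set D := W ⊓ centralizer (B : Set G) with hD
  have hCD : C ≤ D := inf_le_inf_left W (cz_anti hBA)
  have hdD : ∀ a ∈ A, a * w * a⁻¹ * w⁻¹ ∈ D := by
    intro a ha
    refine ⟨W.mul_mem (hWm a w hw) (W.inv_mem hw), ?_⟩
    show _ ∈ centralizer (B : Set G)
    rw [mem_centralizer_iff]
    intro b hb
    exact (mul_inv_eq_iff_eq_mul.mp (hBd b hb a ha))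
  have hwC : w ∉ C := by
    intro hwC
    apply hna0
    have : a0 * w * a0⁻¹ = w := hAcc w hwC.2 a0 ha0
    rw [this, mul_inv_cancel]; exact one_mem _
  have hkey : ∀ a b : A, (((a : G) * w * (a : G)⁻¹ * w⁻¹)⁻¹ * ((b : G) * w * (b : G)⁻¹ * w⁻¹)) ∈ C → (a : G)⁻¹ * b ∈ B := by
    intro a b hab
    refine ⟨mul_mem (inv_mem a.2) b.2, ?_⟩
    obtain ⟨u, hu⟩ : ∃ u, u = ((a : G) * w * (a : G)⁻¹ * w⁻¹)⁻¹ * ((b : G) * w * (b : G)⁻¹ * w⁻¹) := ⟨_, rfl⟩
    rw [← hu] at hab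
    have h1 : (b : G) * w * (b : G)⁻¹ = u * ((a : G) * w * (a : G)⁻¹) := by
      have h2 : (b : G) * w * (b : G)⁻¹ * w⁻¹ = ((a : G) * w * (a : G)⁻¹ * w⁻¹) * u := by rw [hu]; group
      have h3 : ((a : G) * w * (a : G)⁻¹ * w⁻¹) * u = u * ((a : G) * w * (a : G)⁻¹ * w⁻¹) :=
        hWcomm _ (mul_mem (hWm a w hw) (inv_mem hw)) _ hab.1
      calc (b : G) * w * (b : G)⁻¹ = ((b : G) * w * (b : G)⁻¹ * w⁻¹) * w := by group
        _ = u * ((a : G) * w * (a : G)⁻¹ * w⁻¹) * w := by rw [h2, h3]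
        _ = _ := by group
    have h2 : ((a : G)⁻¹ * b) * w * ((a : G)⁻¹ * b)⁻¹ * w⁻¹ = (a : G)⁻¹ * u * (a : G)⁻¹⁻¹ := by
      calc ((a : G)⁻¹ * b) * w * ((a : G)⁻¹ * b)⁻¹ * w⁻¹ = (a : G)⁻¹ * ((b : G) * w * (b : G)⁻¹) * (a : G) * w⁻¹ := by group
        _ = (a : G)⁻¹ * (u * ((a : G) * w * (a : G)⁻¹)) * (a : G) * w⁻¹ := by rw [h1]
        _ = _ := by group
    show _ ∈ centralizer (A : Set G)
    rw [h2, hAcc u hab.2 _ (inv_mem a.2)]
    exact hab.2
  by_cases hBW : B ≤ centralizer (W : Set G)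
  · -- the orbit misses the trivial coset
    let f : A → {q : W ⧸ C.subgroupOf W // q ≠ QuotientGroup.mk 1} := fun a =>
      ⟨QuotientGroup.mk ⟨(a : G) * w * (a : G)⁻¹, hWm a w hw⟩, by
        intro hq
        rw [eq_comm, QuotientGroup.eq, mem_subgroupOf] at hq
        have h1 : (a : G) * w * (a : G)⁻¹ ∈ C := by
          simpa using hq
        apply hwC
        have h2 : (a : G)⁻¹ * ((a : G) * w * (a : G)⁻¹) * (a : G)⁻¹⁻¹ = w := by group
        rw [← h2, hAcc _ h1.2 _ (inv_mem a.2)]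
        exact h1⟩
    have hf : ∀ a b : A, f a = f b → (a : G)⁻¹ * b ∈ B := by
      intro a b hab
      apply hkey
      have h1 := congrArg Subtype.val hab
      have h2 : (QuotientGroup.mk ⟨(a : G) * w * (a : G)⁻¹, hWm a w hw⟩ : W ⧸ C.subgroupOf W) =
          QuotientGroup.mk ⟨(b : G) * w * (b : G)⁻¹, hWm b w hw⟩ := h1
      rw [QuotientGroup.eq, mem_subgroupOf] at h2
      have h3 : ((a : G) * w * (a : G)⁻¹)⁻¹ * ((b : G) * w * (b : G)⁻¹) ∈ C := h2
      have h4 : ((a : G) * w * (a : G)⁻¹ * w⁻¹)⁻¹ * ((b : G) * w * (b : G)⁻¹ * w⁻¹) =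
          ((a : G) * w * (a : G)⁻¹)⁻¹ * ((b : G) * w * (b : G)⁻¹) := by
        have e1 := hWcomm _ h3.1 w⁻¹ (inv_mem hw)
        calc ((a : G) * w * (a : G)⁻¹ * w⁻¹)⁻¹ * ((b : G) * w * (b : G)⁻¹ * w⁻¹)
            = w * ((((a : G) * w * (a : G)⁻¹)⁻¹ * ((b : G) * w * (b : G)⁻¹)) * w⁻¹) := by group
          _ = w * (w⁻¹ * (((a : G) * w * (a : G)⁻¹)⁻¹ * ((b : G) * w * (b : G)⁻¹))) := by rw [e1]
          _ = _ := by group
      rw [h4]; exact h3
    have h1 := card_fiber f hf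
    have h2 : Nat.card {q : W ⧸ C.subgroupOf W // q ≠ QuotientGroup.mk 1} + 1 = Nat.card (W ⧸ C.subgroupOf W) := by
      have := Fintype.ofFinite (W ⧸ C.subgroupOf W)
      rw [Nat.card_eq_fintype_card, Nat.card_eq_fintype_card, Fintype.card_subtype_compl, Fintype.card_subtype_eq]
      have : 0 < Fintype.card (W ⧸ C.subgroupOf W) := Fintype.card_pos
      omega
    have h3 : Nat.card (W ⧸ C.subgroupOf W) * Nat.card C = Nat.card W := by
      rw [Subgroup.card_eq_card_quotient_mul_card_subgroup (C.subgroupOf W),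
        Nat.card_congr (Subgroup.subgroupOfEquivOfLe (inf_le_left : C ≤ W)).toEquiv]
    have hBS : B = S ⊓ centralizer (W : Set G) := le_antisymm (le_inf (hBA.trans h.b.le) hBW) hBI.ge
    have h4 := h.max _ (inB_base (S := S) (W := W))
    rw [mm_base, ← hBS] at h4
    have h4' : Nat.card B * Nat.card W ≤ Nat.card A * Nat.card C := h4
    have hCp : 0 < Nat.card C := Nat.card_pos
    have hBp : 0 < Nat.card B := Nat.card_pos
    have h5 : Nat.card B * (Nat.card (W ⧸ C.subgroupOf W) * Nat.card C) ≤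
        (Nat.card {q : W ⧸ C.subgroupOf W // q ≠ QuotientGroup.mk 1} * Nat.card B) * Nat.card C := by
      rw [h3]
      exact h4'.trans (Nat.mul_le_mul_right _ h1)
    rw [← h2] at h5
    nlinarith
  · -- `B` is a smaller best offender
    let f : A → D ⧸ C.subgroupOf D := fun a => QuotientGroup.mk ⟨_, hdD a a.2⟩
    have hf : ∀ a b : A, f a = f b → (a : G)⁻¹ * b ∈ B := by
      intro a b hab
      apply hkey
      have h2 : (QuotientGroup.mk ⟨_, hdD a a.2⟩ : D ⧸ C.subgroupOf D) = QuotientGroup.mk ⟨_, hdD b b.2⟩ := hab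
      rw [QuotientGroup.eq, mem_subgroupOf] at h2
      exact h2
    have h1 := card_fiber f hf
    have h3 : Nat.card (D ⧸ C.subgroupOf D) * Nat.card C = Nat.card D := by
      rw [Subgroup.card_eq_card_quotient_mul_card_subgroup (C.subgroupOf D),
        Nat.card_congr (Subgroup.subgroupOfEquivOfLe hCD).toEquiv]
    have h4 : mm W A ≤ mm W B := by
      unfold mm
      calc Nat.card A * Nat.card C ≤ (Nat.card (D ⧸ C.subgroupOf D) * Nat.card B) * Nat.card C := Nat.mul_le_mul_right _ h1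
        _ = Nat.card B * (Nat.card (D ⧸ C.subgroupOf D) * Nat.card C) := by ring
        _ = _ := by rw [h3]
    have hBC : InC S W B := ⟨hBI, hBW, fun B' hB' => (h.max B' hB').trans h4⟩
    exact ha0B (hmin B hBC hBA ha0)

end main

end Cfsg.Agent.Lib.H34FX
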