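import Cfsg.Agent.Lib.H34FDef
import Cfsg.Agent.Lib.SuzukiMax
import Cfsg.Agent.Lib.H34ZMain

/-!
# Components of type Sz(q) and a 2-local maximal subgroup (helper34)
-/

set_option autoImplicit false
set_option linter.unusedSectionVars false

namespace Cfsg.Agent.Lib.H34FY3

open Subgroup Cfsg Cfsg.Agent.Lib.Components Cfsg.Agent.Lib.LocBase Cfsg.Agent.Lib.H34ZQ
open Cfsg.Agent.Lib.SuzukiOvoid Cfsg.Agent.Lib.SuzukiGroup Cfsg.Agent.Lib.SuzukiFin
  Cfsg.Agent.Lib.SuzukiStab Cfsg.Agent.Lib.SuzukiSyl Cfsg.Agent.Lib.SuzukiPts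
  Cfsg.Agent.Lib.SuzukiTor Cfsg.Agent.Lib.SuzukiNoFix
  Cfsg.Agent.Lib.SuzukiCount Cfsg.Agent.Lib.SuzukiTori Cfsg.Agent.Lib.SuzukiStr Cfsg.Agent.Lib.SuzukiMax

section sz
variable {F : Type} [Field F] [CharP F 2] (θ : F ≃+* F) (hθ : ∀ x, θ (θ x) = x ^ 2)
  (hne : ∃ x, θ x ≠ x ^ 2)
variable [Finite F]
include hθ hne

theorem sz_gen {M T : Subgroup (Gz θ)} (hT : IsPGroup 2 T)
    (hTm : ∀ T' : Subgroup (Gz θ), IsPGroup 2 T' → T ≤ T' → T' ≤ T) {r : ℕ} (hr : r.Prime) (hr2 : r ≠ 2)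
    (hrq : r ∣ Nat.card F ^ 2 + 1) {g : Gz θ} (hg : orderOf g = r) (h1 : T ≤ M) (h2 : ∀ t ∈ T, g * t * g⁻¹ ∈ M) :
    M = ⊤ := by
  obtain ⟨p, hp⟩ := two_group_le θ hθ hne hT
  have h3 : Up θ hθ hne p ≤ T := hTm _ (isPGroup_Up θ hθ hne p) hp
  have hF2 : 1 < Nat.card F := Finite.one_lt_card
  have hgp : g • p ≠ p := by
    intro hgp
    obtain ⟨k, hk⟩ := exists_to θ hθ p
    have h4 : (k⁻¹ * g * k) ∈ MulAction.stabilizer (Gz θ) (inf θ) := by
      rw [MulAction.mem_stabilizer_iff, mul_smul, mul_smul, hk, hgp, ← hk, inv_smul_smul]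
    have h5 : orderOf (k⁻¹ * g * k) = r := by
      have := (MulAut.conj k⁻¹).orderOf_eq g
      rw [MulAut.conj_apply, inv_inv] at this
      rw [this, hg]
    have h6 : r ∣ Nat.card (MulAction.stabilizer (Gz θ) (inf θ)) := by
      rw [← h5, ← Subgroup.orderOf_mk _ h4]
      exact orderOf_dvd_natCard _
    rw [card_stab θ hθ hne] at h6
    rcases (Nat.Prime.dvd_mul hr).mp h6 with h7 | h7
    · have := (Nat.dvd_add_right h7).mp hrq
      exact hr.one_lt.ne' (Nat.dvd_one.mp this)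
    · have h8 : r ∣ Nat.card F ^ 2 - 1 := by
        have : Nat.card F ^ 2 - 1 = (Nat.card F + 1) * (Nat.card F - 1) := by
          have := Nat.sq_sub_sq (Nat.card F) 1
          rwa [one_pow] at this
        rw [this]; exact Dvd.dvd.mul_left h7 _
      have h9 : r ∣ (Nat.card F ^ 2 + 1) - (Nat.card F ^ 2 - 1) := Nat.dvd_sub hrq h8
      have h10 : (Nat.card F ^ 2 + 1) - (Nat.card F ^ 2 - 1) = 2 := by
        have : 1 ≤ Nat.card F ^ 2 := Nat.one_le_pow _ _ (by omega)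
        omega
      rw [h10] at h9
      exact hr2 ((Nat.prime_dvd_prime_iff_eq hr Nat.prime_two).mp h9)
  refine top_of_two θ hθ hne hgp (p := g • p) (p' := p) ?_ (h3.trans h1)
  intro x hx
  have h4 := Up_conj θ hθ hne hx g⁻¹
  rw [inv_inv, inv_smul_smul] at h4
  have h5 := h2 _ (h3 h4)
  rwa [show g * (g⁻¹ * x * g) * g⁻¹ = x by group] at h5

variable {G : Type*} [Group G] [Finite G]

theorem track {S M K : Subgroup G} (hS : IsSyl 2 S ⊤) (hSM : S ≤ M) (hKs : K.IsSubnormal)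
    (e : K ≃* Gz θ) {r : ℕ} (hr : r.Prime) (hr2 : r ≠ 2)
    (hrq : r ∣ Nat.card F ^ 2 + 1) {x : G} {k0 : K} (hk0 : orderOf k0 = r)
    (hx : ∀ k ∈ K, x * k * x⁻¹ = k0 * k * (k0 : G)⁻¹) (hKM : ¬ K ≤ M) : x ∉ M := by
  intro hxM
  apply hKM
  have h2p : Fact (Nat.Prime 2) := ⟨Nat.prime_two⟩
  have hSK : IsSyl 2 (S ⊓ K) K := (subn_top_iff.mpr hKs).isSyl hS
  have h1 : (M.subgroupOf K).map e.toMonoidHom = ⊤ := by
    refine sz_gen θ hθ hne (T := ((S ⊓ K).subgroupOf K).map e.toMonoidHom) ?_ ?_ hr hr2 hrq (g := e k0) ?_ ?_ ?_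
    · apply IsPGroup.map
      exact (hSK.pgroup).of_equiv (Subgroup.subgroupOfEquivOfLe hSK.le).symm
    · intro T' hT' hle
      have h3 : IsPGroup 2 ↥((T'.comap e.toMonoidHom).map K.subtype) :=
        (hT'.comap_of_injective e.toMonoidHom e.injective).map _
      have h4 := hSK.eq_of_le h3 (Subgroup.map_subtype_le _) (by
        intro y hy
        refine ⟨⟨y, hy.2⟩, ?_, rfl⟩
        exact hle ⟨⟨y, hy.2⟩, hy, rfl⟩)
      intro t ht
      obtain ⟨y, rfl⟩ := e.surjective t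
      refine ⟨y, ?_, rfl⟩
      rw [SetLike.mem_coe, mem_subgroupOf, h4]
      exact ⟨y, ht, rfl⟩
    · rw [← hk0]; exact orderOf_injective e.toMonoidHom e.injective k0
    · apply Subgroup.map_mono
      intro y hy
      exact hSM hy.1
    · rintro _ ⟨y, hy, rfl⟩
      refine ⟨k0 * y * k0⁻¹, ?_, ?_⟩
      · show ((k0 * y * k0⁻¹ : K) : G) ∈ M
        have h3 : ((k0 * y * k0⁻¹ : K) : G) = x * y * x⁻¹ := by
          rw [hx y y.2]; rfl
        rw [h3]
        exact mul_mem (mul_mem hxM (hSM hy.1)) (inv_mem hxM)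
      · show e (k0 * y * k0⁻¹) = e k0 * e y * (e k0)⁻¹
        rw [map_mul, map_mul, map_inv]
  intro k hk
  have h2 : e ⟨k, hk⟩ ∈ (M.subgroupOf K).map e.toMonoidHom := by rw [h1]; trivial
  obtain ⟨y, hy, hye⟩ := h2
  have : y = ⟨k, hk⟩ := e.injective hye
  rw [this] at hy
  exact hy

end sz

section tg
variable {G : Type*} [Group G]

/-- tracked diagonal subgroups -/
structure TG (A X K : Subgroup G) (S : Type) [Group S] : Prop where
  good : Good A X S
  ex : ∃ ψ : X →* K, Function.Bijective ψ ∧ ∀ x : X, ∀ k ∈ K, (x : G) * k * (x : G)⁻¹ = (ψ x : G) * k * (ψ x : G)⁻¹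
  mv : ∀ a ∈ A, a ∉ normalizer (X : Set G) → ∀ x ∈ X, ∀ k ∈ K, (a * x * a⁻¹) * k = k * (a * x * a⁻¹)

theorem TG.fin [Finite G] {S : Type} [Group S] [IsSimpleGroup S] (hS : ¬ IsMulCommutative S)
    {A K : Subgroup G} (hA2 : ∀ a ∈ A, a * a = 1) (hKz : ∀ k ∈ K, (∀ l ∈ K, k * l = l * k) → k = 1) :
    ∀ (n : ℕ) (X : Subgroup G), Nat.card A - Nat.card ↥(A ⊓ normalizer (X : Set G)) = n → TG A X K S →
      (∃ Y : Subgroup G, TG A Y K S ∧ A ≤ normalizer (Y : Set G)) ∨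
      (∃ Y : Subgroup G, TG A Y K S ∧ ∃ a ∈ A, a ∉ normalizer (Y : Set G) ∧
        (∀ x ∈ Y, ∀ y ∈ Y, x * (a * y * a⁻¹) = (a * y * a⁻¹) * x) ∧
        ∀ x ∈ Y, ∀ c ∈ A, c * (x⁻¹ * (a * x * a⁻¹)) * c⁻¹ = x⁻¹ * (a * x * a⁻¹) ∨
          c * (x⁻¹ * (a * x * a⁻¹)) * c⁻¹ = (x⁻¹ * (a * x * a⁻¹))⁻¹) := by
  classical
  have hinv : ∀ a ∈ A, a⁻¹ = a := fun a ha => inv_eq_of_mul_eq_one_left (hA2 a ha)
  have hcomm : ∀ a ∈ A, ∀ b ∈ A, a * b = b * a := by
    intro a ha b hb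
    have h1 := hinv (a * b) (mul_mem ha hb)
    rw [mul_inv_rev, hinv a ha, hinv b hb] at h1
    exact h1.symm
  have hnorm : ∀ (X : Subgroup G) (a : G), a ∈ A → (∀ x ∈ X, a * x * a⁻¹ ∈ X) → a ∈ normalizer (X : Set G) := by
    intro X a ha h
    rw [mem_normalizer_iff]
    intro x
    refine ⟨fun hx => h x hx, fun hx => ?_⟩
    have h1 := h _ hx
    have h2 : a * (a * x * a⁻¹) * a⁻¹ = x := by
      rw [hinv a ha]
      calc a * (a * x * a) * a = (a * a) * x * (a * a) := by group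
        _ = x := by rw [hA2 a ha]; group
    rwa [h2] at h1
  intro n
  induction n using Nat.strong_induction_on with
  | _ n ih =>
  intro X hn hTG
  have hX := hTG.good
  by_cases hAN : A ≤ normalizer (X : Set G)
  · exact Or.inl ⟨X, hTG, hAN⟩
  obtain ⟨a, haA, haN⟩ : ∃ a ∈ A, a ∉ normalizer (X : Set G) := by
    by_contra hcon; push Not at hcon; exact hAN hcon
  have hca : ∀ x ∈ X, ∀ y ∈ X, x * (a * y * a⁻¹) = (a * y * a⁻¹) * x := by
    rcases hX.alt a haA with h | h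
    · exact absurd (hnorm X a haA h) haN
    · exact h
  have hQ := hX.qs.dg hS hca
  obtain ⟨Y, hY⟩ : ∃ Y, Y = (dg X a hca).range := ⟨_, rfl⟩
  have hYmem : ∀ y, y ∈ Y ↔ ∃ x ∈ X, y = x * (a * x * a⁻¹) := by
    intro y
    rw [hY]
    constructor
    · rintro ⟨x, rfl⟩; exact ⟨x, x.2, rfl⟩
    · rintro ⟨x, hx, rfl⟩; exact ⟨⟨x, hx⟩, rfl⟩
  have hQ' := hQ
  rw [← hY] at hQ
  have hai := hinv a haA
  -- normalising elements
  have hn1 : ∀ b ∈ A, (∀ x ∈ X, b * x * b⁻¹ ∈ X) → ∀ y ∈ Y, b * y * b⁻¹ ∈ Y := by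
    intro b hb h y hy
    rw [hYmem] at hy ⊢
    obtain ⟨x, hx, rfl⟩ := hy
    refine ⟨_, h x hx, ?_⟩
    have h1 := hcomm a haA b hb
    have h2 : b * (x * (a * x * a⁻¹)) * b⁻¹ = (b * x * b⁻¹) * ((b * a) * x * (b * a)⁻¹) := by group
    rw [h2, ← h1]; group
  have hn2 : ∀ b ∈ A, (∀ x ∈ X, (a * b) * x * (a * b)⁻¹ ∈ X) → ∀ y ∈ Y, b * y * b⁻¹ ∈ Y := by
    intro b hb h y hy
    rw [hYmem] at hy ⊢
    obtain ⟨x, hx, rfl⟩ := hy
    refine ⟨_, h x hx, ?_⟩
    have h1 := hcomm a haA b hb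
    have h2 : b * (x * (a * x * a⁻¹)) * b⁻¹ = (b * x * b⁻¹) * ((b * a) * x * (b * a)⁻¹) := by group
    have h3 : b * x * b⁻¹ = a * ((a * b) * x * (a * b)⁻¹) * a⁻¹ := by
      have : a * ((a * b) * x * (a * b)⁻¹) * a⁻¹ = (a * a) * (b * x * b⁻¹) * (a * a)⁻¹ := by group
      rw [this, hA2 a haA]; group
    have h4 := hca _ (h x hx) _ (h x hx)
    rw [h2, ← h1, h3, ← h4]
  have hsub : A ⊓ normalizer (X : Set G) < A ⊓ normalizer (Y : Set G) := by
    rw [lt_iff_le_not_ge]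
    constructor
    · rintro b ⟨hb, hbN⟩
      exact ⟨hb, hnorm Y b hb (hn1 b hb fun x hx => (mem_normalizer_iff.mp hbN x).mp hx)⟩
    · intro hle
      have h1 : a ∈ A ⊓ normalizer (Y : Set G) := by
        refine ⟨haA, hnorm Y a haA (hn2 a haA ?_)⟩
        intro x hx
        rw [hA2 a haA]
        simpa using hx
      exact haN (hle h1).2
  have hlt := card_lt_of_lt hsub
  have hle1 : Nat.card ↥(A ⊓ normalizer (Y : Set G)) ≤ Nat.card A := Subgroup.card_le_of_le inf_le_left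
  by_cases hnc : ∃ b ∈ A, ∃ y ∈ Y, b * y ≠ y * b
  · refine ih _ ?_ Y rfl ⟨⟨hQ, ?_, hnc⟩, ?_, ?_⟩
    · omega
    · intro b hb
      rcases hX.alt b hb with h | h
      · exact Or.inl (hn1 b hb h)
      · rcases hX.alt (a * b) (mul_mem haA hb) with h' | h'
        · exact Or.inl (hn2 b hb h')
        · right
          intro y hy z hz
          rw [hYmem] at hy hz
          obtain ⟨x, hx, rfl⟩ := hy
          obtain ⟨w, hw, rfl⟩ := hz
          have hab := hcomm a haA b hb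
          -- four commutations
          have c1 : Commute x (b * w * b⁻¹) := h x hx w hw
          have c2 : Commute x (b * (a * w * a⁻¹) * b⁻¹) := by
            have h1 := h' x hx w hw
            have h2 : b * (a * w * a⁻¹) * b⁻¹ = (a * b) * w * (a * b)⁻¹ := by rw [hab]; group
            rw [h2]; exact h1
          have c3 : Commute (a * x * a⁻¹) (b * w * b⁻¹) := by
            have h1 : Commute x ((a * b) * w * (a * b)⁻¹) := h' x hx w hw
            have h2 : b * w * b⁻¹ = a * ((a * b) * w * (a * b)⁻¹) * a⁻¹ := by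
              have : a * ((a * b) * w * (a * b)⁻¹) * a⁻¹ = (a * a) * (b * w * b⁻¹) * (a * a)⁻¹ := by group
              rw [this, hA2 a haA]; group
            rw [h2]
            exact (Commute.conj_iff a).mpr h1
          have c4 : Commute (a * x * a⁻¹) (b * (a * w * a⁻¹) * b⁻¹) := by
            have h1 : Commute x (b * w * b⁻¹) := h x hx w hw
            have h2 : b * (a * w * a⁻¹) * b⁻¹ = a * (b * w * b⁻¹) * a⁻¹ := by
              have e1 : b * (a * w * a⁻¹) * b⁻¹ = (b * a) * w * (b * a)⁻¹ := by group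
              have e2 : a * (b * w * b⁻¹) * a⁻¹ = (a * b) * w * (a * b)⁻¹ := by group
              rw [e1, e2, hab]
            rw [h2]
            exact (Commute.conj_iff a).mpr h1
          have hz : b * (w * (a * w * a⁻¹)) * b⁻¹ = (b * w * b⁻¹) * (b * (a * w * a⁻¹) * b⁻¹) := by group
          rw [hz]
          exact (Commute.mul_left (c1.mul_right c2) (c3.mul_right c4))
    · -- tracking
      obtain ⟨ψ, hψ, hψc⟩ := hTG.ex
      have hdc : ∀ x : X, ∀ k ∈ K, (dg X a hca x) * k * (dg X a hca x)⁻¹ = (ψ x : G) * k * (ψ x : G)⁻¹ := by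
        intro x k hk
        rw [dg_apply]
        have h1 := hTG.mv a haA haN x x.2 k hk
        calc (x : G) * (a * x * a⁻¹) * k * ((x : G) * (a * x * a⁻¹))⁻¹
            = x * ((a * x * a⁻¹) * k) * (a * x * a⁻¹)⁻¹ * (x : G)⁻¹ := by group
          _ = x * (k * (a * x * a⁻¹)) * (a * x * a⁻¹)⁻¹ * (x : G)⁻¹ := by rw [h1]
          _ = x * k * (x : G)⁻¹ := by group
          _ = _ := hψc x k hk
      have hdi : Function.Injective (dg X a hca) := by
        rw [injective_iff_map_eq_one]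
        intro x hx
        have h1 : (x : G) = (a * x * a⁻¹)⁻¹ := by
          rw [dg_apply] at hx
          exact eq_inv_of_mul_eq_one_left hx
        have h3 : ∀ y : X, x * y = y * x := by
          intro y
          apply Subtype.ext
          have h4 : Commute (y : G) (a * x * a⁻¹) := hca y y.2 x x.2
          have h5 : Commute (y : G) (a * x * a⁻¹)⁻¹ := h4.inv_right
          rw [← h1] at h5
          exact h5.eq.symm
        apply hψ.1
        rw [map_one]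
        apply Subtype.ext
        apply hKz _ (ψ x).2
        intro l hl
        obtain ⟨y, hy⟩ := hψ.2 ⟨l, hl⟩
        have h6 : l = ψ y := by rw [hy]
        rw [h6, ← Subgroup.coe_mul, ← Subgroup.coe_mul, ← map_mul, ← map_mul, h3 y]
      subst hY
      let D : X ≃* (dg X a hca).range := MonoidHom.ofInjective hdi
      refine ⟨ψ.comp D.symm.toMonoidHom, hψ.comp D.symm.bijective, ?_⟩
      intro y k hk
      obtain ⟨x, rfl⟩ := D.surjective y
      have h1 : (ψ.comp D.symm.toMonoidHom) (D x) = ψ x := by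
        show ψ (D.symm (D x)) = ψ x
        rw [MulEquiv.symm_apply_apply]
      rw [h1]
      exact hdc x k hk
    · intro b hb hbN y hy k hk
      have hbX : b ∉ normalizer (X : Set G) := by
        intro h
        exact hbN (hnorm Y b hb (hn1 b hb fun x hx => (mem_normalizer_iff.mp h x).mp hx))
      have habX : a * b ∉ normalizer (X : Set G) := by
        intro h
        exact hbN (hnorm Y b hb (hn2 b hb fun x hx => (mem_normalizer_iff.mp h x).mp hx))
      rw [hYmem] at hy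
      obtain ⟨x, hx, rfl⟩ := hy
      have c1 : Commute (b * x * b⁻¹) k := hTG.mv b hb hbX x hx k hk
      have c2 : Commute ((a * b) * x * (a * b)⁻¹) k := hTG.mv (a * b) (mul_mem haA hb) habX x hx k hk
      have hab := hcomm a haA b hb
      have h2 : b * (x * (a * x * a⁻¹)) * b⁻¹ = (b * x * b⁻¹) * ((a * b) * x * (a * b)⁻¹) := by rw [hab]; group
      rw [h2]
      exact (c1.mul_left c2).eq
  · right
    refine ⟨X, hTG, a, haA, haN, hca, ?_⟩
    push Not at hnc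
    obtain ⟨φ, h1, h2, h3⟩ := hX.qs.mk' hS
    have hcent : ∀ b ∈ A, ∀ x ∈ X, b * (x * (a * x * a⁻¹)) * b⁻¹ = x * (a * x * a⁻¹) := by
      intro b hb x hx
      rw [hnc b hb _ ((hYmem _).mpr ⟨x, hx, rfl⟩), mul_inv_cancel_right]
    -- (i)
    have hi : ∀ b ∈ A, (∀ x ∈ X, b * x * b⁻¹ ∈ X) ∨ (∀ x ∈ X, (a * b) * x * (a * b)⁻¹ ∈ X) := by
      intro b hb
      rcases hX.alt b hb with h | h
      · exact Or.inl h
      · rcases hX.alt (a * b) (mul_mem haA hb) with h' | h'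
        · exact Or.inr h'
        · exfalso
          apply hS
          refine ⟨⟨fun s t => ?_⟩⟩
          obtain ⟨x, rfl⟩ := h1 s
          obtain ⟨y, rfl⟩ := h1 t
          have hab := hcomm a haA b hb
          have c1 : Commute (y : G) (b * x * b⁻¹) := h y y.2 x x.2
          have c2 : Commute (y : G) (b * (a * x * a⁻¹) * b⁻¹) := by
            have h1 := h' y y.2 x x.2
            have h2 : b * (a * x * a⁻¹) * b⁻¹ = (a * b) * x * (a * b)⁻¹ := by rw [hab]; group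
            rw [h2]; exact h1
          have c3 : Commute (y : G) (x * (a * x * a⁻¹)) := by
            rw [← hcent b hb x x.2]
            have : b * (x * (a * x * a⁻¹)) * b⁻¹ = (b * x * b⁻¹) * (b * (a * x * a⁻¹) * b⁻¹) := by group
            rw [this]
            exact c1.mul_right c2
          have c4 : Commute (y : G) (a * x * a⁻¹) := hca y y.2 x x.2
          have c5 : Commute (y : G) x := by
            have := c3.mul_right c4.inv_right
            rwa [mul_inv_cancel_right] at this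
          rw [← map_mul, ← map_mul]
          congr 1
          exact Subtype.ext c5.symm
    -- (ii)
    have hii : ∀ b ∈ A, (∀ x ∈ X, b * x * b⁻¹ ∈ X) → ∀ x ∈ X, b * x = x * b := by
      intro b hb hbN
      have hab := hcomm a haA b hb
      apply comm_of_central hX.qs.perf b
      intro x hx
      have hmem : b * x * b⁻¹ * x⁻¹ ∈ X := mul_mem (hbN x hx) (inv_mem hx)
      refine ⟨hmem, ?_⟩
      intro y hy
      have e1 := hcent b hb x hx
      have e2 : b * (x * (a * x * a⁻¹)) * b⁻¹ = (b * x * b⁻¹) * (a * (b * x * b⁻¹) * a⁻¹) := by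
        have : b * (x * (a * x * a⁻¹)) * b⁻¹ = (b * x * b⁻¹) * ((b * a) * x * (b * a)⁻¹) := by group
        rw [this, ← hab]; group
      rw [e2] at e1
      have e3 : x⁻¹ * (b * x * b⁻¹) = a * (x * (b * x * b⁻¹)⁻¹) * a⁻¹ := by
        calc x⁻¹ * (b * x * b⁻¹) = x⁻¹ * ((b * x * b⁻¹) * (a * (b * x * b⁻¹) * a⁻¹)) * (a * (b * x * b⁻¹) * a⁻¹)⁻¹ := by group
          _ = x⁻¹ * (x * (a * x * a⁻¹)) * (a * (b * x * b⁻¹) * a⁻¹)⁻¹ := by rw [e1]
          _ = _ := by group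
      have e4 : ∀ w ∈ X, Commute w (x⁻¹ * (b * x * b⁻¹)) := by
        intro w hw
        rw [e3]
        exact hca w hw _ (mul_mem hx (inv_mem (hbN x hx)))
      have e5 : b * x * b⁻¹ * x⁻¹ = x * (x⁻¹ * (b * x * b⁻¹)) * x⁻¹ := by group
      have e6 : b * x * b⁻¹ * x⁻¹ = x⁻¹ * (b * x * b⁻¹) := by
        rw [e5, (e4 x hx).eq]; group
      rw [e6]
      exact (e4 y hy).symm
    intro x hx
    obtain ⟨y, hy⟩ : ∃ y, y = x⁻¹ * (a * x * a⁻¹) := ⟨_, rfl⟩
    rw [← hy]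
    have hcen : ∀ b ∈ A, (∀ x ∈ X, b * x * b⁻¹ ∈ X) → b * y * b⁻¹ = y := by
      intro b hb hbN
      have h4 := hii b hb hbN x hx
      have h4' : b * x * b⁻¹ = x := by rw [h4, mul_inv_cancel_right]
      have hab := hcomm a haA b hb
      have : b * (x⁻¹ * (a * x * a⁻¹)) * b⁻¹ = (b * x * b⁻¹)⁻¹ * (a * (b * x * b⁻¹) * a⁻¹) := by
        have e1 : b * (x⁻¹ * (a * x * a⁻¹)) * b⁻¹ = (b * x * b⁻¹)⁻¹ * ((b * a) * x * (b * a)⁻¹) := by group
        rw [e1, ← hab]; group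
      rw [hy, this, h4']
    have hinva : a * y * a⁻¹ = y⁻¹ := by
      rw [hy]
      have : a * (x⁻¹ * (a * x * a⁻¹)) * a⁻¹ = (a * x * a⁻¹)⁻¹ * ((a * a) * x * (a * a)⁻¹) := by group
      rw [this, hA2 a haA]; group
    intro c hc
    rcases hi c hc with h | h
    · exact Or.inl (hcen c hc h)
    · right
      have h4 := hcen (a * c) (mul_mem haA hc) h
      have h5 : c * y * c⁻¹ = a * ((a * c) * y * (a * c)⁻¹) * a⁻¹ := by
        have : a * ((a * c) * y * (a * c)⁻¹) * a⁻¹ = (a * a) * (c * y * c⁻¹) * (a * a)⁻¹ := by group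
        rw [this, hA2 a haA]; group
      rw [h5, h4, hinva]

/-- an elementary abelian 2-group mapping `y` to `y ^ ±1` has a subgroup of index at most 2 centralising `y` -/
theorem card_two [Finite G] {A : Subgroup G} {a y : G} (ha : a ∈ A)
    (hay : a * y * a⁻¹ = y⁻¹) (hc : ∀ c ∈ A, c * y * c⁻¹ = y ∨ c * y * c⁻¹ = y⁻¹) :
    Nat.card A ≤ 2 * Nat.card ↥(A ⊓ centralizer ({y} : Set G)) := by
  classical
  obtain ⟨A₁, hA₁⟩ : ∃ A₁, A₁ = A ⊓ centralizer {y} := ⟨_, rfl⟩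
  have hmemA₁ : ∀ c, c ∈ A₁ ↔ c ∈ A ∧ c * y * c⁻¹ = y := by
    intro c
    rw [hA₁, Subgroup.mem_inf, Subgroup.mem_centralizer_singleton_iff, mul_inv_eq_iff_eq_mul]
  have hmem : ∀ c ∈ A, c ∈ A₁ ∨ a * c ∈ A₁ := by
    intro c hcA
    rcases hc c hcA with h | h
    · exact Or.inl ((hmemA₁ c).mpr ⟨hcA, h⟩)
    · right
      rw [hmemA₁]
      refine ⟨A.mul_mem ha hcA, ?_⟩
      calc a * c * y * (a * c)⁻¹ = a * (c * y * c⁻¹) * a⁻¹ := by group
        _ = a * y⁻¹ * a⁻¹ := by rw [h]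
        _ = (a * y * a⁻¹)⁻¹ := by group
        _ = y := by rw [hay, inv_inv]
  rw [← hA₁]
  let f : A → A₁ × Bool := fun c =>
    if h : (c : G) ∈ A₁ then (⟨c, h⟩, true) else (⟨a * c, (hmem c c.2).resolve_left h⟩, false)
  have hf : Function.Injective f := by
    intro b c h
    by_cases h1 : (b : G) ∈ A₁ <;> by_cases h2 : (c : G) ∈ A₁
    · simp only [f, h1, h2, dif_pos] at h
      exact Subtype.ext (congrArg (fun z : A₁ × Bool => (z.1 : G)) h)
    · simp only [f, h1, h2, dif_pos, dif_neg, not_false_iff] at h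
      simp at h
    · simp only [f, h1, h2, dif_pos, dif_neg, not_false_iff] at h
      simp at h
    · simp only [f, h1, h2, dif_neg, not_false_iff] at h
      have h3 : a * (b : G) = a * c := congrArg (fun z : A₁ × Bool => (z.1 : G)) h
      exact Subtype.ext (mul_left_cancel h3)
  have := Nat.card_le_card_of_injective f hf
  rw [Nat.card_prod] at this
  simpa [mul_comm] using this

end tg

theorem y3 {G : Type*} [Group G] [Finite G] {S M A K : Subgroup G} (hS : IsSyl 2 S ⊤) (hSM : S ≤ M)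
    (hA2 : ∀ a ∈ A, a * a = 1) (hKc : IsComponent K)
    {F : Type} [Field F] [Fintype F] [CharP F 2] {m : ℕ} (hm : 1 ≤ m) (hF : Fintype.card F = 2 ^ (2 * m + 1))
    (e : K ≃* Gz (th F m)) (hnc : ∃ a ∈ A, ∃ x ∈ K, a * x ≠ x * a) (hKM : ¬ K ≤ M) :
    ∃ p k : ℕ, p.Prime ∧ p ≠ 2 ∧ (∀ j, 1 ≤ j → j ≤ 2 * k → ¬ p ∣ 2 ^ j - 1) ∧
      ∃ x : G, x ∉ M ∧ orderOf x = p ∧ (∃ a ∈ A, a * x * a⁻¹ = x⁻¹) ∧
        Nat.card A ≤ 2 ^ k * Nat.card ↥(A ⊓ centralizer ({x} : Set G)) := by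
  classical
  have hθ := th_sq hF
  have hne := th_ne hm hF
  have hsim := SuzukiGroup.simple (th F m) hθ hne
  have hFn : Nat.card F = 2 ^ (2 * m + 1) := by rw [Nat.card_eq_fintype_card]; exact hF
  have hSnc := H34ZM.not_comm (th F m) hθ hne
  obtain ⟨r, hr, hr1, hr2, hr3⟩ := H34ZM.zsig (n := 2 * m + 1) (by omega)
  have hrq : r ∣ Nat.card F ^ 2 + 1 := by rw [hFn, ← pow_mul, mul_comm (2 * m + 1) 2]; exact hr1
  have hrF : Fact r.Prime := ⟨hr⟩
  have hKz : ∀ k ∈ K, (∀ l ∈ K, k * l = l * k) → k = 1 := by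
    intro k hk h
    have h1 : e ⟨k, hk⟩ ∈ Subgroup.center (Gz (th F m)) := by
      rw [Subgroup.mem_center_iff]
      intro g
      obtain ⟨y, rfl⟩ := e.surjective g
      rw [← map_mul, ← map_mul]
      congr 1
      exact Subtype.ext (h y y.2).symm
    rw [H34ZM.center_bot (th F m) hθ hne, mem_bot] at h1
    have h2 : (⟨k, hk⟩ : K) = 1 := e.injective (by rw [h1, map_one])
    exact congrArg Subtype.val h2
  have hgood : Good A K (Gz (th F m)) := by
    refine ⟨⟨component_perfect hKc, e.toMonoidHom, e.surjective, ?_, ?_⟩, H34ZMain.alt hKc, hnc⟩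
    · intro x hx y
      have h1 : x = 1 := e.injective (by rw [map_one]; exact hx)
      rw [h1, one_mul, mul_one]
    · intro x hx
      have h1 : x = 1 := e.injective (by rw [map_one]; exact hx)
      rw [h1, orderOf_one]; exact odd_one
  have hTG : TG A K K (Gz (th F m)) := by
    refine ⟨hgood, ⟨MonoidHom.id K, Function.bijective_id, fun x k _ => rfl⟩, ?_⟩
    intro a ha haN x hx k hk
    rcases component_eq_or_le_centralizer hKc (isComponent_conj a hKc) with h | h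
    · exact absurd (mem_normalizer_of_map_conj_eq h.symm) haN
    · exact (mem_centralizer_iff.mp (h hk) (a * x * a⁻¹) ⟨x, hx, rfl⟩)
  have hrj : ∀ j, 1 ≤ j → j ≤ 2 * (2 * m + 1) → ¬ r ∣ 2 ^ j - 1 := by
    intro j hj hj2 hd
    have := hr3 j (by omega) hd
    omega
  rcases hTG.fin hSnc hA2 hKz _ K rfl with ⟨Y, hY, hAY⟩ | ⟨Y, hY, a, haA, haN, hca, hinv⟩
  · obtain ⟨ψ, hψ, hψc⟩ := hY.ex
    obtain ⟨φ, h1, h2, h3⟩ := hY.good.qs.mk' hSnc
    obtain ⟨a, haA, x, hxY, hax⟩ := hY.good.nc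
    have hAYc : ∀ a ∈ A, ∀ x ∈ Y, a * x * a⁻¹ ∈ Y := fun a ha x hx => (mem_normalizer_iff.mp (hAY ha) x).mp hx
    obtain ⟨y, hyY, hyo, hyi⟩ := H34ZM.inverted (th F m) hθ hne hm hFn hY.good.qs.perf h1 h2 h3 (hA2 a haA) (hAYc a haA)
      ⟨x, hxY, hax⟩ hr hrq
    have hcb := H34ZM.card_bound (th F m) hθ hne hFn hY.good.qs.perf h1 h2 h3 hA2 hAYc
    refine ⟨r, 2 * m + 1, hr, hr2, hrj, y, ?_, hyo, ⟨a, haA, hyi⟩, ?_⟩
    · refine track (th F m) hθ hne hS hSM hKc.1 e hr hr2 hrq (k0 := ψ ⟨y, hyY⟩) ?_ (hψc ⟨y, hyY⟩) hKM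
      rw [orderOf_injective ψ hψ.1, Subgroup.orderOf_mk]
      exact hyo
    · rw [hFn] at hcb
      refine hcb.trans (Nat.mul_le_mul_left _ (Subgroup.card_le_of_le ?_))
      apply inf_le_inf_left
      apply centralizer_le
      intro z hz
      rw [Set.mem_singleton_iff] at hz
      rw [hz]; exact hyY
  · obtain ⟨ψ, hψ, hψc⟩ := hY.ex
    obtain ⟨x, hx⟩ : ∃ x : Y, orderOf x = r := by
      apply exists_prime_orderOf_dvd_card'
      have h1 : Nat.card Y = Nat.card (Gz (th F m)) := (Nat.card_congr (Equiv.ofBijective ψ hψ)).trans (Nat.card_congr e.toEquiv)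
      rw [h1, card_G (th F m) hθ hne]
      exact (Dvd.dvd.mul_left hrq _).mul_right _
    have hxx : Commute (x : G) (a * x * a⁻¹) := hca x x.2 x x.2
    have hyi : a * ((x : G)⁻¹ * (a * x * a⁻¹)) * a⁻¹ = ((x : G)⁻¹ * (a * x * a⁻¹))⁻¹ := by
      have : a * ((x : G)⁻¹ * (a * x * a⁻¹)) * a⁻¹ = (a * x * a⁻¹)⁻¹ * ((a * a) * x * (a * a)⁻¹) := by group
      rw [this, hA2 a haA]; group
    have hyc : ∀ k ∈ K, ((x : G)⁻¹ * (a * x * a⁻¹)) * k * ((x : G)⁻¹ * (a * x * a⁻¹))⁻¹ =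
        ((ψ x⁻¹ : K) : G) * k * ((ψ x⁻¹ : K) : G)⁻¹ := by
      intro k hk
      rw [← hψc x⁻¹ k hk]
      have h1 : (a * (x : G) * a⁻¹) * k = k * (a * x * a⁻¹) := hY.mv a haA haN x x.2 k hk
      calc ((x : G)⁻¹ * (a * x * a⁻¹)) * k * ((x : G)⁻¹ * (a * x * a⁻¹))⁻¹
          = (x : G)⁻¹ * ((a * x * a⁻¹) * k) * (a * x * a⁻¹)⁻¹ * x := by group
        _ = (x : G)⁻¹ * (k * (a * x * a⁻¹)) * (a * x * a⁻¹)⁻¹ * x := by rw [h1]
        _ = _ := by rw [Subgroup.coe_inv]; group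
    have hψo : orderOf (ψ x⁻¹ : K) = r := by
      rw [orderOf_injective ψ hψ.1, orderOf_inv]
      exact hx
    have hyM := track (th F m) hθ hne hS hSM hKc.1 e hr hr2 hrq (k0 := ψ x⁻¹) hψo hyc hKM
    have hy1 : (x : G)⁻¹ * (a * x * a⁻¹) ≠ 1 := by
      intro h
      rw [h] at hyM
      exact hyM (one_mem M)
    have hyr : ((x : G)⁻¹ * (a * x * a⁻¹)) ^ r = 1 := by
      rw [(hxx.inv_left).mul_pow, inv_pow, conj_pow]
      have : (x : G) ^ r = 1 := by
        rw [← hx, ← Subgroup.orderOf_coe]; exact pow_orderOf_eq_one _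
      rw [this]; group
    refine ⟨r, 2 * m + 1, hr, hr2, hrj, _, hyM, orderOf_eq_prime hyr hy1, ⟨a, haA, hyi⟩, ?_⟩
    refine (card_two haA hyi (hinv x x.2)).trans (Nat.mul_le_mul_right _ ?_)
    calc 2 = 2 ^ 1 := rfl
      _ ≤ 2 ^ (2 * m + 1) := Nat.pow_le_pow_right two_pos (by omega)


end Cfsg.Agent.Lib.H34FY3
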