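import Cfsg.Agent.Lib.H34FE
import Cfsg.Agent.Lib.H34FT
import Cfsg.Agent.Lib.H34FB
import Cfsg.Agent.Lib.H34FK

/-!
# Assembly of S2753 (helper33, piece H34-Z)
-/

set_option autoImplicit false
set_option linter.unusedSectionVars false

namespace Cfsg.Agent.Lib.H34FZ

open Subgroup Cfsg Cfsg.Agent.Lib.SfAct Cfsg.Agent.Lib.LocBase Cfsg.Agent.Lib.SfMin Cfsg.Agent.Lib.PReduced
open Cfsg.Agent.Lib.SfRel Cfsg.Agent.Lib.SfThomp Cfsg.Agent.Lib.H34FDef

universe u
variable {G : Type u} [Group G] [Finite G]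

/-- odd order elements centralizing `Ω₁` of an abelian 2-group centralize it -/
theorem odd_centralizes {V : Subgroup G} (hV : V ≤ centralizer (V : Set G)) {x : G}
    (hx : x ∈ normalizer (V : Set G)) (ho : (orderOf x).Coprime 2)
    (hW : ∀ w ∈ V, w ^ 2 = 1 → x * w * x⁻¹ = w) :
    ∀ (n : ℕ) (v : G), v ∈ V → v ^ (2 ^ n) = 1 → x * v * x⁻¹ = v := by
  intro n
  induction n with
  | zero =>
    intro v _ h
    rw [pow_zero, pow_one] at h
    rw [h]; group
  | succ n ih =>
    intro v hv h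
    have h2 : x * v ^ 2 * x⁻¹ = v ^ 2 := by
      apply ih (v ^ 2) (V.pow_mem hv 2)
      rw [← pow_mul, ← pow_succ']; exact h
    have hxv : x * v * x⁻¹ ∈ V := (mem_normalizer_iff.mp hx v).mp hv
    set w := x * v * x⁻¹ * v⁻¹ with hw
    have hwV : w ∈ V := V.mul_mem hxv (V.inv_mem hv)
    have hcomm : ∀ a ∈ V, ∀ b ∈ V, a * b = b * a := fun a ha b hb =>
      mem_centralizer_iff.mp (hV hb) a ha
    have hw2 : w ^ 2 = 1 := by
      have e1 : w ^ 2 = (x * v * x⁻¹) ^ 2 * (v⁻¹) ^ 2 :=
        (show Commute (x * v * x⁻¹) v⁻¹ from hcomm _ hxv _ (V.inv_mem hv)).mul_pow 2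
      rw [e1, conj_pow, h2, inv_pow, mul_inv_cancel]
    have hxw := hW w hwV hw2
    have hxvw : x * v * x⁻¹ = w * v := by rw [hw]; group
    have hk : ∀ k : ℕ, x ^ k * v * (x ^ k)⁻¹ = w ^ k * v := by
      intro k
      induction k with
      | zero => simp
      | succ k ihk =>
        calc x ^ (k + 1) * v * (x ^ (k + 1))⁻¹ = x * (x ^ k * v * (x ^ k)⁻¹) * x⁻¹ := by
              rw [pow_succ']; group
          _ = x * (w ^ k * v) * x⁻¹ := by rw [ihk]
          _ = (x * w * x⁻¹) ^ k * (x * v * x⁻¹) := by rw [conj_pow]; group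
          _ = w ^ k * (w * v) := by rw [hxw, hxvw]
          _ = w ^ (k + 1) * v := by rw [pow_succ]; group
    have h3 := hk (orderOf x)
    rw [pow_orderOf_eq_one] at h3
    have h4 : w ^ (orderOf x) = 1 := by
      have h5 : w ^ orderOf x * v = v := by rw [← h3]; group
      exact mul_eq_right.mp h5
    have h5 : w = 1 := by
      have h6 : orderOf w ∣ 2 := orderOf_dvd_of_pow_eq_one hw2
      have h7 : orderOf w ∣ orderOf x := orderOf_dvd_of_pow_eq_one h4
      have h8 : orderOf w = 1 := Nat.eq_one_of_dvd_coprimes ho h7 h6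
      exact orderOf_eq_one_iff.mp h8
    rw [hxvw, h5, one_mul]

theorem pp_lemma {S V : Subgroup G} (hS : IsSyl 2 S ⊤) (hV : V = ncl ⊤ (S ⊓ centralizer (S : Set G)))
    {D : Subgroup G} (hD : D.Normal) (hp : pRes 2 D ≤ centralizer (V : Set G)) :
    D ≤ centralizer (V : Set G) := by
  have h2p : Fact (Nat.Prime 2) := ⟨Nat.prime_two⟩
  have hDn : (⊤ : Subgroup G) ≤ normalizer (D : Set G) := (normalizer_eq_top_iff.mpr hD).ge
  have hT : IsSyl 2 (S ⊓ D) D := hS.inf_normal le_top hDn
  rw [le_centralizer_iff]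
  rw [hV]
  unfold ncl
  apply iSup_le
  intro g
  obtain ⟨d, hd, n, hn, e⟩ := hT.frattini (H := ⊤) le_top hDn g.2
  rintro _ ⟨z, hz, rfl⟩
  -- n z n⁻¹ centralizes D
  have hz' : z ∈ S ∧ z ∈ centralizer (S : Set G) := hz
  have key : n * z * n⁻¹ ∈ centralizer (D : Set G) := by
    have h1 : (S ⊓ D) ⊔ pRes 2 D = D := hT.sup_pRes
    have h2 : D ≤ centralizer ({n * z * n⁻¹} : Set G) := by
      rw [← h1]
      apply sup_le
      · intro t ht
        rw [mem_centralizer_singleton_iff]
        have h3 : n⁻¹ * t * n ∈ S ⊓ D := by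
          have := (mem_normalizer_iff.mp (inv_mem hn.2) t).mp ht
          rwa [inv_inv] at this
        have h4 := mem_centralizer_iff.mp hz'.2 _ h3.1
        calc t * (n * z * n⁻¹) = n * ((n⁻¹ * t * n) * z) * n⁻¹ := by group
          _ = n * (z * (n⁻¹ * t * n)) * n⁻¹ := by rw [h4]
          _ = n * z * n⁻¹ * t := by group
      · intro t ht
        rw [mem_centralizer_singleton_iff]
        have h3 : n * z * n⁻¹ ∈ V := by
          rw [hV]
          have h4 := le_iSup (fun g : ↥(⊤ : Subgroup G) =>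
            (S ⊓ centralizer (S : Set G)).map (MulAut.conj (g : G)).toMonoidHom) ⟨n, mem_top n⟩
          exact h4 ⟨z, hz, rfl⟩
        exact (mem_centralizer_iff.mp (hp ht) _ h3).symm
    rw [mem_centralizer_iff]
    intro t ht
    exact mem_centralizer_singleton_iff.mp (h2 ht)
  have h5 : (MulAut.conj (g : G)).toMonoidHom z = n * z * n⁻¹ := by
    show (g : G) * z * (g : G)⁻¹ = _
    have h6 := mem_centralizer_iff.mp key d hd
    rw [e]
    calc d * n * z * (d * n)⁻¹ = d * (n * z * n⁻¹) * d⁻¹ := by group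
      _ = (n * z * n⁻¹) * d * d⁻¹ := by rw [h6]
      _ = n * z * n⁻¹ := by group
  rw [h5]
  exact key

theorem parts12 (hchar : centralizer (pCore 2 G : Set G) ≤ pCore 2 G)
    (hf : ¬ Involves (Equiv.Perm (Fin 4)) G)
    (hK : IsCompositionKGroupWith IsSuzukiOrPSL2OddPowerThree G) {S : Subgroup G} (hS : IsSyl 2 S ⊤)
    (g : G) : ∃ c ∈ centralizer ((S ⊓ centralizer (S : Set G) : Subgroup G) : Set G),
      ∃ n ∈ normalizer (((jHat ↥S).map S.subtype : Subgroup G) : Set G),
        n ∈ normalizer (JJ S : Set G) ∧ g = c * n := by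
  classical
  have h2p : Fact (Nat.Prime 2) := ⟨Nat.prime_two⟩
  set O := pCore 2 G with hO
  set V := ncl ⊤ (S ⊓ centralizer (S : Set G)) with hV
  have hOS : O ≤ S := by
    have := hS.pCoreOf_le
    rwa [pCoreOf_top] at this
  have hZO : S ⊓ centralizer (S : Set G) ≤ O ⊓ centralizer (O : Set G) := by
    have h1 : S ⊓ centralizer (S : Set G) ≤ centralizer (O : Set G) :=
      inf_le_right.trans (centralizer_le hOS)
    exact le_inf (h1.trans hchar) h1
  have hOn : O.Normal := pCore_normal _ _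
  have hZn : (⊤ : Subgroup G) ≤ normalizer ((O ⊓ centralizer (O : Set G) : Subgroup G) : Set G) := by
    have h1 : (⊤ : Subgroup G) ≤ normalizer (O : Set G) := (normalizer_eq_top_iff.mpr hOn).ge
    exact le_normalizer_inf h1 (le_normalizer_centralizer h1)
  have hVZ : V ≤ O ⊓ centralizer (O : Set G) := ncl_le hZO hZn
  have hVC : V ≤ centralizer (V : Set G) :=
    (hVZ.trans inf_le_right).trans (centralizer_le (hVZ.trans inf_le_left))
  have hVS : V ≤ S := (hVZ.trans inf_le_left).trans hOS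
  have hVtop : (⊤ : Subgroup G) ≤ normalizer (V : Set G) := le_normalizer_ncl ⊤ _
  have hVp : IsPGroup 2 V := hS.pgroup.to_le hVS
  set W := OZ 2 V with hW
  have hWV : W ≤ V := OZ_le V
  have hWn' : (⊤ : Subgroup G) ≤ normalizer (W : Set G) :=
    hVtop.trans (normalizer_le_normalizer_OZ 2 V)
  have hWn : W.Normal := normalizer_eq_top_iff.mp (top_le_iff.mp hWn')
  have hWe : IsElementaryAbelian 2 W := elem_OZ 2 V
  have hWS : W ≤ S := hWV.trans hVS
  -- odd order elements
  have hres : pRes 2 (centralizer (W : Set G)) ≤ centralizer (V : Set G) := by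
    rw [pRes_le_iff]
    intro x hx ho
    rw [mem_centralizer_iff]
    intro v hv
    obtain ⟨n, hn⟩ := hVp ⟨v, hv⟩
    have hn' : v ^ (2 ^ n) = 1 := congrArg Subtype.val hn
    have h1 := odd_centralizes hVC (hVtop (mem_top x)) ho (by
      intro w hw hw2
      have h3 : w ∈ W := mem_OZ.mpr ⟨hw, hVC hw, hw2⟩
      have h4 := mem_centralizer_iff.mp hx w h3
      rw [← h4]; group) n v hv hn'
    calc v * x = (x * v * x⁻¹) * x := by rw [h1]
      _ = x * v := by group
  have hCW : (centralizer (W : Set G)).Normal := by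
    have := hWn
    infer_instance
  have hCWV : centralizer (W : Set G) ≤ centralizer (V : Set G) := pp_lemma hS hV hCW hres
  have hPR : PRed 2 W ⊤ := by
    refine ⟨le_top, hWn', hWe, ?_⟩
    intro D _ hDn hpD
    have hDnorm : D.Normal := normalizer_eq_top_iff.mp (top_le_iff.mp hDn)
    exact (pp_lemma hS hV hDnorm (hpD.trans hCWV)).trans (centralizer_le hWV)
  -- facts on the range
  have hcore : Cfsg.pCore 2 (rho W).range = ⊥ :=
    H34FT.core_range fun D hD hp => hPR.red D le_top (by rw [normalizer_eq_top_iff.mpr hD]) hp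
  have hS3 : ¬ Involves (Equiv.Perm (Fin 3)) ↥(rho W).range := by
    intro h
    apply H34FN.s3free_quot hf W (elem_isPGroup hWe)
    let e : G ⧸ centralizer (W : Set G) ≃* ↥(rho W).range :=
      (QuotientGroup.quotientMulEquivOfEq (ker_rho W).symm).trans
        (QuotientGroup.quotientKerEquivRange (rho W))
    exact H34FT.involves_of_involves_surj e.toMonoidHom e.surjective h
  have hKr : IsCompositionKGroupWith IsSuzukiOrPSL2OddPowerThree ↥(rho W).range :=
    H34FT.compK_map (rho W).rangeRestrict (rho W).rangeRestrict_surjective hK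
  obtain ⟨c, hc, n, hn, hn2, e⟩ := H34FE.factor2_range hS hWe hWS hcore hS3 hKr
    (fun R hR => H34FT.bound hf hK hPR hR) g
  refine ⟨c, ?_, n, hn, hn2, e⟩
  have h1 : c ∈ centralizer (V : Set G) := hCWV hc
  exact centralizer_le (le_ncl ⊤ (S ⊓ centralizer (S : Set G))) h1

theorem part3 {S : Subgroup G} (hB : ∀ D : Subgroup G, D ≤ S → S ≤ normalizer (D : Set G) →
      IsElementaryAbelian 2 D → PP 3 2 S D → ∀ g : G,
        ∃ c ∈ centralizer (D : Set G), ∃ n ∈ normalizer (JJ S : Set G), g = c * n) (g : G) :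
    ∃ c ∈ centralizer ((omegaOne 2 ((jHat ↥S).map S.subtype ⊓
        centralizer (((jHat ↥S).map S.subtype : Subgroup G) : Set G)) : Subgroup G) : Set G),
      ∃ n ∈ normalizer (JJ S : Set G), g = c * n := by
  obtain ⟨h1, h2, h3, h4⟩ := H34FE.pp_jhat (S := S)
  exact hB _ h2 h3 h4 h1 g

end Cfsg.Agent.Lib.H34FZ
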