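import Cfsg.Agent.Lib.H70AltPrime
import Mathlib

/-!
A finite group `H` with a normal subgroup `N ≅ A₆` and simple quotient of order divisible by 7 is a direct product.
-/

set_option autoImplicit false

namespace Cfsg.Agent.Lib.H34SplitA6

theorem split {H S : Type*} [Group H] [Finite H] [Group S] [IsSimpleGroup S] (N : Subgroup H) [N.Normal]
    (e : N ≃* alternatingGroup (Fin 6)) (f : H ⧸ N ≃* S) (h7 : 7 ∣ Nat.card S) :
    Nonempty (H ≃* S × alternatingGroup (Fin 6)) := by
  set C : Subgroup H := Subgroup.centralizer (N : Set H) with hC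
  have hCn : C.Normal := inferInstance
  -- `N ∩ C = 1`
  have hNC : ∀ x ∈ N, x ∈ C → x = 1 := by
    intro x hx hxC
    have h1 : e ⟨x, hx⟩ ∈ Subgroup.center (alternatingGroup (Fin 6)) := by
      rw [Subgroup.mem_center_iff]
      intro g
      have h2 := Subgroup.mem_centralizer_iff.1 hxC (e.symm g : H) (e.symm g).2
      have h3 : e.symm g * ⟨x, hx⟩ = ⟨x, hx⟩ * e.symm g := Subtype.ext h2
      have h4 := congrArg e h3
      simpa using h4
    have hs : IsSimpleGroup (alternatingGroup (Fin 6)) := alternatingGroup.isSimpleGroup (by simp)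
    have hcen : Subgroup.center (alternatingGroup (Fin 6)) = ⊥ := by
      rcases (inferInstance : (Subgroup.center (alternatingGroup (Fin 6))).Normal).eq_bot_or_eq_top with h | h
      · exact h
      · exfalso
        have hc : ∀ a b : alternatingGroup (Fin 6), a * b = b * a := fun a b =>
          Subgroup.mem_center_iff.1 (h ▸ Subgroup.mem_top b) a
        let a : alternatingGroup (Fin 6) := ⟨Equiv.swap 0 1 * Equiv.swap 1 2, Equiv.Perm.mem_alternatingGroup.2 (by decide)⟩
        let b : alternatingGroup (Fin 6) := ⟨Equiv.swap 0 1 * Equiv.swap 1 3, Equiv.Perm.mem_alternatingGroup.2 (by decide)⟩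
        have h5 := congrArg Subtype.val (hc a b)
        revert h5
        decide
    rw [hcen, Subgroup.mem_bot] at h1
    have h6 : (⟨x, hx⟩ : N) = 1 := by
      have := congrArg e.symm h1
      simpa using this
    exact congrArg Subtype.val h6
  -- `N C = H`
  have hsup : ∀ x : H, ∃ n ∈ N, ∃ c ∈ C, x = n * c := by
    have hq : IsSimpleGroup (H ⧸ N) := f.isSimpleGroup
    have hn : ((C.map (QuotientGroup.mk' N))).Normal := hCn.map _ (QuotientGroup.mk'_surjective N)
    rcases hn.eq_bot_or_eq_top with h | h
    · exfalso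
      -- `C ≤ N`, so `C = 1`
      have hC1 : C = ⊥ := by
        rw [eq_bot_iff]
        intro x hx
        have h1 : (QuotientGroup.mk' N) x = 1 := by
          have : (QuotientGroup.mk' N) x ∈ C.map (QuotientGroup.mk' N) := ⟨x, hx, rfl⟩
          rw [h] at this; exact this
        have h2 : x ∈ N := by
          rw [← QuotientGroup.ker_mk' N]; exact h1
        exact hNC x h2 hx
      have : Fact (Nat.Prime 7) := ⟨by norm_num⟩
      have h8 : 7 ∣ Nat.card H := by
        have h9 : Nat.card (H ⧸ N) ∣ Nat.card H := N.card_quotient_dvd_card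
        rw [Nat.card_congr f.toEquiv] at h9
        exact h7.trans h9
      obtain ⟨x, hx⟩ := exists_prime_orderOf_dvd_card' 7 h8
      let Φ : H →* MulAut (alternatingGroup (Fin 6)) := (MulAut.congr e).toMonoidHom.comp MulAut.conjNormal
      have hΦ : ∀ g : H, Φ g = 1 → g = 1 := by
        intro g hg
        have h1 : (MulAut.conjNormal g : MulAut N) = 1 := by
          apply (MulAut.congr e).injective
          rw [map_one]; exact hg
        have h2 : g ∈ C := by
          rw [hC, Subgroup.mem_centralizer_iff]
          intro n hn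
          have h3 := congrArg (fun φ : MulAut N => ((φ ⟨n, hn⟩ : N) : H)) h1
          have h4 : g * n * g⁻¹ = n := h3
          exact (mul_inv_eq_iff_eq_mul.1 h4).symm
        rw [hC1] at h2; exact h2
      have hord : orderOf (Φ x) = 7 := by
        have h1 := orderOf_map_dvd Φ x
        rw [hx, Nat.dvd_prime (by norm_num)] at h1
        rcases h1 with h1 | h1
        · exfalso
          have := hΦ x (orderOf_eq_one_iff.1 h1)
          rw [this, orderOf_one] at hx
          norm_num at hx
        · exact h1
      obtain ⟨σ, hσ⟩ := H70AltPrime.exists_perm_six (Φ x) (by rw [hord]; decide)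
      -- σ has order 7 modulo the kernel, impossible in S6
      have h10 : σ ^ 720 = 1 := by
        have h11 : Fintype.card (Equiv.Perm (Fin 6)) = 720 := by rw [Fintype.card_perm, Fintype.card_fin]; rfl
        rw [← h11]; exact pow_card_eq_one
      have h12 : (Φ x) ^ 720 = 1 := by rw [← hσ, ← map_pow, h10, map_one]
      have h13 : 7 ∣ 720 := by rw [← hord]; exact orderOf_dvd_of_pow_eq_one h12
      omega
    · intro x
      have h1 : (QuotientGroup.mk' N) x ∈ C.map (QuotientGroup.mk' N) := by rw [h]; trivial
      obtain ⟨c, hc, hcx⟩ := h1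
      refine ⟨x * c⁻¹, ?_, c, hc, by group⟩
      have h2 : (QuotientGroup.mk' N) (x * c⁻¹) = 1 := by
        rw [map_mul, map_inv, hcx, mul_inv_cancel]
      rw [← QuotientGroup.ker_mk' N]; exact h2
  -- `N ≅ H / C`
  let ν : N →* H ⧸ C := (QuotientGroup.mk' C).comp N.subtype
  have hν : Function.Bijective ν := by
    constructor
    · rw [injective_iff_map_eq_one]
      rintro ⟨n, hn⟩ h
      have : n ∈ C := by rw [← QuotientGroup.ker_mk' C]; exact h
      exact Subtype.ext (hNC n hn this)
    · intro y
      obtain ⟨x, rfl⟩ := QuotientGroup.mk'_surjective C y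
      obtain ⟨n, hn, c, hc, rfl⟩ := hsup x
      refine ⟨⟨n, hn⟩, ?_⟩
      show (QuotientGroup.mk' C) n = _
      rw [map_mul, show (QuotientGroup.mk' C) c = 1 from (QuotientGroup.eq_one_iff c).2 hc, mul_one]
  let F : H →* (H ⧸ N) × (H ⧸ C) := (QuotientGroup.mk' N).prod (QuotientGroup.mk' C)
  have hF : Function.Bijective F := by
    constructor
    · rw [injective_iff_map_eq_one]
      intro x hx
      have h1 : (QuotientGroup.mk' N) x = 1 := congrArg Prod.fst hx
      have h2 : (QuotientGroup.mk' C) x = 1 := congrArg Prod.snd hx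
      exact hNC x ((QuotientGroup.eq_one_iff x).1 h1) ((QuotientGroup.eq_one_iff x).1 h2)
    · rintro ⟨a, b⟩
      obtain ⟨x, rfl⟩ := QuotientGroup.mk'_surjective N a
      obtain ⟨y, rfl⟩ := QuotientGroup.mk'_surjective C b
      obtain ⟨n, hn, c, hc, rfl⟩ := hsup x
      obtain ⟨n', hn', c', hc', rfl⟩ := hsup y
      refine ⟨n' * c, ?_⟩
      have e1 : ∀ m ∈ N, (QuotientGroup.mk' N) m = 1 := fun m hm => (QuotientGroup.eq_one_iff m).2 hm
      have e2 : ∀ m ∈ C, (QuotientGroup.mk' C) m = 1 := fun m hm => (QuotientGroup.eq_one_iff m).2 hm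
      apply Prod.ext
      · show (QuotientGroup.mk' N) (n' * c) = (QuotientGroup.mk' N) (n * c)
        rw [map_mul, map_mul, e1 n hn, e1 n' hn']
      · show (QuotientGroup.mk' C) (n' * c) = (QuotientGroup.mk' C) (n' * c')
        rw [map_mul, map_mul, e2 c hc, e2 c' hc']
  exact ⟨(MulEquiv.ofBijective F hF).trans
    (f.prodCongr ((MulEquiv.ofBijective ν hν).symm.trans e))⟩

end Cfsg.Agent.Lib.H34SplitA6
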