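import Mathlib
import Cfsg.Agent.Lib.H15S0

/-! S2220, amalgam lemma, step 2 (helper35) -/

set_option autoImplicit false
set_option linter.all false

namespace Cfsg.Agent.Lib.H35Gam2

open Cfsg.Agent.Lib.H15S

section
variable {G : Type*} [Group G]

/-- `Ω₁(Z(U))` -/
def Om (U : Subgroup G) : Subgroup G where
  carrier := {u | u ∈ U ∧ u * u = 1 ∧ ∀ y ∈ U, u * y = y * u}
  one_mem' := ⟨U.one_mem, one_mul 1, fun y _ => by rw [one_mul, mul_one]⟩
  mul_mem' := by
    rintro a b ⟨ha, ha2, ha3⟩ ⟨hb, hb2, hb3⟩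
    refine ⟨U.mul_mem ha hb, ?_, ?_⟩
    · calc a * b * (a * b) = a * (b * a) * b := by group
        _ = a * (a * b) * b := by rw [hb3 a ha]
        _ = (a * a) * (b * b) := by group
        _ = 1 := by rw [ha2, hb2, one_mul]
    · intro y hy
      rw [mul_assoc, hb3 y hy, ← mul_assoc, ha3 y hy, mul_assoc]
  inv_mem' := by
    rintro a ⟨ha, ha2, ha3⟩
    refine ⟨U.inv_mem ha, ?_, ?_⟩
    · rw [← mul_inv_rev, ha2, inv_one]
    · intro y hy
      have := ha3 y hy
      rw [inv_mul_eq_iff_eq_mul, ← mul_assoc, this, mul_assoc, mul_inv_cancel, mul_one]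

theorem mem_Om {U : Subgroup G} {u : G} : u ∈ Om U ↔ u ∈ U ∧ u * u = 1 ∧ ∀ y ∈ U, u * y = y * u := Iff.rfl

theorem Om_inv {U : Subgroup G} {u : G} (hu : u ∈ Om U) : u⁻¹ = u := inv_eq_of_mul_eq_one_left hu.2.1

/-- conjugation facts -/
theorem Om_conj {U : Subgroup G} {g : G} (hg : ∀ u ∈ U, g * u * g⁻¹ ∈ U) (hg' : ∀ u ∈ U, g⁻¹ * u * g ∈ U) {u : G} (hu : u ∈ Om U) :
    g * u * g⁻¹ ∈ Om U := by
  refine ⟨hg u hu.1, ?_, ?_⟩
  · calc g * u * g⁻¹ * (g * u * g⁻¹) = g * (u * u) * g⁻¹ := by group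
      _ = 1 := by rw [hu.2.1, mul_one, mul_inv_cancel]
  · intro y hy
    have h1 := hu.2.2 _ (hg' y hy)
    calc g * u * g⁻¹ * y = g * (u * (g⁻¹ * y * g)) * g⁻¹ := by group
      _ = g * ((g⁻¹ * y * g) * u) * g⁻¹ := by rw [h1]
      _ = y * (g * u * g⁻¹) := by group
end

section side
variable {G : Type*} [Group G] [Finite G] {S H U : Subgroup G}

theorem conj_mem_U (h : Side S H U) {g u : G} (hg : g ∈ H) (hu : u ∈ U) : g⁻¹ * u * g ∈ U := by
  have := h.nor g⁻¹ (H.inv_mem hg) u hu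
  rwa [inv_inv] at this

theorem conj_mem_V (h : Side S H U) {g u : G} (hg : g ∈ H) (hu : u ∈ Om U) : g * u * g⁻¹ ∈ Om U :=
  Om_conj (h.nor g hg) (fun u hu => conj_mem_U h hg hu) hu

theorem conj_mem_V' (h : Side S H U) {g u : G} (hg : g ∈ H) (hu : u ∈ Om U) : g⁻¹ * u * g ∈ Om U := by
  have := conj_mem_V h (H.inv_mem hg) hu
  rwa [inv_inv] at this

theorem card_HS (h : Side S H U) : Nat.card H = 3 * Nat.card S := by rw [h.cH, h.cS]; ring

/-- `S` is maximal in `H` -/
theorem max (h : Side S H U) {M : Subgroup G} (h1 : S ≤ M) (h2 : M ≤ H) : M = S ∨ M = H := by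
  have hd : Nat.card S ∣ Nat.card M := Subgroup.card_dvd_of_le h1
  have hd2 : Nat.card M ∣ Nat.card H := Subgroup.card_dvd_of_le h2
  obtain ⟨a, ha⟩ := hd
  obtain ⟨b, hb⟩ := hd2
  have hS : 0 < Nat.card S := Nat.card_pos
  have h3 : a * b = 3 := by
    have : Nat.card S * (a * b) = Nat.card S * 3 := by
      rw [← mul_assoc, ← ha, ← hb, card_HS h]; ring
    exact Nat.eq_of_mul_eq_mul_left hS this
  have ha3 : a ∣ 3 := ⟨b, h3.symm⟩
  rcases (Nat.dvd_prime Nat.prime_three).1 ha3 with h4 | h4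
  · left
    rw [h4, mul_one] at ha
    exact (Subgroup.eq_of_le_of_card_ge h1 ha.le).symm
  · right
    have hb1 : b = 1 := by rw [h4] at h3; omega
    rw [hb1, mul_one] at hb
    exact Subgroup.eq_of_le_of_card_ge h2 hb.le

/-- `k ∉ S` -/
theorem k_not_mem (hS : IsPGroup 2 S) {k : G} (hk : orderOf k = 3) : k ∉ S := by
  intro hkS
  obtain ⟨n, hn⟩ := hS ⟨k, hkS⟩
  have h1 : k ^ 2 ^ n = 1 := congrArg Subtype.val hn
  have h2 : orderOf k ∣ 2 ^ n := orderOf_dvd_of_pow_eq_one h1
  rw [hk] at h2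
  have := (Nat.Prime.dvd_of_dvd_pow Nat.prime_three h2)
  omega

/-- an element of `H` normalizing `S` lies in `S` -/
theorem norm_S (h : Side S H U) {x : G} (hx : x ∈ H) (hn : ∀ s ∈ S, x * s * x⁻¹ ∈ S) : x ∈ S := by
  have hn' : x ∈ Subgroup.normalizer (S : Set G) := by
    rw [Subgroup.mem_normalizer_iff]
    intro s
    constructor
    · exact hn s
    · intro hs
      have hb : Set.BijOn (fun s => x * s * x⁻¹) S S := by
        have hinj : Function.Injective (fun s => x * s * x⁻¹) := fun a b hab => by simpa using hab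
        exact (Set.toFinite (S : Set G)).injOn_iff_bijOn_of_mapsTo (fun s hs => hn s hs) |>.1 (hinj.injOn)
      obtain ⟨t, ht, hts⟩ := hb.2.2 hs
      have : t = s := by simpa using hts
      rwa [← this]
  rcases max h (M := Subgroup.normalizer (S : Set G) ⊓ H) (le_inf Subgroup.le_normalizer h.SH) inf_le_right with h1 | h1
  · rw [← h1]; exact ⟨hn', hx⟩
  · exfalso
    obtain ⟨g, hg, s, hs, hgs⟩ := h.nS
    apply hgs
    have : g ∈ Subgroup.normalizer (S : Set G) ⊓ H := by rw [h1]; exact hg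
    exact (Subgroup.mem_normalizer_iff.1 this.1 s).1 hs

/-- elements of `S` are in `U` or `U v` -/
theorem S_cases (h : Side S H U) {v : G} (hv : v ∈ S) (hvU : v ∉ U) {s : G} (hs : s ∈ S) : s ∈ U ∨ s * v⁻¹ ∈ U := by
  have hle : Nat.card (U.subgroupOf S) = Nat.card U := Nat.card_congr (Subgroup.subgroupOfEquivOfLe h.US).toEquiv
  have hidx : (U.subgroupOf S).index = 2 := by
    have h1 := (U.subgroupOf S).card_mul_index
    rw [hle, h.cS] at h1
    have h2 : 0 < Nat.card U := Nat.card_pos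
    have : Nat.card U * (U.subgroupOf S).index = Nat.card U * 2 := by rw [h1]; ring
    exact Nat.eq_of_mul_eq_mul_left h2 this
  have h3 := Subgroup.mul_mem_iff_of_index_two hidx (a := (⟨s, hs⟩ : S)) (b := (⟨v, hv⟩ : S)⁻¹)
  by_cases hsU : s ∈ U
  · exact Or.inl hsU
  · right
    have h4 : (⟨s, hs⟩ : S) * (⟨v, hv⟩ : S)⁻¹ ∈ U.subgroupOf S := by
      rw [h3]
      constructor
      · intro h5; exact (hsU h5).elim
      · intro h5; exact (hvU (by simpa using U.inv_mem (show v⁻¹ ∈ U from h5))).elim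
    exact h4

theorem not_conj (h : Side S H U) {x v : G} (hx : x ∈ H) (hxS : x ∉ S) (hv : v ∈ S) (hvU : v ∉ U) : x⁻¹ * v * x ∉ S := by
  intro hcon
  apply hxS
  have h1 : x⁻¹ ∈ S := by
    apply norm_S h (H.inv_mem hx)
    intro s hs
    rw [inv_inv]
    rcases S_cases h hv hvU hs with h2 | h2
    · exact h.US (conj_mem_U h hx h2)
    · have h3 := conj_mem_U h hx h2
      have : x⁻¹ * s * x = (x⁻¹ * (s * v⁻¹) * x) * (x⁻¹ * v * x) := by group
      rw [this]
      exact S.mul_mem (h.US h3) hcon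
  have := S.inv_mem h1
  rwa [inv_inv] at this

/-- every element of `H` is `k^i s` -/
theorem decomp (hS : IsPGroup 2 S) (h : Side S H U) {k : G} (hkH : k ∈ H) (hk : orderOf k = 3) {x : G} (hx : x ∈ H) :
    ∃ i < 3, ∃ s ∈ S, x = k ^ i * s := by
  have hk3 : k ^ 3 = 1 := by rw [← hk]; exact pow_orderOf_eq_one k
  have hkS := k_not_mem hS hk
  have hk2S : k ^ 2 ∉ S := by
    intro h2
    apply hkS
    have : k = (k ^ 2) ^ 2 := by
      rw [← pow_mul]
      calc k = k ^ 3 * k := by rw [hk3, one_mul]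
        _ = k ^ (2 * 2) := by rw [← pow_succ]
    rw [this]
    exact S.pow_mem h2 2
  let f : Fin 3 × S → H := fun p => ⟨k ^ (p.1 : ℕ) * p.2, H.mul_mem (H.pow_mem hkH _) (h.SH p.2.2)⟩
  have hinj : Function.Injective f := by
    rintro ⟨i, s⟩ ⟨j, t⟩ hij
    have h1 : k ^ (i : ℕ) * (s : G) = k ^ (j : ℕ) * (t : G) := congrArg Subtype.val hij
    have key : ∀ (a b : ℕ) (s t : S), a < b → b < 3 → k ^ a * (s : G) = k ^ b * (t : G) → False := by
      intro a b s t hab hb h2
      have h3 : k ^ (b - a) = (s : G) * (t : G)⁻¹ := by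
        rw [eq_mul_inv_iff_mul_eq]
        apply mul_left_cancel (a := k ^ a)
        rw [h2, ← mul_assoc, ← pow_add, Nat.add_sub_cancel' hab.le]
      have h4 : k ^ (b - a) ∈ S := by rw [h3]; exact S.mul_mem s.2 (S.inv_mem t.2)
      have h5 : b - a = 1 ∨ b - a = 2 := by omega
      rcases h5 with h5 | h5
      · rw [h5, pow_one] at h4; exact hkS h4
      · rw [h5] at h4; exact hk2S h4
    rcases lt_trichotomy (i : ℕ) (j : ℕ) with h2 | h2 | h2
    · exact (key _ _ s t h2 j.2 h1).elim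
    · have h3 : i = j := Fin.ext h2
      subst h3
      have : s = t := Subtype.ext (mul_left_cancel h1)
      rw [this]
    · exact (key _ _ t s h2 i.2 h1.symm).elim
  have hb : Function.Bijective f := by
    rw [Nat.bijective_iff_injective_and_card]
    refine ⟨hinj, ?_⟩
    rw [Nat.card_prod, card_HS h, Nat.card_eq_fintype_card, Fintype.card_fin]
  obtain ⟨⟨i, s⟩, hf⟩ := hb.2 ⟨x, hx⟩
  exact ⟨i, i.2, s, s.2, (congrArg Subtype.val hf).symm⟩

/-- `C_H(V) ≤ U` -/
theorem cent_V (hS : IsPGroup 2 S) (h : Side S H U) (hV : Om U ≠ ⊥) {x : G} (hx : x ∈ H)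
    (hc : ∀ v ∈ Om U, x * v = v * x) : x ∈ U := by
  obtain ⟨k, hkH, hk, hfix⟩ := h.k
  have hk3 : k ^ 3 = 1 := by rw [← hk]; exact pow_orderOf_eq_one k
  have hnk : ¬ ∀ v ∈ Om U, k * v = v * k := by
    intro hcon
    apply hV
    rw [eq_bot_iff]
    intro v hv
    rw [Subgroup.mem_bot]
    exact hfix v hv.1 (hcon v hv).symm
  -- elements of `H` centralizing `V` form a subgroup
  let C : Subgroup G := H ⊓ Subgroup.centralizer ((Om U : Subgroup G) : Set G)
  have hC : ∀ y, y ∈ C ↔ y ∈ H ∧ ∀ v ∈ Om U, y * v = v * y := by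
    intro y
    rw [Subgroup.mem_inf, Subgroup.mem_centralizer_iff]
    constructor
    · rintro ⟨h1, h2⟩; exact ⟨h1, fun v hv => (h2 v hv).symm⟩
    · rintro ⟨h1, h2⟩; exact ⟨h1, fun v hv => (h2 v hv).symm⟩
  have hkC : k ∉ C := fun hh => hnk ((hC k).1 hh).2
  have hUC : U ≤ C := fun u hu => (hC u).2 ⟨h.SH (h.US hu), fun v hv => (hv.2.2 u hu).symm⟩
  have hCn : ∀ g ∈ H, ∀ y ∈ C, g * y * g⁻¹ ∈ C := by
    intro g hg y hy
    rw [hC] at hy ⊢
    refine ⟨H.mul_mem (H.mul_mem hg hy.1) (H.inv_mem hg), ?_⟩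
    intro v hv
    have h1 := hy.2 _ (conj_mem_V' h hg hv)
    calc g * y * g⁻¹ * v = g * (y * (g⁻¹ * v * g)) * g⁻¹ := by group
      _ = g * ((g⁻¹ * v * g) * y) * g⁻¹ := by rw [h1]
      _ = v * (g * y * g⁻¹) := by group
  -- powers of `k` are not in `C` unless trivial
  have hkp : ∀ i < 3, k ^ i ∈ C → i = 0 := by
    intro i hi hic
    interval_cases i
    · rfl
    · rw [pow_one] at hic; exact (hkC hic).elim
    · exfalso
      apply hkC
      have : k = (k ^ 2) ^ 2 := by
        rw [← pow_mul]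
        calc k = k ^ 3 * k := by rw [hk3, one_mul]
          _ = k ^ (2 * 2) := by rw [← pow_succ]
      rw [this]
      exact C.pow_mem hic 2
  -- `S` is not in `C`
  have hSC : ¬ S ≤ C := by
    intro hSC
    obtain ⟨g, hg, s, hs, hgs⟩ := h.nS
    have h1 := hCn g hg s (hSC hs)
    obtain ⟨i, hi, t, ht, hit⟩ := decomp hS h hkH hk ((hC _).1 h1).1
    have h2 : k ^ i ∈ C := by
      have : k ^ i = (g * s * g⁻¹) * t⁻¹ := by rw [hit]; group
      rw [this]
      exact C.mul_mem h1 (C.inv_mem (hSC ht))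
    have h3 := hkp i hi h2
    rw [h3, pow_zero, one_mul] at hit
    exact hgs (by rw [hit]; exact ht)
  have hCS : ∀ y ∈ C, y ∈ S → y ∈ U := by
    intro y hy hyS
    by_contra hyU
    apply hSC
    intro s hs
    rcases S_cases h hyS hyU hs with h1 | h1
    · exact hUC h1
    · have : s = (s * y⁻¹) * y := by group
      rw [this]
      exact C.mul_mem (hUC h1) hy
  have hxC : x ∈ C := (hC x).2 ⟨hx, hc⟩
  obtain ⟨i, hi, s, hs, his⟩ := decomp hS h hkH hk hx
  by_cases hsU : s ∈ U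
  · have h2 : k ^ i ∈ C := by
      have : k ^ i = x * s⁻¹ := by rw [his]; group
      rw [this]
      exact C.mul_mem hxC (C.inv_mem (hUC hsU))
    rw [hkp i hi h2, pow_zero, one_mul] at his
    rw [his]; exact hsU
  · -- `s` acts as `k^{-i}` on `V`; the square of `s` is in `U`
    have hs2 : s * s ∈ U := by
      by_contra hss
      have hs' : s * s ∈ U ∨ s * s * s⁻¹ ∈ U := S_cases h hs hsU (S.mul_mem hs hs)
      rcases hs' with h1 | h1
      · exact hss h1
      · exact hsU (by simpa using h1)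
    by_cases hi0 : i = 0
    · rw [hi0, pow_zero, one_mul] at his
      exact hCS x hxC (by rw [his]; exact hs)
    · exfalso
      -- `k^{2i} = (x s⁻¹)²`
      have key : ∀ v ∈ Om U, k ^ (2 * i) * v = v * k ^ (2 * i) := by
        intro v hv
        have hki : k ^ i = x * s⁻¹ := by rw [his]; group
        have hkv : ∀ w ∈ Om U, k ^ i * w * (k ^ i)⁻¹ = s⁻¹ * w * s := by
          intro w hw
          have h3 : s⁻¹ * w * s ∈ Om U := conj_mem_V' h (h.SH hs) hw
          have h4 := hc _ h3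
          rw [hki]
          calc x * s⁻¹ * w * (x * s⁻¹)⁻¹ = (x * (s⁻¹ * w * s)) * x⁻¹ := by group
            _ = (s⁻¹ * w * s * x) * x⁻¹ := by rw [h4]
            _ = s⁻¹ * w * s := by group
        have h5 : k ^ (2 * i) * v * (k ^ (2 * i))⁻¹ = v := by
          calc k ^ (2 * i) * v * (k ^ (2 * i))⁻¹ = k ^ i * (k ^ i * v * (k ^ i)⁻¹) * (k ^ i)⁻¹ := by
                rw [two_mul, pow_add]; group
            _ = k ^ i * (s⁻¹ * v * s) * (k ^ i)⁻¹ := by rw [hkv v hv]
            _ = s⁻¹ * (s⁻¹ * v * s) * s := hkv _ (conj_mem_V' h (h.SH hs) hv)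
            _ = (s * s)⁻¹ * (v * (s * s)) := by group
            _ = (s * s)⁻¹ * ((s * s) * v) := by rw [hv.2.2 _ hs2]
            _ = v := by group
        exact mul_inv_eq_iff_eq_mul.1 h5
      have h6 : k ^ (2 * i) ∈ C := (hC _).2 ⟨H.pow_mem hkH _, key⟩
      have hi12 : i = 1 ∨ i = 2 := by omega
      rcases hi12 with h7 | h7
      · rw [h7] at h6
        have := hkp 2 (by norm_num) h6
        omega
      · rw [h7] at h6
        have h8 : k ^ (2 * 2) = k := by
          calc k ^ (2 * 2) = k ^ 3 * k := by rw [← pow_succ]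
            _ = k := by rw [hk3, one_mul]
        rw [h8] at h6
        exact hkC h6

theorem Om_S_le (hS : IsPGroup 2 S) (h : Side S H U) (hV : Om U ≠ ⊥) : Om S ≤ Om U := by
  intro z hz
  have hzU : z ∈ U := cent_V hS h hV (h.SH hz.1) (fun v hv => hz.2.2 v (h.US hv.1))
  exact ⟨hzU, hz.2.1, fun y hy => hz.2.2 y (h.US hy)⟩

theorem cent_s (h : Side S H U) {s v : G} (hs : s ∈ S) (hsU : s ∉ U) (hv : v ∈ Om U) (hc : s * v = v * s) : v ∈ Om S := by
  refine ⟨h.US hv.1, hv.2.1, ?_⟩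
  intro y hy
  rcases S_cases h hs hsU hy with h1 | h1
  · exact hv.2.2 y h1
  · have h2 := hv.2.2 _ h1
    calc v * y = (v * (y * s⁻¹)) * s := by group
      _ = (y * s⁻¹) * (v * s) := by rw [h2]; group
      _ = (y * s⁻¹) * (s * v) := by rw [hc]
      _ = y * v := by group

theorem cent_z (hS : IsPGroup 2 S) (h : Side S H U) (hV : Om U ≠ ⊥) {z x : G} (hz : z ∈ Om S) (hz1 : z ≠ 1) (hx : x ∈ H)
    (hc : x * z = z * x) : x ∈ S := by
  obtain ⟨k, hkH, hk, hfix⟩ := h.k
  let M : Subgroup G := H ⊓ Subgroup.centralizer ({z} : Set G)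
  have hM : ∀ y, y ∈ M ↔ y ∈ H ∧ y * z = z * y := by
    intro y
    rw [Subgroup.mem_inf, Subgroup.mem_centralizer_singleton_iff]
  have hSM : S ≤ M := fun s hs => (hM s).2 ⟨h.SH hs, (hz.2.2 s hs).symm⟩
  rcases max h hSM inf_le_left with h1 | h1
  · rw [← h1]; exact (hM x).2 ⟨hx, hc⟩
  · exfalso
    apply hz1
    apply hfix z (Om_S_le hS h hV hz).1
    have : k ∈ M := by rw [h1]; exact hkH
    exact ((hM k).1 this).2.symm

theorem card_sq (hS : IsPGroup 2 S) (h : Side S H U) (hV : Om U ≠ ⊥) : Nat.card (Om U) = Nat.card (Om S) * Nat.card (Om S) := by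
  obtain ⟨k, hkH, hk, hfix⟩ := h.k
  have hkS := k_not_mem hS hk
  -- an element of `S` outside `U`
  have hs : ∃ s ∈ S, s ∉ U := by
    by_contra hcon
    push Not at hcon
    have h1 : Nat.card S ≤ Nat.card U := Subgroup.card_le_of_le hcon
    have h2 : 0 < Nat.card U := Nat.card_pos
    rw [h.cS] at h1
    omega
  obtain ⟨s, hs, hsU⟩ := hs
  have hs2 : s * s ∈ U := by
    rcases S_cases h hs hsU (S.mul_mem hs hs) with h1 | h1
    · exact h1
    · exact (hsU (by simpa using h1)).elim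
  apply le_antisymm
  · have hmem : ∀ v : Om U, (v : G) * (s * v * s⁻¹) ∈ Om S := by
      intro v
      have hv2 : s * v * s⁻¹ ∈ Om U := conj_mem_V h (h.SH hs) v.2
      apply cent_s h hs hsU ((Om U).mul_mem v.2 hv2)
      have h1 := v.2.2.2 _ hv2.1
      have h3 := v.2.2.2 _ hs2
      calc s * ((v : G) * (s * v * s⁻¹)) = (s * v * s⁻¹) * ((s * s) * v) * s⁻¹ := by group
        _ = (s * v * s⁻¹) * (v * (s * s)) * s⁻¹ := by rw [h3]
        _ = ((s * v * s⁻¹) * v) * s := by group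
        _ = (v * (s * v * s⁻¹)) * s := by rw [h1]
    let f : Om U →* Om S :=
      { toFun := fun v => ⟨(v : G) * (s * v * s⁻¹), hmem v⟩
        map_one' := by apply Subtype.ext; simp
        map_mul' := by
          intro v w
          apply Subtype.ext
          show (v : G) * w * (s * (v * w) * s⁻¹) = v * (s * v * s⁻¹) * (w * (s * w * s⁻¹))
          have hv2 : s * v * s⁻¹ ∈ Om U := conj_mem_V h (h.SH hs) v.2
          have h1 := w.2.2.2 _ hv2.1
          calc (v : G) * w * (s * (v * w) * s⁻¹) = v * (w * (s * v * s⁻¹)) * (s * w * s⁻¹) := by group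
            _ = v * ((s * v * s⁻¹) * w) * (s * w * s⁻¹) := by rw [h1]
            _ = _ := by group }
    have h1 := Subgroup.card_eq_card_quotient_mul_card_subgroup f.ker
    have h2 : Nat.card (Om U ⧸ f.ker) = Nat.card f.range := Nat.card_congr (QuotientGroup.quotientKerEquivRange f).toEquiv
    have h3 : Nat.card f.range ≤ Nat.card (Om S) := Subgroup.card_le_card_group f.range
    have h4 : Nat.card f.ker ≤ Nat.card (Om S) := by
      have hk : ∀ v : f.ker, ((v : Om U) : G) ∈ Om S := by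
        intro v
        have h5 : ((v : Om U) : G) * (s * (v : Om U) * s⁻¹) = 1 := congrArg Subtype.val (MonoidHom.mem_ker.1 v.2)
        apply cent_s h hs hsU (v : Om U).2
        have h6 : s * ((v : Om U) : G) * s⁻¹ = (v : Om U) := by
          have h7 := eq_inv_of_mul_eq_one_right h5
          rw [h7, Om_inv (v : Om U).2]
        exact mul_inv_eq_iff_eq_mul.1 h6
      exact Nat.card_le_card_of_injective (fun v : f.ker => (⟨((v : Om U) : G), hk v⟩ : Om S))
        (fun a b hab => by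
          have h8 : ((a : Om U) : G) = ((b : Om U) : G) := congrArg (fun z : Om S => (z : G)) hab
          exact Subtype.ext (Subtype.ext h8))
    rw [h1, h2]
    exact Nat.mul_le_mul h3 h4
  · have hle := Om_S_le hS h hV
    have hmem : ∀ p : Om S × Om S, (p.1 : G) * (k * p.2 * k⁻¹) ∈ Om U := fun p =>
      (Om U).mul_mem (hle p.1.2) (conj_mem_V h hkH (hle p.2.2))
    have hinj : Function.Injective (fun p : Om S × Om S => (⟨(p.1 : G) * (k * p.2 * k⁻¹), hmem p⟩ : Om U)) := by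
      rintro ⟨a, b⟩ ⟨c, d⟩ hab
      have h1 : (a : G) * (k * b * k⁻¹) = c * (k * d * k⁻¹) := congrArg Subtype.val hab
      have h2 : (c : G)⁻¹ * a = k * ((d : G) * (b : G)⁻¹) * k⁻¹ := by
        rw [inv_mul_eq_iff_eq_mul]
        calc (a : G) = (a * (k * b * k⁻¹)) * (k * (b : G)⁻¹ * k⁻¹) := by group
          _ = (c * (k * d * k⁻¹)) * (k * (b : G)⁻¹ * k⁻¹) := by rw [h1]
          _ = _ := by group
      have hy : (c : G)⁻¹ * a ∈ Om S := (Om S).mul_mem ((Om S).inv_mem c.2) a.2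
      have hy' : (d : G) * (b : G)⁻¹ ∈ Om S := (Om S).mul_mem d.2 ((Om S).inv_mem b.2)
      have hy1 : (c : G)⁻¹ * a = 1 := by
        by_contra hne
        apply hkS
        apply norm_S h hkH
        intro t ht
        apply cent_z hS h hV hy hne (H.mul_mem (H.mul_mem hkH (h.SH ht)) (H.inv_mem hkH))
        rw [h2]
        have := hy'.2.2 t ht
        calc k * t * k⁻¹ * (k * ((d : G) * (b : G)⁻¹) * k⁻¹) = k * (t * ((d : G) * (b : G)⁻¹)) * k⁻¹ := by group
          _ = k * (((d : G) * (b : G)⁻¹) * t) * k⁻¹ := by rw [this]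
          _ = _ := by group
      have hac : (a : G) = c := (inv_mul_eq_one.1 hy1).symm
      have hdb : (d : G) * (b : G)⁻¹ = 1 := by
        rw [hy1] at h2
        have h3 : k * ((d : G) * (b : G)⁻¹) = k := (mul_inv_eq_one.1 h2.symm)
        calc (d : G) * (b : G)⁻¹ = k⁻¹ * (k * ((d : G) * (b : G)⁻¹)) := by group
          _ = 1 := by rw [h3, inv_mul_cancel]
      have hbd : (b : G) = d := (mul_inv_eq_one.1 hdb).symm
      rw [Prod.mk.injEq]
      exact ⟨Subtype.ext hac, Subtype.ext hbd⟩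
    have := Nat.card_le_card_of_injective _ hinj
    rwa [Nat.card_prod] at this

/-- generation of `V` -/
theorem V_gen (hS : IsPGroup 2 S) (h : Side S H U) (hV : Om U ≠ ⊥) (h4 : Nat.card (Om U) = 4) {z x : G} (hz : z ∈ Om S) (hz1 : z ≠ 1)
    (hx : x ∈ H) (hxS : x ∉ S) {M : Subgroup G} (h1 : z ∈ M) (h2 : x * z * x⁻¹ ∈ M) : Om U ≤ M := by
  classical
  have hzV := Om_S_le hS h hV hz
  have hne : x * z * x⁻¹ ≠ z := by
    intro hcon
    exact hxS (cent_z hS h hV hz hz1 hx (mul_inv_eq_iff_eq_mul.1 hcon))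
  have hne1 : x * z * x⁻¹ ≠ 1 := by
    intro hcon
    apply hz1
    have := mul_inv_eq_one.1 hcon
    exact (mul_eq_left (a := x)).1 this
  have h5 : Nat.card (M ⊓ Om U : Subgroup G) ∣ 4 := by
    rw [← h4]
    exact Subgroup.card_dvd_of_le inf_le_right
  have h6 : 3 ≤ Nat.card (M ⊓ Om U : Subgroup G) := by
    have hf : Function.Injective (fun i : Fin 3 => (![(1 : (M ⊓ Om U : Subgroup G)), ⟨z, h1, hzV⟩,
        ⟨x * z * x⁻¹, h2, conj_mem_V h hx hzV⟩] i)) := by
      intro i j hij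
      have e1 : ((1 : (M ⊓ Om U : Subgroup G)) : G) = 1 := rfl
      fin_cases i <;> fin_cases j <;> simp [Subtype.ext_iff] at hij ⊢
      all_goals first
        | exact hz1 hij
        | exact hz1 hij.symm
        | exact hne hij
        | exact hne hij.symm
        | exact hne1 hij
        | exact hne1 hij.symm
    have := Nat.card_le_card_of_injective _ hf
    rwa [Nat.card_eq_fintype_card, Fintype.card_fin] at this
  have h7 : Nat.card (M ⊓ Om U : Subgroup G) = 4 := by
    have := Nat.le_of_dvd (by norm_num) h5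
    interval_cases hh : Nat.card (M ⊓ Om U : Subgroup G)
    · omega
    · rfl
  have h8 : (M ⊓ Om U : Subgroup G) = Om U := Subgroup.eq_of_le_of_card_ge inf_le_right (by rw [h7, h4])
  intro v hv
  rw [← h8] at hv
  exact hv.1

theorem mem_norm_of {Y : Subgroup G} {x : G} (hn : ∀ s ∈ Y, x * s * x⁻¹ ∈ Y) : x ∈ Subgroup.normalizer (Y : Set G) := by
  rw [Subgroup.mem_normalizer_iff]
  intro s
  constructor
  · exact hn s
  · intro hs
    have hinj : Function.Injective (fun s => x * s * x⁻¹) := fun a b hab => by simpa using hab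
    have hb : Set.BijOn (fun s => x * s * x⁻¹) Y Y :=
      (Set.toFinite (Y : Set G)).injOn_iff_bijOn_of_mapsTo (fun s hs => hn s hs) |>.1 (hinj.injOn)
    obtain ⟨t, ht, hts⟩ := hb.2.2 hs
    have : t = s := by simpa using hts
    rwa [← this]

theorem gen4 {V M : Subgroup G} (h4 : Nat.card V = 4) {a b : G} (ha : a ∈ V) (hb : b ∈ V) (ha1 : a ≠ 1) (hb1 : b ≠ 1) (hab : a ≠ b)
    (haM : a ∈ M) (hbM : b ∈ M) : V ≤ M := by
  classical
  have h5 : Nat.card (M ⊓ V : Subgroup G) ∣ 4 := by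
    rw [← h4]
    exact Subgroup.card_dvd_of_le inf_le_right
  have h6 : 3 ≤ Nat.card (M ⊓ V : Subgroup G) := by
    have hf : Function.Injective (fun i : Fin 3 => (![(1 : (M ⊓ V : Subgroup G)), ⟨a, haM, ha⟩,
        ⟨b, hbM, hb⟩] i)) := by
      intro i j hij
      fin_cases i <;> fin_cases j <;> simp [Subtype.ext_iff] at hij ⊢
      all_goals first
        | exact ha1 hij
        | exact ha1 hij.symm
        | exact hb1 hij
        | exact hb1 hij.symm
        | exact hab hij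
        | exact hab hij.symm
    have := Nat.card_le_card_of_injective _ hf
    rwa [Nat.card_eq_fintype_card, Fintype.card_fin] at this
  have h7 : Nat.card (M ⊓ V : Subgroup G) = 4 := by
    have := Nat.le_of_dvd (by norm_num) h5
    interval_cases hh : Nat.card (M ⊓ V : Subgroup G)
    · omega
    · rfl
  have h8 : (M ⊓ V : Subgroup G) = V := Subgroup.eq_of_le_of_card_ge inf_le_right (by rw [h7, h4])
  intro v hv
  rw [← h8] at hv
  exact hv.1

theorem comm_mem (h : Side S H U) {s v : G} (hs : s ∈ S) (hsU : s ∉ U) (hv : v ∈ Om U) : v * (s * v * s⁻¹) ∈ Om S := by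
  have hs2 : s * s ∈ U := by
    rcases S_cases h hs hsU (S.mul_mem hs hs) with h1 | h1
    · exact h1
    · exact (hsU (by simpa using h1)).elim
  have hv2 : s * v * s⁻¹ ∈ Om U := conj_mem_V h (h.SH hs) hv
  apply cent_s h hs hsU ((Om U).mul_mem hv hv2)
  have h1 := hv.2.2 _ hv2.1
  have h3 := hv.2.2 _ hs2
  calc s * (v * (s * v * s⁻¹)) = (s * v * s⁻¹) * ((s * s) * v) * s⁻¹ := by group
    _ = (s * v * s⁻¹) * (v * (s * s)) * s⁻¹ := by rw [h3]
    _ = ((s * v * s⁻¹) * v) * s := by group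
    _ = (v * (s * v * s⁻¹)) * s := by rw [h1]
end side

section walk
variable {G : Type*} [Group G]

inductive Wk (H : Bool → Subgroup G) : ℕ → Bool → Bool → G → Prop
  | one (i : Bool) : Wk H 1 i (!i) 1
  | step {n : ℕ} {i j : Bool} {g h : G} : Wk H n i j g → h ∈ H j → Wk H (n + 1) i (!j) (g * h)

theorem Wk.pre {H : Bool → Subgroup G} {n : ℕ} {i j : Bool} {g : G} (w : Wk H n i j g) {x : G} (hx : x ∈ H i) :
    Wk H (n + 1) (!i) j (x * g) := by
  induction w with
  | one i =>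
    have := (Wk.one (H := H) (!i)).step (h := x) (by simpa using hx)
    simpa using this
  | step w hh ih =>
    have := (ih hx).step hh
    rwa [mul_assoc] at this

theorem Wk.rev {H : Bool → Subgroup G} {n : ℕ} {i j : Bool} {g : G} (w : Wk H n i j g) : Wk H n j i g⁻¹ := by
  induction w with
  | one i =>
    have := Wk.one (H := H) (!i)
    simpa using this
  | step w hh ih =>
    have := ih.pre (x := _) ((H _).inv_mem hh)
    rwa [← mul_inv_rev] at this

/-- no critical walks of length `n` -/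
def Crit (H U : Bool → Subgroup G) (n : ℕ) : Prop := ∀ i j g, Wk H n i j g → ∀ v ∈ Om (U i), g⁻¹ * v * g ∈ U j

variable [Finite G] {S : Subgroup G} {H U : Bool → Subgroup G}

theorem exists_crit (h : ∀ i, Side S (H i) (U i)) (hV : ∀ i, Om (U i) ≠ ⊥)
    (hNC : ∀ T : Subgroup G, T ≠ ⊥ → T ≤ S → (∀ i, ∀ g ∈ H i, ∀ t ∈ T, g * t * g⁻¹ ∈ T) → False) :
    ∃ n, ¬ Crit H U n := by
  by_contra hcon
  push Not at hcon
  let T : Subgroup G := Subgroup.closure {t | ∃ n i j g v, Wk H n i j g ∧ v ∈ Om (U i) ∧ t = g⁻¹ * v * g}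
  refine hNC T ?_ ?_ ?_
  · intro hT
    apply hV true
    rw [eq_bot_iff]
    intro v hv
    have : v ∈ T := Subgroup.subset_closure ⟨1, true, false, 1, v, Wk.one true, hv, by group⟩
    rwa [hT] at this
  · rw [Subgroup.closure_le]
    rintro t ⟨n, i, j, g, v, w, hv, rfl⟩
    exact (h j).US (hcon n i j g w v hv)
  · intro k x hx t ht
    induction ht using Subgroup.closure_induction with
    | mem t ht =>
      obtain ⟨n, i, j, g, v, w, hv, rfl⟩ := ht
      have h1 : ∃ n' j', Wk H n' i j' (g * x⁻¹) := by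
        by_cases hkj : k = j
        · subst hkj
          exact ⟨_, _, w.step ((H k).inv_mem hx)⟩
        · have hk : k = !j := by cases k <;> cases j <;> simp_all
          subst hk
          have h2 := (w.step (h := 1) (H j).one_mem).step (h := x⁻¹) ((H _).inv_mem hx)
          rw [mul_one] at h2
          exact ⟨_, _, h2⟩
      obtain ⟨n', j', w'⟩ := h1
      exact Subgroup.subset_closure ⟨n', i, j', _, v, w', hv, by group⟩
    | one => simpa using T.one_mem
    | mul a b _ _ iha ihb =>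
      have : x * (a * b) * x⁻¹ = (x * a * x⁻¹) * (x * b * x⁻¹) := by group
      rw [this]
      exact T.mul_mem iha ihb
    | inv a _ iha =>
      have : x * a⁻¹ * x⁻¹ = (x * a * x⁻¹)⁻¹ := by group
      rw [this]
      exact T.inv_mem iha

/-- consequences of a critical pair -/
theorem crit (hS : IsPGroup 2 S) (h : ∀ i, Side S (H i) (U i)) (hV : ∀ i, Om (U i) ≠ ⊥) {i j : Bool} {g : G}
    (c1 : ∀ v ∈ Om (U i), g⁻¹ * v * g ∈ U (!j)) (c2 : ∀ v ∈ Om (U j), g * v * g⁻¹ ∈ U (!i))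
    (hc : ∃ a ∈ Om (U i), g⁻¹ * a * g ∉ U j) :
    (∃ v ∈ Om (U j), g * v * g⁻¹ ∉ U i) ∧ Nat.card (Om S) = 2 ∧ ∀ z ∈ Om S, g⁻¹ * z * g = z := by
  classical
  obtain ⟨a, ha, hag⟩ := hc
  have ha' : g⁻¹ * a * g ∈ S := (h (!j)).US (c1 a ha)
  have hw : ∃ w ∈ Om (U j), (g⁻¹ * a * g) * w ≠ w * (g⁻¹ * a * g) := by
    by_contra hcon
    push Not at hcon
    exact hag (cent_V hS (h j) (hV j) ((h j).SH ha') hcon)
  obtain ⟨w, hw, hwa⟩ := hw
  have hvS : g * w * g⁻¹ ∈ S := (h (!i)).US (c2 w hw)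
  have hnc : a * (g * w * g⁻¹) ≠ (g * w * g⁻¹) * a := by
    intro hcon
    apply hwa
    calc (g⁻¹ * a * g) * w = g⁻¹ * (a * (g * w * g⁻¹)) * g := by group
      _ = g⁻¹ * ((g * w * g⁻¹) * a) * g := by rw [hcon]
      _ = _ := by group
  have hvU : g * w * g⁻¹ ∉ U i := fun hh => hnc (ha.2.2 _ hh)
  -- elements whose conjugate is in `U j` lie in `Om S`
  have hin : ∀ b ∈ Om (U i), g⁻¹ * b * g ∈ U j → b ∈ Om S := by
    intro b hb hbg
    apply cent_s (h i) hvS hvU hb
    have h1 := hw.2.2 _ hbg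
    calc (g * w * g⁻¹) * b = g * (w * (g⁻¹ * b * g)) * g⁻¹ := by group
      _ = g * ((g⁻¹ * b * g) * w) * g⁻¹ := by rw [h1]
      _ = _ := by group
  have hdiff : ∀ b ∈ Om (U i), g⁻¹ * b * g ∉ U j → b * a⁻¹ ∈ Om S := by
    intro b hb hbg
    apply hin _ ((Om (U i)).mul_mem hb ((Om (U i)).inv_mem ha))
    have h1 := S_cases (h j) ha' hag ((h (!j)).US (c1 b hb))
    rcases h1 with h1 | h1
    · exact (hbg h1).elim
    · have : g⁻¹ * (b * a⁻¹) * g = g⁻¹ * b * g * (g⁻¹ * a * g)⁻¹ := by group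
      rw [this]; exact h1
  have hcard : Nat.card (Om S) = 2 := by
    have h1 : Nat.card (Om (U i)) ≤ 2 * Nat.card (Om S) := by
      let f : Om (U i) → Bool × Om S := fun b =>
        if hb : g⁻¹ * (b : G) * g ∈ U j then (true, ⟨b, hin b b.2 hb⟩) else (false, ⟨(b : G) * a⁻¹, hdiff b b.2 hb⟩)
      have hf : Function.Injective f := by
        intro b c hbc
        by_cases hb : g⁻¹ * (b : G) * g ∈ U j
        · by_cases hc : g⁻¹ * (c : G) * g ∈ U j
          · simp only [f, dif_pos hb, dif_pos hc, Prod.mk.injEq, true_and, Subtype.mk.injEq] at hbc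
            exact Subtype.ext hbc
          · simp only [f, dif_pos hb, dif_neg hc, Prod.mk.injEq] at hbc
            exact absurd hbc.1 (by decide)
        · by_cases hc : g⁻¹ * (c : G) * g ∈ U j
          · simp only [f, dif_neg hb, dif_pos hc, Prod.mk.injEq] at hbc
            exact absurd hbc.1 (by decide)
          · simp only [f, dif_neg hb, dif_neg hc, Prod.mk.injEq, true_and, Subtype.mk.injEq] at hbc
            exact Subtype.ext (mul_right_cancel hbc)
      have := Nat.card_le_card_of_injective _ hf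
      rwa [Nat.card_prod, Nat.card_eq_fintype_card (α := Bool), Fintype.card_bool] at this
    have h2 := card_sq hS (h i) (hV i)
    have h3 : 1 < Nat.card (Om (U i)) := by
      rw [Finite.one_lt_card_iff_nontrivial, Subgroup.nontrivial_iff_ne_bot]
      exact hV i
    rw [h2] at h1 h3
    have h4 : 0 < Nat.card (Om S) := Nat.card_pos
    have h5 : Nat.card (Om S) ≤ 2 := Nat.le_of_mul_le_mul_right h1 h4
    have h6 : Nat.card (Om S) ≠ 1 := by intro h7; rw [h7] at h3; omega
    omega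
  refine ⟨⟨w, hw, hvU⟩, hcard, ?_⟩
  -- the commutator
  have hc1 : a * ((g * w * g⁻¹) * a * (g * w * g⁻¹)⁻¹) ∈ Om S := comm_mem (h i) hvS hvU ha
  have hc2 : w * ((g⁻¹ * a * g) * w * (g⁻¹ * a * g)⁻¹) ∈ Om S := comm_mem (h j) ha' hag hw
  have hai := Om_inv ha
  have hwi := Om_inv hw
  have hconj : g⁻¹ * (a * ((g * w * g⁻¹) * a * (g * w * g⁻¹)⁻¹)) * g = ((g⁻¹ * a * g) * w * (g⁻¹ * a * g)⁻¹) * w := by
    calc g⁻¹ * (a * ((g * w * g⁻¹) * a * (g * w * g⁻¹)⁻¹)) * g = g⁻¹ * a * g * w * (g⁻¹ * a * g) * w⁻¹ := by group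
      _ = g⁻¹ * a * g * w * (g⁻¹ * a⁻¹ * g) * w := by rw [hai, hwi]
      _ = _ := by group
  have hcm : ((g⁻¹ * a * g) * w * (g⁻¹ * a * g)⁻¹) * w = w * ((g⁻¹ * a * g) * w * (g⁻¹ * a * g)⁻¹) :=
    (hw.2.2 _ (conj_mem_V (h j) ((h j).SH ha') hw).1).symm
  rw [hcm] at hconj
  have hne : a * ((g * w * g⁻¹) * a * (g * w * g⁻¹)⁻¹) ≠ 1 := by
    intro hcon
    apply hnc
    have h1 : (g * w * g⁻¹) * a * (g * w * g⁻¹)⁻¹ = a := by
      rw [eq_inv_of_mul_eq_one_right hcon, hai]
    exact (mul_inv_eq_iff_eq_mul.1 h1).symm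
  have huniq : ∀ x ∈ Om S, x ≠ 1 → ∀ y ∈ Om S, y ≠ 1 → x = y := by
    intro x hx hx1 y hy hy1
    by_contra hxy
    have hf : Function.Injective (fun i : Fin 3 => (![(1 : Om S), ⟨x, hx⟩, ⟨y, hy⟩] i)) := by
      intro i j hij
      fin_cases i <;> fin_cases j <;> simp [Subtype.ext_iff] at hij ⊢
      all_goals first
        | exact hx1 hij
        | exact hx1 hij.symm
        | exact hy1 hij
        | exact hy1 hij.symm
        | exact hxy hij
        | exact hxy hij.symm
    have := Nat.card_le_card_of_injective _ hf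
    rw [Nat.card_eq_fintype_card, Fintype.card_fin, hcard] at this
    omega
  intro z hz
  by_cases hz1 : z = 1
  · rw [hz1]; group
  · have h1 := huniq z hz hz1 _ hc1 hne
    have h2 : g⁻¹ * z * g ∈ Om S := by rw [h1, hconj]; exact hc2
    have h3 : g⁻¹ * z * g ≠ 1 := by
      intro hcon
      apply hz1
      calc z = g * (g⁻¹ * z * g) * g⁻¹ := by group
        _ = 1 := by rw [hcon]; group
    exact huniq _ h2 h3 z hz hz1

theorem Wk.c1 (h : ∀ i, Side S (H i) (U i)) {n : ℕ} (hn : 1 ≤ n) (hcr : Crit H U n) {i j : Bool} {g : G} (w : Wk H (n + 1) i j g) :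
    ∀ v ∈ Om (U i), g⁻¹ * v * g ∈ U (!j) := by
  intro v hv
  cases w with
  | one => omega
  | step w' hh =>
    rename_i j' g₁ y
    have h1 := hcr _ _ _ w' v hv
    have h2 := conj_mem_U (h j') hh h1
    have : (g₁ * y)⁻¹ * v * (g₁ * y) = y⁻¹ * (g₁⁻¹ * v * g₁) * y := by group
    rw [this]
    simpa using h2

/-- step 2 of the amalgam lemma -/
theorem step2 (hS : IsPGroup 2 S) (h : ∀ i, Side S (H i) (U i)) (hV : ∀ i, Om (U i) ≠ ⊥)
    (hNC : ∀ T : Subgroup G, T ≠ ⊥ → T ≤ S → (∀ i, ∀ g ∈ H i, ∀ t ∈ T, g * t * g⁻¹ ∈ T) → False)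
    (hb1 : ∀ i, Om (U i) ≤ U (!i)) : False := by
  classical
  have hex := exists_crit h hV hNC
  have hb := Nat.find_spec hex
  have hmin : ∀ m, m < Nat.find hex → Crit H U m := fun m hm => by
    have := Nat.find_min hex hm
    push Not at this
    exact this
  generalize Nat.find hex = b at hb hmin
  have hno : ∀ {i j g}, ¬ Wk H 0 i j g := by
    intro i j g w
    cases w
  have hc0 : Crit H U 0 := fun i j g w => (hno w).elim
  have hc1 : Crit H U 1 := by
    intro i j g w v hv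
    cases w with
    | one => simpa using hb1 i hv
    | step w' _ => exact (hno w').elim
  obtain ⟨n, rfl⟩ : ∃ n, b = n + 1 := by
    cases b with
    | zero => exact (hb hc0).elim
    | succ n => exact ⟨n, rfl⟩
  have hn : 1 ≤ n := by
    rcases Nat.eq_zero_or_pos n with h0 | h0
    · subst h0; exact (hb hc1).elim
    · exact h0
  have hcn : Crit H U n := hmin n (Nat.lt_succ_self n)
  have hC2 : ∀ {i j g}, Wk H (n + 1) i j g → ∀ v ∈ Om (U j), g * v * g⁻¹ ∈ U (!i) := by
    intro i j g w v hv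
    have := (w.rev).c1 h hn hcn v hv
    rwa [inv_inv] at this
  unfold Crit at hb
  push Not at hb
  obtain ⟨i, j, g, w, hcr⟩ := hb
  obtain ⟨⟨wj, hwj, hvU⟩, hcS, hz⟩ := crit hS h hV (w.c1 h hn hcn) (hC2 w) hcr
  -- the involution `z`
  have h4 : ∀ i, Nat.card (Om (U i)) = 4 := fun i => by rw [card_sq hS (h i) (hV i), hcS]
  obtain ⟨z, hzS, hz1⟩ : ∃ z ∈ Om S, z ≠ 1 := by
    have h1 : 1 < Nat.card (Om S) := by rw [hcS]; norm_num
    rw [Finite.one_lt_card_iff_nontrivial] at h1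
    obtain ⟨⟨z, hz⟩, hne⟩ := exists_ne (1 : Om S)
    exact ⟨z, hz, fun hh => hne (Subtype.ext hh)⟩
  -- the last step of the walk
  obtain ⟨j', g₁, y, w', hy, hj, hg⟩ : ∃ (j' : Bool) (g₁ y : G), Wk H n i j' g₁ ∧ y ∈ H j' ∧ j = (!j') ∧ g = g₁ * y := by
    cases w with
    | one => omega
    | step w' hh => exact ⟨_, _, _, w', hh, rfl, rfl⟩
  have claim : ∀ x ∈ H i, x ∉ S → ∃ v ∈ Om (U (!i)), (x⁻¹ * g₁)⁻¹ * v * (x⁻¹ * g₁) ∉ U j' := by
    intro x hx hxS
    by_contra hcon
    push Not at hcon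
    have hcon' : ∀ v ∈ Om (U (!i)), g⁻¹ * (x * v * x⁻¹) * g ∈ S := by
      intro v hv
      have h1 := conj_mem_U (h j') hy (hcon v hv)
      have : g⁻¹ * (x * v * x⁻¹) * g = y⁻¹ * ((x⁻¹ * g₁)⁻¹ * v * (x⁻¹ * g₁)) * y := by rw [hg]; group
      rw [this]
      exact (h j').US h1
    have hzi : ∀ i, z ∈ Om (U i) := fun i => Om_S_le hS (h i) (hV i) hzS
    -- the subgroup of elements with conjugate in `U j`
    let M : Subgroup G := (U j).comap (MulAut.conj g⁻¹).toMonoidHom
    have hM : ∀ m, m ∈ M ↔ g⁻¹ * m * g ∈ U j := by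
      intro m
      rw [Subgroup.mem_comap]
      simp [MulAut.conj_apply]
    have hzM : z ∈ M := by rw [hM, hz z hzS]; exact (hzi j).1
    have hstar : g⁻¹ * (x * z * x⁻¹) * g ∉ U j := by
      intro hcon2
      have hle := V_gen hS (h i) (hV i) (h4 i) hzS hz1 hx hxS hzM ((hM _).2 hcon2)
      obtain ⟨a, ha, hag⟩ := hcr
      exact hag ((hM a).1 (hle ha))
    -- an element `w₀`
    obtain ⟨w₀, hw₀, hw1, hwz, hwU⟩ : ∃ w₀ ∈ Om (U (!i)), w₀ ≠ 1 ∧ w₀ ≠ z ∧ g⁻¹ * (x * w₀ * x⁻¹) * g ∈ U j := by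
      obtain ⟨t, htH, ht3, -⟩ := (h (!i)).k
      have htS := k_not_mem hS ht3
      have hv2 : t * z * t⁻¹ ∈ Om (U (!i)) := conj_mem_V (h (!i)) htH (hzi _)
      have hv2z : t * z * t⁻¹ ≠ z := by
        intro hh
        exact htS (cent_z hS (h (!i)) (hV (!i)) hzS hz1 htH (mul_inv_eq_iff_eq_mul.1 hh))
      have hv21 : t * z * t⁻¹ ≠ 1 := by
        intro hh
        apply hz1
        have := mul_inv_eq_one.1 hh
        exact (mul_eq_left (a := t)).1 this
      by_cases hcase : g⁻¹ * (x * (t * z * t⁻¹) * x⁻¹) * g ∈ U j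
      · exact ⟨_, hv2, hv21, hv2z, hcase⟩
      · have h1 := S_cases (h j) (hcon' _ hv2) hcase (hcon' z (hzi _))
        rcases h1 with h1 | h1
        · exact (hstar h1).elim
        · refine ⟨z * (t * z * t⁻¹)⁻¹, (Om _).mul_mem (hzi _) ((Om _).inv_mem hv2), ?_, ?_, ?_⟩
          · intro hh
            exact hv2z (mul_inv_eq_one.1 hh).symm
          · intro hh
            apply hv21
            have : (t * z * t⁻¹)⁻¹ = 1 := (mul_eq_left (a := z)).1 hh
            exact inv_eq_one.1 this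
          · have : g⁻¹ * (x * (z * (t * z * t⁻¹)⁻¹) * x⁻¹) * g =
                (g⁻¹ * (x * z * x⁻¹) * g) * (g⁻¹ * (x * (t * z * t⁻¹) * x⁻¹) * g)⁻¹ := by group
            rw [this]
            exact h1
    -- the element `v`
    have hvS : g * wj * g⁻¹ ∈ S := (h (!i)).US (hC2 w wj hwj)
    have hyS : x⁻¹ * (g * wj * g⁻¹) * x ∉ S := not_conj (h i) hx hxS hvS hvU
    have hyH : x⁻¹ * (g * wj * g⁻¹) * x ∈ H i :=
      (H i).mul_mem ((H i).mul_mem ((H i).inv_mem hx) ((h i).SH hvS)) hx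
    have hyw : (x⁻¹ * (g * wj * g⁻¹) * x) * w₀ = w₀ * (x⁻¹ * (g * wj * g⁻¹) * x) := by
      have h1 := hwj.2.2 _ hwU
      calc (x⁻¹ * (g * wj * g⁻¹) * x) * w₀ = x⁻¹ * g * (wj * (g⁻¹ * (x * w₀ * x⁻¹) * g)) * g⁻¹ * x := by group
        _ = x⁻¹ * g * ((g⁻¹ * (x * w₀ * x⁻¹) * g) * wj) * g⁻¹ * x := by rw [h1]
        _ = _ := by group
    generalize x⁻¹ * (g * wj * g⁻¹) * x = y₀ at hyS hyH hyw
    by_cases hwi : w₀ ∈ Om (U i)
    · -- the two groups `V` are equal
      have h1 : Om (U (!i)) ≤ Om (U i) := gen4 (h4 (!i)) hw₀ (hzi _) hw1 hz1 hwz hwi (hzi i)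
      have h2 : Om (U (!i)) = Om (U i) := Subgroup.eq_of_le_of_card_ge h1 (by rw [h4, h4])
      refine hNC (Om (U i)) (hV i) (fun v hv => (h i).US hv.1) ?_
      intro l g' hg' t ht
      by_cases hl : l = i
      · subst hl
        exact conj_mem_V (h l) hg' ht
      · have hl' : l = !i := by cases l <;> cases i <;> simp_all
        subst hl'
        rw [← h2] at ht ⊢
        exact conj_mem_V (h (!i)) hg' ht
    · -- the subgroup `Y = V ∪ V w₀`
      have hw₀U : w₀ ∈ U i := by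
        have := hb1 (!i) hw₀
        simpa using this
      have hww : w₀ * w₀ = 1 := hw₀.2.1
      let Y : Subgroup G :=
        { carrier := {m | m ∈ Om (U i) ∨ m * w₀ ∈ Om (U i)}
          one_mem' := Or.inl (Om (U i)).one_mem
          mul_mem' := by
            rintro a b (ha | ha) (hb | hb)
            · exact Or.inl ((Om (U i)).mul_mem ha hb)
            · right; rw [mul_assoc]; exact (Om (U i)).mul_mem ha hb
            · right
              have h1 := hb.2.2 _ hw₀U
              have : a * b * w₀ = (a * w₀) * b := by rw [mul_assoc, mul_assoc, h1]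
              rw [this]
              exact (Om (U i)).mul_mem ha hb
            · left
              have h1 := hb.2.2 _ hw₀U
              have : a * b = (a * w₀) * (b * w₀) := by
                have h2 : b = (b * w₀) * w₀ := by rw [mul_assoc, hww, mul_one]
                calc a * b = a * ((b * w₀) * w₀) := by rw [← h2]
                  _ = a * (w₀ * (b * w₀)) := by rw [h1]
                  _ = _ := by group
              rw [this]
              exact (Om (U i)).mul_mem ha hb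
          inv_mem' := by
            rintro a (ha | ha)
            · exact Or.inl ((Om (U i)).inv_mem ha)
            · right
              have h1 := ((Om (U i)).inv_mem ha).2.2 _ hw₀U
              have h2 : a⁻¹ = w₀ * (a * w₀)⁻¹ := by group
              have h3 : a⁻¹ * w₀ = (a * w₀)⁻¹ := by
                rw [h2, ← h1, mul_assoc, hww, mul_one]
              rw [h3]
              exact (Om (U i)).inv_mem ha }
      have hVY : Om (U i) ≤ Y := fun a ha => Or.inl ha
      have hwY : w₀ ∈ Y := Or.inr (by rw [hww]; exact (Om (U i)).one_mem)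
      have hV'Y : Om (U (!i)) ≤ Y := gen4 (h4 (!i)) hw₀ (hzi _) hw1 hz1 hwz hwY (hVY (hzi i))
      -- elements of `H i` moving `w₀` into `Y` normalize `Y`
      have hnorm : ∀ q ∈ H i, q * w₀ * q⁻¹ ∈ Y → ∀ m ∈ Y, q * m * q⁻¹ ∈ Y := by
        intro q hq hqw m hm
        rcases hm with hm | hm
        · exact hVY (conj_mem_V (h i) hq hm)
        · have : q * m * q⁻¹ = (q * (m * w₀) * q⁻¹) * (q * w₀ * q⁻¹)⁻¹ := by group
          rw [this]
          exact Y.mul_mem (hVY (conj_mem_V (h i) hq hm)) (Y.inv_mem hqw)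
      have hSN : S ≤ Subgroup.normalizer (Y : Set G) ⊓ H i := by
        intro s hs
        refine ⟨mem_norm_of (hnorm s ((h i).SH hs) ?_), (h i).SH hs⟩
        exact hV'Y (conj_mem_V (h (!i)) ((h (!i)).SH hs) hw₀)
      have hyN : y₀ ∈ Subgroup.normalizer (Y : Set G) ⊓ H i := by
        refine ⟨mem_norm_of (hnorm y₀ hyH ?_), hyH⟩
        rw [hyw, mul_inv_cancel_right]
        exact hwY
      have htop : Subgroup.normalizer (Y : Set G) ⊓ H i = H i := by
        rcases max (h i) hSN inf_le_right with h1 | h1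
        · exfalso
          rw [h1] at hyN
          exact hyS hyN
        · exact h1
      obtain ⟨k, hkH, hk3, hfix⟩ := (h i).k
      have hkN : k ∈ Subgroup.normalizer (Y : Set G) := by
        have : k ∈ Subgroup.normalizer (Y : Set G) ⊓ H i := by rw [htop]; exact hkH
        exact this.1
      have hkw : k * w₀ * k⁻¹ ∈ Y := (Subgroup.mem_normalizer_iff.1 hkN w₀).1 hwY
      rcases hkw with hkw | hkw
      · apply hwi
        have := conj_mem_V' (h i) hkH hkw
        have h2 : k⁻¹ * (k * w₀ * k⁻¹) * k = w₀ := by group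
        rwa [h2] at this
      · -- the map `b ↦ b⁻¹ k b k⁻¹` is surjective on `V`
        have hmap : ∀ b : Om (U i), (b : G)⁻¹ * (k * b * k⁻¹) ∈ Om (U i) := fun b =>
          (Om (U i)).mul_mem ((Om (U i)).inv_mem b.2) (conj_mem_V (h i) hkH b.2)
        have hinj : Function.Injective (fun b : Om (U i) => (⟨(b : G)⁻¹ * (k * b * k⁻¹), hmap b⟩ : Om (U i))) := by
          intro b c hbc
          have h1 : (b : G)⁻¹ * (k * b * k⁻¹) = (c : G)⁻¹ * (k * c * k⁻¹) := congrArg Subtype.val hbc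
          -- `b c⁻¹` commutes with `k`
          have hbc1 := b.2.2.2 _ c.2.1
          have h2 : k * ((b : G) * (c : G)⁻¹) * k⁻¹ = (b : G) * (c : G)⁻¹ := by
            have h3 : k * (b : G) * k⁻¹ = b * ((c : G)⁻¹ * (k * c * k⁻¹)) := by rw [← h1]; group
            have h5 : (k * (c : G) * k⁻¹)⁻¹ = k * (c : G)⁻¹ * k⁻¹ := by group
            calc k * ((b : G) * (c : G)⁻¹) * k⁻¹ = (k * b * k⁻¹) * (k * (c : G) * k⁻¹)⁻¹ := by group
              _ = (b * ((c : G)⁻¹ * (k * c * k⁻¹))) * (k * (c : G) * k⁻¹)⁻¹ := by rw [h3]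
              _ = _ := by group
          have h3 : (b : G) * (c : G)⁻¹ = 1 := by
            apply hfix
            · exact (U i).mul_mem b.2.1 ((U i).inv_mem c.2.1)
            · exact (mul_inv_eq_iff_eq_mul.1 h2).symm
          exact Subtype.ext (mul_inv_eq_one.1 h3)
        obtain ⟨b, hb⟩ := (Finite.injective_iff_surjective.1 hinj) ⟨k * w₀ * k⁻¹ * w₀, hkw⟩
        have hb' : (b : G)⁻¹ * (k * b * k⁻¹) = k * w₀ * k⁻¹ * w₀ := congrArg Subtype.val hb
        have hbw := b.2.2.2 _ hw₀U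
        have h1 : k * ((b : G) * w₀) * k⁻¹ = (b : G) * w₀ := by
          have h2 : k * (b : G) * k⁻¹ = b * (k * w₀ * k⁻¹ * w₀) := by rw [← hb']; group
          have h3 : (k * w₀ * k⁻¹) * (k * w₀ * k⁻¹) = 1 := by
            calc (k * w₀ * k⁻¹) * (k * w₀ * k⁻¹) = k * (w₀ * w₀) * k⁻¹ := by group
              _ = 1 := by rw [hww]; group
          have h4' : k * w₀ * k⁻¹ * w₀ = w₀ * (k * w₀ * k⁻¹) := by
            have h5 : k * w₀ * k⁻¹ * w₀ ∈ Om (U i) := hkw
            have h6 := h5.2.1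
            have h7 : (k * w₀ * k⁻¹ * w₀)⁻¹ = k * w₀ * k⁻¹ * w₀ := inv_eq_of_mul_eq_one_left h6
            have h8 : w₀⁻¹ = w₀ := inv_eq_of_mul_eq_one_left hww
            calc k * w₀ * k⁻¹ * w₀ = (k * w₀ * k⁻¹ * w₀)⁻¹ := h7.symm
              _ = w₀⁻¹ * (k * w₀⁻¹ * k⁻¹) := by group
              _ = _ := by rw [h8]
          calc k * ((b : G) * w₀) * k⁻¹ = (k * b * k⁻¹) * (k * w₀ * k⁻¹) := by group
            _ = (b * (w₀ * (k * w₀ * k⁻¹))) * (k * w₀ * k⁻¹) := by rw [h2, h4']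
            _ = b * w₀ * ((k * w₀ * k⁻¹) * (k * w₀ * k⁻¹)) := by group
            _ = _ := by rw [h3, mul_one]
        have h2 : (b : G) * w₀ = 1 := by
          apply hfix
          · exact (U i).mul_mem b.2.1 hw₀U
          · exact (mul_inv_eq_iff_eq_mul.1 h1).symm
        apply hwi
        have h3 : w₀ = (b : G)⁻¹ := (inv_eq_of_mul_eq_one_right h2).symm
        rw [h3]
        exact (Om (U i)).inv_mem b.2
  -- conclusion: use `k` and `k²`
  have key : ∀ x ∈ H i, x ∉ S → g₁ * z * g₁⁻¹ = x * z * x⁻¹ := by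
    intro x hx hxS
    obtain ⟨v, hv, hvn⟩ := claim x hx hxS
    have wx : Wk H (n + 1) (!i) j' (x⁻¹ * g₁) := w'.pre ((H i).inv_mem hx)
    have h1 := (crit hS h hV (wx.c1 h hn hcn) (hC2 wx) ⟨v, hv, hvn⟩).2.2 z hzS
    calc g₁ * z * g₁⁻¹ = g₁ * ((x⁻¹ * g₁)⁻¹ * z * (x⁻¹ * g₁)) * g₁⁻¹ := by rw [h1]
      _ = x * z * x⁻¹ := by group
  obtain ⟨k, hkH, hk3, hfix⟩ := (h i).k
  have hkS := k_not_mem hS hk3
  have hkiS : k⁻¹ ∉ S := fun hh => hkS (by have := S.inv_mem hh; rwa [inv_inv] at this)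
  have h1 := key k hkH hkS
  have h2 := key k⁻¹ ((H i).inv_mem hkH) hkiS
  rw [h1, inv_inv] at h2
  -- `k² z = z k²`
  have h3 : (k * k) * z = z * (k * k) := by
    calc (k * k) * z = k * (k * z * k⁻¹) * k := by group
      _ = k * (k⁻¹ * z * k) * k := by rw [h2]
      _ = _ := by group
  have hkk : k * k ∉ S := by
    intro hh
    apply hkiS
    have : k⁻¹ = k * k := by
      apply inv_eq_of_mul_eq_one_right
      have := pow_orderOf_eq_one k
      rw [hk3] at this
      calc k * (k * k) = k ^ 3 := by rw [pow_succ, pow_two, mul_assoc]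
        _ = 1 := this
    rw [this]; exact hh
  exact hkk (cent_z hS (h i) (hV i) hzS hz1 ((H i).mul_mem hkH hkH) h3)
end walk

end Cfsg.Agent.Lib.H35Gam2
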