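import Cfsg.Agent.Lib.ChainCard

/-!
An abstract simplicity criterion for groups of the order of the fourth Janko group (helper57).
-/

set_option autoImplicit false

namespace Cfsg.Agent.Lib.J4Abs

open Cfsg.Agent.Lib.ChainCard

variable {G : Type*} [Group G]

theorem com {x y : G} : x ∈ Subgroup.centralizer {y} ↔ x * y = y * x := by
  exact Subgroup.mem_centralizer_singleton_iff

/-- elements of prime order in normal subgroups of coprime index -/
theorem mem_of_pow [Finite G] {N : Subgroup G} (hN : N.Normal) {r : ℕ} (hr : r.Prime) (h1 : r ∣ Nat.card N) (h2 : ¬ r * r ∣ Nat.card G) {a : G}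
    (ha : a ^ r = 1) : a ∈ N := by
  have h3 : ¬ r ∣ N.index := by
    intro h
    exact h2 (by rw [← Subgroup.card_mul_index N]; exact Nat.mul_dvd_mul h1 h)
  have h4 : (QuotientGroup.mk a : G ⧸ N) ^ r = 1 := by
    rw [← QuotientGroup.mk_pow, ha, QuotientGroup.mk_one]
  rcases (Nat.dvd_prime hr).1 (orderOf_dvd_of_pow_eq_one h4) with h5 | h5
  · exact (QuotientGroup.eq_one_iff a).1 (orderOf_eq_one_iff.1 h5)
  · exfalso
    apply h3
    rw [← h5]
    exact orderOf_dvd_natCard _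

/-- simple subgroups and normal subgroups -/
theorem le_of_mem {P N : Subgroup G} (hP : IsSimpleGroup P) (hN : P ≤ Subgroup.normalizer (N : Set G)) {y : G} (hy : y ∈ P) (hy1 : y ≠ 1) (hyN : y ∈ N) : P ≤ N := by
  haveI : (N.subgroupOf P).Normal := by
    constructor
    intro a ha g
    rw [Subgroup.mem_subgroupOf] at ha ⊢
    exact (Subgroup.mem_normalizer_iff.1 (hN g.2) _).1 ha
  rcases IsSimpleGroup.eq_bot_or_eq_top_of_normal (N.subgroupOf P) this with h | h
  · exfalso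
    have h1 : (⟨y, hy⟩ : P) ∈ N.subgroupOf P := by rw [Subgroup.mem_subgroupOf]; exact hyN
    rw [h, Subgroup.mem_bot] at h1
    exact hy1 (congrArg Subtype.val h1)
  · exact Subgroup.subgroupOf_eq_top.1 h

theorem inf_eq_bot {P N : Subgroup G} (hP : IsSimpleGroup P) (hN : P ≤ Subgroup.normalizer (N : Set G)) (h : ¬ P ≤ N) : N ⊓ P = ⊥ := by
  rw [eq_bot_iff]
  intro y hy
  by_contra h1
  exact h (le_of_mem hP hN hy.2 (fun h2 => h1 (by rw [h2]; exact Subgroup.one_mem _)) hy.1)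

/-- the data -/
structure Data (G : Type*) [Group G] where
  P : Subgroup G
  V : Subgroup G
  hPs : IsSimpleGroup P
  hPc : Nat.card P = 244823040
  hVP : P ≤ Subgroup.normalizer (V : Set G)
  hV2 : ∀ v ∈ V, v * v = 1
  hVc : Nat.card V = 2 ^ 11
  g : G
  hgP : g ∈ P
  hg : g ^ 23 = 1
  h : G
  hh : h ∈ V
  hgh : g * h ≠ h * g
  hgen : ∀ N : Subgroup G, N.Normal → P ≤ N → N = ⊤
  y : G
  hy : y ∈ P
  hy1 : y ≠ 1
  h29 : ∃ a : G, a ^ 29 = 1 ∧ (y * a) ^ 29 = 1
  h31 : ∃ a : G, a ^ 31 = 1 ∧ (y * a) ^ 31 = 1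
  h37 : ∃ a : G, a ^ 37 = 1 ∧ (y * a) ^ 37 = 1
  h43 : ∃ a : G, a ^ 43 = 1 ∧ (y * a) ^ 43 = 1
  hh43 : ∃ w v : G, (h * (w⁻¹ * h * w) * (v⁻¹ * h * v)) ^ 43 = 1 ∧ h * (w⁻¹ * h * w) * (v⁻¹ * h * v) ≠ 1
  s : G
  u : G
  c : G
  hs : s ^ 11 = 1
  hu : u ^ 11 = 1
  hc11 : c ^ 11 = 1
  hsu : s * u = u * (s * c)
  hcs : s * c = c * s
  hcu : u * c = c * u
  hc1 : c ≠ 1
  hc31 : ∃ w : G, (c * (w⁻¹ * c * w)) ^ 31 = 1 ∧ c * (w⁻¹ * c * w) ≠ 1

namespace Data

variable (D : Data G)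
include D

theorem ab {a b : G} (ha : a ∈ D.V) (hb : b ∈ D.V) : a * b = b * a := by
  have h1 := D.hV2 (a * b) (D.V.mul_mem ha hb)
  have h2 := D.hV2 a ha
  have h3 := D.hV2 b hb
  calc a * b = a * (a * b * (a * b)) * b := by rw [h1, mul_one]
    _ = (a * a) * b * a * (b * b) := by group
    _ = b * a := by rw [h2, h3, one_mul, mul_one]

/-- normal subgroups are normalised by everything -/
theorem le_norm {N : Subgroup G} (hN : N.Normal) (K : Subgroup G) : K ≤ Subgroup.normalizer (N : Set G) := by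
  haveI := hN
  exact Subgroup.le_normalizer_of_normal

theorem g_ne : D.g ≠ 1 := by
  intro h
  apply D.hgh
  rw [h, one_mul, mul_one]

/-- divisibility by a large prime forces everything -/
theorem top_of [Finite G] (hG : Nat.card G = 86775571046077562880) {N : Subgroup G} (hN : N.Normal) {r : ℕ} (hr : r = 29 ∨ r = 31 ∨ r = 37 ∨ r = 43)
    (h : r ∣ Nat.card N) : N = ⊤ := by
  apply D.hgen N hN
  apply le_of_mem D.hPs (le_norm D hN _) D.hy D.hy1
  have key : ∀ r, r.Prime → r ∣ Nat.card N → ¬ r * r ∣ Nat.card G → (∃ a : G, a ^ r = 1 ∧ (D.y * a) ^ r = 1) → D.y ∈ N := by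
    intro r hr h1 h2 ⟨a, ha, hb⟩
    have h3 := mem_of_pow hN hr h1 h2 ha
    have h4 := mem_of_pow hN hr h1 h2 hb
    have h5 := N.mul_mem h4 (N.inv_mem h3)
    rwa [mul_inv_cancel_right] at h5
  rcases hr with rfl | rfl | rfl | rfl
  · exact key 29 (by norm_num) h (by rw [hG]; norm_num) D.h29
  · exact key 31 (by norm_num) h (by rw [hG]; norm_num) D.h31
  · exact key 37 (by norm_num) h (by rw [hG]; norm_num) D.h37
  · exact key 43 (by norm_num) h (by rw [hG]; norm_num) D.h43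

theorem cvg [Finite G] {W : Subgroup G} (hW : W ≤ D.V) (hn : D.g ∈ Subgroup.normalizer (W : Set G)) : W = ⊥ ∨ W = D.V := by
  have hgV : D.g ∈ Subgroup.normalizer (D.V : Set G) := D.hVP D.hgP
  obtain ⟨b, hb, hb2⟩ := fix_23 D.hg hgV D.hVc D.hh D.hgh
  have hb0 : b = 0 := by omega
  subst hb0
  have h1 : (W ⊓ Subgroup.centralizer {D.g} : Subgroup G) = ⊥ := by
    rw [eq_bot_iff]
    have h2 : (D.V ⊓ Subgroup.centralizer {D.g} : Subgroup G) = ⊥ := by
      rw [← Subgroup.card_eq_one, hb, pow_zero]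
    rw [← h2]
    exact inf_le_inf_right _ hW
  have h3 : Nat.card W ∣ 2 ^ 11 := by rw [← D.hVc]; exact Subgroup.card_dvd_of_le hW
  obtain ⟨a, ha, ha2⟩ := (Nat.dvd_prime_pow Nat.prime_two).1 h3
  haveI : Fact (Nat.Prime 23) := ⟨by norm_num⟩
  have h4 := fix_mod (q := 23) W D.g D.hg hn
  rw [h1, Subgroup.card_bot, ha2] at h4
  by_cases h5 : a = 0
  · left
    rw [← Subgroup.card_eq_one, ha2, h5, pow_zero]
  · right
    apply Subgroup.eq_of_le_of_card_ge hW
    rw [ha2, D.hVc]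
    by_contra h6
    have h7 : a < 11 := by
      by_contra h8
      exact h6 (Nat.pow_le_pow_right (by norm_num) (by omega))
    exact two_23 a h7 h5 h4

theorem card_V_P [Finite G] : D.V ⊓ D.P = ⊥ := by
  apply inf_eq_bot D.hPs D.hVP
  intro h
  have h1 := Subgroup.card_dvd_of_le h
  rw [D.hPc, D.hVc] at h1
  revert h1
  norm_num

/-- a normal subgroup that meets `P` trivially -/
theorem dvd_P [Finite G] (hG : Nat.card G = 86775571046077562880) {N : Subgroup G} (hN : N.Normal) (hN1 : N ≠ ⊤) : N ⊓ D.P = ⊥ :=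
  inf_eq_bot D.hPs (le_norm D hN _) (fun h => hN1 (D.hgen N hN h))

theorem not_h [Finite G] (hG : Nat.card G = 86775571046077562880) {N : Subgroup G} (hN : N.Normal) (hN1 : N ≠ ⊤) : D.h ∉ N := by
  intro h
  obtain ⟨w, v, h1, h2⟩ := D.hh43
  have h3 : ∀ w : G, w⁻¹ * D.h * w ∈ N := fun w => by
    have := hN.conj_mem _ h w⁻¹
    rwa [inv_inv] at this
  have h4 : D.h * (w⁻¹ * D.h * w) * (v⁻¹ * D.h * v) ∈ N := N.mul_mem (N.mul_mem h (h3 w)) (h3 v)
  haveI : Fact (Nat.Prime 43) := ⟨by norm_num⟩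
  have h5 := orderOf_eq_prime h1 h2
  apply hN1
  apply D.top_of hG hN (r := 43) (by simp)
  rw [← h5]
  exact Subgroup.orderOf_dvd_natCard N h4

theorem not_c [Finite G] (hG : Nat.card G = 86775571046077562880) {N : Subgroup G} (hN : N.Normal) (hN1 : N ≠ ⊤) : D.c ∉ N := by
  intro h
  obtain ⟨w, h1, h2⟩ := D.hc31
  have h3 : ∀ w : G, w⁻¹ * D.c * w ∈ N := fun w => by
    have := hN.conj_mem _ h w⁻¹
    rwa [inv_inv] at this
  have h4 : D.c * (w⁻¹ * D.c * w) ∈ N := N.mul_mem h (h3 w)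
  haveI : Fact (Nat.Prime 31) := ⟨by norm_num⟩
  have h5 := orderOf_eq_prime h1 h2
  apply hN1
  apply D.top_of hG hN (r := 31) (by simp)
  rw [← h5]
  exact Subgroup.orderOf_dvd_natCard N h4

theorem V_inf [Finite G] (hG : Nat.card G = 86775571046077562880) {N : Subgroup G} (hN : N.Normal) (hN1 : N ≠ ⊤) : D.V ⊓ N = ⊥ := by
  have hn : D.g ∈ Subgroup.normalizer ((D.V ⊓ N : Subgroup G) : Set G) := by
    rw [Subgroup.mem_normalizer_iff]
    intro x
    have h1 := Subgroup.mem_normalizer_iff.1 (D.hVP D.hgP) x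
    have h2 := Subgroup.mem_normalizer_iff.1 (le_norm D hN ⊤ (Subgroup.mem_top D.g)) x
    rw [Subgroup.mem_inf, Subgroup.mem_inf]
    exact and_congr h1 h2
  rcases D.cvg inf_le_left hn with h | h
  · exact h
  · exfalso
    apply D.not_h hG hN hN1
    have : D.h ∈ D.V ⊓ N := by rw [h]; exact D.hh
    exact this.2

theorem mem_VP {n : G} (hn : n ∈ D.V ⊔ D.P) : ∃ v ∈ D.V, ∃ p ∈ D.P, v * p = n := by
  have h1 := Subgroup.coe_mul_of_right_le_normalizer_left D.V D.P D.hVP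
  have h2 : n ∈ ((D.V ⊔ D.P : Subgroup G) : Set G) := hn
  rw [h1] at h2
  obtain ⟨v, hv, p, hp, h⟩ := Set.mem_mul.1 h2
  exact ⟨v, hv, p, hp, h⟩

theorem K_inf [Finite G] (hG : Nat.card G = 86775571046077562880) {N : Subgroup G} (hN : N.Normal) (hN1 : N ≠ ⊤) : N ⊓ (D.V ⊔ D.P) = ⊥ := by
  have h0 := D.V_inf hG hN hN1
  rw [eq_bot_iff]
  intro n hn
  rw [Subgroup.mem_bot]
  obtain ⟨v, hv, p, hp, rfl⟩ := D.mem_VP hn.2
  have hcomm : ∀ a ∈ D.V, v * p * a = a * (v * p) := by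
    intro a ha
    have h1 : v * p * a * (v * p)⁻¹ * a⁻¹ ∈ D.V ⊓ N := by
      constructor
      · apply D.V.mul_mem _ (D.V.inv_mem ha)
        have h2 : v * p ∈ Subgroup.normalizer (D.V : Set G) := (sup_le Subgroup.le_normalizer D.hVP : D.V ⊔ D.P ≤ _) hn.2
        exact (Subgroup.mem_normalizer_iff.1 h2 a).1 ha
      · have h3 : v * p * a * (v * p)⁻¹ * a⁻¹ = v * p * (a * (v * p)⁻¹ * a⁻¹) := by group
        rw [h3]
        exact N.mul_mem hn.1 (hN.conj_mem _ (N.inv_mem hn.1) a)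
    rw [h0, Subgroup.mem_bot, mul_inv_eq_one, mul_inv_eq_iff_eq_mul] at h1
    exact h1
  have hp1 : p = 1 := by
    by_contra hp1
    have h4 : p ∈ Subgroup.centralizer (D.V : Set G) := by
      rw [Subgroup.mem_centralizer_iff]
      intro a ha
      have h5 := hcomm a ha
      have h6 := D.ab hv ha
      have h7 : v * (p * a) = v * (a * p) := by
        rw [← mul_assoc, h5, ← mul_assoc, ← mul_assoc, h6]
      exact (mul_left_cancel h7).symm
    have h8 : D.P ≤ Subgroup.normalizer ((Subgroup.centralizer (D.V : Set G) : Subgroup G) : Set G) := by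
      rw [Subgroup.le_normalizer_iff]
      intro q hq k hk
      rw [Subgroup.mem_centralizer_iff] at hk ⊢
      intro a ha
      have h9 : q⁻¹ * a * q ∈ D.V := by
        have := (Subgroup.mem_normalizer_iff.1 (D.hVP (D.P.inv_mem hq)) a).1 ha
        rwa [inv_inv] at this
      have h10 := hk _ h9
      calc a * (q * k * q⁻¹) = q * ((q⁻¹ * a * q) * k) * q⁻¹ := by group
        _ = q * (k * (q⁻¹ * a * q)) * q⁻¹ := by rw [h10]
        _ = q * k * q⁻¹ * a := by group
    have h11 := le_of_mem D.hPs h8 hp hp1 h4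
    have h12 := Subgroup.mem_centralizer_iff.1 (h11 D.hgP) D.h D.hh
    exact D.hgh h12.symm
  rw [hp1, mul_one] at hn ⊢
  have h13 : v ∈ D.V ⊓ N := ⟨hv, hn.1⟩
  rwa [h0, Subgroup.mem_bot] at h13

/-- the order of a proper normal subgroup divides 121 -/
theorem card_N [Finite G] (hG : Nat.card G = 86775571046077562880) {N : Subgroup G} (hN : N.Normal) (hN1 : N ≠ ⊤) : Nat.card N ∣ 11 ^ 2 := by
  have h1 := mul_dvd (le_norm D hN (D.V ⊔ D.P)) (D.K_inf hG hN hN1)
  have h2 := mul_dvd_sup D.hVP D.card_V_P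
  have h3 : Nat.card N * (2 ^ 11 * 244823040) ∣ 173067389 * (2 ^ 11 * 244823040) := by
    have h4 := (Nat.mul_dvd_mul_left (Nat.card N) h2).trans h1
    rw [D.hPc, D.hVc, hG] at h4
    exact h4
  have h4 : Nat.card N ∣ 173067389 := Nat.dvd_of_mul_dvd_mul_right (by norm_num) h3
  have key : ∀ r, (r = 29 ∨ r = 31 ∨ r = 37 ∨ r = 43) → Nat.Coprime (Nat.card N) r := by
    intro r hr
    have hp : r.Prime := by rcases hr with rfl | rfl | rfl | rfl <;> norm_num
    rw [Nat.coprime_comm]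
    exact (Nat.Prime.coprime_iff_not_dvd hp).2 (fun h => hN1 (D.top_of hG hN hr h))
  have h5 : (173067389 : ℕ) = 11 ^ 2 * 29 * 31 * 37 * 43 := by norm_num
  rw [h5] at h4
  exact Nat.Coprime.dvd_of_dvd_mul_right (key 29 (by simp)) (Nat.Coprime.dvd_of_dvd_mul_right (key 31 (by simp))
    (Nat.Coprime.dvd_of_dvd_mul_right (key 37 (by simp)) (Nat.Coprime.dvd_of_dvd_mul_right (key 43 (by simp)) h4)))

/-- a proper normal subgroup is central -/
theorem central [Finite G] (hG : Nat.card G = 86775571046077562880) {N : Subgroup G} (hN : N.Normal) (hN1 : N ≠ ⊤) :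
    ∀ n ∈ N, ∀ x : G, n * x = x * n := by
  haveI : Fact (Nat.Prime 23) := ⟨by norm_num⟩
  have h1 := D.card_N hG hN hN1
  have hgN : D.g ∈ Subgroup.normalizer (N : Set G) := le_norm D hN ⊤ (Subgroup.mem_top _)
  have h2 := fix_mod (q := 23) N D.g D.hg hgN
  have h3 : Nat.card (N ⊓ Subgroup.centralizer {D.g} : Subgroup G) ∣ Nat.card N := Subgroup.card_dvd_of_le inf_le_left
  obtain ⟨a, ha, ha2⟩ := (Nat.dvd_prime_pow (by norm_num : Nat.Prime 11)).1 h1
  rw [ha2] at h3
  obtain ⟨b, hb, hb2⟩ := (Nat.dvd_prime_pow (by norm_num : Nat.Prime 11)).1 h3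
  rw [ha2, hb2] at h2
  have h4 : a = b := by
    interval_cases a <;> interval_cases b <;> first | rfl | (exfalso; revert h2; decide)
  have h5 : (N ⊓ Subgroup.centralizer {D.g} : Subgroup G) = N := by
    apply Subgroup.eq_of_le_of_card_ge inf_le_left
    rw [ha2, hb2, h4]
  have h6 : D.g ∈ Subgroup.centralizer (N : Set G) := by
    rw [Subgroup.mem_centralizer_iff]
    intro n hn
    have h7 : n ∈ (N ⊓ Subgroup.centralizer {D.g} : Subgroup G) := by rw [h5]; exact hn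
    exact com.1 h7.2
  have h8 : (Subgroup.centralizer (N : Set G)).Normal := by
    constructor
    intro k hk q
    rw [Subgroup.mem_centralizer_iff] at hk ⊢
    intro a ha
    have h9 : q⁻¹ * a * q ∈ N := by
      have := hN.conj_mem _ ha q⁻¹
      rwa [inv_inv] at this
    have h10 := hk _ h9
    calc a * (q * k * q⁻¹) = q * ((q⁻¹ * a * q) * k) * q⁻¹ := by group
      _ = q * (k * (q⁻¹ * a * q)) * q⁻¹ := by rw [h10]
      _ = q * k * q⁻¹ * a := by group
  have h9 : D.P ≤ Subgroup.centralizer (N : Set G) := le_of_mem D.hPs (le_norm D h8 _) D.hgP D.g_ne h6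
  have h10 := D.hgen _ h8 h9
  intro n hn x
  have h11 : x ∈ Subgroup.centralizer (N : Set G) := by rw [h10]; exact Subgroup.mem_top x
  exact Subgroup.mem_centralizer_iff.1 h11 n hn

/-- the simplicity criterion -/
theorem simple [Finite G] (hG : Nat.card G = 86775571046077562880) : IsSimpleGroup G := by
  haveI : Fact (Nat.Prime 11) := ⟨by norm_num⟩
  haveI : Nontrivial G := ⟨⟨D.g, 1, D.g_ne⟩⟩
  refine ⟨fun N hN => ?_⟩
  by_contra hcon
  rw [not_or] at hcon
  obtain ⟨hb, hN1⟩ := hcon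
  obtain ⟨n, hn, hn1⟩ := (Subgroup.ne_bot_iff_exists_ne_one.1 hb : _) |> fun ⟨a, ha⟩ => (⟨a.1, a.2, fun h => ha (Subtype.ext h)⟩ : ∃ n : G, n ∈ N ∧ n ≠ 1)
  have hz := D.central hG hN hN1 n hn
  have h1 : n ^ 11 ^ 2 = 1 := by
    have h2 : orderOf n ∣ 11 ^ 2 := (Subgroup.orderOf_dvd_natCard N hn).trans (D.card_N hG hN hN1)
    exact orderOf_dvd_iff_pow_eq_one.1 h2
  have hoc : orderOf D.c = 11 := orderOf_eq_prime D.hc11 D.hc1
  have hcc : Nat.card (Subgroup.zpowers D.c) = 11 := by rw [Nat.card_zpowers, hoc]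
  have hnc : n ∉ Subgroup.zpowers D.c := by
    intro h
    obtain ⟨k, hk⟩ := Subgroup.mem_zpowers_iff.1 h
    apply D.not_c hG hN hN1
    have h3 : Subgroup.zpowers n ≤ Subgroup.zpowers D.c := Subgroup.zpowers_le.2 h
    have h4 : Nat.card (Subgroup.zpowers n) ∣ 11 := by rw [← hcc]; exact Subgroup.card_dvd_of_le h3
    have h5 : Subgroup.zpowers n = Subgroup.zpowers D.c := by
      apply Subgroup.eq_of_le_of_card_ge h3
      rcases (Nat.dvd_prime (by norm_num : Nat.Prime 11)).1 h4 with h6 | h6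
      · exfalso
        rw [Nat.card_zpowers, orderOf_eq_one_iff] at h6
        exact hn1 h6
      · rw [h6, hcc]
    have h6 : D.c ∈ Subgroup.zpowers n := by rw [h5]; exact Subgroup.mem_zpowers _
    exact (Subgroup.zpowers_le.2 hn) h6
  have hnn : n ∈ Subgroup.normalizer ((Subgroup.zpowers D.c : Subgroup G) : Set G) := by
    rw [Subgroup.mem_normalizer_iff]
    intro x
    rw [hz x, mul_inv_cancel_right]
  have h7 := chain (p := 11) hnn hnc h1
  have h8 : ∀ t : G, D.c * t = t * D.c → Subgroup.zpowers D.c ⊔ Subgroup.zpowers n ≤ Subgroup.centralizer {t} := by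
    intro t ht
    apply sup_le
    · rw [Subgroup.zpowers_le]; exact com.2 ht
    · rw [Subgroup.zpowers_le]; exact com.2 (hz t)
  have h9 := heis (p := 11) (A := Subgroup.zpowers D.c ⊔ Subgroup.zpowers n) D.hs D.hu D.hsu D.hcs D.hc1
    ((le_sup_left : Subgroup.zpowers D.c ≤ _) (Subgroup.mem_zpowers _)) (h8 _ D.hcs.symm) (h8 _ D.hcu.symm)
  rw [hcc] at h7
  have h10 := (Nat.mul_dvd_mul_left (11 ^ 2) h7).trans h9
  rw [hG] at h10
  revert h10
  norm_num

end Data

end Cfsg.Agent.Lib.J4Abs
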