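import Cfsg.Agent.Lib.J4Words
import Cfsg.Agent.Lib.J4Abs
import Cfsg.Agent.Lib.GolayM21
import Cfsg.Prelude.Def_Sporadic

/-!
The order and the simplicity of the presented fourth Janko group from the structure of two subgroups (helper57).
-/

set_option autoImplicit false
set_option linter.all false
set_option maxRecDepth 100000

namespace Cfsg.Agent.Lib.J4Main

open Cfsg.Spor Cfsg.Agent.Lib.H58SM Cfsg.Agent.Lib.BenesWord Cfsg.Agent.Lib.MatF2 Cfsg.Agent.Lib.CosetGroup
open Cfsg.Agent.Lib.CoxBridge Cfsg.Agent.Lib.J4Rho Cfsg.Agent.Lib.ProjSL Cfsg.Agent.Lib.J4RhoHom Cfsg.Agent.Lib.J4Words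
open Cfsg.Agent.Lib.ChainCard

/-- the letters in the presented group -/
noncomputable def XX (c : ℕ) : J4 :=
  match c with
  | 0 => X 0
  | 1 => X 1
  | 2 => X 2
  | 3 => (X 1)⁻¹
  | _ => 1

/-- value of a word in the presented group -/
noncomputable def pJ (l : List ℕ) : J4 := (l.map XX).prod

theorem pJ_append (l m : List ℕ) : pJ (l ++ m) = pJ l * pJ m := by
  show ((l ++ m).map XX).prod = _
  rw [List.map_append, List.prod_append]
  rfl

theorem rho_XX {c : ℕ} (hc : c < 4) : rho (XX c) = x c := by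
  interval_cases c
  · exact rho_of 0 (by norm_num)
  · exact rho_of 1 (by norm_num)
  · exact rho_of 2 (by norm_num)
  · show rho ((X 1)⁻¹) = _
    rw [map_inv]
    have h1 : rho (X 1) = x 1 := rho_of 1 (by norm_num)
    rw [h1, ← x_iv]
    rfl

theorem rho_pJ {l : List ℕ} (h : ok l = true) : rho (pJ l) = pr l := by
  have h1 := lt_of_ok h
  clear h
  induction l with
  | nil => exact map_one rho
  | cons c l ih =>
    show rho ((XX c) * pJ l) = _
    rw [map_mul, ih (fun d hd => h1 d (List.mem_cons_of_mem _ hd)), rho_XX (h1 c List.mem_cons_self), pr_cons]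

/-- the subgroup `M24` -/
noncomputable def PP : Subgroup J4 := Subgroup.closure {X 0, X 1}

/-- conjugating word -/
noncomputable def WW : J4 := (X 1 * X 0) ^ 4 * (X 1)⁻¹ * X 0

/-- the involution -/
noncomputable def hh : J4 := (X 1 * WW⁻¹ * X 2 * WW) ^ 3

/-- the subgroup `2^11 : M24` -/
noncomputable def KK : Subgroup J4 := Subgroup.closure {X 0, X 1, hh}

theorem rho_X (c : ℕ) (hc : c < 3) : rho (X c) = x c := rho_of c hc

theorem rho_WW : rho WW = pr lw := by
  have h1 : pr lw = (x 1 * x 0) ^ 4 * (x 1)⁻¹ * x 0 := by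
    have h3 : x 3 = (x 1)⁻¹ := by rw [← x_iv]; rfl
    show pr [1, 0, 1, 0, 1, 0, 1, 0, 3, 0] = _
    simp only [pr_cons, pr_nil, h3, pow_succ, pow_zero, one_mul, mul_assoc, mul_one]
  show rho ((X 1 * X 0) ^ 4 * (X 1)⁻¹ * X 0) = _
  rw [h1, map_mul, map_mul, map_pow, map_mul, map_inv, rho_X 0 (by norm_num), rho_X 1 (by norm_num)]

theorem rho_hh : rho hh = pr lh := by
  have h1 : pr lh1 = x 1 * (pr lw)⁻¹ * x 2 * pr lw := by
    show pr ([1] ++ iw lw ++ [2] ++ lw) = _
    rw [pr_append, pr_append, pr_append, pr_iw, pr_cons, pr_cons, pr_nil, mul_one, mul_one]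
  have h2 : pr lh = (pr lh1) ^ 3 := by
    show pr (lh1 ++ lh1 ++ lh1) = _
    rw [pr_append, pr_append, pow_succ, pow_succ, pow_one]
  show rho ((X 1 * WW⁻¹ * X 2 * WW) ^ 3) = _
  rw [h2, h1, map_pow, map_mul, map_mul, map_mul, map_inv, rho_WW, rho_X 1 (by norm_num), rho_X 2 (by norm_num)]

/-- the element of order 23 -/
noncomputable def gg : J4 := X 0 * X 1

theorem rho_gg : rho gg = pr lg := by
  show rho (X 0 * X 1) = pr [0, 1]
  rw [map_mul, rho_X 0 (by norm_num), rho_X 1 (by norm_num), pr_cons, pr_cons, pr_nil, mul_one]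

/-- the image -/
abbrev R : Type := rho.range

/-- the homomorphism onto the image -/
noncomputable def f : J4 →* R := rho.rangeRestrict

theorem f_val (g : J4) : ((f g : R) : GM) = rho g := rfl

theorem f_eq {a b : J4} (h : rho a = rho b) : f a = f b := Subtype.ext h

instance : Finite GM := inferInstance

/-- the data on the presented group -/
structure Hyp where
  hP : Nonempty (PP ≃* M24)
  V : Subgroup J4
  hV : PP ≤ Subgroup.normalizer (V : Set J4)
  hV2 : ∀ v ∈ V, v * v = 1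
  hhV : hh ∈ V
  hVK : V ≤ KK
  hK0 : Nat.card KK ≠ 0
  hK : Nat.card KK ≤ 2 ^ 11 * 244823040
  hi0 : KK.index ≠ 0
  hi : KK.index ≤ 173067389

theorem gg_mem : gg ∈ PP := PP.mul_mem (Subgroup.subset_closure (by simp)) (Subgroup.subset_closure (by simp))

theorem ff_ord (l : List ℕ) (hl : ok l = true) {p : ℕ} (hp : p.Prime) (h1 : pr l ^ p = 1) (h2 : pr l ≠ pr []) : p ∣ Nat.card R := by
  haveI : Fact p.Prime := ⟨hp⟩
  have h3 : orderOf (f (pJ l)) = p := by
    apply orderOf_eq_prime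
    · apply Subtype.ext
      rw [Subgroup.coe_pow, f_val, rho_pJ hl, h1]
      rfl
    · intro h
      apply h2
      have h4 := congrArg Subtype.val h
      rw [f_val, rho_pJ hl] at h4
      rw [h4, pr_nil]
      rfl
  rw [← h3]
  exact orderOf_dvd_natCard _

/-- relations between the words of order 11 in a group with an injective map to the matrices -/
theorem su_rel : pr ls * pr lu = pr lu * (pr ls * pr lc) := by
  show _ = _ * (_ * pr (iw ls ++ iw lu ++ ls ++ lu))
  rw [pr_append, pr_append, pr_append, pr_iw, pr_iw]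
  group

theorem ok_ls : ok ls = true := by decide +kernel
theorem ok_lu : ok lu = true := by decide +kernel
theorem ok_lc : ok lc = true := by decide +kernel
theorem ok_lh : ok lh = true := by decide +kernel
theorem ok_lg : ok lg = true := by decide +kernel

theorem dvd_1331 : 11 ^ 3 ∣ Nat.card R := by
  haveI : Fact (Nat.Prime 11) := ⟨by norm_num⟩
  have v : ∀ {l : List ℕ}, ok l = true → ((f (pJ l) : R) : GM) = pr l := fun h => by rw [f_val, rho_pJ h]
  have hc1 : f (pJ lc) ≠ 1 := by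
    intro h
    apply c_ne
    rw [← v ok_lc, h, pr_nil]
    rfl
  have hc11 : f (pJ lc) ^ 11 = 1 := by
    apply Subtype.ext
    rw [Subgroup.coe_pow, v ok_lc, c_pow]
    rfl
  have h1 := heis (G := R) (p := 11) (s := f (pJ ls)) (u := f (pJ lu)) (c := f (pJ lc)) (A := Subgroup.zpowers (f (pJ lc)))
    (by apply Subtype.ext; rw [Subgroup.coe_pow, v ok_ls, s_pow]; rfl)
    (by apply Subtype.ext; rw [Subgroup.coe_pow, v ok_lu, u_pow]; rfl)
    (by apply Subtype.ext; rw [Subgroup.coe_mul, Subgroup.coe_mul, Subgroup.coe_mul, v ok_ls, v ok_lu, v ok_lc, su_rel])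
    (by apply Subtype.ext; rw [Subgroup.coe_mul, Subgroup.coe_mul, v ok_ls, v ok_lc, cs_comm]) hc1 (Subgroup.mem_zpowers _)
    (by rw [Subgroup.zpowers_le]; exact J4Abs.com.2 (by apply Subtype.ext; rw [Subgroup.coe_mul, Subgroup.coe_mul, v ok_ls, v ok_lc, cs_comm]))
    (by rw [Subgroup.zpowers_le]; exact J4Abs.com.2 (by apply Subtype.ext; rw [Subgroup.coe_mul, Subgroup.coe_mul, v ok_lu, v ok_lc, cu_comm]))
  have h2 : Nat.card (Subgroup.zpowers (f (pJ lc))) = 11 := by
    rw [Nat.card_zpowers]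
    exact orderOf_eq_prime hc11 hc1
  rw [h2] at h1
  exact h1

/-- the subgroup of the statements -/
theorem map_PP : ((Subgroup.closure ({Cfsg.Spor.J4.x, Cfsg.Spor.J4.y} : Set (FreeGroup Cfsg.Spor.J4.Gen))).map
    (PresentedGroup.mk (Cfsg.Spor.coxRelators Cfsg.Spor.J4.edges ∪ {r | r ∈ Cfsg.Spor.J4.extra}))) = PP := by
  rw [MonoidHom.map_closure]
  show _ = Subgroup.closure {X 0, X 1}
  congr 1
  rw [Set.image_pair]
  rfl

/-- the subgroup of the statements -/
theorem map_KK : ((Subgroup.closure ({Cfsg.Spor.J4.x, Cfsg.Spor.J4.y, (Cfsg.Spor.J4.y * ((Cfsg.Spor.J4.y * Cfsg.Spor.J4.x) ^ 4 * Cfsg.Spor.J4.y⁻¹ * Cfsg.Spor.J4.x)⁻¹ * Cfsg.Spor.J4.t * ((Cfsg.Spor.J4.y * Cfsg.Spor.J4.x) ^ 4 * Cfsg.Spor.J4.y⁻¹ * Cfsg.Spor.J4.x)) ^ 3} : Set (FreeGroup Cfsg.Spor.J4.Gen))).map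
    (PresentedGroup.mk (Cfsg.Spor.coxRelators Cfsg.Spor.J4.edges ∪ {r | r ∈ Cfsg.Spor.J4.extra}))) = KK := by
  rw [MonoidHom.map_closure]
  show _ = Subgroup.closure {X 0, X 1, hh}
  congr 1
  rw [Set.image_insert_eq, Set.image_pair]
  rfl

namespace Hyp

variable (D : Hyp)
include D

theorem simple_PP : IsSimpleGroup PP := by
  obtain ⟨e⟩ := D.hP
  haveI := Cfsg.Agent.Lib.Golay.M24_simple
  exact Cfsg.Agent.Lib.Golay.isSimpleGroup_of_mulEquiv e.symm Cfsg.Agent.Lib.Golay.M24_simple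

theorem card_PP : Nat.card PP = 244823040 := by
  obtain ⟨e⟩ := D.hP
  rw [Nat.card_congr e.toEquiv, Cfsg.Agent.Lib.Golay.natCard_M24]

theorem gg23 : gg ^ 23 ∈ rho.ker := by
  rw [MonoidHom.mem_ker, map_pow, rho_gg, g_pow]

theorem rho_gg_ne : rho gg ≠ 1 := by
  intro h
  apply gh_ne
  rw [pr_append, pr_append, ← rho_gg, h, one_mul, mul_one]

theorem gh : f gg * f hh ≠ f hh * f gg := by
  intro h
  apply gh_ne
  have h1 := congrArg Subtype.val h
  rw [Subgroup.coe_mul, Subgroup.coe_mul, f_val, f_val, rho_gg, rho_hh] at h1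
  rw [pr_append, pr_append, h1]

/-- the map is injective on the Mathieu group -/
theorem inj_PP : Function.Injective (f.comp PP.subtype) := by
  rw [← MonoidHom.ker_eq_bot_iff]
  rcases D.simple_PP.eq_bot_or_eq_top_of_normal (f.comp PP.subtype).ker inferInstance with h | h
  · exact h
  · exfalso
    have h1 : (⟨gg, gg_mem⟩ : PP) ∈ (f.comp PP.subtype).ker := by rw [h]; exact Subgroup.mem_top _
    have h2 : f gg = 1 := h1
    apply rho_gg_ne D
    rw [← f_val, h2]
    rfl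

/-- the image of the Mathieu group -/
noncomputable def eP : PP ≃* PP.map f :=
  (MonoidHom.ofInjective D.inj_PP).trans (MulEquiv.subgroupCongr (by rw [MonoidHom.range_comp, Subgroup.range_subtype]))

theorem simple_P' : IsSimpleGroup (PP.map f) :=
  haveI := D.simple_PP
  Cfsg.Agent.Lib.Golay.isSimpleGroup_of_mulEquiv D.eP D.simple_PP

theorem card_P' : Nat.card (PP.map f) = 244823040 := by
  rw [← Nat.card_congr D.eP.toEquiv, D.card_PP]

theorem norm_V' : PP.map f ≤ Subgroup.normalizer ((D.V.map f : Subgroup R) : Set R) :=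
  (Subgroup.map_mono D.hV).trans (Subgroup.le_normalizer_map f)

theorem card_V' : ∃ a, Nat.card (D.V.map f) = 2 ^ a ∧ 11 ≤ a := by
  have h2 : IsPGroup 2 (D.V.map f) := by
    intro v
    obtain ⟨w, hw, hw2⟩ := v.2
    refine ⟨1, ?_⟩
    apply Subtype.ext
    rw [pow_one, Subgroup.coe_pow, pow_two, ← hw2, ← map_mul, D.hV2 w hw, map_one]
    rfl
  haveI : Fact (Nat.Prime 2) := ⟨Nat.prime_two⟩
  obtain ⟨a, ha⟩ := IsPGroup.iff_card.1 h2
  refine ⟨a, ha, ?_⟩
  have hg : (f gg) ^ 23 = 1 := by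
    apply Subtype.ext
    rw [Subgroup.coe_pow, f_val, rho_gg, g_pow]
    rfl
  have hn : f gg ∈ Subgroup.normalizer ((D.V.map f : Subgroup R) : Set R) := D.norm_V' (Subgroup.mem_map_of_mem f gg_mem)
  obtain ⟨b, _, hb⟩ := fix_23 hg hn ha (Subgroup.mem_map_of_mem f D.hhV) (gh D)
  omega

theorem inf_V' : D.V.map f ⊓ PP.map f = ⊥ := by
  apply J4Abs.inf_eq_bot D.simple_P' D.norm_V'
  intro h
  obtain ⟨a, ha, _⟩ := D.card_V'
  have h1 := Subgroup.card_dvd_of_le h
  rw [D.card_P', ha] at h1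
  have h2 : 3 ∣ 2 ^ a := dvd_trans (by norm_num) h1
  have h3 := (Nat.Prime.dvd_of_dvd_pow (by norm_num) h2 : 3 ∣ 2)
  revert h3
  norm_num

theorem dvd_K' : 2 ^ 11 * 244823040 ∣ Nat.card R := by
  have h1 := mul_dvd D.norm_V' D.inf_V'
  obtain ⟨a, ha, ha2⟩ := D.card_V'
  rw [D.card_P', ha] at h1
  exact (Nat.mul_dvd_mul_right (pow_dvd_pow 2 ha2) _).trans h1

/-- the order divides the order of the image -/
theorem dvd_R : 86775571046077562880 ∣ Nat.card R := by
  have h0 := D.dvd_K'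
  have h11 := dvd_1331
  have h29 := ff_ord a29 (by decide +kernel) (by norm_num) a29_pow a29_ne
  have h31 := ff_ord a31 (by decide +kernel) (by norm_num) a31_pow a31_ne
  have h37 := ff_ord a37 (by decide +kernel) (by norm_num) a37_pow a37_ne
  have h43 := ff_ord a43 (by decide +kernel) (by norm_num) a43_pow a43_ne
  have h1 : 2 ^ 21 * 3 ^ 3 * 5 * 7 * 23 ∣ Nat.card R := dvd_trans (by norm_num) h0
  have h2 := Nat.Coprime.mul_dvd_of_dvd_of_dvd (by norm_num) h1 h11
  have h3 := Nat.Coprime.mul_dvd_of_dvd_of_dvd (by norm_num) h2 h29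
  have h4 := Nat.Coprime.mul_dvd_of_dvd_of_dvd (by norm_num) h3 h31
  have h5 := Nat.Coprime.mul_dvd_of_dvd_of_dvd (by norm_num) h4 h37
  have h6 := Nat.Coprime.mul_dvd_of_dvd_of_dvd (by norm_num) h5 h43
  have h7 : (2 ^ 21 * 3 ^ 3 * 5 * 7 * 23 * 11 ^ 3 * 29 * 31 * 37 * 43 : ℕ) = 86775571046077562880 := by norm_num
  rwa [h7] at h6

theorem card_J4_ne : Nat.card J4 ≠ 0 := by
  rw [← Subgroup.card_mul_index KK]
  exact Nat.mul_ne_zero D.hK0 D.hi0

theorem card_J4_le : Nat.card J4 ≤ 86775571046077562880 := by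
  rw [← Subgroup.card_mul_index KK]
  calc Nat.card KK * KK.index ≤ (2 ^ 11 * 244823040) * 173067389 := Nat.mul_le_mul D.hK D.hi
    _ = _ := by norm_num

theorem finite : Finite J4 := Nat.finite_of_card_ne_zero D.card_J4_ne

theorem card_R_dvd : Nat.card R ∣ Nat.card J4 := Subgroup.card_range_dvd rho

theorem card_J4 : Nat.card J4 = 86775571046077562880 := by
  have h1 := D.dvd_R.trans D.card_R_dvd
  exact le_antisymm D.card_J4_le (Nat.le_of_dvd (Nat.pos_of_ne_zero D.card_J4_ne) h1)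

theorem card_R : Nat.card R = 86775571046077562880 := by
  have h1 := D.card_R_dvd
  rw [D.card_J4] at h1
  exact Nat.dvd_antisymm h1 D.dvd_R

theorem card_KK : Nat.card KK = 2 ^ 11 * 244823040 ∧ KK.index = 173067389 := by
  have h1 := Subgroup.card_mul_index KK
  rw [D.card_J4] at h1
  have h2 := D.hK
  have h3 := D.hi
  constructor
  · apply le_antisymm h2
    by_contra h4
    have h5 : Nat.card KK * KK.index < (2 ^ 11 * 244823040) * 173067389 := by
      calc Nat.card KK * KK.index ≤ Nat.card KK * 173067389 := Nat.mul_le_mul_left _ h3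
        _ < _ := Nat.mul_lt_mul_of_pos_right (by omega) (by norm_num)
    rw [h1] at h5
    revert h5
    norm_num
  · apply le_antisymm h3
    by_contra h4
    have h5 : Nat.card KK * KK.index < (2 ^ 11 * 244823040) * 173067389 := by
      calc Nat.card KK * KK.index ≤ (2 ^ 11 * 244823040) * KK.index := Nat.mul_le_mul_right _ h2
        _ < _ := Nat.mul_lt_mul_of_pos_left (by omega) (by norm_num)
    rw [h1] at h5
    revert h5
    norm_num

theorem inj : Function.Injective rho := by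
  haveI := D.finite
  have h1 : Function.Injective f := by
    apply Function.Bijective.injective
    rw [Nat.bijective_iff_surjective_and_card]
    exact ⟨MonoidHom.rangeRestrict_surjective rho, by rw [D.card_J4, D.card_R]⟩
  intro a b h
  exact h1 (f_eq h)

theorem card_V : Nat.card D.V = 2 ^ 11 := by
  haveI := D.finite
  obtain ⟨a, ha, ha2⟩ := D.card_V'
  have hinj : Function.Injective f := fun a b h => D.inj (by rw [← f_val, ← f_val, h])
  have h1 : Nat.card D.V = 2 ^ a := by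
    rw [← ha]
    exact (Subgroup.card_map_of_injective hinj).symm
  have h2 : D.V ⊓ PP = ⊥ := by
    apply J4Abs.inf_eq_bot D.simple_PP D.hV
    intro h
    have h1' := Subgroup.card_dvd_of_le h
    rw [D.card_PP, h1] at h1'
    have h2 : 3 ∣ 2 ^ a := dvd_trans (by norm_num) h1'
    have h3 := (Nat.Prime.dvd_of_dvd_pow (by norm_num) h2 : 3 ∣ 2)
    revert h3
    norm_num
  have h3 := mul_dvd_sup D.hV h2
  have h4 : D.V ⊔ PP ≤ KK := sup_le D.hVK (by
    apply (Subgroup.closure_le _).2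
    intro y hy
    apply Subgroup.subset_closure
    rcases hy with rfl | hy
    · simp
    · rw [Set.mem_singleton_iff] at hy
      simp [hy])
  have h5 := h3.trans (Subgroup.card_dvd_of_le h4)
  rw [D.card_PP, h1, D.card_KK.1] at h5
  have h6 : 2 ^ a ∣ 2 ^ 11 := Nat.dvd_of_mul_dvd_mul_right (by norm_num) h5
  have h7 := (Nat.pow_dvd_pow_iff_le_right (by norm_num : 1 < 2)).1 h6
  have h8 : a = 11 := by omega
  rw [h1, h8]

end Hyp

/-- a relation of the presentation -/
theorem rel_t : pr ([1] ++ iw [1, 0, 3, 0, 1, 0, 3, 0] ++ [2] ++ [1, 0, 3, 0, 1, 0, 3, 0]) ^ 3 = 1 :=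
  pr_pow (by decide +kernel) [true, true] (by decide +kernel)

theorem tt : pr [2, 2] = pr [] := pr_eq (by decide +kernel) (by decide +kernel) (by decide +kernel)

theorem top_eq : Subgroup.closure {X 0, X 1, X 2} = (⊤ : Subgroup J4) := by
  rw [eq_top_iff, ← PresentedGroup.closure_range_of, Subgroup.closure_le]
  rintro _ ⟨a, rfl⟩
  apply Subgroup.subset_closure
  cases a
  · exact Or.inl rfl
  · exact Or.inr (Or.inl rfl)
  · exact Or.inr (Or.inr rfl)

namespace Hyp

variable (D : Hyp)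
include D

theorem eqJ {l m : List ℕ} (hl : ok l = true) (hm : ok m = true) (h : pr l = pr m) : pJ l = pJ m :=
  D.inj (by rw [rho_pJ hl, rho_pJ hm, h])

theorem powJ {l : List ℕ} (hl : ok l = true) {n : ℕ} (h : pr l ^ n = 1) : pJ l ^ n = 1 :=
  D.inj (by rw [map_pow, rho_pJ hl, h, map_one])

theorem neJ {l : List ℕ} (hl : ok l = true) (h : pr l ≠ pr []) : pJ l ≠ 1 := by
  intro h1
  apply h
  rw [← rho_pJ hl, h1, map_one, pr_nil]

theorem gen {N : Subgroup J4} (hN : N.Normal) (h : PP ≤ N) : N = ⊤ := by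
  rw [eq_top_iff, ← top_eq, Subgroup.closure_le]
  have h0 : X 0 ∈ N := h (Subgroup.subset_closure (by simp))
  have h1 : X 1 ∈ N := h (Subgroup.subset_closure (by simp))
  set w : J4 := pJ [1, 0, 3, 0, 1, 0, 3, 0] with hw
  have h2 : (X 1 * w⁻¹ * X 2 * w) ^ 3 = 1 := by
    apply D.inj
    rw [map_one, map_pow, map_mul, map_mul, map_mul, map_inv, hw, rho_pJ (by decide), rho_X 1 (by norm_num), rho_X 2 (by norm_num)]
    have h3 := rel_t
    rw [pr_append, pr_append, pr_append, pr_iw, pr_cons, pr_cons 2, pr_nil, mul_one, mul_one] at h3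
    exact h3
  have h3 : X 2 * X 2 = 1 := by
    apply D.inj
    have h4 := tt
    rw [pr_cons, pr_cons, pr_nil, mul_one] at h4
    rw [map_mul, map_one, rho_X 2 (by norm_num), h4]
  have h4 : X 2 ∈ N := by
    have e1 : ((X 1 : J4) : J4 ⧸ N) = 1 := (QuotientGroup.eq_one_iff _).2 h1
    have e2 : ((X 1 * w⁻¹ * X 2 * w : J4) : J4 ⧸ N) ^ 3 = 1 := by
      rw [← QuotientGroup.mk_pow, h2, QuotientGroup.mk_one]
    have e3 : ((X 1 * w⁻¹ * X 2 * w : J4) : J4 ⧸ N) = (w : J4 ⧸ N)⁻¹ * (X 2 : J4 ⧸ N) * (w : J4 ⧸ N) := by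
      rw [QuotientGroup.mk_mul, QuotientGroup.mk_mul, QuotientGroup.mk_mul, e1, one_mul, QuotientGroup.mk_inv]
    have e4 : ((X 2 : J4) : J4 ⧸ N) * (X 2 : J4 ⧸ N) = 1 := by
      rw [← QuotientGroup.mk_mul, h3, QuotientGroup.mk_one]
    rw [e3] at e2
    have e5 : ((w : J4 ⧸ N)⁻¹ * (X 2 : J4 ⧸ N) * (w : J4 ⧸ N)) ^ 3 = (w : J4 ⧸ N)⁻¹ * ((X 2 : J4 ⧸ N) * (X 2 : J4 ⧸ N) * (X 2 : J4 ⧸ N)) * (w : J4 ⧸ N) := by
      rw [pow_succ, pow_two]
      group
    rw [e5, e4, one_mul] at e2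
    have e6 : ((X 2 : J4) : J4 ⧸ N) = 1 := by
      have e7 : (X 2 : J4 ⧸ N) = (w : J4 ⧸ N) * ((w : J4 ⧸ N)⁻¹ * (X 2 : J4 ⧸ N) * (w : J4 ⧸ N)) * (w : J4 ⧸ N)⁻¹ := by group
      rw [e7, e2, mul_one, mul_inv_cancel]
    exact (QuotientGroup.eq_one_iff _).1 e6
  intro y hy
  rcases hy with rfl | rfl | hy
  · exact h0
  · exact h1
  · rw [Set.mem_singleton_iff] at hy
    rw [hy]; exact h4

theorem exR {r : ℕ} {a : List ℕ} (ha : ok a = true) (h1 : pr a ^ r = 1) (h2 : pr (1 :: a) ^ r = 1) :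
    ∃ a : J4, a ^ r = 1 ∧ (X 1 * a) ^ r = 1 := by
  refine ⟨pJ a, D.powJ ha h1, ?_⟩
  have h3 : pJ (1 :: a) = X 1 * pJ a := rfl
  rw [← h3]
  apply D.powJ _ h2
  show (Nat.blt 1 4 && ok a) = true
  rw [ha]; rfl

theorem pJ_iw {l : List ℕ} (hl : ok l = true) (hl2 : ok (iw l) = true) : pJ (iw l) = (pJ l)⁻¹ := by
  apply D.inj
  rw [map_inv, rho_pJ hl, rho_pJ hl2, pr_iw]

theorem hh_pJ : hh = pJ lh := D.inj (by rw [rho_hh, rho_pJ ok_lh])
theorem gg_pJ : gg = pJ lg := D.inj (by rw [rho_gg, rho_pJ ok_lg])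

/-- the data of the abstract criterion -/
noncomputable def data : J4Abs.Data J4 where
  P := PP
  V := D.V
  hPs := D.simple_PP
  hPc := D.card_PP
  hVP := D.hV
  hV2 := D.hV2
  hVc := D.card_V
  g := gg
  hgP := gg_mem
  hg := by rw [D.gg_pJ]; exact D.powJ ok_lg g_pow
  h := hh
  hh := D.hhV
  hgh := by
    intro h
    apply gh D
    rw [← map_mul, ← map_mul, h]
  hgen := fun N hN h => D.gen hN h
  y := X 1
  hy := Subgroup.subset_closure (by simp)
  hy1 := by
    have h1 : X 1 = pJ [1] := (mul_one _).symm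
    intro h
    have h2 : rho gg = x 0 := by
      show rho (X 0 * X 1) = _
      rw [h, mul_one, rho_X 0 (by norm_num)]
    have h3 : (x 0) ^ 23 = 1 := by rw [← h2, rho_gg, g_pow]
    have h4 : x 0 * x 0 = 1 := by
      have h5 : x 0 = (x 0)⁻¹ := by rw [← x_iv]; rfl
      nth_rw 2 [h5]
      exact mul_inv_cancel _
    have h5 : x 0 = 1 := by
      calc x 0 = (x 0) ^ 23 * ((x 0 * x 0) ^ 11)⁻¹ := by
            rw [← pow_two, ← pow_mul]
            rw [show (23 : ℕ) = 1 + 2 * 11 from rfl, pow_add, mul_inv_cancel_right, pow_one]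
        _ = 1 := by rw [h3, h4, one_pow, inv_one, mul_one]
    apply rho_gg_ne D
    rw [h2, h5]
  h29 := D.exR (by decide +kernel) a29_pow ya29_pow
  h31 := D.exR (by decide +kernel) a31_pow ya31_pow
  h37 := D.exR (by decide +kernel) a37_pow ya37_pow
  h43 := D.exR (by decide +kernel) a43_pow ya43_pow
  hh43 := by
    refine ⟨pJ q31, pJ q43, ?_⟩
    have h1 : hh * ((pJ q31)⁻¹ * hh * pJ q31) * ((pJ q43)⁻¹ * hh * pJ q43) = pJ e43 := by
      show _ = pJ (lh ++ iw q31 ++ lh ++ q31 ++ iw q43 ++ lh ++ q43)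
      rw [pJ_append, pJ_append, pJ_append, pJ_append, pJ_append, pJ_append, D.pJ_iw (by decide +kernel) (by decide +kernel),
        D.pJ_iw (by decide +kernel) (by decide +kernel), ← D.hh_pJ]
      simp only [mul_assoc]
    rw [h1]
    exact ⟨D.powJ (by decide +kernel) e43_pow, neJ D (by decide +kernel) e43_ne⟩
  s := pJ ls
  u := pJ lu
  c := pJ lc
  hs := D.powJ ok_ls s_pow
  hu := D.powJ ok_lu u_pow
  hc11 := D.powJ ok_lc c_pow
  hsu := D.inj (by rw [map_mul, map_mul, map_mul, rho_pJ ok_ls, rho_pJ ok_lu, rho_pJ ok_lc, su_rel])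
  hcs := D.inj (by rw [map_mul, map_mul, rho_pJ ok_ls, rho_pJ ok_lc, cs_comm])
  hcu := D.inj (by rw [map_mul, map_mul, rho_pJ ok_lu, rho_pJ ok_lc, cu_comm])
  hc1 := neJ D ok_lc c_ne
  hc31 := by
    refine ⟨pJ q31, ?_⟩
    have h1 : pJ lc * ((pJ q31)⁻¹ * pJ lc * pJ q31) = pJ e31 := by
      show _ = pJ (lc ++ iw q31 ++ lc ++ q31)
      rw [pJ_append, pJ_append, pJ_append, D.pJ_iw (by decide +kernel) (by decide +kernel)]
      simp only [mul_assoc]
    rw [h1]
    exact ⟨D.powJ (by decide +kernel) e31_pow, neJ D (by decide +kernel) e31_ne⟩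

/-- simplicity -/
theorem simple : IsSimpleGroup J4 := by
  haveI := D.finite
  exact D.data.simple D.card_J4

theorem isJ4 : Cfsg.IsJ4 J4 := ⟨D.simple, D.card_J4⟩

theorem matrix : ∃ H : Subgroup (Matrix.GeneralLinearGroup (Fin 112) (ZMod 2)), Cfsg.IsJ4 H := by
  have e : J4 ≃* (rho.range : Subgroup (Matrix.GeneralLinearGroup (Fin 112) (ZMod 2))) := MonoidHom.ofInjective D.inj
  refine ⟨rho.range, ?_, ?_⟩
  · exact Cfsg.Agent.Lib.Golay.isSimpleGroup_of_mulEquiv e D.simple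
  · rw [← Nat.card_congr e.toEquiv, D.card_J4]

end Hyp

end Cfsg.Agent.Lib.J4Main
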