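import Cfsg.Agent.Lib.H3M24
import Cfsg.Agent.Lib.J4Main
import Cfsg.Agent.Lib.GolayGen
import Cfsg.Agent.Lib.GolayFrames

/-!
# The subgroup `⟨x, y⟩` of the presented group `J4` is `M24`
-/

set_option autoImplicit false

namespace Cfsg.Agent.Lib.H3J4P

open Cfsg Cfsg.Agent.Lib.Golay Cfsg.Agent.Lib.H3M24 Cfsg.Agent.Lib.H3TC Cfsg.Agent.Lib.J4RhoHom Cfsg.Agent.Lib.J4Main
open Cfsg.Agent.Lib.J4Words

theorem Rels.map {G H : Type*} [Group G] [Group H] {x y : G} (R : Rels x y) (f : G →* H) : Rels (f x) (f y) where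
  h1 := by simpa using congrArg f R.h1
  h2 := by simpa using congrArg f R.h2
  h3 := by simpa using congrArg f R.h3
  h4 := by simpa using congrArg f R.h4
  h5 := by simpa using congrArg f R.h5
  h6 := by simpa using congrArg f R.h6
  h7 := by simpa using congrArg f R.h7

/-- code -/
def cs : ℕ := 588314845343609604566055367838290438
/-- code -/
def ct : ℕ := 956786092408251407077258816284721429
/-- code -/
def ct2 : ℕ := 965773101377251344088114803682531010

theorem valid_cs : valid cs = true := by decide +kernel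
theorem valid_ct : valid ct = true := by decide +kernel
theorem valid_ct2 : valid ct2 = true := by decide +kernel
theorem inM_cs : inM cs = true := by decide +kernel
theorem inM_ct : inM ct = true := by decide +kernel

/-- transport of permutations -/
def tr : Equiv.Perm (Fin 24) →* Equiv.Perm GolayPt := (ixEquiv.symm.permCongrHom : Equiv.Perm (Fin 24) ≃* Equiv.Perm GolayPt)

theorem tr_sx : tr sx = toPerm cs := by
  refine perm_eq_toPerm valid_cs ?_
  show ∀ p, ixEquiv.symm (sx (ixEquiv p)) = _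
  decide +kernel

theorem tr_sy : tr sy = toPerm ct := by
  refine perm_eq_toPerm valid_ct ?_
  show ∀ p, ixEquiv.symm (sy (ixEquiv p)) = _
  decide +kernel

/-- product of codes -/
def fold (L : List ℕ) : ℕ := L.foldr mulC cId

theorem fold_mem {K : Subgroup (Equiv.Perm GolayPt)} {L : List ℕ} (h : ∀ c ∈ L, valid c = true ∧ toPerm c ∈ K) :
    valid (fold L) = true ∧ toPerm (fold L) ∈ K := by
  induction L with
  | nil => exact ⟨valid_of_inM inM_cId, by show toPerm cId ∈ K; rw [toPerm_cId]; exact K.one_mem⟩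
  | cons c L ih =>
    have h1 := ih fun d hd => h d (List.mem_cons_of_mem _ hd)
    have h2 := h c List.mem_cons_self
    refine ⟨valid_mulC h2.1 h1.1, ?_⟩
    show toPerm (mulC c (fold L)) ∈ K
    rw [toPerm_mulC h2.1 h1.1]
    exact K.mul_mem h2.2 h1.2

theorem ct2_eq : mulC ct ct = ct2 := by decide +kernel

/-- word -/
def wAl : List ℕ := [ct, cs, ct2, cs, ct2, cs, ct, cs, ct2, cs, ct2, cs, ct2, cs, ct2, cs, ct2, cs, ct, cs, ct2, cs, ct2, cs, ct2, cs, ct2, cs, ct2, cs, ct2, cs, ct2, cs, ct2, cs, ct, cs, ct, cs, ct2, cs, ct, cs, ct, cs, ct2, cs, ct2]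
/-- word -/
def wGa : List ℕ := [ct, cs, ct, cs, ct, cs, ct, cs, ct, cs, ct, cs, ct, cs, ct2, cs, ct, cs, ct2, cs, ct2, cs, ct2, cs, ct2, cs, ct, cs, ct, cs, ct, cs, ct, cs, ct2, cs, ct, cs, ct2, cs, ct2, cs, ct2, cs, ct2, cs, ct2, cs, ct2, cs, ct2]
/-- word -/
def wDe : List ℕ := [ct, cs, ct2, cs, ct, cs, ct, cs, ct2, cs, ct, cs, ct, cs, ct2, cs, ct2, cs, ct, cs, ct, cs, ct2, cs, ct, cs, ct2, cs, ct, cs, ct, cs, ct2, cs, ct, cs, ct, cs, ct, cs, ct, cs, ct, cs, ct2, cs, ct2]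

theorem fold_al : fold wAl = cShift := by decide +kernel
theorem fold_ga : fold wGa = cInv := by decide +kernel
theorem fold_de : fold wDe = cCube := by decide +kernel

theorem in3 {L : List ℕ} (h : (L.all fun c => Nat.beq c cs || Nat.beq c ct || Nat.beq c ct2) = true)
    {K : Subgroup (Equiv.Perm GolayPt)} (h1 : toPerm cs ∈ K) (h2 : toPerm ct ∈ K) :
    ∀ c ∈ L, valid c = true ∧ toPerm c ∈ K := by
  intro c hc
  have h3 := List.all_eq_true.mp h c hc
  simp only [Bool.or_eq_true] at h3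
  rcases h3 with (h3 | h3) | h3
  · rw [Nat.eq_of_beq_eq_true h3]; exact ⟨valid_cs, h1⟩
  · rw [Nat.eq_of_beq_eq_true h3]; exact ⟨valid_ct, h2⟩
  · rw [Nat.eq_of_beq_eq_true h3]
    refine ⟨valid_ct2, ?_⟩
    rw [← ct2_eq, toPerm_mulC valid_ct valid_ct]
    exact K.mul_mem h2 h2

theorem closure_st : Subgroup.closure {toPerm cs, toPerm ct} = M24 := by
  apply le_antisymm
  · rw [Subgroup.closure_le]
    rintro g (rfl | rfl)
    · exact toPerm_mem_M24 inM_cs
    · exact toPerm_mem_M24 inM_ct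
  · have h1 : toPerm cs ∈ Subgroup.closure {toPerm cs, toPerm ct} := Subgroup.subset_closure (by simp)
    have h2 : toPerm ct ∈ Subgroup.closure {toPerm cs, toPerm ct} := Subgroup.subset_closure (by simp)
    refine M24_le_of_gens ?_ ?_ ?_
    · rw [← fold_al]; exact (fold_mem (in3 (by decide +kernel) h1 h2)).2
    · rw [← fold_ga]; exact (fold_mem (in3 (by decide +kernel) h1 h2)).2
    · rw [← fold_de]; exact (fold_mem (in3 (by decide +kernel) h1 h2)).2

theorem top_P24 : Subgroup.closure {(PresentedGroup.of 0 : P24), PresentedGroup.of 1} = ⊤ := by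
  rw [← PresentedGroup.closure_range_of]
  congr 1
  ext v
  constructor
  · rintro (rfl | rfl)
    · exact ⟨0, rfl⟩
    · exact ⟨1, rfl⟩
  · rintro ⟨i, rfl⟩
    fin_cases i
    · exact Or.inl rfl
    · exact Or.inr rfl

theorem card_P24 : Finite P24 ∧ Nat.card P24 ≤ 244823040 := by
  have h := rels_P24.card_le
  rw [top_P24] at h
  haveI := h.1
  refine ⟨Finite.of_equiv _ (Subgroup.topEquiv : (⊤ : Subgroup P24) ≃* P24).toEquiv, ?_⟩
  have h1 := h.2
  rwa [Nat.card_congr (Subgroup.topEquiv : (⊤ : Subgroup P24) ≃* P24).toEquiv] at h1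

/-- the presented group is `M24` -/
theorem iso_P24 : Nonempty (P24 ≃* M24) := by
  obtain ⟨π, h0, h1⟩ := exists_hom (Rels.map rels_perm tr)
  rw [tr_sx] at h0
  rw [tr_sy] at h1
  have hr : π.range = M24 := by
    rw [← closure_st, MonoidHom.range_eq_map, ← top_P24, MonoidHom.map_closure, Set.image_pair, h0, h1]
  haveI := card_P24.1
  have hc : Nat.card π.range = 244823040 := by rw [hr]; exact natCard_M24
  have hb : Function.Bijective π.rangeRestrict := by
    haveI : Finite π.range := Nat.finite_of_card_ne_zero (by rw [hc]; norm_num)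
    refine (Nat.bijective_iff_surjective_and_card _).mpr ⟨π.rangeRestrict_surjective, ?_⟩
    refine le_antisymm (by rw [hc]; exact card_P24.2) ?_
    exact Nat.card_le_card_of_surjective _ π.rangeRestrict_surjective
  exact ⟨(MulEquiv.ofBijective _ hb).trans (MulEquiv.subgroupCongr hr)⟩

/-- the quotient map -/
noncomputable def mk4 : FreeGroup Cfsg.Spor.J4.Gen →* Cfsg.Spor.J4 :=
  PresentedGroup.mk (Cfsg.Spor.coxRelators Cfsg.Spor.J4.edges ∪ {r | r ∈ Cfsg.Spor.J4.extra})

theorem mk4_one {r : FreeGroup Cfsg.Spor.J4.Gen} (h : r ∈ Cfsg.Spor.J4.extra) : mk4 r = 1 :=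
  PresentedGroup.one_of_mem (Or.inr h)

theorem mk4_x : mk4 Cfsg.Spor.J4.x = X 0 := rfl
theorem mk4_y : mk4 Cfsg.Spor.J4.y = X 1 := rfl

theorem rels_J4 : Rels (X 0) (X 1) where
  h1 := by
    have := mk4_one (r := Cfsg.Spor.J4.x ^ 2) (List.mem_cons_self)
    simpa only [map_mul, map_pow, map_inv, mk4_x, mk4_y] using this
  h2 := by
    have := mk4_one (r := Cfsg.Spor.J4.y ^ 3) (List.mem_cons_of_mem _ List.mem_cons_self)
    simpa only [map_mul, map_pow, map_inv, mk4_x, mk4_y] using this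
  h3 := by
    have := mk4_one (r := (Cfsg.Spor.J4.x * Cfsg.Spor.J4.y) ^ 23)
      (List.mem_cons_of_mem _ (List.mem_cons_of_mem _ List.mem_cons_self))
    simpa only [map_mul, map_pow, map_inv, mk4_x, mk4_y] using this
  h4 := by
    have := mk4_one (r := (Cfsg.Spor.J4.x⁻¹ * Cfsg.Spor.J4.y⁻¹ * Cfsg.Spor.J4.x * Cfsg.Spor.J4.y) ^ 12)
      (List.mem_cons_of_mem _ (List.mem_cons_of_mem _ (List.mem_cons_of_mem _ List.mem_cons_self)))
    simpa only [map_mul, map_pow, map_inv, mk4_x, mk4_y] using this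
  h5 := by
    have := mk4_one (r := (Cfsg.Spor.J4.x⁻¹ * (Cfsg.Spor.J4.y * Cfsg.Spor.J4.x * Cfsg.Spor.J4.y)⁻¹ *
      Cfsg.Spor.J4.x * (Cfsg.Spor.J4.y * Cfsg.Spor.J4.x * Cfsg.Spor.J4.y)) ^ 5)
      (List.mem_cons_of_mem _ (List.mem_cons_of_mem _ (List.mem_cons_of_mem _ (List.mem_cons_of_mem _
        List.mem_cons_self))))
    simpa only [map_mul, map_pow, map_inv, mk4_x, mk4_y] using this
  h6 := by
    have := mk4_one (r := (Cfsg.Spor.J4.x * Cfsg.Spor.J4.y * ((Cfsg.Spor.J4.x * Cfsg.Spor.J4.y * Cfsg.Spor.J4.x *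
      (Cfsg.Spor.J4.y⁻¹)) ^ 3)) ^ 4)
      (List.mem_cons_of_mem _ (List.mem_cons_of_mem _ (List.mem_cons_of_mem _ (List.mem_cons_of_mem _
        (List.mem_cons_of_mem _ List.mem_cons_self)))))
    simpa only [map_mul, map_pow, map_inv, mk4_x, mk4_y] using this
  h7 := by
    have := mk4_one (r := ((Cfsg.Spor.J4.x * Cfsg.Spor.J4.y * Cfsg.Spor.J4.x * Cfsg.Spor.J4.y * Cfsg.Spor.J4.x *
      (Cfsg.Spor.J4.y⁻¹)) ^ 3) * ((Cfsg.Spor.J4.x * Cfsg.Spor.J4.y * Cfsg.Spor.J4.x * (Cfsg.Spor.J4.y⁻¹) *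
      Cfsg.Spor.J4.x * (Cfsg.Spor.J4.y⁻¹)) ^ 3))
      (List.mem_cons_of_mem _ (List.mem_cons_of_mem _ (List.mem_cons_of_mem _ (List.mem_cons_of_mem _
        (List.mem_cons_of_mem _ (List.mem_cons_of_mem _ List.mem_cons_self))))))
    simpa only [map_mul, map_pow, map_inv, mk4_x, mk4_y] using this

/-- the subgroup `<x, y>` of `J4` is `M24` -/
theorem hP : Nonempty (PP ≃* M24) := by
  obtain ⟨e⟩ := iso_P24
  obtain ⟨φ, h0, h1⟩ := exists_hom rels_J4
  haveI := isSimpleGroup_of_mulEquiv e.symm M24_simple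
  have hr : φ.range = PP := by
    show _ = Subgroup.closure {X 0, X 1}
    rw [MonoidHom.range_eq_map, ← top_P24, MonoidHom.map_closure, Set.image_pair, h0, h1]
  have hk : φ.ker = ⊥ := by
    rcases (IsSimpleGroup.eq_bot_or_eq_top_of_normal φ.ker inferInstance) with h | h
    · exact h
    · exfalso
      have h2 : gg ∈ φ.range := by rw [hr]; exact gg_mem
      obtain ⟨v, hv⟩ := h2
      have h3 : v ∈ φ.ker := by rw [h]; trivial
      have h4 : gg = 1 := by rw [← hv]; exact h3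
      apply gh_ne
      rw [pr_append, pr_append, ← rho_gg, h4, map_one, one_mul, mul_one]
  have hi : Function.Injective φ := (MonoidHom.ker_eq_bot_iff φ).mp hk
  exact ⟨((MonoidHom.ofInjective hi).trans (MulEquiv.subgroupCongr hr)).symm.trans e⟩

end Cfsg.Agent.Lib.H3J4P
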