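import Cfsg.Agent.Lib.H3M24C5

/-!
# The coset table of `<x,y>` over `<y,u>`: checks 1
-/

set_option autoImplicit false

namespace Cfsg.Agent.Lib.H3M24

open Cfsg.Agent.Lib.H3TC

theorem chkC5_5 : allK (chk F5.get T5.get q5 W5 1732584208 20 1048575 J5) 50037 1500 = true := by decide +kernel
theorem chkC5_6 : allK (chk F5.get T5.get q5 W5 1732584208 20 1048575 J5) 51537 1500 = true := by decide +kernel
theorem chkC5_7 : allK (chk F5.get T5.get q5 W5 1732584208 20 1048575 J5) 53037 1500 = true := by decide +kernel
theorem chkC5_8 : allK (chk F5.get T5.get q5 W5 1732584208 20 1048575 J5) 54537 1500 = true := by decide +kernel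
theorem chkC5_9 : allK (chk F5.get T5.get q5 W5 1732584208 20 1048575 J5) 56037 1500 = true := by decide +kernel
theorem cl5 : allK (clL F5.get T5.get 1732584208 20 1048575 63810 42504 [1, 2, 3]) 0 42504 = true := by decide +kernel

end Cfsg.Agent.Lib.H3M24
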