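import Cfsg.Agent.Lib.H3M24C5

/-!
# The coset table of `<x,y>` over `<y,u>`: checks 2
-/

set_option autoImplicit false

namespace Cfsg.Agent.Lib.H3M24

open Cfsg.Agent.Lib.H3TC

theorem chkC5_10 : allK (chk F5.get T5.get q5 W5 1732584208 20 1048575 J5) 57537 1500 = true := by decide +kernel
theorem chkC5_11 : allK (chk F5.get T5.get q5 W5 1732584208 20 1048575 J5) 59037 1500 = true := by decide +kernel
theorem chkC5_12 : allK (chk F5.get T5.get q5 W5 1732584208 20 1048575 J5) 60537 1500 = true := by decide +kernel
theorem chkC5_13 : allK (chk F5.get T5.get q5 W5 1732584208 20 1048575 J5) 62037 1500 = true := by decide +kernel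
theorem chkC5_14 : allK (chk F5.get T5.get q5 W5 1732584208 20 1048575 J5) 63537 273 = true := by decide +kernel

end Cfsg.Agent.Lib.H3M24
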