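import Cfsg.Agent.Lib.H3M24C4
import Cfsg.Agent.Lib.H3M24D0
import Cfsg.Agent.Lib.H3M24D1
import Cfsg.Agent.Lib.H3M24D2

/-!
# The presentation of `M24`

`⟨x, y | x², y³, (xy)²³, [x,y]¹², [x,yxy]⁵, (xy(xyxy⁻¹)³)⁴, (xyxyxy⁻¹)³(xyxy⁻¹xy⁻¹)³⟩` has order at most `244823040`.
-/

set_option autoImplicit false

namespace Cfsg.Agent.Lib.H3M24

open Cfsg.Agent.Lib.H3TC

section

variable {G : Type*} [Group G]

/-- values of the letters -/
def lt (x y a b : G) : ℕ → G
  | 1 => x
  | 2 => y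
  | 3 => y⁻¹
  | 4 => a
  | 5 => a⁻¹
  | 6 => b
  | 7 => b⁻¹
  | _ => 1

theorem lt_0 (x y a b : G) : lt x y a b 0 = 1 := rfl
theorem lt_1 (x y a b : G) : lt x y a b 1 = x := rfl
theorem lt_2 (x y a b : G) : lt x y a b 2 = y := rfl
theorem lt_3 (x y a b : G) : lt x y a b 3 = y⁻¹ := rfl
theorem lt_4 (x y a b : G) : lt x y a b 4 = a := rfl
theorem lt_5 (x y a b : G) : lt x y a b 5 = a⁻¹ := rfl
theorem lt_6 (x y a b : G) : lt x y a b 6 = b := rfl
theorem lt_7 (x y a b : G) : lt x y a b 7 = b⁻¹ := rfl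

/-- values of the letters -/
def lu (y u z : G) : ℕ → G
  | 1 => y
  | 2 => y⁻¹
  | 3 => u
  | 4 => u⁻¹
  | 5 => z
  | 6 => z⁻¹
  | _ => 1

theorem lu_0 (y u z : G) : lu y u z 0 = 1 := rfl
theorem lu_1 (y u z : G) : lu y u z 1 = y := rfl
theorem lu_2 (y u z : G) : lu y u z 2 = y⁻¹ := rfl
theorem lu_3 (y u z : G) : lu y u z 3 = u := rfl
theorem lu_4 (y u z : G) : lu y u z 4 = u⁻¹ := rfl
theorem lu_5 (y u z : G) : lu y u z 5 = z := rfl
theorem lu_6 (y u z : G) : lu y u z 6 = z⁻¹ := rfl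

theorem ivf_big {iv m : ℕ} (h : iv < 2 ^ (4 * m)) (n : ℕ) : ivf iv (n + m) = 0 := by
  have e : ivf iv (n + m) = (iv >>> (4 * (n + m))) &&& 15 := rfl
  rw [e, Nat.shiftRight_eq_div_pow, Nat.div_eq_of_lt, Nat.zero_and]
  exact h.trans_le (Nat.pow_le_pow_right (by norm_num) (by omega))

theorem lt_iv {x y a b : G} (hx : x⁻¹ = x) : ∀ c, lt x y a b (ivf 1732584208 c) = (lt x y a b c)⁻¹
  | 0 => by
    have e : ivf 1732584208 0 = 0 := by decide +kernel
    rw [e, lt_0, inv_one]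
  | 1 => by
    have e : ivf 1732584208 1 = 1 := by decide +kernel
    rw [e, lt_1, hx]
  | 2 => by
    have e : ivf 1732584208 2 = 3 := by decide +kernel
    rw [e, lt_2, lt_3]
  | 3 => by
    have e : ivf 1732584208 3 = 2 := by decide +kernel
    rw [e, lt_2, lt_3, inv_inv]
  | 4 => by
    have e : ivf 1732584208 4 = 5 := by decide +kernel
    rw [e, lt_4, lt_5]
  | 5 => by
    have e : ivf 1732584208 5 = 4 := by decide +kernel
    rw [e, lt_4, lt_5, inv_inv]
  | 6 => by
    have e : ivf 1732584208 6 = 7 := by decide +kernel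
    rw [e, lt_6, lt_7]
  | 7 => by
    have e : ivf 1732584208 7 = 6 := by decide +kernel
    rw [e, lt_6, lt_7, inv_inv]
  | n + 8 => by
    have e : ivf 1732584208 (n + 8) = 0 := ivf_big (by norm_num) n
    have e2 : lt x y a b (n + 8) = 1 := rfl
    rw [e, e2, lt_0, inv_one]

theorem lu_iv {y u z : G} : ∀ c, lu y u z (ivf 90390816 c) = (lu y u z c)⁻¹
  | 0 => by
    have e : ivf 90390816 0 = 0 := by decide +kernel
    rw [e, lu_0, inv_one]
  | 1 => by
    have e : ivf 90390816 1 = 2 := by decide +kernel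
    rw [e, lu_1, lu_2]
  | 2 => by
    have e : ivf 90390816 2 = 1 := by decide +kernel
    rw [e, lu_1, lu_2, inv_inv]
  | 3 => by
    have e : ivf 90390816 3 = 4 := by decide +kernel
    rw [e, lu_3, lu_4]
  | 4 => by
    have e : ivf 90390816 4 = 3 := by decide +kernel
    rw [e, lu_3, lu_4, inv_inv]
  | 5 => by
    have e : ivf 90390816 5 = 6 := by decide +kernel
    rw [e, lu_5, lu_6]
  | 6 => by
    have e : ivf 90390816 6 = 5 := by decide +kernel
    rw [e, lu_5, lu_6, inv_inv]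
  | n + 7 => by
    have e : ivf 90390816 (n + 7) = 0 := ivf_big (by norm_num) n
    have e2 : lu y u z (n + 7) = 1 := rfl
    rw [e, e2, lu_0, inv_one]

theorem of_rot {g : ℕ → G} {w : List ℕ} {i : ℕ} (h : wv g (appK (dropK i w) (takeK i w)) = 1) : wv g w = 1 := by
  rw [appK_eq, wv_app, mul_eq_one_iff_eq_inv] at h
  rw [← take_drop i w, wv_app, h, mul_inv_cancel]

theorem km_lt {km c m : ℕ} (hm : km < 2 ^ m) (h : Nat.land (Nat.shiftRight km c) 1 = 1) : c < m := by
  by_contra hc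
  have e : Nat.land (Nat.shiftRight km c) 1 = (km >>> c) &&& 1 := rfl
  rw [e, Nat.shiftRight_eq_div_pow, Nat.div_eq_of_lt, Nat.zero_and] at h
  · exact absurd h (by norm_num)
  · exact hm.trans_le (Nat.pow_le_pow_right (by norm_num) (by omega))

/-- the relations of `M24` -/
structure Rels (x y : G) : Prop where
  h1 : x ^ 2 = 1
  h2 : y ^ 3 = 1
  h3 : (x * y) ^ 23 = 1
  h4 : (x⁻¹ * y⁻¹ * x * y) ^ 12 = 1
  h5 : (x⁻¹ * (y * x * y)⁻¹ * x * (y * x * y)) ^ 5 = 1
  h6 : (x * y * ((x * y * x * y⁻¹) ^ 3)) ^ 4 = 1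
  h7 : (x * y * x * y * x * y⁻¹) ^ 3 * (x * y * x * y⁻¹ * x * y⁻¹) ^ 3 = 1

variable {x y : G}

theorem Rels.hx (R : Rels x y) : x⁻¹ = x := by
  have := R.h1
  rw [pow_two] at this
  exact inv_eq_of_mul_eq_one_left this

theorem Rels.rxx (R : Rels x y) (a b : G) : wv (lt x y a b) wxx = 1 := by
  have := R.h1
  rw [pow_two] at this
  simpa [wv, wxx, lt_1] using this

theorem Rels.ryyy (R : Rels x y) (a b : G) : wv (lt x y a b) wyyy = 1 := by
  have := R.h2
  rw [pow_succ, pow_two] at this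
  simpa [wv, wyyy, lt_2, mul_assoc] using this

theorem Rels.ryY (a b : G) : wv (lt x y a b) wyY = 1 := by
  simp [wv, wyY, lt_2, lt_3]

theorem Rels.rC (R : Rels x y) (a b : G) : wv (lt x y a b) wC = 1 := by
  rw [← R.h3]
  simp only [wv, wC, List.map, List.prod_cons, List.prod_nil, lt_1, lt_2, lt_3, pow_succ, pow_zero, one_mul, mul_one,
    mul_assoc]

theorem Rels.rD (R : Rels x y) (a b : G) : wv (lt x y a b) wD = 1 := by
  rw [← R.h4]
  simp only [wv, wD, List.map, List.prod_cons, List.prod_nil, lt_1, lt_2, lt_3, pow_succ, pow_zero, one_mul, mul_one,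
    mul_assoc, R.hx]

theorem Rels.rB (R : Rels x y) (a b : G) : wv (lt x y a b) wB = 1 := by
  rw [← R.h5]
  simp only [wv, wB, List.map, List.prod_cons, List.prod_nil, lt_1, lt_2, lt_3, pow_succ, pow_zero, one_mul, mul_one,
    mul_assoc, R.hx, mul_inv_rev]

theorem Rels.rE (R : Rels x y) (a b : G) : wv (lt x y a b) wE = 1 := by
  rw [← R.h6]
  simp only [wv, wE, List.map, List.prod_cons, List.prod_nil, lt_1, lt_2, lt_3, pow_succ, pow_zero, one_mul, mul_one,
    mul_assoc]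

theorem Rels.rA (R : Rels x y) (a b : G) : wv (lt x y a b) wA = 1 := by
  rw [← R.h7]
  simp only [wv, wA, List.map, List.prod_cons, List.prod_nil, lt_1, lt_2, lt_3, pow_succ, pow_zero, one_mul, mul_one,
    mul_assoc]

/-! ### stage 1 -/

theorem Rels.hW1 (R : Rels x y) : ∀ w ∈ W1, wv (lt x y 1 1) w = 1 := by
  intro w hw
  simp only [W1, List.mem_cons, List.not_mem_nil, or_false] at hw
  rcases hw with rfl | rfl | rfl | rfl | rfl | rfl | rfl | rfl | rfl
  · exact R.rxx _ _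
  · exact R.ryyy _ _
  · exact R.rA _ _
  · exact R.rB _ _
  · exact R.rC _ _
  · exact R.rD _ _
  · exact R.rE _ _
  · exact R.rxx _ _
  · exact Rels.ryY _ _

theorem Rels.valid1 (R : Rels x y) :
    ∀ j < 301, Valid (⊥ : Subgroup G) (lt x y 1 1) (repF (lt x y 1 1) F1.get) (F1.get j) :=
  valid_all (iv := 1732584208) (t := fun _ => 0) (q := fun _ => 0) (sw := 0) (mk := 0) (L := []) (nL := 279)
    (lt_0 _ _ _ _) (lt_iv R.hx) R.hW1 (fun j hj => valid_D chkD1 j (Nat.zero_le _) (by omega))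
    (fun j h1 h2 => Or.inr (chkL_spec chkL1 j h1 (by rw [lenJ1]; omega)))

theorem Rels.r_t5 (R : Rels x y) : wv (lt x y 1 1) w_t5 = 1 :=
  of_rot (Subgroup.mem_bot.mp (rel_mem (lt_0 _ _ _ _) (lt_iv R.hx) R.valid1 tgt1_t5))
theorem Rels.r_t9 (R : Rels x y) : wv (lt x y 1 1) w_t9 = 1 :=
  of_rot (Subgroup.mem_bot.mp (rel_mem (lt_0 _ _ _ _) (lt_iv R.hx) R.valid1 tgt1_t9))
theorem Rels.r_t10 (R : Rels x y) : wv (lt x y 1 1) w_t10 = 1 :=
  of_rot (Subgroup.mem_bot.mp (rel_mem (lt_0 _ _ _ _) (lt_iv R.hx) R.valid1 tgt1_t10))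
theorem Rels.r_t15 (R : Rels x y) : wv (lt x y 1 1) w_t15 = 1 :=
  of_rot (Subgroup.mem_bot.mp (rel_mem (lt_0 _ _ _ _) (lt_iv R.hx) R.valid1 tgt1_t15))
theorem Rels.r_t16 (R : Rels x y) : wv (lt x y 1 1) w_t16 = 1 :=
  of_rot (Subgroup.mem_bot.mp (rel_mem (lt_0 _ _ _ _) (lt_iv R.hx) R.valid1 tgt1_t16))
theorem Rels.r_c (R : Rels x y) : wv (lt x y 1 1) w_c = 1 :=
  of_rot (Subgroup.mem_bot.mp (rel_mem (lt_0 _ _ _ _) (lt_iv R.hx) R.valid1 tgt1_c))
theorem Rels.r_t22 (R : Rels x y) : wv (lt x y 1 1) w_t22 = 1 :=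
  of_rot (Subgroup.mem_bot.mp (rel_mem (lt_0 _ _ _ _) (lt_iv R.hx) R.valid1 tgt1_t22))

/-! ### stage 2 -/

theorem Rels.hW2 (R : Rels x y) : ∀ w ∈ W2, wv (lt x y 1 1) w = 1 := by
  intro w hw
  simp only [W2, List.mem_cons, List.not_mem_nil, or_false] at hw
  rcases hw with rfl | rfl | rfl | rfl | rfl | rfl | rfl | rfl | rfl | rfl | rfl | rfl | rfl | rfl | rfl
  · exact R.rxx _ _
  · exact R.ryyy _ _
  · exact R.rA _ _
  · exact R.rB _ _
  · exact R.rC _ _
  · exact R.rD _ _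
  · exact R.r_t5
  · exact R.rE _ _
  · exact R.r_t9
  · exact R.r_t10
  · exact R.r_t15
  · exact R.r_t16
  · exact R.r_t22
  · exact R.rxx _ _
  · exact Rels.ryY _ _

theorem Rels.valid2 (R : Rels x y) :
    ∀ j < 434, Valid (⊥ : Subgroup G) (lt x y 1 1) (repF (lt x y 1 1) F2.get) (F2.get j) :=
  valid_all (iv := 1732584208) (t := fun _ => 0) (q := fun _ => 0) (sw := 0) (mk := 0) (L := []) (nL := 384)
    (lt_0 _ _ _ _) (lt_iv R.hx) R.hW2 (fun j hj => valid_D chkD2 j (Nat.zero_le _) (by omega))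
    (fun j h1 h2 => Or.inr (chkL_spec chkL2 j h1 (by rw [lenJ2]; omega)))

theorem Rels.r_t23 (R : Rels x y) : wv (lt x y 1 1) w_t23 = 1 :=
  of_rot (Subgroup.mem_bot.mp (rel_mem (lt_0 _ _ _ _) (lt_iv R.hx) R.valid2 tgt2_t23))

/-! ### stage 3 -/

/-- words in the letters `1, 2, 3` do not see the other letters -/
theorem wv_ext (a b : G) {w : List ℕ} (h : ∀ c ∈ w, c < 4) : wv (lt x y a b) w = wv (lt x y 1 1) w := by
  unfold wv
  congr 1
  refine List.map_congr_left fun c hc => ?_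
  have := h c hc
  interval_cases c <;> rfl

theorem Rels.hW3 (R : Rels x y) : ∀ w ∈ W3, wv (lt x y (x * y) 1) w = 1 := by
  intro w hw
  simp only [W3, List.mem_cons, List.not_mem_nil, or_false] at hw
  rcases hw with rfl | rfl | rfl | rfl | rfl | rfl | rfl | rfl | rfl | rfl | rfl | rfl | rfl | rfl | rfl | rfl | rfl
  · exact R.rxx _ _
  · exact R.ryyy _ _
  · exact R.rA _ _
  · exact R.rB _ _
  · exact R.rC _ _
  · exact R.rD _ _
  · rw [wv_ext _ _ (by decide +kernel)]; exact R.r_t5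
  · exact R.rE _ _
  · rw [wv_ext _ _ (by decide +kernel)]; exact R.r_t9
  · rw [wv_ext _ _ (by decide +kernel)]; exact R.r_t10
  · rw [wv_ext _ _ (by decide +kernel)]; exact R.r_t15
  · rw [wv_ext _ _ (by decide +kernel)]; exact R.r_t16
  · rw [wv_ext _ _ (by decide +kernel)]; exact R.r_t22
  · rw [wv_ext _ _ (by decide +kernel)]; exact R.r_t23
  · simp [wv, wz, lt_5, lt_1, lt_2]
  · exact R.rxx _ _
  · exact Rels.ryY _ _

theorem Rels.valid3 (R : Rels x y) : ∀ j < 1799, Valid (Subgroup.zpowers (x * y)) (lt x y (x * y) 1)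
    (repF (lt x y (x * y) 1) F3.get) (F3.get j) := by
  refine valid_all (iv := 1732584208) (t := fun _ => 0) (q := fun _ => 0) (sw := 0) (mk := 0) (L := []) (nL := 1551)
    (lt_0 _ _ _ _) (lt_iv R.hx) R.hW3 (fun j hj => ?_)
    (fun j h1 h2 => Or.inr (chkL_spec chkL3 j h1 (by rw [lenJ3]; omega)))
  by_cases h : j < 1550
  · exact valid_D chkD3 j (Nat.zero_le _) (by omega)
  · refine valid_P (fun c hc => ?_) chkP3 j (by omega) (by omega)
    have h5 := km_lt (m := 5) (by norm_num) hc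
    interval_cases c
    · exact absurd hc (by decide +kernel)
    · exact absurd hc (by decide +kernel)
    · exact absurd hc (by decide +kernel)
    · exact absurd hc (by decide +kernel)
    · exact Subgroup.mem_zpowers _

theorem Rels.f_mem (R : Rels x y) :
    wv (lt x y 1 1) (appK (dropK 2 w_f) (takeK 2 w_f)) ∈ Subgroup.zpowers (x * y) := by
  have := rel_mem (lt_0 _ _ _ _) (lt_iv R.hx) R.valid3 tgt3_f
  rwa [wv_ext _ _ (by decide +kernel)] at this

end

/-! ### the permutation representation -/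

/-- a permutation -/
def sx : Equiv.Perm (Fin 24) where
  toFun := ![6, 16, 20, 8, 12, 22, 0, 21, 3, 10, 9, 15, 4, 17, 23, 11, 1, 13, 19, 18, 2, 7, 5, 14]
  invFun := ![6, 16, 20, 8, 12, 22, 0, 21, 3, 10, 9, 15, 4, 17, 23, 11, 1, 13, 19, 18, 2, 7, 5, 14]
  left_inv := by decide +kernel
  right_inv := by decide +kernel

/-- a permutation -/
def sy : Equiv.Perm (Fin 24) where
  toFun := ![21, 8, 0, 14, 20, 5, 3, 9, 22, 11, 10, 7, 13, 17, 6, 15, 16, 12, 18, 4, 19, 2, 1, 23]
  invFun := ![2, 22, 21, 6, 19, 5, 14, 11, 1, 7, 10, 9, 17, 12, 3, 15, 16, 13, 18, 20, 4, 0, 8, 23]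
  left_inv := by decide +kernel
  right_inv := by decide +kernel

theorem rels_perm : Rels sx sy where
  h1 := by decide +kernel
  h2 := by decide +kernel
  h3 := by decide +kernel
  h4 := by decide +kernel
  h5 := by decide +kernel
  h6 := by decide +kernel
  h7 := by decide +kernel

theorem perm_ne : sx * sy ≠ 1 := by decide +kernel

theorem perm_f : wv (lt sx sy 1 1) (appK (dropK 2 w_f) (takeK 2 w_f)) = 1 := by decide +kernel

/-- the relators in the free group -/
def rels24 : Set (FreeGroup (Fin 2)) :=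
  {w | w = (FreeGroup.of 0) ^ 2 ∨ w = (FreeGroup.of 1) ^ 3 ∨ w = (FreeGroup.of 0 * FreeGroup.of 1) ^ 23 ∨
    w = ((FreeGroup.of 0)⁻¹ * (FreeGroup.of 1)⁻¹ * FreeGroup.of 0 * FreeGroup.of 1) ^ 12 ∨
    w = ((FreeGroup.of 0)⁻¹ * (FreeGroup.of 1 * FreeGroup.of 0 * FreeGroup.of 1)⁻¹ * FreeGroup.of 0 *
      (FreeGroup.of 1 * FreeGroup.of 0 * FreeGroup.of 1)) ^ 5 ∨
    w = (FreeGroup.of 0 * FreeGroup.of 1 * ((FreeGroup.of 0 * FreeGroup.of 1 * FreeGroup.of 0 *
      (FreeGroup.of 1)⁻¹) ^ 3)) ^ 4 ∨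
    w = (FreeGroup.of 0 * FreeGroup.of 1 * FreeGroup.of 0 * FreeGroup.of 1 * FreeGroup.of 0 *
      (FreeGroup.of 1)⁻¹) ^ 3 * (FreeGroup.of 0 * FreeGroup.of 1 * FreeGroup.of 0 * (FreeGroup.of 1)⁻¹ *
      FreeGroup.of 0 * (FreeGroup.of 1)⁻¹) ^ 3}

/-- the universal group -/
abbrev P24 : Type := PresentedGroup rels24

theorem rels_P24 : Rels (PresentedGroup.of 0 : P24) (PresentedGroup.of 1 : P24) where
  h1 := PresentedGroup.one_of_mem (rels := rels24) (Or.inl rfl)
  h2 := PresentedGroup.one_of_mem (rels := rels24) (Or.inr (Or.inl rfl))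
  h3 := PresentedGroup.one_of_mem (rels := rels24) (Or.inr (Or.inr (Or.inl rfl)))
  h4 := PresentedGroup.one_of_mem (rels := rels24) (Or.inr (Or.inr (Or.inr (Or.inl rfl))))
  h5 := PresentedGroup.one_of_mem (rels := rels24) (Or.inr (Or.inr (Or.inr (Or.inr (Or.inl rfl)))))
  h6 := PresentedGroup.one_of_mem (rels := rels24) (Or.inr (Or.inr (Or.inr (Or.inr (Or.inr (Or.inl rfl))))))
  h7 := PresentedGroup.one_of_mem (rels := rels24) (Or.inr (Or.inr (Or.inr (Or.inr (Or.inr (Or.inr rfl))))))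

theorem exists_hom {G : Type*} [Group G] {x y : G} (R : Rels x y) :
    ∃ φ : P24 →* G, φ (PresentedGroup.of 0) = x ∧ φ (PresentedGroup.of 1) = y := by
  have h : ∀ r ∈ rels24, FreeGroup.lift (![x, y] : Fin 2 → G) r = 1 := by
    intro r hr
    rcases hr with rfl | rfl | rfl | rfl | rfl | rfl | rfl
    · simpa using R.h1
    · simpa using R.h2
    · simpa using R.h3
    · simpa using R.h4
    · simpa using R.h5
    · simpa using R.h6
    · simpa using R.h7
  exact ⟨PresentedGroup.toGroup h, by rw [PresentedGroup.toGroup.of]; rfl, by rw [PresentedGroup.toGroup.of]; rfl⟩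

theorem map_lt {G H : Type*} [Group G] [Group H] (φ : G →* H) (x y : G) (c : ℕ) :
    φ (lt x y 1 1 c) = lt (φ x) (φ y) 1 1 c := by
  unfold lt
  split <;> simp

theorem map_wv {G H : Type*} [Group G] [Group H] (φ : G →* H) (x y : G) (w : List ℕ) :
    φ (wv (lt x y 1 1) w) = wv (lt (φ x) (φ y) 1 1) w := by
  induction w with
  | nil => simp [wv]
  | cons c w ih => rw [wv_cons, wv_cons, map_mul, ih, map_lt]

theorem f_P24 : wv (lt (PresentedGroup.of 0 : P24) (PresentedGroup.of 1 : P24) 1 1)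
    (appK (dropK 2 w_f) (takeK 2 w_f)) = 1 := by
  obtain ⟨k, hk⟩ := Subgroup.mem_zpowers_iff.mp rels_P24.f_mem
  obtain ⟨π, hπ0, hπ1⟩ := exists_hom rels_perm
  have h1 := congrArg π hk
  rw [map_wv, hπ0, hπ1, perm_f, map_zpow, map_mul, hπ0, hπ1] at h1
  have hp : Nat.Prime 23 := by norm_num
  have ho : orderOf (sx * sy) = 23 := orderOf_eq_prime_iff (hp := ⟨hp⟩) |>.mpr ⟨rels_perm.h3, perm_ne⟩
  have hd : ((23 : ℕ) : ℤ) ∣ k := by
    rw [← ho]; exact orderOf_dvd_iff_zpow_eq_one.mpr h1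
  obtain ⟨m, rfl⟩ := hd
  rw [← hk, zpow_mul, zpow_natCast, rels_P24.h3, one_zpow]

section

variable {G : Type*} [Group G] {x y : G}

theorem Rels.r_f (R : Rels x y) : wv (lt x y 1 1) w_f = 1 := by
  obtain ⟨φ, h0, h1⟩ := exists_hom R
  have := congrArg φ f_P24
  rw [map_wv, h0, h1, map_one] at this
  exact of_rot this

/-! ### the subgroup `<y, u>` -/

/-- the second generator of the subgroup -/
def uu (x y : G) : G := x * (y⁻¹ * (x * (y * (x * (y * x)))))

theorem Rels.uu_inv (R : Rels x y) : (uu x y)⁻¹ = x * (y⁻¹ * (x * (y⁻¹ * (x * (y * x))))) := by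
  unfold uu
  simp only [mul_inv_rev, R.hx, inv_inv, mul_assoc]

theorem Rels.uu_eq (R : Rels x y) : uu x y = (x * y⁻¹ * x) * y * (x * y⁻¹ * x)⁻¹ := by
  unfold uu
  simp only [mul_inv_rev, R.hx, inv_inv, mul_assoc]

theorem Rels.uy (R : Rels x y) : y * (uu x y)⁻¹ = y * (x⁻¹ * (y * x * y)⁻¹ * x * (y * x * y)) * y⁻¹ := by
  rw [R.uu_inv]
  simp only [mul_inv_rev, R.hx, mul_assoc, mul_inv_cancel, mul_one]

theorem Rels.hW4 (R : Rels x y) : ∀ w ∈ W4, wv (lu y (uu x y) y) w = 1 := by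
  intro w hw
  simp only [W4, List.mem_cons, List.not_mem_nil, or_false] at hw
  rcases hw with rfl | rfl | rfl | rfl | rfl | rfl | rfl | rfl
  · have := R.h2
    rw [pow_succ, pow_two] at this
    simpa [wv, v0, lu_1, mul_assoc] using this
  · have : (uu x y) ^ 3 = 1 := by rw [R.uu_eq, conj_pow, R.h2, mul_one, mul_inv_cancel]
    rw [pow_succ, pow_two] at this
    simpa [wv, v1, lu_3, mul_assoc] using this
  · have : (y * (uu x y)⁻¹) ^ 5 = 1 := by rw [R.uy, conj_pow, R.h5, mul_one, mul_inv_cancel]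
    rw [← this]
    simp only [wv, v2, List.map, List.prod_cons, List.prod_nil, lu_1, lu_4, pow_succ, pow_zero, one_mul, mul_one,
      mul_assoc]
  · rw [← R.r_c]
    simp only [wv, v3, w_c, List.map, List.prod_cons, List.prod_nil, lu_1, lu_2, lu_3, lu_4, R.uu_inv,
      lt_1, lt_2, lt_3, mul_one]
    simp only [uu, mul_assoc]
  · rw [← R.r_f]
    simp only [wv, v4, w_f, List.map, List.prod_cons, List.prod_nil, lu_1, lu_2, lu_3, lu_4, R.uu_inv,
      lt_1, lt_2, lt_3, mul_one]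
    simp only [uu, mul_assoc]
  · simp [wv, v5, lu_6, lu_1]
  · simp [wv, v6, lu_1, lu_2]
  · simp [wv, v7, lu_3, lu_4]

theorem Rels.valid4 (R : Rels x y) : ∀ j < 3841, Valid (Subgroup.zpowers y) (lu y (uu x y) y)
    (repF (lu y (uu x y) y) F4.get) (F4.get j) := by
  refine valid_all (iv := 90390816) (t := T4.get) (q := q4) (sw := 16) (mk := 65535) (L := J4) (nL := 1920)
    (lu_0 _ _ _) lu_iv R.hW4 (fun j hj => ?_) (fun j h1 h2 => Or.inl (allK_spec chkC4 j h1 (by omega)))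
  by_cases h : j < 1919
  · exact valid_D chkD4 j (Nat.zero_le _) (by omega)
  · refine valid_P (fun c hc => ?_) chkP4 j (by omega) (by omega)
    have h5 := km_lt (m := 6) (by norm_num) hc
    interval_cases c
    · exact absurd hc (by decide +kernel)
    · exact absurd hc (by decide +kernel)
    · exact absurd hc (by decide +kernel)
    · exact absurd hc (by decide +kernel)
    · exact absurd hc (by decide +kernel)
    · exact Subgroup.mem_zpowers _

theorem Rels.card_H (R : Rels x y) :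
    Finite (Subgroup.closure {y, uu x y}) ∧ Nat.card (Subgroup.closure {y, uu x y}) ≤ 5760 := by
  have hy : IsOfFinOrder y := isOfFinOrder_iff_pow_eq_one.mpr ⟨3, by norm_num, R.h2⟩
  haveI : Finite (Subgroup.zpowers y) := finite_zpowers.mpr hy
  have h1 := enum_card (K := Subgroup.zpowers y) (cs := [1, 2, 3, 4]) (iv := 90390816) (n := 1920) lu_iv R.valid4
    (by norm_num) (by decide +kernel) (fun i hi => allK_spec cl4 i (Nat.zero_le _) (by omega))
    (Subgroup.closure {y, uu x y}) (Subgroup.closure_mono (by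
      rintro v (rfl | rfl)
      · exact ⟨1, by simp, rfl⟩
      · exact ⟨3, by simp, rfl⟩))
  refine ⟨h1.1, h1.2.trans ?_⟩
  have h2 : Nat.card (Subgroup.zpowers y) ≤ 3 := by
    rw [Nat.card_zpowers]
    exact Nat.le_of_dvd (by norm_num) (orderOf_dvd_of_pow_eq_one R.h2)
  calc 1920 * Nat.card (Subgroup.zpowers y) ≤ 1920 * 3 := Nat.mul_le_mul_left _ h2
    _ = 5760 := by norm_num

/-! ### the index -/

theorem Rels.hW5 (R : Rels x y) : ∀ w ∈ W5, wv (lt x y y (uu x y)) w = 1 := by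
  intro w hw
  simp only [W5, List.mem_cons, List.not_mem_nil, or_false] at hw
  rcases hw with rfl | rfl | rfl | rfl | rfl | rfl | rfl | rfl | rfl | rfl | rfl
  · exact R.rxx _ _
  · exact R.ryyy _ _
  · exact R.rA _ _
  · exact R.rB _ _
  · exact R.rC _ _
  · exact R.rD _ _
  · exact R.rE _ _
  · simp [wv, u7, lt_5, lt_2]
  · simp only [wv, u8, List.map, List.prod_cons, List.prod_nil, lt_7, lt_1, lt_2, lt_3, mul_one]
    exact inv_mul_cancel (uu x y)
  · exact R.rxx _ _
  · exact Rels.ryY _ _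

theorem Rels.valid5 (R : Rels x y) : ∀ j < 63810, Valid (Subgroup.closure {y, uu x y}) (lt x y y (uu x y))
    (repF (lt x y y (uu x y)) F5.get) (F5.get j) := by
  refine valid_all (iv := 1732584208) (t := T5.get) (q := q5) (sw := 20) (mk := 1048575) (L := J5) (nL := 42537)
    (lt_0 _ _ _ _) (lt_iv R.hx) R.hW5 (fun j hj => ?_) (fun j h1 h2 => Or.inl ?_)
  · by_cases h : j < 42535
    · exact valid_D chkD5 j (Nat.zero_le _) (by omega)
    · refine valid_P (fun c hc => ?_) chkP5 j (by omega) (by omega)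
      have h5 := km_lt (m := 7) (by norm_num) hc
      interval_cases c
      · exact absurd hc (by decide +kernel)
      · exact absurd hc (by decide +kernel)
      · exact absurd hc (by decide +kernel)
      · exact absurd hc (by decide +kernel)
      · exact Subgroup.subset_closure (by simp [lt_4])
      · exact absurd hc (by decide +kernel)
      · exact Subgroup.subset_closure (by simp [lt_6])
  · by_cases b0 : j < 44037
    · exact allK_spec chkC5_0 j (by omega) (by omega)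
    by_cases b1 : j < 45537
    · exact allK_spec chkC5_1 j (by omega) (by omega)
    by_cases b2 : j < 47037
    · exact allK_spec chkC5_2 j (by omega) (by omega)
    by_cases b3 : j < 48537
    · exact allK_spec chkC5_3 j (by omega) (by omega)
    by_cases b4 : j < 50037
    · exact allK_spec chkC5_4 j (by omega) (by omega)
    by_cases b5 : j < 51537
    · exact allK_spec chkC5_5 j (by omega) (by omega)
    by_cases b6 : j < 53037
    · exact allK_spec chkC5_6 j (by omega) (by omega)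
    by_cases b7 : j < 54537
    · exact allK_spec chkC5_7 j (by omega) (by omega)
    by_cases b8 : j < 56037
    · exact allK_spec chkC5_8 j (by omega) (by omega)
    by_cases b9 : j < 57537
    · exact allK_spec chkC5_9 j (by omega) (by omega)
    by_cases b10 : j < 59037
    · exact allK_spec chkC5_10 j (by omega) (by omega)
    by_cases b11 : j < 60537
    · exact allK_spec chkC5_11 j (by omega) (by omega)
    by_cases b12 : j < 62037
    · exact allK_spec chkC5_12 j (by omega) (by omega)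
    by_cases b13 : j < 63537
    · exact allK_spec chkC5_13 j (by omega) (by omega)
    exact allK_spec chkC5_14 j (by omega) (by omega)

/-- the order of a group satisfying the relations of `M24` -/
theorem Rels.card_le (R : Rels x y) :
    Finite (Subgroup.closure {x, y}) ∧ Nat.card (Subgroup.closure {x, y}) ≤ 244823040 := by
  haveI := R.card_H.1
  have h1 := enum_card (K := Subgroup.closure {y, uu x y}) (cs := [1, 2, 3]) (iv := 1732584208) (n := 42504)
    (lt_iv R.hx) R.valid5 (by norm_num) (by decide +kernel) (fun i hi => allK_spec cl5 i (Nat.zero_le _) (by omega))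
    (Subgroup.closure {x, y}) (Subgroup.closure_mono (by
      rintro v (rfl | rfl)
      · exact ⟨1, by simp, rfl⟩
      · exact ⟨2, by simp, rfl⟩))
  refine ⟨h1.1, h1.2.trans ?_⟩
  calc 42504 * Nat.card (Subgroup.closure {y, uu x y}) ≤ 42504 * 5760 := Nat.mul_le_mul_left _ R.card_H.2
    _ = 244823040 := by norm_num

end

/-- a group satisfying the relations of `M24` has order at most `|M24|` -/
theorem m24_card {G : Type*} [Group G] (x y : G) (h1 : x ^ 2 = 1) (h2 : y ^ 3 = 1) (h3 : (x * y) ^ 23 = 1)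
    (h4 : (x⁻¹ * y⁻¹ * x * y) ^ 12 = 1) (h5 : (x⁻¹ * (y * x * y)⁻¹ * x * (y * x * y)) ^ 5 = 1)
    (h6 : (x * y * ((x * y * x * y⁻¹) ^ 3)) ^ 4 = 1)
    (h7 : (x * y * x * y * x * y⁻¹) ^ 3 * (x * y * x * y⁻¹ * x * y⁻¹) ^ 3 = 1) :
    Finite (Subgroup.closure {x, y}) ∧ Nat.card (Subgroup.closure {x, y}) ≤ 244823040 :=
  Rels.card_le ⟨h1, h2, h3, h4, h5, h6, h7⟩

end Cfsg.Agent.Lib.H3M24
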