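import Cfsg.Agent.Lib.H3MU1
import Cfsg.Agent.Lib.ConjSylow

/-!
# Multipliers by parabolic subgroups (helper3)
-/

set_option autoImplicit false

namespace Cfsg.Agent.Lib.H3MU

open Subgroup Cfsg Cfsg.Agent.Lib.SchurSylow
open scoped commutatorElement

universe u v w

/-- a stem extension by a `p`-group splits when it splits over a subgroup `L` and there is a `p`-group `Q` normalized by `L`,
with `[Q^, Q^]` meeting the kernel trivially, `QL` of index prime to `p`, and a `p'`-element `c` centralizing `L` acting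
fixed-point-freely on `Q / [Q, Q]` -/
theorem par_abs {Γ G : Type u} [Group Γ] [Finite Γ] [Group G] {p : ℕ} [hp : Fact p.Prime] (σ : Γ →* G) (hσ : IsStemExtension σ)
    (hk : IsPGroup p σ.ker) (Q : Subgroup G) (hQ : IsPGroup p Q)
    (hQZ : ∀ z ∈ ⁅Q.comap σ, Q.comap σ⁆, σ z = 1 → z = 1)
    (c : G) (hc : ∀ x ∈ Q, c * x * c⁻¹ ∈ Q) (hco : (orderOf c).Coprime p)
    (hfix : ∀ x ∈ Q, c * x * c⁻¹ * x⁻¹ ∈ ⁅Q, Q⁆ → x ∈ ⁅Q, Q⁆)
    {H : Type*} [Group H] (l : H →* Γ) (hlc : ∀ h, c * σ (l h) = σ (l h) * c)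
    (hln : ∀ h, ∀ x ∈ Q, σ (l h) * x * (σ (l h))⁻¹ ∈ Q) (hli : ∀ h, σ (l h) ∈ Q → l h = 1)
    (hidx : ¬ p ∣ (Q ⊔ (σ.comp l).range).index) : σ.ker = ⊥ := by
  classical
  obtain ⟨d, hd⟩ := hσ.1 c
  set M := Q.comap σ with hM
  have hMd : ∀ x ∈ M, d * x * d⁻¹ ∈ M := by
    intro x hx
    rw [hM, mem_comap, map_mul, map_mul, map_inv, hd]; exact hc _ hx
  have hMl : ∀ h, ∀ x ∈ M, l h * x * (l h)⁻¹ ∈ M := by
    intro h x hx
    rw [hM, mem_comap, map_mul, map_mul, map_inv]; exact hln _ _ hx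
  have hZM : ∀ z ∈ σ.ker, z ∈ M := fun z hz => by rw [hM, mem_comap, MonoidHom.mem_ker.1 hz]; exact one_mem _
  -- the automorphisms
  let cj : ∀ g : Γ, (∀ x ∈ M, g * x * g⁻¹ ∈ M) → (M →* M) := fun g hg =>
    { toFun := fun x => ⟨g * x.1 * g⁻¹, hg x.1 x.2⟩
      map_one' := by ext; simp
      map_mul' := by intro x y; ext; simp }
  let φ : M →* M := cj d hMd
  let φB : Abelianization M →* Abelianization M := Abelianization.map φ
  let f : Abelianization M →* Abelianization M :=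
    { toFun := fun b => φB b * b⁻¹
      map_one' := by simp
      map_mul' := by
        intro a b
        rw [map_mul, mul_inv]
        exact mul_mul_mul_comm _ _ _ _ }
  have hfb : ∀ b, f b = φB b * b⁻¹ := fun b => rfl
  have hφof : ∀ x : M, φB (Abelianization.of x) = Abelianization.of (φ x) := fun x => rfl
  -- iterates
  have hiter : ∀ b, φB^[orderOf c] b = b := by
    intro b
    obtain ⟨x, rfl⟩ : ∃ x : M, Abelianization.of x = b := QuotientGroup.mk_surjective b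
    have h1 : ∀ (n : ℕ) (x : M), φB^[n] (Abelianization.of x) = Abelianization.of (φ^[n] x) := by
      intro n
      induction n with
      | zero => intro x; rfl
      | succ n ih => intro x; rw [Function.iterate_succ_apply, Function.iterate_succ_apply, hφof, ih]
    have h2 : ∀ (n : ℕ) (x : M), (φ^[n] x).1 = d ^ n * x.1 * (d ^ n)⁻¹ := by
      intro n
      induction n with
      | zero => intro x; simp
      | succ n ih =>
        intro x
        rw [Function.iterate_succ_apply, ih]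
        show d ^ n * (d * x.1 * d⁻¹) * (d ^ n)⁻¹ = _
        rw [pow_succ]; group
    rw [h1]
    congr 1
    apply Subtype.ext
    rw [h2]
    have h3 : d ^ orderOf c ∈ σ.ker := by
      rw [MonoidHom.mem_ker, map_pow, hd, pow_orderOf_eq_one]
    have h4 := mem_center_iff.1 (hσ.2.1 h3) x.1
    rw [← h4, mul_inv_cancel_right]
  have hpB : ∀ b : Abelianization M, ∃ k, b ^ p ^ k = 1 := by
    intro b
    obtain ⟨x, rfl⟩ : ∃ x : M, Abelianization.of x = b := QuotientGroup.mk_surjective b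
    obtain ⟨k, hk1⟩ := hQ ⟨σ x.1, x.2⟩
    have h1 : x.1 ^ p ^ k ∈ σ.ker := by
      rw [MonoidHom.mem_ker, map_pow]
      simpa using congrArg Subtype.val hk1
    obtain ⟨j, hj⟩ := hk ⟨_, h1⟩
    refine ⟨k + j, ?_⟩
    rw [← map_pow]
    have : x ^ p ^ (k + j) = 1 := by
      apply Subtype.ext
      show x.1 ^ p ^ (k + j) = 1
      rw [pow_add, pow_mul]
      simpa using congrArg Subtype.val hj
    rw [this, map_one]
  -- disjointness
  have hdisj : f.ker ⊓ f.range = ⊥ := by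
    rw [eq_bot_iff]
    rintro b ⟨h1, b', rfl⟩
    rw [mem_bot]
    set b := f b' with hb
    have h2 : φB b = b := by
      have : φB b * b⁻¹ = 1 := h1
      exact mul_inv_eq_one.1 this
    have h3 : φB b' = b * b' := by
      rw [hb, hfb, inv_mul_cancel_right]
    have h4 : ∀ n : ℕ, φB^[n] b' = b ^ n * b' := by
      intro n
      induction n with
      | zero => simp
      | succ n ih => rw [Function.iterate_succ_apply', ih, map_mul, map_pow, h2, h3, ← mul_assoc, ← pow_succ]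
    have h5 := h4 (orderOf c)
    rw [hiter] at h5
    have h6 : b ^ orderOf c = 1 := (mul_eq_right.1 h5.symm)
    obtain ⟨k, hk1⟩ := hpB b
    have h7 : orderOf b ∣ orderOf c := orderOf_dvd_of_pow_eq_one h6
    have h8 : orderOf b ∣ p ^ k := orderOf_dvd_of_pow_eq_one hk1
    have h9 : orderOf b ∣ 1 := by
      have := Nat.dvd_gcd h7 h8
      rwa [(hco.pow_right k).gcd_eq_one] at this
    exact orderOf_eq_one_iff.1 (Nat.dvd_one.1 h9)
  haveI : Finite (Abelianization M) := Finite.of_surjective _ (QuotientGroup.mk_surjective (s := commutator M))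
  have hsup : f.ker ⊔ f.range = ⊤ := by
    apply Subgroup.eq_top_of_card_eq
    have h1 := ConjSylow.card_sup_mul_card_inf (H := f.ker) (K := f.range) (by
      rw [le_normalizer_iff]
      intro a _ b hb
      rw [mul_comm a b, mul_inv_cancel_right]; exact hb)
    rw [hdisj, card_bot, mul_one] at h1
    rw [h1]
    have h2 := card_mul_index f.ker
    rw [index_ker] at h2
    exact h2
  -- the kernel of `f`
  have hker : ∀ b ∈ f.ker, ∃ z ∈ σ.ker, ∃ hz : z ∈ M, b = Abelianization.of ⟨z, hz⟩ := by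
    intro b hb
    obtain ⟨x, rfl⟩ : ∃ x : M, Abelianization.of x = b := QuotientGroup.mk_surjective b
    have h1 : φB (Abelianization.of x) * (Abelianization.of x)⁻¹ = 1 := hb
    rw [hφof, ← map_inv, ← map_mul] at h1
    have h2 : φ x * x⁻¹ ∈ commutator M := by
      rw [← Abelianization.ker_of M]; exact h1
    have h3 : (φ x * x⁻¹).1 ∈ ⁅M, M⁆ := by
      rw [← map_subtype_commutator]; exact ⟨_, h2, rfl⟩
    have h4 : (⁅M, M⁆).map σ = ⁅Q, Q⁆ := by
      rw [map_commutator, hM, map_comap_eq_self_of_surjective hσ.1]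
    have h5 : σ x.1 ∈ ⁅Q, Q⁆ := by
      apply hfix _ x.2
      rw [← h4]
      refine ⟨_, h3, ?_⟩
      show σ (d * x.1 * d⁻¹ * x.1⁻¹) = _
      rw [map_mul, map_mul, map_mul, map_inv, map_inv, hd]
    rw [← h4] at h5
    obtain ⟨y, hy, hyx⟩ := h5
    rw [← map_subtype_commutator] at hy
    obtain ⟨y', hy', rfl⟩ := hy
    have hz : y'.1⁻¹ * x.1 ∈ σ.ker := by
      rw [MonoidHom.mem_ker, map_mul, map_inv]
      have : σ y'.1 = σ x.1 := hyx
      rw [this, inv_mul_cancel]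
    refine ⟨_, hz, hZM _ hz, ?_⟩
    have h6 : Abelianization.of y' = 1 := by
      have : y' ∈ (Abelianization.of (G := M)).ker := by rw [Abelianization.ker_of]; exact hy'
      exact this
    have h7 : (⟨y'.1⁻¹ * x.1, hZM _ hz⟩ : M) = y'⁻¹ * x := rfl
    rw [h7, map_mul, map_inv, h6, inv_one, one_mul]
  -- `Q₀`
  let Q0 : Subgroup Γ := (f.range.comap Abelianization.of).map M.subtype
  have hQ0M : Q0 ≤ M := by
    rintro _ ⟨x, -, rfl⟩; exact x.2
  have hQ0Z : ∀ z ∈ Q0, σ z = 1 → z = 1 := by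
    rintro _ ⟨x, hx, rfl⟩ hz
    have h1 : f (Abelianization.of x) = 1 := by
      rw [hfb, hφof]
      have : φ x = x := by
        apply Subtype.ext
        show d * x.1 * d⁻¹ = x.1
        have h2 : x.1 ∈ σ.ker := hz
        rw [mem_center_iff.1 (hσ.2.1 h2) d, mul_inv_cancel_right]
      rw [this, mul_inv_cancel]
    have h2 : Abelianization.of x ∈ f.ker ⊓ f.range := ⟨h1, hx⟩
    rw [hdisj, mem_bot] at h2
    have h3 : x ∈ commutator M := by
      rw [← Abelianization.ker_of M]; exact h2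
    exact hQZ _ (by rw [← map_subtype_commutator]; exact ⟨_, h3, rfl⟩) hz
  have hQ0s : ∀ x ∈ M, ∃ z ∈ σ.ker, x * z⁻¹ ∈ Q0 := by
    intro x hx
    have h1 : Abelianization.of (⟨x, hx⟩ : M) ∈ f.ker ⊔ f.range := by rw [hsup]; trivial
    rw [mem_sup] at h1
    obtain ⟨a, ha, b, hb, hab⟩ := h1
    obtain ⟨z, hz, hzM, rfl⟩ := hker a ha
    refine ⟨z, hz, ⟨⟨x, hx⟩ * ⟨z, hzM⟩⁻¹, ?_, rfl⟩⟩
    show Abelianization.of ((⟨x, hx⟩ : M) * ⟨z, hzM⟩⁻¹) ∈ f.range
    rw [map_mul, map_inv, ← hab, mul_comm _ b, mul_inv_cancel_right]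
    exact hb
  -- `l h` normalizes `Q₀`
  have hQ0l : ∀ h, ∀ x ∈ Q0, l h * x * (l h)⁻¹ ∈ Q0 := by
    rintro h _ ⟨x, hx, rfl⟩
    let ψ : M →* M := cj (l h) (hMl h)
    obtain ⟨b, hb⟩ := hx
    obtain ⟨y, rfl⟩ : ∃ y : M, Abelianization.of y = b := QuotientGroup.mk_surjective b
    refine ⟨ψ x, ?_, rfl⟩
    refine ⟨Abelianization.of (ψ y), ?_⟩
    have h1 : φ (ψ y) = ψ (φ y) := by
      apply Subtype.ext
      show d * (l h * y.1 * (l h)⁻¹) * d⁻¹ = l h * (d * y.1 * d⁻¹) * (l h)⁻¹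
      have h2 : (l h * d)⁻¹ * (d * l h) ∈ center Γ := by
        apply hσ.2.1
        rw [MonoidHom.mem_ker, map_mul, map_inv, map_mul, map_mul, hd, hlc, inv_mul_cancel]
      have h3 : d * l h = l h * d * ((l h * d)⁻¹ * (d * l h)) := by group
      have h4 := mem_center_iff.1 h2
      calc d * (l h * y.1 * (l h)⁻¹) * d⁻¹ = (d * l h) * y.1 * (d * l h)⁻¹ := by group
        _ = (l h * d * ((l h * d)⁻¹ * (d * l h))) * y.1 * (l h * d * ((l h * d)⁻¹ * (d * l h)))⁻¹ := by rw [← h3]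
        _ = l h * d * (((l h * d)⁻¹ * (d * l h)) * y.1) * ((l h * d)⁻¹ * (d * l h))⁻¹ * (l h * d)⁻¹ := by group
        _ = l h * d * (y.1 * ((l h * d)⁻¹ * (d * l h))) * ((l h * d)⁻¹ * (d * l h))⁻¹ * (l h * d)⁻¹ := by rw [h4 y.1]
        _ = l h * (d * y.1 * d⁻¹) * (l h)⁻¹ := by group
    rw [hfb, hφof, h1, ← map_inv, ← map_mul]
    have h5 : Abelianization.of (φ y * y⁻¹) = Abelianization.of x := by
      rw [map_mul, map_inv, ← hφof]; exact hb
    have h6 : Abelianization.map ψ (Abelianization.of (φ y * y⁻¹)) = Abelianization.map ψ (Abelianization.of x) := by rw [h5]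
    rw [Abelianization.map_of, Abelianization.map_of, map_mul, map_inv] at h6
    exact h6
  -- `P₀`
  let P0 : Subgroup Γ :=
    { carrier := {x | ∃ y ∈ Q0, ∃ h, x = y * l h}
      one_mem' := ⟨1, one_mem _, 1, by simp⟩
      mul_mem' := by
        rintro _ _ ⟨y, hy, h, rfl⟩ ⟨y', hy', h', rfl⟩
        exact ⟨y * (l h * y' * (l h)⁻¹), mul_mem hy (hQ0l h y' hy'), h * h', by rw [map_mul]; group⟩
      inv_mem' := by
        rintro _ ⟨y, hy, h, rfl⟩
        refine ⟨l h⁻¹ * y⁻¹ * (l h⁻¹)⁻¹, hQ0l _ _ (inv_mem hy), h⁻¹, by rw [map_inv]; group⟩ }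
  have hP : Q ⊔ (σ.comp l).range ≤ P0.map σ := by
    rw [sup_le_iff]
    constructor
    · intro g hg
      obtain ⟨x, rfl⟩ := hσ.1 g
      obtain ⟨z, hz, hx⟩ := hQ0s x hg
      refine ⟨x * z⁻¹, ⟨_, hx, 1, by simp⟩, ?_⟩
      rw [map_mul, map_inv, MonoidHom.mem_ker.1 hz, inv_one, mul_one]
    · rintro _ ⟨h, rfl⟩
      exact ⟨l h, ⟨1, one_mem _, h, by simp⟩, rfl⟩
  have hle : ⁅(Q ⊔ (σ.comp l).range).comap σ, (Q ⊔ (σ.comp l).range).comap σ⁆ ≤ P0 := by
    have key : ∀ x : Γ, σ x ∈ Q ⊔ (σ.comp l).range → ∃ y ∈ P0, ∃ z ∈ center Γ, x = y * z := by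
      intro x hx
      obtain ⟨y, hy, hyx⟩ := hP hx
      refine ⟨y, hy, y⁻¹ * x, hσ.2.1 ?_, by group⟩
      rw [MonoidHom.mem_ker, map_mul, map_inv, hyx, inv_mul_cancel]
    rw [commutator_le]
    intro a ha b hb
    obtain ⟨a', ha', z, hz, rfl⟩ := key a ha
    obtain ⟨b', hb', w, hw, rfl⟩ := key b hb
    rw [SchurMult.commutatorElement_mul_central hz hw, commutatorElement_def]
    exact mul_mem (mul_mem (mul_mem ha' hb') (inv_mem ha')) (inv_mem hb')
  have h3 := ker_le_commutator_comap σ hσ hk (Q ⊔ (σ.comp l).range) hidx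
  rw [eq_bot_iff]
  intro z hz
  obtain ⟨y, hy, h, rfl⟩ := hle (h3 hz)
  rw [MonoidHom.mem_ker, map_mul] at hz
  have h4 : σ (l h) ∈ Q := by
    have : σ (l h) = (σ y)⁻¹ := eq_inv_of_mul_eq_one_right hz
    rw [this]; exact inv_mem (hQ0M hy)
  have h5 := hli h h4
  rw [h5, map_one, mul_one] at hz
  rw [h5, mul_one, mem_bot]
  exact hQ0Z y hy hz

end Cfsg.Agent.Lib.H3MU
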