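import Mathlib

/-!
# Coset enumeration certificates

Small kernel checkers for coset tables. A node `i` stands for the coset `K * rep i`. A fact `e` packs a source node, a
letter and a target node, and says `rep (src e) * g (letter e) * (rep (tgt e))⁻¹ ∈ K`. Facts are checked in order: the
`j`-th one by walking around one relator along facts with smaller index.
-/

set_option autoImplicit false

namespace Cfsg.Agent.Lib.H3TC

/-- evaluate a number before using it -/
noncomputable def force {α : Type} (V : ℕ) (k : ℕ → α) : α :=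
  Nat.rec (motive := fun _ => α) (k 0) (fun n _ => k (Nat.succ n)) V

theorem force_eq {α : Type} (V : ℕ) (k : ℕ → α) : force V k = k V := by
  cases V <;> rfl

/-- kernel-fast conjunction -/
noncomputable def bandK (a b : Bool) : Bool := Bool.rec (motive := fun _ => Bool) false b a

theorem bandK_iff {a b : Bool} : bandK a b = true ↔ a = true ∧ b = true := by
  cases a <;> cases b <;> decide

/-- kernel-fast case distinction -/
noncomputable def iteK (c : Bool) (a b : Bool) : Bool := Bool.rec (motive := fun _ => Bool) b a c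

/-- binary trees of pages of 64-bit entries -/
inductive Tr where
  | leaf (p : ℕ) : Tr
  | node (l r : Tr) : Tr

/-- access -/
noncomputable def Tr.get (t : Tr) : ℕ → ℕ :=
  Tr.rec (motive := fun _ => ℕ → ℕ)
    (fun p => fun i => Nat.land (Nat.shiftRight p (Nat.mul 64 i)) 18446744073709551615)
    (fun _ _ ihl ihr => fun i => force (Nat.shiftRight i 1) (fun j =>
      Bool.rec (motive := fun _ => ℕ) (ihl j) (ihr j) (Nat.beq (Nat.land i 1) 1))) t

/-- source node of a fact -/
noncomputable def eS (e : ℕ) : ℕ := Nat.land e 1048575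
/-- target node of a fact -/
noncomputable def eD (e : ℕ) : ℕ := Nat.land (Nat.shiftRight e 20) 1048575
/-- letter of a fact; letter `0` is the identity -/
noncomputable def eC (e : ℕ) : ℕ := Nat.shiftRight e 40

/-- inverse letter, from a packed table -/
noncomputable def ivf (iv c : ℕ) : ℕ := Nat.land (Nat.shiftRight iv (Nat.mul 4 c)) 15

/-- consume one letter of a pattern; the letter `0` consumes nothing -/
noncomputable def stepK (c : ℕ) (pat : List ℕ) (k : List ℕ → Bool) : Bool :=
  force c (fun c => iteK (Nat.beq c 0) (k pat)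
    (List.rec (motive := fun _ => Bool) false (fun a t _ => bandK (Nat.beq a c) (k t)) pat))

/-- walk along given facts -/
noncomputable def walkL (f : ℕ → ℕ) (iv k : ℕ) (prem : List ℕ) : ℕ → List ℕ → ℕ → Bool :=
  List.rec (motive := fun _ => ℕ → List ℕ → ℕ → Bool)
    (fun cur pat b => List.rec (motive := fun _ => Bool) (Nat.beq cur b) (fun _ _ _ => false) pat)
    (fun p _ ih => fun cur pat b =>
      force (Nat.shiftRight p 1) (fun j => bandK (Nat.ble (Nat.succ j) k) (force (f j) (fun e =>
        iteK (Nat.beq (Nat.land p 1) 1)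
          (bandK (Nat.beq (eD e) cur) (stepK (ivf iv (eC e)) pat (fun pat' => force (eS e) (fun nx => ih nx pat' b))))
          (bandK (Nat.beq (eS e) cur) (stepK (eC e) pat (fun pat' => force (eD e) (fun nx => ih nx pat' b))))))))
    prem

/-- walk along the facts named by a table `t`: slot `c - 1` of width `sw` of node `i` names the fact leaving `i` by the
letter `c` -/
noncomputable def walkT (f t : ℕ → ℕ) (iv sw mk k : ℕ) (pat : List ℕ) : ℕ → ℕ → Bool :=
  List.rec (motive := fun _ => ℕ → ℕ → Bool)
    (fun cur b => Nat.beq cur b)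
    (fun c _ ih => fun cur b =>
      force (Nat.land (Nat.shiftRight (t cur) (Nat.mul sw (Nat.sub c 1))) mk) (fun p =>
      force (Nat.shiftRight p 1) (fun j => bandK (Nat.ble (Nat.succ j) k) (force (f j) (fun e =>
        iteK (Nat.beq (Nat.land p 1) 1)
          (bandK (Nat.beq (eD e) cur) (bandK (Nat.beq (ivf iv (eC e)) c) (force (eS e) (fun nx => ih nx b))))
          (bandK (Nat.beq (eS e) cur) (bandK (Nat.beq (eC e) c) (force (eD e) (fun nx => ih nx b)))))))))
    pat

/-- concatenation -/
noncomputable def appK (a b : List ℕ) : List ℕ :=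
  List.rec (motive := fun _ => List ℕ) b (fun h _ ih => h :: ih) a

/-- drop -/
noncomputable def dropK (i : ℕ) : List ℕ → List ℕ :=
  Nat.rec (motive := fun _ => List ℕ → List ℕ) (fun w => w)
    (fun _ ih => fun w => List.rec (motive := fun _ => List ℕ) [] (fun _ t _ => ih t) w) i

/-- take -/
noncomputable def takeK (i : ℕ) : List ℕ → List ℕ :=
  Nat.rec (motive := fun _ => List ℕ → List ℕ) (fun _ => [])
    (fun _ ih => fun w => List.rec (motive := fun _ => List ℕ) [] (fun a t _ => a :: ih t) w) i

/-- entry of a list of words -/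
noncomputable def nthK (W : List (List ℕ)) : ℕ → List ℕ :=
  List.rec (motive := fun _ => ℕ → List ℕ) (fun _ => [])
    (fun w _ ih => fun n => Nat.rec (motive := fun _ => List ℕ) w (fun n _ => ih n) n) W

/-- rotation of the `r`-th relator -/
noncomputable def rotK (W : List (List ℕ)) (r i : ℕ) : List ℕ :=
  appK (dropK i (nthK W r)) (takeK i (nthK W r))

/-- check of a fact with given premises -/
noncomputable def chk1 (f : ℕ → ℕ) (W : List (List ℕ)) (iv j r i : ℕ) (prem : List ℕ) : Bool :=
  force (f j) (fun e => iteK (Nat.beq (eC e) 0) (walkL f iv j prem (eD e) (rotK W r i) (eS e))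
    (List.rec (motive := fun _ => Bool) false
      (fun c w _ => bandK (Nat.beq c (eC e)) (walkL f iv j prem (eD e) w (eS e))) (rotK W r i)))

/-- check of a fact with a table -/
noncomputable def chkT (f t : ℕ → ℕ) (W : List (List ℕ)) (iv sw mk j r i : ℕ) : Bool :=
  force (f j) (fun e => List.rec (motive := fun _ => Bool) false
      (fun c w _ => bandK (Nat.beq c (eC e)) (force (eD e) (fun d => walkT f t iv sw mk j w d (eS e)))) (rotK W r i))

/-- an entry of a list of explicit justifications -/
structure Just where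
  j : ℕ
  r : ℕ
  i : ℕ
  prem : List ℕ

/-- look for the justification of fact `j` -/
noncomputable def findJ (f : ℕ → ℕ) (W : List (List ℕ)) (iv j : ℕ) (L : List Just) : Bool :=
  List.rec (motive := fun _ => Bool) false
    (fun q _ ih => iteK (Nat.beq q.j j) (chk1 f W iv j q.r q.i q.prem) ih) L

/-- check of fact `j`: the entry `q` of the table of justifications is `255` for an explicit one -/
noncomputable def chk (f t q : ℕ → ℕ) (W : List (List ℕ)) (iv sw mk : ℕ) (L : List Just) (j : ℕ) : Bool :=
  force (q j) (fun a => iteK (Nat.beq a 255) (findJ f W iv j L)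
    (force (Nat.shiftRight a 8) (fun i => chkT f t W iv sw mk j (Nat.land a 255) i)))

/-- a bounded conjunction -/
noncomputable def allK (p : ℕ → Bool) (a n : ℕ) : Bool :=
  Nat.rec (motive := fun _ => Bool) true (fun i ih => bandK (force (Nat.add a i) p) ih) n

theorem allK_spec {p : ℕ → Bool} {a n : ℕ} (h : allK p a n = true) (j : ℕ) (h1 : a ≤ j) (h2 : j < a + n) :
    p j = true := by
  induction n with
  | zero => omega
  | succ n ih =>
    change bandK (force (a + n) p) (allK p a n) = true at h
    rw [bandK_iff, force_eq] at h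
    by_cases h3 : j = a + n
    · rw [h3]; exact h.1
    · exact ih h.2 (by omega)

/-- check all entries of a list of explicit justifications, for the consecutive facts `j, j+1, …` -/
noncomputable def chkL (f : ℕ → ℕ) (W : List (List ℕ)) (iv : ℕ) (L : List Just) : ℕ → Bool :=
  List.rec (motive := fun _ => ℕ → Bool) (fun _ => true)
    (fun q _ ih => fun j => bandK (chk1 f W iv j q.r q.i q.prem) (force (Nat.succ j) ih)) L

theorem chkL_spec {f : ℕ → ℕ} {W : List (List ℕ)} {iv : ℕ} {L : List Just} {a : ℕ} (h : chkL f W iv L a = true)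
    (j : ℕ) (h1 : a ≤ j) (h2 : j < a + L.length) : ∃ r i prem, chk1 f W iv j r i prem = true := by
  induction L generalizing a with
  | nil => simp at h2; omega
  | cons q L ih =>
    change bandK (chk1 f W iv a q.r q.i q.prem) (force (Nat.succ a) (fun j => chkL f W iv L j)) = true at h
    rw [bandK_iff, force_eq] at h
    by_cases h3 : j = a
    · subst h3; exact ⟨_, _, _, h.1⟩
    · exact ih h.2 (by omega) (by simp at h2; omega)

section Sound

variable {G : Type*} [Group G] (K : Subgroup G) (g : ℕ → G) (rep : ℕ → G)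

/-- value of a word -/
def wv (w : List ℕ) : G := (w.map g).prod

theorem wv_nil : wv g [] = 1 := rfl
theorem wv_cons (a : ℕ) (w : List ℕ) : wv g (a :: w) = g a * wv g w := by simp [wv]
theorem wv_app (v w : List ℕ) : wv g (v ++ w) = wv g v * wv g w := by simp [wv]

/-- the coset relation -/
def Reach (a : ℕ) (v : G) (b : ℕ) : Prop := rep a * v * (rep b)⁻¹ ∈ K

variable {K g rep}

theorem Reach.trans {a b c : ℕ} {v w : G} (h1 : Reach K rep a v b) (h2 : Reach K rep b w c) :
    Reach K rep a (v * w) c := by
  unfold Reach at *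
  have := K.mul_mem h1 h2
  have e : rep a * v * (rep b)⁻¹ * (rep b * w * (rep c)⁻¹) = rep a * (v * w) * (rep c)⁻¹ := by group
  rwa [e] at this

theorem Reach.symm {a b : ℕ} {v : G} (h1 : Reach K rep a v b) : Reach K rep b v⁻¹ a := by
  unfold Reach at *
  have := K.inv_mem h1
  have e : (rep a * v * (rep b)⁻¹)⁻¹ = rep b * v⁻¹ * (rep a)⁻¹ := by group
  rwa [e] at this

theorem Reach.refl (a : ℕ) : Reach K rep a 1 a := by
  unfold Reach; simp

variable (K g rep)

/-- validity of a packed fact -/
def Valid (e : ℕ) : Prop := Reach K rep (eS e) (g (eC e)) (eD e)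

variable {K g rep}
variable {iv : ℕ} (hg0 : g 0 = 1) (hiv : ∀ c, g (ivf iv c) = (g c)⁻¹)

include hg0 in
theorem stepK_spec {c : ℕ} {pat : List ℕ} {k : List ℕ → Bool} (h : stepK c pat k = true) :
    ∃ pat', k pat' = true ∧ wv g pat = g c * wv g pat' := by
  unfold stepK at h
  rw [force_eq] at h
  cases hc : Nat.beq c 0 with
  | true =>
    rw [hc] at h
    change k pat = true at h
    have : c = 0 := Nat.eq_of_beq_eq_true hc
    exact ⟨pat, h, by rw [this, hg0, one_mul]⟩
  | false =>
    rw [hc] at h
    cases pat with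
    | nil => exact absurd h (by change ¬ (false = true); decide)
    | cons a t =>
      change bandK (Nat.beq a c) (k t) = true at h
      rw [bandK_iff] at h
      have : a = c := Nat.eq_of_beq_eq_true h.1
      exact ⟨t, h.2, by rw [wv_cons, this]⟩

include hg0 hiv in
theorem walkL_spec {f : ℕ → ℕ} {k : ℕ} (hf : ∀ j < k, Valid K g rep (f j)) (prem : List ℕ) :
    ∀ (cur : ℕ) (pat : List ℕ) (b : ℕ), walkL f iv k prem cur pat b = true → Reach K rep cur (wv g pat) b := by
  induction prem with
  | nil =>
    intro cur pat b h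
    cases pat with
    | nil =>
      change Nat.beq cur b = true at h
      rw [Nat.eq_of_beq_eq_true h]
      exact Reach.refl b
    | cons a t => exact absurd h (by change ¬ (false = true); decide)
  | cons p ps ih =>
    intro cur pat b h
    change force (Nat.shiftRight p 1) (fun j => bandK (Nat.ble (Nat.succ j) k) (force (f j) (fun e =>
        iteK (Nat.beq (Nat.land p 1) 1)
          (bandK (Nat.beq (eD e) cur) (stepK (ivf iv (eC e)) pat (fun pat' => force (eS e) (fun nx =>
            walkL f iv k ps nx pat' b))))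
          (bandK (Nat.beq (eS e) cur) (stepK (eC e) pat (fun pat' => force (eD e) (fun nx =>
            walkL f iv k ps nx pat' b))))))) = true at h
    rw [force_eq, bandK_iff, force_eq] at h
    obtain ⟨h1, h2⟩ := h
    have hj := hf _ (Nat.lt_of_succ_le (Nat.le_of_ble_eq_true h1))
    cases hp : Nat.beq (Nat.land p 1) 1 with
    | true =>
      rw [hp] at h2
      change bandK _ _ = true at h2
      rw [bandK_iff] at h2
      obtain ⟨h3, h4⟩ := h2
      have h3 := Nat.eq_of_beq_eq_true h3
      obtain ⟨pat', h5, h6⟩ := stepK_spec hg0 h4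
      rw [force_eq] at h5
      have h7 := ih _ _ _ h5
      rw [h6, hiv, ← h3]
      exact (Reach.symm hj).trans h7
    | false =>
      rw [hp] at h2
      change bandK _ _ = true at h2
      rw [bandK_iff] at h2
      obtain ⟨h3, h4⟩ := h2
      have h3 := Nat.eq_of_beq_eq_true h3
      obtain ⟨pat', h5, h6⟩ := stepK_spec hg0 h4
      rw [force_eq] at h5
      have h7 := ih _ _ _ h5
      rw [h6, ← h3]
      exact Reach.trans hj h7

include hiv in
theorem walkT_spec {f t : ℕ → ℕ} {sw mk k : ℕ} (hf : ∀ j < k, Valid K g rep (f j)) (pat : List ℕ) :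
    ∀ (cur b : ℕ), walkT f t iv sw mk k pat cur b = true → Reach K rep cur (wv g pat) b := by
  induction pat with
  | nil =>
    intro cur b h
    change Nat.beq cur b = true at h
    rw [Nat.eq_of_beq_eq_true h]
    exact Reach.refl b
  | cons c ps ih =>
    intro cur b h
    change force (Nat.land (Nat.shiftRight (t cur) (Nat.mul sw (Nat.sub c 1))) mk) (fun p =>
      force (Nat.shiftRight p 1) (fun j => bandK (Nat.ble (Nat.succ j) k) (force (f j) (fun e =>
        iteK (Nat.beq (Nat.land p 1) 1)
          (bandK (Nat.beq (eD e) cur) (bandK (Nat.beq (ivf iv (eC e)) c) (force (eS e) (fun nx =>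
            walkT f t iv sw mk k ps nx b))))
          (bandK (Nat.beq (eS e) cur) (bandK (Nat.beq (eC e) c) (force (eD e) (fun nx =>
            walkT f t iv sw mk k ps nx b)))))))) = true at h
    rw [force_eq, force_eq, bandK_iff, force_eq] at h
    obtain ⟨h1, h2⟩ := h
    generalize Nat.land (Nat.shiftRight (t cur) (Nat.mul sw (Nat.sub c 1))) mk = p at h1 h2
    have hj := hf _ (Nat.lt_of_succ_le (Nat.le_of_ble_eq_true h1))
    cases hp : Nat.beq (Nat.land p 1) 1 with
    | true =>
      rw [hp] at h2
      change bandK _ _ = true at h2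
      rw [bandK_iff, bandK_iff, force_eq] at h2
      obtain ⟨h3, h4, h5⟩ := h2
      have h3 := Nat.eq_of_beq_eq_true h3
      have h4 := Nat.eq_of_beq_eq_true h4
      have h7 := ih _ _ h5
      rw [wv_cons, ← h4, hiv, ← h3]
      exact (Reach.symm hj).trans h7
    | false =>
      rw [hp] at h2
      change bandK _ _ = true at h2
      rw [bandK_iff, bandK_iff, force_eq] at h2
      obtain ⟨h3, h4, h5⟩ := h2
      have h3 := Nat.eq_of_beq_eq_true h3
      have h4 := Nat.eq_of_beq_eq_true h4
      have h7 := ih _ _ h5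
      rw [wv_cons, ← h4, ← h3]
      exact Reach.trans hj h7

theorem appK_eq (a b : List ℕ) : appK a b = a ++ b := by
  induction a with
  | nil => rfl
  | cons h t ih => change h :: appK t b = _; rw [ih]; rfl

theorem take_drop (i : ℕ) : ∀ w : List ℕ, takeK i w ++ dropK i w = w := by
  induction i with
  | zero => intro w; rfl
  | succ i ih =>
    intro w
    cases w with
    | nil => rfl
    | cons a t =>
      change a :: (takeK i t ++ dropK i t) = _
      rw [ih]

theorem nthK_mem {W : List (List ℕ)} (hW : ∀ w ∈ W, wv g w = 1) (n : ℕ) : wv g (nthK W n) = 1 := by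
  induction W generalizing n with
  | nil => rfl
  | cons w W ih =>
    cases n with
    | zero => exact hW w (List.mem_cons_self)
    | succ n => exact ih (fun v hv => hW v (List.mem_cons_of_mem _ hv)) n

theorem rotK_one {W : List (List ℕ)} (hW : ∀ w ∈ W, wv g w = 1) (r i : ℕ) : wv g (rotK W r i) = 1 := by
  unfold rotK
  rw [appK_eq, wv_app, mul_eq_one_iff_eq_inv, eq_comm, ← mul_eq_one_iff_inv_eq, ← wv_app, take_drop]
  exact nthK_mem hW r

include hg0 hiv in
theorem chk1_spec {f : ℕ → ℕ} {W : List (List ℕ)} (hW : ∀ w ∈ W, wv g w = 1) {j r i : ℕ} {prem : List ℕ}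
    (hf : ∀ k < j, Valid K g rep (f k)) (h : chk1 f W iv j r i prem = true) : Valid K g rep (f j) := by
  unfold chk1 at h
  rw [force_eq] at h
  have h1 := rotK_one hW r i
  unfold Valid
  cases hc : Nat.beq (eC (f j)) 0 with
  | true =>
    rw [hc] at h
    change walkL _ _ _ _ _ _ _ = true at h
    have h2 := walkL_spec hg0 hiv hf _ _ _ _ h
    rw [Nat.eq_of_beq_eq_true hc, hg0]
    rw [h1] at h2
    simpa using h2.symm
  | false =>
    rw [hc] at h
    generalize rotK W r i = v at h h1
    cases v with
    | nil => exact absurd h (by change ¬ (false = true); decide)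
    | cons c w =>
      change bandK _ _ = true at h
      rw [bandK_iff] at h
      obtain ⟨h2, h3⟩ := h
      have h4 := walkL_spec hg0 hiv hf _ _ _ _ h3
      rw [← Nat.eq_of_beq_eq_true h2]
      rw [wv_cons, mul_eq_one_iff_eq_inv] at h1
      rw [h1]
      exact h4.symm

include hiv in
theorem chkT_spec {f t : ℕ → ℕ} {W : List (List ℕ)} (hW : ∀ w ∈ W, wv g w = 1) {sw mk j r i : ℕ}
    (hf : ∀ k < j, Valid K g rep (f k)) (h : chkT f t W iv sw mk j r i = true) : Valid K g rep (f j) := by
  unfold chkT at h
  rw [force_eq] at h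
  have h1 := rotK_one hW r i
  unfold Valid
  generalize rotK W r i = v at h h1
  cases v with
  | nil => exact absurd h (by change ¬ (false = true); decide)
  | cons c w =>
    change bandK _ _ = true at h
    rw [bandK_iff, force_eq] at h
    obtain ⟨h2, h3⟩ := h
    have h4 := walkT_spec hiv hf _ _ _ h3
    rw [← Nat.eq_of_beq_eq_true h2]
    rw [wv_cons, mul_eq_one_iff_eq_inv] at h1
    rw [h1]
    exact h4.symm

include hg0 hiv in
theorem findJ_spec {f : ℕ → ℕ} {W : List (List ℕ)} (hW : ∀ w ∈ W, wv g w = 1) {j : ℕ}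
    (hf : ∀ k < j, Valid K g rep (f k)) (L : List Just) (h : findJ f W iv j L = true) : Valid K g rep (f j) := by
  induction L with
  | nil => exact absurd h (by change ¬ (false = true); decide)
  | cons q L ih =>
    change iteK (Nat.beq q.j j) (chk1 f W iv j q.r q.i q.prem) (findJ f W iv j L) = true at h
    cases hc : Nat.beq q.j j with
    | true => rw [hc] at h; exact chk1_spec hg0 hiv hW hf h
    | false => rw [hc] at h; exact ih h

include hg0 hiv in
theorem chk_spec {f t q : ℕ → ℕ} {W : List (List ℕ)} (hW : ∀ w ∈ W, wv g w = 1) {sw mk j : ℕ} {L : List Just}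
    (hf : ∀ k < j, Valid K g rep (f k)) (h : chk f t q W iv sw mk L j = true) : Valid K g rep (f j) := by
  unfold chk at h
  rw [force_eq] at h
  cases hc : Nat.beq (q j) 255 with
  | true => rw [hc] at h; exact findJ_spec hg0 hiv hW hf L h
  | false =>
    rw [hc] at h
    change force _ _ = true at h
    rw [force_eq] at h
    exact chkT_spec hiv hW hf h

end Sound

/-! ### representatives -/

section Rep

variable {G : Type*} [Group G]

/-- representatives from the defining facts -/
noncomputable def repF (g : ℕ → G) (f : ℕ → ℕ) : ℕ → G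
  | 0 => 1
  | (j + 1) => if h : eS (f j) ≤ j then repF g f (eS (f j)) * g (eC (f j)) else 1
termination_by n => n
decreasing_by omega

theorem repF_zero (g : ℕ → G) (f : ℕ → ℕ) : repF g f 0 = 1 := by rw [repF]

theorem repF_succ {g : ℕ → G} {f : ℕ → ℕ} {j : ℕ} (h : eS (f j) ≤ j) :
    repF g f (j + 1) = repF g f (eS (f j)) * g (eC (f j)) := by
  rw [repF, dif_pos h]

/-- check of the defining facts -/
noncomputable def chkD (f : ℕ → ℕ) (a n : ℕ) : Bool :=
  allK (fun j => force (f j) (fun e => bandK (Nat.beq (eD e) (Nat.succ j)) (Nat.ble (eS e) j))) a n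

/-- check of the loops at node `0` -/
noncomputable def chkP (f : ℕ → ℕ) (km a n : ℕ) : Bool :=
  allK (fun j => force (f j) (fun e => bandK (Nat.beq (eS e) 0) (bandK (Nat.beq (eD e) 0)
    (Nat.beq (Nat.land (Nat.shiftRight km (eC e)) 1) 1)))) a n

variable {K : Subgroup G} {g : ℕ → G} {iv : ℕ}

theorem valid_D {f : ℕ → ℕ} {a n : ℕ} (h : chkD f a n = true) (j : ℕ) (h1 : a ≤ j) (h2 : j < a + n) :
    Valid K g (repF g f) (f j) := by
  have h3 := allK_spec h j h1 h2
  change force (f j) _ = true at h3
  rw [force_eq, bandK_iff] at h3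
  have h4 := Nat.eq_of_beq_eq_true h3.1
  have h5 := Nat.le_of_ble_eq_true h3.2
  unfold Valid Reach
  rw [h4, repF_succ h5, mul_inv_cancel]
  exact K.one_mem

theorem valid_P {f : ℕ → ℕ} {km a n : ℕ} (hk : ∀ c, Nat.land (Nat.shiftRight km c) 1 = 1 → g c ∈ K)
    (h : chkP f km a n = true) (j : ℕ) (h1 : a ≤ j) (h2 : j < a + n) :
    Valid K g (repF g f) (f j) := by
  have h3 := allK_spec h j h1 h2
  change force (f j) _ = true at h3
  rw [force_eq, bandK_iff, bandK_iff] at h3
  have h4 := Nat.eq_of_beq_eq_true h3.1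
  have h5 := Nat.eq_of_beq_eq_true h3.2.1
  have h6 := hk _ (Nat.eq_of_beq_eq_true h3.2.2)
  unfold Valid Reach
  rw [h4, h5, repF_zero]
  simpa using h6

/-- all facts of a certificate are valid -/
theorem valid_all {f t q : ℕ → ℕ} {W : List (List ℕ)} {sw mk N nL : ℕ} {L : List Just}
    (hg0 : g 0 = 1) (hiv : ∀ c, g (ivf iv c) = (g c)⁻¹) (hW : ∀ w ∈ W, wv g w = 1)
    (hD : ∀ j < nL, Valid K g (repF g f) (f j))
    (hC : ∀ j, nL ≤ j → j < N → chk f t q W iv sw mk L j = true ∨ ∃ r i prem, chk1 f W iv j r i prem = true) :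
    ∀ j < N, Valid K g (repF g f) (f j) := by
  intro j
  induction j using Nat.strong_induction_on with
  | _ j ih =>
    intro hj
    by_cases h1 : j < nL
    · exact hD j h1
    · rcases hC j (not_lt.mp h1) hj with h | ⟨r, i, prem, h⟩
      · exact chk_spec hg0 hiv hW (fun k hk => ih k hk (hk.trans hj)) h
      · exact chk1_spec hg0 hiv hW (fun k hk => ih k hk (hk.trans hj)) h

/-- a word that closes at node `0` lies in `K` -/
theorem rel_mem {f : ℕ → ℕ} {N : ℕ} {prem w : List ℕ} (hg0 : g 0 = 1) (hiv : ∀ c, g (ivf iv c) = (g c)⁻¹)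
    (hv : ∀ j < N, Valid K g (repF g f) (f j)) (h : walkL f iv N prem 0 w 0 = true) : wv g w ∈ K := by
  have := walkL_spec hg0 hiv hv prem 0 w 0 h
  unfold Reach at this
  rw [repF_zero] at this
  simpa using this

/-- the table is closed at node `i` under the letter `c` -/
noncomputable def clK (f t : ℕ → ℕ) (iv sw mk N n i c : ℕ) : Bool :=
  force (Nat.land (Nat.shiftRight (t i) (Nat.mul sw (Nat.sub c 1))) mk) (fun p =>
    force (Nat.shiftRight p 1) (fun j => bandK (Nat.ble (Nat.succ j) N) (force (f j) (fun e =>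
      iteK (Nat.beq (Nat.land p 1) 1)
        (bandK (Nat.beq (eD e) i) (bandK (Nat.beq (ivf iv (eC e)) c) (Nat.ble (Nat.succ (eS e)) n)))
        (bandK (Nat.beq (eS e) i) (bandK (Nat.beq (eC e) c) (Nat.ble (Nat.succ (eD e)) n)))))))

theorem clK_spec {f t : ℕ → ℕ} {rep : ℕ → G} {sw mk N n i c : ℕ} (hiv : ∀ c, g (ivf iv c) = (g c)⁻¹)
    (hv : ∀ j < N, Valid K g rep (f j)) (h : clK f t iv sw mk N n i c = true) :
    ∃ i' < n, Reach K rep i (g c) i' := by
  unfold clK at h
  rw [force_eq, force_eq, bandK_iff, force_eq] at h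
  obtain ⟨h1, h2⟩ := h
  generalize Nat.land (Nat.shiftRight (t i) (Nat.mul sw (Nat.sub c 1))) mk = p at h1 h2
  have hj := hv _ (Nat.lt_of_succ_le (Nat.le_of_ble_eq_true h1))
  cases hp : Nat.beq (Nat.land p 1) 1 with
  | true =>
    rw [hp] at h2
    change bandK _ _ = true at h2
    rw [bandK_iff, bandK_iff] at h2
    obtain ⟨h3, h4, h5⟩ := h2
    have h3 := Nat.eq_of_beq_eq_true h3
    have h4 := Nat.eq_of_beq_eq_true h4
    refine ⟨_, Nat.lt_of_succ_le (Nat.le_of_ble_eq_true h5), ?_⟩
    rw [← h4, hiv, ← h3]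
    exact Reach.symm hj
  | false =>
    rw [hp] at h2
    change bandK _ _ = true at h2
    rw [bandK_iff, bandK_iff] at h2
    obtain ⟨h3, h4, h5⟩ := h2
    have h3 := Nat.eq_of_beq_eq_true h3
    have h4 := Nat.eq_of_beq_eq_true h4
    refine ⟨_, Nat.lt_of_succ_le (Nat.le_of_ble_eq_true h5), ?_⟩
    rw [← h4, ← h3]
    exact hj

/-- closure check at a node for all letters of a list -/
noncomputable def clL (f t : ℕ → ℕ) (iv sw mk N n : ℕ) (cs : List ℕ) (i : ℕ) : Bool :=
  List.rec (motive := fun _ => Bool) true (fun c _ ih => bandK (clK f t iv sw mk N n i c) ih) cs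

theorem clL_spec {f t : ℕ → ℕ} {sw mk N n i : ℕ} {cs : List ℕ} (h : clL f t iv sw mk N n cs i = true) (c : ℕ)
    (hc : c ∈ cs) : clK f t iv sw mk N n i c = true := by
  induction cs with
  | nil => simp at hc
  | cons a cs ih =>
    change bandK (clK f t iv sw mk N n i a) (clL f t iv sw mk N n cs i) = true at h
    rw [bandK_iff] at h
    rcases List.mem_cons.mp hc with rfl | hc
    · exact h.1
    · exact ih h.2 hc

/-- the count given by a closed coset table -/
theorem enum_card {f t : ℕ → ℕ} {sw mk N n : ℕ} {cs : List ℕ} (hiv : ∀ c, g (ivf iv c) = (g c)⁻¹)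
    (hv : ∀ j < N, Valid K g (repF g f) (f j)) (hn : 0 < n) (hcs : ∀ c ∈ cs, ivf iv c ∈ cs)
    (hcl : ∀ i < n, clL f t iv sw mk N n cs i = true) [Finite K] (C : Subgroup G)
    (hC : C ≤ Subgroup.closure {v | ∃ c ∈ cs, g c = v}) : Finite C ∧ Nat.card C ≤ n * Nat.card K := by
  have key : ∀ v ∈ Subgroup.closure {v | ∃ c ∈ cs, g c = v}, ∃ i < n, Reach K (repF g f) 0 v i := by
    intro v hv'
    induction hv' using Subgroup.closure_induction_right with
    | one => exact ⟨0, hn, Reach.refl 0⟩
    | mul_right x hx y hy ih =>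
      obtain ⟨i, hi, h1⟩ := ih
      obtain ⟨c, hc, rfl⟩ := hy
      obtain ⟨i', hi', h2⟩ := clK_spec hiv hv (clL_spec (hcl i hi) c hc)
      exact ⟨i', hi', h1.trans h2⟩
    | mul_inv_cancel x hx y hy ih =>
      obtain ⟨i, hi, h1⟩ := ih
      obtain ⟨c, hc, rfl⟩ := hy
      obtain ⟨i', hi', h2⟩ := clK_spec hiv hv (clL_spec (hcl i hi) _ (hcs c hc))
      rw [hiv] at h2
      exact ⟨i', hi', h1.trans h2⟩
  let F : Fin n × K → G := fun p => (p.2 : G) * repF g f p.1
  have hsub : (C : Set G) ⊆ Set.range F := by
    intro v hv'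
    obtain ⟨i, hi, h1⟩ := key v (hC hv')
    unfold Reach at h1
    rw [repF_zero, one_mul] at h1
    exact ⟨(⟨i, hi⟩, ⟨_, h1⟩), by simp [F]⟩
  have hfin : (Set.range F).Finite := Set.finite_range F
  have hCf : (C : Set G).Finite := hfin.subset hsub
  refine ⟨hCf.to_subtype, ?_⟩
  have h1 : Nat.card C = (C : Set G).ncard := rfl
  rw [h1]
  refine (Set.ncard_le_ncard hsub hfin).trans ?_
  rw [← Set.image_univ]
  refine (Set.ncard_image_le (Set.toFinite _)).trans ?_
  rw [Set.ncard_univ, Nat.card_prod, Nat.card_eq_fintype_card, Fintype.card_fin]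

end Rep

end Cfsg.Agent.Lib.H3TC
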