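import Cfsg.Agent.Lib.NormalCyclic
import Cfsg.Agent.Lib.H3PGroup
import Cfsg.Agent.Lib.H31Extremal
import Cfsg.Agent.Lib.PGroupRank
import Cfsg.Agent.Lib.NormalFour

/-!
# A four-group acting on a perfect group whose `Γ` has 2-rank 1
-/

set_option autoImplicit false

namespace Cfsg.Agent.Lib.H46Gamma
open Cfsg.Agent.Lib.NormalCyclic
universe u

section rel
variable {P : Type u} [Group P] {a : P} {m : ℕ}

/-- a `P`-invariant four-group inside `S` -/
def HasFour (S : Subgroup P) : Prop :=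
  ∃ z w : P, z ∈ S ∧ w ∈ S ∧ z * z = 1 ∧ w * w = 1 ∧ z ≠ 1 ∧ w ≠ 1 ∧ w ≠ z ∧ (∀ g, g * z = z * g) ∧
    ∀ g, g * w * g⁻¹ = w ∨ g * w * g⁻¹ = w * z

theorem key_rel {S : Subgroup P} (hSn : S.Normal) (ha : orderOf a = 2 ^ (m + 1)) (haS : a ∈ S)
    (hN : (Subgroup.zpowers a).Normal)
    (hC : ∀ g ∈ S, g * a = a * g → g ∈ Subgroup.zpowers a) (hm : 2 ≤ m) {h : P} (hhS : h ∈ S)
    (hh : h * a * h⁻¹ = a ^ (1 + 2 ^ m : ℤ)) (hh2 : h * h ∈ Subgroup.zpowers a) : HasFour S := by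
  obtain ⟨s, hs⟩ := Subgroup.mem_zpowers_iff.1 hh2
  have hm2 : ∃ e : ℤ, (2 ^ m : ℤ) = 4 * e := ⟨2 ^ (m - 2), by
    have : (4 : ℤ) = 2 ^ 2 := by norm_num
    rw [this, ← pow_add]; congr 1; omega⟩
  obtain ⟨e, he⟩ := hm2
  have hM : (2 ^ (m + 1) : ℤ) = 8 * e := by rw [pow_succ, he]; ring
  have hhN : h ∉ Subgroup.zpowers a := by
    intro hc
    obtain ⟨i, rfl⟩ := Subgroup.mem_zpowers_iff.1 hc
    have : a ^ i * a * (a ^ i)⁻¹ = a ^ (1 : ℤ) := by
      rw [← zpow_add_one, ← zpow_neg, ← zpow_add]; congr 1; ring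
    rw [this, zpow_eq_iff ha] at hh
    have h3 : (2 ^ (m + 1) : ℤ) ∣ 2 ^ m := by
      have := (dvd_neg).2 hh
      rwa [show -(1 - (1 + 2 ^ m) : ℤ) = 2 ^ m by ring] at this
    have h2 := Int.le_of_dvd (by positivity) h3
    rw [pow_succ] at h2
    have : (0 : ℤ) < 2 ^ m := by positivity
    omega
  -- s is even
  have hse : ∃ c : ℤ, s = 2 * c := by
    have h1 := conj_act hh s
    have h2 : h * a ^ s * h⁻¹ = a ^ s := by rw [hs]; group
    rw [h2, zpow_eq_iff ha] at h1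
    obtain ⟨c, hc⟩ := h1
    refine ⟨-c, ?_⟩
    have hpos : (2 ^ m : ℤ) ≠ 0 := by positivity
    apply mul_left_cancel₀ hpos
    rw [pow_succ] at hc
    linear_combination -hc
  obtain ⟨c, rfl⟩ := hse
  -- the involution
  obtain ⟨i, hi⟩ : ∃ i : ℤ, (8 * e) ∣ i * (1 + (1 + 4 * e)) + 2 * c := by
    refine ⟨-c * (1 - 2 * e), ⟨c * e, ?_⟩⟩
    ring
  set h' := a ^ i * h with hh'
  have hsq' : ∀ j : ℤ, (a ^ j * h) * (a ^ j * h) = a ^ (j * (1 + (1 + 4 * e)) + 2 * c) := by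
    intro j
    have e1 : (a ^ j * h) * (a ^ j * h) = a ^ j * (h * a ^ j * h⁻¹) * (h * h) := by group
    rw [e1, conj_act hh, ← hs, ← zpow_add, ← zpow_add, he]
    congr 1; ring
  have hsq : h' * h' = 1 := by
    rw [hh', hsq', zpow_eq_one_iff ha, hM]
    exact hi
  have hact' : h' * a * h'⁻¹ = a ^ (1 + 2 ^ m : ℤ) := by
    rw [hh']
    have : a ^ i * h * a * (a ^ i * h)⁻¹ = a ^ i * (h * a * h⁻¹) * (a ^ i)⁻¹ := by group
    rw [this, hh, ← zpow_neg, ← zpow_add, ← zpow_add]; congr 1; ring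
  have hh'N : h' ∉ Subgroup.zpowers a := by
    intro hc
    apply hhN
    have := Subgroup.mul_mem _ (Subgroup.zpow_mem _ (Subgroup.mem_zpowers a) (-i)) hc
    rw [hh', ← mul_assoc, ← zpow_add, neg_add_cancel, zpow_zero, one_mul] at this
    exact this
  have hh'S : h' ∈ S := S.mul_mem (S.zpow_mem haS _) hhS
  refine ⟨a ^ (2 ^ m : ℤ), h', S.zpow_mem haS _, hh'S, z_sq ha, hsq, z_ne_one ha, ?_, ?_, z_central ha hN, ?_⟩
  · intro h1; exact hh'N (h1 ▸ Subgroup.one_mem _)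
  · intro h1; exact hh'N (h1 ▸ Subgroup.zpow_mem _ (Subgroup.mem_zpowers a) _)
  · intro g
    obtain ⟨k, hk⟩ := exists_act hN g
    obtain ⟨l, hl⟩ := exists_act hN g⁻¹
    have hkl : a ^ (k * l) = a := by
      have := act_mul hk hl
      rw [mul_inv_cancel] at this
      simpa using this.symm
    -- g h' g⁻¹ h'⁻¹ centralizes a
    have hcomm : (g * h' * g⁻¹ * h'⁻¹) * a = a * (g * h' * g⁻¹ * h'⁻¹) := by
      have e1 : (g * h' * g⁻¹) * a * (g * h' * g⁻¹)⁻¹ = a ^ (k * (1 + 2 ^ m) * l) :=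
        act_mul (act_mul hk hact') hl
      have e2 : a ^ (k * (1 + 2 ^ m) * l) = a ^ (1 + 2 ^ m : ℤ) := by
        rw [show k * (1 + 2 ^ m) * l = (k * l) * (1 + 2 ^ m) by ring, zpow_mul, hkl]
      rw [e2, ← hact'] at e1
      have e3 : (g * h' * g⁻¹ * h'⁻¹) * (h' * a * h'⁻¹) = (h' * a * h'⁻¹) * (g * h' * g⁻¹ * h'⁻¹) := by
        have : (g * h' * g⁻¹ * h'⁻¹) * (h' * a * h'⁻¹) = ((g * h' * g⁻¹) * a * (g * h' * g⁻¹)⁻¹) * (g * h' * g⁻¹ * h'⁻¹) := by
          group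
        rw [this, e1]
      rw [hact'] at e3
      -- raise to power `1 + 2^m`
      have e4 : Commute (g * h' * g⁻¹ * h'⁻¹) (a ^ (1 + 2 ^ m : ℤ)) := e3
      have e5 := e4.zpow_right (1 + 2 ^ m : ℤ)
      rw [← zpow_mul] at e5
      have e6 : a ^ ((1 + 2 ^ m) * (1 + 2 ^ m) : ℤ) = a ^ (1 : ℤ) := by
        rw [zpow_eq_iff ha, hM, he]
        exact ⟨1 + 2 * e, by ring⟩
      rw [e6, zpow_one] at e5
      exact e5
    obtain ⟨j, hj⟩ := Subgroup.mem_zpowers_iff.1 (hC _ (S.mul_mem (hSn.conj_mem _ hh'S g) (S.inv_mem hh'S)) hcomm)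
    have hgh : g * h' * g⁻¹ = a ^ j * h' := by rw [hj]; group
    have hsq2 : (a ^ j * h') * (a ^ j * h') = 1 := by
      rw [← hgh]
      have : (g * h' * g⁻¹) * (g * h' * g⁻¹) = g * (h' * h') * g⁻¹ := by group
      rw [this, hsq]; group
    have hsq3 : (a ^ j * h') * (a ^ j * h') = a ^ (j * (1 + (1 + 4 * e))) := by
      have e1 : (a ^ j * h') * (a ^ j * h') = a ^ j * (h' * a ^ j * h'⁻¹) * (h' * h') := by group
      rw [e1, conj_act hact', hsq, mul_one, ← zpow_add, he]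
      congr 1; ring
    rw [hsq3, zpow_eq_one_iff ha, hM] at hsq2
    have hj4 : (4 * e) ∣ j := by
      obtain ⟨w, hw⟩ := hsq2
      have hw' : j * (1 + 2 * e) = 4 * e * w := by
        have h2 : (2 : ℤ) ≠ 0 := by norm_num
        apply mul_left_cancel₀ h2
        linear_combination hw
      refine ⟨w * (1 - 2 * e) + e * j, ?_⟩
      linear_combination (1 - 2 * e) * hw'
    obtain ⟨d, hd⟩ := hj4
    have hz : a ^ j = 1 ∨ a ^ j = a ^ (2 ^ m : ℤ) := by
      apply z_unique ha (Subgroup.zpow_mem _ (Subgroup.mem_zpowers a) _)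
      rw [← zpow_add, zpow_eq_one_iff ha, hM, hd]
      exact ⟨d, by ring⟩
    rcases hz with h1 | h1
    · left; rw [hgh, h1, one_mul]
    · right; rw [hgh, h1]; exact (z_central ha hN h').symm

/-- An element outside `⟨a⟩` cannot act with exponent congruent to 1 modulo 4. -/
theorem exists_rel {S : Subgroup P} (hSn : S.Normal) (hP : IsPGroup 2 P) (ha : orderOf a = 2 ^ (m + 1)) (haS : a ∈ S)
    (hN : (Subgroup.zpowers a).Normal) (hC : ∀ g ∈ S, g * a = a * g → g ∈ Subgroup.zpowers a) (hm : 1 ≤ m) {g : P}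
    (hgS : g ∈ S) (hg : g ∉ Subgroup.zpowers a) {k : ℤ} (hk : g * a * g⁻¹ = a ^ k) (hk4 : (4 : ℤ) ∣ k - 1) :
    HasFour S := by
  classical
  obtain ⟨r, hr⟩ := hP g
  have hex : ∃ j : ℕ, g ^ 2 ^ j ∈ Subgroup.zpowers a := ⟨r, by rw [hr]; exact Subgroup.one_mem _⟩
  obtain ⟨j, hj⟩ : ∃ j, j = Nat.find hex := ⟨_, rfl⟩
  have hj1 : g ^ 2 ^ j ∈ Subgroup.zpowers a := hj ▸ Nat.find_spec hex
  have hj0 : j ≠ 0 := by
    rintro h0
    rw [h0, pow_zero, pow_one] at hj1
    exact hg hj1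
  obtain ⟨i, rfl⟩ := Nat.exists_eq_succ_of_ne_zero hj0
  have hi : g ^ 2 ^ i ∉ Subgroup.zpowers a := Nat.find_min hex (by omega)
  have hact := act_pow hk (2 ^ i)
  set h := g ^ 2 ^ i with hh
  have hh2 : h * h ∈ Subgroup.zpowers a := by
    rw [hh, ← pow_add, ← two_mul, ← pow_succ']
    exact hj1
  set l := k ^ 2 ^ i with hl
  have hl4 : (4 : ℤ) ∣ l - 1 := hk4.trans (sub_one_dvd_pow_sub_one k _)
  have hll : (2 ^ (m + 1) : ℤ) ∣ l * l - 1 := by
    have h1 := act_mul hact hact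
    obtain ⟨s, hs⟩ := Subgroup.mem_zpowers_iff.1 hh2
    rw [← hs] at h1
    have h2 : a ^ s * a * (a ^ s)⁻¹ = a ^ (1 : ℤ) := by
      rw [← zpow_add_one, ← zpow_neg, ← zpow_add]; congr 1; ring
    rw [h2, zpow_eq_iff ha] at h1
    rw [← dvd_neg, neg_sub]
    exact h1
  have hl1 : ¬ (2 ^ (m + 1) : ℤ) ∣ l - 1 := by
    intro h1
    apply hi
    refine hC _ (S.pow_mem hgS _) ?_
    have : a ^ l = a ^ (1 : ℤ) := by rw [zpow_eq_iff ha]; exact h1
    rw [this, zpow_one] at hact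
    calc h * a = (h * a * h⁻¹) * h := by group
      _ = a * h := by rw [hact]
  obtain ⟨u, hu⟩ := hl4
  have hm2 : 2 ≤ m := by
    by_contra hlt
    have : m = 1 := by omega
    subst this
    exact hl1 ⟨u, by rw [hu]; norm_num⟩
  -- 2^m divides l - 1
  have hdvd : (2 ^ m : ℤ) ∣ l - 1 := by
    have h1 : (2 ^ (m + 1) : ℤ) ∣ (1 + 2 * u) * (2 * (l - 1)) := by
      have : (1 + 2 * u) * (2 * (l - 1)) = l * l - 1 := by
        linear_combination (-(l - 1)) * hu
      rw [this]; exact hll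
    have hcop : IsCoprime (2 ^ (m + 1) : ℤ) (1 + 2 * u) := by
      apply IsCoprime.pow_left
      exact ⟨-u, 1, by ring⟩
    have h2 := hcop.dvd_of_dvd_mul_left h1
    rw [pow_succ, mul_comm] at h2
    exact Int.dvd_of_mul_dvd_mul_left (by norm_num) h2
  obtain ⟨v, hv⟩ := hdvd
  have hvodd : Odd v := by
    rw [← Int.not_even_iff_odd]
    rintro ⟨w, hw⟩
    apply hl1
    exact ⟨w, by rw [hv, hw, pow_succ]; ring⟩
  obtain ⟨w, hw⟩ := hvodd
  apply key_rel hSn ha haS hN hC hm2 (h := h) (S.pow_mem hgS _) ?_ hh2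
  rw [hact, zpow_eq_iff ha]
  refine ⟨w, ?_⟩
  rw [hw] at hv
  linear_combination hv


/-- The self-centralizing cyclic subgroup and its subgroup of order 4. -/
theorem exists_cyclic_four [Finite P] (hP : IsPGroup 2 P) {S : Subgroup P} (hSn : S.Normal) (hF : ¬ HasFour S)
    {x y : P} (hx : x ∈ S) (hy : y ∈ S) (hx2 : x * x = 1) (hy2 : y * y = 1) (hx1 : x ≠ 1) (hy1 : y ≠ 1) (hxy : x ≠ y) :
    ∃ c r : P, r ∈ S ∧ c ∈ Subgroup.zpowers r ∧ (Subgroup.zpowers r).Normal ∧ c ^ 4 = 1 ∧ c * c ≠ 1 ∧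
      (∀ g ∈ S, g * c = c * g → g ∈ Subgroup.zpowers r) ∧ (∀ g, g * c * g⁻¹ = c ∨ g * c * g⁻¹ = c⁻¹) ∧
      (∀ g ∈ Subgroup.zpowers r, g * g = 1 → g = 1 ∨ g = c * c) ∧
      (∀ g ∈ Subgroup.zpowers r, g * g ≠ 1 → c ∈ Subgroup.zpowers g) := by
  classical
  have : Fact (Nat.Prime 2) := ⟨Nat.prime_two⟩
  -- a maximal one
  obtain ⟨A, ⟨hAS, hAn, hAc⟩, hAmax⟩ : ∃ A : Subgroup P, (A ≤ S ∧ A.Normal ∧ ∀ x ∈ A, ∀ y ∈ A, x * y = y * x) ∧
      ∀ B : Subgroup P, (B ≤ S ∧ B.Normal ∧ ∀ x ∈ B, ∀ y ∈ B, x * y = y * x) → A ≤ B → A = B := by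
    have h := Set.Finite.exists_maximal (s := {A : Subgroup P | A ≤ S ∧ A.Normal ∧ ∀ x ∈ A, ∀ y ∈ A, x * y = y * x})
      (Set.toFinite _) ⟨⊥, bot_le, inferInstance, by
        intro x hx y hy
        rw [Subgroup.mem_bot] at hx hy
        rw [hx, hy]⟩
    obtain ⟨A, hA⟩ := h
    exact ⟨A, hA.prop, fun B hB hAB => le_antisymm hAB (hA.le_of_ge hB hAB)⟩
  have := hAn
  have hAC : ∀ g ∈ S, (∀ x ∈ A, x * g = g * x) → g ∈ A := by
    by_contra hcon
    push Not at hcon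
    obtain ⟨g, hgS, hgc, hgA⟩ := hcon
    have := H3PGroup.centralizer_normal A
    have := hSn
    obtain ⟨w, hwN, hwA, hw1, -⟩ := H3PGroup.exists_central_mod hP A (S ⊓ Subgroup.centralizer (A : Set P))
      (fun h => hgA (h ⟨hgS, Subgroup.mem_centralizer_iff.2 hgc⟩))
    have h1 := H3PGroup.sup_zpowers_normal_comm A hAc w (fun x hx => Subgroup.mem_centralizer_iff.1 hwN.2 x hx) hw1
    have h2 := hAmax _ ⟨sup_le hAS ((Subgroup.zpowers_le).2 hwN.1), h1.1, h1.2⟩ le_sup_left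
    apply hwA
    rw [h2]
    exact Subgroup.mem_sup_right (Subgroup.mem_zpowers w)
  have hab : A ≤ Subgroup.centralizer (A : Set P) := fun x hx => Subgroup.mem_centralizer_iff.2 fun y hy => hAc y hy x hx
  -- cyclic
  have hcyc : ∃ r : A, ∀ x : A, x ∈ Subgroup.zpowers r := by
    refine UniqueInvolution.cyclic_of_comm (p := 2) (hP.to_subgroup A) (fun x y => Subtype.ext (hAc x x.2 y y.2)) ?_
    by_contra hcon
    push Not at hcon
    obtain ⟨u, v, hu, hv, huv⟩ := hcon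
    apply hF
    have hr : 2 < Nat.card (NormalFour.omega A hab) := by
      have hu2 : (u : P) * u = 1 := by
        rw [← pow_two, ← Subgroup.coe_pow, ← hu, pow_orderOf_eq_one, Subgroup.coe_one]
      have hv2 : (v : P) * v = 1 := by
        rw [← pow_two, ← Subgroup.coe_pow, ← hv, pow_orderOf_eq_one, Subgroup.coe_one]
      have hf : ({1, ⟨u, u.2, hu2⟩, ⟨v, v.2, hv2⟩} : Finset (NormalFour.omega A hab)).card = 3 := by
        rw [Finset.card_insert_of_notMem, Finset.card_insert_of_notMem, Finset.card_singleton]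
        · simp only [Finset.mem_singleton]
          intro h
          have h' : (u : P) = v := congrArg (fun t : NormalFour.omega A hab => (t : P)) h
          have h'' : u = v := Subtype.ext h'
          exact huv (by rw [← h'']; exact Subgroup.mem_zpowers u)
        · simp only [Finset.mem_insert, Finset.mem_singleton, not_or]
          constructor
          · intro h
            have h' : (1 : P) = u := congrArg (fun t : NormalFour.omega A hab => (t : P)) h
            have h'' : u = 1 := Subtype.ext h'.symm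
            rw [h'', orderOf_one] at hu; omega
          · intro h
            have h' : (1 : P) = v := congrArg (fun t : NormalFour.omega A hab => (t : P)) h
            have h'' : v = 1 := Subtype.ext h'.symm
            rw [h'', orderOf_one] at hv; omega
      let _ := Fintype.ofFinite (NormalFour.omega A hab)
      have := Finset.card_le_univ ({1, ⟨u, u.2, hu2⟩, ⟨v, v.2, hv2⟩} : Finset (NormalFour.omega A hab))
      rw [hf, ← Nat.card_eq_fintype_card] at this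
      omega
    obtain ⟨z, w, hz, hw, hz2, hw2, hz1, hw1, hwz, hzc, hwc⟩ := NormalFour.exists_normal_four (S := ⊤) (A := A)
      (hP.to_subgroup ⊤) le_top (by rw [Subgroup.normalizer_eq_top]) hab hr
    exact ⟨z, w, hAS hz, hAS hw, hz2, hw2, hz1, hw1, hwz, fun g => hzc g trivial, fun g => hwc g trivial⟩
  obtain ⟨⟨r, hrA⟩, hr⟩ := hcyc
  have hAr : A = Subgroup.zpowers r := by
    apply le_antisymm
    · intro x hx
      obtain ⟨k, hk⟩ := Subgroup.mem_zpowers_iff.1 (hr ⟨x, hx⟩)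
      exact ⟨k, congrArg Subtype.val hk⟩
    · rw [Subgroup.zpowers_le]; exact hrA
  subst hAr
  have hC : ∀ g ∈ S, g * r = r * g → g ∈ Subgroup.zpowers r := by
    intro g hgS hg
    apply hAC g hgS
    intro x hx
    obtain ⟨k, rfl⟩ := Subgroup.mem_zpowers_iff.1 hx
    exact ((show Commute g r from hg).zpow_right k).symm
  obtain ⟨N, hN⟩ := (IsPGroup.iff_orderOf.1 hP) r
  obtain ⟨m, rfl⟩ : ∃ m, N = m + 1 := by
    rcases N with _ | m
    · exfalso
      rw [pow_zero, orderOf_eq_one_iff] at hN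
      subst hN
      have := hC x hx (by rw [mul_one, one_mul])
      rw [Subgroup.zpowers_one_eq_bot, Subgroup.mem_bot] at this
      exact hx1 this
    · exact ⟨m, rfl⟩
  have hm : 1 ≤ m := by
    rcases m with _ | m
    · exfalso
      have hc := z_central hN hAn
      simp only [pow_zero, zpow_one] at hc
      have h1 := z_unique hN (hC x hx (hc x)) hx2
      have h2 := z_unique hN (hC y hy (hc y)) hy2
      rcases h1 with h1 | h1
      · exact hx1 h1
      · rcases h2 with h2 | h2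
        · exact hy1 h2
        · exact hxy (h1.trans h2.symm)
    · omega
  obtain ⟨e, rfl⟩ : ∃ e, m = e + 1 := ⟨m - 1, by omega⟩
  have hc2 : r ^ (2 ^ e : ℤ) * r ^ (2 ^ e : ℤ) = r ^ (2 ^ (e + 1) : ℤ) := by
    rw [← zpow_add]; congr 1; ring
  refine ⟨r ^ (2 ^ e : ℤ), r, hAS hrA, Subgroup.zpow_mem _ (Subgroup.mem_zpowers r) _, hAn, ?_, ?_, ?_, ?_, ?_, ?_⟩
  · rw [← zpow_natCast, ← zpow_mul, zpow_eq_one_iff hN]
    exact ⟨1, by push_cast; ring⟩
  · rw [hc2]; exact z_ne_one hN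
  · intro g hgS hg
    by_contra hgr
    obtain ⟨k, hk⟩ := exists_act hAn g
    have h1 := conj_act hk (2 ^ e)
    have h2 : g * r ^ (2 ^ e : ℤ) * g⁻¹ = r ^ (2 ^ e : ℤ) := by rw [hg]; group
    rw [h2, zpow_eq_iff hN] at h1
    obtain ⟨d, hd⟩ := h1
    have h4 : (4 : ℤ) ∣ k - 1 := by
      refine ⟨-d, ?_⟩
      have hpos : (2 ^ e : ℤ) ≠ 0 := by positivity
      apply mul_left_cancel₀ hpos
      linear_combination -hd
    exact hF (exists_rel hSn hP hN (hAS hrA) hAn hC hm hgS hgr hk h4)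
  · intro g
    obtain ⟨k, hk⟩ := exists_act hAn g
    have h1 := conj_act hk (2 ^ e)
    obtain ⟨l, hl⟩ := act_odd hN hk
    rw [h1]
    rcases Int.even_or_odd' l with ⟨d, rfl | rfl⟩
    · left
      rw [zpow_eq_iff hN]
      exact ⟨d, by rw [hl]; ring⟩
    · right
      rw [← zpow_neg, zpow_eq_iff hN]
      exact ⟨d + 1, by rw [hl]; ring⟩
  · intro g hg hg2
    rw [hc2]
    exact z_unique hN hg hg2
  · intro g hg hg2
    obtain ⟨i, rfl⟩ := Subgroup.mem_zpowers_iff.1 hg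
    rw [← zpow_add, Ne, zpow_eq_one_iff hN] at hg2
    obtain ⟨f, hfe, hf⟩ := (Nat.dvd_prime_pow Nat.prime_two).1
      (show Int.gcd i (2 ^ (e + 1 + 1) : ℤ) ∣ 2 ^ (e + 1 + 1) from by
        have := Int.gcd_dvd_right (a := i) (b := (2 ^ (e + 1 + 1) : ℤ))
        exact_mod_cast this)
    have hfe' : f ≤ e := by
      by_contra hlt
      apply hg2
      have h1 : ((2 ^ f : ℕ) : ℤ) ∣ i := hf ▸ Int.gcd_dvd_left (a := i) (b := (2 ^ (e + 1 + 1) : ℤ))
      have h2 : (2 ^ (e + 1) : ℤ) ∣ i := by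
        refine dvd_trans ?_ h1
        push_cast
        exact pow_dvd_pow 2 (by omega)
      obtain ⟨d, hd⟩ := h2
      exact ⟨d, by rw [hd]; ring⟩
    have hbez := Int.gcd_eq_gcd_ab i (2 ^ (e + 1 + 1) : ℤ)
    rw [hf] at hbez
    set u := Int.gcdA i (2 ^ (e + 1 + 1) : ℤ)
    set v := Int.gcdB i (2 ^ (e + 1 + 1) : ℤ)
    refine Subgroup.mem_zpowers_iff.2 ⟨u * 2 ^ (e - f), ?_⟩
    rw [← zpow_mul, zpow_eq_iff hN]
    refine ⟨-v * 2 ^ (e - f), ?_⟩
    have h3 : (2 ^ e : ℤ) = 2 ^ f * 2 ^ (e - f) := by rw [← pow_add]; congr 1; omega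
    push_cast at hbez
    rw [h3, hbez]
    ring

end rel

theorem exists_two {G : Type u} [Group G] [Finite G] {X : Subgroup G} (h : 2 < Nat.card X) :
    ∃ x y : G, x ∈ X ∧ y ∈ X ∧ x ≠ 1 ∧ y ≠ 1 ∧ x ≠ y := by
  classical
  let _ := Fintype.ofFinite X
  rw [Nat.card_eq_fintype_card] at h
  obtain ⟨x, -, hx⟩ := Finset.exists_mem_notMem_of_card_lt_card (s := {(1 : X)}) (t := Finset.univ)
    (by rw [Finset.card_singleton, Finset.card_univ]; omega)
  obtain ⟨y, -, hy⟩ := Finset.exists_mem_notMem_of_card_lt_card (s := {(1 : X), x}) (t := Finset.univ)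
    (lt_of_le_of_lt (Finset.card_le_two) (by rw [Finset.card_univ]; omega))
  simp only [Finset.mem_singleton] at hx
  simp only [Finset.mem_insert, Finset.mem_singleton, not_or] at hy
  exact ⟨x, y, x.2, y.2, fun h => hx (Subtype.ext h), fun h => hy.1 (Subtype.ext h), fun h => hy.2 (Subtype.ext h.symm)⟩

open Subgroup in
theorem core {H : Type u} [Group H] [Finite H] (L : Subgroup H) (hLn : L.Normal) (hL : L ≤ ⁅L, L⁆)
    (U : Subgroup H) (hU : IsKleinFour U)
    (hno : ∀ u ∈ U, u ≠ 1 → ∀ z w : H, z ∈ L → w ∈ L → z * z = 1 → w * w = 1 → z ≠ 1 → w ≠ 1 → z ≠ w →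
      z * w = w * z → u * z = z * u → u * w = w * u → False) :
    Cfsg.PRankLE 2 1 L := by
  classical
  have : Fact (Nat.Prime 2) := ⟨Nat.prime_two⟩
  by_contra hrk
  have hUsq : ∀ u ∈ U, u * u = 1 := fun u hu => congrArg Subtype.val (IsKleinFour.mul_self (⟨u, hu⟩ : U))
  have hUp : IsPGroup 2 U := IsPGroup.of_card (n := 2) (by rw [IsKleinFour.card_four]; norm_num)
  obtain ⟨u1, u2, hu1, hu2, hu11, hu21, hu12⟩ := exists_two (X := U) (by rw [IsKleinFour.card_four]; norm_num)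
  have hu31 : u1 * u2 ≠ 1 := by
    intro h
    apply hu12
    have := hUsq u2 hu2
    exact mul_right_cancel (h.trans this.symm)
  obtain ⟨T, hUT⟩ := hUp.exists_le_sylow
  obtain ⟨E, hEL, hEe, hEc⟩ := PGroupRank.not_pRankLE_subgroup_iff.1 hrk
  obtain ⟨T', hET'⟩ := (PGroupRank.IsElementaryAbelian.isPGroup hEe).exists_le_sylow
  obtain ⟨g, hg⟩ := MulAction.exists_smul_eq H T' T
  obtain ⟨x, y, hx, hy, hx1, hy1, hxy⟩ := exists_two (X := E) (by rw [hEc]; norm_num)
  have hET : ∀ e ∈ E, g * e * g⁻¹ ∈ (T : Subgroup H) := by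
    intro e he
    rw [← hg]
    exact Subgroup.smul_mem_pointwise_smul e (MulAut.conj g) _ (hET' he)
  have hEsq : ∀ e ∈ E, e * e = 1 := fun e he => by rw [← pow_two]; exact hEe.2 e he
  set S : Subgroup T := L.subgroupOf T with hS
  have hSn : S.Normal := inferInstance
  have hTp : IsPGroup 2 T := T.isPGroup'
  have hUT' : ∀ u ∈ U, u ∈ (T : Subgroup H) := fun u hu => hUT hu
  -- no invariant four-group
  have hF : ¬ HasFour S := by
    rintro ⟨z, w, hz, hw, hz2, hw2, hz1, hw1, hwz, hzc, hwc⟩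
    have key : ∀ u : T, (u : H) ∈ U → (u : H) ≠ 1 → u * w * u⁻¹ = w → False := by
      intro u hu hu1 h
      have h2 : u * w = w * u := by
        calc u * w = (u * w * u⁻¹) * u := by group
          _ = w * u := by rw [h]
      exact hno u hu hu1 z w hz hw (congrArg Subtype.val hz2) (congrArg Subtype.val hw2)
        (fun h => hz1 (Subtype.ext h)) (fun h => hw1 (Subtype.ext h)) (fun h => hwz (Subtype.ext h.symm))
        (congrArg Subtype.val (hzc w).symm) (congrArg Subtype.val (hzc u)) (congrArg Subtype.val h2)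
    rcases hwc ⟨u1, hUT' _ hu1⟩ with h1 | h1
    · exact key _ hu1 hu11 h1
    · rcases hwc ⟨u2, hUT' _ hu2⟩ with h2 | h2
      · exact key _ hu2 hu21 h2
      · refine key (⟨u1, hUT' _ hu1⟩ * ⟨u2, hUT' _ hu2⟩) (U.mul_mem hu1 hu2) hu31 ?_
        have e : (⟨u1, hUT' _ hu1⟩ * ⟨u2, hUT' _ hu2⟩ : T) * w * (⟨u1, hUT' _ hu1⟩ * ⟨u2, hUT' _ hu2⟩ : T)⁻¹ =
          ⟨u1, hUT' _ hu1⟩ * (⟨u2, hUT' _ hu2⟩ * w * (⟨u2, hUT' _ hu2⟩ : T)⁻¹) * (⟨u1, hUT' _ hu1⟩ : T)⁻¹ := by group
        rw [e, h2]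
        have e2 : (⟨u1, hUT' _ hu1⟩ : T) * (w * z) * (⟨u1, hUT' _ hu1⟩ : T)⁻¹ =
          ((⟨u1, hUT' _ hu1⟩ : T) * w * (⟨u1, hUT' _ hu1⟩ : T)⁻¹) * (⟨u1, hUT' _ hu1⟩ * z * (⟨u1, hUT' _ hu1⟩ : T)⁻¹) := by
          group
        rw [e2, h1, hzc ⟨u1, hUT' _ hu1⟩, mul_inv_cancel_right, mul_assoc, hz2, mul_one]
  -- the cyclic subgroup
  have hcj : ∀ e ∈ E, (g * e * g⁻¹) * (g * e * g⁻¹) = 1 := by
    intro e he
    calc (g * e * g⁻¹) * (g * e * g⁻¹) = g * (e * e) * g⁻¹ := by group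
      _ = 1 := by rw [hEsq e he]; group
  have hcj1 : ∀ e : H, e ≠ 1 → g * e * g⁻¹ ≠ 1 := by
    intro e he h
    apply he
    calc e = g⁻¹ * (g * e * g⁻¹) * g := by group
      _ = 1 := by rw [h]; group
  obtain ⟨c, r, hrS, hcr, hrn, hc4, hc2, hCc, hcc, hzu, hcg⟩ := exists_cyclic_four hTp hSn hF
    (x := ⟨g * x * g⁻¹, hET x hx⟩) (y := ⟨g * y * g⁻¹, hET y hy⟩) (hLn.conj_mem x (hEL hx) g)
    (hLn.conj_mem y (hEL hy) g) (Subtype.ext (hcj x hx)) (Subtype.ext (hcj y hy))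
    (fun h => hcj1 x hx1 (congrArg Subtype.val h)) (fun h => hcj1 y hy1 (congrArg Subtype.val h))
    (fun h => hxy (by
      have h' : g * x * g⁻¹ = g * y * g⁻¹ := congrArg Subtype.val h
      exact mul_left_cancel (mul_right_cancel h')))
  have hz2 : (c * c) * (c * c) = 1 := by
    rw [← hc4]; simp only [pow_succ, pow_zero, one_mul, mul_assoc]
  have hcinv : c⁻¹ * c⁻¹ = c * c := by
    calc c⁻¹ * c⁻¹ = c⁻¹ * c⁻¹ * (c * c * (c * c)) := by rw [hz2, mul_one]
      _ = c * c := by simp only [mul_assoc, inv_mul_cancel_left]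
  -- the involution `z = c * c` is central
  have hzc : ∀ t : T, t * (c * c) = (c * c) * t := by
    intro t
    have e : t * (c * c) = (t * c * t⁻¹) * (t * c * t⁻¹) * t := by group
    rw [e]
    rcases hcc t with h | h
    · rw [h]
    · rw [h, hcinv]
  have hrS' : Subgroup.zpowers r ≤ S := by rw [Subgroup.zpowers_le]; exact hrS
  have hcS : c ∈ S := hrS' hcr
  -- an involution `s` outside
  obtain ⟨s, hsS, hs2, hs1, hsz⟩ : ∃ s : T, s ∈ S ∧ s * s = 1 ∧ s ≠ 1 ∧ s ≠ c * c := by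
    by_cases h : (⟨g * x * g⁻¹, hET x hx⟩ : T) = c * c
    · refine ⟨⟨g * y * g⁻¹, hET y hy⟩, hLn.conj_mem y (hEL hy) g, Subtype.ext (hcj y hy),
        fun h => hcj1 y hy1 (congrArg Subtype.val h), ?_⟩
      intro h2
      apply hxy
      have h' : g * x * g⁻¹ = g * y * g⁻¹ := congrArg Subtype.val (h.trans h2.symm)
      exact mul_left_cancel (mul_right_cancel h')
    · exact ⟨⟨g * x * g⁻¹, hET x hx⟩, hLn.conj_mem x (hEL hx) g, Subtype.ext (hcj x hx),
        fun h => hcj1 x hx1 (congrArg Subtype.val h), h⟩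
  have hsr : s ∉ Subgroup.zpowers r := by
    intro h
    rcases hzu s h hs2 with h | h
    · exact hs1 h
    · exact hsz h
  have hsinv : s⁻¹ = s := inv_eq_of_mul_eq_one_left hs2
  have hsc : s * c * s⁻¹ = c⁻¹ := by
    rcases hcc s with h | h
    · exfalso
      apply hsr
      apply hCc s hsS
      calc s * c = (s * c * s⁻¹) * s := by group
        _ = c * s := by rw [h]
    · exact h
  -- an element `a` of `U` centralizing `c`
  obtain ⟨a, haU, ha1, hac⟩ : ∃ a : T, (a : H) ∈ U ∧ (a : H) ≠ 1 ∧ a * c * a⁻¹ = c := by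
    rcases hcc ⟨u1, hUT' _ hu1⟩ with h1 | h1
    · exact ⟨_, hu1, hu11, h1⟩
    · rcases hcc ⟨u2, hUT' _ hu2⟩ with h2 | h2
      · exact ⟨_, hu2, hu21, h2⟩
      · refine ⟨⟨u1, hUT' _ hu1⟩ * ⟨u2, hUT' _ hu2⟩, U.mul_mem hu1 hu2, hu31, ?_⟩
        have e : (⟨u1, hUT' _ hu1⟩ * ⟨u2, hUT' _ hu2⟩ : T) * c * (⟨u1, hUT' _ hu1⟩ * ⟨u2, hUT' _ hu2⟩ : T)⁻¹ =
          ⟨u1, hUT' _ hu1⟩ * (⟨u2, hUT' _ hu2⟩ * c * (⟨u2, hUT' _ hu2⟩ : T)⁻¹) * (⟨u1, hUT' _ hu1⟩ : T)⁻¹ := by group
        rw [e, h2]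
        have e2 : (⟨u1, hUT' _ hu1⟩ : T) * c⁻¹ * (⟨u1, hUT' _ hu1⟩ : T)⁻¹ =
          ((⟨u1, hUT' _ hu1⟩ : T) * c * (⟨u1, hUT' _ hu1⟩ : T)⁻¹)⁻¹ := by
          group
        rw [e2, h1, inv_inv]
  have ha2 : a * a = 1 := Subtype.ext (hUsq a haU)
  have hainv : a⁻¹ = a := inv_eq_of_mul_eq_one_left ha2
  have hac' : a * c = c * a := by
    calc a * c = (a * c * a⁻¹) * a := by group
      _ = c * a := by rw [hac]
  -- `y0 = [a, s]`
  have hy0r : a * s * a⁻¹ * s⁻¹ ∈ Subgroup.zpowers r := by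
    apply hCc _ (S.mul_mem (hSn.conj_mem _ hsS a) (S.inv_mem hsS))
    have h1 : s⁻¹ * c = c⁻¹ * s⁻¹ := by
      calc s⁻¹ * c = s * c := by rw [hsinv]
        _ = (s * c * s⁻¹) * s := by group
        _ = c⁻¹ * s := by rw [hsc]
        _ = c⁻¹ * s⁻¹ := by rw [hsinv]
    have h2 : a⁻¹ * c⁻¹ = c⁻¹ * a⁻¹ := by
      rw [← mul_inv_rev, ← mul_inv_rev, hac']
    have h3 : s * c⁻¹ = c * s := by
      have : s * c⁻¹ * s⁻¹ = c := by
        have e : s * c⁻¹ * s⁻¹ = (s * c * s⁻¹)⁻¹ := by group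
        rw [e, hsc, inv_inv]
      calc s * c⁻¹ = (s * c⁻¹ * s⁻¹) * s := by group
        _ = c * s := by rw [this]
    calc a * s * a⁻¹ * s⁻¹ * c = a * s * a⁻¹ * (s⁻¹ * c) := by group
      _ = a * s * (a⁻¹ * c⁻¹) * s⁻¹ := by rw [h1]; group
      _ = a * (s * c⁻¹) * a⁻¹ * s⁻¹ := by rw [h2]; group
      _ = (a * c) * s * a⁻¹ * s⁻¹ := by rw [h3]; group
      _ = c * (a * s * a⁻¹ * s⁻¹) := by rw [hac']; group
  have hy0a : a * (a * s * a⁻¹ * s⁻¹) * a⁻¹ = (a * s * a⁻¹ * s⁻¹)⁻¹ := by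
    have e1 : a * (a * s * a⁻¹ * s⁻¹) * a⁻¹ = (a * a) * s * a⁻¹ * s⁻¹ * a⁻¹ := by group
    rw [e1, ha2, one_mul, hainv]
    have e2 : (a * s * a * s⁻¹)⁻¹ = s * a⁻¹ * s⁻¹ * a⁻¹ := by group
    rw [e2, hainv]
  have hy0 : a * s * a⁻¹ * s⁻¹ = c * c := by
    by_cases hsq : (a * s * a⁻¹ * s⁻¹) * (a * s * a⁻¹ * s⁻¹) = 1
    · rcases hzu _ hy0r hsq with h | h
      · exfalso
        have has : a * s = s * a := by
          calc a * s = (a * s * a⁻¹ * s⁻¹) * s * a := by group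
            _ = s * a := by rw [h, one_mul]
        exact hno a haU ha1 (c * c : T) s (S.mul_mem hcS hcS) hsS (congrArg Subtype.val hz2)
          (congrArg Subtype.val hs2) (fun h => hc2 (Subtype.ext h)) (fun h => hs1 (Subtype.ext h))
          (fun h => hsz (Subtype.ext h.symm)) (congrArg Subtype.val (hzc s).symm) (congrArg Subtype.val (hzc a))
          (congrArg Subtype.val has)
      · exact h
    · exfalso
      obtain ⟨k, hk⟩ := Subgroup.mem_zpowers_iff.1 (hcg _ hy0r hsq)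
      have h1 : a * c * a⁻¹ = c⁻¹ := by
        rw [← hk, ← conj_zpow, hy0a, inv_zpow]
      rw [hac] at h1
      apply hc2
      calc c * c = c⁻¹ * c := by rw [← h1]
        _ = 1 := by group
  -- `d = c * a`
  have hd : c * a * s = s * (c * a) := by
    have h1 : a * s = (c * c) * s * a := by
      calc a * s = (a * s * a⁻¹ * s⁻¹) * s * a := by group
        _ = (c * c) * s * a := by rw [hy0]
    have h2 : c * s = s * c⁻¹ := by
      calc c * s = (c⁻¹)⁻¹ * s := by rw [inv_inv]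
        _ = (s * c * s⁻¹)⁻¹ * s := by rw [hsc]
        _ = s * c⁻¹ := by group
    calc c * a * s = c * (a * s) := by group
      _ = (c * c) * (c * s) * a := by rw [h1]; group
      _ = (c * c) * s * c⁻¹ * a := by rw [h2]; group
      _ = s * (c * c) * c⁻¹ * a := by rw [← hzc s]
      _ = s * (c * a) := by group
  have hd2 : (c * a) * (c * a) = c * c := by
    calc (c * a) * (c * a) = c * (a * c) * a := by group
      _ = c * c * (a * a) := by rw [hac']; group
      _ = c * c := by rw [ha2, mul_one]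
  -- fusion
  set T0 : Subgroup H := (T : Subgroup H) ⊓ Subgroup.centralizer {(c : H)} with hT0
  have hmemT0 : ∀ t : T, t ∈ T0.subgroupOf T ↔ t * c * t⁻¹ = c := by
    intro t
    rw [Subgroup.mem_subgroupOf, hT0, Subgroup.mem_inf, Subgroup.mem_centralizer_singleton_iff]
    constructor
    · rintro ⟨-, h⟩
      have h' : t * c = c * t := Subtype.ext h
      rw [h', mul_inv_cancel_right]
    · intro h
      refine ⟨t.2, ?_⟩
      have h' : t * c = c * t := by
        calc t * c = (t * c * t⁻¹) * t := by group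
          _ = c * t := by rw [h]
      exact congrArg Subtype.val h'
  have hTn : (T0.subgroupOf T).Normal := by
    refine ⟨fun n hn t => ?_⟩
    rw [hmemT0] at hn ⊢
    have hn' : n * c⁻¹ * n⁻¹ = c⁻¹ := by
      have e : n * c⁻¹ * n⁻¹ = (n * c * n⁻¹)⁻¹ := by group
      rw [e, hn]
    have e : t * n * t⁻¹ * c * (t * n * t⁻¹)⁻¹ = t * (n * (t⁻¹ * c * (t⁻¹)⁻¹) * n⁻¹) * t⁻¹ := by group
    rw [e]
    have h3 : n * (t⁻¹ * c * (t⁻¹)⁻¹) * n⁻¹ = t⁻¹ * c * (t⁻¹)⁻¹ := by
      rcases hcc t⁻¹ with h | h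
      · rw [h, hn]
      · rw [h, hn']
    rw [h3]; group
  have hcyc : IsCyclic (T ⧸ T0.subgroupOf T) := by
    by_cases htop : ∀ t : T, t ∈ T0.subgroupOf T
    · have : Subsingleton (T ⧸ T0.subgroupOf T) := by
        refine ⟨fun q1 q2 => ?_⟩
        induction q1 using QuotientGroup.induction_on with
        | H t1 =>
          induction q2 using QuotientGroup.induction_on with
          | H t2 => exact QuotientGroup.eq.2 (htop _)
      infer_instance
    · push Not at htop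
      obtain ⟨t0, ht0⟩ := htop
      refine ⟨⟨(QuotientGroup.mk t0 : T ⧸ T0.subgroupOf T), fun q => ?_⟩⟩
      induction q using QuotientGroup.induction_on with
      | H t =>
        by_cases ht : t ∈ T0.subgroupOf T
        · rw [(QuotientGroup.eq_one_iff t).2 ht]
          exact ⟨0, by simp⟩
        · have : (QuotientGroup.mk t : T ⧸ T0.subgroupOf T) = QuotientGroup.mk t0 := by
            rw [QuotientGroup.eq, hmemT0]
            rw [hmemT0] at ht ht0
            have h1 := (hcc t0).resolve_left ht0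
            have h2 : t⁻¹ * c⁻¹ * t = c := by
              rw [← (hcc t).resolve_left ht]; group
            have e : t⁻¹ * t0 * c * (t⁻¹ * t0)⁻¹ = t⁻¹ * (t0 * c * t0⁻¹) * t := by group
            rw [e, h1, h2]
          rw [this]
          exact Subgroup.mem_zpowers _
  have hcomm : (s : H) ∈ commutator H := by
    have h1 : (s : H) ∈ L := hsS
    exact (Subgroup.commutator_mono le_top le_top) (hL h1)
  have hRy : Subgroup.zpowers ((c * a : T) : H) ≤ Subgroup.centralizer {(s : H)} := by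
    rw [Subgroup.zpowers_le, Subgroup.mem_centralizer_singleton_iff]
    exact congrArg Subtype.val hd
  have hRp : IsPGroup 2 (Subgroup.zpowers ((c * a : T) : H)) := by
    apply hTp.to_le
    rw [Subgroup.zpowers_le]
    exact (c * a : T).2
  obtain ⟨v, hv1, hv2⟩ := H31Extremal.exists_conj (S := (T : Subgroup H)) (T := T0) T.not_dvd_index hTn hcyc
    (y := (s : H)) (by rw [pow_two]; exact congrArg Subtype.val hs2) hcomm hRp hRy
  -- the conjugate of `s` is `z`
  have hq : ∀ q : T, (q : H) ∈ L → q * c * q⁻¹ = c → q * q = 1 → q ≠ 1 → q = c * c := by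
    intro q hqL hqc hq2 hq1
    have h1 : q * c = c * q := by
      calc q * c = (q * c * q⁻¹) * q := by group
        _ = c * q := by rw [hqc]
    exact (hzu q (hCc q hqL h1) hq2).resolve_left hq1
  have hs' : v * s * v⁻¹ = ((c * c : T) : H) := by
    have h1 := hq ⟨v * s * v⁻¹, hv1.1⟩ (hLn.conj_mem _ hsS v)
      ((hmemT0 ⟨v * s * v⁻¹, hv1.1⟩).1 hv1) (Subtype.ext (by
        change (v * s * v⁻¹) * (v * s * v⁻¹) = 1
        have : (s : H) * s = 1 := congrArg Subtype.val hs2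
        calc (v * s * v⁻¹) * (v * s * v⁻¹) = v * (s * s : H) * v⁻¹ := by group
          _ = 1 := by rw [this]; group)) (by
        intro h
        have h' : v * s * v⁻¹ = 1 := congrArg Subtype.val h
        apply hs1
        apply Subtype.ext
        change (s : H) = 1
        calc (s : H) = v⁻¹ * (v * s * v⁻¹) * v := by group
          _ = 1 := by rw [h']; group)
    exact congrArg Subtype.val h1
  have hdT := hv2 _ (Subgroup.mem_zpowers ((c * a : T) : H))
  have hd2' : ((c * a : T) : H) * ((c * a : T) : H) = ((c * c : T) : H) := congrArg Subtype.val hd2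
  have hzz : v * ((c * c : T) : H) * v⁻¹ = (v * ((c * a : T) : H) * v⁻¹) * (v * ((c * a : T) : H) * v⁻¹) := by
    rw [← hd2']; group
  have hz' : v * ((c * c : T) : H) * v⁻¹ = ((c * c : T) : H) := by
    have hzT : v * ((c * c : T) : H) * v⁻¹ ∈ (T : Subgroup H) := by
      rw [hzz]; exact T.mul_mem hdT hdT
    have h1 := hq ⟨v * ((c * c : T) : H) * v⁻¹, hzT⟩ (hLn.conj_mem _ (S.mul_mem hcS hcS) v) (by
        have e : (⟨v * ((c * c : T) : H) * v⁻¹, hzT⟩ : T) =
          ⟨v * ((c * a : T) : H) * v⁻¹, hdT⟩ * ⟨v * ((c * a : T) : H) * v⁻¹, hdT⟩ := Subtype.ext hzz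
        rw [e]
        set t : T := ⟨v * ((c * a : T) : H) * v⁻¹, hdT⟩
        have e2 : t * t * c * (t * t)⁻¹ = t * (t * c * t⁻¹) * t⁻¹ := by group
        rw [e2]
        rcases hcc t with h | h
        · rw [h, h]
        · rw [h]
          have e3 : t * c⁻¹ * t⁻¹ = (t * c * t⁻¹)⁻¹ := by group
          rw [e3, h, inv_inv]) (Subtype.ext (by
        change (v * ((c * c : T) : H) * v⁻¹) * (v * ((c * c : T) : H) * v⁻¹) = 1
        have : ((c * c : T) : H) * ((c * c : T) : H) = 1 := congrArg Subtype.val hz2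
        calc (v * ((c * c : T) : H) * v⁻¹) * (v * ((c * c : T) : H) * v⁻¹) =
          v * (((c * c : T) : H) * ((c * c : T) : H)) * v⁻¹ := by group
          _ = 1 := by rw [this]; group)) (by
        intro h
        have h' : v * ((c * c : T) : H) * v⁻¹ = 1 := congrArg Subtype.val h
        apply hc2
        apply Subtype.ext
        change ((c * c : T) : H) = 1
        calc ((c * c : T) : H) = v⁻¹ * (v * ((c * c : T) : H) * v⁻¹) * v := by group
          _ = 1 := by rw [h']; group)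
    exact congrArg Subtype.val h1
  apply hsz
  apply Subtype.ext
  exact mul_left_cancel (mul_right_cancel (hs'.trans hz'.symm))

end Cfsg.Agent.Lib.H46Gamma
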