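import Mathlib
import Cfsg.Agent.Lib.BG03a
import Cfsg.Agent.Lib.CoprimeGen
import Cfsg.Agent.Lib.CoprimeAction2
import Cfsg.Agent.Lib.FrobGroup

/-!
Tools for S3814 (helper48): Frobenius actions on invariant subspaces, noncyclic elementary abelian groups.
-/

set_option autoImplicit false

namespace Cfsg.Agent.Lib.H48TriA

open Subgroup Module Cfsg.Agent.Lib.RepFix Cfsg.Agent.Lib.ModRep
open Cfsg.Agent.Lib.CoprimeAction Cfsg.Agent.Lib.CoprimeAction2
open scoped commutatorElement

universe u v w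

variable {G : Type u} [Group G]

/-- A nontrivial element of `⟨z⟩`, `z` of prime order, has `z` as a power. -/
theorem mem_zpowers_of_prime {z x : G} (hz : (orderOf z).Prime) (hx : x ∈ zpowers z) (hx1 : x ≠ 1) :
    z ∈ zpowers x := by
  have hc : Nat.card (zpowers z) = orderOf z := Nat.card_zpowers z
  have := Fact.mk hz
  have h := mem_zpowers_of_prime_card (p := orderOf z) hc (g := (⟨x, hx⟩ : zpowers z))
    (g' := ⟨z, mem_zpowers z⟩) (fun h => hx1 (congrArg Subtype.val h))
  obtain ⟨i, hi⟩ := mem_zpowers_iff.1 h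
  exact mem_zpowers_iff.2 ⟨i, by simpa using congrArg Subtype.val hi⟩

theorem commute_of_zpowers {z x c : G} (hz : z ∈ zpowers x) (h : Commute x c) : Commute z c := by
  obtain ⟨i, rfl⟩ := mem_zpowers_iff.1 hz
  exact h.zpow_left i

section Rep

variable {F : Type w} {V : Type v} [Field F] [AddCommGroup V] [Module F V] [FiniteDimensional F V]

/-- the fixed space of an element -/
def fx (ρ : Representation F G V) (a : G) : Submodule F V := fix ρ (zpowers a)

omit [FiniteDimensional F V] in
theorem mem_fx {ρ : Representation F G V} {a : G} {v : V} : v ∈ fx ρ a ↔ ρ a v = v := by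
  constructor
  · intro h; exact h a (mem_zpowers a)
  · intro h x hx
    obtain ⟨i, rfl⟩ := mem_zpowers_iff.1 hx
    have hinv : ρ a⁻¹ v = v := by
      conv_lhs => rw [← h]
      rw [← Module.End.mul_apply, ← map_mul, inv_mul_cancel, map_one, Module.End.one_apply]
    have hn : ∀ (b : G), ρ b v = v → ∀ n : ℕ, ρ (b ^ n) v = v := by
      intro b hb n
      induction n with
      | zero => rw [pow_zero, map_one, Module.End.one_apply]
      | succ n ih => rw [pow_succ, map_mul, Module.End.mul_apply, hb, ih]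
    obtain ⟨n, rfl | rfl⟩ := i.eq_nat_or_neg
    · rw [zpow_natCast]; exact hn a h n
    · rw [zpow_neg, zpow_natCast, ← inv_pow]; exact hn _ hinv n

omit [FiniteDimensional F V] in
theorem fx_inv {ρ : Representation F G V} {a g : G} (h : Commute g a) {v : V} (hv : v ∈ fx ρ a) :
    ρ g v ∈ fx ρ a := by
  rw [mem_fx] at hv ⊢
  rw [← Module.End.mul_apply, ← map_mul, ← h.eq, map_mul, Module.End.mul_apply, hv]

omit [FiniteDimensional F V] in
/-- if `k` normalizes `⟨a⟩` -/
theorem fx_inv_of_conj {ρ : Representation F G V} {a g : G} (h : g⁻¹ * a * g ∈ zpowers a) {v : V}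
    (hv : v ∈ fx ρ a) : ρ g v ∈ fx ρ a := by
  rw [mem_fx]
  have h1 : ρ (g⁻¹ * a * g) v = v := hv _ h
  have h2 : a * g = g * (g⁻¹ * a * g) := by group
  rw [← Module.End.mul_apply, ← map_mul, h2, map_mul, Module.End.mul_apply, h1]

omit [FiniteDimensional F V] in
theorem zpow_free {ρ : Representation F G V} {z x : G} (hz : (orderOf z).Prime) (hx : x ∈ zpowers z)
    (hx1 : x ≠ 1) {v : V} (hv : ρ x v = v) : ρ z v = v :=
  (mem_fx.2 hv : v ∈ fx ρ x) z (mem_zpowers_of_prime hz hx hx1)

/-- Frobenius action on an invariant subspace. -/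
theorem frob [Finite G] (ρ : Representation F G V) {K R : Subgroup G} (hRK : R ≤ normalizer (K : Set G))
    (hfpf : ∀ x ∈ R, x ≠ 1 → K ⊓ centralizer {x} = ⊥) (hKF : (Nat.card K : F) ≠ 0)
    (W : Submodule F V) (hK : ∀ k ∈ K, ∀ w ∈ W, ρ k w ∈ W) (hR : ∀ r ∈ R, ∀ w ∈ W, ρ r w ∈ W)
    (h0 : ∀ w ∈ W, (∀ r ∈ R, ρ r w = w) → w = 0) : ∀ k ∈ K, ∀ w ∈ W, ρ k w = w := by
  set S : Subgroup G := K ⊔ R with hS
  have hKS : K ≤ S := le_sup_left
  have hRS : R ≤ S := le_sup_right
  have hinv : Inv (ρ.comp S.subtype) W := by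
    intro g w hw
    have hS' : S ≤ ({ carrier := {g | ∀ w ∈ W, ρ g w ∈ W ∧ ρ g⁻¹ w ∈ W}
                      one_mem' := fun w hw => by simp [hw]
                      mul_mem' := by
                        rintro a b ha hb w hw
                        refine ⟨?_, ?_⟩
                        · rw [map_mul, Module.End.mul_apply]; exact (ha _ (hb w hw).1).1
                        · rw [mul_inv_rev, map_mul, Module.End.mul_apply]; exact (hb _ (ha w hw).2).2
                      inv_mem' := by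
                        rintro a ha w hw
                        rw [inv_inv]; exact (ha w hw).symm } : Subgroup G) :=
      sup_le (fun k hk w hw => ⟨hK k hk w hw, hK _ (inv_mem hk) w hw⟩)
        (fun k hk w hw => ⟨hR k hk w hw, hR _ (inv_mem hk) w hw⟩)
    exact (hS' g.2 w hw).1
  intro k hk w hw
  have h := apply_eq_of_frobenius (subrep (ρ.comp S.subtype) W hinv) (K.subgroupOf S) (R.subgroupOf S)
    (by
      intro x hx
      rw [mem_normalizer_iff]
      intro y
      exact mem_normalizer_iff.1 (hRK hx) (y : G))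
    (by
      intro x hx hx1
      rw [eq_bot_iff]
      rintro y ⟨hy, hyc⟩
      have h1 : (y : G) ∈ K ⊓ centralizer {(x : G)} :=
        ⟨hy, mem_centralizer_singleton_iff.2 (congrArg Subtype.val (mem_centralizer_singleton_iff.1 hyc))⟩
      rw [hfpf x hx (fun h => hx1 (Subtype.ext h)), mem_bot] at h1
      exact Subtype.ext h1)
    (by rwa [Nat.card_congr (subgroupOfEquivOfLe hKS).toEquiv])
    (by
      rw [eq_bot_iff]
      intro v hv
      have h1 := h0 v v.2 (fun r hr => congrArg Subtype.val (hv ⟨r, hRS hr⟩ hr))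
      exact Subtype.ext h1)
    (k := ⟨k, hKS hk⟩) hk
  have h2 := congrArg (fun T => ((T ⟨w, hw⟩ : W) : V)) h
  exact h2

/-- `z` of prime order, free on `K`, free on `W`: `K` acts trivially on `W`. -/
theorem frob1 [Finite G] (ρ : Representation F G V) {K : Subgroup G} {z : G} (hz : (orderOf z).Prime)
    (hzK : z ∈ normalizer (K : Set G)) (hf : ∀ k ∈ K, Commute z k → k = 1)
    (hKF : (Nat.card K : F) ≠ 0) (W : Submodule F V) (hK : ∀ k ∈ K, ∀ w ∈ W, ρ k w ∈ W)
    (hR : ∀ w ∈ W, ρ z w ∈ W) (h0 : ∀ w ∈ W, ρ z w = w → w = 0) :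
    ∀ k ∈ K, ∀ w ∈ W, ρ k w = w := by
  refine frob ρ (R := zpowers z) (zpowers_le.2 hzK) ?_ hKF W hK ?_ ?_
  · intro x hx hx1
    rw [eq_bot_iff]
    rintro y ⟨hy, hyc⟩
    exact hf y hy (commute_of_zpowers (mem_zpowers_of_prime hz hx hx1)
      (mem_centralizer_singleton_iff.1 hyc).symm)
  · intro r hr w hw
    have hfin : IsOfFinOrder z := isOfFinOrder_of_finite z
    rw [← hfin.mem_powers_iff_mem_zpowers, Submonoid.mem_powers_iff] at hr
    obtain ⟨n, rfl⟩ := hr
    induction n with
    | zero => rw [pow_zero, map_one]; exact hw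
    | succ n ih => rw [pow_succ', map_mul, Module.End.mul_apply]; exact hR _ ih
  · intro w hw h
    exact h0 w hw (h z (mem_zpowers z))

end Rep

/-- noncyclic elementary abelian `q`-subgroups -/
structure EE (q : ℕ) (E : Subgroup G) : Prop where
  pr : q.Prime
  ab : ∀ a ∈ E, ∀ b ∈ E, a * b = b * a
  ex : ∀ a ∈ E, a ^ q = 1
  nc : ∀ x ∈ E, ∃ y ∈ E, y ∉ zpowers x

namespace EE

variable {q : ℕ} {E : Subgroup G}

theorem order (h : EE q E) {a : G} (ha : a ∈ E) (ha1 : a ≠ 1) : orderOf a = q :=
  orderOf_eq_prime (hp := ⟨h.pr⟩) (h.ex a ha) ha1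

theorem mk' {x y : G} (hq : q.Prime) (hx : orderOf x = q) (hy : orderOf y = q) (hxy : Commute x y)
    (hyx : y ∉ zpowers x) : EE q (zpowers x ⊔ zpowers y) := by
  have hab : ∀ a ∈ zpowers x ⊔ zpowers y, ∀ b ∈ zpowers x ⊔ zpowers y, a * b = b * a := by
    have h1 : zpowers x ⊔ zpowers y ≤ centralizer (zpowers x ⊔ zpowers y : Subgroup G) := by
      have hx' : ∀ c ∈ zpowers x ⊔ zpowers y, Commute x c := by
        intro c hc
        have : zpowers x ⊔ zpowers y ≤ centralizer {x} := sup_le
          (zpowers_le.2 (mem_centralizer_singleton_iff.2 rfl))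
          (zpowers_le.2 (mem_centralizer_singleton_iff.2 hxy.symm))
        exact (mem_centralizer_singleton_iff.1 (this hc)).symm
      have hy' : ∀ c ∈ zpowers x ⊔ zpowers y, Commute y c := by
        intro c hc
        have : zpowers x ⊔ zpowers y ≤ centralizer {y} := sup_le
          (zpowers_le.2 (mem_centralizer_singleton_iff.2 hxy))
          (zpowers_le.2 (mem_centralizer_singleton_iff.2 rfl))
        exact (mem_centralizer_singleton_iff.1 (this hc)).symm
      refine sup_le (zpowers_le.2 ?_) (zpowers_le.2 ?_)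
      · exact mem_centralizer_iff.2 fun c hc => (hx' c hc).symm
      · exact mem_centralizer_iff.2 fun c hc => (hy' c hc).symm
    intro a ha b hb
    exact (mem_centralizer_iff.1 (h1 ha) b hb).symm
  have hxm : x ∈ zpowers x ⊔ zpowers y := (le_sup_left : zpowers x ≤ _) (mem_zpowers x)
  have hym : y ∈ zpowers x ⊔ zpowers y := (le_sup_right : zpowers y ≤ _) (mem_zpowers y)
  refine ⟨hq, hab, ?_, ?_⟩
  · let K : Subgroup G :=
      { carrier := {a | a ∈ zpowers x ⊔ zpowers y ∧ a ^ q = 1}
        one_mem' := ⟨one_mem _, one_pow _⟩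
        mul_mem' := by
          rintro a b ⟨ha, ha'⟩ ⟨hb, hb'⟩
          refine ⟨mul_mem ha hb, ?_⟩
          rw [(show Commute a b from hab a ha b hb).mul_pow, ha', hb', one_mul]
        inv_mem' := by
          rintro a ⟨ha, ha'⟩
          exact ⟨inv_mem ha, by rw [inv_pow, ha', inv_one]⟩ }
    have hK : zpowers x ⊔ zpowers y ≤ K := sup_le
      (zpowers_le.2 ⟨hxm, by rw [← hx, pow_orderOf_eq_one]⟩)
      (zpowers_le.2 ⟨hym, by rw [← hy, pow_orderOf_eq_one]⟩)
    intro a ha
    exact (hK ha).2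
  · intro a ha
    by_contra hcon
    push Not at hcon
    have h1 := hcon x hxm
    have h2 := hcon y hym
    have h3 : y ∈ zpowers x := by
      have hx1 : x ≠ 1 := by rintro rfl; rw [orderOf_one] at hx; exact hq.one_lt.ne hx
      have ha1 : a ≠ 1 := by
        rintro rfl
        rw [zpowers_one_eq_bot, mem_bot] at h1
        exact hx1 h1
      have haq : a ^ q = 1 := by
        let K : Subgroup G :=
          { carrier := {a | a ∈ zpowers x ⊔ zpowers y ∧ a ^ q = 1}
            one_mem' := ⟨one_mem _, one_pow _⟩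
            mul_mem' := by
              rintro a b ⟨ha, ha'⟩ ⟨hb, hb'⟩
              refine ⟨mul_mem ha hb, ?_⟩
              rw [(show Commute a b from hab a ha b hb).mul_pow, ha', hb', one_mul]
            inv_mem' := by
              rintro a ⟨ha, ha'⟩
              exact ⟨inv_mem ha, by rw [inv_pow, ha', inv_one]⟩ }
        have hK : zpowers x ⊔ zpowers y ≤ K := sup_le
          (zpowers_le.2 ⟨hxm, by rw [← hx, pow_orderOf_eq_one]⟩)
          (zpowers_le.2 ⟨hym, by rw [← hy, pow_orderOf_eq_one]⟩)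
        exact (hK ha).2
      have hao : orderOf a = q := orderOf_eq_prime (hp := ⟨hq⟩) haq ha1
      have h4 : a ∈ zpowers x := mem_zpowers_of_prime (by rw [hao]; exact hq) h1 hx1
      exact (zpowers_le.2 h4) h2
    exact hyx h3

/-- fixed points on a module -/
theorem fixV [Finite G] (h : EE q E) {F : Type w} {V : Type v} [Field F] [AddCommGroup V] [Module F V]
    [FiniteDimensional F V] (ρ : Representation F G V) (hF : (q : F) ≠ 0) (W : Submodule F V) (hW : W ≠ ⊥)
    (hE : ∀ k ∈ E, ∀ w ∈ W, ρ k w ∈ W) : ∃ e ∈ E, e ≠ 1 ∧ ∃ w ∈ W, w ≠ 0 ∧ ρ e w = w := by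
  obtain ⟨x, hx, hx1⟩ := h.nc 1 (one_mem _)
  rw [zpowers_one_eq_bot, mem_bot] at hx1
  obtain ⟨y, hy, hyx⟩ := h.nc x hx
  by_contra hcon
  push Not at hcon
  have hinv : Inv (ρ.comp E.subtype) W := fun g w hw => hE g g.2 w hw
  apply hW
  rw [eq_bot_iff]
  intro w hw
  have h1 := BG03a.two_lin h.pr (subrep (ρ.comp E.subtype) W hinv ⟨y, hy⟩)
    (subrep (ρ.comp E.subtype) W hinv ⟨x, hx⟩)
    (by
      change _ * _ = _ * _
      rw [← map_mul, ← map_mul]
      congr 1
      exact Subtype.ext (h.ab y hy x hx))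
    (by rw [← map_pow]; have : (⟨y, hy⟩ : E) ^ q = 1 := Subtype.ext (h.ex y hy)
        rw [this, map_one])
    (by rw [← map_pow]; have : (⟨x, hx⟩ : E) ^ q = 1 := Subtype.ext (h.ex x hx)
        rw [this, map_one])
    (by
      intro v hv
      by_contra hv0
      exact hcon x hx hx1 v v.2 (fun h' => hv0 (Subtype.ext h')) (congrArg Subtype.val hv))
    (by
      intro j v hv
      rw [← map_pow, ← map_mul] at hv
      by_contra hv0
      refine hcon (y * x ^ j) (mul_mem hy (pow_mem hx j)) ?_ v v.2 (fun h' => hv0 (Subtype.ext h'))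
        (congrArg Subtype.val hv)
      intro h1
      apply hyx
      have h2 : y = (x ^ j)⁻¹ := eq_inv_of_mul_eq_one_left h1
      rw [h2]
      exact inv_mem (pow_mem (mem_zpowers x) j))
    ⟨w, hw⟩
  have h2 : (q : F) • w = 0 := congrArg Subtype.val h1
  exact (Submodule.mem_bot F).2 ((smul_eq_zero.1 h2).resolve_left hF)

/-- fixed points on a group -/
theorem fixG [Finite G] (h : EE q E) {N : Subgroup G} (hN : N ≠ ⊥) (hEN : E ≤ normalizer (N : Set G))
    (hq : ¬ q ∣ Nat.card N) : ∃ e ∈ E, e ≠ 1 ∧ ∃ n ∈ N, n ≠ 1 ∧ Commute e n := by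
  have := Fact.mk h.pr
  by_contra hcon
  push Not at hcon
  have hEc : IsMulCommutative E := isMulCommutative_iff_of_setLike.mpr h.ab
  have hnc : ¬ IsCyclic E := by
    intro hc
    obtain ⟨g, hg⟩ := hc.exists_generator
    obtain ⟨y, hy, hyx⟩ := h.nc g g.2
    obtain ⟨i, hi⟩ := mem_zpowers_iff.1 (hg ⟨y, hy⟩)
    exact hyx (mem_zpowers_iff.2 ⟨i, by simpa using congrArg Subtype.val hi⟩)
  have hEp : IsPGroup q E := fun a => ⟨1, by rw [pow_one]; exact Subtype.ext (h.ex a a.2)⟩
  obtain ⟨n, hn⟩ := hEp.exists_card_eq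
  have hcop : (Nat.card E).Coprime (Nat.card N) := by
    rw [hn]; exact Nat.Coprime.pow_left _ ((Nat.Prime.coprime_iff_not_dvd h.pr).2 hq)
  have h1 := CoprimeGen.iSup_centralizer_eq hEc hnc hEN hcop
  apply hN
  rw [← h1, eq_bot_iff]
  refine iSup₂_le ?_
  rintro a ⟨ha, ha1⟩ n ⟨hnN, hnc'⟩
  by_contra hn1
  exact hcon a ha ha1 n hnN hn1 (mem_centralizer_singleton_iff.1 hnc').symm

end EE

/-- A free action of `A` on `B` by conjugation. -/
theorem card_dvd_sub_one {G : Type*} [Group G] [Finite G] {A B : Subgroup G}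
    (hn : ∀ a ∈ A, ∀ b ∈ B, a * b * a⁻¹ ∈ B)
    (hf : ∀ a ∈ A, a ≠ 1 → ∀ b ∈ B, a * b = b * a → b = 1) : Nat.card A ∣ Nat.card B - 1 := by
  classical
  let X : Type _ := {b : B // b ≠ 1}
  let act : MulAction A X :=
    { smul := fun a x => ⟨⟨(a : G) * (x.1 : G) * (a : G)⁻¹, hn a a.2 x.1 x.1.2⟩, by
        intro h1
        apply x.2
        have h2 : (a : G) * (x.1 : G) * (a : G)⁻¹ = 1 := congrArg Subtype.val h1
        apply Subtype.ext
        have h3 : (x.1 : G) = (a : G)⁻¹ * ((a : G) * (x.1 : G) * (a : G)⁻¹) * a := by group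
        rw [h3, h2]; show (a : G)⁻¹ * 1 * a = 1; group⟩
      one_smul := fun x => Subtype.ext (Subtype.ext (by
        show ((1 : A) : G) * (x.1 : G) * ((1 : A) : G)⁻¹ = x.1
        rw [Subgroup.coe_one]; group))
      mul_smul := fun a b x => Subtype.ext (Subtype.ext (by
        show ((a * b : A) : G) * (x.1 : G) * ((a * b : A) : G)⁻¹ =
          (a : G) * ((b : G) * (x.1 : G) * (b : G)⁻¹) * (a : G)⁻¹
        rw [Subgroup.coe_mul]; group)) }
  have h1 : Nat.card A ∣ Nat.card X := by
    refine Cfsg.Agent.Lib.FrobGroup.card_dvd_of_free fun a x hax => ?_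
    by_contra ha
    apply x.2
    apply Subtype.ext
    have h2 : (a : G) * (x.1 : G) * (a : G)⁻¹ = x.1 := congrArg (fun z : X => (z.1 : G)) hax
    exact hf a a.2 (fun h' => ha (Subtype.ext h')) x.1 x.1.2 (by
      calc (a : G) * (x.1 : G) = (a : G) * (x.1 : G) * (a : G)⁻¹ * a := by group
        _ = (x.1 : G) * a := by rw [h2])
  have h2 : Nat.card X = Nat.card B - 1 := by
    haveI : Fintype B := Fintype.ofFinite _
    rw [Nat.card_eq_fintype_card, Nat.card_eq_fintype_card, Fintype.card_subtype_compl,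
      Fintype.card_subtype_eq]
  rwa [h2] at h1

/-- divisibility from a nontrivial action on a group of prime order -/
theorem dvd_sub_one [Finite G] {c z : G} (hc : (orderOf c).Prime) (hz : (orderOf z).Prime)
    (hn : z * c * z⁻¹ ∈ zpowers c) (hzc : ¬ Commute z c) : orderOf z ∣ orderOf c - 1 := by
  rw [← Nat.card_zpowers z, ← Nat.card_zpowers c]
  have hzn : ∀ a ∈ zpowers z, ∀ b ∈ zpowers c, a * b * a⁻¹ ∈ zpowers c := by
    have h1 : z ∈ normalizer (zpowers c : Set G) := by
      have hle : (zpowers c).map (MulAut.conj z).toMonoidHom ≤ zpowers c := by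
        rw [MonoidHom.map_zpowers, zpowers_le]
        exact hn
      rw [mem_normalizer_iff]
      have heq : (zpowers c).map (MulAut.conj z).toMonoidHom = zpowers c :=
        Subgroup.eq_of_le_of_card_ge hle (by
          rw [Nat.card_congr ((zpowers c).equivMapOfInjective _ (MulAut.conj z).injective).toEquiv.symm])
      intro g
      constructor
      · intro hg
        exact hle (mem_map_of_mem _ hg)
      · intro hg
        rw [← heq] at hg
        obtain ⟨k, hk, hk'⟩ := hg
        have : k = g := (MulAut.conj z).injective hk'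
        rwa [← this]
    have h2 : zpowers z ≤ normalizer (zpowers c : Set G) := zpowers_le.2 h1
    intro a ha b hb
    exact (mem_normalizer_iff.1 (h2 ha) b).1 hb
  refine card_dvd_sub_one hzn ?_
  intro a ha ha1 b hb hab
  by_contra hb1
  apply hzc
  have h1 : Commute z b := commute_of_zpowers (mem_zpowers_of_prime hz ha ha1) hab
  exact (commute_of_zpowers (mem_zpowers_of_prime hc hb hb1) h1.symm).symm

end Cfsg.Agent.Lib.H48TriA
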