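import Cfsg.Agent.Lib.H48TriA
import Cfsg.Agent.Lib.ElabRep
import Cfsg.Agent.Lib.Cores2
import Cfsg.Agent.Lib.Cores3

/-!
Step A for S3814 (helper48).
-/

set_option autoImplicit false
set_option linter.all false

namespace Cfsg.Agent.Lib.H48TriB

open Subgroup Module Cfsg.Agent.Lib.RepFix Cfsg.Agent.Lib.ModRep Cfsg.Agent.Lib.H48TriA
open Cfsg.Agent.Lib.CoprimeAction Cfsg.Agent.Lib.CoprimeAction2
open scoped commutatorElement

universe u v w

variable {H : Type u} [Group H] [Finite H]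

/-- `B` is elementary abelian of exponent `p`. -/
structure EA (p : ℕ) (B : Subgroup H) : Prop where
  ab : ∀ a ∈ B, ∀ b ∈ B, a * b = b * a
  ex : ∀ a ∈ B, a ^ p = 1

omit [Finite H] in
theorem EA.mono {p : ℕ} {B C : Subgroup H} (h : EA p B) (hC : C ≤ B) : EA p C :=
  ⟨fun a ha b hb => h.ab a (hC ha) b (hC hb), fun a ha => h.ex a (hC ha)⟩

omit [Finite H] in
theorem EA.isPGroup {p : ℕ} {B : Subgroup H} (h : EA p B) : IsPGroup p B :=
  fun a => ⟨1, by rw [pow_one]; exact Subtype.ext (h.ex a a.2)⟩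

omit [Finite H] in
theorem EA.order {p : ℕ} (hp : p.Prime) {B : Subgroup H} (h : EA p B) {a : H} (ha : a ∈ B) (ha1 : a ≠ 1) :
    orderOf a = p := orderOf_eq_prime (hp := ⟨hp⟩) (h.ex a ha) ha1

theorem EA.not_dvd {p q : ℕ} (hp : p.Prime) (hq : q.Prime) (hpq : p ≠ q) {B : Subgroup H} (h : EA p B) :
    ¬ q ∣ Nat.card B := by
  have := Fact.mk hp
  obtain ⟨n, hn⟩ := h.isPGroup.exists_card_eq
  rw [hn]
  intro hd
  exact hpq ((Nat.prime_dvd_prime_iff_eq hq hp).1 (hq.dvd_of_dvd_pow hd)).symm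

theorem EA.coprime {p q : ℕ} (hp : p.Prime) (hq : q.Prime) (hpq : p ≠ q) {B : Subgroup H} (h : EA p B)
    {z : H} (hz : orderOf z = q) : (Nat.card (zpowers z)).Coprime (Nat.card B) := by
  rw [Nat.card_zpowers, hz]
  exact (Nat.Prime.coprime_iff_not_dvd hq).2 (h.not_dvd hp hq hpq)

/-- group version of `frob1` -/
theorem frobG {p : ℕ} (hp : p.Prime) {M K : Subgroup H} (hM : EA p M) {z : H} (hz : (orderOf z).Prime)
    (hKM : K ≤ normalizer (M : Set H)) (hzM : z ∈ normalizer (M : Set H))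
    (hzK : z ∈ normalizer (K : Set H)) (hf : ∀ k ∈ K, Commute z k → k = 1) (hKp : ¬ p ∣ Nat.card K)
    (h0 : ∀ m ∈ M, Commute z m → m = 1) : ∀ k ∈ K, ∀ m ∈ M, k * m = m * k := by
  have := Fact.mk hp
  let icg : CommGroup M := { (inferInstance : Group M) with
    mul_comm := fun a b => Subtype.ext (hM.ab a a.2 b b.2) }
  have hE : ∀ x : M, x ^ p = 1 := fun x => Subtype.ext (hM.ex x x.2)
  let N : Subgroup H := normalizer (M : Set H)
  let φ : N →* MulAut M := M.normalizerMonoidHom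
  let inst : Module (ZMod p) (Additive M) := ElabRep.elabModule M p hE
  have hfin : Finite (Additive M) := (inferInstance : Finite M)
  have hfd : FiniteDimensional (ZMod p) (Additive M) := Module.Finite.of_finite
  let ρ := ElabRep.elabRep p hE φ
  have hρ : ∀ (g : N) (x : M), ((Additive.toMul (ρ g (Additive.ofMul x)) : M) : H) = g * x * (g : H)⁻¹ :=
    fun g x => rfl
  have hcard : Nat.card (K.subgroupOf N) = Nat.card K := Nat.card_congr (subgroupOfEquivOfLe hKM).toEquiv
  have hoz : orderOf (⟨z, hzM⟩ : N) = orderOf z := Subgroup.orderOf_mk z hzM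
  have h := frob1 ρ (K := K.subgroupOf N) (z := ⟨z, hzM⟩) (by rw [hoz]; exact hz)
    (by
      rw [mem_normalizer_iff]
      intro y
      exact mem_normalizer_iff.1 hzK (y : H))
    (by
      intro k hk hc
      exact Subtype.ext (hf k hk (congrArg Subtype.val hc : _)))
    (by
      rw [hcard]
      intro h1
      exact hKp ((ZMod.natCast_eq_zero_iff _ _).1 h1))
    ⊤ (fun _ _ _ _ => Submodule.mem_top) (fun _ _ => Submodule.mem_top)
    (by
      intro w _ hw
      have h1 := congrArg (fun x : Additive M => ((Additive.toMul x : M) : H)) hw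
      have h2 : z * ((Additive.toMul w : M) : H) * z⁻¹ = ((Additive.toMul w : M) : H) := h1
      have h3 := h0 _ (Additive.toMul w : M).2 (mul_inv_eq_iff_eq_mul.1 h2)
      exact Subtype.ext h3)
  intro k hk m hm
  have h1 := h ⟨k, hKM hk⟩ hk (Additive.ofMul ⟨m, hm⟩) Submodule.mem_top
  have h2 := congrArg (fun x : Additive M => ((Additive.toMul x : M) : H)) h1
  have h3 : k * m * k⁻¹ = m := h2
  exact mul_inv_eq_iff_eq_mul.1 h3

section Rep

variable {F : Type w} {V : Type v} [Field F] [AddCommGroup V] [Module F V] [FiniteDimensional F V]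

/-- `z` free on `K` and everything fixed by `z` is fixed by `K`: then `K` acts trivially. -/
theorem frob2 (ρ : Representation F H V) {K : Subgroup H} {z : H} (hz : (orderOf z).Prime)
    (hzK : z ∈ normalizer (K : Set H)) (hf : ∀ k ∈ K, Commute z k → k = 1)
    (hKF : (Nat.card K : F) ≠ 0) (h0 : ∀ v : V, ρ z v = v → ∀ k ∈ K, ρ k v = v) :
    ∀ k ∈ K, ρ k = 1 := by
  have hnorm : ∀ k ∈ K, k ∈ normalizer (K : Set H) := fun k hk => le_normalizer hk
  have h1 := frob1 ρ hz hzK hf hKF (LinearMap.ker (nrm ρ K))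
    (by
      intro k hk w hw
      rw [LinearMap.mem_ker] at hw ⊢
      rw [nrm_apply_apply ρ K hk, hw])
    (by
      intro w hw
      rw [LinearMap.mem_ker] at hw ⊢
      rw [← nrm_conj ρ K hzK, hw, map_zero])
    (by
      intro w hw hzw
      rw [LinearMap.mem_ker] at hw
      have h2 : w ∈ fix ρ K := fun k hk => h0 w hzw k hk
      have h3 := nrm_of_mem_fix h2
      rw [hw] at h3
      exact (smul_eq_zero.1 h3.symm).resolve_left hKF)
  have h2 : ∀ w, nrm ρ K w = 0 → w = 0 := by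
    intro w hw
    have h3 : w ∈ fix ρ K := fun k hk => h1 k hk w hw
    have h4 := nrm_of_mem_fix h3
    rw [hw] at h4
    exact (smul_eq_zero.1 h4.symm).resolve_left hKF
  intro k hk
  ext v
  have h3 : nrm ρ K (ρ k v - v) = 0 := by
    rw [map_sub, nrm_apply_apply ρ K hk, sub_self]
  rw [Module.End.one_apply]
  exact sub_eq_zero.1 (h2 _ h3)

/-- the basic hypotheses -/
structure Cx (ρ : Representation F H V) : Prop where
  inj : ∀ h, ρ h = 1 → h = 1
  hF : (Nat.card H : F) ≠ 0
  II1 : ∀ y z : H, (orderOf y).Prime → (orderOf z).Prime → orderOf y ≠ orderOf z → Commute y z →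
    ∀ v, ρ y v = v → ρ z v = v → v = 0
  II2 : ∀ x y z : H, (orderOf x).Prime → (orderOf y).Prime → (orderOf z).Prime →
    orderOf x ≠ orderOf y → orderOf y ≠ orderOf z → orderOf x ≠ orderOf z → Commute x y →
    Commute y z → Commute x z → False

variable {ρ : Representation F H V}

theorem Cx.cF (h : Cx ρ) (K : Subgroup H) : (Nat.card K : F) ≠ 0 :=
  BG03a.cast_ne_zero_of_dvd (card_subgroup_dvd_card K) h.hF

theorem Cx.oF (h : Cx ρ) (x : H) : (orderOf x : F) ≠ 0 :=
  BG03a.cast_ne_zero_of_dvd (orderOf_dvd_natCard x) h.hF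

omit [FiniteDimensional F V] in
theorem nz {y : H} {K : Subgroup H} (h : y ∈ normalizer (K : Set H)) : zpowers y ≤ normalizer (K : Set H) :=
  zpowers_le.2 h

theorem comm_le {A : Subgroup H} {y : H} (hyA : y ∈ normalizer (A : Set H)) : ⁅A, zpowers y⁆ ≤ A :=
  LocBase.commutator_le_left_of_le (zpowers_le.2 hyA)

theorem mem_cent {A : Subgroup H} {y a : H} : a ∈ A ⊓ centralizer (zpowers y : Set H) ↔ a ∈ A ∧ Commute y a := by
  constructor
  · rintro ⟨h1, h2⟩
    exact ⟨h1, mem_centralizer_iff.1 h2 y (mem_zpowers y)⟩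
  · rintro ⟨h1, h2⟩
    refine ⟨h1, mem_centralizer_iff.2 ?_⟩
    intro x hx
    exact commute_of_zpowers hx h2

/-- `⁅A, y⁆` meets the centralizer of `y` trivially -/
theorem free_comm {p q : ℕ} (hp : p.Prime) (hq : q.Prime) (hpq : p ≠ q) {A : Subgroup H} (hA : EA p A)
    {y : H} (hy : orderOf y = q) (hyA : y ∈ normalizer (A : Set H)) {a : H} (ha : a ∈ ⁅A, zpowers y⁆)
    (hya : Commute y a) : a = 1 := by
  have : IsMulCommutative A := isMulCommutative_iff_of_setLike.mpr hA.ab
  have h := inf_commutator_eq_bot_of_abelian (A := zpowers y) (V := A) (zpowers_le.2 hyA)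
    (hA.coprime hp hq hpq hy)
  have h1 : a ∈ (A ⊓ centralizer (zpowers y : Set H)) ⊓ ⁅A, zpowers y⁆ :=
    ⟨mem_cent.2 ⟨comm_le hyA ha, hya⟩, ha⟩
  rw [h, mem_bot] at h1
  exact h1

theorem decomp {p q : ℕ} (hp : p.Prime) (hq : q.Prime) (hpq : p ≠ q) {A : Subgroup H} (hA : EA p A)
    {y : H} (hy : orderOf y = q) (hyA : y ∈ normalizer (A : Set H)) {a : H} (ha : a ∈ A) :
    ∃ x ∈ ⁅A, zpowers y⁆, ∃ c ∈ A, Commute y c ∧ x * c = a := by
  obtain ⟨x, hx, c, hc, h⟩ := exists_eq_mul_of_mem (A := zpowers y) (K := A) (zpowers_le.2 hyA)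
    (hA.coprime hp hq hpq hy) (Or.inl (Group.isSolvable_of_comm
      (fun a b => (isMulCommutative_iff.mp inferInstance) a b))) ha
  obtain ⟨h1, h2⟩ := mem_cent.1 hc
  exact ⟨x, hx, c, h1, h2, h⟩

theorem commute_of_pow {x a : H} {n : ℕ} (h : Commute x a) : Commute (x ^ n) a := h.pow_left n

theorem oc (g z : H) : orderOf (g * z * g⁻¹) = orderOf z :=
  orderOf_injective (MulAut.conj g).toMonoidHom (MulAut.conj g).injective z

theorem norm_zp {y z : H} (hc : Commute y z) : z ∈ normalizer (zpowers y : Set H) := by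
  have hcz : ∀ g ∈ zpowers y, z * g = g * z := fun g hg => (commute_of_zpowers hg hc).symm
  rw [mem_normalizer_iff]
  intro g
  constructor
  · intro hg
    rw [hcz g hg, mul_inv_cancel_right]; exact hg
  · intro hg
    have h1 := hcz _ hg
    have h2 : g = z * g * z⁻¹ := by
      have h3 : z * (z * g * z⁻¹) = z * g * z⁻¹ * z := h1
      rw [inv_mul_cancel_right] at h3
      have h4 : z * g * z⁻¹ = g := mul_left_cancel h3
      exact h4.symm
    rw [h2]; exact hg

theorem norm_cent {y z : H} {X : Subgroup H} (hzX : z ∈ normalizer (X : Set H)) (hc : Commute y z) :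
    z ∈ normalizer ((X ⊓ centralizer (zpowers y : Set H) : Subgroup H) : Set H) :=
  LocBase.le_normalizer_inf (zpowers_le.2 hzX)
    (LocBase.le_normalizer_centralizer (zpowers_le.2 (norm_zp hc))) (mem_zpowers z)

theorem norm_comm {y z : H} {A : Subgroup H} (hzA : z ∈ normalizer (A : Set H)) (hc : Commute y z) :
    z ∈ normalizer ((⁅A, zpowers y⁆ : Subgroup H) : Set H) :=
  LocBase.le_normalizer_commutator (zpowers_le.2 hzA) (zpowers_le.2 (norm_zp hc)) (mem_zpowers z)

/-- Lemma A -/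
theorem Cx.lemA (h : Cx ρ) {p : ℕ} (hp : p.Prime) {A : Subgroup H} (hA : EA p A) {y z : H}
    (hy : (orderOf y).Prime) (hz : (orderOf z).Prime) (hyz : orderOf y ≠ orderOf z)
    (hyp : p ≠ orderOf y) (hzp : p ≠ orderOf z) (hc : Commute y z)
    (hyA : y ∈ normalizer (A : Set H)) (hzA : z ∈ normalizer (A : Set H)) {a : H}
    (ha : a ∈ ⁅A, zpowers y⁆) : Commute z a := by
  set B : Subgroup H := ⁅A, zpowers y⁆ with hB
  have hBA : B ≤ A := comm_le hyA
  have hBe : EA p B := hA.mono hBA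
  have hYZ : zpowers z ≤ normalizer (zpowers y : Set H) := by
    refine zpowers_le.2 ?_
    rw [mem_normalizer_iff]
    intro g
    have hcz : ∀ g ∈ zpowers y, z * g = g * z := fun g hg => (commute_of_zpowers hg hc).symm
    constructor
    · intro hg
      rw [hcz g hg, mul_inv_cancel_right]; exact hg
    · intro hg
      have h1 := hcz _ hg
      have h2 : g = z * g * z⁻¹ := by
        have h3 : z * (z * g * z⁻¹) = z * g * z⁻¹ * z := h1
        rw [inv_mul_cancel_right] at h3
        have h4 : z * g * z⁻¹ = g := mul_left_cancel h3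
        exact h4.symm
      rw [h2]; exact hg
  have hzB : z ∈ normalizer (B : Set H) :=
    LocBase.le_normalizer_commutator (zpowers_le.2 hzA) hYZ (mem_zpowers z)
  have hyB : y ∈ normalizer (B : Set H) :=
    LocBase.le_normalizer_commutator (zpowers_le.2 hyA) le_normalizer (mem_zpowers y)
  set A0 : Subgroup H := ⁅B, zpowers z⁆ with hA0
  have hA0B : A0 ≤ B := comm_le hzB
  have hZY : zpowers y ≤ normalizer (zpowers z : Set H) := by
    refine zpowers_le.2 ?_
    rw [mem_normalizer_iff]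
    intro g
    have hcz : ∀ g ∈ zpowers z, y * g = g * y := fun g hg => (commute_of_zpowers hg hc.symm).symm
    constructor
    · intro hg
      rw [hcz g hg, mul_inv_cancel_right]; exact hg
    · intro hg
      have h1 := hcz _ hg
      have h2 : g = y * g * y⁻¹ := by
        have h3 : y * (y * g * y⁻¹) = y * g * y⁻¹ * y := h1
        rw [inv_mul_cancel_right] at h3
        have h4 : y * g * y⁻¹ = g := mul_left_cancel h3
        exact h4.symm
      rw [h2]; exact hg
  have hyA0 : y ∈ normalizer (A0 : Set H) :=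
    LocBase.le_normalizer_commutator (zpowers_le.2 hyB) hZY (mem_zpowers y)
  have hzA0 : z ∈ normalizer (A0 : Set H) :=
    LocBase.le_normalizer_commutator (zpowers_le.2 hzB) le_normalizer (mem_zpowers z)
  have hfy : ∀ a ∈ A0, Commute y a → a = 1 := fun a ha hya => free_comm hp hy hyp hA rfl hyA (hA0B ha) hya
  have hfz : ∀ a ∈ A0, Commute z a → a = 1 := fun a ha hza => free_comm hp hz hzp hBe rfl hzB ha hza
  -- the cyclic group generated by `y * z`
  have hcopyz : (orderOf y).Coprime (orderOf z) := (Nat.coprime_primes hy hz).2 hyz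
  have h1 : ∀ k ∈ A0, ∀ v ∈ (⊤ : Submodule F V), ρ k v = v := by
    refine frob ρ (R := zpowers (y * z)) (zpowers_le.2 (mul_mem hyA0 hzA0)) ?_ (h.cF A0) ⊤
      (fun _ _ _ _ => Submodule.mem_top) (fun _ _ _ _ => Submodule.mem_top) ?_
    · intro x hx hx1
      rw [eq_bot_iff]
      rintro b ⟨hb, hbc⟩
      have hxb : Commute x b := (mem_centralizer_singleton_iff.1 hbc).symm
      rw [mem_bot]
      obtain ⟨i, rfl⟩ := mem_zpowers_iff.1 hx
      rw [hc.mul_zpow] at hxb hx1
      by_cases hyi : y ^ i = 1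
      · rw [hyi, one_mul] at hxb hx1
        exact hfz b hb (commute_of_zpowers (mem_zpowers_of_prime hz (zpow_mem (mem_zpowers z) i) hx1) hxb)
      · -- raise to the power `orderOf z`
        have h2 := hxb.pow_left (orderOf z)
        have h3 : (y ^ i * z ^ i) ^ orderOf z = (y ^ i) ^ orderOf z := by
          rw [((hc.zpow_zpow i i)).mul_pow]
          have : (z ^ i) ^ orderOf z = 1 := by
            rw [← zpow_natCast, ← zpow_mul, mul_comm, zpow_mul, zpow_natCast, pow_orderOf_eq_one, one_zpow]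
          rw [this, mul_one]
        rw [h3] at h2
        have h4 : (y ^ i) ^ orderOf z ≠ 1 := by
          intro h5
          apply hyi
          have h6 : (y ^ i) ^ orderOf y = 1 := by
            rw [← zpow_natCast, ← zpow_mul, mul_comm, zpow_mul, zpow_natCast, pow_orderOf_eq_one, one_zpow]
          have h7 := pow_gcd_eq_one.mpr ⟨h6, h5⟩
          rwa [hcopyz.gcd_eq_one, pow_one] at h7
        exact hfy b hb (commute_of_zpowers (mem_zpowers_of_prime hy
          (pow_mem (zpow_mem (mem_zpowers y) i) _) h4) h2)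
    · intro w _ hw
      have h2 : w ∈ fx ρ (y * z) := mem_fx.2 (hw _ (mem_zpowers _))
      have h3 : (y * z) ^ orderOf z = y ^ orderOf z := by rw [hc.mul_pow, pow_orderOf_eq_one, mul_one]
      have h4 : (y * z) ^ orderOf y = z ^ orderOf y := by rw [hc.mul_pow, pow_orderOf_eq_one, one_mul]
      have h5 : ρ (y ^ orderOf z) w = w := by rw [← h3]; exact hw _ (pow_mem (mem_zpowers _) _)
      have h6 : ρ (z ^ orderOf y) w = w := by rw [← h4]; exact hw _ (pow_mem (mem_zpowers _) _)
      have h7 : y ^ orderOf z ≠ 1 := by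
        intro h8
        have h9 := pow_gcd_eq_one.mpr ⟨pow_orderOf_eq_one y, h8⟩
        rw [hcopyz.gcd_eq_one, pow_one] at h9
        rw [h9, orderOf_one] at hy
        exact hy.ne_one rfl
      have h8 : z ^ orderOf y ≠ 1 := by
        intro h8
        have h9 := pow_gcd_eq_one.mpr ⟨pow_orderOf_eq_one z, h8⟩
        rw [hcopyz.symm.gcd_eq_one, pow_one] at h9
        rw [h9, orderOf_one] at hz
        exact hz.ne_one rfl
      exact h.II1 y z hy hz hyz hc w (zpow_free hy (pow_mem (mem_zpowers y) _) h7 h5)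
        (zpow_free hz (pow_mem (mem_zpowers z) _) h8 h6)
  have h2 : A0 = ⊥ := by
    rw [eq_bot_iff]
    intro k hk
    rw [mem_bot]
    apply h.inj
    ext v
    exact h1 k hk v Submodule.mem_top
  obtain ⟨x, hx, c, hcB, hzc, rfl⟩ := decomp hp hz hzp hBe rfl hzB ha
  rw [← hA0, h2, mem_bot] at hx
  rw [hx, one_mul]
  exact hzc

/-- the centralizer of `z` in `A` is `⁅A, y⁆` -/
theorem Cx.cent_mem (h : Cx ρ) {p : ℕ} (hp : p.Prime) {A : Subgroup H} (hA : EA p A) {y z : H}
    (hy : (orderOf y).Prime) (hz : (orderOf z).Prime) (hyz : orderOf y ≠ orderOf z)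
    (hyp : p ≠ orderOf y) (hzp : p ≠ orderOf z) (hc : Commute y z)
    (hyA : y ∈ normalizer (A : Set H)) (hzA : z ∈ normalizer (A : Set H)) {a : H}
    (ha : a ∈ A) (hza : Commute z a) : a ∈ ⁅A, zpowers y⁆ := by
  obtain ⟨x, hx, c, hcA, hyc, rfl⟩ := decomp hp hy hyp hA rfl hyA ha
  have hzx : Commute z x := h.lemA hp hA hy hz hyz hyp hzp hc hyA hzA hx
  have hzc : Commute z c := by
    have h1 : c = x⁻¹ * (x * c) := by group
    rw [h1]
    exact (hzx.inv_right).mul_right hza
  by_cases hc1 : c = 1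
  · rw [hc1, mul_one]; exact hx
  · exfalso
    have hoc : orderOf c = p := hA.order hp hcA hc1
    exact h.II2 c y z (by rw [hoc]; exact hp) hy hz (by rw [hoc]; exact hyp) hyz
      (by rw [hoc]; exact hzp) hyc.symm hc hzc.symm

theorem comm_zp {A B : Subgroup H} {z : H} (h : ∀ g ∈ A, ⁅g, z⁆ ∈ centralizer (B : Set H) ∧
    ∀ b ∈ B, Commute z b) (hA : ∀ g ∈ A, ∀ b ∈ B, g⁻¹ * b * g ∈ B) :
    ⁅A, zpowers z⁆ ≤ centralizer (B : Set H) := by
  rw [commutator_le]
  intro g hg x hx
  rw [mem_centralizer_iff]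
  intro b hb
  have h1 : ∀ b ∈ B, Commute x b := fun b hb => commute_of_zpowers hx ((h g hg).2 b hb)
  rw [commutatorElement_def]
  have h2 := hA g hg b hb
  have h3 : x * (g⁻¹ * b * g) * x⁻¹ = g⁻¹ * b * g := by
    rw [(h1 _ h2).eq, mul_inv_cancel_right]
  have h4 : x⁻¹ * b = b * x⁻¹ := ((h1 b hb).inv_left).eq
  calc b * (g * x * g⁻¹ * x⁻¹) = g * (g⁻¹ * b * g) * x * g⁻¹ * x⁻¹ := by group
    _ = g * (x * (g⁻¹ * b * g) * x⁻¹) * x * g⁻¹ * x⁻¹ := by rw [h3]
    _ = g * x * g⁻¹ * (b * x⁻¹) := by group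
    _ = g * x * g⁻¹ * (x⁻¹ * b) := by rw [h4]
    _ = g * x * g⁻¹ * x⁻¹ * b := by group

theorem Cx.step2 (h : Cx ρ) {u : ℕ} (hu : u.Prime) {A X : Subgroup H} (hA : EA u A) {y z : H}
    (hy : (orderOf y).Prime) (hz : (orderOf z).Prime) (hyz : orderOf y ≠ orderOf z)
    (hyu : u ≠ orderOf y) (hzu : u ≠ orderOf z) (hc : Commute y z)
    (hyA : y ∈ normalizer (A : Set H)) (hzA : z ∈ normalizer (A : Set H))
    (hX : EA (orderOf y) X) (hXA : X ≤ normalizer (A : Set H)) (hXf : X ⊓ centralizer (A : Set H) = ⊥)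
    (hyX : y ∈ normalizer (X : Set H)) (hzX : z ∈ normalizer (X : Set H)) : ∀ x ∈ X, Commute z x := by
  have := Fact.mk hy
  set C : Subgroup H := X ⊓ centralizer (zpowers y : Set H) with hC
  have hCe : EA (orderOf y) C := hX.mono inf_le_left
  set B : Subgroup H := A ⊓ centralizer (zpowers z : Set H) with hB
  have hCB : ∀ g ∈ C, ∀ b ∈ B, g⁻¹ * b * g ∈ B := by
    intro g hg b hb
    obtain ⟨hgX, hyg⟩ := mem_cent.1 hg
    obtain ⟨hbA, hzb⟩ := mem_cent.1 hb
    have hgA : g⁻¹ * b * g ∈ A := LocBase.conj_mem_of_le_normalizer' hXA hgX hbA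
    -- `g z g⁻¹` commutes with `y`
    have h1 : Commute y (g * z * g⁻¹) := (hyg.mul_right hc).mul_right hyg.inv_right
    have hoz : orderOf (g * z * g⁻¹) = orderOf z := oc g z
    have h2 : b ∈ ⁅A, zpowers y⁆ := h.cent_mem hu hA hy hz hyz hyu hzu hc hyA hzA hbA hzb
    have h3 : Commute (g * z * g⁻¹) b := h.lemA hu hA hy (by rw [hoz]; exact hz) (by rw [hoz]; exact hyz)
      hyu (by rw [hoz]; exact hzu) h1 hyA (mul_mem (mul_mem (hXA hgX) hzA) (inv_mem (hXA hgX))) h2
    refine mem_cent.2 ⟨hgA, ?_⟩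
    have h4 : g * z * g⁻¹ * b = b * (g * z * g⁻¹) := h3
    change z * (g⁻¹ * b * g) = g⁻¹ * b * g * z
    calc z * (g⁻¹ * b * g) = g⁻¹ * (g * z * g⁻¹ * b) * g := by group
      _ = g⁻¹ * (b * (g * z * g⁻¹)) * g := by rw [h4]
      _ = g⁻¹ * b * g * z := by group
  have hCB' : ∀ g ∈ C, ∀ b ∈ B, g * b * g⁻¹ ∈ B := by
    intro g hg b hb
    have := hCB g⁻¹ (inv_mem hg) b hb
    rwa [inv_inv] at this
  set Y : Subgroup H := ⁅C, zpowers z⁆ with hY
  have hzC : z ∈ normalizer (C : Set H) := norm_cent hzX hc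
  have hYC : Y ≤ C := comm_le hzC
  have hYX : Y ≤ X := hYC.trans inf_le_left
  have hYe : EA (orderOf y) Y := hX.mono hYX
  have hzY : z ∈ normalizer (Y : Set H) := norm_comm hzC (Commute.refl z)
  have hYB : Y ≤ centralizer (B : Set H) := by
    refine comm_zp ?_ hCB
    intro g hg
    refine ⟨?_, fun b hb => (mem_cent.1 hb).2⟩
    rw [mem_centralizer_iff]
    intro b hb
    have hzb : ∀ b ∈ B, Commute z b := fun b hb => (mem_cent.1 hb).2
    have h2 := hzb _ (hCB g hg b hb)
    have h4 : z⁻¹ * b = b * z⁻¹ := ((hzb b hb).inv_left).eq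
    have h3 : z * (g⁻¹ * b * g) * z⁻¹ = g⁻¹ * b * g := by rw [h2.eq, mul_inv_cancel_right]
    rw [commutatorElement_def]
    calc b * (g * z * g⁻¹ * z⁻¹) = g * (g⁻¹ * b * g) * z * g⁻¹ * z⁻¹ := by group
      _ = g * (z * (g⁻¹ * b * g) * z⁻¹) * z * g⁻¹ * z⁻¹ := by rw [h3]
      _ = g * z * g⁻¹ * (b * z⁻¹) := by group
      _ = g * z * g⁻¹ * (z⁻¹ * b) := by rw [h4]
      _ = g * z * g⁻¹ * z⁻¹ * b := by group
  -- `Y` acts trivially on `A`
  have hYA : Y ≤ normalizer (A : Set H) := hYX.trans hXA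
  have hAab : IsMulCommutative A := isMulCommutative_iff_of_setLike.mpr hA.ab
  have hcopY : (Nat.card Y).Coprime (Nat.card A) := by
    obtain ⟨n, hn⟩ := hYe.isPGroup.exists_card_eq
    rw [hn]
    exact Nat.Coprime.pow_left _ ((Nat.Prime.coprime_iff_not_dvd hy).2 (hA.not_dvd hu hy hyu))
  set M : Subgroup H := ⁅A, Y⁆ with hM
  have hMA : M ≤ A := LocBase.commutator_le_left_of_le hYA
  have hzM : z ∈ normalizer (M : Set H) :=
    LocBase.le_normalizer_commutator (zpowers_le.2 hzA) (zpowers_le.2 hzY) (mem_zpowers z)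
  have hYM : Y ≤ normalizer (M : Set H) := LocBase.le_normalizer_commutator hYA le_normalizer
  have hkey := frobG hu (hA.mono hMA) hz hYM hzM hzY
    (fun k hk hzk => free_comm hy hz hyz hCe rfl hzC hk hzk)
    (hYe.not_dvd hy hu hyu.symm)
    (by
      intro m hm hzm
      have h1 : m ∈ B := mem_cent.2 ⟨hMA hm, hzm⟩
      have h2 := inf_commutator_eq_bot_of_abelian (A := Y) (V := A) hYA hcopY
      have h3 : m ∈ (A ⊓ centralizer (Y : Set H)) ⊓ ⁅A, Y⁆ := by
        refine ⟨⟨hMA hm, mem_centralizer_iff.2 fun k hk => ?_⟩, hm⟩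
        exact (mem_centralizer_iff.1 (hYB hk) m h1).symm
      rw [h2, mem_bot] at h3
      exact h3)
  have hM1 : ⁅⁅A, Y⁆, Y⁆ = ⊥ := by
    rw [commutator_eq_bot_iff_le_centralizer]
    intro m hm
    exact mem_centralizer_iff.2 fun k hk => hkey k hk m hm
  have hYcomm : ∀ a b : Y, a * b = b * a := fun a b => Subtype.ext (hYe.ab a a.2 b b.2)
  have hM2 : ⁅A, Y⁆ = ⊥ := commutator_eq_bot_of_commutator_commutator hYA hcopY
    (Or.inl (Group.isSolvable_of_comm hYcomm)) hM1
  have hY1 : Y = ⊥ := by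
    rw [eq_bot_iff, ← hXf]
    refine le_inf hYX ?_
    rw [commutator_eq_bot_iff_le_centralizer] at hM2
    rw [le_centralizer_iff]
    exact hM2
  -- `z` centralizes `C`
  have hzC1 : ∀ c ∈ C, Commute z c := by
    rw [hY, commutator_eq_bot_iff_le_centralizer] at hY1
    intro c hc
    exact mem_centralizer_iff.1 (hY1 hc) z (mem_zpowers z)
  have hP : IsPGroup (orderOf y) (zpowers y) :=
    IsPGroup.of_card (n := 1) (by rw [Nat.card_zpowers, pow_one])
  have hfin := thompson_PxQ (p := orderOf y) (P := zpowers y) (Q := zpowers z) hP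
    (by rw [Nat.card_zpowers]; exact (Nat.coprime_primes hz hy).2 hyz.symm)
    (zpowers_le.2 (mem_centralizer_iff.2 fun k hk => commute_of_zpowers hk hc.symm))
    _ X rfl hX.isPGroup (zpowers_le.2 hyX) (zpowers_le.2 hzX)
    (by
      intro c hc
      exact mem_centralizer_iff.2 fun k hk => commute_of_zpowers hk (hzC1 c hc))
  intro x hx
  exact (mem_centralizer_iff.1 (hfin (mem_zpowers z)) x hx).symm

end Rep

end Cfsg.Agent.Lib.H48TriB
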