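import Cfsg.Agent.Lib.H48TriB

/-!
Step A for S3814 (helper48).
-/

set_option autoImplicit false
set_option linter.all false

namespace Cfsg.Agent.Lib.H48TriC

open Subgroup Module Cfsg.Agent.Lib.RepFix Cfsg.Agent.Lib.ModRep Cfsg.Agent.Lib.H48TriA Cfsg.Agent.Lib.H48TriB
open Cfsg.Agent.Lib.CoprimeAction Cfsg.Agent.Lib.CoprimeAction2
open scoped commutatorElement

universe u v w

variable {H : Type u} [Group H] [Finite H]

theorem conj_norm {y x a : H} (hn : y ∈ normalizer (zpowers x : Set H)) : y * x * y⁻¹ ∈ zpowers x :=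
  (mem_normalizer_iff.1 hn x).1 (mem_zpowers x)

/-- minimal `L`-invariant subgroups are elementary abelian -/
theorem exists_minEA {L K : Subgroup H} [hs : Group.IsSolvable L] (hKL : K ≤ L) (hK1 : K ≠ ⊥)
    (hLK : L ≤ normalizer (K : Set H)) : ∃ B ≤ K, B ≠ ⊥ ∧ L ≤ normalizer (B : Set H) ∧
      (∃ s, s.Prime ∧ s ∣ Nat.card L ∧ EA s B) ∧
      ∀ C ≤ B, C ≠ ⊥ → L ≤ normalizer (C : Set H) → C = B := by
  have hKn : (K.subgroupOf L).Normal := by
    constructor
    intro n hn g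
    exact (mem_normalizer_iff.1 (hLK g.2) (n : H)).1 hn
  have hK' : K.subgroupOf L ≠ ⊥ := by
    intro h
    apply hK1
    rw [subgroupOf_eq_bot, disjoint_iff, inf_eq_left.2 hKL] at h
    exact h
  obtain ⟨N, hN, hN1, hNK, hmin⟩ := Cores.exists_minNormal_le hKn hK'
  have hab := Cores.minNormal_abelian hN1 hmin
  obtain ⟨s, hs, hpow⟩ := Cores.minNormal_elementary hN1 hmin hab
  have hBL : N.map L.subtype ≤ L := by
    rintro _ ⟨x, _, rfl⟩; exact x.2
  have hEA : EA s (N.map L.subtype) := by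
    refine ⟨?_, ?_⟩
    · rintro _ ⟨a, ha, rfl⟩ _ ⟨b, hb, rfl⟩
      exact congrArg Subtype.val (hab a ha b hb)
    · rintro _ ⟨a, ha, rfl⟩
      have := congrArg Subtype.val (hpow a ha)
      simpa using this
  have hB1 : N.map L.subtype ≠ ⊥ := by
    intro h
    rw [(map_eq_bot_iff_of_injective _ L.subtype_injective)] at h
    exact hN1 h
  refine ⟨N.map L.subtype, ?_, hB1, ?_, ⟨s, hs, ?_, hEA⟩, ?_⟩
  · rintro _ ⟨x, hx, rfl⟩
    exact hNK hx
  · intro l hl
    rw [mem_normalizer_iff]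
    have h1 : ∀ l ∈ L, ∀ b ∈ N.map L.subtype, l * b * l⁻¹ ∈ N.map L.subtype := by
      rintro l hl _ ⟨b, hb, rfl⟩
      exact ⟨⟨l, hl⟩ * b * ⟨l, hl⟩⁻¹, hN.conj_mem b hb _, rfl⟩
    intro b
    refine ⟨h1 l hl b, fun h2 => ?_⟩
    have h3 := h1 _ (inv_mem hl) _ h2
    have h4 : l⁻¹ * (l * b * l⁻¹) * l⁻¹⁻¹ = b := by group
    rwa [h4] at h3
  · obtain ⟨b, hb, hb1⟩ := (Subgroup.ne_bot_iff_exists_ne_one).1 hB1 |>.imp (fun b hb => (⟨b.2, hb⟩ : _ ∧ _))
    have h1 : orderOf (b : H) = s := hEA.order hs b.2 (fun h => hb1 (Subtype.ext h))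
    rw [← h1, ← Nat.card_zpowers]
    exact card_dvd_of_le (zpowers_le.2 (hBL b.2))
  · intro C hC hC1 hLC
    have hCL : C ≤ L := hC.trans hBL
    have hCn : (C.subgroupOf L).Normal := by
      constructor
      intro n hn g
      exact (mem_normalizer_iff.1 (hLC g.2) (n : H)).1 hn
    rcases hmin _ hCn (by
      intro x hx
      obtain ⟨y, hy, hyx⟩ := hC (show (x : H) ∈ C from hx)
      rwa [L.subtype_injective hyx] at hy) with h | h
    · exfalso
      apply hC1
      rw [subgroupOf_eq_bot, disjoint_iff, inf_eq_left.2 hCL] at h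
      exact h
    · rw [← h]
      ext x
      constructor
      · intro hx; exact ⟨⟨x, hCL hx⟩, hx, rfl⟩
      · rintro ⟨y, hy, rfl⟩; exact hy

section Rep

variable {F : Type w} {V : Type v} [Field F] [AddCommGroup V] [Module F V] [FiniteDimensional F V]
  {ρ : Representation F H V}

/-- no noncyclic elementary abelian group is free on a nonzero invariant submodule -/
theorem Cx.noEE (h : Cx ρ) {q : ℕ} {E : Subgroup H} (hE : EE q E) (W : Submodule F V) (hW : W ≠ ⊥)
    (hEW : ∀ k ∈ E, ∀ w ∈ W, ρ k w ∈ W) (hf : ∀ e ∈ E, e ≠ 1 → ∀ w ∈ W, ρ e w = w → w = 0) : False := by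
  obtain ⟨e, he, he1, w, hw, hw0, hew⟩ := hE.fixV ρ (by
    obtain ⟨x, hx, hx1⟩ := hE.nc 1 (one_mem _)
    rw [zpowers_one_eq_bot, mem_bot] at hx1
    rw [← hE.order hx hx1]
    exact h.oF x) W hW hEW
  exact hw0 (hf e he he1 w hw hew)

/-- an elementary abelian group is cyclic or noncyclic -/
theorem EA.cyc {p : ℕ} (hp : p.Prime) {A : Subgroup H} (hA : EA p A) (hn : ¬ EE p A) :
    ∃ a ∈ A, ∀ b ∈ A, b ∈ zpowers a := by
  by_contra hcon
  push Not at hcon
  exact hn ⟨hp, hA.ab, hA.ex, hcon⟩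

theorem exists_ne_one {A : Subgroup H} (hA1 : A ≠ ⊥) : ∃ a ∈ A, a ≠ 1 := by
  by_contra hcon
  push Not at hcon
  exact hA1 (eq_bot_iff.2 fun a ha => mem_bot.2 (hcon a ha))

/-- no division -/
theorem sub_one_absurd {q r : ℕ} (hq : q.Prime) (hr : r.Prime) (h1 : q ∣ r - 1) (h2 : r ∣ q - 1) : False := by
  have h3 := Nat.le_of_dvd (by have := hr.two_le; omega) h1
  have h4 := Nat.le_of_dvd (by have := hq.two_le; omega) h2
  have := hq.two_le; have := hr.two_le
  omega

/-- (P4) -/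
theorem Cx.step4 (h : Cx ρ) {p q r : ℕ} (hp : p.Prime) (hq : q.Prime)
    (hr : r.Prime) (hpq : p ≠ q) (hqr : q ≠ r) (hpr : p ≠ r) {A : Subgroup H} (hA : EA p A) {x z : H}
    (hx : orderOf x = q) (hz : orderOf z = r) (hc : Commute x z) (hxA : x ∈ normalizer (A : Set H))
    (hzA : z ∈ normalizer (A : Set H)) (hne : ∃ a ∈ A, ¬ Commute x a) :
    ∀ a ∈ A, Commute z a := by
  have hxp : (orderOf x).Prime := by rw [hx]; exact hq
  have hzp : (orderOf z).Prime := by rw [hz]; exact hr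
  set A1 : Subgroup H := ⁅A, zpowers x⁆ with hA1
  set A2 : Subgroup H := ⁅A, zpowers z⁆ with hA2
  have hA1A : A1 ≤ A := comm_le hxA
  have hA2A : A2 ≤ A := comm_le hzA
  have hzA1 : ∀ a ∈ A1, Commute z a := fun a ha => h.lemA hp hA hxp hzp (by rw [hx, hz]; exact hqr)
    (by rw [hx]; exact hpq) (by rw [hz]; exact hpr) hc hxA hzA ha
  have hxA2 : ∀ a ∈ A2, Commute x a := fun a ha => h.lemA hp hA hzp hxp (by rw [hx, hz]; exact hqr.symm)
    (by rw [hz]; exact hpr) (by rw [hx]; exact hpq) hc.symm hzA hxA ha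
  have hxf : ∀ a ∈ A1, Commute x a → a = 1 := fun a ha hxa => free_comm hp hq hpq hA hx hxA ha hxa
  have hzf : ∀ a ∈ A2, Commute z a → a = 1 := fun a ha hza => free_comm hp hr hpr hA hz hzA ha hza
  have hxN1 : x ∈ normalizer (A1 : Set H) := norm_comm hxA (Commute.refl x)
  have hzN2 : z ∈ normalizer (A2 : Set H) := norm_comm hzA (Commute.refl z)
  by_cases hb : A2 = ⊥
  · intro a ha
    rw [hA2, commutator_eq_bot_iff_le_centralizer] at hb
    exact mem_centralizer_iff.1 (hb ha) z (mem_zpowers z)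
  exfalso
  -- `C_V(a1) ≤ C_V(a2)`
  have k1 : ∀ a1 ∈ A1, a1 ≠ 1 → ∀ a2 ∈ A2, ∀ w, ρ a1 w = w → ρ a2 w = w := by
    intro a1 ha1 ha11 a2 ha2 w hw
    have ho : orderOf a1 = p := hA.order hp (hA1A ha1) ha11
    exact frob1 ρ hzp hzN2 hzf (h.cF A2) (fx ρ a1)
      (fun k hk w hw => fx_inv (hA.ab _ (hA2A hk) _ (hA1A ha1)) hw)
      (fun w hw => fx_inv (hzA1 a1 ha1) hw)
      (fun w hw hzw => h.II1 z a1 hzp (by rw [ho]; exact hp) (by rw [ho, hz]; exact hpr.symm) (hzA1 a1 ha1)
        w hzw (mem_fx.1 hw)) a2 ha2 w (mem_fx.2 hw)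
  have k2 : ∀ a2 ∈ A2, a2 ≠ 1 → ∀ a1 ∈ A1, ∀ w, ρ a2 w = w → ρ a1 w = w := by
    intro a2 ha2 ha21 a1 ha1 w hw
    have ho : orderOf a2 = p := hA.order hp (hA2A ha2) ha21
    exact frob1 ρ hxp hxN1 hxf (h.cF A1) (fx ρ a2)
      (fun k hk w hw => fx_inv (hA.ab _ (hA1A hk) _ (hA2A ha2)) hw)
      (fun w hw => fx_inv (hxA2 a2 ha2) hw)
      (fun w hw hzw => h.II1 x a2 hxp (by rw [ho]; exact hp) (by rw [ho, hx]; exact hpq.symm) (hxA2 a2 ha2)
        w hzw (mem_fx.1 hw)) a1 ha1 w (mem_fx.2 hw)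
  obtain ⟨a2, ha2, ha21⟩ := exists_ne_one hb
  -- `C_V(x)`
  have k3 : ∀ w, ρ x w = w → ∀ a1 ∈ A1, ρ a1 w = w := by
    intro w hw a1 ha1
    refine k2 a2 ha2 ha21 a1 ha1 w ?_
    exact frob1 ρ hzp hzN2 hzf (h.cF A2) (fx ρ x)
      (fun k hk w hw => fx_inv (hxA2 k hk).symm hw)
      (fun w hw => fx_inv hc.symm hw)
      (fun w hw hzw => h.II1 z x hzp hxp (by rw [hx, hz]; exact hqr.symm) hc.symm
        w hzw (mem_fx.1 hw)) a2 ha2 w (mem_fx.2 hw)
  have k4 := frob2 ρ hxp hxN1 hxf (h.cF A1) k3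
  obtain ⟨a, ha, hxa⟩ := hne
  apply hxa
  have h5 : A1 = ⊥ := by
    rw [eq_bot_iff]
    intro k hk
    exact mem_bot.2 (h.inj k (k4 k hk))
  rw [hA1, commutator_eq_bot_iff_le_centralizer] at h5
  exact mem_centralizer_iff.1 (h5 ha) x (mem_zpowers x)

/-- Step A -/
theorem stepA (h : Cx ρ) {p q r : ℕ} (hp : p.Prime) (hq : q.Prime)
    (hr : r.Prime) (hpq : p ≠ q) (hqr : q ≠ r) (hpr : p ≠ r) {L A X : Subgroup H} [Group.IsSolvable L]
    (hLc : ∀ s, s.Prime → s ∣ Nat.card L → s = q ∨ s = r)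
    (hyz : ∃ y ∈ L, ∃ z ∈ L, orderOf y = q ∧ orderOf z = r ∧ Commute y z)
    (hEq : ∃ E ≤ L, EE q E) (hEr : ∃ E ≤ L, EE r E)
    (hA : EA p A) (hA1 : A ≠ ⊥) (hLA : L ≤ normalizer (A : Set H)) (hXL : X ≤ L)
    (hLX : L ≤ normalizer (X : Set H)) (hX : EA q X) (hX1 : X ≠ ⊥) (hXA : X ⊓ centralizer (A : Set H) = ⊥) :
    False := by
  have hcop : ∀ x ∈ X, x ≠ 1 → orderOf x = q := fun x hx hx1 => hX.order hq hx hx1
  -- nontrivial elements of `X` act nontrivially on `A`
  have hXne : ∀ x ∈ X, x ≠ 1 → ∃ a ∈ A, ¬ Commute x a := by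
    intro x hx hx1
    by_contra hcon
    push Not at hcon
    apply hx1
    rw [← mem_bot, ← hXA]
    exact ⟨hx, mem_centralizer_iff.2 fun a ha => (hcon a ha).symm⟩
  -- Step 2
  have h2 : ∀ y ∈ L, ∀ z ∈ L, orderOf y = q → orderOf z = r → Commute y z → ∀ x ∈ X, Commute z x := by
    intro y hy z hz hoy hoz hc
    exact h.step2 hp hA (by rw [hoy]; exact hq) (by rw [hoz]; exact hr) (by rw [hoy, hoz]; exact hqr)
      (by rw [hoy]; exact hpq) (by rw [hoz]; exact hpr) hc (hLA hy) (hLA hz) (by rw [hoy]; exact hX)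
      (hXL.trans hLA) hXA (hLX hy) (hLX hz)
  -- `z` centralizes `A`
  have h4 : ∀ y ∈ L, ∀ z ∈ L, orderOf y = q → orderOf z = r → Commute y z → ∀ a ∈ A, Commute z a := by
    intro y hy z hz hoy hoz hc
    obtain ⟨x, hx, hx1⟩ := exists_ne_one hX1
    have hzx := h2 y hy z hz hoy hoz hc x hx
    exact Cx.step4 h hp hq hr hpq hqr hpr hA (hcop x hx hx1) hoz hzx.symm (hLA (hXL hx)) (hLA hz)
      (hXne x hx hx1)
  -- `y` is free on `A`
  have h5 : ∀ y ∈ L, ∀ z ∈ L, orderOf y = q → orderOf z = r → Commute y z → ∀ a ∈ A, Commute y a → a = 1 := by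
    intro y hy z hz hoy hoz hc a ha hya
    have h6 := h.cent_mem hp hA (by rw [hoz]; exact hr) (by rw [hoy]; exact hq)
      (by rw [hoy, hoz]; exact hqr.symm) (by rw [hoz]; exact hpr) (by rw [hoy]; exact hpq) hc.symm
      (hLA hz) (hLA hy) ha hya
    exact free_comm hp hr hpr hA hoz (hLA hz) h6 (h4 y hy z hz hoy hoz hc a ha)
  obtain ⟨y0, hy0, z0, hz0, hoy0, hoz0, hc0⟩ := hyz
  -- nontrivial elements of `X` are free on `A`
  have hXf : ∀ x ∈ X, x ≠ 1 → ∀ a ∈ A, Commute x a → a = 1 := fun x hx hx1 =>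
    h5 x (hXL hx) z0 hz0 (hcop x hx hx1) hoz0 (h2 y0 hy0 z0 hz0 hoy0 hoz0 hc0 x hx).symm
  -- `X` is cyclic
  have hXE : ¬ EE q X := by
    intro hE
    obtain ⟨e, he, he1, a, ha, ha1, hea⟩ := hE.fixG hA1 (hXL.trans hLA) (hA.not_dvd hp hq hpq)
    exact ha1 (hXf e he he1 a ha hea)
  obtain ⟨x, hx, hxg⟩ := EA.cyc hq hX hXE
  have hx1 : x ≠ 1 := by
    rintro rfl
    apply hX1
    rw [eq_bot_iff]
    intro b hb
    have := hxg b hb
    rwa [zpowers_one_eq_bot] at this
  have hox : orderOf x = q := hcop x hx hx1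
  have hXz : ∀ l ∈ L, l * x * l⁻¹ ∈ zpowers x := fun l hl =>
    hxg _ ((mem_normalizer_iff.1 (hLX hl) x).1 hx)
  set K : Subgroup H := L ⊓ centralizer (A : Set H) with hK
  have hKA : ∀ k ∈ K, ∀ a ∈ A, Commute k a := fun k hk a ha => (mem_centralizer_iff.1 hk.2 a ha).symm
  have hKL : K ≤ L := inf_le_left
  have hLK : L ≤ normalizer (K : Set H) :=
    LocBase.le_normalizer_inf le_normalizer (LocBase.le_normalizer_centralizer hLA)
  have hz0K : z0 ∈ K := ⟨hz0, mem_centralizer_iff.2 fun a ha => (h4 y0 hy0 z0 hz0 hoy0 hoz0 hc0 a ha).symm⟩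
  have hz01 : z0 ≠ 1 := by rintro rfl; rw [orderOf_one] at hoz0; exact hr.one_lt.ne hoz0
  have hK1 : K ≠ ⊥ := by
    intro h'
    rw [h'] at hz0K
    exact hz01 (mem_bot.1 hz0K)
  -- `K` commutes with `x`
  have hKx : ∀ k ∈ K, Commute k x := by
    intro k hk
    have h6 : k * x * k⁻¹ * x⁻¹ ∈ X ⊓ centralizer (A : Set H) := by
      refine ⟨?_, ?_⟩
      · have h9 : k * x * k⁻¹ ∈ X := (mem_normalizer_iff.1 (hLX (hKL hk)) x).1 hx
        exact X.mul_mem h9 (X.inv_mem hx)
      · have h7 : x * k⁻¹ * x⁻¹ ∈ K := (mem_normalizer_iff.1 (hLK (hXL hx)) k⁻¹).1 (inv_mem hk)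
        have h8 : k * x * k⁻¹ * x⁻¹ = k * (x * k⁻¹ * x⁻¹) := by group
        rw [h8]
        exact mul_mem hk.2 h7.2
    rw [hXA, mem_bot] at h6
    have h7 : k * x * k⁻¹ = x := by rwa [mul_inv_eq_one] at h6
    exact mul_inv_eq_iff_eq_mul.1 h7
  -- elements of order `r` commuting with `x` are in `K`
  have hzK : ∀ z ∈ L, orderOf z = r → Commute x z → z ∈ K := by
    intro z hz hoz hc
    exact ⟨hz, mem_centralizer_iff.2 fun a ha => (h4 x (hXL hx) z hz hox hoz hc a ha).symm⟩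
  have hxzpow : ∀ l ∈ zpowers x, l ≠ 1 → ∀ a ∈ A, Commute l a → a = 1 := fun l hl hl1 =>
    hXf l ((zpowers_le.2 hx) hl) hl1
  -- the element `y`
  obtain ⟨Eq, hEqL, hEq⟩ := hEq
  have hEx : ∀ e ∈ Eq, Commute e x := by
    intro e he
    by_cases he1 : e = 1
    · rw [he1]; exact Commute.one_left x
    by_contra hcon
    have hoe : orderOf e = q := hEq.order he he1
    have h6 := dvd_sub_one (by rw [hox]; exact hq) (by rw [hoe]; exact hq) (hXz e (hEqL he)) hcon
    rw [hoe, hox] at h6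
    have := Nat.le_of_dvd (by have := hq.two_le; omega) h6
    have := hq.two_le
    omega
  obtain ⟨e, he, hex⟩ : ∃ e ∈ Eq, e ∉ zpowers x := by
    by_contra hcon
    push Not at hcon
    obtain ⟨e1, he1, he11⟩ := hEq.nc 1 (one_mem _)
    rw [zpowers_one_eq_bot, mem_bot] at he11
    obtain ⟨e2, he2, he21⟩ := hEq.nc e1 he1
    exact he21 ((zpowers_le.2 (mem_zpowers_of_prime (by rw [hox]; exact hq) (hcon e1 he1) he11)) (hcon e2 he2))
  have he1 : e ≠ 1 := fun h' => hex (h' ▸ one_mem _)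
  have hE' : EE q (zpowers x ⊔ zpowers e) :=
    EE.mk' hq hox (hEq.order he he1) (hEx e he).symm hex
  have hE'L : zpowers x ⊔ zpowers e ≤ L := sup_le (zpowers_le.2 (hXL hx)) (zpowers_le.2 (hEqL he))
  obtain ⟨y, hy, hy1, a, ha, ha1, hya⟩ := hE'.fixG hA1 (hE'L.trans hLA) (hA.not_dvd hp hq hpq)
  have hoy : orderOf y = q := hE'.order hy hy1
  have hyL : y ∈ L := hE'L hy
  have hyr : ∀ z ∈ L, orderOf z = r → ¬ Commute y z := fun z hz hoz hc =>
    ha1 (h5 y hyL z hz hoy hoz hc a ha hya)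
  have hoa : orderOf a = p := hA.order hp ha ha1
  -- V is nonzero
  have hV : (⊤ : Submodule F V) ≠ ⊥ := by
    intro h'
    apply hx1
    apply h.inj
    ext v
    have h6 : ∀ v : V, v = 0 := fun v => (Submodule.mem_bot F).1 (h' ▸ Submodule.mem_top)
    rw [h6 (ρ x v), h6 ((1 : V →ₗ[F] V) v)]
  -- minimal subgroup of K
  obtain ⟨B, hBK, hB1, hLB, ⟨s, hs, hsL, hBs⟩, -⟩ := exists_minEA (L := L) hKL hK1 hLK
  obtain ⟨Er, hErL, hEr⟩ := hEr
  obtain ⟨b, hb, hb1⟩ := exists_ne_one hB1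
  have hBA : ∀ b ∈ B, ∀ a ∈ A, Commute b a := fun b hb => hKA b (hBK hb)
  -- if some prime order element of L normalizing a and free on B, then C_V(a) = 0
  have hkey : ∀ g ∈ L, (orderOf g).Prime → orderOf g ≠ p → s ≠ orderOf g → ∀ a ∈ A, a ≠ 1 → Commute g a →
      (∀ b ∈ B, Commute g b → b = 1) → ∀ w, ρ a w = w → w = 0 := by
    intro g hg hgp hgne hsg a ha ha1 hga hgB w hw
    have hoa : orderOf a = p := hA.order hp ha ha1
    have h6 := frob1 ρ hgp (hLB hg) hgB (h.cF B) (fx ρ a)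
      (fun k hk w hw => fx_inv (hBA k hk a ha) hw)
      (fun w hw => fx_inv hga hw)
      (fun w hw hgw => h.II1 g a hgp (by rw [hoa]; exact hp) (by rw [hoa]; exact hgne) hga w hgw (mem_fx.1 hw))
      b hb w (mem_fx.2 hw)
    have hob : orderOf b = s := hBs.order hs hb hb1
    rcases eq_or_ne s p with hsp | hsp
    · exfalso
      rcases hLc s hs hsL with h' | h'
      · exact hpq (hsp ▸ h')
      · exact hpr (hsp ▸ h')
    · exact h.II1 b a (by rw [hob]; exact hs) (by rw [hoa]; exact hp) (by rw [hob, hoa]; exact hsp)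
        (hBA b hb a ha) w h6 hw
  -- it remains to prove : `q ∣ r - 1` and some element of order `r` outside `K`
  have hfin : q ∣ r - 1 → (∃ z ∈ L, orderOf z = r ∧ z ∉ K) → False := by
    rintro h6 ⟨z, hz, hoz, hzK'⟩
    have h7 := dvd_sub_one (c := x) (z := z) (by rw [hox]; exact hq) (by rw [hoz]; exact hr) (hXz z hz)
      (fun hc => hzK' (hzK z hz hoz hc.symm))
    rw [hoz, hox] at h7
    exact sub_one_absurd hq hr h6 h7
  by_cases hqK : q ∣ Nat.card K
  · -- P7
    obtain ⟨g0, hg0⟩ : ∃ g : K, orderOf g = q := by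
      have := Fact.mk hq
      exact exists_prime_orderOf_dvd_card' q hqK
    have hog0 : orderOf (g0 : H) = q := by rw [Subgroup.orderOf_coe]; exact hg0
    have hPa : ∀ a ∈ A, a ≠ 1 → ∀ w, ρ a w = w → w = 0 := by
      intro a ha ha1
      have hoa : orderOf a = p := hA.order hp ha ha1
      rcases hLc s hs hsL with hsq | hsr
      · -- B is a q-group, use z0
        refine hkey z0 hz0 (by rw [hoz0]; exact hr) (by rw [hoz0]; exact hpr.symm) (by rw [hoz0, hsq]; exact hqr)
          a ha ha1 (hKA z0 hz0K a ha) ?_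
        intro b hb hc
        by_contra hb1
        have hob : orderOf b = q := by rw [← hsq]; exact hBs.order hs hb hb1
        exact h.II2 a b z0 (by rw [hoa]; exact hp) (by rw [hob]; exact hq) (by rw [hoz0]; exact hr)
          (by rw [hoa, hob]; exact hpq) (by rw [hob, hoz0]; exact hqr) (by rw [hoa, hoz0]; exact hpr)
          (hBA b hb a ha).symm hc.symm (hKA z0 hz0K a ha).symm
      · refine hkey g0 (hKL g0.2) (by rw [hog0]; exact hq) (by rw [hog0]; exact hpq.symm)
          (by rw [hog0, hsr]; exact hqr.symm) a ha ha1 (hKA g0 g0.2 a ha) ?_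
        intro b hb hc
        by_contra hb1
        have hob : orderOf b = r := by rw [← hsr]; exact hBs.order hs hb hb1
        exact h.II2 a b g0 (by rw [hoa]; exact hp) (by rw [hob]; exact hr) (by rw [hog0]; exact hq)
          (by rw [hoa, hob]; exact hpr) (by rw [hob, hog0]; exact hqr.symm) (by rw [hoa, hog0]; exact hpq)
          (hBA b hb a ha).symm hc.symm (hKA g0 g0.2 a ha).symm
    -- `x` normalizes A; z in K of order r : C_V(z) = 0
    have hPz : ∀ z ∈ K, orderOf z = r → ∀ w, ρ z w = w → w = 0 := by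
      intro z hz hoz w hw
      have h6 := frob1 ρ (K := A) (z := x) (by rw [hox]; exact hq) (hLA (hXL hx))
        (hXf x hx hx1) (h.cF A) (fx ρ z)
        (fun k hk w hw => fx_inv (hKA z hz k hk).symm hw)
        (fun w hw => fx_inv (hKx z hz).symm hw)
        (fun w hw hxw => h.II1 x z (by rw [hox]; exact hq) (by rw [hoz]; exact hr) (by rw [hox, hoz]; exact hqr)
          (hKx z hz).symm w hxw (mem_fx.1 hw)) a ha w (mem_fx.2 hw)
      exact hPa a ha ha1 w h6
    have hKE : ∀ E ≤ K, ¬ EE r E := by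
      intro E hEK hE
      exact Cx.noEE h hE ⊤ hV (fun _ _ _ _ => Submodule.mem_top)
        (fun e he he1 w _ hew => hPz e (hEK he) (hE.order he he1) w hew)
    refine hfin ?_ ?_
    · rcases hLc s hs hsL with hsq | hsr
      · exfalso
        have h6 := frob1 ρ (K := B) (z := z0) (by rw [hoz0]; exact hr) (hLB hz0)
          (by
            intro b hb hc
            by_contra hb1
            have hob : orderOf b = q := by rw [← hsq]; exact hBs.order hs hb hb1
            exact h.II2 a b z0 (by rw [hoa]; exact hp) (by rw [hob]; exact hq) (by rw [hoz0]; exact hr)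
              (by rw [hoa, hob]; exact hpq) (by rw [hob, hoz0]; exact hqr) (by rw [hoa, hoz0]; exact hpr)
              (hBA b hb a ha).symm hc.symm (hKA z0 hz0K a ha).symm)
          (h.cF B) ⊤ (fun _ _ _ _ => Submodule.mem_top) (fun _ _ => Submodule.mem_top)
          (fun w _ hw => hPz z0 hz0K hoz0 w hw) b hb
        exact hb1 (h.inj b (LinearMap.ext fun v => h6 v Submodule.mem_top))
      · obtain ⟨b', hb', hbg⟩ := EA.cyc hs hBs (fun hE => hKE B hBK (hsr ▸ hE))
        have hb'1 : b' ≠ 1 := by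
          rintro rfl
          have := hbg b hb
          rw [zpowers_one_eq_bot, mem_bot] at this
          exact hb1 this
        have hob' : orderOf b' = r := by rw [← hsr]; exact hBs.order hs hb' hb'1
        have h6 := dvd_sub_one (c := b') (z := (g0 : H)) (by rw [hob']; exact hr) (by rw [hog0]; exact hq)
          (hbg _ ((mem_normalizer_iff.1 (hLB (hKL g0.2)) b').1 hb'))
          (fun hc => h.II2 a b' g0 (by rw [hoa]; exact hp) (by rw [hob']; exact hr) (by rw [hog0]; exact hq)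
          (by rw [hoa, hob']; exact hpr) (by rw [hob', hog0]; exact hqr.symm) (by rw [hoa, hog0]; exact hpq)
          (hBA b' hb' a ha).symm hc.symm (hKA g0 g0.2 a ha).symm)
        rwa [hog0, hob'] at h6
    · by_contra hcon
      push Not at hcon
      exact hKE Er (fun e he => by
        by_cases he1 : e = 1
        · rw [he1]; exact one_mem _
        · exact hcon e (hErL he) (hEr.order he he1)) hEr
  · -- P8
    have hsr : s = r := by
      rcases hLc s hs hsL with h' | h'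
      · exfalso
        apply hqK
        rw [← h', ← hBs.order hs hb hb1, ← Nat.card_zpowers]
        exact card_dvd_of_le (zpowers_le.2 (hBK hb))
      · exact h'
    have hPa := hkey y hyL (by rw [hoy]; exact hq) (by rw [hoy]; exact hpq.symm) (by rw [hoy, hsr]; exact hqr.symm)
      a ha ha1 hya (by
        intro b hb hc
        by_contra hb1
        exact hyr b (hKL (hBK hb)) (by rw [← hsr]; exact hBs.order hs hb hb1) hc)
    have hyK : y ∉ K := by
      intro hyK
      apply hqK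
      rw [← hoy, ← Nat.card_zpowers]
      exact card_dvd_of_le (zpowers_le.2 hyK)
    have hPz : ∀ z ∈ K, orderOf z = r → ∀ w, ρ z w = w → w = 0 := by
      intro z hz hoz w hw
      by_contra hw0
      have hW : fx ρ z ≠ ⊥ := by
        intro h'
        have : w ∈ fx ρ z := mem_fx.2 hw
        rw [h'] at this
        exact hw0 ((Submodule.mem_bot F).1 this)
      have hAE : ¬ EE p A := by
        intro hE
        exact Cx.noEE h hE (fx ρ z) hW (fun k hk w hw => fx_inv (hKA z hz k hk).symm hw)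
          (fun e he he1 w hw hew => h.II1 e z (by rw [hE.order he he1]; exact hp) (by rw [hoz]; exact hr)
            (by rw [hE.order he he1, hoz]; exact hpr) (hKA z hz e he).symm w hew (mem_fx.1 hw))
      obtain ⟨a', ha', hag⟩ := EA.cyc hp hA hAE
      have ha'1 : a' ≠ 1 := by
        rintro rfl
        have := hag a ha
        rw [zpowers_one_eq_bot, mem_bot] at this
        exact ha1 this
      apply hyK
      refine ⟨hyL, mem_centralizer_iff.2 fun c hc => ?_⟩
      have h6 : a' ∈ zpowers a := mem_zpowers_of_prime (by rw [hA.order hp ha' ha'1]; exact hp) (hag a ha) ha1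
      exact (commute_of_zpowers ((zpowers_le.2 h6) (hag c hc)) hya.symm)
    have hKE : ∀ E ≤ K, ¬ EE r E := by
      intro E hEK hE
      exact Cx.noEE h hE ⊤ hV (fun _ _ _ _ => Submodule.mem_top)
        (fun e he he1 w _ hew => hPz e (hEK he) (hE.order he he1) w hew)
    obtain ⟨b', hb', hbg⟩ := EA.cyc hs hBs (fun hE => hKE B hBK (hsr ▸ hE))
    have hb'1 : b' ≠ 1 := by
      rintro rfl
      have := hbg b hb
      rw [zpowers_one_eq_bot, mem_bot] at this
      exact hb1 this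
    have hob' : orderOf b' = r := by rw [← hsr]; exact hBs.order hs hb' hb'1
    refine hfin ?_ ?_
    · have h6 := dvd_sub_one (c := b') (z := y) (by rw [hob']; exact hr) (by rw [hoy]; exact hq)
          (hbg _ ((mem_normalizer_iff.1 (hLB hyL) b').1 hb')) (hyr b' (hKL (hBK hb')) hob')
      rwa [hoy, hob'] at h6
    · by_contra hcon
      push Not at hcon
      exact hKE Er (fun e he => by
        by_cases he1 : e = 1
        · rw [he1]; exact one_mem _
        · exact hcon e (hErL he) (hEr.order he he1)) hEr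

end Rep

end Cfsg.Agent.Lib.H48TriC
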