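import Cfsg.Agent.Lib.H48TriB
import Cfsg.Agent.Lib.Fitting
import Cfsg.Agent.Lib.HallPi

/-!
Definitions for the pieces of S3814 (helper48).
-/

set_option autoImplicit false

namespace Cfsg.Agent.Lib.H48TriD

open Subgroup

universe u v w v₁ v₂ w₁ w₂

/-- two coprime modules without common fixed points -/
structure C1 {L : Type u} [Group L] [Finite L] {F1 : Type w₁} {V1 : Type v₁} [Field F1] [AddCommGroup V1]
    [Module F1 V1] [FiniteDimensional F1 V1] {F2 : Type w₂} {V2 : Type v₂} [Field F2] [AddCommGroup V2]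
    [Module F2 V2] [FiniteDimensional F2 V2] (ρ1 : Representation F1 L V1) (ρ2 : Representation F2 L V2) :
    Prop where
  hF1 : (Nat.card L : F1) ≠ 0
  hF2 : (Nat.card L : F2) ≠ 0
  nt1 : ∃ v : V1, v ≠ 0
  nt2 : ∃ v : V2, v ≠ 0
  I1 : ∀ y : L, (orderOf y).Prime → ∀ v1 v2, ρ1 y v1 = v1 → ρ2 y v2 = v2 → v1 = 0 ∨ v2 = 0
  I21 : ∀ y z : L, (orderOf y).Prime → (orderOf z).Prime → orderOf y ≠ orderOf z → Commute y z →
    ∀ v, ρ1 y v = v → ρ1 z v = v → v = 0
  I22 : ∀ y z : L, (orderOf y).Prime → (orderOf z).Prime → orderOf y ≠ orderOf z → Commute y z →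
    ∀ v, ρ2 y v = v → ρ2 z v = v → v = 0

section

variable {L : Type u} [Group L] [Finite L] {F1 : Type w₁} {V1 : Type v₁} [Field F1] [AddCommGroup V1]
    [Module F1 V1] [FiniteDimensional F1 V1] {F2 : Type w₂} {V2 : Type v₂} [Field F2] [AddCommGroup V2]
    [Module F2 V2] [FiniteDimensional F2 V2] {ρ1 : Representation F1 L V1} {ρ2 : Representation F2 L V2}

theorem C1.symm (h : C1 ρ1 ρ2) : C1 ρ2 ρ1 :=
  ⟨h.hF2, h.hF1, h.nt2, h.nt1, fun y hy v1 v2 h1 h2 => (h.I1 y hy v2 v1 h2 h1).symm, h.I22, h.I21⟩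

end

/-- the situation in the group: `σ` a set of four primes -/
structure Sit (G : Type u) [Group G] [Finite G] (σ : Finset ℕ) : Prop where
  sol : Group.IsSolvable G
  card : σ.card = 4
  prime : ∀ p ∈ σ, p.Prime
  hG : ∀ s, s.Prime → s ∣ Nat.card G → s ∈ σ
  pairs : ∀ p ∈ σ, ∀ q ∈ σ, p ≠ q → ∃ y z : G, orderOf y = p ∧ orderOf z = q ∧ Commute y z
  trip : ∀ x y z : G, (orderOf x).Prime → (orderOf y).Prime → (orderOf z).Prime →
    orderOf x ≠ orderOf y → orderOf y ≠ orderOf z → orderOf x ≠ orderOf z → Commute x y →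
    Commute y z → Commute x z → False

end Cfsg.Agent.Lib.H48TriD
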