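import Cfsg.Agent.Lib.H48TriD
import Cfsg.Agent.Lib.FratRep

/-!
Fixed points on the Frattini quotient (helper48).
-/

set_option autoImplicit false
set_option linter.all false

namespace Cfsg.Agent.Lib.H48TriE

open Subgroup Module Cfsg.Agent.Lib.FratRep
open scoped commutatorElement

universe u

variable {p : ℕ} {G : Type u} [Group G] [Finite G] {N : Subgroup G} {V : Type u} [AddCommGroup V] [Module (ZMod p) V]

/-- an element without fixed points on `N` has no fixed points on `N/Φ(N)` -/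
theorem free_frat (D : Data p N V) {g : G} (hg : ∀ n ∈ N, Commute g n → n = 1) {v : V} (hv : D.ρ g v = v) :
    v = 0 := by
  obtain ⟨a, rfl⟩ := D.surj v
  rw [D.apply] at hv
  rw [D.map_eq_zero]
  -- the commutator map on the Frattini subgroup
  have hc : ∀ b : N, g * b * g⁻¹ ∈ N := D.conj_mem g
  let θ : N → N := fun b => ⟨g * b * g⁻¹, hc b⟩ * b⁻¹
  have hinj : Function.Injective θ := by
    intro b c hbc
    have h1 : g * (b : G) * g⁻¹ * (b : G)⁻¹ = g * (c : G) * g⁻¹ * (c : G)⁻¹ := congrArg Subtype.val hbc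
    have h2 : Commute g ((c : G)⁻¹ * b) := by
      have h3 : g * (b : G) * g⁻¹ = g * (c : G) * g⁻¹ * (c : G)⁻¹ * b := by
        rw [← h1]; group
      have h4 : g * ((c : G)⁻¹ * b) * g⁻¹ = (c : G)⁻¹ * b := by
        calc g * ((c : G)⁻¹ * b) * g⁻¹ = (g * (c : G) * g⁻¹)⁻¹ * (g * (b : G) * g⁻¹) := by group
          _ = (g * (c : G) * g⁻¹)⁻¹ * (g * (c : G) * g⁻¹ * (c : G)⁻¹ * b) := by rw [h3]
          _ = (c : G)⁻¹ * b := by group
      exact mul_inv_eq_iff_eq_mul.1 h4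
    have h5 := hg _ (N.mul_mem (N.inv_mem c.2) b.2) h2
    exact Subtype.ext (inv_mul_eq_one.1 h5).symm
  have hθF : ∀ b : N, b ∈ frattini N → θ b ∈ frattini N := by
    intro b hb
    have h1 : D.π b = 0 := (D.map_eq_zero b).2 hb
    have h2 := D.apply g b
    rw [h1, map_zero] at h2
    rw [← D.map_eq_zero]
    change D.π (⟨g * b * g⁻¹, hc b⟩ * b⁻¹) = 0
    rw [D.map_mul, D.map_inv, h1, neg_zero, add_zero]
    exact h2.symm
  have hsurj : Function.Surjective (fun b : frattini N => (⟨θ b, hθF b b.2⟩ : frattini N)) := by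
    apply Finite.surjective_of_injective
    intro b c hbc
    exact Subtype.ext (hinj (congrArg Subtype.val hbc))
  have h3 : θ a ∈ frattini N := by
    rw [← D.map_eq_zero]
    change D.π (⟨g * a * g⁻¹, hc a⟩ * a⁻¹) = 0
    rw [D.map_mul, D.map_inv, hv, add_neg_cancel]
  obtain ⟨b, hb⟩ := hsurj ⟨θ a, h3⟩
  have h4 : θ b = θ a := congrArg Subtype.val hb
  rw [← hinj h4]
  exact b.2

section Hall

open Cfsg.Agent.Lib.H48TriA Cfsg.Agent.Lib.HallPi

variable {K : Type u} [Group K]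

theorem EE.conj {q : ℕ} {E : Subgroup K} (h : EE q E) (g : K) : EE q (E.map (MulAut.conj g).toMonoidHom) := by
  refine ⟨h.pr, ?_, ?_, ?_⟩
  · rintro _ ⟨a, ha, rfl⟩ _ ⟨b, hb, rfl⟩
    rw [← map_mul, ← map_mul, h.ab a ha b hb]
  · rintro _ ⟨a, ha, rfl⟩
    rw [← map_pow, h.ex a ha, map_one]
  · rintro _ ⟨a, ha, rfl⟩
    obtain ⟨y, hy, hya⟩ := h.nc a ha
    refine ⟨_, ⟨y, hy, rfl⟩, fun hc => hya ?_⟩
    rw [← MonoidHom.map_zpowers] at hc
    obtain ⟨y', hy', he⟩ := hc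
    rwa [(MulAut.conj g).injective he] at hy'

theorem EE.isPGroup {q : ℕ} {E : Subgroup K} (h : EE q E) : IsPGroup q E :=
  fun a => ⟨1, by rw [pow_one]; exact Subtype.ext (h.ex a a.2)⟩

theorem EE.piNum [Finite K] {q : ℕ} {E : Subgroup K} (h : EE q E) {π : Set ℕ} (hq : q ∈ π) :
    PiNum π (Nat.card E) := by
  have := Fact.mk h.pr
  obtain ⟨n, hn⟩ := (EE.isPGroup h).exists_card_eq
  rw [hn]
  exact piNum_prime_pow h.pr hq

/-- a Hall subgroup with everything one needs -/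
theorem hall_pack (K : Type u) [Group K] [Finite K] [Group.IsSolvable K] (π : Set ℕ) :
    ∃ L : Subgroup K, PiNum π (Nat.card L) ∧
      (∀ N : Subgroup K, N.Normal → PiNum π (Nat.card N) → N ≤ L) ∧
      (∀ q ∈ π, ∀ E : Subgroup K, EE q E → ∃ E' ≤ L, EE q E') ∧
      (∀ y z : K, (orderOf y).Prime → (orderOf z).Prime → orderOf y ∈ π → orderOf z ∈ π → Commute y z →
        ∃ y' ∈ L, ∃ z' ∈ L, orderOf y' = orderOf y ∧ orderOf z' = orderOf z ∧ Commute y' z') := by
  obtain ⟨L, hL⟩ := HallPi.exists_isPiHall (G := K) π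
  have hconj : ∀ C : Subgroup K, PiNum π (Nat.card C) → ∃ g : K, ∀ c ∈ C, g * c * g⁻¹ ∈ L := by
    intro C hC
    obtain ⟨g, hg⟩ := HallPi.exists_conj_le L C hL hC
    refine ⟨g⁻¹, fun c hc => ?_⟩
    obtain ⟨l, hl, hl'⟩ := hg hc
    have h1 : g * l * g⁻¹ = c := hl'
    rw [← h1]
    have h2 : g⁻¹ * (g * l * g⁻¹) * g⁻¹⁻¹ = l := by group
    rw [h2]; exact hl
  refine ⟨L, hL.1, fun N hN hNc => HallPi.le_of_normal_piNum hNc hL, ?_, ?_⟩
  · intro q hq E hE
    obtain ⟨g, hg⟩ := hconj E (EE.piNum hE hq)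
    refine ⟨E.map (MulAut.conj g).toMonoidHom, ?_, EE.conj hE g⟩
    rintro _ ⟨a, ha, rfl⟩
    exact hg a ha
  · intro y z hy hz hyπ hzπ hc
    obtain ⟨g, hg⟩ := hconj (zpowers y ⊔ zpowers z) (by
      have h2 := SubgroupTools.card_sup_mul_card_inf (N := zpowers y) (H := zpowers z)
        (zpowers_le.2 (H48TriB.norm_zp hc))
      have h3 : Nat.card (zpowers y ⊔ zpowers z : Subgroup K) ∣ orderOf z * orderOf y := by
        rw [← Nat.card_zpowers z, ← Nat.card_zpowers y, mul_comm (Nat.card (zpowers z))]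
        exact ⟨_, h2.symm⟩
      intro s hs hsd
      rcases (hs.dvd_mul).1 (hsd.trans h3) with h2 | h2
      · rw [(Nat.prime_dvd_prime_iff_eq hs hz).1 h2]; exact hzπ
      · rw [(Nat.prime_dvd_prime_iff_eq hs hy).1 h2]; exact hyπ)
    refine ⟨g * y * g⁻¹, hg y ((le_sup_left : zpowers y ≤ _) (mem_zpowers y)), g * z * g⁻¹,
      hg z ((le_sup_right : zpowers z ≤ _) (mem_zpowers z)), ?_, ?_, ?_⟩
    · exact orderOf_injective (MulAut.conj g).toMonoidHom (MulAut.conj g).injective y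
    · exact orderOf_injective (MulAut.conj g).toMonoidHom (MulAut.conj g).injective z
    · exact hc.map (MulAut.conj g).toMonoidHom

end Hall

end Cfsg.Agent.Lib.H48TriE
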