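import Cfsg.Agent.Lib.H48TriD

/-!
Piece P1 of S3814 (helper42): two coprime modules, no normal noncyclic elementary abelian subgroup.
-/

set_option autoImplicit false
set_option linter.all false

namespace Cfsg.Agent.Lib.H48TriP1

open Subgroup Module Cfsg.Agent.Lib.RepFix Cfsg.Agent.Lib.ModRep Cfsg.Agent.Lib.H48TriA Cfsg.Agent.Lib.H48TriB
open Cfsg.Agent.Lib.H48TriD
open Cfsg.Agent.Lib.CoprimeAction Cfsg.Agent.Lib.CoprimeAction2
open scoped commutatorElement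

universe u v w v₁ v₂ w₁ w₂

variable {L : Type u} [Group L] [Finite L] {F1 : Type w₁} {V1 : Type v₁} [Field F1] [AddCommGroup V1]
    [Module F1 V1] [FiniteDimensional F1 V1] {F2 : Type w₂} {V2 : Type v₂} [Field F2] [AddCommGroup V2]
    [Module F2 V2] [FiniteDimensional F2 V2] {ρ1 : Representation F1 L V1} {ρ2 : Representation F2 L V2}

/-- `z` of order `r` with a fixed vector on `V1`: it does not centralize `X`, and `⁅X, z⁆` is trivial on `V2`. -/
theorem step (h : C1 ρ1 ρ2) {q r : ℕ} (hqr : q ≠ r) (hr : r.Prime) {X : Subgroup L} (hX : EE q X)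
    (hXn : X.Normal) {z : L} (hz : orderOf z = r) {w : V1} (hw : w ≠ 0) (hzw : ρ1 z w = w) :
    (∃ y ∈ ⁅X, zpowers z⁆, y ≠ 1) ∧ (∀ v, ρ2 z v = v → v = 0) ∧
      ∀ k ∈ ⁅X, zpowers z⁆, ∀ v, ρ2 k v = v := by
  have hzX : z ∈ normalizer (X : Set L) := by
    rw [normalizer_eq_top]; exact mem_top z
  have hXe : EA q X := ⟨hX.ab, hX.ex⟩
  have hzp : (orderOf z).Prime := by rw [hz]; exact hr
  have hfree : ∀ v, ρ2 z v = v → v = 0 := fun v hv => (h.I1 z hzp w v hzw hv).resolve_left hw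
  refine ⟨?_, hfree, ?_⟩
  · by_contra hcon
    push Not at hcon
    have hc : ∀ x ∈ X, Commute z x := by
      intro x hx
      have h1 : ⁅x, z⁆ = 1 := hcon _ (commutator_mem_commutator hx (mem_zpowers z))
      exact (commutatorElement_eq_one_iff_commute.1 h1).symm
    have hW : fx ρ1 z ≠ ⊥ := by
      intro h1
      have : w ∈ fx ρ1 z := mem_fx.2 hzw
      rw [h1, Submodule.mem_bot] at this
      exact hw this
    obtain ⟨e, he, he1, v, hv, hv0, hev⟩ := hX.fixV ρ1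
      (by
        have h1 : (q : ℕ) ∣ Nat.card L := by
          obtain ⟨y, hy, hy1⟩ := hX.nc 1 (one_mem _)
          rw [zpowers_one_eq_bot, mem_bot] at hy1
          rw [← hX.order hy hy1]
          exact orderOf_dvd_natCard y
        exact BG03a.cast_ne_zero_of_dvd h1 h.hF1)
      (fx ρ1 z) hW (fun k hk v hv => fx_inv (hc k hk).symm hv)
    have hoe : orderOf e = q := hX.order he he1
    exact hv0 (h.I21 e z (by rw [hoe]; exact hX.pr) hzp (by rw [hoe, hz]; exact hqr) (hc e he).symm v hev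
      (mem_fx.1 hv))
  · have h1 := frob1 ρ2 (K := ⁅X, zpowers z⁆) (z := z) hzp (norm_comm hzX (Commute.refl z))
      (fun k hk hzk => free_comm hX.pr hr hqr hXe hz hzX hk hzk)
      (BG03a.cast_ne_zero_of_dvd (card_subgroup_dvd_card _) h.hF2) ⊤
      (fun _ _ _ _ => Submodule.mem_top) (fun _ _ => Submodule.mem_top) (fun v _ hv => hfree v hv)
    exact fun k hk v => h1 k hk v Submodule.mem_top

theorem C1.I4 (h : C1 ρ1 ρ2) {q r : ℕ} (hqr : q ≠ r) {E X : Subgroup L} (hE : EE r E) (hX : EE q X)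
    (hXn : X.Normal) : False := by
  have hr := hE.pr
  have hq := hX.pr
  have hnX : ∀ z : L, z ∈ normalizer (X : Set L) := by
    intro z; rw [normalizer_eq_top]; exact mem_top z
  have hXe : EA q X := ⟨hX.ab, hX.ex⟩
  have hrL : r ∣ Nat.card L := by
    obtain ⟨y, hy, hy1⟩ := hE.nc 1 (one_mem _)
    rw [zpowers_one_eq_bot, mem_bot] at hy1
    rw [← hE.order hy hy1]
    exact orderOf_dvd_natCard y
  obtain ⟨u1, hu1⟩ := h.nt1
  obtain ⟨u2, hu2⟩ := h.nt2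
  obtain ⟨z1, hz1, hz11, w1, -, hw1, hzw1⟩ := hE.fixV ρ1 (BG03a.cast_ne_zero_of_dvd hrL h.hF1) ⊤
    (fun h1 => hu1 ((Submodule.mem_bot F1).1 (h1 ▸ Submodule.mem_top)))
    (fun _ _ _ _ => Submodule.mem_top)
  obtain ⟨z2, hz2, hz21, w2, -, hw2, hzw2⟩ := hE.fixV ρ2 (BG03a.cast_ne_zero_of_dvd hrL h.hF2) ⊤
    (fun h1 => hu2 ((Submodule.mem_bot F2).1 (h1 ▸ Submodule.mem_top)))
    (fun _ _ _ _ => Submodule.mem_top)
  have ho1 := hE.order hz1 hz11
  have ho2 := hE.order hz2 hz21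
  have hc12 : Commute z1 z2 := hE.ab z1 hz1 z2 hz2
  obtain ⟨⟨y1, hy1, hy11⟩, hf1, ht1⟩ := step h hqr hr hX hXn ho1 hw1 hzw1
  obtain ⟨⟨y2, hy2, hy21⟩, hf2, ht2⟩ := step h.symm hqr hr hX hXn ho2 hw2 hzw2
  have hK1X : ⁅X, zpowers z1⁆ ≤ X := comm_le (hnX z1)
  have hK2X : ⁅X, zpowers z2⁆ ≤ X := comm_le (hnX z2)
  have hint : ∀ y ∈ X, y ∈ ⁅X, zpowers z1⁆ → y ∈ ⁅X, zpowers z2⁆ → y = 1 := by
    intro y hyX hya hyb
    by_contra hy
    have hoy : orderOf y = q := hX.order hyX hy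
    exact (h.I1 y (by rw [hoy]; exact hq) u1 u2 (ht2 y hyb u1) (ht1 y hya u2)).elim hu1 hu2
  have hcomm1 : ∀ y ∈ ⁅X, zpowers z1⁆, Commute z2 y := by
    intro y hy
    have h1 : ⁅y, z2⁆ ∈ ⁅X, zpowers z2⁆ := commutator_mem_commutator (hK1X hy) (mem_zpowers z2)
    have h2 : z2 ∈ normalizer ((⁅X, zpowers z1⁆ : Subgroup L) : Set L) := norm_comm (hnX z2) hc12
    have h3 : ⁅y, z2⁆ ∈ ⁅X, zpowers z1⁆ := by
      rw [commutatorElement_def, mul_assoc, mul_assoc, ← mul_assoc z2]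
      exact mul_mem hy ((mem_normalizer_iff.1 h2 _).1 (inv_mem hy))
    exact (commutatorElement_eq_one_iff_commute.1 (hint _ (hK1X h3) h3 h1)).symm
  have hcomm2 : ∀ y ∈ ⁅X, zpowers z2⁆, Commute z1 y := by
    intro y hy
    have h1 : ⁅y, z1⁆ ∈ ⁅X, zpowers z1⁆ := commutator_mem_commutator (hK2X hy) (mem_zpowers z1)
    have h2 : z1 ∈ normalizer ((⁅X, zpowers z2⁆ : Subgroup L) : Set L) := norm_comm (hnX z1) hc12.symm
    have h3 : ⁅y, z1⁆ ∈ ⁅X, zpowers z2⁆ := by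
      rw [commutatorElement_def, mul_assoc, mul_assoc, ← mul_assoc z1]
      exact mul_mem hy ((mem_normalizer_iff.1 h2 _).1 (inv_mem hy))
    exact (commutatorElement_eq_one_iff_commute.1 (hint _ (hK2X h3) h1 h3)).symm
  have hz3E : z1 * z2 ∈ E := mul_mem hz1 hz2
  have hz31 : z1 * z2 ≠ 1 := by
    intro h1
    have h2 : z1 = z2⁻¹ := eq_inv_of_mul_eq_one_left h1
    apply hw2
    apply hf1
    have h3 : w2 ∈ fx ρ2 z2 := mem_fx.2 hzw2
    rw [h2]
    exact h3 _ (inv_mem (mem_zpowers z2))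
  have ho3 := hE.order hz3E hz31
  have hp3 : (orderOf (z1 * z2)).Prime := by rw [ho3]; exact hr
  have hn1 : z1 * z2 ∈ normalizer ((⁅X, zpowers z1⁆ : Subgroup L) : Set L) :=
    mul_mem (norm_comm (hnX z1) (Commute.refl z1)) (norm_comm (hnX z2) hc12)
  have hn2 : z1 * z2 ∈ normalizer ((⁅X, zpowers z2⁆ : Subgroup L) : Set L) :=
    mul_mem (norm_comm (hnX z1) hc12.symm) (norm_comm (hnX z2) (Commute.refl z2))
  have hfr1 : ∀ k ∈ ⁅X, zpowers z1⁆, Commute (z1 * z2) k → k = 1 := by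
    intro k hk hck
    refine free_comm hq hr hqr hXe ho1 (hnX z1) hk ?_
    have h1 := hck.mul_left (hcomm1 k hk).inv_left
    rwa [mul_inv_cancel_right] at h1
  have hfr2 : ∀ k ∈ ⁅X, zpowers z2⁆, Commute (z1 * z2) k → k = 1 := by
    intro k hk hck
    refine free_comm hq hr hqr hXe ho2 (hnX z2) hk ?_
    have h1 := (hcomm2 k hk).inv_left.mul_left hck
    rwa [inv_mul_cancel_left] at h1
  by_cases hcase : ∀ v, ρ1 (z1 * z2) v = v → v = 0
  · have h1 := frob1 ρ1 hp3 hn1 hfr1 (BG03a.cast_ne_zero_of_dvd (card_subgroup_dvd_card _) h.hF1) ⊤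
      (fun _ _ _ _ => Submodule.mem_top) (fun _ _ => Submodule.mem_top) (fun v _ hv => hcase v hv)
    have hoy : orderOf y1 = q := hX.order (hK1X hy1) hy11
    exact (h.I1 y1 (by rw [hoy]; exact hq) u1 u2 (h1 y1 hy1 u1 Submodule.mem_top) (ht1 y1 hy1 u2)).elim
      hu1 hu2
  · push Not at hcase
    obtain ⟨v, hv, hv0⟩ := hcase
    have hcase2 : ∀ v', ρ2 (z1 * z2) v' = v' → v' = 0 := fun v' hv' =>
      (h.I1 _ hp3 v v' hv hv').resolve_left hv0
    have h1 := frob1 ρ2 hp3 hn2 hfr2 (BG03a.cast_ne_zero_of_dvd (card_subgroup_dvd_card _) h.hF2) ⊤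
      (fun _ _ _ _ => Submodule.mem_top) (fun _ _ => Submodule.mem_top) (fun v _ hv => hcase2 v hv)
    have hoy : orderOf y2 = q := hX.order (hK2X hy2) hy21
    exact (h.I1 y2 (by rw [hoy]; exact hq) u1 u2 (ht2 y2 hy2 u1) (h1 y2 hy2 u2 Submodule.mem_top)).elim
      hu1 hu2

end Cfsg.Agent.Lib.H48TriP1
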