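import Cfsg.Agent.Lib.H48TriD

/-!
Piece P2a of S3814 (helper42).
-/

set_option autoImplicit false
set_option linter.all false

namespace Cfsg.Agent.Lib.H48TriP2a

open Subgroup Module Cfsg.Agent.Lib.RepFix Cfsg.Agent.Lib.ModRep Cfsg.Agent.Lib.H48TriA Cfsg.Agent.Lib.H48TriB
open Cfsg.Agent.Lib.H48TriD
open Cfsg.Agent.Lib.CoprimeAction Cfsg.Agent.Lib.CoprimeAction2
open scoped commutatorElement

universe u v w v₁ v₂ w₁ w₂

variable {L : Type u} [Group L] [Finite L] {F1 : Type w₁} {V1 : Type v₁} [Field F1] [AddCommGroup V1]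
    [Module F1 V1] [FiniteDimensional F1 V1] {F2 : Type w₂} {V2 : Type v₂} [Field F2] [AddCommGroup V2]
    [Module F2 V2] [FiniteDimensional F2 V2] {ρ1 : Representation F1 L V1} {ρ2 : Representation F2 L V2}

omit [Finite L] in
theorem pow_triv {F : Type w} {V : Type v} [Field F] [AddCommGroup V] [Module F V] {ρ : Representation F L V}
    {g : L} (hg : ρ g = 1) (n : ℕ) : ρ (g ^ n) = 1 := by
  rw [map_pow, hg, one_pow]

theorem C1.faith (h : C1 ρ1 ρ2) {g : L} (h1 : ρ1 g = 1) (h2 : ρ2 g = 1) : g = 1 := by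
  by_contra hg
  obtain ⟨u1, hu1⟩ := h.nt1
  obtain ⟨u2, hu2⟩ := h.nt2
  have ho : orderOf g ≠ 1 := fun h' => hg (orderOf_eq_one_iff.1 h')
  obtain ⟨p, hp, hpd⟩ := Nat.exists_prime_and_dvd ho
  obtain ⟨k, hk⟩ := hpd
  have hk0 : k ≠ 0 := by
    rintro rfl
    rw [mul_zero] at hk
    exact (orderOf_pos g).ne' hk
  have hord : orderOf (g ^ k) = p := by
    rw [orderOf_pow' g hk0, hk, Nat.gcd_eq_right (Dvd.intro_left p rfl), Nat.mul_div_cancel _ (Nat.pos_of_ne_zero hk0)]
  have e1 : ρ1 (g ^ k) u1 = u1 := by rw [pow_triv h1]; rfl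
  have e2 : ρ2 (g ^ k) u2 = u2 := by rw [pow_triv h2]; rfl
  exact (h.I1 _ (by rw [hord]; exact hp) u1 u2 e1 e2).elim hu1 hu2

/-- a nontrivial normal `q`-subgroup contains a normal subgroup `⟨y⟩` of order `q` if there is no normal `EE q` -/
theorem exists_normal_zp {q : ℕ} (hq : q.Prime) (hI4 : ∀ X : Subgroup L, X.Normal → ¬ EE q X)
    {N : Subgroup L} (hN : N.Normal) (hNq : IsPGroup q N) (hN1 : N ≠ ⊥) :
    ∃ y ∈ N, orderOf y = q ∧ (zpowers y).Normal ∧ ∀ n ∈ N, Commute y n := by
  have := Fact.mk hq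
  let X : Subgroup L :=
    { carrier := {x | x ∈ N ∧ x ^ q = 1 ∧ ∀ n ∈ N, x * n = n * x}
      one_mem' := ⟨one_mem _, one_pow _, fun n _ => by rw [one_mul, mul_one]⟩
      mul_mem' := by
        rintro a b ⟨ha, ha', ha''⟩ ⟨hb, hb', hb''⟩
        refine ⟨mul_mem ha hb, ?_, fun n hn => ?_⟩
        · rw [(show Commute a b from ha'' b hb).mul_pow, ha', hb', one_mul]
        · rw [mul_assoc, hb'' n hn, ← mul_assoc, ha'' n hn, mul_assoc]
      inv_mem' := by
        rintro a ⟨ha, ha', ha''⟩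
        exact ⟨inv_mem ha, by rw [inv_pow, ha', inv_one],
          fun n hn => ((show Commute a n from ha'' n hn).inv_left).eq⟩ }
  have hmem : ∀ x, x ∈ X ↔ x ∈ N ∧ x ^ q = 1 ∧ ∀ n ∈ N, x * n = n * x := fun x => Iff.rfl
  have hXn : X.Normal := by
    constructor
    intro x hx g
    obtain ⟨h1, h2, h3⟩ := (hmem x).1 hx
    refine (hmem _).2 ⟨hN.conj_mem x h1 g, ?_, ?_⟩
    · rw [conj_pow, h2, mul_one, mul_inv_cancel]
    · intro n hn
      have h4 := h3 (g⁻¹ * n * g) (by
        have := hN.conj_mem n hn g⁻¹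
        rwa [inv_inv] at this)
      calc g * x * g⁻¹ * n = g * (x * (g⁻¹ * n * g)) * g⁻¹ := by group
        _ = g * (g⁻¹ * n * g * x) * g⁻¹ := by rw [h4]
        _ = n * (g * x * g⁻¹) := by group
  -- nontrivial
  have hnt : Nontrivial N := (nontrivial_iff_ne_bot N).2 hN1
  have hcn : Nontrivial (center N) := hNq.center_nontrivial
  have hdvd : q ∣ Nat.card (center N) := by
    obtain ⟨n, hn, hcard⟩ := (hNq.to_subgroup (center N)).nontrivial_iff_card.1 hcn
    rw [hcard]
    exact dvd_pow_self q hn.ne'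
  obtain ⟨c, hc⟩ := exists_prime_orderOf_dvd_card' (G := center N) q hdvd
  have hcord : orderOf ((c : N) : L) = q := by rw [orderOf_coe, orderOf_coe, hc]
  have hcX : ((c : N) : L) ∈ X := by
    refine (hmem _).2 ⟨(c : N).2, by rw [← hcord, pow_orderOf_eq_one], fun n hn => ?_⟩
    have := mem_center_iff.1 c.2 ⟨n, hn⟩
    exact (congrArg Subtype.val this).symm
  -- not EE
  have hcyc : ∃ x ∈ X, ∀ y ∈ X, y ∈ zpowers x := by
    by_contra hcon
    push Not at hcon
    exact hI4 X hXn ⟨hq, fun a ha b hb => ((hmem a).1 ha).2.2 b ((hmem b).1 hb).1,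
      fun a ha => ((hmem a).1 ha).2.1, hcon⟩
  obtain ⟨x, hx, hall⟩ := hcyc
  have hXx : X = zpowers x := le_antisymm hall (zpowers_le.2 hx)
  obtain ⟨h1, h2, h3⟩ := (hmem x).1 hx
  refine ⟨x, h1, ?_, hXx ▸ hXn, h3⟩
  apply orderOf_eq_prime h2
  rintro rfl
  have := hall _ hcX
  rw [zpowers_one_eq_bot, mem_bot] at this
  rw [this, orderOf_one] at hcord
  exact hq.one_lt.ne hcord

/-- an involution acting freely is `-1` -/
theorem neg_one {F : Type w} {V : Type v} [Field F] [AddCommGroup V] [Module F V] {ρ : Representation F L V}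
    {x : L} (hx : x * x = 1) (hf : ∀ v, ρ x v = v → v = 0) (v : V) : ρ x v = -v := by
  have h1 : ρ x (v + ρ x v) = v + ρ x v := by
    rw [map_add, ← Module.End.mul_apply, ← map_mul, hx, map_one, Module.End.one_apply, add_comm]
  have h2 := hf _ h1
  exact (neg_eq_of_add_eq_zero_right h2).symm

theorem C1.I5 (h : C1 ρ1 ρ2) {r : ℕ} (hr2 : r ≠ 2) {E D : Subgroup L} (hE : EE r E) (hD : EE 2 D)
    (hI4 : ∀ X : Subgroup L, X.Normal → ¬ EE 2 X) {N : Subgroup L} (hN : N.Normal) (hN2 : IsPGroup 2 N) :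
    N = ⊥ := by
  by_contra hN1
  obtain ⟨x, hxN, hxo, hxn, -⟩ := exists_normal_zp Nat.prime_two hI4 hN hN2 hN1
  have hxp : (orderOf x).Prime := by rw [hxo]; exact Nat.prime_two
  have hx1 : x ≠ 1 := by rintro rfl; rw [orderOf_one] at hxo; omega
  have hxx : x * x = 1 := by rw [← sq, ← hxo, pow_orderOf_eq_one]
  have hzp : ∀ y, y ∈ zpowers x ↔ y = 1 ∨ y = x := by
    intro y
    constructor
    · intro hy
      by_cases hy1 : y = 1
      · exact Or.inl hy1
      · right
        have h1 : y * y = 1 := by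
          obtain ⟨i, rfl⟩ := mem_zpowers_iff.1 hy
          rw [← (Commute.refl x).mul_zpow, hxx, one_zpow]
        obtain ⟨i, hi⟩ := mem_zpowers_iff.1 hy
        rcases Int.even_or_odd' i with ⟨k, hk | hk⟩
        · exfalso; apply hy1
          rw [← hi, hk, two_mul, zpow_add, ← (Commute.refl x).mul_zpow, hxx, one_zpow]
        · rw [← hi, hk, two_mul, zpow_add, zpow_add, ← (Commute.refl x).mul_zpow, hxx, one_zpow, one_mul, zpow_one]
    · rintro (rfl | rfl)
      · exact one_mem _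
      · exact mem_zpowers _
  have hcen : ∀ g : L, Commute g x := by
    intro g
    have h1 := hxn.conj_mem x (mem_zpowers x) g
    rcases (hzp _).1 h1 with h2 | h2
    · exfalso; apply hx1
      have : x = g⁻¹ * (g * x * g⁻¹) * g := by group
      rw [this, h2]; group
    · exact mul_inv_eq_iff_eq_mul.1 h2
  have hrL : r ∣ Nat.card L := by
    obtain ⟨y, hy, hy1⟩ := hE.nc 1 (one_mem _)
    rw [zpowers_one_eq_bot, mem_bot] at hy1
    rw [← hE.order hy hy1]
    exact orderOf_dvd_natCard y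
  have hfx1 : ∀ v, ρ1 x v = v → v = 0 := by
    intro v hv
    by_contra hv0
    obtain ⟨e, he, he1, w, hw, hw0, hew⟩ := hE.fixV ρ1 (BG03a.cast_ne_zero_of_dvd hrL h.hF1) (fx ρ1 x)
      (fun h1 => hv0 ((Submodule.mem_bot F1).1 (h1 ▸ mem_fx.2 hv)))
      (fun k hk v hv => fx_inv (hcen k) hv)
    have hoe := hE.order he he1
    exact hw0 (h.I21 e x (by rw [hoe]; exact hE.pr) hxp (by rw [hoe, hxo]; exact hr2) (hcen e) w hew
      (mem_fx.1 hw))
  have hfx2 : ∀ v, ρ2 x v = v → v = 0 := by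
    intro v hv
    by_contra hv0
    obtain ⟨e, he, he1, w, hw, hw0, hew⟩ := hE.fixV ρ2 (BG03a.cast_ne_zero_of_dvd hrL h.hF2) (fx ρ2 x)
      (fun h1 => hv0 ((Submodule.mem_bot F2).1 (h1 ▸ mem_fx.2 hv)))
      (fun k hk v hv => fx_inv (hcen k) hv)
    have hoe := hE.order he he1
    exact hw0 (h.I22 e x (by rw [hoe]; exact hE.pr) hxp (by rw [hoe, hxo]; exact hr2) (hcen e) w hew
      (mem_fx.1 hw))
  have hneg1 := neg_one hxx hfx1
  have hneg2 := neg_one hxx hfx2
  -- another involution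
  obtain ⟨y, hyD, hyx⟩ : ∃ y ∈ D, y ∉ zpowers x := by
    obtain ⟨y, hy, hy1⟩ := hD.nc 1 (one_mem _)
    rw [zpowers_one_eq_bot, mem_bot] at hy1
    by_cases hyx : y ∈ zpowers x
    · have h1 : x ∈ D := by
        rcases (hzp y).1 hyx with h2 | h2
        · exact absurd h2 hy1
        · rwa [← h2]
      exact hD.nc x h1
    · exact ⟨y, hy, hyx⟩
  have hy1 : y ≠ 1 := fun h' => hyx ((hzp y).2 (Or.inl h'))
  have hyo : orderOf y = 2 := hD.order hyD hy1
  have hyp : (orderOf y).Prime := by rw [hyo]; exact Nat.prime_two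
  have hyy : y * y = 1 := by rw [← sq, ← hyo, pow_orderOf_eq_one]
  have hxy1 : x * y ≠ 1 := by
    intro h1
    apply hyx
    have : y = x⁻¹ := eq_inv_of_mul_eq_one_right h1
    rw [this]; exact inv_mem (mem_zpowers x)
  have hxyxy : (x * y) * (x * y) = 1 := by
    have h1 := (hcen y).eq
    calc (x * y) * (x * y) = x * (y * x) * y := by group
      _ = x * (x * y) * y := by rw [h1]
      _ = (x * x) * (y * y) := by group
      _ = 1 := by rw [hxx, hyy, one_mul]
  have hxyp : (orderOf (x * y)).Prime := by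
    have : orderOf (x * y) = 2 := orderOf_eq_prime (by rw [sq]; exact hxyxy) hxy1
    rw [this]; exact Nat.prime_two
  -- `y` is a scalar on both modules
  have hsc : (∀ v, ρ1 y v = v) ∧ (∀ v, ρ2 y v = -v) ∨ (∀ v, ρ1 y v = -v) ∧ (∀ v, ρ2 y v = v) := by
    obtain ⟨u1, hu1⟩ := h.nt1
    obtain ⟨u2, hu2⟩ := h.nt2
    by_cases hcase : ∀ v, ρ1 y v = v → v = 0
    · right
      have h1 := neg_one hyy hcase
      have h2 : ρ1 (x * y) u1 = u1 := by
        rw [map_mul, Module.End.mul_apply, h1, map_neg, hneg1, neg_neg]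
      have h3 : ∀ v, ρ2 (x * y) v = v → v = 0 := fun v hv => (h.I1 _ hxyp u1 v h2 hv).resolve_left hu1
      have h4 := neg_one hxyxy h3
      refine ⟨h1, fun v => ?_⟩
      have h5 := h4 v
      rw [map_mul, Module.End.mul_apply, hneg2] at h5
      exact neg_injective h5
    · left
      push Not at hcase
      obtain ⟨v, hv, hv0⟩ := hcase
      have h1 : ∀ v', ρ2 y v' = v' → v' = 0 := fun v' hv' => (h.I1 y hyp v v' hv hv').resolve_left hv0
      have h2 := neg_one hyy h1
      have h3 : ρ2 (x * y) u2 = u2 := by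
        rw [map_mul, Module.End.mul_apply, h2, map_neg, hneg2, neg_neg]
      have h4 : ∀ v, ρ1 (x * y) v = v → v = 0 := fun v hv => (h.I1 _ hxyp v u2 hv h3).resolve_right hu2
      have h5 := neg_one hxyxy h4
      refine ⟨fun v => ?_, h2⟩
      have h6 := h5 v
      rw [map_mul, Module.End.mul_apply, hneg1] at h6
      exact neg_injective h6
  have hyc : ∀ g : L, Commute g y := by
    intro g
    have h1 : ⁅g, y⁆ = 1 := by
      apply C1.faith h
      · ext v
        rw [commutatorElement_def, Module.End.one_apply]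
        have hyi : y⁻¹ = y := inv_eq_of_mul_eq_one_left hyy
        rw [hyi, map_mul, map_mul, map_mul, Module.End.mul_apply, Module.End.mul_apply, Module.End.mul_apply]
        rcases hsc with ⟨h1, -⟩ | ⟨h1, -⟩
        · rw [h1, h1, ← Module.End.mul_apply, ← map_mul, mul_inv_cancel, map_one, Module.End.one_apply]
        · rw [h1, h1, map_neg, map_neg, map_neg, neg_neg, ← Module.End.mul_apply, ← map_mul, mul_inv_cancel,
            map_one, Module.End.one_apply]
      · ext v
        rw [commutatorElement_def, Module.End.one_apply]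
        have hyi : y⁻¹ = y := inv_eq_of_mul_eq_one_left hyy
        rw [hyi, map_mul, map_mul, map_mul, Module.End.mul_apply, Module.End.mul_apply, Module.End.mul_apply]
        rcases hsc with ⟨-, h1⟩ | ⟨-, h1⟩
        · rw [h1, h1, map_neg, map_neg, map_neg, neg_neg, ← Module.End.mul_apply, ← map_mul, mul_inv_cancel,
            map_one, Module.End.one_apply]
        · rw [h1, h1, ← Module.End.mul_apply, ← map_mul, mul_inv_cancel, map_one, Module.End.one_apply]
    exact commutatorElement_eq_one_iff_commute.1 h1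
  refine hI4 (zpowers x ⊔ zpowers y) ?_ (EE.mk' Nat.prime_two hxo hyo (hcen y).symm hyx)
  have h1 : (zpowers y).Normal := by
    constructor
    intro a ha g
    have h2 : Commute g a := (commute_of_zpowers ha (hyc g).symm).symm
    rw [h2.eq, mul_inv_cancel_right]
    exact ha
  exact Subgroup.sup_normal _ _

end Cfsg.Agent.Lib.H48TriP2a
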