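import Cfsg.Agent.Lib.H48TriP2a
import Cfsg.Agent.Lib.Critical2

/-!
Piece P2b of S3814 (helper42).
-/

set_option autoImplicit false
set_option linter.all false

namespace Cfsg.Agent.Lib.H48TriP2b

open Subgroup Module Cfsg.Agent.Lib.RepFix Cfsg.Agent.Lib.ModRep Cfsg.Agent.Lib.H48TriA Cfsg.Agent.Lib.H48TriB
open Cfsg.Agent.Lib.H48TriD Cfsg.Agent.Lib.H48TriP2a
open Cfsg.Agent.Lib.CoprimeAction Cfsg.Agent.Lib.CoprimeAction2
open scoped commutatorElement

universe u v w v₁ v₂ w₁ w₂

/-- `q` odd: a `q'`-element centralizing all elements of order `q` of a `q`-group centralizes it. -/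
theorem cent_of_omega {L : Type u} [Group L] [Finite L] {q : ℕ} (hq : q.Prime) (hq2 : q ≠ 2) {K : Subgroup L}
    (hK : IsPGroup q K) {z : L} (hzK : z ∈ normalizer (K : Set L)) (hzq : (orderOf z).Coprime q)
    (h : ∀ k ∈ K, k ^ q = 1 → Commute z k) : ∀ k ∈ K, Commute z k := by
  have := Fact.mk hq
  obtain ⟨D, -, hD, -, hcrit⟩ := Critical2.exists_critical_omega (P := K) hq2 hK
  have h1 := hcrit (K.normalizerMonoidHom ⟨z, hzK⟩)
    (Nat.Coprime.coprime_dvd_left ((orderOf_map_dvd _ _).trans (by rw [Subgroup.orderOf_mk])) hzq)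
    (by
      intro x hx
      apply Subtype.ext
      have h2 : Commute z (x : L) := h x x.2 (by
        have := hD x hx
        exact congrArg Subtype.val this)
      have h3 : ((K.normalizerMonoidHom ⟨z, hzK⟩ x : K) : L) = z * (x : L) * z⁻¹ := rfl
      rw [h3, h2.eq, mul_inv_cancel_right])
  intro k hk
  have h2 := congrArg (fun f : MulAut K => ((f ⟨k, hk⟩ : K) : L)) h1
  have h3 : z * k * z⁻¹ = k := h2
  exact mul_inv_eq_iff_eq_mul.1 h3

variable {L : Type u} [Group L] [Finite L] {F1 : Type w₁} {V1 : Type v₁} [Field F1] [AddCommGroup V1]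
    [Module F1 V1] [FiniteDimensional F1 V1] {F2 : Type w₂} {V2 : Type v₂} [Field F2] [AddCommGroup V2]
    [Module F2 V2] [FiniteDimensional F2 V2] {ρ1 : Representation F1 L V1} {ρ2 : Representation F2 L V2}

theorem aux (h : C1 ρ1 ρ2) {q r : ℕ} (hq : q.Prime) (hr : r.Prime) (hq2 : q ≠ 2) (hqr : q ≠ r)
    (hI4 : ∀ X : Subgroup L, X.Normal → ¬ EE q X) {N : Subgroup L} (hN : N.Normal) (hNq : IsPGroup q N)
    {x z : L} (hx : orderOf x = q) (hxn : (zpowers x).Normal) (hz : orderOf z = r) (hc : Commute z x)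
    (hf : ∀ v, ρ1 z v = v → v = 0) :
    ∀ n ∈ N, Commute z n := by
  have := Fact.mk hq
  have hxq : (orderOf x).Prime := by rw [hx]; exact hq
  have hzr : (orderOf z).Prime := by rw [hz]; exact hr
  have hzN : ∀ K : Subgroup L, K.Normal → z ∈ normalizer (K : Set L) := by
    intro K hK; rw [normalizer_eq_top]; exact mem_top z
  have hcop : ∀ K : Subgroup L, IsPGroup q K → (Nat.card (zpowers z)).Coprime (Nat.card K) := by
    intro K hK
    obtain ⟨n, hn⟩ := hK.exists_card_eq
    rw [Nat.card_zpowers, hz, hn]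
    exact Nat.Coprime.pow_right _ ((Nat.coprime_primes hr hq).2 hqr.symm)
  have hfix : fix ρ1 (zpowers z) = ⊥ := by
    rw [eq_bot_iff]
    intro v hv
    exact (Submodule.mem_bot F1).2 (hf v (hv z (mem_zpowers z)))
  -- `⁅N, z⁆` is trivial on `V1`
  have hcomm : ∀ n ∈ N, ρ1 ⁅n, z⁆ = 1 := by
    intro n hn
    by_cases hr2 : r = 2
    · have hzz : z * z = 1 := by rw [← sq, ← hr2, ← hz, pow_orderOf_eq_one]
      have hneg := neg_one hzz hf
      ext v
      have hzi : z⁻¹ = z := inv_eq_of_mul_eq_one_left hzz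
      rw [commutatorElement_def, Module.End.one_apply, hzi, map_mul, map_mul, map_mul, Module.End.mul_apply,
        Module.End.mul_apply, Module.End.mul_apply, hneg, hneg, map_neg, map_neg, map_neg, neg_neg,
        ← Module.End.mul_apply, ← map_mul, mul_inv_cancel, map_one, Module.End.one_apply]
    · have hodd : Odd (Nat.card N) := by
        obtain ⟨n, hn⟩ := hNq.exists_card_eq
        rw [hn]
        exact (hq.odd_of_ne_two hq2).pow
      exact BG03a.commutator_trivial ρ1 N (zpowers z) (zpowers_le.2 (hzN N hN))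
        (by rw [Nat.card_zpowers]; exact hzr) (hcop N hNq) hodd
        (by rw [Nat.card_zpowers, hz]; exact hr.odd_of_ne_two hr2)
        (BG03a.cast_ne_zero_of_dvd (card_subgroup_dvd_card _) h.hF1)
        (BG03a.cast_ne_zero_of_dvd (card_subgroup_dvd_card _) h.hF1) hfix _
        (commutator_mem_commutator hn (mem_zpowers z))
  let K : Subgroup L :=
    { carrier := {n | n ∈ N ∧ ρ1 n = 1}
      one_mem' := ⟨one_mem _, map_one _⟩
      mul_mem' := by
        rintro a b ⟨ha, ha'⟩ ⟨hb, hb'⟩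
        exact ⟨mul_mem ha hb, by rw [map_mul, ha', hb', mul_one]⟩
      inv_mem' := by
        rintro a ⟨ha, ha'⟩
        refine ⟨inv_mem ha, ?_⟩
        have h1 : ρ1 a⁻¹ * ρ1 a = 1 := by rw [← map_mul, inv_mul_cancel, map_one]
        rwa [ha', mul_one] at h1 }
  have hmem : ∀ x, x ∈ K ↔ x ∈ N ∧ ρ1 x = 1 := fun x => Iff.rfl
  have hKN : K ≤ N := fun x hx => ((hmem x).1 hx).1
  have hKn : K.Normal := by
    constructor
    intro a ha g
    obtain ⟨h1, h2⟩ := (hmem a).1 ha
    refine (hmem _).2 ⟨hN.conj_mem a h1 g, ?_⟩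
    rw [map_mul, map_mul, h2, mul_one, ← map_mul, mul_inv_cancel, map_one]
  have hKq : IsPGroup q K := hNq.to_le hKN
  have hqL : q ∣ Nat.card L := by rw [← hx]; exact orderOf_dvd_natCard x
  have hcK : ∀ n ∈ N, ⁅n, z⁆ ∈ K := by
    intro n hn
    refine (hmem _).2 ⟨?_, hcomm n hn⟩
    rw [commutatorElement_def, mul_assoc, mul_assoc, ← mul_assoc z]
    exact mul_mem hn (hN.conj_mem _ (inv_mem hn) z)
  -- `z` centralizes `K`
  have hzK : ∀ k ∈ K, Commute z k := by
    by_cases hK1 : K = ⊥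
    · intro k hk
      rw [hK1, mem_bot] at hk
      rw [hk]; exact Commute.one_right z
    · obtain ⟨y, hyK, hyo, hyn, hyc⟩ := exists_normal_zp hq hI4 hKn hKq hK1
      have hyx : y ∈ zpowers x := by
        by_contra hyx
        have hxy : Commute x y := by
          have h1 : ⁅x, y⁆ ∈ zpowers x := by
            rw [commutatorElement_def, mul_assoc, mul_assoc, ← mul_assoc y]
            exact mul_mem (mem_zpowers x) (hxn.conj_mem _ (inv_mem (mem_zpowers x)) y)
          have h2 : ⁅x, y⁆ ∈ zpowers y := by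
            rw [commutatorElement_def]
            exact mul_mem (hyn.conj_mem _ (mem_zpowers y) x) (inv_mem (mem_zpowers y))
          by_contra hne
          have h3 : ⁅x, y⁆ ≠ 1 := fun h' => hne (commutatorElement_eq_one_iff_commute.1 h')
          have h4 := mem_zpowers_of_prime (by rw [hyo]; exact hq) h2 h3
          exact hyx ((zpowers_le.2 h1) h4)
        exact hI4 _ (Subgroup.sup_normal _ _) (EE.mk' hq hx hyo hxy hyx)
      have hzy : Commute z y := (commute_of_zpowers hyx hc.symm).symm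
      refine cent_of_omega hq hq2 hKq (hzN K hKn) (by rw [hz]; exact (Nat.coprime_primes hr hq).2 hqr.symm) ?_
      intro k hk hkq
      by_cases hky : k ∈ zpowers y
      · exact (commute_of_zpowers hky hzy.symm).symm
      · exfalso
        have hk1 : k ≠ 1 := by rintro rfl; exact hky (one_mem _)
        have hko : orderOf k = q := orderOf_eq_prime hkq hk1
        have hEE := EE.mk' hq hyo hko (hyc k hk) hky
        obtain ⟨u2, hu2⟩ := h.nt2
        obtain ⟨u1, hu1⟩ := h.nt1
        obtain ⟨e, he, he1, v, -, hv0, hev⟩ := hEE.fixV ρ2 (BG03a.cast_ne_zero_of_dvd hqL h.hF2) ⊤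
          (fun h1 => hu2 ((Submodule.mem_bot F2).1 (h1 ▸ Submodule.mem_top)))
          (fun _ _ _ _ => Submodule.mem_top)
        have heK : e ∈ K := (sup_le (zpowers_le.2 hyK) (zpowers_le.2 hk)) he
        have hoe := hEE.order he he1
        have h1 : ρ1 e u1 = u1 := by rw [((hmem e).1 heK).2]; rfl
        exact (h.I1 e (by rw [hoe]; exact hq) u1 v h1 hev).elim hu1 hv0
  have hcc : ⁅⁅N, zpowers z⁆, zpowers z⁆ = ⊥ := by
    have h1 : ⁅N, zpowers z⁆ ≤ K := by
      have hzNK : z ∈ normalizer (N : Set L) := hzN N hN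
      rw [commutator_le]
      intro n hn c hc
      obtain ⟨i, rfl⟩ := mem_zpowers_iff.1 hc
      -- modulo `K`, `z` commutes with `n`
      have h2 : ((n : L) : L ⧸ K) * (z : L ⧸ K) = (z : L ⧸ K) * (n : L ⧸ K) := by
        have h3 : (((⁅n, z⁆ : L)) : L ⧸ K) = 1 := (QuotientGroup.eq_one_iff _).2 (hcK n hn)
        rw [commutatorElement_def] at h3
        have h4 : (n : L ⧸ K) * (z : L ⧸ K) * (n : L ⧸ K)⁻¹ * (z : L ⧸ K)⁻¹ = 1 := h3
        rw [mul_inv_eq_one, mul_inv_eq_iff_eq_mul] at h4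
        exact h4
      have h5 : Commute (n : L ⧸ K) (z : L ⧸ K) := h2
      have h6 : Commute (n : L ⧸ K) ((z : L ⧸ K) ^ i) := h5.zpow_right i
      rw [← QuotientGroup.eq_one_iff]
      have h7 : ((⁅n, z ^ i⁆ : L) : L ⧸ K) = ⁅(n : L ⧸ K), (z : L ⧸ K) ^ i⁆ := rfl
      rw [h7]
      exact commutatorElement_eq_one_iff_commute.2 h6
    rw [commutator_eq_bot_iff_le_centralizer]
    intro a ha
    exact mem_centralizer_iff.2 fun k hk => commute_of_zpowers hk (hzK a (h1 ha))
  have hsolv : Group.IsSolvable (zpowers z) := Group.isSolvable_of_comm fun a b => by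
    have h1 : IsMulCommutative (zpowers z) := inferInstance
    exact (isMulCommutative_iff.mp h1) a b
  have hfin := commutator_eq_bot_of_commutator_commutator (zpowers_le.2 (hzN N hN)) (hcop N hNq)
    (Or.inl hsolv) hcc
  rw [commutator_eq_bot_iff_le_centralizer] at hfin
  intro n hn
  exact mem_centralizer_iff.1 (hfin hn) z (mem_zpowers z)

theorem C1.I6 (h : C1 ρ1 ρ2) {q r : ℕ} (hq : q.Prime) (hr : r.Prime) (hq2 : q ≠ 2) (hqr : q ≠ r)
    (hI4 : ∀ X : Subgroup L, X.Normal → ¬ EE q X) {N : Subgroup L} (hN : N.Normal) (hNq : IsPGroup q N)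
    {x z : L} (hx : orderOf x = q) (hxn : (zpowers x).Normal) (hz : orderOf z = r) (hc : Commute z x) :
    ∀ n ∈ N, Commute z n := by
  by_cases hcase : ∀ v, ρ1 z v = v → v = 0
  · exact aux h hq hr hq2 hqr hI4 hN hNq hx hxn hz hc hcase
  · push Not at hcase
    obtain ⟨v, hv, hv0⟩ := hcase
    exact aux h.symm hq hr hq2 hqr hI4 hN hNq hx hxn hz hc
      (fun v' hv' => (h.I1 z (by rw [hz]; exact hr) v v' hv hv').resolve_left hv0)

end Cfsg.Agent.Lib.H48TriP2b
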