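import Cfsg.Agent.Lib.H48TriC
import Cfsg.Agent.Lib.H48TriD
import Cfsg.Agent.Lib.PGroupRank

/-!
Piece P3 of S3814 (helper48's plan): two coprime modules, the contradiction (helper46)
-/

set_option autoImplicit false
set_option linter.all false

namespace Cfsg.Agent.Lib.H48TriP3

open Subgroup Module Cfsg.Agent.Lib.RepFix Cfsg.Agent.Lib.ModRep Cfsg.Agent.Lib.H48TriA Cfsg.Agent.Lib.H48TriB
open Cfsg.Agent.Lib.H48TriC Cfsg.Agent.Lib.H48TriD
open Cfsg.Agent.Lib.CoprimeAction Cfsg.Agent.Lib.CoprimeAction2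
open scoped commutatorElement

universe u v w v₁ v₂ w₁ w₂

section group

variable {L : Type u} [Group L] [Finite L]

/-- elements of order `p` centralize normal subgroups of order `p` -/
theorem comm_same {p : ℕ} (hp : p.Prime) {a z : L} (ha : orderOf a = p) (hz : orderOf z = p)
    (hn : (zpowers a).Normal) : Commute z a := by
  by_contra hc
  have h1 := dvd_sub_one (c := a) (z := z) (by rw [ha]; exact hp) (by rw [hz]; exact hp)
    (hn.conj_mem a (mem_zpowers a) z) hc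
  rw [ha, hz] at h1
  have h2 := hp.two_le
  have h3 := Nat.le_of_dvd (by omega) h1
  omega

theorem not_dvd_of_pgroup {p s : ℕ} (hp : p.Prime) (hs : s.Prime) (hps : p ≠ s) {N : Subgroup L}
    (hN : IsPGroup p N) {g : L} (hg : g ∈ N) : orderOf g ≠ s := by
  intro h
  obtain ⟨k, hk⟩ := hN ⟨g, hg⟩
  have h1 : g ^ p ^ k = 1 := by simpa using congrArg Subtype.val hk
  have h2 : s ∣ p ^ k := by rw [← h]; exact orderOf_dvd_of_pow_eq_one h1
  exact hps ((Nat.prime_dvd_prime_iff_eq hs hp).1 (hs.dvd_of_dvd_pow h2)).symm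

/-- a normal subgroup of order `q` -/
theorem exists_x [Group.IsSolvable L] {q : ℕ} (hq : q.Prime) (hI4 : ∀ X : Subgroup L, X.Normal → ¬ EE q X)
    {N : Subgroup L} (hN : N.Normal) (hN1 : N ≠ ⊥) (hNq : IsPGroup q N) :
    ∃ x ∈ N, orderOf x = q ∧ (zpowers x).Normal := by
  have hst : Group.IsSolvable (⊤ : Subgroup L) := inferInstance
  obtain ⟨B, hBN, hB1, hBn, ⟨s, hs, -, hBs⟩, -⟩ := exists_minEA (L := (⊤ : Subgroup L)) (K := N) le_top hN1
    (by rw [normalizer_eq_top_iff.2 hN])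
  have hBn' : B.Normal := normalizer_eq_top_iff.1 (top_le_iff.1 hBn)
  obtain ⟨b, hb, hb1⟩ := exists_ne_one hB1
  have hsq : s = q := by
    by_contra hne
    exact not_dvd_of_pgroup hq hs (Ne.symm hne) hNq (hBN hb) (hBs.order hs hb hb1)
  subst hsq
  obtain ⟨a, ha, hall⟩ := EA.cyc hs hBs (hI4 B hBn')
  have ha1 : a ≠ 1 := by
    rintro rfl
    have := hall b hb
    rw [zpowers_one_eq_bot, mem_bot] at this
    exact hb1 this
  have hBa : B = zpowers a := le_antisymm hall (by rwa [zpowers_le])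
  exact ⟨a, hBN ha, hBs.order hs ha ha1, hBa ▸ hBn'⟩

/-- cyclic -/
theorem cyc_of {r : ℕ} (hr : r.Prime) (hr2 : r ≠ 2) {R0 : Subgroup L} (hR : IsPGroup r R0) {x : L} (hxR : x ∈ R0)
    (hx : orderOf x = r) (hxn : (zpowers x).Normal) (hno : ∀ B : Subgroup L, B ≤ R0 → ¬ EE r B) : IsCyclic R0 := by
  have : Fact r.Prime := ⟨hr⟩
  apply PGroupRank.isCyclic_of_unique hr2 (Nat.card R0) R0 rfl hR (zpowers (⟨x, hxR⟩ : R0))
    (by rw [Nat.card_zpowers, orderOf_mk, hx])
  intro y hy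
  by_cases hy1 : y = 1
  · rw [hy1]; exact one_mem _
  by_contra hny
  have hyo : orderOf (y : L) = r := by
    rw [orderOf_coe]
    exact orderOf_eq_prime hy hy1
  refine hno (zpowers x ⊔ zpowers (y : L)) (sup_le (by rwa [zpowers_le]) (by rw [zpowers_le]; exact y.2))
    (EE.mk' hr hx hyo (comm_same hr hx hyo hxn).symm ?_)
  intro hmem
  apply hny
  obtain ⟨k, hk⟩ := mem_zpowers_iff.1 hmem
  exact mem_zpowers_iff.2 ⟨k, Subtype.ext (by simpa using hk)⟩

/-- commutators centralize cyclic normal subgroups -/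
theorem comm_cyc {N : Subgroup L} (hN : N.Normal) (hc : IsCyclic N) (g h : L) {n : L} (hn : n ∈ N) :
    Commute (g * h * g⁻¹ * h⁻¹) n := by
  obtain ⟨⟨c, hcN⟩, hgen⟩ := hc.exists_generator
  have hz : ∀ m ∈ N, ∃ k : ℤ, c ^ k = m := by
    intro m hm
    obtain ⟨k, hk⟩ := mem_zpowers_iff.1 (hgen ⟨m, hm⟩)
    exact ⟨k, by simpa using congrArg Subtype.val hk⟩
  have hpow : ∀ g : L, ∃ a : ℤ, ∀ m ∈ N, g * m * g⁻¹ = m ^ a := by
    intro g
    obtain ⟨a, ha⟩ := hz _ (hN.conj_mem c hcN g)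
    refine ⟨a, fun m hm => ?_⟩
    obtain ⟨k, rfl⟩ := hz m hm
    rw [← conj_zpow, ← ha, ← zpow_mul, ← zpow_mul, mul_comm]
  obtain ⟨a, ha⟩ := hpow g
  obtain ⟨b, hb⟩ := hpow h
  have e1 : ∀ m ∈ N, g * h * m * (g * h)⁻¹ = h * g * m * (h * g)⁻¹ := by
    intro m hm
    have h1 : g * h * m * (g * h)⁻¹ = g * (h * m * h⁻¹) * g⁻¹ := by group
    have h2 : h * g * m * (h * g)⁻¹ = h * (g * m * g⁻¹) * h⁻¹ := by group
    rw [h1, h2, hb m hm, ha m hm, ha _ (N.zpow_mem hm b), hb _ (N.zpow_mem hm a), ← zpow_mul, ← zpow_mul, mul_comm]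
  have e2 : g * h * g⁻¹ * h⁻¹ = g * h * (h * g)⁻¹ := by group
  rw [e2]
  have h3 := e1 ((h * g)⁻¹ * n * (h * g)) (by
    have := hN.conj_mem n hn (h * g)⁻¹
    rwa [inv_inv] at this)
  have h4 : h * g * ((h * g)⁻¹ * n * (h * g)) * (h * g)⁻¹ = n := by group
  rw [h4] at h3
  show g * h * (h * g)⁻¹ * n = n * (g * h * (h * g)⁻¹)
  have h5 : g * h * ((h * g)⁻¹ * n * (h * g)) * (g * h)⁻¹ * (g * h * (h * g)⁻¹) = g * h * (h * g)⁻¹ * n := by group
  rw [← h5, h3]

/-- the last step -/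
theorem last_dvd {q r : ℕ} (hq : q.Prime) (hr : r.Prime) (hqr : q ≠ r) {Q0 R0 : Subgroup L} (hQn : Q0.Normal)
    (hRn : R0.Normal) (hQ : IsPGroup q Q0) (hR : IsPGroup r R0)
    (hcomm : ∀ g h : L, g * h * g⁻¹ * h⁻¹ ∈ Q0 ⊔ R0) (hQab : ∀ a ∈ Q0, ∀ b ∈ Q0, Commute a b)
    (hQR : ∀ a ∈ Q0, ∀ b ∈ R0, Commute a b)
    (hmax : ∀ N : Subgroup L, N.Normal → IsPGroup r N → N ≤ R0) (hno : ∀ B : Subgroup L, B ≤ R0 → ¬ EE r B)
    {x x' : L} (hx : orderOf x = q) (hxn : (zpowers x).Normal)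
    (hI6 : ∀ z : L, orderOf z = r → Commute z x → ∀ n ∈ Q0, Commute z n)
    (hx'R : x' ∈ R0) (hx' : orderOf x' = r) (hx'n : (zpowers x').Normal) {E : Subgroup L} (hE : EE r E) :
    r ∣ q - 1 := by
  have hfr : Fact r.Prime := ⟨hr⟩
  obtain ⟨z, hzE, hzx⟩ : ∃ z ∈ E, z ∉ zpowers x' := by
    by_contra hcon
    push Not at hcon
    obtain ⟨e, heE, he⟩ := hE.nc 1 (one_mem _)
    have he1 : e ≠ 1 := by rintro rfl; exact he (one_mem _)
    obtain ⟨y, hyE, hy⟩ := hE.nc e heE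
    apply hy
    have h1 := mem_zpowers_of_prime (z := x') (by rw [hx']; exact hr) (hcon e heE) he1
    exact (zpowers_le.2 h1) (hcon y hyE)
  have hz1 : z ≠ 1 := by rintro rfl; exact hzx (one_mem _)
  have hz := hE.order hzE hz1
  have hzc := comm_same hr hx' hz hx'n
  by_cases hc : Commute z x
  · exfalso
    have hzQ := hI6 z hz hc
    have hzp : IsPGroup r (zpowers z) := by
      apply IsPGroup.of_card (n := 1)
      rw [Nat.card_zpowers, hz, pow_one]
    have hTp : IsPGroup r (R0 ⊔ zpowers z : Subgroup L) := hR.to_sup_of_normal_left hzp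
    have hTQ : ∀ t ∈ R0 ⊔ zpowers z, ∀ c ∈ Q0, Commute c t := by
      intro t ht c hcQ
      have h1 : R0 ⊔ zpowers z ≤ centralizer {c} := by
        apply sup_le
        · intro b hb
          rw [mem_centralizer_singleton_iff]
          exact (hQR c hcQ b hb).symm
        · rw [zpowers_le, mem_centralizer_singleton_iff]
          exact hzQ c hcQ
      exact ((mem_centralizer_singleton_iff).1 (h1 ht)).symm
    have hTn : (R0 ⊔ zpowers z : Subgroup L).Normal := by
      have key : ∀ g : L, g * z * g⁻¹ ∈ R0 ⊔ zpowers z := by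
        intro g
        obtain ⟨c, hcQ, b, hb, hcb⟩ := mem_sup_of_normal_left.1 (hcomm g z)
        have h1 : g * z * g⁻¹ = c * (b * z) := by
          rw [← mul_assoc, hcb]; group
        have hbz : b * z ∈ R0 ⊔ zpowers z :=
          mul_mem (mem_sup_left hb) (mem_sup_right (mem_zpowers z))
        have h2 : (c * (b * z)) ^ r = 1 := by
          rw [← h1, conj_pow, ← hz, pow_orderOf_eq_one]; group
        rw [(hTQ _ hbz c hcQ).mul_pow] at h2
        have h3 : c ^ r = ((b * z) ^ r)⁻¹ := eq_inv_of_mul_eq_one_left h2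
        obtain ⟨k, hk⟩ := hQ ⟨c, hcQ⟩
        have hk' : c ^ q ^ k = 1 := by simpa using congrArg Subtype.val hk
        obtain ⟨l, hl⟩ := hTp ⟨b * z, hbz⟩
        have hl' : (b * z) ^ r ^ l = 1 := by simpa using congrArg Subtype.val hl
        have h4 : c ^ (r * r ^ l) = 1 := by
          rw [pow_mul, h3, inv_pow, ← pow_mul, mul_comm, pow_mul, hl', one_pow, inv_one]
        have hcop : (q ^ k).Coprime (r * r ^ l) := by
          rw [← pow_succ']
          exact Nat.Coprime.pow _ _ ((Nat.coprime_primes hq hr).2 hqr)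
        have hc1 : c = 1 := by
          rw [← orderOf_eq_one_iff]
          exact Nat.eq_one_of_dvd_coprimes hcop (orderOf_dvd_of_pow_eq_one hk') (orderOf_dvd_of_pow_eq_one h4)
        rw [h1, hc1, one_mul]
        exact hbz
      refine ⟨fun t ht g => ?_⟩
      have h1 : R0 ⊔ zpowers z ≤ (R0 ⊔ zpowers z).comap (MulAut.conj g).toMonoidHom := by
        apply sup_le
        · intro b hb
          rw [mem_comap]
          exact mem_sup_left (hRn.conj_mem b hb g)
        · rw [zpowers_le, mem_comap]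
          exact key g
      exact h1 ht
    have hzR : z ∈ R0 := hmax _ hTn hTp (mem_sup_right (mem_zpowers z))
    exact hno (zpowers x' ⊔ zpowers z) (sup_le (by rwa [zpowers_le]) (by rwa [zpowers_le]))
      (EE.mk' hr hx' hz hzc.symm hzx)
  · have h1 := dvd_sub_one (c := x) (z := z) (by rw [hx]; exact hq) (by rw [hz]; exact hr)
      (hxn.conj_mem x (mem_zpowers x) z) hc
    rwa [hx, hz] at h1

/-- the centralizer of the two cores -/
theorem cent_cores [Group.IsSolvable L] {q r : ℕ} (hq : q.Prime) (hr : r.Prime)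
    (hLc : ∀ s, s.Prime → s ∣ Nat.card L → s = q ∨ s = r) {g : L} (hgq : ∀ n ∈ Cfsg.pCore q L, Commute g n)
    (hgr : ∀ n ∈ Cfsg.pCore r L, Commute g n) : g ∈ Cfsg.pCore q L ⊔ Cfsg.pCore r L := by
  have hF : Cfsg.fittingSubgroup L ≤ Cfsg.pCore q L ⊔ Cfsg.pCore r L := by
    rw [Fitting.fittingSubgroup_eq_iSup_pCore]
    apply iSup_le
    rintro ⟨s, hs⟩
    by_cases hsd : s ∣ Nat.card L
    · rcases hLc s hs hsd with rfl | rfl
      · exact le_sup_left
      · exact le_sup_right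
    · have hsf : Fact s.Prime := ⟨hs⟩
      have h1 : Cfsg.pCore s L = ⊥ := by
        obtain ⟨n, hn⟩ := (IsPGroup.iff_card).1 (Fitting.isPGroup_pCore (p := s) (G := L))
        have h2 : n = 0 := by
          by_contra h0
          exact hsd (((dvd_pow_self s h0).trans (dvd_of_eq hn.symm)).trans (card_subgroup_dvd_card _))
        rw [← Subgroup.card_eq_one, hn, h2, pow_zero]
      show Cfsg.pCore s L ≤ _
      rw [h1]
      exact bot_le
  apply hF
  apply Fitting.centralizer_fittingSubgroup_le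
  rw [mem_centralizer_iff]
  intro x hx
  have h1 : Cfsg.pCore q L ⊔ Cfsg.pCore r L ≤ centralizer {g} := by
    apply sup_le
    · intro n hn
      rw [mem_centralizer_singleton_iff]
      exact (hgq n hn).symm
    · intro n hn
      rw [mem_centralizer_singleton_iff]
      exact (hgr n hn).symm
  exact (mem_centralizer_singleton_iff).1 (h1 (hF hx))

end group

section rep

variable {L : Type u} [Group L] [Finite L] {F1 : Type w₁} {V1 : Type v₁} [Field F1] [AddCommGroup V1]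
    [Module F1 V1] [FiniteDimensional F1 V1] {F2 : Type w₂} {V2 : Type v₂} [Field F2] [AddCommGroup V2]
    [Module F2 V2] [FiniteDimensional F2 V2] {ρ1 : Representation F1 L V1} {ρ2 : Representation F2 L V2}

theorem nz1 (h : C1 ρ1 ρ2) {n : ℕ} (hn : n ∣ Nat.card L) : (n : F1) ≠ 0 := by
  intro h0
  obtain ⟨m, hm⟩ := hn
  apply h.hF1
  rw [hm, Nat.cast_mul, h0, zero_mul]

/-- an element commuting with `B` is free on the first module -/
theorem free1 (h : C1 ρ1 ρ2) {q r : ℕ} (hq : q.Prime) (hqr : q ≠ r) {B : Subgroup L} (hB : EE r B) {y : L}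
    (hy : orderOf y = q) (hc : ∀ b ∈ B, Commute y b) {v : V1} (hv : ρ1 y v = v) : v = 0 := by
  by_contra hv0
  have hW : fx ρ1 y ≠ ⊥ := by
    intro h0
    apply hv0
    have : v ∈ fx ρ1 y := mem_fx.2 hv
    rwa [h0, Submodule.mem_bot] at this
  obtain ⟨e0, he0, he01⟩ := hB.nc 1 (one_mem _)
  have he01' : e0 ≠ 1 := by rintro rfl; exact he01 (one_mem _)
  obtain ⟨e, he, he1, w, hw, hw0, hew⟩ := hB.fixV ρ1 (nz1 h (by rw [← hB.order he0 he01']; exact orderOf_dvd_natCard e0))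
    (fx ρ1 y) hW (fun k hk w hw => fx_inv (hc k hk).symm hw)
  apply hw0
  exact h.I21 y e (by rw [hy]; exact hq) (by rw [hB.order he he1]; exact hB.pr) (by rw [hy, hB.order he he1]; exact hqr)
    (hc e he) w (mem_fx.1 hw) hew

/-- an element with fixed points on the first module, not commuting with `x'`: `x'` is trivial on the second -/
theorem half (h : C1 ρ1 ρ2) {q r : ℕ} (hq : q.Prime) (hr : r.Prime) (hqr : q ≠ r) {E B : Subgroup L}
    (hE : EE q E) (hB : EE r B) {x : L} (hx : orderOf x = r) (hxn : (zpowers x).Normal)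
    (hI6 : ∀ z : L, orderOf z = q → Commute z x → ∀ n ∈ B, Commute z n) : ∀ w : V2, ρ2 x w = w := by
  obtain ⟨v0, hv0⟩ := h.nt1
  have htop : (⊤ : Submodule F1 V1) ≠ ⊥ := by
    intro h0
    apply hv0
    have : v0 ∈ (⊤ : Submodule F1 V1) := Submodule.mem_top
    rwa [h0, Submodule.mem_bot] at this
  obtain ⟨e0, he0, he01⟩ := hE.nc 1 (one_mem _)
  have he01' : e0 ≠ 1 := by rintro rfl; exact he01 (one_mem _)
  obtain ⟨e, he, he1, v, -, hv, hev⟩ := hE.fixV ρ1 (nz1 h (by rw [← hE.order he0 he01']; exact orderOf_dvd_natCard e0))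
    ⊤ htop (fun _ _ _ _ => Submodule.mem_top)
  have heo := hE.order he he1
  have hne : ¬ Commute e x := fun hc => hv (free1 h hq hqr hB heo (hI6 e heo hc) hev)
  have hk := frob1 ρ2 (K := zpowers x) (z := e) (by rw [heo]; exact hq)
    (by rw [normalizer_eq_top_iff.2 hxn]; exact mem_top _)
    (fun k hk hc => by
      by_contra hk1
      apply hne
      exact (commute_of_zpowers (mem_zpowers_of_prime (by rw [hx]; exact hr) hk hk1) hc.symm).symm)
    (nz1 h.symm (card_subgroup_dvd_card _)) ⊤ (fun _ _ _ _ => Submodule.mem_top)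
    (fun _ _ => Submodule.mem_top)
    (fun w _ hw => (h.I1 e (by rw [heo]; exact hq) v w hev hw).resolve_left hv)
  exact fun w => hk x (mem_zpowers x) w Submodule.mem_top

/-- no noncyclic elementary abelian group in the core -/
theorem claimA (h : C1 ρ1 ρ2) {q r : ℕ} (hq : q.Prime) (hr : r.Prime) (hqr : q ≠ r) {E B : Subgroup L}
    (hE : EE q E) (hB : EE r B) {x : L} (hx : orderOf x = r) (hxn : (zpowers x).Normal)
    (hI6 : ∀ z : L, orderOf z = q → Commute z x → ∀ n ∈ B, Commute z n) : False := by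
  obtain ⟨v1, hv1⟩ := h.nt1
  obtain ⟨v2, hv2⟩ := h.nt2
  rcases h.I1 x (by rw [hx]; exact hr) v1 v2 (half h.symm hq hr hqr hE hB hx hxn hI6 v1)
    (half h hq hr hqr hE hB hx hxn hI6 v2) with h0 | h0
  · exact hv1 h0
  · exact hv2 h0

section main

variable (h : C1 ρ1 ρ2)
    (bI4 : ∀ {q r : ℕ}, q ≠ r → ∀ {E X : Subgroup L}, EE r E → EE q X → X.Normal → False)
    (bI5 : ∀ {r : ℕ}, r ≠ 2 → ∀ {E D : Subgroup L}, EE r E → EE 2 D → (∀ X : Subgroup L, X.Normal → ¬ EE 2 X) →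
      ∀ {N : Subgroup L}, N.Normal → IsPGroup 2 N → N = ⊥)
    (bI6 : ∀ {q r : ℕ}, q.Prime → r.Prime → q ≠ 2 → q ≠ r → (∀ X : Subgroup L, X.Normal → ¬ EE q X) →
      ∀ {N : Subgroup L}, N.Normal → IsPGroup q N → ∀ {x z : L}, orderOf x = q → (zpowers x).Normal →
      orderOf z = r → Commute z x → ∀ n ∈ N, Commute z n)

include h bI4 bI5 bI6

/-- one nontrivial core -/
theorem final_q [Group.IsSolvable L] {q r : ℕ} (hq : q.Prime) (hr : r.Prime) (hqr : q ≠ r)
    (hLc : ∀ s, s.Prime → s ∣ Nat.card L → s = q ∨ s = r) {Eq Er : Subgroup L} (hEq : EE q Eq)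
    (hEr : EE r Er) {N : Subgroup L} (hN : N.Normal) (hN1 : N ≠ ⊥) (hNq : IsPGroup q N) : False := by
  have hfq : Fact q.Prime := ⟨hq⟩
  have hfr : Fact r.Prime := ⟨hr⟩
  have I4q : ∀ X : Subgroup L, X.Normal → ¬ EE q X := fun X hX hE => bI4 hqr hEr hE hX
  have I4r : ∀ X : Subgroup L, X.Normal → ¬ EE r X := fun X hX hE => bI4 hqr.symm hEq hE hX
  have hq2 : q ≠ 2 := by
    rintro rfl
    exact hN1 (bI5 hqr.symm hEr hEq I4q hN hNq)
  obtain ⟨x, hxN, hx, hxn⟩ := exists_x hq I4q hN hN1 hNq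
  have hx1 : x ≠ 1 := by
    rintro rfl
    rw [orderOf_one] at hx
    exact hq.one_lt.ne hx
  have hQn : (Cfsg.pCore q L).Normal := Fitting.normal_pCore q
  have hRn : (Cfsg.pCore r L).Normal := Fitting.normal_pCore r
  have hQ : IsPGroup q (Cfsg.pCore q L) := Fitting.isPGroup_pCore q
  have hR : IsPGroup r (Cfsg.pCore r L) := Fitting.isPGroup_pCore r
  have hxQ : x ∈ Cfsg.pCore q L := Fitting.le_pCore q hN hNq hxN
  have I6q : ∀ z : L, orderOf z = r → Commute z x → ∀ n ∈ Cfsg.pCore q L, Commute z n := fun z hz hc =>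
    bI6 hq hr hq2 hqr I4q hQn hQ hx hxn hz hc
  -- an element of order `r` centralizing the core
  obtain ⟨z, hzE, hz1, n, hn, hn1, hzn⟩ := hEr.fixG (N := zpowers x) (by rwa [Ne, zpowers_eq_bot])
    (by rw [normalizer_eq_top_iff.2 hxn]; exact le_top) (by
      rw [Nat.card_zpowers, hx]
      intro hd
      exact hqr ((Nat.prime_dvd_prime_iff_eq hr hq).1 hd).symm)
  have hz := hEr.order hzE hz1
  have hzx : Commute z x :=
    (commute_of_zpowers (mem_zpowers_of_prime (by rw [hx]; exact hq) hn hn1) hzn.symm).symm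
  have hR1 : Cfsg.pCore r L ≠ ⊥ := by
    intro h0
    have h1 := cent_cores hq hr hLc (g := z) (I6q z hz hzx) (by
      rw [h0]
      intro n hn
      rw [mem_bot.1 hn]
      exact Commute.one_right z)
    rw [h0, sup_bot_eq] at h1
    exact not_dvd_of_pgroup hq hr hqr hQ h1 hz
  have hr2 : r ≠ 2 := by
    rintro rfl
    exact hR1 (bI5 hqr hEq hEr I4r hRn hR)
  obtain ⟨x', hx'R, hx', hx'n⟩ := exists_x hr I4r hRn hR1 hR
  have I6r : ∀ z : L, orderOf z = q → Commute z x' → ∀ n ∈ Cfsg.pCore r L, Commute z n := fun z hz hc =>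
    bI6 hr hq hr2 hqr.symm I4r hRn hR hx' hx'n hz hc
  have hnoR : ∀ B : Subgroup L, B ≤ Cfsg.pCore r L → ¬ EE r B := fun B hB hBE =>
    claimA h hq hr hqr hEq hBE hx' hx'n (fun z hz hc n hn => I6r z hz hc n (hB hn))
  have hnoQ : ∀ B : Subgroup L, B ≤ Cfsg.pCore q L → ¬ EE q B := fun B hB hBE =>
    claimA h hr hq hqr.symm hEr hBE hx hxn (fun z hz hc n hn => I6q z hz hc n (hB hn))
  have hQc := cyc_of hq hq2 hQ hxQ hx hxn hnoQ
  have hRc := cyc_of hr hr2 hR hx'R hx' hx'n hnoR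
  have hcomm : ∀ g h : L, g * h * g⁻¹ * h⁻¹ ∈ Cfsg.pCore q L ⊔ Cfsg.pCore r L := fun g h =>
    cent_cores hq hr hLc (fun n hn => comm_cyc hQn hQc g h hn) (fun n hn => comm_cyc hRn hRc g h hn)
  have hab : ∀ {N : Subgroup L}, IsCyclic N → ∀ a ∈ N, ∀ b ∈ N, Commute a b := by
    intro N hc a ha b hb
    have : IsMulCommutative N := inferInstance
    exact congrArg Subtype.val (mul_comm' (⟨a, ha⟩ : N) ⟨b, hb⟩)
  have hQR : ∀ a ∈ Cfsg.pCore q L, ∀ b ∈ Cfsg.pCore r L, Commute a b := by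
    intro a ha b hb
    have hd : Disjoint (Cfsg.pCore q L) (Cfsg.pCore r L) := IsPGroup.disjoint_of_ne q r hqr _ _ hQ hR
    exact commute_of_normal_of_disjoint _ _ hQn hRn hd a b ha hb
  have h1 : r ∣ q - 1 := last_dvd hq hr hqr hQn hRn hQ hR hcomm (hab hQc) hQR (fun N hN hNp => Fitting.le_pCore r hN hNp)
    hnoR hx hxn I6q hx'R hx' hx'n hEr
  have h2 : q ∣ r - 1 := last_dvd hr hq hqr.symm hRn hQn hR hQ (fun g h => by rw [sup_comm]; exact hcomm g h) (hab hRc)
    (fun a ha b hb => (hQR b hb a ha).symm) (fun N hN hNp => Fitting.le_pCore q hN hNp)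
    hnoQ hx' hx'n I6r hxQ hx hxn hEq
  exact sub_one_absurd hq hr h2 h1

/-- TRI-3 -/
theorem final_aux [Group.IsSolvable L] {q r : ℕ} (hq : q.Prime) (hr : r.Prime) (hqr : q ≠ r)
    (hLc : ∀ s, s.Prime → s ∣ Nat.card L → s = q ∨ s = r) (hEq : ∃ E : Subgroup L, EE q E)
    (hEr : ∃ E : Subgroup L, EE r E) : False := by
  obtain ⟨Eq, hEq⟩ := hEq
  obtain ⟨Er, hEr⟩ := hEr
  have hst : Group.IsSolvable (⊤ : Subgroup L) := inferInstance
  obtain ⟨e0, he0, he01⟩ := hEq.nc 1 (one_mem _)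
  have he01' : e0 ≠ 1 := by rintro rfl; exact he01 (one_mem _)
  have htop : (⊤ : Subgroup L) ≠ ⊥ := by
    intro h0
    apply he01'
    rw [← mem_bot, ← h0]
    exact mem_top _
  obtain ⟨B, -, hB1, hBn, ⟨s, hs, hsd, hBs⟩, -⟩ := exists_minEA (L := (⊤ : Subgroup L)) (K := ⊤) le_top htop
    (le_normalizer)
  have hBn' : B.Normal := normalizer_eq_top_iff.1 (top_le_iff.1 hBn)
  rw [card_top] at hsd
  rcases hLc s hs hsd with rfl | rfl
  · exact final_q h bI4 bI5 bI6 hq hr hqr hLc hEq hEr hBn' hB1 hBs.isPGroup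
  · exact final_q h bI4 bI5 bI6 hr hq hqr.symm (fun s hs hd => (hLc s hs hd).symm) hEr hEq hBn' hB1 hBs.isPGroup

end main

end rep

end Cfsg.Agent.Lib.H48TriP3
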