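import Cfsg.Agent.Lib.H48TriC
import Cfsg.Agent.Lib.H48TriD

/-! Pieces P4a and P4b of S3814 (helper60 for helper48). -/

set_option autoImplicit false
set_option linter.all false

namespace Cfsg.Agent.Lib.H48TriP4

open Subgroup Module Cfsg.Agent.Lib.H48TriA Cfsg.Agent.Lib.H48TriB Cfsg.Agent.Lib.H48TriC Cfsg.Agent.Lib.H48TriD
open Cfsg.Agent.Lib.CoprimeAction Cfsg.Agent.Lib.CoprimeAction2 Cfsg.Agent.Lib
open scoped Pointwise

universe u

theorem luc' {K : Type u} [Group K] [Finite K] [Group.IsSolvable K] {τ : Finset ℕ} (hτ : τ.card = 3)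
    (hp : ∀ p ∈ τ, p.Prime) (hd : ∀ p ∈ τ, p ∣ Nat.card K) :
    ∃ x y : K, Commute x y ∧ orderOf x ≠ orderOf y ∧ orderOf x ∈ τ ∧ orderOf y ∈ τ := by
  classical
  obtain ⟨L, hL0⟩ := HallPi.exists_isPiHall (G := K) (τ : Set ℕ)
  obtain ⟨hL1, hL2⟩ := HallPi.isPiHall_iff.1 hL0
  have hLd : ∀ p ∈ τ, p ∣ Nat.card L := by
    intro p h
    have h1 := hd p h
    rw [← L.card_mul_index] at h1
    rcases (Nat.Prime.dvd_mul (hp p h)).1 h1 with h2 | h2
    · exact h2
    · exact absurd h (hL2 p (hp p h) h2)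
  have hne : ∀ {Y : Subgroup K} {p : ℕ}, p.Prime → p ∣ Nat.card Y → Y ≠ ⊥ := by
    rintro Y p hpp hpd rfl
    rw [Subgroup.card_bot, Nat.dvd_one] at hpd
    exact hpp.ne_one hpd
  obtain ⟨p0, hp0⟩ : τ.Nonempty := Finset.card_pos.1 (by omega)
  obtain ⟨B, hBL, hB1, hLB, ⟨s, hs, hsd, hB⟩, -⟩ := exists_minEA (L := L) (K := L) le_rfl
    (hne (hp p0 hp0) (hLd p0 hp0)) le_normalizer
  have hsτ : s ∈ τ := hL1 s hs hsd
  obtain ⟨M, hM0⟩ := HallPi.exists_isPiHallOf (M := L) inferInstance ({p | p ∈ τ ∧ p ≠ s} : Set ℕ)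
  obtain ⟨hML, hM1, hM2⟩ := HallPi.isPiHallOf_iff.1 hM0
  have hMd : ∀ p ∈ τ, p ≠ s → p ∣ Nat.card M := by
    intro p h hps
    have h1 := hLd p h
    rw [← Subgroup.relIndex_bot_left, ← Subgroup.relIndex_mul_relIndex ⊥ M L bot_le hML,
      Subgroup.relIndex_bot_left] at h1
    rcases (Nat.Prime.dvd_mul (hp p h)).1 h1 with h2 | h2
    · exact h2
    · exact absurd (show p ∈ {p | p ∈ τ ∧ p ≠ s} from ⟨h, hps⟩) (hM2 p (hp p h) h2)
  obtain ⟨p1, hp1⟩ : (τ.erase s).Nonempty := Finset.card_pos.1 (by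
    rw [Finset.card_erase_of_mem hsτ, hτ]; omega)
  obtain ⟨hp1s, hp1τ⟩ := Finset.mem_erase.1 hp1
  obtain ⟨D, hDM, hD1, hMD, ⟨t, ht, htd, hD⟩, -⟩ := exists_minEA (L := M) (K := M) le_rfl
    (hne (hp p1 hp1τ) (hMd p1 hp1τ hp1s)) le_normalizer
  obtain ⟨htτ, hts⟩ := hM1 t ht htd
  obtain ⟨r, hr0⟩ : ((τ.erase s).erase t).Nonempty := Finset.card_pos.1 (by
    rw [Finset.card_erase_of_mem (Finset.mem_erase.2 ⟨hts, htτ⟩), Finset.card_erase_of_mem hsτ, hτ]; omega)
  obtain ⟨hrt, hr1⟩ := Finset.mem_erase.1 hr0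
  obtain ⟨hrs, hrτ⟩ := Finset.mem_erase.1 hr1
  have hrp := hp r hrτ
  have : Fact r.Prime := ⟨hrp⟩
  obtain ⟨g', hg'⟩ := exists_prime_orderOf_dvd_card' (G := M) r (hMd r hrτ hrs)
  have hgM : (g' : K) ∈ M := g'.2
  have hgo : orderOf (g' : K) = r := by rw [Subgroup.orderOf_coe, hg']
  generalize (g' : K) = g at hgM hgo
  obtain ⟨b, hbB, hb1⟩ := exists_ne_one hB1
  obtain ⟨d, hdD, hd1⟩ := exists_ne_one hD1
  have hob := EA.order hs hB hbB hb1
  have hod := EA.order ht hD hdD hd1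
  by_contra hno
  push Not at hno
  have key : ∀ x y : K, Commute x y → orderOf x ≠ orderOf y → orderOf x ∈ τ → orderOf y ∈ τ → False :=
    fun x y h1 h2 h3 h4 => hno x y h1 h2 h3 h4
  have h1 := frobG hs (M := B) (K := D) hB (z := g) (by rw [hgo]; exact hrp)
    ((hDM.trans hML).trans hLB) (hLB (hML hgM)) (hMD hgM)
    (by
      intro k hk hc
      by_contra hk1
      have hok := EA.order ht hD hk hk1
      exact key g k hc (by rw [hgo, hok]; exact hrt) (by rw [hgo]; exact hrτ) (by rw [hok]; exact htτ))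
    (EA.not_dvd ht hs hts hD)
    (by
      intro m hm hc
      by_contra hm1
      have hom := EA.order hs hB hm hm1
      exact key g m hc (by rw [hgo, hom]; exact hrs) (by rw [hgo]; exact hrτ) (by rw [hom]; exact hsτ))
  exact key d b (h1 d hdD b hbB) (by rw [hod, hob]; exact hts) (by rw [hod]; exact htτ) (by rw [hob]; exact hsτ)

/-- TRI-4a -/
theorem luc {K : Type u} [Group K] [Finite K] [Group.IsSolvable K] {a b c : ℕ} (ha : a.Prime) (hb : b.Prime)
    (hc : c.Prime) (hab : a ≠ b) (hbc : b ≠ c) (hac : a ≠ c) (h1 : a ∣ Nat.card K) (h2 : b ∣ Nat.card K)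
    (h3 : c ∣ Nat.card K) : ∃ x y : K, Commute x y ∧ orderOf x ≠ orderOf y ∧
      (orderOf x = a ∨ orderOf x = b ∨ orderOf x = c) ∧ (orderOf y = a ∨ orderOf y = b ∨ orderOf y = c) := by
  classical
  obtain ⟨x, y, hxy, hne, hx, hy⟩ := luc' (K := K) (τ := {a, b, c}) (Finset.card_eq_three.2 ⟨a, b, c, hab, hac, hbc, rfl⟩)
    (by
      intro p hp
      simp only [Finset.mem_insert, Finset.mem_singleton] at hp
      rcases hp with rfl | rfl | rfl <;> assumption)
    (by
      intro p hp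
      simp only [Finset.mem_insert, Finset.mem_singleton] at hp
      rcases hp with rfl | rfl | rfl <;> assumption)
  simp only [Finset.mem_insert, Finset.mem_singleton] at hx hy
  exact ⟨x, y, hxy, hne, hx, hy⟩

/-- TRI-4b -/
theorem Sit.ee {G : Type u} [Group G] [Finite G] {σ : Finset ℕ} (h : Sit G σ) {q : ℕ} (hq : q ∈ σ) :
    ∃ E : Subgroup G, EE q E := by
  classical
  have hqp := h.prime q hq
  have : Fact q.Prime := ⟨hqp⟩
  have hsol := h.sol
  obtain ⟨p0, hp0⟩ : (σ.erase q).Nonempty := Finset.card_pos.1 (by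
    rw [Finset.card_erase_of_mem hq, h.card]; omega)
  obtain ⟨hp0q, hp0σ⟩ := Finset.mem_erase.1 hp0
  have hqd : q ∣ Nat.card G := by
    obtain ⟨y, z, hy, hz, -⟩ := h.pairs q hq p0 hp0σ hp0q.symm
    rw [← hy]
    exact orderOf_dvd_natCard y
  obtain ⟨S⟩ : Nonempty (Sylow q G) := inferInstance
  have hSn : Nontrivial S := by
    rw [← Finite.one_lt_card_iff_nontrivial]
    have h1 : q ∣ Nat.card S := S.dvd_card_of_dvd_card hqd
    exact lt_of_lt_of_le hqp.one_lt (Nat.le_of_dvd Nat.card_pos h1)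
  have hcn : Nontrivial (center S) := S.2.center_nontrivial
  have hqc : q ∣ Nat.card (center S) := by
    obtain ⟨n, hn⟩ := IsPGroup.iff_card.1 (S.2.to_subgroup (center S))
    have h1 : 1 < Nat.card (center S) := Finite.one_lt_card
    rw [hn] at h1 ⊢
    rcases Nat.eq_zero_or_pos n with h2 | h2
    · rw [h2, pow_zero] at h1; omega
    · exact dvd_pow_self _ h2.ne'
  obtain ⟨z', hz'⟩ := exists_prime_orderOf_dvd_card' (G := center S) q hqc
  have hzo : orderOf (((z' : S) : G)) = q := by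
    rw [Subgroup.orderOf_coe, Subgroup.orderOf_coe, hz']
  have hzS : ((z' : S) : G) ∈ (S : Subgroup G) := (z' : S).2
  have hzc : ∀ y ∈ (S : Subgroup G), Commute ((z' : S) : G) y := by
    intro y hy
    have h1 := (mem_center_iff.1 z'.2) ⟨y, hy⟩
    exact (congrArg Subtype.val h1).symm
  generalize ((z' : S) : G) = z at hzo hzS hzc
  by_cases hy : ∃ y ∈ (S : Subgroup G), orderOf y = q ∧ y ∉ zpowers z
  · obtain ⟨y, hyS, hyo, hyz⟩ := hy
    exact ⟨_, EE.mk' hqp hzo hyo (hzc y hyS) hyz⟩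
  · exfalso
    push Not at hy
    have hτ : (σ.erase q).card = 3 := by rw [Finset.card_erase_of_mem hq, h.card]
    obtain ⟨x, y, hxy, hne, hx, hy'⟩ := luc' (K := centralizer ({z} : Set G)) (τ := σ.erase q) hτ
      (fun p hp => h.prime p (Finset.mem_of_mem_erase hp)) (by
        intro p hp
        obtain ⟨hpq, hpσ⟩ := Finset.mem_erase.1 hp
        obtain ⟨u, v, hu, hv, huv⟩ := h.pairs p hpσ q hq hpq
        -- conjugate `v` into `S`
        have hvp : IsPGroup q (zpowers v) := by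
          apply IsPGroup.of_card (n := 1)
          rw [Nat.card_zpowers, hv, pow_one]
        obtain ⟨T, hT⟩ := hvp.exists_le_sylow
        obtain ⟨g, hg⟩ := MulAction.exists_smul_eq G T S
        have hgv : g * v * g⁻¹ ∈ (S : Subgroup G) := by
          rw [← hg]
          have h1 : MulAut.conj g • v ∈ MulAut.conj g • (T : Subgroup G) :=
            Subgroup.smul_mem_pointwise_smul _ _ _ (hT (mem_zpowers v))
          exact h1
        have hgo : orderOf (g * v * g⁻¹) = q := by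
          rw [← hv]; exact (MulAut.conj g).orderOf_eq v
        have h1 := hy _ hgv hgo
        have h2 : z ∈ zpowers (g * v * g⁻¹) := mem_zpowers_of_prime (by rw [hzo]; exact hqp) h1 (by
          intro h3
          rw [h3, orderOf_one] at hgo
          exact hqp.ne_one hgo.symm)
        have h3 : Commute (g * v * g⁻¹) (g * u * g⁻¹) := by
          have h4 : v * u = u * v := huv.symm
          change g * v * g⁻¹ * (g * u * g⁻¹) = g * u * g⁻¹ * (g * v * g⁻¹)
          calc g * v * g⁻¹ * (g * u * g⁻¹) = g * (v * u) * g⁻¹ := by group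
            _ = g * (u * v) * g⁻¹ := by rw [h4]
            _ = _ := by group
        have h5 : Commute z (g * u * g⁻¹) := commute_of_zpowers h2 h3
        have h6 : g * u * g⁻¹ ∈ centralizer ({z} : Set G) := by
          rw [mem_centralizer_singleton_iff]
          exact h5.symm
        have h7 : orderOf (⟨_, h6⟩ : centralizer ({z} : Set G)) = p := by
          rw [Subgroup.orderOf_mk, ← hu]
          exact (MulAut.conj g).orderOf_eq u
        rw [← h7]
        exact orderOf_dvd_natCard _)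
    obtain ⟨hxq, hxσ⟩ := Finset.mem_erase.1 hx
    obtain ⟨hyq, hyσ⟩ := Finset.mem_erase.1 hy'
    have hxz : Commute (x : G) z := (mem_centralizer_singleton_iff.1 x.2)
    have hyz : Commute (y : G) z := (mem_centralizer_singleton_iff.1 y.2)
    refine h.trip (x : G) (y : G) z ?_ ?_ (by rw [hzo]; exact hqp) ?_ ?_ ?_ (congrArg Subtype.val hxy) hyz hxz
    · rw [Subgroup.orderOf_coe]; exact h.prime _ hxσ
    · rw [Subgroup.orderOf_coe]; exact h.prime _ hyσ
    · rw [Subgroup.orderOf_coe, Subgroup.orderOf_coe]; exact hne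
    · rw [Subgroup.orderOf_coe, hzo]; exact hyq
    · rw [Subgroup.orderOf_coe, hzo]; exact hxq

end Cfsg.Agent.Lib.H48TriP4
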