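import Cfsg.Agent.Lib.H48TriD
import Cfsg.Agent.Lib.ElabRep
import Cfsg.Agent.Lib.HallPi
import Cfsg.Agent.Lib.SubgroupTools

/-!
Piece P5 of S3814 (for helper48): two different primes with nontrivial normal subgroups (helper88).
-/

set_option autoImplicit false
set_option maxHeartbeats 400000

namespace Cfsg.Agent.Lib.H48TriP5

open Subgroup Module Cfsg.Agent.Lib.H48TriA Cfsg.Agent.Lib.H48TriB Cfsg.Agent.Lib.H48TriD
open Cfsg.Agent.Lib.HallPi

universe u v w v₁ v₂ w₁ w₂

theorem EE.map {G G' : Type*} [Group G] [Group G'] {q : ℕ} {E : Subgroup G} (h : EE q E) {f : G →* G'}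
    (hf : Function.Injective f) : EE q (E.map f) := by
  refine ⟨h.pr, ?_, ?_, ?_⟩
  · rintro _ ⟨a, ha, rfl⟩ _ ⟨b, hb, rfl⟩
    rw [← map_mul, ← map_mul, h.ab a ha b hb]
  · rintro _ ⟨a, ha, rfl⟩
    rw [← map_pow, h.ex a ha, map_one]
  · rintro _ ⟨x, hx, rfl⟩
    obtain ⟨y, hy, hyx⟩ := h.nc x hx
    refine ⟨f y, mem_map_of_mem f hy, ?_⟩
    intro hc
    obtain ⟨i, hi⟩ := mem_zpowers_iff.1 hc
    apply hyx
    refine mem_zpowers_iff.2 ⟨i, hf ?_⟩
    rw [map_zpow, hi]

theorem EE.sub {G : Type*} [Group G] {q : ℕ} {E L : Subgroup G} (h : EE q E) (hL : E ≤ L) :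
    EE q (E.subgroupOf L) := by
  refine ⟨h.pr, ?_, ?_, ?_⟩
  · intro a ha b hb
    exact Subtype.ext (h.ab a ha b hb)
  · intro a ha
    exact Subtype.ext (h.ex a ha)
  · intro x hx
    obtain ⟨y, hy, hyx⟩ := h.nc x hx
    refine ⟨⟨y, hL hy⟩, hy, ?_⟩
    intro hc
    obtain ⟨i, hi⟩ := mem_zpowers_iff.1 hc
    apply hyx
    refine mem_zpowers_iff.2 ⟨i, ?_⟩
    simpa using congrArg Subtype.val hi

/-- a nontrivial normal `p`-subgroup contains a nontrivial elementary abelian normal subgroup -/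
theorem exists_elem {G : Type u} [Group G] [Finite G] {p : ℕ} (hp : p.Prime) {M : Subgroup G} (hM : M.Normal)
    (hM1 : M ≠ ⊥) (hMp : IsPGroup p M) : ∃ A : Subgroup G, A.Normal ∧ A ≠ ⊥ ∧ EA p A := by
  have := Fact.mk hp
  have hnt : Nontrivial M := (nontrivial_iff_ne_bot M).mpr hM1
  have hnil : Group.IsNilpotent M := hMp.isNilpotent
  have hsol : Group.IsSolvable M := inferInstance
  obtain ⟨r, E, hr, hE, hEc, hEab, hEp⟩ := SubgroupTools.exists_characteristic_elementary M
  obtain ⟨x, hx, hx1⟩ := (Subgroup.ne_bot_iff_exists_ne_one (H := E)).1 hE |>.elim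
    (fun y hy => (⟨y.1, y.2, fun h => hy (Subtype.ext h)⟩ : ∃ x : M, x ∈ E ∧ x ≠ 1))
  have hrp : r = p := by
    have h1 : orderOf x = r := orderOf_eq_prime (hp := ⟨hr⟩) (hEp x hx) hx1
    obtain ⟨k, hk⟩ := IsPGroup.iff_orderOf.mp hMp x
    rw [h1] at hk
    have hk0 : k ≠ 0 := by
      intro h0; rw [h0, pow_zero] at hk; exact hr.ne_one hk
    have h2 : p ∣ r := by rw [hk]; exact dvd_pow_self p hk0
    exact ((Nat.prime_dvd_prime_iff_eq hp hr).1 h2).symm
  subst hrp
  refine ⟨E.map M.subtype, inferInstance, ?_, ?_, ?_⟩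
  · rw [Ne, map_eq_bot_iff_of_injective _ M.subtype_injective]; exact hE
  · rintro _ ⟨a, ha, rfl⟩ _ ⟨b, hb, rfl⟩
    rw [← map_mul, ← map_mul]
    exact congrArg _ (isMulCommutative_iff_of_setLike.mp hEab a ha b hb)
  · rintro _ ⟨a, ha, rfl⟩
    rw [← map_pow, hEp a ha, map_one]

theorem pinum {G : Type u} [Group G] [Finite G] {r : ℕ} {π : Set ℕ} {E : Subgroup G} (h : EE r E)
    (hr : r ∈ π) : PiNum π (Nat.card E) := by
  have := Fact.mk h.pr
  have h1 : IsPGroup r E := fun a => ⟨1, by rw [pow_one]; exact Subtype.ext (h.ex a a.2)⟩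
  obtain ⟨n, hn⟩ := h1.exists_card_eq
  rw [hn]
  exact piNum_prime_pow h.pr hr

/-- an elementary abelian subgroup inside a Hall subgroup -/
theorem exists_in_hall {G : Type u} [Group G] [Finite G] [Group.IsSolvable G] {r : ℕ} {π : Set ℕ}
    {E L : Subgroup G} (h : EE r E) (hr : r ∈ π) (hL : Cfsg.IsPiHall π L) : ∃ E' : Subgroup L, EE r E' := by
  obtain ⟨g, hg⟩ := exists_conj_le L E hL (pinum h hr)
  have h1 : EE r (E.map (MulAut.conj g⁻¹).toMonoidHom) :=
    EE.map h (f := (MulAut.conj g⁻¹).toMonoidHom) (MulAut.conj g⁻¹).injective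
  have h2 : E.map (MulAut.conj g⁻¹).toMonoidHom ≤ L := by
    rintro _ ⟨a, ha, rfl⟩
    have h3 := hg ha
    rw [Subgroup.mem_pointwise_smul_iff_inv_smul_mem] at h3
    have h4 : (MulAut.conj g)⁻¹ • a = (MulAut.conj g⁻¹).toMonoidHom a := by
      rw [← map_inv]; rfl
    rw [← h4]; exact h3
  exact ⟨_, EE.sub h1 h2⟩

/-- TRI-5 -/
theorem case1 {G : Type u} [Group G] [Finite G] {σ : Finset ℕ} (h : Sit G σ)
    (hee : ∀ {q : ℕ}, q ∈ σ → ∃ E : Subgroup G, EE q E)
    (hfinal : ∀ {L : Type u} [Group L] [Finite L] {F1 : Type} {V1 : Type u} [Field F1] [AddCommGroup V1]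
      [Module F1 V1] [FiniteDimensional F1 V1] {F2 : Type} {V2 : Type u} [Field F2] [AddCommGroup V2]
      [Module F2 V2] [FiniteDimensional F2 V2] {ρ1 : Representation F1 L V1} {ρ2 : Representation F2 L V2},
      C1 ρ1 ρ2 → Group.IsSolvable L → ∀ {q r : ℕ}, q.Prime → r.Prime → q ≠ r →
      (∀ s, s.Prime → s ∣ Nat.card L → s = q ∨ s = r) → (∃ E : Subgroup L, EE q E) →
      (∃ E : Subgroup L, EE r E) → False)
    {p q : ℕ} (hp : p ∈ σ)
    (hq : q ∈ σ) (hpq : p ≠ q) {M N : Subgroup G} (hM : M.Normal) (hN : N.Normal) (hM1 : M ≠ ⊥)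
    (hN1 : N ≠ ⊥) (hMp : IsPGroup p M) (hNq : IsPGroup q N) : False := by
  have hpp := h.prime p hp
  have hqp := h.prime q hq
  have := Fact.mk hpp
  have := Fact.mk hqp
  have hsol : Group.IsSolvable G := h.sol
  obtain ⟨A, hAn, hA1, hA⟩ := exists_elem hpp hM hM1 hMp
  obtain ⟨B, hBn, hB1, hB⟩ := exists_elem hqp hN hN1 hNq
  -- the other two primes
  have hc1 : ((σ.erase p).erase q).card = 2 := by
    rw [Finset.card_erase_of_mem (Finset.mem_erase.2 ⟨hpq.symm, hq⟩), Finset.card_erase_of_mem hp, h.card]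
  obtain ⟨r, s, hrs, hσ⟩ := Finset.card_eq_two.1 hc1
  have hrm : r ∈ (σ.erase p).erase q := by rw [hσ]; simp
  have hsm : s ∈ (σ.erase p).erase q := by rw [hσ]; simp
  simp only [Finset.mem_erase] at hrm hsm
  obtain ⟨hrq, hrp, hr⟩ := hrm
  obtain ⟨hsq, hsp, hs⟩ := hsm
  have hrp' := h.prime r hr
  have hsp' := h.prime s hs
  set π : Set ℕ := {r, s} with hπ
  obtain ⟨L, hL⟩ := exists_isPiHall (G := G) π
  have hLπ : ∀ t, t.Prime → t ∣ Nat.card L → t = r ∨ t = s := fun t ht hd => by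
    have := (isPiHall_iff.1 hL).1 t ht hd
    simpa [hπ] using this
  have hpL : ¬ p ∣ Nat.card L := fun hd => by
    rcases hLπ p hpp hd with h1 | h1
    · exact hrp h1.symm
    · exact hsp h1.symm
  have hqL : ¬ q ∣ Nat.card L := fun hd => by
    rcases hLπ q hqp hd with h1 | h1
    · exact hrq h1.symm
    · exact hsq h1.symm
  -- orders of the elements of `L`
  have hoL : ∀ y : L, (orderOf y).Prime → orderOf (y : G) = r ∨ orderOf (y : G) = s := by
    intro y hy
    rw [Subgroup.orderOf_coe]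
    exact hLπ _ hy (orderOf_dvd_natCard y)
  have hoA : ∀ a ∈ A, a ≠ 1 → orderOf a = p := fun a ha ha1 => hA.order hpp ha ha1
  have hoB : ∀ b ∈ B, b ≠ 1 → orderOf b = q := fun b hb hb1 => hB.order hqp hb hb1
  have hAB : ∀ a ∈ A, ∀ b ∈ B, Commute a b := by
    have hdis : Disjoint A B := by
      rw [disjoint_iff, eq_bot_iff]
      rintro x ⟨hx, hx'⟩
      by_contra hx1
      exact hpq ((hoA x hx hx1).symm.trans (hoB x hx' hx1))
    intro a ha b hb
    exact commute_of_normal_of_disjoint A B hAn hBn hdis a b ha hb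
  -- the modules
  let cA : CommGroup A := { (inferInstance : Group A) with
    mul_comm := fun a b => Subtype.ext (hA.ab a a.2 b b.2) }
  have hEA : ∀ x : A, x ^ p = 1 := fun x => Subtype.ext (hA.ex x x.2)
  let iA : Module (ZMod p) (Additive A) := ElabRep.elabModule A p hEA
  have hfA : Finite (Additive A) := (inferInstance : Finite A)
  have hfdA : FiniteDimensional (ZMod p) (Additive A) := Module.Finite.of_finite
  let cB : CommGroup B := { (inferInstance : Group B) with
    mul_comm := fun a b => Subtype.ext (hB.ab a a.2 b b.2) }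
  have hEB : ∀ x : B, x ^ q = 1 := fun x => Subtype.ext (hB.ex x x.2)
  let iB : Module (ZMod q) (Additive B) := ElabRep.elabModule B q hEB
  have hfB : Finite (Additive B) := (inferInstance : Finite B)
  have hfdB : FiniteDimensional (ZMod q) (Additive B) := Module.Finite.of_finite
  let φA : L →* MulAut A := (MulAut.conjNormal (H := A)).comp L.subtype
  let φB : L →* MulAut B := (MulAut.conjNormal (H := B)).comp L.subtype
  let ρ1 := ElabRep.elabRep p hEA φA
  let ρ2 := ElabRep.elabRep q hEB φB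
  have hρ1 : ∀ (g : L) (x : A), ((Additive.toMul (ρ1 g (Additive.ofMul x)) : A) : G) = g * x * (g : G)⁻¹ :=
    fun g x => rfl
  have hρ2 : ∀ (g : L) (x : B), ((Additive.toMul (ρ2 g (Additive.ofMul x)) : B) : G) = g * x * (g : G)⁻¹ :=
    fun g x => rfl
  have hfix1 : ∀ (y : L) (v : Additive A), ρ1 y v = v → Commute ((Additive.toMul v : A) : G) (y : G) := by
    intro y v hv
    have h1 := congrArg (fun x : Additive A => ((Additive.toMul x : A) : G)) hv
    have h2 : (y : G) * ((Additive.toMul v : A) : G) * (y : G)⁻¹ = ((Additive.toMul v : A) : G) := h1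
    exact (mul_inv_eq_iff_eq_mul.1 h2).symm
  have hfix2 : ∀ (y : L) (v : Additive B), ρ2 y v = v → Commute ((Additive.toMul v : B) : G) (y : G) := by
    intro y v hv
    have h1 := congrArg (fun x : Additive B => ((Additive.toMul x : B) : G)) hv
    have h2 : (y : G) * ((Additive.toMul v : B) : G) * (y : G)⁻¹ = ((Additive.toMul v : B) : G) := h1
    exact (mul_inv_eq_iff_eq_mul.1 h2).symm
  have hne1 : ∀ v : Additive A, v ≠ 0 → ((Additive.toMul v : A) : G) ≠ 1 := by
    intro v hv h1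
    exact hv (show Additive.toMul v = (1 : A) from Subtype.ext h1)
  have hne2 : ∀ v : Additive B, v ≠ 0 → ((Additive.toMul v : B) : G) ≠ 1 := by
    intro v hv h1
    exact hv (show Additive.toMul v = (1 : B) from Subtype.ext h1)
  have hC : C1 ρ1 ρ2 := by
    refine ⟨?_, ?_, ?_, ?_, ?_, ?_, ?_⟩
    · intro h1; exact hpL ((ZMod.natCast_eq_zero_iff _ _).1 h1)
    · intro h1; exact hqL ((ZMod.natCast_eq_zero_iff _ _).1 h1)
    · obtain ⟨x, hx⟩ := (Subgroup.ne_bot_iff_exists_ne_one (H := A)).1 hA1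
      exact ⟨Additive.ofMul x, fun h1 => hx h1⟩
    · obtain ⟨x, hx⟩ := (Subgroup.ne_bot_iff_exists_ne_one (H := B)).1 hB1
      exact ⟨Additive.ofMul x, fun h1 => hx h1⟩
    · intro y hy v1 v2 h1 h2
      by_contra hcon
      push Not at hcon
      have e1 := hoA _ (Additive.toMul v1 : A).2 (hne1 v1 hcon.1)
      have e2 := hoB _ (Additive.toMul v2 : B).2 (hne2 v2 hcon.2)
      have e3 := hoL y hy
      refine h.trip _ _ (y : G) (by rw [e1]; exact hpp) (by rw [e2]; exact hqp)
        (by rw [Subgroup.orderOf_coe]; exact hy) (by rw [e1, e2]; exact hpq) ?_ ?_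
        (hAB _ (Additive.toMul v1 : A).2 _ (Additive.toMul v2 : B).2) (hfix2 y v2 h2) (hfix1 y v1 h1)
      · rw [e2]; rcases e3 with e3 | e3 <;> rw [e3]
        · exact hrq.symm
        · exact hsq.symm
      · rw [e1]; rcases e3 with e3 | e3 <;> rw [e3]
        · exact hrp.symm
        · exact hsp.symm
    · intro y z hy hz hyz hc v h1 h2
      by_contra hv
      have e1 := hoA _ (Additive.toMul v : A).2 (hne1 v hv)
      have e3 := hoL y hy
      have e4 := hoL z hz
      refine h.trip _ (y : G) (z : G) (by rw [e1]; exact hpp) (by rw [Subgroup.orderOf_coe]; exact hy)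
        (by rw [Subgroup.orderOf_coe]; exact hz) ?_ (by rw [Subgroup.orderOf_coe, Subgroup.orderOf_coe]; exact hyz)
        ?_ (hfix1 y v h1) (congrArg Subtype.val hc : (y : G) * z = z * y) (hfix1 z v h2)
      · rw [e1]; rcases e3 with e3 | e3 <;> rw [e3]
        · exact hrp.symm
        · exact hsp.symm
      · rw [e1]; rcases e4 with e3 | e3 <;> rw [e3]
        · exact hrp.symm
        · exact hsp.symm
    · intro y z hy hz hyz hc v h1 h2
      by_contra hv
      have e1 := hoB _ (Additive.toMul v : B).2 (hne2 v hv)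
      have e3 := hoL y hy
      have e4 := hoL z hz
      refine h.trip _ (y : G) (z : G) (by rw [e1]; exact hqp) (by rw [Subgroup.orderOf_coe]; exact hy)
        (by rw [Subgroup.orderOf_coe]; exact hz) ?_ (by rw [Subgroup.orderOf_coe, Subgroup.orderOf_coe]; exact hyz)
        ?_ (hfix2 y v h1) (congrArg Subtype.val hc : (y : G) * z = z * y) (hfix2 z v h2)
      · rw [e1]; rcases e3 with e3 | e3 <;> rw [e3]
        · exact hrq.symm
        · exact hsq.symm
      · rw [e1]; rcases e4 with e3 | e3 <;> rw [e3]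
        · exact hrq.symm
        · exact hsq.symm
  obtain ⟨E1, hE1⟩ := hee hr
  obtain ⟨E2, hE2⟩ := hee hs
  exact hfinal hC inferInstance hrp' hsp' hrs hLπ (exists_in_hall hE1 (by simp [hπ]) hL)
    (exists_in_hall hE2 (by simp [hπ]) hL)

end Cfsg.Agent.Lib.H48TriP5
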