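import Cfsg.Agent.Lib.H48TriD
import Cfsg.Agent.Lib.FratRep

/-! Piece P6 of S3814 (helper60 for helper48): the case of one prime in the Fitting subgroup. -/

set_option autoImplicit false
set_option linter.all false

namespace Cfsg.Agent.Lib.H48TriP6

open Subgroup Module Cfsg.Agent.Lib.H48TriA Cfsg.Agent.Lib.H48TriB Cfsg.Agent.Lib.H48TriD
open Cfsg.Agent.Lib.CoprimeAction Cfsg.Agent.Lib.CoprimeAction2 Cfsg.Agent.Lib
open scoped Pointwise

universe u

/-- what `Cx.final` gives -/
def FinalStmt : Prop :=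
  ∀ (H : Type u) [Group H] [Finite H] (V : Type u) [AddCommGroup V] (t : ℕ) [Fact t.Prime] [Module (ZMod t) V]
    [FiniteDimensional (ZMod t) V] (ρ : Representation (ZMod t) H V), Cx ρ → Group.IsSolvable H →
    ∀ τ : Finset ℕ, τ.card = 3 → (∀ p ∈ τ, p.Prime) → (∀ s, s.Prime → s ∣ Nat.card H → s ∈ τ) →
      (∀ p ∈ τ, ∀ q ∈ τ, p ≠ q → ∃ y z : H, orderOf y = p ∧ orderOf z = q ∧ Commute y z) →
      (∀ p ∈ τ, ∃ E : Subgroup H, EE p E) → False

theorem EE.comap {G H : Type*} [Group G] [Group H] {q : ℕ} {E : Subgroup G} (h : EE q E) (f : H →* G)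
    (hf : Function.Injective f) (hE : E ≤ f.range) : EE q (E.comap f) := by
  refine ⟨h.pr, fun a ha b hb => ?_, fun a ha => ?_, fun x hx => ?_⟩
  · apply hf
    rw [map_mul, map_mul]
    exact h.ab _ ha _ hb
  · apply hf
    rw [map_pow, map_one]
    exact h.ex _ ha
  · obtain ⟨y, hy, hyx⟩ := h.nc (f x) hx
    obtain ⟨y', rfl⟩ := hE hy
    refine ⟨y', hy, fun hmem => hyx ?_⟩
    rw [mem_zpowers_iff] at hmem ⊢
    obtain ⟨k, hk⟩ := hmem
    exact ⟨k, by rw [← map_zpow, hk]⟩

theorem EE.piNum {G : Type*} [Group G] [Finite G] {q t : ℕ} {E : Subgroup G} (h : EE q E) (hqt : q ≠ t) :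
    HallPi.PiNum ({t}ᶜ : Set ℕ) (Nat.card E) := by
  intro s hs hd hst
  have hst' : s = t := hst
  have : Fact s.Prime := ⟨hs⟩
  obtain ⟨x, hx⟩ := exists_prime_orderOf_dvd_card' s hd
  have h1 : (x : G) ^ q = 1 := h.ex x x.2
  have h2 : orderOf (x : G) ∣ q := orderOf_dvd_of_pow_eq_one h1
  rw [Subgroup.orderOf_coe, hx] at h2
  rcases (Nat.dvd_prime h.pr).1 h2 with h3 | h3
  · exact hs.one_lt.ne' h3
  · exact hqt (h3.symm.trans hst')

theorem case2_of {G : Type u} [Group G] [Finite G] {σ : Finset ℕ} (h : Sit G σ) {t : ℕ} (ht : t ∈ σ)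
    {N : Subgroup G} (hN : N.Normal) (hNt : IsPGroup t N) (hC : centralizer (N : Set G) ≤ N)
    (hee : ∀ q ∈ σ, ∃ E : Subgroup G, EE q E) (hfinal : FinalStmt.{u}) : False := by
  classical
  have htp := h.prime t ht
  have : Fact t.Prime := ⟨htp⟩
  have hsol := h.sol
  obtain ⟨V, iV1, iV2, iV3, ⟨D⟩⟩ := FratRep.exists_data N hN hNt
  obtain ⟨H, hH0⟩ := HallPi.exists_isPiHall (G := G) ({t}ᶜ : Set ℕ)
  have hH := HallPi.isPiHall_iff.1 hH0
  have htH : ¬ t ∣ Nat.card H := fun hd => hH.1 t htp hd rfl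
  have hnN : ∀ A : Subgroup G, A ≤ normalizer (N : Set G) := fun A => by
    rw [normalizer_eq_top]; exact le_top
  have hΦn : ∀ A : Subgroup G, A ≤ normalizer (((frattini N).map N.subtype : Subgroup G) : Set G) := fun A =>
    (hnN A).trans (Cfsg.Agent.Lib.PCoreTools.normalizer_le_of_characteristic (H := N)
      (frattini_characteristic (G := N)))
  have hΦle : (frattini N).map N.subtype ≤ N := by
    rintro _ ⟨x, _, rfl⟩
    exact x.2
  have hcop : ∀ A K : Subgroup G, A ≤ H → K ≤ N → (Nat.card A).Coprime (Nat.card K) := by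
    intro A K hA hK
    obtain ⟨n, hn⟩ := IsPGroup.iff_card.1 (hNt.to_le hK)
    rw [hn]
    refine Nat.Coprime.pow_right n ?_
    refine ((Nat.Prime.coprime_iff_not_dvd htp).2 fun hd => htH (hd.trans ?_)).symm
    exact Subgroup.card_dvd_of_le hA
  have hsolA : ∀ A : Subgroup G, Group.IsSolvable A := fun A => inferInstance
  let ρ : Representation (ZMod t) H V := D.ρ.comp H.subtype
  have hfd : FiniteDimensional (ZMod t) V := Module.Finite.of_finite
  have hoH : ∀ x : H, (orderOf x).Prime → orderOf x ≠ t := by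
    intro x hx hxt
    apply htH
    rw [← hxt]
    exact orderOf_dvd_natCard x
  have cx : Cx ρ := by
    refine ⟨?_, ?_, ?_, ?_⟩
    · intro x hx
      have hx' : D.ρ (x : G) = 1 := hx
      have hle : zpowers (x : G) ≤ H := by rw [zpowers_le]; exact x.2
      have h1 : zpowers (x : G) ≤ centralizer (N : Set G) := by
        apply le_centralizer_of_frattini (hnN _)
        · have h2 := hcop (zpowers (x : G)) ((frattini N).map N.subtype) hle hΦle
          rwa [Subgroup.card_map_of_injective N.subtype_injective] at h2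
        · intro g hg a ha
          have h2 : D.ρ g = 1 := by
            obtain ⟨k, rfl⟩ := mem_zpowers_iff.1 hg
            have h3 : D.ρ.toHomUnits (x : G) = 1 := Units.ext hx'
            have h4 : D.ρ.toHomUnits ((x : G) ^ k) = 1 := by rw [map_zpow, h3, one_zpow]
            exact congrArg Units.val h4
          exact (D.ρ_eq_one_iff g).1 h2 a ha
      have h2 : (x : G) ∈ N := hC (h1 (mem_zpowers _))
      have h3 := hcop (zpowers (x : G)) (zpowers (x : G)) hle (by rw [zpowers_le]; exact h2)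
      rw [Nat.coprime_self, Nat.card_zpowers, orderOf_eq_one_iff] at h3
      exact Subtype.ext h3
    · intro h1
      exact htH ((ZMod.natCast_eq_zero_iff _ _).1 h1)
    · intro y z hy hz hyz hc v hyv hzv
      by_contra hv
      obtain ⟨a, rfl⟩ := D.surj v
      let S : Subgroup G :=
        { carrier := {g | D.ρ g (D.π a) = D.π a}
          mul_mem' := by
            intro g g' hg hg'
            change D.ρ (g * g') (D.π a) = D.π a
            rw [map_mul, Module.End.mul_apply]
            rw [show D.ρ g' (D.π a) = D.π a from hg', show D.ρ g (D.π a) = D.π a from hg]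
          one_mem' := by
            change D.ρ 1 (D.π a) = D.π a
            rw [map_one, Module.End.one_apply]
          inv_mem' := by
            intro g hg
            change D.ρ g⁻¹ (D.π a) = D.π a
            have h1 : D.ρ g⁻¹ (D.ρ g (D.π a)) = D.π a := by
              rw [← Module.End.mul_apply, ← map_mul, inv_mul_cancel, map_one, Module.End.one_apply]
            rwa [show D.ρ g (D.π a) = D.π a from hg] at h1 }
      let A : Subgroup G := zpowers (y : G) ⊔ zpowers (z : G)
      have hAS : A ≤ S := by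
        apply sup_le
        · rw [zpowers_le]; exact hyv
        · rw [zpowers_le]; exact hzv
      have hAH : A ≤ H := by
        apply sup_le
        · rw [zpowers_le]; exact y.2
        · rw [zpowers_le]; exact z.2
      obtain ⟨c, hcA, hcΦ⟩ := exists_mem_centralizer_of_quotient (A := A) (hΦn A)
        (hcop A _ hAH hΦle) (Or.inl (hsolA A)) (a : G) ((hnN ⊤).trans (by
          exact (Cfsg.Agent.Lib.PCoreTools.normalizer_le_of_characteristic (H := N)
            (frattini_characteristic (G := N)))) (mem_top _))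
        (by
          intro g hg
          have h1 : D.ρ g (D.π a) = D.π a := hAS hg
          rw [D.apply] at h1
          have h2 : D.π (⟨g * a * g⁻¹, D.conj_mem g a⟩ * a⁻¹) = 0 := by
            rw [D.map_mul, D.map_inv, h1, add_neg_cancel]
          rw [D.map_eq_zero] at h2
          exact ⟨_, h2, rfl⟩)
      have hcN : c ∈ N := by
        have h1 := mul_mem a.2 (hΦle hcΦ)
        rwa [mul_inv_cancel_left] at h1
      have hc1 : c ≠ 1 := by
        rintro rfl
        apply hv
        obtain ⟨b, hb, hb'⟩ := hcΦ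
        have h1 : b = a⁻¹ := Subtype.ext (by
          have h3 : (b : G) = (a : G)⁻¹ * 1 := hb'
          rw [h3, mul_one]; rfl)
        have h2 := (D.map_eq_zero b).2 hb
        rw [h1, D.map_inv, neg_eq_zero] at h2
        exact h2
      -- a power of `c` has order `t`
      have hct : ∃ k, orderOf (⟨c, hcN⟩ : N) = t ^ k := (IsPGroup.iff_orderOf.1 hNt) ⟨c, hcN⟩
      obtain ⟨k, hk⟩ := hct
      rw [Subgroup.orderOf_mk] at hk
      have hk0 : k ≠ 0 := by
        rintro rfl
        rw [pow_zero, orderOf_eq_one_iff] at hk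
        exact hc1 hk
      obtain ⟨m, rfl⟩ := Nat.exists_eq_succ_of_ne_zero hk0
      have ho : orderOf (c ^ t ^ m) = t := by
        rw [orderOf_pow_of_dvd (pow_ne_zero _ htp.ne_zero) (by rw [hk]; exact pow_dvd_pow _ (Nat.le_succ m)), hk,
          Nat.succ_eq_add_one, pow_succ, Nat.mul_div_cancel_left _ (pow_pos htp.pos m)]
      rw [mem_centralizer_iff] at hcA
      have hyc : Commute (y : G) c := hcA _ (mem_sup_left (mem_zpowers _))
      have hzc : Commute (z : G) c := hcA _ (mem_sup_right (mem_zpowers _))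
      have hoy : orderOf (y : G) = orderOf y := Subgroup.orderOf_coe y
      have hoz : orderOf (z : G) = orderOf z := Subgroup.orderOf_coe z
      refine h.trip (y : G) (z : G) (c ^ t ^ m) (by rw [hoy]; exact hy) (by rw [hoz]; exact hz)
        (by rw [ho]; exact htp) (by rw [hoy, hoz]; exact hyz) (by rw [hoz, ho]; exact hoH z hz)
        (by rw [hoy, ho]; exact hoH y hy) ?_ (hzc.pow_right _) (hyc.pow_right _)
      exact congrArg Subtype.val hc
    · intro x y z hx hy hz hxy hyz hxz c1 c2 c3
      refine h.trip (x : G) (y : G) (z : G) ?_ ?_ ?_ ?_ ?_ ?_ (congrArg Subtype.val c1) (congrArg Subtype.val c2)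
        (congrArg Subtype.val c3) <;> simp only [Subgroup.orderOf_coe] <;> assumption
  refine hfinal H V t ρ cx (hsolA H) (σ.erase t) (by rw [Finset.card_erase_of_mem ht, h.card])
    (fun p hp => h.prime p (Finset.mem_of_mem_erase hp)) ?_ ?_ ?_
  · intro s hs hd
    refine Finset.mem_erase.2 ⟨?_, h.hG s hs (hd.trans (card_subgroup_dvd_card H))⟩
    rintro rfl
    exact htH hd
  · intro p hp q hq hpq
    obtain ⟨hpt, hpσ⟩ := Finset.mem_erase.1 hp
    obtain ⟨hqt, hqσ⟩ := Finset.mem_erase.1 hq
    obtain ⟨y, z, hy, hz, hc⟩ := h.pairs p hpσ q hqσ hpq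
    have hpp := h.prime p hpσ
    have hqp := h.prime q hqσ
    have ho : orderOf (y * z) = p * q := by
      rw [hc.orderOf_mul_eq_mul_orderOf_of_coprime, hy, hz]
      rw [hy, hz]
      exact (Nat.coprime_primes hpp hqp).2 hpq
    obtain ⟨g, hg⟩ := HallPi.exists_conj_le H (zpowers (y * z)) hH0 (by
      intro s hs hd hst
      have hst' : s = t := hst
      rw [Nat.card_zpowers, ho] at hd
      rcases (Nat.Prime.dvd_mul hs).1 hd with h1 | h1
      · exact hpt (((Nat.prime_dvd_prime_iff_eq hs hpp).1 h1).symm.trans hst')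
      · exact hqt (((Nat.prime_dvd_prime_iff_eq hs hqp).1 h1).symm.trans hst'))
    obtain ⟨x, hx, hxg⟩ := hg (mem_zpowers (y * z))
    have hxo : orderOf (⟨x, hx⟩ : H) = p * q := by
      rw [Subgroup.orderOf_mk, ← ho, ← hxg]
      exact ((MulAut.conj g).orderOf_eq x).symm
    refine ⟨⟨x, hx⟩ ^ q, ⟨x, hx⟩ ^ p, ?_, ?_, Commute.pow_pow_self _ _ _⟩
    · rw [orderOf_pow_of_dvd hqp.ne_zero (by rw [hxo]; exact Dvd.intro_left _ rfl), hxo,
        Nat.mul_div_cancel _ hqp.pos]
    · rw [orderOf_pow_of_dvd hpp.ne_zero (by rw [hxo]; exact Dvd.intro _ rfl), hxo,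
        Nat.mul_div_cancel_left _ hpp.pos]
  · intro q hq
    obtain ⟨hqt, hqσ⟩ := Finset.mem_erase.1 hq
    obtain ⟨E, hE⟩ := hee q hqσ
    obtain ⟨g, hg⟩ := HallPi.exists_conj_le H E hH0 (EE.piNum hE hqt)
    refine ⟨E.comap ((MulAut.conj g).toMonoidHom.comp H.subtype), EE.comap hE _ ?_ ?_⟩
    · intro a b hab
      exact Subtype.ext ((MulAut.conj g).injective hab)
    · intro e he
      obtain ⟨x, hx, hxg⟩ := hg he
      exact ⟨⟨x, hx⟩, hxg⟩

end Cfsg.Agent.Lib.H48TriP6
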