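import Cfsg.Agent.Lib.H48TriC

/-!
Step C for S3814 (helper48).
-/

set_option autoImplicit false
set_option linter.all false

namespace Cfsg.Agent.Lib.H48TriP7

open Subgroup Module Cfsg.Agent.Lib.RepFix Cfsg.Agent.Lib.ModRep Cfsg.Agent.Lib.H48TriA Cfsg.Agent.Lib.H48TriB
open Cfsg.Agent.Lib.H48TriC
open Cfsg.Agent.Lib.CoprimeAction Cfsg.Agent.Lib.CoprimeAction2
open scoped commutatorElement

universe u v w

variable {H : Type u} [Group H] [Finite H]
variable {F : Type w} {V : Type v} [Field F] [AddCommGroup V] [Module F V] [FiniteDimensional F V]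
  {ρ : Representation F H V}

theorem odd_of_isPGroup {p : ℕ} (hp : p.Prime) (hp2 : p ≠ 2) {U : Subgroup H} (hU : IsPGroup p U) :
    Odd (Nat.card U) := by
  have := Fact.mk hp
  obtain ⟨n, hn⟩ := hU.exists_card_eq
  rw [hn]
  exact (hp.odd_of_ne_two hp2).pow

theorem top_ne_bot (h : Cx ρ) {x : H} (hx1 : x ≠ 1) : (⊤ : Submodule F V) ≠ ⊥ := by
  intro h'
  apply hx1
  apply h.inj
  ext v
  have h6 : ∀ v : V, v = 0 := fun v => (Submodule.mem_bot F).1 (h' ▸ Submodule.mem_top)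
  rw [h6 (ρ x v), h6 ((1 : V →ₗ[F] V) v)]

theorem half (h : Cx ρ) {p q r : ℕ} (hp : p.Prime) (hq : q.Prime)
    (hr : r.Prime) (hpq : p ≠ q) (hqr : q ≠ r) (hpr : p ≠ r) {A X : Subgroup H}
    (hA : EA p A) (hX : EA q X) (hX1 : X ≠ ⊥) (hAX : ∀ a ∈ A, ∀ x ∈ X, Commute a x)
    {z z' : H} (hz : orderOf z = r) (hz' : orderOf z' = r) (hc : Commute z z')
    (hzA : z ∈ normalizer (A : Set H)) (hz'A : z' ∈ normalizer (A : Set H))
    (hzX : z ∈ normalizer (X : Set H)) (hzf : ∀ x ∈ X, Commute z x → x = 1)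
    (hz'f : ∀ a ∈ A, Commute z' a → a = 1) {a : H} (ha : a ∈ A) (ha1 : a ≠ 1) (hza : Commute z a) :
    r ∣ p - 1 ∧ ∀ w, ρ a w = w → w = 0 := by
  obtain ⟨x, hx, hx1⟩ := exists_ne_one hX1
  have hox : orderOf x = q := hX.order hq hx hx1
  have k1 : ∀ a ∈ A, a ≠ 1 → Commute z a → ∀ w, ρ a w = w → w = 0 := by
    intro a ha ha1 hza w hw
    have hoa : orderOf a = p := hA.order hp ha ha1
    have h6 := frob1 ρ (K := X) (z := z) (by rw [hz]; exact hr) hzX hzf (h.cF X) (fx ρ a)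
      (fun k hk w hw => fx_inv (hAX a ha k hk).symm hw)
      (fun w hw => fx_inv hza hw)
      (fun w hw hzw => h.II1 z a (by rw [hz]; exact hr) (by rw [hoa]; exact hp) (by rw [hz, hoa]; exact hpr.symm)
        hza w hzw (mem_fx.1 hw)) x hx w (mem_fx.2 hw)
    exact h.II1 x a (by rw [hox]; exact hq) (by rw [hoa]; exact hp) (by rw [hox, hoa]; exact hpq.symm)
      (hAX a ha x hx).symm w h6 hw
  refine ⟨?_, k1 a ha ha1 hza⟩
  set C : Subgroup H := A ⊓ centralizer (zpowers z : Set H) with hC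
  have hCA : EA p C := hA.mono inf_le_left
  have hCE : ¬ EE p C := by
    intro hE
    exact Cx.noEE h hE ⊤ (top_ne_bot h hx1) (fun _ _ _ _ => Submodule.mem_top)
      (fun e he he1 w _ hew => k1 e he.1 he1 (mem_cent.1 he).2 w hew)
  obtain ⟨a1, ha1C, hag⟩ := EA.cyc hp hCA hCE
  have ha11 : a1 ≠ 1 := by
    rintro rfl
    have := hag a (mem_cent.2 ⟨ha, hza⟩)
    rw [zpowers_one_eq_bot, mem_bot] at this
    exact ha1 this
  have hoa1 : orderOf a1 = p := hCA.order hp ha1C ha11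
  have hn : z' ∈ normalizer (C : Set H) := norm_cent hz'A hc
  have h7 := dvd_sub_one (c := a1) (z := z') (by rw [hoa1]; exact hp) (by rw [hz']; exact hr)
    (hag _ ((mem_normalizer_iff.1 hn a1).1 ha1C)) (fun hc => ha11 (hz'f a1 ha1C.1 hc))
  rwa [hz', hoa1] at h7

theorem stepC (h : Cx ρ) {p q r : ℕ} (hp : p.Prime) (hq : q.Prime)
    (hr : r.Prime) (hpq : p ≠ q) (hqr : q ≠ r) (hpr : p ≠ r) {E A X U : Subgroup H} (hE : EE r E)
    (hA : EA p A) (hA1 : A ≠ ⊥) (hX : EA q X) (hX1 : X ≠ ⊥) (hAX : ∀ a ∈ A, ∀ x ∈ X, Commute a x)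
    (hEA : E ≤ normalizer (A : Set H)) (hEX : E ≤ normalizer (X : Set H)) (hU : IsPGroup p U)
    (hXU : X ≤ normalizer (U : Set H)) :
    r ∣ p - 1 ∧ r ∣ q - 1 ∧ ∃ x ∈ X, x ≠ 1 ∧ (∀ v, ρ x v = v → v = 0) ∧ ∀ c ∈ U, Commute x c := by
  obtain ⟨z, hz, hz1, a, ha, ha1, hza⟩ := hE.fixG hA1 hEA (hA.not_dvd hp hr hpr)
  obtain ⟨z', hz', hz'1, x, hx, hx1, hz'x⟩ := hE.fixG hX1 hEX (hX.not_dvd hq hr hqr)
  have hoz : orderOf z = r := hE.order hz hz1
  have hoz' : orderOf z' = r := hE.order hz' hz'1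
  have hoa : orderOf a = p := hA.order hp ha ha1
  have hox : orderOf x = q := hX.order hq hx hx1
  have hzf : ∀ x ∈ X, Commute z x → x = 1 := by
    intro x hx hc
    by_contra hx1
    have hox : orderOf x = q := hX.order hq hx hx1
    exact h.II2 a x z (by rw [hoa]; exact hp) (by rw [hox]; exact hq) (by rw [hoz]; exact hr)
      (by rw [hoa, hox]; exact hpq) (by rw [hox, hoz]; exact hqr) (by rw [hoa, hoz]; exact hpr)
      (hAX a ha x hx) hc.symm hza.symm
  have hz'f : ∀ a ∈ A, Commute z' a → a = 1 := by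
    intro a ha hc
    by_contra ha1
    have hoa : orderOf a = p := hA.order hp ha ha1
    exact h.II2 a x z' (by rw [hoa]; exact hp) (by rw [hox]; exact hq) (by rw [hoz']; exact hr)
      (by rw [hoa, hox]; exact hpq) (by rw [hox, hoz']; exact hqr) (by rw [hoa, hoz']; exact hpr)
      (hAX a ha x hx) hz'x.symm hc.symm
  have hc : Commute z z' := hE.ab z hz z' hz'
  obtain ⟨d1, -⟩ := half h hp hq hr hpq hqr hpr hA hX hX1 hAX hoz hoz' hc (hEA hz) (hEA hz') (hEX hz) hzf hz'f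
    ha ha1 hza
  obtain ⟨d2, k2⟩ := half h hq hp hr hpq.symm hpr hqr hX hA hA1 (fun x hx a ha => (hAX a ha x hx).symm)
    hoz' hoz hc.symm (hEX hz') (hEX hz) (hEA hz') hz'f hzf hx hx1 hz'x
  refine ⟨d1, d2, x, hx, hx1, k2, ?_⟩
  have hp2 : p ≠ 2 := by
    rintro rfl
    have := Nat.le_of_dvd (by omega) d1
    have := hr.two_le
    omega
  have hq2 : q ≠ 2 := by
    rintro rfl
    have := Nat.le_of_dvd (by omega) d2
    have := hr.two_le
    omega
  have := Fact.mk hp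
  have h8 := BG03a.commutator_trivial ρ U (zpowers x) (zpowers_le.2 (hXU hx))
    (by rw [Nat.card_zpowers, hox]; exact hq)
    (by
      obtain ⟨n, hn⟩ := hU.exists_card_eq
      rw [Nat.card_zpowers, hox, hn]
      exact Nat.Coprime.pow_right _ ((Nat.coprime_primes hq hp).2 hpq.symm))
    (odd_of_isPGroup hp hp2 hU)
    (by rw [Nat.card_zpowers, hox]; exact hq.odd_of_ne_two hq2)
    (h.cF U) (h.cF _)
    (by
      rw [eq_bot_iff]
      intro v hv
      exact (Submodule.mem_bot F).2 (k2 v (mem_fx.1 hv)))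
  have h9 : ⁅U, zpowers x⁆ = ⊥ := by
    rw [eq_bot_iff]
    intro g hg
    exact mem_bot.2 (h.inj g (h8 g hg))
  rw [commutator_eq_bot_iff_le_centralizer] at h9
  intro c hc
  exact mem_centralizer_iff.1 (h9 hc) x (mem_zpowers x)

end Cfsg.Agent.Lib.H48TriP7
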