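import Cfsg.Agent.Lib.H48TriP8a

/-!
Piece P8 of S3814 (helper66): steps B, D, E (with Step A and Step C as hypotheses `StepA`, `StepC`).
-/

set_option autoImplicit false

namespace Cfsg.Agent.Lib.H48TriP8

open Subgroup Module Cfsg Cfsg.Agent.Lib.H48TriA Cfsg.Agent.Lib.H48TriB Cfsg.Agent.Lib.H48TriP8a
open Cfsg.Agent.Lib.CoprimeAction Cfsg.Agent.Lib.CoprimeAction2 Cfsg.Agent.Lib.HallPi
open scoped commutatorElement Pointwise

universe u v w

variable {H : Type u} [Group H] [Finite H] {F : Type w} {V : Type v} [Field F] [AddCommGroup V] [Module F V]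
    [FiniteDimensional F V] {ρ : Representation F H V}

/-- statement of step A -/
def StepA (H : Type u) [Group H] : Prop :=
  ∀ {p q r : ℕ}, p.Prime → q.Prime → r.Prime → p ≠ q → q ≠ r → p ≠ r → ∀ {L A X : Subgroup H},
    Group.IsSolvable L → (∀ s, s.Prime → s ∣ Nat.card L → s = q ∨ s = r) →
    (∃ y ∈ L, ∃ z ∈ L, orderOf y = q ∧ orderOf z = r ∧ Commute y z) →
    (∃ E ≤ L, EE q E) → (∃ E ≤ L, EE r E) → EA p A → A ≠ ⊥ → L ≤ normalizer (A : Set H) → X ≤ L →
    L ≤ normalizer (X : Set H) → EA q X → X ≠ ⊥ → X ⊓ centralizer (A : Set H) = ⊥ → False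

/-- statement of step C -/
def StepC (ρ : Representation F H V) : Prop :=
  ∀ {p q r : ℕ}, p.Prime → q.Prime → r.Prime → p ≠ q → q ≠ r → p ≠ r → ∀ {E A X U : Subgroup H}, EE r E →
    EA p A → A ≠ ⊥ → EA q X → X ≠ ⊥ → (∀ a ∈ A, ∀ x ∈ X, Commute a x) → E ≤ normalizer (A : Set H) →
    E ≤ normalizer (X : Set H) → IsPGroup p U → X ≤ normalizer (U : Set H) →
    r ∣ p - 1 ∧ r ∣ q - 1 ∧ ∃ x ∈ X, x ≠ 1 ∧ (∀ v, ρ x v = v → v = 0) ∧ ∀ c ∈ U, Commute x c

omit [Finite H] in
theorem exists_ne {A : Subgroup H} (h : A ≠ ⊥) : ∃ a ∈ A, a ≠ 1 := by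
  obtain ⟨⟨a, haA⟩, ha1'⟩ := Subgroup.ne_bot_iff_exists_ne_one.1 h
  exact ⟨a, haA, fun h => ha1' (Subtype.ext h)⟩

theorem nz_of_normal {A : Subgroup H} (hA : A.Normal) (L : Subgroup H) : L ≤ normalizer (A : Set H) := by
  rw [normalizer_eq_top]; exact le_top

theorem inC (hSA : StepA H) [hs : Group.IsSolvable H] {p q r : ℕ} (hp : p.Prime) (hq : q.Prime)
    (hr : r.Prime) (hpq : p ≠ q) (hqr : q ≠ r) (hpr : p ≠ r) {L A X : Subgroup H} (hL : LD q r L)
    (hA : EA p A) (hA1 : A ≠ ⊥) (hAn : A.Normal) (hXL : X ≤ L) (hLX : L ≤ normalizer (X : Set H))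
    (hX : EA q X) (hX1 : X ≠ ⊥) : X ⊓ centralizer (A : Set H) ≠ ⊥ := fun h0 =>
  hSA hp hq hr hpq hqr hpr inferInstance hL.dvd hL.hyz hL.hEq hL.hEr hA hA1 (nz_of_normal hAn L) hXL hLX hX
    hX1 h0

theorem inf_bot {q r : ℕ} (hq : q.Prime) (hqr : q ≠ r) (hr : r.Prime) {X Y : Subgroup H} (hX : IsPGroup q X)
    (hY : IsPGroup r Y) : X ⊓ Y = ⊥ := by
  rw [eq_bot_iff]
  rintro x ⟨hx, hy⟩
  rw [mem_bot]
  have := Fact.mk hq
  have := Fact.mk hr
  obtain ⟨m, hm⟩ := (IsPGroup.iff_orderOf.1 hX) ⟨x, hx⟩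
  obtain ⟨n, hn⟩ := (IsPGroup.iff_orderOf.1 hY) ⟨x, hy⟩
  rw [Subgroup.orderOf_mk] at hm hn
  rw [hm] at hn
  have h1 : m = 0 := by
    by_contra h
    have h2 : q ∣ r ^ n := by rw [← hn]; exact dvd_pow_self q h
    exact hqr ((Nat.prime_dvd_prime_iff_eq hq hr).1 (hq.dvd_of_dvd_pow h2))
  rw [h1, pow_zero] at hm
  exact orderOf_eq_one_iff.1 hm

theorem comm_of_inf {X Y : Subgroup H} (hX : X ≤ normalizer (Y : Set H)) (hY : Y ≤ normalizer (X : Set H))
    (h : X ⊓ Y = ⊥) : ∀ x ∈ X, ∀ y ∈ Y, Commute x y := by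
  have h1 : ⁅X, Y⁆ = ⊥ := by
    rw [eq_bot_iff, ← h]
    exact le_inf (LocBase.commutator_le_left_of_le hY) (LocBase.commutator_le_right_of_le hX)
  rw [commutator_eq_bot_iff_le_centralizer] at h1
  intro x hx y hy
  exact (mem_centralizer_iff.1 (h1 hx) y hy).symm

/-- Step B -/
theorem stepB (hSA : StepA H) (h : Cx ρ) [hs : Group.IsSolvable H] {p q r : ℕ} (hp : p.Prime) (hq : q.Prime)
    (hr : r.Prime) (hpq : p ≠ q) (hqr : q ≠ r) (hpr : p ≠ r) {L A X Y : Subgroup H} (hL : LD q r L)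
    (hA : EA p A) (hA1 : A ≠ ⊥) (hAn : A.Normal) (hXL : X ≤ L) (hLX : L ≤ normalizer (X : Set H))
    (hX : EA q X) (hX1 : X ≠ ⊥) (hYL : Y ≤ L) (hLY : L ≤ normalizer (Y : Set H))
    (hY : EA r Y) (hY1 : Y ≠ ⊥) : False := by
  obtain ⟨x, ⟨hxX, hxC⟩, hx1⟩ := exists_ne (inC hSA hp hq hr hpq hqr hpr hL hA hA1 hAn hXL hLX hX hX1)
  obtain ⟨y, ⟨hyY, hyC⟩, hy1⟩ := exists_ne (inC hSA hp hr hq hpr hqr.symm hpq hL.symm hA hA1 hAn hYL hLY hY hY1)
  obtain ⟨a, haA, ha1⟩ := exists_ne hA1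
  have hax : Commute a x := mem_centralizer_iff.1 hxC a haA
  have hay : Commute a y := mem_centralizer_iff.1 hyC a haA
  have hxy : Commute x y := comm_of_inf (hXL.trans hLY) (hYL.trans hLX)
    (inf_bot hq hqr hr hX.isPGroup hY.isPGroup) x hxX y hyY
  have hoa := hA.order hp haA ha1
  have hox := hX.order hq hxX hx1
  have hoy := hY.order hr hyY hy1
  exact h.II2 a x y (by rw [hoa]; exact hp) (by rw [hox]; exact hq) (by rw [hoy]; exact hr)
    (by rw [hoa, hox]; exact hpq) (by rw [hox, hoy]; exact hqr) (by rw [hoa, hoy]; exact hpr) hax hxy hay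

/-- no nontrivial `L`-invariant elementary abelian `r`-subgroup of `L` -/
def No (r : ℕ) (L : Subgroup H) : Prop :=
  ∀ X : Subgroup H, X ≤ L → L ≤ normalizer (X : Set H) → EA r X → X = ⊥

theorem pCore_eq_bot_of_no [hs : Group.IsSolvable H] {q r : ℕ} (hr : r.Prime) {L : Subgroup H} (hL : LD q r L)
    (hno : No r L) : pCore r H = ⊥ := by
  by_contra h0
  obtain ⟨A, hA, -, hA1, hAe⟩ := exists_EA_of_pgroup hr (Fitting.normal_pCore r) (Fitting.isPGroup_pCore r) h0
  exact hA1 (hno A (hL.le hr (Or.inr rfl) hA hAe) (nz_of_normal hA L) hAe)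

/-- the Fitting subgroup centralizes `x` as soon as all `O_s` do -/
theorem mem_centralizer_fitting {x : H} (h : ∀ s, s.Prime → ∀ c ∈ pCore s H, Commute x c) :
    x ∈ centralizer (fittingSubgroup H : Set H) := by
  have h1 : fittingSubgroup H ≤ centralizer {x} := by
    rw [Fitting.fittingSubgroup_eq_iSup_pCore]
    apply iSup_le
    rintro ⟨s, hs⟩ c hc
    exact mem_centralizer_singleton_iff.2 (h s hs c hc).symm
  rw [mem_centralizer_iff]
  intro c hc
  exact mem_centralizer_singleton_iff.1 (h1 hc)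

theorem pCore_bot_of_not_dvd {s : ℕ} (hs : s.Prime) (h : ¬ s ∣ Nat.card H) : pCore s H = ⊥ := by
  have := Fact.mk hs
  obtain ⟨n, hn⟩ := (Fitting.isPGroup_pCore s (G := H)).exists_card_eq
  rcases Nat.eq_zero_or_pos n with h0 | h0
  · rw [h0, pow_zero] at hn
    exact Subgroup.card_eq_one.1 hn
  · exfalso
    apply h
    refine dvd_trans (dvd_pow_self s h0.ne') ?_
    rw [← hn]
    exact card_subgroup_dvd_card _

theorem mem_pgroup_order {p q : ℕ} (hp : p.Prime) (hq : q.Prime) (hpq : p ≠ q) {U : Subgroup H}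
    (hU : IsPGroup p U) {x : H} (hx : orderOf x = q) : x ∉ U := by
  intro hxU
  apply not_dvd_of_pgroup hp hq hpq hU
  rw [← hx, ← Nat.card_zpowers]
  exact card_dvd_of_le (zpowers_le.2 hxU)

/-- Steps C and D -/
theorem stepCD (hSA : StepA H) (hSC : StepC ρ) [hs : Group.IsSolvable H] {p q r : ℕ} (hp : p.Prime)
    (hq : q.Prime) (hr : r.Prime) (hpq : p ≠ q) (hqr : q ≠ r) (hpr : p ≠ r)
    (hH : ∀ s, s.Prime → s ∣ Nat.card H → s = p ∨ s = q ∨ s = r) (hU : pCore p H ≠ ⊥) {L : Subgroup H}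
    (hL : LD q r L) (hno : No r L) : r ∣ p - 1 ∧ r ∣ q - 1 ∧ pCore q H ≠ ⊥ := by
  obtain ⟨A, hAn, hAU, hA1, hA⟩ := exists_EA_of_pgroup hp (Fitting.normal_pCore p) (Fitting.isPGroup_pCore p) hU
  -- a minimal normal subgroup of `L`
  have hLs : Group.IsSolvable L := inferInstance
  have htop : (⊤ : Subgroup L) ≠ ⊥ := by
    obtain ⟨y, hy, z, hz, hoy, hoz, hc⟩ := hL.hyz
    intro h
    have h1 : (⟨y, hy⟩ : L) ∈ (⊤ : Subgroup L) := mem_top _
    rw [h, mem_bot] at h1
    have h2 : y = 1 := congrArg Subtype.val h1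
    rw [h2, orderOf_one] at hoy
    exact hq.one_lt.ne hoy
  obtain ⟨s, hsp, hsd, X, hXL, hX1, hX, hLX⟩ := exists_EA_sub hLs (N := (⊤ : Subgroup L)) inferInstance htop
  have hsq : s = q := by
    have h1 : s ∣ Nat.card L := by rwa [Subgroup.card_top] at hsd
    rcases hL.dvd s hsp h1 with h | h
    · exact h
    · subst h
      exact absurd (hno X hXL hLX hX) hX1
  subst hsq
  have hX1' := inC hSA hp hq hr hpq hqr hpr hL hA hA1 hAn hXL hLX hX hX1
  obtain ⟨E, hEL, hE⟩ := hL.hEr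
  have hAL : L ≤ normalizer (A : Set H) := nz_of_normal hAn L
  have hLX' : L ≤ normalizer ((X ⊓ centralizer (A : Set H) : Subgroup H) : Set H) :=
    LocBase.le_normalizer_inf hLX (LocBase.le_normalizer_centralizer hAL)
  obtain ⟨h1, h2, x, ⟨hxX, hxC⟩, hx1, hxV, hxU⟩ := hSC hp hq hr hpq hqr hpr (U := pCore p H) hE hA hA1
    (hX.mono inf_le_left) hX1' (fun a ha x hx => mem_centralizer_iff.1 hx.2 a ha) (hEL.trans hAL)
    (hEL.trans hLX') (Fitting.isPGroup_pCore p) (nz_of_normal (Fitting.normal_pCore p) _)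
  refine ⟨h1, h2, ?_⟩
  intro hV
  have hr0 := pCore_eq_bot_of_no hr hL hno
  have h3 : x ∈ centralizer (fittingSubgroup H : Set H) := by
    apply mem_centralizer_fitting
    intro t ht c hc
    by_cases htp : t = p
    · subst htp; exact hxU c hc
    · have h4 : pCore t H = ⊥ := by
        by_cases htq : t = s
        · rw [htq]; exact hV
        · by_cases htr : t = r
          · rw [htr]; exact hr0
          · apply pCore_bot_of_not_dvd ht
            intro hd
            rcases hH t ht hd with h | h | h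
            exacts [htp h, htq h, htr h]
      rw [h4, mem_bot] at hc
      rw [hc]; exact Commute.one_right x
  have h4 := Fitting.centralizer_fittingSubgroup_le h3
  have := Fact.mk hq
  have hox := hX.order hq hxX hx1
  have hox' : IsPGroup s (zpowers x) := IsPGroup.of_card (n := 1) (by rw [Nat.card_zpowers, pow_one, hox])
  have h5 := le_pCore_of_le_fitting (zpowers_le.2 h4) hox' (mem_zpowers x)
  rw [hV, mem_bot] at h5
  exact hx1 h5

/-- Step E, first part: not both noncyclic. -/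
theorem stepE0 (h : Cx ρ) {p q : ℕ} (hp : p.Prime) (hq : q.Prime) (hpq : p ≠ q) {E1 E2 : Subgroup H}
    (h1 : EE p E1) (h2 : EE q E2) (hc : ∀ a ∈ E1, ∀ b ∈ E2, Commute a b) : False := by
  -- `V ≠ 0`
  obtain ⟨x, hx, hx1⟩ := h2.nc 1 (one_mem _)
  rw [zpowers_one_eq_bot, mem_bot] at hx1
  have hox := h2.order hx hx1
  have hV : (⊤ : Submodule F V) ≠ ⊥ := by
    intro h0
    apply hx1
    apply h.inj
    ext v
    have h3 : v ∈ (⊤ : Submodule F V) := Submodule.mem_top
    rw [h0, Submodule.mem_bot] at h3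
    rw [h3, map_zero, map_zero]
  have hqF : (q : F) ≠ 0 := by rw [← hox]; exact h.oF x
  obtain ⟨e2, he2, he21, w, -, hw0, hw⟩ := h2.fixV ρ hqF ⊤ hV (fun _ _ _ _ => Submodule.mem_top)
  obtain ⟨x', hx', hx1'⟩ := h1.nc 1 (one_mem _)
  rw [zpowers_one_eq_bot, mem_bot] at hx1'
  have hox' := h1.order hx' hx1'
  have hpF : (p : F) ≠ 0 := by rw [← hox']; exact h.oF x'
  have hW : fx ρ e2 ≠ ⊥ := by
    intro h0
    have h3 : w ∈ fx ρ e2 := mem_fx.2 hw
    rw [h0, Submodule.mem_bot] at h3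
    exact hw0 h3
  obtain ⟨e1, he1, he11, w1, hw1, hw10, hw1'⟩ := h1.fixV ρ hpF (fx ρ e2) hW
    (fun k hk v hv => fx_inv (hc k hk e2 he2) hv)
  have ho1 := h1.order he1 he11
  have ho2 := h2.order he2 he21
  exact hw10 (h.II1 e1 e2 (by rw [ho1]; exact hp) (by rw [ho2]; exact hq) (by rw [ho1, ho2]; exact hpq)
    (hc e1 he1 e2 he2) w1 hw1' (mem_fx.1 hw1))

/-- Step E, second part. -/
theorem stepE (h : Cx ρ) [hs : Group.IsSolvable H] {p q r : ℕ} (hp : p.Prime) (hq : q.Prime)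
    (hr : r.Prime) (hpq : p ≠ q) (hqr : q ≠ r) (hpr : p ≠ r)
    (hH : ∀ s, s.Prime → s ∣ Nat.card H → s = p ∨ s = q ∨ s = r) (hq2 : q ≠ 2) (hV : pCore q H ≠ ⊥)
    {L : Subgroup H} (hL : LD q r L) (hno : No r L) (hnE : ∀ E : Subgroup H, E ≤ pCore q H → ¬ EE q E) :
    False := by
  have := Fact.mk hp
  have := Fact.mk hq
  have := Fact.mk hr
  have hUn : (pCore p H).Normal := Fitting.normal_pCore p
  have hVn : (pCore q H).Normal := Fitting.normal_pCore q
  have hUp := Fitting.isPGroup_pCore p (G := H)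
  have hVp := Fitting.isPGroup_pCore q (G := H)
  have hr0 := pCore_eq_bot_of_no hr hL hno
  have hUV : ∀ a ∈ pCore p H, ∀ b ∈ pCore q H, Commute a b :=
    comm_of_inf (nz_of_normal hVn _) (nz_of_normal hUn _) (inf_bot hp hpq hq hUp hVp)
  -- the element `y`
  obtain ⟨B, hBn, hBV, hB1, hB⟩ := exists_EA_of_pgroup hq hVn hVp hV
  obtain ⟨y, hyB, hy1⟩ := exists_ne hB1
  have hoy := hB.order hq hyB hy1
  have hyV := hBV hyB
  -- all of `B` is `⟨y⟩`, so are all elements of order `q` of `O_q(H)`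
  have hBy : B = zpowers y := by
    apply le_antisymm _ (zpowers_le.2 hyB)
    intro b hb
    by_contra hby
    have hb1 : b ≠ 1 := by rintro rfl; exact hby (one_mem _)
    exact hnE _ (sup_le (zpowers_le.2 hyV) (zpowers_le.2 (hBV hb)))
      (EE.mk' hq hoy (hB.order hq hb hb1) (hB.ab y hyB b hb) hby)
  -- `y` is centralized by `O_q(H)`
  have hcardB : Nat.card B = q := by rw [hBy, Nat.card_zpowers, hoy]
  have hycen : ∀ v ∈ pCore q H, Commute y v := by
    have h1 := commutator_lt_of_pgroup (P := pCore q H) (U := B) hVp hB.isPGroup (nz_of_normal hBn _) hB1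
    have h2 : ⁅B, pCore q H⁆ = ⊥ := by
      rw [← Subgroup.card_eq_one]
      have h3 : Nat.card (⁅B, pCore q H⁆ : Subgroup H) ∣ q := by
        have h5 := card_dvd_of_le h1.le
        rwa [hcardB] at h5
      rcases (Nat.dvd_prime hq).1 h3 with h4 | h4
      · exact h4
      · exfalso
        exact h1.ne (Subgroup.eq_of_le_of_card_ge h1.le (by rw [h4, hcardB]))
    rw [commutator_eq_bot_iff_le_centralizer] at h2
    intro v hv
    exact (mem_centralizer_iff.1 (h2 hyB) v hv).symm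
  have hyall : ∀ b ∈ pCore q H, b ^ q = 1 → b ∈ zpowers y := by
    intro b hb hbq
    by_contra hby
    have hb1 : b ≠ 1 := by rintro rfl; exact hby (one_mem _)
    exact hnE _ (sup_le (zpowers_le.2 hyV) (zpowers_le.2 hb))
      (EE.mk' hq hoy (orderOf_eq_prime hbq hb1) (hycen b hb) hby)
  -- the element `z`
  obtain ⟨E, hEL, hE⟩ := hL.hEr
  obtain ⟨z, hzE, hz1, n, hnB, hn1, hzn⟩ := hE.fixG hB1 (nz_of_normal hBn _)
    (by rw [hcardB]; intro hd; exact hqr ((Nat.prime_dvd_prime_iff_eq hr hq).1 hd).symm)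
  have hoz := hE.order hzE hz1
  have hzL : z ∈ L := hEL hzE
  have hzy : Commute z y := by
    rw [hBy] at hnB
    exact (commute_of_zpowers (mem_zpowers_of_prime (by rw [hoy]; exact hq) hnB hn1) hzn.symm).symm
  have hcz : Nat.card (zpowers z) = r := by rw [Nat.card_zpowers, hoz]
  have hzV : zpowers z ≤ centralizer (pCore q H : Set H) := by
    refine OmegaFix.le_centralizer_of_pow_eq_one hq2 _ _ _ rfl hVp (nz_of_normal hVn _)
      (by rw [hcz]; exact (Nat.coprime_primes hr hq).2 hqr.symm) ?_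
    intro x hx hxq a ha
    exact commute_of_zpowers ha (commute_of_zpowers (hyall x hx hxq) hzy.symm).symm
  have hfree : ∀ u ∈ pCore p H, Commute z u → u = 1 := by
    intro u hu hzu
    by_contra hu1
    obtain ⟨m, hm⟩ := (IsPGroup.iff_orderOf.1 hUp) ⟨u, hu⟩
    rw [Subgroup.orderOf_mk] at hm
    have hm0 : m ≠ 0 := by
      rintro rfl
      rw [pow_zero] at hm
      exact hu1 (orderOf_eq_one_iff.1 hm)
    have hpd : p ∣ orderOf u := by rw [hm]; exact dvd_pow_self p hm0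
    have hou : orderOf (u ^ (orderOf u / p)) = p := orderOf_pow_orderOf_div (orderOf_pos u).ne' hpd
    exact h.II2 (u ^ (orderOf u / p)) y z (by rw [hou]; exact hp) (by rw [hoy]; exact hq)
      (by rw [hoz]; exact hr) (by rw [hou, hoy]; exact hpq) (by rw [hoy, hoz]; exact hqr)
      (by rw [hou, hoz]; exact hpr) ((hUV u hu y hyV).pow_left _) hzy.symm (hzu.symm.pow_left _)
  -- `Q = O_q(L)`
  set Q : Subgroup H := (pCore q L).map L.subtype with hQ
  have hQL : Q ≤ L := map_subtype_le _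
  have hpn : (pCore q L).Normal := Fitting.normal_pCore q
  have hLQ : L ≤ normalizer (Q : Set H) := Cores.le_normalizer_map_subtype _
  have hQp : IsPGroup q Q := (Fitting.isPGroup_pCore q (G := L)).map _
  have h1 : ⁅Q, zpowers z⁆ ≤ centralizer (pCore p H : Set H) :=
    hhg hp hq hr hpq hqr hpr hq2 hoz hUp hQp (nz_of_normal hUn _) (nz_of_normal hUn ⊤ (mem_top _)) (hLQ hzL) hfree
  have h2 : ⁅Q, zpowers z⁆ ≤ centralizer (pCore q H : Set H) := by
    have hCn : (centralizer (pCore q H : Set H)).Normal := inferInstance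
    rw [commutator_le]
    intro g hg x hx
    have hx' := hzV hx
    rw [commutatorElement_def]
    exact mul_mem (hCn.conj_mem x hx' g) (inv_mem hx')
  have h3 : ⁅Q, zpowers z⁆ ≤ centralizer (fittingSubgroup H : Set H) := by
    intro x hx
    apply mem_centralizer_fitting
    intro t ht c hc
    by_cases htp : t = p
    · subst htp; exact (mem_centralizer_iff.1 (h1 hx) c hc).symm
    · by_cases htq : t = q
      · subst htq; exact (mem_centralizer_iff.1 (h2 hx) c hc).symm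
      · have h4 : pCore t H = ⊥ := by
          by_cases htr : t = r
          · rw [htr]; exact hr0
          · apply pCore_bot_of_not_dvd ht
            intro hd
            rcases hH t ht hd with h | h | h
            exacts [htp h, htq h, htr h]
        rw [h4, mem_bot] at hc
        rw [hc]; exact Commute.one_right x
  have hzQ : zpowers z ≤ normalizer (Q : Set H) := zpowers_le.2 (hLQ hzL)
  have h4 : ⁅Q, zpowers z⁆ ≤ Q := LocBase.commutator_le_left_of_le hzQ
  have h5 : ⁅Q, zpowers z⁆ ≤ pCore q H :=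
    le_pCore_of_le_fitting (h3.trans Fitting.centralizer_fittingSubgroup_le) (hQp.to_le h4)
  have h6 : ⁅⁅Q, zpowers z⁆, zpowers z⁆ = ⊥ := by
    rw [commutator_eq_bot_iff_le_centralizer]
    intro x hx
    rw [mem_centralizer_iff]
    intro a ha
    exact (mem_centralizer_iff.1 (hzV ha) x (h5 hx)).symm
  have hQs : Group.IsSolvable Q := by
    have := hQp.isNilpotent
    infer_instance
  have h7 : ⁅Q, zpowers z⁆ = ⊥ := by
    refine commutator_eq_bot_of_commutator_commutator hzQ ?_ (Or.inr hQs) h6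
    obtain ⟨n, hn⟩ := hQp.exists_card_eq
    rw [hcz, hn]
    exact Nat.Coprime.pow_right _ ((Nat.coprime_primes hr hq).2 hqr.symm)
  -- `O_{q'}(L) = 1`
  have hLs : Group.IsSolvable L := inferInstance
  have h8 : pPrimeCore q L = ⊥ := by
    by_contra h0
    obtain ⟨s, hsp, hsd, X, hXL, hX1, hX, hLX⟩ := exists_EA_sub hLs (Fitting.normal_pPrimeCore q) h0
    rcases hL.dvd s hsp (hsd.trans (card_subgroup_dvd_card _)) with hs' | hs'
    · subst hs'
      have := Fitting.coprime_card_pPrimeCore s (G := L)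
      have h9 := Nat.dvd_gcd hsd dvd_rfl
      rw [this.gcd_eq_one] at h9
      exact hsp.one_lt.ne' (Nat.dvd_one.1 h9)
    · subst hs'
      exact hX1 (hno X hXL hLX hX)
  have h9 : (⟨z, hzL⟩ : L) ∈ pCore q L := by
    apply Fitting.centralizer_pCore_le_of_solvable q h8
    rw [mem_centralizer_iff]
    intro x hx
    rw [commutator_eq_bot_iff_le_centralizer] at h7
    have h10 := mem_centralizer_iff.1 (h7 (mem_map_of_mem L.subtype hx)) z (mem_zpowers z)
    exact Subtype.ext h10.symm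
  exact mem_pgroup_order hq hr hqr hQp hoz (mem_map_of_mem L.subtype h9)

theorem ne_two {p r : ℕ} (hp : p.Prime) (hr : r.Prime) (h : r ∣ p - 1) : p ≠ 2 := by
  rintro rfl
  have := hr.one_lt
  have h1 := Nat.le_of_dvd (by norm_num) h
  omega

theorem core2 (hSA : StepA H) (hSC : StepC ρ) (h : Cx ρ) [hs : Group.IsSolvable H] {p q r : ℕ} (hp : p.Prime)
    (hq : q.Prime) (hr : r.Prime) (hpq : p ≠ q) (hqr : q ≠ r) (hpr : p ≠ r)
    (hH : ∀ s, s.Prime → s ∣ Nat.card H → s = p ∨ s = q ∨ s = r) (hU : pCore p H ≠ ⊥) {L : Subgroup H}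
    (hL : LD q r L) (hno : No r L)
    (hpair : ∃ y z : H, orderOf y = p ∧ orderOf z = r ∧ Commute y z) (hEp : ∃ E : Subgroup H, EE p E)
    (hEr : ∃ E : Subgroup H, EE r E) : False := by
  obtain ⟨h1, h2, hV⟩ := stepCD hSA hSC hp hq hr hpq hqr hpr hH hU hL hno
  obtain ⟨L', hL'⟩ := exists_LD hp hr hpr hpair hEp hEr
  obtain ⟨A, hAn, -, hA1, hA⟩ := exists_EA_of_pgroup hp (Fitting.normal_pCore p) (Fitting.isPGroup_pCore p) hU
  obtain ⟨B, hBn, -, hB1, hB⟩ := exists_EA_of_pgroup hq (Fitting.normal_pCore q) (Fitting.isPGroup_pCore q) hV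
  have hno' : No r L' := by
    intro Y hYL hLY hY
    by_contra hY1
    exact stepB hSA h hq hp hr hpq.symm hpr hqr hL' hB hB1 hBn (hL'.le hp (Or.inl rfl) hAn hA)
      (nz_of_normal hAn _) hA hA1 hYL hLY hY hY1
  by_cases hE1 : ∃ E : Subgroup H, E ≤ pCore p H ∧ EE p E
  · by_cases hE2 : ∃ E : Subgroup H, E ≤ pCore q H ∧ EE q E
    · obtain ⟨E1, hE1U, hE1⟩ := hE1
      obtain ⟨E2, hE2U, hE2⟩ := hE2
      have hUV : ∀ a ∈ pCore p H, ∀ b ∈ pCore q H, Commute a b :=
        comm_of_inf (nz_of_normal (Fitting.normal_pCore q) _) (nz_of_normal (Fitting.normal_pCore p) _)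
          (inf_bot hp hpq hq (Fitting.isPGroup_pCore p) (Fitting.isPGroup_pCore q))
      exact stepE0 h hp hq hpq hE1 hE2 (fun a ha b hb => hUV a (hE1U ha) b (hE2U hb))
    · push Not at hE2
      exact stepE h hp hq hr hpq hqr hpr hH (ne_two hq hr h2) hV hL hno hE2
  · push Not at hE1
    exact stepE h hq hp hr hpq.symm hpr hqr
      (by intro s hs hd; rcases hH s hs hd with h | h | h
          · exact Or.inr (Or.inl h)
          · exact Or.inl h
          · exact Or.inr (Or.inr h)) (ne_two hp hr h1) hU hL' hno' hE1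

theorem core1 (hSA : StepA H) (hSC : StepC ρ) (h : Cx ρ) [hs : Group.IsSolvable H] {p q r : ℕ} (hp : p.Prime)
    (hq : q.Prime) (hr : r.Prime) (hpq : p ≠ q) (hqr : q ≠ r) (hpr : p ≠ r)
    (hH : ∀ s, s.Prime → s ∣ Nat.card H → s = p ∨ s = q ∨ s = r) (hU : pCore p H ≠ ⊥)
    (hpair1 : ∃ y z : H, orderOf y = p ∧ orderOf z = r ∧ Commute y z)
    (hpair2 : ∃ y z : H, orderOf y = q ∧ orderOf z = r ∧ Commute y z)
    (hpair3 : ∃ y z : H, orderOf y = p ∧ orderOf z = q ∧ Commute y z)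
    (hEp : ∃ E : Subgroup H, EE p E) (hEq : ∃ E : Subgroup H, EE q E)
    (hEr : ∃ E : Subgroup H, EE r E) : False := by
  obtain ⟨L, hL⟩ := exists_LD hq hr hqr hpair2 hEq hEr
  obtain ⟨A, hAn, -, hA1, hA⟩ := exists_EA_of_pgroup hp (Fitting.normal_pCore p) (Fitting.isPGroup_pCore p) hU
  by_cases hno : No r L
  · exact core2 hSA hSC h hp hq hr hpq hqr hpr hH hU hL hno hpair1 hEp hEr
  · have hno' : No q L := by
      unfold No at hno
      push Not at hno
      obtain ⟨Y, hYL, hLY, hY, hY1⟩ := hno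
      intro X hXL hLX hX
      by_contra hX1
      exact stepB hSA h hp hq hr hpq hqr hpr hL hA hA1 hAn hXL hLX hX hX1 hYL hLY hY hY1
    exact core2 hSA hSC h hp hr hq hpr hqr.symm hpq
      (by intro s hs hd; rcases hH s hs hd with h | h | h
          · exact Or.inl h
          · exact Or.inr (Or.inr h)
          · exact Or.inr (Or.inl h)) hU hL.symm hno' hpair3 hEp hEq

/-- **TRI-8** (steps B, D, E), with steps A and C as hypotheses. -/
theorem final (hSA : StepA H) (hSC : StepC ρ) (h : Cx ρ) [hs : Group.IsSolvable H] {σ : Finset ℕ}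
    (hσ : σ.card = 3) (hσp : ∀ p ∈ σ, p.Prime)
    (hH : ∀ s, s.Prime → s ∣ Nat.card H → s ∈ σ)
    (hpairs : ∀ p ∈ σ, ∀ q ∈ σ, p ≠ q → ∃ y z : H, orderOf y = p ∧ orderOf z = q ∧ Commute y z)
    (hE : ∀ p ∈ σ, ∃ E : Subgroup H, EE p E) : False := by
  have hne : (⊤ : Subgroup H) ≠ ⊥ := by
    obtain ⟨a, ha⟩ := Finset.card_pos.1 (by rw [hσ]; norm_num : 0 < σ.card)
    obtain ⟨E, hE⟩ := hE a ha
    obtain ⟨x, hx, hx1⟩ := hE.nc 1 (one_mem _)
    rw [zpowers_one_eq_bot, mem_bot] at hx1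
    intro h0
    have : x ∈ (⊤ : Subgroup H) := mem_top _
    rw [h0, mem_bot] at this
    exact hx1 this
  obtain ⟨p, hp, hpd, A, hAn, -, hA1, hA⟩ := EA_of_min (N := (⊤ : Subgroup H)) hs hne
  rw [Subgroup.card_top] at hpd
  have hpσ := hH p hp hpd
  have hU : pCore p H ≠ ⊥ := by
    intro h0
    have := Fitting.le_pCore p hAn hA.isPGroup
    rw [h0, le_bot_iff] at this
    exact hA1 this
  have hc2 : (σ.erase p).card = 2 := by rw [Finset.card_erase_of_mem hpσ, hσ]
  obtain ⟨q, r, hqr, hqr'⟩ := Finset.card_eq_two.1 hc2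
  have hqm : q ∈ σ.erase p := by rw [hqr']; simp
  have hrm : r ∈ σ.erase p := by rw [hqr']; simp
  obtain ⟨hqp, hqσ⟩ := Finset.mem_erase.1 hqm
  obtain ⟨hrp, hrσ⟩ := Finset.mem_erase.1 hrm
  refine core1 hSA hSC h hp (hσp q hqσ) (hσp r hrσ) hqp.symm hqr hrp.symm ?_ hU
    (hpairs p hpσ r hrσ hrp.symm) (hpairs q hqσ r hrσ hqr) (hpairs p hpσ q hqσ hqp.symm)
    (hE p hpσ) (hE q hqσ) (hE r hrσ)
  intro s hs hd
  have h1 := hH s hs hd
  by_cases hsp : s = p
  · exact Or.inl hsp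
  · right
    have h2 : s ∈ σ.erase p := Finset.mem_erase.2 ⟨hsp, h1⟩
    rw [hqr'] at h2
    simpa using h2

end Cfsg.Agent.Lib.H48TriP8
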