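import Cfsg.Agent.Lib.H48TriD
import Cfsg.Agent.Lib.BG13a
import Cfsg.Agent.Lib.OmegaFix

/-!
Piece P8 of S3814 (helper66): tools.
-/

set_option autoImplicit false

namespace Cfsg.Agent.Lib.H48TriP8a

open Subgroup Module Cfsg Cfsg.Agent.Lib.H48TriA Cfsg.Agent.Lib.H48TriB
open Cfsg.Agent.Lib.CoprimeAction Cfsg.Agent.Lib.CoprimeAction2 Cfsg.Agent.Lib.HallPi
open scoped commutatorElement Pointwise

universe u v w

variable {H : Type u} [Group H]

theorem not_dvd_of_pgroup [Finite H] {p q : ℕ} (hp : p.Prime) (hq : q.Prime) (hpq : p ≠ q) {B : Subgroup H}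
    (h : IsPGroup p B) : ¬ q ∣ Nat.card B := by
  have := Fact.mk hp
  obtain ⟨n, hn⟩ := h.exists_card_eq
  rw [hn]
  intro hd
  exact hpq ((Nat.prime_dvd_prime_iff_eq hq hp).1 (hq.dvd_of_dvd_pow hd)).symm

/-- `z` of prime order `r` acting freely on the `p`-group `U`: `[Q,z]` centralizes `U`. -/
theorem hhg [Finite H] {p q r : ℕ} (hp : p.Prime) (hq : q.Prime) (hr : r.Prime)
    (hpq : p ≠ q) (hqr : q ≠ r) (hpr : p ≠ r) (hq2 : q ≠ 2) {U Q : Subgroup H} {z : H}
    (hz : orderOf z = r) (hU : IsPGroup p U) (hQ : IsPGroup q Q) (hQU : Q ≤ normalizer (U : Set H))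
    (hzU : z ∈ normalizer (U : Set H)) (hzQ : z ∈ normalizer (Q : Set H))
    (hf : ∀ u ∈ U, Commute z u → u = 1) : ⁅Q, zpowers z⁆ ≤ centralizer (U : Set H) := by
  have := Fact.mk hp
  have := Fact.mk hq
  have hcz : Nat.card (zpowers z) = r := by rw [Nat.card_zpowers, hz]
  by_cases hr2 : r = 2
  · subst hr2
    have hz2 : z * z = 1 := by rw [← pow_two, ← hz, pow_orderOf_eq_one]
    have hzi : z⁻¹ = z := inv_eq_of_mul_eq_one_left hz2
    have hinv : ∀ u ∈ U, z * u * z = u⁻¹ := by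
      have hm : ∀ w ∈ U, z * w * z⁻¹ ∈ U := fun w hw => (mem_normalizer_iff.1 hzU w).1 hw
      let f : U → U := fun w => ⟨(w : H)⁻¹ * (z * w * z⁻¹), mul_mem (inv_mem w.2) (hm w w.2)⟩
      have hinj : Function.Injective f := by
        intro a b hab
        have h1 : (a : H)⁻¹ * (z * a * z⁻¹) = (b : H)⁻¹ * (z * b * z⁻¹) := congrArg Subtype.val hab
        have h2 : Commute z ((b : H) * (a : H)⁻¹) := by
          change z * (b * (a : H)⁻¹) = b * (a : H)⁻¹ * z
          calc z * ((b : H) * (a : H)⁻¹) = b * ((b : H)⁻¹ * (z * b * z⁻¹)) * z * (a : H)⁻¹ := by group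
            _ = b * ((a : H)⁻¹ * (z * a * z⁻¹)) * z * (a : H)⁻¹ := by rw [h1]
            _ = b * (a : H)⁻¹ * z := by group
        have h3 := hf _ (mul_mem b.2 (inv_mem a.2)) h2
        exact Subtype.ext (mul_inv_eq_one.1 h3).symm
      have hsurj := Finite.surjective_of_injective hinj
      intro u hu
      obtain ⟨w, hw⟩ := hsurj ⟨u, hu⟩
      have h1 : (w : H)⁻¹ * (z * w * z⁻¹) = u := congrArg Subtype.val hw
      rw [hzi] at h1
      rw [← h1]
      calc z * ((w : H)⁻¹ * (z * w * z)) * z = z * (w : H)⁻¹ * z * w * (z * z) := by group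
        _ = z * (w : H)⁻¹ * z * w := by rw [hz2, mul_one]
        _ = z⁻¹ * (w : H)⁻¹ * z⁻¹ * w := by rw [hzi]
        _ = ((w : H)⁻¹ * (z * w * z))⁻¹ := by group
    rw [commutator_le]
    intro g hg x hx
    have hx' : x = 1 ∨ x = z := by
      obtain ⟨i, rfl⟩ := mem_zpowers_iff.1 hx
      rcases Int.emod_two_eq_zero_or_one i with h | h
      · left
        rw [← zpow_mod_orderOf, hz]
        push_cast
        rw [h, zpow_zero]
      · right
        rw [← zpow_mod_orderOf, hz]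
        push_cast
        rw [h, zpow_one]
    rcases hx' with rfl | rfl
    · rw [commutatorElement_one_right]; exact one_mem _
    · rw [mem_centralizer_iff]
      intro u hu
      have h1 : g⁻¹ * u * g ∈ U := LocBase.conj_mem_of_le_normalizer' hQU hg hu
      have h2 := hinv _ h1
      have h3 := hinv _ hu
      rw [commutatorElement_def, hzi]
      -- `u * (g z g⁻¹ z) = (g z g⁻¹ z) * u`
      have h4 : x * u = u⁻¹ * x := by
        calc x * u = x * u * (x * x) := by rw [hz2, mul_one]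
          _ = x * u * x * x := by group
          _ = u⁻¹ * x := by rw [h3]
      have h5 : x * (g⁻¹ * u * g) = (g⁻¹ * u * g)⁻¹ * x := by
        calc x * (g⁻¹ * u * g) = x * (g⁻¹ * u * g) * (x * x) := by rw [hz2, mul_one]
          _ = x * (g⁻¹ * u * g) * x * x := by group
          _ = (g⁻¹ * u * g)⁻¹ * x := by rw [h2]
      have h6 : x * u⁻¹ = u * x := by
        calc x * u⁻¹ = u * (u⁻¹ * x) * u⁻¹ := by group
          _ = u * (x * u) * u⁻¹ := by rw [h4]
          _ = u * x := by group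
      have h7 : x * (g⁻¹ * u⁻¹ * g) = g⁻¹ * u * g * x := by
        calc x * (g⁻¹ * u⁻¹ * g) = (g⁻¹ * u * g) * ((g⁻¹ * u * g)⁻¹ * x) * (g⁻¹ * u * g)⁻¹ := by group
          _ = (g⁻¹ * u * g) * (x * (g⁻¹ * u * g)) * (g⁻¹ * u * g)⁻¹ := by rw [h5]
          _ = g⁻¹ * u * g * x := by group
      calc u * (g * x * g⁻¹ * x) = g * (g⁻¹ * u * g * x) * g⁻¹ * x := by group
        _ = g * (x * (g⁻¹ * u⁻¹ * g)) * g⁻¹ * x := by rw [h7]
        _ = g * x * g⁻¹ * (u⁻¹ * x) := by group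
        _ = g * x * g⁻¹ * (x * u) := by rw [h4]
        _ = g * x * g⁻¹ * x * u := by group
  · have hr2' : Odd r := hr.odd_of_ne_two hr2
    have hqQ := hQ.exists_card_eq
    obtain ⟨n, hn⟩ := hqQ
    refine BG13a.le_centralizer_of_fix_le_frattini hU hQU (zpowers_le.2 hzU) (zpowers_le.2 hzQ)
      (by rw [hcz]; exact hr) ?_ ?_ (by rw [hcz]; exact hr2') ?_ ?_ ?_
    · rw [hcz, hn]
      exact Nat.Coprime.pow_right _ ((Nat.coprime_primes hr hq).2 hqr.symm)
    · rw [hn]; exact (hq.odd_of_ne_two hq2).pow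
    · exact not_dvd_of_pgroup hq hp hpq.symm hQ
    · rw [hcz]
      intro h
      exact hpr ((Nat.prime_dvd_prime_iff_eq hp hr).1 h)
    · rintro u ⟨hu, hc⟩
      have h1 := hf u hu (mem_centralizer_iff.1 hc z (mem_zpowers z))
      rw [h1]; exact one_mem _

theorem EA_of_min [Finite H] {N : Subgroup H} [hNn : N.Normal] (hs : Group.IsSolvable H) (hN1 : N ≠ ⊥) :
    ∃ s, s.Prime ∧ s ∣ Nat.card N ∧ ∃ A : Subgroup H, A.Normal ∧ A ≤ N ∧ A ≠ ⊥ ∧ EA s A := by
  obtain ⟨A, hA, hA1, hAN, hmin⟩ := Cores.exists_minNormal_le hNn hN1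
  have hab := Cores.minNormal_abelian hA1 hmin
  obtain ⟨s, hs, hpow⟩ := Cores.minNormal_elementary hA1 hmin hab
  have hEA : EA s A := ⟨hab, hpow⟩
  refine ⟨s, hs, ?_, A, hA, hAN, hA1, hEA⟩
  obtain ⟨⟨a, haA⟩, ha1'⟩ := Subgroup.ne_bot_iff_exists_ne_one.1 hA1
  have ha1 : a ≠ 1 := fun h => ha1' (Subtype.ext h)
  have h1 : orderOf a = s := hEA.order hs haA ha1
  rw [← h1, ← Nat.card_zpowers]
  exact card_dvd_of_le (zpowers_le.2 (hAN haA))

theorem exists_EA_of_pgroup [Finite H] [hs : Group.IsSolvable H] {p : ℕ} (hp : p.Prime) {N : Subgroup H}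
    (hN : N.Normal) (hNp : IsPGroup p N) (hN1 : N ≠ ⊥) :
    ∃ A : Subgroup H, A.Normal ∧ A ≤ N ∧ A ≠ ⊥ ∧ EA p A := by
  obtain ⟨s, hsp, hsd, A, hA, hAN, hA1, hEA⟩ := EA_of_min (N := N) hs hN1
  have : s = p := by
    by_contra hne
    exact not_dvd_of_pgroup hp hsp (fun h => hne h.symm) hNp hsd
  subst this
  exact ⟨A, hA, hAN, hA1, hEA⟩

theorem EA_map {G' : Type*} [Group G'] {s : ℕ} {A : Subgroup H} (f : H →* G') (h : EA s A) :
    (∀ a ∈ A.map f, ∀ b ∈ A.map f, a * b = b * a) ∧ ∀ a ∈ A.map f, a ^ s = 1 := by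
  constructor
  · rintro _ ⟨a, ha, rfl⟩ _ ⟨b, hb, rfl⟩
    rw [← map_mul, ← map_mul, h.ab a ha b hb]
  · rintro _ ⟨a, ha, rfl⟩
    rw [← map_pow, h.ex a ha, map_one]

theorem exists_EA_sub [Finite H] {L : Subgroup H} (hs : Group.IsSolvable L) {N : Subgroup L} (hN : N.Normal)
    (hN1 : N ≠ ⊥) : ∃ s, s.Prime ∧ s ∣ Nat.card N ∧ ∃ X : Subgroup H, X ≤ L ∧ X ≠ ⊥ ∧ EA s X ∧
      L ≤ normalizer (X : Set H) := by
  obtain ⟨s, hsp, hsd, A, hA, hAN, hA1, hEA⟩ := EA_of_min (N := N) hs hN1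
  refine ⟨s, hsp, hsd, A.map L.subtype, map_subtype_le _, ?_, ?_, Cores.le_normalizer_map_subtype A⟩
  · rw [Ne, map_eq_bot_iff_of_injective _ L.subtype_injective]
    exact hA1
  · obtain ⟨h1, h2⟩ := EA_map L.subtype hEA
    exact ⟨h1, h2⟩

theorem EE_conj {q : ℕ} {E : Subgroup H} (h : EE q E) (g : H) :
    EE q (E.map (MulAut.conj g).toMonoidHom) := by
  refine ⟨h.pr, ?_, ?_, ?_⟩
  · rintro _ ⟨a, ha, rfl⟩ _ ⟨b, hb, rfl⟩
    rw [← map_mul, ← map_mul, h.ab a ha b hb]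
  · rintro _ ⟨a, ha, rfl⟩
    rw [← map_pow, h.ex a ha, map_one]
  · rintro _ ⟨a, ha, rfl⟩
    obtain ⟨y, hy, hya⟩ := h.nc a ha
    refine ⟨_, mem_map_of_mem _ hy, ?_⟩
    intro h1
    apply hya
    rw [← MonoidHom.map_zpowers] at h1
    obtain ⟨b, hb, hb'⟩ := h1
    have : b = y := (MulAut.conj g).injective hb'
    rwa [← this]

/-- the data of a Hall subgroup -/
structure LD (q r : ℕ) (L : Subgroup H) : Prop where
  hall : IsPiHall ({q, r} : Set ℕ) L
  hyz : ∃ y ∈ L, ∃ z ∈ L, orderOf y = q ∧ orderOf z = r ∧ Commute y z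
  hEq : ∃ E ≤ L, EE q E
  hEr : ∃ E ≤ L, EE r E

theorem LD.symm {q r : ℕ} {L : Subgroup H} (h : LD q r L) : LD r q L := by
  obtain ⟨y, hy, z, hz, h1, h2, h3⟩ := h.hyz
  exact ⟨by rw [Set.pair_comm]; exact h.hall, ⟨z, hz, y, hy, h2, h1, h3.symm⟩, h.hEr, h.hEq⟩

theorem LD.dvd {q r : ℕ} {L : Subgroup H} (h : LD q r L) : ∀ s, s.Prime → s ∣ Nat.card L → s = q ∨ s = r := by
  intro s hs hd
  have := h.hall.1 s hs hd
  simpa using this

theorem exists_LD [Finite H] [hs : Group.IsSolvable H] {q r : ℕ} (hq : q.Prime) (hr : r.Prime) (hqr : q ≠ r)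
    (hyz : ∃ y z : H, orderOf y = q ∧ orderOf z = r ∧ Commute y z) (hEq : ∃ E : Subgroup H, EE q E)
    (hEr : ∃ E : Subgroup H, EE r E) : ∃ L : Subgroup H, LD q r L := by
  obtain ⟨L, hL⟩ := exists_isPiHall (G := H) ({q, r} : Set ℕ)
  have key : ∀ K : Subgroup H, PiNum ({q, r} : Set ℕ) (Nat.card K) →
      ∃ g : H, K.map (MulAut.conj g).toMonoidHom ≤ L := by
    intro K hK
    obtain ⟨g, hg⟩ := exists_conj_le L K hL hK
    refine ⟨g⁻¹, ?_⟩
    rintro _ ⟨k, hk, rfl⟩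
    have h1 := hg hk
    rw [mem_pointwise_smul_iff_inv_smul_mem] at h1
    have h2 : ((MulAut.conj g)⁻¹ • k : H) = (MulAut.conj g⁻¹).toMonoidHom k := by
      rw [← map_inv]; rfl
    rwa [h2] at h1
  have hpg : ∀ {s : ℕ} {E : Subgroup H}, s = q ∨ s = r → EE s E → PiNum ({q, r} : Set ℕ) (Nat.card E) := by
    intro s E hs hE t ht htd
    have hEp : IsPGroup s E := fun a => ⟨1, by rw [pow_one]; exact Subtype.ext (hE.ex a a.2)⟩
    by_cases hst : s = t
    · rw [← hst]; simpa using hs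
    · exact absurd htd (not_dvd_of_pgroup hE.pr ht hst hEp)
  refine ⟨L, hL, ?_, ?_, ?_⟩
  · obtain ⟨y, z, hy, hz, hc⟩ := hyz
    have hcop : (orderOf y).Coprime (orderOf z) := by rw [hy, hz]; exact (Nat.coprime_primes hq hr).2 hqr
    have ho : orderOf (y * z) = q * r := by
      rw [hc.orderOf_mul_eq_mul_orderOf_of_coprime hcop, hy, hz]
    obtain ⟨g, hg⟩ := key (zpowers (y * z)) (by
      rw [Nat.card_zpowers, ho]
      intro t ht htd
      rcases (Nat.Prime.dvd_mul ht).1 htd with h | h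
      · left; exact (Nat.prime_dvd_prime_iff_eq ht hq).1 h
      · right; exact (Nat.prime_dvd_prime_iff_eq ht hr).1 h)
    set w : H := (MulAut.conj g).toMonoidHom (y * z) with hw
    have hwL : w ∈ L := hg (mem_map_of_mem _ (mem_zpowers _))
    have how : orderOf w = q * r := by
      rw [hw, ← ho]; exact orderOf_injective (MulAut.conj g).toMonoidHom (MulAut.conj g).injective _
    refine ⟨w ^ r, pow_mem hwL r, w ^ q, pow_mem hwL q, ?_, ?_, (Commute.refl w).pow_pow r q⟩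
    · rw [orderOf_pow_of_dvd hr.ne_zero (by rw [how]; exact dvd_mul_left r q), how,
        Nat.mul_div_cancel _ hr.pos]
    · rw [orderOf_pow_of_dvd hq.ne_zero (by rw [how]; exact dvd_mul_right q r), how,
        Nat.mul_div_cancel_left _ hq.pos]
  · obtain ⟨E, hE⟩ := hEq
    obtain ⟨g, hg⟩ := key E (hpg (Or.inl rfl) hE)
    exact ⟨_, hg, EE_conj hE g⟩
  · obtain ⟨E, hE⟩ := hEr
    obtain ⟨g, hg⟩ := key E (hpg (Or.inr rfl) hE)
    exact ⟨_, hg, EE_conj hE g⟩

theorem LD.le [Finite H] {q r : ℕ} {L : Subgroup H} (h : LD q r L) {s : ℕ} (hs : s.Prime)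
    (hsq : s = q ∨ s = r) {A : Subgroup H} (hA : A.Normal) (hAe : EA s A) : A ≤ L := by
  refine le_of_normal_piNum (N := A) (π := ({q, r} : Set ℕ)) ?_ h.hall
  intro t ht htd
  by_cases hst : s = t
  · rw [← hst]; simpa using hsq
  · exact absurd htd (not_dvd_of_pgroup hs ht hst hAe.isPGroup)

/-- a `q`-subgroup of `F(H)` lies in `O_q(H)` -/
theorem le_pCore_of_le_fitting [Finite H] {p : ℕ} [hp : Fact p.Prime] {A : Subgroup H}
    (hA : A ≤ fittingSubgroup H) (hAp : IsPGroup p A) : A ≤ pCore p H := by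
  have hn : Group.IsNilpotent (fittingSubgroup H) := Fitting.isNilpotent_fittingSubgroup
  have hnorm : (fittingSubgroup H).Normal := Fitting.normal_fittingSubgroup
  have hAF : IsPGroup p (A.subgroupOf (fittingSubgroup H)) := hAp.comap_subtype
  obtain ⟨P, hP⟩ := hAF.exists_le_sylow
  have hPn : (P : Subgroup (fittingSubgroup H)).Normal := by
    have htfae := (Group.isNilpotent_of_finite_tfae (G := fittingSubgroup H)).out 0 3
    exact htfae.1 hn p hp P
  have hPc : (P : Subgroup (fittingSubgroup H)).Characteristic := P.characteristic_of_normal hPn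
  have h2 : A ≤ (P : Subgroup (fittingSubgroup H)).map (fittingSubgroup H).subtype := by
    have := Subgroup.map_mono (f := (fittingSubgroup H).subtype) hP
    rwa [Subgroup.map_subgroupOf_eq_of_le hA] at this
  exact h2.trans (Fitting.le_pCore p (Fitting.normal_map_subtype_of_characteristic hPc) (P.2.map _))

end Cfsg.Agent.Lib.H48TriP8a
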