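import Cfsg.Agent.Lib.H48TriP5

/-!
Piece P9 of S3814 (for helper48): the reduction to the two cases (helper88).
-/

set_option autoImplicit false
set_option maxHeartbeats 400000

namespace Cfsg.Agent.Lib.H48TriP9

open Subgroup Module Cfsg.Agent.Lib.H48TriA Cfsg.Agent.Lib.H48TriB Cfsg.Agent.Lib.H48TriD
open Cfsg.Agent.Lib.HallPi Cfsg.Agent.Lib.H48TriP5

universe u

theorem orderOf_three {G : Type u} [Group G] [Finite G] {x y z : G} (hx : (orderOf x).Prime)
    (hy : (orderOf y).Prime) (hz : (orderOf z).Prime) (hxy : orderOf x ≠ orderOf y)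
    (hyz : orderOf y ≠ orderOf z) (hxz : orderOf x ≠ orderOf z) (c1 : Commute x y) (c2 : Commute y z)
    (c3 : Commute x z) : orderOf (x * y * z) = orderOf x * orderOf y * orderOf z := by
  have h1 : orderOf (x * y) = orderOf x * orderOf y :=
    c1.orderOf_mul_eq_mul_orderOf_of_coprime ((Nat.coprime_primes hx hy).2 hxy)
  have h2 : Commute (x * y) z := c3.mul_left c2
  rw [h2.orderOf_mul_eq_mul_orderOf_of_coprime, h1]
  rw [h1]
  exact Nat.Coprime.mul_left ((Nat.coprime_primes hx hz).2 hxz) ((Nat.coprime_primes hy hz).2 hyz)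

/-- the situation in a Hall subgroup -/
theorem sit {G : Type u} [Group G] [Finite G] [Group.IsSolvable G] {σ : Finset ℕ} (hσ : σ.card = 4)
    (hprime : ∀ p ∈ σ, p.Prime)
    (h2 : ∀ p ∈ σ, ∀ q ∈ σ, p ≠ q → ∃ g : G, orderOf g = p * q)
    (h3 : ∀ p ∈ σ, ∀ q ∈ σ, ∀ r ∈ σ, p ≠ q → q ≠ r → p ≠ r → ∀ g : G, orderOf g ≠ p * q * r) :
    ∃ L : Subgroup G, Sit L σ ∧ Nontrivial L := by
  obtain ⟨L, hL⟩ := exists_isPiHall (G := G) (↑σ : Set ℕ)
  have hLσ : ∀ s, s.Prime → s ∣ Nat.card L → s ∈ σ := fun s hs hd => by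
    have := (isPiHall_iff.1 hL).1 s hs hd
    simpa using this
  have hpairs : ∀ p ∈ σ, ∀ q ∈ σ, p ≠ q → ∃ y z : L, orderOf y = p ∧ orderOf z = q ∧ Commute y z := by
    intro p hp q hq hpq
    obtain ⟨g, hg⟩ := h2 p hp q hq hpq
    have hpp := hprime p hp
    have hqp := hprime q hq
    have hpi : PiNum (↑σ : Set ℕ) (Nat.card (zpowers g)) := by
      rw [Nat.card_zpowers, hg]
      intro s hs hd
      rcases (Nat.Prime.dvd_mul hs).1 hd with h | h
      · rw [(Nat.prime_dvd_prime_iff_eq hs hpp).1 h]; exact_mod_cast hp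
      · rw [(Nat.prime_dvd_prime_iff_eq hs hqp).1 h]; exact_mod_cast hq
    obtain ⟨k, hk⟩ := exists_conj_le L (zpowers g) hL hpi
    have hgk := hk (mem_zpowers g)
    rw [Subgroup.mem_pointwise_smul_iff_inv_smul_mem] at hgk
    have e1 : (MulAut.conj k)⁻¹ • g = MulAut.conj k⁻¹ g := by rw [← map_inv]; rfl
    rw [e1] at hgk
    have ho : orderOf (⟨MulAut.conj k⁻¹ g, hgk⟩ : L) = p * q := by
      rw [Subgroup.orderOf_mk, ← hg]
      exact orderOf_injective (MulAut.conj k⁻¹).toMonoidHom (MulAut.conj k⁻¹).injective g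
    set w : L := ⟨MulAut.conj k⁻¹ g, hgk⟩ with hw
    refine ⟨w ^ q, w ^ p, ?_, ?_, ((Commute.refl w).pow_pow q p)⟩
    · rw [orderOf_pow, ho, Nat.gcd_eq_right (dvd_mul_left q p), Nat.mul_div_cancel _ hqp.pos]
    · rw [orderOf_pow, ho, Nat.gcd_eq_right (dvd_mul_right p q), Nat.mul_div_cancel_left _ hpp.pos]
  refine ⟨L, ⟨inferInstance, hσ, hprime, hLσ, hpairs, ?_⟩, ?_⟩
  · intro x y z hx hy hz hxy hyz hxz c1 c2 c3
    have h := orderOf_three hx hy hz hxy hyz hxz c1 c2 c3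
    exact h3 _ (hLσ _ hx (orderOf_dvd_natCard x)) _ (hLσ _ hy (orderOf_dvd_natCard y))
      _ (hLσ _ hz (orderOf_dvd_natCard z)) hxy hyz hxz ((x * y * z : L) : G)
      (by rw [Subgroup.orderOf_coe]; exact h)
  · have h1 : 1 < σ.card := by omega
    obtain ⟨p, hp, q, hq, hpq⟩ := Finset.one_lt_card.1 h1
    obtain ⟨y, z, hy, hz, _⟩ := hpairs p hp q hq hpq
    refine ⟨y, 1, ?_⟩
    rintro rfl
    rw [orderOf_one] at hy
    exact (hprime p hp).ne_one hy.symm

/-- the two cases -/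
theorem split {K : Type u} [Group K] [Finite K] [Nontrivial K] {τ : Finset ℕ} (h : Sit K τ)
    (hcase1 : ∀ {p q : ℕ}, p ∈ τ → q ∈ τ → p ≠ q → ∀ {M N : Subgroup K}, M.Normal → N.Normal → M ≠ ⊥ →
      N ≠ ⊥ → IsPGroup p M → IsPGroup q N → False)
    (hcase2 : ∀ {t : ℕ}, t ∈ τ → ∀ {N : Subgroup K}, N.Normal → IsPGroup t N →
      centralizer (N : Set K) ≤ N → False) : False := by
  have hsol : Group.IsSolvable K := h.sol
  obtain ⟨p, E, hp, hE, hEc, hEab, hEp⟩ := SubgroupTools.exists_characteristic_elementary K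
  have := Fact.mk hp
  have hEn : E.Normal := inferInstance
  have hEg : IsPGroup p E := fun a => ⟨1, by rw [pow_one]; exact Subtype.ext (hEp a a.2)⟩
  have hdvd : ∀ {q : ℕ} {A : Subgroup K}, q.Prime → A ≠ ⊥ → IsPGroup q A → q ∈ τ := by
    intro q A hq hA hAq
    have := Fact.mk hq
    obtain ⟨n, hn⟩ := hAq.exists_card_eq
    have hn0 : n ≠ 0 := by
      rintro rfl
      rw [pow_zero] at hn
      exact hA (Subgroup.card_eq_one.1 hn)
    exact h.hG q hq ((hn ▸ dvd_pow_self q hn0 : q ∣ Nat.card A).trans (card_subgroup_dvd_card A))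
  have hpτ : p ∈ τ := hdvd hp hE hEg
  by_cases hc : Cfsg.pPrimeCore p K = ⊥
  · exact hcase2 hpτ (Fitting.normal_pCore p) (Fitting.isPGroup_pCore p)
      (Fitting.centralizer_pCore_le_of_solvable p hc)
  · have hPn : (Cfsg.pPrimeCore p K).Normal := Fitting.normal_pPrimeCore p
    have hnt : Nontrivial (Cfsg.pPrimeCore p K) := (nontrivial_iff_ne_bot _).mpr hc
    obtain ⟨q, A, hq, hA, hAc, hAab, hAp⟩ :=
      SubgroupTools.exists_characteristic_elementary (Cfsg.pPrimeCore p K)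
    have hA' : A.map (Cfsg.pPrimeCore p K).subtype ≠ ⊥ := by
      rw [Ne, map_eq_bot_iff_of_injective _ (subtype_injective _)]; exact hA
    have hAg : IsPGroup q (A.map (Cfsg.pPrimeCore p K).subtype) := by
      rintro ⟨_, a, ha, rfl⟩
      refine ⟨1, Subtype.ext ?_⟩
      rw [pow_one]
      change ((Cfsg.pPrimeCore p K).subtype a) ^ q = 1
      rw [← map_pow, hAp a ha, map_one]
    have hqτ : q ∈ τ := hdvd hq hA' hAg
    refine hcase1 hpτ hqτ ?_ hEn inferInstance hE hA' hEg hAg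
    intro hpq
    have h1 := Fitting.coprime_card_pPrimeCore (G := K) (p := p)
    have h2 : q ∣ Nat.card (Cfsg.pPrimeCore p K) := by
      have := Fact.mk hq
      have hAg' : IsPGroup q A := fun a => ⟨1, by rw [pow_one]; exact Subtype.ext (hAp a a.2)⟩
      obtain ⟨n, hn⟩ := hAg'.exists_card_eq
      have hn0 : n ≠ 0 := by
        rintro rfl
        rw [pow_zero] at hn
        exact hA (Subgroup.card_eq_one.1 hn)
      exact (hn ▸ dvd_pow_self q hn0 : q ∣ Nat.card A).trans (card_subgroup_dvd_card A)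
    rw [← hpq] at h2
    exact (Nat.Prime.coprime_iff_not_dvd hp).1 h1.symm h2

/-- TRI-9 -/
theorem main {G : Type u} [Group G] [Finite G] {σ : Finset ℕ} (hσ : 4 ≤ σ.card) (hprime : ∀ p ∈ σ, p.Prime)
    (h2 : ∀ p ∈ σ, ∀ q ∈ σ, p ≠ q → ∃ g : G, orderOf g = p * q)
    (h3 : ∀ p ∈ σ, ∀ q ∈ σ, ∀ r ∈ σ, p ≠ q → q ≠ r → p ≠ r → ∀ g : G, orderOf g ≠ p * q * r)
    (hcase1 : ∀ {K : Type u} [Group K] [Finite K] {τ : Finset ℕ}, Sit K τ → ∀ {p q : ℕ}, p ∈ τ → q ∈ τ →
      p ≠ q → ∀ {M N : Subgroup K}, M.Normal → N.Normal → M ≠ ⊥ → N ≠ ⊥ → IsPGroup p M →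
      IsPGroup q N → False)
    (hcase2 : ∀ {K : Type u} [Group K] [Finite K] {τ : Finset ℕ}, Sit K τ → ∀ {t : ℕ}, t ∈ τ →
      ∀ {N : Subgroup K}, N.Normal → IsPGroup t N → centralizer (N : Set K) ≤ N → False) :
    ¬ Group.IsSolvable G := by
  intro hsol
  obtain ⟨τ, hτσ, hτ⟩ := Finset.exists_subset_card_eq hσ
  obtain ⟨L, hL, hLn⟩ := sit hτ (fun p hp => hprime p (hτσ hp))
    (fun p hp q hq hpq => h2 p (hτσ hp) q (hτσ hq) hpq)
    (fun p hp q hq r hr h1 h2 h4 => h3 p (hτσ hp) q (hτσ hq) r (hτσ hr) h1 h2 h4)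
  exact split hL (fun {p q} hp hq hpq {M N} => hcase1 hL hp hq hpq (M := M) (N := N))
    (fun {t} ht {N} => hcase2 hL ht (N := N))

end Cfsg.Agent.Lib.H48TriP9
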