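import Mathlib
import Cfsg.Agent.Lib.ThompsonTransfer
import Cfsg.Agent.Lib.Involutions

/-!
# Groups with a 2-central involution with centralizer `Z₂ × S₄` (S3222), I (helper4)
-/

set_option autoImplicit false
set_option linter.unusedSectionVars false

namespace Cfsg.Agent.Lib.CSF

open Equiv Cfsg.Agent.Lib.Involutions
open scoped commutatorElement

local notation "C(" z ")" => Subgroup.centralizer ({z} : Set _)

/-- the central involution of a Sylow 2-subgroup of `S₄` -/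
abbrev z0 : Perm (Fin 4) := swap 0 1 * swap 2 3
/-- a transposition commuting with `z0` -/
abbrev w0 : Perm (Fin 4) := swap 0 1

variable {G : Type*} [Group G]

theorem z0_sq : z0 * z0 = 1 := by decide

theorem center_triv : ∀ c : Perm (Fin 4), (∀ σ, c * σ = σ * c) → c = 1 := by decide

theorem card_comm : Fintype.card {σ : Perm (Fin 4) // σ * z0 = z0 * σ} = 8 := by decide

set_option maxRecDepth 100000 in
theorem comm_dec : ∀ σ τ : Perm (Fin 4), σ * z0 = z0 * σ → τ * z0 = z0 * τ →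
    ⁅σ, τ⁆ = 1 ∨ ⁅σ, τ⁆ = z0 := by decide

theorem exists_comm : ∃ σ τ : Perm (Fin 4), σ * z0 = z0 * σ ∧ τ * z0 = z0 * τ ∧ ⁅σ, τ⁆ = z0 :=
  ⟨swap 0 2 * swap 1 3, swap 0 1, by decide, by decide, by decide⟩

theorem invol_dec : ∀ σ : Perm (Fin 4), σ * σ = 1 → σ ≠ 1 →
    (∃ τ : Perm (Fin 4), τ * σ * τ⁻¹ = z0) ∨ (∃ τ : Perm (Fin 4), τ * σ * τ⁻¹ = w0) := by decide

/-- the data without the centralizer condition -/
structure CS0 (t : G) (f : Perm (Fin 4) →* G) : Prop where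
  ht : orderOf t = 2
  finj : Function.Injective f
  hf : ∀ σ, f σ * t = t * f σ
  tf : ∀ σ, f σ ≠ t
  dec : ∀ g, g ∈ C(t) → ∃ σ, g = f σ ∨ g = t * f σ

theorem CS0.of_equiv {t : G} (ht : orderOf t = 2)
    (e : C(t) ≃* (Multiplicative (ZMod 2) × Perm (Fin 4))) : ∃ f : Perm (Fin 4) →* G, CS0 t f := by
  have ht1 : t ≠ 1 := ne_one ht
  have htC : t ∈ C(t) := Subgroup.mem_centralizer_singleton_iff.2 rfl
  set T : C(t) := ⟨t, htC⟩ with hT
  have hTc : ∀ x : C(t), T * x = x * T := fun x => Subtype.ext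
    (Subgroup.mem_centralizer_singleton_iff.1 x.2).symm
  set c := e T with hc
  have hcc : ∀ y, c * y = y * c := by
    intro y
    obtain ⟨x, rfl⟩ := e.surjective y
    rw [hc, ← map_mul, hTc, map_mul]
  have hc2 : c.2 = 1 := center_triv c.2 (fun σ => congrArg Prod.snd (hcc (1, σ)))
  have hc1 : c.1 ≠ 1 := by
    intro h
    apply ht1
    have h1 : c = 1 := Prod.ext h hc2
    have h2 : T = 1 := e.injective (by rw [← hc, h1, map_one])
    exact congrArg Subtype.val h2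
  have hz2 : ∀ a b : Multiplicative (ZMod 2), a ≠ 1 → b ≠ 1 → a = b := by decide
  refine ⟨(Subgroup.subtype _).comp (e.symm.toMonoidHom.comp (MonoidHom.inr _ _)), ?_⟩
  have hfv : ∀ σ, ((Subgroup.subtype _).comp (e.symm.toMonoidHom.comp
      (MonoidHom.inr (Multiplicative (ZMod 2)) (Perm (Fin 4))))) σ = (e.symm (1, σ) : G) :=
    fun σ => rfl
  refine ⟨ht, ?_, ?_, ?_, ?_⟩
  · intro σ τ h
    have h1 : e.symm (1, σ) = e.symm (1, τ) := Subtype.ext h
    exact congrArg Prod.snd (e.symm.injective h1)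
  · intro σ
    rw [hfv]
    exact Subgroup.mem_centralizer_singleton_iff.1 (e.symm (1, σ)).2
  · intro σ h
    rw [hfv] at h
    have h1 : e.symm (1, σ) = T := Subtype.ext h
    have h2 : ((1, σ) : Multiplicative (ZMod 2) × Perm (Fin 4)) = c := by
      rw [hc, ← h1, MulEquiv.apply_symm_apply]
    exact hc1 (congrArg Prod.fst h2).symm
  · intro g hg
    have h0 : e ⟨g, hg⟩ = ((e ⟨g, hg⟩).1, (e ⟨g, hg⟩).2) := rfl
    refine ⟨(e ⟨g, hg⟩).2, ?_⟩
    by_cases h : (e ⟨g, hg⟩).1 = 1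
    · left
      rw [hfv]
      have h1 : e ⟨g, hg⟩ = (1, (e ⟨g, hg⟩).2) := Prod.ext h rfl
      rw [← h1, MulEquiv.symm_apply_apply]
    · right
      rw [hfv]
      have h1 : e ⟨g, hg⟩ = c * (1, (e ⟨g, hg⟩).2) := by
        refine Prod.ext ?_ ?_
        · show (e ⟨g, hg⟩).1 = c.1 * 1
          rw [mul_one]; exact hz2 _ _ h hc1
        · show (e ⟨g, hg⟩).2 = c.2 * (e ⟨g, hg⟩).2
          rw [hc2, one_mul]
      have h2 : (⟨g, hg⟩ : C(t)) = T * e.symm (1, (e ⟨g, hg⟩).2) := by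
        apply e.injective
        rw [map_mul, MulEquiv.apply_symm_apply, ← hc]
        exact h1
      exact congrArg Subtype.val h2

variable {t : G} {f : Perm (Fin 4) →* G}

theorem CS0.mem_or (h : CS0 t f) (g : G) (hg : g ∈ C(t)) : ∃ σ, g = f σ ∨ g = t * f σ := h.dec g hg

theorem CS0.mem_iff (h : CS0 t f) (g : G) :
    g ∈ C(t) ↔ ∃ σ, g = f σ ∨ g = t * f σ := by
  refine ⟨h.dec g, ?_⟩
  rintro ⟨σ, rfl | rfl⟩
  · exact Subgroup.mem_centralizer_singleton_iff.2 (h.hf σ)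
  · rw [Subgroup.mem_centralizer_singleton_iff, mul_assoc, h.hf]

theorem CS0.f_mem (h : CS0 t f) (σ : Perm (Fin 4)) : f σ ∈ C(t) := (h.mem_iff _).2 ⟨σ, Or.inl rfl⟩

theorem CS0.ne (h : CS0 t f) (σ τ : Perm (Fin 4)) : f σ ≠ t * f τ := by
  intro h1
  apply h.tf (σ * τ⁻¹)
  rw [map_mul, map_inv, h1]; group

/-- `C(t)` in coordinates, for a subset of permutations -/
noncomputable def CS0.equiv (h : CS0 t f) (p : Perm (Fin 4) → Prop) (S : Subgroup G)
    (hS : ∀ g, g ∈ S ↔ ∃ σ, p σ ∧ (g = f σ ∨ g = t * f σ)) :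
    (Bool × {σ : Perm (Fin 4) // p σ}) ≃ S :=
  Equiv.ofBijective (fun x => ⟨(if x.1 then t else 1) * f x.2, (hS _).2 ⟨x.2, x.2.2, by
    by_cases hx : x.1 = true
    · right; simp [hx]
    · left; simp [hx]⟩⟩) (by
    constructor
    · rintro ⟨a, σ⟩ ⟨b, τ⟩ hh
      have h1 : (if a then t else 1) * f σ = (if b then t else 1) * f τ := congrArg Subtype.val hh
      cases a <;> cases b <;> simp only [if_true, if_false, Bool.false_eq_true, one_mul] at h1
      · rw [Subtype.ext (h.finj h1)]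
      · exact absurd h1 (h.ne _ _)
      · exact absurd h1.symm (h.ne _ _)
      · rw [Subtype.ext (h.finj (mul_left_cancel h1))]
    · rintro ⟨g, hg⟩
      obtain ⟨σ, hσ, rfl | rfl⟩ := (hS g).1 hg
      · exact ⟨(false, ⟨σ, hσ⟩), Subtype.ext (by simp)⟩
      · exact ⟨(true, ⟨σ, hσ⟩), Subtype.ext (by simp)⟩)

theorem CS0.card_C (h : CS0 t f) : Nat.card C(t) = 48 := by
  rw [← Nat.card_congr (h.equiv (fun _ => True) C(t) (fun g => by rw [h.mem_iff]; simp))]
  rw [Nat.card_prod, Nat.card_eq_fintype_card, Nat.card_eq_fintype_card]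
  have : Fintype.card {σ : Perm (Fin 4) // True} = 24 := by decide
  rw [this]; rfl

theorem CS0.comm_z (h : CS0 t f) (σ : Perm (Fin 4)) :
    (f σ * f z0 = f z0 * f σ) ↔ σ * z0 = z0 * σ := by
  rw [← map_mul, ← map_mul]
  exact h.finj.eq_iff

theorem CS0.mem_inf_iff (h : CS0 t f) (g : G) :
    g ∈ C(t) ⊓ C(f z0) ↔ ∃ σ, σ * z0 = z0 * σ ∧ (g = f σ ∨ g = t * f σ) := by
  rw [Subgroup.mem_inf, h.mem_iff]
  constructor
  · rintro ⟨⟨σ, rfl | rfl⟩, h2⟩
    · exact ⟨σ, (h.comm_z σ).1 (Subgroup.mem_centralizer_singleton_iff.1 h2), Or.inl rfl⟩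
    · have h3 := Subgroup.mem_centralizer_singleton_iff.1 h2
      refine ⟨σ, (h.comm_z σ).1 ?_, Or.inr rfl⟩
      apply mul_left_cancel (a := t)
      calc t * (f σ * f z0) = t * f σ * f z0 := by group
        _ = f z0 * (t * f σ) := h3
        _ = (f z0 * t) * f σ := by group
        _ = t * (f z0 * f σ) := by rw [h.hf]; group
  · rintro ⟨σ, hσ, rfl | rfl⟩
    · exact ⟨⟨σ, Or.inl rfl⟩, Subgroup.mem_centralizer_singleton_iff.2 ((h.comm_z σ).2 hσ)⟩
    · refine ⟨⟨σ, Or.inr rfl⟩, Subgroup.mem_centralizer_singleton_iff.2 ?_⟩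
      rw [mul_assoc, (h.comm_z σ).2 hσ, ← mul_assoc, ← mul_assoc, h.hf]

theorem CS0.card_inf (h : CS0 t f) : Nat.card (C(t) ⊓ C(f z0) : Subgroup G) = 16 := by
  rw [← Nat.card_congr (h.equiv (fun σ => σ * z0 = z0 * σ) _ h.mem_inf_iff)]
  rw [Nat.card_prod, Nat.card_eq_fintype_card, Nat.card_eq_fintype_card, card_comm]
  rfl

/-- commutators in `C(t) ∩ C(z)` -/
theorem CS0.comm_mem (h : CS0 t f) {x y : G} (hx : x ∈ C(t) ⊓ C(f z0)) (hy : y ∈ C(t) ⊓ C(f z0)) :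
    ⁅x, y⁆ = 1 ∨ ⁅x, y⁆ = f z0 := by
  have ht := mul_self h.ht
  have key : ∀ σ τ : Perm (Fin 4), ∀ a b : G, (a = f σ ∨ a = t * f σ) → (b = f τ ∨ b = t * f τ) →
      ⁅a, b⁆ = f ⁅σ, τ⁆ := by
    intro σ τ a b ha hb
    have htinv : t⁻¹ = t := inv_eq_of_mul_eq_one_left ht
    have h1 : ∀ x : Perm (Fin 4), (f x)⁻¹ * t = t * (f x)⁻¹ := fun x => by
      rw [← map_inv]; exact h.hf _
    rw [map_commutatorElement]
    rcases ha with rfl | rfl <;> rcases hb with rfl | rfl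
    · rfl
    · rw [commutatorElement_def, commutatorElement_def, mul_inv_rev, htinv]
      calc f σ * (t * f τ) * (f σ)⁻¹ * ((f τ)⁻¹ * t) =
          (f σ * t) * f τ * (f σ)⁻¹ * ((f τ)⁻¹ * t) := by group
        _ = t * (f σ * f τ * (f σ)⁻¹ * ((f τ)⁻¹ * t)) := by rw [h.hf]; group
        _ = t * (f σ * f τ * ((f σ)⁻¹ * t) * (f τ)⁻¹) := by rw [h1 τ]; group
        _ = t * (f σ * (f τ * t) * (f σ)⁻¹ * (f τ)⁻¹) := by rw [h1 σ]; group
        _ = t * ((f σ * t) * f τ * (f σ)⁻¹ * (f τ)⁻¹) := by rw [h.hf]; group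
        _ = (t * t) * (f σ * f τ * (f σ)⁻¹ * (f τ)⁻¹) := by rw [h.hf]; group
        _ = _ := by rw [ht, one_mul]
    · rw [commutatorElement_def, commutatorElement_def, mul_inv_rev, htinv]
      calc t * f σ * f τ * ((f σ)⁻¹ * t) * (f τ)⁻¹ = t * f σ * f τ * (t * (f σ)⁻¹) * (f τ)⁻¹ := by
            rw [h1 σ]
        _ = t * f σ * (f τ * t) * (f σ)⁻¹ * (f τ)⁻¹ := by group
        _ = t * (f σ * t) * f τ * (f σ)⁻¹ * (f τ)⁻¹ := by rw [h.hf]; group
        _ = (t * t) * (f σ * f τ * (f σ)⁻¹ * (f τ)⁻¹) := by rw [h.hf]; group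
        _ = _ := by rw [ht, one_mul]
    · rw [commutatorElement_def, commutatorElement_def, mul_inv_rev, mul_inv_rev, htinv]
      calc t * f σ * (t * f τ) * ((f σ)⁻¹ * t) * ((f τ)⁻¹ * t) =
          t * (f σ * t) * f τ * ((f σ)⁻¹ * t) * ((f τ)⁻¹ * t) := by group
        _ = (t * t) * f σ * f τ * ((f σ)⁻¹ * t) * ((f τ)⁻¹ * t) := by rw [h.hf]; group
        _ = f σ * f τ * ((f σ)⁻¹ * t) * (t * (f τ)⁻¹) := by rw [ht, h1 τ]; group
        _ = f σ * f τ * (f σ)⁻¹ * (t * t) * (f τ)⁻¹ := by group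
        _ = _ := by rw [ht]; group
  obtain ⟨σ, hσ, hx⟩ := (h.mem_inf_iff x).1 hx
  obtain ⟨τ, hτ, hy⟩ := (h.mem_inf_iff y).1 hy
  rw [key σ τ x y hx hy]
  rcases comm_dec σ τ hσ hτ with h1 | h1
  · left; rw [h1, map_one]
  · right; rw [h1]

/-- the centralizer condition and the Sylow subgroup -/
theorem CS0.cs [Finite G] (h : CS0 t f) (T : Sylow 2 G)
    (htc : ∀ s ∈ (T : Subgroup G), s * t = t * s)
    (h2 : ∀ S : Sylow 2 G, Subgroup.centralizer ((⁅(S : Subgroup G), (S : Subgroup G)⁆ : Subgroup G) : Set G) = (S : Subgroup G)) :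
    ∃ R : Sylow 2 G, (R : Subgroup G) = C(t) ⊓ C(f z0) ∧ (R : Subgroup G) = C(f z0) := by
  have hp2 : Fact (Nat.Prime 2) := ⟨Nat.prime_two⟩
  have hTC : (T : Subgroup G) ≤ C(t) := fun s hs =>
    Subgroup.mem_centralizer_singleton_iff.2 (htc s hs)
  have hT16 : Nat.card (T : Subgroup G) ≤ 16 := by
    have h1 := Subgroup.card_dvd_of_le hTC
    rw [h.card_C] at h1
    obtain ⟨k, hk⟩ := IsPGroup.iff_card.1 T.isPGroup'
    rw [hk] at h1 ⊢
    have h3 : k < 5 := by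
      by_contra hk5
      have h4 : 2 ^ 5 ∣ 48 := (pow_dvd_pow 2 (by omega)).trans h1
      norm_num at h4
    have h4 : 2 ^ k ≤ 2 ^ 4 := Nat.pow_le_pow_right (by norm_num) (by omega)
    simpa using h4
  have hP : IsPGroup 2 (C(t) ⊓ C(f z0) : Subgroup G) := IsPGroup.of_card (n := 4) (by
    rw [h.card_inf]; norm_num)
  obtain ⟨R, hR⟩ := hP.exists_le_sylow
  have hRT : Nat.card (R : Subgroup G) = Nat.card (T : Subgroup G) := Nat.card_congr (Sylow.equiv R T).toEquiv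
  have hR2 : (R : Subgroup G) = C(t) ⊓ C(f z0) := (Subgroup.eq_of_le_of_card_ge hR (by
    rw [h.card_inf, hRT]; exact hT16)).symm
  refine ⟨R, hR2, ?_⟩
  apply le_antisymm
  · rw [hR2]; exact inf_le_right
  · rw [← h2 R]
    intro g hg
    rw [Subgroup.mem_centralizer_iff]
    intro y hy
    have h3 : ⁅(R : Subgroup G), (R : Subgroup G)⁆ ≤ Subgroup.zpowers (f z0) := by
      rw [Subgroup.commutator_le]
      intro a ha b hb
      rw [hR2] at ha hb
      rcases h.comm_mem ha hb with h4 | h4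
      · rw [h4]; exact one_mem _
      · rw [h4]; exact Subgroup.mem_zpowers _
    obtain ⟨k, hk⟩ := Subgroup.mem_zpowers_iff.1 (h3 hy)
    rw [← hk]
    have h4 : Commute g (f z0) := Subgroup.mem_centralizer_singleton_iff.1 hg
    exact (h4.zpow_right k).symm

end Cfsg.Agent.Lib.CSF
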