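import Cfsg.Agent.Lib.H4CSa

/-!
# Groups with a 2-central involution with centralizer `Z₂ × S₄` (S3222), II (helper4)
-/

set_option autoImplicit false
set_option linter.unusedSectionVars false

namespace Cfsg.Agent.Lib.CSF

open Equiv Cfsg.Agent.Lib.Involutions
open scoped commutatorElement

local notation "C(" z ")" => Subgroup.centralizer ({z} : Set _)

variable {G : Type*} [Group G] [Finite G]

structure CS (t : G) (f : Perm (Fin 4) →* G) (R : Sylow 2 G) : Prop where
  c : CS0 t f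
  hR : (R : Subgroup G) = C(t) ⊓ C(f z0)
  hR' : (R : Subgroup G) = C(f z0)

variable {t : G} {f : Perm (Fin 4) →* G} {R : Sylow 2 G}

theorem CS.le (h : CS t f R) : C(f z0) ≤ C(t) := by
  rw [← h.hR', h.hR]; exact inf_le_left

theorem CS.z_ne (h : CS t f R) (g : G) : g * t * g⁻¹ ≠ f z0 := by
  intro hg
  -- `|C(z)| = 16`, `|C(t)| = 48`
  have h1 : Nat.card C(f z0) = 16 := by rw [← h.hR', h.hR, h.c.card_inf]
  have h2 : Nat.card C(f z0) = Nat.card C(t) := by
    refine Nat.card_congr ⟨fun x => ⟨g⁻¹ * x * g, ?_⟩, fun x => ⟨g * x * g⁻¹, ?_⟩, ?_, ?_⟩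
    · have hx0 := Subgroup.mem_centralizer_singleton_iff.1 x.2
      have hx : (x : G) * (g * t * g⁻¹) = (g * t * g⁻¹) * x := by rw [hg]; exact hx0
      rw [Subgroup.mem_centralizer_singleton_iff]
      calc g⁻¹ * x * g * t = g⁻¹ * (x * (g * t * g⁻¹)) * g := by group
        _ = g⁻¹ * ((g * t * g⁻¹) * x) * g := by rw [hx]
        _ = _ := by group
    · have hx := Subgroup.mem_centralizer_singleton_iff.1 x.2
      rw [Subgroup.mem_centralizer_singleton_iff]
      rw [← hg]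
      calc g * x * g⁻¹ * (g * t * g⁻¹) = g * (x * t) * g⁻¹ := by group
        _ = g * (t * x) * g⁻¹ := by rw [hx]
        _ = _ := by group
    · intro x; apply Subtype.ext
      show g * (g⁻¹ * x * g) * g⁻¹ = x
      group
    · intro x; apply Subtype.ext
      show g⁻¹ * (g * x * g⁻¹) * g = x
      group
  rw [h1, h.c.card_C] at h2
  omega

theorem CS.f_memR (h : CS t f R) {σ : Perm (Fin 4)} (hσ : σ * z0 = z0 * σ) : f σ ∈ (R : Subgroup G) := by
  rw [h.hR, h.c.mem_inf_iff]; exact ⟨σ, hσ, Or.inl rfl⟩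

theorem CS.tf_memR (h : CS t f R) {σ : Perm (Fin 4)} (hσ : σ * z0 = z0 * σ) :
    t * f σ ∈ (R : Subgroup G) := by
  rw [h.hR, h.c.mem_inf_iff]; exact ⟨σ, hσ, Or.inr rfl⟩

theorem CS.t_memR (h : CS t f R) : t ∈ (R : Subgroup G) := by
  have := h.tf_memR (σ := 1) (by simp)
  rwa [map_one, mul_one] at this

theorem CS.tz_ne (h : CS t f R) (g : G) : g * t * g⁻¹ ≠ t * f z0 := by
  intro hg
  have hp2 : Fact (Nat.Prime 2) := ⟨Nat.prime_two⟩
  have hz1 : f z0 ≠ 1 := by
    rw [← map_one f]; exact fun h1 => absurd (h.c.finj h1) (by decide)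
  have hRc : ∀ x ∈ (R : Subgroup G), x * t = t * x ∧ x * f z0 = f z0 * x := by
    intro x hx
    rw [h.hR, Subgroup.mem_inf] at hx
    exact ⟨Subgroup.mem_centralizer_singleton_iff.1 hx.1, Subgroup.mem_centralizer_singleton_iff.1 hx.2⟩
  obtain ⟨n, hn, hnt⟩ := R.conj_eq_normalizer_conj_of_mem_centralizer t g⁻¹
    (Subgroup.mem_centralizer_iff.2 fun x hx => (hRc x hx).1)
    (Subgroup.mem_centralizer_iff.2 fun x hx => by
      rw [inv_inv, hg]
      obtain ⟨h1, h2⟩ := hRc x hx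
      rw [← mul_assoc, h1, mul_assoc, h2, mul_assoc])
  rw [inv_inv, hg] at hnt
  -- `n` centralizes `z`
  obtain ⟨σ, τ, hσ, hτ, hc⟩ := exists_comm
  have h1 : ⁅f σ, f τ⁆ = f z0 := by rw [← map_commutatorElement, hc]
  have h2 : ⁅n * f σ * n⁻¹, n * f τ * n⁻¹⁆ = n * f z0 * n⁻¹ := by
    rw [← h1, commutatorElement_def, commutatorElement_def]; group
  have hn' : ∀ x, x ∈ (R : Subgroup G) → n * x * n⁻¹ ∈ (R : Subgroup G) := fun x hx =>
    (Subgroup.mem_normalizer_iff.1 hn x).1 hx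
  have h3 := h.c.comm_mem (x := n * f σ * n⁻¹) (y := n * f τ * n⁻¹)
    (by rw [← h.hR]; exact hn' _ (h.f_memR hσ)) (by rw [← h.hR]; exact hn' _ (h.f_memR hτ))
  rw [h2] at h3
  have h4 : n * f z0 * n⁻¹ = f z0 := by
    rcases h3 with h3 | h3
    · exfalso
      apply hz1
      calc f z0 = n⁻¹ * (n * f z0 * n⁻¹) * n := by group
        _ = 1 := by rw [h3]; group
    · exact h3
  have h5 : n ∈ C(t) := h.le (Subgroup.mem_centralizer_singleton_iff.2 (by
    calc n * f z0 = (n * f z0 * n⁻¹) * n := by group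
      _ = f z0 * n := by rw [h4]))
  have h6 := Subgroup.mem_centralizer_singleton_iff.1 h5
  have h7 : n⁻¹ * t * n = t := by
    rw [mul_assoc, ← h6]; group
  rw [h7] at hnt
  apply hz1
  have : t * f z0 = t * 1 := by rw [mul_one]; exact hnt
  exact mul_left_cancel this

/-- `D = C(z) ∩ im f` -/
def Dg (f : Perm (Fin 4) →* G) : Subgroup G := (Subgroup.centralizer ({z0} : Set (Perm (Fin 4)))).map f

theorem mem_Dg {x : G} : x ∈ Dg f ↔ ∃ σ, σ * z0 = z0 * σ ∧ f σ = x := by
  rw [Dg, Subgroup.mem_map]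
  simp only [Subgroup.mem_centralizer_singleton_iff]

theorem CS.card_Dg (h : CS t f R) : Nat.card (Dg f) = 8 := by
  rw [Dg, Subgroup.card_map_of_injective h.c.finj]
  have e : (Subgroup.centralizer ({z0} : Set (Perm (Fin 4)))) ≃ {σ : Perm (Fin 4) // σ * z0 = z0 * σ} :=
    Equiv.subtypeEquivRight fun σ => Subgroup.mem_centralizer_singleton_iff
  rw [Nat.card_congr e, Nat.card_eq_fintype_card, card_comm]

theorem CS.Dg_le (h : CS t f R) : Dg f ≤ (R : Subgroup G) := by
  intro x hx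
  obtain ⟨σ, hσ, rfl⟩ := mem_Dg.1 hx
  exact h.f_memR hσ

theorem CS.relIndex (h : CS t f R) : (Dg f).relIndex (R : Subgroup G) = 2 := by
  have h1 : Nat.card (Dg f) * (Dg f).relIndex (R : Subgroup G) = Nat.card (R : Subgroup G) := by
    have := Subgroup.card_mul_index ((Dg f).subgroupOf (R : Subgroup G))
    rwa [Nat.card_congr (Subgroup.subgroupOfEquivOfLe h.Dg_le).toEquiv] at this
  rw [h.card_Dg, h.hR, h.c.card_inf] at h1
  rw [h.hR]
  omega

theorem CS.exists_M (h : CS t f R) : ∃ M : Subgroup G, M.Normal ∧ M.index = 2 ∧ t ∉ M := by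
  have ht2 := mul_self h.c.ht
  have hzz : f z0 * f z0 = 1 := by rw [← map_mul, z0_sq, map_one]
  have hz1 : f z0 ≠ 1 := by
    rw [← map_one f]; exact fun h1 => absurd (h.c.finj h1) (by decide)
  have htz : f z0 * t = t * f z0 := h.c.hf z0
  have hztne : t * f z0 ≠ 1 := by
    intro h1
    apply h.c.tf z0
    calc f z0 = t * (t * f z0) := by rw [← mul_assoc, ht2, one_mul]
      _ = t := by rw [h1, mul_one]
  have hzt2 : orderOf (t * f z0) = 2 := by
    apply orderOf_eq_prime _ hztne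
    rw [pow_two]
    calc t * f z0 * (t * f z0) = t * (f z0 * t) * f z0 := by group
      _ = (t * t) * (f z0 * f z0) := by rw [htz]; group
      _ = 1 := by rw [ht2, hzz, one_mul]
  by_contra hcon
  push Not at hcon
  have key : ∀ u : G, orderOf u = 2 → u ∈ (R : Subgroup G) →
      (∀ M : Subgroup G, M.Normal → M.index = 2 → u ∈ M) → (∀ g, g * u * g⁻¹ ≠ f z0) →
      ∃ g : G, g * u * g⁻¹ = f w0 := by
    intro u hu huR hM hne
    by_contra hg
    push Not at hg
    obtain ⟨M, hM1, hM2, hM3⟩ := ThompsonTransfer.thompson_transfer R (Dg f) h.relIndex u hu huR (by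
      intro g hgu
      obtain ⟨σ, hσ, hσu⟩ := mem_Dg.1 hgu
      have hu2 := mul_self hu
      have h1 : σ * σ = 1 := by
        apply h.c.finj
        rw [map_mul, hσu, map_one]
        calc g * u * g⁻¹ * (g * u * g⁻¹) = g * (u * u) * g⁻¹ := by group
          _ = 1 := by rw [hu2]; group
      have h2 : σ ≠ 1 := by
        rintro rfl
        rw [map_one] at hσu
        apply ne_one hu
        calc u = g⁻¹ * (g * u * g⁻¹) * g := by group
          _ = 1 := by rw [← hσu]; group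
      rcases invol_dec σ h1 h2 with ⟨τ, hτ⟩ | ⟨τ, hτ⟩
      · apply hne (f τ * g)
        calc f τ * g * u * (f τ * g)⁻¹ = f τ * (g * u * g⁻¹) * (f τ)⁻¹ := by group
          _ = f (τ * σ * τ⁻¹) := by rw [← hσu, map_mul, map_mul, map_inv]
          _ = f z0 := by rw [hτ]
      · apply hg (f τ * g)
        calc f τ * g * u * (f τ * g)⁻¹ = f τ * (g * u * g⁻¹) * (f τ)⁻¹ := by group
          _ = f (τ * σ * τ⁻¹) := by rw [← hσu, map_mul, map_mul, map_inv]
          _ = f w0 := by rw [hτ])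
    exact hM3 (hM M hM1 hM2)
  obtain ⟨g1, hg1⟩ := key t h.c.ht h.t_memR hcon h.z_ne
  have hzM : ∀ M : Subgroup G, M.Normal → M.index = 2 → f z0 ∈ M := by
    intro M hM1 hM2
    obtain ⟨σ, τ, hσ, hτ, hc⟩ := exists_comm
    rw [← hc, map_commutatorElement, commutatorElement_def]
    simp only [Subgroup.mul_mem_iff_of_index_two hM2, inv_mem_iff]
    tauto
  have hR2 : ∀ g, g * (t * f z0) * g⁻¹ ≠ f z0 := by
    intro g hg
    -- z ~ tz
    have hp2 : Fact (Nat.Prime 2) := ⟨Nat.prime_two⟩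
    have hRc : ∀ x ∈ (R : Subgroup G), x * t = t * x ∧ x * f z0 = f z0 * x := by
      intro x hx
      rw [h.hR, Subgroup.mem_inf] at hx
      exact ⟨Subgroup.mem_centralizer_singleton_iff.1 hx.1, Subgroup.mem_centralizer_singleton_iff.1 hx.2⟩
    obtain ⟨n, hn, hnt⟩ := R.conj_eq_normalizer_conj_of_mem_centralizer (f z0) g
      (Subgroup.mem_centralizer_iff.2 fun x hx => (hRc x hx).2)
      (Subgroup.mem_centralizer_iff.2 fun x hx => by
        have h1 : g⁻¹ * f z0 * g = t * f z0 := by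
          calc g⁻¹ * f z0 * g = g⁻¹ * (g * (t * f z0) * g⁻¹) * g := by rw [hg]
            _ = _ := by group
        rw [h1]
        obtain ⟨h1, h2⟩ := hRc x hx
        rw [← mul_assoc, h1, mul_assoc, h2, mul_assoc])
    have h1 : g⁻¹ * f z0 * g = t * f z0 := by
      calc g⁻¹ * f z0 * g = g⁻¹ * (g * (t * f z0) * g⁻¹) * g := by rw [hg]
        _ = _ := by group
    rw [h1] at hnt
    obtain ⟨σ, τ, hσ, hτ, hc⟩ := exists_comm
    have h1 : ⁅f σ, f τ⁆ = f z0 := by rw [← map_commutatorElement, hc]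
    have h2 : ⁅n⁻¹ * f σ * n, n⁻¹ * f τ * n⁆ = n⁻¹ * f z0 * n := by
      rw [← h1, commutatorElement_def, commutatorElement_def]; group
    have hn' : ∀ x, x ∈ (R : Subgroup G) → n⁻¹ * x * n ∈ (R : Subgroup G) := fun x hx => by
      have := (Subgroup.mem_normalizer_iff.1 (inv_mem hn) x).1 hx
      rwa [inv_inv] at this
    have h3 := h.c.comm_mem (x := n⁻¹ * f σ * n) (y := n⁻¹ * f τ * n)
      (by rw [← h.hR]; exact hn' _ (h.f_memR hσ)) (by rw [← h.hR]; exact hn' _ (h.f_memR hτ))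
    rw [h2, ← hnt] at h3
    rcases h3 with h3 | h3
    · exact hztne h3
    · apply ne_one h.c.ht
      have : t * f z0 = 1 * f z0 := by rw [h3, one_mul]
      exact mul_right_cancel this
  obtain ⟨g2, hg2⟩ := key (t * f z0) hzt2 (h.tf_memR rfl) (by
    intro M hM1 hM2
    rw [Subgroup.mul_mem_iff_of_index_two hM2]
    exact iff_of_true (hcon M hM1 hM2) (hzM M hM1 hM2)) hR2
  apply h.tz_ne (g2⁻¹ * g1)
  calc g2⁻¹ * g1 * t * (g2⁻¹ * g1)⁻¹ = g2⁻¹ * (g1 * t * g1⁻¹) * g2 := by group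
    _ = g2⁻¹ * (g2 * (t * f z0) * g2⁻¹) * g2 := by rw [hg1, hg2]
    _ = _ := by group

/-- the homomorphism into `M` -/
theorem CS.exists_CSM (h : CS t f R) : ∃ (f' : Perm (Fin 4) →* G) (M : Subgroup G), CS t f' R ∧ M.Normal ∧
    M.index = 2 ∧ t ∉ M ∧ ∀ σ, f' σ ∈ M := by
  classical
  obtain ⟨M, hM1, hM2, hM3⟩ := h.exists_M
  have ht2 := mul_self h.c.ht
  let f' : Perm (Fin 4) →* G :=
    { toFun := fun σ => if f σ ∈ M then f σ else t * f σ
      map_one' := by simp
      map_mul' := fun σ τ => by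
        have h1 := Subgroup.mul_mem_iff_of_index_two hM2 (a := f σ) (b := f τ)
        by_cases hσ : f σ ∈ M <;> by_cases hτ : f τ ∈ M <;> simp [hσ, hτ, h1]
        · rw [← mul_assoc, ← mul_assoc, h.c.hf]
        · rw [mul_assoc]
        · calc f σ * f τ = (t * t) * f σ * f τ := by rw [ht2, one_mul]
            _ = t * (f σ * t) * f τ := by rw [h.c.hf]; group
            _ = _ := by group }
  have hf' : ∀ σ, f' σ = if f σ ∈ M then f σ else t * f σ := fun σ => rfl
  have hzM : f z0 ∈ M := by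
    obtain ⟨σ, τ, hσ, hτ, hc⟩ := exists_comm
    rw [← hc, map_commutatorElement, commutatorElement_def]
    simp only [Subgroup.mul_mem_iff_of_index_two hM2, inv_mem_iff]
    tauto
  have hz' : f' z0 = f z0 := by rw [hf', if_pos hzM]
  have hor : ∀ σ, f' σ = f σ ∨ f' σ = t * f σ := fun σ => by
    rw [hf']; split_ifs
    · exact Or.inl rfl
    · exact Or.inr rfl
  have hor' : ∀ σ, f σ = f' σ ∨ f σ = t * f' σ := fun σ => by
    rcases hor σ with h1 | h1
    · exact Or.inl h1.symm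
    · right; rw [h1, ← mul_assoc, ht2, one_mul]
  have hmem : ∀ σ, f' σ ∈ M := by
    intro σ
    rw [hf']; split_ifs with h1
    · exact h1
    · rw [Subgroup.mul_mem_iff_of_index_two hM2]
      exact iff_of_false hM3 h1
  refine ⟨f', M, ⟨⟨h.c.ht, ?_, ?_, ?_, ?_⟩, by rw [hz']; exact h.hR, by rw [hz']; exact h.hR'⟩,
    hM1, hM2, hM3, hmem⟩
  · intro σ τ hστ
    rcases hor σ with h1 | h1 <;> rcases hor τ with h2 | h2 <;> rw [h1, h2] at hστ
    · exact h.c.finj hστ
    · exact absurd hστ (h.c.ne _ _)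
    · exact absurd hστ.symm (h.c.ne _ _)
    · exact h.c.finj (mul_left_cancel hστ)
  · intro σ
    rcases hor σ with h1 | h1 <;> rw [h1]
    · exact h.c.hf σ
    · rw [mul_assoc, h.c.hf]
  · intro σ hσ
    apply hM3
    rw [← hσ]; exact hmem σ
  · intro g hg
    obtain ⟨σ, rfl | rfl⟩ := h.c.dec g hg
    · exact ⟨σ, hor' σ⟩
    · refine ⟨σ, ?_⟩
      rcases hor' σ with h1 | h1
      · right; rw [← h1]
      · left; rw [h1, ← mul_assoc, ht2, one_mul]

end Cfsg.Agent.Lib.CSF
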