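import Cfsg.Agent.Lib.H4CSb
import Cfsg.Agent.Lib.DihD8
import Cfsg.Agent.Lib.DihRec
import Cfsg.Agent.Lib.ZStarU
import Cfsg.Agent.Lib.ElemCent3

/-!
# Groups with a 2-central involution with centralizer `Z₂ × S₄` (S3222), III (helper4)
-/

set_option autoImplicit false
set_option linter.unusedSectionVars false

namespace Cfsg.Agent.Lib.CSF

open Equiv Cfsg.Agent.Lib.Involutions
open scoped commutatorElement

local notation "C(" z ")" => Subgroup.centralizer ({z} : Set _)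

variable {G : Type*} [Group G] [Finite G]

/-- with the index 2 subgroup -/
structure CM (t : G) (f : Perm (Fin 4) →* G) (R : Sylow 2 G) (M : Subgroup G) : Prop where
  s : CS t f R
  n : M.Normal
  i : M.index = 2
  tM : t ∉ M
  fM : ∀ σ, f σ ∈ M

variable {t : G} {f : Perm (Fin 4) →* G} {R : Sylow 2 G} {M : Subgroup G}

theorem CM.mem (h : CM t f R M) {g : G} (hg : g ∈ C(t)) (hgM : g ∈ M) : ∃ σ, g = f σ := by
  obtain ⟨σ, hσ | hσ⟩ := h.s.c.dec g hg
  · exact ⟨σ, hσ⟩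
  · exfalso
    apply h.tM
    rw [hσ, Subgroup.mul_mem_iff_of_index_two h.i] at hgM
    exact hgM.2 (h.fM σ)

theorem CM.mem' (h : CM t f R M) {g : G} (hg : g ∈ C(f z0)) (hgM : g ∈ M) :
    ∃ σ, σ * z0 = z0 * σ ∧ g = f σ := by
  obtain ⟨σ, rfl⟩ := h.mem (h.s.le hg) hgM
  exact ⟨σ, (h.s.c.comm_z σ).1 (Subgroup.mem_centralizer_singleton_iff.1 hg), rfl⟩

/-- the 4-cycle -/
abbrev c4 : Perm (Fin 4) := swap 0 2 * swap 1 3 * swap 0 1

theorem cent_z0 : Nonempty (Subgroup.centralizer ({z0} : Set (Perm (Fin 4))) ≃* DihedralGroup 4) := by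
  have hc : c4 ∈ Subgroup.centralizer ({z0} : Set (Perm (Fin 4))) :=
    Subgroup.mem_centralizer_singleton_iff.2 (by decide)
  have hw : w0 ∈ Subgroup.centralizer ({z0} : Set (Perm (Fin 4))) :=
    Subgroup.mem_centralizer_singleton_iff.2 (by decide)
  apply DihRec.dihedral_of_gens 4 ⟨c4, hc⟩ ⟨w0, hw⟩ (by norm_num)
  · rw [Subgroup.orderOf_mk]
    have hp2 : Fact (Nat.Prime 2) := ⟨Nat.prime_two⟩
    exact orderOf_eq_prime_pow (p := 2) (n := 1) (by decide) (by decide)
  · have e : (Subgroup.centralizer ({z0} : Set (Perm (Fin 4)))) ≃ {σ : Perm (Fin 4) // σ * z0 = z0 * σ} :=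
      Equiv.subtypeEquivRight fun σ => Subgroup.mem_centralizer_singleton_iff
    rw [Nat.card_congr e, Nat.card_eq_fintype_card, card_comm]
  · intro h
    obtain ⟨k, hk⟩ := Subgroup.mem_zpowers_iff.1 h
    have h1 : c4 ^ k = w0 := congrArg Subtype.val hk
    have h2 : Commute (c4 ^ k) c4 := (Commute.refl c4).zpow_left k
    rw [h1] at h2
    exact absurd h2 (by unfold Commute SemiconjBy; decide)
  · exact Subtype.ext (show w0 * w0 = 1 by decide)
  · exact Subtype.ext (show (w0 * c4) * (w0 * c4) = 1 by decide)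

theorem CM.cent (h : CM t f R M) :
    Nonempty (Subgroup.centralizer ({(⟨f z0, h.fM z0⟩ : M)} : Set M) ≃* DihedralGroup 4) := by
  obtain ⟨e⟩ := cent_z0
  let g : Subgroup.centralizer ({z0} : Set (Perm (Fin 4))) →*
      Subgroup.centralizer ({(⟨f z0, h.fM z0⟩ : M)} : Set M) :=
    { toFun := fun σ => ⟨⟨f σ, h.fM σ⟩, Subgroup.mem_centralizer_singleton_iff.2 (Subtype.ext
        ((h.s.c.comm_z σ).2 (Subgroup.mem_centralizer_singleton_iff.1 σ.2)))⟩
      map_one' := Subtype.ext (Subtype.ext (by simp))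
      map_mul' := fun σ τ => Subtype.ext (Subtype.ext (by simp)) }
  refine ⟨(MulEquiv.ofBijective g ⟨?_, ?_⟩).symm.trans e⟩
  · intro σ τ hστ
    exact Subtype.ext (h.s.c.finj (congrArg (fun x :
      Subgroup.centralizer ({(⟨f z0, h.fM z0⟩ : M)} : Set M) => ((x : M) : G)) hστ))
  · rintro ⟨⟨x, hxM⟩, hx⟩
    have hx' : x ∈ C(f z0) := Subgroup.mem_centralizer_singleton_iff.2
      (congrArg Subtype.val (Subgroup.mem_centralizer_singleton_iff.1 hx))
    obtain ⟨σ, hσ, rfl⟩ := h.mem' hx' hxM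
    exact ⟨⟨σ, Subgroup.mem_centralizer_singleton_iff.2 hσ⟩, Subtype.ext (Subtype.ext rfl)⟩

theorem f_order {σ : Perm (Fin 4)} (h : CS0 t f) (h1 : σ * σ = 1) (h2 : σ ≠ 1) : orderOf (f σ) = 2 := by
  apply orderOf_eq_prime
  · rw [pow_two, ← map_mul, h1, map_one]
  · rw [← map_one f]; exact fun h3 => h2 (h.finj h3)

theorem CM.odd_fix (h : CM t f R M) {x : G} (hx : x ∈ oddCore G) (hxz : x ∈ C(f z0)) : x = 1 := by
  have hKodd : Odd (Nat.card (oddCore G)) := H23Basic.odd_card_oddCore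
  have hxR : x ∈ (R : Subgroup G) := by rw [h.s.hR']; exact hxz
  obtain ⟨k, hk⟩ := R.isPGroup' ⟨x, hxR⟩
  have h1 : x ^ 2 ^ k = 1 := congrArg Subtype.val hk
  have h2 : orderOf x ∣ 2 ^ k := orderOf_dvd_of_pow_eq_one h1
  have h3 : orderOf x ∣ Nat.card (oddCore G) := by
    rw [← Subgroup.orderOf_mk x hx]; exact orderOf_dvd_natCard _
  have h4 : Nat.Coprime (2 ^ k) (Nat.card (oddCore G)) :=
    Nat.Coprime.pow_left _ (Nat.coprime_two_left.2 hKodd)
  exact orderOf_eq_one_iff.1 (Nat.eq_one_of_dvd_coprimes h4 h2 h3)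

/-- `O(G) = 1` -/
theorem CM.core (h : CM t f R M) : oddCore G = ⊥ := by
  have hKn : (oddCore G).Normal := inferInstance
  have key : ∀ v a : Perm (Fin 4), v * v = 1 → v ≠ 1 → a * z0 * a⁻¹ = v →
      ∀ x ∈ oddCore G, f v * x * (f v)⁻¹ = x⁻¹ := by
    intro v a hv hv1 hva
    apply BSW.inverts_of_fpf (f_order h.s.c hv hv1)
    · intro x hx; exact hKn.conj_mem x hx _
    · intro x hx hxv
      have h1 : (f a)⁻¹ * x * f a = 1 := by
        apply h.odd_fix
        · have := hKn.conj_mem x hx (f a)⁻¹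
          rwa [inv_inv] at this
        · rw [Subgroup.mem_centralizer_singleton_iff]
          have h2 : f v * x = x * f v := by
            calc f v * x = (f v * x * (f v)⁻¹) * f v := by group
              _ = _ := by rw [hxv]
          have h3 : f v = f a * f z0 * (f a)⁻¹ := by rw [← hva, map_mul, map_mul, map_inv]
          calc (f a)⁻¹ * x * f a * f z0 = (f a)⁻¹ * (x * (f a * f z0 * (f a)⁻¹)) * f a := by group
            _ = (f a)⁻¹ * ((f a * f z0 * (f a)⁻¹) * x) * f a := by rw [← h3, h2]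
            _ = _ := by group
      calc x = f a * ((f a)⁻¹ * x * f a) * (f a)⁻¹ := by group
        _ = 1 := by rw [h1]; group
  rw [eq_bot_iff]
  intro x hx
  rw [Subgroup.mem_bot]
  have h1 := key z0 1 (by decide) (by decide) (by decide)
  have h2 := key (swap 0 2 * swap 1 3) (swap 1 2) (by decide) (by decide) (by decide)
  have h3 := key (swap 0 3 * swap 1 2) (swap 1 3) (by decide) (by decide) (by decide)
  have e1 : (swap 0 3 * swap 1 2 : Perm (Fin 4)) = z0 * (swap 0 2 * swap 1 3) := by decide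
  have h4 := h3 x hx
  rw [e1, map_mul] at h4
  have h5 : f z0 * f (swap 0 2 * swap 1 3) * x * (f z0 * f (swap 0 2 * swap 1 3))⁻¹ = x := by
    calc f z0 * f (swap 0 2 * swap 1 3) * x * (f z0 * f (swap 0 2 * swap 1 3))⁻¹ =
        f z0 * (f (swap 0 2 * swap 1 3) * x * (f (swap 0 2 * swap 1 3))⁻¹) * (f z0)⁻¹ := by group
      _ = (f z0 * x * (f z0)⁻¹)⁻¹ := by rw [h2 x hx]; group
      _ = x := by rw [h1 x hx, inv_inv]
  rw [h5] at h4
  have h6 : x * x = 1 := by nth_rewrite 1 [h4]; exact inv_mul_cancel x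
  by_contra hx1
  have h7 : orderOf x = 2 := orderOf_eq_prime (by rw [pow_two]; exact h6) hx1
  have h8 : orderOf x ∣ Nat.card (oddCore G) := by
    rw [← Subgroup.orderOf_mk x hx]; exact orderOf_dvd_natCard _
  rw [h7] at h8
  exact (Nat.not_even_iff_odd.2 H23Basic.odd_card_oddCore) (even_iff_two_dvd.2 h8)

/-- `t` is fused to `t f(0 1)`, or central. -/
theorem CM.fuse (h : CM t f R M) : C(t) = ⊤ ∨ ∃ g : G, g * t * g⁻¹ = t * f w0 := by
  by_cases hiso : ∀ g : G, g * t * g⁻¹ ∈ R → g * t * g⁻¹ = t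
  · left
    have h1 := ZStarU.inZStar_of_sylow R h.s.t_memR hiso
    rw [eq_top_iff]
    intro g _
    have h2 : g * t * g⁻¹ * t⁻¹ ∈ oddCore G := h1 g
    rw [h.core, Subgroup.mem_bot, mul_inv_eq_one] at h2
    rw [Subgroup.mem_centralizer_singleton_iff]
    calc g * t = (g * t * g⁻¹) * g := by group
      _ = t * g := by rw [h2]
  · right
    push Not at hiso
    obtain ⟨g, hg, hgt⟩ := hiso
    have hgC : g * t * g⁻¹ ∈ C(t) := by
      have : g * t * g⁻¹ ∈ (R : Subgroup G) := hg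
      rw [h.s.hR] at this
      exact this.1
    have hgM : g * t * g⁻¹ ∉ M := fun h1 => h.tM (by
      have := h.n.conj_mem _ h1 g⁻¹
      have e : g⁻¹ * (g * t * g⁻¹) * g⁻¹⁻¹ = t := by group
      rwa [e] at this)
    obtain ⟨σ, hσ | hσ⟩ := h.s.c.dec _ hgC
    · exact absurd (hσ ▸ h.fM σ) hgM
    · have ht2 := mul_self h.s.c.ht
      have h1 : (t * f σ) * (t * f σ) = 1 := by
        rw [← hσ]
        calc g * t * g⁻¹ * (g * t * g⁻¹) = g * (t * t) * g⁻¹ := by group
          _ = 1 := by rw [ht2]; group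
      have h2 : σ * σ = 1 := by
        apply h.s.c.finj
        rw [map_mul, map_one, ← h1]
        calc f σ * f σ = (t * t) * f σ * f σ := by rw [ht2, one_mul]
          _ = t * (f σ * t) * f σ := by rw [h.s.c.hf]; group
          _ = _ := by group
      have h3 : σ ≠ 1 := by
        rintro rfl
        apply hgt
        rw [hσ, map_one, mul_one]
      have hconj : ∀ τ ρ : Perm (Fin 4), τ * σ * τ⁻¹ = ρ →
          (f τ * g) * t * (f τ * g)⁻¹ = t * f ρ := by
        intro τ ρ hτ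
        calc (f τ * g) * t * (f τ * g)⁻¹ = f τ * (g * t * g⁻¹) * (f τ)⁻¹ := by group
          _ = (f τ * t) * f σ * (f τ)⁻¹ := by rw [hσ]; group
          _ = t * (f τ * f σ * (f τ)⁻¹) := by rw [h.s.c.hf]; group
          _ = t * f (τ * σ * τ⁻¹) := by rw [map_mul, map_mul, map_inv]
          _ = _ := by rw [hτ]
      rcases invol_dec σ h2 h3 with ⟨τ, hτ⟩ | ⟨τ, hτ⟩
      · exact absurd (hconj τ z0 hτ) (h.s.tz_ne _)
      · exact ⟨f τ * g, hconj τ w0 hτ⟩

theorem swap_dec : ∀ i j : Fin 4, i ≠ j → ∃ τ : Perm (Fin 4), τ * w0 * τ⁻¹ = swap i j := by decide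

theorem CM.fuse' (h : CM t f R M) (hne : C(t) ≠ ⊤) {i j : Fin 4} (hij : i ≠ j) :
    ∃ g : G, g * t * g⁻¹ = t * f (swap i j) := by
  obtain ⟨g, hg⟩ := h.fuse.resolve_left hne
  obtain ⟨τ, hτ⟩ := swap_dec i j hij
  refine ⟨f τ * g, ?_⟩
  calc (f τ * g) * t * (f τ * g)⁻¹ = f τ * (g * t * g⁻¹) * (f τ)⁻¹ := by group
    _ = (f τ * t) * f w0 * (f τ)⁻¹ := by rw [hg]; group
    _ = t * (f τ * f w0 * (f τ)⁻¹) := by rw [h.s.c.hf]; group
    _ = t * f (τ * w0 * τ⁻¹) := by rw [map_mul, map_mul, map_inv]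
    _ = _ := by rw [hτ]

/-- the class of `t` does not have seven elements -/
theorem CM.ne_seven (h : CM t f R M) (h7 : C(t).index = 7) : False := by
  classical
  have hne : C(t) ≠ ⊤ := by
    intro h1
    rw [h1, Subgroup.index_top] at h7
    omega
  let A : Set G := Set.range (fun g : G => g * t * g⁻¹)
  have hA : A.ncard = 7 := by
    rw [← h7, ← Nat.card_coe_set_eq, Subgroup.index]
    symm
    refine Nat.card_congr (Equiv.ofBijective (Quotient.lift (fun g : G => (⟨g * t * g⁻¹, g, rfl⟩ : A)) ?_)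
      ⟨?_, ?_⟩)
    · intro a b hab
      apply Subtype.ext
      have hab' : a⁻¹ * b ∈ C(t) := QuotientGroup.leftRel_apply.1 hab
      have := Subgroup.mem_centralizer_singleton_iff.1 hab'
      show a * t * a⁻¹ = b * t * b⁻¹
      calc a * t * a⁻¹ = a * (t * (a⁻¹ * b)) * b⁻¹ := by group
        _ = a * ((a⁻¹ * b) * t) * b⁻¹ := by rw [this]
        _ = _ := by group
    · intro a b hab
      obtain ⟨a, rfl⟩ := Quotient.exists_rep a
      obtain ⟨b, rfl⟩ := Quotient.exists_rep b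
      have h2 : a * t * a⁻¹ = b * t * b⁻¹ := congrArg Subtype.val hab
      apply Quotient.sound
      apply QuotientGroup.leftRel_apply.2
      rw [Subgroup.mem_centralizer_singleton_iff]
      calc a⁻¹ * b * t = a⁻¹ * (b * t * b⁻¹) * b := by group
        _ = a⁻¹ * (a * t * a⁻¹) * b := by rw [h2]
        _ = _ := by group
    · rintro ⟨_, g, rfl⟩
      exact ⟨Quotient.mk'' g, rfl⟩
  let B : Finset (Perm (Fin 4)) := {1, swap 0 1, swap 0 2, swap 0 3, swap 1 2, swap 1 3, swap 2 3}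
  have hBc : B.card = 7 := by decide
  have hBA : ∀ σ ∈ B, t * f σ ∈ A := by
    intro σ hσ
    simp only [B, Finset.mem_insert, Finset.mem_singleton] at hσ
    rcases hσ with rfl | rfl | rfl | rfl | rfl | rfl | rfl
    · exact ⟨1, by simp⟩
    all_goals exact (h.fuse' hne (by decide))
  have hAB : A ⊆ ((fun σ => t * f σ) '' (B : Set (Perm (Fin 4)))) := by
    have h1 : ((fun σ => t * f σ) '' (B : Set (Perm (Fin 4)))) ⊆ A := by
      rintro _ ⟨σ, hσ, rfl⟩
      exact hBA σ hσ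
    have h2 : ((fun σ => t * f σ) '' (B : Set (Perm (Fin 4)))).ncard = 7 := by
      rw [Set.ncard_image_of_injective _ (fun σ τ hστ => h.s.c.finj (mul_left_cancel hστ)),
        Set.ncard_coe_finset, hBc]
    rw [Set.eq_of_subset_of_ncard_le h1 (by rw [hA, h2])]
  have hcomm : ∀ g : G, g * t * g⁻¹ ∈ C(t) := by
    intro g
    obtain ⟨σ, -, hσ⟩ := hAB ⟨g, rfl⟩
    rw [h.s.c.mem_iff]
    exact ⟨σ, Or.inr hσ.symm⟩
  obtain ⟨g, hg⟩ := h.fuse' hne (i := 0) (j := 1) (by decide)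
  obtain ⟨g', hg'⟩ := h.fuse' hne (i := 1) (j := 2) (by decide)
  have h1 := Subgroup.mem_centralizer_singleton_iff.1 (hcomm (g⁻¹ * g'))
  have h2 : (g * t * g⁻¹) * (g' * t * g'⁻¹) = (g' * t * g'⁻¹) * (g * t * g⁻¹) := by
    calc (g * t * g⁻¹) * (g' * t * g'⁻¹) = g * (t * ((g⁻¹ * g') * t * (g⁻¹ * g')⁻¹)) * g⁻¹ := by group
      _ = g * (((g⁻¹ * g') * t * (g⁻¹ * g')⁻¹) * t) * g⁻¹ := by rw [h1]
      _ = _ := by group
  rw [hg, hg'] at h2
  have ht2 := mul_self h.s.c.ht
  have h3 : ∀ σ τ : Perm (Fin 4), t * f σ * (t * f τ) = f (σ * τ) := by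
    intro σ τ
    calc t * f σ * (t * f τ) = t * (f σ * t) * f τ := by group
      _ = (t * t) * (f σ * f τ) := by rw [h.s.c.hf]; group
      _ = _ := by rw [ht2, one_mul, map_mul]
  rw [h3, h3] at h2
  exact absurd (h.s.c.finj h2) (by decide)

end Cfsg.Agent.Lib.CSF
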