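import Cfsg.Agent.Lib.H4CSc
import Cfsg.Agent.Lib.ClSL2
import Cfsg.Agent.Lib.SL2EvenMisc

/-!
# Groups with a 2-central involution with centralizer `Z₂ × S₄` (S3222), IV (helper4)
-/

set_option autoImplicit false
set_option linter.unusedSectionVars false

namespace Cfsg.Agent.Lib.CSF

open Equiv Cfsg.Agent.Lib.Involutions
open scoped commutatorElement Pointwise

local notation "C(" z ")" => Subgroup.centralizer ({z} : Set _)

variable {G : Type*} [Group G] [Finite G]

variable {t : G} {f : Perm (Fin 4) →* G} {R : Sylow 2 G} {M : Subgroup G}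

/-- the class of `t` has more than seven elements -/
theorem CM.index_gt (h : CM t f R M) (hne : C(t) ≠ ⊤) : 7 < C(t).index := by
  have h7 := h.ne_seven
  by_contra hlt
  push Not at hlt
  apply h7
  apply le_antisymm hlt
  -- an injection of seven elements
  classical
  let F7 : Finset (Perm (Fin 4)) := {1, swap 0 1, swap 0 2, swap 0 3, swap 1 2, swap 1 3, swap 2 3}
  have hc : F7.card = 7 := by decide
  have hex : ∀ σ ∈ F7, ∃ g : G, g * t * g⁻¹ = t * f σ := by
    intro σ hσ
    simp only [F7, Finset.mem_insert, Finset.mem_singleton] at hσ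
    rcases hσ with rfl | rfl | rfl | rfl | rfl | rfl | rfl
    · exact ⟨1, by simp⟩
    all_goals exact (h.fuse' hne (by decide))
  choose g hg using hex
  have h1 : Nat.card F7 ≤ Nat.card (G ⧸ C(t)) := by
    refine Nat.card_le_card_of_injective (fun σ => (QuotientGroup.mk (g σ σ.2) : G ⧸ C(t))) ?_
    intro σ τ hστ
    have h2 := QuotientGroup.eq.1 hστ
    have h3 := Subgroup.mem_centralizer_singleton_iff.1 h2
    have h4 : t * f σ = t * f τ := by
      rw [← hg σ σ.2, ← hg τ τ.2]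
      calc g σ σ.2 * t * (g σ σ.2)⁻¹ = g σ σ.2 * (t * ((g σ σ.2)⁻¹ * g τ τ.2)) * (g τ τ.2)⁻¹ := by group
        _ = g σ σ.2 * (((g σ σ.2)⁻¹ * g τ τ.2) * t) * (g τ τ.2)⁻¹ := by rw [h3]
        _ = _ := by group
    exact Subtype.ext (h.s.c.finj (mul_left_cancel h4))
  rw [Nat.card_eq_fintype_card, Fintype.card_coe, hc] at h1
  exact h1

/-- `f` into `M` -/
def CM.k (h : CM t f R M) : Perm (Fin 4) →* M := f.codRestrict M h.fM

theorem CM.k_inj (h : CM t f R M) : Function.Injective h.k := fun σ τ hστ =>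
  h.s.c.finj (congrArg Subtype.val hστ)

theorem alt_mem {B : Type*} [Group B] {N : Subgroup B} (hN : N.index = 2) (k : Perm (Fin 4) →* B)
    {σ : Perm (Fin 4)} (hσ : Perm.sign σ = 1) : k σ ∈ N := by
  have h1 : alternatingGroup (Fin 4) ≤ N.comap k := by
    rw [← Perm.closure_three_cycles_eq_alternating, Subgroup.closure_le]
    intro x hx
    have h2 : x = x⁻¹ * x⁻¹ := by
      have : x ^ 3 = 1 := by rw [← hx.orderOf]; exact pow_orderOf_eq_one x
      calc x = x ^ 3 * (x⁻¹ * x⁻¹) := by group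
        _ = _ := by rw [this, one_mul]
    show k x ∈ N
    rw [h2, map_mul, Subgroup.mul_mem_iff_of_index_two hN]
  exact h1 (Perm.mem_alternatingGroup.2 hσ)

theorem card_dvd_lemma {N : Subgroup M} (hM : M.index = 2) (hN : N.index = 2) :
    Nat.card G = 4 * Nat.card N := by
  have h1 := Subgroup.card_mul_index M
  have h2 := Subgroup.card_mul_index N
  rw [hM] at h1
  rw [hN] at h2
  omega

theorem CM.odd_not (h : CM t f R M) {N : Subgroup M} (hN : N.index = 2) {σ : Perm (Fin 4)}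
    (hσ : h.k σ ∈ N) : Perm.sign σ = 1 := by
  have hp2 : Fact (Nat.Prime 2) := ⟨Nat.prime_two⟩
  by_contra hs
  have hall : ∀ τ, h.k τ ∈ N := by
    intro τ
    by_cases hτ : Perm.sign τ = 1
    · exact alt_mem hN h.k hτ
    · have h1 : Perm.sign (σ⁻¹ * τ) = 1 := by
        rcases Int.units_eq_one_or (Perm.sign σ) with h2 | h2
        · exact absurd h2 hs
        · rcases Int.units_eq_one_or (Perm.sign τ) with h3 | h3
          · exact absurd h3 hτ
          · rw [Perm.sign_mul, Perm.sign_inv, h2, h3]; decide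
      have h2 := mul_mem hσ (alt_mem hN h.k h1)
      rwa [← map_mul, mul_inv_cancel_left] at h2
  have h8 : 8 ∣ Nat.card N := by
    have h1 : (Subgroup.centralizer ({z0} : Set (Perm (Fin 4)))).map h.k ≤ N := by
      rintro _ ⟨τ, -, rfl⟩; exact hall τ
    have h2 := Subgroup.card_dvd_of_le h1
    rw [Subgroup.card_map_of_injective h.k_inj] at h2
    have e : (Subgroup.centralizer ({z0} : Set (Perm (Fin 4)))) ≃ {σ : Perm (Fin 4) // σ * z0 = z0 * σ} :=
      Equiv.subtypeEquivRight fun σ => Subgroup.mem_centralizer_singleton_iff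
    rwa [Nat.card_congr e, Nat.card_eq_fintype_card, card_comm] at h2
  have h32 : 2 ^ 5 ∣ Nat.card G := by
    rw [card_dvd_lemma h.i hN]
    obtain ⟨m, hm⟩ := h8
    exact ⟨m, by omega⟩
  have h1 := R.pow_dvd_card_of_pow_dvd_card h32
  have h2 : Nat.card R = 16 := by
    have : Nat.card (R : Subgroup G) = 16 := by rw [h.s.hR, h.s.c.card_inf]
    exact this
  rw [h2] at h1
  norm_num at h1

theorem V_dec : ∀ σ : Perm (Fin 4), σ * z0 = z0 * σ → Perm.sign σ = 1 →
    σ * σ = 1 ∧ (σ ≠ 1 → ∃ a : Perm (Fin 4), Perm.sign a = 1 ∧ a * σ * a⁻¹ = z0) := by decide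

theorem V_card : Fintype.card {σ : Perm (Fin 4) // σ * z0 = z0 * σ ∧ Perm.sign σ = 1} = 4 := by decide

/-- the involution in `N` -/
def CM.zN (h : CM t f R M) {N : Subgroup M} (hN : N.index = 2) : N := ⟨h.k z0, alt_mem hN h.k (by decide)⟩

theorem CM.centN (h : CM t f R M) {N : Subgroup M} (hN : N.index = 2) (x : N) :
    x ∈ C(h.zN hN) ↔ ∃ σ : Perm (Fin 4), (σ * z0 = z0 * σ ∧ Perm.sign σ = 1) ∧ h.k σ = x := by
  rw [Subgroup.mem_centralizer_singleton_iff]
  constructor
  · intro hx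
    have h1 : ((x : M) : G) * f z0 = f z0 * x := congrArg (fun y : N => ((y : M) : G)) hx
    obtain ⟨σ, hσ, hσx⟩ := h.mem' (Subgroup.mem_centralizer_singleton_iff.2 h1) (x : M).2
    have h2 : h.k σ = x := Subtype.ext hσx.symm
    refine ⟨σ, ⟨hσ, h.odd_not hN (by rw [h2]; exact x.2)⟩, h2⟩
  · rintro ⟨σ, ⟨hσ, -⟩, hσx⟩
    apply Subtype.ext
    show (x : M) * h.k z0 = h.k z0 * x
    rw [← hσx, ← map_mul, ← map_mul, hσ]

theorem CM.cardN (h : CM t f R M) {N : Subgroup M} (hN : N.index = 2) :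
    Nat.card C(h.zN hN) = 4 := by
  rw [← V_card, ← Nat.card_eq_fintype_card]
  symm
  refine Nat.card_congr (Equiv.ofBijective (fun σ => ⟨⟨h.k σ, alt_mem hN h.k σ.2.2⟩,
    (h.centN hN _).2 ⟨σ, σ.2, rfl⟩⟩) ⟨?_, ?_⟩)
  · intro σ τ hστ
    exact Subtype.ext (h.k_inj (congrArg (fun y : C(h.zN hN) => ((y : N) : M)) hστ))
  · rintro ⟨x, hx⟩
    obtain ⟨σ, hσ, hσx⟩ := (h.centN hN x).1 hx
    exact ⟨⟨σ, hσ⟩, Subtype.ext (Subtype.ext hσx)⟩

theorem CM.sqN (h : CM t f R M) {N : Subgroup M} (hN : N.index = 2) {x : N}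
    (hx : x ∈ C(h.zN hN)) : x * x = 1 := by
  obtain ⟨σ, ⟨h1, h2⟩, h3⟩ := (h.centN hN x).1 hx
  apply Subtype.ext
  show (x : M) * x = 1
  rw [← h3, ← map_mul, (V_dec σ h1 h2).1, map_one]

theorem comm_of_sq {B : Type*} [Group B] {H : Subgroup B} (hH : ∀ g ∈ H, g * g = 1) :
    ∀ x ∈ H, ∀ y ∈ H, x * y = y * x := by
  intro x hx y hy
  have h1 := hH _ (mul_mem hx hy)
  have h2 : x⁻¹ = x := inv_eq_of_mul_eq_one_left (hH x hx)
  have h3 : y⁻¹ = y := inv_eq_of_mul_eq_one_left (hH y hy)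
  calc x * y = (x * y * (x * y)) * (y⁻¹ * x⁻¹) := by group
    _ = y * x := by rw [h1, one_mul, h2, h3]

/-- if `M` has a subgroup of index 2 then `C(t) = G` -/
theorem CM.case_index (h : CM t f R M) {N : Subgroup M} (hN : N.index = 2) : C(t) = ⊤ := by
  classical
  by_contra hne
  have hidx := h.index_gt hne
  have hp2 : Fact (Nat.Prime 2) := ⟨Nat.prime_two⟩
  have hG4 : Nat.card G = 4 * Nat.card N := card_dvd_lemma h.i hN
  have hCidx := Subgroup.card_mul_index C(t)
  rw [h.s.c.card_C, hG4] at hCidx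
  -- the Sylow subgroup
  have hp : IsPGroup 2 C(h.zN hN) := IsPGroup.of_card (n := 2) (by rw [h.cardN hN]; norm_num)
  obtain ⟨T, hT⟩ := hp.exists_le_sylow
  have hT4 : Nat.card (T : Subgroup N) ≤ 4 := by
    have h1 : Nat.card (T : Subgroup N) ∣ Nat.card N := Subgroup.card_subgroup_dvd_card _
    obtain ⟨k, hk⟩ := IsPGroup.iff_card.1 T.isPGroup'
    rw [hk] at h1 ⊢
    have h2 : 2 ^ (k + 2) ∣ Nat.card G := by
      rw [hG4, pow_add, mul_comm]
      exact Nat.mul_dvd_mul_left _ h1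
    have h3 := R.pow_dvd_card_of_pow_dvd_card h2
    have h4 : Nat.card R = 2 ^ 4 := by
      have : Nat.card (R : Subgroup G) = 16 := by rw [h.s.hR, h.s.c.card_inf]
      exact this
    rw [h4] at h3
    have h5 : k + 2 ≤ 4 := (Nat.pow_dvd_pow_iff_le_right (by norm_num)).1 h3
    calc 2 ^ k ≤ 2 ^ 2 := Nat.pow_le_pow_right (by norm_num) (by omega)
      _ = 4 := by norm_num
  have hTC : (T : Subgroup N) = C(h.zN hN) := (Subgroup.eq_of_le_of_card_ge hT (by
    rw [h.cardN hN]; exact hT4)).symm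
  have hTcard : Nat.card (T : Subgroup N) = 4 := by rw [hTC, h.cardN hN]
  have hexp : ∀ g ∈ (T : Subgroup N), g * g = 1 := by
    rw [hTC]; intro g hg; exact h.sqN hN hg
  have hconjT : ∀ x ∈ (T : Subgroup N), x ≠ 1 → ∃ c : N, c * x * c⁻¹ = h.zN hN := by
    intro x hx hx1
    rw [hTC, h.centN hN] at hx
    obtain ⟨σ, ⟨h1, h2⟩, h3⟩ := hx
    have h4 : σ ≠ 1 := by
      rintro rfl
      apply hx1
      apply Subtype.ext
      rw [← h3, map_one]; rfl
    obtain ⟨a, ha, haσ⟩ := (V_dec σ h1 h2).2 h4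
    refine ⟨⟨h.k a, alt_mem hN h.k ha⟩, Subtype.ext ?_⟩
    show h.k a * (x : M) * (h.k a)⁻¹ = h.k z0
    rw [← h3, ← haσ, map_mul, map_mul, map_inv]
  by_cases hTn : (T : Subgroup N).Normal
  · -- every element of `N` is in the image of `k`
    have hall : ∀ x : N, ∃ σ, h.k σ = x := by
      intro x
      have hzT : h.zN hN ∈ (T : Subgroup N) := by
        rw [hTC]; exact Subgroup.mem_centralizer_singleton_iff.2 rfl
      have h1 : x * h.zN hN * x⁻¹ ∈ (T : Subgroup N) := hTn.conj_mem _ hzT x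
      have hz1 : h.zN hN ≠ 1 := by
        intro h2
        have h3 : h.k z0 = 1 := congrArg Subtype.val h2
        rw [← map_one h.k] at h3
        exact absurd (h.k_inj h3) (by decide)
      have h2 : x * h.zN hN * x⁻¹ ≠ 1 := by
        intro h3
        apply hz1
        calc h.zN hN = x⁻¹ * (x * h.zN hN * x⁻¹) * x := by group
          _ = 1 := by rw [h3]; group
      obtain ⟨σ, ⟨h3, h4⟩, h5⟩ := (h.centN hN _).1 (by rw [← hTC]; exact h1)
      have h6 : σ ≠ 1 := by
        rintro rfl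
        apply h2
        apply Subtype.ext
        rw [← h5, map_one]; rfl
      obtain ⟨a, ha, haσ⟩ := (V_dec σ h3 h4).2 h6
      let c : N := ⟨h.k a, alt_mem hN h.k ha⟩
      have h7 : c * (x * h.zN hN * x⁻¹) * c⁻¹ = h.zN hN := by
        apply Subtype.ext
        show h.k a * ((x * h.zN hN * x⁻¹ : N) : M) * (h.k a)⁻¹ = h.k z0
        rw [← h5, ← haσ, map_mul, map_mul, map_inv]
      have h8 : c * x ∈ C(h.zN hN) := by
        rw [Subgroup.mem_centralizer_singleton_iff]
        calc c * x * h.zN hN = (c * (x * h.zN hN * x⁻¹) * c⁻¹) * (c * x) := by group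
          _ = _ := by rw [h7]
      obtain ⟨τ, -, hτ⟩ := (h.centN hN _).1 h8
      refine ⟨a⁻¹ * τ, ?_⟩
      rw [map_mul, map_inv, hτ]
      show (h.k a)⁻¹ * ((c : M) * x) = x
      show (h.k a)⁻¹ * (h.k a * x) = x
      group
    have h24 : Nat.card N ≤ 24 := by
      choose φ hφ using hall
      have h1 := Nat.card_le_card_of_injective φ (fun x y hxy => Subtype.ext (by rw [← hφ x, ← hφ y, hxy]))
      have h2 : Nat.card (Perm (Fin 4)) = 24 := by
        rw [Nat.card_eq_fintype_card]; decide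
      rwa [h2] at h1
    nlinarith
  · have hnc : ¬ IsCyclic (T : Subgroup N) := by
      intro hcy
      obtain ⟨g, hg⟩ := hcy.exists_ofOrder_eq_natCard
      have h1 : orderOf g ≤ 2 := orderOf_le_of_pow_eq_one (by norm_num)
        (by rw [pow_two]; exact Subtype.ext (hexp g g.2))
      omega
    have hCC : ∀ s : N, orderOf s = 2 → IsMulCommutative (Subgroup.centralizer ({s} : Set N)) ∧
        ∀ c ∈ Subgroup.centralizer ({s} : Set N), c ^ 2 = 1 := by
      intro s hs
      -- `s` is conjugate to `zN`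
      obtain ⟨c, hc⟩ : ∃ c : N, c * s * c⁻¹ = h.zN hN := by
        have hps : IsPGroup 2 (Subgroup.zpowers s) := by
          apply IsPGroup.of_card (n := 1)
          rw [Nat.card_zpowers, hs, pow_one]
        obtain ⟨T', hT'⟩ := hps.exists_le_sylow
        obtain ⟨b, hb⟩ := MulAction.exists_smul_eq N T' T
        have h1 : b * s * b⁻¹ ∈ (T : Subgroup N) := by
          have h2 : (T : Subgroup N) = MulAut.conj b • (T' : Subgroup N) := by
            rw [← hb]; rfl
          rw [h2]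
          exact ⟨s, hT' (Subgroup.mem_zpowers s), rfl⟩
        have h2 : b * s * b⁻¹ ≠ 1 := by
          intro h3
          apply ne_one hs
          calc s = b⁻¹ * (b * s * b⁻¹) * b := by group
            _ = 1 := by rw [h3]; group
        obtain ⟨c, hc⟩ := hconjT _ h1 h2
        exact ⟨c * b, by rw [← hc]; group⟩
      have h1 : ∀ x ∈ Subgroup.centralizer ({s} : Set N), x * x = 1 := by
        intro x hx
        rw [Subgroup.mem_centralizer_singleton_iff] at hx
        have h2 : c * x * c⁻¹ ∈ C(h.zN hN) := by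
          rw [Subgroup.mem_centralizer_singleton_iff, ← hc]
          calc c * x * c⁻¹ * (c * s * c⁻¹) = c * (x * s) * c⁻¹ := by group
            _ = c * (s * x) * c⁻¹ := by rw [hx]
            _ = _ := by group
        have h3 := h.sqN hN h2
        calc x * x = c⁻¹ * ((c * x * c⁻¹) * (c * x * c⁻¹)) * c := by group
          _ = 1 := by rw [h3]; group
      exact ⟨⟨⟨fun a b => Subtype.ext (comm_of_sq h1 a a.2 b b.2)⟩⟩, fun c hc => by
        rw [pow_two]; exact h1 c hc⟩
    obtain ⟨F, iF, iF2, hF, ⟨φ⟩⟩ := ElemCent.psl_two T hnc hTn hCC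
    have hF4 : Fintype.card F = 4 := by rw [hF]; exact hTcard
    have hchar : CharP F 2 := charP_of_card_eq_prime_pow (f := 2) hF4
    obtain ⟨ψ⟩ := SL2EvenMisc.exists_psl_equiv (F := F)
    have h60 : Nat.card N = 60 := by
      rw [Nat.card_congr φ.toEquiv, ← Nat.card_congr ψ.toEquiv, ClSL2.card_SL2 hF4]; norm_num
    omega

end Cfsg.Agent.Lib.CSF
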