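import Mathlib
import Cfsg.Prelude.Def_CaseTheorems
import Cfsg.Agent.Lib.SubgroupTools
import Cfsg.Agent.Lib.H70Frattini

/-!
# Sectional rank in ambient form (helper73)

`RankIn p k P`: every elementary abelian section `H / N` of `G` with `H ≤ P` has order at most `p ^ k`.
-/

set_option autoImplicit false

namespace Cfsg.Agent.Lib.SectRank

open Subgroup Cfsg Cfsg.Agent.Lib.SubgroupTools

variable {G : Type*} [Group G]

/-- Elementary abelian sections inside `P` have order at most `p ^ k`. -/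
def RankIn (p k : ℕ) (P : Subgroup G) : Prop :=
  ∀ N H : Subgroup G, N ≤ H → H ≤ P → (∀ x ∈ H, x ^ p ∈ N) → (∀ x ∈ H, ∀ y ∈ H, x * y * x⁻¹ * y⁻¹ ∈ N) →
    N.relIndex H ≤ p ^ k

theorem RankIn.mono {p k : ℕ} {P Q : Subgroup G} (h : RankIn p k Q) (hPQ : P ≤ Q) : RankIn p k P :=
  fun N H h1 h2 h3 h4 => h N H h1 (h2.trans hPQ) h3 h4

theorem rankIn_of_sectional {p k : ℕ} (h : SectionalPRankLE p k G) : RankIn p k (⊤ : Subgroup G) := by
  intro N H hNH _ hp hc
  have hn : (N.subgroupOf H).Normal := by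
    constructor
    intro n hn g
    rw [mem_subgroupOf] at hn ⊢
    have h1 := hc g g.2 n n.2
    have h2 := N.mul_mem h1 hn
    simpa [mul_assoc] using h2
  have h1 := h H (N.subgroupOf H) ⊤ ?_ ?_
  · rw [Subgroup.card_top] at h1
    exact h1
  · refine ⟨⟨?_⟩⟩
    rintro ⟨a, _⟩ ⟨b, _⟩
    apply Subtype.ext
    change a * b = b * a
    induction a using QuotientGroup.induction_on with
    | H a =>
      induction b using QuotientGroup.induction_on with
      | H b =>
        rw [← QuotientGroup.mk_mul, ← QuotientGroup.mk_mul, QuotientGroup.eq, mem_subgroupOf]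
        have := hc (b : G)⁻¹ (H.inv_mem b.2) (a : G)⁻¹ (H.inv_mem a.2)
        simpa [mul_assoc] using this
  · intro a _
    induction a using QuotientGroup.induction_on with
    | H a =>
      rw [← QuotientGroup.mk_pow, QuotientGroup.eq_one_iff, mem_subgroupOf]
      exact hp a a.2

theorem sectional_of_rankIn {p k : ℕ} (h : RankIn p k (⊤ : Subgroup G)) : SectionalPRankLE p k G := by
  intro H N hN A hA hAp
  set H1 : Subgroup G := (A.comap (QuotientGroup.mk' N)).map H.subtype with hH1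
  set N1 : Subgroup G := N.map H.subtype with hN1
  have hle : N ≤ A.comap (QuotientGroup.mk' N) := by
    intro x hx
    rw [mem_comap]
    have : (QuotientGroup.mk' N) x = 1 := (QuotientGroup.eq_one_iff x).2 hx
    rw [this]; exact A.one_mem
  have h1 := h N1 H1 (Subgroup.map_mono hle) le_top ?_ ?_
  · have hrel : N1.relIndex H1 = N.relIndex (A.comap (QuotientGroup.mk' N)) := by
      rw [hN1, hH1]
      exact Subgroup.relIndex_map_map_of_injective _ _ H.subtype_injective
    rw [hrel] at h1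
    have hcard : N.relIndex (A.comap (QuotientGroup.mk' N)) = Nat.card A := by
      have e1 : (⊥ : Subgroup (H ⧸ N)).comap (QuotientGroup.mk' N) = N := by
        ext x; rw [mem_comap, mem_bot]; exact QuotientGroup.eq_one_iff x
      have e2 : ((⊥ : Subgroup (H ⧸ N)).comap (QuotientGroup.mk' N)).relIndex (A.comap (QuotientGroup.mk' N)) = Nat.card A := by
        rw [Subgroup.relIndex_comap, Subgroup.map_comap_eq_self_of_surjective (QuotientGroup.mk'_surjective N),
          Subgroup.relIndex_bot_left]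
      rw [e1] at e2
      exact e2
    rw [hcard] at h1
    exact h1
  · rintro _ ⟨x, hx, rfl⟩
    refine ⟨x ^ p, ?_, by simp⟩
    have hx' : (QuotientGroup.mk' N) x ∈ A := hx
    have := hAp _ hx'
    rw [← map_pow] at this
    exact (QuotientGroup.eq_one_iff _).1 this
  · rintro _ ⟨x, hx, rfl⟩ _ ⟨y, hy, rfl⟩
    refine ⟨x * y * x⁻¹ * y⁻¹, ?_, by simp⟩
    have hx' : (QuotientGroup.mk' N) x ∈ A := hx
    have hy' : (QuotientGroup.mk' N) y ∈ A := hy
    have hcom : (QuotientGroup.mk' N) x * (QuotientGroup.mk' N) y = (QuotientGroup.mk' N) y * (QuotientGroup.mk' N) x :=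
      congrArg Subtype.val (hA.is_comm.comm ⟨_, hx'⟩ ⟨_, hy'⟩)
    have : (QuotientGroup.mk' N) (x * y * x⁻¹ * y⁻¹) = 1 := by
      rw [map_mul, map_mul, map_mul, hcom, map_inv, map_inv]; group
    exact (QuotientGroup.eq_one_iff _).1 this

theorem sectional_iff_rankIn {p k : ℕ} : SectionalPRankLE p k G ↔ RankIn p k (⊤ : Subgroup G) :=
  ⟨rankIn_of_sectional, sectional_of_rankIn⟩

/-- Passing to a subgroup as a group. -/
theorem rankIn_map {p k : ℕ} {K : Type*} [Group K] (f : K →* G) (hf : Function.Injective f) (Q : Subgroup K) :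
    RankIn p k (Q.map f) ↔ RankIn p k Q := by
  constructor
  · intro h N H h1 h2 h3 h4
    have := h (N.map f) (H.map f) (Subgroup.map_mono h1) (Subgroup.map_mono h2) ?_ ?_
    · rwa [Subgroup.relIndex_map_map_of_injective _ _ hf] at this
    · rintro _ ⟨x, hx, rfl⟩
      exact ⟨x ^ p, h3 x hx, by simp⟩
    · rintro _ ⟨x, hx, rfl⟩ _ ⟨y, hy, rfl⟩
      exact ⟨x * y * x⁻¹ * y⁻¹, h4 x hx y hy, by simp⟩
  · intro h N H h1 h2 h3 h4
    have e1 : ∀ X : Subgroup G, X ≤ Q.map f → (X.comap f).map f = X := by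
      intro X hX
      apply Subgroup.map_comap_eq_self
      exact hX.trans (Subgroup.map_le_range f Q)
    have := h (N.comap f) (H.comap f) (Subgroup.comap_mono h1) ?_ ?_ ?_
    · rw [← Subgroup.relIndex_map_map_of_injective _ _ hf, e1 N (h1.trans h2), e1 H h2] at this
      exact this
    · intro x hx
      obtain ⟨y, hy, hyx⟩ := h2 hx
      exact hf hyx ▸ hy
    · intro x hx
      rw [mem_comap, map_pow]; exact h3 _ hx
    · intro x hx y hy
      rw [mem_comap]
      simpa using h4 _ hx _ hy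

theorem sectional_subgroup_iff {p k : ℕ} (P : Subgroup G) : SectionalPRankLE p k ↥P ↔ RankIn p k P := by
  rw [sectional_iff_rankIn, ← rankIn_map P.subtype P.subtype_injective, ← MonoidHom.range_eq_map, P.range_subtype]

/-- A noncyclic finite `p`-group has a subgroup of index `p ^ 2` with elementary abelian quotient. -/
theorem exists_index_sq {P : Type*} [Group P] [Finite P] {p : ℕ} [Fact p.Prime] (hP : IsPGroup p P)
    (hnc : ¬ IsCyclic P) : ∃ N : Subgroup P, N.index = p ^ 2 ∧ (∀ x : P, x ^ p ∈ N) ∧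
      (∀ x y : P, x * y * x⁻¹ * y⁻¹ ∈ N) ∧ frattini P ≤ N := by
  -- two distinct maximal subgroups
  obtain ⟨A, hA⟩ : ∃ A : Subgroup P, IsCoatom A := by
    rcases eq_top_or_exists_le_coatom (⊥ : Subgroup P) with h | ⟨A, hA, _⟩
    · exfalso
      apply hnc
      have : Subsingleton P := by
        have h2 : Subsingleton (Subgroup P) := subsingleton_of_bot_eq_top h
        exact Subgroup.subsingleton_iff.1 h2
      exact isCyclic_of_subsingleton
    · exact ⟨A, hA⟩
  obtain ⟨B, hB, hAB⟩ : ∃ B : Subgroup P, IsCoatom B ∧ B ≠ A := by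
    by_contra hcon
    push Not at hcon
    obtain ⟨x, hx⟩ : ∃ x, x ∉ A := by
      by_contra h
      push Not at h
      exact hA.1 ((eq_top_iff' A).2 h)
    apply hnc
    refine ⟨x, fun y => ?_⟩
    rcases eq_top_or_exists_le_coatom (Subgroup.zpowers x) with h | ⟨C, hC, hle⟩
    · have : y ∈ (⊤ : Subgroup P) := mem_top y
      rwa [← h] at this
    · exfalso
      rw [hcon C hC] at hle
      exact hx (hle (Subgroup.mem_zpowers x))
  have hAn := H70Frattini.coatom_normal hP hA
  have hBn := H70Frattini.coatom_normal hP hB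
  have hAi := H70Frattini.coatom_index hP hA
  have hBi := H70Frattini.coatom_index hP hB
  have hfr : frattini P ≤ A ⊓ B := le_inf (frattini_le_coatom hA) (frattini_le_coatom hB)
  have hsup : A ⊔ B = ⊤ := by
    rcases hA.le_iff.1 (le_sup_left : A ≤ A ⊔ B) with h | h
    · exact h
    · exfalso
      have hBA : B ≤ A := by rw [← h]; exact le_sup_right
      rcases hB.le_iff.1 hBA with h' | h'
      · exact hA.1 h'
      · exact hAB h'.symm
  refine ⟨A ⊓ B, ?_, ?_, ?_, hfr⟩
  · have h1 : (A ⊓ B).relIndex A * A.index = (A ⊓ B).index := Subgroup.relIndex_mul_index inf_le_left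
    have h2 : (A ⊓ B).relIndex A = B.relIndex A := by
      rw [inf_comm]; exact Subgroup.inf_relIndex_right B A
    have h3 : B.relIndex A = B.index := by
      rw [← Subgroup.relIndex_top_right, ← hsup, Subgroup.relIndex_sup_right]
    rw [← h1, h2, h3, hBi, hAi, sq]
  · intro x
    exact hfr (H70Frattini.pow_mem_frattini hP x)
  · intro x y
    exact hfr (H70Frattini.commutator_le_frattini hP (Subgroup.commutator_mem_commutator (mem_top x) (mem_top y)))

/-- the same for a subgroup `P` of `G`. -/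
theorem exists_relIndex_sq [Finite G] {p : ℕ} [Fact p.Prime] {P : Subgroup G} (hP : IsPGroup p P)
    (hnc : ¬ IsCyclic P) : ∃ N : Subgroup G, N ≤ P ∧ N.relIndex P = p ^ 2 ∧ (∀ x ∈ P, x ^ p ∈ N) ∧
      (∀ x ∈ P, ∀ y ∈ P, x * y * x⁻¹ * y⁻¹ ∈ N) := by
  obtain ⟨N, h1, h2, h3, _⟩ := exists_index_sq hP hnc
  refine ⟨N.map P.subtype, Subgroup.map_subtype_le N, ?_, ?_, ?_⟩
  · rw [Subgroup.relIndex, Subgroup.subgroupOf, Subgroup.comap_map_eq_self_of_injective P.subtype_injective, h1]
  · intro x hx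
    exact ⟨⟨x, hx⟩ ^ p, h2 _, rfl⟩
  · intro x hx y hy
    exact ⟨⟨x, hx⟩ * ⟨y, hy⟩ * ⟨x, hx⟩⁻¹ * ⟨y, hy⟩⁻¹, h3 _ _, rfl⟩

/-- elementary section data -/
def Elem (p : ℕ) (N H : Subgroup G) : Prop :=
  N ≤ H ∧ (∀ x ∈ H, x ^ p ∈ N) ∧ (∀ x ∈ H, ∀ y ∈ H, x * y * x⁻¹ * y⁻¹ ∈ N)

theorem RankIn.le {p k : ℕ} {P N H : Subgroup G} (h : RankIn p k P) (hE : Elem p N H) (hH : H ≤ P) :
    N.relIndex H ≤ p ^ k := h N H hE.1 hH hE.2.1 hE.2.2

theorem le_normalizer_of_commute {A B : Subgroup G} (h : ∀ a ∈ A, ∀ b ∈ B, a * b = b * a) :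
    B ≤ normalizer (A : Set G) := by
  intro b hb
  rw [mem_normalizer_iff]
  intro a
  constructor
  · intro ha
    rw [← h a ha b hb, mul_inv_cancel_right]; exact ha
  · intro ha
    have h1 := h _ ha b hb
    have h2 : b * a * b⁻¹ = a := by
      have : b * a * b⁻¹ * b = b * (b * a * b⁻¹) := h1
      rw [inv_mul_cancel_right] at this
      exact (mul_left_cancel this).symm
    rwa [h2] at ha

theorem Elem.sup [Finite G] {p : ℕ} {N₁ H₁ N₂ H₂ : Subgroup G} (h1 : Elem p N₁ H₁) (h2 : Elem p N₂ H₂)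
    (hc : ∀ a ∈ H₁, ∀ b ∈ H₂, a * b = b * a) (hi : H₁ ⊓ H₂ = ⊥) :
    Elem p (N₁ ⊔ N₂) (H₁ ⊔ H₂) ∧ (N₁ ⊔ N₂).relIndex (H₁ ⊔ H₂) = N₁.relIndex H₁ * N₂.relIndex H₂ := by
  have hn := le_normalizer_of_commute hc
  have hcN : ∀ a ∈ N₁, ∀ b ∈ N₂, a * b = b * a := fun a ha b hb => hc a (h1.1 ha) b (h2.1 hb)
  have hnN := le_normalizer_of_commute hcN
  constructor
  · refine ⟨sup_le_sup h1.1 h2.1, ?_, ?_⟩
    · intro x hx
      obtain ⟨a, ha, b, hb, rfl⟩ := (mem_sup_of_le_normalizer hn).1 hx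
      have : (a * b) ^ p = a ^ p * b ^ p := Commute.mul_pow (hc a ha b hb) p
      rw [this]
      exact mul_mem (mem_sup_left (h1.2.1 a ha)) (mem_sup_right (h2.2.1 b hb))
    · intro x hx y hy
      obtain ⟨a, ha, b, hb, rfl⟩ := (mem_sup_of_le_normalizer hn).1 hx
      obtain ⟨c, hc', d, hd, rfl⟩ := (mem_sup_of_le_normalizer hn).1 hy
      have e : a * b * (c * d) * (a * b)⁻¹ * (c * d)⁻¹ = (a * c * a⁻¹ * c⁻¹) * (b * d * b⁻¹ * d⁻¹) := by
        have e1 : b * c = c * b := (hc c hc' b hb).symm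
        have e2 : ∀ u ∈ H₁, ∀ v ∈ H₂, Commute u v := hc
        have hac : a * c * a⁻¹ * c⁻¹ ∈ H₁ := by
          exact mul_mem (mul_mem (mul_mem ha hc') (inv_mem ha)) (inv_mem hc')
        calc a * b * (c * d) * (a * b)⁻¹ * (c * d)⁻¹ = a * (b * c) * d * b⁻¹ * (a⁻¹ * (d⁻¹ * c⁻¹)) := by group
          _ = a * (c * b) * d * b⁻¹ * (d⁻¹ * a⁻¹ * c⁻¹) := by
              rw [e1, ← mul_assoc a⁻¹ d⁻¹ c⁻¹, (e2 a⁻¹ (inv_mem ha) d⁻¹ (inv_mem hd)).eq]
          _ = a * c * (b * d * b⁻¹ * d⁻¹) * (a⁻¹ * c⁻¹) := by group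
          _ = a * c * ((b * d * b⁻¹ * d⁻¹) * (a⁻¹ * c⁻¹)) := by group
          _ = a * c * ((a⁻¹ * c⁻¹) * (b * d * b⁻¹ * d⁻¹)) := by
              rw [(e2 (a⁻¹ * c⁻¹) (mul_mem (inv_mem ha) (inv_mem hc')) (b * d * b⁻¹ * d⁻¹)
                (mul_mem (mul_mem (mul_mem hb hd) (inv_mem hb)) (inv_mem hd))).eq]
          _ = (a * c * a⁻¹ * c⁻¹) * (b * d * b⁻¹ * d⁻¹) := by group
      rw [e]
      exact mul_mem (mem_sup_left (h1.2.2 a ha c hc')) (mem_sup_right (h2.2.2 b hb d hd))
  · have c1 : Nat.card (H₁ ⊔ H₂ : Subgroup G) = Nat.card H₁ * Nat.card H₂ :=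
      card_sup_of_disjoint hn (disjoint_iff.2 hi)
    have c2 : Nat.card (N₁ ⊔ N₂ : Subgroup G) = Nat.card N₁ * Nat.card N₂ := by
      apply card_sup_of_disjoint hnN
      rw [disjoint_iff, eq_bot_iff, ← hi]
      exact inf_le_inf h1.1 h2.1
    have c3 := card_mul_relIndex_of_le (sup_le_sup h1.1 h2.1)
    have c4 := card_mul_relIndex_of_le h1.1
    have c5 := card_mul_relIndex_of_le h2.1
    rw [c1, c2, ← c4, ← c5] at c3
    have hpos : 0 < Nat.card N₁ * Nat.card N₂ := Nat.mul_pos Nat.card_pos Nat.card_pos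
    apply Nat.eq_of_mul_eq_mul_left hpos
    rw [c3]; ring

/-- A normal nontrivial subgroup of a `p`-group whose centralizer part has order `p` contains it. -/
theorem center_le_of_normal [Finite G] {p : ℕ} [hp : Fact p.Prime] {P K : Subgroup G}
    (hP : IsPGroup p P) (hKP : K ≤ P) (hPK : P ≤ normalizer (K : Set G)) (hK : K ≠ ⊥)
    (hZ : Nat.card (P ⊓ centralizer (P : Set G) : Subgroup G) = p) : P ⊓ centralizer (P : Set G) ≤ K := by
  have h1 : K ⊓ centralizer (P : Set G) ≠ ⊥ := by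
    have hKp : IsPGroup p K := hP.to_le hKP
    have hpK : p ∣ Nat.card K := by
      have : Nontrivial K := (Subgroup.nontrivial_iff_ne_bot K).mpr hK
      obtain ⟨n, hn0, hn⟩ := hKp.nontrivial_iff_card.mp inferInstance
      exact hn.symm ▸ dvd_pow_self _ (ne_of_gt hn0)
    let act : MulAction P K :=
      { smul := fun x k => ⟨x * k * x⁻¹, (mem_normalizer_iff.mp (hPK x.2) _).mp k.2⟩
        one_smul := fun k => Subtype.ext (by change (1 : G) * k * 1⁻¹ = k; group)
        mul_smul := fun x y k => Subtype.ext (by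
          change ((x * y : P) : G) * k * ((x * y : P) : G)⁻¹ = x * (y * k * y⁻¹) * x⁻¹
          simp only [mul_assoc, Subgroup.coe_mul, mul_inv_rev]
          rfl) }
    have hfix1 : (1 : K) ∈ MulAction.fixedPoints P K := by
      intro x
      exact Subtype.ext (by change (x : G) * 1 * (x : G)⁻¹ = 1; group)
    obtain ⟨b, hb, hb1⟩ := hP.exists_fixed_point_of_prime_dvd_card_of_fixed_point K hpK hfix1
    intro hbot
    have hbmem : (b : G) ∈ K ⊓ centralizer (P : Set G) := by
      refine Subgroup.mem_inf.mpr ⟨b.2, Subgroup.mem_centralizer_iff.mpr ?_⟩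
      intro x hx
      have h2 : (x : G) * b * x⁻¹ = b := congrArg Subtype.val (hb ⟨x, hx⟩)
      calc x * b = x * b * x⁻¹ * x := by group
        _ = b * x := by rw [h2]
    rw [hbot, mem_bot] at hbmem
    exact hb1 (Subtype.ext hbmem.symm)
  have h2 : K ⊓ centralizer (P : Set G) ≤ P ⊓ centralizer (P : Set G) := inf_le_inf hKP le_rfl
  have h3 : Nat.card (K ⊓ centralizer (P : Set G) : Subgroup G) = p := by
    have h4 : Nat.card (K ⊓ centralizer (P : Set G) : Subgroup G) ∣ p := by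
      rw [← hZ]; exact Subgroup.card_dvd_of_le h2
    rcases (Nat.dvd_prime hp.out).1 h4 with h | h
    · exact absurd (Subgroup.card_eq_one.1 h) h1
    · exact h
  have h5 : K ⊓ centralizer (P : Set G) = P ⊓ centralizer (P : Set G) := by
    apply Subgroup.eq_of_le_of_card_ge h2
    rw [hZ, h3]
  rw [← h5]
  exact inf_le_left

/-- A subgroup of order 2 normalized by `S` is centralized by `S`. -/
theorem le_centralizer_of_card_two {S Z : Subgroup G} (hn : S ≤ normalizer (Z : Set G))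
    (hZ : Nat.card Z = 2) : Z ≤ centralizer (S : Set G) := by
  intro x hx
  rw [mem_centralizer_iff]
  intro s hs
  have h1 : s * x * s⁻¹ ∈ Z := (mem_normalizer_iff.1 (hn hs) x).1 hx
  by_cases hx1 : x = 1
  · rw [hx1]; simp
  have h2 : s * x * s⁻¹ = x := by
    by_contra hne
    have h3 : s * x * s⁻¹ ≠ 1 := by
      intro h
      apply hx1
      have : x = s⁻¹ * (s * x * s⁻¹) * s := by group
      rw [this, h]; group
    have hfin : Finite Z := Nat.finite_of_card_ne_zero (by rw [hZ]; norm_num)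
    have := Fintype.ofFinite Z
    classical
    let F : Finset Z := {⟨1, Z.one_mem⟩, ⟨x, hx⟩, ⟨s * x * s⁻¹, h1⟩}
    have h4 : F.card = 3 := by
      rw [Finset.card_eq_three]
      refine ⟨_, _, _, ?_, ?_, ?_, rfl⟩
      · intro h; exact hx1 (congrArg Subtype.val h).symm
      · intro h; exact h3 (congrArg Subtype.val h).symm
      · intro h; exact hne (congrArg Subtype.val h).symm
    have h5 := Finset.card_le_univ F
    rw [h4, ← Nat.card_eq_fintype_card, hZ] at h5
    omega
  calc s * x = s * x * s⁻¹ * s := by group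
    _ = x * s := by rw [h2]

theorem normalizes_center {S X : Subgroup G} (nX : S ≤ normalizer (X : Set G)) :
    S ≤ normalizer ((X ⊓ centralizer (X : Set G) : Subgroup G) : Set G) := by
  intro s hs
  rw [mem_normalizer_iff]
  have key : ∀ s ∈ S, ∀ x, x ∈ X ⊓ centralizer (X : Set G) → s * x * s⁻¹ ∈ X ⊓ centralizer (X : Set G) := by
    intro s hs x hx
    refine Subgroup.mem_inf.2 ⟨(mem_normalizer_iff.1 (nX hs) x).1 (Subgroup.mem_inf.1 hx).1, mem_centralizer_iff.2 ?_⟩
    intro y hy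
    have h1 : s⁻¹ * y * s ∈ X := (mem_normalizer_iff''.1 (nX hs) y).1 hy
    have h2 := (mem_centralizer_iff.1 (Subgroup.mem_inf.1 hx).2) _ h1
    calc y * (s * x * s⁻¹) = s * ((s⁻¹ * y * s) * x) * s⁻¹ := by group
      _ = s * (x * (s⁻¹ * y * s)) * s⁻¹ := by rw [h2]
      _ = s * x * s⁻¹ * y := by group
  intro x
  refine ⟨key s hs x, fun h => ?_⟩
  have := key s⁻¹ (inv_mem hs) _ h
  simpa [mul_assoc] using this

/-- the intersection part -/
theorem inf_eq_bot_of_centers [Finite G] {S A B : Subgroup G} (h2 : IsPGroup 2 S)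
    (hA : A ≤ S) (hB : B ≤ S) (nA : S ≤ normalizer (A : Set G)) (nB : S ≤ normalizer (B : Set G))
    (zA : Nat.card (A ⊓ centralizer (A : Set G) : Subgroup G) = 2)
    (zB : Nat.card (B ⊓ centralizer (B : Set G) : Subgroup G) = 2)
    (hne : A ⊓ centralizer (A : Set G) ≠ B ⊓ centralizer (B : Set G)) : A ⊓ B = ⊥ := by
  have hAp : IsPGroup 2 A := h2.to_le hA
  have hBp : IsPGroup 2 B := h2.to_le hB
  by_contra hbot
  have nAB : S ≤ normalizer ((A ⊓ B : Subgroup G) : Set G) := by
    intro s hs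
    rw [mem_normalizer_iff]
    intro x
    have h1 := mem_normalizer_iff.1 (nA hs) x
    have h2 := mem_normalizer_iff.1 (nB hs) x
    constructor
    · intro h; exact ⟨h1.1 h.1, h2.1 h.2⟩
    · intro h; exact ⟨h1.2 h.1, h2.2 h.2⟩
  have e1 := center_le_of_normal hAp (inf_le_left : A ⊓ B ≤ A) (hA.trans nAB) hbot zA
  have e2 := center_le_of_normal hBp (inf_le_right : A ⊓ B ≤ B) (hB.trans nAB) hbot zB
  have e3 : B ⊓ centralizer (B : Set G) ≤ centralizer (S : Set G) :=
    le_centralizer_of_card_two (normalizes_center nB) zB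
  have e4 : B ⊓ centralizer (B : Set G) ≤ A ⊓ centralizer (A : Set G) := by
    refine le_inf (e2.trans inf_le_left) (e3.trans (centralizer_le hA))
  apply hne
  symm
  apply Subgroup.eq_of_le_of_card_ge e4
  rw [zA, zB]

/-- Two normal non-abelian subgroups with distinct centres of order 2 in a 2-group of sectional rank at most 4. -/
theorem two_normal [Finite G] {S A B : Subgroup G} (h2 : IsPGroup 2 S) (hr : RankIn 2 4 S)
    (hA : A ≤ S) (hB : B ≤ S) (nA : S ≤ normalizer (A : Set G)) (nB : S ≤ normalizer (B : Set G))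
    (cA : ¬ A ≤ centralizer (A : Set G)) (cB : ¬ B ≤ centralizer (B : Set G))
    (zA : Nat.card (A ⊓ centralizer (A : Set G) : Subgroup G) = 2)
    (zB : Nat.card (B ⊓ centralizer (B : Set G) : Subgroup G) = 2)
    (hne : A ⊓ centralizer (A : Set G) ≠ B ⊓ centralizer (B : Set G)) :
    (∀ a ∈ A, ∀ b ∈ B, a * b = b * a) ∧ A ⊓ B = ⊥ ∧ S ⊓ centralizer ((A ⊔ B : Subgroup G) : Set G) ≤ A ⊔ B := by
  have hAp : IsPGroup 2 A := h2.to_le hA
  have hBp : IsPGroup 2 B := h2.to_le hB
  have hbot := inf_eq_bot_of_centers h2 hA hB nA nB zA zB hne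
  have hcomm : ∀ a ∈ A, ∀ b ∈ B, a * b = b * a := by
    intro a ha b hb
    have h1 : a * b * a⁻¹ * b⁻¹ ∈ A ⊓ B := by
      refine Subgroup.mem_inf.2 ⟨?_, ?_⟩
      · have : b * a⁻¹ * b⁻¹ ∈ A := (mem_normalizer_iff.1 (nA (hB hb)) _).1 (inv_mem ha)
        have h := mul_mem ha this
        simpa [mul_assoc] using h
      · have : a * b * a⁻¹ ∈ B := (mem_normalizer_iff.1 (nB (hA ha)) _).1 hb
        exact mul_mem this (inv_mem hb)
    rw [hbot, mem_bot] at h1
    have : a * b = (a * b * a⁻¹ * b⁻¹) * (b * a) := by group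
    rw [this, h1, one_mul]
  refine ⟨hcomm, hbot, ?_⟩
  by_contra hcon
  obtain ⟨c, hc, hcM⟩ := SetLike.not_le_iff_exists.1 hcon
  obtain ⟨x, hx, hxM, hx2⟩ : ∃ x, x ∈ S ⊓ centralizer ((A ⊔ B : Subgroup G) : Set G) ∧ x ∉ A ⊔ B ∧ x ^ 2 ∈ A ⊔ B := by
    have hex : ∃ k, c ^ (2 ^ k) ∈ A ⊔ B := by
      obtain ⟨k, hk⟩ := h2 ⟨c, (Subgroup.mem_inf.1 hc).1⟩
      refine ⟨k, ?_⟩
      have : c ^ 2 ^ k = 1 := congrArg Subtype.val hk
      rw [this]; exact one_mem _
    classical
    have h0 : Nat.find hex ≠ 0 := by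
      intro h
      have := Nat.find_spec hex
      rw [h] at this
      simp at this
      exact hcM this
    obtain ⟨k, hk⟩ := Nat.exists_eq_succ_of_ne_zero h0
    refine ⟨c ^ 2 ^ k, pow_mem hc _, Nat.find_min hex (by omega), ?_⟩
    rw [← pow_mul, ← pow_succ]
    have := Nat.find_spec hex
    rw [hk] at this
    exact this
  have hxS := (Subgroup.mem_inf.1 hx).1
  have hxC := mem_centralizer_iff.1 (Subgroup.mem_inf.1 hx).2
  have ncA : ¬ IsCyclic A := by
    intro h
    apply cA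
    intro a ha
    rw [mem_centralizer_iff]
    intro b hb
    have := h.commGroup.mul_comm (⟨b, hb⟩ : A) ⟨a, ha⟩
    exact congrArg Subtype.val this
  have ncB : ¬ IsCyclic B := by
    intro h
    apply cB
    intro a ha
    rw [mem_centralizer_iff]
    intro b hb
    have := h.commGroup.mul_comm (⟨b, hb⟩ : B) ⟨a, ha⟩
    exact congrArg Subtype.val this
  have key : ∀ X : Subgroup G, IsPGroup 2 X → ¬ X ≤ centralizer (X : Set G) →
      Nat.card (X ⊓ centralizer (X : Set G) : Subgroup G) = 2 → ¬ IsCyclic X →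
      ∃ N, Elem 2 N X ∧ N.relIndex X = 4 ∧ X ⊓ centralizer (X : Set G) ≤ N := by
    intro X hXp cX zX ncX
    obtain ⟨N, h1, h2, h3, h4⟩ := exists_relIndex_sq hXp ncX
    refine ⟨N, ⟨h1, h3, h4⟩, h2, ?_⟩
    apply center_le_of_normal hXp h1 _ _ zX
    · intro s hs
      have key : ∀ s ∈ X, ∀ x, x ∈ N → s * x * s⁻¹ ∈ N := by
        intro s hs x hx
        have := mul_mem (h4 s hs x (h1 hx)) hx
        simpa [mul_assoc] using this
      rw [mem_normalizer_iff]
      intro x
      refine ⟨key s hs x, fun h => ?_⟩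
      have := key s⁻¹ (inv_mem hs) _ h
      simpa [mul_assoc] using this
    · rintro rfl
      apply cX
      intro a ha
      rw [mem_centralizer_iff]
      intro b hb
      have := h4 b hb a ha
      rw [mem_bot] at this
      calc b * a = (b * a * b⁻¹ * a⁻¹) * (a * b) := by group
        _ = a * b := by rw [this, one_mul]
  obtain ⟨N₁, hE1, hi1, hz1⟩ := key A hAp cA zA ncA
  obtain ⟨N₂, hE2, hi2, hz2⟩ := key B hBp cB zB ncB
  obtain ⟨hE, hi⟩ := hE1.sup hE2 hcomm hbot
  rw [hi1, hi2] at hi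
  have nBA : B ≤ normalizer (A : Set G) := le_normalizer_of_commute hcomm
  have hx2N : x ^ 2 ∈ N₁ ⊔ N₂ := by
    obtain ⟨a, ha, b, hb, hab⟩ := (mem_sup_of_le_normalizer nBA).1 hx2
    have hcx : ∀ m ∈ A ⊔ B, m * x ^ 2 = x ^ 2 * m := by
      intro m hm
      have h1 : Commute m x := hxC m hm
      exact (h1.pow_right 2).eq
    have haZ : a ∈ A ⊓ centralizer (A : Set G) := by
      refine Subgroup.mem_inf.2 ⟨ha, mem_centralizer_iff.2 ?_⟩
      intro m hm
      have h1 := hcx m (mem_sup_left hm)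
      rw [← hab] at h1
      have h2 := hcomm m hm b hb
      have h3 : m * a * b = a * m * b := by
        rw [mul_assoc a m b, h2, ← mul_assoc, ← h1]; group
      exact mul_right_cancel h3
    have hbZ : b ∈ B ⊓ centralizer (B : Set G) := by
      refine Subgroup.mem_inf.2 ⟨hb, mem_centralizer_iff.2 ?_⟩
      intro m hm
      have h1 := hcx m (mem_sup_right hm)
      rw [← hab] at h1
      have h2 := hcomm a ha m hm
      have h3 : a * (m * b) = a * (b * m) := by
        rw [← mul_assoc, h2, mul_assoc, h1]; group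
      exact mul_left_cancel h3
    rw [← hab]
    exact mul_mem (mem_sup_left (hz1 haZ)) (mem_sup_right (hz2 hbZ))
  have hcomx : ∀ m ∈ A ⊔ B, ∀ y ∈ zpowers x, m * y = y * m := by
    rintro m hm _ ⟨i, rfl⟩
    have h1 : Commute m x := hxC m hm
    exact (h1.zpow_right i).eq
  have hnx := le_normalizer_of_commute hcomx
  have hEH : Elem 2 (N₁ ⊔ N₂) ((A ⊔ B) ⊔ zpowers x) := by
    refine ⟨hE.1.trans le_sup_left, ?_, ?_⟩
    · intro h hh
      obtain ⟨m, hm, y, hy, rfl⟩ := (mem_sup_of_le_normalizer hnx).1 hh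
      have e : (m * y) ^ 2 = m ^ 2 * y ^ 2 := Commute.mul_pow (hcomx m hm y hy) 2
      rw [e]
      refine mul_mem (hE.2.1 m hm) ?_
      obtain ⟨i, rfl⟩ := hy
      have : (x ^ i) ^ 2 = (x ^ 2) ^ i := by
        rw [← zpow_natCast, ← zpow_natCast, ← zpow_mul, ← zpow_mul, mul_comm]
      simp only
      rw [this]
      exact zpow_mem hx2N i
    · intro h hh k hk
      obtain ⟨m, hm, y, hy, rfl⟩ := (mem_sup_of_le_normalizer hnx).1 hh
      obtain ⟨m', hm', y', hy', rfl⟩ := (mem_sup_of_le_normalizer hnx).1 hk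
      have hyy : y * y' = y' * y := by
        obtain ⟨i, rfl⟩ := hy
        obtain ⟨j, rfl⟩ := hy'
        simp only
        rw [← zpow_add, ← zpow_add, add_comm]
      have c1 := hcomx m hm y hy
      have c2 := hcomx m hm y' hy'
      have c3 := hcomx m' hm' y hy
      have c4 := hcomx m' hm' y' hy'
      have e : m * y * (m' * y') * (m * y)⁻¹ * (m' * y')⁻¹ = m * m' * m⁻¹ * m'⁻¹ := by
        have e1 : m * y * (m' * y') = (m * m') * (y * y') := by
          calc m * y * (m' * y') = m * (y * m') * y' := by group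
            _ = m * (m' * y) * y' := by rw [c3]
            _ = (m * m') * (y * y') := by group
        have e2 : (m' * y') * (m * y) = (m' * m) * (y * y') := by
          calc m' * y' * (m * y) = m' * (y' * m) * y := by group
            _ = m' * (m * y') * y := by rw [c2]
            _ = (m' * m) * (y' * y) := by group
            _ = (m' * m) * (y * y') := by rw [hyy]
        calc m * y * (m' * y') * (m * y)⁻¹ * (m' * y')⁻¹ = (m * y * (m' * y')) * ((m' * y') * (m * y))⁻¹ := by group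
          _ = ((m * m') * (y * y')) * ((m' * m) * (y * y'))⁻¹ := by rw [e1, e2]
          _ = m * m' * m⁻¹ * m'⁻¹ := by group
      rw [e]
      exact hE.2.2 m hm m' hm'
  have hHS : (A ⊔ B) ⊔ zpowers x ≤ S := by
    rw [sup_le_iff, sup_le_iff, zpowers_le]
    exact ⟨⟨hA, hB⟩, hxS⟩
  have hle := hr.le hEH hHS
  have hmul : (N₁ ⊔ N₂).relIndex (A ⊔ B) * (A ⊔ B).relIndex ((A ⊔ B) ⊔ zpowers x) =
      (N₁ ⊔ N₂).relIndex ((A ⊔ B) ⊔ zpowers x) := relIndex_mul_relIndex _ _ _ hE.1 le_sup_left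
  have hne1 : (A ⊔ B).relIndex ((A ⊔ B) ⊔ zpowers x) ≠ 1 := by
    intro h
    rw [Subgroup.relIndex_eq_one] at h
    exact hxM (h (mem_sup_right (mem_zpowers x)))
  have hne0 : (A ⊔ B).relIndex ((A ⊔ B) ⊔ zpowers x) ≠ 0 := Subgroup.FiniteIndex.index_ne_zero
  rw [hi] at hmul
  norm_num at hle
  omega

end Cfsg.Agent.Lib.SectRank
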