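import Mathlib
import Cfsg.Prelude.Def_Transfer
import Cfsg.Agent.Lib.SectRank

/-! S3105 (`X / O₂(X) ≅ L₃(2)`, sectional 2-rank at most 4): definitions (helper50). -/

set_option autoImplicit false

namespace Cfsg.Agent.Lib.H50L3

open Subgroup Cfsg Cfsg.Agent.Lib.SectRank

universe u

variable {X : Type u} [Group X]

/-- `N` is a normal 2-subgroup, `X / N` is simple of order 168, `X` has sectional 2-rank at most 4. -/
structure Sit (N : Subgroup X) : Prop where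
  nrm : N.Normal
  two : IsPGroup 2 N
  idx : N.index = 168
  max : ∀ M : Subgroup X, M.Normal → N ≤ M → M = N ∨ M = ⊤
  rank : RankIn 2 4 (⊤ : Subgroup X)

/-- `a 0, a 1, a 2` generate `A` modulo `B`. -/
def Bas (A B : Subgroup X) (a : Fin 3 → X) : Prop := (∀ i, a i ∈ A) ∧ A ≤ closure (Set.range a) ⊔ B

/-- `A / B` is elementary abelian of order 8, `A`, `B` are normal, `X` induces `GL₃(2)` on `A / B`
with kernel exactly `N`. -/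
structure FullN (N A B : Subgroup X) : Prop where
  nA : A.Normal
  nB : B.Normal
  le : B ≤ A
  rel : B.relIndex A = 8
  sq : ∀ a ∈ A, a * a ∈ B
  bas : ∀ a b : Fin 3 → X, Bas A B a → Bas A B b → ∃ g : X, ∀ i, g * a i * g⁻¹ * (b i)⁻¹ ∈ B
  tr : ∀ n ∈ N, ∀ a ∈ A, n * a * n⁻¹ * a⁻¹ ∈ B
  ker : ∀ g : X, (∀ a ∈ A, g * a * g⁻¹ * a⁻¹ ∈ B) → g ∈ N

/-- no `X`-invariant choice of one element in each pair `{v, vt}` (`v ∈ D \ T`, `T / W = ⟨t⟩` of order 2), modulo `W` -/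
def NoSec (D T W : Subgroup X) : Prop := ∀ P : X → Prop, (∀ g : X, ∀ v ∈ D, P v → P (g * v * g⁻¹)) →
  (∀ v ∈ D, ∀ w ∈ W, P v → P (v * w)) → (∀ v ∈ D, v ∉ T → ∀ t ∈ T, t ∉ W → (P v ↔ ¬ P (v * t))) → False

/-- `(R - 1)(R² + 1) = 0` for the action `R` of elements `r` of order 4 modulo `N` on the abelian group `A` -/
def Cub (N A : Subgroup X) : Prop := ∀ r : X, r ^ 4 ∈ N → r ^ 2 ∉ N → ∀ a ∈ A,
  (r ^ 3 * a * (r ^ 3)⁻¹) * (r * a * r⁻¹) = (r ^ 2 * a * (r ^ 2)⁻¹) * a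

/-- conclusion of `affine` -/
def Aff (N T W B : Subgroup X) : Prop := ∀ t ∈ T, t ∉ W → ∀ g : X, g * g ∈ N → g * t * g⁻¹ * t⁻¹ ∈ B → g ∈ N

/-- conclusion of `rank5` -/
def R5 (N : Subgroup X) : Prop := ∀ Y D B T : Subgroup X, Y.Normal → Y ⊔ N = ⊤ → FullN N D B → D ≤ Y → N ⊓ Y ≤ D →
  T.Normal → B ≤ T → (∀ t ∈ T, ∀ y ∈ Y, y * t * y⁻¹ * t⁻¹ ∈ B) → (∀ t ∈ T, t * t ∈ B) → T ≤ D

/-- conclusion of `swap` -/
def Swap (N D T W : Subgroup X) : Prop := ∀ e : X, e ∉ N → e * e ∈ N →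
  ∃ v ∈ D, e * v * e⁻¹ * v⁻¹ ∈ T ∧ e * v * e⁻¹ * v⁻¹ ∉ W

/-- conclusion of S3105 for `N` -/
def Concl (N : Subgroup X) : Prop :=
  (Cfsg.IsElementaryAbelian 2 N ∧ (Nat.card N = 8 ∨ Nat.card N = 16)) ∨
    Nonempty (N ≃* Multiplicative (ZMod 4) × (Fin 3 → Multiplicative (ZMod 2)))

end Cfsg.Agent.Lib.H50L3
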