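import Mathlib
import Cfsg.Agent.Lib.PresAlt

set_option autoImplicit false
set_option linter.all false

/-!
# Carmichael's relations give `A₈` (helper52)
-/

namespace Cfsg.Agent.Lib.H52A8

open Equiv Equiv.Perm Cfsg.Agent.Lib.PresAlt

def crel : Set (FreeGroup (Fin 6)) :=
  {g | ∃ i : Fin 6, g = FreeGroup.of i ^ 3} ∪
    {g | ∃ i j : Fin 6, i ≠ j ∧ g = (FreeGroup.of i * FreeGroup.of j) ^ 2}

abbrev CP := PresentedGroup crel

theorem crel_lift {H : Type*} [Group H] (x : Fin 6 → H) (h3 : ∀ i, x i ^ 3 = 1)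
    (h2 : ∀ i j, i ≠ j → (x i * x j) ^ 2 = 1) : ∀ r ∈ crel, FreeGroup.lift x r = 1 := by
  rintro r (⟨i, rfl⟩ | ⟨i, j, hij, rfl⟩)
  · simpa using h3 i
  · simpa using h2 i j hij

theorem CP_finite : Finite CP ∧ Nat.card CP ≤ 20160 := by
  set x : ℕ → CP := fun i => if h : i < 6 then PresentedGroup.of ⟨i, h⟩ else 1 with hx
  have hxi : ∀ (i : ℕ) (h : i < 6), x i = PresentedGroup.of ⟨i, h⟩ := fun i h => dif_pos h
  have hb := carm_bound 6 x ?_ ?_
  · have htop : gen x 6 = ⊤ := by
      rw [eq_top_iff, ← PresentedGroup.closure_range_of crel]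
      apply (Subgroup.closure_le _).2
      rintro _ ⟨i, rfl⟩
      have := mem_gen x i.2
      rw [hxi i.1 i.2] at this
      exact this
    rw [htop] at hb
    obtain ⟨hf, hc⟩ := hb
    have hfin : Finite CP := Finite.of_equiv _ (Subgroup.topEquiv (G := CP)).toEquiv
    refine ⟨hfin, ?_⟩
    rw [Nat.card_congr (Subgroup.topEquiv (G := CP)).toEquiv] at hc
    have : Nat.factorial (6 + 2) = 40320 := by decide
    rw [this] at hc
    omega
  · intro i hi
    rw [hxi i hi]
    have : (PresentedGroup.mk crel (FreeGroup.of ⟨i, hi⟩ ^ 3)) = 1 :=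
      PresentedGroup.one_of_mem (Or.inl ⟨_, rfl⟩)
    simpa [PresentedGroup.of] using this
  · intro i hi j hj hij
    rw [hxi i hi, hxi j hj]
    have : (PresentedGroup.mk crel ((FreeGroup.of ⟨i, hi⟩ * FreeGroup.of ⟨j, hj⟩) ^ 2)) = 1 :=
      PresentedGroup.one_of_mem (Or.inr ⟨_, _, fun h => hij (congrArg Fin.val h), rfl⟩)
    simpa [PresentedGroup.of] using this

def x8 : Fin 6 → Perm (Fin 8) := fun i => swap 0 1 * swap 1 ⟨i.val + 2, by omega⟩

def x8A : Fin 6 → alternatingGroup (Fin 8) := fun i => ⟨x8 i, by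
  rw [Equiv.Perm.mem_alternatingGroup, x8, map_mul, sign_swap (by decide),
    sign_swap (by intro h; have := congrArg Fin.val h; simp at this)]
  decide⟩

theorem x8_3 : ∀ i, x8 i ^ 3 = 1 := by
  intro i
  apply cy_cube (by decide)
  · intro h; have := congrArg Fin.val h; simp at this
  · intro h; have := congrArg Fin.val h; simp at this

theorem x8_2 : ∀ i j, i ≠ j → (x8 i * x8 j) ^ 2 = 1 := by
  intro i j hij
  apply cy_sq (by decide)
  · intro h; have := congrArg Fin.val h; simp at this
  · intro h; have := congrArg Fin.val h; simp at this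
  · intro h; have := congrArg Fin.val h; simp at this
  · intro h; have := congrArg Fin.val h; simp at this; exact hij (Fin.ext this)

theorem CP_alt : Nonempty (CP ≃* alternatingGroup (Fin 8)) := by
  obtain ⟨hfin, hcard⟩ := CP_finite
  have hl : ∀ r ∈ crel, FreeGroup.lift x8A r = 1 := by
    apply crel_lift
    · intro i
      exact Subtype.ext (x8_3 i)
    · intro i j hij
      exact Subtype.ext (x8_2 i j hij)
  set f : CP →* alternatingGroup (Fin 8) := PresentedGroup.toGroup hl with hf
  have hfo : ∀ i, f (PresentedGroup.of i) = x8A i := fun i => PresentedGroup.toGroup.of hl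
  have hsurj : Function.Surjective f := by
    have h1 : alternatingGroup (Fin 8) ≤ ((alternatingGroup (Fin 8)).subtype.comp f).range := by
      apply alt_le_of_star (a := (0 : Fin 8)) (b := 1) (by decide)
      intro i hi0 hi1
      have hi2 : 2 ≤ i.val := by
        have h0 : i.val ≠ 0 := fun h => hi0 (Fin.ext h)
        have h1 : i.val ≠ 1 := fun h => hi1 (Fin.ext h)
        omega
      refine ⟨PresentedGroup.of ⟨i.val - 2, by omega⟩, ?_⟩
      rw [MonoidHom.comp_apply, hfo]
      have : (⟨i.val - 2 + 2, by omega⟩ : Fin 8) = i := Fin.ext (by simp; omega)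
      change swap 0 1 * swap 1 (⟨i.val - 2 + 2, by omega⟩ : Fin 8) = _
      rw [this]
    intro y
    obtain ⟨g, hg⟩ := h1 y.2
    exact ⟨g, Subtype.ext hg⟩
  have hc8 : Nat.card (alternatingGroup (Fin 8)) = 20160 := by
    have h := two_mul_nat_card_alternatingGroup (α := Fin 8)
    rw [Nat.card_perm, Nat.card_fin] at h
    have : Nat.factorial 8 = 40320 := by decide
    omega
  have hle := Nat.card_le_card_of_surjective f hsurj
  have hbij : Function.Bijective f := by
    rw [Nat.bijective_iff_surjective_and_card]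
    exact ⟨hsurj, by omega⟩
  exact ⟨MulEquiv.ofBijective f hbij⟩

theorem carm_alt8 {G : Type*} [Group G] [Finite G] (x : Fin 6 → G) (h3 : ∀ i, x i ^ 3 = 1)
    (h2 : ∀ i j, i ≠ j → (x i * x j) ^ 2 = 1) (hne : x 0 ≠ 1) (hcard : Nat.card G = 20160) :
    Nonempty (G ≃* alternatingGroup (Fin 8)) := by
  obtain ⟨e⟩ := CP_alt
  have hfin : Finite CP := CP_finite.1
  have hl := crel_lift x h3 h2
  set f : CP →* G := PresentedGroup.toGroup hl with hf
  have hs : IsSimpleGroup (alternatingGroup (Fin 8)) := alternatingGroup.isSimpleGroup (by simp)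
  have hntC : Nontrivial CP := e.toEquiv.nontrivial
  have hsC : IsSimpleGroup CP := IsSimpleGroup.isSimpleGroup_of_surjective e.symm.toMonoidHom e.symm.surjective
  have hker : f.ker = ⊥ := by
    rcases hsC.eq_bot_or_eq_top_of_normal f.ker inferInstance with h | h
    · exact h
    · exfalso
      apply hne
      have h1 : (PresentedGroup.of (0 : Fin 6) : CP) ∈ f.ker := h ▸ Subgroup.mem_top _
      rw [MonoidHom.mem_ker] at h1
      rw [← h1]
      exact (PresentedGroup.toGroup.of hl).symm
  have hinj : Function.Injective f := (MonoidHom.ker_eq_bot_iff f).1 hker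
  have hc8 : Nat.card (alternatingGroup (Fin 8)) = 20160 := by
    have h := two_mul_nat_card_alternatingGroup (α := Fin 8)
    rw [Nat.card_perm, Nat.card_fin] at h
    have : Nat.factorial 8 = 40320 := by decide
    omega
  have hbij : Function.Bijective f := by
    rw [Nat.bijective_iff_injective_and_card]
    refine ⟨hinj, ?_⟩
    rw [Nat.card_congr e.toEquiv, hc8, hcard]
  exact ⟨(MulEquiv.ofBijective f hbij).symm.trans e⟩

end Cfsg.Agent.Lib.H52A8
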