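import Mathlib
import Cfsg.Agent.Lib.DihSylow2
import Cfsg.Agent.S0514
import Cfsg.Agent.Lib.DihRec

/-!
# Centralizers of powers of the rotation in groups with dihedral Sylow 2-subgroups (helper52)
-/

set_option autoImplicit false

open Subgroup

namespace Cfsg.Agent.Lib.H52Dih1

open Cfsg.Agent.Lib.DihSylow

variable {G : Type*} [Group G] [Finite G]

/-- `DH` data with a prescribed rotation. -/
theorem dh_of_rotation (P : Sylow 2 G) {n : ℕ} (hn : 3 ≤ n)
    (hP : Nonempty ((P : Subgroup G) ≃* DihedralGroup (2 ^ (n - 1)))) {σ : G}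
    (hσ : σ ∈ (P : Subgroup G)) (hσo : orderOf σ = 2 ^ (n - 1)) :
    ∃ y : G, DH (P : Subgroup G) σ y (2 ^ (n - 2)) (n - 2) := by
  obtain ⟨e⟩ := hP
  have hp : IsPGroup 2 (P : Subgroup G) := P.isPGroup'
  obtain ⟨m, rfl⟩ := Nat.exists_eq_add_of_le hn
  have h2 : 2 ^ (3 + m - 1) = 4 * 2 ^ m := by
    rw [show 3 + m - 1 = m + 2 by omega, pow_add]; ring
  have hm1 : 0 < 2 ^ m := by positivity
  obtain ⟨x, y, q, k, h, hq⟩ := exists_dh (p := 2) hp (by rw [h2]; omega) e
  have hq2 : q = 2 ^ (3 + m - 2) := by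
    rw [show 3 + m - 2 = m + 1 by omega, pow_succ]
    rw [h2] at hq; omega
  have hk : k = 3 + m - 2 := by
    have := h.hq
    rw [hq2] at this
    exact (Nat.pow_right_injective (le_refl 2) this).symm
  have hσx : ∃ i : ℤ, σ = x ^ i := by
    rcases h.exists_rep hσ with h1 | ⟨i, h1⟩
    · exact h1
    · exfalso
      have h3 := h.sq i
      rw [← h1, ← sq] at h3
      have h4 := orderOf_dvd_of_pow_eq_one h3
      rw [hσo, h2] at h4
      have := Nat.le_of_dvd (by norm_num) h4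
      omega
  obtain ⟨i, hi⟩ := hσx
  have hle : zpowers σ ≤ zpowers x := by
    rw [zpowers_le, hi]; exact zpow_mem (mem_zpowers x) i
  have hcard : Nat.card (zpowers σ) = Nat.card (zpowers x) := by
    rw [Nat.card_zpowers, Nat.card_zpowers, hσo, h.hx, hq]
  have heq : zpowers σ = zpowers x := Subgroup.eq_of_le_of_card_ge hle hcard.ge
  refine ⟨y, ⟨?_, ?_, hσ, h.yS, ?_, h.hy, ?_, ?_⟩⟩
  · rfl
  · rw [h.card, hq2]
  · rw [hσo, hq, hq2]
  · rw [hi, h.y_conj, zpow_neg]
  · rw [heq]; exact h.hyx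

variable {S : Sylow 2 G} {x y : G} {q n : ℕ}

/-- A normal 2-complement of the centralizer of the central involution, inside `G`. -/
structure Comp (S : Sylow 2 G) (z : G) (K : Subgroup G) : Prop where
  le : ∀ k ∈ K, k * z = z * k
  odd : ¬ 2 ∣ Nat.card K
  norm : ∀ g, g * z = z * g → ∀ k ∈ K, g * k * g⁻¹ ∈ K
  fac : ∀ g, g * z = z * g → ∃ k ∈ K, ∃ s ∈ (S : Subgroup G), g = k * s
  disj : ∀ k ∈ K, k ∈ (S : Subgroup G) → k = 1

theorem disj_of_odd {K : Subgroup G} (hK : ¬ 2 ∣ Nat.card K) {k : G} (hk : k ∈ K)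
    (hkS : k ∈ (S : Subgroup G)) : k = 1 := by
  obtain ⟨j, hj⟩ := (IsPGroup.iff_orderOf.mp S.isPGroup') ⟨k, hkS⟩
  rw [Subgroup.orderOf_mk] at hj
  have h1 : orderOf k ∣ Nat.card K := by
    have := orderOf_dvd_natCard (⟨k, hk⟩ : K)
    rwa [Subgroup.orderOf_mk] at this
  rcases Nat.eq_zero_or_pos j with rfl | hj0
  · rw [pow_zero] at hj; exact orderOf_eq_one_iff.mp hj
  · exfalso
    apply hK
    refine dvd_trans ?_ h1
    rw [hj]
    exact dvd_pow_self 2 hj0.ne'

theorem exists_comp (h : DH (S : Subgroup G) x y q n) :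
    ∃ K : Subgroup G, Comp S (x ^ (q : ℤ)) K := by
  classical
  haveI : Fact (Nat.Prime 2) := ⟨Nat.prime_two⟩
  set z := x ^ (q : ℤ) with hz
  have hord : orderOf z = 2 := orderOf_eq_prime (by rw [pow_two]; exact h.z_sq) h.z_ne
  have hS : ∀ s ∈ (S : Subgroup G), s * z = z * s := fun s hs => (h.z_comm hs).symm
  have hq := h.q_pos
  have hiso : Nonempty ((S : Subgroup G) ≃* DihedralGroup (2 * q)) := by
    have := h.finite
    let a : (S : Subgroup G) := ⟨x, h.xS⟩
    let b : (S : Subgroup G) := ⟨y, h.yS⟩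
    refine DihRec.dihedral_of_gens (2 * q) a b (by omega) (by rw [Subgroup.orderOf_mk]; exact h.hx)
      (by rw [h.card]; ring) ?_ (Subtype.ext h.hy) ?_
    · rintro ⟨i, hi⟩
      apply h.hyx
      refine ⟨i, ?_⟩
      have := congrArg Subtype.val hi
      simpa using this
    · apply Subtype.ext
      show (y * x) * (y * x) = 1
      have h1 := h.y_mul 1
      rw [zpow_one, zpow_neg, zpow_one] at h1
      calc (y * x) * (y * x) = (y * x) * (x⁻¹ * y) := by rw [h1]
        _ = y * y := by group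
        _ = 1 := h.hy
  obtain ⟨N, hN, hodd, k, hk⟩ := S0514.result S (2 * q) (by omega) hiso z hord
  have hmem : ∀ g, g ∈ centralizer ({z} : Set G) ↔ g * z = z * g := fun g =>
    Subgroup.mem_centralizer_singleton_iff
  have hSle : (S : Subgroup G) ≤ centralizer ({z} : Set G) := fun s hs => (hmem s).2 (hS s hs)
  refine ⟨N.map (centralizer ({z} : Set G)).subtype, ?_⟩
  have hcardK : Nat.card (N.map (centralizer ({z} : Set G)).subtype) = Nat.card N :=
    Nat.card_congr (N.equivMapOfInjective _ (centralizer ({z} : Set G)).subtype_injective).toEquiv.symm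
  have hodd2 : ¬ 2 ∣ Nat.card (N.map (centralizer ({z} : Set G)).subtype) := by
    rw [hcardK]
    exact fun h => (Nat.not_even_iff_odd.mpr hodd) (even_iff_two_dvd.mpr h)
  refine ⟨?_, hodd2, ?_, ?_, fun k hk hkS => disj_of_odd hodd2 hk hkS⟩
  · rintro _ ⟨c, _, rfl⟩
    exact (hmem _).1 c.2
  · rintro g hg _ ⟨c, hc, rfl⟩
    refine ⟨⟨g, (hmem g).2 hg⟩ * c * ⟨g, (hmem g).2 hg⟩⁻¹, hN.conj_mem c hc _, rfl⟩
  · -- factorization
    intro g hg
    let S' : Subgroup (centralizer ({z} : Set G)) := (S : Subgroup G).subgroupOf _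
    have hS'card : Nat.card S' = Nat.card (S : Subgroup G) :=
      Nat.card_congr (Subgroup.subgroupOfEquivOfLe hSle).toEquiv
    have hdis : Disjoint N S' := by
      rw [disjoint_iff_inf_le]
      rintro c ⟨hc1, hc2⟩
      have h1 : (c : G) = 1 := disj_of_odd hodd2 ⟨c, hc1, rfl⟩ hc2
      exact Subgroup.mem_bot.mpr (Subtype.ext h1)
    have hcard : Nat.card N * Nat.card S' = Nat.card (centralizer ({z} : Set G)) := by
      rw [← N.card_mul_index, hk]
      congr 1
      rw [hS'card]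
      -- both are the 2-part
      have h1 : Nat.card (S : Subgroup G) = 2 ^ (Nat.card G).factorization 2 := S.card_eq_multiplicity
      have h2 : Nat.card S' ∣ Nat.card (centralizer ({z} : Set G)) := Subgroup.card_subgroup_dvd_card _
      rw [hS'card, ← N.card_mul_index, hk] at h2
      have h3 : Nat.card (S : Subgroup G) ∣ 2 ^ k := by
        refine Nat.Coprime.dvd_of_dvd_mul_left ?_ h2
        rw [h1]
        apply Nat.Coprime.pow_left
        exact (Nat.coprime_two_left.mpr hodd)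
      have h4 : 2 ^ k ∣ Nat.card G := by
        rw [← hk]
        exact (N.index_dvd_card).trans (Subgroup.card_subgroup_dvd_card _)
      have h5 : 2 ^ k ∣ Nat.card (S : Subgroup G) := by
        rw [h1]
        exact (Nat.pow_dvd_pow_iff_le_right (by norm_num)).mpr
          ((Nat.prime_two.pow_dvd_iff_le_factorization Nat.card_pos.ne').mp h4)
      exact Nat.dvd_antisymm h3 h5
    have hcomp := Subgroup.isComplement'_of_card_mul_and_disjoint hcard hdis
    obtain ⟨⟨a, b⟩, hab⟩ := hcomp.2 ⟨g, (hmem g).2 hg⟩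
    refine ⟨a.1.1, ⟨a.1, a.2, rfl⟩, b.1.1, b.2, ?_⟩
    exact (congrArg Subtype.val hab).symm

namespace Comp

variable {z : G} {K : Subgroup G} (c : Comp S z K)
include c

/-- `S ≤ C(z)`-version: commuting with an element of `S` passes to the factors. -/
theorem fac_comm (hS : ∀ s ∈ (S : Subgroup G), s * z = z * s) {g u : G} (hg : g * z = z * g)
    (hu : u ∈ (S : Subgroup G)) (hgu : g * u = u * g) :
    ∃ k ∈ K, ∃ s ∈ (S : Subgroup G), g = k * s ∧ k * u = u * k ∧ s * u = u * s := by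
  obtain ⟨k, hk, s, hs, rfl⟩ := c.fac g hg
  have h1 : (s * u * s⁻¹) * u⁻¹ ∈ (S : Subgroup G) :=
    mul_mem (mul_mem (mul_mem hs hu) (inv_mem hs)) (inv_mem hu)
  have h2 : (s * u * s⁻¹) * u⁻¹ = k⁻¹ * (u * k * u⁻¹) := by
    have h3 : k * (s * u * s⁻¹) = u * k := by
      have : k * s * u = u * (k * s) := hgu
      calc k * (s * u * s⁻¹) = (k * s * u) * s⁻¹ := by group
        _ = u * k := by rw [this]; group
    calc (s * u * s⁻¹) * u⁻¹ = k⁻¹ * (k * (s * u * s⁻¹)) * u⁻¹ := by group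
      _ = k⁻¹ * (u * k * u⁻¹) := by rw [h3]; group
  have h4 : (s * u * s⁻¹) * u⁻¹ ∈ K := by
    rw [h2]
    exact mul_mem (inv_mem hk) (c.norm u (hS u hu) k hk)
  have h5 := c.disj _ h4 h1
  have h6 : s * u = u * s := by
    have : s * u * s⁻¹ = u := mul_inv_eq_one.mp h5
    rw [mul_inv_eq_iff_eq_mul] at this
    exact this
  refine ⟨k, hk, s, hs, rfl, ?_, h6⟩
  have : k * s * u = u * (k * s) := hgu
  rw [mul_assoc, h6, ← mul_assoc, ← mul_assoc] at this
  exact mul_right_cancel this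

/-- fusion in `S` of elements whose centralizer lies in `C(z)` is controlled by `S` -/
theorem conj_eq (hS : ∀ s ∈ (S : Subgroup G), s * z = z * s) {g u v : G} (hg : g * z = z * g)
    (hu : u ∈ (S : Subgroup G)) (hv : v ∈ (S : Subgroup G)) (hguv : g * u * g⁻¹ = v) :
    ∃ s ∈ (S : Subgroup G), s * u * s⁻¹ = v := by
  obtain ⟨k, hk, s, hs, rfl⟩ := c.fac g hg
  refine ⟨s, hs, ?_⟩
  have h1 : (s * u * s⁻¹) * v⁻¹ ∈ (S : Subgroup G) :=
    mul_mem (mul_mem (mul_mem hs hu) (inv_mem hs)) (inv_mem hv)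
  have h2 : (s * u * s⁻¹) * v⁻¹ = k⁻¹ * (v * k * v⁻¹) := by
    rw [← hguv]; group
  have h4 : (s * u * s⁻¹) * v⁻¹ ∈ K := by
    rw [h2]
    exact mul_mem (inv_mem hk) (c.norm v (hS v hv) k hk)
  exact mul_inv_eq_one.mp (c.disj _ h4 h1)

end Comp

end Cfsg.Agent.Lib.H52Dih1
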