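import Mathlib

/-!
# Fourier analysis on a cyclic group for even functions vanishing at the origin (helper52)
-/

set_option autoImplicit false

open Finset

namespace Cfsg.Agent.Lib.H52Dih2

variable {N : ℕ} {ζ : ℂ}

theorem esum (hN : 0 < N) (hζ : IsPrimitiveRoot ζ N) (k : ℤ) :
    ∑ l ∈ range N, ζ ^ (k * (l : ℤ)) = if (N : ℤ) ∣ k then (N : ℂ) else 0 := by
  have h0 : ζ ≠ 0 := hζ.ne_zero hN.ne'
  have h1 : ∀ l : ℕ, ζ ^ (k * (l : ℤ)) = (ζ ^ k) ^ l := by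
    intro l; rw [zpow_mul, zpow_natCast]
  simp only [h1]
  split_ifs with h
  · have : ζ ^ k = 1 := (hζ.zpow_eq_one_iff_dvd k).mpr h
    simp [this]
  · have hne : ζ ^ k ≠ 1 := fun he => h ((hζ.zpow_eq_one_iff_dvd k).mp he)
    have hN1 : (ζ ^ k) ^ N = 1 := by
      rw [← zpow_natCast, ← zpow_mul, mul_comm, zpow_mul, zpow_natCast, hζ.pow_eq_one, one_zpow]
    have := geom_sum_mul (ζ ^ k) N
    rw [hN1, sub_self] at this
    exact (mul_eq_zero.mp this).resolve_right (sub_ne_zero.mpr hne)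

/-- the kernel -/
noncomputable def κ (ζ : ℂ) (j l : ℕ) : ℂ := 1 - (ζ ^ ((j : ℤ) * l) + ζ ^ (-(j : ℤ) * l)) / 2

/-- the coefficient -/
noncomputable def cc (N : ℕ) (ζ : ℂ) (f : ℕ → ℂ) (j : ℕ) : ℂ :=
  (N : ℂ)⁻¹ * ∑ l ∈ range N, f l * κ ζ j l

@[simp] theorem κ_zero (j : ℕ) : κ ζ j 0 = 0 := by simp [κ]

@[simp] theorem κ_zero_left (l : ℕ) : κ ζ 0 l = 0 := by simp [κ]

theorem κ_symm (hN : 0 < N) (hζ : IsPrimitiveRoot ζ N) (j : ℕ) {l : ℕ} (hl : l ≤ N) :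
    κ ζ j (N - l) = κ ζ j l := by
  have h0 : ζ ≠ 0 := hζ.ne_zero hN.ne'
  have h1 : ∀ k : ℤ, ζ ^ (k * ((N - l : ℕ) : ℤ)) = ζ ^ (-k * (l : ℤ)) := by
    intro k
    rw [Nat.cast_sub hl, mul_sub, sub_eq_add_neg, zpow_add₀ h0, mul_comm k (N : ℤ), zpow_mul,
      zpow_natCast, hζ.pow_eq_one, one_zpow, one_mul, neg_mul]
  unfold κ
  rw [h1, h1, neg_neg]
  ring

theorem κ_symm' (hN : 0 < N) (hζ : IsPrimitiveRoot ζ N) {j : ℕ} (hj : j ≤ N) (l : ℕ) :
    κ ζ (N - j) l = κ ζ j l := by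
  have h1 : ∀ a b : ℕ, κ ζ a b = κ ζ b a := by
    intro a b
    unfold κ
    rw [mul_comm (a : ℤ), neg_mul, mul_comm (a : ℤ), neg_mul]
  rw [h1, κ_symm hN hζ l hj, h1]

theorem cc_symm (hN : 0 < N) (hζ : IsPrimitiveRoot ζ N) (f : ℕ → ℂ) {j : ℕ} (hj : j ≤ N) :
    cc N ζ f (N - j) = cc N ζ f j := by
  unfold cc
  simp only [κ_symm' hN hζ hj]

@[simp] theorem cc_zero (f : ℕ → ℂ) : cc N ζ f 0 = 0 := by simp [cc]

theorem cc_add (f g : ℕ → ℂ) (j : ℕ) : cc N ζ (fun l => f l + g l) j = cc N ζ f j + cc N ζ g j := by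
  unfold cc
  rw [← mul_add, ← Finset.sum_add_distrib]
  simp only [add_mul]

theorem cc_smul (a : ℂ) (f : ℕ → ℂ) (j : ℕ) : cc N ζ (fun l => a * f l) j = a * cc N ζ f j := by
  unfold cc
  rw [Finset.mul_sum, Finset.mul_sum, Finset.mul_sum]
  refine Finset.sum_congr rfl fun l _ => ?_
  ring

theorem cc_sum {ι : Type*} (s : Finset ι) (f : ι → ℕ → ℂ) (j : ℕ) :
    cc N ζ (fun l => ∑ i ∈ s, f i l) j = ∑ i ∈ s, cc N ζ (f i) j := by
  unfold cc
  rw [← Finset.mul_sum, Finset.sum_comm]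
  congr 1
  refine Finset.sum_congr rfl fun l _ => ?_
  rw [Finset.sum_mul]

theorem cc_congr {f g : ℕ → ℂ} (h : ∀ l, 0 < l → l < N → f l = g l) (j : ℕ) :
    cc N ζ f j = cc N ζ g j := by
  unfold cc
  congr 1
  refine Finset.sum_congr rfl fun l hl => ?_
  rcases Nat.eq_zero_or_pos l with rfl | h0
  · simp
  · rw [h l h0 (Finset.mem_range.mp hl)]

open scoped Classical in
/-- coefficients of an exponential -/
theorem cc_exp (hN : 0 < N) (hζ : IsPrimitiveRoot ζ N) (a : ℤ) (j : ℕ) :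
    cc N ζ (fun l => ζ ^ (a * (l : ℤ))) j = (if (N : ℤ) ∣ a then 1 else 0) -
      ((if (N : ℤ) ∣ a + j then 1 else 0) + (if (N : ℤ) ∣ a - j then 1 else 0)) / 2 := by
  have h0 : ζ ≠ 0 := hζ.ne_zero hN.ne'
  have hN0 : (N : ℂ) ≠ 0 := by exact_mod_cast hN.ne'
  unfold cc
  have h1 : ∀ l ∈ range N, ζ ^ (a * (l : ℤ)) * κ ζ j l =
      ζ ^ (a * (l : ℤ)) - (ζ ^ ((a + j) * (l : ℤ)) + ζ ^ ((a - j) * (l : ℤ))) / 2 := by
    intro l _
    have e1 : ζ ^ ((a + j) * (l : ℤ)) = ζ ^ (a * (l : ℤ)) * ζ ^ ((j : ℤ) * l) := by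
      rw [← zpow_add₀ h0]; congr 1; ring
    have e2 : ζ ^ ((a - j) * (l : ℤ)) = ζ ^ (a * (l : ℤ)) * ζ ^ (-(j : ℤ) * l) := by
      rw [← zpow_add₀ h0]; congr 1; ring
    unfold κ
    rw [e1, e2]
    ring
  rw [Finset.sum_congr rfl h1, Finset.sum_sub_distrib, ← Finset.sum_div, Finset.sum_add_distrib,
    esum hN hζ, esum hN hζ, esum hN hζ]
  have h2 : ∀ (P : Prop) [Decidable P], (if P then (N : ℂ) else 0) = N * (if P then 1 else 0) := by
    intro P _; split_ifs <;> simp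
  rw [h2, h2, h2]
  field_simp

open scoped Classical in
theorem cc_root (hN : 0 < N) (hζ : IsPrimitiveRoot ζ N) {μ : ℂ} (hμ : μ ^ N = 1) (j : ℕ) :
    cc N ζ (fun l => μ ^ l) j = (if μ = 1 then 1 else 0) -
      ((if μ = ζ ^ (-(j : ℤ)) then 1 else 0) + (if μ = ζ ^ (j : ℤ) then 1 else 0)) / 2 := by
  have h0 : ζ ≠ 0 := hζ.ne_zero hN.ne'
  haveI : NeZero N := ⟨hN.ne'⟩
  obtain ⟨i, hi, rfl⟩ := hζ.eq_pow_of_pow_eq_one hμ
  have h1 : (fun l : ℕ => (ζ ^ i) ^ l) = fun l : ℕ => ζ ^ ((i : ℤ) * (l : ℤ)) := by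
    funext l
    rw [zpow_mul, zpow_natCast, zpow_natCast]
  rw [h1, cc_exp hN hζ]
  have h2 : ζ ^ i = 1 ↔ (N : ℤ) ∣ (i : ℤ) := by
    rw [← zpow_natCast]; exact hζ.zpow_eq_one_iff_dvd _
  have h3 : ∀ k : ℤ, ζ ^ i = ζ ^ k ↔ (N : ℤ) ∣ (i : ℤ) - k := by
    intro k
    rw [← hζ.zpow_eq_one_iff_dvd, zpow_sub₀ h0, zpow_natCast, div_eq_one_iff_eq (zpow_ne_zero _ h0)]
  simp only [h2, h3, sub_neg_eq_add]

open scoped Classical in
/-- Integrality of the coefficients of an even sum of roots of unity. -/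
theorem cc_int (hN : 0 < N) (hζ : IsPrimitiveRoot ζ N) {d : ℕ} (μ : Fin d → ℂ) (hμ : ∀ i, μ i ^ N = 1)
    (f : ℕ → ℂ) (hf : ∀ l, f l = ∑ i, μ i ^ l) (hs : ∀ l, l ≤ N → f (N - l) = f l) (j : ℕ) :
    ∃ a : ℤ, cc N ζ f j = a := by
  have h0 : ζ ≠ 0 := hζ.ne_zero hN.ne'
  have hN0 : (N : ℂ) ≠ 0 := by exact_mod_cast hN.ne'
  -- number of eigenvalues equal to ζ^k
  have hcount : ∀ k : ℤ, ∑ l ∈ range N, f l * ζ ^ (-k * (l : ℤ)) =
      (N : ℂ) * ((univ.filter fun i => μ i = ζ ^ k).card : ℂ) := by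
    intro k
    simp only [hf, Finset.sum_mul]
    rw [Finset.sum_comm]
    have h1 : ∀ i : Fin d, ∑ l ∈ range N, μ i ^ l * ζ ^ (-k * (l : ℤ)) =
        if μ i = ζ ^ k then (N : ℂ) else 0 := by
      intro i
      haveI : NeZero N := ⟨hN.ne'⟩
      obtain ⟨e, he, hie⟩ := hζ.eq_pow_of_pow_eq_one (hμ i)
      rw [← hie]
      have h2 : ∀ l ∈ range N, (ζ ^ e) ^ l * ζ ^ (-k * (l : ℤ)) = ζ ^ (((e : ℤ) - k) * (l : ℤ)) := by
        intro l _
        rw [sub_eq_add_neg, add_mul, zpow_add₀ h0, zpow_mul ζ (e : ℤ), zpow_natCast, zpow_natCast]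
      rw [Finset.sum_congr rfl h2, esum hN hζ]
      have h3 : ζ ^ e = ζ ^ k ↔ (N : ℤ) ∣ (e : ℤ) - k := by
        rw [← hζ.zpow_eq_one_iff_dvd, zpow_sub₀ h0, zpow_natCast, div_eq_one_iff_eq (zpow_ne_zero _ h0)]
      simp only [h3]
    rw [Finset.sum_congr rfl (fun i _ => h1 i), ← Finset.sum_filter, Finset.sum_const, nsmul_eq_mul,
      mul_comm]
  -- evenness
  have heven : ∀ k : ℤ, ∑ l ∈ range N, f l * ζ ^ (-k * (l : ℤ)) = ∑ l ∈ range N, f l * ζ ^ (k * (l : ℤ)) := by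
    intro k
    obtain ⟨m, rfl⟩ := Nat.exists_eq_succ_of_ne_zero hN.ne'
    rw [Finset.sum_range_succ', Finset.sum_range_succ']
    congr 1
    · rw [← Finset.sum_range_reflect]
      refine Finset.sum_congr rfl fun l hl => ?_
      have hl' := Finset.mem_range.mp hl
      have h1 : m - 1 - l + 1 = m.succ - (l + 1) := by omega
      rw [h1, hs (l + 1) (by omega)]
      congr 1
      rw [Nat.cast_sub (by omega), mul_sub, sub_eq_add_neg, zpow_add₀ h0, mul_comm (-k) ((m.succ : ℕ) : ℤ),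
        zpow_mul, zpow_natCast, hζ.pow_eq_one, one_zpow, one_mul]
      congr 1
      ring
    · simp
  refine ⟨((univ.filter fun i => μ i = ζ ^ (0 : ℤ)).card : ℤ) -
    ((univ.filter fun i => μ i = ζ ^ (j : ℤ)).card : ℤ), ?_⟩
  have h1 := hcount 0
  have h2 := hcount j
  have h3 := heven j
  have h4 : ∑ l ∈ range N, f l * κ ζ j l = ∑ l ∈ range N, f l * ζ ^ (-(0 : ℤ) * (l : ℤ)) -
      (∑ l ∈ range N, f l * ζ ^ ((j : ℤ) * (l : ℤ)) + ∑ l ∈ range N, f l * ζ ^ (-(j : ℤ) * (l : ℤ))) / 2 := by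
    rw [← Finset.sum_add_distrib, Finset.sum_div, ← Finset.sum_sub_distrib]
    refine Finset.sum_congr rfl fun l _ => ?_
    unfold κ
    simp only [neg_zero, zero_mul, zpow_zero]
    ring
  unfold cc
  rw [h4, ← h3, h1, h2]
  push_cast
  field_simp
  ring

open scoped Classical in
/-- Fourier inversion. -/
theorem inversion (hN : 0 < N) (hζ : IsPrimitiveRoot ζ N) (f : ℕ → ℂ)
    (hs : ∀ l, l ≤ N → f (N - l) = f l) {l : ℕ} (hl0 : 0 < l) (hl : l < N) :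
    ∑ j ∈ range N, cc N ζ f j * ζ ^ ((j : ℤ) * l) = - f l := by
  have h0 : ζ ≠ 0 := hζ.ne_zero hN.ne'
  have hN0 : (N : ℂ) ≠ 0 := by exact_mod_cast hN.ne'
  unfold cc
  have h1 : ∀ j ∈ range N, ((N : ℂ)⁻¹ * ∑ m ∈ range N, f m * κ ζ j m) * ζ ^ ((j : ℤ) * l) =
      ∑ m ∈ range N, (N : ℂ)⁻¹ * f m * (ζ ^ ((l : ℤ) * j) - (ζ ^ (((m : ℤ) + l) * j) +
        ζ ^ (((l : ℤ) - m) * j)) / 2) := by
    intro j _
    rw [Finset.mul_sum, Finset.sum_mul]
    refine Finset.sum_congr rfl fun m _ => ?_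
    have e1 : ζ ^ (((m : ℤ) + l) * (j : ℤ)) = ζ ^ ((j : ℤ) * m) * ζ ^ ((j : ℤ) * l) := by
      rw [← zpow_add₀ h0]; congr 1; ring
    have e2 : ζ ^ (((l : ℤ) - m) * (j : ℤ)) = ζ ^ (-(j : ℤ) * m) * ζ ^ ((j : ℤ) * l) := by
      rw [← zpow_add₀ h0]; congr 1; ring
    unfold κ
    rw [e1, e2, mul_comm (l : ℤ) (j : ℤ)]
    ring
  rw [Finset.sum_congr rfl h1, Finset.sum_comm]
  have h2 : ∀ m ∈ range N, ∑ j ∈ range N, (N : ℂ)⁻¹ * f m * (ζ ^ ((l : ℤ) * j) -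
      (ζ ^ (((m : ℤ) + l) * j) + ζ ^ (((l : ℤ) - m) * j)) / 2) =
      (if m = N - l then - f m / 2 else 0) + (if m = l then - f m / 2 else 0) := by
    intro m hm
    have hm' := Finset.mem_range.mp hm
    rw [← Finset.mul_sum, Finset.sum_sub_distrib, ← Finset.sum_div, Finset.sum_add_distrib,
      esum hN hζ, esum hN hζ, esum hN hζ]
    have e1 : ¬ ((N : ℤ) ∣ (l : ℤ)) := by
      intro h
      have := Int.natCast_dvd_natCast.mp h
      exact absurd (Nat.le_of_dvd hl0 this) (by omega)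
    have e2 : ((N : ℤ) ∣ (m : ℤ) + l) ↔ m = N - l := by
      constructor
      · intro h
        have h3 : N ∣ m + l := by exact_mod_cast h
        obtain ⟨c, hc⟩ := h3
        have : c = 1 := by
          rcases Nat.lt_or_ge c 2 with h5 | h5
          · interval_cases c
            · omega
            · rfl
          · nlinarith
        subst this; omega
      · rintro rfl
        rw [Nat.cast_sub (by omega)]
        exact ⟨1, by ring⟩
    have e3 : ((N : ℤ) ∣ (l : ℤ) - m) ↔ m = l := by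
      constructor
      · intro h
        have h3 := Int.eq_zero_of_abs_lt_dvd h (by rw [abs_lt]; constructor <;> omega)
        omega
      · rintro rfl; simp
    rw [if_neg e1]
    simp only [e2, e3]
    split_ifs <;> field_simp <;> ring
  rw [Finset.sum_congr rfl h2, Finset.sum_add_distrib, Finset.sum_ite_eq', Finset.sum_ite_eq',
    if_pos (Finset.mem_range.mpr (by omega)), if_pos (Finset.mem_range.mpr hl), hs l hl.le]
  ring

/-- An even function is determined on `0 < l < N` by its coefficients of index `1 ≤ j ≤ N/2`. -/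
theorem ext_of_cc {q : ℕ} (hq : 0 < q) (hNq : N = 2 * q) (hζ : IsPrimitiveRoot ζ N) (f g : ℕ → ℂ)
    (hf : ∀ l, l ≤ N → f (N - l) = f l) (hg : ∀ l, l ≤ N → g (N - l) = g l)
    (h : ∀ j, 1 ≤ j → j ≤ q → cc N ζ f j = cc N ζ g j) {l : ℕ} (hl0 : 0 < l) (hl : l < N) :
    f l = g l := by
  have hN : 0 < N := by omega
  have h1 := inversion hN hζ f hf hl0 hl
  have h2 := inversion hN hζ g hg hl0 hl
  have h3 : ∀ j ∈ range N, cc N ζ f j = cc N ζ g j := by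
    intro j hj
    have hj' := Finset.mem_range.mp hj
    rcases Nat.eq_zero_or_pos j with rfl | h0
    · simp
    · rcases le_or_gt j q with h4 | h4
      · exact h j h0 h4
      · rw [← cc_symm hN hζ f hj'.le, ← cc_symm hN hζ g hj'.le]
        exact h (N - j) (by omega) (by omega)
  have h4 : ∑ j ∈ range N, cc N ζ f j * ζ ^ ((j : ℤ) * l) =
      ∑ j ∈ range N, cc N ζ g j * ζ ^ ((j : ℤ) * l) :=
    Finset.sum_congr rfl fun j hj => by rw [h3 j hj]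
  rw [h1, h2] at h4
  exact neg_injective h4

open scoped Classical in
theorem sum_κ_mul (hN : 0 < N) (hζ : IsPrimitiveRoot ζ N) (i j : ℕ) (hi0 : 0 < i) (hi : i < N)
    (hj0 : 0 < j) (hj : j < N) :
    ∑ l ∈ range N, κ ζ i l * κ ζ j l =
      (N : ℂ) * (1 + ((if i = j then 1 else 0) + (if i + j = N then 1 else 0)) / 2) := by
  have h0 : ζ ≠ 0 := hζ.ne_zero hN.ne'
  have hN0 : (N : ℂ) ≠ 0 := by exact_mod_cast hN.ne'
  have h1 : ∑ l ∈ range N, κ ζ i l * κ ζ j l = N * cc N ζ (fun l => κ ζ i l) j := by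
    unfold cc
    rw [← mul_assoc, mul_inv_cancel₀ hN0, one_mul]
  have h2 : (fun l : ℕ => κ ζ i l) = fun l : ℕ => ζ ^ ((0 : ℤ) * (l : ℤ)) +
      ((-1 / 2 : ℂ) * ζ ^ ((i : ℤ) * (l : ℤ)) + (-1 / 2 : ℂ) * ζ ^ (-(i : ℤ) * (l : ℤ))) := by
    funext l
    unfold κ
    rw [zero_mul, zpow_zero]; ring
  rw [h1, h2, cc_add, cc_add, cc_smul, cc_smul, cc_exp hN hζ, cc_exp hN hζ, cc_exp hN hζ]
  have e0 : ∀ k : ℕ, 0 < k → k < N → ¬ ((N : ℤ) ∣ (k : ℤ)) := by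
    intro k hk hk' h
    have := Int.natCast_dvd_natCast.mp h
    exact absurd (Nat.le_of_dvd hk this) (by omega)
  have e1 : ¬ ((N : ℤ) ∣ -(i : ℤ)) := by rw [dvd_neg]; exact e0 i hi0 hi
  have e2 : ¬ ((N : ℤ) ∣ 0 + (j : ℤ)) := by rw [zero_add]; exact e0 j hj0 hj
  have e3 : ¬ ((N : ℤ) ∣ 0 - (j : ℤ)) := by rw [zero_sub, dvd_neg]; exact e0 j hj0 hj
  have e4 : ((N : ℤ) ∣ (i : ℤ) + j) ↔ i + j = N := by
    constructor
    · intro h
      have h3 : N ∣ i + j := by exact_mod_cast h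
      obtain ⟨c, hc⟩ := h3
      have : c = 1 := by
        rcases Nat.lt_or_ge c 2 with h5 | h5
        · interval_cases c
          · omega
          · rfl
        · nlinarith
      subst this; omega
    · intro h; rw [← Nat.cast_add, h]
  have e5 : ((N : ℤ) ∣ (i : ℤ) - j) ↔ i = j := by
    constructor
    · intro h
      have h3 := Int.eq_zero_of_abs_lt_dvd h (by rw [abs_lt]; constructor <;> omega)
      omega
    · rintro rfl; simp
  have e6 : ((N : ℤ) ∣ -(i : ℤ) + j) ↔ i = j := by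
    rw [← e5, ← dvd_neg]; congr! 1; ring
  have e7 : ((N : ℤ) ∣ -(i : ℤ) - j) ↔ i + j = N := by
    rw [← e4, ← dvd_neg]; congr! 1; ring
  simp only [dvd_zero, if_true, if_neg e1, if_neg e2, if_neg e3, if_neg (e0 i hi0 hi), e4, e5, e6, e7]
  split_ifs <;> ring

end Cfsg.Agent.Lib.H52Dih2
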