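import Mathlib

/-!
# The lattice argument for the principal 2-block of dihedral type (helper52)
-/

set_option autoImplicit false

open Finset

namespace Cfsg.Agent.Lib.H52Dih3

variable {ι : Type*} [DecidableEq ι]

theorem card_support {s : Finset ι} {f : ι → ℤ} {n : ℕ} (hn : n ≤ 3) (h : ∑ i ∈ s, f i * f i = n) :
    (s.filter (fun i => f i ≠ 0)).card = n ∧ ∀ i ∈ s, f i = 0 ∨ f i = 1 ∨ f i = -1 := by
  have h1 : ∀ i ∈ s, f i = 0 ∨ f i = 1 ∨ f i = -1 := by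
    intro i hi
    have h2 : f i * f i ≤ n := by
      rw [← h]
      exact Finset.single_le_sum (f := fun i => f i * f i) (fun j _ => mul_self_nonneg (f j)) hi
    have h3 : (n : ℤ) ≤ 3 := by exact_mod_cast hn
    have h4 : f i < 2 := by nlinarith
    have h5 : -2 < f i := by nlinarith
    omega
  refine ⟨?_, h1⟩
  have h2 : ∑ i ∈ s, f i * f i = ∑ i ∈ s, if f i ≠ 0 then (1 : ℤ) else 0 := by
    refine Finset.sum_congr rfl fun i hi => ?_
    rcases h1 i hi with h | h | h <;> rw [h] <;> norm_num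
  rw [h2, ← Finset.sum_filter, Finset.sum_const, nsmul_eq_mul, mul_one] at h
  exact_mod_cast h

theorem sum_two {s : Finset ι} {f : ι → ℤ} {a b : ι} (ha : a ∈ s) (hb : b ∈ s) (hab : a ≠ b)
    (h0 : ∀ x ∈ s, x ≠ a → x ≠ b → f x = 0) : ∑ i ∈ s, f i = f a + f b := by
  have h1 : ∑ i ∈ s, f i = ∑ i ∈ ({a, b} : Finset ι), f i := by
    symm
    apply Finset.sum_subset
    · intro x hx
      rcases Finset.mem_insert.mp hx with rfl | hx
      · exact ha
      · rw [Finset.mem_singleton.mp hx]; exact hb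
    · intro x hx hx'
      apply h0 x hx
      · rintro rfl; exact hx' (by simp)
      · rintro rfl; exact hx' (by simp)
  rw [h1, Finset.sum_pair hab]

theorem sum_three {s : Finset ι} {f : ι → ℤ} {a b c : ι} (ha : a ∈ s) (hb : b ∈ s) (hc : c ∈ s)
    (hab : a ≠ b) (hac : a ≠ c) (hbc : b ≠ c)
    (h0 : ∀ x ∈ s, x ≠ a → x ≠ b → x ≠ c → f x = 0) : ∑ i ∈ s, f i = f a + f b + f c := by
  have h1 : ∑ i ∈ s, f i = ∑ i ∈ ({a, b, c} : Finset ι), f i := by
    symm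
    apply Finset.sum_subset
    · intro x hx
      simp only [Finset.mem_insert, Finset.mem_singleton] at hx
      rcases hx with rfl | rfl | rfl <;> assumption
    · intro x hx hx'
      simp only [Finset.mem_insert, Finset.mem_singleton, not_or] at hx'
      exact h0 x hx hx'.1 hx'.2.1 hx'.2.2
  rw [h1, Finset.sum_insert (by simp [hab, hac]), Finset.sum_pair hbc]
  ring

/-- The configuration. -/
structure Cfg (s : Finset ι) (w : ℕ → ι → ℤ) (d : ι → ℤ) (q : ℕ) : Prop where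
  hq : q = 2 ∨ 4 ≤ q
  h2 : ∀ j, 1 ≤ j → j < q → ∑ x ∈ s, w j x * w j x = 2
  h3 : ∑ x ∈ s, w q x * w q x = 3
  h1 : ∀ i j, 1 ≤ i → i ≤ q → 1 ≤ j → j ≤ q → i ≠ j → ∑ x ∈ s, w i x * w j x = 1
  hd : ∀ j, 1 ≤ j → j ≤ q → ∑ x ∈ s, w j x * d x = -1

variable {s : Finset ι} {w : ℕ → ι → ℤ} {d : ι → ℤ} {q : ℕ}

/-- description of `w j` -/
structure At (s : Finset ι) (w : ℕ → ι → ℤ) (q j : ℕ) (t o : ι) : Prop where
  ts : t ∈ s
  os : o ∈ s
  wt0 : w q t ≠ 0
  wo : w q o = 0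
  wt : w j t = w q t
  wj : w j o = 1 ∨ w j o = -1
  z : ∀ x ∈ s, x ≠ t → x ≠ o → w j x = 0

theorem At.ne {j : ℕ} {t o : ι} (h : At s w q j t o) : t ≠ o := by
  rintro rfl; exact h.wt0 h.wo

theorem Cfg.at (h : Cfg s w d q) {j : ℕ} (hj1 : 1 ≤ j) (hj : j < q) : ∃ t o, At s w q j t o := by
  obtain ⟨h1, h2⟩ := card_support (n := 2) (by norm_num) (h.h2 j hj1 hj)
  obtain ⟨-, h3⟩ := card_support (n := 3) (by norm_num) h.h3
  obtain ⟨a, b, hab, hs⟩ := Finset.card_eq_two.mp h1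
  have ha : a ∈ s.filter (fun i => w j i ≠ 0) := by rw [hs]; simp
  have hb : b ∈ s.filter (fun i => w j i ≠ 0) := by rw [hs]; simp
  rw [Finset.mem_filter] at ha hb
  have h0 : ∀ x ∈ s, x ≠ a → x ≠ b → w j x = 0 := by
    intro x hx hxa hxb
    by_contra hne
    have : x ∈ s.filter (fun i => w j i ≠ 0) := Finset.mem_filter.mpr ⟨hx, hne⟩
    rw [hs] at this
    simp only [Finset.mem_insert, Finset.mem_singleton] at this
    tauto
  have h4 := h.h1 j q hj1 hj.le (by omega) le_rfl hj.ne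
  rw [sum_two ha.1 hb.1 hab (fun x hx hxa hxb => by rw [h0 x hx hxa hxb, zero_mul])] at h4
  have ha2 := (h2 a ha.1).resolve_left ha.2
  have hb2 := (h2 b hb.1).resolve_left hb.2
  have ha3 := h3 a ha.1
  have hb3 := h3 b hb.1
  by_cases hc : w q a = 0
  · refine ⟨b, a, hb.1, ha.1, ?_, hc, ?_, ha2, fun x hx h5 h6 => h0 x hx h6 h5⟩
    · intro hq0
      rw [hc, hq0] at h4; norm_num at h4
    · rw [hc, mul_zero, zero_add] at h4
      rcases hb2 with e | e <;> rcases hb3 with e' | e' | e' <;> rw [e, e'] at h4 <;> omega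
  · have hbq : w q b = 0 := by
      by_contra hne
      rcases ha2 with e1 | e1 <;> rcases hb2 with e2 | e2 <;>
      rcases ha3 with e3 | e3 | e3 <;> rcases hb3 with e4 | e4 | e4 <;>
      rw [e1, e2, e3, e4] at h4 <;> omega
    refine ⟨a, b, ha.1, hb.1, hc, hbq, ?_, hb2, h0⟩
    rw [hbq, mul_zero, add_zero] at h4
    rcases ha2 with e | e <;> rcases ha3 with e' | e' | e' <;> rw [e, e'] at h4 <;> omega

theorem Cfg.ne_case (h : Cfg s w d q) {i j : ℕ} (hi1 : 1 ≤ i) (hi : i < q) (hj1 : 1 ≤ j) (hj : j < q)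
    {t o t' o' : ι} (A : At s w q i t o) (A' : At s w q j t' o') (hne : t ≠ t') (hij : i ≠ j) :
    o = o' ∧ w i o = w j o' ∧ w q t * d t = w q t' * d t' := by
  have h1 := h.h1 i j hi1 hi.le hj1 hj.le hij
  have hto' : t ≠ o' := by rintro rfl; exact A.wt0 A'.wo
  have hot' : o ≠ t' := by rintro rfl; exact A'.wt0 A.wo
  rw [sum_two A.ts A.os A.ne (fun x hx hxa hxb => by rw [A.z x hx hxa hxb, zero_mul]),
    A'.z t A.ts hne hto', mul_zero, zero_add] at h1
  have hoo : o = o' := by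
    by_contra hoo
    rw [A'.z o A.os hot' hoo, mul_zero] at h1
    norm_num at h1
  subst hoo
  have h2 : w i o = w j o := by
    rcases A.wj with e | e <;> rcases A'.wj with e' | e' <;> rw [e, e'] at h1 <;> omega
  refine ⟨rfl, h2, ?_⟩
  have h3 := h.hd i hi1 hi.le
  have h4 := h.hd j hj1 hj.le
  rw [sum_two A.ts A.os A.ne (fun x hx hxa hxb => by rw [A.z x hx hxa hxb, zero_mul]), A.wt] at h3
  rw [sum_two A'.ts A'.os A'.ne (fun x hx hxa hxb => by rw [A'.z x hx hxa hxb, zero_mul]), A'.wt] at h4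
  rw [h2] at h3
  linarith

theorem Cfg.eq_case (h : Cfg s w d q) {i j : ℕ} (hi1 : 1 ≤ i) (hi : i < q) (hj1 : 1 ≤ j) (hj : j < q)
    {t o o' : ι} (A : At s w q i t o) (A' : At s w q j t o') (hij : i ≠ j) : o ≠ o' := by
  rintro rfl
  have h1 := h.h1 i j hi1 hi.le hj1 hj.le hij
  rw [sum_two A.ts A.os A.ne (fun x hx hxa hxb => by rw [A.z x hx hxa hxb, zero_mul]), A.wt, A'.wt] at h1
  obtain ⟨-, h3⟩ := card_support (n := 3) (by norm_num) h.h3
  have h4 := (h3 t A.ts).resolve_left A.wt0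
  rcases h4 with e | e <;> rcases A.wj with e' | e' <;> rcases A'.wj with e'' | e'' <;>
    rw [e, e', e''] at h1 <;> omega

theorem Cfg.t_eq (h : Cfg s w d q) {i j : ℕ} (hi1 : 1 ≤ i) (hi : i < q) (hj1 : 1 ≤ j) (hj : j < q)
    {t o t' o' : ι} (A : At s w q i t o) (A' : At s w q j t' o') : t = t' := by
  by_contra hne
  have hij : i ≠ j := by
    rintro rfl
    -- same index, different t
    have h1 : w i t' ≠ 0 := by rw [A'.wt]; exact A'.wt0
    apply h1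
    apply A.z t' A'.ts (Ne.symm hne)
    rintro rfl; exact A'.wt0 A.wo
  have hq4 : 4 ≤ q := by
    rcases h.hq with e | e
    · omega
    · exact e
  -- a third index
  obtain ⟨k, hk1, hk, hki, hkj⟩ : ∃ k, 1 ≤ k ∧ k < q ∧ k ≠ i ∧ k ≠ j := by
    by_cases a1 : 1 ≠ i ∧ 1 ≠ j
    · exact ⟨1, le_rfl, by omega, a1.1, a1.2⟩
    · by_cases a2 : 2 ≠ i ∧ 2 ≠ j
      · exact ⟨2, by omega, by omega, a2.1, a2.2⟩
      · exact ⟨3, by omega, by omega, by omega, by omega⟩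
  obtain ⟨t'', o'', A''⟩ := h.at hk1 hk
  obtain ⟨e1, e2, e3⟩ := h.ne_case hi1 hi hj1 hj A A' hne hij
  by_cases c1 : t'' = t
  · subst c1
    have e4 := h.ne_case hk1 hk hj1 hj A'' A' hne hkj
    exact h.eq_case hk1 hk hi1 hi A'' A hki (e4.1.trans e1.symm)
  by_cases c2 : t'' = t'
  · subst c2
    have e4 := h.ne_case hk1 hk hi1 hi A'' A (Ne.symm hne) hki
    exact h.eq_case hk1 hk hj1 hj A'' A' hkj (e4.1.trans e1)
  have e4 := h.ne_case hk1 hk hi1 hi A'' A c1 hki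
  have h3 := h.hd q (by omega) le_rfl
  obtain ⟨h5, -⟩ := card_support (n := 3) (by norm_num) h.h3
  have hT : s.filter (fun x => w q x ≠ 0) = {t, t', t''} := by
    symm
    apply Finset.eq_of_subset_of_card_le
    · intro x hx
      simp only [Finset.mem_insert, Finset.mem_singleton] at hx
      rw [Finset.mem_filter]
      rcases hx with rfl | rfl | rfl
      · exact ⟨A.ts, A.wt0⟩
      · exact ⟨A'.ts, A'.wt0⟩
      · exact ⟨A''.ts, A''.wt0⟩
    · rw [h5, Finset.card_insert_of_notMem (by simp [hne, Ne.symm c1]), Finset.card_pair (Ne.symm c2)]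
  rw [sum_three A.ts A'.ts A''.ts hne (Ne.symm c1) (Ne.symm c2)] at h3
  · have := e4.2.2
    omega
  · intro x hx h6 h7 h8
    by_contra hne0
    have h9 : x ∈ s.filter (fun x => w q x ≠ 0) :=
      Finset.mem_filter.mpr ⟨hx, fun h0 => hne0 (by rw [h0, zero_mul])⟩
    rw [hT] at h9
    simp only [Finset.mem_insert, Finset.mem_singleton] at h9
    tauto

theorem Cfg.main (h : Cfg s w d q) : ∃ (a b c : ι) (o : ℕ → ι) (δ : ℤ), a ∈ s ∧ b ∈ s ∧ c ∈ s ∧
    a ≠ b ∧ a ≠ c ∧ b ≠ c ∧ (δ = 1 ∨ δ = -1) ∧ w q a = δ ∧ (w q b = 1 ∨ w q b = -1) ∧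
    (w q c = 1 ∨ w q c = -1) ∧ (∀ x ∈ s, x ≠ a → x ≠ b → x ≠ c → w q x = 0) ∧
    (∀ j, 1 ≤ j → j < q → o j ∈ s ∧ o j ≠ a ∧ o j ≠ b ∧ o j ≠ c ∧ w j a = δ ∧
      (w j (o j) = 1 ∨ w j (o j) = -1) ∧ ∀ x ∈ s, x ≠ a → x ≠ o j → w j x = 0) ∧
    (∀ i j, 1 ≤ i → i < q → 1 ≤ j → j < q → i ≠ j → o i ≠ o j) := by
  classical
  have hq1 : 1 < q := by rcases h.hq with e | e <;> omega
  obtain ⟨a, o1, A⟩ := h.at le_rfl hq1
  obtain ⟨h5, h6⟩ := card_support (n := 3) (by norm_num) h.h3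
  have haT : a ∈ s.filter (fun x => w q x ≠ 0) := Finset.mem_filter.mpr ⟨A.ts, A.wt0⟩
  have h7 : ((s.filter (fun x => w q x ≠ 0)).erase a).card = 2 := by
    rw [Finset.card_erase_of_mem haT, h5]
  obtain ⟨b, c, hbc, hT⟩ := Finset.card_eq_two.mp h7
  have hb : b ∈ (s.filter (fun x => w q x ≠ 0)).erase a := by rw [hT]; simp
  have hc : c ∈ (s.filter (fun x => w q x ≠ 0)).erase a := by rw [hT]; simp
  rw [Finset.mem_erase, Finset.mem_filter] at hb hc
  have hex : ∀ j, ∃ o, 1 ≤ j → j < q → At s w q j a o := by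
    intro j
    by_cases hj : 1 ≤ j ∧ j < q
    · obtain ⟨t, o, A'⟩ := h.at hj.1 hj.2
      have := h.t_eq le_rfl hq1 hj.1 hj.2 A A'
      subst this
      exact ⟨o, fun _ _ => A'⟩
    · exact ⟨a, fun h1 h2 => absurd ⟨h1, h2⟩ hj⟩
  choose o ho using hex
  refine ⟨a, b, c, o, w q a, A.ts, hb.2.1, hc.2.1, Ne.symm hb.1, Ne.symm hc.1, hbc,
    (h6 a A.ts).resolve_left A.wt0, rfl, (h6 b hb.2.1).resolve_left hb.2.2,
    (h6 c hc.2.1).resolve_left hc.2.2, ?_, ?_, ?_⟩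
  · intro x hx h8 h9 h10
    by_contra hne
    have : x ∈ (s.filter (fun x => w q x ≠ 0)).erase a :=
      Finset.mem_erase.mpr ⟨h8, Finset.mem_filter.mpr ⟨hx, hne⟩⟩
    rw [hT] at this
    simp only [Finset.mem_insert, Finset.mem_singleton] at this
    tauto
  · intro j h1 h2
    have A' := ho j h1 h2
    refine ⟨A'.os, Ne.symm A'.ne, ?_, ?_, A'.wt, A'.wj, A'.z⟩
    · intro he; exact hb.2.2 (he ▸ A'.wo)
    · intro he; exact hc.2.2 (he ▸ A'.wo)
  · intro i j h1 h2 h3 h4 hij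
    exact h.eq_case h1 h2 h3 h4 (ho i h1 h2) (ho j h3 h4) hij

end Cfsg.Agent.Lib.H52Dih3
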