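import Mathlib
import Cfsg.Agent.Lib.H52Dih1
import Cfsg.Agent.Lib.H52Dih2
import Cfsg.Agent.Lib.BlockColumn

/-!
# Columns of the principal 2-block at powers of the rotation (helper52)
-/

set_option autoImplicit false

open Subgroup
open scoped Pointwise

namespace Cfsg.Agent.Lib.H52Dih4

open Cfsg Cfsg.Agent.Lib.DihSylow Cfsg.Agent.Lib.H52Dih1 Cfsg.Agent.Lib.BlockColumn
open scoped ComplexConjugate

universe u

variable {G : Type u} [Group G] [Finite G] {S : Sylow 2 G} {x y : G} {q n : ℕ}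

section Fusion

variable (h : DH (S : Subgroup G) x y q n)
include h

theorem S_comm : ∀ s ∈ (S : Subgroup G), s * x ^ (q : ℤ) = x ^ (q : ℤ) * s :=
  fun _ hs => (h.z_comm hs).symm

theorem exists_pow_z {g : G} {i j : ℤ} (hi : x ^ i ≠ 1) (hg : g * x ^ i * g⁻¹ = x ^ j) :
    g * x ^ (q : ℤ) = x ^ (q : ℤ) * g := by
  have hx2 : orderOf x = 2 ^ (n + 1) := by rw [h.hx, h.hq, pow_succ]; ring
  have h1 : orderOf (x ^ i) ∣ 2 ^ (n + 1) := by
    rw [← hx2]
    apply orderOf_dvd_of_pow_eq_one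
    rw [← zpow_natCast, ← zpow_mul, mul_comm, zpow_mul, zpow_natCast, pow_orderOf_eq_one, one_zpow]
  obtain ⟨r, -, hr⟩ := (Nat.dvd_prime_pow Nat.prime_two).mp h1
  have hr0 : r ≠ 0 := by
    rintro rfl
    rw [pow_zero, orderOf_eq_one_iff] at hr
    exact hi hr
  obtain ⟨s, rfl⟩ := Nat.exists_eq_succ_of_ne_zero hr0
  have hw : ∀ k : ℤ, orderOf (x ^ k) = 2 ^ (s + 1) → (x ^ k) ^ 2 ^ s = x ^ (q : ℤ) := by
    intro k hk
    have e : (x ^ k) ^ 2 ^ s = x ^ (k * ((2 ^ s : ℕ) : ℤ)) := by rw [zpow_mul, zpow_natCast]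
    rw [e]
    apply h.eq_z_of_sq
    · rw [← e, ← pow_add, ← two_mul, ← pow_succ', ← hk, pow_orderOf_eq_one]
    · rw [← e]
      intro h2
      have := orderOf_dvd_of_pow_eq_one h2
      rw [hk] at this
      have := Nat.le_of_dvd (by positivity) this
      rw [pow_succ] at this
      have : 0 < 2 ^ s := by positivity
      omega
  have hj : orderOf (x ^ j) = 2 ^ (s + 1) := by
    rw [← hg]
    exact (BlockThird.orderOf_conj (x ^ i) g).trans hr
  have h3 := hw i hr
  have h4 := hw j hj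
  have h5 : g * (x ^ i) ^ 2 ^ s * g⁻¹ = (x ^ j) ^ 2 ^ s := by
    rw [← hg, conj_pow]
  rw [h3, h4] at h5
  exact mul_inv_eq_iff_eq_mul.mp h5

theorem conj_cases {K : Subgroup G} (c : Comp S (x ^ (q : ℤ)) K) {g : G} {i j : ℤ} (hi : x ^ i ≠ 1)
    (hg : g * x ^ i * g⁻¹ = x ^ j) : x ^ j = x ^ i ∨ x ^ j = x ^ (-i) := by
  have h1 := exists_pow_z h hi hg
  obtain ⟨s, hs, hs2⟩ := c.conj_eq (S_comm h) h1 (h.xpow_mem i) (h.xpow_mem j) hg
  rcases h.exists_rep hs with ⟨k, rfl⟩ | ⟨k, rfl⟩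
  · left
    rw [← hs2, ← zpow_add, ← zpow_neg, ← zpow_add]
    congr 1; ring
  · right
    rw [← hs2]
    calc x ^ k * y * x ^ i * (x ^ k * y)⁻¹ = x ^ k * (y * x ^ i * y⁻¹) * (x ^ k)⁻¹ := by group
      _ = x ^ (-i) := by
        rw [h.y_conj, ← zpow_add, ← zpow_neg, ← zpow_add]
        congr 1; ring

theorem isConj_neg (i : ℤ) : IsConj (x ^ i) (x ^ (-i)) := isConj_iff.mpr ⟨y, h.y_conj i⟩

theorem isConj_iff_pow {K : Subgroup G} (c : Comp S (x ^ (q : ℤ)) K) {l m : ℕ} (hl0 : 0 < l)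
    (hl : l < 2 * q) (hm : m < 2 * q) :
    IsConj (x ^ l) (x ^ m) ↔ m = l ∨ m = 2 * q - l := by
  have hz : ∀ k : ℕ, x ^ k = x ^ (k : ℤ) := fun k => (zpow_natCast x k).symm
  have hne : x ^ (l : ℤ) ≠ 1 := by
    rw [Ne, h.zpow_eq_one_iff]
    intro hd
    have : 2 * q ∣ l := by exact_mod_cast hd
    have := Nat.le_of_dvd hl0 this
    omega
  constructor
  · intro hc
    obtain ⟨g, hg⟩ := isConj_iff.mp hc
    rw [hz, hz] at hg
    rcases conj_cases h c hne hg with h1 | h1
    · left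
      rw [h.zpow_eq_iff] at h1
      have h3 := Int.eq_zero_of_abs_lt_dvd h1 (by rw [abs_lt]; constructor <;> omega)
      omega
    · right
      rw [h.zpow_eq_iff, sub_neg_eq_add] at h1
      have h3 : 2 * q ∣ m + l := by exact_mod_cast h1
      obtain ⟨c, hc⟩ := h3
      have : c = 1 := by
        rcases Nat.lt_or_ge c 2 with h5 | h5
        · interval_cases c
          · omega
          · rfl
        · nlinarith
      subst this; omega
  · rintro (rfl | rfl)
    · exact IsConj.refl _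
    · have h1 := isConj_neg h (l : ℤ)
      have h2 : x ^ (-(l : ℤ)) = x ^ (2 * q - l) := by
        rw [hz, h.zpow_eq_iff, Nat.cast_sub hl.le]
        exact ⟨-1, by push_cast; ring⟩
      rw [hz, ← h2]; exact h1

open scoped Classical in
theorem inter_card {i : ℤ} (hi : x ^ i ≠ 1) :
    Nat.card ↥((S : Subgroup G) ⊓ centralizer ({x ^ i} : Set G)) =
      if x ^ i = x ^ (q : ℤ) then 4 * q else 2 * q := by
  split_ifs with hz
  · rw [← h.card]
    have : (S : Subgroup G) ⊓ centralizer ({x ^ i} : Set G) = S := by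
      apply inf_eq_left.mpr
      intro s hs
      rw [Subgroup.mem_centralizer_singleton_iff, hz]
      exact S_comm h s hs
    rw [this]
  · rw [← h.card_zpowers]
    have : (S : Subgroup G) ⊓ centralizer ({x ^ i} : Set G) = zpowers x := by
      apply le_antisymm
      · rintro s ⟨hs, hc⟩
        have hc' := Subgroup.mem_centralizer_singleton_iff.mp hc
        rcases h.exists_rep hs with ⟨k, rfl⟩ | ⟨k, rfl⟩
        · exact zpow_mem (mem_zpowers x) k
        · exfalso
          apply hz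
          apply h.eq_z_of_sq _ hi
          have h1 : x ^ k * y * x ^ i * (x ^ k * y)⁻¹ = x ^ (-i) := by
            calc x ^ k * y * x ^ i * (x ^ k * y)⁻¹ = x ^ k * (y * x ^ i * y⁻¹) * (x ^ k)⁻¹ := by group
              _ = x ^ (-i) := by
                rw [h.y_conj, ← zpow_add, ← zpow_neg, ← zpow_add]
                congr 1; ring
          have h2 : x ^ k * y * x ^ i * (x ^ k * y)⁻¹ = x ^ i := by rw [hc']; group
          rw [h2] at h1
          nth_rw 1 [h1]
          rw [← zpow_add]; simp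
      · rintro _ ⟨k, rfl⟩
        refine ⟨h.xpow_mem k, ?_⟩
        show x ^ k ∈ centralizer ({x ^ i} : Set G)
        rw [Subgroup.mem_centralizer_singleton_iff, ← zpow_add, ← zpow_add, add_comm]
    rw [this]

omit h in
theorem centralizer_comp {K : Subgroup G} {z : G} (c : Comp S z K)
    (hS : ∀ s ∈ (S : Subgroup G), s * z = z * s) {u : G} (hu : u ∈ (S : Subgroup G))
    (huz : ∀ g, g * u = u * g → g * z = z * g) :
    ((K.subgroupOf (centralizer ({u} : Set G))).Normal) ∧
      ¬ 2 ∣ Nat.card (K.subgroupOf (centralizer ({u} : Set G))) ∧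
      (K.subgroupOf (centralizer ({u} : Set G))).index =
        Nat.card ↥((S : Subgroup G) ⊓ centralizer ({u} : Set G)) := by
  have hmem : ∀ g, g ∈ centralizer ({u} : Set G) ↔ g * u = u * g := fun g =>
    Subgroup.mem_centralizer_singleton_iff
  have hnorm : (K.subgroupOf (centralizer ({u} : Set G))).Normal := by
    constructor
    intro k hk g
    rw [Subgroup.mem_subgroupOf] at hk ⊢
    exact c.norm g (huz g ((hmem g).1 g.2)) k hk
  have hodd : ¬ 2 ∣ Nat.card (K.subgroupOf (centralizer ({u} : Set G))) := by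
    intro h2
    apply c.odd
    have h3 : Nat.card (K.subgroupOf (centralizer ({u} : Set G))) =
        Nat.card ↥(K ⊓ centralizer ({u} : Set G)) := by
      rw [← Subgroup.subgroupOf_map_subtype]
      exact Nat.card_congr ((K.subgroupOf (centralizer ({u} : Set G))).equivMapOfInjective _
        (centralizer ({u} : Set G)).subtype_injective).toEquiv
    rw [h3] at h2
    exact h2.trans (Subgroup.card_dvd_of_le inf_le_left)
  refine ⟨hnorm, hodd, ?_⟩
  set C := centralizer ({u} : Set G) with hC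
  have hdis : Disjoint (K.subgroupOf C) ((S : Subgroup G).subgroupOf C) := by
    rw [disjoint_iff_inf_le]
    rintro k ⟨hk1, hk2⟩
    exact Subgroup.mem_bot.mpr (Subtype.ext (c.disj _ hk1 hk2))
  have huniv : ((K.subgroupOf C : Subgroup C) : Set C) * ((S : Subgroup G).subgroupOf C : Set C) =
      Set.univ := by
    rw [Set.eq_univ_iff_forall]
    intro g
    obtain ⟨k, hk, s, hs, hg, hku, hsu⟩ := c.fac_comm hS (huz g ((hmem g).1 g.2)) hu ((hmem g).1 g.2)
    exact ⟨⟨k, (hmem k).2 hku⟩, hk, ⟨s, (hmem s).2 hsu⟩, hs, Subtype.ext hg.symm⟩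
  have hcomp := Subgroup.isComplement'_of_disjoint_and_mul_eq_univ hdis huniv
  rw [hcomp.symm.index_eq_card]
  have h4 : Nat.card ((S : Subgroup G).subgroupOf C) = Nat.card ↥((S : Subgroup G) ⊓ C) := by
    rw [← Subgroup.subgroupOf_map_subtype]
    exact Nat.card_congr (((S : Subgroup G).subgroupOf C).equivMapOfInjective _
      C.subtype_injective).toEquiv
  exact h4

end Fusion

section Columns

variable {M : Ideal AlgInt}

theorem lamB_of_complement (hM : IsPModular 2 M) {X : Type u} [Group X] [Finite X]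
    (N : Subgroup X) (hN : N.Normal) (hodd : ¬ 2 ∣ Nat.card N) {k : ℕ} (hk : N.index = 2 ^ k) :
    lamB M X = 2 ^ k := by
  have h1 : ¬ 2 ∣ orderOf (1 : X) := by rw [orderOf_one]; norm_num
  have h2 := BlockSection.sum_principal_of_normal_complement hM hodd hk h1 h1
  have h3 : (lamB M X : ℂ) = (2 : ℂ) ^ k := by
    rw [lamB, finsum_mem_eq_finite_toFinset_sum _ (Set.toFinite _)]
    rw [finsum_mem_eq_finite_toFinset_sum _ (Set.toFinite _)] at h2
    push_cast at h2 ⊢
    rw [← h2]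
    refine Finset.sum_congr rfl fun ψ _ => ?_
    rw [← BlockDeg.charDegree_cast_irr, Complex.conj_natCast, sq]
  exact_mod_cast h3

open scoped Classical in
theorem lamB_pow (hM : IsPModular 2 M) (h : DH (S : Subgroup G) x y q n) {K : Subgroup G}
    (c : Comp S (x ^ (q : ℤ)) K) {i : ℤ} (hi : x ^ i ≠ 1) :
    lamB M ↥(centralizer ({x ^ i} : Set G)) = if x ^ i = x ^ (q : ℤ) then 4 * q else 2 * q := by
  obtain ⟨h1, h2, h3⟩ := centralizer_comp c (S_comm h) (h.xpow_mem i) (fun g hg => by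
    refine exists_pow_z h hi (j := i) ?_
    rw [hg]; group)
  rw [inter_card h hi] at h3
  rw [← h3]
  have h4 : ∃ k, (K.subgroupOf (centralizer ({x ^ i} : Set G))).index = 2 ^ k := by
    rw [h3, h.hq]
    split_ifs
    · exact ⟨n + 2, by rw [pow_add]; ring⟩
    · exact ⟨n + 1, by rw [pow_add]; ring⟩
  obtain ⟨k, hk⟩ := h4
  rw [hk]
  exact lamB_of_complement hM _ h1 h2 hk

/-- The values on powers of `x` are real. -/
theorem conj_val (h : DH (S : Subgroup G) x y q n) (χ : IrrCharacter G) (l : ℕ) :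
    conj ((χ : G → ℂ) (x ^ l)) = (χ : G → ℂ) (x ^ l) := by
  rw [← χ.2.isCharacter.inv]
  have h1 := isConj_neg h (l : ℤ)
  rw [zpow_neg, zpow_natCast] at h1
  exact (χ.2.isClassFunction.conj_eq h1).symm

theorem val_symm (h : DH (S : Subgroup G) x y q n) (χ : IrrCharacter G) {l : ℕ} (hl : l ≤ 2 * q) :
    (χ : G → ℂ) (x ^ (2 * q - l)) = (χ : G → ℂ) (x ^ l) := by
  have h1 := isConj_neg h (l : ℤ)
  have h2 : x ^ (-(l : ℤ)) = x ^ (2 * q - l) := by
    rw [← zpow_natCast, h.zpow_eq_iff, Nat.cast_sub hl]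
    exact ⟨-1, by push_cast; ring⟩
  rw [h2, zpow_natCast] at h1
  exact (χ.2.isClassFunction.conj_eq h1).symm

open scoped Classical in
theorem column (hM : IsPModular 2 M) (h : DH (S : Subgroup G) x y q n) {K : Subgroup G}
    (c : Comp S (x ^ (q : ℤ)) K) {l m : ℕ} (hl0 : 0 < l) (hl : l < 2 * q) (hm : m < 2 * q) :
    ∑ χ ∈ (Set.toFinite (principalBlock M G)).toFinset, (χ : G → ℂ) (x ^ l) * (χ : G → ℂ) (x ^ m) =
      if m = l ∨ m = 2 * q - l then ((if l = q then 4 * q else 2 * q : ℕ) : ℂ) else 0 := by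
  have hord : ∀ k : ℕ, ∃ r, orderOf (x ^ k) = 2 ^ r := by
    intro k
    have hx2 : orderOf x = 2 ^ (n + 1) := by rw [h.hx, h.hq, pow_succ]; ring
    have h1 : orderOf (x ^ k) ∣ 2 ^ (n + 1) := by rw [← hx2]; exact orderOf_pow_dvd k
    obtain ⟨r, -, hr⟩ := (Nat.dvd_prime_pow Nat.prime_two).mp h1
    exact ⟨r, hr⟩
  obtain ⟨r, hr⟩ := hord l
  obtain ⟨r', hr'⟩ := hord m
  have h1 := column_principal hM hr hr'
  rw [finsum_mem_eq_finite_toFinset_sum _ (Set.toFinite _)] at h1
  have h2 : ∑ χ ∈ (Set.toFinite (principalBlock M G)).toFinset,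
      (χ : G → ℂ) (x ^ l) * (χ : G → ℂ) (x ^ m) = ∑ χ ∈ (Set.toFinite (principalBlock M G)).toFinset,
      (χ : G → ℂ) (x ^ l) * conj ((χ : G → ℂ) (x ^ m)) :=
    Finset.sum_congr rfl fun χ _ => by rw [conj_val h]
  rw [h2, h1]
  have hne : x ^ (l : ℤ) ≠ 1 := by
    rw [Ne, h.zpow_eq_one_iff]
    intro hd
    have : 2 * q ∣ l := by exact_mod_cast hd
    have := Nat.le_of_dvd hl0 this
    omega
  have h3 := lamB_pow hM h c hne
  have h4 : x ^ (l : ℤ) = x ^ (q : ℤ) ↔ l = q := by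
    constructor
    · intro h5
      rw [h.zpow_eq_iff] at h5
      have h3 := Int.eq_zero_of_abs_lt_dvd h5 (by rw [abs_lt]; constructor <;> omega)
      omega
    · rintro rfl; rfl
  simp only [h4] at h3
  rw [zpow_natCast] at h3
  rw [h3]
  simp only [isConj_iff_pow h c hl0 hl hm]

end Columns

end Cfsg.Agent.Lib.H52Dih4
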