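import Mathlib
import Cfsg.Agent.Lib.H52Dih3
import Cfsg.Agent.Lib.H52Dih4
import Cfsg.Agent.Lib.BlockOsima
import Cfsg.Agent.Lib.BlockThird
import Cfsg.Agent.Lib.CharValues

/-!
# The principal 2-block of a group with dihedral Sylow 2-subgroups (helper52)
-/

set_option autoImplicit false

open Finset

namespace Cfsg.Agent.Lib.H52Dih5

open Cfsg Cfsg.Agent.Lib.DihSylow Cfsg.Agent.Lib.H52Dih1 Cfsg.Agent.Lib.H52Dih2
open Cfsg.Agent.Lib.H52Dih3 Cfsg.Agent.Lib.H52Dih4 Cfsg.Agent.Lib.BlockRing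
open Cfsg.Agent.Lib.BlockThird
open scoped ComplexConjugate

universe u

variable {G : Type u} [Group G] [Finite G] {S : Sylow 2 G} {x y : G} {q n : ℕ} {M : Ideal AlgInt}
variable {ζ : ℂ}

/-- the principal block as a finset -/
noncomputable abbrev PB (M : Ideal AlgInt) (G : Type u) [Group G] [Finite G] : Finset (IrrCharacter G) :=
  (Set.toFinite (principalBlock M G)).toFinset

theorem mem_PB {χ : IrrCharacter G} : χ ∈ PB M G ↔ χ ∈ principalBlock M G := by
  simp [PB]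

/-- Fourier coefficients of the restriction to `⟨x⟩` -/
noncomputable def W (q : ℕ) (ζ : ℂ) (x : G) (χ : IrrCharacter G) (j : ℕ) : ℂ :=
  cc (2 * q) ζ (fun l => (χ : G → ℂ) (x ^ l)) j

open scoped Classical in
theorem inner_sum (hq : 0 < q) (hζ : IsPrimitiveRoot ζ (2 * q)) (j : ℕ) {l : ℕ} (hl0 : 0 < l)
    (hl : l < 2 * q) :
    ∑ m ∈ range (2 * q), (if m = l ∨ m = 2 * q - l then ((if l = q then 4 * q else 2 * q : ℕ) : ℂ)
      else 0) * κ ζ j m = 4 * q * κ ζ j l := by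
  have hN : 0 < 2 * q := by omega
  by_cases h : l = q
  · subst h
    have h1 : ∀ m, (m = l ∨ m = 2 * l - l) ↔ m = l := by intro m; omega
    simp only [h1, if_true, ite_mul, zero_mul]
    rw [Finset.sum_ite_eq', if_pos (Finset.mem_range.mpr hl)]
    push_cast; ring
  · have h1 : ∀ m ∈ range (2 * q), (if m = l ∨ m = 2 * q - l then ((if l = q then 4 * q else 2 * q : ℕ) : ℂ)
      else 0) * κ ζ j m = (if m = l then (2 * q : ℂ) * κ ζ j m else 0) +
        (if m = 2 * q - l then (2 * q : ℂ) * κ ζ j m else 0) := by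
      intro m _
      rw [if_neg h]
      by_cases h2 : m = l
      · rw [if_pos (Or.inl h2), if_pos h2, if_neg (by omega)]; push_cast; ring
      · by_cases h3 : m = 2 * q - l
        · rw [if_pos (Or.inr h3), if_neg h2, if_pos h3]; push_cast; ring
        · rw [if_neg (by tauto), if_neg h2, if_neg h3]; ring
    rw [Finset.sum_congr rfl h1, Finset.sum_add_distrib, Finset.sum_ite_eq', Finset.sum_ite_eq',
      if_pos (Finset.mem_range.mpr hl), if_pos (Finset.mem_range.mpr (by omega)),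
      κ_symm hN hζ j hl.le]
    ring

open scoped Classical in
theorem gram (hM : IsPModular 2 M) (h : DH (S : Subgroup G) x y q n) {K : Subgroup G}
    (c : Comp S (x ^ (q : ℤ)) K) (hζ : IsPrimitiveRoot ζ (2 * q)) {i j : ℕ} (hi0 : 0 < i)
    (hi : i < 2 * q) (hj0 : 0 < j) (hj : j < 2 * q) :
    ∑ χ ∈ PB M G, W q ζ x χ i * W q ζ x χ j =
      2 + (if i = j then 1 else 0) + (if i + j = 2 * q then 1 else 0) := by
  have hq := h.q_pos
  have hq0 : (q : ℂ) ≠ 0 := by exact_mod_cast hq.ne'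
  have hN : 0 < 2 * q := by omega
  have h1 : ∀ χ : IrrCharacter G, W q ζ x χ i * W q ζ x χ j =
      ∑ l ∈ range (2 * q), ∑ m ∈ range (2 * q), ((2 * q : ℕ) : ℂ)⁻¹ ^ 2 * κ ζ i l *
        (((χ : G → ℂ) (x ^ l) * (χ : G → ℂ) (x ^ m)) * κ ζ j m) := by
    intro χ
    unfold W cc
    rw [mul_mul_mul_comm, Finset.sum_mul_sum, ← sq, Finset.mul_sum]
    refine Finset.sum_congr rfl fun l _ => ?_
    rw [Finset.mul_sum]
    refine Finset.sum_congr rfl fun m _ => ?_
    ring
  simp only [h1]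
  rw [Finset.sum_comm]
  have h2 : ∀ l ∈ range (2 * q), ∑ χ ∈ PB M G, ∑ m ∈ range (2 * q), ((2 * q : ℕ) : ℂ)⁻¹ ^ 2 * κ ζ i l *
        (((χ : G → ℂ) (x ^ l) * (χ : G → ℂ) (x ^ m)) * κ ζ j m) =
      ((2 * q : ℕ) : ℂ)⁻¹ ^ 2 * (4 * q) * (κ ζ i l * κ ζ j l) := by
    intro l hl
    have hl' := Finset.mem_range.mp hl
    rw [Finset.sum_comm]
    rcases Nat.eq_zero_or_pos l with rfl | hl0
    · simp
    · have h3 : ∀ m ∈ range (2 * q), ∑ χ ∈ PB M G, ((2 * q : ℕ) : ℂ)⁻¹ ^ 2 * κ ζ i l *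
        (((χ : G → ℂ) (x ^ l) * (χ : G → ℂ) (x ^ m)) * κ ζ j m) =
        ((2 * q : ℕ) : ℂ)⁻¹ ^ 2 * κ ζ i l * ((if m = l ∨ m = 2 * q - l then
          ((if l = q then 4 * q else 2 * q : ℕ) : ℂ) else 0) * κ ζ j m) := by
        intro m hm
        rw [← Finset.mul_sum, ← Finset.sum_mul]
        congr 2
        exact column hM h c hl0 hl' (Finset.mem_range.mp hm)
      rw [Finset.sum_congr rfl h3, ← Finset.mul_sum, inner_sum hq hζ j hl0 hl']
      ring
  rw [Finset.sum_congr rfl h2, ← Finset.mul_sum, sum_κ_mul hN hζ i j hi0 hi hj0 hj]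
  push_cast
  field_simp
  ring

theorem W_int (h : DH (S : Subgroup G) x y q n) (hζ : IsPrimitiveRoot ζ (2 * q))
    (χ : IrrCharacter G) (j : ℕ) : ∃ a : ℤ, W q ζ x χ j = a := by
  obtain ⟨d, ρ, -, hρ⟩ := χ.2
  obtain ⟨μ, h1, h2⟩ := CharValues.exists_eigenvalues ρ x
  have hq := h.q_pos
  refine cc_int (by omega) hζ μ (fun i => ?_) _ (fun l => ?_) (fun l hl => ?_) j
  · rw [← h.hx]; exact h1 i
  · show (χ : G → ℂ) (x ^ l) = _
    rw [← hρ]; exact h2 l
  · exact val_symm h χ hl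

/-- orthogonality with `2`-regular elements -/
theorem reg_sum (hM : IsPModular 2 M) (h : DH (S : Subgroup G) x y q n) {ρ : G}
    (hρ : ¬ 2 ∣ orderOf ρ) (j : ℕ) :
    ∑ χ ∈ PB M G, W q ζ x χ j * (χ : G → ℂ) ρ = 0 := by
  have hq := h.q_pos
  have h1 : ∀ l ∈ range (2 * q), ∑ χ ∈ PB M G, ((χ : G → ℂ) (x ^ l) * (χ : G → ℂ) ρ) * κ ζ j l = 0 := by
    intro l hl
    rcases Nat.eq_zero_or_pos l with rfl | hl0
    · simp
    · rw [← Finset.sum_mul]
      have h2 : 2 ∣ orderOf (x ^ l) := by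
        have hl' := Finset.mem_range.mp hl
        have hx2 : orderOf x = 2 ^ (n + 1) := by rw [h.hx, h.hq, pow_succ]; ring
        have h1 : orderOf (x ^ l) ∣ 2 ^ (n + 1) := by rw [← hx2]; exact orderOf_pow_dvd l
        obtain ⟨r, -, hr⟩ := (Nat.dvd_prime_pow Nat.prime_two).mp h1
        rcases Nat.eq_zero_or_pos r with rfl | hr0
        · exfalso
          rw [pow_zero, orderOf_eq_one_iff] at hr
          have := orderOf_dvd_of_pow_eq_one hr
          rw [h.hx] at this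
          exact absurd (Nat.le_of_dvd hl0 this) (by omega)
        · rw [hr]; exact dvd_pow_self 2 hr0.ne'
      have h3 := BlockOsima.weak_orthogonality hM (B := principalBlock M G) isPBlock_principal hρ h2
      rw [finsum_mem_eq_finite_toFinset_sum _ (Set.toFinite _)] at h3
      have h4 : ∑ χ ∈ PB M G, (χ : G → ℂ) (x ^ l) * (χ : G → ℂ) ρ = 0 := by
        rw [← h3]
        refine Finset.sum_congr rfl fun χ _ => ?_
        rw [conj_val h, mul_comm]
      rw [h4, zero_mul]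
  have h2 : ∑ χ ∈ PB M G, W q ζ x χ j * (χ : G → ℂ) ρ =
      ((2 * q : ℕ) : ℂ)⁻¹ * ∑ l ∈ range (2 * q), ∑ χ ∈ PB M G,
        ((χ : G → ℂ) (x ^ l) * (χ : G → ℂ) ρ) * κ ζ j l := by
    rw [Finset.sum_comm, Finset.mul_sum]
    refine Finset.sum_congr rfl fun χ _ => ?_
    unfold W cc
    rw [mul_assoc, Finset.sum_mul]
    congr 1
    refine Finset.sum_congr rfl fun l _ => ?_
    ring
  rw [h2, Finset.sum_congr rfl h1]
  simp

/-- Members of the principal block do not vanish at the central involution of a Sylow 2-subgroup. -/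
theorem ne_zero_of_mem (hM : IsPModular 2 M) {z : G} (hz : ∀ s ∈ (S : Subgroup G), s * z = z * s)
    {χ : IrrCharacter G} (hχ : χ ∈ principalBlock M G) : (χ : G → ℂ) z ≠ 0 := by
  haveI := isPrime hM
  intro h0
  have h1 := hχ z
  have h2 : centralChar (χ : G → ℂ) z = 0 := by
    unfold centralChar; rw [h0]; simp
  have h3 : centralChar (fun _ : G => (1 : ℂ)) z =
      ((Subgroup.centralizer ({z} : Set G)).index : ℂ) := by
    unfold centralChar; simp
  rw [h2, h3, sub_zero, idl_natCast_iff hM] at h1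
  haveI : Fact (Nat.Prime 2) := ⟨Nat.prime_two⟩
  have h4 : ¬ 2 ∣ (S : Subgroup G).index := S.not_dvd_index
  apply h4
  refine h1.trans ?_
  apply Subgroup.index_dvd_of_le
  intro s hs
  exact Subgroup.mem_centralizer_singleton_iff.mpr (hz s hs)

end Cfsg.Agent.Lib.H52Dih5
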