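import Mathlib

set_option autoImplicit false

namespace Cfsg.Agent.Lib.MinCover

open Subgroup

/-- `𝓐` is a nilpotent minimal cover of `G` (the formula used in the statements). -/
abbrev IsNMC {G : Type*} [Group G] (𝓐 : Finset (Subgroup G)) : Prop :=
  ((∀ A ∈ 𝓐, A ≠ ⊤) ∧ (∀ g : G, ∃ A ∈ 𝓐, g ∈ A)) ∧
    (∀ 𝓑 : Finset (Subgroup G), (∀ A ∈ 𝓑, A ≠ ⊤) ∧ (∀ g : G, ∃ A ∈ 𝓑, g ∈ A) → 𝓐.card ≤ 𝓑.card) ∧
    (∀ A ∈ 𝓐, Group.IsNilpotent ↥A)

/-- Two distinct members of a minimal cover generate `G`. -/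
theorem sup_eq_top {G : Type*} [Group G] {𝓐 : Finset (Subgroup G)} (h : IsNMC 𝓐)
    {A B : Subgroup G} (hA : A ∈ 𝓐) (hB : B ∈ 𝓐) (hne : A ≠ B) : A ⊔ B = ⊤ := by
  classical
  by_contra htop
  obtain ⟨⟨h1, h2⟩, h3, -⟩ := h
  have h4 := h3 (insert (A ⊔ B) ((𝓐.erase A).erase B)) ⟨?_, ?_⟩
  · have hBm : B ∈ 𝓐.erase A := Finset.mem_erase.2 ⟨hne.symm, hB⟩
    have c1 := Finset.card_insert_le (A ⊔ B) ((𝓐.erase A).erase B)
    have c2 := Finset.card_erase_of_mem hBm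
    have c3 := Finset.card_erase_of_mem hA
    have c4 : 0 < (𝓐.erase A).card := Finset.card_pos.2 ⟨B, hBm⟩
    have c5 : 0 < 𝓐.card := Finset.card_pos.2 ⟨A, hA⟩
    omega
  · intro C hC
    rw [Finset.mem_insert] at hC
    rcases hC with rfl | hC
    · exact htop
    · exact h1 C (Finset.mem_of_mem_erase (Finset.mem_of_mem_erase hC))
  · intro g
    obtain ⟨C, hC, hg⟩ := h2 g
    by_cases hCA : C = A
    · exact ⟨A ⊔ B, Finset.mem_insert_self _ _, mem_sup_left (hCA ▸ hg)⟩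
    by_cases hCB : C = B
    · exact ⟨A ⊔ B, Finset.mem_insert_self _ _, mem_sup_right (hCB ▸ hg)⟩
    · exact ⟨C, Finset.mem_insert_of_mem (Finset.mem_erase.2 ⟨hCB, Finset.mem_erase.2 ⟨hCA, hC⟩⟩), hg⟩

/-- no proper subgroup contains two distinct members of a minimal cover -/
theorem eq_of_le {G : Type*} [Group G] {𝓐 : Finset (Subgroup G)} (h : IsNMC 𝓐)
    {A B M : Subgroup G} (hA : A ∈ 𝓐) (hB : B ∈ 𝓐) (hM : M ≠ ⊤) (hAM : A ≤ M) (hBM : B ≤ M) :
    A = B := by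
  by_contra hne
  apply hM
  rw [eq_top_iff, ← sup_eq_top h hA hB hne]
  exact sup_le hAM hBM

/-- `D` contains the centralisers of all non-identity elements commuting with `x`. -/
theorem le_of_centralizers {G : Type*} [Group G] {𝓐 : Finset (Subgroup G)} (h : IsNMC 𝓐)
    (D : Subgroup G) (x : G) (hx : x ≠ 1)
    (hD : ∀ z : G, z ≠ 1 → z * x = x * z → ∀ a : G, a * z = z * a → a ∈ D) :
    ∀ A ∈ 𝓐, x ∈ A → A ≤ D := by
  intro A hA hxA
  have hnil : Group.IsNilpotent A := h.2.2 A hA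
  have : Nontrivial A := ⟨⟨⟨x, hxA⟩, 1, fun h => hx (congrArg Subtype.val h)⟩⟩
  have hc : center A ≠ ⊥ := Group.IsNilpotent.center_ne_bot A
  obtain ⟨z, hz, hz1⟩ : ∃ z : A, z ∈ center A ∧ z ≠ 1 := by
    by_contra hcon
    push Not at hcon
    exact hc ((eq_bot_iff_forall _).2 hcon)
  rw [mem_center_iff] at hz
  intro a ha
  apply hD (z : G) (fun h => hz1 (Subtype.ext h))
  · exact (congrArg Subtype.val (hz ⟨x, hxA⟩)).symm
  · exact congrArg Subtype.val (hz ⟨a, ha⟩)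

/-- Torus criterion: no nilpotent minimal cover. -/
theorem false_of_torus {G : Type*} [Group G] {𝓐 : Finset (Subgroup G)} (h : IsNMC 𝓐)
    (D B : Subgroup G) (x g : G) (hx : x ≠ 1)
    (hD : ∀ z : G, z ≠ 1 → z * x = x * z → ∀ a : G, a * z = z * a → a ∈ D)
    (hB : B ≠ ⊤) (hDB : D ≤ B) (hgB : g ∈ B) (hgx : g * x * g⁻¹ ∉ D) : False := by
  have h1 := le_of_centralizers h D x hx hD
  have h2 := le_of_centralizers h (D.map (MulAut.conj g).toMonoidHom) (g * x * g⁻¹) (by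
    intro h; apply hx
    have := congrArg (fun t => g⁻¹ * t * g) h
    simpa [mul_assoc] using this) (by
    intro z hz hzx a ha
    refine ⟨g⁻¹ * a * g, ?_, by simp [MulAut.conj_apply, mul_assoc]⟩
    apply hD (g⁻¹ * z * g)
    · intro h; apply hz
      have := congrArg (fun t => g * t * g⁻¹) h
      simpa [mul_assoc] using this
    · calc g⁻¹ * z * g * x = g⁻¹ * (z * (g * x * g⁻¹)) * g := by group
        _ = g⁻¹ * (g * x * g⁻¹ * z) * g := by rw [hzx]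
        _ = x * (g⁻¹ * z * g) := by group
    · calc g⁻¹ * a * g * (g⁻¹ * z * g) = g⁻¹ * (a * z) * g := by group
        _ = g⁻¹ * (z * a) * g := by rw [ha]
        _ = g⁻¹ * z * g * (g⁻¹ * a * g) := by group)
  obtain ⟨A, hA, hxA⟩ := h.1.2 x
  obtain ⟨A', hA', hxA'⟩ := h.1.2 (g * x * g⁻¹)
  have h3 : A = A' := by
    apply eq_of_le h hA hA' hB ((h1 A hA hxA).trans hDB)
    refine (h2 A' hA' hxA').trans ?_
    rintro _ ⟨d, hd, rfl⟩
    simp only [MulEquiv.toMonoidHom_eq_coe, MonoidHom.coe_coe, MulAut.conj_apply]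
    exact B.mul_mem (B.mul_mem hgB (hDB hd)) (B.inv_mem hgB)
  subst h3
  exact hgx (h1 A hA hxA hxA')

end Cfsg.Agent.Lib.MinCover
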