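import Mathlib
import Cfsg.Agent.Lib.MinCover

set_option autoImplicit false

/-!
# Nilpotent minimal covers of groups between PSL_n and PGL_n: matrices (helper52)
-/

namespace Cfsg.Agent.Lib.H52MC

open Matrix Subgroup Cfsg.Agent.Lib.MinCover

abbrev PG (n : ℕ) (F : Type*) [Field F] := GL (Fin n) F ⧸ Subgroup.center (GL (Fin n) F)

abbrev pr {n : ℕ} {F : Type*} [Field F] : GL (Fin n) F →* PG n F := QuotientGroup.mk' _

theorem pr_eq {n : ℕ} {F : Type*} [Field F] [NeZero n] {a b : GL (Fin n) F} (h : pr a = pr b) :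
    ∃ r : F, r ≠ 0 ∧ (b : Matrix (Fin n) (Fin n) F) = r • (a : Matrix (Fin n) (Fin n) F) := by
  rw [QuotientGroup.mk'_eq_mk'] at h
  obtain ⟨z, hz, rfl⟩ := h
  rw [Matrix.GeneralLinearGroup.mem_center_iff_val_mem_range_scalar] at hz
  obtain ⟨r, hr⟩ := hz
  refine ⟨r, ?_, ?_⟩
  · rintro rfl
    have h1 := z.ne_zero
    apply h1
    rw [← hr]
    ext i j
    simp
  · rw [Units.val_mul, ← hr]
    ext i j
    simp [Matrix.mul_apply, Matrix.diagonal_apply, mul_comm]

theorem pr_eq_of {n : ℕ} {F : Type*} [Field F] [NeZero n] {a b : GL (Fin n) F} {r : F}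
    (h : (b : Matrix (Fin n) (Fin n) F) = r • (a : Matrix (Fin n) (Fin n) F)) : pr a = pr b := by
  rw [QuotientGroup.mk'_eq_mk']
  refine ⟨a⁻¹ * b, ?_, by group⟩
  rw [Matrix.GeneralLinearGroup.mem_center_iff_val_mem_range_scalar]
  refine ⟨r, ?_⟩
  rw [Units.val_mul, h, Matrix.mul_smul, ← Units.val_mul, inv_mul_cancel]
  ext i j
  simp [Matrix.diagonal_apply, Matrix.one_apply]

/-- two projectively commuting elements -/
theorem comm_lam {n : ℕ} {F : Type*} [Field F] [NeZero n] {z s : GL (Fin n) F}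
    (h : (pr z : PG n F) * pr s = pr s * pr z) :
    ∃ r : F, r ≠ 0 ∧ (z : Matrix (Fin n) (Fin n) F) * s = r • ((s : Matrix (Fin n) (Fin n) F) * z) := by
  rw [← map_mul, ← map_mul] at h
  obtain ⟨r, hr, h1⟩ := pr_eq h.symm
  exact ⟨r, hr, h1⟩

section two

variable {F : Type*} [Field F]

def IsSc (m : Matrix (Fin 2) (Fin 2) F) : Prop := m 0 1 = 0 ∧ m 1 0 = 0 ∧ m 0 0 = m 1 1

theorem pr_eq_one_of {a : GL (Fin 2) F} (h : IsSc (a : Matrix (Fin 2) (Fin 2) F)) : (pr a : PG 2 F) = 1 := by
  have : (pr 1 : PG 2 F) = pr a := by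
    apply pr_eq_of (r := a 0 0)
    ext i j
    obtain ⟨h1, h2, h3⟩ := h
    fin_cases i <;> fin_cases j <;> simp [h1, h2, h3]
  rw [← this, map_one]

/-- elements commuting with a nonscalar matrix -/
theorem exists_lin {z s : Matrix (Fin 2) (Fin 2) F} (hz : ¬ IsSc z) (h : z * s = s * z) :
    ∃ α β : F, s = α • (1 : Matrix (Fin 2) (Fin 2) F) + β • z := by
  have e00 := congrFun (congrFun h 0) 0
  have e01 := congrFun (congrFun h 0) 1
  have e10 := congrFun (congrFun h 1) 0
  simp only [Matrix.mul_apply, Fin.sum_univ_two] at e00 e01 e10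
  have key : ∀ β : F, s 0 1 = β * z 0 1 → s 1 0 = β * z 1 0 → s 0 0 - s 1 1 = β * (z 0 0 - z 1 1) →
      ∃ α β : F, s = α • (1 : Matrix (Fin 2) (Fin 2) F) + β • z := by
    intro β h1 h2 h3
    refine ⟨s 0 0 - β * z 0 0, β, ?_⟩
    ext i j
    fin_cases i <;> fin_cases j <;> simp
    · exact h1
    · exact h2
    · linear_combination -h3
  by_cases h1 : z 0 1 = 0
  · by_cases h2 : z 1 0 = 0
    · have h3 : z 0 0 - z 1 1 ≠ 0 := fun h3 => hz ⟨h1, h2, sub_eq_zero.1 h3⟩
      apply key ((s 0 0 - s 1 1) / (z 0 0 - z 1 1))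
      · rw [h1, mul_zero]
        have : (z 0 0 - z 1 1) * s 0 1 = 0 := by
          rw [h1] at e01
          linear_combination e01
        exact (mul_eq_zero.1 this).resolve_left h3
      · rw [h2, mul_zero]
        have : (z 0 0 - z 1 1) * s 1 0 = 0 := by
          rw [h2] at e10
          linear_combination -e10
        exact (mul_eq_zero.1 this).resolve_left h3
      · field_simp
    · apply key (s 1 0 / z 1 0)
      · rw [h1, mul_zero]
        have : z 1 0 * s 0 1 = 0 := by
          rw [h1] at e00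
          linear_combination -e00
        exact (mul_eq_zero.1 this).resolve_left h2
      · field_simp
      · field_simp
        linear_combination e10
  · apply key (s 0 1 / z 0 1)
    · field_simp
    · field_simp
      linear_combination e00
    · field_simp
      linear_combination -e01

/-- projective commutation is commutation for nonzero trace -/
theorem lam_one {z s : Matrix (Fin 2) (Fin 2) F} (hz : z.det ≠ 0) (hs : s.det ≠ 0) {r : F}
    (h : z * s = r • (s * z)) (ht : s.trace ≠ 0 ∨ (2 : F) = 0) : r = 1 := by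
  have h1 : r * r = 1 := by
    have := congrArg Matrix.det h
    rw [Matrix.det_mul, Matrix.det_smul, Matrix.det_mul] at this
    simp only [Fintype.card_fin] at this
    have h2 : (r ^ 2 - 1) * (z.det * s.det) = 0 := by linear_combination -this
    have h3 := (mul_eq_zero.1 h2).resolve_right (mul_ne_zero hz hs)
    linear_combination h3
  have h2 : (r - 1) * s.trace = 0 := by
    have h3 : z * s * z⁻¹ = r • s := by
      rw [h, Matrix.smul_mul, Matrix.mul_assoc, Matrix.mul_nonsing_inv _ (isUnit_iff_ne_zero.2 hz),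
        Matrix.mul_one]
    have h4 := congrArg Matrix.trace h3
    rw [Matrix.trace_mul_comm, ← Matrix.mul_assoc,
      Matrix.nonsing_inv_mul _ (isUnit_iff_ne_zero.2 hz), Matrix.one_mul, Matrix.trace_smul,
      smul_eq_mul] at h4
    linear_combination -h4
  rcases ht with ht | ht
  · exact sub_eq_zero.1 ((mul_eq_zero.1 h2).resolve_right ht)
  · have h3 : (r - 1) * (r - 1) = 0 := by linear_combination h1 - (r - 1) * ht
    have h4 := mul_self_eq_zero.1 h3
    exact sub_eq_zero.1 h4

/-- commuting is transitive on nonscalar matrices -/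
theorem comm_trans {z s a : Matrix (Fin 2) (Fin 2) F} (hz : ¬ IsSc z) (h1 : z * s = s * z)
    (h2 : z * a = a * z) : s * a = a * s := by
  obtain ⟨α, β, rfl⟩ := exists_lin hz h1
  rw [add_mul, mul_add, smul_mul_assoc, smul_mul_assoc, mul_smul_comm, mul_smul_comm, one_mul, mul_one,
    h2]

theorem det_lin (s : Matrix (Fin 2) (Fin 2) F) (α β : F) :
    (α • (1 : Matrix (Fin 2) (Fin 2) F) + β • s).det = α ^ 2 + α * β * s.trace + β ^ 2 * s.det := by
  simp [Matrix.det_fin_two, Matrix.trace_fin_two]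
  ring

theorem trace_lin (s : Matrix (Fin 2) (Fin 2) F) (α β : F) :
    (α • (1 : Matrix (Fin 2) (Fin 2) F) + β • s).trace = 2 * α + β * s.trace := by
  simp [Matrix.trace_fin_two]
  ring

end two

end Cfsg.Agent.Lib.H52MC
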