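import Mathlib
import Cfsg.Agent.Lib.H52MCA

set_option autoImplicit false

/-!
# Nilpotent minimal covers of groups between PSL_2 and PGL_2 (helper52)
-/

namespace Cfsg.Agent.Lib.H52MC

open Matrix Subgroup Cfsg.Agent.Lib.MinCover

abbrev SLim (n : ℕ) (F : Type*) [Field F] : Subgroup (PG n F) :=
  ((Matrix.SpecialLinearGroup.toGL : Matrix.SpecialLinearGroup (Fin n) F →* GL (Fin n) F).range).map pr

def sl {n : ℕ} {F : Type*} [Field F] (M : Matrix (Fin n) (Fin n) F) (h : M.det = 1) : GL (Fin n) F :=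
  Matrix.SpecialLinearGroup.toGL ⟨M, h⟩

theorem sl_val {n : ℕ} {F : Type*} [Field F] (M : Matrix (Fin n) (Fin n) F) (h : M.det = 1) :
    ((sl M h : GL (Fin n) F) : Matrix (Fin n) (Fin n) F) = M := rfl

theorem sl_mem {n : ℕ} {F : Type*} [Field F] (M : Matrix (Fin n) (Fin n) F) (h : M.det = 1) :
    pr (sl M h) ∈ SLim n F := ⟨_, ⟨⟨M, h⟩, rfl⟩, rfl⟩

/-- exchange argument -/
theorem exchange {G : Type*} [Group G] {𝓐 : Finset (Subgroup G)} (h : IsNMC 𝓐) {A0 : Subgroup G}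
    (hA0 : A0 ∈ 𝓐) (f : Subgroup G → Subgroup G) (hf : ∀ A ∈ 𝓐, f A ≠ ⊤)
    (hcov : ∀ g, ∃ A ∈ 𝓐, A ≠ A0 ∧ g ∈ f A) : False := by
  classical
  have h1 := h.2.1 ((𝓐.erase A0).image f) ⟨?_, ?_⟩
  · have h2 := Finset.card_image_le (s := 𝓐.erase A0) (f := f)
    have h3 := Finset.card_erase_of_mem hA0
    have h4 : 0 < 𝓐.card := Finset.card_pos.2 ⟨A0, hA0⟩
    omega
  · intro A hA
    rw [Finset.mem_image] at hA
    obtain ⟨B, hB, rfl⟩ := hA
    exact hf B (Finset.mem_of_mem_erase hB)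
  · intro g
    obtain ⟨A, hA, hne, hg⟩ := hcov g
    exact ⟨f A, Finset.mem_image_of_mem f (Finset.mem_erase.2 ⟨hne, hA⟩), hg⟩

section two

variable {F : Type*} [Field F]

theorem det_ne (S : GL (Fin 2) F) : (S : Matrix (Fin 2) (Fin 2) F).det ≠ 0 := by
  have := S.isUnit
  rw [Matrix.isUnit_iff_isUnit_det] at this
  exact this.ne_zero

/-- closedness of the centraliser relation -/
theorem closed {G : Subgroup (PG 2 F)} (P : F → Prop)
    (hG : ∀ g ∈ G, ∃ S : GL (Fin 2) F, pr S = g ∧ P (S : Matrix (Fin 2) (Fin 2) F).det)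
    {S : GL (Fin 2) F} (hPS : P (S : Matrix (Fin 2) (Fin 2) F).det)
    (hSn : ¬ IsSc (S : Matrix (Fin 2) (Fin 2) F))
    (hNV : ∀ α β : F, P (α • (1 : Matrix (Fin 2) (Fin 2) F) + β • (S : Matrix (Fin 2) (Fin 2) F)).det →
      (α • (1 : Matrix (Fin 2) (Fin 2) F) + β • (S : Matrix (Fin 2) (Fin 2) F)).det ≠ 0 →
      ¬ IsSc (α • (1 : Matrix (Fin 2) (Fin 2) F) + β • (S : Matrix (Fin 2) (Fin 2) F)) →
      ((α • (1 : Matrix (Fin 2) (Fin 2) F) + β • (S : Matrix (Fin 2) (Fin 2) F)).trace ≠ 0 ∨ (2 : F) = 0))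
    (x : ↥G) (hx : pr S = (x : PG 2 F)) :
    ∀ z : ↥G, z ≠ 1 → z * x = x * z → ∀ a : ↥G, a * z = z * a → a ∈ centralizer ({x} : Set ↥G) := by
  intro z hz hzx a haz
  have hS1 : (0 : F) • (1 : Matrix (Fin 2) (Fin 2) F) + (1 : F) • (S : Matrix (Fin 2) (Fin 2) F) =
      (S : Matrix (Fin 2) (Fin 2) F) := by simp
  have htS : (S : Matrix (Fin 2) (Fin 2) F).trace ≠ 0 ∨ (2 : F) = 0 := by
    have := hNV 0 1
    rw [hS1] at this
    exact this hPS (det_ne S) hSn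
  obtain ⟨Z, hZz, hPZ⟩ := hG z z.2
  obtain ⟨A, hAa, hPA⟩ := hG a a.2
  have hc1 : (pr Z : PG 2 F) * pr S = pr S * pr Z := by
    rw [hZz, hx, ← Subgroup.coe_mul, ← Subgroup.coe_mul, hzx]
  obtain ⟨r, hr, h1⟩ := comm_lam hc1
  have hr1 := lam_one (det_ne Z) (det_ne S) h1 htS
  rw [hr1, one_smul] at h1
  obtain ⟨α, β, hZ⟩ := exists_lin hSn h1.symm
  have hZn : ¬ IsSc (Z : Matrix (Fin 2) (Fin 2) F) := by
    intro hsc
    apply hz
    apply Subtype.ext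
    rw [← hZz, pr_eq_one_of hsc]
    rfl
  have htZ : (Z : Matrix (Fin 2) (Fin 2) F).trace ≠ 0 ∨ (2 : F) = 0 := by
    have := hNV α β
    rw [← hZ] at this
    exact this hPZ (det_ne Z) hZn
  have hc2 : (pr A : PG 2 F) * pr Z = pr Z * pr A := by
    rw [hZz, hAa, ← Subgroup.coe_mul, ← Subgroup.coe_mul, haz]
  obtain ⟨r', hr', h2⟩ := comm_lam hc2
  have hr2 := lam_one (det_ne A) (det_ne Z) h2 htZ
  rw [hr2, one_smul] at h2
  have h3 := comm_trans hZn h1 h2.symm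
  rw [mem_centralizer_singleton_iff]
  apply Subtype.ext
  rw [Subgroup.coe_mul, Subgroup.coe_mul, ← hx, ← hAa, ← map_mul, ← map_mul]
  congr 1
  apply Units.ext
  rw [Units.val_mul, Units.val_mul, h3]

/-- the stabiliser of a line -/
def LV (v : Fin 2 → F) : Subgroup (GL (Fin 2) F) where
  carrier := {A | ∃ r : F, (A : Matrix (Fin 2) (Fin 2) F) *ᵥ v = r • v}
  one_mem' := ⟨1, by simp⟩
  mul_mem' := by
    rintro A B ⟨r, hr⟩ ⟨s, hs⟩
    refine ⟨s * r, ?_⟩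
    rw [Units.val_mul, ← Matrix.mulVec_mulVec, hs, Matrix.mulVec_smul, hr, smul_smul]
  inv_mem' := by
    rintro A ⟨r, hr⟩
    by_cases hv : v = 0
    · exact ⟨0, by simp [hv]⟩
    have hinv : ((A⁻¹ : GL (Fin 2) F) : Matrix (Fin 2) (Fin 2) F) *ᵥ ((A : Matrix (Fin 2) (Fin 2) F) *ᵥ v) = v := by
      rw [Matrix.mulVec_mulVec, ← Units.val_mul, inv_mul_cancel, Units.val_one, Matrix.one_mulVec]
    have hr0 : r ≠ 0 := by
      rintro rfl
      rw [hr, zero_smul, Matrix.mulVec_zero] at hinv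
      exact hv hinv.symm
    refine ⟨r⁻¹, ?_⟩
    rw [hr, Matrix.mulVec_smul] at hinv
    have h2 : v = r • (((A⁻¹ : GL (Fin 2) F) : Matrix (Fin 2) (Fin 2) F) *ᵥ v) := hinv.symm
    calc ((A⁻¹ : GL (Fin 2) F) : Matrix (Fin 2) (Fin 2) F) *ᵥ v
        = r⁻¹ • (r • (((A⁻¹ : GL (Fin 2) F) : Matrix (Fin 2) (Fin 2) F) *ᵥ v)) := by
          rw [smul_smul, inv_mul_cancel₀ hr0, one_smul]
      _ = r⁻¹ • v := by rw [← h2]

theorem LV_of_pr {v : Fin 2 → F} {A B : GL (Fin 2) F} (h : pr A = pr B) (hA : A ∈ LV v) : B ∈ LV v := by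
  obtain ⟨r, hr, h1⟩ := pr_eq h
  obtain ⟨s, hs⟩ := hA
  refine ⟨r * s, ?_⟩
  rw [h1, Matrix.smul_mulVec, hs, smul_smul]

def St (G : Subgroup (PG 2 F)) (v : Fin 2 → F) : Subgroup ↥G := ((LV v).map pr).subgroupOf G

theorem mem_St {G : Subgroup (PG 2 F)} {v : Fin 2 → F} {g : ↥G} {A : GL (Fin 2) F}
    (hA : pr A = (g : PG 2 F)) : g ∈ St G v ↔ ∃ r : F, (A : Matrix (Fin 2) (Fin 2) F) *ᵥ v = r • v := by
  constructor
  · intro h
    rw [St, mem_subgroupOf] at h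
    obtain ⟨B, hB, hBg⟩ := h
    exact LV_of_pr (hBg.trans hA.symm) hB
  · intro h
    rw [St, mem_subgroupOf]
    exact ⟨A, h, hA⟩

theorem St_ne_top {G : Subgroup (PG 2 F)} (hSL : SLim 2 F ≤ G) {v : Fin 2 → F} (hv : v ≠ 0) :
    St G v ≠ ⊤ := by
  intro htop
  have hd1 : (!![1, 1; 0, 1] : Matrix (Fin 2) (Fin 2) F).det = 1 := by simp [Matrix.det_fin_two]
  have hd2 : (!![1, 0; 1, 1] : Matrix (Fin 2) (Fin 2) F).det = 1 := by simp [Matrix.det_fin_two]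
  have h1 : (⟨pr (sl _ hd1), hSL (sl_mem _ hd1)⟩ : ↥G) ∈ St G v := htop ▸ mem_top _
  have h2 : (⟨pr (sl _ hd2), hSL (sl_mem _ hd2)⟩ : ↥G) ∈ St G v := htop ▸ mem_top _
  rw [mem_St (A := sl _ hd1) rfl] at h1
  rw [mem_St (A := sl _ hd2) rfl] at h2
  obtain ⟨r, hr⟩ := h1
  obtain ⟨s, hs⟩ := h2
  rw [sl_val] at hr hs
  have a0 := congrFun hr 0
  have a1 := congrFun hr 1
  have b0 := congrFun hs 0
  have b1 := congrFun hs 1
  simp [Matrix.mulVec, dotProduct, Fin.sum_univ_two] at a0 a1 b0 b1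
  apply hv
  by_cases h1 : v 1 = 0
  · have h0 : v 0 = 0 := by
      rw [h1] at b1
      simpa using b1
    ext i
    fin_cases i
    · exact h0
    · exact h1
  · exfalso
    have hr1 : r = 1 := by
      have : (r - 1) * v 1 = 0 := by linear_combination -a1
      exact sub_eq_zero.1 ((mul_eq_zero.1 this).resolve_right h1)
    rw [hr1] at a0
    apply h1
    linear_combination a0

/-- the transvection fixing `v` -/
def uv (v : Fin 2 → F) : Matrix (Fin 2) (Fin 2) F :=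
  !![1 - v 0 * v 1, v 0 ^ 2; -(v 1) ^ 2, 1 + v 0 * v 1]

theorem uv_det (v : Fin 2 → F) : (uv v).det = 1 := by
  simp [uv, Matrix.det_fin_two]
  ring

theorem uv_trace (v : Fin 2 → F) : (uv v).trace = 2 := by
  simp [uv, Matrix.trace_fin_two]
  ring

theorem uv_mulVec (v w : Fin 2 → F) : uv v *ᵥ w = w + (v 0 * w 1 - v 1 * w 0) • v := by
  ext i
  fin_cases i
  · simp [uv, Matrix.mulVec, dotProduct, Fin.sum_univ_two]
    ring
  · simp [uv, Matrix.mulVec, dotProduct, Fin.sum_univ_two]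
    ring

theorem uv_not_sc {v : Fin 2 → F} (hv : v ≠ 0) : ¬ IsSc (uv v) := by
  rintro ⟨h1, h2, -⟩
  apply hv
  ext i
  fin_cases i
  · simpa [uv] using h1
  · simpa [uv] using h2

def Uni {G : Subgroup (PG 2 F)} (x : ↥G) : Prop :=
  ∃ S : GL (Fin 2) F, pr S = (x : PG 2 F) ∧ (S : Matrix (Fin 2) (Fin 2) F).det = 1 ∧
    (S : Matrix (Fin 2) (Fin 2) F).trace ^ 2 = 4 ∧ ¬ IsSc (S : Matrix (Fin 2) (Fin 2) F)

def Ell {G : Subgroup (PG 2 F)} (x : ↥G) : Prop :=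
  ∃ S : GL (Fin 2) F, pr S = (x : PG 2 F) ∧ (S : Matrix (Fin 2) (Fin 2) F).det = 1 ∧
    ∀ v : Fin 2 → F, v ≠ 0 → ∀ r : F, (S : Matrix (Fin 2) (Fin 2) F) *ᵥ v ≠ r • v

theorem pr_ne_one {S : GL (Fin 2) F} (h : ¬ IsSc (S : Matrix (Fin 2) (Fin 2) F)) : (pr S : PG 2 F) ≠ 1 := by
  intro h1
  rw [← map_one (pr : GL (Fin 2) F →* PG 2 F)] at h1
  obtain ⟨r, -, hr⟩ := pr_eq h1.symm
  apply h
  rw [hr]
  refine ⟨?_, ?_, ?_⟩ <;> simp

/-- unipotent elements: non vanishing of traces -/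
theorem uni_NV {S : Matrix (Fin 2) (Fin 2) F} (hd : S.det = 1) (ht : S.trace ^ 2 = 4) (α β : F)
    (h : (α • (1 : Matrix (Fin 2) (Fin 2) F) + β • S).det ≠ 0) :
    ((α • (1 : Matrix (Fin 2) (Fin 2) F) + β • S).trace ≠ 0 ∨ (2 : F) = 0) := by
  by_contra hcon
  push Not at hcon
  obtain ⟨h1, h2⟩ := hcon
  rw [trace_lin] at h1
  rw [det_lin, hd] at h
  have h3 : (2 : F) * 2 * (α ^ 2 + α * β * S.trace + β ^ 2 * 1) = 0 := by
    have h4 : (2 * α + β * S.trace) ^ 2 = 0 := by rw [h1]; ring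
    linear_combination h4 - β ^ 2 * ht
  rcases mul_eq_zero.1 h3 with h4 | h4
  · rcases mul_eq_zero.1 h4 with h5 | h5 <;> exact h2 h5
  · exact h h4

theorem uni_closed {G : Subgroup (PG 2 F)}
    {S : GL (Fin 2) F} (hd : (S : Matrix (Fin 2) (Fin 2) F).det = 1)
    (ht : (S : Matrix (Fin 2) (Fin 2) F).trace ^ 2 = 4)
    (hSn : ¬ IsSc (S : Matrix (Fin 2) (Fin 2) F)) (x : ↥G) (hx : pr S = (x : PG 2 F)) :
    ∀ z : ↥G, z ≠ 1 → z * x = x * z → ∀ a : ↥G, a * z = z * a → a ∈ centralizer ({x} : Set ↥G) := by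
  apply closed (fun _ => True) (S := S) (x := x) (hx := hx)
  · intro g hg
    obtain ⟨A, hA⟩ := QuotientGroup.mk'_surjective _ g
    exact ⟨A, hA, trivial⟩
  · trivial
  · exact hSn
  · intro α β _ h _
    exact uni_NV hd ht α β h

end two

end Cfsg.Agent.Lib.H52MC
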