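import Mathlib
import Cfsg.Agent.Lib.H52MCB

set_option autoImplicit false

/-!
# Nilpotent minimal covers of groups between PSL_2 and PGL_2, main part (helper52)
-/

namespace Cfsg.Agent.Lib.H52MC

open Matrix Subgroup Cfsg.Agent.Lib.MinCover

variable {F : Type*} [Field F]

/-- element of `G` given by a matrix of determinant one -/
def el {G : Subgroup (PG 2 F)} (hSL : SLim 2 F ≤ G) (M : Matrix (Fin 2) (Fin 2) F) (h : M.det = 1) : ↥G :=
  ⟨pr (sl M h), hSL (sl_mem M h)⟩

theorem el_val {G : Subgroup (PG 2 F)} (hSL : SLim 2 F ≤ G) (M : Matrix (Fin 2) (Fin 2) F) (h : M.det = 1) :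
    (pr (sl M h) : PG 2 F) = ((el hSL M h : ↥G) : PG 2 F) := rfl

theorem ne_one_of {G : Subgroup (PG 2 F)} {x : ↥G} {S : GL (Fin 2) F}
    (hS : pr S = (x : PG 2 F)) (h : ¬ IsSc (S : Matrix (Fin 2) (Fin 2) F)) : x ≠ 1 := by
  rintro rfl
  exact pr_ne_one h hS

theorem comm_rep {G : Subgroup (PG 2 F)} {x y : ↥G} {S T : GL (Fin 2) F}
    (hS : pr S = (x : PG 2 F)) (hT : pr T = (y : PG 2 F)) (hxy : x * y = y * x)
    (ht : (T : Matrix (Fin 2) (Fin 2) F).trace ≠ 0 ∨ (2 : F) = 0) :
    (S : Matrix (Fin 2) (Fin 2) F) * T = (T : Matrix (Fin 2) (Fin 2) F) * S := by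
  have hc1 : (pr S : PG 2 F) * pr T = pr T * pr S := by
    rw [hS, hT, ← Subgroup.coe_mul, ← Subgroup.coe_mul, hxy]
  obtain ⟨r, hr, h1⟩ := comm_lam hc1
  have hr1 := lam_one (det_ne S) (det_ne T) h1 ht
  rw [hr1, one_smul] at h1
  exact h1

/-- members of a nilpotent minimal cover containing a unipotent element -/
theorem uni_le {G : Subgroup (PG 2 F)} {𝓐 : Finset (Subgroup ↥G)} (h : IsNMC 𝓐)
    {x : ↥G} {S : GL (Fin 2) F} (hS : pr S = (x : PG 2 F))
    (hd : (S : Matrix (Fin 2) (Fin 2) F).det = 1) (ht : (S : Matrix (Fin 2) (Fin 2) F).trace ^ 2 = 4)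
    (hSn : ¬ IsSc (S : Matrix (Fin 2) (Fin 2) F)) {A : Subgroup ↥G} (hA : A ∈ 𝓐) (hx : x ∈ A) :
    A ≤ centralizer ({x} : Set ↥G) :=
  le_of_centralizers h _ x (ne_one_of hS hSn) (uni_closed hd ht hSn x hS) A hA hx

theorem tr_of_uni {S : Matrix (Fin 2) (Fin 2) F} (ht : S.trace ^ 2 = 4) : S.trace ≠ 0 ∨ (2 : F) = 0 := by
  by_contra hcon
  push Not at hcon
  obtain ⟨h1, h2⟩ := hcon
  rw [h1] at ht
  have : (2 : F) * 2 = 0 := by linear_combination -ht
  rcases mul_eq_zero.1 this with h5 | h5 <;> exact h2 h5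

theorem tr_two : (2 : F) ≠ 0 ∨ (2 : F) = 0 := by tauto

theorem uv_sq (v : Fin 2 → F) : (uv v).trace ^ 2 = 4 := by rw [uv_trace]; norm_num

/-- the centraliser of the transvection of `v` stabilises the line of `v` -/
theorem cent_le_St {G : Subgroup (PG 2 F)} (hSL : SLim 2 F ≤ G) {v : Fin 2 → F} (hv : v ≠ 0) :
    centralizer ({el hSL (uv v) (uv_det v)} : Set ↥G) ≤ St G v := by
  intro a ha
  rw [mem_centralizer_singleton_iff] at ha
  obtain ⟨A, hA⟩ := QuotientGroup.mk'_surjective _ (a : PG 2 F)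
  have h1 : a * el hSL (uv v) (uv_det v) = el hSL (uv v) (uv_det v) * a := by
    first | exact ha | exact ha.symm
  have h2 := comm_rep hA (el_val hSL _ (uv_det v)) h1 (by rw [sl_val, uv_trace]; exact tr_two)
  rw [sl_val] at h2
  obtain ⟨α, β, h3⟩ := exists_lin (uv_not_sc hv) h2.symm
  rw [mem_St hA]
  refine ⟨α + β, ?_⟩
  rw [h3, Matrix.add_mulVec, Matrix.smul_mulVec, Matrix.smul_mulVec, Matrix.one_mulVec, uv_mulVec]
  ext i
  simp
  ring

/-- the transvection of `v` determines the line -/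
theorem St_eq_of_mem {G : Subgroup (PG 2 F)} (hSL : SLim 2 F ≤ G) {v w : Fin 2 → F} (hv : v ≠ 0)
    (hw : w ≠ 0) (h : el hSL (uv v) (uv_det v) ∈ St G w) : St G w = St G v := by
  rw [mem_St (el_val hSL _ (uv_det v)), sl_val] at h
  obtain ⟨r, hr⟩ := h
  rw [uv_mulVec] at hr
  set δ := v 0 * w 1 - v 1 * w 0 with hδ
  have h0 := congrFun hr 0
  have h1 := congrFun hr 1
  simp only [Pi.add_apply, Pi.smul_apply, smul_eq_mul] at h0 h1
  have hδ0 : δ = 0 := by
    have h2 : δ * (r - 1) = 0 := by
      -- (r-1) w = δ v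
      have e0 : (r - 1) * w 0 = δ * v 0 := by linear_combination -h0
      have e1 : (r - 1) * w 1 = δ * v 1 := by linear_combination -h1
      rw [hδ] at e0 e1 ⊢
      linear_combination v 0 * e1 - v 1 * e0
    by_contra hne
    have h3 := (mul_eq_zero.1 h2).resolve_left hne
    apply hv
    ext i
    fin_cases i
    · have : δ * v 0 = 0 := by linear_combination h0 + h3 * w 0
      exact (mul_eq_zero.1 this).resolve_left hne
    · have : δ * v 1 = 0 := by linear_combination h1 + h3 * w 1
      exact (mul_eq_zero.1 this).resolve_left hne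
  -- w = c v
  obtain ⟨c, hc, hcw⟩ : ∃ c : F, c ≠ 0 ∧ w = c • v := by
    have hex : ∃ c : F, w = c • v := by
      by_cases hv0 : v 0 = 0
      · have hv1 : v 1 ≠ 0 := by
          intro hv1
          apply hv
          ext i
          fin_cases i
          · exact hv0
          · exact hv1
        refine ⟨w 1 / v 1, ?_⟩
        ext i
        fin_cases i
        · simp [hv0]
          have : v 1 * w 0 = 0 := by
            rw [hδ, hv0] at hδ0
            linear_combination -hδ0
          exact (mul_eq_zero.1 this).resolve_left hv1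
        · simp
          field_simp
      · refine ⟨w 0 / v 0, ?_⟩
        ext i
        fin_cases i
        · simp
          field_simp
        · simp
          field_simp
          rw [hδ] at hδ0
          linear_combination hδ0
    obtain ⟨c, hc⟩ := hex
    refine ⟨c, ?_, hc⟩
    rintro rfl
    apply hw
    rw [hc, zero_smul]
  ext g
  obtain ⟨A, hA⟩ := QuotientGroup.mk'_surjective _ (g : PG 2 F)
  rw [mem_St hA, mem_St hA, hcw]
  constructor
  · rintro ⟨s, hs⟩
    refine ⟨s, ?_⟩
    rw [Matrix.mulVec_smul, smul_smul, mul_comm, ← smul_smul] at hs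
    exact smul_right_injective _ hc hs
  · rintro ⟨s, hs⟩
    exact ⟨s, by rw [Matrix.mulVec_smul, hs, smul_smul, smul_smul, mul_comm]⟩

/-- Case A: `G` is not the image of `SL_2`. -/
theorem case_A {G : Subgroup (PG 2 F)} (hSL : SLim 2 F ≤ G) (hne : ∃ g ∈ G, g ∉ SLim 2 F)
    {𝓐 : Finset (Subgroup ↥G)} (h : IsNMC 𝓐) : False := by
  have hv : (![1, 0] : Fin 2 → F) ≠ 0 := by
    intro h
    have := congrFun h 0
    simp at this
  have hdw : (!![0, 1; -1, 0] : Matrix (Fin 2) (Fin 2) F).det = 1 := by simp [Matrix.det_fin_two]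
  set x : ↥G := el hSL (uv ![1, 0]) (uv_det _) with hx
  refine false_of_torus h (centralizer ({x} : Set ↥G)) ((SLim 2 F).subgroupOf G) x
    (el hSL _ hdw) (ne_one_of (el_val hSL _ (uv_det _)) (uv_not_sc hv))
    (uni_closed (S := sl _ (uv_det ![1, 0])) (uv_det _) (uv_sq _) (uv_not_sc hv) x rfl) ?_ ?_ ?_ ?_
  · intro htop
    obtain ⟨g, hg, hgn⟩ := hne
    have : (⟨g, hg⟩ : ↥G) ∈ (SLim 2 F).subgroupOf G := htop ▸ mem_top _
    exact hgn (mem_subgroupOf.1 this)
  · intro a ha
    rw [mem_centralizer_singleton_iff] at ha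
    obtain ⟨A, hA⟩ := QuotientGroup.mk'_surjective _ (a : PG 2 F)
    have h1 : a * x = x * a := by
      first | exact ha | exact ha.symm
    have h2 := comm_rep hA (el_val hSL _ (uv_det ![1, 0])) h1 (by rw [sl_val, uv_trace]; exact tr_two)
    rw [sl_val] at h2
    obtain ⟨α, β, h3⟩ := exists_lin (uv_not_sc hv) h2.symm
    have hdet := det_ne A
    rw [h3, det_lin, uv_det, uv_trace] at hdet
    have hαβ : α + β ≠ 0 := by
      intro h0
      apply hdet
      linear_combination (α + β) * h0
    rw [mem_subgroupOf, ← hA]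
    have hd : (!![1, β / (α + β); 0, 1] : Matrix (Fin 2) (Fin 2) F).det = 1 := by
      simp [Matrix.det_fin_two]
    have : pr (sl _ hd) = (pr A : PG 2 F) := by
      apply pr_eq_of (r := α + β)
      rw [sl_val, h3]
      ext i j
      fin_cases i <;> fin_cases j <;> simp [uv]
      field_simp
    rw [← this]
    exact sl_mem _ hd
  · rw [mem_subgroupOf]
    exact sl_mem _ hdw
  · intro hmem
    rw [mem_centralizer_singleton_iff] at hmem
    have h1 : el hSL _ hdw * x * (el hSL _ hdw)⁻¹ * x = x * (el hSL _ hdw * x * (el hSL _ hdw)⁻¹) := by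
      first | exact hmem | exact hmem.symm
    have h2 : (pr (sl _ hdw * sl _ (uv_det ![1, 0]) * (sl _ hdw)⁻¹) : PG 2 F) =
        ((el hSL _ hdw * x * (el hSL _ hdw)⁻¹ : ↥G) : PG 2 F) := rfl
    have h3 := comm_rep h2 (el_val hSL _ (uv_det ![1, 0])) h1 (by rw [sl_val, uv_trace]; exact tr_two)
    have hinv : (((sl _ hdw : GL (Fin 2) F)⁻¹ : GL (Fin 2) F) : Matrix (Fin 2) (Fin 2) F) = !![0, -1; 1, 0] := by
      rw [Matrix.coe_units_inv, sl_val]
      apply Matrix.inv_eq_left_inv
      ext i j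
      fin_cases i <;> fin_cases j <;> simp
    rw [Units.val_mul, Units.val_mul, hinv, sl_val, sl_val] at h3
    have h4 := congrFun (congrFun h3 0) 0
    simp [uv, Matrix.mul_apply, Fin.sum_univ_two] at h4

/-- Case B: `G` is the image of `SL_2`. -/
theorem case_B {G : Subgroup (PG 2 F)} (hSL : SLim 2 F ≤ G)
    (hG : ∀ g ∈ G, ∃ S : GL (Fin 2) F, pr S = g ∧ (S : Matrix (Fin 2) (Fin 2) F).det = 1)
    (hα : ∃ α : F, α ≠ 0 ∧ α ^ 2 ≠ 1)
    {𝓐 : Finset (Subgroup ↥G)} (h : IsNMC 𝓐) : False := by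
  obtain ⟨α, hα0, hα1⟩ := hα
  have hdt : (!![α, 0; 0, α⁻¹] : Matrix (Fin 2) (Fin 2) F).det = 1 := by
    simp [Matrix.det_fin_two, hα0]
  have hαα : α - α⁻¹ ≠ 0 := by
    intro h0
    apply hα1
    have : α = α⁻¹ := sub_eq_zero.1 h0
    field_simp at this
    exact this
  have htn : ¬ IsSc (!![α, 0; 0, α⁻¹] : Matrix (Fin 2) (Fin 2) F) := by
    rintro ⟨-, -, h3⟩
    apply hαα
    simpa [sub_eq_zero] using h3
  set t : ↥G := el hSL _ hdt with ht
  obtain ⟨A0, hA0, htA0⟩ := h.1.2 t
  -- no unipotent element in A0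
  have hU : ∀ u ∈ A0, ¬ Uni u := by
    rintro u hu ⟨S, hS, hSd, hSt, hSn⟩
    have h1 := uni_le h hS hSd hSt hSn hA0 hu
    have h2 := h1 htA0
    rw [mem_centralizer_singleton_iff] at h2
    have h3 : t * u = u * t := by first | exact h2 | exact h2.symm
    have h4 := comm_rep (el_val hSL _ hdt) hS h3 (tr_of_uni hSt)
    rw [sl_val] at h4
    obtain ⟨a, b, h5⟩ := exists_lin hSn h4.symm
    have hd := congrArg Matrix.det h5
    have htr := congrArg Matrix.trace h5
    rw [det_lin, hdt, hSd] at hd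
    rw [trace_lin] at htr
    have e1 : (!![α, 0; 0, α⁻¹] : Matrix (Fin 2) (Fin 2) F).trace = α + α⁻¹ := by
      simp [Matrix.trace_fin_two]
    rw [e1] at htr
    have e2 : (α - α⁻¹) ^ 2 = 0 := by
      have e3 : α * α⁻¹ = 1 := mul_inv_cancel₀ hα0
      have e4 : (α + α⁻¹) ^ 2 = (2 * a + b * (S : Matrix (Fin 2) (Fin 2) F).trace) ^ 2 := by rw [htr]
      linear_combination e4 - 4 * e3 - 4 * hd + b ^ 2 * hSt
    exact hαα (pow_eq_zero_iff (two_ne_zero)|>.1 e2)
  -- no elliptic element in A0
  have hE : ∀ g ∈ A0, ¬ Ell g := by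
    rintro g hg ⟨S, hS, hSd, hSe⟩
    have key : (!![α, 0; 0, α⁻¹] : Matrix (Fin 2) (Fin 2) F) * S = S * !![α, 0; 0, α⁻¹] := by
      by_cases hcase : (2 : F) = 0 ∨ ∀ ι : F, ι ^ 2 ≠ -1
      · -- t closed
        have hcl := closed (G := G) (fun d => d = 1) hG (S := sl _ hdt) hdt htn (by
          intro a b h1 _ _
          rw [sl_val] at *
          by_contra hcon
          push Not at hcon
          obtain ⟨hc1, hc2⟩ := hcon
          rw [trace_lin] at hc1
          rw [det_lin, hdt] at h1
          have e1 : (!![α, 0; 0, α⁻¹] : Matrix (Fin 2) (Fin 2) F).trace = α + α⁻¹ := by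
            simp [Matrix.trace_fin_two]
          rw [e1] at hc1 h1
          have e3 : α * α⁻¹ = 1 := mul_inv_cancel₀ hα0
          rcases hcase with h2 | h2
          · exact hc2 h2
          · apply h2 (a + b * α)
            linear_combination (a + b * α) * hc1 - h1 - b ^ 2 * e3) t rfl
        have h1 := le_of_centralizers h _ t (ne_one_of (el_val hSL _ hdt) htn) hcl A0 hA0 htA0
        have h2 := h1 hg
        rw [mem_centralizer_singleton_iff] at h2
        have h3 : g * t = t * g := by first | exact h2 | exact h2.symm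
        have h4 := comm_rep hS (el_val hSL _ hdt) h3 (by
          rw [sl_val]
          by_contra hcon
          push Not at hcon
          obtain ⟨hc1, hc2⟩ := hcon
          have e1 : (!![α, 0; 0, α⁻¹] : Matrix (Fin 2) (Fin 2) F).trace = α + α⁻¹ := by
            simp [Matrix.trace_fin_two]
          rw [e1] at hc1
          have e3 : α * α⁻¹ = 1 := mul_inv_cancel₀ hα0
          rcases hcase with h2 | h2
          · exact hc2 h2
          · apply h2 α
            linear_combination α * hc1 - e3)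
        rw [sl_val] at h4
        exact h4.symm
      · push Not at hcase
        obtain ⟨h20, ι, hι⟩ := hcase
        have hSn : ¬ IsSc (S : Matrix (Fin 2) (Fin 2) F) := by
          rintro ⟨h1, h2, h3⟩
          apply hSe ![1, 0] (fun h => by simpa using congrFun h 0) ((S : Matrix (Fin 2) (Fin 2) F) 0 0)
          ext i
          fin_cases i
          · simp [Matrix.mulVec, dotProduct, Fin.sum_univ_two]
          · simp [Matrix.mulVec, dotProduct, Fin.sum_univ_two, h2]
        have hNV : ∀ a b : F, (a • (1 : Matrix (Fin 2) (Fin 2) F) + b • (S : Matrix (Fin 2) (Fin 2) F)).det = 1 →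
            ¬ IsSc (a • (1 : Matrix (Fin 2) (Fin 2) F) + b • (S : Matrix (Fin 2) (Fin 2) F)) →
            (a • (1 : Matrix (Fin 2) (Fin 2) F) + b • (S : Matrix (Fin 2) (Fin 2) F)).trace ≠ 0 := by
          intro a b h1 h2 h3
          set Z := (a • (1 : Matrix (Fin 2) (Fin 2) F) + b • (S : Matrix (Fin 2) (Fin 2) F)) with hZ
          have h4 : (Z - ι • (1 : Matrix (Fin 2) (Fin 2) F)).det = 0 := by
            rw [Matrix.det_fin_two] at h1 ⊢
            rw [Matrix.trace_fin_two] at h3
            simp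
            linear_combination h1 - ι * h3 + hι
          obtain ⟨v, hv, hv1⟩ := Matrix.exists_mulVec_eq_zero_iff.2 h4
          have hb : b ≠ 0 := by
            rintro rfl
            apply h2
            rw [hZ]
            refine ⟨?_, ?_, ?_⟩ <;> simp
          apply hSe v hv ((ι - a) / b)
          rw [hZ, Matrix.sub_mulVec, Matrix.add_mulVec, Matrix.smul_mulVec, Matrix.smul_mulVec,
            Matrix.smul_mulVec, Matrix.one_mulVec] at hv1
          have e1 : b • ((S : Matrix (Fin 2) (Fin 2) F) *ᵥ v) = (ι - a) • v := by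
            rw [sub_smul]
            rw [← sub_eq_zero] at hv1 ⊢
            rw [← hv1]
            abel
          rw [div_eq_inv_mul, ← smul_smul, ← e1, smul_smul, inv_mul_cancel₀ hb, one_smul]
        have hcl := closed (G := G) (fun d => d = 1) hG (S := S) hSd hSn (by
          intro a b h1 _ h3
          exact Or.inl (hNV a b h1 h3)) g hS
        have h1 := le_of_centralizers h _ g (ne_one_of hS hSn) hcl A0 hA0 hg
        have h2 := h1 htA0
        rw [mem_centralizer_singleton_iff] at h2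
        have h3 : t * g = g * t := by first | exact h2 | exact h2.symm
        have htS := hNV 0 1
        rw [zero_smul, zero_add, one_smul] at htS
        have h4 := comm_rep (el_val hSL _ hdt) hS h3 (Or.inl (htS hSd hSn))
        rw [sl_val] at h4
        exact h4
    obtain ⟨a, b, h5⟩ := exists_lin htn key
    apply hSe ![1, 0] (fun h => by simpa using congrFun h 0) (a + b * α)
    rw [h5]
    ext i
    fin_cases i
    · simp [Matrix.mulVec, dotProduct, Fin.sum_univ_two]
    · simp [Matrix.mulVec, dotProduct, Fin.sum_univ_two]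
  classical
  refine exchange h hA0 (fun A => if hA : ∃ v : Fin 2 → F, v ≠ 0 ∧ A ≤ St G v ∧ ∃ u ∈ A, Uni u then
    St G hA.choose else A) ?_ ?_
  · intro A hA
    split_ifs with h1
    · exact St_ne_top hSL h1.choose_spec.1
    · exact h.1.1 A hA
  · intro g
    obtain ⟨S, hS, hSd⟩ := hG g g.2
    by_cases hev : ∃ v : Fin 2 → F, v ≠ 0 ∧ ∃ r : F, (S : Matrix (Fin 2) (Fin 2) F) *ᵥ v = r • v
    · obtain ⟨v, hv, hr⟩ := hev
      set u : ↥G := el hSL (uv v) (uv_det v) with hu
      have hUu : Uni u := ⟨sl _ (uv_det v), rfl, uv_det v, uv_sq v, uv_not_sc hv⟩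
      obtain ⟨A, hA, huA⟩ := h.1.2 u
      have hAC := uni_le h (x := u) (S := sl _ (uv_det v)) rfl (uv_det v) (uv_sq v) (uv_not_sc hv) hA huA
      have hASt : A ≤ St G v := hAC.trans (cent_le_St hSL hv)
      refine ⟨A, hA, ?_, ?_⟩
      · rintro rfl
        exact hU u huA hUu
      · have hex : ∃ v : Fin 2 → F, v ≠ 0 ∧ A ≤ St G v ∧ ∃ u ∈ A, Uni u := ⟨v, hv, hASt, u, huA, hUu⟩
        rw [dif_pos hex, St_eq_of_mem hSL hv hex.choose_spec.1 (hex.choose_spec.2.1 huA), mem_St hS]
        exact hr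
    · push Not at hev
      obtain ⟨A, hA, hgA⟩ := h.1.2 g
      refine ⟨A, hA, ?_, ?_⟩
      · rintro rfl
        exact hE g hgA ⟨S, hS, hSd, hev⟩
      · split_ifs with h1
        · exact h1.choose_spec.2.1 hgA
        · exact hgA

theorem two [Fintype F] (hq : 4 ≤ Fintype.card F) {G : Subgroup (PG 2 F)} (hSL : SLim 2 F ≤ G)
    {𝓐 : Finset (Subgroup ↥G)} (h : IsNMC 𝓐) : False := by
  by_cases hne : ∃ g ∈ G, g ∉ SLim 2 F
  · exact case_A hSL hne h
  · push Not at hne
    refine case_B hSL ?_ ?_ h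
    · intro g hg
      obtain ⟨_, ⟨S, rfl⟩, rfl⟩ := hne g hg
      exact ⟨_, rfl, S.2⟩
    · classical
      by_contra hcon
      push Not at hcon
      have : (Finset.univ : Finset F) ⊆ {0, 1, -1} := by
        intro a _
        simp only [Finset.mem_insert, Finset.mem_singleton]
        by_cases ha : a = 0
        · exact Or.inl ha
        · right
          have h1 := hcon a ha
          rcases mul_eq_zero.1 (show (a - 1) * (a + 1) = 0 by linear_combination h1) with h2 | h2
          · exact Or.inl (sub_eq_zero.1 h2)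
          · exact Or.inr (eq_neg_of_add_eq_zero_left h2)
      have h2 := Finset.card_le_card this
      have h3 : ({0, 1, -1} : Finset F).card ≤ 3 := Finset.card_le_three
      rw [Finset.card_univ] at h2
      omega

end Cfsg.Agent.Lib.H52MC
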