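import Mathlib
import Cfsg.Agent.Lib.H52MCB

set_option autoImplicit false

/-!
# Nilpotent minimal covers of groups between PSL_n and PGL_n, n at least 3 (helper52)
-/

namespace Cfsg.Agent.Lib.H52MC

open Matrix Subgroup Cfsg.Agent.Lib.MinCover

section lin

variable {F K : Type*} [Field F] [Field K] [Algebra F K]

/-- the torus element -/
def tor (s0 : K) (c : F) : (K × F) →ₗ[F] (K × F) :=
  LinearMap.prodMap (Algebra.lmul F K s0) (c • LinearMap.id)

theorem tor_apply (s0 : K) (c : F) (v : K × F) : tor s0 c v = (s0 * v.1, c * v.2) := rfl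

theorem L1 {s0 : K} (hs : ∀ r : F, algebraMap F K r ≠ s0) {c : F} (hc : c ≠ 0)
    {z : (K × F) →ₗ[F] (K × F)} (hz : Function.Injective z) {r : F} (hr : r ≠ 0)
    (h : z ∘ₗ tor s0 c = r • (tor s0 c ∘ₗ z)) : r = 1 ∧ (z (0, 1)).1 = 0 := by
  have h1 := LinearMap.congr_fun h (0, 1)
  have h2 : tor s0 c ((0 : K), (1 : F)) = c • ((0 : K), (1 : F)) := by
    rw [tor_apply]; simp
  rw [LinearMap.comp_apply, h2, map_smul, LinearMap.smul_apply, LinearMap.comp_apply, tor_apply] at h1
  have h3 := congrArg Prod.fst h1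
  have h4 := congrArg Prod.snd h1
  simp only [Prod.smul_fst, Prod.smul_snd, smul_eq_mul] at h3 h4
  have h5 : (z (0, 1)).1 = 0 := by
    by_contra h0
    apply hs (c / r)
    rw [Algebra.smul_def, Algebra.smul_def] at h3
    have h6 : (algebraMap F K c - algebraMap F K r * s0) * (z (0, 1)).1 = 0 := by
      linear_combination h3
    have h7 := (mul_eq_zero.1 h6).resolve_right h0
    have hr' : algebraMap F K r ≠ 0 := (map_ne_zero _).2 hr
    rw [map_div₀, div_eq_iff hr']
    linear_combination h7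
  have h6 : (z (0, 1)).2 ≠ 0 := by
    intro h0
    have h7 : z (0, 1) = 0 := Prod.ext h5 h0
    rw [← map_zero z] at h7
    have h8 := hz h7
    simpa using congrArg Prod.snd h8
  refine ⟨?_, h5⟩
  have h7 : (r - 1) * (c * (z (0, 1)).2) = 0 := by linear_combination -h4
  exact sub_eq_zero.1 ((mul_eq_zero.1 h7).resolve_right (mul_ne_zero hc h6))

theorem L2 {s0 : K} (hs : ∀ r : F, algebraMap F K r ≠ s0) (hadj : Algebra.adjoin F {s0} = ⊤)
    {c : F} {z : (K × F) →ₗ[F] (K × F)}
    (h : z ∘ₗ tor s0 c = tor s0 c ∘ₗ z) : ∃ κ : K, ∀ k : K, z (k, 0) = (κ * k, 0) := by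
  have h0 : ∀ k : K, z (s0 * k, 0) = (s0 * (z (k, 0)).1, c * (z (k, 0)).2) := by
    intro k
    have h1 := LinearMap.congr_fun h (k, 0)
    rw [LinearMap.comp_apply, LinearMap.comp_apply, tor_apply, tor_apply] at h1
    simpa using h1
  have hadd : ∀ k l : K, z (k + l, 0) = z (k, 0) + z (l, 0) := by
    intro k l
    rw [← map_add]
    simp
  have hsm : ∀ (r : F) (k : K), z (algebraMap F K r * k, 0) = r • z (k, 0) := by
    intro r k
    rw [← map_smul]
    simp [Algebra.smul_def]
  have hq : ∀ k : K, (z (k, 0)).2 = 0 := by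
    intro k
    have hne : s0 - algebraMap F K c ≠ 0 := fun h => hs c (sub_eq_zero.1 h).symm
    have h1 : k = s0 * ((s0 - algebraMap F K c)⁻¹ * k) +
        algebraMap F K (-c) * ((s0 - algebraMap F K c)⁻¹ * k) := by
      rw [map_neg]
      field_simp
      ring
    rw [h1, hadd, h0, hsm]
    simp
  have hp : ∀ y : K, ∀ k : K, (z (y * k, 0)).1 = y * (z (k, 0)).1 := by
    intro y
    have hy : y ∈ Algebra.adjoin F {s0} := hadj ▸ Algebra.mem_top
    induction hy using Algebra.adjoin_induction with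
    | mem x hx =>
      intro k
      rw [Set.mem_singleton_iff] at hx
      rw [hx, h0]
    | algebraMap r =>
      intro k
      rw [hsm, Prod.smul_fst, Algebra.smul_def]
    | add x y _ _ hx hy =>
      intro k
      rw [add_mul, hadd, Prod.fst_add, hx, hy, add_mul]
    | mul x y _ _ hx hy =>
      intro k
      rw [mul_assoc, hx, hy, mul_assoc]
  refine ⟨(z (1, 0)).1, fun k => Prod.ext ?_ (hq k)⟩
  have := hp k 1
  rw [mul_one] at this
  rw [this, mul_comm]

theorem L3 [FiniteDimensional F K] (hdim : 2 ≤ Module.finrank F K)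
    {κ : K} {μ : F} (hκ : κ ≠ 0) (hμ : μ ≠ 0) (hκμ : κ ≠ algebraMap F K μ)
    {z : (K × F) →ₗ[F] (K × F)} (hz1 : ∀ k : K, z (k, 0) = (κ * k, 0))
    (hz2 : z (0, 1) = (0, μ)) {a : (K × F) →ₗ[F] (K × F)} (ha : Function.Injective a) {r : F}
    (h : a ∘ₗ z = r • (z ∘ₗ a)) (hr : r ≠ 0) : (∀ k : K, (a (k, 0)).2 = 0) ∧ (a (0, 1)).1 = 0 := by
  have hz : ∀ v : K × F, z v = (κ * v.1, μ * v.2) := by
    rintro ⟨k, f⟩
    have h1 : ((k, f) : K × F) = (k, 0) + f • (0, 1) := by simp
    rw [h1, map_add, map_smul, hz1, hz2]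
    simp [mul_comm]
  have ha0 : ∀ v : K × F, v ≠ 0 → a v ≠ 0 := by
    intro v hv h0
    apply hv
    apply ha
    rw [h0, map_zero]
  have hr1 : r = 1 := by
    by_cases hF : ∃ κ' : F, algebraMap F K κ' = κ
    · obtain ⟨κ', rfl⟩ := hF
      have hκ' : κ' ≠ 0 := by
        rintro rfl
        exact hκ (map_zero _)
      -- a nonzero k with snd a (k,0) = 0
      obtain ⟨k, hk, hk0⟩ : ∃ k : K, k ≠ 0 ∧ (a (k, 0)).2 = 0 := by
        have hker : LinearMap.ker (LinearMap.snd F K F ∘ₗ a ∘ₗ LinearMap.inl F K F) ≠ ⊥ := by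
          intro hbot
          have h1 := LinearMap.finrank_le_finrank_of_injective (LinearMap.ker_eq_bot.1 hbot)
          rw [Module.finrank_self] at h1
          omega
        obtain ⟨k, hk, hk0⟩ := Submodule.exists_mem_ne_zero_of_ne_bot hker
        exact ⟨k, hk0, by simpa using hk⟩
      have h1 := LinearMap.congr_fun h (k, 0)
      rw [LinearMap.comp_apply, LinearMap.smul_apply, LinearMap.comp_apply, hz1, hz] at h1
      have h2 : ((algebraMap F K κ' * k, 0) : K × F) = κ' • (k, 0) := by
        simp [Algebra.smul_def]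
      rw [h2, map_smul] at h1
      have h3 := congrArg Prod.fst h1
      simp only [Prod.smul_fst] at h3
      have h4 : (a (k, 0)).1 ≠ 0 := by
        intro h5
        apply ha0 (k, 0)
        · intro h6
          exact hk (congrArg Prod.fst h6)
        · exact Prod.ext h5 hk0
      rw [Algebra.smul_def, Algebra.smul_def] at h3
      have h5 : (algebraMap F K r - 1) * (algebraMap F K κ' * (a (k, 0)).1) = 0 := by
        linear_combination -h3
      have h6 := (mul_eq_zero.1 h5).resolve_right (mul_ne_zero hκ h4)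
      apply (algebraMap F K).injective
      rw [map_one]
      exact sub_eq_zero.1 h6
    · push Not at hF
      have h1 := LinearMap.congr_fun h (0, 1)
      rw [LinearMap.comp_apply, LinearMap.smul_apply, LinearMap.comp_apply, hz2, hz] at h1
      have h2 : ((0, μ) : K × F) = μ • (0, 1) := by simp
      rw [h2, map_smul] at h1
      have h3 := congrArg Prod.fst h1
      have h4 := congrArg Prod.snd h1
      simp only [Prod.smul_fst, Prod.smul_snd, smul_eq_mul] at h3 h4
      rw [Algebra.smul_def, Algebra.smul_def] at h3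
      have h5 : (a (0, 1)).1 = 0 := by
        by_contra h0
        apply hF (μ / r)
        have h6 : (algebraMap F K μ - algebraMap F K r * κ) * (a (0, 1)).1 = 0 := by
          linear_combination h3
        have h7 := (mul_eq_zero.1 h6).resolve_right h0
        have hr' : algebraMap F K r ≠ 0 := (map_ne_zero _).2 hr
        rw [map_div₀, div_eq_iff hr']
        linear_combination h7
      have h6 : (a (0, 1)).2 ≠ 0 := by
        intro h0
        apply ha0 (0, 1)
        · intro h7
          simpa using congrArg Prod.snd h7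
        · exact Prod.ext h5 h0
      have h7 : (r - 1) * (μ * (a (0, 1)).2) = 0 := by linear_combination -h4
      exact sub_eq_zero.1 ((mul_eq_zero.1 h7).resolve_right (mul_ne_zero hμ h6))
  rw [hr1, one_smul] at h
  constructor
  · have h0 : ∀ k : K, (a (κ * k, 0)).2 = μ * (a (k, 0)).2 := by
      intro k
      have h1 := LinearMap.congr_fun h (k, 0)
      rw [LinearMap.comp_apply, LinearMap.comp_apply, hz1, hz] at h1
      exact congrArg Prod.snd h1
    have hadd : ∀ k l : K, a (k + l, 0) = a (k, 0) + a (l, 0) := by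
      intro k l
      rw [← map_add]
      simp
    have hsm : ∀ (r : F) (k : K), a (algebraMap F K r * k, 0) = r • a (k, 0) := by
      intro r k
      rw [← map_smul]
      simp [Algebra.smul_def]
    intro k
    have hne : κ - algebraMap F K μ ≠ 0 := sub_ne_zero.2 hκμ
    have h1 : k = κ * ((κ - algebraMap F K μ)⁻¹ * k) +
        algebraMap F K (-μ) * ((κ - algebraMap F K μ)⁻¹ * k) := by
      rw [map_neg]
      field_simp
      ring
    rw [h1, hadd, hsm, Prod.snd_add, h0]
    simp
  · have h1 := LinearMap.congr_fun h (0, 1)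
    rw [LinearMap.comp_apply, LinearMap.comp_apply, hz2, hz] at h1
    have h2 : ((0, μ) : K × F) = μ • (0, 1) := by simp
    rw [h2, map_smul] at h1
    have h3 := congrArg Prod.fst h1
    simp only [Prod.smul_fst] at h3
    rw [Algebra.smul_def] at h3
    have h4 : (κ - algebraMap F K μ) * (a (0, 1)).1 = 0 := by
      linear_combination -h3
    exact (mul_eq_zero.1 h4).resolve_left (sub_ne_zero.2 hκμ)

end lin

section grp

variable {F K : Type*} [Field F] [Field K] [Algebra F K] {n : ℕ} (b : Module.Basis (Fin n) F (K × F))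

/-- the linear map of a matrix -/
noncomputable def TT (A : GL (Fin n) F) : (K × F) →ₗ[F] (K × F) :=
  Matrix.toLin b b (A : Matrix (Fin n) (Fin n) F)

theorem TT_mul (A B : GL (Fin n) F) : TT b (A * B) = TT b A ∘ₗ TT b B := by
  rw [TT, Units.val_mul, Matrix.toLin_mul b b b]
  rfl

theorem TT_one : TT b 1 = LinearMap.id := by
  rw [TT, Units.val_one, Matrix.toLin_one]

theorem TT_inv (A : GL (Fin n) F) (v : K × F) : TT b A⁻¹ (TT b A v) = v := by
  rw [← LinearMap.comp_apply, ← TT_mul, inv_mul_cancel, TT_one, LinearMap.id_apply]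

theorem TT_inj (A : GL (Fin n) F) : Function.Injective (TT b A) := by
  intro v w h
  rw [← TT_inv b A v, h, TT_inv]

theorem TT_smul {A B : GL (Fin n) F} {r : F}
    (h : (B : Matrix (Fin n) (Fin n) F) = r • (A : Matrix (Fin n) (Fin n) F)) :
    TT b B = r • TT b A := by
  rw [TT, h, map_smul, TT]

theorem TT_comm [NeZero n] {z s : GL (Fin n) F} (h : (pr z : PG n F) * pr s = pr s * pr z) :
    ∃ r : F, r ≠ 0 ∧ TT b z ∘ₗ TT b s = r • (TT b s ∘ₗ TT b z) := by
  obtain ⟨r, hr, h1⟩ := comm_lam h
  refine ⟨r, hr, ?_⟩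
  rw [← TT_mul, ← TT_mul]
  apply TT_smul
  rw [Units.val_mul, Units.val_mul, h1]

theorem TT_sl {t : (K × F) →ₗ[F] (K × F)} (h : (LinearMap.toMatrix b b t).det = 1) :
    TT b (sl (LinearMap.toMatrix b b t) h) = t := by
  rw [TT, sl_val, Matrix.toLin_toMatrix]

/-- stabiliser of `K × 0` -/
noncomputable def BB [Finite F] : Subgroup (GL (Fin n) F) where
  carrier := {A | ∀ k : K, (TT b A (k, 0)).2 = 0}
  one_mem' := by
    intro k
    rw [TT_one]
    rfl
  mul_mem' := by
    intro A B hA hB k
    rw [TT_mul, LinearMap.comp_apply]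
    have h1 : TT b B (k, 0) = ((TT b B (k, 0)).1, 0) := Prod.ext rfl (hB k)
    rw [h1]
    exact hA _
  inv_mem' := by
    intro A hA
    have h1 : A⁻¹ ∈ Submonoid.powers A := by
      rw [mem_powers_iff_mem_zpowers]
      exact inv_mem (mem_zpowers A)
    obtain ⟨i, hi⟩ := h1
    simp only at hi
    have h2 : ∀ i : ℕ, ∀ k : K, (TT b (A ^ i) (k, 0)).2 = 0 := by
      intro i
      induction i with
      | zero =>
        intro k
        rw [pow_zero, TT_one]
        rfl
      | succ i ih =>
        intro k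
        rw [pow_succ, TT_mul, LinearMap.comp_apply]
        have h1 : TT b A (k, 0) = ((TT b A (k, 0)).1, 0) := Prod.ext rfl (hA k)
        rw [h1]
        exact ih _
    intro k
    rw [← hi]
    exact h2 i k

/-- stabiliser of `0 × F` -/
noncomputable def CC [Finite F] : Subgroup (GL (Fin n) F) where
  carrier := {A | (TT b A (0, 1)).1 = 0}
  one_mem' := by
    change (TT b 1 (0, 1)).1 = 0
    rw [TT_one]
    rfl
  mul_mem' := by
    intro A B hA hB
    change (TT b (A * B) (0, 1)).1 = 0
    rw [TT_mul, LinearMap.comp_apply]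
    have h1 : TT b B (0, 1) = (TT b B (0, 1)).2 • (0, 1) := by
      refine Prod.ext ?_ ?_
      · simpa using hB
      · simp
    rw [h1, map_smul, Prod.smul_fst, show (TT b A (0, 1)).1 = 0 from hA, smul_zero]
  inv_mem' := by
    intro A hA
    have h1 : A⁻¹ ∈ Submonoid.powers A := by
      rw [mem_powers_iff_mem_zpowers]
      exact inv_mem (mem_zpowers A)
    obtain ⟨i, hi⟩ := h1
    simp only at hi
    have h2 : ∀ i : ℕ, (TT b (A ^ i) (0, 1)).1 = 0 := by
      intro i
      induction i with
      | zero =>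
        rw [pow_zero, TT_one]
        rfl
      | succ i ih =>
        rw [pow_succ, TT_mul, LinearMap.comp_apply]
        have h1 : TT b A (0, 1) = (TT b A (0, 1)).2 • (0, 1) := by
          refine Prod.ext ?_ ?_
          · simpa using hA
          · simp
        rw [h1, map_smul, Prod.smul_fst, ih, smul_zero]
    change (TT b A⁻¹ (0, 1)).1 = 0
    rw [← hi]
    exact h2 i

theorem mem_BB [Finite F] {A : GL (Fin n) F} : A ∈ BB b ↔ ∀ k : K, (TT b A (k, 0)).2 = 0 := Iff.rfl

theorem mem_CC [Finite F] {A : GL (Fin n) F} : A ∈ CC b ↔ (TT b A (0, 1)).1 = 0 := Iff.rfl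

theorem BB_of_pr [Finite F] [NeZero n] {A B : GL (Fin n) F} (h : pr A = pr B) (hA : A ∈ BB b) :
    B ∈ BB b := by
  obtain ⟨r, hr, h1⟩ := pr_eq h
  rw [mem_BB] at hA ⊢
  intro k
  rw [TT_smul b h1, LinearMap.smul_apply, Prod.smul_snd, hA k, smul_zero]

theorem CC_of_pr [Finite F] [NeZero n] {A B : GL (Fin n) F} (h : pr A = pr B) (hA : A ∈ CC b) :
    B ∈ CC b := by
  obtain ⟨r, hr, h1⟩ := pr_eq h
  rw [mem_CC] at hA ⊢
  rw [TT_smul b h1, LinearMap.smul_apply, Prod.smul_fst, hA, smul_zero]

include b in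
theorem torus_case [Finite F] [NeZero n] [FiniteDimensional F K] (hdim : 2 ≤ Module.finrank F K)
    {s0 : K} (hs : ∀ r : F, algebraMap F K r ≠ s0) (hadj : Algebra.adjoin F {s0} = ⊤)
    {G : Subgroup (PG n F)} (hSL : SLim n F ≤ G) {𝓐 : Finset (Subgroup ↥G)} (h : IsNMC 𝓐) : False := by
  have hs0 : s0 ≠ 0 := by
    rintro rfl
    exact hs 0 (map_zero _)
  have hN : Algebra.norm F s0 ≠ 0 := by
    rw [Algebra.norm_ne_zero_iff]
    exact hs0
  set c : F := (Algebra.norm F s0)⁻¹ with hc
  have hc0 : c ≠ 0 := inv_ne_zero hN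
  have hdt : (LinearMap.toMatrix b b (tor s0 c)).det = 1 := by
    rw [LinearMap.det_toMatrix, tor, LinearMap.det_prodMap, ← Algebra.norm_apply]
    rw [LinearMap.det_smul, LinearMap.det_id, Module.finrank_self, pow_one, mul_one]
    exact mul_inv_cancel₀ hN
  obtain ⟨ℓ, hℓ⟩ : ∃ ℓ : K →ₗ[F] F, ℓ 1 ≠ 0 := by
    by_contra hcon
    push Not at hcon
    have := (Module.forall_dual_apply_eq_zero_iff F (1 : K)).1 hcon
    exact one_ne_zero this
  have hdu : (LinearMap.toMatrix b b
      (LinearMap.transvection (ℓ ∘ₗ LinearMap.fst F K F) ((0 : K), (1 : F)))).det = 1 := by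
    rw [LinearMap.det_toMatrix, LinearMap.transvection.det]
    simp
  have hdg : (LinearMap.toMatrix b b
      (LinearMap.transvection (LinearMap.snd F K F) ((1 : K), (0 : F)))).det = 1 := by
    rw [LinearMap.det_toMatrix, LinearMap.transvection.det]
    simp
  set X : GL (Fin n) F := sl _ hdt with hX
  set U : GL (Fin n) F := sl _ hdu with hU
  set W : GL (Fin n) F := sl _ hdg with hW
  have hTX : TT b X = tor s0 c := TT_sl b hdt
  have hTU : TT b U = LinearMap.transvection (ℓ ∘ₗ LinearMap.fst F K F) ((0 : K), (1 : F)) := TT_sl b hdu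
  have hTW : TT b W = LinearMap.transvection (LinearMap.snd F K F) ((1 : K), (0 : F)) := TT_sl b hdg
  set x : ↥G := ⟨pr X, hSL (sl_mem _ hdt)⟩ with hx
  set g : ↥G := ⟨pr W, hSL (sl_mem _ hdg)⟩ with hg
  have hBm : ∀ (a : ↥G) (A : GL (Fin n) F), pr A = (a : PG n F) →
      (a ∈ ((BB b).map pr).subgroupOf G ↔ A ∈ BB b) := by
    intro a A hA
    rw [mem_subgroupOf]
    constructor
    · rintro ⟨B, hB, hBa⟩
      exact BB_of_pr b (hBa.trans hA.symm) hB
    · intro hA'
      exact ⟨A, hA', hA⟩
  have hCm : ∀ (a : ↥G) (A : GL (Fin n) F), pr A = (a : PG n F) →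
      (a ∈ ((CC b).map pr).subgroupOf G ↔ A ∈ CC b) := by
    intro a A hA
    rw [mem_subgroupOf]
    constructor
    · rintro ⟨B, hB, hBa⟩
      exact CC_of_pr b (hBa.trans hA.symm) hB
    · intro hA'
      exact ⟨A, hA', hA⟩
  refine false_of_torus h (((BB b).map pr).subgroupOf G ⊓ ((CC b).map pr).subgroupOf G)
    (((BB b).map pr).subgroupOf G) x g ?_ ?_ ?_ inf_le_left ?_ ?_
  · -- x ≠ 1
    intro h1
    have h2 : (pr 1 : PG n F) = pr X := by
      rw [map_one]
      exact (congrArg Subtype.val h1).symm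
    obtain ⟨r, hr, h3⟩ := pr_eq h2
    have h4 := TT_smul b h3
    rw [hTX, TT_one] at h4
    have h5 := congrArg Prod.fst (LinearMap.congr_fun h4 (1, 0))
    rw [tor_apply] at h5
    simp only [LinearMap.smul_apply, LinearMap.id_apply, Prod.smul_fst, mul_one] at h5
    rw [Algebra.smul_def, mul_one] at h5
    exact hs r h5.symm
  · -- centralisers
    intro z hz hzx a haz
    obtain ⟨Z, hZ⟩ := QuotientGroup.mk'_surjective _ (z : PG n F)
    obtain ⟨A, hA⟩ := QuotientGroup.mk'_surjective _ (a : PG n F)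
    have hc1 : (pr Z : PG n F) * pr X = pr X * pr Z := by
      have := congrArg Subtype.val hzx
      rw [Subgroup.coe_mul, Subgroup.coe_mul] at this
      rw [hZ]
      exact this
    obtain ⟨r, hr, h1⟩ := TT_comm b hc1
    rw [hTX] at h1
    obtain ⟨hr1, h2⟩ := L1 hs hc0 (TT_inj b Z) hr h1
    rw [hr1, one_smul] at h1
    obtain ⟨κ, hκ⟩ := L2 hs hadj h1
    set μ : F := (TT b Z (0, 1)).2 with hμ
    have hZ01 : TT b Z (0, 1) = (0, μ) := Prod.ext h2 rfl
    have hμ0 : μ ≠ 0 := by
      intro h0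
      rw [h0] at hZ01
      have h7 : TT b Z (0, 1) = TT b Z 0 := by
        rw [hZ01, map_zero]
        rfl
      have h8 := TT_inj b Z h7
      simpa using congrArg Prod.snd h8
    have hκ0 : κ ≠ 0 := by
      intro h0
      have h7 : TT b Z (1, 0) = TT b Z 0 := by
        rw [hκ, map_zero, h0, zero_mul]
        rfl
      have h8 := TT_inj b Z h7
      simpa using congrArg Prod.fst h8
    have hne : κ ≠ algebraMap F K μ := by
      intro h0
      apply hz
      apply Subtype.ext
      rw [← hZ]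
      have h9 : (pr 1 : PG n F) = pr Z := by
        apply pr_eq_of (r := μ)
        apply (Matrix.toLin b b).injective
        rw [map_smul]
        change TT b Z = μ • TT b 1
        rw [TT_one]
        apply LinearMap.ext
        rintro ⟨k, f⟩
        have h3 : ((k, f) : K × F) = (k, 0) + f • (0, 1) := by simp
        rw [h3, map_add, map_smul, hκ, hZ01, h0]
        simp [Algebra.smul_def, mul_comm]
      rw [← h9, map_one]
      rfl
    have hc2 : (pr A : PG n F) * pr Z = pr Z * pr A := by
      have := congrArg Subtype.val haz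
      rw [Subgroup.coe_mul, Subgroup.coe_mul] at this
      rw [hZ, hA]
      exact this
    obtain ⟨r', hr', h3⟩ := TT_comm b hc2
    obtain ⟨h4, h5⟩ := L3 hdim hκ0 hμ0 hne hκ hZ01 (TT_inj b A) h3 hr'
    exact ⟨(hBm a A hA).2 h4, (hCm a A hA).2 h5⟩
  · -- B ≠ ⊤
    intro htop
    have h1 : (⟨pr U, hSL (sl_mem _ hdu)⟩ : ↥G) ∈ ((BB b).map pr).subgroupOf G := htop ▸ mem_top _
    rw [hBm _ U rfl, mem_BB] at h1
    have h2 := h1 1
    rw [hTU, LinearMap.transvection.apply] at h2
    simp at h2
    exact hℓ h2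
  · -- g ∈ B
    rw [hBm g W rfl, mem_BB]
    intro k
    rw [hTW, LinearMap.transvection.apply]
    simp
  · -- conjugate not in D
    intro hmem
    have h1 : g * x * g⁻¹ ∈ ((CC b).map pr).subgroupOf G := hmem.2
    have h2 : pr (W * X * W⁻¹) = ((g * x * g⁻¹ : ↥G) : PG n F) := by
      rw [map_mul, map_mul, map_inv]
      rfl
    rw [hCm _ _ h2, mem_CC] at h1
    have h3 : TT b W (-1, 1) = (0, 1) := by
      rw [hTW, LinearMap.transvection.apply]
      simp
    rw [← h3, ← LinearMap.comp_apply, ← TT_mul, inv_mul_cancel_right, TT_mul, LinearMap.comp_apply,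
      hTX, tor_apply, hTW, LinearMap.transvection.apply] at h1
    simp at h1
    rw [Algebra.smul_def, mul_one] at h1
    apply hs c
    linear_combination h1

end grp

theorem big {F : Type*} [Field F] [Fintype F] {n : ℕ} (hn : 3 ≤ n) {G : Subgroup (PG n F)}
    (hSL : SLim n F ≤ G) {𝓐 : Finset (Subgroup ↥G)} (h : IsNMC 𝓐) : False := by
  obtain ⟨m, rfl⟩ : ∃ m, n = m + 1 := ⟨n - 1, by omega⟩
  have : NeZero m := ⟨by omega⟩
  obtain ⟨p, hp⟩ := CharP.exists F
  have hpp : Fact p.Prime := ⟨CharP.char_is_prime F p⟩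
  have hfr := FiniteField.finrank_extension F p m
  have hfin : FiniteDimensional F (FiniteField.Extension F p m) := inferInstance
  have hfr2 : Module.finrank F (FiniteField.Extension F p m × F) = m + 1 := by
    rw [Module.finrank_prod, hfr, Module.finrank_self]
  obtain ⟨s0, hs0⟩ := Field.exists_primitive_element_of_finite_bot F (FiniteField.Extension F p m)
  have hadj : Algebra.adjoin F {s0} = ⊤ := by
    have h1 := IntermediateField.adjoin_simple_toSubalgebra_of_isAlgebraic
      (F := F) (α := s0) (Algebra.IsAlgebraic.isAlgebraic s0)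
    rw [← h1, hs0]
    rfl
  have hs : ∀ r : F, algebraMap F (FiniteField.Extension F p m) r ≠ s0 := by
    intro r hr
    have h2 : (⊤ : Subalgebra F (FiniteField.Extension F p m)) = ⊥ := by
      rw [← hadj, ← hr]
      rw [eq_bot_iff]
      apply Algebra.adjoin_le
      rintro _ rfl
      exact Subalgebra.algebraMap_mem _ _
    have h3 := Subalgebra.bot_eq_top_iff_finrank_eq_one.1 h2.symm
    omega
  exact torus_case (Module.finBasisOfFinrankEq F _ hfr2) (by omega) hs hadj hSL h

end Cfsg.Agent.Lib.H52MC
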