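import Cfsg.Agent.Lib.H52SA

/-!
# The verified search for the normalizer `3^3 : S4` (helper52)
-/

set_option autoImplicit false
set_option linter.all false

namespace Cfsg.Agent.Lib.H52S

def lev0 : List (List (List ℤ)) :=
  [[]]

def lev1 : List (List (List ℤ)) :=
  [[[1], [1]]]

def lev2 : List (List (List ℤ)) :=
  [[[1, 1], [1, -1]],
   [[1, 0], [1, 0], [0, 1], [0, 1]]]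

def lev3 : List (List (List ℤ)) :=
  [[[1, 0, 0], [1, 0, -1], [0, 1, 1], [0, 1, -1]],
   [[1, 0, 0], [1, 0, -1], [0, 1, 0], [0, 1, 0], [0, 0, 1], [0, 0, 1]]]

def lev4 : List (List (List ℤ)) :=
  [[[1, 0, 0, 1], [1, 0, -1, 0], [0, 1, 1, -1], [0, 1, -1, 0], [0, 0, 0, 1]],
   [[1, 0, 0, 0], [1, 0, -1, 1], [0, 1, 0, 0], [0, 1, 0, -1], [0, 0, 1, 0], [0, 0, 1, 0], [0, 0, 0, 1]],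
   [[1, 0, 0, 1], [1, 0, -1, 0], [0, 1, 0, 0], [0, 1, 0, -1], [0, 0, 1, 0], [0, 0, 1, -1]]]

def lev5 : List (List (List ℤ)) :=
  [[[1, 0, 0, 1, 1], [1, 0, -1, 0, -1], [0, 1, 1, -1, 0], [0, 1, -1, 0, 0], [0, 0, 0, 1, 0], [0, 0, 0, 0, 1]],
   [[1, 0, 0, 0, 0], [1, 0, -1, 1, 0], [0, 1, 0, 0, 0], [0, 1, 0, -1, 0], [0, 0, 1, 0, 1], [0, 0, 1, 0, 0], [0, 0, 0, 1, 1], [0, 0, 0, 0, 1]],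
   [[1, 0, 0, 0, 0], [1, 0, -1, 1, 0], [0, 1, 0, 0, 1], [0, 1, 0, -1, -1], [0, 0, 1, 0, 1], [0, 0, 1, 0, 0], [0, 0, 0, 1, 0]],
   [[1, 0, 0, 1, 0], [1, 0, -1, 0, 0], [0, 1, 0, 0, 1], [0, 1, 0, -1, -1], [0, 0, 1, 0, 1], [0, 0, 1, -1, 0]],
   [[1, 0, 0, 1, 1], [1, 0, -1, 0, -1], [0, 1, 0, 0, 0], [0, 1, 0, -1, 0], [0, 0, 1, 0, 0], [0, 0, 1, -1, 0], [0, 0, 0, 0, 1]]]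

def lev6 : List (List (List ℤ)) :=
  [[[1, 0, 0, 1, 1, 0], [1, 0, -1, 0, -1, 0], [0, 1, 1, -1, 0, 1], [0, 1, -1, 0, 0, 0], [0, 0, 0, 1, 0, 0], [0, 0, 0, 0, 1, 0], [0, 0, 0, 0, 0, 1], [0, 0, 0, 0, 0, 1]],
   [[1, 0, 0, 0, 0, 0], [1, 0, -1, 1, 0, 0], [0, 1, 0, 0, 0, 0], [0, 1, 0, -1, 0, 1], [0, 0, 1, 0, 1, 0], [0, 0, 1, 0, 0, 1], [0, 0, 0, 1, 1, 0], [0, 0, 0, 0, 1, 0], [0, 0, 0, 0, 0, 1]],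
   [[1, 0, 0, 0, 0, 0], [1, 0, -1, 1, 0, 0], [0, 1, 0, 0, 0, 0], [0, 1, 0, -1, 0, 1], [0, 0, 1, 0, 1, 1], [0, 0, 1, 0, 0, 0], [0, 0, 0, 1, 1, 0], [0, 0, 0, 0, 1, -1]],
   [[1, 0, 0, 0, 0, 0], [1, 0, -1, 1, 0, 0], [0, 1, 0, 0, 0, 1], [0, 1, 0, -1, 0, 0], [0, 0, 1, 0, 1, 1], [0, 0, 1, 0, 0, 0], [0, 0, 0, 1, 1, -1], [0, 0, 0, 0, 1, 0]],
   [[1, 0, 0, 0, 0, 1], [1, 0, -1, 1, 0, -1], [0, 1, 0, 0, 0, 1], [0, 1, 0, -1, 0, 0], [0, 0, 1, 0, 1, 0], [0, 0, 1, 0, 0, 0], [0, 0, 0, 1, 1, 0], [0, 0, 0, 0, 1, 0]],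
   [[1, 0, 0, 0, 0, 0], [1, 0, -1, 1, 0, 0], [0, 1, 0, 0, 1, 0], [0, 1, 0, -1, -1, 1], [0, 0, 1, 0, 1, 1], [0, 0, 1, 0, 0, 0], [0, 0, 0, 1, 0, 0], [0, 0, 0, 0, 0, 1]],
   [[1, 0, 0, 1, 0, 0], [1, 0, -1, 0, 0, 0], [0, 1, 0, 0, 1, 0], [0, 1, 0, -1, -1, 1], [0, 0, 1, 0, 1, 1], [0, 0, 1, -1, 0, 0], [0, 0, 0, 0, 0, 1]],
   [[1, 0, 0, 1, 1, 0], [1, 0, -1, 0, -1, 0], [0, 1, 0, 0, 0, 0], [0, 1, 0, -1, 0, 1], [0, 0, 1, 0, 0, 1], [0, 0, 1, -1, 0, 0], [0, 0, 0, 0, 1, 0], [0, 0, 0, 0, 0, 1]],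
   [[1, 0, 0, 1, 1, 0], [1, 0, -1, 0, -1, 0], [0, 1, 0, 0, 0, 1], [0, 1, 0, -1, 0, 0], [0, 0, 1, 0, 0, 0], [0, 0, 1, -1, 0, 1], [0, 0, 0, 0, 1, 0], [0, 0, 0, 0, 0, 1]]]

def lev7 : List (List (List ℤ)) :=
  [[[1, 0, 0, 1, 1, 0, 1], [1, 0, -1, 0, -1, 0, -1], [0, 1, 1, -1, 0, 1, 0], [0, 1, -1, 0, 0, 0, 0], [0, 0, 0, 1, 0, 0, 0], [0, 0, 0, 0, 1, 0, -1], [0, 0, 0, 0, 0, 1, 1], [0, 0, 0, 0, 0, 1, 0]],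
   [[1, 0, 0, 0, 0, 0, -1], [1, 0, -1, 1, 0, 0, 1], [0, 1, 0, 0, 0, 0, 0], [0, 1, 0, -1, 0, 1, 0], [0, 0, 1, 0, 1, 0, 1], [0, 0, 1, 0, 0, 1, 1], [0, 0, 0, 1, 1, 0, 0], [0, 0, 0, 0, 1, 0, 0], [0, 0, 0, 0, 0, 1, 0]],
   [[1, 0, 0, 0, 0, 0, 0], [1, 0, -1, 1, 0, 0, 0], [0, 1, 0, 0, 0, 0, 0], [0, 1, 0, -1, 0, 1, 0], [0, 0, 1, 0, 1, 0, 0], [0, 0, 1, 0, 0, 1, 1], [0, 0, 0, 1, 1, 0, 1], [0, 0, 0, 0, 1, 0, 0], [0, 0, 0, 0, 0, 1, 0], [0, 0, 0, 0, 0, 0, 1], [0, 0, 0, 0, 0, 0, 1]],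
   [[1, 0, 0, 0, 0, 0, 0], [1, 0, -1, 1, 0, 0, 0], [0, 1, 0, 0, 0, 0, 0], [0, 1, 0, -1, 0, 1, 0], [0, 0, 1, 0, 1, 0, 1], [0, 0, 1, 0, 0, 1, 0], [0, 0, 0, 1, 1, 0, 1], [0, 0, 0, 0, 1, 0, -1], [0, 0, 0, 0, 0, 1, 1]],
   [[1, 0, 0, 0, 0, 0, -1], [1, 0, -1, 1, 0, 0, 1], [0, 1, 0, 0, 0, 0, 0], [0, 1, 0, -1, 0, 1, 0], [0, 0, 1, 0, 1, 1, 1], [0, 0, 1, 0, 0, 0, 1], [0, 0, 0, 1, 1, 0, 0], [0, 0, 0, 0, 1, -1, 0]],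
   [[1, 0, 0, 0, 0, 0, -1], [1, 0, -1, 1, 0, 0, 1], [0, 1, 0, 0, 0, 1, 0], [0, 1, 0, -1, 0, 0, 0], [0, 0, 1, 0, 1, 1, 1], [0, 0, 1, 0, 0, 0, 1], [0, 0, 0, 1, 1, -1, 0], [0, 0, 0, 0, 1, 0, 0]],
   [[1, 0, 0, 0, 0, 0, 0], [1, 0, -1, 1, 0, 0, 0], [0, 1, 0, 0, 0, 1, 1], [0, 1, 0, -1, 0, 0, -1], [0, 0, 1, 0, 1, 1, 0], [0, 0, 1, 0, 0, 0, 1], [0, 0, 0, 1, 1, -1, 0], [0, 0, 0, 0, 1, 0, 1]],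
   [[1, 0, 0, 0, 0, 1, 0], [1, 0, -1, 1, 0, -1, 0], [0, 1, 0, 0, 0, 1, 1], [0, 1, 0, -1, 0, 0, -1], [0, 0, 1, 0, 1, 0, 0], [0, 0, 1, 0, 0, 0, 1], [0, 0, 0, 1, 1, 0, 0], [0, 0, 0, 0, 1, 0, 1]],
   [[1, 0, 0, 0, 0, 1, 0], [1, 0, -1, 1, 0, -1, 0], [0, 1, 0, 0, 0, 1, 1], [0, 1, 0, -1, 0, 0, -1], [0, 0, 1, 0, 1, 0, 1], [0, 0, 1, 0, 0, 0, 0], [0, 0, 0, 1, 1, 0, 0], [0, 0, 0, 0, 1, 0, 0], [0, 0, 0, 0, 0, 0, 1]],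
   [[1, 0, 0, 0, 0, 0, -1], [1, 0, -1, 1, 0, 0, 1], [0, 1, 0, 0, 1, 0, 0], [0, 1, 0, -1, -1, 1, 0], [0, 0, 1, 0, 1, 1, 1], [0, 0, 1, 0, 0, 0, 1], [0, 0, 0, 1, 0, 0, 0], [0, 0, 0, 0, 0, 1, 0]],
   [[1, 0, 0, 0, 0, 0, 0], [1, 0, -1, 1, 0, 0, 0], [0, 1, 0, 0, 1, 0, 0], [0, 1, 0, -1, -1, 1, 0], [0, 0, 1, 0, 1, 1, 1], [0, 0, 1, 0, 0, 0, 0], [0, 0, 0, 1, 0, 0, 1], [0, 0, 0, 0, 0, 1, 0], [0, 0, 0, 0, 0, 0, 1], [0, 0, 0, 0, 0, 0, 1]],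
   [[1, 0, 0, 1, 1, 0, 1], [1, 0, -1, 0, -1, 0, -1], [0, 1, 0, 0, 0, 0, 0], [0, 1, 0, -1, 0, 1, 0], [0, 0, 1, 0, 0, 1, 0], [0, 0, 1, -1, 0, 0, 0], [0, 0, 0, 0, 1, 0, -1], [0, 0, 0, 0, 0, 1, 1]],
   [[1, 0, 0, 1, 1, 0, 0], [1, 0, -1, 0, -1, 0, 0], [0, 1, 0, 0, 0, 1, 1], [0, 1, 0, -1, 0, 0, -1], [0, 0, 1, 0, 0, 0, 1], [0, 0, 1, -1, 0, 1, 0], [0, 0, 0, 0, 1, 0, 1], [0, 0, 0, 0, 0, 1, 0]],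
   [[1, 0, 0, 1, 1, 0, 1], [1, 0, -1, 0, -1, 0, -1], [0, 1, 0, 0, 0, 1, 0], [0, 1, 0, -1, 0, 0, 0], [0, 0, 1, 0, 0, 0, 0], [0, 0, 1, -1, 0, 1, 0], [0, 0, 0, 0, 1, 0, -1], [0, 0, 0, 0, 0, 1, 1]]]

def lev8 : List (List (List ℤ)) :=
  [[[1, 0, 0, 0, 0, 0, -1, 0], [1, 0, -1, 1, 0, 0, 1, 0], [0, 1, 0, 0, 0, 0, 0, 0], [0, 1, 0, -1, 0, 1, 0, 1], [0, 0, 1, 0, 1, 0, 1, 0], [0, 0, 1, 0, 0, 1, 1, 1], [0, 0, 0, 1, 1, 0, 0, 0], [0, 0, 0, 0, 1, 0, 0, 1], [0, 0, 0, 0, 0, 1, 0, -1]],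
   [[1, 0, 0, 0, 0, 0, -1, 0], [1, 0, -1, 1, 0, 0, 1, 0], [0, 1, 0, 0, 0, 0, 0, 0], [0, 1, 0, -1, 0, 1, 0, 1], [0, 0, 1, 0, 1, 0, 1, 1], [0, 0, 1, 0, 0, 1, 1, 0], [0, 0, 0, 1, 1, 0, 0, 0], [0, 0, 0, 0, 1, 0, 0, 0], [0, 0, 0, 0, 0, 1, 0, 0], [0, 0, 0, 0, 0, 0, 0, 1], [0, 0, 0, 0, 0, 0, 0, 1]],
   [[1, 0, 0, 0, 0, 0, 0, 0], [1, 0, -1, 1, 0, 0, 0, 0], [0, 1, 0, 0, 0, 0, 0, 0], [0, 1, 0, -1, 0, 1, 0, 1], [0, 0, 1, 0, 1, 0, 0, 0], [0, 0, 1, 0, 0, 1, 1, 1], [0, 0, 0, 1, 1, 0, 1, 0], [0, 0, 0, 0, 1, 0, 0, 1], [0, 0, 0, 0, 0, 1, 0, -1], [0, 0, 0, 0, 0, 0, 1, 0], [0, 0, 0, 0, 0, 0, 1, 0]],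
   [[1, 0, 0, 0, 0, 0, 0, 0], [1, 0, -1, 1, 0, 0, 0, 0], [0, 1, 0, 0, 0, 0, 0, 0], [0, 1, 0, -1, 0, 1, 0, 1], [0, 0, 1, 0, 1, 0, 0, 1], [0, 0, 1, 0, 0, 1, 1, 0], [0, 0, 0, 1, 1, 0, 1, 0], [0, 0, 0, 0, 1, 0, 0, 0], [0, 0, 0, 0, 0, 1, 0, 0], [0, 0, 0, 0, 0, 0, 1, 1], [0, 0, 0, 0, 0, 0, 1, 0], [0, 0, 0, 0, 0, 0, 0, 1]],
   [[1, 0, 0, 0, 0, 0, 0, 1], [1, 0, -1, 1, 0, 0, 0, -1], [0, 1, 0, 0, 0, 0, 0, 0], [0, 1, 0, -1, 0, 1, 0, 1], [0, 0, 1, 0, 1, 0, 0, 0], [0, 0, 1, 0, 0, 1, 1, 0], [0, 0, 0, 1, 1, 0, 1, 1], [0, 0, 0, 0, 1, 0, 0, 0], [0, 0, 0, 0, 0, 1, 0, 0], [0, 0, 0, 0, 0, 0, 1, 0], [0, 0, 0, 0, 0, 0, 1, 0]],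
   [[1, 0, 0, 0, 0, 0, 0, 0], [1, 0, -1, 1, 0, 0, 0, 0], [0, 1, 0, 0, 0, 0, 0, 0], [0, 1, 0, -1, 0, 1, 0, 1], [0, 0, 1, 0, 1, 0, 1, 1], [0, 0, 1, 0, 0, 1, 0, 0], [0, 0, 0, 1, 1, 0, 1, 0], [0, 0, 0, 0, 1, 0, -1, 0], [0, 0, 0, 0, 0, 1, 1, 0], [0, 0, 0, 0, 0, 0, 0, 1], [0, 0, 0, 0, 0, 0, 0, 1]],
   [[1, 0, 0, 0, 0, 0, 0, 1], [1, 0, -1, 1, 0, 0, 0, -1], [0, 1, 0, 0, 0, 0, 0, 0], [0, 1, 0, -1, 0, 1, 0, 1], [0, 0, 1, 0, 1, 0, 1, 0], [0, 0, 1, 0, 0, 1, 0, 0], [0, 0, 0, 1, 1, 0, 1, 1], [0, 0, 0, 0, 1, 0, -1, 0], [0, 0, 0, 0, 0, 1, 1, 0]],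
   [[1, 0, 0, 0, 0, 0, -1, 0], [1, 0, -1, 1, 0, 0, 1, 0], [0, 1, 0, 0, 0, 1, 0, 0], [0, 1, 0, -1, 0, 0, 0, 1], [0, 0, 1, 0, 1, 1, 1, 1], [0, 0, 1, 0, 0, 0, 1, 0], [0, 0, 0, 1, 1, -1, 0, 0], [0, 0, 0, 0, 1, 0, 0, 0], [0, 0, 0, 0, 0, 0, 0, 1], [0, 0, 0, 0, 0, 0, 0, 1]],
   [[1, 0, 0, 0, 0, 0, -1, 0], [1, 0, -1, 1, 0, 0, 1, 0], [0, 1, 0, 0, 1, 0, 0, 1], [0, 1, 0, -1, -1, 1, 0, 0], [0, 0, 1, 0, 1, 1, 1, 0], [0, 0, 1, 0, 0, 0, 1, 1], [0, 0, 0, 1, 0, 0, 0, -1], [0, 0, 0, 0, 0, 1, 0, 1]],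
   [[1, 0, 0, 1, 1, 0, 0, 0], [1, 0, -1, 0, -1, 0, 0, 0], [0, 1, 0, 0, 0, 1, 1, 0], [0, 1, 0, -1, 0, 0, -1, 1], [0, 0, 1, 0, 0, 0, 1, 1], [0, 0, 1, -1, 0, 1, 0, 0], [0, 0, 0, 0, 1, 0, 1, 1], [0, 0, 0, 0, 0, 1, 0, 1]]]

def lev9 : List (List (List ℤ)) :=
  [[[1, 0, 0, 0, 0, 0, -1, 0, 0], [1, 0, -1, 1, 0, 0, 1, 0, 1], [0, 1, 0, 0, 0, 0, 0, 0, 0], [0, 1, 0, -1, 0, 1, 0, 1, 0], [0, 0, 1, 0, 1, 0, 1, 1, 0], [0, 0, 1, 0, 0, 1, 1, 0, 0], [0, 0, 0, 1, 1, 0, 0, 0, 0], [0, 0, 0, 0, 1, 0, 0, 0, 0], [0, 0, 0, 0, 0, 1, 0, 0, 0], [0, 0, 0, 0, 0, 0, 0, 1, 1], [0, 0, 0, 0, 0, 0, 0, 1, 0], [0, 0, 0, 0, 0, 0, 0, 0, 1]],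
   [[1, 0, 0, 0, 0, 0, 0, 0, 0], [1, 0, -1, 1, 0, 0, 0, 0, 1], [0, 1, 0, 0, 0, 0, 0, 0, 0], [0, 1, 0, -1, 0, 1, 0, 1, 0], [0, 0, 1, 0, 1, 0, 0, 1, 0], [0, 0, 1, 0, 0, 1, 1, 0, 0], [0, 0, 0, 1, 1, 0, 1, 0, 0], [0, 0, 0, 0, 1, 0, 0, 0, 0], [0, 0, 0, 0, 0, 1, 0, 0, 0], [0, 0, 0, 0, 0, 0, 1, 1, 0], [0, 0, 0, 0, 0, 0, 1, 0, 1], [0, 0, 0, 0, 0, 0, 0, 1, 1]],
   [[1, 0, 0, 0, 0, 0, 0, 0, 0], [1, 0, -1, 1, 0, 0, 0, 0, 1], [0, 1, 0, 0, 0, 0, 0, 0, 0], [0, 1, 0, -1, 0, 1, 0, 1, 0], [0, 0, 1, 0, 1, 0, 0, 1, 0], [0, 0, 1, 0, 0, 1, 1, 0, 0], [0, 0, 0, 1, 1, 0, 1, 0, 0], [0, 0, 0, 0, 1, 0, 0, 0, 0], [0, 0, 0, 0, 0, 1, 0, 0, 0], [0, 0, 0, 0, 0, 0, 1, 1, 1], [0, 0, 0, 0, 0, 0, 1, 0, 0], [0, 0, 0, 0, 0, 0, 0, 1, 0], [0, 0, 0, 0, 0,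 0, 0, 0, 1]],
   [[1, 0, 0, 0, 0, 0, -1, 0, 0], [1, 0, -1, 1, 0, 0, 1, 0, 1], [0, 1, 0, 0, 0, 1, 0, 0, 0], [0, 1, 0, -1, 0, 0, 0, 1, 0], [0, 0, 1, 0, 1, 1, 1, 1, 0], [0, 0, 1, 0, 0, 0, 1, 0, 0], [0, 0, 0, 1, 1, -1, 0, 0, 0], [0, 0, 0, 0, 1, 0, 0, 0, 0], [0, 0, 0, 0, 0, 0, 0, 1, 1], [0, 0, 0, 0, 0, 0, 0, 1, 0], [0, 0, 0, 0, 0, 0, 0, 0, 1]]]

theorem chk0 : ∀ S ∈ lev0, chk S 2 [] 0 lev1 = true := by decide +kernel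

theorem chk1 : ∀ S ∈ lev1, chk S 2 [0] 1 lev2 = true := by decide +kernel

theorem chk2 : ∀ S ∈ lev2, chk S 3 [-1, 0] 2 lev3 = true := by decide +kernel

theorem chk3 : ∀ S ∈ lev3, chk S 3 [1, -1, -1] 3 lev4 = true := by decide +kernel

theorem chk4 : ∀ S ∈ lev4, chk S 3 [0, 0, 1, 1] 4 lev5 = true := by decide +kernel

theorem chk5 : ∀ S ∈ lev5, chk S 3 [0, 1, 1, -1, 0] 5 lev6 = true := by decide +kernel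

theorem chk6 : ∀ S ∈ lev6, chk S 4 [0, 0, 1, 1, 1, 1] 6 lev7 = true := by decide +kernel

theorem chk7 : ∀ S ∈ lev7, chk S 4 [0, 1, 1, -1, 1, 1, 1] 7 lev8 = true := by decide +kernel

theorem chk8 : ∀ S ∈ lev8, chk S 3 [1, 0, -1, 1, 0, 0, 1, 1] 8 lev9 = true := by decide +kernel


def TT : List (List ℤ) := [[], [0], [-1, 0], [1, -1, -1], [0, 0, 1, 1], [0, 1, 1, -1, 0], [0, 0, 1, 1, 1, 1], [0, 1, 1, -1, 1, 1, 1], [1, 0, -1, 1, 0, 0, 1, 1]]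
def NN : List ℤ := [2, 2, 3, 3, 3, 3, 4, 4, 3]

section
variable {I : Type*} [Fintype I] [DecidableEq I]

theorem search {f : ℕ → I → ℤ} (hT : ∀ l < 9, ∀ k < l, ∑ i, f k i * f l i = (TT.getD l []).getD k 0)
    (hN : ∀ l < 9, ∑ i, f l i * f l i = NN.getD l 0) : ∃ S ∈ lev9, st f 9 = ↑S := by
  have h0 : ∃ S ∈ lev0, st f 0 = ↑S := ⟨[], by simp [lev0], st_zero f⟩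
  obtain ⟨S0, m0, e0⟩ := h0
  have h1 := st_step e0 (n := NN.getD 0 0) (by decide) (hN 0 (by norm_num)) (t := TT.getD 0 []) rfl
    (fun k hk => hT 0 (by norm_num) k hk) (chk0 S0 m0)
  obtain ⟨S1, m1, e1⟩ := h1
  have h2 := st_step e1 (n := NN.getD 1 0) (by decide) (hN 1 (by norm_num)) (t := TT.getD 1 []) rfl
    (fun k hk => hT 1 (by norm_num) k hk) (chk1 S1 m1)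
  obtain ⟨S2, m2, e2⟩ := h2
  have h3 := st_step e2 (n := NN.getD 2 0) (by decide) (hN 2 (by norm_num)) (t := TT.getD 2 []) rfl
    (fun k hk => hT 2 (by norm_num) k hk) (chk2 S2 m2)
  obtain ⟨S3, m3, e3⟩ := h3
  have h4 := st_step e3 (n := NN.getD 3 0) (by decide) (hN 3 (by norm_num)) (t := TT.getD 3 []) rfl
    (fun k hk => hT 3 (by norm_num) k hk) (chk3 S3 m3)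
  obtain ⟨S4, m4, e4⟩ := h4
  have h5 := st_step e4 (n := NN.getD 4 0) (by decide) (hN 4 (by norm_num)) (t := TT.getD 4 []) rfl
    (fun k hk => hT 4 (by norm_num) k hk) (chk4 S4 m4)
  obtain ⟨S5, m5, e5⟩ := h5
  have h6 := st_step e5 (n := NN.getD 5 0) (by decide) (hN 5 (by norm_num)) (t := TT.getD 5 []) rfl
    (fun k hk => hT 5 (by norm_num) k hk) (chk5 S5 m5)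
  obtain ⟨S6, m6, e6⟩ := h6
  have h7 := st_step e6 (n := NN.getD 6 0) (by decide) (hN 6 (by norm_num)) (t := TT.getD 6 []) rfl
    (fun k hk => hT 6 (by norm_num) k hk) (chk6 S6 m6)
  obtain ⟨S7, m7, e7⟩ := h7
  have h8 := st_step e7 (n := NN.getD 7 0) (by decide) (hN 7 (by norm_num)) (t := TT.getD 7 []) rfl
    (fun k hk => hT 7 (by norm_num) k hk) (chk7 S7 m7)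
  obtain ⟨S8, m8, e8⟩ := h8
  have h9 := st_step e8 (n := NN.getD 8 0) (by decide) (hN 8 (by norm_num)) (t := TT.getD 8 []) rfl
    (fun k hk => hT 8 (by norm_num) k hk) (chk8 S8 m8)
  exact h9

end

end Cfsg.Agent.Lib.H52S
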