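import Cfsg.Agent.Lib.H52SL
import Cfsg.Agent.Lib.H52SJ
import Cfsg.Agent.Lib.H52SE

/-!
# The order of a group with a `3^3 : S4` local subgroup (helper52)
-/

set_option autoImplicit false
set_option linter.all false

namespace Cfsg.Agent.Lib.H52S

open Cfsg Cfsg.Agent.Lib.CharBasic Cfsg.Agent.Lib.StructConst Cfsg.Agent.Lib.H25Nine Cfsg.Agent.Lib.H52TI
open scoped ComplexConjugate

universe u v

variable {G : Type u} [Group G] {τ : V3 → G} {Z : Io → G} {H : Subgroup G}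

def al : Fin 9 → Fin 9 → ℤ :=
  ![![0, 0, 0, 0, 0, 0, 0, 0, 0], ![0, 0, 0, 0, 0, 0, 0, -108, 108], ![9, 36, 36, -81, 0, 0, 0, 0, 0], ![27, 0, 0, 81, 0, 0, 0, 0, -108], ![9, 36, 36, 81, 81, 81, 0, 0, 0], ![0, 54, 0, 0, 0, 0, 162, 0, 108], ![9, 36, 36, 81, -81, -81, 0, 0, 0], ![0, 54, 0, 0, 0, 0, -162, 0, 108], ![27, 0, 0, 81, 0, 0, 0, 108, 108]]

def be : Fin 9 → Fin 9 → ℤ :=
  ![![0, 0, 0, 0, -54, 54, 0, 0, 0], ![0, 0, 0, 0, 0, 0, 0, 0, 0], ![0, 0, 0, 0, 27, -27, 0, 0, 0], ![0, 0, 0, 0, -27, 27, 0, 0, 0], ![0, 0, 0, 0, 0, 0, 0, 0, 0], ![0, 0, 0, 0, 0, 0, 0, 0, 0], ![0, 0, 0, 0, 0, 0, 0, 0, 0], ![0, 0, 0, 0, 0, 0, 0, 0, 0], ![0, 0, 0, 0, -27, 27, 0, 0, 0]]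

def Tm : Fin 9 → Fin 9 → ℤ :=
  ![![-1, 1, 0, 0, 0, 0, 0, 0, 0], ![0, 0, 0, 0, -1, 1, 0, 0, 0], ![1, 0, 0, 0, 0, 0, 0, 0, 0], ![-1, 0, 0, 0, 1, 0, 0, 0, 0], ![0, 0, 1, 0, 0, 0, 0, 0, 0], ![0, 0, 0, 0, -1, 0, 0, 1, 0], ![0, 0, 0, 1, 0, 0, 0, 0, 0], ![0, 0, 0, 0, -1, 0, 0, 0, 1], ![-1, 0, 0, 0, 0, 0, 1, 0, 0]]

theorem al_eq : ∀ k c, al k c = ∑ b, Tm k b * al' b c := by decide +kernel
theorem be_eq : ∀ k c, be k c = ∑ b, Tm k b * be' b c := by decide +kernel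

def Gt (k l : Fin 9) : ℤ :=
  (if k < l then (TT.getD l []).getD k 0 else if l < k then (TT.getD k []).getD l 0 else NN.getD k 0) + PP.getD k 0 * PP.getD l 0

theorem gram_a : ∀ k l, ∑ c, (al k c * al l c + 3 * (be k c * be l c)) * (Nc c : ℤ) = 104976 * Gt k l := by decide +kernel
theorem gram_b : ∀ k l, ∑ c, (al k c * be l c + be k c * al l c) * (Nc c : ℤ) = 0 := by decide +kernel
theorem al_one : ∀ k : Fin 9, ∑ c, al k c = 324 * PP.getD k 0 := by decide +kernel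
theorem be_one : ∀ k : Fin 9, ∑ c, be k c = 0 := by decide +kernel

section

variable [Finite G]

noncomputable def φb (h : NL τ Z H) (b : Fin 9) (χ : IrrCharacter G) : ℤ := (base h b χ).choose

theorem φb_spec (h : NL τ Z H) (b : Fin 9) (χ : IrrCharacter G) :
    ∑ c, ((al' b c : ℂ) + (be' b c : ℂ) * s3) * X τ Z χ c = 324 * (φb h b χ : ℂ) := (base h b χ).choose_spec

noncomputable def ff (h : NL τ Z H) (k : ℕ) (χ : IrrCharacter G) : ℤ :=
  if hk : k < 9 then ∑ b, Tm ⟨k, hk⟩ b * φb h b χ else 0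

theorem ff_spec (h : NL τ Z H) (k : Fin 9) (χ : IrrCharacter G) :
    ∑ c, ((al k c : ℂ) + (be k c : ℂ) * s3) * X τ Z χ c = 324 * (ff h k χ : ℂ) := by
  have e1 : ff h k χ = ∑ b, Tm k b * φb h b χ := by
    unfold ff
    rw [dif_pos k.2]
  rw [e1]
  push_cast
  have e2 : ∀ c, ((al k c : ℂ) + (be k c : ℂ) * s3) * X τ Z χ c =
      ∑ b, (Tm k b : ℂ) * (((al' b c : ℂ) + (be' b c : ℂ) * s3) * X τ Z χ c) := by
    intro c
    rw [al_eq, be_eq]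
    push_cast
    rw [Finset.sum_mul, ← Finset.sum_add_distrib, Finset.sum_mul]
    apply Finset.sum_congr rfl
    intro b _
    ring
  simp only [e2]
  rw [Finset.sum_comm, Finset.mul_sum]
  apply Finset.sum_congr rfl
  intro b _
  rw [← Finset.mul_sum, φb_spec h]
  ring

theorem ff_gram (h : NL τ Z H) (k l : Fin 9) : ∑ χ, ff h k χ * ff h l χ = Gt k l := by
  have key : (104976 : ℂ) * ((∑ χ, ff h k χ * ff h l χ : ℤ) : ℂ) = 104976 * (Gt k l : ℂ) := by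
    have hc : ∀ χ : IrrCharacter G, conj (324 * (ff h l χ : ℂ)) = 324 * (ff h l χ : ℂ) := by
      intro χ
      rw [map_mul, map_intCast]
      congr 1
      exact Complex.conj_ofNat 324
    have e1 : (104976 : ℂ) * ((∑ χ, ff h k χ * ff h l χ : ℤ) : ℂ) =
        ∑ χ : IrrCharacter G, (324 * (ff h k χ : ℂ)) * conj (324 * (ff h l χ : ℂ)) := by
      push_cast
      rw [Finset.mul_sum]
      apply Finset.sum_congr rfl
      intro χ _
      have := hc χ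
      push_cast at this
      rw [this]; ring
    rw [e1]
    have e2 : ∀ χ : IrrCharacter G, (324 * (ff h k χ : ℂ)) * conj (324 * (ff h l χ : ℂ)) =
        ∑ c, ∑ c', ((al k c : ℂ) + (be k c : ℂ) * s3) * ((al l c' : ℂ) + (be l c' : ℂ) * s3) *
          (X τ Z χ c * conj (X τ Z χ c')) := by
      intro χ
      rw [← ff_spec, ← ff_spec, map_sum, Finset.sum_mul_sum]
      apply Finset.sum_congr rfl; intro c _
      apply Finset.sum_congr rfl; intro c' _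
      rw [map_mul, map_add, map_mul, s3_conj, map_intCast, map_intCast]
      ring
    simp only [e2]
    rw [Finset.sum_comm]
    have e3 : ∀ c, (∑ χ : IrrCharacter G, ∑ c', ((al k c : ℂ) + (be k c : ℂ) * s3) * ((al l c' : ℂ) + (be l c' : ℂ) * s3) *
          (X τ Z χ c * conj (X τ Z χ c'))) =
        ((al k c : ℂ) + (be k c : ℂ) * s3) * ((al l c : ℂ) + (be l c : ℂ) * s3) * (Nc c : ℂ) := by
      intro c
      rw [Finset.sum_comm]
      have e4 : ∀ c', (∑ χ : IrrCharacter G, ((al k c : ℂ) + (be k c : ℂ) * s3) * ((al l c' : ℂ) + (be l c' : ℂ) * s3) *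
          (X τ Z χ c * conj (X τ Z χ c'))) =
          if c = c' then ((al k c : ℂ) + (be k c : ℂ) * s3) * ((al l c' : ℂ) + (be l c' : ℂ) * s3) * (Nc c : ℂ) else 0 := by
        intro c'
        rw [← Finset.mul_sum]
        have := h.rp_orth c c'
        unfold X
        rw [this]
        split_ifs <;> simp
      simp only [e4]
      rw [Finset.sum_ite_eq]
      simp
    simp only [e3]
    have ga := gram_a k l
    have gb := gram_b k l
    have ga' : ((∑ c, (al k c * al l c + 3 * (be k c * be l c)) * (Nc c : ℤ) : ℤ) : ℂ) = 104976 * (Gt k l : ℂ) := by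
      rw [ga]; push_cast; ring
    have gb' : ((∑ c, (al k c * be l c + be k c * al l c) * (Nc c : ℤ) : ℤ) : ℂ) = 0 := by
      rw [gb]; simp
    rw [← ga']
    have e5 : ((∑ c, (al k c * al l c + 3 * (be k c * be l c)) * (Nc c : ℤ) : ℤ) : ℂ) =
        ((∑ c, (al k c * al l c + 3 * (be k c * be l c)) * (Nc c : ℤ) : ℤ) : ℂ) +
        s3 * ((∑ c, (al k c * be l c + be k c * al l c) * (Nc c : ℤ) : ℤ) : ℂ) := by
      rw [gb', mul_zero, add_zero]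
    rw [e5]
    push_cast
    rw [Finset.mul_sum, ← Finset.sum_add_distrib]
    apply Finset.sum_congr rfl
    intro c _
    have := s3_sq
    linear_combination ((be k c : ℂ) * (be l c : ℂ) * (Nc c : ℂ)) * this
  have h0 : (104976 : ℂ) ≠ 0 := by norm_num
  have := mul_left_cancel₀ h0 key
  exact_mod_cast this

theorem ff_trc (h : NL τ Z H) (k : Fin 9) : ff h k (trc G) = PP.getD k 0 := by
  have h1 := ff_spec h k (trc G)
  have h2 : ∀ c, X τ Z (trc G : IrrCharacter G) c = 1 := fun c => rfl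
  simp only [h2, mul_one] at h1
  rw [Finset.sum_add_distrib, ← Finset.sum_mul] at h1
  have h3 : ((∑ c, al k c : ℤ) : ℂ) = 324 * (PP.getD k 0 : ℂ) := by rw [al_one]; push_cast; ring
  have h4 : ((∑ c, be k c : ℤ) : ℂ) = 0 := by rw [be_one]; simp
  push_cast at h3 h4
  rw [h3, h4, zero_mul, add_zero] at h1
  have h0 : (324 : ℂ) ≠ 0 := by norm_num
  have := mul_left_cancel₀ h0 h1
  exact_mod_cast this.symm

theorem rp_ne : ∀ c, rp c ≠ ((0, 0, 0), oi) := by decide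

theorem th_ne_one (h : NL τ Z H) (c : Fin 9) : NL.th τ Z (rp c) ≠ 1 := by
  intro hc
  have h1 : NL.th τ Z ((0, 0, 0), oi) = 1 := by
    show τ (0, 0, 0) * Z oi = 1
    rw [h.rel.zone, mul_one]
    exact h.rel.map_zero
  exact rp_ne c (h.th_inj (hc.trans h1.symm))

theorem ff_deg (h : NL τ Z H) {d : IrrCharacter G → ℤ} (hd : ∀ χ : IrrCharacter G, (χ : G → ℂ) 1 = d χ) (k : Fin 9) :
    ∑ χ, ff h k χ * d χ = 0 := by
  have key : (324 : ℂ) * ((∑ χ, ff h k χ * d χ : ℤ) : ℂ) = 0 := by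
    push_cast
    rw [Finset.mul_sum]
    have e : ∀ χ : IrrCharacter G, (324 : ℂ) * ((ff h k χ : ℂ) * (d χ : ℂ)) =
        ∑ c, ((al k c : ℂ) + (be k c : ℂ) * s3) * ((χ : G → ℂ) 1 * (χ : G → ℂ) (NL.th τ Z (rp c))) := by
      intro χ
      rw [← mul_assoc, ← ff_spec, Finset.sum_mul, hd]
      apply Finset.sum_congr rfl; intro c _
      unfold X
      ring
    simp only [e]
    rw [Finset.sum_comm]
    apply Finset.sum_eq_zero
    intro c _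
    rw [← Finset.mul_sum, sum_degree_mul _ (th_ne_one h c), mul_zero]
  have h0 : (324 : ℂ) ≠ 0 := by norm_num
  have := (mul_eq_zero.mp key).resolve_left h0
  exact_mod_cast this

/-- explicit form of the columns -/
theorem col_ff (h : NL τ Z H) (χ : IrrCharacter G) :
    col (ff h) 9 χ = [ff h 0 χ, ff h 1 χ, ff h 2 χ, ff h 3 χ, ff h 4 χ, ff h 5 χ, ff h 6 χ, ff h 7 χ, ff h 8 χ] := rfl

theorem ff_explicit (h : NL τ Z H) (χ : IrrCharacter G) :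
    (324 * (ff h 0 χ : ℂ) = -54 * s3 * X τ Z χ 4 + 54 * s3 * X τ Z χ 5) ∧
    (324 * (ff h 1 χ : ℂ) = -108 * X τ Z χ 7 + 108 * X τ Z χ 8) ∧
    (324 * (ff h 2 χ : ℂ) = 9 * X τ Z χ 0 + 36 * X τ Z χ 1 + 36 * X τ Z χ 2 - 81 * X τ Z χ 3 + 27 * s3 * X τ Z χ 4 - 27 * s3 * X τ Z χ 5) ∧
    (324 * (ff h 3 χ : ℂ) = 27 * X τ Z χ 0 + 81 * X τ Z χ 3 - 108 * X τ Z χ 8 - 27 * s3 * X τ Z χ 4 + 27 * s3 * X τ Z χ 5) ∧
    (324 * (ff h 4 χ : ℂ) = 9 * X τ Z χ 0 + 36 * X τ Z χ 1 + 36 * X τ Z χ 2 + 81 * X τ Z χ 3 + 81 * X τ Z χ 4 + 81 * X τ Z χ 5) ∧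
    (324 * (ff h 5 χ : ℂ) = 54 * X τ Z χ 1 + 162 * X τ Z χ 6 + 108 * X τ Z χ 8) ∧
    (324 * (ff h 6 χ : ℂ) = 9 * X τ Z χ 0 + 36 * X τ Z χ 1 + 36 * X τ Z χ 2 + 81 * X τ Z χ 3 - 81 * X τ Z χ 4 - 81 * X τ Z χ 5) ∧
    (324 * (ff h 7 χ : ℂ) = 54 * X τ Z χ 1 - 162 * X τ Z χ 6 + 108 * X τ Z χ 8) ∧
    (324 * (ff h 8 χ : ℂ) = 27 * X τ Z χ 0 + 81 * X τ Z χ 3 + 108 * X τ Z χ 7 + 108 * X τ Z χ 8 - 27 * s3 * X τ Z χ 4 + 27 * s3 * X τ Z χ 5) := by
  have h0 := ff_spec h 0 χ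
  have h1 := ff_spec h 1 χ
  have h2 := ff_spec h 2 χ
  have h3 := ff_spec h 3 χ
  have h4 := ff_spec h 4 χ
  have h5 := ff_spec h 5 χ
  have h6 := ff_spec h 6 χ
  have h7 := ff_spec h 7 χ
  have h8 := ff_spec h 8 χ
  rw [sum9'] at h0 h1 h2 h3 h4 h5 h6 h7 h8
  refine ⟨?_, ?_, ?_, ?_, ?_, ?_, ?_, ?_, ?_⟩
  · refine h0.symm.trans ?_; simp [al, be]; try ring
  · refine h1.symm.trans ?_; simp [al, be]; try ring
  · refine h2.symm.trans ?_; simp [al, be]; try ring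
  · refine h3.symm.trans ?_; simp [al, be]; try ring
  · refine h4.symm.trans ?_; simp [al, be]; try ring
  · refine h5.symm.trans ?_; simp [al, be]; try ring
  · refine h6.symm.trans ?_; simp [al, be]; try ring
  · refine h7.symm.trans ?_; simp [al, be]; try ring
  · refine h8.symm.trans ?_; simp [al, be]; try ring

theorem valE (h : NL τ Z H) (χ : IrrCharacter G) : (χ : G → ℂ) (τ (1, 0, 0)) = (ev vE (col (ff h) 9 χ) : ℂ) := by
  obtain ⟨h0, h1, h2, h3, h4, h5, h6, h7, h8⟩ := ff_explicit h χ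
  have e0 : (χ : G → ℂ) (τ (1, 0, 0)) = X τ Z χ 0 := by
    show _ = (χ : G → ℂ) (τ (1, 0, 0) * Z oi); rw [h.rel.zone, mul_one]
  rw [e0, col_ff]
  simp only [ev, vE]
  push_cast
  linear_combination (-1 / 324 : ℂ) * (-3 * h0 + 4 * h1 + 6 * h2 + 8 * h3 - 3 * h4 - 3 * h6 + 4 * h8)

theorem valF (h : NL τ Z H) (χ : IrrCharacter G) : (χ : G → ℂ) (τ (1, 1, 0)) = (ev vF (col (ff h) 9 χ) : ℂ) := by
  obtain ⟨h0, h1, h2, h3, h4, h5, h6, h7, h8⟩ := ff_explicit h χ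
  have e0 : (χ : G → ℂ) (τ (1, 1, 0)) = X τ Z χ 1 := by
    show _ = (χ : G → ℂ) (τ (1, 1, 0) * Z oi); rw [h.rel.zone, mul_one]
  rw [e0, col_ff]
  simp only [ev, vF]
  push_cast
  linear_combination (-1 / 324 : ℂ) * (-2 * h1 + 2 * h3 + 3 * h5 + 3 * h7 - 2 * h8)

theorem valH (h : NL τ Z H) (χ : IrrCharacter G) : (χ : G → ℂ) (τ (1, 1, 1)) = (ev vH (col (ff h) 9 χ) : ℂ) := by
  obtain ⟨h0, h1, h2, h3, h4, h5, h6, h7, h8⟩ := ff_explicit h χ
  have e0 : (χ : G → ℂ) (τ (1, 1, 1)) = X τ Z χ 2 := by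
    show _ = (χ : G → ℂ) (τ (1, 1, 1) * Z oi); rw [h.rel.zone, mul_one]
  rw [e0, col_ff]
  simp only [ev, vH]
  push_cast
  linear_combination (-1 / 324 : ℂ) * (3 * h0 + h1 + 3 * h2 - 4 * h3 + 3 * h4 - 3 * h5 + 3 * h6 - 3 * h7 + h8)

theorem congC (h : NL τ Z H) {d : IrrCharacter G → ℤ} (hd : ∀ χ : IrrCharacter G, (χ : G → ℂ) 1 = d χ)
    (χ : IrrCharacter G) : (27 : ℤ) ∣ d χ + ev vC (col (ff h) 9 χ) := by
  have h1 := mu_spec pair3 h.rel.emb 0 χ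
  have e1 : ∀ t : V3, (χ : G → ℂ) (τ t) * conj (ps (B3 0 t)) = (χ : G → ℂ) (τ t) * ((1 : ℤ) : ℂ) := by
    intro t
    rw [B3_zero', ps_zero]; simp
  rw [Finset.sum_congr rfl (fun t _ => e1 t), sum_ty h χ.2.isClassFunction (fun _ => 1)] at h1
  have c0 : (∑ v : V3, if ty v = 0 then (1 : ℤ) else 0) = 1 := by decide +kernel
  have c1 : (∑ v : V3, if ty v = 1 then (1 : ℤ) else 0) = 6 := by decide +kernel
  have c2 : (∑ v : V3, if ty v = 2 then (1 : ℤ) else 0) = 12 := by decide +kernel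
  have c3 : (∑ v : V3, if ty v = 3 then (1 : ℤ) else 0) = 8 := by decide +kernel
  rw [Fin.sum_univ_four, c0, c1, c2, c3] at h1
  have x0 : Xt τ (χ : G → ℂ) 0 = d χ := by rw [← hd]; rfl
  have x1 : Xt τ (χ : G → ℂ) 1 = (ev vE (col (ff h) 9 χ) : ℂ) := by rw [← valE]; rfl
  have x2 : Xt τ (χ : G → ℂ) 2 = (ev vF (col (ff h) 9 χ) : ℂ) := by rw [← valF]; rfl
  have x3 : Xt τ (χ : G → ℂ) 3 = (ev vH (col (ff h) 9 χ) : ℂ) := by rw [← valH]; rfl
  rw [x0, x1, x2, x3] at h1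
  have hc27 : (Fintype.card V3 : ℂ) = 27 := by
    have : Fintype.card V3 = 27 := by simp [V3, ZMod.card]
    rw [this]; norm_num
  rw [hc27] at h1
  refine ⟨mu pair3 h.rel.emb 0 χ, ?_⟩
  have h2 : d χ * 1 + ev vE (col (ff h) 9 χ) * 6 + ev vF (col (ff h) 9 χ) * 12 + ev vH (col (ff h) 9 χ) * 8 =
      27 * mu pair3 h.rel.emb 0 χ := by
    exact_mod_cast h1
  rw [← h2, col_ff]
  simp only [ev, vE, vF, vH, vC]
  ring

end

end Cfsg.Agent.Lib.H52S
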