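import Mathlib
import Cfsg.Agent.Lib.H15Deg2p

set_option autoImplicit false
set_option linter.all false

/-! Common definitions for S3254 -/

namespace Cfsg.Agent.Lib.H52T0

open Cfsg Cfsg.Agent.Lib.BRPerm Cfsg.Agent.Lib.BRCore Cfsg.Agent.Lib.BRInd Cfsg.Agent.Lib.CharBasic Cfsg.Agent.Lib.BlockThird

universe u v

/-- number of cycles of `g` on `Ω` -/
noncomputable def cyc (Ω : Type v) {G : Type u} [Group G] [MulAction G Ω] (g : G) : ℕ :=
  Nat.card (MulAction.orbitRel.Quotient (Subgroup.zpowers g) Ω)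

/-- common facts on the group -/
structure Base (G : Type u) [Group G] [Fintype G] (Ω : Type v) [Fintype Ω] [MulAction G Ω] (p : ℕ) : Prop where
  hp : p.Prime
  h5 : 5 ≤ p
  simple : IsSimpleGroup G
  nab : ¬ IsMulCommutative G
  faithful : FaithfulSMul G Ω
  prim : MulAction.IsPreprimitive G Ω
  card : Nat.card Ω = 3 * p
  sing : ∀ g : G, p ∣ orderOf g → fx Ω g = 0
  nsing : 2 * p * Nat.card {g : G // p ∣ orderOf g} = Nat.card G * (p - 1)
  syl : ∃ n : ℕ, Nat.card G = 2 * p * (1 + n * p)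
  inv : ∃ t : G, orderOf t = 2
  conj : ∀ s t : G, orderOf s = 2 → orderOf t = 2 → IsConj s t
  prod : ∀ t g : G, orderOf t = 2 → g ≠ 1 → ¬ p ∣ orderOf g →
    ∃ t' g' : G, IsConj t t' ∧ IsConj g g' ∧ orderOf (t' * g') = p
  sub : ∀ t : G, orderOf t = 2 → (fx Ω t = 1 ∧ p % 4 = 3) ∨ (fx Ω t = 3 ∧ p % 4 = 1)

/-- the character `χ` of degree `m p - 1` and the exceptional characters -/
structure CharD (G : Type u) [Group G] [Fintype G] (p m : ℕ) (χ : IrrCharacter G) : Prop where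
  ne : χ ≠ triv G
  deg : (charDegree (χ : G → ℂ) : ℤ) = m * p - 1
  sing : ∀ g : G, p ∣ orderOf g → (χ : G → ℂ) g = -1
  E1 : ∀ t : G, orderOf t = 2 → ∀ w : ℤ, (χ : G → ℂ) t = w →
    (Nat.card G : ℤ) * (m * p - 1 - w) ^ 2 =
      p * (Nat.card (Subgroup.centralizer ({t} : Set G)) : ℤ) ^ 2 * (m * p - 1) * (m * p - 2)
  exc : ∃ Y : Fin ((p - 1) / 2) → IrrCharacter G, Function.Injective Y ∧ ∀ i, Y i ≠ triv G ∧ Y i ≠ χ ∧
    (charDegree (Y i : G → ℂ) : ℤ) = m * p - 2 ∧ ∀ g : G, ¬ p ∣ orderOf g → (Y i : G → ℂ) g = (χ : G → ℂ) g - 1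

/-- Sylow 2-subgroup `D8` with its action -/
structure D8 (G : Type u) [Group G] [Fintype G] (Ω : Type v) [MulAction G Ω] (T : Sylow 2 G) (t r s v : G)
    (a b c : Ω) : Prop where
  card : Nat.card T = 8
  tT : t ∈ (T : Subgroup G)
  rT : r ∈ (T : Subgroup G)
  sT : s ∈ (T : Subgroup G)
  ot : orderOf t = 2
  or : orderOf r = 2
  os : orderOf s = 2
  ov : orderOf v = 4
  vv : v * v = t
  rs : r * s = v
  rt : r * t = t * r
  st : s * t = t * s
  rnt : r ≠ t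
  snt : s ≠ t
  ab : a ≠ b
  ac : a ≠ c
  bc : b ≠ c
  ft : ∀ w : Ω, t • w = w ↔ w = a ∨ w = b ∨ w = c
  fr : ∀ w : Ω, r • w = w ↔ w = a ∨ w = b ∨ w = c
  sa : s • a = a
  sb : s • b = c
  sc : s • c = b
  fv : ∀ w : Ω, v • w = w ↔ w = a
  fT : ∀ x ∈ (T : Subgroup G), x • a = a

/-- the core `U` of the centralizer of `t` -/
structure Cen (G : Type u) [Group G] [Fintype G] (T : Sylow 2 G) (t : G) (U : Subgroup G) : Prop where
  odd : Odd (Nat.card U)
  le : U ≤ Subgroup.centralizer ({t} : Set G)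
  nor : ∀ x ∈ Subgroup.centralizer ({t} : Set G), ∀ y ∈ U, x * y * x⁻¹ ∈ U
  card : Nat.card (Subgroup.centralizer ({t} : Set G)) = 8 * Nat.card U
  sup : U ⊔ (T : Subgroup G) = Subgroup.centralizer ({t} : Set G)

/-- the coefficients of the indicator functions of the 2-sections of `t` and `v` -/
structure Sec (G : Type u) [Group G] [Fintype G] (t v : G) (U : Subgroup G) (x y : IrrCharacter G → ℤ) : Prop where
  hx : ∀ η : IrrCharacter G, ∑ᶠ g ∈ (U : Set G), (η : G → ℂ) (t * g) = x η * Nat.card U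
  hy : ∀ η : IrrCharacter G, ∑ᶠ g ∈ ((U ⊓ Subgroup.centralizer ({v} : Set G) : Subgroup G) : Set G),
    (η : G → ℂ) (v * g) = y η * Nat.card (U ⊓ Subgroup.centralizer ({v} : Set G) : Subgroup G)
  par : ∀ η, (2 : ℤ) ∣ x η - y η
  xx : ∑ η, x η ^ 2 = 8
  yy : ∑ η, y η ^ 2 = 4
  xy : ∑ η, x η * y η = 0
  x1 : ∑ η : IrrCharacter G, x η * (charDegree (η : G → ℂ) : ℤ) = 0
  y1 : ∑ η : IrrCharacter G, y η * (charDegree (η : G → ℂ) : ℤ) = 0
  xt : ∑ η : IrrCharacter G, (x η : ℂ) * (η : G → ℂ) t = 8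
  yt : ∑ η : IrrCharacter G, (y η : ℂ) * (η : G → ℂ) t = 0

end Cfsg.Agent.Lib.H52T0
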