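import Mathlib
import Cfsg.Agent.Lib.H52T0
import Cfsg.Agent.Lib.H52_BC1a
import Cfsg.Agent.Lib.H25Nine

/-! S3254, BCOUNT [*1] (helper1): `4 D = (p - 1) F²` -/

set_option autoImplicit false
set_option linter.all false

namespace Cfsg.Agent.Lib.H52_BC1

open Cfsg Cfsg.Agent.Lib.BRPerm Cfsg.Agent.Lib.BRCore Cfsg.Agent.Lib.BRInd Cfsg.Agent.Lib.CharBasic Cfsg.Agent.Lib.BlockThird Cfsg.Agent.Lib.H52T0
open Cfsg.Agent.Lib.H52_BC2a Cfsg.Agent.Lib.H52_BC1a Cfsg.Agent.Lib.H25Nine
open scoped Classical ComplexConjugate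

universe u v

section gen
variable {G : Type u} [Group G] [Fintype G] {Ω : Type v} [Fintype Ω] [MulAction G Ω] {p : ℕ}

/-- the class algebra constants of `t`, `t`, summed over the coset `v W` -/
theorem sum_sc1 {t v : G} (ht : orderOf t = 2) (hconj : ∀ s : G, orderOf s = 2 → IsConj t s) {C W : Subgroup G}
    (hS : ∀ u : W, ∀ w v' : G, orderOf w = 2 → orderOf v' = 2 → w * v' = v * u → w ∈ C)
    {y : IrrCharacter G → ℤ}
    (hy : ∀ η : IrrCharacter G, ∑ᶠ g ∈ (W : Set G), (η : G → ℂ) (v * g) = y η * Nat.card W) :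
    (Nat.card G : ℂ) * (Nat.card W * ∑ η : IrrCharacter G, (y η : ℂ) * (η : G → ℂ) t ^ 2 / (η : G → ℂ) 1) =
      (Nat.card (Subgroup.centralizer ({t} : Set G)) : ℂ) ^ 2 *
        ((∑ u : W, (Finset.univ.filter fun w : C =>
          orderOf (w : G) = 2 ∧ orderOf ((w : G)⁻¹ * (v * u)) = 2).card : ℕ) : ℂ) := by
  have hc2 : ∀ s : G, IsConj t s ↔ orderOf s = 2 := by
    intro s
    constructor
    · intro h
      obtain ⟨g, hg⟩ := isConj_iff.mp h
      rw [← hg, ← ht]
      exact (MulAut.conj g).orderOf_eq t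
    · exact hconj s
  have h1 : ∀ u : W, (Nat.card G : ℂ) * ∑ χ : IrrCharacter G,
        (χ : G → ℂ) t * (χ : G → ℂ) t * conj ((χ : G → ℂ) (v * u)) / (χ : G → ℂ) 1 =
      (Nat.card (Subgroup.centralizer ({t} : Set G)) : ℂ) ^ 2 *
        (((Finset.univ.filter fun w : C =>
          orderOf (w : G) = 2 ∧ orderOf ((w : G)⁻¹ * (v * u)) = 2).card : ℕ) : ℂ) := by
    intro u
    have := sc_sub (G := G) (S := C) (x := t) (y := t) (z := v * u)
      (fun w v' hw hv => hS u w v' ((hc2 w).mp hw) ((hc2 v').mp hv))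
    rw [this]
    have e : (Finset.univ.filter fun w : C =>
          orderOf (w : G) = 2 ∧ orderOf ((w : G)⁻¹ * (v * u)) = 2) =
        (Finset.univ.filter fun w : C =>
          IsConj t (w : G) ∧ IsConj t ((w : G)⁻¹ * (v * u))) := by
      apply Finset.filter_congr
      intro w _
      rw [hc2, hc2]
    rw [e, pow_two]
  rw [Nat.cast_sum]
  conv_rhs => rw [Finset.mul_sum]
  have h2 : ∀ η : IrrCharacter G, ∑ u : W, conj ((η : G → ℂ) (v * u)) = y η * Nat.card W := by
    intro η
    rw [← map_sum]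
    have e1 : ∑ u : W, (η : G → ℂ) (v * u) = y η * Nat.card W := by
      rw [← hy η]
      rw [← finsum_set_coe_eq_finsum_mem, finsum_eq_sum_of_fintype]
      rfl
    rw [e1]
    simp
  calc (Nat.card G : ℂ) * (Nat.card W * ∑ η : IrrCharacter G, (y η : ℂ) * (η : G → ℂ) t ^ 2 / (η : G → ℂ) 1)
      = (Nat.card G : ℂ) * ∑ η : IrrCharacter G, ∑ u : W, (η : G → ℂ) t * (η : G → ℂ) t * conj ((η : G → ℂ) (v * u)) / (η : G → ℂ) 1 := by
        congr 1
        rw [Finset.mul_sum]
        apply Finset.sum_congr rfl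
        intro η _
        rw [← Finset.sum_div, ← Finset.mul_sum, h2]
        ring
    _ = ∑ u : W, ((Nat.card G : ℂ) * ∑ η : IrrCharacter G, (η : G → ℂ) t * (η : G → ℂ) t * conj ((η : G → ℂ) (v * u)) / (η : G → ℂ) 1) := by
        rw [Finset.sum_comm, Finset.mul_sum]
    _ = _ := by
        apply Finset.sum_congr rfl
        intro u _
        exact h1 u

theorem star1 (hB : Base G Ω p) {χ : IrrCharacter G} (hχ : CharD G p 2 χ) (hχt : ∀ t : G, orderOf t = 2 → (χ : G → ℂ) t = 1)
    {T : Sylow 2 G} {t r s v : G} {a b c : Ω} (h : D8 G Ω T t r s v a b c) {U : Subgroup G}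
    (hU : Cen G T t U) {x y : IrrCharacter G → ℤ} (hs : Sec G t v U x y)
    (hy : ∑ η : IrrCharacter G, (y η : ℂ) * (η : G → ℂ) t ^ 2 / (η : G → ℂ) 1 = 2 * ((p : ℂ) - 1) ^ 2 / (p * (2 * p - 1))) :
    4 * Nat.card (U ⊓ Subgroup.centralizer ({v} : Set G) : Subgroup G) =
      (p - 1) * Nat.card (U ⊓ Subgroup.centralizer ({r} : Set G) ⊓ Subgroup.centralizer ({s} : Set G) : Subgroup G) ^ 2 := by
  have hp5 := hB.h5
  set C := Subgroup.centralizer ({t} : Set G) with hC
  have htC : ∀ x ∈ C, t * x = x * t := by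
    intro x hx
    exact (Subgroup.mem_centralizer_singleton_iff.mp hx).symm
  have hTC : (T : Subgroup G) ≤ C := by
    rw [hC, ← hU.sup]; exact le_sup_right
  have hrr := (order_two_iff.mp h.or).1
  have hss := (order_two_iff.mp h.os).1
  have htt := (order_two_iff.mp h.ot).1
  have hri : r⁻¹ = r := inv_eq_of_mul_eq_one_left hrr
  have hsi : s⁻¹ = s := inv_eq_of_mul_eq_one_left hss
  have hti : t⁻¹ = t := inv_eq_of_mul_eq_one_left htt
  have hvT : v ∈ (T : Subgroup G) := by rw [← h.rs]; exact mul_mem h.rT h.sT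
  have hvi : v⁻¹ = s * r := by rw [← h.rs, mul_inv_rev, hri, hsi]
  have hv4 : v ^ 4 = 1 := by
    rw [show (4 : ℕ) = 2 * 2 by norm_num, pow_mul, pow_two v, h.vv, pow_two, htt]
  set W : Subgroup G := U ⊓ Subgroup.centralizer ({v} : Set G) with hW
  have hWU : ∀ a : W, (a : G) ∈ U := fun a => a.2.1
  have hWv : ∀ a : W, (a : G) * v = v * a := fun a => Subgroup.mem_centralizer_singleton_iff.mp a.2.2
  have hS : ∀ u : W, ∀ w v' : G, orderOf w = 2 → orderOf v' = 2 → w * v' = v * u → w ∈ C := by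
    intro u w v' hw hv' hwv
    obtain ⟨hww, _⟩ := order_two_iff.mp hw
    obtain ⟨hvv, _⟩ := order_two_iff.mp hv'
    have hwi : w⁻¹ = w := inv_eq_of_mul_eq_one_left hww
    have hvi' : v'⁻¹ = v' := inv_eq_of_mul_eq_one_left hvv
    have e1 : w * (v * (u : G)) * w⁻¹ = (v * (u : G))⁻¹ := by
      rw [← hwv, mul_inv_rev, hwi, hvi', ← mul_assoc, hww, one_mul]
    have hvu : Commute v (u : G) := (hWv u).symm
    have hu1 : (u : G) ^ (Nat.card U) = 1 := by
      have h9 : (⟨u, hWU u⟩ : U) ^ Nat.card U = 1 := pow_card_eq_one'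
      exact congrArg Subtype.val h9
    have hvN : v ^ (Nat.card U * Nat.card U) = v := by
      obtain ⟨k, hk⟩ := hU.odd
      rw [hk, show (2 * k + 1) * (2 * k + 1) = 4 * (k * k + k) + 1 by ring, pow_succ, pow_mul, hv4, one_pow, one_mul]
    have e2 : (v * (u : G)) ^ (Nat.card U * Nat.card U) = v := by
      rw [hvu.mul_pow, hvN, pow_mul, hu1, one_pow, mul_one]
    have e3 : w * v * w⁻¹ = v⁻¹ := by
      conv_lhs => rw [← e2]
      rw [← conj_pow, e1, inv_pow, e2]
    have e4 : w * t * w⁻¹ = t := by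
      rw [← h.vv]
      calc w * (v * v) * w⁻¹ = (w * v * w⁻¹) * (w * v * w⁻¹) := by group
        _ = (v * v)⁻¹ := by rw [e3, mul_inv_rev]
        _ = v * v := by rw [h.vv, hti]
    rw [hC, Subgroup.mem_centralizer_singleton_iff]
    calc w * t = w * t * w⁻¹ * w := by group
      _ = t * w := by rw [e4]
  have h1 := sum_sc1 (v := v) (C := C) (W := W) h.ot (fun s hs => hB.conj t s h.ot hs) hS hs.hy
  have hcard : Nat.card C = Nat.card (T : Subgroup G) * Nat.card U := by
    rw [hU.card]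
    have : Nat.card (T : Subgroup G) = 8 := h.card
    rw [this]
  have hTU : (T : Subgroup G) ⊓ U = ⊥ := by
    apply Subgroup.inf_eq_bot_of_coprime
    have : Nat.card (T : Subgroup G) = 8 := h.card
    rw [this]
    have h2 : Nat.Coprime 2 (Nat.card U) := (Nat.coprime_two_left).mpr hU.odd
    have : (8 : ℕ) = 2 ^ 3 := by norm_num
    rw [this]
    exact Nat.Coprime.pow_left 3 h2
  have h2 := count1 hU.odd hTC hU.le hcard hTU hU.nor h.tT hvT h.ot h.vv htC
  have hI : ∀ z : G, z * t = t * z → Nat.card {a : W // z * t * (a : G) * (z * t * a) = 1} =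
      Nat.card {a : W // z * (a : G) * (z * a) = 1} := by
    intro z hz
    apply Nat.card_congr
    apply Equiv.subtypeEquivRight
    intro a
    have hta := htC a (hU.le (hWU a))
    have : z * t * (a : G) * (z * t * a) = z * a * (z * a) := by
      calc z * t * (a : G) * (z * t * a) = z * (t * a) * (z * t) * a := by group
        _ = z * (a * t) * (t * z) * a := by rw [hta, hz]
        _ = z * a * (t * t) * z * a := by group
        _ = _ := by rw [htt]; group
    rw [this]
  have hrv : r * v = s := by rw [← h.rs, ← mul_assoc, hrr, one_mul]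
  have hvt : v * t = s * r := by
    rw [← hvi]
    apply eq_inv_of_mul_eq_one_left
    have e0 : v * t = t * v := by rw [← h.vv, mul_assoc]
    rw [e0, mul_assoc, h.vv, htt]
  have htv : t * v = v * t := by rw [← h.vv, mul_assoc]
  have hsv : s * v = r * t := by
    calc s * v = s * r * s := by rw [← h.rs, mul_assoc]
      _ = v * t * s := by rw [hvt]
      _ = r * s * t * s := by rw [h.rs]
      _ = r * (s * t) * s := by group
      _ = r * (t * s) * s := by rw [h.st]
      _ = r * t * (s * s) := by group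
      _ = r * t := by rw [hss, mul_one]
  have n2 : r * t * v = s * t := by rw [mul_assoc, htv, ← mul_assoc, hrv]
  have n4 : s * t * v = r := by rw [mul_assoc, htv, ← mul_assoc, hsv, mul_assoc, htt, mul_one]
  have h2' := sumD8g h.card h.tT h.rT h.sT h.ot h.or h.os h.ov h.vv h.rs h.rt h.st h.rnt h.snt
    (fun z => Nat.card {a : W // z * (a : G) * (z * a) = 1} *
        Nat.card {a : W // z * v * (a : G) * (z * v * a) = 1})
  rw [h2] at h1
  rw [h2'] at h1
  rw [hrv, n2, hsv, n4, hI r h.rt, hI s h.st] at h1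
  -- normalization of W
  have hnW : ∀ z : G, z ∈ (T : Subgroup G) → z * v * z⁻¹ = v⁻¹ → ∀ u ∈ W, z * u * z⁻¹ ∈ W := by
    intro z hzT hz u hu
    refine ⟨hU.nor z (hTC hzT) u hu.1, ?_⟩
    have huv : u * v = v * u := Subgroup.mem_centralizer_singleton_iff.mp hu.2
    have hz' : z * v⁻¹ * z⁻¹ = v := by
      have : z * v⁻¹ * z⁻¹ = (z * v * z⁻¹)⁻¹ := by group
      rw [this, hz, inv_inv]
    have huv' : u * v⁻¹ = v⁻¹ * u := by
      rw [eq_inv_mul_iff_mul_eq, ← mul_assoc, ← huv]; group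
    apply Subgroup.mem_centralizer_singleton_iff.mpr
    calc z * u * z⁻¹ * v = z * u * z⁻¹ * (z * v⁻¹ * z⁻¹) := by rw [hz']
      _ = z * (u * v⁻¹) * z⁻¹ := by group
      _ = z * (v⁻¹ * u) * z⁻¹ := by rw [huv']
      _ = (z * v⁻¹ * z⁻¹) * (z * u * z⁻¹) := by group
      _ = v * (z * u * z⁻¹) := by rw [hz']
  have hrvr : r * v * r⁻¹ = v⁻¹ := by rw [hrv, hri, hvi]
  have hsvs : s * v * s⁻¹ = v⁻¹ := by
    rw [hsi, ← h.rs, mul_inv_rev, hri, hsi]
    calc s * (r * s) * s = s * r * (s * s) := by group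
      _ = s * r := by rw [hss, mul_one]
  have hWodd : Odd (Nat.card W) := by
    have : Nat.card W ∣ Nat.card U := Subgroup.card_dvd_of_le inf_le_left
    exact Odd.of_dvd_nat hU.odd this
  have h3 := card_invol_coset hWodd hrr (hnW r h.rT hrvr)
  have h4 := card_invol_coset hWodd hss (hnW s h.sT hsvs)
  have hF1 : W ⊓ Subgroup.centralizer ({r} : Set G) = U ⊓ Subgroup.centralizer ({r} : Set G) ⊓ Subgroup.centralizer ({s} : Set G) := by
    ext g
    simp only [hW, Subgroup.mem_inf, Subgroup.mem_centralizer_singleton_iff]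
    constructor
    · rintro ⟨⟨h1, h2⟩, h3⟩
      refine ⟨⟨h1, h3⟩, ?_⟩
      rw [← hrv]
      calc g * (r * v) = (g * r) * v := by group
        _ = (r * g) * v := by rw [h3]
        _ = r * (g * v) := by group
        _ = r * (v * g) := by rw [h2]
        _ = _ := by group
    · rintro ⟨⟨h1, h2⟩, h3⟩
      refine ⟨⟨h1, ?_⟩, h2⟩
      rw [← h.rs]
      calc g * (r * s) = (g * r) * s := by group
        _ = (r * g) * s := by rw [h2]
        _ = r * (g * s) := by group
        _ = r * (s * g) := by rw [h3]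
        _ = _ := by group
  have hF2 : W ⊓ Subgroup.centralizer ({s} : Set G) = U ⊓ Subgroup.centralizer ({r} : Set G) ⊓ Subgroup.centralizer ({s} : Set G) := by
    have hvs : v * s = r := by rw [← h.rs, mul_assoc, hss, mul_one]
    ext g
    simp only [hW, Subgroup.mem_inf, Subgroup.mem_centralizer_singleton_iff]
    constructor
    · rintro ⟨⟨h1, h2⟩, h3⟩
      refine ⟨⟨h1, ?_⟩, h3⟩
      rw [← hvs]
      calc g * (v * s) = (g * v) * s := by group
        _ = (v * g) * s := by rw [h2]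
        _ = v * (g * s) := by group
        _ = v * (s * g) := by rw [h3]
        _ = _ := by group
    · rintro ⟨⟨h1, h2⟩, h3⟩
      refine ⟨⟨h1, ?_⟩, h3⟩
      rw [← h.rs]
      calc g * (r * s) = (g * r) * s := by group
        _ = (r * g) * s := by rw [h2]
        _ = r * (g * s) := by group
        _ = r * (s * g) := by rw [h3]
        _ = _ := by group
  rw [hF1] at h3
  rw [hF2] at h4
  set F := Nat.card (U ⊓ Subgroup.centralizer ({r} : Set G) ⊓ Subgroup.centralizer ({s} : Set G) : Subgroup G) with hF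
  set m := Nat.card {a : W // r * (a : G) * (r * a) = 1} with hm
  set n := Nat.card {a : W // s * (a : G) * (s * a) = 1} with hn
  have hE := hχ.E1 t h.ot 1 (by rw [hχt t h.ot]; norm_num)
  rw [hy, ← hC] at h1
  have hp1 : (0 : ℤ) < p - 1 := by
    have : (5 : ℤ) ≤ p := by exact_mod_cast hp5
    linarith
  have hE2 : (Nat.card G : ℤ) * (2 * (p - 1)) = p * (Nat.card C : ℤ) ^ 2 * (2 * p - 1) := by
    have : (Nat.card G : ℤ) * (2 * (p - 1)) * (2 * (p - 1)) = p * (Nat.card C : ℤ) ^ 2 * (2 * p - 1) * (2 * (p - 1)) := by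
      have := hE
      push_cast at this
      linarith [this]
    exact mul_right_cancel₀ (by linarith) this
  have hE3 : (Nat.card G : ℂ) * (2 * (p - 1)) = p * (Nat.card C : ℂ) ^ 2 * (2 * p - 1) := by
    exact_mod_cast hE2
  have hpC : (p : ℂ) ≠ 0 := by
    have : p ≠ 0 := by omega
    exact_mod_cast this
  have hp2 : (2 * (p : ℂ) - 1) ≠ 0 := by
    intro h0
    have : (2 * (p : ℤ) - 1) = 0 := by exact_mod_cast h0
    omega
  have hcC : (Nat.card C : ℂ) ≠ 0 := by exact_mod_cast Nat.card_pos.ne'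
  have h5 : ((p : ℂ) - 1) * Nat.card W = ((m * n + m * n + n * m + n * m : ℕ) : ℂ) := by
    have e1 : (Nat.card C : ℂ) ^ 2 * (((p : ℂ) - 1) * Nat.card W) = (Nat.card C : ℂ) ^ 2 * ((m * n + m * n + n * m + n * m : ℕ) : ℂ) := by
      rw [← h1]
      have e2 : (Nat.card G : ℂ) * (Nat.card W * (2 * ((p : ℂ) - 1) ^ 2 / (p * (2 * p - 1)))) =
          ((Nat.card G : ℂ) * (2 * (p - 1))) * (Nat.card W * ((p : ℂ) - 1)) / (p * (2 * p - 1)) := by
        ring
      rw [e2, hE3, eq_div_iff (mul_ne_zero hpC hp2)]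
      ring
    exact mul_left_cancel₀ (pow_ne_zero 2 hcC) e1
  have h6 : (p - 1) * Nat.card W = 4 * (m * n) := by
    have e1 : (((p - 1) * Nat.card W : ℕ) : ℂ) = ((4 * (m * n) : ℕ) : ℂ) := by
      rw [Nat.cast_mul, Nat.cast_sub (by omega), Nat.cast_one, h5]
      push_cast
      ring
    exact_mod_cast e1
  have hWpos : 0 < Nat.card W := Nat.card_pos
  have h7 : Nat.card W * (4 * Nat.card W) = Nat.card W * ((p - 1) * F ^ 2) := by
    calc Nat.card W * (4 * Nat.card W) = 4 * (Nat.card W * Nat.card W) := by ring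
      _ = 4 * ((m * F) * (n * F)) := by rw [h3, h4]
      _ = (4 * (m * n)) * F ^ 2 := by ring
      _ = ((p - 1) * Nat.card W) * F ^ 2 := by rw [h6]
      _ = _ := by ring
  exact Nat.eq_of_mul_eq_mul_left hWpos h7

end gen

end Cfsg.Agent.Lib.H52_BC1
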