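import Mathlib
import Cfsg.Agent.Lib.H52T0
import Cfsg.Agent.Lib.RankTwoOrder

/-! `|U| |C_U(r,s)|^2 = |C_U(r)| |C_U(s)| |C_U(v)|` (helper57, piece of S3254). -/

set_option autoImplicit false
set_option linter.all false

namespace Cfsg.Agent.Lib.H52_BC3

open Cfsg Cfsg.Agent.Lib.BRPerm Cfsg.Agent.Lib.BRCore Cfsg.Agent.Lib.BRInd Cfsg.Agent.Lib.CharBasic Cfsg.Agent.Lib.BlockThird Cfsg.Agent.Lib.H52T0

universe u v

theorem arith {u A B D F p : ℕ} (hA : 0 < A) (hB : 0 < B) (hF : 0 < F)
    (h2 : 2 * u * (A ^ 2 + B ^ 2) = (p - 1) * A ^ 2 * B ^ 2) (h1 : 4 * D = (p - 1) * F ^ 2)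
    (h3 : u * F ^ 2 = A * B * D) : 4 * u = A ^ 2 * (p - 1) := by
  set q := p - 1 with hq
  clear_value q
  have e1 : F ^ 2 * (4 * u) = F ^ 2 * (A * B * q) := by
    calc F ^ 2 * (4 * u) = 4 * (u * F ^ 2) := by ring
      _ = A * B * (4 * D) := by rw [h3]; ring
      _ = _ := by rw [h1]; ring
  have e2 : 4 * u = A * B * q := Nat.eq_of_mul_eq_mul_left (pow_pos hF 2) e1
  rcases Nat.eq_zero_or_pos q with h0 | h0
  · subst h0; rw [e2]; simp
  · have e3 : (A * B * q) * (A ^ 2 + B ^ 2) = (A * B * q) * (2 * (A * B)) := by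
      calc (A * B * q) * (A ^ 2 + B ^ 2) = 2 * (2 * u * (A ^ 2 + B ^ 2)) := by rw [← e2]; ring
        _ = _ := by rw [h2]; ring
    have e4 : A ^ 2 + B ^ 2 = 2 * (A * B) := Nat.eq_of_mul_eq_mul_left (by positivity) e3
    have e5 : A = B := by
      have : ((A : ℤ) - B) ^ 2 = 0 := by
        have : ((A : ℤ)) ^ 2 + B ^ 2 = 2 * (A * B) := by exact_mod_cast e4
        linarith [this, sub_sq (A : ℤ) B]
      have h6 := pow_eq_zero_iff (two_ne_zero) |>.1 this
      omega
    subst e5
    rw [e2]; ring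

section
variable {G : Type u} [Group G] [Fintype G] {Ω : Type v} [Fintype Ω] [MulAction G Ω]

theorem enum {T : Sylow 2 G} {t r s v : G} {a b c : Ω} (h : D8 G Ω T t r s v a b c) :
    (∀ x ∈ (T : Subgroup G), x = 1 ∨ x = t ∨ x = v ∨ x = v * t ∨ x = r ∨ x = t * r ∨ x = s ∨ x = t * s) := by
  have hrr : r * r = 1 := by have := pow_orderOf_eq_one r; rwa [h.or, pow_two] at this
  have hss : s * s = 1 := by have := pow_orderOf_eq_one s; rwa [h.os, pow_two] at this
  have htt : t * t = 1 := by have := pow_orderOf_eq_one t; rwa [h.ot, pow_two] at this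
  have hvT : v ∈ (T : Subgroup G) := by rw [← h.rs]; exact T.mul_mem h.rT h.sT
  have hvt : v * t = t * v := by rw [← h.vv, mul_assoc]
  have hz : ∀ x ∈ Subgroup.zpowers v, x = 1 ∨ x = t ∨ x = v ∨ x = v * t := by
    intro x hx
    rw [← mem_powers_iff_mem_zpowers] at hx
    obtain ⟨k, hk⟩ := hx
    have h4 : v ^ k = v ^ (k % 4) := by rw [← h.ov, pow_mod_orderOf]
    have hk : x = v ^ (k % 4) := by rw [← h4]; exact hk.symm
    have h5 : k % 4 < 4 := Nat.mod_lt _ (by norm_num)
    set m := k % 4 with hm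
    clear_value m
    interval_cases m
    · left; rw [hk, pow_zero]
    · right; right; left; rw [hk, pow_one]
    · right; left; rw [hk, pow_two, h.vv]
    · right; right; right; rw [hk, pow_succ, pow_two, h.vv, hvt]
  have hrv : r ∉ Subgroup.zpowers v := by
    intro h1
    rcases hz r h1 with h2 | h2 | h2 | h2
    · have := h.or; rw [h2, orderOf_one] at this; omega
    · exact h.rnt h2
    · have := h.or; rw [h2, h.ov] at this; omega
    · have h3 : r * r = v * v * (t * t) := by
        calc r * r = v * (t * v) * t := by rw [h2]; group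
          _ = v * (v * t) * t := by rw [hvt]
          _ = _ := by group
      rw [hrr, htt, mul_one, h.vv] at h3
      have := h.ot; rw [← h3, orderOf_one] at this; omega
  have hidx : ((Subgroup.zpowers v).subgroupOf (T : Subgroup G)).index = 2 := by
    have h1 := Subgroup.card_mul_index ((Subgroup.zpowers v).subgroupOf (T : Subgroup G))
    have h2 : Nat.card ((Subgroup.zpowers v).subgroupOf (T : Subgroup G)) = 4 := by
      rw [Nat.card_congr (Subgroup.subgroupOfEquivOfLe ((Subgroup.zpowers_le).2 hvT)).toEquiv, Nat.card_zpowers, h.ov]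
    have h3 : Nat.card (T : Subgroup G) = 8 := h.card
    rw [h2, h3] at h1
    omega
  have hrvs : v * r = t * s := by
    calc v * r = v * r * (s * s) := by rw [hss, mul_one]
      _ = v * (r * s) * s := by group
      _ = t * s := by rw [h.rs, h.vv]
  intro x hx
  by_cases hx1 : x ∈ Subgroup.zpowers v
  · rcases hz x hx1 with h1 | h1 | h1 | h1
    · exact Or.inl h1
    · exact Or.inr (Or.inl h1)
    · exact Or.inr (Or.inr (Or.inl h1))
    · exact Or.inr (Or.inr (Or.inr (Or.inl h1)))
  · have h2 := (Subgroup.mul_mem_iff_of_index_two hidx (a := (⟨x, hx⟩ : (T : Subgroup G))) (b := ⟨r, h.rT⟩)).2 (by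
      constructor
      · intro h3; exact absurd (Subgroup.mem_subgroupOf.1 h3) hx1
      · intro h3; exact absurd (Subgroup.mem_subgroupOf.1 h3) hrv)
    have h3 : x * r ∈ Subgroup.zpowers v := Subgroup.mem_subgroupOf.1 h2
    have h4 : x = (x * r) * r := by rw [mul_assoc, hrr, mul_one]
    rcases hz _ h3 with h5 | h5 | h5 | h5
    · rw [h5, one_mul] at h4; simp [h4]
    · rw [h5] at h4; simp [h4]
    · rw [h5] at h4; rw [hrvs] at h4; simp [h4]
    · rw [h5, hvt, mul_assoc, hrvs, ← mul_assoc, htt, one_mul] at h4; simp [h4]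

theorem card4 (H : Subgroup G) (t y : G) (hmem : ∀ x, x ∈ H ↔ x = 1 ∨ x = t ∨ x = y ∨ x = t * y)
    (ht1 : t ≠ 1) (hy1 : y ≠ 1) (hyt : y ≠ t) (htt : t * t = 1) : Nat.card H = 4 := by
  classical
  have e1 : (H : Set G) = ↑({1, t, y, t * y} : Finset G) := by
    ext x
    rw [SetLike.mem_coe, hmem]
    simp
  have e2 : Nat.card H = Nat.card ((H : Set G)) := rfl
  have n1 : t ≠ t * y := by
    intro h; exact hy1 (mul_left_cancel ((mul_one t).trans h)).symm
  have n2 : y ≠ t * y := by
    intro h; exact ht1 (mul_right_cancel ((one_mul y).trans h)).symm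
  have n3 : (1 : G) ≠ t * y := by
    intro h; apply hyt
    calc y = t * (t * y) := by rw [← mul_assoc, htt, one_mul]
      _ = t := by rw [← h, mul_one]
  rw [e2, e1, Nat.card_eq_fintype_card]
  simp only [Finset.coe_sort_coe, Fintype.card_coe]
  rw [Finset.card_insert_of_notMem, Finset.card_insert_of_notMem, Finset.card_insert_of_notMem, Finset.card_singleton]
  · simpa using n2
  · simp only [Finset.mem_insert, Finset.mem_singleton, not_or]; exact ⟨hyt.symm, n1⟩
  · simp only [Finset.mem_insert, Finset.mem_singleton, not_or]; exact ⟨ht1.symm, hy1.symm, n3⟩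

theorem card2 (H : Subgroup G) (t : G) (hmem : ∀ x, x ∈ H ↔ x = 1 ∨ x = t) (ht1 : t ≠ 1) : Nat.card H = 2 := by
  classical
  have e1 : (H : Set G) = ↑({1, t} : Finset G) := by
    ext x
    rw [SetLike.mem_coe, hmem]
    simp
  have e2 : Nat.card H = Nat.card ((H : Set G)) := rfl
  rw [e2, e1, Nat.card_eq_fintype_card]
  simp only [Finset.coe_sort_coe, Fintype.card_coe]
  rw [Finset.card_insert_of_notMem, Finset.card_singleton]
  simpa using ht1.symm

theorem star3 {T : Sylow 2 G} {t r s v : G} {a b c : Ω} (h : D8 G Ω T t r s v a b c) {U : Subgroup G}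
    (hU : Cen G T t U) :
    Nat.card U * Nat.card (U ⊓ Subgroup.centralizer ({r} : Set G) ⊓ Subgroup.centralizer ({s} : Set G) : Subgroup G) ^ 2 =
      Nat.card (U ⊓ Subgroup.centralizer ({r} : Set G) : Subgroup G) *
      Nat.card (U ⊓ Subgroup.centralizer ({s} : Set G) : Subgroup G) *
      Nat.card (U ⊓ Subgroup.centralizer ({v} : Set G) : Subgroup G) := by
  classical
  have hen := enum h
  have hrr : r * r = 1 := by have := pow_orderOf_eq_one r; rwa [h.or, pow_two] at this
  have hss : s * s = 1 := by have := pow_orderOf_eq_one s; rwa [h.os, pow_two] at this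
  have htt : t * t = 1 := by have := pow_orderOf_eq_one t; rwa [h.ot, pow_two] at this
  have ht1 : t ≠ 1 := by intro h1; have := h.ot; rw [h1, orderOf_one] at this; omega
  have hvT : v ∈ (T : Subgroup G) := by rw [← h.rs]; exact T.mul_mem h.rT h.sT
  have hvt : v * t = t * v := by rw [← h.vv, mul_assoc]
  have hsrv : s = r * v := by rw [← h.rs, ← mul_assoc, hrr, one_mul]
  have hvr : v * r = t * s := by
    calc v * r = v * r * (s * s) := by rw [hss, mul_one]
      _ = v * (r * s) * s := by group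
      _ = t * s := by rw [h.rs, h.vv]
  have hsr : s * r = t * v := by
    calc s * r = t * (t * s * r) := by rw [← mul_assoc, ← mul_assoc, htt, one_mul]
      _ = t * (v * r * r) := by rw [hvr]
      _ = t * v := by rw [mul_assoc v, hrr, mul_one]
  have hvs : v * s = r := by rw [← h.rs, mul_assoc, hss, mul_one]
  have hsv : s * v = t * r := by
    calc s * v = s * (r * s) := by rw [h.rs]
      _ = (s * r) * s := by group
      _ = t * (v * s) := by rw [hsr]; group
      _ = _ := by rw [hvs]
  -- noncommuting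
  have ne1 : ∀ x : G, x ≠ t * x := by
    intro x h1
    exact ht1 (mul_right_cancel (h1.symm.trans (one_mul x).symm))
  have hTC : (T : Subgroup G) ≤ Subgroup.centralizer ({t} : Set G) := by rw [← hU.sup]; exact le_sup_right
  have hTn : (T : Subgroup G) ≤ Subgroup.normalizer (U : Set G) := by
    intro x hx
    rw [Subgroup.mem_normalizer_iff]
    intro y
    constructor
    · intro hy; exact hU.nor x (hTC hx) y hy
    · intro hy
      have := hU.nor x⁻¹ (Subgroup.inv_mem _ (hTC hx)) _ hy
      have e : x⁻¹ * (x * y * x⁻¹) * x⁻¹⁻¹ = y := by group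
      rwa [e] at this
  have hcT : Nat.card (T : Subgroup G) = 8 := h.card
  have hcop : (Nat.card (T : Subgroup G)).Coprime (Nat.card U) := by
    rw [hcT, show (8 : ℕ) = 2 ^ 3 by norm_num]
    exact Nat.Coprime.pow_left _ ((Nat.coprime_two_left).2 hU.odd)
  have hsolv : Group.IsSolvable (T : Subgroup G) := by
    haveI : Group.IsNilpotent (T : Subgroup G) := T.2.isNilpotent
    infer_instance
  have mc : ∀ x y : G, x ∈ Subgroup.centralizer ({y} : Set G) ↔ y * x = x * y := by
    intro x y; rw [Subgroup.mem_centralizer_singleton_iff]; exact eq_comm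
  have tr : t ∈ Subgroup.centralizer ({r} : Set G) := (mc _ _).2 h.rt
  have ts : t ∈ Subgroup.centralizer ({s} : Set G) := (mc _ _).2 h.st
  have tv : t ∈ Subgroup.centralizer ({v} : Set G) := (mc _ _).2 hvt
  have rr : r ∈ Subgroup.centralizer ({r} : Set G) := (mc _ _).2 rfl
  have ss : s ∈ Subgroup.centralizer ({s} : Set G) := (mc _ _).2 rfl
  have vv : v ∈ Subgroup.centralizer ({v} : Set G) := (mc _ _).2 rfl
  have rs : r ∉ Subgroup.centralizer ({s} : Set G) := by
    rw [mc, hsr, h.rs]; exact fun h => ne1 _ h.symm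
  have rv : r ∉ Subgroup.centralizer ({v} : Set G) := by
    rw [mc, hvr, ← hsrv]; exact fun h => ne1 _ h.symm
  have sr : s ∉ Subgroup.centralizer ({r} : Set G) := by
    rw [mc, hsr, h.rs]; exact fun h => ne1 _ h
  have sv : s ∉ Subgroup.centralizer ({v} : Set G) := by
    rw [mc, hvs, hsv]; exact fun h => ne1 _ h
  have vr : v ∉ Subgroup.centralizer ({r} : Set G) := by
    rw [mc, hvr, ← hsrv]; exact fun h => ne1 _ h
  have vs : v ∉ Subgroup.centralizer ({s} : Set G) := by
    rw [mc, hvs, hsv]; exact fun h => ne1 _ h.symm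
  have hv1 : v ≠ 1 := by intro h1; have := h.ov; rw [h1, orderOf_one] at this; omega
  have hvt' : v ≠ t := by intro h1; have := h.ov; rw [h1, h.ot] at this; omega
  have hr1 : r ≠ 1 := by intro h1; have := h.or; rw [h1, orderOf_one] at this; omega
  have hs1 : s ≠ 1 := by intro h1; have := h.os; rw [h1, orderOf_one] at this; omega
  -- descriptions
  have m0 : ∀ x, x ∈ (T : Subgroup G) ⊓ Subgroup.centralizer ({r} : Set G) ↔ x = 1 ∨ x = t ∨ x = r ∨ x = t * r := by
    intro x
    constructor
    · rintro ⟨hx, hx2⟩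
      have hx2 : x ∈ Subgroup.centralizer ({r} : Set G) := hx2
      rcases hen x hx with h1 | h1 | h1 | h1 | h1 | h1 | h1 | h1
      · exact Or.inl h1
      · exact Or.inr (Or.inl h1)
      · subst h1; exact absurd hx2 vr
      · rw [h1] at hx2; exact absurd ((Subgroup.mul_mem_cancel_right _ tr).1 hx2) vr
      · exact Or.inr (Or.inr (Or.inl h1))
      · exact Or.inr (Or.inr (Or.inr h1))
      · subst h1; exact absurd hx2 sr
      · rw [h1] at hx2; exact absurd ((Subgroup.mul_mem_cancel_left _ tr).1 hx2) sr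
    · rintro (h1 | h1 | h1 | h1) <;> subst h1
      · exact Subgroup.one_mem _
      · exact ⟨h.tT, tr⟩
      · exact ⟨h.rT, rr⟩
      · exact ⟨T.mul_mem h.tT h.rT, Subgroup.mul_mem _ tr rr⟩
  have m1 : ∀ x, x ∈ (T : Subgroup G) ⊓ Subgroup.centralizer ({s} : Set G) ↔ x = 1 ∨ x = t ∨ x = s ∨ x = t * s := by
    intro x
    constructor
    · rintro ⟨hx, hx2⟩
      have hx2 : x ∈ Subgroup.centralizer ({s} : Set G) := hx2
      rcases hen x hx with h1 | h1 | h1 | h1 | h1 | h1 | h1 | h1
      · exact Or.inl h1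
      · exact Or.inr (Or.inl h1)
      · subst h1; exact absurd hx2 vs
      · rw [h1] at hx2; exact absurd ((Subgroup.mul_mem_cancel_right _ ts).1 hx2) vs
      · subst h1; exact absurd hx2 rs
      · rw [h1] at hx2; exact absurd ((Subgroup.mul_mem_cancel_left _ ts).1 hx2) rs
      · exact Or.inr (Or.inr (Or.inl h1))
      · exact Or.inr (Or.inr (Or.inr h1))
    · rintro (h1 | h1 | h1 | h1) <;> subst h1
      · exact Subgroup.one_mem _
      · exact ⟨h.tT, ts⟩
      · exact ⟨h.sT, ss⟩
      · exact ⟨T.mul_mem h.tT h.sT, Subgroup.mul_mem _ ts ss⟩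
  have m2 : ∀ x, x ∈ (T : Subgroup G) ⊓ Subgroup.centralizer ({v} : Set G) ↔ x = 1 ∨ x = t ∨ x = v ∨ x = t * v := by
    intro x
    constructor
    · rintro ⟨hx, hx2⟩
      have hx2 : x ∈ Subgroup.centralizer ({v} : Set G) := hx2
      rcases hen x hx with h1 | h1 | h1 | h1 | h1 | h1 | h1 | h1
      · exact Or.inl h1
      · exact Or.inr (Or.inl h1)
      · exact Or.inr (Or.inr (Or.inl h1))
      · exact Or.inr (Or.inr (Or.inr (h1.trans hvt)))
      · subst h1; exact absurd hx2 rv
      · rw [h1] at hx2; exact absurd ((Subgroup.mul_mem_cancel_left _ tv).1 hx2) rv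
      · subst h1; exact absurd hx2 sv
      · rw [h1] at hx2; exact absurd ((Subgroup.mul_mem_cancel_left _ tv).1 hx2) sv
    · rintro (h1 | h1 | h1 | h1) <;> subst h1
      · exact Subgroup.one_mem _
      · exact ⟨h.tT, tv⟩
      · exact ⟨hvT, vv⟩
      · exact ⟨T.mul_mem h.tT hvT, Subgroup.mul_mem _ tv vv⟩
  have m4 : ∀ x, x ∈ (T : Subgroup G) ⊓ Subgroup.centralizer ({r} : Set G) ⊓ Subgroup.centralizer ({s} : Set G) ↔ x = 1 ∨ x = t := by
    intro x
    constructor
    · rintro ⟨hx, hx2⟩
      have hx2 : x ∈ Subgroup.centralizer ({s} : Set G) := hx2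
      rcases (m0 x).1 hx with h1 | h1 | h1 | h1
      · exact Or.inl h1
      · exact Or.inr h1
      · subst h1; exact absurd hx2 rs
      · rw [h1] at hx2; exact absurd ((Subgroup.mul_mem_cancel_left _ ts).1 hx2) rs
    · rintro (h1 | h1) <;> subst h1
      · exact Subgroup.one_mem _
      · exact ⟨⟨h.tT, tr⟩, ts⟩
  have n0 := card4 _ t r m0 ht1 hr1 h.rnt htt
  have n1 := card4 _ t s m1 ht1 hs1 h.snt htt
  have n2 := card4 _ t v m2 ht1 hv1 hvt' htt
  have n4 := card2 _ t m4 ht1
  -- fixed points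
  have tU : ∀ x ∈ U, t * x = x * t := fun x hx => (mc _ _).1 (hU.le hx)
  have f0 : U ⊓ Subgroup.centralizer (((T : Subgroup G) ⊓ Subgroup.centralizer ({r} : Set G) : Subgroup G) : Set G) =
      U ⊓ Subgroup.centralizer ({r} : Set G) := by
    ext x
    constructor
    · rintro ⟨hx, hx2⟩
      exact ⟨hx, (mc _ _).2 (Subgroup.mem_centralizer_iff.1 hx2 r ⟨h.rT, rr⟩)⟩
    · rintro ⟨hx, hx2⟩
      have e1 := (mc _ _).1 hx2
      refine ⟨hx, Subgroup.mem_centralizer_iff.2 ?_⟩
      intro y hy
      rcases (m0 y).1 hy with h1 | h1 | h1 | h1 <;> rw [h1]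
      · rw [one_mul, mul_one]
      · exact tU x hx
      · exact e1
      · rw [mul_assoc, e1, ← mul_assoc, tU x hx, mul_assoc]
  have f1 : U ⊓ Subgroup.centralizer (((T : Subgroup G) ⊓ Subgroup.centralizer ({s} : Set G) : Subgroup G) : Set G) =
      U ⊓ Subgroup.centralizer ({s} : Set G) := by
    ext x
    constructor
    · rintro ⟨hx, hx2⟩
      exact ⟨hx, (mc _ _).2 (Subgroup.mem_centralizer_iff.1 hx2 s ⟨h.sT, ss⟩)⟩
    · rintro ⟨hx, hx2⟩
      have e1 := (mc _ _).1 hx2
      refine ⟨hx, Subgroup.mem_centralizer_iff.2 ?_⟩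
      intro y hy
      rcases (m1 y).1 hy with h1 | h1 | h1 | h1 <;> rw [h1]
      · rw [one_mul, mul_one]
      · exact tU x hx
      · exact e1
      · rw [mul_assoc, e1, ← mul_assoc, tU x hx, mul_assoc]
  have f2 : U ⊓ Subgroup.centralizer (((T : Subgroup G) ⊓ Subgroup.centralizer ({v} : Set G) : Subgroup G) : Set G) =
      U ⊓ Subgroup.centralizer ({v} : Set G) := by
    ext x
    constructor
    · rintro ⟨hx, hx2⟩
      exact ⟨hx, (mc _ _).2 (Subgroup.mem_centralizer_iff.1 hx2 v ⟨hvT, vv⟩)⟩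
    · rintro ⟨hx, hx2⟩
      have e1 := (mc _ _).1 hx2
      refine ⟨hx, Subgroup.mem_centralizer_iff.2 ?_⟩
      intro y hy
      rcases (m2 y).1 hy with h1 | h1 | h1 | h1 <;> rw [h1]
      · rw [one_mul, mul_one]
      · exact tU x hx
      · exact e1
      · rw [mul_assoc, e1, ← mul_assoc, tU x hx, mul_assoc]
  have f3 : U ⊓ Subgroup.centralizer ((T : Subgroup G) : Set G) =
      U ⊓ Subgroup.centralizer ({r} : Set G) ⊓ Subgroup.centralizer ({s} : Set G) := by
    ext x
    constructor
    · rintro ⟨hx, hx2⟩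
      exact ⟨⟨hx, (mc _ _).2 (Subgroup.mem_centralizer_iff.1 hx2 r h.rT)⟩, (mc _ _).2 (Subgroup.mem_centralizer_iff.1 hx2 s h.sT)⟩
    · rintro ⟨⟨hx, hx2⟩, hx3⟩
      have e1 := (mc _ _).1 hx2
      have e2 := (mc _ _).1 hx3
      have e3 : v * x = x * v := by rw [← h.rs, mul_assoc, e2, ← mul_assoc, e1, mul_assoc]
      refine ⟨hx, Subgroup.mem_centralizer_iff.2 ?_⟩
      intro y hy
      rcases hen y hy with h1 | h1 | h1 | h1 | h1 | h1 | h1 | h1 <;> rw [h1]
      · rw [one_mul, mul_one]
      · exact tU x hx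
      · exact e3
      · rw [mul_assoc, tU x hx, ← mul_assoc, e3, mul_assoc]
      · exact e1
      · rw [mul_assoc, e1, ← mul_assoc, tU x hx, mul_assoc]
      · exact e2
      · rw [mul_assoc, e2, ← mul_assoc, tU x hx, mul_assoc]
  have f4 : U ⊓ Subgroup.centralizer (((T : Subgroup G) ⊓ Subgroup.centralizer ({r} : Set G) ⊓
      Subgroup.centralizer ({s} : Set G) : Subgroup G) : Set G) = U := by
    apply le_antisymm inf_le_left
    intro x hx
    refine ⟨hx, Subgroup.mem_centralizer_iff.2 ?_⟩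
    intro y hy
    rcases (m4 y).1 hy with h1 | h1 <;> rw [h1]
    · rw [one_mul, mul_one]
    · exact tU x hx
  have key := Cfsg.Agent.Lib.RankTwoOrder.wielandt_log' hTn hcop hsolv
    (S := ![(T : Subgroup G) ⊓ Subgroup.centralizer ({r} : Set G), (T : Subgroup G) ⊓ Subgroup.centralizer ({s} : Set G),
      (T : Subgroup G) ⊓ Subgroup.centralizer ({v} : Set G), (T : Subgroup G),
      (T : Subgroup G) ⊓ Subgroup.centralizer ({r} : Set G) ⊓ Subgroup.centralizer ({s} : Set G)])
    (by
      intro i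
      fin_cases i
      · exact inf_le_left
      · exact inf_le_left
      · exact inf_le_left
      · exact le_rfl
      · exact inf_le_left.trans inf_le_left)
    (c := ![1, 1, 1, -1, -2])
    (by
      intro x hx
      have hrt2 : t * r ≠ 1 := by
        intro h1; apply h.rnt; exact (eq_inv_of_mul_eq_one_right h1).trans (inv_eq_of_mul_eq_one_left htt)
      simp only [Fin.sum_univ_five, Matrix.cons_val_zero, Matrix.cons_val_one, Matrix.cons_val]
      have w3 : x ∈ (T : Subgroup G) := hx
      have w0 : x ∈ (T : Subgroup G) ⊓ Subgroup.centralizer ({r} : Set G) ↔ x ∈ Subgroup.centralizer ({r} : Set G) :=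
        ⟨fun h => h.2, fun h => ⟨hx, h⟩⟩
      have w1 : x ∈ (T : Subgroup G) ⊓ Subgroup.centralizer ({s} : Set G) ↔ x ∈ Subgroup.centralizer ({s} : Set G) :=
        ⟨fun h => h.2, fun h => ⟨hx, h⟩⟩
      have w2 : x ∈ (T : Subgroup G) ⊓ Subgroup.centralizer ({v} : Set G) ↔ x ∈ Subgroup.centralizer ({v} : Set G) :=
        ⟨fun h => h.2, fun h => ⟨hx, h⟩⟩
      have w4 : x ∈ (T : Subgroup G) ⊓ Subgroup.centralizer ({r} : Set G) ⊓ Subgroup.centralizer ({s} : Set G) ↔
          x ∈ Subgroup.centralizer ({r} : Set G) ∧ x ∈ Subgroup.centralizer ({s} : Set G) :=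
        ⟨fun h => ⟨h.1.2, h.2⟩, fun h => ⟨⟨hx, h.1⟩, h.2⟩⟩
      simp only [w0, w1, w2, w4, w3, if_true]
      rcases hen x hx with h1 | h1 | h1 | h1 | h1 | h1 | h1 | h1
      · subst h1; simp [Subgroup.one_mem]
      · subst h1; simp [tr, ts, tv]
      · subst h1; simp [vr, vs, vv]
      · have a1 : x ∉ Subgroup.centralizer ({r} : Set G) := by
          rw [h1]; exact fun h => vr ((Subgroup.mul_mem_cancel_right _ tr).1 h)
        have a2 : x ∉ Subgroup.centralizer ({s} : Set G) := by
          rw [h1]; exact fun h => vs ((Subgroup.mul_mem_cancel_right _ ts).1 h)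
        have a3 : x ∈ Subgroup.centralizer ({v} : Set G) := by rw [h1]; exact Subgroup.mul_mem _ vv tv
        simp [a1, a2, a3]
      · subst h1; simp [rr, rs, rv]
      · have a1 : x ∈ Subgroup.centralizer ({r} : Set G) := by rw [h1]; exact Subgroup.mul_mem _ tr rr
        have a2 : x ∉ Subgroup.centralizer ({s} : Set G) := by
          rw [h1]; exact fun h => rs ((Subgroup.mul_mem_cancel_left _ ts).1 h)
        have a3 : x ∉ Subgroup.centralizer ({v} : Set G) := by
          rw [h1]; exact fun h => rv ((Subgroup.mul_mem_cancel_left _ tv).1 h)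
        simp [a1, a2, a3]
      · subst h1; simp [sr, ss, sv]
      · have a1 : x ∉ Subgroup.centralizer ({r} : Set G) := by
          rw [h1]; exact fun h => sr ((Subgroup.mul_mem_cancel_left _ tr).1 h)
        have a2 : x ∈ Subgroup.centralizer ({s} : Set G) := by rw [h1]; exact Subgroup.mul_mem _ ts ss
        have a3 : x ∉ Subgroup.centralizer ({v} : Set G) := by
          rw [h1]; exact fun h => sv ((Subgroup.mul_mem_cancel_left _ tv).1 h)
        simp [a1, a2, a3])
  simp only [Fin.sum_univ_five, Matrix.cons_val_zero, Matrix.cons_val_one, Matrix.cons_val] at key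
  rw [f0, f1, f2, f3, f4, n0, n1, n2, n4, hcT] at key
  set A := Nat.card (U ⊓ Subgroup.centralizer ({r} : Set G) : Subgroup G) with hA
  set B := Nat.card (U ⊓ Subgroup.centralizer ({s} : Set G) : Subgroup G) with hB
  set D := Nat.card (U ⊓ Subgroup.centralizer ({v} : Set G) : Subgroup G) with hD
  set F := Nat.card (U ⊓ Subgroup.centralizer ({r} : Set G) ⊓ Subgroup.centralizer ({s} : Set G) : Subgroup G) with hF
  have pA : (0 : ℝ) < A := by exact_mod_cast (Nat.card_pos : 0 < A)
  have pB : (0 : ℝ) < B := by exact_mod_cast (Nat.card_pos : 0 < B)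
  have pD : (0 : ℝ) < D := by exact_mod_cast (Nat.card_pos : 0 < D)
  have pF : (0 : ℝ) < F := by exact_mod_cast (Nat.card_pos : 0 < F)
  have pU : (0 : ℝ) < Nat.card U := by exact_mod_cast (Nat.card_pos : 0 < Nat.card U)
  have e1 : Real.log ((Nat.card U : ℝ) * (F : ℝ) ^ 2) = Real.log ((A : ℝ) * B * D) := by
    rw [Real.log_mul pU.ne' (by positivity), Real.log_pow, Real.log_mul (by positivity) pD.ne', Real.log_mul pA.ne' pB.ne']
    push_cast at key ⊢
    linarith
  have e2 := Real.log_injOn_pos (Set.mem_Ioi.2 (by positivity)) (Set.mem_Ioi.2 (by positivity)) e1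
  exact_mod_cast e2

end

end Cfsg.Agent.Lib.H52_BC3
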