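import Mathlib
import Cfsg.Agent.Lib.H52T0
import Cfsg.Agent.Lib.H52_BC2a
import Cfsg.Agent.Lib.H25Nine

/-! S3254, BCOUNT [*2] (helper1): `2 |U| (A² + B²) = (p - 1) A² B²` -/

set_option autoImplicit false
set_option linter.all false

namespace Cfsg.Agent.Lib.H52_BCOUNT2

open Cfsg Cfsg.Agent.Lib.BRPerm Cfsg.Agent.Lib.BRCore Cfsg.Agent.Lib.BRInd Cfsg.Agent.Lib.CharBasic Cfsg.Agent.Lib.BlockThird Cfsg.Agent.Lib.H52T0
open Cfsg.Agent.Lib.H52_BC2a Cfsg.Agent.Lib.H25Nine
open scoped Classical ComplexConjugate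

universe u v

section gen
variable {G : Type u} [Group G] [Fintype G] {Ω : Type v} [Fintype Ω] [MulAction G Ω] {p : ℕ}

/-- the class algebra constants of `t`, `t`, summed over the coset `t U` -/
theorem sum_sc {t : G} (ht : orderOf t = 2) (hconj : ∀ s : G, orderOf s = 2 → IsConj t s) {U : Subgroup G}
    (hodd : Odd (Nat.card U)) (hUC : U ≤ Subgroup.centralizer ({t} : Set G)) {x : IrrCharacter G → ℤ}
    (hx : ∀ η : IrrCharacter G, ∑ᶠ g ∈ (U : Set G), (η : G → ℂ) (t * g) = x η * Nat.card U) :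
    (Nat.card G : ℂ) * (Nat.card U * ∑ η : IrrCharacter G, (x η : ℂ) * (η : G → ℂ) t ^ 2 / (η : G → ℂ) 1) =
      (Nat.card (Subgroup.centralizer ({t} : Set G)) : ℂ) ^ 2 *
        ((∑ u : U, (Finset.univ.filter fun w : Subgroup.centralizer ({t} : Set G) =>
          orderOf (w : G) = 2 ∧ orderOf ((w : G)⁻¹ * (t * u)) = 2).card : ℕ) : ℂ) := by
  obtain ⟨htt, ht1⟩ := order_two_iff.mp ht
  have hc2 : ∀ s : G, IsConj t s ↔ orderOf s = 2 := by
    intro s
    constructor
    · intro h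
      obtain ⟨g, hg⟩ := isConj_iff.mp h
      rw [← hg, ← ht]
      exact (MulAut.conj g).orderOf_eq t
    · exact hconj s
  have hS : ∀ u : U, ∀ w v : G, IsConj t w → IsConj t v → w * v = t * u →
      w ∈ Subgroup.centralizer ({t} : Set G) := by
    intro u w v hw hv hwv
    obtain ⟨hww, _⟩ := order_two_iff.mp ((hc2 w).mp hw)
    obtain ⟨hvv, _⟩ := order_two_iff.mp ((hc2 v).mp hv)
    have hut : (u : G) * t = t * u := Subgroup.mem_centralizer_singleton_iff.mp (hUC u.2)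
    have hwi : w⁻¹ = w := inv_eq_of_mul_eq_one_left hww
    have hvi : v⁻¹ = v := inv_eq_of_mul_eq_one_left hvv
    have e1 : w * (t * u) * w⁻¹ = (t * (u : G))⁻¹ := by
      rw [← hwv, mul_inv_rev, hwi, hvi, ← mul_assoc, hww, one_mul]
    obtain ⟨k, hk⟩ := hodd
    have hu1 : (u : G) ^ (2 * k + 1) = 1 := by
      rw [← hk]
      have h9 : (u : U) ^ Nat.card U = 1 := pow_card_eq_one'
      have h10 := congrArg Subtype.val h9
      exact h10
    have htk : t ^ (2 * k + 1) = t := by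
      rw [pow_succ, pow_mul, pow_two, htt, one_pow, one_mul]
    have hcomm : Commute t (u : G) := hut.symm
    have e2 : (t * (u : G)) ^ (2 * k + 1) = t := by
      rw [hcomm.mul_pow, hu1, htk, mul_one]
    have e3 : w * t * w⁻¹ = t⁻¹ := by
      conv_lhs => rw [← e2]
      rw [← conj_pow, e1, inv_pow, e2]
    have hti : t⁻¹ = t := inv_eq_of_mul_eq_one_left htt
    rw [Subgroup.mem_centralizer_singleton_iff]
    rw [hti] at e3
    calc w * t = w * t * w⁻¹ * w := by group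
      _ = t * w := by rw [e3]
  have h1 : ∀ u : U, (Nat.card G : ℂ) * ∑ χ : IrrCharacter G,
        (χ : G → ℂ) t * (χ : G → ℂ) t * conj ((χ : G → ℂ) (t * u)) / (χ : G → ℂ) 1 =
      (Nat.card (Subgroup.centralizer ({t} : Set G)) : ℂ) ^ 2 *
        (((Finset.univ.filter fun w : Subgroup.centralizer ({t} : Set G) =>
          orderOf (w : G) = 2 ∧ orderOf ((w : G)⁻¹ * (t * u)) = 2).card : ℕ) : ℂ) := by
    intro u
    have := sc_sub (G := G) (S := Subgroup.centralizer ({t} : Set G)) (x := t) (y := t) (z := t * u) (hS u)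
    rw [this]
    have e : (Finset.univ.filter fun w : Subgroup.centralizer ({t} : Set G) =>
          orderOf (w : G) = 2 ∧ orderOf ((w : G)⁻¹ * (t * u)) = 2) =
        (Finset.univ.filter fun w : Subgroup.centralizer ({t} : Set G) =>
          IsConj t (w : G) ∧ IsConj t ((w : G)⁻¹ * (t * u))) := by
      apply Finset.filter_congr
      intro w _
      rw [hc2, hc2]
    rw [e, pow_two]
  rw [Nat.cast_sum]
  conv_rhs => rw [Finset.mul_sum]
  have h2 : ∀ η : IrrCharacter G, ∑ u : U, conj ((η : G → ℂ) (t * u)) = x η * Nat.card U := by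
    intro η
    rw [← map_sum]
    have e1 : ∑ u : U, (η : G → ℂ) (t * u) = x η * Nat.card U := by
      rw [← hx η]
      rw [← finsum_set_coe_eq_finsum_mem, finsum_eq_sum_of_fintype]
      rfl
    rw [e1]
    simp
  calc (Nat.card G : ℂ) * (Nat.card U * ∑ η : IrrCharacter G, (x η : ℂ) * (η : G → ℂ) t ^ 2 / (η : G → ℂ) 1)
      = (Nat.card G : ℂ) * ∑ η : IrrCharacter G, ∑ u : U, (η : G → ℂ) t * (η : G → ℂ) t * conj ((η : G → ℂ) (t * u)) / (η : G → ℂ) 1 := by
        congr 1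
        rw [Finset.mul_sum]
        apply Finset.sum_congr rfl
        intro η _
        rw [← Finset.sum_div, ← Finset.mul_sum, h2]
        ring
    _ = ∑ u : U, ((Nat.card G : ℂ) * ∑ η : IrrCharacter G, (η : G → ℂ) t * (η : G → ℂ) t * conj ((η : G → ℂ) (t * u)) / (η : G → ℂ) 1) := by
        rw [Finset.sum_comm, Finset.mul_sum]
    _ = _ := by
        apply Finset.sum_congr rfl
        intro u _
        exact h1 u

theorem BC2 (hB : Base G Ω p) {χ : IrrCharacter G} (hχ : CharD G p 2 χ) (hχt : ∀ t : G, orderOf t = 2 → (χ : G → ℂ) t = 1)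
    {T : Sylow 2 G} {t r s v : G} {a b c : Ω} (h : D8 G Ω T t r s v a b c) {U : Subgroup G}
    (hU : Cen G T t U) {x y : IrrCharacter G → ℤ} (hs : Sec G t v U x y)
    (hx : ∑ η : IrrCharacter G, (x η : ℂ) * (η : G → ℂ) t ^ 2 / (η : G → ℂ) 1 = 2 * ((p : ℂ) - 1) ^ 2 / (p * (2 * p - 1))) :
    2 * Nat.card U * (Nat.card (U ⊓ Subgroup.centralizer ({r} : Set G) : Subgroup G) ^ 2 +
        Nat.card (U ⊓ Subgroup.centralizer ({s} : Set G) : Subgroup G) ^ 2) =
      (p - 1) * (Nat.card (U ⊓ Subgroup.centralizer ({r} : Set G) : Subgroup G) ^ 2 *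
        Nat.card (U ⊓ Subgroup.centralizer ({s} : Set G) : Subgroup G) ^ 2) := by
  have hp5 := hB.h5
  set C := Subgroup.centralizer ({t} : Set G) with hC
  have htC : ∀ x ∈ C, t * x = x * t := by
    intro x hx
    exact (Subgroup.mem_centralizer_singleton_iff.mp hx).symm
  have hTC : (T : Subgroup G) ≤ C := by
    rw [hC, ← hU.sup]; exact le_sup_right
  have h1 := sum_sc h.ot (fun s hs => hB.conj t s h.ot hs) hU.odd hU.le hs.hx
  have hcard : Nat.card C = Nat.card (T : Subgroup G) * Nat.card U := by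
    rw [hU.card]
    have : Nat.card (T : Subgroup G) = 8 := h.card
    rw [this]
  have hTU : (T : Subgroup G) ⊓ U = ⊥ := by
    apply Subgroup.inf_eq_bot_of_coprime
    have : Nat.card (T : Subgroup G) = 8 := h.card
    rw [this]
    have h2 : Nat.Coprime 2 (Nat.card U) := (Nat.coprime_two_left).mpr hU.odd
    have : (8 : ℕ) = 2 ^ 3 := by norm_num
    rw [this]
    exact Nat.Coprime.pow_left 3 h2
  have h2 := count hU.odd hTC hU.le hcard hTU hU.nor h.tT h.ot htC
  rw [h2, sumD8 h.card h.tT h.rT h.sT h.ot h.or h.os h.ov h.vv h.rs h.rt h.st h.rnt h.snt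
    (fun x hx => htC x (hU.le hx))] at h1
  have hrr := (order_two_iff.mp h.or).1
  have hss := (order_two_iff.mp h.os).1
  have h3 := card_invol_coset hU.odd hrr (fun u hu => hU.nor r (hTC h.rT) u hu)
  have h4 := card_invol_coset hU.odd hss (fun u hu => hU.nor s (hTC h.sT) u hu)
  set A := Nat.card (U ⊓ Subgroup.centralizer ({r} : Set G) : Subgroup G) with hA
  set B := Nat.card (U ⊓ Subgroup.centralizer ({s} : Set G) : Subgroup G) with hB'
  set m := Nat.card {a : U // r * (a : G) * (r * a) = 1} with hm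
  set n := Nat.card {a : U // s * (a : G) * (s * a) = 1} with hn
  have hE := hχ.E1 t h.ot 1 (by rw [hχt t h.ot]; norm_num)
  rw [hx, ← hC] at h1
  -- |G| / c² = p (2p-1) / (2 (p-1))
  have hp1 : (0 : ℤ) < p - 1 := by
    have : (5 : ℤ) ≤ p := by exact_mod_cast hp5
    linarith
  have hE2 : (Nat.card G : ℤ) * (2 * (p - 1)) = p * (Nat.card C : ℤ) ^ 2 * (2 * p - 1) := by
    have : (Nat.card G : ℤ) * (2 * (p - 1)) * (2 * (p - 1)) = p * (Nat.card C : ℤ) ^ 2 * (2 * p - 1) * (2 * (p - 1)) := by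
      have := hE
      push_cast at this
      linarith [this]
    exact mul_right_cancel₀ (by linarith) this
  have hE3 : (Nat.card G : ℂ) * (2 * (p - 1)) = p * (Nat.card C : ℂ) ^ 2 * (2 * p - 1) := by
    exact_mod_cast hE2
  have hpC : (p : ℂ) ≠ 0 := by
    have : p ≠ 0 := by omega
    exact_mod_cast this
  have hp2 : (2 * (p : ℂ) - 1) ≠ 0 := by
    intro h0
    have : (2 * (p : ℤ) - 1) = 0 := by exact_mod_cast h0
    omega
  have hcC : (Nat.card C : ℂ) ≠ 0 := by exact_mod_cast Nat.card_pos.ne'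
  have h5 : ((p : ℂ) - 1) * Nat.card U = ((2 * m ^ 2 + 2 * n ^ 2 : ℕ) : ℂ) := by
    have e1 : (Nat.card C : ℂ) ^ 2 * (((p : ℂ) - 1) * Nat.card U) = (Nat.card C : ℂ) ^ 2 * ((2 * m ^ 2 + 2 * n ^ 2 : ℕ) : ℂ) := by
      rw [← h1]
      have e2 : (Nat.card G : ℂ) * (Nat.card U * (2 * ((p : ℂ) - 1) ^ 2 / (p * (2 * p - 1)))) =
          ((Nat.card G : ℂ) * (2 * (p - 1))) * (Nat.card U * ((p : ℂ) - 1)) / (p * (2 * p - 1)) := by
        ring
      rw [e2, hE3, eq_div_iff (mul_ne_zero hpC hp2)]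
      ring
    exact mul_left_cancel₀ (pow_ne_zero 2 hcC) e1
  have h6 : (p - 1) * Nat.card U = 2 * m ^ 2 + 2 * n ^ 2 := by
    have e1 : (((p - 1) * Nat.card U : ℕ) : ℂ) = ((2 * m ^ 2 + 2 * n ^ 2 : ℕ) : ℂ) := by
      rw [← h5, Nat.cast_mul, Nat.cast_sub (by omega)]
      norm_num
    exact_mod_cast e1
  have hUpos : 0 < Nat.card U := Nat.card_pos
  -- final arithmetic
  have h7 : Nat.card U * (2 * Nat.card U * (A ^ 2 + B ^ 2)) = Nat.card U * ((p - 1) * (A ^ 2 * B ^ 2)) := by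
    calc Nat.card U * (2 * Nat.card U * (A ^ 2 + B ^ 2))
        = 2 * (Nat.card U) ^ 2 * B ^ 2 + 2 * (Nat.card U) ^ 2 * A ^ 2 := by ring
      _ = 2 * (m * A) ^ 2 * B ^ 2 + 2 * (n * B) ^ 2 * A ^ 2 := by rw [h3, h4]
      _ = (2 * m ^ 2 + 2 * n ^ 2) * (A ^ 2 * B ^ 2) := by ring
      _ = ((p - 1) * Nat.card U) * (A ^ 2 * B ^ 2) := by rw [h6]
      _ = _ := by ring
  exact Nat.eq_of_mul_eq_mul_left hUpos h7

end gen

end Cfsg.Agent.Lib.H52_BCOUNT2
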