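import Cfsg.Agent.Lib.H52T0
import Cfsg.Agent.Lib.SmallSimple

/-! S3254, piece BLINE, first half (helper70). -/

set_option autoImplicit false
set_option linter.all false
set_option maxHeartbeats 400000

namespace Cfsg.Agent.Lib.H52_BLINEa

open Cfsg Cfsg.Agent.Lib.BRPerm Cfsg.Agent.Lib.BRCore Cfsg.Agent.Lib.BRInd Cfsg.Agent.Lib.CharBasic Cfsg.Agent.Lib.BlockThird Cfsg.Agent.Lib.H52T0 Cfsg.Agent.Lib.H15RealP Cfsg.Agent.Lib.BRB0 Cfsg.Agent.Lib.DefOneLoc
open scoped Pointwise

universe u v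

section
variable {G : Type u} [Group G] [Fintype G] {Ω : Type v} [MulAction G Ω] {T : Sylow 2 G} {t r s v : G} {a b c : Ω}

theorem tt (h : D8 G Ω T t r s v a b c) : t * t = 1 := by rw [← pow_two, ← h.ot, pow_orderOf_eq_one]
theorem rr (h : D8 G Ω T t r s v a b c) : r * r = 1 := by rw [← pow_two, ← h.or, pow_orderOf_eq_one]
theorem ss (h : D8 G Ω T t r s v a b c) : s * s = 1 := by rw [← pow_two, ← h.os, pow_orderOf_eq_one]
theorem t1 (h : D8 G Ω T t r s v a b c) : t ≠ 1 := by
  intro h1; have := h.ot; rw [h1, orderOf_one] at this; omega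
theorem r1 (h : D8 G Ω T t r s v a b c) : r ≠ 1 := by
  intro h1; have := h.or; rw [h1, orderOf_one] at this; omega
theorem rsrs (h : D8 G Ω T t r s v a b c) : r * s * (r * s) = t := by rw [h.rs, h.vv]
theorem srs (h : D8 G Ω T t r s v a b c) : s * r * s⁻¹ = t * r := by
  have e : s⁻¹ = s := inv_eq_of_mul_eq_one_left (ss h)
  rw [e, ← h.rt]
  calc s * r * s = (r * r) * (s * r * s) := by rw [rr h, one_mul]
    _ = r * (r * s * (r * s)) := by group
    _ = r * t := by rw [rsrs h]
theorem rsr (h : D8 G Ω T t r s v a b c) : r * s * r⁻¹ = t * s := by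
  have e : r⁻¹ = r := inv_eq_of_mul_eq_one_left (rr h)
  rw [e]
  calc r * s * r = (r * s * r) * (s * s) := by rw [ss h, mul_one]
    _ = (r * s * (r * s)) * s := by group
    _ = t * s := by rw [rsrs h]

theorem ta (h : D8 G Ω T t r s v a b c) : t • a = a := (h.ft a).2 (Or.inl rfl)
theorem tb (h : D8 G Ω T t r s v a b c) : t • b = b := (h.ft b).2 (Or.inr (Or.inl rfl))
theorem tc (h : D8 G Ω T t r s v a b c) : t • c = c := (h.ft c).2 (Or.inr (Or.inr rfl))
theorem ra (h : D8 G Ω T t r s v a b c) : r • a = a := (h.fr a).2 (Or.inl rfl)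
theorem rb (h : D8 G Ω T t r s v a b c) : r • b = b := (h.fr b).2 (Or.inr (Or.inl rfl))
theorem rc (h : D8 G Ω T t r s v a b c) : r • c = c := (h.fr c).2 (Or.inr (Or.inr rfl))

/-- setwise stabilizer of `{a, b, c}` -/
def LS (G : Type u) [Group G] {Ω : Type v} [MulAction G Ω] (a b c : Ω) : Subgroup G where
  carrier := {g | ∀ w : Ω, (g • w = a ∨ g • w = b ∨ g • w = c) ↔ (w = a ∨ w = b ∨ w = c)}
  one_mem' := by intro w; rw [one_smul]
  mul_mem' := by
    intro g k hg hk w
    rw [mul_smul]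
    exact (hg (k • w)).trans (hk w)
  inv_mem' := by
    intro g hg w
    have := hg (g⁻¹ • w)
    rw [smul_inv_smul] at this
    exact this.symm

theorem mem_LS {g : G} : g ∈ LS G a b c ↔ ∀ w : Ω, (g • w = a ∨ g • w = b ∨ g • w = c) ↔ (w = a ∨ w = b ∨ w = c) := Iff.rfl

/-- pointwise stabilizer -/
def KL (G : Type u) [Group G] {Ω : Type v} [MulAction G Ω] (a b c : Ω) : Subgroup G :=
  MulAction.stabilizer G a ⊓ MulAction.stabilizer G b ⊓ MulAction.stabilizer G c

theorem mem_KL {g : G} : g ∈ KL G a b c ↔ (g • a = a ∧ g • b = b) ∧ g • c = c := Iff.rfl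

theorem KL_le : KL G a b c ≤ LS G a b c := by
  intro g hg w
  obtain ⟨⟨h1, h2⟩, h3⟩ := mem_KL.1 hg
  constructor
  · rintro (h | h | h)
    · left; exact smul_left_cancel g (h.trans h1.symm)
    · right; left; exact smul_left_cancel g (h.trans h2.symm)
    · right; right; exact smul_left_cancel g (h.trans h3.symm)
  · rintro (rfl | rfl | rfl)
    · left; exact h1
    · right; left; exact h2
    · right; right; exact h3

theorem KL_conj {x y : G} (hx : x ∈ LS G a b c) (hy : y ∈ KL G a b c) : x * y * x⁻¹ ∈ KL G a b c := by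
  obtain ⟨⟨h1, h2⟩, h3⟩ := mem_KL.1 hy
  have key : ∀ w : Ω, (w = a ∨ w = b ∨ w = c) → (x * y * x⁻¹) • w = w := by
    intro w hw
    have h4 : x⁻¹ • w = a ∨ x⁻¹ • w = b ∨ x⁻¹ • w = c := ((LS G a b c).inv_mem hx w).2 hw
    have h5 : y • (x⁻¹ • w) = x⁻¹ • w := by
      rcases h4 with h | h | h <;> rw [h] <;> assumption
    rw [mul_smul, mul_smul, h5, smul_inv_smul]
  exact ⟨⟨key a (Or.inl rfl), key b (Or.inr (Or.inl rfl))⟩, key c (Or.inr (Or.inr rfl))⟩

/-- elements conjugating `t` to `r` lie in `LS` -/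
theorem conj_LS (h : D8 G Ω T t r s v a b c) {g : G} (hg : g * t * g⁻¹ = r) : g ∈ LS G a b c := by
  intro w
  rw [← h.fr, ← h.ft]
  have h1 : r * g = g * t := by rw [← hg]; group
  rw [← mul_smul, h1, mul_smul]
  exact smul_left_cancel_iff g

theorem cent_LS (h : D8 G Ω T t r s v a b c) {g : G} (hg : g * t = t * g) : g ∈ LS G a b c := by
  intro w
  rw [← h.ft, ← h.ft, ← mul_smul, ← hg, mul_smul]
  exact smul_left_cancel_iff g

theorem sylow_conj (T : Sylow 2 G) (K : Subgroup G) (hTK : (T : Subgroup G) ≤ K) (y : G) (hyK : y ∈ K) (hy : y * y = 1) :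
    ∃ c ∈ K, c⁻¹ * y * c ∈ (T : Subgroup G) := by
  haveI : Fact (Nat.Prime 2) := ⟨Nat.prime_two⟩
  set y' : K := ⟨y, hyK⟩ with hy'
  have hyy : y' ^ 2 = 1 := Subtype.ext (by rw [pow_two]; exact hy)
  have h2 : IsPGroup 2 (Subgroup.zpowers y') := by
    rintro ⟨x, hx⟩
    obtain ⟨k, rfl⟩ := Subgroup.mem_zpowers_iff.1 hx
    refine ⟨1, Subtype.ext ?_⟩
    change (y' ^ k) ^ (2 ^ 1) = 1
    rw [pow_one, ← zpow_natCast, ← zpow_mul, mul_comm, zpow_mul, zpow_natCast, hyy, one_zpow]
  obtain ⟨S, hS⟩ := h2.exists_le_sylow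
  obtain ⟨c, hc⟩ := MulAction.exists_smul_eq K (T.subtype hTK) S
  have h3 : y' ∈ (S : Subgroup K) := hS (Subgroup.mem_zpowers y')
  rw [← hc, Sylow.coe_subgroup_smul, Subgroup.mem_pointwise_smul_iff_inv_smul_mem] at h3
  have h4 : (MulAut.conj c)⁻¹ • y' = c⁻¹ * y' * c := by
    rw [← map_inv, MulAut.smul_def, MulAut.conj_apply, inv_inv]
  rw [h4] at h3
  exact ⟨c, c.2, h3⟩

end

section
variable {G : Type u} [Group G] [Fintype G] {Ω : Type v} [Fintype Ω] [MulAction G Ω] {p : ℕ}
  {T : Sylow 2 G} {t r s v : G} {a b c : Ω} {U : Subgroup G}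

theorem T_le_cent (hU : Cen G T t U) : (T : Subgroup G) ≤ Subgroup.centralizer ({t} : Set G) := by
  rw [← hU.sup]; exact le_sup_right

theorem comm_of_mem {x : G} (hx : x ∈ Subgroup.centralizer ({t} : Set G)) : x * t = t * x := by
  have := Subgroup.mem_centralizer_singleton_iff.1 hx
  first
    | exact this
    | exact this.symm

theorem mem_of_comm {x : G} (hx : x * t = t * x) : x ∈ Subgroup.centralizer ({t} : Set G) := by
  rw [Subgroup.mem_centralizer_singleton_iff]
  first
    | exact hx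
    | exact hx.symm

theorem cent_fix (h : D8 G Ω T t r s v a b c) (hU : Cen G T t U) (hUf : ∀ g ∈ U, g • a = a ∧ g • b = b ∧ g • c = c)
    {x : G} (hx : x * t = t * x) : x • a = a := by
  have h1 : Subgroup.centralizer ({t} : Set G) ≤ MulAction.stabilizer G a := by
    rw [← hU.sup, sup_le_iff]
    exact ⟨fun g hg => (hUf g hg).1, fun g hg => h.fT g hg⟩
  exact h1 (mem_of_comm hx)

theorem card_stab (h : D8 G Ω T t r s v a b c) (hU : Cen G T t U) :
    Nat.card (MulAction.stabilizer (T : Subgroup G) b) = 4 := by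
  classical
  have horb : MulAction.orbit (T : Subgroup G) b = ({b, c} : Set Ω) := by
    ext w
    constructor
    · rintro ⟨⟨y, hy⟩, rfl⟩
      change y • b ∈ ({b, c} : Set Ω)
      have h1 := (cent_LS h (comm_of_mem (T_le_cent hU hy)) b).2 (Or.inr (Or.inl rfl))
      rcases h1 with h1 | h1 | h1
      · exfalso
        have h2 : y • a = a := h.fT y hy
        exact h.ab (smul_left_cancel y (h2.trans h1.symm))
      · left; exact h1
      · right; exact h1
    · rintro (rfl | rfl)
      · exact MulAction.mem_orbit_self _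
      · exact ⟨⟨s, h.sT⟩, h.sb⟩
  have hidx : (MulAction.stabilizer (T : Subgroup G) b).index = 2 := by
    rw [MulAction.index_stabilizer, horb, Set.ncard_pair h.bc]
  have h1 := Subgroup.card_mul_index (MulAction.stabilizer (T : Subgroup G) b)
  rw [hidx] at h1
  have h2 : Nat.card (T : Subgroup G) = 8 := h.card
  omega

/-- the stabilizer of `b` in `T` -/
theorem stab_b (h : D8 G Ω T t r s v a b c) (hU : Cen G T t U) {x : G} (hx : x ∈ (T : Subgroup G)) (hxb : x • b = b) :
    x = 1 ∨ x = t ∨ x = r ∨ x = t * r := by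
  classical
  have hcard := card_stab h hU
  let S : Set (T : Subgroup G) := {1, ⟨t, h.tT⟩, ⟨r, h.rT⟩, ⟨t * r, (T : Subgroup G).mul_mem h.tT h.rT⟩}
  have hsub : S ⊆ (MulAction.stabilizer (T : Subgroup G) b : Set (T : Subgroup G)) := by
    rintro y (rfl | rfl | rfl | rfl)
    · exact one_smul _ b
    · change t • b = b
      exact tb h
    · change r • b = b
      exact rb h
    · change (t * r) • b = b
      rw [mul_smul, rb h, tb h]
  have htr : t * r ≠ 1 := by
    intro h1
    apply h.rnt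
    have : t⁻¹ = r := inv_eq_of_mul_eq_one_right h1
    rw [← this]
    exact inv_eq_of_mul_eq_one_left (tt h)
  have hS : S.ncard = 4 := by
    have e1 : (⟨r, h.rT⟩ : (T : Subgroup G)) ≠ ⟨t * r, (T : Subgroup G).mul_mem h.tT h.rT⟩ := by
      intro h1
      have h2 : r = t * r := congrArg Subtype.val h1
      apply t1 h
      have h3 : 1 * r = t * r := by rw [one_mul]; exact h2
      exact (mul_right_cancel h3).symm
    have e2 : (⟨t, h.tT⟩ : (T : Subgroup G)) ∉ ({⟨r, h.rT⟩, ⟨t * r, (T : Subgroup G).mul_mem h.tT h.rT⟩} : Set (T : Subgroup G)) := by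
      rintro (h1 | h1)
      · exact h.rnt (congrArg Subtype.val h1).symm
      · have h2 : t = t * r := congrArg Subtype.val h1
        apply r1 h
        have h3 : t * 1 = t * r := by rw [mul_one]; exact h2
        exact (mul_left_cancel h3).symm
    have e3 : (1 : (T : Subgroup G)) ∉ ({⟨t, h.tT⟩, ⟨r, h.rT⟩, ⟨t * r, (T : Subgroup G).mul_mem h.tT h.rT⟩} : Set (T : Subgroup G)) := by
      rintro (h1 | h1 | h1)
      · exact t1 h (congrArg Subtype.val h1).symm
      · exact r1 h (congrArg Subtype.val h1).symm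
      · exact htr (congrArg Subtype.val h1).symm
    rw [Set.ncard_insert_of_notMem e3 (Set.toFinite _), Set.ncard_insert_of_notMem e2 (Set.toFinite _), Set.ncard_pair e1]
  have heq : S = (MulAction.stabilizer (T : Subgroup G) b : Set (T : Subgroup G)) := by
    apply Set.eq_of_subset_of_ncard_le hsub
    rw [hS, ← Nat.card_coe_set_eq]
    exact hcard.le
  have hmem : (⟨x, hx⟩ : (T : Subgroup G)) ∈ S := by rw [heq]; exact hxb
  rcases hmem with h1 | h1 | h1 | h1
  · left; exact congrArg Subtype.val h1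
  · right; left; exact congrArg Subtype.val h1
  · right; right; left; exact congrArg Subtype.val h1
  · right; right; right; exact congrArg Subtype.val h1

/-- involutions of `T` -/
theorem inv_T (h : D8 G Ω T t r s v a b c) (hU : Cen G T t U) {x : G} (hx : x ∈ (T : Subgroup G)) (hxx : x * x = 1) (hx1 : x ≠ 1) :
    x = t ∨ x = r ∨ x = t * r ∨ x = s ∨ x = t * s := by
  have h1 := (cent_LS h (comm_of_mem (T_le_cent hU hx)) b).2 (Or.inr (Or.inl rfl))
  rcases h1 with h1 | h1 | h1
  · exfalso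
    have h2 : x • a = a := h.fT x hx
    exact h.ab (smul_left_cancel x (h2.trans h1.symm))
  · rcases stab_b h hU hx h1 with h2 | h2 | h2 | h2
    · exact absurd h2 hx1
    · exact Or.inl h2
    · exact Or.inr (Or.inl h2)
    · exact Or.inr (Or.inr (Or.inl h2))
  · have h2 : (s * x) • b = b := by rw [mul_smul, h1, h.sc]
    have h3 := stab_b h hU ((T : Subgroup G).mul_mem h.sT hx) h2
    have h4 : ∀ y : G, s * x = y → x = s * y := by
      intro y hy
      rw [← hy, ← mul_assoc, ss h, one_mul]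
    have hsr : (s * r) * (s * r) = t := by
      have e1 : s⁻¹ = s := inv_eq_of_mul_eq_one_left (ss h)
      have h5 := srs h
      rw [e1] at h5
      calc s * r * (s * r) = (s * r * s) * r := by group
        _ = t * r * r := by rw [h5]
        _ = t := by rw [mul_assoc, rr h, mul_one]
    rcases h3 with h5 | h5 | h5 | h5
    · right; right; right; left
      rw [h4 _ h5, mul_one]
    · right; right; right; right
      rw [h4 _ h5, h.st]
    · exfalso
      rw [h4 _ h5, hsr] at hxx
      exact t1 h hxx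
    · exfalso
      rw [h4 _ h5] at hxx
      apply t1 h
      calc t = t * t * (s * r * (s * r)) := by rw [hsr, tt h, one_mul]
        _ = 1 := by
          rw [← hxx]
          have e1 : s * t = t * s := h.st
          have e2 : r * t = t * r := h.rt
          calc t * t * (s * r * (s * r)) = t * (t * s) * r * (s * r) := by group
            _ = t * (s * t) * r * (s * r) := by rw [e1]
            _ = (t * s) * (t * r) * (s * r) := by group
            _ = (s * t) * (t * r) * (s * r) := by rw [e1]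
            _ = s * (t * (t * r)) * (s * r) := by group
            _ = s * (t * (r * t)) * (s * r) := by rw [e2]
            _ = s * (t * r) * (t * s) * r := by group
            _ = s * (t * r) * (s * t) * r := by rw [e1]
            _ = s * (t * r) * (s * (t * r)) := by group

theorem exists_m (hB : Base G Ω p) (h : D8 G Ω T t r s v a b c) (hU : Cen G T t U) :
    ∃ m : G, m * t * m⁻¹ = s ∧ m • a = a := by
  obtain ⟨g, hg⟩ := isConj_iff.1 (hB.conj t s h.ot h.os)
  have h0 : s * g = g * t := by rw [← hg]; group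
  have hcomm : g⁻¹ * t * g * t = t * (g⁻¹ * t * g) := by
    have e1 : t = g⁻¹ * s * g := by rw [← hg]; group
    have e2 : t * s = s * t := h.st.symm
    calc g⁻¹ * t * g * t = g⁻¹ * t * g * (g⁻¹ * s * g) := by rw [← e1]
      _ = g⁻¹ * (t * s) * g := by group
      _ = g⁻¹ * (s * t) * g := by rw [e2]
      _ = (g⁻¹ * s * g) * (g⁻¹ * t * g) := by group
      _ = t * (g⁻¹ * t * g) := by rw [← e1]
  obtain ⟨c', hc', hy⟩ := sylow_conj T _ (T_le_cent hU) (g⁻¹ * t * g) (mem_of_comm hcomm) (by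
    calc g⁻¹ * t * g * (g⁻¹ * t * g) = g⁻¹ * (t * t) * g := by group
      _ = 1 := by rw [tt h]; group)
  have hct := comm_of_mem hc'
  set m := g * c' with hm
  have hmt : m * t * m⁻¹ = s := by
    rw [hm]
    calc g * c' * t * (g * c')⁻¹ = g * (c' * t) * c'⁻¹ * g⁻¹ := by group
      _ = g * (t * c') * c'⁻¹ * g⁻¹ := by rw [hct]
      _ = g * t * g⁻¹ := by group
      _ = s := hg
  refine ⟨m, hmt, ?_⟩
  have hy' : m⁻¹ * t * m ∈ (T : Subgroup G) := by
    have : m⁻¹ * t * m = c'⁻¹ * (g⁻¹ * t * g) * c' := by rw [hm]; group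
    rw [this]; exact hy
  have h1 : t • (m • a) = m • a := by
    have h2 := h.fT _ hy'
    rw [← mul_smul]
    have e : t * m = m * (m⁻¹ * t * m) := by group
    rw [e, mul_smul, h2]
  have h2 : s • (m • a) = m • a := by
    have e : s * m = m * t := by rw [← hmt]; group
    rw [← mul_smul, e, mul_smul, ta h]
  rcases (h.ft _).1 h1 with h3 | h3 | h3
  · exact h3
  · exfalso
    rw [h3, h.sb] at h2
    exact h.bc h2.symm
  · exfalso
    rw [h3, h.sc] at h2
    exact h.bc h2

/-- no element fixing `a` conjugates `t` to `r` -/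
theorem no_fuse (hB : Base G Ω p) (h : D8 G Ω T t r s v a b c) (hU : Cen G T t U)
    (hUf : ∀ g ∈ U, g • a = a ∧ g • b = b ∧ g • c = c) {g : G} (hg : g * t * g⁻¹ = r) (hga : g • a = a) : False := by
  obtain ⟨m, hm, hma⟩ := exists_m hB h hU
  have hconj : ∀ {x z w : G}, x * t * x⁻¹ = z → ∀ y : G, y * z * y⁻¹ = w → (y * x) * t * (y * x)⁻¹ = w := by
    intro x z w hx y hy
    rw [← hy, ← hx]; group
  have hT : ∀ z ∈ (T : Subgroup G), z * z = 1 → z ≠ 1 → ∃ x : G, x * t * x⁻¹ = z ∧ x • a = a := by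
    intro z hz hzz hz1
    rcases inv_T h hU hz hzz hz1 with h1 | h1 | h1 | h1 | h1
    · exact ⟨1, by rw [h1]; group, one_smul _ _⟩
    · exact ⟨g, by rw [h1]; exact hg, hga⟩
    · exact ⟨s * g, hconj hg s (by rw [h1]; exact srs h), by rw [mul_smul, hga, h.sa]⟩
    · exact ⟨m, by rw [h1]; exact hm, hma⟩
    · exact ⟨r * m, hconj hm r (by rw [h1]; exact rsr h), by rw [mul_smul, hma, ra h]⟩
  have hall : ∀ z : G, z * z = 1 → z ≠ 1 → z • a = a → ∃ x : G, x * t * x⁻¹ = z ∧ x • a = a := by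
    intro z hzz hz1 hza
    obtain ⟨c', hc', hy⟩ := sylow_conj T (MulAction.stabilizer G a) (fun x hx => h.fT x hx) z hza hzz
    obtain ⟨x, hx, hxa⟩ := hT _ hy (by
      calc c'⁻¹ * z * c' * (c'⁻¹ * z * c') = c'⁻¹ * (z * z) * c' := by group
        _ = 1 := by rw [hzz]; group) (by
      intro h1
      apply hz1
      have : z = c' * (c'⁻¹ * z * c') * c'⁻¹ := by group
      rw [this, h1]; group)
    refine ⟨c' * x, hconj hx c' (by group), ?_⟩
    rw [mul_smul, hxa]
    exact hc'
  haveI := hB.prim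
  obtain ⟨k, hk⟩ := MulAction.exists_smul_eq G a b
  obtain ⟨x, hx, hxa⟩ := hall (k⁻¹ * t * k) (by
      calc k⁻¹ * t * k * (k⁻¹ * t * k) = k⁻¹ * (t * t) * k := by group
        _ = 1 := by rw [tt h]; group) (by
      intro h1
      apply t1 h
      have : t = k * (k⁻¹ * t * k) * k⁻¹ := by group
      rw [this, h1]; group) (by rw [mul_smul, mul_smul, hk, tb h, ← hk, inv_smul_smul])
  have h1 : (k * x) * t = t * (k * x) := by
    have e : x * t = k⁻¹ * t * k * x := by rw [← hx]; group
    calc k * x * t = k * (x * t) := by group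
      _ = k * (k⁻¹ * t * k * x) := by rw [e]
      _ = t * (k * x) := by group
  have h2 := cent_fix h hU hUf h1
  rw [mul_smul, hxa, hk] at h2
  exact h.ab h2.symm

theorem exists_rho (hB : Base G Ω p) (h : D8 G Ω T t r s v a b c) (hU : Cen G T t U) :
    ∃ ρ : G, ρ * t * ρ⁻¹ = r ∧ ρ * r * ρ⁻¹ = t * r := by
  obtain ⟨g, hg⟩ := isConj_iff.1 (hB.conj t r h.ot h.or)
  have hcomm : g⁻¹ * t * g * t = t * (g⁻¹ * t * g) := by
    have e1 : t = g⁻¹ * r * g := by rw [← hg]; group
    have e2 : t * r = r * t := h.rt.symm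
    calc g⁻¹ * t * g * t = g⁻¹ * t * g * (g⁻¹ * r * g) := by rw [← e1]
      _ = g⁻¹ * (t * r) * g := by group
      _ = g⁻¹ * (r * t) * g := by rw [e2]
      _ = (g⁻¹ * r * g) * (g⁻¹ * t * g) := by group
      _ = t * (g⁻¹ * t * g) := by rw [← e1]
  obtain ⟨c', hc', hy⟩ := sylow_conj T _ (T_le_cent hU) (g⁻¹ * t * g) (mem_of_comm hcomm) (by
    calc g⁻¹ * t * g * (g⁻¹ * t * g) = g⁻¹ * (t * t) * g := by group
      _ = 1 := by rw [tt h]; group)
  have hct := comm_of_mem hc'
  set m := g * c' with hm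
  have hmt : m * t * m⁻¹ = r := by
    rw [hm]
    calc g * c' * t * (g * c')⁻¹ = g * (c' * t) * c'⁻¹ * g⁻¹ := by group
      _ = g * (t * c') * c'⁻¹ * g⁻¹ := by rw [hct]
      _ = g * t * g⁻¹ := by group
      _ = r := hg
  have hy' : m⁻¹ * t * m ∈ (T : Subgroup G) := by
    have : m⁻¹ * t * m = c'⁻¹ * (g⁻¹ * t * g) * c' := by rw [hm]; group
    rw [this]; exact hy
  have hmb : (m⁻¹ * t * m) • b = b := by
    have h1 := (conj_LS h hmt b).2 (Or.inr (Or.inl rfl))
    have h2 : t • (m • b) = m • b := (h.ft _).2 h1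
    rw [mul_smul, mul_smul, h2, inv_smul_smul]
  have hback : ∀ z : G, m⁻¹ * t * m = z → m * z * m⁻¹ = t := by
    intro z hz; rw [← hz]; group
  rcases stab_b h hU hy' hmb with h1 | h1 | h1 | h1
  · exfalso
    apply t1 h
    rw [← hback _ h1]; group
  · exfalso
    apply h.rnt
    rw [← hmt]; exact hback _ h1
  · have h2 := hback _ h1
    refine ⟨m * s, ?_, ?_⟩
    · calc m * s * t * (m * s)⁻¹ = m * (s * t) * s⁻¹ * m⁻¹ := by group
        _ = m * (t * s) * s⁻¹ * m⁻¹ := by rw [h.st]
        _ = m * t * m⁻¹ := by group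
        _ = r := hmt
    · calc m * s * r * (m * s)⁻¹ = m * (s * r * s⁻¹) * m⁻¹ := by group
        _ = m * (t * r) * m⁻¹ := by rw [srs h]
        _ = (m * t * m⁻¹) * (m * r * m⁻¹) := by group
        _ = r * t := by rw [hmt, h2]
        _ = t * r := h.rt
  · have h2 := hback _ h1
    refine ⟨m, hmt, ?_⟩
    have h3 : r * (m * r * m⁻¹) = t := by
      calc r * (m * r * m⁻¹) = (m * t * m⁻¹) * (m * r * m⁻¹) := by rw [hmt]
        _ = m * (t * r) * m⁻¹ := by group
        _ = t := h2
    calc m * r * m⁻¹ = r * (r * (m * r * m⁻¹)) := by rw [← mul_assoc, rr h, one_mul]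
      _ = r * t := by rw [h3]
      _ = t * r := h.rt

theorem odd_mem {H : Type*} [Group H] [Finite H] (M : Subgroup H) [M.Normal] {k : ℕ} (hk : M.index = 2 ^ k) (y : H)
    (hy : Odd (orderOf y)) : y ∈ M := by
  have h1 : y ^ (2 ^ k) ∈ M := by rw [← hk]; exact M.pow_index_mem y
  have h2 : Nat.Coprime (2 ^ k) (orderOf y) := Nat.Coprime.pow_left k ((Nat.coprime_two_left).2 hy)
  obtain ⟨m, hm⟩ := exists_pow_eq_self_of_coprime h2
  rw [← hm]
  exact M.pow_mem h1 m

theorem odd_U (hU : Cen G T t U) {y : G} (hyt : y * t = t * y) (hy : Odd (orderOf y)) : y ∈ U := by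
  set C := Subgroup.centralizer ({t} : Set G) with hC
  haveI : (U.subgroupOf C).Normal := ⟨fun n hn g => by
    rw [Subgroup.mem_subgroupOf] at hn ⊢
    exact hU.nor g g.2 n hn⟩
  have hidx : (U.subgroupOf C).index = 2 ^ 3 := by
    have h1 := Subgroup.card_mul_index (U.subgroupOf C)
    have h2 : Nat.card (U.subgroupOf C) = Nat.card U := Nat.card_congr (Subgroup.subgroupOfEquivOfLe hU.le).toEquiv
    rw [h2, hU.card, mul_comm 8] at h1
    exact Nat.eq_of_mul_eq_mul_left Nat.card_pos h1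
  have h3 := odd_mem (U.subgroupOf C) hidx ⟨y, mem_of_comm hyt⟩ (by rw [Subgroup.orderOf_mk]; exact hy)
  exact h3

/-- an element of `KL` normalizing `⟨t, r⟩` centralizes it -/
theorem norm_cent (hB : Base G Ω p) (h : D8 G Ω T t r s v a b c) (hU : Cen G T t U)
    (hUf : ∀ g ∈ U, g • a = a ∧ g • b = b ∧ g • c = c) {k : G} (hk : k ∈ KL G a b c)
    (ht : k * t * k⁻¹ = t ∨ k * t * k⁻¹ = r ∨ k * t * k⁻¹ = t * r)
    (hr : k * r * k⁻¹ = t ∨ k * r * k⁻¹ = r ∨ k * r * k⁻¹ = t * r) : k * t = t * k ∧ k * r = r * k := by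
  obtain ⟨⟨ka, kb⟩, kc⟩ := mem_KL.1 hk
  have h1 : k * t = t * k := by
    rcases ht with h1 | h1 | h1
    · rw [← mul_inv_eq_iff_eq_mul]; exact h1
    · exact (no_fuse hB h hU hUf h1 ka).elim
    · exfalso
      refine no_fuse hB h hU hUf (g := s * k) ?_ (by rw [mul_smul, ka, h.sa])
      calc s * k * t * (s * k)⁻¹ = s * (k * t * k⁻¹) * s⁻¹ := by group
        _ = s * (t * r) * s⁻¹ := by rw [h1]
        _ = (s * t) * r * s⁻¹ := by group
        _ = (t * s) * r * s⁻¹ := by rw [h.st]
        _ = t * (s * r * s⁻¹) := by group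
        _ = t * (t * r) := by rw [srs h]
        _ = r := by rw [← mul_assoc, tt h, one_mul]
  refine ⟨h1, ?_⟩
  rcases hr with h2 | h2 | h2
  · exfalso
    apply h.rnt
    have h3 : k * r * k⁻¹ = k * t * k⁻¹ := by rw [h2, h1, mul_inv_cancel_right]
    exact mul_left_cancel (mul_right_cancel h3)
  · rw [← mul_inv_eq_iff_eq_mul]; exact h2
  · exfalso
    have hkC := mem_of_comm h1
    rw [← hU.sup] at hkC
    have hnor : (T : Subgroup G) ≤ Subgroup.normalizer (U : Set G) := by
      intro x hx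
      rw [Subgroup.mem_normalizer_iff]
      intro y
      constructor
      · intro hy
        exact hU.nor x (T_le_cent hU hx) y hy
      · intro hy
        have h3 := hU.nor x⁻¹ (Subgroup.inv_mem _ (T_le_cent hU hx)) _ hy
        have h4 : x⁻¹ * (x * y * x⁻¹) * x⁻¹⁻¹ = y := by group
        rw [h4] at h3
        exact h3
    obtain ⟨u, hu, x, hx, hux⟩ : ∃ u ∈ U, ∃ x ∈ (T : Subgroup G), u * x = k := by
      have h3 : k ∈ ((U ⊔ (T : Subgroup G) : Subgroup G) : Set G) := hkC
      rw [Subgroup.coe_mul_of_right_le_normalizer_left _ _ hnor] at h3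
      obtain ⟨u, hu, x, hx, hux⟩ := h3
      exact ⟨u, hu, x, hx, hux⟩
    have hxb : x • b = b := by
      have h3 : x = u⁻¹ * k := by rw [← hux]; group
      rw [h3, mul_smul, kb]
      exact (hUf _ (U.inv_mem hu)).2.1
    have hxr : x * r = r * x := by
      rcases stab_b h hU hx hxb with h3 | h3 | h3 | h3 <;> rw [h3]
      · group
      · exact h.rt.symm
      · rw [mul_assoc, ← mul_assoc r t r, h.rt, mul_assoc]
    have hur : u * r * u⁻¹ = t * r := by
      rw [← h2, ← hux]
      calc u * r * u⁻¹ = u * (r * x) * x⁻¹ * u⁻¹ := by group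
        _ = u * (x * r) * x⁻¹ * u⁻¹ := by rw [hxr]
        _ = u * x * r * (u * x)⁻¹ := by group
    have hut : u * t = t * u := comm_of_mem (hU.le hu)
    have hu2 : u ^ 2 * r = r * u ^ 2 := by
      have h3 : u ^ 2 * r * (u ^ 2)⁻¹ = r := by
        calc u ^ 2 * r * (u ^ 2)⁻¹ = u * (u * r * u⁻¹) * u⁻¹ := by rw [pow_two]; group
          _ = (u * t) * r * u⁻¹ := by rw [hur]; group
          _ = (t * u) * r * u⁻¹ := by rw [hut]
          _ = t * (u * r * u⁻¹) := by group
          _ = t * (t * r) := by rw [hur]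
          _ = r := by rw [← mul_assoc, tt h, one_mul]
      rw [← mul_inv_eq_iff_eq_mul]; exact h3
    have hodd : Odd (orderOf u) := by
      have h3 : orderOf u ∣ Nat.card U := by
        have := orderOf_dvd_natCard (⟨u, hu⟩ : U)
        rwa [Subgroup.orderOf_mk] at this
      obtain ⟨q, hq⟩ := h3
      have := hU.odd
      rw [hq] at this
      exact (Nat.odd_mul.1 this).1
    obtain ⟨m, hm⟩ := exists_pow_eq_self_of_coprime (x := u) (n := 2) ((Nat.coprime_two_left).2 hodd)
    have hu1 : u * r = r * u := by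
      have h3 : Commute (u ^ 2) r := hu2
      have h4 := h3.pow_left m
      rw [hm] at h4
      exact h4
    rw [hu1, mul_inv_cancel_right] at hur
    apply t1 h
    have h3 : 1 * r = t * r := by rw [one_mul]; exact hur
    exact (mul_right_cancel h3).symm

/-- the normal 2-complement of `KL` -/
theorem exists_O (hB : Base G Ω p) (h : D8 G Ω T t r s v a b c) (hU : Cen G T t U)
    (hUf : ∀ g ∈ U, g • a = a ∧ g • b = b ∧ g • c = c) :
    ∃ O : Subgroup G, O ≤ KL G a b c ∧ Odd (Nat.card O) ∧ Nat.card (KL G a b c) = 4 * Nat.card O ∧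
      ∀ y ∈ KL G a b c, (y ∈ O ↔ Odd (orderOf y)) := by
  classical
  haveI : Fact (Nat.Prime 2) := ⟨Nat.prime_two⟩
  set K := KL G a b c with hK
  set V1 : Subgroup G := (T : Subgroup G) ⊓ MulAction.stabilizer G b with hV1
  have hV : ∀ x ∈ V1, x = 1 ∨ x = t ∨ x = r ∨ x = t * r := fun x hx => stab_b h hU hx.1 hx.2
  have htK : t ∈ K := mem_KL.2 ⟨⟨ta h, tb h⟩, tc h⟩
  have hrK : r ∈ K := mem_KL.2 ⟨⟨ra h, rb h⟩, rc h⟩
  have htV : t ∈ V1 := ⟨h.tT, tb h⟩
  have hrV : r ∈ V1 := ⟨h.rT, rb h⟩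
  have hVK : V1 ≤ K := by
    intro x hx
    rcases hV x hx with h1 | h1 | h1 | h1 <;> rw [h1]
    · exact K.one_mem
    · exact htK
    · exact hrK
    · exact K.mul_mem htK hrK
  have hVcard : Nat.card V1 = 4 := by
    rw [← card_stab h hU]
    have h1 : (MulAction.stabilizer (T : Subgroup G) b).map (T : Subgroup G).subtype = V1 := by
      ext x
      constructor
      · rintro ⟨⟨y, hy⟩, hyb, rfl⟩
        exact ⟨hy, hyb⟩
      · rintro ⟨hx, hxb⟩
        exact ⟨⟨x, hx⟩, hxb, rfl⟩
    rw [← h1, Subgroup.card_map_of_injective (T : Subgroup G).subtype_injective]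
  have hV'card : Nat.card (V1.subgroupOf K) = 4 := by
    rw [← hVcard]; exact Nat.card_congr (Subgroup.subgroupOfEquivOfLe hVK).toEquiv
  have hVp : IsPGroup 2 (V1.subgroupOf K) := IsPGroup.of_card (n := 2) (by rw [hV'card]; norm_num)
  obtain ⟨Q, hQ⟩ := hVp.exists_le_sylow
  have hQcard : Nat.card (Q : Subgroup K) = 4 := by
    have hWp : IsPGroup 2 ((Q : Subgroup K).map K.subtype) := Q.isPGroup'.map _
    obtain ⟨T', hT'⟩ := hWp.exists_le_sylow
    have hcT' : Nat.card (T' : Subgroup G) = 8 := (Nat.card_congr (Sylow.equiv T' T).toEquiv).trans h.card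
    have hWcard : Nat.card ((Q : Subgroup K).map K.subtype) = Nat.card (Q : Subgroup K) :=
      Subgroup.card_map_of_injective K.subtype_injective
    have h1 : Nat.card (Q : Subgroup K) ∣ 8 := by
      rw [← hWcard, ← hcT']; exact Subgroup.card_dvd_of_le hT'
    have h2 : 4 ∣ Nat.card (Q : Subgroup K) := by
      rw [← hV'card]; exact Subgroup.card_dvd_of_le hQ
    have h3 : Nat.card (Q : Subgroup K) ≠ 8 := by
      intro h4
      have h5 : (Q : Subgroup K).map K.subtype = (T' : Subgroup G) :=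
        Subgroup.eq_of_le_of_card_ge hT' (by rw [hWcard, h4, hcT'])
      obtain ⟨g, hg⟩ := MulAction.exists_smul_eq G T T'
      have h6 : ∀ x ∈ (T : Subgroup G), g * x * g⁻¹ ∈ K := by
        intro x hx
        have h7 : g * x * g⁻¹ ∈ (T' : Subgroup G) := by
          rw [← hg, Sylow.coe_subgroup_smul, Subgroup.mem_pointwise_smul_iff_inv_smul_mem]
          have h8 : (MulAut.conj g)⁻¹ • (g * x * g⁻¹) = x := by
            rw [← map_inv, MulAut.smul_def, MulAut.conj_apply, inv_inv]; group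
          rw [h8]; exact hx
        rw [← h5] at h7
        obtain ⟨y, -, hy⟩ := h7
        rw [← hy]; exact y.2
      have key : ∀ w : Ω, (∀ y ∈ K, y • w = w) → g⁻¹ • w = a := by
        intro w hw
        have h7 : ∀ x ∈ (T : Subgroup G), x • (g⁻¹ • w) = g⁻¹ • w := by
          intro x hx
          have h8 := hw _ (h6 x hx)
          rw [mul_smul, mul_smul] at h8
          rw [← eq_inv_smul_iff] at h8
          exact h8
        rcases (h.ft _).1 (h7 t h.tT) with h8 | h8 | h8
        · exact h8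
        · exfalso
          have h9 := h7 s h.sT
          rw [h8, h.sb] at h9
          exact h.bc h9.symm
        · exfalso
          have h9 := h7 s h.sT
          rw [h8, h.sc] at h9
          exact h.bc h9
      have ka := key a (fun y hy => (mem_KL.1 hy).1.1)
      have kb := key b (fun y hy => (mem_KL.1 hy).1.2)
      exact h.ab (smul_left_cancel _ (ka.trans kb.symm))
    have h4 : Nat.card (Q : Subgroup K) ≤ 8 := Nat.le_of_dvd (by norm_num) h1
    have h5 : 0 < Nat.card (Q : Subgroup K) := Nat.card_pos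
    omega
  have hQV : (Q : Subgroup K) = V1.subgroupOf K := by
    symm
    exact Subgroup.eq_of_le_of_card_ge hQ (by rw [hQcard, hV'card])
  have hmemQ : ∀ y : K, y ∈ (Q : Subgroup K) ↔ (y : G) ∈ V1 := fun y => by rw [hQV]; exact Subgroup.mem_subgroupOf
  have hnorm : Subgroup.normalizer ((Q : Subgroup K) : Set K) ≤ Subgroup.centralizer ((Q : Subgroup K) : Set K) := by
    intro k hk
    rw [Subgroup.mem_normalizer_iff] at hk
    have h1 : ∀ x : G, x ∈ V1 → x ≠ 1 → (k : G) * x * (k : G)⁻¹ = t ∨ (k : G) * x * (k : G)⁻¹ = r ∨ (k : G) * x * (k : G)⁻¹ = t * r := by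
      intro x hx hx1
      have h2 : (⟨x, hVK hx⟩ : K) ∈ (Q : Subgroup K) := (hmemQ _).2 hx
      have h3 := (hmemQ _).1 ((hk _).1 h2)
      rcases hV _ h3 with h4 | h4 | h4 | h4
      · exfalso
        apply hx1
        have h5 : (k : G) * x * (k : G)⁻¹ = 1 := h4
        have h6 : x = (k : G)⁻¹ * ((k : G) * x * (k : G)⁻¹) * k := by group
        rw [h6, h5]; group
      · exact Or.inl h4
      · exact Or.inr (Or.inl h4)
      · exact Or.inr (Or.inr h4)
    obtain ⟨h2, h3⟩ := norm_cent hB h hU hUf k.2 (h1 t htV (t1 h)) (h1 r hrV (r1 h))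
    rw [Subgroup.mem_centralizer_iff]
    intro y hy
    apply Subtype.ext
    change (y : G) * k = k * y
    rcases hV _ ((hmemQ y).1 hy) with h4 | h4 | h4 | h4 <;> rw [h4]
    · group
    · exact h2.symm
    · exact h3.symm
    · rw [mul_assoc, ← h3, ← mul_assoc, ← h2, mul_assoc]
  obtain ⟨M, hMc, hMcompl, hMp⟩ := SmallSimple.exists_characteristic_complement Q hnorm
  haveI := hMc
  have hidx : M.index = 2 ^ 2 := by
    rw [hMcompl.symm.index_eq_card]
    exact hQcard
  have hMcard : Nat.card (M.map K.subtype) = Nat.card M := Subgroup.card_map_of_injective K.subtype_injective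
  have hModd : Odd (Nat.card M) := by
    rw [← Nat.not_even_iff_odd, even_iff_two_dvd]; exact hMp
  refine ⟨M.map K.subtype, Subgroup.map_subtype_le M, ?_, ?_, ?_⟩
  · rw [hMcard]; exact hModd
  · rw [hMcard, ← hMcompl.card_mul_card, mul_comm]
    congr 1
  · intro y hy
    constructor
    · rintro ⟨z, hz, rfl⟩
      have h1 : orderOf (K.subtype z) ∣ Nat.card M := by
        have h2 := orderOf_dvd_natCard (⟨z, hz⟩ : M)
        rw [Subgroup.orderOf_mk] at h2
        rw [Subgroup.coe_subtype, Subgroup.orderOf_coe]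
        exact h2
      obtain ⟨q, hq⟩ := h1
      rw [hq] at hModd
      exact (Nat.odd_mul.1 hModd).1
    · intro h1
      exact ⟨⟨y, hy⟩, odd_mem M hidx ⟨y, hy⟩ (by rw [Subgroup.orderOf_mk]; exact h1), rfl⟩

theorem card_LS (hB : Base G Ω p) (h : D8 G Ω T t r s v a b c) (hU : Cen G T t U)
    (hUf : ∀ g ∈ U, g • a = a ∧ g • b = b ∧ g • c = c) : Nat.card (LS G a b c) = 6 * Nat.card (KL G a b c) := by
  classical
  obtain ⟨ρ, hρ1, hρ2⟩ := exists_rho hB h hU
  have hρL : ρ ∈ LS G a b c := conj_LS h hρ1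
  have hsL : s ∈ LS G a b c := cent_LS h h.st
  have hρa : ρ • a = b ∨ ρ • a = c := by
    rcases (hρL a).2 (Or.inl rfl) with h1 | h1 | h1
    · exact (no_fuse hB h hU hUf hρ1 h1).elim
    · exact Or.inl h1
    · exact Or.inr h1
  -- orbit of `a`
  have h1 : (MulAction.stabilizer (LS G a b c) a).index = 3 := by
    rw [MulAction.index_stabilizer]
    have h2 : MulAction.orbit (LS G a b c) a = ({a, b, c} : Set Ω) := by
      ext w
      constructor
      · rintro ⟨⟨y, hy⟩, rfl⟩
        exact (hy a).2 (Or.inl rfl)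
      · rintro (rfl | rfl | rfl)
        · exact MulAction.mem_orbit_self _
        · rcases hρa with h3 | h3
          · exact ⟨⟨ρ, hρL⟩, h3⟩
          · refine ⟨⟨s * ρ, Subgroup.mul_mem _ hsL hρL⟩, ?_⟩
            change (s * ρ) • a = _
            rw [mul_smul, h3, h.sc]
        · rcases hρa with h3 | h3
          · refine ⟨⟨s * ρ, Subgroup.mul_mem _ hsL hρL⟩, ?_⟩
            change (s * ρ) • a = _
            rw [mul_smul, h3, h.sb]
          · exact ⟨⟨ρ, hρL⟩, h3⟩
    rw [h2, Set.ncard_insert_of_notMem (by rintro (h3 | h3); exact h.ab h3; exact h.ac h3) (Set.toFinite _), Set.ncard_pair h.bc]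
  set A : Subgroup G := MulAction.stabilizer G a ⊓ LS G a b c with hA
  have h2 : (MulAction.stabilizer A b).index = 2 := by
    rw [MulAction.index_stabilizer]
    have h3 : MulAction.orbit A b = ({b, c} : Set Ω) := by
      ext w
      constructor
      · rintro ⟨⟨y, hy⟩, rfl⟩
        rcases (hy.2 b).2 (Or.inr (Or.inl rfl)) with h4 | h4 | h4
        · exfalso
          have h5 : y • a = a := hy.1
          exact h.ab (smul_left_cancel y (h5.trans h4.symm))
        · left; exact h4
        · right; exact h4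
      · rintro (rfl | rfl)
        · exact MulAction.mem_orbit_self _
        · exact ⟨⟨s, ⟨h.sa, hsL⟩⟩, h.sb⟩
    rw [h3, Set.ncard_pair h.bc]
  have c1 : Nat.card A * 3 = Nat.card (LS G a b c) := by
    rw [← h1, ← Subgroup.card_mul_index (MulAction.stabilizer (LS G a b c) a)]
    congr 1
    have e : (MulAction.stabilizer (LS G a b c) a).map (LS G a b c).subtype = A := by
      ext x
      constructor
      · rintro ⟨⟨y, hy⟩, hya, rfl⟩
        exact ⟨hya, hy⟩
      · rintro ⟨hx, hxL⟩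
        exact ⟨⟨x, hxL⟩, hx, rfl⟩
    rw [← e, Subgroup.card_map_of_injective (LS G a b c).subtype_injective]
  have c2 : Nat.card (KL G a b c) * 2 = Nat.card A := by
    rw [← h2, ← Subgroup.card_mul_index (MulAction.stabilizer A b)]
    congr 1
    have e : (MulAction.stabilizer A b).map A.subtype = KL G a b c := by
      ext x
      constructor
      · rintro ⟨⟨y, hy⟩, hyb, rfl⟩
        have hyb' : y • b = b := hyb
        have hya : y • a = a := hy.1
        refine mem_KL.2 ⟨⟨hya, hyb'⟩, ?_⟩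
        change y • c = c
        rcases (hy.2 c).2 (Or.inr (Or.inr rfl)) with h4 | h4 | h4
        · exact (h.ac (smul_left_cancel y (hya.trans h4.symm))).elim
        · exact (h.bc (smul_left_cancel y (hyb'.trans h4.symm))).elim
        · exact h4
      · intro hx
        obtain ⟨⟨xa, xb⟩, xc⟩ := mem_KL.1 hx
        exact ⟨⟨x, ⟨xa, KL_le hx⟩⟩, xb, rfl⟩
    rw [← e, Subgroup.card_map_of_injective A.subtype_injective]
  omega

/-- BLINE, first half -/
theorem BLINEa (hB : Base G Ω p) (h : D8 G Ω T t r s v a b c) (hU : Cen G T t U)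
    (hUf : ∀ g ∈ U, g • a = a ∧ g • b = b ∧ g • c = c) :
    ∃ L O : Subgroup G, O ≤ L ∧ (∀ x ∈ L, ∀ y ∈ O, x * y * x⁻¹ ∈ O) ∧ Odd (Nat.card O) ∧ U ≤ O ∧ t ∈ L ∧ r ∈ L ∧
      (∀ y ∈ O, y * t = t * y → y ∈ U) ∧ (∃ ρ ∈ L, ρ * t * ρ⁻¹ = r ∧ ρ * r * ρ⁻¹ = t * r) ∧
      Nat.card L = 24 * Nat.card O := by
  obtain ⟨O, hOK, hOodd, hKcard, hO⟩ := exists_O hB h hU hUf
  obtain ⟨ρ, hρ1, hρ2⟩ := exists_rho hB h hU
  have hoddord : ∀ {S : Subgroup G} {y : G}, Odd (Nat.card S) → y ∈ S → Odd (orderOf y) := by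
    intro S y hS hy
    have h1 : orderOf y ∣ Nat.card S := by
      have := orderOf_dvd_natCard (⟨y, hy⟩ : S)
      rwa [Subgroup.orderOf_mk] at this
    obtain ⟨q, hq⟩ := h1
    rw [hq] at hS
    exact (Nat.odd_mul.1 hS).1
  refine ⟨LS G a b c, O, hOK.trans KL_le, ?_, hOodd, ?_, ?_, ?_, ?_, ?_, ?_⟩
  · intro x hx y hy
    rw [hO _ (KL_conj hx (hOK hy))]
    have h1 : orderOf (x * y * x⁻¹) = orderOf y := by
      have := MulEquiv.orderOf_eq (MulAut.conj x) y
      rw [MulAut.conj_apply] at this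
      exact this
    rw [h1]
    exact hoddord hOodd hy
  · intro u hu
    have h1 := hUf u hu
    rw [hO _ (mem_KL.2 ⟨⟨h1.1, h1.2.1⟩, h1.2.2⟩)]
    exact hoddord hU.odd hu
  · exact KL_le (mem_KL.2 ⟨⟨ta h, tb h⟩, tc h⟩)
  · exact KL_le (mem_KL.2 ⟨⟨ra h, rb h⟩, rc h⟩)
  · intro y hy hyt
    exact odd_U hU hyt (hoddord hOodd hy)
  · exact ⟨ρ, conj_LS h hρ1, hρ1, hρ2⟩
  · rw [card_LS hB h hU hUf, hKcard]; ring

end

end Cfsg.Agent.Lib.H52_BLINEa
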