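import Cfsg.Agent.Lib.H52T0
import Cfsg.Agent.Lib.H52_BC1
import Cfsg.Agent.Lib.H52_BC3
import Cfsg.Agent.Lib.H52_BCOUNT2
import Cfsg.Agent.Lib.H52_BLINEa
import Cfsg.Agent.Lib.H52_BLINEb

set_option autoImplicit false
set_option linter.all false

namespace Cfsg.Agent.Lib.H52TriJoin

open Cfsg Cfsg.Agent.Lib.BRPerm Cfsg.Agent.Lib.BRCore Cfsg.Agent.Lib.BRInd Cfsg.Agent.Lib.CharBasic Cfsg.Agent.Lib.BlockThird Cfsg.Agent.Lib.H52T0 Cfsg.Agent.Lib.H15RealP Cfsg.Agent.Lib.BRB0 Cfsg.Agent.Lib.DefOneLoc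
universe u v
variable {G : Type u} [Group G] [Fintype G] {Ω : Type v} [Fintype Ω] [MulAction G Ω] {p : ℕ}

theorem BCOUNT (hB : Base G Ω p) {χ : IrrCharacter G} (hχ : CharD G p 2 χ) (hχt : ∀ t : G, orderOf t = 2 → (χ : G → ℂ) t = 1)
    {T : Sylow 2 G} {t r s v : G} {a b c : Ω} (h : D8 G Ω T t r s v a b c) {U : Subgroup G}
    (hU : Cen G T t U) {x y : IrrCharacter G → ℤ} (hs : Sec G t v U x y)
    (hx : ∑ η : IrrCharacter G, (x η : ℂ) * (η : G → ℂ) t ^ 2 / (η : G → ℂ) 1 = 2 * ((p : ℂ) - 1) ^ 2 / (p * (2 * p - 1)))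
    (hy : ∑ η : IrrCharacter G, (y η : ℂ) * (η : G → ℂ) t ^ 2 / (η : G → ℂ) 1 = 2 * ((p : ℂ) - 1) ^ 2 / (p * (2 * p - 1))) :
    4 * Nat.card U = Nat.card (U ⊓ Subgroup.centralizer ({r} : Set G) : Subgroup G) ^ 2 * (p - 1) := by
  have h2 := Cfsg.Agent.Lib.H52_BCOUNT2.BC2 hB hχ hχt h hU hs hx
  have h1 := Cfsg.Agent.Lib.H52_BC1.star1 hB hχ hχt h hU hs hy
  have h3 := Cfsg.Agent.Lib.H52_BC3.star3 h hU
  exact Cfsg.Agent.Lib.H52_BC3.arith Nat.card_pos Nat.card_pos Nat.card_pos (by rw [h2, mul_assoc]) h1 h3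

theorem BLINE (hB : Base G Ω p) {χ : IrrCharacter G} (hχ : CharD G p 2 χ) (hχt : ∀ t : G, orderOf t = 2 → (χ : G → ℂ) t = 1)
    (h3 : ∀ t : G, orderOf t = 2 → fx Ω t = 3)
    {T : Sylow 2 G} {t r s v : G} {a b c : Ω} (h : D8 G Ω T t r s v a b c) {U : Subgroup G}
    (hU : Cen G T t U) (hUf : ∀ g ∈ U, g • a = a ∧ g • b = b ∧ g • c = c)
    (hcard : 4 * Nat.card U = Nat.card (U ⊓ Subgroup.centralizer ({r} : Set G) : Subgroup G) ^ 2 * (p - 1)) :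
    p = 5 ∧ ∃ A : ℕ, Odd A ∧ Nat.card G = 360 * A ^ 4 := by
  have h5 := hB.h5
  obtain ⟨L, O, hOL, hOn, hOodd, hUO, htL, hrL, hCO, hρ, hGL⟩ := Cfsg.Agent.Lib.H52_BLINEa.BLINEa hB h hU hUf
  have ht : t * t = 1 := by have := pow_orderOf_eq_one t; rwa [h.ot, pow_two] at this
  have hr : r * r = 1 := by have := pow_orderOf_eq_one r; rwa [h.or, pow_two] at this
  have ht1 : t ≠ 1 := by intro h1; have := h.ot; rw [h1, orderOf_one] at this; omega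
  have hr1 : r ≠ 1 := by intro h1; have := h.or; rw [h1, orderOf_one] at this; omega
  have hE : Nat.card G * (p - 1) = 32 * p * (2 * p - 1) * Nat.card U ^ 2 := by
    have h4 := hχ.E1 t h.ot 1 (by rw [hχt t h.ot]; norm_num)
    rw [hU.card] at h4
    have e0 : ((p - 1 : ℕ) : ℤ) = p - 1 := by push_cast [Nat.cast_sub (show 1 ≤ p by omega)]; ring
    have e1 : ((2 * p - 1 : ℕ) : ℤ) = 2 * p - 1 := by push_cast [Nat.cast_sub (show 1 ≤ 2 * p by omega)]; ring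
    have h6 : (4 * ((p : ℤ) - 1)) ≠ 0 := by
      have : (5 : ℤ) ≤ p := by exact_mod_cast h5
      omega
    have h7 : ((Nat.card G * (p - 1) : ℕ) : ℤ) = ((32 * p * (2 * p - 1) * Nat.card U ^ 2 : ℕ) : ℤ) := by
      rw [Nat.cast_mul, e0, Nat.cast_mul, Nat.cast_mul, Nat.cast_mul, e1, Nat.cast_pow]
      apply mul_right_cancel₀ h6
      push_cast
      push_cast at h4
      linear_combination h4
    exact_mod_cast h7
  exact Cfsg.Agent.Lib.H52_BLINEb.main h5 ht hr ht1 hr1 h.rt h.rnt hU.odd hU.le hE hcard hOn hOodd hUO htL hrL hCO hρ hGL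

end Cfsg.Agent.Lib.H52TriJoin
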