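import Cfsg.Agent.Lib.H52T0
import Cfsg.Agent.Lib.H52_A0Dx

/-! S3254 piece A0D -/

set_option autoImplicit false
set_option linter.all false

namespace Cfsg.Agent.Lib.H52_A0D

open Cfsg Cfsg.Agent.Lib.BRPerm Cfsg.Agent.Lib.BRCore Cfsg.Agent.Lib.BRInd Cfsg.Agent.Lib.CharBasic Cfsg.Agent.Lib.BlockThird Cfsg.Agent.Lib.H52T0

universe u v

variable {G : Type u} [Group G] [Fintype G] {Ω : Type v} [Fintype Ω] [MulAction G Ω] {p : ℕ}

/-- A0D -/
theorem A0D (hB : Base G Ω p) (h3 : MulAction.IsMultiplyPretransitive G Ω 3)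
    (hD : ∀ x y : Ω, x ≠ y → Odd (Nat.card (MulAction.stabilizer G x ⊓ MulAction.stabilizer G y : Subgroup G)))
    (hg : ∃ g : G, g ≠ 1 ∧ p ≤ fx Ω g) (x y z : Ω) (hxy : x ≠ y) (hxz : x ≠ z) (hyz : y ≠ z) :
    ∀ w : Ω, (∀ j : G, j • x = x → j • y = y → j • z = z → j • w = w) → w = x ∨ w = y ∨ w = z := by
  classical
  obtain ⟨g, hg1, hgf⟩ := hg
  haveI := hB.faithful
  have h5 := hB.h5
  have hodd : Odd p := hB.hp.odd_of_ne_two (by omega)
  have hcard : Fintype.card Ω = 3 * p := by rw [← Nat.card_eq_fintype_card]; exact hB.card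
  rw [fx, H52_A0Dx.fx_eq] at hgf
  exact H52_A0Dx.main h5 hodd hcard h3 hg1 hgf hxy hxz hyz

end Cfsg.Agent.Lib.H52_A0D
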