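import Cfsg.Agent.Lib.H52T0

set_option autoImplicit false
set_option linter.all false

namespace Cfsg.Agent.Lib.H52_A0F

universe u v

open MulAction

variable {G : Type u} [Group G] [Fintype G] {Ω : Type v} [Fintype Ω] [MulAction G Ω] {p : ℕ}

/-- the embedding given by four distinct points -/
def emb4 (x y z w : Ω) (hxy : x ≠ y) (hxz : x ≠ z) (hyz : y ≠ z) (hwx : w ≠ x) (hwy : w ≠ y) (hwz : w ≠ z) : Fin 4 ↪ Ω where
  toFun := ![x, y, z, w]
  inj' := by
    intro i j h
    fin_cases i <;> fin_cases j <;> simp_all [Matrix.vecHead, Matrix.vecTail] <;> first | exact absurd h.symm (by assumption) | skip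

def emb3 (x y z : Ω) (hxy : x ≠ y) (hxz : x ≠ z) (hyz : y ≠ z) : Fin 3 ↪ Ω where
  toFun := ![x, y, z]
  inj' := by
    intro i j h
    fin_cases i <;> fin_cases j <;> simp_all [Matrix.vecHead, Matrix.vecTail]

/-- the pointwise stabilizer of three points -/
def J (G : Type u) [Group G] {Ω : Type v} [MulAction G Ω] (x y z : Ω) : Subgroup G :=
  stabilizer G x ⊓ stabilizer G y ⊓ stabilizer G z

theorem mem_J {x y z : Ω} {j : G} : j ∈ J G x y z ↔ j • x = x ∧ j • y = y ∧ j • z = z := by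
  rw [J, Subgroup.mem_inf, Subgroup.mem_inf, mem_stabilizer_iff, mem_stabilizer_iff, mem_stabilizer_iff, and_assoc]

/-- 3-transitivity in usable form -/
theorem move3 (h3 : IsMultiplyPretransitive G Ω 3) (e : Fin 4 ↪ Ω) (x y z : Ω) (hxy : x ≠ y) (hxz : x ≠ z) (hyz : y ≠ z) :
    ∃ g : G, g • e 0 = x ∧ g • e 1 = y ∧ g • e 2 = z := by
  have := h3
  obtain ⟨g, hg⟩ := MulAction.exists_smul_eq G
    (emb3 (e 0) (e 1) (e 2) (fun h => by simpa using e.injective h) (fun h => by simpa using e.injective h)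
      (fun h => by simpa using e.injective h)) (emb3 x y z hxy hxz hyz)
  have key : ∀ i, g • (![e 0, e 1, e 2] : Fin 3 → Ω) i = ![x, y, z] i := fun i => by
    have := congrArg (fun f : Fin 3 ↪ Ω => f i) hg
    exact this
  exact ⟨g, key 0, key 1, key 2⟩

theorem card_le (h3 : IsMultiplyPretransitive G Ω 3) (x y z : Ω) (hxy : x ≠ y) (hxz : x ≠ z) (hyz : y ≠ z) :
    Nat.card (orbitRel.Quotient G (Fin 4 ↪ Ω)) ≤
      Nat.card {q : orbitRel.Quotient (J G x y z) Ω // ∃ w : Ω, w ≠ x ∧ w ≠ y ∧ w ≠ z ∧ q = Quotient.mk'' w} := by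
  classical
  have hsec : ∀ c : orbitRel.Quotient G (Fin 4 ↪ Ω), ∃ w : Ω, ∃ (h1 : w ≠ x) (h2 : w ≠ y) (h3 : w ≠ z),
      c = Quotient.mk'' (emb4 x y z w hxy hxz hyz h1 h2 h3) := by
    intro c
    induction c using Quotient.inductionOn' with
    | h e =>
      obtain ⟨g, h0, h1, h2⟩ := move3 h3 e x y z hxy hxz hyz
      have hw : ∀ i : Fin 4, i ≠ 3 → g • e 3 ≠ g • e i := by
        intro i hi h
        exact hi (e.injective (MulAction.injective g h)).symm
      refine ⟨g • e 3, fun h => hw 0 (by decide) (h.trans h0.symm), fun h => hw 1 (by decide) (h.trans h1.symm),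
        fun h => hw 2 (by decide) (h.trans h2.symm), ?_⟩
      refine Quotient.sound' ?_
      rw [orbitRel_apply]
      refine ⟨g⁻¹, ?_⟩
      show g⁻¹ • _ = e
      rw [inv_smul_eq_iff]
      ext i
      show (![x, y, z, g • e 3] : Fin 4 → Ω) i = g • e i
      fin_cases i
      · exact h0.symm
      · exact h1.symm
      · exact h2.symm
      · rfl
  choose w w1 w2 w3 hw using hsec
  refine Nat.card_le_card_of_injective (fun c => ⟨Quotient.mk'' (w c), w c, w1 c, w2 c, w3 c, rfl⟩) ?_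
  intro c c' h
  have h' : (Quotient.mk'' (w c) : orbitRel.Quotient (J G x y z) Ω) = Quotient.mk'' (w c') := congrArg Subtype.val h
  have h'' := Quotient.exact' h'
  rw [orbitRel_apply] at h''
  obtain ⟨j, hj⟩ := h''
  have hj' : (j : G) • w c' = w c := hj
  obtain ⟨j1, j2, j3⟩ := mem_J.1 j.2
  rw [hw c, hw c']
  refine Quotient.sound' ?_
  rw [orbitRel_apply]
  refine ⟨(j : G), ?_⟩
  ext i
  show (j : G) • (![x, y, z, w c'] : Fin 4 → Ω) i = (![x, y, z, w c] : Fin 4 → Ω) i
  fin_cases i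
  · exact j1
  · exact j2
  · exact j3
  · exact hj'

theorem core [FaithfulSMul G Ω] (hp5 : 5 ≤ p) (hodd : Odd p) (hcard : Nat.card Ω = 3 * p)
    (h3 : IsMultiplyPretransitive G Ω 3)
    (h1 : ∀ t : G, orderOf t = 2 → Nat.card (fixedBy Ω t) = 1)
    (hfix : ∀ x y z : Ω, x ≠ y → x ≠ z → y ≠ z → ∀ w : Ω, (∀ j : G, j • x = x → j • y = y → j • z = z → j • w = w) → w = x ∨ w = y ∨ w = z)
    (h4 : p - 2 ≤ Nat.card (orbitRel.Quotient G (Fin 4 ↪ Ω)))
    (g : G) (hg : p ≤ Nat.card (fixedBy Ω g)) : g ^ 3 = 1 := by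
  classical
  -- three fixed points
  obtain ⟨x, y, z, hx, hy, hz, hxy, hxz, hyz⟩ : ∃ x y z : Ω, g • x = x ∧ g • y = y ∧ g • z = z ∧ x ≠ y ∧ x ≠ z ∧ y ≠ z := by
    have h : 2 < Fintype.card (fixedBy Ω g) := by rw [← Nat.card_eq_fintype_card]; omega
    obtain ⟨a, b, c, hab, hac, hbc⟩ := Fintype.two_lt_card_iff.1 h
    exact ⟨a, b, c, a.2, b.2, c.2, fun h => hab (Subtype.ext h), fun h => hac (Subtype.ext h), fun h => hbc (Subtype.ext h)⟩
  set K := J G x y z with hK
  have hgK : g ∈ K := mem_J.2 ⟨hx, hy, hz⟩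
  -- `K` has odd order
  have hKodd : Odd (Nat.card K) := by
    rw [← Nat.not_even_iff_odd]
    intro he
    obtain ⟨t, ht⟩ := exists_prime_orderOf_dvd_card' (G := K) 2 he.two_dvd
    have ht' : orderOf (t : G) = 2 := by rw [Subgroup.orderOf_coe]; exact ht
    have := h1 _ ht'
    obtain ⟨t1, t2, t3⟩ := mem_J.1 t.2
    have hsub : (fixedBy Ω (t : G)).Subsingleton := by
      have hss : Subsingleton (fixedBy Ω (t : G)) := (Nat.card_eq_one_iff_unique.1 this).1
      exact Set.subsingleton_coe _ |>.1 hss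
    exact hxy (hsub t1 t2)
  -- orbits
  let Q := orbitRel.Quotient K Ω
  let f : Ω → Q := fun w => Quotient.mk'' w
  have hf : ∀ a b : Ω, f a = f b ↔ a ∈ orbit K b := by
    intro a b
    show (Quotient.mk'' a : Q) = Quotient.mk'' b ↔ _
    rw [Quotient.eq'', orbitRel_apply]
  let s : Q → ℕ := fun q => (Finset.univ.filter (fun w => f w = q)).card
  have hs : ∀ w : Ω, s (f w) = Nat.card (orbit K w) := by
    intro w
    show (Finset.univ.filter (fun a => f a = f w)).card = _
    rw [Nat.card_eq_fintype_card, Fintype.card_subtype]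
    congr 1
    ext a
    simp only [Finset.mem_filter, Finset.mem_univ, true_and]
    exact hf a w
  have hsodd : ∀ q, Odd (s q) := by
    intro q
    induction q using Quotient.inductionOn' with
    | h w =>
      show Odd (s (f w))
      rw [hs]
      refine hKodd.of_dvd_nat ?_
      rw [Nat.card_eq_fintype_card, Nat.card_eq_fintype_card, ← MulAction.card_orbit_mul_card_stabilizer_eq_card_group K w]
      exact dvd_mul_right _ _
  have hs3 : ∀ w : Ω, w ≠ x → w ≠ y → w ≠ z → 3 ≤ s (f w) := by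
    intro w hwx hwy hwz
    have h1 : s (f w) ≠ 1 := by
      intro h
      rw [hs] at h
      have hss : Subsingleton (orbit K w) := (Nat.card_eq_one_iff_unique.1 h).1
      have := hfix x y z hxy hxz hyz w (fun j j1 j2 j3 => by
        have := hss.allEq ⟨(⟨j, mem_J.2 ⟨j1, j2, j3⟩⟩ : K) • w, mem_orbit _ _⟩ ⟨w, mem_orbit_self w⟩
        exact congrArg Subtype.val this)
      rcases this with h | h | h
      · exact hwx h
      · exact hwy h
      · exact hwz h
    obtain ⟨m, hm⟩ := hsodd (f w)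
    omega
  have hfixed : ∀ w : Ω, (∀ j ∈ K, j • w = w) → ∀ a, f a = f w → a = w := by
    intro w hw a ha
    rw [hf] at ha
    obtain ⟨j, hj⟩ := ha
    rw [← hj]; exact hw _ j.2
  have hKx : ∀ j ∈ K, j • x = x := fun j hj => (mem_J.1 hj).1
  have hKy : ∀ j ∈ K, j • y = y := fun j hj => (mem_J.1 hj).2.1
  have hKz : ∀ j ∈ K, j • z = z := fun j hj => (mem_J.1 hj).2.2
  let T : Finset Q := {f x, f y, f z}
  have hT : T.card = 3 := by
    refine Finset.card_eq_three.2 ⟨f x, f y, f z, fun h => hxy ?_, fun h => hxz ?_, fun h => hyz ?_, rfl⟩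
    · exact hfixed y hKy x h
    · exact hfixed z hKz x h
    · exact hfixed z hKz y h
  have hsT : ∀ w : Ω, (∀ j ∈ K, j • w = w) → s (f w) = 1 := by
    intro w hw
    rw [Finset.card_eq_one]
    refine ⟨w, ?_⟩
    ext a
    simp only [Finset.mem_filter, Finset.mem_univ, true_and, Finset.mem_singleton]
    exact ⟨fun h => hfixed w hw a h, fun h => by rw [h]⟩
  have hsum : ∑ q : Q, s q = 3 * p := by
    rw [← hcard, Nat.card_eq_fintype_card, ← Finset.card_univ]
    exact (Finset.card_eq_sum_card_fiberwise (fun a _ => Finset.mem_univ (f a))).symm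
  have hsumT : ∑ q ∈ T, s q = 3 := by
    rw [← hT, Finset.card_eq_sum_ones]
    refine Finset.sum_congr rfl fun q hq => ?_
    simp only [T, Finset.mem_insert, Finset.mem_singleton] at hq
    rcases hq with rfl | rfl | rfl
    · exact hsT x hKx
    · exact hsT y hKy
    · exact hsT z hKz
  have hsumC : ∑ q ∈ Tᶜ, s q = 3 * p - 3 := by
    have := Finset.sum_add_sum_compl T s
    omega
  have hC : ∀ q ∈ Tᶜ, ∃ w : Ω, w ≠ x ∧ w ≠ y ∧ w ≠ z ∧ q = f w := by
    intro q hq
    induction q using Quotient.inductionOn' with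
    | h w =>
      rw [Finset.mem_compl] at hq
      simp only [T, Finset.mem_insert, Finset.mem_singleton, not_or] at hq
      exact ⟨w, fun h => hq.1 (by rw [h]), fun h => hq.2.1 (by rw [h]), fun h => hq.2.2 (by rw [h]), rfl⟩
  have hC3 : ∀ q ∈ Tᶜ, 3 ≤ s q := by
    intro q hq
    obtain ⟨w, h1, h2, h3, rfl⟩ := hC q hq
    exact hs3 w h1 h2 h3
  have hr : Nat.card (orbitRel.Quotient G (Fin 4 ↪ Ω)) ≤ Tᶜ.card := by
    refine (card_le h3 x y z hxy hxz hyz).trans ?_
    rw [Nat.card_eq_fintype_card, Fintype.card_subtype]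
    refine Finset.card_le_card ?_
    intro q hq
    simp only [Finset.mem_filter, Finset.mem_univ, true_and] at hq
    obtain ⟨w, h1, h2, h3, rfl⟩ := hq
    rw [Finset.mem_compl]
    simp only [T, Finset.mem_insert, Finset.mem_singleton, not_or]
    exact ⟨fun h => h1 (hfixed x hKx w h), fun h => h2 (hfixed y hKy w h), fun h => h3 (hfixed z hKz w h)⟩
  -- upper bound
  have hup : 3 * Tᶜ.card ≤ 3 * p - 3 := by
    rw [← hsumC]
    have := Finset.card_nsmul_le_sum Tᶜ s 3 hC3
    rw [smul_eq_mul, mul_comm] at this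
    exact this
  -- parity
  have hpar : Tᶜ.card % 2 = (3 * p - 3) % 2 := by
    rw [← hsumC, Finset.card_eq_sum_ones, Finset.sum_nat_mod, Finset.sum_nat_mod Tᶜ 2 s]
    congr 1
    refine Finset.sum_congr rfl fun q _ => ?_
    have := Nat.odd_iff.1 (hsodd q)
    omega
  have hcardT : Tᶜ.card = p - 1 := by
    obtain ⟨m, hm⟩ := hodd
    omega
  -- all orbits have size three
  have hall : ∀ q ∈ Tᶜ, s q = 3 := by
    have h := (Finset.sum_eq_sum_iff_of_le (f := fun _ => 3) (g := s) hC3).1 (by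
      rw [Finset.sum_const, smul_eq_mul, hsumC, hcardT]; omega)
    intro q hq
    exact (h q hq).symm
  -- conclusion
  refine FaithfulSMul.eq_of_smul_eq_smul (α := Ω) fun w => ?_
  rw [one_smul]
  by_cases hwx : w = x
  · subst hwx; rw [pow_succ, pow_two, mul_smul, mul_smul, hx, hx, hx]
  by_cases hwy : w = y
  · subst hwy; rw [pow_succ, pow_two, mul_smul, mul_smul, hy, hy, hy]
  by_cases hwz : w = z
  · subst hwz; rw [pow_succ, pow_two, mul_smul, mul_smul, hz, hz, hz]
  have hw3 : s (f w) = 3 := hall _ (by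
    rw [Finset.mem_compl]
    simp only [T, Finset.mem_insert, Finset.mem_singleton, not_or]
    exact ⟨fun h => hwx (hfixed x hKx w h), fun h => hwy (hfixed y hKy w h), fun h => hwz (hfixed z hKz w h)⟩)
  rw [hs] at hw3
  -- the orbit of `w` under the powers of `g`
  have hle : Nat.card (orbit (Subgroup.zpowers g) w) ≤ 3 := by
    rw [← hw3]
    refine Nat.card_mono (Set.toFinite _) ?_
    rintro _ ⟨k, rfl⟩
    exact ⟨⟨k.1, (Subgroup.zpowers_le.2 hgK) k.2⟩, rfl⟩
  have hper : Function.minimalPeriod (g • ·) w = Nat.card (orbit (Subgroup.zpowers g) w) :=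
    (MulAction.minimalPeriod_eq_card (a := g) (b := w)).trans (Nat.card_eq_fintype_card).symm
  have hdvd : Function.minimalPeriod (g • ·) w ∣ Nat.card K := by
    rw [hper]
    refine dvd_trans ?_ (Subgroup.card_dvd_of_le (Subgroup.zpowers_le.2 hgK))
    rw [Nat.card_eq_fintype_card, Nat.card_eq_fintype_card, ← MulAction.card_orbit_mul_card_stabilizer_eq_card_group (Subgroup.zpowers g) w]
    exact dvd_mul_right _ _
  have hmodd : Odd (Function.minimalPeriod (g • ·) w) := hKodd.of_dvd_nat hdvd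
  have hdiv3 : Function.minimalPeriod (g • ·) w ∣ 3 := by
    obtain ⟨m, hm⟩ := hmodd
    rw [← hper] at hle
    have : Function.minimalPeriod (g • ·) w = 1 ∨ Function.minimalPeriod (g • ·) w = 3 := by omega
    rcases this with h | h
    · rw [h]; exact one_dvd _
    · rw [h]
  have h' : Function.IsPeriodicPt (g • ·) 3 w := (Function.isPeriodicPt_iff_minimalPeriod_dvd).2 hdiv3
  have h'' : (g • ·)^[3] w = w := h'
  rw [smul_iterate] at h''
  exact h''

theorem cyc_bound {g : G} (hg1 : g ≠ 1) (hg3 : g ^ 3 = 1) :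
    Nat.card Ω + 2 * Nat.card (fixedBy Ω g) ≤ 3 * Nat.card (orbitRel.Quotient (Subgroup.zpowers g) Ω) := by
  classical
  have ho : orderOf g = 3 := orderOf_eq_prime hg3 hg1
  have hc : Fintype.card (Subgroup.zpowers g) = 3 := by rw [← Nat.card_eq_fintype_card, Nat.card_zpowers, ho]
  have h := MulAction.sum_card_fixedBy_eq_card_orbits_mul_card_group (Subgroup.zpowers g) Ω
  rw [hc] at h
  rw [Nat.card_eq_fintype_card (α := orbitRel.Quotient (Subgroup.zpowers g) Ω)]
  have h2 : ∑ a : Subgroup.zpowers g, Fintype.card (fixedBy Ω a) =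
      Fintype.card (fixedBy Ω (1 : Subgroup.zpowers g)) + ∑ a ∈ Finset.univ.erase (1 : Subgroup.zpowers g), Fintype.card (fixedBy Ω a) :=
    (Finset.add_sum_erase _ _ (Finset.mem_univ _)).symm
  have h3 : Fintype.card (fixedBy Ω (1 : Subgroup.zpowers g)) = Nat.card Ω := by
    rw [← Nat.card_eq_fintype_card]
    have : fixedBy Ω (1 : Subgroup.zpowers g) = Set.univ := by
      ext w; simp
    rw [this, Nat.card_univ]
  have h4 : 2 * Nat.card (fixedBy Ω g) ≤ ∑ a ∈ Finset.univ.erase (1 : Subgroup.zpowers g), Fintype.card (fixedBy Ω a) := by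
    have h5 : (Finset.univ.erase (1 : Subgroup.zpowers g)).card = 2 := by
      rw [Finset.card_erase_of_mem (Finset.mem_univ _), Finset.card_univ, hc]
    have := Finset.card_nsmul_le_sum (Finset.univ.erase (1 : Subgroup.zpowers g)) (fun a => Fintype.card (fixedBy Ω a))
      (Nat.card (fixedBy Ω g)) (fun a _ => by
        rw [← Nat.card_eq_fintype_card]
        refine Nat.card_mono (Set.toFinite _) ?_
        intro w hw
        obtain ⟨k, hk⟩ := Subgroup.mem_zpowers_iff.1 a.2
        rw [mem_fixedBy] at hw ⊢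
        show (a : G) • w = w
        rw [← hk]
        have : g ∈ stabilizer G w := hw
        exact (stabilizer G w).zpow_mem this k)
    rw [h5, smul_eq_mul] at this
    exact this
  rw [h2, h3] at h
  have h6 : Fintype.card (Quotient (orbitRel (Subgroup.zpowers g) Ω)) = Fintype.card (orbitRel.Quotient (Subgroup.zpowers g) Ω) := Fintype.card_congr (Equiv.refl _)
  omega

open Cfsg Cfsg.Agent.Lib.BRPerm Cfsg.Agent.Lib.BRCore Cfsg.Agent.Lib.BRInd Cfsg.Agent.Lib.CharBasic Cfsg.Agent.Lib.BlockThird Cfsg.Agent.Lib.H52T0 Cfsg.Agent.Lib.H15RealP Cfsg.Agent.Lib.BRB0 Cfsg.Agent.Lib.DefOneLoc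

/-- A0F -/
theorem A0F (hB : Base G Ω p) (h3 : MulAction.IsMultiplyPretransitive G Ω 3)
    (h1 : ∀ t : G, orderOf t = 2 → fx Ω t = 1)
    (hfix : ∀ x y z : Ω, x ≠ y → x ≠ z → y ≠ z → ∀ w : Ω, (∀ j : G, j • x = x → j • y = y → j • z = z → j • w = w) → w = x ∨ w = y ∨ w = z)
    (h4 : p - 2 ≤ Nat.card (MulAction.orbitRel.Quotient G (Fin 4 ↪ Ω)))
    (hg : ∃ g : G, g ≠ 1 ∧ ¬ p ∣ orderOf g ∧ p ≤ fx Ω g)
    (hcyc : ∀ g : G, g ≠ 1 → ¬ p ∣ orderOf g → 2 * cyc Ω g ≤ 3 * p + 1) : False := by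
  have := hB.faithful
  have hodd : Odd p := hB.hp.odd_of_ne_two (by have := hB.h5; omega)
  obtain ⟨g, hg1, hgp, hgf⟩ := hg
  have hc3 := core hB.h5 hodd hB.card h3 h1 hfix h4 g hgf
  have hb := cyc_bound (Ω := Ω) hg1 hc3
  have hb2 := hcyc g hg1 hgp
  have h5 := hB.h5
  have hcard := hB.card
  have e1 : cyc Ω g = Nat.card (MulAction.orbitRel.Quotient (Subgroup.zpowers g) Ω) := rfl
  have e2 : fx Ω g = Nat.card (MulAction.fixedBy Ω g) := rfl
  rw [← e1, ← e2, hcard] at hb
  omega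

end Cfsg.Agent.Lib.H52_A0F
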