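import Cfsg.Agent.Lib.H52T0

/-!
# S3254, piece A0M: the moments of the permutation character (helper22)
-/

set_option autoImplicit false
set_option linter.all false
set_option linter.style.haveILetI false

namespace Cfsg.Agent.Lib.H52_A0M

open Cfsg Cfsg.Agent.Lib.BRPerm Cfsg.Agent.Lib.BRCore Cfsg.Agent.Lib.BRInd Cfsg.Agent.Lib.CharBasic Cfsg.Agent.Lib.BlockThird Cfsg.Agent.Lib.H52T0 Cfsg.Agent.Lib.H15RealP Cfsg.Agent.Lib.BRB0 Cfsg.Agent.Lib.DefOneLoc

universe u v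

variable {G : Type u} [Group G] [Fintype G] {Ω : Type v} [Fintype Ω] [MulAction G Ω] {p : ℕ}

/-- Burnside's lemma on injections -/
theorem burn (m : ℕ) : ∑ g : G, (fx Ω g).descFactorial m =
    Nat.card (MulAction.orbitRel.Quotient G (Fin m ↪ Ω)) * Nat.card G := by
  classical
  haveI : ∀ g : G, Fintype (MulAction.fixedBy (Fin m ↪ Ω) g) := fun g => Fintype.ofFinite _
  haveI : Fintype (MulAction.orbitRel.Quotient G (Fin m ↪ Ω)) := Fintype.ofFinite _
  have h := MulAction.sum_card_fixedBy_eq_card_orbits_mul_card_group G (Fin m ↪ Ω)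
  rw [Nat.card_eq_fintype_card, Nat.card_eq_fintype_card, ← h]
  refine Finset.sum_congr rfl fun g _ => ?_
  have e : MulAction.fixedBy (Fin m ↪ Ω) g ≃ (Fin m ↪ MulAction.fixedBy Ω g) :=
    { toFun := fun f => ⟨fun i => ⟨f.1 i, by
          have h1 := f.2
          rw [MulAction.mem_fixedBy] at h1 ⊢
          conv_rhs => rw [← h1]
          rfl⟩, fun i j hij => f.1.injective (Subtype.ext_iff.1 hij)⟩
      invFun := fun f => ⟨f.trans (Function.Embedding.subtype _), by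
          rw [MulAction.mem_fixedBy]
          ext i
          exact (f i).2⟩
      left_inv := fun f => by ext i; rfl
      right_inv := fun f => by ext i; rfl }
  rw [← Nat.card_eq_fintype_card, Nat.card_congr e, Nat.card_eq_fintype_card, Fintype.card_embedding_eq,
    Fintype.card_fin, fx, Nat.card_eq_fintype_card]

theorem fx_le_cyc (g : G) : fx Ω g ≤ cyc Ω g := by
  classical
  unfold fx cyc
  refine Nat.card_le_card_of_injective (fun w : MulAction.fixedBy Ω g =>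
    (Quotient.mk'' w.1 : MulAction.orbitRel.Quotient (Subgroup.zpowers g) Ω)) ?_
  intro w w' h
  have h1 : (w.1 : Ω) ∈ MulAction.orbit (Subgroup.zpowers g) (w'.1 : Ω) := Quotient.eq''.1 h
  obtain ⟨⟨x, hx⟩, hxw⟩ := h1
  have hle : Subgroup.zpowers g ≤ MulAction.stabilizer G (w'.1 : Ω) := by
    rw [Subgroup.zpowers_le, MulAction.mem_stabilizer_iff]
    exact w'.2
  have h2 : x • (w'.1 : Ω) = w'.1 := MulAction.mem_stabilizer_iff.1 (hle hx)
  have h3 : x • (w'.1 : Ω) = w.1 := hxw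
  exact Subtype.ext (h3.symm.trans h2)

theorem one_orbit {X : Type*} [MulAction G X] [Nonempty X] (h : MulAction.IsPretransitive G X) :
    Nat.card (MulAction.orbitRel.Quotient G X) = 1 := by
  obtain ⟨hu⟩ := (MulAction.pretransitive_iff_unique_quotient_of_nonempty G X).1 h
  exact Nat.card_unique

theorem df1 (n : ℕ) : ((n.descFactorial 1 : ℕ) : ℤ) = n := by simp
theorem df2 (n : ℕ) : ((n.descFactorial 2 : ℕ) : ℤ) = n * (n - 1) := by
  rcases n with _ | _ | n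
  · simp
  · simp [Nat.descFactorial]
  · simp only [Nat.succ_descFactorial_succ, Nat.descFactorial_zero]; push_cast; ring
theorem df3 (n : ℕ) : ((n.descFactorial 3 : ℕ) : ℤ) = n * (n - 1) * (n - 2) := by
  rcases n with _ | _ | _ | n
  · simp
  · simp [Nat.descFactorial]
  · simp [Nat.descFactorial]
  · simp only [Nat.succ_descFactorial_succ, Nat.descFactorial_zero]; push_cast; ring
theorem df4 (n : ℕ) : ((n.descFactorial 4 : ℕ) : ℤ) = n * (n - 1) * (n - 2) * (n - 3) := by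
  rcases n with _ | _ | _ | _ | n
  · simp
  · simp [Nat.descFactorial]
  · simp [Nat.descFactorial]
  · simp [Nat.descFactorial]
  · simp only [Nat.succ_descFactorial_succ, Nat.descFactorial_zero]; push_cast; ring

open Classical in
theorem split (hp1 : p ≠ 1) (hcard : Nat.card Ω = 3 * p) (hsing : ∀ g : G, p ∣ orderOf g → fx Ω g = 0) (f : ℤ → ℤ) :
    ∑ g : G, f (fx Ω g) = f (3 * p) + Nat.card {g : G // p ∣ orderOf g} * f 0 +
      ∑ g ∈ Finset.univ.filter (fun g : G => g ≠ 1 ∧ ¬ p ∣ orderOf g), f (fx Ω g) := by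
  have h1 := Finset.sum_filter_add_sum_filter_not Finset.univ (fun g : G => p ∣ orderOf g) (fun g : G => f (fx Ω g))
  have h2 : ∑ g ∈ Finset.univ.filter (fun g : G => p ∣ orderOf g), f (fx Ω g) =
      Nat.card {g : G // p ∣ orderOf g} * f 0 := by
    rw [Finset.sum_congr rfl (g := fun _ => f 0) (fun g hg => by
      rw [hsing g (Finset.mem_filter.1 hg).2]; rfl), Finset.sum_const, nsmul_eq_mul, Nat.card_eq_fintype_card,
      Fintype.card_subtype]
  have h3 : Finset.univ.filter (fun g : G => ¬ p ∣ orderOf g) =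
      insert 1 (Finset.univ.filter (fun g : G => g ≠ 1 ∧ ¬ p ∣ orderOf g)) := by
    ext g
    simp only [Finset.mem_filter, Finset.mem_univ, true_and, Finset.mem_insert]
    constructor
    · intro h
      by_cases hg : g = 1
      · exact Or.inl hg
      · exact Or.inr ⟨hg, h⟩
    · rintro (rfl | h)
      · rw [orderOf_one, Nat.dvd_one]; exact hp1
      · exact h.2
  have h4 : fx Ω (1 : G) = 3 * p := by
    rw [fx, MulAction.fixedBy_one_eq_univ, Nat.card_congr (Equiv.Set.univ Ω), hcard]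
  rw [← h1, h2, h3, Finset.sum_insert (by simp), h4]
  push_cast
  ring

theorem num1 {P K r : ℤ} (hP : 5 ≤ P) (hK2 : (P - 1) ^ 2 ≤ 9 * K ^ 2) (hr : 2 ≤ r)
    (h : 2 * (9 * P * K ^ 2 * r - 3 * P) ≤ (3 * P + 1) * (9 * K ^ 2 - 1)) : False := by
  obtain ⟨X, hX⟩ : ∃ X : ℤ, X = 9 * K ^ 2 := ⟨_, rfl⟩
  have h' : 2 * (P * X * r - 3 * P) ≤ (3 * P + 1) * (X - 1) := by rw [hX]; linear_combination h
  rw [← hX] at hK2
  have h16 : 16 ≤ X := by
    have : (4 : ℤ) ^ 2 ≤ (P - 1) ^ 2 := pow_le_pow_left₀ (by norm_num) (by linarith) 2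
    linarith
  have a1 : 0 ≤ P * X * (r - 2) := mul_nonneg (mul_nonneg (by linarith) (by linarith)) (by linarith)
  have a2 : 0 ≤ (X - 16) * (P - 1) := mul_nonneg (by linarith) (by linarith)
  have a3 : X * (P - 1) ≤ 3 * P - 1 := by linear_combination h' + 2 * a1
  have a4 : 16 * (P - 1) ≤ X * (P - 1) := by linear_combination a2
  linarith

theorem num2 {P K : ℤ} (hP : 5 ≤ P) (hK2 : (P - 1) ^ 2 ≤ 9 * K ^ 2)
    (h : 2 * (9 * P * K ^ 2 * 1 - 3 * P) ≤ 2 * (P - 1) * (9 * K ^ 2 - 1)) : False := by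
  obtain ⟨X, hX⟩ : ∃ X : ℤ, X = 9 * K ^ 2 := ⟨_, rfl⟩
  have h' : 2 * (P * X - 3 * P) ≤ 2 * (P - 1) * (X - 1) := by rw [hX]; linear_combination h
  rw [← hX] at hK2
  have a1 : X ≤ 2 * P + 1 := by linarith
  have a2 : 0 ≤ (P - 5) * P := mul_nonneg (by linarith) (by linarith)
  have a3 : (P - 1) ^ 2 = P ^ 2 - 2 * P + 1 := by ring
  have a4 : (P - 5) * P = P ^ 2 - 5 * P := by ring
  rw [a4] at a2
  rw [a3] at hK2
  linarith

set_option maxHeartbeats 1000000 in
open Classical in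
theorem main (hp5 : 5 ≤ p) (hcard : Nat.card Ω = 3 * p) (hsing : ∀ g : G, p ∣ orderOf g → fx Ω g = 0)
    (hns : 2 * p * Nat.card {g : G // p ∣ orderOf g} = Nat.card G * (p - 1)) (ht : MulAction.IsPretransitive G Ω)
    (h2 : MulAction.IsMultiplyPretransitive G Ω 2) (k : ℕ)
    (hk : Nat.card G = 9 * p * k ^ 2 * (3 * p - 1) * (3 * p - 2)) (hk1 : p - 1 ≤ 3 * k)
    (hcyc : ∀ g : G, g ≠ 1 → ¬ p ∣ orderOf g → 2 * cyc Ω g ≤ 3 * p + 1) :
    MulAction.IsMultiplyPretransitive G Ω 3 ∧ (∃ g : G, g ≠ 1 ∧ ¬ p ∣ orderOf g ∧ p ≤ fx Ω g) ∧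
    p - 2 ≤ Nat.card (MulAction.orbitRel.Quotient G (Fin 4 ↪ Ω)) := by
  have hne : ∀ m : ℕ, m ≤ 4 → Nonempty (Fin m ↪ Ω) := fun m hm => by
    apply Function.Embedding.nonempty_of_card_le
    rw [Fintype.card_fin, ← Nat.card_eq_fintype_card, hcard]; omega
  haveI := hne 1 (by norm_num)
  haveI := hne 2 (by norm_num)
  haveI := hne 3 (by norm_num)
  have r1 := one_orbit (G := G) (X := Fin 1 ↪ Ω) (MulAction.is_one_pretransitive_iff.2 ht)
  have r2 := one_orbit (G := G) (X := Fin 2 ↪ Ω) h2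
  set r3 := Nat.card (MulAction.orbitRel.Quotient G (Fin 3 ↪ Ω)) with hr3
  set r4 := Nat.card (MulAction.orbitRel.Quotient G (Fin 4 ↪ Ω)) with hr4
  have b1 := burn (G := G) (Ω := Ω) 1
  have b2 := burn (G := G) (Ω := Ω) 2
  have b3 := burn (G := G) (Ω := Ω) 3
  have b4 := burn (G := G) (Ω := Ω) 4
  rw [r1, one_mul] at b1
  rw [r2, one_mul] at b2
  rw [← hr3] at b3
  rw [← hr4] at b4
  set N := Nat.card G with hN
  set ns := Nat.card {g : G // p ∣ orderOf g} with hns'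
  set R := Finset.univ.filter (fun g : G => g ≠ 1 ∧ ¬ p ∣ orderOf g) with hR
  -- casts
  have c1 : ∑ g : G, (fx Ω g : ℤ) = N := by
    rw [← b1]; push_cast; exact Finset.sum_congr rfl fun g _ => (df1 _).symm
  have c2 : ∑ g : G, (fx Ω g : ℤ) * ((fx Ω g : ℤ) - 1) = N := by
    rw [← b2]; push_cast; exact Finset.sum_congr rfl fun g _ => (df2 _).symm
  have c3 : ∑ g : G, (fx Ω g : ℤ) * ((fx Ω g : ℤ) - 1) * ((fx Ω g : ℤ) - 2) = r3 * N := by
    have : ((r3 * N : ℕ) : ℤ) = r3 * N := by push_cast; ring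
    rw [← this, ← b3]; push_cast; exact Finset.sum_congr rfl fun g _ => (df3 _).symm
  have c4 : ∑ g : G, (fx Ω g : ℤ) * ((fx Ω g : ℤ) - 1) * ((fx Ω g : ℤ) - 2) * ((fx Ω g : ℤ) - 3) = r4 * N := by
    have : ((r4 * N : ℕ) : ℤ) = r4 * N := by push_cast; ring
    rw [← this, ← b4]; push_cast; exact Finset.sum_congr rfl fun g _ => (df4 _).symm
  have c0 : ∑ g : G, ((fx Ω g : ℤ) - 1) * ((fx Ω g : ℤ) - 2) = N := by
    have e : ∀ g : G, ((fx Ω g : ℤ) - 1) * ((fx Ω g : ℤ) - 2) =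
        (fx Ω g : ℤ) * ((fx Ω g : ℤ) - 1) - 2 * (fx Ω g : ℤ) + 2 := fun g => by ring
    rw [Finset.sum_congr rfl fun g _ => e g, Finset.sum_add_distrib, Finset.sum_sub_distrib, ← Finset.mul_sum, c1, c2,
      Finset.sum_const, Finset.card_univ, ← Nat.card_eq_fintype_card, ← hN, nsmul_eq_mul]
    ring
  have hp1 : p ≠ 1 := by omega
  have s0 := split (Ω := Ω) (G := G) hp1 hcard hsing (fun x => (x - 1) * (x - 2))
  have s1 := split (Ω := Ω) (G := G) hp1 hcard hsing (fun x => x * (x - 1) * (x - 2))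
  have s2 := split (Ω := Ω) (G := G) hp1 hcard hsing (fun x => x * (x - 1) * (x - 2) * (x - 3))
  simp only [← hR, ← hns'] at s0 s1 s2
  rw [c0] at s0
  rw [c3] at s1
  rw [c4] at s2
  set S0 := ∑ g ∈ R, ((fx Ω g : ℤ) - 1) * ((fx Ω g : ℤ) - 2) with hS0
  set S1 := ∑ g ∈ R, (fx Ω g : ℤ) * ((fx Ω g : ℤ) - 1) * ((fx Ω g : ℤ) - 2) with hS1
  set S2 := ∑ g ∈ R, (fx Ω g : ℤ) * ((fx Ω g : ℤ) - 1) * ((fx Ω g : ℤ) - 2) * ((fx Ω g : ℤ) - 3) with hS2
  -- integers
  obtain ⟨P, hP⟩ : ∃ P : ℤ, P = (p : ℤ) := ⟨_, rfl⟩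
  have hP5 : 5 ≤ P := by rw [hP]; exact_mod_cast hp5
  set K : ℤ := (k : ℤ) with hK
  have hK1 : P - 1 ≤ 3 * K := by
    rw [hP, hK]; omega
  obtain ⟨D, hD⟩ : ∃ D : ℤ, D = (3 * P - 1) * (3 * P - 2) := ⟨_, rfl⟩
  have hDpos : 0 < D := by rw [hD]; apply mul_pos <;> linarith
  have hNZ : (N : ℤ) = 9 * P * K ^ 2 * D := by
    rw [hk, hD, hP, hK]
    have e1 : ((3 * p - 1 : ℕ) : ℤ) = 3 * (p : ℤ) - 1 := by omega
    have e2 : ((3 * p - 2 : ℕ) : ℤ) = 3 * (p : ℤ) - 2 := by omega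
    push_cast [e1, e2]
    ring
  have hnsZ : 2 * (ns : ℤ) = 9 * K ^ 2 * D * (P - 1) := by
    have e1 : ((p - 1 : ℕ) : ℤ) = (p : ℤ) - 1 := by omega
    have e2 : 2 * P * (ns : ℤ) = N * (P - 1) := by
      rw [hP, ← e1]; exact_mod_cast hns
    rw [hNZ] at e2
    have hP0 : P ≠ 0 := by linarith
    apply mul_left_cancel₀ hP0
    linear_combination e2
  rw [← hP] at s0 s1 s2
  have t0 : S0 = D * (9 * K ^ 2 - 1) := by
    linear_combination -s0 + hNZ - hnsZ + hD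
  have t1 : S1 = D * (9 * P * K ^ 2 * r3 - 3 * P) := by
    linear_combination -s1 + r3 * hNZ + 3 * P * hD
  have t2 : S2 = D * (9 * P * K ^ 2 * r4 - 9 * P * (P - 1)) := by
    linear_combination -s2 + r4 * hNZ + 3 * P * (3 * P - 3) * hD
  have hnn : ∀ n : ℕ, 0 ≤ ((n : ℤ) - 1) * ((n : ℤ) - 2) := by
    intro n
    rcases n with _ | _ | n
    · norm_num
    · norm_num
    · push_cast
      have : (0 : ℤ) ≤ n := Int.natCast_nonneg n
      nlinarith
  -- bound of S1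
  have key : ∀ B : ℤ, (∀ g ∈ R, 2 * (fx Ω g : ℤ) ≤ B) → 2 * S1 ≤ B * S0 := by
    intro B hB
    rw [hS0, hS1, Finset.mul_sum, Finset.mul_sum]
    refine Finset.sum_le_sum fun g hg => ?_
    have := mul_le_mul_of_nonneg_right (hB g hg) (hnn (fx Ω g))
    linear_combination this
  have hK2 : (P - 1) ^ 2 ≤ 9 * K ^ 2 := by
    have : (P - 1) ^ 2 ≤ (3 * K) ^ 2 := pow_le_pow_left₀ (by linarith) hK1 2
    linear_combination this
  haveI : Nonempty (MulAction.orbitRel.Quotient G (Fin 3 ↪ Ω)) :=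
    ⟨Quotient.mk'' (Classical.arbitrary (Fin 3 ↪ Ω))⟩
  have hr3pos : 1 ≤ (r3 : ℤ) := by
    have : 0 < r3 := Nat.card_pos
    exact_mod_cast this
  have k1 := key (3 * P + 1) (fun g hg => by
    have h1 := hcyc g (Finset.mem_filter.1 hg).2.1 (Finset.mem_filter.1 hg).2.2
    have h3 := fx_le_cyc (Ω := Ω) g
    rw [hP]
    have : 2 * fx Ω g ≤ 3 * p + 1 := by omega
    exact_mod_cast this)
  rw [t0, t1] at k1
  have k1' : 2 * (9 * P * K ^ 2 * r3 - 3 * P) ≤ (3 * P + 1) * (9 * K ^ 2 - 1) := by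
    by_contra hcon
    push Not at hcon
    have := mul_lt_mul_of_pos_left hcon hDpos
    linarith
  have hr31 : (r3 : ℤ) = 1 := by
    by_contra hcon
    have hr32 : 2 ≤ (r3 : ℤ) := by omega
    exact num1 hP5 hK2 hr32 k1'
  have hr3' : r3 = 1 := by exact_mod_cast hr31
  refine ⟨?_, ?_, ?_⟩
  · rw [hr3, Nat.card_eq_one_iff_unique] at hr3'
    obtain ⟨hs, hn⟩ := hr3'
    exact (MulAction.pretransitive_iff_subsingleton_quotient G (Fin 3 ↪ Ω)).2 hs
  · by_contra hcon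
    push Not at hcon
    have k2 := key (2 * (P - 1)) (fun g hg => by
      have h1 := hcon g (Finset.mem_filter.1 hg).2.1 (Finset.mem_filter.1 hg).2.2
      rw [hP]
      omega)
    rw [t0, t1, hr31] at k2
    have k2' : 2 * (9 * P * K ^ 2 * 1 - 3 * P) ≤ 2 * (P - 1) * (9 * K ^ 2 - 1) := by
      by_contra hcon
      push Not at hcon
      have := mul_lt_mul_of_pos_left hcon hDpos
      linarith
    exact num2 hP5 hK2 k2'
  · have h6 : 0 ≤ S2 + (3 - 2 * P) * S1 + P ^ 2 * S0 := by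
      rw [hS0, hS1, hS2, Finset.mul_sum, Finset.mul_sum, ← Finset.sum_add_distrib, ← Finset.sum_add_distrib]
      refine Finset.sum_nonneg fun g _ => ?_
      have := mul_nonneg (hnn (fx Ω g)) (sq_nonneg ((fx Ω g : ℤ) - P))
      linear_combination this
    rw [t0, t1, t2, hr31] at h6
    have h7 : D * P * (9 * K ^ 2 * (r4 + 3 - P) - 4 * P) = D * (9 * P * K ^ 2 * r4 - 9 * P * (P - 1)) +
        (3 - 2 * P) * (D * (9 * P * K ^ 2 * 1 - 3 * P)) + P ^ 2 * (D * (9 * K ^ 2 - 1)) := by ring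
    rw [← h7] at h6
    have h8 : 0 ≤ 9 * K ^ 2 * (r4 + 3 - P) - 4 * P := by
      by_contra hcon
      push Not at hcon
      have hDP : 0 < D * P := mul_pos hDpos (by linarith)
      have := mul_neg_of_pos_of_neg hDP hcon
      linarith
    have h9 : 0 < (r4 : ℤ) + 3 - P := by
      by_contra hcon
      push Not at hcon
      have : 9 * K ^ 2 * (r4 + 3 - P) ≤ 0 := mul_nonpos_of_nonneg_of_nonpos (by positivity) hcon
      linarith
    rw [hP] at h9
    omega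

/-- A0M: moment identities; `r3`, `r4` numbers of orbits on triples / quadruples of distinct points -/
theorem A0M (hB : Base G Ω p) (h2 : MulAction.IsMultiplyPretransitive G Ω 2) (h1 : ∀ t : G, orderOf t = 2 → fx Ω t = 1) (k : ℕ)
    (hk : Nat.card G = 9 * p * k ^ 2 * (3 * p - 1) * (3 * p - 2)) (hk1 : p - 1 ≤ 3 * k)
    (hcyc : ∀ g : G, g ≠ 1 → ¬ p ∣ orderOf g → 2 * cyc Ω g ≤ 3 * p + 1) :
    MulAction.IsMultiplyPretransitive G Ω 3 ∧ (∃ g : G, g ≠ 1 ∧ ¬ p ∣ orderOf g ∧ p ≤ fx Ω g) ∧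
    p - 2 ≤ Nat.card (MulAction.orbitRel.Quotient G (Fin 4 ↪ Ω)) := by
  have hprim := hB.prim
  have ht : MulAction.IsPretransitive G Ω := hprim.toIsPretransitive
  exact main hB.h5 hB.card hB.sing hB.nsing ht h2 k hk hk1 hcyc

end Cfsg.Agent.Lib.H52_A0M
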