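import Cfsg.Agent.Lib.H52T0

set_option autoImplicit false
set_option linter.all false

/-! Piece A0NUM of S3254 (helper52's plan) -/

namespace Cfsg.Agent.Lib.H52_A0NUM

open Cfsg Cfsg.Agent.Lib.BRPerm Cfsg.Agent.Lib.BRCore Cfsg.Agent.Lib.BRInd Cfsg.Agent.Lib.CharBasic Cfsg.Agent.Lib.BlockThird Cfsg.Agent.Lib.H52T0 Cfsg.Agent.Lib.H15RealP Cfsg.Agent.Lib.BRB0 Cfsg.Agent.Lib.DefOneLoc
universe u v

theorem num {p g c d n : ℕ} (hp : p.Prime) (h5 : 5 ≤ p) (hg : 0 < g) (hd : g = 3 * p * (3 * p - 1) * d)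
    (hE : g * (3 * p - 1) = p * c ^ 2 * (3 * p - 2)) (hn : g = 2 * p * (1 + n * p)) :
    ∃ k : ℕ, g = 9 * p * k ^ 2 * (3 * p - 1) * (3 * p - 2) ∧ p - 1 ≤ 3 * k := by
  obtain ⟨M, hM⟩ : ∃ M, 3 * p = M + 2 := ⟨3 * p - 2, by omega⟩
  have e1 : 3 * p - 1 = M + 1 := by omega
  have e2 : 3 * p - 2 = M := by omega
  rw [e1] at hd hE
  rw [e2] at hE
  rw [e1, e2]
  have hp0 : 0 < p := hp.pos
  have h1 : 3 * (M + 1) ^ 2 * d = c ^ 2 * M := by
    have : p * (3 * (M + 1) ^ 2 * d) = p * (c ^ 2 * M) := by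
      rw [hd] at hE
      linarith
    exact Nat.eq_of_mul_eq_mul_left hp0 this
  have hco : Nat.Coprime (3 * (M + 1) ^ 2) M := by
    apply Nat.Coprime.mul_left
    · rw [Nat.Prime.coprime_iff_not_dvd Nat.prime_three]
      omega
    · apply Nat.Coprime.pow_left
      simp
  have h2 : 3 * (M + 1) ^ 2 ∣ c ^ 2 := by
    apply hco.dvd_of_dvd_mul_right
    exact ⟨d, h1.symm⟩
  have h3 : M + 1 ∣ c := by
    rw [← Nat.pow_dvd_pow_iff (two_ne_zero)]
    exact (Dvd.intro_left _ rfl).trans h2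
  obtain ⟨e, rfl⟩ := h3
  have h4 : 3 ∣ e ^ 2 := by
    rw [mul_pow, mul_comm 3] at h2
    exact Nat.dvd_of_mul_dvd_mul_left (by positivity) h2
  obtain ⟨k, rfl⟩ := Nat.Prime.dvd_of_dvd_pow Nat.prime_three h4
  have h5' : d = 3 * k ^ 2 * M := by
    have : (3 * (M + 1) ^ 2) * d = (3 * (M + 1) ^ 2) * (3 * k ^ 2 * M) := by
      rw [h1]; ring
    exact Nat.eq_of_mul_eq_mul_left (by positivity) this
  refine ⟨k, ?_, ?_⟩
  · rw [hd, h5']; ring
  · have hk : 0 < k := by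
      rcases Nat.eq_zero_or_pos k with rfl | h
      · rw [hd, h5'] at hg
        simp at hg
      · exact h
    have h6 : 9 * k ^ 2 * (M + 1) * M = 2 * (1 + n * p) := by
      have : p * (9 * k ^ 2 * (M + 1) * M) = p * (2 * (1 + n * p)) := by
        rw [hd, h5'] at hn
        linarith
      exact Nat.eq_of_mul_eq_mul_left hp0 this
    have h7 : (p : ℤ) ∣ 2 * ((3 * (k : ℤ) - 1) * (3 * k + 1)) := by
      refine ⟨2 * n - 9 * k ^ 2 * (9 * p - 9), ?_⟩
      have h8 : (9 * (k : ℤ) ^ 2 * (M + 1) * M) = 2 * (1 + n * p) := by exact_mod_cast h6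
      have h9 : (M : ℤ) = 3 * p - 2 := by
        have : (3 * (p : ℤ)) = M + 2 := by exact_mod_cast hM
        linarith
      rw [h9] at h8
      linear_combination h8
    have hpi : Prime (p : ℤ) := Nat.prime_iff_prime_int.1 hp
    rcases hpi.dvd_or_dvd h7 with h8 | h8
    · have := Int.le_of_dvd (by norm_num) h8
      omega
    · rcases hpi.dvd_or_dvd h8 with h9 | h9
      · have := Int.le_of_dvd (by omega) h9
        omega
      · have := Int.le_of_dvd (by omega) h9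
        omega

section gen
variable {G : Type u} [Group G] [Fintype G] {Ω : Type v} [Fintype Ω] [MulAction G Ω] {p : ℕ}

theorem dvd_of_two {n : ℕ} (hn : Nat.card Ω = n) (h2' : 2 ≤ n) (h2 : MulAction.IsMultiplyPretransitive G Ω 2) : n * (n - 1) ∣ Nat.card G := by
  classical
  haveI : MulAction.IsPretransitive G (Fin 2 ↪ Ω) := h2
  have hc : Nat.card (Fin 2 ↪ Ω) = n * (n - 1) := by
    rw [Nat.card_eq_fintype_card, Fintype.card_embedding_eq, Fintype.card_fin, ← Nat.card_eq_fintype_card, hn]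
    rw [Nat.descFactorial_succ, Nat.descFactorial_succ, Nat.descFactorial_zero]
    simp [mul_comm]
  have hpos : 0 < Nat.card (Fin 2 ↪ Ω) := by
    rw [hc]
    exact Nat.mul_pos (by omega) (by omega)
  haveI : Nonempty (Fin 2 ↪ Ω) := (Nat.card_pos_iff.1 hpos).1
  obtain ⟨e⟩ := (inferInstance : Nonempty (Fin 2 ↪ Ω))
  have h3 := MulAction.index_stabilizer_of_transitive G e
  rw [← hc, ← h3]
  exact Subgroup.index_dvd_card _

/-- A0NUM -/
theorem A0NUM (hB : Base G Ω p) (h2 : MulAction.IsMultiplyPretransitive G Ω 2)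
    (hE : ∀ t : G, orderOf t = 2 → Nat.card G * (3 * p - 1) = p * Nat.card (Subgroup.centralizer ({t} : Set G)) ^ 2 * (3 * p - 2)) :
    ∃ k : ℕ, Nat.card G = 9 * p * k ^ 2 * (3 * p - 1) * (3 * p - 2) ∧ p - 1 ≤ 3 * k := by
  obtain ⟨t, ht⟩ := hB.inv
  obtain ⟨d, hd⟩ := dvd_of_two (G := G) hB.card (by have := hB.h5; omega) h2
  obtain ⟨n, hn⟩ := hB.syl
  exact num hB.hp hB.h5 Nat.card_pos hd (hE t ht) hn

end gen

end Cfsg.Agent.Lib.H52_A0NUM
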