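import Cfsg.Agent.Lib.H52T0

set_option autoImplicit false
set_option linter.all false

namespace Cfsg.Agent.Lib.H52_A2F

open Cfsg Cfsg.Agent.Lib.BRPerm Cfsg.Agent.Lib.BRCore Cfsg.Agent.Lib.BRInd Cfsg.Agent.Lib.CharBasic Cfsg.Agent.Lib.BlockThird Cfsg.Agent.Lib.H52T0 Cfsg.Agent.Lib.H15RealP Cfsg.Agent.Lib.BRB0 Cfsg.Agent.Lib.DefOneLoc

universe u v

section gen
variable {G : Type u} [Group G] [Fintype G] {Ω : Type v} [Fintype Ω] [MulAction G Ω] {p : ℕ}

theorem a2f_deg_triv : charDegree ((triv G : IrrCharacter G) : G → ℂ) = 1 := by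
  simp [charDegree, triv]

theorem a2f_fix_v {T : Sylow 2 G} {t r s v : G} {a b c : Ω} (h : D8 G Ω T t r s v a b c) {U : Subgroup G}
    (hU : Cen G T t U) {w : G} (hw : w ∈ U) (hwv : w * v = v * w) : fx Ω (v * w) = 1 := by
  have hm : w ^ Nat.card U = 1 := by
    have h1 : (⟨w, hw⟩ : U) ^ Nat.card U = 1 := pow_card_eq_one'
    exact congrArg Subtype.val h1
  obtain ⟨k, hk⟩ := hU.odd
  have hc : Commute v w := hwv.symm
  have h4 : v ^ 4 = 1 := by rw [← h.ov]; exact pow_orderOf_eq_one v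
  have hpow : (v * w) ^ (Nat.card U * Nat.card U) = v := by
    rw [hc.mul_pow, pow_mul w, hm, one_pow, mul_one, hk]
    have e : (2 * k + 1) * (2 * k + 1) = 4 * (k * k + k) + 1 := by ring
    rw [e, pow_succ, pow_mul, h4, one_pow, one_mul]
  have hset : MulAction.fixedBy Ω (v * w) = {a} := by
    ext ω
    rw [MulAction.mem_fixedBy, Set.mem_singleton_iff]
    constructor
    · intro hω
      have h1 : v * w ∈ MulAction.stabilizer G ω := hω
      have h2 := (MulAction.stabilizer G ω).pow_mem h1 (Nat.card U * Nat.card U)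
      rw [hpow] at h2
      exact (h.fv ω).1 h2
    · rintro rfl
      have h1 : v • (w • ω) = w • ω := by
        rw [← mul_smul, ← hwv, mul_smul, (h.fv ω).2 rfl]
      have h2 : w • ω = ω := (h.fv _).1 h1
      rw [mul_smul, h2, (h.fv ω).2 rfl]
  unfold fx
  rw [hset, Nat.card_coe_set_eq, Set.ncard_singleton]

theorem a2f_u_perm {T : Sylow 2 G} {t r s v : G} {a b c : Ω} (h : D8 G Ω T t r s v a b c) {U : Subgroup G}
    (hU : Cen G T t U) {u : G} (hu : u ∈ U) {ω : Ω} (hω : t • ω = ω) : t • (u • ω) = u • ω := by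
  have h1 : t * u = u * t := Subgroup.mem_centralizer_singleton_iff.1 (hU.le hu) |>.symm
  rw [← mul_smul, h1, mul_smul, hω]

theorem a2f_fix_tu {T : Sylow 2 G} {t r s v : G} {a b c : Ω} (h : D8 G Ω T t r s v a b c) {U : Subgroup G}
    (hU : Cen G T t U) {u : G} (hu : u ∈ U) (ω : Ω) : (t * u) • ω = ω ↔ (t • ω = ω ∧ u • ω = ω) := by
  have h1 : t * u = u * t := Subgroup.mem_centralizer_singleton_iff.1 (hU.le hu) |>.symm
  have hm : u ^ Nat.card U = 1 := by
    have h1 : (⟨u, hu⟩ : U) ^ Nat.card U = 1 := pow_card_eq_one'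
    exact congrArg Subtype.val h1
  obtain ⟨k, hk⟩ := hU.odd
  have hc : Commute t u := h1
  have h2 : t ^ 2 = 1 := by rw [← h.ot]; exact pow_orderOf_eq_one t
  have hpow : (t * u) ^ (Nat.card U) = t := by
    rw [hc.mul_pow, hm, mul_one, hk, pow_succ, pow_mul, h2, one_pow, one_mul]
  constructor
  · intro hω
    have h3 : t * u ∈ MulAction.stabilizer G ω := hω
    have h4 := (MulAction.stabilizer G ω).pow_mem h3 (Nat.card U)
    rw [hpow] at h4
    have h5 : t • ω = ω := h4
    refine ⟨h5, ?_⟩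
    rw [h1, mul_smul, h5] at hω
    exact hω
  · rintro ⟨h3, h4⟩
    rw [mul_smul, h4, h3]

theorem a2f_p_cent (hB : Base G Ω p) {χ : IrrCharacter G} (hχ : CharD G p 3 χ) (hpi : pi (G := G) Ω = 1 + (χ : G → ℂ))
    {T : Sylow 2 G} {t r s v : G} {a b c : Ω} (h : D8 G Ω T t r s v a b c) :
    ¬ p ∣ Nat.card (Subgroup.centralizer ({t} : Set G)) := by
  intro hd
  have hfx : fx Ω t = 3 := by
    have hset : MulAction.fixedBy Ω t = {a, b, c} := by
      ext ω
      rw [MulAction.mem_fixedBy]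
      exact h.ft ω
    unfold fx
    rw [hset, Nat.card_coe_set_eq]
    exact Set.ncard_eq_three.2 ⟨a, b, c, h.ab, h.ac, h.bc, rfl⟩
  have hχt : (χ : G → ℂ) t = ((2 : ℤ) : ℂ) := by
    have h1 : (fx Ω t : ℂ) = 1 + (χ : G → ℂ) t := congrFun hpi t
    rw [hfx] at h1
    push_cast at h1 ⊢
    linear_combination -h1
  have hE := hχ.E1 t h.ot 2 hχt
  obtain ⟨n, hn⟩ := hB.syl
  obtain ⟨d, hd⟩ := hd
  rw [hn, hd] at hE
  push_cast at hE
  have hp0 : (p : ℤ) ≠ 0 := by
    have := hB.hp.ne_zero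
    exact_mod_cast this
  have hE2 : (18 : ℤ) * (1 + n * p) * (p - 1) ^ 2 = p * (p * d ^ 2 * (3 * p - 1) * (3 * p - 2)) := by
    have h1 : (p : ℤ) * ((18 : ℤ) * (1 + n * p) * (p - 1) ^ 2) = p * (p * (p * d ^ 2 * (3 * p - 1) * (3 * p - 2))) := by
      linear_combination hE
    exact mul_left_cancel₀ hp0 h1
  have hdvd : (p : ℤ) ∣ 18 := by
    have h1 : (p : ℤ) ∣ (18 : ℤ) * (1 + n * p) * (p - 1) ^ 2 := ⟨_, hE2⟩
    have h2 : (18 : ℤ) * (1 + n * p) * (p - 1) ^ 2 = 18 + p * (18 * n * (p - 1) ^ 2 + 18 * p - 36) := by ring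
    rw [h2] at h1
    exact (dvd_add_left (dvd_mul_right _ _)).1 h1
  have hdvd2 : p ∣ 18 := by exact_mod_cast hdvd
  have h5 := hB.h5
  have h18 : (18 : ℕ) = 2 * (3 * 3) := by norm_num
  rw [h18] at hdvd2
  rcases (Nat.Prime.dvd_mul hB.hp).1 hdvd2 with h2 | h3
  · exact absurd (Nat.le_of_dvd (by norm_num) h2) (by omega)
  · rcases (Nat.Prime.dvd_mul hB.hp).1 h3 with h3 | h3 <;> exact absurd (Nat.le_of_dvd (by norm_num) h3) (by omega)

theorem a2f_sum (U : Subgroup G) [Fintype U] (f : G → ℂ) : ∑ᶠ g ∈ (U : Set G), f g = ∑ u : U, f u := by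
  rw [← finsum_set_coe_eq_finsum_mem (U : Set G)]
  exact finsum_eq_sum_of_fintype _

/-- the sum of the fixed points of `t u` -/
theorem a2f_fx_sum {T : Sylow 2 G} {t r s v : G} {a b c : Ω} (h : D8 G Ω T t r s v a b c) {U : Subgroup G} [Fintype U]
    (hU : Cen G T t U) :
    (∀ u : U, fx Ω (t * u) = 3) ∨ (∑ u : U, fx Ω (t * u) = Nat.card U) := by
  classical
  have hfixed : ∀ ω : Ω, t • ω = ω ↔ ω = a ∨ ω = b ∨ ω = c := h.ft
  have hta : t • a = a := (hfixed a).2 (Or.inl rfl)
  have htb : t • b = b := (hfixed b).2 (Or.inr (Or.inl rfl))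
  have htc : t • c = c := (hfixed c).2 (Or.inr (Or.inr rfl))
  have hfx : ∀ u : U, fx Ω (t * u) = (if (u : G) • a = a then 1 else 0) + (if (u : G) • b = b then 1 else 0) +
      (if (u : G) • c = c then 1 else 0) := by
    intro u
    have hset : MulAction.fixedBy Ω (t * (u : G)) = ((({a, b, c} : Finset Ω).filter fun ω => (u : G) • ω = ω : Finset Ω) : Set Ω) := by
      ext ω
      rw [MulAction.mem_fixedBy, a2f_fix_tu h hU u.2 ω, hfixed]
      simp
    unfold fx
    rw [hset, Nat.card_coe_set_eq, Set.ncard_coe_finset, Finset.card_filter]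
    rw [Finset.sum_insert (by simp [h.ab, h.ac]), Finset.sum_insert (by simp [h.bc]), Finset.sum_singleton]
    ring
  -- orbit sizes
  have hodd : ∀ ω : Ω, Odd (Nat.card (MulAction.orbit U ω)) := by
    intro ω
    have h1 : Nat.card (MulAction.orbit U ω) ∣ Nat.card U := by
      rw [Nat.card_congr (MulAction.orbitEquivQuotientStabilizer U ω)]
      exact Subgroup.card_quotient_dvd_card _
    exact Odd.of_dvd_nat hU.odd h1
  have hst : ∀ ω : Ω, ∑ u : U, (if (u : G) • ω = ω then 1 else 0) = Nat.card (MulAction.stabilizer U ω) := by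
    intro ω
    rw [Finset.sum_boole, Nat.card_eq_fintype_card, Fintype.card_subtype]
    simp only [Nat.cast_id]
    congr 1
  have horb : ∀ ω : Ω, t • ω = ω → ∀ ω' ∈ MulAction.orbit U ω, ω' = a ∨ ω' = b ∨ ω' = c := by
    rintro ω hω ω' ⟨u, rfl⟩
    exact (hfixed _).1 (a2f_u_perm h hU u.2 hω)
  by_cases hall : ∀ u : U, (u : G) • a = a ∧ (u : G) • b = b ∧ (u : G) • c = c
  · left
    intro u
    rw [hfx u, if_pos (hall u).1, if_pos (hall u).2.1, if_pos (hall u).2.2]
  · right
    -- the orbit of any of the points is everything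
    have hsub : ∀ ω : Ω, t • ω = ω → MulAction.orbit U ω ⊆ ({a, b, c} : Set Ω) := by
      intro ω hω ω' hω'
      exact horb ω hω ω' hω'
    have h3 : ({a, b, c} : Set Ω).ncard = 3 := Set.ncard_eq_three.2 ⟨a, b, c, h.ab, h.ac, h.bc, rfl⟩
    have hcase : ∀ ω : Ω, t • ω = ω → Nat.card (MulAction.orbit U ω) = 1 ∨ MulAction.orbit U ω = ({a, b, c} : Set Ω) := by
      intro ω hω
      have h1 : (MulAction.orbit U ω).ncard ≤ 3 := by
        rw [← h3]; exact Set.ncard_le_ncard (hsub ω hω) (Set.toFinite _)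
      have h2 := hodd ω
      rw [Nat.card_coe_set_eq] at h2 ⊢
      have h4 : 0 < (MulAction.orbit U ω).ncard := (Set.ncard_pos (Set.toFinite _)).2 ⟨ω, MulAction.mem_orbit_self ω⟩
      rcases h2 with ⟨k, hk⟩
      have : k = 0 ∨ k = 1 := by omega
      rcases this with rfl | rfl
      · left; omega
      · right
        exact Set.eq_of_subset_of_ncard_le (hsub ω hω) (by rw [h3]; omega) (Set.toFinite _)
    have hone : ∀ ω : Ω, Nat.card (MulAction.orbit U ω) = 1 → ∀ u : U, (u : G) • ω = ω := by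
      intro ω hω u
      rw [Nat.card_coe_set_eq, Set.ncard_eq_one] at hω
      obtain ⟨x, hx⟩ := hω
      have h1 : ω ∈ MulAction.orbit U ω := MulAction.mem_orbit_self ω
      have h2 : (u : G) • ω ∈ MulAction.orbit U ω := ⟨u, rfl⟩
      rw [hx, Set.mem_singleton_iff] at h1 h2
      rw [h2, h1]
    -- all orbits are full
    have hfull : ∀ ω : Ω, t • ω = ω → MulAction.orbit U ω = ({a, b, c} : Set Ω) := by
      by_contra hcon
      push_neg at hcon
      obtain ⟨ω, hω, hne⟩ := hcon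
      have h1 := (hcase ω hω).resolve_right hne
      -- then no orbit is full
      have hnf : ∀ ω' : Ω, t • ω' = ω' → MulAction.orbit U ω' ≠ ({a, b, c} : Set Ω) := by
        intro ω' hω' he
        have h2 : ω ∈ MulAction.orbit U ω' := by rw [he]; exact (hfixed ω).1 hω
        have h3 : MulAction.orbit U ω = MulAction.orbit U ω' := MulAction.orbit_eq_iff.2 h2
        exact hne (h3.trans he)
      apply hall
      intro u
      exact ⟨hone a ((hcase a hta).resolve_right (hnf a hta)) u, hone b ((hcase b htb).resolve_right (hnf b htb)) u,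
        hone c ((hcase c htc).resolve_right (hnf c htc)) u⟩
    have hsc : ∀ ω : Ω, t • ω = ω → 3 * Nat.card (MulAction.stabilizer U ω) = Nat.card U := by
      intro ω hω
      have h1 := MulAction.index_stabilizer U ω
      rw [hfull ω hω, h3] at h1
      rw [← h1]
      exact (MulAction.stabilizer U ω).index_mul_card
    have e : ∑ u : U, fx Ω (t * u) = Nat.card (MulAction.stabilizer U a) + Nat.card (MulAction.stabilizer U b) +
        Nat.card (MulAction.stabilizer U c) := by
      rw [← hst a, ← hst b, ← hst c, ← Finset.sum_add_distrib, ← Finset.sum_add_distrib]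
      exact Finset.sum_congr rfl fun u _ => hfx u
    rw [e]
    have := hsc a hta
    have := hsc b htb
    have := hsc c htc
    omega

theorem A2F (hB : Base G Ω p) {χ : IrrCharacter G} (hχ : CharD G p 3 χ) (hpi : pi (G := G) Ω = 1 + (χ : G → ℂ))
    {T : Sylow 2 G} {t r s v : G} {a b c : Ω} (h : D8 G Ω T t r s v a b c) {U : Subgroup G}
    (hU : Cen G T t U) {x y : IrrCharacter G → ℤ} (hs : Sec G t v U x y) (hp8 : p % 8 = 5) : False := by
  classical
  have hχv : ∀ g : G, (χ : G → ℂ) g = (fx Ω g : ℂ) - 1 := by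
    intro g
    have h1 : (fx Ω g : ℂ) = 1 + (χ : G → ℂ) g := congrFun hpi g
    linear_combination -h1
  obtain ⟨Y, hYi, hY⟩ := hχ.exc
  have hpc := a2f_p_cent hB hχ hpi h
  have hU0 : (Nat.card U : ℂ) ≠ 0 := by
    have : Nat.card U ≠ 0 := Nat.card_pos.ne'
    exact_mod_cast this
  have hW0 : (Nat.card (U ⊓ Subgroup.centralizer ({v} : Set G) : Subgroup G) : ℂ) ≠ 0 := by
    have : Nat.card (U ⊓ Subgroup.centralizer ({v} : Set G) : Subgroup G) ≠ 0 := Nat.card_pos.ne'
    exact_mod_cast this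
  -- values of y
  have hyval : ∀ (η : IrrCharacter G) (k : ℤ), (∀ g : G, fx Ω g = 1 → ¬ p ∣ orderOf g → (η : G → ℂ) g = k) → y η = k := by
    intro η k hk
    have h1 := hs.hy η
    rw [a2f_sum (U ⊓ Subgroup.centralizer ({v} : Set G))] at h1
    have h2 : ∀ w : ↥(U ⊓ Subgroup.centralizer ({v} : Set G) : Subgroup G), (η : G → ℂ) (v * w) = k := by
      intro w
      have hw : (w : G) * v = v * w := Subgroup.mem_centralizer_singleton_iff.1 w.2.2
      have h3 := a2f_fix_v h hU w.2.1 hw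
      apply hk _ h3
      intro hd
      have h4 := hB.sing _ hd
      omega
    rw [Finset.sum_congr rfl fun w _ => h2 w, Finset.sum_const, Finset.card_univ, nsmul_eq_mul,
      ← Nat.card_eq_fintype_card, mul_comm] at h1
    have h3 := mul_right_cancel₀ hW0 h1
    exact_mod_cast h3.symm
  have hy1 : y (triv G) = 1 := hyval _ 1 (fun g _ _ => by simp [triv])
  have hyχ : y χ = 0 := hyval _ 0 (fun g hg _ => by rw [hχv, hg]; simp)
  have hyY : ∀ i, y (Y i) = -1 := by
    intro i
    apply hyval _ (-1)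
    intro g hg hp
    rw [(hY i).2.2.2 g hp, hχv, hg]; simp
  -- p = 5
  have hp5 : p = 5 := by
    have h1 : ∑ η ∈ insert (triv G) (Finset.univ.image Y), y η ^ 2 ≤ 4 := by
      rw [← hs.yy]
      exact Finset.sum_le_sum_of_subset_of_nonneg (Finset.subset_univ _) (fun i _ _ => sq_nonneg _)
    rw [Finset.sum_insert (by
      intro hm
      obtain ⟨i, _, hi⟩ := Finset.mem_image.1 hm
      exact (hY i).1 hi), Finset.sum_image (fun i _ j _ hij => hYi hij)] at h1
    simp only [hy1, hyY] at h1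
    simp at h1
    have h5 := hB.h5
    omega
  subst hp5
  have hlt0 : 0 < (5 - 1) / 2 := by norm_num
  have hlt1 : 1 < (5 - 1) / 2 := by norm_num
  set Y0 := Y ⟨0, hlt0⟩ with hY0
  set Y1 := Y ⟨1, hlt1⟩ with hY1
  have hY01 : Y0 ≠ Y1 := by
    intro e
    have := hYi e
    simp at this
  have hdχ : (charDegree (χ : G → ℂ) : ℤ) = 14 := by rw [hχ.deg]; norm_num
  have hdY0 : (charDegree (Y0 : G → ℂ) : ℤ) = 13 := by rw [(hY _).2.2.1]; norm_num
  have hdY1 : (charDegree (Y1 : G → ℂ) : ℤ) = 13 := by rw [(hY _).2.2.1]; norm_num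
  have hd1 : (charDegree ((triv G : IrrCharacter G) : G → ℂ) : ℤ) = 1 := by rw [a2f_deg_triv]; rfl
  -- the splitting of sums
  have hsplit : ∀ f : IrrCharacter G → ℤ, ∑ η, f η = f (triv G) + f χ + f Y0 + f Y1 +
      ∑ η ∈ (Finset.univ \ {triv G, χ, Y0, Y1}), f η := by
    intro f
    rw [← Finset.sum_sdiff (Finset.subset_univ ({triv G, χ, Y0, Y1} : Finset (IrrCharacter G)))]
    rw [Finset.sum_insert, Finset.sum_insert, Finset.sum_insert, Finset.sum_singleton]
    · ring
    · simpa using hY01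
    · simp only [Finset.mem_insert, Finset.mem_singleton, not_or]
      exact ⟨fun e => (hY _).2.1 e.symm, fun e => (hY _).2.1 e.symm⟩
    · simp only [Finset.mem_insert, Finset.mem_singleton, not_or]
      exact ⟨fun e => hχ.ne e.symm, fun e => (hY _).1 e.symm, fun e => (hY _).1 e.symm⟩
  -- values of x
  have hxval : ∀ (η : IrrCharacter G) (k : ℤ),
      (∑ u : U, (η : G → ℂ) (t * u) = k * Nat.card U) → x η = k := by
    intro η k hk
    have h1 := hs.hx η
    rw [a2f_sum U, hk] at h1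
    have h3 := mul_right_cancel₀ hU0 h1
    exact_mod_cast h3.symm
  have hcU : (Fintype.card U : ℂ) = Nat.card U := by rw [Nat.card_eq_fintype_card]
  have hreg : ∀ u : U, ¬ 5 ∣ orderOf (t * (u : G)) := by
    intro u hd
    apply hpc
    have h1 : t * (u : G) ∈ Subgroup.centralizer ({t} : Set G) :=
      mul_mem (Subgroup.mem_centralizer_singleton_iff.2 rfl) (hU.le u.2)
    have h2 : orderOf (t * (u : G)) ∣ Nat.card (Subgroup.centralizer ({t} : Set G)) := by
      have h3 := orderOf_dvd_natCard (⟨t * (u : G), h1⟩ : Subgroup.centralizer ({t} : Set G))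
      rwa [Subgroup.orderOf_mk] at h3
    exact hd.trans h2
  have hx1 : x (triv G) = 1 := by
    apply hxval
    simp [triv, hcU]
  have hrest := hsplit (fun η => x η ^ 2)
  have hresty := hsplit (fun η => y η ^ 2)
  have hrestxy := hsplit (fun η => x η * y η)
  have hrestx1 := hsplit (fun η => x η * (charDegree (η : G → ℂ) : ℤ))
  have hresty1 := hsplit (fun η => y η * (charDegree (η : G → ℂ) : ℤ))
  rw [hs.xx] at hrest
  rw [hs.yy] at hresty
  rw [hs.xy] at hrestxy
  rw [hs.x1] at hrestx1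
  rw [hs.y1] at hresty1
  simp only [hyY, hy1, hyχ, hx1, hdχ, hdY0, hdY1, hd1, hY0, hY1] at hrest hresty hrestxy hrestx1 hresty1
  rcases a2f_fx_sum h hU with h3 | h3
  · have hxχ : x χ = 2 := by
      apply hxval
      rw [Finset.sum_congr rfl fun u _ => by rw [hχv, h3 u]]
      simp [hcU]; ring
    have hxY : ∀ i, x (Y i) = 1 := by
      intro i
      apply hxval
      rw [Finset.sum_congr rfl fun u _ => by rw [(hY i).2.2.2 _ (hreg u), hχv, h3 u]]
      simp [hcU]; ring
    simp only [hxχ, hxY] at hrest hresty hrestxy hrestx1 hresty1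
    set R := (Finset.univ \ {triv G, χ, Y ⟨0, hlt0⟩, Y ⟨1, hlt1⟩} : Finset (IrrCharacter G)) with hR
    have hsq : ∑ η ∈ R, (x η - y η) ^ 2 = 0 := by
      have e : ∀ η ∈ R, (x η - y η) ^ 2 = x η ^ 2 + y η ^ 2 - 2 * (x η * y η) := fun η _ => by ring
      rw [Finset.sum_congr rfl e, Finset.sum_sub_distrib, Finset.sum_add_distrib, ← Finset.mul_sum]
      linarith
    have hxy : ∀ η ∈ R, x η = y η := by
      intro η hη
      have := (Finset.sum_eq_zero_iff_of_nonneg (fun i _ => sq_nonneg _)).1 hsq η hη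
      have := pow_eq_zero_iff (two_ne_zero) |>.1 this
      linarith
    have e : ∑ η ∈ R, x η * (charDegree (η : G → ℂ) : ℤ) = ∑ η ∈ R, y η * (charDegree (η : G → ℂ) : ℤ) :=
      Finset.sum_congr rfl fun η hη => by rw [hxy η hη]
    linarith
  · have h3' : ∑ u : U, (fx Ω (t * (u : G)) : ℂ) = Nat.card U := by exact_mod_cast h3
    have hxχ : x χ = 0 := by
      apply hxval
      rw [Finset.sum_congr rfl fun u _ => by rw [hχv], Finset.sum_sub_distrib, h3']
      simp [hcU]
    have hxY : ∀ i, x (Y i) = -1 := by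
      intro i
      apply hxval
      rw [Finset.sum_congr rfl fun u _ => by rw [(hY i).2.2.2 _ (hreg u), hχv], Finset.sum_sub_distrib, Finset.sum_sub_distrib, h3']
      simp [hcU]
    simp only [hxχ, hxY] at hrest hresty hrestxy hrestx1 hresty1
    set R := (Finset.univ \ {triv G, χ, Y ⟨0, hlt0⟩, Y ⟨1, hlt1⟩} : Finset (IrrCharacter G)) with hR
    have hcs := Finset.sum_mul_sq_le_sq_mul_sq R x y
    have e1 : ∑ η ∈ R, x η ^ 2 = 5 := by linarith
    have e2 : ∑ η ∈ R, y η ^ 2 = 1 := by linarith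
    have e3 : ∑ η ∈ R, x η * y η = -3 := by linarith
    rw [e1, e2, e3] at hcs
    norm_num at hcs

end gen
end Cfsg.Agent.Lib.H52_A2F
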