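import Cfsg.Agent.Lib.H52T0
import Cfsg.Agent.Lib.H52_A2Tcore
set_option autoImplicit false

/-! Piece A2T of S3254 (helper79) -/

namespace Cfsg.Agent.Lib.H52_A2T
open Cfsg Cfsg.Agent.Lib.BRPerm Cfsg.Agent.Lib.BRCore Cfsg.Agent.Lib.BRInd Cfsg.Agent.Lib.CharBasic Cfsg.Agent.Lib.BlockThird Cfsg.Agent.Lib.H52T0 Cfsg.Agent.Lib.H15RealP Cfsg.Agent.Lib.BRB0 Cfsg.Agent.Lib.DefOneLoc
universe u v
variable {G : Type u} [Group G] [Fintype G] {Ω : Type v} [Fintype Ω] [MulAction G Ω] {p : ℕ}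

/-- A2 : numbers `|T| = 8` for `m = 3` -/
theorem A2T (hB : Base G Ω p) (h2 : MulAction.IsMultiplyPretransitive G Ω 2) (h3 : ∀ t : G, orderOf t = 2 → fx Ω t = 3)
    (hE : ∀ t : G, orderOf t = 2 → Nat.card G * (9 * (p - 1) ^ 2) = p * Nat.card (Subgroup.centralizer ({t} : Set G)) ^ 2 * (3 * p - 1) * (3 * p - 2)) :
    p % 8 = 5 ∧ ∃ T : Sylow 2 G, Nat.card T = 8 ∧ ∃ a b c : Ω, a ≠ b ∧ a ≠ c ∧ b ≠ c ∧ (∀ x ∈ (T : Subgroup G), x • a = a) ∧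
      (∀ x ∈ (T : Subgroup G), x • b = b ∨ x • b = c) ∧ ∃ x ∈ (T : Subgroup G), x • b = c := by
  have hp4 : p % 4 = 1 := by
    obtain ⟨t, ht⟩ := hB.inv
    rcases hB.sub t ht with h | h
    · have h5 := h3 t ht
      omega
    · exact h.2
  exact H52_A2Tcore.core hB.hp hB.h5 hB.card hp4 hB.inv h2 h3 hE

end Cfsg.Agent.Lib.H52_A2T
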