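import Cfsg.Agent.Lib.H52T0
import Cfsg.Agent.Lib.DefectZeroVanish

set_option autoImplicit false
set_option linter.all false

/-! S3254 piece BCOEF (helper78) -/

namespace Cfsg.Agent.Lib.H52_BCOEF

open Cfsg Cfsg.Agent.Lib.BRPerm Cfsg.Agent.Lib.BRCore Cfsg.Agent.Lib.BRInd Cfsg.Agent.Lib.CharBasic Cfsg.Agent.Lib.BlockThird Cfsg.Agent.Lib.H52T0 Cfsg.Agent.Lib.H15RealP Cfsg.Agent.Lib.BRB0 Cfsg.Agent.Lib.DefOneLoc

universe u v

/-! ### combinatorics on integer vectors -/

theorem vec_one {I : Type*} [DecidableEq I] (S : Finset I) (y : I → ℤ) (h : ∑ i ∈ S, y i ^ 2 = 1) :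
    ∃ i ∈ S, y i ^ 2 = 1 ∧ ∀ j ∈ S, j ≠ i → y j = 0 := by
  have h1 : ∃ i ∈ S, y i ≠ 0 := by
    by_contra hcon
    push Not at hcon
    rw [Finset.sum_eq_zero] at h
    · exact absurd h (by norm_num)
    · intro i hi
      rw [hcon i hi]; norm_num
  obtain ⟨i, hi, hne⟩ := h1
  have h2 : 1 ≤ y i ^ 2 := by
    have : 0 < y i ^ 2 := by positivity
    omega
  rw [← Finset.add_sum_erase S _ hi] at h
  have h3 : 0 ≤ ∑ j ∈ S.erase i, y j ^ 2 := Finset.sum_nonneg fun j _ => sq_nonneg _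
  have h4 : ∑ j ∈ S.erase i, y j ^ 2 = 0 := by omega
  refine ⟨i, hi, by omega, ?_⟩
  intro j hj hji
  have := (Finset.sum_eq_zero_iff_of_nonneg (fun j _ => sq_nonneg (y j))).1 h4 j (Finset.mem_erase.2 ⟨hji, hj⟩)
  simpa using this

theorem vec_four {I : Type*} [DecidableEq I] (S : Finset I) (x : I → ℤ) (h : ∑ i ∈ S, x i ^ 2 = 4)
    (hpar : ∀ i ∈ S, (2 : ℤ) ∣ x i) :
    ∃ i ∈ S, x i ^ 2 = 4 ∧ ∀ j ∈ S, j ≠ i → x j = 0 := by
  have h1 : ∃ i ∈ S, x i ≠ 0 := by
    by_contra hcon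
    push Not at hcon
    rw [Finset.sum_eq_zero] at h
    · exact absurd h (by norm_num)
    · intro i hi
      rw [hcon i hi]; norm_num
  obtain ⟨i, hi, hne⟩ := h1
  have h2 : 4 ≤ x i ^ 2 := by
    obtain ⟨k, hk⟩ := hpar i hi
    have hk0 : k ≠ 0 := by
      rintro rfl
      exact hne (by rw [hk]; norm_num)
    have : 0 < k ^ 2 := by positivity
    rw [hk]
    nlinarith
  rw [← Finset.add_sum_erase S _ hi] at h
  have h3 : 0 ≤ ∑ j ∈ S.erase i, x j ^ 2 := Finset.sum_nonneg fun j _ => sq_nonneg _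
  have h4 : ∑ j ∈ S.erase i, x j ^ 2 = 0 := by omega
  refine ⟨i, hi, by omega, ?_⟩
  intro j hj hji
  have := (Finset.sum_eq_zero_iff_of_nonneg (fun j _ => sq_nonneg (x j))).1 h4 j (Finset.mem_erase.2 ⟨hji, hj⟩)
  simpa using this

/-- splitting three terms off a sum -/
theorem sum_split {I : Type*} [DecidableEq I] [Fintype I] {R : Type*} [AddCommMonoid R] {i j k : I} (hij : j ≠ i) (hik : k ≠ i)
    (hjk : k ≠ j) (f : I → R) :
    ∑ m, f m = f i + (f j + (f k + ∑ m ∈ ((Finset.univ.erase i).erase j).erase k, f m)) := by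
  rw [← Finset.add_sum_erase _ f (Finset.mem_univ i),
    ← Finset.add_sum_erase (Finset.univ.erase i) f (Finset.mem_erase.2 ⟨hij, Finset.mem_univ j⟩),
    ← Finset.add_sum_erase ((Finset.univ.erase i).erase j) f
      (Finset.mem_erase.2 ⟨hjk, Finset.mem_erase.2 ⟨hik, Finset.mem_univ k⟩⟩)]

variable {G : Type u} [Group G] [Fintype G] {Ω : Type v} [Fintype Ω] [MulAction G Ω] {p : ℕ}

omit [Fintype Ω] in
theorem deg_spec {χ : G → ℂ} (hχ : IsIrrCharacter G χ) : χ 1 = (charDegree χ : ℂ) := by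
  obtain ⟨n, hn0, hn⟩ := hχ.exists_degree
  rw [charDegree, hn, Complex.natCast_re, Nat.floor_natCast]

theorem vanish {χ : G → ℂ} (hχ : IsIrrCharacter G χ) {n : ℕ}
    (hn : ¬ 2 ^ (n + 1) ∣ Nat.card G) (hd : 2 ^ n ∣ charDegree χ) {x : G} (hx : 2 ∣ orderOf x) : χ x = 0 := by
  have h0 := deg_spec hχ
  obtain ⟨m, ρ, hρ, rfl⟩ := hχ
  have := hρ
  refine DefectZeroVanish.character_eq_zero ρ 2 n Nat.prime_two hn ?_ x hx
  rw [Representation.char_one] at h0
  have h1 : Module.finrank ℂ (Fin m → ℂ) = charDegree ρ.character := by exact_mod_cast h0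
  rwa [h1]

/-- sum over a subgroup of a constant function -/
theorem fsum_const (W : Subgroup G) (f : G → ℂ) (c : ℂ) (h : ∀ g ∈ W, f g = c) :
    ∑ᶠ g ∈ (W : Set G), f g = c * Nat.card W := by
  classical
  rw [← finsum_set_coe_eq_finsum_mem, finsum_eq_sum_of_fintype]
  rw [Finset.sum_congr rfl (fun (g : ↥(W : Set G)) _ => h g.1 g.2), Finset.sum_const, nsmul_eq_mul, mul_comm]
  congr 1
  rw [Finset.card_univ, ← Nat.card_eq_fintype_card]
  rfl

/-- the elements of the centralizer of `t` are `p`-regular -/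
theorem preg (hB : Base G Ω p) {T : Sylow 2 G} {t r s v : G} {a b c : Ω} (h : D8 G Ω T t r s v a b c) {g : G}
    (hg : g ∈ Subgroup.centralizer ({t} : Set G)) : ¬ p ∣ orderOf g := by
  intro hpg
  have hgt : t * g = g * t := by
    rw [Subgroup.mem_centralizer_singleton_iff] at hg
    exact hg.symm
  have st : ∀ w : Ω, t • w = w → t • (g • w) = g • w := by
    intro w hw
    rw [← mul_smul, hgt, mul_smul, hw]
  have ha := (h.ft _).1 (st a ((h.ft a).2 (Or.inl rfl)))
  have hb := (h.ft _).1 (st b ((h.ft b).2 (Or.inr (Or.inl rfl))))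
  have hc := (h.ft _).1 (st c ((h.ft c).2 (Or.inr (Or.inr rfl))))
  have inj : ∀ w w' : Ω, g • w = g • w' → w = w' := fun w w' e => smul_left_cancel g e
  have key : g • a = a ∨ g ^ 2 • a = a ∨ g ^ 3 • a = a := by
    rcases ha with ha | ha | ha
    · exact Or.inl ha
    · -- g a = b
      rcases hb with hb | hb | hb
      · right; left; rw [pow_two, mul_smul, ha, hb]
      · exact absurd (inj _ _ (ha.trans hb.symm)) h.ab
      · right; right
        rcases hc with hc | hc | hc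
        · rw [pow_succ, pow_two, mul_smul, mul_smul, ha, hb, hc]
        · exact absurd (inj _ _ (ha.trans hc.symm)) h.ac
        · exact absurd (inj _ _ (hb.trans hc.symm)) h.bc
    · rcases hc with hc | hc | hc
      · right; left; rw [pow_two, mul_smul, ha, hc]
      · right; right
        rcases hb with hb | hb | hb
        · rw [pow_succ, pow_two, mul_smul, mul_smul, ha, hc, hb]
        · exact absurd (inj _ _ (hb.trans hc.symm)) h.bc
        · exact absurd (inj _ _ (ha.trans hb.symm)) h.ab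
      · exact absurd (inj _ _ (ha.trans hc.symm)) h.ac
  have h6 : g ^ 6 • a = a := by
    rcases key with k | k | k
    · exact (MulAction.stabilizer G a).pow_mem (MulAction.mem_stabilizer_iff.2 k) 6
    · have := (MulAction.stabilizer G a).pow_mem (MulAction.mem_stabilizer_iff.2 k) 3
      rw [← pow_mul] at this
      exact this
    · have := (MulAction.stabilizer G a).pow_mem (MulAction.mem_stabilizer_iff.2 k) 2
      rw [← pow_mul] at this
      exact this
  have hp6 : p ∣ orderOf (g ^ 6) := by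
    have hcop : Nat.Coprime p 6 := by
      have h2 : Nat.Coprime p 2 := (Nat.coprime_primes hB.hp Nat.prime_two).2 (by have := hB.h5; omega)
      have h3 : Nat.Coprime p 3 := (Nat.coprime_primes hB.hp Nat.prime_three).2 (by have := hB.h5; omega)
      exact Nat.Coprime.mul_right h2 h3
    have h1 : orderOf g ∣ orderOf (g ^ 6) * 6 := by
      apply orderOf_dvd_of_pow_eq_one
      rw [mul_comm, pow_mul, pow_orderOf_eq_one]
    exact hcop.dvd_of_dvd_mul_right (hpg.trans h1)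
  have h0 := hB.sing _ hp6
  rw [fx, Nat.card_eq_zero] at h0
  rcases h0 with h0 | h0
  · exact h0.elim ⟨a, h6⟩
  · exact h0.not_finite inferInstance

theorem not16 {T : Sylow 2 G} (hT : Nat.card T = 8) : ¬ 2 ^ (3 + 1) ∣ Nat.card G := by
  intro hd
  have h1 := T.card_eq_multiplicity
  rw [hT] at h1
  have h2 := (Nat.prime_two.pow_dvd_iff_le_factorization Nat.card_pos.ne').1 hd
  have h3 : (2 : ℕ) ^ 4 ≤ 2 ^ (Nat.card G).factorization 2 := Nat.pow_le_pow_right (by norm_num) h2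
  omega

/-- values on elements of even order in the centralizer of `t` -/
theorem vals (hB : Base G Ω p) {χ ψ : IrrCharacter G} (hχ : CharD G p 2 χ)
    (hpi : pi (G := G) Ω = 1 + (χ : G → ℂ) + (ψ : G → ℂ)) (hp8 : p % 8 = 5)
    {T : Sylow 2 G} {t r s v : G} {a b c : Ω} (h : D8 G Ω T t r s v a b c) {g : G}
    (hg : g ∈ Subgroup.centralizer ({t} : Set G)) (h2 : 2 ∣ orderOf g) :
    (χ : G → ℂ) g = 1 ∧ (ψ : G → ℂ) g = (fx Ω g : ℂ) - 2 := by
  have hpr := preg hB h hg
  obtain ⟨Y, -, hY⟩ := hχ.exc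
  have h5 := hB.h5
  obtain ⟨-, -, hdeg, hval⟩ := hY ⟨0, by omega⟩
  have hv := hval g hpr
  have h8 : 2 ^ 3 ∣ charDegree ((Y ⟨0, by omega⟩ : IrrCharacter G) : G → ℂ) := by
    push_cast at hdeg
    omega
  have hz := vanish (Y ⟨0, by omega⟩).2 (not16 h.card) h8 h2
  rw [hv] at hz
  have hχ1 : (χ : G → ℂ) g = 1 := sub_eq_zero.1 hz
  refine ⟨hχ1, ?_⟩
  have : (fx Ω g : ℂ) = 1 + (χ : G → ℂ) g + (ψ : G → ℂ) g := congrFun hpi g
  rw [this, hχ1]
  ring

theorem fx_t (hB : Base G Ω p) {T : Sylow 2 G} {t r s v : G} {a b c : Ω} (h : D8 G Ω T t r s v a b c) {U : Subgroup G}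
    (hU : Cen G T t U) {g : G} (hg : g ∈ U) (w : Ω) (hw : (t * g) • w = w) : t • w = w ∧ g • w = w := by
  have hodd : Odd (orderOf g) := by
    have : orderOf g ∣ Nat.card U := Subgroup.orderOf_dvd_natCard U hg
    exact Odd.of_dvd_nat hU.odd this
  have hc : Commute t g := by
    have := hU.le hg
    rw [Subgroup.mem_centralizer_singleton_iff] at this
    exact this.symm
  have h1 : (t * g) ^ orderOf g = t := by
    rw [hc.mul_pow, pow_orderOf_eq_one, mul_one]
    obtain ⟨k, hk⟩ := hodd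
    rw [hk, pow_succ, pow_mul, ← h.ot, pow_orderOf_eq_one, one_pow, one_mul]
  have h2 : t • w = w := by
    have := (MulAction.stabilizer G w).pow_mem (MulAction.mem_stabilizer_iff.2 hw) (orderOf g)
    rw [h1] at this
    exact this
  refine ⟨h2, ?_⟩
  rw [hc.eq, mul_smul, h2] at hw
  exact hw

theorem fx_v (hB : Base G Ω p) {T : Sylow 2 G} {t r s v : G} {a b c : Ω} (h : D8 G Ω T t r s v a b c) {U : Subgroup G}
    (hU : Cen G T t U) {g : G} (hg : g ∈ U) (hgv : g ∈ Subgroup.centralizer ({v} : Set G)) : fx Ω (v * g) = 1 := by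
  have hodd : Odd (orderOf g) := by
    have : orderOf g ∣ Nat.card U := Subgroup.orderOf_dvd_natCard U hg
    exact Odd.of_dvd_nat hU.odd this
  have hc : Commute v g := by
    rw [Subgroup.mem_centralizer_singleton_iff] at hgv
    exact hgv.symm
  have hga : g • a = a := by
    apply (h.fv _).1
    rw [← mul_smul, hc.eq, mul_smul, (h.fv a).2 rfl]
  have h1 : (v * g) ^ (orderOf g * orderOf g) = v := by
    rw [hc.mul_pow, pow_mul g, pow_orderOf_eq_one, one_pow, mul_one]
    obtain ⟨k, hk⟩ := hodd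
    have : orderOf g * orderOf g = 4 * (k * (k + 1)) + 1 := by rw [hk]; ring
    rw [this, pow_succ, pow_mul, ← h.ov, pow_orderOf_eq_one, one_pow, one_mul]
  have hset : MulAction.fixedBy Ω (v * g) = {a} := by
    ext w
    rw [MulAction.mem_fixedBy, Set.mem_singleton_iff]
    constructor
    · intro hw
      have := (MulAction.stabilizer G w).pow_mem (MulAction.mem_stabilizer_iff.2 hw) (orderOf g * orderOf g)
      rw [h1] at this
      exact (h.fv w).1 this
    · rintro rfl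
      rw [mul_smul, hga, (h.fv _).2 rfl]
  rw [fx, hset, Nat.card_unique]

theorem BCOEF (hB : Base G Ω p) {χ ψ : IrrCharacter G} (hχ : CharD G p 2 χ) (hψ : (charDegree (ψ : G → ℂ) : ℤ) = p)
    (hne : ψ ≠ χ) (hpi : pi (G := G) Ω = 1 + (χ : G → ℂ) + (ψ : G → ℂ)) (hp8 : p % 8 = 5) (h3 : ∀ t : G, orderOf t = 2 → fx Ω t = 3)
    {T : Sylow 2 G} {t r s v : G} {a b c : Ω} (h : D8 G Ω T t r s v a b c) {U : Subgroup G}
    (hU : Cen G T t U) {x y : IrrCharacter G → ℤ} (hs : Sec G t v U x y) :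
    (∀ g ∈ U, g • a = a ∧ g • b = b ∧ g • c = c) ∧
    ∑ η : IrrCharacter G, (x η : ℂ) * (η : G → ℂ) t ^ 2 / (η : G → ℂ) 1 = 2 * ((p : ℂ) - 1) ^ 2 / (p * (2 * p - 1)) ∧
    ∑ η : IrrCharacter G, (y η : ℂ) * (η : G → ℂ) t ^ 2 / (η : G → ℂ) 1 = 2 * ((p : ℂ) - 1) ^ 2 / (p * (2 * p - 1)) := by
  classical
  have h5 := hB.h5
  set W := (U ⊓ Subgroup.centralizer ({v} : Set G) : Subgroup G) with hW
  have hU0 : (Nat.card U : ℂ) ≠ 0 := by exact_mod_cast Nat.card_pos.ne'
  have hW0 : (Nat.card W : ℂ) ≠ 0 := by exact_mod_cast Nat.card_pos.ne'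
  have tg_mem : ∀ g ∈ U, t * g ∈ Subgroup.centralizer ({t} : Set G) := fun g hg =>
    mul_mem (Subgroup.mem_centralizer_singleton_iff.2 rfl) (hU.le hg)
  have vt : v ∈ Subgroup.centralizer ({t} : Set G) := by
    rw [Subgroup.mem_centralizer_singleton_iff, ← h.vv]; group
  have vg_mem : ∀ g ∈ W, v * g ∈ Subgroup.centralizer ({t} : Set G) := fun g hg =>
    mul_mem vt (hU.le hg.1)
  have even_of : ∀ g w : G, (∃ k : ℕ, g ^ k = w) → 2 ∣ orderOf w → 2 ∣ orderOf g := by
    rintro g w ⟨k, rfl⟩ hw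
    exact hw.trans (orderOf_pow_dvd k)
  have oddg : ∀ g ∈ U, Odd (orderOf g) := fun g hg => Odd.of_dvd_nat hU.odd (Subgroup.orderOf_dvd_natCard U hg)
  have tg_even : ∀ g ∈ U, 2 ∣ orderOf (t * g) := by
    intro g hg
    apply even_of (t * g) t
    · refine ⟨orderOf g, ?_⟩
      have hc : Commute t g := by
        have := hU.le hg
        rw [Subgroup.mem_centralizer_singleton_iff] at this
        exact this.symm
      rw [hc.mul_pow, pow_orderOf_eq_one, mul_one]
      obtain ⟨k, hk⟩ := oddg g hg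
      rw [hk, pow_succ, pow_mul, ← h.ot, pow_orderOf_eq_one, one_pow, one_mul]
    · rw [h.ot]
  have vg_even : ∀ g ∈ W, 2 ∣ orderOf (v * g) := by
    intro g hg
    apply even_of (v * g) v
    · refine ⟨orderOf g * orderOf g, ?_⟩
      have hc : Commute v g := by
        have : g ∈ Subgroup.centralizer ({v} : Set G) := hg.2
        rw [Subgroup.mem_centralizer_singleton_iff] at this
        exact this.symm
      rw [hc.mul_pow, pow_mul g, pow_orderOf_eq_one, one_pow, mul_one]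
      obtain ⟨k, hk⟩ := oddg g hg.1
      have : orderOf g * orderOf g = 4 * (k * (k + 1)) + 1 := by rw [hk]; ring
      rw [this, pow_succ, pow_mul, ← h.ov, pow_orderOf_eq_one, one_pow, one_mul]
    · rw [h.ov]; norm_num
  -- values
  have tval : ∀ g ∈ U, (χ : G → ℂ) (t * g) = 1 ∧ (ψ : G → ℂ) (t * g) = (fx Ω (t * g) : ℂ) - 2 := fun g hg =>
    vals hB hχ hpi hp8 h (tg_mem g hg) (tg_even g hg)
  have vval : ∀ g ∈ W, (χ : G → ℂ) (v * g) = 1 ∧ (ψ : G → ℂ) (v * g) = -1 := by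
    intro g hg
    obtain ⟨e1, e2⟩ := vals hB hχ hpi hp8 h (vg_mem g hg) (vg_even g hg)
    refine ⟨e1, ?_⟩
    rw [e2, fx_v hB h hU hg.1 hg.2]
    norm_num
  -- coefficients
  have y1 : y (triv G) = 1 := by
    have e := hs.hy (triv G)
    rw [← hW, fsum_const W (fun g => ((triv G : IrrCharacter G) : G → ℂ) (v * g)) 1 (fun g _ => rfl)] at e
    have := mul_right_cancel₀ hW0 e
    exact_mod_cast this.symm
  have yχ : y χ = 1 := by
    have e := hs.hy χ
    rw [fsum_const W _ 1 (fun g hg => (vval g hg).1)] at e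
    have := mul_right_cancel₀ hW0 e
    exact_mod_cast this.symm
  have yψ : y ψ = -1 := by
    have e := hs.hy ψ
    rw [fsum_const W _ (-1) (fun g hg => (vval g hg).2)] at e
    have := mul_right_cancel₀ hW0 e
    exact_mod_cast this.symm
  have x1 : x (triv G) = 1 := by
    have e := hs.hx (triv G)
    rw [fsum_const U (fun g => ((triv G : IrrCharacter G) : G → ℂ) (t * g)) 1 (fun g _ => rfl)] at e
    have := mul_right_cancel₀ hU0 e
    exact_mod_cast this.symm
  have xχ : x χ = 1 := by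
    have e := hs.hx χ
    rw [fsum_const U _ 1 (fun g hg => (tval g hg).1)] at e
    have := mul_right_cancel₀ hU0 e
    exact_mod_cast this.symm
  -- the coefficient of ψ
  have fle : ∀ g : U, fx Ω (t * (g : G)) ≤ 3 := by
    intro g
    rw [← h3 t h.ot, fx, fx, Nat.card_coe_set_eq, Nat.card_coe_set_eq]
    refine Set.ncard_le_ncard ?_ (Set.toFinite _)
    intro w hw
    exact (fx_t hB h hU g.2 w hw).1
  have xs : ∑ g : U, (fx Ω (t * (g : G)) : ℤ) = (x ψ + 2) * Nat.card U := by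
    have e := hs.hx ψ
    rw [← finsum_set_coe_eq_finsum_mem, finsum_eq_sum_of_fintype,
      Finset.sum_congr rfl (fun (g : ↥(U : Set G)) _ => (tval g.1 g.2).2), Finset.sum_sub_distrib, Finset.sum_const,
      nsmul_eq_mul, Finset.card_univ, ← Nat.card_eq_fintype_card] at e
    have e' : (∑ g : U, (fx Ω (t * (g : G)) : ℂ)) - (Nat.card U : ℂ) * 2 = x ψ * Nat.card U := e
    have e'' : (∑ g : U, (fx Ω (t * (g : G)) : ℂ)) = (x ψ + 2) * Nat.card U := by linear_combination e'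
    exact_mod_cast e''
  have hcU : ∑ g : U, (3 : ℤ) = 3 * Nat.card U := by
    rw [Finset.sum_const, Finset.card_univ, ← Nat.card_eq_fintype_card, nsmul_eq_mul, mul_comm]
  have hUp : (0 : ℤ) < Nat.card U := by exact_mod_cast Nat.card_pos
  have xle : x ψ ≤ 1 := by
    have : ∑ g : U, (fx Ω (t * (g : G)) : ℤ) ≤ ∑ g : U, (3 : ℤ) :=
      Finset.sum_le_sum fun g _ => by exact_mod_cast fle g
    rw [xs, hcU] at this
    nlinarith
  have xge : -2 ≤ x ψ := by
    have : 0 ≤ ∑ g : U, (fx Ω (t * (g : G)) : ℤ) := Finset.sum_nonneg fun g _ => Int.natCast_nonneg _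
    rw [xs] at this
    nlinarith
  have xpar := hs.par ψ
  rw [yψ] at xpar
  have xcase : x ψ = 1 ∨ x ψ = -1 := by omega
  -- distinctness
  have hψ1 : ψ ≠ triv G := by
    intro e
    have h1 : (charDegree ((triv G : IrrCharacter G) : G → ℂ) : ℂ) = 1 := by
      rw [← deg_spec (triv G).2]; rfl
    have h2 : charDegree ((triv G : IrrCharacter G) : G → ℂ) = 1 := by exact_mod_cast h1
    rw [e, h2] at hψ
    push_cast at hψ
    omega
  have d1 : (charDegree ((triv G : IrrCharacter G) : G → ℂ) : ℤ) = 1 := by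
    have h1 : (charDegree ((triv G : IrrCharacter G) : G → ℂ) : ℂ) = 1 := by
      rw [← deg_spec (triv G).2]; rfl
    exact_mod_cast h1
  have dχ : (charDegree (χ : G → ℂ) : ℤ) = 2 * p - 1 := by
    have := hχ.deg
    push_cast at this
    exact this
  set S := ((Finset.univ.erase (triv G)).erase χ).erase ψ with hS
  have sp := fun {R : Type} [AddCommMonoid R] (f : IrrCharacter G → R) =>
    sum_split (R := R) (i := triv G) (j := χ) (k := ψ) hχ.ne hψ1 hne f
  have Syy : ∑ η ∈ S, y η ^ 2 = 1 := by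
    have e := hs.yy
    rw [sp, y1, yχ, yψ] at e
    linarith
  obtain ⟨ξ, hξS, hyξ, hyS⟩ := vec_one S y Syy
  have Sxy : ∑ η ∈ S, x η * y η = x ξ * y ξ := by
    rw [Finset.sum_eq_single_of_mem ξ hξS]
    intro η hη hne'
    rw [hyS η hη hne', mul_zero]
  have exy : x ξ * y ξ = x ψ - 2 := by
    have e := hs.xy
    rw [sp, y1, yχ, yψ, x1, xχ, Sxy] at e
    linarith
  have Sxx : ∑ η ∈ S, x η ^ 2 = 6 - x ψ ^ 2 := by
    have e := hs.xx
    rw [sp, x1, xχ] at e
    linarith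
  have hxψ : x ψ = 1 := by
    rcases xcase with e | e
    · exact e
    · exfalso
      rw [e] at exy Sxx
      have h1 : x ξ ^ 2 ≤ ∑ η ∈ S, x η ^ 2 :=
        Finset.single_le_sum (f := fun η => x η ^ 2) (fun η _ => sq_nonneg _) hξS
      have h2 : x ξ ^ 2 * y ξ ^ 2 = 9 := by
        rw [← mul_pow, exy]; norm_num
      rw [hyξ, mul_one] at h2
      rw [h2, Sxx] at h1
      norm_num at h1
  rw [hxψ] at exy Sxx xs
  have hUfix : ∀ g ∈ U, g • a = a ∧ g • b = b ∧ g • c = c := by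
    have hall : ∀ g : U, fx Ω (t * (g : G)) = 3 := by
      have hsum : ∑ g : U, ((3 : ℤ) - fx Ω (t * (g : G))) = 0 := by
        rw [Finset.sum_sub_distrib, xs, hcU]; ring
      have := (Finset.sum_eq_zero_iff_of_nonneg (fun (g : U) _ => by
        have := fle g
        have : (fx Ω (t * (g : G)) : ℤ) ≤ 3 := by exact_mod_cast this
        linarith)).1 hsum
      intro g
      have := this g (Finset.mem_univ g)
      omega
    intro g hg
    have hsub : MulAction.fixedBy Ω (t * g) ⊆ MulAction.fixedBy Ω t := fun w hw => (fx_t hB h hU hg w hw).1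
    have heq : MulAction.fixedBy Ω (t * g) = MulAction.fixedBy Ω t := by
      apply Set.eq_of_subset_of_ncard_le hsub
      rw [← Nat.card_coe_set_eq, ← Nat.card_coe_set_eq]
      have e1 := hall ⟨g, hg⟩
      have e2 := h3 t h.ot
      rw [fx] at e1 e2
      rw [e2]
      exact e1.ge
    have hw : ∀ w : Ω, t • w = w → g • w = w := by
      intro w hw
      have : w ∈ MulAction.fixedBy Ω (t * g) := by rw [heq]; exact hw
      exact (fx_t hB h hU hg w this).2
    exact ⟨hw a ((h.ft a).2 (Or.inl rfl)), hw b ((h.ft b).2 (Or.inr (Or.inl rfl))), hw c ((h.ft c).2 (Or.inr (Or.inr rfl)))⟩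
  refine ⟨hUfix, ?_⟩
  -- ξ
  have Sy1 : ∑ η ∈ S, y η * (charDegree (η : G → ℂ) : ℤ) = y ξ * (charDegree (ξ : G → ℂ) : ℤ) := by
    rw [Finset.sum_eq_single_of_mem ξ hξS]
    intro η hη hne'
    rw [hyS η hη hne', zero_mul]
  have ey1 : (p : ℤ) + y ξ * (charDegree (ξ : G → ℂ) : ℤ) = 0 := by
    have e := hs.y1
    rw [sp, y1, yχ, yψ, Sy1, d1, dχ, hψ] at e
    linarith
  have hyξ' : y ξ = -1 := by
    have h0 : (y ξ - 1) * (y ξ + 1) = 0 := by linear_combination hyξ
    rcases mul_eq_zero.1 h0 with h0 | h0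
    · exfalso
      have : y ξ = 1 := by linarith
      rw [this, one_mul] at ey1
      omega
    · linarith
  have dξ : (charDegree (ξ : G → ℂ) : ℤ) = p := by
    rw [hyξ'] at ey1; linarith
  have hxξ : x ξ = 1 := by
    rw [hyξ'] at exy; linarith
  have ht2 : 2 ∣ orderOf t := by rw [h.ot]
  obtain ⟨tχ, tψ⟩ := vals hB hχ hpi hp8 h (Subgroup.mem_centralizer_singleton_iff.2 rfl : t ∈ Subgroup.centralizer ({t} : Set G)) ht2
  rw [h3 t h.ot] at tψ
  have tψ' : (ψ : G → ℂ) t = 1 := by rw [tψ]; norm_num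
  have ttriv : ((triv G : IrrCharacter G) : G → ℂ) t = 1 := rfl
  have tξ : (ξ : G → ℂ) t = 1 := by
    have Syt : ∑ η ∈ S, (y η : ℂ) * (η : G → ℂ) t = (y ξ : ℂ) * (ξ : G → ℂ) t := by
      rw [Finset.sum_eq_single_of_mem ξ hξS]
      intro η hη hne'
      rw [hyS η hη hne', Int.cast_zero, zero_mul]
    have e := hs.yt
    rw [sp, y1, yχ, yψ, Syt, ttriv, tχ, tψ', hyξ'] at e
    push_cast at e
    linear_combination -e
  set S' := S.erase ξ with hS'
  have Sxx' : ∑ η ∈ S', x η ^ 2 = 4 := by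
    have := Finset.add_sum_erase S (fun η => x η ^ 2) hξS
    rw [Sxx, hxξ] at this
    linarith
  obtain ⟨ζ, hζS, hxζ, hxS⟩ := vec_four S' x Sxx' (by
    intro η hη
    have h1 := hs.par η
    rwa [hyS η (Finset.mem_of_mem_erase hη) (Finset.ne_of_mem_erase hη), sub_zero] at h1)
  have two : ∀ {R : Type} [AddCommMonoid R] (f : IrrCharacter G → R) (hf : ∀ η, x η = 0 → f η = 0),
      ∑ η ∈ S, f η = f ξ + f ζ := by
    intro R _ f hf
    rw [← Finset.add_sum_erase S f hξS, Finset.sum_eq_single_of_mem ζ hζS]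
    intro η hη hne'
    exact hf η (hxS η hη hne')
  have ex1 : 4 * (p : ℤ) + x ζ * (charDegree (ζ : G → ℂ) : ℤ) = 0 := by
    have e := hs.x1
    rw [sp, x1, xχ, hxψ, two (fun η => x η * (charDegree (η : G → ℂ) : ℤ)) (fun η h0 => by rw [h0, zero_mul]),
      d1, dχ, hψ, dξ, hxξ] at e
    linarith
  have hxζ' : x ζ = -2 := by
    have h0 : (x ζ - 2) * (x ζ + 2) = 0 := by linear_combination hxζ
    rcases mul_eq_zero.1 h0 with h0 | h0
    · exfalso
      have : x ζ = 2 := by linarith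
      rw [this] at ex1
      omega
    · linarith
  have dζ : (charDegree (ζ : G → ℂ) : ℤ) = 2 * p := by
    rw [hxζ'] at ex1; linarith
  have tζ : (ζ : G → ℂ) t = -2 := by
    have e := hs.xt
    rw [sp, x1, xχ, hxψ, two (fun η => (x η : ℂ) * (η : G → ℂ) t) (fun η h0 => by rw [h0, Int.cast_zero, zero_mul]),
      ttriv, tχ, tψ', hxξ, tξ, hxζ'] at e
    push_cast at e
    linear_combination -(1/2 : ℂ) * e
  -- degrees as complex numbers
  have o1 : ((triv G : IrrCharacter G) : G → ℂ) 1 = 1 := rfl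
  have oχ : (χ : G → ℂ) 1 = 2 * p - 1 := by
    rw [deg_spec χ.2]
    have : (((charDegree (χ : G → ℂ) : ℤ)) : ℂ) = ((2 * p - 1 : ℤ) : ℂ) := by rw [dχ]
    push_cast at this
    exact this
  have oψ : (ψ : G → ℂ) 1 = p := by
    rw [deg_spec ψ.2]
    exact_mod_cast hψ
  have oξ : (ξ : G → ℂ) 1 = p := by
    rw [deg_spec ξ.2]
    exact_mod_cast dξ
  have oζ : (ζ : G → ℂ) 1 = 2 * p := by
    rw [deg_spec ζ.2]
    exact_mod_cast dζ
  have hp0 : (p : ℂ) ≠ 0 := by exact_mod_cast hB.hp.ne_zero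
  have h2p : (2 * (p : ℂ) - 1) ≠ 0 := by
    rw [← oχ]
    exact χ.2.one_ne_zero
  constructor
  · rw [sp, x1, xχ, hxψ, two (fun η => (x η : ℂ) * (η : G → ℂ) t ^ 2 / (η : G → ℂ) 1)
      (fun η h0 => by rw [h0, Int.cast_zero, zero_mul, zero_div]), ttriv, tχ, tψ', hxξ, tξ, hxζ', tζ, o1, oχ, oψ, oξ, oζ]
    push_cast
    field_simp
    ring
  · have Sy : ∑ η ∈ S, (y η : ℂ) * (η : G → ℂ) t ^ 2 / (η : G → ℂ) 1 = (y ξ : ℂ) * (ξ : G → ℂ) t ^ 2 / (ξ : G → ℂ) 1 := by
      rw [Finset.sum_eq_single_of_mem ξ hξS]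
      intro η hη hne'
      rw [hyS η hη hne', Int.cast_zero, zero_mul, zero_div]
    rw [sp, y1, yχ, yψ, Sy, ttriv, tχ, tψ', hyξ', tξ, o1, oχ, oψ, oξ]
    push_cast
    field_simp
    ring

end Cfsg.Agent.Lib.H52_BCOEF
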