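import Cfsg.Agent.Lib.H52T0
import Cfsg.Agent.Lib.H10Order360

set_option autoImplicit false
set_option linter.all false

/-! S3254, piece BFIN -/

namespace Cfsg.Agent.Lib.H52_BFIN

open Cfsg Cfsg.Agent.Lib.BRPerm Cfsg.Agent.Lib.BRCore Cfsg.Agent.Lib.BRInd Cfsg.Agent.Lib.CharBasic Cfsg.Agent.Lib.BlockThird Cfsg.Agent.Lib.H52T0 Cfsg.Agent.Lib.H15RealP Cfsg.Agent.Lib.BRB0 Cfsg.Agent.Lib.DefOneLoc
universe u v

variable {G : Type u} [Group G] [Fintype G] {Ω : Type v} [Fintype Ω] [MulAction G Ω] {p : ℕ}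

theorem num {A : ℕ} (ho : Odd A) (h : 24 * A ^ 4 ∣ Nat.factorial 6 * Nat.factorial 8) : A = 1 := by
  have h1 : Nat.factorial 6 * Nat.factorial 8 = 29030400 := by decide
  rw [h1] at h
  have hle := Nat.le_of_dvd (by norm_num) h
  have hA : A < 34 := by
    by_contra hcon
    have h2 : 34 ^ 4 ≤ A ^ 4 := Nat.pow_le_pow_left (by omega) 4
    norm_num at h2
    omega
  interval_cases A <;> revert ho h <;> decide

/-- B7 -/
theorem BFIN (hB : Base G Ω 5) (hrank : ∀ a : Ω, ∃ (A : ℤ) (k l : ℕ) (b b' : Ω), 2 * ((5 : ℕ) : ℤ) = 6 * A ^ 2 - 3 * A + 1 ∧ 2 * (k : ℤ) = (3 * A - 1) * (2 * A - 1) ∧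
      (l : ℤ) = 2 * A * (3 * A - 1) ∧ k + l + 1 = 3 * 5 ∧
      k = Nat.card (MulAction.orbit (MulAction.stabilizer G a) b) ∧ l = Nat.card (MulAction.orbit (MulAction.stabilizer G a) b') ∧
      (∀ w : Ω, w = a ∨ w ∈ MulAction.orbit (MulAction.stabilizer G a) b ∨ w ∈ MulAction.orbit (MulAction.stabilizer G a) b'))
    (h : ∃ A : ℕ, Odd A ∧ Nat.card G = 360 * A ^ 4) : Nonempty (G ≃* alternatingGroup (Fin 6)) := by
  haveI := hB.simple
  haveI := hB.faithful
  haveI := hB.prim
  obtain ⟨A, hAo, hA⟩ := h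
  have hΩ : Nat.card Ω = 15 := by rw [hB.card]
  obtain ⟨a⟩ : Nonempty Ω := (Nat.card_pos_iff.1 (by rw [hΩ]; norm_num)).1
  obtain ⟨A0, k, l, b, b', e1, e2, e3, e4, hk, hl, hall⟩ := hrank a
  have hA0 : A0 = -1 := by
    have h1 : 3 * ((2 * A0 - 3) * (A0 + 1)) = 0 := by push_cast at e1; linear_combination -e1
    have h2 : (2 * A0 - 3) * (A0 + 1) = 0 := by omega
    rcases mul_eq_zero.1 h2 with h3 | h3 <;> omega
  subst hA0
  have hk6 : k = 6 := by norm_num at e2; omega
  have hl8 : l = 8 := by norm_num at e3; omega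
  subst hk6
  subst hl8
  have hidx : (MulAction.stabilizer G a).index = 15 := by
    rw [MulAction.index_stabilizer_of_transitive, hΩ]
  have hcard : Nat.card (MulAction.stabilizer G a) * 15 = 360 * A ^ 4 := by
    rw [← hA, ← hidx]; exact Subgroup.card_mul_index _
  have hst : Nat.card (MulAction.stabilizer G a) = 24 * A ^ 4 := by omega
  let φ : MulAction.stabilizer G a →*
      Equiv.Perm (MulAction.orbit (MulAction.stabilizer G a) b) × Equiv.Perm (MulAction.orbit (MulAction.stabilizer G a) b') :=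
    (MulAction.toPermHom (MulAction.stabilizer G a) (MulAction.orbit (MulAction.stabilizer G a) b)).prod
      (MulAction.toPermHom (MulAction.stabilizer G a) (MulAction.orbit (MulAction.stabilizer G a) b'))
  have hφ : Function.Injective φ := by
    rw [injective_iff_map_eq_one]
    intro g hg
    have h1 : ∀ w : Ω, (g : G) • w = w := by
      intro w
      rcases hall w with rfl | hw | hw
      · exact g.2
      · have := congrArg Prod.fst hg
        have h2 := DFunLike.congr_fun this (⟨w, hw⟩ : MulAction.orbit (MulAction.stabilizer G a) b)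
        exact congrArg Subtype.val h2
      · have := congrArg Prod.snd hg
        have h2 := DFunLike.congr_fun this (⟨w, hw⟩ : MulAction.orbit (MulAction.stabilizer G a) b')
        exact congrArg Subtype.val h2
    apply Subtype.ext
    apply FaithfulSMul.eq_of_smul_eq_smul (M := G) (α := Ω)
    intro w
    rw [h1 w, OneMemClass.coe_one, one_smul]
  have hdvd := Subgroup.card_dvd_of_injective φ hφ
  rw [Nat.card_prod, Nat.card_perm, Nat.card_perm, ← hk, ← hl, hst] at hdvd
  have hA1 := num hAo hdvd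
  subst hA1
  exact Cfsg.Agent.Lib.H10Order360.main (by rw [hA]; norm_num)

end Cfsg.Agent.Lib.H52_BFIN
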