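import Mathlib
import Cfsg.Agent.Lib.H52T0

set_option autoImplicit false
set_option linter.all false

/-! Values of the characters of degree `2p - 1` and `p` on involutions (piece of S3254) -/

namespace Cfsg.Agent.Lib.H52_BFIXa

open Cfsg Cfsg.Agent.Lib.BRPerm Cfsg.Agent.Lib.BRCore Cfsg.Agent.Lib.BRInd Cfsg.Agent.Lib.CharBasic Cfsg.Agent.Lib.BlockThird Cfsg.Agent.Lib.H52T0 Cfsg.Agent.Lib.H15RealP Cfsg.Agent.Lib.BRB0 Cfsg.Agent.Lib.DefOneLoc

universe u v

section Dih

variable {p : ℕ}

/-- coordinates on a dihedral group -/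
def dihE (n : ℕ) : (ZMod n ⊕ ZMod n) ≃ DihedralGroup n where
  toFun := Sum.elim DihedralGroup.r DihedralGroup.sr
  invFun g := match g with
    | DihedralGroup.r i => Sum.inl i
    | DihedralGroup.sr i => Sum.inr i
  left_inv := by rintro (i | i) <;> rfl
  right_inv := by rintro (i | i) <;> rfl

theorem dih_sum [NeZero p] (f : DihedralGroup p → ℂ) :
    ∑ g, f g = ∑ i : ZMod p, f (DihedralGroup.r i) + ∑ i : ZMod p, f (DihedralGroup.sr i) := by
  rw [← (dihE p).sum_comp f, Fintype.sum_sum_type]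
  rfl

/-- the sign character of the dihedral group -/
def dihS (n : ℕ) : DihedralGroup n →* ℂ where
  toFun g := match g with
    | DihedralGroup.r _ => 1
    | DihedralGroup.sr _ => -1
  map_one' := rfl
  map_mul' := by
    rintro (i | i) (j | j)
    · show (1 : ℂ) = 1 * 1; norm_num
    · show (-1 : ℂ) = 1 * -1; norm_num
    · show (-1 : ℂ) = -1 * 1; norm_num
    · show (1 : ℂ) = -1 * -1; norm_num

theorem dih [NeZero p] {φ : DihedralGroup p → ℂ} (hφ : IsCharacter (DihedralGroup p) φ) {w : ℂ}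
    (hr : ∑ i : ZMod p, φ (DihedralGroup.r i) = p) (hs : ∀ i, φ (DihedralGroup.sr i) = w) : w = 1 ∨ w = -1 := by
  have hp0 : (p : ℂ) ≠ 0 := by exact_mod_cast NeZero.ne p
  have hc : Fintype.card (DihedralGroup p) = 2 * p := DihedralGroup.card
  have hsum : ∑ i : ZMod p, φ (DihedralGroup.sr i) = p * w := by
    rw [Finset.sum_congr rfl (fun i _ => hs i), Finset.sum_const, Finset.card_univ, ZMod.card, nsmul_eq_mul]
  obtain ⟨k, hk⟩ := nat_sum hφ (isCharacter_one (G := DihedralGroup p)) (fun _ => map_one _)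
  obtain ⟨k', hk'⟩ := nat_sum hφ (isCharacter_of_hom (dihS p)) (fun n => by
    rcases n with i | i
    · show (starRingEnd ℂ) (1 : ℂ) = 1
      exact map_one _
    · show (starRingEnd ℂ) (-1 : ℂ) = -1
      rw [map_neg, map_one])
  simp only [Pi.one_apply, mul_one] at hk
  rw [dih_sum, hr, hsum, hc] at hk
  rw [dih_sum, hc] at hk'
  have h1 : ∑ i : ZMod p, φ (DihedralGroup.r i) * dihS p (DihedralGroup.r i) = p := by
    rw [← hr]
    exact Finset.sum_congr rfl fun i _ => mul_one _
  have h2 : ∑ i : ZMod p, φ (DihedralGroup.sr i) * dihS p (DihedralGroup.sr i) = - (p * w) := by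
    rw [← hsum, ← Finset.sum_neg_distrib]
    refine Finset.sum_congr rfl fun i _ => ?_
    show _ * (-1 : ℂ) = _
    ring
  rw [h1, h2] at hk'
  push_cast at hk hk'
  have h3 : 1 + w = 2 * k := by
    apply mul_left_cancel₀ hp0
    linear_combination hk
  have h4 : 1 - w = 2 * k' := by
    apply mul_left_cancel₀ hp0
    linear_combination hk'
  have h5 : ((k + k' : ℕ) : ℂ) = (1 : ℕ) := by
    push_cast
    linear_combination (-(h3 + h4)) / 2
  have h6 : k + k' = 1 := by exact_mod_cast h5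
  rcases Nat.eq_zero_or_pos k with h7 | h7
  · right
    rw [h7, Nat.cast_zero] at h3
    linear_combination h3
  · left
    have h8 : k = 1 := by omega
    rw [h8, Nat.cast_one] at h3
    linear_combination h3

variable {G : Type u} [Group G]

/-- powers of an element of order dividing `p`, indexed by `ZMod p` -/
theorem exists_pw {x : G} (hx : x ^ p = 1) : ∃ P : ZMod p → G, (∀ i j, P (i + j) = P i * P j) ∧ P 0 = 1 ∧
    ∀ n : ℤ, P (n : ZMod p) = x ^ n := by
  let f : ℤ →+ Additive G := (zmultiplesHom (Additive G)) (Additive.ofMul x)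
  have hf : ∀ n : ℤ, f n = Additive.ofMul (x ^ n) := fun n => by
    simp [f, zmultiplesHom_apply, ofMul_zpow]
  have hfp : f (p : ℤ) = 0 := by
    rw [hf, zpow_natCast, hx]; rfl
  let F : ZMod p →+ Additive G := ZMod.lift p ⟨f, hfp⟩
  refine ⟨fun i => (F i).toMul, fun i j => ?_, ?_, fun n => ?_⟩
  · show (F (i + j)).toMul = _
    rw [map_add]; rfl
  · show (F 0).toMul = _
    rw [map_zero]; rfl
  · show (F (n : ZMod p)).toMul = _
    have h1 : F (n : ZMod p) = f n := ZMod.lift_coe p ⟨f, hfp⟩ n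
    rw [h1, hf]; rfl

/-- a homomorphism from the dihedral group -/
theorem exists_dih [NeZero p] {a x : G} (ha : a * a = 1) (hx : x ^ p = 1) (hax : a * x * a = x⁻¹) :
    ∃ f : DihedralGroup p →* G, (∀ n : ℤ, f (DihedralGroup.r (n : ZMod p)) = x ^ n) ∧
      (∀ i, f (DihedralGroup.sr i) = a * f (DihedralGroup.r i)) ∧ ∀ i, a * f (DihedralGroup.r i) * a = f (DihedralGroup.r (-i)) := by
  obtain ⟨P, h1, h2, h3⟩ := exists_pw hx
  have hainv : a⁻¹ = a := inv_eq_of_mul_eq_one_left ha
  have h4 : ∀ i, a * P i * a = P (-i) := by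
    intro i
    obtain ⟨n, rfl⟩ := ZMod.intCast_surjective i
    have h5 : (-(n : ZMod p)) = ((-n : ℤ) : ZMod p) := by push_cast; rfl
    rw [h5, h3, h3, zpow_neg, ← inv_zpow, ← hax]
    have h6 : a * x ^ n * a = a * x ^ n * a⁻¹ := by rw [hainv]
    have h7 : (a * x * a) ^ n = (a * x * a⁻¹) ^ n := by rw [hainv]
    rw [h6, h7, conj_zpow]
  have h4' : ∀ i, P i * a = a * P (-i) := by
    intro i
    rw [← h4 i]
    calc P i * a = (a * a) * P i * a := by rw [ha, one_mul]
      _ = a * (a * P i * a) := by group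
  refine ⟨{ toFun := fun g => match g with
              | DihedralGroup.r i => P i
              | DihedralGroup.sr i => a * P i
            map_one' := h2
            map_mul' := ?_ }, fun n => h3 n, fun i => rfl, fun i => h4 i⟩
  rintro (i | i) (j | j)
  · show P (i + j) = P i * P j
    exact h1 i j
  · show a * P (j - i) = P i * (a * P j)
    rw [← mul_assoc, h4', mul_assoc, ← h1, neg_add_eq_sub]
  · show a * P (i + j) = a * P i * P j
    rw [h1, mul_assoc]
  · show P (j - i) = a * P i * (a * P j)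
    rw [← mul_assoc (a * P i), h4, ← h1, neg_add_eq_sub]

variable [Fintype G]

/-- a character with constant value `s` on the elements of order `p` and degree `p - (p - 1) s` takes the values `± 1`
on the involutions -/
theorem val_pm (hp : p.Prime) (h2 : p ≠ 2) {φ : G → ℂ} (hφ : IsCharacter G φ) {s : ℂ}
    (hs : ∀ g : G, p ∣ orderOf g → φ g = s) (h1 : φ 1 + (p - 1) * s = p) {a b : G} (ha : a * a = 1) (hb : b * b = 1)
    (hab : orderOf (a * b) = p) : φ a = 1 ∨ φ a = -1 := by
  haveI : Fact p.Prime := ⟨hp⟩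
  haveI : NeZero p := ⟨hp.ne_zero⟩
  have hainv : a⁻¹ = a := inv_eq_of_mul_eq_one_left ha
  have hbinv : b⁻¹ = b := inv_eq_of_mul_eq_one_left hb
  have hax : a * (a * b) * a = (a * b)⁻¹ := by
    rw [mul_inv_rev, hainv, hbinv, ← mul_assoc a a b, ha, one_mul]
  have hxp : (a * b) ^ p = 1 := by
    have := pow_orderOf_eq_one (a * b)
    rwa [hab] at this
  obtain ⟨f, f1, f2, f3⟩ := exists_dih ha hxp hax
  have hcl : IsClassFunction G φ := hφ.isClassFunction
  have hr0 : f (DihedralGroup.r 0) = 1 := by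
    have := f1 0
    rwa [Int.cast_zero, zpow_zero] at this
  have hr : ∀ i : ZMod p, i ≠ 0 → φ (f (DihedralGroup.r i)) = s := by
    intro i hi
    apply hs
    obtain ⟨n, rfl⟩ := ZMod.intCast_surjective i
    rw [f1]
    have hne : (a * b) ^ n ≠ 1 := by
      intro h
      apply hi
      rw [ZMod.intCast_zmod_eq_zero_iff_dvd]
      have := orderOf_dvd_iff_zpow_eq_one.2 h
      rwa [hab] at this
    have hpow : ((a * b) ^ n) ^ p = 1 := by
      rw [← zpow_natCast, ← zpow_mul, mul_comm, zpow_mul, zpow_natCast, hxp, one_zpow]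
    rw [orderOf_eq_prime hpow hne]
  refine dih (p := p) (hφ.comp f) ?_ ?_
  · rw [← Finset.sum_erase_add _ _ (Finset.mem_univ (0 : ZMod p)), hr0,
      Finset.sum_congr rfl (fun i hi => hr i (Finset.ne_of_mem_erase hi)), Finset.sum_const,
      Finset.card_erase_of_mem (Finset.mem_univ _), Finset.card_univ, ZMod.card, nsmul_eq_mul,
      Nat.cast_sub hp.one_lt.le, Nat.cast_one]
    linear_combination h1
  · intro i
    -- `i = 2 j`
    have h2' : (2 : ZMod p) ≠ 0 := by
      intro h
      have h3 : ((2 : ℕ) : ZMod p) = 0 := by exact_mod_cast h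
      rw [ZMod.natCast_eq_zero_iff] at h3
      exact h2 ((Nat.prime_dvd_prime_iff_eq hp Nat.prime_two).1 h3)
    obtain ⟨j, rfl⟩ : ∃ j : ZMod p, i = j + j := ⟨i / 2, by field_simp; norm_num⟩
    have h4 : f (DihedralGroup.sr (j + j)) = f (DihedralGroup.r j)⁻¹ * a * f (DihedralGroup.r j) := by
      rw [f2]
      have h5 : (DihedralGroup.r j : DihedralGroup p)⁻¹ = DihedralGroup.r (-j) := rfl
      have h6 : (DihedralGroup.r (j + j) : DihedralGroup p) = DihedralGroup.r j * DihedralGroup.r j := rfl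
      rw [h5, ← f3 j, h6, map_mul, ← mul_assoc]
      rw [mul_assoc (a * f (DihedralGroup.r j)) a a, ha, mul_one]
    rw [h4, map_inv]
    have := hcl a (f (DihedralGroup.r j))⁻¹
    rw [inv_inv] at this
    exact this

end Dih

section Main

variable {G : Type u} [Group G] [Fintype G] {Ω : Type v} [Fintype Ω] [MulAction G Ω] {p : ℕ}

/-- `p` does not divide the order of the centralizer of an involution -/
theorem cent_reg (hB : Base G Ω p) {t : G} (ht : orderOf t = 2) :
    ¬ p ∣ Nat.card (Subgroup.centralizer ({t} : Set G)) := by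
  classical
  intro hdvd
  haveI : Fact p.Prime := ⟨hB.hp⟩
  have h5 := hB.h5
  obtain ⟨y, hy⟩ := exists_prime_orderOf_dvd_card' p hdvd
  have hyo : orderOf (y : G) = p := by rw [Subgroup.orderOf_coe, hy]
  have hyt : (y : G) * t = t * y := by
    have := Subgroup.mem_centralizer_singleton_iff.1 y.2
    first | exact this | exact this.symm
  have hfx : 0 < fx Ω t ∧ fx Ω t ≤ 3 := by
    rcases hB.sub t ht with h | h <;> omega
  have hne : Nonempty (MulAction.fixedBy Ω t) := by
    apply Finite.card_pos_iff.1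
    exact hfx.1
  obtain ⟨a, ha⟩ := hne
  have hmem : ∀ i : ℕ, (y : G) ^ i • a ∈ MulAction.fixedBy Ω t := by
    intro i
    show t • ((y : G) ^ i • a) = (y : G) ^ i • a
    have hc : Commute (y : G) t := hyt
    rw [← mul_smul, ← (hc.pow_left i).eq, mul_smul]
    congr 1
  have hnot : ¬ Function.Injective (fun i : Fin p => (⟨(y : G) ^ (i : ℕ) • a, hmem i⟩ : MulAction.fixedBy Ω t)) := by
    intro hinj
    have h1 : p ≤ fx Ω t := by
      have := Nat.card_le_card_of_injective _ hinj
      rw [Nat.card_fin] at this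
      exact this
    omega
  have key : ∀ i j : ℕ, i < j → j < p → (y : G) ^ i • a = (y : G) ^ j • a → False := by
    intro i j hij hj he
    obtain ⟨d, rfl⟩ := Nat.exists_eq_add_of_lt hij
    have h1 : (y : G) ^ (d + 1) • a = a := by
      have h2 : (y : G) ^ (i + d + 1) • a = (y : G) ^ i • ((y : G) ^ (d + 1) • a) := by
        rw [← mul_smul, ← pow_add]; congr 1
      rw [h2] at he
      exact (smul_left_cancel _ he).symm
    have h3 : orderOf ((y : G) ^ (d + 1)) = p := by
      refine orderOf_eq_prime ?_ ?_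
      · rw [← pow_mul, mul_comm, pow_mul, ← hyo, pow_orderOf_eq_one, one_pow]
      · intro h
        have h7 := Nat.le_of_dvd (by omega) (orderOf_dvd_of_pow_eq_one h)
        omega
    have h4 := hB.sing ((y : G) ^ (d + 1)) (by rw [h3])
    have h5 : 0 < Nat.card (MulAction.fixedBy Ω ((y : G) ^ (d + 1))) := by
      haveI : Nonempty (MulAction.fixedBy Ω ((y : G) ^ (d + 1))) := ⟨⟨a, h1⟩⟩
      exact Finite.card_pos
    have h6 : fx Ω ((y : G) ^ (d + 1)) = Nat.card (MulAction.fixedBy Ω ((y : G) ^ (d + 1))) := rfl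
    omega
  apply hnot
  intro i j hij
  have h1 : (y : G) ^ (i : ℕ) • a = (y : G) ^ (j : ℕ) • a := congrArg Subtype.val hij
  rcases lt_trichotomy (i : ℕ) (j : ℕ) with h | h | h
  · exact (key _ _ h j.2 h1).elim
  · exact Fin.ext h
  · exact (key _ _ h i.2 h1.symm).elim

theorem pi_val {χ ψ : IrrCharacter G} (hpi : pi (G := G) Ω = 1 + (χ : G → ℂ) + (ψ : G → ℂ)) (g : G) :
    (fx Ω g : ℂ) = 1 + (χ : G → ℂ) g + (ψ : G → ℂ) g := by
  show pi (G := G) Ω g = _
  rw [hpi]; rfl

/-- steps 1, 2 of BFIX -/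
theorem BFIX12 (hB : Base G Ω p) {χ ψ : IrrCharacter G} (hχ : CharD G p 2 χ) (hψ : (charDegree (ψ : G → ℂ) : ℤ) = p)
    (hpi : pi (G := G) Ω = 1 + (χ : G → ℂ) + (ψ : G → ℂ)) (t : G) (ht : orderOf t = 2) :
    (χ : G → ℂ) t = 1 ∧ (((ψ : G → ℂ) t = 1 ∧ fx Ω t = 3) ∨ ((ψ : G → ℂ) t = -1 ∧ fx Ω t = 1)) := by
  have hp := hB.hp
  have h5 := hB.h5
  haveI : Fact p.Prime := ⟨hp⟩
  have hnt : ¬ p ∣ orderOf t := by
    rw [ht]
    intro h
    have := Nat.le_of_dvd (by norm_num) h
    omega
  have hsq : ∀ s : G, orderOf s = 2 → s * s = 1 := fun s hs => by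
    rw [← sq, ← hs, pow_orderOf_eq_one]
  have ht1 : t ≠ 1 := by
    rintro rfl
    rw [orderOf_one] at ht
    omega
  obtain ⟨a, b, hca, hcb, hab⟩ := hB.prod t t ht ht1 hnt
  have hconjo : ∀ s : G, IsConj t s → orderOf s = 2 := by
    intro s hs
    obtain ⟨c, rfl⟩ := isConj_iff.1 hs
    rw [← MulAut.conj_apply, MulEquiv.orderOf_eq, ht]
  have hval : ∀ θ : IrrCharacter G, (θ : G → ℂ) a = (θ : G → ℂ) t := by
    intro θ
    obtain ⟨c, hc⟩ := isConj_iff.1 hca
    rw [← hc]
    exact θ.2.isCharacter.isClassFunction t c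
  have ha := hsq a (hconjo a hca)
  have hb := hsq b (hconjo b hcb)
  have hχ1 : (χ : G → ℂ) 1 = 2 * p - 1 := by
    rw [← BlockDeg.charDegree_cast_irr]
    have h := hχ.deg
    have h' : ((charDegree (χ : G → ℂ) : ℤ) : ℂ) = (((2 : ℕ) * p - 1 : ℤ) : ℂ) := by rw [h]
    push_cast at h'
    exact h'
  have hψ1 : (ψ : G → ℂ) 1 = p := by
    rw [← BlockDeg.charDegree_cast_irr]
    exact_mod_cast hψ
  have hψs : ∀ g : G, p ∣ orderOf g → (ψ : G → ℂ) g = 0 := by
    intro g hg
    have h1 := pi_val hpi g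
    rw [hB.sing g hg, hχ.sing g hg] at h1
    push_cast at h1
    linear_combination -h1
  have hu := val_pm hp (by omega) χ.2.isCharacter hχ.sing (by rw [hχ1]; ring) ha hb hab
  have hw := val_pm hp (by omega) ψ.2.isCharacter hψs (by rw [hψ1]; ring) ha hb hab
  rw [hval] at hu hw
  have hu1 : (χ : G → ℂ) t = 1 := by
    rcases hu with hu | hu
    · exact hu
    · exfalso
      have h1 := hχ.E1 t ht (-1) (by rw [hu]; norm_num)
      have h2 : (p : ℤ) ∣ (Nat.card (Subgroup.centralizer ({t} : Set G)) : ℤ) := by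
        obtain ⟨n, hn⟩ := hB.syl
        set c : ℤ := (Nat.card (Subgroup.centralizer ({t} : Set G)) : ℤ)
        have hG : (Nat.card G : ℤ) = 2 * p * (1 + n * p) := by exact_mod_cast hn
        rw [hG] at h1
        have hp0 : (p : ℤ) ≠ 0 := by exact_mod_cast hp.ne_zero
        have h3 : (4 * p ^ 2 * (1 + n * p) : ℤ) = c ^ 2 * ((2 * p - 1) * (p - 1)) := by
          have h4 : (2 * p : ℤ) * (4 * p ^ 2 * (1 + n * p)) = (2 * p) * (c ^ 2 * ((2 * p - 1) * (p - 1))) := by
            push_cast at h1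
            linear_combination h1
          exact mul_left_cancel₀ (by positivity) h4
        have hpp : Prime (p : ℤ) := Nat.prime_iff_prime_int.1 hp
        have h4 : (p : ℤ) ∣ c ^ 2 * ((2 * p - 1) * (p - 1)) := by
          rw [← h3]
          exact ⟨4 * p * (1 + n * p), by ring⟩
        have h5' : ∀ d : ℤ, (p : ℤ) ∣ d → ¬ (p : ℤ) ∣ d - 1 := by
          intro d hd hd'
          have h6 : (p : ℤ) ∣ 1 := by
            have := dvd_sub hd hd'
            rwa [sub_sub_cancel] at this
          have h7 := Int.le_of_dvd one_pos h6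
          omega
        rcases hpp.dvd_or_dvd h4 with h6 | h6
        · exact hpp.dvd_of_dvd_pow h6
        · rcases hpp.dvd_or_dvd h6 with h7 | h7
          · exact (h5' _ (dvd_mul_left _ _) h7).elim
          · exact (h5' _ dvd_rfl h7).elim
      exact cent_reg hB ht (by exact_mod_cast h2)
  refine ⟨hu1, ?_⟩
  have h1 := pi_val hpi t
  rw [hu1] at h1
  rcases hw with hw | hw
  · left
    refine ⟨hw, ?_⟩
    rw [hw] at h1
    have h2 : (fx Ω t : ℂ) = (3 : ℕ) := by rw [h1]; norm_num
    exact_mod_cast h2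
  · right
    refine ⟨hw, ?_⟩
    rw [hw] at h1
    have h2 : (fx Ω t : ℂ) = (1 : ℕ) := by rw [h1]; norm_num
    exact_mod_cast h2

end Main

end Cfsg.Agent.Lib.H52_BFIXa
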