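import Mathlib
import Cfsg.Agent.Lib.H52T0

set_option autoImplicit false
set_option linter.all false

/-! Piece BFIX, last step: `ψ t = -1` is impossible. -/

namespace Cfsg.Agent.Lib.H52_BFIXw

open Cfsg Cfsg.Agent.Lib.BRPerm Cfsg.Agent.Lib.BRCore Cfsg.Agent.Lib.BRInd Cfsg.Agent.Lib.CharBasic
  Cfsg.Agent.Lib.BlockThird Cfsg.Agent.Lib.H52T0

universe u v

variable {G : Type u} [Group G] [Fintype G] {Ω : Type v} [Fintype Ω] [MulAction G Ω] {p : ℕ}

/-- the combinatorial count -/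
theorem count (hp : p.Prime) (h5 : 5 ≤ p) (hΩ : Nat.card Ω = 3 * p)
    (x t : G) (hx : orderOf x = p) (htt : t * t = 1) (hxt : t * x * t = x⁻¹)
    (hfree : ∀ g ∈ Subgroup.zpowers x, g ≠ 1 → ∀ ω : Ω, g • ω ≠ ω)
    (ω₁ : Ω) (hω₁ : t • ω₁ = ω₁)
    (huniq : ∀ g ∈ Subgroup.zpowers x, ∀ ω ω' : Ω, (g * t) • ω = ω → (g * t) • ω' = ω' → ω = ω')
    (Γ : Ω → Ω → Prop) (hΓG : ∀ (g : G) x y, Γ (g • x) (g • y) ↔ Γ x y) (hΓs : ∀ x y, Γ x y → Γ y x)
    (k : ℕ) (hk : ∀ x, Nat.card {y // Γ x y} = k) :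
    ∃ E : ℤ, ∑ᶠ g ∈ (Subgroup.zpowers x : Set G), ((Nat.card {ω : Ω // Γ ω (g • ω)} : ℤ) +
      (Nat.card {ω : Ω // Γ ω ((g * t) • ω)} : ℤ)) = 3 * E + p * k := by
  classical
  obtain ⟨P, hP⟩ : ∃ P, P = Subgroup.zpowers x := ⟨_, rfl⟩
  rw [← hP] at hfree huniq ⊢
  have hPc : Nat.card P = p := by rw [hP, Nat.card_zpowers, hx]
  have hinv : ∀ g ∈ P, t * g * t = g⁻¹ := by
    intro g hg
    rw [hP] at hg
    obtain ⟨n, rfl⟩ := hg
    have ht1 : t⁻¹ = t := inv_eq_of_mul_eq_one_left htt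
    have h1 : t * x ^ n * t⁻¹ = (t * x * t⁻¹) ^ n := (conj_zpow).symm
    show t * x ^ n * t = (x ^ n)⁻¹
    rw [ht1] at h1
    rw [h1, hxt, inv_zpow]
  have hsq : ∀ g ∈ P, ∃ h ∈ P, h * h = g := by
    intro g hg
    have hgp : g ^ p = 1 := by
      have := pow_card_eq_one' (x := (⟨g, hg⟩ : P))
      rw [hPc] at this
      exact congrArg Subtype.val this
    have hodd : Odd p := hp.odd_of_ne_two (by omega)
    obtain ⟨m, hm⟩ := hodd
    refine ⟨g ^ (m + 1), P.pow_mem hg _, ?_⟩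
    rw [← pow_add]
    have : m + 1 + (m + 1) = p + 1 := by omega
    rw [this, pow_succ, hgp, one_mul]
  have hfixO : ∀ g ∈ P, ∀ ω : Ω, (g * t) • ω = ω → ∃ h ∈ P, ω = h • ω₁ := by
    intro g hg ω hω
    obtain ⟨h, hh, rfl⟩ := hsq g hg
    refine ⟨h, hh, ?_⟩
    apply huniq (h * h) hg _ _ hω
    have h1 : t * h = h⁻¹ * t := by
      have := hinv h hh
      calc t * h = t * h * (t * t) := by rw [htt, mul_one]
        _ = (t * h * t) * t := by group
        _ = h⁻¹ * t := by rw [this]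
    rw [smul_smul]
    have h2 : h * h * t * h = h * t := by rw [mul_assoc, h1]; group
    rw [h2, mul_smul, hω₁]
  -- orbits
  obtain ⟨O, hO⟩ : ∃ O : Ω → Finset Ω, ∀ ω, O ω = Finset.univ.image (fun h : P => (h : G) • ω) := ⟨_, fun _ => rfl⟩
  have hinj : ∀ ω : Ω, Function.Injective (fun h : P => (h : G) • ω) := by
    intro ω a b hab
    by_contra hne
    apply hfree ((b : G)⁻¹ * a) (P.mul_mem (P.inv_mem b.2) a.2) (fun h => hne (Subtype.ext (inv_mul_eq_one.1 h).symm)) ω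
    rw [mul_smul]
    show (b : G)⁻¹ • ((a : G) • ω) = ω
    have : (a : G) • ω = (b : G) • ω := hab
    rw [this, inv_smul_smul]
  have memO : ∀ ω y, y ∈ O ω ↔ ∃ h ∈ P, h • ω = y := by
    intro ω y
    rw [hO, Finset.mem_image]
    constructor
    · rintro ⟨h, -, rfl⟩; exact ⟨h, h.2, rfl⟩
    · rintro ⟨h, hh, rfl⟩; exact ⟨⟨h, hh⟩, Finset.mem_univ _, rfl⟩
  have hOc : ∀ ω, (O ω).card = p := by
    intro ω
    rw [hO, Finset.card_image_of_injective _ (hinj ω), Finset.card_univ, ← Nat.card_eq_fintype_card, hPc]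
  have hOeq : ∀ ω ω', ω' ∈ O ω → O ω' = O ω := by
    intro ω ω' h
    obtain ⟨a, ha, rfl⟩ := (memO _ _).1 h
    ext y
    rw [memO, memO]
    constructor
    · rintro ⟨b, hb, rfl⟩; exact ⟨b * a, P.mul_mem hb ha, mul_smul _ _ _⟩
    · rintro ⟨b, hb, rfl⟩
      exact ⟨b * a⁻¹, P.mul_mem hb (P.inv_mem ha), by rw [mul_smul, inv_smul_smul]⟩
  have hself : ∀ ω, ω ∈ O ω := fun ω => (memO _ _).2 ⟨1, P.one_mem, one_smul _ _⟩
  have hdisj : ∀ ω ω', ω' ∉ O ω → Disjoint (O ω) (O ω') := by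
    intro ω ω' h
    rw [Finset.disjoint_left]
    intro y hy hy'
    apply h
    rw [← hOeq _ _ hy, hOeq _ _ hy']
    exact hself _
  have hsum : ∀ (ω : Ω) (F : Ω → ℤ), ∑ h : P, F ((h : G) • ω) = ∑ y ∈ O ω, F y := by
    intro ω F
    rw [hO, Finset.sum_image fun a _ b _ hab => hinj ω hab]
  -- the indicator
  obtain ⟨c, hc⟩ : ∃ c : Ω → Ω → ℤ, ∀ x y, c x y = if Γ x y then 1 else 0 := ⟨_, fun _ _ => rfl⟩
  have hcs : ∀ x y, c x y = c y x := by
    intro x y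
    rw [hc, hc]
    by_cases h : Γ x y
    · rw [if_pos h, if_pos (hΓs _ _ h)]
    · rw [if_neg h, if_neg fun h' => h (hΓs _ _ h')]
  have hck : ∀ ω, ∑ y, c ω y = k := by
    intro ω
    rw [← hk ω, Nat.card_eq_fintype_card, Fintype.card_subtype, Finset.card_filter]
    push_cast
    exact Finset.sum_congr rfl fun y _ => hc _ _
  have hθ : ∀ g : G, (Nat.card {ω : Ω // Γ ω (g • ω)} : ℤ) = ∑ ω, c ω (g • ω) := by
    intro g
    rw [Nat.card_eq_fintype_card, Fintype.card_subtype, Finset.card_filter]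
    push_cast
    exact Finset.sum_congr rfl fun y _ => (hc _ _).symm
  have hL : ∑ᶠ g ∈ (P : Set G), ((Nat.card {ω : Ω // Γ ω (g • ω)} : ℤ) +
      (Nat.card {ω : Ω // Γ ω ((g * t) • ω)} : ℤ)) = ∑ ω, (∑ y ∈ O ω, c ω y + ∑ y ∈ O (t • ω), c ω y) := by
    rw [finsum_mem_eq_finite_toFinset_sum _ (Set.toFinite _)]
    have e1 : ∀ F : G → ℤ, ∑ g ∈ (Set.toFinite (P : Set G)).toFinset, F g = ∑ h : P, F h := by
      intro F
      symm
      apply Finset.sum_bij (fun (h : P) _ => (h : G))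
      · intro a _; rw [Set.Finite.mem_toFinset]; exact a.2
      · intro a _ b _ h; exact Subtype.ext h
      · intro b hb; rw [Set.Finite.mem_toFinset] at hb; exact ⟨⟨b, hb⟩, Finset.mem_univ _, rfl⟩
      · intro a _; rfl
    rw [e1]
    have e2 : ∀ h : P, (Nat.card {ω : Ω // Γ ω ((h : G) • ω)} : ℤ) + (Nat.card {ω : Ω // Γ ω (((h : G) * t) • ω)} : ℤ) =
        ∑ ω, (c ω ((h : G) • ω) + c ω ((h : G) • t • ω)) := by
      intro h
      rw [hθ, hθ, ← Finset.sum_add_distrib]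
      exact Finset.sum_congr rfl fun ω _ => by rw [mul_smul]
    rw [Finset.sum_congr rfl fun h _ => e2 h, Finset.sum_comm]
    refine Finset.sum_congr rfl fun ω _ => ?_
    rw [Finset.sum_add_distrib, hsum ω (c ω), hsum (t • ω) (c ω)]
  rw [hL]
  -- points in the first orbit
  have hin : ∀ ω ∈ O ω₁, ∑ y ∈ O ω, c ω y + ∑ y ∈ O (t • ω), c ω y = 2 * ∑ y ∈ O ω₁, c ω y := by
    intro ω hω
    have h1 : t • ω ∈ O ω₁ := by
      obtain ⟨h, hh, rfl⟩ := (memO _ _).1 hω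
      refine (memO _ _).2 ⟨h⁻¹, P.inv_mem hh, ?_⟩
      rw [← hinv h hh, mul_smul, mul_smul, hω₁]
    rw [hOeq _ _ hω, hOeq _ _ h1, two_mul]
  have hout : ∀ ω, ω ∉ O ω₁ → ∑ y ∈ O ω, c ω y + ∑ y ∈ O (t • ω), c ω y = k - ∑ y ∈ O ω₁, c ω y := by
    intro ω hω
    have h1 : t • ω ∉ O ω₁ := by
      intro h
      apply hω
      obtain ⟨a, ha, hh⟩ := (memO _ _).1 h
      refine (memO _ _).2 ⟨a⁻¹, P.inv_mem ha, ?_⟩
      rw [← hinv a ha, mul_smul, mul_smul, hω₁, hh, smul_smul, htt, one_smul]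
    have h2 : t • ω ∉ O ω := by
      intro h
      apply hω
      obtain ⟨a, ha, hh⟩ := (memO _ _).1 h
      obtain ⟨b, hb, hb'⟩ := hfixO a⁻¹ (P.inv_mem ha) ω (by rw [mul_smul, ← hh, inv_smul_smul])
      exact (memO _ _).2 ⟨b, hb, hb'.symm⟩
    have d1 := hdisj _ _ hω
    have d2 := hdisj _ _ h1
    have d3 := hdisj _ _ h2
    have hU : (O ω₁ ∪ O ω) ∪ O (t • ω) = Finset.univ := by
      rw [← Finset.card_eq_iff_eq_univ, Finset.card_union_of_disjoint, Finset.card_union_of_disjoint d1,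
        hOc, hOc, hOc, ← Nat.card_eq_fintype_card, hΩ]
      · ring
      · rw [Finset.disjoint_union_left]; exact ⟨d2, d3⟩
    rw [← hck ω, ← hU, Finset.sum_union (by rw [Finset.disjoint_union_left]; exact ⟨d2, d3⟩),
      Finset.sum_union d1]
    ring
  obtain ⟨E, hE⟩ : ∃ E, E = ∑ ω ∈ O ω₁, ∑ y ∈ O ω₁, c ω y := ⟨_, rfl⟩
  refine ⟨E, ?_⟩
  rw [← Finset.sum_add_sum_compl (O ω₁), Finset.sum_congr rfl hin, ← Finset.mul_sum, ← hE,
    Finset.sum_congr rfl fun ω hω => hout ω (Finset.mem_compl.1 hω), Finset.sum_sub_distrib, Finset.sum_const,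
    Finset.card_compl, hOc, ← Nat.card_eq_fintype_card, hΩ]
  have e3 : ∑ ω ∈ (O ω₁)ᶜ, ∑ y ∈ O ω₁, c ω y = p * k - E := by
    rw [Finset.sum_comm]
    have : ∀ y ∈ O ω₁, ∑ ω ∈ (O ω₁)ᶜ, c ω y = k - ∑ ω ∈ O ω₁, c y ω := by
      intro y _
      rw [← hck y, ← Finset.sum_add_sum_compl (O ω₁), add_sub_cancel_left]
      exact Finset.sum_congr rfl fun ω _ => hcs _ _
    rw [Finset.sum_congr rfl this, Finset.sum_sub_distrib, Finset.sum_const, hOc, ← hE, nsmul_eq_mul]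
  rw [e3]
  have : 3 * p - p = 2 * p := by omega
  rw [this, nsmul_eq_mul]
  push_cast
  ring

theorem finsum_P (P : Subgroup G) [Fintype P] (F : G → ℤ) : ∑ᶠ g ∈ (P : Set G), F g = ∑ h : P, F h := by
  classical
  rw [finsum_mem_eq_finite_toFinset_sum _ (Set.toFinite _)]
  symm
  apply Finset.sum_bij (fun (h : P) _ => (h : G))
  · intro a _; rw [Set.Finite.mem_toFinset]; exact a.2
  · intro a _ b _ h; exact Subtype.ext h
  · intro b hb; rw [Set.Finite.mem_toFinset] at hb; exact ⟨⟨b, hb⟩, Finset.mem_univ _, rfl⟩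
  · intro a _; rfl

theorem BFIXw (hB : Base G Ω p) {χ ψ : IrrCharacter G} (hχ : CharD G p 2 χ)
    (hψ : (charDegree (ψ : G → ℂ) : ℤ) = p)
    (hpi : pi (G := G) Ω = 1 + (χ : G → ℂ) + (ψ : G → ℂ)) (t : G) (ht : orderOf t = 2)
    (hu : (χ : G → ℂ) t = 1) (hw : (ψ : G → ℂ) t = -1)
    (RK : ∃ (Γ : Ω → Ω → Prop) (k : ℕ) (r s : ℤ), (∀ (g : G) x y, Γ (g • x) (g • y) ↔ Γ x y) ∧
      (∀ x y, Γ x y → Γ y x) ∧ (∀ x, Nat.card {y // Γ x y} = k) ∧ (k : ℤ) - r = p ∧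
      ∀ g : G, (Nat.card {x : Ω // Γ x (g • x)} : ℂ) = k + r * (χ : G → ℂ) g + s * (ψ : G → ℂ) g) : False := by
  classical
  obtain ⟨Γ, k, r, s, hΓG, hΓs, hk, hkr, hθ⟩ := RK
  have hp := hB.hp
  have h5 := hB.h5
  have hn1 : t ≠ 1 := by rintro rfl; rw [orderOf_one] at ht; omega
  have hnp : ¬ p ∣ orderOf t := by
    rw [ht]; intro h; have := Nat.le_of_dvd (by norm_num) h; omega
  obtain ⟨t', g', htc, hgc, hord⟩ := hB.prod t t ht hn1 hnp
  have hχ1 : (χ : G → ℂ) 1 = 2 * p - 1 := by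
    rw [← BlockDeg.charDegree_cast_irr]
    have := hχ.deg
    have h2 : ((charDegree (χ : G → ℂ) : ℤ) : ℂ) = ((2 * (p : ℤ) - 1 : ℤ) : ℂ) := by rw [this]; push_cast; ring
    push_cast at h2
    exact h2
  have hψ1 : (ψ : G → ℂ) 1 = p := by
    rw [← BlockDeg.charDegree_cast_irr]
    have h2 : ((charDegree (ψ : G → ℂ) : ℤ) : ℂ) = ((p : ℤ) : ℂ) := by rw [hψ]
    push_cast at h2
    exact h2
  have hχc : ∀ a b : G, IsConj a b → (χ : G → ℂ) a = (χ : G → ℂ) b := fun a b h => χ.2.isClassFunction.conj_eq h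
  have hψc : ∀ a b : G, IsConj a b → (ψ : G → ℂ) a = (ψ : G → ℂ) b := fun a b h => ψ.2.isClassFunction.conj_eq h
  have hpig : ∀ g : G, (fx Ω g : ℂ) = 1 + (χ : G → ℂ) g + (ψ : G → ℂ) g := fun g => congrFun hpi g
  have hinvo : ∀ z : G, orderOf z = 2 → (χ : G → ℂ) z = 1 ∧ (ψ : G → ℂ) z = -1 ∧ fx Ω z = 1 := by
    intro z hz
    have h1 := hB.conj t z ht hz
    have h2 : (χ : G → ℂ) z = 1 := by rw [← hχc t z h1, hu]
    have h3 : (ψ : G → ℂ) z = -1 := by rw [← hψc t z h1, hw]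
    refine ⟨h2, h3, ?_⟩
    have h4 := hpig z
    rw [h2, h3] at h4
    have h5 : (fx Ω z : ℂ) = ((1 : ℕ) : ℂ) := by rw [h4]; push_cast; ring
    exact Nat.cast_injective h5
  have hoc : ∀ a b : G, IsConj a b → orderOf a = orderOf b := by
    intro a b h
    obtain ⟨c, hc⟩ := isConj_iff.1 h
    rw [← hc]
    exact ((MulAut.conj c).orderOf_eq a).symm
  have ht' : orderOf t' = 2 := by rw [← hoc _ _ htc, ht]
  have hg' : orderOf g' = 2 := by rw [← hoc _ _ hgc, ht]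
  have htt : t' * t' = 1 := by rw [← sq, ← ht', pow_orderOf_eq_one]
  have hgg : g' * g' = 1 := by rw [← sq, ← hg', pow_orderOf_eq_one]
  obtain ⟨x, hx⟩ : ∃ x, x = t' * g' := ⟨_, rfl⟩
  rw [← hx] at hord
  have hxt : t' * x * t' = x⁻¹ := by
    rw [hx, mul_inv_rev, inv_eq_of_mul_eq_one_left htt, inv_eq_of_mul_eq_one_left hgg, ← mul_assoc t' t', htt, one_mul]
  have hPord : ∀ g ∈ Subgroup.zpowers x, g ≠ 1 → orderOf g = p := by
    intro g hg hg1
    have h1 : orderOf g ∣ p := by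
      have := orderOf_dvd_natCard (⟨g, hg⟩ : Subgroup.zpowers x)
      rw [Nat.card_zpowers, hord, Subgroup.orderOf_mk] at this
      exact this
    rcases (Nat.dvd_prime hp).1 h1 with h2 | h2
    · exact absurd (orderOf_eq_one_iff.1 h2) hg1
    · exact h2
  have hfree : ∀ g ∈ Subgroup.zpowers x, g ≠ 1 → ∀ ω : Ω, g • ω ≠ ω := by
    intro g hg hg1 ω hω
    have h1 := hB.sing g (by rw [hPord g hg hg1])
    have h2 : IsEmpty (MulAction.fixedBy Ω g) := by
      rcases isEmpty_or_nonempty (MulAction.fixedBy Ω g) with h | h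
      · exact h
      · exact absurd h1 (Nat.card_pos (α := MulAction.fixedBy Ω g)).ne'
    exact h2.false ⟨ω, hω⟩
  have hinvt : ∀ g ∈ Subgroup.zpowers x, orderOf (g * t') = 2 := by
    intro g hg
    have h0 : t' * g * t' = g⁻¹ := by
      obtain ⟨n, rfl⟩ := hg
      have ht1 : t'⁻¹ = t' := inv_eq_of_mul_eq_one_left htt
      have h1 : t' * x ^ n * t'⁻¹ = (t' * x * t'⁻¹) ^ n := (conj_zpow).symm
      show t' * x ^ n * t' = (x ^ n)⁻¹
      rw [ht1] at h1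
      rw [h1, hxt, inv_zpow]
    apply orderOf_eq_prime
    · rw [sq]
      calc g * t' * (g * t') = g * (t' * g * t') := by group
        _ = 1 := by rw [h0, mul_inv_cancel]
    · intro h
      have h1 : t' = g⁻¹ := (inv_eq_of_mul_eq_one_right h).symm
      have h2 : t' ∈ Subgroup.zpowers x := by rw [h1]; exact inv_mem hg
      have h3 := hPord t' h2 (by rintro h'; rw [h', orderOf_one] at ht'; omega)
      omega
  have hone : ∀ z : G, orderOf z = 2 → ∀ ω ω' : Ω, z • ω = ω → z • ω' = ω' → ω = ω' := by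
    intro z hz ω ω' h h'
    have h1 : Nat.card (MulAction.fixedBy Ω z) = 1 := (hinvo z hz).2.2
    have h2 := (Nat.card_eq_one_iff_unique.1 h1).1
    have := h2.elim (⟨ω, h⟩ : MulAction.fixedBy Ω z) ⟨ω', h'⟩
    exact congrArg Subtype.val this
  obtain ⟨ω₁, hω₁⟩ : ∃ ω : Ω, t' • ω = ω := by
    have h1 : Nat.card (MulAction.fixedBy Ω t') = 1 := (hinvo t' ht').2.2
    obtain ⟨⟨ω, hω⟩⟩ := (Nat.card_eq_one_iff_unique.1 h1).2
    exact ⟨ω, hω⟩
  obtain ⟨E, hE⟩ := count hp h5 hB.card x t' hord htt hxt hfree ω₁ hω₁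
    (fun g hg ω ω' h h' => hone _ (hinvt g hg) ω ω' h h') Γ hΓG hΓs k hk
  rw [finsum_P] at hE
  have hval : ∀ h : Subgroup.zpowers x, ((Nat.card {ω : Ω // Γ ω ((h : G) • ω)} : ℤ) +
      (Nat.card {ω : Ω // Γ ω (((h : G) * t') • ω)} : ℤ)) =
      (2 * k - s) + (if h = 1 then (2 * p * r + s * p : ℤ) else 0) := by
    intro h
    have h2 : (Nat.card {ω : Ω // Γ ω (((h : G) * t') • ω)} : ℤ) = k + r - s := by
      have e1 := hθ ((h : G) * t')
      obtain ⟨a1, a2, -⟩ := hinvo _ (hinvt h h.2)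
      rw [a1, a2] at e1
      have e2 : (((Nat.card {ω : Ω // Γ ω (((h : G) * t') • ω)} : ℤ)) : ℂ) = ((k + r - s : ℤ) : ℂ) := by
        push_cast; rw [e1]; ring
      exact Int.cast_injective e2
    rw [h2]
    by_cases h1 : h = 1
    · rw [if_pos h1]
      have e0 : (h : G) = 1 := by rw [h1]; rfl
      rw [e0]
      have e1 := hθ (1 : G)
      rw [hχ1, hψ1] at e1
      have e2 : (((Nat.card {ω : Ω // Γ ω ((1 : G) • ω)} : ℤ)) : ℂ) =
          ((k + r * (2 * p - 1) + s * p : ℤ) : ℂ) := by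
        push_cast; rw [e1]
      have e3 := Int.cast_injective e2
      rw [e3]; ring
    · rw [if_neg h1]
      have h3 := hPord h h.2 (fun hh => h1 (Subtype.ext hh))
      have a1 := hχ.sing h (by rw [h3])
      have a2 : (ψ : G → ℂ) h = 0 := by
        have a3 := hpig h
        rw [hB.sing h (by rw [h3]), a1] at a3
        push_cast at a3
        linear_combination -a3
      have e1 := hθ (h : G)
      rw [a1, a2] at e1
      have e2 : (((Nat.card {ω : Ω // Γ ω ((h : G) • ω)} : ℤ)) : ℂ) = ((k - r : ℤ) : ℂ) := by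
        push_cast; rw [e1]; ring
      rw [Int.cast_injective e2]; ring
  rw [Finset.sum_congr rfl fun h _ => hval h, Finset.sum_add_distrib, Finset.sum_const, Finset.sum_ite_eq' Finset.univ,
    if_pos (Finset.mem_univ _), Finset.card_univ, ← Nat.card_eq_fintype_card, Nat.card_zpowers, hord, nsmul_eq_mul] at hE
  have hk' : (k : ℤ) = p + r := by linarith
  rw [hk'] at hE
  have h3 : (3 : ℤ) ∣ (p : ℤ) * p := ⟨E - p * r, by linear_combination hE⟩
  have h4 : 3 ∣ p * p := by exact_mod_cast h3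
  have h6 : 3 ∣ p := by
    rcases (Nat.prime_three.dvd_mul).1 h4 with h | h <;> exact h
  have := (Nat.prime_dvd_prime_iff_eq Nat.prime_three hp).1 h6
  omega

end Cfsg.Agent.Lib.H52_BFIXw
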