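import Mathlib
import Cfsg.Agent.Lib.H52T0
import Cfsg.Agent.Lib.H52_BFIXw
import Cfsg.Agent.Lib.H52_BFIXa
import Cfsg.Agent.Lib.H52_EIG9

set_option autoImplicit false
set_option linter.all false

/-! Piece BFIX: values on involutions. -/

namespace Cfsg.Agent.Lib.H52_BFIX

open Cfsg Cfsg.Agent.Lib.BRPerm Cfsg.Agent.Lib.BRCore Cfsg.Agent.Lib.BRInd Cfsg.Agent.Lib.CharBasic
  Cfsg.Agent.Lib.BlockThird Cfsg.Agent.Lib.H52T0
open Cfsg.Agent.Lib.H52_BFIXw (finsum_P)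

universe u v

variable {G : Type u} [Group G] [Fintype G] {Ω : Type v} [Fintype Ω] [MulAction G Ω] {p : ℕ}

/-- the combinatorial count -/
theorem count9 (hp : p.Prime) (h5 : 5 ≤ p) (hΩ : Nat.card Ω = 3 * p)
    (x t : G) (hx : orderOf x = p) (htt : t * t = 1) (hxt : t * x * t = x⁻¹)
    (hfree : ∀ g ∈ Subgroup.zpowers x, g ≠ 1 → ∀ ω : Ω, g • ω ≠ ω)
    (ω₁ : Ω) (hω₁ : t • ω₁ = ω₁)
    (huniq : ∀ g ∈ Subgroup.zpowers x, ∀ ω ω' : Ω, (g * t) • ω = ω → (g * t) • ω' = ω' → ω = ω')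
    (Γ : Ω → Ω → Prop) (hΓG : ∀ (g : G) x y, Γ (g • x) (g • y) ↔ Γ x y) (hΓs : ∀ x y, Γ x y → Γ y x)
    (k : ℕ) (hk : ∀ x, Nat.card {y // Γ x y} = k) :
    ∃ q : ℕ, q ≤ k ∧ ∑ᶠ g ∈ (Subgroup.zpowers x : Set G), ((Nat.card {ω : Ω // Γ ω (g • ω)} : ℤ) +
      (Nat.card {ω : Ω // Γ ω ((g * t) • ω)} : ℤ)) = 3 * (p * q) + p * k := by
  classical
  obtain ⟨P, hP⟩ : ∃ P, P = Subgroup.zpowers x := ⟨_, rfl⟩
  rw [← hP] at hfree huniq ⊢
  have hPc : Nat.card P = p := by rw [hP, Nat.card_zpowers, hx]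
  have hinv : ∀ g ∈ P, t * g * t = g⁻¹ := by
    intro g hg
    rw [hP] at hg
    obtain ⟨n, rfl⟩ := hg
    have ht1 : t⁻¹ = t := inv_eq_of_mul_eq_one_left htt
    have h1 : t * x ^ n * t⁻¹ = (t * x * t⁻¹) ^ n := (conj_zpow).symm
    show t * x ^ n * t = (x ^ n)⁻¹
    rw [ht1] at h1
    rw [h1, hxt, inv_zpow]
  have hsq : ∀ g ∈ P, ∃ h ∈ P, h * h = g := by
    intro g hg
    have hgp : g ^ p = 1 := by
      have := pow_card_eq_one' (x := (⟨g, hg⟩ : P))
      rw [hPc] at this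
      exact congrArg Subtype.val this
    have hodd : Odd p := hp.odd_of_ne_two (by omega)
    obtain ⟨m, hm⟩ := hodd
    refine ⟨g ^ (m + 1), P.pow_mem hg _, ?_⟩
    rw [← pow_add]
    have : m + 1 + (m + 1) = p + 1 := by omega
    rw [this, pow_succ, hgp, one_mul]
  have hfixO : ∀ g ∈ P, ∀ ω : Ω, (g * t) • ω = ω → ∃ h ∈ P, ω = h • ω₁ := by
    intro g hg ω hω
    obtain ⟨h, hh, rfl⟩ := hsq g hg
    refine ⟨h, hh, ?_⟩
    apply huniq (h * h) hg _ _ hω
    have h1 : t * h = h⁻¹ * t := by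
      have := hinv h hh
      calc t * h = t * h * (t * t) := by rw [htt, mul_one]
        _ = (t * h * t) * t := by group
        _ = h⁻¹ * t := by rw [this]
    rw [smul_smul]
    have h2 : h * h * t * h = h * t := by rw [mul_assoc, h1]; group
    rw [h2, mul_smul, hω₁]
  -- orbits
  obtain ⟨O, hO⟩ : ∃ O : Ω → Finset Ω, ∀ ω, O ω = Finset.univ.image (fun h : P => (h : G) • ω) := ⟨_, fun _ => rfl⟩
  have hinj : ∀ ω : Ω, Function.Injective (fun h : P => (h : G) • ω) := by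
    intro ω a b hab
    by_contra hne
    apply hfree ((b : G)⁻¹ * a) (P.mul_mem (P.inv_mem b.2) a.2) (fun h => hne (Subtype.ext (inv_mul_eq_one.1 h).symm)) ω
    rw [mul_smul]
    show (b : G)⁻¹ • ((a : G) • ω) = ω
    have : (a : G) • ω = (b : G) • ω := hab
    rw [this, inv_smul_smul]
  have memO : ∀ ω y, y ∈ O ω ↔ ∃ h ∈ P, h • ω = y := by
    intro ω y
    rw [hO, Finset.mem_image]
    constructor
    · rintro ⟨h, -, rfl⟩; exact ⟨h, h.2, rfl⟩
    · rintro ⟨h, hh, rfl⟩; exact ⟨⟨h, hh⟩, Finset.mem_univ _, rfl⟩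
  have hOc : ∀ ω, (O ω).card = p := by
    intro ω
    rw [hO, Finset.card_image_of_injective _ (hinj ω), Finset.card_univ, ← Nat.card_eq_fintype_card, hPc]
  have hOeq : ∀ ω ω', ω' ∈ O ω → O ω' = O ω := by
    intro ω ω' h
    obtain ⟨a, ha, rfl⟩ := (memO _ _).1 h
    ext y
    rw [memO, memO]
    constructor
    · rintro ⟨b, hb, rfl⟩; exact ⟨b * a, P.mul_mem hb ha, mul_smul _ _ _⟩
    · rintro ⟨b, hb, rfl⟩
      exact ⟨b * a⁻¹, P.mul_mem hb (P.inv_mem ha), by rw [mul_smul, inv_smul_smul]⟩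
  have hself : ∀ ω, ω ∈ O ω := fun ω => (memO _ _).2 ⟨1, P.one_mem, one_smul _ _⟩
  have hdisj : ∀ ω ω', ω' ∉ O ω → Disjoint (O ω) (O ω') := by
    intro ω ω' h
    rw [Finset.disjoint_left]
    intro y hy hy'
    apply h
    rw [← hOeq _ _ hy, hOeq _ _ hy']
    exact hself _
  have hsum : ∀ (ω : Ω) (F : Ω → ℤ), ∑ h : P, F ((h : G) • ω) = ∑ y ∈ O ω, F y := by
    intro ω F
    rw [hO, Finset.sum_image fun a _ b _ hab => hinj ω hab]
  -- the indicator
  obtain ⟨c, hc⟩ : ∃ c : Ω → Ω → ℤ, ∀ x y, c x y = if Γ x y then 1 else 0 := ⟨_, fun _ _ => rfl⟩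
  have hcs : ∀ x y, c x y = c y x := by
    intro x y
    rw [hc, hc]
    by_cases h : Γ x y
    · rw [if_pos h, if_pos (hΓs _ _ h)]
    · rw [if_neg h, if_neg fun h' => h (hΓs _ _ h')]
  have hck : ∀ ω, ∑ y, c ω y = k := by
    intro ω
    rw [← hk ω, Nat.card_eq_fintype_card, Fintype.card_subtype, Finset.card_filter]
    push_cast
    exact Finset.sum_congr rfl fun y _ => hc _ _
  have hθ : ∀ g : G, (Nat.card {ω : Ω // Γ ω (g • ω)} : ℤ) = ∑ ω, c ω (g • ω) := by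
    intro g
    rw [Nat.card_eq_fintype_card, Fintype.card_subtype, Finset.card_filter]
    push_cast
    exact Finset.sum_congr rfl fun y _ => (hc _ _).symm
  have hL : ∑ᶠ g ∈ (P : Set G), ((Nat.card {ω : Ω // Γ ω (g • ω)} : ℤ) +
      (Nat.card {ω : Ω // Γ ω ((g * t) • ω)} : ℤ)) = ∑ ω, (∑ y ∈ O ω, c ω y + ∑ y ∈ O (t • ω), c ω y) := by
    rw [finsum_mem_eq_finite_toFinset_sum _ (Set.toFinite _)]
    have e1 : ∀ F : G → ℤ, ∑ g ∈ (Set.toFinite (P : Set G)).toFinset, F g = ∑ h : P, F h := by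
      intro F
      symm
      apply Finset.sum_bij (fun (h : P) _ => (h : G))
      · intro a _; rw [Set.Finite.mem_toFinset]; exact a.2
      · intro a _ b _ h; exact Subtype.ext h
      · intro b hb; rw [Set.Finite.mem_toFinset] at hb; exact ⟨⟨b, hb⟩, Finset.mem_univ _, rfl⟩
      · intro a _; rfl
    rw [e1]
    have e2 : ∀ h : P, (Nat.card {ω : Ω // Γ ω ((h : G) • ω)} : ℤ) + (Nat.card {ω : Ω // Γ ω (((h : G) * t) • ω)} : ℤ) =
        ∑ ω, (c ω ((h : G) • ω) + c ω ((h : G) • t • ω)) := by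
      intro h
      rw [hθ, hθ, ← Finset.sum_add_distrib]
      exact Finset.sum_congr rfl fun ω _ => by rw [mul_smul]
    rw [Finset.sum_congr rfl fun h _ => e2 h, Finset.sum_comm]
    refine Finset.sum_congr rfl fun ω _ => ?_
    rw [Finset.sum_add_distrib, hsum ω (c ω), hsum (t • ω) (c ω)]
  rw [hL]
  -- points in the first orbit
  have hin : ∀ ω ∈ O ω₁, ∑ y ∈ O ω, c ω y + ∑ y ∈ O (t • ω), c ω y = 2 * ∑ y ∈ O ω₁, c ω y := by
    intro ω hω
    have h1 : t • ω ∈ O ω₁ := by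
      obtain ⟨h, hh, rfl⟩ := (memO _ _).1 hω
      refine (memO _ _).2 ⟨h⁻¹, P.inv_mem hh, ?_⟩
      rw [← hinv h hh, mul_smul, mul_smul, hω₁]
    rw [hOeq _ _ hω, hOeq _ _ h1, two_mul]
  have hout : ∀ ω, ω ∉ O ω₁ → ∑ y ∈ O ω, c ω y + ∑ y ∈ O (t • ω), c ω y = k - ∑ y ∈ O ω₁, c ω y := by
    intro ω hω
    have h1 : t • ω ∉ O ω₁ := by
      intro h
      apply hω
      obtain ⟨a, ha, hh⟩ := (memO _ _).1 h
      refine (memO _ _).2 ⟨a⁻¹, P.inv_mem ha, ?_⟩
      rw [← hinv a ha, mul_smul, mul_smul, hω₁, hh, smul_smul, htt, one_smul]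
    have h2 : t • ω ∉ O ω := by
      intro h
      apply hω
      obtain ⟨a, ha, hh⟩ := (memO _ _).1 h
      obtain ⟨b, hb, hb'⟩ := hfixO a⁻¹ (P.inv_mem ha) ω (by rw [mul_smul, ← hh, inv_smul_smul])
      exact (memO _ _).2 ⟨b, hb, hb'.symm⟩
    have d1 := hdisj _ _ hω
    have d2 := hdisj _ _ h1
    have d3 := hdisj _ _ h2
    have hU : (O ω₁ ∪ O ω) ∪ O (t • ω) = Finset.univ := by
      rw [← Finset.card_eq_iff_eq_univ, Finset.card_union_of_disjoint, Finset.card_union_of_disjoint d1,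
        hOc, hOc, hOc, ← Nat.card_eq_fintype_card, hΩ]
      · ring
      · rw [Finset.disjoint_union_left]; exact ⟨d2, d3⟩
    rw [← hck ω, ← hU, Finset.sum_union (by rw [Finset.disjoint_union_left]; exact ⟨d2, d3⟩),
      Finset.sum_union d1]
    ring
  obtain ⟨E, hE⟩ : ∃ E, E = ∑ ω ∈ O ω₁, ∑ y ∈ O ω₁, c ω y := ⟨_, rfl⟩
  obtain ⟨q, hq⟩ : ∃ q : ℕ, q = ((O ω₁).filter (fun y => Γ ω₁ y)).card := ⟨_, rfl⟩
  have hq1 : (q : ℤ) = ∑ y ∈ O ω₁, c ω₁ y := by
    rw [hq, Finset.card_filter]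
    push_cast
    exact Finset.sum_congr rfl fun y _ => (hc _ _).symm
  have hqk : q ≤ k := by
    have h1 : (q : ℤ) ≤ k := by
      rw [hq1, ← hck ω₁]
      apply Finset.sum_le_sum_of_subset_of_nonneg (Finset.subset_univ _)
      intro y _ _
      rw [hc]; split_ifs <;> norm_num
    exact_mod_cast h1
  have hEq : E = p * q := by
    rw [hE]
    have h1 : ∀ ω ∈ O ω₁, ∑ y ∈ O ω₁, c ω y = q := by
      intro ω hω
      obtain ⟨h, hh, rfl⟩ := (memO _ _).1 hω
      rw [hq1]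
      symm
      apply Finset.sum_bij (fun y _ => h • y)
      · intro y hy
        obtain ⟨a, ha, rfl⟩ := (memO _ _).1 hy
        exact (memO _ _).2 ⟨h * a, P.mul_mem hh ha, mul_smul _ _ _⟩
      · intro y _ z _ hyz; exact smul_left_cancel _ hyz
      · intro z hz
        obtain ⟨a, ha, rfl⟩ := (memO _ _).1 hz
        exact ⟨(h⁻¹ * a) • ω₁, (memO _ _).2 ⟨h⁻¹ * a, P.mul_mem (P.inv_mem hh) ha, rfl⟩, by
          rw [mul_smul, smul_inv_smul]⟩
      · intro y _
        rw [hc, hc]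
        by_cases hy : Γ ω₁ y
        · rw [if_pos hy, if_pos ((hΓG h _ _).2 hy)]
        · rw [if_neg hy, if_neg fun h' => hy ((hΓG h _ _).1 h')]
    rw [Finset.sum_congr rfl h1, Finset.sum_const, hOc, nsmul_eq_mul]
  refine ⟨q, hqk, ?_⟩
  rw [← Finset.sum_add_sum_compl (O ω₁), Finset.sum_congr rfl hin, ← Finset.mul_sum, ← hE,
    Finset.sum_congr rfl fun ω hω => hout ω (Finset.mem_compl.1 hω), Finset.sum_sub_distrib, Finset.sum_const,
    Finset.card_compl, hOc, ← Nat.card_eq_fintype_card, hΩ]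
  have e3 : ∑ ω ∈ (O ω₁)ᶜ, ∑ y ∈ O ω₁, c ω y = p * k - E := by
    rw [Finset.sum_comm]
    have : ∀ y ∈ O ω₁, ∑ ω ∈ (O ω₁)ᶜ, c ω y = k - ∑ ω ∈ O ω₁, c y ω := by
      intro y _
      rw [← hck y, ← Finset.sum_add_sum_compl (O ω₁), add_sub_cancel_left]
      exact Finset.sum_congr rfl fun ω _ => hcs _ _
    rw [Finset.sum_congr rfl this, Finset.sum_sub_distrib, Finset.sum_const, hOc, ← hE, nsmul_eq_mul]
  rw [e3]
  have : 3 * p - p = 2 * p := by omega
  rw [this, nsmul_eq_mul, hEq]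
  push_cast
  ring

theorem arith9 {p k q n₂ : ℕ} {r s : ℤ} (hp : p.Prime) (h5 : 5 ≤ p) (hqk : q ≤ k) (hk3 : k ≤ 3 * p) (hk1 : 1 ≤ k)
    (hn : (0 : ℤ) ≤ k - r) (e0 : (k : ℤ) + r * (2 * p - 1) + s * p = 0) (e1 : (k : ℤ) + 2 * r = 3 * q)
    (e2 : (3 * p : ℤ) * k = k ^ 2 + r ^ 2 * (2 * p - 1) + s ^ 2 * p) : k = 3 * p - 1 := by
  have hp0 : (0 : ℤ) < p := by exact_mod_cast hp.pos
  obtain ⟨m', hm'⟩ : ∃ m' : ℤ, m' = -(2 * r + s) := ⟨_, rfl⟩
  have h1 : (k : ℤ) - r = p * m' := by rw [hm']; linear_combination e0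
  have h2 : 2 * (p * m') = 3 * ((k : ℤ) - q) := by rw [← h1]; linear_combination -e1
  have h3 : (p : ℤ) ∣ (k : ℤ) - q := by
    have h4 : (p : ℤ) ∣ 3 * ((k : ℤ) - q) := ⟨2 * m', by rw [← h2]; ring⟩
    rcases (Nat.prime_iff_prime_int.1 hp).dvd_or_dvd h4 with h | h
    · exfalso
      have : p ∣ 3 := by exact_mod_cast h
      have := Nat.le_of_dvd (by norm_num) this
      omega
    · exact h
  obtain ⟨m, hm⟩ := h3
  have h5' : 2 * m' = 3 * m := by
    apply mul_left_cancel₀ hp0.ne'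
    rw [hm] at h2
    linear_combination h2
  obtain ⟨j, hj⟩ : ∃ j, m = 2 * j := ⟨m' - m, by omega⟩
  have hj' : m' = 3 * j := by omega
  have hqk' : (q : ℤ) ≤ k := by exact_mod_cast hqk
  have hk3' : (k : ℤ) ≤ 3 * p := by exact_mod_cast hk3
  have hj0 : 0 ≤ j := by
    by_contra hcon
    have : j ≤ -1 := by omega
    have : (p : ℤ) * (2 * j) < 0 := by nlinarith
    rw [hj] at hm
    omega
  have hj1 : j ≤ 1 := by
    by_contra hcon
    have h6 : 2 ≤ j := by omega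
    have h7 : (p : ℤ) * (2 * j) ≥ p * 4 := by nlinarith
    rw [hj] at hm
    have : (0 : ℤ) ≤ q := by positivity
    omega
  have hk1' : (1 : ℤ) ≤ k := by exact_mod_cast hk1
  rcases (by omega : j = 0 ∨ j = 1) with rfl | rfl
  · exfalso
    have hr : r = k := by rw [hj'] at h1; linarith
    have hs : s = -2 * k := by rw [hr] at hm'; omega
    rw [hr, hs] at e2
    have h8 : (3 * p * k : ℤ) * (2 * k - 1) = 0 := by linear_combination -e2
    have h9 : (3 * p * k : ℤ) ≠ 0 := by positivity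
    rcases mul_eq_zero.1 h8 with h | h
    · exact h9 h
    · omega
  · have hr : r = k - 3 * p := by rw [hj'] at h1; linarith
    have hs : s = 6 * p - 3 - 2 * k := by rw [hr] at hm'; omega
    rw [hr, hs] at e2
    have h8 : (3 * p : ℤ) * ((3 * p - 1 - k) * (2 * (3 * p - 1 - k) - 1)) = 0 := by linear_combination -e2
    have h9 : (3 * p : ℤ) ≠ 0 := by positivity
    rcases mul_eq_zero.1 h8 with h | h
    · exact absurd h h9
    · rcases mul_eq_zero.1 h with h | h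
      · omega
      · omega

theorem not_two {a b : Ω} (hab : b ≠ a) (hk : Nat.card (MulAction.orbit (MulAction.stabilizer G a) b) + 1 = Nat.card Ω)
    (hr : Nat.card (MulAction.orbitRel.Quotient (MulAction.stabilizer G a) Ω) = 3) : False := by
  classical
  have h1 : ∀ x : Ω, x = a ∨ x ∈ MulAction.orbit (MulAction.stabilizer G a) b := by
    intro x
    by_contra hcon
    push Not at hcon
    have ha : a ∉ MulAction.orbit (MulAction.stabilizer G a) b := by
      rintro ⟨g, hg⟩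
      apply hab
      have h1 : (g : G) • b = a := hg
      have h2 : (g : G) • a = a := g.2
      exact smul_left_cancel (g : G) (h1.trans h2.symm)
    have h2 : ({a, x} : Finset Ω) ∪ (MulAction.orbit (MulAction.stabilizer G a) b).toFinset ⊆ Finset.univ :=
      Finset.subset_univ _
    have h3 := Finset.card_le_card h2
    rw [Finset.card_union_of_disjoint, Finset.card_pair (Ne.symm hcon.1), Set.toFinset_card, Finset.card_univ,
      ← Nat.card_eq_fintype_card, ← Nat.card_eq_fintype_card] at h3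
    · omega
    · rw [Finset.disjoint_left]
      intro y hy
      rw [Set.mem_toFinset]
      rw [Finset.mem_insert, Finset.mem_singleton] at hy
      rcases hy with rfl | rfl
      · exact ha
      · exact hcon.2
  have h2 : Function.Surjective (fun i : Bool => (Quotient.mk'' (if i then a else b) :
      MulAction.orbitRel.Quotient (MulAction.stabilizer G a) Ω)) := by
    intro z
    induction z using Quotient.inductionOn' with | h x
    rcases h1 x with h | h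
    · exact ⟨true, by rw [h]; rfl⟩
    · refine ⟨false, ?_⟩
      exact (Quotient.sound' h).symm
  have h3 := Nat.card_le_card_of_surjective _ h2
  rw [hr, Nat.card_eq_fintype_card, Fintype.card_bool] at h3
  omega

theorem BFIXw9 (hB : Base G Ω p) {χ ψ : IrrCharacter G} (hχ : CharD G p 2 χ)
    (hψ : (charDegree (ψ : G → ℂ) : ℤ) = p) (hne : ψ ≠ χ)
    (hpi : pi (G := G) Ω = 1 + (χ : G → ℂ) + (ψ : G → ℂ)) (t : G) (ht : orderOf t = 2)
    (hu : (χ : G → ℂ) t = 1) (hw : (ψ : G → ℂ) t = -1) : False := by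
  classical
  have hp := hB.hp
  have h5 := hB.h5
  have hn1 : t ≠ 1 := by rintro rfl; rw [orderOf_one] at ht; omega
  have hnp : ¬ p ∣ orderOf t := by
    rw [ht]; intro h; have := Nat.le_of_dvd (by norm_num) h; omega
  obtain ⟨t', g', htc, hgc, hord⟩ := hB.prod t t ht hn1 hnp
  have hχ1 : (χ : G → ℂ) 1 = 2 * p - 1 := by
    rw [← BlockDeg.charDegree_cast_irr]
    have := hχ.deg
    have h2 : ((charDegree (χ : G → ℂ) : ℤ) : ℂ) = ((2 * (p : ℤ) - 1 : ℤ) : ℂ) := by rw [this]; push_cast; ring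
    push_cast at h2
    exact h2
  have hψ1 : (ψ : G → ℂ) 1 = p := by
    rw [← BlockDeg.charDegree_cast_irr]
    have h2 : ((charDegree (ψ : G → ℂ) : ℤ) : ℂ) = ((p : ℤ) : ℂ) := by rw [hψ]
    push_cast at h2
    exact h2
  have hχc : ∀ a b : G, IsConj a b → (χ : G → ℂ) a = (χ : G → ℂ) b := fun a b h => χ.2.isClassFunction.conj_eq h
  have hψc : ∀ a b : G, IsConj a b → (ψ : G → ℂ) a = (ψ : G → ℂ) b := fun a b h => ψ.2.isClassFunction.conj_eq h
  have hpig : ∀ g : G, (fx Ω g : ℂ) = 1 + (χ : G → ℂ) g + (ψ : G → ℂ) g := fun g => congrFun hpi g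
  have hinvo : ∀ z : G, orderOf z = 2 → (χ : G → ℂ) z = 1 ∧ (ψ : G → ℂ) z = -1 ∧ fx Ω z = 1 := by
    intro z hz
    have h1 := hB.conj t z ht hz
    have h2 : (χ : G → ℂ) z = 1 := by rw [← hχc t z h1, hu]
    have h3 : (ψ : G → ℂ) z = -1 := by rw [← hψc t z h1, hw]
    refine ⟨h2, h3, ?_⟩
    have h4 := hpig z
    rw [h2, h3] at h4
    have h5 : (fx Ω z : ℂ) = ((1 : ℕ) : ℂ) := by rw [h4]; push_cast; ring
    exact Nat.cast_injective h5
  have hoc : ∀ a b : G, IsConj a b → orderOf a = orderOf b := by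
    intro a b h
    obtain ⟨c, hc⟩ := isConj_iff.1 h
    rw [← hc]
    exact ((MulAut.conj c).orderOf_eq a).symm
  have ht' : orderOf t' = 2 := by rw [← hoc _ _ htc, ht]
  have hg' : orderOf g' = 2 := by rw [← hoc _ _ hgc, ht]
  have htt : t' * t' = 1 := by rw [← sq, ← ht', pow_orderOf_eq_one]
  have hgg : g' * g' = 1 := by rw [← sq, ← hg', pow_orderOf_eq_one]
  obtain ⟨x, hx⟩ : ∃ x, x = t' * g' := ⟨_, rfl⟩
  rw [← hx] at hord
  have hxt : t' * x * t' = x⁻¹ := by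
    rw [hx, mul_inv_rev, inv_eq_of_mul_eq_one_left htt, inv_eq_of_mul_eq_one_left hgg, ← mul_assoc t' t', htt, one_mul]
  have hPord : ∀ g ∈ Subgroup.zpowers x, g ≠ 1 → orderOf g = p := by
    intro g hg hg1
    have h1 : orderOf g ∣ p := by
      have := orderOf_dvd_natCard (⟨g, hg⟩ : Subgroup.zpowers x)
      rw [Nat.card_zpowers, hord, Subgroup.orderOf_mk] at this
      exact this
    rcases (Nat.dvd_prime hp).1 h1 with h2 | h2
    · exact absurd (orderOf_eq_one_iff.1 h2) hg1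
    · exact h2
  have hfree : ∀ g ∈ Subgroup.zpowers x, g ≠ 1 → ∀ ω : Ω, g • ω ≠ ω := by
    intro g hg hg1 ω hω
    have h1 := hB.sing g (by rw [hPord g hg hg1])
    have h2 : IsEmpty (MulAction.fixedBy Ω g) := by
      rcases isEmpty_or_nonempty (MulAction.fixedBy Ω g) with h | h
      · exact h
      · exact absurd h1 (Nat.card_pos (α := MulAction.fixedBy Ω g)).ne'
    exact h2.false ⟨ω, hω⟩
  have hinvt : ∀ g ∈ Subgroup.zpowers x, orderOf (g * t') = 2 := by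
    intro g hg
    have h0 : t' * g * t' = g⁻¹ := by
      obtain ⟨n, rfl⟩ := hg
      have ht1 : t'⁻¹ = t' := inv_eq_of_mul_eq_one_left htt
      have h1 : t' * x ^ n * t'⁻¹ = (t' * x * t'⁻¹) ^ n := (conj_zpow).symm
      show t' * x ^ n * t' = (x ^ n)⁻¹
      rw [ht1] at h1
      rw [h1, hxt, inv_zpow]
    apply orderOf_eq_prime
    · rw [sq]
      calc g * t' * (g * t') = g * (t' * g * t') := by group
        _ = 1 := by rw [h0, mul_inv_cancel]
    · intro h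
      have h1 : t' = g⁻¹ := (inv_eq_of_mul_eq_one_right h).symm
      have h2 : t' ∈ Subgroup.zpowers x := by rw [h1]; exact inv_mem hg
      have h3 := hPord t' h2 (by rintro h'; rw [h', orderOf_one] at ht'; omega)
      omega
  have hone : ∀ z : G, orderOf z = 2 → ∀ ω ω' : Ω, z • ω = ω → z • ω' = ω' → ω = ω' := by
    intro z hz ω ω' h h'
    have h1 : Nat.card (MulAction.fixedBy Ω z) = 1 := (hinvo z hz).2.2
    have h2 := (Nat.card_eq_one_iff_unique.1 h1).1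
    have := h2.elim (⟨ω, h⟩ : MulAction.fixedBy Ω z) ⟨ω', h'⟩
    exact congrArg Subtype.val this
  obtain ⟨ω₁, hω₁⟩ : ∃ ω : Ω, t' • ω = ω := by
    have h1 : Nat.card (MulAction.fixedBy Ω t') = 1 := (hinvo t' ht').2.2
    obtain ⟨⟨ω, hω⟩⟩ := (Nat.card_eq_one_iff_unique.1 h1).2
    exact ⟨ω, hω⟩
  have htr : MulAction.IsPretransitive G Ω := hB.prim.toIsPretransitive
  obtain ⟨a, ha⟩ : ∃ a : Ω, t' • a ≠ a := by
    by_contra hcon
    push Not at hcon
    have h1 : Nat.card (MulAction.fixedBy Ω t') = 1 := (hinvo t' ht').2.2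
    have h2 : Nat.card (MulAction.fixedBy Ω t') = Nat.card Ω :=
      Nat.card_congr (Equiv.subtypeUnivEquiv hcon)
    rw [hB.card] at h2
    omega
  have h01 : (1 : G → ℂ) ≠ (χ : G → ℂ) := by
    intro h
    have h2 := congrFun h 1
    rw [hχ1, Pi.one_apply] at h2
    have h3 : ((1 : ℤ) : ℂ) = ((2 * p - 1 : ℤ) : ℂ) := by push_cast; exact h2
    have h4 := Int.cast_injective h3
    omega
  have h02 : (1 : G → ℂ) ≠ (ψ : G → ℂ) := by
    intro h
    have h2 := congrFun h 1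
    rw [hψ1, Pi.one_apply] at h2
    have h3 : ((1 : ℕ) : ℂ) = (p : ℂ) := by push_cast; exact h2
    have h4 := Nat.cast_injective h3
    omega
  have hπ : (Cfsg.permRep ℂ G Ω).character = 1 + (χ : G → ℂ) + (ψ : G → ℂ) := by
    rw [← hpi]
    ext g
    rw [PermChar.permRep_character]
    rfl
  obtain ⟨hrank, rc, sc, hθ, hsq⟩ := H52_EIG9.eig χ.2 ψ.2 hπ (fun h => hne (Subtype.ext h.symm)) h01 h02 a (t' • a)
  have hself : (a, t' • a) ∈ MulAction.orbit G (t' • a, a) :=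
    ⟨t', Prod.ext (by show t' • t' • a = a; rw [smul_smul, htt, one_smul]) rfl⟩
  have hsq' := hsq hself
  obtain ⟨k, hk⟩ : ∃ k, k = Nat.card (MulAction.orbit (MulAction.stabilizer G a) (t' • a)) := ⟨_, rfl⟩
  rw [← hk] at hsq'
  simp only [← hk] at hθ
  obtain ⟨Γ, hΓ⟩ : ∃ Γ : Ω → Ω → Prop, ∀ x y, Γ x y ↔ (y, x) ∈ MulAction.orbit G (t' • a, a) := ⟨_, fun _ _ => Iff.rfl⟩
  have hΓG : ∀ (g : G) x y, Γ (g • x) (g • y) ↔ Γ x y := by
    intro g x y
    rw [hΓ, hΓ]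
    constructor
    · rintro ⟨h, hh⟩
      have e1 : h • (t' • a) = g • y := congrArg Prod.fst hh
      have e2 : h • a = g • x := congrArg Prod.snd hh
      refine ⟨g⁻¹ * h, Prod.ext ?_ ?_⟩
      · show (g⁻¹ * h) • (t' • a) = y
        rw [mul_smul, e1, inv_smul_smul]
      · show (g⁻¹ * h) • a = x
        rw [mul_smul, e2, inv_smul_smul]
    · rintro ⟨h, hh⟩
      have e1 : h • (t' • a) = y := congrArg Prod.fst hh
      have e2 : h • a = x := congrArg Prod.snd hh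
      refine ⟨g * h, Prod.ext ?_ ?_⟩
      · show (g * h) • (t' • a) = g • y
        rw [mul_smul, e1]
      · show (g * h) • a = g • x
        rw [mul_smul, e2]
  have hΓs : ∀ x y, Γ x y → Γ y x := by
    intro x y h
    rw [hΓ] at h ⊢
    obtain ⟨h, hh⟩ := h
    have e1 : h • (t' • a) = y := congrArg Prod.fst hh
    have e2 : h • a = x := congrArg Prod.snd hh
    refine ⟨h * t', Prod.ext ?_ ?_⟩
    · show (h * t') • (t' • a) = x
      rw [mul_smul, smul_smul t', htt, one_smul, e2]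
    · show (h * t') • a = y
      rw [mul_smul, e1]
  have hkv : ∀ x, Nat.card {y // Γ x y} = k := by
    intro x
    have h1 := PermChar3.orbOp_const (G := G) a (t' • a) (fun _ => (1 : ℂ)) (fun _ => rfl) x
    rw [PermChar2.orbOp_apply, ← hk] at h1
    have h2 : ((Nat.card {y // Γ x y} : ℕ) : ℂ) = k := by
      rw [← h1, Nat.card_eq_fintype_card, Fintype.card_subtype, Finset.card_filter]
      push_cast
      refine Finset.sum_congr rfl fun y _ => ?_
      by_cases h : Γ x y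
      · rw [if_pos h, if_pos ((hΓ _ _).1 h)]
      · rw [if_neg h, if_neg fun h' => h ((hΓ _ _).2 h')]
    exact Nat.cast_injective h2
  have hθΓ : ∀ g : G, (Nat.card {ω : Ω // Γ ω (g • ω)} : ℂ) = k + rc * (χ : G → ℂ) g + sc * (ψ : G → ℂ) g := by
    intro g
    rw [← hθ g]
    congr 1
    apply Nat.card_congr
    exact Equiv.subtypeEquivRight fun ω => hΓ _ _
  obtain ⟨n, hn⟩ : ∃ n, n = Nat.card {ω : Ω // Γ ω (x • ω)} := ⟨_, rfl⟩
  obtain ⟨n₂, hn₂⟩ : ∃ n, n = Nat.card {ω : Ω // Γ ω (t' • ω)} := ⟨_, rfl⟩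
  have hx1 : x ≠ 1 := by rintro h; rw [h, orderOf_one] at hord; omega
  have hPv : ∀ g : G, orderOf g = p → (χ : G → ℂ) g = -1 ∧ (ψ : G → ℂ) g = 0 := by
    intro g hg
    have a1 := hχ.sing g (by rw [hg])
    refine ⟨a1, ?_⟩
    have a3 := hpig g
    rw [hB.sing g (by rw [hg]), a1] at a3
    push_cast at a3
    linear_combination -a3
  obtain ⟨r, hr⟩ : ∃ r : ℤ, r = (k : ℤ) - n := ⟨_, rfl⟩
  have hrc : rc = (r : ℂ) := by
    have h1 := hθΓ x
    rw [(hPv x hord).1, (hPv x hord).2, ← hn] at h1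
    rw [hr]; push_cast
    linear_combination h1
  obtain ⟨s, hs⟩ : ∃ s : ℤ, s = (k : ℤ) + r - n₂ := ⟨_, rfl⟩
  have hsc : sc = (s : ℂ) := by
    have h1 := hθΓ t'
    rw [(hinvo t' ht').1, (hinvo t' ht').2.1, ← hn₂, hrc] at h1
    rw [hs]; push_cast
    linear_combination h1
  rw [hrc, hsc] at hθΓ hsq'
  obtain ⟨q, hqk, hE⟩ := count9 hp h5 hB.card x t' hord htt hxt hfree ω₁ hω₁
    (fun g hg ω ω' h h' => hone _ (hinvt g hg) ω ω' h h') Γ hΓG hΓs k hkv
  rw [finsum_P] at hE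
  have hval : ∀ h : Subgroup.zpowers x, ((Nat.card {ω : Ω // Γ ω ((h : G) • ω)} : ℤ) +
      (Nat.card {ω : Ω // Γ ω (((h : G) * t') • ω)} : ℤ)) =
      (2 * k - s) + (if h = 1 then (2 * p * r + s * p : ℤ) else 0) := by
    intro h
    have h2 : (Nat.card {ω : Ω // Γ ω (((h : G) * t') • ω)} : ℤ) = k + r - s := by
      have e1 := hθΓ ((h : G) * t')
      obtain ⟨a1, a2, -⟩ := hinvo _ (hinvt h h.2)
      rw [a1, a2] at e1
      have e2 : (((Nat.card {ω : Ω // Γ ω (((h : G) * t') • ω)} : ℤ)) : ℂ) = ((k + r - s : ℤ) : ℂ) := by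
        push_cast; rw [e1]; ring
      exact Int.cast_injective e2
    rw [h2]
    by_cases h1 : h = 1
    · rw [if_pos h1]
      have e0 : (h : G) = 1 := by rw [h1]; rfl
      rw [e0]
      have e1 := hθΓ (1 : G)
      rw [hχ1, hψ1] at e1
      have e2 : (((Nat.card {ω : Ω // Γ ω ((1 : G) • ω)} : ℤ)) : ℂ) =
          ((k + r * (2 * p - 1) + s * p : ℤ) : ℂ) := by
        push_cast; rw [e1]
      have e3 := Int.cast_injective e2
      rw [e3]; ring
    · rw [if_neg h1]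
      obtain ⟨a1, a2⟩ := hPv h (hPord h h.2 (fun hh => h1 (Subtype.ext hh)))
      have e1 := hθΓ (h : G)
      rw [a1, a2] at e1
      have e2 : (((Nat.card {ω : Ω // Γ ω ((h : G) • ω)} : ℤ)) : ℂ) = ((k - r : ℤ) : ℂ) := by
        push_cast; rw [e1]; ring
      rw [Int.cast_injective e2]; ring
  rw [Finset.sum_congr rfl fun h _ => hval h, Finset.sum_add_distrib, Finset.sum_const, Finset.sum_ite_eq' Finset.univ,
    if_pos (Finset.mem_univ _), Finset.card_univ, ← Nat.card_eq_fintype_card, Nat.card_zpowers, hord, nsmul_eq_mul] at hE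
  have hp0 : (0 : ℤ) < p := by exact_mod_cast hp.pos
  have e1 : (k : ℤ) + 2 * r = 3 * q := by
    apply mul_left_cancel₀ hp0.ne'
    linear_combination hE
  have e0 : (k : ℤ) + r * (2 * p - 1) + s * p = 0 := by
    have h1 := hθΓ 1
    rw [hχ1, hψ1] at h1
    have h2 : Nat.card {ω : Ω // Γ ω ((1 : G) • ω)} = 0 := by
      have : IsEmpty {ω : Ω // Γ ω ((1 : G) • ω)} := by
        refine ⟨fun ⟨ω, hω⟩ => ?_⟩
        rw [one_smul, hΓ] at hω
        obtain ⟨h, hh⟩ := hω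
        have hh' : (h • (t' • a), h • a) = (ω, ω) := hh
        exact ha (smul_left_cancel h ((congrArg Prod.fst hh').trans (congrArg Prod.snd hh').symm))
      exact Nat.card_of_isEmpty
    rw [h2] at h1
    have h3 : ((0 : ℤ) : ℂ) = ((k + r * (2 * p - 1) + s * p : ℤ) : ℂ) := by
      push_cast; push_cast at h1; exact h1
    exact (Int.cast_injective h3).symm
  have e2 : (3 * p : ℤ) * k = k ^ 2 + r ^ 2 * (2 * p - 1) + s ^ 2 * p := by
    rw [hχ1, hψ1, ← Nat.card_eq_fintype_card, hB.card] at hsq'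
    have h3 : ((3 * p * k : ℤ) : ℂ) = ((k ^ 2 + r ^ 2 * (2 * p - 1) + s ^ 2 * p : ℤ) : ℂ) := by
      push_cast; push_cast at hsq'; exact hsq'
    exact Int.cast_injective h3
  have hk1 : 1 ≤ k := by
    rw [hk]
    have : Nonempty (MulAction.orbit (MulAction.stabilizer G a) (t' • a)) := ⟨⟨_, MulAction.mem_orbit_self _⟩⟩
    exact Nat.card_pos
  have hk3 : k ≤ 3 * p := by
    rw [hk, ← hB.card]
    exact Finite.card_subtype_le _
  have hfin := arith9 (n₂ := n₂) hp h5 hqk hk3 hk1 (by rw [hr]; omega) e0 e1 e2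
  exact not_two ha (by rw [← hk, hB.card]; omega) hrank

theorem BFIX (hB : Base G Ω p) {χ ψ : IrrCharacter G} (hχ : CharD G p 2 χ) (hψ : (charDegree (ψ : G → ℂ) : ℤ) = p)
    (hne : ψ ≠ χ) (hpi : pi (G := G) Ω = 1 + (χ : G → ℂ) + (ψ : G → ℂ)) (t : G) (ht : orderOf t = 2) :
    (χ : G → ℂ) t = 1 ∧ (ψ : G → ℂ) t = 1 ∧ fx Ω t = 3 := by
  obtain ⟨hu, h | h⟩ := H52_BFIXa.BFIX12 hB hχ hψ hpi t ht
  · exact ⟨hu, h.1, h.2⟩
  · exact (BFIXw9 hB hχ hψ hne hpi t ht hu h.1).elim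

end Cfsg.Agent.Lib.H52_BFIX
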