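import Mathlib
import Cfsg.Agent.Lib.H52T0
import Cfsg.Agent.Lib.H52_BRANKa
import Cfsg.Agent.Lib.H52_BRANKb

set_option autoImplicit false
set_option linter.all false

/-! Rank three: subdegrees (helper73) -/

namespace Cfsg.Agent.Lib.H52_BRANK

open Cfsg Cfsg.Agent.Lib.BRPerm Cfsg.Agent.Lib.BRCore Cfsg.Agent.Lib.BRInd Cfsg.Agent.Lib.CharBasic Cfsg.Agent.Lib.BlockThird Cfsg.Agent.Lib.H52T0 Cfsg.Agent.Lib.H15RealP Cfsg.Agent.Lib.BRB0 Cfsg.Agent.Lib.DefOneLoc
open scoped ComplexConjugate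

universe u v

variable {G : Type u} [Group G] [Fintype G] {Ω : Type v} [Fintype Ω] [MulAction G Ω] {p : ℕ}

theorem pi_perm : pi (G := G) Ω = (Cfsg.permRep ℂ G Ω).character := by
  funext g
  rw [PermChar.permRep_character]
  rfl

/-- both constituents are real -/
theorem real (h5 : 5 ≤ p) {χ ψ : IrrCharacter G} (hχ1 : (χ : G → ℂ) 1 = 2 * p - 1) (hψ1 : (ψ : G → ℂ) 1 = p)
    (hpi : pi (G := G) Ω = 1 + (χ : G → ℂ) + (ψ : G → ℂ)) :
    (∀ g : G, conj ((χ : G → ℂ) g) = (χ : G → ℂ) g) ∧ ∀ g : G, conj ((ψ : G → ℂ) g) = (ψ : G → ℂ) g := by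
  classical
  let χ' : IrrCharacter G := ⟨fun g => conj ((χ : G → ℂ) g), χ.2.conj⟩
  let ψ' : IrrCharacter G := ⟨fun g => conj ((ψ : G → ℂ) g), ψ.2.conj⟩
  have htr : ((triv G : IrrCharacter G) : G → ℂ) = 1 := rfl
  have hpi' : pi (G := G) Ω = 1 + (χ' : G → ℂ) + (ψ' : G → ℂ) := by
    funext g
    have h1 : conj (pi (G := G) Ω g) = pi (G := G) Ω g := by
      rw [pi]; exact Complex.conj_natCast _
    rw [← h1, hpi]
    simp only [Pi.add_apply, Pi.one_apply, map_add, map_one]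
    rfl
  have hχ'1 : (χ' : G → ℂ) 1 = 2 * p - 1 := by
    show conj ((χ : G → ℂ) 1) = _
    rw [hχ1]
    have h1 : (2 * (p : ℂ) - 1) = ((2 * (p : ℝ) - 1 : ℝ) : ℂ) := by push_cast; rfl
    rw [h1, Complex.conj_ofReal]
  have n1 : triv G ≠ χ' := by
    intro h
    have h2 : ((triv G : IrrCharacter G) : G → ℂ) 1 = 1 := rfl
    rw [h, hχ'1] at h2
    have h3 : ((2 * p : ℕ) : ℂ) = ((2 : ℕ) : ℂ) := by push_cast; linear_combination h2
    have h4 : 2 * p = 2 := by exact_mod_cast h3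
    omega
  have n2 : ψ ≠ χ' := by
    intro h
    rw [h, hχ'1] at hψ1
    have h3 : ((p : ℕ) : ℂ) = ((1 : ℕ) : ℂ) := by push_cast; linear_combination hψ1
    have h4 : p = 1 := by exact_mod_cast h3
    omega
  have hχeq : χ = χ' := by
    by_contra hne
    have h1 : classInner (pi (G := G) Ω) (χ' : G → ℂ) = 0 := by
      rw [hpi, ← htr, classInner_add_left, classInner_add_left, irr_orthonormal, irr_orthonormal, irr_orthonormal,
        if_neg n1, if_neg hne, if_neg n2]
      norm_num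
    rw [hpi', ← htr, classInner_add_left, classInner_add_left, irr_orthonormal, irr_orthonormal, irr_orthonormal,
      if_neg n1, if_pos rfl] at h1
    by_cases h2 : ψ' = χ'
    · rw [if_pos h2] at h1; norm_num at h1
    · rw [if_neg h2] at h1; norm_num at h1
  have h1 : ∀ g : G, conj ((χ : G → ℂ) g) = (χ : G → ℂ) g := fun g =>
    (congrFun (congrArg Subtype.val hχeq) g).symm
  refine ⟨h1, fun g => ?_⟩
  have h2 := congrFun (hpi.symm.trans hpi') g
  simp only [Pi.add_apply, Pi.one_apply] at h2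
  have h3 : (χ' : G → ℂ) g = (χ : G → ℂ) g := h1 g
  have h4 : (ψ' : G → ℂ) g = conj ((ψ : G → ℂ) g) := rfl
  rw [h3, h4] at h2
  linear_combination -h2

theorem inner_pi {χ ψ : IrrCharacter G} (hpi : pi (G := G) Ω = 1 + (χ : G → ℂ) + (ψ : G → ℂ)) [DecidableEq (IrrCharacter G)]
    (η : IrrCharacter G) : classInner (Cfsg.permRep ℂ G Ω).character (η : G → ℂ) =
      (if triv G = η then 1 else 0) + (if χ = η then 1 else 0) + (if ψ = η then 1 else 0) := by
  have htr : ((triv G : IrrCharacter G) : G → ℂ) = 1 := rfl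
  rw [← pi_perm, hpi, ← htr, classInner_add_left, classInner_add_left, irr_orthonormal, irr_orthonormal, irr_orthonormal]
  congr

/-- all orbitals are self-paired -/
theorem paired (h5 : 5 ≤ p) {χ ψ : IrrCharacter G} (hχ1 : (χ : G → ℂ) 1 = 2 * p - 1) (hψ1 : (ψ : G → ℂ) 1 = p)
    (hχt : χ ≠ triv G) (hψt : ψ ≠ triv G) (hne : ψ ≠ χ)
    (hpi : pi (G := G) Ω = 1 + (χ : G → ℂ) + (ψ : G → ℂ)) :
    ∀ a b : Ω, ∃ g : G, g • a = b ∧ g • b = a := by
  classical
  obtain ⟨r1, r2⟩ := real h5 hχ1 hψ1 hpi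
  rw [PermChar2.self_paired_iff]
  intro η hη h0
  have h1 : classInner (Cfsg.permRep ℂ G Ω).character η = _ := inner_pi hpi ⟨η, hη⟩
  rw [h1] at h0 ⊢
  by_cases e1 : triv G = ⟨η, hη⟩
  · rw [if_pos e1, if_neg (fun h => hχt (h.trans e1.symm)), if_neg (fun h => hψt (h.trans e1.symm))]
    refine ⟨by norm_num, fun g => ?_⟩
    have h2 : η g = 1 := (congrFun (congrArg Subtype.val e1) g).symm
    rw [h2, map_one]
  · by_cases e2 : χ = ⟨η, hη⟩
    · rw [if_neg e1, if_pos e2, if_neg (fun h => hne (h.trans e2.symm))]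
      refine ⟨by norm_num, fun g => ?_⟩
      have h2 : η g = (χ : G → ℂ) g := (congrFun (congrArg Subtype.val e2) g).symm
      rw [h2, r1]
    · by_cases e3 : ψ = ⟨η, hη⟩
      · rw [if_neg e1, if_neg e2, if_pos e3]
        refine ⟨by norm_num, fun g => ?_⟩
        have h2 : η g = (ψ : G → ℂ) g := (congrFun (congrArg Subtype.val e3) g).symm
        rw [h2, r2]
      · rw [if_neg e1, if_neg e2, if_neg e3] at h0
        norm_num at h0

/-- there are three suborbits -/
theorem suborbits [MulAction.IsPretransitive G Ω] {χ ψ : IrrCharacter G}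
    (hχt : χ ≠ triv G) (hψt : ψ ≠ triv G) (hne : ψ ≠ χ)
    (hpi : pi (G := G) Ω = 1 + (χ : G → ℂ) + (ψ : G → ℂ)) (a : Ω) :
    ∃ b b' : Ω, b ≠ a ∧ b' ≠ a ∧
      (∀ w : Ω, w = a ∨ w ∈ MulAction.orbit (MulAction.stabilizer G a) b ∨ w ∈ MulAction.orbit (MulAction.stabilizer G a) b') ∧
      Nat.card (MulAction.orbit (MulAction.stabilizer G a) b) + Nat.card (MulAction.orbit (MulAction.stabilizer G a) b') + 1 =
        Nat.card Ω := by
  classical
  have htr : ((triv G : IrrCharacter G) : G → ℂ) = 1 := rfl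
  have h1 := PermChar4.classInner_self_eq_rank (G := G) a
  have h2 : classInner (Cfsg.permRep ℂ G Ω).character (Cfsg.permRep ℂ G Ω).character = 3 := by
    conv_lhs => rw [show (Cfsg.permRep ℂ G Ω).character = ((triv G : IrrCharacter G) : G → ℂ) + (χ : G → ℂ) + (ψ : G → ℂ) by
      rw [htr, ← hpi, pi_perm]]
    simp only [classInner_add_left, classInner_add_right, irr_orthonormal]
    simp only [if_true, if_neg hχt, if_neg hψt, if_neg hne, if_neg hχt.symm, if_neg hψt.symm, if_neg hne.symm]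
    norm_num
  rw [h2] at h1
  have h3 : Nat.card (MulAction.orbitRel.Quotient (MulAction.stabilizer G a) Ω) = 3 := by exact_mod_cast h1.symm
  have hfin : Finite (MulAction.orbitRel.Quotient (MulAction.stabilizer G a) Ω) := Quotient.finite _
  let _ : Fintype (MulAction.orbitRel.Quotient (MulAction.stabilizer G a) Ω) := Fintype.ofFinite _
  let ω₀ : MulAction.orbitRel.Quotient (MulAction.stabilizer G a) Ω := Quotient.mk'' a
  let s : MulAction.orbitRel.Quotient (MulAction.stabilizer G a) Ω → ℕ := fun ω =>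
    Nat.card (MulAction.orbitRel.Quotient.orbit ω)
  have hs : ∀ b : Ω, s (Quotient.mk'' b) = Nat.card (MulAction.orbit (MulAction.stabilizer G a) b) := by
    intro b
    show Nat.card (MulAction.orbitRel.Quotient.orbit _) = _
    rw [MulAction.orbitRel.Quotient.orbit_mk]
  have hsum : ∑ ω, s ω = Fintype.card Ω := by
    have h := Nat.card_congr (MulAction.selfEquivSigmaOrbits' (MulAction.stabilizer G a) Ω)
    rw [Nat.card_sigma, Nat.card_eq_fintype_card] at h
    exact h.symm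
  have hs0 : s ω₀ = 1 := by
    rw [hs]
    have : MulAction.orbit (MulAction.stabilizer G a) a = {a} := by
      ext x
      constructor
      · rintro ⟨g, rfl⟩; exact g.2
      · intro h; rw [Set.mem_singleton_iff.mp h]; exact MulAction.mem_orbit_self _
    rw [this]; simp
  have h4 : (Finset.univ.erase ω₀).card = 2 := by
    rw [Finset.card_erase_of_mem (Finset.mem_univ _), Finset.card_univ, ← Nat.card_eq_fintype_card, h3]
  obtain ⟨x, y, hxy, h5⟩ := Finset.card_eq_two.1 h4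
  have hx : x ≠ ω₀ := Finset.ne_of_mem_erase (h5 ▸ Finset.mem_insert_self x {y})
  have hy : y ≠ ω₀ := Finset.ne_of_mem_erase (h5 ▸ Finset.mem_insert_of_mem (Finset.mem_singleton_self y))
  obtain ⟨b, rfl⟩ := Quotient.mk''_surjective x
  obtain ⟨b', rfl⟩ := Quotient.mk''_surjective y
  refine ⟨b, b', fun h => hx (by rw [h]), fun h => hy (by rw [h]), ?_, ?_⟩
  · intro w
    by_cases hw : (Quotient.mk'' w : MulAction.orbitRel.Quotient (MulAction.stabilizer G a) Ω) = ω₀
    · left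
      obtain ⟨g, hg⟩ := Quotient.eq''.mp hw
      have hg' : g • a = w := hg
      exact hg'.symm.trans g.2
    · right
      have h6 : (Quotient.mk'' w : MulAction.orbitRel.Quotient (MulAction.stabilizer G a) Ω) ∈ Finset.univ.erase ω₀ :=
        Finset.mem_erase.2 ⟨hw, Finset.mem_univ _⟩
      rw [h5, Finset.mem_insert, Finset.mem_singleton] at h6
      rcases h6 with h6 | h6
      · left
        exact Quotient.eq''.mp h6
      · right
        exact Quotient.eq''.mp h6
  · have h6 := Finset.add_sum_erase Finset.univ s (Finset.mem_univ ω₀)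
    rw [h5, Finset.sum_pair hxy, hs0, hs b, hs b', hsum] at h6
    rw [Nat.card_eq_fintype_card (α := Ω)]
    omega

/-- B1: rank three integrality -/
theorem BRANK (hB : Base G Ω p) {χ ψ : IrrCharacter G} (hχ : CharD G p 2 χ) (hψ : (charDegree (ψ : G → ℂ) : ℤ) = p)
    (hne : ψ ≠ χ) (hpi : pi (G := G) Ω = 1 + (χ : G → ℂ) + (ψ : G → ℂ)) (a : Ω) :
    ∃ (A : ℤ) (k l : ℕ) (b b' : Ω), 2 * (p : ℤ) = 6 * A ^ 2 - 3 * A + 1 ∧ 2 * (k : ℤ) = (3 * A - 1) * (2 * A - 1) ∧
      (l : ℤ) = 2 * A * (3 * A - 1) ∧ k + l + 1 = 3 * p ∧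
      k = Nat.card (MulAction.orbit (MulAction.stabilizer G a) b) ∧ l = Nat.card (MulAction.orbit (MulAction.stabilizer G a) b') ∧
      (∀ w : Ω, w = a ∨ w ∈ MulAction.orbit (MulAction.stabilizer G a) b ∨ w ∈ MulAction.orbit (MulAction.stabilizer G a) b') := by
  classical
  haveI := hB.prim
  have h5 := hB.h5
  have hχ1 : (χ : G → ℂ) 1 = 2 * p - 1 := by
    rw [← BlockDeg.charDegree_cast_irr χ]
    have h1 := hχ.deg
    have h2 : ((charDegree (χ : G → ℂ) : ℤ) : ℂ) = (((2 : ℕ) * p - 1 : ℤ) : ℂ) := by rw [h1]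
    push_cast at h2
    exact h2
  have hψ1 : (ψ : G → ℂ) 1 = p := by
    rw [← BlockDeg.charDegree_cast_irr ψ]
    exact_mod_cast hψ
  have hψt : ψ ≠ triv G := by
    rintro rfl
    rw [deg_triv] at hψ
    have : (1 : ℕ) = p := by exact_mod_cast hψ
    omega
  obtain ⟨b, b', hb, hb', hcov, hsum⟩ := suborbits (Ω := Ω) hχ.ne hψt hne hpi a
  rw [hB.card] at hsum
  obtain ⟨r, s, hr, hs, e1, e2⟩ := H52_BRANKb.spec (Ω := Ω) hχ.ne hψt hne (by rw [← pi_perm]; exact hpi)
    (paired h5 hχ1 hψ1 hχ.ne hψt hne hpi) a b hb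
  have hk0 : 0 < Nat.card (MulAction.orbit (MulAction.stabilizer G a) b) := by
    have : Nonempty (MulAction.orbit (MulAction.stabilizer G a) b) := ⟨⟨b, MulAction.mem_orbit_self _⟩⟩
    exact Nat.card_pos
  have hl0 : 0 < Nat.card (MulAction.orbit (MulAction.stabilizer G a) b') := by
    have : Nonempty (MulAction.orbit (MulAction.stabilizer G a) b') := ⟨⟨b', MulAction.mem_orbit_self _⟩⟩
    exact Nat.card_pos
  set k : ℕ := Nat.card (MulAction.orbit (MulAction.stabilizer G a) b) with hk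
  set l : ℕ := Nat.card (MulAction.orbit (MulAction.stabilizer G a) b') with hl
  rw [hχ1, hψ1] at e1 e2
  rw [hB.card] at e2
  push_cast at e2
  have f5 : (5 : ℤ) ≤ p := by exact_mod_cast h5
  have fk0 : (0 : ℤ) < k := by exact_mod_cast hk0
  have fk1 : (k : ℤ) < 3 * p - 1 := by omega
  obtain ⟨n, hn⟩ := H52_BRANKa.rat (p := (p : ℤ)) (k := (k : ℤ)) hr f5 fk0 fk1 (by push_cast; exact e1)
    (by push_cast; exact e2)
  rw [hn] at e1 e2
  -- `s` is an integer
  obtain ⟨m, hm⟩ : ∃ m : ℤ, s = m := by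
    set w : ℤ := -(k + (2 * p - 1) * n) with hw
    have h1 : (p : ℂ) * s = (w : ℂ) := by rw [hw]; push_cast; linear_combination e1
    have h2 : ((w ^ 2 : ℤ) : ℂ) = ((p * (3 * p * k - k ^ 2 - (2 * p - 1) * n ^ 2) : ℤ) : ℂ) := by
      push_cast
      rw [← h1]
      linear_combination (p : ℂ) * e2
    have h3 : w ^ 2 = p * (3 * p * k - k ^ 2 - (2 * p - 1) * n ^ 2) := by exact_mod_cast h2
    have h4 : (p : ℤ) ∣ w := by
      have hpp : Prime (p : ℤ) := Nat.prime_iff_prime_int.1 hB.hp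
      exact hpp.dvd_of_dvd_pow (n := 2) (by rw [h3]; exact dvd_mul_right _ _)
    obtain ⟨m, hm⟩ := h4
    refine ⟨m, ?_⟩
    have hp0 : (p : ℂ) ≠ 0 := by exact_mod_cast hB.hp.ne_zero
    apply mul_left_cancel₀ hp0
    rw [h1, hm]; push_cast; ring
  rw [hm] at e1 e2
  have g1 : (k : ℤ) + (2 * p - 1) * n + p * m = 0 := by exact_mod_cast e1
  have g2 : (k : ℤ) ^ 2 + (2 * p - 1) * n ^ 2 + p * m ^ 2 = 3 * p * k := by exact_mod_cast e2
  have hl' : (l : ℤ) = 3 * p - 1 - k := by omega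
  rcases H52_BRANKa.arith f5 fk0 fk1 g1 g2 with ⟨A, q1, q2, q3, -⟩ | ⟨A, q1, q2, q3, -⟩
  · exact ⟨A, k, l, b, b', q1, q2, by rw [hl', q3], hsum, rfl, rfl, hcov⟩
  · refine ⟨A, l, k, b', b, q1, by rw [hl', q2], q3, by omega, rfl, rfl, fun w => ?_⟩
    rcases hcov w with h | h | h
    · exact Or.inl h
    · exact Or.inr (Or.inr h)
    · exact Or.inr (Or.inl h)

end Cfsg.Agent.Lib.H52_BRANK
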