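import Cfsg.Agent.Lib.H52T0

set_option autoImplicit false
set_option linter.all false
set_option maxHeartbeats 400000

/-! S3254, piece CEN: the centralizer of `t` has a normal 2-complement. -/

namespace Cfsg.Agent.Lib.H52_CEN

open Cfsg Cfsg.Agent.Lib.BRPerm Cfsg.Agent.Lib.BRCore Cfsg.Agent.Lib.BRInd Cfsg.Agent.Lib.CharBasic Cfsg.Agent.Lib.BlockThird Cfsg.Agent.Lib.H52T0 Cfsg.Agent.Lib.H15RealP Cfsg.Agent.Lib.BRB0 Cfsg.Agent.Lib.DefOneLoc

universe u v

/-- A Sylow 2-subgroup which is a four group `{1,a,b,d}` with `d` fixed by its normalizer: Burnside. -/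
theorem four_compl {Q : Type u} [Group Q] [Finite Q] (P : Sylow 2 Q) {a b d : Q}
    (hP : ∀ x, x ∈ (P : Subgroup Q) ↔ x = 1 ∨ x = a ∨ x = b ∨ x = d)
    (ha : a ≠ 1) (hb : b ≠ 1) (hd : d ≠ 1) (hab : a ≠ b) (had : a ≠ d) (hbd : b ≠ d) (hdab : d = a * b)
    (hba : a * b = b * a)
    (h1 : ∀ x : Q, x * d * x⁻¹ ≠ a) (h2 : ∀ x : Q, x * d * x⁻¹ ≠ b) :
    ∃ K : Subgroup Q, K.Normal ∧ ¬ 2 ∣ Nat.card K ∧ Nat.card K * Nat.card P = Nat.card Q := by
  classical
  haveI : Fact (Nat.Prime 2) := ⟨Nat.prime_two⟩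
  have hN : Subgroup.normalizer ((P : Subgroup Q) : Set Q) ≤ Subgroup.centralizer ((P : Subgroup Q) : Set Q) := by
    intro x hx
    rw [Subgroup.mem_normalizer_iff] at hx
    have hconj : ∀ y ∈ Subgroup.normalizer ((P : Subgroup Q) : Set Q), ∀ z ∈ (P : Subgroup Q), y * z * y⁻¹ ∈ (P : Subgroup Q) := by
      intro y hy z hz
      rw [Subgroup.mem_normalizer_iff] at hy
      exact (hy z).1 hz
    have haP : a ∈ (P : Subgroup Q) := (hP a).2 (by simp)
    have hbP : b ∈ (P : Subgroup Q) := (hP b).2 (by simp)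
    have hdP : d ∈ (P : Subgroup Q) := (hP d).2 (by simp)
    have hdfix : ∀ y ∈ Subgroup.normalizer ((P : Subgroup Q) : Set Q), y * d * y⁻¹ = d := by
      intro y hy
      rcases (hP _).1 (hconj y hy d hdP) with h | h | h | h
      · exact absurd (by simpa using h) hd
      · exact absurd h (h1 y)
      · exact absurd h (h2 y)
      · exact h
    have hafix : ∀ y ∈ Subgroup.normalizer ((P : Subgroup Q) : Set Q), y * a * y⁻¹ = a ∨ y * a * y⁻¹ = b := by
      intro y hy
      rcases (hP _).1 (hconj y hy a haP) with h | h | h | h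
      · exact absurd (by simpa using h) ha
      · exact Or.inl h
      · exact Or.inr h
      · exfalso
        have h3 := hdfix y hy
        rw [← h3] at h
        exact had (by simpa using h)
    have hbfix : ∀ y ∈ Subgroup.normalizer ((P : Subgroup Q) : Set Q), y * b * y⁻¹ = a ∨ y * b * y⁻¹ = b := by
      intro y hy
      rcases (hP _).1 (hconj y hy b hbP) with h | h | h | h
      · exact absurd (by simpa using h) hb
      · exact Or.inl h
      · exact Or.inr h
      · exfalso
        have h3 := hdfix y hy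
        rw [← h3] at h
        exact hbd (by simpa using h)
    have hx' : x ∈ Subgroup.normalizer ((P : Subgroup Q) : Set Q) := by
      rw [Subgroup.mem_normalizer_iff]; exact hx
    -- centralizing `a` suffices
    have hcen : ∀ y ∈ Subgroup.normalizer ((P : Subgroup Q) : Set Q), y * a * y⁻¹ = a → y ∈ Subgroup.centralizer ((P : Subgroup Q) : Set Q) := by
      intro y hy hya
      have hyd := hdfix y hy
      have hyb : y * b * y⁻¹ = b := by
        rcases hbfix y hy with h | h
        · exfalso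
          rw [← hya] at h
          exact hab (by simpa using h.symm)
        · exact h
      rw [Subgroup.mem_centralizer_iff]
      intro z hz
      rcases (hP z).1 hz with h | h | h | h
      · subst h; simp
      · subst h; exact (mul_inv_eq_iff_eq_mul.1 hya).symm
      · subst h; exact (mul_inv_eq_iff_eq_mul.1 hyb).symm
      · subst h; exact (mul_inv_eq_iff_eq_mul.1 hyd).symm
    have hsq : x ^ 2 ∈ Subgroup.centralizer ((P : Subgroup Q) : Set Q) := by
      apply hcen _ (Subgroup.pow_mem _ hx' 2)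
      rcases hafix x hx' with h | h
      · calc x ^ 2 * a * (x ^ 2)⁻¹ = x * (x * a * x⁻¹) * x⁻¹ := by rw [sq]; group
          _ = a := by rw [h, h]
      · have h' : x * b * x⁻¹ = a := by
          rcases hbfix x hx' with h' | h'
          · exact h'
          · exfalso
            rw [← h'] at h
            exact hab (by simpa using h)
        calc x ^ 2 * a * (x ^ 2)⁻¹ = x * (x * a * x⁻¹) * x⁻¹ := by rw [sq]; group
          _ = a := by rw [h, h']
    -- the 2-part
    have hPcen : (P : Subgroup Q) ≤ Subgroup.centralizer ((P : Subgroup Q) : Set Q) := by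
      intro y hy
      rcases (hP y).1 hy with h | h | h | h
      · subst h; exact Subgroup.one_mem _
      · exact hcen y (Subgroup.le_normalizer hy) (by subst h; group)
      · exact hcen y (Subgroup.le_normalizer hy) (by subst h; rw [← hba]; group)
      · exact hcen y (Subgroup.le_normalizer hy) (by
          subst h; rw [hdab]
          calc a * b * a * (a * b)⁻¹ = a * (b * a) * (a * b)⁻¹ := by group
            _ = a := by rw [← hba]; group)
    obtain ⟨k, m, hm, hkm⟩ := Nat.exists_eq_two_pow_mul_odd (n := orderOf x) (orderOf_pos x).ne'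
    have hxm : x ^ m ∈ (P : Subgroup Q) := by
      have hpg : IsPGroup 2 (Subgroup.zpowers (x ^ m)) := by
        rw [IsPGroup.iff_orderOf]
        intro g
        obtain ⟨g, hg⟩ := g
        obtain ⟨i, rfl⟩ := Subgroup.mem_zpowers_iff.1 hg
        have : orderOf (x ^ m) ∣ 2 ^ k := by
          apply orderOf_dvd_of_pow_eq_one
          rw [← pow_mul, mul_comm, ← hkm, pow_orderOf_eq_one]
        have h3 : orderOf ((x ^ m) ^ i) ∣ 2 ^ k := (orderOf_dvd_of_pow_eq_one (by rw [← zpow_natCast, ← zpow_mul, mul_comm, zpow_mul, zpow_natCast, pow_orderOf_eq_one, one_zpow])).trans this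
        obtain ⟨j, _, hj⟩ := (Nat.dvd_prime_pow Nat.prime_two).1 h3
        exact ⟨j, by rw [← hj]; exact (Subgroup.orderOf_coe _).symm⟩
      have := hpg.inf_normalizer_sylow P
      have h3 : x ^ m ∈ Subgroup.zpowers (x ^ m) ⊓ Subgroup.normalizer (P : Set Q) :=
        ⟨Subgroup.mem_zpowers _, Subgroup.pow_mem _ hx' m⟩
      rw [this] at h3
      exact h3.2
    obtain ⟨j, hj⟩ := hm
    have : x = x ^ m * ((x ^ 2) ^ j)⁻¹ := by
      rw [hj, pow_succ, ← pow_mul]; group
    rw [this]
    exact Subgroup.mul_mem _ (hPcen hxm) (Subgroup.inv_mem _ (Subgroup.pow_mem _ hsq j))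
  refine ⟨(MonoidHom.transferSylow P hN).ker, inferInstance, ?_, ?_⟩
  · exact MonoidHom.not_dvd_card_ker_transferSylow P hN
  · exact (MonoidHom.ker_transferSylow_isComplement' P hN).card_mul_card

/-- The case of a group with central `t`. -/
theorem central_compl {H : Type u} [Group H] [Finite H] (T : Sylow 2 H) (hT : Nat.card T = 8) {t r s w : H}
    (hr : r ∈ (T : Subgroup H)) (hs : s ∈ (T : Subgroup H)) (htc : ∀ x : H, x * t = t * x) (t1 : t ≠ 1) (t2 : t * t = 1)
    (r2 : r * r = 1) (s2 : s * s = 1) (rs : r * s = w) (ww : w * w = t) (r1 : r ≠ 1) (s1 : s ≠ 1) (rt : r ≠ t) (st : s ≠ t) :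
    ∃ U : Subgroup H, U.Normal ∧ Odd (Nat.card U) ∧ Nat.card H = 8 * Nat.card U := by
  classical
  haveI : Fact (Nat.Prime 2) := ⟨Nat.prime_two⟩
  have hZ : ∀ x, x ∈ Subgroup.zpowers t ↔ x = 1 ∨ x = t := by
    intro x
    constructor
    · rintro ⟨i, rfl⟩
      have ht2 : t ^ (2 : ℤ) = 1 := by rw [zpow_two]; exact t2
      rcases Int.even_or_odd' i with ⟨j, rfl | rfl⟩
      · left; show t ^ (2 * j) = 1; rw [zpow_mul, ht2, one_zpow]
      · right; show t ^ (2 * j + 1) = t; rw [zpow_add, zpow_mul, ht2, one_zpow, one_mul, zpow_one]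
    · rintro (rfl | rfl)
      · exact Subgroup.one_mem _
      · exact Subgroup.mem_zpowers _
  have hZcard : Nat.card (Subgroup.zpowers t) = 2 := by
    rw [Nat.card_zpowers]
    exact orderOf_eq_prime (by rw [sq]; exact t2) t1
  haveI hZn : (Subgroup.zpowers t).Normal := by
    constructor
    intro x hx g
    rcases (hZ x).1 hx with h | h
    · subst h; simp
    · subst h; rw [htc g]; simp
  set π := QuotientGroup.mk' (Subgroup.zpowers t) with hπ
  have hπs : Function.Surjective π := QuotientGroup.mk'_surjective _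
  have hπk : π.ker = Subgroup.zpowers t := QuotientGroup.ker_mk' _
  have hπ1 : ∀ x, π x = 1 ↔ x = 1 ∨ x = t := by
    intro x
    have h1 : x ∈ π.ker ↔ x ∈ Subgroup.zpowers t := by rw [hπk]
    rw [← hZ, ← h1, MonoidHom.mem_ker]
  have hπe : ∀ x y, π x = π y ↔ x = y ∨ x = y * t := by
    intro x y
    rw [← inv_mul_eq_one, ← map_inv, ← map_mul, hπ1]
    rw [inv_mul_eq_one, inv_mul_eq_iff_eq_mul]
    constructor
    · rintro (h | h)
      · exact Or.inl h
      · right; rw [h, mul_assoc, t2, mul_one]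
    · rintro (h | h)
      · exact Or.inl h
      · right; rw [h, mul_assoc, t2, mul_one]
  set P := T.mapSurjective hπs with hPdef
  have hPc : (P : Subgroup (H ⧸ Subgroup.zpowers t)) = (T : Subgroup H).map π := Sylow.coe_mapSurjective _ _
  have hw : w ∈ (T : Subgroup H) := rs ▸ Subgroup.mul_mem _ hr hs
  have ht : t ∈ (T : Subgroup H) := ww ▸ Subgroup.mul_mem _ hw hw
  have hPcard : Nat.card P = 4 := by
    have h1 : Nat.card P = Nat.card ((T : Subgroup H).map π) := by
      show Nat.card (P : Subgroup (H ⧸ Subgroup.zpowers t)) = _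
      rw [hPc]
    rw [h1]
    have h2 : (π.domRestrict (T : Subgroup H)).range = (T : Subgroup H).map π := MonoidHom.domRestrict_range _ _
    have h3 := Subgroup.card_mul_index (π.domRestrict (T : Subgroup H)).ker
    rw [Subgroup.index_ker, h2] at h3
    have h4 : Nat.card (π.domRestrict (T : Subgroup H)).ker = 2 := by
      rw [MonoidHom.ker_domRestrict, hπk]
      refine Eq.trans ?_ hZcard
      exact Nat.card_congr (Subgroup.subgroupOfEquivOfLe (by
        rw [Subgroup.zpowers_le]; exact ht)).toEquiv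
    rw [h4] at h3
    have h5 : Nat.card (T : Subgroup H) = 8 := hT
    omega
  -- elements of P
  have hrne : π r ≠ 1 := by rw [Ne, hπ1]; tauto
  have hsne : π s ≠ 1 := by rw [Ne, hπ1]; tauto
  have hwne : π w ≠ 1 := by
    rw [Ne, hπ1]
    rintro (h | h)
    · apply t1; rw [← ww, h, one_mul]
    · apply t1; rw [← ww, h, t2]
  have hrs' : π w = π r * π s := by rw [← rs, map_mul]
  have hrr : π r * π r = 1 := by rw [← map_mul, r2, map_one]
  have hss : π s * π s = 1 := by rw [← map_mul, s2, map_one]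
  have hwws : π w * π w = 1 := by rw [← map_mul, ww, hπ1]; exact Or.inr rfl
  have hrsne : π r ≠ π s := by
    intro h; apply hwne; rw [hrs', ← h, hrr]
  have hrwne : π r ≠ π w := by
    intro h
    apply hsne
    rw [hrs'] at h
    exact (mul_eq_left.1 h.symm)
  have hswne : π s ≠ π w := by
    intro h
    apply hrne
    rw [hrs'] at h
    exact (mul_eq_right.1 h.symm)
  have hcomm : π r * π s = π s * π r := by
    have : (π r * π s) * (π r * π s) = 1 := by rw [← hrs', hwws]
    calc π r * π s = (π r * π s) * ((π s * π r) * (π s * π r)⁻¹) := by group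
      _ = (π r * (π s * π s) * π r) * (π s * π r)⁻¹ := by group
      _ = (π s * π r)⁻¹ := by rw [hss, mul_one, hrr, one_mul]
      _ = π s * π r := by
        rw [mul_inv_rev]
        rw [inv_eq_of_mul_eq_one_left hrr, inv_eq_of_mul_eq_one_left hss]
        calc π r * π s = (π r * π s) * (π r * π s) * (π r * π s)⁻¹ := by group
          _ = (π r * π s)⁻¹ := by rw [this, one_mul]
          _ = π s * π r := by
            rw [mul_inv_rev, inv_eq_of_mul_eq_one_left hrr, inv_eq_of_mul_eq_one_left hss]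
  have hPmem : ∀ x, x ∈ (P : Subgroup (H ⧸ Subgroup.zpowers t)) ↔ x = 1 ∨ x = π r ∨ x = π s ∨ x = π w := by
    have hsub : ({1, π r, π s, π w} : Set (H ⧸ Subgroup.zpowers t)) ⊆ (P : Subgroup (H ⧸ Subgroup.zpowers t)) := by
      intro x hx
      simp only [Set.mem_insert_iff, Set.mem_singleton_iff] at hx
      rw [hPc]
      rcases hx with h | h | h | h
      · subst h; exact Subgroup.one_mem _
      · subst h; exact Subgroup.mem_map_of_mem _ hr
      · subst h; exact Subgroup.mem_map_of_mem _ hs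
      · subst h; exact Subgroup.mem_map_of_mem _ hw
    have hc : Set.ncard ({1, π r, π s, π w} : Set (H ⧸ Subgroup.zpowers t)) = 4 := by
      rw [Set.ncard_insert_of_notMem, Set.ncard_insert_of_notMem, Set.ncard_pair hswne]
      · simp only [Set.mem_insert_iff, Set.mem_singleton_iff]; tauto
      · simp only [Set.mem_insert_iff, Set.mem_singleton_iff]
        rintro (h | h | h)
        · exact hrne h.symm
        · exact hsne h.symm
        · exact hwne h.symm
    have heq := Set.eq_of_subset_of_ncard_le hsub (by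
      rw [hc]
      have : Set.ncard ((P : Subgroup (H ⧸ Subgroup.zpowers t)) : Set (H ⧸ Subgroup.zpowers t)) = Nat.card P := rfl
      rw [this, hPcard]) (Set.toFinite _)
    intro x
    have := Set.ext_iff.1 heq x
    simp only [Set.mem_insert_iff, Set.mem_singleton_iff] at this
    exact this.symm
  have hncA : ∀ (a : H), a * a = 1 → ∀ x : H ⧸ Subgroup.zpowers t, x * π w * x⁻¹ ≠ π a := by
    intro a ha x hx
    obtain ⟨h, rfl⟩ := hπs x
    rw [← map_inv, ← map_mul, ← map_mul, hπe] at hx
    have hsq : (h * w * h⁻¹) * (h * w * h⁻¹) = t := by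
      calc (h * w * h⁻¹) * (h * w * h⁻¹) = h * (w * w) * h⁻¹ := by group
        _ = t := by rw [ww, htc]; group
    rcases hx with hx | hx
    · rw [hx, ha] at hsq; exact t1 hsq.symm
    · rw [hx] at hsq
      apply t1
      rw [← hsq]
      calc a * t * (a * t) = a * (t * a) * t := by group
        _ = a * (a * t) * t := by rw [htc a]
        _ = (a * a) * (t * t) := by group
        _ = 1 := by rw [ha, t2, one_mul]
  obtain ⟨K, hKn, hKodd, hKcard⟩ := four_compl P hPmem hrne hsne hwne hrsne hrwne hswne hrs' hcomm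
    (hncA r r2) (hncA s s2)
  -- pull back
  set K₂ := K.comap π with hK₂
  haveI hK₂n : K₂.Normal := hKn.comap π
  have hZle : Subgroup.zpowers t ≤ K₂ := by
    rw [← hπk]; intro x hx; rw [hK₂, Subgroup.mem_comap, hx]; exact Subgroup.one_mem _
  have hidx : K₂.index = K.index := Subgroup.index_comap_of_surjective K hπs
  have hQcard : Nat.card H = Nat.card (H ⧸ Subgroup.zpowers t) * 2 := by
    rw [Subgroup.card_eq_card_quotient_mul_card_subgroup (Subgroup.zpowers t), hZcard]
  have hKidx : K.index = 4 := by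
    have := Subgroup.card_mul_index K
    rw [← hKcard, hPcard] at this
    exact Nat.eq_of_mul_eq_mul_left Nat.card_pos this
  have hK₂card : Nat.card K₂ = 2 * Nat.card K := by
    have h1 := Subgroup.card_mul_index K₂
    rw [hidx, hKidx, hQcard, ← hKcard, hPcard] at h1
    omega
  have hZ₂card : Nat.card ((Subgroup.zpowers t).subgroupOf K₂) = 2 := by
    rw [← hZcard]
    exact Nat.card_congr (Subgroup.subgroupOfEquivOfLe hZle).toEquiv
  have hZ₂idx : ((Subgroup.zpowers t).subgroupOf K₂).index = Nat.card K := by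
    have h1 := Subgroup.card_mul_index ((Subgroup.zpowers t).subgroupOf K₂)
    rw [hZ₂card, hK₂card] at h1
    omega
  have hKodd' : Nat.Coprime 2 (Nat.card K) := (Nat.Prime.coprime_iff_not_dvd Nat.prime_two).2 hKodd
  obtain ⟨L, hL⟩ := Subgroup.exists_right_complement'_of_coprime (N := (Subgroup.zpowers t).subgroupOf K₂) (by
    rw [hZ₂card, hZ₂idx]; exact hKodd')
  have hLcard : Nat.card L = Nat.card K := by
    have := hL.card_mul_card
    rw [hZ₂card, hK₂card] at this
    omega
  have hLidx : L.index = 2 := by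
    have h1 := Subgroup.card_mul_index L
    rw [hLcard, hK₂card, mul_comm 2] at h1
    exact Nat.eq_of_mul_eq_mul_left Nat.card_pos h1
  haveI hLn : L.Normal := Subgroup.normal_of_index_eq_two hLidx
  have hLodd : Odd (Nat.card L) := by
    rw [hLcard]; exact Nat.coprime_two_left.1 hKodd'
  -- elements of odd order
  have hchar : ∀ x : K₂, Odd (orderOf x) → x ∈ L := by
    intro x hx
    have h1 : orderOf (QuotientGroup.mk' L x) ∣ 2 := by
      rw [← hLidx]; exact orderOf_dvd_natCard _
    have h2 : orderOf (QuotientGroup.mk' L x) ∣ orderOf x := orderOf_map_dvd _ _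
    have h3 : orderOf (QuotientGroup.mk' L x) = 1 := by
      apply Nat.eq_one_of_dvd_coprimes (Nat.coprime_two_left.2 hx) h1 h2
    rw [orderOf_eq_one_iff] at h3
    rwa [← QuotientGroup.ker_mk' L, MonoidHom.mem_ker]
  refine ⟨L.map K₂.subtype, ?_, ?_, ?_⟩
  · constructor
    rintro _ ⟨x, hx, rfl⟩ g
    have hg : g * (x : H) * g⁻¹ ∈ K₂ := hK₂n.conj_mem _ x.2 g
    refine ⟨⟨g * (x : H) * g⁻¹, hg⟩, ?_, rfl⟩
    apply hchar
    have h1 : orderOf (⟨g * (x : H) * g⁻¹, hg⟩ : K₂) = orderOf (g * (x : H) * g⁻¹) :=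
      (Subgroup.orderOf_coe _).symm
    have h2 : orderOf (g * (x : H) * g⁻¹) = orderOf (x : H) := by
      have := orderOf_injective (MulAut.conj g).toMonoidHom (MulAut.conj g).injective (x : H)
      simpa using this
    rw [h1, h2, Subgroup.orderOf_coe]
    have h3 : orderOf x = orderOf (⟨x, hx⟩ : L) := (Subgroup.orderOf_coe (⟨x, hx⟩ : L))
    rw [h3]
    exact hLodd.of_dvd_nat (orderOf_dvd_natCard _)
  · rw [Subgroup.card_map_of_injective (Subgroup.subtype_injective _)]
    exact hLodd
  · rw [Subgroup.card_map_of_injective (Subgroup.subtype_injective _), hLcard, hQcard, ← hKcard, hPcard]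
    ring

/-- group form of CEN -/
theorem cen_group {G : Type u} [Group G] [Finite G] (T : Sylow 2 G) (hT : Nat.card T = 8) {t r s w : G}
    (hr : r ∈ (T : Subgroup G)) (hs : s ∈ (T : Subgroup G)) (ot : orderOf t = 2) (or : orderOf r = 2) (os : orderOf s = 2)
    (ov : orderOf w = 4) (ww : w * w = t) (rs : r * s = w) (rt : r * t = t * r) (st : s * t = t * s) (rnt : r ≠ t) (snt : s ≠ t) :
    ∃ U : Subgroup G, Odd (Nat.card U) ∧ U ≤ Subgroup.centralizer ({t} : Set G) ∧
      (∀ x ∈ Subgroup.centralizer ({t} : Set G), ∀ y ∈ U, x * y * x⁻¹ ∈ U) ∧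
      Nat.card (Subgroup.centralizer ({t} : Set G)) = 8 * Nat.card U ∧
      U ⊔ (T : Subgroup G) = Subgroup.centralizer ({t} : Set G) := by
  classical
  haveI : Fact (Nat.Prime 2) := ⟨Nat.prime_two⟩
  set C := Subgroup.centralizer ({t} : Set G) with hC
  have hCm : ∀ x, x ∈ C ↔ x * t = t * x := by
    intro x; rw [hC, Subgroup.mem_centralizer_singleton_iff]
  have hw : w ∈ (T : Subgroup G) := rs ▸ Subgroup.mul_mem _ hr hs
  have ht : t ∈ (T : Subgroup G) := ww ▸ Subgroup.mul_mem _ hw hw
  have r2 : r * r = 1 := by rw [← sq, ← or, pow_orderOf_eq_one]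
  have s2 : s * s = 1 := by rw [← sq, ← os, pow_orderOf_eq_one]
  have t2 : t * t = 1 := by rw [← sq, ← ot, pow_orderOf_eq_one]
  have t1 : t ≠ 1 := by intro h; rw [h, orderOf_one] at ot; omega
  have r1 : r ≠ 1 := by intro h; rw [h, orderOf_one] at or; omega
  have s1 : s ≠ 1 := by intro h; rw [h, orderOf_one] at os; omega
  have hwC : w ∈ C := by rw [hCm, ← ww, mul_assoc]
  -- T ≤ C
  have hTC : (T : Subgroup G) ≤ C := by
    have hW : Subgroup.zpowers w ≤ (T : Subgroup G) ⊓ C := by
      rw [Subgroup.zpowers_le]; exact ⟨hw, hwC⟩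
    have hWc : Nat.card (Subgroup.zpowers w) = 4 := by rw [Nat.card_zpowers, ov]
    have hrW : r ∉ Subgroup.zpowers w := by
      intro h
      obtain ⟨i, hi⟩ := Subgroup.mem_zpowers_iff.1 h
      have h1 : w ^ (2 * i) = 1 := by rw [mul_comm, zpow_mul, hi, zpow_two, r2]
      have h2 : ((orderOf w : ℕ) : ℤ) ∣ 2 * i := orderOf_dvd_iff_zpow_eq_one.2 h1
      rw [ov] at h2
      obtain ⟨j, hj⟩ := h2
      have h3 : i = 2 * j := by push_cast at hj; omega
      rw [h3, zpow_mul, zpow_two, ww] at hi
      have h4 : r ∈ Subgroup.zpowers t := ⟨j, hi⟩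
      rcases Int.even_or_odd' j with ⟨k, hk | hk⟩
      · apply r1; rw [← hi, hk, zpow_mul, zpow_two, t2, one_zpow]
      · apply rnt; rw [← hi, hk, zpow_add, zpow_mul, zpow_two, t2, one_zpow, one_mul, zpow_one]
    have hlt : Subgroup.zpowers w < (T : Subgroup G) ⊓ C := by
      refine lt_of_le_of_ne hW ?_
      intro h
      apply hrW; rw [h]; exact ⟨hr, (hCm r).2 rt⟩
    have h1 : Nat.card ((T : Subgroup G) ⊓ C : Subgroup G) ∣ 8 := by
      rw [← hT]; exact Subgroup.card_dvd_of_le inf_le_left
    have h2 : 4 ∣ Nat.card ((T : Subgroup G) ⊓ C : Subgroup G) := by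
      rw [← hWc]; exact Subgroup.card_dvd_of_le hW
    have h3 : Nat.card ((T : Subgroup G) ⊓ C : Subgroup G) ≠ 4 := by
      intro h
      apply hlt.ne
      apply Subgroup.eq_of_le_of_card_ge hW
      rw [h, hWc]
    have h4 : Nat.card ((T : Subgroup G) ⊓ C : Subgroup G) = 8 := by
      have h5 := Nat.le_of_dvd (by norm_num) h1
      interval_cases h6 : Nat.card ((T : Subgroup G) ⊓ C : Subgroup G) <;> omega
    have h5 : (T : Subgroup G) ⊓ C = T := by
      apply Subgroup.eq_of_le_of_card_ge inf_le_left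
      rw [h4]; exact le_of_eq hT
    rw [← h5]; exact inf_le_right
  set T' := T.subtype hTC with hT'
  have hT'c : (T' : Subgroup C) = (T : Subgroup G).subgroupOf C := Sylow.coe_subtype _ _
  have hT'card : Nat.card T' = 8 := by
    have : Nat.card T' = Nat.card ((T : Subgroup G).subgroupOf C) := by
      show Nat.card (T' : Subgroup C) = _
      rw [hT'c]
    rw [this, ← hT]
    exact Nat.card_congr (Subgroup.subgroupOfEquivOfLe hTC).toEquiv
  have htC : t ∈ C := hTC ht
  obtain ⟨U, hUn, hUo, hUc⟩ := central_compl T' hT'card (t := ⟨t, htC⟩) (r := ⟨r, hTC hr⟩) (s := ⟨s, hTC hs⟩) (w := ⟨w, hwC⟩)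
    (by rw [hT'c]; exact Subgroup.mem_subgroupOf.2 hr) (by rw [hT'c]; exact Subgroup.mem_subgroupOf.2 hs)
    (fun x => Subtype.ext ((hCm x).1 x.2)) (fun h => t1 (congrArg Subtype.val h)) (Subtype.ext t2) (Subtype.ext r2) (Subtype.ext s2)
    (Subtype.ext rs) (Subtype.ext ww) (fun h => r1 (congrArg Subtype.val h)) (fun h => s1 (congrArg Subtype.val h))
    (fun h => rnt (congrArg Subtype.val h)) (fun h => snt (congrArg Subtype.val h))
  have hUm : Nat.card (U.map C.subtype) = Nat.card U := Subgroup.card_map_of_injective (Subgroup.subtype_injective _)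
  refine ⟨U.map C.subtype, ?_, ?_, ?_, ?_, ?_⟩
  · rw [hUm]; exact hUo
  · rintro _ ⟨x, hx, rfl⟩; exact x.2
  · rintro x hx _ ⟨y, hy, rfl⟩
    exact ⟨⟨x, hx⟩ * y * ⟨x, hx⟩⁻¹, hUn.conj_mem _ hy _, rfl⟩
  · rw [hUm]; exact hUc
  · have hcompl : Subgroup.IsComplement' U (T' : Subgroup C) := by
      apply Subgroup.isComplement'_of_coprime
      · have h8 : Nat.card (T' : Subgroup C) = 8 := hT'card
        rw [h8, hUc]; ring
      · have h8 : Nat.card (T' : Subgroup C) = 8 := hT'card
        rw [h8]
        have : (8 : ℕ) = 2 ^ 3 := by norm_num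
        rw [this]
        exact Nat.Coprime.pow_right 3 (Nat.coprime_two_right.2 hUo)
    have h1 := hcompl.sup_eq_top
    have h2 := congrArg (Subgroup.map C.subtype) h1
    rw [Subgroup.map_sup, hT'c, Subgroup.subgroupOf_map_subtype, inf_eq_left.2 hTC] at h2
    rw [h2, ← MonoidHom.range_eq_map, Subgroup.range_subtype]

theorem CEN {G : Type u} [Group G] [Fintype G] {Ω : Type v} [Fintype Ω] [MulAction G Ω] {p : ℕ} (hB : Base G Ω p) {T : Sylow 2 G} {t r s v : G} {a b c : Ω} (h : D8 G Ω T t r s v a b c) :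
    ∃ U : Subgroup G, Cen G T t U := by
  obtain ⟨U, h1, h2, h3, h4, h5⟩ := cen_group T h.card h.rT h.sT h.ot h.or h.os h.ov h.vv h.rs h.rt h.st h.rnt h.snt
  exact ⟨U, ⟨h1, h2, h3, h4, h5⟩⟩

end Cfsg.Agent.Lib.H52_CEN
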