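import Mathlib
import Cfsg.Agent.Lib.H52T0

set_option autoImplicit false
set_option linter.all false

namespace Cfsg.Agent.Lib.H52_CYC

universe u v
variable {G : Type u} [Group G] [Finite G] {Ω : Type v} [Finite Ω] [MulAction G Ω]

theorem cyc_prime (y : G) (r : ℕ) (hr : r.Prime) (hy : orderOf y = r) :
    Nat.card (MulAction.orbitRel.Quotient (Subgroup.zpowers y) Ω) * r =
      Nat.card Ω + (r - 1) * Nat.card (MulAction.fixedBy Ω y) := by
  classical
  letI := Fintype.ofFinite G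
  letI := Fintype.ofFinite Ω
  letI : Fintype (MulAction.orbitRel.Quotient (Subgroup.zpowers y) Ω) := Fintype.ofFinite _
  have hb := MulAction.sum_card_fixedBy_eq_card_orbits_mul_card_group (Subgroup.zpowers y) Ω
  have hcard : Fintype.card (Subgroup.zpowers y) = r := by
    rw [← Nat.card_eq_fintype_card, Nat.card_zpowers, hy]
  have hone : Fintype.card (MulAction.fixedBy Ω (1 : Subgroup.zpowers y)) = Nat.card Ω := by
    rw [← Nat.card_eq_fintype_card, MulAction.fixedBy_one_eq_univ, Nat.card_congr (Equiv.Set.univ Ω)]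
  have hne : ∀ a : Subgroup.zpowers y, a ≠ 1 →
      Fintype.card (MulAction.fixedBy Ω a) = Nat.card (MulAction.fixedBy Ω y) := by
    intro a ha
    rw [← Nat.card_eq_fintype_card]
    have h1 : MulAction.fixedBy Ω a = MulAction.fixedBy Ω y := by
      ext w
      rw [MulAction.mem_fixedBy, MulAction.mem_fixedBy]
      haveI : Fact (Nat.card (Subgroup.zpowers y)).Prime := ⟨by rw [Nat.card_zpowers, hy]; exact hr⟩
      constructor
      · intro h
        have h2 : a ∈ MulAction.stabilizer (Subgroup.zpowers y) w := h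
        rcases (MulAction.stabilizer (Subgroup.zpowers y) w).eq_bot_or_eq_top_of_prime_card with h3 | h3
        · rw [h3, Subgroup.mem_bot] at h2
          exact absurd h2 ha
        · have h4 : (⟨y, Subgroup.mem_zpowers y⟩ : Subgroup.zpowers y) ∈ MulAction.stabilizer (Subgroup.zpowers y) w := by
            rw [h3]; trivial
          exact h4
      · intro h
        have h2 : y ∈ MulAction.stabilizer G w := h
        have h3 : (a : G) ∈ MulAction.stabilizer G w := (Subgroup.zpowers_le.2 h2) a.2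
        exact h3
    rw [h1]
  rw [Fintype.sum_eq_add_sum_compl (1 : Subgroup.zpowers y), hone, hcard] at hb
  rw [Nat.card_eq_fintype_card (α := MulAction.orbitRel.Quotient (Subgroup.zpowers y) Ω)]
  rw [← hb]
  congr 1
  rw [Finset.sum_congr rfl (fun a ha => hne a (by simpa using ha)), Finset.sum_const, Finset.card_compl,
    Finset.card_singleton, hcard, smul_eq_mul]

/-- fibres modulo a prime -/
theorem fib_mod (K : Subgroup G) (y : G) (hyK : y ∈ K) (r : ℕ) (hr : r.Prime) (hy : y ^ r = 1)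
    (ω : MulAction.orbitRel.Quotient K Ω) :
    Nat.card {w : Ω // (Quotient.mk'' w : MulAction.orbitRel.Quotient K Ω) = ω} ≡
      Nat.card {w : MulAction.fixedBy Ω y // (Quotient.mk'' (w : Ω) : MulAction.orbitRel.Quotient K Ω) = ω} [MOD r] := by
  classical
  letI := Fintype.ofFinite Ω
  have hq : ∀ w : Ω, (Quotient.mk'' (y • w) : MulAction.orbitRel.Quotient K Ω) = Quotient.mk'' w := by
    intro w
    apply Quotient.sound'
    exact ⟨⟨y, hyK⟩, rfl⟩
  let f : Function.End {w : Ω // (Quotient.mk'' w : MulAction.orbitRel.Quotient K Ω) = ω} :=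
    fun w => ⟨y • w.1, by rw [hq]; exact w.2⟩
  have hf : ∀ (k : ℕ) w, ((f ^ k) w : Ω) = y ^ k • (w : Ω) := by
    intro k
    induction k with
    | zero => intro w; rw [pow_zero, pow_zero, one_smul]; rfl
    | succ k ih =>
      intro w
      rw [pow_succ, pow_succ, mul_smul]
      exact ih (f w)
  haveI : Fact r.Prime := ⟨hr⟩
  have h1 : f ^ r ^ 1 = 1 := by
    funext w
    apply Subtype.ext
    rw [hf, pow_one, hy, one_smul]
    rfl
  letI : Fintype {w : Ω // (Quotient.mk'' w : MulAction.orbitRel.Quotient K Ω) = ω} := Fintype.ofFinite _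
  have h2 := Equiv.Perm.card_fixedPoints_modEq (n := 1) h1
  rw [← Nat.card_eq_fintype_card, ← Nat.card_eq_fintype_card] at h2
  have h3 : Nat.card (Function.fixedPoints f) =
      Nat.card {w : MulAction.fixedBy Ω y // (Quotient.mk'' (w : Ω) : MulAction.orbitRel.Quotient K Ω) = ω} := by
    refine Nat.card_congr
      { toFun := fun w => ⟨⟨w.1.1, congrArg Subtype.val w.2⟩, w.1.2⟩
        invFun := fun w => ⟨⟨w.1.1, w.2⟩, Subtype.ext w.1.2⟩
        left_inv := fun w => rfl
        right_inv := fun w => rfl }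
  rw [← h3]
  exact h2

theorem orb_le_two (p : ℕ) (hp : p.Prime) (hp2 : p ≠ 2) (x t : G) (hx : orderOf x = p) (ht : orderOf t = 2)
    (hxf : Nat.card (MulAction.fixedBy Ω x) = 0) (htf : Nat.card (MulAction.fixedBy Ω t) = 1)
    (hΩ : Nat.card Ω = 3 * p) (K : Subgroup G) (hxK : x ∈ K) (htK : t ∈ K) :
    Nat.card (MulAction.orbitRel.Quotient K Ω) ≤ 2 := by
  classical
  letI : Fintype (MulAction.orbitRel.Quotient K Ω) := Fintype.ofFinite _
  have h1 : Nat.card Ω = ∑ ω : MulAction.orbitRel.Quotient K Ω,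
      Nat.card {w : Ω // (Quotient.mk'' w : MulAction.orbitRel.Quotient K Ω) = ω} := by
    rw [← Nat.card_sigma]
    exact Nat.card_congr (Equiv.sigmaFiberEquiv (fun w : Ω => (Quotient.mk'' w : MulAction.orbitRel.Quotient K Ω))).symm
  have h2 : Nat.card (MulAction.fixedBy Ω t) = ∑ ω : MulAction.orbitRel.Quotient K Ω,
      Nat.card {w : MulAction.fixedBy Ω t // (Quotient.mk'' (w : Ω) : MulAction.orbitRel.Quotient K Ω) = ω} := by
    rw [← Nat.card_sigma]
    exact Nat.card_congr (Equiv.sigmaFiberEquiv (fun w : MulAction.fixedBy Ω t =>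
      (Quotient.mk'' (w : Ω) : MulAction.orbitRel.Quotient K Ω))).symm
  have h3 : ∀ ω : MulAction.orbitRel.Quotient K Ω, 2 * p ≤
      Nat.card {w : Ω // (Quotient.mk'' w : MulAction.orbitRel.Quotient K Ω) = ω} + p *
      Nat.card {w : MulAction.fixedBy Ω t // (Quotient.mk'' (w : Ω) : MulAction.orbitRel.Quotient K Ω) = ω} := by
    intro ω
    have h4 := fib_mod K x hxK p hp (by rw [← hx]; exact pow_orderOf_eq_one x) ω
    have h5 := fib_mod K t htK 2 Nat.prime_two (by rw [← ht]; exact pow_orderOf_eq_one t) ω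
    have h6 : Nat.card {w : MulAction.fixedBy Ω x // (Quotient.mk'' (w : Ω) : MulAction.orbitRel.Quotient K Ω) = ω} = 0 := by
      haveI : IsEmpty (MulAction.fixedBy Ω x) := by
        rcases Nat.card_eq_zero.1 hxf with h | h
        · exact h
        · exact absurd (inferInstance : Finite (MulAction.fixedBy Ω x)) (not_finite_iff_infinite.2 h)
      haveI : IsEmpty {w : MulAction.fixedBy Ω x // (Quotient.mk'' (w : Ω) : MulAction.orbitRel.Quotient K Ω) = ω} :=
        ⟨fun w => IsEmpty.false w.1⟩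
      exact Nat.card_of_isEmpty
    rw [h6] at h4
    obtain ⟨c, hc⟩ := (Nat.modEq_zero_iff_dvd).1 h4
    obtain ⟨w0, hw0⟩ := Quotient.exists_rep ω
    have h7 : 0 < Nat.card {w : Ω // (Quotient.mk'' w : MulAction.orbitRel.Quotient K Ω) = ω} := by
      haveI : Nonempty {w : Ω // (Quotient.mk'' w : MulAction.orbitRel.Quotient K Ω) = ω} := ⟨⟨w0, hw0⟩⟩
      exact Nat.card_pos
    rw [hc] at h5 h7 ⊢
    have hc0 : 0 < c := by
      rcases Nat.eq_zero_or_pos c with h | h
      · rw [h, mul_zero] at h7; exact absurd h7 (lt_irrefl 0)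
      · exact h
    rcases Nat.eq_zero_or_pos (Nat.card {w : MulAction.fixedBy Ω t // (Quotient.mk'' (w : Ω) : MulAction.orbitRel.Quotient K Ω) = ω}) with h8 | h8
    · rw [h8] at h5 ⊢
      have h9 : 2 ∣ p * c := (Nat.modEq_zero_iff_dvd).1 h5
      have h10 : 2 ∣ c := by
        rcases (Nat.prime_two.dvd_mul).1 h9 with h | h
        · exact absurd ((Nat.prime_dvd_prime_iff_eq Nat.prime_two hp).1 h).symm hp2
        · exact h
      have h11 : 2 ≤ c := Nat.le_of_dvd hc0 h10
      nlinarith [hp.pos]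
    · nlinarith [hp.pos]
  have h4 : ∑ ω : MulAction.orbitRel.Quotient K Ω, (2 * p) ≤ 3 * p + p * 1 := by
    rw [← hΩ, h1, ← htf, h2, Finset.mul_sum, ← Finset.sum_add_distrib]
    exact Finset.sum_le_sum fun ω _ => h3 ω
  rw [Finset.sum_const, smul_eq_mul, Finset.card_univ, ← Nat.card_eq_fintype_card] at h4
  by_contra hcon
  have h5 : 3 ≤ Nat.card (MulAction.orbitRel.Quotient K Ω) := by omega
  nlinarith [hp.pos]

theorem cyc_conj (g g' : G) (h : IsConj g g') :
    Nat.card (MulAction.orbitRel.Quotient (Subgroup.zpowers g) Ω) =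
      Nat.card (MulAction.orbitRel.Quotient (Subgroup.zpowers g') Ω) := by
  obtain ⟨c, hc⟩ := isConj_iff.1 h
  refine Nat.card_congr (Quotient.congr (MulAction.toPerm c) ?_)
  intro a b
  constructor
  · rintro ⟨⟨z, hz⟩, hzz⟩
    obtain ⟨k, rfl⟩ := Subgroup.mem_zpowers_iff.1 hz
    refine ⟨⟨g' ^ k, Subgroup.zpow_mem_zpowers g' k⟩, ?_⟩
    have h1 : (g ^ k) • b = a := hzz
    show g' ^ k • (c • b) = c • a
    rw [← h1, ← hc, conj_zpow, ← mul_smul, ← mul_smul, inv_mul_cancel_right]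
  · rintro ⟨⟨z, hz⟩, hzz⟩
    obtain ⟨k, rfl⟩ := Subgroup.mem_zpowers_iff.1 hz
    refine ⟨⟨g ^ k, Subgroup.zpow_mem_zpowers g k⟩, ?_⟩
    have h1 : (g' ^ k) • (c • b) = c • a := hzz
    show g ^ k • b = a
    rw [← hc, conj_zpow, ← mul_smul, inv_mul_cancel_right, mul_smul] at h1
    exact smul_left_cancel c h1

section main
open Cfsg Cfsg.Agent.Lib.BRPerm Cfsg.Agent.Lib.BRCore Cfsg.Agent.Lib.BRInd Cfsg.Agent.Lib.CharBasic Cfsg.Agent.Lib.BlockThird Cfsg.Agent.Lib.H52T0 Cfsg.Agent.Lib.H15RealP Cfsg.Agent.Lib.BRB0 Cfsg.Agent.Lib.DefOneLoc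

theorem CYC_aux {G : Type u} [Group G] [Fintype G] {Ω : Type v} [Fintype Ω] [MulAction G Ω] {p : ℕ}
    (ree : ∀ (x t g : G), t * g = x → cyc Ω x + cyc Ω t + cyc Ω g ≤ Nat.card Ω +
      2 * Nat.card (MulAction.orbitRel.Quotient (Subgroup.closure ({x, t} : Set G)) Ω))
    (hB : Base G Ω p) (h1 : ∀ t : G, orderOf t = 2 → fx Ω t = 1) {g : G} (hg : g ≠ 1) (hp : ¬ p ∣ orderOf g) :
    2 * cyc Ω g ≤ 3 * p + 1 := by
  obtain ⟨t, ht⟩ := hB.inv
  obtain ⟨t', g', htt, hgg, hx⟩ := hB.prod t g ht hg hp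
  have ht' : orderOf t' = 2 := by
    obtain ⟨c, hc⟩ := isConj_iff.1 htt
    rw [← hc, ← ht]
    exact (MulAut.conj c).orderOf_eq t
  have hxf : Nat.card (MulAction.fixedBy Ω (t' * g')) = 0 := hB.sing _ (by rw [hx])
  have htf : Nat.card (MulAction.fixedBy Ω t') = 1 := h1 t' ht'
  have h2 := ree (t' * g') t' g' rfl
  have h3 := orb_le_two p hB.hp (by have := hB.h5; omega) (t' * g') t' hx ht' hxf htf hB.card
    (Subgroup.closure ({t' * g', t'} : Set G)) (Subgroup.subset_closure (by simp)) (Subgroup.subset_closure (by simp))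
  have h4 := cyc_prime (Ω := Ω) (t' * g') p hB.hp hx
  have h5 := cyc_prime (Ω := Ω) t' 2 Nat.prime_two ht'
  rw [hxf, hB.card, mul_zero, add_zero] at h4
  rw [htf, hB.card] at h5
  have h6 : cyc Ω (t' * g') = 3 := Nat.eq_of_mul_eq_mul_right hB.hp.pos h4
  have h7 : 2 * cyc Ω t' = 3 * p + 1 := by
    have : cyc Ω t' * 2 = 3 * p + (2 - 1) * 1 := h5
    omega
  have h8 : cyc Ω g = cyc Ω g' := cyc_conj g g' hgg
  rw [hB.card] at h2
  rw [h8]
  omega

end main

end Cfsg.Agent.Lib.H52_CYC
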