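import Mathlib
import Cfsg.Agent.Lib.H52T0

set_option autoImplicit false
set_option linter.unusedSectionVars false

/-! The Ree inequality for three permutations with product one, in terms of numbers of orbits. -/

namespace Cfsg.Agent.Lib.H52_REE

open Module LinearMap

universe u v

/-- `1 - X` -/
abbrev dd {k V : Type*} [Field k] [AddCommGroup V] [Module k V] (X : V →ₗ[k] V) : V →ₗ[k] V := LinearMap.id - X

section scott
variable {k V : Type*} [Field k] [AddCommGroup V] [Module k V] [FiniteDimensional k V]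

/-- Scott's inequality for three maps with product one -/
theorem scott (X Y Z : V →ₗ[k] V) (h : ∀ v, X (Y (Z v)) = v) :
    finrank k V + finrank k (range (dd X) ⊔ range (dd Y) ⊔ range (dd Z) : Submodule k V) ≤
      finrank k (range (dd X)) + finrank k (range (dd Y)) + finrank k (range (dd Z)) +
      finrank k (ker (dd X) ⊓ ker (dd Y) ⊓ ker (dd Z) : Submodule k V) := by
  let A := range (dd X)
  let B := range (dd Y)
  let C := range (dd Z)
  let β : V →ₗ[k] A × (B × C) := LinearMap.prod (dd X).rangeRestrict (LinearMap.prod (dd Y).rangeRestrict (dd Z).rangeRestrict)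
  let δ : A × (B × C) →ₗ[k] V := LinearMap.coprod A.subtype (LinearMap.coprod (X ∘ₗ B.subtype) (X ∘ₗ Y ∘ₗ C.subtype))
  have h1 := LinearMap.finrank_range_add_finrank_ker δ
  have h2 := LinearMap.finrank_range_add_finrank_ker β
  have h3 : finrank k (A × (B × C)) = finrank k A + (finrank k B + finrank k C) := by
    rw [Module.finrank_prod, Module.finrank_prod]
  have h4 : range β ≤ ker δ := by
    rintro _ ⟨v, rfl⟩
    rw [LinearMap.mem_ker]
    show (v - X v) + (X (v - Y v) + X (Y (v - Z v))) = 0
    rw [map_sub, map_sub, map_sub, h v]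
    abel
  have h5 : ker β = ker (dd X) ⊓ ker (dd Y) ⊓ ker (dd Z) := by
    ext v
    simp only [Submodule.mem_inf, LinearMap.mem_ker]
    constructor
    · intro hv
      have e1 : (dd X) v = 0 := congrArg (fun w : A × (B × C) => (w.1 : V)) hv
      have e2 : (dd Y) v = 0 := congrArg (fun w : A × (B × C) => (w.2.1 : V)) hv
      have e3 : (dd Z) v = 0 := congrArg (fun w : A × (B × C) => (w.2.2 : V)) hv
      exact ⟨⟨e1, e2⟩, e3⟩
    · rintro ⟨⟨e1, e2⟩, e3⟩
      exact Prod.ext (Subtype.ext e1) (Prod.ext (Subtype.ext e2) (Subtype.ext e3))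
  have h6 : A ⊔ B ⊔ C ≤ range δ := by
    have hA : A ≤ range δ := by
      intro a ha
      refine ⟨(⟨a, ha⟩, 0), ?_⟩
      show a + (X 0 + X (Y 0)) = a
      simp
    have hB : B ≤ range δ := by
      intro b hb
      have e1 : b - X b ∈ A := ⟨b, rfl⟩
      refine ⟨(⟨b - X b, e1⟩, (⟨b, hb⟩, 0)), ?_⟩
      show (b - X b) + (X b + X (Y 0)) = b
      simp
    have hC : C ≤ range δ := by
      intro c hc
      have e0 : X (Y c) ∈ range δ := by
        refine ⟨(0, (0, ⟨c, hc⟩)), ?_⟩
        show 0 + (X 0 + X (Y c)) = _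
        simp
      have e1 : c - X c ∈ range δ := hA ⟨c, rfl⟩
      have e2 : X (c - Y c) ∈ range δ := by
        refine ⟨(0, (⟨c - Y c, ⟨c, rfl⟩⟩, 0)), ?_⟩
        show 0 + (X (c - Y c) + X (Y 0)) = _
        simp
      have : c = (c - X c) + X (c - Y c) + X (Y c) := by rw [map_sub]; abel
      rw [this]
      exact Submodule.add_mem _ (Submodule.add_mem _ e1 e2) e0
    exact sup_le (sup_le hA hB) hC
  have h7 := Submodule.finrank_mono h4
  have h8 := Submodule.finrank_mono h6
  rw [h5] at h2
  have h9 : finrank k (range (dd X) ⊔ range (dd Y) ⊔ range (dd Z) : Submodule k V) ≤ finrank k (range δ) := h8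
  have h10 : finrank k A = finrank k (range (dd X)) := rfl
  have h11 : finrank k B = finrank k (range (dd Y)) := rfl
  have h12 : finrank k C = finrank k (range (dd Z)) := rfl
  omega

end scott

section act
variable {G : Type u} [Group G] (Ω : Type v) [Fintype Ω] [MulAction G Ω]

/-- the action on functions -/
noncomputable def R (g : G) : (Ω → ℚ) →ₗ[ℚ] (Ω → ℚ) := LinearMap.funLeft ℚ ℚ (fun a : Ω => g • a)

omit [Fintype Ω] in
theorem R_apply (g : G) (f : Ω → ℚ) (a : Ω) : R Ω g f a = f (g • a) := rfl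

/-- fixed functions -/
def Fx (H : Subgroup G) : Submodule ℚ (Ω → ℚ) where
  carrier := {f | ∀ h ∈ H, ∀ a : Ω, f (h • a) = f a}
  add_mem' := by
    intro f g hf hg h hh a
    show f (h • a) + g (h • a) = f a + g a
    rw [hf h hh a, hg h hh a]
  zero_mem' := by
    intro h _ a
    rfl
  smul_mem' := by
    intro c f hf h hh a
    show c • f (h • a) = c • f a
    rw [hf h hh a]

theorem finrank_Fx (H : Subgroup G) : finrank ℚ (Fx Ω H) = Nat.card (MulAction.orbitRel.Quotient H Ω) := by
  classical
  have : Fintype (MulAction.orbitRel.Quotient H Ω) := Fintype.ofFinite _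
  let φ : (MulAction.orbitRel.Quotient H Ω → ℚ) →ₗ[ℚ] Fx Ω H :=
    (LinearMap.funLeft ℚ ℚ (fun a : Ω => (Quotient.mk'' a : MulAction.orbitRel.Quotient H Ω))).codRestrict (Fx Ω H) (by
      intro f h hh a
      show f (Quotient.mk'' (h • a)) = f (Quotient.mk'' a)
      congr 1
      apply Quotient.sound'
      exact ⟨⟨h, hh⟩, rfl⟩)
  have hφ : Function.Bijective φ := by
    constructor
    · intro f g hfg
      funext q
      induction q using Quotient.inductionOn' with
      | h a => exact congrFun (congrArg Subtype.val hfg) a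
    · rintro ⟨f, hf⟩
      refine ⟨fun q => Quotient.liftOn' q f (by
        rintro a b ⟨⟨h, hh⟩, rfl⟩
        exact hf h hh b), ?_⟩
      apply Subtype.ext
      rfl
  rw [← (LinearEquiv.ofBijective φ hφ).finrank_eq, Module.finrank_fintype_fun_eq_card, Nat.card_eq_fintype_card]

theorem mem_Fx_closure {s : Set G} {f : Ω → ℚ} (hf : ∀ g ∈ s, ∀ a : Ω, f (g • a) = f a) :
    f ∈ Fx Ω (Subgroup.closure s) := by
  intro h hh
  induction hh using Subgroup.closure_induction with
  | mem x hx => exact hf x hx
  | one => intro a; rw [one_smul]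
  | mul x y _ _ hx hy =>
    intro a
    rw [mul_smul, hx, hy]
  | inv x _ hx =>
    intro a
    have h1 := hx (x⁻¹ • a)
    rw [smul_inv_smul] at h1
    exact h1.symm

theorem ker_apply {g : G} {f : Ω → ℚ} (hf : f ∈ ker (dd (R Ω g))) (a : Ω) : f (g • a) = f a := by
  have : f a - f (g • a) = 0 := congrFun (LinearMap.mem_ker.1 hf) a
  linarith

theorem ker_eq (g : G) : ker (dd (R Ω g)) = Fx Ω (Subgroup.zpowers g) := by
  ext f
  constructor
  · intro hf
    rw [Subgroup.zpowers_eq_closure]
    apply mem_Fx_closure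
    intro g' hg' a
    rw [Set.mem_singleton_iff.1 hg']
    exact ker_apply Ω hf a
  · intro hf
    rw [LinearMap.mem_ker]
    funext a
    show f a - f (g • a) = 0
    rw [hf g (Subgroup.mem_zpowers g) a, sub_self]

theorem rank_eq (g : G) : finrank ℚ (range (dd (R Ω g))) +
    Nat.card (MulAction.orbitRel.Quotient (Subgroup.zpowers g) Ω) = Nat.card Ω := by
  have h1 := LinearMap.finrank_range_add_finrank_ker (dd (R Ω g))
  rw [ker_eq, finrank_Fx, Module.finrank_fintype_fun_eq_card] at h1
  rw [h1, Nat.card_eq_fintype_card]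

theorem REE' (x t g : G) (h : t * g = x) :
    Nat.card (MulAction.orbitRel.Quotient (Subgroup.zpowers x) Ω) +
      Nat.card (MulAction.orbitRel.Quotient (Subgroup.zpowers t) Ω) +
      Nat.card (MulAction.orbitRel.Quotient (Subgroup.zpowers g) Ω) ≤
    Nat.card Ω + 2 * Nat.card (MulAction.orbitRel.Quotient (Subgroup.closure ({x, t} : Set G)) Ω) := by
  classical
  have hsc := scott (R Ω x⁻¹) (R Ω g) (R Ω t) (by
    intro f
    funext a
    show f (t • g • x⁻¹ • a) = f a
    rw [← mul_smul, ← mul_smul, h, mul_inv_cancel, one_smul])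
  set S : Submodule ℚ (Ω → ℚ) := range (dd (R Ω x⁻¹)) ⊔ range (dd (R Ω g)) ⊔ range (dd (R Ω t)) with hS
  have hSx : ∀ f, dd (R Ω x⁻¹) f ∈ S := fun f => Submodule.mem_sup_left (Submodule.mem_sup_left ⟨f, rfl⟩)
  have hSt : ∀ f, dd (R Ω t) f ∈ S := fun f => Submodule.mem_sup_right ⟨f, rfl⟩
  have hinv : ∀ g : G, (∀ f, dd (R Ω g) f ∈ S) → ∀ f, dd (R Ω g⁻¹) f ∈ S := by
    intro g hg f
    have : dd (R Ω g⁻¹) f = -(dd (R Ω g) (R Ω g⁻¹ f)) := by
      funext a
      show f a - f (g⁻¹ • a) = -(f (g⁻¹ • a) - f (g⁻¹ • g • a))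
      rw [inv_smul_smul]; ring
    rw [this]; exact S.neg_mem (hg _)
  have hcl : ∀ g ∈ Subgroup.closure ({x, t} : Set G), ∀ f, dd (R Ω g) f ∈ S := by
    intro g hg
    induction hg using Subgroup.closure_induction with
    | mem g hg =>
      rcases hg with rfl | hg
      · have := hinv _ hSx
        rwa [inv_inv] at this
      · rw [Set.mem_singleton_iff.1 hg]; exact hSt
    | one =>
      intro f
      have : dd (R Ω (1 : G)) f = 0 := by
        funext a
        show f a - f ((1 : G) • a) = 0
        rw [one_smul, sub_self]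
      rw [this]; exact S.zero_mem
    | mul g h _ _ hg hh =>
      intro f
      have : dd (R Ω (g * h)) f = dd (R Ω g) f + dd (R Ω h) (R Ω g f) := by
        funext a
        show f a - f ((g * h) • a) = (f a - f (g • a)) + (f (g • a) - f (g • h • a))
        rw [mul_smul]
        ring
      rw [this]; exact S.add_mem (hg f) (hh _)
    | inv g _ hg => exact hinv g hg
  -- the sum of the ranges is large
  have : Fintype (MulAction.orbitRel.Quotient (Subgroup.closure ({x, t} : Set G)) Ω) := Fintype.ofFinite _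
  let e : MulAction.orbitRel.Quotient (Subgroup.closure ({x, t} : Set G)) Ω → (Ω → ℚ) := fun q => Pi.single q.out 1
  have hT : finrank ℚ (Submodule.span ℚ (Set.range e)) ≤
      Nat.card (MulAction.orbitRel.Quotient (Subgroup.closure ({x, t} : Set G)) Ω) := by
    rw [Nat.card_eq_fintype_card]
    exact finrank_range_le_card e
  have htop : S ⊔ Submodule.span ℚ (Set.range e) = ⊤ := by
    rw [eq_top_iff]
    have h1 : ∀ a : Ω, (Pi.single a (1 : ℚ) : Ω → ℚ) ∈ S ⊔ Submodule.span ℚ (Set.range e) := by
      intro a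
      let q : MulAction.orbitRel.Quotient (Subgroup.closure ({x, t} : Set G)) Ω := Quotient.mk'' a
      have hq : MulAction.orbitRel (Subgroup.closure ({x, t} : Set G)) Ω a q.out := by
        apply Quotient.exact'
        rw [Quotient.out_eq']
      obtain ⟨⟨k, hk⟩, hka⟩ := hq
      have hka' : k • q.out = a := hka
      have h2 : R Ω k (Pi.single a (1 : ℚ)) = Pi.single q.out (1 : ℚ) := by
        funext b
        rw [R_apply, ← hka', Pi.single_apply, Pi.single_apply]
        simp only [smul_left_cancel_iff]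
      have h3 : (Pi.single a (1 : ℚ) : Ω → ℚ) = dd (R Ω k) (Pi.single a (1 : ℚ)) + Pi.single q.out (1 : ℚ) := by
        rw [← h2]
        show _ = (Pi.single a (1 : ℚ) - R Ω k (Pi.single a (1 : ℚ))) + _
        rw [sub_add_cancel]
      rw [h3]
      exact Submodule.add_mem_sup (hcl k hk _) (Submodule.subset_span ⟨q, rfl⟩)
    intro f _
    rw [show f = ∑ a : Ω, f a • (Pi.single a (1 : ℚ) : Ω → ℚ) by
      funext b
      simp [Finset.sum_apply, Pi.single_apply]]
    exact Submodule.sum_mem _ fun a _ => Submodule.smul_mem _ _ (h1 a)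
  have h5 := Submodule.finrank_add_le_finrank_add_finrank S (Submodule.span ℚ (Set.range e))
  rw [htop, finrank_top] at h5
  -- the common kernel
  have hK : ker (dd (R Ω x⁻¹)) ⊓ ker (dd (R Ω g)) ⊓ ker (dd (R Ω t)) ≤ Fx Ω (Subgroup.closure ({x, t} : Set G)) := by
    rintro f ⟨⟨hf1, -⟩, hf3⟩
    apply mem_Fx_closure
    intro k hk a
    rcases hk with rfl | hk
    · have := ker_apply Ω hf1 (k • a)
      rw [inv_smul_smul] at this
      exact this.symm
    · rw [Set.mem_singleton_iff.1 hk]
      exact ker_apply Ω hf3 a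
  have hK' := Submodule.finrank_mono hK
  rw [finrank_Fx] at hK'
  have r1 := rank_eq Ω x⁻¹
  have r2 := rank_eq Ω g
  have r3 := rank_eq Ω t
  rw [Subgroup.zpowers_inv] at r1
  rw [Module.finrank_fintype_fun_eq_card, ← Nat.card_eq_fintype_card] at hsc h5
  omega

end act

open Cfsg.Agent.Lib.H52T0

theorem REE {G : Type u} [Group G] [Fintype G] {Ω : Type v} [Fintype Ω] [MulAction G Ω] (x t g : G) (h : t * g = x) :
    cyc Ω x + cyc Ω t + cyc Ω g ≤
      Nat.card Ω + 2 * Nat.card (MulAction.orbitRel.Quotient (Subgroup.closure ({x, t} : Set G)) Ω) :=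
  REE' Ω x t g h

end Cfsg.Agent.Lib.H52_REE
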