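import Mathlib
import Cfsg.Agent.Lib.H52T0
import Cfsg.Agent.Lib.H52_REE
import Cfsg.Agent.Lib.H52_CYCa

set_option autoImplicit false
set_option linter.all false

namespace Cfsg.Agent.Lib.H52_CYC

universe u v

open Cfsg Cfsg.Agent.Lib.BRPerm Cfsg.Agent.Lib.BRCore Cfsg.Agent.Lib.BRInd Cfsg.Agent.Lib.CharBasic Cfsg.Agent.Lib.BlockThird Cfsg.Agent.Lib.H52T0 Cfsg.Agent.Lib.H15RealP Cfsg.Agent.Lib.BRB0 Cfsg.Agent.Lib.DefOneLoc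

/-- CYC -/
theorem CYC {G : Type u} [Group G] [Fintype G] {Ω : Type v} [Fintype Ω] [MulAction G Ω] {p : ℕ}
    (hB : Base G Ω p) (h1 : ∀ t : G, orderOf t = 2 → fx Ω t = 1) {g : G} (hg : g ≠ 1) (hp : ¬ p ∣ orderOf g) :
    2 * cyc Ω g ≤ 3 * p + 1 :=
  CYC_aux (fun x t g h => Cfsg.Agent.Lib.H52_REE.REE x t g h) hB h1 hg hp

end Cfsg.Agent.Lib.H52_CYC
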