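import Mathlib
import Cfsg.Agent.Lib.H15Deg2p
import Cfsg.Agent.Lib.ColTools

/-!
# S3254, piece KBASE, class algebra part: products of an involution and a `p`-regular element (helper99)
-/

set_option autoImplicit false

namespace Cfsg.Agent.Lib.H52_KPROD

open Cfsg Cfsg.Agent.Lib.DefOneLoc Cfsg.Agent.Lib.DefOneOrd Cfsg.Agent.Lib.CharBasic
open Cfsg.Agent.Lib.BlockThird Cfsg.Agent.Lib.DefOnePrin Cfsg.Agent.Lib.BRB0
open Cfsg.Agent.Lib.BRCore Cfsg.Agent.Lib.BRInd Cfsg.Agent.Lib.BRPerm Cfsg.Agent.Lib.H15RealP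

open scoped ComplexConjugate

universe u

section gen

variable {G : Type u} [Group G] [Fintype G]

theorem inner_comb (m : IrrCharacter G → ℂ) (η : IrrCharacter G) :
    classInner (fun y => ∑ θ : IrrCharacter G, m θ * (θ : G → ℂ) y) (η : G → ℂ) = m η := by
  classical
  have h1 : ∀ θ : IrrCharacter G, classInner (θ : G → ℂ) (η : G → ℂ) = if θ = η then 1 else 0 := fun θ => irr_orthonormal θ η
  have h2 : classInner (fun y => ∑ θ : IrrCharacter G, m θ * (θ : G → ℂ) y) (η : G → ℂ) =
      ∑ θ : IrrCharacter G, m θ * classInner (θ : G → ℂ) (η : G → ℂ) := by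
    simp only [classInner_def, Finset.sum_mul, Finset.mul_sum]
    rw [Finset.sum_comm]
    refine Finset.sum_congr rfl fun θ _ => Finset.sum_congr rfl fun g _ => ?_
    ring
  rw [h2, Finset.sum_eq_single η]
  · rw [h1, if_pos rfl, mul_one]
  · intro θ _ hθ
    rw [h1, if_neg hθ, mul_zero]
  · intro h; exact absurd (Finset.mem_univ _) h

theorem key_alg {S d u w f Yt Yg Y1 : ℂ} (hS : S * S = 1) (hd : d * d = 1) (ht : S * Yt = 1 + d * u)
    (hg : S * Yg = 1 + d * w) (h1 : S * Y1 = 1 + d * f) (hf : f ≠ 0) (hY : Y1 ≠ 0)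
    (h : 1 + d * (u * w / f) - S * (Yt * Yg / Y1) = 0) : u = f ∨ w = f := by
  have e1 : f * Y1 + d * (u * w) * Y1 - S * (Yt * Yg) * f = 0 := by
    have : f * Y1 + d * (u * w) * Y1 - S * (Yt * Yg) * f = (1 + d * (u * w / f) - S * (Yt * Yg / Y1)) * (f * Y1) := by
      field_simp
    rw [this, h, zero_mul]
  have e2 : f * (S * Y1) + d * (u * w) * (S * Y1) - (S * Yt) * (S * Yg) * f = 0 := by
    have : f * (S * Y1) + d * (u * w) * (S * Y1) - (S * Yt) * (S * Yg) * f =
        S * (f * Y1 + d * (u * w) * Y1 - S * (Yt * Yg) * f) := by ring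
    rw [this, e1, mul_zero]
  rw [h1, ht, hg] at e2
  have e3 : d * ((f - u) * (f - w)) = 0 := by linear_combination e2
  have hd0 : d ≠ 0 := by
    rintro rfl
    rw [mul_zero] at hd
    exact zero_ne_one hd
  rcases mul_eq_zero.1 e3 with h2 | h2
  · exact absurd h2 hd0
  · rcases mul_eq_zero.1 h2 with h3 | h3
    · left; exact (sub_eq_zero.1 h3).symm
    · right; exact (sub_eq_zero.1 h3).symm

end gen

variable {G : Type u} [Group G] [Fintype G] [IsSimpleGroup G] {p : ℕ} [hp : Fact p.Prime]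

theorem KPROD (hG : ¬ IsMulCommutative G) (h5 : 5 ≤ p) (P : Sylow p G)
    (hN : Nat.card (Subgroup.normalizer ((P : Subgroup G) : Set G)) = 2 * p) (t g : G) (ht : orderOf t = 2) (hg1 : g ≠ 1)
    (hg : ¬ p ∣ orderOf g) : ∃ t' g' : G, IsConj t t' ∧ IsConj g g' ∧ orderOf (t' * g') = p := by
  classical
  obtain ⟨D, hC, B, χ, h⟩ := H15Deg2p.exists_cfg_simple hG h5 P hN
  have hord : ∀ x : G, p ∣ orderOf x → orderOf x = p := by
    intro x hx
    obtain ⟨z, c, hzc, hc⟩ := DefOneGalois.exists_conj_C (D := D) P rfl hx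
    have hx1 : x ≠ 1 := by
      rintro rfl
      exact not_dvd_one hx
    have hc1 : (c : G) ≠ 1 := by
      intro hc1
      rw [hc1] at hzc
      apply hx1
      have : x = z⁻¹ * (z * x * z⁻¹) * z := by group
      rw [this, ← hzc]; group
    have e := BRInd.ordP D (h.hCP c.2) hc1
    have e2 : orderOf (z * x * z⁻¹) = orderOf x := by
      rw [← MulAut.conj_apply]
      exact MulEquiv.orderOf_eq (MulAut.conj z) x
    rw [← e2, ← hzc, e]
  by_contra hcon
  push Not at hcon
  let m : IrrCharacter G → ℂ := fun η => (η : G → ℂ) t * (η : G → ℂ) g / (η : G → ℂ) 1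
  let F : G → ℂ := fun y => ∑ η : IrrCharacter G, m η * (η : G → ℂ) y
  have hF : IsClassFunction G F := by
    intro x y
    show ∑ η : IrrCharacter G, m η * (η : G → ℂ) _ = ∑ η : IrrCharacter G, m η * (η : G → ℂ) _
    refine Finset.sum_congr rfl fun η _ => ?_
    rw [η.2.isClassFunction x y]
  have hval : ∀ y, p ∣ orderOf y → F y = 0 := by
    intro y hy
    have h1 := ColTools.struct_zero (a := t) (b := g) (c := y⁻¹) (by
      intro a b ha hb hab
      apply hcon a b ha hb
      rw [hab, orderOf_inv]; exact hord y hy)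
    rw [inv_inv] at h1
    rw [← h1]
    refine Finset.sum_congr rfl fun η _ => ?_
    show (η : G → ℂ) t * (η : G → ℂ) g / (η : G → ℂ) 1 * (η : G → ℂ) y = _
    ring
  have hpt : ¬ p ∣ orderOf t := by
    rw [ht]
    intro hd
    have := Nat.le_of_dvd (by norm_num) hd
    omega
  have q : Tau D := QuotientGroup.mk 1
  have h2 := h.sum_sing hF hval q
  have hI : ∀ η : IrrCharacter G, classInner F (η : G → ℂ) = m η := fun η => inner_comb m η
  rw [hI, hI, hI] at h2
  have ht1 : m (triv G) = 1 := by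
    show ((triv G : IrrCharacter G) : G → ℂ) t * ((triv G : IrrCharacter G) : G → ℂ) g / ((triv G : IrrCharacter G) : G → ℂ) 1 = 1
    have e : ∀ x : G, ((triv G : IrrCharacter G) : G → ℂ) x = 1 := fun x => rfl
    rw [e, e, e]; norm_num
  rw [ht1] at h2
  have hs : (B.s : ℂ) * B.s = 1 := by
    rcases B.s_pm with e | e <;> rw [e] <;> norm_num
  have hd : (B.δ χ : ℂ) * B.δ χ = 1 := by
    rcases B.δ_pm χ h.mem with e | e <;> rw [e] <;> norm_num
  rcases key_alg hs hd (h.rel q hpt) (h.rel q hg) (h.rel q not_dvd_one) χ.2.one_ne_zero (B.Y q).2.one_ne_zero h2 with h3 | h3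
  · have := H15Deg2p.faithful hG h.ne t h3
    rw [this, orderOf_one] at ht
    omega
  · exact hg1 (H15Deg2p.faithful hG h.ne g h3)

end Cfsg.Agent.Lib.H52_KPROD
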