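import Cfsg.Agent.Lib.H52_KB
import Cfsg.Agent.Lib.H52_KPROD

/-! S3254, piece KBASE (helper70, with the class algebra part of helper99). -/

set_option autoImplicit false

namespace Cfsg.Agent.Lib.H52_KBASE

open Cfsg Cfsg.Agent.Lib.H52T0

universe u v

variable {G : Type u} [Group G] [Fintype G] [IsSimpleGroup G] {p : ℕ} [hp : Fact p.Prime] {Ω : Type v} [Fintype Ω] [MulAction G Ω] [FaithfulSMul G Ω]

/-- K : from the block to Base -/
theorem KBASE (hG : ¬ IsMulCommutative G) (h5 : 5 ≤ p) (P : Sylow p G)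
    (hN : Nat.card (Subgroup.normalizer ((P : Subgroup G) : Set G)) = 2 * p) (hprim : MulAction.IsPreprimitive G Ω) (hΩ : Nat.card Ω = 3 * p) :
    Base G Ω p :=
  H52_KB.KBASE_of (fun t g ht hg1 hg => H52_KPROD.KPROD hG h5 P hN t g ht hg1 hg) hG h5 P hN hprim hΩ

end Cfsg.Agent.Lib.H52_KBASE
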