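import Mathlib
import Cfsg.Agent.Lib.H52T0
import Cfsg.Agent.Lib.ColTools

set_option autoImplicit false
set_option linter.all false

/-! Piece KDEC of S3254 -/

namespace Cfsg.Agent.Lib.H52_KDEC

open Cfsg Cfsg.Agent.Lib.BRPerm Cfsg.Agent.Lib.BRCore Cfsg.Agent.Lib.BRInd Cfsg.Agent.Lib.CharBasic Cfsg.Agent.Lib.BlockThird Cfsg.Agent.Lib.H52T0 Cfsg.Agent.Lib.H15RealP Cfsg.Agent.Lib.BRB0 Cfsg.Agent.Lib.DefOneLoc
open Cfsg.Agent.Lib.DefOneOrd Cfsg.Agent.Lib.DefOneGram Cfsg.Agent.Lib.H15Deg2p Cfsg.Agent.Lib.DefOne Cfsg.Agent.Lib.DefOnePrin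
open scoped ComplexConjugate

universe u v

section blk

variable {G : Type u} [Group G] [Fintype G] {p : ℕ} [hp : Fact p.Prime] {P N C : Subgroup G}
  {D : Loc p P N C} [Fintype C] {B : B0 D} {χ : IrrCharacter G}

theorem recover (h : Cfg B χ) (φ : G → ℂ) (c0 : C) :
    ∑ i : ZMod p, mu D φ (triv C) i * lam D i c0 = φ c0 := by
  classical
  have hC : (Nat.card C : ℂ) = p := by rw [h.card_C]
  have hp0 : (p : ℂ) ≠ 0 := by exact_mod_cast hp.out.ne_zero
  have hinj : ∀ c d : C, D.l c = D.l d → c = d := by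
    intro c d hcd
    have h1 : D.l (c * d⁻¹) = 0 := by
      have h2 := D.l_mul (c * d⁻¹) d
      rw [inv_mul_cancel_right, hcd] at h2
      exact (right_eq_add.1 h2)
    rw [D.l_reg] at h1
    have h3 := eq_one_of_reg h.hP (h.hCP (c * d⁻¹ : C).2) h1
    have : (c * d⁻¹ : C) = 1 := Subtype.ext h3
    exact mul_inv_eq_one.1 this
  have h1 : ∀ i : ZMod p, mu D φ (triv C) i * lam D i c0 =
      (p : ℂ)⁻¹ * ∑ c : C, φ c * ZMod.stdAddChar (i * (D.l c0 - D.l c)) := by
    intro i
    rw [mu, classInner_def, hC, mul_assoc, Finset.sum_mul]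
    congr 1
    refine Finset.sum_congr rfl fun c _ => ?_
    have h2 : ((triv C : IrrCharacter C) : C → ℂ) c = 1 := rfl
    rw [LT_apply, h2, one_mul, conj_lam, rs, lam, lam, mul_assoc, ← AddChar.map_add_eq_mul]
    congr 2
    ring
  rw [Finset.sum_congr rfl fun i _ => h1 i, ← Finset.mul_sum, Finset.sum_comm]
  have h3 : ∀ c : C, ∑ i : ZMod p, φ c * (ZMod.stdAddChar (i * (D.l c0 - D.l c)) : ℂ) =
      if c = c0 then p * φ c0 else 0 := by
    intro c
    have h4 := AddChar.sum_mulShift (R := ZMod p) (R' := ℂ) (ψ := ZMod.stdAddChar) (D.l c0 - D.l c) (ZMod.isPrimitive_stdAddChar p)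
    rw [← Finset.mul_sum, h4, ZMod.card]
    by_cases hc : c = c0
    · rw [if_pos hc, hc, sub_self, if_pos rfl, mul_comm]
    · rw [if_neg hc, if_neg (fun h => hc (hinj _ _ (sub_eq_zero.1 h)).symm), Nat.cast_zero, mul_zero]
  rw [Finset.sum_congr rfl fun c _ => h3 c, Finset.sum_ite_eq' Finset.univ c0, if_pos (Finset.mem_univ _),
    inv_mul_cancel_left₀ hp0]

/-- the other characters vanish on the singular elements -/
theorem vanish (h : Cfg B χ) {η : IrrCharacter G} (h1 : η ≠ triv G) (h2 : η ≠ χ) (h3 : ∀ q, η ≠ B.Y q)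
    {x : G} (hx : p ∣ orderOf x) : (η : G → ℂ) x = 0 := by
  obtain ⟨Q, hQ⟩ := h.hPS
  obtain ⟨z, c, hzc, hc⟩ := DefOneGalois.exists_conj_C (D := D) Q hQ.symm hx
  have hX : η ∉ B.X := by rw [h.X]; simp [h1, h2]
  have hdm : ∀ i : ZMod p, mu D (η : G → ℂ) (triv C) i = mu D (η : G → ℂ) (triv C) 0 := by
    intro i
    by_cases hi : i = 0
    · rw [hi]
    · have := B.dmO η hX h3 (Units.mk0 i hi)
      rw [dm] at this
      exact sub_eq_zero.1 this
  have h4 := recover h (η : G → ℂ) c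
  rw [Finset.sum_congr rfl (fun i _ => by rw [hdm i]), ← Finset.mul_sum, sum_lam, if_neg hc, mul_zero] at h4
  have h5 := η.2.isClassFunction x z
  rw [← hzc, ← h4] at h5
  exact h5.symm

theorem dvd_deg (h : Cfg B χ) {η : IrrCharacter G} (h1 : η ≠ triv G) (h2 : η ≠ χ) (h3 : ∀ q, η ≠ B.Y q) :
    p ∣ charDegree (η : G → ℂ) := by
  obtain ⟨k, hk⟩ := nat_sum (η.2.isCharacter.restrict C) (isCharacter_one (G := C)) (fun _ => map_one _)
  have h4 := h.sum_C (η : G → ℂ) (a := 0) (fun g hg => vanish h h1 h2 h3 hg)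
  have h5 : ∑ c : C, (η : G → ℂ) c * (1 : C → ℂ) c = (η : G → ℂ) 1 := by
    rw [Finset.sum_congr rfl (fun c _ => by rw [Pi.one_apply, mul_one]), h4, mul_zero, add_zero]
  change ∑ c : C, (η : G → ℂ) c * (1 : C → ℂ) c = _ at hk
  rw [h5, ← BlockDeg.charDegree_cast_irr, ← Nat.card_eq_fintype_card, h.card_C] at hk
  exact ⟨k, by exact_mod_cast hk⟩

theorem sum_red [Fintype (Tau D)] (h : Cfg B χ) (F : IrrCharacter G → ℂ)
    (hF : ∀ η : IrrCharacter G, η ≠ triv G → η ≠ χ → (∀ q, η ≠ B.Y q) → F η = 0) :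
    ∑ η, F η = F (triv G) + F χ + ∑ q, F (B.Y q) := by
  classical
  rw [← Finset.sum_subset (Finset.subset_univ (insert (triv G) (insert χ (Finset.univ.image B.Y))))]
  · rw [Finset.sum_insert, Finset.sum_insert, Finset.sum_image, add_assoc]
    · intro q _ q' _ h; exact B.Yinj h
    · rw [Finset.mem_image]; rintro ⟨q, -, hq⟩; exact (h.Y_ne q).2 hq
    · rw [Finset.mem_insert, Finset.mem_image, not_or]
      exact ⟨h.ne.symm, by rintro ⟨q, -, hq⟩; exact (h.Y_ne q).1 hq⟩
  · intro η _ hη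
    rw [Finset.mem_insert, Finset.mem_insert, Finset.mem_image, not_or, not_or] at hη
    exact hF η hη.1 hη.2.1 fun q hq => hη.2.2 ⟨q, Finset.mem_univ _, hq.symm⟩

theorem inv_sing {x : G} (hx : p ∣ orderOf x) : p ∣ orderOf x⁻¹ := by rwa [orderOf_inv]

theorem sum_Y [Fintype (Tau D)] (h : Cfg B χ) (hδ : B.δ χ = -1) {f : ℂ} (hf : (χ : G → ℂ) 1 = f) (hf1 : f ≠ 1)
    {x : G} (hx : p ∣ orderOf x) : ∑ q, (B.Y q : G → ℂ) x⁻¹ = 1 := by
  have h1 : ¬ IsConj (1 : G) x := by
    intro h2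
    rw [isConj_one_right] at h2
    rw [h2] at hx
    exact not_dvd_one hx
  have h2 := ColTools.col_orth_ne h1
  rw [sum_red h] at h2
  · have e1 : ((triv G : IrrCharacter G) : G → ℂ) 1 = 1 := rfl
    have e2 : ((triv G : IrrCharacter G) : G → ℂ) x⁻¹ = 1 := rfl
    rw [e1, e2, hf, h.val_sing (inv_sing hx), hδ, Finset.sum_congr rfl (fun q _ => by rw [h.Y_reg hδ q not_dvd_one, hf]),
      ← Finset.mul_sum] at h2
    push_cast at h2
    have h3 : (f - 1) * ∑ q, (B.Y q : G → ℂ) x⁻¹ = (f - 1) * 1 := by linear_combination h2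
    exact mul_left_cancel₀ (sub_ne_zero.2 hf1) h3
  · intro η a1 a2 a3
    rw [vanish h a1 a2 a3 (inv_sing hx), mul_zero]

theorem conj_of_inv (h : Cfg B χ) {w n : N} (hw : D.κ w = -1) (hn : D.κ n = -1) : IsConj (w : G) n := by
  classical
  have h1 : D.κ (w⁻¹ * n) = 1 := by
    have h3 : D.κ (w * (w⁻¹ * n)) = D.κ n := by rw [mul_inv_cancel_left]
    rw [D.κ_mul, hw, hn] at h3
    linear_combination -h3
  have hc : ((w⁻¹ * n : N) : G) ∈ C := (D.κ_eq _).1 h1
  have h2 := h.conj_mul hw hc (φ := fun g => if IsConj (w : G) g then (1 : ℂ) else 0) (by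
    intro g k
    have h3 : IsConj (w : G) (k * g * k⁻¹) ↔ IsConj (w : G) g :=
      ⟨fun a => a.trans (isConj_iff.2 ⟨k, rfl⟩).symm, fun a => a.trans (isConj_iff.2 ⟨k, rfl⟩)⟩
    simp only [h3])
  have e : (w : G) * ((w⁻¹ * n : N) : G) = n := by push_cast; group
  rw [e] at h2
  simp only [IsConj.refl, if_true] at h2
  by_contra hcon
  rw [if_neg hcon] at h2
  exact zero_ne_one h2

theorem kappa_of_inv (h : Cfg B χ) {y : G} (hy : y * D.u * y⁻¹ = (D.u)⁻¹) : ∃ hn : y ∈ N, D.κ ⟨y, hn⟩ = -1 := by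
  have huC : D.u ∈ C := D.PC D.uP
  have hn : y ∈ N := D.ti y D.u huC (by rw [D.ordu]) (by rw [hy]; exact C.inv_mem huC)
  refine ⟨hn, (h.kappa ⟨y, hn⟩).resolve_left ?_⟩
  intro h1
  have h2 : y ∈ C := (D.κ_eq ⟨y, hn⟩).1 h1
  have hu1 : D.u ≠ 1 := by
    intro h3
    have := D.ordu
    rw [h3, orderOf_one] at this
    exact hp.out.one_lt.ne this
  have h3 : D.u * y = y * D.u := (D.comm y D.u D.uP hu1).1 h2
  rw [← h3, mul_inv_cancel_right] at hy
  have h4 : D.u ^ 2 = 1 := by rw [pow_two]; nth_rewrite 2 [hy]; exact mul_inv_cancel _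
  have h5 := orderOf_dvd_of_pow_eq_one h4
  rw [D.ordu] at h5
  have := Nat.le_of_dvd (by norm_num) h5
  have := h.h5
  omega

theorem card_pairs (h : Cfg B χ) {t : G} (ht : orderOf t = 2) :
    Nat.card {q : G × G // IsConj t q.1 ∧ IsConj t q.2 ∧ q.1 * q.2 = D.u} = p ∨
    Nat.card {q : G × G // IsConj t q.1 ∧ IsConj t q.2 ∧ q.1 * q.2 = D.u} = 0 := by
  classical
  obtain ⟨w, hw⟩ := h.exists_inv
  have htt : t * t = 1 := by rw [← pow_two, ← ht]; exact pow_orderOf_eq_one t
  have hsq : ∀ s : G, IsConj t s → s * s = 1 := by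
    intro s hs
    obtain ⟨c, rfl⟩ := isConj_iff.1 hs
    have : c * t * c⁻¹ * (c * t * c⁻¹) = c * (t * t) * c⁻¹ := by group
    rw [this, htt, mul_one, mul_inv_cancel]
  have hpair : ∀ s s' : G, IsConj t s → IsConj t s' → s * s' = D.u → ∃ hn : s ∈ N, D.κ ⟨s, hn⟩ = -1 := by
    intro s s' hs hs' hss
    apply kappa_of_inv h
    have e1 : s⁻¹ = s := inv_eq_of_mul_eq_one_left (hsq s hs)
    have e2 : s'⁻¹ = s' := inv_eq_of_mul_eq_one_left (hsq s' hs')
    rw [← hss, mul_inv_rev, e1, e2, ← mul_assoc, hsq s hs, one_mul]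
  have hu : D.κ (⟨D.u, D.CN (D.PC D.uP)⟩ : N) = 1 := (D.κ_eq _).2 (D.PC D.uP)
  by_cases htw : IsConj t (w : G)
  · left
    have hk : ∀ c : C, D.κ (w * ⟨c, D.CN c.2⟩) = -1 := by
      intro c
      rw [D.κ_mul, hw, (D.κ_eq (⟨c, D.CN c.2⟩ : N)).2 c.2, mul_one]
    have hk' : ∀ n : N, D.κ n = -1 → D.κ (n⁻¹ * ⟨D.u, D.CN (D.PC D.uP)⟩) = -1 := by
      intro n hn
      have h3 : D.κ (n * (n⁻¹ * ⟨D.u, D.CN (D.PC D.uP)⟩)) = D.κ (⟨D.u, D.CN (D.PC D.uP)⟩ : N) := by
        rw [mul_inv_cancel_left]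
      rw [D.κ_mul, hn, hu] at h3
      linear_combination -h3
    refine Eq.trans (Nat.card_congr ?_) h.card_C
    exact
      { toFun := fun q => ⟨(w : G)⁻¹ * q.1.1, by
          obtain ⟨hn, hkn⟩ := hpair q.1.1 q.1.2 q.2.1 q.2.2.1 q.2.2.2
          have h3 : D.κ (w * (w⁻¹ * ⟨q.1.1, hn⟩)) = D.κ (⟨q.1.1, hn⟩ : N) := by rw [mul_inv_cancel_left]
          rw [D.κ_mul, hw, hkn] at h3
          have h4 : D.κ (w⁻¹ * ⟨q.1.1, hn⟩) = 1 := by linear_combination -h3
          exact (D.κ_eq (w⁻¹ * ⟨q.1.1, hn⟩)).1 h4⟩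
        invFun := fun c => ⟨((w : G) * c, ((w : G) * c)⁻¹ * D.u), by
          refine ⟨htw.trans (conj_of_inv h hw (hk c)), htw.trans ?_, ?_⟩
          · exact conj_of_inv h hw (hk' _ (hk c))
          · exact mul_inv_cancel_left _ _⟩
        left_inv := fun q => by
          apply Subtype.ext
          have e : (w : G) * ((w : G)⁻¹ * q.1.1) = q.1.1 := mul_inv_cancel_left _ _
          refine Prod.ext e ?_
          change ((w : G) * ((w : G)⁻¹ * q.1.1))⁻¹ * D.u = q.1.2
          rw [e]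
          exact inv_mul_eq_of_eq_mul q.2.2.2.symm
        right_inv := fun c => by
          apply Subtype.ext
          exact inv_mul_cancel_left _ _ }
  · right
    have : IsEmpty {q : G × G // IsConj t q.1 ∧ IsConj t q.2 ∧ q.1 * q.2 = D.u} := by
      refine ⟨fun q => htw ?_⟩
      obtain ⟨hn, hkn⟩ := hpair q.1.1 q.1.2 q.2.1 q.2.2.1 q.2.2.2
      exact q.2.1.trans (conj_of_inv h hkn hw)
    exact Nat.card_of_isEmpty

theorem E1 (h : Cfg B χ) (hδ : B.δ χ = -1) {f : ℤ} (hf : (χ : G → ℂ) 1 = f) (hf3 : 3 ≤ f)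
    (hfaith : ∀ g : G, (χ : G → ℂ) g = (χ : G → ℂ) 1 → g = 1)
    {t : G} (ht : orderOf t = 2) {w : ℤ} (hw : (χ : G → ℂ) t = w) :
    (Nat.card G : ℤ) * (f - w) ^ 2 = p * (Nat.card (Subgroup.centralizer ({t} : Set G)) : ℤ) ^ 2 * f * (f - 1) := by
  classical
  letI : Fintype (Tau D) := Fintype.ofFinite _
  have htr : ¬ p ∣ orderOf t := by
    rw [ht]
    intro h1
    have := Nat.le_of_dvd (by norm_num) h1
    have := h.h5
    omega
  have hus : p ∣ orderOf D.u := by rw [D.ordu]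
  have hf0 : (f : ℂ) ≠ 0 := by exact_mod_cast (by omega : f ≠ 0)
  have hf1 : (f : ℂ) - 1 ≠ 0 := by
    have : f - 1 ≠ 0 := by omega
    exact_mod_cast this
  have h1 := ColTools.struct_const t t D.u
  rw [sum_red h] at h1
  · have e1 : ∀ g, ((triv G : IrrCharacter G) : G → ℂ) g = 1 := fun g => rfl
    rw [e1, e1, e1, hw, hf, h.val_sing (inv_sing hus), hδ, Finset.sum_congr rfl (fun q _ => by
      rw [h.Y_reg hδ q htr, hw, h.Y_reg hδ q not_dvd_one, hf, mul_comm _ ((B.Y q : G → ℂ) _), mul_div_assoc]),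
      ← Finset.sum_mul, sum_Y h hδ hf (sub_ne_zero.1 hf1) hus] at h1
    have h2 : (Nat.card {q : G × G // IsConj t q.1 ∧ IsConj t q.2 ∧ q.1 * q.2 = D.u} : ℂ) *
        (Nat.card (Subgroup.centralizer ({t} : Set G))) ^ 2 * f * (f - 1) = Nat.card G * (f - w) ^ 2 := by
      have h3 : (1 * 1 * 1 / 1 + (w : ℂ) * w * ((-1 : ℤ) : ℂ) / f + 1 * (((w : ℂ) - 1) * ((w : ℂ) - 1) / (f - 1))) * (f * (f - 1)) =
          (f - w) ^ 2 := by
        push_cast
        field_simp
        ring
      rw [← h3]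
      linear_combination (f * (f - 1) : ℂ) * h1
    have h3 : (Nat.card {q : G × G // IsConj t q.1 ∧ IsConj t q.2 ∧ q.1 * q.2 = D.u} : ℤ) *
        (Nat.card (Subgroup.centralizer ({t} : Set G))) ^ 2 * f * (f - 1) = Nat.card G * (f - w) ^ 2 := by
      exact_mod_cast h2
    rcases card_pairs h ht with h4 | h4
    · rw [h4] at h3
      exact h3.symm
    · exfalso
      rw [h4] at h3
      have h5 : (Nat.card G : ℤ) * (f - w) ^ 2 = 0 := by rw [← h3]; push_cast; ring
      have h6 : (Nat.card G : ℤ) ≠ 0 := by exact_mod_cast Nat.card_pos.ne'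
      have h7 : f - w = 0 := by
        rcases mul_eq_zero.1 h5 with h8 | h8
        · exact absurd h8 h6
        · exact pow_eq_zero_iff (by norm_num) |>.1 h8
      have h8 : t = 1 := hfaith t (by rw [hw, hf]; exact_mod_cast (by omega : w = f))
      rw [h8, orderOf_one] at ht
      omega
  · intro η a1 a2 a3
    rw [vanish h a1 a2 a3 (inv_sing hus), mul_zero, zero_div]

theorem charD (h : Cfg B χ) (hδ : B.δ χ = -1) {m : ℕ} (hdeg : (charDegree (χ : G → ℂ) : ℤ) = m * p - 1)
    (hfaith : ∀ g : G, (χ : G → ℂ) g = (χ : G → ℂ) 1 → g = 1) : CharD G p m χ := by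
  classical
  have h5 := h.h5
  have hpos := BlockDeg.charDegree_pos χ.2
  have hm : 1 ≤ m := by
    by_contra hcon
    have : m = 0 := by omega
    rw [this] at hdeg
    push_cast at hdeg
    omega
  have hf : (χ : G → ℂ) 1 = ((m * p - 1 : ℤ) : ℂ) := by
    rw [← BlockDeg.charDegree_cast_irr, ← hdeg]
    push_cast
    rfl
  have hf3 : (3 : ℤ) ≤ m * p - 1 := by
    have h5' : (5 : ℤ) ≤ p := by exact_mod_cast h5
    have hm' : (1 : ℤ) ≤ m := by exact_mod_cast hm
    nlinarith
  refine ⟨h.ne, hdeg, ?_, ?_, ?_⟩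
  · intro g hg
    rw [h.val_sing hg, hδ]
    push_cast
    ring
  · intro t ht w hw
    have := E1 h hδ hf hf3 hfaith ht hw
    rw [this]
    ring
  · have hc : Nat.card (Tau D) = (p - 1) / 2 := by have := h.tau; omega
    let e : Tau D ≃ Fin ((p - 1) / 2) := Finite.equivFinOfCardEq hc
    refine ⟨fun i => B.Y (e.symm i), B.Yinj.comp e.symm.injective, fun i => ⟨(h.Y_ne _).1, (h.Y_ne _).2, ?_, ?_⟩⟩
    · have h1 := h.Y_reg hδ (e.symm i) not_dvd_one
      rw [hf, ← BlockDeg.charDegree_cast_irr] at h1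
      have h2 : (charDegree (B.Y (e.symm i) : G → ℂ) : ℤ) = m * p - 1 - 1 := by exact_mod_cast h1
      rw [h2]; ring
    · intro g hg
      exact h.Y_reg hδ _ hg

end blk

section two

variable {G : Type u} [Group G] [Fintype G] {p : ℕ} [hp : Fact p.Prime] {P N C : Subgroup G}
  {D : Loc p P N C} [Fintype C] {B : B0 D} {χ : IrrCharacter G}
variable {Ω : Type v} [MulAction G Ω] [Fintype Ω]

/-- an involution inverting `P` fixes at most three points -/
theorem fix_le [FaithfulSMul G Ω] (h : Cfg B χ) (hΩ : Nat.card Ω = 3 * p) (hsing : ∀ g : G, p ∣ orderOf g → pi Ω g = 0)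
    {w : N} (hw : D.κ w = -1) : fx Ω (w : G) ≤ 3 := by
  classical
  letI : Fintype N := Fintype.ofFinite _
  have hpi := pi_char (G := G) (α := Ω)
  have h1' : ∑ n : N, pi Ω (n : G) * h.sgn n = 3 * p - p * pi Ω (w : G) := by
    rw [h.sum_N hw (fun n => pi Ω (n : G) * h.sgn n)]
    have h2 := h.sum_C (pi (G := G) Ω) (a := 0) hsing
    rw [pi_one' hΩ, mul_zero, add_zero] at h2
    have h4 : ∑ c : C, pi Ω ((w * ⟨c, D.CN c.2⟩ : N) : G) * h.sgn (w * ⟨c, D.CN c.2⟩) = - (p * pi Ω (w : G)) := by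
      rw [Finset.sum_congr rfl (g := fun _ => -pi Ω (w : G)), Finset.sum_const, Finset.card_univ,
        ← Nat.card_eq_fintype_card, h.card_C, nsmul_eq_mul]
      · ring
      intro c _
      have h5 : h.sgn (w * ⟨c, D.CN c.2⟩) = -1 := by
        rw [map_mul, h.sgn_neg hw, h.sgn_one (n := ⟨c, D.CN c.2⟩) c.2, mul_one]
      rw [h5]
      have h6 := h.conj_mul hw c.2 hpi.isClassFunction
      change pi Ω ((w : G) * c) * -1 = _
      rw [h6]; ring
    rw [h4]
    have h5 : ∑ c : C, pi Ω ((⟨c, D.CN c.2⟩ : N) : G) * h.sgn ⟨c, D.CN c.2⟩ = ∑ c : C, pi Ω (c : G) :=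
      Finset.sum_congr rfl fun c _ => by rw [h.sgn_one (n := ⟨c, D.CN c.2⟩) c.2, mul_one]
    rw [h5, h2]; push_cast; ring
  obtain ⟨k, hk⟩ := nat_sum (hpi.restrict N) (isCharacter_of_hom h.sgn) (fun n => by
    rcases h.kappa n with h6 | h6
    · rw [h.sgn_one ((D.κ_eq n).1 h6), map_one]
    · rw [h.sgn_neg h6, map_neg, map_one])
  change ∑ n : N, pi Ω (n : G) * h.sgn n = _ at hk
  rw [h1', pi_eq] at hk
  have h7 : ((3 * p : ℕ) : ℂ) = ((p * fx Ω (w : G) + Fintype.card N * k : ℕ) : ℂ) := by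
    push_cast
    linear_combination hk
  have h8 : 3 * p = p * fx Ω (w : G) + Fintype.card N * k := by exact_mod_cast h7
  have h9 : p * fx Ω (w : G) ≤ p * 3 := by omega
  exact Nat.le_of_mul_le_mul_left h9 hp.out.pos

theorem decomp3 [FaithfulSMul G Ω] [IsSimpleGroup G] (hG : ¬ IsMulCommutative G) (h : Cfg B χ) (hΩ : Nat.card Ω = 3 * p)
    [MulAction.IsPretransitive G Ω] (hm1 : ∀ χ : IrrCharacter G, ¬ CharD G p 1 χ) :
    (∃ χ ψ : IrrCharacter G, CharD G p 2 χ ∧ (charDegree (ψ : G → ℂ) : ℤ) = p ∧ ψ ≠ χ ∧ pi (G := G) Ω = 1 + (χ : G → ℂ) + (ψ : G → ℂ)) ∨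
    (∃ χ : IrrCharacter G, CharD G p 3 χ ∧ pi (G := G) Ω = 1 + (χ : G → ℂ)) := by
  classical
  letI : Fintype (Tau D) := Fintype.ofFinite _
  have htau := h.tau
  have ht := h.one_lt_tau
  have h5 := h.h5
  have hne := h.ne
  have hfaith := faithful hG hne
  obtain ⟨h1, h2⟩ := h.trivX
  have hχX := h.mem
  haveI : Nonempty Ω := by
    have : 0 < Nat.card Ω := by rw [hΩ]; have := hp.out.pos; omega
    exact (Nat.card_pos_iff.1 this).1
  have hpi := pi_char (G := G) (α := Ω)
  have hsing : ∀ g : G, p ∣ orderOf g → pi Ω g = 0 := fun g hg =>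
    pi_sing' (by rw [hΩ]; exact dvd_mul_left _ _) (not_sq' h) hg
  have hm1' : mlt (pi (G := G) Ω) (triv G) = 1 := by
    have h3 := mlt_spec hpi (triv G)
    rw [pi_triv] at h3
    exact_mod_cast h3.symm
  have hmq : ∀ q, (1 : ℤ) + B.δ χ * mlt (pi (G := G) Ω) χ - B.s * mlt (pi (G := G) Ω) (B.Y q) = 0 := by
    intro q
    have h3 := h.sum_sing hpi.isClassFunction hsing q
    rw [mlt_spec hpi, mlt_spec hpi, mlt_spec hpi, hm1'] at h3
    have h4 : (((1 : ℤ) + B.δ χ * mlt (pi (G := G) Ω) χ - B.s * mlt (pi (G := G) Ω) (B.Y q) : ℤ) : ℂ) = 0 := by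
      push_cast
      push_cast at h3
      linear_combination h3
    exact_mod_cast h4
  have hreld : ∀ q, B.s * (charDegree (B.Y q : G → ℂ) : ℤ) = 1 + B.δ χ * charDegree (χ : G → ℂ) := by
    intro q
    have h3 := h.rel q (g := 1) not_dvd_one
    rw [← BlockDeg.charDegree_cast_irr, ← BlockDeg.charDegree_cast_irr] at h3
    exact_mod_cast h3
  have hYn : ∀ q, B.Y q ≠ triv G := fun q => (h.Y_ne q).1
  have hYχ : ∀ q, B.Y q ≠ χ := fun q => (h.Y_ne q).2
  have hle : 1 + mlt (pi (G := G) Ω) χ * charDegree (χ : G → ℂ) +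
      ∑ q : Tau D, mlt (pi (G := G) Ω) (B.Y q) * charDegree (B.Y q : G → ℂ) ≤ 3 * p := by
    have h3 := degree_le hpi (pi_one' hΩ) (insert (triv G) (insert χ (Finset.univ.image B.Y)))
    rw [Finset.sum_insert, Finset.sum_insert, Finset.sum_image, hm1', deg_triv, one_mul] at h3
    · omega
    · intro q _ q' _ h; exact B.Yinj h
    · rw [Finset.mem_image]; rintro ⟨q, -, hq⟩; exact hYχ q hq
    · rw [Finset.mem_insert, Finset.mem_image, not_or]
      exact ⟨hne.symm, by rintro ⟨q, -, hq⟩; exact hYn q hq⟩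
  have hχpos := BlockDeg.charDegree_pos χ.2
  obtain ⟨q₀⟩ : Nonempty (Tau D) := inferInstance
  set t := Nat.card (Tau D) with htd
  set m := mlt (pi (G := G) Ω) χ with hm
  set d := charDegree (χ : G → ℂ) with hd
  have hpz : (0 : ℤ) < p := by exact_mod_cast hp.out.pos
  rcases B.δ_pm χ hχX with hδ | hδ
  · -- the positive case
    exfalso
    have hs : B.s = 1 := by
      rcases B.s_pm with h | h
      · exact h
      · have h3 := hreld q₀
        rw [hδ, h] at h3
        have := BlockDeg.charDegree_pos (B.Y q₀).2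
        omega
    have hz : ∀ q, charDegree (B.Y q : G → ℂ) = 1 + d := by
      intro q
      have h3 := hreld q
      rw [hδ, hs] at h3
      omega
    have hmq' : ∀ q, mlt (pi (G := G) Ω) (B.Y q) = 1 + m := by
      intro q
      have h3 := hmq q
      rw [hδ, hs] at h3
      omega
    rw [Finset.sum_congr rfl (fun q _ => by rw [hz q, hmq' q]), Finset.sum_const, Finset.card_univ,
      ← Nat.card_eq_fintype_card, smul_eq_mul, ← htd] at hle
    have hd1 : d = 1 ∨ p + 1 ≤ d := by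
      obtain ⟨k, hk⟩ := B.degX χ hχX
      rw [hδ, ← hd] at hk
      have hk0 : 0 ≤ k := by
        by_contra hcon
        push Not at hcon
        nlinarith
      rcases hk0.eq_or_lt with h3 | h3
      · left
        rw [← h3] at hk
        omega
      · right
        have : (p : ℤ) ≤ k * p := by nlinarith
        omega
    rcases hd1 with h3 | h3
    · exact hne (eq_triv_of_deg (perfect hG) h3)
    · have h4 : t * (1 * (p + 2)) ≤ t * ((1 + m) * (1 + d)) :=
        Nat.mul_le_mul_left _ (Nat.mul_le_mul (by omega) (by omega))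
      rw [one_mul] at h4
      have hpt : p = 2 * t + 1 := by omega
      have ht2 : t = 2 := by
        by_contra hcon
        have h6 : 3 ≤ t := by omega
        have h7 : 1 + t * (p + 2) ≤ 3 * p := by omega
        rw [hpt] at h7
        nlinarith
      have hp5 : p = 5 := by omega
      rw [ht2, hp5] at hle
      rw [hp5] at h3
      have hm0 : m = 0 := by
        by_contra hcon
        have h6 : 2 * 7 ≤ (1 + m) * (1 + d) := Nat.mul_le_mul (by omega) (by omega)
        omega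
      rw [hm0] at hle
      have hd6 : d = 6 := by omega
      -- the permutation character
      have hsat := sat hpi (pi_one' hΩ) (insert (triv G) (Finset.univ.image B.Y)) (by
        rw [Finset.sum_insert (by rw [Finset.mem_image]; rintro ⟨q, -, hq⟩; exact hYn q hq), Finset.sum_image
          (fun q _ q' _ h => B.Yinj h), hm1', deg_triv, Finset.sum_congr rfl (fun q _ => by rw [hz q, hmq' q]),
          Finset.sum_const, Finset.card_univ, ← Nat.card_eq_fintype_card, smul_eq_mul, ← htd, ht2, hm0, hd6, hp5])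
      obtain ⟨w, hw⟩ := h.exists_inv
      have hww : (w : G) ^ 2 = 1 := by rw [pow_two]; exact h.sq_eq hw
      have hw1 : (w : G) ≠ 1 := by
        intro h6
        have h7 : D.κ w = 1 := (D.κ_eq w).2 (by rw [h6]; exact C.one_mem)
        rw [hw] at h7
        haveI : Fact (2 < p) := ⟨by omega⟩
        exact ZMod.neg_one_ne_one h7
      have how : orderOf (w : G) = 2 := orderOf_eq_prime hww hw1
      have hwr : ¬ p ∣ orderOf (w : G) := by
        rw [how, hp5]; norm_num
      obtain ⟨n0, n1, e0, e1, e2⟩ := ColTools.val_two χ.2.isCharacter (w : G) hww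
      have e3 := e2 (fun δ => ColTools.hom_trivial hG δ)
      have e4 : n0 + n1 = 6 := by
        rw [← BlockDeg.charDegree_cast_irr, ← hd, hd6] at e0
        exact_mod_cast e0.symm
      have hY : ∀ q, (B.Y q : G → ℂ) (w : G) = 1 + (n0 - n1) := by
        intro q
        have h6 := h.rel q hwr
        rw [hs, hδ, e1] at h6
        push_cast at h6
        linear_combination h6
      have h6 := congrFun hsat (w : G)
      rw [Finset.sum_insert (by rw [Finset.mem_image]; rintro ⟨q, -, hq⟩; exact hYn q hq), Finset.sum_image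
          (fun q _ q' _ h => B.Yinj h), hm1', Finset.sum_congr rfl (fun q _ => by rw [hmq' q, hm0]), Pi.add_apply,
          Finset.sum_apply, Finset.sum_congr rfl (fun q _ => by rw [Pi.smul_apply, hY q]),
          Finset.sum_const, Finset.card_univ, ← Nat.card_eq_fintype_card, ← htd, ht2, pi_eq, Pi.smul_apply] at h6
      have e5 : ((triv G : IrrCharacter G) : G → ℂ) (w : G) = 1 := rfl
      rw [e5] at h6
      have h7 : ((fx Ω (w : G) : ℤ) : ℂ) = ((3 + 2 * ((n0 : ℤ) - n1) : ℤ) : ℂ) := by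
        push_cast
        rw [h6]
        simp only [smul_eq_mul, nsmul_eq_mul]
        push_cast
        ring
      have h8 : (fx Ω (w : G) : ℤ) = 3 + 2 * ((n0 : ℤ) - n1) := by exact_mod_cast h7
      have h9 := fix_le h hΩ hsing hw
      obtain ⟨r, hr⟩ := e3
      omega
  · -- the negative case
    have hs : B.s = -1 := h.s_eq hδ
    have hm0 : 1 ≤ m := by
      have h3 := hmq q₀
      rw [hδ, hs] at h3
      omega
    obtain ⟨k, hk⟩ := B.degX χ hχX
    rw [hδ, ← hd] at hk
    have hk0 : 1 ≤ k := by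
      by_contra hcon
      push Not at hcon
      nlinarith
    have hmd : m * d ≤ 3 * p - 1 := by
      have : 0 ≤ ∑ q : Tau D, mlt (pi (G := G) Ω) (B.Y q) * charDegree (B.Y q : G → ℂ) := Nat.zero_le _
      omega
    have hdle : d ≤ 3 * p - 1 := le_trans (by nlinarith) hmd
    have hk3 : k ≤ 3 := by
      by_contra hcon
      push Not at hcon
      have : (4 : ℤ) * p ≤ k * p := by nlinarith
      omega
    have hk1 : k ≠ 1 := by
      intro h3
      exact hm1 χ (charD h hδ (m := 1) (by rw [← hd, hk, h3]; push_cast; ring) hfaith)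
    have hm' : m = 1 := by
      by_contra hcon
      have h4 : 2 * d ≤ m * d := Nat.mul_le_mul_right _ (by omega)
      have hk2 : 2 ≤ k := by omega
      have : (2 : ℤ) * p ≤ k * p := mul_le_mul_of_nonneg_right hk2 hpz.le
      omega
    have hb : ∀ q, mlt (pi (G := G) Ω) (B.Y q) = 0 := by
      intro q
      have h3 := hmq q
      rw [hδ, hs, hm'] at h3
      omega
    have hnm : triv G ∉ ({χ} : Finset (IrrCharacter G)) := by
      rw [Finset.mem_singleton]; exact hne.symm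
    have hk23 : k = 2 ∨ k = 3 := by omega
    rcases hk23 with h3 | h3
    · left
      have hd' : d = 2 * p - 1 := by rw [h3] at hk; omega
      have hS : ∑ η ∈ insert (triv G) {χ}, mlt (pi (G := G) Ω) η * charDegree (η : G → ℂ) = 2 * p := by
        rw [Finset.sum_insert hnm, Finset.sum_singleton, hm1', ← hm, ← hd, hm', deg_triv, hd']
        omega
      have hsum := degree_sum hpi (pi_one' hΩ)
      rw [← Finset.sum_add_sum_compl (insert (triv G) {χ}), hS] at hsum
      obtain ⟨ψ, hψ, hψ0⟩ := Finset.exists_ne_zero_of_sum_ne_zero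
        (s := (insert (triv G) {χ} : Finset (IrrCharacter G))ᶜ)
        (f := fun η : IrrCharacter G => mlt (pi (G := G) Ω) η * charDegree (η : G → ℂ)) (by
          have := hp.out.pos
          intro h6
          rw [h6] at hsum
          omega)
      have hψ' : ψ ∉ (insert (triv G) {χ} : Finset (IrrCharacter G)) := Finset.mem_compl.1 hψ
      have hψ1 : ψ ≠ triv G := fun h6 => hψ' (by rw [h6]; exact Finset.mem_insert_self _ _)
      have hψ2 : ψ ≠ χ := fun h6 => hψ' (by rw [h6]; exact Finset.mem_insert_of_mem (Finset.mem_singleton_self _))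
      have hψ3 : ∀ q, ψ ≠ B.Y q := by
        rintro q rfl
        apply hψ0
        change mlt (pi (G := G) Ω) (B.Y q) * _ = 0
        rw [hb q, zero_mul]
      obtain ⟨j, hj⟩ := dvd_deg h hψ1 hψ2 hψ3
      have hle2 := degree_le hpi (pi_one' hΩ) (insert ψ (insert (triv G) {χ}))
      rw [Finset.sum_insert hψ', hS, hj] at hle2
      have hj0 : j ≠ 0 := by
        rintro rfl
        have := BlockDeg.charDegree_pos ψ.2
        omega
      have hmψ : mlt (pi (G := G) Ω) ψ ≠ 0 := by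
        intro h6
        apply hψ0
        change mlt (pi (G := G) Ω) ψ * _ = 0
        rw [h6, zero_mul]
      have hprod : mlt (pi (G := G) Ω) ψ * j ≤ 1 := by
        have h6 : (mlt (pi (G := G) Ω) ψ * j) * p ≤ 1 * p := by
          have h7 : (mlt (pi (G := G) Ω) ψ * j) * p = mlt (pi (G := G) Ω) ψ * (p * j) := by ring
          rw [h7]
          omega
        exact Nat.le_of_mul_le_mul_right h6 hp.out.pos
      have hj1 : j = 1 := by
        by_contra hcon
        have h6 : 1 * 2 ≤ mlt (pi (G := G) Ω) ψ * j := Nat.mul_le_mul (by omega) (by omega)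
        omega
      have hmψ1 : mlt (pi (G := G) Ω) ψ = 1 := by
        rw [hj1] at hprod
        omega
      rw [hj1, mul_one] at hj
      refine ⟨χ, ψ, charD h hδ (m := 2) (by rw [← hd, hk, h3]; push_cast; ring) hfaith, by rw [hj], hψ2, ?_⟩
      have hsat := sat hpi (pi_one' hΩ) (insert ψ (insert (triv G) {χ})) (by
        rw [Finset.sum_insert hψ', hS, hj, hmψ1]; omega)
      rw [hsat, Finset.sum_insert hψ', Finset.sum_insert hnm, Finset.sum_singleton, hm1', ← hm, hm', hmψ1,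
        Nat.cast_one, one_smul, one_smul, one_smul]
      have e5 : ((triv G : IrrCharacter G) : G → ℂ) = 1 := rfl
      rw [e5]
      ring
    · right
      have hd' : d = 3 * p - 1 := by rw [h3] at hk; omega
      refine ⟨χ, charD h hδ (m := 3) (by rw [← hd, hk, h3]; push_cast; ring) hfaith, ?_⟩
      have hsat := sat hpi (pi_one' hΩ) (insert (triv G) {χ}) (by
        rw [Finset.sum_insert hnm, Finset.sum_singleton, hm1', ← hm, ← hd, hm', deg_triv, hd']
        omega)
      rw [hsat, Finset.sum_insert hnm, Finset.sum_singleton, hm1', ← hm, hm', Nat.cast_one, one_smul, one_smul]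
      rfl

end two

section cfg

variable {G : Type u} [Group G] [Fintype G] [IsSimpleGroup G] {p : ℕ} [hp : Fact p.Prime] {Ω : Type v} [Fintype Ω] [MulAction G Ω] [FaithfulSMul G Ω]

/-- KDEC : cases -/
theorem KDEC (hG : ¬ IsMulCommutative G) (h5 : 5 ≤ p) (P : Sylow p G)
    (hN : Nat.card (Subgroup.normalizer ((P : Subgroup G) : Set G)) = 2 * p) (hprim : MulAction.IsPreprimitive G Ω) (hΩ : Nat.card Ω = 3 * p)
    (hm1 : ∀ χ : IrrCharacter G, ¬ CharD G p 1 χ) :
    (∃ χ ψ : IrrCharacter G, CharD G p 2 χ ∧ (charDegree (ψ : G → ℂ) : ℤ) = p ∧ ψ ≠ χ ∧ pi (G := G) Ω = 1 + (χ : G → ℂ) + (ψ : G → ℂ)) ∨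
    (∃ χ : IrrCharacter G, CharD G p 3 χ ∧ pi (G := G) Ω = 1 + (χ : G → ℂ)) := by
  obtain ⟨D, hC, B, χ, h⟩ := exists_cfg_simple hG h5 P hN
  exact decomp3 hG h hΩ hm1

end cfg

end Cfsg.Agent.Lib.H52_KDEC
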