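import Mathlib
import Cfsg.Agent.Lib.H15Deg2p

/-! S3254, the case `χ(1) = p - 1` (helper70). -/

set_option autoImplicit false
set_option linter.all false
set_option maxHeartbeats 400000

namespace Cfsg.Agent.Lib.H70S3254

open Cfsg Cfsg.Agent.Lib
open Cfsg.Agent.Lib.H15RealP Cfsg.Agent.Lib.H15Deg2p
open scoped Pointwise

/-- a group of order `(p-1)p(p-2)` all of whose involution centralizers are elementary abelian of order
`p - 1` has no maximal subgroup of index `3p` -/
theorem no_idx {G : Type*} [Group G] [Finite G] [IsSimpleGroup G] {p : ℕ} (hp : p.Prime) (h7 : 7 ≤ p)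
    (hG : Nat.card G = (p - 1) * (p * (p - 2)))
    (T₀ : Sylow 2 G) (hT₀ : Nat.card T₀ = p - 1)
    (hC : ∀ t : G, orderOf t = 2 → Nat.card (Subgroup.centralizer ({t} : Set G)) = p - 1 ∧
      ∀ c ∈ Subgroup.centralizer ({t} : Set G), c * c = 1)
    (hconj : ∀ s t : G, orderOf s = 2 → orderOf t = 2 → ∃ g : G, g * s * g⁻¹ = t)
    (H : Subgroup G) (hidx : H.index = 3 * p) (hmax : ∀ K : Subgroup G, H ≤ K → K = H ∨ K = ⊤) : False := by
  classical
  haveI : Fact (Nat.Prime 2) := ⟨Nat.prime_two⟩
  have hodd : p % 2 = 1 := by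
    rcases hp.eq_two_or_odd with h | h
    · omega
    · exact h
  have hHcard : Nat.card H * (3 * p) = (p - 1) * (p * (p - 2)) := by
    rw [← hidx, Subgroup.card_mul_index, hG]
  have hH3 : Nat.card H * 3 = (p - 1) * (p - 2) := by
    have : p * (Nat.card H * 3) = p * ((p - 1) * (p - 2)) := by
      calc p * (Nat.card H * 3) = Nat.card H * (3 * p) := by ring
        _ = (p - 1) * (p * (p - 2)) := hHcard
        _ = p * ((p - 1) * (p - 2)) := by ring
    exact Nat.eq_of_mul_eq_mul_left hp.pos this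
  -- a Sylow 2-subgroup in `H`
  obtain ⟨k, hk⟩ := IsPGroup.iff_card.1 T₀.isPGroup'
  have hk' : p - 1 = 2 ^ k := by rw [← hT₀]; exact hk
  have hdvd : 2 ^ k ∣ Nat.card H := by
    have h1 : 2 ^ k ∣ Nat.card H * 3 := by rw [hH3, hk']; exact dvd_mul_right _ _
    exact Nat.Coprime.dvd_of_dvd_mul_right (Nat.Coprime.pow_left k (by norm_num)) h1
  obtain ⟨T', hT'⟩ := Sylow.exists_subgroup_card_pow_prime 2 hdvd
  let T : Subgroup G := T'.map H.subtype
  have hTH : T ≤ H := Subgroup.map_subtype_le T'
  have hTcard : Nat.card T = p - 1 := by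
    rw [hk', ← hT']
    exact Subgroup.card_map_of_injective H.subtype_injective
  have hT2 : IsPGroup 2 T := IsPGroup.iff_card.2 ⟨k, by rw [hTcard, hk']⟩
  -- every nontrivial 2-subgroup of order p-1 is the centralizer of its involutions
  have hcent : ∀ S : Subgroup G, IsPGroup 2 S → Nat.card S = p - 1 → ∀ t ∈ S, t ≠ 1 →
      orderOf t = 2 ∧ Subgroup.centralizer ({t} : Set G) = S := by
    intro S hS hScard
    -- a central involution
    haveI : Nontrivial S := by
      apply Finite.one_lt_card_iff_nontrivial.1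
      rw [hScard]; omega
    haveI := hS.center_nontrivial
    obtain ⟨z, hz⟩ := exists_ne (1 : Subgroup.center S)
    obtain ⟨z', hz'⟩ : ∃ z' : Subgroup.center S, orderOf z' = 2 := by
      have h2 : 2 ∣ Nat.card (Subgroup.center S) := by
        obtain ⟨j, hj⟩ := IsPGroup.iff_card.1 (hS.to_subgroup (Subgroup.center S))
        rcases Nat.eq_zero_or_pos j with h0 | h0
        · exfalso
          rw [h0, pow_zero] at hj
          have := Finite.one_lt_card (α := Subgroup.center S)
          omega
        · rw [hj]; exact dvd_pow_self 2 h0.ne'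
      exact exists_prime_orderOf_dvd_card' 2 h2
    have hz2 : orderOf ((z' : S) : G) = 2 := by
      rw [← hz', Subgroup.orderOf_coe, Subgroup.orderOf_coe]
    obtain ⟨hc1, hc2⟩ := hC _ hz2
    have hSz : S ≤ Subgroup.centralizer ({((z' : S) : G)} : Set G) := by
      intro s hs
      rw [Subgroup.mem_centralizer_singleton_iff]
      have := Subgroup.mem_center_iff.1 z'.2 ⟨s, hs⟩
      have h3 := congrArg (fun x : S => (x : G)) this
      simp only [Subgroup.coe_mul] at h3
      first
        | exact h3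
        | exact h3.symm
    have hsq : ∀ s ∈ S, s * s = 1 := fun s hs => hc2 s (hSz hs)
    have hcomm : ∀ s ∈ S, ∀ u ∈ S, s * u = u * s := by
      intro s hs u hu
      have e1 := hsq s hs
      have e2 := hsq u hu
      have e3 := hsq (s * u) (S.mul_mem hs hu)
      have e4 : s⁻¹ = s := inv_eq_of_mul_eq_one_left e1
      have e5 : u⁻¹ = u := inv_eq_of_mul_eq_one_left e2
      have e6 : (s * u)⁻¹ = s * u := inv_eq_of_mul_eq_one_left e3
      rw [mul_inv_rev, e4, e5] at e6
      exact e6.symm
    intro t ht ht1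
    have ht2 : orderOf t = 2 := orderOf_eq_prime (by rw [pow_two]; exact hsq t ht) ht1
    refine ⟨ht2, ?_⟩
    symm
    apply Subgroup.eq_of_le_of_card_ge
    · intro s hs
      rw [Subgroup.mem_centralizer_singleton_iff]
      first
        | exact hcomm s hs t ht
        | exact hcomm t ht s hs
    · rw [hScard, (hC t ht2).1]
  -- TI
  have hmap : ∀ g : G, IsPGroup 2 (T.map (MulAut.conj g).toMonoidHom) ∧ Nat.card (T.map (MulAut.conj g).toMonoidHom) = p - 1 := by
    intro g
    have h1 : Nat.card (T.map (MulAut.conj g).toMonoidHom) = p - 1 := by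
      rw [← hTcard]
      exact Subgroup.card_map_of_injective (MulAut.conj g).injective
    exact ⟨IsPGroup.iff_card.2 ⟨k, by rw [h1, hk']⟩, h1⟩
  have hTI : ∀ g : G, (∃ x, x ≠ 1 ∧ x ∈ T ∧ x ∈ T.map (MulAut.conj g).toMonoidHom) → T.map (MulAut.conj g).toMonoidHom = T := by
    rintro g ⟨x, hx1, hx2, hx3⟩
    exact (hcent _ (hmap g).1 (hmap g).2 x hx3 hx1).2.symm.trans (hcent T hT2 hTcard x hx2 hx1).2
  have hnorm : ∀ g : G, T.map (MulAut.conj g).toMonoidHom = T → g ∈ Subgroup.normalizer (T : Set G) := by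
    intro g hg
    rw [Subgroup.mem_normalizer_iff]
    intro x
    constructor
    · intro hx
      rw [← hg]
      exact ⟨x, hx, rfl⟩
    · intro hx
      rw [← hg] at hx
      obtain ⟨y, hy, hyx⟩ := hx
      have : y = x := by
        have h1 : g * y * g⁻¹ = g * x * g⁻¹ := hyx
        exact mul_left_cancel (mul_right_cancel h1)
      rw [← this]
      exact hy
  -- `T` is normal in `H`
  have hTn : H ≤ Subgroup.normalizer (T : Set G) := by
    intro h hh
    apply hnorm
    apply hTI
    by_contra hcon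
    push Not at hcon
    let f : T × (T.map (MulAut.conj h).toMonoidHom : Subgroup G) → H := fun x => ⟨(x.1 : G) * x.2, H.mul_mem (hTH x.1.2) (by
      obtain ⟨y, hy, hyx⟩ := x.2.2
      rw [← hyx]
      exact H.mul_mem (H.mul_mem hh (hTH hy)) (H.inv_mem hh))⟩
    have hf : Function.Injective f := by
      rintro ⟨a, b⟩ ⟨a', b'⟩ hab
      have h1 : (a : G) * b = a' * b' := congrArg Subtype.val hab
      have h2 : (a' : G)⁻¹ * a = b' * (b : G)⁻¹ := by
        rw [inv_mul_eq_iff_eq_mul, ← mul_assoc, ← h1, mul_inv_cancel_right]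
      have h3 : (a' : G)⁻¹ * a = 1 := by
        by_contra hne
        exact hcon _ hne (T.mul_mem (T.inv_mem a'.2) a.2) (by rw [h2]; exact Subgroup.mul_mem _ b'.2 (Subgroup.inv_mem _ b.2))
      have h4 : (b' : G) * (b : G)⁻¹ = 1 := by rw [← h2, h3]
      have e1 : a = a' := Subtype.ext (inv_mul_eq_one.1 h3).symm
      have e2 : b = b' := Subtype.ext (mul_inv_eq_one.1 h4).symm
      rw [e1, e2]
    have h5 := Nat.card_le_card_of_injective f hf
    rw [Nat.card_prod, hTcard, (hmap h).2] at h5
    have h6 : (p - 1) * (p - 1) * 3 ≤ (p - 1) * (p - 2) := by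
      rw [← hH3]
      exact Nat.mul_le_mul_right _ h5
    have h7 : (p - 1) * ((p - 1) * 3) ≤ (p - 1) * (p - 2) := by
      rw [← mul_assoc]; exact h6
    have h8 := Nat.le_of_mul_le_mul_left h7 (by omega)
    omega
  -- the order of the normalizer
  obtain ⟨t, htT, ht1⟩ : ∃ t ∈ T, t ≠ 1 := by
    by_contra hcon
    push Not at hcon
    have : T = ⊥ := (Subgroup.eq_bot_iff_forall T).2 hcon
    rw [this, Subgroup.card_bot] at hTcard
    omega
  have htr : ∀ s : {s : T // s ≠ 1}, ∃ n ∈ Subgroup.normalizer (T : Set G), n * t * n⁻¹ = (s : T) := by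
    rintro ⟨⟨s, hs⟩, hs1⟩
    have hs1' : s ≠ 1 := fun h => hs1 (Subtype.ext h)
    obtain ⟨g, hg⟩ := hconj t s (hcent T hT2 hTcard t htT ht1).1 (hcent T hT2 hTcard s hs hs1').1
    refine ⟨g, ?_, hg⟩
    apply hnorm
    apply hTI
    exact ⟨s, hs1', hs, ⟨t, htT, hg⟩⟩
  choose n hn1 hn2 using htr
  have hle : (p - 2) * (p - 1) ≤ Nat.card (Subgroup.normalizer (T : Set G)) := by
    let f : {s : T // s ≠ 1} × T → Subgroup.normalizer (T : Set G) := fun x =>
      ⟨n x.1 * (x.2 : G), Subgroup.mul_mem _ (hn1 x.1) (Subgroup.le_normalizer x.2.2)⟩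
    have hTc : ∀ c ∈ T, c * t * c⁻¹ = t := by
      intro c hc
      have h1 := (hcent T hT2 hTcard t htT ht1).2
      rw [← h1, Subgroup.mem_centralizer_singleton_iff] at hc
      have h2 : c * t = t * c := by
        first
          | exact hc
          | exact hc.symm
      rw [h2, mul_inv_cancel_right]
    have hf : Function.Injective f := by
      rintro ⟨s, c⟩ ⟨s', c'⟩ hsc
      have h1 : n s * (c : G) = n s' * c' := congrArg Subtype.val hsc
      have h2 : ((s : T) : G) = (s' : T) := by
        rw [← hn2 s, ← hn2 s']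
        calc n s * t * (n s)⁻¹ = n s * ((c : G) * t * (c : G)⁻¹) * (n s)⁻¹ := by rw [hTc c c.2]
          _ = (n s * c) * t * (n s * c)⁻¹ := by group
          _ = (n s' * c') * t * (n s' * c')⁻¹ := by rw [h1]
          _ = n s' * ((c' : G) * t * (c' : G)⁻¹) * (n s')⁻¹ := by group
          _ = n s' * t * (n s')⁻¹ := by rw [hTc c' c'.2]
      have h3 : s = s' := Subtype.ext (Subtype.ext h2)
      subst h3
      have h4 : c = c' := Subtype.ext (mul_left_cancel h1)
      rw [h4]
    have h5 := Nat.card_le_card_of_injective f hf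
    rw [Nat.card_prod, hTcard] at h5
    have h6 : Nat.card {s : T // s ≠ 1} = p - 2 := by
      haveI : Fintype T := Fintype.ofFinite _
      rw [Nat.card_eq_fintype_card, Fintype.card_subtype_compl, Fintype.card_subtype_eq, ← Nat.card_eq_fintype_card, hTcard]
      omega
    rw [h6] at h5
    exact h5
  have h3p : 0 < (p - 2) * (p - 1) := Nat.mul_pos (by omega) (by omega)
  rcases hmax _ hTn with h1 | h1
  · rw [h1] at hle
    have h2 : (p - 2) * (p - 1) * 3 ≤ (p - 1) * (p - 2) := by
      rw [← hH3]; exact Nat.mul_le_mul_right _ hle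
    rw [mul_comm (p - 1)] at h2
    omega
  · have hTnorm : T.Normal := Subgroup.normalizer_eq_top_iff.1 h1
    rcases IsSimpleGroup.eq_bot_or_eq_top_of_normal T hTnorm with h2 | h2
    · rw [h2, Subgroup.card_bot] at hTcard
      omega
    · have h3 : Nat.card G = p - 1 := by
        rw [← hTcard, h2, Subgroup.card_top]
      rw [hG] at h3
      have h4 : (p - 1) * (p * (p - 2)) = (p - 1) * 1 := by rw [h3, mul_one]
      have h5 := Nat.eq_of_mul_eq_mul_left (by omega) h4
      have h6 := Nat.eq_one_of_mul_eq_one_right h5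
      omega

/-- a simple group of order 60 has no maximal subgroup of index 15 -/
theorem no_idx_five {G : Type*} [Group G] [Finite G] [IsSimpleGroup G] (hG : Nat.card G = 60)
    (H : Subgroup G) (hidx : H.index = 15) (hmax : ∀ K : Subgroup G, H ≤ K → K = H ∨ K = ⊤) : False := by
  classical
  haveI : Fact (Nat.Prime 2) := ⟨Nat.prime_two⟩
  have hH : Nat.card H = 4 := by
    have := Subgroup.card_mul_index H
    rw [hidx, hG] at this
    omega
  have hH2 : IsPGroup 2 H := IsPGroup.iff_card.2 ⟨2, by rw [hH]; norm_num⟩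
  let Q : Sylow 2 G := hH2.toSylow (by rw [hidx]; norm_num)
  have hQ : (Q : Subgroup G) = H := IsPGroup.toSylow_coe _ _
  have hbot : H ≠ ⊥ := by
    intro h; rw [h, Subgroup.card_bot] at hH; omega
  have htop : H ≠ ⊤ := by
    intro h; rw [h, Subgroup.card_top, hG] at hH; omega
  rcases hmax (Subgroup.normalizer (H : Set G)) Subgroup.le_normalizer with h1 | h1
  · have hab : ∀ a ∈ H, ∀ b ∈ H, a * b = b * a := by
      have h4 : Nat.card H = 2 ^ 2 := by rw [hH]; norm_num
      have hc := IsPGroup.isMulCommutative_of_card_eq_prime_sq (p := 2) (G := H) h4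
      intro a ha b hb
      have := hc.is_comm.comm (⟨a, ha⟩ : H) ⟨b, hb⟩
      exact congrArg Subtype.val this
    obtain ⟨M, hMc, hMcompl, hMp⟩ := SmallSimple.exists_characteristic_complement Q (by
      rw [hQ, h1]
      intro x hx
      rw [Subgroup.mem_centralizer_iff]
      intro y hy
      exact hab y hy x hx)
    haveI := hMc
    have h2 := hMcompl.card_mul_card
    rw [hQ, hH, hG] at h2
    rcases IsSimpleGroup.eq_bot_or_eq_top_of_normal M inferInstance with h3 | h3
    · rw [h3, Subgroup.card_bot] at h2; omega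
    · rw [h3, Subgroup.card_top, hG] at h2; omega
  · have hHn : H.Normal := Subgroup.normalizer_eq_top_iff.1 h1
    rcases IsSimpleGroup.eq_bot_or_eq_top_of_normal H hHn with h2 | h2
    · exact hbot h2
    · exact htop h2

open Cfsg.Agent.Lib.BlockRing Cfsg.Agent.Lib.BlockGA Cfsg.Agent.Lib.BlockIdem
open Cfsg.Agent.Lib.DefOneLoc Cfsg.Agent.Lib.DefOneOrd Cfsg.Agent.Lib.CharBasic Cfsg.Agent.Lib.DefOneGram
open Cfsg.Agent.Lib.DefOne Cfsg.Agent.Lib.BlockThird Cfsg.Agent.Lib.DefOnePrin Cfsg.Agent.Lib.BRB0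
open Cfsg.Agent.Lib.BRNum Cfsg.Agent.Lib.BRDeg Cfsg.Agent.Lib.BRCore Cfsg.Agent.Lib.BROne Cfsg.Agent.Lib.BRInd
open Cfsg.Agent.Lib.BRPerm Cfsg.Agent.Lib.H15RealP

universe u v

/-- the case `χ(1) = p - 1` does not occur for primitive groups of degree `3p` -/
theorem caseC {G : Type u} [Group G] [Fintype G] [IsSimpleGroup G] {p : ℕ} [hp : Fact p.Prime] {P N C : Subgroup G}
    {D : Loc p P N C} [Fintype C] {B : B0 D} {χ : IrrCharacter G} (hG : ¬ IsMulCommutative G) (h : Cfg B χ)
    (hδ : B.δ χ = -1) (hdeg : charDegree (χ : G → ℂ) = p - 1) {α : Type v} [MulAction G α]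
    [MulAction.IsPreprimitive G α] (hα : Nat.card α = 3 * p) : False := by
  classical
  have h5 := h.h5
  have hf := faithful hG h.ne
  haveI : Finite α := Nat.finite_of_card_ne_zero (by rw [hα]; omega)
  haveI : Nontrivial α := Finite.one_lt_card_iff_nontrivial.1 (by rw [hα]; omega)
  obtain ⟨a⟩ := (inferInstance : Nonempty α)
  have hidx : (MulAction.stabilizer G a).index = 3 * p := by
    rw [MulAction.index_stabilizer_of_transitive, hα]
  have hmax : ∀ K : Subgroup G, MulAction.stabilizer G a ≤ K → K = MulAction.stabilizer G a ∨ K = ⊤ := by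
    intro K hK
    have h1 : IsCoatom (MulAction.stabilizer G a) := by
      rw [MulAction.isCoatom_stabilizer_iff_preprimitive]
      infer_instance
    rcases hK.eq_or_lt with h2 | h2
    · exact Or.inl h2.symm
    · exact Or.inr (h1.2 K h2)
  have hcases : p = 5 ∨ 7 ≤ p := by
    by_contra hcon
    have h6 : p = 6 := by omega
    have := hp.out
    rw [h6] at this
    exact absurd this (by norm_num)
  rcases hcases with h6 | h7
  · exact no_idx_five (h.card_five hδ hdeg hf h6) _ (by rw [hidx, h6]) hmax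
  · obtain ⟨T, hT, hcent, hconj⟩ := h.seven hδ hdeg hf h7
    obtain ⟨-, hcard⟩ := h.count_seven hδ hdeg hf h7
    exact no_idx hp.out h7 hcard T hT hcent hconj _ hidx hmax

end Cfsg.Agent.Lib.H70S3254
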