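import Cfsg.Agent.Lib.H52T0
import Cfsg.Agent.Lib.H70S3254C

/-! S3254, piece KM1 (helper70). -/

set_option autoImplicit false
set_option linter.all false
set_option maxHeartbeats 400000

namespace Cfsg.Agent.Lib.H52_KM1

open Cfsg Cfsg.Agent.Lib.BRPerm Cfsg.Agent.Lib.BRCore Cfsg.Agent.Lib.BRInd Cfsg.Agent.Lib.CharBasic Cfsg.Agent.Lib.BlockThird Cfsg.Agent.Lib.H52T0 Cfsg.Agent.Lib.H15RealP Cfsg.Agent.Lib.BRB0 Cfsg.Agent.Lib.DefOneLoc
open Cfsg.Agent.Lib.BlockRing Cfsg.Agent.Lib.BlockGA Cfsg.Agent.Lib.BlockIdem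
open Cfsg.Agent.Lib.DefOneOrd Cfsg.Agent.Lib.DefOneGram
open Cfsg.Agent.Lib.DefOne Cfsg.Agent.Lib.DefOnePrin
open Cfsg.Agent.Lib.BRNum Cfsg.Agent.Lib.BRDeg Cfsg.Agent.Lib.BROne
open Cfsg.Agent.Lib.H15Deg2p

universe u v

variable {G : Type u} [Group G] [Fintype G] {p : ℕ} [hp : Fact p.Prime]

/-- a nontrivial irreducible character with constant nonzero value on the `p`-singular elements is `χ` -/
theorem eq_of_sing {P N C : Subgroup G} {D : Loc p P N C} [Fintype C] {B : B0 D} {χ : IrrCharacter G}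
    (h : Cfg B χ) (ψ : IrrCharacter G) (hψ : ψ ≠ triv G) {a : ℂ} (ha : a ≠ 0)
    (hs : ∀ g : G, p ∣ orderOf g → (ψ : G → ℂ) g = a) : ψ = χ := by
  classical
  have hval : ∀ c : C, D.l c ≠ 0 → (ψ : G → ℂ) c = a := by
    intro c hc
    exact hs _ (sing_of_l c hc)
  have hdm : ∀ i : (ZMod p)ˣ, dm D (ψ : G → ℂ) (triv C) i = - a := fun i => dm_const hval i.ne_zero
  have hX : ψ ∈ B.X := by
    by_contra hcon
    by_cases hY : ∃ q, ψ = B.Y q
    · obtain ⟨q, hq⟩ := hY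
      obtain ⟨q', hq'⟩ : ∃ q' : Tau D, q' ≠ q := by
        haveI : Nontrivial (Tau D) := Finite.one_lt_card_iff_nontrivial.1 h.one_lt_tau
        exact exists_ne q
      obtain ⟨i, rfl⟩ := QuotientGroup.mk_surjective q'
      have h1 := B.dmY q i
      rw [← hq, hdm, if_neg hq'] at h1
      exact ha (neg_eq_zero.1 h1)
    · push Not at hY
      have h1 := B.dmO ψ hcon hY 1
      rw [hdm] at h1
      exact ha (neg_eq_zero.1 h1)
  rw [h.X, Finset.mem_insert, Finset.mem_singleton] at hX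
  exact hX.resolve_left hψ

variable [IsSimpleGroup G] {Ω : Type v} [Fintype Ω] [MulAction G Ω] [FaithfulSMul G Ω]

/-- KM1 -/
theorem KM1 (hG : ¬ IsMulCommutative G) (h5 : 5 ≤ p) (P : Sylow p G)
    (hN : Nat.card (Subgroup.normalizer ((P : Subgroup G) : Set G)) = 2 * p) (hprim : MulAction.IsPreprimitive G Ω) (hΩ : Nat.card Ω = 3 * p)
    (χ : IrrCharacter G) : ¬ CharD G p 1 χ := by
  classical
  intro hD
  obtain ⟨D, hC, B, χ', h⟩ := exists_cfg_simple hG h5 P hN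
  have hχ : χ = χ' := eq_of_sing h χ hD.ne (a := -1) (by norm_num) hD.sing
  subst hχ
  have hδ : B.δ χ = -1 := by
    have hx : p ∣ orderOf D.u := by rw [D.ordu]
    have h1 := h.val_sing hx
    rw [hD.sing _ hx] at h1
    exact_mod_cast h1.symm
  have hdeg : charDegree (χ : G → ℂ) = p - 1 := by
    have h1 := hD.deg
    have h2 := hp.out.one_lt
    push_cast at h1
    omega
  haveI := hprim
  exact H70S3254.caseC hG h hδ hdeg hΩ

end Cfsg.Agent.Lib.H52_KM1
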