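import Mathlib
import Cfsg.Agent.Lib.H52T0

set_option autoImplicit false
set_option linter.all false

/-! S3254, piece SEC: the orthogonality part -/

namespace Cfsg.Agent.Lib.H52_SECo

open Cfsg Cfsg.Agent.Lib.BRPerm Cfsg.Agent.Lib.BRCore Cfsg.Agent.Lib.BRInd Cfsg.Agent.Lib.CharBasic Cfsg.Agent.Lib.BlockThird Cfsg.Agent.Lib.H52T0 Cfsg.Agent.Lib.H15RealP Cfsg.Agent.Lib.BRB0 Cfsg.Agent.Lib.DefOneLoc
open scoped ComplexConjugate

universe u v

section general
variable {G : Type u} [Group G] [Fintype G]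

open scoped Classical in
theorem finsum_sub (U : Subgroup G) (f : G → ℂ) :
    ∑ᶠ g ∈ (U : Set G), f g = ∑ g ∈ Finset.univ.filter (fun g : G => g ∈ U), f g := by
  have h : (U : Set G) = ((Finset.univ.filter (fun g : G => g ∈ U) : Finset G) : Set G) := by
    ext x; simp
  rw [h, finsum_mem_coe_finset]

open scoped Classical in
theorem key (A : Finset G) (z : G) (X : IrrCharacter G → ℤ) (n : ℕ)
    (hX : ∀ η : IrrCharacter G, ∑ g ∈ A, (η : G → ℂ) (z * g) = X η * n) (k : G) :
    (∑ η : IrrCharacter G, (X η : ℂ) * (η : G → ℂ) k) * n =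
      ∑ g ∈ A, if IsConj k (z * g) then (Nat.card (Subgroup.centralizer ({k} : Set G)) : ℂ) else 0 := by
  have h1 : ∀ η : IrrCharacter G, (X η : ℂ) * (η : G → ℂ) k * n = ∑ g ∈ A, (η : G → ℂ) k * conj ((η : G → ℂ) (z * g)) := by
    intro η
    rw [← Finset.mul_sum, ← map_sum, hX η, map_mul, map_natCast, map_intCast]
    ring
  rw [Finset.sum_mul, Finset.sum_congr rfl fun η _ => h1 η, Finset.sum_comm]
  apply Finset.sum_congr rfl
  intro g _
  rw [column_orthogonality]
  split_ifs <;> rfl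

open scoped Classical in
theorem key2 (A B : Finset G) (z z' : G) (X Y : IrrCharacter G → ℤ) (n m : ℕ)
    (hX : ∀ η : IrrCharacter G, ∑ g ∈ A, (η : G → ℂ) (z * g) = X η * n)
    (hY : ∀ η : IrrCharacter G, ∑ g ∈ B, (η : G → ℂ) (z' * g) = Y η * m) :
    (∑ η : IrrCharacter G, (X η : ℂ) * (Y η : ℂ)) * m * n =
      ∑ g' ∈ B, ∑ g ∈ A, if IsConj (z' * g') (z * g) then
        (Nat.card (Subgroup.centralizer ({z' * g'} : Set G)) : ℂ) else 0 := by
  have h1 : (∑ η : IrrCharacter G, (X η : ℂ) * (Y η : ℂ)) * m =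
      ∑ g' ∈ B, ∑ η : IrrCharacter G, (X η : ℂ) * (η : G → ℂ) (z' * g') := by
    rw [Finset.sum_comm, Finset.sum_mul]
    apply Finset.sum_congr rfl
    intro η _
    rw [← Finset.mul_sum, hY η, mul_assoc]
  rw [h1, Finset.sum_mul]
  apply Finset.sum_congr rfl
  intro g' _
  exact key A z X n hX (z' * g')

theorem orb (z : G) (W : Subgroup G) (hW : W ≤ Subgroup.centralizer ({z} : Set G))
    (hn : ∀ x ∈ Subgroup.centralizer ({z} : Set G), ∀ y ∈ W, x * y * x⁻¹ ∈ W) (N : ℕ) (hzN : z ^ N = z)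
    (hWN : ∀ g ∈ W, g ^ N = 1) (g : G) (hg : g ∈ W) :
    Nat.card {g' : G // g' ∈ W ∧ IsConj (z * g) (z * g')} * Nat.card (Subgroup.centralizer ({z * g} : Set G)) =
      Nat.card (Subgroup.centralizer ({z} : Set G)) := by
  have hcom : ∀ y ∈ W, Commute z y := by
    intro y hy
    have := Subgroup.mem_centralizer_singleton_iff.1 (hW hy)
    exact this.symm
  have hpow : ∀ y ∈ W, (z * y) ^ N = z := by
    intro y hy
    rw [(hcom y hy).mul_pow, hzN, hWN y hy, mul_one]
  have hzC : z ∈ Subgroup.centralizer ({z} : Set G) := Subgroup.mem_centralizer_singleton_iff.2 rfl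
  have hzg : ∀ y ∈ W, z * y ∈ Subgroup.centralizer ({z} : Set G) := fun y hy => mul_mem hzC (hW hy)
  have hck : ∀ y ∈ W, ∀ y' ∈ W, ∀ k : G, k * (z * y) * k⁻¹ = z * y' → k ∈ Subgroup.centralizer ({z} : Set G) := by
    intro y hy y' hy' k hk
    have h1 : (k * (z * y) * k⁻¹) ^ N = (z * y') ^ N := by rw [hk]
    rw [conj_pow, hpow y hy, hpow y' hy'] at h1
    rw [Subgroup.mem_centralizer_singleton_iff]
    exact mul_inv_eq_iff_eq_mul.1 h1
  have h1 := card_isConj_mul_card_centralizer (⟨z * g, hzg g hg⟩ : Subgroup.centralizer ({z} : Set G))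
  have h2 : Nat.card {x : Subgroup.centralizer ({z} : Set G) // IsConj ⟨z * g, hzg g hg⟩ x} =
      Nat.card {g' : G // g' ∈ W ∧ IsConj (z * g) (z * g')} := by
    apply Nat.card_congr
    refine ⟨fun x => ⟨z⁻¹ * x.1.1, ?_, ?_⟩, fun g' => ⟨⟨z * g'.1, hzg _ g'.2.1⟩, ?_⟩, ?_, ?_⟩
    · obtain ⟨x, hx⟩ := x
      obtain ⟨c, hc⟩ := isConj_iff.1 hx
      have hc' : (c : G) * (z * g) * (c : G)⁻¹ = x := congrArg Subtype.val hc
      have h3 : (c : G) * z = z * c := Subgroup.mem_centralizer_singleton_iff.1 c.2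
      have h4 : z⁻¹ * (x : G) = (c : G) * g * (c : G)⁻¹ := by
        rw [← hc', ← mul_assoc (c : G) z g, h3]; group
      show z⁻¹ * (x : G) ∈ W
      rw [h4]
      exact hn _ c.2 g hg
    · obtain ⟨x, hx⟩ := x
      obtain ⟨c, hc⟩ := isConj_iff.1 hx
      have hc' : (c : G) * (z * g) * (c : G)⁻¹ = x := congrArg Subtype.val hc
      show IsConj (z * g) (z * (z⁻¹ * (x : G)))
      rw [mul_inv_cancel_left]
      exact isConj_iff.2 ⟨c, hc'⟩
    · obtain ⟨g', hg', hconj⟩ := g'
      obtain ⟨k, hk⟩ := isConj_iff.1 hconj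
      exact isConj_iff.2 ⟨⟨k, hck g hg g' hg' k hk⟩, Subtype.ext hk⟩
    · rintro ⟨⟨x, hx1⟩, hx⟩
      apply Subtype.ext
      apply Subtype.ext
      show z * (z⁻¹ * x) = x
      group
    · rintro ⟨x, hx⟩
      apply Subtype.ext
      show z⁻¹ * (z * x) = x
      group
  have h3 : Nat.card (Subgroup.centralizer ({(⟨z * g, hzg g hg⟩ : Subgroup.centralizer ({z} : Set G))} :
      Set (Subgroup.centralizer ({z} : Set G)))) = Nat.card (Subgroup.centralizer ({z * g} : Set G)) := by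
    apply Nat.card_congr
    refine ⟨fun x => ⟨x.1.1, ?_⟩, fun x => ⟨⟨x.1, ?_⟩, ?_⟩, ?_, ?_⟩
    · rw [Subgroup.mem_centralizer_singleton_iff]
      exact congrArg Subtype.val (Subgroup.mem_centralizer_singleton_iff.1 x.2)
    · have h4 : (x : G) * (z * g) = z * g * x := Subgroup.mem_centralizer_singleton_iff.1 x.2
      exact hck g hg g hg x (mul_inv_eq_iff_eq_mul.2 h4)
    · rw [Subgroup.mem_centralizer_singleton_iff]
      exact Subtype.ext (Subgroup.mem_centralizer_singleton_iff.1 x.2)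
    · rintro ⟨⟨x, hx1⟩, hx⟩; rfl
    · rintro ⟨x, hx⟩; rfl
  rw [h2, h3] at h1
  exact h1

open scoped Classical in
theorem orb_sum (z : G) (W : Subgroup G) (hW : W ≤ Subgroup.centralizer ({z} : Set G))
    (hn : ∀ x ∈ Subgroup.centralizer ({z} : Set G), ∀ y ∈ W, x * y * x⁻¹ ∈ W) (N : ℕ) (hzN : z ^ N = z)
    (hWN : ∀ g ∈ W, g ^ N = 1) (g : G) (hg : g ∈ W) :
    (∑ g' ∈ Finset.univ.filter (fun g : G => g ∈ W), if IsConj (z * g) (z * g') then
        (Nat.card (Subgroup.centralizer ({z * g} : Set G)) : ℂ) else 0) =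
      Nat.card (Subgroup.centralizer ({z} : Set G)) := by
  rw [← orb z W hW hn N hzN hWN g hg, ← Finset.sum_filter, Finset.sum_const, nsmul_eq_mul, Finset.filter_filter]
  push_cast
  congr 2
  rw [Nat.card_eq_fintype_card, Fintype.card_subtype]

end general

section main
variable {G : Type u} [Group G] [Fintype G] {Ω : Type v} [Fintype Ω] [MulAction G Ω] {p : ℕ}
variable {T : Sylow 2 G} {t r s v : G} {a b c : Ω} (h : D8 G Ω T t r s v a b c) {U : Subgroup G} (hU : Cen G T t U)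
include h hU

theorem T_le : (T : Subgroup G) ≤ Subgroup.centralizer ({t} : Set G) := by
  rw [← hU.sup]; exact le_sup_right

theorem v_mem : v ∈ (T : Subgroup G) := by
  rw [← h.rs]; exact mul_mem h.rT h.sT

theorem cop : Nat.Coprime (Nat.card U) (Nat.card (T : Subgroup G)) := by
  have h1 : Nat.card (T : Subgroup G) = 2 ^ 3 := h.card
  rw [h1]
  exact Nat.Coprime.pow_right 3 (Nat.coprime_two_right.2 hU.odd)

theorem inf_bot {x : G} (h1 : x ∈ U) (h2 : x ∈ (T : Subgroup G)) : x = 1 := by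
  have h3 := Subgroup.inf_eq_bot_of_coprime (cop h hU)
  have h4 : x ∈ U ⊓ (T : Subgroup G) := ⟨h1, h2⟩
  rw [h3] at h4
  exact Subgroup.mem_bot.1 h4

theorem dec {g : G} (hg : g ∈ Subgroup.centralizer ({t} : Set G)) : ∃ u ∈ U, ∃ x ∈ (T : Subgroup G), g = u * x := by
  let f : U × (T : Subgroup G) → Subgroup.centralizer ({t} : Set G) := fun q =>
    ⟨q.1.1 * q.2.1, mul_mem (hU.le q.1.2) (T_le h hU q.2.2)⟩
  have hf : Function.Injective f := by
    rintro ⟨u, x⟩ ⟨u', x'⟩ he
    have he' : (u : G) * x = u' * x' := congrArg Subtype.val he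
    have h1 : (u' : G)⁻¹ * u = x' * (x : G)⁻¹ := by
      rw [inv_mul_eq_iff_eq_mul, ← mul_assoc, ← he', mul_inv_cancel_right]
    have h2 : (u' : G)⁻¹ * u = 1 := by
      apply inf_bot h hU (mul_mem (inv_mem u'.2) u.2)
      rw [h1]; exact mul_mem x'.2 (inv_mem x.2)
    have h3 : (u : G) = u' := (inv_mul_eq_one.1 h2).symm
    have h4 : (x : G) = x' := by rw [h3] at he'; exact mul_left_cancel he'
    exact Prod.ext (Subtype.ext h3) (Subtype.ext h4)
  have hb := hf.bijective_of_nat_card_le (by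
    rw [hU.card, Nat.card_prod]
    have h1 : Nat.card (T : Subgroup G) = 8 := h.card
    rw [h1, mul_comm])
  obtain ⟨⟨u, x⟩, hux⟩ := hb.2 ⟨g, hg⟩
  exact ⟨u, u.2, x, x.2, (congrArg Subtype.val hux).symm⟩

theorem s_v : s * v ≠ v * s := by
  intro he
  have hs2 : s * s = 1 := by have := pow_orderOf_eq_one s; rw [h.os, pow_two] at this; exact this
  have hr2 : r * r = 1 := by have := pow_orderOf_eq_one r; rw [h.or, pow_two] at this; exact this
  rw [← h.rs] at he
  have h1 : s * r = r * s := by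
    have h2 : s * (r * s) = r * (s * s) := by rw [he, mul_assoc]
    rw [hs2, mul_one] at h2
    have h3 : s * r * s * s = r * s := by rw [mul_assoc s r s, h2]
    rwa [mul_assoc, hs2, mul_one] at h3
  have h2 : v * v = 1 := by
    rw [← h.rs, mul_assoc, ← mul_assoc s r s, h1, mul_assoc r s s, hs2, mul_one, hr2]
  rw [h.vv] at h2
  have h3 := h.ot
  rw [h2, orderOf_one] at h3
  omega

theorem T_cent {x : G} (hx : x ∈ (T : Subgroup G)) (hxv : x * v = v * x) : x ∈ Subgroup.zpowers v := by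
  obtain ⟨T', hT'⟩ : ∃ T' : Subgroup G, T' = (T : Subgroup G) ⊓ Subgroup.centralizer ({v} : Set G) := ⟨_, rfl⟩
  have h8 : Nat.card (T : Subgroup G) = 8 := h.card
  have hle : Subgroup.zpowers v ≤ T' := by
    rw [hT', Subgroup.zpowers_le]
    exact ⟨v_mem h hU, Subgroup.mem_centralizer_singleton_iff.2 rfl⟩
  have h4 : Nat.card (Subgroup.zpowers v) = 4 := by rw [Nat.card_zpowers, h.ov]
  have hd : Nat.card T' ∣ 8 := by
    rw [← h8, hT']; exact Subgroup.card_dvd_of_le inf_le_left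
  have hd4 : 4 ∣ Nat.card T' := by
    rw [← h4]; exact Subgroup.card_dvd_of_le hle
  have hne : Nat.card T' ≠ 8 := by
    intro h5
    have h6 : T' = (T : Subgroup G) := Subgroup.eq_of_le_of_card_ge (by rw [hT']; exact inf_le_left) (by rw [h5, h8])
    have h7 : s ∈ T' := by rw [h6]; exact h.sT
    rw [hT'] at h7
    exact s_v h hU (Subgroup.mem_centralizer_singleton_iff.1 h7.2)
  have hc4 : Nat.card T' = 4 := by
    have h5 := Nat.le_of_dvd (by norm_num) hd
    obtain ⟨q, hq⟩ := hd4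
    have h6 : Nat.card T' ≠ 0 := Nat.card_pos.ne'
    omega
  have h6 : Subgroup.zpowers v = T' := Subgroup.eq_of_le_of_card_ge hle (by rw [hc4, h4])
  rw [h6, hT']
  exact ⟨hx, Subgroup.mem_centralizer_singleton_iff.2 hxv⟩

theorem Cv_le : Subgroup.centralizer ({v} : Set G) ≤ Subgroup.centralizer ({t} : Set G) := by
  intro g hg
  rw [Subgroup.mem_centralizer_singleton_iff] at hg ⊢
  rw [← h.vv, ← mul_assoc, hg, mul_assoc, hg, mul_assoc]

theorem card_Cv : Nat.card (Subgroup.centralizer ({v} : Set G)) =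
    4 * Nat.card (U ⊓ Subgroup.centralizer ({v} : Set G) : Subgroup G) := by
  let f : (U ⊓ Subgroup.centralizer ({v} : Set G) : Subgroup G) × Subgroup.zpowers v →
      Subgroup.centralizer ({v} : Set G) := fun q => ⟨q.1.1 * q.2.1, mul_mem q.1.2.2 (by
        have h1 : Subgroup.zpowers v ≤ Subgroup.centralizer ({v} : Set G) := by
          rw [Subgroup.zpowers_le]; exact Subgroup.mem_centralizer_singleton_iff.2 rfl
        exact h1 q.2.2)⟩
  have hvT : Subgroup.zpowers v ≤ (T : Subgroup G) := by rw [Subgroup.zpowers_le]; exact v_mem h hU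
  have hf : Function.Bijective f := by
    constructor
    · rintro ⟨u, x⟩ ⟨u', x'⟩ he
      have he' : (u : G) * x = u' * x' := congrArg Subtype.val he
      have h1 : (u' : G)⁻¹ * u = x' * (x : G)⁻¹ := by
        rw [inv_mul_eq_iff_eq_mul, ← mul_assoc, ← he', mul_inv_cancel_right]
      have h2 : (u' : G)⁻¹ * u = 1 := by
        apply inf_bot h hU (mul_mem (inv_mem u'.2.1) u.2.1)
        rw [h1]; exact mul_mem (hvT x'.2) (inv_mem (hvT x.2))
      have h3 : (u : G) = u' := (inv_mul_eq_one.1 h2).symm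
      have h4 : (x : G) = x' := by rw [h3] at he'; exact mul_left_cancel he'
      exact Prod.ext (Subtype.ext h3) (Subtype.ext h4)
    · rintro ⟨g, hg⟩
      obtain ⟨u, hu, x, hx, hgux⟩ := dec h hU (Cv_le h hU hg)
      have hgv : g * v = v * g := Subgroup.mem_centralizer_singleton_iff.1 hg
      have hvC : v ∈ Subgroup.centralizer ({t} : Set G) := T_le h hU (v_mem h hU)
      have h1 : x * v * x⁻¹ * v⁻¹ = u⁻¹ * (v * u * v⁻¹) := by
        have h2 : u * x * v = v * (u * x) := by rw [← hgux]; exact hgv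
        have h3 : x * v = u⁻¹ * v * u * x := by
          calc x * v = u⁻¹ * (u * x * v) := by group
            _ = u⁻¹ * (v * (u * x)) := by rw [h2]
            _ = u⁻¹ * v * u * x := by group
        rw [h3]; group
      have h2 : x * v * x⁻¹ * v⁻¹ = 1 := by
        apply inf_bot h hU
        · rw [h1]; exact mul_mem (inv_mem hu) (hU.nor v hvC u hu)
        · exact mul_mem (mul_mem (mul_mem hx (v_mem h hU)) (inv_mem hx)) (inv_mem (v_mem h hU))
      have h3 : x * v = v * x := by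
        have h4 : x * v * x⁻¹ = v := mul_inv_eq_one.1 h2
        exact mul_inv_eq_iff_eq_mul.1 h4
      have h4 : u * v = v * u := by
        rw [h1] at h2
        have h5 : v * u * v⁻¹ = u := (inv_mul_eq_one.1 h2).symm
        exact (mul_inv_eq_iff_eq_mul.1 h5).symm
      exact ⟨⟨⟨u, hu, Subgroup.mem_centralizer_singleton_iff.2 h4⟩, ⟨x, T_cent h hU hx h3⟩⟩, Subtype.ext hgux.symm⟩
  rw [← Nat.card_eq_of_bijective f hf, Nat.card_prod, Nat.card_zpowers, h.ov, mul_comm]

theorem t_ne : t ≠ 1 := by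
  rintro rfl
  have := h.ot
  rw [orderOf_one] at this
  omega

theorem t_notin : t ∉ U := fun ht => t_ne h hU (inf_bot h hU ht h.tT)

theorem v_notin : v ∉ U := by
  intro hv
  have h1 := inf_bot h hU hv (v_mem h hU)
  have := h.ov
  rw [h1, orderOf_one] at this
  omega

theorem tU : t ^ Nat.card U = t := by
  obtain ⟨k, hk⟩ := hU.odd
  rw [hk, pow_add, pow_mul, ← h.ot, pow_orderOf_eq_one, one_pow, one_mul, pow_one]

theorem vU : v ^ (Nat.card U * Nat.card U) = v := by
  obtain ⟨k, hk⟩ := hU.odd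
  have h1 : Nat.card U * Nat.card U = 4 * (k * k + k) + 1 := by rw [hk]; ring
  rw [h1, pow_add, pow_mul, ← h.ov, pow_orderOf_eq_one, one_pow, one_mul, pow_one]

theorem powU {g : G} (hg : g ∈ U) : g ^ Nat.card U = 1 := by
  have := pow_card_eq_one' (G := U) (x := ⟨g, hg⟩)
  exact congrArg Subtype.val this

theorem orth (x y : IrrCharacter G → ℤ)
    (hx : ∀ η : IrrCharacter G, ∑ᶠ g ∈ (U : Set G), (η : G → ℂ) (t * g) = x η * Nat.card U)
    (hy : ∀ η : IrrCharacter G, ∑ᶠ g ∈ ((U ⊓ Subgroup.centralizer ({v} : Set G) : Subgroup G) : Set G),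
      (η : G → ℂ) (v * g) = y η * Nat.card (U ⊓ Subgroup.centralizer ({v} : Set G) : Subgroup G)) :
    (∑ η, x η ^ 2 = 8) ∧ (∑ η, y η ^ 2 = 4) ∧ (∑ η, x η * y η = 0) ∧
    (∑ η : IrrCharacter G, x η * (charDegree (η : G → ℂ) : ℤ) = 0) ∧
    (∑ η : IrrCharacter G, y η * (charDegree (η : G → ℂ) : ℤ) = 0) ∧
    (∑ η : IrrCharacter G, (x η : ℂ) * (η : G → ℂ) t = 8) ∧
    (∑ η : IrrCharacter G, (y η : ℂ) * (η : G → ℂ) t = 0) := by
  classical
  obtain ⟨W, hWe⟩ : ∃ W : Subgroup G, W = U ⊓ Subgroup.centralizer ({v} : Set G) := ⟨_, rfl⟩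
  have hcard := card_Cv h hU
  rw [← hWe] at hy hcard
  simp only [finsum_sub] at hx hy
  have hWU : W ≤ U := by rw [hWe]; exact inf_le_left
  have hWv : W ≤ Subgroup.centralizer ({v} : Set G) := by rw [hWe]; exact inf_le_right
  have hn0 : (Nat.card U : ℂ) ≠ 0 := by exact_mod_cast Nat.card_pos.ne'
  have hm0 : (Nat.card W : ℂ) ≠ 0 := by exact_mod_cast Nat.card_pos.ne'
  have hnW : ∀ x ∈ Subgroup.centralizer ({v} : Set G), ∀ y ∈ W, x * y * x⁻¹ ∈ W := by
    intro x hx y hy
    rw [hWe] at hy ⊢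
    exact ⟨hU.nor x (Cv_le h hU hx) y hy.1, Subgroup.mul_mem _ (Subgroup.mul_mem _ hx hy.2) (Subgroup.inv_mem _ hx)⟩
  have hWN : ∀ g ∈ W, g ^ (Nat.card U * Nat.card U) = 1 := by
    intro g hg
    rw [pow_mul, powU h hU (hWU hg), one_pow]
  have hcU : ∀ g ∈ U, Commute t g := fun g hg => (Subgroup.mem_centralizer_singleton_iff.1 (hU.le hg)).symm
  have hcW : ∀ g ∈ W, Commute v g := fun g hg => (Subgroup.mem_centralizer_singleton_iff.1 (hWv hg)).symm
  have e1 : ∀ g ∈ Finset.univ.filter (fun g : G => g ∈ U), (∑ g' ∈ Finset.univ.filter (fun g : G => g ∈ U),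
      if IsConj (t * g) (t * g') then (Nat.card (Subgroup.centralizer ({t * g} : Set G)) : ℂ) else 0) =
      8 * Nat.card U := by
    intro g hg
    rw [orb_sum t U hU.le hU.nor (Nat.card U) (tU h hU) (fun g hg => powU h hU hg) g (Finset.mem_filter.1 hg).2,
      hU.card]
    push_cast; ring
  have e2 : ∀ g ∈ Finset.univ.filter (fun g : G => g ∈ W), (∑ g' ∈ Finset.univ.filter (fun g : G => g ∈ W),
      if IsConj (v * g) (v * g') then (Nat.card (Subgroup.centralizer ({v * g} : Set G)) : ℂ) else 0) =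
      4 * Nat.card W := by
    intro g hg
    rw [orb_sum v W hWv hnW (Nat.card U * Nat.card U) (vU h hU) hWN g (Finset.mem_filter.1 hg).2, hcard]
    push_cast; ring
  have cardA : ((Finset.univ.filter (fun g : G => g ∈ U)).card : ℂ) = Nat.card U := by
    rw [Nat.card_eq_fintype_card, Fintype.card_subtype]
  have cardB : ((Finset.univ.filter (fun g : G => g ∈ W)).card : ℂ) = Nat.card W := by
    rw [Nat.card_eq_fintype_card, Fintype.card_subtype]
  have nc1 : ∀ g ∈ U, ¬ IsConj (1 : G) (t * g) := by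
    intro g hg hc
    have h1 : t * g = 1 := isConj_one_right.1 hc
    apply t_notin h hU
    rw [eq_inv_of_mul_eq_one_left h1]
    exact inv_mem hg
  have nc2 : ∀ g ∈ W, ¬ IsConj (1 : G) (v * g) := by
    intro g hg hc
    have h1 : v * g = 1 := isConj_one_right.1 hc
    apply v_notin h hU
    rw [eq_inv_of_mul_eq_one_left h1]
    exact inv_mem (hWU hg)
  have nc3 : ∀ g ∈ U, ∀ g' ∈ W, ¬ IsConj (v * g') (t * g) := by
    intro g hg g' hg' hc
    obtain ⟨k, hk⟩ := isConj_iff.1 hc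
    have h1 : (k * (v * g') * k⁻¹) ^ (2 * Nat.card U) = (t * g) ^ (2 * Nat.card U) := by rw [hk]
    have h2 : (t * g) ^ (2 * Nat.card U) = 1 := by
      rw [(hcU g hg).mul_pow, mul_comm 2, pow_mul g, powU h hU hg, one_pow, mul_one, mul_comm _ 2, pow_mul, ← h.ot,
        pow_orderOf_eq_one, one_pow]
    have h3 : (v * g') ^ (2 * Nat.card U) = t := by
      rw [(hcW g' hg').mul_pow, mul_comm 2, pow_mul g', powU h hU (hWU hg'), one_pow, mul_one, mul_comm _ 2, pow_mul,
        pow_two, h.vv, tU h hU]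
    rw [conj_pow, h2, h3] at h1
    apply t_ne h hU
    have h4 : k * t = k := by rwa [mul_inv_eq_one] at h1
    exact mul_eq_left.1 h4
  have nc4 : ∀ g' ∈ W, ¬ IsConj t (v * g') := by
    intro g' hg' hc
    have h1 := nc3 1 (one_mem _) g' hg'
    rw [mul_one] at h1
    exact h1 hc.symm
  have k1 : ∀ k, _ := fun k => key (Finset.univ.filter (fun g : G => g ∈ U)) t x (Nat.card U) hx k
  have k2 : ∀ k, _ := fun k => key (Finset.univ.filter (fun g : G => g ∈ W)) v y (Nat.card W) hy k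
  refine ⟨?_, ?_, ?_, ?_, ?_, ?_, ?_⟩
  · have h1 := key2 _ _ t t x x (Nat.card U) (Nat.card U) hx hx
    rw [Finset.sum_congr rfl e1, Finset.sum_const, nsmul_eq_mul, cardA] at h1
    have h2 : (∑ η : IrrCharacter G, (x η : ℂ) * (x η : ℂ)) = 8 := by
      have h3 : (∑ η : IrrCharacter G, (x η : ℂ) * (x η : ℂ)) * (Nat.card U * Nat.card U : ℂ) =
        8 * (Nat.card U * Nat.card U : ℂ) := by rw [← mul_assoc, h1]; ring
      exact mul_right_cancel₀ (mul_ne_zero hn0 hn0) h3
    have h4 : ((∑ η, x η ^ 2 : ℤ) : ℂ) = 8 := by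
      rw [← h2]; push_cast
      exact Finset.sum_congr rfl fun η _ => by ring
    exact_mod_cast h4
  · have h1 := key2 _ _ v v y y (Nat.card W) (Nat.card W) hy hy
    rw [Finset.sum_congr rfl e2, Finset.sum_const, nsmul_eq_mul, cardB] at h1
    have h2 : (∑ η : IrrCharacter G, (y η : ℂ) * (y η : ℂ)) = 4 := by
      have h3 : (∑ η : IrrCharacter G, (y η : ℂ) * (y η : ℂ)) * (Nat.card W * Nat.card W : ℂ) =
        4 * (Nat.card W * Nat.card W : ℂ) := by rw [← mul_assoc, h1]; ring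
      exact mul_right_cancel₀ (mul_ne_zero hm0 hm0) h3
    have h4 : ((∑ η, y η ^ 2 : ℤ) : ℂ) = 4 := by
      rw [← h2]; push_cast
      exact Finset.sum_congr rfl fun η _ => by ring
    exact_mod_cast h4
  · have h1 := key2 _ _ t v x y (Nat.card U) (Nat.card W) hx hy
    have h0 : (∑ g' ∈ Finset.univ.filter (fun g : G => g ∈ W), ∑ g ∈ Finset.univ.filter (fun g : G => g ∈ U),
        if IsConj (v * g') (t * g) then (Nat.card (Subgroup.centralizer ({v * g'} : Set G)) : ℂ) else 0) = 0 := by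
      apply Finset.sum_eq_zero
      intro g' hg'
      apply Finset.sum_eq_zero
      intro g hg
      rw [if_neg (nc3 g (Finset.mem_filter.1 hg).2 g' (Finset.mem_filter.1 hg').2)]
    rw [h0] at h1
    have h2 : (∑ η : IrrCharacter G, (x η : ℂ) * (y η : ℂ)) = 0 := by
      rcases mul_eq_zero.1 h1 with h3 | h3
      · exact (mul_eq_zero.1 h3).resolve_right hm0
      · exact absurd h3 hn0
    have h4 : ((∑ η, x η * y η : ℤ) : ℂ) = 0 := by rw [← h2]; push_cast; rfl
    exact_mod_cast h4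
  · have h1 := k1 1
    rw [Finset.sum_eq_zero fun g hg => if_neg (nc1 g (Finset.mem_filter.1 hg).2)] at h1
    have h2 := (mul_eq_zero.1 h1).resolve_right hn0
    have h4 : ((∑ η : IrrCharacter G, x η * (charDegree (η : G → ℂ) : ℤ) : ℤ) : ℂ) = 0 := by
      rw [← h2]; push_cast
      exact Finset.sum_congr rfl fun η _ => by rw [BlockDeg.charDegree_cast_irr]
    exact_mod_cast h4
  · have h1 := k2 1
    rw [Finset.sum_eq_zero fun g hg => if_neg (nc2 g (Finset.mem_filter.1 hg).2)] at h1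
    have h2 := (mul_eq_zero.1 h1).resolve_right hm0
    have h4 : ((∑ η : IrrCharacter G, y η * (charDegree (η : G → ℂ) : ℤ) : ℤ) : ℂ) = 0 := by
      rw [← h2]; push_cast
      exact Finset.sum_congr rfl fun η _ => by rw [BlockDeg.charDegree_cast_irr]
    exact_mod_cast h4
  · have h1 := k1 t
    have h2 := e1 1 (Finset.mem_filter.2 ⟨Finset.mem_univ _, one_mem _⟩)
    rw [mul_one] at h2
    rw [h2] at h1
    exact mul_right_cancel₀ hn0 h1
  · have h1 := k2 t
    rw [Finset.sum_eq_zero fun g hg => if_neg (nc4 g (Finset.mem_filter.1 hg).2)] at h1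
    exact (mul_eq_zero.1 h1).resolve_right hm0

end main

end Cfsg.Agent.Lib.H52_SECo
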