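import Cfsg.Agent.Lib.H52_SECi
import Cfsg.Agent.Lib.H52_SECo

set_option autoImplicit false
set_option linter.all false

namespace Cfsg.Agent.Lib.H52_SEC

open Cfsg Cfsg.Agent.Lib.BRPerm Cfsg.Agent.Lib.BRCore Cfsg.Agent.Lib.BRInd Cfsg.Agent.Lib.CharBasic Cfsg.Agent.Lib.BlockThird Cfsg.Agent.Lib.H52T0
universe u v

variable {G : Type u} [Group G] [Fintype G] {Ω : Type v} [Fintype Ω] [MulAction G Ω] {p : ℕ}

/-- SEC -/
theorem SEC (hB : Base G Ω p) {T : Sylow 2 G} {t r s v : G} {a b c : Ω} (h : D8 G Ω T t r s v a b c) {U : Subgroup G}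
    (hU : Cen G T t U) : ∃ x y : IrrCharacter G → ℤ, Sec G t v U x y := by
  obtain ⟨x, y, hx, hy, par⟩ := SECint h hU
  obtain ⟨xx, yy, xy, x1, y1, xt, yt⟩ := Cfsg.Agent.Lib.H52_SECo.orth h hU x y hx hy
  exact ⟨x, y, ⟨hx, hy, par, xx, yy, xy, x1, y1, xt, yt⟩⟩

end Cfsg.Agent.Lib.H52_SEC
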