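import Mathlib
import Cfsg.Agent.Lib.H52T0

set_option autoImplicit false
set_option linter.all false

namespace Cfsg.Agent.Lib.H52_T8

open MulAction

universe u v

section perm

variable {Ω : Type v} [Finite Ω]

/-- a permutation of order dividing 4, without 2-cycles, is odd if it has an odd number of 4-cycles -/
theorem sign_four [Fintype Ω] [DecidableEq Ω] (σ : Equiv.Perm Ω) (h4 : σ ^ 4 = 1) (h2 : ∀ x, σ (σ x) = x → σ x = x) (k : ℕ)
    (hk : σ.support.card = 4 * k) (hodd : Odd k) : Equiv.Perm.sign σ = -1 := by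
  have h1 : ∀ n ∈ σ.cycleType, n = 4 := by
    intro n hn
    have h3 : n ∣ orderOf σ := Equiv.Perm.dvd_of_mem_cycleType hn
    have h5 : orderOf σ ∣ 4 := orderOf_dvd_of_pow_eq_one h4
    have h6 := h3.trans h5
    have h7 := Equiv.Perm.two_le_of_mem_cycleType hn
    have h8 : n ≤ 4 := Nat.le_of_dvd (by norm_num) h6
    have h9 : n ≠ 2 := by
      rintro rfl
      obtain ⟨c, τ, hστ, hdis, hc, hcard⟩ := Equiv.Perm.mem_cycleType_iff.1 hn
      have hcs : Equiv.Perm.IsSwap c := Equiv.Perm.card_support_eq_two.1 hcard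
      obtain ⟨x, y, hxy, rfl⟩ := hcs
      have hτx : τ x = x := by
        rcases hdis x with h | h
        · rw [Equiv.swap_apply_left] at h; exact absurd h.symm hxy
        · exact h
      have hτy : τ y = y := by
        rcases hdis y with h | h
        · rw [Equiv.swap_apply_right] at h; exact absurd h hxy
        · exact h
      have hx1 : σ x = y := by rw [hστ, Equiv.Perm.mul_apply, hτx, Equiv.swap_apply_left]
      have hy1 : σ y = x := by rw [hστ, Equiv.Perm.mul_apply, hτy, Equiv.swap_apply_right]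
      have := h2 x (by rw [hx1, hy1])
      rw [hx1] at this
      exact hxy this.symm
    interval_cases n <;> first | rfl | omega
  have h3 : σ.cycleType = Multiset.replicate (Multiset.card σ.cycleType) 4 := Multiset.eq_replicate.2 ⟨rfl, h1⟩
  have h5 : σ.cycleType.sum = Multiset.card σ.cycleType * 4 := by
    conv_lhs => rw [h3]
    rw [Multiset.sum_replicate, smul_eq_mul]
  have h6 := σ.sum_cycleType
  have h7 : Multiset.card σ.cycleType = k := by omega
  rw [Equiv.Perm.sign_of_cycleType, h5, h7]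
  have h8 : Odd (k * 4 + k) := by
    obtain ⟨m, hm⟩ := hodd
    exact ⟨5 * m + 2, by omega⟩
  exact h8.neg_one_pow

end perm

section grp

variable {G : Type u} [Group G] [Finite G] {Ω : Type v} [Finite Ω] [MulAction G Ω]

/-- simple groups have no odd permutations -/
theorem no_odd_perm [Fintype Ω] [DecidableEq Ω] [IsSimpleGroup G] (hna : ¬ IsMulCommutative G) (w : G) :
    Equiv.Perm.sign (MulAction.toPermHom G Ω w) = 1 := by
  by_contra hcon
  have h1 := (inferInstance : (Equiv.Perm.sign.comp (MulAction.toPermHom G Ω)).ker.Normal)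
  rcases h1.eq_bot_or_eq_top with h | h
  · apply hna
    have hinj : Function.Injective (Equiv.Perm.sign.comp (MulAction.toPermHom G Ω)) :=
      (MonoidHom.ker_eq_bot_iff _).1 h
    exact ⟨⟨fun x y => hinj (by rw [map_mul, map_mul, mul_comm])⟩⟩
  · apply hcon
    have : w ∈ (Equiv.Perm.sign.comp (MulAction.toPermHom G Ω)).ker := by rw [h]; trivial
    exact this

end grp

section core

variable {G : Type u} [Group G] [Finite G] {Ω : Type v} [Finite Ω] [MulAction G Ω]

theorem four {H : Type*} [Group H] [Finite H] (h4 : Nat.card H = 4) {e z : H} (he : e ≠ 1) (hz : z ≠ 1) (hez : e ≠ z)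
    (hsq : ∀ x : H, x * x = 1) (x : H) : x = 1 ∨ x = e ∨ x = z ∨ x = e * z := by
  classical
  haveI := Fintype.ofFinite H
  have h1 : e * z ≠ 1 := fun h => hez (by rw [← mul_left_inj z, h, hsq])
  have h2 : e * z ≠ e := fun h => hz (by simpa using h)
  have h3 : e * z ≠ z := fun h => he (by simpa using h)
  have h5 : ({1, e, z, e * z} : Finset H).card = 4 := by
    rw [Finset.card_insert_of_notMem, Finset.card_insert_of_notMem, Finset.card_insert_of_notMem, Finset.card_singleton]
    · simpa using Ne.symm h3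
    · simp only [Finset.mem_insert, Finset.mem_singleton, not_or]
      exact ⟨hez, Ne.symm h2⟩
    · simp only [Finset.mem_insert, Finset.mem_singleton, not_or]
      exact ⟨Ne.symm he, Ne.symm hz, Ne.symm h1⟩
  have h6 : ({1, e, z, e * z} : Finset H) = Finset.univ := by
    apply Finset.eq_univ_of_card
    rw [h5, ← h4, Nat.card_eq_fintype_card]
  have h7 := Finset.mem_univ x
  rw [← h6] at h7
  simpa using h7

theorem T8core [IsSimpleGroup G] [FaithfulSMul G Ω] {p : ℕ}
    (hna : ¬ IsMulCommutative G) (hΩ : Nat.card Ω = 3 * p) (hp8 : p % 8 = 5)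
    (hconj : ∀ s t : G, orderOf s = 2 → orderOf t = 2 → IsConj s t)
    (h3 : ∀ t : G, orderOf t = 2 → Nat.card (MulAction.fixedBy Ω t) = 3)
    (T : Sylow 2 G) (hT : Nat.card T = 8) (a b c : Ω) (hab : a ≠ b) (hac : a ≠ c) (hbc : b ≠ c)
    (hTa : ∀ x ∈ (T : Subgroup G), x • a = a)
    (hTb : ∀ x ∈ (T : Subgroup G), x • b = b ∨ x • b = c) (hTn : ∃ x ∈ (T : Subgroup G), x • b = c) :
    ∃ t r s : G, t ∈ (T : Subgroup G) ∧ r ∈ (T : Subgroup G) ∧ s ∈ (T : Subgroup G) ∧ orderOf t = 2 ∧ orderOf r = 2 ∧
      orderOf s = 2 ∧ orderOf (r * s) = 4 ∧ (r * s) * (r * s) = t ∧ r * t = t * r ∧ s * t = t * s ∧ r ≠ t ∧ s ≠ t ∧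
      (∀ w : Ω, t • w = w ↔ w = a ∨ w = b ∨ w = c) ∧ (∀ w : Ω, r • w = w ↔ w = a ∨ w = b ∨ w = c) ∧
      s • b = c ∧ s • c = b ∧ ∀ w : Ω, (r * s) • w = w ↔ w = a := by
  classical
  haveI := Fintype.ofFinite Ω
  obtain ⟨x0, hx0, hx0b⟩ := hTn
  have hTc : ∀ x ∈ (T : Subgroup G), x • c = b ∨ x • c = c := by
    intro x hx
    have := hTb (x * x0) (mul_mem hx hx0)
    rwa [mul_smul, hx0b] at this
  have fixc : ∀ x ∈ (T : Subgroup G), x • b = b → x • c = c := by
    intro x hx hb
    rcases hTc x hx with h | h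
    · exact absurd (smul_left_cancel x (h.trans hb.symm)) (Ne.symm hbc)
    · exact h
  have movec : ∀ x ∈ (T : Subgroup G), x • b = c → x • c = b := by
    intro x hx hb
    rcases hTc x hx with h | h
    · exact h
    · exact absurd (smul_left_cancel x (h.trans hb.symm)) (Ne.symm hbc)
  -- the stabilizer
  obtain ⟨E, hE⟩ : ∃ E : Subgroup G, E = (MulAction.stabilizer (T : Subgroup G) b).map (T : Subgroup G).subtype := ⟨_, rfl⟩
  have mE : ∀ x, x ∈ E ↔ x ∈ (T : Subgroup G) ∧ x • b = b := by
    intro x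
    rw [hE, Subgroup.mem_map]
    constructor
    · rintro ⟨y, hy, rfl⟩
      exact ⟨y.2, hy⟩
    · rintro ⟨h1, h2⟩
      exact ⟨⟨x, h1⟩, h2, rfl⟩
  have cE : Nat.card E = 4 := by
    have h1 : (MulAction.orbit (T : Subgroup G) b) = {b, c} := by
      ext w
      constructor
      · rintro ⟨x, rfl⟩
        rcases hTb x x.2 with h | h
        · left; exact h
        · right; exact h
      · rintro (h | h)
        · rw [h]; exact MulAction.mem_orbit_self b
        · rw [h]; exact ⟨⟨x0, hx0⟩, hx0b⟩
    have h2 := MulAction.index_stabilizer (G := (T : Subgroup G)) (x := b)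
    rw [h1, Set.ncard_pair hbc] at h2
    have h4 := (MulAction.stabilizer (T : Subgroup G) b).card_mul_index
    rw [h2] at h4
    have h5 : Nat.card E = Nat.card (MulAction.stabilizer (T : Subgroup G) b) := by
      rw [hE]
      exact (Nat.card_congr ((MulAction.stabilizer (T : Subgroup G) b).equivMapOfInjective _
        (Subgroup.subtype_injective _)).toEquiv).symm
    have h6 : Nat.card (T : Subgroup G) = 8 := hT
    omega
  have fixset : ∀ x ∈ E, orderOf x = 2 → ∀ w : Ω, x • w = w ↔ w = a ∨ w = b ∨ w = c := by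
    intro x hx hx2
    have h1 := h3 x hx2
    have h2 : ({a, b, c} : Set Ω) = MulAction.fixedBy Ω x := by
      apply Set.eq_of_subset_of_ncard_le
      · rintro w (h | h | h)
        · rw [h]; exact hTa x ((mE x).1 hx).1
        · rw [h]; exact ((mE x).1 hx).2
        · rw [h]; exact fixc x ((mE x).1 hx).1 ((mE x).1 hx).2
      · rw [← Nat.card_coe_set_eq, h1]
        rw [Set.ncard_eq_three.2 ⟨a, b, c, hab, hac, hbc, rfl⟩]
      · exact Set.toFinite _
    intro w
    have h4 : w ∈ MulAction.fixedBy Ω x ↔ w ∈ ({a, b, c} : Set Ω) := by rw [h2]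
    exact h4
  have hsq : ∀ x ∈ E, x * x = 1 := by
    intro x hx
    have h1 : orderOf x ∣ 4 := by
      have := orderOf_dvd_natCard (⟨x, hx⟩ : E)
      rw [cE, Subgroup.orderOf_mk] at this
      exact this
    have h2 : orderOf x ≤ 4 := Nat.le_of_dvd (by norm_num) h1
    have h4 : orderOf x ≠ 4 := by
      intro h4
      have h5 : orderOf (x * x) = 2 := by
        rw [← pow_two, orderOf_pow, h4]
        rfl
      have h6 := fixset (x * x) (mul_mem hx hx) h5
      have h7 : ∀ w : Ω, x • x • w = w → x • w = w := by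
        intro w hw
        rw [← mul_smul] at hw
        rcases (h6 w).1 hw with h | h | h
        · rw [h]; exact hTa x ((mE x).1 hx).1
        · rw [h]; exact ((mE x).1 hx).2
        · rw [h]; exact fixc x ((mE x).1 hx).1 ((mE x).1 hx).2
      have h8 : ∀ w : Ω, x • w = w ↔ w = a ∨ w = b ∨ w = c := by
        intro w
        constructor
        · intro h
          exact (h6 w).1 (by rw [mul_smul, h, h])
        · intro h
          exact h7 w (by rw [← mul_smul]; exact (h6 w).2 h)
      have h9 : (MulAction.toPermHom G Ω x).support = ({a, b, c} : Finset Ω)ᶜ := by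
        ext w
        rw [Equiv.Perm.mem_support, Finset.mem_compl, not_iff_not]
        rw [show (MulAction.toPermHom G Ω x) w = x • w from rfl, h8]
        simp
      have h10 : (MulAction.toPermHom G Ω x).support.card = 4 * (3 * (p - 1) / 4) := by
        rw [h9, Finset.card_compl, Finset.card_eq_three.2 ⟨a, b, c, hab, hac, hbc, rfl⟩, ← Nat.card_eq_fintype_card, hΩ]
        omega
      have h11 := sign_four (MulAction.toPermHom G Ω x) (by rw [← map_pow, ← h4, pow_orderOf_eq_one, map_one])
        (fun w hw => h7 w hw) (3 * (p - 1) / 4) h10 (by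
          rw [Nat.odd_iff]; omega)
      rw [no_odd_perm hna x] at h11
      exact absurd h11 (by decide)
    have h5 : orderOf x ∣ 2 := by
      interval_cases hx : orderOf x
      · norm_num at h1
      · norm_num
      · norm_num
      · norm_num at h1
      · exact absurd rfl h4
    rw [← pow_two]
    exact orderOf_dvd_iff_pow_eq_one.1 h5
  have ordE : ∀ x ∈ E, x ≠ 1 → orderOf x = 2 := fun x hx h1 =>
    orderOf_eq_prime (by rw [pow_two]; exact hsq x hx) h1
  have comE : ∀ x ∈ E, ∀ y ∈ E, x * y = y * x := by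
    intro x hx y hy
    have h1 := hsq (x * y) (mul_mem hx hy)
    calc x * y = x * (x * y * (x * y)) * y := by rw [h1, mul_one]
      _ = (x * x) * (y * x) * (y * y) := by group
      _ = y * x := by rw [hsq x hx, hsq y hy, one_mul, mul_one]
  have exE : ∀ z : G, ∃ e ∈ E, e ≠ 1 ∧ e ≠ z := by
    intro z
    by_contra hcon
    push Not at hcon
    have h1 : (E : Set G) ⊆ {1, z} := by
      intro x hx
      by_cases h : x = 1
      · left; exact h
      · right; exact hcon x hx h
    have h2 := Set.ncard_le_ncard h1 (Set.toFinite _)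
    have h4 : (E : Set G).ncard = 4 := by rw [← cE]; rfl
    have h5 := Set.ncard_insert_le (1 : G) {z}
    rw [Set.ncard_singleton] at h5
    omega
  have fourE : ∀ e ∈ E, ∀ z ∈ E, e ≠ 1 → z ≠ 1 → e ≠ z → ∀ x ∈ E, x = 1 ∨ x = e ∨ x = z ∨ x = e * z := by
    intro e he z hz h1 h2 h4 x hx
    have := four (H := E) cE (e := ⟨e, he⟩) (z := ⟨z, hz⟩) (fun h => h1 (congrArg Subtype.val h))
      (fun h => h2 (congrArg Subtype.val h)) (fun h => h4 (congrArg Subtype.val h))
      (fun y => Subtype.ext (hsq y y.2)) ⟨x, hx⟩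
    simpa [Subtype.ext_iff] using this
  have hnE : ∀ x ∈ (T : Subgroup G), x ∉ E → x • b = c := by
    intro x hx hxE
    rcases hTb x hx with h | h
    · exact absurd ((mE x).2 ⟨hx, h⟩) hxE
    · exact h
  -- an involution outside `E`
  obtain ⟨s, hsT, hsb, hss⟩ : ∃ s ∈ (T : Subgroup G), s • b = c ∧ s * s = 1 := by
    by_contra hcon
    push Not at hcon
    obtain ⟨z, hz⟩ : ∃ z, z = x0 * x0 := ⟨_, rfl⟩
    have hzT : z ∈ (T : Subgroup G) := by rw [hz]; exact mul_mem hx0 hx0
    have hzE : z ∈ E := (mE z).2 ⟨hzT, by rw [hz, mul_smul, hx0b, movec x0 hx0 hx0b]⟩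
    have hz1 : z ≠ 1 := by rw [hz]; exact hcon x0 hx0 hx0b
    have com0 : ∀ e ∈ E, x0 * e = e * x0 := by
      intro e he
      obtain ⟨heT, heb⟩ := (mE e).1 he
      have hec := fixc e heT heb
      obtain ⟨e', he'⟩ : ∃ e', e' = x0 * e * x0⁻¹ := ⟨_, rfl⟩
      have hx0c := movec x0 hx0 hx0b
      have he'E : e' ∈ E := (mE e').2 ⟨by rw [he']; exact mul_mem (mul_mem hx0 heT) (inv_mem hx0), by
        rw [he', mul_smul, mul_smul, inv_smul_eq_iff.2 hx0c.symm, hec, hx0c]⟩
      by_cases hee : e' = e
      · rw [he', mul_inv_eq_iff_eq_mul] at hee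
        exact hee
      · exfalso
        have h1 : (x0 * e) * (x0 * e) ≠ 1 := hcon (x0 * e) (mul_mem hx0 heT) (by rw [mul_smul, heb, hx0b])
        have h2 : (x0 * e) * (x0 * e) = e' * z * e := by rw [he', hz]; group
        have h4 : e ≠ 1 := by
          rintro rfl
          exact hee (by rw [he']; group)
        have h5 : e ≠ z := by
          intro h
          exact hee (by rw [he', h, hz]; group)
        rcases fourE e he z hzE h4 hz1 h5 e' he'E with h | h | h | h
        · apply h4
          rw [he', mul_inv_eq_iff_eq_mul, one_mul] at h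
          simpa using h
        · exact hee h
        · apply h5
          rw [he', hz, mul_inv_eq_iff_eq_mul] at h
          have := mul_left_cancel (a := x0) (b := e) (c := x0 * x0) (by rw [h]; group)
          rw [this, hz]
        · apply h1
          rw [h2, h, mul_assoc e z z, hsq z hzE, mul_one, hsq e he]
    obtain ⟨e, he, he1, hez⟩ := exE z
    have dec : ∀ y ∈ (T : Subgroup G), y ∈ E ∨ ∃ f ∈ E, y = x0 * f := by
      intro y hy
      by_cases hyE : y ∈ E
      · left; exact hyE
      · right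
        have h1 := hnE y hy hyE
        refine ⟨x0⁻¹ * y, (mE _).2 ⟨mul_mem (inv_mem hx0) hy, ?_⟩, by group⟩
        rw [mul_smul, h1, inv_smul_eq_iff]; exact hx0b.symm
    have sq : ∀ y ∈ (T : Subgroup G), y * y = 1 ∨ y * y = z := by
      intro y hy
      rcases dec y hy with h | ⟨f, hf, rfl⟩
      · left; exact hsq y h
      · right
        calc x0 * f * (x0 * f) = x0 * (f * x0) * f := by group
          _ = x0 * (x0 * f) * f := by rw [com0 f hf]
          _ = (x0 * x0) * (f * f) := by group
          _ = z := by rw [hsq f hf, mul_one, hz]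
    have cen : ∀ e ∈ E, e ∈ Subgroup.centralizer ((T : Subgroup G) : Set G) := by
      intro e he
      rw [Subgroup.mem_centralizer_iff]
      intro y hy
      rcases dec y hy with h | ⟨f, hf, rfl⟩
      · exact comE y h e he
      · calc x0 * f * e = x0 * (f * e) := by group
          _ = x0 * e * f := by rw [comE f hf e he]; group
          _ = e * x0 * f := by rw [com0 e he]
          _ = e * (x0 * f) := by group
    obtain ⟨g, hg⟩ := isConj_iff.1 (hconj z e (ordE z hzE hz1) (ordE e he he1))
    obtain ⟨n, hn, hne⟩ := T.conj_eq_normalizer_conj_of_mem_centralizer z g⁻¹ (cen z hzE) (by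
      rw [inv_inv, hg]; exact cen e he)
    rw [inv_inv, hg] at hne
    have h1 : n⁻¹ * x0 * n ∈ (T : Subgroup G) := by
      have h2 := Subgroup.mem_normalizer_iff.1 (inv_mem hn) x0
      rw [inv_inv] at h2
      exact h2.1 hx0
    have h2 : e = (n⁻¹ * x0 * n) * (n⁻¹ * x0 * n) := by rw [hne, hz]; group
    rcases sq _ h1 with h | h
    · exact he1 (h2.trans h)
    · exact hez (h2.trans h)
  have hs1 : s ≠ 1 := by
    rintro rfl
    rw [one_smul] at hsb
    exact hbc hsb
  have hs2 : orderOf s = 2 := orderOf_eq_prime (by rw [pow_two]; exact hss) hs1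
  have hsc : s • c = b := movec s hsT hsb
  have hsi : s⁻¹ = s := inv_eq_of_mul_eq_one_left hss
  have nofix : ∀ d : Ω, s • d = d → d ≠ a → ∀ f ∈ E, f • d = d → f = 1 := by
    intro d hd hda f hf hfd
    by_contra hf1
    rcases (fixset f hf (ordE f hf hf1) d).1 hfd with h | h | h
    · exact hda h
    · rw [h, hsb] at hd; exact hbc hd.symm
    · rw [h, hsc] at hd; exact hbc hd
  -- noncommuting
  obtain ⟨r, hrE, hr⟩ : ∃ r ∈ E, s * r ≠ r * s := by
    by_contra hcon
    push Not at hcon
    have h1 : (MulAction.fixedBy Ω s).ncard = 3 := by rw [← Nat.card_coe_set_eq]; exact h3 s hs2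
    have h2 : a ∈ MulAction.fixedBy Ω s := hTa s hsT
    have h4 : (MulAction.fixedBy Ω s \ {a}).ncard = 2 := by
      rw [Set.ncard_diff_singleton_of_mem h2, h1]
    obtain ⟨d, d', hdd, hF⟩ := Set.ncard_eq_two.1 h4
    have hd : d ∈ MulAction.fixedBy Ω s \ {a} := by rw [hF]; exact Set.mem_insert _ _
    have hda : d ≠ a := hd.2
    have hsd : s • d = d := hd.1
    have key : ∀ e ∈ E, e ≠ 1 → e • d = d' := by
      intro e he he1
      have h5 : e • d ∈ MulAction.fixedBy Ω s \ {a} := by
        refine ⟨?_, ?_⟩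
        · show s • e • d = e • d
          rw [← mul_smul, hcon e he, mul_smul, hsd]
        · intro h6
          have h7 : e • d = a := h6
          have h8 := hTa e ((mE e).1 he).1
          exact hda (smul_left_cancel e (h7.trans h8.symm))
      rw [hF] at h5
      rcases h5 with h6 | h6
      · exact absurd (nofix d hsd hda e he h6) he1
      · exact h6
    obtain ⟨e1, he1, he11, -⟩ := exE 1
    obtain ⟨e2, he2, he21, he22⟩ := exE e1
    have h5 : (e1⁻¹ * e2) • d = d := by
      rw [mul_smul, key e2 he2 he21, ← key e1 he1 he11, inv_smul_smul]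
    have h6 := nofix d hsd hda _ (mul_mem (inv_mem he1) he2) h5
    exact he22 (inv_mul_eq_one.1 h6).symm
  obtain ⟨hrT, hrb⟩ := (mE r).1 hrE
  have hrc := fixc r hrT hrb
  have hr1 : r ≠ 1 := by
    rintro rfl
    exact hr (by group)
  obtain ⟨e', he'⟩ : ∃ e', e' = s * r * s := ⟨_, rfl⟩
  have he'E : e' ∈ E := (mE e').2 ⟨by rw [he']; exact mul_mem (mul_mem hsT hrT) hsT, by
    rw [he', mul_smul, mul_smul, hsb, hrc, hsc]⟩
  have he'r : e' ≠ r := by
    intro h
    apply hr
    rw [he'] at h
    calc s * r = s * r * (s * s) := by rw [hss, mul_one]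
      _ = (s * r * s) * s := by group
      _ = r * s := by rw [h]
  have he'1 : e' ≠ 1 := by
    intro h
    rw [he'] at h
    apply hr1
    calc r = (s * s) * r * (s * s) := by rw [hss, one_mul, mul_one]
      _ = s * (s * r * s) * s := by group
      _ = 1 := by rw [h, mul_one, hss]
  obtain ⟨t, ht⟩ : ∃ t, t = r * e' := ⟨_, rfl⟩
  have htE : t ∈ E := by rw [ht]; exact mul_mem hrE he'E
  have ht1 : t ≠ 1 := by
    intro h
    apply he'r
    rw [ht] at h
    calc e' = (r * r) * e' := by rw [hsq r hrE, one_mul]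
      _ = r * (r * e') := by group
      _ = r := by rw [h, mul_one]
  have hse : s * e' * s = r := by
    rw [he']
    calc s * (s * r * s) * s = (s * s) * r * (s * s) := by group
      _ = r := by rw [hss, one_mul, mul_one]
  have hst : s * t = t * s := by
    have h1 : s * t * s = t := by
      calc s * t * s = s * r * (s * s) * e' * s := by rw [hss, mul_one, ht]; group
        _ = (s * r * s) * (s * e' * s) := by group
        _ = e' * r := by rw [hse, he']
        _ = t := by rw [ht, comE e' he'E r hrE]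
    calc s * t = s * t * (s * s) := by rw [hss, mul_one]
      _ = (s * t * s) * s := by group
      _ = t * s := by rw [h1]
  have hvv : (r * s) * (r * s) = t := by rw [ht, he']; group
  have hfr := fixset r hrE (ordE r hrE hr1)
  have hft := fixset t htE (ordE t htE ht1)
  refine ⟨t, r, s, ((mE t).1 htE).1, hrT, hsT, ordE t htE ht1, ordE r hrE hr1, hs2, ?_, hvv, comE r hrE t htE, hst, ?_, ?_,
    hft, hfr, hsb, hsc, ?_⟩
  · have h1 : ¬ (r * s) ^ 2 ^ 1 = 1 := by
      rw [pow_one, pow_two, hvv]; exact ht1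
    have h2 : (r * s) ^ 2 ^ (1 + 1) = 1 := by
      have h4 : (r * s) ^ 2 ^ (1 + 1) = ((r * s) * (r * s)) * ((r * s) * (r * s)) := by
        rw [show (2 : ℕ) ^ (1 + 1) = 2 * 2 by norm_num, pow_mul, pow_two, pow_two]
      rw [h4, hvv, hsq t htE]
    have := orderOf_eq_prime_pow h1 h2
    rw [this]
    norm_num
  · intro h
    rw [ht] at h
    apply he'1
    have := congrArg (fun x => r⁻¹ * x) h
    simpa using this.symm
  · intro h
    have h1 := ((mE t).1 htE).2
    rw [← h, hsb] at h1
    exact hbc h1.symm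
  · intro w
    constructor
    · intro hw
      have h1 : t • w = w := by rw [← hvv, mul_smul, hw, hw]
      rcases (hft w).1 h1 with h | h | h
      · exact h
      · exfalso
        rw [h, mul_smul, hsb, hrc] at hw
        exact hbc hw.symm
      · exfalso
        rw [h, mul_smul, hsc, hrb] at hw
        exact hbc hw
    · rintro rfl
      exact hTa _ (mul_mem hrT hsT)

end core

section fin

open Cfsg Cfsg.Agent.Lib.BRPerm Cfsg.Agent.Lib.BRCore Cfsg.Agent.Lib.BRInd Cfsg.Agent.Lib.CharBasic Cfsg.Agent.Lib.BlockThird Cfsg.Agent.Lib.H52T0 Cfsg.Agent.Lib.H15RealP Cfsg.Agent.Lib.BRB0 Cfsg.Agent.Lib.DefOneLoc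

variable {G : Type u} [Group G] [Fintype G] {Ω : Type v} [Fintype Ω] [MulAction G Ω] {p : ℕ}

/-- T8 -/
theorem T8 (hB : Base G Ω p) (h3 : ∀ t : G, orderOf t = 2 → fx Ω t = 3) (hp8 : p % 8 = 5) (T : Sylow 2 G) (hT : Nat.card T = 8)
    (a b c : Ω) (hab : a ≠ b) (hac : a ≠ c) (hbc : b ≠ c) (hTa : ∀ x ∈ (T : Subgroup G), x • a = a)
    (hTb : ∀ x ∈ (T : Subgroup G), x • b = b ∨ x • b = c) (hTn : ∃ x ∈ (T : Subgroup G), x • b = c) :
    ∃ t r s v : G, ∃ b' c' : Ω, D8 G Ω T t r s v a b' c' := by
  haveI := hB.simple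
  haveI := hB.faithful
  obtain ⟨t, r, s, h1, h2, h4, h5, h6, h7, h8, h9, h10, h11, h12, h13, h14, h15, h16, h17, h18⟩ :=
    T8core (p := p) hB.nab hB.card hp8 hB.conj h3 T hT a b c hab hac hbc hTa hTb hTn
  exact ⟨t, r, s, r * s, b, c,
    { card := hT, tT := h1, rT := h2, sT := h4, ot := h5, or := h6, os := h7, ov := h8, vv := h9, rs := rfl,
      rt := h10, st := h11, rnt := h12, snt := h13, ab := hab, ac := hac, bc := hbc, ft := h14, fr := h15,
      sa := hTa s h4, sb := h16, sc := h17, fv := h18, fT := hTa }⟩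

end fin

end Cfsg.Agent.Lib.H52_T8
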