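import Mathlib
import Cfsg.Agent.Lib.BRPerm

/-! S3254, imprimitive half (helper70). -/

set_option autoImplicit false
set_option linter.all false
set_option maxHeartbeats 400000

namespace Cfsg.Agent.Lib.H70S3254

open Cfsg Cfsg.Agent.Lib
open scoped Pointwise

/-- simple groups of degree `p` with `|N(P)| = 2p` -/
theorem deg_p {G : Type*} [Group G] [Finite G] [IsSimpleGroup G] (hG : ¬ IsMulCommutative G)
    (p : ℕ) (hp : p.Prime) (hp3 : 3 < p) {α : Type*} [Finite α] [MulAction G α]
    (htr : MulAction.IsPretransitive G α) (hα : Nat.card α = p)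
    (P : Sylow p G) (hN : Nat.card ↥(Subgroup.normalizer ((P : Subgroup G) : Set G)) = 2 * p) :
    ∃ (F : Type) (_ : Field F) (_ : Fintype F) (m : ℕ), Fintype.card F = 2 ^ m ∧ p = 2 ^ m + 1 ∧
      Nonempty (G ≃* Matrix.ProjectiveSpecialLinearGroup (Fin 2) F) := by
  classical
  haveI : Fact p.Prime := ⟨hp⟩
  haveI : Fintype α := Fintype.ofFinite α
  let f : G →* Equiv.Perm α := MulAction.toPermHom G α
  have hf : Function.Injective f := by
    rw [← MonoidHom.ker_eq_bot_iff]
    rcases IsSimpleGroup.eq_bot_or_eq_top_of_normal f.ker inferInstance with h | h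
    · exact h
    · exfalso
      haveI : Subsingleton α := by
        have hne : Nonempty α := by
          have : 0 < Nat.card α := by rw [hα]; exact hp.pos
          exact (Nat.card_pos_iff.1 this).1
        obtain ⟨a⟩ := hne
        refine ⟨fun b c => ?_⟩
        have key : ∀ b : α, b = a := by
          intro b
          obtain ⟨g, hg⟩ := MulAction.exists_smul_eq G a b
          have h1 : g ∈ f.ker := by rw [h]; trivial
          have h2 : f g = 1 := h1
          have h3 : f g a = a := by rw [h2]; rfl
          rw [← hg]
          exact h3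
        rw [key b, key c]
      have := Finite.card_le_one_iff_subsingleton.2 this
      omega
  let e : G ≃* f.range := MonoidHom.ofInjective hf
  let Q : Sylow p f.range := P.mapSurjective (f := e.toMonoidHom) e.surjective
  have hQ : (Q : Subgroup f.range) = (P : Subgroup G).map e.toMonoidHom := rfl
  have hNQ : Nat.card (Subgroup.normalizer ((Q : Subgroup f.range) : Set f.range)) = 2 * p := by
    rw [← hN, hQ]
    have h1 := Subgroup.map_equiv_normalizer_eq (P : Subgroup G) e
    have h2 : Nat.card ((Subgroup.normalizer ((P : Subgroup G) : Set G)).map e.toMonoidHom) =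
        Nat.card (Subgroup.normalizer ((P : Subgroup G) : Set G)) :=
      Nat.card_congr (Subgroup.equivMapOfInjective _ e.toMonoidHom e.injective).symm.toEquiv
    rw [← h2, h1]
  have hpG : p ∣ Nat.card G := by
    have h1 := Subgroup.card_subgroup_dvd_card (Subgroup.normalizer ((P : Subgroup G) : Set G))
    rw [hN] at h1
    exact (dvd_mul_left p 2).trans h1
  rcases BRPerm.main (by omega) (by rw [← Nat.card_eq_fintype_card]; exact hα) f.range Q hNQ with h | h
  · exfalso
    have hPn : (P : Subgroup G).Normal := by
      have h1 : (P : Subgroup G) = (Q : Subgroup f.range).comap e.toMonoidHom := by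
        rw [hQ]
        exact (Subgroup.comap_map_eq_self_of_injective (f := e.toMonoidHom) e.injective _).symm
      rw [h1]
      exact h.comap _
    rcases IsSimpleGroup.eq_bot_or_eq_top_of_normal (P : Subgroup G) hPn with h1 | h1
    · exact P.ne_bot_of_dvd_card hpG h1
    · apply hG
      have h2 : Nat.card G = 2 * p := by
        rw [← hN, h1]
        have : Subgroup.normalizer ((⊤ : Subgroup G) : Set G) = ⊤ := Subgroup.normalizer_eq_top_iff.2 inferInstance
        rw [this]
        exact Subgroup.card_top.symm
      obtain ⟨k, hk⟩ := IsPGroup.iff_card.1 P.isPGroup'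
      have h3 : Nat.card P = Nat.card G := by
        have : Nat.card (P : Subgroup G) = Nat.card (⊤ : Subgroup G) := by rw [h1]
        rw [Subgroup.card_top] at this
        exact this
      have h4 : 2 ∣ p ^ k := by
        rw [← hk, h3, h2]
        exact dvd_mul_right 2 p
      have h5 : 2 ∣ p := Nat.prime_two.dvd_of_dvd_pow h4
      have h6 := (Nat.prime_dvd_prime_iff_eq Nat.prime_two hp).1 h5
      omega
  · obtain ⟨a, F, i1, i2, h1, h2, ⟨E⟩⟩ := h
    have ha : 0 < a := by
      rcases Nat.eq_zero_or_pos a with h4 | h4
      · rw [h4] at h1; omega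
      · exact h4
    obtain ⟨E'⟩ := BRThm.psl_eq_sl (BRThm.two_eq_zero ha h2)
    exact ⟨F, i1, i2, a, h2, h1, ⟨(e.trans E).trans E'.symm⟩⟩

/-- the imprimitive half of S3254 -/
theorem main_imprimitive {G : Type*} [Group G] [Finite G] [IsSimpleGroup G] (hG : ¬ IsMulCommutative G)
    (p : ℕ) (hp : p.Prime) (hp3 : 3 < p) {Ω : Type*} [Fintype Ω] [MulAction G Ω] [FaithfulSMul G Ω]
    (htr : MulAction.IsPretransitive G Ω) (hΩ : Fintype.card Ω = 3 * p)
    (P : Sylow p G) (hN : Nat.card ↥(Subgroup.normalizer ((P : Subgroup G) : Set G)) = 2 * p)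
    (himp : ¬ MulAction.IsPreprimitive G Ω) :
    ∃ (F : Type) (_ : Field F) (_ : Fintype F) (m : ℕ), Fintype.card F = 2 ^ m ∧ p = 2 ^ m + 1 ∧
        Nonempty (G ≃* Matrix.ProjectiveSpecialLinearGroup (Fin 2) F) := by
  classical
  haveI : Fact p.Prime := ⟨hp⟩
  have hex : ∃ B : Set Ω, MulAction.IsBlock G B ∧ ¬ MulAction.IsTrivialBlock B := by
    by_contra hcon
    push Not at hcon
    apply himp
    exact { toIsPretransitive := htr, isTrivialBlock_of_isBlock := fun {B} hB => hcon B hB }
  obtain ⟨B, hB, hBt⟩ := hex
  have hBn : B.Nonempty := by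
    by_contra h
    apply hBt
    left
    rw [Set.not_nonempty_iff_eq_empty.1 h]
    exact Set.subsingleton_empty
  have hcard := hB.ncard_block_mul_ncard_orbit_eq hBn
  rw [Nat.card_eq_fintype_card, hΩ] at hcard
  have horb : Nat.card (MulAction.orbit G B) = (MulAction.orbit G B).ncard := Nat.card_coe_set_eq _
  have hb1 : B.ncard ≠ 1 := by
    intro h
    apply hBt
    left
    rw [Set.ncard_eq_one] at h
    obtain ⟨a, ha⟩ := h
    rw [ha]
    exact Set.subsingleton_singleton
  have hb0 : B.ncard ≠ 3 * p := by
    intro h
    apply hBt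
    right
    apply Set.eq_of_subset_of_ncard_le (Set.subset_univ _)
    rw [Set.ncard_univ, Nat.card_eq_fintype_card, hΩ, h]
  have hpG : p ∣ Nat.card G := by
    have h1 := Subgroup.card_subgroup_dvd_card (Subgroup.normalizer ((P : Subgroup G) : Set G))
    rw [hN] at h1
    exact (dvd_mul_left p 2).trans h1
  have hcases : (MulAction.orbit G B).ncard = p ∨ (MulAction.orbit G B).ncard = 3 := by
    have h1 : B.ncard ∣ 3 * p := ⟨_, hcard.symm⟩
    have h3 : Nat.Prime 3 := Nat.prime_three
    have hcard' : B.ncard * (MulAction.orbit G B).ncard = 3 * p := hcard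
    rcases (Nat.Prime.dvd_mul hp).1 (show p ∣ B.ncard * (MulAction.orbit G B).ncard from ⟨3, by rw [hcard']; ring⟩) with h2 | h2
    · obtain ⟨c, hc⟩ := h2
      have h5 : c * (MulAction.orbit G B).ncard = 3 := by
        have : p * (c * (MulAction.orbit G B).ncard) = p * 3 := by
          rw [← mul_assoc, ← hc, hcard']; ring
        exact Nat.eq_of_mul_eq_mul_left hp.pos this
      rcases (Nat.dvd_prime h3).1 ⟨_, h5.symm⟩ with h6 | h6
      · right
        rw [h6, one_mul] at h5
        exact h5
      · exfalso
        apply hb0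
        rw [hc, h6, mul_comm]
    · obtain ⟨c, hc⟩ := h2
      have h5 : B.ncard * c = 3 := by
        have : p * (B.ncard * c) = p * 3 := by
          calc p * (B.ncard * c) = B.ncard * (p * c) := by ring
            _ = 3 * p := by rw [← hc, hcard']
            _ = p * 3 := by ring
        exact Nat.eq_of_mul_eq_mul_left hp.pos this
      rcases (Nat.dvd_prime h3).1 ⟨_, h5.symm⟩ with h6 | h6
      · exact absurd h6 hb1
      · left
        rw [h6] at h5
        have : c = 1 := by omega
        rw [hc, this, mul_one]
  rcases hcases with h | h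
  · exact deg_p hG p hp hp3 (α := MulAction.orbit G B) inferInstance (by rw [horb, h]) P hN
  · exfalso
    let α := MulAction.orbit G B
    let f : G →* Equiv.Perm α := MulAction.toPermHom G α
    have hf : Function.Injective f := by
      rw [← MonoidHom.ker_eq_bot_iff]
      rcases IsSimpleGroup.eq_bot_or_eq_top_of_normal f.ker inferInstance with h1 | h1
      · exact h1
      · exfalso
        have hs : Subsingleton α := by
          let a : α := ⟨B, MulAction.mem_orbit_self B⟩
          have key : ∀ b : α, b = a := by
            intro b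
            obtain ⟨g, hg⟩ := MulAction.exists_smul_eq G a b
            have h1 : g ∈ f.ker := by rw [h1]; trivial
            have h2 : f g = 1 := h1
            have h3 : f g a = a := by rw [h2]; rfl
            rw [← hg]
            exact h3
          exact ⟨fun b c => by rw [key b, key c]⟩
        have h2 := Finite.card_le_one_iff_subsingleton.2 hs
        rw [horb, h] at h2
        omega
    have h1 : Nat.card G ∣ Nat.card (Equiv.Perm α) := Subgroup.card_dvd_of_injective f hf
    haveI : Fintype α := Fintype.ofFinite α
    rw [Nat.card_perm, horb, h] at h1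
    have h2 : p ∣ 6 := hpG.trans h1
    have h3 := Nat.le_of_dvd (by norm_num) h2
    have h4 : p = 5 ∨ p = 4 ∨ p = 6 := by omega
    rcases h4 with h4 | h4 | h4
    · rw [h4] at h2; omega
    · rw [h4] at hp; exact absurd hp (by norm_num)
    · rw [h4] at hp; exact absurd hp (by norm_num)

end Cfsg.Agent.Lib.H70S3254
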