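import Cfsg.Agent.Lib.H52T0
import Cfsg.Agent.Lib.H70S3254
import Cfsg.Agent.Lib.H52_CYC
import Cfsg.Agent.Lib.H52_A0NUM
import Cfsg.Agent.Lib.H52_A0M
import Cfsg.Agent.Lib.H52_A0D
import Cfsg.Agent.Lib.H52_A0F
import Cfsg.Agent.Lib.H52_T8
import Cfsg.Agent.Lib.H52_CEN
import Cfsg.Agent.Lib.H52_SEC
import Cfsg.Agent.Lib.H52_A2T
import Cfsg.Agent.Lib.H52_A2F
import Cfsg.Agent.Lib.H52_BRANK
import Cfsg.Agent.Lib.H52_BFIX
import Cfsg.Agent.Lib.H52_BT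
import Cfsg.Agent.Lib.H52_BCOEF
import Cfsg.Agent.Lib.H52_BFIN
import Cfsg.Agent.Lib.H52_KBASE
import Cfsg.Agent.Lib.H52_KDEC
import Cfsg.Agent.Lib.H52_KM1
import Cfsg.Agent.Lib.H52TriJoin
import Cfsg.Agent.Lib.H52TriJoin
set_option autoImplicit false
namespace Cfsg.Agent.Lib.H52TriMain
open Cfsg Cfsg.Agent.Lib.BRPerm Cfsg.Agent.Lib.BRCore Cfsg.Agent.Lib.BRInd Cfsg.Agent.Lib.CharBasic Cfsg.Agent.Lib.BlockThird Cfsg.Agent.Lib.H52T0 Cfsg.Agent.Lib.H15RealP Cfsg.Agent.Lib.BRB0 Cfsg.Agent.Lib.DefOneLoc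
open Cfsg.Agent.Lib.H52_CYC
open Cfsg.Agent.Lib.H52_A0NUM
open Cfsg.Agent.Lib.H52_A0M
open Cfsg.Agent.Lib.H52_A0D
open Cfsg.Agent.Lib.H52_A0F
open Cfsg.Agent.Lib.H52_T8
open Cfsg.Agent.Lib.H52_CEN
open Cfsg.Agent.Lib.H52_SEC
open Cfsg.Agent.Lib.H52_A2T
open Cfsg.Agent.Lib.H52_A2F
open Cfsg.Agent.Lib.H52_BRANK
open Cfsg.Agent.Lib.H52_BFIX
open Cfsg.Agent.Lib.H52_BT
open Cfsg.Agent.Lib.H52_BCOEF
open Cfsg.Agent.Lib.H52_BFIN
open Cfsg.Agent.Lib.H52_KBASE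
open Cfsg.Agent.Lib.H52_KDEC
open Cfsg.Agent.Lib.H52_KM1
open Cfsg.Agent.Lib.H52TriJoin (BCOUNT)
open Cfsg.Agent.Lib.H52TriJoin (BLINE)
universe u v

section gen
variable {G : Type u} [Group G] [Fintype G] {Ω : Type v} [Fintype Ω] [MulAction G Ω] {p : ℕ}




































end gen

section cfg
variable {G : Type u} [Group G] [Fintype G] [IsSimpleGroup G] {p : ℕ} [hp : Fact p.Prime] {Ω : Type v} [Fintype Ω] [MulAction G Ω] [FaithfulSMul G Ω]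






end cfg

section asm
variable {G : Type u} [Group G] [Fintype G] {Ω : Type v} [Fintype Ω] [MulAction G Ω] {p : ℕ}

theorem fixOdd (hB : Base G Ω p) (h1 : ∀ t : G, orderOf t = 2 → fx Ω t = 1) (x y : Ω) (hxy : x ≠ y) :
    Odd (Nat.card (MulAction.stabilizer G x ⊓ MulAction.stabilizer G y : Subgroup G)) := by
  by_contra h
  rw [Nat.not_odd_iff_even, even_iff_two_dvd] at h
  obtain ⟨⟨t, ht⟩, ht2⟩ := exists_prime_orderOf_dvd_card' 2 h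
  rw [Subgroup.orderOf_mk] at ht2
  have h2 := h1 t ht2
  rw [fx, Nat.card_eq_one_iff_unique] at h2
  obtain ⟨hs, -⟩ := h2
  have h3 := @Subsingleton.elim _ hs (⟨x, ht.1⟩ : MulAction.fixedBy Ω t) ⟨y, ht.2⟩
  exact hxy (congrArg Subtype.val h3)

theorem two_of (hB : Base G Ω p) {χ : IrrCharacter G} (hne : χ ≠ triv G) (hpi : pi (G := G) Ω = 1 + (χ : G → ℂ)) :
    MulAction.IsMultiplyPretransitive G Ω 2 := by
  haveI := hB.faithful
  apply Cfsg.Agent.Lib.H15Deg2p.two_trans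
  · exact Cfsg.Agent.Lib.H15Deg2p.norm_sq hpi hne
  · rw [hB.card]; have := hB.h5; omega

theorem caseA (hB : Base G Ω p) {χ : IrrCharacter G} (hχ : CharD G p 3 χ) (hpi : pi (G := G) Ω = 1 + (χ : G → ℂ)) : False := by
  have h2 := two_of hB hχ.ne hpi
  haveI := hB.faithful
  have hp5 := hB.h5
  obtain ⟨t₀, ht₀⟩ := hB.inv
  have hfx : ∀ t : G, orderOf t = 2 → fx Ω t = fx Ω t₀ := by
    intro t ht
    obtain ⟨g, hg⟩ := isConj_iff.1 (hB.conj t₀ t ht₀ ht)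
    have h1 : pi Ω t = pi Ω t₀ := by
      rw [← hg]; exact (pi_char (G := G) (α := Ω)).isClassFunction t₀ g
    rw [pi_eq, pi_eq] at h1
    exact_mod_cast h1
  have hval : ∀ t : G, (χ : G → ℂ) t = ((fx Ω t : ℤ) - 1 : ℤ) := by
    intro t
    have h3 := congrFun hpi t
    rw [Pi.add_apply, Pi.one_apply, pi_eq] at h3
    push_cast
    rw [h3]; ring
  rcases hB.sub t₀ ht₀ with ⟨h1, hp4⟩ | ⟨h3, hp4⟩
  · have hf1 : ∀ t : G, orderOf t = 2 → fx Ω t = 1 := fun t ht => (hfx t ht).trans h1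
    have hE : ∀ t : G, orderOf t = 2 → Nat.card G * (3 * p - 1) = p * Nat.card (Subgroup.centralizer ({t} : Set G)) ^ 2 * (3 * p - 2) := by
      intro t ht
      have h4 := hχ.E1 t ht 0 (by rw [hval t, hf1 t ht]; norm_num)
      have e1 : ((3 * p - 1 : ℕ) : ℤ) = 3 * p - 1 := by push_cast [Nat.cast_sub (show 1 ≤ 3 * p by omega)]; ring
      have e2 : ((3 * p - 2 : ℕ) : ℤ) = 3 * p - 2 := by push_cast [Nat.cast_sub (show 2 ≤ 3 * p by omega)]; ring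
      have h5 : ((Nat.card G * (3 * p - 1) : ℕ) : ℤ) = ((p * Nat.card (Subgroup.centralizer ({t} : Set G)) ^ 2 * (3 * p - 2) : ℕ) : ℤ) := by
        rw [Nat.cast_mul, Nat.cast_mul, e1, e2]
        have h6 : ((3 : ℤ) * p - 1) ≠ 0 := by
          have : (5 : ℤ) ≤ p := by exact_mod_cast hp5
          omega
        apply mul_right_cancel₀ h6
        push_cast
        push_cast at h4
        linear_combination h4
      exact_mod_cast h5
    obtain ⟨k, hk, hk1⟩ := A0NUM hB h2 hE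
    have hcyc : ∀ g : G, g ≠ 1 → ¬ p ∣ orderOf g → 2 * cyc Ω g ≤ 3 * p + 1 := fun g hg hp => CYC hB hf1 hg hp
    obtain ⟨m1, ⟨g, m2, m3, m4⟩, m5⟩ := A0M hB h2 hf1 k hk hk1 hcyc
    exact A0F hB m1 hf1 (fun x y z hxy hxz hyz => A0D hB m1 (fixOdd hB hf1) ⟨g, m2, m4⟩ x y z hxy hxz hyz) m5 ⟨g, m2, m3, m4⟩ hcyc
  · have hf3 : ∀ t : G, orderOf t = 2 → fx Ω t = 3 := fun t ht => (hfx t ht).trans h3
    have hE : ∀ t : G, orderOf t = 2 → Nat.card G * (9 * (p - 1) ^ 2) = p * Nat.card (Subgroup.centralizer ({t} : Set G)) ^ 2 * (3 * p - 1) * (3 * p - 2) := by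
      intro t ht
      have h4 := hχ.E1 t ht 2 (by rw [hval t, hf3 t ht]; norm_num)
      have e0 : ((p - 1 : ℕ) : ℤ) = p - 1 := by push_cast [Nat.cast_sub (show 1 ≤ p by omega)]; ring
      have e1 : ((3 * p - 1 : ℕ) : ℤ) = 3 * p - 1 := by push_cast [Nat.cast_sub (show 1 ≤ 3 * p by omega)]; ring
      have e2 : ((3 * p - 2 : ℕ) : ℤ) = 3 * p - 2 := by push_cast [Nat.cast_sub (show 2 ≤ 3 * p by omega)]; ring
      have h5 : ((Nat.card G * (9 * (p - 1) ^ 2) : ℕ) : ℤ) = ((p * Nat.card (Subgroup.centralizer ({t} : Set G)) ^ 2 * (3 * p - 1) * (3 * p - 2) : ℕ) : ℤ) := by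
        rw [Nat.cast_mul, Nat.cast_mul, Nat.cast_pow, e0, Nat.cast_mul, Nat.cast_mul, Nat.cast_mul, e1, e2, Nat.cast_pow]
        push_cast
        push_cast at h4
        linear_combination h4
      exact_mod_cast h5
    obtain ⟨hp8, T, hT, a, b, c, hab, hac, hbc, hTa, hTb, hTn⟩ := A2T hB h2 hf3 hE
    obtain ⟨t, r, s, v, b', c', hD⟩ := T8 hB hf3 hp8 T hT a b c hab hac hbc hTa hTb hTn
    obtain ⟨U, hU⟩ := CEN hB hD
    obtain ⟨x, y, hs⟩ := SEC hB hD hU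
    exact A2F hB hχ hpi hD hU hs hp8

theorem caseB (hB : Base G Ω p) {χ ψ : IrrCharacter G} (hχ : CharD G p 2 χ) (hψ : (charDegree (ψ : G → ℂ) : ℤ) = p)
    (hne : ψ ≠ χ) (hpi : pi (G := G) Ω = 1 + (χ : G → ℂ) + (ψ : G → ℂ)) : p = 5 ∧ Nonempty (G ≃* alternatingGroup (Fin 6)) := by
  have hfix := BFIX hB hχ hψ hne hpi
  have h3 : ∀ t : G, orderOf t = 2 → fx Ω t = 3 := fun t ht => (hfix t ht).2.2
  have hχt : ∀ t : G, orderOf t = 2 → (χ : G → ℂ) t = 1 := fun t ht => (hfix t ht).1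
  have hrank := BRANK hB hχ hψ hne hpi
  obtain ⟨hp8, T, hT, a, b, c, hab, hac, hbc, hTa, hTb, hTn⟩ := BT hB hχ hψ hne hpi h3 hχt hrank
  obtain ⟨t, r, s, v, b', c', hD⟩ := T8 hB h3 hp8 T hT a b c hab hac hbc hTa hTb hTn
  obtain ⟨U, hU⟩ := CEN hB hD
  obtain ⟨x, y, hs⟩ := SEC hB hD hU
  obtain ⟨hUf, hx, hy⟩ := BCOEF hB hχ hψ hne hpi hp8 h3 hD hU hs
  have hc := BCOUNT hB hχ hχt hD hU hs hx hy
  obtain ⟨h5, hA⟩ := BLINE hB hχ hχt h3 hD hU hUf hc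
  subst h5
  exact ⟨rfl, BFIN hB hrank hA⟩
end asm

section fin
variable {G : Type u} [Group G] [Fintype G] [IsSimpleGroup G] {p : ℕ} [hp : Fact p.Prime] {Ω : Type v} [Fintype Ω] [MulAction G Ω] [FaithfulSMul G Ω]

theorem main_primitive (hG : ¬ IsMulCommutative G) (h5 : 5 ≤ p) (P : Sylow p G)
    (hN : Nat.card (Subgroup.normalizer ((P : Subgroup G) : Set G)) = 2 * p) (hprim : MulAction.IsPreprimitive G Ω) (hΩ : Nat.card Ω = 3 * p) :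
    p = 5 ∧ Nonempty (G ≃* alternatingGroup (Fin 6)) := by
  have hB := KBASE hG h5 P hN hprim hΩ
  rcases KDEC hG h5 P hN hprim hΩ (KM1 hG h5 P hN hprim hΩ) with ⟨χ, ψ, h1, h2, h3, h4⟩ | ⟨χ, h1, h2⟩
  · exact caseB hB h1 h2 h3 h4
  · exact (caseA hB h1 h2).elim
end fin
end Cfsg.Agent.Lib.H52TriMain
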