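import Mathlib

set_option autoImplicit false
set_option linter.all false

/-! Group theory for the line part of S3254 (helper48) -/

namespace Cfsg.Agent.Lib.H52_BLa48g

universe u v

variable {G : Type u} [Group G] [Finite G] {Ω : Type v} [MulAction G Ω]

theorem conj_into (T : Sylow 2 G) (C : Subgroup G) (hTC : (T : Subgroup G) ≤ C) (V : Subgroup G) (hV : V ≤ C)
    (hVp : IsPGroup 2 V) : ∃ c ∈ C, ∀ x ∈ V, c * x * c⁻¹ ∈ (T : Subgroup G) := by
  have h1 : IsPGroup 2 (V.subgroupOf C) := hVp.of_injective (Subgroup.subgroupOfEquivOfLe hV).toMonoidHom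
    (Subgroup.subgroupOfEquivOfLe hV).injective
  obtain ⟨Q, hQ⟩ := h1.exists_le_sylow
  obtain ⟨g, hg⟩ := MulAction.exists_smul_eq C Q (T.subtype hTC)
  refine ⟨g, g.2, fun x hx => ?_⟩
  have h2 : (⟨x, hV hx⟩ : C) ∈ Q := hQ (Subgroup.mem_subgroupOf.2 hx)
  have h3 : g * (⟨x, hV hx⟩ : C) * g⁻¹ ∈ (g • Q : Sylow 2 C) := by
    rw [Sylow.smul_def]
    exact Subgroup.smul_mem_pointwise_smul (⟨x, hV hx⟩ : C) (MulAut.conj g) (Q : Subgroup C) h2
  rw [hg] at h3
  exact h3

/-- centralizers of conjugates -/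
theorem cent_conj {G : Type u} [Group G] {Ω : Type v} [MulAction G Ω] {a : Ω} {z k : G}
    (hz : ∀ x : G, x * z = z * x → x • a = a) (x : G) (hx : x * (k * z * k⁻¹) = (k * z * k⁻¹) * x) : x • (k • a) = k • a := by
  have h1 : (k⁻¹ * x * k) * z = z * (k⁻¹ * x * k) := by
    calc k⁻¹ * x * k * z = k⁻¹ * (x * (k * z * k⁻¹)) * k := by group
      _ = k⁻¹ * ((k * z * k⁻¹) * x) * k := by rw [hx]
      _ = z * (k⁻¹ * x * k) := by group
  have h2 := hz _ h1
  rw [mul_smul, mul_smul] at h2
  have h3 : x • (k • a) = k • (k⁻¹ • (x • (k • a))) := by rw [smul_inv_smul]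
  rw [h3, h2]

/-- the setting -/
structure Set8 (T : Sylow 2 G) (t r s v : G) (a b c : Ω) : Prop where
  card : Nat.card T = 8
  tT : t ∈ (T : Subgroup G)
  rT : r ∈ (T : Subgroup G)
  sT : s ∈ (T : Subgroup G)
  tt : t * t = 1
  rr : r * r = 1
  ss : s * s = 1
  t1 : t ≠ 1
  r1 : r ≠ 1
  vv : v * v = t
  rs : r * s = v
  rt : r * t = t * r
  st : s * t = t * s
  rnt : r ≠ t
  ab : a ≠ b
  ac : a ≠ c
  bc : b ≠ c
  ft : ∀ w : Ω, t • w = w ↔ w = a ∨ w = b ∨ w = c
  fr : ∀ w : Ω, r • w = w ↔ w = a ∨ w = b ∨ w = c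
  sa : s • a = a
  sb : s • b = c
  sc : s • c = b
  fT : ∀ x ∈ (T : Subgroup G), x • a = a

namespace Set8

variable {T : Sylow 2 G} {t r s v : G} {a b c : Ω} (h : Set8 T t r s v a b c)

include h

theorem tinv : t⁻¹ = t := inv_eq_of_mul_eq_one_left h.tt
theorem rinv : r⁻¹ = r := inv_eq_of_mul_eq_one_left h.rr
theorem sinv : s⁻¹ = s := inv_eq_of_mul_eq_one_left h.ss

theorem vT : v ∈ (T : Subgroup G) := by rw [← h.rs]; exact mul_mem h.rT h.sT

/-- the four-group `<t, r>` -/
def K : Subgroup G where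
  carrier := {x | x = 1 ∨ x = t ∨ x = r ∨ x = t * r}
  one_mem' := Or.inl rfl
  mul_mem' := by
    have e1 : t * (t * r) = r := by rw [← mul_assoc, h.tt, one_mul]
    have e2 : r * (t * r) = t := by rw [← mul_assoc, h.rt, mul_assoc, h.rr, mul_one]
    have e3 : t * r * t = r := by rw [mul_assoc, h.rt, e1]
    have e4 : t * r * r = t := by rw [mul_assoc, h.rr, mul_one]
    have e5 : t * r * (t * r) = 1 := by rw [mul_assoc, e2, h.tt]
    rintro x y (rfl | rfl | rfl | rfl) (rfl | rfl | rfl | rfl)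
    all_goals simp only [Set.mem_setOf_eq, one_mul, mul_one, h.tt, h.rr, h.rt, e1, e2, e3, e4, e5, true_or, or_true]
  inv_mem' := by
    rintro x (rfl | rfl | rfl | rfl)
    · left; exact inv_one
    · right; left; exact h.tinv
    · right; right; left; exact h.rinv
    · right; right; right; rw [mul_inv_rev, h.rinv, h.tinv, h.rt]

theorem mem_K {x : G} : x ∈ h.K ↔ x = 1 ∨ x = t ∨ x = r ∨ x = t * r := Iff.rfl

theorem K_le : h.K ≤ (T : Subgroup G) := by
  rintro x (rfl | rfl | rfl | rfl)
  · exact one_mem _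
  · exact h.tT
  · exact h.rT
  · exact mul_mem h.tT h.rT

theorem tb : t • b = b := (h.ft b).2 (Or.inr (Or.inl rfl))
theorem rb : r • b = b := (h.fr b).2 (Or.inr (Or.inl rfl))

theorem K_b {x : G} (hx : x ∈ h.K) : x • b = b := by
  rcases hx with rfl | rfl | rfl | rfl
  · exact one_smul _ _
  · exact h.tb
  · exact h.rb
  · rw [mul_smul, h.rb, h.tb]

theorem card_K : Nat.card h.K = 4 := by
  classical
  have e : (h.K : Set G) = (({1, t, r, t * r} : Finset G) : Set G) := by
    ext x
    simp only [SetLike.mem_coe, Finset.coe_insert, Finset.coe_singleton, Set.mem_insert_iff, Set.mem_singleton_iff]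
    exact h.mem_K
  have h1 : (1 : G) ≠ t := Ne.symm h.t1
  have h2 : (1 : G) ≠ r := Ne.symm h.r1
  have h3 : (1 : G) ≠ t * r := by
    intro e
    apply h.rnt
    have := eq_inv_of_mul_eq_one_right e.symm
    rw [this, h.tinv]
  have h4 : t ≠ r := Ne.symm h.rnt
  have h5 : t ≠ t * r := by
    intro e
    exact h.r1 (mul_eq_left.1 e.symm)
  have h6 : r ≠ t * r := by
    intro e
    exact h.t1 (mul_eq_right.1 e.symm)
  have e2 : Nat.card h.K = Nat.card ((({1, t, r, t * r} : Finset G) : Set G)) := by rw [← e]; rfl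
  rw [e2, Nat.card_coe_set_eq, Set.ncard_coe_finset, Finset.card_insert_of_notMem, Finset.card_insert_of_notMem,
    Finset.card_insert_of_notMem, Finset.card_singleton]
  · simpa using h6
  · simp only [Finset.mem_insert, Finset.mem_singleton, not_or]; exact ⟨h4, h5⟩
  · simp only [Finset.mem_insert, Finset.mem_singleton, not_or]; exact ⟨h1, h2, h3⟩

theorem index_K : (h.K.subgroupOf (T : Subgroup G)).index = 2 := by
  have h1 := Subgroup.index_mul_card (h.K.subgroupOf (T : Subgroup G))
  have h2 : Nat.card (h.K.subgroupOf (T : Subgroup G)) = 4 := by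
    rw [Nat.card_congr (Subgroup.subgroupOfEquivOfLe h.K_le).toEquiv, h.card_K]
  have h3 : Nat.card ((T : Subgroup G)) = 8 := h.card
  rw [h2, h3] at h1
  omega

theorem mem_or {x : G} (hx : x ∈ (T : Subgroup G)) : x ∈ h.K ∨ s * x ∈ h.K := by
  by_cases hxK : x ∈ h.K
  · exact Or.inl hxK
  · right
    have hs : s ∉ h.K := fun hs => h.bc (by rw [← h.K_b hs, h.sb])
    have := Subgroup.mul_mem_iff_of_index_two h.index_K (a := (⟨s, h.sT⟩ : (T : Subgroup G))) (b := ⟨x, hx⟩)
    simp only [Subgroup.mem_subgroupOf, Subgroup.coe_mul] at this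
    exact this.2 ⟨fun h' => absurd h' hs, fun h' => absurd h' hxK⟩

theorem mem_K_of_b {x : G} (hx : x ∈ (T : Subgroup G)) (hb : x • b = b) : x ∈ h.K := by
  rcases h.mem_or hx with hK | hK
  · exact hK
  · exfalso
    have := h.K_b hK
    rw [mul_smul, hb, h.sb] at this
    exact h.bc this.symm

theorem vtv : v * t = t * v := by rw [← h.vv, mul_assoc]

theorem vrv : v * r * v⁻¹ = t * r := by
  have e1 : r * s * (r * s) = t := by rw [h.rs, h.vv]
  have e2 : v⁻¹ = s * r := by rw [← h.rs, mul_inv_rev, h.rinv, h.sinv]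
  rw [e2, ← h.rs, ← e1]
  have : r * s * r * (s * r) = r * s * (r * s) * r := by group
  exact this

theorem T_comm_t {x : G} (hx : x ∈ (T : Subgroup G)) : x * t = t * x := by
  have key : ∀ y ∈ h.K, y * t = t * y := by
    rintro y (rfl | rfl | rfl | rfl)
    · rw [one_mul, mul_one]
    · rfl
    · exact h.rt
    · rw [mul_assoc, h.rt]
  rcases h.mem_or hx with hK | hK
  · exact key x hK
  · have e := key _ hK
    have e2 : s * (x * t) = s * (t * x) := by
      rw [← mul_assoc, e, ← mul_assoc, ← mul_assoc, h.st]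
    exact mul_left_cancel e2

theorem T_le : (T : Subgroup G) ≤ Subgroup.centralizer ({t} : Set G) := by
  intro x hx
  rw [Subgroup.mem_centralizer_singleton_iff]
  exact h.T_comm_t hx

theorem vsv : v * s * v⁻¹ = t * s := by
  have e1 : r * s * (r * s) = t := by rw [h.rs, h.vv]
  have e2 : v⁻¹ = s * r := by rw [← h.rs, mul_inv_rev, h.rinv, h.sinv]
  rw [e2, ← h.rs]
  have : r * s * s * (s * r) = r * (s * s) * (s * r) := by group
  rw [this, h.ss, mul_one, ← e1]
  have : r * s * (r * s) * s = r * s * r * (s * s) := by group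
  rw [this, h.ss, mul_one, ← mul_assoc]

/-- a conjugate of a subgroup of `C(w)`, `w ~ t`, into `T` -/
theorem exists_g {w : G} (V : Subgroup G) (hV : V ≤ (T : Subgroup G)) (hw : w ∈ V) (hVw : ∀ x ∈ V, x * w = w * x)
    (hc : IsConj w t) : ∃ g : G, g * w * g⁻¹ = t ∧ ∀ x ∈ V, g * x * g⁻¹ ∈ (T : Subgroup G) := by
  obtain ⟨g, hg⟩ := isConj_iff.1 hc
  obtain ⟨c', hc', hcT⟩ := conj_into T (Subgroup.centralizer ({t} : Set G)) h.T_le (V.map (MulAut.conj g).toMonoidHom)
    (by
      rintro _ ⟨x, hx, rfl⟩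
      rw [Subgroup.mem_centralizer_singleton_iff]
      show g * x * g⁻¹ * t = t * (g * x * g⁻¹)
      rw [← hg]
      have := hVw x hx
      calc g * x * g⁻¹ * (g * w * g⁻¹) = g * (x * w) * g⁻¹ := by group
        _ = g * (w * x) * g⁻¹ := by rw [this]
        _ = g * w * g⁻¹ * (g * x * g⁻¹) := by group)
    ((T.isPGroup'.to_le hV).map _)
  rw [Subgroup.mem_centralizer_singleton_iff] at hc'
  refine ⟨c' * g, ?_, fun x hx => ?_⟩
  · calc c' * g * w * (c' * g)⁻¹ = c' * (g * w * g⁻¹) * c'⁻¹ := by group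
      _ = t := by rw [hg, hc', mul_assoc, mul_inv_cancel, mul_one]
  · have := hcT _ ⟨x, hx, rfl⟩
    have e : c' * g * x * (c' * g)⁻¹ = c' * ((MulAut.conj g).toMonoidHom x) * c'⁻¹ := by
      show c' * g * x * (c' * g)⁻¹ = c' * (g * x * g⁻¹) * c'⁻¹
      group
    rw [e]; exact this

theorem K_comm {x y : G} (hx : x ∈ h.K) (hy : y ∈ h.K) : x * y = y * x := by
  rcases hx with rfl | rfl | rfl | rfl <;> rcases hy with rfl | rfl | rfl | rfl
  all_goals simp only [one_mul, mul_one, ← mul_assoc, h.rt]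
  all_goals simp only [mul_assoc, h.rt]

theorem K_fix {x : G} (hx : x ∈ h.K) {w : Ω} (hw : w = a ∨ w = b ∨ w = c) : x • w = w := by
  rcases hx with rfl | rfl | rfl | rfl
  · exact one_smul _ _
  · exact (h.ft w).2 hw
  · exact (h.fr w).2 hw
  · rw [mul_smul, (h.fr w).2 hw, (h.ft w).2 hw]

theorem alpha1 (hc : IsConj r t) : ∃ ρ : G, ρ * t * ρ⁻¹ = r ∧ ρ * r * ρ⁻¹ = t * r := by
  obtain ⟨g, hg, hgT⟩ := h.exists_g h.K h.K_le (w := r) (Or.inr (Or.inr (Or.inl rfl)))
    (fun x hx => h.K_comm hx (Or.inr (Or.inr (Or.inl rfl)))) hc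
  -- `g` permutes `{a, b, c}`
  have hL : ∀ w : Ω, (w = a ∨ w = b ∨ w = c) → (g • w = a ∨ g • w = b ∨ g • w = c) := by
    intro w hw
    rw [← h.ft, ← hg, mul_smul, mul_smul, inv_smul_smul, (h.fr w).2 hw]
  have hinj : ∀ w w' : Ω, g • w = g • w' → w = w' := fun w w' e => MulAction.injective g e
  have hsurj : ∃ w : Ω, (w = a ∨ w = b ∨ w = c) ∧ g • w = b := by
    rcases hL a (Or.inl rfl) with h1 | h1 | h1
    · rcases hL b (Or.inr (Or.inl rfl)) with h2 | h2 | h2
      · exact absurd (hinj _ _ (h1.trans h2.symm)) h.ab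
      · exact ⟨b, Or.inr (Or.inl rfl), h2⟩
      · rcases hL c (Or.inr (Or.inr rfl)) with h3 | h3 | h3
        · exact absurd (hinj _ _ (h1.trans h3.symm)) h.ac
        · exact ⟨c, Or.inr (Or.inr rfl), h3⟩
        · exact absurd (hinj _ _ (h2.trans h3.symm)) h.bc
    · exact ⟨a, Or.inl rfl, h1⟩
    · rcases hL b (Or.inr (Or.inl rfl)) with h2 | h2 | h2
      · rcases hL c (Or.inr (Or.inr rfl)) with h3 | h3 | h3
        · exact absurd (hinj _ _ (h2.trans h3.symm)) h.bc
        · exact ⟨c, Or.inr (Or.inr rfl), h3⟩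
        · exact absurd (hinj _ _ (h1.trans h3.symm)) h.ac
      · exact ⟨b, Or.inr (Or.inl rfl), h2⟩
      · exact absurd (hinj _ _ (h1.trans h2.symm)) h.ab
  obtain ⟨w, hw, hwb⟩ := hsurj
  have hK : ∀ x ∈ h.K, g * x * g⁻¹ ∈ h.K := by
    intro x hx
    refine h.mem_K_of_b (hgT x hx) ?_
    rw [← hwb, mul_smul, mul_smul, inv_smul_smul, h.K_fix hx hw]
  have htK := hK t (Or.inr (Or.inl rfl))
  have hconj : ∀ x y : G, g * x * g⁻¹ = g * y * g⁻¹ → x = y := by
    intro x y e
    exact mul_left_cancel (mul_right_cancel e)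
  rcases htK with e | e | e | e
  · exact absurd (hconj t 1 (by rw [e]; group)) h.t1
  · exact absurd (hconj t r (by rw [e, hg])) (Ne.symm h.rnt)
  · -- swap
    refine ⟨(v * g)⁻¹, ?_, ?_⟩
    · have e1 : v * g * r * (v * g)⁻¹ = t := by
        calc v * g * r * (v * g)⁻¹ = v * (g * r * g⁻¹) * v⁻¹ := by group
          _ = t := by rw [hg, h.vtv, mul_assoc, mul_inv_cancel, mul_one]
      rw [← e1]; group
    · have e1 : v * g * (t * r) * (v * g)⁻¹ = r := by
        calc v * g * (t * r) * (v * g)⁻¹ = v * ((g * t * g⁻¹) * (g * r * g⁻¹)) * v⁻¹ := by group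
          _ = v * (r * t) * v⁻¹ := by rw [e, hg]
          _ = (v * r * v⁻¹) * (v * t * v⁻¹) := by group
          _ = t * r * t := by rw [h.vrv, h.vtv, mul_assoc t v, mul_inv_cancel, mul_one]
          _ = r := by rw [mul_assoc, h.rt, ← mul_assoc, h.tt, one_mul]
      rw [inv_inv]
      have e2 : (v * g)⁻¹ * (v * g * (t * r) * (v * g)⁻¹) * (v * g) = t * r := by group
      rw [e1] at e2
      exact e2
  · refine ⟨g⁻¹, ?_, ?_⟩
    · rw [inv_inv, ← hg]; group
    · rw [inv_inv]
      have e1 : g * (t * r) * g⁻¹ = r := by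
        calc g * (t * r) * g⁻¹ = (g * t * g⁻¹) * (g * r * g⁻¹) := by group
          _ = t * r * t := by rw [e, hg]
          _ = r := by rw [mul_assoc, h.rt, ← mul_assoc, h.tt, one_mul]
      have e2 : g⁻¹ * (g * (t * r) * g⁻¹) * g = t * r := by group
      rw [e1] at e2
      exact e2

/-- the centralizer of `s` fixes `a` -/
theorem cent_s (hc : IsConj s t) (hCt : ∀ x : G, x * t = t * x → x • a = a) (x : G) (hx : x * s = s * x) : x • a = a := by
  -- the four-group `<t, s>`
  let V : Subgroup G := Subgroup.closure ({t, s} : Set G)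
  have hVT : V ≤ (T : Subgroup G) := by
    rw [Subgroup.closure_le]
    rintro y (rfl | rfl)
    · exact h.tT
    · exact h.sT
  have hVs : ∀ y ∈ V, y * s = s * y := by
    have : V ≤ Subgroup.centralizer ({s} : Set G) := by
      rw [Subgroup.closure_le]
      rintro y (rfl | rfl)
      · rw [SetLike.mem_coe, Subgroup.mem_centralizer_singleton_iff]; exact h.st.symm
      · rw [SetLike.mem_coe, Subgroup.mem_centralizer_singleton_iff]
    intro y hy
    have := this hy
    rwa [Subgroup.mem_centralizer_singleton_iff] at this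
  have hsV : s ∈ V := Subgroup.subset_closure (by simp)
  have htV : t ∈ V := Subgroup.subset_closure (by simp)
  obtain ⟨g, hg, hgT⟩ := h.exists_g V hVT hsV hVs hc
  -- `g a = a`
  have h1 : g * t * g⁻¹ ∈ (T : Subgroup G) := hgT t htV
  have h2 : g⁻¹ • a = a := by
    have e1 : t • (g⁻¹ • a) = g⁻¹ • a := by
      have := h.fT _ h1
      have e : t • (g⁻¹ • a) = g⁻¹ • ((g * t * g⁻¹) • a) := by
        rw [smul_smul, smul_smul]; congr 1; group
      rw [e, this]
    have e2 : s • (g⁻¹ • a) = g⁻¹ • a := by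
      have := h.fT _ h.tT
      rw [← hg] at this
      have e : s • (g⁻¹ • a) = g⁻¹ • ((g * s * g⁻¹) • a) := by
        rw [smul_smul, smul_smul]; congr 1; group
      rw [e, this]
    rcases (h.ft _).1 e1 with e3 | e3 | e3
    · exact e3
    · rw [e3, h.sb] at e2; exact absurd e2.symm h.bc
    · rw [e3, h.sc] at e2; exact absurd e2 h.bc
  have h3 : g • a = a := by
    conv_lhs => rw [← h2]
    rw [smul_inv_smul]
  have h4 : (g * x * g⁻¹) * t = t * (g * x * g⁻¹) := by
    rw [← hg]
    calc g * x * g⁻¹ * (g * s * g⁻¹) = g * (x * s) * g⁻¹ := by group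
      _ = g * (s * x) * g⁻¹ := by rw [hx]
      _ = g * s * g⁻¹ * (g * x * g⁻¹) := by group
  have h5 := hCt _ h4
  rw [mul_smul, mul_smul, h2] at h5
  have h6 : x • a = g⁻¹ • a := by rw [eq_inv_smul_iff]; exact h5
  rw [h6, h2]

theorem alpha2 (hcs : IsConj s t) (htr : ∃ γ : G, γ • a = b) (U : Subgroup G) (hUo : Odd (Nat.card U))
    (hUn : ∀ x ∈ Subgroup.centralizer ({t} : Set G), ∀ y ∈ U, x * y * x⁻¹ ∈ U)
    (hUT : ∀ x : G, x * t = t * x → ∃ y ∈ U, ∃ z ∈ (T : Subgroup G), x = y * z)
    (hUf : ∀ g ∈ U, g • a = a ∧ g • b = b ∧ g • c = c) (k : G) (ka : k • a = a) (kb : k • b = b)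
    (hkt : k * t * k⁻¹ = t ∨ k * t * k⁻¹ = r ∨ k * t * k⁻¹ = t * r)
    (hkr : k * r * k⁻¹ = t ∨ k * r * k⁻¹ = r ∨ k * r * k⁻¹ = t * r) : k * t = t * k ∧ k * r = r * k := by
  have hCt : ∀ x : G, x * t = t * x → x • a = a := by
    intro x hx
    obtain ⟨y, hy, z, hz, rfl⟩ := hUT x hx
    rw [mul_smul, h.fT z hz, (hUf y hy).1]
  have hCs := h.cent_s hcs hCt
  have hva : v • a = a := h.fT v h.vT
  have hCts : ∀ x : G, x * (t * s) = (t * s) * x → x • a = a := by
    intro x hx
    have := cent_conj (k := v) hCs x (by rw [h.vsv]; exact hx)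
    rwa [hva] at this
  have hvr : v⁻¹ * (t * r) * v = r := by rw [← h.vrv]; group
  have hva' : v⁻¹ • a = a := h.fT _ (inv_mem h.vT)
  -- `k` commutes with `t`
  have main : ¬ (∀ x : G, x * r = r * x → x • a = a) := by
    intro hCr
    have hCtr : ∀ x : G, x * (t * r) = (t * r) * x → x • a = a := by
      intro x hx
      have := cent_conj (k := v) hCr x (by rw [h.vrv]; exact hx)
      rwa [hva] at this
    -- all involutions of `T`
    have hT : ∀ z ∈ (T : Subgroup G), z * z = 1 → z ≠ 1 → ∀ x : G, x * z = z * x → x • a = a := by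
      intro z hz hzz hz1 x hx
      rcases h.mem_or hz with hK | hK
      · rcases hK with rfl | rfl | rfl | rfl
        · exact absurd rfl hz1
        · exact hCt x hx
        · exact hCr x hx
        · exact hCtr x hx
      · have hz' : z = s * (s * z) := by rw [← mul_assoc, h.ss, one_mul]
        rcases hK with e | e | e | e
        · rw [e, mul_one] at hz'; subst hz'; exact hCs x hx
        · rw [e] at hz'
          rw [h.st] at hz'
          subst hz'; exact hCts x hx
        · -- `z = s r = v⁻¹`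
          exfalso
          rw [e] at hz'
          have e2 : z = v⁻¹ := by rw [hz', ← h.rs, mul_inv_rev, h.rinv, h.sinv]
          have : v⁻¹ * v⁻¹ = 1 := by rw [← e2]; exact hzz
          have e3 : t = 1 := by
            rw [← h.vv]
            have := congrArg (fun y => v * v * y) this
            simpa [mul_assoc] using this.symm
          exact h.t1 e3
        · exfalso
          rw [e] at hz'
          have e2 : z = v⁻¹ * t := by
            rw [hz', ← h.rs, mul_inv_rev, h.rinv, h.sinv, mul_assoc, h.rt]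
          have e4 : v⁻¹ * t = v := by rw [← h.vv]; group
          rw [e4] at e2
          rw [e2, h.vv] at hzz
          exact h.t1 hzz
    -- all involutions of the stabilizer of `a`
    have hA : ∀ z : G, z • a = a → z * z = 1 → z ≠ 1 → ∀ x : G, x * z = z * x → x • a = a := by
      intro z hza hzz hz1 x hx
      let S : Subgroup G := MulAction.stabilizer G a
      have hTS : (T : Subgroup G) ≤ S := fun y hy => MulAction.mem_stabilizer_iff.2 (h.fT y hy)
      have hzp : IsPGroup 2 (Subgroup.zpowers z) := by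
        intro y
        refine ⟨1, ?_⟩
        obtain ⟨n, hn⟩ := Subgroup.mem_zpowers_iff.1 y.2
        apply Subtype.ext
        show (y : G) ^ (2 ^ 1) = 1
        rw [← hn, pow_one, pow_two, ← (Commute.refl z).mul_zpow, hzz, one_zpow]
      obtain ⟨g, hgS, hgT⟩ := conj_into T S hTS (Subgroup.zpowers z)
        (Subgroup.zpowers_le.2 (MulAction.mem_stabilizer_iff.2 hza)) hzp
      have hga : g • a = a := MulAction.mem_stabilizer_iff.1 hgS
      have hga' : g⁻¹ • a = a := by
        conv_lhs => rw [← hga]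
        rw [inv_smul_smul]
      have h1 := hgT z (Subgroup.mem_zpowers z)
      have h2 := hT _ h1 (by
        calc g * z * g⁻¹ * (g * z * g⁻¹) = g * (z * z) * g⁻¹ := by group
          _ = 1 := by rw [hzz]; group) (by
        intro e
        apply hz1
        have : z = g⁻¹ * (g * z * g⁻¹) * g := by group
        rw [this, e]; group)
      have h3 := cent_conj (k := g⁻¹) h2 x (by
        have e : g⁻¹ * (g * z * g⁻¹) * g⁻¹⁻¹ = z := by group
        rw [e]; exact hx)
      rwa [hga'] at h3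
    obtain ⟨γ, hγ⟩ := htr
    have h1 := hA (γ⁻¹ * t * γ) (by
      rw [mul_smul, mul_smul, hγ, h.tb, ← hγ, inv_smul_smul]) (by
      calc γ⁻¹ * t * γ * (γ⁻¹ * t * γ) = γ⁻¹ * (t * t) * γ := by group
        _ = 1 := by rw [h.tt]; group) (by
      intro e
      apply h.t1
      have : t = γ * (γ⁻¹ * t * γ) * γ⁻¹ := by group
      rw [this, e]; group)
    have h2 := cent_conj (k := γ) h1 s (by
      have e : γ * (γ⁻¹ * t * γ) * γ⁻¹ = t := by group
      rw [e]; exact h.st)
    rw [hγ, h.sb] at h2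
    exact h.bc h2.symm
  have hkt' : k * t * k⁻¹ = t := by
    rcases hkt with e | e | e
    · exact e
    · exfalso
      apply main
      intro x hx
      have := cent_conj (k := k) hCt x (by rw [e]; exact hx)
      rwa [ka] at this
    · exfalso
      apply main
      intro x hx
      have h1 : ∀ x : G, x * (t * r) = (t * r) * x → x • a = a := by
        intro x hx
        have := cent_conj (k := k) hCt x (by rw [e]; exact hx)
        rwa [ka] at this
      have := cent_conj (k := v⁻¹) h1 x (by rw [inv_inv, hvr]; exact hx)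
      rwa [hva'] at this
  have hkt2 : k * t = t * k := by
    have := congrArg (fun y => y * k) hkt'
    simpa using this
  refine ⟨hkt2, ?_⟩
  have hkr' : k * r * k⁻¹ = r := by
    rcases hkr with e | e | e
    · exfalso
      apply h.rnt
      have : k * r * k⁻¹ = k * t * k⁻¹ := by rw [e, hkt']
      exact mul_left_cancel (mul_right_cancel this)
    · exact e
    · exfalso
      obtain ⟨y, hy, z, hz, hk⟩ := hUT k hkt2
      have hzb : z • b = b := by
        have h1 : k • b = b := kb
        rw [hk, mul_smul] at h1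
        have h2 := (hUf y hy).2.1
        exact MulAction.injective y (h1.trans h2.symm)
      have hzK := h.mem_K_of_b hz hzb
      have hzr : z * r = r * z := h.K_comm hzK (Or.inr (Or.inr (Or.inl rfl)))
      have e1 : y * r * y⁻¹ = t * r := by
        rw [← e, hk]
        calc y * r * y⁻¹ = y * (r * z * z⁻¹) * y⁻¹ := by group
          _ = y * (z * r * z⁻¹) * y⁻¹ := by rw [hzr]
          _ = y * z * r * (y * z)⁻¹ := by group
      have hrC : r ∈ Subgroup.centralizer ({t} : Set G) := by
        rw [Subgroup.mem_centralizer_singleton_iff]; exact h.rt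
      have h3 : r * y⁻¹ * r⁻¹ ∈ U := hUn r hrC y⁻¹ (inv_mem hy)
      have h4 : t ∈ U := by
        have e2 : y * (r * y⁻¹ * r⁻¹) = t := by
          calc y * (r * y⁻¹ * r⁻¹) = y * r * y⁻¹ * r⁻¹ := by group
            _ = t := by rw [e1]; group
        rw [← e2]
        exact mul_mem hy h3
      have h5 : orderOf (⟨t, h4⟩ : U) = 2 := by
        rw [Subgroup.orderOf_mk]
        exact orderOf_eq_prime (by rw [pow_two]; exact h.tt) h.t1
      have h6 : orderOf (⟨t, h4⟩ : U) ∣ Nat.card U := orderOf_dvd_natCard _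
      rw [h5] at h6
      exact (Nat.not_even_iff_odd.2 hUo) (even_iff_two_dvd.2 h6)
  have := congrArg (fun y => y * k) hkr'
  simpa using this

end Set8

end Cfsg.Agent.Lib.H52_BLa48g
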