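import Cfsg.Agent.Lib.H52T0
import Cfsg.Agent.Lib.H52_BTc

set_option autoImplicit false
set_option linter.all false

/-! Piece BT of S3254 (helper64). -/

namespace Cfsg.Agent.Lib.H52_BT

open Cfsg Cfsg.Agent.Lib.BRPerm Cfsg.Agent.Lib.BRCore Cfsg.Agent.Lib.BRInd Cfsg.Agent.Lib.CharBasic Cfsg.Agent.Lib.BlockThird Cfsg.Agent.Lib.H52T0 Cfsg.Agent.Lib.H15RealP Cfsg.Agent.Lib.BRB0 Cfsg.Agent.Lib.DefOneLoc

universe u v

variable {G : Type u} [Group G] [Fintype G] {Ω : Type v} [Fintype Ω] [MulAction G Ω] {p : ℕ}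

theorem BT (hB : Base G Ω p) {χ ψ : IrrCharacter G} (hχ : CharD G p 2 χ) (hψ : (charDegree (ψ : G → ℂ) : ℤ) = p)
    (hne : ψ ≠ χ) (hpi : pi (G := G) Ω = 1 + (χ : G → ℂ) + (ψ : G → ℂ))
    (h3 : ∀ t : G, orderOf t = 2 → fx Ω t = 3) (hχt : ∀ t : G, orderOf t = 2 → (χ : G → ℂ) t = 1)
    (hrank : ∀ a : Ω, ∃ (A : ℤ) (k l : ℕ) (b b' : Ω), 2 * (p : ℤ) = 6 * A ^ 2 - 3 * A + 1 ∧ 2 * (k : ℤ) = (3 * A - 1) * (2 * A - 1) ∧
      (l : ℤ) = 2 * A * (3 * A - 1) ∧ k + l + 1 = 3 * p ∧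
      k = Nat.card (MulAction.orbit (MulAction.stabilizer G a) b) ∧ l = Nat.card (MulAction.orbit (MulAction.stabilizer G a) b') ∧
      (∀ w : Ω, w = a ∨ w ∈ MulAction.orbit (MulAction.stabilizer G a) b ∨ w ∈ MulAction.orbit (MulAction.stabilizer G a) b')) :
    p % 8 = 5 ∧ ∃ T : Sylow 2 G, Nat.card T = 8 ∧ ∃ a b c : Ω, a ≠ b ∧ a ≠ c ∧ b ≠ c ∧ (∀ x ∈ (T : Subgroup G), x • a = a) ∧
      (∀ x ∈ (T : Subgroup G), x • b = b ∨ x • b = c) ∧ ∃ x ∈ (T : Subgroup G), x • b = c := by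
  obtain ⟨t₀, ht₀⟩ := hB.inv
  have hp4 : p % 4 = 1 := by
    rcases hB.sub t₀ ht₀ with h | h
    · have := h3 t₀ ht₀
      omega
    · exact h.2
  refine H52_BTc.main_core p hp4 hB.card hB.conj hB.inv (fun t => CharBasic.card_isConj_mul_card_centralizer t)
    (fun t ht => h3 t ht) (fun t ht => ?_) (fun a => ?_)
  · have h1 := hχ.E1 t ht 1 (by rw [hχt t ht]; norm_num)
    have h5 := hB.h5
    have h2 : (2 * (p : ℤ) - 2) ≠ 0 := by omega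
    apply mul_right_cancel₀ h2
    push_cast at h1
    linear_combination h1
  · obtain ⟨A, k, l, b, b', h1, h2, h3', h4, h5, h6, h7⟩ := hrank a
    exact ⟨A, k, l, b, b', h1, h2, h3', h5, h6⟩

end Cfsg.Agent.Lib.H52_BT
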