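import Cfsg.Agent.Lib.H52T0

/-! S3254, piece KBASE, everything except the class algebra part (helper70). -/

set_option autoImplicit false
set_option linter.all false
set_option maxHeartbeats 400000

namespace Cfsg.Agent.Lib.H52_KB

open Cfsg Cfsg.Agent.Lib.BRPerm Cfsg.Agent.Lib.BRCore Cfsg.Agent.Lib.BRInd Cfsg.Agent.Lib.CharBasic Cfsg.Agent.Lib.BlockThird Cfsg.Agent.Lib.H52T0 Cfsg.Agent.Lib.H15RealP Cfsg.Agent.Lib.BRB0 Cfsg.Agent.Lib.DefOneLoc
open Cfsg.Agent.Lib.BlockRing Cfsg.Agent.Lib.BlockGA Cfsg.Agent.Lib.BlockIdem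
open Cfsg.Agent.Lib.DefOneOrd Cfsg.Agent.Lib.DefOneGram
open Cfsg.Agent.Lib.DefOne Cfsg.Agent.Lib.DefOnePrin
open Cfsg.Agent.Lib.BRNum Cfsg.Agent.Lib.BRDeg Cfsg.Agent.Lib.BROne
open Cfsg.Agent.Lib.H15Deg2p

universe u v

section grp

variable {G : Type u} [Group G] [Fintype G] {p : ℕ} [hp : Fact p.Prime]

/-- `p`-singular elements have order `p` -/
theorem ord_sing {P N C : Subgroup G} {D : Loc p P N C} [Fintype C] {B : B0 D} {χ : IrrCharacter G}
    (h : Cfg B χ) {g : G} (hg : p ∣ orderOf g) : orderOf g = p := by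
  obtain ⟨Q, hQ⟩ := h.hPS
  obtain ⟨z, c, hzc, hc⟩ := DefOneGalois.exists_conj_C (D := D) Q hQ.symm hg
  have h1 : orderOf g = orderOf (c : G) := by
    rw [hzc]
    have := MulEquiv.orderOf_eq (MulAut.conj z) g
    rw [MulAut.conj_apply] at this
    exact this.symm
  rw [h1]
  apply order_of_mem h.hP (h.hCP c.2)
  intro h2
  have h3 := sing_of_l c hc
  rw [h2] at h3
  exact not_dvd_one h3

/-- the Sylow subgroup containing an element of order `p` -/
theorem sylow_eq {P : Sylow p G} (hP : Nat.card P = p) (Q : Sylow p G) {x : G} (hx : orderOf x = p) (hxQ : x ∈ (Q : Subgroup G)) :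
    (Q : Subgroup G) = Subgroup.zpowers x := by
  symm
  apply Subgroup.eq_of_le_of_card_ge
  · rw [Subgroup.zpowers_le]; exact hxQ
  · rw [Nat.card_zpowers, hx]
    have h1 : Nat.card Q = Nat.card P := Nat.card_congr (Sylow.equiv Q P).toEquiv
    exact (h1.trans hP).le

theorem card_sylow {P : Sylow p G} (hP : Nat.card P = p) (Q : Sylow p G) : Nat.card Q = p :=
  (Nat.card_congr (Sylow.equiv Q P).toEquiv).trans hP

theorem card_G (P : Sylow p G) (hN : Nat.card (Subgroup.normalizer ((P : Subgroup G) : Set G)) = 2 * p) :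
    Nat.card G = 2 * p * Nat.card (Sylow p G) := by
  have h := Subgroup.card_mul_index (Subgroup.normalizer ((P : Subgroup G) : Set G))
  rw [hN] at h
  rw [← h]
  congr 1
  exact P.card_eq_index_normalizer.symm

/-- number of `p`-singular elements -/
theorem nsing (P : Sylow p G) (hP : Nat.card P = p)
    (hN : Nat.card (Subgroup.normalizer ((P : Subgroup G) : Set G)) = 2 * p)
    (ho : ∀ g : G, p ∣ orderOf g → orderOf g = p) :
    2 * p * Nat.card {g : G // p ∣ orderOf g} = Nat.card G * (p - 1) := by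
  classical
  let f : (Σ Q : Sylow p G, {x : (Q : Subgroup G) // x ≠ 1}) → {g : G // p ∣ orderOf g} := fun x =>
    ⟨((x.2 : (x.1 : Subgroup G)) : G), by
      rw [BRPerm.order_of_mem (P := (x.1 : Subgroup G)) (card_sylow hP x.1) (x.2 : (x.1 : Subgroup G)).2
        (fun h => x.2.2 (Subtype.ext h))]⟩
  have hf : Function.Bijective f := by
    constructor
    · rintro ⟨Q, ⟨x, hx⟩, hx1⟩ ⟨R, ⟨y, hy⟩, hy1⟩ hxy
      have h1 : x = y := congrArg Subtype.val hxy
      subst h1
      have hx0 : x ≠ 1 := fun h => hx1 (Subtype.ext h)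
      have ho1 : orderOf x = p := BRPerm.order_of_mem (P := (Q : Subgroup G)) (card_sylow hP Q) hx hx0
      have h2 : Q = R := by
        apply Sylow.ext
        rw [sylow_eq hP Q ho1 hx, sylow_eq hP R ho1 hy]
      subst h2
      rfl
    · rintro ⟨g, hg⟩
      have h1 := ho g hg
      have h2 : IsPGroup p (Subgroup.zpowers g) := IsPGroup.of_card (n := 1) (by rw [Nat.card_zpowers, h1, pow_one])
      obtain ⟨Q, hQ⟩ := h2.exists_le_sylow
      have h3 : g ∈ (Q : Subgroup G) := hQ (Subgroup.mem_zpowers g)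
      have h4 : g ≠ 1 := by
        intro h
        rw [h, orderOf_one] at h1
        exact hp.out.one_lt.ne h1
      exact ⟨⟨Q, ⟨g, h3⟩, fun h => h4 (congrArg Subtype.val h)⟩, rfl⟩
  have h1 := Nat.card_congr (Equiv.ofBijective f hf)
  rw [← h1, Nat.card_sigma]
  have h2 : ∀ Q : Sylow p G, Nat.card {x : (Q : Subgroup G) // x ≠ 1} = p - 1 := by
    intro Q
    haveI : Fintype (Q : Subgroup G) := Fintype.ofFinite _
    rw [Nat.card_eq_fintype_card, Fintype.card_subtype_compl, Fintype.card_subtype_eq, ← Nat.card_eq_fintype_card]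
    have := card_sylow hP Q
    change Nat.card (Q : Subgroup G) = p at this
    rw [this]
  rw [Finset.sum_congr rfl (fun Q _ => h2 Q), Finset.sum_const, smul_eq_mul, Finset.card_univ, card_G P hN,
    Nat.card_eq_fintype_card]
  ring

/-- Sylow -/
theorem syl (P : Sylow p G) (hN : Nat.card (Subgroup.normalizer ((P : Subgroup G) : Set G)) = 2 * p) :
    ∃ n : ℕ, Nat.card G = 2 * p * (1 + n * p) := by
  have h1 := card_sylow_modEq_one p G
  have h2 := card_G P hN
  have h3 : 1 ≤ Nat.card (Sylow p G) := Nat.card_pos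
  obtain ⟨n, hn⟩ := (Nat.modEq_iff_dvd' h3).1 h1.symm
  refine ⟨n, ?_⟩
  rw [h2, mul_comm n p, ← hn]
  congr 1
  omega

/-- an involution exists -/
theorem exists_inv (P : Sylow p G) (hN : Nat.card (Subgroup.normalizer ((P : Subgroup G) : Set G)) = 2 * p) :
    ∃ t : G, orderOf t = 2 := by
  haveI : Fact (Nat.Prime 2) := ⟨Nat.prime_two⟩
  apply exists_prime_orderOf_dvd_card' 2
  rw [card_G P hN, mul_assoc]
  exact dvd_mul_right _ _

/-- two involutions whose product has odd order are conjugate -/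
theorem conj_of_prod {t g : G} (ht : t * t = 1) (hg : g * g = 1) {q : ℕ} (hq : (t * g) ^ (2 * q + 1) = 1) :
    IsConj t g := by
  rw [isConj_iff]
  set x := t * g with hx
  have h1 : ∀ k : ℕ, t * x ^ k * t = (x ^ k)⁻¹ := by
    intro k
    have h2 : t * x * t⁻¹ = x⁻¹ := by
      have e1 : t⁻¹ = t := inv_eq_of_mul_eq_one_left ht
      have e2 : g⁻¹ = g := inv_eq_of_mul_eq_one_left hg
      rw [hx, mul_inv_rev, e2, ← mul_assoc, ht, one_mul, e1]
    have e1 : t⁻¹ = t := inv_eq_of_mul_eq_one_left ht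
    have h3 : t * x ^ k * t⁻¹ = (t * x * t⁻¹) ^ k := (conj_pow).symm
    rw [h2, inv_pow, e1] at h3
    exact h3
  -- y = x^(q+1), y^2 = x
  have h2 : x ^ (q + 1) * x ^ (q + 1) = x := by
    rw [← pow_add, show q + 1 + (q + 1) = (2 * q + 1) + 1 by ring, pow_succ, hq, one_mul]
  refine ⟨(x ^ (q + 1))⁻¹, ?_⟩
  rw [inv_inv]
  have h3 : (x ^ (q + 1))⁻¹ * t = t * x ^ (q + 1) := by
    rw [← h1 (q + 1), mul_assoc, ht, mul_one]
  rw [h3, mul_assoc, h2, hx, ← mul_assoc, ht, one_mul]

end grp

section perm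

variable {G : Type u} [Group G] [Fintype G] {p : ℕ} [hp : Fact p.Prime] {Ω : Type v} [Fintype Ω] [MulAction G Ω]

/-- a simple nonabelian group acts by even permutations: the number of moved points of an involution is divisible by four -/
theorem four_dvd [IsSimpleGroup G] (hG : ¬ IsMulCommutative G) {t : G} (ht : orderOf t = 2) :
    4 ∣ Nat.card Ω - fx Ω t := by
  classical
  haveI : Fact (Nat.Prime 2) := ⟨Nat.prime_two⟩
  let f : G →* ℤˣ := Equiv.Perm.sign.comp (MulAction.toPermHom G Ω)
  have hf : ∀ g, f g = 1 := by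
    intro g
    rcases IsSimpleGroup.eq_bot_or_eq_top_of_normal f.ker inferInstance with h | h
    · exfalso
      apply hG
      have hinj : Function.Injective f := (MonoidHom.ker_eq_bot_iff f).1 h
      exact ⟨⟨fun a b => hinj (by rw [map_mul, map_mul, mul_comm])⟩⟩
    · have : g ∈ f.ker := by rw [h]; trivial
      exact this
  set σ : Equiv.Perm Ω := MulAction.toPermHom G Ω t with hσ
  have hσ2 : σ ^ 2 = 1 := by
    rw [hσ, ← map_pow, ← ht, pow_orderOf_eq_one, map_one]
  have hs : Equiv.Perm.sign σ = 1 := hf t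
  have hct : ∀ c ∈ σ.cycleType, c = 2 := Equiv.Perm.pow_prime_eq_one_iff.1 hσ2
  have hrep : σ.cycleType = Multiset.replicate (Multiset.card σ.cycleType) 2 := Multiset.eq_replicate_card.2 hct
  set m := Multiset.card σ.cycleType with hm
  have hsum : σ.support.card = 2 * m := by
    rw [← Equiv.Perm.sum_cycleType, hrep, Multiset.sum_replicate, smul_eq_mul, mul_comm]
  rw [Equiv.Perm.sign_of_cycleType, Equiv.Perm.sum_cycleType, hsum, ← hm] at hs
  have hme : Even m := by
    by_contra hodd
    rw [Nat.not_even_iff_odd] at hodd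
    have : Odd (2 * m + m) := by
      obtain ⟨j, hj⟩ := hodd
      exact ⟨3 * j + 1, by rw [hj]; ring⟩
    rw [this.neg_one_pow] at hs
    exact absurd hs (by decide)
  have hfix : fx Ω t = Nat.card Ω - σ.support.card := by
    have h1 : fx Ω t = (Finset.univ.filter (fun w : Ω => t • w = w)).card := by
      rw [fx, Nat.card_eq_fintype_card]
      rw [← Fintype.card_subtype]
      exact Fintype.card_congr (Equiv.refl _)
    have h2 : (Finset.univ.filter (fun w : Ω => t • w = w)) = σ.supportᶜ := by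
      ext w
      rw [Finset.mem_filter, Finset.mem_compl, Equiv.Perm.mem_support, not_not]
      exact ⟨fun h => h.2, fun h => ⟨Finset.mem_univ _, h⟩⟩
    rw [h1, h2, Finset.card_compl, Nat.card_eq_fintype_card]
  have hle : σ.support.card ≤ Nat.card Ω := by
    rw [Nat.card_eq_fintype_card]; exact Finset.card_le_univ _
  rw [hfix]
  obtain ⟨j, hj⟩ := hme
  refine ⟨j, ?_⟩
  omega

/-- an involution inverting an element `x` of odd prime order `p` without fixed points has at most
`|Ω| / p` fixed points -/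
theorem fx_mul_le {x t : G} (hx : orderOf x = p) (hp2 : 2 < p) (hfree : ∀ k : ℕ, x ^ k ≠ 1 → ∀ w : Ω, x ^ k • w ≠ w)
    (ht : t * x * t⁻¹ = x⁻¹) : fx Ω t * p ≤ Nat.card Ω := by
  classical
  let f : MulAction.fixedBy Ω t × Fin p → Ω := fun a => x ^ (a.2 : ℕ) • (a.1 : Ω)
  have htk : ∀ k : ℕ, t * x ^ k = (x ^ k)⁻¹ * t := by
    intro k
    have h3 : t * x ^ k * t⁻¹ = (t * x * t⁻¹) ^ k := (conj_pow).symm
    rw [ht, inv_pow] at h3
    rw [← h3, inv_mul_cancel_right]
  -- if `x^k w` and `w` are both fixed by `t` then `x^k = 1`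
  have key : ∀ (k : ℕ) (w : Ω), t • w = w → t • (x ^ k • w) = x ^ k • w → x ^ k = 1 := by
    intro k w hw hkw
    rw [← mul_smul, htk, mul_smul, hw, inv_smul_eq_iff, ← mul_smul, ← pow_add] at hkw
    by_contra hne
    apply hfree (k + k) _ w hkw.symm
    intro h1
    apply hne
    have h2 : orderOf x ∣ k + k := orderOf_dvd_of_pow_eq_one h1
    rw [hx, ← two_mul] at h2
    have h3 : p ∣ k := by
      apply (Nat.Coprime.dvd_mul_left ?_).1 h2
      exact (Nat.coprime_primes hp.out Nat.prime_two).2 (by omega)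
    obtain ⟨j, hj⟩ := h3
    rw [hj, pow_mul, ← hx, pow_orderOf_eq_one, one_pow]
  have hinj : ∀ a b : MulAction.fixedBy Ω t × Fin p, (b.2 : ℕ) ≤ a.2 → f a = f b → a = b := by
    rintro ⟨⟨w, hw⟩, i⟩ ⟨⟨w', hw'⟩, j⟩ hij h1
    have hw1 : t • w = w := hw
    have hw1' : t • w' = w' := hw'
    have h2 : x ^ (i : ℕ) • w = x ^ (j : ℕ) • w' := h1
    simp only at hij
    have h3 : x ^ ((i : ℕ) - j) • w = w' := by
      have e : (i : ℕ) = j + (i - j) := by omega
      rw [e, pow_add, mul_smul] at h2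
      exact smul_left_cancel _ h2
    have h4 : x ^ ((i : ℕ) - j) = 1 := by
      apply key _ w hw1
      rw [h3, hw1']
    have h5 : (i : ℕ) - j = 0 := by
      have h6 := orderOf_dvd_of_pow_eq_one h4
      rw [hx] at h6
      have := i.2
      exact Nat.eq_zero_of_dvd_of_lt h6 (by omega)
    have h6 : i = j := Fin.ext (by omega)
    subst h6
    have h7 : w = w' := by rw [← h3, h4, one_smul]
    subst h7
    rfl
  have hf : Function.Injective f := by
    intro a b h1
    rcases le_total (b.2 : ℕ) a.2 with h2 | h2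
    · exact hinj a b h2 h1
    · exact (hinj b a h2 h1.symm).symm
  have h1 := Nat.card_le_card_of_injective f hf
  rw [Nat.card_prod, Nat.card_fin] at h1
  exact h1

end perm

section asm

variable {G : Type u} [Group G] [Fintype G] [IsSimpleGroup G] {p : ℕ} [hp : Fact p.Prime] {Ω : Type v} [Fintype Ω] [MulAction G Ω] [FaithfulSMul G Ω]

theorem fx_conj {t t' : G} (h : IsConj t t') : fx Ω t = fx Ω t' := by
  obtain ⟨c, hc⟩ := isConj_iff.1 h
  have h1 : pi Ω t' = pi Ω t := by
    rw [← hc]; exact (pi_char (G := G) (α := Ω)).isClassFunction t c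
  rw [pi_eq, pi_eq] at h1
  exact_mod_cast h1.symm

/-- KBASE, with the class algebra part as hypothesis -/
theorem KBASE_of (hprod : ∀ t g : G, orderOf t = 2 → g ≠ 1 → ¬ p ∣ orderOf g →
      ∃ t' g' : G, IsConj t t' ∧ IsConj g g' ∧ orderOf (t' * g') = p)
    (hG : ¬ IsMulCommutative G) (h5 : 5 ≤ p) (P : Sylow p G)
    (hN : Nat.card (Subgroup.normalizer ((P : Subgroup G) : Set G)) = 2 * p) (hprim : MulAction.IsPreprimitive G Ω) (hΩ : Nat.card Ω = 3 * p) :
    Base G Ω p := by
  classical
  obtain ⟨D, hC, B, χ, h⟩ := exists_cfg_simple hG h5 P hN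
  have hP := card_P h5 P hN
  have ho : ∀ g : G, p ∣ orderOf g → orderOf g = p := fun g hg => ord_sing h hg
  haveI := hprim
  have hsing : ∀ g : G, p ∣ orderOf g → fx Ω g = 0 := by
    intro g hg
    have h1 := pi_sing' (G := G) (α := Ω) (p := p) (by rw [hΩ]; exact dvd_mul_left _ _) (not_sq' h) hg
    rw [pi_eq] at h1
    exact_mod_cast h1
  have hnofix : ∀ g : G, p ∣ orderOf g → ∀ w : Ω, g • w ≠ w := by
    intro g hg w hw
    have h1 := hsing g hg
    rw [fx] at h1
    haveI : Nonempty (MulAction.fixedBy Ω g) := ⟨⟨w, hw⟩⟩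
    have := Nat.card_pos (α := MulAction.fixedBy Ω g)
    omega
  have hp2 : ¬ p ∣ 2 := by
    intro h1
    have := Nat.le_of_dvd (by norm_num) h1
    omega
  -- an involution and its partner
  have hpair : ∀ s t : G, orderOf s = 2 → orderOf t = 2 → ∃ s' t' : G, IsConj s s' ∧ IsConj t t' ∧ s' * s' = 1 ∧ t' * t' = 1 ∧
      orderOf (s' * t') = p := by
    intro s t hs ht
    have ht1 : t ≠ 1 := by intro h1; rw [h1, orderOf_one] at ht; omega
    obtain ⟨s', t', h1, h2, h3⟩ := hprod s t hs ht1 (by rw [ht]; exact hp2)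
    have key : ∀ a b : G, orderOf a = 2 → IsConj a b → b * b = 1 := by
      intro a b ha hab
      obtain ⟨c, hc⟩ := isConj_iff.1 hab
      have h4 : a * a = 1 := by rw [← pow_two, ← ha, pow_orderOf_eq_one]
      rw [← hc]
      calc c * a * c⁻¹ * (c * a * c⁻¹) = c * (a * a) * c⁻¹ := by group
        _ = 1 := by rw [h4]; group
    exact ⟨s', t', h1, h2, key s s' hs h1, key t t' ht h2, h3⟩
  have hodd : p % 2 = 1 := by
    rcases hp.out.eq_two_or_odd with h1 | h1
    · omega
    · exact h1
  exact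
    { hp := hp.out
      h5 := h5
      simple := inferInstance
      nab := hG
      faithful := inferInstance
      prim := hprim
      card := hΩ
      sing := hsing
      nsing := nsing P hP hN ho
      syl := syl P hN
      inv := exists_inv P hN
      conj := by
        intro s t hs ht
        obtain ⟨s', t', h1, h2, h3, h4, h6⟩ := hpair s t hs ht
        refine h1.trans (IsConj.trans ?_ h2.symm)
        apply conj_of_prod h3 h4 (q := (p - 1) / 2)
        rw [show 2 * ((p - 1) / 2) + 1 = p by omega, ← h6, pow_orderOf_eq_one]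
      prod := hprod
      sub := by
        intro t ht
        obtain ⟨s', t', h1, h2, h3, h4, h6⟩ := hpair t t ht ht
        have hfx : fx Ω t = fx Ω s' := fx_conj h1
        have hle : fx Ω s' * p ≤ Nat.card Ω := by
          apply fx_mul_le h6 (by omega)
          · intro k hk w
            apply hnofix
            have h7 : orderOf ((s' * t') ^ k) ∣ p := by rw [← h6]; exact orderOf_pow_dvd k
            rcases (Nat.dvd_prime hp.out).1 h7 with h8 | h8
            · exact absurd (orderOf_eq_one_iff.1 h8) hk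
            · rw [h8]
          · have e1 : s'⁻¹ = s' := inv_eq_of_mul_eq_one_left h3
            have e2 : t'⁻¹ = t' := inv_eq_of_mul_eq_one_left h4
            rw [mul_inv_rev, e1, e2, ← mul_assoc, h3, one_mul]
        have h4d := four_dvd (Ω := Ω) hG ht
        rw [hΩ] at hle h4d
        have h7 : fx Ω t ≤ 3 := by
          rw [hfx]
          exact Nat.le_of_mul_le_mul_right hle hp.out.pos
        have h8 : fx Ω t = 0 ∨ fx Ω t = 1 ∨ fx Ω t = 2 ∨ fx Ω t = 3 := by omega
        rcases h8 with h9 | h9 | h9 | h9 <;> rw [h9] at h4d ⊢ <;> omega }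

end asm

end Cfsg.Agent.Lib.H52_KB
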