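import Mathlib

set_option autoImplicit false
set_option linter.all false

/-! Parts of `KBASE` of S3254 -/

namespace Cfsg.Agent.Lib.H52_KB12

universe u v

variable {G : Type u} [Group G] [Fintype G] {p : ℕ} [hp : Fact p.Prime]

theorem card_syl (P : Sylow p G) (hP : Nat.card P = p) (Q : Sylow p G) : Nat.card Q = p := by
  exact (Nat.card_congr (Sylow.equiv Q P).toEquiv).trans hP

theorem cent_le (P : Sylow p G) (hC : Subgroup.centralizer ((P : Subgroup G) : Set G) ≤ P) (Q : Sylow p G) :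
    Subgroup.centralizer ((Q : Subgroup G) : Set G) ≤ Q := by
  obtain ⟨x, rfl⟩ := MulAction.exists_smul_eq G P Q
  intro g hg
  rw [Sylow.coe_subgroup_smul, Subgroup.mem_pointwise_smul_iff_inv_smul_mem]
  have h1 : ((MulAut.conj x)⁻¹ • g : G) = x⁻¹ * g * x := by
    simp [MulAut.smul_def]
  rw [h1]
  apply hC
  rw [Subgroup.mem_centralizer_iff] at hg ⊢
  intro h hh
  have h2 := hg (x * h * x⁻¹) (by
    rw [Sylow.coe_subgroup_smul]
    exact ⟨h, hh, by simp [MulAut.smul_def]⟩)
  have h3 : h * (x⁻¹ * g * x) = x⁻¹ * ((x * h * x⁻¹) * g) * x := by group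
  rw [h3, h2]
  group

theorem zpowers_eq (Q : Sylow p G) (hQ : Nat.card Q = p) {g : G} (hg : g ∈ (Q : Subgroup G)) (h1 : g ≠ 1) :
    Subgroup.zpowers g = (Q : Subgroup G) := by
  apply Subgroup.eq_of_le_of_card_ge ((Subgroup.zpowers_le).2 hg)
  rw [Nat.card_zpowers]
  have h2 : orderOf g ∣ p := by
    rw [← hQ]
    have := orderOf_dvd_natCard (⟨g, hg⟩ : (Q : Subgroup G))
    rwa [Subgroup.orderOf_mk] at this
  rcases (Nat.dvd_prime hp.out).1 h2 with h3 | h3
  · exact absurd (orderOf_eq_one_iff.1 h3) h1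
  · rw [h3]; exact hQ.le

theorem orderOf_eq (Q : Sylow p G) (hQ : Nat.card Q = p) {g : G} (hg : g ∈ (Q : Subgroup G)) (h1 : g ≠ 1) :
    orderOf g = p := by
  rw [← Nat.card_zpowers, zpowers_eq Q hQ hg h1]; exact hQ

theorem exists_mem (P : Sylow p G) (hP : Nat.card P = p)
    (hC : Subgroup.centralizer ((P : Subgroup G) : Set G) ≤ P) {g : G} (hg : p ∣ orderOf g) :
    ∃ Q : Sylow p G, g ∈ (Q : Subgroup G) := by
  obtain ⟨k, hk⟩ := hg
  have hk0 : k ≠ 0 := by
    rintro rfl
    have := orderOf_pos g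
    omega
  have h1 : orderOf (g ^ k) = p := by
    rw [orderOf_pow' g hk0, hk, Nat.gcd_eq_right (dvd_mul_left _ _), Nat.mul_div_cancel _ (Nat.pos_of_ne_zero hk0)]
  have h2 : IsPGroup p (Subgroup.zpowers (g ^ k)) := IsPGroup.of_card (n := 1) (by rw [Nat.card_zpowers, h1, pow_one])
  obtain ⟨Q, hQ⟩ := h2.exists_le_sylow
  have hQ1 := card_syl P hP Q
  have h3 : g ^ k ∈ (Q : Subgroup G) := hQ (Subgroup.mem_zpowers _)
  have h4 : g ^ k ≠ 1 := by
    intro h
    rw [h, orderOf_one] at h1
    exact hp.out.one_lt.ne h1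
  have h5 := zpowers_eq Q hQ1 h3 h4
  refine ⟨Q, cent_le P hC Q ?_⟩
  rw [Subgroup.mem_centralizer_iff]
  intro h hh
  rw [← h5] at hh
  obtain ⟨m, rfl⟩ := hh
  exact (((Commute.refl g).pow_right k).zpow_right m).eq.symm

theorem order_of_sing (P : Sylow p G) (hP : Nat.card P = p)
    (hC : Subgroup.centralizer ((P : Subgroup G) : Set G) ≤ P) {g : G} (hg : p ∣ orderOf g) : orderOf g = p := by
  obtain ⟨Q, hQ⟩ := exists_mem P hP hC hg
  refine orderOf_eq Q (card_syl P hP Q) hQ ?_
  rintro rfl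
  rw [orderOf_one] at hg
  exact hp.out.one_lt.ne' (Nat.dvd_one.1 hg)

theorem card_sylows (P : Sylow p G)
    (hN : Nat.card (Subgroup.normalizer ((P : Subgroup G) : Set G)) = 2 * p) :
    Nat.card G = 2 * p * Nat.card (Sylow p G) := by
  rw [P.card_eq_index_normalizer, ← hN]
  exact (Subgroup.card_mul_index _).symm

theorem nsing (P : Sylow p G) (hP : Nat.card P = p)
    (hC : Subgroup.centralizer ((P : Subgroup G) : Set G) ≤ P)
    (hN : Nat.card (Subgroup.normalizer ((P : Subgroup G) : Set G)) = 2 * p) :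
    2 * p * Nat.card {g : G // p ∣ orderOf g} = Nat.card G * (p - 1) := by
  classical
  have h1 : Nat.card {g : G // p ∣ orderOf g} = Nat.card (Sylow p G) * (p - 1) := by
    haveI : Fintype (Sylow p G) := Fintype.ofFinite _
    have h2 : (Finset.univ.filter fun g : G => p ∣ orderOf g) =
        Finset.univ.biUnion (fun Q : Sylow p G => Finset.univ.filter fun g : G => g ∈ (Q : Subgroup G) ∧ g ≠ 1) := by
      ext g
      simp only [Finset.mem_filter, Finset.mem_univ, true_and, Finset.mem_biUnion]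
      constructor
      · intro hg
        obtain ⟨Q, hQ⟩ := exists_mem P hP hC hg
        refine ⟨Q, hQ, ?_⟩
        rintro rfl
        rw [orderOf_one] at hg
        exact hp.out.one_lt.ne' (Nat.dvd_one.1 hg)
      · rintro ⟨Q, hQ, h1⟩
        rw [orderOf_eq Q (card_syl P hP Q) hQ h1]
    rw [Nat.card_eq_fintype_card, Fintype.card_subtype, h2, Finset.card_biUnion]
    · rw [Finset.sum_congr rfl (g := fun _ => p - 1), Finset.sum_const, Finset.card_univ, smul_eq_mul, Nat.card_eq_fintype_card]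
      intro Q _
      have h3 : (Finset.univ.filter fun g : G => g ∈ (Q : Subgroup G) ∧ g ≠ 1) =
          (Finset.univ.filter fun g : G => g ∈ (Q : Subgroup G)).erase 1 := by
        ext g; simp [and_comm]
      rw [h3, Finset.card_erase_of_mem (by simp [one_mem])]
      congr 1
      rw [← Fintype.card_subtype, ← Nat.card_eq_fintype_card]
      exact card_syl P hP Q
    · intro Q _ R _ hQR
      rw [Function.onFun, Finset.disjoint_left]
      intro g hg1 hg2
      simp only [Finset.mem_filter, Finset.mem_univ, true_and] at hg1 hg2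
      apply hQR
      apply Sylow.ext
      rw [← zpowers_eq Q (card_syl P hP Q) hg1.1 hg1.2, ← zpowers_eq R (card_syl P hP R) hg2.1 hg2.2]
  rw [h1, card_sylows P hN]
  ring

theorem syl (P : Sylow p G)
    (hN : Nat.card (Subgroup.normalizer ((P : Subgroup G) : Set G)) = 2 * p) :
    ∃ n : ℕ, Nat.card G = 2 * p * (1 + n * p) := by
  have h1 := card_sylow_modEq_one p G
  have hpos : 1 ≤ Nat.card (Sylow p G) := Nat.card_pos
  have h2 := (Nat.modEq_iff_dvd' hpos).1 h1.symm
  obtain ⟨n, hn⟩ := h2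
  refine ⟨n, ?_⟩
  rw [card_sylows P hN]
  congr 1
  rw [mul_comm n p]; omega

theorem exists_inv (P : Sylow p G)
    (hN : Nat.card (Subgroup.normalizer ((P : Subgroup G) : Set G)) = 2 * p) :
    ∃ t : G, t ∈ Subgroup.normalizer ((P : Subgroup G) : Set G) ∧ orderOf t = 2 := by
  haveI : Fact (Nat.Prime 2) := ⟨Nat.prime_two⟩
  obtain ⟨t, ht⟩ := exists_prime_orderOf_dvd_card' (G := Subgroup.normalizer ((P : Subgroup G) : Set G)) 2
    (by rw [hN]; exact dvd_mul_right _ _)
  exact ⟨t.1, t.2, by rw [Subgroup.orderOf_coe, ht]⟩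

/-- two involutions with product of odd order are conjugate -/
theorem conj_of_prod {s t : G} (hs : orderOf s = 2) (ht : orderOf t = 2) (hodd : Odd (orderOf (s * t))) : IsConj s t := by
  obtain ⟨k, hk⟩ := hodd
  have ht2 : t * t = 1 := by rw [← pow_two, ← ht, pow_orderOf_eq_one]
  have hs2 : s * s = 1 := by rw [← pow_two, ← hs, pow_orderOf_eq_one]
  have hti : t⁻¹ = t := inv_eq_of_mul_eq_one_right ht2
  have hsi : s⁻¹ = s := inv_eq_of_mul_eq_one_right hs2
  set x := s * t with hx
  have h1 : t * x * t⁻¹ = x⁻¹ := by rw [hx, mul_inv_rev, hti, hsi]; group; simp [mul_assoc, ht2]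
  have h2 : ∀ n : ℕ, t * x ^ n * t⁻¹ = (x ^ n)⁻¹ := by
    intro n
    rw [← conj_pow, h1, inv_pow]
  have h3 : x ^ (k + 1) * x ^ (k + 1) = x := by
    rw [← pow_add, show k + 1 + (k + 1) = (2 * k + 1) + 1 by ring, pow_succ, ← hk, pow_orderOf_eq_one, one_mul]
  have h4 : s = x * t := by rw [hx, mul_assoc, ht2, mul_one]
  refine IsConj.symm (isConj_iff.2 ⟨x ^ (k + 1), ?_⟩)
  have h5 : t * (x ^ (k + 1))⁻¹ = x ^ (k + 1) * t := by
    have h6 := h2 (k + 1)
    rw [← h6, hti]
    simp only [← mul_assoc]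
    rw [ht2, one_mul]
  rw [mul_assoc, h5, ← mul_assoc, h3, ← h4]

/-- the involutions of the normaliser invert `P` -/
theorem inverts (P : Sylow p G) (hP : Nat.card P = p) (h5 : 3 ≤ p)
    (hC : Subgroup.centralizer ((P : Subgroup G) : Set G) ≤ P) {t : G} (ht : orderOf t = 2)
    (htN : t ∈ Subgroup.normalizer ((P : Subgroup G) : Set G)) {x : G} (hx : x ∈ (P : Subgroup G)) :
    t * x * t⁻¹ = x⁻¹ := by
  have ht2 : t * t = 1 := by rw [← pow_two, ← ht, pow_orderOf_eq_one]
  have hti : t⁻¹ = t := inv_eq_of_mul_eq_one_right ht2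
  have h1 : t * x * t⁻¹ ∈ (P : Subgroup G) := (Subgroup.mem_normalizer_iff.1 htN x).1 hx
  have hcomm : ∀ a ∈ (P : Subgroup G), ∀ b ∈ (P : Subgroup G), a * b = b * a := by
    intro a ha b hb
    by_cases ha1 : a = 1
    · rw [ha1, one_mul, mul_one]
    · rw [← zpowers_eq P hP ha ha1] at hb
      obtain ⟨m, rfl⟩ := hb
      exact ((Commute.refl a).zpow_right m).eq
  set y := x * (t * x * t⁻¹) with hy
  have hyP : y ∈ (P : Subgroup G) := mul_mem hx h1
  have hyt : t * y = y * t := by
    have h2 : t * y * t⁻¹ = y := by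
      rw [hy]
      have : t * (x * (t * x * t⁻¹)) * t⁻¹ = (t * x * t⁻¹) * (t * t * x * (t * t)⁻¹) := by group
      rw [this, ht2, one_mul, inv_one, mul_one]
      exact hcomm _ h1 _ hx
    calc t * y = (t * y * t⁻¹) * t := by group
      _ = y * t := by rw [h2]
  by_cases hy1 : y = 1
  · exact (inv_eq_of_mul_eq_one_right hy1).symm
  · exfalso
    have h3 : t ∈ (P : Subgroup G) := by
      apply hC
      rw [Subgroup.mem_centralizer_iff]
      intro h hh
      rw [SetLike.mem_coe, ← zpowers_eq P hP hyP hy1] at hh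
      obtain ⟨m, rfl⟩ := hh
      exact ((show Commute y t from hyt.symm).zpow_left m).eq
    have h4 : t ≠ 1 := by rintro rfl; rw [orderOf_one] at ht; omega
    have := orderOf_eq P hP h3 h4
    omega

section act

variable {Ω : Type v} [Fintype Ω] [MulAction G Ω]

/-- at most three fixed points -/
theorem fix_le (P : Sylow p G) (hP : Nat.card P = p) (h5 : 3 ≤ p)
    (hC : Subgroup.centralizer ((P : Subgroup G) : Set G) ≤ P) (hΩ : Nat.card Ω = 3 * p)
    (hfree : ∀ x ∈ (P : Subgroup G), x ≠ 1 → ∀ a : Ω, x • a ≠ a) {t : G} (ht : orderOf t = 2)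
    (htN : t ∈ Subgroup.normalizer ((P : Subgroup G) : Set G)) :
    Nat.card (MulAction.fixedBy Ω t) ≤ 3 := by
  have hinj : Function.Injective (fun z : ↥(P : Subgroup G) × ↥(MulAction.fixedBy Ω t) => (z.1 : G) • (z.2 : Ω)) := by
    rintro ⟨⟨x, hx⟩, ⟨a, ha⟩⟩ ⟨⟨y, hy⟩, ⟨b, hb⟩⟩ h
    simp only at h
    have ha' : t • a = a := ha
    have hb' : t • b = b := hb
    set z := y⁻¹ * x with hz
    have hzP : z ∈ (P : Subgroup G) := mul_mem (inv_mem hy) hx
    have h1 : z • a = b := by rw [hz, mul_smul, h, inv_smul_smul]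
    have h2 := inverts P hP h5 hC ht htN hzP
    have h3 : z⁻¹ • a = b := by
      rw [← h2, mul_smul, mul_smul]
      have : t⁻¹ • a = a := by rw [inv_smul_eq_iff, ha']
      rw [this, h1, hb']
    have h4 : (z * z) • a = a := by
      rw [mul_smul, h1, ← h3, smul_inv_smul]
    have h5' : z * z = 1 := by
      by_contra hne
      exact hfree _ (mul_mem hzP hzP) hne a h4
    have h6 : z = 1 := by
      by_contra hne
      have h7 := orderOf_eq P hP hzP hne
      have h8 : orderOf z ∣ 2 := orderOf_dvd_of_pow_eq_one (by rw [pow_two, h5'])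
      have := Nat.le_of_dvd (by norm_num) h8
      omega
    have h9 : x = y := by
      rw [hz] at h6
      exact (inv_mul_eq_one.1 h6).symm
    rw [h6, one_smul] at h1
    subst h9
    subst h1
    rfl
  have h1 := Nat.card_le_card_of_injective _ hinj
  rw [Nat.card_prod, hΩ, show Nat.card (P : Subgroup G) = p from hP, mul_comm] at h1
  exact Nat.le_of_mul_le_mul_right h1 hp.out.pos

/-- elements of a perfect-like simple group act as even permutations; involutions -/
theorem fix_mod [IsSimpleGroup G] (hG : ¬ IsMulCommutative G) [FaithfulSMul G Ω] {t : G} (ht : orderOf t = 2) :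
    ∃ m : ℕ, Nat.card (MulAction.fixedBy Ω t) + 4 * m = Nat.card Ω := by
  classical
  set σ : Equiv.Perm Ω := MulAction.toPermHom G Ω t with hσ
  have hord : orderOf σ = 2 := by
    rw [hσ, orderOf_injective _ MulAction.toPerm_injective, ht]
  have hsgn : Equiv.Perm.sign σ = 1 := by
    set f : G →* ℤˣ := Equiv.Perm.sign.comp (MulAction.toPermHom G Ω) with hf
    rcases IsSimpleGroup.eq_bot_or_eq_top_of_normal f.ker inferInstance with h | h
    · exfalso
      apply hG
      refine ⟨⟨fun a b => ?_⟩⟩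
      apply (MonoidHom.ker_eq_bot_iff f).1 h
      rw [map_mul, map_mul, mul_comm]
    · have : t ∈ f.ker := by rw [h]; trivial
      exact this
  haveI : Fact (Nat.Prime 2) := ⟨Nat.prime_two⟩
  obtain ⟨n, hn⟩ := Equiv.Perm.cycleType_prime_order (σ := σ) (by rw [hord]; exact Nat.prime_two)
  rw [hord] at hn
  have hsum := Equiv.Perm.sum_cycleType σ
  rw [hn, Multiset.sum_replicate, smul_eq_mul] at hsum
  rw [Equiv.Perm.sign_of_cycleType, hn, Multiset.sum_replicate, Multiset.card_replicate, smul_eq_mul] at hsgn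
  have hev : Even (n + 1) := by
    by_contra hcon
    rw [Nat.not_even_iff_odd] at hcon
    have h1 : Odd ((n + 1) * 2 + (n + 1)) := by
      have := (even_two_mul (n + 1))
      rw [mul_comm] at this
      exact this.add_odd hcon
    rw [h1.neg_one_pow] at hsgn
    exact absurd hsgn (by decide)
  obtain ⟨m, hm⟩ := hev
  refine ⟨m, ?_⟩
  have h1 : Nat.card (MulAction.fixedBy Ω t) + σ.support.card = Nat.card Ω := by
    have h2 : Nat.card (MulAction.fixedBy Ω t) = (σ.supportᶜ).card := by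
      rw [Nat.card_eq_fintype_card, ← Set.toFinset_card]
      congr 1
      ext w
      simp [MulAction.mem_fixedBy, hσ]
    rw [h2, Nat.card_eq_fintype_card, add_comm, Finset.card_add_card_compl]
  omega

/-- the field `sub` -/
theorem sub [IsSimpleGroup G] (hG : ¬ IsMulCommutative G) [FaithfulSMul G Ω] (P : Sylow p G) (hP : Nat.card P = p) (h5 : 3 ≤ p)
    (hC : Subgroup.centralizer ((P : Subgroup G) : Set G) ≤ P)
    (hN : Nat.card (Subgroup.normalizer ((P : Subgroup G) : Set G)) = 2 * p) (hΩ : Nat.card Ω = 3 * p)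
    (hfree : ∀ x ∈ (P : Subgroup G), x ≠ 1 → ∀ a : Ω, x • a ≠ a)
    (hconj : ∀ s t : G, orderOf s = 2 → orderOf t = 2 → IsConj s t) {t : G} (ht : orderOf t = 2) :
    (Nat.card (MulAction.fixedBy Ω t) = 1 ∧ p % 4 = 3) ∨ (Nat.card (MulAction.fixedBy Ω t) = 3 ∧ p % 4 = 1) := by
  obtain ⟨s, hsN, hs⟩ := exists_inv P hN
  have h1 : Nat.card (MulAction.fixedBy Ω t) = Nat.card (MulAction.fixedBy Ω s) := by
    obtain ⟨c, hc⟩ := isConj_iff.1 (hconj s t hs ht)
    have k1 : ∀ w : Ω, t • w = w → s • (c⁻¹ • w) = c⁻¹ • w := by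
      intro w hw
      have h2 : s = c⁻¹ * t * c := by rw [← hc]; group
      rw [h2, smul_smul, show c⁻¹ * t * c * c⁻¹ = c⁻¹ * t by group, mul_smul, hw]
    have k2 : ∀ w : Ω, s • w = w → t • (c • w) = c • w := by
      intro w hw
      rw [← hc, smul_smul, show c * s * c⁻¹ * c = c * s by group, mul_smul, hw]
    exact Nat.card_congr
      { toFun := fun w => ⟨c⁻¹ • w.1, k1 _ w.2⟩
        invFun := fun w => ⟨c • w.1, k2 _ w.2⟩
        left_inv := fun w => by simp
        right_inv := fun w => by simp }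
  have h2 := fix_le P hP h5 hC hΩ hfree hs hsN
  obtain ⟨m, hm⟩ := fix_mod (Ω := Ω) hG hs
  rw [h1]
  have hodd : p % 2 = 1 := by
    rcases hp.out.eq_two_or_odd with h | h
    · omega
    · exact h
  rw [hΩ] at hm
  omega

end act

end Cfsg.Agent.Lib.H52_KB12
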