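import Cfsg.Agent.Lib.H52T0
import Cfsg.Agent.Lib.H52_SECa

set_option autoImplicit false
set_option linter.all false

namespace Cfsg.Agent.Lib.H52_SEC

open Cfsg Cfsg.Agent.Lib.BRPerm Cfsg.Agent.Lib.BRCore Cfsg.Agent.Lib.BRInd Cfsg.Agent.Lib.CharBasic Cfsg.Agent.Lib.BlockThird Cfsg.Agent.Lib.H52T0 Cfsg.Agent.Lib.AvgChar
universe u v

variable {G : Type u} [Group G] [Fintype G] {Ω : Type v} [Fintype Ω] [MulAction G Ω]

theorem D8.v4 {T : Sylow 2 G} {t r s v : G} {a b c : Ω} (h : D8 G Ω T t r s v a b c) : v ^ 4 = 1 := by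
  rw [← h.ov, pow_orderOf_eq_one]

theorem sq_one {g : G} (hg : orderOf g = 2) : g * g = 1 := by rw [← pow_two, ← hg, pow_orderOf_eq_one]

theorem D8.sv {T : Sylow 2 G} {t r s v : G} {a b c : Ω} (h : D8 G Ω T t r s v a b c) : s * v * s⁻¹ = v⁻¹ := by
  have hs := sq_one h.os
  have hr := sq_one h.or
  rw [← h.rs, mul_inv_rev, inv_eq_of_mul_eq_one_left hs, inv_eq_of_mul_eq_one_left hr]
  rw [mul_assoc, mul_assoc, hs, mul_one]

theorem SECone {T : Sylow 2 G} {t r s v : G} {a b c : Ω} (h : D8 G Ω T t r s v a b c) {U : Subgroup G}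
    (hU : Cen G T t U) (η : IrrCharacter G) : ∃ x y : ℤ,
    ∑ᶠ g ∈ (U : Set G), (η : G → ℂ) (t * g) = x * Nat.card U ∧
    ∑ᶠ g ∈ ((U ⊓ Subgroup.centralizer ({v} : Set G) : Subgroup G) : Set G),
      (η : G → ℂ) (v * g) = y * Nat.card (U ⊓ Subgroup.centralizer ({v} : Set G) : Subgroup G) ∧
    (2 : ℤ) ∣ x - y := by
  classical
  have hv4 := D8.v4 h
  set C := Subgroup.centralizer ({t} : Set G) with hC
  have hTC : (T : Subgroup G) ≤ C := by rw [hC, ← hU.sup]; exact le_sup_right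
  have tC : t ∈ C := hTC h.tT
  have sC : s ∈ C := hTC h.sT
  have vC : v ∈ C := by rw [← h.rs]; exact C.mul_mem (hTC h.rT) sC
  haveI hK : (U.subgroupOf C).Normal := by
    refine ⟨fun n hn g => ?_⟩
    rw [Subgroup.mem_subgroupOf] at hn ⊢
    exact hU.nor g g.2 n hn
  have := Fintype.ofFinite C
  have := Fintype.ofFinite (U.subgroupOf C)
  have hη : IsCharacter G (η : G → ℂ) := η.2.isCharacter
  have hηC : IsCharacter C (fun g : C => (η : G → ℂ) g) := hη.comp C.subtype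
  have hω := (decomp (U.subgroupOf C) hηC).1
  set ω := avg (U.subgroupOf C) (fun g : C => (η : G → ℂ) g) with hωd
  -- value of the average
  have hval : ∀ g : C, ω g = (Nat.card U : ℂ)⁻¹ * ∑ᶠ u ∈ (U : Set G), (η : G → ℂ) (g * u) := by
    intro g
    rw [hωd]
    unfold avg
    have e1 : Nat.card (U.subgroupOf C) = Nat.card U := Nat.card_congr (Subgroup.subgroupOfEquivOfLe hU.le).toEquiv
    rw [e1]
    congr 1
    rw [← finsum_set_coe_eq_finsum_mem, ← finsum_eq_sum_of_fintype]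
    exact finsum_eq_of_bijective (Subgroup.subgroupOfEquivOfLe hU.le) (Subgroup.subgroupOfEquivOfLe hU.le).bijective
      (fun k => rfl)
  have hcl := hω.isClassFunction
  have hreal : ω (⟨v, vC⟩ : C)⁻¹ = ω ⟨v, vC⟩ := by
    have e : (⟨v, vC⟩ : C)⁻¹ = (⟨s, sC⟩ : C) * ⟨v, vC⟩ * (⟨s, sC⟩ : C)⁻¹ := by
      apply Subtype.ext
      exact (D8.sv h).symm
    rw [e]
    exact hcl _ _
  obtain ⟨x, y, hx, hy, hxy⟩ := four hω (v := (⟨v, vC⟩ : C)) (Subtype.ext hv4) hreal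
  have hU0 : (Nat.card U : ℂ) ≠ 0 := by exact_mod_cast Nat.card_pos.ne'
  have e1 : (⟨v, vC⟩ : C) * ⟨v, vC⟩ = ⟨t, tC⟩ := Subtype.ext h.vv
  rw [e1, hval] at hx
  rw [hval] at hy
  refine ⟨x, y, ?_, ?_, hxy⟩
  · rw [← hx]
    field_simp
  · have hn : ∀ y ∈ U, v⁻¹ * y * v ∈ U := by
      intro y hy
      have := hU.nor v⁻¹ (C.inv_mem vC) y hy
      rwa [inv_inv] at this
    have hf : ∀ a g, (η : G → ℂ) (g⁻¹ * a * g) = (η : G → ℂ) a := by
      intro a g
      have := hη.isClassFunction a g⁻¹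
      rwa [inv_inv] at this
    have key := coprime_sum hU.odd hv4 hn (η : G → ℂ) hf
    rw [← hy]
    apply mul_left_cancel₀ hU0
    rw [key]
    field_simp

/-- Existence of the integers. -/
theorem SECint {T : Sylow 2 G} {t r s v : G} {a b c : Ω} (h : D8 G Ω T t r s v a b c) {U : Subgroup G}
    (hU : Cen G T t U) : ∃ x y : IrrCharacter G → ℤ,
    (∀ η : IrrCharacter G, ∑ᶠ g ∈ (U : Set G), (η : G → ℂ) (t * g) = x η * Nat.card U) ∧
    (∀ η : IrrCharacter G, ∑ᶠ g ∈ ((U ⊓ Subgroup.centralizer ({v} : Set G) : Subgroup G) : Set G),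
      (η : G → ℂ) (v * g) = y η * Nat.card (U ⊓ Subgroup.centralizer ({v} : Set G) : Subgroup G)) ∧
    (∀ η, (2 : ℤ) ∣ x η - y η) := by
  choose x y h1 h2 h3 using SECone h hU
  exact ⟨x, y, h1, h2, h3⟩

end Cfsg.Agent.Lib.H52_SEC
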