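import Mathlib

/-!
Full cycles obtained by joining the cycles of a permutation.
-/

set_option autoImplicit false
set_option linter.unusedSectionVars false

open Equiv Equiv.Perm

namespace Cfsg.Agent.Lib.H53Free

variable {β : Type*} [Fintype β] [DecidableEq β]

/-- all points are in the same cycle -/
def Full (d : Perm β) : Prop := ∀ x y, d.SameCycle x y

theorem Full.exists_pow {d : Perm β} (hd : Full d) (x y : β) : ∃ i : ℕ, (d ^ i) x = y :=
  (hd x y).exists_nat_pow_eq

theorem Full.conj {d : Perm β} (hd : Full d) (h : Perm β) : Full (h * d * h⁻¹) := by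
  intro x y
  obtain ⟨i, hi⟩ := hd (h⁻¹ x) (h⁻¹ y)
  refine ⟨i, ?_⟩
  rw [conj_zpow, mul_apply, mul_apply, hi]
  simp

theorem Full.inv {d : Perm β} (hd : Full d) : Full d⁻¹ := by
  intro x y
  exact sameCycle_inv.2 (hd x y)

theorem full_mul {σ τ : Perm β} {E : Set β} (hE : ∀ x, ∃ e ∈ E, σ.SameCycle e x)
    (hE1 : ∀ e ∈ E, ∀ i : ℕ, (σ ^ i) e ∈ E → (σ ^ i) e = e)
    (hτ : ∀ x, x ∉ E → τ x = x) (hτE : ∀ e ∈ E, τ e ∈ E)
    (hτt : ∀ e ∈ E, ∀ f ∈ E, ∃ i : ℕ, (τ ^ i) e = f) : Full (σ * τ) := by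
  set d := σ * τ with hd
  have h1 : ∀ e ∈ E, ∀ i : ℕ, d.SameCycle (σ e) ((σ ^ (i+1)) e) := by
    intro e he i
    induction i with
    | zero => exact ⟨0, by simp⟩
    | succ i ih =>
      have h0 : (σ ^ (i + 1 + 1)) e = σ ((σ ^ (i+1)) e) := by
        rw [pow_succ' σ (i+1)]; rfl
      by_cases h : (σ ^ (i+1)) e ∈ E
      · have h2 := hE1 e he _ h
        rw [h0, h2]
      · have h3 : d ((σ ^ (i+1)) e) = (σ ^ (i+1+1)) e := by
          rw [hd, mul_apply, hτ _ h, h0]
        exact ih.trans ⟨1, by simpa using h3⟩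
  have h2 : ∀ e ∈ E, d.SameCycle (σ e) e := by
    intro e he
    have h3 := h1 e he (orderOf σ - 1)
    rw [Nat.sub_add_cancel (orderOf_pos σ), pow_orderOf_eq_one] at h3
    exact h3
  have h3 : ∀ e ∈ E, d.SameCycle e (τ e) := by
    intro e he
    have h4 : d.SameCycle e (σ (τ e)) := ⟨1, rfl⟩
    exact h4.trans (h2 _ (hτE e he))
  have h4 : ∀ e ∈ E, ∀ i : ℕ, (τ ^ i) e ∈ E ∧ d.SameCycle e ((τ ^ i) e) := by
    intro e he i
    induction i with
    | zero => exact ⟨he, ⟨0, by simp⟩⟩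
    | succ i ih =>
      rw [pow_succ' τ i, mul_apply]
      exact ⟨hτE _ ih.1, ih.2.trans (h3 _ ih.1)⟩
  have h5 : ∀ e ∈ E, ∀ x, σ.SameCycle e x → d.SameCycle e x := by
    intro e he x hx
    obtain ⟨i, hi⟩ := hx.exists_nat_pow_eq
    rcases i with _ | i
    · rw [pow_zero, one_apply] at hi
      rw [hi]
    · rw [← hi]
      exact (h2 e he).symm.trans (h1 e he i)
  intro x y
  obtain ⟨e, he, hex⟩ := hE x
  obtain ⟨f, hf, hfy⟩ := hE y
  obtain ⟨i, hi⟩ := hτt e he f hf
  have h6 := (h4 e he i).2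
  rw [hi] at h6
  exact (h5 e he x hex).symm.trans (h6.trans (h5 f hf y hfy))

/-- a cyclic permutation of a finite set -/
theorem exists_cyc (E : Finset β) : ∃ τ : Perm β, (∀ x, x ∉ E → τ x = x) ∧ (∀ e ∈ E, τ e ∈ E) ∧
    (∀ e ∈ E, ∀ f ∈ E, ∃ i : ℕ, (τ ^ i) e = f) := by
  have hnd := E.nodup_toList
  by_cases h2 : 2 ≤ E.card
  · have hl : 2 ≤ E.toList.length := by rw [Finset.length_toList]; exact h2
    refine ⟨E.toList.formPerm, ?_, ?_, ?_⟩
    · intro x hx
      exact List.formPerm_apply_of_notMem (by rwa [Finset.mem_toList])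
    · intro e he
      have := List.formPerm_apply_mem_of_mem (l := E.toList) (x := e) (by rwa [Finset.mem_toList])
      rwa [Finset.mem_toList] at this
    · intro e he f hf
      have hc := List.isCycle_formPerm hnd hl
      have hs : E.toList.formPerm.SameCycle e f := by
        apply hc.sameCycle
        · exact (List.formPerm_apply_mem_ne_self_iff E.toList hnd e (by rwa [Finset.mem_toList])).2 hl
        · exact (List.formPerm_apply_mem_ne_self_iff E.toList hnd f (by rwa [Finset.mem_toList])).2 hl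
      exact hs.exists_nat_pow_eq
  · refine ⟨1, fun _ _ => rfl, fun e he => he, fun e he f hf => ⟨0, ?_⟩⟩
    rw [pow_zero, one_apply]
    exact Finset.card_le_one.1 (by omega) e he f hf

/-- representatives of the cycles -/
theorem exists_reps (σ : Perm β) : ∃ E : Finset β, (∀ x, ∃ e ∈ E, σ.SameCycle e x) ∧
    (∀ e ∈ E, ∀ f ∈ E, σ.SameCycle e f → e = f) := by
  classical
  let s := SameCycle.setoid σ
  refine ⟨Finset.univ.image (fun x => (Quotient.mk s x).out), ?_, ?_⟩
  · intro x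
    refine ⟨(Quotient.mk s x).out, Finset.mem_image_of_mem _ (Finset.mem_univ _), ?_⟩
    exact Quotient.exact (s := s) (Quotient.out_eq _)
  · intro e he f hf hef
    obtain ⟨x, -, rfl⟩ := Finset.mem_image.1 he
    obtain ⟨y, -, rfl⟩ := Finset.mem_image.1 hf
    have h1 : (⟦(Quotient.mk s x).out⟧ : Quotient s) = ⟦(Quotient.mk s y).out⟧ := Quotient.sound hef
    rw [Quotient.out_eq, Quotient.out_eq] at h1
    show (Quotient.mk s x).out = (Quotient.mk s y).out
    rw [h1]

/-- swapping two points forces even order -/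
theorem not_pow_of_swap {p : ℕ} (hp : Odd p) {y : Perm β} {a b : β} (hab : a ≠ b) (h1 : y a = b) (h2 : y b = a) :
    ¬ ∃ k : ℕ, orderOf y = p ^ k := by
  rintro ⟨k, hk⟩
  have h3 : ∀ m : ℕ, (y ^ (2 * m)) a = a := by
    intro m
    induction m with
    | zero => rfl
    | succ m ih =>
      rw [show 2 * (m + 1) = 2 * m + 1 + 1 by ring, pow_succ, pow_succ, mul_apply, mul_apply, h1, h2, ih]
  have h4 : Odd (p ^ k) := hp.pow
  obtain ⟨m, hm⟩ := h4
  have h5 : (y ^ (2 * m + 1)) a = a := by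
    rw [← hm, ← hk, pow_orderOf_eq_one]; rfl
  rw [pow_succ', mul_apply, h3, h1] at h5
  exact hab h5.symm

end Cfsg.Agent.Lib.H53Free
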