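import Mathlib
import Cfsg.Agent.Lib.Derangements
import Cfsg.Agent.Lib.MinNormal

set_option autoImplicit false

/-!
Normal subgroups of primitive groups.
-/

namespace Cfsg.Agent.Lib.PrimNormal

open MulAction Cfsg.Agent.Lib.MinNormal

/-- Jordan: a transitive finite group all of whose elements have a fixed point acts on at most one
point. -/
theorem subsingleton_of_all_fix {G X : Type*} [Group G] [Finite G] [MulAction G X] [Finite X]
    [IsPretransitive G X] (h : ∀ g : G, ∃ x : X, g • x = x) : Subsingleton X := by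
  classical
  rcases isEmpty_or_nonempty X with hX | hX
  · infer_instance
  have : Fintype G := Fintype.ofFinite G
  have b := Cfsg.Agent.Lib.Derangements.burnside G X
  rw [Cfsg.Agent.Lib.Derangements.card_orbits_eq_one, one_mul] at b
  have hge : ∀ g ∈ (Finset.univ : Finset G), 1 ≤ Nat.card (fixedBy X g) := by
    intro g _
    obtain ⟨x, hx⟩ := h g
    have : Nonempty (fixedBy X g) := ⟨⟨x, hx⟩⟩
    exact Nat.card_pos
  have heq : ∑ g : G, 1 = ∑ g : G, Nat.card (fixedBy X g) := by
    rw [b, ← Finset.card_eq_sum_ones, Nat.card_eq_fintype_card, Finset.card_univ]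
  have h1 := (Finset.sum_eq_sum_iff_of_le hge).mp heq 1 (Finset.mem_univ 1)
  have h2 : Nat.card (fixedBy X (1 : G)) = Nat.card X := by
    apply Nat.card_congr
    exact (Equiv.subtypeUnivEquiv (fun x => one_smul G x))
  rw [h2] at h1
  exact (Nat.card_eq_one_iff_unique.mp h1.symm).1

theorem exists_derangement {G X : Type*} [Group G] [Finite G] [MulAction G X] [Finite X]
    [IsPretransitive G X] (h : 2 ≤ Nat.card X) : ∃ g : G, ∀ x : X, g • x ≠ x := by
  by_contra hcon
  push Not at hcon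
  have := subsingleton_of_all_fix hcon
  have h1 : Nat.card X ≤ 1 := Finite.card_le_one_iff_subsingleton.mpr this
  omega

variable {G Ω : Type*} [Group G] [MulAction G Ω]

theorem transitive_of_normal [FaithfulSMul G Ω] (hprim : IsPreprimitive G Ω) (N : Subgroup G)
    [N.Normal] (hN : N ≠ ⊥) : IsPretransitive N Ω := by
  have := hprim.isQuasiPreprimitive
  apply IsQuasiPreprimitive.isPretransitive_of_normal (G := G)
  intro h
  apply hN
  rw [eq_bot_iff]
  intro n hn
  rw [Subgroup.mem_bot]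
  apply FaithfulSMul.eq_of_smul_eq_smul (α := Ω)
  intro ω
  rw [one_smul]
  have : ω ∈ fixedPoints N Ω := by rw [h]; trivial
  exact this ⟨n, hn⟩

/-- If `C` centralises `N` and `C` is transitive then `N` is semiregular. -/
theorem semiregular_of_centralizes [FaithfulSMul G Ω] (C N : Subgroup G) [IsPretransitive C Ω]
    (h : ∀ c ∈ C, ∀ n ∈ N, c * n = n * c) (ω : Ω) (n : G) (hn : n ∈ N) (hfix : n • ω = ω) :
    n = 1 := by
  apply FaithfulSMul.eq_of_smul_eq_smul (α := Ω)
  intro ω'
  rw [one_smul]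
  obtain ⟨c, hc⟩ := exists_smul_eq C ω ω'
  rw [← hc]
  change n • (c : G) • ω = (c : G) • ω
  rw [smul_smul, ← h c c.2 n hn, mul_smul, hfix]

theorem stabilizer_eq_bot_of_semiregular (N : Subgroup G) (ω : Ω)
    (h : ∀ n ∈ N, n • ω = ω → n = 1) : stabilizer N ω = ⊥ := by
  rw [eq_bot_iff]
  intro d hd
  rw [Subgroup.mem_bot]
  exact Subtype.ext (h d d.2 hd)

/-- `N = A B` transitive with `A`, `B` commuting; if every element of `A` has a fixed point then
`A = ⊥`. -/
theorem bot_of_all_fix [Finite G] [Finite Ω] [FaithfulSMul G Ω] (N A B : Subgroup G) [IsPretransitive N Ω]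
    (hcomm : ∀ a ∈ A, ∀ b ∈ B, a * b = b * a) (hprod : ∀ n ∈ N, ∃ a ∈ A, ∃ b ∈ B, n = a * b)
    (hfix : ∀ a ∈ A, ∃ ω : Ω, a • ω = ω) : A = ⊥ := by
  rw [eq_bot_iff]
  intro a ha
  rw [Subgroup.mem_bot]
  apply FaithfulSMul.eq_of_smul_eq_smul (α := Ω)
  intro α
  rw [one_smul]
  have h1 : ∀ x : A, ∃ y : orbit A α, x • y = y := by
    intro x
    obtain ⟨ω, hω⟩ := hfix x x.2
    obtain ⟨n, hn⟩ := exists_smul_eq N α ω
    obtain ⟨a', ha', b, hb, hnab⟩ := hprod n n.2
    have hn' : (n : G) • α = ω := hn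
    refine ⟨⟨(⟨a', ha'⟩ : A) • α, mem_orbit α _⟩, ?_⟩
    apply Subtype.ext
    change (x : G) • a' • α = a' • α
    rw [hnab, hcomm a' ha' b hb, mul_smul] at hn'
    rw [← hn', smul_smul, hcomm x x.2 b hb, mul_smul] at hω
    exact smul_left_cancel b hω
  have h2 : Subsingleton (orbit A α) := subsingleton_of_all_fix h1
  have h3 := h2.elim ⟨(⟨a, ha⟩ : A) • α, mem_orbit α _⟩ ⟨α, mem_orbit_self α⟩
  exact congrArg Subtype.val h3

end Cfsg.Agent.Lib.PrimNormal
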