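import Mathlib
import Cfsg.Agent.Lib.MinNormSolv
import Cfsg.Agent.Lib.PrimNormal
import Cfsg.Agent.Lib.H70Basic2
import Cfsg.Agent.Lib.H53FreeA

/-!
A primitive group of degree `p ^ b`, `p` odd, `b ≥ 2`, with a full cycle is not solvable.
-/

set_option autoImplicit false
set_option linter.unusedSectionVars false

open Equiv Equiv.Perm

namespace Cfsg.Agent.Lib.H53Free

open Polynomial in
theorem lin {p b c j : ℕ} [hp : Fact p.Prime] {V : Type*} [AddCommGroup V] [Module (ZMod p) V] [Finite V]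
    (hV : Nat.card V = p ^ b) (T : Module.End (ZMod p) V) (hT : T ^ (p ^ j) = 1) (hc : b < p ^ c) :
    T ^ (p ^ c) = 1 ∧ ∑ i ∈ Finset.range (p ^ c), T ^ i = 0 ∧ (T - 1) ^ b = 0 := by
  have hfr : Module.finrank (ZMod p) V = b := by
    have h := Module.natCard_eq_pow_finrank (K := ZMod p) (V := V)
    rw [hV, Nat.card_zmod] at h
    exact (Nat.pow_right_injective hp.out.two_le h).symm
  have key : ∀ k : ℕ, (T - 1) ^ (p ^ k) = T ^ (p ^ k) - 1 := by
    intro k
    have h := congrArg (aeval T) (sub_pow_char_pow (R := (ZMod p)[X]) (p := p) (n := k) X 1)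
    simpa using h
  have h1 : (T - 1) ^ (p ^ j) = 0 := by
    rw [key, hT, sub_self]
  have h2 : (T - 1) ^ b = 0 := by
    have hn : IsNilpotent (T - 1) := ⟨_, h1⟩
    have h3 := LinearMap.aeval_self_charpoly (T - 1)
    rw [IsNilpotent.charpoly_eq_X_pow_finrank hn] at h3
    rw [hfr] at h3
    simpa using h3
  have h3 : (T - 1) ^ (p ^ c) = 0 := pow_eq_zero_of_le hc.le h2
  refine ⟨?_, ?_, h2⟩
  · rw [key] at h3
    exact sub_eq_zero.1 h3
  · have h4 : ∑ i ∈ Finset.range (p ^ c), (X : (ZMod p)[X]) ^ i = (X - 1) ^ (p ^ c - 1) := by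
      have h5 : (X - 1 : (ZMod p)[X]) ≠ 0 := X_sub_C_ne_zero 1
      apply mul_left_cancel₀ h5
      rw [mul_geom_sum, ← pow_succ', Nat.sub_add_cancel (Nat.one_le_pow c p hp.out.pos), sub_pow_char_pow, one_pow]
    have h6 := congrArg (aeval T) h4
    simp only [map_sum, map_pow, aeval_X, map_sub, map_one] at h6
    rw [h6]
    exact pow_eq_zero_of_le (by omega) h2

theorem aut_pow {p b c j : ℕ} [hp : Fact p.Prime] {M : Type*} [CommGroup M] [Finite M] (hexp : ∀ x : M, x ^ p = 1)
    (hcard : Nat.card M = p ^ b) (f : MulAut M) (hf : f ^ (p ^ j) = 1) (hc : b < p ^ c) :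
    (∀ x, (f ^ (p ^ c)) x = x) ∧ (∀ x, ∏ i ∈ Finset.range (p ^ c), (f ^ i) x = 1) ∧ (b = 1 → ∀ x, f x = x) := by
  let _ : Module (ZMod p) (Additive M) := AddCommGroup.zmodModule (n := p) (fun x => hexp x.toMul)
  let T : Module.End (ZMod p) (Additive M) := AddMonoidHom.toZModLinearMap p (MonoidHom.toAdditive f.toMonoidHom)
  have hT : ∀ x : Additive M, T x = Additive.ofMul (f x.toMul) := fun x => rfl
  have hTk : ∀ (k : ℕ) (x : Additive M), (T ^ k) x = Additive.ofMul ((f ^ k) x.toMul) := by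
    intro k
    induction k with
    | zero => intro x; rfl
    | succ k ih =>
      intro x
      rw [pow_succ', Module.End.mul_apply, ih, hT, pow_succ']
      rfl
  have hTj : T ^ (p ^ j) = 1 := by
    apply LinearMap.ext
    intro x
    rw [hTk, hf]
    rfl
  have hcardV : Nat.card (Additive M) = p ^ b := hcard
  obtain ⟨h1, h2, h3⟩ := lin hcardV T hTj hc
  refine ⟨?_, ?_, ?_⟩
  · intro x
    have h4 := hTk (p ^ c) (Additive.ofMul x)
    rw [h1] at h4
    exact (Additive.ofMul.injective h4).symm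
  · intro x
    have h4 : (∑ i ∈ Finset.range (p ^ c), T ^ i) (Additive.ofMul x) = 0 := by rw [h2]; rfl
    rw [LinearMap.sum_apply] at h4
    simp only [hTk] at h4
    apply Additive.ofMul.injective
    rw [ofMul_prod]
    exact h4
  · intro hb x
    rw [hb, pow_one, sub_eq_zero] at h3
    have h4 := hT (Additive.ofMul x)
    rw [h3] at h4
    exact (Additive.ofMul.injective h4).symm

/-- powers of `m * q` where `m` lies in an elementary abelian normal subgroup. -/
theorem mul_pow_of_normal {p b c j : ℕ} [hp : Fact p.Prime] {G : Type*} [Group G] {M : Subgroup G} [hM : M.Normal]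
    [Finite M] (hab : IsMulCommutative M) (hexp : ∀ x ∈ M, x ^ p = 1) (hcard : Nat.card M = p ^ b) {q m : G}
    (hm : m ∈ M) (hq : q ^ (p ^ j) = 1) (hc : b < p ^ c) :
    (m * q) ^ (p ^ c) = q ^ (p ^ c) ∧ (∀ x ∈ M, q ^ (p ^ c) * x = x * q ^ (p ^ c)) ∧
      (b = 1 → ∀ x ∈ M, q * x = x * q) := by
  let _ : CommGroup M := { (inferInstance : Group M) with mul_comm := fun a b => hab.is_comm.comm a b }
  have hexp' : ∀ x : M, x ^ p = 1 := fun x => Subtype.ext (hexp _ x.2)
  let f : MulAut M := MulAut.conjNormal q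
  have hf : ∀ x : M, ((f x : M) : G) = q * x * q⁻¹ := fun x => rfl
  have hfk : ∀ (k : ℕ) (x : M), (((f ^ k) x : M) : G) = q ^ k * x * (q ^ k)⁻¹ := by
    intro k x
    have h1 : f ^ k = MulAut.conjNormal (q ^ k) := (map_pow (MulAut.conjNormal (H := M)) q k).symm
    rw [h1]
    rfl
  have hfj : f ^ (p ^ j) = 1 := by
    ext x
    rw [hfk, hq]
    simp
  obtain ⟨h1, h2, h3⟩ := aut_pow hexp' hcard f hfj hc
  have h4 : ∀ k : ℕ, (m * q) ^ k = ((∏ i ∈ Finset.range k, (f ^ i) (⟨m, hm⟩ : M) : M) : G) * q ^ k := by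
    intro k
    induction k with
    | zero => simp
    | succ k ih =>
      rw [pow_succ', ih, Finset.prod_range_succ']
      have h5 : ∏ i ∈ Finset.range k, (f ^ (i + 1)) (⟨m, hm⟩ : M) = f (∏ i ∈ Finset.range k, (f ^ i) (⟨m, hm⟩ : M)) := by
        rw [map_prod]
        exact Finset.prod_congr rfl (fun i _ => by rw [pow_succ']; rfl)
      rw [h5, mul_comm (f _)]
      show m * q * (_ * q ^ k) = (((f ^ 0) (⟨m, hm⟩ : M) : M) : G) * ((f _ : M) : G) * q ^ (k + 1)
      rw [hf, hfk, pow_succ']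
      group
  refine ⟨?_, ?_, ?_⟩
  · rw [h4, h2]
    show (1 : G) * _ = _
    rw [one_mul]
  · intro x hx
    have h7 := hfk (p ^ c) ⟨x, hx⟩
    rw [h1] at h7
    have h8 : x = q ^ (p ^ c) * x * (q ^ (p ^ c))⁻¹ := h7
    rw [eq_mul_inv_iff_mul_eq] at h8
    exact h8.symm
  · intro hb x hx
    have h7 := hf ⟨x, hx⟩
    rw [h3 hb] at h7
    have h8 : x = q * x * q⁻¹ := h7
    rw [eq_mul_inv_iff_mul_eq] at h8
    exact h8.symm

variable {β : Type*} [Fintype β] [DecidableEq β]

/-- A solvable primitive group of degree `p ^ b` with a full cycle: `b ≤ 1` and the full cycle generates a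
normal subgroup. -/
theorem solvable_full {p b : ℕ} (hp : p.Prime) (hp3 : 3 ≤ p) {G : Subgroup (Perm β)}
    (hcard : Fintype.card β = p ^ b) (hb : 1 ≤ b) (hprim : MulAction.IsPreprimitive G β) {d : Perm β} (hd : d ∈ G)
    (hfull : Full d) (hs : Group.IsSolvable G) : b = 1 ∧ ∀ g ∈ G, ∃ j : ℕ, g * d * g⁻¹ = d ^ j := by
  have hF : Fact p.Prime := ⟨hp⟩
  have hcard1 : 1 < Fintype.card β := by rw [hcard]; exact Nat.one_lt_pow (by omega) hp.one_lt
  obtain ⟨o, o', hoo⟩ := Fintype.exists_pair_of_one_lt_card hcard1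
  have hord : orderOf d = p ^ b := by
    have h1 : ∀ k : ℕ, (d ^ k) o = o → d ^ k = 1 := by
      intro k hk
      ext x
      obtain ⟨i, rfl⟩ := hfull.exists_pow o x
      rw [← mul_apply, ← pow_add, add_comm, pow_add, mul_apply, hk, one_apply]
    -- orbit
    have h2 : Function.Bijective (fun i : Fin (orderOf d) => (d ^ (i : ℕ)) o) := by
      constructor
      · intro i j hij
        have hij' : (d ^ (i : ℕ)) o = (d ^ (j : ℕ)) o := hij
        apply Fin.ext
        have hle : ∀ a b : ℕ, a ≤ b → a < orderOf d → b < orderOf d → (d ^ a) o = (d ^ b) o → a = b := by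
          intro a b hab ha hb he
          have h3 : (d ^ (b - a)) o = o := by
            have h4 : (d ^ a) ((d ^ (b - a)) o) = (d ^ a) o := by
              rw [← mul_apply, ← pow_add, Nat.add_sub_cancel' hab, he]
            exact (d ^ a).injective h4
          have h5 := h1 _ h3
          have h6 := orderOf_dvd_of_pow_eq_one h5
          have h7 : b - a = 0 := Nat.eq_zero_of_dvd_of_lt h6 (by omega)
          omega
        rcases le_total (i : ℕ) (j : ℕ) with h | h
        · exact hle _ _ h i.2 j.2 hij'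
        · exact (hle _ _ h j.2 i.2 hij'.symm).symm
      · intro x
        obtain ⟨i, hi⟩ := hfull.exists_pow o x
        refine ⟨⟨i % orderOf d, Nat.mod_lt _ (orderOf_pos d)⟩, ?_⟩
        show (d ^ (i % orderOf d)) o = x
        rw [pow_mod_orderOf, hi]
    have h3 := Fintype.card_of_bijective h2
    rw [Fintype.card_fin] at h3
    rw [h3, hcard]
  have hdne : d ≠ 1 := by
    rintro rfl
    obtain ⟨i, hi⟩ := hfull.exists_pow o o'
    rw [one_pow, one_apply] at hi
    exact hoo hi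
  have hGnt : Nontrivial G := ⟨⟨⟨d, hd⟩, 1, fun h => hdne (congrArg Subtype.val h)⟩⟩
  obtain ⟨M, hMn, hM1, hmin⟩ := Lib.H70Basic2.exists_minimal_normal (G := G)
  obtain ⟨hcoat, hcore, hCM, hMst, hMab⟩ := Lib.MinNormSolv.primitive_solvable hprim M hM1 hmin o
  obtain ⟨q0, hq0, -, hexp⟩ := Lib.MinNormSolv.elementary_of_minimal hM1 hmin
  have htr := Lib.PrimNormal.transitive_of_normal hprim M hM1
  -- |M| = p ^ b
  have hcardM : Nat.card M = p ^ b := by
    have h1 := MulAction.index_stabilizer_of_transitive M o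
    have h2 : MulAction.stabilizer M o = ⊥ := by
      rw [eq_bot_iff]
      intro x hx
      rw [Subgroup.mem_bot]
      have h3 : (x : G) ∈ M ⊓ MulAction.stabilizer G o := ⟨x.2, hx⟩
      rw [hMst, Subgroup.mem_bot] at h3
      exact Subtype.ext h3
    rw [h2, Subgroup.index_bot, Nat.card_eq_fintype_card (α := β), hcard] at h1
    exact h1
  obtain ⟨d', hd', hcardM'⟩ := Lib.MinNormSolv.card_eq_prime_pow hM1 hq0 hexp
  have hq0p : q0 = p := by
    rw [hcardM] at hcardM'
    have h1 : q0 ∣ p ^ b := by rw [hcardM']; exact dvd_pow_self _ (by omega)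
    exact (Nat.prime_dvd_prime_iff_eq hq0 hp).1 (hq0.dvd_of_dvd_pow h1)
  subst hq0p
  -- decompose d
  obtain ⟨⟨m, hm⟩, hmo⟩ := MulAction.exists_smul_eq M o (d o)
  have hmo' : (m : Perm β) o = d o := hmo
  set dG : G := ⟨d, hd⟩ with hdG
  set q : G := m⁻¹ * dG with hqdef
  have hdq : dG = m * q := by rw [hqdef]; group
  have hqst : q ∈ MulAction.stabilizer G o := by
    rw [MulAction.mem_stabilizer_iff]
    show ((m⁻¹ * dG : G) : Perm β) o = o
    show (m : Perm β)⁻¹ (d o) = o
    rw [← hmo']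
    simp
  have hdord : orderOf dG = q0 ^ b := by
    rw [← hord]
    exact Subgroup.orderOf_mk d hd
  -- q is a p-element
  have hqM : ∀ k : ℕ, ∃ x ∈ M, dG ^ k = x * q ^ k := by
    intro k
    induction k with
    | zero => exact ⟨1, M.one_mem, by simp⟩
    | succ k ih =>
      obtain ⟨x, hx, hk⟩ := ih
      refine ⟨x * (q ^ k * m * (q ^ k)⁻¹), M.mul_mem hx (hMn.conj_mem m hm _), ?_⟩
      rw [pow_succ, hk, hdq, pow_succ]
      group
  have hqpow : q ^ (q0 ^ b) = 1 := by
    obtain ⟨x, hx, h1⟩ := hqM (q0 ^ b)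
    rw [← hdord, pow_orderOf_eq_one] at h1
    rw [hdord] at h1
    have h2 : q ^ (q0 ^ b) = x⁻¹ := (inv_eq_of_mul_eq_one_right h1.symm).symm
    have h3 : q ^ (q0 ^ b) ∈ M ⊓ MulAction.stabilizer G o :=
      ⟨by rw [h2]; exact M.inv_mem hx, Subgroup.pow_mem _ hqst _⟩
    rwa [hMst, Subgroup.mem_bot] at h3
  have hb1 : b = 1 := by
    by_contra hb1
    have hb2 : 2 ≤ b := by omega
    have hc : b < q0 ^ (b - 1) := by
      have h1 : ∀ n : ℕ, n + 2 < 3 ^ (n + 1) := by
        intro n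
        induction n with
        | zero => norm_num
        | succ n ih => rw [pow_succ]; omega
      have h2 := h1 (b - 2)
      rw [show b - 2 + 2 = b by omega, show b - 2 + 1 = b - 1 by omega] at h2
      exact h2.trans_le (Nat.pow_le_pow_left hp3 _)
    obtain ⟨h1, h2, -⟩ := mul_pow_of_normal hMab hexp hcardM hm hqpow hc
    rw [← hdq] at h1
    have h3 : q ^ (q0 ^ (b - 1)) ∈ Subgroup.centralizer (M : Set G) := by
      rw [Subgroup.mem_centralizer_iff]
      intro x hx
      exact (h2 x hx).symm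
    rw [hCM] at h3
    have h4 : q ^ (q0 ^ (b - 1)) ∈ M ⊓ MulAction.stabilizer G o := ⟨h3, Subgroup.pow_mem _ hqst _⟩
    rw [hMst, Subgroup.mem_bot] at h4
    rw [h4] at h1
    have h5 := orderOf_dvd_of_pow_eq_one h1
    rw [hdord] at h5
    have h6 := (Nat.pow_dvd_pow_iff_le_right hp.one_lt).1 h5
    omega
  refine ⟨hb1, ?_⟩
  subst hb1
  -- q = 1
  have h1 : (1 : ℕ) < q0 ^ 1 := by rw [pow_one]; omega
  obtain ⟨-, -, h3⟩ := mul_pow_of_normal hMab hexp hcardM hm hqpow h1
  have h3' : q ∈ Subgroup.centralizer (M : Set G) := by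
    rw [Subgroup.mem_centralizer_iff]
    intro x hx
    exact (h3 rfl x hx).symm
  rw [hCM] at h3'
  have h4 : q ∈ M ⊓ MulAction.stabilizer G o := ⟨h3', hqst⟩
  rw [hMst, Subgroup.mem_bot] at h4
  rw [h4, mul_one] at hdq
  intro g hg
  have h5 : (⟨g, hg⟩ : G) * dG * (⟨g, hg⟩ : G)⁻¹ ∈ M := hMn.conj_mem _ (hdq ▸ hm) _
  have h6 : Nat.card M = q0 := by rw [hcardM, pow_one]
  have h7 : (⟨dG, hdq ▸ hm⟩ : M) ≠ 1 := by
    intro h
    apply hdne
    have h8 := congrArg Subtype.val h
    exact congrArg Subtype.val h8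
  have h8 := mem_powers_of_prime_card h6 (g' := (⟨_, h5⟩ : M)) h7
  obtain ⟨j, hj⟩ := h8
  refine ⟨j, ?_⟩
  have h9 := congrArg Subtype.val (congrArg Subtype.val hj)
  exact h9.symm

end Cfsg.Agent.Lib.H53Free
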