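import Mathlib
import Cfsg.Agent.Lib.H53FreeB

/-!
Primitivity of the groups generated by a permutation of odd prime power order and a suitable full cycle.
-/

set_option autoImplicit false
set_option linter.unusedSectionVars false

open Equiv Equiv.Perm

namespace Cfsg.Agent.Lib.H53Free

variable {β : Type*} [Fintype β] [DecidableEq β]

theorem blk {G : Subgroup (Perm β)} {B : Set β} (hB : MulAction.IsBlock G B) {g : Perm β} (hg : g ∈ G) {x : β}
    (hx : x ∈ B) (hgx : g x ∈ B) (y : β) : g y ∈ B ↔ y ∈ B := by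
  have h := hB.smul_eq_of_mem (g := ⟨g, hg⟩) hx hgx
  constructor
  · intro hy
    rw [← h] at hy
    obtain ⟨z, hz, hzy⟩ := hy
    have h1 : z = y := g.injective hzy
    rwa [← h1]
  · intro hy
    rw [← h]
    exact ⟨y, hy, rfl⟩

theorem pow_mem_iff {B : Set β} {v : Perm β} (h : ∀ x, v x ∈ B ↔ x ∈ B) (i : ℕ) (x : β) : (v ^ i) x ∈ B ↔ x ∈ B := by
  induction i with
  | zero => rfl
  | succ i ih => rw [pow_succ', mul_apply, h, ih]

theorem prim_of {G : Subgroup (Perm β)} {d : Perm β} (hd : d ∈ G) (hfull : Full d) (o : β)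
    (H : ∀ B : Set β, o ∈ B → MulAction.IsBlock G B → (∃ q ∈ B, q ≠ o) → B = Set.univ) :
    MulAction.IsPreprimitive G β := by
  have htr : MulAction.IsPretransitive G β := by
    refine ⟨fun x y => ?_⟩
    obtain ⟨i, hi⟩ := hfull.exists_pow x y
    exact ⟨⟨d ^ i, G.pow_mem hd i⟩, hi⟩
  refine MulAction.IsPreprimitive.of_isTrivialBlock_base o ?_
  intro B hoB hB
  by_cases h : ∃ q ∈ B, q ≠ o
  · exact Or.inr (H B hoB hB h)
  · left
    push Not at h
    intro x hx y hy
    rw [h x hx, h y hy]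

/-- if `v` has order a power of `p`, and `v ^ i` fixes a point with `i` prime to `p`, then so does `v` -/
theorem fix_of_pow {p k : ℕ} (hp : p.Prime) {v : Perm β} (hv : orderOf v = p ^ k) {i : ℕ} (hi : ¬ p ∣ i) {x : β}
    (h : (v ^ i) x = x) : v x = x := by
  have hc : i.Coprime (orderOf v) := by
    rw [hv]
    exact (Nat.Coprime.pow_right k ((Nat.Prime.coprime_iff_not_dvd hp).2 hi).symm)
  obtain ⟨m, hm⟩ := exists_pow_eq_self_of_coprime hc
  have h1 : ∀ m : ℕ, ((v ^ i) ^ m) x = x := by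
    intro m
    induction m with
    | zero => rfl
    | succ m ih => rw [pow_succ', mul_apply, ih, h]
  have h2 := h1 m
  rwa [hm] at h2

theorem sameCycle_fix {v : Perm β} {z x : β} (hz : v z = z) (h : v.SameCycle z x) : x = z := by
  obtain ⟨i, hi⟩ := h.exists_nat_pow_eq
  have h1 : ∀ m : ℕ, (v ^ m) z = z := by
    intro m
    induction m with
    | zero => rfl
    | succ m ih => rw [pow_succ', mul_apply, ih, hz]
  rw [← hi, h1]

theorem caseA1 {p k : ℕ} (hp : p.Prime) (hp3 : 3 ≤ p) {v : Perm β} (hv : orderOf v = p ^ k) {z0 w1 : β}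
    (hz0 : v z0 = z0) (hw1 : v w1 ≠ w1) :
    ∃ d : Perm β, Full d ∧ (∃ a b : β, a ≠ b ∧ (v⁻¹ * d) a = b ∧ (v⁻¹ * d) b = a) ∧
      ∀ G : Subgroup (Perm β), v ∈ G → d ∈ G → MulAction.IsPreprimitive G β := by
  have h2 : ¬ p ∣ 2 := fun h => by have := Nat.le_of_dvd two_pos h; omega
  obtain ⟨E, hE, hEu⟩ := exists_reps v
  obtain ⟨e1, he1E, he1w⟩ := hE w1
  have he1 : v e1 ≠ e1 := by
    intro h
    have := sameCycle_fix h he1w
    rw [this] at hw1
    exact hw1 h
  have hz0E : z0 ∈ E := by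
    obtain ⟨e, he, h⟩ := hE z0
    have := sameCycle_fix hz0 h.symm
    rwa [← this]
  have hez : e1 ≠ z0 := by rintro rfl; exact he1 hz0
  set x0 := v⁻¹ e1 with hx0
  have hvx0 : v x0 = e1 := by rw [hx0]; simp
  have hx0e : x0 ≠ e1 := by intro h; rw [h] at hvx0; exact he1 hvx0
  have hsame : v.SameCycle e1 x0 := SameCycle.symm ⟨1, by simpa using hvx0⟩
  have hx0E : x0 ∉ E := fun h => hx0e (hEu _ he1E _ h hsame).symm
  have hx0z : x0 ≠ z0 := fun h => hx0E (h ▸ hz0E)
  have hvx0x : v x0 ≠ x0 := by rw [hvx0]; exact hx0e.symm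
  have hrep : ∀ e ∈ E, ∀ i : ℕ, (v ^ i) e ∈ E → (v ^ i) e = e := by
    intro e he i h
    exact (hEu e he _ h ⟨i, by simp⟩).symm
  obtain ⟨τ, hτ1, hτ2, hτ3⟩ := exists_cyc (E.erase z0)
  set σ := v * swap x0 z0 with hσ
  have hσx0 : σ x0 = z0 := by rw [hσ, mul_apply, swap_apply_left, hz0]
  have hσz0 : σ z0 = e1 := by rw [hσ, mul_apply, swap_apply_right, hvx0]
  have hσx : ∀ x, x ≠ x0 → x ≠ z0 → σ x = v x := by
    intro x h1 h2
    rw [hσ, mul_apply, swap_apply_of_ne_of_ne h1 h2]
  have hz0pow : ∀ (i : ℕ) (x : β), (v ^ i) x = z0 → x = z0 := by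
    intro i x h
    exact sameCycle_fix hz0 (SameCycle.symm ⟨i, by simpa using h⟩)
  -- e1-cycle of σ
  have hcl : ∀ i : ℕ, σ.SameCycle e1 ((v ^ i) e1) := by
    intro i
    induction i with
    | zero => exact ⟨0, by simp⟩
    | succ i ih =>
      rw [pow_succ', mul_apply]
      by_cases h : (v ^ i) e1 = x0
      · rw [h, hvx0]
      · have h3 : (v ^ i) e1 ≠ z0 := fun h3 => hez (hz0pow i e1 h3)
        exact ih.trans ⟨1, by simpa using hσx _ h h3⟩
  have hcl2 : ∀ e ∈ E, e ≠ e1 → e ≠ z0 → ∀ i : ℕ, (σ ^ i) e = (v ^ i) e := by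
    intro e he h1 h3 i
    induction i with
    | zero => rfl
    | succ i ih =>
      rw [pow_succ', mul_apply, ih, pow_succ', mul_apply]
      apply hσx
      · intro h4
        have h5 : v.SameCycle e e1 := SameCycle.trans ⟨i, by simpa using h4⟩ hsame.symm
        exact h1 (hEu e he e1 he1E h5)
      · intro h4
        exact h3 (hz0pow i e h4)
  have hfull : Full (σ * τ) := by
    refine full_mul (E := (↑(E.erase z0) : Set β)) ?_ ?_ ?_ ?_ ?_
    · intro x
      obtain ⟨e, he, hex⟩ := hE x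
      by_cases h1 : e = z0
      · subst h1
        have h3 := sameCycle_fix hz0 hex
        refine ⟨e1, by simp [hez, he1E], ?_⟩
        have h4 : σ.SameCycle e1 x0 := by
          obtain ⟨i, hi⟩ := hsame.exists_nat_pow_eq
          rw [← hi]; exact hcl i
        rw [h3]
        exact h4.trans ⟨1, by simpa using hσx0⟩
      · refine ⟨e, by simp [h1, he], ?_⟩
        obtain ⟨i, hi⟩ := hex.exists_nat_pow_eq
        by_cases h3 : e = e1
        · subst h3
          rw [← hi]; exact hcl i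
        · refine ⟨i, ?_⟩
          rw [zpow_natCast, hcl2 e he h3 h1, hi]
    · intro e he i hi
      rw [Finset.mem_coe, Finset.mem_erase] at he hi
      by_cases h3 : e = e1
      · subst h3
        have h4 : ∀ j : ℕ, v.SameCycle e ((σ ^ j) e) ∨ (σ ^ j) e = z0 := by
          intro j
          induction j with
          | zero => exact Or.inl ⟨0, by simp⟩
          | succ j ih =>
            rw [pow_succ', mul_apply]
            rcases ih with ih | ih
            · by_cases h5 : (σ ^ j) e = x0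
              · right; rw [h5, hσx0]
              · by_cases h6 : (σ ^ j) e = z0
                · left; rw [h6, hσz0]
                · left
                  rw [hσx _ h5 h6]
                  exact ih.trans ⟨1, by simp⟩
            · left; rw [ih, hσz0]
        rcases h4 i with h5 | h5
        · exact (hEu e he1E _ hi.2 h5).symm
        · exact absurd h5 hi.1
      · rw [hcl2 e he.2 h3 he.1] at hi ⊢
        exact hrep e he.2 i hi.2
    · intro x hx
      exact hτ1 x (fun h => hx (Finset.mem_coe.2 h))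
    · intro e he
      exact hτ2 e he
    · intro e he f hf
      exact hτ3 e he f hf
  set y := v⁻¹ * (σ * τ) with hy
  have hyeq : y = swap x0 z0 * τ := by rw [hy, hσ]; group
  have hx0E1 : x0 ∉ E.erase z0 := fun h => hx0E (Finset.mem_of_mem_erase h)
  have hz0E1 : z0 ∉ E.erase z0 := Finset.notMem_erase _ _
  have hyx0 : y x0 = z0 := by rw [hyeq, mul_apply, hτ1 x0 hx0E1, swap_apply_left]
  have hyz0 : y z0 = x0 := by rw [hyeq, mul_apply, hτ1 z0 hz0E1, swap_apply_right]
  have hye : ∀ e ∈ E.erase z0, y e = τ e := by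
    intro e he
    have h3 := hτ2 e he
    rw [hyeq, mul_apply, swap_apply_of_ne_of_ne]
    · rintro h; exact hx0E1 (h ▸ h3)
    · rintro h; exact hz0E1 (h ▸ h3)
  have hyo : ∀ x, x ∉ E.erase z0 → x ≠ x0 → x ≠ z0 → y x = x := by
    intro x h1 h3 h4
    rw [hyeq, mul_apply, hτ1 x h1, swap_apply_of_ne_of_ne h3 h4]
  refine ⟨σ * τ, hfull, ⟨x0, z0, hx0z, hyx0, hyz0⟩, ?_⟩
  intro G hvG hdG
  have hyG : y ∈ G := G.mul_mem (G.inv_mem hvG) hdG
  refine prim_of hdG hfull z0 ?_
  intro B hzB hB ⟨q, hqB, hqz⟩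
  have hvB := blk hB hvG hzB (by rwa [hz0])
  by_cases hcase : ∃ t ∈ B, y t ∈ B
  · obtain ⟨t, ht, hyt⟩ := hcase
    have hyB := blk hB hyG ht hyt
    have h1 : x0 ∈ B := by rw [← hyz0, hyB]; exact hzB
    have h3 : e1 ∈ B := by rw [← hvx0, hvB]; exact h1
    have he1' : e1 ∈ E.erase z0 := Finset.mem_erase.2 ⟨hez, he1E⟩
    have h4 : ∀ i : ℕ, (τ ^ i) e1 ∈ E.erase z0 ∧ (τ ^ i) e1 ∈ B := by
      intro i
      induction i with
      | zero => exact ⟨he1', h3⟩
      | succ i ih =>
        rw [pow_succ', mul_apply]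
        refine ⟨hτ2 _ ih.1, ?_⟩
        rw [← hye _ ih.1, hyB]
        exact ih.2
    have h5 : ∀ e ∈ E, e ∈ B := by
      intro e he
      by_cases h6 : e = z0
      · rw [h6]; exact hzB
      · obtain ⟨i, hi⟩ := hτ3 e1 he1' e (Finset.mem_erase.2 ⟨h6, he⟩)
        rw [← hi]; exact (h4 i).2
    rw [Set.eq_univ_iff_forall]
    intro x
    obtain ⟨e, he, hex⟩ := hE x
    obtain ⟨i, hi⟩ := hex.exists_nat_pow_eq
    rw [← hi, pow_mem_iff hvB]
    exact h5 e he
  · exfalso
    push Not at hcase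
    have step1 : ∀ t ∈ B, t ≠ z0 → v t = t ∧ t ∈ E.erase z0 := by
      intro t ht htz
      have hloc : ∀ s ∈ B, s ≠ z0 → s ∈ E.erase z0 ∨ s = x0 := by
        intro s hs hsz
        by_contra hcon
        push Not at hcon
        apply hcase s hs
        rwa [hyo s hcon.1 hcon.2 hsz]
      have hvt : v t = t := by
        by_contra hvt
        have h1 : v t ∈ B := (hvB t).2 ht
        have h3 : v (v t) ∈ B := (hvB _).2 h1
        have h4 : v t ≠ z0 := fun h => htz (hz0pow 1 t (by simpa using h))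
        have h5 : v (v t) ≠ z0 := fun h => htz (hz0pow 2 t (by simpa [pow_two] using h))
        have h6 : v (v t) ≠ v t := fun h => hvt (v.injective h)
        have h7 : v (v t) ≠ t := fun h => hvt (fix_of_pow hp hv (i := 2) h2 (by simpa [pow_two] using h))
        rcases hloc t ht htz with h8 | h8
        · have h8' := (Finset.mem_erase.1 h8).2
          rcases hloc _ h1 h4 with h9 | h9
          · exact hvt (hrep t h8' 1 (by simpa using (Finset.mem_erase.1 h9).2))
          · rcases hloc _ h3 h5 with h10 | h10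
            · have h11 := hrep t h8' 2 (by simpa [pow_two] using (Finset.mem_erase.1 h10).2)
              exact h7 (by simpa [pow_two] using h11)
            · exact h6 (h10.trans h9.symm)
        · rcases hloc _ h1 h4 with h9 | h9
          · rcases hloc _ h3 h5 with h10 | h10
            · exact h6 (hrep (v t) (Finset.mem_erase.1 h9).2 1 (by simpa using (Finset.mem_erase.1 h10).2))
            · exact h7 (h10.trans h8.symm)
          · exact hvt (h9.trans h8.symm)
      refine ⟨hvt, ?_⟩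
      rcases hloc t ht htz with h8 | h8
      · exact h8
      · rw [h8] at hvt
        exact absurd hvt hvx0x
    obtain ⟨-, hqE⟩ := step1 q hqB hqz
    have hy2G : y ^ 2 ∈ G := G.pow_mem hyG 2
    have hy2B := blk hB hy2G hzB (by rw [pow_two, mul_apply, hyz0, hyx0]; exact hzB)
    have step3 : ∀ j : ℕ, (τ ^ (2 * j)) q ∈ E.erase z0 ∧ (τ ^ (2 * j)) q ∈ B := by
      intro j
      induction j with
      | zero => exact ⟨hqE, hqB⟩
      | succ j ih =>
        have h1 : (τ ^ (2 * (j + 1))) q = τ (τ ((τ ^ (2 * j)) q)) := by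
          rw [show 2 * (j + 1) = (2 * j + 1) + 1 by ring, pow_succ', pow_succ', mul_apply, mul_apply]
        rw [h1]
        refine ⟨hτ2 _ (hτ2 _ ih.1), ?_⟩
        rw [← hye _ (hτ2 _ ih.1), ← hye _ ih.1]
        have h3 := (hy2B ((τ ^ (2 * j)) q)).2 ih.2
        rwa [pow_two, mul_apply] at h3
    have he1' : e1 ∈ E.erase z0 := Finset.mem_erase.2 ⟨hez, he1E⟩
    obtain ⟨i, hi⟩ := hτ3 q hqE e1 he1'
    have he1B : e1 ∉ B := fun h => he1 (step1 e1 h hez).1
    rcases Nat.even_or_odd' i with ⟨j, rfl | rfl⟩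
    · exact he1B (hi ▸ (step3 j).2)
    · set r := (τ ^ (2 * j)) q with hr
      have hyr : y r = e1 := by
        rw [hye _ (step3 j).1, ← hi, pow_succ', mul_apply]
      have hgG : y⁻¹ * v * y ∈ G := G.mul_mem (G.mul_mem (G.inv_mem hyG) hvG) hyG
      have h1 : (y⁻¹ * v * y) z0 = r := by
        rw [mul_apply, mul_apply, hyz0, hvx0, ← hyr]; simp
      have hgB := blk hB hgG hzB (by rw [h1]; exact (step3 j).2)
      have h3 := (hgB r).2 (step3 j).2
      have h4 : (y⁻¹ * v * y) r = v e1 := by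
        rw [mul_apply, mul_apply, hyr]
        have h5 : y (v e1) = v e1 := by
          apply hyo
          · intro h6
            exact he1 (hrep e1 he1E 1 (by simpa using (Finset.mem_erase.1 h6).2))
          · intro h6
            apply he1
            apply fix_of_pow hp hv (i := 2) h2
            rw [pow_two, mul_apply, h6, hvx0]
          · intro h6
            exact hez (hz0pow 1 e1 (by simpa using h6))
        rw [Perm.inv_eq_iff_eq]
        exact h5.symm
      rw [h4] at h3
      have h5 : v e1 ≠ z0 := fun h6 => hez (hz0pow 1 e1 (by simpa using h6))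
      exact he1 (v.injective (step1 _ h3 h5).1)

/-- if a block contains `x` and `d ^ i x`, `d` a full cycle of `p`-power order and `i` prime to `p`, it is everything -/
theorem blk_univ {p k : ℕ} (hp : p.Prime) {G : Subgroup (Perm β)} {B : Set β} (hB : MulAction.IsBlock G B) {d : Perm β}
    (hdG : d ∈ G) (hd : orderOf d = p ^ k) (hfull : Full d) {x : β} {i : ℕ} (hi : ¬ p ∣ i) (hx : x ∈ B)
    (hx2 : (d ^ i) x ∈ B) : B = Set.univ := by
  have h1 := blk hB (G.pow_mem hdG i) hx hx2
  have hc : i.Coprime (orderOf d) := by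
    rw [hd]
    exact (Nat.Coprime.pow_right k ((Nat.Prime.coprime_iff_not_dvd hp).2 hi).symm)
  obtain ⟨m, hm⟩ := exists_pow_eq_self_of_coprime hc
  have h2 : ∀ y, d y ∈ B ↔ y ∈ B := by
    intro y
    have h3 := pow_mem_iff h1 m y
    rwa [hm] at h3
  rw [Set.eq_univ_iff_forall]
  intro y
  obtain ⟨j, hj⟩ := hfull.exists_pow x y
  rw [← hj, pow_mem_iff h2]
  exact hx

/-- a block with at most two points in a set of odd prime power size is trivial -/
theorem blk_small {p b : ℕ} (hp3 : Odd p) (hcard : Fintype.card β = p ^ b) {G : Subgroup (Perm β)}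
    (htr : MulAction.IsPretransitive G β) {B : Set β}
    (hB : MulAction.IsBlock G B) {x y : β} (hx : x ∈ B) (h : B ⊆ {x, y}) : ∀ z ∈ B, z = x := by
  have h1 := hB.ncard_dvd_card ⟨x, hx⟩
  rw [Nat.card_eq_fintype_card, hcard] at h1
  have h2 : Odd B.ncard := Odd.of_dvd_nat hp3.pow h1
  have h3 : B.ncard ≤ 2 := by
    refine (Set.ncard_le_ncard h (Set.toFinite _)).trans ?_
    exact (Set.ncard_insert_le _ _).trans (by rw [Set.ncard_singleton])
  have h4 : B.ncard = 1 := by
    rcases h2 with ⟨m, hm⟩; omega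
  obtain ⟨w, hw⟩ := Set.ncard_eq_one.1 h4
  intro z hz
  rw [hw] at hz hx
  rw [Set.mem_singleton_iff] at hz hx
  rw [hz, hx]

theorem orderOf_full {d : Perm β} (hfull : Full d) (o : β) : orderOf d = Fintype.card β ∧
    ∀ i j : ℕ, (d ^ i) o = (d ^ j) o ↔ i ≡ j [MOD Fintype.card β] := by
  have h1 : ∀ k : ℕ, (d ^ k) o = o → d ^ k = 1 := by
    intro k hk
    ext x
    obtain ⟨i, rfl⟩ := hfull.exists_pow o x
    rw [← mul_apply, ← pow_add, add_comm, pow_add, mul_apply, hk, one_apply]
  have hinj : ∀ a b : ℕ, (d ^ a) o = (d ^ b) o → d ^ a = d ^ b := by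
    have hle : ∀ a b : ℕ, a ≤ b → (d ^ a) o = (d ^ b) o → d ^ a = d ^ b := by
      intro a b hab he
      have h3 : (d ^ (b - a)) o = o := by
        have h4 : (d ^ a) ((d ^ (b - a)) o) = (d ^ a) o := by
          rw [← mul_apply, ← pow_add, Nat.add_sub_cancel' hab, he]
        exact (d ^ a).injective h4
      have h5 := h1 _ h3
      have h6 : d ^ b = d ^ a * d ^ (b - a) := by rw [← pow_add, Nat.add_sub_cancel' hab]
      rw [h6, h5, mul_one]
    intro a b h
    rcases le_total a b with hab | hab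
    · exact hle a b hab h
    · exact (hle b a hab h.symm).symm
  have h2 : Function.Bijective (fun i : Fin (orderOf d) => (d ^ (i : ℕ)) o) := by
    constructor
    · intro i j hij
      apply Fin.ext
      have h3 := hinj _ _ hij
      rw [pow_inj_mod] at h3
      rwa [Nat.mod_eq_of_lt i.2, Nat.mod_eq_of_lt j.2] at h3
    · intro x
      obtain ⟨i, hi⟩ := hfull.exists_pow o x
      refine ⟨⟨i % orderOf d, Nat.mod_lt _ (orderOf_pos d)⟩, ?_⟩
      show (d ^ (i % orderOf d)) o = x
      rw [pow_mod_orderOf, hi]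
  have h3 := Fintype.card_of_bijective h2
  rw [Fintype.card_fin] at h3
  refine ⟨h3, ?_⟩
  intro i j
  rw [← h3]
  constructor
  · intro h
    exact pow_eq_pow_iff_modEq.1 (hinj i j h)
  · intro h
    rw [pow_eq_pow_iff_modEq.2 h]

theorem caseA2 {p b k : ℕ} (hp : p.Prime) (hp3 : 3 ≤ p) (hcard : Fintype.card β = p ^ b) {v : Perm β}
    (hv : orderOf v = p ^ k) (hnf : ∀ x, v x ≠ x) (hnot : ¬ Full v) :
    ∃ d : Perm β, Full d ∧ (∃ a b : β, a ≠ b ∧ (v⁻¹ * d) a = b ∧ (v⁻¹ * d) b = a) ∧
      ∀ G : Subgroup (Perm β), v ∈ G → d ∈ G → MulAction.IsPreprimitive G β := by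
  have hodd : Odd p := hp.odd_of_ne_two (by omega)
  have h2 : ¬ p ∣ 2 := fun h => by have := Nat.le_of_dvd two_pos h; omega
  have hpF : Fact p.Prime := ⟨hp⟩
  obtain ⟨E, hE, hEu⟩ := exists_reps v
  have hpw : ∀ (e : β) (i : ℕ), v.SameCycle e ((v ^ i) e) := fun e i => ⟨i, by simp⟩
  have hrep : ∀ e ∈ E, ∀ i : ℕ, (v ^ i) e ∈ E → (v ^ i) e = e := by
    intro e he i h
    exact (hEu e he _ h (hpw e i)).symm
  have hfix : ∀ (x : β) (i : ℕ), (v ^ i) x = x → p ∣ i := by
    intro x i h
    by_contra hi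
    exact hnf x (fix_of_pow hp hv hi h)
  -- two cycles
  have h12 : ∃ e1 ∈ E, ∃ e2 ∈ E, e1 ≠ e2 := by
    by_contra hcon
    push Not at hcon
    apply hnot
    intro x y
    obtain ⟨e, he, h1⟩ := hE x
    obtain ⟨f, hf, h3⟩ := hE y
    rw [← hcon e he f hf] at h3
    exact h1.symm.trans h3
  obtain ⟨a, haE, e2, he2E, hae⟩ := h12
  obtain ⟨τ, hτ1, hτ2, hτ3⟩ := exists_cyc E
  set d0 := v * τ with hd0
  have hfull0 : Full d0 := by
    refine full_mul (E := (↑E : Set β)) ?_ ?_ ?_ ?_ ?_
    · intro x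
      obtain ⟨e, he, hex⟩ := hE x
      exact ⟨e, he, hex⟩
    · intro e he i hi
      exact hrep e he i hi
    · intro x hx
      exact hτ1 x (fun h => hx (Finset.mem_coe.2 h))
    · intro e he
      exact hτ2 e he
    · intro e he f hf
      exact hτ3 e he f hf
  -- colouring
  choose r hrE hrs using hE
  have hri : ∀ x, ∃ i : ℕ, (v ^ i) (r x) = x := fun x => (hrs x).exists_nat_pow_eq
  choose ι hι using hri
  have hcongr : ∀ (e : β) (i j : ℕ), (v ^ i) e = (v ^ j) e → (i : ZMod p) = j := by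
    have hle : ∀ (e : β) (i j : ℕ), i ≤ j → (v ^ i) e = (v ^ j) e → (i : ZMod p) = j := by
      intro e i j hij h
      have h3 : (v ^ (j - i)) e = e := by
        have h4 : (v ^ i) ((v ^ (j - i)) e) = (v ^ i) e := by
          rw [← mul_apply, ← pow_add, Nat.add_sub_cancel' hij, h]
        exact (v ^ i).injective h4
      have h5 := hfix e _ h3
      have h6 : ((j - i : ℕ) : ZMod p) = 0 := (ZMod.natCast_eq_zero_iff _ _).2 h5
      rw [Nat.cast_sub hij, sub_eq_zero] at h6
      exact h6.symm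
    intro e i j h
    rcases le_total i j with hij | hij
    · exact hle e i j hij h
    · exact (hle e j i hij h.symm).symm
  set χ : β → ZMod p := fun x => (ι x : ZMod p) with hχ
  have hχe : ∀ e ∈ E, ∀ i : ℕ, χ ((v ^ i) e) = i := by
    intro e he i
    have h3 : r ((v ^ i) e) = e := by
      apply hEu _ (hrE _) e he
      exact (hrs _).trans (hpw e i).symm
    have h4 := hι ((v ^ i) e)
    rw [h3] at h4
    exact hcongr e _ _ h4
  have hχ0 : ∀ e ∈ E, χ e = 0 := by
    intro e he
    simpa using hχe e he 0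
  have hχv : ∀ x, χ (v x) = χ x + 1 := by
    intro x
    have h3 : v x = (v ^ (ι x + 1)) (r x) := by rw [pow_succ', mul_apply, hι]
    rw [h3, hχe _ (hrE x)]
    push_cast
    rfl
  have hχτ : ∀ x, χ (τ x) = χ x := by
    intro x
    by_cases hx : x ∈ E
    · rw [hχ0 _ (hτ2 x hx), hχ0 x hx]
    · rw [hτ1 x hx]
  have hχd : ∀ x, χ (d0 x) = χ x + 1 := by
    intro x
    rw [hd0, mul_apply, hχv, hχτ]
  -- the modified cycle
  set c := v (v e2) with hc
  have hve2 : v e2 ≠ e2 := hnf e2
  have hac : ∀ i : ℕ, (v ^ i) e2 ≠ a := fun i h => hae (hEu a haE e2 he2E (SameCycle.symm ⟨i, by simpa using h⟩))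
  have hca : a ≠ c := fun h => hac 2 (by simpa [pow_two] using h.symm)
  have hcE : c ∉ E := by
    intro h
    have h3 := hrep e2 he2E 2 (by simpa [pow_two] using h)
    exact h2 (hfix e2 2 h3)
  have hvE : ∀ e ∈ E, v e ∉ E := by
    intro e he h
    exact hnf e (hrep e he 1 (by simpa using h))
  set h := swap a c with hh
  have hinv : h⁻¹ = h := swap_inv a c
  have hhx : ∀ x, x ≠ a → x ≠ c → h x = x := fun x h1 h3 => swap_apply_of_ne_of_ne h1 h3
  have hha : h a = c := swap_apply_left a c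
  have hhc : h c = a := swap_apply_right a c
  have hhh : ∀ x, h (h x) = x := by
    intro x
    have : (h * h⁻¹) x = x := by rw [mul_inv_cancel]; rfl
    rwa [hinv] at this
  set d := h * d0 * h⁻¹ with hd
  have hfull : Full d := hfull0.conj h
  have hdx : ∀ x, d x = h (d0 (h x)) := by
    intro x
    rw [hd, hinv]
    rfl
  set χ' : β → ZMod p := fun x => χ (h x) with hχ'
  have hχ'd : ∀ x, χ' (d x) = χ' x + 1 := by
    intro x
    show χ (h (d x)) = χ (h x) + 1
    rw [hdx, hhh, hχd]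
  have hχ'i : ∀ (i : ℕ) (x : β), χ' ((d ^ i) x) = χ' x + i := by
    intro i x
    induction i with
    | zero => simp
    | succ i ih =>
      rw [pow_succ', mul_apply, hχ'd, ih]
      push_cast
      ring
  set x0 := v⁻¹ a with hx0
  have hvx0 : v x0 = a := by rw [hx0]; simp
  set x1 := v e2 with hx1
  have hx0a : x0 ≠ a := fun h3 => hnf x0 (by rw [hvx0, h3])
  have hx0c : x0 ≠ c := by
    intro h3
    apply hac 3
    show v (v (v e2)) = a
    rw [← hx1, ← hc, ← h3, hvx0]
  have hx1a : x1 ≠ a := fun h3 => hac 1 (by simpa using h3)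
  have hx1c : x1 ≠ c := fun h3 => hnf x1 (by rw [← hc]; exact h3.symm)
  have hx0E : x0 ∉ E := by
    intro h3
    have := hvE x0 h3
    rw [hvx0] at this
    exact this haE
  have hx1E : x1 ∉ E := hvE e2 he2E
  have hx01 : x0 ≠ x1 := by
    intro h3
    rw [h3] at hvx0
    exact hca hvx0.symm
  set y := v⁻¹ * d with hy
  have hyx : ∀ x, y x = v⁻¹ (h (v (τ (h x)))) := by
    intro x
    rw [hy, mul_apply, hdx, hd0, mul_apply]
  have hyx0 : y x0 = x1 := by
    rw [hyx, hhx x0 hx0a hx0c, hτ1 x0 hx0E, hvx0, hha, Perm.inv_eq_iff_eq]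
  have hyx1 : y x1 = x0 := by
    rw [hyx, hhx x1 hx1a hx1c, hτ1 x1 hx1E, ← hc, hhc]
  have hyo : ∀ z, z ≠ x0 → z ≠ x1 → z ≠ a → z ≠ c → z ∉ E → y z = z := by
    intro z h3 h4 h5 h6 h7
    rw [hyx, hhx z h5 h6, hτ1 z h7, hhx (v z), Perm.inv_eq_iff_eq]
    · intro h8
      apply h3
      rw [← hvx0] at h8
      exact v.injective h8
    · intro h8
      exact h4 (v.injective h8)
  refine ⟨d, hfull, ⟨x0, x1, hx01, hyx0, hyx1⟩, ?_⟩
  intro G hvG hdG
  have hyG : y ∈ G := G.mul_mem (G.inv_mem hvG) hdG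
  have htr : MulAction.IsPretransitive G β := by
    refine ⟨fun x y => ?_⟩
    obtain ⟨i, hi⟩ := hfull.exists_pow x y
    exact ⟨⟨d ^ i, G.pow_mem hdG i⟩, hi⟩
  refine prim_of hdG hfull x0 ?_
  intro B hxB hB ⟨q, hqB, hqx⟩
  by_contra hBu
  have hord := (orderOf_full hfull x0).1
  rw [hcard] at hord
  have hcol : ∀ z ∈ B, χ' z = χ' x0 := by
    intro z hz
    obtain ⟨i, hi⟩ := hfull.exists_pow x0 z
    have h3 : p ∣ i := by
      by_contra hpi
      exact hBu (blk_univ hp hB hdG hord hfull hpi hxB (by rw [hi]; exact hz))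
    rw [← hi, hχ'i, (ZMod.natCast_eq_zero_iff _ _).2 h3, add_zero]
  have hχx0 : χ' x0 = -1 := by
    show χ (h x0) = -1
    rw [hhx x0 hx0a hx0c]
    have h3 := hχv x0
    rw [hvx0, hχ0 a haE] at h3
    exact (neg_eq_of_add_eq_zero_left h3.symm).symm
  have hne0 : (0 : ZMod p) ≠ -1 := by
    intro h3
    have h4 : (1 : ZMod p) = 0 := by rw [← neg_neg (1 : ZMod p), ← h3, neg_zero]
    exact one_ne_zero h4
  have hne1 : (1 : ZMod p) ≠ -1 := by
    intro h3
    have h4 : ((2 : ℕ) : ZMod p) = 0 := by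
      push_cast
      calc (2 : ZMod p) = 1 + 1 := by norm_num
        _ = 1 + -(-1) := by rw [neg_neg]
        _ = 0 := by rw [← h3]; ring
    exact h2 ((ZMod.natCast_eq_zero_iff _ _).1 h4)
  have hx1B : x1 ∉ B := by
    intro h3
    have h4 := hcol x1 h3
    rw [hχx0] at h4
    have h5 : χ' x1 = 1 := by
      show χ (h x1) = 1
      rw [hhx x1 hx1a hx1c, hx1, hχv, hχ0 e2 he2E, zero_add]
    rw [h5] at h4
    exact hne1 h4
  have hyB : ∀ z ∈ B, y z ∉ B := by
    intro z hz hyz
    have h3 := blk hB hyG hz hyz x0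
    rw [hyx0] at h3
    exact hx1B (h3.2 hxB)
  have hsub : B ⊆ {x0, a} := by
    intro z hz
    by_contra hcon
    rw [Set.mem_insert_iff, Set.mem_singleton_iff] at hcon
    push Not at hcon
    have h3 := hcol z hz
    rw [hχx0] at h3
    by_cases h4 : z = x1
    · exact hx1B (h4 ▸ hz)
    by_cases h5 : z = c
    · have h6 : χ' z = 0 := by
        show χ (h z) = 0
        rw [h5, hhc, hχ0 a haE]
      rw [h6] at h3
      exact hne0 h3
    by_cases h6 : z ∈ E
    · have h7 : χ' z = 0 := by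
        show χ (h z) = 0
        rw [hhx z hcon.2 h5, hχ0 z h6]
      rw [h7] at h3
      exact hne0 h3
    · apply hyB z hz
      rw [hyo z hcon.1 h4 hcon.2 h5 h6]
      exact hz
  exact hqx (blk_small hodd hcard htr hB hxB hsub q hqB)

end Cfsg.Agent.Lib.H53Free
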