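import Mathlib
import Cfsg.Agent.Lib.H53FreeC

/-!
Odd permutations commuting with a permutation of odd prime power order.
-/

set_option autoImplicit false
set_option linter.unusedSectionVars false

open Equiv Equiv.Perm

namespace Cfsg.Agent.Lib.H53Free

variable {β : Type*} [Fintype β] [DecidableEq β]

theorem odd_centralizer {p b k : ℕ} (hp : p.Prime) (hcard : Fintype.card β = p ^ b) {v : Perm β}
    (hv : orderOf v = p ^ k) (hnot : ¬ Full v) : ∃ τ : Perm β, sign τ = -1 ∧ τ * v = v * τ := by
  by_contra hcon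
  push Not at hcon
  have hle : Subgroup.centralizer {v} ≤ alternatingGroup β := by
    intro τ hτ
    rw [mem_alternatingGroup]
    rcases Int.units_eq_one_or (sign τ) with h | h
    · exact h
    · exfalso
      apply hcon τ h
      exact (Subgroup.mem_centralizer_singleton_iff.1 hτ)
  have h1 := card_le_of_centralizer_le_alternating hle
  have h2 := count_le_one_of_centralizer_le_alternating hle
  have hmem : ∀ c ∈ v.cycleType, ∃ a : ℕ, 1 ≤ a ∧ c = p ^ a := by
    intro c hc
    have h3 := dvd_of_mem_cycleType hc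
    rw [hv] at h3
    obtain ⟨a, -, rfl⟩ := (Nat.dvd_prime_pow hp).1 h3
    refine ⟨a, ?_, rfl⟩
    have h4 := two_le_of_mem_cycleType hc
    rcases a with _ | a
    · simp at h4
    · omega
  have hb : b ≠ 0 := by
    rintro rfl
    rw [pow_zero] at hcard
    apply hnot
    intro x y
    have h3 : Subsingleton β := Fintype.card_le_one_iff_subsingleton.1 hcard.le
    rw [Subsingleton.elim x y]
  have hsum : v.cycleType.sum = p ^ b := by
    have h3 : v.cycleType.sum ≤ p ^ b := by
      rw [sum_cycleType, ← hcard]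
      exact Finset.card_le_univ _
    have h4 : p ∣ v.cycleType.sum := by
      apply Multiset.dvd_sum
      intro c hc
      obtain ⟨a, ha, rfl⟩ := hmem c hc
      exact dvd_pow_self p (by omega)
    have h5 : p ∣ p ^ b := dvd_pow_self p hb
    rw [hcard] at h1
    by_contra h6
    have h7 : p ^ b = v.cycleType.sum + 1 := by omega
    rw [h7] at h5
    have h8 := (Nat.dvd_add_right h4).1 h5
    exact hp.one_lt.ne' (Nat.dvd_one.1 h8)
  have hne : v.cycleType ≠ 0 := by
    intro h
    rw [h, Multiset.sum_zero] at hsum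
    exact (pow_pos hp.pos b).ne hsum
  -- minimal element
  obtain ⟨r, hr, hrmin⟩ : ∃ r ∈ v.cycleType, ∀ c ∈ v.cycleType, r ≤ c := by
    obtain ⟨x, hx⟩ := Multiset.exists_mem_of_ne_zero hne
    have h3 : v.cycleType.toFinset.Nonempty := ⟨x, Multiset.mem_toFinset.2 hx⟩
    refine ⟨v.cycleType.toFinset.min' h3, Multiset.mem_toFinset.1 (Finset.min'_mem _ h3), ?_⟩
    intro c hc
    exact Finset.min'_le _ _ (Multiset.mem_toFinset.2 hc)
  obtain ⟨a, ha, rfl⟩ := hmem r hr
  obtain ⟨rest, hrest⟩ := Multiset.exists_cons_of_mem hr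
  have hrestdvd : ∀ c ∈ rest, p ^ (a + 1) ∣ c := by
    intro c hc
    have hc' : c ∈ v.cycleType := by rw [hrest]; exact Multiset.mem_cons_of_mem hc
    obtain ⟨a', ha', rfl⟩ := hmem c hc'
    have h3 := hrmin _ hc'
    have h4 : a ≤ a' := (Nat.pow_le_pow_iff_right hp.one_lt).1 h3
    rcases eq_or_lt_of_le h4 with rfl | h5
    · exfalso
      have h6 := h2 (p ^ a)
      rw [hrest, Multiset.count_cons_self] at h6
      have h7 := Multiset.one_le_count_iff_mem.2 hc
      omega
    · exact pow_dvd_pow p h5
  have hrs : p ^ (a + 1) ∣ rest.sum := Multiset.dvd_sum hrestdvd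
  rw [hrest, Multiset.sum_cons] at hsum
  by_cases hr0 : rest = 0
  · rw [hr0] at hrest hsum
    apply hnot
    have h3 : v.IsCycle := by
      rw [← card_cycleType_eq_one, hrest]
      rfl
    have h4 : v.support.card = Fintype.card β := by
      rw [← sum_cycleType, hrest, hcard, Multiset.sum_cons, hsum]
    have h5 : v.support = Finset.univ := (Finset.card_eq_iff_eq_univ _).1 h4
    intro x y
    apply h3.sameCycle
    · rw [← mem_support, h5]; exact Finset.mem_univ _
    · rw [← mem_support, h5]; exact Finset.mem_univ _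
  · have h3 : 0 < rest.sum := by
      obtain ⟨c, hc⟩ := Multiset.exists_mem_of_ne_zero hr0
      have h4 := Multiset.single_le_sum (fun x _ => Nat.zero_le x) c hc
      have hc' : c ∈ v.cycleType := by rw [hrest]; exact Multiset.mem_cons_of_mem hc
      have h5 := two_le_of_mem_cycleType hc'
      omega
    have h4 := Nat.le_of_dvd h3 hrs
    have h5 : p ^ (a + 1) < p ^ b := by
      have := pow_pos hp.pos a
      omega
    have h6 : a + 1 < b := (Nat.pow_lt_pow_iff_right hp.one_lt).1 h5
    have h7 : p ^ (a + 1) ∣ p ^ b := pow_dvd_pow p h6.le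
    rw [← hsum] at h7
    have h8 := (Nat.dvd_add_left hrs).1 h7
    have h9 := (Nat.pow_dvd_pow_iff_le_right hp.one_lt).1 h8
    omega

end Cfsg.Agent.Lib.H53Free
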