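import Mathlib
import Cfsg.Agent.Lib.H53FreeD

/-!
The core configuration.
-/

set_option autoImplicit false
set_option linter.unusedSectionVars false

open Equiv Equiv.Perm

namespace Cfsg.Agent.Lib.H53Free

variable {β : Type*} [Fintype β] [DecidableEq β]

/-- the product is not of `p`-power order and the group generated is not solvable -/
def GoodPair (p : ℕ) (u w : Perm β) : Prop :=
  (¬ ∃ k : ℕ, orderOf (u * w) = p ^ k) ∧ ¬ Group.IsSolvable (Subgroup.closure ({u, w} : Set (Perm β)))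

theorem GoodPair.conj {p : ℕ} {u w : Perm β} (h : GoodPair p u w) (τ : Perm β) :
    GoodPair p (τ * u * τ⁻¹) (τ * w * τ⁻¹) := by
  refine ⟨?_, ?_⟩
  · rintro ⟨k, hk⟩
    apply h.1
    refine ⟨k, ?_⟩
    have h1 : τ * u * τ⁻¹ * (τ * w * τ⁻¹) = MulAut.conj τ (u * w) := by
      rw [MulAut.conj_apply]; group
    rw [h1, MulEquiv.orderOf_eq] at hk
    exact hk
  · intro hs
    apply h.2
    have h1 : (Subgroup.closure ({u, w} : Set (Perm β))).map (MulAut.conj τ).toMonoidHom =
        Subgroup.closure ({τ * u * τ⁻¹, τ * w * τ⁻¹} : Set (Perm β)) := by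
      rw [MonoidHom.map_closure, Set.image_pair]
      rfl
    rw [← h1] at hs
    let e := (Subgroup.closure ({u, w} : Set (Perm β))).equivMapOfInjective (MulAut.conj τ).toMonoidHom
      (MulAut.conj τ).injective
    exact Group.isSolvable_of_surjective (f := e.symm.toMonoidHom) e.symm.surjective

theorem GoodPair.symm {p : ℕ} {u w : Perm β} (h : GoodPair p u w) : GoodPair p w u := by
  refine ⟨?_, ?_⟩
  · rintro ⟨k, hk⟩
    apply h.1
    refine ⟨k, ?_⟩
    have h1 : w * u = MulAut.conj w (u * w) := by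
      rw [MulAut.conj_apply]; group
    rw [h1, MulEquiv.orderOf_eq] at hk
    exact hk
  · rw [Set.pair_comm]
    exact h.2

theorem full_of_prime {p k : ℕ} (hp : p.Prime) (hcard : Fintype.card β = p) {v : Perm β} (hv : orderOf v = p ^ k)
    (hv1 : v ≠ 1) : Full v := by
  have hmem : ∀ c ∈ v.cycleType, p ∣ c := by
    intro c hc
    have h3 := dvd_of_mem_cycleType hc
    rw [hv] at h3
    obtain ⟨a, -, rfl⟩ := (Nat.dvd_prime_pow hp).1 h3
    have h4 := two_le_of_mem_cycleType hc
    rcases a with _ | a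
    · simp at h4
    · exact dvd_pow_self p (by omega)
  have hne : v.cycleType ≠ 0 := by
    intro h
    exact hv1 (cycleType_eq_zero.1 h)
  have hle : v.cycleType.sum ≤ p := by
    rw [sum_cycleType, ← hcard]
    exact Finset.card_le_univ _
  obtain ⟨r, hr⟩ := Multiset.exists_mem_of_ne_zero hne
  obtain ⟨rest, hrest⟩ := Multiset.exists_cons_of_mem hr
  rw [hrest, Multiset.sum_cons] at hle
  have hrp : p ≤ r := Nat.le_of_dvd (by have := two_le_of_mem_cycleType hr; omega) (hmem r hr)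
  have hrest0 : rest = 0 := by
    by_contra h
    obtain ⟨c, hc⟩ := Multiset.exists_mem_of_ne_zero h
    have h4 := Multiset.single_le_sum (fun x _ => Nat.zero_le x) c hc
    have hc' : c ∈ v.cycleType := by rw [hrest]; exact Multiset.mem_cons_of_mem hc
    have h5 := two_le_of_mem_cycleType hc'
    omega
  rw [hrest0] at hrest hle
  have h3 : v.IsCycle := by
    rw [← card_cycleType_eq_one, hrest]
    rfl
  have h4 : v.support.card = Fintype.card β := by
    rw [← sum_cycleType, hrest, hcard, Multiset.sum_cons]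
    rw [Multiset.sum_zero] at hle ⊢
    omega
  have h5 : v.support = Finset.univ := (Finset.card_eq_iff_eq_univ _).1 h4
  intro x y
  apply h3.sameCycle
  · rw [← mem_support, h5]; exact Finset.mem_univ _
  · rw [← mem_support, h5]; exact Finset.mem_univ _

/-- the case of two full cycles -/
theorem fullcase {p b : ℕ} (hp : p.Prime) (hp3 : 3 ≤ p) (hb : 1 ≤ b) (hcard : Fintype.card β = p ^ b) {c : Perm β}
    (hc : Full c) (o : β) (h : Perm β) {x : Perm β} (hx : x = c * (h * c⁻¹ * h⁻¹)) {j : ℕ} (hj : x o = (c ^ j) o)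
    (hpj : ¬ p ∣ j) (hfix : ∀ z, (∀ i < 5, z ≠ (c ^ i) o) → x z = z)
    (hnorm : b = 1 → ∀ j : ℕ, x * c * x⁻¹ ≠ c ^ j) (hord : ¬ ∃ k : ℕ, orderOf x = p ^ k) :
    GoodPair p c (h * c⁻¹ * h⁻¹) := by
  have hodd : Odd p := hp.odd_of_ne_two (by omega)
  refine ⟨by rwa [← hx], ?_⟩
  intro hs
  set G := Subgroup.closure ({c, h * c⁻¹ * h⁻¹} : Set (Perm β)) with hG
  have hcG : c ∈ G := Subgroup.subset_closure (by simp)
  have hxG : x ∈ G := by
    rw [hx]
    exact G.mul_mem hcG (Subgroup.subset_closure (by simp))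
  have htr : MulAction.IsPretransitive G β := by
    refine ⟨fun x y => ?_⟩
    obtain ⟨i, hi⟩ := hc.exists_pow x y
    exact ⟨⟨c ^ i, G.pow_mem hcG i⟩, hi⟩
  have hordc := (orderOf_full hc o).1
  rw [hcard] at hordc
  have hprim : MulAction.IsPreprimitive G β := by
    refine prim_of hcG hc o ?_
    intro B hoB hB ⟨q, hqB, hqo⟩
    by_contra hBu
    have hdiv : ∀ i : ℕ, (c ^ i) o ∈ B → p ∣ i := by
      intro i hi
      by_contra hpi
      exact hBu (blk_univ hp hB hcG hordc hc hpi hoB hi)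
    have hxB : ∀ z ∈ B, x z ∉ B := by
      intro z hz hxz
      have h1 := blk hB hxG hz hxz o
      rw [hj] at h1
      exact hpj (hdiv j (h1.2 hoB))
    have hsub : B ⊆ {o, (c ^ 3) o} := by
      intro z hz
      have h1 : ¬ ∀ i < 5, z ≠ (c ^ i) o := by
        intro h1
        apply hxB z hz
        rw [hfix z h1]
        exact hz
      push Not at h1
      obtain ⟨i, hi, hzi⟩ := h1
      rw [hzi] at hz
      have h2 := hdiv i hz
      have h3 : i = 0 ∨ i = 3 := by
        by_contra hcon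
        push Not at hcon
        have h4 : i = 1 ∨ i = 2 ∨ i = 4 := by omega
        rcases h4 with rfl | rfl | rfl
        · have := Nat.le_of_dvd (by norm_num) h2; omega
        · have := Nat.le_of_dvd (by norm_num) h2; omega
        · have h5 : p ∣ 2 * 2 := h2
          rcases (hp.dvd_mul).1 h5 with h6 | h6 <;> (have := Nat.le_of_dvd (by norm_num) h6; omega)
      rw [hzi]
      rcases h3 with rfl | rfl
      · left; rfl
      · right; rfl
    exact hqo (blk_small hodd hcard htr hB hoB hsub q hqB)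
  obtain ⟨h1, h2⟩ := solvable_full hp hp3 hcard hb hprim hcG hc hs
  obtain ⟨i, hi⟩ := h2 x hxG
  exact hnorm h1 i hi

section explicit

variable {p b : ℕ} (hp : p.Prime) (hp3 : 3 ≤ p) (hb : 1 ≤ b) (hcard : Fintype.card β = p ^ b)
  (h5 : 5 ≤ Fintype.card β) {c : Perm β} (hc : Full c) (o : β)

include hc h5 in
theorem pts_ne {i j : ℕ} (hi : i < 5) (hj : j < 5) (hij : i ≠ j) : (c ^ i) o ≠ (c ^ j) o := by
  intro h
  have h1 := ((orderOf_full hc o).2 i j).1 h
  have h2 := Nat.ModEq.eq_of_lt_of_lt h1 (by omega) (by omega)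
  exact hij h2

include hp hp3 hb hcard h5 hc o in
theorem full_odd : ∃ h : Perm β, sign h = -1 ∧ GoodPair p c (h * c⁻¹ * h⁻¹) := by
  have hne := fun {i j : ℕ} => pts_ne h5 hc o (i := i) (j := j)
  set o0 := (c ^ 0) o with ho0
  set o1 := (c ^ 1) o with ho1
  set o2 := (c ^ 2) o with ho2
  set o3 := (c ^ 3) o with ho3
  have h01 : o0 ≠ o1 := hne (i := 0) (j := 1) (by norm_num) (by norm_num) (by norm_num)
  have h02 : o0 ≠ o2 := hne (i := 0) (j := 2) (by norm_num) (by norm_num) (by norm_num)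
  have h03 : o0 ≠ o3 := hne (i := 0) (j := 3) (by norm_num) (by norm_num) (by norm_num)
  have h12 : o1 ≠ o2 := hne (i := 1) (j := 2) (by norm_num) (by norm_num) (by norm_num)
  have h13 : o1 ≠ o3 := hne (i := 1) (j := 3) (by norm_num) (by norm_num) (by norm_num)
  have h23 : o2 ≠ o3 := hne (i := 2) (j := 3) (by norm_num) (by norm_num) (by norm_num)
  have hodd : Odd p := hp.odd_of_ne_two (by omega)
  have hc0 : c o0 = o1 := rfl
  have hc2 : c o2 = o3 := by rw [ho3, pow_succ' c 2]; rfl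
  refine ⟨swap o0 o2, sign_swap h02, ?_⟩
  have hx : swap o1 o3 * swap o0 o2 = c * (swap o0 o2 * c⁻¹ * (swap o0 o2)⁻¹) := by
    rw [← hc0, ← hc2, Equiv.swap_apply_apply, swap_inv]
    group
  have e0 : (swap o1 o3 * swap o0 o2) o0 = o2 := by
    rw [mul_apply, swap_apply_left, swap_apply_of_ne_of_ne h12.symm h23]
  have e1 : (swap o1 o3 * swap o0 o2) o1 = o3 := by
    rw [mul_apply, swap_apply_of_ne_of_ne h01.symm h12, swap_apply_left]
  have e2 : (swap o1 o3 * swap o0 o2) o2 = o0 := by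
    rw [mul_apply, swap_apply_right, swap_apply_of_ne_of_ne h01 h03]
  refine fullcase hp hp3 hb hcard hc o _ hx (j := 2) ?_ ?_ ?_ ?_ ?_
  · exact e0
  · intro h
    have := Nat.le_of_dvd (by norm_num) h
    omega
  · intro z hz
    rw [mul_apply, swap_apply_of_ne_of_ne (hz 0 (by norm_num)) (hz 2 (by norm_num)),
      swap_apply_of_ne_of_ne (hz 1 (by norm_num)) (hz 3 (by norm_num))]
  · intro hb1 j hj
    have h1 : ∀ z, (swap o1 o3 * swap o0 o2) (c z) = (c ^ j) ((swap o1 o3 * swap o0 o2) z) := by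
      intro z
      rw [← hj]
      simp
    have h2 := h1 o0
    rw [hc0, e1, e0] at h2
    have h3 := h1 o1
    have hc1 : c o1 = o2 := by rw [ho2, pow_succ' c 1]; rfl
    rw [hc1, e2, e1] at h3
    have h4 : (c ^ 3) o = (c ^ (j + 2)) o := by rw [pow_add, mul_apply]; exact h2
    have h6 : (c ^ 0) o = (c ^ (j + 3)) o := by rw [pow_add, mul_apply]; exact h3
    have h7 := ((orderOf_full hc o).2 _ _).1 h4
    have h8 := ((orderOf_full hc o).2 _ _).1 h6
    rw [hcard, hb1, pow_one] at h7 h8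
    have h9 : 0 ≡ 4 [MOD p] := h8.trans (h7.add_right 1).symm
    have h10 : p ∣ 2 * 2 := Nat.modEq_zero_iff_dvd.1 h9.symm
    rcases (hp.dvd_mul).1 h10 with h11 | h11 <;> (have := Nat.le_of_dvd (by norm_num) h11; omega)
  · exact not_pow_of_swap hodd h02 e0 e2

include hp hp3 hb hcard h5 hc o in
theorem full_even (hp5 : 5 ≤ p) : ∃ h : Perm β, sign h = 1 ∧ GoodPair p c (h * c⁻¹ * h⁻¹) := by
  have hne := fun {i j : ℕ} => pts_ne h5 hc o (i := i) (j := j)
  set o0 := (c ^ 0) o with ho0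
  set o1 := (c ^ 1) o with ho1
  set o2 := (c ^ 2) o with ho2
  set o3 := (c ^ 3) o with ho3
  have h01 : o0 ≠ o1 := hne (i := 0) (j := 1) (by norm_num) (by norm_num) (by norm_num)
  have h02 : o0 ≠ o2 := hne (i := 0) (j := 2) (by norm_num) (by norm_num) (by norm_num)
  have h03 : o0 ≠ o3 := hne (i := 0) (j := 3) (by norm_num) (by norm_num) (by norm_num)
  have h12 : o1 ≠ o2 := hne (i := 1) (j := 2) (by norm_num) (by norm_num) (by norm_num)
  have h13 : o1 ≠ o3 := hne (i := 1) (j := 3) (by norm_num) (by norm_num) (by norm_num)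
  have h23 : o2 ≠ o3 := hne (i := 2) (j := 3) (by norm_num) (by norm_num) (by norm_num)
  have hodd : Odd p := hp.odd_of_ne_two (by omega)
  have hc0 : c o0 = o1 := rfl
  have hc1 : c o1 = o2 := by rw [ho2, pow_succ' c 1]; rfl
  have hc2 : c o2 = o3 := by rw [ho3, pow_succ' c 2]; rfl
  refine ⟨swap o0 o2 * swap o0 o1, ?_, ?_⟩
  · rw [map_mul, sign_swap h02, sign_swap h01]; rfl
  set x := swap o1 o3 * swap o1 o2 * (swap o0 o1 * swap o0 o2) with hxdef
  have hx : x = c * ((swap o0 o2 * swap o0 o1) * c⁻¹ * (swap o0 o2 * swap o0 o1)⁻¹) := by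
    rw [hxdef, mul_inv_rev, swap_inv, swap_inv]
    have e1 : swap o1 o3 = c * swap o0 o2 * c⁻¹ := by rw [← hc0, ← hc2, Equiv.swap_apply_apply]
    have e2 : swap o1 o2 = c * swap o0 o1 * c⁻¹ := by
      rw [← Equiv.swap_apply_apply, hc0, hc1]
    rw [e1, e2]
    group
  have e0 : x o0 = o3 := by
    rw [hxdef, mul_apply, mul_apply, mul_apply, swap_apply_left, swap_apply_of_ne_of_ne h02.symm h12.symm,
      swap_apply_right, swap_apply_left]
  have e1 : x o1 = o0 := by
    rw [hxdef, mul_apply, mul_apply, mul_apply, swap_apply_of_ne_of_ne h01.symm h12, swap_apply_right,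
      swap_apply_of_ne_of_ne h01 h02, swap_apply_of_ne_of_ne h01 h03]
  have e2 : x o2 = o2 := by
    rw [hxdef, mul_apply, mul_apply, mul_apply, swap_apply_right, swap_apply_left, swap_apply_left,
      swap_apply_of_ne_of_ne h12.symm h23]
  have e3 : x o3 = o1 := by
    rw [hxdef, mul_apply, mul_apply, mul_apply, swap_apply_of_ne_of_ne h03.symm h23.symm,
      swap_apply_of_ne_of_ne h03.symm h13.symm, swap_apply_of_ne_of_ne h13.symm h23.symm, swap_apply_right]
  have eo : ∀ z, z ≠ o0 → z ≠ o1 → z ≠ o2 → z ≠ o3 → x z = z := by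
    intro z a0 a1 a2 a3
    rw [hxdef, mul_apply, mul_apply, mul_apply, swap_apply_of_ne_of_ne a0 a2,
      swap_apply_of_ne_of_ne a0 a1, swap_apply_of_ne_of_ne a1 a2, swap_apply_of_ne_of_ne a1 a3]
  have hx3 : x ^ 3 = 1 := by
    ext z
    rw [pow_succ, pow_two, mul_apply, mul_apply, one_apply]
    by_cases a0 : z = o0
    · rw [a0, e0, e3, e1]
    by_cases a1 : z = o1
    · rw [a1, e1, e0, e3]
    by_cases a2 : z = o2
    · rw [a2, e2, e2, e2]
    by_cases a3 : z = o3
    · rw [a3, e3, e1, e0]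
    · rw [eo z a0 a1 a2 a3, eo z a0 a1 a2 a3, eo z a0 a1 a2 a3]
  refine fullcase hp hp3 hb hcard hc o _ hx (j := 3) ?_ ?_ ?_ ?_ ?_
  · exact e0
  · intro h
    have := Nat.le_of_dvd (by norm_num) h
    omega
  · intro z hz
    exact eo z (hz 0 (by norm_num)) (hz 1 (by norm_num)) (hz 2 (by norm_num)) (hz 3 (by norm_num))
  · intro hb1 j hj
    have h1 : ∀ z, x (c z) = (c ^ j) (x z) := by
      intro z
      rw [← hj]
      simp
    have h2 := h1 o0
    rw [hc0, e1, e0] at h2
    have h3 := h1 o1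
    rw [hc1, e2, e1] at h3
    have h4 : (c ^ 0) o = (c ^ (j + 3)) o := by rw [pow_add, mul_apply]; exact h2
    have h6 : (c ^ 2) o = (c ^ (j + 0)) o := by rw [pow_add, mul_apply]; exact h3
    have h2' := h1 o2
    rw [hc2, e3, e2] at h2'
    have h6' : (c ^ 1) o = (c ^ (j + 2)) o := by rw [pow_add, mul_apply]; exact h2'
    have h7 := ((orderOf_full hc o).2 _ _).1 h4
    have h8 := ((orderOf_full hc o).2 _ _).1 h6
    have h9 := ((orderOf_full hc o).2 _ _).1 h6'
    rw [hcard, hb1, pow_one] at h7 h8 h9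
    have h10 : 1 ≡ 4 [MOD p] := h9.trans (h8.add_right 2).symm
    have h11 := (Nat.modEq_iff_dvd' (by norm_num)).1 h10
    have := Nat.le_of_dvd (by norm_num) h11
    omega
  · rintro ⟨k, hk⟩
    have h1 := orderOf_dvd_of_pow_eq_one hx3
    rw [hk] at h1
    have h2 := Nat.le_of_dvd (by norm_num) h1
    have h3 : k = 0 := by
      by_contra h3
      have h4 : p ≤ p ^ k := Nat.le_self_pow h3 p
      omega
    rw [h3, pow_zero, orderOf_eq_one_iff] at hk
    rw [hk] at e0
    exact h03 e0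

include hb hc o in
theorem full_even3 (hcard3 : Fintype.card β = 3 ^ b) (hb2 : 2 ≤ b) :
    ∃ h : Perm β, sign h = 1 ∧ GoodPair 3 c (h * c⁻¹ * h⁻¹) := by
  have h5 : 5 ≤ Fintype.card β := by
    rw [hcard3]
    have := Nat.pow_le_pow_right (show 0 < 3 by norm_num) hb2
    omega
  have hne := fun {i j : ℕ} => pts_ne h5 hc o (i := i) (j := j)
  set o0 := (c ^ 0) o with ho0
  set o1 := (c ^ 1) o with ho1
  set o2 := (c ^ 2) o with ho2
  set o3 := (c ^ 3) o with ho3
  set o4 := (c ^ 4) o with ho4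
  have h01 : o0 ≠ o1 := hne (i := 0) (j := 1) (by norm_num) (by norm_num) (by norm_num)
  have h02 : o0 ≠ o2 := hne (i := 0) (j := 2) (by norm_num) (by norm_num) (by norm_num)
  have h03 : o0 ≠ o3 := hne (i := 0) (j := 3) (by norm_num) (by norm_num) (by norm_num)
  have h04 : o0 ≠ o4 := hne (i := 0) (j := 4) (by norm_num) (by norm_num) (by norm_num)
  have h12 : o1 ≠ o2 := hne (i := 1) (j := 2) (by norm_num) (by norm_num) (by norm_num)
  have h13 : o1 ≠ o3 := hne (i := 1) (j := 3) (by norm_num) (by norm_num) (by norm_num)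
  have h14 : o1 ≠ o4 := hne (i := 1) (j := 4) (by norm_num) (by norm_num) (by norm_num)
  have h23 : o2 ≠ o3 := hne (i := 2) (j := 3) (by norm_num) (by norm_num) (by norm_num)
  have h24 : o2 ≠ o4 := hne (i := 2) (j := 4) (by norm_num) (by norm_num) (by norm_num)
  have h34 : o3 ≠ o4 := hne (i := 3) (j := 4) (by norm_num) (by norm_num) (by norm_num)
  have hc0 : c o0 = o1 := rfl
  have hc1 : c o1 = o2 := by rw [ho2, pow_succ' c 1]; rfl
  have hc2 : c o2 = o3 := by rw [ho3, pow_succ' c 2]; rfl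
  have hc3 : c o3 = o4 := by rw [ho4, pow_succ' c 3]; rfl
  refine ⟨swap o0 o1 * swap o2 o3, ?_, ?_⟩
  · rw [map_mul, sign_swap h01, sign_swap h23]; rfl
  set x := swap o1 o2 * swap o3 o4 * (swap o2 o3 * swap o0 o1) with hxdef
  have hx : x = c * ((swap o0 o1 * swap o2 o3) * c⁻¹ * (swap o0 o1 * swap o2 o3)⁻¹) := by
    rw [hxdef, mul_inv_rev, swap_inv, swap_inv]
    have e1 : swap o1 o2 = c * swap o0 o1 * c⁻¹ := by
      rw [← Equiv.swap_apply_apply, hc0, hc1]
    have e2 : swap o3 o4 = c * swap o2 o3 * c⁻¹ := by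
      rw [← Equiv.swap_apply_apply, hc2, hc3]
    rw [e1, e2]
    group
  have e0 : x o0 = o2 := by
    rw [hxdef, mul_apply, mul_apply, mul_apply, swap_apply_left, swap_apply_of_ne_of_ne h12 h13,
      swap_apply_of_ne_of_ne h13 h14, swap_apply_left]
  have e1 : x o1 = o0 := by
    rw [hxdef, mul_apply, mul_apply, mul_apply, swap_apply_right, swap_apply_of_ne_of_ne h02 h03,
      swap_apply_of_ne_of_ne h03 h04, swap_apply_of_ne_of_ne h01 h02]
  have e2 : x o2 = o4 := by
    rw [hxdef, mul_apply, mul_apply, mul_apply, swap_apply_of_ne_of_ne h02.symm h12.symm, swap_apply_left,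
      swap_apply_left, swap_apply_of_ne_of_ne h14.symm h24.symm]
  have e3 : x o3 = o1 := by
    rw [hxdef, mul_apply, mul_apply, mul_apply, swap_apply_of_ne_of_ne h03.symm h13.symm, swap_apply_right,
      swap_apply_of_ne_of_ne h23 h24, swap_apply_right]
  have e4 : x o4 = o3 := by
    rw [hxdef, mul_apply, mul_apply, mul_apply, swap_apply_of_ne_of_ne h04.symm h14.symm,
      swap_apply_of_ne_of_ne h24.symm h34.symm, swap_apply_right, swap_apply_of_ne_of_ne h13.symm h23.symm]
  have eo : ∀ z, z ≠ o0 → z ≠ o1 → z ≠ o2 → z ≠ o3 → z ≠ o4 → x z = z := by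
    intro z a0 a1 a2 a3 a4
    rw [hxdef, mul_apply, mul_apply, mul_apply, swap_apply_of_ne_of_ne a0 a1,
      swap_apply_of_ne_of_ne a2 a3, swap_apply_of_ne_of_ne a3 a4, swap_apply_of_ne_of_ne a1 a2]
  have hx5 : x ^ 5 = 1 := by
    ext z
    rw [show (5 : ℕ) = 4 + 1 from rfl, pow_succ, pow_succ, pow_succ, pow_two, mul_apply, mul_apply, mul_apply,
      mul_apply, one_apply]
    by_cases a0 : z = o0
    · rw [a0, e0, e2, e4, e3, e1]
    by_cases a1 : z = o1
    · rw [a1, e1, e0, e2, e4, e3]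
    by_cases a2 : z = o2
    · rw [a2, e2, e4, e3, e1, e0]
    by_cases a3 : z = o3
    · rw [a3, e3, e1, e0, e2, e4]
    by_cases a4 : z = o4
    · rw [a4, e4, e3, e1, e0, e2]
    · rw [eo z a0 a1 a2 a3 a4, eo z a0 a1 a2 a3 a4, eo z a0 a1 a2 a3 a4, eo z a0 a1 a2 a3 a4, eo z a0 a1 a2 a3 a4]
  refine fullcase Nat.prime_three le_rfl hb hcard3 hc o _ hx (j := 2) ?_ ?_ ?_ ?_ ?_
  · exact e0
  · norm_num
  · intro z hz
    exact eo z (hz 0 (by norm_num)) (hz 1 (by norm_num)) (hz 2 (by norm_num)) (hz 3 (by norm_num)) (hz 4 (by norm_num))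
  · intro hb1
    omega
  · rintro ⟨k, hk⟩
    have h1 := orderOf_dvd_of_pow_eq_one hx5
    rw [hk] at h1
    have h3 : k = 0 := by
      by_contra h3
      have h4 : 3 ∣ 5 := (dvd_pow_self 3 h3).trans h1
      omega
    rw [h3, pow_zero, orderOf_eq_one_iff] at hk
    rw [hk] at e0
    exact h02 e0

end explicit

/-- the core configuration -/
theorem core {p b k : ℕ} (hp : p.Prime) (hp3 : 3 ≤ p) (hcard : Fintype.card β = p ^ b) (h5 : 5 ≤ Fintype.card β)
    {v : Perm β} (hv : orderOf v = p ^ k) (hv1 : v ≠ 1) :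
    ∃ w0 hp' hm : Perm β, Full w0 ∧ sign hp' = 1 ∧ sign hm = -1 ∧ GoodPair p v (hp' * w0 * hp'⁻¹) ∧
      GoodPair p v (hm * w0 * hm⁻¹) := by
  have hodd : Odd p := hp.odd_of_ne_two (by omega)
  have hb : 1 ≤ b := by
    rcases b with _ | b
    · rw [hcard, pow_zero] at h5; omega
    · omega
  by_cases hfull : Full v
  · obtain ⟨o⟩ : Nonempty β := Fintype.card_pos_iff.1 (by omega)
    obtain ⟨h1, h2, h3⟩ := full_odd hp hp3 hb hcard h5 hfull o
    have hev : ∃ h : Perm β, sign h = 1 ∧ GoodPair p v (h * v⁻¹ * h⁻¹) := by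
      by_cases hp5 : 5 ≤ p
      · exact full_even hp hp3 hb hcard h5 hfull o hp5
      · have hp3' : p = 3 := by
          have h4 : p ≠ 4 := by rintro rfl; revert hp; decide
          omega
        subst hp3'
        apply full_even3 hb hfull o hcard
        by_contra hb2
        have hb1 : b = 1 := by omega
        rw [hcard, hb1] at h5
        omega
    obtain ⟨h4, h6, h7⟩ := hev
    exact ⟨v⁻¹, h4, h1, hfull.inv, h6, h2, h7, h3⟩
  · obtain ⟨τ, hτ1, hτ2⟩ := odd_centralizer hp hcard hv hfull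
    have hb2 : b ≠ 1 := by
      rintro rfl
      rw [pow_one] at hcard
      exact hfull (full_of_prime hp hcard hv hv1)
    have key : ∃ d : Perm β, Full d ∧ (∃ a b : β, a ≠ b ∧ (v⁻¹ * d) a = b ∧ (v⁻¹ * d) b = a) ∧
        ∀ G : Subgroup (Perm β), v ∈ G → d ∈ G → MulAction.IsPreprimitive G β := by
      by_cases hnf : ∀ x, v x ≠ x
      · exact caseA2 hp hp3 hcard hv hnf hfull
      · push Not at hnf
        obtain ⟨z0, hz0⟩ := hnf
        have hw : ∃ w1, v w1 ≠ w1 := by
          by_contra hcon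
          push Not at hcon
          exact hv1 (Perm.ext hcon)
        obtain ⟨w1, hw1⟩ := hw
        exact caseA1 hp hp3 hv hz0 hw1
    obtain ⟨d, hd, ⟨a, a', haa, ha1, ha2⟩, hprim⟩ := key
    have hgood : GoodPair p v d⁻¹ := by
      refine ⟨?_, ?_⟩
      · have hne : v a ≠ v a' := fun h => haa (v.injective h)
        have e1 : (v * d⁻¹) (v a) = v a' := by
          rw [mul_apply]
          congr 1
          rw [Perm.inv_eq_iff_eq, ← ha2]
          simp
        have e2 : (v * d⁻¹) (v a') = v a := by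
          rw [mul_apply]
          congr 1
          rw [Perm.inv_eq_iff_eq, ← ha1]
          simp
        exact not_pow_of_swap hodd hne e1 e2
      · intro hs
        set G := Subgroup.closure ({v, d⁻¹} : Set (Perm β)) with hG
        have hvG : v ∈ G := Subgroup.subset_closure (by simp)
        have hdG : d ∈ G := by
          have h1 : d⁻¹ ∈ G := Subgroup.subset_closure (by simp)
          have h2 := G.inv_mem h1
          rwa [inv_inv] at h2
        exact hb2 (solvable_full hp hp3 hcard hb (hprim G hvG hdG) hdG hd hs).1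
    refine ⟨d⁻¹, 1, τ, hd.inv, map_one _, hτ1, by simpa using hgood, ?_⟩
    have h1 := hgood.conj τ
    have h2 : τ * v * τ⁻¹ = v := by rw [hτ2]; group
    rwa [h2] at h1

end Cfsg.Agent.Lib.H53Free
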