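import Mathlib
import Cfsg.Agent.Lib.H53FreeE

/-!
Transport of the core configuration to a larger set.
-/

set_option autoImplicit false
set_option linter.unusedSectionVars false

open Equiv Equiv.Perm

namespace Cfsg.Agent.Lib.H53Free

variable {α β : Type*} [Fintype α] [DecidableEq α] [Fintype β] [DecidableEq β]

theorem transfer {p : ℕ} (hp : p.Prime) {ι : β → α} (hι : Function.Injective ι) {u w : Perm α} {u' w' : Perm β}
    (hu : ∀ x, u (ι x) = ι (u' x)) (hw : ∀ x, w (ι x) = ι (w' x)) (h : GoodPair p u' w') : GoodPair p u w := by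
  refine ⟨?_, ?_⟩
  · rintro ⟨k, hk⟩
    have h1 : ∀ (m : ℕ) (x : β), ((u * w) ^ m) (ι x) = ι (((u' * w') ^ m) x) := by
      intro m
      induction m with
      | zero => intro x; rfl
      | succ m ih =>
        intro x
        rw [pow_succ', mul_apply, ih, pow_succ', mul_apply, mul_apply, mul_apply, hw, hu]
    have h2 : (u' * w') ^ (p ^ k) = 1 := by
      apply Perm.ext
      intro x
      apply hι
      rw [← h1, ← hk, pow_orderOf_eq_one]
      rfl
    obtain ⟨j, -, hj⟩ := (Nat.dvd_prime_pow hp).1 (orderOf_dvd_of_pow_eq_one h2)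
    exact h.1 ⟨j, hj⟩
  · intro hs
    apply h.2
    let C : Subgroup (Perm α × Perm β) := Subgroup.closure {(u, u'), (w, w')}
    have hC : ∀ g ∈ C, ∀ x, g.1 (ι x) = ι (g.2 x) := by
      intro g hg
      induction hg using Subgroup.closure_induction with
      | mem g hg =>
        rcases hg with rfl | hg
        · exact hu
        · rw [Set.mem_singleton_iff] at hg
          rw [hg]; exact hw
      | one => intro x; rfl
      | mul a b _ _ ha hb =>
        intro x
        show a.1 (b.1 (ι x)) = ι (a.2 (b.2 x))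
        rw [hb, ha]
      | inv a _ ha =>
        intro x
        show a.1⁻¹ (ι x) = ι (a.2⁻¹ x)
        rw [Perm.inv_eq_iff_eq, ha]
        simp
    have h1 : C.map (MonoidHom.fst _ _) = Subgroup.closure ({u, w} : Set (Perm α)) := by
      rw [MonoidHom.map_closure, Set.image_pair]; rfl
    have h2 : C.map (MonoidHom.snd _ _) = Subgroup.closure ({u', w'} : Set (Perm β)) := by
      rw [MonoidHom.map_closure, Set.image_pair]; rfl
    rw [← h1] at hs
    rw [← h2]
    let f : C →* C.map (MonoidHom.fst (Perm α) (Perm β)) := (MonoidHom.fst (Perm α) (Perm β)).subgroupMap C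
    have hf : Function.Injective f := by
      rw [injective_iff_map_eq_one]
      intro g hg
      have h3 : (g : Perm α × Perm β).1 = 1 := congrArg Subtype.val hg
      apply Subtype.ext
      apply Prod.ext h3
      apply Perm.ext
      intro x
      apply hι
      rw [← hC g g.2 x, h3]
      rfl
    have hCs : Group.IsSolvable C := Group.isSolvable_of_isSolvable_injective hf
    exact Group.isSolvable_of_surjective (f := (MonoidHom.snd (Perm α) (Perm β)).subgroupMap C)
      (MonoidHom.subgroupMap_surjective _ _)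

theorem exists_perm_of_injective {ι κ : β → α} (hι : Function.Injective ι) (hκ : Function.Injective κ) :
    ∃ σ : Perm α, ∀ x, σ (κ x) = ι x := by
  classical
  let e1 : β ≃ {x // x ∈ Set.range κ} := Equiv.ofInjective κ hκ
  let e2 : β ≃ {x // x ∈ Set.range ι} := Equiv.ofInjective ι hι
  let e : {x // x ∈ Set.range κ} ≃ {x // x ∈ Set.range ι} := e1.symm.trans e2
  refine ⟨e.extendSubtype, fun x => ?_⟩
  rw [Equiv.extendSubtype_apply_of_mem e (κ x) ⟨x, rfl⟩]
  have h1 : e1.symm ⟨κ x, ⟨x, rfl⟩⟩ = x := by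
    rw [Equiv.symm_apply_eq]
    rfl
  show ((e2 (e1.symm ⟨κ x, ⟨x, rfl⟩⟩) : {x // x ∈ Set.range ι}) : α) = ι x
  rw [h1]
  rfl

theorem model {p : ℕ} (hp : p.Prime) {u w : Perm α} {u' w0 hp' hm : Perm β} {ι κ : β → α}
    (hι : Function.Injective ι) (hκ : Function.Injective κ)
    (hu : ∀ x, u (ι x) = ι (u' x)) (hw : ∀ x, w (κ x) = κ (w0 x)) (h1 : sign hp' = 1) (h2 : sign hm = -1)
    (h3 : GoodPair p u' (hp' * w0 * hp'⁻¹)) (h4 : GoodPair p u' (hm * w0 * hm⁻¹)) :
    ∃ g : Perm α, sign g = 1 ∧ GoodPair p u (g * w * g⁻¹) := by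
  obtain ⟨σ, hσ⟩ := exists_perm_of_injective hι hκ
  obtain ⟨h, hh1, hh2⟩ : ∃ h : Perm β, sign h = sign σ ∧ GoodPair p u' (h * w0 * h⁻¹) := by
    rcases Int.units_eq_one_or (sign σ) with h | h
    · exact ⟨hp', by rw [h1, h], h3⟩
    · exact ⟨hm, by rw [h2, h], h4⟩
  let i : β ↪ α := ⟨ι, hι⟩
  set H := h.viaFintypeEmbedding i with hH
  have hHx : ∀ x, H (ι x) = ι (h x) := fun x => Equiv.Perm.viaFintypeEmbedding_apply_image h i x
  have hHs : sign H = sign h := Equiv.Perm.viaFintypeEmbedding_sign h i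
  have hHi : ∀ x, H⁻¹ (ι x) = ι (h⁻¹ x) := by
    intro x
    rw [Perm.inv_eq_iff_eq, hHx]
    simp
  have hσi : ∀ x, σ⁻¹ (ι x) = κ x := by
    intro x
    rw [Perm.inv_eq_iff_eq, hσ]
  refine ⟨H * σ, ?_, ?_⟩
  · rw [map_mul, hHs, hh1]
    exact Int.units_mul_self _
  · apply transfer hp hι hu _ hh2
    intro x
    rw [mul_inv_rev]
    show H (σ (w (σ⁻¹ (H⁻¹ (ι x))))) = ι (h (w0 (h⁻¹ x)))
    rw [hHi, hσi, hw, hσ, hHx]

/-- embedding of a full cycle -/
theorem exists_kappa {w : Perm α} {w0 : Perm β} (hw0 : Full w0) (o : β) {x0 : α}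
    (hx : ∀ i j : ℕ, (w ^ i) x0 = (w ^ j) x0 ↔ i ≡ j [MOD Fintype.card β]) :
    ∃ κ : β → α, Function.Injective κ ∧ ∀ x, w (κ x) = κ (w0 x) := by
  have h1 : ∀ y, ∃ i : ℕ, (w0 ^ i) o = y := fun y => hw0.exists_pow o y
  choose ι hι using h1
  have h2 := (orderOf_full hw0 o).2
  refine ⟨fun y => (w ^ ι y) x0, ?_, ?_⟩
  · intro y z hyz
    have h3 := (hx _ _).1 hyz
    rw [← hι y, ← hι z]
    exact (h2 _ _).2 h3
  · intro y
    show w ((w ^ ι y) x0) = (w ^ ι (w0 y)) x0
    have h3 : w ((w ^ ι y) x0) = (w ^ (ι y + 1)) x0 := by rw [pow_succ', mul_apply]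
    rw [h3, hx, ← h2, hι, pow_succ', mul_apply, hι]

theorem exists_long {p b : ℕ} (hp : p.Prime) {w : Perm α} (hw : orderOf w = p ^ b) (hb : b ≠ 0) :
    ∃ x0 : α, ∀ i j : ℕ, (w ^ i) x0 = (w ^ j) x0 ↔ i ≡ j [MOD p ^ b] := by
  have h1 : ∃ x0, (w ^ (p ^ (b - 1))) x0 ≠ x0 := by
    by_contra hcon
    push Not at hcon
    have h2 : w ^ (p ^ (b - 1)) = 1 := Perm.ext hcon
    have h3 := orderOf_dvd_of_pow_eq_one h2
    rw [hw] at h3
    have h4 := (Nat.pow_dvd_pow_iff_le_right hp.one_lt).1 h3
    omega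
  obtain ⟨x0, hx0⟩ := h1
  have hper : ∀ m : ℕ, (w ^ m) x0 = x0 ↔ Function.minimalPeriod w x0 ∣ m := by
    intro m
    rw [← Function.isPeriodicPt_iff_minimalPeriod_dvd, Function.IsPeriodicPt, Function.IsFixedPt,
      Equiv.Perm.iterate_eq_pow]
  have hmp : Function.minimalPeriod w x0 = p ^ b := by
    have h2 : Function.minimalPeriod w x0 ∣ p ^ b := by
      rw [← hper, ← hw, pow_orderOf_eq_one]; rfl
    obtain ⟨c, hc, hc2⟩ := (Nat.dvd_prime_pow hp).1 h2
    have h3 : ¬ c ≤ b - 1 := by
      intro h3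
      apply hx0
      rw [hper, hc2]
      exact pow_dvd_pow p h3
    rw [hc2]
    congr 1
    omega
  refine ⟨x0, ?_⟩
  have hle : ∀ i j : ℕ, i ≤ j → ((w ^ i) x0 = (w ^ j) x0 ↔ i ≡ j [MOD p ^ b]) := by
    intro i j hij
    rw [Nat.modEq_iff_dvd' hij, ← hmp, ← hper]
    have h2 : (w ^ j) x0 = (w ^ i) ((w ^ (j - i)) x0) := by
      rw [← mul_apply, ← pow_add, Nat.add_sub_cancel' hij]
    rw [h2]
    constructor
    · intro h
      exact ((w ^ i).injective h).symm
    · intro h
      rw [h]
  intro i j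
  rcases le_total i j with h | h
  · exact hle i j h
  · rw [eq_comm, hle j i h]
    exact ⟨Nat.ModEq.symm, Nat.ModEq.symm⟩

/-- choose an invariant subset of given prime power size -/
theorem exists_inv {p a b : ℕ} (hp : p.Prime) {u : Perm α} (hu : orderOf u = p ^ a) (hab : a ≤ b) :
    ∀ (n : ℕ) (D : Finset α), D.card = n → (∀ x, u x ∈ D ↔ x ∈ D) → p ^ b ≤ D.card → (∃ x ∈ D, u x ≠ x) →
      ∃ D' : Finset α, D'.card = p ^ b ∧ (∀ x, u x ∈ D' ↔ x ∈ D') ∧ ∃ x ∈ D', u x ≠ x := by
  intro n
  induction n using Nat.strong_induction_on with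
  | _ n ih =>
    intro D hDn hD hcard hx
    rcases eq_or_lt_of_le hcard with heq | hlt
    · exact ⟨D, heq.symm, hD, hx⟩
    by_cases hz : ∃ z ∈ D, u z = z
    · obtain ⟨z, hzD, hz⟩ := hz
      have hc := Finset.card_erase_of_mem hzD
      refine ih (D.erase z).card (by omega) (D.erase z) rfl ?_ (by omega) ?_
      · intro x
        rw [Finset.mem_erase, Finset.mem_erase, hD]
        have h1 : u x ≠ z ↔ x ≠ z := by
          constructor
          · rintro h rfl; exact h hz
          · intro h h2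
            apply h
            apply u.injective
            rw [h2, hz]
        rw [h1]
      · obtain ⟨x, hxD, hx⟩ := hx
        refine ⟨x, Finset.mem_erase.2 ⟨?_, hxD⟩, hx⟩
        rintro rfl
        exact hx hz
    · push Not at hz
      -- restricted permutation
      let v : Perm D := u.subtypePerm hD
      have hv : ∀ x : D, ((v x : D) : α) = u x := fun x => rfl
      have hvsupp : v.support = Finset.univ := by
        rw [Finset.eq_univ_iff_forall]
        intro x
        rw [mem_support]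
        intro h
        exact hz x x.2 (by rw [← hv, h])
      have hsum : v.cycleType.sum = D.card := by
        rw [sum_cycleType, hvsupp, Finset.card_univ, Fintype.card_coe]
      have hmem : ∀ c ∈ v.cycleType, ∃ a', a' ≤ b ∧ c = p ^ a' := by
        intro c hc
        have h1 := dvd_of_mem_cycleType hc
        have h2 : orderOf v ∣ p ^ a := by
          apply orderOf_dvd_of_pow_eq_one
          apply Perm.ext
          intro x
          apply Subtype.ext
          have h3 : ∀ (m : ℕ) (x : D), (((v ^ m) x : D) : α) = (u ^ m) x := by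
            intro m
            induction m with
            | zero => intro x; rfl
            | succ m ih => intro x; rw [pow_succ', mul_apply, hv, ih, pow_succ', mul_apply]
          rw [h3, ← hu, pow_orderOf_eq_one]
          rfl
        obtain ⟨a', ha', rfl⟩ := (Nat.dvd_prime_pow hp).1 (h1.trans h2)
        exact ⟨a', ha'.trans hab, rfl⟩
      have hne : v.cycleType ≠ 0 := by
        intro h
        rw [h, Multiset.sum_zero] at hsum
        omega
      obtain ⟨r, hr, hrmin⟩ : ∃ r ∈ v.cycleType, ∀ c ∈ v.cycleType, r ≤ c := by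
        obtain ⟨x, hx⟩ := Multiset.exists_mem_of_ne_zero hne
        have h3 : v.cycleType.toFinset.Nonempty := ⟨x, Multiset.mem_toFinset.2 hx⟩
        refine ⟨v.cycleType.toFinset.min' h3, Multiset.mem_toFinset.1 (Finset.min'_mem _ h3), ?_⟩
        intro c hc
        exact Finset.min'_le _ _ (Multiset.mem_toFinset.2 hc)
      have hrpos := two_le_of_mem_cycleType hr
      obtain ⟨r', hr'b, hrr'⟩ := hmem r hr
      have hrD : r ∣ D.card := by
        rw [← hsum]
        apply Multiset.dvd_sum
        intro c hc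
        obtain ⟨c', -, hcc'⟩ := hmem c hc
        have h1 := hrmin c hc
        rw [hrr', hcc'] at h1 ⊢
        exact pow_dvd_pow p ((Nat.pow_le_pow_iff_right hp.one_lt).1 h1)
      have hrb : r ∣ p ^ b := by rw [hrr']; exact pow_dvd_pow p hr'b
      have hrle : p ^ b + r ≤ D.card := by
        obtain ⟨s, hs⟩ := hrD
        obtain ⟨t, ht⟩ := hrb
        rw [hs, ht] at hlt ⊢
        have h1 : t < s := Nat.lt_of_mul_lt_mul_left hlt
        calc r * t + r = r * (t + 1) := by ring
          _ ≤ r * s := Nat.mul_le_mul_left _ h1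
      rw [cycleType_def, Multiset.mem_map] at hr
      obtain ⟨c, hc, hcr⟩ := hr
      have hc' := mem_cycleFactorsFinset_iff.1 (Finset.mem_def.2 hc)
      set C : Finset α := c.support.map (Function.Embedding.subtype _) with hC
      have hCD : C ⊆ D := by
        intro x hx
        rw [hC, Finset.mem_map] at hx
        obtain ⟨y, -, rfl⟩ := hx
        exact y.2
      have hCcard : C.card = r := by rw [hC, Finset.card_map]; exact hcr
      have hCinv : ∀ x ∈ C, u x ∈ C := by
        intro x hx
        rw [hC, Finset.mem_map] at hx ⊢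
        obtain ⟨y, hy, rfl⟩ := hx
        refine ⟨v y, ?_, rfl⟩
        rw [← hc'.2 y hy]
        exact (apply_mem_support).2 hy
      have hCinv2 : ∀ x, u x ∈ C ↔ x ∈ C := by
        have h1 : C.map u.toEmbedding = C := by
          apply Finset.eq_of_subset_of_card_le
          · intro x hx
            obtain ⟨y, hy, rfl⟩ := Finset.mem_map.1 hx
            exact hCinv y hy
          · exact (Finset.card_map _).ge
        intro x
        refine ⟨fun h => ?_, hCinv x⟩
        rw [← h1] at h
        obtain ⟨y, hy, hyx⟩ := Finset.mem_map.1 h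
        have h2 : y = x := u.injective hyx
        rwa [← h2]
      have hcD := Finset.card_sdiff_of_subset hCD
      rw [hCcard] at hcD
      refine ih (D \ C).card (by omega) (D \ C) rfl ?_ (by omega) ?_
      · intro x
        rw [Finset.mem_sdiff, Finset.mem_sdiff, hD, hCinv2]
      · have h1 : (D \ C).Nonempty := by
          rw [← Finset.card_pos]
          have := pow_pos hp.pos b
          omega
        obtain ⟨x, hx⟩ := h1
        exact ⟨x, hx, hz x (Finset.mem_sdiff.1 hx).1⟩

theorem main_large {p a b : ℕ} (hp : p.Prime) (hp3 : 3 ≤ p) {u w : Perm α} (hu : orderOf u = p ^ a)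
    (hw : orderOf w = p ^ b) (hu1 : u ≠ 1) (hab : a ≤ b) (h5 : 5 ≤ p ^ b) :
    ∃ g : Perm α, sign g = 1 ∧ GoodPair p u (g * w * g⁻¹) := by
  have hb : b ≠ 0 := by rintro rfl; rw [pow_zero] at h5; omega
  obtain ⟨x0, hx0⟩ := exists_long hp hw hb
  have hcard : p ^ b ≤ Fintype.card α := by
    have h1 : Function.Injective (fun i : Fin (p ^ b) => (w ^ (i : ℕ)) x0) := by
      intro i j hij
      apply Fin.ext
      exact Nat.ModEq.eq_of_lt_of_lt ((hx0 _ _).1 hij) i.2 j.2
    have h2 := Fintype.card_le_of_injective _ h1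
    rwa [Fintype.card_fin] at h2
  have hux : ∃ x ∈ (Finset.univ : Finset α), u x ≠ x := by
    by_contra hcon
    push Not at hcon
    exact hu1 (Perm.ext (fun x => hcon x (Finset.mem_univ x)))
  obtain ⟨D, hDc, hD, x, hxD, hx⟩ := exists_inv hp hu hab _ Finset.univ rfl (by simp) (by simpa using hcard) hux
  let v : Perm D := u.subtypePerm hD
  have hv : ∀ x : D, ((v x : D) : α) = u x := fun x => rfl
  have hvord : ∃ k, orderOf v = p ^ k := by
    have h2 : orderOf v ∣ p ^ a := by
      apply orderOf_dvd_of_pow_eq_one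
      apply Perm.ext
      intro x
      apply Subtype.ext
      have h3 : ∀ (m : ℕ) (x : D), (((v ^ m) x : D) : α) = (u ^ m) x := by
        intro m
        induction m with
        | zero => intro x; rfl
        | succ m ih => intro x; rw [pow_succ', mul_apply, hv, ih, pow_succ', mul_apply]
      rw [h3, ← hu, pow_orderOf_eq_one]
      rfl
    obtain ⟨k, -, hk⟩ := (Nat.dvd_prime_pow hp).1 h2
    exact ⟨k, hk⟩
  obtain ⟨k, hk⟩ := hvord
  have hv1 : v ≠ 1 := by
    intro h
    apply hx
    have h1 := hv ⟨x, hxD⟩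
    rw [h] at h1
    exact h1.symm
  have hcD : Fintype.card D = p ^ b := by rw [Fintype.card_coe, hDc]
  obtain ⟨w0, hp', hm, hw0, s1, s2, g1, g2⟩ := core hp hp3 hcD (by rw [hcD]; exact h5) hk hv1
  obtain ⟨κ, hκ, hκw⟩ := exists_kappa (w := w) hw0 (⟨x, hxD⟩ : D) (x0 := x0) (by rw [hcD]; exact hx0)
  exact model hp Subtype.val_injective hκ (fun x => (hv x).symm) hκw s1 s2 g1 g2

end Cfsg.Agent.Lib.H53Free
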