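import Mathlib
import Cfsg.Agent.Lib.H53FreeF

/-!
Elements of order 3.
-/

set_option autoImplicit false
set_option linter.unusedSectionVars false

open Equiv Equiv.Perm
open scoped commutatorElement

namespace Cfsg.Agent.Lib.H53Free

variable {α β : Type*} [Fintype α] [DecidableEq α] [Fintype β] [DecidableEq β]

theorem good3 {a b : Perm β} (h5 : (a * b) ^ 5 = 1) (h1 : a * b ≠ 1)
    (ha : ∃ x ∈ Subgroup.closure ({a, b} : Set (Perm β)), ∃ y ∈ Subgroup.closure ({a, b} : Set (Perm β)), ⁅x, y⁆ = a)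
    (hb : ∃ x ∈ Subgroup.closure ({a, b} : Set (Perm β)), ∃ y ∈ Subgroup.closure ({a, b} : Set (Perm β)), ⁅x, y⁆ = b) :
    GoodPair 3 a b := by
  refine ⟨?_, ?_⟩
  · rintro ⟨k, hk⟩
    have hF : Fact (Nat.Prime 5) := ⟨by norm_num⟩
    have h2 : orderOf (a * b) = 5 := orderOf_eq_prime h5 h1
    rw [h2] at hk
    rcases k with _ | k
    · norm_num at hk
    · have h3 : 3 ∣ 5 := by rw [hk]; exact dvd_pow_self 3 (by omega)
      omega
  · intro hs
    set K := Subgroup.closure ({a, b} : Set (Perm β)) with hK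
    have hle : K ≤ ⁅K, K⁆ := by
      conv_lhs => rw [hK]
      rw [Subgroup.closure_le]
      rintro x (rfl | hx)
      · obtain ⟨y, hy, z, hz, h⟩ := ha
        have h7 := Subgroup.commutator_mem_commutator hy hz
        rw [h] at h7
        exact h7
      · rw [Set.mem_singleton_iff] at hx
        rw [hx]
        obtain ⟨y, hy, z, hz, h⟩ := hb
        have h7 := Subgroup.commutator_mem_commutator hy hz
        rw [h] at h7
        exact h7
    have hab : a * b ∈ K := K.mul_mem (Subgroup.subset_closure (by simp)) (Subgroup.subset_closure (by simp))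
    have hnt : Nontrivial K := ⟨⟨⟨a * b, hab⟩, 1, fun h => h1 (congrArg Subtype.val h)⟩⟩
    have h2 := Group.IsSolvable.commutator_lt_top_of_nontrivial K
    apply h2.ne
    rw [eq_top_iff]
    intro x _
    have h3 := hle x.2
    rw [← Subgroup.map_subtype_commutator] at h3
    obtain ⟨y, hy, hyx⟩ := h3
    have h4 : y = x := Subtype.ext hyx
    rwa [← h4]

theorem word_mem {a b : Perm β} {K : Subgroup (Perm β)} (ha : a ∈ K) (hb : b ∈ K) :
    a⁻¹ ∈ K ∧ b⁻¹ ∈ K ∧ b * a * b⁻¹ * a⁻¹ * b ∈ K ∧ a * b * a⁻¹ * b⁻¹ * a ∈ K ∧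
      b * a * b * a⁻¹ * b * a * b⁻¹ ∈ K ∧ a * b * a * b⁻¹ * a * b * a⁻¹ ∈ K := by
  have ha' := K.inv_mem ha
  have hb' := K.inv_mem hb
  refine ⟨ha', hb', ?_, ?_, ?_, ?_⟩ <;> repeat first | exact ha | exact hb | exact ha' | exact hb' | apply K.mul_mem

theorem good3a {a b : Perm β} (h5 : (a * b) ^ 5 = 1) (h1 : a * b ≠ 1)
    (ha : ⁅a⁻¹, b * a * b⁻¹ * a⁻¹ * b⁆ = a) (hb : ⁅b⁻¹, a * b * a⁻¹ * b⁻¹ * a⁆ = b) : GoodPair 3 a b := by
  have h := word_mem (a := a) (b := b) (K := Subgroup.closure ({a, b} : Set (Perm β)))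
    (Subgroup.subset_closure (by simp)) (Subgroup.subset_closure (by simp))
  exact good3 h5 h1 ⟨_, h.1, _, h.2.2.1, ha⟩ ⟨_, h.2.1, _, h.2.2.2.1, hb⟩

theorem good3b {a b : Perm β} (h5 : (a * b) ^ 5 = 1) (h1 : a * b ≠ 1)
    (ha : ⁅a⁻¹, b * a * b * a⁻¹ * b * a * b⁻¹⁆ = a) (hb : ⁅b⁻¹, a * b * a * b⁻¹ * a * b * a⁻¹⁆ = b) :
    GoodPair 3 a b := by
  have h := word_mem (a := a) (b := b) (K := Subgroup.closure ({a, b} : Set (Perm β)))
    (Subgroup.subset_closure (by simp)) (Subgroup.subset_closure (by simp))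
  exact good3 h5 h1 ⟨_, h.1, _, h.2.2.2.2.1, ha⟩ ⟨_, h.2.1, _, h.2.2.2.2.2, hb⟩

/-- models -/
def mu5 : Perm (Fin 5) := c[0, 1, 2]
def mw5 : Perm (Fin 5) := c[2, 3, 4]
def mu6 : Perm (Fin 6) := c[0, 1, 2] * c[3, 4, 5]
def mw6 : Perm (Fin 6) := c[2, 3, 5]
def mx6 : Perm (Fin 6) := c[0, 1, 3] * c[2, 5, 4]
def mh6 : Perm (Fin 6) := c[0, 3] * c[1, 4] * c[2, 5]

theorem model5a : GoodPair 3 mu5 (1 * mw5 * 1⁻¹) := by
  apply good3a <;> decide +kernel
theorem model5b : GoodPair 3 mu5 (swap 3 4 * mw5 * (swap 3 4)⁻¹) := by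
  apply good3a <;> decide +kernel
theorem model6a : GoodPair 3 mu6 (1 * mw6 * 1⁻¹) := by
  apply good3b <;> decide +kernel
theorem model6b : GoodPair 3 mu6 (mh6 * mw6 * mh6⁻¹) := by
  apply good3b <;> decide +kernel
theorem model6c : GoodPair 3 mu6 (1 * mx6 * 1⁻¹) := by
  apply good3a <;> decide +kernel
theorem model6d : GoodPair 3 mu6 (mh6 * mx6 * mh6⁻¹) := by
  apply good3a <;> decide +kernel

theorem sign_mh6 : sign mh6 = -1 := by decide +kernel

theorem inj_of_lt {n : ℕ} {f : Fin n → α} (h : ∀ i j, i < j → f i ≠ f j) : Function.Injective f := by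
  intro i j hij
  rcases lt_trichotomy i j with h1 | h1 | h1
  · exact (h _ _ h1 hij).elim
  · exact h1
  · exact (h _ _ h1 hij.symm).elim

theorem cyc3 {w : Perm α} (hw : w ^ 3 = 1) {x : α} (hx : w x ≠ x) :
    w (w (w x)) = x ∧ w (w x) ≠ x ∧ w (w x) ≠ w x := by
  have h3 : ∀ x, w (w (w x)) = x := by
    intro x
    have : (w ^ 3) x = x := by rw [hw]; rfl
    simpa [pow_succ, mul_apply] using this
  refine ⟨h3 x, ?_, ?_⟩
  · intro h
    apply hx
    conv_rhs => rw [← h3 x, h]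
  · intro h
    exact hx (w.injective h)

theorem emb5 (hcard : 5 ≤ Fintype.card α) {w : Perm α} (hw : w ^ 3 = 1) {x : α} (hx : w x ≠ x)
    (hfix : ∀ y, y ≠ x → y ≠ w x → y ≠ w (w x) → w y = y) :
    (∃ ι : Fin 5 → α, Function.Injective ι ∧ ∀ i, w (ι i) = ι (mu5 i)) ∧
    (∃ ι : Fin 5 → α, Function.Injective ι ∧ ∀ i, w (ι i) = ι (mw5 i)) ∧
    (6 ≤ Fintype.card α → ∃ ι : Fin 6 → α, Function.Injective ι ∧ ∀ i, w (ι i) = ι (mw6 i)) := by
  obtain ⟨h3, h4, h5⟩ := cyc3 hw hx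
  have hc : ({x, w x, w (w x)} : Finset α).card ≤ 3 := Finset.card_le_three
  have hS : ∀ y ∈ (Finset.univ \ {x, w x, w (w x)} : Finset α), (y ≠ x ∧ y ≠ w x ∧ y ≠ w (w x)) ∧ w y = y := by
    intro y hy
    simp only [Finset.mem_sdiff, Finset.mem_univ, true_and, Finset.mem_insert, Finset.mem_singleton, not_or] at hy
    exact ⟨hy, hfix y hy.1 hy.2.1 hy.2.2⟩
  have hcS : Fintype.card α - 3 ≤ (Finset.univ \ {x, w x, w (w x)} : Finset α).card := by
    rw [Finset.card_sdiff_of_subset (Finset.subset_univ _), Finset.card_univ]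
    omega
  obtain ⟨y, hy, z, hz, hyz⟩ := Finset.one_lt_card.1 (show 1 < (Finset.univ \ {x, w x, w (w x)} : Finset α).card by omega)
  obtain ⟨⟨y1, y2, y3⟩, y4⟩ := hS y hy
  obtain ⟨⟨z1, z2, z3⟩, z4⟩ := hS z hz
  refine ⟨⟨![x, w x, w (w x), y, z], ?_, ?_⟩, ⟨![y, z, x, w x, w (w x)], ?_, ?_⟩, ?_⟩
  · apply inj_of_lt
    intro i j hij
    fin_cases i <;> fin_cases j <;> first | exact absurd hij (by decide) | assumption | (apply Ne.symm; assumption)
  · intro i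
    fin_cases i
    · exact rfl
    · exact rfl
    · exact h3
    · exact y4
    · exact z4
  · apply inj_of_lt
    intro i j hij
    fin_cases i <;> fin_cases j <;> first | exact absurd hij (by decide) | assumption | (apply Ne.symm; assumption)
  · intro i
    fin_cases i
    · exact y4
    · exact z4
    · exact rfl
    · exact rfl
    · exact h3
  · intro h6
    obtain ⟨y, hy, z, hz, t, ht, hyz, hyt, hzt⟩ := Finset.two_lt_card.1 (show 2 < (Finset.univ \ {x, w x, w (w x)} : Finset α).card by omega)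
    obtain ⟨⟨y1, y2, y3⟩, y4⟩ := hS y hy
    obtain ⟨⟨z1, z2, z3⟩, z4⟩ := hS z hz
    obtain ⟨⟨t1, t2, t3⟩, t4⟩ := hS t ht
    refine ⟨![y, z, x, w x, t, w (w x)], ?_, ?_⟩
    · apply inj_of_lt
      intro i j hij
      fin_cases i <;> fin_cases j <;> first | exact absurd hij (by decide) | assumption | (apply Ne.symm; assumption)
    · intro i
      fin_cases i
      · exact y4
      · exact z4
      · exact rfl
      · exact rfl
      · exact t4
      · exact h3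

theorem emb6 {w : Perm α} (hw : w ^ 3 = 1) {x y : α} (hx : w x ≠ x)
    (hy : w y ≠ y) (h1 : y ≠ x) (h2 : y ≠ w x) (h3 : y ≠ w (w x)) :
    6 ≤ Fintype.card α ∧
    (∃ ι : Fin 6 → α, Function.Injective ι ∧ ∀ i, w (ι i) = ι (mu6 i)) ∧
    (∃ ι : Fin 6 → α, Function.Injective ι ∧ ∀ i, w (ι i) = ι (mx6 i)) := by
  obtain ⟨x3, x4, x5⟩ := cyc3 hw hx
  obtain ⟨y3, y4, y5⟩ := cyc3 hw hy
  have e1 : w y ≠ x := by intro h; apply h3; rw [← h, y3]
  have e2 : w y ≠ w x := by intro h; exact h1 (w.injective h)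
  have e3 : w y ≠ w (w x) := by intro h; exact h2 (w.injective h)
  have e4 : w (w y) ≠ x := by intro h; apply h2; rw [← h, y3]
  have e5 : w (w y) ≠ w x := by intro h; exact e1 (w.injective h)
  have e6 : w (w y) ≠ w (w x) := by intro h; exact e2 (w.injective h)
  have hinj : Function.Injective (![x, w x, w (w x), y, w y, w (w y)] : Fin 6 → α) := by
    apply inj_of_lt
    intro i j hij
    fin_cases i <;> fin_cases j <;> first | exact absurd hij (by decide) | assumption | (apply Ne.symm; assumption)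
  refine ⟨?_, ⟨_, hinj, ?_⟩, ⟨![x, w x, y, w (w x), w (w y), w y], ?_, ?_⟩⟩
  · have := Fintype.card_le_of_injective _ hinj
    rwa [Fintype.card_fin] at this
  · intro i
    fin_cases i
    · exact rfl
    · exact rfl
    · exact x3
    · exact rfl
    · exact rfl
    · exact y3
  · apply inj_of_lt
    intro i j hij
    fin_cases i <;> fin_cases j <;> first | exact absurd hij (by decide) | assumption | (apply Ne.symm; assumption)
  · intro i
    fin_cases i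
    · exact rfl
    · exact rfl
    · exact rfl
    · exact x3
    · exact y3
    · exact rfl

theorem main3 (hcard : 5 ≤ Fintype.card α) {u w : Perm α} (hu : u ^ 3 = 1) (hw : w ^ 3 = 1) (hu1 : u ≠ 1) (hw1 : w ≠ 1) :
    ∃ g : Perm α, sign g = 1 ∧ GoodPair 3 u (g * w * g⁻¹) := by
  have hp : Nat.Prime 3 := by norm_num
  obtain ⟨x, hx⟩ : ∃ x, u x ≠ x := by
    by_contra hcon
    push Not at hcon
    exact hu1 (Perm.ext hcon)
  obtain ⟨z, hz⟩ : ∃ x, w x ≠ x := by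
    by_contra hcon
    push Not at hcon
    exact hw1 (Perm.ext hcon)
  have hswap : (∃ g : Perm α, sign g = 1 ∧ GoodPair 3 w (g * u * g⁻¹)) →
      ∃ g : Perm α, sign g = 1 ∧ GoodPair 3 u (g * w * g⁻¹) := by
    rintro ⟨g, hg, h⟩
    refine ⟨g⁻¹, by rw [sign_inv, hg], ?_⟩
    have h2 := (h.conj g⁻¹).symm
    have h3 : g⁻¹ * (g * u * g⁻¹) * g⁻¹⁻¹ = u := by group
    rwa [h3] at h2
  by_cases hxf : ∀ y, y ≠ x → y ≠ u x → y ≠ u (u x) → u y = y
  · by_cases hzf : ∀ y, y ≠ z → y ≠ w z → y ≠ w (w z) → w y = y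
    · obtain ⟨⟨ι, hι, hι2⟩, -, -⟩ := emb5 hcard hu hx hxf
      obtain ⟨-, ⟨κ, hκ, hκ2⟩, -⟩ := emb5 hcard hw hz hzf
      exact model hp hι hκ hι2 hκ2 sign_one (sign_swap (by decide)) model5a model5b
    · push Not at hzf
      obtain ⟨t, t1, t2, t3, t4⟩ := hzf
      obtain ⟨h6, ⟨ι, hι, hι2⟩, -⟩ := emb6 hw hz t4 t1 t2 t3
      obtain ⟨-, -, h⟩ := emb5 hcard hu hx hxf
      obtain ⟨κ, hκ, hκ2⟩ := h h6
      exact hswap (model hp hι hκ hι2 hκ2 sign_one sign_mh6 model6a model6b)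
  · push Not at hxf
    obtain ⟨y, y1, y2, y3, y4⟩ := hxf
    obtain ⟨h6, ⟨ι, hι, hι2⟩, -⟩ := emb6 hu hx y4 y1 y2 y3
    by_cases hzf : ∀ y, y ≠ z → y ≠ w z → y ≠ w (w z) → w y = y
    · obtain ⟨-, -, h⟩ := emb5 hcard hw hz hzf
      obtain ⟨κ, hκ, hκ2⟩ := h h6
      exact model hp hι hκ hι2 hκ2 sign_one sign_mh6 model6a model6b
    · push Not at hzf
      obtain ⟨t, t1, t2, t3, t4⟩ := hzf
      obtain ⟨-, -, ⟨κ, hκ, hκ2⟩⟩ := emb6 hw hz t4 t1 t2 t3
      exact model hp hι hκ hι2 hκ2 sign_one sign_mh6 model6c model6d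

theorem main_le {p a b : ℕ} (hp : p.Prime) (hp3 : 3 ≤ p) (hcard : 5 ≤ Fintype.card α) {u w : Perm α}
    (hu : orderOf u = p ^ a) (hw : orderOf w = p ^ b) (hu1 : u ≠ 1) (hw1 : w ≠ 1) (hab : a ≤ b) :
    ∃ g : Perm α, sign g = 1 ∧ GoodPair p u (g * w * g⁻¹) := by
  by_cases h5 : 5 ≤ p ^ b
  · exact main_large hp hp3 hu hw hu1 hab h5
  have ha : a ≠ 0 := by
    rintro rfl
    rw [pow_zero, orderOf_eq_one_iff] at hu
    exact hu1 hu
  have hb1 : b = 1 := by
    by_contra hb1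
    have h1 : p ^ 2 ≤ p ^ b := Nat.pow_le_pow_right hp.pos (by omega)
    have h2 : 3 ^ 2 ≤ p ^ 2 := Nat.pow_le_pow_left hp3 2
    omega
  have ha1 : a = 1 := by omega
  rw [hb1, pow_one] at h5
  have hp3' : p = 3 := by
    have : p ≠ 4 := by rintro rfl; revert hp; norm_num
    omega
  subst hp3'
  subst ha1 hb1
  apply main3 hcard _ _ hu1 hw1
  · rw [← pow_orderOf_eq_one u, hu]; rfl
  · rw [← pow_orderOf_eq_one w, hw]; rfl

theorem main {p a b : ℕ} (hp : p.Prime) (hp3 : 3 ≤ p) (hcard : 5 ≤ Fintype.card α) {u w : Perm α}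
    (hu : orderOf u = p ^ a) (hw : orderOf w = p ^ b) (hu1 : u ≠ 1) (hw1 : w ≠ 1) :
    ∃ g : Perm α, sign g = 1 ∧ GoodPair p u (g * w * g⁻¹) := by
  rcases le_total a b with hab | hab
  · exact main_le hp hp3 hcard hu hw hu1 hw1 hab
  · obtain ⟨g, hg, h⟩ := main_le hp hp3 hcard hw hu hw1 hu1 hab
    refine ⟨g⁻¹, by rw [sign_inv, hg], ?_⟩
    have h2 := (h.conj g⁻¹).symm
    have h3 : g⁻¹ * (g * u * g⁻¹) * g⁻¹⁻¹ = u := by group
    rwa [h3] at h2

end Cfsg.Agent.Lib.H53Free
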