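import Mathlib
import Cfsg.Agent.S0215
import Cfsg.Agent.Lib.GroupUtil
import Cfsg.Agent.Lib.InvAct
import Cfsg.Agent.Lib.Cores

/-!
An involution commuting with none of its other conjugates: `G = C_G(j) O(G)` (seat helper53).
-/

set_option autoImplicit false

namespace Cfsg.Agent.Lib.H53Iso

open Subgroup

variable {G : Type*} [Group G] [Finite G]

/-- a Sylow 2-subgroup containing an isolated involution centralizes it -/
theorem sylow_le_centralizer (j : G) (hiso : ∀ g : G, (g * j * g⁻¹) * j = j * (g * j * g⁻¹) → g * j * g⁻¹ = j)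
    (P : Sylow 2 G) (hjP : j ∈ P) : (P : Subgroup G) ≤ centralizer ({j} : Set G) := by
  by_contra hcon
  have hlt : (P : Subgroup G) ⊓ centralizer ({j} : Set G) < P := by
    refine lt_of_le_of_ne inf_le_left fun h => hcon ?_
    rw [← h]; exact inf_le_right
  have h1 := GroupUtil.lt_inf_normalizer_of_isPGroup P.isPGroup' hlt
  obtain ⟨s, hs, hs'⟩ := SetLike.exists_of_lt h1
  obtain ⟨hsP, hsN⟩ := Subgroup.mem_inf.1 hs
  have hjD : j ∈ (P : Subgroup G) ⊓ centralizer ({j} : Set G) :=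
    Subgroup.mem_inf.2 ⟨hjP, mem_centralizer_singleton_iff.2 rfl⟩
  have h2 : s * j * s⁻¹ ∈ (P : Subgroup G) ⊓ centralizer ({j} : Set G) :=
    (Subgroup.mem_normalizer_iff.1 hsN j).1 hjD
  have h3 := hiso s (Subgroup.mem_centralizer_singleton_iff.1 h2.2)
  apply hs'
  refine Subgroup.mem_inf.2 ⟨hsP, ?_⟩
  rw [mem_centralizer_singleton_iff]
  exact mul_inv_eq_iff_eq_mul.1 h3

theorem centralizer_sup_of_isolated (j : G) (hj : orderOf j = 2)
    (hiso : ∀ g : G, (g * j * g⁻¹) * j = j * (g * j * g⁻¹) → g * j * g⁻¹ = j) :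
    centralizer ({j} : Set G) ⊔ pPrimeCore 2 G = ⊤ := by
  classical
  have : Fact (Nat.Prime 2) := ⟨Nat.prime_two⟩
  have hpj : IsPGroup 2 (zpowers j) := by
    apply IsPGroup.of_card (n := 1)
    rw [Nat.card_zpowers, hj, pow_one]
  obtain ⟨P, hP⟩ := hpj.exists_le_sylow
  have hjP : j ∈ P := hP (mem_zpowers j)
  have hle := sylow_le_centralizer j hiso P hjP
  obtain ⟨N, hN, hNo, hNc⟩ := Cfsg.Agent.S0215.result P j hj hjP (fun g hg =>
    hiso g (mem_centralizer_singleton_iff.1 (hle hg)))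
  have hNle : N ≤ pPrimeCore 2 G := Lib.Cores.le_pPrimeCore hN (Nat.coprime_two_right.2 hNo)
  rw [eq_top_iff]
  intro g _
  have hjinv : j⁻¹ = j := by
    rw [inv_eq_iff_mul_eq_one, ← pow_two, ← hj]; exact pow_orderOf_eq_one j
  have h1 : j * (g * j * g⁻¹) ∈ N := by
    have := hNc g
    rwa [hjinv, mul_assoc, mul_assoc, ← mul_assoc g] at this
  have h2 : Odd (orderOf (j * (g * j * g⁻¹))) := by
    have h3 := Subgroup.orderOf_dvd_natCard N h1
    exact Odd.of_dvd_nat hNo h3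
  obtain ⟨k, hk, -, -⟩ := Lib.InvAct.exists_conj_of_odd (t := j) (s := g * j * g⁻¹) hj
    (by rw [show g * j * g⁻¹ = MulAut.conj g j from rfl, MulEquiv.orderOf_eq, hj]) h2
  have h4 : (j * (g * j * g⁻¹)) ^ k ∈ N := pow_mem h1 k
  set m := (j * (g * j * g⁻¹)) ^ k with hm
  have h5 : m⁻¹ * g ∈ centralizer ({j} : Set G) := by
    rw [mem_centralizer_singleton_iff]
    calc m⁻¹ * g * j = m⁻¹ * (g * j * g⁻¹) * g := by group
      _ = m⁻¹ * (m * j * m⁻¹) * g := by rw [hk]
      _ = j * (m⁻¹ * g) := by group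
  have h6 : g = m * (m⁻¹ * g) := by group
  rw [h6]
  exact mul_mem (mem_sup_right (hNle h4)) (mem_sup_left h5)

end Cfsg.Agent.Lib.H53Iso
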