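import Cfsg.Agent.Lib.H53Prime2

/-!
Versions for non-affine groups of prime degree (helper53).
-/

set_option autoImplicit false

namespace Cfsg.Agent.Lib.H53Prime3

open MulAction Cfsg.Agent.Lib.PrimeDegree Cfsg.Agent.Lib.PrimeDegreeThree

theorem main' {G Ω : Type*} [Group G] [Finite G] [MulAction G Ω] [FaithfulSMul G Ω] [Finite Ω]
    (p : ℕ) (hp : p.Prime) (hΩ : Nat.card Ω = p) (htrans : MulAction.IsPretransitive G Ω)
    (P : Sylow p G) {σ : G} (hσP : σ ∈ P) (e : ZMod p ≃ Ω) (hσ : ∀ j, σ • e j = e (j + 1))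
    (hG : ¬ ∀ g : G, ∃ a b : ZMod p, ∀ j, g • e j = e (a * j + b))
    (hN : 2 * Nat.card ↥(Subgroup.normalizer ((P : Subgroup G) : Set G)) = p * (p - 1)) :
    MulAction.IsMultiplyPretransitive G Ω 3 ∨
    ∀ α β : Ω, α ≠ β →
      Nat.card (MulAction.orbitRel.Quotient ↥(MulAction.stabilizer G α ⊓ MulAction.stabilizer G β) Ω) = 4 := by
  classical
  have : Fact p.Prime := ⟨hp⟩
  by_cases h4 : ∀ α β : Ω, α ≠ β →
      Nat.card (MulAction.orbitRel.Quotient ↥(MulAction.stabilizer G α ⊓ MulAction.stabilizer G β) Ω) = 4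
  · exact Or.inr h4
  left
  push Not at h4
  obtain ⟨α, β, hαβ, hne⟩ := h4
  have hle := Cfsg.Agent.Lib.H53Prime.orbits_le hΩ P hσP e hσ hG hN α β hαβ
  have h2t : IsMultiplyPretransitive G Ω 2 := by
    rcases affine_or_two_transitive (G := G) e σ hσ with h | h
    · exact absurd h hG
    · exact h
  rw [is_two_pretransitive_iff] at h2t
  set S := stabilizer G α ⊓ stabilizer G β with hS
  let pr : Ω → orbitRel.Quotient ↥S Ω := fun z => Quotient.mk'' z
  have hpr : ∀ x y : Ω, pr x = pr y → ∃ s ∈ S, s • y = x := by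
    intro x y h
    have h1 : (orbitRel ↥S Ω) x y := Quotient.exact h
    obtain ⟨⟨s, hs⟩, hsy⟩ := h1
    exact ⟨s, hs, hsy⟩
  have hfix : ∀ s ∈ S, s • α = α ∧ s • β = β := fun s hs => ⟨hs.1, hs.2⟩
  have hkey : ∀ z w : Ω, z ≠ α → z ≠ β → w ≠ α → w ≠ β → ∃ s ∈ S, s • w = z := by
    intro z w hzα hzβ hwα hwβ
    by_contra hcon
    have h12 : pr α ≠ pr β := by
      intro h
      obtain ⟨s, hs, h1⟩ := hpr _ _ h
      rw [(hfix s hs).2] at h1
      exact hαβ h1.symm
    have h13 : pr α ≠ pr z := by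
      intro h
      obtain ⟨s, hs, h1⟩ := hpr _ _ h.symm
      rw [(hfix s hs).1] at h1
      exact hzα h1.symm
    have h14 : pr α ≠ pr w := by
      intro h
      obtain ⟨s, hs, h1⟩ := hpr _ _ h.symm
      rw [(hfix s hs).1] at h1
      exact hwα h1.symm
    have h23 : pr β ≠ pr z := by
      intro h
      obtain ⟨s, hs, h1⟩ := hpr _ _ h.symm
      rw [(hfix s hs).2] at h1
      exact hzβ h1.symm
    have h24 : pr β ≠ pr w := by
      intro h
      obtain ⟨s, hs, h1⟩ := hpr _ _ h.symm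
      rw [(hfix s hs).2] at h1
      exact hwβ h1.symm
    have h34 : pr z ≠ pr w := by
      intro h
      exact hcon (hpr _ _ h)
    have hf : Fintype (orbitRel.Quotient ↥S Ω) := Fintype.ofFinite _
    have h5 : ({pr α, pr β, pr z, pr w} : Finset (orbitRel.Quotient ↥S Ω)).card = 4 := by
      rw [Finset.card_insert_of_notMem, Finset.card_insert_of_notMem, Finset.card_pair h34]
      · simp [h23, h24]
      · simp [h12, h13, h14]
    have h6 := Finset.card_le_univ ({pr α, pr β, pr z, pr w} : Finset (orbitRel.Quotient ↥S Ω))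
    rw [h5, ← Nat.card_eq_fintype_card] at h6
    omega
  constructor
  intro x y
  have hx01 : x 0 ≠ x 1 := fun h => by simpa using x.injective h
  have hx02 : x 0 ≠ x 2 := fun h => by simpa using x.injective h
  have hx12 : x 1 ≠ x 2 := fun h => by simpa using x.injective h
  have hy01 : y 0 ≠ y 1 := fun h => by simpa using y.injective h
  have hy02 : y 0 ≠ y 2 := fun h => by simpa using y.injective h
  have hy12 : y 1 ≠ y 2 := fun h => by simpa using y.injective h
  obtain ⟨g, hg0, hg1⟩ := h2t hx01 hαβ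
  obtain ⟨k, hk0, hk1⟩ := h2t hy01 hαβ
  obtain ⟨s, hs, hsx⟩ := hkey (k • y 2) (g • x 2)
    (fun h => hy02 (MulAction.injective k (hk0.trans h.symm)))
    (fun h => hy12 (MulAction.injective k (hk1.trans h.symm)))
    (fun h => hx02 (MulAction.injective g (hg0.trans h.symm)))
    (fun h => hx12 (MulAction.injective g (hg1.trans h.symm)))
  refine ⟨k⁻¹ * s * g, ?_⟩
  ext i
  show (k⁻¹ * s * g) • x i = y i
  fin_cases i
  · show (k⁻¹ * s * g) • x 0 = y 0
    rw [mul_smul, mul_smul, hg0, (hfix s hs).1, ← hk0, inv_smul_smul]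
  · show (k⁻¹ * s * g) • x 1 = y 1
    rw [mul_smul, mul_smul, hg1, (hfix s hs).2, ← hk1, inv_smul_smul]
  · show (k⁻¹ * s * g) • x 2 = y 2
    rw [mul_smul, mul_smul, hsx, inv_smul_smul]


theorem block_contra' {G Ω : Type*} [Group G] [Finite G] [MulAction G Ω] [FaithfulSMul G Ω] [Finite Ω]
    (p : ℕ) (hp : p.Prime) (hΩ : Nat.card Ω = p) (htrans : MulAction.IsPretransitive G Ω)
    (P : Sylow p G) {σ : G} (hσP : σ ∈ P) (e : ZMod p ≃ Ω) (hσ : ∀ j, σ • e j = e (j + 1))
    (hG : ¬ ∀ g : G, ∃ a b : ZMod p, ∀ j, g • e j = e (a * j + b))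
    (hN : 2 * Nat.card ↥(Subgroup.normalizer ((P : Subgroup G) : Set G)) = p * (p - 1))
    (hp7 : 7 < p)
    (hodd : ¬ Even (Nat.card ↥(Subgroup.normalizer ((P : Subgroup G) : Set G))))
    (T : Ω → Ω → Ω → Prop)
    (hTinv : ∀ (g : G) (x y z : Ω), T x y z → T (g • x) (g • y) (g • z))
    (hTsymm : ∀ x y z, T x y z → T x z y)
    (hTtrans : ∀ x y z w, T x y z → T x z w → T x y w)
    (hTex : ∃ x y z, x ≠ y ∧ x ≠ z ∧ y ≠ z ∧ T x y z)
    (hTnex : ∃ x y z, x ≠ y ∧ x ≠ z ∧ y ≠ z ∧ ¬ T x y z) : False := by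
  classical
  have : Fact p.Prime := ⟨hp⟩
  have h2t : IsMultiplyPretransitive G Ω 2 := by
    rcases affine_or_two_transitive (G := G) e σ hσ with h | h
    · exact absurd h hG
    · exact h
  rw [is_two_pretransitive_iff] at h2t
  set N := Subgroup.normalizer ((P : Subgroup G) : Set G) with hNdef
  have hσN : σ ∈ N := Subgroup.le_normalizer hσP
  have hσn : ∀ (n : ℕ) (j : ZMod p), σ ^ n • e j = e (j + n) := by
    intro n
    induction n with
    | zero => intro j; simp
    | succ n ih => intro j; rw [pow_succ', mul_smul, ih, hσ]; push_cast; ring_nf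
  have htr : ∀ (g : G) (a b b' : ZMod p), (∀ j, g • e j = e (a * j + b)) → ∃ n : ℕ, ∀ j, (σ ^ n * g) • e j = e (a * j + b') := by
    intro g a b b' hg
    refine ⟨(b' - b).val, fun j => ?_⟩
    rw [mul_smul, hg, hσn, ZMod.natCast_zmod_val]
    congr 1
    ring
  let H : Set (ZMod p) := {a | ∃ n ∈ N, ∃ b, ∀ j, n • e j = e (a * j + b)}
  have hH1 : (1 : ZMod p) ∈ H := ⟨1, N.one_mem, 0, fun j => by simp⟩
  have hHmul : ∀ a ∈ H, ∀ b ∈ H, a * b ∈ H := by
    rintro a ⟨n, hn, b, hb⟩ a' ⟨n', hn', b', hb'⟩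
    refine ⟨n * n', N.mul_mem hn hn', a * b' + b, fun j => ?_⟩
    rw [mul_smul, hb', hb]
    congr 1
    ring
  have hH0 : (0 : ZMod p) ∉ H := by
    rintro ⟨n, hn, b, hb⟩
    have h1 := hb 0
    have h2 := hb 1
    rw [zero_mul] at h1 h2
    exact zero_ne_one (e.injective (MulAction.injective n (h1.trans h2.symm)))
  have hHinv : ∀ a ∈ H, a⁻¹ ∈ H := by
    rintro a ⟨n, hn, b, hb⟩
    have ha : a ≠ 0 := by rintro rfl; exact hH0 ⟨n, hn, b, hb⟩
    refine ⟨n⁻¹, N.inv_mem hn, -(a⁻¹ * b), fun j => ?_⟩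
    rw [inv_smul_eq_iff, hb]
    congr 1
    field_simp
    ring
  have hHaff : ∀ a ∈ H, ∀ b : ZMod p, ∃ g ∈ N, ∀ j : ZMod p, g • e j = e (a * j + b) := by
    rintro a ⟨n, hn, b, hb⟩ b'
    obtain ⟨k, hk⟩ := htr n a b b' hb
    exact ⟨σ ^ k * n, N.mul_mem (N.pow_mem hσN k) hn, hk⟩
  have hp2 : 2 < p := by omega
  have h2ne : (2 : ZMod p) ≠ 0 := by
    intro h
    have h1 : ((2 : ℕ) : ZMod p) = 0 := by exact_mod_cast h
    rw [ZMod.natCast_eq_zero_iff] at h1
    have := Nat.le_of_dvd (by norm_num) h1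
    omega
  have hHneg1 : (-1 : ZMod p) ∉ H := by
    intro h
    obtain ⟨g, hg, hg1⟩ := hHaff _ h 0
    apply hodd
    have h1 : g * g = 1 := by
      apply FaithfulSMul.eq_of_smul_eq_smul (α := Ω)
      intro x
      obtain ⟨j, rfl⟩ := e.surjective x
      rw [mul_smul, hg1, hg1, one_smul]
      congr 1
      ring
    have h3 : g ≠ 1 := by
      rintro rfl
      have h4 := hg1 1
      rw [one_smul] at h4
      have h5 := e.injective h4
      apply h2ne
      linear_combination h5
    have h4 : orderOf (⟨g, hg⟩ : N) = 2 := by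
      apply orderOf_eq_prime
      · rw [sq]; exact Subtype.ext h1
      · intro h; exact h3 (congrArg Subtype.val h)
    rw [even_iff_two_dvd, ← h4]
    exact orderOf_dvd_natCard _
  have hHnot : ∀ a ∈ H, -a ∉ H := by
    intro a ha hna
    apply hHneg1
    have ha0 : a ≠ 0 := by rintro rfl; exact hH0 ha
    have := hHmul _ hna _ (hHinv a ha)
    rwa [neg_mul, mul_inv_cancel₀ ha0] at this
  have hHcard : Nat.card N ≤ Nat.card H * p := by
    have h1 : ∀ n : N, ∃ ab : ZMod p × ZMod p, ab.1 ∈ H ∧ ∀ j, (n : G) • e j = e (ab.1 * j + ab.2) := by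
      rintro ⟨n, hn⟩
      obtain ⟨a, b, -, hab⟩ := normalizer_affine hΩ P hσP e hσ hn
      exact ⟨(a, b), ⟨n, hn, b, hab⟩, hab⟩
    choose f hf1 hf2 using h1
    have h3 : Nat.card (H × ZMod p) = Nat.card H * p := by
      rw [Nat.card_prod, Nat.card_zmod]
    rw [← h3]
    apply Nat.card_le_card_of_injective (fun n : N => ((⟨(f n).1, hf1 n⟩, (f n).2) : H × ZMod p))
    intro n m hnm
    simp only [Prod.mk.injEq, Subtype.mk.injEq] at hnm
    apply Subtype.ext
    apply FaithfulSMul.eq_of_smul_eq_smul (α := Ω)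
    intro x
    obtain ⟨j, rfl⟩ := e.surjective x
    rw [hf2, hf2, hnm.1, hnm.2]
  have hHor : ∀ a : ZMod p, a ≠ 0 → a ∈ H ∨ -a ∈ H := by
    intro a ha
    by_contra hcon
    push Not at hcon
    let F : Finset (ZMod p) := Finset.univ.filter (fun t => t ∈ H)
    let F' : Finset (ZMod p) := F.image (fun t => -t)
    have hF : F.card = Nat.card H := by
      rw [Nat.card_eq_fintype_card, Fintype.card_subtype]
    have hF' : F'.card = F.card := Finset.card_image_of_injective _ neg_injective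
    have hd : Disjoint F F' := by
      rw [Finset.disjoint_left]
      intro t ht ht'
      simp only [F, F', Finset.mem_image, Finset.mem_filter, Finset.mem_univ, true_and] at ht ht'
      obtain ⟨s, hs, rfl⟩ := ht'
      exact hHnot s hs ht
    have hsub : F ∪ F' ⊆ (Finset.univ : Finset (ZMod p)) \ {0, a} := by
      intro t ht
      simp only [F, F', Finset.mem_union, Finset.mem_image, Finset.mem_filter, Finset.mem_univ,
        true_and, Finset.mem_sdiff, Finset.mem_insert, Finset.mem_singleton, not_or] at ht ⊢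
      rcases ht with ht | ⟨s, hs, rfl⟩
      · exact ⟨fun h => hH0 (h ▸ ht), fun h => hcon.1 (h ▸ ht)⟩
      · refine ⟨fun h => hH0 ?_, fun h => hcon.2 ?_⟩
        · rw [neg_eq_zero] at h; rwa [h] at hs
        · rw [← h, neg_neg]; exact hs
    have h5 := Finset.card_le_card hsub
    rw [Finset.card_union_of_disjoint hd, hF', hF, Finset.card_sdiff_of_subset (Finset.subset_univ _),
      Finset.card_univ, ZMod.card, Finset.card_pair ha.symm] at h5
    have h6 : p * (p - 1) ≤ p * (2 * Nat.card H) := by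
      rw [← hN]
      calc 2 * Nat.card N ≤ 2 * (Nat.card H * p) := Nat.mul_le_mul_left _ hHcard
        _ = p * (2 * Nat.card H) := by ring
    have h7 := Nat.le_of_mul_le_mul_left h6 hp.pos
    omega
  -- the transported action
  let act : MulAction G (ZMod p) :=
    { smul := fun g j => e.symm (g • e j)
      one_smul := fun j => by
        show e.symm ((1 : G) • e j) = j
        rw [one_smul, Equiv.symm_apply_apply]
      mul_smul := fun g h j => by
        show e.symm ((g * h) • e j) = e.symm (g • e (e.symm (h • e j)))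
        rw [Equiv.apply_symm_apply, mul_smul] }
  have hact : ∀ (g : G) (j : ZMod p), e (g • j) = g • e j := fun g j => e.apply_symm_apply _
  have hact' : ∀ (g : G) (x : Ω), g • e.symm x = e.symm (g • x) := by
    intro g x
    show e.symm (g • e (e.symm x)) = _
    rw [Equiv.apply_symm_apply]
  refine Cfsg.Agent.Lib.H53Prime2.core (G := G) hp7 ?_ H hH1 hHmul hHor hHnot ?_ ?_
    (fun x y z => T (e x) (e y) (e z)) ?_ ?_ ?_ ?_ ?_
  · intro x y x' y' hxy hxy'
    obtain ⟨g, hg1, hg2⟩ := h2t (e.injective.ne hxy) (e.injective.ne hxy')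
    exact ⟨g, e.injective ((hact g x).trans hg1), e.injective ((hact g y).trans hg2)⟩
  · intro a ha b
    obtain ⟨g, hg, hg1⟩ := hHaff a ha b
    exact ⟨g, fun j => e.injective ((hact g j).trans (hg1 j))⟩
  · intro x y u v w hxy hux huy hvx hvy hwx hwy
    by_contra hcon
    push Not at hcon
    obtain ⟨c1, c2, c3⟩ := hcon
    have hαβ : e x ≠ e y := e.injective.ne hxy
    have hle := Cfsg.Agent.Lib.H53Prime.orbits_le hΩ P hσP e hσ hG hN (e x) (e y) hαβ
    set S := stabilizer G (e x) ⊓ stabilizer G (e y) with hS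
    let pr : Ω → orbitRel.Quotient ↥S Ω := fun z => Quotient.mk'' z
    have hpr : ∀ a b : Ω, pr a = pr b → ∃ s : G, s • e x = e x ∧ s • e y = e y ∧ s • a = b := by
      intro a b h
      have h1 : (orbitRel ↥S Ω) b a := Quotient.exact h.symm
      obtain ⟨⟨s, hs⟩, hsy⟩ := h1
      exact ⟨s, hs.1, hs.2, hsy⟩
    have hpr' : ∀ a b : ZMod p, (∀ s : G, s • x = x → s • y = y → s • a ≠ b) → pr (e a) ≠ pr (e b) := by
      intro a b h h1
      obtain ⟨s, hs1, hs2, hs3⟩ := hpr _ _ h1
      exact h s (e.injective ((hact s x).trans hs1)) (e.injective ((hact s y).trans hs2))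
        (e.injective ((hact s a).trans hs3))
    have hx : ∀ b : ZMod p, b ≠ x → pr (e x) ≠ pr (e b) := fun b hb =>
      hpr' x b (fun s hs _ h => hb (h.symm.trans hs))
    have hy : ∀ b : ZMod p, b ≠ y → pr (e y) ≠ pr (e b) := fun b hb =>
      hpr' y b (fun s _ hs h => hb (h.symm.trans hs))
    have h12 := hx y hxy.symm
    have h13 := hx u hux
    have h14 := hx v hvx
    have h15 := hx w hwx
    have h23 := hy u huy
    have h24 := hy v hvy
    have h25 := hy w hwy
    have h34 := hpr' u v c1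
    have h35 := hpr' u w c2
    have h45 := hpr' v w c3
    have hf : Fintype (orbitRel.Quotient ↥S Ω) := Fintype.ofFinite _
    have h5 : ({pr (e x), pr (e y), pr (e u), pr (e v), pr (e w)} :
        Finset (orbitRel.Quotient ↥S Ω)).card = 5 := by
      rw [Finset.card_insert_of_notMem, Finset.card_insert_of_notMem, Finset.card_insert_of_notMem,
        Finset.card_pair h45]
      · simp [h34, h35]
      · simp [h23, h24, h25]
      · simp [h12, h13, h14, h15]
    have h6 := Finset.card_le_univ ({pr (e x), pr (e y), pr (e u), pr (e v), pr (e w)} :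
        Finset (orbitRel.Quotient ↥S Ω))
    rw [h5, ← Nat.card_eq_fintype_card] at h6
    omega
  · intro g x y z h
    rw [hact, hact, hact]
    exact hTinv g _ _ _ h
  · intro x y z h
    exact hTsymm _ _ _ h
  · intro x y z w h1 h3
    exact hTtrans _ _ _ _ h1 h3
  · obtain ⟨x, y, z, h1, h3, h4, h5⟩ := hTex
    exact ⟨e.symm x, e.symm y, e.symm z, e.symm.injective.ne h1, e.symm.injective.ne h3,
      e.symm.injective.ne h4, by simpa only [Equiv.apply_symm_apply] using h5⟩
  · obtain ⟨x, y, z, h1, h3, h4, h5⟩ := hTnex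
    exact ⟨e.symm x, e.symm y, e.symm z, e.symm.injective.ne h1, e.symm.injective.ne h3,
      e.symm.injective.ne h4, by simpa only [Equiv.apply_symm_apply] using h5⟩


end Cfsg.Agent.Lib.H53Prime3
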