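import Mathlib
import Cfsg.Agent.Lib.GLBruhat
import Cfsg.Agent.Lib.GL4A8

/-!
Subgroups of `GL₄(2)` containing a Sylow 2-subgroup and without normal 2-subgroups (seat helper53).
-/

set_option autoImplicit false

namespace Cfsg.Agent.Lib.H53Sub8a

open Matrix Cfsg Cfsg.Agent.Lib.GLBruhat
open scoped MatrixGroups

abbrev M4 := Matrix (Fin 4) (Fin 4) (ZMod 2)
abbrev G4 := GL (Fin 4) (ZMod 2)

/-- upper unitriangular matrices -/
def um (x : Fin 6 → ZMod 2) : M4 :=
  !![1, x 0, x 1, x 2; 0, 1, x 3, x 4; 0, 0, 1, x 5; 0, 0, 0, 1]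

theorem um_pow : ∀ x, um x ^ 4 = 1 := by decide +kernel

/-- as elements of `GL` -/
def umG (x : Fin 6 → ZMod 2) : G4 where
  val := um x
  inv := um x ^ 3
  val_inv := by rw [← pow_succ', um_pow]
  inv_val := by rw [← pow_succ, um_pow]

theorem umG_injective : Function.Injective umG := by
  intro x y h
  have h1 : um x = um y := congrArg (fun z : G4 => (z : M4)) h
  have e : ∀ i j, um x i j = um y i j := fun i j => by rw [h1]
  funext i
  fin_cases i
  · exact e 0 1
  · exact e 0 2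
  · exact e 0 3
  · exact e 1 2
  · exact e 1 3
  · exact e 2 3

abbrev U : Subgroup G4 := upperTriangularGL 4 (ZMod 2)

theorem mem_U_iff (g : G4) : g ∈ U ↔ ∀ i j : Fin 4, j < i → (g : M4) i j = 0 := by
  constructor
  · intro h i j hij
    exact h hij
  · intro h i j hij
    exact h i j hij

theorem ne_zero_eq_one : ∀ x : ZMod 2, x ≠ 0 → x = 1 := by decide

theorem exists_um {g : G4} (hg : g ∈ U) : ∃ x, g = umG x := by
  rw [mem_U_iff] at hg
  have hd : ∀ i, (g : M4) i i = 1 := by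
    have h1 : (g : M4).det ≠ 0 := GL4A8.det_ne_zero g
    rw [Matrix.det_of_isUpperTriangular (fun i j hij => hg i j hij), Finset.prod_ne_zero_iff] at h1
    intro i
    exact ne_zero_eq_one _ (h1 i (Finset.mem_univ _))
  refine ⟨![(g : M4) 0 1, (g : M4) 0 2, (g : M4) 0 3, (g : M4) 1 2, (g : M4) 1 3, (g : M4) 2 3], ?_⟩
  apply Units.ext
  change (g : M4) = um _
  ext i j
  fin_cases i <;> fin_cases j
  · exact hd 0
  · rfl
  · rfl
  · rfl
  · exact hg 1 0 (by decide)
  · exact hd 1
  · rfl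
  · rfl
  · exact hg 2 0 (by decide)
  · exact hg 2 1 (by decide)
  · exact hd 2
  · rfl
  · exact hg 3 0 (by decide)
  · exact hg 3 1 (by decide)
  · exact hg 3 2 (by decide)
  · exact hd 3

theorem umG_mem (x : Fin 6 → ZMod 2) : umG x ∈ U := by
  rw [mem_U_iff]
  intro i j hij
  change um x i j = 0
  revert hij
  fin_cases i <;> fin_cases j <;> simp [um]

theorem pow_four {g : G4} (hg : g ∈ U) : g ^ 4 = 1 := by
  obtain ⟨x, rfl⟩ := exists_um hg
  apply Units.ext
  exact um_pow x

theorem isPGroup_U : IsPGroup 2 U := by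
  intro g
  exact ⟨2, Subtype.ext (pow_four g.2)⟩

theorem card_U : Nat.card U = 64 := by
  have : Fact (Nat.Prime 2) := ⟨Nat.prime_two⟩
  have e : (Fin 6 → ZMod 2) ≃ U := Equiv.ofBijective (fun x => ⟨umG x, umG_mem x⟩) (by
    constructor
    · intro x y h
      exact umG_injective (congrArg Subtype.val h)
    · rintro ⟨g, hg⟩
      obtain ⟨x, rfl⟩ := exists_um hg
      exact ⟨x, rfl⟩)
  rw [← Nat.card_congr e]
  simp

/-- root elements -/
def t (i j : Fin 4) (h : i ≠ j) : G4 where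
  val := Matrix.transvection i j 1
  inv := Matrix.transvection i j 1
  val_inv := by
    rw [Matrix.transvection_mul_transvection_same _ _ h]
    have : (1 : ZMod 2) + 1 = 0 := by decide
    rw [this, Matrix.transvection_zero]
  inv_val := by
    rw [Matrix.transvection_mul_transvection_same _ _ h]
    have : (1 : ZMod 2) + 1 = 0 := by decide
    rw [this, Matrix.transvection_zero]

theorem t_mem_U {i j : Fin 4} (h : i < j) : t i j h.ne ∈ U := by
  rw [mem_U_iff]
  intro a b hab
  change (Matrix.transvection i j (1 : ZMod 2)) a b = 0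
  rw [Matrix.transvection, Matrix.add_apply, Matrix.one_apply_ne hab.ne', zero_add, Matrix.single_apply,
    if_neg]
  rintro ⟨rfl, rfl⟩
  exact absurd h (by exact lt_asymm hab)

theorem conj_perm_aux : ∀ (w : Equiv.Perm (Fin 4)) (i j : Fin 4), i ≠ j →
    permHom 4 (ZMod 2) w * Matrix.transvection i j 1 = Matrix.transvection (w i) (w j) 1 * permHom 4 (ZMod 2) w := by
  decide +kernel

theorem conj_perm (w : Equiv.Perm (Fin 4)) (i j : Fin 4) (h : i ≠ j) :
    permGL 4 (ZMod 2) w * t i j h * (permGL 4 (ZMod 2) w)⁻¹ = t (w i) (w j) (fun e => h (w.injective e)) := by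
  rw [mul_inv_eq_iff_eq_mul]
  apply Units.ext
  exact conj_perm_aux w i j h

theorem comm_t : ∀ i j k : Fin 4, ∀ (h1 : i ≠ j) (h2 : j ≠ k) (h3 : i ≠ k),
    t i j h1 * t j k h2 * (t i j h1)⁻¹ * (t j k h2)⁻¹ = t i k h3 := by
  intro i j k h1 h2 h3
  apply Units.ext
  revert i j k
  decide +kernel

theorem exists_cross : ∀ (k : Fin 4) (w : Equiv.Perm (Fin 4)), (∃ i, i < k ∧ k ≤ w i) → ∃ j, k ≤ j ∧ w j < k := by
  decide +kernel

/-- `t k (k-1)` -/
theorem lower_mem {H : Subgroup G4} (hU : U ≤ H) (k l : Fin 4) (hlk : l < k) (hs : ∀ c : Fin 4, c < k → c ≤ l)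
    (w : Equiv.Perm (Fin 4)) (hw : permGL 4 (ZMod 2) w ∈ H) (hc : ∃ i, i < k ∧ k ≤ w i) : t k l hlk.ne' ∈ H := by
  obtain ⟨j, hj1, hj2⟩ := exists_cross k w hc
  obtain ⟨i, hi1, hi2⟩ := hc
  have hij : i < j := lt_of_lt_of_le hi1 hj1
  have h1 : t i j hij.ne ∈ H := hU (t_mem_U hij)
  have h2 := H.mul_mem (H.mul_mem hw h1) (H.inv_mem hw)
  rw [conj_perm] at h2
  have hab : w j < w i := lt_of_lt_of_le hj2 hi2
  -- row
  have h3 : t k (w j) (ne_of_gt hj2) ∈ H := by
    rcases eq_or_lt_of_le hi2 with h | h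
    · have : t k (w j) (ne_of_gt hj2) = t (w i) (w j) (fun e => hij.ne (w.injective e)) := by
        congr 1
      rw [this]; exact h2
    · have h4 : t k (w i) h.ne ∈ H := hU (t_mem_U h)
      have h5 := H.mul_mem (H.mul_mem (H.mul_mem h4 h2) (H.inv_mem h4)) (H.inv_mem h2)
      rw [comm_t k (w i) (w j) h.ne (fun e => hij.ne (w.injective e)) (ne_of_gt hj2)] at h5
      exact h5
  rcases eq_or_lt_of_le (hs _ hj2) with h | h
  · have : t k l hlk.ne' = t k (w j) (ne_of_gt hj2) := by congr 1; exact h.symm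
    rw [this]; exact h3
  · have h4 : t (w j) l h.ne ∈ H := hU (t_mem_U h)
    have h5 := H.mul_mem (H.mul_mem (H.mul_mem h3 h4) (H.inv_mem h3)) (H.inv_mem h4)
    rw [comm_t k (w j) l (ne_of_gt hj2) h.ne hlk.ne'] at h5
    exact h5

theorem swap_eq_aux : ∀ i j : Fin 4, i ≠ j →
    (Matrix.transvection i j 1 * Matrix.transvection j i 1 * Matrix.transvection i j 1 : M4) =
      permHom 4 (ZMod 2) (Equiv.swap i j) := by decide +kernel

theorem swap_mem {H : Subgroup G4} {i j : Fin 4} (h : i ≠ j) (h1 : t i j h ∈ H) (h2 : t j i h.symm ∈ H) :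
    permGL 4 (ZMod 2) (Equiv.swap i j) ∈ H := by
  have : permGL 4 (ZMod 2) (Equiv.swap i j) = t i j h * t j i h.symm * t i j h := by
    apply Units.ext
    exact (swap_eq_aux i j h).symm
  rw [this]
  exact H.mul_mem (H.mul_mem h1 h2) h1

/-- if all lower simple root elements are there, everything is -/
theorem eq_top_of_lower {H : Subgroup G4} (hU : U ≤ H)
    (h : ∀ k l : Fin 4, (hlk : l < k) → (∀ c : Fin 4, c < k → c ≤ l) → t k l hlk.ne' ∈ H) : H = ⊤ := by
  have hw : ∀ w : Equiv.Perm (Fin 4), permGL 4 (ZMod 2) w ∈ H := by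
    intro w
    have h1 : w ∈ Submonoid.closure (Set.range fun i : Fin 3 ↦ Equiv.swap i.castSucc i.succ) := by
      rw [Equiv.Perm.mclosure_swap_castSucc_succ]; exact Submonoid.mem_top _
    induction h1 using Submonoid.closure_induction with
    | mem x hx =>
      obtain ⟨i, rfl⟩ := hx
      have h2 : (i.castSucc : Fin 4) < i.succ := Fin.castSucc_lt_succ
      refine swap_mem h2.ne (hU (t_mem_U h2)) (h _ _ h2 ?_)
      intro c hc
      exact Fin.le_castSucc_iff.2 hc
    | one => rw [map_one]; exact one_mem _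
    | mul x y _ _ hx hy => rw [map_mul]; exact mul_mem hx hy
  rw [eq_top_iff]
  intro g _
  obtain ⟨w, u, hu, v, hv, rfl⟩ := bruhat g
  exact mul_mem (mul_mem (hU hu) (hw w)) (hU hv)

/-- a subgroup containing `U` is everything or stabilizes one of the three standard subspaces -/
theorem eq_top_or_parabolic {H : Subgroup G4} (hU : U ≤ H) :
    H = ⊤ ∨ ∃ k l : Fin 4, l < k ∧ ∀ g ∈ H, ∀ i j : Fin 4, k ≤ i → j < k → (g : M4) i j = 0 := by
  by_cases hall : ∀ k l : Fin 4, (hlk : l < k) → (∀ c : Fin 4, c < k → c ≤ l) → t k l hlk.ne' ∈ H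
  · exact Or.inl (eq_top_of_lower hU hall)
  · push Not at hall
    obtain ⟨k, l, hlk, hs, hnot⟩ := hall
    refine Or.inr ⟨k, l, hlk, ?_⟩
    intro g hg i j hi hj
    obtain ⟨w, u, hu, v, hv, rfl⟩ := bruhat g
    have hw : permGL 4 (ZMod 2) w ∈ H := by
      have h1 := mul_mem (mul_mem (inv_mem (hU hu)) hg) (inv_mem (hU hv))
      have h2 : u⁻¹ * (u * permGL 4 (ZMod 2) w * v) * v⁻¹ = permGL 4 (ZMod 2) w := by group
      rwa [h2] at h1
    have hpres : ∀ a, a < k → w a < k := by
      intro a ha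
      by_contra hcon
      exact hnot (lower_mem hU k l hlk hs w hw ⟨a, ha, not_lt.1 hcon⟩)
    rw [Units.val_mul, Units.val_mul, Matrix.mul_apply]
    apply Finset.sum_eq_zero
    intro b _
    by_cases hb : b < k
    · have : ((u : M4) * ((permGL 4 (ZMod 2) w : G4) : M4)) i b = 0 := by
        rw [mul_permGL]
        exact (mem_U_iff u).1 hu _ _ (lt_of_lt_of_le (hpres b hb) hi)
      rw [this, zero_mul]
    · have : (v : M4) b j = 0 := (mem_U_iff v).1 hv _ _ (lt_of_lt_of_le hj (not_lt.1 hb))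
      rw [this, mul_zero]

/-- block-diagonal part -/
def bd (k : Fin 4) (A : M4) : M4 := fun i j => if (i < k ↔ j < k) then A i j else 0

theorem bd_mul (k : Fin 4) (A B : M4) (hA : ∀ i j : Fin 4, k ≤ i → j < k → A i j = 0)
    (hB : ∀ i j : Fin 4, k ≤ i → j < k → B i j = 0) : bd k (A * B) = bd k A * bd k B := by
  ext i j
  rw [Matrix.mul_apply]
  by_cases hi : i < k <;> by_cases hj : j < k
  · rw [bd, if_pos (by tauto), Matrix.mul_apply]
    apply Finset.sum_congr rfl
    intro l _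
    by_cases hl : l < k
    · rw [bd, bd, if_pos (by tauto), if_pos (by tauto)]
    · rw [hB l j (not_lt.1 hl) hj, mul_zero, bd, bd, if_neg (by tauto), zero_mul]
  · rw [bd, if_neg (by tauto)]
    symm
    apply Finset.sum_eq_zero
    intro l _
    by_cases hl : l < k
    · rw [bd, bd, if_neg (c := (l < k ↔ j < k)) (by tauto), mul_zero]
    · rw [bd, bd, if_neg (c := (i < k ↔ l < k)) (by tauto), zero_mul]
  · rw [bd, if_neg (by tauto)]
    symm
    apply Finset.sum_eq_zero
    intro l _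
    by_cases hl : l < k
    · rw [bd, bd, if_neg (c := (i < k ↔ l < k)) (by tauto), zero_mul]
    · rw [bd, bd, if_neg (c := (l < k ↔ j < k)) (by tauto), mul_zero]
  · rw [bd, if_pos (by tauto), Matrix.mul_apply]
    apply Finset.sum_congr rfl
    intro l _
    by_cases hl : l < k
    · rw [hA i l (not_lt.1 hi) hl, zero_mul, bd, bd, if_neg (c := (i < k ↔ l < k)) (by tauto), zero_mul]
    · rw [bd, bd, if_pos (by tauto), if_pos (by tauto)]

theorem bd_one (k : Fin 4) : bd k 1 = 1 := by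
  revert k; decide +kernel

theorem bd_t03 : ∀ k : Fin 4, 0 < k → bd k (Matrix.transvection 0 3 1) = 1 := by decide +kernel

theorem exists_normal {H : Subgroup G4} (hU : U ≤ H) {k l : Fin 4} (hlk : l < k)
    (hpar : ∀ g ∈ H, ∀ i j : Fin 4, k ≤ i → j < k → (g : M4) i j = 0) :
    ∃ N : Subgroup H, N.Normal ∧ IsPGroup 2 N ∧ N ≠ ⊥ := by
  let φ : H →* M4 :=
    { toFun := fun g => bd k ((g : G4) : M4)
      map_one' := bd_one k
      map_mul' := fun g h => bd_mul k _ _ (hpar g g.2) (hpar h h.2) }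
  refine ⟨φ.ker, inferInstance, ?_, ?_⟩
  · intro g
    refine ⟨2, ?_⟩
    apply Subtype.ext; apply Subtype.ext
    have hg : bd k (((g : H) : G4) : M4) = 1 := g.2
    have : ((g : H) : G4) ∈ U := by
      rw [mem_U_iff]
      intro i j hij
      by_cases hi : i < k <;> by_cases hj : j < k
      · have := congrFun (congrFun hg i) j
        rw [bd, if_pos (by tauto), Matrix.one_apply_ne hij.ne'] at this
        exact this
      · exact absurd (lt_trans hij hi) hj
      · exact hpar _ (g : H).2 i j (not_lt.1 hi) hj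
      · have := congrFun (congrFun hg i) j
        rw [bd, if_pos (by tauto), Matrix.one_apply_ne hij.ne'] at this
        exact this
    exact pow_four this
  · intro hb
    have h03 : (0 : Fin 4) < 3 := by decide
    have h1 : (⟨t 0 3 h03.ne, hU (t_mem_U h03)⟩ : H) ∈ φ.ker := by
      rw [MonoidHom.mem_ker]
      exact bd_t03 k (lt_of_le_of_lt (Fin.zero_le _) hlk)
    rw [hb, Subgroup.mem_bot] at h1
    have h2 : (Matrix.transvection 0 3 1 : M4) = 1 := congrArg (fun z : H => ((z : G4) : M4)) h1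
    exact absurd h2 (by decide)

theorem exp_le {k : ℕ} (h : 2 ^ k ∣ 20160) : k ≤ 6 := by
  by_contra hcon
  push Not at hcon
  have h1 : 2 ^ 7 ∣ 20160 := (pow_dvd_pow 2 hcon).trans h
  norm_num at h1

/-- a 2-subgroup of order 64 is conjugate to `U` -/
theorem exists_conj {P : Subgroup G4} (hP : Nat.card P = 64) :
    ∃ g : G4, U = P.map (MulAut.conj g).toMonoidHom := by
  have : Fact (Nat.Prime 2) := ⟨Nat.prime_two⟩
  have hfull : ∀ {X : Subgroup G4}, Nat.card X = 64 → ∃ Q : Sylow 2 G4, (Q : Subgroup G4) = X := by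
    intro X hX
    have hp : IsPGroup 2 X := IsPGroup.of_card (n := 6) (by rw [hX]; norm_num)
    obtain ⟨Q, hQ⟩ := hp.exists_le_sylow
    obtain ⟨k, hk⟩ := Q.isPGroup'.exists_card_eq
    have h1 : Nat.card Q ∣ 20160 := by rw [← GL4A8.card_GL4]; exact Subgroup.card_subgroup_dvd_card _
    rw [hk] at h1
    have h2 := exp_le h1
    refine ⟨Q, (Subgroup.eq_of_le_of_card_ge hQ ?_).symm⟩
    rw [hX, hk]
    calc 2 ^ k ≤ 2 ^ 6 := Nat.pow_le_pow_right (by norm_num) h2
      _ = 64 := by norm_num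
  obtain ⟨Q1, hQ1⟩ := hfull card_U
  obtain ⟨Q2, hQ2⟩ := hfull hP
  obtain ⟨g, hg⟩ := MulAction.exists_smul_eq G4 Q2 Q1
  refine ⟨g, ?_⟩
  rw [← hQ1, ← hQ2, ← hg]
  rfl

/-- a subgroup of `GL₄(2)` of order divisible by 64 and without normal 2-subgroups is everything -/
theorem eq_top_of_sixtyfour {H : Subgroup G4} (h64 : 64 ∣ Nat.card H)
    (h2 : ∀ N : Subgroup H, N.Normal → IsPGroup 2 N → N = ⊥) : H = ⊤ := by
  have : Fact (Nat.Prime 2) := ⟨Nat.prime_two⟩
  obtain ⟨P, hP⟩ := Sylow.exists_subgroup_card_pow_prime (G := H) 2 (n := 6) (by norm_num; exact h64)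
  have hP' : Nat.card (P.map H.subtype) = 64 := by
    rw [Nat.card_congr (P.equivMapOfInjective _ H.subtype_injective).toEquiv.symm, hP]; norm_num
  obtain ⟨g, hg⟩ := exists_conj hP'
  set H' : Subgroup G4 := H.map (MulAut.conj g).toMonoidHom with hH'
  have hU : U ≤ H' := by
    rw [hg, hH']
    exact Subgroup.map_mono (Subgroup.map_subtype_le P)
  let e : H ≃* H' := H.equivMapOfInjective _ (MulAut.conj g).injective
  rcases eq_top_or_parabolic hU with h | ⟨k, l, hlk, hpar⟩
  · have h3 : Nat.card H = Nat.card G4 := by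
      rw [Nat.card_congr e.toEquiv, h, Nat.card_congr (Subgroup.topEquiv).toEquiv]
    exact Subgroup.eq_top_of_card_eq _ h3
  · exfalso
    obtain ⟨N, hN, hNp, hNb⟩ := exists_normal hU hlk hpar
    have h3 := h2 (N.map e.symm.toMonoidHom) (hN.map _ e.symm.surjective) (hNp.map _)
    apply hNb
    rw [eq_bot_iff]
    intro x hx
    have h4 : e.symm x ∈ N.map e.symm.toMonoidHom := ⟨x, hx, rfl⟩
    rw [h3, Subgroup.mem_bot] at h4
    rw [Subgroup.mem_bot]
    exact (MulEquiv.map_eq_one_iff e.symm).1 h4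

end Cfsg.Agent.Lib.H53Sub8a
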