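import Mathlib
import Cfsg.Agent.Lib.H53Sub8b
import Cfsg.Agent.S0989
import Cfsg.Agent.S0713

/-!
Permutation groups of degree 6 (order 120) and 8 without solvable normal subgroups (seat helper53).
-/

set_option autoImplicit false

namespace Cfsg.Agent.Lib.H53Sub8c

open Equiv MulAction Cfsg.Agent.Lib.H53Sub8b
open scoped Pointwise

universe u

variable {α : Type u} [Fintype α] [DecidableEq α]

/-- a subgroup of index 6 of `S₆` which does not contain `A₆` is isomorphic to `S₅` -/
theorem deg6_iso (hα : Fintype.card α = 6) (G : Subgroup (Perm α)) (hc : Nat.card G = 120) :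
    Nonempty (G ≃* Perm (Fin 5)) := by
  classical
  have hcard := Subgroup.card_mul_index G
  rw [Nat.card_perm, Nat.card_eq_fintype_card (α := α), hα, hc] at hcard
  have hf : Nat.factorial 6 = 720 := by decide
  rw [hf] at hcard
  have hidx : G.index = 6 := by omega
  have hnt : Nontrivial α := Fintype.one_lt_card_iff_nontrivial.1 (by omega)
  have hna : ¬ alternatingGroup α ≤ G := by
    intro h
    have h1 := Subgroup.card_le_of_le h
    have h2 := two_mul_nat_card_alternatingGroup (α := α)
    rw [Nat.card_perm, Nat.card_eq_fintype_card (α := α), hα, hf] at h2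
    omega
  let X := Perm α ⧸ G
  let x0 : X := ((1 : Perm α) : X)
  have hfix : ∀ g ∈ G, g • x0 = x0 := by
    intro g hg
    change ((g * 1 : Perm α) : X) = ((1 : Perm α) : X)
    rw [mul_one, QuotientGroup.eq, mul_one]
    exact inv_mem hg
  let Y := {x : X // x ≠ x0}
  let f : G →* Perm Y :=
    { toFun := fun g =>
        { toFun := fun y => ⟨(g : Perm α) • y.1, fun h => y.2 (smul_left_cancel (g : Perm α) (h.trans (hfix g g.2).symm))⟩
          invFun := fun y => ⟨(g : Perm α)⁻¹ • y.1, fun h => y.2 (by
            rw [inv_smul_eq_iff, hfix g g.2] at h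
            exact h)⟩
          left_inv := fun y => Subtype.ext (inv_smul_smul _ _)
          right_inv := fun y => Subtype.ext (smul_inv_smul _ _) }
      map_one' := by
        apply Equiv.ext; intro y; apply Subtype.ext
        exact one_smul _ _
      map_mul' := fun g h => by
        apply Equiv.ext; intro y; apply Subtype.ext
        exact mul_smul (g : Perm α) (h : Perm α) y.1 }
  have hinj : Function.Injective f := by
    rw [injective_iff_map_eq_one]
    intro g hg
    have h1 : (g : Perm α) ∈ (MulAction.toPermHom (Perm α) X).ker := by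
      rw [MonoidHom.mem_ker]
      apply Equiv.ext
      intro x
      by_cases hx : x = x0
      · rw [hx]; exact hfix g g.2
      · have := congrArg (fun σ : Perm Y => ((σ ⟨x, hx⟩ : Y) : X)) hg
        exact this
    have h2 : (MulAction.toPermHom (Perm α) X).ker = ⊥ := by
      rw [← Subgroup.normalCore_eq_ker]
      by_contra hb
      have hnt : Nontrivial G.normalCore := (Subgroup.nontrivial_iff_ne_bot _).2 hb
      exact hna ((Equiv.Perm.alternatingGroup_le_of_normal (by rw [Nat.card_eq_fintype_card, hα]; norm_num) hnt).trans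
        (Subgroup.normalCore_le G))
    rw [h2, Subgroup.mem_bot] at h1
    exact Subtype.ext h1
  have hX : Nat.card X = 6 := by rw [← Subgroup.index_eq_card]; exact hidx
  have hY : Nat.card Y = 5 := by
    have h1 : Nat.card Y = Nat.card X - 1 := by
      have := Fintype.ofFinite X
      rw [Nat.card_eq_fintype_card, Nat.card_eq_fintype_card]
      rw [Fintype.card_subtype_compl (fun x => x = x0), Fintype.card_subtype_eq]
    omega
  have hPY : Nat.card (Perm Y) = 120 := by
    rw [Nat.card_perm, hY]; decide
  have hbij : Function.Bijective f := (Nat.bijective_iff_injective_and_card f).2 ⟨hinj, by rw [hc, hPY]⟩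
  have e1 : G ≃* Perm Y := MulEquiv.ofBijective f hbij
  have e2 : Y ≃ Fin 5 := Finite.equivFinOfCardEq hY
  exact ⟨e1.trans e2.permCongrHom⟩

/-- an imprimitive group of degree 8 is solvable -/
theorem solvable_of_imprimitive (hα : Fintype.card α = 8) (G : Subgroup (Perm α)) [IsPretransitive G α]
    (h : ¬ IsPreprimitive G α) : Group.IsSolvable G := by
  classical
  have : ∃ B : Set α, IsBlock G B ∧ ¬ B.Subsingleton ∧ B ≠ Set.univ := by
    by_contra hcon
    push Not at hcon
    apply h
    exact { isTrivialBlock_of_isBlock := fun {B} hB => by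
              by_cases hs : B.Subsingleton
              · exact Or.inl hs
              · exact Or.inr (hcon B hB (Set.not_subsingleton_iff.1 hs)) }
  obtain ⟨B, hB, hns, hnu⟩ := this
  have hne : B.Nonempty := (Set.not_subsingleton_iff.1 hns).nonempty
  have h1 := hB.ncard_block_mul_ncard_orbit_eq hne
  rw [Nat.card_eq_fintype_card (α := α), hα] at h1
  have h2 : 2 ≤ B.ncard := Set.one_lt_ncard_iff_nontrivial.2 (Set.not_subsingleton_iff.1 hns)
  have h3 : B.ncard ≤ 4 := by
    by_contra hcon
    push Not at hcon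
    apply hnu
    apply hB.eq_univ_of_card_lt
    rw [Nat.card_eq_fintype_card (α := α), hα]; omega
  have h4 : (orbit G B).ncard ≤ 4 := by
    by_contra hcon
    push Not at hcon
    have : 2 * 5 ≤ B.ncard * (orbit G B).ncard := Nat.mul_le_mul h2 hcon
    omega
  let φ := MulAction.toPermHom G (orbit G B)
  have hq : Group.IsSolvable (Perm (orbit G B)) := SwapOrbits.isSolvable_perm_of_card_le_four (by
    rw [Nat.card_coe_set_eq]; exact h4)
  have hk : Group.IsSolvable φ.ker := by
    let N' : Subgroup (Perm α) := φ.ker.map G.subtype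
    have e : φ.ker ≃* N' := φ.ker.equivMapOfInjective _ G.subtype_injective
    have hN' : Group.IsSolvable N' := by
      apply SwapOrbits.isSolvable_of_orbits_le_four
      intro x
      obtain ⟨b, hb⟩ := hne
      obtain ⟨g, hg⟩ := MulAction.exists_smul_eq G b x
      have hsub : orbit N' x ⊆ g • B := by
        rintro _ ⟨⟨s, n, hn, rfl⟩, rfl⟩
        have h5 : n • (g • B) = g • B := by
          have := congrArg (fun σ : Perm (orbit G B) => ((σ ⟨g • B, MulAction.mem_orbit _ _⟩ : orbit G B) : Set α)) hn
          exact this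
        have h6 : x ∈ g • B := by rw [← hg]; exact Set.smul_mem_smul_set hb
        have h7 : n • x ∈ n • (g • B) := Set.smul_mem_smul_set h6
        rw [h5] at h7
        exact h7
      rw [Nat.card_coe_set_eq]
      calc (orbit N' x).ncard ≤ (g • B).ncard := Set.ncard_le_ncard hsub (Set.toFinite _)
        _ = B.ncard := Set.ncard_smul_set _ _
        _ ≤ 4 := h3
    exact Group.isSolvable_of_surjective (f := e.symm.toMonoidHom) e.symm.surjective
  have hr : Group.IsSolvable φ.range := Group.isSolvable_of_isSolvable_injective (f := φ.range.subtype)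
    φ.range.subtype_injective
  exact Group.isSolvable_of_ker_le_range φ.ker.subtype φ (by rw [Subgroup.range_subtype])

/-- the standard 7-cycle -/
def c0 : Perm (Fin 8) := ⟨![1, 2, 3, 4, 5, 6, 0, 7], ![6, 0, 1, 2, 3, 4, 5, 7], by decide, by decide⟩
def s0 : Perm (Fin 8) := ⟨![0, 3, 6, 2, 5, 1, 4, 7], ![0, 5, 3, 1, 6, 4, 2, 7], by decide, by decide⟩

theorem s0_conj : s0 * c0 * s0⁻¹ = c0 ^ 3 := by decide +kernel
theorem s0_sign : Perm.sign s0 = -1 := by decide +kernel
theorem c0_pow : c0 ^ 7 = 1 := by decide +kernel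
theorem c0_ne : c0 ≠ 1 := by decide +kernel

theorem cycleType_seven {β : Type*} [Fintype β] [DecidableEq β] (hβ : Fintype.card β = 8) {x : Perm β}
    (hx : orderOf x = 7) : x.cycleType = {7} := by
  obtain ⟨k, hk⟩ := Perm.cycleType_prime_order (σ := x) (by rw [hx]; norm_num)
  have h5 := Perm.sum_cycleType x
  have h6 := Finset.card_le_univ x.support
  rw [hk, hx, Multiset.sum_replicate, smul_eq_mul] at h5
  rw [hβ] at h6
  have hk0 : k = 0 := by omega
  rw [hk, hx, hk0]; rfl

theorem exists_odd_fin (x : Perm (Fin 8)) (hx : orderOf x = 7) :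
    ∃ s : Perm (Fin 8), s * x * s⁻¹ = x ^ 3 ∧ Perm.sign s = -1 := by
  have : Fact (Nat.Prime 7) := ⟨by norm_num⟩
  have h0 : orderOf c0 = 7 := orderOf_eq_prime c0_pow c0_ne
  have hconj : IsConj c0 x := by
    rw [Perm.isConj_iff_cycleType_eq, cycleType_seven (by simp) h0, cycleType_seven (by simp) hx]
  obtain ⟨t, ht⟩ := isConj_iff.1 hconj
  refine ⟨t * s0 * t⁻¹, ?_, ?_⟩
  · rw [← ht, conj_pow, ← s0_conj]; group
  · rw [map_mul, map_mul, s0_sign, map_inv, mul_comm, ← mul_assoc, inv_mul_cancel, one_mul]

theorem exists_odd (hα : Fintype.card α = 8) (x : Perm α) (hx : orderOf x = 7) :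
    ∃ s : Perm α, s * x * s⁻¹ = x ^ 3 ∧ Perm.sign s = -1 := by
  let e : α ≃ Fin 8 := Fintype.equivFinOfCardEq hα
  obtain ⟨s, hs1, hs2⟩ := exists_odd_fin (e.permCongrHom x) (by rw [MulEquiv.orderOf_eq]; exact hx)
  refine ⟨e.permCongrHom.symm s, ?_, ?_⟩
  · apply e.permCongrHom.injective
    rw [map_mul, map_mul, map_inv, MulEquiv.apply_symm_apply, hs1, map_pow]
  · have h1 := Perm.sign_permCongr e (e.permCongrHom.symm s)
    have h2 : e.permCongr (e.permCongrHom.symm s) = s := e.permCongrHom.apply_symm_apply s
    rw [h2] at h1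
    rw [← h1]; exact hs2

/-- the normalizer of a Sylow 7-subgroup in `A₈` has order 21 -/
theorem card_normalizer_alt (hα : Fintype.card α = 8) (P : Subgroup (Perm α)) (hP : Nat.card P = 7) :
    Nat.card (Subgroup.normalizer (P : Set (Perm α)) ⊓ alternatingGroup α : Subgroup (Perm α)) = 21 := by
  have : Fact (Nat.Prime 7) := ⟨by norm_num⟩
  have hp : IsPGroup 7 P := IsPGroup.of_card (n := 1) (by rw [hP]; norm_num)
  obtain ⟨Q, hQ⟩ := hp.exists_le_sylow
  have hQP : (Q : Subgroup (Perm α)) = P := by
    symm
    apply Subgroup.eq_of_le_of_card_ge hQ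
    obtain ⟨k, hk⟩ := Q.isPGroup'.exists_card_eq
    have h1 : Nat.card Q ∣ Nat.factorial 8 := by
      have := Subgroup.card_subgroup_dvd_card (Q : Subgroup (Perm α))
      rwa [Nat.card_perm, Nat.card_eq_fintype_card (α := α), hα] at this
    rw [hk] at h1 ⊢
    have h2 : k ≤ 1 := by
      by_contra hcon
      push Not at hcon
      have h3 : 7 ^ 2 ∣ Nat.factorial 8 := (pow_dvd_pow 7 hcon).trans h1
      revert h3; decide
    rw [hP]
    calc 7 ^ k ≤ 7 ^ 1 := Nat.pow_le_pow_right (by norm_num) h2
      _ = 7 := by norm_num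
  have hN := Cfsg.Agent.S0989.result 7 (Or.inr hα) Q
  rw [hQP] at hN
  -- an element of order 7
  obtain ⟨x, hx⟩ : ∃ x : P, orderOf x = 7 := exists_prime_orderOf_dvd_card' 7 (by rw [hP])
  have hxo : orderOf (x : Perm α) = 7 := by rw [Subgroup.orderOf_coe]; exact hx
  have hPx : P = Subgroup.zpowers (x : Perm α) := by
    symm
    apply Subgroup.eq_of_le_of_card_ge (Subgroup.zpowers_le.2 x.2)
    rw [Nat.card_zpowers, hxo, hP]
  obtain ⟨s, hs1, hs2⟩ := exists_odd hα (x : Perm α) hxo
  have hsN : s ∈ Subgroup.normalizer (P : Set (Perm α)) := by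
    have hle : P.map (MulAut.conj s).toMonoidHom ≤ P := by
      rw [hPx, MonoidHom.map_zpowers, Subgroup.zpowers_le]
      change s * (x : Perm α) * s⁻¹ ∈ _
      rw [hs1]; exact Subgroup.npow_mem_zpowers _ _
    have heq : P.map (MulAut.conj s).toMonoidHom = P := by
      apply Subgroup.eq_of_le_of_card_ge hle
      rw [Nat.card_congr (P.equivMapOfInjective _ (MulAut.conj s).injective).toEquiv.symm]
    rw [Subgroup.mem_normalizer_iff]
    intro y
    constructor
    · intro hy
      rw [← heq]; exact ⟨y, hy, rfl⟩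
    · intro hy
      rw [← heq] at hy
      obtain ⟨z, hz, hzy⟩ := hy
      have : z = y := by
        have h1 : s * z * s⁻¹ = s * y * s⁻¹ := hzy
        exact mul_left_cancel (mul_right_cancel h1)
      rw [← this]; exact hz
  -- index two
  set M : Subgroup (Perm α) := Subgroup.normalizer (P : Set (Perm α)) with hM
  let f : M →* ℤˣ := Perm.sign.comp M.subtype
  have hf : Function.Surjective f := by
    intro u
    rcases Int.units_eq_one_or u with h | h
    · exact ⟨1, by rw [map_one, h]⟩
    · exact ⟨⟨s, hsN⟩, by rw [h]; exact hs2⟩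
  have hker : Nat.card f.ker = 21 := by
    have h1 := Subgroup.card_mul_index f.ker
    have h2 : f.ker.index = 2 := by
      rw [Subgroup.index_ker, MonoidHom.range_eq_top.2 hf]
      simp
    rw [h2, hN] at h1
    omega
  have hmap : f.ker.map M.subtype = M ⊓ alternatingGroup α := by
    ext y
    constructor
    · rintro ⟨z, hz, rfl⟩
      exact ⟨z.2, hz⟩
    · rintro ⟨h1, h2⟩
      exact ⟨⟨y, h1⟩, h2, rfl⟩
  rw [← hmap, Nat.card_congr (f.ker.equivMapOfInjective _ M.subtype_injective).toEquiv.symm, hker]

theorem card_A8' (hα : Fintype.card α = 8) : Nat.card (alternatingGroup α) = 20160 := by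
  have hnt : Nontrivial α := Fintype.one_lt_card_iff_nontrivial.1 (by omega)
  have h2 := two_mul_nat_card_alternatingGroup (α := α)
  rw [Nat.card_perm, Nat.card_eq_fintype_card (α := α), hα] at h2
  have hf : Nat.factorial 8 = 40320 := by decide
  omega

/-- degree 8 -/
theorem deg8 (hα : Fintype.card α = 8) (G : Subgroup (Perm α)) [IsPretransitive G α] (hA : G ≤ alternatingGroup α)
    (hs : Good G) (hnt : Nontrivial G) :
    alternatingGroup α ≤ G ∨ Nat.card G = 168 ∨ 64 ∣ Nat.card G := by
  have hns := hs.not_solvable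
  have hprim : IsPreprimitive G α := by
    by_contra h
    exact hns (solvable_of_imprimitive hα G h)
  have hd : Nat.card G ∣ 20160 := by rw [← card_A8' hα]; exact Subgroup.card_dvd_of_le hA
  have hne : Nonempty α := Fintype.card_pos_iff.1 (by omega)
  have h8 : 8 ∣ Nat.card G := by rw [← hα]; exact degree_dvd G
  by_cases h5 : 5 ∣ Nat.card G
  · left
    have : Fact (Nat.Prime 5) := ⟨Nat.prime_five⟩
    obtain ⟨g, hg⟩ := exists_prime_orderOf_dvd_card' 5 h5
    have hg' : orderOf (g : Perm α) = 5 := by rw [Subgroup.orderOf_coe]; exact hg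
    have hcyc : (g : Perm α).IsCycle := by
      apply Perm.isCycle_of_prime_order' (by rw [hg']; exact Nat.prime_five)
      rw [hg', hα]; norm_num
    refine Cfsg.Agent.S0713.result G hprim Nat.prime_five (by omega) (by omega) hcyc ?_ g.2
    rw [← hcyc.orderOf, hg']
  · right
    have h1 : Nat.card G ∣ 2 ^ 6 * 3 ^ 2 * 7 := by
      have h2 : Nat.Coprime (Nat.card G) 5 := ((Nat.Prime.coprime_iff_not_dvd Nat.prime_five).2 h5).symm
      have h3 : Nat.card G ∣ 2 ^ 6 * 3 ^ 2 * 7 * 5 := by norm_num; exact hd
      exact h2.dvd_of_dvd_mul_right h3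
    have h7 : 7 ∣ Nat.card G := by
      by_contra h7
      apply hns
      have h2 : Nat.Coprime (Nat.card G) 7 := ((Nat.Prime.coprime_iff_not_dvd (by norm_num : Nat.Prime 7)).2 h7).symm
      exact solvable_two_primes Nat.prime_two Nat.prime_three (h2.dvd_of_dvd_mul_right h1)
    have h3 : 3 ∣ Nat.card G := by
      by_contra h3
      apply hns
      have h2 : Nat.Coprime (Nat.card G) (3 ^ 2) :=
        Nat.Coprime.pow_right 2 ((Nat.Prime.coprime_iff_not_dvd Nat.prime_three).2 h3).symm
      have h4 : Nat.card G ∣ 2 ^ 6 * 7 ^ 1 * 3 ^ 2 := by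
        have : 2 ^ 6 * 7 ^ 1 * 3 ^ 2 = 2 ^ 6 * 3 ^ 2 * 7 := by norm_num
        rw [this]; exact h1
      exact solvable_two_primes Nat.prime_two (by norm_num : Nat.Prime 7) (h2.dvd_of_dvd_mul_right h4)
    have h168 : 168 ∣ Nat.card G := by
      have a1 : Nat.Coprime 8 3 := by decide
      have a2 : Nat.Coprime (8 * 3) 7 := by decide
      exact a2.mul_dvd_of_dvd_of_dvd (a1.mul_dvd_of_dvd_of_dvd h8 h3) h7
    obtain ⟨j, hj⟩ := h168
    have hj24 : j ∣ 24 := by
      rw [hj] at h1
      have : (2 ^ 6 * 3 ^ 2 * 7 : ℕ) = 168 * 24 := by norm_num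
      rw [this] at h1
      exact Nat.dvd_of_mul_dvd_mul_left (by norm_num) h1
    have : Fact (Nat.Prime 7) := ⟨by norm_num⟩
    obtain ⟨P⟩ : Nonempty (Sylow 7 G) := inferInstance
    have hj7 : ¬ 7 ∣ j := by
      intro h; have := h.trans hj24; revert this; decide
    have hPc : Nat.card P = 7 := by
      obtain ⟨k, hk⟩ := P.isPGroup'.exists_card_eq
      have a1 : Nat.card P ∣ Nat.card G := Subgroup.card_subgroup_dvd_card _
      rw [hk] at a1 ⊢
      have a2 : 7 ∣ Nat.card P := Sylow.dvd_card_of_dvd_card P h7
      rw [hk] at a2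
      have a3 : k ≤ 1 := by
        by_contra hcon
        push Not at hcon
        have a4 : 7 ^ 2 ∣ 7 * (24 * j) := by
          have : 7 * (24 * j) = Nat.card G := by rw [hj]; ring
          rw [this]; exact (pow_dvd_pow 7 hcon).trans a1
        rw [pow_two] at a4
        have a5 := Nat.dvd_of_mul_dvd_mul_left (by norm_num) a4
        rcases (Nat.Prime.dvd_mul (by norm_num : Nat.Prime 7)).1 a5 with h | h
        · revert h; decide
        · exact hj7 h
      interval_cases k
      · simp at a2
      · norm_num
    -- the normalizer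
    set N : Subgroup G := Subgroup.normalizer ((P : Subgroup G) : Set G) with hN
    have hN21 : Nat.card N ∣ 21 := by
      have hP' : Nat.card ((P : Subgroup G).map G.subtype) = 7 := by
        rw [Nat.card_congr ((P : Subgroup G).equivMapOfInjective _ G.subtype_injective).toEquiv.symm, hPc]
      rw [← card_normalizer_alt hα _ hP',
        Nat.card_congr (N.equivMapOfInjective _ G.subtype_injective).toEquiv]
      apply Subgroup.card_dvd_of_le
      rintro _ ⟨g, hg, rfl⟩
      refine ⟨?_, hA g.2⟩
      have hg' := Subgroup.mem_normalizer_iff.1 hg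
      change (g : Perm α) ∈ Subgroup.normalizer _
      rw [Subgroup.mem_normalizer_iff]
      intro y
      constructor
      · rintro ⟨z, hz, rfl⟩
        exact ⟨g * z * g⁻¹, (hg' z).1 hz, rfl⟩
      · rintro ⟨z, hz, hzy⟩
        refine ⟨g⁻¹ * z * g, ?_, ?_⟩
        · rw [SetLike.mem_coe, hg']
          have : g * (g⁻¹ * z * g) * g⁻¹ = z := by group
          rw [this]; exact hz
        · have h6 : (z : Perm α) = (g : Perm α) * y * (g : Perm α)⁻¹ := hzy
          change (g : Perm α)⁻¹ * (z : Perm α) * (g : Perm α) = y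
          rw [h6]; group
    have hPN : (P : Subgroup G) ≤ N := Subgroup.le_normalizer
    have h7N : 7 ∣ Nat.card N := by rw [← hPc]; exact Subgroup.card_dvd_of_le hPN
    have hNc : Nat.card N = 7 ∨ Nat.card N = 21 := by
      obtain ⟨k, hk⟩ := h7N
      rw [hk] at hN21
      have : k ∣ 3 := Nat.dvd_of_mul_dvd_mul_left (by norm_num) (hN21 : 7 * k ∣ 7 * 3)
      rcases (Nat.dvd_prime Nat.prime_three).1 this with h | h
      · left; rw [hk, h]
      · right; rw [hk, h]
    rcases hNc with hNc | hNc
    · -- normal complement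
      exfalso
      have hPN' : (P : Subgroup G) = N := Subgroup.eq_of_le_of_card_ge hPN (by rw [hPc, hNc])
      have hcyc : IsCyclic P := isCyclic_of_prime_card hPc
      have hcomm : N ≤ Subgroup.centralizer ((P : Subgroup G) : Set G) := by
        rw [← hPN']
        intro a ha
        rw [Subgroup.mem_centralizer_iff]
        intro b hb
        have := hcyc.commGroup.mul_comm ⟨a, ha⟩ ⟨b, hb⟩
        exact (congrArg Subtype.val this).symm
      have hcompl := MonoidHom.ker_transferSylow_isComplement' P hcomm
      set K := (MonoidHom.transferSylow P hcomm).ker with hK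
      have hKc : Nat.card K * 7 = Nat.card G := by
        rw [← hPc]; exact hcompl.card_mul_card
      have hKs : Group.IsSolvable K := by
        apply solvable_two_primes Nat.prime_two Nat.prime_three (a := 6) (b := 2)
        have : Nat.card K * 7 ∣ 2 ^ 6 * 3 ^ 2 * 7 := by rw [hKc]; exact h1
        exact Nat.dvd_of_mul_dvd_mul_right (by norm_num) this
      have hKb := hs K inferInstance hKs
      rw [hKb, Subgroup.card_bot] at hKc
      omega
    · -- 21
      have hn1 := card_sylow_modEq_one 7 G
      have hn2 : Nat.card (Sylow 7 G) = N.index := P.card_eq_index_normalizer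
      have hn3 := Subgroup.card_mul_index N
      rw [hNc, ← hn2, hj] at hn3
      have hn4 : Nat.card (Sylow 7 G) = 8 * j := by omega
      rw [hn4] at hn1
      have hj' : j ≤ 24 := Nat.le_of_dvd (by norm_num) hj24
      have hn5 : 8 * j % 7 = 1 := by
        have := hn1; unfold Nat.ModEq at this; omega
      have hj1 : j = 1 ∨ j = 8 := by
        interval_cases j <;> simp_all
      rcases hj1 with h | h
      · left; rw [hj, h]
      · right; rw [hj, h]; norm_num

end Cfsg.Agent.Lib.H53Sub8c
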