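import Mathlib.GroupTheory.Transfer
import Mathlib.Tactic
import Cfsg.Agent.Lib.PrimeDegreeThree

/-!
Order of the Sylow normaliser in a transitive group of prime degree (helper12).
-/

set_option autoImplicit false

namespace Cfsg.Agent.Lib.PrimeDegreeNorm

open MulAction Cfsg.Agent.Lib

variable {G Ω : Type*} [Group G] [Finite G] [Finite Ω] [MulAction G Ω]
  [FaithfulSMul G Ω] [IsPretransitive G Ω] {p : ℕ} [hp : Fact p.Prime]

theorem card_normalizer (hΩ : Nat.card Ω = p) (P : Sylow p G) :
    ∃ d, d ∣ p - 1 ∧ Nat.card (Subgroup.normalizer ((P : Subgroup G) : Set G)) = p * d := by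
  classical
  obtain ⟨σ, hσP, e, hσ⟩ := PrimeDegree.exists_coord hΩ P
  have hPcard := PrimeDegreeThree.card_sylow hΩ P
  have hPc : Nat.card (P : Subgroup G) = p := hPcard
  have haff := fun (g : G) hg => PrimeDegreeThree.normalizer_affine hΩ P hσP e hσ (g := g) hg
  let N := Subgroup.normalizer ((P : Subgroup G) : Set G)
  let α : N → ZMod p := fun g => e.symm ((g : G) • e 1) - e.symm ((g : G) • e 0)
  have hα : ∀ (g : N) (a b : ZMod p), (∀ j, (g : G) • e j = e (a * j + b)) → α g = a := by
    intro g a b h
    show e.symm ((g : G) • e 1) - e.symm ((g : G) • e 0) = a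
    rw [h 1, h 0, Equiv.symm_apply_apply, Equiv.symm_apply_apply]
    ring
  let f : N →* ZMod p :=
    { toFun := α
      map_one' := hα 1 1 0 (fun j => by rw [one_mul, add_zero]; exact one_smul G _)
      map_mul' := by
        intro g h
        obtain ⟨a, b, _, hab⟩ := haff g g.2
        obtain ⟨c, d, _, hcd⟩ := haff h h.2
        rw [hα g a b hab, hα h c d hcd]
        apply hα (g * h) (a * c) (a * d + b)
        intro j
        show ((g : G) * (h : G)) • e j = _
        rw [mul_smul, hcd, hab]
        congr 1; ring }
  let F : N →* (ZMod p)ˣ := f.toHomUnits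
  have hF : ∀ g, ((F g : (ZMod p)ˣ) : ZMod p) = α g := fun g => rfl
  have hker : F.ker = (P : Subgroup G).subgroupOf N := by
    ext g
    rw [MonoidHom.mem_ker, Subgroup.mem_subgroupOf]
    obtain ⟨a, b, _, hab⟩ := haff g g.2
    constructor
    · intro h
      have h1 : α g = 1 := by rw [← hF, h]; rfl
      rw [hα g a b hab] at h1
      have h2 : (g : G) = σ ^ b.val := by
        apply FaithfulSMul.eq_of_smul_eq_smul (α := Ω)
        intro x
        obtain ⟨j, rfl⟩ := e.surjective x
        have h3 : ∀ (n : ℕ) (j : ZMod p), σ ^ n • e j = e (j + n) := by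
          intro n
          induction n with
          | zero => intro j; rw [pow_zero, one_smul, Nat.cast_zero, add_zero]
          | succ n ih => intro j; rw [pow_succ, mul_smul, hσ, ih]; congr 1; push_cast; ring
        rw [hab, h3, h1, one_mul, ZMod.natCast_zmod_val]
      rw [h2]
      exact pow_mem hσP _
    · intro hgP
      have hcyc : IsCyclic (P : Subgroup G) := isCyclic_of_prime_card hPc
      have hcomm : (g : G) * σ = σ * (g : G) := by
        have := hcyc.commGroup.mul_comm (⟨g, hgP⟩ : (P : Subgroup G)) ⟨σ, hσP⟩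
        exact congrArg Subtype.val this
      have h1 : (g : G) • e 1 = e (a + b + 0) := by rw [hab]; congr 1; ring
      have h2 : (g : G) • e 1 = e (b + 1) := by
        have : e 1 = σ • e 0 := by rw [hσ, zero_add]
        rw [this, ← mul_smul, hcomm, mul_smul, hab, hσ]; congr 1; ring
      have h3 : a = 1 := by
        have := e.injective (h1.symm.trans h2)
        linear_combination this
      apply Units.ext
      rw [hF, hα g a b hab, h3]; rfl
  have h1 := Subgroup.card_mul_index F.ker
  have h2 : Nat.card F.ker = p := by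
    rw [hker, Nat.card_congr (Subgroup.subgroupOfEquivOfLe (Subgroup.le_normalizer)).toEquiv]
    exact hPc
  rw [h2, Subgroup.index_ker] at h1
  refine ⟨Nat.card F.range, ?_, h1.symm⟩
  have h3 := Subgroup.card_subgroup_dvd_card F.range
  rwa [Nat.card_eq_fintype_card (α := (ZMod p)ˣ), ZMod.card_units_eq_totient,
    Nat.totient_prime hp.out] at h3

/-- `|G| = n_p · p · d` with `n_p ≡ 1 (mod p)` and `d ∣ p - 1`. -/
theorem card_group (hΩ : Nat.card Ω = p) (P : Sylow p G) :
    ∃ d n, d ∣ p - 1 ∧ n % p = 1 ∧
      Nat.card (Subgroup.normalizer ((P : Subgroup G) : Set G)) = p * d ∧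
      Nat.card G = p * d * n ∧ n = Nat.card (Sylow p G) := by
  obtain ⟨d, hd, hcard⟩ := card_normalizer hΩ P
  refine ⟨d, Nat.card (Sylow p G), hd, ?_, hcard, ?_, rfl⟩
  · have := card_sylow_modEq_one p G
    rw [Nat.ModEq, Nat.mod_eq_of_lt hp.out.one_lt] at this
    exact this
  · rw [P.card_eq_index_normalizer, ← hcard]
    exact (Subgroup.card_mul_index _).symm

/-- If the Sylow normaliser is the Sylow subgroup itself then so is the group. -/
theorem card_eq_of_normalizer (hΩ : Nat.card Ω = p) (P : Sylow p G)
    (h : Nat.card (Subgroup.normalizer ((P : Subgroup G) : Set G)) = p) : Nat.card G = p := by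
  classical
  have hPcard := PrimeDegreeThree.card_sylow hΩ P
  have hPc : Nat.card (P : Subgroup G) = p := hPcard
  have hNP : (P : Subgroup G) = Subgroup.normalizer ((P : Subgroup G) : Set G) := by
    apply Subgroup.eq_of_le_of_card_ge Subgroup.le_normalizer
    rw [h, hPc]
  have hcyc : IsCyclic (P : Subgroup G) := isCyclic_of_prime_card hPc
  have hle : Subgroup.normalizer ((P : Subgroup G) : Set G) ≤
      Subgroup.centralizer ((P : Subgroup G) : Set G) := by
    rw [← hNP]
    intro x hx
    rw [Subgroup.mem_centralizer_iff]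
    intro y hy
    have := hcyc.commGroup.mul_comm (⟨y, hy⟩ : (P : Subgroup G)) ⟨x, hx⟩
    exact congrArg Subtype.val this
  have hcompl := MonoidHom.ker_transferSylow_isComplement' P hle
  have hndvd := MonoidHom.not_dvd_card_ker_transferSylow P hle
  set K := (MonoidHom.transferSylow P hle).ker with hK
  -- K is trivial since otherwise transitive
  have hKbot : K = ⊥ := by
    have hprim : IsPreprimitive G Ω := by
      apply IsPreprimitive.of_prime_card
      rw [hΩ]; exact hp.out
    by_contra hne
    have hKt : IsPretransitive K Ω := by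
      apply IsQuasiPreprimitive.isPretransitive_of_normal (G := G)
      intro h
      apply hne
      rw [eq_bot_iff]
      intro g hg
      rw [Subgroup.mem_bot]
      apply FaithfulSMul.eq_of_smul_eq_smul (α := Ω)
      intro x
      have hx : x ∈ fixedPoints K Ω := by rw [h]; trivial
      rw [one_smul]
      exact hx ⟨g, hg⟩
    apply hndvd
    obtain ⟨a⟩ : Nonempty Ω := (Nat.card_pos_iff.mp (by rw [hΩ]; exact hp.out.pos)).1
    have := index_stabilizer_of_transitive K a
    rw [← hΩ, ← this]
    exact Subgroup.index_dvd_card _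
  have h2 := hcompl.card_mul
  rw [hKbot, Subgroup.card_bot, one_mul] at h2
  rw [← h2]
  exact hPc

end Cfsg.Agent.Lib.PrimeDegreeNorm
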