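import Mathlib.GroupTheory.Transfer
import Mathlib.GroupTheory.GroupAction.ConjAct
import Mathlib.Tactic
import Cfsg.Agent.Lib.PrimeDegreeNorm

/-!
Normal subgroups of transitive groups of prime degree (helper12).
-/

set_option autoImplicit false

namespace Cfsg.Agent.Lib.PrimeDegreeNorm2

open MulAction Cfsg.Agent.Lib

variable {G Ω : Type*} [Group G] [Finite G] [Finite Ω] [MulAction G Ω]
  [FaithfulSMul G Ω] [IsPretransitive G Ω] {p : ℕ} [hp : Fact p.Prime]

/-- A nontrivial normal subgroup of a faithful transitive group of prime degree is transitive. -/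
theorem transitive_of_normal (hΩ : Nat.card Ω = p) (K : Subgroup G) [K.Normal] (hK : K ≠ ⊥) :
    IsPretransitive K Ω := by
  have hprim : IsPreprimitive G Ω := by
    apply IsPreprimitive.of_prime_card
    rw [hΩ]; exact hp.out
  apply IsQuasiPreprimitive.isPretransitive_of_normal (G := G)
  intro h
  apply hK
  rw [eq_bot_iff]
  intro g hg
  rw [Subgroup.mem_bot]
  apply FaithfulSMul.eq_of_smul_eq_smul (α := Ω)
  intro x
  have hx : x ∈ fixedPoints K Ω := by rw [h]; trivial
  rw [one_smul]
  exact hx ⟨g, hg⟩

/-- If a normal subgroup `K` has a unique Sylow `p`-subgroup then the Sylow `p`-subgroup of `G`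
is normal. -/
theorem normalizer_eq_top (hΩ : Nat.card Ω = p) (K : Subgroup G) [K.Normal] (hK : K ≠ ⊥)
    (h1 : Nat.card (Sylow p K) = 1) (P : Sylow p G) :
    Subgroup.normalizer ((P : Subgroup G) : Set G) = ⊤ := by
  classical
  have hKt := transitive_of_normal hΩ K hK
  obtain ⟨Q⟩ : Nonempty (Sylow p K) := inferInstance
  have hQcard : Nat.card Q = p := PrimeDegreeThree.card_sylow hΩ Q
  have hss : Subsingleton (Sylow p K) := (Nat.card_eq_one_iff_unique.mp h1).1
  have hchar : (Q : Subgroup K).Characteristic := Sylow.characteristic_of_subsingleton Q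
  have hnorm : ((Q : Subgroup K).map K.subtype).Normal :=
    ConjAct.normal_of_characteristic_of_normal
  have hMcard : Nat.card ((Q : Subgroup K).map K.subtype) = p := by
    exact (Nat.card_congr ((Q : Subgroup K).equivMapOfInjective _
      K.subtype_injective).toEquiv).symm.trans hQcard
  have hMp : IsPGroup p ((Q : Subgroup K).map K.subtype) := by
    apply IsPGroup.of_card (n := 1)
    rw [pow_one]; exact hMcard
  obtain ⟨R, hR⟩ := hMp.exists_le_sylow
  have hRcard : Nat.card R = p := PrimeDegreeThree.card_sylow hΩ R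
  have hReq : (Q : Subgroup K).map K.subtype = R := by
    apply Subgroup.eq_of_le_of_card_ge hR
    rw [hMcard]; exact hRcard.le
  have hRn : (R : Subgroup G).Normal := by rw [← hReq]; exact hnorm
  obtain ⟨g, hg⟩ := MulAction.exists_smul_eq G R P
  have hPn : (P : Subgroup G).Normal := by
    rw [← hg]
    have : (g • R : Sylow p G) = R := by
      rw [Sylow.smul_eq_iff_mem_normalizer]
      have h2 : Subgroup.normalizer ((R : Subgroup G) : Set G) = ⊤ :=
        Subgroup.normalizer_eq_top_iff.mpr hRn
      have h3 : g ∈ Subgroup.normalizer ((R : Subgroup G) : Set G) := by rw [h2]; trivial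
      exact h3
    rw [this]; exact hRn
  exact Subgroup.normalizer_eq_top_iff.mpr hPn

end Cfsg.Agent.Lib.PrimeDegreeNorm2
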