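import Mathlib.GroupTheory.SpecificGroups.Alternating.Simple
import Mathlib.GroupTheory.Index
import Mathlib.Tactic

/-!
Subgroups of `S_n` of index less than `n` (helper12).
-/

set_option autoImplicit false

namespace Cfsg.Agent.Lib.SmallIndex12

open Equiv

/-- A subgroup of `S_n`, `n ≥ 5`, of index less than `n` contains `A_n`. -/
theorem alternating_le {α : Type*} [Fintype α] [DecidableEq α] (h5 : 5 ≤ Fintype.card α)
    (G : Subgroup (Perm α)) (h : G.index < Fintype.card α) : alternatingGroup α ≤ G := by
  classical
  set f : Perm α →* Perm (Perm α ⧸ G) := MulAction.toPermHom (Perm α) (Perm α ⧸ G) with hf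
  have hkH : f.ker ≤ G := by
    rw [hf, ← Subgroup.normalCore_eq_ker]
    exact Subgroup.normalCore_le G
  have hne : f.ker ≠ ⊥ := by
    intro hker
    have hinj : Function.Injective f := (MonoidHom.ker_eq_bot_iff f).1 hker
    have h1 := Nat.card_le_card_of_injective f hinj
    rw [Nat.card_perm, Nat.card_perm] at h1
    have h2 : Nat.card (Perm α ⧸ G) = G.index := rfl
    rw [h2, Nat.card_eq_fintype_card] at h1
    have h0 : 0 < G.index := Nat.pos_of_ne_zero Subgroup.index_ne_zero_of_finite
    exact absurd h1 (not_le.mpr ((Nat.factorial_lt h0).mpr h))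
  have hnt : Nontrivial f.ker := (Subgroup.nontrivial_iff_ne_bot _).2 hne
  exact (Perm.alternatingGroup_le_of_normal (α := α) (N := f.ker)
      (by rw [Nat.card_eq_fintype_card]; exact h5) hnt).trans hkH

end Cfsg.Agent.Lib.SmallIndex12
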