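import Cfsg.Agent.Lib.RegNormalMT
import Cfsg.Agent.Lib.Sharply2

/-!
Normal subgroups of multiply primitive groups: Jordan, Wielandt (helper12).
-/

set_option autoImplicit false

namespace Cfsg.Agent.Lib.NormalMT

open MulAction Cfsg.Agent.Lib.RegNormalMT

universe u v

/-- point stabilisers act faithfully on the remaining points -/
theorem faithful_stab {G Ω : Type*} [Group G] [MulAction G Ω] [FaithfulSMul G Ω] (a : Ω) :
    FaithfulSMul (stabilizer G a) (SubMulAction.ofStabilizer G a) := by
  constructor
  rintro ⟨g, hg⟩ ⟨k, hk⟩ h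
  apply Subtype.ext
  apply FaithfulSMul.eq_of_smul_eq_smul (α := Ω)
  intro x
  by_cases hx : x = a
  · rw [hx]
    exact (show g • a = a from hg).trans (show k • a = a from hk).symm
  · exact congrArg Subtype.val (h ⟨x, hx⟩)

/-- Transitivity of `H` from transitivity of `H ⊓ G_a` on the remaining points. -/
theorem succ_of_stab {G Ω : Type*} [Group G] [MulAction G Ω] (H : Subgroup G)
    [IsPretransitive H Ω] (a : Ω) {j : ℕ}
    (h : IsMultiplyPretransitive (H.subgroupOf (stabilizer G a))
      (SubMulAction.ofStabilizer G a) j) : IsMultiplyPretransitive H Ω (j + 1) := by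
  rw [SubMulAction.ofStabilizer.isMultiplyPretransitive (a := a)]
  constructor
  intro x y
  let x' : Fin j ↪ SubMulAction.ofStabilizer G a :=
    ⟨fun i => ⟨(x i).1, (x i).2⟩, fun i i' hii => x.injective (Subtype.ext (congrArg Subtype.val hii))⟩
  let y' : Fin j ↪ SubMulAction.ofStabilizer G a :=
    ⟨fun i => ⟨(y i).1, (y i).2⟩, fun i i' hii => y.injective (Subtype.ext (congrArg Subtype.val hii))⟩
  obtain ⟨⟨⟨g, hga⟩, hgH⟩, hg⟩ := h.exists_smul_eq x' y'
  refine ⟨⟨⟨g, hgH⟩, hga⟩, ?_⟩
  ext i
  have := congrArg Subtype.val (DFunLike.congr_fun hg i)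
  exact this

theorem card_le_factorial {G Ω : Type*} [Group G] [MulAction G Ω] [FaithfulSMul G Ω] [Finite Ω] :
    Finite G ∧ Nat.card G ≤ (Nat.card Ω).factorial := by
  have hinj : Function.Injective (MulAction.toPermHom G Ω) := MulAction.toPerm_injective
  have : Finite G := Finite.of_injective _ hinj
  refine ⟨this, ?_⟩
  rw [← Nat.card_perm]
  exact Nat.card_le_card_of_injective _ hinj

theorem descFactorial_le_card {G Ω : Type*} [Group G] [MulAction G Ω] [Finite G] [Finite Ω]
    {k : ℕ} (h : IsMultiplyPretransitive G Ω k) (hk : k ≤ Nat.card Ω) :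
    (Nat.card Ω).descFactorial k ≤ Nat.card G := by
  classical
  have : Fintype Ω := Fintype.ofFinite Ω
  have h1 : Nat.card (Fin k ↪ Ω) = (Nat.card Ω).descFactorial k := by
    rw [Nat.card_eq_fintype_card, Fintype.card_embedding_eq, Fintype.card_fin,
      Nat.card_eq_fintype_card]
  obtain ⟨x0⟩ : Nonempty (Fin k ↪ Ω) := by
    rw [Function.Embedding.nonempty_iff_card_le, Fintype.card_fin, ← Nat.card_eq_fintype_card]
    exact hk
  rw [← h1]
  exact Nat.card_le_card_of_surjective (fun g : G => g • x0) (fun y => h.exists_smul_eq x0 y)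

/-- normal subgroups of primitive groups are transitive -/
theorem normal_transitive {G Ω : Type*} [Group G] [MulAction G Ω] [FaithfulSMul G Ω]
    (hG : IsPreprimitive G Ω) (H : Subgroup G) [H.Normal] (hH : H ≠ ⊥) : IsPretransitive H Ω := by
  apply IsQuasiPreprimitive.isPretransitive_of_normal (G := G)
  intro h
  apply hH
  rw [eq_bot_iff]
  intro g hg
  rw [Subgroup.mem_bot]
  apply FaithfulSMul.eq_of_smul_eq_smul (α := Ω)
  intro x
  have hx : x ∈ fixedPoints H Ω := by rw [h]; trivial
  rw [one_smul]
  exact hx ⟨g, hg⟩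

/-- A sharply 2-transitive normal subgroup yields a regular normal subgroup. -/
theorem exists_regular_of_sharp {G Ω : Type*} [Group G] [MulAction G Ω] [Finite Ω]
    (H : Subgroup G) [hHn : H.Normal] (h2 : IsMultiplyPretransitive H Ω 2) (hn : 2 ≤ Nat.card Ω)
    (hs : ∀ g : H, ∀ a b : Ω, a ≠ b → g • a = a → g • b = b → g = 1) :
    ∃ N : Subgroup G, N.Normal ∧ N ≤ H ∧ IsPretransitive N Ω ∧ ∀ x : Ω, stabilizer N x = ⊥ := by
  classical
  obtain ⟨hfin, _⟩ := Cfsg.Agent.Lib.Sharply2.card_group h2 hs hn
  obtain ⟨p, hp, N, hN, hmem, hcard, hpow, hcomm⟩ := Cfsg.Agent.Lib.Sharply2.main h2 hs hn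
  have hsemi : ∀ g ∈ N, ∀ a : Ω, g • a = a → g = 1 := by
    intro g hg a ha
    rcases (hmem g).mp hg with h | h
    · exact h
    · exact absurd ha (h a)
  refine ⟨N.map H.subtype, ?_, ?_, ?_, ?_⟩
  · constructor
    rintro _ ⟨n, hn', rfl⟩ g
    refine ⟨⟨g * n.1 * g⁻¹, hHn.conj_mem n.1 n.2 g⟩, ?_, rfl⟩
    show _ ∈ N
    rw [hmem]
    rcases (hmem n).mp hn' with h | h
    · left
      apply Subtype.ext
      show g * n.1 * g⁻¹ = 1
      rw [h]
      simp
    · right
      intro a ha
      apply h (g⁻¹ • a)
      have ha' : (g * n.1 * g⁻¹) • a = a := ha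
      show n.1 • g⁻¹ • a = g⁻¹ • a
      rw [eq_inv_smul_iff, ← mul_smul, ← mul_smul]
      exact ha'
  · exact Subgroup.map_subtype_le N
  · obtain ⟨a0⟩ : Nonempty Ω := by
      rw [← Finite.card_pos_iff]; omega
    have hinj : Function.Injective (fun g : N => g • a0) := by
      intro g h hgh
      have hgh' : g.1 • a0 = h.1 • a0 := hgh
      have := hsemi (h.1⁻¹ * g.1) (N.mul_mem (N.inv_mem h.2) g.2) a0
        (by rw [mul_smul, hgh', inv_smul_smul])
      exact Subtype.ext (inv_mul_eq_one.mp this).symm
    have hbij : Function.Bijective (fun g : N => g • a0) :=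
      (Nat.bijective_iff_injective_and_card _).mpr ⟨hinj, hcard⟩
    constructor
    intro a b
    obtain ⟨g, hg⟩ := hbij.2 a
    obtain ⟨h, hh⟩ := hbij.2 b
    have hg' : g.1.1 • a0 = a := hg
    have hh' : h.1.1 • a0 = b := hh
    refine ⟨⟨(h * g⁻¹).1.1, ⟨(h * g⁻¹).1, (h * g⁻¹).2, rfl⟩⟩, ?_⟩
    show (h.1.1 * g.1.1⁻¹) • a = b
    rw [mul_smul, ← hg', inv_smul_smul, hh']
  · intro x
    rw [eq_bot_iff]
    rintro ⟨_, ⟨n, hn', rfl⟩⟩ hx
    rw [Subgroup.mem_bot]
    have hx' : n • x = x := hx
    have := hsemi n hn' x hx'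
    apply Subtype.ext
    show n.1 = 1
    rw [this]; rfl

/-- Wielandt / Jordan: a non-regular normal subgroup of a `j`-primitive group is `j`-transitive,
unless the group is symmetric. -/
theorem normal_of_primitive {j : ℕ} : ∀ {G : Type u} {Ω : Type v} [Group G] [MulAction G Ω]
    [FaithfulSMul G Ω] [Finite Ω], 1 ≤ j → j ≤ Nat.card Ω → IsMultiplyPreprimitive G Ω j →
    (j + 2 ≤ Nat.card Ω ∨ Nat.card G ≠ (Nat.card Ω).factorial) →
    ∀ (H : Subgroup G) [H.Normal], (∃ a : Ω, stabilizer H a ≠ ⊥) →
    IsMultiplyPretransitive H Ω j := by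
  classical
  induction j with
  | zero => intro G Ω _ _ _ _ h1; omega
  | succ j ih =>
    intro G Ω _ _ _ _ _ hjn hG hE H hHn hnr
    obtain ⟨a, ha⟩ := hnr
    obtain ⟨hGfin, hGle⟩ := card_le_factorial (G := G) (Ω := Ω)
    have hH : H ≠ ⊥ := by
      rintro rfl
      apply ha
      rw [eq_bot_iff]
      rintro ⟨g, hg⟩ _
      rw [Subgroup.mem_bot]
      exact Subtype.ext (by simpa using hg)
    have hENat : ((j + 1 : ℕ) : ℕ∞) ≤ ENat.card Ω := by
      rw [ENat.card_eq_coe_natCard]
      exact_mod_cast hjn
    have hprim : IsPreprimitive G Ω := by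
      rw [← is_one_preprimitive_iff]
      exact isMultiplyPreprimitive_of_le G Ω hG (by omega) hENat
    have hHt : IsPretransitive H Ω := normal_transitive hprim H hH
    rcases Nat.eq_zero_or_pos j with hj0 | hj0
    · subst hj0
      exact is_one_pretransitive_iff.mpr hHt
    have hG' : IsMultiplyPreprimitive (stabilizer G a) (SubMulAction.ofStabilizer G a) j :=
      isMultiplyPreprimitive_ofStabilizer (n := j) G Ω
    have hFa := faithful_stab (G := G) a
    have hcard := SubMulAction.nat_card_ofStabilizer_add_one_eq G a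
    have hprim' : IsPreprimitive (stabilizer G a) (SubMulAction.ofStabilizer G a) := by
      rw [← is_one_preprimitive_iff]
      refine isMultiplyPreprimitive_of_le _ _ hG' (by omega) ?_
      rw [ENat.card_eq_coe_natCard]
      exact_mod_cast (by omega : j ≤ Nat.card (SubMulAction.ofStabilizer G a))
    have hHa : H.subgroupOf (stabilizer G a) ≠ ⊥ := by
      intro h
      apply ha
      rw [eq_bot_iff]
      rintro ⟨g, hg⟩ hga
      rw [Subgroup.mem_bot]
      have h1 : (⟨g, hga⟩ : stabilizer G a) ∈ H.subgroupOf (stabilizer G a) := hg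
      rw [h, Subgroup.mem_bot] at h1
      exact Subtype.ext (congrArg (fun z : stabilizer G a => (z : G)) h1)
    have hHat : IsPretransitive (H.subgroupOf (stabilizer G a)) (SubMulAction.ofStabilizer G a) :=
      normal_transitive hprim' _ hHa
    rcases Nat.lt_or_ge j 2 with hj2 | hj2
    · have : j = 1 := by omega
      subst this
      exact succ_of_stab H a (is_one_pretransitive_iff.mpr hHat)
    by_cases hreg : ∀ x : SubMulAction.ofStabilizer G a,
        stabilizer (H.subgroupOf (stabilizer G a)) x = ⊥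
    · exfalso
      have hH2 : IsMultiplyPretransitive H Ω 2 :=
        succ_of_stab H a (is_one_pretransitive_iff.mpr hHat)
      have hs : ∀ g : H, ∀ x y : Ω, x ≠ y → g • x = x → g • y = y → g = 1 := by
        intro g x y hxy hgx hgy
        obtain ⟨k, hk⟩ := hHt.exists_smul_eq x a
        have h1 : (k * g * k⁻¹) • a = a := by
          rw [mul_smul, mul_smul, inv_smul_eq_iff.mpr hk.symm, hgx, hk]
        have h2 : (k * g * k⁻¹) • (k • y) = k • y := by
          rw [mul_smul, mul_smul, inv_smul_smul, hgy]
        have hky : k • y ≠ a := by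
          intro h
          apply hxy
          rw [← hk] at h
          exact (MulAction.injective k h).symm
        have h3 : (⟨⟨(k * g * k⁻¹).1, h1⟩, (k * g * k⁻¹).2⟩ :
            H.subgroupOf (stabilizer G a)) ∈ stabilizer (H.subgroupOf (stabilizer G a))
              (⟨k • y, hky⟩ : SubMulAction.ofStabilizer G a) := by
          apply Subtype.ext
          exact h2
        rw [hreg, Subgroup.mem_bot] at h3
        have h4 : (k * g * k⁻¹).1 = 1 :=
          congrArg (fun z : H.subgroupOf (stabilizer G a) => (z.1 : G)) h3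
        have h5 : k * g * k⁻¹ = 1 := Subtype.ext h4
        have h6 : k * g = k := by
          rw [← mul_inv_eq_one]; exact h5
        simpa using h6
      obtain ⟨N, hNn, _, hNt, hNr⟩ := exists_regular_of_sharp H hH2 (by omega) hs
      have h3 : IsMultiplyPreprimitive G Ω 3 :=
        isMultiplyPreprimitive_of_le G Ω hG (by omega) hENat
      have hne : Nonempty Ω := ⟨a⟩
      have h34 := card_three_or_four h3 (by omega) N hNt hNr
      rcases hE with hE | hE
      · omega
      · apply hE
        apply le_antisymm hGle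
        have h3t := IsMultiplyPreprimitive.isMultiplyPretransitive G Ω 3
        have h7 := descFactorial_le_card h3t (by omega)
        rcases h34 with h | h
        · rw [h] at h7 ⊢; exact h7
        · rw [h] at h7 ⊢; exact h7
    · push Not at hreg
      apply succ_of_stab H a
      refine ih (by omega) (by omega) hG' ?_ _ hreg
      rcases hE with hE | hE
      · left; omega
      · right
        intro h
        apply hE
        have h8 := Subgroup.card_mul_index (stabilizer G a)
        rw [index_stabilizer_of_transitive, h] at h8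
        rw [← h8, ← hcard, Nat.factorial_succ, mul_comm]

end Cfsg.Agent.Lib.NormalMT
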