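import Mathlib
import Cfsg.Agent.Lib.H53Sub8a
import Cfsg.Agent.Lib.Fitting
import Cfsg.Agent.Lib.H53Sub8c
import Cfsg.Agent.S0678
import Cfsg.Agent.S0494

/-!
Subgroups of `A₈` without solvable normal subgroups (seat helper53).
-/

set_option autoImplicit false

namespace Cfsg.Agent.Lib.H53Sub8d

open Equiv MulAction Cfsg.Agent.Lib.H53Sub8b Cfsg.Agent.Lib.H53Sub8c

universe u

theorem good_of_cores {G : Type*} [Group G] [Finite G] (h2 : pCore 2 G = ⊥) (h2' : pPrimeCore 2 G = ⊥) : Good G := by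
  intro N hN hs
  by_contra hne
  have : Fact (Nat.Prime 2) := ⟨Nat.prime_two⟩
  have hnt : Nontrivial N := (Subgroup.nontrivial_iff_ne_bot N).2 hne
  have h1 : fittingSubgroup G = ⊥ := by rw [Fitting.fittingSubgroup_eq_pCore 2 h2', h2]
  have h3 : (fittingSubgroup N).map N.subtype ≤ ⊥ := by
    rw [← h1]; exact Fitting.fittingSubgroup_map_subtype_le
  have h4 : fittingSubgroup N ≠ ⊥ := Fitting.fittingSubgroup_ne_bot
  apply h4
  rw [eq_bot_iff]
  intro x hx
  have h5 : (x : G) ∈ (⊥ : Subgroup G) := h3 ⟨x, hx, rfl⟩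
  rw [Subgroup.mem_bot] at h5 ⊢
  exact Subtype.ext h5

theorem eq_or_of_alternating_le {α : Type*} [Fintype α] [DecidableEq α] [Nontrivial α] (G : Subgroup (Perm α))
    (h : alternatingGroup α ≤ G) : G = alternatingGroup α ∨ G = ⊤ := by
  have h1 := Subgroup.relIndex_mul_index h
  rw [alternatingGroup.index_eq_two] at h1
  have h2 : (alternatingGroup α).relIndex G ∣ 2 := ⟨_, h1.symm⟩
  rcases (Nat.dvd_prime Nat.prime_two).1 h2 with h3 | h3
  · left
    exact le_antisymm (Subgroup.relIndex_eq_one.1 h3) h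
  · right
    rw [h3] at h1
    exact Subgroup.index_eq_one.1 (by omega)

theorem perm_main (G : Subgroup (Perm (Fin 8))) (hA : G ≤ alternatingGroup (Fin 8)) (hG : Good G)
    (hnt : Nontrivial G) :
    (∃ n : ℕ, 5 ≤ n ∧ n ≤ 8 ∧ Nonempty (G ≃* alternatingGroup (Fin n))) ∨
    Nonempty (G ≃* Perm (Fin 5)) ∨ Nonempty (G ≃* Perm (Fin 6)) ∨ (Nat.card G = 168 ∧ IsSimpleGroup G) ∨
      64 ∣ Nat.card G := by
  classical
  have hns := hG.not_solvable
  -- a large orbit
  obtain ⟨x, hx⟩ : ∃ x : Fin 8, 5 ≤ Nat.card (orbit G x) := by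
    by_contra hcon
    push Not at hcon
    exact hns (SwapOrbits.isSolvable_of_orbits_le_four G (fun x => Nat.le_of_lt_succ (hcon x)))
  set O := orbit G x with hO
  let f : G →* Perm O := MulAction.toPermHom G O
  have hO8 : Nat.card O ≤ 8 := by
    rw [Nat.card_coe_set_eq]
    calc O.ncard ≤ (Set.univ : Set (Fin 8)).ncard := Set.ncard_le_ncard (Set.subset_univ _) (Set.toFinite _)
      _ = 8 := by rw [Set.ncard_univ]; simp
  -- orbits outside O are small
  have hcompl : (Oᶜ : Set (Fin 8)).ncard = 8 - Nat.card O := by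
    have := Set.ncard_add_ncard_compl O (Set.toFinite _) (Set.toFinite _)
    rw [Nat.card_coe_set_eq]
    have h8 : Nat.card (Fin 8) = 8 := by simp
    omega
  have hinv : ∀ g : G, ∀ y : Fin 8, y ∉ O → g • y ∉ O := by
    intro g y hy h
    apply hy
    have h1 := MulAction.mem_orbit_of_mem_orbit (g⁻¹) h
    rwa [inv_smul_smul] at h1
  have hinj : Function.Injective f := by
    rw [← MonoidHom.ker_eq_bot_iff]
    apply hG _ inferInstance
    let N' : Subgroup (Perm (Fin 8)) := f.ker.map G.subtype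
    have e : f.ker ≃* N' := f.ker.equivMapOfInjective _ G.subtype_injective
    have hN' : Group.IsSolvable N' := by
      apply SwapOrbits.isSolvable_of_orbits_le_four
      intro y
      by_cases hy : y ∈ O
      · have hsub : orbit N' y ⊆ {y} := by
          rintro _ ⟨⟨s, n, hn, rfl⟩, rfl⟩
          have := congrArg (fun σ : Perm O => ((σ ⟨y, hy⟩ : O) : Fin 8)) hn
          exact this
        rw [Nat.card_coe_set_eq]
        calc (orbit N' y).ncard ≤ ({y} : Set (Fin 8)).ncard := Set.ncard_le_ncard hsub (Set.toFinite _)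
          _ = 1 := Set.ncard_singleton y
          _ ≤ 4 := by norm_num
      · have hsub : orbit N' y ⊆ Oᶜ := by
          rintro _ ⟨⟨s, n, hn, rfl⟩, rfl⟩
          exact hinv n y hy
        rw [Nat.card_coe_set_eq]
        calc (orbit N' y).ncard ≤ (Oᶜ : Set (Fin 8)).ncard := Set.ncard_le_ncard hsub (Set.toFinite _)
          _ ≤ 4 := by rw [hcompl]; omega
    exact Group.isSolvable_of_surjective (f := e.symm.toMonoidHom) e.symm.surjective
  -- the image
  set G' : Subgroup (Perm O) := f.range with hG'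
  have eG : G ≃* G' := f.ofInjective hinj
  have hgood : Good G' := hG.equiv eG
  have hnt' : Nontrivial G' := eG.toEquiv.symm.nontrivial
  have htr : IsPretransitive G' O := by
    refine ⟨?_⟩
    rintro a b
    obtain ⟨g, hg⟩ := MulAction.exists_smul_eq G a b
    exact ⟨⟨f g, g, rfl⟩, hg⟩
  have hcardO : Fintype.card O = Nat.card O := (Nat.card_eq_fintype_card).symm
  have hntO : Nontrivial O := Fintype.one_lt_card_iff_nontrivial.1 (by omega)
  -- even in degree at least 7
  have heven : 7 ≤ Nat.card O → G' ≤ alternatingGroup O := by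
    rintro h7 _ ⟨g, rfl⟩
    have hfix : ∀ y : Fin 8, y ∉ O → g • y = y := by
      intro y hy
      have h1 : (Oᶜ : Set (Fin 8)).ncard ≤ 1 := by rw [hcompl]; omega
      have h2 := (Set.ncard_le_one (Set.toFinite _)).1 h1
      exact h2 _ (hinv g y hy) _ hy
    have h3 : ∀ y : Fin 8, y ∈ O ↔ (g : Perm (Fin 8)) y ∈ O := by
      intro y
      constructor
      · intro h; exact MulAction.mem_orbit_of_mem_orbit g h
      · intro h
        by_contra hy
        exact hinv g y hy h
    have h4 : f g = (g : Perm (Fin 8)).subtypePerm (fun y => (h3 y).symm) := by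
      apply Equiv.ext; intro y; apply Subtype.ext; rfl
    rw [Perm.mem_alternatingGroup, h4, Perm.sign_subtypePerm]
    · exact hA g.2
    · intro y hy
      by_contra hyO
      exact hy (hfix y hyO)
  have hcases : Nat.card O = 5 ∨ Nat.card O = 6 ∨ Nat.card O = 7 ∨ Nat.card O = 8 := by omega
  have halt : ∀ n, Nat.card O = n → Nonempty (alternatingGroup O ≃* alternatingGroup (Fin n)) := by
    intro n hn
    let e : O ≃ Fin n := Finite.equivFinOfCardEq hn
    exact ⟨e.altCongrHom⟩
  have hperm : ∀ n, Nat.card O = n → Nonempty (Perm O ≃* Perm (Fin n)) := by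
    intro n hn
    let e : O ≃ Fin n := Finite.equivFinOfCardEq hn
    exact ⟨e.permCongrHom⟩
  rcases hcases with h | h | h | h
  · have h1 := deg5 (by rw [hcardO, h]) G' hgood.not_solvable
    rcases eq_or_of_alternating_le G' h1 with h2 | h2
    · obtain ⟨e2⟩ := halt 5 h
      exact Or.inl ⟨5, le_rfl, by norm_num, ⟨(eG.trans (MulEquiv.subgroupCongr h2)).trans e2⟩⟩
    · obtain ⟨e2⟩ := hperm 5 h
      exact Or.inr (Or.inl ⟨((eG.trans (MulEquiv.subgroupCongr h2)).trans Subgroup.topEquiv).trans e2⟩)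
  · rcases deg6 (by rw [hcardO, h]) G' hgood hnt' with h1 | h1 | h1
    · rcases eq_or_of_alternating_le G' h1 with h2 | h2
      · obtain ⟨e2⟩ := halt 6 h
        exact Or.inl ⟨6, by norm_num, by norm_num, ⟨(eG.trans (MulEquiv.subgroupCongr h2)).trans e2⟩⟩
      · obtain ⟨e2⟩ := hperm 6 h
        exact Or.inr (Or.inr (Or.inl ⟨((eG.trans (MulEquiv.subgroupCongr h2)).trans Subgroup.topEquiv).trans e2⟩))
    · have hsim : IsSimpleGroup G' := simple_of_good hgood (Or.inl h1)
      obtain ⟨e2⟩ := Cfsg.Agent.S0494.result h1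
      exact Or.inl ⟨5, le_rfl, by norm_num, ⟨eG.trans e2⟩⟩
    · obtain ⟨e2⟩ := deg6_iso (by rw [hcardO, h]) G' h1
      exact Or.inr (Or.inl ⟨eG.trans e2⟩)
  · by_cases h1 : alternatingGroup O ≤ G'
    · have h2 := le_antisymm (heven (by omega)) h1
      obtain ⟨e2⟩ := halt 7 h
      exact Or.inl ⟨7, by norm_num, by norm_num, ⟨(eG.trans (MulEquiv.subgroupCongr h2)).trans e2⟩⟩
    · obtain ⟨h2, h3⟩ := Cfsg.Agent.S0678.result (by rw [hcardO, h]) G' hgood.not_solvable h1
      refine Or.inr (Or.inr (Or.inr (Or.inl ⟨?_, ?_⟩)))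
      · rw [Nat.card_congr eG.toEquiv, h2]
      · exact (MulEquiv.isSimpleGroup_congr eG).2 h3
  · rcases deg8 (by rw [hcardO, h]) G' (heven (by omega)) hgood hnt' with h1 | h1 | h1
    · have h2 := le_antisymm (heven (by omega)) h1
      obtain ⟨e2⟩ := halt 8 h
      exact Or.inl ⟨8, by norm_num, by norm_num, ⟨(eG.trans (MulEquiv.subgroupCongr h2)).trans e2⟩⟩
    · refine Or.inr (Or.inr (Or.inr (Or.inl ⟨?_, ?_⟩)))
      · rw [Nat.card_congr eG.toEquiv, h1]
      · exact (MulEquiv.isSimpleGroup_congr eG).2 (simple_of_good hgood (Or.inr h1))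
    · exact Or.inr (Or.inr (Or.inr (Or.inr (by rw [Nat.card_congr eG.toEquiv]; exact h1))))

end Cfsg.Agent.Lib.H53Sub8d
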