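import Mathlib
import Cfsg.Agent.Lib.OrdMiscS
import Cfsg.Agent.Lib.A7Ctx

/-!
# A simple group of order 360 has an irreducible character of degree divisible by ten (helper54)
-/

set_option autoImplicit false
set_option linter.all false

namespace Cfsg.Agent.Lib.H54W4

open Cfsg Subgroup Cfsg.Agent.Lib.DefOneLoc Cfsg.Agent.Lib.DefOneOrd Cfsg.Agent.Lib.CharBasic
open Cfsg.Agent.Lib.DefOneGram Cfsg.Agent.Lib.DefOne Cfsg.Agent.Lib.BRB0 Cfsg.Agent.Lib.BRCore
open Cfsg.Agent.Lib.PBData Cfsg.Agent.Lib.DefOnePrin Cfsg.Agent.Lib.BlockThird Cfsg.Agent.Lib.SmallSimple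
open Cfsg.Agent.Lib.PBNum Cfsg.Agent.Lib.PBExt Cfsg.Agent.Lib.PBStruct Cfsg.Agent.Lib.PBFull
open Cfsg.Agent.Lib.PBLocal Cfsg.Agent.Lib.A7Chars Cfsg.Agent.Lib.A7Table
open scoped ComplexConjugate

universe u

theorem opts360 : optsL (fun _ => true) 5 72 18 = [(36, 2, [-4]), (36, 2, [-9])] := by decide +kernel

theorem comm_of {G : Type u} [Group G] [Finite G] [IsSimpleGroup G] (h : Nat.card G = 360) :
    ¬ IsMulCommutative G := by
  intro hc
  letI : CommGroup G := { (inferInstance : Group G) with mul_comm := fun a b => hc.1.1 a b }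
  have hp : (Nat.card G).Prime := IsSimpleGroup.prime_card
  rw [h] at hp
  norm_num at hp

section

variable {G : Type u} [Group G] [Fintype G] [IsSimpleGroup G] (hG : ¬ IsMulCommutative G)
  (h : Nat.card G = 360)

include hG h

variable {Q : Sylow 5 G} [Fintype (centralizer ((Q : Subgroup G) : Set G))]
  {D : Loc 5 (Q : Subgroup G) (normalizer ((Q : Subgroup G) : Set G)) (centralizer ((Q : Subgroup G) : Set G))}

theorem stage (B : PBE D) : Nat.card (normalizer ((Q : Subgroup G) : Set G)) = 10 ∧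
    Nat.card (centralizer ((Q : Subgroup G) : Set G)) = 5 ∧
    ((([-4] : List ℤ) : Multiset ℤ) = sds B.toPB ∨ (([-9] : List ℤ) : Multiset ℤ) = sds B.toPB) := by
  obtain ⟨hQ, e, c, l, hN, hC, he, he1, hecn, hmem, hl⟩ := dataL hG (M := 72) 18 (fun _ => true) (by rw [h])
    (by norm_num) (by norm_num) B.toPB (fun _ _ => rfl) (by decide +kernel)
  rw [opts360, List.mem_cons, List.mem_singleton, Prod.mk.injEq, Prod.mk.injEq, Prod.mk.injEq, Prod.mk.injEq] at hmem
  rcases hmem with ⟨h1, rfl, rfl⟩ | ⟨h1, rfl, rfl⟩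
  · rw [h1] at hecn
    have hc : c = 1 := by omega
    subst hc
    exact ⟨hN, hC, Or.inl hl⟩
  · rw [h1] at hecn
    have hc : c = 1 := by omega
    subst hc
    exact ⟨hN, hC, Or.inr hl⟩

/-- the data -/
theorem data (B : PBE D) (hN : Nat.card (normalizer ((Q : Subgroup G) : Set G)) = 10)
    (hC : Nat.card (centralizer ((Q : Subgroup G) : Set G)) = 5) (d : ℕ) (hd : 2 < d)
    (hl : (([-(d : ℤ)] : List ℤ) : Multiset ℤ) = sds B.toPB) :
    ∃ (a : IrrCharacter G) (O : Finset (IrrCharacter G)),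
    charDegree (a : G → ℂ) = d ∧
    (∀ χ ∈ O, 5 ∣ charDegree (χ : G → ℂ)) ∧
    (∀ g : G, ¬ 5 ∣ orderOf g → (B.η : G → ℂ) g = (a : G → ℂ) g - 1) ∧
    (∀ F : IrrCharacter G → ℂ, (∀ χ ∈ B.E, F χ = F B.η) → ∑ χ, F χ = F (triv G) + F a + 2 * F B.η + ∑ χ ∈ O, F χ) ∧
    charDegree (B.η : G → ℂ) = d - 1 ∧
    (∀ w : G, w * w = 1 → (∀ x, IsConj w x → x * D.u * x⁻¹ ≠ D.u⁻¹) →
      1 - (a : G → ℂ) w ^ 2 / d + (B.η : G → ℂ) w ^ 2 / (d - 1 : ℕ) = 0) ∧
    (∀ w : G, w * w = 1 → w * D.u * w⁻¹ = D.u⁻¹ →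
      72 * (1 - (a : G → ℂ) w ^ 2 / d + (B.η : G → ℂ) w ^ 2 / (d - 1 : ℕ)) =
        (Nat.card (Subgroup.centralizer ({w} : Set G)) : ℂ) ^ 2) := by
  classical
  have hl2 : (B.X.val).map (fun χ => sd B.toPB χ) = (-(d : ℤ)) ::ₘ 0 := by
    change sds B.toPB = _
    rw [← hl]; rfl
  obtain ⟨a, s, hX, ha, hs⟩ := ext1 hl2
  rw [Multiset.map_eq_zero] at hs
  subst hs
  have hη : sd B.toPB B.η = ((d - 1 : ℕ) : ℤ) := by
    rw [sd_eta, ← hl]
    simp
    omega
  obtain ⟨ha1, ha2⟩ := sigma_of _ ha (by omega)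
  obtain ⟨hη1, hη2⟩ := sigma_of _ hη (by omega)
  replace ha2 : B.σ a = -1 := by
    have : B.σ a = (-(d : ℤ)).sign := ha2
    rw [this, Int.sign_neg, Int.sign_eq_one_of_pos (by omega)]
  replace hη2 : B.σ B.η = 1 := by
    have : B.σ B.η = (((d - 1 : ℕ) : ℤ)).sign := hη2
    rw [this, Int.sign_eq_one_of_pos (by omega)]
  have ha1' : charDegree (a : G → ℂ) = d := by
    rw [ha1]; simp
  have hη1' : charDegree (B.η : G → ℂ) = d - 1 := by
    rw [hη1]; simp
  have hXa : B.X = {a} := by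
    ext χ
    rw [Finset.mem_singleton]
    constructor
    · intro h
      have : χ ∈ B.X.val := h
      rw [hX] at this
      simpa using this
    · rintro rfl
      have : χ ∈ B.X.val := by rw [hX]; simp
      exact this
  have hE2 : B.E.card = 2 := by
    rw [B.cardE, tau_eq (e := 2) (c := 1) (by rw [hN]) (by rw [hC])]
  have haX : a ∈ B.X := by rw [hXa]; exact Finset.mem_singleton_self _
  have haE : a ∉ B.E := fun h => (Finset.disjoint_left.1 B.dE) haX h
  have hta : triv G ≠ a := fun h => B.hX (h ▸ haX)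
  set W : Finset (IrrCharacter G) := insert (triv G) (insert a B.E) with hW
  have htW : triv G ∉ insert a B.E := by
    rw [Finset.mem_insert, not_or]; exact ⟨hta, B.hE⟩
  refine ⟨a, Wᶜ, ha1', ?_, ?_, ?_, hη1', ?_, ?_⟩
  · intro χ hχ
    rw [Finset.mem_compl, hW, Finset.mem_insert, Finset.mem_insert, not_or, not_or] at hχ
    by_contra hcon
    rcases B.all (hinj_of hC) χ hcon with h1 | h1 | h1
    · exact hχ.1 h1
    · rw [hXa, Finset.mem_singleton] at h1; exact hχ.2.1 h1
    · exact hχ.2.2 h1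
  · intro g hg
    have h1 := B.rel g hg
    rw [hXa, Finset.sum_singleton, ha2, hη2] at h1
    push_cast at h1
    linear_combination h1
  · intro F hF
    rw [← Finset.sum_add_sum_compl W, hW, Finset.sum_insert htW, Finset.sum_insert haE,
      Finset.sum_congr rfl hF, Finset.sum_const, hE2, ← hW, nsmul_eq_mul]
    push_cast; ring
  · intro w hw h0
    have h1 := F_zero B.toPB (hinj_of hC) (by norm_num) hw h0
    rw [hXa, Finset.sum_singleton, ha2, hη2, ← BlockDeg.charDegree_cast_irr, ← BlockDeg.charDegree_cast_irr,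
      ha1', hη1'] at h1
    push_cast at h1
    linear_combination h1
  · intro w hw h0
    have h1 := F_one B.toPB (hinj_of hC) (by norm_num) hw h0
    rw [hXa, Finset.sum_singleton, ha2, hη2, ← BlockDeg.charDegree_cast_irr, ← BlockDeg.charDegree_cast_irr,
      ha1', hη1', h] at h1
    push_cast at h1
    linear_combination h1 / 5

theorem aux : ∃ χ : IrrCharacter G, 10 ∣ charDegree (χ : G → ℂ) := by
  classical
  by_contra hno
  push Not at hno
  obtain ⟨Q⟩ : Nonempty (Sylow 5 G) := inferInstance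
  have hQ : Nat.card Q = 5 := (SylEven.data hG (p := 5) (M := 72) (by rw [h]) (by norm_num) Q).1
  obtain ⟨D, i1, ⟨B⟩⟩ := exists_PBE Q hQ
  obtain ⟨hN, hC, hl⟩ := stage hG h B
  obtain ⟨w0, hw0⟩ := exists_prime_orderOf_dvd_card' (G := G) 2 (by rw [h]; norm_num)
  have key : ∀ n m : ℕ, ((n : ℂ)) ^ 2 = (m : ℂ) ^ 2 → n = m := by
    intro n m hnm
    have : n ^ 2 = m ^ 2 := by exact_mod_cast hnm
    exact Nat.pow_left_injective (by norm_num : (2:ℕ) ≠ 0) this
  -- a central character value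
  have hmain : ∀ d : ℕ, 2 < d → ((([-(d : ℤ)] : List ℤ) : Multiset ℤ) = sds B.toPB) → ∃ (a : IrrCharacter G) (O : Finset (IrrCharacter G)) (w : G) (k : ℕ),
      orderOf w = 2 ∧ charDegree (a : G → ℂ) = d ∧ charDegree (B.η : G → ℂ) = d - 1 ∧ (a : G → ℂ) w = ((d - 4 * k : ℤ) : ℂ) ∧ 0 < k ∧ 2 * k < d ∧
      (∀ χ ∈ O, 5 ∣ charDegree (χ : G → ℂ)) ∧ (B.η : G → ℂ) w = (a : G → ℂ) w - 1 ∧
      (∀ F : IrrCharacter G → ℂ, (∀ χ ∈ B.E, F χ = F B.η) → ∑ χ, F χ = F (triv G) + F a + 2 * F B.η + ∑ χ ∈ O, F χ) ∧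
      72 * (16 * k ^ 2) = d * (d - 1) * Nat.card (Subgroup.centralizer ({w} : Set G)) ^ 2 := by
    intro d hd hl
    obtain ⟨a, O, ha, hO, hrel, hsum, hη, hF0, hF1⟩ := data hG h B hN hC d hd hl
    have hw2 : w0 * w0 = 1 := by rw [← pow_two, ← hw0, pow_orderOf_eq_one]
    obtain ⟨k, hk, hk1, hk2⟩ := invol_val hG ha (by omega) hw0
    have hrw := hrel w0 (by rw [hw0]; norm_num)
    have hd0 : (d : ℂ) ≠ 0 := by norm_cast; omega
    have hd1 : ((d - 1 : ℕ) : ℂ) ≠ 0 := by norm_cast; omega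
    have hdd : ((d - 1 : ℕ) : ℂ) = (d : ℂ) - 1 := by rw [Nat.cast_sub (by omega)]; norm_num
    have hid : ∀ s : ℂ, 1 - s ^ 2 / d + (s - 1) ^ 2 / (d - 1 : ℕ) = (s - d) ^ 2 / (d * (d - 1 : ℕ)) := by
      intro s
      field_simp
      rw [hdd]; ring
    have hex : ∃ x, IsConj w0 x ∧ x * D.u * x⁻¹ = D.u⁻¹ := by
      by_contra hcon
      push Not at hcon
      have h2 := hF0 w0 hw2 hcon
      rw [hrw, hid, div_eq_zero_iff] at h2
      rcases h2 with h2 | h2
      · rw [hk] at h2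
        have h3 := pow_eq_zero_iff (two_ne_zero) |>.1 h2
        have h4 : ((4 * k : ℕ) : ℂ) = 0 := by
          push_cast at h3 ⊢
          linear_combination -h3
        have h5 : 4 * k = 0 := by exact_mod_cast h4
        omega
      · exact (mul_ne_zero hd0 hd1) h2
    obtain ⟨x, hx, hx'⟩ := hex
    have hox : orderOf x = 2 := by rw [← order_conj hx, hw0]
    have hx2 : x * x = 1 := by rw [← pow_two, ← hox, pow_orderOf_eq_one]
    have h3 := hF1 x hx2 hx'
    rw [← val_conj a hx, ← val_conj B.η hx, hrw, hid, hk] at h3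
    refine ⟨a, O, x, k, hox, ha, hη, by rw [← val_conj a hx, hk], hk1, hk2, hO, by rw [← val_conj a hx, ← val_conj B.η hx, hrw], hsum, ?_⟩
    have h4 : ((72 * (16 * k ^ 2) : ℕ) : ℂ) = ((d * (d - 1) * Nat.card (Subgroup.centralizer ({x} : Set G)) ^ 2 : ℕ) : ℂ) := by
      push_cast
      rw [← h3]
      field_simp
      push_cast
      ring
    exact_mod_cast h4
  rcases hl with hl | hl
  · obtain ⟨a, O, w, k, hw, ha, hη, hk, hk1, hk2, -, -, -, hc⟩ := hmain 4 (by norm_num) hl
    have hk' : k = 1 := by omega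
    subst hk'
    have h5 : Nat.card (Subgroup.centralizer ({w} : Set G)) ^ 2 = 96 := by omega
    have h6 : Nat.card (Subgroup.centralizer ({w} : Set G)) < 10 := by
      by_contra hcon
      push Not at hcon
      nlinarith
    interval_cases hh : Nat.card (Subgroup.centralizer ({w} : Set G)) <;> omega
  · obtain ⟨a, O, w, k, hw, ha, hη, hk, hk1, hk2, hO, hηw, hsum, hc⟩ := hmain 9 (by norm_num) hl
    have hT : ∀ T : Sylow 2 G, Nat.card (T : Subgroup G) = 8 := by
      intro T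
      have h1 := T.card_eq_multiplicity
      rw [h] at h1
      have h2 : (360 : ℕ).factorization 2 = 3 := by
        rw [show (360 : ℕ) = 2 ^ 3 * 45 by norm_num, Nat.factorization_mul (by norm_num) (by norm_num),
          Nat.Prime.factorization_pow (by norm_num)]
        simp [Nat.factorization_eq_zero_of_not_dvd]
      rw [h2] at h1
      exact h1
    have h8 := OrdMiscS.eight hG hT hw
    have h360 : Nat.card (Subgroup.centralizer ({w} : Set G)) ∣ 360 := by
      rw [← h]; exact Subgroup.card_subgroup_dvd_card _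
    have hc4 : Nat.card (Subgroup.centralizer ({w} : Set G)) = 4 * k := by
      have : Nat.card (Subgroup.centralizer ({w} : Set G)) ^ 2 = (4 * k) ^ 2 := by
        have : (4 * k) ^ 2 = 16 * k ^ 2 := by ring
        rw [this]; omega
      exact Nat.pow_left_injective (by norm_num : (2:ℕ) ≠ 0) this
    have hk3 : k = 2 := by
      rw [hc4] at h8 h360
      have : k < 5 := by omega
      interval_cases k <;> first | rfl | (exfalso; revert h8 h360; decide)
    subst hk3
    have hw1 : w ≠ 1 := by rintro rfl; rw [orderOf_one] at hw; norm_num at hw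
    have hwi : w⁻¹ = w := by
      rw [inv_eq_iff_mul_eq_one, ← pow_two, ← hw, pow_orderOf_eq_one]
    have haw : (a : G → ℂ) w = 1 := by rw [hk]; norm_num
    have hηw' : (B.η : G → ℂ) w = 0 := by rw [hηw, haw]; norm_num
    have h5w : ¬ 5 ∣ orderOf w := by rw [hw]; norm_num
    have e5 : ∀ g, ((triv G : IrrCharacter G) : G → ℂ) g = 1 := fun _ => rfl
    have hη1 : (B.η : G → ℂ) 1 = 8 := by rw [← BlockDeg.charDegree_cast_irr, hη]; norm_num
    have ha1 : (a : G → ℂ) 1 = 9 := by rw [← BlockDeg.charDegree_cast_irr, ha]; norm_num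
    -- sums
    have s1 : ∑ χ ∈ O, (χ : G → ℂ) w * (χ : G → ℂ) 1 = -10 := by
      have h4 := ColTools.col_orth_ne (G := G) (g := w) (h := 1) (by
        intro h; exact hw1 (isConj_one_left.1 h))
      rw [inv_one, hsum (fun χ => (χ : G → ℂ) w * (χ : G → ℂ) 1) (by
        intro χ hχ
        change (χ : G → ℂ) w * (χ : G → ℂ) 1 = (B.η : G → ℂ) w * (B.η : G → ℂ) 1
        rw [B.eqE χ hχ _ h5w, B.eqE χ hχ 1 one_reg])] at h4
      rw [e5, e5, haw, hηw', ha1] at h4
      linear_combination h4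
    have s2 : ∑ χ ∈ O, (χ : G → ℂ) w * (χ : G → ℂ) w = 6 := by
      have h4 := ColTools.col_orth_self (G := G) w
      rw [hwi, hsum (fun χ => (χ : G → ℂ) w * (χ : G → ℂ) w) (by
        intro χ hχ
        change (χ : G → ℂ) w * (χ : G → ℂ) w = (B.η : G → ℂ) w * (B.η : G → ℂ) w
        rw [B.eqE χ hχ _ h5w])] at h4
      rw [e5, haw, hηw', hc4] at h4
      push_cast at h4
      linear_combination h4
    have s3 : ∑ χ ∈ O, (χ : G → ℂ) 1 * (χ : G → ℂ) 1 = 150 := by
      have h4 := ColTools.col_orth_self (G := G) 1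
      have h6 : Nat.card (centralizer ({(1 : G)} : Set G)) = 360 := by
        have hc1 : centralizer ({(1 : G)} : Set G) = ⊤ := by
          rw [eq_top_iff]
          intro x _
          rw [mem_centralizer_singleton_iff, mul_one, one_mul]
        rw [hc1, Subgroup.card_top, h]
      rw [inv_one, hsum (fun χ => (χ : G → ℂ) 1 * (χ : G → ℂ) 1) (by
        intro χ hχ
        change (χ : G → ℂ) 1 * (χ : G → ℂ) 1 = (B.η : G → ℂ) 1 * (B.η : G → ℂ) 1
        rw [B.eqE χ hχ 1 one_reg])] at h4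
      rw [e5, ha1, hη1, h6] at h4
      push_cast at h4
      linear_combination h4
    have s3' : ∑ χ ∈ O, charDegree (χ : G → ℂ) ^ 2 = 150 := by
      have : ((∑ χ ∈ O, charDegree (χ : G → ℂ) ^ 2 : ℕ) : ℂ) = ((150 : ℕ) : ℂ) := by
        push_cast
        rw [← s3]
        refine Finset.sum_congr rfl fun χ _ => ?_
        rw [BlockDeg.charDegree_cast_irr, pow_two]
      exact_mod_cast this
    have hdeg : ∀ χ ∈ O, charDegree (χ : G → ℂ) = 5 := by
      intro χ hχ
      have h1 : charDegree (χ : G → ℂ) ^ 2 ≤ 150 := by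
        rw [← s3']
        exact Finset.single_le_sum (f := fun χ : IrrCharacter G => charDegree (χ : G → ℂ) ^ 2) (fun _ _ => Nat.zero_le _) hχ
      have h2 := hO χ hχ
      have h3 := hno χ
      have h4 : charDegree (χ : G → ℂ) < 13 := by
        by_contra hcon
        push Not at hcon
        nlinarith
      have h5 : charDegree (χ : G → ℂ) ≠ 0 := by
        rw [← deg_eq]; exact (ColTools.deg_pos χ).ne'
      omega
    have hval : ∀ χ ∈ O, ((χ : G → ℂ) w - 1) * ((χ : G → ℂ) w + 3) = 0 := by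
      intro χ hχ
      obtain ⟨j, hj, hj1, hj2⟩ := invol_val hG (hdeg χ hχ) (by norm_num) hw
      have : j = 1 ∨ j = 2 := by omega
      rcases this with rfl | rfl
      · rw [hj]; norm_num
      · rw [hj]; norm_num
    have hval1 : ∀ χ ∈ O, (χ : G → ℂ) 1 = 5 := by
      intro χ hχ
      rw [← BlockDeg.charDegree_cast_irr, hdeg χ hχ]; norm_num
    have t1 : 5 * ∑ χ ∈ O, (χ : G → ℂ) w = -10 := by
      rw [← s1, Finset.mul_sum]
      refine Finset.sum_congr rfl fun χ hχ => ?_
      rw [hval1 χ hχ]; ring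
    have t3 : (25 : ℂ) * (O.card : ℂ) = 150 := by
      rw [← s3, Finset.sum_congr rfl (fun χ hχ => by rw [hval1 χ hχ]), Finset.sum_const, nsmul_eq_mul]
      ring
    have t2 : ∑ χ ∈ O, ((χ : G → ℂ) w * (χ : G → ℂ) w + 2 * (χ : G → ℂ) w - 3) = 0 := by
      apply Finset.sum_eq_zero
      intro χ hχ
      linear_combination hval χ hχ
    rw [Finset.sum_sub_distrib, Finset.sum_add_distrib, s2, ← Finset.mul_sum, Finset.sum_const, nsmul_eq_mul] at t2
    have : (16 : ℂ) = 0 := by linear_combination -t2 + 2 / 5 * t1 - 3 / 25 * t3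
    norm_num at this

end

theorem deg10 {G : Type u} [Group G] [Finite G] [IsSimpleGroup G] (h : Nat.card G = 360) :
    ∃ χ : IrrCharacter G, 10 ∣ ColTools.deg χ := by
  letI := Fintype.ofFinite G
  obtain ⟨χ, hχ⟩ := aux (comm_of h) h
  exact ⟨χ, by rw [deg_eq]; exact hχ⟩

end Cfsg.Agent.Lib.H54W4
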