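import Cfsg.Agent.Lib.H55KS
import Cfsg.Agent.Lib.Cores2
import Cfsg.Agent.Lib.H70Frattini

/-! S4990, piece B8a (second seat, helper14). -/

set_option autoImplicit false
set_option linter.all false
open Cfsg
universe u
namespace Cfsg.Agent.Lib.H55B8aH14
open Cfsg.Agent.Lib.H55KR Cfsg.Agent.Lib.Cores Subgroup

theorem pgroup_le {X : Type} [Group X] [Finite X] {p : ℕ} [hp : Fact p.Prime] {P Q : Subgroup X} [P.Normal]
    (hidx : ¬ p ∣ P.index) (hQ : IsPGroup p Q) : Q ≤ P := by
  intro x hx
  obtain ⟨m, hm⟩ := hQ ⟨x, hx⟩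
  have hm' : x ^ (p ^ m) = 1 := congrArg Subtype.val hm
  have h1 : x ^ P.index ∈ P := P.pow_index_mem x
  have hc : Nat.Coprime P.index (p ^ m) := Nat.Coprime.pow_right m ((Nat.Prime.coprime_iff_not_dvd hp.out).2 hidx).symm
  have hb := Nat.gcd_eq_gcd_ab P.index (p ^ m)
  rw [hc] at hb
  have h2 : x = (x ^ P.index) ^ (Nat.gcdA P.index (p ^ m)) := by
    have h3 : x ^ ((1 : ℕ) : ℤ) = x := by rw [Nat.cast_one, zpow_one]
    conv_lhs => rw [← h3, hb, zpow_add, zpow_mul, zpow_mul, zpow_natCast, zpow_natCast, hm', one_zpow, mul_one]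
  rw [h2]
  exact zpow_mem h1 _

theorem b8a (hK : K1S) (h5 : A5S) (p : ℕ) [Fact p.Prime] (X : Type) [Group X] [Finite X]
    (hs : Group.IsSolvable X) (hcore : Cfsg.pPrimeCore p X = ⊥) (P : Subgroup X) [P.Normal]
    (hP : IsPGroup p P) (hidx : ¬ p ∣ P.index) (hbot : P ≠ ⊥) :
    Nat.card (ConjClasses X) ≤ 3 ^ ((Nat.card P).factorization p - 1) * Nat.card P := by
  have hp : p.Prime := Fact.out
  have hPF : fittingSubgroup X = P := by
    rw [fittingSubgroup_eq_pCore hcore]
    apply le_antisymm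
    · exact pgroup_le hidx (isPGroup_pCore p X)
    · exact le_pCore inferInstance hP
  have hΦP : frattini X ≤ P := by
    rw [← hPF]
    exact le_fittingSubgroup inferInstance (frattini_nilpotent)
  set f := QuotientGroup.mk' (frattini X) with hf
  have hfs : Function.Surjective f := QuotientGroup.mk'_surjective _
  have hker : f.ker = frattini X := QuotientGroup.ker_mk' _
  have hVF : P.map f = fittingSubgroup (X ⧸ frattini X) := by
    rw [fittingSubgroup_quotient_frattini, hPF]
  have hVn : (P.map f).Normal := Subgroup.Normal.map inferInstance f hfs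
  have hexp : ∀ v ∈ P.map f, v ^ p = 1 := by
    rintro _ ⟨x, hx, rfl⟩
    rw [← map_pow, ← MonoidHom.mem_ker, hker]
    apply map_frattini_le P
    exact ⟨⟨x, hx⟩ ^ p, H70Frattini.pow_mem_frattini hP ⟨x, hx⟩, rfl⟩
  have hVidx : (P.map f).index = P.index := Subgroup.index_map_eq P hfs (by rw [hker]; exact hΦP)
  have hcomm : ∀ v ∈ P.map f, ∀ w ∈ P.map f, v * w = w * v := by
    rintro _ ⟨x, hx, rfl⟩ _ ⟨y, hy, rfl⟩
    have h1 : x * y * x⁻¹ * y⁻¹ ∈ frattini X := by
      apply map_frattini_le P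
      refine ⟨⟨x, hx⟩ * ⟨y, hy⟩ * ⟨x, hx⟩⁻¹ * ⟨y, hy⟩⁻¹, ?_, rfl⟩
      apply H70Frattini.commutator_le_frattini hP
      have := Subgroup.commutator_mem_commutator (H₁ := (⊤ : Subgroup P)) (H₂ := ⊤) (mem_top (⟨x, hx⟩ : P)) (mem_top (⟨y, hy⟩ : P))
      rw [commutatorElement_def] at this
      exact this
    rw [← hker, MonoidHom.mem_ker] at h1
    rw [map_mul, map_mul, map_mul, map_inv, map_inv] at h1
    have h2 := mul_inv_eq_one.1 h1
    exact mul_inv_eq_iff_eq_mul.1 h2
  have hsq : Group.IsSolvable (X ⧸ frattini X) := inferInstance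
  have hself : centralizer ((P.map f : Subgroup (X ⧸ frattini X)) : Set (X ⧸ frattini X)) = P.map f := by
    apply le_antisymm
    · have h1 := centralizer_fittingSubgroup_le (G := X ⧸ frattini X)
      rw [← hVF] at h1
      exact h1
    · intro v hv
      rw [mem_centralizer_iff]
      intro w hw
      exact hcomm w hw v hv
  obtain ⟨n, hn⟩ := IsPGroup.iff_card.1 (hP.map f)
  obtain ⟨d, hd⟩ := IsPGroup.iff_card.1 hP
  have hn1 : 1 ≤ n := by
    by_contra h0
    have hn0 : n = 0 := by omega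
    rw [hn0, pow_zero] at hn
    have hVb : P.map f = ⊥ := Subgroup.card_eq_one.1 hn
    have h1 : (⊤ : Subgroup (X ⧸ frattini X)) ≤ ⊥ := by
      rw [hVb] at hself
      rw [← hself]
      intro v _
      rw [mem_centralizer_iff]
      intro w hw
      have : w = 1 := Subgroup.mem_bot.1 hw
      rw [this]; simp
    have h2 : frattini X = ⊤ := by
      rw [eq_top_iff]
      intro x _
      have h3 : f x ∈ (⊥ : Subgroup (X ⧸ frattini X)) := h1 (mem_top _)
      rw [← hker, MonoidHom.mem_ker]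
      exact Subgroup.mem_bot.1 h3
    have h4 : (⊥ : Subgroup X) = ⊤ := frattini_nongenerating (by rw [h2]; simp)
    apply hbot
    rw [eq_bot_iff, h4]
    exact le_top
  have hmain := h5 p (X ⧸ frattini X) (P.map f) n hsq hexp (by rw [hVidx]; exact hidx) hself hn1 hn
  have hK1 := hK X (frattini X)
  have hkΦ : Nat.card (ConjClasses (frattini X)) ≤ Nat.card (frattini X) :=
    Nat.card_le_card_of_surjective _ ConjClasses.mk_surjective
  have hcard : Nat.card (frattini X) * p ^ n = Nat.card P := by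
    have e1 := (P.map f).card_mul_index
    have e2 := P.card_mul_index
    have e3 := Subgroup.card_eq_card_quotient_mul_card_subgroup (frattini X)
    rw [← e1, hVidx, hn] at e3
    rw [← e2] at e3
    have hpos : 0 < P.index := Nat.pos_of_ne_zero Subgroup.FiniteIndex.index_ne_zero
    apply Nat.eq_of_mul_eq_mul_right hpos
    rw [e3]; ring
  have hdn : n ≤ d := by
    have : p ^ n ∣ p ^ d := by rw [← hd, ← hcard]; exact Dvd.intro_left _ rfl
    exact (Nat.pow_dvd_pow_iff_le_right hp.one_lt).1 this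
  have hfac : (Nat.card P).factorization p = d := by
    rw [hd, hp.factorization_pow, Finsupp.single_eq_same]
  rw [hfac]
  calc Nat.card (ConjClasses X) ≤ Nat.card (ConjClasses (frattini X)) * Nat.card (ConjClasses (X ⧸ frattini X)) := hK1
    _ ≤ Nat.card (frattini X) * (3 ^ (n - 1) * p ^ n) := Nat.mul_le_mul hkΦ hmain
    _ = 3 ^ (n - 1) * Nat.card P := by rw [← hcard]; ring
    _ ≤ 3 ^ (d - 1) * Nat.card P := Nat.mul_le_mul_right _ (Nat.pow_le_pow_right (by norm_num) (by omega))

end Cfsg.Agent.Lib.H55B8aH14
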