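import Mathlib
import Cfsg.Agent.Lib.Coherence

set_option autoImplicit false

namespace Cfsg.Agent.Lib.H55B9c

open Cfsg Cfsg.Agent.Lib
open scoped Classical ComplexConjugate

universe u
variable {G : Type u} [Group G] [Fintype G]

/-- symmetrisation -/
noncomputable def Psi (f : G → ℂ) (x : G) : ℂ := ∑ t : G, f (t⁻¹ * x * t)

theorem Psi_conj (f : G → ℂ) (x t : G) : Psi f (t * x * t⁻¹) = Psi f x := by
  unfold Psi
  refine Fintype.sum_equiv (Equiv.mulLeft t⁻¹) _ _ (fun s => ?_)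
  congr 1
  simp only [Equiv.coe_mulLeft]
  group

theorem inner_Psi (f φ : G → ℂ) (hφ : ∀ x t : G, φ (t * x * t⁻¹) = φ x) :
    classInner (Psi f) φ = ∑ x : G, f x * conj (φ x) := by
  unfold classInner Psi
  have h1 : ∀ x : G, (∑ t : G, f (t⁻¹ * x * t)) * conj (φ x) =
      ∑ t : G, f (t⁻¹ * x * t) * conj (φ x) := fun x => Finset.sum_mul _ _ _
  simp_rw [h1]
  rw [Finset.sum_comm]
  have h2 : ∀ t : G, ∑ x : G, f (t⁻¹ * x * t) * conj (φ x) = ∑ x : G, f x * conj (φ x) := by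
    intro t
    refine Fintype.sum_equiv ((MulAut.conj t⁻¹).toEquiv) _ _ (fun x => ?_)
    have e : (MulAut.conj t⁻¹).toEquiv x = t⁻¹ * x * t := by simp
    rw [e]
    have := hφ (t⁻¹ * x * t) t
    have e2 : t * (t⁻¹ * x * t) * t⁻¹ = x := by group
    rw [e2] at this
    rw [this]
  simp_rw [h2]
  rw [Finset.sum_const, Finset.card_univ, nsmul_eq_mul, Nat.card_eq_fintype_card, ← mul_assoc,
    inv_mul_cancel₀, one_mul]
  exact_mod_cast Fintype.card_ne_zero

theorem card_pre (N : Subgroup G) [N.Normal] (g : G) :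
    (Finset.univ.filter (fun t : G => (g⁻¹ * (t⁻¹ * g * t)) ∈ N)).card =
      Nat.card N * Nat.card (Subgroup.centralizer ({(g : G ⧸ N)} : Set (G ⧸ N))) := by
  set C := Subgroup.centralizer ({(g : G ⧸ N)} : Set (G ⧸ N)) with hC
  have h1 : (Finset.univ.filter (fun t : G => (g⁻¹ * (t⁻¹ * g * t)) ∈ N)).card =
      Nat.card (C.comap (QuotientGroup.mk' N)) := by
    rw [← Fintype.card_subtype, ← Nat.card_eq_fintype_card]
    refine Nat.card_congr (Equiv.subtypeEquivRight (fun t => ?_))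
    rw [Subgroup.mem_comap, hC, Subgroup.mem_centralizer_singleton_iff]
    have e : ((QuotientGroup.mk' N) t * (g : G ⧸ N) = (g : G ⧸ N) * (QuotientGroup.mk' N) t) ↔
        ((t * g : G) : G ⧸ N) = ((g * t : G) : G ⧸ N) := Iff.rfl
    rw [e, QuotientGroup.eq]
    have e2 : (t * g)⁻¹ * (g * t) = g⁻¹ * (t⁻¹ * g * t) := by group
    rw [e2]
  rw [h1]
  have h2 := (C.comap (QuotientGroup.mk' N)).card_mul_index
  rw [Subgroup.index_comap_of_surjective _ (QuotientGroup.mk'_surjective N)] at h2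
  have h3 := C.card_mul_index
  have h4 := N.card_mul_index
  have h5 : N.index = Nat.card (G ⧸ N) := rfl
  have hpos : 0 < C.index := Nat.pos_of_ne_zero Subgroup.index_ne_zero_of_finite
  apply Nat.eq_of_mul_eq_mul_right hpos
  rw [h2, ← h4, h5, ← h3]
  ring

theorem bessel (N : Subgroup G) [N.Normal] (S : Finset (IrrCharacter G)) (g : G) (f : G → ℂ)
    (hf0 : ∀ x, g⁻¹ * x ∉ N → f x = 0) (c : IrrCharacter G → ℂ)
    (hc : ∀ χ ∈ S, ∀ n ∈ N, (χ : G → ℂ) (g * n) = c χ * f (g * n))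
    (hnorm : ∑ x, ‖f x‖ ^ 2 = (Nat.card N : ℝ)) :
    ∑ χ ∈ S, ‖c χ‖ ^ 2 ≤
      (Nat.card (Subgroup.centralizer ({(g : G ⧸ N)} : Set (G ⧸ N))) : ℝ) := by
  have hNpos : (0 : ℝ) < Nat.card N := by exact_mod_cast Nat.card_pos
  -- inner products
  have hin : ∀ χ ∈ S, ‖classInner (Psi f) (χ : G → ℂ)‖ ^ 2 = (Nat.card N : ℝ) ^ 2 * ‖c χ‖ ^ 2 := by
    intro χ hχ
    rw [inner_Psi f _ (fun x t => χ.2.isClassFunction x t)]
    have h1 : ∀ x : G, f x * conj ((χ : G → ℂ) x) = conj (c χ) * ((‖f x‖ ^ 2 : ℝ) : ℂ) := by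
      intro x
      by_cases hx : g⁻¹ * x ∈ N
      · have e := hc χ hχ _ hx
        have e2 : g * (g⁻¹ * x) = x := by group
        rw [e2] at e
        rw [e, map_mul, ← Complex.normSq_eq_norm_sq, ← Complex.mul_conj]
        ring
      · rw [hf0 x hx]; simp
    simp_rw [h1]
    rw [← Finset.mul_sum, ← Complex.ofReal_sum, hnorm, norm_mul, mul_pow, RCLike.norm_conj]
    simp
    ring
  have hb := Coherence.bessel_ineq S (fun χ => (χ : G → ℂ)) (fun _ => 1)
    (fun _ _ => one_ne_zero) (fun χ _ => by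
      rw [χ.2.classInner_self]; simp)
    (fun χ _ ψ _ hne => by
      rw [χ.2.classInner_eq ψ.2, if_neg (fun h => hne (Subtype.ext h))]) (Psi f)
  simp only [div_one] at hb
  rw [Finset.sum_congr rfl hin, ← Finset.mul_sum] at hb
  -- norm of Psi
  have hn : Coherence.nsq (Psi f) ≤
      (Nat.card N : ℝ) * Nat.card (Subgroup.centralizer ({(g : G ⧸ N)} : Set (G ⧸ N))) * Nat.card N := by
    unfold Coherence.nsq
    refine (Complex.re_le_norm _).trans ?_
    rw [inner_Psi f _ (fun x t => Psi_conj f x t)]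
    have h1 : ∀ x : G, f x * conj (Psi f x) = ∑ t : G, f x * conj (f (t⁻¹ * x * t)) := by
      intro x
      unfold Psi
      rw [map_sum, Finset.mul_sum]
    simp_rw [h1]
    rw [Finset.sum_comm]
    refine (norm_sum_le _ _).trans ?_
    have h2 : ∀ t : G, ‖∑ x : G, f x * conj (f (t⁻¹ * x * t))‖ ≤
        if (g⁻¹ * (t⁻¹ * g * t)) ∈ N then (Nat.card N : ℝ) else 0 := by
      intro t
      split_ifs with ht
      · refine (norm_sum_le _ _).trans ?_
        have h3 : ∀ x : G, ‖f x * conj (f (t⁻¹ * x * t))‖ ≤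
            (‖f x‖ ^ 2 + ‖f (t⁻¹ * x * t)‖ ^ 2) / 2 := by
          intro x
          rw [norm_mul, RCLike.norm_conj]
          nlinarith [sq_nonneg (‖f x‖ - ‖f (t⁻¹ * x * t)‖)]
        refine (Finset.sum_le_sum (fun x _ => h3 x)).trans ?_
        rw [← Finset.sum_div, Finset.sum_add_distrib, hnorm]
        have h4 : ∑ x : G, ‖f (t⁻¹ * x * t)‖ ^ 2 = ∑ x : G, ‖f x‖ ^ 2 := by
          refine Fintype.sum_equiv ((MulAut.conj t⁻¹).toEquiv) _ _ (fun x => ?_)
          have e : (MulAut.conj t⁻¹).toEquiv x = t⁻¹ * x * t := by simp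
          rw [e]
        rw [h4, hnorm]
        linarith
      · apply le_of_eq
        rw [norm_eq_zero]
        apply Finset.sum_eq_zero
        intro x _
        by_cases hx : g⁻¹ * x ∈ N
        · rw [hf0 (t⁻¹ * x * t), map_zero, mul_zero]
          intro hcon
          apply ht
          have e : g⁻¹ * (t⁻¹ * g * t) = (g⁻¹ * (t⁻¹ * x * t)) * (t⁻¹ * (g⁻¹ * x)⁻¹ * t⁻¹⁻¹) := by
            group
          rw [e]
          exact N.mul_mem hcon (Subgroup.Normal.conj_mem inferInstance _ (N.inv_mem hx) _)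
        · rw [hf0 x hx, zero_mul]
    refine (Finset.sum_le_sum (fun t _ => h2 t)).trans ?_
    rw [← Finset.sum_filter, Finset.sum_const, nsmul_eq_mul, card_pre]
    push_cast
    exact le_refl _
  have h5 : (Nat.card N : ℝ) ^ 2 * ∑ χ ∈ S, ‖c χ‖ ^ 2 ≤
      (Nat.card N : ℝ) ^ 2 * Nat.card (Subgroup.centralizer ({(g : G ⧸ N)} : Set (G ⧸ N))) := by
    calc _ ≤ _ := hb
      _ ≤ _ := hn
      _ = _ := by ring
  exact le_of_mul_le_mul_left h5 (by positivity)

end Cfsg.Agent.Lib.H55B9c
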