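import Mathlib
import Cfsg.Agent.Lib.Coherence
import Cfsg.Agent.Lib.CharBasic

set_option autoImplicit false
set_option linter.unusedSectionVars false
set_option linter.unusedSimpArgs false
set_option linter.unusedVariables false

open Cfsg
universe u
namespace Cfsg.Agent.Lib.H55B9x

open scoped ComplexConjugate

section
variable {G : Type u} [Group G] [Fintype G] (N : Subgroup G) [hN : N.Normal] [Fintype N]

open Classical in
theorem sum_coset {A : Type*} [AddCommMonoid A] (g : G) (φ : G → A) :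
    ∑ x : G, (if (x : G ⧸ N) = (g : G ⧸ N) then φ x else 0) = ∑ n : N, φ (g * n) := by
  rw [← Finset.sum_filter]
  symm
  refine Finset.sum_bij (fun (n : N) _ => g * (n : G)) ?_ ?_ ?_ ?_
  · intro n _
    rw [Finset.mem_filter]
    refine ⟨Finset.mem_univ _, ?_⟩
    rw [eq_comm, QuotientGroup.eq]
    have : g⁻¹ * (g * (n : G)) = n := by group
    rw [this]
    exact n.2
  · intro a _ b _ hab
    exact Subtype.ext (mul_left_cancel hab)
  · intro x hx
    rw [Finset.mem_filter] at hx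
    have h2 := hx.2
    rw [eq_comm, QuotientGroup.eq] at h2
    exact ⟨⟨g⁻¹ * x, h2⟩, Finset.mem_univ _, by simp⟩
  · intro n _
    rfl

theorem card_W (q : G ⧸ N) :
    Nat.card ((Subgroup.centralizer ({q} : Set (G ⧸ N))).comap (QuotientGroup.mk' N)) =
      Nat.card N * Nat.card (Subgroup.centralizer ({q} : Set (G ⧸ N))) := by
  set C := Subgroup.centralizer ({q} : Set (G ⧸ N)) with hC
  have h1 := (C.comap (QuotientGroup.mk' N)).card_mul_index
  have h2 := C.card_mul_index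
  have h3 : (C.comap (QuotientGroup.mk' N)).index = C.index :=
    C.index_comap_of_surjective (QuotientGroup.mk'_surjective N)
  have h4 := N.card_mul_index
  have h5 : Nat.card (G ⧸ N) = N.index := rfl
  rw [h3] at h1
  rw [h5] at h2
  have h6 : 0 < C.index := Nat.pos_of_ne_zero (Subgroup.index_ne_zero_of_finite)
  apply Nat.eq_of_mul_eq_mul_right h6
  rw [h1, mul_assoc, h2, h4]

end

section
variable {G : Type u} [Group G] [Fintype G]

theorem sum_conj (y : G) {A : Type*} [AddCommMonoid A] (φ : G → A) :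
    ∑ x : G, φ (y * x * y⁻¹) = ∑ x : G, φ x := by
  exact Equiv.sum_comp (MulAut.conj y).toEquiv φ

/-- sum over all conjugates -/
noncomputable def Ps (F : G → ℂ) (x : G) : ℂ := ∑ y : G, F (y * x * y⁻¹)

theorem Ps_conj (F : G → ℂ) (z x : G) : Ps F (z * x * z⁻¹) = Ps F x := by
  unfold Ps
  rw [← Equiv.sum_comp (Equiv.mulRight z) (fun y => F (y * x * y⁻¹))]
  apply Finset.sum_congr rfl
  intro y _
  congr 1
  simp only [Equiv.coe_mulRight]
  group

theorem Ps_sum (F Θ : G → ℂ) (hΘ : ∀ z x, Θ (z * x * z⁻¹) = Θ x) :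
    ∑ x : G, Ps F x * conj (Θ x) = (Nat.card G : ℂ) * ∑ x : G, F x * conj (Θ x) := by
  unfold Ps
  simp_rw [Finset.sum_mul]
  rw [Finset.sum_comm]
  have h : ∀ y : G, ∑ x : G, F (y * x * y⁻¹) * conj (Θ x) = ∑ x : G, F x * conj (Θ x) := by
    intro y
    rw [← sum_conj y (fun x => F x * conj (Θ x))]
    apply Finset.sum_congr rfl
    intro x _
    rw [hΘ]
  simp_rw [h]
  rw [Finset.sum_const, Finset.card_univ, nsmul_eq_mul, Nat.card_eq_fintype_card]

end


section
variable {G : Type u} [Group G] [Fintype G] (N : Subgroup G) [hN : N.Normal] [Fintype N]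

open Cfsg.Agent.Lib.CharBasic Cfsg.Agent.Lib.Coherence

theorem norm_Ps (F : G → ℂ) (g : G) (m : ℝ) (hF0 : ∀ x : G, (x : G ⧸ N) ≠ (g : G ⧸ N) → F x = 0)
    (hF : ∑ x : G, ‖F x‖ ^ 2 = m) :
    nsq (Ps F) ≤ (Nat.card ((Subgroup.centralizer ({(g : G ⧸ N)} : Set (G ⧸ N))).comap
      (QuotientGroup.mk' N)) : ℝ) * m := by
  classical
  have hG0 : (Nat.card G : ℂ) ≠ 0 := by exact_mod_cast Nat.card_pos.ne'
  have h1 : classInner (Ps F) (Ps F) = ∑ w : G, ∑ u : G, F u * conj (F (w * u * w⁻¹)) := by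
    unfold classInner
    rw [Ps_sum F (Ps F) (fun z x => Ps_conj F z x), ← mul_assoc, inv_mul_cancel₀ hG0, one_mul,
      Finset.sum_comm]
    apply Finset.sum_congr rfl
    intro x _
    rw [← Finset.mul_sum]
    congr 1
    unfold Ps
    rw [map_sum]
  have h2 : nsq (Ps F) ≤ ∑ w : G, ‖∑ u : G, F u * conj (F (w * u * w⁻¹))‖ := by
    unfold nsq
    rw [h1]
    exact (Complex.re_le_norm _).trans (norm_sum_le _ _)
  set W := (Subgroup.centralizer ({(g : G ⧸ N)} : Set (G ⧸ N))).comap (QuotientGroup.mk' N) with hW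
  have h3 : ∀ w : G, w ∉ W → ∑ u : G, F u * conj (F (w * u * w⁻¹)) = 0 := by
    intro w hw
    apply Finset.sum_eq_zero
    intro u _
    by_cases hu : (u : G ⧸ N) = (g : G ⧸ N)
    · rw [hF0 (w * u * w⁻¹), map_zero, mul_zero]
      intro h
      apply hw
      rw [hW, Subgroup.mem_comap, Subgroup.mem_centralizer_singleton_iff]
      have h' : ((w : G ⧸ N) * (u : G ⧸ N) * (w : G ⧸ N)⁻¹) = (g : G ⧸ N) := h
      rw [hu] at h'
      exact mul_inv_eq_iff_eq_mul.1 h'
    · rw [hF0 u hu, zero_mul]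
  have h4 : ∀ w : G, ‖∑ u : G, F u * conj (F (w * u * w⁻¹))‖ ≤ m := by
    intro w
    refine (norm_sum_le _ _).trans ?_
    have h5 : ∀ u : G, ‖F u * conj (F (w * u * w⁻¹))‖ ≤ (‖F u‖ ^ 2 + ‖F (w * u * w⁻¹)‖ ^ 2) / 2 := by
      intro u
      rw [norm_mul, Complex.norm_conj]
      nlinarith [sq_nonneg (‖F u‖ - ‖F (w * u * w⁻¹)‖)]
    refine (Finset.sum_le_sum (fun u _ => h5 u)).trans ?_
    rw [← Finset.sum_div, Finset.sum_add_distrib, sum_conj w (fun u => ‖F u‖ ^ 2), hF]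
    linarith
  refine h2.trans ?_
  have hm : 0 ≤ m := by rw [← hF]; positivity
  have h6 : ∑ w : G, ‖∑ u : G, F u * conj (F (w * u * w⁻¹))‖ ≤ ∑ w : G, (if w ∈ W then m else 0) := by
    apply Finset.sum_le_sum
    intro w _
    split_ifs with hw
    · exact h4 w
    · rw [h3 w hw, norm_zero]
  refine h6.trans ?_
  rw [← Finset.sum_filter, Finset.sum_const, nsmul_eq_mul]
  have h7 : (Finset.univ.filter (fun w : G => w ∈ W)).card = Nat.card W := by
    rw [Nat.card_eq_fintype_card, Fintype.card_subtype]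
  rw [h7]

theorem bessel (S : Finset (IrrCharacter G)) (g : G) (f : G → ℂ) (c : IrrCharacter G → ℂ)
    (hc : ∀ χ ∈ S, ∀ n : N, (χ : G → ℂ) (g * n) = c χ * f (g * n))
    (hf : ∑ n : N, ‖f (g * n)‖ ^ 2 = Nat.card N) :
    ∑ χ ∈ S, ∑ n : N, ‖(χ : G → ℂ) (g * n)‖ ^ 2 ≤
      (Nat.card N * Nat.card (Subgroup.centralizer ({(g : G ⧸ N)} : Set (G ⧸ N))) : ℕ) := by
  classical
  have hG0 : (Nat.card G : ℂ) ≠ 0 := by exact_mod_cast Nat.card_pos.ne'
  have hN0 : (0 : ℝ) < Nat.card N := by exact_mod_cast Nat.card_pos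
  set F : G → ℂ := fun x => if (x : G ⧸ N) = (g : G ⧸ N) then f x else 0 with hFdef
  have hF0 : ∀ x : G, (x : G ⧸ N) ≠ (g : G ⧸ N) → F x = 0 := fun x hx => if_neg hx
  have hF : ∑ x : G, ‖F x‖ ^ 2 = (Nat.card N : ℝ) := by
    rw [← hf, ← sum_coset N g (fun x => ‖f x‖ ^ 2)]
    apply Finset.sum_congr rfl
    intro x _
    simp only [hFdef]
    split_ifs with h
    · rfl
    · simp
  have h1 := norm_Ps N F g _ hF0 hF
  rw [card_W] at h1
  have h2 := bessel_ineq S (fun χ : IrrCharacter G => (χ : G → ℂ)) (fun _ => 1) (fun _ _ => one_ne_zero)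
    (fun i _ => by rw [irr_orthonormal, if_pos rfl]; norm_num)
    (fun i _ j _ hij => by rw [irr_orthonormal, if_neg hij]) (Ps F)
  have h3 : ∀ χ ∈ S, classInner (Ps F) (χ : G → ℂ) = (Nat.card N : ℂ) * conj (c χ) := by
    intro χ hχ
    unfold classInner
    rw [Ps_sum F (χ : G → ℂ) (fun z x => χ.2.isClassFunction x z), ← mul_assoc,
      inv_mul_cancel₀ hG0, one_mul]
    have h4 : ∑ x : G, F x * conj ((χ : G → ℂ) x) = ∑ n : N, f (g * n) * conj ((χ : G → ℂ) (g * n)) := by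
      rw [← sum_coset N g (fun x => f x * conj ((χ : G → ℂ) x))]
      apply Finset.sum_congr rfl
      intro x _
      simp only [hFdef]
      split_ifs with h
      · rfl
      · rw [zero_mul]
    rw [h4]
    have h5 : ∀ n : N, f (g * n) * conj ((χ : G → ℂ) (g * n)) = conj (c χ) * ((‖f (g * n)‖ ^ 2 : ℝ) : ℂ) := by
      intro n
      rw [hc χ hχ n, map_mul, mul_left_comm, Complex.mul_conj, Complex.normSq_eq_norm_sq]
    simp_rw [h5]
    rw [← Finset.mul_sum, ← Complex.ofReal_sum, hf]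
    push_cast
    ring
  have h6 : ∑ χ ∈ S, (Nat.card N : ℝ) ^ 2 * ‖c χ‖ ^ 2 ≤
      ((Nat.card N * Nat.card (Subgroup.centralizer ({(g : G ⧸ N)} : Set (G ⧸ N))) : ℕ) : ℝ) * Nat.card N := by
    refine le_trans (le_of_eq ?_) (h2.trans h1)
    apply Finset.sum_congr rfl
    intro χ hχ
    rw [h3 χ hχ, norm_mul, Complex.norm_conj, mul_pow, div_one, Complex.norm_natCast]
  have h7 : ∑ χ ∈ S, ∑ n : N, ‖(χ : G → ℂ) (g * n)‖ ^ 2 = ∑ χ ∈ S, (Nat.card N : ℝ) * ‖c χ‖ ^ 2 := by
    apply Finset.sum_congr rfl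
    intro χ hχ
    rw [← hf, Finset.sum_mul]
    apply Finset.sum_congr rfl
    intro n _
    rw [hc χ hχ n, norm_mul, mul_pow, mul_comm]
  rw [h7]
  apply le_of_mul_le_mul_right _ hN0
  refine le_trans (le_of_eq ?_) h6
  rw [Finset.sum_mul]
  apply Finset.sum_congr rfl
  intro χ _
  ring

end

end Cfsg.Agent.Lib.H55B9x
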