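import Mathlib
import Cfsg.Agent.Lib.UniqueInvolution
import Cfsg.Agent.Lib.Involutions

set_option autoImplicit false

/-!
Recognition of `GL(2,3)` by `Q_8 ⋊ S_3`.
-/

namespace Cfsg.Agent.Lib.H55GL23

open Cfsg.Agent.Lib

/-- Two groups with the same factorization data are isomorphic. -/
theorem factor_iso {N H A B : Type*} [Group N] [Group H] [Group A] [Group B]
    (f₁ : N →* A) (f₂ : H →* A) (g₁ : N →* B) (g₂ : H →* B)
    (hf : Function.Bijective (fun p : N × H => f₁ p.1 * f₂ p.2))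
    (hg : Function.Bijective (fun p : N × H => g₁ p.1 * g₂ p.2)) (α : H → N → N)
    (hα : ∀ h n, f₂ h * f₁ n * (f₂ h)⁻¹ = f₁ (α h n))
    (hβ : ∀ h n, g₂ h * g₁ n * (g₂ h)⁻¹ = g₁ (α h n)) : Nonempty (A ≃* B) := by
  let F := Equiv.ofBijective _ hf
  let E := Equiv.ofBijective _ hg
  have hF : ∀ n h, F (n, h) = f₁ n * f₂ h := fun n h => rfl
  have hE : ∀ n h, E (n, h) = g₁ n * g₂ h := fun n h => rfl
  have hmul : ∀ p q : N × H, F p * F q = F (p.1 * α p.2 q.1, p.2 * q.2) := by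
    rintro ⟨n, h⟩ ⟨n', h'⟩
    rw [hF, hF, hF, map_mul, map_mul, ← hα]
    group
  have hmul' : ∀ p q : N × H, E p * E q = E (p.1 * α p.2 q.1, p.2 * q.2) := by
    rintro ⟨n, h⟩ ⟨n', h'⟩
    rw [hE, hE, hE, map_mul, map_mul, ← hβ]
    group
  refine ⟨MulEquiv.mk' (F.symm.trans E) ?_⟩
  intro a b
  obtain ⟨p, rfl⟩ := F.surjective a
  obtain ⟨q, rfl⟩ := F.surjective b
  rw [hmul]
  simp only [Equiv.trans_apply, Equiv.symm_apply_apply]
  rw [hmul']

theorem exists_dihedralHom {G : Type*} [Group G] (u r : G) (n : ℕ) (hn : orderOf r = n)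
    (hu : u * u = 1) (h : u * r * u⁻¹ = r⁻¹) :
    ∃ f : DihedralGroup n →* G, f (.r 1) = r ∧ f (.sr 0) = u := by
  subst hn
  refine ⟨Involutions.dihedralHom u r hu h, ?_, ?_⟩
  · show Involutions.zp r 1 = r
    have := Involutions.zp_intCast r 1
    simpa using this
  · show u * Involutions.zp r 0 = u
    have := Involutions.zp_intCast r 0
    simpa using this

open QuaternionGroup in
/-- the action of `D_6` on `Q_8` -/
def rhoF : QuaternionGroup 2 → QuaternionGroup 2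
  | .a n => (xa 0) ^ n.val
  | .xa n => (xa 0) ^ (-n).val * xa 3

open QuaternionGroup in
def upsF : QuaternionGroup 2 → QuaternionGroup 2
  | .a n => (a 3) ^ n.val
  | .xa n => (a 3) ^ (-n).val * xa 1

def alpha : DihedralGroup 3 → QuaternionGroup 2 → QuaternionGroup 2
  | .r n => rhoF^[n.val]
  | .sr n => upsF ∘ rhoF^[n.val]

theorem alpha_mul : ∀ h h' : DihedralGroup 3, ∀ n, alpha (h * h') n = alpha h (alpha h' n) := by
  decide +kernel

theorem alpha_map : ∀ h : DihedralGroup 3, ∀ n n', alpha h (n * n') = alpha h n * alpha h n' := by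
  decide +kernel

theorem alpha_one : ∀ n, alpha 1 n = n := by decide +kernel

theorem gen_quat : ∀ x : QuaternionGroup 2, ∃ i j : Fin 4,
    x = (QuaternionGroup.a 1) ^ (i : ℕ) * (QuaternionGroup.xa 0) ^ (j : ℕ) := by decide +kernel

theorem gen_dih : ∀ x : DihedralGroup 3, ∃ i : Fin 3, ∃ j : Fin 2,
    x = (DihedralGroup.r 1) ^ (i : ℕ) * (DihedralGroup.sr 0) ^ (j : ℕ) := by decide +kernel

/-- the compatibility condition needs to be checked on generators only -/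
theorem compat {B : Type*} [Group B] (g₁ : QuaternionGroup 2 →* B) (g₂ : DihedralGroup 3 →* B)
    (h1 : g₂ (.r 1) * g₁ (.a 1) * (g₂ (.r 1))⁻¹ = g₁ (.xa 0))
    (h2 : g₂ (.r 1) * g₁ (.xa 0) * (g₂ (.r 1))⁻¹ = g₁ (.xa 3))
    (h3 : g₂ (.sr 0) * g₁ (.a 1) * (g₂ (.sr 0))⁻¹ = g₁ (.a 3))
    (h4 : g₂ (.sr 0) * g₁ (.xa 0) * (g₂ (.sr 0))⁻¹ = g₁ (.xa 1)) :
    ∀ h n, g₂ h * g₁ n * (g₂ h)⁻¹ = g₁ (alpha h n) := by
  -- multiplicativity in n
  have hn : ∀ h : DihedralGroup 3, g₂ h * g₁ (.a 1) * (g₂ h)⁻¹ = g₁ (alpha h (.a 1)) →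
      g₂ h * g₁ (.xa 0) * (g₂ h)⁻¹ = g₁ (alpha h (.xa 0)) → ∀ n, g₂ h * g₁ n * (g₂ h)⁻¹ = g₁ (alpha h n) := by
    intro h ha hx
    have hmul : ∀ n n', g₂ h * g₁ n * (g₂ h)⁻¹ = g₁ (alpha h n) → g₂ h * g₁ n' * (g₂ h)⁻¹ = g₁ (alpha h n') →
        g₂ h * g₁ (n * n') * (g₂ h)⁻¹ = g₁ (alpha h (n * n')) := by
      intro n n' e e'
      rw [alpha_map, map_mul, map_mul, ← e, ← e']; group
    have hone : g₂ h * g₁ 1 * (g₂ h)⁻¹ = g₁ (alpha h 1) := by
      have : alpha h 1 = 1 := by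
        have h5 := alpha_map h 1 1
        rw [one_mul] at h5
        exact left_eq_mul.1 h5
      rw [this, map_one]; group
    have hpow : ∀ n, g₂ h * g₁ n * (g₂ h)⁻¹ = g₁ (alpha h n) → ∀ k : ℕ,
        g₂ h * g₁ (n ^ k) * (g₂ h)⁻¹ = g₁ (alpha h (n ^ k)) := by
      intro n e k
      induction k with
      | zero => rw [pow_zero]; exact hone
      | succ k ih => rw [pow_succ]; exact hmul _ _ ih e
    intro n
    obtain ⟨i, j, rfl⟩ := gen_quat n
    exact hmul _ _ (hpow _ ha _) (hpow _ hx _)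
  have hmul : ∀ h h', (∀ n, g₂ h * g₁ n * (g₂ h)⁻¹ = g₁ (alpha h n)) → (∀ n, g₂ h' * g₁ n * (g₂ h')⁻¹ = g₁ (alpha h' n)) →
      ∀ n, g₂ (h * h') * g₁ n * (g₂ (h * h'))⁻¹ = g₁ (alpha (h * h') n) := by
    intro h h' e e' n
    rw [alpha_mul, ← e, ← e', map_mul]; group
  have hone : ∀ n, g₂ 1 * g₁ n * (g₂ 1)⁻¹ = g₁ (alpha 1 n) := by
    intro n
    rw [alpha_one, map_one]; group
  have hpow : ∀ h, (∀ n, g₂ h * g₁ n * (g₂ h)⁻¹ = g₁ (alpha h n)) → ∀ k : ℕ,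
      ∀ n, g₂ (h ^ k) * g₁ n * (g₂ (h ^ k))⁻¹ = g₁ (alpha (h ^ k) n) := by
    intro h e k
    induction k with
    | zero => rw [pow_zero]; exact hone
    | succ k ih => rw [pow_succ]; exact hmul _ _ ih e
  have v1 : alpha (.r 1) (.a 1) = .xa 0 := by decide +kernel
  have v2 : alpha (.r 1) (.xa 0) = .xa 3 := by decide +kernel
  have v3 : alpha (.sr 0) (.a 1) = .a 3 := by decide +kernel
  have v4 : alpha (.sr 0) (.xa 0) = .xa 1 := by decide +kernel
  have hr := hn (.r 1) (by rw [h1, v1]) (by rw [h2, v2])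
  have hs := hn (.sr 0) (by rw [h3, v3]) (by rw [h4, v4])
  intro h
  obtain ⟨i, j, rfl⟩ := gen_dih h
  exact hmul _ _ (hpow _ hr _) (hpow _ hs _)

/-- generators of `Q_8 ⋊ S_3` -/
structure Data {B : Type*} [Group B] (i j r u : B) : Prop where
  hi4 : i ^ 4 = 1
  hi2 : i ^ 2 ≠ 1
  hj : r * i * r⁻¹ = j
  hk : r * j * r⁻¹ = i * j
  hjj : j ^ 2 = i ^ 2
  hji : j * i * j⁻¹ = i⁻¹
  hr3 : r ^ 3 = 1
  hr1 : r ≠ 1
  hu : u * u = 1
  hu1 : u ≠ 1
  hui2 : u ≠ i ^ 2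
  hur : u * r * u⁻¹ = r⁻¹
  hui : u * i * u⁻¹ = i⁻¹
  huj : u * j * u⁻¹ = (i * j)⁻¹

theorem Data.exists_homs {B : Type*} [Group B] {i j r u : B} (D : Data i j r u) (hB : Nat.card B = 48) :
    ∃ (g₁ : QuaternionGroup 2 →* B) (g₂ : DihedralGroup 3 →* B),
      Function.Bijective (fun p : QuaternionGroup 2 × DihedralGroup 3 => g₁ p.1 * g₂ p.2) ∧
      ∀ h n, g₂ h * g₁ n * (g₂ h)⁻¹ = g₁ (alpha h n) := by
  have hBfin : Finite B := Nat.finite_of_card_ne_zero (by omega)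
  have hro : orderOf r = 3 := orderOf_eq_prime D.hr3 D.hr1
  obtain ⟨g₂, hg2r, hg2u⟩ := exists_dihedralHom u r 3 hro D.hu D.hur
  let g₁ : QuaternionGroup 2 →* B := UniqueInvolution.quatHom 2 i j D.hi4 D.hjj D.hji
  have e1 : g₁ (.a 1) = i := UniqueInvolution.quatHom_a_one 2 i j D.hi4 D.hjj D.hji
  have e2 : g₁ (.xa 0) = j := UniqueInvolution.quatHom_xa_zero 2 i j D.hi4 D.hjj D.hji
  have e3 : g₁ (.xa 3) = i * j := by
    have : (QuaternionGroup.xa 3 : QuaternionGroup 2) = .a 1 * .xa 0 := by decide +kernel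
    rw [this, map_mul, e1, e2]
  have e4 : g₁ (.a 3) = i⁻¹ := by
    have : (QuaternionGroup.a 3 : QuaternionGroup 2) = (.a 1)⁻¹ := by decide +kernel
    rw [this, map_inv, e1]
  have e5 : g₁ (.xa 1) = (i * j)⁻¹ := by
    have : (QuaternionGroup.xa 1 : QuaternionGroup 2) = (.a 1 * .xa 0)⁻¹ := by decide +kernel
    rw [this, map_inv, map_mul, e1, e2]
  have e6 : g₁ (.a 2) = i ^ 2 := by
    have : (QuaternionGroup.a 2 : QuaternionGroup 2) = (.a 1) ^ 2 := by decide +kernel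
    rw [this, map_pow, e1]
  have hcompat := compat g₁ g₂ (by rw [hg2r, e1, e2]; exact D.hj) (by rw [hg2r, e2, e3]; exact D.hk)
    (by rw [hg2u, e1, e4]; exact D.hui) (by rw [hg2u, e2, e5]; exact D.huj)
  have hinj1 : ∀ n, g₁ n = 1 → n = 1 := by
    intro n hn
    have h1 : ∀ n : QuaternionGroup 2, n = 1 ∨ n = .a 2 ∨ n * n = .a 2 := by decide +kernel
    rcases h1 n with h2 | h2 | h2
    · exact h2
    · exfalso
      rw [h2, e6] at hn; exact D.hi2 hn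
    · exfalso
      apply D.hi2
      rw [← e6, ← h2, map_mul, hn, one_mul]
  have hdisj : ∀ n h, g₁ n = g₂ h → n = 1 ∧ h = 1 := by
    intro n h hnh
    have h1 : ∀ h : DihedralGroup 3, h = 1 ∨ (h = .r 1) ∨ (h * h = .r 1) ∨
        (∃ x : DihedralGroup 3, x * h * x⁻¹ = .sr 0) := by decide +kernel
    have h4 : g₁ n ^ 4 = 1 := by
      rw [← map_pow]
      have : ∀ n : QuaternionGroup 2, n ^ 4 = 1 := by decide +kernel
      rw [this, map_one]
    rcases h1 h with h2 | h2 | h2 | ⟨x, h2⟩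
    · rw [h2, map_one] at hnh
      exact ⟨hinj1 n hnh, h2⟩
    · exfalso
      rw [hnh, h2, hg2r] at h4
      apply D.hr1
      rw [pow_succ, D.hr3, one_mul] at h4; exact h4
    · exfalso
      have h5 : g₁ (n * n) = r := by rw [map_mul, hnh, ← map_mul, h2, hg2r]
      have h6 : r ^ 4 = 1 := by
        rw [← h5, ← map_pow]
        have : ∀ n : QuaternionGroup 2, (n * n) ^ 4 = 1 := by decide +kernel
        rw [this, map_one]
      apply D.hr1
      rw [pow_succ, D.hr3, one_mul] at h6; exact h6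
    · exfalso
      have h5 : g₁ (alpha x n) = u := by
        rw [← hcompat, hnh, ← map_inv, ← map_mul, ← map_mul, h2, hg2u]
      have h6 : ∀ n : QuaternionGroup 2, n = 1 ∨ n = .a 2 ∨ n * n ≠ 1 := by decide +kernel
      rcases h6 (alpha x n) with h7 | h7 | h7
      · rw [h7, map_one] at h5; exact D.hu1 h5.symm
      · rw [h7, e6] at h5; exact D.hui2 h5.symm
      · apply h7
        apply hinj1
        rw [map_mul, h5, D.hu]
  have hinj : Function.Injective (fun p : QuaternionGroup 2 × DihedralGroup 3 => g₁ p.1 * g₂ p.2) := by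
    rintro ⟨n, h⟩ ⟨n', h'⟩ heq
    have heq' : g₁ n * g₂ h = g₁ n' * g₂ h' := heq
    have h1 : g₁ (n'⁻¹ * n) = g₂ (h' * h⁻¹) := by
      rw [map_mul, map_mul, map_inv, map_inv]
      calc (g₁ n')⁻¹ * g₁ n = (g₁ n')⁻¹ * (g₁ n * g₂ h) * (g₂ h)⁻¹ := by group
        _ = (g₁ n')⁻¹ * (g₁ n' * g₂ h') * (g₂ h)⁻¹ := by rw [heq']
        _ = g₂ h' * (g₂ h)⁻¹ := by group
    obtain ⟨h2, h3⟩ := hdisj _ _ h1
    rw [inv_mul_eq_one] at h2
    rw [mul_inv_eq_one] at h3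
    rw [h2, h3]
  refine ⟨g₁, g₂, ?_, hcompat⟩
  have := Fintype.ofFinite B
  rw [Fintype.bijective_iff_injective_and_card]
  refine ⟨hinj, ?_⟩
  rw [← Nat.card_eq_fintype_card (α := B), hB]
  rfl

theorem Data.iso {A B : Type*} [Group A] [Group B] {i j r u : A} {i' j' r' u' : B}
    (D : Data i j r u) (D' : Data i' j' r' u') (hA : Nat.card A = 48) (hB : Nat.card B = 48) :
    Nonempty (A ≃* B) := by
  obtain ⟨f₁, f₂, hf, hf'⟩ := D.exists_homs hA
  obtain ⟨g₁, g₂, hg, hg'⟩ := D'.exists_homs hB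
  exact factor_iso f₁ f₂ g₁ g₂ hf hg alpha hf' hg'

def iG : GL (Fin 2) (ZMod 3) := ⟨!![0, 1; 2, 0], !![0, 2; 1, 0], by decide +kernel, by decide +kernel⟩
def jG : GL (Fin 2) (ZMod 3) := ⟨!![1, 1; 1, 2], !![2, 2; 2, 1], by decide +kernel, by decide +kernel⟩
def rG : GL (Fin 2) (ZMod 3) := ⟨!![0, 1; 2, 2], !![2, 2; 1, 0], by decide +kernel, by decide +kernel⟩
def uG : GL (Fin 2) (ZMod 3) := ⟨!![0, 1; 1, 0], !![0, 1; 1, 0], by decide +kernel, by decide +kernel⟩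

theorem dataGL : Data iG jG rG uG := by
  refine ⟨?_, ?_, ?_, ?_, ?_, ?_, ?_, ?_, ?_, ?_, ?_, ?_, ?_, ?_⟩ <;> decide +kernel

theorem card_GL : Nat.card (GL (Fin 2) (ZMod 3)) = 48 := by
  have : Fact (Nat.Prime 3) := ⟨by norm_num⟩
  rw [Matrix.card_GL_field]
  simp [Fin.prod_univ_two]

theorem Data.equiv_GL {B : Type*} [Group B] {i j r u : B} (D : Data i j r u) (hB : Nat.card B = 48) :
    Nonempty (B ≃* GL (Fin 2) (ZMod 3)) := D.iso dataGL hB card_GL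

end Cfsg.Agent.Lib.H55GL23
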