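import Cfsg.Agent.Lib.H55KleinSetup
import Cfsg.Agent.Lib.StructConst
import Cfsg.Agent.Lib.ZStarChar
import Cfsg.Agent.Lib.H76Char
import Cfsg.Agent.Lib.BlockDefZero

set_option autoImplicit false

/-!
Character theory of groups with a Klein four Sylow 2-subgroup `S`, all involutions conjugate and
`C(t) = S × K`, `|K|` odd.
-/

namespace Cfsg.Agent.Lib.H55KleinChar

open Cfsg Cfsg.Agent.Lib Cfsg.Agent.Lib.H55Invol Cfsg.Agent.Lib.H55Klein Cfsg.Agent.Lib.H55KleinSetup
open Cfsg.Agent.Lib.CharBasic Cfsg.Agent.Lib.StructConst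
open scoped ComplexConjugate

universe u

variable {G : Type u} [Group G] [Fintype G] {t : G} {S K : Subgroup G}

/-- four times the indicator function of the elements of even order -/
noncomputable def Phi (G : Type u) [Group G] : G → ℂ := fun g => if 2 ∣ orderOf g then 4 else 0

/-- indicator of `tK` -/
noncomputable def ind (t : G) (K : Subgroup G) : G → ℂ := by
  classical exact fun g => if ∃ k ∈ K, g = t * k then 1 else 0

theorem Phi_isClassFunction : IsClassFunction G (Phi G) := by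
  intro g h
  unfold Phi
  rw [orderOf_conj]

theorem Phi_eq (h : Setup t S K) (g : G) :
    Phi G g = (Nat.card ↥K : ℂ)⁻¹ * Nat.card G * avg (ind t K) g := by
  classical
  have hG : (Nat.card G : ℂ) ≠ 0 := by exact_mod_cast Nat.card_pos.ne'
  have hK : (Nat.card ↥K : ℂ) ≠ 0 := by exact_mod_cast Nat.card_pos.ne'
  have h1 : ∑ c, ind t K (c * g * c⁻¹) = (Nat.card {c : G // ∃ k ∈ K, c * g * c⁻¹ = t * k} : ℂ) := by
    unfold ind
    rw [Finset.sum_boole, Nat.card_eq_fintype_card, Fintype.card_subtype]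
  unfold avg
  rw [h1]
  by_cases hg : 2 ∣ orderOf g
  · rw [h.card_conj_tK hg, h.card_cent]
    unfold Phi
    rw [if_pos hg]
    push_cast
    field_simp
  · have : Nat.card {c : G // ∃ k ∈ K, c * g * c⁻¹ = t * k} = 0 := by
      rw [Nat.card_eq_zero]
      left
      constructor
      rintro ⟨c, k, hk, he⟩
      apply hg
      rw [← orderOf_conj c g, he]
      exact h.even_mul hk
    rw [this]
    unfold Phi
    rw [if_neg hg]
    simp

theorem classInner_ind (χ : G → ℂ) [Fintype ↥K] :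
    classInner (ind t K) χ = (Nat.card G : ℂ)⁻¹ * ∑ k : ↥K, conj (χ (t * k)) := by
  classical
  rw [classInner_def]
  congr 1
  symm
  have hinj : Function.Injective (fun k : ↥K => t * (k : G)) := by
    intro a b hab
    exact Subtype.ext (mul_left_cancel hab)
  rw [← Finset.sum_image (s := Finset.univ) (g := fun k : ↥K => t * (k : G)) (f := fun g => conj (χ g))
    (fun a _ b _ hab => hinj hab)]
  rw [← Finset.sum_subset (Finset.subset_univ (Finset.univ.image fun k : ↥K => t * (k : G)))]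
  · apply Finset.sum_congr rfl
    intro g hg
    obtain ⟨k, -, rfl⟩ := Finset.mem_image.1 hg
    unfold ind
    rw [if_pos ⟨k, k.2, rfl⟩, one_mul]
  · intro g _ hg
    unfold ind
    rw [if_neg, zero_mul]
    rintro ⟨k, hk, rfl⟩
    exact hg (Finset.mem_image.2 ⟨⟨k, hk⟩, Finset.mem_univ _, rfl⟩)

theorem classInner_Phi (h : Setup t S K) [Fintype ↥K] {χ : G → ℂ} (hχ : IsClassFunction G χ) :
    classInner (Phi G) χ = (Nat.card ↥K : ℂ)⁻¹ * ∑ k : ↥K, conj (χ (t * k)) := by
  have hG : (Nat.card G : ℂ) ≠ 0 := by exact_mod_cast Nat.card_pos.ne'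
  have h1 : Phi G = ((Nat.card ↥K : ℂ)⁻¹ * Nat.card G) • avg (ind t K) := by
    ext g
    rw [Phi_eq h]
    rfl
  rw [h1, classInner_smul_left, classInner_avg _ hχ, classInner_ind]
  field_simp

theorem classInner_Phi_one (h : Setup t S K) : classInner (Phi G) 1 = 1 := by
  classical
  have := Fintype.ofFinite ↥K
  rw [classInner_Phi h (fun g h => rfl)]
  simp only [Pi.one_apply, map_one, Finset.sum_const, Finset.card_univ, nsmul_eq_mul, mul_one]
  rw [← Nat.card_eq_fintype_card]
  have hK : (Nat.card ↥K : ℂ) ≠ 0 := by exact_mod_cast Nat.card_pos.ne'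
  exact inv_mul_cancel₀ hK

theorem classInner_Phi_Phi (h : Setup t S K) : classInner (Phi G) (Phi G) = 4 := by
  have h1 : classInner (Phi G) (Phi G) = 4 * classInner (Phi G) 1 := by
    rw [classInner_def, classInner_def]
    have h2 : ∀ g, Phi G g * conj (Phi G g) = 4 * (Phi G g * conj ((1 : G → ℂ) g)) := by
      intro g
      unfold Phi
      split_ifs
      · simp [map_ofNat]
      · simp
    simp only [h2, ← Finset.mul_sum]
    ring
  rw [h1, classInner_Phi_one h, mul_one]

/-- the homomorphism from `K × {±1}` onto `K⟨t⟩` -/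
noncomputable def homKt (h : Setup t S K) : ↥K × ℤˣ →* G := by
  classical exact
  { toFun := fun p => (p.1 : G) * (if p.2 = 1 then 1 else t)
    map_one' := by simp
    map_mul' := by
      rintro ⟨a, x⟩ ⟨b, y⟩
      have htt := mul_self h.ht
      have hb := h.hcomm t h.htS b b.2
      rcases Int.units_eq_one_or x with rfl | rfl
      · rcases Int.units_eq_one_or y with rfl | rfl
        · simp
        · simp [mul_assoc]
      · rcases Int.units_eq_one_or y with rfl | rfl
        · simp only [Prod.mk_mul_mk, mul_one, Subgroup.coe_mul]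
          rw [if_neg (by decide)]
          simp only [if_true, mul_one]
          rw [mul_assoc, ← hb, mul_assoc]
        · simp only [Prod.mk_mul_mk, Subgroup.coe_mul]
          rw [if_pos (by decide), if_neg (by decide), mul_one]
          calc (a : G) * b = a * b * (t * t) := by rw [htt, mul_one]
            _ = a * (b * t) * t := by group
            _ = a * (t * b) * t := by rw [hb]
            _ = a * t * (b * t) := by group }

theorem exists_int (h : Setup t S K) [Fintype ↥K] {χ : G → ℂ} (hχ : IsCharacter G χ) :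
    ∃ m : ℤ, classInner (Phi G) χ = m := by
  classical
  have hK : (Nat.card ↥K : ℂ) ≠ 0 := by exact_mod_cast Nat.card_pos.ne'
  obtain ⟨m1, hm1⟩ := (hχ.comp (homKt h)).classInner_nat (isCharacter_one (G := ↥K × ℤˣ))
  obtain ⟨m2, hm2⟩ := BlockDefZero.sum_over_subgroup K hχ
  refine ⟨2 * m1 - m2, ?_⟩
  rw [classInner_Phi h hχ.isClassFunction]
  have h1 : (Nat.card (↥K × ℤˣ) : ℂ) = 2 * Nat.card ↥K := by
    rw [Nat.card_prod, Nat.card_eq_fintype_card (α := ℤˣ)]
    have : Fintype.card ℤˣ = 2 := rfl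
    rw [this]; push_cast; ring
  rw [classInner_def, h1, Fintype.sum_prod_type] at hm1
  have h2 : ∀ k : ↥K, ∑ y : ℤˣ, χ (homKt h (k, y)) * conj ((1 : ↥K × ℤˣ → ℂ) (k, y)) = χ k + χ (t * k) := by
    intro k
    have hb := h.hcomm t h.htS k k.2
    have h3 : (Finset.univ : Finset ℤˣ) = {1, -1} := by decide
    rw [h3, Finset.sum_pair (by decide)]
    have e1 : homKt h (k, 1) = k := by
      show (k : G) * (if (1 : ℤˣ) = 1 then 1 else t) = k
      rw [if_pos rfl, mul_one]
    have e2 : homKt h (k, -1) = t * k := by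
      show (k : G) * (if (-1 : ℤˣ) = 1 then 1 else t) = t * k
      rw [if_neg (by decide), hb]
    rw [e1, e2]
    simp
  simp only [h2] at hm1
  rw [Finset.sum_add_distrib, hm2] at hm1
  have h4 : ∑ k : ↥K, χ (t * k) = Nat.card ↥K * (2 * m1 - m2) := by
    have h5 : (2 * (Nat.card ↥K : ℂ)) ≠ 0 := mul_ne_zero two_ne_zero hK
    rw [inv_mul_eq_iff_eq_mul₀ h5] at hm1
    linear_combination hm1
  have h6 : ∑ k : ↥K, conj (χ (t * k)) = Nat.card ↥K * (2 * m1 - m2) := by
    rw [← map_sum, h4, map_mul, map_sub, map_mul, map_natCast, map_natCast, map_natCast, map_ofNat]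
  rw [h6]
  push_cast
  field_simp

/-- the structure constant formula -/
theorem sum_formula (h : Setup t S K) :
    ∑ χ : IrrCharacter G, classInner (Phi G) (χ : G → ℂ) * (χ : G → ℂ) t * conj ((χ : G → ℂ) t) / (χ : G → ℂ) 1 =
      8 * (Nat.card ↥(Subgroup.centralizer ({t} : Set G)) : ℂ) / Nat.card G := by
  classical
  have hG : (Nat.card G : ℂ) ≠ 0 := by exact_mod_cast Nat.card_pos.ne'
  have h1 := sum_sum_conj (Phi G) t t
  have h2 : ∀ a : G, ∑ b, Phi G (a * t * a⁻¹ * (b * t * b⁻¹)⁻¹) =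
      4 * (2 * (Nat.card ↥(Subgroup.centralizer ({t} : Set G)) : ℂ)) := by
    intro a
    rw [← Equiv.sum_comp (Equiv.mulLeft a)]
    have h3 : ∀ b : G, Phi G (a * t * a⁻¹ * ((Equiv.mulLeft a) b * t * ((Equiv.mulLeft a) b)⁻¹)⁻¹) =
        if 2 ∣ orderOf (t * (b * t * b⁻¹)) then 4 else 0 := by
      intro b
      have e : a * t * a⁻¹ * ((Equiv.mulLeft a) b * t * ((Equiv.mulLeft a) b)⁻¹)⁻¹ =
          a * (t * (b * t * b⁻¹)) * a⁻¹ := by
        show a * t * a⁻¹ * ((a * b) * t * (a * b)⁻¹)⁻¹ = a * (t * (b * t * b⁻¹)) * a⁻¹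
        calc a * t * a⁻¹ * ((a * b) * t * (a * b)⁻¹)⁻¹ = a * (t * (b * t⁻¹ * b⁻¹)) * a⁻¹ := by group
          _ = _ := by rw [inv_eq_self h.ht]
      rw [e, Phi_isClassFunction]
      rfl
    simp only [h3]
    rw [← Finset.sum_filter, Finset.sum_const, nsmul_eq_mul]
    have h4 := h.card_even_mul
    rw [Nat.card_eq_fintype_card, Fintype.card_subtype] at h4
    rw [h4]
    push_cast
    ring
  simp only [h2, Finset.sum_const, Finset.card_univ, nsmul_eq_mul] at h1
  rw [← Nat.card_eq_fintype_card] at h1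
  rw [eq_div_iff hG]
  have h5 : (Nat.card G : ℂ) ^ 2 ≠ 0 := pow_ne_zero 2 hG
  apply mul_left_cancel₀ hG
  linear_combination -h1

/-- the characters involved are constant on `tK` -/
theorem const_on_tK (h : Setup t S K) {χ : G → ℂ} (hχ : IsIrrCharacter G χ) (h1 : χ ≠ 1)
    {m : ℤ} (hm : classInner (Phi G) χ = m) (hodd : Odd m) {k : G} (hk : k ∈ K) : χ (t * k) = χ t := by
  classical
  obtain ⟨M, hM⟩ := H76Char.exists_isPModular 2
  have := BlockRing.isPrime hM
  have hG : (Nat.card G : ℂ) ≠ 0 := by exact_mod_cast Nat.card_pos.ne'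
  apply ZStarChar.char_mul_eq hM hχ _ t (k := 1) (by rw [pow_one, pow_two, mul_self h.ht]) K h.hK _ _ hk
  · -- χ is in the principal block
    intro hI
    -- |G| = 4 N
    obtain ⟨N, hN⟩ : ∃ N, Nat.card G = 4 * N := by
      have h2 := S.card_mul_index
      rw [h.hS.card_four] at h2
      exact ⟨_, h2.symm⟩
    have hNodd : Odd N := by
      have h2 := S.card_mul_index
      rw [h.hS.card_four, hN] at h2
      have h3 : S.index = N := by omega
      rw [← h3, ← Nat.not_even_iff_odd, even_iff_two_dvd]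
      exact h.hidx
    have hsum0 : ∑ g, χ g = 0 := by
      have h2 := hχ.classInner_eq_zero (isIrrCharacter_one (G := G)) h1
      rw [classInner_def] at h2
      simp only [Pi.one_apply, map_one, mul_one] at h2
      exact (mul_eq_zero.1 h2).resolve_left (inv_ne_zero hG)
    have hsumE : ∑ g, (if 2 ∣ orderOf g then χ g else 0) = (N : ℂ) * m := by
      have h2 := congrArg conj hm
      rw [conj_classInner, classInner_def] at h2
      have h3 : ∀ g, χ g * conj (Phi G g) = 4 * (if 2 ∣ orderOf g then χ g else 0) := by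
        intro g
        unfold Phi
        split_ifs
        · rw [map_ofNat, mul_comm]
        · simp
      simp only [h3, ← Finset.mul_sum] at h2
      rw [map_intCast, hN] at h2
      push_cast at h2
      have hN0 : (N : ℂ) ≠ 0 := by
        intro h0
        apply hG
        rw [hN]; push_cast; rw [h0, mul_zero]
      field_simp at h2
      linear_combination h2
    have hsplit : ∑ g, (if Odd (orderOf g) then χ g else 0) + ∑ g, (if 2 ∣ orderOf g then χ g else 0) =
        ∑ g, χ g := by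
      rw [← Finset.sum_add_distrib]
      apply Finset.sum_congr rfl
      intro g _
      by_cases hg : 2 ∣ orderOf g
      · rw [if_pos hg, if_neg, zero_add]
        rw [Nat.not_odd_iff_even]; exact even_iff_two_dvd.2 hg
      · rw [if_neg hg, if_pos, add_zero]
        rw [← Nat.not_even_iff_odd]
        intro he; exact hg (even_iff_two_dvd.1 he)
    have hsumO : ∑ g, (if Odd (orderOf g) then χ g else 0) = -((N : ℂ) * m) := by
      rw [← hsumE]
      linear_combination hsplit + hsum0
    have hext : ZStarChar.ext χ (ZStarChar.sig G) = -((N : ℂ) * m) := by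
      rw [ZStarChar.ext_eq_sum, ← hsumO]
      apply Finset.sum_congr rfl
      intro g _
      rw [ZStarChar.sig_coeff]
      split_ifs
      · rw [one_mul]
      · rw [zero_mul]
    obtain ⟨d, hd, hd1⟩ := hχ.exists_degree
    have h4 : MemLocalIdeal M ((-(N * m) : ℤ) : ℂ) := by
      have h5 := BlockRing.idl_mul_left (M := M) (BlockRing.loc_natCast d) hI
      rw [← hd1, ZStarChar.om, hext, mul_div_cancel₀ _ hχ.one_ne_zero] at h5
      push_cast
      exact h5
    rw [BlockRing.idl_intCast_iff hM] at h4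
    rw [dvd_neg] at h4
    have h5 : Odd ((N : ℤ) * m) := Odd.mul (by exact_mod_cast hNodd) hodd
    rw [Int.odd_iff] at h5
    omega
  · intro n hn
    exact h.hcomm t h.htS n hn
  · intro g hg n hn
    obtain ⟨s, hs, k', hk', rfl⟩ := h.hcent g hg.eq.symm
    have h5 := h.hcomm s hs (k'⁻¹ * n * k') (mul_mem (mul_mem (inv_mem hk') hn) hk')
    have h6 := h.hcomm s hs k' hk'
    have h7 := h.hcomm s hs n hn
    have h8 : (s * k')⁻¹ * n * (s * k') = k'⁻¹ * n * k' := by
      calc (s * k')⁻¹ * n * (s * k') = k'⁻¹ * s⁻¹ * (n * s) * k' := by group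
        _ = k'⁻¹ * s⁻¹ * (s * n) * k' := by rw [h7]
        _ = k'⁻¹ * n * k' := by group
    rw [h8]
    exact mul_mem (mul_mem (inv_mem hk') hn) hk'

theorem value_eq (h : Setup t S K) {χ : G → ℂ} (hχ : IsIrrCharacter G χ) (h1 : χ ≠ 1)
    {m : ℤ} (hm : classInner (Phi G) χ = m) (hodd : Odd m) : χ t = m := by
  classical
  have := Fintype.ofFinite ↥K
  have h2 := classInner_Phi h hχ.isClassFunction
  have h3 : ∀ k : ↥K, conj (χ (t * k)) = conj (χ t) := by
    intro k
    rw [const_on_tK h hχ h1 hm hodd k.2]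
  simp only [h3, Finset.sum_const, Finset.card_univ, nsmul_eq_mul] at h2
  have hK : (Nat.card ↥K : ℂ) ≠ 0 := by exact_mod_cast Nat.card_pos.ne'
  rw [← Nat.card_eq_fintype_card, inv_mul_cancel_left₀ hK, hm] at h2
  have h4 := congrArg conj h2
  rw [map_intCast, Complex.conj_conj] at h4
  exact h4.symm

theorem degree_mod (h : Setup t S K) {χ : G → ℂ} (hχ : IsIrrCharacter G χ) (h1 : χ ≠ 1)
    {m : ℤ} (hm : classInner (Phi G) χ = m) (hm1 : m = 1 ∨ m = -1) {d : ℕ} (hd : χ 1 = d) :
    (m * d) % 4 = 1 := by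
  classical
  have hodd : Odd m := by rcases hm1 with rfl | rfl <;> decide
  have hv := value_eq h hχ h1 hm hodd
  have : Fintype ↥S := Fintype.ofFinite _
  obtain ⟨q, hq⟩ := BlockDefZero.sum_over_subgroup S hχ.isCharacter
  rw [h.hS.card_four, ← Finset.add_sum_erase _ _ (Finset.mem_univ (1 : ↥S))] at hq
  have h2 : ∀ s ∈ Finset.univ.erase (1 : ↥S), χ s = m := by
    intro s hs
    have hs1 : (s : G) ≠ 1 := by
      intro h3
      exact (Finset.mem_erase.1 hs).1 (Subtype.ext h3)
    rw [← hv]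
    exact hχ.isClassFunction.conj_eq (h.hconj _ _ (h.orderOf_of_mem s.2 hs1) h.ht)
  rw [Finset.sum_congr rfl h2, Finset.sum_const, Finset.card_erase_of_mem (Finset.mem_univ _),
    Finset.card_univ, ← Nat.card_eq_fintype_card, h.hS.card_four, nsmul_eq_mul] at hq
  rw [Subgroup.coe_one, hd] at hq
  have h3 : (d : ℤ) + 3 * m = 4 * q := by
    have h4 : ((d + 3 * m : ℤ) : ℂ) = ((4 * q : ℤ) : ℂ) := by
      push_cast
      push_cast at hq
      linear_combination hq
    exact_mod_cast h4
  rcases hm1 with rfl | rfl <;> omega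

theorem arith {a b c : ℤ} (ha : a % 4 = 1) (hb : b % 4 = 1) (hc : c % 4 = 1) (ha1 : a ≠ 1)
    (hb1 : b ≠ 1) (hc1 : c ≠ 1) (hsum : a + b + c = -1) {I : ℕ} (hI : 0 < I)
    (h : (1 : ℝ) + (a : ℝ)⁻¹ + (b : ℝ)⁻¹ + (c : ℝ)⁻¹ = 8 / I) : I ≤ 15 := by
  have key : ∀ x : ℤ, x % 4 = 1 → x ≠ 1 → (5 ≤ x ∧ 0 < (x : ℝ)⁻¹) ∨ (x = -3 ∧ (x : ℝ)⁻¹ = -1/3) ∨
      (x ≤ -7 ∧ -1/7 ≤ (x : ℝ)⁻¹) := by
    intro x hx hx1
    rcases le_or_gt 5 x with h5 | h5
    · left
      refine ⟨h5, ?_⟩
      have : (0 : ℝ) < x := by exact_mod_cast (by omega : 0 < x)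
      positivity
    · right
      by_cases h3 : x = -3
      · left
        refine ⟨h3, ?_⟩
        rw [h3]; norm_num
      · right
        have h7 : x ≤ -7 := by omega
        refine ⟨h7, ?_⟩
        have h8 : (x : ℝ) ≤ -7 := by exact_mod_cast h7
        have h9 : (x : ℝ) < 0 := by linarith
        rw [show (-1/7 : ℝ) = (-7 : ℝ)⁻¹ by norm_num]
        exact (inv_le_inv_of_neg (by norm_num) h9).2 h8
  have hIr : (0 : ℝ) < I := by exact_mod_cast hI
  have fin : (11 : ℝ) / 21 < 8 / I → I ≤ 15 := by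
    intro h1
    rw [div_lt_div_iff₀ (by norm_num) hIr] at h1
    have h2 : 11 * I < 8 * 21 := by exact_mod_cast h1
    omega
  rcases key a ha ha1 with ⟨ha2, ha3⟩ | ⟨ha2, ha3⟩ | ⟨ha2, ha3⟩ <;>
  rcases key b hb hb1 with ⟨hb2, hb3⟩ | ⟨hb2, hb3⟩ | ⟨hb2, hb3⟩ <;>
  rcases key c hc hc1 with ⟨hc2, hc3⟩ | ⟨hc2, hc3⟩ | ⟨hc2, hc3⟩ <;>
  first
  | (exfalso; omega)
  | (apply fin; rw [← h]; linarith)
  | (apply fin
     have h5 : a = 5 ∨ b = 5 ∨ c = 5 := by omega
     have h6 : ((5 : ℤ) : ℝ)⁻¹ = 1 / 5 := by norm_num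
     rw [← h]
     rcases h5 with h5 | h5 | h5 <;>
     · rw [h5, h6] at *
       linarith)

end Cfsg.Agent.Lib.H55KleinChar
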