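import Cfsg.Agent.Lib.H55Klein
import Cfsg.Agent.Lib.SmallSimple

set_option autoImplicit false

/-!
Groups with a Klein four Sylow 2-subgroup `S`, all involutions conjugate and `C(t) = S × K`, `|K|` odd.
-/

namespace Cfsg.Agent.Lib.H55KleinSetup

open Cfsg.Agent.Lib Cfsg.Agent.Lib.H55Invol Cfsg.Agent.Lib.H55Klein

variable {G : Type*} [Group G]

structure Setup (t : G) (S K : Subgroup G) : Prop where
  ht : orderOf t = 2
  hS : IsKleinFour ↥S
  htS : t ∈ S
  hidx : ¬ 2 ∣ S.index
  hK : Odd (Nat.card ↥K)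
  hcent : ∀ g, g * t = t * g → ∃ s ∈ S, ∃ k ∈ K, g = s * k
  hcomm : ∀ s ∈ S, ∀ k ∈ K, s * k = k * s
  hconj : ∀ u v : G, orderOf u = 2 → orderOf v = 2 → IsConj u v

variable {t : G} {S K : Subgroup G}

namespace Setup

theorem pow_card (k : G) (hk : k ∈ K) : k ^ Nat.card ↥K = 1 := by
  have := pow_card_eq_one' (x := (⟨k, hk⟩ : ↥K))
  exact congrArg Subtype.val this

theorem odd_pow (h : Setup t S K) {s : G} (hs : s ∈ S) {m : ℕ} (hm : Odd m) : s ^ m = s := by
  obtain ⟨j, rfl⟩ := hm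
  rw [pow_succ, pow_mul, pow_two, klein_sq h.hS hs, one_pow, one_mul]

theorem even_pow (h : Setup t S K) {s : G} (hs : s ∈ S) {m : ℕ} (hm : Even m) : s ^ m = 1 := by
  obtain ⟨j, rfl⟩ := hm
  rw [← two_mul, pow_mul, pow_two, klein_sq h.hS hs, one_pow]

theorem inf_eq (h : Setup t S K) {g : G} (hs : g ∈ S) (hk : g ∈ K) : g = 1 := by
  rw [← h.odd_pow hs h.hK]
  exact pow_card g hk

theorem mul_pow' (h : Setup t S K) {s k : G} (hs : s ∈ S) (hk : k ∈ K) (m : ℕ) :
    (s * k) ^ m = s ^ m * k ^ m :=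
  Commute.mul_pow (h.hcomm s hs k hk) m

theorem mul_eq (h : Setup t S K) {s s' k k' : G} (hs : s ∈ S) (hs' : s' ∈ S) (hk : k ∈ K) (hk' : k' ∈ K)
    (he : s * k = s' * k') : s = s' ∧ k = k' := by
  have h1 : s'⁻¹ * s = k' * k⁻¹ := by
    calc s'⁻¹ * s = s'⁻¹ * (s * k) * k⁻¹ := by group
      _ = s'⁻¹ * (s' * k') * k⁻¹ := by rw [he]
      _ = k' * k⁻¹ := by group
  have h2 : s'⁻¹ * s ∈ S := mul_mem (inv_mem hs') hs
  have h3 : s'⁻¹ * s ∈ K := by rw [h1]; exact mul_mem hk' (inv_mem hk)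
  have h4 := h.inf_eq h2 h3
  have h5 : s = s' := by
    calc s = s' * (s'⁻¹ * s) := by group
      _ = s' := by rw [h4, mul_one]
  refine ⟨h5, ?_⟩
  rw [h5] at he
  exact mul_left_cancel he

/-- involutions commuting with `t` lie in `S` -/
theorem mem_of_comm (h : Setup t S K) {u : G} (hu : orderOf u = 2) (hut : u * t = t * u) : u ∈ S := by
  obtain ⟨s, hs, k, hk, rfl⟩ := h.hcent u hut
  have h1 := mul_self hu
  have h2 : (s * k) ^ 2 = 1 := by rw [pow_two, h1]
  rw [h.mul_pow' hs hk, pow_two s, klein_sq h.hS hs, one_mul] at h2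
  have h3 : k = 1 := by
    obtain ⟨j, hj⟩ := h.hK
    have h4 := pow_card k hk
    rw [hj, pow_succ, pow_mul, h2, one_pow, one_mul] at h4
    exact h4
  rw [h3, mul_one]
  exact hs

theorem orderOf_of_mem (h : Setup t S K) {u : G} (hu : u ∈ S) (hu1 : u ≠ 1) : orderOf u = 2 :=
  orderOf_two_iff.2 ⟨hu1, klein_sq h.hS hu⟩

/-- involutions commuting with an involution of `S` lie in `S` -/
theorem mem_of_comm' (h : Setup t S K) {u w : G} (hu : orderOf u = 2) (hw : w ∈ S) (hw1 : w ≠ 1)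
    (huw : u * w = w * u) : u ∈ S := by
  -- x t x⁻¹ = w
  obtain ⟨x, hx⟩ := isConj_iff.1 (h.hconj t w h.ht (h.orderOf_of_mem hw hw1))
  have key : ∀ v : G, orderOf v = 2 → v * w = w * v → x⁻¹ * v * x ∈ S := by
    intro v hv hvw
    apply h.mem_of_comm
    · have := orderOf_conj x⁻¹ v
      rw [inv_inv] at this
      rw [this, hv]
    · rw [← hx] at hvw
      calc x⁻¹ * v * x * t = x⁻¹ * (v * (x * t * x⁻¹)) * x := by group
        _ = x⁻¹ * (x * t * x⁻¹ * v) * x := by rw [hvw]
        _ = t * (x⁻¹ * v * x) := by group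
  have hx2 : ∀ v ∈ S, x⁻¹ * v * x ∈ S := by
    intro v hv
    by_cases hv1 : v = 1
    · rw [hv1]
      have : x⁻¹ * 1 * x = 1 := by group
      rw [this]; exact one_mem _
    · exact key v (h.orderOf_of_mem hv hv1) (klein_comm h.hS hv hw)
  -- so x⁻¹ normalizes S
  have hfin : Finite ↥S := Nat.finite_of_card_ne_zero (by rw [h.hS.card_four]; norm_num)
  have hsurj : ∀ y ∈ S, ∃ v ∈ S, x⁻¹ * v * x = y := by
    intro y hy
    let f : ↥S → ↥S := fun v => ⟨x⁻¹ * v * x, hx2 v v.2⟩
    have hf : Function.Injective f := by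
      intro a b hab
      have h1 : x⁻¹ * (a : G) * x = x⁻¹ * b * x := congrArg Subtype.val hab
      exact Subtype.ext (mul_left_cancel (mul_right_cancel h1))
    obtain ⟨v, hv⟩ := Finite.surjective_of_injective hf ⟨y, hy⟩
    exact ⟨v, v.2, congrArg Subtype.val hv⟩
  obtain ⟨v, hv, hv2⟩ := hsurj _ (key u hu huw)
  have : v = u := mul_left_cancel (mul_right_cancel hv2)
  rw [← this]; exact hv

/-- every element of even order is conjugate to some `t * k` -/
theorem exists_conj [Finite G] (h : Setup t S K) {g : G} (hg : 2 ∣ orderOf g) :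
    ∃ x : G, ∃ k ∈ K, g = x * (t * k) * x⁻¹ := by
  obtain ⟨m, hm⟩ := hg
  have hpos := orderOf_pos g
  have hm0 : 0 < m := by omega
  have hu : orderOf (g ^ m) = 2 := by
    rw [orderOf_pow' g hm0.ne', hm]
    have : Nat.gcd (2 * m) m = m := by simp
    rw [this]
    exact Nat.mul_div_cancel _ hm0
  obtain ⟨x, hx⟩ := isConj_iff.1 (h.hconj t (g ^ m) h.ht hu)
  have hc : (x⁻¹ * g * x) * t = t * (x⁻¹ * g * x) := by
    have h1 : g * g ^ m = g ^ m * g := (Commute.self_pow g m).eq
    rw [← hx] at h1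
    calc x⁻¹ * g * x * t = x⁻¹ * (g * (x * t * x⁻¹)) * x := by group
      _ = x⁻¹ * (x * t * x⁻¹ * g) * x := by rw [h1]
      _ = t * (x⁻¹ * g * x) := by group
  obtain ⟨s, hs, k, hk, hsk⟩ := h.hcent _ hc
  have hp : (x⁻¹ * g * x) ^ m = t := by
    have : (x⁻¹ * g * x) ^ m = x⁻¹ * g ^ m * x := by
      have := conj_pow (i := m) (a := x⁻¹) (b := g)
      rwa [inv_inv] at this
    rw [this, ← hx]; group
  rw [hsk, h.mul_pow' hs hk] at hp
  rcases Nat.even_or_odd m with he | ho
  · exfalso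
    rw [h.even_pow hs he, one_mul] at hp
    have : t = 1 := h.inf_eq h.htS (by rw [← hp]; exact pow_mem hk m)
    exact ne_one h.ht this
  · rw [h.odd_pow hs ho] at hp
    have hst : s = t := by
      have h1 := h.mul_eq hs h.htS (pow_mem hk m) (one_mem K) (by rw [hp, mul_one])
      exact h1.1
    refine ⟨x, k, hk, ?_⟩
    rw [← hst, ← hsk]; group

theorem even_mul [Finite G] (h : Setup t S K) {k : G} (hk : k ∈ K) : 2 ∣ orderOf (t * k) := by
  by_contra hcon
  have hodd : Odd (orderOf (t * k)) := by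
    rw [← Nat.not_even_iff_odd]
    intro he; exact hcon (even_iff_two_dvd.1 he)
  have h1 := pow_orderOf_eq_one (t * k)
  rw [h.mul_pow' h.htS hk, h.odd_pow h.htS hodd] at h1
  have h2 : t = (k ^ orderOf (t * k))⁻¹ := eq_inv_of_mul_eq_one_left h1
  have : t = 1 := h.inf_eq h.htS (by rw [h2]; exact inv_mem (pow_mem hk _))
  exact ne_one h.ht this

/-- the elements of `C(t)` stabilize `tK` -/
theorem conj_mem_iff (h : Setup t S K) {y k : G} (hk : k ∈ K) :
    (∃ k' ∈ K, y * (t * k) * y⁻¹ = t * k') ↔ y * t = t * y := by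
  constructor
  · rintro ⟨k', hk', he⟩
    have h1 : (y * (t * k) * y⁻¹) ^ Nat.card ↥K = y * t * y⁻¹ := by
      rw [conj_pow, h.mul_pow' h.htS hk, h.odd_pow h.htS h.hK, pow_card k hk, mul_one]
    rw [he, h.mul_pow' h.htS hk', h.odd_pow h.htS h.hK, pow_card k' hk', mul_one] at h1
    calc y * t = (y * t * y⁻¹) * y := by group
      _ = t * y := by rw [← h1]
  · intro hy
    obtain ⟨s, hs, k', hk', rfl⟩ := h.hcent y hy
    refine ⟨k' * k * k'⁻¹, mul_mem (mul_mem hk' hk) (inv_mem hk'), ?_⟩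
    have h1 : t * s = s * t := klein_comm h.hS h.htS hs
    have h2 := h.hcomm s hs k hk
    have h3 := h.hcomm s hs k' hk'
    have h4 := h.hcomm t h.htS k' hk'
    have h5 : s * (k' * k * k'⁻¹) = (k' * k * k'⁻¹) * s :=
      h.hcomm s hs _ (mul_mem (mul_mem hk' hk) (inv_mem hk'))
    calc s * k' * (t * k) * (s * k')⁻¹ = s * (k' * t) * (k * k'⁻¹) * s⁻¹ := by group
      _ = s * (t * k') * (k * k'⁻¹) * s⁻¹ := by rw [h4]
      _ = (s * t) * (k' * k * k'⁻¹) * s⁻¹ := by group
      _ = (t * s) * (k' * k * k'⁻¹) * s⁻¹ := by rw [h1]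
      _ = t * (s * (k' * k * k'⁻¹)) * s⁻¹ := by group
      _ = t * ((k' * k * k'⁻¹) * s) * s⁻¹ := by rw [h5]
      _ = t * (k' * k * k'⁻¹) := by group

theorem card_cent [Finite G] (h : Setup t S K) :
    Nat.card ↥(Subgroup.centralizer ({t} : Set G)) = 4 * Nat.card ↥K := by
  rw [← h.hS.card_four, ← Nat.card_prod]
  symm
  apply Nat.card_congr
  refine Equiv.ofBijective (fun p => ⟨(p.1 : G) * p.2, ?_⟩) ⟨?_, ?_⟩
  · rw [Subgroup.mem_centralizer_singleton_iff]
    have h1 := klein_comm h.hS p.1.2 h.htS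
    have h2 := h.hcomm t h.htS p.2 p.2.2
    calc (p.1 : G) * p.2 * t = p.1 * (p.2 * t) := by group
      _ = p.1 * (t * p.2) := by rw [h2]
      _ = (p.1 * t) * p.2 := by group
      _ = (t * p.1) * p.2 := by rw [h1]
      _ = t * (p.1 * p.2) := by group
  · rintro ⟨a, b⟩ ⟨c, d⟩ hab
    have := h.mul_eq a.2 c.2 b.2 d.2 (congrArg Subtype.val hab)
    exact Prod.ext (Subtype.ext this.1) (Subtype.ext this.2)
  · rintro ⟨g, hg⟩
    rw [Subgroup.mem_centralizer_singleton_iff] at hg
    obtain ⟨s, hs, k, hk, rfl⟩ := h.hcent g hg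
    exact ⟨(⟨s, hs⟩, ⟨k, hk⟩), rfl⟩

/-- the number of elements conjugating `t` to a given involution -/
theorem card_conj_eq [Finite G] (h : Setup t S K) {u : G} (hu : orderOf u = 2) :
    Nat.card {b : G // b * t * b⁻¹ = u} = Nat.card ↥(Subgroup.centralizer ({t} : Set G)) := by
  obtain ⟨x, hx⟩ := isConj_iff.1 (h.hconj t u h.ht hu)
  apply Nat.card_congr
  refine
    { toFun := fun b => ⟨x⁻¹ * b, ?_⟩
      invFun := fun c => ⟨x * c, ?_⟩
      left_inv := fun b => Subtype.ext (by simp)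
      right_inv := fun c => Subtype.ext (by simp) }
  · rw [Subgroup.mem_centralizer_singleton_iff]
    have hb : (b : G) * t * (b : G)⁻¹ = x * t * x⁻¹ := b.2.trans hx.symm
    calc x⁻¹ * (b : G) * t = x⁻¹ * (b * t * (b : G)⁻¹) * b := by group
      _ = x⁻¹ * (x * t * x⁻¹) * b := by rw [hb]
      _ = t * (x⁻¹ * b) := by group
  · have hc := Subgroup.mem_centralizer_singleton_iff.1 c.2
    calc x * (c : G) * t * (x * c)⁻¹ = x * (c * t) * (c : G)⁻¹ * x⁻¹ := by group
      _ = x * (t * c) * (c : G)⁻¹ * x⁻¹ := by rw [hc]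
      _ = x * t * x⁻¹ := by group
      _ = u := hx

theorem card_conj_tK [Finite G] (h : Setup t S K) {g : G} (hg : 2 ∣ orderOf g) :
    Nat.card {c : G // ∃ k ∈ K, c * g * c⁻¹ = t * k} = Nat.card ↥(Subgroup.centralizer ({t} : Set G)) := by
  obtain ⟨x, k, hk, rfl⟩ := h.exists_conj hg
  apply Nat.card_congr
  refine
    { toFun := fun b => ⟨b * x, ?_⟩
      invFun := fun c => ⟨c * x⁻¹, ?_⟩
      left_inv := fun b => Subtype.ext (by simp)
      right_inv := fun c => Subtype.ext (by simp) }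
  · rw [Subgroup.mem_centralizer_singleton_iff]
    obtain ⟨k', hk', he⟩ := b.2
    apply (h.conj_mem_iff (y := b * x) hk).1
    refine ⟨k', hk', ?_⟩
    rw [← he]; group
  · have hc := Subgroup.mem_centralizer_singleton_iff.1 c.2
    obtain ⟨k', hk', he⟩ := (h.conj_mem_iff hk).2 hc
    refine ⟨k', hk', ?_⟩
    rw [← he]; group

/-- the product of `t` and an involution has even order iff the involution lies in `S \ {t}`. -/
theorem even_mul_iff [Finite G] (h : Setup t S K) {u : G} (hu : orderOf u = 2) :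
    2 ∣ orderOf (t * u) ↔ u ∈ S ∧ u ≠ t := by
  constructor
  · intro he
    have hne : u ≠ t := by
      rintro rfl
      rw [mul_self hu, orderOf_one] at he
      omega
    refine ⟨?_, hne⟩
    obtain ⟨m, hm⟩ := he
    have hpos := orderOf_pos (t * u)
    have hm0 : 0 < m := by omega
    set w := (t * u) ^ m with hw
    have hwo : orderOf w = 2 := by
      rw [hw, orderOf_pow' _ hm0.ne', hm]
      have : Nat.gcd (2 * m) m = m := by simp
      rw [this]
      exact Nat.mul_div_cancel _ hm0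
    have hwi : w⁻¹ = w := inv_eq_self hwo
    have h1 := conj_mul_pow (mul_self h.ht) (mul_self hu) m
    rw [← hw, hwi] at h1
    have hwt : w * t = t * w := by
      calc w * t = (t * w * t) * t := by rw [h1]
        _ = t * w * (t * t) := by group
        _ = t * w := by rw [mul_self h.ht, mul_one]
    have hwr : w * (t * u) = (t * u) * w := ((Commute.self_pow (t * u) m).eq).symm
    have hwu : u * w = w * u := by
      calc u * w = t * t * u * w := by rw [mul_self h.ht, one_mul]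
        _ = t * ((t * u) * w) := by group
        _ = t * (w * (t * u)) := by rw [hwr]
        _ = (t * w) * t * u := by group
        _ = (w * t) * t * u := by rw [hwt]
        _ = w * (t * t) * u := by group
        _ = w * u := by rw [mul_self h.ht, mul_one]
    have hwS : w ∈ S := h.mem_of_comm hwo hwt
    exact h.mem_of_comm' hu hwS (ne_one hwo) hwu
  · rintro ⟨huS, hne⟩
    have h1 : t * u ∈ S := mul_mem h.htS huS
    have h2 : t * u ≠ 1 := by
      intro h3
      apply hne
      have := eq_inv_of_mul_eq_one_right h3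
      rw [this, inv_eq_self h.ht]
    rw [h.orderOf_of_mem h1 h2]

theorem card_even_mul [Finite G] (h : Setup t S K) :
    Nat.card {b : G // 2 ∣ orderOf (t * (b * t * b⁻¹))} = 2 * Nat.card ↥(Subgroup.centralizer ({t} : Set G)) := by
  -- an involution of S different from t
  obtain ⟨s, hs, hs1, hst⟩ : ∃ s ∈ S, s ≠ 1 ∧ s ≠ t := by
    by_contra hcon
    push Not at hcon
    have hsub : (S : Set G) ⊆ {1, t} := by
      intro s hs
      by_cases h1 : s = 1
      · left; exact h1
      · right; exact hcon s hs h1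
    have h4 : Nat.card ↥S ≤ 2 := by
      calc Nat.card ↥S ≤ Nat.card ↥({1, t} : Set G) := Nat.card_mono (Set.toFinite _) hsub
        _ ≤ 2 := by
            rw [Nat.card_coe_set_eq]
            exact (Set.ncard_insert_le _ _).trans (by simp)
    rw [h.hS.card_four] at h4
    omega
  have hts : t * s ∈ S := mul_mem h.htS hs
  have hts1 : t * s ≠ 1 := by
    intro h3
    apply hst
    have := eq_inv_of_mul_eq_one_right h3
    rw [this, inv_eq_self h.ht]
  have htst : t * s ≠ t := by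
    intro h3
    exact hs1 (mul_eq_left.1 h3)
  have htss : t * s ≠ s := by
    intro h3
    exact ne_one h.ht (mul_eq_right.1 h3)
  have hiff : ∀ b : G, 2 ∣ orderOf (t * (b * t * b⁻¹)) ↔ (b * t * b⁻¹ = s ∨ b * t * b⁻¹ = t * s) := by
    intro b
    have ho : orderOf (b * t * b⁻¹) = 2 := by rw [orderOf_conj, h.ht]
    rw [h.even_mul_iff ho]
    constructor
    · rintro ⟨h1, h2⟩
      by_cases h3 : b * t * b⁻¹ = s
      · left; exact h3
      · right
        exact klein_eq_mul h.hS h.htS hs h1 (ne_one h.ht) hs1 (Ne.symm hst) (ne_one ho) h2 h3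
    · rintro (h1 | h1)
      · rw [h1]; exact ⟨hs, hst⟩
      · rw [h1]; exact ⟨hts, htst⟩
  have e1 : {b : G // 2 ∣ orderOf (t * (b * t * b⁻¹))} ≃ {b : G // b * t * b⁻¹ = s ∨ b * t * b⁻¹ = t * s} :=
    Equiv.subtypeEquivRight hiff
  have hdisj : Disjoint (fun b : G => b * t * b⁻¹ = s) (fun b : G => b * t * b⁻¹ = t * s) := by
    rw [Pi.disjoint_iff]
    intro b
    rw [Prop.disjoint_iff]
    rintro ⟨h1, h2⟩
    exact htss (h2.symm.trans h1)
  classical
  have e2 := subtypeOrEquiv (fun b : G => b * t * b⁻¹ = s) (fun b : G => b * t * b⁻¹ = t * s) hdisj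
  rw [Nat.card_congr e1, Nat.card_congr e2, Nat.card_sum, h.card_conj_eq (h.orderOf_of_mem hs hs1),
    h.card_conj_eq (h.orderOf_of_mem hts hts1)]
  ring

end Setup

end Cfsg.Agent.Lib.H55KleinSetup
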