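import Cfsg.Agent.Lib.H55GL23
import Cfsg.Agent.Lib.H55Q8Aut
import Cfsg.Agent.Lib.H55QuatSolv
import Cfsg.Agent.Lib.H55Invol
import Cfsg.Agent.Lib.SubgroupTools
import Cfsg.Agent.Lib.SmallSimple2

set_option autoImplicit false

/-!
Solvable groups `Q` with `O(Q) = 1`, `O_2(Q) ≅ Q_8`, not 2-closed.
-/

namespace Cfsg.Agent.Lib.H55Oct

open Cfsg Cfsg.Agent.Lib

variable {Q : Type*} [Group Q]

/-- the action on `O_2(Q)`, transported to `QuaternionGroup 2` -/
def phi (e : ↥(pCore 2 Q) ≃* QuaternionGroup 2) : Q →* MulAut (QuaternionGroup 2) :=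
  (MulAut.congr e).toMonoidHom.comp MulAut.conjNormal

/-- the embedding -/
def iota (e : ↥(pCore 2 Q) ≃* QuaternionGroup 2) : QuaternionGroup 2 →* Q :=
  (pCore 2 Q).subtype.comp e.symm.toMonoidHom

theorem iota_phi (e : ↥(pCore 2 Q) ≃* QuaternionGroup 2) (g : Q) (x : QuaternionGroup 2) :
    iota e (phi e g x) = g * iota e x * g⁻¹ := by
  show ((e.symm (e (MulAut.conjNormal g (e.symm x))) : ↥(pCore 2 Q)) : Q) = g * (e.symm x : ↥(pCore 2 Q)) * g⁻¹
  rw [e.symm_apply_apply, MulAut.conjNormal_apply]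

theorem iota_injective (e : ↥(pCore 2 Q) ≃* QuaternionGroup 2) : Function.Injective (iota e) :=
  (pCore 2 Q).subtype_injective.comp e.symm.injective

theorem iota_mem (e : ↥(pCore 2 Q) ≃* QuaternionGroup 2) (x : QuaternionGroup 2) : iota e x ∈ pCore 2 Q :=
  (e.symm x).2

theorem exists_iota (e : ↥(pCore 2 Q) ≃* QuaternionGroup 2) {g : Q} (hg : g ∈ pCore 2 Q) : ∃ x, iota e x = g :=
  ⟨e ⟨g, hg⟩, by
    show ((e.symm (e ⟨g, hg⟩) : ↥(pCore 2 Q)) : Q) = g
    rw [e.symm_apply_apply]⟩

variable [Finite Q]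

theorem central_iff : ∀ x : QuaternionGroup 2, (∀ y, x * y = y * x) → x = 1 ∨ x = .a 2 := by decide +kernel

theorem phi_eq_one (hQ : Group.IsSolvable Q) (hO : pPrimeCore 2 Q = ⊥)
    (e : ↥(pCore 2 Q) ≃* QuaternionGroup 2) {g : Q} (hg : phi e g = 1) :
    g = 1 ∨ g = iota e (.a 2) := by
  have hC := H55Solv.centralizer_pCore_le hQ 2 hO
  have h1 : ∀ x, g * iota e x * g⁻¹ = iota e x := by
    intro x
    rw [← iota_phi, hg]; rfl
  have hgO : g ∈ pCore 2 Q := by
    apply hC
    rw [Subgroup.mem_centralizer_iff]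
    intro y hy
    obtain ⟨x, rfl⟩ := exists_iota e hy
    calc iota e x * g = (g * iota e x * g⁻¹) * g := by rw [h1]
      _ = g * iota e x := by group
  obtain ⟨x, rfl⟩ := exists_iota e hgO
  rcases central_iff x (by
    intro y
    apply iota_injective e
    rw [map_mul, map_mul]
    calc iota e x * iota e y = (iota e x * iota e y * (iota e x)⁻¹) * iota e x := by group
      _ = iota e y * iota e x := by rw [h1]) with h | h
  · left; rw [h, map_one]
  · right; rw [h]

omit [Finite Q] in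
theorem phi_z (e : ↥(pCore 2 Q) ≃* QuaternionGroup 2) : phi e (iota e (.a 2)) = 1 := by
  ext x
  apply iota_injective e
  rw [iota_phi, ← map_inv, ← map_mul, ← map_mul]
  congr 1
  revert x
  decide +kernel

omit [Finite Q] in
theorem z_central (e : ↥(pCore 2 Q) ≃* QuaternionGroup 2) (g : Q) :
    g * iota e (.a 2) = iota e (.a 2) * g := by
  have h1 := iota_phi e g (.a 2)
  rw [H55Q8Aut.map_a_two] at h1
  calc g * iota e (.a 2) = (g * iota e (.a 2) * g⁻¹) * g := by group
    _ = iota e (.a 2) * g := by rw [← h1]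

omit [Finite Q] in
theorem card_O (e : ↥(pCore 2 Q) ≃* QuaternionGroup 2) : Nat.card ↥(pCore 2 Q) = 8 := by
  rw [Nat.card_congr e.toEquiv, Nat.card_eq_fintype_card, QuaternionGroup.card]

theorem card_eq (hQ : Group.IsSolvable Q) (hO : pPrimeCore 2 Q = ⊥)
    (e : ↥(pCore 2 Q) ≃* QuaternionGroup 2) (hnn : ∀ P : Sylow 2 Q, ¬ (P : Subgroup Q).Normal) :
    Nat.card Q = 48 := by
  have h48 := H55QuatSolv.card_le_of_quaternion hQ hO e
  obtain ⟨P⟩ : Nonempty (Sylow 2 Q) := inferInstance
  have hle : pCore 2 Q ≤ (P : Subgroup Q) := Cores.pCore_le_sylow P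
  have hcO := card_O e
  have hne : pCore 2 Q ≠ (P : Subgroup Q) := by
    intro h
    apply hnn P
    rw [← h]; infer_instance
  have hlt : Nat.card ↥(pCore 2 Q) < Nat.card ↥(P : Subgroup Q) := by
    apply lt_of_le_of_ne (Subgroup.card_le_of_le hle)
    intro h
    exact hne (Subgroup.eq_of_le_of_card_ge hle h.ge)
  obtain ⟨k, hk⟩ := IsPGroup.iff_card.1 P.2
  rw [hcO, hk] at hlt
  have hk4 : 4 ≤ k := by
    by_contra hcon
    have : k ≤ 3 := by omega
    have : 2 ^ k ≤ 2 ^ 3 := Nat.pow_le_pow_right (by norm_num) this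
    omega
  have h16 : 16 ∣ Nat.card Q := by
    have h1 : (2 : ℕ) ^ 4 ∣ 2 ^ k := pow_dvd_pow 2 hk4
    have h2 : 2 ^ k ∣ Nat.card Q := by rw [← hk]; exact Subgroup.card_subgroup_dvd_card _
    exact h1.trans h2
  have hpos : 0 < Nat.card Q := Nat.card_pos
  have hnp : ¬ IsPGroup 2 Q := by
    intro hp
    apply hnn P
    have : (P : Subgroup Q) = ⊤ := by
      rw [eq_top_iff]
      have h1 : IsPGroup 2 (⊤ : Subgroup Q) := IsPGroup.of_equiv hp Subgroup.topEquiv.symm
      exact (P.is_maximal' h1 le_top).le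
    rw [this]; infer_instance
  obtain ⟨m, hm⟩ := h16
  have hm3 : m ≤ 3 := by omega
  interval_cases m
  · omega
  · exfalso
    exact hnp (IsPGroup.of_card (n := 4) (by rw [hm]; norm_num))
  · exfalso
    exact hnp (IsPGroup.of_card (n := 5) (by rw [hm]; norm_num))
  · omega

theorem exists_r (hcard : Nat.card Q = 48) : ∃ r : Q, orderOf r = 3 := by
  have : Fact (Nat.Prime 3) := ⟨Nat.prime_three⟩
  exact exists_prime_orderOf_dvd_card' 3 (by rw [hcard]; norm_num)

theorem phi_r (hQ : Group.IsSolvable Q) (hO : pPrimeCore 2 Q = ⊥)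
    (e : ↥(pCore 2 Q) ≃* QuaternionGroup 2) {r : Q} (hr : orderOf r = 3) :
    phi e r * phi e r * phi e r = 1 ∧ phi e r ≠ 1 := by
  have h3 : r ^ 3 = 1 := by rw [← hr, pow_orderOf_eq_one]
  constructor
  · rw [← map_mul, ← map_mul]
    have : r * r * r = r ^ 3 := by rw [pow_succ, pow_two]
    rw [this, h3, map_one]
  · intro h
    rcases phi_eq_one hQ hO e h with h1 | h1
    · rw [h1, orderOf_one] at hr; omega
    · have h4 : r * r = 1 := by
        rw [h1, ← map_mul]
        have : (QuaternionGroup.a 2 : QuaternionGroup 2) * .a 2 = 1 := by decide +kernel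
        rw [this, map_one]
      have h5 : orderOf r ∣ 2 := orderOf_dvd_of_pow_eq_one (by rw [pow_two, h4])
      rw [hr] at h5
      norm_num at h5

/-- an involution outside `O_2(Q)` forces `GL(2,3)` -/
theorem caseA (hQ : Group.IsSolvable Q) (hO : pPrimeCore 2 Q = ⊥)
    (e : ↥(pCore 2 Q) ≃* QuaternionGroup 2) (hcard : Nat.card Q = 48) {u₀ : Q} (hu₀ : u₀ * u₀ = 1)
    (hu₀O : u₀ ∉ pCore 2 Q) : Nonempty (Q ≃* GL (Fin 2) (ZMod 3)) := by
  have : Fact (Nat.Prime 3) := ⟨Nat.prime_three⟩
  obtain ⟨r, hr⟩ := exists_r hcard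
  obtain ⟨hψ3, hψ1⟩ := phi_r hQ hO e hr
  have hr3 : r ^ 3 = 1 := by rw [← hr, pow_orderOf_eq_one]
  have hr1 : r ≠ 1 := by rintro rfl; rw [orderOf_one] at hr; omega
  set M : Subgroup Q := Subgroup.zpowers r ⊔ pCore 2 Q with hM
  have hcM : Nat.card ↥M = 24 := by
    have h1 := SubgroupTools.card_sup_of_coprime (N := pCore 2 Q) (H := Subgroup.zpowers r)
      Subgroup.le_normalizer_of_normal (by rw [card_O e, Nat.card_zpowers, hr]; norm_num)
    rw [card_O e, Nat.card_zpowers, hr] at h1
    rw [hM, sup_comm]; rw [h1]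
  have hMi : M.index = 2 := by
    have h1 := M.card_mul_index
    rw [hcM, hcard] at h1
    omega
  have hMn : M.Normal := Subgroup.normal_of_index_eq_two hMi
  have hrM : r ∈ M := (le_sup_left : Subgroup.zpowers r ≤ M) (Subgroup.mem_zpowers r)
  have hP3 : IsPGroup 3 (Subgroup.zpowers r) := IsPGroup.of_card (n := 1) (by rw [Nat.card_zpowers, hr, pow_one])
  have hr' : orderOf (u₀ * r * u₀⁻¹) = 3 := by rw [H55Invol.orderOf_conj, hr]
  have hH3 : IsPGroup 3 (Subgroup.zpowers (u₀ * r * u₀⁻¹)) :=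
    IsPGroup.of_card (n := 1) (by rw [Nat.card_zpowers, hr', pow_one])
  have hidx : ¬ 3 ∣ (Subgroup.zpowers r).relIndex M := by
    have h1 : Nat.card ↥(Subgroup.zpowers r) * (Subgroup.zpowers r).relIndex M = Nat.card ↥M := by
      rw [Subgroup.relIndex, ← Nat.card_congr (Subgroup.subgroupOfEquivOfLe (le_sup_left : Subgroup.zpowers r ≤ M)).toEquiv]
      exact Subgroup.card_mul_index _
    rw [Nat.card_zpowers, hr, hcM] at h1
    omega
  obtain ⟨k, hk, hkH⟩ := SylowTools.conj_into_of_sylow_of_subgroup (K := M)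
    (le_sup_left : Subgroup.zpowers r ≤ M) hP3 hidx
    (H := Subgroup.zpowers (u₀ * r * u₀⁻¹)) (by
      rw [Subgroup.zpowers_le]; exact hMn.conj_mem r hrM u₀) hH3
  rw [hM, SylowTools.mem_sup_normal_iff] at hk
  obtain ⟨w, hw, o, ho, rfl⟩ := hk
  have h1 := hkH _ (Subgroup.mem_zpowers _)
  set u := o * u₀ with hu
  have h2 : u * r * u⁻¹ ∈ Subgroup.zpowers r := by
    have : u * r * u⁻¹ = w⁻¹ * (w * o * (u₀ * r * u₀⁻¹) * (w * o)⁻¹) * w := by rw [hu]; group
    rw [this]
    exact mul_mem (mul_mem (inv_mem hw) h1) hw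
  have huO : u ∉ pCore 2 Q := by
    intro h
    apply hu₀O
    have : u₀ = o⁻¹ * u := by rw [hu]; group
    rw [this]; exact mul_mem (inv_mem ho) h
  -- u r u⁻¹ = r or r⁻¹
  have h3 : u * r * u⁻¹ = r ∨ u * r * u⁻¹ = r⁻¹ := by
    obtain ⟨n, hn⟩ := Subgroup.mem_zpowers_iff.1 h2
    have h4 : r ^ n = r ^ (n % 3) := by
      have := (zpow_mod_orderOf r n).symm
      rwa [hr] at this
    have h5 : 0 ≤ n % 3 ∧ n % 3 < 3 := ⟨Int.emod_nonneg _ (by norm_num), Int.emod_lt_of_pos _ (by norm_num)⟩
    have h6 : n % 3 = 0 ∨ n % 3 = 1 ∨ n % 3 = 2 := by omega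
    rcases h6 with h6 | h6 | h6
    · exfalso
      rw [h4, h6, zpow_zero] at hn
      apply hr1
      calc r = u⁻¹ * (u * r * u⁻¹) * u := by group
        _ = 1 := by rw [← hn]; group
    · left; rw [← hn, h4, h6, zpow_one]
    · right
      rw [← hn, h4, h6]
      have : r ^ (2 : ℤ) * r = 1 := by
        have h7 : r ^ (2 : ℤ) * r = r ^ 3 := by
          rw [pow_succ]; norm_cast
        rw [h7, hr3]
      exact eq_inv_of_mul_eq_one_left this
  -- u² ∈ {1, z}
  have hu2O : u * u ∈ pCore 2 Q := by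
    have : u * u = o * (u₀ * o * u₀⁻¹) * (u₀ * u₀) := by rw [hu]; group
    rw [this, hu₀, mul_one]
    exact mul_mem ho ((inferInstance : (pCore 2 Q).Normal).conj_mem o ho u₀)
  have hu2r : (u * u) * r * (u * u)⁻¹ = r := by
    have : (u * u) * r * (u * u)⁻¹ = u * (u * r * u⁻¹) * u⁻¹ := by group
    rw [this]
    rcases h3 with h4 | h4
    · rw [h4, h4]
    · rw [h4]
      have : u * r⁻¹ * u⁻¹ = (u * r * u⁻¹)⁻¹ := by group
      rw [this, h4, inv_inv]
  obtain ⟨x, hx⟩ := exists_iota e hu2O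
  have hxfix : phi e r x = x := by
    apply iota_injective e
    rw [iota_phi, hx]
    calc r * (u * u) * r⁻¹ = ((u * u) * r * (u * u)⁻¹) * (u * u) * r⁻¹ := by rw [hu2r]
      _ = u * u := by group
  have hx2 := H55Q8Aut.fixed (phi e r) hψ3 hψ1 x hxfix
  have hυ2 : phi e u * phi e u = 1 := by
    rw [← map_mul, ← hx]
    rcases hx2 with h4 | h4
    · rw [h4, map_one, map_one]
    · rw [h4, phi_z]
  have hur : u * r * u⁻¹ = r⁻¹ := by
    rcases h3 with h4 | h4
    · exfalso
      have h5 : phi e u = 1 := by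
        apply H55Q8Aut.commuting (phi e r) (phi e u) hψ3 hψ1 hυ2
        rw [← map_mul, ← map_mul]
        congr 1
        calc u * r = (u * r * u⁻¹) * u := by group
          _ = r * u := by rw [h4]
      rcases phi_eq_one hQ hO e h5 with h6 | h6
      · exact huO (by rw [h6]; exact one_mem _)
      · exact huO (by rw [h6]; exact iota_mem e _)
    · exact h4
  obtain ⟨⟨i, d1, d2, d3, d4, d5, d6⟩, hno⟩ := H55Q8Aut.inverting (phi e r) (phi e u) hψ3 hψ1 hυ2 (by
    rw [← map_mul, ← map_mul]
    congr 1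
    calc r * u * r = r * (u * r * u⁻¹) * u := by group
      _ = u := by rw [hur]; group)
  have huu : u * u = 1 := by
    rcases hx2 with h4 | h4
    · rw [← hx, h4, map_one]
    · exfalso
      obtain ⟨y, hy⟩ := exists_iota e (inv_mem ho)
      apply hno y
      have h5 : u₀ = iota e y * u := by rw [hy, hu]; group
      have h6 : iota e (y * phi e u y * .a 2) = 1 := by
        rw [map_mul, map_mul, iota_phi, ← h4, hx, ← hu₀, h5]
        group
      have h7 := (map_eq_one_iff (iota e) (iota_injective e)).1 h6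
      have h8 : ∀ w : QuaternionGroup 2, w * .a 2 = 1 → w = .a 2 := by decide +kernel
      exact h8 _ h7
  have hq4 : ∀ i : QuaternionGroup 2, i ^ 4 = 1 := by decide +kernel
  have hD : H55GL23.Data (iota e i) (iota e (phi e r i)) r u := by
    refine
      { hi4 := by rw [← map_pow, hq4, map_one]
        hi2 := by
          rw [← map_pow, pow_two]
          intro h
          exact d1 ((map_eq_one_iff (iota e) (iota_injective e)).1 h)
        hj := (iota_phi e r i).symm
        hk := by rw [← iota_phi, ← d2, map_mul]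
        hjj := by rw [pow_two, pow_two, ← (iota e).map_mul, ← (iota e).map_mul, d3]
        hji := by rw [← map_inv, ← map_mul, ← map_mul, d4, map_inv]
        hr3 := hr3
        hr1 := hr1
        hu := huu
        hu1 := fun h => huO (by rw [h]; exact one_mem _)
        hui2 := fun h => huO (by rw [h]; exact pow_mem (iota_mem e i) 2)
        hur := hur
        hui := by rw [← iota_phi, d5, map_inv]
        huj := by rw [← iota_phi, d6, map_inv, map_mul] }
  exact hD.equiv_GL hcard

/-- the centre -/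
theorem center_eq (hQ : Group.IsSolvable Q) (hO : pPrimeCore 2 Q = ⊥)
    (e : ↥(pCore 2 Q) ≃* QuaternionGroup 2) : Subgroup.center Q = Subgroup.zpowers (iota e (.a 2)) := by
  apply le_antisymm
  · intro g hg
    rw [Subgroup.mem_center_iff] at hg
    have h1 : phi e g = 1 := by
      ext x
      apply iota_injective e
      rw [iota_phi, ← hg (iota e x)]
      show iota e x * g * g⁻¹ = iota e x
      group
    rcases phi_eq_one hQ hO e h1 with h2 | h2
    · rw [h2]; exact one_mem _
    · rw [h2]; exact Subgroup.mem_zpowers _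
  · rw [Subgroup.zpowers_le, Subgroup.mem_center_iff]
    exact z_central e

theorem orderOf_z (e : ↥(pCore 2 Q) ≃* QuaternionGroup 2) : orderOf (iota e (.a 2)) = 2 := by
  rw [orderOf_injective (iota e) (iota_injective e)]
  apply orderOf_eq_prime
  · decide +kernel
  · decide +kernel

theorem card_center (hQ : Group.IsSolvable Q) (hO : pPrimeCore 2 Q = ⊥)
    (e : ↥(pCore 2 Q) ≃* QuaternionGroup 2) : Nat.card ↥(Subgroup.center Q) = 2 := by
  rw [center_eq hQ hO e, Nat.card_zpowers, orderOf_z e]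

theorem card_sylow_three (hQ : Group.IsSolvable Q) (hO : pPrimeCore 2 Q = ⊥)
    (e : ↥(pCore 2 Q) ≃* QuaternionGroup 2) (hcard : Nat.card Q = 48) : Nat.card (Sylow 3 Q) = 4 := by
  have : Fact (Nat.Prime 3) := ⟨Nat.prime_three⟩
  obtain ⟨R⟩ : Nonempty (Sylow 3 Q) := inferInstance
  have h1 : Nat.card (Sylow 3 Q) ≡ 1 [MOD 3] := card_sylow_modEq_one 3 Q
  have h2 : Nat.card (Sylow 3 Q) = (Subgroup.normalizer ((R : Subgroup Q) : Set Q)).index :=
    R.card_eq_index_normalizer
  -- |R| = 3
  have hRc : Nat.card ↥(R : Subgroup Q) = 3 := by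
    exact SmallSimple.sylow_card_of (k := 1) (m := 16) (by rw [hcard]; norm_num) (by norm_num) R
  have h6 : 6 ∣ Nat.card ↥(Subgroup.normalizer ((R : Subgroup Q) : Set Q)) := by
    have ha : 3 ∣ Nat.card ↥(Subgroup.normalizer ((R : Subgroup Q) : Set Q)) := by
      have h3 := Subgroup.card_dvd_of_le (Subgroup.le_normalizer (H := (R : Subgroup Q)))
      rwa [hRc] at h3
    have hb : 2 ∣ Nat.card ↥(Subgroup.normalizer ((R : Subgroup Q) : Set Q)) := by
      have hz : Subgroup.zpowers (iota e (.a 2)) ≤ Subgroup.normalizer ((R : Subgroup Q) : Set Q) := by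
        rw [Subgroup.zpowers_le, Subgroup.mem_normalizer_iff]
        intro y
        have := z_central e y
        have h3 : iota e (.a 2) * y * (iota e (.a 2))⁻¹ = y := by rw [← this]; group
        rw [h3]
      have := Subgroup.card_dvd_of_le hz
      rwa [Nat.card_zpowers, orderOf_z e] at this
    omega
  have h7 := (Subgroup.normalizer ((R : Subgroup Q) : Set Q)).card_mul_index
  rw [hcard, ← h2] at h7
  have h8 : Nat.card (Sylow 3 Q) ≠ 1 := by
    intro h9
    have hsub : Subsingleton (Sylow 3 Q) := (Nat.card_eq_one_iff_unique.1 h9).1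
    have hn : (R : Subgroup Q).Normal := Sylow.normal_of_subsingleton R
    have h10 : (R : Subgroup Q) ≤ pPrimeCore 2 Q := by
      apply Cores.le_pPrimeCore hn
      show (Nat.card ↥(R : Subgroup Q)).Coprime 2
      rw [hRc]; norm_num
    rw [hO] at h10
    have h11 := Subgroup.card_le_of_le h10
    rw [hRc, Subgroup.card_bot] at h11
    omega
  obtain ⟨m, hm⟩ := h6
  rw [hm] at h7
  generalize Nat.card (Sylow 3 Q) = n at *
  have hn8 : n ∣ 8 := ⟨m, by nlinarith⟩
  have hn8' : n ≤ 8 := Nat.le_of_dvd (by norm_num) hn8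
  rw [Nat.ModEq] at h1
  interval_cases n <;> omega

/-- the quotient by the centre is the symmetric group -/
theorem quot_center (hQ : Group.IsSolvable Q) (hO : pPrimeCore 2 Q = ⊥)
    (e : ↥(pCore 2 Q) ≃* QuaternionGroup 2) (hcard : Nat.card Q = 48) :
    Nonempty (Q ⧸ Subgroup.center Q ≃* Equiv.Perm (Fin 4)) := by
  classical
  have : Fact (Nat.Prime 3) := ⟨Nat.prime_three⟩
  have hn := card_sylow_three hQ hO e hcard
  let π : Q →* Equiv.Perm (Sylow 3 Q) := MulAction.toPermHom Q (Sylow 3 Q)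
  have hfin : Finite (Sylow 3 Q) := inferInstance
  obtain ⟨r, hr⟩ := exists_r hcard
  have hP3 : IsPGroup 3 (Subgroup.zpowers r) := IsPGroup.of_card (n := 1) (by rw [Nat.card_zpowers, hr, pow_one])
  obtain ⟨hψ3, hψ1⟩ := phi_r hQ hO e hr
  have hmemker : ∀ g, g ∈ π.ker → ∀ R : Sylow 3 Q, g ∈ Subgroup.normalizer ((R : Subgroup Q) : Set Q) := by
    intro g hg R
    have h1 : g • R = R := by
      have h2 : π g = 1 := hg
      have h3 := congrArg (fun s : Equiv.Perm (Sylow 3 Q) => s R) h2
      exact h3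
    exact Sylow.smul_eq_iff_mem_normalizer.1 h1
  -- the kernel is a 2-group
  have hker2 : ¬ 3 ∣ Nat.card ↥π.ker := by
    intro h3
    obtain ⟨⟨s, hs⟩, hso⟩ := exists_prime_orderOf_dvd_card' 3 h3
    rw [Subgroup.orderOf_mk] at hso
    have hS3 : IsPGroup 3 (Subgroup.zpowers s) := IsPGroup.of_card (n := 1) (by rw [Nat.card_zpowers, hso, pow_one])
    obtain ⟨R, hR⟩ := hS3.exists_le_sylow
    -- R = zpowers s is in the kernel; all its conjugates too
    have hRc : Nat.card ↥(R : Subgroup Q) = 3 := by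
      exact SmallSimple.sylow_card_of (k := 1) (m := 16) (by rw [hcard]; norm_num) (by norm_num) R
    have hRs : (R : Subgroup Q) = Subgroup.zpowers s := by
      symm
      apply Subgroup.eq_of_le_of_card_ge hR
      rw [hRc, Nat.card_zpowers, hso]
    have hRker : (R : Subgroup Q) ≤ π.ker := by
      rw [hRs, Subgroup.zpowers_le]; exact hs
    have hall : ∀ R' : Sylow 3 Q, R' = R := by
      intro R'
      have h1 : (R : Subgroup Q) ≤ Subgroup.normalizer ((R' : Subgroup Q) : Set Q) := fun g hg => hmemker g (hRker hg) R'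
      have h2 : IsPGroup 3 ((R : Subgroup Q) ⊔ (R' : Subgroup Q) : Subgroup Q) :=
        IsPGroup.to_sup_of_normal_right' R.2 R'.2 h1
      have h3 : (R : Subgroup Q) ⊔ (R' : Subgroup Q) = R := R.is_maximal' h2 le_sup_left
      have h4 : (R' : Subgroup Q) ≤ R := by rw [← h3]; exact le_sup_right
      exact Sylow.ext (R'.is_maximal' R.2 h4).symm
    have h5 : Nat.card (Sylow 3 Q) = 1 := by
      rw [Nat.card_eq_one_iff_unique]
      exact ⟨⟨fun a b => by rw [hall a, hall b]⟩, ⟨R⟩⟩
    omega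
  have hkerp : IsPGroup 2 ↥π.ker := by
    have hd : Nat.card ↥π.ker ∣ 48 := by rw [← hcard]; exact Subgroup.card_subgroup_dvd_card _
    have hcop : Nat.Coprime (Nat.card ↥π.ker) 3 := by
      rw [Nat.coprime_comm]; exact (Nat.Prime.coprime_iff_not_dvd Nat.prime_three).2 hker2
    have hd16 : Nat.card ↥π.ker ∣ 16 := by
      have : (48 : ℕ) = 16 * 3 := by norm_num
      rw [this] at hd
      exact hcop.dvd_of_dvd_mul_right hd
    have : (16 : ℕ) = 2 ^ 4 := by norm_num
    rw [this, Nat.dvd_prime_pow Nat.prime_two] at hd16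
    obtain ⟨k, -, hk⟩ := hd16
    exact IsPGroup.of_card hk
  have hkerO : π.ker ≤ pCore 2 Q := Cores.le_pCore inferInstance hkerp
  have hkerZ : π.ker = Subgroup.center Q := by
    apply le_antisymm
    · intro g hg
      obtain ⟨x, hx⟩ := exists_iota e (hkerO hg)
      obtain ⟨R, hR⟩ := hP3.exists_le_sylow
      have h1 := hmemker g hg R
      have h2 : phi e r x = x := by
        -- the commutator lies in O ∩ R
        have h3 : g * r * g⁻¹ * r⁻¹ ∈ (R : Subgroup Q) :=
          mul_mem ((Subgroup.mem_normalizer_iff.1 h1 r).1 (hR (Subgroup.mem_zpowers r)))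
            (inv_mem (hR (Subgroup.mem_zpowers r)))
        have h4 : g * r * g⁻¹ * r⁻¹ ∈ pCore 2 Q := by
          have : g * r * g⁻¹ * r⁻¹ = g * (r * g⁻¹ * r⁻¹) := by group
          rw [this]
          exact mul_mem (hkerO hg) ((inferInstance : (pCore 2 Q).Normal).conj_mem _ (inv_mem (hkerO hg)) r)
        have h5 : (R : Subgroup Q) ⊓ pCore 2 Q = ⊥ := by
          apply SubgroupTools.inf_eq_bot_of_coprime'
          obtain ⟨a, ha⟩ := IsPGroup.iff_card.1 R.2
          rw [ha, card_O e]
          have : (8 : ℕ) = 2 ^ 3 := by norm_num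
          rw [this]
          exact Nat.Coprime.pow _ _ (by norm_num)
        have h6 : g * r * g⁻¹ * r⁻¹ = 1 := by
          have : g * r * g⁻¹ * r⁻¹ ∈ (R : Subgroup Q) ⊓ pCore 2 Q := ⟨h3, h4⟩
          rwa [h5, Subgroup.mem_bot] at this
        apply iota_injective e
        rw [iota_phi, hx]
        have h7 : g * r = r * g := by
          calc g * r = (g * r * g⁻¹ * r⁻¹) * r * g := by group
            _ = r * g := by rw [h6, one_mul]
        rw [← h7]; group
      rw [center_eq hQ hO e]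
      rcases H55Q8Aut.fixed _ hψ3 hψ1 x h2 with h3 | h3
      · rw [← hx, h3, map_one]; exact one_mem _
      · rw [← hx, h3]; exact Subgroup.mem_zpowers _
    · intro g hg
      rw [Subgroup.mem_center_iff] at hg
      rw [MonoidHom.mem_ker]
      ext1 R
      show g • R = R
      apply Sylow.smul_eq_iff_mem_normalizer.2
      apply Subgroup.mem_normalizer_iff.2
      intro y
      have : g * y * g⁻¹ = y := by rw [← hg y]; group
      rw [this]
  -- surjectivity by counting
  have hrange : π.range = ⊤ := by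
    apply Subgroup.eq_top_of_card_eq
    have h1 : Nat.card Q = Nat.card ↥π.ker * Nat.card ↥π.range := by
      rw [Subgroup.card_eq_card_quotient_mul_card_subgroup π.ker, mul_comm]
      congr 1
      exact Nat.card_congr (QuotientGroup.quotientKerEquivRange π).toEquiv
    rw [hkerZ, card_center hQ hO e, hcard] at h1
    have : Fintype (Sylow 3 Q) := Fintype.ofFinite _
    have h2 : Nat.card (Equiv.Perm (Sylow 3 Q)) = 24 := by
      rw [Nat.card_eq_fintype_card, Fintype.card_perm, ← Nat.card_eq_fintype_card, hn]; rfl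
    rw [h2]; omega
  have e1 : Q ⧸ Subgroup.center Q ≃* Q ⧸ π.ker := QuotientGroup.quotientMulEquivOfEq hkerZ.symm
  have e2 : Q ⧸ π.ker ≃* ↥π.range := QuotientGroup.quotientKerEquivRange π
  have e3 : ↥π.range ≃* Equiv.Perm (Sylow 3 Q) := by rw [hrange]; exact Subgroup.topEquiv
  have e4 : Sylow 3 Q ≃ Fin 4 := by
    have := Finite.equivFin (Sylow 3 Q)
    rwa [hn] at this
  exact ⟨((e1.trans e2).trans e3).trans (Equiv.permCongrHom e4)⟩

/-- no involution outside `O_2(Q)`: generalized quaternion Sylow subgroups -/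
theorem caseB (e : ↥(pCore 2 Q) ≃* QuaternionGroup 2) (hcard : Nat.card Q = 48)
    (hno : ∀ u : Q, u * u = 1 → u ∈ pCore 2 Q) (P : Sylow 2 Q) :
    Nonempty (↥(P : Subgroup Q) ≃* QuaternionGroup 4) := by
  have hinv : ∀ u : Q, u * u = 1 → u ≠ 1 → u = iota e (.a 2) := by
    intro u hu hu1
    obtain ⟨x, rfl⟩ := exists_iota e (hno u hu)
    have h1 : ∀ x : QuaternionGroup 2, x * x = 1 → x ≠ 1 → x = .a 2 := by decide +kernel
    rw [h1 x]
    · apply iota_injective e
      rw [map_mul, hu, map_one]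
    · rintro rfl
      exact hu1 (map_one _)
  have hPc : Nat.card ↥(P : Subgroup Q) = 16 := by
    exact SmallSimple.sylow_card_of (k := 4) (m := 3) (by rw [hcard]; norm_num) (by norm_num) P
  rcases UniqueInvolution.isCyclic_or_quaternion P.2 (by
    intro x y hx hy
    have hx' : (x : Q) = iota e (.a 2) := by
      have h1 := H55Invol.mul_self hx
      apply hinv _ (congrArg Subtype.val h1)
      intro h2
      exact H55Invol.ne_one hx (Subtype.ext h2)
    have hy' : (y : Q) = iota e (.a 2) := by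
      have h1 := H55Invol.mul_self hy
      apply hinv _ (congrArg Subtype.val h1)
      intro h2
      exact H55Invol.ne_one hy (Subtype.ext h2)
    have : x = y := Subtype.ext (hx'.trans hy'.symm)
    rw [this]; exact Subgroup.mem_zpowers y) with h | ⟨-, n, hn, ⟨f⟩⟩
  · exfalso
    -- the quaternion group is not commutative
    have hle : pCore 2 Q ≤ (P : Subgroup Q) := Cores.pCore_le_sylow P
    have h1 : iota e (.a 1) * iota e (.xa 0) = iota e (.xa 0) * iota e (.a 1) := by
      have := (IsCyclic.commGroup (α := ↥(P : Subgroup Q))).mul_comm ⟨_, hle (iota_mem e (.a 1))⟩ ⟨_, hle (iota_mem e (.xa 0))⟩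
      exact congrArg Subtype.val this
    rw [← map_mul, ← map_mul] at h1
    have h2 := iota_injective e h1
    revert h2
    decide +kernel
  · have h1 : Nat.card ↥(P : Subgroup Q) = 4 * 2 ^ n := by
      have hne : NeZero ((2 : ℕ) ^ n) := ⟨by positivity⟩
      rw [Nat.card_congr f.toEquiv, Nat.card_eq_fintype_card, QuaternionGroup.card]
    rw [hPc] at h1
    have h2 : n = 2 := by
      have h3 : 2 ^ n = 2 ^ 2 := by omega
      exact Nat.pow_right_injective le_rfl h3
    subst h2
    exact ⟨f⟩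

end Cfsg.Agent.Lib.H55Oct
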