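import Cfsg.Agent.Lib.H55Spec5
import Cfsg.Agent.S3633

/-!
# Element orders in solvable groups, assembly (helper55)
-/

set_option autoImplicit false
set_option linter.unusedSectionVars false

namespace Cfsg.Agent.Lib.H55Spec1

open Subgroup commutatorElement Cfsg Cfsg.Agent.Lib
open Cfsg.Agent.Lib.LocBase Cfsg.Agent.Lib.BG08 Cfsg.Agent.Lib.HallPi
open Cfsg.Agent.Lib.H55Sft (exists_pCoreOf_ne_bot dvd_of_pCoreOf_ne_bot)
open scoped Pointwise

universe u

variable {G : Type u} [Group G] [Finite G]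

variable (G) in
/-- the hypotheses on the orders of elements -/
structure SP (σ : Finset ℕ) : Prop where
  prime : ∀ a ∈ σ, a.Prime
  pair : ∀ a ∈ σ, ∀ b ∈ σ, a ≠ b → ∃ g : G, orderOf g = a * b
  triple : ∀ a ∈ σ, ∀ b ∈ σ, ∀ c ∈ σ, a ≠ b → b ≠ c → a ≠ c → ∀ g : G, orderOf g ≠ a * b * c

/-- four distinct elements -/
structure Four (σ : Finset ℕ) (p q r s : ℕ) : Prop where
  hp : p ∈ σ
  hq : q ∈ σ
  hr : r ∈ σ
  hs : s ∈ σ
  pq : p ≠ q
  pr : p ≠ r
  ps : p ≠ s
  qr : q ≠ r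
  qs : q ≠ s
  rs : r ≠ s

section

variable {σ : Finset ℕ} {p q r s : ℕ}

theorem Four.swap12 (h : Four σ p q r s) : Four σ q p r s :=
  ⟨h.hq, h.hp, h.hr, h.hs, h.pq.symm, h.qr, h.qs, h.pr, h.ps, h.rs⟩

theorem Four.swap23 (h : Four σ p q r s) : Four σ p r q s :=
  ⟨h.hp, h.hr, h.hq, h.hs, h.pr, h.pq, h.ps, h.qr.symm, h.rs, h.qs⟩

theorem Four.swap34 (h : Four σ p q r s) : Four σ p q s r :=
  ⟨h.hp, h.hq, h.hs, h.hr, h.pq, h.ps, h.pr, h.qs, h.qr, h.rs.symm⟩

theorem exists_pair_of_orderOf {a b : ℕ} (ha : a.Prime) (hb : b.Prime) {g : G} (hg : orderOf g = a * b) :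
    orderOf (g ^ b) = a ∧ orderOf (g ^ a) = b ∧ g ^ b * g ^ a = g ^ a * g ^ b := by
  refine ⟨?_, ?_, ?_⟩
  · rw [orderOf_pow_of_dvd hb.ne_zero (by rw [hg]; exact dvd_mul_left _ _), hg, Nat.mul_div_cancel _ hb.pos]
  · rw [orderOf_pow_of_dvd ha.ne_zero (by rw [hg]; exact dvd_mul_right _ _), hg, Nat.mul_div_cancel_left _ ha.pos]
  · rw [← pow_add, ← pow_add, add_comm]

theorem SP.ntr (h : SP G σ) {a b c : ℕ} (ha : a ∈ σ) (hb : b ∈ σ) (hc : c ∈ σ) (hab : a ≠ b) (hbc : b ≠ c)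
    (hac : a ≠ c) : NTr G a b c := by
  intro x y z hx hy hz hxy hxz hyz
  have h1 : orderOf (x * y) = a * b := by
    rw [(show Commute x y from hxy).orderOf_mul_eq_mul_orderOf_of_coprime, hx, hy]
    rw [hx, hy]
    exact (Nat.coprime_primes (h.prime a ha) (h.prime b hb)).2 hab
  have h2 : Commute (x * y) z := Commute.mul_left hxz hyz
  apply h.triple a ha b hb c hc hab hbc hac (x * y * z)
  rw [h2.orderOf_mul_eq_mul_orderOf_of_coprime, h1, hz]
  rw [h1, hz]
  exact Nat.Coprime.mul_left ((Nat.coprime_primes (h.prime a ha) (h.prime c hc)).2 hac)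
    ((Nat.coprime_primes (h.prime b hb) (h.prime c hc)).2 hbc)

theorem SP.fa (hG : Group.IsSolvable G) (h : SP G σ) (F : Four σ p q r s) : FA G p q r s := by
  intro x u v w hx hu hv hw h1 h2 h3
  have hmem : ∀ a ∈ ({q, r, s} : Finset ℕ), a ∈ σ ∧ p ≠ a := by
    intro a ha
    simp only [Finset.mem_insert, Finset.mem_singleton] at ha
    rcases ha with rfl | rfl | rfl
    · exact ⟨F.hq, F.pq⟩
    · exact ⟨F.hr, F.pr⟩
    · exact ⟨F.hs, F.ps⟩
  have hcard : 3 ≤ ({q, r, s} : Finset ℕ).card := by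
    rw [Finset.card_eq_three.2 ⟨q, r, s, F.qr, F.qs, F.rs, rfl⟩]
  have hdv : ∀ a : ℕ, ∀ t : G, orderOf t = a → x * t = t * x → a ∣ Nat.card (centralizer ({x} : Set G)) := by
    intro a t ht hxt
    rw [← ht]
    exact Subgroup.orderOf_dvd_natCard _ (mem_centralizer_singleton'.2 hxt)
  have key := S3633.result (G := centralizer ({x} : Set G)) ({q, r, s} : Finset ℕ) hcard ⟨?_, ?_⟩ ⊥
    inferInstance
  · exact key.2 (SubgroupTools.isSolvable_of_le le_top (by
      exact Group.isSolvable_of_surjective (f := (Subgroup.topEquiv (G := G)).symm.toMonoidHom)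
        (Subgroup.topEquiv (G := G)).symm.surjective))
  · intro a ha
    refine ⟨h.prime a (hmem a ha).1, ?_⟩
    simp only [Finset.mem_insert, Finset.mem_singleton] at ha
    rcases ha with rfl | rfl | rfl
    · exact hdv _ u hu h1
    · exact hdv _ v hv h2
    · exact hdv _ w hw h3
  · rintro a ha b hb hab ⟨y, hy⟩
    have hyo : orderOf (y : G) = a * b := by rw [Subgroup.orderOf_coe]; exact hy
    have hxy : Commute x (y : G) := mem_centralizer_singleton'.1 y.2
    obtain ⟨haσ, hpa⟩ := hmem a ha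
    obtain ⟨hbσ, hpb⟩ := hmem b hb
    apply h.triple p F.hp a haσ b hbσ hpa hab hpb (x * (y : G))
    rw [hxy.orderOf_mul_eq_mul_orderOf_of_coprime, hx, hyo, mul_assoc]
    rw [hx, hyo]
    exact Nat.Coprime.mul_right ((Nat.coprime_primes (h.prime p F.hp) (h.prime a haσ)).2 hpa)
      ((Nat.coprime_primes (h.prime p F.hp) (h.prime b hbσ)).2 hpb)

theorem SP.rk (hG : Group.IsSolvable G) (h : SP G σ) (F : Four σ p q r s) : ∃ E : Subgroup G, Rk2 p E := by
  have hp := h.prime p F.hp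
  have := Fact.mk hp
  by_contra hno
  push Not at hno
  obtain ⟨T, hT⟩ := exists_isSyl p (⊤ : Subgroup G)
  obtain ⟨g, hg⟩ := h.pair p F.hp q F.hq F.pq
  have hT1 : T ≠ ⊥ := by
    rintro rfl
    have h1 := hT.ndvd
    rw [relIndex_bot_left, card_top] at h1
    apply h1
    refine (Dvd.intro q hg.symm).trans (orderOf_dvd_natCard g)
  obtain ⟨x, hxT, hxo, hu⟩ := exists_unique_of_not_rk2 hp hT.pgroup hT1 (fun E _ => hno E)
  have key : ∀ b ∈ σ, p ≠ b → ∃ v : G, orderOf v = b ∧ x * v = v * x := by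
    intro b hb hpb
    obtain ⟨g, hg⟩ := h.pair p F.hp b hb hpb
    obtain ⟨h1, h2, h3⟩ := exists_pair_of_orderOf hp (h.prime b hb) hg
    have hpg : IsPGroup p (zpowers (g ^ b)) := IsPGroup.of_card (n := 1) (by rw [Nat.card_zpowers, h1, pow_one])
    obtain ⟨c, _, hc⟩ := hT.exists_conj_le hpg le_top
    have h4 : c * g ^ b * c⁻¹ ∈ T := hc ⟨g ^ b, mem_zpowers _, rfl⟩
    have h5 : orderOf (c * g ^ b * c⁻¹) = p := by
      rw [← h1]
      exact orderOf_injective (MulAut.conj c).toMonoidHom (MulAut.conj c).injective (g ^ b)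
    have h6 := hu _ h4 h5
    have h7 : c * g ^ b * c⁻¹ ≠ 1 := by
      intro h0
      rw [h0, orderOf_one] at h5
      exact hp.one_lt.ne h5
    have h8 := zpowers_eq_of_mem hp hxo h6 h7
    have h9 : x ∈ zpowers (c * g ^ b * c⁻¹) := by rw [h8]; exact mem_zpowers x
    obtain ⟨k, rfl⟩ := h9
    refine ⟨c * g ^ p * c⁻¹, ?_, ?_⟩
    · rw [← h2]
      exact orderOf_injective (MulAut.conj c).toMonoidHom (MulAut.conj c).injective (g ^ p)
    · have h10 : Commute (c * g ^ b * c⁻¹) (c * g ^ p * c⁻¹) := by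
        change (c * g ^ b * c⁻¹) * (c * g ^ p * c⁻¹) = (c * g ^ p * c⁻¹) * (c * g ^ b * c⁻¹)
        have e1 : (c * g ^ b * c⁻¹) * (c * g ^ p * c⁻¹) = c * (g ^ b * g ^ p) * c⁻¹ := by
          simp only [mul_assoc, inv_mul_cancel_left]
        have e2 : (c * g ^ p * c⁻¹) * (c * g ^ b * c⁻¹) = c * (g ^ p * g ^ b) * c⁻¹ := by
          simp only [mul_assoc, inv_mul_cancel_left]
        rw [e1, e2, h3]
      exact h10.zpow_left k
  obtain ⟨u, hu1, hu2⟩ := key q F.hq F.pq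
  obtain ⟨v, hv1, hv2⟩ := key r F.hr F.pr
  obtain ⟨w, hw1, hw2⟩ := key s F.hs F.ps
  exact h.fa hG F x u v w hxo hu1 hv1 hw1 hu2 hv2 hw2

theorem Rk2.conj {a : ℕ} {E : Subgroup G} (h : Rk2 a E) (g : G) : Rk2 a (MulAut.conj g • E) := by
  refine ⟨?_, ?_, ?_⟩
  · rw [isMulCommutative_iff_of_setLike]
    intro x hx y hy
    rw [SubgroupTools.mem_conj_smul] at hx hy
    have h1 := isMulCommutative_iff_of_setLike.mp h.comm _ hx _ hy
    have h2 : g⁻¹ * (x * y) * g = g⁻¹ * (y * x) * g := by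
      calc g⁻¹ * (x * y) * g = (g⁻¹ * x * g) * (g⁻¹ * y * g) := by group
        _ = (g⁻¹ * y * g) * (g⁻¹ * x * g) := h1
        _ = g⁻¹ * (y * x) * g := by group
    exact mul_left_cancel (mul_right_cancel h2)
  · intro x hx
    rw [SubgroupTools.mem_conj_smul] at hx
    have h1 := h.exp _ hx
    have h2 : (g⁻¹ * x * g) ^ a = g⁻¹ * x ^ a * g := by
      have := conj_pow (i := a) (a := g⁻¹) (b := x)
      rwa [inv_inv] at this
    rw [h2] at h1
    have h3 : x ^ a = g * (g⁻¹ * x ^ a * g) * g⁻¹ := by group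
    rw [h3, h1]
    group
  · intro hc
    apply h.ncyc
    exact isCyclic_of_surjective (Subgroup.equivSMul (MulAut.conj g) E).symm.toMonoidHom
      (Subgroup.equivSMul (MulAut.conj g) E).symm.surjective

theorem hall_rk {π : Set ℕ} {M H : Subgroup G} (hs : Group.IsSolvable M) (hH : Cfsg.IsPiHallOf π H M) {a : ℕ}
    (ha : a.Prime) (haπ : a ∈ π) (h : ∃ E ≤ M, Rk2 a E) : ∃ E ≤ H, Rk2 a E := by
  have := Fact.mk ha
  obtain ⟨E, hEM, hE⟩ := h
  have hπ : PiNum π (Nat.card E) := by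
    obtain ⟨k, hk⟩ := IsPGroup.iff_card.mp hE.isPGroup
    rw [hk]; exact piNum_prime_pow ha haπ
  obtain ⟨g, _, hg⟩ := exists_conj_le_rel hs hH hEM hπ
  refine ⟨MulAut.conj g⁻¹ • E, ?_, hE.conj g⁻¹⟩
  intro x hx
  rw [SubgroupTools.mem_conj_smul, inv_inv] at hx
  have := hg hx
  rw [SubgroupTools.mem_conj_smul] at this
  have e : g⁻¹ * (g * x * g⁻¹) * g = x := by group
  rwa [e] at this

theorem hall_elt {π : Set ℕ} {M H : Subgroup G} (hs : Group.IsSolvable M) (hH : Cfsg.IsPiHallOf π H M) {g : G}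
    (hg : g ∈ M) (hπ : PiNum π (orderOf g)) : ∃ g' ∈ H, orderOf g' = orderOf g := by
  obtain ⟨c, _, hc⟩ := exists_conj_le_rel hs hH (K := zpowers g) (by rw [zpowers_le]; exact hg)
    (by rw [Nat.card_zpowers]; exact hπ)
  refine ⟨c⁻¹ * g * c, SubgroupTools.mem_conj_smul.1 (hc (mem_zpowers g)), ?_⟩
  have := orderOf_injective (MulAut.conj c⁻¹).toMonoidHom (MulAut.conj c⁻¹).injective g
  simpa using this

/-- the data for a Hall subgroup -/
structure Dat (H : Subgroup G) (σ : Finset ℕ) : Prop where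
  sp : SP G σ
  hG : Group.IsSolvable G
  hHs : Group.IsSolvable H
  hπ : ∀ t : ℕ, t.Prime → t ∣ Nat.card H → t ∈ σ
  rk : ∀ a ∈ σ, ∃ E ≤ H, Rk2 a E
  pair : ∀ a ∈ σ, ∀ b ∈ σ, a ≠ b → ∃ g ∈ H, orderOf g = a * b
  hc : σ.card = 4

theorem Four.all (F : Four σ p q r s) (hc : σ.card = 4) : ∀ t ∈ σ, t = p ∨ t = q ∨ t = r ∨ t = s := by
  have h1 : ({p, q, r, s} : Finset ℕ) = σ := by
    apply Finset.eq_of_subset_of_card_le
    · intro t ht
      simp only [Finset.mem_insert, Finset.mem_singleton] at ht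
      rcases ht with rfl | rfl | rfl | rfl
      · exact F.hp
      · exact F.hq
      · exact F.hr
      · exact F.hs
    · rw [hc, Finset.card_insert_of_notMem, Finset.card_insert_of_notMem, Finset.card_insert_of_notMem,
        Finset.card_singleton]
      · simpa using F.rs
      · simpa using ⟨F.qr, F.qs⟩
      · simpa using ⟨F.pq, F.pr, F.ps⟩
  intro t ht
  rw [← h1] at ht
  simpa using ht

variable {H Y : Subgroup G}

theorem Dat.quad (D : Dat H σ) (F : Four σ p q r s) : Quad G p q r s :=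
  ⟨D.sp.prime p F.hp, D.sp.prime q F.hq, D.sp.prime r F.hr, D.sp.prime s F.hs, F.pq, F.pr, F.ps, F.qr, F.qs, F.rs,
    D.sp.ntr F.hp F.hq F.hr F.pq F.qr F.pr, D.sp.ntr F.hp F.hq F.hs F.pq F.qs F.ps,
    D.sp.ntr F.hp F.hr F.hs F.pr F.rs F.ps, D.sp.ntr F.hq F.hr F.hs F.qr F.rs F.qs⟩

theorem Dat.not_two (D : Dat H σ) (F : Four σ p q r s) (hp1 : pCoreOf p H ≠ ⊥) (hq1 : pCoreOf q H ≠ ⊥) : False := by
  have Q := D.quad F
  have := Fact.mk Q.hp
  have := Fact.mk Q.hq
  obtain ⟨L, hL⟩ := exists_isPiHallOf D.hHs ({r, s} : Set ℕ)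
  obtain ⟨E, hEL, hE⟩ := hall_rk D.hHs hL Q.hs (by simp) (D.rk s F.hs)
  obtain ⟨F', hFL, hF⟩ := hall_rk D.hHs hL Q.hr (by simp) (D.rk r F.hr)
  rw [isPiHallOf_iff] at hL
  obtain ⟨hLH, hLπ, _⟩ := hL
  refine caseII Q (isPGroup_pCoreOf p H) (isPGroup_pCoreOf q H) hp1 hq1 (pCoreOf_le_centralizer_pCoreOf F.pq H)
    (hLH.trans (le_normalizer_pCoreOf p H)) (hLH.trans (le_normalizer_pCoreOf q H))
    (SubgroupTools.isSolvable_of_le hLH D.hHs) ?_ hE hEL hF hFL
  intro t ht h1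
  have := hLπ t ht h1
  simpa using this

/-- trivial intersections with centralisers -/
theorem inf_centralizer_core {H Y : Subgroup G} (hHs : Group.IsSolvable H) (hp : p.Prime)
    (h0 : ∀ t : ℕ, t.Prime → t ≠ p → pCoreOf t H = ⊥) (hYH : Y ≤ H) {π : Set ℕ} (hY : PiNum π (Nat.card Y))
    (hpπ : p ∉ π) : Y ⊓ centralizer (pCoreOf p H : Set G) = ⊥ := by
  have h1 : fittingOf H ≤ pCoreOf p H := by
    apply fittingOf_le_of_forall
    intro t ht
    by_cases htp : t = p
    · rw [htp]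
    · rw [h0 t ht htp]; exact bot_le
  have hcop : (Nat.card Y).Coprime (Nat.card (pCoreOf p H)) := by
    have := Fact.mk hp
    obtain ⟨k, hk⟩ := IsPGroup.iff_card.mp (isPGroup_pCoreOf p H)
    rw [hk]
    exact hY.coprime (piNum_prime_pow hp (by simpa using hpπ))
  rw [eq_bot_iff, ← Subgroup.inf_eq_bot_of_coprime hcop]
  refine le_inf inf_le_left ?_
  intro x hx
  apply h1
  apply inf_centralizer_fittingOf_le hHs
  exact ⟨hYH hx.1, centralizer_le (SetLike.coe_subset_coe.2 h1) hx.2⟩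

theorem Dat.one_aux (D : Dat H σ) (F : Four σ p q r s) (hp1 : pCoreOf p H ≠ ⊥)
    (hY : Cfsg.IsPiHallOf {t | t ∈ σ ∧ t ≠ p} Y H) (hfY : Y ⊓ centralizer (pCoreOf p H : Set G) = ⊥)
    (hq1 : pCoreOf q Y ≠ ⊥) : False := by
  have Q := D.quad F
  have := Fact.mk Q.hp
  have := Fact.mk Q.hq
  have hYrk : ∀ a ∈ σ, a ≠ p → ∃ E ≤ Y, Rk2 a E := by
    intro a ha hap
    exact hall_rk D.hHs hY (D.sp.prime a ha) ⟨ha, hap⟩ (D.rk a ha)
  have hYH : Y ≤ H := (isPiHallOf_iff.1 hY).1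
  have hYπ := (isPiHallOf_iff.1 hY).2.1
  have hYt : ∀ t : ℕ, t.Prime → t ∣ Nat.card Y → t = q ∨ t = r ∨ t = s := by
    intro t ht h1
    obtain ⟨h2, h3⟩ := hYπ t ht h1
    rcases F.all D.hc t h2 with h4 | h4
    · exact absurd h4 h3
    · exact h4
  have hYs : Group.IsSolvable Y := SubgroupTools.isSolvable_of_le hYH D.hHs
  have hYP : Y ≤ normalizer (pCoreOf p H : Set G) := hYH.trans (le_normalizer_pCoreOf p H)
  by_cases hr1 : pCoreOf r Y = ⊥
  · by_cases hs1 : pCoreOf s Y = ⊥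
    · -- Case I.1
      obtain ⟨g, hgH, hgo⟩ := D.pair r F.hr s F.hs F.rs
      obtain ⟨g', hg'Y, hg'o⟩ := hall_elt D.hHs hY hgH (by
        rw [hgo]
        apply PiNum.mul
        · have := piNum_prime_pow (π := {t | t ∈ σ ∧ t ≠ p}) (k := 1) Q.hr ⟨F.hr, F.pr.symm⟩
          rwa [pow_one] at this
        · have := piNum_prime_pow (π := {t | t ∈ σ ∧ t ≠ p}) (k := 1) Q.hs ⟨F.hs, F.ps.symm⟩
          rwa [pow_one] at this)
      rw [hgo] at hg'o
      obtain ⟨L, hL, hgL⟩ := exists_le_isPiHallOf (π := ({r, s} : Set ℕ)) hYs (zpowers g')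
        (by rw [zpowers_le]; exact hg'Y) (by
          rw [Nat.card_zpowers, hg'o]
          apply PiNum.mul
          · have := piNum_prime_pow (π := ({r, s} : Set ℕ)) (k := 1) Q.hr (by simp)
            rwa [pow_one] at this
          · have := piNum_prime_pow (π := ({r, s} : Set ℕ)) (k := 1) Q.hs (by simp)
            rwa [pow_one] at this)
      have hE := hall_rk hYs hL Q.hs (by simp) (hYrk s F.hs F.ps.symm)
      have hF := hall_rk hYs hL Q.hr (by simp) (hYrk r F.hr F.pr.symm)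
      rw [isPiHallOf_iff] at hL
      obtain ⟨hLY, hLπ, _⟩ := hL
      have hg'L : g' ∈ L := hgL (mem_zpowers g')
      obtain ⟨h1, h2, h3⟩ := exists_pair_of_orderOf Q.hr Q.hs hg'o
      have hCI : CI (pCoreOf p H) (pCoreOf q Y) Y L p q r s :=
        { quad := Q
          f3 := D.sp.fa D.hG F.swap23.swap12
          f4 := D.sp.fa D.hG F.swap34.swap23.swap12
          hP := isPGroup_pCoreOf p H
          hB := isPGroup_pCoreOf q Y
          hP1 := hp1
          hB1 := hq1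
          hYP := hYP
          hYB := le_normalizer_pCoreOf q Y
          hBY := pCoreOf_le Y
          hLY := hLY
          hfY := hfY
          hfB := by
            refine inf_centralizer_core hYs Q.hq ?_ hLY hLπ ?_
            · intro t ht htq
              by_contra hne
              have h4 : t ∣ Nat.card Y := (dvd_of_pCoreOf_ne_bot ht hne).trans
                (Subgroup.card_dvd_of_le (pCoreOf_le _))
              rcases hYt t ht h4 with rfl | rfl | rfl
              · exact htq rfl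
              · exact hne hr1
              · exact hne hs1
            · simpa using ⟨F.qr, F.qs⟩
          hLs := SubgroupTools.isSolvable_of_le hLY hYs
          hL := fun t ht h1 => by simpa using hLπ t ht h1
          hE := hE
          hF := hF }
      exact hCI.false (pow_mem hg'L s) (pow_mem hg'L r) h1 h2 h3
    · have hCJ : CJ (pCoreOf p H) Y p q s r :=
        ⟨D.quad F.swap34, isPGroup_pCoreOf p H, hp1, hYP, hfY, hYs,
          fun t ht h1 => by rcases hYt t ht h1 with h2 | h2 | h2 <;> simp [h2],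
          hq1, hs1, hYrk q F.hq F.pq.symm, hYrk s F.hs F.ps.symm, hYrk r F.hr F.pr.symm⟩
      exact hCJ.false
  · have hCJ : CJ (pCoreOf p H) Y p q r s :=
      ⟨Q, isPGroup_pCoreOf p H, hp1, hYP, hfY, hYs, hYt,
        hq1, hr1, hYrk q F.hq F.pq.symm, hYrk r F.hr F.pr.symm, hYrk s F.hs F.ps.symm⟩
    exact hCJ.false

theorem Dat.one (D : Dat H σ) (F : Four σ p q r s) (hp1 : pCoreOf p H ≠ ⊥) : False := by
  have Q := D.quad F
  have hcore : ∀ t : ℕ, t.Prime → t ≠ p → pCoreOf t H = ⊥ := by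
    intro t ht htp
    by_contra hne
    have h1 : t ∣ Nat.card H := (dvd_of_pCoreOf_ne_bot ht hne).trans (Subgroup.card_dvd_of_le (pCoreOf_le _))
    rcases F.all D.hc t (D.hπ t ht h1) with rfl | rfl | rfl | rfl
    · exact htp rfl
    · exact D.not_two F hp1 hne
    · exact D.not_two F.swap23 hp1 hne
    · exact D.not_two F.swap34.swap23 hp1 hne
  obtain ⟨Y, hY⟩ := exists_isPiHallOf D.hHs {t | t ∈ σ ∧ t ≠ p}
  have hYH : Y ≤ H := (isPiHallOf_iff.1 hY).1
  have hYπ := (isPiHallOf_iff.1 hY).2.1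
  have hfY : Y ⊓ centralizer (pCoreOf p H : Set G) = ⊥ :=
    inf_centralizer_core D.hHs Q.hp hcore hYH hYπ (by simp)
  have hYs : Group.IsSolvable Y := SubgroupTools.isSolvable_of_le hYH D.hHs
  have hY1 : Y ≠ ⊥ := by
    obtain ⟨E, hE, hEr⟩ := hall_rk D.hHs hY Q.hq ⟨F.hq, F.pq.symm⟩ (D.rk q F.hq)
    intro h0
    rw [h0, le_bot_iff] at hE
    exact hEr.ne_bot hE
  obtain ⟨t, ht, htc⟩ := exists_pCoreOf_ne_bot hYs hY1
  have h1 : t ∣ Nat.card Y := (dvd_of_pCoreOf_ne_bot ht htc).trans (Subgroup.card_dvd_of_le (pCoreOf_le _))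
  obtain ⟨h2, h3⟩ := hYπ t ht h1
  rcases F.all D.hc t h2 with rfl | rfl | rfl | rfl
  · exact h3 rfl
  · exact D.one_aux F hp1 hY hfY htc
  · exact D.one_aux F.swap23 hp1 hY hfY htc
  · exact D.one_aux F.swap34.swap23 hp1 hY hfY htc

theorem SP.not_isSolvable (h : SP G σ) (hc : σ.card = 4) : ¬ Group.IsSolvable G := by
  intro hG
  obtain ⟨p, τ, hpτ, hτσ, hτ⟩ := Finset.card_eq_succ.1 hc
  obtain ⟨q, r, s, hqr, hqs, hrs, rfl⟩ := Finset.card_eq_three.1 hτ
  simp only [Finset.mem_insert, Finset.mem_singleton, not_or] at hpτ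
  have F : Four σ p q r s := by
    refine ⟨?_, ?_, ?_, ?_, hpτ.1, hpτ.2.1, hpτ.2.2, hqr, hqs, hrs⟩ <;> rw [← hτσ] <;> simp
  have htop : Group.IsSolvable (⊤ : Subgroup G) :=
    Group.isSolvable_of_surjective (f := (Subgroup.topEquiv (G := G)).symm.toMonoidHom)
        (Subgroup.topEquiv (G := G)).symm.surjective
  obtain ⟨H, hH⟩ := exists_isPiHallOf htop {t | t ∈ σ}
  have hHH := isPiHallOf_iff.1 hH
  have hrk : ∀ a ∈ σ, ∃ E ≤ H, Rk2 a E := by
    intro a ha
    refine hall_rk htop hH (h.prime a ha) ha ?_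
    have : ∃ E : Subgroup G, Rk2 a E := by
      rcases F.all hc a ha with rfl | rfl | rfl | rfl
      · exact h.rk hG F
      · exact h.rk hG F.swap12
      · exact h.rk hG F.swap23.swap12
      · exact h.rk hG F.swap34.swap23.swap12
    obtain ⟨E, hE⟩ := this
    exact ⟨E, le_top, hE⟩
  have D : Dat H σ :=
    { sp := h
      hG := hG
      hHs := SubgroupTools.isSolvable_of_le hHH.1 htop
      hπ := hHH.2.1
      rk := hrk
      pair := by
        intro a ha b hb hab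
        obtain ⟨g, hg⟩ := h.pair a ha b hb hab
        obtain ⟨g', hg', hgo⟩ := hall_elt htop hH (mem_top g) (by
          rw [hg]
          apply PiNum.mul
          · have := piNum_prime_pow (π := {t | t ∈ σ}) (k := 1) (h.prime a ha) ha
            rwa [pow_one] at this
          · have := piNum_prime_pow (π := {t | t ∈ σ}) (k := 1) (h.prime b hb) hb
            rwa [pow_one] at this)
        exact ⟨g', hg', hgo.trans hg⟩
      hc := hc }
  have hH1 : H ≠ ⊥ := by
    obtain ⟨E, hE, hEr⟩ := hrk p F.hp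
    intro h0
    rw [h0, le_bot_iff] at hE
    exact hEr.ne_bot hE
  obtain ⟨t, ht, htc⟩ := exists_pCoreOf_ne_bot D.hHs hH1
  have h1 : t ∣ Nat.card H := (dvd_of_pCoreOf_ne_bot ht htc).trans (Subgroup.card_dvd_of_le (pCoreOf_le _))
  rcases F.all hc t (D.hπ t ht h1) with rfl | rfl | rfl | rfl
  · exact D.one F htc
  · exact D.one F.swap12 htc
  · exact D.one F.swap23.swap12 htc
  · exact D.one F.swap34.swap23.swap12 htc

end

end Cfsg.Agent.Lib.H55Spec1
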