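import Mathlib
import Cfsg.Agent.S3224
import Cfsg.Agent.Lib.FrobBasic
import Cfsg.Agent.Lib.UniqueInvolution
import Cfsg.Agent.Lib.FrobGroup

set_option autoImplicit false

/-! Sylow 2-subgroups in groups of fixity two (S3390). -/

namespace Cfsg.Agent.Lib.H56FixTwo

open Equiv MulAction
open scoped Pointwise

section basic
variable (G Ω : Type*) [Group G] [MulAction G Ω]

/-- non-identity elements have at most two fixed points. -/
def Fix2 : Prop := ∀ g : G, g ≠ 1 → ∀ a b c : Ω, a ≠ b → g • a = a → g • b = b → g • c = c → c = a ∨ c = b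

variable {G Ω}

theorem fix2_of_card [Finite Ω] (h : ∀ g : G, g ≠ 1 → Nat.card (fixedBy Ω g) ≤ 2) : Fix2 G Ω := by
  classical
  intro g hg a b c hab ha hb hc
  by_contra hcon
  push Not at hcon
  have h1 := h g hg
  have h2 : ({a, b, c} : Set Ω) ⊆ fixedBy Ω g := by
    rintro x (rfl | rfl | rfl)
    · exact ha
    · exact hb
    · exact hc
  have h3 : Nat.card ({a, b, c} : Set Ω) ≤ Nat.card (fixedBy Ω g) := Nat.card_mono (Set.toFinite _) h2
  have h4 : Nat.card ({a, b, c} : Set Ω) = 3 := by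
    rw [Nat.card_coe_set_eq, Set.ncard_eq_toFinset_card']
    simp [hab, hcon.1.symm, hcon.2.symm]
  omega

theorem eq_one_of_three (hF : Fix2 G Ω) {g : G} {a b c : Ω} (hab : a ≠ b) (hca : c ≠ a) (hcb : c ≠ b)
    (ha : g • a = a) (hb : g • b = b) (hc : g • c = c) : g = 1 := by
  by_contra hg
  rcases hF g hg a b c hab ha hb hc with h | h
  · exact hca h
  · exact hcb h

/-- local analysis at a point. -/
theorem point [Finite G] (hF : Fix2 G Ω) (P : Subgroup G) (hP : IsPGroup 2 P) (α : Ω)
    (hT : P ⊓ stabilizer G α ≠ ⊥) (hP' : ¬ P ≤ stabilizer G α) :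
    ∃ β, β ≠ α ∧ (∀ t ∈ P, t • α = α → t • β = β) ∧
     ((Nat.card ↥(P ⊓ stabilizer G α) = 2 ∧ ((∃ n : ℕ, Nonempty (P ≃* DihedralGroup n)) ∨ Cfsg.IsQuasiDihedral P)) ∨
      ((∀ u ∈ P, u • α = α ∨ u • α = β) ∧ ∃ s ∈ P, s • α = β ∧ s • β = α)) := by
  classical
  have f2 : Fact (Nat.Prime 2) := ⟨Nat.prime_two⟩
  have hnil : Group.IsNilpotent P := hP.isNilpotent
  set T := P ⊓ stabilizer G α with hTdef
  have hTmem : ∀ g, g ∈ T ↔ g ∈ P ∧ g • α = α := fun g => Iff.rfl
  obtain ⟨t0, ht0T, ht01⟩ : ∃ t ∈ T, t ≠ 1 := by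
    obtain ⟨t, ht⟩ := Subgroup.ne_bot_iff_exists_ne_one.1 hT
    exact ⟨t, t.2, fun h => ht (Subtype.ext h)⟩
  -- an element of `P` outside `T` normalizing `T`
  have hlt : T.subgroupOf P < ⊤ := by
    rw [lt_top_iff_ne_top]
    intro h
    apply hP'
    have h1 := Subgroup.subgroupOf_eq_top.1 h
    exact h1.trans inf_le_right
  have hnorm := Group.normalizerCondition_of_isNilpotent (G := P) _ hlt
  obtain ⟨s, hsN, hsT⟩ := SetLike.exists_of_lt hnorm
  have hsT' : (s : G) ∉ T := fun h => hsT h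
  have hsn : ∀ t ∈ T, (s : G)⁻¹ * t * s ∈ T := by
    intro t ht
    have h1 : (⟨t, ht.1⟩ : P) ∈ T.subgroupOf P := ht
    have h2 := (Subgroup.mem_normalizer_iff''.1 hsN ⟨t, ht.1⟩).1 h1
    exact h2
  obtain ⟨β, hβ⟩ : ∃ β, β = (s : G) • α := ⟨_, rfl⟩
  have hβα : β ≠ α := fun h => hsT' ⟨s.2, hβ.symm.trans h⟩
  have hTβ : ∀ t ∈ P, t • α = α → t • β = β := by
    intro t ht hta
    have h1 := hsn t ⟨ht, hta⟩
    have h2 : ((s : G)⁻¹ * t * s) • α = α := h1.2
    have h3 : t • β = (s : G) • (((s : G)⁻¹ * t * s) • α) := by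
      rw [hβ, smul_smul, smul_smul]; congr 1; group
    rw [h3, h2]
    exact hβ.symm
  have hfix : ∀ t, t ∈ T → t ≠ 1 → ∀ c, t • c = c → c = α ∨ c = β := fun t ht ht1 c hc =>
    hF t ht1 α β c hβα.symm ht.2 (hTβ t ht.1 ht.2) hc
  refine ⟨β, hβα, hTβ, ?_⟩
  -- commuting with a nontrivial element of `T`
  have hcomm : ∀ t, t ∈ T → t ≠ 1 → ∀ u : G, u * t = t * u → u • α = α ∨ u • α = β := by
    intro t ht ht1 u hu
    apply hfix t ht ht1
    rw [smul_smul, ← hu, ← smul_smul, ht.2]
  have hsβ : (s : G) • β = α := by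
    have h1 : ∀ t ∈ T, t • ((s : G) • β) = (s : G) • β := by
      intro t ht
      have h2 := hsn t ht
      have h3 := hTβ _ h2.1 h2.2
      have h4 : t • ((s : G) • β) = (s : G) • (((s : G)⁻¹ * t * s) • β) := by
        rw [smul_smul, smul_smul]; congr 1; group
      rw [h4, h3]
    rcases hfix t0 ht0T ht01 _ (h1 t0 ht0T) with h | h
    · exact h
    · exfalso
      rw [hβ] at h
      have h5 : (s : G) • α = α := smul_left_cancel (s : G) h
      exact hβα (hβ.trans h5)
  by_cases hB : ∃ z ∈ T, z ≠ 1 ∧ ∀ u ∈ P, u * z = z * u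
  · right
    obtain ⟨z, hzT, hz1, hzc⟩ := hB
    exact ⟨fun u hu => hcomm z hzT hz1 u (hzc u hu), s, s.2, hβ.symm, hsβ⟩
  · left
    push Not at hB
    -- a central involution
    have hPnt : Nontrivial P := ⟨⟨⟨t0, ht0T.1⟩, 1, fun h => ht01 (congrArg Subtype.val h)⟩⟩
    have hZnt : Nontrivial (Subgroup.center P) := hP.center_nontrivial
    have hZp : IsPGroup 2 (Subgroup.center P) := hP.to_subgroup _
    obtain ⟨z, hz⟩ : ∃ z : Subgroup.center P, orderOf z = 2 := by
      have : 2 ∣ Nat.card (Subgroup.center P) := by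
        obtain ⟨k, hk, hk'⟩ := (hZp.nontrivial_iff_card).1 hZnt
        rw [hk']; exact dvd_pow_self _ hk.ne'
      exact exists_prime_orderOf_dvd_card' 2 this
    set w : G := ((z : P) : G) with hw
    have hwP : w ∈ P := (z : P).2
    have hwc : ∀ u ∈ P, u * w = w * u := by
      intro u hu
      have := Subgroup.mem_center_iff.1 z.2 ⟨u, hu⟩
      exact congrArg Subtype.val this
    have hw1 : w ≠ 1 := by
      intro h
      have : z = 1 := Subtype.ext (Subtype.ext h)
      rw [this, orderOf_one] at hz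
      omega
    have hww : w * w = 1 := by
      have h1 := pow_orderOf_eq_one z
      rw [hz, sq] at h1
      exact congrArg (fun x : Subgroup.center P => ((x : P) : G)) h1
    have hwT : w ∉ T := by
      intro h
      obtain ⟨u, hu, hu'⟩ := hB w h hw1
      exact hu' (hwc u hu)
    have hwα : w • α = β := by
      rcases hcomm t0 ht0T ht01 w (hwc t0 ht0T.1).symm with h | h
      · exact absurd ⟨hwP, h⟩ hwT
      · exact h
    have hwβ : w • β = α := by rw [← hwα, smul_smul, hww, one_smul]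
    -- the setwise stabilizer
    let M : Subgroup G :=
      { carrier := {u | u ∈ P ∧ ((u • α = α ∧ u • β = β) ∨ (u • α = β ∧ u • β = α))}
        one_mem' := ⟨P.one_mem, Or.inl ⟨one_smul _ _, one_smul _ _⟩⟩
        mul_mem' := by
          rintro a b ⟨ha, ha'⟩ ⟨hb, hb'⟩
          refine ⟨P.mul_mem ha hb, ?_⟩
          rcases ha' with ⟨h1, h2⟩ | ⟨h1, h2⟩ <;> rcases hb' with ⟨h3, h4⟩ | ⟨h3, h4⟩
          · left; rw [mul_smul, mul_smul, h3, h4]; exact ⟨h1, h2⟩
          · right; rw [mul_smul, mul_smul, h3, h4]; exact ⟨h2, h1⟩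
          · right; rw [mul_smul, mul_smul, h3, h4]; exact ⟨h1, h2⟩
          · left; rw [mul_smul, mul_smul, h3, h4]; exact ⟨h2, h1⟩
        inv_mem' := by
          rintro a ⟨ha, ha'⟩
          refine ⟨P.inv_mem ha, ?_⟩
          rcases ha' with ⟨h1, h2⟩ | ⟨h1, h2⟩
          · left
            exact ⟨by rw [inv_smul_eq_iff, h1], by rw [inv_smul_eq_iff, h2]⟩
          · right
            exact ⟨by rw [inv_smul_eq_iff, h2], by rw [inv_smul_eq_iff, h1]⟩ }
    have hMmem : ∀ u, u ∈ M ↔ u ∈ P ∧ ((u • α = α ∧ u • β = β) ∨ (u • α = β ∧ u • β = α)) := fun u => Iff.rfl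
    have hTM : T ≤ M := fun t ht => ⟨ht.1, Or.inl ⟨ht.2, hTβ t ht.1 ht.2⟩⟩
    have hMT : ∀ u ∈ M, u ∉ T → w * u ∈ T := by
      rintro u ⟨hu, ⟨h1, h2⟩ | ⟨h1, h2⟩⟩ huT
      · exact absurd ⟨hu, h1⟩ huT
      · exact ⟨P.mul_mem hwP hu, by show (w * u) • α = α; rw [mul_smul, h1, hwβ]⟩
    have hMlt : M.subgroupOf P < ⊤ := by
      rw [lt_top_iff_ne_top]
      intro h
      have hPM : P ≤ M := Subgroup.subgroupOf_eq_top.1 h
      -- `T` is normal in `P`
      have hTn : ∀ u ∈ P, ∀ t ∈ T, u * t * u⁻¹ ∈ T := by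
        intro u hu t ht
        refine ⟨P.mul_mem (P.mul_mem hu ht.1) (P.inv_mem hu), ?_⟩
        show (u * t * u⁻¹) • α = α
        have hu' := (hMmem _).1 (hPM (P.inv_mem hu))
        rcases hu'.2 with ⟨h1, _⟩ | ⟨h1, _⟩
        · have h3 : u • α = α := by rw [eq_comm, ← inv_smul_eq_iff]; exact h1
          rw [mul_smul, mul_smul, h1, ht.2, h3]
        · have h3 : u • β = α := by rw [← h1, smul_inv_smul]
          rw [mul_smul, mul_smul, h1, hTβ t ht.1 ht.2, h3]
      have hN : (T.subgroupOf P).Normal := ⟨fun t ht u => hTn u u.2 t ht⟩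
      have hNb : T.subgroupOf P ≠ ⊥ := by
        intro h
        have : (⟨t0, ht0T.1⟩ : P) ∈ T.subgroupOf P := ht0T
        rw [h] at this
        exact ht01 (congrArg Subtype.val this)
      obtain ⟨c, hc, hc1, hcc⟩ := UniqueInvolution.exists_central_of_normal hP _ hNb
      obtain ⟨u, hu, hu'⟩ := hB c hc (fun h => hc1 (Subtype.ext h))
      exact hu' (congrArg Subtype.val (hcc ⟨u, hu⟩))
    have hMnorm := Group.normalizerCondition_of_isNilpotent (G := P) _ hMlt
    obtain ⟨g, hgN, hgM⟩ := SetLike.exists_of_lt hMnorm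
    have hgM' : (g : G) ∉ M := fun h => hgM h
    have hgn : ∀ u ∈ M, (g : G) * u * (g : G)⁻¹ ∈ M := by
      intro u hu
      have h1 : (⟨u, hu.1⟩ : P) ∈ M.subgroupOf P := hu
      exact (Subgroup.mem_normalizer_iff.1 hgN ⟨u, hu.1⟩).1 h1
    have key : ∀ t ∈ T, t ≠ 1 → (g : G) * t * (g : G)⁻¹ ∉ T := by
      intro t ht ht1 hgt
      apply hgM'
      have hgt1 : (g : G) * t * (g : G)⁻¹ ≠ 1 := fun h => ht1 (by simpa using h)
      have e1 : ∀ x : Ω, t • x = x → ((g : G) * t * (g : G)⁻¹) • ((g : G) • x) = (g : G) • x := by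
        intro x hx
        rw [mul_smul, mul_smul, inv_smul_smul, hx]
      have e2 := hfix _ hgt hgt1 _ (e1 α ht.2)
      have e3 := hfix _ hgt hgt1 _ (e1 β (hTβ t ht.1 ht.2))
      have e4 : (g : G) • α ≠ (g : G) • β := fun h => hβα (smul_left_cancel _ h).symm
      refine (hMmem _).2 ⟨g.2, ?_⟩
      rcases e2 with e2 | e2 <;> rcases e3 with e3 | e3
      · exact absurd (e2.trans e3.symm) e4
      · exact Or.inl ⟨e2, e3⟩
      · exact Or.inr ⟨e2, e3⟩
      · exact absurd (e2.trans e3.symm) e4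
    have huniq : ∀ t ∈ T, t ≠ 1 → t = t0 := by
      intro t ht ht1
      have h1 := hMT _ (hgn t (hTM ht)) (key t ht ht1)
      have h2 := hMT _ (hgn t0 (hTM ht0T)) (key t0 ht0T ht01)
      by_contra hne
      apply key (t * t0⁻¹) (T.mul_mem ht (T.inv_mem ht0T)) (fun h => hne (mul_inv_eq_one.1 h))
      have h3 : (g : G) * (t * t0⁻¹) * (g : G)⁻¹ = (w * ((g : G) * t * (g : G)⁻¹)) * (w * ((g : G) * t0 * (g : G)⁻¹))⁻¹ := by
        have hc : (g : G) * (t * t0⁻¹) * (g : G)⁻¹ * w = w * ((g : G) * (t * t0⁻¹) * (g : G)⁻¹) :=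
          hwc _ (P.mul_mem (P.mul_mem g.2 (P.mul_mem ht.1 (P.inv_mem ht0T.1))) (P.inv_mem g.2))
        calc (g : G) * (t * t0⁻¹) * (g : G)⁻¹ = (g : G) * (t * t0⁻¹) * (g : G)⁻¹ * w * w⁻¹ := by group
          _ = w * ((g : G) * (t * t0⁻¹) * (g : G)⁻¹) * w⁻¹ := by rw [hc]
          _ = _ := by group
      rw [h3]
      exact T.mul_mem h1 (T.inv_mem h2)
    have hTcard : Nat.card T = 2 := by
      rw [Nat.card_eq_two_iff]
      refine ⟨1, ⟨t0, ht0T⟩, fun h => ht01 (congrArg Subtype.val h).symm, ?_⟩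
      rw [Set.eq_univ_iff_forall]
      rintro ⟨t, ht⟩
      by_cases h1 : t = 1
      · left; exact Subtype.ext h1
      · right; exact Subtype.ext (huniq t ht h1)
    refine ⟨hTcard, ?_⟩
    -- the centralizer of `t0`
    have ht0o : orderOf t0 = 2 := by
      have h1 : t0 * t0 = 1 := by
        by_contra h
        have := huniq _ (T.mul_mem ht0T ht0T) h
        exact ht01 (mul_eq_left.1 this)
      exact orderOf_eq_prime (by rw [sq]; exact h1) ht01
    have ht0P : t0 ∈ P := ht0T.1
    have hC : Nat.card ↥(Subgroup.centralizer ({⟨t0, ht0P⟩} : Set P)) = 4 := by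
      set C := Subgroup.centralizer ({⟨t0, ht0P⟩} : Set P) with hCdef
      have hCmem : ∀ u : P, u ∈ C → (u : G) * t0 = t0 * u := by
        intro u hu
        exact congrArg Subtype.val (Subgroup.mem_centralizer_singleton_iff.1 hu)
      let H : Subgroup C := (stabilizer G α).comap (P.subtype.comp C.subtype)
      have hHmem : ∀ u : C, u ∈ H ↔ ((u : P) : G) • α = α := fun u => Iff.rfl
      have hwC : (⟨w, hwP⟩ : P) ∈ C := by
        rw [hCdef, Subgroup.mem_centralizer_singleton_iff]
        exact Subtype.ext (hwc t0 ht0P).symm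
      have hi : H.index = 2 := by
        rw [Subgroup.index_eq_two_iff]
        refine ⟨⟨⟨w, hwP⟩, hwC⟩, ?_⟩
        intro b
        have hbw : (((b * ⟨⟨w, hwP⟩, hwC⟩ : C) : P) : G) • α = ((b : P) : G) • β := by
          show (((b : P) : G) * w) • α = _
          rw [mul_smul, hwα]
        rcases hcomm t0 ht0T ht01 _ (hCmem b b.2) with h | h
        · right
          refine ⟨h, ?_⟩
          rw [hHmem, hbw, hTβ _ (b : P).2 h]
          exact hβα
        · left
          refine ⟨?_, ?_⟩
          · rw [hHmem, hbw]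
            have h1 : (w * ((b : P) : G)) • α = α := by rw [mul_smul, h, hwβ]
            rw [← hwα, smul_smul, hwc _ (b : P).2]
            exact h1
          · rw [hHmem, h]
            exact hβα
      have hc : Nat.card H = 2 := by
        rw [Nat.card_eq_two_iff]
        have ht0C : (⟨t0, ht0P⟩ : P) ∈ C := by
          rw [hCdef, Subgroup.mem_centralizer_singleton_iff]
        refine ⟨1, ⟨⟨⟨t0, ht0P⟩, ht0C⟩, ht0T.2⟩, fun h => ht01 ?_, ?_⟩
        · exact (congrArg (fun x : H => (((x : C) : P) : G)) h).symm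
        · rw [Set.eq_univ_iff_forall]
          rintro ⟨⟨⟨t, htP⟩, htC⟩, htH⟩
          by_cases h1 : t = 1
          · left
            exact Subtype.ext (Subtype.ext (Subtype.ext h1))
          · right
            exact Subtype.ext (Subtype.ext (Subtype.ext (huniq t ⟨htP, htH⟩ h1)))
      have := H.card_mul_index
      rw [hc, hi] at this
      exact this.symm
    rcases S3224.result hP ⟨t0, ht0P⟩ (by rw [Subgroup.orderOf_mk]; exact ht0o) hC with h | h | h
    · exact Or.inl h
    · exact Or.inr h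
    · exfalso
      have hab := IsPGroup.commutative_of_card_eq_prime_sq (p := 2) (G := P) (by rw [h]; norm_num)
      obtain ⟨u, hu, hu'⟩ := hB t0 ht0T ht01
      exact hu' (congrArg Subtype.val (hab ⟨u, hu⟩ ⟨t0, ht0P⟩))

end basic

/-! ### Signs -/

section sign

theorem sign_of_free {X : Type*} [Fintype X] [DecidableEq X] (f : Perm X) (o : ℕ)
    (hf : ∀ x, f x ≠ x → ∀ k : ℕ, (f ^ k) x = x ↔ o ∣ k) (c : ℕ) (hc : f.support.card = c * o) (ho : 0 < o) :
    Perm.sign f = (-1) ^ (c * o + c) := by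
  have h1 : f.cycleType = Multiset.replicate (Multiset.card f.cycleType) o := by
    rw [Multiset.eq_replicate]
    refine ⟨rfl, ?_⟩
    intro n hn
    rw [Perm.cycleType_def, Multiset.mem_map] at hn
    obtain ⟨g, hg, rfl⟩ := hn
    have hg' : g ∈ f.cycleFactorsFinset := hg
    rw [Perm.mem_cycleFactorsFinset_iff] at hg'
    obtain ⟨x, hx⟩ := hg'.1.nonempty_support
    have hgx : g x = f x := hg'.2 x hx
    have hx' : g x ≠ x := Perm.mem_support.1 hx
    have hpow : ∀ k : ℕ, (g ^ k) x = (f ^ k) x := by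
      have hstep : ∀ k : ℕ, (g ^ k) x = (f ^ k) x ∧ (g ^ k) x ∈ g.support := by
        intro k
        induction k with
        | zero => exact ⟨rfl, hx⟩
        | succ k ih =>
          have e1 : (g ^ (k + 1)) x = g ((g ^ k) x) := by rw [pow_succ']; rfl
          have e2 : (f ^ (k + 1)) x = f ((f ^ k) x) := by rw [pow_succ']; rfl
          refine ⟨?_, ?_⟩
          · rw [e1, e2, ← ih.1]
            exact hg'.2 _ ih.2
          · rw [e1]
            exact Perm.apply_mem_support.2 ih.2
      exact fun k => (hstep k).1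
    have h2 : ∀ k : ℕ, g ^ k = 1 ↔ o ∣ k := by
      intro k
      rw [hg'.1.pow_eq_one_iff' hx', hpow]
      exact hf x (by rw [← hgx]; exact hx') k
    have h3 : orderOf g = o := by
      apply Nat.dvd_antisymm
      · exact orderOf_dvd_of_pow_eq_one ((h2 o).2 dvd_rfl)
      · exact (h2 _).1 (pow_orderOf_eq_one g)
    show g.support.card = o
    rw [← hg'.1.orderOf, h3]
  have h2 : f.cycleType.sum = Multiset.card f.cycleType * o := by
    conv_lhs => rw [h1]
    simp
  have h3 : Multiset.card f.cycleType = c := by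
    rw [Perm.sum_cycleType, hc] at h2
    exact (Nat.eq_of_mul_eq_mul_right ho h2).symm
  rw [Perm.sign_of_cycleType, h2, h3]

theorem toPerm_pow {G X : Type*} [Group G] [MulAction G X] (u : G) (k : ℕ) (x : X) :
    ((MulAction.toPermHom G X u) ^ k) x = u ^ k • x := by
  rw [← map_pow]; rfl

theorem even_pow_two {a b : ℕ} (h : 2 ^ a ∣ 2 ^ b) (hne : 2 ^ a ≠ 2 ^ b) : ∃ c, 2 ^ b = 2 * c * 2 ^ a := by
  have h1 : a ≤ b := (Nat.pow_dvd_pow_iff_le_right (by norm_num)).1 h
  have h2 : a < b := lt_of_le_of_ne h1 (fun h => hne (by rw [h]))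
  obtain ⟨d, rfl⟩ : ∃ d, b = a + 1 + d := ⟨b - a - 1, by omega⟩
  exact ⟨2 ^ d, by rw [pow_add, pow_add]; ring⟩

/-- the regular representation: cyclic case. -/
theorem exists_chi_cyclic {G : Type*} [Group G] [Finite G] (P : Sylow 2 G) (hc : IsCyclic (P : Subgroup G))
    (T : Subgroup G) (hTP : T ≤ (P : Subgroup G)) (hT : T.relIndex (P : Subgroup G) = 2)
    (h4 : 4 ≤ Nat.card (P : Subgroup G)) :
    ∃ χ : G →* ℤˣ, ∀ u ∈ (P : Subgroup G), χ u = 1 ↔ u ∈ T := by
  classical
  have f2 : Fact (Nat.Prime 2) := ⟨Nat.prime_two⟩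
  have hft : Fintype G := Fintype.ofFinite G
  refine ⟨Perm.sign.comp (MulAction.toPermHom G G), ?_⟩
  obtain ⟨n, hn⟩ := IsPGroup.iff_card.1 P.2
  have hn1 : 1 ≤ n := by
    by_contra h
    have : n = 0 := by omega
    rw [this] at hn
    omega
  -- `|G| = |P| * odd`
  have hGP : Nat.card (P : Subgroup G) * (P : Subgroup G).index = Nat.card G := (P : Subgroup G).card_mul_index
  have hodd : ¬ 2 ∣ (P : Subgroup G).index := P.not_dvd_index
  have hsgn : ∀ u : G, u ≠ 1 → ∀ c, Nat.card G = c * orderOf u →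
      Perm.sign (MulAction.toPermHom G G u) = (-1) ^ (c * orderOf u + c) := by
    intro u hu c hc'
    apply sign_of_free _ _ _ _ _ (orderOf_pos u)
    · intro x _ k
      rw [toPerm_pow, smul_eq_mul, mul_eq_right, orderOf_dvd_iff_pow_eq_one]
    · have : (MulAction.toPermHom G G u).support = Finset.univ := by
        ext x
        simp only [Perm.mem_support, Finset.mem_univ, iff_true, ne_eq]
        intro h
        have h' : u * x = x := h
        exact hu (mul_eq_right.1 h')
      rw [this, Finset.card_univ, ← Nat.card_eq_fintype_card, hc']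
  have hTcard : Nat.card T * 2 = Nat.card (P : Subgroup G) := by
    have h := (T.subgroupOf (P : Subgroup G)).card_mul_index
    rw [Nat.card_congr (Subgroup.subgroupOfEquivOfLe hTP).toEquiv] at h
    have h' : (T.subgroupOf (P : Subgroup G)).index = 2 := hT
    rw [h'] at h
    exact h
  intro u hu
  show Perm.sign (MulAction.toPermHom G G u) = 1 ↔ _
  by_cases hu1 : u = 1
  · rw [hu1, map_one, map_one]
    exact ⟨fun _ => T.one_mem, fun _ => rfl⟩
  by_cases huT : u ∈ T
  · -- even
    have h1 : orderOf u ∣ Nat.card T := Subgroup.orderOf_dvd_natCard _ huT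
    obtain ⟨d, hd⟩ := h1
    have h2 : Nat.card G = (2 * (d * (P : Subgroup G).index)) * orderOf u := by
      rw [← hGP, ← hTcard, hd]; ring
    rw [hsgn u hu1 _ h2]
    simp only [huT, iff_true]
    rw [Even.neg_one_pow]
    rw [show 2 * (d * (P : Subgroup G).index) * orderOf u + 2 * (d * (P : Subgroup G).index) =
      2 * (d * (P : Subgroup G).index * orderOf u + d * (P : Subgroup G).index) by ring]
    exact even_two_mul _
  · -- a generator
    have hord : orderOf u = Nat.card (P : Subgroup G) := by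
      obtain ⟨⟨g, hgP⟩, hg⟩ := hc.exists_generator
      have hgo : orderOf g = Nat.card (P : Subgroup G) := by
        have := orderOf_eq_card_of_forall_mem_zpowers hg
        rw [← this, Subgroup.orderOf_mk]
      obtain ⟨i, hi⟩ := (mem_powers_iff_mem_zpowers (x := (⟨g, hgP⟩ : (P : Subgroup G)))).2 (hg ⟨u, hu⟩)
      have hi' : g ^ i = u := congrArg Subtype.val hi
      have hio : ¬ 2 ∣ i := by
        rintro ⟨j, rfl⟩
        apply huT
        have hg2 : (⟨g, hgP⟩ : (P : Subgroup G)) ^ 2 ∈ T.subgroupOf (P : Subgroup G) :=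
          Subgroup.sq_mem_of_index_two hT _
        have hg2' : g ^ 2 ∈ T := hg2
        rw [← hi', pow_mul]
        exact T.pow_mem hg2' j
      rw [← hi', orderOf_pow, hgo, hn]
      have : Nat.gcd (2 ^ n) i = 1 := Nat.Coprime.pow_left n ((Nat.prime_two.coprime_iff_not_dvd).2 hio)
      rw [this, Nat.div_one]
    have h2 : Nat.card G = (P : Subgroup G).index * orderOf u := by
      rw [← hGP, hord]; ring
    rw [hsgn u hu1 _ h2]
    simp only [huT, iff_false]
    rw [Odd.neg_one_pow]
    · decide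
    · have h3 : Odd (P : Subgroup G).index := Nat.not_even_iff_odd.1 (fun h => hodd h.two_dvd)
      have h4' : Even (orderOf u) := by
        rw [hord, hn]
        exact (Nat.even_pow.2 ⟨even_two, by omega⟩)
      exact (h4'.mul_left _).add_odd h3

/-- the permutation character: non-cyclic case. -/
theorem exists_chi_noncyclic {G Ω : Type*} [Group G] [Finite G] [Finite Ω] [MulAction G Ω] (P : Sylow 2 G)
    (hc : ¬ IsCyclic (P : Subgroup G)) {α β : Ω} (hαβ : β ≠ α)
    (hTβ : ∀ t ∈ (P : Subgroup G), t • α = α → t • β = β)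
    (horb : ∀ u ∈ (P : Subgroup G), u • α = α ∨ u • α = β)
    {s : G} (hs : s ∈ (P : Subgroup G)) (hsα : s • α = β) (hsβ : s • β = α)
    (hfree : ∀ γ : Ω, γ ≠ α → γ ≠ β → ∀ u ∈ (P : Subgroup G), u • γ = γ → u = 1) :
    ∃ χ : G →* ℤˣ, ∀ u ∈ (P : Subgroup G), χ u = 1 ↔ u • α = α := by
  classical
  have f2 : Fact (Nat.Prime 2) := ⟨Nat.prime_two⟩
  have hft : Fintype Ω := Fintype.ofFinite Ω
  obtain ⟨n, hn⟩ := IsPGroup.iff_card.1 P.2
  -- the pair is invariant
  have hswap : ∀ u ∈ (P : Subgroup G), u • α = β → u • β = α := by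
    intro u hu h
    have h1 : (s * u) • α = α := by rw [mul_smul, h, hsβ]
    have h2 := hTβ _ ((P : Subgroup G).mul_mem hs hu) h1
    rw [mul_smul] at h2
    exact smul_left_cancel s (h2.trans hsα.symm)
  have hinv : ∀ u ∈ (P : Subgroup G), ∀ x : Ω, x ≠ α ∧ x ≠ β → u • x ≠ α ∧ u • x ≠ β := by
    intro u hu x hx
    rcases horb u hu with h | h
    · refine ⟨fun h' => hx.1 (smul_left_cancel u (h'.trans h.symm)),
        fun h' => hx.2 (smul_left_cancel u (h'.trans (hTβ u hu h).symm))⟩
    · refine ⟨fun h' => hx.2 (smul_left_cancel u (h'.trans (hswap u hu h).symm)),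
        fun h' => hx.1 (smul_left_cancel u (h'.trans h.symm))⟩
  -- the free part
  let Ω' := {x : Ω // x ≠ α ∧ x ≠ β}
  letI : MulAction (P : Subgroup G) Ω' :=
    { smul := fun u x => ⟨(u : G) • x.1, hinv u u.2 x.1 x.2⟩
      one_smul := fun x => Subtype.ext (one_smul G x.1)
      mul_smul := fun a b x => Subtype.ext (mul_smul (a : G) b x.1) }
  obtain ⟨l, hl⟩ : Nat.card (P : Subgroup G) ∣ Nat.card Ω' := FrobGroup.card_dvd_of_free (by
    intro u x hux
    exact Subtype.ext (hfree x.1 x.2.1 x.2.2 u u.2 (congrArg Subtype.val hux)))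
  have hpow : ∀ u ∈ (P : Subgroup G), ∀ x : Ω, x ≠ α ∧ x ≠ β → ∀ k : ℕ, u ^ k • x = x ↔ orderOf u ∣ k := by
    intro u hu x hx k
    rw [orderOf_dvd_iff_pow_eq_one]
    constructor
    · intro h
      exact hfree x hx.1 hx.2 _ ((P : Subgroup G).pow_mem hu k) h
    · intro h; rw [h, one_smul]
  -- the sign of a permutation acting like `u` outside `α, β` and fixing `α, β`
  have key : ∀ u ∈ (P : Subgroup G), u ≠ 1 → ∀ f : Perm Ω, f α = α → f β = β →
      (∀ x, x ≠ α ∧ x ≠ β → f x = u • x) → Perm.sign f = 1 := by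
    intro u hu hu1 f hfα hfβ hf
    have hfk : ∀ k : ℕ, ∀ x, x ≠ α ∧ x ≠ β → (f ^ k) x = u ^ k • x := by
      intro k
      induction k with
      | zero => intro x _; simp
      | succ k ih =>
        intro x hx
        rw [pow_succ, Perm.mul_apply, hf x hx, ih _ (hinv u hu x hx), smul_smul, ← pow_succ]
    have hsupp : f.support = Finset.univ.filter (fun x => x ≠ α ∧ x ≠ β) := by
      ext x
      rw [Perm.mem_support, Finset.mem_filter]
      constructor
      · intro h
        refine ⟨Finset.mem_univ _, ?_, ?_⟩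
        · rintro rfl; exact h hfα
        · rintro rfl; exact h hfβ
      · rintro ⟨-, hx⟩ h
        rw [hf x hx] at h
        exact hu1 (hfree x hx.1 hx.2 u hu h)
    have hcard : f.support.card = Nat.card Ω' := by
      rw [hsupp, Nat.card_eq_fintype_card, Fintype.card_subtype]
    obtain ⟨m, hm⟩ := IsPGroup.iff_orderOf.1 P.2 ⟨u, hu⟩
    rw [Subgroup.orderOf_mk] at hm
    have hdvd : 2 ^ m ∣ 2 ^ n := by
      rw [← hm, ← hn]
      exact Subgroup.orderOf_dvd_natCard _ hu
    have hne : 2 ^ m ≠ 2 ^ n := by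
      intro h
      apply hc
      rw [← hm, ← hn] at h
      exact isCyclic_of_orderOf_eq_card (⟨u, hu⟩ : (P : Subgroup G)) (by rw [Subgroup.orderOf_mk]; exact h)
    obtain ⟨d, hd⟩ := even_pow_two hdvd hne
    have h1 : f.support.card = (2 * (d * l)) * orderOf u := by
      rw [hcard, hl, hn, hd, hm]; ring
    rw [sign_of_free f (orderOf u) ?_ _ h1 (orderOf_pos u)]
    · rw [Even.neg_one_pow]
      rw [show 2 * (d * l) * orderOf u + 2 * (d * l) = 2 * (d * l * orderOf u + d * l) by ring]
      exact even_two_mul _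
    · intro x hx k
      have hx' : x ≠ α ∧ x ≠ β := by
        refine ⟨?_, ?_⟩
        · rintro rfl; exact hx hfα
        · rintro rfl; exact hx hfβ
      rw [hfk k x hx']
      exact hpow u hu x hx' k
  refine ⟨Perm.sign.comp (MulAction.toPermHom G Ω), ?_⟩
  intro u hu
  show Perm.sign (MulAction.toPermHom G Ω u) = 1 ↔ _
  rcases horb u hu with h | h
  · simp only [h, iff_true]
    by_cases hu1 : u = 1
    · rw [hu1, map_one, map_one]
    · exact key u hu hu1 _ h (hTβ u hu h) (fun x _ => rfl)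
  · have hne : ¬ (u • α = α) := by rw [h]; exact hαβ
    simp only [hne, iff_false]
    have hu1 : u ≠ 1 := by
      rintro rfl
      exact hne (one_smul _ _)
    have h1 := key u hu hu1 (swap α β * MulAction.toPermHom G Ω u) (by
        rw [Perm.mul_apply]
        show swap α β (u • α) = α
        rw [h, swap_apply_right]) (by
        rw [Perm.mul_apply]
        show swap α β (u • β) = β
        rw [hswap u hu h, swap_apply_left]) (by
        intro x hx
        rw [Perm.mul_apply]
        show swap α β (u • x) = u • x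
        have := hinv u hu x hx
        exact swap_apply_of_ne_of_ne this.1 this.2)
    rw [map_mul, Perm.sign_swap hαβ.symm] at h1
    intro h2
    rw [h2] at h1
    exact absurd h1 (by decide)

end sign

/-! ### The Frobenius group -/

theorem frobenius {G Ω : Type*} [Group G] [Finite G] [Finite Ω] [MulAction G Ω] [FaithfulSMul G Ω]
    (htr : MulAction.IsPretransitive G Ω) (hF : Fix2 G Ω) (P : Sylow 2 G) {α β : Ω} (hαβ : β ≠ α)
    (hT1 : ∃ t ∈ (P : Subgroup G), t ≠ 1 ∧ t • α = α)
    (hTβ : ∀ t ∈ (P : Subgroup G), t • α = α → t • β = β)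
    (horb : ∀ u ∈ (P : Subgroup G), u • α = α ∨ u • α = β)
    {s : G} (hs : s ∈ (P : Subgroup G)) (hsα : s • α = β) (hsβ : s • β = α)
    (hfree : ∀ γ : Ω, γ ≠ α → γ ≠ β → ∀ u ∈ (P : Subgroup G), u • γ = γ → u = 1)
    (χ : G →* ℤˣ) (hχ : ∀ u ∈ (P : Subgroup G), χ u = 1 ↔ u • α = α) :
    χ.ker.index = 2 ∧ ∃ H : Subgroup χ.ker, Cfsg.IsFrobeniusComplement H := by
  classical
  have f2 : Fact (Nat.Prime 2) := ⟨Nat.prime_two⟩
  have hswap : ∀ u ∈ (P : Subgroup G), u • α = β → u • β = α := by
    intro u hu h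
    have h1 : (s * u) • α = α := by rw [mul_smul, h, hsβ]
    have h2 := hTβ _ ((P : Subgroup G).mul_mem hs hu) h1
    rw [mul_smul] at h2
    exact smul_left_cancel s (h2.trans hsα.symm)
  have hχs : χ s ≠ 1 := by
    intro h
    have := (hχ s hs).1 h
    rw [hsα] at this
    exact hαβ this
  have hunit : ∀ g, χ g = 1 ∨ χ g = -1 := fun g => Int.units_eq_one_or (χ g)
  -- the index
  have hidx : χ.ker.index = 2 := by
    rw [Subgroup.index_ker]
    have h1 : Nat.card χ.range ∣ Nat.card ℤˣ := Subgroup.card_subgroup_dvd_card _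
    have h2 : Nat.card ℤˣ = 2 := by rw [Nat.card_eq_fintype_card]; rfl
    rw [h2] at h1
    rcases (Nat.dvd_prime Nat.prime_two).1 h1 with h | h
    · exfalso
      have hb := Subgroup.card_eq_one.1 h
      have : χ s ∈ χ.range := ⟨s, rfl⟩
      rw [hb] at this
      exact hχs this
    · exact h
  -- 2-elements fixing a point
  have h2el : ∀ v : G, (∃ k, orderOf v = 2 ^ k) → ∀ γ : Ω, v • γ = γ → v ≠ 1 →
      ∃ x : G, (x⁻¹ * v * x ∈ (P : Subgroup G)) ∧ (x⁻¹ * v * x) • α = α ∧ (γ = x • α ∨ γ = x • β) := by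
    intro v hv γ hγ hv1
    have hp : IsPGroup 2 (Subgroup.zpowers v) := by
      rw [IsPGroup.iff_card, Nat.card_zpowers]; exact hv
    obtain ⟨Q, hQ⟩ := hp.exists_le_sylow
    obtain ⟨x, hx⟩ := MulAction.exists_smul_eq G P Q
    have hvQ : v ∈ (Q : Subgroup G) := hQ (Subgroup.mem_zpowers v)
    rw [← hx] at hvQ
    have hvP : x⁻¹ * v * x ∈ (P : Subgroup G) := by
      have h3 : v ∈ MulAut.conj x • (P : Subgroup G) := hvQ
      rw [Subgroup.mem_pointwise_smul_iff_inv_smul_mem] at h3
      simpa [MulAut.smul_def] using h3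
    have hfixx : (x⁻¹ * v * x) • (x⁻¹ • γ) = x⁻¹ • γ := by
      rw [mul_smul, mul_smul, smul_inv_smul, hγ]
    have hne : x⁻¹ * v * x ≠ 1 := by
      intro h
      apply hv1
      have : v = x * (x⁻¹ * v * x) * x⁻¹ := by group
      rw [this, h]; group
    have hcase : x⁻¹ • γ = α ∨ x⁻¹ • γ = β := by
      by_contra hcon
      push Not at hcon
      exact hne (hfree _ hcon.1 hcon.2 _ hvP hfixx)
    refine ⟨x, hvP, ?_, ?_⟩
    · rcases hcase with h | h
      · rwa [h] at hfixx
      · rcases horb _ hvP with h' | h'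
        · exact h'
        · exfalso
          rw [h] at hfixx
          have := hswap _ hvP h'
          rw [hfixx] at this
          exact hαβ this
    · rcases hcase with h | h
      · left; rw [← h, smul_inv_smul]
      · right; rw [← h, smul_inv_smul]
  -- every element fixing a point is in the kernel
  have hker : ∀ g : G, ∀ γ : Ω, g • γ = γ → χ g = 1 := by
    intro g γ hg
    -- the power `g ^ m`, `m` odd part
    obtain ⟨k, m, hm, hkm⟩ := Nat.exists_eq_two_pow_mul_odd (n := orderOf g) (orderOf_pos g).ne'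
    have hgm : (g ^ m) • γ = γ := by
      have : g ^ m ∈ stabilizer G γ := Subgroup.pow_mem _ hg m
      exact this
    have h1 : χ (g ^ m) = 1 := by
      by_cases hgm1 : g ^ m = 1
      · rw [hgm1, map_one]
      · have ho : orderOf (g ^ m) = 2 ^ k := by
          rw [orderOf_pow, hkm, Nat.gcd_eq_right ⟨2 ^ k, mul_comm _ _⟩]
          exact Nat.mul_div_cancel _ hm.pos
        obtain ⟨x, hxP, hxα, -⟩ := h2el _ ⟨k, ho⟩ γ hgm hgm1
        have h2 := (hχ _ hxP).2 hxα
        have h3 : χ (x⁻¹ * g ^ m * x) = χ (g ^ m) := by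
          rw [map_mul, map_mul, map_inv, mul_comm (χ x)⁻¹, mul_assoc, inv_mul_cancel, mul_one]
        rw [← h3, h2]
    rcases hunit g with h | h
    · exact h
    · exfalso
      rw [map_pow, h, hm.neg_one_pow] at h1
      exact absurd h1 (by decide)
  refine ⟨hidx, ?_⟩
  refine ⟨(stabilizer G α).subgroupOf χ.ker, ?_⟩
  rw [FrobBasic.isFrobeniusComplement_iff]
  obtain ⟨t, htP, ht1, htα⟩ := hT1
  have htker : t ∈ χ.ker := hker t α htα
  refine ⟨?_, ?_, ?_⟩
  · intro h
    have : (⟨t, htker⟩ : χ.ker) ∈ (stabilizer G α).subgroupOf χ.ker := htα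
    rw [h] at this
    exact ht1 (congrArg Subtype.val this)
  · intro h
    have hle : χ.ker ≤ stabilizer G α := Subgroup.subgroupOf_eq_top.1 h
    apply ht1
    apply FaithfulSMul.eq_of_smul_eq_smul (α := Ω)
    intro x
    obtain ⟨g, rfl⟩ := htr.exists_smul_eq α x
    have h1 : g⁻¹ * t * g ∈ χ.ker := by
      have := (inferInstance : χ.ker.Normal).conj_mem t htker g⁻¹
      rwa [inv_inv] at this
    have h2 : (g⁻¹ * t * g) • α = α := hle h1
    rw [one_smul]
    calc t • g • α = g • ((g⁻¹ * t * g) • α) := by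
          rw [smul_smul, smul_smul]; congr 1; group
      _ = g • α := by rw [h2]
  · rintro ⟨n, hn⟩ hnH ⟨h0, hh0⟩ hh0α hconj
    have hn' : n • α ≠ α := fun h => hnH h
    have e1 : h0 • α = α := hh0α
    have e2 : h0 • (n • α) = n • α := by
      have h3 : (n⁻¹ * h0 * n) • α = α := hconj
      calc h0 • n • α = n • ((n⁻¹ * h0 * n) • α) := by
            rw [smul_smul, smul_smul]; congr 1; group
        _ = n • α := by rw [h3]
    by_contra hne
    have hh1 : h0 ≠ 1 := fun h => hne (Subtype.ext h)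
    have hχn : χ n = 1 := hn
    -- an element of prime order
    obtain ⟨p, hp, hpd⟩ := Nat.exists_prime_and_dvd (n := orderOf h0) (by rwa [Ne, orderOf_eq_one_iff])
    obtain ⟨c, hc⟩ := hpd
    have hc0 : 0 < c := Nat.pos_of_ne_zero (fun h => by
      rw [h, mul_zero] at hc
      exact (orderOf_pos h0).ne' hc)
    obtain ⟨v, hv⟩ : ∃ v, v = h0 ^ c := ⟨_, rfl⟩
    have hvo : orderOf v = p := by
      rw [hv, orderOf_pow, hc, Nat.gcd_eq_right ⟨p, mul_comm _ _⟩]
      exact Nat.mul_div_cancel _ hc0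
    have hv1 : v ≠ 1 := by
      intro h
      rw [h, orderOf_one] at hvo
      exact hp.one_lt.ne hvo
    have hvα : v • α = α := by
      have : h0 ^ c ∈ stabilizer G α := Subgroup.pow_mem _ e1 c
      rw [hv]; exact this
    have hvγ : v • (n • α) = n • α := by
      have : h0 ^ c ∈ stabilizer G (n • α) := Subgroup.pow_mem _ e2 c
      rw [hv]; exact this
    have hχmem : ∀ x y : G, x • α = y • α → χ x = χ y := by
      intro x y hxy
      have : χ (y⁻¹ * x) = 1 := hker _ α (by rw [mul_smul, hxy, inv_smul_smul])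
      rw [map_mul, map_inv, inv_mul_eq_one] at this
      exact this.symm
    by_cases hp2 : p = 2
    · subst hp2
      obtain ⟨x, hxP, hxα, -⟩ := h2el v ⟨1, by rw [hvo, pow_one]⟩ α hvα hv1
      have hxβ := hTβ _ hxP hxα
      have g1 : v • (x • α) = x • α := by
        calc v • x • α = x • ((x⁻¹ * v * x) • α) := by
              rw [smul_smul, smul_smul]; congr 1; group
          _ = x • α := by rw [hxα]
      have g2 : v • (x • β) = x • β := by
        calc v • x • β = x • ((x⁻¹ * v * x) • β) := by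
              rw [smul_smul, smul_smul]; congr 1; group
          _ = x • β := by rw [hxβ]
      have f1 := hF v hv1 α (n • α) (x • α) hn'.symm hvα hvγ g1
      have f2' := hF v hv1 α (n • α) (x • β) hn'.symm hvα hvγ g2
      have k1 : χ x = 1 := by
        rcases f1 with h | h
        · have := hχmem x 1 (by rw [h, one_smul])
          rwa [map_one] at this
        · have := hχmem x n h
          rwa [hχn] at this
      have k2 : χ (x * s) = 1 := by
        rcases f2' with h | h
        · have := hχmem (x * s) 1 (by rw [mul_smul, hsα, h, one_smul])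
          rwa [map_one] at this
        · have := hχmem (x * s) n (by rw [mul_smul, hsα, h])
          rwa [hχn] at this
      rw [map_mul, k1, one_mul] at k2
      exact hχs k2
    · have fp : Fact p.Prime := ⟨hp⟩
      have hpv : IsPGroup p (Subgroup.zpowers v) := by
        apply IsPGroup.of_card (n := 1)
        rw [Nat.card_zpowers, hvo, pow_one]
      obtain ⟨Q, hQ⟩ := hpv.exists_le_sylow
      have hvQ : v ∈ (Q : Subgroup G) := hQ (Subgroup.mem_zpowers v)
      -- odd order elements preserving a pair fix both points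
      have hodd : ∀ u ∈ (Q : Subgroup G), ∀ z : G, z ≠ 1 → z • α = α → z • (n • α) = n • α → u * z = z * u →
          u • α = α ∧ u • (n • α) = n • α := by
        intro u hu z hz1 hzα hzγ huz
        have r1 : u • α = α ∨ u • α = n • α := hF z hz1 α (n • α) _ hn'.symm hzα hzγ (by
          rw [smul_smul, ← huz, ← smul_smul, hzα])
        have r2 : u • (n • α) = α ∨ u • (n • α) = n • α := hF z hz1 α (n • α) _ hn'.symm hzα hzγ (by
          rw [smul_smul, ← huz, ← smul_smul, hzγ])
        obtain ⟨k, hk⟩ := IsPGroup.iff_orderOf.1 Q.2 ⟨u, hu⟩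
        rw [Subgroup.orderOf_mk] at hk
        have hoddu : Odd (orderOf u) := by
          rw [hk]
          exact (hp.odd_of_ne_two hp2).pow
        rcases r1 with r1 | r1
        · refine ⟨r1, ?_⟩
          rcases r2 with r2 | r2
          · exfalso
            exact hn' (smul_left_cancel u (r2.trans r1.symm))
          · exact r2
        · exfalso
          have r2' : u • (n • α) = α := by
            rcases r2 with r2 | r2
            · exact r2
            · exact absurd (smul_left_cancel u (r2.trans r1.symm)) hn'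
          have hpow : ∀ j : ℕ, u ^ (2 * j + 1) • α = n • α := by
            intro j
            induction j with
            | zero => simpa using r1
            | succ j ih =>
              rw [show 2 * (j + 1) + 1 = 2 + (2 * j + 1) by ring, pow_add, mul_smul, ih, pow_two, mul_smul, r2', r1]
          obtain ⟨j, hj⟩ := hoddu
          have h3 := hpow j
          rw [← hj, pow_orderOf_eq_one, one_smul] at h3
          exact hn' h3.symm
      -- a central element of `Q` fixing both points
      have hQne : (⊤ : Subgroup (Q : Subgroup G)) ≠ ⊥ := by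
        intro h
        have : (⟨v, hvQ⟩ : (Q : Subgroup G)) ∈ (⊤ : Subgroup (Q : Subgroup G)) := trivial
        rw [h] at this
        exact hv1 (congrArg Subtype.val this)
      obtain ⟨z, -, hz1, hzc⟩ := UniqueInvolution.exists_central_of_normal Q.2 ⊤ hQne
      have hz1' : (z : G) ≠ 1 := fun h => hz1 (Subtype.ext h)
      obtain ⟨hzα, hzγ⟩ := hodd z z.2 v hv1 hvα hvγ (congrArg Subtype.val (hzc ⟨v, hvQ⟩)).symm
      have hQfix : ∀ u ∈ (Q : Subgroup G), u • α = α ∧ u • (n • α) = n • α := by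
        intro u hu
        exact hodd u hu z hz1' hzα hzγ (congrArg Subtype.val (hzc ⟨u, hu⟩))
      have hQker : (Q : Subgroup G) ≤ χ.ker := fun u hu => hker u α (hQfix u hu).1
      have hfr := Sylow.normalizer_sup_eq_top' Q hQker
      -- write `s = u * k`
      have hsmem : s ∈ Subgroup.normalizer ((Q : Subgroup G) : Set G) ⊔ χ.ker := by
        have : s ∈ (⊤ : Subgroup G) := trivial
        rw [← hfr] at this
        exact this
      obtain ⟨u, hu, k, hk, huk⟩ := Subgroup.mem_sup_of_normal_right.1 hsmem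
      have hχu : χ u ≠ 1 := by
        intro h
        apply hχs
        rw [← huk, map_mul, h, one_mul]
        exact hk
      -- `u⁻¹` maps `α` into the fixed points of `Q`
      have huα : v • (u • α) = u • α := by
        have h3 : u⁻¹ * v * u ∈ (Q : Subgroup G) := by
          have := (Subgroup.mem_normalizer_iff''.1 hu v).1 hvQ
          exact this
        have h4 := (hQfix _ h3).1
        calc v • u • α = u • ((u⁻¹ * v * u) • α) := by
              rw [smul_smul, smul_smul]; congr 1; group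
          _ = u • α := by rw [h4]
      rcases hF v hv1 α (n • α) _ hn'.symm hvα hvγ huα with h | h
      · have := hχmem u 1 (by rw [h, one_smul])
        rw [map_one] at this
        exact hχu this
      · have := hχmem u n h
        rw [hχn] at this
        exact hχu this

/-- A group of order four with two distinct involutions is dihedral. -/
theorem dihedral_of_four {P : Type*} [Group P] [Finite P] (h4 : Nat.card P = 4) {t u : P} (ht : t * t = 1) (ht1 : t ≠ 1)
    (hu : u * u = 1) (hu1 : u ≠ 1) (htu : t ≠ u) : Nonempty (P ≃* DihedralGroup 2) := by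
  classical
  have f2 : Fact (Nat.Prime 2) := ⟨Nat.prime_two⟩
  have hab := IsPGroup.commutative_of_card_eq_prime_sq (p := 2) (G := P) (by rw [h4]; norm_num)
  have hft : Fintype P := Fintype.ofFinite P
  have hall : ∀ x : P, x = 1 ∨ x = t ∨ x = u ∨ x = t * u := by
    have h1 : ({1, t, u, t * u} : Finset P).card = 4 := by
      have e1 : t * u ≠ 1 := fun h => htu (by
        have := mul_eq_one_iff_eq_inv.1 h
        rw [this]; exact inv_eq_of_mul_eq_one_left hu)
      have e2 : t * u ≠ t := fun h => hu1 (mul_eq_left.1 h)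
      have e3 : t * u ≠ u := fun h => ht1 (mul_eq_right.1 h)
      rw [Finset.card_insert_of_notMem, Finset.card_insert_of_notMem, Finset.card_insert_of_notMem,
        Finset.card_singleton]
      · simpa using e3.symm
      · simp [htu, e2.symm]
      · simp [ht1.symm, hu1.symm, e1.symm]
    have h2 : ({1, t, u, t * u} : Finset P) = Finset.univ := by
      rw [← Finset.card_eq_iff_eq_univ, h1, ← Nat.card_eq_fintype_card, h4]
    intro x
    have : x ∈ ({1, t, u, t * u} : Finset P) := by rw [h2]; exact Finset.mem_univ _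
    simpa using this
  have hsq : ∀ x : P, x * x = 1 := by
    intro x
    rcases hall x with rfl | rfl | rfl | rfl
    · simp
    · exact ht
    · exact hu
    · calc t * u * (t * u) = t * (u * t) * u := by group
        _ = t * (t * u) * u := by rw [hab u t]
        _ = (t * t) * (u * u) := by group
        _ = 1 := by rw [ht, hu, one_mul]
  have hk : IsKleinFour P := by
    refine ⟨h4, ?_⟩
    apply Nat.dvd_antisymm
    · rw [Monoid.exponent_dvd_iff_forall_pow_eq_one]
      intro x; rw [sq]; exact hsq x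
    · have := Monoid.order_dvd_exponent t
      rwa [orderOf_eq_prime (by rw [sq]; exact ht) ht1] at this
  exact IsKleinFour.nonempty_mulEquiv

theorem final {G : Type*} [Group G] [Finite G] {Ω : Type*} [Fintype Ω] [MulAction G Ω] [FaithfulSMul G Ω]
    (htr : MulAction.IsPretransitive G Ω)
    (hfix : ∀ g : G, g ≠ 1 → Nat.card (MulAction.fixedBy Ω g) ≤ 2) (α : Ω) (S : Sylow 2 G) :
    (S : Subgroup G) ⊓ MulAction.stabilizer G α = ⊥ ∨
    (((∃ n : ℕ, Nonempty (↥(S : Subgroup G) ≃* DihedralGroup n)) ∨ Cfsg.IsQuasiDihedral ↥(S : Subgroup G)) ∧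
       (Nat.card ↥((S : Subgroup G) ⊓ MulAction.stabilizer G α) = 2 ∨ ((S : Subgroup G) ⊓ MulAction.stabilizer G α).relIndex (S : Subgroup G) = 2)) ∨
    (4 ≤ Nat.card (S : Subgroup G) ∧
       (∃ ω : Ω, Nat.card (MulAction.orbit ↥(S : Subgroup G) ω) = 2 ∧
          ∀ ω' : Ω, ω' ∉ MulAction.orbit ↥(S : Subgroup G) ω → Nat.card (MulAction.orbit ↥(S : Subgroup G) ω') = Nat.card (S : Subgroup G)) ∧
       ∃ N : Subgroup G, N.Normal ∧ (N.index = 2 ∨ N.index = Nat.card (S : Subgroup G)) ∧ (∃ H : Subgroup ↥N, Cfsg.IsFrobeniusComplement H)) ∨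
    (S : Subgroup G) ≤ MulAction.stabilizer G α := by
  classical
  have f2 : Fact (Nat.Prime 2) := ⟨Nat.prime_two⟩
  have hF : Fix2 G Ω := fix2_of_card hfix
  by_cases hT : (S : Subgroup G) ⊓ stabilizer G α = ⊥
  · exact Or.inl hT
  by_cases hS : (S : Subgroup G) ≤ stabilizer G α
  · exact Or.inr (Or.inr (Or.inr hS))
  right
  obtain ⟨β, hβα, hTβ, hcase⟩ := point hF S S.2 α hT hS
  rcases hcase with ⟨h2, hd⟩ | ⟨horb, s, hs, hsα, hsβ⟩
  · left
    exact ⟨hd, Or.inl h2⟩
  -- index two
  have hidx : ((S : Subgroup G) ⊓ stabilizer G α).relIndex (S : Subgroup G) = 2 := by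
    show (((S : Subgroup G) ⊓ stabilizer G α).subgroupOf (S : Subgroup G)).index = 2
    rw [Subgroup.index_eq_two_iff]
    refine ⟨⟨s, hs⟩, ?_⟩
    rintro ⟨b, hb⟩
    have hmem : ∀ u (hu : u ∈ (S : Subgroup G)), (⟨u, hu⟩ : (S : Subgroup G)) ∈
        ((S : Subgroup G) ⊓ stabilizer G α).subgroupOf (S : Subgroup G) ↔ u • α = α := by
      intro u hu
      constructor
      · intro h; exact h.2
      · intro h; exact ⟨hu, h⟩
    have hbs : (⟨b, hb⟩ * ⟨s, hs⟩ : (S : Subgroup G)) = ⟨b * s, (S : Subgroup G).mul_mem hb hs⟩ := rfl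
    rw [hbs, hmem, hmem, mul_smul, hsα]
    rcases horb b hb with h | h
    · right
      refine ⟨h, ?_⟩
      rw [hTβ b hb h]; exact hβα
    · left
      refine ⟨?_, ?_⟩
      · have h1 : (s * b) • α = α := by rw [mul_smul, h, hsβ]
        have h3 := hTβ _ ((S : Subgroup G).mul_mem hs hb) h1
        rw [mul_smul] at h3
        exact smul_left_cancel s (h3.trans hsα.symm)
      · rw [h]; exact hβα
  obtain ⟨t, htT, ht1⟩ : ∃ t ∈ (S : Subgroup G) ⊓ stabilizer G α, t ≠ 1 := by
    obtain ⟨t, ht⟩ := Subgroup.ne_bot_iff_exists_ne_one.1 hT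
    exact ⟨t, t.2, fun h => ht (Subtype.ext h)⟩
  have hcardS : Nat.card ↥((S : Subgroup G) ⊓ stabilizer G α) * 2 = Nat.card (S : Subgroup G) := by
    have h := (((S : Subgroup G) ⊓ stabilizer G α).subgroupOf (S : Subgroup G)).card_mul_index
    rw [Nat.card_congr (Subgroup.subgroupOfEquivOfLe inf_le_left).toEquiv] at h
    have h' : (((S : Subgroup G) ⊓ stabilizer G α).subgroupOf (S : Subgroup G)).index = 2 := hidx
    rw [h'] at h
    exact h
  have hcardT : 2 ≤ Nat.card ↥((S : Subgroup G) ⊓ stabilizer G α) := by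
    have hnt : Nontrivial ↥((S : Subgroup G) ⊓ stabilizer G α) := (Subgroup.nontrivial_iff_ne_bot _).2 hT
    exact Finite.one_lt_card
  by_cases hγ : ∃ γ, γ ≠ α ∧ γ ≠ β ∧ (S : Subgroup G) ⊓ stabilizer G γ ≠ ⊥
  · left
    refine ⟨?_, Or.inr hidx⟩
    obtain ⟨γ, hγα, hγβ, hTγ⟩ := hγ
    have hSγ : ¬ (S : Subgroup G) ≤ stabilizer G γ := by
      intro h
      exact ht1 (eq_one_of_three hF hβα.symm hγα hγβ htT.2 (hTβ t htT.1 htT.2) (h htT.1))
    have hdisj : ∀ x, x ∈ (S : Subgroup G) → x • α = α → x • γ = γ → x = 1 := fun x hx h1 h2 =>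
      eq_one_of_three hF hβα.symm hγα hγβ h1 (hTβ x hx h1) h2
    obtain ⟨δ, hδγ, hTδ, hcase'⟩ := point hF S S.2 γ hTγ hSγ
    rcases hcase' with ⟨-, hd⟩ | ⟨horb', s', hs', hsγ', hsδ'⟩
    · exact hd
    -- `S` is a four-group
    obtain ⟨u, huT, hu1⟩ : ∃ t ∈ (S : Subgroup G) ⊓ stabilizer G γ, t ≠ 1 := by
      obtain ⟨t, ht⟩ := Subgroup.ne_bot_iff_exists_ne_one.1 hTγ
      exact ⟨t, t.2, fun h => ht (Subtype.ext h)⟩
    -- `|T| ≤ 2`
    have hTle : ∀ x y, x ∈ (S : Subgroup G) ⊓ stabilizer G α → y ∈ (S : Subgroup G) ⊓ stabilizer G α →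
        x ≠ 1 → y ≠ 1 → x = y := by
      intro x y hx hy hx1 hy1
      -- both move `γ` to `δ`
      have hmv : ∀ x, x ∈ (S : Subgroup G) ⊓ stabilizer G α → x ≠ 1 → x • γ = δ := by
        intro x hx hx1
        rcases horb' x hx.1 with h | h
        · exact absurd (hdisj x hx.1 hx.2 h) hx1
        · exact h
      have h1 := hmv x hx hx1
      have h2 := hmv y hy hy1
      have h3 : (x⁻¹ * y) • γ = γ := by rw [mul_smul, h2, ← h1, inv_smul_smul]
      have hxy := ((S : Subgroup G) ⊓ stabilizer G α).mul_mem (((S : Subgroup G) ⊓ stabilizer G α).inv_mem hx) hy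
      exact inv_mul_eq_one.1 (hdisj _ hxy.1 hxy.2 h3)
    have hT2 : Nat.card ↥((S : Subgroup G) ⊓ stabilizer G α) = 2 := by
      rw [Nat.card_eq_two_iff]
      refine ⟨1, ⟨t, htT⟩, fun h => ht1 (congrArg Subtype.val h).symm, ?_⟩
      rw [Set.eq_univ_iff_forall]
      rintro ⟨x, hx⟩
      by_cases h1 : x = 1
      · left; exact Subtype.ext h1
      · right; exact Subtype.ext (hTle x t hx htT h1 ht1)
    have hS4 : Nat.card (S : Subgroup G) = 4 := by rw [← hcardS, hT2]
    have httt : t * t = 1 := by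
      by_contra h
      have := hTle _ t (((S : Subgroup G) ⊓ stabilizer G α).mul_mem htT htT) htT h ht1
      exact ht1 (mul_eq_left.1 this)
    -- `u` has order two
    have huu : u * u = 1 := by
      by_contra h
      -- then `u` generates `S`
      have hm : ∀ x, x ∈ (S : Subgroup G) ⊓ stabilizer G γ → x ≠ 1 → x • α = β := by
        intro x hx hx1
        rcases horb x hx.1 with h' | h'
        · exact absurd (hdisj x hx.1 h' hx.2) hx1
        · exact h'
      have k1 := hm u huT hu1
      have k2 := hm (u * u) (((S : Subgroup G) ⊓ stabilizer G γ).mul_mem huT huT) h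
      rw [mul_smul, k1] at k2
      have k3 : (s * u) • α = α := by rw [mul_smul, k1, hsβ]
      have k4 := hTβ _ ((S : Subgroup G).mul_mem hs huT.1) k3
      rw [mul_smul, k2, hsβ] at k4
      exact hβα k4.symm
    left
    refine ⟨2, dihedral_of_four hS4 (t := ⟨t, htT.1⟩) (u := ⟨u, huT.1⟩) (Subtype.ext httt)
      (fun h => ht1 (congrArg Subtype.val h)) (Subtype.ext huu) (fun h => hu1 (congrArg Subtype.val h)) ?_⟩
    intro h
    have h' : t = u := congrArg Subtype.val h
    rw [← h'] at huT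
    exact ht1 (hdisj t htT.1 htT.2 huT.2)
  · right; left
    push Not at hγ
    have hfree : ∀ γ : Ω, γ ≠ α → γ ≠ β → ∀ u ∈ (S : Subgroup G), u • γ = γ → u = 1 := by
      intro γ h1 h2 u hu hu'
      have h3 := hγ γ h1 h2
      have h4 : u ∈ (S : Subgroup G) ⊓ stabilizer G γ := ⟨hu, hu'⟩
      rw [h3] at h4
      exact h4
    have hS4 : 4 ≤ Nat.card (S : Subgroup G) := by omega
    refine ⟨hS4, ⟨α, ?_, ?_⟩, ?_⟩
    · have horbeq : MulAction.orbit ↥(S : Subgroup G) α = {α, β} := by
        ext x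
        constructor
        · rintro ⟨⟨u, hu⟩, rfl⟩
          exact horb u hu
        · rintro (rfl | rfl)
          · exact mem_orbit_self _
          · exact ⟨⟨s, hs⟩, hsα⟩
      rw [horbeq, Nat.card_coe_set_eq, Set.ncard_pair hβα.symm]
    · intro γ hγo
      have h1 : γ ≠ α := by
        rintro rfl; exact hγo (mem_orbit_self _)
      have h2 : γ ≠ β := by
        rintro rfl; exact hγo ⟨⟨s, hs⟩, hsα⟩
      have h3 : MulAction.stabilizer ↥(S : Subgroup G) γ = ⊥ := by
        rw [eq_bot_iff]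
        rintro ⟨u, hu⟩ h
        exact Subtype.ext (hfree γ h1 h2 u hu h)
      have h4 := Nat.card_congr (MulAction.orbitEquivQuotientStabilizer ↥(S : Subgroup G) γ)
      rw [h4, h3]
      exact Nat.card_congr (QuotientGroup.quotientBot (G := ↥(S : Subgroup G))).toEquiv
    · obtain ⟨χ, hχ⟩ : ∃ χ : G →* ℤˣ, ∀ u ∈ (S : Subgroup G), χ u = 1 ↔ u • α = α := by
        by_cases hc : IsCyclic (S : Subgroup G)
        · obtain ⟨χ, hχ⟩ := exists_chi_cyclic S hc _ inf_le_left hidx hS4
          refine ⟨χ, fun u hu => ?_⟩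
          rw [hχ u hu]
          exact ⟨fun h => h.2, fun h => ⟨hu, h⟩⟩
        · exact exists_chi_noncyclic S hc hβα hTβ horb hs hsα hsβ hfree
      obtain ⟨k1, k2⟩ := frobenius htr hF S hβα ⟨t, htT.1, ht1, htT.2⟩ hTβ horb hs hsα hsβ hfree χ hχ
      exact ⟨χ.ker, inferInstance, Or.inl k1, k2⟩

end Cfsg.Agent.Lib.H56FixTwo
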