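import Mathlib
import Cfsg.Agent.Lib.MinNonNilp

set_option autoImplicit false

/-! Schmidt automorphisms: an automorphism `y` of prime order `q` of a finite `p`-group `P` which
centralizes every proper `y`-invariant subgroup (S4394, S4395). -/

namespace Cfsg.Agent.Lib.H56Schmidt

open Subgroup

open scoped commutatorElement

/-- `y` is an automorphism of the `p`-group `P`, of prime order `q ≠ p`, which is trivial on each proper
`y`-invariant subgroup. -/
structure Schmidt (p q : ℕ) {P : Type*} [Group P] (y : MulAut P) : Prop where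
  hp : p.Prime
  hq : q.Prime
  hpq : p ≠ q
  isP : IsPGroup p P
  yq : y ^ q = 1
  y1 : y ≠ 1
  cent : ∀ R : Subgroup P, R ≠ ⊤ → (∀ x ∈ R, y x ∈ R) → ∀ x ∈ R, y x = x

namespace Schmidt

variable {p q : ℕ} {P : Type*} [Group P] {y : MulAut P}

theorem eq_one_of_pow (h : Schmidt p q y) {c : P} (hc : c ^ q = 1) : c = 1 := by
  obtain ⟨k, hk⟩ := h.isP c
  rw [← orderOf_eq_one_iff]
  have h1 : orderOf c ∣ q := orderOf_dvd_of_pow_eq_one hc
  have h2 : orderOf c ∣ p ^ k := orderOf_dvd_of_pow_eq_one hk
  exact Nat.eq_one_of_dvd_coprimes (Nat.Coprime.pow_left k ((Nat.coprime_primes h.hp h.hq).2 h.hpq)) h2 h1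

/-- if `y x = x c` with `c` fixed then `c = 1`. -/
theorem eq_one_of_eq_mul (h : Schmidt p q y) {x c : P} (h1 : y x = x * c) (h2 : y c = c) : c = 1 := by
  have h3 : ∀ k : ℕ, (y ^ k) x = x * c ^ k := by
    intro k
    induction k with
    | zero => simp
    | succ k ih =>
      rw [pow_succ', MulAut.mul_apply, ih, map_mul, h1, map_pow, h2, pow_succ', mul_assoc]
  apply h.eq_one_of_pow
  have h4 := h3 q
  rw [h.yq, MulAut.one_apply] at h4
  exact (left_eq_mul.1 h4)

theorem closure_eq_top (h : Schmidt p q y) : Subgroup.closure (Set.range fun x => x⁻¹ * y x) = ⊤ := by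
  by_contra hne
  have hinv : ∀ x ∈ Subgroup.closure (Set.range fun x => x⁻¹ * y x),
      y x ∈ Subgroup.closure (Set.range fun x => x⁻¹ * y x) := by
    intro x hx
    have h1 : Subgroup.closure (Set.range fun x => x⁻¹ * y x) ≤
        (Subgroup.closure (Set.range fun x => x⁻¹ * y x)).comap y.toMonoidHom := by
      rw [Subgroup.closure_le]
      rintro _ ⟨z, rfl⟩
      apply Subgroup.subset_closure
      refine ⟨y z, ?_⟩
      show (y z)⁻¹ * y (y z) = y (z⁻¹ * y z)
      rw [map_mul, map_inv]
    exact h1 hx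
  have h2 := h.cent _ hne hinv
  apply h.y1
  ext x
  rw [MulAut.one_apply]
  have h3 : y (x⁻¹ * y x) = x⁻¹ * y x := h2 _ (Subgroup.subset_closure ⟨x, rfl⟩)
  have h4 : x⁻¹ * y x = 1 := h.eq_one_of_eq_mul (x := x) (by group) h3
  calc y x = x * (x⁻¹ * y x) := by group
    _ = x := by rw [h4, mul_one]

/-- a proper normal `y`-invariant subgroup is central. -/
theorem le_center (h : Schmidt p q y) {R : Subgroup P} (hn : R.Normal) (hR : R ≠ ⊤) (hi : ∀ x ∈ R, y x ∈ R) :
    R ≤ center P := by
  have hc := h.cent R hR hi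
  have h1 : (⊤ : Subgroup P) ≤ centralizer (R : Set P) := by
    rw [← h.closure_eq_top, Subgroup.closure_le]
    rintro _ ⟨x, rfl⟩
    rw [SetLike.mem_coe, mem_centralizer_iff]
    intro r hr
    have h2 : x * r * x⁻¹ ∈ R := hn.conj_mem r hr x
    have h3 := hc _ h2
    rw [map_mul, map_mul, map_inv, hc r hr] at h3
    show r * (x⁻¹ * y x) = x⁻¹ * y x * r
    have h4 : y x * r = x * r * x⁻¹ * y x := by rw [← h3]; group
    rw [mul_assoc, h4]
    group
  intro r hr
  rw [mem_center_iff]
  intro g
  exact (mem_centralizer_iff.1 (h1 (mem_top g)) r hr).symm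

/-- transport. -/
theorem congr (h : Schmidt p q y) {P' : Type*} [Group P'] (e : P' ≃* P) :
    Schmidt p q (((e.trans y).trans e.symm : P' ≃* P') : MulAut P') := by
  have hv : ∀ x, (((e.trans y).trans e.symm : P' ≃* P') : MulAut P') x = e.symm (y (e x)) := fun x => rfl
  have hk : ∀ (k : ℕ) (x : P'), ((((e.trans y).trans e.symm : P' ≃* P') : MulAut P') ^ k) x = e.symm ((y ^ k) (e x)) := by
    intro k
    induction k with
    | zero => intro x; simp
    | succ k ih =>
      intro x
      rw [pow_succ', MulAut.mul_apply, ih, hv, e.apply_symm_apply, pow_succ', MulAut.mul_apply]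
  refine ⟨h.hp, h.hq, h.hpq, ?_, ?_, ?_, ?_⟩
  · exact h.isP.of_equiv e.symm
  · ext x
    rw [hk, h.yq, MulAut.one_apply, MulAut.one_apply, e.symm_apply_apply]
  · intro h1
    apply h.y1
    ext x
    have h2 := DFunLike.congr_fun h1 (e.symm x)
    rw [hv, MulAut.one_apply, e.apply_symm_apply] at h2
    rw [MulAut.one_apply]
    exact e.symm.injective h2
  · intro R hR hi x hx
    rw [hv]
    have h1 := h.cent (R.map e.toMonoidHom) (by
      intro h2
      apply hR
      rw [eq_top_iff]
      intro z _
      have h3 : e z ∈ R.map e.toMonoidHom := by rw [h2]; trivial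
      obtain ⟨w, hw, hwz⟩ := h3
      rwa [← e.injective hwz]) (by
      rintro _ ⟨w, hw, rfl⟩
      refine ⟨_, hi w hw, ?_⟩
      show e (e.symm (y (e w))) = y (e w)
      rw [e.apply_symm_apply]) (e x) ⟨x, hx, rfl⟩
    rw [h1, e.symm_apply_apply]

variable [Finite P]

theorem nontrivial (h : Schmidt p q y) : Nontrivial P := by
  by_contra hcon
  rw [not_nontrivial_iff_subsingleton] at hcon
  apply h.y1
  ext x
  exact Subsingleton.elim _ _

theorem commutator_ne_top (h : Schmidt p q y) : commutator P ≠ ⊤ := by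
  haveI := Fact.mk h.hp
  haveI := h.nontrivial
  haveI : Group.IsNilpotent P := h.isP.isNilpotent
  intro h1
  have hs : Group.IsSolvable P := inferInstance
  exact absurd h1 (IsSolvable.commutator_lt_top_of_nontrivial P).ne

theorem commutator_le_center (h : Schmidt p q y) : commutator P ≤ center P := by
  apply h.le_center inferInstance h.commutator_ne_top
  intro x hx
  have h1 : (commutator P).map y.toMonoidHom = commutator P := by
    rw [commutator_def, map_commutator, Subgroup.map_top_of_surjective _ y.surjective]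
  rw [← h1]
  exact ⟨x, hx, rfl⟩

theorem center_inv (y : MulAut P) : ∀ x ∈ center P, y x ∈ center P := by
  intro x hx
  rw [mem_center_iff] at hx ⊢
  intro g
  obtain ⟨g, rfl⟩ := y.surjective g
  rw [← map_mul, hx, map_mul]

theorem center_ne_top (hna : ¬ ∀ a b : P, a * b = b * a) : center P ≠ ⊤ := by
  intro h
  apply hna
  intro a b
  have : b ∈ center P := by rw [h]; trivial
  exact (mem_center_iff.1 this a)

theorem fix_center (h : Schmidt p q y) (hna : ¬ ∀ a b : P, a * b = b * a) {x : P} (hx : x ∈ center P) : y x = x :=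
  h.cent _ (center_ne_top hna) (center_inv y) x hx

theorem le_center_of_center_le (h : Schmidt p q y) {R : Subgroup P} (hR : R ≠ ⊤) (hZ : center P ≤ R)
    (hi : ∀ x ∈ R, y x ∈ R) : R ≤ center P := by
  refine h.le_center ⟨?_⟩ hR hi
  intro r hr x
  have h1 : x * r * x⁻¹ = ⁅x, r⁆ * r := by rw [commutatorElement_def]; group
  rw [h1]
  exact R.mul_mem (hZ (h.commutator_le_center (commutator_mem_commutator (mem_top _) (mem_top _)))) hr

theorem comm_mem (h : Schmidt p q y) (a b : P) : ⁅a, b⁆ ∈ center P :=
  h.commutator_le_center (commutator_mem_commutator (mem_top _) (mem_top _))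

/-- bilinearity. -/
theorem comm_mul_right (h : Schmidt p q y) (u a b : P) : ⁅u, a * b⁆ = ⁅u, a⁆ * ⁅u, b⁆ := by
  have h1 : ⁅u, a * b⁆ = ⁅u, a⁆ * (a * ⁅u, b⁆ * a⁻¹) := by
    simp only [commutatorElement_def]; group
  rw [h1, mem_center_iff.1 (h.comm_mem u b) a, mul_inv_cancel_right]

theorem comm_mul_left (h : Schmidt p q y) (u a b : P) : ⁅a * b, u⁆ = ⁅a, u⁆ * ⁅b, u⁆ := by
  have h1 : ⁅a * b, u⁆ = a * ⁅b, u⁆ * a⁻¹ * ⁅a, u⁆ := by
    simp only [commutatorElement_def]; group
  rw [h1, mem_center_iff.1 (h.comm_mem b u) a, mul_inv_cancel_right]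
  exact (mem_center_iff.1 (h.comm_mem b u) _).symm

/-- the homomorphism `x ↦ [u, x]`. -/
def commHom (h : Schmidt p q y) (u : P) : P →* P where
  toFun x := ⁅u, x⁆
  map_one' := by simp
  map_mul' a b := h.comm_mul_right u a b

theorem commHom_apply (h : Schmidt p q y) (u x : P) : h.commHom u x = ⁅u, x⁆ := rfl

/-- for a noncentral `u` every element of `P'` is a commutator `[u, x]`. -/
theorem exists_comm (h : Schmidt p q y) (hna : ¬ ∀ a b : P, a * b = b * a) {u : P} (hu : u ∉ center P) :
    ∀ c ∈ commutator P, ∃ x, ⁅u, x⁆ = c := by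
  have hfix : ∀ c ∈ (h.commHom u).range, y c = c := by
    rintro _ ⟨x, rfl⟩
    exact h.fix_center hna (h.comm_mem u x)
  let R : Subgroup P :=
    { carrier := {x | ∀ z, ⁅x, z⁆ ∈ (h.commHom u).range}
      one_mem' := by
        intro z
        rw [commutatorElement_one_left]
        exact one_mem _
      mul_mem' := by
        intro a b ha hb z
        rw [h.comm_mul_left]
        exact mul_mem (ha z) (hb z)
      inv_mem' := by
        intro a ha z
        have h1 : ⁅a⁻¹, z⁆ = ⁅a, z⁆⁻¹ := by
          rw [eq_inv_iff_mul_eq_one, ← h.comm_mul_left, inv_mul_cancel, commutatorElement_one_left]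
        rw [h1]
        exact inv_mem (ha z) }
  have hZR : center P ≤ R := by
    intro z hz w
    have h1 : ⁅z, w⁆ = 1 := by
      rw [commutatorElement_eq_one_iff_mul_comm]
      exact (mem_center_iff.1 hz w).symm
    rw [h1]
    exact one_mem _
  have hi : ∀ x ∈ R, y x ∈ R := by
    intro x hx z
    obtain ⟨z, rfl⟩ := y.surjective z
    rw [← map_commutatorElement, hfix _ (hx z)]
    exact hx z
  have htop : R = ⊤ := by
    by_contra hne
    apply hu
    apply h.le_center_of_center_le hne hZR hi
    intro z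
    exact ⟨z, rfl⟩
  have h2 : commutator P ≤ (h.commHom u).range := by
    rw [commutator_def, commutator_le]
    intro a _ b _
    have : a ∈ R := by rw [htop]; trivial
    exact this b
  intro c hc
  exact h2 hc

/-- `Z(P) = P'`. -/
theorem center_eq (h : Schmidt p q y) (hna : ¬ ∀ a b : P, a * b = b * a) : center P = commutator P := by
  apply le_antisymm _ h.commutator_le_center
  intro z hz
  let π := Abelianization.of (G := P)
  let ψ : P →* Abelianization P := (π)⁻¹ * (π.comp y.toMonoidHom)
  have hψ : ∀ x, ψ x = π (x⁻¹ * y x) := by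
    intro x
    rw [map_mul, map_inv]
    rfl
  have h1 : (⊤ : Subgroup P) ≤ ψ.range.comap π := by
    rw [← h.closure_eq_top, Subgroup.closure_le]
    rintro _ ⟨x, rfl⟩
    exact ⟨x, hψ x⟩
  obtain ⟨x, hx⟩ := h1 (mem_top z)
  rw [hψ] at hx
  have h2 : (x⁻¹ * y x)⁻¹ * z ∈ commutator P := by
    rw [← Abelianization.ker_of, MonoidHom.mem_ker, map_mul, map_inv]
    show (π (x⁻¹ * y x))⁻¹ * π z = 1
    rw [hx, inv_mul_cancel]
  obtain ⟨d, hd⟩ : ∃ d, d = (x⁻¹ * y x)⁻¹ * z := ⟨_, rfl⟩
  rw [← hd] at h2
  have hdZ : d ∈ center P := h.commutator_le_center h2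
  have h3 : y x = x * (z * d⁻¹) := by
    rw [hd]; group
  have h4 : y (z * d⁻¹) = z * d⁻¹ := h.fix_center hna (mul_mem hz (inv_mem hdZ))
  have h5 := h.eq_one_of_eq_mul h3 h4
  rw [mul_inv_eq_one] at h5
  rw [h5]; exact h2

/-- `p`-th powers are central. -/
theorem pow_mem_center (h : Schmidt p q y) (hna : ¬ ∀ a b : P, a * b = b * a) (x : P) : x ^ p ∈ center P := by
  haveI := Fact.mk h.hp
  have hcm : ∀ a b : P ⧸ center P, a * b = b * a := by
    intro a b
    obtain ⟨a, rfl⟩ := QuotientGroup.mk_surjective a
    obtain ⟨b, rfl⟩ := QuotientGroup.mk_surjective b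
    rw [← QuotientGroup.mk_mul, ← QuotientGroup.mk_mul, QuotientGroup.eq]
    have h1 : (a * b)⁻¹ * (b * a) = ⁅b⁻¹, a⁻¹⁆ := by rw [commutatorElement_def]; group
    rw [h1]
    exact h.comm_mem _ _
  let φ : P →* P ⧸ center P :=
    { toFun := fun x => (x : P ⧸ center P) ^ p
      map_one' := by simp
      map_mul' := by
        intro a b
        rw [QuotientGroup.mk_mul]
        exact (show Commute (a : P ⧸ center P) b from hcm _ _).mul_pow p }
  let R : Subgroup P := φ.range.comap (QuotientGroup.mk' (center P))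
  have hZR : center P ≤ R := by
    intro z hz
    refine ⟨1, ?_⟩
    rw [map_one]
    exact ((QuotientGroup.eq_one_iff z).2 hz).symm
  have hi : ∀ x ∈ R, y x ∈ R := by
    rintro x ⟨w, hw⟩
    refine ⟨y w, ?_⟩
    have h1 : ((w ^ p : P) : P ⧸ center P) = (x : P ⧸ center P) := by
      rw [QuotientGroup.mk_pow]; exact hw
    rw [QuotientGroup.eq] at h1
    show (((y w : P) : P ⧸ center P)) ^ p = ((y x : P) : P ⧸ center P)
    rw [← QuotientGroup.mk_pow, QuotientGroup.eq, ← map_pow, ← map_inv, ← map_mul]
    exact center_inv y _ h1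
  have hR : R ≠ ⊤ := by
    intro htop
    -- the power map on `P/Z` is surjective, hence injective
    have hsurj : Function.Surjective (fun a : P ⧸ center P => a ^ p) := by
      intro b
      obtain ⟨b, rfl⟩ := QuotientGroup.mk_surjective b
      have : b ∈ R := by rw [htop]; trivial
      obtain ⟨w, hw⟩ := this
      exact ⟨w, hw⟩
    have hinj := Finite.injective_iff_surjective.2 hsurj
    have hnt : Nontrivial (P ⧸ center P) := by
      rw [← not_subsingleton_iff_nontrivial]
      intro hs
      apply center_ne_top hna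
      rw [eq_top_iff]
      intro g _
      rw [← QuotientGroup.eq_one_iff]
      exact Subsingleton.elim _ _
    have hpd : p ∣ Nat.card (P ⧸ center P) := by
      rcases (h.isP.to_quotient (center P)).card_eq_or_dvd with h1 | h1
      · exact absurd h1 (Finite.one_lt_card.ne')
      · exact h1
    obtain ⟨a, ha⟩ := exists_prime_orderOf_dvd_card' p hpd
    have h1 : a ^ p = (1 : P ⧸ center P) ^ p := by
      rw [one_pow, ← ha]; exact pow_orderOf_eq_one a
    have h2 := hinj h1
    rw [h2, orderOf_one] at ha
    exact h.hp.one_lt.ne ha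
  apply h.le_center_of_center_le hR hZR hi
  exact ⟨x, rfl⟩

theorem mem_center_of_fix (h : Schmidt p q y) (hna : ¬ ∀ a b : P, a * b = b * a) {x : P}
    (hx : x⁻¹ * y x ∈ center P) : x ∈ center P := by
  let R : Subgroup P :=
    { carrier := {w | w⁻¹ * y w ∈ center P}
      one_mem' := by
        show (1 : P)⁻¹ * y 1 ∈ center P
        rw [map_one, inv_one, one_mul]; exact one_mem _
      mul_mem' := by
        intro a b ha hb
        show (a * b)⁻¹ * y (a * b) ∈ center P
        have h1 : (a * b)⁻¹ * y (a * b) = b⁻¹ * (a⁻¹ * y a) * y b := by rw [map_mul]; group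
        have h2 : b⁻¹ * (a⁻¹ * y a) * y b = (a⁻¹ * y a) * (b⁻¹ * y b) := by
          rw [mem_center_iff.1 (show a⁻¹ * y a ∈ center P from ha) b⁻¹, mul_assoc]
        rw [h1, h2]
        exact mul_mem ha hb
      inv_mem' := by
        intro a ha
        show (a⁻¹)⁻¹ * y a⁻¹ ∈ center P
        have h2 : (a⁻¹)⁻¹ * y a⁻¹ = (a⁻¹ * y a)⁻¹ := by
          have h3 := mem_center_iff.1 (show a⁻¹ * y a ∈ center P from ha) (y a)⁻¹
          have h4 : a * (y a)⁻¹ = (y a)⁻¹ * a := by
            have h5 : (y a)⁻¹ * (a⁻¹ * y a) = a⁻¹ := by rw [h3]; group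
            have h6 : (y a)⁻¹ * a⁻¹ = a⁻¹ * (y a)⁻¹ := by
              nth_rewrite 2 [← h5]
              group
            calc a * (y a)⁻¹ = a * ((y a)⁻¹ * a⁻¹) * a := by group
              _ = a * (a⁻¹ * (y a)⁻¹) * a := by rw [h6]
              _ = _ := by group
          rw [map_inv, inv_inv, mul_inv_rev, inv_inv, h4]
        rw [h2]
        exact inv_mem ha }
  have hZR : center P ≤ R := by
    intro z hz
    show z⁻¹ * y z ∈ center P
    exact mul_mem (inv_mem hz) (center_inv y z hz)
  have hi : ∀ x ∈ R, y x ∈ R := by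
    intro x hx
    show (y x)⁻¹ * y (y x) ∈ center P
    rw [← map_inv, ← map_mul]
    exact center_inv y _ hx
  have hR : R ≠ ⊤ := by
    intro htop
    apply center_ne_top hna
    rw [eq_top_iff, ← h.closure_eq_top, Subgroup.closure_le]
    rintro _ ⟨x, rfl⟩
    have : x ∈ R := by rw [htop]; trivial
    exact this
  exact h.le_center_of_center_le hR hZR hi hx

theorem not_mem_zpowers (h : Schmidt p q y) {x : P} (hx : x ∉ center P) :
    y x ∉ zpowers x ⊔ center P := by
  intro hmem
  have hc : zpowers x ⊔ center P ≤ centralizer {x} := by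
    apply sup_le
    · rw [zpowers_le, mem_centralizer_singleton_iff]
    · exact center_le_centralizer _
  have hne : zpowers x ⊔ center P ≠ ⊤ := by
    intro htop
    apply hx
    rw [mem_center_iff]
    intro g
    have : g ∈ centralizer {x} := hc (by rw [htop]; trivial)
    exact mem_centralizer_singleton_iff.1 this
  have hi : ∀ w ∈ zpowers x ⊔ center P, y w ∈ zpowers x ⊔ center P := by
    have h1 : zpowers x ⊔ center P ≤ (zpowers x ⊔ center P).comap y.toMonoidHom := by
      apply sup_le
      · rw [zpowers_le]; exact hmem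
      · intro z hz
        exact le_sup_right (α := Subgroup P) (center_inv y z hz)
    exact fun w hw => h1 hw
  exact hx (h.le_center_of_center_le hne le_sup_right hi (le_sup_left (α := Subgroup P) (mem_zpowers x)))

/-- the induced map on `P / Z(P)`. -/
def bar (y : MulAut P) : P ⧸ center P → P ⧸ center P :=
  QuotientGroup.map (center P) (center P) y.toMonoidHom (fun x hx => center_inv y x hx)

theorem bar_mk (y : MulAut P) (x : P) : bar y (x : P ⧸ center P) = ((y x : P) : P ⧸ center P) := rfl

theorem card_mod (h : Schmidt p q y) (hna : ¬ ∀ a b : P, a * b = b * a) : Nat.card (P ⧸ center P) ≡ 1 [MOD q] := by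
  classical
  haveI := Fact.mk h.hq
  haveI : Fintype (P ⧸ center P) := Fintype.ofFinite _
  let f : Function.End (P ⧸ center P) := bar y
  have hk : ∀ (k : ℕ) (x : P), (f ^ k) (x : P ⧸ center P) = (((y ^ k) x : P) : P ⧸ center P) := by
    intro k
    induction k with
    | zero => intro x; rfl
    | succ k ih =>
      intro x
      rw [pow_succ', pow_succ', MulAut.mul_apply]
      show f ((f ^ k) (x : P ⧸ center P)) = _
      rw [ih]
      rfl
  have hf : f ^ q ^ 1 = 1 := by
    funext x
    obtain ⟨x, rfl⟩ := QuotientGroup.mk_surjective x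
    rw [pow_one, hk, h.yq]
    rfl
  have h1 := Equiv.Perm.card_fixedPoints_modEq hf
  have h2 : Fintype.card f.fixedPoints = 1 := by
    rw [Fintype.card_eq_one_iff]
    refine ⟨⟨1, ?_⟩, ?_⟩
    · show bar y ((1 : P) : P ⧸ center P) = 1
      rw [bar_mk, map_one]; rfl
    · rintro ⟨x, hx⟩
      obtain ⟨x, rfl⟩ := QuotientGroup.mk_surjective x
      apply Subtype.ext
      show (x : P ⧸ center P) = 1
      rw [QuotientGroup.eq_one_iff]
      apply h.mem_center_of_fix hna
      rw [← QuotientGroup.eq]
      exact (show ((y x : P) : P ⧸ center P) = _ from hx).symm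
  rw [h2] at h1
  rw [Nat.card_eq_fintype_card]
  exact h1

/-- the case of order `p^3`, `p = 2, 3`. -/
theorem no_small (h : Schmidt p q y) (hna : ¬ ∀ a b : P, a * b = b * a) (hc : Nat.card (P ⧸ center P) = p ^ 2)
    (hp : p = 2 ∨ p = 3) (hZ : Nat.card (center P) = p) {u : P} (hu : u ∉ center P) (hup : u ^ p = 1) : False := by
  classical
  have h1 := h.card_mod hna
  rw [hc] at h1
  have hq2 := h.hq.two_le
  rcases hp with rfl | rfl
  · -- `p = 2`
    have hq3 : q = 3 := by
      have h2 : q ∣ 3 := by
        have := (Nat.modEq_iff_dvd' (by norm_num : 1 ≤ 2 ^ 2)).1 h1.symm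
        simpa using this
      exact (Nat.prime_dvd_prime_iff_eq h.hq Nat.prime_three).1 h2
    subst hq3
    have hsq : ∀ x ∈ center P, x * x = 1 := by
      intro x hx
      have h2 : (⟨x, hx⟩ : center P) ^ Nat.card (center P) = 1 := pow_card_eq_one'
      rw [hZ] at h2
      have h3 := congrArg Subtype.val h2
      rw [← pow_two]
      exact h3
    have hy3 : ∀ x, y (y (y x)) = x := by
      intro x
      have := DFunLike.congr_fun h.yq x
      rw [pow_succ, pow_two] at this
      exact this
    have huu : u * u = 1 := by rw [← pow_two]; exact hup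
    -- four distinct cosets
    haveI : Fintype (P ⧸ center P) := Fintype.ofFinite _
    have hA : ((1 : P) : P ⧸ center P) ≠ (u : P ⧸ center P) := by
      intro e
      exact hu ((QuotientGroup.eq_one_iff u).1 e.symm)
    have hB : ((1 : P) : P ⧸ center P) ≠ ((y u : P) : P ⧸ center P) := by
      intro e
      have h2 : y u ∈ center P := (QuotientGroup.eq_one_iff _).1 e.symm
      apply hu
      have h3 := center_inv y _ (center_inv y _ h2)
      rwa [hy3] at h3
    have hC : ((1 : P) : P ⧸ center P) ≠ ((y (y u) : P) : P ⧸ center P) := by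
      intro e
      have h2 : y (y u) ∈ center P := (QuotientGroup.eq_one_iff _).1 e.symm
      apply hu
      have h3 := center_inv y _ h2
      rwa [hy3] at h3
    have hD : (u : P ⧸ center P) ≠ ((y u : P) : P ⧸ center P) := by
      intro e
      exact hu (h.mem_center_of_fix hna (QuotientGroup.eq.1 e))
    have hE : ((y u : P) : P ⧸ center P) ≠ ((y (y u) : P) : P ⧸ center P) := by
      intro e
      have h2 := QuotientGroup.eq.1 e
      rw [← map_inv, ← map_mul] at h2
      have h3 := center_inv y _ (center_inv y _ h2)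
      rw [hy3] at h3
      exact hu (h.mem_center_of_fix hna h3)
    have hF : (u : P ⧸ center P) ≠ ((y (y u) : P) : P ⧸ center P) := by
      intro e
      have h2 := center_inv y _ (QuotientGroup.eq.1 e)
      rw [map_mul, map_inv, hy3] at h2
      have h3 := inv_mem h2
      rw [mul_inv_rev, inv_inv] at h3
      exact hu (h.mem_center_of_fix hna h3)
    have huniv : ({((1 : P) : P ⧸ center P), (u : P ⧸ center P), ((y u : P) : P ⧸ center P),
        ((y (y u) : P) : P ⧸ center P)} : Finset (P ⧸ center P)) = Finset.univ := by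
      rw [← Finset.card_eq_iff_eq_univ, ← Nat.card_eq_fintype_card, hc]
      rw [Finset.card_insert_of_notMem, Finset.card_insert_of_notMem, Finset.card_insert_of_notMem,
        Finset.card_singleton]
      · norm_num
      · simp only [Finset.mem_singleton]
        exact hE
      · simp only [Finset.mem_insert, Finset.mem_singleton, not_or]
        exact ⟨hD, hF⟩
      · simp only [Finset.mem_insert, Finset.mem_singleton, not_or]
        exact ⟨hA, hB, hC⟩
    have hsq' : ∀ w x : P, w * w = 1 → (w : P ⧸ center P) = (x : P ⧸ center P) → x * x = 1 := by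
      intro w x hw e
      have h2 := QuotientGroup.eq.1 e
      have h3 := hsq _ h2
      have h4 := mem_center_iff.1 h2 w
      have h5 : x = w * (w⁻¹ * x) := by group
      rw [h5]
      calc w * (w⁻¹ * x) * (w * (w⁻¹ * x)) = w * ((w⁻¹ * x) * w) * (w⁻¹ * x) := by group
        _ = w * (w * (w⁻¹ * x)) * (w⁻¹ * x) := by rw [← h4]
        _ = (w * w) * ((w⁻¹ * x) * (w⁻¹ * x)) := by group
        _ = 1 := by rw [hw, h3, one_mul]
    apply hna
    have hall : ∀ x : P, x * x = 1 := by
      intro x
      have h2 : (x : P ⧸ center P) ∈ ({((1 : P) : P ⧸ center P), (u : P ⧸ center P), ((y u : P) : P ⧸ center P),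
        ((y (y u) : P) : P ⧸ center P)} : Finset (P ⧸ center P)) := by rw [huniv]; exact Finset.mem_univ _
      simp only [Finset.mem_insert, Finset.mem_singleton] at h2
      rcases h2 with e | e | e | e
      · exact hsq' 1 x (one_mul 1) e.symm
      · exact hsq' u x huu e.symm
      · exact hsq' _ x (by rw [← map_mul, huu, map_one]) e.symm
      · exact hsq' _ x (by rw [← map_mul, ← map_mul, huu, map_one, map_one]) e.symm
    intro a b
    have h2 := hall (a * b)
    have h3 := hall a
    have h4 := hall b
    calc a * b = a * (a * b * (a * b)) * b := by rw [h2]; group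
      _ = (a * a) * (b * a) * (b * b) := by group
      _ = b * a := by rw [h3, h4]; group
  · -- `p = 3`
    have hq2' : q = 2 := by
      have h2 : q ∣ 8 := by
        have := (Nat.modEq_iff_dvd' (by norm_num : 1 ≤ 3 ^ 2)).1 h1.symm
        simpa using this
      have h3 : q ∣ 2 ^ 3 := by simpa using h2
      exact (Nat.prime_dvd_prime_iff_eq h.hq Nat.prime_two).1 (h.hq.dvd_of_dvd_pow h3)
    subst hq2'
    have hy2 : ∀ x, y (y x) = x := by
      intro x
      have := DFunLike.congr_fun h.yq x
      rw [pow_two] at this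
      exact this
    have hw : u * y u ∈ center P := by
      apply h.mem_center_of_fix hna
      rw [map_mul, hy2]
      have h2 : (u * y u)⁻¹ * (y u * u) = ⁅(y u)⁻¹, u⁻¹⁆ := by rw [commutatorElement_def]; group
      rw [h2]
      exact h.comm_mem _ _
    apply h.not_mem_zpowers hu
    have h2 : y u = u⁻¹ * (u * y u) := by group
    rw [h2]
    exact mul_mem (le_sup_left (α := Subgroup P) (inv_mem (mem_zpowers u))) (le_sup_right (α := Subgroup P) hw)

end Schmidt

end Cfsg.Agent.Lib.H56Schmidt
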