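import Mathlib
import Cfsg.Agent.Lib.H56Schmidt
import Cfsg.Agent.Lib.NilpotentHall
import Cfsg.Agent.Lib.SubgroupTools

set_option autoImplicit false

/-! The Schmidt automorphism of the normal Sylow subgroup of a minimal non-nilpotent group. -/

namespace Cfsg.Agent.Lib.H56Schmidt

open Subgroup
open Cfsg.Agent.Lib
open scoped Pointwise

theorem conj_finite {G : Type*} [Group G] [Finite G] {R : Subgroup G} {h : G} (hR : ∀ x ∈ R, h * x * h⁻¹ ∈ R) :
    h ∈ normalizer (R : Set G) := by
  have h1 : R.map (MulAut.conj h).toMonoidHom = R := by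
    apply Subgroup.eq_of_le_of_card_ge
    · rintro _ ⟨x, hx, rfl⟩
      exact hR x hx
    · rw [Subgroup.card_map_of_injective (MulAut.conj h).injective]
  rw [Subgroup.mem_normalizer_iff]
  intro x
  constructor
  · exact hR x
  · intro hx
    rw [← h1] at hx
    obtain ⟨w, hw, hwx⟩ := hx
    have : w = x := by
      have h2 : h * w * h⁻¹ = h * x * h⁻¹ := hwx
      exact mul_left_cancel (mul_right_cancel h2)
    rw [← this]; exact hw

/-- the data of a minimal non-nilpotent group with a nontrivial normal Sylow `p`-subgroup. -/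
theorem exists_data {X : Type*} [Group X] [Finite X] (hn : ¬ Group.IsNilpotent X)
    (hX : ∀ H : Subgroup X, H ≠ ⊤ → Group.IsNilpotent H) (p : ℕ) [hp : Fact p.Prime]
    (P : Sylow p X) [hPn : (P : Subgroup X).Normal] (hP1 : (P : Subgroup X) ≠ ⊥) :
    ∃ (q k : ℕ) (h : X), q.Prime ∧ q ≠ p ∧ orderOf h = q ^ k ∧ zpowers h ⊔ (P : Subgroup X) = ⊤ ∧
      Schmidt p q (MulAut.conjNormal h : MulAut (P : Subgroup X)) := by
  obtain ⟨H, hH⟩ := exists_right_complement'_of_coprime (N := (P : Subgroup X)) P.card_coprime_index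
  have hHP : Nat.card H = (P : Subgroup X).index := hH.symm.index_eq_card.symm
  have hpH : ¬ p ∣ Nat.card H := by
    rw [hHP]
    exact P.not_dvd_index
  -- some element of `H` of prime power order does not centralize `P`
  have hnc : ¬ H ≤ centralizer ((P : Subgroup X) : Set X) := by
    intro hc
    apply hn
    have hHt : H ≠ ⊤ := by
      rintro rfl
      apply hP1
      have h1 := hH.disjoint
      rwa [disjoint_top] at h1
    have hPt : (P : Subgroup X) ≠ ⊤ := by
      intro h1
      apply hn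
      have h2 : Group.IsNilpotent (P : Subgroup X) := P.2.isNilpotent
      exact Group.nilpotent_of_surjective (P : Subgroup X).subtype (by
        intro x
        exact ⟨⟨x, by rw [h1]; trivial⟩, rfl⟩)
    have hHnil := hX H hHt
    have hPnil : Group.IsNilpotent (P : Subgroup X) := P.2.isNilpotent
    let f : ↥(P : Subgroup X) × ↥H →* X := MonoidHom.noncommCoprod (P : Subgroup X).subtype H.subtype (by
      intro a b
      exact (mem_centralizer_iff.1 (hc b.2) a a.2))
    apply Group.nilpotent_of_surjective f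
    intro g
    have h1 : g ∈ (((P : Subgroup X) : Set X) * (H : Set X)) := by
      rw [hH.mul_eq]; trivial
    obtain ⟨z, hz, b, hb, h2⟩ := Set.mem_mul.mp h1
    exact ⟨(⟨z, hz⟩, ⟨b, hb⟩), h2⟩
  obtain ⟨g0, hg0H, hg0⟩ := SetLike.not_le_iff_exists.1 hnc
  obtain ⟨q, k, m, hq, hk, hm⟩ := MinNonNilp.exists_prime_power_order _ hg0
  obtain ⟨h, hh⟩ : ∃ h, h = g0 ^ m := ⟨_, rfl⟩
  rw [← hh] at hk hm
  have hhH : h ∈ H := by rw [hh]; exact H.pow_mem hg0H m
  haveI := Fact.mk hq
  have hh1 : h ≠ 1 := by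
    rintro rfl
    exact hm (one_mem _)
  have hk0 : k ≠ 0 := by
    rintro rfl
    rw [pow_zero, orderOf_eq_one_iff] at hk
    exact hh1 hk
  have hqp : q ≠ p := by
    rintro rfl
    apply hpH
    have h1 : orderOf h ∣ Nat.card H := by
      have := orderOf_dvd_natCard (⟨h, hhH⟩ : H)
      rwa [Subgroup.orderOf_mk] at this
    exact (dvd_pow_self q hk0).trans (hk ▸ h1)
  have hzq : IsPGroup q (zpowers h) := IsPGroup.of_card (n := k) (by rw [Nat.card_zpowers, hk])
  have hcop : ∀ (R : Subgroup X), R ≤ (P : Subgroup X) → ∀ w ∈ zpowers h,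
      (Nat.card R).Coprime (Nat.card (zpowers w)) := by
    intro R hR w hw
    obtain ⟨a, ha⟩ := IsPGroup.iff_card.1 (P.2.to_le hR)
    obtain ⟨b, hb⟩ := IsPGroup.iff_card.1 (hzq.to_le (zpowers_le.2 hw))
    rw [ha, hb]
    exact Nat.Coprime.pow _ _ ((Nat.coprime_primes hp.out hq).2 hqp.symm)
  have hcomm : ∀ (K : Subgroup X), Group.IsNilpotent K → ∀ (R : Subgroup X), R ≤ (P : Subgroup X) →
      R ≤ K → ∀ w ∈ zpowers h, w ∈ K → ∀ x ∈ R, w * x = x * w := by
    intro K hK R hRP hRK w hw hwK x hx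
    have h1 := NilpotentHall.le_centralizer_of_nilpotent (q := q) (r := p) hqp.symm hK hRK
      (zpowers_le.2 hwK) (P.2.to_le hRP) (hzq.to_le (zpowers_le.2 hw))
    exact mem_centralizer_iff.1 (h1 hx) w (mem_zpowers w)
  have htop : zpowers h ⊔ (P : Subgroup X) = ⊤ := by
    by_contra hne
    apply hm
    rw [mem_centralizer_iff]
    intro x hx
    exact (hcomm _ (hX _ hne) _ le_rfl le_sup_right h (mem_zpowers h)
      (le_sup_left (α := Subgroup X) (mem_zpowers h)) x hx).symm
  have hnorm : ∀ K : Subgroup X, K ≤ normalizer ((P : Subgroup X) : Set X) := fun K =>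
    Subgroup.le_normalizer_of_normal
  have hcardX : Nat.card X = Nat.card (P : Subgroup X) * q ^ k := by
    have h1 := SubgroupTools.card_sup_of_coprime (hnorm (zpowers h)) (hcop _ le_rfl h (mem_zpowers h))
    rw [sup_comm, htop, Subgroup.card_top, Nat.card_zpowers, hk] at h1
    exact h1
  refine ⟨q, k, h, hq, hqp, hk, htop, ?_⟩
  have hval : ∀ (g : X) (x : (P : Subgroup X)), ((MulAut.conjNormal g x : (P : Subgroup X)) : X) = g * x * g⁻¹ :=
    fun g x => MulAut.conjNormal_apply g x
  refine ⟨hp.out, hq, hqp.symm, P.2, ?_, ?_, ?_⟩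
  · -- `h ^ q` centralizes `P`
    rw [← map_pow]
    have hne : zpowers (h ^ q) ⊔ (P : Subgroup X) ≠ ⊤ := by
      intro htop'
      have h1 := SubgroupTools.card_sup_of_coprime (hnorm (zpowers (h ^ q)))
        (hcop _ le_rfl (h ^ q) (pow_mem (mem_zpowers h) q))
      rw [sup_comm, htop', Subgroup.card_top, Nat.card_zpowers, hcardX] at h1
      have h2 := Nat.eq_of_mul_eq_mul_left Nat.card_pos h1
      rw [orderOf_pow_of_dvd hq.ne_zero (by rw [hk]; exact dvd_pow_self q hk0), hk] at h2
      have h3 : q ^ k / q < q ^ k := Nat.div_lt_self (pow_pos hq.pos k) hq.one_lt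
      omega
    ext x
    rw [hval, MulAut.one_apply, hcomm _ (hX _ hne) _ le_rfl le_sup_right (h ^ q) (pow_mem (mem_zpowers h) q)
      (le_sup_left (α := Subgroup X) (mem_zpowers _)) x x.2, mul_inv_cancel_right]
  · intro hy
    apply hm
    rw [mem_centralizer_iff]
    intro x hx
    have h1 := congrArg Subtype.val (DFunLike.congr_fun hy (⟨x, hx⟩ : (P : Subgroup X)))
    rw [hval, MulAut.one_apply] at h1
    have h2 : h * x * h⁻¹ = x := h1
    calc x * h = h * x * h⁻¹ * h := by rw [h2]
      _ = h * x := by group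
  · intro R hR hi x hx
    have hR' : R.map (P : Subgroup X).subtype ≤ (P : Subgroup X) := map_subtype_le R
    have hmem : ∀ x ∈ R.map (P : Subgroup X).subtype, h * x * h⁻¹ ∈ R.map (P : Subgroup X).subtype := by
      rintro _ ⟨x, hx, rfl⟩
      exact ⟨_, hi x hx, hval h x⟩
    have hnR : zpowers h ≤ normalizer ((R.map (P : Subgroup X).subtype : Subgroup X) : Set X) := by
      rw [zpowers_le]
      exact conj_finite hmem
    have hne : zpowers h ⊔ R.map (P : Subgroup X).subtype ≠ ⊤ := by
      intro htop'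
      have h1 := SubgroupTools.card_sup_of_coprime hnR (hcop _ hR' h (mem_zpowers h))
      rw [sup_comm, htop', Subgroup.card_top, Nat.card_zpowers, hcardX, hk] at h1
      have h2 := Nat.eq_of_mul_eq_mul_right (pow_pos hq.pos k) h1
      rw [Subgroup.card_map_of_injective (P : Subgroup X).subtype_injective] at h2
      exact hR ((Subgroup.card_eq_iff_eq_top R).1 h2.symm)
    apply Subtype.ext
    rw [hval, hcomm _ (hX _ hne) _ hR' le_sup_right h (mem_zpowers h)
      (le_sup_left (α := Subgroup X) (mem_zpowers h)) x ⟨x, hx, rfl⟩, mul_inv_cancel_right]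

end Cfsg.Agent.Lib.H56Schmidt
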