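import Cfsg.Agent.Lib.H32PSolv

/-! `p`-solvable groups with `O_p(G) = 1`: `C_G(O_{p'}(G)) ≤ O_{p'}(G)` (helper79). -/

set_option autoImplicit false

namespace Cfsg.Agent.Lib.PSolvDual

open Subgroup Cfsg.Agent.Lib.H32Cores Cfsg.Agent.Lib.H32PSolv Cfsg
open scoped Pointwise

variable {G : Type*} [Group G] {p : ℕ}

theorem le_of_central_of_pow [Finite G] [hp : Fact p.Prime] {Z D : Subgroup G} [hD : D.Normal] (hZD : Z ≤ D)
    (hZ : (Nat.card Z).Coprime p) (hc : D ≤ centralizer (Z : Set G)) {m : ℕ} (hi : Z.relIndex D = p ^ m)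
    (h : pCore p G = ⊥) : D ≤ Z := by
  have hn : (Z.subgroupOf D).Normal := by
    constructor
    rintro ⟨z, hz⟩ hzZ ⟨d, hd⟩
    rw [mem_subgroupOf] at hzZ ⊢
    have h1 := mem_centralizer_iff.mp (hc hd) z hzZ
    have h2 : d * z * d⁻¹ = z := by rw [← h1]; group
    simpa [h2] using hzZ
  have hcardZ : (Nat.card (Z.subgroupOf D)).Coprime p := by
    rw [Cfsg.Agent.Lib.SubgroupTools.card_subgroupOf_of_le hZD]; exact hZ
  have hidx : (Z.subgroupOf D).index = p ^ m := hi
  obtain ⟨E, hE⟩ := exists_right_complement'_of_coprime (N := Z.subgroupOf D) (by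
    rw [hidx]; exact Nat.Coprime.pow_right m hcardZ)
  have hEcard : Nat.card E = p ^ m := by
    have : (Z.subgroupOf D).index = Nat.card E := hE.symm.index_eq_card
    rw [← this]; exact hi
  have hEn : E.Normal := by
    constructor
    intro e he d
    obtain ⟨z, hz, f, hf, rfl⟩ : ∃ z ∈ Z.subgroupOf D, ∃ f ∈ E, z * f = d := by
      have h1 : d ∈ ((Z.subgroupOf D : Set D) * (E : Set D)) := by
        rw [hE.mul_eq]; trivial
      obtain ⟨z, hz, f, hf, h2⟩ := Set.mem_mul.mp h1
      exact ⟨z, hz, f, hf, h2⟩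
    have h2 : z * (f * e * f⁻¹) = (f * e * f⁻¹) * z := by
      apply Subtype.ext
      exact mem_centralizer_iff.mp (hc (f * e * f⁻¹).2) (z : G) hz
    have h3 : z * f * e * (z * f)⁻¹ = f * e * f⁻¹ := by
      calc z * f * e * (z * f)⁻¹ = (z * (f * e * f⁻¹)) * z⁻¹ := by group
        _ = f * e * f⁻¹ := by rw [h2]; group
    rw [h3]
    exact E.mul_mem (E.mul_mem hf he) (E.inv_mem hf)
  have hEle : E ≤ pCore p D := le_pCore p hEn (IsPGroup.of_card hEcard)
  have hchar : ((pCore p D).map D.subtype) ≤ pCore p G :=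
    le_pCore p inferInstance ((pCore_isPGroup p).map _)
  rw [h, le_bot_iff, map_eq_bot_iff_of_injective _ D.subtype_injective] at hchar
  rw [hchar, le_bot_iff] at hEle
  subst hEle
  have : Z.subgroupOf D = ⊤ := by
    have := hE.sup_eq_top
    simpa using this
  rwa [subgroupOf_eq_top] at this

/-- The dual of the Hall--Higman lemma. -/
theorem centralizer_pPrimeCore_le [Finite G] [hp : Fact p.Prime] (hS : IsPSolvable p G)
    (h : pCore p G = ⊥) : centralizer (pPrimeCore p G : Set G) ≤ pPrimeCore p G := by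
  obtain ⟨n, H, h0, hn, hmono, hnorm, hstep⟩ := hS
  set C := centralizer (pPrimeCore p G : Set G) with hC
  have hCn : C.Normal := inferInstance
  have hcop : ∀ {A : Subgroup G}, A ≤ pPrimeCore p G → (Nat.card A).Coprime p := fun hA =>
    Nat.Coprime.coprime_dvd_left (card_dvd_of_le hA) (pPrimeCore_coprime p)
  have key : ∀ i : Fin (n + 1), C ⊓ H i ≤ pPrimeCore p G := by
    intro i
    induction i using Fin.induction with
    | zero => rw [h0]; simp
    | succ i ih =>
      haveI := hnorm i.castSucc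
      haveI := hnorm i.succ
      have hle : C ⊓ H i.castSucc ≤ C ⊓ H i.succ := inf_le_inf_left _ (hmono (Fin.castSucc_lt_succ).le)
      have hdvd : (C ⊓ H i.castSucc).relIndex (C ⊓ H i.succ) ∣ (H i.castSucc).relIndex (H i.succ) := by
        have h1 : (C ⊓ H i.castSucc).relIndex (C ⊓ H i.succ) = (H i.castSucc).relIndex (C ⊓ H i.succ) := by
          rw [← inf_relIndex_right (H i.castSucc) (C ⊓ H i.succ), ← inf_relIndex_right (C ⊓ H i.castSucc) (C ⊓ H i.succ)]
          congr 1
          ext x
          simp only [mem_inf]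
          tauto
        rw [h1]; exact relIndex_dvd_of_normal _ inf_le_right
      have hDn : (C ⊓ H i.succ).Normal := inferInstance
      rcases hstep i with ⟨m, hm⟩ | hc
      · rw [hm] at hdvd
        obtain ⟨k, _, hk⟩ := (Nat.dvd_prime_pow hp.out).mp hdvd
        refine (le_of_central_of_pow hle (hcop ih) ?_ hk h).trans ih
        exact inf_le_left.trans (centralizer_le ih)
      · apply le_pPrimeCore p hDn
        rw [card_eq_relIndex_mul hle]
        exact Nat.Coprime.mul_left (Nat.Coprime.coprime_dvd_left hdvd hc) (hcop ih)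
  have := key (Fin.last n)
  rw [hn, inf_top_eq] at this
  exact this

end Cfsg.Agent.Lib.PSolvDual
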