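import Mathlib
import Cfsg.Agent.Lib.H56SchmidtB
import Cfsg.Agent.Lib.CoprimeHyper
import Cfsg.Agent.Lib.PSolvDual
import Cfsg.Agent.Lib.PSolvStable
import Cfsg.Agent.Lib.H32PSolv
import Cfsg.Agent.Lib.Cores

set_option autoImplicit false

/-! `p`-solvable groups whose Sylow `p`-subgroup has a Schmidt automorphism (S4394). -/

namespace Cfsg.Agent.Lib.H56Schmidt

open Subgroup Cfsg
open Cfsg.Agent.Lib
open scoped commutatorElement

universe u

section

variable {G : Type u} [Group G] [Finite G] {p : ℕ} [hp : Fact p.Prime]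

theorem exists_normal_aux (R W M T : Subgroup G) (hRn : R.Normal) (hRp : IsPGroup p R)
    (hC : centralizer (R : Set G) ≤ R) (hWp : IsPGroup p W) (hMW : M ≤ normalizer (W : Set G))
    (hTM : T ≤ M) (hTR : ∀ t ∈ T, ∀ r ∈ R, t * r * t⁻¹ * r⁻¹ ∈ W) (hWT : ∀ t ∈ T, ∀ w ∈ W, t * w = w * t) :
    ∃ N : Subgroup G, IsPGroup p N ∧ T ≤ N ∧ N ≤ M ∧ M ≤ normalizer (N : Set G) := by
  have hMW' : ∀ m ∈ M, ∀ w ∈ W, m * w * m⁻¹ ∈ W := fun m hm w hw =>
    (Subgroup.mem_normalizer_iff.1 (hMW hm) w).1 hw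
  let N : Subgroup G :=
    { carrier := {g | g ∈ M ∧ (∀ r ∈ R, g * r * g⁻¹ * r⁻¹ ∈ W) ∧ ∀ w ∈ W, g * w = w * g}
      one_mem' := by
        refine ⟨one_mem _, fun r _ => ?_, fun w _ => by simp⟩
        have : (1 : G) * r * 1⁻¹ * r⁻¹ = 1 := by group
        rw [this]; exact one_mem _
      mul_mem' := by
        rintro a b ⟨ha, ha1, ha2⟩ ⟨hb, hb1, hb2⟩
        refine ⟨mul_mem ha hb, fun r hr => ?_, fun w hw => by rw [mul_assoc, hb2 w hw, ← mul_assoc, ha2 w hw, mul_assoc]⟩
        have h1 : a * b * r * (a * b)⁻¹ * r⁻¹ = (a * (b * r * b⁻¹ * r⁻¹) * a⁻¹) * (a * r * a⁻¹ * r⁻¹) := by group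
        rw [h1]
        exact mul_mem (hMW' a ha _ (hb1 r hr)) (ha1 r hr)
      inv_mem' := by
        rintro a ⟨ha, ha1, ha2⟩
        refine ⟨inv_mem ha, fun r hr => ?_, fun w hw => ?_⟩
        · have h1 : a⁻¹ * r * a⁻¹⁻¹ * r⁻¹ = (a⁻¹ * (a * r * a⁻¹ * r⁻¹) * a⁻¹⁻¹)⁻¹ := by group
          rw [h1]
          exact inv_mem (hMW' a⁻¹ (inv_mem ha) _ (ha1 r hr))
        · have h1 := ha2 w hw
          calc a⁻¹ * w = a⁻¹ * (w * a) * a⁻¹ := by group
            _ = a⁻¹ * (a * w) * a⁻¹ := by rw [h1]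
            _ = w * a⁻¹ := by group }
  refine ⟨N, ?_, fun t ht => ⟨hTM ht, hTR t ht, hWT t ht⟩, fun g hg => hg.1, ?_⟩
  · rintro ⟨g, hg, hg1, hg2⟩
    have hstep : ∀ (n : ℕ) (r : G), r ∈ R → g ^ n * r * (g ^ n)⁻¹ = (g * r * g⁻¹ * r⁻¹) ^ n * r := by
      intro n r hr
      obtain ⟨w, hw⟩ : ∃ w, w = g * r * g⁻¹ * r⁻¹ := ⟨_, rfl⟩
      rw [← hw]
      have hwW : w ∈ W := by rw [hw]; exact hg1 r hr
      have h1 : g * r * g⁻¹ = w * r := by rw [hw]; group
      induction n with
      | zero => simp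
      | succ n ih =>
        have hgw : g * w ^ n = w ^ n * g := hg2 _ (pow_mem hwW n)
        calc g ^ (n + 1) * r * (g ^ (n + 1))⁻¹ = g * (g ^ n * r * (g ^ n)⁻¹) * g⁻¹ := by rw [pow_succ']; group
          _ = g * (w ^ n * r) * g⁻¹ := by rw [ih]
          _ = (g * w ^ n) * r * g⁻¹ := by group
          _ = w ^ n * (g * r * g⁻¹) := by rw [hgw]; group
          _ = w ^ (n + 1) * r := by rw [h1, pow_succ]; group
    obtain ⟨a, ha⟩ := IsPGroup.iff_card.1 hWp
    have h2 : g ^ p ^ a ∈ centralizer (R : Set G) := by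
      rw [mem_centralizer_iff]
      intro r hr
      have h3 := hstep (p ^ a) r hr
      have h4 : (g * r * g⁻¹ * r⁻¹) ^ p ^ a = 1 := by
        have h5 : (⟨g * r * g⁻¹ * r⁻¹, hg1 r hr⟩ : W) ^ Nat.card W = 1 := pow_card_eq_one'
        rw [ha] at h5
        exact congrArg Subtype.val h5
      rw [h4, one_mul] at h3
      calc r * g ^ p ^ a = g ^ p ^ a * r * (g ^ p ^ a)⁻¹ * g ^ p ^ a := by rw [h3]
        _ = g ^ p ^ a * r := by group
    obtain ⟨b, hb⟩ := hRp ⟨_, hC h2⟩
    refine ⟨a + b, ?_⟩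
    apply Subtype.ext
    show g ^ p ^ (a + b) = 1
    rw [pow_add, pow_mul]
    exact congrArg Subtype.val hb
  · intro m hm
    apply conj_finite
    rintro g ⟨hg, hg1, hg2⟩
    refine ⟨mul_mem (mul_mem hm hg) (inv_mem hm), fun r hr => ?_, fun w hw => ?_⟩
    · have h1 : m * g * m⁻¹ * r * (m * g * m⁻¹)⁻¹ * r⁻¹ =
        m * (g * (m⁻¹ * r * m) * g⁻¹ * (m⁻¹ * r * m)⁻¹) * m⁻¹ := by group
      rw [h1]
      have h2 : m⁻¹ * r * m ∈ R := by
        have := hRn.conj_mem r hr m⁻¹
        rwa [inv_inv] at this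
      exact hMW' m hm _ (hg1 _ h2)
    · have h2 : m⁻¹ * w * m ∈ W := by
        have := hMW' m⁻¹ (inv_mem hm) w hw
        rwa [inv_inv] at this
      have h3 := hg2 _ h2
      calc m * g * m⁻¹ * w = m * (g * (m⁻¹ * w * m)) * m⁻¹ := by group
        _ = m * ((m⁻¹ * w * m) * g) * m⁻¹ := by rw [h3]
        _ = w * (m * g * m⁻¹) := by group

/-- the coprime part acts on a normalized center. -/
theorem step_a (hG : IsPSolvable p G) (hR : centralizer ((pCore p G : Subgroup G) : Set G) ≤ pCore p G)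
    (T : Sylow p G) (W : Subgroup G) (hWT : W ≤ (T : Subgroup G))
    (hTR : ∀ t ∈ (T : Subgroup G), ∀ r ∈ pCore p G, t * r * t⁻¹ * r⁻¹ ∈ W)
    (hWc : ∀ t ∈ (T : Subgroup G), ∀ w ∈ W, t * w = w * t)
    (hK : (pPrimeCore p (G ⧸ pCore p G)).comap (QuotientGroup.mk' (pCore p G)) ≤ normalizer (W : Set G)) :
    (T : Subgroup G) ≤ pCore p G := by
  set R := pCore p G with hRdef
  set π := QuotientGroup.mk' R with hπ
  set K := (pPrimeCore p (G ⧸ R)).comap π with hKdef
  have hTW : (T : Subgroup G) ≤ normalizer (W : Set G) := by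
    intro t ht
    apply conj_finite
    intro w hw
    rw [hWc t ht w hw, mul_inv_cancel_right]; exact hw
  obtain ⟨N, hNp, hTN, hNM, hMN⟩ := exists_normal_aux R W (K ⊔ (T : Subgroup G)) T inferInstance
    (Cores.isPGroup_pCore p G) hR (T.2.to_le hWT) (sup_le hK hTW) le_sup_right hTR hWc
  have hNT : N = (T : Subgroup G) := (T.3 hNp hTN)
  rw [hNT] at hMN
  have hcore : pCore p (G ⧸ R) = ⊥ := Cores.pCore_quotient_pCore p G
  have hdual := PSolvDual.centralizer_pPrimeCore_le (p := p) (H32PSolv.isPSolvable_quotient hG R) hcore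
  have h1 : (T : Subgroup G).map π ≤ centralizer ((pPrimeCore p (G ⧸ R) : Subgroup (G ⧸ R)) : Set (G ⧸ R)) := by
    apply NilpotentHall.le_centralizer_of_normalize
    · exact Subgroup.le_normalizer_of_normal
    · intro k hk
      obtain ⟨k, rfl⟩ := QuotientGroup.mk'_surjective R k
      apply conj_finite
      rintro _ ⟨t, ht, rfl⟩
      refine ⟨k * t * k⁻¹, ?_, by rw [map_mul, map_mul, map_inv]⟩
      exact (Subgroup.mem_normalizer_iff.1 (hMN (mem_sup_left (show k ∈ K from hk))) t).1 ht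
    · apply SubgroupTools.inf_eq_bot_of_coprime'
      obtain ⟨a, ha⟩ := IsPGroup.iff_card.1 (T.2.map π)
      rw [ha]
      exact Nat.Coprime.pow_left a (Cores.coprime_card_pPrimeCore p (G ⧸ R)).symm
  have h2 : (T : Subgroup G).map π ≤ ⊥ := by
    have h3 : (T : Subgroup G).map π ≤ (T : Subgroup G).map π ⊓ pPrimeCore p (G ⧸ R) := le_inf le_rfl (h1.trans hdual)
    have h4 : (T : Subgroup G).map π ⊓ pPrimeCore p (G ⧸ R) = ⊥ := by
      apply SubgroupTools.inf_eq_bot_of_coprime'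
      obtain ⟨a, ha⟩ := IsPGroup.iff_card.1 (T.2.map π)
      rw [ha]
      exact Nat.Coprime.pow_left a (Cores.coprime_card_pPrimeCore p (G ⧸ R)).symm
    rwa [h4] at h3
  intro t ht
  have h3 : π t ∈ (⊥ : Subgroup (G ⧸ R)) := h2 ⟨t, ht, rfl⟩
  rw [mem_bot] at h3
  exact (QuotientGroup.eq_one_iff t).1 h3

/-- the main theorem. -/
theorem main (hG : IsPSolvable p G) (hO : pPrimeCore p G = ⊥) (T : Sylow p G) {q : ℕ}
    {y : MulAut ↥(T : Subgroup G)} (hy : Schmidt p q y) : (T : Subgroup G) ≤ pCore p G := by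
  classical
  have hC : centralizer ((pCore p G : Subgroup G) : Set G) ≤ pCore p G := H32PSolv.centralizer_pCore_le hG hO
  set R := pCore p G with hRdef
  have hRn : R.Normal := inferInstance
  have hRp : IsPGroup p R := Cores.isPGroup_pCore p G
  have hRT : R ≤ (T : Subgroup G) := hRp.le_sylow_of_normal T
  by_contra hTR
  -- `T` is nonabelian
  have hna : ¬ ∀ a b : ↥(T : Subgroup G), a * b = b * a := by
    intro hab
    apply hTR
    refine le_trans (fun t ht => ?_) hC
    rw [mem_centralizer_iff]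
    intro r hr
    exact congrArg Subtype.val (hab ⟨r, hRT hr⟩ ⟨t, ht⟩)
  set W : Subgroup G := (center ↥(T : Subgroup G)).map (T : Subgroup G).subtype with hW
  have hWT : W ≤ (T : Subgroup G) := map_subtype_le _
  have hmemW : ∀ (x : G) (hx : x ∈ (T : Subgroup G)), x ∈ W ↔ (⟨x, hx⟩ : ↥(T : Subgroup G)) ∈ center ↥(T : Subgroup G) := by
    intro x hx
    constructor
    · rintro ⟨z, hz, rfl⟩
      exact hz
    · intro h
      exact ⟨_, h, rfl⟩
  have hWc : ∀ t ∈ (T : Subgroup G), ∀ w ∈ W, t * w = w * t := by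
    intro t ht w hw
    exact congrArg Subtype.val (mem_center_iff.1 ((hmemW w (hWT hw)).1 hw) ⟨t, ht⟩)
  have hcommW : ∀ a ∈ (T : Subgroup G), ∀ b ∈ (T : Subgroup G), ⁅a, b⁆ ∈ W := by
    intro a ha b hb
    exact ⟨⁅(⟨a, ha⟩ : ↥(T : Subgroup G)), ⟨b, hb⟩⁆, hy.comm_mem _ _, rfl⟩
  have hcommW' : ∀ a ∈ (T : Subgroup G), ∀ b ∈ (T : Subgroup G), a * b * a⁻¹ * b⁻¹ ∈ W := hcommW
  have hWR : W ≤ R := by
    intro w hw
    apply hC
    rw [mem_centralizer_iff]
    intro r hr
    exact hWc r (hRT hr) w hw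
  -- surjectivity of `x ↦ [u, x]`
  have hsurj : ∀ u (hu : u ∈ (T : Subgroup G)), u ∉ W → ∀ w ∈ W, ∃ x ∈ (T : Subgroup G), ⁅u, x⁆ = w := by
    intro u hu huW w hw
    have h1 := (hmemW w (hWT hw)).1 hw
    rw [hy.center_eq hna] at h1
    obtain ⟨x, hx⟩ := hy.exists_comm hna (fun h => huW ((hmemW u hu).2 h)) _ h1
    exact ⟨x, x.2, congrArg Subtype.val hx⟩
  have hWp : IsPGroup p W := T.2.to_le hWT
  have hW1 : W ≠ ⊥ := by
    intro h
    apply hna
    intro a b
    have h1 := hcommW a a.2 b b.2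
    rw [h, mem_bot, commutatorElement_eq_one_iff_mul_comm] at h1
    exact Subtype.ext h1
  apply hTR
  apply step_a hG hC T W hWT (fun t ht r hr => hcommW' t ht r (hRT hr)) hWc
  set π := QuotientGroup.mk' R with hπ
  set A : Subgroup (G ⧸ R) := (T : Subgroup G).map π with hA
  have hπ1 : ∀ x, π x = 1 ↔ x ∈ R := fun x => QuotientGroup.eq_one_iff x
  have hAel : Cfsg.IsElementaryAbelian p A := by
    refine ⟨⟨⟨?_⟩⟩, ?_⟩
    · rintro ⟨_, ⟨a, ha, rfl⟩⟩ ⟨_, ⟨b, hb, rfl⟩⟩
      apply Subtype.ext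
      show π a * π b = π b * π a
      rw [← commutatorElement_eq_one_iff_mul_comm, ← map_commutatorElement, hπ1]
      exact hWR (hcommW a ha b hb)
    · rintro _ ⟨a, ha, rfl⟩
      rw [← map_pow, hπ1]
      apply hWR
      rw [hmemW _ (pow_mem ha p)]
      exact hy.pow_mem_center hna ⟨a, ha⟩
  have hA1 : A ≠ ⊥ := by
    intro h
    apply hTR
    intro t ht
    rw [← hπ1, ← mem_bot, ← h]
    exact ⟨t, ht, rfl⟩
  have hAK : A ≤ normalizer ((pPrimeCore p (G ⧸ R) : Subgroup (G ⧸ R)) : Set (G ⧸ R)) :=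
    Subgroup.le_normalizer_of_normal
  have hpK : ¬ p ∣ Nat.card ↥(pPrimeCore p (G ⧸ R)) := by
    rw [← Nat.Prime.coprime_iff_not_dvd hp.out]
    exact (Cores.coprime_card_pPrimeCore p (G ⧸ R)).symm
  have hTnW : (T : Subgroup G) ≤ normalizer (W : Set G) := by
    intro t ht
    apply conj_finite
    intro w hw
    rw [hWc t ht w hw, mul_inv_cancel_right]; exact hw
  have key := CoprimeHyper.le_of_hyper_eq (D := (normalizer (W : Set G)).map π) hAel hA1 hpK hAK ?_
  · intro k hk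
    obtain ⟨n, hn, hnk⟩ := key (show π k ∈ pPrimeCore p (G ⧸ R) from hk)
    have h1 : n⁻¹ * k ∈ R := by rw [← hπ1, map_mul, map_inv, hnk, inv_mul_cancel]
    have h2 : k = n * (n⁻¹ * k) := by group
    rw [h2]
    exact mul_mem hn (hTnW (hRT h1))
  intro B hBA hBi kb hkb
  obtain ⟨k, rfl⟩ := QuotientGroup.mk'_surjective R kb
  obtain ⟨hkK, hkB⟩ := mem_inf.1 hkb
  refine ⟨k, ?_, rfl⟩
  set B0 : Subgroup G := (T : Subgroup G) ⊓ B.comap π with hB0
  have hRB : R ≤ B0 := by
    refine le_inf hRT ?_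
    intro r hr
    show π r ∈ B
    rw [(hπ1 r).2 hr]; exact one_mem _
  have hB0i : B0.relIndex (T : Subgroup G) = p := by
    rw [hB0, Subgroup.inf_relIndex_left, Subgroup.relIndex_comap, ← hA]
    exact hBi
  have hkB0 : ∀ b ∈ B0, k * b * k⁻¹ ∈ B0 := by
    rintro b ⟨hbT, hbB⟩
    have h1 : k * b * k⁻¹ * b⁻¹ ∈ R := by
      rw [← hπ1, map_mul, map_mul, map_mul, map_inv, map_inv]
      have h2 : π b * π k = π k * π b := mem_centralizer_iff.1 hkB (π b) hbB
      rw [← h2]; group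
    have h3 : k * b * k⁻¹ = (k * b * k⁻¹ * b⁻¹) * b := by group
    rw [h3]
    exact mul_mem (hRB h1) ⟨hbT, hbB⟩
  have hknB0 := conj_finite hkB0
  apply conj_finite
  by_cases hI : ∀ u ∈ B0, (∀ b ∈ B0, u * b = b * u) → u ∈ W
  · intro w hw
    apply hI
    · exact hkB0 w (hRB (hWR hw))
    · intro b hb
      have hb' : k⁻¹ * b * k ∈ B0 := by
        have := (Subgroup.mem_normalizer_iff.1 (inv_mem hknB0) b).1 hb
        rwa [inv_inv] at this
      have h1 := hWc (k⁻¹ * b * k) hb'.1 w hw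
      calc k * w * k⁻¹ * b = k * (w * (k⁻¹ * b * k)) * k⁻¹ := by group
        _ = k * ((k⁻¹ * b * k) * w) * k⁻¹ := by rw [h1]
        _ = b * (k * w * k⁻¹) := by group
  push Not at hI
  obtain ⟨u, huB, hub, huW⟩ := hI
  -- `|W| = p`
  have hWcard : Nat.card W = p := by
    have h1 : ∀ t : ↥(T : Subgroup G), ⁅u, (t : G)⁆ ∈ W := fun t => hcommW u huB.1 t t.2
    let f : ↥(T : Subgroup G) ⧸ (B0.subgroupOf (T : Subgroup G)) → W :=
      Quotient.lift (fun t : ↥(T : Subgroup G) => (⟨⁅u, (t : G)⁆, h1 t⟩ : W)) (by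
        intro a b hab
        have h2 : a⁻¹ * b ∈ B0.subgroupOf (T : Subgroup G) := QuotientGroup.leftRel_apply.1 hab
        apply Subtype.ext
        show ⁅u, (a : G)⁆ = ⁅u, (b : G)⁆
        have h3 : ((a⁻¹ * b : ↥(T : Subgroup G)) : G) ∈ B0 := h2
        have h4 := hub _ h3
        have h5 : (b : G) = a * ((a⁻¹ * b : ↥(T : Subgroup G)) : G) := by
          push_cast; group
        have h6 : ⁅u, (b : G)⁆ = ⁅u, (a : G)⁆ * ((a : G) * ⁅u, ((a⁻¹ * b : ↥(T : Subgroup G)) : G)⁆ * (a : G)⁻¹) := by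
          conv_lhs => rw [h5]
          simp only [commutatorElement_def]; group
        rw [h6, (commutatorElement_eq_one_iff_mul_comm.2 h4)]
        group)
    have hf : Function.Surjective f := by
      rintro ⟨w, hw⟩
      obtain ⟨x, hx, hxw⟩ := hsurj u huB.1 huW w hw
      exact ⟨QuotientGroup.mk ⟨x, hx⟩, Subtype.ext hxw⟩
    have h2 : Nat.card W ≤ p := by
      have h3 := Nat.card_le_card_of_surjective f hf
      have h4 : Nat.card (↥(T : Subgroup G) ⧸ (B0.subgroupOf (T : Subgroup G))) = p := by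
        rw [← Subgroup.index_eq_card]; exact hB0i
      rwa [h4] at h3
    obtain ⟨a, ha⟩ := IsPGroup.iff_card.1 hWp
    have ha0 : a ≠ 0 := by
      rintro rfl
      rw [pow_zero] at ha
      exact hW1 (Subgroup.card_eq_one.1 ha)
    have h5 : p ≤ p ^ a := Nat.le_self_pow ha0 p
    rw [ha] at h2 ⊢
    exact le_antisymm h2 h5
  -- conjugates of commutators
  have hgen : ∀ a ∈ (T : Subgroup G), ∀ b ∈ (T : Subgroup G), ⁅a, b⁆ ≠ 1 → k * a * k⁻¹ ∈ (T : Subgroup G) →
      k * b * k⁻¹ ∈ (T : Subgroup G) → ∀ w ∈ W, k * w * k⁻¹ ∈ W := by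
    intro a ha b hb hab hka hkb' w hw
    have h1 : zpowers ⁅a, b⁆ = W := by
      apply Subgroup.eq_of_le_of_card_ge
      · rw [zpowers_le]; exact hcommW a ha b hb
      · rw [hWcard]
        obtain ⟨c, hc⟩ := IsPGroup.iff_card.1 (hWp.to_le (zpowers_le.2 (hcommW a ha b hb)))
        have hc0 : c ≠ 0 := by
          rintro rfl
          rw [pow_zero, Nat.card_zpowers, orderOf_eq_one_iff] at hc
          exact hab hc
        rw [hc]
        exact Nat.le_self_pow hc0 p
    rw [← h1] at hw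
    obtain ⟨n, rfl⟩ := mem_zpowers_iff.1 hw
    have h2 : k * ⁅a, b⁆ ^ n * k⁻¹ = ⁅k * a * k⁻¹, k * b * k⁻¹⁆ ^ n := by
      have h3 : ⁅k * a * k⁻¹, k * b * k⁻¹⁆ = k * ⁅a, b⁆ * k⁻¹ := by
        simp only [commutatorElement_def]; group
      rw [h3, conj_zpow]
    rw [h2]
    exact zpow_mem (hcommW _ hka _ hkb') n
  by_cases hIIa : ∃ h ∈ B0, h ∉ R
  · obtain ⟨h, hhB, hhR⟩ := hIIa
    have h1 : ∃ r ∈ R, ⁅r, h⁆ ≠ 1 := by
      by_contra hcon
      push Not at hcon
      apply hhR
      apply hC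
      rw [mem_centralizer_iff]
      intro r hr
      exact commutatorElement_eq_one_iff_mul_comm.1 (hcon r hr)
    obtain ⟨r, hr, hrh⟩ := h1
    exact hgen r (hRT hr) h hhB.1 hrh (hRT (hRn.conj_mem r hr k)) (hkB0 h hhB).1
  push Not at hIIa
  have hBR : B0 = R := le_antisymm hIIa hRB
  by_cases hRab : ∃ a ∈ R, ∃ b ∈ R, ⁅a, b⁆ ≠ 1
  · obtain ⟨a, ha, b, hb, hab⟩ := hRab
    exact hgen a (hRT ha) b (hRT hb) hab (hRT (hRn.conj_mem a ha k)) (hRT (hRn.conj_mem b hb k))
  exfalso
  push Not at hRab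
  have hRc : ∀ a ∈ R, ∀ b ∈ R, a * b = b * a := fun a ha b hb => commutatorElement_eq_one_iff_mul_comm.1 (hRab a ha b hb)
  rw [hBR] at hB0i
  have hTcard : Nat.card (T : Subgroup G) = p * Nat.card R := by
    have := (R.subgroupOf (T : Subgroup G)).index_mul_card
    rw [Nat.card_congr (Subgroup.subgroupOfEquivOfLe hRT).toEquiv] at this
    rw [← this]
    congr 1
  obtain ⟨h0, hh0T, hh0R⟩ := SetLike.not_le_iff_exists.1 hTR
  have hcent : ∀ r ∈ R, h0 * r = r * h0 → r ∈ W := by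
    intro r hr hrh
    have h1 : R ≤ (T : Subgroup G) ⊓ centralizer {r} := by
      refine le_inf hRT ?_
      intro s hs
      rw [mem_centralizer_singleton_iff]
      exact hRc s hs r hr
    have h2 : R.relIndex ((T : Subgroup G) ⊓ centralizer {r}) * ((T : Subgroup G) ⊓ centralizer {r}).relIndex (T : Subgroup G) = p := by
      rw [Subgroup.relIndex_mul_relIndex _ _ _ h1 inf_le_left]; exact hB0i
    have h3 : R.relIndex ((T : Subgroup G) ⊓ centralizer {r}) ≠ 1 := by
      intro h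
      rw [Subgroup.relIndex_eq_one] at h
      apply hh0R
      apply h
      refine ⟨hh0T, ?_⟩
      exact mem_centralizer_singleton_iff.2 hrh
    have h4 : ((T : Subgroup G) ⊓ centralizer {r}).relIndex (T : Subgroup G) = 1 := by
      have h5 := (Nat.prime_mul_iff.1 (h2.symm ▸ hp.out : (R.relIndex ((T : Subgroup G) ⊓ centralizer {r}) *
        ((T : Subgroup G) ⊓ centralizer {r}).relIndex (T : Subgroup G)).Prime))
      rcases h5 with h5 | h5
      · exact h5.2
      · exact absurd h5.2 h3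
    rw [Subgroup.relIndex_eq_one] at h4
    rw [hmemW r (hRT hr), mem_center_iff]
    rintro ⟨t, ht⟩
    apply Subtype.ext
    exact mem_centralizer_singleton_iff.1 (h4 ht).2
  have hWZ : Nat.card (center ↥(T : Subgroup G)) = Nat.card W := by
    rw [hW, Subgroup.card_map_of_injective (T : Subgroup G).subtype_injective]
  have hRle : Nat.card R ≤ p * p := by
    let φ : R →* ↥(T : Subgroup G) := (hy.commHom ⟨h0, hh0T⟩).comp (Subgroup.inclusion hRT)
    have h1 : Nat.card R = Nat.card φ.range * Nat.card φ.ker := by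
      rw [← Subgroup.index_ker, Subgroup.index_mul_card]
    have h2 : Nat.card φ.range ≤ p := by
      refine le_trans ?_ (hWZ.trans hWcard).le
      apply Nat.card_le_card_of_injective _ (Subgroup.inclusion_injective _)
      rintro _ ⟨r, rfl⟩
      exact hy.comm_mem _ _
    have h3 : Nat.card φ.ker ≤ p := by
      refine le_trans ?_ hWcard.le
      have h4 : ∀ r : φ.ker, ((r : R) : G) ∈ W := by
        rintro ⟨r, hr⟩
        apply hcent r r.2
        have h5 := congrArg Subtype.val ((MonoidHom.mem_ker).1 hr)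
        exact commutatorElement_eq_one_iff_mul_comm.1 h5
      apply Nat.card_le_card_of_injective (fun r : φ.ker => (⟨((r : R) : G), h4 r⟩ : W))
      intro a b hab
      have h5 : ((a : R) : G) = ((b : R) : G) := by simpa using hab
      exact Subtype.ext (Subtype.ext h5)
    rw [h1]
    exact Nat.mul_le_mul h2 h3
  have hZcard : Nat.card (center ↥(T : Subgroup G)) = p := hWZ.trans hWcard
  have hTZ : Nat.card (↥(T : Subgroup G) ⧸ center ↥(T : Subgroup G)) * p = Nat.card (T : Subgroup G) := by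
    rw [Subgroup.card_eq_card_quotient_mul_card_subgroup (center ↥(T : Subgroup G)), hZcard]
  have hquot : Nat.card (↥(T : Subgroup G) ⧸ center ↥(T : Subgroup G)) = p ^ 2 := by
    obtain ⟨c, hc⟩ := IsPGroup.iff_card.1 (T.2.to_quotient (center ↥(T : Subgroup G)))
    have hc2 : c ≤ 2 := by
      by_contra hcon
      have h1 : p ^ 3 ≤ p ^ c := Nat.pow_le_pow_right hp.out.pos (by omega)
      rw [hc, hTcard] at hTZ
      have h2 : p ^ c * p ≤ p * (p * p) := by rw [hTZ]; exact Nat.mul_le_mul_left p hRle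
      have h3 : p ^ 3 * p ≤ p * (p * p) := le_trans (Nat.mul_le_mul_right p h1) h2
      have h4 : p * (p * p) * 1 < p ^ 3 * p := by
        have h5 : p ^ 3 = p * (p * p) := by ring
        rw [h5]
        apply Nat.mul_lt_mul_of_pos_left hp.out.one_lt
        have := hp.out.pos
        positivity
      omega
    have hc1 : ¬ c ≤ 1 := by
      intro hle
      apply hna
      have hcyc : IsCyclic (↥(T : Subgroup G) ⧸ center ↥(T : Subgroup G)) := by
        rcases Nat.le_one_iff_eq_zero_or_eq_one.1 hle with rfl | rfl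
        · rw [pow_zero] at hc
          haveI : Subsingleton (↥(T : Subgroup G) ⧸ center ↥(T : Subgroup G)) :=
            (Nat.card_eq_one_iff_unique.1 hc).1
          infer_instance
        · rw [pow_one] at hc
          exact isCyclic_of_prime_card hc
      exact commutative_of_cyclic_center_quotient (QuotientGroup.mk' (center ↥(T : Subgroup G)))
        (by rw [QuotientGroup.ker_mk'])
    have hc3 : c = 2 := by omega
    rw [hc, hc3]
  have hRcard : Nat.card R = p ^ 2 := by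
    rw [hquot, hTcard] at hTZ
    have h1 : p * Nat.card R = p * p ^ 2 := by rw [← hTZ]; ring
    exact Nat.eq_of_mul_eq_mul_left hp.out.pos h1
  by_cases hex : ∃ u ∈ R, u ∉ W ∧ u ^ p = 1
  · obtain ⟨v, hvR, hvW, hvp⟩ := hex
    by_cases hp23 : p = 2 ∨ p = 3
    · exact hy.no_small hna hquot hp23 hZcard (u := ⟨v, hRT hvR⟩) (fun h => hvW ((hmemW v (hRT hvR)).2 h))
        (Subtype.ext hvp)
    · have hp5 : 5 ≤ p := by
        have h2 := hp.out.two_le
        have h4 : p ≠ 4 := by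
          intro h
          have := hp.out
          rw [h] at this
          exact absurd this (by norm_num)
        push Not at hp23
        omega
      apply hTR
      intro t ht
      obtain ⟨D, -, hDn, hDp, htD⟩ := PStabInvolve.exists_stable (P := R) (N := ⊤) (a := t) (p := p) (by omega)
        PStabInvolve.obst_sl2 (PSolvStable.not_involves_of_isPSolvable hp5 hG) hRp
        (by rw [Subgroup.normalizer_eq_top_iff.2 hRn]) (mem_top t) (by
          intro x hx
          rw [commutatorElement_eq_one_iff_mul_comm]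
          exact (hWc t ht _ (hcommW x (hRT hx) t ht)).symm)
      have hDn' : D.Normal := Subgroup.normalizer_eq_top_iff.1 (top_le_iff.1 hDn)
      have hDpg : IsPGroup p D := by
        rintro ⟨x, hx⟩
        obtain ⟨a, ha⟩ := hDp x hx
        obtain ⟨b, hb⟩ := hRp ⟨_, hC ha⟩
        refine ⟨a + b, ?_⟩
        apply Subtype.ext
        show x ^ p ^ (a + b) = 1
        rw [pow_add, pow_mul]
        exact congrArg Subtype.val hb
      exact Cores.le_pCore hDn' hDpg htD
  · push Not at hex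
    have h1 : ¬ R ≤ W := by
      intro hle
      have h2 := Nat.card_le_card_of_injective _ (Subgroup.inclusion_injective hle)
      rw [hRcard, hWcard, pow_two] at h2
      have h3 := hp.out.one_lt
      nlinarith
    obtain ⟨v, hvR, hvW⟩ := SetLike.not_le_iff_exists.1 h1
    have hvp := hex v hvR hvW
    have hz : zpowers v = R := by
      apply Subgroup.eq_of_le_of_card_ge
      · rw [zpowers_le]; exact hvR
      · rw [hRcard, Nat.card_zpowers]
        have h2 : orderOf v ∣ p ^ 2 := by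
          rw [← hRcard]
          have := orderOf_dvd_natCard (⟨v, hvR⟩ : R)
          rwa [Subgroup.orderOf_mk] at this
        obtain ⟨c, hc, hc'⟩ := (Nat.dvd_prime_pow hp.out).1 h2
        rw [hc']
        by_cases hc2 : c = 2
        · rw [hc2]
        · exfalso
          apply hvp
          rw [← orderOf_dvd_iff_pow_eq_one, hc']
          have : c ≤ 1 := by omega
          calc p ^ c ∣ p ^ 1 := pow_dvd_pow p this
            _ = p := pow_one p
    -- automorphisms of a cyclic group commute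
    have hex2 : ∀ g : G, ∃ n : ℤ, ∀ r ∈ R, g * r * g⁻¹ = r ^ n := by
      intro g
      have h2 : g * v * g⁻¹ ∈ R := hRn.conj_mem v hvR g
      rw [← hz] at h2
      obtain ⟨n, hn⟩ := mem_zpowers_iff.1 h2
      refine ⟨n, ?_⟩
      intro r hr
      rw [← hz] at hr
      obtain ⟨j, rfl⟩ := mem_zpowers_iff.1 hr
      rw [← conj_zpow, ← hn, ← zpow_mul, ← zpow_mul, mul_comm]
    have hswap : ∀ g t : G, ∀ r ∈ R, g * (t * r * t⁻¹) * g⁻¹ = t * (g * r * g⁻¹) * t⁻¹ := by
      intro g t r hr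
      obtain ⟨m, hm⟩ := hex2 g
      obtain ⟨n, hn⟩ := hex2 t
      rw [hn r hr, hm r hr, hm _ (zpow_mem hr n), hn _ (zpow_mem hr m), ← zpow_mul, ← zpow_mul, mul_comm]
    have hTn : (T : Subgroup G).Normal := by
      constructor
      intro t ht g
      have h2 : g * t * g⁻¹ * t⁻¹ ∈ R := by
        apply hC
        rw [mem_centralizer_iff]
        intro r hr
        have hs : t⁻¹ * r * t ∈ R := by
          have := hRn.conj_mem r hr t⁻¹
          rwa [inv_inv] at this
        have hr' : g⁻¹ * (t⁻¹ * r * t) * g ∈ R := by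
          have := hRn.conj_mem _ hs g⁻¹
          rwa [inv_inv] at this
        have h3 := hswap g t _ hr'
        have h4 : t * (g * (g⁻¹ * (t⁻¹ * r * t) * g) * g⁻¹) * t⁻¹ = r := by group
        rw [h4] at h3
        calc r * (g * t * g⁻¹ * t⁻¹) = (g * (t * (g⁻¹ * (t⁻¹ * r * t) * g) * t⁻¹) * g⁻¹) * (g * t * g⁻¹ * t⁻¹) := by
              rw [h3]
          _ = g * t * g⁻¹ * t⁻¹ * r := by group
      have h3 : g * t * g⁻¹ = (g * t * g⁻¹ * t⁻¹) * t := by group
      rw [h3]
      exact mul_mem (hRT h2) ht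
    exact hTR (Cores.le_pCore hTn T.2)

end

end Cfsg.Agent.Lib.H56Schmidt
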