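import Cfsg.Agent.Lib.AmR
import Cfsg.Agent.Lib.DihRec

/-!
Primitive groups with a suborbit of length three (helper56), group theoretic part.
-/

set_option autoImplicit false
set_option linter.unusedSectionVars false

namespace Cfsg.Agent.Lib.H56SimsA

open Subgroup Cfsg.Agent.Lib.LocBase Cfsg.Agent.Lib.AmG Cfsg.Agent.Lib.ZN Cfsg.Agent.Lib.TvStruct

universe u

theorem core_index_dvd {X : Type*} [Group X] [Finite X] (H : Subgroup X) :
    H.normalCore.index ∣ (H.index).factorial := by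
  classical
  have : Fintype (X ⧸ H) := Fintype.ofFinite _
  let f : X →* Equiv.Perm (X ⧸ H) := MulAction.toPermHom X (X ⧸ H)
  rw [Subgroup.normalCore_eq_ker, Subgroup.index_ker]
  have h1 : Nat.card (f.range) ∣ Nat.card (Equiv.Perm (X ⧸ H)) := Subgroup.card_subgroup_dvd_card _
  have h2 : Nat.card (Equiv.Perm (X ⧸ H)) = (H.index).factorial := by
    rw [Nat.card_eq_fintype_card, Fintype.card_perm, Subgroup.index_eq_card, Nat.card_eq_fintype_card]
  rw [h2] at h1
  exact h1

theorem perm_of_core {X : Type*} [Group X] [Finite X] (H : Subgroup X) (n : ℕ) (hidx : H.index = n)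
    (hc : Nat.card X = n.factorial)
    (hcore : ∀ N : Subgroup X, N.Normal → N ≤ H → N = ⊥) : Nonempty (X ≃* Equiv.Perm (Fin n)) := by
  classical
  have : Fintype (X ⧸ H) := Fintype.ofFinite _
  have e : (X ⧸ H) ≃ Fin n := by
    apply Fintype.equivFinOfCardEq
    rw [← Nat.card_eq_fintype_card, ← Subgroup.index_eq_card, hidx]
  let f : X →* Equiv.Perm (X ⧸ H) := MulAction.toPermHom X (X ⧸ H)
  have hf : Function.Injective f := by
    rw [← MonoidHom.ker_eq_bot_iff, ← Subgroup.normalCore_eq_ker]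
    exact hcore _ H.normalCore_normal H.normalCore_le
  let g : Equiv.Perm (X ⧸ H) ≃* Equiv.Perm (Fin n) := e.permCongrHom
  have hcard : Nat.card (Equiv.Perm (X ⧸ H)) = n.factorial := by
    rw [Nat.card_congr g.toEquiv, Nat.card_eq_fintype_card, Fintype.card_perm, Fintype.card_fin]
  have hbij : Function.Bijective f :=
    (Nat.bijective_iff_injective_and_card f).mpr ⟨hf, by rw [hc, hcard]⟩
  exact ⟨(MulEquiv.ofBijective f hbij).trans g⟩

variable {G : Type u} [Group G] [Finite G]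

/-- the core of a subgroup of index three -/
theorem exists_core {T A : Subgroup G} (hTA : T ≤ A) (h3 : T.relIndex A = 3) :
    ∃ N : Subgroup G, N ≤ T ∧ A ≤ normalizer (N : Set G) ∧ N.relIndex T ∣ 2 := by
  set H : Subgroup ↥A := T.subgroupOf A with hH
  have hidx : H.index = 3 := h3
  refine ⟨H.normalCore.map A.subtype, ?_, ?_, ?_⟩
  · rintro _ ⟨x, hx, rfl⟩
    exact mem_subgroupOf.mp (H.normalCore_le hx)
  · intro a ha
    apply mem_normalizer_of_map_conj_le
    rintro _ ⟨_, ⟨n, hn, rfl⟩, rfl⟩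
    exact ⟨⟨a, ha⟩ * n * ⟨a, ha⟩⁻¹, H.normalCore_normal.conj_mem n hn _, rfl⟩
  · have h1 := core_index_dvd H
    rw [hidx] at h1
    have h2 := Subgroup.relIndex_mul_index H.normalCore_le
    have h4 : (H.normalCore.map A.subtype).relIndex T = H.normalCore.relIndex H := by
      have h5 : T = H.map A.subtype := by rw [hH, Subgroup.map_subgroupOf_eq_of_le hTA]
      conv_lhs => rw [h5]
      rw [Subgroup.relIndex_map_map_of_injective _ _ A.subtype_injective]
    rw [h4]
    rw [hidx] at h2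
    rw [← h2] at h1
    have h6 : (Nat.factorial 3) = 2 * 3 := rfl
    rw [h6] at h1
    exact Nat.dvd_of_mul_dvd_mul_right (by norm_num) h1

/-- the walk argument -/
theorem walk_bot {A B T R : Subgroup G} (hAB : A ⊔ B = ⊤) (hTA : T ≤ A)
    (hcore : ∀ N : Subgroup G, N.Normal → N ≤ A → N = ⊥) (hR : R ≤ T)
    (h1 : ∀ h ∈ A, ∃ n ∈ T, ∃ y ∈ normalizer (R : Set G), h = n * y)
    (h2 : ∀ h ∈ B, ∃ n ∈ T, ∃ y ∈ normalizer (R : Set G), h = n * y)
    (hTB : T ≤ B) : R = ⊥ := by
  have key : ∀ g : G, ∃ t ∈ T, ∃ l ∈ normalizer (R : Set G), g = t * l := by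
    intro g
    have hg : g ∈ closure ((A : Set G) ∪ (B : Set G)) := by
      rw [← sup_eq_closure, hAB]; exact mem_top g
    induction hg using Subgroup.closure_induction_left with
    | one => exact ⟨1, T.one_mem, 1, Subgroup.one_mem _, by simp⟩
    | mul_left x hx y _ ih =>
      obtain ⟨t, ht, l, hl, rfl⟩ := ih
      rcases hx with hx | hx
      · obtain ⟨n, hn, z, hz, e⟩ := h1 (x * t) (A.mul_mem hx (hTA ht))
        exact ⟨n, hn, z * l, Subgroup.mul_mem _ hz hl, by rw [← mul_assoc, e, mul_assoc]⟩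
      · obtain ⟨n, hn, z, hz, e⟩ := h2 (x * t) (B.mul_mem hx (hTB ht))
        exact ⟨n, hn, z * l, Subgroup.mul_mem _ hz hl, by rw [← mul_assoc, e, mul_assoc]⟩
    | inv_mul_cancel x hx y _ ih =>
      obtain ⟨t, ht, l, hl, rfl⟩ := ih
      rcases hx with hx | hx
      · obtain ⟨n, hn, z, hz, e⟩ := h1 (x⁻¹ * t) (A.mul_mem (A.inv_mem hx) (hTA ht))
        exact ⟨n, hn, z * l, Subgroup.mul_mem _ hz hl, by rw [← mul_assoc, e, mul_assoc]⟩
      · obtain ⟨n, hn, z, hz, e⟩ := h2 (x⁻¹ * t) (B.mul_mem (B.inv_mem hx) (hTB ht))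
        exact ⟨n, hn, z * l, Subgroup.mul_mem _ hz hl, by rw [← mul_assoc, e, mul_assoc]⟩
  have h3 : R ≤ A.normalCore := by
    intro x hx g
    obtain ⟨t, ht, l, hl, rfl⟩ := key g
    have h4 : l * x * l⁻¹ ∈ R := (mem_normalizer_iff.mp hl x).mp hx
    have h5 : t * l * x * (t * l)⁻¹ = t * (l * x * l⁻¹) * t⁻¹ := by group
    rw [h5]
    exact A.mul_mem (A.mul_mem (hTA ht) (hTA (hR h4))) (A.inv_mem (hTA ht))
  have h6 := hcore _ A.normalCore_normal A.normalCore_le
  rw [h6] at h3
  exact le_bot_iff.mp h3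

/-- the common stabilizer is a 2-group -/
theorem two_group {A B T : Subgroup G} (hAB : A ⊔ B = ⊤) (hTA : T ≤ A) (hTB : T ≤ B)
    (hcore : ∀ N : Subgroup G, N.Normal → N ≤ A → N = ⊥)
    (h1 : T.relIndex A = 3) (h2 : T.relIndex B = 3) : ∃ n : ℕ, Nat.card T = 2 ^ n := by
  have key : ∀ r : ℕ, r.Prime → r ∣ Nat.card T → r = 2 := by
    intro r hr hd
    by_contra hr2
    have : Fact r.Prime := ⟨hr⟩
    obtain ⟨R, hR⟩ := exists_isSyl r T
    have hcop : Nat.Coprime 2 r := by
      rw [Nat.coprime_primes Nat.prime_two hr]; exact fun e => hr2 e.symm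
    have aux : ∀ C : Subgroup G, T ≤ C → T.relIndex C = 3 →
        ∀ h ∈ C, ∃ n ∈ T, ∃ y ∈ normalizer (R : Set G), h = n * y := by
      intro C hTC hC h hh
      obtain ⟨N, hNT, hCN, hNd⟩ := exists_core hTC hC
      have hRN : R ≤ N := by
        intro x hx
        apply mem_of_pow_mem_of_isPGroup hR.pgroup hx hcop
        have hn : (N.subgroupOf T).Normal := normal_subgroupOf_of_le_normalizer (hTC.trans hCN)
        have h5 := Subgroup.pow_index_mem (N.subgroupOf T) (⟨x, hR.le hx⟩ : ↥T)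
        have h6 : x ^ (N.relIndex T) ∈ N := by
          unfold Subgroup.relIndex
          have := mem_subgroupOf.mp h5
          simpa using this
        obtain ⟨k, hk⟩ := hNd
        rw [hk, pow_mul]
        exact N.pow_mem h6 k
      have hS : IsSyl r R N := hR.of_le hRN hNT
      obtain ⟨n, hn, y, hy, e⟩ := hS.frattini (hNT.trans hTC) hCN hh
      exact ⟨n, hNT hn, y, hy.2, e⟩
    have hbot := walk_bot hAB hTA hcore hR.le (aux A hTA h1) (aux B hTB h2) hTB
    apply hR.ndvd
    rw [hbot, Subgroup.relIndex_bot_left]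
    exact hd
  exact ⟨_, Nat.eq_prime_pow_of_unique_prime_dvd Nat.card_pos.ne' (fun {d} hd hd2 => key d hd hd2)⟩

end Cfsg.Agent.Lib.H56SimsA
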