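import Cfsg.Agent.Lib.H56SimsA

/-!
Primitive groups with a suborbit of length three (helper56), identification of the stabilizer.
-/

set_option autoImplicit false
set_option linter.unusedSectionVars false

namespace Cfsg.Agent.Lib.H56SimsB

open Subgroup Cfsg.Agent.Lib Cfsg.Agent.Lib.LocBase Cfsg.Agent.Lib.AmG Cfsg.Agent.Lib.ZN Cfsg.Agent.Lib.TvStruct
open Cfsg.Agent.Lib.H56SimsA

universe u

variable {G : Type u} [Group G] [Finite G]

/-- the case where an element of order three centralizes `O₂` and `O₂ ≠ 1` -/
theorem dihedral_case {A T Q : Subgroup G} (hTA : T ≤ A) (hcardA : Nat.card A = 12) (hcardT : Nat.card T = 4)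
    (hQT : Q ≤ T) (hcardQ : Nat.card Q = 2) (hT2 : ∀ x ∈ T, x ^ 2 = 1) (hAQ : A ≤ centralizer (Q : Set G))
    {r : G} (hrA : r ∈ A) (hr : orderOf r = 3) (hTr : T ⊔ zpowers r = A) (hnT : ¬ A ≤ normalizer (T : Set G)) :
    Nonempty (↥A ≃* DihedralGroup 6) := by
  obtain ⟨z, hz, hz1⟩ := exists_gen_of_card_two hcardQ
  have hz2 : z * z = 1 := by rw [← pow_two]; exact hT2 z (hQT hz)
  have hzA : z ∈ A := hTA (hQT hz)
  have hzc : ∀ x ∈ A, z * x = x * z := fun x hx => mem_centralizer_iff.mp (hAQ hx) z hz
  have hrc : r ∉ centralizer (T : Set G) := by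
    intro h
    apply hnT
    rw [← hTr]
    refine sup_le le_normalizer ?_
    rw [zpowers_le]
    exact centralizer_le_normalizer _ h
  have hcr : Nat.card (zpowers r) = 3 := by rw [Nat.card_zpowers, hr]
  have hr3 : r ^ 3 = 1 := by rw [← hr]; exact pow_orderOf_eq_one r
  have hr1 : r ≠ 1 := by
    intro e; rw [e, orderOf_one] at hr; omega
  -- M = Q⟨r⟩
  have hrQ : zpowers r ≤ normalizer (Q : Set G) := by
    rw [zpowers_le]
    exact centralizer_le_normalizer _ (hAQ hrA)
  have hQA : Q ≤ A := hQT.trans hTA
  have hMcard : Nat.card (Q ⊔ zpowers r : Subgroup G) = 6 := by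
    rw [SubgroupTools.card_sup_of_coprime hrQ (by rw [hcardQ, hcr]; norm_num), hcardQ, hcr]
  have hMA : Q ⊔ zpowers r ≤ A := sup_le hQA (by rw [zpowers_le]; exact hrA)
  have hMidx : (Q ⊔ zpowers r).relIndex A = 2 := by
    have := SubgroupTools.card_mul_relIndex_of_le hMA
    rw [hMcard, hcardA] at this
    omega
  have hMn : ((Q ⊔ zpowers r).subgroupOf A).Normal := Subgroup.normal_of_index_eq_two hMidx
  have hconj : ∀ x ∈ A, x * r * x⁻¹ ∈ zpowers r := by
    intro x hx
    have h1 : x * r * x⁻¹ ∈ Q ⊔ zpowers r := by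
      have h2 := hMn.conj_mem (⟨r, hrA⟩ : ↥A)
        (mem_subgroupOf.mpr ((le_sup_right : zpowers r ≤ Q ⊔ zpowers r) (mem_zpowers r))) ⟨x, hx⟩
      exact mem_subgroupOf.mp h2
    obtain ⟨q, hq, s, hs, e⟩ := exists_mul_of_mem_sup_of_le hrQ h1
    have hqc : Commute q s := by
      have hsA : s ∈ A := (hMA) ((le_sup_right : zpowers r ≤ Q ⊔ zpowers r) hs)
      exact mem_centralizer_iff.mp (hAQ hsA) q hq
    have hs3 : s ^ 3 = 1 := by
      obtain ⟨k, rfl⟩ := mem_zpowers_iff.mp hs
      rw [← zpow_natCast, ← zpow_mul, mul_comm, zpow_mul, zpow_natCast, hr3, one_zpow]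
    have h3 : (x * r * x⁻¹) ^ 3 = 1 := by rw [conj_pow, hr3]; group
    rw [e, hqc.mul_pow, hs3, mul_one] at h3
    have h4 : q ^ 2 = 1 := hT2 q (hQT hq)
    have h5 : q = 1 := by
      calc q = q ^ 3 * (q ^ 2)⁻¹ := by group
        _ = 1 := by rw [h3, h4]; simp
    rw [e, h5, one_mul]; exact hs
  -- an element of T outside Q
  obtain ⟨t, htT, htQ⟩ : ∃ t ∈ T, t ∉ Q := by
    by_contra hcon
    push Not at hcon
    have h1 : T ≤ Q := hcon
    have := card_le_of_le h1
    omega
  have ht2 : t * t = 1 := by rw [← pow_two]; exact hT2 t htT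
  have htA : t ∈ A := hTA htT
  have htinv : t⁻¹ = t := inv_eq_of_mul_eq_one_left ht2
  -- T = Q ∪ tQ
  have hTel : ∀ x ∈ T, x ∈ Q ∨ t * x ∈ Q := by
    intro x hx
    by_cases hxQ : x ∈ Q
    · exact Or.inl hxQ
    · right
      have hidx : (Q.subgroupOf T).index = 2 := by
        have := SubgroupTools.card_mul_relIndex_of_le hQT
        rw [hcardQ, hcardT] at this
        unfold Subgroup.relIndex at this
        omega
      have h1 := (Subgroup.mul_mem_iff_of_index_two hidx (a := (⟨t, htT⟩ : ↥T)) (b := (⟨x, hx⟩ : ↥T))).mpr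
        (by rw [mem_subgroupOf, mem_subgroupOf]; exact iff_of_false htQ hxQ)
      exact mem_subgroupOf.mp h1
  have htr : ¬ t * r = r * t := by
    intro h
    apply hrc
    rw [mem_centralizer_iff]
    intro x hx
    rcases hTel x hx with h1 | h1
    · exact mem_centralizer_iff.mp (hAQ hrA) x h1
    · have h2 := mem_centralizer_iff.mp (hAQ hrA) (t * x) h1
      have h3 : x = t * (t * x) := by rw [← mul_assoc, ht2, one_mul]
      calc x * r = t * ((t * x) * r) := by rw [← mul_assoc, ← h3]
        _ = t * (r * (t * x)) := by rw [h2]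
        _ = (t * r) * (t * x) := by group
        _ = (r * t) * (t * x) := by rw [h]
        _ = r * (t * (t * x)) := by group
        _ = r * x := by rw [← h3]
  have hinv : t * r * t = r⁻¹ := by
    classical
    have h1 := hconj t htA
    rw [htinv] at h1
    have h2 : t * r * t ∈ zpowers r := h1
    rw [mem_zpowers_iff_mem_range_orderOf, hr, Finset.mem_image] at h2
    obtain ⟨k, hk, e⟩ := h2
    rw [Finset.mem_range] at hk
    have e' : r ^ k = t * r * t := e
    interval_cases k
    · exfalso
      apply hr1
      have : r = t * (t * r * t) * t := by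
        calc r = (t * t) * r * (t * t) := by rw [ht2]; group
          _ = _ := by group
      rw [this, ← e', pow_zero, mul_one, ht2]
    · exfalso
      apply htr
      rw [pow_one] at e'
      calc t * r = t * r * (t * t) := by rw [ht2, mul_one]
        _ = (t * r * t) * t := by group
        _ = r * t := by rw [← e']
    · rw [← e', eq_inv_iff_mul_eq_one, ← pow_succ, hr3]
  have hzr : Commute z r := hzc r hrA
  have hzo : orderOf z = 2 := orderOf_eq_prime (by rw [pow_two, hz2]) hz1
  have ho : orderOf (z * r) = 6 := by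
    rw [hzr.orderOf_mul_eq_mul_orderOf_of_coprime (by rw [hzo, hr]; norm_num), hzo, hr]
  have hoA : orderOf (⟨z * r, A.mul_mem hzA hrA⟩ : ↥A) = 6 := by
    rw [← Subgroup.orderOf_coe]; exact ho
  apply DihRec.dihedral_of_gens 6 (⟨z * r, A.mul_mem hzA hrA⟩ : ↥A) ⟨t, htA⟩ (by norm_num) hoA
    (by rw [hcardA])
  · intro h
    obtain ⟨k, hk⟩ := mem_zpowers_iff.mp h
    have h1 : (z * r) ^ k = t := congrArg Subtype.val hk
    apply htr
    have h2 : Commute (z * r) r := hzr.mul_left (Commute.refl r)
    have h3 : Commute ((z * r) ^ k) r := h2.zpow_left k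
    rw [h1] at h3
    exact h3
  · exact Subtype.ext ht2
  · apply Subtype.ext
    show (t * (z * r)) * (t * (z * r)) = 1
    calc (t * (z * r)) * (t * (z * r)) = t * (z * (r * t)) * (z * r) := by group
      _ = t * ((r * t) * z) * (z * r) := by rw [hzc (r * t) (A.mul_mem hrA htA)]
      _ = (t * r * t) * (z * z) * r := by group
      _ = 1 := by rw [hinv, hz2]; group

theorem sym_three_case {A T : Subgroup G} (hTA : T ≤ A) (hcardA : Nat.card A = 6) (h3 : T.relIndex A = 3)
    (hbot : ∀ N ≤ T, A ≤ normalizer (N : Set G) → N = ⊥) : Nonempty (↥A ≃* Equiv.Perm (Fin 3)) := by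
  apply perm_of_core (T.subgroupOf A) 3 h3 (by rw [hcardA]; rfl)
  intro N hN hle
  have h1 : N.map A.subtype ≤ T := by
    rintro _ ⟨n, hn, rfl⟩
    exact mem_subgroupOf.mp (hle hn)
  have h2 : A ≤ normalizer ((N.map A.subtype : Subgroup G) : Set G) := by
    intro x hx
    apply mem_normalizer_of_map_conj_le
    rintro _ ⟨_, ⟨n, hn, rfl⟩, rfl⟩
    exact ⟨⟨x, hx⟩ * n * ⟨x, hx⟩⁻¹, hN.conj_mem n hn _, rfl⟩
  have h4 := hbot _ h1 h2
  rwa [Subgroup.map_eq_bot_iff_of_injective _ A.subtype_injective] at h4

theorem main_list {A T : Subgroup G} (g : G) (hgT : g ∈ normalizer (T : Set G))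
    (hAB : A ⊔ A.map (MulAut.conj g).toMonoidHom = ⊤) (hTA : T ≤ A) (h3 : T.relIndex A = 3)
    (hcoatom : IsCoatom A) (hcore : ∀ N : Subgroup G, N.Normal → N ≤ A → N = ⊥)
    {n : ℕ} (hcT : Nat.card T = 2 ^ n) :
    Nonempty (↥A ≃* Multiplicative (ZMod 3)) ∨ Nonempty (↥A ≃* Equiv.Perm (Fin 3)) ∨
      Nonempty (↥A ≃* DihedralGroup 6) ∨ Nonempty (↥A ≃* Equiv.Perm (Fin 4)) ∨
      Nonempty (↥A ≃* Equiv.Perm (Fin 4) × Multiplicative (ZMod 2)) := by
  have hf2 : Fact (Nat.Prime 2) := ⟨Nat.prime_two⟩
  have hTp : IsPGroup 2 T := IsPGroup.of_card hcT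
  have hsyl : IsSyl 2 T A := ⟨hTA, hTp, by rw [h3]; norm_num⟩
  have hcardA : Nat.card A = 3 * Nat.card T := by
    have := SubgroupTools.card_mul_relIndex_of_le hTA
    rw [h3] at this; omega
  have hgTe : T.map (MulAut.conj g).toMonoidHom = T := map_conj_eq_of_mem hgT
  have faith : ∀ N ≤ T, A ≤ normalizer (N : Set G) → A.map (MulAut.conj g).toMonoidHom ≤ normalizer (N : Set G) →
      N = ⊥ := by
    intro N hN h1 h2
    apply hcore N _ (hN.trans hTA)
    rw [← Subgroup.normalizer_eq_top_iff, eq_top_iff, ← hAB]
    exact sup_le h1 h2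
  by_cases hnT : A ≤ normalizer (T : Set G)
  · left
    have h1 : A.map (MulAut.conj g).toMonoidHom ≤ normalizer (T : Set G) := by
      have := map_conj_mono g hnT
      rwa [map_conj_normalizer, hgTe] at this
    have hT1 := faith T le_rfl hnT h1
    have hc : Nat.card A = 3 := by rw [hcardA, hT1, card_bot]
    have : Fact (Nat.Prime 3) := ⟨Nat.prime_three⟩
    have i1 : IsCyclic ↥A := isCyclic_of_prime_card hc
    have h2 : Nat.card (Multiplicative (ZMod 3)) = 3 := by
      rw [Nat.card_eq_of_bijective Multiplicative.toAdd Multiplicative.toAdd.bijective, Nat.card_zmod]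
    have i2 : IsCyclic (Multiplicative (ZMod 3)) := isCyclic_of_prime_card h2
    exact ⟨mulEquivOfCyclicCardEq (hc.trans h2.symm)⟩
  · set Q := Cfsg.pCoreOf 2 A with hQ
    have hQT : Q ≤ T := hsyl.pCoreOf_le
    have hAQ : A ≤ normalizer (Q : Set G) := le_normalizer_pCoreOf 2 A
    have hQle : ∀ N ≤ T, A ≤ normalizer (N : Set G) → N ≤ Q := fun N hN h1 =>
      le_pCoreOf (hN.trans hTA) h1 (isPGroup_mono hTp hN)
    have hQidx : Q.relIndex T = 2 := by
      obtain ⟨N, hNT, hN, hNd⟩ := exists_core hTA h3
      have h1 : Q.relIndex T ∣ 2 := (Subgroup.relIndex_dvd_of_le_left T (hQle N hNT hN)).trans hNd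
      rcases (Nat.dvd_prime Nat.prime_two).mp h1 with e | e
      · exfalso
        have h2 : T ≤ Q := Subgroup.relIndex_eq_one.mp e
        apply hnT
        rw [le_antisymm h2 hQT]; exact hAQ
      · exact e
    have hcQ : Nat.card T = 2 * Nat.card Q := by
      have := SubgroupTools.card_mul_relIndex_of_le hQT
      rw [hQidx] at this; omega
    by_cases hcent : centralizer (Q : Set G) ≤ Q
    · have hsp : SP T A g 3 := by
        refine ⟨hsyl, hcent, ?_, Nat.prime_three, hgT, faith⟩
        rw [← Subgroup.relIndex_mul_relIndex Q T A hQT hTA, hQidx, h3]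
      rcases hsp.final with e | e
      · exact Or.inr (Or.inr (Or.inr (Or.inl e)))
      · exact Or.inr (Or.inr (Or.inr (Or.inr e)))
    · by_cases hQ1 : Q = ⊥
      · right; left
        have hc : Nat.card A = 6 := by rw [hcardA, hcQ, hQ1, card_bot]
        apply sym_three_case hTA hc h3
        intro N hN h1
        rw [eq_bot_iff, ← hQ1]
        exact hQle N hN h1
      · right; right; left
        have hNQ : normalizer (Q : Set G) = A := by
          by_contra hcon
          have h1 : A < normalizer (Q : Set G) := lt_of_le_of_ne hAQ (Ne.symm hcon)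
          have h2 := hcoatom.2 _ h1
          exact hQ1 (hcore Q (Subgroup.normalizer_eq_top_iff.mp h2) (hQT.trans hTA))
        have hCA : centralizer (Q : Set G) ≤ A := by
          rw [← hNQ]; exact centralizer_le_normalizer _
        have hC3 : 3 ∣ Nat.card (centralizer (Q : Set G)) := by
          by_contra hcon
          apply hcent
          have h1 : Nat.card (centralizer (Q : Set G)) ∣ 3 * 2 ^ n := by
            rw [← hcT, ← hcardA]; exact Subgroup.card_dvd_of_le hCA
          have h2 : Nat.Coprime (Nat.card (centralizer (Q : Set G))) 3 := by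
            rw [Nat.coprime_comm]
            exact (Nat.Prime.coprime_iff_not_dvd Nat.prime_three).mpr hcon
          have h3' := h2.dvd_of_dvd_mul_left h1
          obtain ⟨k, _, hk⟩ := (Nat.dvd_prime_pow Nat.prime_two).mp h3'
          exact le_pCoreOf hCA (le_normalizer_centralizer hAQ) (IsPGroup.of_card hk)
        have : Fact (Nat.Prime 3) := ⟨Nat.prime_three⟩
        obtain ⟨r', hr'⟩ := exists_prime_orderOf_dvd_card' 3 hC3
        set r : G := (r' : G) with hrdef
        have hr : orderOf r = 3 := by rw [hrdef, Subgroup.orderOf_coe]; exact hr'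
        have hrC : r ∈ centralizer (Q : Set G) := r'.2
        have hrA : r ∈ A := hCA hrC
        have hrT : r ∉ T := by
          intro h
          have h1 : orderOf r ∣ Nat.card T := Subgroup.orderOf_dvd_natCard T h
          rw [hr, hcT] at h1
          have := Nat.Prime.dvd_of_dvd_pow Nat.prime_three h1
          omega
        have hTr : T ⊔ zpowers r = A := by
          apply le_antisymm (sup_le hTA (by rw [zpowers_le]; exact hrA))
          have hle : T ⊔ zpowers r ≤ A := sup_le hTA (by rw [zpowers_le]; exact hrA)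
          have h1 := Subgroup.relIndex_mul_relIndex T (T ⊔ zpowers r) A le_sup_left hle
          rw [h3] at h1
          have h2 : T.relIndex (T ⊔ zpowers r) ∣ 3 := Dvd.intro _ h1
          rcases (Nat.dvd_prime Nat.prime_three).mp h2 with e | e
          · exfalso
            have h4 := Subgroup.relIndex_eq_one.mp e
            exact hrT (h4 ((le_sup_right : zpowers r ≤ T ⊔ zpowers r) (mem_zpowers r)))
          · rw [e] at h1
            have h5 : (T ⊔ zpowers r).relIndex A = 1 := by omega
            exact Subgroup.relIndex_eq_one.mp h5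
        -- squares
        have hsqQ : sqs T ≤ Q := by
          unfold sqs
          rw [closure_le]
          rintro _ ⟨x, hx, rfl⟩
          have := Subgroup.sq_mem_of_index_two (H := Q.subgroupOf T) hQidx (⟨x, hx⟩ : ↥T)
          exact mem_subgroupOf.mp this
        have hsqA : A ≤ normalizer (sqs T : Set G) := by
          rw [← hTr]
          refine sup_le (le_normalizer_sqs le_normalizer) ?_
          rw [zpowers_le]
          apply centralizer_le_normalizer
          exact centralizer_le (SetLike.coe_subset_coe.mpr hsqQ) hrC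
        have hgsq : g ∈ normalizer (sqs T : Set G) := by
          have h1 : zpowers g ≤ normalizer (T : Set G) := by rw [zpowers_le]; exact hgT
          exact le_normalizer_sqs h1 (mem_zpowers g)
        have hsq : sqs T = ⊥ := by
          apply faith _ (hsqQ.trans hQT) hsqA
          have := map_conj_mono g hsqA
          rwa [map_conj_normalizer, map_conj_eq_of_mem hgsq] at this
        have hT2 : ∀ x ∈ T, x ^ 2 = 1 := by
          intro x hx
          have h1 : x ^ 2 ∈ sqs T := subset_closure ⟨x, hx, rfl⟩
          rw [hsq, mem_bot] at h1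
          exact h1
        have hTcomm : T ≤ centralizer (T : Set G) := by
          intro x hx
          rw [mem_centralizer_iff]
          intro y hy
          have h1 := hT2 x hx
          have h2 := hT2 y hy
          have h4 := hT2 _ (T.mul_mem hx hy)
          rw [pow_two] at h1 h2 h4
          calc y * x = (x * x) * (y * x) * (y * y) := by rw [h1, h2, one_mul, mul_one]
            _ = x * ((x * y) * (x * y)) * y := by group
            _ = x * y := by rw [h4, mul_one]
        have hAcQ : A ≤ centralizer (Q : Set G) := by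
          rw [← hTr]
          refine sup_le (hTcomm.trans (centralizer_le (SetLike.coe_subset_coe.mpr hQT))) ?_
          rw [zpowers_le]; exact hrC
        set Q' := Q.map (MulAut.conj g).toMonoidHom with hQ'
        have hQ'T : Q' ≤ T := by
          have := map_conj_mono g hQT
          rwa [hgTe] at this
        have hinf : Q ⊓ Q' = ⊥ := by
          apply faith _ (inf_le_left.trans hQT)
          · exact (hAcQ.trans (centralizer_le (SetLike.coe_subset_coe.mpr inf_le_left))).trans
              (centralizer_le_normalizer _)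
          · have h1 := map_conj_mono g hAcQ
            rw [map_conj_centralizer] at h1
            exact (h1.trans (centralizer_le (SetLike.coe_subset_coe.mpr inf_le_right))).trans
              (centralizer_le_normalizer _)
        have hQ'n : Q' ≤ normalizer (Q : Set G) :=
          (hQ'T.trans hTA).trans hAQ
        have h5 := SubgroupTools.card_sup_mul_card_inf hQ'n
        rw [hinf, card_bot, mul_one, hQ', card_map_conj] at h5
        have h6 := card_le_of_le (sup_le hQT hQ'T)
        rw [← hQ'] at h5
        rw [h5, hcQ] at h6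
        have h7 : 0 < Nat.card Q := Nat.card_pos
        have h8 : Nat.card Q ≤ 2 := Nat.le_of_mul_le_mul_right h6 h7
        have h9 : Nat.card Q = 2 := by
          by_contra hcon
          apply hQ1
          apply Subgroup.eq_bot_of_card_eq
          omega
        apply dihedral_case hTA (by rw [hcardA, hcQ, h9]) (by rw [hcQ, h9]) hQT h9 hT2 hAcQ hrA hr hTr hnT

end Cfsg.Agent.Lib.H56SimsB
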