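import Cfsg.Agent.Lib.H56SimsB

/-!
Primitive groups with a suborbit of length three (helper56), permutation form.
-/

set_option autoImplicit false
set_option linter.unusedSectionVars false

namespace Cfsg.Agent.Lib.H56SimsC

open Subgroup MulAction Cfsg.Agent.Lib Cfsg.Agent.Lib.LocBase
open Cfsg.Agent.Lib.H56SimsA Cfsg.Agent.Lib.H56SimsB

universe u

theorem sims_three {G : Type u} [Group G] [Finite G] {Ω : Type*} [MulAction G Ω] [FaithfulSMul G Ω]
    (hprim : MulAction.IsPreprimitive G Ω) (a b : Ω)
    (h3 : Nat.card (MulAction.orbit (MulAction.stabilizer G a) b) = 3) :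
    Nonempty (MulAction.stabilizer G a ≃* Multiplicative (ZMod 3)) ∨ Nonempty (MulAction.stabilizer G a ≃* Equiv.Perm (Fin 3)) ∨
      Nonempty (MulAction.stabilizer G a ≃* DihedralGroup 6) ∨ Nonempty (MulAction.stabilizer G a ≃* Equiv.Perm (Fin 4)) ∨
      Nonempty (MulAction.stabilizer G a ≃* Equiv.Perm (Fin 4) × Multiplicative (ZMod 2)) := by
  have hf2 : Fact (Nat.Prime 2) := ⟨Nat.prime_two⟩
  have hpt : IsPretransitive G Ω := hprim.toIsPretransitive
  have hnt : Nontrivial Ω := by
    by_contra hcon
    rw [not_nontrivial_iff_subsingleton] at hcon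
    have : Subsingleton (orbit (stabilizer G a) b) := inferInstance
    have h1 : Nat.card (orbit (stabilizer G a) b) ≤ 1 := Finite.card_le_one_iff_subsingleton.mpr this
    omega
  have hcoatom : IsCoatom (stabilizer G a) := (isCoatom_stabilizer_iff_preprimitive G a).mpr hprim
  have hcore : ∀ N : Subgroup G, N.Normal → N ≤ stabilizer G a → N = ⊥ := by
    intro N hN hle
    rw [eq_bot_iff]
    intro x hx
    rw [mem_bot]
    apply FaithfulSMul.eq_of_smul_eq_smul (α := Ω)
    intro c
    rw [one_smul]
    obtain ⟨k, rfl⟩ := exists_smul_eq G a c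
    have h1 : k⁻¹ * x * k ∈ N := by
      have := hN.conj_mem x hx k⁻¹
      simpa using this
    have h2 := mem_stabilizer_iff.mp (hle h1)
    rw [mul_smul, mul_smul, inv_smul_eq_iff] at h2
    exact h2
  obtain ⟨g0, hg0⟩ := exists_smul_eq G a b
  set A := stabilizer G a with hA
  set B := stabilizer G b with hB
  have hBA : A.map (MulAut.conj g0).toMonoidHom = B := by
    rw [hB, ← hg0, stabilizer_smul_eq_stabilizer_map_conj]
  set T := A ⊓ B with hT
  have hTA : T ≤ A := inf_le_left
  have hTB : T ≤ B := inf_le_right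
  have hidx : T.relIndex A = 3 := by
    have h1 : (stabilizer A b).index = 3 := by rw [index_stabilizer, ← Nat.card_coe_set_eq]; exact h3
    have h2 : T.subgroupOf A = stabilizer A b := by
      ext x
      rw [mem_subgroupOf, mem_stabilizer_iff, hT, Subgroup.mem_inf]
      constructor
      · intro h; exact mem_stabilizer_iff.mp h.2
      · intro h; exact ⟨x.2, mem_stabilizer_iff.mpr h⟩
    unfold Subgroup.relIndex
    rw [h2]; exact h1
  have hcAB : Nat.card B = Nat.card A := by rw [← hBA, card_map_conj]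
  have hidxB : T.relIndex B = 3 := by
    have e1 := SubgroupTools.card_mul_relIndex_of_le hTA
    have e2 := SubgroupTools.card_mul_relIndex_of_le hTB
    rw [hcAB, ← e1, hidx] at e2
    exact Nat.eq_of_mul_eq_mul_left Nat.card_pos e2
  have hAB : A ⊔ B = ⊤ := by
    apply hcoatom.2
    refine lt_of_le_of_ne le_sup_left ?_
    intro e
    have h1 : B ≤ A := by rw [e]; exact le_sup_right
    have h2 : T = B := le_antisymm hTB (le_inf h1 le_rfl)
    rw [h2, Subgroup.relIndex_self] at hidxB
    omega
  obtain ⟨n, hn⟩ := two_group hAB hTA hTB hcore hidx hidxB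
  have hTp : IsPGroup 2 T := IsPGroup.of_card hn
  have hsylB : IsSyl 2 T B := ⟨hTB, hTp, by rw [hidxB]; norm_num⟩
  have hsylA : IsSyl 2 T A := ⟨hTA, hTp, by rw [hidx]; norm_num⟩
  have h4 := hsylA.map_conj g0
  rw [hBA] at h4
  obtain ⟨k, hk, e⟩ := hsylB.conj h4
  have hg : k * g0 ∈ normalizer (T : Set G) := by
    apply mem_normalizer_of_map_conj_eq
    rw [map_conj_mul]; exact e
  have hgA : A.map (MulAut.conj (k * g0)).toMonoidHom = B := by
    rw [map_conj_mul, hBA]
    exact map_conj_eq_of_mem (le_normalizer hk)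
  exact main_list (k * g0) hg (by rw [hgA]; exact hAB) hTA hidx hcoatom hcore hn

end Cfsg.Agent.Lib.H56SimsC
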