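import Mathlib

set_option autoImplicit false

/-! Finite field facts for the universal Schmidt group (S4395). -/

namespace Cfsg.Agent.Lib.H56Univ

open Polynomial

/-- `K` has order `p ^ a`, `a` the order of `p` modulo `q`, and `l` is a primitive `q`-th root of unity. -/
structure FD (p q a : ℕ) {K : Type*} [Field K] (l : K) : Prop where
  hp : p.Prime
  hq : q.Prime
  hpq : p ≠ q
  ha : a = orderOf (p : ZMod q)
  card : Nat.card K = p ^ a
  lq : l ^ q = 1
  l1 : l ≠ 1

namespace FD

variable {p q a : ℕ} {K : Type*} [Field K] {l : K}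

theorem coprime (h : FD p q a l) : Nat.Coprime p q := (Nat.coprime_primes h.hp h.hq).2 h.hpq

theorem a_pos (h : FD p q a l) : 0 < a := by
  haveI := Fact.mk h.hq
  rw [h.ha]
  have hu : IsUnit (p : ZMod q) := (ZMod.isUnit_iff_coprime p q).2 h.coprime
  obtain ⟨u, hu⟩ := hu
  rw [← hu, orderOf_units]
  exact orderOf_pos u

theorem finite (h : FD p q a l) : Finite K := by
  apply Nat.finite_of_card_ne_zero
  rw [h.card]
  exact pow_ne_zero _ h.hp.ne_zero

theorem l0 (h : FD p q a l) : l ≠ 0 := by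
  intro h0
  have := h.lq
  rw [h0, zero_pow h.hq.ne_zero] at this
  exact zero_ne_one this

theorem orderOf_l (h : FD p q a l) : orderOf l = q := by
  haveI := Fact.mk h.hq
  exact orderOf_eq_prime h.lq h.l1

theorem prim (h : FD p q a l) : IsPrimitiveRoot l q := h.orderOf_l ▸ IsPrimitiveRoot.orderOf l

/-- `q ∣ p ^ s - 1` iff `a ∣ s`. -/
theorem dvd_of_pow (h : FD p q a l) {s : ℕ} (hs : l ^ p ^ s = l) : a ∣ s := by
  haveI := Fact.mk h.hq
  rw [h.ha, orderOf_dvd_iff_pow_eq_one]
  have h1 : l ^ (p ^ s - 1) = 1 := by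
    have h2 : l ^ (p ^ s - 1) * l = 1 * l := by
      rw [← pow_succ, Nat.sub_add_cancel (Nat.one_le_pow _ _ h.hp.pos), hs, one_mul]
    exact mul_right_cancel₀ h.l0 h2
  have h2 : q ∣ p ^ s - 1 := by
    rw [← h.orderOf_l]; exact orderOf_dvd_of_pow_eq_one h1
  have h3 := (Nat.modEq_iff_dvd' (Nat.one_le_pow s p h.hp.pos)).2 h2
  have h4 := (ZMod.natCast_eq_natCast_iff _ _ _).2 h3
  push_cast at h4
  exact h4.symm

/-- a subring containing `l` is everything. -/
theorem subring_top (h : FD p q a l) (S : Subring K) (hl : l ∈ S) : S = ⊤ := by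
  haveI := h.finite
  haveI := Fact.mk h.hp
  have hdvd : Nat.card S ∣ p ^ a := by
    rw [← h.card]
    exact AddSubgroup.card_addSubgroup_dvd_card S.toAddSubgroup
  obtain ⟨s, hs, hcard⟩ := (Nat.dvd_prime_pow h.hp).1 hdvd
  have hs0 : s ≠ 0 := by
    rintro rfl
    rw [pow_zero] at hcard
    have h1 := (Nat.card_eq_one_iff_unique.1 hcard).1
    have h2 : (⟨1, S.one_mem⟩ : S) = ⟨0, S.zero_mem⟩ := Subsingleton.elim _ _
    exact one_ne_zero (congrArg Subtype.val h2)
  have hfield : IsField S := Finite.isDomain_to_isField S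
  letI : Field S := hfield.toField
  letI : Fintype S := Fintype.ofFinite S
  have h1 : (⟨l, hl⟩ : S) ^ Fintype.card S = ⟨l, hl⟩ := FiniteField.pow_card _
  rw [← Nat.card_eq_fintype_card, hcard] at h1
  have h2 : l ^ p ^ s = l := congrArg Subtype.val h1
  have h3 := Nat.le_of_dvd (Nat.pos_of_ne_zero hs0) (h.dvd_of_pow h2)
  have h4 : S.toAddSubgroup = ⊤ := by
    apply AddSubgroup.eq_top_of_le_card
    show Nat.card K ≤ Nat.card S
    rw [hcard, h.card]
    exact Nat.pow_le_pow_right h.hp.pos h3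
  rw [eq_top_iff]
  intro x _
  have : x ∈ S.toAddSubgroup := by rw [h4]; trivial
  exact this

/-- an additive subgroup stable under `l` is trivial or everything. -/
theorem irred (h : FD p q a l) (V : AddSubgroup K) (hV : ∀ v ∈ V, l * v ∈ V) : V = ⊥ ∨ V = ⊤ := by
  let S : Subring K :=
    { carrier := {c | ∀ v ∈ V, c * v ∈ V}
      mul_mem' := by
        intro c d hc hd v hv
        rw [mul_assoc]; exact hc _ (hd v hv)
      one_mem' := by
        intro v hv
        rwa [one_mul]
      add_mem' := by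
        intro c d hc hd v hv
        rw [add_mul]; exact add_mem (hc v hv) (hd v hv)
      zero_mem' := by
        intro v _
        rw [zero_mul]; exact zero_mem _
      neg_mem' := by
        intro c hc v hv
        rw [neg_mul]; exact neg_mem (hc v hv) }
  have hS : S = ⊤ := h.subring_top S hV
  by_cases hb : V = ⊥
  · exact Or.inl hb
  · right
    rw [eq_top_iff]
    intro x _
    obtain ⟨v, hv, hv0⟩ : ∃ v ∈ V, v ≠ 0 := by
      by_contra hcon
      push Not at hcon
      apply hb
      rw [eq_bot_iff]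
      intro v hv
      exact hcon v hv
    have h1 : x * v⁻¹ ∈ S := by rw [hS]; trivial
    have h2 := h1 v hv
    rwa [mul_assoc, inv_mul_cancel₀ hv0, mul_one] at h2

/-- a subfield containing `l + l⁻¹`. -/
theorem subfield_card (h : FD p q a l) (T : Subfield K) (hT : l + l⁻¹ ∈ T) :
    ∃ s, Nat.card T = p ^ s ∧ a ≤ 2 * s ∧ (a % 2 = 1 → s = a) := by
  haveI := h.finite
  haveI := Fact.mk h.hp
  haveI : Fintype K := Fintype.ofFinite K
  haveI : Fintype T := Fintype.ofFinite T
  have hl0 := h.l0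
  -- `K = T + T l`
  let S : Subring K :=
    { carrier := {x | ∃ c ∈ T, ∃ d ∈ T, x = c + d * l}
      mul_mem' := by
        rintro _ _ ⟨c, hc, d, hd, rfl⟩ ⟨c', hc', d', hd', rfl⟩
        refine ⟨c * c' - d * d', sub_mem (mul_mem hc hc') (mul_mem hd hd'),
          c * d' + d * c' + d * d' * (l + l⁻¹),
          add_mem (add_mem (mul_mem hc hd') (mul_mem hd hc')) (mul_mem (mul_mem hd hd') hT), ?_⟩
        field_simp
        ring
      one_mem' := ⟨1, one_mem _, 0, zero_mem _, by ring⟩
      add_mem' := by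
        rintro _ _ ⟨c, hc, d, hd, rfl⟩ ⟨c', hc', d', hd', rfl⟩
        exact ⟨c + c', add_mem hc hc', d + d', add_mem hd hd', by ring⟩
      zero_mem' := ⟨0, zero_mem _, 0, zero_mem _, by ring⟩
      neg_mem' := by
        rintro _ ⟨c, hc, d, hd, rfl⟩
        exact ⟨-c, neg_mem hc, -d, neg_mem hd, by ring⟩ }
  have hS : S = ⊤ := h.subring_top S ⟨0, zero_mem _, 1, one_mem _, by ring⟩
  have hle : Nat.card K ≤ Nat.card T * Nat.card T := by
    rw [← Nat.card_prod]
    apply Nat.card_le_card_of_surjective (fun c : T × T => (c.1 : K) + c.2 * l)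
    intro x
    have hx : x ∈ S := by rw [hS]; trivial
    obtain ⟨c, hc, d, hd, hx⟩ := hx
    exact ⟨(⟨c, hc⟩, ⟨d, hd⟩), hx.symm⟩
  have hpow : Nat.card K = Nat.card T ^ Module.finrank T K := by
    rw [Nat.card_eq_fintype_card, Nat.card_eq_fintype_card]
    exact Module.card_eq_pow_finrank
  have hdvd : Nat.card T ∣ p ^ a := by
    rw [← h.card]
    exact AddSubgroup.card_addSubgroup_dvd_card T.toSubring.toAddSubgroup
  obtain ⟨s, hs, hcard⟩ := (Nat.dvd_prime_pow h.hp).1 hdvd
  have h2s : a ≤ 2 * s := by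
    rw [h.card, hcard, ← pow_add] at hle
    have := (Nat.pow_le_pow_iff_right h.hp.one_lt).1 hle
    omega
  refine ⟨s, hcard, h2s, ?_⟩
  intro ha
  rw [h.card, hcard, ← pow_mul] at hpow
  have h1 := Nat.pow_right_injective h.hp.two_le hpow
  have ha0 := h.a_pos
  have h3 : Module.finrank T K ≤ 2 := by
    by_contra hcon
    push Not at hcon
    have h4 : s * 3 ≤ s * Module.finrank T K := Nat.mul_le_mul_left s hcon
    omega
  obtain ⟨d, hd⟩ : ∃ d, d = Module.finrank T K := ⟨_, rfl⟩
  rw [← hd] at h1 h3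
  interval_cases d
  · omega
  · omega
  · omega

end FD

end Cfsg.Agent.Lib.H56Univ
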