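import Mathlib
import Cfsg.Agent.Lib.H56UnivA
import Cfsg.Agent.Lib.H56Schmidt

set_option autoImplicit false

/-! Modules over the group of order `q`, coverings of the standard module and the order bound (S4395). -/

namespace Cfsg.Agent.Lib.H56Univ

open Polynomial Subgroup
open Cfsg.Agent.Lib.H56Schmidt

open scoped commutatorElement

variable {p q a : ℕ} {K : Type*} [Field K] {l : K}

/-- an irreducible module is isomorphic to `K`. -/
theorem exists_iso_aux (h : FD p q a l) [Algebra (ZMod p) K] {W : Type*} [AddCommGroup W] [Module (ZMod p) W]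
    (Y : W →ₗ[ZMod p] W) (hY : Y ^ q = 1) (hY1 : Y ≠ 1)
    (hirr : ∀ V : Submodule (ZMod p) W, (∀ v ∈ V, Y v ∈ V) → V = ⊥ ∨ V = ⊤) :
    ∃ (m : K) (_ : FD p q a m) (e : W →ₗ[ZMod p] K), Function.Bijective e ∧ ∀ w, e (Y w) = m * e w := by
  haveI := Fact.mk h.hp
  haveI := Fact.mk h.hq
  obtain ⟨w0, hw0⟩ : ∃ w0 : W, w0 ≠ 0 := by
    by_contra hcon
    push Not at hcon
    apply hY1
    ext w
    rw [hcon (Y w), hcon ((1 : W →ₗ[ZMod p] W) w)]
  let θ : (ZMod p)[X] →ₗ[ZMod p] W := (LinearMap.applyₗ w0).comp (aeval Y).toLinearMap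
  have hθ : ∀ f, θ f = (aeval Y f) w0 := fun f => rfl
  have hθm : ∀ f g, θ (f * g) = (aeval Y f) (θ g) := by
    intro f g
    rw [hθ, hθ, map_mul]
    rfl
  have hθX : ∀ f, θ (X * f) = Y (θ f) := by
    intro f
    rw [hθm, aeval_X]
  have hθ1 : θ 1 = w0 := by
    rw [hθ, map_one]; rfl
  have hsurj : LinearMap.range θ = ⊤ := by
    rcases hirr (LinearMap.range θ) (by
      rintro _ ⟨f, rfl⟩
      exact ⟨X * f, hθX f⟩) with h1 | h1
    · exfalso
      apply hw0
      have : w0 ∈ LinearMap.range θ := ⟨1, hθ1⟩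
      rw [h1] at this
      exact this
    · exact h1
  let I : Ideal (ZMod p)[X] :=
    { carrier := {f | θ f = 0}
      add_mem' := by
        intro f g hf hg
        show θ (f + g) = 0
        rw [map_add, show θ f = 0 from hf, show θ g = 0 from hg, add_zero]
      zero_mem' := map_zero θ
      smul_mem' := by
        intro c f hf
        show θ (c * f) = 0
        rw [hθm, show θ f = 0 from hf, map_zero] }
  have hI : ∀ f, f ∈ I ↔ θ f = 0 := fun f => Iff.rfl
  obtain ⟨g, hg⟩ : ∃ g, I = Ideal.span {g} := (IsPrincipalIdealRing.principal I).principal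
  have hgI : θ g = 0 := by
    rw [← hI, hg]; exact Ideal.mem_span_singleton_self g
  have hmem : ∀ f, θ f = 0 → g ∣ f := by
    intro f hf
    rw [← hI, hg, Ideal.mem_span_singleton] at hf
    exact hf
  have hq0 : 0 < q := h.hq.pos
  have hgq : g ∣ X ^ q - 1 := by
    apply hmem
    rw [hθ, map_sub, map_pow, aeval_X, hY, map_one, sub_self]
    rfl
  have hne : (X ^ q - 1 : K[X]) ≠ 0 := (monic_X_pow_sub_C (1 : K) hq0.ne').ne_zero
  have hgK : g.map (algebraMap (ZMod p) K) ∣ X ^ q - 1 := by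
    have := Polynomial.map_dvd (algebraMap (ZMod p) K) hgq
    simpa using this
  have hsp : Splits (g.map (algebraMap (ZMod p) K)) :=
    (X_pow_sub_one_splits h.prim).of_dvd hne hgK
  have hdeg : (g.map (algebraMap (ZMod p) K)).degree ≠ 0 := by
    rw [Polynomial.degree_map]
    intro hd
    apply hw0
    have h1 : IsUnit g := Polynomial.isUnit_iff_degree_eq_zero.2 hd
    obtain ⟨c, hc⟩ := h1.exists_left_inv
    rw [← hθ1, ← hc, hθm, hgI, map_zero]
  obtain ⟨m, hm⟩ := hsp.exists_eval_eq_zero hdeg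
  have hmg : aeval m g = 0 := by
    rw [Polynomial.aeval_def, ← Polynomial.eval_map]; exact hm
  have hker : LinearMap.ker θ ≤ LinearMap.ker (aeval m : (ZMod p)[X] →ₐ[ZMod p] K).toLinearMap := by
    intro f hf
    obtain ⟨c, rfl⟩ := hmem f hf
    show aeval m (g * c) = 0
    rw [map_mul, hmg, zero_mul]
  let E := θ.quotKerEquivOfSurjective (LinearMap.range_eq_top.1 hsurj)
  let e : W →ₗ[ZMod p] K := ((LinearMap.ker θ).liftQ (aeval m : (ZMod p)[X] →ₐ[ZMod p] K).toLinearMap hker).comp
    E.symm.toLinearMap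
  have he : ∀ f, e (θ f) = aeval m f := by
    intro f
    have h1 : E.symm (θ f) = (LinearMap.ker θ).mkQ f := by
      rw [LinearEquiv.symm_apply_eq]
      rfl
    show ((LinearMap.ker θ).liftQ (aeval m : (ZMod p)[X] →ₐ[ZMod p] K).toLinearMap hker) (E.symm (θ f)) = _
    rw [h1]
    rfl
  have heY : ∀ w, e (Y w) = m * e w := by
    intro w
    obtain ⟨f, rfl⟩ := LinearMap.range_eq_top.1 hsurj w
    rw [← hθX, he, he, map_mul, aeval_X]
  have hinj : LinearMap.ker e = ⊥ := by
    rcases hirr (LinearMap.ker e) (by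
      intro v hv
      rw [LinearMap.mem_ker] at hv ⊢
      rw [heY, hv, mul_zero]) with h1 | h1
    · exact h1
    · exfalso
      have h2 : e w0 = 0 := by
        have : w0 ∈ LinearMap.ker e := by rw [h1]; trivial
        exact this
      rw [← hθ1, he, map_one] at h2
      exact one_ne_zero h2
  have hinj' : Function.Injective e := LinearMap.ker_eq_bot.1 hinj
  have hmq : m ^ q = 1 := by
    obtain ⟨c, hc⟩ := hgq
    have h1 : aeval m (X ^ q - 1 : (ZMod p)[X]) = 0 := by rw [hc, map_mul, hmg, zero_mul]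
    rw [map_sub, map_pow, aeval_X, map_one, sub_eq_zero] at h1
    exact h1
  have hm1 : m ≠ 1 := by
    rintro rfl
    apply hY1
    ext w
    apply hinj'
    rw [heY, one_mul]
    rfl
  have hF : FD p q a m := ⟨h.hp, h.hq, h.hpq, h.ha, h.card, hmq, hm1⟩
  refine ⟨m, hF, e, ⟨hinj', ?_⟩, heY⟩
  have h1 := hF.irred (e.toAddMonoidHom.range) (by
    rintro _ ⟨w, rfl⟩
    exact ⟨Y w, heY w⟩)
  rcases h1 with h1 | h1
  · exfalso
    have h2 : e w0 ∈ e.toAddMonoidHom.range := ⟨w0, rfl⟩
    rw [h1] at h2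
    have h3 : e w0 = 0 := h2
    exact hw0 (hinj' (by rw [h3, map_zero]))
  · intro x
    have : x ∈ e.toAddMonoidHom.range := by rw [h1]; trivial
    exact this

/-- `π : P → K` is surjective, equivariant, with a central kernel fixed by `y`. -/
structure Cov {P : Type*} [Group P] (l : K) (y : MulAut P) (π : P →* Multiplicative K) : Prop where
  surj : Function.Surjective π
  eqv : ∀ x, π (y x) = Multiplicative.ofAdd (l * (π x).toAdd)
  fix : ∀ x, π x = 1 → y x = x
  cen : π.ker ≤ center P

/-- powers of Schmidt automorphisms. -/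
theorem Schmidt_pow {P : Type*} [Group P] {y : MulAut P} (h : Schmidt p q y) {j : ℕ} (hj : ¬ q ∣ j) :
    Schmidt p q (y ^ j) := by
  have ho : orderOf y = q := by
    haveI := Fact.mk h.hq
    exact orderOf_eq_prime h.yq h.y1
  obtain ⟨i, hi⟩ : ∃ i : ℕ, (y ^ j) ^ i = y := by
    have h1 : Nat.Coprime (orderOf y) j := by
      rw [ho]; exact (Nat.Prime.coprime_iff_not_dvd h.hq).2 hj
    obtain ⟨i, hi⟩ := exists_pow_eq_self_of_coprime h1.symm
    exact ⟨i, hi⟩
  refine ⟨h.hp, h.hq, h.hpq, h.isP, ?_, ?_, ?_⟩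
  · rw [← pow_mul, mul_comm, pow_mul, h.yq, one_pow]
  · intro h1
    apply h.y1
    rw [← hi, h1, one_pow]
  · intro R hR hinv
    have hk : ∀ (z : MulAut P) (k : ℕ), (∀ x ∈ R, z x ∈ R) → ∀ x ∈ R, (z ^ k) x ∈ R := by
      intro z k hz
      induction k with
      | zero => intro x hx; exact hx
      | succ k ih =>
        intro x hx
        rw [pow_succ', MulAut.mul_apply]
        exact hz _ (ih x hx)
    have h2 := h.cent R hR (by
      intro x hx
      have := hk (y ^ j) i hinv x hx
      rwa [hi] at this)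
    intro x hx
    have hk' : ∀ k : ℕ, (y ^ k) x = x := by
      intro k
      induction k with
      | zero => rfl
      | succ k ih => rw [pow_succ', MulAut.mul_apply, ih, h2 x hx]
    exact hk' j

end Cfsg.Agent.Lib.H56Univ
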