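import Mathlib
import Cfsg.Agent.Lib.H56UnivB

set_option autoImplicit false

/-! Existence of the covering `P → K` (S4395). -/

namespace Cfsg.Agent.Lib.H56Univ

open Polynomial Subgroup
open Cfsg.Agent.Lib.H56Schmidt

open scoped commutatorElement

variable {p q a : ℕ} {K : Type*} [Field K] {l : K} {P : Type*} [Group P] {y : MulAut P}

/-- in the abelian case `y` has no fixed points. -/
theorem ab_fix [Finite P] (h : Schmidt p q y) (hab : ∀ a b : P, a * b = b * a) {x : P} (hx : y x = x) : x = 1 := by
  let δ : P →* P :=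
    { toFun := fun w => w⁻¹ * y w
      map_one' := by simp
      map_mul' := by
        intro u v
        rw [map_mul, mul_inv_rev, hab v⁻¹ u⁻¹]
        calc u⁻¹ * v⁻¹ * (y u * y v) = u⁻¹ * (v⁻¹ * y u) * y v := by group
          _ = u⁻¹ * (y u * v⁻¹) * y v := by rw [hab v⁻¹ (y u)]
          _ = _ := by group }
  have hs : Function.Surjective δ := by
    rw [← MonoidHom.range_eq_top, eq_top_iff, ← h.closure_eq_top, closure_le]
    rintro _ ⟨w, rfl⟩
    exact ⟨w, rfl⟩
  have hi : Function.Injective δ := Finite.injective_iff_surjective.2 hs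
  apply hi
  rw [map_one]
  show x⁻¹ * y x = 1
  rw [hx, inv_mul_cancel]

/-- the kernel. -/
structure Ker (p : ℕ) (y : MulAut P) (D : Subgroup P) : Prop where
  cen : D ≤ center P
  fix : ∀ x ∈ D, y x = x
  pow : ∀ x, x ^ p ∈ D
  com : ∀ a b : P, ⁅a, b⁆ ∈ D
  irr : ∀ R : Subgroup P, D ≤ R → (∀ x ∈ R, y x ∈ R) → R = D ∨ R = ⊤
  ne : ∃ x, x⁻¹ * y x ∉ D

theorem exists_ker [Finite P] (h : Schmidt p q y) : ∃ D : Subgroup P, Ker p y D := by
  haveI := Fact.mk h.hp
  by_cases hab : ∀ a b : P, a * b = b * a
  · refine ⟨⊥, bot_le, ?_, ?_, ?_, ?_, ?_⟩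
    · intro x hx
      rw [mem_bot.1 hx, map_one]
    · let R : Subgroup P :=
        { carrier := {x | x ^ p = 1}
          one_mem' := one_pow p
          mul_mem' := by
            intro u v hu hv
            show (u * v) ^ p = 1
            rw [(show Commute u v from hab u v).mul_pow, show u ^ p = 1 from hu, show v ^ p = 1 from hv, mul_one]
          inv_mem' := by
            intro u hu
            show u⁻¹ ^ p = 1
            rw [inv_pow, show u ^ p = 1 from hu, inv_one] }
      have hR : R = ⊤ := by
        by_contra hne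
        have h1 := h.cent R hne (by
          intro x hx
          show (y x) ^ p = 1
          rw [← map_pow, show x ^ p = 1 from hx, map_one])
        haveI := h.nontrivial
        obtain ⟨k, hk⟩ := IsPGroup.iff_card.1 h.isP
        have hk0 : k ≠ 0 := by
          rintro rfl
          rw [pow_zero] at hk
          exact absurd hk Finite.one_lt_card.ne'
        obtain ⟨x, hx⟩ := exists_prime_orderOf_dvd_card' (G := P) p (by rw [hk]; exact dvd_pow_self p hk0)
        have hxR : x ∈ R := by
          show x ^ p = 1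
          rw [← hx]; exact pow_orderOf_eq_one x
        have hx1 := ab_fix h hab (h1 x hxR)
        rw [hx1, orderOf_one] at hx
        exact h.hp.one_lt.ne hx
      intro x
      have : x ∈ R := by rw [hR]; trivial
      exact this
    · intro a b
      rw [mem_bot, commutatorElement_eq_one_iff_mul_comm]
      exact hab a b
    · intro R _ hR
      by_cases hne : R = ⊤
      · exact Or.inr hne
      · left
        rw [eq_bot_iff]
        intro x hx
        exact ab_fix h hab (h.cent R hne hR x hx)
    · by_contra hcon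
      push Not at hcon
      apply h.y1
      ext x
      exact (inv_mul_eq_one.1 (mem_bot.1 (hcon x))).symm
  · refine ⟨center P, le_rfl, fun x hx => h.fix_center hab hx, h.pow_mem_center hab, h.comm_mem, ?_, ?_⟩
    · intro R hZR hR
      by_cases hne : R = ⊤
      · exact Or.inr hne
      · left
        exact le_antisymm (h.le_center_of_center_le hne hZR hR) hZR
    · by_contra hcon
      push Not at hcon
      apply Schmidt.center_ne_top hab
      rw [eq_top_iff]
      intro x _
      exact h.mem_center_of_fix hab (hcon x)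

theorem exists_cov_aux (h : FD p q a l) [Algebra (ZMod p) K] (hS : Schmidt p q y) {D : Subgroup P} (hD : Ker p y D)
    {W : Type*} [AddCommGroup W] (ρ : P →* Multiplicative W) (hρ : Function.Surjective ρ) (hρD : ∀ x, ρ x = 1 ↔ x ∈ D)
    (yQ : W →+ W) (hyQ : ∀ x, yQ (ρ x).toAdd = (ρ (y x)).toAdd) :
    ∃ j : ℕ, ¬ q ∣ j ∧ ∃ π : P →* Multiplicative K, Cov l (y ^ j) π := by
  haveI := Fact.mk h.hp
  haveI := Fact.mk h.hq
  let ι : P → W := fun x => (ρ x).toAdd
  have hιs : Function.Surjective ι := fun w => hρ (Multiplicative.ofAdd w)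
  have hιm : ∀ u v, ι (u * v) = ι u + ι v := fun u v => by
    show (ρ (u * v)).toAdd = _
    rw [map_mul]; rfl
  have hι0 : ∀ u, ι u = 0 ↔ u ∈ D := fun u => hρD u
  have hmod : Nonempty (Module (ZMod p) W) := ⟨AddCommGroup.zmodModule (by
    intro w
    obtain ⟨u, rfl⟩ := hιs w
    have h1 : (u ^ p : P) ∈ D := hD.pow u
    have h2 : ρ (u ^ p) = 1 := (hρD _).2 h1
    rw [map_pow] at h2
    exact h2)⟩
  obtain ⟨hmod'⟩ := hmod
  let Y : W →ₗ[ZMod p] W := yQ.toZModLinearMap p
  have hYι : ∀ u, Y (ι u) = ι (y u) := fun u => hyQ u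
  have hYk : ∀ (k : ℕ) (u : P), (Y ^ k) (ι u) = ι ((y ^ k) u) := by
    intro k
    induction k with
    | zero => intro u; rfl
    | succ k ih =>
      intro u
      rw [pow_succ', pow_succ', MulAut.mul_apply, Module.End.mul_apply, ih, hYι]
  have hYq : Y ^ q = 1 := by
    ext w
    obtain ⟨u, rfl⟩ := hιs w
    rw [hYk, hS.yq]
    rfl
  have hY1 : Y ≠ 1 := by
    intro h1
    obtain ⟨x, hx⟩ := hD.ne
    apply hx
    have h2 : Y (ι x) = ι x := by rw [h1]; rfl
    rw [hYι] at h2
    rw [← hρD, map_mul, map_inv]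
    have h3 : ρ (y x) = ρ x := h2
    rw [h3, inv_mul_cancel]
  have hirr : ∀ V : Submodule (ZMod p) (W), (∀ v ∈ V, Y v ∈ V) → V = ⊥ ∨ V = ⊤ := by
    intro V hV
    let R : Subgroup P :=
      { carrier := {x | ι x ∈ V}
        one_mem' := by
          show (ρ 1).toAdd ∈ V
          rw [map_one]; exact V.zero_mem
        mul_mem' := by
          intro u v hu hv
          show ι (u * v) ∈ V
          rw [hιm]; exact V.add_mem hu hv
        inv_mem' := by
          intro u hu
          have : ι u⁻¹ = - ι u := by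
            show (ρ u⁻¹).toAdd = _
            rw [map_inv]; rfl
          show ι u⁻¹ ∈ V
          rw [this]; exact V.neg_mem hu }
    rcases hD.irr R (by
        intro d hd
        show ι d ∈ V
        rw [(hι0 d).2 hd]; exact V.zero_mem) (by
        intro x hx
        show ι (y x) ∈ V
        rw [← hYι]; exact hV _ hx) with h1 | h1
    · left
      rw [eq_bot_iff]
      intro w hw
      obtain ⟨u, rfl⟩ := hιs w
      have h2 : u ∈ R := hw
      rw [h1] at h2
      rw [(hι0 u).2 h2]
      exact Submodule.zero_mem _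
    · right
      rw [eq_top_iff]
      intro w _
      obtain ⟨u, rfl⟩ := hιs w
      have h2 : u ∈ R := by rw [h1]; trivial
      exact h2
  obtain ⟨m, hm, e, he, heY⟩ := exists_iso_aux h Y hYq hY1 hirr
  obtain ⟨j, hj1, hj2⟩ := hm.prim.eq_pow_of_pow_eq_one h.lq
  have hjq : ¬ q ∣ j := by
    intro hd
    have h0 : j = 0 := Nat.eq_zero_of_dvd_of_lt hd hj1
    rw [h0, pow_zero] at hj2
    exact h.l1 hj2.symm
  refine ⟨j, hjq, ?_⟩
  let π : P →* Multiplicative K := 
    { toFun := fun x => Multiplicative.ofAdd (e (ι x))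
      map_one' := by
        show Multiplicative.ofAdd (e (ι 1)) = 1
        rw [(hι0 1).2 (one_mem D), map_zero]; rfl
      map_mul' := by
        intro u v
        show Multiplicative.ofAdd (e (ι (u * v))) = _
        rw [hιm, map_add]; rfl }
  have hπ : ∀ x, π x = Multiplicative.ofAdd (e (ι x)) := fun x => rfl
  have hek : ∀ (k : ℕ) (w : W), e ((Y ^ k) w) = m ^ k * e w := by
    intro k
    induction k with
    | zero => intro w; rw [pow_zero, pow_zero, one_mul]; rfl
    | succ k ih =>
      intro w
      rw [pow_succ', Module.End.mul_apply, heY, ih, pow_succ', mul_assoc]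
  refine ⟨π, ?_, ?_, ?_, ?_⟩
  · intro c
    obtain ⟨w, hw⟩ := he.2 c.toAdd
    obtain ⟨u, rfl⟩ := hιs w
    exact ⟨u, by rw [hπ, hw]; rfl⟩
  · intro x
    rw [hπ, hπ, ← hYk, hek, hj2]
    rfl
  · intro x hx
    rw [hπ] at hx
    have h1 : e (ι x) = 0 := hx
    have h2 : ι x = 0 := he.1 (by rw [h1, map_zero])
    have h3 := hD.fix x ((hι0 x).1 h2)
    have h4 : ∀ k : ℕ, (y ^ k) x = x := by
      intro k
      induction k with
      | zero => rfl
      | succ k ih => rw [pow_succ', MulAut.mul_apply, ih, h3]
    exact h4 j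
  · intro x hx
    rw [MonoidHom.mem_ker, hπ] at hx
    have h1 : e (ι x) = 0 := hx
    have h2 : ι x = 0 := he.1 (by rw [h1, map_zero])
    exact hD.cen ((hι0 x).1 h2)

theorem exists_cov [Finite P] (h : FD p q a l) [Algebra (ZMod p) K] (hS : Schmidt p q y) :
    ∃ j : ℕ, ¬ q ∣ j ∧ ∃ π : P →* Multiplicative K, Cov l (y ^ j) π := by
  obtain ⟨D, hD⟩ := exists_ker hS
  haveI hDn : D.Normal := by
    constructor
    intro d hd g
    rw [mem_center_iff.1 (hD.cen hd) g, mul_inv_cancel_right]
    exact hd
  letI : CommGroup (P ⧸ D) :=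
    { (inferInstance : Group (P ⧸ D)) with
      mul_comm := by
        intro u v
        obtain ⟨u, rfl⟩ := QuotientGroup.mk'_surjective D u
        obtain ⟨v, rfl⟩ := QuotientGroup.mk'_surjective D v
        rw [← commutatorElement_eq_one_iff_mul_comm, ← map_commutatorElement]
        exact (QuotientGroup.eq_one_iff _).2 (hD.com u v) }
  have hyD : D ≤ D.comap y.toMonoidHom := by
    intro d hd
    show y d ∈ D
    rw [hD.fix d hd]; exact hd
  exact exists_cov_aux (W := Additive (P ⧸ D)) h hS hD (QuotientGroup.mk' D) (QuotientGroup.mk'_surjective D)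
    (fun x => QuotientGroup.eq_one_iff x) (MonoidHom.toAdditive (QuotientGroup.map D D y.toMonoidHom hyD)) (fun x => rfl)

end Cfsg.Agent.Lib.H56Univ
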