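import Mathlib
import Cfsg.Agent.Lib.H56UnivC

set_option autoImplicit false

/-! The order bound for Schmidt groups (S4395). -/

namespace Cfsg.Agent.Lib.H56Univ

open Subgroup
open Cfsg.Agent.Lib.H56Schmidt

open scoped commutatorElement

variable {p q a : ℕ} {K : Type*} [Field K] {l : K} {P : Type*} [Group P] {y : MulAut P}
  {π : P →* Multiplicative K}

/-- the value of `π` in `K`. -/
def val (π : P →* Multiplicative K) (x : P) : K := (π x).toAdd

theorem val_mul (x x' : P) : val π (x * x') = val π x + val π x' := by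
  unfold val; rw [map_mul]; rfl

theorem val_one : val π 1 = 0 := by
  unfold val; rw [map_one]; rfl

theorem val_inv (x : P) : val π x⁻¹ = - val π x := by
  unfold val; rw [map_inv]; rfl

theorem Cov.val_surj (hc : Cov l y π) : Function.Surjective (val π) := fun c => hc.surj (Multiplicative.ofAdd c)

theorem Cov.val_y (hc : Cov l y π) (x : P) : val π (y x) = l * val π x := by
  unfold val; rw [hc.eqv]; rfl

theorem Cov.mem_center (hc : Cov l y π) {x x' : P} (hx : val π x = val π x') : x'⁻¹ * x ∈ center P := by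
  apply hc.cen
  rw [MonoidHom.mem_ker]
  have : val π (x'⁻¹ * x) = 0 := by rw [val_mul, val_inv, hx, neg_add_cancel]
  exact this

theorem Cov.comm_congr (hc : Cov l y π) {x x' w : P} (hx : val π x = val π x') : ⁅x, w⁆ = ⁅x', w⁆ := by
  have h1 := hc.mem_center hx
  have h2 : x = x' * (x'⁻¹ * x) := by group
  obtain ⟨c, hcdef⟩ : ∃ c, c = x'⁻¹ * x := ⟨_, rfl⟩
  rw [← hcdef] at h1 h2
  rw [h2, commutatorElement_def, commutatorElement_def]
  have h3 := mem_center_iff.1 h1 w
  calc x' * c * w * (x' * c)⁻¹ * w⁻¹ = x' * (c * w) * c⁻¹ * x'⁻¹ * w⁻¹ := by group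
    _ = x' * (w * c) * c⁻¹ * x'⁻¹ * w⁻¹ := by rw [h3]
    _ = _ := by group

theorem Cov.comm_congr' (hc : Cov l y π) {x x' w : P} (hx : val π x = val π x') : ⁅w, x⁆ = ⁅w, x'⁆ := by
  rw [← commutatorElement_inv, hc.comm_congr hx, commutatorElement_inv]

/-- the self-adjoint elements form a subfield. -/
def adj [Finite P] (hS : Schmidt p q y) (hc : Cov l y π) : Subfield K where
  carrier := {s | ∀ x w x' w' : P, val π x' = s * val π x → val π w' = s * val π w → ⁅x', w⁆ = ⁅x, w'⁆}
  mul_mem' := by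
    intro s t hs ht x w x' w' hx hw
    obtain ⟨x1, hx1⟩ := hc.val_surj (t * val π x)
    obtain ⟨w1, hw1⟩ := hc.val_surj (s * val π w)
    rw [hs x1 w x' w1 (by rw [hx, hx1, mul_assoc]) hw1]
    exact ht x w1 x1 w' hx1 (by rw [hw, hw1]; ring)
  one_mem' := by
    intro x w x' w' hx hw
    rw [one_mul] at hx hw
    rw [hc.comm_congr hx, hc.comm_congr' (x := w') hw]
  add_mem' := by
    intro s t hs ht x w x' w' hx hw
    obtain ⟨x1, hx1⟩ := hc.val_surj (s * val π x)
    obtain ⟨x2, hx2⟩ := hc.val_surj (t * val π x)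
    obtain ⟨w1, hw1⟩ := hc.val_surj (s * val π w)
    obtain ⟨w2, hw2⟩ := hc.val_surj (t * val π w)
    rw [hc.comm_congr (x := x') (x' := x1 * x2) (by rw [hx, val_mul, hx1, hx2, add_mul]),
      hc.comm_congr' (x := w') (x' := w1 * w2) (by rw [hw, val_mul, hw1, hw2, add_mul]),
      hS.comm_mul_left, hS.comm_mul_right, hs x w x1 w1 hx1 hw1, ht x w x2 w2 hx2 hw2]
  zero_mem' := by
    intro x w x' w' hx hw
    rw [zero_mul] at hx hw
    rw [hc.comm_congr (x := x') (x' := 1) (by rw [hx, val_one]), hc.comm_congr' (x := w') (x' := 1) (by rw [hw, val_one])]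
    simp
  neg_mem' := by
    intro s hs x w x' w' hx hw
    have h1 := hs x w x'⁻¹ w'⁻¹ (by rw [val_inv, hx]; ring) (by rw [val_inv, hw]; ring)
    have h2 : ⁅x'⁻¹, w⁆ = ⁅x', w⁆⁻¹ := by
      rw [eq_inv_iff_mul_eq_one, ← hS.comm_mul_left, inv_mul_cancel, commutatorElement_one_left]
    have h3 : ⁅x, w'⁻¹⁆ = ⁅x, w'⁆⁻¹ := by
      rw [eq_inv_iff_mul_eq_one, ← hS.comm_mul_right, inv_mul_cancel, commutatorElement_one_right]
    rw [h2, h3] at h1
    exact inv_injective h1
  inv_mem' := by
    intro s hs x w x' w' hx hw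
    by_cases hs0 : s = 0
    · rw [hs0, inv_zero, zero_mul] at hx hw
      rw [hc.comm_congr (x := x') (x' := 1) (by rw [hx, val_one]), hc.comm_congr' (x := w') (x' := 1) (by rw [hw, val_one])]
      simp
    · exact (hs x' w' x w (by rw [hx, mul_inv_cancel_left₀ hs0]) (by rw [hw, mul_inv_cancel_left₀ hs0])).symm

theorem mem_adj [Finite P] (hS : Schmidt p q y) (hc : Cov l y π) (s : K) : s ∈ adj hS hc ↔
    ∀ x w x' w' : P, val π x' = s * val π x → val π w' = s * val π w → ⁅x', w⁆ = ⁅x, w'⁆ := Iff.rfl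

theorem tr_mem [Finite P] (h : FD p q a l) (hS : Schmidt p q y) (hc : Cov l y π) (hna : ¬ ∀ a b : P, a * b = b * a) :
    l + l⁻¹ ∈ adj hS hc := by
  rw [mem_adj]
  have hl0 := h.l0
  intro x w x' w' hx hw
  have hyi : ∀ u, val π (y⁻¹ u) = l⁻¹ * val π u := by
    intro u
    have h1 := hc.val_y (y⁻¹ u)
    rw [MulAut.apply_inv_self] at h1
    rw [h1, inv_mul_cancel_left₀ hl0]
  rw [hc.comm_congr (x := x') (x' := y x * y⁻¹ x) (by rw [hx, val_mul, hc.val_y, hyi, add_mul]),
    hc.comm_congr' (x := w') (x' := y⁻¹ w * y w) (by rw [hw, val_mul, hc.val_y, hyi]; ring),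
    hS.comm_mul_left, hS.comm_mul_right]
  have h1 : ∀ u v : P, ⁅y u, v⁆ = ⁅u, y⁻¹ v⁆ := by
    intro u v
    have h2 := hS.fix_center hna (hS.comm_mem u (y⁻¹ v))
    rw [map_commutatorElement, MulAut.apply_inv_self] at h2
    exact h2
  have h3 : ⁅y⁻¹ x, w⁆ = ⁅x, y w⁆ := by
    have h4 := h1 (y⁻¹ x) (y w)
    rw [MulAut.apply_inv_self, MulAut.inv_apply_self] at h4
    exact h4.symm
  rw [h1 x w, h3]

theorem comm_eq_one [Finite P] (h : FD p q a l) (hS : Schmidt p q y) (hc : Cov l y π) {u : P} (hu : val π u = 1)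
    {x : P} (hx : val π x ∈ adj hS hc) : ⁅u, x⁆ = 1 := by
  rcases h.hp.eq_two_or_odd with hp2 | hp2
  · -- `p = 2`
    subst hp2
    haveI := h.finite
    haveI : Fintype (adj hS hc) := Fintype.ofFinite _
    have hchar : ringChar (adj hS hc) = 2 := by
      have h1 : CharP K 2 := by
        have hc2 : (2 : K) = 0 := by
          haveI : Fintype K := Fintype.ofFinite K
          have h3 := Nat.cast_card_eq_zero K
          rw [← Nat.card_eq_fintype_card, h.card] at h3
          push_cast at h3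
          exact pow_eq_zero_iff (h.a_pos.ne') |>.1 h3
        exact CharTwo.of_one_ne_zero_of_two_eq_zero one_ne_zero hc2
      have h2 : CharP (adj hS hc) 2 := by
        apply CharTwo.of_one_ne_zero_of_two_eq_zero one_ne_zero
        apply Subtype.ext
        exact CharTwo.two_eq_zero
      exact ringChar.eq (adj hS hc) 2
    obtain ⟨s, hs⟩ := FiniteField.isSquare_of_char_two hchar ⟨val π x, hx⟩
    have hs' : val π x = s * s := congrArg Subtype.val hs
    obtain ⟨w, hw⟩ := hc.val_surj (s : K)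
    have h1 := (mem_adj hS hc s).1 s.2 u w w x (by rw [hw, hu, mul_one]) (by rw [hs', hw])
    rw [← h1, commutatorElement_self]
  · have h1 := (mem_adj hS hc _).1 hx u u x x (by rw [hu, mul_one]) (by rw [hu, mul_one])
    obtain ⟨k, hk⟩ := hS.isP ⁅u, x⁆
    have h2 : ⁅u, x⁆ ^ 2 = 1 := by
      rw [← commutatorElement_inv] at h1
      rw [pow_two]
      nth_rw 1 [← h1]
      exact inv_mul_cancel _
    have h3 : orderOf ⁅u, x⁆ ∣ 2 := orderOf_dvd_of_pow_eq_one h2
    have h4 : orderOf ⁅u, x⁆ ∣ p ^ k := orderOf_dvd_of_pow_eq_one hk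
    rw [← orderOf_eq_one_iff]
    apply Nat.eq_one_of_dvd_coprimes _ h3 h4
    apply Nat.Coprime.pow_right
    rw [Nat.coprime_two_left]
    exact Nat.odd_iff.2 hp2

theorem card_le [Finite P] (h : FD p q a l) (hS : Schmidt p q y) (hc : Cov l y π) :
    Nat.card P ≤ p ^ (if a % 2 = 1 then a else 3 * a / 2) := by
  haveI := h.finite
  have hcP : Nat.card π.ker * Nat.card K = Nat.card P := by
    have h1 := π.ker.card_mul_index
    rw [Subgroup.index_ker, MonoidHom.range_eq_top.2 hc.surj, Subgroup.card_top] at h1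
    exact h1
  by_cases hab : ∀ a b : P, a * b = b * a
  · have h1 : Nat.card π.ker = 1 := by
      rw [Subgroup.card_eq_one, eq_bot_iff]
      intro x hx
      exact ab_fix hS hab (hc.fix x hx)
    rw [h1, one_mul, h.card] at hcP
    rw [← hcP]
    apply Nat.pow_le_pow_right h.hp.pos
    split_ifs <;> omega
  · obtain ⟨s, hs, hs2, hs3⟩ := h.subfield_card (adj hS hc) (tr_mem h hS hc hab)
    obtain ⟨u, hu⟩ := hc.val_surj 1
    have huZ : u ∉ center P := by
      intro hu'
      have h1 := hS.fix_center hab hu'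
      have h2 := hc.val_y u
      rw [h1, hu, mul_one] at h2
      exact h.l1 h2.symm
    have hle : Nat.card (center P) ≤ Nat.card (hS.commHom u).range := by
      apply Subgroup.card_le_of_le
      rw [hS.center_eq hab]
      intro c hc'
      obtain ⟨x, hx⟩ := hS.exists_comm hab huZ c hc'
      exact ⟨x, hx⟩
    have hmul : Nat.card (hS.commHom u).ker * Nat.card (hS.commHom u).range = Nat.card P := by
      rw [← Subgroup.index_ker]; exact Subgroup.card_mul_index _
    -- the preimage of the subfield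
    have hker : Nat.card π.ker * Nat.card (adj hS hc) ≤ Nat.card (hS.commHom u).ker := by
      rw [← Nat.card_prod]
      apply Nat.card_le_card_of_injective (fun z : π.ker × adj hS hc =>
        (⟨(z.1 : P) * (hc.val_surj (z.2 : K)).choose, by
          rw [MonoidHom.mem_ker, hS.commHom_apply]
          apply comm_eq_one h hS hc hu
          have h1 : val π (z.1 : P) = 0 := z.1.2
          rw [val_mul, h1, zero_add, (hc.val_surj (z.2 : K)).choose_spec]
          exact z.2.2⟩ : (hS.commHom u).ker))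
      rintro ⟨z1, z2⟩ ⟨z1', z2'⟩ hz
      have h0 : (z1 : P) * (hc.val_surj (z2 : K)).choose = z1' * (hc.val_surj (z2' : K)).choose :=
        congrArg Subtype.val hz
      have h1 : val π (z1 : P) = 0 := z1.2
      have h1' : val π (z1' : P) = 0 := z1'.2
      have h2 := congrArg (val π) h0
      rw [val_mul, val_mul, h1, h1', zero_add, zero_add, (hc.val_surj (z2 : K)).choose_spec,
        (hc.val_surj (z2' : K)).choose_spec] at h2
      have h3 : z2 = z2' := Subtype.ext h2
      subst h3
      have h4 : z1 = z1' := Subtype.ext (mul_right_cancel h0)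
      rw [h4]
    have hkc : Nat.card π.ker ≤ Nat.card (center P) := Subgroup.card_le_of_le hc.cen
    -- `|ker| * |T| ≤ |K|`
    have h5 : Nat.card π.ker * (Nat.card π.ker * Nat.card (adj hS hc)) ≤ Nat.card π.ker * Nat.card K := by
      rw [hcP, ← hmul, mul_comm (Nat.card (hS.commHom u).ker)]
      exact Nat.mul_le_mul (hkc.trans hle) hker
    have h6 := Nat.le_of_mul_le_mul_left h5 Nat.card_pos
    have h7 : Nat.card P * p ^ s ≤ p ^ (2 * a) := by
      rw [← hcP, ← hs, h.card]
      calc Nat.card π.ker * p ^ a * Nat.card (adj hS hc) = (Nat.card π.ker * Nat.card (adj hS hc)) * p ^ a := by ring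
        _ ≤ p ^ a * p ^ a := by
          apply Nat.mul_le_mul_right
          rw [← h.card]; exact h6
        _ = _ := by rw [← pow_add]; congr 1; ring
    obtain ⟨k, hk⟩ := (haveI := Fact.mk h.hp; IsPGroup.iff_card.1 hS.isP)
    rw [hk] at h7 ⊢
    rw [← pow_add] at h7
    have h8 := (Nat.pow_le_pow_iff_right h.hp.one_lt).1 h7
    apply Nat.pow_le_pow_right h.hp.pos
    split_ifs with h9
    · have := hs3 h9; omega
    · omega

end Cfsg.Agent.Lib.H56Univ
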