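import Mathlib
import Cfsg.Agent.Lib.H56UnivD

set_option autoImplicit false

/-! The fibre product of two Schmidt groups (S4395). -/

namespace Cfsg.Agent.Lib.H56Univ

open Subgroup
open Cfsg.Agent.Lib.H56Schmidt

variable {p q a : ℕ} {K : Type*} [Field K] {l : K} {P₀ P : Type*} [Group P₀] [Group P] {y₀ : MulAut P₀} {y : MulAut P}
  {π₀ : P₀ →* Multiplicative K} {π : P →* Multiplicative K}

/-- the fibre product. -/
def Fib (π₀ : P₀ →* Multiplicative K) (π : P →* Multiplicative K) : Subgroup (P₀ × P) where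
  carrier := {w | val π₀ w.1 = val π w.2}
  one_mem' := by
    show val π₀ 1 = val π 1
    rw [val_one, val_one]
  mul_mem' := by
    intro v w hv hw
    show val π₀ (v.1 * w.1) = val π (v.2 * w.2)
    rw [val_mul, val_mul, show val π₀ v.1 = val π v.2 from hv, show val π₀ w.1 = val π w.2 from hw]
  inv_mem' := by
    intro v hv
    show val π₀ v.1⁻¹ = val π v.2⁻¹
    rw [val_inv, val_inv, show val π₀ v.1 = val π v.2 from hv]

/-- `y₀ × y`. -/
def YY (y₀ : MulAut P₀) (y : MulAut P) : MulAut (P₀ × P) := MulEquiv.prodCongr y₀ y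

theorem YY_apply (w : P₀ × P) : YY y₀ y w = (y₀ w.1, y w.2) := rfl

theorem YY_pow (k : ℕ) (w : P₀ × P) : ((YY y₀ y) ^ k) w = ((y₀ ^ k) w.1, (y ^ k) w.2) := by
  induction k with
  | zero => rfl
  | succ k ih =>
    rw [pow_succ', MulAut.mul_apply, ih, YY_apply, pow_succ', pow_succ', MulAut.mul_apply, MulAut.mul_apply]

/-- `[F, y]`. -/
def TT (y₀ : MulAut P₀) (y : MulAut P) (π₀ : P₀ →* Multiplicative K) (π : P →* Multiplicative K) :
    Subgroup (P₀ × P) :=
  closure {w | ∃ v ∈ Fib π₀ π, w = v⁻¹ * YY y₀ y v}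

theorem YY_fib (h₀ : Cov l y₀ π₀) (h : Cov l y π) {w : P₀ × P} (hw : w ∈ Fib π₀ π) : YY y₀ y w ∈ Fib π₀ π := by
  show val π₀ (y₀ w.1) = val π (y w.2)
  rw [h₀.val_y, h.val_y, show val π₀ w.1 = val π w.2 from hw]

theorem TT_le (h₀ : Cov l y₀ π₀) (h : Cov l y π) : TT y₀ y π₀ π ≤ Fib π₀ π := by
  unfold TT
  rw [closure_le]
  rintro _ ⟨v, hv, rfl⟩
  exact mul_mem (inv_mem hv) (YY_fib h₀ h hv)

theorem YY_TT (h₀ : Cov l y₀ π₀) (h : Cov l y π) : ∀ w ∈ TT y₀ y π₀ π, YY y₀ y w ∈ TT y₀ y π₀ π := by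
  intro w hw
  have h1 : TT y₀ y π₀ π ≤ (TT y₀ y π₀ π).comap (YY y₀ y).toMonoidHom := by
    conv_lhs => unfold TT
    rw [closure_le]
    rintro _ ⟨v, hv, rfl⟩
    apply Subgroup.subset_closure
    refine ⟨YY y₀ y v, YY_fib h₀ h hv, ?_⟩
    show YY y₀ y (v⁻¹ * YY y₀ y v) = _
    rw [map_mul, map_inv]
  exact h1 hw

theorem exists_map [Finite P₀] [Finite P] (hF : FD p q a l) (hS₀ : Schmidt p q y₀) (hS : Schmidt p q y)
    (h₀ : Cov l y₀ π₀) (h : Cov l y π) (hcard : Nat.card P₀ = p ^ (if a % 2 = 1 then a else 3 * a / 2)) :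
    ∃ θ : P₀ →* P, Function.Surjective θ ∧ (∀ x, θ (y₀ x) = y (θ x)) ∧ ∀ x, val π (θ x) = val π₀ x := by
  haveI := Fact.mk hF.hp
  set T := TT y₀ y π₀ π with hT
  have hTF := TT_le h₀ h
  have hmap : T.map (YY y₀ y).toMonoidHom = T := by
    apply Subgroup.eq_of_le_of_card_ge
    · rintro _ ⟨w, hw, rfl⟩
      exact YY_TT h₀ h w hw
    · rw [Subgroup.card_map_of_injective (YY y₀ y).injective]
  let yT : MulAut T := ((YY y₀ y).subgroupMap T).trans (MulEquiv.subgroupCongr hmap)
  have hyT : ∀ t : T, ((yT t : T) : P₀ × P) = YY y₀ y t := fun t => rfl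
  have hyTk : ∀ (k : ℕ) (t : T), (((yT ^ k) t : T) : P₀ × P) = (YY y₀ y ^ k) t := by
    intro k
    induction k with
    | zero => intro t; rfl
    | succ k ih =>
      intro t
      rw [pow_succ', MulAut.mul_apply, hyT, ih, pow_succ', MulAut.mul_apply]
  have hl1 : l - 1 ≠ 0 := sub_ne_zero.2 hF.l1
  -- the map to `K`
  have hsurj : ∀ c : K, ∃ t ∈ T, val π₀ t.1 = c := by
    intro c
    obtain ⟨u, hu⟩ := h₀.val_surj (c / (l - 1))
    obtain ⟨v, hv⟩ := h.val_surj (c / (l - 1))
    have hw : ((u, v) : P₀ × P) ∈ Fib π₀ π := by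
      show val π₀ u = val π v
      rw [hu, hv]
    refine ⟨_, Subgroup.subset_closure ⟨(u, v), hw, rfl⟩, ?_⟩
    show val π₀ (u⁻¹ * y₀ u) = c
    rw [val_mul, val_inv, h₀.val_y, hu]
    field_simp
    ring
  let πT : T →* Multiplicative K := π₀.comp ((MonoidHom.fst P₀ P).comp T.subtype)
  have hπT : ∀ t : T, val πT t = val π₀ (t : P₀ × P).1 := fun t => rfl
  have hfix : ∀ t : T, val πT t = 0 → YY y₀ y (t : P₀ × P) = t := by
    intro t ht
    rw [hπT] at ht
    have h1 : val π (t : P₀ × P).2 = 0 := by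
      rw [← show val π₀ (t : P₀ × P).1 = val π (t : P₀ × P).2 from hTF t.2, ht]
    rw [YY_apply, h₀.fix _ ht, h.fix _ h1]
  have hcovT : Cov l yT πT := by
    refine ⟨?_, ?_, ?_, ?_⟩
    · intro c
      obtain ⟨t, ht, htc⟩ := hsurj c.toAdd
      exact ⟨⟨t, ht⟩, htc⟩
    · intro t
      exact h₀.eqv _
    · intro t ht
      exact Subtype.ext (hfix t ht)
    · intro t ht
      have ht0 : val π₀ (t : P₀ × P).1 = 0 := ht
      have h1 : val π (t : P₀ × P).2 = 0 := by
        rw [← show val π₀ (t : P₀ × P).1 = val π (t : P₀ × P).2 from hTF t.2, ht0]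
      have h2 := h₀.cen (show (t : P₀ × P).1 ∈ π₀.ker from ht0)
      have h3 := h.cen (show (t : P₀ × P).2 ∈ π.ker from h1)
      rw [mem_center_iff]
      intro g
      apply Subtype.ext
      apply Prod.ext
      · exact mem_center_iff.1 h2 _
      · exact mem_center_iff.1 h3 _
  have hST : Schmidt p q yT := by
    refine ⟨hF.hp, hF.hq, hF.hpq, ?_, ?_, ?_, ?_⟩
    · intro t
      obtain ⟨k, hk⟩ := hS₀.isP (t : P₀ × P).1
      obtain ⟨m, hm⟩ := hS.isP (t : P₀ × P).2
      refine ⟨k + m, ?_⟩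
      apply Subtype.ext
      apply Prod.ext
      · show (t : P₀ × P).1 ^ p ^ (k + m) = 1
        rw [pow_add, pow_mul, hk, one_pow]
      · show (t : P₀ × P).2 ^ p ^ (k + m) = 1
        rw [pow_add, mul_comm, pow_mul, hm, one_pow]
    · ext t : 1
      apply Subtype.ext
      rw [hyTk, YY_pow, hS₀.yq, hS.yq]
      rfl
    · intro h1
      obtain ⟨t, ht, htc⟩ := hsurj 1
      have h2 := hcovT.val_y ⟨t, ht⟩
      rw [h1] at h2
      have h3 : val πT (⟨t, ht⟩ : T) = 1 := htc
      rw [MulAut.one_apply, h3, mul_one] at h2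
      exact hF.l1 h2.symm
    · intro R hR hinv
      let V : AddSubgroup K :=
        { carrier := {c | ∃ r ∈ R, val πT r = c}
          zero_mem' := ⟨1, one_mem _, val_one⟩
          add_mem' := by
            rintro _ _ ⟨r, hr, rfl⟩ ⟨s, hs, rfl⟩
            exact ⟨r * s, mul_mem hr hs, val_mul r s⟩
          neg_mem' := by
            rintro _ ⟨r, hr, rfl⟩
            exact ⟨r⁻¹, inv_mem hr, val_inv r⟩ }
      rcases hF.irred V (by
        rintro _ ⟨r, hr, rfl⟩
        exact ⟨yT r, hinv r hr, hcovT.val_y r⟩) with hV | hV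
      · intro r hr
        have h1 : val πT r ∈ V := ⟨r, hr, rfl⟩
        rw [hV] at h1
        exact Subtype.ext (hfix r h1)
      · exfalso
        apply hR
        have key : T ≤ R.map T.subtype := by
          conv_lhs => rw [hT]; unfold TT
          rw [closure_le]
          rintro _ ⟨w, hw, rfl⟩
          have h1 : val π₀ w.1 ∈ V := by rw [hV]; trivial
          obtain ⟨r, hr, hrw⟩ := h1
          rw [hπT] at hrw
          obtain ⟨c, hcdef⟩ : ∃ c, c = (r : P₀ × P)⁻¹ * w := ⟨_, rfl⟩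
          have hrF : val π₀ (r : P₀ × P).1 = val π (r : P₀ × P).2 := hTF r.2
          have hwF : val π₀ w.1 = val π w.2 := hw
          have hc1 : val π₀ c.1 = 0 := by
            rw [hcdef]
            show val π₀ ((r : P₀ × P).1⁻¹ * w.1) = 0
            rw [val_mul, val_inv, hrw, neg_add_cancel]
          have hc2 : val π c.2 = 0 := by
            rw [hcdef]
            show val π ((r : P₀ × P).2⁻¹ * w.2) = 0
            rw [val_mul, val_inv, ← hrF, ← hwF, hrw, neg_add_cancel]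
          have hcf : YY y₀ y c = c := by
            rw [YY_apply, h₀.fix _ hc1, h.fix _ hc2]
          have hcc : ∀ g : P₀ × P, g * c = c * g := by
            intro g
            apply Prod.ext
            · exact mem_center_iff.1 (h₀.cen hc1) _
            · exact mem_center_iff.1 (h.cen hc2) _
          have hwc : w = r * c := by rw [hcdef]; group
          refine ⟨r⁻¹ * yT r, mul_mem (inv_mem hr) (hinv r hr), ?_⟩
          show (r : P₀ × P)⁻¹ * YY y₀ y r = w⁻¹ * YY y₀ y w
          rw [hwc, map_mul, hcf, mul_inv_rev]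
          calc (r : P₀ × P)⁻¹ * YY y₀ y r = c⁻¹ * (c * ((r : P₀ × P)⁻¹ * YY y₀ y r)) := by group
            _ = c⁻¹ * (((r : P₀ × P)⁻¹ * YY y₀ y r) * c) := by rw [hcc]
            _ = _ := by group
        rw [eq_top_iff]
        intro t _
        obtain ⟨r, hr, hrt⟩ := key t.2
        have : r = t := Subtype.ext hrt
        rwa [← this]
  have hcT : Nat.card T ≤ p ^ (if a % 2 = 1 then a else 3 * a / 2) := card_le hF hST hcovT
  let f : T →* P₀ := (MonoidHom.fst P₀ P).comp T.subtype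
  let g : T →* P := (MonoidHom.snd P₀ P).comp T.subtype
  have hfs : Function.Surjective f := by
    rw [← MonoidHom.range_eq_top]
    by_contra hne
    have h1 := hS₀.cent f.range hne (by
      rintro _ ⟨t, rfl⟩
      exact ⟨yT t, rfl⟩)
    obtain ⟨t, ht, htc⟩ := hsurj 1
    have h2 := h1 t.1 ⟨⟨t, ht⟩, rfl⟩
    have h3 := h₀.val_y t.1
    rw [h2, htc, mul_one] at h3
    exact hF.l1 h3.symm
  have hgs : Function.Surjective g := by
    rw [← MonoidHom.range_eq_top]
    by_contra hne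
    have h1 := hS.cent g.range hne (by
      rintro _ ⟨t, rfl⟩
      exact ⟨yT t, rfl⟩)
    obtain ⟨t, ht, htc⟩ := hsurj 1
    have h2 := h1 t.2 ⟨⟨t, ht⟩, rfl⟩
    have h3 := h.val_y t.2
    have h4 : val π t.2 = 1 := by
      rw [← show val π₀ t.1 = val π t.2 from hTF ht, htc]
    rw [h2, h4, mul_one] at h3
    exact hF.l1 h3.symm
  have hfb : Function.Bijective f := by
    rw [Nat.bijective_iff_surjective_and_card]
    refine ⟨hfs, ?_⟩
    apply le_antisymm
    · rw [hcard]; exact hcT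
    · exact Nat.card_le_card_of_surjective f hfs
  let E := MulEquiv.ofBijective f hfb
  refine ⟨g.comp E.symm.toMonoidHom, hgs.comp E.symm.surjective, ?_, ?_⟩
  · intro x
    obtain ⟨t, rfl⟩ := E.surjective x
    have h1 : y₀ (E t) = E (yT t) := rfl
    show g (E.symm (y₀ (E t))) = y (g (E.symm (E t)))
    rw [h1, E.symm_apply_apply, E.symm_apply_apply]
    rfl
  · intro x
    obtain ⟨t, rfl⟩ := E.surjective x
    show val π (g (E.symm (E t))) = val π₀ (E t)
    rw [E.symm_apply_apply]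
    exact (show val π₀ (t : P₀ × P).1 = val π (t : P₀ × P).2 from hTF t.2).symm

end Cfsg.Agent.Lib.H56Univ
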