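import Mathlib
import Cfsg.Agent.Lib.H56UnivE

set_option autoImplicit false

/-! The model group (S4395). -/

namespace Cfsg.Agent.Lib.H56Univ

open Subgroup
open Cfsg.Agent.Lib.H56Schmidt

variable {p q a : ℕ} {K : Type*} [Field K] {l : K}

/-- an involution `σ` of `K` inverting `l`, with the counting facts. -/
structure Sig (l : K) (σ : K →+* K) (n : ℕ) : Prop where
  inv : ∀ x, σ (σ x) = x
  sl : l * σ l = 1
  cK : Nat.card K = n * n
  ck : Nat.card {z : K // z + σ z = 0} = n
  tr : ∀ x, σ x = x → ∃ z, z + σ z = x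
  de : ∀ z, z + σ z = 0 → ∃ x, z = x - σ x

theorem exists_sig (h : FD p q a l) (ha : a % 2 = 0) : ∃ σ : K →+* K, Sig l σ (p ^ (a / 2)) := by
  haveI := Fact.mk h.hp
  haveI := Fact.mk h.hq
  haveI := h.finite
  haveI : Fintype K := Fintype.ofFinite K
  haveI hchar : CharP K p := by
    have h1 : ringChar K = p := by
      have h3 := Nat.cast_card_eq_zero K
      rw [← Nat.card_eq_fintype_card, h.card] at h3
      push_cast at h3
      have h4 : (p : K) = 0 := pow_eq_zero_iff (h.a_pos.ne') |>.1 h3
      have h5 : ringChar K ∣ p := (ringChar.spec K p).1 h4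
      rcases (Nat.dvd_prime h.hp).1 h5 with h6 | h6
      · exfalso
        have h7 := (ringChar.spec K 1).2 (by rw [h6])
        rw [Nat.cast_one] at h7
        exact one_ne_zero h7
      · exact h6
    rw [← h1]; exact ringChar.charP K
  have ha0 := h.a_pos
  obtain ⟨b, hb⟩ : ∃ b, b = a / 2 := ⟨_, rfl⟩
  have hab : a = b + b := by omega
  have hb0 : 0 < b := by omega
  rw [← hb]
  set n := p ^ b with hn
  have hn1 : 1 < n := Nat.one_lt_pow hb0.ne' h.hp.one_lt
  have hcK : Nat.card K = n * n := by rw [h.card, hab, pow_add]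
  let σ : K →+* K := iterateFrobenius K p b
  have hσ : ∀ x, σ x = x ^ n := fun x => iterateFrobenius_def p b x
  have hinv : ∀ x, σ (σ x) = x := by
    intro x
    rw [hσ, hσ, ← pow_mul, ← hcK, Nat.card_eq_fintype_card]
    exact FiniteField.pow_card x
  have hsl : l * σ l = 1 := by
    have hz : (((p : ZMod q) ^ b) - 1) * ((p : ZMod q) ^ b + 1) = 0 := by
      have h1 : (p : ZMod q) ^ a = 1 := by
        rw [h.ha]; exact pow_orderOf_eq_one _
      rw [hab, pow_add] at h1
      linear_combination h1
    have hne : (p : ZMod q) ^ b - 1 ≠ 0 := by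
      intro h1
      rw [sub_eq_zero] at h1
      have h2 := orderOf_dvd_of_pow_eq_one h1
      rw [← h.ha] at h2
      have := Nat.le_of_dvd hb0 h2
      omega
    have h1 := (mul_eq_zero.1 hz).resolve_left hne
    have h2 : ((n + 1 : ℕ) : ZMod q) = 0 := by
      rw [hn]; push_cast; exact h1
    rw [ZMod.natCast_eq_zero_iff] at h2
    obtain ⟨c, hc⟩ := h2
    rw [hσ, ← pow_succ', hc, pow_mul, h.lq, one_pow]
  -- fixed points
  let F : AddSubgroup K :=
    { carrier := {x | σ x = x}
      zero_mem' := map_zero σ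
      add_mem' := by
        intro u v hu hv
        show σ (u + v) = u + v
        rw [map_add, show σ u = u from hu, show σ v = v from hv]
      neg_mem' := by
        intro u hu
        show σ (-u) = -u
        rw [map_neg, show σ u = u from hu] }
  have hF : Nat.card F ≤ n := by
    classical
    have h1 : ((Polynomial.X ^ n - Polynomial.X : Polynomial K)).natDegree = n :=
      FiniteField.X_pow_card_sub_X_natDegree_eq K hn1
    have h0 : (Polynomial.X ^ n - Polynomial.X : Polynomial K) ≠ 0 := FiniteField.X_pow_card_sub_X_ne_zero K hn1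
    have h2 := Polynomial.card_roots' (Polynomial.X ^ n - Polynomial.X : Polynomial K)
    rw [h1] at h2
    refine le_trans ?_ h2
    refine le_trans ?_ (Multiset.toFinset_card_le _)
    rw [Nat.card_eq_fintype_card, Fintype.card_of_subtype
      ((Polynomial.X ^ n - Polynomial.X : Polynomial K).roots.toFinset)]
    intro x
    rw [Multiset.mem_toFinset, Polynomial.mem_roots h0, Polynomial.IsRoot.def]
    simp only [Polynomial.eval_sub, Polynomial.eval_pow, Polynomial.eval_X]
    rw [sub_eq_zero, ← hσ]
    rfl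
  let τ : K →+ K := AddMonoidHom.mk' (fun z => z + σ z) (by intro u v; rw [map_add]; ring)
  let δ : K →+ K := AddMonoidHom.mk' (fun z => z - σ z) (by intro u v; rw [map_add]; ring)
  have hτ : ∀ z, τ z = z + σ z := fun z => rfl
  have hδ : ∀ z, δ z = z - σ z := fun z => rfl
  have hkτ : Nat.card τ.ker ≤ Nat.card F := by
    by_cases hex : ∃ ε ∈ τ.ker, ε ≠ 0
    · obtain ⟨ε, hε, hε0⟩ := hex
      rw [AddMonoidHom.mem_ker, hτ] at hε
      have hsε : σ ε = - ε := by linear_combination hε
      apply Nat.card_le_card_of_injective (fun x : τ.ker => (⟨(x : K) / ε, by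
        have h1 := x.2
        rw [AddMonoidHom.mem_ker, hτ] at h1
        have h2 : σ (x : K) = - (x : K) := by linear_combination h1
        show σ ((x : K) / ε) = (x : K) / ε
        rw [map_div₀, hsε, h2, neg_div_neg_eq]⟩ : F))
      intro u v huv
      apply Subtype.ext
      have h1 : (u : K) / ε = v / ε := congrArg Subtype.val huv
      exact (div_left_inj' hε0).1 h1
    · push Not at hex
      have : τ.ker = ⊥ := by
        rw [eq_bot_iff]
        intro x hx
        exact hex x hx
      rw [this, AddSubgroup.card_bot]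
      exact Nat.card_pos
  have hrτ : τ.range ≤ F := by
    rintro _ ⟨z, rfl⟩
    show σ (z + σ z) = z + σ z
    rw [map_add, hinv]; ring
  have hmulτ : Nat.card τ.ker * Nat.card τ.range = n * n := by
    rw [← hcK, ← AddSubgroup.index_ker]; exact AddSubgroup.card_mul_index _
  have hrτle : Nat.card τ.range ≤ Nat.card F := AddSubgroup.card_le_of_le hrτ
  have hn0 : 0 < n := by omega
  have hFn : Nat.card F = n := by
    apply le_antisymm hF
    have h1 : n * n ≤ Nat.card F * Nat.card F := by rw [← hmulτ]; exact Nat.mul_le_mul hkτ hrτle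
    exact Nat.mul_self_le_mul_self_iff.1 h1
  have hkn : Nat.card τ.ker = n := by
    apply le_antisymm (hkτ.trans hF)
    have h1 : n * n ≤ Nat.card τ.ker * n := by
      rw [← hmulτ]; exact Nat.mul_le_mul_left _ (hrτle.trans hF)
    exact Nat.le_of_mul_le_mul_right h1 hn0
  have hrn : Nat.card τ.range = n := by
    rw [hkn] at hmulτ
    exact Nat.eq_of_mul_eq_mul_left hn0 hmulτ
  have hrF : τ.range = F := by
    apply AddSubgroup.eq_of_le_of_card_ge hrτ
    rw [hFn, hrn]
  have hkδ : δ.ker = F := by
    ext x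
    rw [AddMonoidHom.mem_ker, hδ, sub_eq_zero]
    exact eq_comm
  have hmulδ : Nat.card δ.ker * Nat.card δ.range = n * n := by
    rw [← hcK, ← AddSubgroup.index_ker]; exact AddSubgroup.card_mul_index _
  have hrδ : δ.range = τ.ker := by
    apply AddSubgroup.eq_of_le_of_card_ge
    · rintro _ ⟨x, rfl⟩
      rw [AddMonoidHom.mem_ker, hτ, hδ, map_sub, hinv]; ring
    · rw [hkδ, hFn] at hmulδ
      rw [hkn, Nat.eq_of_mul_eq_mul_left hn0 hmulδ]
  refine ⟨σ, hinv, hsl, hcK, ?_, ?_, ?_⟩
  · exact hkn
  · intro x hx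
    have h1 : x ∈ τ.range := by rw [hrF]; exact hx
    exact h1
  · intro z hz
    have h1 : z ∈ δ.range := by rw [hrδ]; exact hz
    obtain ⟨x, hx⟩ := h1
    exact ⟨x, hx.symm⟩

end Cfsg.Agent.Lib.H56Univ
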