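import Mathlib
import Cfsg.Agent.Lib.H56UnivF

set_option autoImplicit false

/-! The Hermitian model group (S4395). -/

namespace Cfsg.Agent.Lib.H56Univ

open Subgroup
open Cfsg.Agent.Lib.H56Schmidt

open scoped commutatorElement

variable {p q a : ℕ} {K : Type*} [Field K] {l : K}

/-- the Hermitian group. -/
@[ext] structure Herm (σ : K →+* K) (hσ : ∀ x, σ (σ x) = x) where
  x : K
  z : K
  rel : z + σ z = - (x * σ x)

namespace Herm

variable {σ : K →+* K} {hσ : ∀ x, σ (σ x) = x}

instance : Group (Herm σ hσ) where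
  mul u v := ⟨u.x + v.x, u.z + v.z - u.x * σ v.x, by
    have h1 := u.rel
    have h2 := v.rel
    simp only [map_add, map_sub, map_mul, hσ]
    linear_combination h1 + h2⟩
  one := ⟨0, 0, by simp⟩
  inv u := ⟨-u.x, σ u.z, by
    have h1 := u.rel
    simp only [map_neg, hσ]
    linear_combination h1⟩
  mul_assoc u v w := by
    apply Herm.ext
    · show u.x + v.x + w.x = u.x + (v.x + w.x)
      ring
    · show (u.z + v.z - u.x * σ v.x) + w.z - (u.x + v.x) * σ w.x = u.z + (v.z + w.z - v.x * σ w.x) - u.x * σ (v.x + w.x)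
      rw [map_add]; ring
  one_mul u := by
    apply Herm.ext
    · show 0 + u.x = u.x
      ring
    · show 0 + u.z - 0 * σ u.x = u.z
      ring
  mul_one u := by
    apply Herm.ext
    · show u.x + 0 = u.x
      ring
    · show u.z + 0 - u.x * σ 0 = u.z
      rw [map_zero]; ring
  inv_mul_cancel u := by
    apply Herm.ext
    · show -u.x + u.x = 0
      ring
    · show σ u.z + u.z - (-u.x) * σ u.x = 0
      have h1 := u.rel
      linear_combination h1

theorem mul_x (u v : Herm σ hσ) : (u * v).x = u.x + v.x := rfl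
theorem mul_z (u v : Herm σ hσ) : (u * v).z = u.z + v.z - u.x * σ v.x := rfl
theorem one_x : (1 : Herm σ hσ).x = 0 := rfl
theorem one_z : (1 : Herm σ hσ).z = 0 := rfl

/-- projection to `K`. -/
def proj (σ : K →+* K) (hσ : ∀ x, σ (σ x) = x) : Herm σ hσ →* Multiplicative K where
  toFun u := Multiplicative.ofAdd u.x
  map_one' := rfl
  map_mul' u v := rfl

theorem val_proj (u : Herm σ hσ) : val (proj σ hσ) u = u.x := rfl

/-- the automorphism. -/
def yy (l : K) (hl : l * σ l = 1) : MulAut (Herm σ hσ) :=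
  { toFun := fun u => ⟨l * u.x, u.z, by
      have h1 := u.rel
      rw [map_mul]
      linear_combination h1 + u.x * σ u.x * hl⟩
    invFun := fun u => ⟨σ l * u.x, u.z, by
      have h1 := u.rel
      rw [map_mul, hσ]
      linear_combination h1 + u.x * σ u.x * hl⟩
    left_inv := fun u => by
      apply Herm.ext
      · show σ l * (l * u.x) = u.x
        linear_combination u.x * hl
      · rfl
    right_inv := fun u => by
      apply Herm.ext
      · show l * (σ l * u.x) = u.x
        linear_combination u.x * hl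
      · rfl
    map_mul' := fun u v => by
      apply Herm.ext
      · show l * (u.x + v.x) = l * u.x + l * v.x
        ring
      · show u.z + v.z - u.x * σ v.x = u.z + v.z - (l * u.x) * σ (l * v.x)
        rw [map_mul]
        linear_combination (u.x * σ v.x) * hl }

theorem yy_x (hl : l * σ l = 1) (u : Herm σ hσ) : (yy l hl u).x = l * u.x := rfl
theorem yy_z (hl : l * σ l = 1) (u : Herm σ hσ) : (yy l hl u).z = u.z := rfl

theorem yy_pow_x (hl : l * σ l = 1) (k : ℕ) (u : Herm σ hσ) : ((yy l hl ^ k) u).x = l ^ k * u.x := by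
  induction k with
  | zero => rw [pow_zero, pow_zero, one_mul]; rfl
  | succ k ih => rw [pow_succ', MulAut.mul_apply, yy_x, ih, pow_succ', mul_assoc]

theorem yy_pow_z (hl : l * σ l = 1) (k : ℕ) (u : Herm σ hσ) : ((yy l hl ^ k) u).z = u.z := by
  induction k with
  | zero => rfl
  | succ k ih => rw [pow_succ', MulAut.mul_apply, yy_z, ih]

theorem proj_surj {n : ℕ} (hs : Sig l σ n) : Function.Surjective (proj σ hσ) := by
  intro c
  obtain ⟨z, hz⟩ := hs.tr (-(c.toAdd * σ c.toAdd)) (by
    rw [map_neg, map_mul, hσ, mul_comm])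
  exact ⟨⟨c.toAdd, z, hz⟩, rfl⟩

theorem cov {n : ℕ} (hs : Sig l σ n) : Cov l (yy (hσ := hσ) l hs.sl) (proj σ hσ) := by
  refine ⟨proj_surj hs, fun u => rfl, ?_, ?_⟩
  · intro u hu
    have h1 : u.x = 0 := hu
    apply Herm.ext
    · rw [yy_x, h1, mul_zero]
    · rfl
  · intro u hu
    have h1 : u.x = 0 := hu
    rw [mem_center_iff]
    intro g
    apply Herm.ext
    · rw [mul_x, mul_x, add_comm]
    · rw [mul_z, mul_z, h1, map_zero]; ring

theorem card {n : ℕ} (hs : Sig l σ n) : Nat.card (Herm σ hσ) = Nat.card K * n := by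
  have h1 := (proj σ hσ).ker.card_mul_index
  rw [Subgroup.index_ker, MonoidHom.range_eq_top.2 (proj_surj hs), Subgroup.card_top] at h1
  have h2 : Nat.card (proj σ hσ).ker = n := by
    rw [← hs.ck]
    apply Nat.card_congr
    exact
      { toFun := fun u => ⟨u.1.z, by
          have h3 : u.1.x = 0 := u.2
          have h4 := u.1.rel
          rw [h3, zero_mul, neg_zero] at h4
          exact h4⟩
        invFun := fun z => ⟨⟨0, z.1, by rw [z.2]; simp⟩, rfl⟩
        left_inv := fun u => by
          apply Subtype.ext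
          apply Herm.ext
          · exact (show u.1.x = 0 from u.2).symm
          · rfl
        right_inv := fun z => rfl }
  rw [h2] at h1
  rw [← h1, mul_comm]
  rfl

theorem schmidt (h : FD p q a l) {n : ℕ} (hn : n = p ^ (a / 2)) (hs : Sig l σ n) :
    Schmidt p q (yy (hσ := hσ) l hs.sl) := by
  haveI := Fact.mk h.hp
  have hcov := cov (hσ := hσ) hs
  refine ⟨h.hp, h.hq, h.hpq, ?_, ?_, ?_, ?_⟩
  · apply IsPGroup.of_card (n := a + a / 2)
    rw [card hs, h.card, hn, pow_add]
  · ext u : 1
    apply Herm.ext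
    · rw [yy_pow_x, h.lq, one_mul]; rfl
    · rw [yy_pow_z]; rfl
  · intro h1
    obtain ⟨u, hu⟩ := hcov.val_surj 1
    have h2 := hcov.val_y u
    rw [h1, MulAut.one_apply, hu, mul_one] at h2
    exact h.l1 h2.symm
  · intro R hR hinv
    let V : AddSubgroup K :=
      { carrier := {c | ∃ r ∈ R, r.x = c}
        zero_mem' := ⟨1, one_mem _, rfl⟩
        add_mem' := by
          rintro _ _ ⟨r, hr, rfl⟩ ⟨s, hs, rfl⟩
          exact ⟨r * s, mul_mem hr hs, rfl⟩
        neg_mem' := by
          rintro _ ⟨r, hr, rfl⟩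
          exact ⟨r⁻¹, inv_mem hr, rfl⟩ }
    rcases h.irred V (by
      rintro _ ⟨r, hr, rfl⟩
      exact ⟨_, hinv r hr, rfl⟩) with hV | hV
    · intro r hr
      have h1 : r.x ∈ V := ⟨r, hr, rfl⟩
      rw [hV] at h1
      exact hcov.fix r h1
    · exfalso
      apply hR
      rw [eq_top_iff]
      intro t _
      have hV' : ∀ c : K, ∃ r ∈ R, r.x = c := by
        intro c
        have : c ∈ V := by rw [hV]; trivial
        exact this
      obtain ⟨r, hr, hrt⟩ := hV' t.x
      -- the kernel is in `R`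
      have hker : ∀ w : Herm σ hσ, w.x = 0 → w ∈ R := by
        intro w hw
        have h1 := w.rel
        rw [hw, zero_mul, neg_zero] at h1
        obtain ⟨x, hx⟩ := hs.de w.z h1
        obtain ⟨r1, hr1, hr1x⟩ := hV' 1
        obtain ⟨r2, hr2, hr2x⟩ := hV' x
        have h2 : w * (r2 * r1) = r1 * r2 := by
          apply Herm.ext
          · rw [mul_x, mul_x, mul_x, hw]; ring
          · rw [mul_z, mul_z, mul_z, mul_x, hw, hr1x, hr2x, hx, map_one]; ring
        have h3 : w = r1 * r2 * (r2 * r1)⁻¹ := by rw [← h2]; group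
        rw [h3]
        exact mul_mem (mul_mem hr1 hr2) (inv_mem (mul_mem hr2 hr1))
      have h4 : t * r⁻¹ ∈ R := by
        apply hker
        show t.x + -r.x = 0
        rw [hrt]; ring
      have h5 := mul_mem h4 hr
      rwa [inv_mul_cancel_right] at h5

end Herm

/-- the abelian model. -/
def ym (l : K) (hl : l ≠ 0) : MulAut (Multiplicative K) :=
  { toFun := fun u => Multiplicative.ofAdd (l * u.toAdd)
    invFun := fun u => Multiplicative.ofAdd (l⁻¹ * u.toAdd)
    left_inv := fun u => by
      show Multiplicative.ofAdd (l⁻¹ * (l * u.toAdd)) = u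
      rw [inv_mul_cancel_left₀ hl]; rfl
    right_inv := fun u => by
      show Multiplicative.ofAdd (l * (l⁻¹ * u.toAdd)) = u
      rw [mul_inv_cancel_left₀ hl]; rfl
    map_mul' := fun u v => by
      show Multiplicative.ofAdd (l * (u.toAdd + v.toAdd)) = _
      rw [mul_add]; rfl }

theorem ym_pow (hl : l ≠ 0) (k : ℕ) (u : Multiplicative K) :
    (ym l hl ^ k) u = Multiplicative.ofAdd (l ^ k * u.toAdd) := by
  induction k with
  | zero => rw [pow_zero, pow_zero, one_mul]; rfl
  | succ k ih =>
    rw [pow_succ', MulAut.mul_apply, ih, pow_succ', mul_assoc]; rfl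

theorem cov_m (hl : l ≠ 0) : Cov l (ym l hl) (MonoidHom.id (Multiplicative K)) := by
  refine ⟨fun c => ⟨c, rfl⟩, fun u => rfl, ?_, ?_⟩
  · intro u hu
    rw [show u = 1 from hu, map_one]
  · intro u _
    rw [mem_center_iff]
    intro g
    exact mul_comm _ _

theorem schmidt_m (h : FD p q a l) : Schmidt p q (ym l h.l0) := by
  haveI := Fact.mk h.hp
  refine ⟨h.hp, h.hq, h.hpq, ?_, ?_, ?_, ?_⟩
  · apply IsPGroup.of_card (n := a)
    exact h.card
  · ext u : 1
    rw [ym_pow, h.lq, one_mul]; rfl
  · intro h1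
    have h2 : ym l h.l0 (Multiplicative.ofAdd 1) = Multiplicative.ofAdd 1 := by rw [h1]; rfl
    have h3 : l * 1 = 1 := h2
    rw [mul_one] at h3
    exact h.l1 h3
  · intro R hR hinv
    let V : AddSubgroup K := Subgroup.toAddSubgroup' R
    rcases h.irred V (fun v hv => hinv _ hv) with hV | hV
    · intro r hr
      have h1 : r.toAdd ∈ V := hr
      rw [hV] at h1
      have h2 : r = 1 := h1
      rw [h2, map_one]
    · exfalso
      apply hR
      rw [eq_top_iff]
      intro r _
      have h1 : r.toAdd ∈ V := by rw [hV]; trivial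
      exact h1

/-- the model. -/
theorem exists_model {K : Type} [Field K] {l : K} (h : FD p q a l) :
    ∃ (P₀ : Type) (_ : Group P₀) (_ : Finite P₀) (y₀ : MulAut P₀) (π₀ : P₀ →* Multiplicative K),
      Schmidt p q y₀ ∧ Cov l y₀ π₀ ∧ Nat.card P₀ = p ^ (if a % 2 = 1 then a else 3 * a / 2) := by
  haveI := h.finite
  by_cases ha : a % 2 = 1
  · refine ⟨Multiplicative K, inferInstance, inferInstance, ym l h.l0, MonoidHom.id _, schmidt_m h, cov_m h.l0, ?_⟩
    rw [if_pos ha]
    exact h.card
  · obtain ⟨σ, hs⟩ := exists_sig h (by omega)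
    have hc : Nat.card (Herm σ hs.inv) = p ^ (if a % 2 = 1 then a else 3 * a / 2) := by
      rw [Herm.card hs, h.card, if_neg ha, ← pow_add]
      congr 1
      omega
    refine ⟨Herm σ hs.inv, inferInstance, ?_, Herm.yy l hs.sl, Herm.proj σ hs.inv, Herm.schmidt h rfl hs, Herm.cov hs, hc⟩
    apply Nat.finite_of_card_ne_zero
    rw [hc]
    exact pow_ne_zero _ h.hp.ne_zero

end Cfsg.Agent.Lib.H56Univ
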