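import Mathlib
import Cfsg.Agent.Lib.H56UnivG
import Cfsg.Agent.Lib.PNilp

set_option autoImplicit false

/-! The semidirect product of a Schmidt pair with a cyclic group (S4395). -/

namespace Cfsg.Agent.Lib.H56Univ

open Subgroup Cfsg
open Cfsg.Agent.Lib
open Cfsg.Agent.Lib.H56Schmidt
open scoped Pointwise

variable {p q r : ℕ} {P₀ C : Type*} [Group P₀] [Group C] {y₀ : MulAut P₀} {φ : C →* MulAut P₀} {g : C}

/-- the setting. -/
structure SD (p q r : ℕ) (y₀ : MulAut P₀) (φ : C →* MulAut P₀) (g : C) : Prop where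
  hS : Schmidt p q y₀
  hr : 1 ≤ r
  hg : ∀ c, c ∈ zpowers g
  ho : orderOf g = q ^ r
  hφ : φ g = y₀

namespace SD

variable [Finite P₀] [Finite C]

omit [Finite P₀] in
theorem cardC (h : SD p q r y₀ φ g) : Nat.card C = q ^ r := by
  rw [← h.ho]; exact (orderOf_eq_card_of_forall_mem_zpowers h.hg).symm

omit [Finite P₀] in
theorem exists_pow (h : SD p q r y₀ φ g) (c : C) : ∃ k : ℕ, g ^ k = c := by
  obtain ⟨k, hk⟩ := (mem_powers_iff_mem_zpowers).2 (h.hg c)
  exact ⟨k, hk⟩

instance : Finite (SemidirectProduct P₀ C φ) := Finite.of_equiv _ SemidirectProduct.equivProd.symm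

theorem card_G (h : SD p q r y₀ φ g) {b : ℕ} (hb : Nat.card P₀ = p ^ b) :
    Nat.card (SemidirectProduct P₀ C φ) = p ^ b * q ^ r := by
  rw [SemidirectProduct.card, hb, h.cardC]

theorem fin_sd : Finite (SemidirectProduct P₀ C φ) := inferInstance

/-- the criterion for a normal `p`-complement. -/
theorem npc (h : SD p q r y₀ φ g) (M : Subgroup (SemidirectProduct P₀ C φ))
    (hM : ∀ m ∈ M, ∀ m' ∈ M, φ m.right m'.left = m'.left) : HasNormalPComplement p M := by
  haveI := Fact.mk h.hS.hp
  haveI := Fact.mk h.hS.hq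
  let f : M →* P₀ :=
    { toFun := fun m => m.1.left
      map_one' := rfl
      map_mul' := by
        intro m m'
        show (m.1 * m'.1).left = _
        rw [SemidirectProduct.mul_left, hM m m.2 m' m'.2] }
  rw [Cfsg.Agent.Lib.PNilp.hasNormalPComplement_iff]
  refine ⟨f.ker, inferInstance, ?_, ?_⟩
  · have h1 : Nat.card f.ker ∣ Nat.card C := by
      let f2 : f.ker →* C := SemidirectProduct.rightHom.comp (M.subtype.comp f.ker.subtype)
      apply Subgroup.card_dvd_of_injective f2
      intro u v huv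
      apply Subtype.ext
      apply Subtype.ext
      apply SemidirectProduct.ext
      · exact (show u.1.1.left = 1 from u.2).trans (show v.1.1.left = 1 from v.2).symm
      · exact huv
    intro hd
    have h2 := hd.trans h1
    rw [h.cardC] at h2
    have h3 := h.hS.hp.dvd_of_dvd_pow h2
    exact h.hS.hpq ((Nat.prime_dvd_prime_iff_eq h.hS.hp h.hS.hq).1 h3)
  · rw [Subgroup.index_ker]
    exact IsPGroup.iff_card.1 (h.hS.isP.to_subgroup f.range)

theorem not_npc (h : SD p q r y₀ φ g) : ¬ HasNormalPComplement p (SemidirectProduct P₀ C φ) := by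
  haveI := Fact.mk h.hS.hp
  haveI := Fact.mk h.hS.hq
  intro hcon
  rw [Cfsg.Agent.Lib.PNilp.hasNormalPComplement_iff] at hcon
  obtain ⟨N, hN, hpN, k, hk⟩ := hcon
  -- `inr g ∈ N`
  have hgN : (SemidirectProduct.inr g : SemidirectProduct P₀ C φ) ∈ N := by
    rw [← QuotientGroup.eq_one_iff]
    have h1 : orderOf ((SemidirectProduct.inr g : SemidirectProduct P₀ C φ) : SemidirectProduct P₀ C φ ⧸ N) ∣ p ^ k := by
      rw [← hk, index_eq_card]; exact orderOf_dvd_natCard _
    have h2 : orderOf ((SemidirectProduct.inr g : SemidirectProduct P₀ C φ) : SemidirectProduct P₀ C φ ⧸ N) ∣ q ^ r := by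
      apply orderOf_dvd_of_pow_eq_one
      rw [← QuotientGroup.mk_pow, ← map_pow, ← h.ho, pow_orderOf_eq_one, map_one]
      rfl
    rw [← orderOf_eq_one_iff]
    exact Nat.eq_one_of_dvd_coprimes (Nat.Coprime.pow k r ((Nat.coprime_primes h.hS.hp h.hS.hq).2 h.hS.hpq)) h1 h2
  apply h.hS.y1
  ext x
  rw [MulAut.one_apply]
  have h3 : (SemidirectProduct.inl (y₀ x * x⁻¹) : SemidirectProduct P₀ C φ) ∈ N := by
    have h4 : (SemidirectProduct.inl (y₀ x * x⁻¹) : SemidirectProduct P₀ C φ) =
        SemidirectProduct.inr g * (SemidirectProduct.inl x * (SemidirectProduct.inr g)⁻¹ * (SemidirectProduct.inl x)⁻¹) := by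
      rw [map_mul, ← h.hφ, SemidirectProduct.inl_aut, map_inv, map_inv]
      group
    rw [h4]
    exact mul_mem hgN (hN.conj_mem _ (inv_mem hgN) _)
  obtain ⟨m, hm⟩ := h.hS.isP (y₀ x * x⁻¹)
  have h5 : (y₀ x * x⁻¹) = 1 := by
    have h6 : orderOf (⟨_, h3⟩ : N) ∣ Nat.card N := orderOf_dvd_natCard _
    have h7 : orderOf (⟨_, h3⟩ : N) ∣ p ^ m := by
      apply orderOf_dvd_of_pow_eq_one
      apply Subtype.ext
      show (SemidirectProduct.inl (y₀ x * x⁻¹) : SemidirectProduct P₀ C φ) ^ p ^ m = 1
      rw [← map_pow, hm, map_one]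
    have h8 : orderOf (⟨_, h3⟩ : N) = 1 := by
      apply Nat.eq_one_of_dvd_coprimes _ h6 h7
      exact (Nat.Coprime.pow_left m ((Nat.Prime.coprime_iff_not_dvd h.hS.hp).2 hpN)).symm
    rw [orderOf_eq_one_iff] at h8
    have h9 := congrArg Subtype.val h8
    exact SemidirectProduct.inl_injective (by rw [map_one]; exact h9)
  exact mul_inv_eq_one.1 h5

theorem proper (h : SD p q r y₀ φ g) (M : Subgroup (SemidirectProduct P₀ C φ)) (hMt : M ≠ ⊤) :
    HasNormalPComplement p M := by
  haveI := Fact.mk h.hS.hp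
  haveI := Fact.mk h.hS.hq
  by_cases hA : ∀ m ∈ M, φ m.right = 1
  · apply h.npc
    intro m hm m' _
    rw [hA m hm]; rfl
  · push Not at hA
    obtain ⟨m0, hm0, hm0r⟩ := hA
    -- `M` maps onto `C`
    have honto : M.map (SemidirectProduct.rightHom : SemidirectProduct P₀ C φ →* C) = ⊤ := by
      obtain ⟨k, hk⟩ := h.exists_pow m0.right
      have hqk : ¬ q ∣ k := by
        rintro ⟨c, rfl⟩
        apply hm0r
        rw [← hk, map_pow, h.hφ, pow_mul, h.hS.yq, one_pow]
      have h1 : (orderOf g).Coprime k := by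
        rw [h.ho]
        exact Nat.Coprime.pow_left r ((Nat.Prime.coprime_iff_not_dvd h.hS.hq).2 hqk)
      obtain ⟨m, hm⟩ := exists_pow_eq_self_of_coprime h1.symm
      rw [eq_top_iff]
      intro c _
      obtain ⟨j, hj⟩ := h.exists_pow c
      have h2 : m0.right ∈ M.map (SemidirectProduct.rightHom : SemidirectProduct P₀ C φ →* C) := ⟨m0, hm0, rfl⟩
      rw [← hk] at h2
      rw [← hj, ← hm]
      exact pow_mem (pow_mem h2 m) j
    have hqM : q ^ r ∣ Nat.card M := by
      rw [← h.cardC, ← Subgroup.card_top (G := C), ← honto]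
      exact Subgroup.card_map_dvd _ _
    -- the Sylow subgroup `⟨inr g⟩`
    obtain ⟨b, hb⟩ := IsPGroup.iff_card.1 h.hS.isP
    have hcG := h.card_G hb
    have hog : orderOf (SemidirectProduct.inr g : SemidirectProduct P₀ C φ) = q ^ r := by
      rw [orderOf_injective _ SemidirectProduct.inr_injective, h.ho]
    obtain ⟨T, hT⟩ := Sylow.exists_subgroup_card_pow_prime q hqM
    have hfac : (Nat.card (SemidirectProduct P₀ C φ)).factorization q = r := by
      rw [hcG, Nat.factorization_mul (pow_ne_zero _ h.hS.hp.ne_zero) (pow_ne_zero _ h.hS.hq.ne_zero),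
        h.hS.hp.factorization_pow, h.hS.hq.factorization_pow]
      simp [h.hS.hpq]
    let S1 : Sylow q (SemidirectProduct P₀ C φ) := Sylow.ofCard (zpowers (SemidirectProduct.inr g)) (by
      rw [Nat.card_zpowers, hog, hfac])
    let S2 : Sylow q (SemidirectProduct P₀ C φ) := Sylow.ofCard (T.map M.subtype) (by
      rw [Subgroup.card_map_of_injective M.subtype_injective, hT, hfac])
    obtain ⟨x, hx⟩ := MulAction.exists_smul_eq (SemidirectProduct P₀ C φ) S2 S1
    let M' : Subgroup (SemidirectProduct P₀ C φ) := M.map (MulAut.conj x).toMonoidHom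
    have hM't : M' ≠ ⊤ := by
      intro h1
      apply hMt
      apply Subgroup.eq_top_of_card_eq
      rw [← Subgroup.card_top (G := SemidirectProduct P₀ C φ), ← h1]
      exact (Subgroup.card_map_of_injective (MulAut.conj x).injective).symm
    have hgM' : (SemidirectProduct.inr g : SemidirectProduct P₀ C φ) ∈ M' := by
      have h1 : (SemidirectProduct.inr g : SemidirectProduct P₀ C φ) ∈ (S1 : Subgroup (SemidirectProduct P₀ C φ)) :=
        mem_zpowers _
      rw [← hx, Sylow.coe_subgroup_smul] at h1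
      obtain ⟨t, ht, htx⟩ := h1
      obtain ⟨s, hs, rfl⟩ := ht
      exact ⟨s, s.2, htx⟩
    have hinr : ∀ c : C, (SemidirectProduct.inr c : SemidirectProduct P₀ C φ) ∈ M' := by
      intro c
      obtain ⟨k, rfl⟩ := h.exists_pow c
      rw [map_pow]
      exact pow_mem hgM' k
    let R : Subgroup P₀ := M'.comap SemidirectProduct.inl
    have hleft : ∀ m ∈ M', m.left ∈ R := by
      intro m hm
      show (SemidirectProduct.inl m.left : SemidirectProduct P₀ C φ) ∈ M'
      have h1 : (SemidirectProduct.inl m.left : SemidirectProduct P₀ C φ) = m * (SemidirectProduct.inr m.right)⁻¹ := by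
        rw [eq_mul_inv_iff_mul_eq]
        exact SemidirectProduct.inl_left_mul_inr_right m
      rw [h1]
      exact mul_mem hm (inv_mem (hinr _))
    have hR : R ≠ ⊤ := by
      intro h1
      apply hM't
      rw [eq_top_iff]
      intro m _
      rw [← SemidirectProduct.inl_left_mul_inr_right m]
      apply mul_mem _ (hinr _)
      have : m.left ∈ R := by rw [h1]; trivial
      exact this
    have hfix := h.hS.cent R hR (by
      intro z hz
      show (SemidirectProduct.inl (y₀ z) : SemidirectProduct P₀ C φ) ∈ M'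
      rw [← h.hφ, SemidirectProduct.inl_aut, map_inv]
      exact mul_mem (mul_mem hgM' hz) (inv_mem hgM'))
    have hfixk : ∀ (k : ℕ), ∀ z ∈ R, (y₀ ^ k) z = z := by
      intro k z hz
      induction k with
      | zero => rfl
      | succ k ih => rw [pow_succ', MulAut.mul_apply, ih, hfix z hz]
    have h1 : HasNormalPComplement p M' := by
      apply h.npc
      intro m _ m' hm'
      obtain ⟨k, hk⟩ := h.exists_pow m.right
      rw [← hk, map_pow, h.hφ]
      exact hfixk k _ (hleft m' hm')
    exact Cfsg.Agent.Lib.PNilp.HasNormalPComplement.of_mulEquiv h1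
      (M.equivMapOfInjective (MulAut.conj x).toMonoidHom (MulAut.conj x).injective).symm

end SD

end Cfsg.Agent.Lib.H56Univ
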