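import Mathlib
import Cfsg.Prelude.Def_Transfer
import Cfsg.Agent.Lib.PNilp
import Cfsg.Agent.Lib.GroupUtil
import Cfsg.Agent.Lib.Transfer

/-!
# Minimal non-`p`-nilpotent groups (Ito) (helper2)
-/

set_option autoImplicit false

open Subgroup
open scoped Pointwise commutatorElement

namespace Cfsg.Agent.Lib.MinNonPNilp

open Cfsg.Agent.Lib.PNilp Cfsg.Agent.Lib.GroupUtil Cfsg.Agent.Lib.Transfer

variable {G : Type*} [Group G]

/-- Among the elements of order prime to `p` outside a subgroup `C` (in a set closed under powers) there is one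
of prime power order. -/
theorem exists_prime_power [Finite G] (N C : Subgroup G) {p : ℕ} {g : G} (hgN : g ∈ N)
    (hgp : Nat.Coprime (orderOf g) p) (hgC : g ∉ C) :
    ∃ (h : G) (q k : ℕ), h ∈ N ∧ q.Prime ∧ orderOf h = q ^ k ∧ Nat.Coprime (orderOf h) p ∧ h ∉ C := by
  have key : ∀ n : ℕ, ∀ g : G, g ∈ N → Nat.Coprime (orderOf g) p → g ∉ C → orderOf g ≤ n →
      ∃ (h : G) (q k : ℕ), h ∈ N ∧ q.Prime ∧ orderOf h = q ^ k ∧ Nat.Coprime (orderOf h) p ∧ h ∉ C := by
    intro n
    induction n with
    | zero =>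
      intro g _ _ _ h
      exact absurd h (by have := orderOf_pos g; omega)
    | succ n ih =>
      intro g hgN hgp hgC hn
      have hg1 : orderOf g ≠ 1 := by
        intro h
        rw [orderOf_eq_one_iff] at h
        exact hgC (h ▸ one_mem _)
      set m := orderOf g with hm
      have hm0 : m ≠ 0 := (orderOf_pos g).ne'
      set q := m.minFac with hq
      have hqp : q.Prime := Nat.minFac_prime hg1
      set a := q ^ m.factorization q with ha
      set b := m / q ^ m.factorization q with hb
      have hab : a * b = m := Nat.ordProj_mul_ordCompl_eq_self m q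
      have hcop : Nat.Coprime a b := Nat.Coprime.pow_left _ (Nat.coprime_ordCompl hqp hm0)
      by_cases hb1 : b = 1
      · refine ⟨g, q, m.factorization q, hgN, hqp, ?_, hgp, hgC⟩
        rw [hb1, mul_one] at hab
        exact hab.symm
      · have ha1 : 1 < a := by
          have h1 : 0 < m.factorization q := hqp.factorization_pos_of_dvd hm0 (Nat.minFac_dvd m)
          exact Nat.one_lt_pow h1.ne' hqp.one_lt
        have hb0 : 0 < b := Nat.pos_of_ne_zero (by rintro h; rw [h, mul_zero] at hab; exact hm0 hab.symm)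
        have hb2 : 1 < b := by omega
        have hoa : orderOf (g ^ a) = b := by
          rw [orderOf_pow' g (by omega), ← hm, Nat.gcd_eq_right (Dvd.intro _ hab), ← hab,
            Nat.mul_div_cancel_left _ (by omega)]
        have hob : orderOf (g ^ b) = a := by
          rw [orderOf_pow' g (by omega), ← hm, Nat.gcd_eq_right (Dvd.intro_left _ hab), ← hab,
            Nat.mul_div_cancel _ hb0]
        by_cases hga : g ^ a ∈ C
        · by_cases hgb : g ^ b ∈ C
          · exfalso
            apply hgC
            have h2 : (1 : ℤ) = a * Nat.gcdA a b + b * Nat.gcdB a b := by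
              have := Nat.gcd_eq_gcd_ab a b
              rw [hcop] at this
              exact_mod_cast this
            have h3 : g = g ^ (1 : ℤ) := (zpow_one g).symm
            rw [h3, h2, zpow_add, zpow_mul, zpow_mul, zpow_natCast, zpow_natCast]
            exact mul_mem (zpow_mem hga _) (zpow_mem hgb _)
          · apply ih (g ^ b) (pow_mem hgN b)
            · rw [hob]
              exact Nat.Coprime.coprime_dvd_left (Dvd.intro _ hab) hgp
            · exact hgb
            · rw [hob]
              nlinarith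
        · apply ih (g ^ a) (pow_mem hgN a)
          · rw [hoa]
            exact Nat.Coprime.coprime_dvd_left (Dvd.intro_left _ hab) hgp
          · exact hga
          · rw [hoa]
            nlinarith
  exact key _ g hgN hgp hgC le_rfl

/-- Structure of a minimal non-`p`-nilpotent group: `G = Q ⟨g⟩` with `Q` a normal `p`-subgroup and `g` of prime
power order `q^k`, `q ≠ p`, not centralizing `Q`. -/
theorem structure_thm [Finite G] {p : ℕ} [Fact p.Prime] (h1 : ¬ HasNormalPComplement p G)
    (h2 : ∀ H : Subgroup G, H ≠ ⊤ → HasNormalPComplement p H) :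
    ∃ (Q : Subgroup G) (g : G) (q k : ℕ), IsPGroup p Q ∧ Q.Normal ∧ q.Prime ∧ q ≠ p ∧ orderOf g = q ^ k ∧
      Q ⊔ zpowers g = ⊤ ∧ g ∉ centralizer (Q : Set G) := by
  rw [hasNormalPComplement_iff_forall_centralizer] at h1
  push Not at h1
  obtain ⟨Q, hQ, g₀, hg₀N, hg₀p, hg₀C⟩ := h1
  obtain ⟨g, q, k, hgN, hq, hgo, hgp, hgC⟩ := exists_prime_power (normalizer (Q : Set G))
    (centralizer (Q : Set G)) hg₀N hg₀p hg₀C
  have htop : Q ⊔ zpowers g = ⊤ := by
    by_contra hne
    apply hgC
    have h3 := h2 _ hne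
    have h4 := mem_centralizer_of_hasNormalPComplement h3 (Q.subgroupOf (Q ⊔ zpowers g))
      (hQ.of_equiv (subgroupOfEquivOfLe le_sup_left).symm) ⟨g, mem_sup_right (mem_zpowers g)⟩ (by
        rw [mem_normalizer_iff]
        rintro ⟨y, hy⟩
        exact (mem_normalizer_iff.mp hgN) y) (by rwa [Subgroup.orderOf_mk])
    rw [mem_centralizer_iff] at h4 ⊢
    intro y hy
    exact congrArg Subtype.val (h4 ⟨y, mem_sup_left hy⟩ hy)
  refine ⟨Q, g, q, k, hQ, ?_, hq, ?_, hgo, htop, hgC⟩
  · rw [← normalizer_eq_top_iff, eq_top_iff, ← htop, sup_le_iff]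
    exact ⟨le_normalizer, by rwa [zpowers_le]⟩
  · rintro rfl
    rw [hgo] at hgp
    have hk : k = 0 := by
      by_contra hk
      have := Nat.Coprime.coprime_dvd_left (dvd_pow_self q hk) hgp
      rw [Nat.coprime_self] at this
      exact hq.one_lt.ne' this
    rw [hk, pow_zero, orderOf_eq_one_iff] at hgo
    exact hgC (hgo ▸ one_mem _)

/-- Ito: a minimal non-`p`-nilpotent group is minimal non-nilpotent with a normal Sylow `p`-subgroup. -/
theorem ito [Finite G] {p : ℕ} [hp : Fact p.Prime] (h1 : ¬ HasNormalPComplement p G)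
    (h2 : ∀ H : Subgroup G, H ≠ ⊤ → HasNormalPComplement p H) :
    (∀ H : Subgroup G, H ≠ ⊤ → Group.IsNilpotent H) ∧ ¬ Group.IsNilpotent G ∧
      ∀ P : Sylow p G, (P : Subgroup G).Normal := by
  obtain ⟨Q, g, q, k, hQ, hQn, hq, hqp, hgo, htop, hgC⟩ := structure_thm h1 h2
  have hq' : Fact q.Prime := ⟨hq⟩
  have hGQ : IsPGroup q (G ⧸ Q) := by
    intro y
    obtain ⟨y, rfl⟩ := QuotientGroup.mk'_surjective Q y
    have hy : y ∈ Q ⊔ zpowers g := htop ▸ mem_top y
    obtain ⟨u, hu, v, ⟨i, rfl⟩, rfl⟩ := (Subgroup.mem_sup_of_normal_left).mp hy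
    refine ⟨k, ?_⟩
    have h3 : QuotientGroup.mk' Q u = 1 := (QuotientGroup.eq_one_iff u).mpr hu
    simp only
    rw [map_mul, h3, one_mul, ← map_pow, ← zpow_natCast, ← zpow_mul, mul_comm, zpow_mul, zpow_natCast, ← hgo,
      pow_orderOf_eq_one, one_zpow, map_one]
  refine ⟨fun H hH => ?_, fun hnil => ?_, fun P => ?_⟩
  · -- proper subgroups are nilpotent
    obtain ⟨K, hK, hKp, m, hm⟩ := hasNormalPComplement_iff.mp (h2 H hH)
    have hKq : IsPGroup p (H ⧸ K) := isPGroup_quotient_of_index K hm
    have n1 : Group.IsNilpotent (H ⧸ K) := hKq.isNilpotent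
    have n2 : Group.IsNilpotent (G ⧸ Q) := hGQ.isNilpotent
    let f : H →* (H ⧸ K) × (G ⧸ Q) := (QuotientGroup.mk' K).prod ((QuotientGroup.mk' Q).comp H.subtype)
    have hf : Function.Injective f := by
      rw [injective_iff_map_eq_one]
      intro x hx
      have h3 : QuotientGroup.mk' K x = 1 := congrArg Prod.fst hx
      have h4 : QuotientGroup.mk' Q (x : G) = 1 := congrArg Prod.snd hx
      have h5 : x ∈ K := (QuotientGroup.eq_one_iff x).mp h3
      have h6 : (x : G) ∈ Q := (QuotientGroup.eq_one_iff (x : G)).mp h4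
      obtain ⟨j, hj⟩ := (IsPGroup.iff_orderOf.mp hQ) ⟨x, h6⟩
      rw [Subgroup.orderOf_mk, Subgroup.orderOf_coe] at hj
      have h7 : orderOf x ∣ Nat.card K := by
        have := orderOf_dvd_natCard (⟨x, h5⟩ : K)
        rwa [Subgroup.orderOf_mk] at this
      have h8 : j = 0 := by
        by_contra hj0
        apply hKp
        exact (dvd_pow_self p hj0).trans (hj ▸ h7)
      rw [h8, pow_zero, orderOf_eq_one_iff] at hj
      exact hj
    have e : H ≃* f.range := MonoidHom.ofInjective hf
    have n3 : Group.IsNilpotent f.range := inferInstance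
    exact (Group.isNilpotent_congr e.symm).mp n3
  · -- not nilpotent
    apply hgC
    have hgq : IsPGroup q (zpowers g) := by
      apply IsPGroup.of_card (n := k)
      rw [Nat.card_zpowers, hgo]
    obtain ⟨S, hS⟩ := hgq.exists_le_sylow
    have hSn : (S : Subgroup G).Normal := by
      have := (Group.isNilpotent_of_finite_tfae (G := G)).out 0 3
      exact this.mp hnil q hq' S
    have hdisj : Q ⊓ (S : Subgroup G) = ⊥ := by
      rw [eq_bot_iff]
      rintro x ⟨hx1, hx2⟩
      obtain ⟨i, hi⟩ := (IsPGroup.iff_orderOf.mp hQ) ⟨x, hx1⟩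
      obtain ⟨j, hj⟩ := (IsPGroup.iff_orderOf.mp S.2) ⟨x, hx2⟩
      rw [Subgroup.orderOf_mk] at hi hj
      have h8 : Nat.Coprime (orderOf x) (orderOf x) := by
        conv_lhs => rw [hi]
        conv_rhs => rw [hj]
        exact Nat.Coprime.pow _ _ ((Nat.coprime_primes hp.out hq).mpr (Ne.symm hqp))
      rw [Nat.coprime_self, orderOf_eq_one_iff] at h8
      exact h8
    have hcomm : ⁅Q, (S : Subgroup G)⁆ ≤ ⊥ := by
      rw [← hdisj]
      exact le_inf (commutator_le_left _ _) (commutator_le_right _ _)
    rw [mem_centralizer_iff]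
    intro y hy
    have h9 := hcomm (commutator_mem_commutator hy (hS (mem_zpowers g)))
    rw [mem_bot, commutatorElement_eq_one_iff_mul_comm] at h9
    exact h9
  · have hPQ : (P : Subgroup G) = Q := by
      apply le_antisymm
      · intro x hx
        obtain ⟨j, hj⟩ := (IsPGroup.iff_orderOf.mp P.2) ⟨x, hx⟩
        rw [Subgroup.orderOf_mk] at hj
        have h3 : QuotientGroup.mk' Q x = 1 := by
          apply eq_one_of_isPGroup_of_coprime hGQ
          rw [hj]
          exact Nat.Coprime.pow_left _ ((Nat.coprime_primes hp.out hq).mpr (Ne.symm hqp))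
        exact (QuotientGroup.eq_one_iff x).mp h3
      · obtain ⟨R, hR⟩ := hQ.exists_le_sylow
        obtain ⟨a, ha⟩ := MulAction.exists_smul_eq G R P
        intro x hx
        rw [← ha, mem_smul_sylow]
        apply hR
        have := hQn.conj_mem x hx a⁻¹
        rwa [inv_inv] at this
    rw [hPQ]
    exact hQn

end Cfsg.Agent.Lib.MinNonPNilp
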