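import Mathlib
import Cfsg.Agent.Lib.H56UnivH
import Cfsg.Agent.Lib.H56SchmidtB
import Cfsg.Agent.Lib.MinNonPNilp

set_option autoImplicit false

/-! The universal Schmidt group (S4395). -/

namespace Cfsg.Agent.Lib.H56Univ

open Subgroup Cfsg
open Cfsg.Agent.Lib
open Cfsg.Agent.Lib.H56Schmidt
open scoped Pointwise

variable {p q r a : ℕ} {P₀ C : Type*} [Group P₀] [Group C] {y₀ : MulAut P₀} {φ : C →* MulAut P₀} {g : C}
  {K : Type*} [Field K] {l : K} {π₀ : P₀ →* Multiplicative K}

/-- the data of a minimal non-`p`-nilpotent group of order `p ^ t * q ^ r`. -/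
theorem exists_data' [hp : Fact p.Prime] (hq : q.Prime) (hpq : p ≠ q) (hr : 1 ≤ r) {X : Type*} [Group X] [Finite X]
    (h1 : ¬ HasNormalPComplement p X) (h2 : ∀ H : Subgroup X, H ≠ ⊤ → HasNormalPComplement p H)
    {t : ℕ} (ht : Nat.card X = p ^ t * q ^ r) :
    ∃ (P : Subgroup X) (_ : P.Normal) (h : X), orderOf h = q ^ r ∧ zpowers h ⊔ P = ⊤ ∧
      Schmidt p q (MulAut.conjNormal h : MulAut P) := by
  obtain ⟨hn1, hn2, hn3⟩ := MinNonPNilp.ito h1 h2
  obtain ⟨P⟩ : Nonempty (Sylow p X) := inferInstance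
  haveI hPn : (P : Subgroup X).Normal := hn3 P
  have hP1 : (P : Subgroup X) ≠ ⊥ := by
    intro hb
    apply h1
    apply PNilp.hasNormalPComplement_of_not_dvd
    have h3 := P.not_dvd_index
    rwa [hb, index_bot] at h3
  obtain ⟨q', k, h, hq', hq'p, ho, hsup, hS⟩ := exists_data hn2 hn1 p P hP1
  obtain ⟨s, hs⟩ := IsPGroup.iff_card.1 P.isPGroup'
  -- the order of `X`
  have hcop : Nat.Coprime (Nat.card (zpowers h)) (Nat.card (P : Subgroup X)) := by
    rw [Nat.card_zpowers, ho, hs]
    exact Nat.Coprime.pow k s ((Nat.coprime_primes hq' hp.out).2 hq'p)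
  have hcard : Nat.card X = q' ^ k * p ^ s := by
    have h3 : IsComplement' (zpowers h) (P : Subgroup X) := by
      apply isComplement'_of_disjoint_and_mul_eq_univ
      · rw [disjoint_iff]
        exact inf_eq_bot_of_coprime hcop
      · rw [← Subgroup.mul_normal, hsup]; rfl
    rw [← h3.card_mul, Nat.card_zpowers, ho, hs]
  rw [ht] at hcard
  have hqq : q = q' := by
    have h3 : q ∣ q' ^ k * p ^ s := by
      rw [← hcard]
      exact Dvd.dvd.mul_left (dvd_pow_self q (by omega)) _
    rcases hq.dvd_mul.1 h3 with h4 | h4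
    · exact (Nat.prime_dvd_prime_iff_eq hq hq').1 (hq.dvd_of_dvd_pow h4)
    · exact absurd ((Nat.prime_dvd_prime_iff_eq hq hp.out).1 (hq.dvd_of_dvd_pow h4)).symm hpq
  subst hqq
  have hkr : k = r := by
    have h3 : (p ^ t * q ^ r).factorization q = (q ^ k * p ^ s).factorization q := by rw [hcard]
    rw [Nat.factorization_mul (pow_ne_zero _ hp.out.ne_zero) (pow_ne_zero _ hq.ne_zero),
      Nat.factorization_mul (pow_ne_zero _ hq.ne_zero) (pow_ne_zero _ hp.out.ne_zero),
      hp.out.factorization_pow, hp.out.factorization_pow, hq.factorization_pow, hq.factorization_pow] at h3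
    simp [hpq] at h3
    exact h3.symm
  subst hkr
  exact ⟨P, hPn, h, ho, hsup, hS⟩

theorem exists_hom [Finite P₀] [Finite C] (hSD : SD p q r y₀ φ g) (hF : FD p q a l) [Algebra (ZMod p) K]
    (hcov : Cov l y₀ π₀)
    (hcard : Nat.card P₀ = p ^ (if a % 2 = 1 then a else 3 * a / 2)) {X : Type*} [Group X] [Finite X]
    (h1 : ¬ HasNormalPComplement p X) (h2 : ∀ H : Subgroup X, H ≠ ⊤ → HasNormalPComplement p H)
    {t : ℕ} (ht : Nat.card X = p ^ t * q ^ r) :
    ∃ Φ : SemidirectProduct P₀ C φ →* X, Function.Surjective Φ ∧ Φ.ker ≤ center (SemidirectProduct P₀ C φ) := by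
  haveI := Fact.mk hF.hp
  haveI := Fact.mk hF.hq
  obtain ⟨P, hPn, h, ho, hsup, hS⟩ := exists_data' hF.hq hF.hpq hSD.hr h1 h2 ht
  obtain ⟨j, hj, π, hπ⟩ := exists_cov hF hS
  obtain ⟨θ, hθs, hθe, hθv⟩ := exists_map hF hSD.hS (Schmidt_pow hS hj) hcov hπ hcard
  have hhj : orderOf (h ^ j) = q ^ r := by
    have h4 : (orderOf h).Coprime j := by
      rw [ho]; exact Nat.Coprime.pow_left r ((Nat.Prime.coprime_iff_not_dvd hF.hq).2 hj)
    rw [h4.orderOf_pow, ho]
  have hdvd : orderOf (h ^ j) ∣ orderOf g := by rw [hhj, hSD.ho]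
  let ψ : C →* X := monoidHomOfForallMemZpowers hSD.hg hdvd
  have hψg : ψ g = h ^ j := monoidHomOfForallMemZpowers_apply_gen hSD.hg hdvd
  have hθk : ∀ (k : ℕ) (x : P₀), θ ((y₀ ^ k) x) = ((MulAut.conjNormal h ^ j : MulAut P) ^ k) (θ x) := by
    intro k
    induction k with
    | zero => intro x; rfl
    | succ k ih =>
      intro x
      rw [pow_succ', MulAut.mul_apply, hθe, ih, pow_succ', MulAut.mul_apply]
  have hcompat : ∀ c : C, (P.subtype.comp θ).comp (φ c).toMonoidHom = (MulAut.conj (ψ c)).toMonoidHom.comp (P.subtype.comp θ) := by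
    intro c
    obtain ⟨k, rfl⟩ := hSD.exists_pow c
    ext x
    show ((θ ((φ (g ^ k)) x) : P) : X) = ψ (g ^ k) * (θ x : P) * (ψ (g ^ k))⁻¹
    rw [map_pow, hSD.hφ, hθk, map_pow, hψg, ← map_pow, ← map_pow, MulAut.conjNormal_apply]
  let Φ : SemidirectProduct P₀ C φ →* X := SemidirectProduct.lift (P.subtype.comp θ) ψ hcompat
  have hΦ : ∀ m, Φ m = (θ m.left : P) * ψ m.right := fun m => rfl
  refine ⟨Φ, ?_, ?_⟩
  · rw [← MonoidHom.range_eq_top, eq_top_iff, ← hsup]
    apply sup_le
    · rw [zpowers_le]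
      have h3 : h ^ j ∈ Φ.range := ⟨SemidirectProduct.inr g, by
        rw [hΦ, SemidirectProduct.left_inr, SemidirectProduct.right_inr, hψg, map_one]; simp⟩
      have h4 : (orderOf h).Coprime j := by
        rw [ho]; exact Nat.Coprime.pow_left r ((Nat.Prime.coprime_iff_not_dvd hF.hq).2 hj)
      obtain ⟨m, hm⟩ := exists_pow_eq_self_of_coprime h4.symm
      rw [← hm]
      exact pow_mem h3 m
    · intro x hx
      obtain ⟨u, hu⟩ := hθs ⟨x, hx⟩
      refine ⟨SemidirectProduct.inl u, ?_⟩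
      rw [hΦ, SemidirectProduct.left_inl, SemidirectProduct.right_inl, hu, map_one, mul_one]
  · intro m hm
    rw [MonoidHom.mem_ker, hΦ] at hm
    -- both parts are trivial
    obtain ⟨k, hk⟩ := hSD.exists_pow m.right
    have h3 : ψ m.right = (h ^ j) ^ k := by rw [← hk, map_pow, hψg]
    have h4 : ψ m.right = 1 := by
      have h5 : ψ m.right ∈ P := by
        have h6 : ψ m.right = ((θ m.left : P) : X)⁻¹ := (eq_inv_of_mul_eq_one_right hm)
        rw [h6]
        exact inv_mem (θ m.left).2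
      obtain ⟨n, hn⟩ := hS.isP ⟨_, h5⟩
      have h6 : ψ m.right ^ p ^ n = 1 := congrArg Subtype.val hn
      have h7 : ψ m.right ^ q ^ r = 1 := by
        rw [h3, ← hhj, ← pow_mul, mul_comm, pow_mul, pow_orderOf_eq_one, one_pow]
      rw [← orderOf_eq_one_iff]
      exact Nat.eq_one_of_dvd_coprimes (Nat.Coprime.pow n r hF.coprime) (orderOf_dvd_of_pow_eq_one h6)
        (orderOf_dvd_of_pow_eq_one h7)
    have h5 : m.right = 1 := by
      rw [h3] at h4
      have h6 := orderOf_dvd_of_pow_eq_one h4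
      rw [hhj, ← hSD.ho] at h6
      rw [← hk]
      exact orderOf_dvd_iff_pow_eq_one.1 h6
    have h6 : θ m.left = 1 := by
      rw [h4, mul_one] at hm
      exact Subtype.ext hm
    have h7 : π₀ m.left = 1 := by
      have h8 := hθv m.left
      rw [h6, val_one] at h8
      exact h8.symm
    have h8 := hcov.cen (show m.left ∈ π₀.ker from h7)
    have h9 := hcov.fix m.left h7
    rw [mem_center_iff]
    intro n
    apply SemidirectProduct.ext
    · rw [SemidirectProduct.mul_left, SemidirectProduct.mul_left, h5, map_one]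
      obtain ⟨i, hi⟩ := hSD.exists_pow n.right
      have h10 : φ n.right m.left = m.left := by
        rw [← hi, map_pow, hSD.hφ]
        clear hi
        induction i with
        | zero => rfl
        | succ i ih => rw [pow_succ', MulAut.mul_apply, ih, h9]
      rw [h10]
      exact mem_center_iff.1 h8 _
    · rw [SemidirectProduct.mul_right, SemidirectProduct.mul_right, h5, mul_one, one_mul]

end Cfsg.Agent.Lib.H56Univ
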