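import Mathlib
import Cfsg.Agent.Lib.ExtPrim

/-!
Extremely primitive groups: abelian normal subgroups of the point stabilizer.
-/

set_option autoImplicit false

namespace Cfsg.Agent.Lib.H58ExtPrimAb

open MulAction Cfsg.Agent.Lib.ExtPrim

variable {G : Type*} [Group G] [Finite G] {Ω : Type*} [Finite Ω] [MulAction G Ω] [FaithfulSMul G Ω]

/-- extreme primitivity with nontrivial stabilizers -/
structure ExtPr (G : Type*) [Group G] (Ω : Type*) [MulAction G Ω] : Prop where
  prim : IsPreprimitive G Ω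
  st : ∀ α : Ω, stabilizer G α ≠ ⊥
  ep : ∀ (α : Ω) (ω : Ω), IsPreprimitive (stabilizer G α) (orbit (stabilizer G α) ω)

theorem map_normal {H : Type*} [Group H] {S : Subgroup H} (M : Subgroup S) (hM : M.Normal) :
    S ≤ Subgroup.normalizer ((M.map S.subtype : Subgroup H) : Set H) := by
  intro g hg
  rw [Subgroup.mem_normalizer_iff]
  have key : ∀ g ∈ S, ∀ x ∈ M.map S.subtype, g * x * g⁻¹ ∈ M.map S.subtype := by
    rintro g hg x hx
    obtain ⟨y, hy, rfl⟩ := Subgroup.mem_map.mp hx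
    exact Subgroup.mem_map.mpr ⟨⟨g, hg⟩ * y * ⟨g, hg⟩⁻¹, hM.conj_mem y hy _, rfl⟩
  intro x
  constructor
  · exact key g hg x
  · intro h
    have := key g⁻¹ (inv_mem hg) _ h
    simpa [mul_assoc] using this

theorem fix_bot (h : ExtPr G Ω) {α β : Ω} (hβ : β ≠ α) (M : Subgroup (stabilizer G α)) (hM : M.Normal)
    (hfix : ∀ m ∈ M, m • β = β) : M = ⊥ := by
  have := manning h.prim h.st h.ep hβ (M.map (stabilizer G α).subtype) (by
    intro x hx
    obtain ⟨y, _, rfl⟩ := Subgroup.mem_map.mp hx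
    exact y.2) (map_normal M hM) (by
    intro x hx
    obtain ⟨y, hy, rfl⟩ := Subgroup.mem_map.mp hx
    exact hfix y hy)
  exact (Subgroup.map_eq_bot_iff_of_injective _ (Subgroup.subtype_injective _)).mp this

theorem orb_eq (h : ExtPr G Ω) {α : Ω} (M : Subgroup (stabilizer G α)) (hM : M.Normal) (hM1 : M ≠ ⊥)
    (ω : Ω) (g : stabilizer G α) : ∃ m ∈ M, m • ω = g • ω := by
  obtain ⟨m, hm, hmω⟩ := same_orbits h.prim h.st h.ep (M.map (stabilizer G α).subtype) (by
    intro h1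
    exact hM1 ((Subgroup.map_eq_bot_iff_of_injective _ (Subgroup.subtype_injective _)).mp h1)) (by
    intro x hx
    obtain ⟨y, _, rfl⟩ := Subgroup.mem_map.mp hx
    exact y.2) (map_normal M hM) ω g g.2
  obtain ⟨y, hy, rfl⟩ := Subgroup.mem_map.mp hm
  exact ⟨y, hy, hmω⟩

theorem faith (h : ExtPr G Ω) {α ω : Ω} (hω : ω ≠ α) (x : stabilizer G α)
    (hx : ∀ g : stabilizer G α, x • g • ω = g • ω) : x = 1 := by
  apply Subtype.ext
  apply faithful_orbit h.prim h.st h.ep hω (x : G) x.2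
  rintro y ⟨g, rfl⟩
  exact hx g

section Ab

variable {α : Ω} (A : Subgroup (stabilizer G α)) (hA : A.Normal) (hA1 : A ≠ ⊥)
  (hab : ∀ a ∈ A, ∀ b ∈ A, a * b = b * a)

include hA hA1 in
/-- an element commuting with `A` and fixing a point `ω ≠ α` is trivial -/
theorem cent_fix (h : ExtPr G Ω) {ω : Ω} (hω : ω ≠ α) (c : stabilizer G α) (hc : ∀ a ∈ A, c * a = a * c)
    (hcω : c • ω = ω) : c = 1 := by
  apply faith h hω
  intro g
  obtain ⟨a, ha, haω⟩ := orb_eq h A hA hA1 ω g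
  rw [← haω, ← mul_smul, hc a ha, mul_smul, hcω]

include hA hA1 hab in
theorem cent_le (h : ExtPr G Ω) (hnt : ∃ ω : Ω, ω ≠ α) (c : stabilizer G α) (hc : ∀ a ∈ A, c * a = a * c) : c ∈ A := by
  obtain ⟨ω, hω⟩ := hnt
  obtain ⟨b, hb, hbω⟩ := orb_eq h A hA hA1 ω c
  have h1 : b⁻¹ * c = 1 := by
    apply cent_fix A hA hA1 h hω
    · intro a ha
      have h2 := hab b hb a ha
      calc b⁻¹ * c * a = b⁻¹ * (c * a) := by group
        _ = b⁻¹ * (a * c) := by rw [hc a ha]
        _ = b⁻¹ * (a * b) * (b⁻¹ * c) := by group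
        _ = b⁻¹ * (b * a) * (b⁻¹ * c) := by rw [h2]
        _ = a * (b⁻¹ * c) := by group
    · rw [mul_smul, ← hbω, inv_smul_smul]
  rw [inv_mul_eq_one] at h1
  rw [← h1]; exact hb

include hA hA1 hab in
theorem min_of_le (h : ExtPr G Ω) (hnt : ∃ ω : Ω, ω ≠ α) (B : Subgroup (stabilizer G α)) (hB : B.Normal)
    (hBA : B ≤ A) (hB1 : B ≠ ⊥) : B = A := by
  obtain ⟨ω, hω⟩ := hnt
  apply le_antisymm hBA
  intro a ha
  obtain ⟨b, hb, hbω⟩ := orb_eq h B hB hB1 ω a
  have h1 : b⁻¹ * a = 1 := by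
    apply cent_fix A hA hA1 h hω
    · intro x hx
      exact hab _ (A.mul_mem (A.inv_mem (hBA hb)) ha) _ hx
    · rw [mul_smul, ← hbω, inv_smul_smul]
  rw [inv_mul_eq_one] at h1
  rw [← h1]; exact hb

include hA hA1 hab in
theorem card_orb (h : ExtPr G Ω) {ω : Ω} (hω : ω ≠ α) : Nat.card (orbit (stabilizer G α) ω) = Nat.card A := by
  symm
  refine Nat.card_congr (Equiv.ofBijective (fun a : A => (⟨(a : stabilizer G α) • ω, ⟨(a : stabilizer G α), rfl⟩⟩ :
    orbit (stabilizer G α) ω)) ⟨?_, ?_⟩)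
  · intro a b hab'
    have h1 : (a : stabilizer G α) • ω = (b : stabilizer G α) • ω := congrArg Subtype.val hab'
    have h2 : (b : stabilizer G α)⁻¹ * a = 1 := by
      apply cent_fix A hA hA1 h hω
      · intro x hx
        exact hab _ (A.mul_mem (A.inv_mem b.2) a.2) _ hx
      · rw [mul_smul, h1, inv_smul_smul]
    rw [inv_mul_eq_one] at h2
    exact Subtype.ext h2.symm
  · rintro ⟨y, ⟨g, rfl⟩⟩
    obtain ⟨a, ha, haω⟩ := orb_eq h A hA hA1 ω g
    exact ⟨⟨a, ha⟩, Subtype.ext haω⟩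

include hA hA1 hab in
/-- `A` has prime exponent -/
theorem exists_prime (h : ExtPr G Ω) (hnt : ∃ ω : Ω, ω ≠ α) : ∃ p : ℕ, p.Prime ∧ ∀ a ∈ A, a ^ p = 1 := by
  have hAnt : Nontrivial A := (Subgroup.nontrivial_iff_ne_bot A).mpr hA1
  obtain ⟨p, hp, hpd⟩ := Nat.exists_prime_and_dvd (n := Nat.card A) (by
    have := Finite.one_lt_card (α := A); omega)
  have : Fact p.Prime := ⟨hp⟩
  obtain ⟨x, hx⟩ := exists_prime_orderOf_dvd_card' p hpd
  let B : Subgroup (stabilizer G α) :=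
    { carrier := {a | a ∈ A ∧ a ^ p = 1}
      mul_mem' := by
        rintro a b ⟨ha, ha'⟩ ⟨hb, hb'⟩
        refine ⟨A.mul_mem ha hb, ?_⟩
        have : Commute a b := hab a ha b hb
        rw [this.mul_pow, ha', hb', one_mul]
      one_mem' := ⟨A.one_mem, one_pow p⟩
      inv_mem' := by
        rintro a ⟨ha, ha'⟩
        exact ⟨A.inv_mem ha, by rw [inv_pow, ha', inv_one]⟩ }
  have hBn : B.Normal := by
    constructor
    rintro a ⟨ha, ha'⟩ g
    exact ⟨hA.conj_mem a ha g, by rw [conj_pow, ha']; simp⟩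
  have hB1 : B ≠ ⊥ := by
    intro hbot
    have h1 : (x : stabilizer G α) ∈ B := by
      refine ⟨x.2, ?_⟩
      have := pow_orderOf_eq_one x
      rw [hx] at this
      exact congrArg Subtype.val this
    rw [hbot, Subgroup.mem_bot] at h1
    have h2 : x = 1 := Subtype.ext h1
    rw [h2, orderOf_one] at hx
    exact hp.one_lt.ne hx
  have hBA := min_of_le A hA hA1 hab h hnt B hBn (fun a ha => ha.1) hB1
  refine ⟨p, hp, fun a ha => ?_⟩
  rw [← hBA] at ha
  exact ha.2

include hA hA1 hab in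
theorem card_dvd (h : ExtPr G Ω) : Nat.card A ∣ Nat.card Ω - 1 := by
  classical
  -- A acts freely on the complement of α
  let X := SubMulAction.ofStabilizer G α
  have hfree : ∀ x : X, stabilizer A x = ⊥ := by
    intro x
    rw [eq_bot_iff]
    intro a ha
    rw [Subgroup.mem_bot]
    have h1 : ((a : stabilizer G α) : stabilizer G α) • (x : Ω) = (x : Ω) := congrArg Subtype.val ha
    have hx : (x : Ω) ≠ α := x.2
    exact Subtype.ext (cent_fix A hA hA1 h hx a (fun b hb => hab a a.2 b hb) h1)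
  have e := MulAction.selfEquivOrbitsQuotientProd hfree
  have h2 : Nat.card X = Nat.card (Quotient (orbitRel A X)) * Nat.card A := by
    rw [Nat.card_congr e, Nat.card_prod]
  have h3 : Nat.card X = Nat.card Ω - 1 := by
    have : Fintype Ω := Fintype.ofFinite Ω
    have h4 : Nat.card X = Nat.card {x : Ω // x ≠ α} := Nat.card_congr (Equiv.refl _)
    rw [h4, Nat.card_eq_fintype_card, Nat.card_eq_fintype_card, Fintype.card_subtype_compl]
    simp
  rw [← h3, h2]
  exact dvd_mul_left _ _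

end Ab

end Cfsg.Agent.Lib.H58ExtPrimAb
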