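import Cfsg.Agent.Lib.H58J2CentQ
import Cfsg.Agent.Lib.FusionSimpleGroup
import Cfsg.Agent.Lib.FlagSylow

/-!
The 2-fusion system of the Hall–Janko group is simple (helper58).
-/

set_option autoImplicit false

namespace Cfsg.Agent.Lib.H58J2

open Cfsg Cfsg.Spor

/-- Sylow 2-subgroup -/
noncomputable def US : Subgroup (AG 5) := (V4.comap pI).map CC.subtype

theorem mem_US {g : AG 5} : g ∈ US ↔ ∃ h : g ∈ CC, pI ⟨g, h⟩ ∈ V4 := by
  unfold US
  constructor
  · rintro ⟨c, hc, rfl⟩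
    exact ⟨c.2, hc⟩
  · rintro ⟨h, hc⟩
    exact ⟨⟨g, h⟩, hc, rfl⟩

theorem Q0_US : Q0 ≤ US := by
  intro q hq
  rw [mem_US]
  have h1 : (⟨q, Q0_le hq⟩ : CC) ∈ pI.ker := Q0_ker (Subgroup.mem_subgroupOf.mpr hq)
  rw [MonoidHom.mem_ker] at h1
  exact ⟨Q0_le hq, by rw [h1]; exact one_mem _⟩

theorem US_CC : US ≤ CC := by
  intro g hg
  exact (mem_US.mp hg).1

theorem card_US : Nat.card US = 128 := by
  have h1 : Nat.card US = Nat.card (V4.comap pI) := by
    unfold US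
    rw [Subgroup.card_map_of_injective (Subgroup.subtype_injective _)]
  have h2 : (V4.comap pI).index = V4.relIndex pI.range := by
    rw [Subgroup.index_comap]
  have h3 := (V4.comap pI).card_mul_index
  have h4 := Subgroup.card_mul_index (V4.subgroupOf pI.range)
  have h5 : Nat.card (V4.subgroupOf pI.range) = 4 := by
    rw [Nat.card_congr (Subgroup.subgroupOfEquivOfLe V4_le).toEquiv, card_V4]
  rw [h5, ker_range.2] at h4
  have h6 : (V4.comap pI).index = 15 := by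
    rw [h2]
    show (V4.subgroupOf pI.range).index = 15
    omega
  rw [h6, card_cent] at h3
  rw [h1]
  omega

instance : Fact (Nat.Prime 2) := ⟨Nat.prime_two⟩

theorem US_p : IsPGroup 2 US := IsPGroup.of_card (n := 7) (by rw [card_US]; norm_num)

theorem exists_sylow_US : ∃ P : Sylow 2 (AG 5), (P : Subgroup (AG 5)) = US := by
  obtain ⟨P, hP⟩ := US_p.exists_le_sylow
  refine ⟨P, (Subgroup.eq_of_le_of_card_ge hP ?_).symm⟩
  rw [Sylow.card_eq_multiplicity, card5, card_US]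
  have : (604800 : ℕ).factorization 2 = 7 := by
    have h : (604800 : ℕ) = 2 ^ 7 * 4725 := by norm_num
    rw [h, Nat.factorization_mul (by norm_num) (by norm_num), Nat.factorization_pow]
    simp [Nat.Prime.factorization_self Nat.prime_two, Nat.factorization_eq_zero_of_not_dvd (show ¬ 2 ∣ 4725 by norm_num)]
  rw [this]
  norm_num

/-- elements commuting with the extraspecial group -/
theorem cent_Q0 {c : AG 5} (h : ∀ r ∈ Q0, c * r = r * c) : c = 1 ∨ c = sg 0 := by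
  have hc : c ∈ CC := mem_CC.mpr (h _ sg0_mem)
  have h1 : (⟨c, hc⟩ : CC) ∈ pI.ker := by
    rw [MonoidHom.mem_ker]
    ext1 k
    rw [Equiv.Perm.one_apply]
    apply pI_eq
    left
    show c * xx k * c⁻¹ = xx k
    rw [h _ (xx_mem k)]; group
  rw [ker_eq, Subgroup.mem_subgroupOf] at h1
  exact exData.center c h1 h

theorem gen_US {T : Subgroup (AG 5)} (hQ : Q0 ≤ T) {u v : CC} (hu : (u : AG 5) ∈ T) (hv : (v : AG 5) ∈ T)
    (hpu : pI u = su) (hpv : pI v = sv) : US ≤ T := by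
  intro g hg
  obtain ⟨hc, h⟩ := mem_US.mp hg
  have key : ∀ w : CC, (w : AG 5) ∈ T → pI ⟨g, hc⟩ = pI w → g ∈ T := by
    intro w hw he
    have h1 : (⟨g, hc⟩ * w⁻¹ : CC) ∈ pI.ker := by
      rw [MonoidHom.mem_ker, map_mul, map_inv, he, mul_inv_cancel]
    rw [ker_eq, Subgroup.mem_subgroupOf] at h1
    have h2 := hQ h1
    have h3 : g = (g * (w : AG 5)⁻¹) * w := by group
    rw [h3]
    exact mul_mem h2 hw
  rcases h with h | h | h | h
  · exact key 1 (one_mem _) (by rw [h, map_one])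
  · exact key u hu (by rw [h, hpu])
  · exact key v hv (by rw [h, hpv])
  · exact key (u * v) (mul_mem hu hv) (by rw [h, map_mul, hpu, hpv])

/-- two elements of the Sylow group outside `Q0` -/
def wU : List (Fin 5) := 1 :: (yw 1 ++ yw 2) ++ [1]
def wV : List (Fin 5) := 1 :: (yw 1 ++ yw 3) ++ [1]

theorem wU_C : wEq (wU ++ [0]) (0 :: wU) = true := by decide +kernel
theorem wV_C : wEq (wV ++ [0]) (0 :: wV) = true := by decide +kernel
theorem wU_img : ∀ k : Fin 5, imgC wU k (su k : Fin 5) = true := by decide +kernel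
theorem wV_img : ∀ k : Fin 5, imgC wV k (sv k : Fin 5) = true := by decide +kernel

theorem strongly_closed {T : Subgroup (AG 5)} (hT : T ≤ US)
    (hc : ∀ x ∈ T, ∀ g : AG 5, g * x * g⁻¹ ∈ US → g * x * g⁻¹ ∈ T) : T = ⊥ ∨ T = US := by
  rw [or_iff_not_imp_left]
  intro hne
  refine le_antisymm hT ?_
  obtain ⟨t, htT, ht1, htc⟩ := FlagSylow.exists_central US_p hT hne (fun u hu t ht =>
    hc t ht u (mul_mem (mul_mem hu (hT ht)) (inv_mem hu)))
  have ht : sg 0 ∈ T := by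
    rcases cent_Q0 (c := t) (fun r hr => (htc r (Q0_US hr)).symm) with h | h
    · exact absurd h ht1
    · rw [← h]; exact htT
  have hTr : ∀ i, Tr i ∈ US → Tr i ∈ T := by
    intro i hi
    obtain ⟨g, hg, _⟩ := Tr_trans i
    rw [Tr_zero] at hg
    rw [← hg] at hi ⊢
    exact hc _ ht g hi
  have hQ : Q0 ≤ T := by
    unfold Q0
    rw [Subgroup.closure_le]
    rintro _ ⟨k, rfl⟩
    by_cases hk : k = 4
    · subst hk; rw [yy_four]; exact ht
    · rw [yy_tr k hk]
      exact hTr _ (Q0_US (xx_mem k))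
  have hU1 : We wU ∈ CC := comm_word wU_C
  have hV1 : We wV ∈ CC := comm_word wV_C
  have hU2 : pI ⟨We wU, hU1⟩ = su := Equiv.ext fun k => imgC_spec hU1 (wU_img k)
  have hV2 : pI ⟨We wV, hV1⟩ = sv := Equiv.ext fun k => imgC_spec hV1 (wV_img k)
  have eU : We wU = sg 1 * (yy 1 * yy 2) * (sg 1)⁻¹ := by
    unfold wU
    rw [We_append, We_cons 1 (yw 1 ++ yw 2), We_append, We_cons 1 [], We_nil, mul_one, sg_inv]; rfl
  have eV : We wV = sg 1 * (yy 1 * yy 3) * (sg 1)⁻¹ := by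
    unfold wV
    rw [We_append, We_cons 1 (yw 1 ++ yw 3), We_append, We_cons 1 [], We_nil, mul_one, sg_inv]; rfl
  refine gen_US hQ (u := ⟨We wU, hU1⟩) (v := ⟨We wV, hV1⟩) ?_ ?_ hU2 hV2
  · show We wU ∈ T
    have hUS : We wU ∈ US := mem_US.mpr ⟨hU1, by rw [hU2]; exact Or.inr (Or.inl rfl)⟩
    rw [eU] at hUS ⊢
    exact hc _ (hQ (mul_mem (yy_mem 1) (yy_mem 2))) _ hUS
  · show We wV ∈ T
    have hUS : We wV ∈ US := mem_US.mpr ⟨hV1, by rw [hV2]; exact Or.inr (Or.inr (Or.inl rfl))⟩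
    rw [eV] at hUS ⊢
    exact hc _ (hQ (mul_mem (yy_mem 1) (yy_mem 3))) _ hUS

theorem norm_le {g : AG 5} (hg : g ∈ Subgroup.normalizer (US : Set (AG 5))) : g ∈ CC := by
  have h1 : g * sg 0 * g⁻¹ = 1 ∨ g * sg 0 * g⁻¹ = sg 0 := by
    apply cent_Q0
    intro r hr
    have h2 : g⁻¹ * r * g ∈ US := by
      have := (Subgroup.mem_normalizer_iff.mp (inv_mem hg) r).mp (Q0_US hr)
      rwa [inv_inv] at this
    have h3 : (g⁻¹ * r * g) * sg 0 = sg 0 * (g⁻¹ * r * g) := mem_CC.mp (US_CC h2)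
    calc g * sg 0 * g⁻¹ * r = g * (sg 0 * (g⁻¹ * r * g)) * g⁻¹ := by group
      _ = g * ((g⁻¹ * r * g) * sg 0) * g⁻¹ := by rw [h3]
      _ = _ := by group
  rcases h1 with h | h
  · exfalso
    have : sg 0 = 1 := by
      have : sg 0 = g⁻¹ * (g * sg 0 * g⁻¹) * g := by group
      rw [this, h]; group
    exact Tr_ne_one 0 (Tr_zero.trans this)
  · rw [mem_CC]
    exact mul_inv_eq_iff_eq_mul.mp h

theorem CC_conj {c : AG 5} (hc : c ∈ CC) {r : AG 5} (hr : r ∈ Q0) : c * r * c⁻¹ ∈ Q0 := by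
  have h1 : (⟨r, Q0_le hr⟩ : CC) ∈ pI.ker := Q0_ker (Subgroup.mem_subgroupOf.mpr hr)
  have h2 := (inferInstance : pI.ker.Normal).conj_mem _ h1 ⟨c, hc⟩
  rw [ker_eq, Subgroup.mem_subgroupOf] at h2
  exact h2

theorem CC_norm : CC ≤ Subgroup.normalizer (Q0 : Set (AG 5)) := by
  intro c hc
  rw [Subgroup.mem_normalizer_iff]
  intro r
  constructor
  · intro hr
    exact CC_conj hc hr
  · intro hr
    have := CC_conj (inv_mem hc) hr
    have e : c⁻¹ * (c * r * c⁻¹) * c⁻¹⁻¹ = r := by group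
    rwa [e] at this

theorem two_elt {x : AG 5} (hx : x ∈ US) : ∃ k : ℕ, orderOf x = 2 ^ k := by
  obtain ⟨k, hk⟩ := (IsPGroup.iff_orderOf.mp US_p) ⟨x, hx⟩
  exact ⟨k, (Subgroup.orderOf_mk x hx).symm.trans hk⟩

/-- the centralizer is generated by its 2-elements -/
theorem CC_gen : CC ≤ Subgroup.closure {x : AG 5 | x ∈ Subgroup.normalizer (Q0 : Set (AG 5)) ∧ ∃ k : ℕ, orderOf x = 2 ^ k} := by
  let s : Set CC := {x | ∃ k : ℕ, orderOf x = 2 ^ k}
  let N : Subgroup CC := Subgroup.normalClosure s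
  have hNn : N.Normal := Subgroup.normalClosure_normal
  have hs : ∀ {x : CC}, (x : AG 5) ∈ US → x ∈ N := by
    intro x hx
    obtain ⟨k, hk⟩ := two_elt hx
    exact Subgroup.subset_normalClosure ⟨k, by rw [← Subgroup.orderOf_coe, hk]⟩
  have hN : N.map CC.subtype ≤ Subgroup.closure {x : AG 5 | x ∈ Subgroup.normalizer (Q0 : Set (AG 5)) ∧ ∃ k : ℕ, orderOf x = 2 ^ k} := by
    rw [Subgroup.map_le_iff_le_comap]
    show Subgroup.closure (Group.conjugatesOfSet s) ≤ _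
    rw [Subgroup.closure_le]
    intro x hx
    rw [Group.mem_conjugatesOfSet_iff] at hx
    obtain ⟨a, ⟨k, hk⟩, hax⟩ := hx
    obtain ⟨c, hc⟩ := isConj_iff.mp hax
    refine Subgroup.subset_closure ⟨CC_norm x.2, k, ?_⟩
    show orderOf (x : AG 5) = 2 ^ k
    rw [Subgroup.orderOf_coe, ← hc, ← hk]
    exact (MulAut.conj c).orderOf_eq a
  refine le_trans ?_ hN
  have hsimp : IsSimpleGroup pI.range := by
    rw [range_eq]; exact alternatingGroup.isSimpleGroup_five
  have hmn : (N.map pI.rangeRestrict).Normal := hNn.map _ pI.rangeRestrict_surjective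
  have hU1 : We wU ∈ CC := comm_word wU_C
  have hU2 : pI ⟨We wU, hU1⟩ = su := Equiv.ext fun k => imgC_spec hU1 (wU_img k)
  have htop : N.map pI.rangeRestrict = ⊤ := by
    rcases hmn.eq_bot_or_eq_top with h | h
    · exfalso
      have h1 : pI.rangeRestrict ⟨We wU, hU1⟩ ∈ N.map pI.rangeRestrict := by
        refine ⟨_, hs ?_, rfl⟩
        exact mem_US.mpr ⟨hU1, by rw [hU2]; exact Or.inr (Or.inl rfl)⟩
      rw [h, Subgroup.mem_bot] at h1
      have h2 : pI ⟨We wU, hU1⟩ = 1 := congrArg Subtype.val h1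
      rw [hU2] at h2
      revert h2
      decide +kernel
    · exact h
  intro g hg
  have h1 : pI.rangeRestrict ⟨g, hg⟩ ∈ N.map pI.rangeRestrict := by rw [htop]; trivial
  obtain ⟨n, hn, hng⟩ := h1
  have h2 : pI n = pI ⟨g, hg⟩ := congrArg Subtype.val hng
  have h3 : (⟨g, hg⟩ * n⁻¹ : CC) ∈ pI.ker := by
    rw [MonoidHom.mem_ker, map_mul, map_inv, h2, mul_inv_cancel]
  have h4 : (⟨g, hg⟩ * n⁻¹ : CC) ∈ N := by
    rw [ker_eq, Subgroup.mem_subgroupOf] at h3
    exact hs (Q0_US h3)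
  refine ⟨⟨g, hg⟩, ?_, rfl⟩
  have h5 : (⟨g, hg⟩ : CC) = (⟨g, hg⟩ * n⁻¹) * n := by group
  rw [h5]
  exact mul_mem h4 hn

theorem crit : FusionSimpleGroup.Crit 2 (⊥ : Subgroup (AG 5)) US := by
  refine ⟨fun T hT hc => strongly_closed hT hc, fun g hg => ?_⟩
  refine Subgroup.subset_closure ⟨hg, Q0, Q0_US, ?_, ?_, CC_gen (norm_le hg)⟩
  · exact US_CC.trans CC_norm
  · intro c hc
    rw [sup_bot_eq]
    rcases cent_Q0 hc with h | h
    · rw [h]; exact one_mem _
    · rw [h]; exact sg0_mem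

theorem US_ne : US ≠ ⊥ := by
  intro h
  have := card_US
  rw [h, Subgroup.card_bot] at this
  norm_num at this

theorem fusion_simple {G : Type*} [Group G] (e : AG 5 ≃* G) (S : Sylow 2 G) :
    (Cfsg.groupFusionSystem (S : Subgroup G)).IsSimple 2 := by
  have : Finite G := Finite.of_equiv _ e.toEquiv
  obtain ⟨P, hP⟩ := exists_sylow_US
  have hker : e.toMonoidHom.ker = ⊥ := (MonoidHom.ker_eq_bot_iff _).mpr e.injective
  refine FusionSimpleGroup.simple_of_cover e.toMonoidHom e.surjective ?_ ?_ P ?_ ?_ S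
  · intro z hz g
    rw [hker, Subgroup.mem_bot] at hz
    rw [hz, mul_one, one_mul]
  · rw [hker, Subgroup.card_bot]
    exact Nat.coprime_one_left 2
  · rw [hP]; exact US_ne
  · rw [hP, hker]; exact crit

end Cfsg.Agent.Lib.H58J2
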