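import Cfsg.Agent.Lib.H58J2PT
import Cfsg.Agent.Lib.H58J2Fus
import Cfsg.Prelude.Def_KGroupFacts

/-!
The automorphism group of the Hall–Janko group (helper58).
-/

set_option autoImplicit false

namespace Cfsg.Agent.Lib.H58J2

open Cfsg Cfsg.Spor

/-- conjugation of reflections -/
noncomputable def pt (i j : Fin 315) : Fin 315 := ln (Tr i) j

theorem pt_spec (i j : Fin 315) : Tr i * Tr j * (Tr i)⁻¹ = Tr (pt i j) := ln_spec (Tr i) j

theorem ln_gen (k : Fin 5) (j : Fin 315) : ln (sg k) j = piP k j := by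
  apply Tr_injective
  rw [← ln_spec, Tr_conj]

theorem pt_eq (i j : Fin 315) : ((pt i j : Fin 315) : ℕ) = PT i j := by
  obtain ⟨i, hi⟩ := i
  induction i using Nat.strong_induction_on generalizing j with
  | _ i ih =>
    rcases Nat.eq_zero_or_pos i with h | hpos
    · subst h
      have h1 : pt ⟨0, hi⟩ j = piP 0 j := by
        show ln (Tr 0) j = _
        rw [Tr_zero, ln_gen]
      rw [h1, piP_apply]
      have h := pt_ok0
      rw [List.all_eq_true] at h
      have h := h j (List.mem_range.mpr j.2)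
      rw [Nat.beq_eq] at h
      exact h.symm
    · obtain ⟨m, rfl⟩ : ∃ m, i = m + 1 := ⟨i - 1, by omega⟩
      have hp := par_ok
      rw [List.all_eq_true] at hp
      have hp := hp m (List.mem_range.mpr (by omega))
      unfold parOK at hp
      simp only [Bool.and_eq_true, Nat.blt_eq, Nat.beq_eq] at hp
      obtain ⟨h1, h2, h3⟩ := hp
      have hok : ptOK (m + 1) = true := by
        by_cases c1 : m < 80
        · have h := pt_ok1
          rw [List.all_eq_true] at h
          exact h m (List.mem_range.mpr c1)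
        · by_cases c2 : m < 160
          · have h := pt_ok2
            rw [List.all_eq_true] at h
            have := h (m - 80) (List.mem_range.mpr (by omega))
            rwa [show 80 + (m - 80) + 1 = m + 1 by omega] at this
          · by_cases c3 : m < 240
            · have h := pt_ok3
              rw [List.all_eq_true] at h
              have := h (m - 160) (List.mem_range.mpr (by omega))
              rwa [show 160 + (m - 160) + 1 = m + 1 by omega] at this
            · have h := pt_ok4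
              rw [List.all_eq_true] at h
              have := h (m - 240) (List.mem_range.mpr (by omega))
              rwa [show 240 + (m - 240) + 1 = m + 1 by omega] at this
      unfold ptOK at hok
      simp only [frc_eq, List.all_eq_true, List.mem_range, Nat.beq_eq] at hok
      generalize PAR.getD (m + 1) (0, 0) = p at h1 h2 h3 hok
      have hT : (⟨m + 1, hi⟩ : Fin 315) = piP ⟨p.1, h1⟩ ⟨p.2, by omega⟩ := Fin.ext (by rw [piP_apply]; exact h3.symm)
      have h4 : pt ⟨m + 1, hi⟩ j = piP ⟨p.1, h1⟩ (pt ⟨p.2, by omega⟩ (piP ⟨p.1, h1⟩ j)) := by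
        rw [hT]
        unfold pt
        rw [← Tr_conj, map_mul, map_mul, map_inv, Equiv.Perm.mul_apply, Equiv.Perm.mul_apply, ← map_inv, sg_inv, ln_gen,
          ln_gen]
      rw [h4, piP_apply, ih p.2 h2]
      have h5 := hok j j.2
      show piT p.1 (PT p.2 (piP ⟨p.1, h1⟩ j)) = PT (m + 1) j
      rw [piP_apply]
      exact h5.symm

/-- automorphisms permute the reflections -/
theorem aut_zero (a : MulAut (AG 5)) : ∃ j, a (Tr 0) = Tr j := by
  obtain ⟨P, hP⟩ := exists_sylow_US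
  have hq : IsPGroup 2 (US.map a.toMonoidHom) := US_p.map _
  obtain ⟨P', hP'⟩ := hq.exists_le_sylow
  obtain ⟨g, hg⟩ := MulAction.exists_smul_eq (AG 5) P' P
  have hle : (US.map a.toMonoidHom).map (MulAut.conj g).toMonoidHom ≤ US := by
    rintro _ ⟨y, hy, rfl⟩
    show g * y * g⁻¹ ∈ US
    have h1 : g * y * g⁻¹ ∈ ((g • P' : Sylow 2 (AG 5)) : Subgroup (AG 5)) := by
      rw [Sylow.coe_subgroup_smul]
      exact (Subgroup.mem_smul_pointwise_iff_exists _ _ _).mpr ⟨y, hP' hy, rfl⟩
    rw [hg, hP] at h1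
    exact h1
  have heq : (US.map a.toMonoidHom).map (MulAut.conj g).toMonoidHom = US := by
    refine Subgroup.eq_of_le_of_card_ge hle ?_
    rw [Subgroup.card_map_of_injective (MulAut.conj g).injective, Subgroup.card_map_of_injective a.injective]
  have hx : g * a (Tr 0) * g⁻¹ = 1 ∨ g * a (Tr 0) * g⁻¹ = sg 0 := by
    apply cent_Q0
    intro r hr
    have hr1 := Q0_US hr
    rw [← heq] at hr1
    obtain ⟨_, ⟨u, hu, rfl⟩, rfl⟩ := hr1
    show g * a (Tr 0) * g⁻¹ * (g * a u * g⁻¹) = (g * a u * g⁻¹) * (g * a (Tr 0) * g⁻¹)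
    have h1 : u * Tr 0 = Tr 0 * u := by rw [Tr_zero]; exact mem_CC.mp (US_CC hu)
    have h2 : a u * a (Tr 0) = a (Tr 0) * a u := by rw [← map_mul, ← map_mul, h1]
    calc g * a (Tr 0) * g⁻¹ * (g * a u * g⁻¹) = g * (a (Tr 0) * a u) * g⁻¹ := by group
      _ = g * (a u * a (Tr 0)) * g⁻¹ := by rw [h2]
      _ = _ := by group
  rcases hx with h | h
  · exfalso
    have h1 : a (Tr 0) = 1 := by
      have : a (Tr 0) = g⁻¹ * (g * a (Tr 0) * g⁻¹) * g := by group
      rw [this, h]; group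
    exact Tr_ne_one 0 (a.injective (h1.trans (map_one a).symm))
  · obtain ⟨j, hj⟩ := exists_Tr_conj g⁻¹ 0
    refine ⟨j, ?_⟩
    calc a (Tr 0) = g⁻¹ * (g * a (Tr 0) * g⁻¹) * g⁻¹⁻¹ := by group
      _ = g⁻¹ * sg 0 * g⁻¹⁻¹ := by rw [h]
      _ = Tr j := by rw [← hj, Tr_zero]

theorem aut_ex (a : MulAut (AG 5)) (i : Fin 315) : ∃ j, a (Tr i) = Tr j := by
  obtain ⟨j, hj⟩ := aut_zero a
  obtain ⟨g, hg, _⟩ := Tr_trans i
  obtain ⟨l, hl⟩ := exists_Tr_conj (a g) j
  exact ⟨l, by rw [← hg, map_mul, map_mul, map_inv, hj, hl]⟩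

/-- the action of automorphisms on the reflections -/
noncomputable def aP : MulAut (AG 5) →* Equiv.Perm (Fin 315) :=
  homOfRel (fun a i j => a (Tr i) = Tr j) aut_ex (fun _ _ _ _ h h' => Tr_injective (h.symm.trans h')) (fun _ => rfl)
    (fun g h k k' k'' h1 h2 => by
      show g (h (Tr k)) = _
      rw [h1, h2])

theorem aP_spec (a : MulAut (AG 5)) (i : Fin 315) : a (Tr i) = Tr (aP a i) :=
  homOfRel_spec (rl := fun (a : MulAut (AG 5)) i j => a (Tr i) = Tr j) _ _ _ _ a i

theorem aP_pt (a : MulAut (AG 5)) (i j : Fin 315) : aP a (pt i j) = pt (aP a i) (aP a j) := by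
  apply Tr_injective
  rw [← aP_spec, ← pt_spec, ← pt_spec, map_mul, map_mul, map_inv, aP_spec, aP_spec]

/-- relation types -/
noncomputable def tyF (i j : Fin 315) : ℕ :=
  if i = j then 1 else if pt i j = j then 2 else if pt i j = pt j i then 3 else if pt (pt i j) j = j then 4 else 5

theorem tyF_inv (a : MulAut (AG 5)) (i j : Fin 315) : tyF (aP a i) (aP a j) = tyF i j := by
  unfold tyF
  simp only [← aP_pt, (aP a).injective.eq_iff]

def tyC (i j : ℕ) : ℕ := if Nat.beq i j then 1 else frc (PT i j) fun x =>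
  if Nat.beq x j then 2 else if Nat.beq x (PT j i) then 3 else if Nat.beq (PT x j) j then 4 else 5

theorem tyF_eq (i j : Fin 315) : tyF i j = tyC i j := by
  unfold tyF tyC
  rw [frc_eq]
  simp only [Nat.beq_eq, ← pt_eq, Fin.ext_iff]

/-- candidates -/
def cnd (l : List (ℕ × ℕ)) : List ℕ := (List.range 315).filter fun d => l.all fun p => Nat.beq (tyC p.1 d) p.2

set_option maxRecDepth 100000 in
theorem cnd1 : (cnd [(0, tyC 0 1)]).length = 10 := by decide +kernel
set_option maxRecDepth 100000 in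
theorem cnd2 : (cnd [(0, tyC 0 52), (1, tyC 1 52)]).length = 1 := by decide +kernel
set_option maxRecDepth 100000 in
theorem cnd3 : (cnd [(0, tyC 0 2), (1, tyC 1 2), (52, tyC 52 2)]).length = 8 := by decide +kernel
set_option maxRecDepth 100000 in
theorem cnd4 : (cnd [(0, tyC 0 19), (1, tyC 1 19), (52, tyC 52 19), (2, tyC 2 19)]).length = 6 := by decide +kernel
set_option maxRecDepth 100000 in
theorem cnd5 : (cnd [(0, tyC 0 14), (1, tyC 1 14), (52, tyC 52 14), (2, tyC 2 14), (19, tyC 19 14)]).length = 8 := by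
  decide +kernel

/-- stabilizers -/
noncomputable def Stb (c : Fin 315) : Subgroup (MulAut (AG 5)) where
  carrier := {a | aP a c = c}
  one_mem' := by show aP 1 c = c; rw [map_one]; rfl
  mul_mem' := by
    intro a b ha hb
    show aP (a * b) c = c
    rw [map_mul, Equiv.Perm.mul_apply]
    rw [show aP b c = c from hb, show aP a c = c from ha]
  inv_mem' := by
    intro a ha
    show aP a⁻¹ c = c
    rw [map_inv]
    conv_lhs => rw [← show aP a c = c from ha]
    exact inv_app _ _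

theorem mem_Stb {c : Fin 315} {a : MulAut (AG 5)} : a ∈ Stb c ↔ aP a c = c := Iff.rfl

instance : Finite (MulAut (AG 5)) :=
  Finite.of_injective (fun a : MulAut (AG 5) => (a : AG 5 → AG 5)) DFunLike.coe_injective

/-- one step of the chain -/
theorem step (B : Subgroup (MulAut (AG 5))) (c : Fin 315) (l : List ℕ) (h : ∀ b ∈ B, ((aP b c : Fin 315) : ℕ) ∈ l) :
    Nat.card B ≤ l.length * Nat.card (B ⊓ Stb c : Subgroup (MulAut (AG 5))) := by
  let _ : MulAction B (Fin 315) := MulAction.compHom _ (aP.comp B.subtype)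
  have h1 : (MulAction.orbit B c).ncard ≤ l.length := by
    have h2 : MulAction.orbit B c ⊆ {x : Fin 315 | (x : ℕ) ∈ l} := by
      rintro _ ⟨b, rfl⟩
      exact h b b.2
    refine (Set.ncard_le_ncard h2 (Set.toFinite _)).trans ?_
    have h3 : {x : Fin 315 | (x : ℕ) ∈ l}.ncard = (Fin.val '' {x : Fin 315 | (x : ℕ) ∈ l}).ncard :=
      (Set.ncard_image_of_injective _ Fin.val_injective).symm
    rw [h3]
    have h4 : (Fin.val '' {x : Fin 315 | (x : ℕ) ∈ l}) ⊆ (l.toFinset : Set ℕ) := by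
      rintro _ ⟨x, hx, rfl⟩
      simpa using hx
    refine (Set.ncard_le_ncard h4 (Set.toFinite _)).trans ?_
    rw [Set.ncard_coe_finset]
    exact l.toFinset_card_le
  have h5 := MulAction.index_stabilizer B c
  have h6 := (MulAction.stabilizer B c).card_mul_index
  have h7 : Nat.card (MulAction.stabilizer B c) ≤ Nat.card (B ⊓ Stb c : Subgroup (MulAut (AG 5))) := by
    apply Nat.card_le_card_of_injective (fun x : MulAction.stabilizer B c =>
      (⟨x.1.1, ⟨x.1.2, x.2⟩⟩ : (B ⊓ Stb c : Subgroup (MulAut (AG 5)))))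
    intro x y hxy
    exact Subtype.ext (Subtype.ext (congrArg (fun z : (B ⊓ Stb c : Subgroup (MulAut (AG 5))) => z.1) hxy))
  rw [← h6, h5, mul_comm]
  exact Nat.mul_le_mul h1 h7

theorem cnd_mem {l : List (Fin 315 × Fin 315)} {B : Subgroup (MulAut (AG 5))} {c : Fin 315}
    (hl : ∀ p ∈ l, p.2 = c ∧ B ≤ Stb p.1) : ∀ b ∈ B, ((aP b c : Fin 315) : ℕ) ∈ cnd (l.map fun p => ((p.1 : ℕ), tyC p.1 p.2)) := by
  intro b hb
  unfold cnd
  rw [List.mem_filter]
  refine ⟨List.mem_range.mpr (Fin.is_lt _), ?_⟩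
  rw [List.all_eq_true]
  intro q hq
  rw [List.mem_map] at hq
  obtain ⟨p, hp, rfl⟩ := hq
  obtain ⟨h1, h2⟩ := hl p hp
  rw [Nat.beq_eq]
  show tyC p.1 (aP b c : Fin 315) = tyC p.1 p.2
  have h3 : aP b p.1 = p.1 := h2 hb
  rw [← tyF_eq, ← tyF_eq, h1]
  conv_lhs => rw [← h3]
  exact tyF_inv b p.1 c

theorem fixpt {a : MulAut (AG 5)} {z : Fin 315} (x y : Fin 315) (hx : aP a x = x) (hy : aP a y = y) (h : PT x y = z) :
    aP a z = z := by
  have h1 : pt x y = z := Fin.ext ((pt_eq x y).trans h)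
  rw [← h1, aP_pt, hx, hy]

theorem eq_one_of_fix_gen {a : MulAut (AG 5)} (h : ∀ k, aP a (gIx k) = gIx k) : a = 1 := by
  have h1 : (a.toMonoidHom).eqLocus (MonoidHom.id _) = (⊤ : Subgroup (AG 5)) := by
    apply mem_of_gen
    intro k
    show a (sg k) = sg k
    rw [← Tr_gen, aP_spec, h]
  ext1 g
  have : g ∈ (a.toMonoidHom).eqLocus (MonoidHom.id _) := by rw [h1]; trivial
  exact this

theorem gI1 : gIx 1 = 144 := by decide +kernel
theorem gI2 : gIx 2 = 95 := by decide +kernel
theorem gI3 : gIx 3 = 10 := by decide +kernel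
theorem gI4 : gIx 4 = 12 := by decide +kernel

theorem eq_one_of_five {a : MulAut (AG 5)} (h0 : aP a 0 = 0) (h1 : aP a 144 = 144) (h2 : aP a 95 = 95)
    (h3 : aP a 10 = 10) (h4 : aP a 12 = 12) : a = 1 := by
  apply eq_one_of_fix_gen
  intro k
  match k with
  | 0 => rw [gIx_zero]; exact h0
  | 1 => rw [gI1]; exact h1
  | 2 => rw [gI2]; exact h2
  | 3 => rw [gI3]; exact h3
  | 4 => rw [gI4]; exact h4

theorem aut_card : Nat.card (MulAut (AG 5)) ≤ 1209600 := by
  have s0 := step ⊤ 0 (List.range 315) (fun b _ => List.mem_range.mpr (Fin.is_lt _))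
  set B1 : Subgroup (MulAut (AG 5)) := ⊤ ⊓ Stb 0 with hB1
  have s1 := step B1 1 _ (cnd_mem (l := [(0, 1)]) (by
    intro p hp
    simp only [List.mem_singleton] at hp
    subst hp
    exact ⟨rfl, inf_le_right⟩))
  set B2 : Subgroup (MulAut (AG 5)) := B1 ⊓ Stb 1 with hB2
  have s2 := step B2 52 _ (cnd_mem (l := [(0, 52), (1, 52)]) (by
    intro p hp
    simp only [List.mem_cons, List.not_mem_nil, or_false] at hp
    rcases hp with rfl | rfl
    · exact ⟨rfl, inf_le_left.trans inf_le_right⟩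
    · exact ⟨rfl, inf_le_right⟩))
  set B3 : Subgroup (MulAut (AG 5)) := B2 ⊓ Stb 52 with hB3
  have s3 := step B3 2 _ (cnd_mem (l := [(0, 2), (1, 2), (52, 2)]) (by
    intro p hp
    simp only [List.mem_cons, List.not_mem_nil, or_false] at hp
    rcases hp with rfl | rfl | rfl
    · exact ⟨rfl, inf_le_left.trans (inf_le_left.trans inf_le_right)⟩
    · exact ⟨rfl, inf_le_left.trans inf_le_right⟩
    · exact ⟨rfl, inf_le_right⟩))
  set B4 : Subgroup (MulAut (AG 5)) := B3 ⊓ Stb 2 with hB4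
  have s4 := step B4 19 _ (cnd_mem (l := [(0, 19), (1, 19), (52, 19), (2, 19)]) (by
    intro p hp
    simp only [List.mem_cons, List.not_mem_nil, or_false] at hp
    rcases hp with rfl | rfl | rfl | rfl
    · exact ⟨rfl, inf_le_left.trans (inf_le_left.trans (inf_le_left.trans inf_le_right))⟩
    · exact ⟨rfl, inf_le_left.trans (inf_le_left.trans inf_le_right)⟩
    · exact ⟨rfl, inf_le_left.trans inf_le_right⟩
    · exact ⟨rfl, inf_le_right⟩))
  set B5 : Subgroup (MulAut (AG 5)) := B4 ⊓ Stb 19 with hB5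
  have s5 := step B5 14 _ (cnd_mem (l := [(0, 14), (1, 14), (52, 14), (2, 14), (19, 14)]) (by
    intro p hp
    simp only [List.mem_cons, List.not_mem_nil, or_false] at hp
    rcases hp with rfl | rfl | rfl | rfl | rfl
    · exact ⟨rfl, inf_le_left.trans (inf_le_left.trans (inf_le_left.trans (inf_le_left.trans inf_le_right)))⟩
    · exact ⟨rfl, inf_le_left.trans (inf_le_left.trans (inf_le_left.trans inf_le_right))⟩
    · exact ⟨rfl, inf_le_left.trans (inf_le_left.trans inf_le_right)⟩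
    · exact ⟨rfl, inf_le_left.trans inf_le_right⟩
    · exact ⟨rfl, inf_le_right⟩))
  set B6 : Subgroup (MulAut (AG 5)) := B5 ⊓ Stb 14 with hB6
  have l1 : (cnd (([(0, 1)] : List (Fin 315 × Fin 315)).map fun p => ((p.1 : ℕ), tyC p.1 p.2))).length = 10 := cnd1
  have l2 : (cnd (([(0, 52), (1, 52)] : List (Fin 315 × Fin 315)).map fun p => ((p.1 : ℕ), tyC p.1 p.2))).length = 1 := cnd2
  have l3 : (cnd (([(0, 2), (1, 2), (52, 2)] : List (Fin 315 × Fin 315)).map fun p => ((p.1 : ℕ), tyC p.1 p.2))).length = 8 := cnd3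
  have l4 : (cnd (([(0, 19), (1, 19), (52, 19), (2, 19)] : List (Fin 315 × Fin 315)).map fun p => ((p.1 : ℕ), tyC p.1 p.2))).length = 6 := cnd4
  have l5 : (cnd (([(0, 14), (1, 14), (52, 14), (2, 14), (19, 14)] : List (Fin 315 × Fin 315)).map fun p => ((p.1 : ℕ), tyC p.1 p.2))).length = 8 := cnd5
  rw [l1] at s1
  rw [l2] at s2
  rw [l3] at s3
  rw [l4] at s4
  rw [l5] at s5
  rw [List.length_range] at s0
  have s6 : Nat.card B6 = 1 := by
    rw [Subgroup.card_eq_one, Subgroup.eq_bot_iff_forall]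
    intro a ha
    have f14 : aP a 14 = 14 := ha.2
    have f19 : aP a 19 = 19 := ha.1.2
    have f2 : aP a 2 = 2 := ha.1.1.2
    have f52 : aP a 52 = 52 := ha.1.1.1.2
    have f1 : aP a 1 = 1 := ha.1.1.1.1.2
    have f0 : aP a 0 = 0 := ha.1.1.1.1.1.2
    have f57 : aP a 57 = 57 := fixpt 1 19 f1 f19 (by decide +kernel)
    have f32 : aP a 32 = 32 := fixpt 14 52 f14 f52 (by decide +kernel)
    have f8 : aP a 8 = 8 := fixpt 57 32 f57 f32 (by decide +kernel)
    have f144 : aP a 144 = 144 := fixpt 2 8 f2 f8 (by decide +kernel)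
    have f50 : aP a 50 = 50 := fixpt 52 14 f52 f14 (by decide +kernel)
    have f162 : aP a 162 = 162 := fixpt 19 14 f19 f14 (by decide +kernel)
    have f171 : aP a 171 = 171 := fixpt 50 162 f50 f162 (by decide +kernel)
    have f73 : aP a 73 = 73 := fixpt 1 2 f1 f2 (by decide +kernel)
    have f95 : aP a 95 = 95 := fixpt 171 73 f171 f73 (by decide +kernel)
    have f129 : aP a 129 = 129 := fixpt 14 19 f14 f19 (by decide +kernel)
    have f106 : aP a 106 = 106 := fixpt 52 129 f52 f129 (by decide +kernel)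
    have f236 : aP a 236 = 236 := fixpt 2 162 f2 f162 (by decide +kernel)
    have f10 : aP a 10 = 10 := fixpt 106 236 f106 f236 (by decide +kernel)
    have f163 : aP a 163 = 163 := fixpt 129 50 f129 f50 (by decide +kernel)
    have f12 : aP a 12 = 12 := fixpt 236 163 f236 f163 (by decide +kernel)
    exact eq_one_of_five f0 f144 f95 f10 f12
  rw [s6] at s5
  have : Nat.card (⊤ : Subgroup (MulAut (AG 5))) = Nat.card (MulAut (AG 5)) := Subgroup.card_top
  rw [this] at s0
  omega

/-- an outer automorphism -/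
def SGC : ℕ := 0x615a79c8451ed29cfac8955890129771929c36d439a63ce9a20ad8c07f7c744876aeb60cd66236ef1d112b462e35ab17ae8d5e84d087d2a4705cf554c864e02d2050b446d9de2751a47950468c3066c080eec2a70608080

theorem sgc_chk : ∀ x : Fin 100, ap SGC x < 100 ∧ ap SGC (ap SGC x) = x := by decide +kernel

def sgm : Pm := ⟨fun x => ⟨ap SGC x, (sgc_chk x).1⟩, fun x => ⟨ap SGC x, (sgc_chk x).1⟩,
  fun x => Fin.ext (sgc_chk x).2, fun x => Fin.ext (sgc_chk x).2⟩

theorem sgm_is : Is sgm SGC := fun _ => rfl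

def sgw (k : ℕ) : List (Fin 5) := tw ([[3, 0, 1, 3], [1], [3, 2, 0, 3], [0, 3], [3, 1, 4, 1, 3]].getD k [])

theorem sgw_chk : (List.range 5).all (fun k => (List.range 100).all fun x =>
    Nat.beq (ap SGC (ap (bC k) x)) (wA (sgw k) (ap SGC x))) = true := by decide +kernel

theorem sgm_conj (k : Fin 5) : sgm * beP k * sgm⁻¹ = Wd (sgw k) := by
  rw [mul_inv_eq_iff_eq_mul]
  ext x
  have h := sgw_chk
  rw [List.all_eq_true] at h
  have h := h k (List.mem_range.mpr k.2)
  rw [List.all_eq_true] at h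
  have h := h x (List.mem_range.mpr x.2)
  rw [Nat.beq_eq] at h
  rw [Equiv.Perm.mul_apply, Equiv.Perm.mul_apply, sgm_is, Is_gen, h, Wd_apply, sgm_is]

theorem sgm_sq : sgm * sgm = 1 := by
  ext x
  exact (sgc_chk x).2

theorem sgm_inv : sgm⁻¹ = sgm := inv_eq_of_mul_eq_one_left sgm_sq

theorem sgm_mem {g : Pm} (hg : g ∈ AG 5) : sgm * g * sgm⁻¹ ∈ AG 5 := by
  have h1 : AG 5 ≤ (AG 5).comap (MulAut.conj sgm).toMonoidHom := by
    conv_lhs => unfold AG
    rw [Subgroup.closure_le]
    rintro _ ⟨k, _, rfl⟩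
    show sgm * beP k * sgm⁻¹ ∈ AG 5
    rw [sgm_conj]
    exact Wd_mem _ fun k _ => k.2
  exact h1 hg

noncomputable def outA : MulAut (AG 5) where
  toFun g := ⟨sgm * g * sgm⁻¹, sgm_mem g.2⟩
  invFun g := ⟨sgm * g * sgm⁻¹, sgm_mem g.2⟩
  left_inv g := by
    apply Subtype.ext
    show sgm * (sgm * g * sgm⁻¹) * sgm⁻¹ = g
    rw [sgm_inv]
    have : sgm * (sgm * (g : Pm) * sgm) * sgm = (sgm * sgm) * g * (sgm * sgm) := by group
    rw [this, sgm_sq, one_mul, mul_one]
  right_inv g := by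
    apply Subtype.ext
    show sgm * (sgm * g * sgm⁻¹) * sgm⁻¹ = g
    rw [sgm_inv]
    have : sgm * (sgm * (g : Pm) * sgm) * sgm = (sgm * sgm) * g * (sgm * sgm) := by group
    rw [this, sgm_sq, one_mul, mul_one]
  map_mul' g h := by
    apply Subtype.ext
    show sgm * (g * h) * sgm⁻¹ = sgm * g * sgm⁻¹ * (sgm * h * sgm⁻¹)
    group

theorem cent_triv {c : Pm} (hc : ∀ g ∈ AG 5, c * g = g * c) : c = 1 := by
  have h0 : c 0 = 0 := by
    have hfix : ∀ k : Fin 5, (k : ℕ) < 4 → beP k (c 0) = c 0 := by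
      intro k hk
      have h2 := congrArg (fun p : Pm => p 0) (hc (beP k) (AG_gen k k.2))
      have h3 : beP k 0 = 0 := fix0 (AG_gen k hk)
      simp only [Equiv.Perm.mul_apply, h3] at h2
      exact h2.symm
    have key : ∀ x : Fin 100, beP 0 x = x → beP 1 x = x → beP 2 x = x → beP 3 x = x → x = 0 := by decide +kernel
    exact key _ (hfix 0 (by norm_num)) (hfix 1 (by norm_num)) (hfix 2 (by norm_num)) (hfix 3 (by norm_num))
  ext1 x
  obtain ⟨g, hg, rfl⟩ := trans5 x
  have h2 := congrArg (fun p : Pm => p 0) (hc g hg)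
  simp only [Equiv.Perm.mul_apply, h0] at h2
  exact h2

theorem sgm_not : sgm ∉ AG 5 := by
  intro h
  have h1 : sgm = 1 := base_trivial h (Fin.ext (by decide +kernel)) (Fin.ext (by decide +kernel)) (Fin.ext (by decide +kernel))
    (Fin.ext (by decide +kernel))
  have h2 : ((sgm 4 : Fin 100) : ℕ) = 4 := by rw [h1]; rfl
  rw [sgm_is] at h2
  revert h2
  decide +kernel

theorem outA_not : outA ∉ Inn (AG 5) := by
  rintro ⟨g, hg⟩
  have h1 : ∀ x ∈ AG 5, ((g : Pm)⁻¹ * sgm) * x = x * ((g : Pm)⁻¹ * sgm) := by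
    intro x hx
    have h2 := congrArg (fun f : MulAut (AG 5) => ((f ⟨x, hx⟩ : AG 5) : Pm)) hg
    have h3 : (g : Pm) * x * (g : Pm)⁻¹ = sgm * x * sgm⁻¹ := h2
    have h4 : sgm * x = (g : Pm) * x * (g : Pm)⁻¹ * sgm := by rw [h3]; group
    rw [mul_assoc, h4]; group
  have h2 := cent_triv h1
  apply sgm_not
  have : sgm = g := by
    rw [inv_mul_eq_one] at h2
    exact h2.symm
  rw [this]; exact g.2

theorem card_Inn : Nat.card (Inn (AG 5)) = 604800 := by
  have h1 : (MulAut.conj : AG 5 →* MulAut (AG 5)).ker = ⊥ := by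
    rw [Subgroup.eq_bot_iff_forall]
    intro g hg
    rw [MonoidHom.mem_ker] at hg
    apply Subtype.ext
    apply cent_triv
    intro x hx
    have h2 := congrArg (fun f : MulAut (AG 5) => ((f ⟨x, hx⟩ : AG 5) : Pm)) hg
    have h3 : (g : Pm) * x * (g : Pm)⁻¹ = x := h2
    exact mul_inv_eq_iff_eq_mul.mp h3
  have h2 : Function.Injective (MulAut.conj : AG 5 →* MulAut (AG 5)) := (MonoidHom.ker_eq_bot_iff _).mp h1
  show Nat.card (MulAut.conj : AG 5 →* MulAut (AG 5)).range = _
  rw [← card5]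
  exact (Nat.card_congr (MonoidHom.ofInjective h2).toEquiv).symm

theorem card_Out : Nat.card (Out (AG 5)) = 2 := by
  have h1 := (Inn (AG 5)).card_mul_index
  rw [card_Inn] at h1
  have h2 := aut_card
  rw [← h1] at h2
  have h3 : (Inn (AG 5)).index ≤ 2 := by omega
  have h4 : (Inn (AG 5)).index ≠ 1 := by
    intro h
    rw [Subgroup.index_eq_one] at h
    exact outA_not (by rw [h]; trivial)
  have h5 : (Inn (AG 5)).index ≠ 0 := Subgroup.index_ne_zero_of_finite
  show Nat.card (MulAut (AG 5) ⧸ Inn (AG 5)) = 2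
  rw [← Subgroup.index_eq_card]
  omega

theorem out_congr {G : Type*} {G' : Type*} [Group G] [Group G'] (e : G ≃* G') :
    Nat.card (Cfsg.Out G) = Nat.card (Cfsg.Out G') := by
  refine Nat.card_congr (QuotientGroup.congr (Cfsg.Inn G) (Cfsg.Inn G') (MulAut.congr e) ?_).toEquiv
  ext φ
  constructor
  · rintro ⟨_, ⟨g, rfl⟩, rfl⟩
    refine ⟨e g, ?_⟩
    ext x
    simp [MulAut.congr, MulAut.conj_apply]
  · rintro ⟨g, rfl⟩
    refine ⟨MulAut.conj (e.symm g), ⟨e.symm g, rfl⟩, ?_⟩
    ext x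
    simp [MulAut.congr, MulAut.conj_apply]

end Cfsg.Agent.Lib.H58J2
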