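import Cfsg.Agent.Lib.H58J2CentZ

/-!
The centralizer of a reflection in the permutation group of degree 100: quotient `A_5` (helper58).
-/

set_option autoImplicit false

namespace Cfsg.Agent.Lib.H58J2

open Cfsg.Spor

/-- the centralizer of the reflection -/
abbrev CC : Subgroup (AG 5) := Subgroup.centralizer {sg 0}

theorem mem_CC {g : AG 5} : g ∈ CC ↔ g * sg 0 = sg 0 * g := by
  rw [Subgroup.mem_centralizer_singleton_iff]

/-- the relation describing the action on the five pairs -/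
def rl (c : CC) (k k' : Fin 5) : Prop := (c : AG 5) * xx k * (c : AG 5)⁻¹ = xx k' ∨ (c : AG 5) * xx k * (c : AG 5)⁻¹ = sg 0 * xx k'

theorem list_chk : ∀ j : Fin 315, piP 0 j = j → j = 0 ∨ ∃ k : Fin 5, j = aI k ∨ j = bI k := by decide +kernel

theorem ab_inj : (∀ k l : Fin 5, aI k = aI l → k = l) ∧ (∀ k l : Fin 5, aI k ≠ bI l) := by decide +kernel

theorem sg0_comm (c : CC) : (c : AG 5) * sg 0 * (c : AG 5)⁻¹ = sg 0 := by
  rw [mem_CC.mp c.2]; group

theorem aI_ne_zero : ∀ k : Fin 5, aI k ≠ 0 := by decide +kernel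
theorem aI_fix : ∀ k : Fin 5, piP 0 (aI k) = aI k := by decide +kernel

theorem rl_ex (c : CC) (k : Fin 5) : ∃ k', rl c k k' := by
  obtain ⟨j, hj⟩ := exists_Tr_conj (c : AG 5) (aI k)
  have h1 : piP 0 j = j := by
    rw [← comm_iff, ← hj]
    have h2 := (comm_iff (aI k)).mpr (aI_fix k)
    calc sg 0 * ((c : AG 5) * Tr (aI k) * (c : AG 5)⁻¹) = (c : AG 5) * sg 0 * (c : AG 5)⁻¹ * ((c : AG 5) * Tr (aI k) * (c : AG 5)⁻¹) := by
          rw [sg0_comm]
      _ = (c : AG 5) * (sg 0 * Tr (aI k)) * (c : AG 5)⁻¹ := by group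
      _ = (c : AG 5) * (Tr (aI k) * sg 0) * (c : AG 5)⁻¹ := by rw [h2]
      _ = (c : AG 5) * Tr (aI k) * (c : AG 5)⁻¹ * ((c : AG 5) * sg 0 * (c : AG 5)⁻¹) := by group
      _ = _ := by rw [sg0_comm]
  rcases list_chk j h1 with h | ⟨k', h | h⟩
  · exfalso
    subst h
    rw [Tr_zero] at hj
    have h2 : Tr (aI k) = sg 0 := by
      have : Tr (aI k) = (c : AG 5)⁻¹ * ((c : AG 5) * Tr (aI k) * (c : AG 5)⁻¹) * (c : AG 5) := by group
      rw [this, hj]
      conv_rhs => rw [← sg0_comm (c⁻¹)]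
      rw [Subgroup.coe_inv, inv_inv]
    rw [← Tr_zero] at h2
    exact aI_ne_zero k (Tr_injective h2)
  · refine ⟨k', Or.inl ?_⟩
    subst h; exact hj
  · refine ⟨k', Or.inr ?_⟩
    subst h
    rw [bI_eq] at hj; exact hj

theorem xx_ne (k l : Fin 5) : xx k ≠ sg 0 * xx l := by
  rw [← bI_eq]
  intro h
  exact ab_inj.2 k l (Tr_injective h)

theorem xx_inj {k l : Fin 5} (h : xx k = xx l) : k = l := ab_inj.1 k l (Tr_injective h)

theorem rl_un (c : CC) (k k' k'' : Fin 5) (h : rl c k k') (h' : rl c k k'') : k' = k'' := by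
  rcases h with h | h <;> rcases h' with h' | h'
  · exact xx_inj (h.symm.trans h')
  · exact absurd (h.symm.trans h') (xx_ne _ _)
  · exact absurd (h'.symm.trans h) (xx_ne _ _)
  · exact xx_inj (mul_left_cancel (h.symm.trans h'))

theorem rl_mul (c d : CC) (k k' k'' : Fin 5) (h : rl d k k') (h' : rl c k' k'') : rl (c * d) k k'' := by
  unfold rl at *
  have e : ((c * d : CC) : AG 5) * xx k * ((c * d : CC) : AG 5)⁻¹ = (c : AG 5) * ((d : AG 5) * xx k * (d : AG 5)⁻¹) * (c : AG 5)⁻¹ := by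
    rw [Subgroup.coe_mul]; group
  have e2 : ∀ x : AG 5, (c : AG 5) * (sg 0 * x) * (c : AG 5)⁻¹ = sg 0 * ((c : AG 5) * x * (c : AG 5)⁻¹) := by
    intro x
    have : (c : AG 5) * (sg 0 * x) * (c : AG 5)⁻¹ = ((c : AG 5) * sg 0 * (c : AG 5)⁻¹) * ((c : AG 5) * x * (c : AG 5)⁻¹) := by group
    rw [this, sg0_comm]
  rw [e]
  rcases h with h | h <;> rcases h' with h' | h'
  · left; rw [h, h']
  · right; rw [h, h']
  · right; rw [h, e2, h']
  · left; rw [h, e2, h', ← mul_assoc, sg_sq, one_mul]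

/-- the action on the five pairs -/
noncomputable def pI : CC →* Equiv.Perm (Fin 5) :=
  homOfRel rl rl_ex rl_un (fun k => Or.inl (by simp)) rl_mul

theorem pI_spec (c : CC) (k : Fin 5) : rl c k (pI c k) := homOfRel_spec (rl := rl) _ _ _ _ c k

theorem pI_eq {c : CC} {k k' : Fin 5} (h : rl c k k') : pI c k = k' := rl_un _ _ _ _ (pI_spec c k) h

theorem xx_mem (k : Fin 5) : xx k ∈ Q0 := by
  by_cases hk : k = 4
  · subst hk
    rw [xx_word]
    have : wEq (tw (cw ((4 : Fin 5) : ℕ))) (qw 15) = true := by decide +kernel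
    rw [wEq_spec this]
    exact qw_mem 15
  · rw [← yy_tr k hk]; exact yy_mem k

theorem Q0_le : Q0 ≤ CC := fun q hq => mem_CC.mpr (Q0_cen q hq)

theorem Q0_ker : Q0.subgroupOf CC ≤ pI.ker := by
  intro q hq
  rw [Subgroup.mem_subgroupOf] at hq
  rw [MonoidHom.mem_ker]
  ext1 k
  rw [Equiv.Perm.one_apply]
  apply pI_eq
  rcases Q0_comm _ hq _ (xx_mem k) with h | h
  · left; rw [h]; group
  · right; rw [h]; group

/-- elements of the centralizer given by words -/
theorem comm_word {w : List (Fin 5)} (h : wEq (w ++ [0]) (0 :: w) = true) : We w ∈ CC := by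
  rw [mem_CC]
  have := wEq_spec h
  rw [We_append, We_cons 0 w, We_cons 0 [], We_nil, mul_one] at this
  exact this

def imgC (w : List (Fin 5)) (k k' : ℕ) : Bool :=
  wEq (w ++ tw (cw k)) (tw (cw k') ++ w) || wEq (w ++ tw (cw k)) (0 :: (tw (cw k') ++ w))

theorem imgC_spec {w : List (Fin 5)} (hw : We w ∈ CC) {k k' : Fin 5} (h : imgC w k k' = true) : pI ⟨We w, hw⟩ k = k' := by
  unfold imgC at h
  rw [Bool.or_eq_true] at h
  apply pI_eq
  rcases h with h | h
  · left
    show We w * xx k * (We w)⁻¹ = xx k'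
    have := wEq_spec h
    rw [We_append, We_append, ← xx_word, ← xx_word] at this
    rw [this]; group
  · right
    show We w * xx k * (We w)⁻¹ = sg 0 * xx k'
    have := wEq_spec h
    rw [We_append, We_cons, We_append, ← xx_word, ← xx_word] at this
    rw [this]; group

def w5e : List (Fin 5) := [1, 2, 4, 3]
def w3e : List (Fin 5) := [4, 1, 0, 3, 4, 1, 2]
def wu : List (Fin 5) := [1, 2, 3, 2]
def wv : List (Fin 5) := [4, 1, 0, 1, 4, 2, 0, 2, 1]

def s5e : Equiv.Perm (Fin 5) := ⟨![3, 2, 4, 1, 0], ![4, 3, 1, 0, 2], by decide, by decide⟩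
def s3e : Equiv.Perm (Fin 5) := ⟨![0, 2, 3, 1, 4], ![0, 3, 1, 2, 4], by decide, by decide⟩
def su : Equiv.Perm (Fin 5) := ⟨![0, 2, 1, 4, 3], ![0, 2, 1, 4, 3], by decide, by decide⟩
def sv : Equiv.Perm (Fin 5) := ⟨![0, 3, 4, 1, 2], ![0, 3, 4, 1, 2], by decide, by decide⟩

theorem in_range {w : List (Fin 5)} {s : Equiv.Perm (Fin 5)} (hc : wEq (w ++ [0]) (0 :: w) = true)
    (h : ∀ k : Fin 5, imgC w k (s k : Fin 5) = true) : s ∈ pI.range :=
  ⟨⟨We w, comm_word hc⟩, Equiv.ext fun k => imgC_spec _ (h k)⟩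

theorem r5 : s5e ∈ pI.range := in_range (w := w5e) (by decide +kernel) (by decide +kernel)
theorem r3 : s3e ∈ pI.range := in_range (w := w3e) (by decide +kernel) (by decide +kernel)
theorem ru : su ∈ pI.range := in_range (w := wu) (by decide +kernel) (by decide +kernel)
theorem rv : sv ∈ pI.range := in_range (w := wv) (by decide +kernel) (by decide +kernel)

/-- a four-group -/
def V4 : Subgroup (Equiv.Perm (Fin 5)) where
  carrier := {s | s = 1 ∨ s = su ∨ s = sv ∨ s = su * sv}
  mul_mem' := by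
    have h1 : su * su = 1 := by decide +kernel
    have h2 : sv * sv = 1 := by decide +kernel
    have h3 : sv * su = su * sv := by decide +kernel
    rintro a b (rfl | rfl | rfl | rfl) (rfl | rfl | rfl | rfl) <;> decide +kernel
  one_mem' := Or.inl rfl
  inv_mem' := by
    rintro a (rfl | rfl | rfl | rfl) <;> decide +kernel

theorem card_V4 : Nat.card V4 = 4 := by
  have h : (V4 : Set (Equiv.Perm (Fin 5))) = (({1, su, sv, su * sv} : Finset (Equiv.Perm (Fin 5))) : Set _) := by
    ext s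
    simp only [Finset.coe_insert, Finset.coe_singleton, Set.mem_insert_iff, Set.mem_singleton_iff]
    rfl
  have h1 : Nat.card V4 = (V4 : Set (Equiv.Perm (Fin 5))).ncard := rfl
  rw [h1, h, Set.ncard_coe_finset]
  decide +kernel

theorem V4_le : V4 ≤ pI.range := by
  rintro s (rfl | rfl | rfl | rfl)
  · exact one_mem _
  · exact ru
  · exact rv
  · exact mul_mem ru rv

theorem card_range_mul : Nat.card pI.ker * Nat.card pI.range = 1920 := by
  have h1 := pI.ker.card_mul_index
  rw [Subgroup.index_ker] at h1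
  rw [h1]; exact card_cent

theorem ord_dvd {G : Type*} [Group G] {R : Subgroup G} {s : G} (hs : s ∈ R) {n : ℕ} (h : orderOf s = n) :
    n ∣ Nat.card R := by
  rw [← h, ← Subgroup.orderOf_mk s hs]
  exact orderOf_dvd_natCard _

theorem sixty_dvd : 60 ∣ Nat.card pI.range := by
  have h4 : 4 ∣ Nat.card pI.range := by
    rw [← card_V4]; exact Subgroup.card_dvd_of_le V4_le
  have h5 : 5 ∣ Nat.card pI.range := by
    have h : orderOf s5e = 5 := by
      have : Fact (Nat.Prime 5) := ⟨by norm_num⟩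
      exact orderOf_eq_prime (by decide +kernel) (by decide +kernel)
    exact ord_dvd r5 h
  have h3 : 3 ∣ Nat.card pI.range := by
    have h : orderOf s3e = 3 := orderOf_eq_prime (by decide +kernel) (by decide +kernel)
    exact ord_dvd r3 h
  omega

theorem card_sub : Nat.card (Q0.subgroupOf CC) = 32 := by
  rw [Nat.card_congr (Subgroup.subgroupOfEquivOfLe Q0_le).toEquiv, card_Q0]

theorem ker_range : Nat.card pI.ker = 32 ∧ Nat.card pI.range = 60 := by
  have h1 := card_range_mul
  have h2 : 32 ∣ Nat.card pI.ker := by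
    rw [← card_sub]; exact Subgroup.card_dvd_of_le Q0_ker
  obtain ⟨a, ha⟩ := h2
  obtain ⟨b, hb⟩ := sixty_dvd
  rw [ha, hb] at h1
  have h3 : a * b = 1 := by
    have : 1920 * (a * b) = 1920 := by
      calc 1920 * (a * b) = 32 * a * (60 * b) := by ring
        _ = 1920 := h1
    omega
  have h4 := Nat.eq_one_of_mul_eq_one_left h3
  have h5 := Nat.eq_one_of_mul_eq_one_right h3
  rw [ha, hb]
  constructor <;> simp_all

theorem ker_eq : pI.ker = Q0.subgroupOf CC := by
  refine (Subgroup.eq_of_le_of_card_ge Q0_ker ?_).symm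
  rw [card_sub, ker_range.1]

theorem range_eq : pI.range = alternatingGroup (Fin 5) := by
  apply Equiv.Perm.eq_alternatingGroup_of_index_eq_two
  have h := pI.range.card_mul_index
  rw [ker_range.2, Nat.card_eq_fintype_card, Fintype.card_perm, Fintype.card_fin] at h
  have : (5 : ℕ).factorial = 60 * 2 := by decide
  rw [this] at h
  exact Nat.eq_of_mul_eq_mul_left (by norm_num) h

theorem isExtraspecial_Q0 : Cfsg.IsExtraspecial 2 Q0 := LargeExtra.isExtraspecial_of_exData exData

/-- extraspecial data inside a subgroup -/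
theorem exData_subgroupOf {G : Type*} [Group G] {Q C : Subgroup G} {z : G} (h : LargeExtra.ExData Q z) (hQ : Q ≤ C) :
    LargeExtra.ExData (Q.subgroupOf C) (⟨z, hQ h.mem⟩ : C) := by
  apply LargeExtra.ExData.of
  · exact Subtype.ext h.sq
  · intro h1; exact h.ne (congrArg Subtype.val h1)
  · exact h.mem
  · intro q hq; exact Subtype.ext (h.cen q hq)
  · intro a ha b hb
    exact (h.comm a ha b hb).imp (fun h => Subtype.ext h) (fun h => Subtype.ext h)
  · intro q hq hc
    refine (h.center q hq fun x hx => ?_).imp (fun h => Subtype.ext h) (fun h => Subtype.ext h)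
    exact congrArg Subtype.val (hc ⟨x, hQ hx⟩ hx)
  · obtain ⟨a, ha, b, hb, hab⟩ := h.nonab
    exact ⟨⟨a, hQ ha⟩, ha, ⟨b, hQ hb⟩, hb, fun h => hab (congrArg Subtype.val h)⟩

/-- transport of extraspecial data -/
theorem exData_map {G H : Type*} [Group G] [Group H] {Q : Subgroup G} {z : G} (h : LargeExtra.ExData Q z) (e : G ≃* H) :
    LargeExtra.ExData (Q.map e.toMonoidHom) (e z) := by
  apply LargeExtra.ExData.of
  · rw [← map_mul, h.sq, map_one]
  · intro h1; exact h.ne (e.injective (h1.trans (map_one e).symm))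
  · exact ⟨z, h.mem, rfl⟩
  · rintro _ ⟨q, hq, rfl⟩
    show e q * e z = e z * e q
    rw [← map_mul, h.cen q hq, map_mul]
  · rintro _ ⟨a, ha, rfl⟩ _ ⟨b, hb, rfl⟩
    show e a * e b = e b * e a ∨ e a * e b = e z * (e b * e a)
    rw [← map_mul, ← map_mul, ← map_mul]
    exact (h.comm a ha b hb).imp (fun h => by rw [h]) (fun h => by rw [h])
  · rintro _ ⟨q, hq, rfl⟩ hc
    show e q = 1 ∨ e q = e z
    refine (h.center q hq fun x hx => ?_).imp (fun h => by rw [h, map_one]) (fun h => by rw [h])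
    apply e.injective
    rw [map_mul, map_mul]
    exact hc (e x) ⟨x, hx, rfl⟩
  · obtain ⟨a, ha, b, hb, hab⟩ := h.nonab
    refine ⟨e a, ⟨a, ha, rfl⟩, e b, ⟨b, hb, rfl⟩, fun h => hab (e.injective ?_)⟩
    rw [map_mul, map_mul, h]

/-- the structure of the centralizer -/
def CentOK {G : Type*} [Group G] (z : G) : Prop :=
  ∃ (Q : Subgroup (Subgroup.centralizer {z} : Subgroup G)) (_ : Q.Normal), Nat.card Q = 32 ∧ Cfsg.IsExtraspecial 2 Q ∧
    Nonempty ((Subgroup.centralizer {z} : Subgroup G) ⧸ Q ≃* alternatingGroup (Fin 5))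

theorem centOK_map {G H : Type*} [Group G] [Group H] {z : G} (e : G ≃* H) :
    ∀ {w : H}, e z = w → (∃ (Q : Subgroup (Subgroup.centralizer {z} : Subgroup G)) (_ : Q.Normal) (x : (Subgroup.centralizer {z} : Subgroup G)),
      Nat.card Q = 32 ∧ LargeExtra.ExData Q x ∧ Finite (Subgroup.centralizer {z} : Subgroup G) ∧
      Nonempty ((Subgroup.centralizer {z} : Subgroup G) ⧸ Q ≃* alternatingGroup (Fin 5))) → CentOK w := by
  rintro w hw ⟨Q, hQ, x, h1, h2, h3, ⟨e'⟩⟩
  have hcent : (Subgroup.centralizer {z} : Subgroup G).map e.toMonoidHom = Subgroup.centralizer {w} := by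
    ext y
    rw [Subgroup.mem_map_equiv, Subgroup.mem_centralizer_singleton_iff, Subgroup.mem_centralizer_singleton_iff, ← hw]
    constructor
    · intro h
      have := congrArg e h
      simpa using this
    · intro h
      apply e.injective
      simpa using h
  let ε : (Subgroup.centralizer {z} : Subgroup G) ≃* (Subgroup.centralizer {w} : Subgroup H) :=
    (e.subgroupMap _).trans (MulEquiv.subgroupCongr hcent)
  have hn : (Q.map ε.toMonoidHom).Normal := hQ.map _ ε.surjective
  have hfin : Finite (Subgroup.centralizer {w} : Subgroup H) := Finite.of_equiv _ ε.toEquiv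
  refine ⟨Q.map ε.toMonoidHom, hn, ?_, ?_, ⟨?_⟩⟩
  · rw [← h1]
    exact (Nat.card_congr (ε.subgroupMap Q).toEquiv).symm
  · exact LargeExtra.isExtraspecial_of_exData (exData_map h2 ε)
  · exact (QuotientGroup.congr Q (Q.map ε.toMonoidHom) ε rfl).symm.trans e'

theorem cent_main : ∃ (Q : Subgroup (Subgroup.centralizer {sg 0} : Subgroup (AG 5))) (_ : Q.Normal)
    (x : (Subgroup.centralizer {sg 0} : Subgroup (AG 5))),
      Nat.card Q = 32 ∧ LargeExtra.ExData Q x ∧ Finite (Subgroup.centralizer {sg 0} : Subgroup (AG 5)) ∧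
      Nonempty ((Subgroup.centralizer {sg 0} : Subgroup (AG 5)) ⧸ Q ≃* alternatingGroup (Fin 5)) :=
  ⟨pI.ker, inferInstance, ⟨sg 0, Q0_le exData.mem⟩, ker_range.1, by rw [ker_eq]; exact exData_subgroupOf exData Q0_le,
    inferInstance, ⟨(QuotientGroup.quotientKerEquivRange pI).trans (MulEquiv.subgroupCongr range_eq)⟩⟩

end Cfsg.Agent.Lib.H58J2
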