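import Cfsg.Agent.Lib.H58J2Refl
import Cfsg.Agent.Lib.LargeExtra7

/-!
The centralizer of a reflection in the permutation group of degree 100: the extraspecial normal subgroup (helper58).
-/

set_option autoImplicit false

namespace Cfsg.Agent.Lib.H58J2

open Cfsg.Spor

theorem comm_closure {G : Type*} [Group G] {t : G} {S : Set G} (ht : t * t = 1) (hc : ∀ s ∈ S, s * t = t * s)
    {a : G} (ha : ∀ s ∈ S, a * s = s * a ∨ a * s = t * (s * a)) :
    ∀ b ∈ Subgroup.closure S, (b * t = t * b) ∧ (a * b = b * a ∨ a * b = t * (b * a)) := by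
  intro b hb
  have hti : t⁻¹ = t := inv_eq_of_mul_eq_one_left ht
  induction hb using Subgroup.closure_induction with
  | mem s hs => exact ⟨hc s hs, ha s hs⟩
  | one => simp
  | mul b c _ _ h1 h2 =>
    obtain ⟨h1, h1'⟩ := h1
    obtain ⟨h2, h2'⟩ := h2
    refine ⟨by rw [mul_assoc, h2, ← mul_assoc, h1, mul_assoc], ?_⟩
    rcases h1' with h | h <;> rcases h2' with h' | h'
    · left; rw [← mul_assoc, h, mul_assoc, h', mul_assoc]
    · right; rw [← mul_assoc, h, mul_assoc, h', ← mul_assoc b t, h1, mul_assoc, mul_assoc]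
    · right; rw [← mul_assoc, h, mul_assoc, mul_assoc, h', ← mul_assoc b c]
    · left
      rw [← mul_assoc, h, mul_assoc, mul_assoc, h', ← mul_assoc b t, h1, mul_assoc, ← mul_assoc t t, ht, one_mul,
        mul_assoc]
  | inv b _ h =>
    obtain ⟨h1, h1'⟩ := h
    have h2 : b⁻¹ * t = t * b⁻¹ := by
      rw [inv_mul_eq_iff_eq_mul, ← mul_assoc, h1, mul_assoc, mul_inv_cancel, mul_one]
    refine ⟨h2, ?_⟩
    rcases h1' with h | h
    · left
      rw [eq_comm, inv_mul_eq_iff_eq_mul, ← mul_assoc, ← h, mul_assoc, mul_inv_cancel, mul_one]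
    · right
      have h3 : b⁻¹ * (a * b) * b⁻¹ = t * (a * b⁻¹) := by
        rw [h, ← mul_assoc, h2, mul_assoc t, ← mul_assoc b⁻¹, inv_mul_cancel, one_mul, mul_assoc]
      have h4 : b⁻¹ * (a * b) * b⁻¹ = b⁻¹ * a := by group
      rw [← h4, h3, ← mul_assoc, ht, one_mul]

theorem comm_closure' {G : Type*} [Group G] {t : G} {S : Set G} (ht : t * t = 1) (hc : ∀ s ∈ S, s * t = t * s)
    (hS : ∀ a ∈ S, ∀ s ∈ S, a * s = s * a ∨ a * s = t * (s * a)) :
    ∀ a ∈ Subgroup.closure S, ∀ b ∈ Subgroup.closure S, a * b = b * a ∨ a * b = t * (b * a) := by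
  intro a ha b hb
  refine (comm_closure ht hc ?_ b hb).2
  intro s hs
  have := (comm_closure ht hc (fun s' hs' => hS s hs s' hs') a ha).2
  rcases this with h | h
  · exact Or.inl h.symm
  · right
    rw [h, ← mul_assoc, ht, one_mul]

def tw (w : List (Fin 5)) : List (Fin 5) := w ++ 0 :: w.reverse
def cw (k : ℕ) : List (Fin 5) := [[1], [2], [1, 3, 1], [1, 4, 1], [3, 4, 2]].getD k []
def cw' (k : ℕ) : List (Fin 5) := [[2, 0, 2, 1], [1, 0, 1, 2], [1, 0, 3, 1], [1, 0, 4, 1], [3, 4, 0, 2, 1]].getD k []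

def aI (k : Fin 5) : Fin 315 := ![1, 2, 19, 22, 30] k
def bI (k : Fin 5) : Fin 315 := ![52, 73, 57, 66, 143] k

theorem chain_a : ∀ k : Fin 5, chain (cw k) = aI k := by decide +kernel
theorem chain_b : ∀ k : Fin 5, chain (cw' k) = bI k := by decide +kernel

/-- representatives of the five pairs -/
noncomputable def xx (k : Fin 5) : AG 5 := Tr (aI k)

theorem xx_word (k : Fin 5) : xx k = We (tw (cw k)) := by
  unfold xx
  rw [← chain_a, Tr_chain]; rfl

theorem bI_chk : (List.finRange 5).all (fun k => wEq (tw (cw' k)) (0 :: tw (cw k))) = true := by decide +kernel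

theorem bI_eq (k : Fin 5) : Tr (bI k) = sg 0 * xx k := by
  rw [← chain_b, Tr_chain, xx_word, ← We_cons]
  have := bI_chk
  rw [List.all_eq_true] at this
  exact wEq_spec (this k (List.mem_finRange k))

/-- generators of the extraspecial group -/
def yw (k : ℕ) : List (Fin 5) := if Nat.beq k 4 then [0] else tw (cw k)
def bb (n k : ℕ) : List (Fin 5) := if Nat.beq (Nat.mod (Nat.shiftRight n k) 2) 1 then yw k else []
def qw (n : ℕ) : List (Fin 5) := bb n 0 ++ (bb n 1 ++ (bb n 2 ++ (bb n 3 ++ bb n 4)))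

def MT : List ℕ := [1, 0, 3, 2, 5, 4, 7, 6, 9, 8, 11, 10, 13, 12, 15, 14, 17, 16, 19, 18, 21, 20, 23, 22, 25, 24, 27, 26, 29, 28, 31, 30, 2, 19, 0, 17, 6, 23, 4, 21, 10, 27, 8, 25, 14, 31, 12, 29, 18, 3, 16, 1, 22, 7, 20, 5, 26, 11, 24, 9, 30, 15, 28, 13, 4, 21, 22, 7, 0, 17, 18, 3, 12, 29, 30, 15, 8, 25, 26, 11, 20, 5, 6, 23, 16, 1, 2, 19, 28, 13, 14, 31, 24, 9, 10, 27, 8, 25, 26, 11, 28, 13, 14, 31, 0, 17, 18, 3, 20, 5, 6, 23, 24, 9, 10, 27, 12, 29, 30, 15, 16, 1, 2, 19, 4, 21, 22, 7, 16, 17, 18, 19, 20, 21, 22, 23, 24, 25, 26, 27, 28, 29, 30, 31, 0, 1, 2, 3, 4, 5, 6, 7, 8, 9, 10, 11, 12, 13, 14, 15]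

set_option maxRecDepth 100000 in
theorem MT_chk : (List.range 5).all (fun k => (List.range 32).all fun n =>
    Nat.blt (MT.getD (32 * k + n) 0) 32 && wEq (yw k ++ qw n) (qw (MT.getD (32 * k + n) 0))) = true := by decide +kernel

set_option maxRecDepth 100000 in
theorem sig_chk : ((List.range 32).map fun n => [wA (qw n) 0, wA (qw n) 1, wA (qw n) 2, wA (qw n) 3]).Nodup := by
  decide +kernel

set_option maxRecDepth 100000 in
theorem nc_chk : (List.range 32).all (fun n => Nat.beq n 0 || (Nat.beq n 16 ||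
    (List.range 4).any fun k => wNeq (yw k ++ qw n) (qw n ++ yw k))) = true := by decide +kernel

set_option maxRecDepth 100000 in
theorem cm_chk : (List.range 5).all (fun k => (List.range 5).all fun l =>
    wEq (yw k ++ yw l) (yw l ++ yw k) || wEq (yw k ++ yw l) (0 :: (yw l ++ yw k))) = true := by decide +kernel

/-- generators -/
noncomputable def yy (k : Fin 5) : AG 5 := We (yw k)

theorem yy_four : yy 4 = sg 0 := by
  show We [0] = sg 0
  rw [We_cons, We_nil, mul_one]

theorem sg_sq (k : Fin 5) : sg k * sg k = 1 := Subtype.ext (gen_sq k)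

theorem We_rev (w : List (Fin 5)) : We w.reverse = (We w)⁻¹ := by
  induction w with
  | nil => rw [List.reverse_nil, We_nil, inv_one]
  | cons k w ih =>
    rw [List.reverse_cons, We_append, ih, We_cons k w, We_cons k [], We_nil, mul_one, mul_inv_rev, sg_inv]

theorem yy_tr (k : Fin 5) (hk : k ≠ 4) : yy k = xx k := by
  rw [xx_word]
  unfold yy yw
  have : Nat.beq (k : ℕ) 4 = false := by
    cases h : Nat.beq (k : ℕ) 4
    · rfl
    · rw [Nat.beq_eq] at h
      exact absurd (Fin.ext h) hk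
  rw [this]; rfl

theorem yy_sq (k : Fin 5) : yy k * yy k = 1 := by
  by_cases hk : k = 4
  · subst hk; rw [yy_four, sg_sq]
  · rw [yy_tr k hk]; exact Tr_sq _

/-- the extraspecial group -/
noncomputable def Q0 : Subgroup (AG 5) := Subgroup.closure (Set.range yy)

theorem yy_mem (k : Fin 5) : yy k ∈ Q0 := Subgroup.subset_closure ⟨k, rfl⟩

theorem bb_mem (n : ℕ) (k : Fin 5) : We (bb n k) ∈ Q0 := by
  unfold bb
  split_ifs
  · exact yy_mem k
  · exact one_mem _

theorem qw_mem (n : ℕ) : We (qw n) ∈ Q0 := by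
  unfold qw
  rw [We_append, We_append, We_append, We_append]
  exact mul_mem (bb_mem n 0) (mul_mem (bb_mem n 1) (mul_mem (bb_mem n 2) (mul_mem (bb_mem n 3) (bb_mem n 4))))

theorem yy_mul (k : Fin 5) (n : ℕ) (hn : n < 32) : ∃ m < 32, yy k * We (qw n) = We (qw m) := by
  have h := MT_chk
  rw [List.all_eq_true] at h
  have h := h k (List.mem_range.mpr k.2)
  rw [List.all_eq_true] at h
  have h := h n (List.mem_range.mpr hn)
  rw [Bool.and_eq_true, Nat.blt_eq] at h
  refine ⟨_, h.1, ?_⟩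
  show We (yw k) * We (qw n) = _
  rw [← We_append]
  exact wEq_spec h.2

theorem mem_Q0 {g : AG 5} (hg : g ∈ Q0) : ∃ n < 32, g = We (qw n) := by
  unfold Q0 at hg
  have h0 : We (qw 0) = 1 := rfl
  have key : ∀ k : Fin 5, ∀ y : AG 5, (∃ n < 32, y = We (qw n)) → ∃ n < 32, yy k * y = We (qw n) := by
    rintro k y ⟨n, hn, rfl⟩
    exact yy_mul k n hn
  induction hg using Subgroup.closure_induction_left with
  | one => exact ⟨0, by norm_num, h0.symm⟩
  | mul_left x hx y hy ih =>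
    obtain ⟨k, rfl⟩ := hx
    exact key k y ih
  | inv_mul_cancel x hx y hy ih =>
    obtain ⟨k, rfl⟩ := hx
    rw [inv_eq_of_mul_eq_one_left (yy_sq k)]
    exact key k y ih

theorem qw_inj {n m : ℕ} (hn : n < 32) (hm : m < 32) (h : We (qw n) = We (qw m)) : n = m := by
  have h1 := sig_chk
  rw [List.nodup_map_iff_inj_on List.nodup_range] at h1
  apply h1 n (List.mem_range.mpr hn) m (List.mem_range.mpr hm)
  have h2 : Wd (qw n) = Wd (qw m) := congrArg Subtype.val h
  have h3 : ∀ x : Fin 100, wA (qw n) x = wA (qw m) x := by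
    intro x
    rw [← Wd_apply, ← Wd_apply, h2]
  have e0 := h3 0
  have e1 := h3 1
  have e2 := h3 2
  have e3 := h3 3
  have c0 : ((0 : Fin 100) : ℕ) = 0 := rfl
  have c1 : ((1 : Fin 100) : ℕ) = 1 := rfl
  have c2 : ((2 : Fin 100) : ℕ) = 2 := rfl
  have c3 : ((3 : Fin 100) : ℕ) = 3 := rfl
  rw [c0] at e0
  rw [c1] at e1
  rw [c2] at e2
  rw [c3] at e3
  rw [e0, e1, e2, e3]

theorem card_Q0 : Nat.card Q0 = 32 := by
  have h : Function.Bijective (fun n : Fin 32 => (⟨We (qw n), qw_mem n⟩ : Q0)) := by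
    constructor
    · intro n m h
      exact Fin.ext (qw_inj n.2 m.2 (congrArg Subtype.val h))
    · rintro ⟨g, hg⟩
      obtain ⟨n, hn, rfl⟩ := mem_Q0 hg
      exact ⟨⟨n, hn⟩, rfl⟩
  rw [← Nat.card_eq_of_bijective _ h, Nat.card_fin]

theorem yy_comm (k l : Fin 5) : yy k * yy l = yy l * yy k ∨ yy k * yy l = sg 0 * (yy l * yy k) := by
  have h := cm_chk
  rw [List.all_eq_true] at h
  have h := h k (List.mem_range.mpr k.2)
  rw [List.all_eq_true] at h
  have h := h l (List.mem_range.mpr l.2)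
  rw [Bool.or_eq_true] at h
  rcases h with h | h
  · left
    show We (yw k) * We (yw l) = We (yw l) * We (yw k)
    rw [← We_append, ← We_append]
    exact wEq_spec h
  · right
    show We (yw k) * We (yw l) = sg 0 * (We (yw l) * We (yw k))
    rw [← We_append, ← We_append, ← We_cons]
    exact wEq_spec h

theorem yy_cen (k : Fin 5) : yy k * sg 0 = sg 0 * yy k := by
  by_cases hk : k = 4
  · subst hk; rw [yy_four]
  · rw [yy_tr k hk, eq_comm]
    unfold xx
    rw [comm_iff]
    revert k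
    decide +kernel

theorem Q0_comm : ∀ a ∈ Q0, ∀ b ∈ Q0, a * b = b * a ∨ a * b = sg 0 * (b * a) := by
  refine comm_closure' (sg_sq 0) ?_ ?_
  · rintro _ ⟨k, rfl⟩; exact yy_cen k
  · rintro _ ⟨k, rfl⟩ _ ⟨l, rfl⟩; exact yy_comm k l

theorem sg0_mem : sg 0 ∈ Q0 := by rw [← yy_four]; exact yy_mem 4

theorem Q0_cen : ∀ q ∈ Q0, q * sg 0 = sg 0 * q := by
  intro q hq
  rcases Q0_comm q hq (sg 0) sg0_mem with h | h
  · exact h
  · exfalso
    have h1 : sg 0 * (q * sg 0) = q * sg 0 := by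
      have : sg 0 * (sg 0 * q) = q := by rw [← mul_assoc, sg_sq, one_mul]
      rw [this] at h
      have h2 : sg 0 = 1 := mul_left_cancel (h.trans (mul_one q).symm)
      rw [h2]; simp
    have h2 : sg 0 = 1 := mul_right_cancel (h1.trans (one_mul _).symm)
    exact Tr_ne_one 0 (Tr_zero.trans h2)

theorem exData : LargeExtra.ExData Q0 (sg 0) := by
  apply LargeExtra.ExData.of (sg_sq 0) _ sg0_mem Q0_cen Q0_comm
  · intro q hq hc
    obtain ⟨n, hn, rfl⟩ := mem_Q0 hq
    have h := nc_chk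
    rw [List.all_eq_true] at h
    have h := h n (List.mem_range.mpr hn)
    rw [Bool.or_eq_true, Bool.or_eq_true, Nat.beq_eq, Nat.beq_eq] at h
    rcases h with h | h | h
    · left; rw [h]; rfl
    · right; rw [h]
      show We [0] = sg 0
      rw [We_cons, We_nil, mul_one]
    · exfalso
      rw [List.any_eq_true] at h
      obtain ⟨k, hk, h⟩ := h
      have hk : k < 4 := List.mem_range.mp hk
      have h1 := wNeq_spec h
      rw [We_append, We_append] at h1
      exact h1 (hc _ (yy_mem ⟨k, by omega⟩)).symm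
  · refine ⟨yy 1, yy_mem 1, We (qw 1), qw_mem 1, ?_⟩
    intro h
    have h1 : wNeq (yw 1 ++ qw 1) (qw 1 ++ yw 1) = true := by decide +kernel
    have h1 := wNeq_spec h1
    rw [We_append, We_append] at h1
    exact h1 h
  · rw [← Tr_zero]; exact Tr_ne_one 0

end Cfsg.Agent.Lib.H58J2
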