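import Cfsg.Agent.Lib.H58J2PTab

/-!
The permutation group of degree 100: stabilizer chain, kernel checks (helper58).
-/

set_option autoImplicit false

namespace Cfsg.Agent.Lib.H58J2

def M700 : ℕ := 5260135901548373507240989882880128665550339802823173859498280903068732154297080822113666536277588451226982968856178217713019432250183803863127814770651880849955223671128444598191663757884322717271293251735781375

/-- apply a coded permutation -/
def ap (c x : ℕ) : ℕ := Nat.land (Nat.shiftRight c (Nat.mul 7 x)) 127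

def e1 (i : ℕ) : ℕ := Nat.land (Nat.shiftRight CB1 (Nat.mul 700 i)) M700
def e2 (i : ℕ) : ℕ := Nat.land (Nat.shiftRight CB2 (Nat.mul 700 i)) M700
def e3 (i : ℕ) : ℕ := Nat.land (Nat.shiftRight CB3 (Nat.mul 700 i)) M700
def e4 (i : ℕ) : ℕ := Nat.land (Nat.shiftRight CB4 (Nat.mul 700 i)) M700

def bC (k : ℕ) : ℕ := BET.getD k 0

def idx (n i : ℕ) : ℕ := Nat.land (Nat.shiftRight n (Nat.mul 7 i)) 127
def ent (n i : ℕ) : ℕ := Nat.land (Nat.shiftRight n (Nat.mul 28 i)) 268435455

/-- parent check for a transversal -/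
def parC (f : ℕ → ℕ) (pb ib ng base i : ℕ) : Bool :=
  frc (Nat.land (Nat.shiftRight pb (Nat.mul 10 i)) 1023) fun p =>
  frc (Nat.mod p 8) fun k => frc (Nat.div p 8) fun j =>
  frc (f i) fun c => frc (f j) fun d => frc (bC k) fun b =>
  Nat.blt k ng && (Nat.blt j i && (Nat.beq (ap c base) (idx ib i) &&
    (List.range 100).all fun x => Nat.beq (ap c x) (ap b (ap d x))))

def parAll (f : ℕ → ℕ) (pb ib ng base n : ℕ) : Bool := (List.range n).all fun i => parC f pb ib ng base (Nat.succ i)

def idC (f : ℕ → ℕ) : Bool := frc (f 0) fun c => (List.range 100).all fun x => Nat.beq (ap c x) x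

/-- closure checks -/
def clo1 (k : ℕ) : Bool := frc (bC k) fun b => (List.range 100).all fun i =>
  frc (ent EB1 (Nat.add (Nat.mul 100 k) i)) fun e => frc (e1 i) fun a =>
  frc (e1 (idx e 0)) fun a1 => frc (e2 (idx e 1)) fun a2 => frc (e3 (idx e 2)) fun a3 => frc (e4 (idx e 3)) fun a4 =>
  Nat.blt (idx e 0) 100 && (Nat.blt (idx e 1) 36 && (Nat.blt (idx e 2) 21 && (Nat.blt (idx e 3) 8 &&
  (List.range 100).all fun x => Nat.beq (ap b (ap a x)) (ap a1 (ap a2 (ap a3 (ap a4 x)))))))

def clo2 (k : ℕ) : Bool := frc (bC k) fun b => (List.range 36).all fun i =>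
  frc (ent EB2 (Nat.add (Nat.mul 36 k) i)) fun e => frc (e2 i) fun a =>
  frc (e2 (idx e 0)) fun a2 => frc (e3 (idx e 1)) fun a3 => frc (e4 (idx e 2)) fun a4 =>
  Nat.blt (idx e 0) 36 && (Nat.blt (idx e 1) 21 && (Nat.blt (idx e 2) 8 &&
  (List.range 100).all fun x => Nat.beq (ap b (ap a x)) (ap a2 (ap a3 (ap a4 x)))))

def clo3 (k : ℕ) : Bool := frc (bC k) fun b => (List.range 21).all fun i =>
  frc (ent EB3 (Nat.add (Nat.mul 21 k) i)) fun e => frc (e3 i) fun a =>
  frc (e3 (idx e 0)) fun a3 => frc (e4 (idx e 1)) fun a4 =>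
  Nat.blt (idx e 0) 21 && (Nat.blt (idx e 1) 8 &&
  (List.range 100).all fun x => Nat.beq (ap b (ap a x)) (ap a3 (ap a4 x)))

def clo4 (k : ℕ) : Bool := frc (bC k) fun b => (List.range 8).all fun i =>
  frc (ent EB4 (Nat.add (Nat.mul 8 k) i)) fun e => frc (e4 i) fun a =>
  frc (e4 (idx e 0)) fun a4 => Nat.blt (idx e 0) 8 &&
  (List.range 100).all fun x => Nat.beq (ap b (ap a x)) (ap a4 x)

set_option maxRecDepth 100000 in
theorem par1 : parAll e1 PB1 IB1 5 0 99 = true := by decide +kernel
set_option maxRecDepth 100000 in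
theorem par2 : parAll e2 PB2 IB2 4 1 35 = true := by decide +kernel
set_option maxRecDepth 100000 in
theorem par3 : parAll e3 PB3 IB3 3 2 20 = true := by decide +kernel
set_option maxRecDepth 100000 in
theorem par4 : parAll e4 PB4 IB4 2 3 7 = true := by decide +kernel
set_option maxRecDepth 100000 in
theorem id_all : (idC e1 && (idC e2 && (idC e3 && idC e4))) = true := by decide +kernel
set_option maxRecDepth 100000 in
theorem clo1_all : (List.range 5).all clo1 = true := by decide +kernel
set_option maxRecDepth 100000 in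
theorem clo2_all : (List.range 4).all clo2 = true := by decide +kernel
set_option maxRecDepth 100000 in
theorem clo3_all : (List.range 3).all clo3 = true := by decide +kernel
set_option maxRecDepth 100000 in
theorem clo4_all : (List.range 2).all clo4 = true := by decide +kernel

end Cfsg.Agent.Lib.H58J2
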