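import Cfsg.Agent.Lib.LyH

/-!
Relations in the subgroup `G₂(5)` of the Lyons group (helper58).
-/

set_option autoImplicit false
set_option linter.all false
set_option maxRecDepth 100000

namespace Cfsg.Agent.Lib.H58Ly

open Cfsg.Spor Cfsg.Agent.Lib.BenesWord

/-- word -/
def w_t5_c1 : Wd := (.pow (.g 10) 5)
/-- word -/
def w_t5_c2 : Wd := (.pow (.g 11) 5)
/-- word -/
def w_t5_c3 : Wd := (.pow (.g 12) 5)
/-- word -/
def w_t5_c4 : Wd := (.pow (.g 13) 5)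
/-- word -/
def w_t5_c5 : Wd := (.pow (.g 14) 5)
/-- word -/
def w_tu_c1 : Wd := (.mul (.mul (.mul (.inv (.pow (.g 6) 2)) (.g 10)) (.pow (.g 6) 2)) (.inv (.pow (.g 10) 3)))
/-- word -/
def w_tu_c2 : Wd := (.mul (.mul (.mul (.inv (.pow (.g 6) 2)) (.g 11)) (.pow (.g 6) 2)) (.inv (.pow (.g 11) 3)))
/-- word -/
def w_tu_c3 : Wd := (.mul (.mul (.mul (.inv (.pow (.g 6) 2)) (.g 12)) (.pow (.g 6) 2)) (.inv (.pow (.g 12) 3)))
/-- word -/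
def w_tu_c4 : Wd := (.mul (.mul (.mul (.inv (.pow (.g 6) 2)) (.g 13)) (.pow (.g 6) 2)) (.inv (.pow (.g 13) 3)))
/-- word -/
def w_tu_c5 : Wd := (.mul (.mul (.mul (.inv (.pow (.g 6) 2)) (.g 14)) (.pow (.g 6) 2)) (.inv (.pow (.g 14) 4)))
/-- word -/
def w_t_a8 : Wd := (.pow (.g 6) 8)
/-- word -/
def w_t_a2 : Wd := (.mul (.mul (.mul (.inv (.mul (.g 7) (.g 6))) (.g 6)) (.mul (.g 7) (.g 6))) (.inv (.g 7)))
/-- word -/
def w_t_a3 : Wd := (.mul (.mul (.mul (.inv (.mul (.mul (.mul (.g 7) (.g 6)) (.g 8)) (.g 7))) (.g 6)) (.mul (.mul (.mul (.g 7) (.g 6)) (.g 8)) (.g 7))) (.inv (.g 8)))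
/-- word -/
def w_h2 : Wd := (.mul (.mul (.mul (.g 9) (.g 28)) (.inv (.g 9))) (.inv (.g 6)))
/-- word -/
def w_h3a : Wd := (.mul (.mul (.mul (.g 9) (.g 15)) (.inv (.g 9))) (.inv (.g 15)))
/-- word -/
def w_h3b : Wd := (.pow (.g 15) 4)
/-- word -/
def w_h3c : Wd := (.mul (.pow (.g 9) 2) (.inv (.g 15)))
/-- word -/
def w_h3d : Wd := (.mul (.pow (.g 6) 2) (.inv (.g 15)))
/-- word -/
def w_h4a : Wd := (.mul (.mul (.g 6) (.g 15)) (.g 28))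
/-- word -/
def w_h4b : Wd := (.pow (.mul (.g 6) (.g 9)) 2)
/-- word -/
def w_h5a : Wd := (.mul (.mul (.inv (.pow (.g 28) 2)) (.g 9)) (.inv (.mul (.mul (.g 6) (.g 9)) (.g 6))))
/-- word -/
def w_h5b : Wd := (.mul (.mul (.g 9) (.inv (.pow (.g 6) 2))) (.inv (.mul (.mul (.g 6) (.g 9)) (.g 6))))
/-- word -/
def w_h5c : Wd := (.mul (.mul (.mul (.pow (.g 28) 2) (.mul (.g 9) (.g 15))) (.pow (.g 6) 2)) (.inv (.mul (.mul (.g 6) (.g 9)) (.g 6))))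
/-- word -/
def w_h6b : Wd := (.mul (.mul (.mul (.mul (.mul (.mul (.g 23) (.g 23)) (.inv (.g 26))) (.inv (.g 25))) (.g 31)) (.inv (.mul (.mul (.g 8) (.inv (.g 7))) (.inv (.g 6))))) (.inv (.mul (.mul (.g 31) (.inv (.g 9))) (.inv (.g 15)))))
/-- word -/
def w_h6c1 : Wd := (.mul (.mul (.mul (.mul (.mul (.g 24) (.g 28)) (.g 29)) (.g 35)) (.inv (.inv (.g 11)))) (.inv (.mul (.mul (.g 9) (.g 15)) (.mul (.mul (.mul (.g 30) (.inv (.g 29))) (.inv (.g 28))) (.g 35)))))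
/-- word -/
def w_h6c2 : Wd := (.mul (.mul (.mul (.inv (.g 24)) (.g 20)) (.inv (.mul (.mul (.mul (.mul (.mul (.g 6) (.g 7)) (.g 8)) (.g 13)) (.inv (.g 6))) (.inv (.g 13))))) (.inv (.mul (.mul (.mul (.g 20) (.inv (.mul (.mul (.mul (.g 10) (.g 10)) (.inv (.g 13))) (.inv (.g 12))))) (.inv (.g 20))) (.inv (.g 15)))))
/-- word -/
def w_h6c3 : Wd := (.mul (.mul (.mul (.mul (.mul (.mul (.mul (.mul (.g 28) (.g 29)) (.g 30)) (.g 26)) (.inv (.g 28))) (.inv (.g 26))) (.g 31)) (.inv (.mul (.mul (.g 11) (.g 6)) (.g 7)))) (.inv (.mul (.inv (.g 35)) (.g 9))))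
/-- word -/
def w_h7a : Wd := (.mul (.mul (.mul (.inv (.g 16)) (.g 30)) (.g 16)) (.g 8))
/-- word -/
def w_h7b : Wd := (.pow (.mul (.g 8) (.g 36)) 7)
/-- word -/
def w_h7c : Wd := (.pow (.mul (.inv (.g 30)) (.inv (.g 19))) 7)
/-- word -/
def w_h7d : Wd := (.pow (.g 36) 3)
/-- word -/
def w_h7e : Wd := (.pow (.g 19) 3)
/-- word -/
def w_h8a : Wd := (.mul (.g 33) (.g 34))
/-- word -/
def w_h8b : Wd := (.mul (.mul (.mul (.inv (.g 33)) (.mul (.mul (.mul (.mul (.g 29) (.g 23)) (.inv (.g 28))) (.g 26)) (.inv (.g 30)))) (.g 33)) (.pow (.g 6) 2))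
/-- word -/
def w_h8c : Wd := (.pow (.mul (.mul (.mul (.mul (.mul (.g 7) (.g 10)) (.inv (.g 6))) (.g 13)) (.inv (.g 8))) (.inv (.g 37))) 3)
/-- word -/
def w_h8d : Wd := (.pow (.mul (.inv (.pow (.g 28) 2)) (.g 32)) 3)
/-- word -/
def w_h8e : Wd := (.pow (.g 37) 8)
/-- word -/
def w_h8f : Wd := (.pow (.g 32) 8)
/-- word -/
def w_h9a : Wd := (.mul (.g 21) (.g 22))
/-- word -/
def w_h9b : Wd := (.mul (.mul (.mul (.inv (.g 21)) (.pow (.g 28) 2)) (.g 21)) (.pow (.g 6) 2))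
/-- word -/
def w_h9c : Wd := (.pow (.mul (.pow (.g 6) 2) (.inv (.g 38))) 3)
/-- word -/
def w_h9d : Wd := (.pow (.mul (.inv (.pow (.g 28) 2)) (.g 18)) 3)
/-- word -/
def w_h9e : Wd := (.pow (.g 38) 4)
/-- word -/
def w_h9f : Wd := (.pow (.g 18) 4)
/-- word -/
def w_h7f : Wd := (.mul (.g 16) (.g 17))

/-- the words -/
def idl : List Wd := [w_t5_c1, w_t5_c2, w_t5_c3, w_t5_c4, w_t5_c5, w_tu_c1, w_tu_c2, w_tu_c3, w_tu_c4, w_tu_c5, w_t_a8, w_t_a2, w_t_a3, w_h2, w_h3a, w_h3b, w_h3c, w_h3d, w_h4a, w_h4b, w_h5a, w_h5b, w_h5c, w_h6b, w_h6c1, w_h6c2, w_h6c3, w_h7a, w_h7b, w_h7c, w_h7d, w_h7e, w_h8a, w_h8b, w_h8c, w_h8d, w_h8e, w_h8f, w_h9a, w_h9b, w_h9c, w_h9d, w_h9e, w_h9f, w_h7f]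

theorem chk_idl : LyRep.chkR idl = true := by decide +kernel

theorem lets_idl : ∀ W ∈ idl, Cfsg.Agent.Lib.CoxBridge.lets 39 W = true := by decide +kernel

end Cfsg.Agent.Lib.H58Ly
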