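import Cfsg.Agent.Lib.H58SMC1d_0
import Cfsg.Agent.Lib.H58SMC1d_1
import Cfsg.Agent.Lib.H58SMC1d_2
import Cfsg.Agent.Lib.H58SMC1d_3
import Cfsg.Agent.Lib.H58SMC1d_4

/-!
Multiplier of the Conway group Co1, prime 7 (helper58)
-/

set_option autoImplicit false

namespace Cfsg.Agent.Lib.H58SM.C1d

open Cfsg.Agent.Lib.H58SM

theorem chkQ : ∀ x < Q.toDat.N, Q.chk x = true := by
  intro x hx
  have hx : x < 196616 := hx

  by_cases h0 : x < 4000
  · have h := alln_iff.1 chk_0 (x - 0) (by omega)
    rwa [show Nat.add 0 (x - 0) = x from by show 0 + (x - 0) = x; omega] at h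
  by_cases h1 : x < 8000
  · have h := alln_iff.1 chk_1 (x - 4000) (by omega)
    rwa [show Nat.add 4000 (x - 4000) = x from by show 4000 + (x - 4000) = x; omega] at h
  by_cases h2 : x < 12000
  · have h := alln_iff.1 chk_2 (x - 8000) (by omega)
    rwa [show Nat.add 8000 (x - 8000) = x from by show 8000 + (x - 8000) = x; omega] at h
  by_cases h3 : x < 16000
  · have h := alln_iff.1 chk_3 (x - 12000) (by omega)
    rwa [show Nat.add 12000 (x - 12000) = x from by show 12000 + (x - 12000) = x; omega] at h
  by_cases h4 : x < 20000
  · have h := alln_iff.1 chk_4 (x - 16000) (by omega)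
    rwa [show Nat.add 16000 (x - 16000) = x from by show 16000 + (x - 16000) = x; omega] at h
  by_cases h5 : x < 24000
  · have h := alln_iff.1 chk_5 (x - 20000) (by omega)
    rwa [show Nat.add 20000 (x - 20000) = x from by show 20000 + (x - 20000) = x; omega] at h
  by_cases h6 : x < 28000
  · have h := alln_iff.1 chk_6 (x - 24000) (by omega)
    rwa [show Nat.add 24000 (x - 24000) = x from by show 24000 + (x - 24000) = x; omega] at h
  by_cases h7 : x < 32000
  · have h := alln_iff.1 chk_7 (x - 28000) (by omega)
    rwa [show Nat.add 28000 (x - 28000) = x from by show 28000 + (x - 28000) = x; omega] at h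
  by_cases h8 : x < 36000
  · have h := alln_iff.1 chk_8 (x - 32000) (by omega)
    rwa [show Nat.add 32000 (x - 32000) = x from by show 32000 + (x - 32000) = x; omega] at h
  by_cases h9 : x < 40000
  · have h := alln_iff.1 chk_9 (x - 36000) (by omega)
    rwa [show Nat.add 36000 (x - 36000) = x from by show 36000 + (x - 36000) = x; omega] at h
  by_cases h10 : x < 44000
  · have h := alln_iff.1 chk_10 (x - 40000) (by omega)
    rwa [show Nat.add 40000 (x - 40000) = x from by show 40000 + (x - 40000) = x; omega] at h
  by_cases h11 : x < 48000
  · have h := alln_iff.1 chk_11 (x - 44000) (by omega)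
    rwa [show Nat.add 44000 (x - 44000) = x from by show 44000 + (x - 44000) = x; omega] at h
  by_cases h12 : x < 52000
  · have h := alln_iff.1 chk_12 (x - 48000) (by omega)
    rwa [show Nat.add 48000 (x - 48000) = x from by show 48000 + (x - 48000) = x; omega] at h
  by_cases h13 : x < 56000
  · have h := alln_iff.1 chk_13 (x - 52000) (by omega)
    rwa [show Nat.add 52000 (x - 52000) = x from by show 52000 + (x - 52000) = x; omega] at h
  by_cases h14 : x < 60000
  · have h := alln_iff.1 chk_14 (x - 56000) (by omega)
    rwa [show Nat.add 56000 (x - 56000) = x from by show 56000 + (x - 56000) = x; omega] at h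
  by_cases h15 : x < 64000
  · have h := alln_iff.1 chk_15 (x - 60000) (by omega)
    rwa [show Nat.add 60000 (x - 60000) = x from by show 60000 + (x - 60000) = x; omega] at h
  by_cases h16 : x < 68000
  · have h := alln_iff.1 chk_16 (x - 64000) (by omega)
    rwa [show Nat.add 64000 (x - 64000) = x from by show 64000 + (x - 64000) = x; omega] at h
  by_cases h17 : x < 72000
  · have h := alln_iff.1 chk_17 (x - 68000) (by omega)
    rwa [show Nat.add 68000 (x - 68000) = x from by show 68000 + (x - 68000) = x; omega] at h
  by_cases h18 : x < 76000
  · have h := alln_iff.1 chk_18 (x - 72000) (by omega)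
    rwa [show Nat.add 72000 (x - 72000) = x from by show 72000 + (x - 72000) = x; omega] at h
  by_cases h19 : x < 80000
  · have h := alln_iff.1 chk_19 (x - 76000) (by omega)
    rwa [show Nat.add 76000 (x - 76000) = x from by show 76000 + (x - 76000) = x; omega] at h
  by_cases h20 : x < 84000
  · have h := alln_iff.1 chk_20 (x - 80000) (by omega)
    rwa [show Nat.add 80000 (x - 80000) = x from by show 80000 + (x - 80000) = x; omega] at h
  by_cases h21 : x < 88000
  · have h := alln_iff.1 chk_21 (x - 84000) (by omega)
    rwa [show Nat.add 84000 (x - 84000) = x from by show 84000 + (x - 84000) = x; omega] at h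
  by_cases h22 : x < 92000
  · have h := alln_iff.1 chk_22 (x - 88000) (by omega)
    rwa [show Nat.add 88000 (x - 88000) = x from by show 88000 + (x - 88000) = x; omega] at h
  by_cases h23 : x < 96000
  · have h := alln_iff.1 chk_23 (x - 92000) (by omega)
    rwa [show Nat.add 92000 (x - 92000) = x from by show 92000 + (x - 92000) = x; omega] at h
  by_cases h24 : x < 100000
  · have h := alln_iff.1 chk_24 (x - 96000) (by omega)
    rwa [show Nat.add 96000 (x - 96000) = x from by show 96000 + (x - 96000) = x; omega] at h
  by_cases h25 : x < 104000
  · have h := alln_iff.1 chk_25 (x - 100000) (by omega)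
    rwa [show Nat.add 100000 (x - 100000) = x from by show 100000 + (x - 100000) = x; omega] at h
  by_cases h26 : x < 108000
  · have h := alln_iff.1 chk_26 (x - 104000) (by omega)
    rwa [show Nat.add 104000 (x - 104000) = x from by show 104000 + (x - 104000) = x; omega] at h
  by_cases h27 : x < 112000
  · have h := alln_iff.1 chk_27 (x - 108000) (by omega)
    rwa [show Nat.add 108000 (x - 108000) = x from by show 108000 + (x - 108000) = x; omega] at h
  by_cases h28 : x < 116000
  · have h := alln_iff.1 chk_28 (x - 112000) (by omega)
    rwa [show Nat.add 112000 (x - 112000) = x from by show 112000 + (x - 112000) = x; omega] at h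
  by_cases h29 : x < 120000
  · have h := alln_iff.1 chk_29 (x - 116000) (by omega)
    rwa [show Nat.add 116000 (x - 116000) = x from by show 116000 + (x - 116000) = x; omega] at h
  by_cases h30 : x < 124000
  · have h := alln_iff.1 chk_30 (x - 120000) (by omega)
    rwa [show Nat.add 120000 (x - 120000) = x from by show 120000 + (x - 120000) = x; omega] at h
  by_cases h31 : x < 128000
  · have h := alln_iff.1 chk_31 (x - 124000) (by omega)
    rwa [show Nat.add 124000 (x - 124000) = x from by show 124000 + (x - 124000) = x; omega] at h
  by_cases h32 : x < 132000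
  · have h := alln_iff.1 chk_32 (x - 128000) (by omega)
    rwa [show Nat.add 128000 (x - 128000) = x from by show 128000 + (x - 128000) = x; omega] at h
  by_cases h33 : x < 136000
  · have h := alln_iff.1 chk_33 (x - 132000) (by omega)
    rwa [show Nat.add 132000 (x - 132000) = x from by show 132000 + (x - 132000) = x; omega] at h
  by_cases h34 : x < 140000
  · have h := alln_iff.1 chk_34 (x - 136000) (by omega)
    rwa [show Nat.add 136000 (x - 136000) = x from by show 136000 + (x - 136000) = x; omega] at h
  by_cases h35 : x < 144000
  · have h := alln_iff.1 chk_35 (x - 140000) (by omega)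
    rwa [show Nat.add 140000 (x - 140000) = x from by show 140000 + (x - 140000) = x; omega] at h
  by_cases h36 : x < 148000
  · have h := alln_iff.1 chk_36 (x - 144000) (by omega)
    rwa [show Nat.add 144000 (x - 144000) = x from by show 144000 + (x - 144000) = x; omega] at h
  by_cases h37 : x < 152000
  · have h := alln_iff.1 chk_37 (x - 148000) (by omega)
    rwa [show Nat.add 148000 (x - 148000) = x from by show 148000 + (x - 148000) = x; omega] at h
  by_cases h38 : x < 156000
  · have h := alln_iff.1 chk_38 (x - 152000) (by omega)
    rwa [show Nat.add 152000 (x - 152000) = x from by show 152000 + (x - 152000) = x; omega] at h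
  by_cases h39 : x < 160000
  · have h := alln_iff.1 chk_39 (x - 156000) (by omega)
    rwa [show Nat.add 156000 (x - 156000) = x from by show 156000 + (x - 156000) = x; omega] at h
  by_cases h40 : x < 164000
  · have h := alln_iff.1 chk_40 (x - 160000) (by omega)
    rwa [show Nat.add 160000 (x - 160000) = x from by show 160000 + (x - 160000) = x; omega] at h
  by_cases h41 : x < 168000
  · have h := alln_iff.1 chk_41 (x - 164000) (by omega)
    rwa [show Nat.add 164000 (x - 164000) = x from by show 164000 + (x - 164000) = x; omega] at h
  by_cases h42 : x < 172000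
  · have h := alln_iff.1 chk_42 (x - 168000) (by omega)
    rwa [show Nat.add 168000 (x - 168000) = x from by show 168000 + (x - 168000) = x; omega] at h
  by_cases h43 : x < 176000
  · have h := alln_iff.1 chk_43 (x - 172000) (by omega)
    rwa [show Nat.add 172000 (x - 172000) = x from by show 172000 + (x - 172000) = x; omega] at h
  by_cases h44 : x < 180000
  · have h := alln_iff.1 chk_44 (x - 176000) (by omega)
    rwa [show Nat.add 176000 (x - 176000) = x from by show 176000 + (x - 176000) = x; omega] at h
  by_cases h45 : x < 184000
  · have h := alln_iff.1 chk_45 (x - 180000) (by omega)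
    rwa [show Nat.add 180000 (x - 180000) = x from by show 180000 + (x - 180000) = x; omega] at h
  by_cases h46 : x < 188000
  · have h := alln_iff.1 chk_46 (x - 184000) (by omega)
    rwa [show Nat.add 184000 (x - 184000) = x from by show 184000 + (x - 184000) = x; omega] at h
  by_cases h47 : x < 192000
  · have h := alln_iff.1 chk_47 (x - 188000) (by omega)
    rwa [show Nat.add 188000 (x - 188000) = x from by show 188000 + (x - 188000) = x; omega] at h
  by_cases h48 : x < 196000
  · have h := alln_iff.1 chk_48 (x - 192000) (by omega)
    rwa [show Nat.add 192000 (x - 192000) = x from by show 192000 + (x - 192000) = x; omega] at h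
  have h := alln_iff.1 chk_49 (x - 196000) (by omega)
  rwa [show Nat.add 196000 (x - 196000) = x from by show 196000 + (x - 196000) = x; omega] at h



end Cfsg.Agent.Lib.H58SM.C1d
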