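import Cfsg.Agent.Lib.H58SMC1e_0
import Cfsg.Agent.Lib.H58SMC1e_1
import Cfsg.Agent.Lib.H58SMC1e_2
import Cfsg.Agent.Lib.H58SMC1e_3
import Cfsg.Agent.Lib.H58SMC1e_4
import Cfsg.Agent.Lib.H58SMC1e_5
import Cfsg.Agent.Lib.H58SMC1e_6
import Cfsg.Agent.Lib.H58SMC1e_7

/-!
Action of the Conway group Co1 on 98280 pairs of vectors (helper58)
-/

set_option autoImplicit false

namespace Cfsg.Agent.Lib.H58SM.C1e

open Cfsg.Agent.Lib.H58SM

open Cfsg Cfsg.Agent.Lib.Golay Cfsg.Agent.Lib.LeechMin Cfsg.Agent.Lib.H89LeechMat Cfsg.Agent.Lib.H58SM.LV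
open Cfsg.Agent.Lib.LeechChain Cfsg.Agent.Lib.LeechCount Cfsg.Agent.Lib.LeechCo2

theorem mv0 (a : ℕ) (ha : a < 98280) : mvOKP C1g.P0 C1g.K0 (cd a) (cd (C1t.T 0 a)) = true := by
  by_cases h0 : a < 2500
  · exact mvTabP_iff mv0_0 a (by omega) (by omega)
  by_cases h1 : a < 5000
  · exact mvTabP_iff mv0_1 a (by omega) (by omega)
  by_cases h2 : a < 7500
  · exact mvTabP_iff mv0_2 a (by omega) (by omega)
  by_cases h3 : a < 10000
  · exact mvTabP_iff mv0_3 a (by omega) (by omega)
  by_cases h4 : a < 12500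
  · exact mvTabP_iff mv0_4 a (by omega) (by omega)
  by_cases h5 : a < 15000
  · exact mvTabP_iff mv0_5 a (by omega) (by omega)
  by_cases h6 : a < 17500
  · exact mvTabP_iff mv0_6 a (by omega) (by omega)
  by_cases h7 : a < 20000
  · exact mvTabP_iff mv0_7 a (by omega) (by omega)
  by_cases h8 : a < 22500
  · exact mvTabP_iff mv0_8 a (by omega) (by omega)
  by_cases h9 : a < 25000
  · exact mvTabP_iff mv0_9 a (by omega) (by omega)
  by_cases h10 : a < 27500
  · exact mvTabP_iff mv0_10 a (by omega) (by omega)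
  by_cases h11 : a < 30000
  · exact mvTabP_iff mv0_11 a (by omega) (by omega)
  by_cases h12 : a < 32500
  · exact mvTabP_iff mv0_12 a (by omega) (by omega)
  by_cases h13 : a < 35000
  · exact mvTabP_iff mv0_13 a (by omega) (by omega)
  by_cases h14 : a < 37500
  · exact mvTabP_iff mv0_14 a (by omega) (by omega)
  by_cases h15 : a < 40000
  · exact mvTabP_iff mv0_15 a (by omega) (by omega)
  by_cases h16 : a < 42500
  · exact mvTabP_iff mv0_16 a (by omega) (by omega)
  by_cases h17 : a < 45000
  · exact mvTabP_iff mv0_17 a (by omega) (by omega)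
  by_cases h18 : a < 47500
  · exact mvTabP_iff mv0_18 a (by omega) (by omega)
  by_cases h19 : a < 50000
  · exact mvTabP_iff mv0_19 a (by omega) (by omega)
  by_cases h20 : a < 52500
  · exact mvTabP_iff mv0_20 a (by omega) (by omega)
  by_cases h21 : a < 55000
  · exact mvTabP_iff mv0_21 a (by omega) (by omega)
  by_cases h22 : a < 57500
  · exact mvTabP_iff mv0_22 a (by omega) (by omega)
  by_cases h23 : a < 60000
  · exact mvTabP_iff mv0_23 a (by omega) (by omega)
  by_cases h24 : a < 62500
  · exact mvTabP_iff mv0_24 a (by omega) (by omega)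
  by_cases h25 : a < 65000
  · exact mvTabP_iff mv0_25 a (by omega) (by omega)
  by_cases h26 : a < 67500
  · exact mvTabP_iff mv0_26 a (by omega) (by omega)
  by_cases h27 : a < 70000
  · exact mvTabP_iff mv0_27 a (by omega) (by omega)
  by_cases h28 : a < 72500
  · exact mvTabP_iff mv0_28 a (by omega) (by omega)
  by_cases h29 : a < 75000
  · exact mvTabP_iff mv0_29 a (by omega) (by omega)
  by_cases h30 : a < 77500
  · exact mvTabP_iff mv0_30 a (by omega) (by omega)
  by_cases h31 : a < 80000
  · exact mvTabP_iff mv0_31 a (by omega) (by omega)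
  by_cases h32 : a < 82500
  · exact mvTabP_iff mv0_32 a (by omega) (by omega)
  by_cases h33 : a < 85000
  · exact mvTabP_iff mv0_33 a (by omega) (by omega)
  by_cases h34 : a < 87500
  · exact mvTabP_iff mv0_34 a (by omega) (by omega)
  by_cases h35 : a < 90000
  · exact mvTabP_iff mv0_35 a (by omega) (by omega)
  by_cases h36 : a < 92500
  · exact mvTabP_iff mv0_36 a (by omega) (by omega)
  by_cases h37 : a < 95000
  · exact mvTabP_iff mv0_37 a (by omega) (by omega)
  by_cases h38 : a < 97500
  · exact mvTabP_iff mv0_38 a (by omega) (by omega)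
  exact mvTabP_iff mv0_39 a (by omega) (by omega)

theorem mv1 (a : ℕ) (ha : a < 98280) : mvOKP C1g.P1 C1g.K1 (cd a) (cd (C1t.T 2 a)) = true := by
  by_cases h0 : a < 2500
  · exact mvTabP_iff mv1_0 a (by omega) (by omega)
  by_cases h1 : a < 5000
  · exact mvTabP_iff mv1_1 a (by omega) (by omega)
  by_cases h2 : a < 7500
  · exact mvTabP_iff mv1_2 a (by omega) (by omega)
  by_cases h3 : a < 10000
  · exact mvTabP_iff mv1_3 a (by omega) (by omega)
  by_cases h4 : a < 12500
  · exact mvTabP_iff mv1_4 a (by omega) (by omega)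
  by_cases h5 : a < 15000
  · exact mvTabP_iff mv1_5 a (by omega) (by omega)
  by_cases h6 : a < 17500
  · exact mvTabP_iff mv1_6 a (by omega) (by omega)
  by_cases h7 : a < 20000
  · exact mvTabP_iff mv1_7 a (by omega) (by omega)
  by_cases h8 : a < 22500
  · exact mvTabP_iff mv1_8 a (by omega) (by omega)
  by_cases h9 : a < 25000
  · exact mvTabP_iff mv1_9 a (by omega) (by omega)
  by_cases h10 : a < 27500
  · exact mvTabP_iff mv1_10 a (by omega) (by omega)
  by_cases h11 : a < 30000
  · exact mvTabP_iff mv1_11 a (by omega) (by omega)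
  by_cases h12 : a < 32500
  · exact mvTabP_iff mv1_12 a (by omega) (by omega)
  by_cases h13 : a < 35000
  · exact mvTabP_iff mv1_13 a (by omega) (by omega)
  by_cases h14 : a < 37500
  · exact mvTabP_iff mv1_14 a (by omega) (by omega)
  by_cases h15 : a < 40000
  · exact mvTabP_iff mv1_15 a (by omega) (by omega)
  by_cases h16 : a < 42500
  · exact mvTabP_iff mv1_16 a (by omega) (by omega)
  by_cases h17 : a < 45000
  · exact mvTabP_iff mv1_17 a (by omega) (by omega)
  by_cases h18 : a < 47500
  · exact mvTabP_iff mv1_18 a (by omega) (by omega)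
  by_cases h19 : a < 50000
  · exact mvTabP_iff mv1_19 a (by omega) (by omega)
  by_cases h20 : a < 52500
  · exact mvTabP_iff mv1_20 a (by omega) (by omega)
  by_cases h21 : a < 55000
  · exact mvTabP_iff mv1_21 a (by omega) (by omega)
  by_cases h22 : a < 57500
  · exact mvTabP_iff mv1_22 a (by omega) (by omega)
  by_cases h23 : a < 60000
  · exact mvTabP_iff mv1_23 a (by omega) (by omega)
  by_cases h24 : a < 62500
  · exact mvTabP_iff mv1_24 a (by omega) (by omega)
  by_cases h25 : a < 65000
  · exact mvTabP_iff mv1_25 a (by omega) (by omega)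
  by_cases h26 : a < 67500
  · exact mvTabP_iff mv1_26 a (by omega) (by omega)
  by_cases h27 : a < 70000
  · exact mvTabP_iff mv1_27 a (by omega) (by omega)
  by_cases h28 : a < 72500
  · exact mvTabP_iff mv1_28 a (by omega) (by omega)
  by_cases h29 : a < 75000
  · exact mvTabP_iff mv1_29 a (by omega) (by omega)
  by_cases h30 : a < 77500
  · exact mvTabP_iff mv1_30 a (by omega) (by omega)
  by_cases h31 : a < 80000
  · exact mvTabP_iff mv1_31 a (by omega) (by omega)
  by_cases h32 : a < 82500
  · exact mvTabP_iff mv1_32 a (by omega) (by omega)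
  by_cases h33 : a < 85000
  · exact mvTabP_iff mv1_33 a (by omega) (by omega)
  by_cases h34 : a < 87500
  · exact mvTabP_iff mv1_34 a (by omega) (by omega)
  by_cases h35 : a < 90000
  · exact mvTabP_iff mv1_35 a (by omega) (by omega)
  by_cases h36 : a < 92500
  · exact mvTabP_iff mv1_36 a (by omega) (by omega)
  by_cases h37 : a < 95000
  · exact mvTabP_iff mv1_37 a (by omega) (by omega)
  by_cases h38 : a < 97500
  · exact mvTabP_iff mv1_38 a (by omega) (by omega)
  exact mvTabP_iff mv1_39 a (by omega) (by omega)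

/-- the tables as data -/
def D0 : Dat where
  n := 98280
  k := 2
  J := 0
  p := 2
  m := 2
  d := 0
  T := C1t.T
  pi := C1t.PIB
  pq := C1t.PQB
  W _ := []
  rk _ := 0
  lp _ := 0
  E _ _ := 0
  par _ := 0
  Zl := []

theorem hmv : ∀ i < 2, ∀ a < 98280, mvOKP (C1g.GD.P i) (C1g.GD.K i) (cd a) (cd (D0.T (2 * i) a)) = true := by
  intro i hi a ha
  interval_cases i
  · exact mv0 a ha
  · exact mv1 a ha

/-- the action -/
theorem act_all : Act 98280 2 C1g.gg (fun a => pm (pnt cd a)) C1t.T C1t.PIB C1t.PQB ∧ ∀ a < 98280, (pnt cd a : GolayPt → ℤ) = vv (cd a) :=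
  mkActQ C1g.GD C1g.hcomp D0 rfl (by show 0 < 98280; norm_num) C1t.tab1_ok C1t.tab2_ok C1t.tab3_ok lat_ok nrm_ok cd_ok hmv

end Cfsg.Agent.Lib.H58SM.C1e
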