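import Cfsg.Agent.Lib.H58SMC1e_f
import Cfsg.Agent.Lib.H58SMC1a
import Cfsg.Agent.Lib.H58SMC1b
import Cfsg.Agent.Lib.H58SMC1c
import Cfsg.Agent.Lib.H58SMC1d

/-!
Relators of the Conway group Co1 (helper58)
-/

set_option autoImplicit false

namespace Cfsg.Agent.Lib.H58SM.C1r

open Cfsg.Agent.Lib.H58SM

open Cfsg Cfsg.Agent.Lib.Golay Cfsg.Agent.Lib.LeechMin Cfsg.Agent.Lib.H89LeechMat Cfsg.Agent.Lib.H58SM.LV

def S : List ℕ := [0, 1, 2, 5, 10, 17, 20, 23, 24, 26, 28, 29, 31, 36, 38, 40, 41, 43, 47, 48, 49, 50, 52, 53]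

def C : List (List ℤ) := [[45, -14, -33, -141, 107, -2, -51, -211, -70, -23, -29, 105, 134, -143, -14, -24, -117, 111, 87, 40, -4, 64, 2, 70],
  [-31, 14, 33, 127, -93, 2, 51, 183, 56, 23, 29, -91, -120, 129, 14, 24, 117, -97, -73, -26, 4, -50, -2, -70],
  [-23, 14, 15, 45, -13, -8, 13, 59, 28, -1, 3, -21, -38, 37, 0, 2, 29, -25, -23, -8, 12, -10, -6, -14],
  [25, -14, -23, -125, 103, 2, -33, -195, -70, -19, -27, 91, 132, -137, -14, -18, -107, 113, 81, 44, -10, 62, 12, 70],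
  [-3, 0, 19, 71, -65, 2, 23, 113, 28, 9, 29, -63, -64, 73, 14, 24, 61, -55, -45, -26, 4, -36, -2, -42],
  [-21, 14, 21, 77, -63, 0, 35, 119, 42, 7, 7, -49, -84, 77, 0, 0, 77, -63, -49, -14, 0, -42, 14, -42],
  [9, 0, -15, -59, 41, -6, -13, -73, -28, -13, -17, 49, 38, -51, -14, -16, -43, 39, 23, 22, -12, 24, 6, 28],
  [-5, 0, 13, 39, -29, -6, 15, 67, 28, 1, 11, -35, -46, 47, 0, 12, 41, -31, -33, -6, 2, -18, 6, -28],
  [37, -14, -43, -199, 153, -6, -69, -297, -84, -27, -45, 147, 192, -205, -28, -44, -169, 165, 121, 50, -12, 94, 6, 112],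
  [11, -14, 5, 29, -37, 16, 23, 43, 0, -5, 15, -21, -36, 31, 14, 10, 33, -27, -17, -12, -10, -22, 12, -28],
  [9, 0, -15, -87, 69, -6, -27, -129, -42, -13, -31, 77, 80, -93, -14, -30, -71, 67, 51, 22, -12, 38, 6, 42],
  [-9, 0, 15, 73, -41, 6, 13, 87, 28, -1, 17, -49, -52, 65, 14, 16, 43, -39, -37, -36, 12, -38, -6, -28],
  [7, 0, 7, 35, -35, 0, 21, 49, 14, 7, 7, -35, -42, 35, 14, 14, 35, -35, -21, 0, 0, -14, 0, -28],
  [25, -14, -9, -41, 19, 2, -5, -69, -28, -19, -13, 35, 34, -39, 0, -4, -23, 29, 25, 16, -10, 20, 12, 14],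
  [7, 0, 7, 35, -35, 14, 7, 49, 14, 7, 7, -35, -42, 35, 14, 0, 35, -35, -21, -14, 0, -14, 0, -28],
  [13, -14, -3, -23, 25, -4, -11, -37, -14, 3, 5, 7, 30, -41, 0, 8, -31, 33, 27, 10, 6, 16, -10, 14],
  [1, 0, 3, -5, 3, 4, -3, -5, 0, -3, -5, 7, -2, -1, 0, -8, 3, -5, 1, 4, -6, -2, -4, 0],
  [1, 0, 3, -47, 45, -10, -17, -75, -14, -17, -19, 49, 40, -57, -14, -8, -39, 51, 29, 18, -6, 26, 10, 28],
  [13, -14, -3, -9, -3, 10, 3, -9, -14, 3, 5, -7, 16, -13, 14, 8, -3, 19, 13, -4, -8, 2, 4, 0],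
  [-7, 0, 7, 49, -21, 0, 7, 63, 14, 7, 21, -49, -28, 49, 14, 28, 35, -35, -21, -14, 14, -14, -14, -14],
  [7, 0, -7, -63, 49, 0, -21, -91, -28, -7, -21, 49, 56, -63, -14, -14, -49, 49, 35, 14, 0, 28, 0, 28],
  [3, 0, -5, -29, 23, -2, -9, -43, -14, -9, -15, 35, 22, -31, -14, -10, -19, 13, 3, 12, -4, 8, 2, 14],
  [17, -14, -5, -57, 37, -2, -23, -85, -28, -9, -15, 49, 50, -59, 0, -10, -47, 41, 31, 12, -4, 22, 2, 28],
  [-31, 14, 33, 141, -107, 2, 51, 211, 70, 23, 29, -105, -134, 143, 14, 24, 117, -111, -87, -40, 4, -64, -2, -70]]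

set_option maxRecDepth 1000000

theorem span_ok : spanOK (S.map C1e.cd) C 56 = true := by decide +kernel

theorem S_lt : ∀ a ∈ S, a < 98280 := by decide +kernel

theorem S_dot : ∀ a ∈ S, idot (C1e.cd a) (C1e.cd 0) ≠ 0 := by decide +kernel

theorem faithS (y : Spor.Co1) (hy : ∀ a ∈ S, y • pm (pnt C1e.cd a) = pm (pnt C1e.cd a)) : y = 1 :=
  faithQ (by norm_num) C1e.act_all.2 S_lt rfl (by norm_num) span_ok (by decide) S_dot y hy

theorem rel_C1a_ok : alln (fun j => S.all fun a => Nat.beq (ptq C1t.T (C1a.Q.W j) a) a) C1a.Q.J = true := by decide +kernel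

theorem rel_C1a : ∀ j < C1a.Q.J, ev C1g.gg (C1a.Q.W j) = 1 :=
  rel_of_pts C1e.act_all.1 S S_lt faithS (Dat.wOk_iff C1a.w_ok) rel_C1a_ok

theorem rel_C1b_ok : alln (fun j => S.all fun a => Nat.beq (ptq C1t.T (C1b.Q.W j) a) a) C1b.Q.J = true := by decide +kernel

theorem rel_C1b : ∀ j < C1b.Q.J, ev C1g.gg (C1b.Q.W j) = 1 :=
  rel_of_pts C1e.act_all.1 S S_lt faithS (Dat.wOk_iff C1b.w_ok) rel_C1b_ok

theorem rel_C1c_ok : alln (fun j => S.all fun a => Nat.beq (ptq C1t.T (C1c.Q.W j) a) a) C1c.Q.J = true := by decide +kernel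

theorem rel_C1c : ∀ j < C1c.Q.J, ev C1g.gg (C1c.Q.W j) = 1 :=
  rel_of_pts C1e.act_all.1 S S_lt faithS (Dat.wOk_iff C1c.w_ok) rel_C1c_ok

theorem rel_C1d_ok : alln (fun j => S.all fun a => Nat.beq (ptq C1t.T (C1d.Q.W j) a) a) C1d.Q.J = true := by decide +kernel

theorem rel_C1d : ∀ j < C1d.Q.J, ev C1g.gg (C1d.Q.W j) = 1 :=
  rel_of_pts C1e.act_all.1 S S_lt faithS (Dat.wOk_iff C1d.w_ok) rel_C1d_ok

end Cfsg.Agent.Lib.H58SM.C1r
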