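import Cfsg.Agent.Lib.H58SMC2a_0
import Cfsg.Agent.Lib.H58SMC2a_1
import Cfsg.Agent.Lib.H58SMC2a_2
import Cfsg.Agent.Lib.H58SMC2a_3

/-!
Multiplier of the Conway group Co2, prime 2 (helper58)
-/

set_option autoImplicit false

namespace Cfsg.Agent.Lib.H58SM.C2a

open Cfsg.Agent.Lib.H58SM

theorem chkQ : ∀ x < Q.toDat.N, Q.chk x = true := by
  intro x hx
  have hx : x < 94291 := hx

  by_cases h0 : x < 4000
  · have h := alln_iff.1 chk_0 (x - 0) (by omega)
    rwa [show Nat.add 0 (x - 0) = x from by show 0 + (x - 0) = x; omega] at h
  by_cases h1 : x < 8000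
  · have h := alln_iff.1 chk_1 (x - 4000) (by omega)
    rwa [show Nat.add 4000 (x - 4000) = x from by show 4000 + (x - 4000) = x; omega] at h
  by_cases h2 : x < 12000
  · have h := alln_iff.1 chk_2 (x - 8000) (by omega)
    rwa [show Nat.add 8000 (x - 8000) = x from by show 8000 + (x - 8000) = x; omega] at h
  by_cases h3 : x < 16000
  · have h := alln_iff.1 chk_3 (x - 12000) (by omega)
    rwa [show Nat.add 12000 (x - 12000) = x from by show 12000 + (x - 12000) = x; omega] at h
  by_cases h4 : x < 20000
  · have h := alln_iff.1 chk_4 (x - 16000) (by omega)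
    rwa [show Nat.add 16000 (x - 16000) = x from by show 16000 + (x - 16000) = x; omega] at h
  by_cases h5 : x < 24000
  · have h := alln_iff.1 chk_5 (x - 20000) (by omega)
    rwa [show Nat.add 20000 (x - 20000) = x from by show 20000 + (x - 20000) = x; omega] at h
  by_cases h6 : x < 28000
  · have h := alln_iff.1 chk_6 (x - 24000) (by omega)
    rwa [show Nat.add 24000 (x - 24000) = x from by show 24000 + (x - 24000) = x; omega] at h
  by_cases h7 : x < 32000
  · have h := alln_iff.1 chk_7 (x - 28000) (by omega)
    rwa [show Nat.add 28000 (x - 28000) = x from by show 28000 + (x - 28000) = x; omega] at h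
  by_cases h8 : x < 36000
  · have h := alln_iff.1 chk_8 (x - 32000) (by omega)
    rwa [show Nat.add 32000 (x - 32000) = x from by show 32000 + (x - 32000) = x; omega] at h
  by_cases h9 : x < 40000
  · have h := alln_iff.1 chk_9 (x - 36000) (by omega)
    rwa [show Nat.add 36000 (x - 36000) = x from by show 36000 + (x - 36000) = x; omega] at h
  by_cases h10 : x < 44000
  · have h := alln_iff.1 chk_10 (x - 40000) (by omega)
    rwa [show Nat.add 40000 (x - 40000) = x from by show 40000 + (x - 40000) = x; omega] at h
  by_cases h11 : x < 48000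
  · have h := alln_iff.1 chk_11 (x - 44000) (by omega)
    rwa [show Nat.add 44000 (x - 44000) = x from by show 44000 + (x - 44000) = x; omega] at h
  by_cases h12 : x < 52000
  · have h := alln_iff.1 chk_12 (x - 48000) (by omega)
    rwa [show Nat.add 48000 (x - 48000) = x from by show 48000 + (x - 48000) = x; omega] at h
  by_cases h13 : x < 56000
  · have h := alln_iff.1 chk_13 (x - 52000) (by omega)
    rwa [show Nat.add 52000 (x - 52000) = x from by show 52000 + (x - 52000) = x; omega] at h
  by_cases h14 : x < 60000
  · have h := alln_iff.1 chk_14 (x - 56000) (by omega)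
    rwa [show Nat.add 56000 (x - 56000) = x from by show 56000 + (x - 56000) = x; omega] at h
  by_cases h15 : x < 64000
  · have h := alln_iff.1 chk_15 (x - 60000) (by omega)
    rwa [show Nat.add 60000 (x - 60000) = x from by show 60000 + (x - 60000) = x; omega] at h
  by_cases h16 : x < 68000
  · have h := alln_iff.1 chk_16 (x - 64000) (by omega)
    rwa [show Nat.add 64000 (x - 64000) = x from by show 64000 + (x - 64000) = x; omega] at h
  by_cases h17 : x < 72000
  · have h := alln_iff.1 chk_17 (x - 68000) (by omega)
    rwa [show Nat.add 68000 (x - 68000) = x from by show 68000 + (x - 68000) = x; omega] at h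
  by_cases h18 : x < 76000
  · have h := alln_iff.1 chk_18 (x - 72000) (by omega)
    rwa [show Nat.add 72000 (x - 72000) = x from by show 72000 + (x - 72000) = x; omega] at h
  by_cases h19 : x < 80000
  · have h := alln_iff.1 chk_19 (x - 76000) (by omega)
    rwa [show Nat.add 76000 (x - 76000) = x from by show 76000 + (x - 76000) = x; omega] at h
  by_cases h20 : x < 84000
  · have h := alln_iff.1 chk_20 (x - 80000) (by omega)
    rwa [show Nat.add 80000 (x - 80000) = x from by show 80000 + (x - 80000) = x; omega] at h
  by_cases h21 : x < 88000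
  · have h := alln_iff.1 chk_21 (x - 84000) (by omega)
    rwa [show Nat.add 84000 (x - 84000) = x from by show 84000 + (x - 84000) = x; omega] at h
  by_cases h22 : x < 92000
  · have h := alln_iff.1 chk_22 (x - 88000) (by omega)
    rwa [show Nat.add 88000 (x - 88000) = x from by show 88000 + (x - 88000) = x; omega] at h
  have h := alln_iff.1 chk_23 (x - 92000) (by omega)
  rwa [show Nat.add 92000 (x - 92000) = x from by show 92000 + (x - 92000) = x; omega] at h



end Cfsg.Agent.Lib.H58SM.C2a
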