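import Cfsg.Agent.Lib.H58SMC2c_0
import Cfsg.Agent.Lib.H58SMC2c_1
import Cfsg.Agent.Lib.H58SMC2c_2
import Cfsg.Agent.Lib.H58SMC2c_3

/-!
Action of the Conway group Co2 on 47104 vectors (helper58)
-/

set_option autoImplicit false

namespace Cfsg.Agent.Lib.H58SM.C2c

open Cfsg.Agent.Lib.H58SM

open Cfsg Cfsg.Agent.Lib.Golay Cfsg.Agent.Lib.LeechMin Cfsg.Agent.Lib.H89LeechMat Cfsg.Agent.Lib.H58SM.LV
open Cfsg.Agent.Lib.LeechChain Cfsg.Agent.Lib.LeechCount Cfsg.Agent.Lib.LeechCo2

theorem mv0 (a : ℕ) (ha : a < 47104) : mvOK C2g.P0 C2g.K0 (cd a) (cd (C2a.T 0 a)) = true := by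
  by_cases h0 : a < 2500
  · exact mvTab_iff mv0_0 a (by omega) (by omega)
  by_cases h1 : a < 5000
  · exact mvTab_iff mv0_1 a (by omega) (by omega)
  by_cases h2 : a < 7500
  · exact mvTab_iff mv0_2 a (by omega) (by omega)
  by_cases h3 : a < 10000
  · exact mvTab_iff mv0_3 a (by omega) (by omega)
  by_cases h4 : a < 12500
  · exact mvTab_iff mv0_4 a (by omega) (by omega)
  by_cases h5 : a < 15000
  · exact mvTab_iff mv0_5 a (by omega) (by omega)
  by_cases h6 : a < 17500
  · exact mvTab_iff mv0_6 a (by omega) (by omega)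
  by_cases h7 : a < 20000
  · exact mvTab_iff mv0_7 a (by omega) (by omega)
  by_cases h8 : a < 22500
  · exact mvTab_iff mv0_8 a (by omega) (by omega)
  by_cases h9 : a < 25000
  · exact mvTab_iff mv0_9 a (by omega) (by omega)
  by_cases h10 : a < 27500
  · exact mvTab_iff mv0_10 a (by omega) (by omega)
  by_cases h11 : a < 30000
  · exact mvTab_iff mv0_11 a (by omega) (by omega)
  by_cases h12 : a < 32500
  · exact mvTab_iff mv0_12 a (by omega) (by omega)
  by_cases h13 : a < 35000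
  · exact mvTab_iff mv0_13 a (by omega) (by omega)
  by_cases h14 : a < 37500
  · exact mvTab_iff mv0_14 a (by omega) (by omega)
  by_cases h15 : a < 40000
  · exact mvTab_iff mv0_15 a (by omega) (by omega)
  by_cases h16 : a < 42500
  · exact mvTab_iff mv0_16 a (by omega) (by omega)
  by_cases h17 : a < 45000
  · exact mvTab_iff mv0_17 a (by omega) (by omega)
  exact mvTab_iff mv0_18 a (by omega) (by omega)

theorem mv1 (a : ℕ) (ha : a < 47104) : mvOK C2g.P1 C2g.K1 (cd a) (cd (C2a.T 2 a)) = true := by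
  by_cases h0 : a < 2500
  · exact mvTab_iff mv1_0 a (by omega) (by omega)
  by_cases h1 : a < 5000
  · exact mvTab_iff mv1_1 a (by omega) (by omega)
  by_cases h2 : a < 7500
  · exact mvTab_iff mv1_2 a (by omega) (by omega)
  by_cases h3 : a < 10000
  · exact mvTab_iff mv1_3 a (by omega) (by omega)
  by_cases h4 : a < 12500
  · exact mvTab_iff mv1_4 a (by omega) (by omega)
  by_cases h5 : a < 15000
  · exact mvTab_iff mv1_5 a (by omega) (by omega)
  by_cases h6 : a < 17500
  · exact mvTab_iff mv1_6 a (by omega) (by omega)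
  by_cases h7 : a < 20000
  · exact mvTab_iff mv1_7 a (by omega) (by omega)
  by_cases h8 : a < 22500
  · exact mvTab_iff mv1_8 a (by omega) (by omega)
  by_cases h9 : a < 25000
  · exact mvTab_iff mv1_9 a (by omega) (by omega)
  by_cases h10 : a < 27500
  · exact mvTab_iff mv1_10 a (by omega) (by omega)
  by_cases h11 : a < 30000
  · exact mvTab_iff mv1_11 a (by omega) (by omega)
  by_cases h12 : a < 32500
  · exact mvTab_iff mv1_12 a (by omega) (by omega)
  by_cases h13 : a < 35000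
  · exact mvTab_iff mv1_13 a (by omega) (by omega)
  by_cases h14 : a < 37500
  · exact mvTab_iff mv1_14 a (by omega) (by omega)
  by_cases h15 : a < 40000
  · exact mvTab_iff mv1_15 a (by omega) (by omega)
  by_cases h16 : a < 42500
  · exact mvTab_iff mv1_16 a (by omega) (by omega)
  by_cases h17 : a < 45000
  · exact mvTab_iff mv1_17 a (by omega) (by omega)
  exact mvTab_iff mv1_18 a (by omega) (by omega)

theorem hmv : ∀ i < 2, ∀ a < 47104, mvOK (C2g.GD.P i) (C2g.GD.K i) (cd a) (cd (C2a.Q.T (2 * i) a)) = true := by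
  intro i hi a ha
  interval_cases i
  · exact mv0 a ha
  · exact mv1 a ha

/-- the action -/
theorem act : Act 47104 2 C2g.gg (pnt cd) C2a.Q.T C2a.Q.pi C2a.Q.pq :=
  mkAct C2g.GD C2a.Q.toDat rfl (by show 0 < 47104; norm_num) C2a.tab1_ok C2a.tab2_ok C2a.tab3_ok lat_ok nrm_ok cd_ok hmv

theorem pall : ∀ a < 47104, (pnt cd a : GolayPt → ℤ) = vv (cd a) :=
  mkAll C2g.GD C2a.Q.toDat rfl C2a.tab3_ok lat_ok nrm_ok cd_ok hmv

end Cfsg.Agent.Lib.H58SM.C2c
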