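import Cfsg.Agent.Lib.H58SMC2c_f
import Cfsg.Agent.Lib.H58SMC2b

/-!
Relators of the Conway group Co2 (helper58)
-/

set_option autoImplicit false

namespace Cfsg.Agent.Lib.H58SM.C2r

open Cfsg.Agent.Lib.H58SM

open Cfsg Cfsg.Agent.Lib.Golay Cfsg.Agent.Lib.LeechMin Cfsg.Agent.Lib.H89LeechMat Cfsg.Agent.Lib.H58SM.LV

def S : List ℕ := [0, 1, 2, 3, 4, 5, 6, 7, 8, 9, 10, 11, 12, 13, 14, 15, 16, 17, 19, 20, 21, 22, 23, 24]

def C : List (List ℤ) := [[-20, -38, -62, -26, 67, -26, 52, -2, -41, 133, -12, -14, 88, -15, -9, 54, 48, -126, 36, 30, 63, 42, 54, -36],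
  [-100, 122, -262, -106, 167, -226, 92, 38, -181, 233, -132, 26, 128, -75, -69, 54, 48, -246, 156, 30, 123, 42, 54, 84],
  [140, 26, 194, 182, -169, 182, -124, 134, 107, -151, -36, 98, -16, 45, 3, -138, -96, 162, -132, -90, -141, -54, -18, -108],
  [100, -26, 286, 178, -131, 178, -116, 106, 73, -269, 36, -98, -104, 135, 57, -102, -24, 198, -228, -30, -39, -66, 18, -132],
  [-140, -62, -38, 46, -17, 46, 28, 22, 91, 97, 12, 34, 112, -75, -21, 6, -48, -54, -36, 30, 27, 18, 6, -84],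
  [-180, -138, -162, -126, 177, -126, 132, -102, -51, 183, -12, 6, 168, -165, 21, 114, 48, -186, 36, 90, 93, 102, -6, 84],
  [20, 98, 2, -34, 83, -34, 68, -58, -49, 77, -108, 74, 32, -135, -81, 6, -48, -54, 84, 30, -33, 18, 6, 36],
  [140, -22, 122, 86, -97, 206, -52, 182, 131, -103, 12, 74, -88, 45, -21, -114, -48, 66, -156, -90, -93, 18, -114, -84],
  [-100, -46, -94, 38, -1, -82, 44, -34, -37, 41, 36, -118, 56, 45, 27, 78, -24, 18, 12, 30, 51, -6, -42, 108],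
  [220, 46, 334, 202, -239, 322, -164, 154, 157, -281, 84, -2, -176, 195, 93, -198, 24, 222, -252, -150, -171, -114, -78, -228],
  [20, 50, 50, -10, -25, -10, -100, -10, -85, -55, 60, -70, -40, 45, -45, 30, 0, 90, 60, 30, -45, -30, 30, 60],
  [-140, -38, -62, -26, 67, -26, 52, -2, -41, 133, -12, -14, 88, -15, -9, 54, 48, -126, 36, 30, 63, -78, 54, -36],
  [20, 86, -106, -118, 41, -118, -4, -46, -163, 119, -36, 38, -16, 75, -27, 42, 24, -18, 108, -30, 69, 6, 42, 12],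
  [20, -22, 2, -34, 23, -34, 68, -58, 11, 17, 12, 74, 32, -75, -21, 6, -48, 66, -36, 30, -93, 18, 6, 36],
  [-100, -22, -118, -34, 83, -154, 68, -58, -49, 77, 12, -46, 32, -15, 39, 6, 72, -54, 84, 30, 87, 18, 6, 36],
  [-140, 34, -14, -2, 79, -122, 4, -74, -77, 121, 36, -38, 16, -75, 27, 78, -24, -102, 132, 30, 51, -6, 78, -12],
  [100, -50, 70, 10, -35, 130, -20, 10, 25, -125, 60, -50, -80, 135, -15, -30, 0, 30, -60, -30, -15, 30, -30, -60],
  [-140, -98, -122, -86, 97, -86, 52, -62, -11, 103, -12, -74, 88, -45, 21, 114, 48, -66, 36, -30, 93, 102, -6, 84],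
  [-100, 2, -142, -106, 47, -106, 92, -82, -61, 113, -12, 26, 8, -75, -69, 54, 48, -126, 156, 30, 123, 42, 54, 84],
  [-60, -54, -6, -18, 111, -18, 36, -66, 27, 9, -36, 18, 24, -75, 3, 102, 24, -78, -12, 30, -21, 66, -18, 12],
  [-20, -38, -62, -26, -113, 94, -68, -2, 19, -47, -12, -14, -32, 45, 51, 54, 48, -6, 36, 30, 3, 42, 54, -36],
  [-100, -34, -106, -118, 41, -118, 116, -46, -43, 119, -36, 38, 104, -45, -27, 42, 24, -138, 108, 90, 69, 6, 42, 12],
  [-60, -6, -54, -42, 39, -42, -36, 6, 3, 81, 36, -78, -24, 45, 27, -42, 96, -102, 12, 30, 51, -6, 78, -12],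
  [60, 78, 102, 66, -27, 66, -12, 42, 81, -93, 12, 54, -48, 15, 9, -54, -48, 126, -36, -30, -63, -42, -54, 36]]

set_option maxRecDepth 1000000

theorem span_ok : spanOK (S.map C2c.cd) C 480 = true := by decide +kernel

theorem S_lt : ∀ a ∈ S, a < 47104 := by decide +kernel

theorem faithS (y : C2g.GG) (hy : ∀ a ∈ S, y • pnt C2c.cd a = pnt C2c.cd a) : y = 1 :=
  faith_span C2c.pall S_lt rfl (by norm_num) span_ok y hy

theorem rel_C2a_ok : alln (fun j => S.all fun a => Nat.beq (ptq C2a.Q.T (C2a.Q.W j) a) a) C2a.Q.J = true := by decide +kernel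

theorem rel_C2a : ∀ j < C2a.Q.J, ev C2g.gg (C2a.Q.W j) = 1 :=
  rel_of_pts C2c.act S S_lt faithS (Dat.wOk_iff C2a.w_ok) rel_C2a_ok

theorem rel_C2b_ok : alln (fun j => S.all fun a => Nat.beq (ptq C2a.Q.T (C2b.Q.W j) a) a) C2b.Q.J = true := by decide +kernel

theorem rel_C2b : ∀ j < C2b.Q.J, ev C2g.gg (C2b.Q.W j) = 1 :=
  rel_of_pts C2c.act S S_lt faithS (Dat.wOk_iff C2b.w_ok) rel_C2b_ok

end Cfsg.Agent.Lib.H58SM.C2r
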