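import Cfsg.Agent.Lib.H58SMC3c
import Cfsg.Agent.Lib.H58SMC3b

/-!
Relators of the Conway group Co3 (helper58)
-/

set_option autoImplicit false

namespace Cfsg.Agent.Lib.H58SM.C3r

open Cfsg.Agent.Lib.H58SM

open Cfsg Cfsg.Agent.Lib.Golay Cfsg.Agent.Lib.LeechMin Cfsg.Agent.Lib.H89LeechMat Cfsg.Agent.Lib.H58SM.LV

def S : List ℕ := [0, 1, 2, 3, 4, 5, 6, 7, 8, 9, 10, 11, 12, 13, 14, 15, 16, 17, 18, 19, 20, 22, 27, 28]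

def C : List (List ℤ) := [[1, 3, 4, -1, -6, 0, -2, 3, 0, 1, 3, -1, -2, -5, 1, -3, -4, 0, -1, 3, 5, 2, 2, -2],
  [-11, 15, -2, 17, -12, 0, -2, 15, -12, 1, 3, -1, -14, 7, 7, -9, 2, -6, -1, -3, -7, 8, 2, 4],
  [-5, 9, -2, 11, -12, 6, -2, 9, -6, 1, 3, -1, -8, 1, 1, -9, -4, 0, -1, 3, 5, 2, 2, -2],
  [7, -9, -2, -7, 6, 0, 4, -9, 6, 1, -3, 5, 10, -5, -5, 3, 2, 0, -1, 3, -1, -4, 2, -2],
  [-11, 15, 4, 5, -12, 0, -2, 15, -6, 7, 3, -7, -14, 1, 1, -9, -4, 0, 5, 3, 5, 2, 2, -2],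
  [-5, 9, -2, 5, -6, 0, 4, 3, -6, 1, -3, -1, -8, 1, 1, -3, 2, 0, 5, -3, -1, 2, 2, 4],
  [31, -39, -8, -37, 30, -6, 10, -39, 30, 1, -9, 5, 34, -5, -17, 27, 8, 6, -1, -3, -1, -10, -4, -2],
  [-23, 27, 10, 17, -24, 0, -2, 27, -18, 1, 3, -7, -20, 1, 7, -15, -4, 0, 5, 3, 5, 8, 2, -2],
  [-29, 33, 4, 29, -24, 6, -8, 33, -24, 1, 3, -7, -26, 7, 13, -21, -4, 0, -1, 3, -1, 8, 2, 4],
  [7, -9, 4, -19, 6, 0, -2, -9, 12, 1, 3, -1, 10, -11, 1, 9, -10, 0, -1, 9, 11, -4, 2, -8],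
  [7, -15, 4, -19, 12, -6, 4, -15, 18, 1, -3, -1, 10, -5, -5, 9, 2, 6, -1, 3, 5, -4, -4, -2],
  [-23, 33, 4, 23, -24, 6, -2, 27, -18, 1, -3, -7, -26, 7, 7, -15, -4, 0, 5, -3, -1, 8, 2, 4],
  [-5, 3, 4, 5, 0, 0, -2, 3, -6, -5, 3, 5, -2, 1, 1, -3, 2, 0, -1, -3, -1, 2, -4, 4],
  [-11, 15, 4, 5, -12, -6, 4, 15, -6, 7, -3, -1, -14, 1, -5, -9, 2, 6, 5, -3, 5, 2, 2, -2],
  [1, -3, -2, 5, 0, 0, -2, 3, 0, 1, 3, -1, -2, 1, 1, -3, -4, -6, -1, 3, -1, 2, 2, 4],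
  [-11, 21, -2, 23, -18, 6, -2, 15, -18, 1, 3, -1, -14, 7, 7, -15, -4, -6, -1, -3, -1, 8, 2, 4],
  [19, -27, -2, -19, 24, -6, -2, -21, 18, -5, 3, 5, 22, -5, -5, 15, 2, 0, -1, -3, -1, -4, -4, -2],
  [-5, 3, -2, 5, 0, 6, -2, 3, -6, -5, -3, -1, -2, 7, 7, -3, 2, 0, -1, -3, -7, 2, 2, 4],
  [-17, 27, 4, 23, -24, 6, -8, 21, -18, 1, 3, -1, -20, 1, 7, -15, -4, -6, -1, 3, 5, 8, 8, -2],
  [13, -21, -2, -13, 18, 0, -2, -21, 12, -5, -3, 5, 16, 1, 1, 15, 2, 0, -1, -3, -7, -4, -4, 4],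
  [31, -45, -2, -37, 36, -6, 4, -39, 30, -5, 3, 5, 40, -11, -11, 27, 2, 6, -7, 3, -1, -10, -4, -8],
  [1, -3, 4, -7, 0, 0, -2, -3, 6, 1, 3, -1, 4, -5, 1, 3, -4, 0, -1, 3, 5, -4, 2, -2],
  [37, -51, -2, -43, 36, -6, 4, -45, 36, 1, 3, 5, 40, -17, -11, 33, 2, 0, -7, 3, 5, -10, -4, -8],
  [5, -3, -4, 1, 6, 0, 2, -3, 0, -1, -3, 1, 2, 5, -1, 3, 4, 0, 1, -3, -5, -2, -2, 2]]

set_option maxRecDepth 1000000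

theorem span_ok : spanOK (S.map C3c.cd) C 24 = true := by decide +kernel

theorem S_lt : ∀ a ∈ S, a < 552 := by decide +kernel

theorem faithS (y : C3g.GG) (hy : ∀ a ∈ S, y • pnt C3c.cd a = pnt C3c.cd a) : y = 1 :=
  faith_span C3c.pall S_lt rfl (by norm_num) span_ok y hy

theorem rel_C3a_ok : alln (fun j => S.all fun a => Nat.beq (ptq C3a.Q.T (C3a.Q.W j) a) a) C3a.Q.J = true := by decide +kernel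

theorem rel_C3a : ∀ j < C3a.Q.J, ev C3g.gg (C3a.Q.W j) = 1 :=
  rel_of_pts C3c.act S S_lt faithS (Dat.wOk_iff C3a.w_ok) rel_C3a_ok

theorem rel_C3b_ok : alln (fun j => S.all fun a => Nat.beq (ptq C3a.Q.T (C3b.Q.W j) a) a) C3b.Q.J = true := by decide +kernel

theorem rel_C3b : ∀ j < C3b.Q.J, ev C3g.gg (C3b.Q.W j) = 1 :=
  rel_of_pts C3c.act S S_lt faithS (Dat.wOk_iff C3b.w_ok) rel_C3b_ok

end Cfsg.Agent.Lib.H58SM.C3r
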