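import Cfsg.Agent.Lib.H58SMg

/-!
Schur multiplier engine, part h: fast checks of the relations between the parameters (helper58)
-/

set_option autoImplicit false

namespace Cfsg.Agent.Lib.H58SM

open Subgroup Cfsg.Agent.Lib.SchurSylow

universe u v w

namespace DatQ

variable (Q : DatQ)

/-- the field `t` of a packed row -/
def fd (R t : ℕ) : ℕ := Nat.land (Nat.shiftRight R (Nat.mul Q.b t)) Q.mb

/-- the row `R` contains the coordinates of the relation of the loop `L` -/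
noncomputable def rowChk (L R : ℕ) : Bool :=
  frc (Nat.div L Q.n) fun j => frc (Nat.mod L Q.n) fun a =>
    cond (Nat.blt j Q.J) (cond (Nat.blt a Q.n) (cond (Q.fok Q.d R) (frc (Nat.add (Nat.mul Q.k Q.n) j) fun z =>
      Q.wlk (Nat.add (Nat.mul Q.k Q.n) Q.J) (Nat.pow 2 Q.b0) (fun s c =>
        Q.stp (Nat.add (Nat.mul Q.k Q.n) Q.J) (Nat.pow 2 Q.b0) (Nat.sub Q.m 1) z s c fun s' _ =>
          Q.fz Q.d (Nat.add s' (Nat.mul (Nat.sub Q.m 1) R))) (Q.S j) a 0 0) false) false) false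

/-- the combination of rows: coordinates -/
def csR (Rr : ℕ → ℕ) (t : ℕ) : List (ℕ × ℕ) → ℕ
  | [] => 0
  | q :: l => Nat.add (Nat.mul q.1 (Q.fd (Rr q.2) t)) (csR Rr t l)

/-- the combination `c` of rows has the coordinates given by `l` -/
def rcR (dr : ℕ) (Rr : ℕ → ℕ) (c l : List (ℕ × ℕ)) : Bool :=
  (c.all fun q => Nat.blt q.2 dr) && ((l.all fun q => Nat.blt q.1 Q.d) &&
    alln (fun t => Nat.beq (Nat.mod (Q.csR Rr t c) Q.m) (Nat.mod (tv l t) Q.m)) Q.d)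

def genR (dr : ℕ) (Rr : ℕ → ℕ) (gl : List (ℕ × ℕ × List (ℕ × ℕ))) : Bool :=
  gl.all fun r => Nat.blt r.1 Q.d && Q.rcR dr Rr r.2.2 [(r.1, r.2.1)]

def parR (dr : ℕ) (Rr : ℕ → ℕ) (gl : List (ℕ × ℕ × List (ℕ × ℕ))) (C : ℕ → List (ℕ × ℕ) × List (ℕ × ℕ)) : Bool :=
  alln (fun t => Q.rcR dr Rr (C t).1 ((t, 1) :: (C t).2) && (C t).2.all fun q => gl.any fun r => Nat.beq r.1 q.1) Q.d

/-- bound -/
def pOk2 : Bool := Nat.blt ((Q.LM + 2) * ((Q.m - 1) * (Q.m - 1))) (2 ^ Q.b)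

section proofs

variable {Q}

theorem fd_eq (hmb : Q.mb = 2 ^ Q.b - 1) (R t : ℕ) : Q.fd R t = R / 2 ^ (Q.b * t) % 2 ^ Q.b := by
  show Nat.land (Nat.shiftRight R (Q.b * t)) Q.mb = _
  rw [land_mask hmb, shift_eq]

theorem row_spec (hp : Q.pOk = true) (hp2 : Q.pOk2 = true) (hS : Q.sOk = true) (hW : Q.toDat.wOk = true)
    (hT : ∀ l < 2 * Q.k, ∀ a < Q.n, Q.T l a < Q.n) (h : ∀ x < Q.toDat.N, Q.chk x = true) {L R : ℕ}
    (hL : Q.rowChk L R = true) :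
    L / Q.n < Q.J ∧ L % Q.n < Q.n ∧ ∀ t < Q.d, Q.toDat.ls t (L / Q.n) (L % Q.n) % Q.m = Q.fd R t % Q.m := by
  unfold pOk at hp
  simp only [Bool.and_eq_true, Nat.beq_eq, Nat.blt_eq] at hp
  obtain ⟨hmb, hmk0, hmk, hm, hLM⟩ := hp
  have hp2 : (Q.LM + 2) * ((Q.m - 1) * (Q.m - 1)) < 2 ^ Q.b := Sol.blt_iff.1 hp2
  have hE : ∀ x < Q.toDat.N, Q.chkE x = true := fun x hx => (cond_true_eq (h x hx)).1
  have hWl := Dat.wOk_iff hW
  unfold rowChk at hL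
  rw [frc_eq, frc_eq] at hL
  obtain ⟨hj, h2⟩ := cond_true_eq hL
  obtain ⟨ha', h2⟩ := cond_true_eq h2
  obtain ⟨hfok, h2⟩ := cond_true_eq h2
  rw [frc_eq] at h2
  have hj : L / Q.n < Q.J := Sol.blt_iff.1 hj
  have ha : L % Q.n < Q.n := Sol.blt_iff.1 ha'
  refine ⟨hj, ha, ?_⟩
  have h2 : Q.wlk (Nat.add (Nat.mul Q.k Q.n) Q.J) (Nat.pow 2 Q.b0) (fun s c =>
        Q.stp (Nat.add (Nat.mul Q.k Q.n) Q.J) (Nat.pow 2 Q.b0) (Nat.sub Q.m 1) (Nat.add (Nat.mul Q.k Q.n) (L / Q.n)) s c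
          fun s' _ => Q.fz Q.d (Nat.add s' (Nat.mul (Nat.sub Q.m 1) R))) (Q.S (L / Q.n)) (L % Q.n) 0 0 = true := h2
  have hSj := alln_iff.1 hS _ hj
  rw [Bool.and_eq_true] at hSj
  obtain ⟨h3, h4⟩ := wlk_spec hSj.1 h2
  obtain ⟨-, h6⟩ := stp_spec h4
  have hz : Nat.add (Nat.mul Q.k Q.n) (L / Q.n) < Q.toDat.N := by
    show Q.k * Q.n + L / Q.n < Q.k * Q.n + Q.J
    omega
  set j := L / Q.n with hjdef
  set a := L % Q.n with hadef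
  set z := Nat.add (Nat.mul Q.k Q.n) j with hzdef
  rw [zero_add] at h6
  have hlet := hWl j hj
  have h8 : pall Q.n Q.T (fun x => Nat.blt x (Nat.mul Q.k Q.n) && (Nat.beq x (Nat.add (Nat.mul Q.k Q.n) Q.J) ||
    Nat.blt (Q.rk x) (Nat.pow 2 Q.b0))) (Q.W j) a = true := pall_lt hT hlet ha h3
  have hPE : ∀ x, (Nat.blt x (Nat.mul Q.k Q.n) && (Nat.beq x (Nat.add (Nat.mul Q.k Q.n) Q.J) ||
      Nat.blt (Q.rk x) (Nat.pow 2 Q.b0))) = true → Q.chkE x = true := by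
    intro x hx
    rw [Bool.and_eq_true] at hx
    have h9 : x < Q.k * Q.n := Sol.blt_iff.1 hx.1
    exact hE x (by show x < Q.k * Q.n + Q.J; omega)
  have h9 : wk Q.n Q.m Q.T Q.EP (Q.W j) a 0 = pkf Q.b (fun t => wk Q.n Q.m Q.T (Q.E t) (Q.W j) a 0) Q.d :=
    wk_pkf Q.n Q.m Q.T (fun x hx => EP_eq hmb (hPE x hx)) h8
  obtain ⟨hR1, hR2⟩ := fok_spec hmb hfok
  have h10 : Nat.add (wk Q.n Q.m Q.T Q.EP (Q.W j) a 0 + Nat.sub Q.m 1 * Q.EP z) (Nat.mul (Nat.sub Q.m 1) R) =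
      pkf Q.b (fun t => wk Q.n Q.m Q.T (Q.E t) (Q.W j) a 0 + Nat.sub Q.m 1 * Q.E t z +
        Nat.sub Q.m 1 * (R / 2 ^ (Q.b * t) % 2 ^ Q.b)) Q.d := by
    show _ + Nat.sub Q.m 1 * R = _
    rw [pkf_add Q.b (fun t => wk Q.n Q.m Q.T (Q.E t) (Q.W j) a 0 + Nat.sub Q.m 1 * Q.E t z),
      pkf_add Q.b (fun t => wk Q.n Q.m Q.T (Q.E t) (Q.W j) a 0), h9, pkf_mul, ← EP_eq hmb (hE z hz), pkf_mul, ← hR2]
  rw [h10] at h6
  have hlen : (Q.W j).length ≤ Q.LM := Nat.le_of_ble_eq_true hSj.2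
  have h11 : ∀ t < Q.d, wk Q.n Q.m Q.T (Q.E t) (Q.W j) a 0 + Nat.sub Q.m 1 * Q.E t z +
        Nat.sub Q.m 1 * (R / 2 ^ (Q.b * t) % 2 ^ Q.b) < 2 ^ Q.b := by
    intro t ht
    have h12 := wk_le Q.n Q.m Q.T (f := Q.E t) (M := Q.m - 1) hm (fun x hx => by
      have := E_lt hmb (hPE x hx) ht
      omega) h8
    have h13 : Nat.sub Q.m 1 * Q.E t z ≤ (Q.m - 1) * (Q.m - 1) := by
      have := E_lt hmb (hE z hz) ht
      exact Nat.mul_le_mul_left _ (by omega)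
    have h13' : Nat.sub Q.m 1 * (R / 2 ^ (Q.b * t) % 2 ^ Q.b) ≤ (Q.m - 1) * (Q.m - 1) := by
      have := hR1 t ht
      exact Nat.mul_le_mul_left _ (by omega)
    have h14 : (Q.W j).length * ((Q.m - 1) * (Q.m - 1)) ≤ Q.LM * ((Q.m - 1) * (Q.m - 1)) :=
      Nat.mul_le_mul_right _ hlen
    have h15 : (Q.LM + 2) * ((Q.m - 1) * (Q.m - 1)) = Q.LM * ((Q.m - 1) * (Q.m - 1)) + (Q.m - 1) * (Q.m - 1) +
      (Q.m - 1) * (Q.m - 1) := by ring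
    omega
  have h16 := fz_spec hmb h11 h6
  intro t ht
  have h17 := h16 t ht
  have h18 : Q.toDat.ls t j a = wk Q.n Q.m Q.T (Q.E t) (Q.W j) a 0 + Nat.sub Q.m 1 * Q.E t z := rfl
  rw [fd_eq hmb, h18]
  set x := wk Q.n Q.m Q.T (Q.E t) (Q.W j) a 0 + Nat.sub Q.m 1 * Q.E t z
  set y := R / 2 ^ (Q.b * t) % 2 ^ Q.b
  have h19 : x + Q.m * y = (x + Nat.sub Q.m 1 * y) + y := by
    have : Q.m * y = Nat.sub Q.m 1 * y + y := by
      have h20 : Q.m = Nat.sub Q.m 1 + 1 := by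
        show Q.m = Q.m - 1 + 1
        omega
      conv_lhs => rw [h20]
      ring
    omega
  rw [← Nat.add_mul_mod_self_left x Q.m y, h19, Nat.add_mod, h17, zero_add, Nat.mod_mod]

/-- translation of combinations -/
def tr (Lr : ℕ → ℕ) (c : List (ℕ × ℕ)) : List (ℕ × ℕ) := c.map fun q => (q.1, Lr q.2)

theorem rc_of {dr : ℕ} {Lr Rr : ℕ → ℕ}
    (hrow : ∀ i < dr, Lr i / Q.n < Q.J ∧ Lr i % Q.n < Q.n ∧
      ∀ t < Q.d, Q.toDat.ls t (Lr i / Q.n) (Lr i % Q.n) % Q.m = Q.fd (Rr i) t % Q.m)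
    {c l : List (ℕ × ℕ)} (h : Q.rcR dr Rr c l = true) : Q.toDat.rc (tr Lr c) l = true := by
  unfold rcR at h
  rw [Bool.and_eq_true, Bool.and_eq_true] at h
  obtain ⟨h1, h2, h3'⟩ := h
  have h3 := alln_iff.1 h3'
  clear h3'
  unfold Dat.rc
  rw [Bool.and_eq_true, Bool.and_eq_true]
  refine ⟨?_, h2, ?_⟩
  · clear h3
    induction c with
    | nil => rfl
    | cons q c ih =>
      rw [List.all_cons, Bool.and_eq_true] at h1
      obtain ⟨g1, g2, -⟩ := hrow _ (Sol.blt_iff.1 h1.1)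
      show (Nat.blt (Nat.div (Lr q.2) Q.n) Q.J && (Nat.blt (Nat.mod (Lr q.2) Q.n) Q.n && Q.toDat.okc (tr Lr c))) = true
      rw [Bool.and_eq_true, Bool.and_eq_true]
      exact ⟨Sol.blt_iff.2 g1, Sol.blt_iff.2 g2, ih h1.2⟩
  · rw [Sol.allt_iff]
    intro t ht
    have h4 := Sol.beq_iff.1 (h3 t ht)
    have h5 : Q.toDat.cs t (tr Lr c) % Q.m = Q.csR Rr t c % Q.m := by
      clear h3 h4
      induction c with
      | nil => rfl
      | cons q c ih =>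
        rw [List.all_cons, Bool.and_eq_true] at h1
        obtain ⟨-, -, g3⟩ := hrow _ (Sol.blt_iff.1 h1.1)
        show (q.1 * Q.toDat.ls t (Lr q.2 / Q.n) (Lr q.2 % Q.n) + Q.toDat.cs t (tr Lr c)) % Q.m =
          (q.1 * Q.fd (Rr q.2) t + Q.csR Rr t c) % Q.m
        rw [Nat.add_mod, ih h1.2, Nat.mul_mod, g3 t ht, ← Nat.mul_mod, ← Nat.add_mod]
    apply Sol.beq_iff.2
    show Q.toDat.cs t (tr Lr c) % Q.m = tv l t % Q.m
    rw [h5]; exact h4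

end proofs

end DatQ

/-- main theorem in terms of packed data -/
theorem pStemDvd_of_Q {p s q N dr : ℕ} [hp : Fact p.Prime] {G : Type u} [Group G] [Finite G] {Ω : Type w}
    [MulAction G Ω] (Q : DatQ) {g : ℕ → G} {e : ℕ → Ω} (A : Act Q.n Q.k g e Q.T Q.pi Q.pq)
    (hgen : closure {z | ∃ i < Q.k, z = g i} = ⊤)
    (hH : PStemDvd p (MulAction.stabilizer G (e 0)) 1)
    (hab : ¬ p ∣ (commutator (MulAction.stabilizer G (e 0))).index)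
    (hrel : ∀ j < Q.J, ev g (Q.W j) = 1)
    (hT : Q.toDat.tab1 = true)
    (hW : Q.toDat.wOk = true) (hS : Q.sOk = true) (hP : Q.pOk = true) (hP2 : Q.pOk2 = true)
    (nr : ℕ → ℕ × ℕ) (hnr : Q.toDat.nrOk nr = true) (hzl : Q.toDat.zlOk nr = true)
    (hDp : Q.p = p) (hDm : Q.m = p ^ s) (hpq : p * q ∣ Q.m)
    (hchk : ∀ x < Q.toDat.N, Q.chk x = true) (Lr Rr : ℕ → ℕ)
    (hrow : alln (fun i => Q.rowChk (Lr i) (Rr i)) dr = true)
    {gl : List (ℕ × ℕ × List (ℕ × ℕ))} {C : ℕ → List (ℕ × ℕ) × List (ℕ × ℕ)}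
    (hg : Q.genR dr Rr gl = true) (hpar : Q.parR dr Rr gl C = true) (hq : ∀ r ∈ gl, r.2.1 ∣ q)
    (hN : (gl.map fun r => r.2.1).prod = N) : PStemDvd p G N := by
  have hT' : ∀ l < 2 * Q.k, ∀ a < Q.n, Q.T l a < Q.n := fun l hl a ha =>
    Sol.blt_iff.1 (alln_iff.1 (alln_iff.1 hT l hl) a ha)
  have hr : ∀ i < dr, Lr i / Q.n < Q.J ∧ Lr i % Q.n < Q.n ∧
      ∀ t < Q.d, Q.toDat.ls t (Lr i / Q.n) (Lr i % Q.n) % Q.m = Q.fd (Rr i) t % Q.m := fun i hi =>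
    DatQ.row_spec hP hP2 hS hW hT' hchk (alln_iff.1 hrow i hi)
  let f : ℕ × ℕ × List (ℕ × ℕ) → ℕ × ℕ × List (ℕ × ℕ) := fun r => (r.1, r.2.1, DatQ.tr Lr r.2.2)
  refine pStemDvd_of_checks (s := s) (q := q) (N := N) Q.toDat A hgen hH hab hW hrel nr hnr hzl hDp hDm hpq
    (DatQ.chk_of hP hS hW hT' hchk) (gl := gl.map f) (C := fun t => (DatQ.tr Lr (C t).1, (C t).2)) ?_ ?_ ?_ ?_
  · unfold Dat.genOk
    unfold DatQ.genR at hg
    rw [List.all_eq_true] at hg ⊢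
    intro r hr'
    obtain ⟨r, hr1, rfl⟩ := List.mem_map.1 hr'
    have h1 := hg r hr1
    rw [Bool.and_eq_true] at h1 ⊢
    exact ⟨h1.1, DatQ.rc_of hr h1.2⟩
  · unfold Dat.parOk
    have hpar := alln_iff.1 hpar
    rw [Sol.allt_iff]
    intro t ht
    have h1 := hpar t ht
    rw [Bool.and_eq_true] at h1 ⊢
    refine ⟨DatQ.rc_of hr h1.1, ?_⟩
    have h2 := h1.2
    rw [List.all_eq_true] at h2 ⊢
    intro q hq
    have h3 := h2 q hq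
    rw [List.any_eq_true] at h3 ⊢
    obtain ⟨r, hr1, hr2⟩ := h3
    exact ⟨f r, List.mem_map_of_mem hr1, hr2⟩
  · intro r hr'
    obtain ⟨r, hr1, rfl⟩ := List.mem_map.1 hr'
    exact hq r hr1
  · rw [List.map_map]; exact hN

end Cfsg.Agent.Lib.H58SM
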