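import Cfsg.Agent.Lib.H58SMs
import Cfsg.Agent.Lib.H92StemB
import Cfsg.Agent.Lib.H58SMh

/-!
Schur multiplier engine, part t: technical lemmas on point stabilisers and small Sylow subgroups (helper58)
-/

set_option autoImplicit false

namespace Cfsg.Agent.Lib.H58SM

open Subgroup Cfsg.Agent.Lib.SchurSylow

universe u v w

namespace Sims

/-- lower bound of the order of a generated group -/
theorem card_of_chain {G Ω : Type*} [Group G] [MulAction G Ω] {n k k' : ℕ} [Finite G] {g : ℕ → G} {e : ℕ → Ω}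
    {T : ℕ → ℕ → ℕ} {W : ℕ → List ℕ} (hk : k ≤ k')
    (hinj : ∀ a < n, ∀ b < n, e a = e b → a = b)
    (hT : tabOk n k' T = true) (hw : wrdOk n k k' T W = true)
    (hfwd : ∀ i < k, ∀ a < n, g i • e a = e (T (2 * i) a))
    {L : List (ℕ × ℕ × (ℕ → ℕ) × (ℕ → ℕ))} (h : chainOk n T k' L [] = true) :
    (L.map fun q => q.2.1 + 1).prod ≤ Nat.card (closure {z | ∃ i < k, z = g i}) := by
  obtain ⟨s, h1, h2⟩ := ext_spec hk hT hw hfwd
  unfold tabOk at hT
  rw [Bool.and_eq_true] at hT
  have hlt : ∀ j < k', ∀ a < n, T (2 * j) a < n := fun l hl a ha =>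
    Sol.blt_iff.1 (alln_iff.1 (alln_iff.1 hT.1 (2 * l) (by show 2 * l < 2 * k'; omega)) a ha)
  have h3 := chain_spec hinj hlt h1 h2 (B := []) (fun b hb => absurd hb (by simp)) h
  refine h3.trans ?_
  exact Nat.card_le_card_of_injective (fun x => ⟨x.1, x.2.1⟩) (fun x y hxy => Subtype.ext (by injection hxy))

end Sims

/-- a stabiliser generated by elements of order prime to `p` -/
theorem odds_top {p : ℕ} [hp : Fact p.Prime] {G : Type u} {Ω : Type v} [Group G] [Finite G] [MulAction G Ω] (x : Ω)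
    (h : ℕ → G) (r : ℕ) (hfix : ∀ i < r, h i • x = x) (hord : ∀ i < r, ∃ N, ¬ p ∣ N ∧ (h i) ^ N = 1)
    (hcard : Nat.card (MulAction.stabilizer G x) ≤ Nat.card (closure {z | ∃ i < r, z = h i})) :
    odds p (MulAction.stabilizer G x) = ⊤ := by
  have h1 : closure {z | ∃ i < r, z = h i} ≤ MulAction.stabilizer G x := by
    rw [closure_le]
    rintro _ ⟨i, hi, rfl⟩
    exact hfix i hi
  have h2 : closure {z | ∃ i < r, z = h i} = MulAction.stabilizer G x := Subgroup.eq_of_le_of_card_ge h1 hcard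
  have h3 : closure {z | ∃ i < r, z = h i} ≤ (odds p (MulAction.stabilizer G x)).map (MulAction.stabilizer G x).subtype := by
    rw [closure_le]
    rintro _ ⟨i, hi, rfl⟩
    obtain ⟨N, hN, hx⟩ := hord i hi
    exact ⟨⟨h i, hfix i hi⟩, mem_odds_of_pow hN (Subtype.ext hx), rfl⟩
  rw [eq_top_iff]
  rintro y -
  rw [h2] at h3
  obtain ⟨z, hz, hzy⟩ := h3 y.2
  have : z = y := Subtype.ext hzy
  rwa [← this]

/-- semidihedral Sylow subgroups of order 16 -/
theorem sd16_stem {H : Type u} [Group H] [Finite H] (r s : H) (h8 : r ^ 8 = 1) (h4 : r ^ 4 ≠ 1)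
    (hs : s * r * s⁻¹ = r ^ 3) (hs2 : s ^ 2 = r ^ 4) (hcard : ¬ 32 ∣ Nat.card H) : PStemDvd 2 H 1 := by
  have h2p : Fact (Nat.Prime 2) := ⟨Nat.prime_two⟩
  have hr8 : orderOf r = 8 := by
    have := orderOf_eq_prime_pow (p := 2) (n := 2) (x := r) (by norm_num; exact h4) (by norm_num; exact h8)
    rw [this]; norm_num
  have hsr : s ∉ zpowers r := by
    rintro ⟨k, hk⟩
    have hk : r ^ k = s := hk
    have h1 : s * r * s⁻¹ = r := by
      rw [← hk, ← zpow_add_one, add_comm, zpow_one_add]; group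
    rw [h1] at hs
    have h2 : r ^ 2 = 1 := by
      have : r ^ 3 = r ^ 2 * r := pow_succ r 2
      rw [this] at hs
      exact (mul_eq_right.1 hs.symm)
    apply h4
    rw [show (4 : ℕ) = 2 * 2 by norm_num, pow_mul, h2, one_pow]
  set K : Subgroup H := closure {r, s} with hK
  have hrK : r ∈ K := subset_closure (by simp)
  have hsK : s ∈ K := subset_closure (by simp)
  have h16 : 16 ∣ Nat.card K := by
    have h1 : zpowers r ≤ K := by rw [zpowers_le]; exact hrK
    have h2 : Nat.card (zpowers r) = 8 := by rw [Nat.card_zpowers, hr8]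
    set A : Subgroup K := (zpowers r).subgroupOf K with hA
    have hAc : Nat.card A = 8 := by
      rw [← h2]; exact Nat.card_congr (subgroupOfEquivOfLe h1).toEquiv
    -- the 2-part
    have h3 : Nat.card A ∣ Nat.card K := card_subgroup_dvd_card A
    have hnorm : ∀ k ∈ K, ∀ z ∈ zpowers r, k * z * k⁻¹ ∈ zpowers r := by
      intro k hk
      induction hk using closure_induction with
      | mem x hx =>
        rintro _ ⟨j, rfl⟩
        rcases hx with rfl | hx
        · show x * x ^ j * x⁻¹ ∈ _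
          rw [← zpow_one_add, add_comm, zpow_add_one, mul_inv_cancel_right]
          exact ⟨j, rfl⟩
        · rw [Set.mem_singleton_iff] at hx; subst hx
          show x * r ^ j * x⁻¹ ∈ _
          rw [← MulAut.conj_apply, map_zpow, MulAut.conj_apply, hs]
          exact zpow_mem (pow_mem (mem_zpowers r) 3) j
      | one => intro z hz; simpa using hz
      | mul a b _ _ ha hb =>
        intro z hz
        have := ha _ (hb z hz)
        rw [show a * b * z * (a * b)⁻¹ = a * (b * z * b⁻¹) * a⁻¹ by group]; exact this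
      | inv a _ ha =>
        intro z hz
        -- finite: use injectivity
        obtain ⟨j, hj⟩ := hz
        have hfin : ∀ m : ℕ, ∀ z ∈ zpowers r, a ^ m * z * (a ^ m)⁻¹ ∈ zpowers r := by
          intro m
          induction m with
          | zero => intro z hz; simpa using hz
          | succ m ih =>
            intro z hz
            have := ha _ (ih z hz)
            rw [show a ^ (m + 1) * z * (a ^ (m + 1))⁻¹ = a * (a ^ m * z * (a ^ m)⁻¹) * a⁻¹ by
              rw [pow_succ']; group]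
            exact this
        have h5 := hfin (orderOf a - 1) z ⟨j, hj⟩
        have h6 : a ^ (orderOf a - 1) = a⁻¹ := by
          rw [eq_inv_iff_mul_eq_one, ← pow_succ, Nat.sub_add_cancel (orderOf_pos a), pow_orderOf_eq_one]
        rwa [h6] at h5
    have hAn : A.Normal := by
      refine ⟨fun a ha k => ?_⟩
      show ((k * a * k⁻¹ : K) : H) ∈ zpowers r
      exact hnorm k k.2 a ha
    -- s gives an element of order two in the quotient
    have h5 : orderOf (QuotientGroup.mk' A ⟨s, hsK⟩) = 2 := by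
      apply orderOf_eq_prime
      · rw [← map_pow, QuotientGroup.mk'_apply, QuotientGroup.eq_one_iff]
        show s ^ 2 ∈ zpowers r
        rw [hs2]; exact pow_mem (mem_zpowers r) 4
      · rw [QuotientGroup.mk'_apply, Ne, QuotientGroup.eq_one_iff]
        exact hsr
    have h6 : 2 ∣ A.index := by
      rw [← h5]; exact orderOf_dvd_natCard _
    have h7 := A.card_mul_index
    rw [hAc] at h7
    rw [← h7]
    exact mul_dvd_mul_left 8 h6
  have hidx : ¬ 2 ∣ K.index := by
    intro hd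
    apply hcard
    rw [← K.card_mul_index]
    exact mul_dvd_mul h16 hd
  have hgen : closure {(⟨r, hrK⟩ : K), (⟨s, hsK⟩ : K)} = ⊤ := by
    rw [eq_top_iff]
    rintro ⟨x, hx⟩ -
    have h9 : (closure {(⟨r, hrK⟩ : K), (⟨s, hsK⟩ : K)}).map K.subtype = K := by
      rw [MonoidHom.map_closure, Set.image_pair]
      rfl
    rw [← h9] at hx
    obtain ⟨y, hy, hyx⟩ := hx
    have : y = ⟨x, by rw [← h9]; exact ⟨y, hy, hyx⟩⟩ := Subtype.ext hyx
    rw [← this]; exact hy
  have hst := stemDvd_metacyclic (⟨r, hrK⟩ : K) ⟨s, hsK⟩ hgen 3 (Subtype.ext (by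
    show s * r * s⁻¹ = r ^ (3 : ℤ)
    rw [hs]; norm_cast)) 4 ⟨2, Subtype.ext (by
    show s ^ (2 : ℤ) = r ^ 4
    rw [← hs2]; norm_cast)⟩
  have ho : orderOf ((⟨r, hrK⟩ : K) ^ ((3 : ℤ) - 1)) = 4 := by
    have h10 : ((⟨r, hrK⟩ : K) ^ ((3 : ℤ) - 1)) = (⟨r, hrK⟩ : K) ^ 2 := by norm_num
    rw [h10, orderOf_pow, Subgroup.orderOf_mk, hr8]
    norm_num
  rw [ho] at hst
  exact PStemDvd.of_index hidx (hst.pStemDvd 2)

/-- elementary abelian Sylow 3-subgroups of order nine, inverted on one factor -/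
theorem nine_stem {H : Type u} [Group H] [Finite H] (x y t : H) (hx : x ^ 3 = 1) (hy : y ^ 3 = 1)
    (hx1 : x ≠ 1) (hy1 : y ≠ 1)
    (hxy : x * y = y * x) (htx : t * x * t⁻¹ = x) (hty : t * y * t⁻¹ = y⁻¹)
    (hcard : ¬ 27 ∣ Nat.card H) : PStemDvd 3 H 1 := by
  have f3 : Fact (Nat.Prime 3) := ⟨Nat.prime_three⟩
  apply Cfsg.Agent.Lib.H92Stem.pStemDvd_one_of
  intro Γ _ _ σ hσ hc
  have h9 : 9 ∣ Nat.card (closure {x, y}) := by
    apply Cfsg.Agent.Lib.H92Stem.nine_dvd hx hy hxy hx1
    rintro ⟨j, hj⟩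
    have hj : x ^ j = y := hj
    have h1 : t * y * t⁻¹ = y := by
      rw [← hj, ← MulAut.conj_apply, map_zpow, MulAut.conj_apply, htx]
    rw [h1] at hty
    have h2 : y ^ 2 = 1 := by
      rw [pow_two]
      nth_rw 1 [hty]
      exact inv_mul_cancel y
    apply hy1
    have : y ^ 3 = y ^ 2 * y := pow_succ y 2
    rw [hy, h2, one_mul] at this
    exact this.symm
  have hi : ¬ 3 ∣ (closure {x, y}).index := by
    intro hd
    apply hcard
    rw [← (closure {x, y}).card_mul_index]
    exact mul_dvd_mul h9 hd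
  have hp : IsPGroup 3 σ.ker := IsPGroup.of_card (n := 1) (by rw [hc, pow_one])
  have hle := ker_le_commutator_comap σ hσ hp (closure {x, y}) hi
  obtain ⟨a, rfl⟩ := hσ.1 x
  obtain ⟨b, rfl⟩ := hσ.1 y
  obtain ⟨s, rfl⟩ := hσ.1 t
  have h1 : σ.ker = ⊥ := by
    rw [eq_bot_iff]
    intro ζ hζ
    rw [Subgroup.mem_bot]
    refine Cfsg.Agent.Lib.H92Stem.three_abelian σ (fun g hg w => ((Subgroup.mem_center_iff.1 (hσ.2.1 hg)) w).symm) ?_
      a b s hxy htx hty (hle hζ)
    intro g hg
    have h2 : (⟨g, hg⟩ : σ.ker) ^ 3 = 1 := by rw [← hc]; exact pow_card_eq_one'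
    exact congrArg Subtype.val h2
  rw [h1, Subgroup.card_bot] at hc
  norm_num at hc

end Cfsg.Agent.Lib.H58SM
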