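import Cfsg.Agent.Lib.H58SMv
import Cfsg.Agent.Lib.H58SMt

/-!
Schur multiplier engine, part w: wrappers for groups acting on the Leech lattice (helper58)
-/

set_option autoImplicit false

namespace Cfsg.Agent.Lib.H58SM

open Subgroup Cfsg Cfsg.Agent.Lib.SchurSylow Cfsg.Agent.Lib.Golay Cfsg.Agent.Lib.H89LeechMat Cfsg.Agent.Lib.LeechMin

universe u v w

/-- faithfulness -/
theorem faithful_of_simple {G Ω : Type*} [Group G] [IsSimpleGroup G] [MulAction G Ω] {n k : ℕ} {g : ℕ → G} {e : ℕ → Ω}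
    {T : ℕ → ℕ → ℕ} {pi pq : ℕ → ℕ} (A : Act n k g e T pi pq) (hgen : closure {z | ∃ i < k, z = g i} = ⊤)
    (hn : 1 < n) (y : G) (hy : ∀ a < n, y • e a = e a) : y = 1 := by
  let N : Subgroup G :=
    { carrier := {y | ∀ a < n, y • e a = e a}
      one_mem' := fun a _ => one_smul _ _
      mul_mem' := fun {y z} hy hz a ha => by rw [mul_smul, hz a ha, hy a ha]
      inv_mem' := fun {y} hy a ha => by rw [inv_smul_eq_iff, hy a ha] }
  have hN : N.Normal := by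
    refine ⟨fun y hy z a ha => ?_⟩
    obtain ⟨b, hb, h⟩ := A.exists_pt hgen z⁻¹ ha
    rw [mul_smul, mul_smul, h, hy b hb, ← h, smul_inv_smul]
  rcases hN.eq_bot_or_eq_top with h | h
  · have : y ∈ N := hy
    rw [h, Subgroup.mem_bot] at this
    exact this
  · exfalso
    obtain ⟨z, hz⟩ := A.exists_smul hn
    have h1 : z ∈ N := by rw [h]; trivial
    rw [h1 0 (by omega)] at hz
    exact absurd (A.inj (by omega) hn hz) (by norm_num)

/-- words of nodes are valid and have the given tables -/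
def ndOk (n k r : ℕ) (T TH : ℕ → ℕ → ℕ) (wN : ℕ → List ℕ) : Bool :=
  alln (fun i => ((wN i).all fun l => Nat.blt l (Nat.mul 2 k)) &&
    alln (fun a => Nat.beq (Dat.ptf T (wN i) a) (TH (Nat.mul 2 i) a)) n) r

/-- the words fix the first point -/
def fxOk (k r : ℕ) (T : ℕ → ℕ → ℕ) (wN : ℕ → List ℕ) : Bool :=
  alln (fun i => ((wN i).all fun l => Nat.blt l (Nat.mul 2 k)) && Nat.beq (Dat.ptf T (wN i) 0) 0) r

theorem nd_fwd {G Ω : Type*} [Group G] [MulAction G Ω] {n k r : ℕ} {g : ℕ → G} {e : ℕ → Ω}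
    {T TH : ℕ → ℕ → ℕ} {pi pq : ℕ → ℕ} (A : Act n k g e T pi pq) {wN : ℕ → List ℕ} (h : ndOk n k r T TH wN = true) :
    ∀ i < r, ∀ a < n, ev g (wN i) • e a = e (TH (2 * i) a) := by
  intro i hi a ha
  have h1 := alln_iff.1 h i hi
  rw [Bool.and_eq_true, List.all_eq_true] at h1
  rw [A.smul_ev (fun l hl => Sol.blt_iff.1 (h1.1 l hl)) ha, ← Dat.ptf_eq]
  congr 1
  exact Sol.beq_iff.1 (alln_iff.1 h1.2 a ha)

theorem nd_fix {G Ω : Type*} [Group G] [MulAction G Ω] {n k r : ℕ} {g : ℕ → G} {e : ℕ → Ω}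
    {T : ℕ → ℕ → ℕ} {pi pq : ℕ → ℕ} (A : Act n k g e T pi pq) {wN : ℕ → List ℕ} (h : fxOk k r T wN = true) :
    ∀ i < r, ev g (wN i) • e 0 = e 0 := by
  intro i hi
  have h1 := alln_iff.1 h i hi
  rw [Bool.and_eq_true, List.all_eq_true] at h1
  rw [A.smul_ev (fun l hl => Sol.blt_iff.1 (h1.1 l hl)) A.pos, ← Dat.ptf_eq]
  congr 1
  exact Sol.beq_iff.1 h1.2

/-- relators in nodes, checked by tables -/
def rlOk (n r J : ℕ) (TH : ℕ → ℕ → ℕ) (R : ℕ → List ℕ) : Bool :=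
  alln (fun j => ((R j).all fun l => Nat.blt l (Nat.mul 2 r)) &&
    alln (fun a => Nat.beq (Dat.ptf TH (R j) a) a) n) J

theorem nd_rel {G Ω : Type*} [Group G] [MulAction G Ω] {n r J : ℕ} {h : ℕ → G} {e : ℕ → Ω}
    {TH : ℕ → ℕ → ℕ} (hT : Sims.tabOk n r TH = true) (hfwd : ∀ i < r, ∀ a < n, h i • e a = e (TH (2 * i) a))
    (hf : ∀ y : G, (∀ a < n, y • e a = e a) → y = 1) {R : ℕ → List ℕ} (hR : rlOk n r J TH R = true) :
    ∀ j < J, ev h (R j) = 1 := by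
  unfold Sims.tabOk at hT
  rw [Bool.and_eq_true] at hT
  refine rel_of_tab (k := r) (fun l hl a ha => Sol.blt_iff.1 (alln_iff.1 (alln_iff.1 hT.1 l hl) a ha)) hfwd ?_ hf ?_ ?_
  · intro i hi a ha
    have h1 := alln_iff.1 (alln_iff.1 hT.2 i hi) a ha
    rw [frc_eq] at h1
    exact Sol.beq_iff.1 h1
  · intro j hj l hl
    have h1 := alln_iff.1 hR j hj
    rw [Bool.and_eq_true, List.all_eq_true] at h1
    exact Sol.blt_iff.1 (h1.1 l hl)
  · intro j hj a ha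
    have h1 := alln_iff.1 hR j hj
    rw [Bool.and_eq_true] at h1
    rw [← Dat.ptf_eq]
    exact Sol.beq_iff.1 (alln_iff.1 h1.2 a ha)

theorem tabOk_mono {n r r' : ℕ} {TH : ℕ → ℕ → ℕ} (hr : r ≤ r') (h : Sims.tabOk n r' TH = true) :
    Sims.tabOk n r TH = true := by
  unfold Sims.tabOk at h ⊢
  rw [Bool.and_eq_true] at h ⊢
  exact ⟨alln_iff.2 fun l hl => alln_iff.1 h.1 l (by
    have : l < 2 * r := hl
    show l < 2 * r'
    omega), alln_iff.2 fun j hj => alln_iff.1 h.2 j (by omega)⟩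

/-- a point stabiliser generated by elements of order prime to `p`, by a chain on the small set -/
theorem odds_of_chain {p : ℕ} [Fact p.Prime] {G Ω : Type*} [Group G] [Finite G] [MulAction G Ω]
    {n k r k' : ℕ} {g : ℕ → G} {e : ℕ → Ω} {T TH : ℕ → ℕ → ℕ} {pi pq : ℕ → ℕ} (A : Act n k g e T pi pq)
    {n2 : ℕ} {e2 : ℕ → Ω} {T2 : ℕ → ℕ → ℕ} {pi2 pq2 : ℕ → ℕ} (A2 : Act n2 k g e2 T2 pi2 pq2)
    (hf : ∀ y : G, (∀ a < n, y • e a = e a) → y = 1) {wN W R : ℕ → List ℕ} (hr : r ≤ k')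
    (hnd : ndOk n k r T TH wN = true) (hfx : fxOk k r T2 wN = true)
    (hT : Sims.tabOk n k' TH = true) (hw : Sims.wrdOk n r k' TH W = true)
    (hR : rlOk n r r TH R = true) (hRN : ∀ i < r, ∃ N, ¬ p ∣ N ∧ R i = List.replicate N (2 * i))
    {L : List (ℕ × ℕ × (ℕ → ℕ) × (ℕ → ℕ))} (hL : Sims.chainOk n TH k' L [] = true)
    (hcard : Nat.card (MulAction.stabilizer G (e2 0)) ≤ (L.map fun q => q.2.1 + 1).prod) :
    odds p (MulAction.stabilizer G (e2 0)) = ⊤ := by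
  have h1 := nd_fwd A hnd
  refine odds_top (e2 0) (fun i => ev g (wN i)) r (nd_fix A2 hfx) ?_ (hcard.trans ?_)
  · intro i hi
    obtain ⟨N, hN, h2⟩ := hRN i hi
    refine ⟨N, hN, ?_⟩
    have h3 := nd_rel (tabOk_mono hr hT) h1 hf hR i hi
    rw [h2, ev_replicate] at h3
    exact h3
  · exact Sims.card_of_chain hr (fun a ha b hb h => A.inj ha hb h) hT hw h1 hL

namespace LV

theorem mvTab_iff {P : List ℕ} {K : ℕ} {cd f : ℕ → ℕ} {s len : ℕ} (h : mvTab P K cd f s len = true) :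
    ∀ a, s ≤ a → a < s + len → mvOK P K (cd a) (cd (f a)) = true := by
  intro a h1 h2
  have h3 := alln_iff.1 h (a - s) (by omega)
  rw [frc_eq, frc_eq, frc_eq] at h3
  rwa [show Nat.add s (a - s) = a from by show s + (a - s) = a; omega] at h3

/-- the action on a table of coded vectors -/
theorem mkAct {G : Subgroup Co0} {k : ℕ} {g : ℕ → G} (D : Gens k fun i => (g i : Co0)) (Q : Dat) (hk : Q.k = k)
    (hn : 0 < Q.n) (t1 : Q.tab1 = true) (t2 : Q.tab2 = true) (t3 : Q.tab3 = true) {cd : ℕ → ℕ}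
    (h0 : latC (cd 0) = true) (hN : idot (cd 0) (cd 0) ≤ 225) (hcd : cdOK cd Q.n = true)
    (hmv : ∀ i < k, ∀ a < Q.n, mvOK (D.P i) (D.K i) (cd a) (cd (Q.T (2 * i) a)) = true) :
    Act Q.n k g (pnt cd) Q.T Q.pi Q.pq := by
  subst hk
  have htree : ∀ b < Q.n, b ≠ 0 → Q.pi b < Q.k ∧ Q.pq b < b ∧ Q.T (2 * Q.pi b) (Q.pq b) = b := by
    intro b hb h0
    have h := alln_iff.1 t3 b hb
    rw [beq_ne h0, cond_false, frc_eq, frc_eq, Bool.and_eq_true, Bool.and_eq_true, Sol.blt_iff, Sol.blt_iff,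
      Sol.beq_iff] at h
    exact h
  have hT : ∀ i < Q.k, ∀ a < Q.n, Q.T (2 * i) a < Q.n := fun i hi a ha =>
    Sol.blt_iff.1 (alln_iff.1 (alln_iff.1 t1 (2 * i) (by show 2 * i < 2 * Q.k; omega)) a ha)
  exact Dat.act_of hn t1 t2 t3 (fwd_of D h0 hN hcd hT htree hmv) (base_of D h0 hN hcd hn htree hmv)

end LV

end Cfsg.Agent.Lib.H58SM
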