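import Cfsg.Agent.Lib.H58SMHSa
import Cfsg.Agent.Lib.H58SMHSb
import Cfsg.Agent.Lib.H58SMw

/-!
A Sylow 2-subgroup of U3(5) in the Higman-Sims group (helper58)
-/

set_option autoImplicit false

namespace Cfsg.Agent.Lib.H58SM.HSr

open Cfsg.Agent.Lib.H58SM

def TS0 : ℕ := 0x5eb6fdd7c70f0c136600fa0fde85455cd078a54c47952e95a8d7810e78802371ac1762b762990aa9d294742896173221013724e8316d8c8842ee7136b300606945896870542b2ee121f668ea2a4c1b1cdb8b279189594b2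

def TS1 : ℕ := 0x12f181cc31b0077722d3aa409b8d7324d570a8441e952d52e991e7832eb4b59ad7eac344cd7928098f9b1e00cbec6f710628300956c2da911d4d1c221754de57452cd266273440c4238b111fdc4ecada4a02aa41511561d

def TS2 : ℕ := 0x414df5dbf323872ef6d3aa13ecc52724d0c0a7609e952ee408d8010676bc237ad86ae385616905c98fb41ea1ab08722d83575ca8116d8c9164f1622247225e2945c24726051b12c4b2566a6a2a4e3b14da539f8800351a1

def TS3 : ℕ := 0x7825f46be730495b66aba54fde8dc41cd57ac1845e952e92ebb1ea1d5eee6c80b86d228760b9980998b41e8c93084ddca1563073216d881802800636b3271e2945296b64549ba67d23866281504e54984b9127c15915403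

def TSL : List ℕ := [TS0, TS1, TS2, TS3]

def T (l a : ℕ) : ℕ := gt (TSL.getD l 0) 7 127 a

def WNL : List (List ℕ) := [[2, 0, 2, 1, 3, 1, 2, 2, 0, 3, 1, 3, 1],
  [3, 0, 2, 0, 3, 1, 3, 0, 2, 0, 2, 1, 3, 3, 0, 2, 0, 3, 1, 3, 0, 2, 0, 2, 1, 3, 3, 0, 2, 0, 3, 1, 3, 0, 2, 0, 2, 1, 3, 3, 0, 2, 0, 3, 1, 3, 0, 2, 0, 2, 2, 1, 3, 1, 2, 2, 0, 3, 1, 3, 1]]

def wN (j : ℕ) : List ℕ := WNL.getD j []

def RL : List (List ℕ) := [[0, 0, 0, 0, 0, 0, 0, 0],
  [1, 1, 1, 3, 0, 2],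
  [1, 1, 1, 1, 2, 2]]

def R (j : ℕ) : List ℕ := RL.getD j []

set_option maxRecDepth 1000000

theorem tab_ok : Sims.tabOk 100 2 T = true := by decide +kernel

theorem nd_ok : ndOk 100 2 2 HSa.Q.T T wN = true := by decide +kernel

theorem fx_ok : fxOk 2 2 HSb.Q.T wN = true := by decide +kernel

theorem rl_ok : rlOk 100 2 3 T R = true := by decide +kernel

end Cfsg.Agent.Lib.H58SM.HSr
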