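import Cfsg.Agent.Lib.H58SMHSa
import Cfsg.Agent.Lib.H58SMw

/-!
A Sylow 3-normaliser in the Higman-Sims group (helper58)
-/

set_option autoImplicit false

namespace Cfsg.Agent.Lib.H58SM.HSt

open Cfsg.Agent.Lib.H58SM

def TS0 : ℕ := 0xc18ed62af7b0df8f76cc6b93e154776e8d89d5a6b360b6ad3a54144499251cb4a7904a90e8e1b6f14cbf8704c407af9e142ce5c3624d5a3164895af1ab962a529d3241284f9d0e683102e10a93220878e182c5080014181

def TS1 : ℕ := 0xc582ee3b97ad57a586cd0bf3a4d4911e8c6ad3e6c380f213bb761b44675593068b97ada6e95296ea1325988d24b407a51d4270dc53465f988288b3d2af8a397049ab11eac6ac189c5901220f870c14b84264410e0228003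

def TS2 : ℕ := 0x6730e43bf79cdc3ca9d52af064cd76fa8c746ca24bc45e1535d6cfd48154a60376168f90dc624b255ab860b1fe395404ce101cc0d34994b43a8823c0d1a7936248ca55e388d6c29db1040285dd5059e85b5155820084181

def TS3 : ℕ := 0x612c9c0bf7865c8c1dbbeae5214491628ae3ab2a6298beabba07834dc126b4363484a0a766eb47445aa4c738db32f1deb20b6928b2498c389e8810f8b6d1e17e9cca99429b413868a9078594391a396ab547c4210210003

def TS4 : ℕ := 0x67309c3bf4465c821dbacae79dc492caf1d5cfa6e2961a9c246517d4c122dc03739411aae9cb4b281ab8c7498b08b3c5d810a92bd06994a48e402362f5a81c7e04c983e387c6c201e222a584dd5a286abb5282a14e08d12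

def TS5 : ℕ := 0x67309c3bf4465c821dbacae79dc492caf1d5cfa6e2961a9c246517d4c122dc03739411aae9cb4b281ab8c7498b08b3c5d810a92bd06994a48e402362f5a81c7e04c983e387c6c201e222a584dd5a286abb5282a14e08d12

def TSL : List ℕ := [TS0, TS1, TS2, TS3, TS4, TS5]

def T (l a : ℕ) : ℕ := gt (TSL.getD l 0) 7 127 a

def WNL : List (List ℕ) := [[0],
  [3, 1, 2, 1, 3, 0, 2, 0, 2, 0, 0, 3, 1, 2, 1, 3, 0, 3, 1, 3, 0, 0],
  [2, 0, 2, 1, 3, 0, 3, 1, 3, 1, 2, 0, 2, 1, 2, 0, 3, 0, 2, 0, 3, 1, 2]]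

def wN (j : ℕ) : List ℕ := WNL.getD j []

def RL : List (List ℕ) := [[0, 0, 0],
  [2, 2, 2],
  [3, 1, 2, 0],
  [1, 5, 0, 4],
  [2, 5, 2, 4]]

def R (j : ℕ) : List ℕ := RL.getD j []

set_option maxRecDepth 1000000

theorem tab_ok : Sims.tabOk 100 3 T = true := by decide +kernel

theorem nd_ok : ndOk 100 2 3 HSa.Q.T T wN = true := by decide +kernel

theorem rl_ok : rlOk 100 3 5 T R = true := by decide +kernel

end Cfsg.Agent.Lib.H58SM.HSt
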