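import Cfsg.Agent.Lib.LeechSyl4

/-!
Simplicity of `HS` and `McL`.
-/

set_option autoImplicit false

namespace Cfsg.Agent.Lib.LeechSyl

open Cfsg Cfsg.Agent.Lib.Golay Cfsg.Agent.Lib.LeechMin Cfsg.Agent.Lib.GolayCoset Cfsg.Agent.Lib.LeechXi
  Cfsg.Agent.Lib.LeechTrans Cfsg.Agent.Lib.LeechCo2 Cfsg.Agent.Lib.LeechFrame Cfsg.Agent.Lib.LeechCount
  Cfsg.Agent.Lib.LeechOrder Cfsg.Agent.Lib.LeechMod Cfsg.Agent.Lib.LeechQuot Cfsg.Agent.Lib.LeechChain
open scoped Pointwise

theorem hsH_M22 : M22 ≤ fixL [U none, S hab] := by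
  rintro _ ⟨σ, hσ, rfl⟩
  rw [mem_fix2]
  exact ⟨M22_fix hσ const_U, M22_fix hσ const_S⟩

theorem mclH_M22 : M22 ≤ fixL [X hab, U none] := by
  rintro _ ⟨σ, hσ, rfl⟩
  rw [mem_fix2]
  exact ⟨M22_fix hσ const_X, M22_fix hσ const_U⟩

theorem hsH_norm : ∀ x ∈ fixL [U none, S hab], x ∈ Subgroup.normalizer (P11 : Set Co0) → x ∈ M22 := by
  intro x hx hn
  rw [mem_fix2] at hx
  have h1 := fix_of_norm hn rh_X
  have h2 : x • X hab ∈ cls [(U none, 24), (S hab, 0)] 32 := by
    have := (mem_cls_smul x).1 memHS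
    simp only [List.map_cons, List.map_nil, hx.1, hx.2] at this
    exact this
  exact mem_M22 (fixX h1 h2) hx.2 hx.1

theorem mclH_norm : ∀ x ∈ fixL [X hab, U none], x ∈ Subgroup.normalizer (P11 : Set Co0) → x ∈ M22 := by
  intro x hx hn
  rw [mem_fix2] at hx
  have h1 := fix_of_norm hn rh_S
  have h2 : x • S hab ∈ cls [(X hab, 0), (U none, 16)] 32 := by
    have := (mem_cls_smul x).1 mem_S2025
    simp only [List.map_cons, List.map_nil, hx.1, hx.2] at this
    exact this
  exact mem_M22 hx.1 (fixS h1 h2) hx.2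

/-- prime powers dividing a number whose prime factors are known -/
theorem exp_le {n r e b : ℕ} (h : r ^ e ∣ n) (hb : ¬ r ^ (b + 1) ∣ n) : e ≤ b := by
  by_contra hcon
  exact hb ((pow_dvd_pow r (by omega)).trans h)

theorem primes_of {n : ℕ} {r : ℕ} (hr : r.Prime) (h : r ∣ n) (a b c : ℕ)
    (hn : n = 2 ^ a * 3 ^ b * 5 ^ c * 7 * 11) : r = 2 ∨ r = 3 ∨ r = 5 ∨ r = 7 ∨ r = 11 := by
  rw [hn] at h
  have hd : ∀ p, p.Prime → ∀ k, r ∣ p ^ k → r = p := fun p hp k hk =>
    (Nat.prime_dvd_prime_iff_eq hr hp).1 (hr.dvd_of_dvd_pow hk)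
  rcases (Nat.Prime.dvd_mul hr).1 h with h | h
  · rcases (Nat.Prime.dvd_mul hr).1 h with h | h
    · rcases (Nat.Prime.dvd_mul hr).1 h with h | h
      · rcases (Nat.Prime.dvd_mul hr).1 h with h | h
        · left; exact hd 2 (by norm_num) _ h
        · right; left; exact hd 3 (by norm_num) _ h
      · right; right; left; exact hd 5 (by norm_num) _ h
    · right; right; right; left; exact hd 7 (by norm_num) 1 (by rwa [pow_one])
  · right; right; right; right; exact hd 11 (by norm_num) 1 (by rwa [pow_one])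

theorem HS_simple : IsSimpleGroup (fixL [U none, S hab]) := by
  have hcard := chainHS.2
  haveI : Nontrivial (fixL [U none, S hab]) := by
    rw [← Finite.one_lt_card_iff_nontrivial, hcard]; norm_num
  refine ⟨fun K hK => ?_⟩
  rcases main11 (fixL [U none, S hab]) hsH_M22 hsH_norm (by rw [hcard]; norm_num) K with h | ⟨h1, h2⟩
  · right; exact h
  · left
    apply Subgroup.eq_bot_of_card_eq
    by_contra hne
    obtain ⟨r, hr, hrK⟩ := Nat.exists_prime_and_dvd hne
    obtain ⟨e, he, hd, hm⟩ := h2 r hr hrK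
    rw [hcard] at hd
    have hrn : r ∣ 44352000 := (dvd_pow_self r (by omega)).trans hd
    rcases primes_of hr hrn 9 2 3 (by norm_num) with rfl | rfl | rfl | rfl | rfl
    · have := exp_le (b := 9) hd (by norm_num)
      interval_cases e <;> simp_all
    · have := exp_le (b := 2) hd (by norm_num)
      interval_cases e <;> simp_all
    · have := exp_le (b := 3) hd (by norm_num)
      interval_cases e <;> simp_all
    · have := exp_le (b := 1) hd (by norm_num)
      interval_cases e <;> simp_all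
    · exact h1 hrK

theorem mem_X275 {c : GolayPt} (h : (none : GolayPt) ≠ c) (hc : c ≠ b0) : X h ∈ cls [(X hab, 16), (U none, 24)] 32 := by
  rw [mem_cls2]
  refine ⟨sqNorm_X h, ?_, ?_⟩
  · rw [dot_X, coe_X, Pi.add_apply, Pi.add_apply, Pi.single_eq_same, Pi.single_eq_of_ne h,
      Pi.single_eq_of_ne (Ne.symm hab), Pi.single_eq_of_ne (Ne.symm hc)]
    norm_num
  · rw [dot_comm, dot_X, U_none]
    rcases c with _ | j
    · exact absurd rfl h
    · rw [U_some]; norm_num

/-- faithfulness on the 275 vectors -/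
theorem faith275 {g : Co0} (h1 : g • X hab = X hab) (h2 : g • U none = U none)
    (h : ∀ y ∈ cls [(X hab, 16), (U none, 24)] 32, g • y = y) : g = 1 := by
  have hX : ∀ (c : GolayPt) (h : (none : GolayPt) ≠ c), g • X h = X h := by
    intro c hc
    by_cases hcb : c = b0
    · subst hcb; exact h1
    · exact h _ (mem_X275 hc hcb)
  apply ext_smul
  intro v
  rw [one_smul]
  apply Subtype.ext
  have e1 : ∀ j : ZMod 23, ((g • v : leechLattice) : GolayPt → ℤ) none + ((g • v : leechLattice) : GolayPt → ℤ) (some j) =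
      (v : GolayPt → ℤ) none + (v : GolayPt → ℤ) (some j) := by
    intro j
    have h3 := dot_smul g (X (Option.some_ne_none j).symm) v
    rw [hX, dot_X, dot_X] at h3
    omega
  have e2 := dot_smul g (U none) v
  rw [h2, dotU, dotU] at e2
  have e3 : ∑ j : ZMod 23, (((g • v : leechLattice) : GolayPt → ℤ) none + ((g • v : leechLattice) : GolayPt → ℤ) (some j)) =
      ∑ j : ZMod 23, ((v : GolayPt → ℤ) none + (v : GolayPt → ℤ) (some j)) :=
    Finset.sum_congr rfl fun j _ => e1 j
  rw [Finset.sum_add_distrib, Finset.sum_add_distrib, Finset.sum_const, Finset.sum_const, Finset.card_univ, ZMod.card,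
    nsmul_eq_mul, nsmul_eq_mul] at e3
  push_cast at e3
  have e4 : ((g • v : leechLattice) : GolayPt → ℤ) none = (v : GolayPt → ℤ) none := by linarith
  funext i
  rcases i with _ | j
  · exact e4
  · have := e1 j
    omega

theorem McL_simple : IsSimpleGroup (fixL [X hab, U none]) := by
  have hcard := card_McL
  haveI : Nontrivial (fixL [X hab, U none]) := by
    rw [← Finite.one_lt_card_iff_nontrivial, hcard]; norm_num
  refine ⟨fun K hK => ?_⟩
  rcases main11 (fixL [X hab, U none]) mclH_M22 mclH_norm (by rw [hcard]; norm_num) K with h | ⟨h1, h2⟩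
  · right; exact h
  · left
    -- `K` is a 3-group
    have h3 : ∀ r, r.Prime → r ∣ Nat.card K → r = 3 := by
      intro r hr hrK
      obtain ⟨e, he, hd, hm⟩ := h2 r hr hrK
      rw [hcard] at hd
      have hrn : r ∣ 898128000 := (dvd_pow_self r (by omega)).trans hd
      rcases primes_of hr hrn 7 6 3 (by norm_num) with rfl | rfl | rfl | rfl | rfl
      · exfalso
        have := exp_le (b := 7) hd (by norm_num)
        interval_cases e <;> simp_all
      · rfl
      · exfalso
        have := exp_le (b := 3) hd (by norm_num)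
        interval_cases e <;> simp_all
      · exfalso
        have := exp_le (b := 1) hd (by norm_num)
        interval_cases e <;> simp_all
      · exact absurd hrK h1
    have h4 := Nat.eq_prime_pow_of_unique_prime_dvd (n := Nat.card K) (p := 3) Nat.card_pos.ne'
      (fun {d} hd hdn => h3 d hd hdn)
    haveI : Fact (Nat.Prime 3) := ⟨by norm_num⟩
    have hKp : IsPGroup 3 K := IsPGroup.of_card h4
    -- the image in `Co0`
    set K' := K.map (fixL [X hab, U none]).subtype with hK'
    have hKp' : IsPGroup 3 K' := hKp.map _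
    have hmem : ∀ g ∈ K', g ∈ fixL [X hab, U none] := by
      rintro _ ⟨x, -, rfl⟩; exact x.2
    obtain ⟨w, hw, hfix⟩ := exists_fixed K' hKp' (cls [(X hab, 16), (U none, 24)] 32)
      (by
        intro g hg a ha
        exact smul_mem_cls (by
          rw [show ([(X hab, (16 : ℤ)), (U none, 24)] : List (leechLattice × ℤ)).map Prod.fst = [X hab, U none] from rfl]
          exact hmem g hg) ha)
      (by rw [cls275]; norm_num)
    have hall : ∀ g ∈ K', ∀ y ∈ cls [(X hab, 16), (U none, 24)] 32, g • y = y := by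
      intro g hg y hy
      obtain ⟨a, ha, ha'⟩ := chain275.1 y hy
      obtain ⟨b, hb, hb'⟩ := chain275.1 w hw
      -- `a b⁻¹` maps `w` to `y`
      have hc : a * b⁻¹ ∈ fixL [X hab, U none] := Subgroup.mul_mem _ ha (Subgroup.inv_mem _ hb)
      have hcw : (a * b⁻¹) • w = y := by rw [mul_smul, ← hb', inv_smul_smul, ha']
      have hconj : (a * b⁻¹)⁻¹ * g * (a * b⁻¹) ∈ K' := by
        obtain ⟨x, hx, rfl⟩ := hg
        have := hK.conj_mem x hx (⟨a * b⁻¹, hc⟩⁻¹)
        refine ⟨_, this, ?_⟩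
        simp [mul_assoc]
      have h5 := hfix _ hconj
      rw [mul_smul, mul_smul, hcw, inv_smul_eq_iff, hcw] at h5
      exact h5
    rw [eq_bot_iff]
    intro x hx
    have hx' : (x : Co0) ∈ K' := ⟨x, hx, rfl⟩
    have hx2 := mem_fix2.1 x.2
    have := faith275 hx2.1 hx2.2 (hall _ hx')
    rw [Subgroup.mem_bot]
    exact Subtype.ext this

/-- conjugate subgroups are isomorphic -/
noncomputable def conjEquiv (k : Co0) (A B : Subgroup Co0) (h : ∀ g, g ∈ A ↔ k * g * k⁻¹ ∈ B) : A ≃* B where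
  toFun a := ⟨k * a * k⁻¹, (h a).1 a.2⟩
  invFun b := ⟨k⁻¹ * b * k, by
    rw [h]
    have : k * (k⁻¹ * (b : Co0) * k) * k⁻¹ = b := by group
    rw [this]; exact b.2⟩
  left_inv a := Subtype.ext (by
    show k⁻¹ * (k * (a : Co0) * k⁻¹) * k = a
    group)
  right_inv b := Subtype.ext (by
    show k * (k⁻¹ * (b : Co0) * k) * k⁻¹ = b
    group)
  map_mul' a b := Subtype.ext (by
    show k * ((a : Co0) * b) * k⁻¹ = k * (a : Co0) * k⁻¹ * (k * b * k⁻¹)
    group)

theorem conj_fix {k g : Co0} {a b : leechLattice} (h : k • a = b) : (k * g * k⁻¹) • b = b ↔ g • a = a := by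
  rw [mul_smul, mul_smul, ← h, inv_smul_smul]
  constructor
  · intro h1; exact MulAction.injective k h1
  · intro h1; rw [h1]

theorem isHS (v w : leechLattice) (hv : sqNorm (v : GolayPt → ℤ) = 48) (hw : sqNorm (w : GolayPt → ℤ) = 48)
    (hvw : dotInt (v : GolayPt → ℤ) (w : GolayPt → ℤ) = -32) :
    IsHS ↥(MulAction.stabilizer Co0 v ⊓ MulAction.stabilizer Co0 w) := by
  obtain ⟨h1, h2⟩ := hs_sum hv hw hvw
  obtain ⟨k, hk1, hk2⟩ := stdHS h1 h2
  let e : ↥(MulAction.stabilizer Co0 v ⊓ MulAction.stabilizer Co0 w) ≃* fixL [U none, S hab] :=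
    conjEquiv k _ _ (by
      intro g
      rw [mem_fix2, conj_fix hk1, conj_fix hk2, Subgroup.mem_inf, MulAction.mem_stabilizer_iff, MulAction.mem_stabilizer_iff]
      constructor
      · rintro ⟨h3, h4⟩
        exact ⟨h3, by rw [smul_add', h3, h4]⟩
      · rintro ⟨h3, h4⟩
        refine ⟨h3, ?_⟩
        rw [smul_add', h3] at h4
        exact add_left_cancel h4)
  exact ⟨isSimpleGroup_of_mulEquiv e.symm HS_simple, by rw [Nat.card_congr e.toEquiv, chainHS.2]⟩

theorem isMcL (v w : leechLattice) (hv : sqNorm (v : GolayPt → ℤ) = 32) (hw : sqNorm (w : GolayPt → ℤ) = 32)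
    (hvw : dotInt (v : GolayPt → ℤ) (w : GolayPt → ℤ) = -8) :
    IsMcL ↥(MulAction.stabilizer Co0 v ⊓ MulAction.stabilizer Co0 w) := by
  obtain ⟨h1, h2⟩ := mcl_sum hv hw hvw
  obtain ⟨k, hk1, hk2⟩ := std23 h1 h2
  let e : ↥(MulAction.stabilizer Co0 v ⊓ MulAction.stabilizer Co0 w) ≃* fixL [X hab, U none] :=
    conjEquiv k _ _ (by
      intro g
      rw [mem_fix2, conj_fix hk1, conj_fix hk2, Subgroup.mem_inf, MulAction.mem_stabilizer_iff, MulAction.mem_stabilizer_iff]
      constructor
      · rintro ⟨h3, h4⟩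
        exact ⟨h3, by rw [smul_add', h3, h4]⟩
      · rintro ⟨h3, h4⟩
        refine ⟨h3, ?_⟩
        rw [smul_add', h3] at h4
        exact add_left_cancel h4)
  exact ⟨isSimpleGroup_of_mulEquiv e.symm McL_simple, by rw [Nat.card_congr e.toEquiv, card_McL]⟩

end Cfsg.Agent.Lib.LeechSyl
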