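import Cfsg.Agent.Lib.H58SMHSc
import Cfsg.Agent.Lib.H58SMHSd
import Cfsg.Agent.Lib.H58SMHSs
import Cfsg.Agent.Lib.H58SMHSu
import Cfsg.Agent.Lib.H58SMHSm
import Cfsg.Agent.Lib.H58SMHSr
import Cfsg.Agent.Lib.H58SMHSt
import Cfsg.Agent.Lib.H58SMx
import Cfsg.Agent.Lib.LeechSyl5

/-!
The stem extensions of the Higman-Sims group (helper58)
-/

set_option autoImplicit false

namespace Cfsg.Agent.Lib.H58SM.HS

open Subgroup Cfsg Cfsg.Agent.Lib.Golay Cfsg.Agent.Lib.LeechMin Cfsg.Agent.Lib.SchurSylow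
open Cfsg.Agent.Lib.LeechChain Cfsg.Agent.Lib.LeechCount Cfsg.Agent.Lib.LeechCo2 Cfsg.Agent.Lib.LeechSyl
open Cfsg.Agent.Lib.H58SM Cfsg.Agent.Lib.H58SM.LV

/-- the group -/
abbrev G : Subgroup Co0 := HSg.GG

instance simple : IsSimpleGroup G := HS_simple

theorem cardG : Nat.card G = 44352000 := chainHS.2

theorem hinj : ∀ a < 100, ∀ b < 100, pnt HSc.cd a = pnt HSc.cd b → a = b :=
  fun _ ha _ hb h => HSc.act.inj ha hb h

theorem fwdS : ∀ i < 2, ∀ a < 100, HSg.gg i • pnt HSc.cd a = pnt HSc.cd (HSs.T (2 * i) a) := by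
  intro i hi a ha
  have h := HSc.act.fwd i hi a ha
  interval_cases i
  · exact h
  · exact h

theorem gen : closure {z | ∃ i < 2, z = HSg.gg i} = ⊤ :=
  Sims.gen_of_chain (k' := 10) (by norm_num) hinj HSs.tab_ok HSs.wrd_ok fwdS HSs.chain_ok (le_of_eq cardG)
    (le_of_eq HSs.prod_eq.symm)

theorem faith (y : G) (hy : ∀ a < 100, y • pnt HSc.cd a = pnt HSc.cd a) : y = 1 :=
  faithful_of_simple HSc.act gen (by norm_num) y hy

theorem relA : ∀ j < HSa.Q.J, ev HSg.gg (HSa.Q.W j) = 1 :=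
  Dat.rel_of (D := HSa.Q.toDat) HSc.act faith HSa.w_ok HSa.rel_ok

theorem relB_ok : alln (fun j => alln (fun a => Nat.beq (Dat.ptf HSa.Q.T (HSb.Q.W j) a) a) 100) HSb.Q.J = true := by
  decide +kernel

theorem relB : ∀ j < HSb.Q.J, ev HSg.gg (HSb.Q.W j) = 1 := by
  refine rel_of_tab (k := 2) HSc.act.ltn HSc.act.fwd HSc.act.bwd faith (Dat.wOk_iff HSb.w_ok) ?_
  intro j hj a ha
  rw [← Dat.ptf_eq]
  exact Sol.beq_iff.1 (alln_iff.1 (alln_iff.1 relB_ok j hj) a ha)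

/-! ### prime 2 -/

theorem cardB : Nat.card (MulAction.stabilizer G (pnt HSd.cd 0)) = 126000 := by
  have h := HSd.act.card_stabilizer gen
  rw [cardG] at h
  exact Nat.eq_of_mul_eq_mul_left (by norm_num : 0 < 352) (h.trans (by norm_num))

theorem fwdR : ∀ i < 2, ∀ a < 100, ev HSg.gg (HSr.wN i) • pnt HSc.cd a = pnt HSc.cd (HSr.T (2 * i) a) :=
  nd_fwd HSc.act HSr.nd_ok

theorem relR : ∀ j < 3, ev (fun i => ev HSg.gg (HSr.wN i)) (HSr.R j) = 1 := nd_rel HSr.tab_ok fwdR faith HSr.rl_ok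

theorem stemB : PStemDvd 2 (MulAction.stabilizer G (pnt HSd.cd 0)) 1 := by
  have hfix := nd_fix HSd.act HSr.fx_ok
  have h0 := relR 0 (by norm_num)
  have h1 := relR 1 (by norm_num)
  have h2 := relR 2 (by norm_num)
  have h3 : ev (fun i => ev HSg.gg (HSr.wN i)) (List.replicate 4 0) ≠ 1 :=
    nd_ne hinj HSr.tab_ok fwdR (by decide) 0 (by norm_num) (by decide +kernel)
  set x := ev HSg.gg (HSr.wN 0) with hx
  set y := ev HSg.gg (HSr.wN 1) with hy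
  have e0 : x ^ 8 = 1 := by
    rw [← ev_replicate (x := fun i => ev HSg.gg (HSr.wN i)) (i := 0)]; exact h0
  have e3 : x ^ 4 ≠ 1 := by
    rw [← ev_replicate (x := fun i => ev HSg.gg (HSr.wN i)) (i := 0)]; exact h3
  have e1 : y * x * y⁻¹ * x⁻¹ * x⁻¹ * x⁻¹ = 1 := by
    have : ev (fun i => ev HSg.gg (HSr.wN i)) (HSr.R 1) = y * x * y⁻¹ * x⁻¹ * x⁻¹ * x⁻¹ := by
      show ((((((1 * y) * x) * y⁻¹) * x⁻¹) * x⁻¹) * x⁻¹) = _
      rw [one_mul]
    rw [← this]; exact h1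
  have e2 : y * y * x⁻¹ * x⁻¹ * x⁻¹ * x⁻¹ = 1 := by
    have : ev (fun i => ev HSg.gg (HSr.wN i)) (HSr.R 2) = y * y * x⁻¹ * x⁻¹ * x⁻¹ * x⁻¹ := by
      show ((((((1 * y) * y) * x⁻¹) * x⁻¹) * x⁻¹) * x⁻¹) = _
      rw [one_mul]
    rw [← this]; exact h2
  refine sd16_stem ⟨x, hfix 0 (by norm_num)⟩ ⟨y, hfix 1 (by norm_num)⟩ (Subtype.ext e0) ?_ (Subtype.ext ?_) (Subtype.ext ?_) ?_
  · intro h
    exact e3 (congrArg Subtype.val h)
  · show y * x * y⁻¹ = x ^ 3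
    calc y * x * y⁻¹ = (y * x * y⁻¹ * x⁻¹ * x⁻¹ * x⁻¹) * x ^ 3 := by group
      _ = x ^ 3 := by rw [e1, one_mul]
  · show y ^ 2 = x ^ 4
    rw [pow_two]
    calc y * y = (y * y * x⁻¹ * x⁻¹ * x⁻¹ * x⁻¹) * x ^ 4 := by group
      _ = x ^ 4 := by rw [e2, one_mul]
  · rw [cardB]; norm_num

theorem oddsB : odds 2 (MulAction.stabilizer G (pnt HSd.cd 0)) = ⊤ := by
  refine odds_of_chain HSc.act HSd.act faith (by norm_num : 2 ≤ 7) HSu.nd_ok HSu.fx_ok HSu.tab_ok HSu.wrd_ok HSu.rl_ok ?_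
    HSu.chain_ok (by rw [cardB, HSu.prod_eq])
  intro i hi
  interval_cases i
  · exact ⟨5, by norm_num, rfl⟩
  · exact ⟨5, by norm_num, rfl⟩

theorem two : PStemDvd 2 G 2 :=
  pStemDvd_of_Q (s := 2) (q := 2) (N := 2) HSb.Q HSd.act gen stemB (not_dvd_of_odds oddsB) relB HSb.tab1_ok HSb.w_ok
    HSb.s_ok HSb.p_ok HSb.p2_ok HSb.nr HSb.nr_ok HSb.zl_ok rfl rfl (by decide) HSb.chkQ HSb.Lr HSb.Rr HSb.row_ok
    HSb.gen_ok HSb.par_ok (by decide) rfl

/-! ### prime 5 -/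

theorem cardA : Nat.card (MulAction.stabilizer G (pnt HSc.cd 0)) = 443520 := by
  have h := HSc.act.card_stabilizer gen
  rw [cardG] at h
  exact Nat.eq_of_mul_eq_mul_left (by norm_num : 0 < 100) (h.trans (by norm_num))

theorem f5 : Fact (Nat.Prime 5) := ⟨by norm_num⟩

attribute [local instance] f5

theorem oddsA : odds 5 (MulAction.stabilizer G (pnt HSc.cd 0)) = ⊤ := by
  refine odds_of_chain HSc.act HSc.act faith (by norm_num : 2 ≤ 10) HSm.nd_ok HSm.fx_ok HSm.tab_ok HSm.wrd_ok HSm.rl_ok ?_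
    HSm.chain_ok (by rw [cardA, HSm.prod_eq])
  intro i hi
  interval_cases i
  · exact ⟨3, by norm_num, rfl⟩
  · exact ⟨11, by norm_num, rfl⟩

theorem five : PStemDvd 5 G 1 := by
  exact pStemDvd_of_Q (s := 1) (q := 1) (N := 1) HSa.Q HSc.act gen
    (Cfsg.Agent.Lib.H92Stem.pStemDvd_of_sq (by rw [cardA]; norm_num)) (not_dvd_of_odds oddsA) relA HSa.tab1_ok HSa.w_ok
    HSa.s_ok HSa.p_ok HSa.p2_ok HSa.nr HSa.nr_ok HSa.zl_ok rfl rfl (by decide) HSa.chkQ HSa.Lr HSa.Rr HSa.row_ok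
    HSa.gen_ok HSa.par_ok (by decide) rfl

/-! ### prime 3 -/

theorem fwdT : ∀ i < 3, ∀ a < 100, ev HSg.gg (HSt.wN i) • pnt HSc.cd a = pnt HSc.cd (HSt.T (2 * i) a) :=
  nd_fwd HSc.act HSt.nd_ok

theorem relT : ∀ j < 5, ev (fun i => ev HSg.gg (HSt.wN i)) (HSt.R j) = 1 := nd_rel HSt.tab_ok fwdT faith HSt.rl_ok

theorem three : PStemDvd 3 G 1 := by
  have h0 := relT 0 (by norm_num)
  have h1 := relT 1 (by norm_num)
  have h2 := relT 2 (by norm_num)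
  have h3 := relT 3 (by norm_num)
  have h4 := relT 4 (by norm_num)
  have n0 : ev (fun i => ev HSg.gg (HSt.wN i)) [0] ≠ 1 :=
    nd_ne hinj HSt.tab_ok fwdT (by decide) 0 (by norm_num) (by decide +kernel)
  have n1 : ev (fun i => ev HSg.gg (HSt.wN i)) [2] ≠ 1 :=
    nd_ne hinj HSt.tab_ok fwdT (by decide) 0 (by norm_num) (by decide +kernel)
  set x := ev HSg.gg (HSt.wN 0) with hx
  set y := ev HSg.gg (HSt.wN 1) with hy
  set t := ev HSg.gg (HSt.wN 2) with ht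
  have e0 : x ^ 3 = 1 := by
    rw [← ev_replicate (x := fun i => ev HSg.gg (HSt.wN i)) (i := 0)]; exact h0
  have e1 : y ^ 3 = 1 := by
    rw [← ev_replicate (x := fun i => ev HSg.gg (HSt.wN i)) (i := 1)]; exact h1
  have e2 : x * y * x⁻¹ * y⁻¹ = 1 := by
    have : ev (fun i => ev HSg.gg (HSt.wN i)) (HSt.R 2) = x * y * x⁻¹ * y⁻¹ := by
      show ((((1 * x) * y) * x⁻¹) * y⁻¹) = _
      rw [one_mul]
    rw [← this]; exact h2
  have e3 : t * x * t⁻¹ * x⁻¹ = 1 := by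
    have : ev (fun i => ev HSg.gg (HSt.wN i)) (HSt.R 3) = t * x * t⁻¹ * x⁻¹ := by
      show ((((1 * t) * x) * t⁻¹) * x⁻¹) = _
      rw [one_mul]
    rw [← this]; exact h3
  have e4 : t * y * t⁻¹ * y = 1 := by
    have : ev (fun i => ev HSg.gg (HSt.wN i)) (HSt.R 4) = t * y * t⁻¹ * y := by
      show ((((1 * t) * y) * t⁻¹) * y) = _
      rw [one_mul]
    rw [← this]; exact h4
  refine nine_stem x y t e0 e1 (fun h => n0 ?_) (fun h => n1 ?_) ?_ ?_ ?_ (by rw [cardG]; norm_num)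
  · show 1 * x = 1
    rw [h, one_mul]
  · show 1 * y = 1
    rw [h, one_mul]
  · calc x * y = (x * y * x⁻¹ * y⁻¹) * (y * x) := by group
      _ = y * x := by rw [e2, one_mul]
  · calc t * x * t⁻¹ = (t * x * t⁻¹ * x⁻¹) * x := by group
      _ = x := by rw [e3, one_mul]
  · calc t * y * t⁻¹ = (t * y * t⁻¹ * y) * y⁻¹ := by group
      _ = y⁻¹ := by rw [e4, one_mul]

theorem stem_two : StemDvd G 2 := by
  apply StemDvd.of_forall
  intro p hp
  by_cases h2 : p = 2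
  · subst h2; exact two
  by_cases h3 : p = 3
  · subst h3; exact three.mono (one_dvd _)
  by_cases h5 : p = 5
  · subst h5; exact five.mono (one_dvd _)
  exact pStem_big 2 9 2 3 77 (by rw [cardG]; norm_num) (by decide +kernel) hp h2 h3 h5

/-! ### the lower bound -/

def wI : List ℕ := [3, 1, 3, 1, 3, 1, 3, 1, 3, 1]
def prN : List (ℕ × ℕ) := [(0, 37), (1, 46), (2, 68), (3, 38), (4, 41), (5, 78), (6, 27), (7, 50), (8, 56), (9, 81), (10, 39), (11, 22), (12, 94), (13, 66), (14, 88), (15, 33), (16, 65), (17, 49), (18, 54), (19, 35), (20, 75), (21, 45), (23, 36), (24, 57), (25, 31), (26, 64), (28, 98), (29, 89), (30, 63), (32, 44), (34, 77), (40, 79), (42, 80), (43, 51), (47, 86), (48, 95), (52, 53), (55, 84), (58, 99), (59, 69), (60, 91), (61, 92), (62, 82), (67, 70), (71, 85), (72, 93), (73, 74), (76, 96), (83, 97), (87, 90)]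
def prs : List (Fin 100 × Fin 100) := prN.map (mkP (by norm_num))
def imI (a : ℕ) : ℕ := ([37, 46, 68, 38, 41, 78, 27, 50, 56, 81, 39, 22, 94, 66, 88, 33, 65, 49, 54, 35, 75, 45, 11, 36, 57, 31, 64, 6, 98, 89, 63, 25, 44, 15, 77, 19, 23, 0, 3, 10, 79, 4, 80, 51, 32, 21, 1, 86, 95, 17, 7, 43, 53, 52, 18, 84, 8, 24, 99, 69, 91, 92, 82, 30, 26, 16, 13, 70, 2, 59, 67, 85, 93, 74, 73, 20, 96, 34, 5, 40, 42, 9, 62, 97, 55, 71, 47, 90, 14, 29, 87, 60, 61, 72, 12, 48, 76, 83, 28, 58] : List ℕ).getD a 0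

theorem wI_ok : alln (fun a => Nat.beq (Dat.ptf HSa.Q.T wI a) (imI a)) 100 = true := by decide +kernel
theorem wI_lt : ∀ l ∈ wI, l < 2 * 2 := by decide

theorem prs_ok' : alln (fun a => Nat.beq (swl prs a) (imI a)) 100 = true := by decide +kernel

theorem prs_ok (a : Fin 100) : (((prs.map fun p => Equiv.swap p.1 p.2).prod a : Fin 100) : ℕ) = imI a := by
  rw [swl_spec]
  exact Sol.beq_iff.1 (alln_iff.1 prs_ok' a a.2)

theorem prN_ok : pwb 100 prN = true := by decide +kernel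
theorem prs_ne : ∀ p ∈ prs, p.1 ≠ p.2 := (pwb_spec _ _ prN_ok).1
theorem prs_pw : prs.Pairwise fun p q => p.1 ≠ q.1 ∧ p.1 ≠ q.2 ∧ p.2 ≠ q.1 ∧ p.2 ≠ q.2 := (pwb_spec _ _ prN_ok).2

theorem prs_odd : Odd (prs.length * (prs.length + 1) / 2) := by
  rw [show prs.length = 50 from rfl]
  decide

theorem imI_ok : alln (fun a => Nat.beq (imI (imI a)) a && Nat.blt (imI a) 100) 100 = true := by decide +kernel

theorem exists_stem : ∃ (Γ : Type) (_ : Group Γ) (_ : Finite Γ) (σ : Γ →* G), IsStemExtension σ ∧ Nat.card σ.ker = 2 := by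
  obtain ⟨ι, hι⟩ := exists_perm_hom HSc.act gen
  set t : G := ev HSg.gg wI with ht
  have h1 : ∀ a < 100, t • pnt HSc.cd a = pnt HSc.cd (imI a) := by
    intro a ha
    rw [ht, HSc.act.smul_ev wI_lt ha, ← Dat.ptf_eq]
    congr 1
    exact Sol.beq_iff.1 (alln_iff.1 wI_ok a ha)
  have h2 : t * t = 1 := by
    apply faith
    intro a ha
    have h3 := alln_iff.1 imI_ok a ha
    rw [Bool.and_eq_true] at h3
    rw [mul_smul, h1 a ha, h1 _ (Sol.blt_iff.1 h3.2)]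
    congr 1
    exact Sol.beq_iff.1 h3.1
  refine Cfsg.Agent.Lib.H92SpinCover.exists_stem_two (perfect_of_simple simple (by rw [cardG]; norm_num)) ι h2 prs
    prs_ne prs_pw ?_ prs_odd
  ext1 a
  apply Fin.ext
  rw [prs_ok a]
  have h3 := alln_iff.1 imI_ok a a.2
  rw [Bool.and_eq_true] at h3
  apply HSc.act.inj (ι t a).2 (Sol.blt_iff.1 h3.2)
  rw [← hι, h1 a a.2]

theorem eV : Spor.leechV = -U none := by
  apply Subtype.ext
  show Spor.vecV = -(U none : GolayPt → ℤ)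
  funext i
  rw [Pi.neg_apply, U_apply]
  revert i
  decide +kernel

theorem eU' : Spor.leechU' = S hab := by
  apply Subtype.ext
  show Spor.vecU' = (S hab : GolayPt → ℤ)
  rw [coe_S]
  decide +kernel

theorem mem_iff (g : Co0) : g ∈ G ↔ g • Spor.leechV = Spor.leechV ∧ g • Spor.leechU' = Spor.leechU' := by
  rw [mem_fix2, eV, eU', smul_neg', neg_inj]

/-- the group of the statement -/
noncomputable def equivHS : G ≃* Spor.HS where
  toFun g := ⟨(g : Co0).1, ⟨(g : Co0).2, ((mem_iff _).1 g.2).1⟩, ((mem_iff _).1 g.2).2⟩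
  invFun g := ⟨⟨g.1, g.2.1.1⟩, (mem_iff _).2 ⟨g.2.1.2, g.2.2⟩⟩
  left_inv _ := rfl
  right_inv _ := rfl
  map_mul' _ _ := rfl

end Cfsg.Agent.Lib.H58SM.HS
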