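import Cfsg.Agent.Lib.H58SMh

/-!
Multiplier of the Higman-Sims group, prime 5 (helper58)
-/

set_option autoImplicit false

namespace Cfsg.Agent.Lib.H58SM.HSa

open Cfsg.Agent.Lib.H58SM

def T0 : ℕ := 0xc18ed62af7b0df8f76cc6b93e154776e8d89d5a6b360b6ad3a54144499251cb4a7904a90e8e1b6f14cbf8704c407af9e142ce5c3624d5a3164895af1ab962a529d3241284f9d0e683102e10a93220878e182c5080014181

def T1 : ℕ := 0xc582ee3b97ad57a586cd0bf3a4d4911e8c6ad3e6c380f213bb761b44675593068b97ada6e95296ea1325988d24b407a51d4270dc53465f988288b3d2af8a397049ab11eac6ac189c5901220f870c14b84264410e0228003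

def T2 : ℕ := 0xc76f0d5bf8a660bd2a2c3bb06e40a749cdab2d6c57ad4165455467ce9afa5c84ec8ea4931e33834d222979097157e85ebb26e9b375e987b33e398b02e316ab16a0525468901e386c899305819424400881a002890e18202

def T3 : ℕ := 0xc77b0dcbf6ebd5c5427cd992f048a74a34a8b121dd8369dc074e6cb5b0cab545f096b358aa8b850a673648f90a04ec4ec9391da1a7e98c3c2e597154651e9324dc80f3e3980c562c88a4a8839e366420806082811a00486

def TL (l : ℕ) : ℕ := ([T0, T1, T2, T3] : List ℕ).getD l 0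

def PIB : ℕ := 0x11151551045404511044504045044104511145111104045110

def PQB : ℕ := 0xc57aedcb96ebd5a5427cd992e4c8911e3468b121c380f1dbb74e5b3566c99305eb96ad58a952950a1325488d0a04078e9d3870d9a3464c182e58b152a50a13244880f1e3868c182c58a12203870c1420406081010200000

def REB : ℕ := 0x6ae1a5f6fddb766b87280007ae9e397601b000199ab4013c05970dd98000c400001958005e00000018285a977d6de00000325910045ba028ab0148000540210098b9400809c0007e980004a012000000000000148000010800001023007d1000000000c2033e2c67800033a0ed5c93ac1c2e00dd68334d1426480000000898015c8008e3ae00005868c2a005c60002400b60000aa8000001200049003e9800e0000000000000c000000a00208000c000000800000000000200000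

def LPB : ℕ := 0x4b0898fa1ca320578960fa19028c3240000018e2fc628b9186000580000002b8548a70003200012f16e2d84e800000264000000005604800011c00000000000258528a419432c408880000000009c0fc4b40008d2580009c079000214000000ee001c7800116228398000f61c8000007081c0000000de00037000000000000000000003a800000000338000000003286c00019034800000000000001b6000740602ac1780000008e1682c8cc0ae13821054076000288467144c4268330600b4000000000001404400033c1180004a078100000000e80e01b06e0000cb88000001c90001de0000001402c0000000002400000018000089d000001a00000000000000000000120000000000e0000301000001000000000008000000000000000000000000000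

def PL : List ℕ := []

def WL : List (List ℕ) := [[0, 0, 0],
  [2, 2, 2],
  [2, 0, 2, 0, 2, 0, 2, 0, 2, 0, 2, 0, 2, 0, 2, 0, 2, 0, 2, 0],
  [3, 0, 3, 0, 3, 0, 3, 0, 3, 0, 3, 0, 3, 0, 3, 0, 3, 0, 3, 0],
  [3, 0, 2, 0, 3, 0, 2, 0, 3, 0, 2, 0, 3, 0, 2, 0, 3, 0, 2, 0, 3, 0, 2, 0, 3, 0, 2, 0, 3, 0, 2, 0],
  [2, 1, 2, 0, 2, 1, 2, 0, 2, 1, 2, 0, 2, 1, 2, 0, 2, 1, 2, 0, 2, 1, 2, 0, 2, 1, 2, 0, 2, 1, 2, 0],
  [3, 1, 2, 0, 3, 1, 2, 0, 3, 1, 2, 0, 3, 1, 2, 0, 3, 1, 2, 0, 3, 1, 2, 0, 3, 1, 2, 0, 3, 1, 2, 0, 3, 1, 2, 0, 3, 1, 2, 0],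
  [3, 0, 2, 1, 2, 0, 3, 0, 2, 1, 2, 0, 3, 0, 2, 1, 2, 0, 3, 0, 2, 1, 2, 0, 3, 0, 2, 1, 2, 0, 3, 0, 2, 1, 2, 0, 3, 0, 2, 1, 2, 0],
  [2, 1, 2, 0, 2, 0, 2, 1, 2, 0, 2, 0, 2, 1, 2, 0, 2, 0, 2, 1, 2, 0, 2, 0, 2, 1, 2, 0, 2, 0, 2, 1, 2, 0, 2, 0, 2, 1, 2, 0, 2, 0],
  [3, 1, 3, 0, 2, 0, 3, 1, 3, 0, 2, 0, 3, 1, 3, 0, 2, 0, 3, 1, 3, 0, 2, 0],
  [3, 1, 2, 0, 2, 0, 3, 1, 2, 0, 2, 0, 3, 1, 2, 0, 2, 0, 3, 1, 2, 0, 2, 0, 3, 1, 2, 0, 2, 0],
  [3, 0, 2, 0, 2, 0, 3, 0, 2, 0, 2, 0, 3, 0, 2, 0, 2, 0, 3, 0, 2, 0, 2, 0, 3, 0, 2, 0, 2, 0, 3, 0, 2, 0, 2, 0, 3, 0, 2, 0, 2, 0],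
  [2, 1, 3, 0, 2, 0, 2, 1, 3, 0, 2, 0, 2, 1, 3, 0, 2, 0, 2, 1, 3, 0, 2, 0, 2, 1, 3, 0, 2, 0]]

def s0 : Stp := Stp.F T0 0

def s1 : Stp := Stp.B T1 0

def s2 : Stp := Stp.F T2 100

def s3 : Stp := Stp.B T3 100

def SL : List (List Stp) := [[s0, s0, s0],
  [s2, s2, s2],
  [s2, s0, s2, s0, s2, s0, s2, s0, s2, s0, s2, s0, s2, s0, s2, s0, s2, s0, s2, s0],
  [s3, s0, s3, s0, s3, s0, s3, s0, s3, s0, s3, s0, s3, s0, s3, s0, s3, s0, s3, s0],
  [s3, s0, s2, s0, s3, s0, s2, s0, s3, s0, s2, s0, s3, s0, s2, s0, s3, s0, s2, s0, s3, s0, s2, s0, s3, s0, s2, s0, s3, s0, s2, s0],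
  [s2, s1, s2, s0, s2, s1, s2, s0, s2, s1, s2, s0, s2, s1, s2, s0, s2, s1, s2, s0, s2, s1, s2, s0, s2, s1, s2, s0, s2, s1, s2, s0],
  [s3, s1, s2, s0, s3, s1, s2, s0, s3, s1, s2, s0, s3, s1, s2, s0, s3, s1, s2, s0, s3, s1, s2, s0, s3, s1, s2, s0, s3, s1, s2, s0, s3, s1, s2, s0, s3, s1, s2, s0],
  [s3, s0, s2, s1, s2, s0, s3, s0, s2, s1, s2, s0, s3, s0, s2, s1, s2, s0, s3, s0, s2, s1, s2, s0, s3, s0, s2, s1, s2, s0, s3, s0, s2, s1, s2, s0, s3, s0, s2, s1, s2, s0],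
  [s2, s1, s2, s0, s2, s0, s2, s1, s2, s0, s2, s0, s2, s1, s2, s0, s2, s0, s2, s1, s2, s0, s2, s0, s2, s1, s2, s0, s2, s0, s2, s1, s2, s0, s2, s0, s2, s1, s2, s0, s2, s0],
  [s3, s1, s3, s0, s2, s0, s3, s1, s3, s0, s2, s0, s3, s1, s3, s0, s2, s0, s3, s1, s3, s0, s2, s0],
  [s3, s1, s2, s0, s2, s0, s3, s1, s2, s0, s2, s0, s3, s1, s2, s0, s2, s0, s3, s1, s2, s0, s2, s0, s3, s1, s2, s0, s2, s0],
  [s3, s0, s2, s0, s2, s0, s3, s0, s2, s0, s2, s0, s3, s0, s2, s0, s2, s0, s3, s0, s2, s0, s2, s0, s3, s0, s2, s0, s2, s0, s3, s0, s2, s0, s2, s0, s3, s0, s2, s0, s2, s0],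
  [s2, s1, s3, s0, s2, s0, s2, s1, s3, s0, s2, s0, s2, s1, s3, s0, s2, s0, s2, s1, s3, s0, s2, s0, s2, s1, s3, s0, s2, s0]]

def nr (i : ℕ) : ℕ × ℕ := ([(3, 0), (3, 1)] : List (ℕ × ℕ)).getD i (0, 0)

def Q : DatQ where
  n := 100
  k := 2
  J := 13
  p := 5
  m := 5
  d := 0
  wb := 7
  mkT := 127
  b0 := 7
  mk0 := 127
  b := 10
  mb := 1023
  LM := 42
  TL := TL
  pi := gt PIB 2 3
  pq := gt PQB 7 127
  W j := WL.getD j []
  S j := SL.getD j []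
  RE := gt REB 7 127
  lp := gt LPB 11 2047
  par t := PL.getD t 0
  Zl := [200, 201]

def Lr : ℕ → ℕ := fun _ => 0

def Rr : ℕ → ℕ := fun _ => 0

def gl : List (ℕ × ℕ × List (ℕ × ℕ)) := []

def CL : List (List (ℕ × ℕ) × List (ℕ × ℕ)) := []

def C (t : ℕ) : List (ℕ × ℕ) × List (ℕ × ℕ) := CL.getD t ([], [])

set_option maxRecDepth 1000000

theorem tab1_ok : Q.toDat.tab1 = true := by decide +kernel

theorem tab2_ok : Q.toDat.tab2 = true := by decide +kernel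

theorem tab3_ok : Q.toDat.tab3 = true := by decide +kernel

theorem w_ok : Q.toDat.wOk = true := by decide +kernel

theorem s_ok : Q.sOk = true := by decide +kernel

theorem p_ok : Q.pOk = true := by decide +kernel

theorem p2_ok : Q.pOk2 = true := by decide +kernel

theorem rel_ok : Q.toDat.relOk = true := by decide +kernel

theorem nr_ok : Q.toDat.nrOk nr = true := by decide +kernel

theorem zl_ok : Q.toDat.zlOk nr = true := by decide +kernel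

theorem row_ok : alln (fun i => Q.rowChk (Lr i) (Rr i)) 0 = true := by decide +kernel

theorem gen_ok : Q.genR 0 Rr gl = true := by decide +kernel

theorem par_ok : Q.parR 0 Rr gl C = true := by decide +kernel

theorem chk_0 : alln (fun x => Q.chk (Nat.add 0 x)) 213 = true := by decide +kernel

theorem chkQ : ∀ x < Q.toDat.N, Q.chk x = true := by
  intro x hx
  have hx : x < 213 := hx

  have h := alln_iff.1 chk_0 (x - 0) (by omega)
  rwa [show Nat.add 0 (x - 0) = x from by show 0 + (x - 0) = x; omega] at h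



end Cfsg.Agent.Lib.H58SM.HSa
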