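import Cfsg.Agent.Lib.H58SMx

/-!
Schur multiplier engine, part y: automorphisms of the Leech lattice fixing a basis, stabilisers (helper58)
-/

set_option autoImplicit false

namespace Cfsg.Agent.Lib.H58SM

open Subgroup Cfsg Cfsg.Agent.Lib.SchurSylow Cfsg.Agent.Lib.Golay Cfsg.Agent.Lib.H89LeechMat Cfsg.Agent.Lib.LeechMin
open Cfsg.Agent.Lib.LeechChain Cfsg.Agent.Lib.LeechTrans Cfsg.Agent.Lib.LeechCo2

universe u v w

/-- semidihedral Sylow subgroups of stabilisers, by relators -/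
theorem sd16_of_nodes {G : Type u} {Ω : Type v} [Group G] [Finite G] [MulAction G Ω] (p : Ω) (h : ℕ → G)
    (hfix : ∀ i < 2, h i • p = p) (h0 : ev h (List.replicate 8 0) = 1) (h1 : ev h [1, 1, 1, 3, 0, 2] = 1)
    (h2 : ev h [1, 1, 1, 1, 2, 2] = 1) (h3 : ev h (List.replicate 4 0) ≠ 1)
    (hc : ¬ 32 ∣ Nat.card (MulAction.stabilizer G p)) : PStemDvd 2 (MulAction.stabilizer G p) 1 := by
  set x := h 0 with hx
  set y := h 1 with hy
  have e0 : x ^ 8 = 1 := by
    rw [← h0]; exact (ev_replicate h 0 8).symm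
  have e3 : x ^ 4 ≠ 1 := by
    intro hh
    apply h3
    rw [← hh]; exact ev_replicate h 0 4
  have e1 : y * x * y⁻¹ * x⁻¹ * x⁻¹ * x⁻¹ = 1 := by
    rw [← h1]
    show _ = ((((((1 * y) * x) * y⁻¹) * x⁻¹) * x⁻¹) * x⁻¹)
    rw [one_mul]
  have e2 : y * y * x⁻¹ * x⁻¹ * x⁻¹ * x⁻¹ = 1 := by
    rw [← h2]
    show _ = ((((((1 * y) * y) * x⁻¹) * x⁻¹) * x⁻¹) * x⁻¹)
    rw [one_mul]
  refine sd16_stem ⟨x, hfix 0 (by norm_num)⟩ ⟨y, hfix 1 (by norm_num)⟩ (Subtype.ext e0) ?_ (Subtype.ext ?_) (Subtype.ext ?_) hc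
  · intro h
    exact e3 (congrArg Subtype.val h)
  · show y * x * y⁻¹ = x ^ 3
    calc y * x * y⁻¹ = (y * x * y⁻¹ * x⁻¹ * x⁻¹ * x⁻¹) * x ^ 3 := by group
      _ = x ^ 3 := by rw [e1, one_mul]
  · show y ^ 2 = x ^ 4
    rw [pow_two]
    calc y * y = (y * y * x⁻¹ * x⁻¹ * x⁻¹ * x⁻¹) * x ^ 4 := by group
      _ = x ^ 4 := by rw [e2, one_mul]

/-- stabilisers in pointwise stabilisers -/
def stabFix (L : List leechLattice) (x : leechLattice) : MulAction.stabilizer (fixL L) x ≃* fixL (x :: L) where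
  toFun g := ⟨(g : fixL L), by
    rw [mem_fixL, List.forall_mem_cons]
    exact ⟨g.2, (g : fixL L).2⟩⟩
  invFun g := ⟨⟨g, fun v hv => g.2 v (List.mem_cons_of_mem _ hv)⟩, g.2 x List.mem_cons_self⟩
  left_inv _ := rfl
  right_inv _ := rfl
  map_mul' _ _ := rfl

/-- groups with the same list up to order -/
def fixSwap (x y : leechLattice) : fixL [x, y] ≃* fixL [y, x] where
  toFun g := ⟨g, by rw [mem_fix2]; exact (mem_fix2.1 g.2).symm⟩
  invFun g := ⟨g, by rw [mem_fix2]; exact (mem_fix2.1 g.2).symm⟩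
  left_inv _ := rfl
  right_inv _ := rfl
  map_mul' _ _ := rfl

/-- check: the combinations of the coded vectors `V` given by `C` are `N` times the unit vectors -/
def spanOK (V : List ℕ) (C : List (List ℤ)) (N : ℤ) : Bool :=
  allLt 24 fun i => allLt 24 fun j =>
    decide ((zs 24 fun k => Int.mul ((C.getD i []).getD k 0) (dv (V.getD k 0) j)) = if i = j then N else 0)

theorem eq_one_of_span {V : List ℕ} {C : List (List ℤ)} {N : ℤ} (hN : N ≠ 0) (h : spanOK V C N = true)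
    {v : ℕ → leechLattice} (hv : ∀ k < 24, (v k : GolayPt → ℤ) = vv (V.getD k 0)) {y : Co0}
    (hy : ∀ k < 24, y • v k = v k) : y = 1 := by
  let φ : leechLattice →+ leechLattice :=
    { toFun := fun x => y • x
      map_zero' := smul_zero' y
      map_add' := smul_add' y }
  have key : ∀ x : leechLattice, N • x = ∑ k ∈ Finset.range 24,
      (∑ i ∈ Finset.range 24, (x : GolayPt → ℤ) (Golay.pt i) * ((C.getD i []).getD k 0)) • v k := by
    intro x
    apply Subtype.ext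
    funext p
    have h1 : ((∑ k ∈ Finset.range 24, (∑ i ∈ Finset.range 24, (x : GolayPt → ℤ) (Golay.pt i) *
        ((C.getD i []).getD k 0)) • v k : leechLattice) : GolayPt → ℤ) p =
        ∑ k ∈ Finset.range 24, (∑ i ∈ Finset.range 24, (x : GolayPt → ℤ) (Golay.pt i) * ((C.getD i []).getD k 0)) *
          (v k : GolayPt → ℤ) p := by
      rw [AddSubgroup.val_finsetSum, Finset.sum_apply]
      refine Finset.sum_congr rfl fun k _ => ?_
      rw [AddSubgroup.coe_zsmul, Pi.smul_apply, smul_eq_mul]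
    rw [h1]
    have h2 : ∀ k ∈ Finset.range 24, (∑ i ∈ Finset.range 24, (x : GolayPt → ℤ) (Golay.pt i) *
        ((C.getD i []).getD k 0)) * (v k : GolayPt → ℤ) p =
        ∑ i ∈ Finset.range 24, (x : GolayPt → ℤ) (Golay.pt i) * (((C.getD i []).getD k 0) * dv (V.getD k 0) (ix p)) := by
      intro k hk
      rw [hv k (Finset.mem_range.1 hk), Finset.sum_mul]
      refine Finset.sum_congr rfl fun i _ => ?_
      show _ * dv (V.getD k 0) (ix p) = _
      ring
    rw [Finset.sum_congr rfl h2, Finset.sum_comm]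
    have h3 : ∀ i ∈ Finset.range 24, ∑ k ∈ Finset.range 24, (x : GolayPt → ℤ) (Golay.pt i) *
        (((C.getD i []).getD k 0) * dv (V.getD k 0) (ix p)) = (x : GolayPt → ℤ) (Golay.pt i) * (if i = ix p then N else 0) := by
      intro i hi
      rw [← Finset.mul_sum]
      congr 1
      have h4 := of_decide_eq_true (allLt_iff.1 (allLt_iff.1 h i (Finset.mem_range.1 hi)) (ix p) (ix_lt p))
      rw [zs_eq] at h4
      exact h4
    rw [Finset.sum_congr rfl h3, Finset.sum_eq_single (ix p)]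
    · rw [if_pos rfl, pt_ix, AddSubgroup.coe_zsmul, Pi.smul_apply, smul_eq_mul, mul_comm]
    · intro i _ hne
      rw [if_neg hne, mul_zero]
    · intro hne
      exact absurd (Finset.mem_range.2 (ix_lt p)) hne
  apply Subtype.ext
  apply Equiv.ext
  intro x
  show φ x = x
  have h5 : N • φ x = N • x := by
    rw [← map_zsmul, key x, map_sum]
    refine Finset.sum_congr rfl fun k hk => ?_
    rw [map_zsmul]
    congr 1
    exact hy k (Finset.mem_range.1 hk)
  apply Subtype.ext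
  funext p
  have h6 := congrFun (congrArg Subtype.val h5) p
  rw [AddSubgroup.coe_zsmul, AddSubgroup.coe_zsmul, Pi.smul_apply, Pi.smul_apply, smul_eq_mul, smul_eq_mul] at h6
  exact mul_left_cancel₀ hN h6

/-- fast evaluation of words -/
noncomputable def ptq (T : ℕ → ℕ → ℕ) (w : List ℕ) : ℕ → ℕ :=
  List.rec (motive := fun _ => ℕ → ℕ) (fun a => a) (fun l _ ih a => frc (T l a) fun b => ih b) w

theorem ptq_eq (T : ℕ → ℕ → ℕ) (w : List ℕ) (a : ℕ) : ptq T w a = pt T w a := by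
  induction w generalizing a with
  | nil => rfl
  | cons l w ih => show frc (T l a) (fun b => ptq T w b) = _; rw [frc_eq, ih]; rfl

/-- relators are checked on a few points -/
theorem rel_of_pts {G Ω : Type*} [Group G] [MulAction G Ω] {n k J : ℕ} {g : ℕ → G} {e : ℕ → Ω} {T : ℕ → ℕ → ℕ}
    {pi pq : ℕ → ℕ} (A : Act n k g e T pi pq) {W : ℕ → List ℕ} (S : List ℕ) (hS : ∀ a ∈ S, a < n)
    (hf : ∀ y : G, (∀ a ∈ S, y • e a = e a) → y = 1) (hw : ∀ j < J, ∀ l ∈ W j, l < 2 * k)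
    (h : alln (fun j => S.all fun a => Nat.beq (ptq T (W j) a) a) J = true) : ∀ j < J, ev g (W j) = 1 := by
  intro j hj
  apply hf
  intro a ha
  rw [A.smul_ev (hw j hj) (hS a ha), ← ptq_eq]
  congr 1
  have h1 := alln_iff.1 h j hj
  rw [List.all_eq_true] at h1
  exact Sol.beq_iff.1 (h1 a ha)

/-- faithfulness on a few points of a table of coded vectors -/
theorem faith_span {G : Subgroup Co0} {cd : ℕ → ℕ} {n : ℕ} (hall : ∀ a < n, (LV.pnt cd a : GolayPt → ℤ) = vv (cd a))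
    {S : List ℕ} (hS : ∀ a ∈ S, a < n) (hlen : S.length = 24) {C : List (List ℤ)} {N : ℤ} (hN : N ≠ 0)
    (h : spanOK (S.map cd) C N = true) (y : G) (hy : ∀ a ∈ S, y • LV.pnt cd a = LV.pnt cd a) : y = 1 := by
  apply Subtype.ext
  have hm : ∀ k < 24, S.getD k 0 ∈ S := by
    intro k hk
    rw [List.getD_eq_getElem _ _ (by rw [hlen]; exact hk)]
    exact List.getElem_mem _
  refine eq_one_of_span hN h (v := fun k => LV.pnt cd (S.getD k 0)) ?_ ?_
  · intro k hk
    show (LV.pnt cd (S.getD k 0) : GolayPt → ℤ) = _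
    rw [hall _ (hS _ (hm k hk)), List.getD_eq_getElem _ _ (by rw [hlen]; exact hk),
      List.getD_eq_getElem _ _ (by rw [List.length_map, hlen]; exact hk), List.getElem_map]
  · intro k hk
    exact hy _ (hm k hk)

/-- the coordinates of the points -/
theorem mkAll {G : Subgroup Co0} {k : ℕ} {g : ℕ → G} (D : LV.Gens k fun i => (g i : Co0)) (Q : Dat) (hk : Q.k = k)
    (t3 : Q.tab3 = true) {cd : ℕ → ℕ}
    (h0 : latC (cd 0) = true) (hN : idot (cd 0) (cd 0) ≤ 225) (hcd : LV.cdOK cd Q.n = true)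
    (hmv : ∀ i < k, ∀ a < Q.n, LV.mvOK (D.P i) (D.K i) (cd a) (cd (Q.T (2 * i) a)) = true) :
    ∀ a < Q.n, (LV.pnt cd a : GolayPt → ℤ) = vv (cd a) := by
  subst hk
  have htree : ∀ b < Q.n, b ≠ 0 → Q.pi b < Q.k ∧ Q.pq b < b ∧ Q.T (2 * Q.pi b) (Q.pq b) = b := by
    intro b hb h0
    have h := alln_iff.1 t3 b hb
    rw [beq_ne h0, cond_false, frc_eq, frc_eq, Bool.and_eq_true, Bool.and_eq_true, Sol.blt_iff, Sol.blt_iff,
      Sol.beq_iff] at h
    exact h
  exact fun a ha => (LV.pnt_all D h0 hN hcd htree hmv a ha).1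

end Cfsg.Agent.Lib.H58SM
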