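import Cfsg.Agent.Lib.H58SMMLc
import Cfsg.Agent.Lib.H58SMMLd
import Cfsg.Agent.Lib.H58SMMLs
import Cfsg.Agent.Lib.H58SMMLu
import Cfsg.Agent.Lib.H58SMMLm
import Cfsg.Agent.Lib.H58SMMLr
import Cfsg.Agent.Lib.H58SMy
import Cfsg.Agent.Lib.LeechSyl5

/-!
The stem extensions of the McLaughlin group (helper58)
-/

set_option autoImplicit false

namespace Cfsg.Agent.Lib.H58SM.ML

open Subgroup Cfsg Cfsg.Agent.Lib.Golay Cfsg.Agent.Lib.LeechMin Cfsg.Agent.Lib.SchurSylow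
open Cfsg.Agent.Lib.LeechChain Cfsg.Agent.Lib.LeechCount Cfsg.Agent.Lib.LeechCo2 Cfsg.Agent.Lib.LeechSyl
open Cfsg.Agent.Lib.H58SM Cfsg.Agent.Lib.H58SM.LV

/-- the group -/
abbrev G : Subgroup Co0 := MLg.GG

instance simple : IsSimpleGroup G := McL_simple

theorem cardG : Nat.card G = 898128000 := card_McL

theorem hinj : ∀ a < 275, ∀ b < 275, pnt MLc.cd a = pnt MLc.cd b → a = b :=
  fun _ ha _ hb h => MLc.act.inj ha hb h

theorem fwdS : ∀ i < 2, ∀ a < 275, MLg.gg i • pnt MLc.cd a = pnt MLc.cd (MLs.T (2 * i) a) := by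
  intro i hi a ha
  have h := MLc.act.fwd i hi a ha
  interval_cases i
  · exact h
  · exact h

theorem gen : closure {z | ∃ i < 2, z = MLg.gg i} = ⊤ :=
  Sims.gen_of_chain (k' := 12) (by norm_num) hinj MLs.tab_ok MLs.wrd_ok fwdS MLs.chain_ok (le_of_eq cardG)
    (le_of_eq MLs.prod_eq.symm)

theorem faith (y : G) (hy : ∀ a < 275, y • pnt MLc.cd a = pnt MLc.cd a) : y = 1 :=
  faithful_of_simple MLc.act gen (by norm_num) y hy

theorem relA : ∀ j < MLa.Q.J, ev MLg.gg (MLa.Q.W j) = 1 :=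
  Dat.rel_of (D := MLa.Q.toDat) MLc.act faith MLa.w_ok MLa.rel_ok

theorem relB_ok : alln (fun j => alln (fun a => Nat.beq (Dat.ptf MLa.Q.T (MLb.Q.W j) a) a) 275) MLb.Q.J = true := by
  decide +kernel

theorem relB : ∀ j < MLb.Q.J, ev MLg.gg (MLb.Q.W j) = 1 := by
  refine rel_of_tab (k := 2) MLc.act.ltn MLc.act.fwd MLc.act.bwd faith (Dat.wOk_iff MLb.w_ok) ?_
  intro j hj a ha
  rw [← Dat.ptf_eq]
  exact Sol.beq_iff.1 (alln_iff.1 (alln_iff.1 relB_ok j hj) a ha)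

/-! ### prime 2 -/

theorem cardB : Nat.card (MulAction.stabilizer G (pnt MLd.cd 0)) = 126000 := by
  have h := MLd.act.card_stabilizer gen
  rw [cardG] at h
  exact Nat.eq_of_mul_eq_mul_left (by norm_num : 0 < 7128) (h.trans (by norm_num))

theorem fwdR : ∀ i < 2, ∀ a < 275, ev MLg.gg (MLr.wN i) • pnt MLc.cd a = pnt MLc.cd (MLr.T (2 * i) a) :=
  nd_fwd MLc.act MLr.nd_ok

theorem relR : ∀ j < 3, ev (fun i => ev MLg.gg (MLr.wN i)) (MLr.R j) = 1 := nd_rel MLr.tab_ok fwdR faith MLr.rl_ok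

theorem stemB : PStemDvd 2 (MulAction.stabilizer G (pnt MLd.cd 0)) 1 := by
  have hfix := nd_fix MLd.act MLr.fx_ok
  refine sd16_of_nodes _ (fun i => ev MLg.gg (MLr.wN i)) hfix (relR 0 (by norm_num)) (relR 1 (by norm_num))
    (relR 2 (by norm_num)) (nd_ne hinj MLr.tab_ok fwdR (by decide) 1 (by norm_num) (by decide +kernel)) ?_
  rw [cardB]; norm_num

theorem oddsB : odds 2 (MulAction.stabilizer G (pnt MLd.cd 0)) = ⊤ := by
  refine odds_of_chain MLc.act MLd.act faith (by norm_num : 2 ≤ 6) MLu.nd_ok MLu.fx_ok MLu.tab_ok MLu.wrd_ok MLu.rl_ok ?_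
    MLu.chain_ok (by rw [cardB, MLu.prod_eq])
  intro i hi
  interval_cases i
  · exact ⟨5, by norm_num, rfl⟩
  · exact ⟨5, by norm_num, rfl⟩

theorem two : PStemDvd 2 G 1 :=
  pStemDvd_of_Q (s := 1) (q := 1) (N := 1) MLb.Q MLd.act gen stemB (not_dvd_of_odds oddsB) relB MLb.tab1_ok MLb.w_ok
    MLb.s_ok MLb.p_ok MLb.p2_ok MLb.nr MLb.nr_ok MLb.zl_ok rfl rfl (by decide) MLb.chkQ MLb.Lr MLb.Rr MLb.row_ok
    MLb.gen_ok MLb.par_ok (by decide) rfl

/-! ### prime 5 -/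

theorem cardA : Nat.card (MulAction.stabilizer G (pnt MLc.cd 0)) = 3265920 := by
  have h := MLc.act.card_stabilizer gen
  rw [cardG] at h
  exact Nat.eq_of_mul_eq_mul_left (by norm_num : 0 < 275) (h.trans (by norm_num))

theorem f5 : Fact (Nat.Prime 5) := ⟨by norm_num⟩

attribute [local instance] f5

theorem oddsA : odds 5 (MulAction.stabilizer G (pnt MLc.cd 0)) = ⊤ := by
  refine odds_of_chain MLc.act MLc.act faith (by norm_num : 2 ≤ 8) MLm.nd_ok MLm.fx_ok MLm.tab_ok MLm.wrd_ok MLm.rl_ok ?_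
    MLm.chain_ok (by rw [cardA, MLm.prod_eq])
  intro i hi
  interval_cases i
  · exact ⟨12, by norm_num, rfl⟩
  · exact ⟨2, by norm_num, rfl⟩

theorem five : PStemDvd 5 G 1 := by
  exact pStemDvd_of_Q (s := 1) (q := 1) (N := 1) MLa.Q MLc.act gen
    (Cfsg.Agent.Lib.H92Stem.pStemDvd_of_sq (by rw [cardA]; norm_num)) (not_dvd_of_odds oddsA) relA MLa.tab1_ok MLa.w_ok
    MLa.s_ok MLa.p_ok MLa.p2_ok MLa.nr MLa.nr_ok MLa.zl_ok rfl rfl (by decide) MLa.chkQ MLa.Lr MLa.Rr MLa.row_ok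
    MLa.gen_ok MLa.par_ok (by decide) rfl

end Cfsg.Agent.Lib.H58SM.ML
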