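import Cfsg.Agent.Lib.H58SMg

/-!
Lower bounds of orders of groups generated by given elements: certificates for stabiliser chains (helper58)
-/

set_option autoImplicit false

namespace Cfsg.Agent.Lib.H58SM.Sims

open Subgroup Cfsg.Agent.Lib.H58SM

variable {G Ω : Type*} [Group G] [MulAction G Ω]

theorem ev_congr {s s' : ℕ → G} {w : List ℕ} (h : ∀ l ∈ w, s (l / 2) = s' (l / 2)) : ev s w = ev s' w := by
  induction w with
  | nil => rfl
  | cons l w ih =>
    rw [ev_cons, ev_cons, ih fun l hl => h l (List.mem_cons_of_mem _ hl)]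
    congr 1
    have := h l List.mem_cons_self
    unfold lt
    rw [this]

/-- named elements -/
theorem exists_ext (k : ℕ) (g : ℕ → G) (W : ℕ → List ℕ) (k' : ℕ) (hk : k ≤ k')
    (hW : ∀ j, k ≤ j → j < k' → ∀ l ∈ W j, l < 2 * j) :
    ∃ s : ℕ → G, (∀ j < k, s j = g j) ∧ ∀ j, k ≤ j → j < k' → s j = ev s (W j) := by
  induction k', hk using Nat.le_induction with
  | base => exact ⟨g, fun _ _ => rfl, fun j h1 h2 => absurd h2 (by omega)⟩
  | succ k' hk ih =>
    obtain ⟨s, h1, h2⟩ := ih fun j hj hj' => hW j hj (by omega)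
    refine ⟨Function.update s k' (ev s (W k')), ?_, ?_⟩
    · intro j hj
      rw [Function.update_of_ne (by omega)]
      exact h1 j hj
    · intro j hj hj'
      have h3 : ∀ l ∈ W j, s (l / 2) = Function.update s k' (ev s (W k')) (l / 2) := by
        intro l hl
        have := hW j hj hj' l hl
        rw [Function.update_of_ne (by omega)]
      rw [← ev_congr h3]
      by_cases h : j = k'
      · subst h; rw [Function.update_self]
      · rw [Function.update_of_ne h]
        exact h2 j hj (by omega)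

/-- checks of the tables -/
def tabOk (n k' : ℕ) (T : ℕ → ℕ → ℕ) : Bool :=
  alln (fun l => alln (fun a => Nat.blt (T l a) n) n) (Nat.mul 2 k') &&
    alln (fun j => alln (fun a => frc (T (Nat.add (Nat.mul 2 j) 1) a) fun b => Nat.beq (T (Nat.mul 2 j) b) a) n) k'

/-- checks of the words -/
def wrdOk (n k k' : ℕ) (T : ℕ → ℕ → ℕ) (W : ℕ → List ℕ) : Bool :=
  alln (fun j => cond (Nat.blt j k) true
    (((W j).all fun l => Nat.blt l (Nat.mul 2 j)) && alln (fun a => Nat.beq (Dat.ptf T (W j) a) (T (Nat.mul 2 j) a)) n)) k'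

theorem ext_spec {n k k' : ℕ} {g : ℕ → G} {e : ℕ → Ω} {T : ℕ → ℕ → ℕ} {W : ℕ → List ℕ} (hk : k ≤ k')
    (hT : tabOk n k' T = true) (hw : wrdOk n k k' T W = true)
    (hfwd : ∀ i < k, ∀ a < n, g i • e a = e (T (2 * i) a)) :
    ∃ s : ℕ → G, (∀ j < k', s j ∈ closure {z | ∃ i < k, z = g i}) ∧
      ∀ j < k', ∀ a < n, s j • e a = e (T (2 * j) a) := by
  unfold tabOk at hT
  rw [Bool.and_eq_true] at hT
  have hlt : ∀ l < 2 * k', ∀ a < n, T l a < n := fun l hl a ha => Sol.blt_iff.1 (alln_iff.1 (alln_iff.1 hT.1 l hl) a ha)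
  have hbwd : ∀ i < k', ∀ a < n, T (2 * i) (T (2 * i + 1) a) = a := by
    intro i hi a ha
    have h1 := alln_iff.1 (alln_iff.1 hT.2 i hi) a ha
    rw [frc_eq] at h1
    exact Sol.beq_iff.1 h1
  have hw' : ∀ j, k ≤ j → j < k' → (∀ l ∈ W j, l < 2 * j) ∧ ∀ a < n, pt T (W j) a = T (2 * j) a := by
    intro j hj hj'
    have h1 := alln_iff.1 hw j hj'
    have h2 : Nat.blt j k = false := by
      cases h : Nat.blt j k
      · rfl
      · have := Sol.blt_iff.1 h; omega
    rw [h2, cond_false, Bool.and_eq_true, List.all_eq_true] at h1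
    refine ⟨fun l hl => Sol.blt_iff.1 (h1.1 l hl), fun a ha => ?_⟩
    have h3 := Sol.beq_iff.1 (alln_iff.1 h1.2 a ha)
    rw [Dat.ptf_eq] at h3
    exact h3
  obtain ⟨s, h1, h2⟩ := exists_ext k g W k' hk fun j hj hj' => (hw' j hj hj').1
  have key : ∀ j < k', s j ∈ closure {z | ∃ i < k, z = g i} ∧ ∀ a < n, s j • e a = e (T (2 * j) a) := by
    intro j
    induction j using Nat.strong_induction_on with
    | _ j ih =>
      intro hj
      by_cases hjk : j < k
      · rw [h1 j hjk]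
        exact ⟨subset_closure ⟨j, hjk, rfl⟩, hfwd j hjk⟩
      · obtain ⟨h3, h4⟩ := hw' j (by omega) hj
        rw [h2 j (by omega) hj]
        have h5 : ∀ l < 2 * j, lt s l ∈ closure {z | ∃ i < k, z = g i} ∧ ∀ a < n, lt s l • e a = e (T l a) := by
          intro l hl
          obtain ⟨h6, h7⟩ := ih (l / 2) (by omega) (by omega)
          unfold lt
          by_cases h : l % 2 = 0
          · rw [if_pos h]
            refine ⟨h6, fun a ha => ?_⟩
            rw [h7 a ha]
            congr 2; omega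
          · rw [if_neg h]
            refine ⟨inv_mem h6, fun a ha => ?_⟩
            rw [inv_smul_eq_iff, h7 _ (hlt l (by omega) a ha)]
            have h8 := hbwd (l / 2) (by omega) a ha
            have h9 : 2 * (l / 2) + 1 = l := by omega
            rw [h9] at h8
            rw [h8]
        have h6 : ∀ w : List ℕ, (∀ l ∈ w, l < 2 * j) → ev s w ∈ closure {z | ∃ i < k, z = g i} ∧
            ∀ a < n, ev s w • e a = e (pt T w a) := by
          intro w
          induction w with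
          | nil => intro _; exact ⟨by rw [ev_nil]; exact one_mem _, fun a _ => by rw [ev_nil, one_smul]; rfl⟩
          | cons l w ihw =>
            intro hw
            have hl := hw l List.mem_cons_self
            obtain ⟨g1, g2⟩ := ihw fun l hl => hw l (List.mem_cons_of_mem _ hl)
            obtain ⟨g3, g4⟩ := h5 l hl
            rw [ev_cons]
            refine ⟨mul_mem g1 g3, fun a ha => ?_⟩
            rw [mul_smul, g4 a ha, g2 _ (hlt l (by omega) a ha)]
            rfl
        obtain ⟨h7, h8⟩ := h6 (W j) h3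
        refine ⟨h7, fun a ha => ?_⟩
        rw [h8 a ha, h4 a ha]
  exact ⟨s, fun j hj => (key j hj).1, fun j hj => (key j hj).2⟩

/-! ### the levels -/

/-- the elements of `K` fixing the points of `B` -/
def fixB (K : Subgroup G) (B : List Ω) : Subgroup G where
  carrier := {g | g ∈ K ∧ ∀ x ∈ B, g • x = x}
  one_mem' := ⟨one_mem _, fun x _ => one_smul _ x⟩
  mul_mem' := fun {a b} ha hb => ⟨mul_mem ha.1 hb.1, fun x hx => by rw [mul_smul, hb.2 x hx, ha.2 x hx]⟩
  inv_mem' := fun {a} ha => ⟨inv_mem ha.1, fun x hx => by rw [inv_smul_eq_iff, ha.2 x hx]⟩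

theorem mem_fixB {K : Subgroup G} {B : List Ω} {g : G} : g ∈ fixB K B ↔ g ∈ K ∧ ∀ x ∈ B, g • x = x := Iff.rfl

/-- bit -/
def bt (m x : ℕ) : ℕ := Nat.land (Nat.shiftRight m x) 1

theorem bt_eq (m x : ℕ) : bt m x = m / 2 ^ x % 2 := by
  show Nat.land (Nat.shiftRight m x) 1 = _
  have h := Nat.and_two_pow_sub_one_eq_mod (Nat.shiftRight m x) 1
  rw [show Nat.shiftRight m x = m / 2 ^ x from Nat.shiftRight_eq_div_pow m x] at h ⊢
  exact h

theorem bt_testBit {m x : ℕ} : bt m x = 1 ↔ m.testBit x = true := by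
  rw [bt_eq, Nat.testBit_eq_decide_div_mod_eq, decide_eq_true_iff]

/-- one level: `L i = (y, j)` means that `T (2 j) y` is a new point of the orbit -/
def lev (n : ℕ) (T : ℕ → ℕ → ℕ) (k' : ℕ) (B : List ℕ) (Y J : ℕ → ℕ) (cnt : ℕ) (mask : ℕ) : Bool :=
  Nat.rec (motive := fun _ => ℕ → Bool) (fun _ => true) (fun i ih mask =>
    frc (J i) fun j => frc (Y i) fun y => cond (Nat.beq (bt mask y) 1) (frc (T (Nat.mul 2 j) y) fun x =>
      cond (Nat.beq (bt mask x) 0) (cond (Nat.blt j k' && (Nat.blt y n && B.all fun b => Nat.beq (T (Nat.mul 2 j) b) b))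
        (frc (Nat.add mask (Nat.shiftLeft 1 x)) fun mask' => ih mask') false) false) false) cnt mask

theorem lev_succ (n : ℕ) (T : ℕ → ℕ → ℕ) (k' : ℕ) (B : List ℕ) (Y J : ℕ → ℕ) (i : ℕ) (mask : ℕ) :
    lev n T k' B Y J (i + 1) mask = cond (Nat.beq (bt mask (Y i)) 1) (cond (Nat.beq (bt mask (T (Nat.mul 2 (J i)) (Y i))) 0)
      (cond (Nat.blt (J i) k' && (Nat.blt (Y i) n && B.all fun b => Nat.beq (T (Nat.mul 2 (J i)) b) b))
        (lev n T k' B Y J i (mask + 2 ^ (T (Nat.mul 2 (J i)) (Y i)))) false) false) false := by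
  have h : lev n T k' B Y J (i + 1) mask = frc (J i) (fun j => frc (Y i) fun y => cond (Nat.beq (bt mask y) 1)
      (frc (T (Nat.mul 2 j) y) fun x => cond (Nat.beq (bt mask x) 0) (cond (Nat.blt j k' && (Nat.blt y n &&
        B.all fun b => Nat.beq (T (Nat.mul 2 j) b) b))
        (frc (Nat.add mask (Nat.shiftLeft 1 x)) fun mask' => lev n T k' B Y J i mask') false) false) false) := rfl
  rw [h, frc_eq, frc_eq, frc_eq, frc_eq]
  have h2 : ∀ x : ℕ, Nat.add mask (Nat.shiftLeft 1 x) = mask + 2 ^ x := by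
    intro x
    show mask + Nat.shiftLeft 1 x = _
    rw [show Nat.shiftLeft 1 x = 1 * 2 ^ x from Nat.shiftLeft_eq 1 x, one_mul]
  rw [h2]

/-- the points of the mask belong to the orbit -/
theorem lev_spec {n k' : ℕ} {K : Subgroup G} {e : ℕ → Ω} {T : ℕ → ℕ → ℕ} {s : ℕ → G} (hT : ∀ j < k', ∀ a < n, T (2 * j) a < n)
    (hs : ∀ j < k', s j ∈ K) (hfwd : ∀ j < k', ∀ a < n, s j • e a = e (T (2 * j) a)) {B : List ℕ} (hB : ∀ b ∈ B, b < n)
    {Y J : ℕ → ℕ} {x0 : Ω} {cnt : ℕ} : ∀ {mask : ℕ} {S : Finset ℕ},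
    (∀ x, mask.testBit x = true ↔ x ∈ S) → (∀ x ∈ S, x < n ∧ ∃ g ∈ fixB K (B.map e), g • x0 = e x) →
    lev n T k' B Y J cnt mask = true →
    ∃ S' : Finset ℕ, (∀ x ∈ S', x < n ∧ ∃ g ∈ fixB K (B.map e), g • x0 = e x) ∧ S'.card = S.card + cnt := by
  induction cnt with
  | zero => intro mask S _ h2 _; exact ⟨S, h2, rfl⟩
  | succ i ih =>
    intro mask S h1 h2 h
    rw [lev_succ] at h
    obtain ⟨g1, h⟩ := DatQ.cond_true_eq h
    obtain ⟨g2, h⟩ := DatQ.cond_true_eq h
    obtain ⟨g3, h⟩ := DatQ.cond_true_eq h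
    rw [Bool.and_eq_true, Bool.and_eq_true, List.all_eq_true] at g3
    obtain ⟨g3, g4, g5⟩ := g3
    have hj : J i < k' := Sol.blt_iff.1 g3
    have hy : Y i < n := Sol.blt_iff.1 g4
    have hyS : Y i ∈ S := (h1 _).1 (bt_testBit.1 (Sol.beq_iff.1 g1))
    set x := T (Nat.mul 2 (J i)) (Y i) with hx
    have hxn : x < n := hT _ hj _ hy
    have hb0 : bt mask x = 0 := Sol.beq_iff.1 g2
    have hxS : x ∉ S := by
      intro hh
      have := bt_testBit.2 ((h1 x).2 hh)
      omega
    have hfix : s (J i) ∈ fixB K (B.map e) := by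
      refine ⟨hs _ hj, ?_⟩
      intro z hz
      obtain ⟨b, hb, rfl⟩ := List.mem_map.1 hz
      rw [hfwd _ hj _ (hB b hb)]
      congr 1
      exact Sol.beq_iff.1 (g5 b hb)
    have hA : ∀ z, (mask + 2 ^ x).testBit z = true ↔ z ∈ insert x S := by
      intro z
      rw [Finset.mem_insert, ← h1 z]
      have hbx : mask.testBit x = false := by
        cases hh : mask.testBit x
        · rfl
        · exact absurd ((h1 x).1 hh) hxS
      have h5 : mask + 2 ^ x = mask ||| 2 ^ x := by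
        apply Nat.eq_of_testBit_eq
        intro k
        rw [add_comm, Nat.testBit_or]
        rcases lt_trichotomy k x with hk | hk | hk
        · rw [Nat.testBit_two_pow_add_gt hk, Nat.testBit_two_pow_of_ne (by omega), Bool.or_false]
        · subst hk
          rw [Nat.testBit_two_pow_add_eq, hbx, Nat.testBit_two_pow_self]; rfl
        · have h6 : mask = 2 ^ (x + 1) * (mask / 2 ^ (x + 1)) + mask % 2 ^ (x + 1) := (Nat.div_add_mod _ _).symm
          have h7 : mask % 2 ^ (x + 1) < 2 ^ x := by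
            apply Nat.lt_of_testBit x
            · rw [Nat.testBit_mod_two_pow, hbx]; simp
            · exact Nat.testBit_two_pow_self
            · intro j hj
              rw [Nat.testBit_mod_two_pow, Nat.testBit_two_pow_of_ne (by omega)]
              have : ¬ j < x + 1 := by omega
              simp [this]
          have h8 : 2 ^ x + mask = 2 ^ (x + 1) * (mask / 2 ^ (x + 1)) + (mask % 2 ^ (x + 1) + 2 ^ x) := by omega
          have h9 : mask % 2 ^ (x + 1) + 2 ^ x < 2 ^ (x + 1) := by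
            have : (2 : ℕ) ^ (x + 1) = 2 ^ x * 2 := pow_succ 2 x
            omega
          rw [Nat.testBit_two_pow_of_ne (by omega), Bool.or_false, h8]
          conv_rhs => rw [h6]
          rw [Nat.testBit_two_pow_mul_add _ h9, Nat.testBit_two_pow_mul_add _ (Nat.mod_lt _ (by positivity)),
            if_neg (by omega), if_neg (by omega)]
      rw [h5, Nat.testBit_or, Bool.or_eq_true]
      constructor
      · rintro (h | h)
        · exact Or.inr h
        · left
          by_contra hne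
          rw [Nat.testBit_two_pow_of_ne (Ne.symm hne)] at h
          exact absurd h (by simp)
      · rintro (rfl | h)
        · exact Or.inr Nat.testBit_two_pow_self
        · exact Or.inl h
    have hC : ∀ z ∈ insert x S, z < n ∧ ∃ g ∈ fixB K (B.map e), g • x0 = e z := by
      intro z hz
      rcases Finset.mem_insert.1 hz with rfl | hz
      · refine ⟨hxn, ?_⟩
        obtain ⟨-, g, hg, hg'⟩ := h2 _ hyS
        exact ⟨s (J i) * g, mul_mem hfix hg, by rw [mul_smul, hg', hfwd _ hj _ hy]; rfl⟩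
      · exact h2 z hz
    obtain ⟨S', h3, h4⟩ := ih hA hC h
    exact ⟨S', h3, by rw [h4, Finset.card_insert_of_notMem hxS]; omega⟩

theorem level_step {n k' : ℕ} [Finite G] {K : Subgroup G} {e : ℕ → Ω} {T : ℕ → ℕ → ℕ} {s : ℕ → G}
    (hinj : ∀ a < n, ∀ b < n, e a = e b → a = b)
    (hT : ∀ j < k', ∀ a < n, T (2 * j) a < n)
    (hs : ∀ j < k', s j ∈ K) (hfwd : ∀ j < k', ∀ a < n, s j • e a = e (T (2 * j) a)) {B : List ℕ} (hB : ∀ b ∈ B, b < n)
    {Y J : ℕ → ℕ} {x0 cnt : ℕ} (hx0 : x0 < n) (h : lev n T k' B Y J cnt (2 ^ x0) = true) :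
    (cnt + 1) * Nat.card (fixB K ((x0 :: B).map e)) ≤ Nat.card (fixB K (B.map e)) := by
  obtain ⟨S, h1, h2⟩ := lev_spec hT hs hfwd hB (x0 := e x0) (mask := 2 ^ x0) (S := {x0}) (by
    intro x
    rw [Finset.mem_singleton]
    constructor
    · intro h
      by_contra hne
      rw [Nat.testBit_two_pow_of_ne (Ne.symm hne)] at h
      exact absurd h (by simp)
    · rintro rfl; exact Nat.testBit_two_pow_self) (by
    intro x hx
    rw [Finset.mem_singleton] at hx
    subst hx
    exact ⟨hx0, 1, one_mem _, one_smul _ _⟩) h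
  rw [Finset.card_singleton] at h2
  choose! g hg hg' using fun x (hx : x ∈ S) => (h1 x hx).2
  let φ : S × fixB K ((x0 :: B).map e) → fixB K (B.map e) := fun p =>
    ⟨g p.1 * p.2, mul_mem (hg _ p.1.2) ⟨p.2.2.1, fun x hx => p.2.2.2 x (by
      rw [List.map_cons]; exact List.mem_cons_of_mem _ hx)⟩⟩
  have hφ : Function.Injective φ := by
    rintro ⟨⟨x, hx⟩, ⟨u, hu⟩⟩ ⟨⟨y, hy⟩, ⟨v, hv⟩⟩ huv
    have h3 : g x * u = g y * v := congrArg Subtype.val huv
    have h4 : u • e x0 = e x0 := hu.2 _ (by rw [List.map_cons]; exact List.mem_cons_self)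
    have h5 : v • e x0 = e x0 := hv.2 _ (by rw [List.map_cons]; exact List.mem_cons_self)
    have h6 : e x = e y := by
      rw [← hg' x hx, ← hg' y hy]
      conv_lhs => rw [← h4]
      conv_rhs => rw [← h5]
      rw [← mul_smul, ← mul_smul, h3]
    have h7 := hinj x (h1 x hx).1 y (h1 y hy).1 h6
    subst h7
    have h8 := mul_left_cancel h3
    subst h8
    rfl
  have h3 := Nat.card_le_card_of_injective φ hφ
  rw [Nat.card_prod, Nat.card_eq_fintype_card, Fintype.card_coe, h2] at h3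
  rw [add_comm cnt 1]; exact h3

/-- the levels of a chain: `(x0, cnt, Y, J)` -/
def chainOk (n : ℕ) (T : ℕ → ℕ → ℕ) (k' : ℕ) : List (ℕ × ℕ × (ℕ → ℕ) × (ℕ → ℕ)) → List ℕ → Bool
  | [], _ => true
  | q :: L, B => Nat.blt q.1 n && (lev n T k' B q.2.2.1 q.2.2.2 q.2.1 (Nat.shiftLeft 1 q.1) && chainOk n T k' L (q.1 :: B))

theorem chain_spec {n k' : ℕ} [Finite G] {K : Subgroup G} {e : ℕ → Ω} {T : ℕ → ℕ → ℕ} {s : ℕ → G}
    (hinj : ∀ a < n, ∀ b < n, e a = e b → a = b)
    (hT : ∀ j < k', ∀ a < n, T (2 * j) a < n)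
    (hs : ∀ j < k', s j ∈ K) (hfwd : ∀ j < k', ∀ a < n, s j • e a = e (T (2 * j) a))
    {L : List (ℕ × ℕ × (ℕ → ℕ) × (ℕ → ℕ))} {B : List ℕ} (hB : ∀ b ∈ B, b < n) (h : chainOk n T k' L B = true) :
    (L.map fun q => q.2.1 + 1).prod ≤ Nat.card (fixB K (B.map e)) := by
  induction L generalizing B with
  | nil => rw [List.map_nil, List.prod_nil]; exact Nat.card_pos
  | cons q L ih =>
    unfold chainOk at h
    rw [Bool.and_eq_true, Bool.and_eq_true] at h
    obtain ⟨h1, h2, h3⟩ := h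
    have h1 : q.1 < n := Sol.blt_iff.1 h1
    rw [show Nat.shiftLeft 1 q.1 = 2 ^ q.1 by
      rw [show Nat.shiftLeft 1 q.1 = 1 * 2 ^ q.1 from Nat.shiftLeft_eq 1 q.1, one_mul]] at h2
    have h4 := level_step hinj hT hs hfwd hB h1 h2
    have h5 := ih (B := q.1 :: B) (by
      intro b hb
      rcases List.mem_cons.1 hb with rfl | hb
      · exact h1
      · exact hB b hb) h3
    rw [List.map_cons, List.prod_cons]
    exact (Nat.mul_le_mul_left _ h5).trans h4

/-- generation -/
theorem gen_of_chain {n k k' N : ℕ} [Finite G] {g : ℕ → G} {e : ℕ → Ω} {T : ℕ → ℕ → ℕ} {W : ℕ → List ℕ} (hk : k ≤ k')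
    (hinj : ∀ a < n, ∀ b < n, e a = e b → a = b)
    (hT : tabOk n k' T = true) (hw : wrdOk n k k' T W = true)
    (hfwd : ∀ i < k, ∀ a < n, g i • e a = e (T (2 * i) a))
    {L : List (ℕ × ℕ × (ℕ → ℕ) × (ℕ → ℕ))} (h : chainOk n T k' L [] = true) (hN : Nat.card G ≤ N)
    (hL : N ≤ (L.map fun q => q.2.1 + 1).prod) : closure {z | ∃ i < k, z = g i} = ⊤ := by
  obtain ⟨s, h1, h2⟩ := ext_spec hk hT hw hfwd
  unfold tabOk at hT
  rw [Bool.and_eq_true] at hT
  have hlt : ∀ j < k', ∀ a < n, T (2 * j) a < n := fun l hl a ha =>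
    Sol.blt_iff.1 (alln_iff.1 (alln_iff.1 hT.1 (2 * l) (by show 2 * l < 2 * k'; omega)) a ha)
  have h3 := chain_spec hinj hlt h1 h2 (B := []) (fun b hb => absurd hb (by simp)) h
  apply Subgroup.eq_top_of_le_card
  have h4 : Nat.card (fixB (closure {z | ∃ i < k, z = g i}) (([] : List ℕ).map e)) ≤
      Nat.card (closure {z | ∃ i < k, z = g i}) :=
    Nat.card_le_card_of_injective (fun x => ⟨x.1, x.2.1⟩) (fun x y hxy => Subtype.ext (by injection hxy))
  omega

end Cfsg.Agent.Lib.H58SM.Sims
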