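import Cfsg.Agent.Lib.LeechGen
import Cfsg.Agent.Lib.LeechQuot3
import Cfsg.Agent.Lib.GolayPerm
import Cfsg.Agent.Lib.GolayElts2

/-!
# Coded vectors of the Leech lattice and coded orthogonal matrices preserving it (helper89)
-/

set_option autoImplicit false
set_option linter.all false

namespace Cfsg.Agent.Lib.H89LeechMat

open Cfsg Cfsg.Agent.Lib.Golay Cfsg.Agent.Lib.LeechMin Cfsg.Agent.Lib.GolayModule
open Cfsg.Agent.Lib.LeechGen (sv chi_symmDiff Lv_sv)
open Cfsg.Agent.Lib.GolayCoset (wordOf support₂_wordOf support₂_add)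

/-! ### generators of the lattice -/

section gens
variable {S : AddSubgroup (GolayPt → ℤ)}

theorem four_mem' (h8 : (Pi.single none 8 : GolayPt → ℤ) ∈ S)
    (h4 : ∀ i : GolayPt, (Pi.single i 4 - Pi.single none 4 : GolayPt → ℤ) ∈ S)
    (y : GolayPt → ℤ) (h : (2 : ℤ) ∣ ∑ i, y i) : (fun i => 4 * y i) ∈ S := by
  obtain ⟨t, ht⟩ := h
  have e : (fun i => 4 * y i) = ∑ i, y i • (Pi.single i 4 - Pi.single none 4 : GolayPt → ℤ) +
      t • (Pi.single none 8 : GolayPt → ℤ) := by
    funext k
    simp only [Pi.add_apply, Finset.sum_apply, Pi.smul_apply, Pi.sub_apply, smul_eq_mul, mul_sub,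
      Finset.sum_sub_distrib, Pi.single_apply]
    simp only [mul_ite, mul_zero, Finset.sum_ite_eq, Finset.mem_univ, if_true]
    by_cases hk : k = none
    · simp only [hk, if_true]
      rw [← Finset.sum_mul, ht]; ring
    · simp only [hk, if_false, Finset.sum_const_zero]; ring
  rw [e]
  exact S.add_mem (sum_mem fun i _ => S.zsmul_mem (h4 _) _) (S.zsmul_mem h8 _)

/-- the code words whose doubled indicator lies in `S` -/
def WS (S : AddSubgroup (GolayPt → ℤ)) (H : ∀ y : GolayPt → ℤ, (2 : ℤ) ∣ ∑ i, y i → (fun i => 4 * y i) ∈ S) :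
    Submodule (ZMod 2) (GolayPt → ZMod 2) where
  carrier := {w | w ∈ golayCode ∧ (fun i => 2 * chi (support₂ w) i) ∈ S}
  zero_mem' := by
    refine ⟨golayCode.zero_mem, ?_⟩
    have : (fun i => 2 * chi (support₂ (0 : GolayPt → ZMod 2)) i) = (0 : GolayPt → ℤ) := by
      funext i; simp [chi, support₂]
    rw [this]; exact S.zero_mem
  add_mem' := by
    rintro v w ⟨hv, hv'⟩ ⟨hw, hw'⟩
    refine ⟨golayCode.add_mem hv hw, ?_⟩
    have h1 : (fun i => 2 * chi (support₂ (v + w)) i) =
        (fun i => 2 * chi (support₂ v) i) + (fun i => 2 * chi (support₂ w) i) -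
          fun i => 4 * chi (support₂ v ∩ support₂ w) i := by
      funext i
      rw [support₂_add, chi_symmDiff]
      simp only [Pi.add_apply, Pi.sub_apply]; ring
    rw [h1]
    refine S.sub_mem (S.add_mem hv' hw') (H _ ?_)
    rw [sum_chi]
    have h2 := even_inter (s := support₂ v) (t := support₂ w) ⟨v, hv, rfl⟩ ⟨w, hw, rfl⟩
    omega
  smul_mem' := by
    rintro c w ⟨hw, hw'⟩
    rcases z2 c with rfl | rfl
    · rw [zero_smul]
      refine ⟨golayCode.zero_mem, ?_⟩
      have : (fun i => 2 * chi (support₂ (0 : GolayPt → ZMod 2)) i) = (0 : GolayPt → ℤ) := by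
        funext i; simp [chi, support₂]
      rw [this]; exact S.zero_mem
    · rw [one_smul]; exact ⟨hw, hw'⟩

theorem lattice_le (h8 : (Pi.single none 8 : GolayPt → ℤ) ∈ S)
    (h4 : ∀ i : GolayPt, (Pi.single i 4 - Pi.single none 4 : GolayPt → ℤ) ∈ S)
    (hb : ∀ j < 12, (fun i => 2 * chi (mset (bas j)) i) ∈ S) (hs : sv ∈ S) : leechLattice ≤ S := by
  have H := four_mem' h8 h4
  have h2c : ∀ A ∈ Sup, (fun i => 2 * chi A i) ∈ S := by
    intro A hA
    have h1 : golayCode ≤ WS S H := code_le_of_bas fun j hj => by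
      refine ⟨bas_mem j hj, ?_⟩
      rw [support₂_wd]
      exact hb j hj
    have h2 := (h1 ((wordOf_mem_iff A).2 hA)).2
    rw [support₂_wordOf] at h2
    exact h2
  have heven : ∀ {x : GolayPt → ℤ} {m : ℤ} {A : Finset GolayPt}, Lv x m A → (2 : ℤ) ∣ m → x ∈ S := by
    intro x m A h hm
    obtain ⟨n, hn⟩ := hm
    have hB : ∃ B ∈ Sup, ∀ i, (4 : ℤ) ∣ x i - 2 * chi B i := by
      rcases Int.even_or_odd n with ⟨k, hk⟩ | ⟨k, hk⟩
      · refine ⟨A, h.1, fun i => ?_⟩
        have := h.2.1 i
        omega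
      · refine ⟨Aᶜ, compl_mem_supports h.1, fun i => ?_⟩
        have h1 := h.2.1 i
        have h2 : chi Aᶜ i = 1 - chi A i := by
          simp only [chi, Finset.mem_compl]
          by_cases hi : i ∈ A <;> simp [hi]
        rw [h2]
        omega
    obtain ⟨B, hB, hx⟩ := hB
    choose y hy using hx
    have e : x = (fun i => 2 * chi B i) + fun i => 4 * y i := by
      funext i
      have := hy i
      simp only [Pi.add_apply]
      linarith
    obtain ⟨t, ht⟩ := four_dvd_card hB
    have hs : (2 : ℤ) ∣ ∑ i, y i := by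
      have h1 := h.2.2
      have h2 : ∑ i, x i = 2 * B.card + 4 * ∑ i, y i := by
        rw [e]
        simp only [Pi.add_apply, Finset.sum_add_distrib, ← Finset.mul_sum, sum_chi]
      rw [h2, ht, hn] at h1
      omega
    rw [e]
    exact S.add_mem (h2c B hB) (H y hs)
  intro x hx
  obtain ⟨m, A, h⟩ := (mem_lattice_iff' x).1 hx
  rcases Int.even_or_odd m with ⟨n, hn⟩ | ⟨n, hn⟩
  · exact heven h ⟨n, by omega⟩
  · have h1 := Lv_add h (Lv_neg Lv_sv)
    have h2 := heven h1 ⟨n, by omega⟩
    have h3 := S.add_mem h2 hs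
    have h4 : x + -sv + sv = x := by abel
    rwa [h4] at h3

end gens

/-! ### sums -/

/-- computable sum -/
def zs (k : ℕ) (f : ℕ → ℤ) : ℤ := Nat.rec (motive := fun _ => ℤ) 0 (fun i ih => Int.add (f i) ih) k

theorem zs_eq (k : ℕ) (f : ℕ → ℤ) : zs k f = ∑ i ∈ Finset.range k, f i := by
  induction k with
  | zero => rfl
  | succ k ih =>
    rw [Finset.sum_range_succ, ← ih]
    exact add_comm (f k) (zs k f)

/-- computable sum -/
def ns (k : ℕ) (f : ℕ → ℕ) : ℕ := Nat.rec (motive := fun _ => ℕ) 0 (fun i ih => Nat.add (f i) ih) k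

theorem ns_eq (k : ℕ) (f : ℕ → ℕ) : ns k f = ∑ i ∈ Finset.range k, f i := by
  induction k with
  | zero => rfl
  | succ k ih =>
    rw [Finset.sum_range_succ, ← ih]
    exact add_comm (f k) (ns k f)

theorem sum_ix (f : ℕ → ℤ) : ∑ p : GolayPt, f (ix p) = ∑ i ∈ Finset.range 24, f i := by
  rw [← Fin.sum_univ_eq_sum_range]
  exact Fintype.sum_equiv ixEquiv _ _ (fun p => rfl)

/-! ### coded vectors -/

/-- coordinate -/
def dv (c i : ℕ) : ℤ := Int.subNatNat (img c i) 16

theorem dv_eq (c i : ℕ) : dv c i = (img c i : ℤ) - 16 := Int.subNatNat_eq_coe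

/-- the vector coded by `c` -/
def vv (c : ℕ) : GolayPt → ℤ := fun p => dv c (ix p)

theorem vv_pt (c : ℕ) {i : ℕ} (hi : i < 24) : vv c (pt i) = dv c i := by
  unfold vv; rw [ix_pt hi]

def maskC (c : ℕ) : ℕ := orLt 24 fun i =>
  cond (Nat.beq (Nat.mod (Nat.sub (Nat.add (img c i) 4) (Nat.mod (img c 0) 2)) 4) 2) (Nat.shiftLeft 1 i) 0

def latC (c : ℕ) : Bool :=
  cond (allLt 24 fun i => Nat.beq (Nat.mod (img c i) 2) (Nat.mod (img c 0) 2))
    (cond (isCode (maskC c))
      (Nat.beq (Nat.mod (Nat.sub (Nat.add (ns 24 (img c)) 8) (Nat.mul 4 (Nat.mod (img c 0) 2))) 8) 0) false) false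

theorem maskC_lt (c : ℕ) : maskC c < 2 ^ 24 := by
  apply Nat.lt_of_testBit 24
  · apply Bool.eq_false_iff.2
    intro h
    rw [maskC, testBit_orLt] at h
    obtain ⟨i, hi, h⟩ := h
    revert h
    cases Nat.beq (Nat.mod (Nat.sub (Nat.add (img c i) 4) (Nat.mod (img c 0) 2)) 4) 2
    · simp
    · intro h
      have := (testBit_one_shiftLeft i 24).1 h
      omega
  · decide
  · intro j hj
    have h1 : (2 ^ 24 : ℕ).testBit j = false := by
      rw [Nat.testBit_two_pow]
      simp; omega
    rw [h1]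
    apply Bool.eq_false_iff.2
    intro h
    rw [maskC, testBit_orLt] at h
    obtain ⟨i, hi, h⟩ := h
    revert h
    cases Nat.beq (Nat.mod (Nat.sub (Nat.add (img c i) 4) (Nat.mod (img c 0) 2)) 4) 2
    · simp
    · intro h
      have := (testBit_one_shiftLeft i j).1 h
      omega

theorem testBit_maskC (c : ℕ) {i : ℕ} (hi : i < 24) :
    (maskC c).testBit i = true ↔ (img c i + 4 - img c 0 % 2) % 4 = 2 := by
  rw [maskC, testBit_orLt]
  constructor
  · rintro ⟨j, hj, h⟩
    cases hb : Nat.beq (Nat.mod (Nat.sub (Nat.add (img c j) 4) (Nat.mod (img c 0) 2)) 4) 2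
    · rw [hb] at h; simp at h
    · rw [hb] at h
      have h1 := (testBit_one_shiftLeft j i).1 h
      rw [h1] at hb
      exact Nat.eq_of_beq_eq_true hb
  · intro h
    refine ⟨i, hi, ?_⟩
    have hb : Nat.beq (Nat.mod (Nat.sub (Nat.add (img c i) 4) (Nat.mod (img c 0) 2)) 4) 2 = true := by
      rw [Nat.beq_eq]; exact h
    rw [hb]
    exact (testBit_one_shiftLeft i i).2 rfl

theorem vv_mem {c : ℕ} (h : latC c = true) : vv c ∈ leechLattice := by
  obtain ⟨h1, h2⟩ := cond_false_eq.mp h
  obtain ⟨h2, h3⟩ := cond_false_eq.mp h2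
  rw [mem_lattice_iff']
  have h1' : ∀ i < 24, img c i % 2 = img c 0 % 2 := fun i hi => Nat.eq_of_beq_eq_true (allLt_iff.mp h1 i hi)
  have h3' : (ns 24 (img c) + 8 - 4 * (img c 0 % 2)) % 8 = 0 := Nat.eq_of_beq_eq_true h3
  refine ⟨((img c 0 % 2 : ℕ) : ℤ), mset (maskC c), ?_, ?_, ?_⟩
  · exact (mset_mem_supports_iff (maskC_lt c)).2 h2
  · intro p
    have h4 := h1' (ix p) (ix_lt p)
    have h5 := testBit_maskC c (ix_lt p)
    have h6 : chi (mset (maskC c)) p = if (maskC c).testBit (ix p) = true then 1 else 0 := by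
      simp [chi, mem_mset]
    rw [h6]
    have h7 : vv c p = (img c (ix p) : ℤ) - 16 := dv_eq _ _
    rw [h7]
    by_cases hb : (maskC c).testBit (ix p) = true
    · rw [if_pos hb]
      have h8 := h5.1 hb
      omega
    · rw [if_neg hb]
      have h8 : ¬ ((img c (ix p) + 4 - img c 0 % 2) % 4 = 2) := fun h => hb (h5.2 h)
      omega
  · have h4 : ∑ i, vv c i = (ns 24 (img c) : ℤ) - 384 := by
      show ∑ p : GolayPt, dv c (ix p) = _
      rw [sum_ix, ns_eq]
      push_cast
      rw [Finset.sum_congr rfl fun i _ => dv_eq c i, Finset.sum_sub_distrib]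
      simp
    rw [h4]
    omega

/-- the coded lattice vector -/
def lv (c : ℕ) (h : latC c = true) : leechLattice := ⟨vv c, vv_mem h⟩

/-- inner product -/
def idot (a b : ℕ) : ℤ := zs 24 fun i => Int.mul (dv a i) (dv b i)

theorem idot_eq (a b : ℕ) : dotInt (vv a) (vv b) = idot a b := by
  unfold idot dotInt
  rw [zs_eq, ← sum_ix]
  rfl

theorem sqNorm_vv (a : ℕ) : sqNorm (vv a) = idot a a := by
  rw [← idot_eq]
  unfold sqNorm dotInt
  exact Finset.sum_congr rfl fun i _ => pow_two _

/-! ### the coded generators -/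

/-- the generators: `8 e`, `4 e_i - 4 e`, twelve code words, `sv` -/
def GLc : List ℕ := [1018360158061024257466626376827683344, 519899659641680805127698729222554132, 519899659641680805127698729222554256, 519899659641680805127698729222558224, 519899659641680805127698729222685200, 519899659641680805127698729226748432, 519899659641680805127698729356771856, 519899659641680805127698733517521424, 519899659641680805127698866661507600, 519899659641680805127703127269065232, 519899659641680805127839466710909456, 519899659641680805132202328849924624, 519899659641680805271813917298410000, 519899659641680809739384747649942032, 519899659641680952701651318898967056, 519899659641685527494181598867767824, 519899659641831920855150557869392400, 519899659646516508406157245921378832, 519899659796423310038371263584944656, 519899664593440962269219828819051024, 519899818098005833656373916310454800, 519904730244081718045304716035375632, 520061918918510018491090307232842256, 525091956500215632756229225551774224, 771726059836291491265838320554885650,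 688649386774721064098293365013496400, 771728595057776114097536562769709584, 688730518963891231119889363502711312, 769132523460504682207687969560085008, 769213576344221360433975882144039440, 771807268623155063675189084830581264, 686055776197487512342722442766598672, 686136905760946428506205204045644304, 688733051791631745737653564975104528, 769213573793463367431952751959491088, 771807186998899287610448918925034000, 562777982086355510705240892457403953]

theorem GLc_8 : ∀ p : GolayPt, dv (GLc.getD 0 0) (ix p) = if p = none then 8 else 0 := by decide +kernel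

theorem GLc_4 : ∀ i : GolayPt, i = none ∨ ∀ p : GolayPt, dv (GLc.getD (1 + ix i) 0) (ix p) =
    (if p = i then 4 else 0) - (if p = none then 4 else 0) := by decide +kernel

theorem GLc_b : ∀ j : Fin 12, ∀ p : GolayPt, dv (GLc.getD (24 + j) 0) (ix p) =
    if (bas j).testBit (ix p) = true then 2 else 0 := by decide +kernel

theorem GLc_s : ∀ p : GolayPt, dv (GLc.getD 36 0) (ix p) = if p = none then -3 else 1 := by decide +kernel

theorem GLc_length : GLc.length = 37 := by decide +kernel

theorem GLc_mem {i : ℕ} (hi : i < 37) : GLc.getD i 0 ∈ GLc := by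
  rw [List.getD_eq_getElem _ _ (by rw [GLc_length]; exact hi)]
  exact List.getElem_mem _

/-- a subgroup containing the coded generators contains the lattice -/
theorem lattice_le_of_gens {S : AddSubgroup (GolayPt → ℤ)} (h : ∀ a ∈ GLc, vv a ∈ S) : leechLattice ≤ S := by
  apply lattice_le
  · have h1 := h _ (GLc_mem (i := 0) (by norm_num))
    have h2 : vv (GLc.getD 0 0) = (Pi.single none 8 : GolayPt → ℤ) := by
      funext p
      rw [Pi.single_apply]
      exact GLc_8 p
    rwa [h2] at h1
  · intro i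
    rcases GLc_4 i with rfl | hi
    · rw [sub_self]; exact S.zero_mem
    · by_cases hn : i = none
      · rw [hn, sub_self]; exact S.zero_mem
      have h0 : ix i < 24 := ix_lt i
      have h3 : ix i ≠ 23 := fun h' => hn (ix_injective h')
      have h1 := h _ (GLc_mem (i := 1 + ix i) (by omega))
      have h2 : vv (GLc.getD (1 + ix i) 0) = (Pi.single i 4 - Pi.single none 4 : GolayPt → ℤ) := by
        funext p
        rw [Pi.sub_apply, Pi.single_apply, Pi.single_apply]
        exact hi p
      rwa [h2] at h1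
  · intro j hj
    have h1 := h _ (GLc_mem (i := 24 + j) (by omega))
    have h2 : vv (GLc.getD (24 + j) 0) = (fun i => 2 * chi (mset (bas j)) i) := by
      funext p
      have h3 := GLc_b ⟨j, hj⟩ p
      have h4 : chi (mset (bas j)) p = if (bas j).testBit (ix p) = true then 1 else 0 := by
        simp [chi, mem_mset]
      show dv (GLc.getD (24 + j) 0) (ix p) = _
      rw [h3, h4]
      split_ifs <;> rfl
    rwa [h2] at h1
  · have h1 := h _ (GLc_mem (i := 36) (by norm_num))
    have h2 : vv (GLc.getD 36 0) = sv := by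
      funext p
      have h3 := GLc_s p
      show dv (GLc.getD 36 0) (ix p) = _
      rw [h3]
      unfold sv chi
      by_cases hp : p = none
      · simp [hp]
      · simp [hp]
    rwa [h2] at h1

/-! ### coded matrices -/

/-- the coded matrix with rows `R` maps the coded vector `a` to `8 b` -/
def imgOK (R : List ℕ) (a b : ℕ) : Bool :=
  cond (latC b) (allLt 24 fun i => decide (Int.mul 8 (dv b i) = zs 24 fun k => Int.mul (dv (R.getD i 0) k) (dv a k))) false

/-- all generators are mapped into the lattice -/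
def imgsOK (R I : List ℕ) : Bool := allLt 37 fun k => imgOK R (GLc.getD k 0) (I.getD k 0)

/-- columns orthogonal of norm 64, `R'` is the transpose -/
def orthOK (R R' : List ℕ) : Bool :=
  cond (allLt 24 fun i => allLt 24 fun j => Nat.beq (img (R.getD i 0) j) (img (R'.getD j 0) i))
    (allLt 24 fun i => allLt 24 fun j => decide (idot (R'.getD i 0) (R'.getD j 0) = if i = j then 64 else 0)) false

/-- the matrix -/
def mt (R : List ℕ) : Matrix GolayPt GolayPt ℤ := fun p q => dv (R.getD (ix p) 0) (ix q)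

/-- images of lattice vectors -/
def imS (R : List ℕ) : AddSubgroup (GolayPt → ℤ) where
  carrier := {x | ∃ y ∈ leechLattice, (mt R).mulVec x = 8 • y}
  zero_mem' := ⟨0, leechLattice.zero_mem, by simp⟩
  add_mem' := by
    rintro a b ⟨y, hy, h⟩ ⟨y', hy', h'⟩
    exact ⟨y + y', leechLattice.add_mem hy hy', by rw [Matrix.mulVec_add, h, h', smul_add]⟩
  neg_mem' := by
    rintro a ⟨y, hy, h⟩
    exact ⟨-y, leechLattice.neg_mem hy, by rw [Matrix.mulVec_neg, h, smul_neg]⟩

theorem mulVec_vv (R : List ℕ) (a : ℕ) (p : GolayPt) :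
    (mt R).mulVec (vv a) p = zs 24 fun k => Int.mul (dv (R.getD (ix p) 0) k) (dv a k) := by
  rw [zs_eq, ← sum_ix]
  rfl

theorem imgOK_spec {R : List ℕ} {a b : ℕ} (h : imgOK R a b = true) :
    vv b ∈ leechLattice ∧ (mt R).mulVec (vv a) = 8 • vv b := by
  obtain ⟨h1, h2⟩ := cond_false_eq.mp h
  refine ⟨vv_mem h1, ?_⟩
  funext p
  rw [mulVec_vv]
  have h3 := of_decide_eq_true (allLt_iff.mp h2 (ix p) (ix_lt p))
  rw [← h3]
  show _ = 8 • vv b p
  rw [nsmul_eq_mul]; rfl

theorem le_imS {R I : List ℕ} (h : imgsOK R I = true) : leechLattice ≤ imS R := by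
  apply lattice_le_of_gens
  intro a ha
  obtain ⟨k, hk, rfl⟩ := List.mem_iff_getElem.1 ha
  have h1 := allLt_iff.mp h k (by rw [GLc_length] at hk; exact hk)
  rw [List.getD_eq_getElem _ _ hk] at h1
  obtain ⟨h2, h3⟩ := imgOK_spec h1
  exact ⟨_, h2, h3⟩

theorem mt_transpose {R R' : List ℕ} (h : orthOK R R' = true) : (mt R).transpose = mt R' := by
  obtain ⟨h1, h2⟩ := cond_false_eq.mp h
  funext p q
  have h3 := Nat.eq_of_beq_eq_true (allLt_iff.mp (allLt_iff.mp h1 (ix q) (ix_lt q)) (ix p) (ix_lt p))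
  show dv (R.getD (ix q) 0) (ix p) = dv (R'.getD (ix p) 0) (ix q)
  unfold dv
  rw [h3]

theorem mt_mul {R R' : List ℕ} (h : orthOK R R' = true) : mt R' * mt R = (64 : ℤ) • (1 : Matrix GolayPt GolayPt ℤ) := by
  have h0 := mt_transpose h
  obtain ⟨h1, h2⟩ := cond_false_eq.mp h
  have h5 : mt R = (mt R').transpose := by rw [← h0, Matrix.transpose_transpose]
  rw [h5]
  funext p q
  have h3 := of_decide_eq_true (allLt_iff.mp (allLt_iff.mp h2 (ix p) (ix_lt p)) (ix q) (ix_lt q))
  have h4 : (mt R' * (mt R').transpose) p q = idot (R'.getD (ix p) 0) (R'.getD (ix q) 0) := by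
    unfold idot
    rw [zs_eq, ← sum_ix]
    rfl
  rw [h4, h3, Matrix.smul_apply, Matrix.one_apply]
  by_cases hpq : p = q
  · rw [if_pos hpq, if_pos (congrArg ix hpq)]; rfl
  · rw [if_neg hpq, if_neg (fun h => hpq (ix_injective h))]; rfl

theorem eight_cancel {x y : GolayPt → ℤ} (h : 8 • x = 8 • y) : x = y := by
  funext p
  have h1 := congrFun h p
  simp only [Pi.smul_apply, nsmul_eq_mul, Nat.cast_ofNat] at h1
  linarith

/-- the automorphism given by a coded matrix -/
theorem exists_mat {R R' I I' : List ℕ} (ho : orthOK R R' = true) (ho' : orthOK R' R = true)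
    (hi : imgsOK R I = true) (hi' : imgsOK R' I' = true) :
    ∃ g : Co0, (∀ v : leechLattice, (mt R).mulVec (v : GolayPt → ℤ) = 8 • ((g • v : leechLattice) : GolayPt → ℤ)) ∧
      ∀ v : leechLattice, (mt R').mulVec (v : GolayPt → ℤ) = 8 • ((g⁻¹ • v : leechLattice) : GolayPt → ℤ) := by
  have h1 : ∀ v : leechLattice, ∃ w : leechLattice, (mt R).mulVec (v : GolayPt → ℤ) = 8 • (w : GolayPt → ℤ) := by
    intro v
    obtain ⟨y, hy, h⟩ := le_imS hi v.2
    exact ⟨⟨y, hy⟩, h⟩
  have h2 : ∀ v : leechLattice, ∃ w : leechLattice, (mt R').mulVec (v : GolayPt → ℤ) = 8 • (w : GolayPt → ℤ) := by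
    intro v
    obtain ⟨y, hy, h⟩ := le_imS hi' v.2
    exact ⟨⟨y, hy⟩, h⟩
  choose F hF using h1
  choose F' hF' using h2
  have key : ∀ (A A' : List ℕ) (f f' : leechLattice → leechLattice), mt A' * mt A = (64 : ℤ) • (1 : Matrix GolayPt GolayPt ℤ) →
      (∀ v : leechLattice, (mt A).mulVec (v : GolayPt → ℤ) = 8 • (f v : GolayPt → ℤ)) →
      (∀ v : leechLattice, (mt A').mulVec (v : GolayPt → ℤ) = 8 • (f' v : GolayPt → ℤ)) → ∀ v, f' (f v) = v := by
    intro A A' f f' hA hf hf' v
    apply Subtype.ext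
    apply eight_cancel
    apply eight_cancel
    have h3 : (mt A').mulVec (8 • (f v : GolayPt → ℤ)) = 8 • (8 • (f' (f v) : GolayPt → ℤ)) := by
      rw [Matrix.mulVec_smul, hf']
    rw [← hf, Matrix.mulVec_mulVec, hA, Matrix.smul_mulVec, Matrix.one_mulVec] at h3
    rw [← h3]
    funext p
    show (64 : ℤ) • ((v : GolayPt → ℤ) p) = 8 • (8 • ((v : GolayPt → ℤ) p))
    simp only [nsmul_eq_mul, smul_eq_mul, Nat.cast_ofNat]
    ring
  let E : Equiv.Perm leechLattice :=
    { toFun := F
      invFun := F'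
      left_inv := key R R' F F' (mt_mul ho) hF hF'
      right_inv := key R' R F' F (mt_mul ho') hF' hF }
  have hE : E ∈ Co0 := by
    refine ⟨?_, ?_⟩
    · intro v w
      apply Subtype.ext
      apply eight_cancel
      show 8 • (F (v + w) : GolayPt → ℤ) = 8 • ((F v + F w : leechLattice) : GolayPt → ℤ)
      rw [← hF, AddSubgroup.coe_add, AddSubgroup.coe_add, Matrix.mulVec_add, hF, hF, smul_add]
    · intro v
      show sqNorm (F v : GolayPt → ℤ) = _
      have h3 : ∀ x : GolayPt → ℤ, sqNorm x = x ⬝ᵥ x := fun x => by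
        unfold sqNorm dotProduct
        exact Finset.sum_congr rfl fun i _ => pow_two _
      have h4 : (8 • (F v : GolayPt → ℤ)) ⬝ᵥ (8 • (F v : GolayPt → ℤ)) = 64 * ((F v : GolayPt → ℤ) ⬝ᵥ (F v : GolayPt → ℤ)) := by
        simp only [dotProduct, Pi.smul_apply, nsmul_eq_mul, Nat.cast_ofNat, Finset.mul_sum]
        exact Finset.sum_congr rfl fun i _ => by ring
      rw [← hF] at h4
      have h5 : (mt R).mulVec (v : GolayPt → ℤ) ⬝ᵥ (mt R).mulVec (v : GolayPt → ℤ) = 64 * ((v : GolayPt → ℤ) ⬝ᵥ (v : GolayPt → ℤ)) := by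
        rw [Matrix.dotProduct_mulVec, Matrix.vecMul_mulVec, mt_transpose ho, mt_mul ho, Matrix.vecMul_smul,
          Matrix.vecMul_one, smul_dotProduct, smul_eq_mul]
      rw [h3, h3]
      linarith
  refine ⟨⟨E, hE⟩, hF, hF'⟩

end Cfsg.Agent.Lib.H89LeechMat
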