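import Cfsg.Agent.Lib.H58SMh
import Cfsg.Agent.Lib.H89LeechMat
import Cfsg.Agent.Lib.LeechChain3

/-!
Schur multiplier engine, part v: actions on coded vectors of the Leech lattice (helper58)
-/

set_option autoImplicit false

namespace Cfsg.Agent.Lib.H58SM.LV

open Cfsg Cfsg.Agent.Lib.Golay Cfsg.Agent.Lib.LeechMin Cfsg.Agent.Lib.H89LeechMat Cfsg.Agent.Lib.H58SM
open Cfsg.Agent.Lib.LeechTrans Cfsg.Agent.Lib.LeechCo2

/-- uniqueness of balanced digits -/
theorem digits_zero {k : ℕ} {f : ℕ → ℤ} (hf : ∀ i < k, |f i| ≤ 31) (h : ∑ i ∈ Finset.range k, f i * 32 ^ i = 0) :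
    ∀ i < k, f i = 0 := by
  induction k generalizing f with
  | zero => intro i hi; omega
  | succ k ih =>
    rw [Finset.sum_range_succ'] at h
    have h1 : ∑ i ∈ Finset.range k, f (i + 1) * 32 ^ (i + 1) = 32 * ∑ i ∈ Finset.range k, f (i + 1) * 32 ^ i := by
      rw [Finset.mul_sum]
      refine Finset.sum_congr rfl fun i _ => ?_
      rw [pow_succ]; ring
    rw [h1, pow_zero, mul_one] at h
    have h0 := hf 0 (by omega)
    rw [abs_le] at h0
    have h2 : f 0 = 0 := by omega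
    rw [h2, add_zero] at h
    have h3 : ∑ i ∈ Finset.range k, f (i + 1) * 32 ^ i = 0 := by omega
    intro i hi
    rcases i with _ | i
    · exact h2
    · exact ih (f := fun i => f (i + 1)) (fun i hi => hf (i + 1) (by omega)) h3 i (by omega)

theorem img_eq (c i : ℕ) : img c i = c / 32 ^ i % 32 := by
  show Nat.land (Nat.shiftRight c (5 * i)) 31 = _
  rw [show (31 : ℕ) = 2 ^ 5 - 1 by norm_num, DatQ.land_mask rfl, DatQ.shift_eq, show (32 : ℕ) = 2 ^ 5 by norm_num, ← pow_mul]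

theorem img_lt (c i : ℕ) : img c i < 32 := by rw [img_eq]; exact Nat.mod_lt _ (by norm_num)

theorem code_sum (c k : ℕ) : (∑ i ∈ Finset.range k, img c i * 32 ^ i) = c % 32 ^ k := by
  induction k with
  | zero => simp [Nat.mod_one]
  | succ k ih =>
    rw [Finset.sum_range_succ, ih, img_eq, pow_succ, Nat.mod_mul, mul_comm (32 ^ k) (c / 32 ^ k % 32)]

/-- product of a coded vector with the coded matrix: `P` the constants of the columns -/
def mvk (P : List ℕ) (c s : ℕ) : ℕ :=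
  List.rec (motive := fun _ => ℕ → ℕ → ℕ) (fun _ s => s) (fun p _ ih c s =>
    frc (Nat.shiftRight c 5) fun c' => frc (Nat.add s (Nat.mul (Nat.land c 31) p)) fun s' => ih c' s') P c s

theorem mvk_cons (p : ℕ) (P : List ℕ) (c s : ℕ) : mvk (p :: P) c s = mvk P (c / 32) (s + c % 32 * p) := by
  have h : mvk (p :: P) c s = frc (Nat.shiftRight c 5) (fun c' => frc (Nat.add s (Nat.mul (Nat.land c 31) p)) fun s' =>
    mvk P c' s') := rfl
  rw [h, frc_eq, frc_eq]
  show mvk P (Nat.shiftRight c 5) (s + Nat.land c 31 * p) = _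
  rw [show (31 : ℕ) = 2 ^ 5 - 1 by norm_num, DatQ.land_mask rfl, DatQ.shift_eq]
  norm_num

theorem mvk_sum (P : List ℕ) (c s : ℕ) : mvk P c s = s + ∑ j ∈ Finset.range P.length, img c j * P.getD j 0 := by
  induction P generalizing c s with
  | nil => show s = _; simp
  | cons p P ih =>
    rw [mvk_cons, ih, List.length_cons, Finset.sum_range_succ']
    have h1 : ∀ j, img (c / 32) j = img c (j + 1) := by
      intro j
      rw [img_eq, img_eq, Nat.div_div_eq_div_mul, pow_succ, mul_comm]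
    have h2 : img c 0 = c % 32 := by rw [img_eq, pow_zero, Nat.div_one]
    simp only [h1, h2, List.getD_cons_succ, List.getD_cons_zero]
    ring

/-- constant of the column `j` -/
def colc (R : List ℕ) (j : ℕ) : ℤ := zs 24 fun i => Int.mul (dv (R.getD i 0) j) (Int.pow 32 i)

theorem colc_eq (R : List ℕ) (j : ℕ) : colc R j = ∑ i ∈ Finset.range 24, dv (R.getD i 0) j * 32 ^ i := zs_eq _ _

/-- the sum of all column constants -/
def cols (R : List ℕ) : ℤ := zs 24 fun j => colc R j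

/-- modulus -/
def MD : ℕ := 2 ^ 160

/-- check of the constants `P`, `K` -/
def constOK (R P : List ℕ) (K : ℕ) : Bool :=
  Nat.beq P.length 24 && (allLt 24 (fun j => decide ((P.getD j 0 : ℤ) = Int.add (MD : ℤ) (colc R j))) &&
    decide (((K : ℤ) - (16 * cols R - 128 * zs 24 fun i => Int.pow 32 i)) % (MD : ℤ) = 0))

/-- the image of `a` is `b` -/
def mvOK (P : List ℕ) (K a b : ℕ) : Bool :=
  Nat.beq (Nat.land (mvk P a 0) (1461501637330902918203684832716283019655932542975)) (Nat.land (Nat.add (Nat.mul 8 b) K) (1461501637330902918203684832716283019655932542975))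

theorem dv_bd (c i : ℕ) : |dv c i| ≤ 16 := by
  rw [dv_eq, abs_le]
  have := img_lt c i
  omega

theorem sum_pow_bd : ∑ i ∈ Finset.range 24, (32 : ℤ) ^ i ≤ 2 ^ 120 := by
  rw [Finset.sum_range_succ]; norm_num [Finset.sum_range_succ]

theorem colc_bd (R : List ℕ) (j : ℕ) : |colc R j| ≤ 2 ^ 124 := by
  rw [colc_eq]
  calc |∑ i ∈ Finset.range 24, dv (R.getD i 0) j * 32 ^ i| ≤ ∑ i ∈ Finset.range 24, |dv (R.getD i 0) j * 32 ^ i| :=
        Finset.abs_sum_le_sum_abs _ _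
    _ ≤ ∑ i ∈ Finset.range 24, 16 * 32 ^ i := by
        apply Finset.sum_le_sum
        intro i _
        rw [abs_mul, abs_of_nonneg (by positivity : (0 : ℤ) ≤ 32 ^ i)]
        exact mul_le_mul_of_nonneg_right (dv_bd _ _) (by positivity)
    _ = 16 * ∑ i ∈ Finset.range 24, 32 ^ i := by rw [Finset.mul_sum]
    _ ≤ 16 * 2 ^ 120 := by have := sum_pow_bd; omega
    _ = 2 ^ 124 := by norm_num

theorem MD_eq : (1461501637330902918203684832716283019655932542975 : ℕ) = 2 ^ 160 - 1 := by norm_num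

theorem mv_spec {R P : List ℕ} {K a b : ℕ} (hb : b < 2 ^ 120) (hc : constOK R P K = true) (h : mvOK P K a b = true) :
    ∑ i ∈ Finset.range 24, (zs 24 fun k => Int.mul (dv (R.getD i 0) k) (dv a k)) * 32 ^ i =
      8 * ∑ i ∈ Finset.range 24, dv b i * 32 ^ i := by
  unfold constOK at hc
  rw [Bool.and_eq_true, Bool.and_eq_true] at hc
  obtain ⟨h1, h2, h3⟩ := hc
  have h1 := Nat.eq_of_beq_eq_true h1
  have h2 : ∀ j < 24, (P.getD j 0 : ℤ) = (MD : ℤ) + colc R j := fun j hj => of_decide_eq_true (allLt_iff.1 h2 j hj)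
  have h3 := of_decide_eq_true h3
  have h := Nat.eq_of_beq_eq_true h
  rw [MD_eq, DatQ.land_mask rfl, DatQ.land_mask rfl, mvk_sum, zero_add, h1] at h
  have h : (∑ j ∈ Finset.range 24, img a j * P.getD j 0) % 2 ^ 160 = (8 * b + K) % 2 ^ 160 := h
  have hz : ((∑ j ∈ Finset.range 24, img a j * P.getD j 0 : ℕ) : ℤ) ≡ ((8 * b + K : ℕ) : ℤ) [ZMOD (2 ^ 160 : ℕ)] :=
    (Int.natCast_modEq_iff).2 h
  set Y : ℤ := ∑ k ∈ Finset.range 24, dv a k * colc R k with hY
  have e1 : ∑ i ∈ Finset.range 24, (zs 24 fun k => Int.mul (dv (R.getD i 0) k) (dv a k)) * 32 ^ i = Y := by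
    have : ∀ i, (zs 24 fun k => Int.mul (dv (R.getD i 0) k) (dv a k)) * 32 ^ i =
        ∑ k ∈ Finset.range 24, dv a k * (dv (R.getD i 0) k * 32 ^ i) := by
      intro i
      rw [zs_eq, Finset.sum_mul]
      refine Finset.sum_congr rfl fun k _ => ?_
      show dv (R.getD i 0) k * dv a k * 32 ^ i = _
      ring
    rw [Finset.sum_congr rfl fun i _ => this i, Finset.sum_comm, hY]
    refine Finset.sum_congr rfl fun k _ => ?_
    rw [colc_eq, Finset.mul_sum]
  have hcols : cols R = ∑ j ∈ Finset.range 24, colc R j := zs_eq _ _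
  have hpw : (zs 24 fun i => Int.pow 32 i) = ∑ i ∈ Finset.range 24, (32 : ℤ) ^ i := zs_eq _ _
  have e2 : ((∑ j ∈ Finset.range 24, img a j * P.getD j 0 : ℕ) : ℤ) =
      Y + 16 * cols R + (MD : ℤ) * ∑ j ∈ Finset.range 24, (img a j : ℤ) := by
    push_cast
    rw [hcols, hY, Finset.mul_sum, Finset.mul_sum, ← Finset.sum_add_distrib, ← Finset.sum_add_distrib]
    refine Finset.sum_congr rfl fun j hj => ?_
    rw [h2 j (Finset.mem_range.1 hj), dv_eq]
    ring
  have e3 : (b : ℤ) = ∑ i ∈ Finset.range 24, dv b i * 32 ^ i + 16 * ∑ i ∈ Finset.range 24, (32 : ℤ) ^ i := by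
    have h5 := code_sum b 24
    rw [Nat.mod_eq_of_lt (by rw [show (32 : ℕ) ^ 24 = 2 ^ 120 by norm_num]; exact hb)] at h5
    have h6 : (b : ℤ) = ((∑ i ∈ Finset.range 24, img b i * 32 ^ i : ℕ) : ℤ) := by rw [h5]
    rw [h6]
    push_cast
    rw [Finset.mul_sum, ← Finset.sum_add_distrib]
    refine Finset.sum_congr rfl fun i _ => ?_
    rw [dv_eq]; ring
  set Z : ℤ := ∑ i ∈ Finset.range 24, dv b i * 32 ^ i with hZ
  rw [e1]
  have hdv : ((2 ^ 160 : ℕ) : ℤ) ∣ Y - 8 * Z := by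
    have d1 : ((2 ^ 160 : ℕ) : ℤ) ∣ ((8 * b + K : ℕ) : ℤ) - ((∑ j ∈ Finset.range 24, img a j * P.getD j 0 : ℕ) : ℤ) :=
      Int.modEq_iff_dvd.1 hz
    have d2 : ((2 ^ 160 : ℕ) : ℤ) ∣ (K : ℤ) - (16 * cols R - 128 * zs 24 fun i => Int.pow 32 i) :=
      Int.dvd_of_emod_eq_zero h3
    rw [e2] at d1
    rw [hpw] at d2
    push_cast at d1
    rw [e3] at d1
    have d3 : ((2 ^ 160 : ℕ) : ℤ) ∣ (MD : ℤ) * ∑ j ∈ Finset.range 24, (img a j : ℤ) := Dvd.intro _ rfl
    have : Y - 8 * Z = ((K : ℤ) - (16 * cols R - 128 * ∑ i ∈ Finset.range 24, (32 : ℤ) ^ i)) -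
      (8 * (Z + 16 * ∑ i ∈ Finset.range 24, (32 : ℤ) ^ i) + K - (Y + 16 * cols R + (MD : ℤ) * ∑ j ∈ Finset.range 24, (img a j : ℤ))) -
      (MD : ℤ) * ∑ j ∈ Finset.range 24, (img a j : ℤ) := by ring
    rw [this]
    exact (d2.sub (by exact_mod_cast d1)).sub d3
  have bY : |Y| ≤ 2 ^ 133 := by
    calc |Y| ≤ ∑ k ∈ Finset.range 24, |dv a k * colc R k| := Finset.abs_sum_le_sum_abs _ _
      _ ≤ ∑ k ∈ Finset.range 24, (16 * 2 ^ 124 : ℤ) := by
          apply Finset.sum_le_sum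
          intro k _
          rw [abs_mul]
          exact mul_le_mul (dv_bd _ _) (colc_bd _ _) (abs_nonneg _) (by norm_num)
      _ ≤ 2 ^ 133 := by rw [Finset.sum_const, Finset.card_range]; norm_num
  have bZ : |Z| ≤ 2 ^ 124 := by
    calc |Z| ≤ ∑ i ∈ Finset.range 24, |dv b i * 32 ^ i| := Finset.abs_sum_le_sum_abs _ _
      _ ≤ ∑ i ∈ Finset.range 24, 16 * 32 ^ i := by
          apply Finset.sum_le_sum
          intro i _
          rw [abs_mul, abs_of_nonneg (by positivity : (0 : ℤ) ≤ 32 ^ i)]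
          exact mul_le_mul_of_nonneg_right (dv_bd _ _) (by positivity)
      _ = 16 * ∑ i ∈ Finset.range 24, 32 ^ i := by rw [Finset.mul_sum]
      _ ≤ 16 * 2 ^ 120 := by have := sum_pow_bd; omega
      _ = 2 ^ 124 := by norm_num
  rw [abs_le] at bY bZ
  have h9 : Y - 8 * Z = 0 := by
    apply Int.eq_zero_of_abs_lt_dvd hdv
    rw [abs_lt]
    push_cast
    constructor
    · have : (2 : ℤ) ^ 160 > 2 ^ 133 + 8 * 2 ^ 124 := by norm_num
      omega
    · have : (2 : ℤ) ^ 160 > 2 ^ 133 + 8 * 2 ^ 124 := by norm_num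
      omega
  omega

/-- the image of a coded vector -/
theorem smul_code {R P : List ℕ} {K a b : ℕ} {g : Co0}
    (hg : ∀ v : leechLattice, (mt R).mulVec (v : GolayPt → ℤ) = 8 • ((g • v : leechLattice) : GolayPt → ℤ))
    {x : leechLattice} (hx : (x : GolayPt → ℤ) = vv a) (hn : sqNorm (x : GolayPt → ℤ) ≤ 225)
    (hb : b < 2 ^ 120) (hc : constOK R P K = true) (h : mvOK P K a b = true) :
    ((g • x : leechLattice) : GolayPt → ℤ) = vv b := by
  have h1 := mv_spec hb hc h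
  set y : GolayPt → ℤ := ((g • x : leechLattice) : GolayPt → ℤ) with hy
  have h2 : ∀ i < 24, (zs 24 fun k => Int.mul (dv (R.getD i 0) k) (dv a k)) = 8 * y (Golay.pt i) := by
    intro i hi
    have h3 := congrFun (hg x) (Golay.pt i)
    rw [hx, mulVec_vv, ix_pt hi] at h3
    rw [h3, ← hy, Pi.smul_apply, nsmul_eq_mul]; rfl
  have h4 : ∑ i ∈ Finset.range 24, (y (Golay.pt i) - dv b i) * 32 ^ i = 0 := by
    have h5 : ∑ i ∈ Finset.range 24, (zs 24 fun k => Int.mul (dv (R.getD i 0) k) (dv a k)) * 32 ^ i =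
        8 * ∑ i ∈ Finset.range 24, y (Golay.pt i) * 32 ^ i := by
      rw [Finset.mul_sum]
      refine Finset.sum_congr rfl fun i hi => ?_
      rw [h2 i (Finset.mem_range.1 hi)]; ring
    rw [h5] at h1
    have h6 : ∑ i ∈ Finset.range 24, y (Golay.pt i) * 32 ^ i = ∑ i ∈ Finset.range 24, dv b i * 32 ^ i := by omega
    simp only [sub_mul, Finset.sum_sub_distrib]
    rw [h6, sub_self]
  have hyn : sqNorm y ≤ 225 := by rw [hy, sqNorm_smul]; exact hn
  have hyb : ∀ p, |y p| ≤ 15 := by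
    intro p
    have h7 : y p ^ 2 ≤ sqNorm y := by
      unfold sqNorm
      exact Finset.single_le_sum (f := fun i => y i ^ 2) (fun i _ => sq_nonneg _) (Finset.mem_univ p)
    rw [abs_le]
    constructor <;> nlinarith
  have h8 := digits_zero (k := 24) (f := fun i => y (Golay.pt i) - dv b i) (fun i _ => by
    have h9 := hyb (Golay.pt i)
    have h10 := dv_bd b i
    have h11 : dv b i ≤ 15 := by
      rw [dv_eq]
      have := img_lt b i
      omega
    rw [abs_le] at h9 h10 ⊢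
    constructor <;> omega) h4
  funext p
  have h9 := h8 (ix p) (ix_lt p)
  simp only [pt_ix] at h9
  show y p = dv b (ix p)
  omega

theorem vv_inj {c c' : ℕ} (hc : c < 2 ^ 120) (hc' : c' < 2 ^ 120) (h : vv c = vv c') : c = c' := by
  have h1 : ∀ i < 24, img c i = img c' i := by
    intro i hi
    have h2 := congrFun h (Golay.pt i)
    rw [vv_pt c hi, vv_pt c' hi, dv_eq, dv_eq] at h2
    omega
  have h3 := code_sum c 24
  have h4 := code_sum c' 24
  rw [Nat.mod_eq_of_lt (by rw [show (32 : ℕ) ^ 24 = 2 ^ 120 by norm_num]; assumption)] at h3 h4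
  rw [← h3, ← h4]
  exact Finset.sum_congr rfl fun i hi => by rw [h1 i (Finset.mem_range.1 hi)]

/-! ### the action on a table of vectors -/

open Classical in
/-- the point with the number `a` -/
noncomputable def pnt (cd : ℕ → ℕ) (a : ℕ) : leechLattice :=
  if h : vv (cd a) ∈ leechLattice then ⟨vv (cd a), h⟩ else 0

/-- the checks: codes are bounded and differ from the first -/
def cdOK (cd : ℕ → ℕ) (n : ℕ) : Bool :=
  frc (cd 0) fun c0 => alln (fun a => frc (cd a) fun c => Nat.blt c (1329227995784915872903807060280344576) &&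
    (Nat.beq a 0 || !(Nat.beq c c0))) n

theorem cdOK_iff {cd : ℕ → ℕ} {n : ℕ} (h : cdOK cd n = true) :
    ∀ a < n, cd a < 2 ^ 120 ∧ (cd a = cd 0 → a = 0) := by
  intro a ha
  unfold cdOK at h
  rw [frc_eq] at h
  have h1 := alln_iff.1 h a ha
  rw [frc_eq, Bool.and_eq_true, Bool.or_eq_true, Nat.beq_eq] at h1
  refine ⟨?_, ?_⟩
  · have := Sol.blt_iff.1 h1.1
    rwa [show (2 : ℕ) ^ 120 = 1329227995784915872903807060280344576 by norm_num]
  · intro h2
    rcases h1.2 with h3 | h3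
    · exact h3
    · rw [h2] at h3
      simp at h3

/-- checks of the images under one generator; `f` the table of images -/
def mvTab (P : List ℕ) (K : ℕ) (cd : ℕ → ℕ) (f : ℕ → ℕ) (s len : ℕ) : Bool :=
  alln (fun x => frc (Nat.add s x) fun a => frc (cd a) fun c => frc (cd (f a)) fun c' => mvOK P K c c') len

/-- data of the generators -/
structure Gens (k : ℕ) (g : ℕ → Co0) where
  R : ℕ → List ℕ
  P : ℕ → List ℕ
  K : ℕ → ℕ
  hg : ∀ i < k, ∀ v : leechLattice, (mt (R i)).mulVec (v : GolayPt → ℤ) = 8 • ((g i • v : leechLattice) : GolayPt → ℤ)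
  hc : ∀ i < k, constOK (R i) (P i) (K i) = true

theorem pnt_coe {cd : ℕ → ℕ} {a : ℕ} (h : vv (cd a) ∈ leechLattice) : (pnt cd a : GolayPt → ℤ) = vv (cd a) := by
  unfold pnt; rw [dif_pos h]

theorem pnt_all {k n : ℕ} {g : ℕ → Co0} (D : Gens k g) {cd : ℕ → ℕ} {T : ℕ → ℕ → ℕ} {pi pq : ℕ → ℕ}
    (h0 : latC (cd 0) = true) (hN : idot (cd 0) (cd 0) ≤ 225) (hcd : cdOK cd n = true)
    (htree : ∀ b < n, b ≠ 0 → pi b < k ∧ pq b < b ∧ T (2 * pi b) (pq b) = b)
    (hmv : ∀ i < k, ∀ a < n, mvOK (D.P i) (D.K i) (cd a) (cd (T (2 * i) a)) = true) :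
    ∀ a < n, (pnt cd a : GolayPt → ℤ) = vv (cd a) ∧ sqNorm (pnt cd a : GolayPt → ℤ) = idot (cd 0) (cd 0) := by
  intro a
  induction a using Nat.strong_induction_on with
  | _ a ih =>
    intro ha
    by_cases h : a = 0
    · subst h
      have h1 := pnt_coe (cd := cd) (a := 0) (vv_mem h0)
      refine ⟨h1, ?_⟩
      rw [h1, sqNorm_vv]
    · obtain ⟨h1, h2, h3⟩ := htree a ha h
      obtain ⟨h4, h5⟩ := ih _ h2 (by omega)
      have h6 := hmv _ h1 _ (by omega : pq a < n)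
      rw [h3] at h6
      have h7 := smul_code (D.hg _ h1) h4 (by rw [h5]; exact hN) (cdOK_iff hcd a ha).1 (D.hc _ h1) h6
      have h8 : vv (cd a) ∈ leechLattice := by rw [← h7]; exact (g (pi a) • pnt cd (pq a)).2
      have h9 := pnt_coe (cd := cd) (a := a) h8
      refine ⟨h9, ?_⟩
      rw [h9, ← h7, sqNorm_smul]; exact h5

theorem fwd_of {k n : ℕ} {g : ℕ → Co0} (D : Gens k g) {cd : ℕ → ℕ} {T : ℕ → ℕ → ℕ} {pi pq : ℕ → ℕ}
    (h0 : latC (cd 0) = true) (hN : idot (cd 0) (cd 0) ≤ 225) (hcd : cdOK cd n = true)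
    (hT : ∀ i < k, ∀ a < n, T (2 * i) a < n)
    (htree : ∀ b < n, b ≠ 0 → pi b < k ∧ pq b < b ∧ T (2 * pi b) (pq b) = b)
    (hmv : ∀ i < k, ∀ a < n, mvOK (D.P i) (D.K i) (cd a) (cd (T (2 * i) a)) = true) :
    ∀ i < k, ∀ a < n, g i • pnt cd a = pnt cd (T (2 * i) a) := by
  intro i hi a ha
  have H := pnt_all D h0 hN hcd htree hmv
  apply Subtype.ext
  rw [(H _ (hT i hi a ha)).1]
  exact smul_code (D.hg _ hi) (H a ha).1 (by rw [(H a ha).2]; exact hN) (cdOK_iff hcd _ (hT i hi a ha)).1 (D.hc _ hi)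
    (hmv i hi a ha)

theorem base_of {k n : ℕ} {g : ℕ → Co0} (D : Gens k g) {cd : ℕ → ℕ} {T : ℕ → ℕ → ℕ} {pi pq : ℕ → ℕ}
    (h0 : latC (cd 0) = true) (hN : idot (cd 0) (cd 0) ≤ 225) (hcd : cdOK cd n = true) (hn : 0 < n)
    (htree : ∀ b < n, b ≠ 0 → pi b < k ∧ pq b < b ∧ T (2 * pi b) (pq b) = b)
    (hmv : ∀ i < k, ∀ a < n, mvOK (D.P i) (D.K i) (cd a) (cd (T (2 * i) a)) = true) :
    ∀ a < n, pnt cd a = pnt cd 0 → a = 0 := by
  intro a ha h
  have H := pnt_all D h0 hN hcd htree hmv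
  have h1 : vv (cd a) = vv (cd 0) := by rw [← (H a ha).1, ← (H 0 hn).1, h]
  exact (cdOK_iff hcd a ha).2 (vv_inj (cdOK_iff hcd a ha).1 (cdOK_iff hcd 0 hn).1 h1)

end Cfsg.Agent.Lib.H58SM.LV
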