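import Cfsg.Agent.Lib.FrobDvd
import Cfsg.Agent.Lib.H70Basic
import Cfsg.Agent.Lib.MinNonNilp
import Cfsg.Agent.Lib.PPart

set_option autoImplicit false

/-!
Tools for groups in which all noncentral elements have the same class size (Itô).
-/

namespace Cfsg.Agent.Lib.ItoTwoSizes

open Subgroup
open scoped commutatorElement

theorem eq_of_le_of_index {G : Type*} [Group G] [Finite G] {H K : Subgroup G} (h : H ≤ K) (hi : H.index = K.index) :
    H = K := by
  apply le_antisymm h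
  rw [← Subgroup.relIndex_eq_one]
  have h1 := Subgroup.relIndex_mul_index h
  rw [hi] at h1
  have h2 : K.index ≠ 0 := Subgroup.index_ne_zero_of_finite
  exact Nat.eq_of_mul_eq_mul_right (Nat.pos_of_ne_zero h2) (by rw [h1, one_mul])

/-- the `p`-group part: an abelian normal subgroup containing all the `p`-th powers -/
theorem pgroup_part {P : Type*} [Group P] [Finite P] {p : ℕ} [Fact p.Prime] (hP : IsPGroup p P) (n : ℕ)
    (h : ∀ x : P, x ∉ center P → (centralizer ({x} : Set P)).index = n) :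
    ∃ A : Subgroup P, A.Normal ∧ IsMulCommutative A ∧ ∀ y : P, y ^ p ∈ A := by
  classical
  have hp : p.Prime := Fact.out
  have heq : ∀ x y : P, x ∉ center P → y ∉ center P → centralizer ({x} : Set P) ≤ centralizer ({y} : Set P) →
      centralizer ({x} : Set P) = centralizer ({y} : Set P) := by
    intro x y hx hy hle
    exact eq_of_le_of_index hle (by rw [h x hx, h y hy])
  have hpow : ∀ x : P, ∀ m : ℕ, centralizer ({x} : Set P) ≤ centralizer ({x ^ m} : Set P) := by
    intro x m g hg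
    rw [mem_centralizer_singleton_iff] at hg ⊢
    exact ((show Commute g x from hg).pow_right m).eq
  by_cases hall : ∀ y : P, y ^ p ∈ center P
  · exact ⟨center P, inferInstance, inferInstance, hall⟩
  push Not at hall
  obtain ⟨x₀, hx₀⟩ := hall
  -- an element of the second centre
  have hnt : Nontrivial (P ⧸ center P) := by
    by_contra hcon
    rw [not_nontrivial_iff_subsingleton] at hcon
    apply hx₀
    rw [← QuotientGroup.eq_one_iff]
    exact Subsingleton.elim _ _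
  have hPq : IsPGroup p (P ⧸ center P) := hP.to_quotient _
  have hPqn := hPq.center_nontrivial
  obtain ⟨⟨zb, hzb⟩, hzb1⟩ := exists_ne (1 : center (P ⧸ center P))
  obtain ⟨z, rfl⟩ := QuotientGroup.mk_surjective zb
  have hz : z ∉ center P := by
    intro hz
    apply hzb1
    apply Subtype.ext
    exact (QuotientGroup.eq_one_iff z).2 hz
  have hzc : ∀ g : P, ⁅z, g⁆ ∈ center P := by
    intro g
    rw [← QuotientGroup.eq_one_iff]
    have h1 : ((⁅z, g⁆ : P) : P ⧸ center P) = ⁅(z : P ⧸ center P), (g : P ⧸ center P)⁆ := rfl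
    rw [h1, commutatorElement_eq_one_iff_mul_comm]
    exact (Subgroup.mem_center_iff.1 hzb g).symm
  -- commutator calculus with elements of the second centre
  have hmulr : ∀ z : P, (∀ g, ⁅z, g⁆ ∈ center P) → ∀ g k : P, ⁅z, g * k⁆ = ⁅z, g⁆ * ⁅z, k⁆ := by
    intro z hz g k
    have h1 : ⁅z, g * k⁆ = ⁅z, g⁆ * (g * ⁅z, k⁆ * g⁻¹) := by simp only [commutatorElement_def]; group
    have h2 := Subgroup.mem_center_iff.1 (hz k) g
    rw [h1, h2]; group
  have hpowr : ∀ z : P, (∀ g, ⁅z, g⁆ ∈ center P) → ∀ (g : P) (m : ℕ), ⁅z, g ^ m⁆ = ⁅z, g⁆ ^ m := by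
    intro z hz g m
    induction m with
    | zero => simp
    | succ m ih => rw [pow_succ, hmulr z hz, ih, pow_succ]
  have hpowl : ∀ z : P, (∀ g, ⁅z, g⁆ ∈ center P) → ∀ (g : P) (m : ℕ), ⁅z ^ m, g⁆ = ⁅z, g⁆ ^ m := by
    intro z hz g m
    induction m with
    | zero => simp
    | succ m ih =>
      have h1 : ⁅z ^ (m + 1), g⁆ = z ^ m * ⁅z, g⁆ * (z ^ m)⁻¹ * ⁅z ^ m, g⁆ := by
        rw [pow_succ]; simp only [commutatorElement_def]; group
      have h2 := Subgroup.mem_center_iff.1 (hz g) (z ^ m)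
      have h3 := Subgroup.mem_center_iff.1 (hz g) ⁅z ^ m, g⁆
      rw [h1, h2, mul_assoc ⁅z, g⁆, mul_inv_cancel, mul_one, ← h3, ih, pow_succ]
  -- (i)
  have hi : z ^ p ∈ center P := by
    by_contra hcon
    have hC := heq z (z ^ p) hz hcon (hpow z p)
    obtain ⟨g, hg⟩ : ∃ g : P, ⁅z, g⁆ ≠ 1 := by
      by_contra hcon2
      push Not at hcon2
      apply hz
      rw [Subgroup.mem_center_iff]
      intro g
      exact (commutatorElement_eq_one_iff_mul_comm.1 (hcon2 g)).symm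
    obtain ⟨k, hk⟩ := hP ⁅z, g⁆
    -- minimal exponent
    have hex : ∃ k : ℕ, ⁅z, g⁆ ^ p ^ k = 1 := ⟨k, hk⟩
    have hmin := Nat.find_spec hex
    set j := Nat.find hex with hj
    have hj0 : j ≠ 0 := by
      intro h0
      rw [h0, pow_zero, pow_one] at hmin
      exact hg hmin
    obtain ⟨i, hij⟩ := Nat.exists_eq_succ_of_ne_zero hj0
    have hi1 : ¬ ⁅z, g⁆ ^ p ^ i = 1 := Nat.find_min hex (by omega)
    have h1 : g ^ p ^ i ∈ centralizer ({z ^ p} : Set P) := by
      rw [mem_centralizer_singleton_iff]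
      apply Eq.symm
      rw [← commutatorElement_eq_one_iff_mul_comm, hpowl z hzc, hpowr z hzc, ← pow_mul, ← pow_succ]
      rw [hij] at hmin
      exact hmin
    rw [← hC, mem_centralizer_singleton_iff] at h1
    apply hi1
    rw [← hpowr z hzc, commutatorElement_eq_one_iff_mul_comm]
    exact h1.symm
  -- (ii)
  have hii : ∀ x : P, x ^ p ∉ center P → Commute z x := by
    intro x hx
    have hxc : x ∉ center P := fun h => hx (pow_mem h p)
    have hC := heq x (x ^ p) hxc hx (hpow x p)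
    have h1 : z ∈ centralizer ({x ^ p} : Set P) := by
      rw [mem_centralizer_singleton_iff, ← commutatorElement_eq_one_iff_mul_comm, hpowr z hzc, ← hpowl z hzc,
        commutatorElement_eq_one_iff_mul_comm]
      exact (Subgroup.mem_center_iff.1 hi x).symm
    rw [← hC, mem_centralizer_singleton_iff] at h1
    exact h1
  -- (iii)
  have hiii : ∀ x : P, x ^ p ∉ center P → centralizer ({x} : Set P) = centralizer ({z} : Set P) := by
    intro x hx
    have hxc : x ∉ center P := fun h => hx (pow_mem h p)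
    apply heq x z hxc hz
    intro u hu
    rw [mem_centralizer_singleton_iff] at hu ⊢
    have hux : Commute u x := hu
    by_cases hup : u ^ p ∈ center P
    · have h1 : (u * x) ^ p ∉ center P := by
        rw [hux.mul_pow]
        intro h2
        apply hx
        have := mul_mem (inv_mem hup) h2
        rwa [inv_mul_cancel_left] at this
      have h2 : Commute z (u * x) := hii _ h1
      have h3 : Commute z x := hii _ hx
      have h4 : Commute z (u * x * x⁻¹) := h2.mul_right h3.inv_right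
      rw [mul_inv_cancel_right] at h4
      exact h4.symm.eq
    · exact (hii u hup).symm.eq
  -- (iv)
  set U := centralizer ({z} : Set P) with hU
  have hUn : U.Normal := by
    refine ⟨fun u hu g => ?_⟩
    rw [hU, mem_centralizer_singleton_iff] at hu ⊢
    apply Eq.symm
    rw [← commutatorElement_eq_one_iff_mul_comm]
    have h1 : ⁅z, u⁆ = 1 := commutatorElement_eq_one_iff_mul_comm.2 hu.symm
    rw [hmulr z hzc, hmulr z hzc, h1, mul_one, ← hmulr z hzc, mul_inv_cancel, commutatorElement_one_right]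
  refine ⟨U ⊓ centralizer (U : Set P), inferInstance, ?_, ?_⟩
  · refine ⟨⟨?_⟩⟩
    rintro ⟨a, ha⟩ ⟨b, hb⟩
    exact Subtype.ext (Subgroup.mem_centralizer_iff.1 hb.2 a ha.1)
  · intro y
    by_cases hy : y ^ p ∈ center P
    · refine ⟨?_, ?_⟩
      · show y ^ p ∈ centralizer ({z} : Set P)
        rw [mem_centralizer_singleton_iff]
        exact (Subgroup.mem_center_iff.1 hy z).symm
      · show y ^ p ∈ centralizer (U : Set P)
        rw [Subgroup.mem_centralizer_iff]
        intro u _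
        exact Subgroup.mem_center_iff.1 hy u
    · have hCy := hiii y hy
      apply pow_mem
      refine ⟨?_, ?_⟩
      · show y ∈ U
        rw [← hCy, mem_centralizer_singleton_iff]
      · show y ∈ centralizer (U : Set P)
        rw [Subgroup.mem_centralizer_iff]
        intro u hu
        have hu' : u ∈ centralizer ({y} : Set P) := by rw [hCy]; exact hu
        exact mem_centralizer_singleton_iff.1 hu'

/-! ### Equal abelian partitions -/

section Partition

variable {Q : Type*} [Group Q] [Finite Q]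

theorem card_pred (𝒟 : Set (Subgroup Q)) (hpart : ∀ x : Q, x ≠ 1 → ∃! D : Subgroup Q, D ∈ 𝒟 ∧ x ∈ D)
    (Pr : Q → Prop) (d : ℕ) (hd : ∀ D ∈ 𝒟, Nat.card {x : Q // x ∈ D ∧ Pr x ∧ x ≠ 1} = d) :
    Nat.card {x : Q // Pr x ∧ x ≠ 1} = Nat.card 𝒟 * d := by
  classical
  let f : {x : Q // Pr x ∧ x ≠ 1} → 𝒟 := fun x =>
    ⟨(hpart x.1 x.2.2).choose, (hpart x.1 x.2.2).choose_spec.1.1⟩
  have hf : ∀ x : {x : Q // Pr x ∧ x ≠ 1}, ∀ D : 𝒟, f x = D ↔ x.1 ∈ (D : Subgroup Q) := by
    intro x D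
    have hspec := (hpart x.1 x.2.2).choose_spec
    constructor
    · intro h
      rw [← h]; exact hspec.1.2
    · intro h
      apply Subtype.ext
      exact (hspec.2 D.1 ⟨D.2, h⟩).symm
  refine FrobDvd.card_eq_mul_of_fibers f d ?_
  intro D
  rw [← hd D.1 D.2]
  refine Nat.card_congr
    { toFun := fun x => ⟨x.1.1, (hf x.1 D).1 x.2, x.1.2.1, x.1.2.2⟩
      invFun := fun x => ⟨⟨x.1, x.2.2.1, x.2.2.2⟩, (hf _ D).2 x.2.1⟩
      left_inv := fun x => rfl
      right_inv := fun x => rfl }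

theorem card_ne_one {α : Type*} [Finite α] (Pr : α → Prop) (a : α) (ha : Pr a) :
    Nat.card {x : α // Pr x} = Nat.card {x : α // Pr x ∧ x ≠ a} + 1 := by
  classical
  have := Fintype.ofFinite α
  simp only [Nat.card_eq_fintype_card, Fintype.card_subtype]
  have h1 : (Finset.univ.filter fun x : α => Pr x ∧ x ≠ a) = (Finset.univ.filter fun x : α => Pr x).erase a := by
    ext x
    simp only [Finset.mem_filter, Finset.mem_univ, true_and, Finset.mem_erase]
    exact and_comm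
  rw [h1, Finset.card_erase_of_mem (by simpa using ha)]
  have : 0 < (Finset.univ.filter fun x : α => Pr x).card := Finset.card_pos.2 ⟨a, by simpa using ha⟩
  omega

/-- `s'`-elements of an abelian group -/
theorem card_prime_to {D : Subgroup Q} (hab : IsMulCommutative D) {s : ℕ} (hs : s.Prime) (j c' M : ℕ)
    (hc : Nat.card D = s ^ j * c') (hc' : ¬ s ∣ c') (hM : ¬ s ∣ M) (hcM : c' ∣ M) :
    Nat.card {x : Q // x ∈ D ∧ x ^ M = 1} = c' := by
  classical
  have := Fact.mk hs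
  let K : Subgroup D :=
    { carrier := {x | x ^ c' = 1}
      mul_mem' := by
        intro a b ha hb
        show (a * b) ^ c' = 1
        have hcomm : Commute a b := hab.is_comm.comm a b
        have ha' : a ^ c' = 1 := ha
        have hb' : b ^ c' = 1 := hb
        rw [hcomm.mul_pow, ha', hb', one_mul]
      one_mem' := one_pow _
      inv_mem' := by
        intro a ha
        show a⁻¹ ^ c' = 1
        have ha' : a ^ c' = 1 := ha
        rw [inv_pow, ha', inv_one] }
  have h1 : Nat.card {x : Q // x ∈ D ∧ x ^ M = 1} = Nat.card K := by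
    refine Nat.card_congr
      { toFun := fun x => ⟨⟨x.1, x.2.1⟩, ?_⟩
        invFun := fun x => ⟨x.1.1, x.1.2, ?_⟩
        left_inv := fun x => rfl
        right_inv := fun x => rfl }
    · show (⟨x.1, x.2.1⟩ : D) ^ c' = 1
      rw [← orderOf_dvd_iff_pow_eq_one]
      have h2 : orderOf (⟨x.1, x.2.1⟩ : D) ∣ s ^ j * c' := by rw [← hc]; exact orderOf_dvd_natCard _
      have h3 : orderOf (⟨x.1, x.2.1⟩ : D) ∣ M := by
        rw [Subgroup.orderOf_mk]; exact orderOf_dvd_of_pow_eq_one x.2.2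
      have h4 : (orderOf (⟨x.1, x.2.1⟩ : D)).Coprime (s ^ j) := by
        apply Nat.Coprime.pow_right
        rw [Nat.coprime_comm, Nat.Prime.coprime_iff_not_dvd hs]
        exact fun h => hM (h.trans h3)
      exact h4.dvd_of_dvd_mul_left h2
    · have h2 : (x.1 : D) ^ c' = 1 := x.2
      have h3 : ((x.1 : D) : Q) ^ c' = 1 := congrArg Subtype.val h2
      obtain ⟨t, rfl⟩ := hcM
      rw [pow_mul, h3, one_pow]
  rw [h1]
  apply Nat.dvd_antisymm
  · -- |K| divides c'
    have h2 : Nat.card K ∣ s ^ j * c' := by rw [← hc]; exact Subgroup.card_subgroup_dvd_card K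
    have h3 : (Nat.card K).Coprime (s ^ j) := by
      apply Nat.Coprime.pow_right
      rw [Nat.coprime_comm, Nat.Prime.coprime_iff_not_dvd hs]
      intro hd
      obtain ⟨⟨x, hx⟩, hxo⟩ := exists_prime_orderOf_dvd_card' s hd
      rw [Subgroup.orderOf_mk] at hxo
      have hx' : x ^ c' = 1 := hx
      apply hc'
      rw [← hxo]
      exact orderOf_dvd_of_pow_eq_one hx'
    exact h3.dvd_of_dvd_mul_left h2
  · have h2 := FrobDvd.frobenius_dvd (G := D) c' (by rw [hc]; exact dvd_mul_left _ _)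
    exact h2

/-- one prime -/
theorem one_prime (𝒟 : Set (Subgroup Q)) (hpart : ∀ x : Q, x ≠ 1 → ∃! D : Subgroup Q, D ∈ 𝒟 ∧ x ∈ D)
    (hab : ∀ D ∈ 𝒟, IsMulCommutative D) (n c : ℕ) (hc : ∀ D ∈ 𝒟, Nat.card D = c) (hQ : Nat.card Q = n * c)
    {s : ℕ} (hs : s.Prime) (hsc : s ∣ c) :
    ∃ i n' j : ℕ, n = s ^ i * n' ∧ ¬ s ∣ n' ∧ s ^ j ∣ c ∧ n' < s ^ j := by
  classical
  have hQ0 : Nat.card Q ≠ 0 := Nat.card_pos.ne'
  have hn0 : n ≠ 0 := by rintro rfl; rw [zero_mul] at hQ; exact hQ0 hQ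
  have hc0 : c ≠ 0 := by rintro rfl; rw [mul_zero] at hQ; exact hQ0 hQ
  obtain ⟨i, n', hn', hn⟩ := Nat.exists_eq_pow_mul_and_not_dvd (n := n) hn0 s hs.one_lt.ne'
  obtain ⟨j, c', hc', hcj⟩ := Nat.exists_eq_pow_mul_and_not_dvd (n := c) hc0 s hs.one_lt.ne'
  refine ⟨i, n', j, hn, hn', ⟨c', hcj⟩, ?_⟩
  have hj : j ≠ 0 := by
    rintro rfl
    rw [pow_zero, one_mul] at hcj
    exact hc' (hcj ▸ hsc)
  set M := n' * c' with hM
  have hMs : ¬ s ∣ M := by
    intro h
    rcases hs.dvd_mul.1 h with h | h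
    · exact hn' h
    · exact hc' h
  have hMQ : M ∣ Nat.card Q := by
    rw [hQ, hn, hcj]
    exact ⟨s ^ i * s ^ j, by rw [hM]; ring⟩
  -- counts
  have h1 : Nat.card Q = Nat.card 𝒟 * (c - 1) + 1 := by
    have h2 := card_pred 𝒟 hpart (fun _ => True) (c - 1) (by
      intro D hD
      have h3 := card_ne_one (fun x : Q => x ∈ D) 1 D.one_mem
      have h4 : Nat.card {x : Q // x ∈ D} = c := hc D hD
      rw [h4] at h3
      have h5 : Nat.card {x : Q // x ∈ D ∧ True ∧ x ≠ 1} = Nat.card {x : Q // x ∈ D ∧ x ≠ 1} :=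
        Nat.card_congr (Equiv.subtypeEquivRight fun x => by simp)
      rw [h5]; omega)
    have h3 := card_ne_one (fun _ : Q => True) 1 trivial
    rw [h2] at h3
    rw [← h3]
    exact (Nat.card_congr (Equiv.subtypeUnivEquiv (p := fun _ : Q => True) fun _ => trivial)).symm
  have h2 : Nat.card {x : Q // x ^ M = 1} = Nat.card 𝒟 * (c' - 1) + 1 := by
    have h2 := card_pred 𝒟 hpart (fun x => x ^ M = 1) (c' - 1) (by
      intro D hD
      have h3 := card_ne_one (fun x : Q => x ∈ D ∧ x ^ M = 1) 1 ⟨D.one_mem, one_pow _⟩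
      rw [card_prime_to (hab D hD) hs j c' M (by rw [hc D hD, hcj]) hc' hMs (dvd_mul_left c' n')] at h3
      have h5 : Nat.card {x : Q // x ∈ D ∧ x ^ M = 1 ∧ x ≠ 1} = Nat.card {x : Q // (x ∈ D ∧ x ^ M = 1) ∧ x ≠ 1} :=
        Nat.card_congr (Equiv.subtypeEquivRight fun x => by rw [and_assoc])
      rw [h5]; omega)
    rw [card_ne_one (fun x : Q => x ^ M = 1) 1 (one_pow _), h2]
  have h3 : M ∣ Nat.card 𝒟 * (c' - 1) + 1 := by
    rw [← h2]; exact FrobDvd.frobenius_dvd M hMQ
  have hc'0 : c' ≠ 0 := by rintro rfl; exact hc' (dvd_zero s)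
  have hc1 : 1 ≤ c := Nat.one_le_iff_ne_zero.2 hc0
  have hc'1 : 1 ≤ c' := Nat.one_le_iff_ne_zero.2 hc'0
  -- pass to integers
  have h4 : ((n : ℤ) * c) = (Nat.card 𝒟 : ℤ) * (c - 1) + 1 := by
    have : ((n * c : ℕ) : ℤ) = ((Nat.card 𝒟 * (c - 1) + 1 : ℕ) : ℤ) := by rw [← hQ, ← h1]
    push_cast [Nat.cast_sub hc1] at this
    exact this
  have h5 : (M : ℤ) ∣ (Nat.card 𝒟 : ℤ) * (c' - 1) + 1 := by
    have : (M : ℤ) ∣ ((Nat.card 𝒟 * (c' - 1) + 1 : ℕ) : ℤ) := Int.natCast_dvd_natCast.2 h3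
    push_cast [Nat.cast_sub hc'1] at this
    exact this
  have h6 : (M : ℤ) ∣ (n : ℤ) * c := by
    have : (M : ℤ) ∣ ((n * c : ℕ) : ℤ) := Int.natCast_dvd_natCast.2 (by rw [← hQ]; exact hMQ)
    push_cast at this
    exact this
  have h7 : (M : ℤ) ∣ (c : ℤ) - c' := by
    have h8 : (M : ℤ) ∣ ((Nat.card 𝒟 : ℤ) * (c' - 1) + 1) * (c - 1) := Dvd.dvd.mul_right h5 _
    have h9 : ((Nat.card 𝒟 : ℤ) * (c' - 1) + 1) * (c - 1) = ((n : ℤ) * c) * (c' - 1) + (c - c') := by
      have : (Nat.card 𝒟 : ℤ) * (c - 1) = n * c - 1 := by rw [h4]; ring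
      calc ((Nat.card 𝒟 : ℤ) * (c' - 1) + 1) * (c - 1)
          = ((Nat.card 𝒟 : ℤ) * (c - 1)) * (c' - 1) + (c - 1) := by ring
        _ = (n * c - 1) * (c' - 1) + (c - 1) := by rw [this]
        _ = _ := by ring
    rw [h9] at h8
    exact (dvd_add_right (Dvd.dvd.mul_right h6 _)).1 h8
  have h8 : (n' : ℤ) ∣ (s : ℤ) ^ j - 1 := by
    have h9 : (M : ℤ) = (c' : ℤ) * n' := by rw [hM]; push_cast; ring
    have h10 : (c : ℤ) - c' = (c' : ℤ) * ((s : ℤ) ^ j - 1) := by rw [hcj]; push_cast; ring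
    rw [h9, h10] at h7
    exact (mul_dvd_mul_iff_left (by exact_mod_cast hc'0)).1 h7
  have h9 : (0 : ℤ) < (s : ℤ) ^ j - 1 := by
    have : 1 < s ^ j := Nat.one_lt_pow hj hs.one_lt
    have : (1 : ℤ) < (s : ℤ) ^ j := by exact_mod_cast this
    linarith
  have h10 := Int.le_of_dvd h9 h8
  have h11 : (n' : ℤ) < (s : ℤ) ^ j := by linarith
  exact_mod_cast h11

/-- A nontrivial partition of a group into abelian subgroups of the same order `c`: `c` is divisible by at most
one prime. -/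
theorem partition_prime (𝒟 : Set (Subgroup Q)) (hpart : ∀ x : Q, x ≠ 1 → ∃! D : Subgroup Q, D ∈ 𝒟 ∧ x ∈ D)
    (hab : ∀ D ∈ 𝒟, IsMulCommutative D) (n c : ℕ) (hc : ∀ D ∈ 𝒟, Nat.card D = c) (hQ : Nat.card Q = n * c)
    (hn : 1 < n) {s t : ℕ} (hs : s.Prime) (ht : t.Prime) (hsc : s ∣ c) (htc : t ∣ c) : s = t := by
  classical
  by_contra hst
  have hQ0 : Nat.card Q ≠ 0 := Nat.card_pos.ne'
  have hc0 : c ≠ 0 := by rintro rfl; rw [mul_zero] at hQ; exact hQ0 hQ
  obtain ⟨i, n', j, hn1, hn2, hn3, hn4⟩ := one_prime 𝒟 hpart hab n c hc hQ hs hsc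
  obtain ⟨i₂, n₂, j₂, hm1, hm2, hm3, hm4⟩ := one_prime 𝒟 hpart hab n c hc hQ ht htc
  have hcop : s.Coprime t := (Nat.coprime_primes hs ht).2 hst
  have h1 : s ^ i ∣ n₂ := by
    have h2 : s ^ i ∣ t ^ i₂ * n₂ := by rw [← hm1, hn1]; exact dvd_mul_right _ _
    exact (Nat.Coprime.pow _ _ hcop).dvd_of_dvd_mul_left h2
  have hn₂0 : 0 < n₂ := by
    rcases Nat.eq_zero_or_pos n₂ with h | h
    · rw [h] at hm2; exact absurd (dvd_zero t) hm2
    · exact h
  have h2 : s ^ i ≤ n₂ := Nat.le_of_dvd hn₂0 h1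
  have h3 : s ^ j * t ^ j₂ ∣ c := (Nat.Coprime.pow _ _ hcop).mul_dvd_of_dvd_of_dvd hn3 hm3
  have h4 : s ^ j * t ^ j₂ ≤ c := Nat.le_of_dvd (Nat.pos_of_ne_zero hc0) h3
  have h5 : n < c := by
    calc n = s ^ i * n' := hn1
      _ ≤ n₂ * n' := Nat.mul_le_mul_right _ h2
      _ < t ^ j₂ * s ^ j := Nat.mul_lt_mul'' hm4 hn4
      _ = s ^ j * t ^ j₂ := mul_comm _ _
      _ ≤ c := h4
  -- but c - 1 divides n - 1
  have h6 : Nat.card Q = Nat.card 𝒟 * (c - 1) + 1 := by
    have h2 := card_pred 𝒟 hpart (fun _ => True) (c - 1) (by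
      intro D hD
      have h3 := card_ne_one (fun x : Q => x ∈ D) 1 D.one_mem
      have h4 : Nat.card {x : Q // x ∈ D} = c := hc D hD
      rw [h4] at h3
      have h5 : Nat.card {x : Q // x ∈ D ∧ True ∧ x ≠ 1} = Nat.card {x : Q // x ∈ D ∧ x ≠ 1} :=
        Nat.card_congr (Equiv.subtypeEquivRight fun x => by simp)
      rw [h5]; omega)
    have h3 := card_ne_one (fun _ : Q => True) 1 trivial
    rw [h2] at h3
    rw [← h3]
    exact (Nat.card_congr (Equiv.subtypeUnivEquiv (p := fun _ : Q => True) fun _ => trivial)).symm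
  obtain ⟨d, rfl⟩ : ∃ d, c = d + 1 := ⟨c - 1, by omega⟩
  obtain ⟨e, rfl⟩ : ∃ e, n = e + 1 := ⟨n - 1, by omega⟩
  rw [hQ, Nat.add_sub_cancel] at h6
  have h7 : (e + 1) * d + e = Nat.card 𝒟 * d := by
    have : (e + 1) * (d + 1) = (e + 1) * d + e + 1 := by ring
    omega
  have h8 : d ∣ e := by
    have h9 : d ∣ (e + 1) * d + e := by rw [h7]; exact dvd_mul_left _ _
    exact (Nat.dvd_add_right (dvd_mul_left _ _)).1 h9
  have h9 := Nat.le_of_dvd (by omega) h8
  omega

end Partition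

end Cfsg.Agent.Lib.ItoTwoSizes
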