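import Mathlib
import Cfsg.Agent.Lib.H64CSb
import Cfsg.Agent.Lib.Cores
import Cfsg.Agent.S4134
import Cfsg.Agent.S0205

/-!
(helper64) Class sizes `{1, m, m n}`: `m` is a prime power.
-/

set_option autoImplicit false
set_option linter.unusedSectionVars false

namespace Cfsg.Agent.Lib.H64CSc

open Subgroup Cfsg.Agent.Lib Cfsg.Agent.Lib.H64CSa Cfsg.Agent.Lib.H64CSb
open scoped commutatorElement

theorem exists_fixed {G : Type*} [Group G] [Finite G] {p : ℕ} [hp : Fact p.Prime] {Q V : Subgroup G} (hQ : IsPGroup p Q)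
    (hQV : Q ≤ normalizer (V : Set G)) (hd : p ∣ Nat.card V) :
    ∃ v ∈ V, v ≠ 1 ∧ ∀ q ∈ Q, q * v * q⁻¹ = v := by
  let _ : MulAction Q V :=
    MulAction.compHom V ((V.normalizerMonoidHom).comp (inclusion hQV))
  have h1 : (1 : V) ∈ MulAction.fixedPoints Q V := fun q =>
    map_one (V.normalizerMonoidHom (inclusion hQV q))
  obtain ⟨v, hv, hv1⟩ := hQ.exists_fixed_point_of_prime_dvd_card_of_fixed_point V hd h1
  refine ⟨v, v.2, fun h => hv1 (Subtype.ext h.symm), fun q hq => ?_⟩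
  exact congrArg Subtype.val (hv ⟨q, hq⟩)

section two

variable {G : Type*} [Group G] [Finite G] {m n r s : ℕ}

/-- class sizes inside `K_w` -/
theorem KK_relIndex (h : Hyp G m n) (hr : r.Prime) (hrm : r ∣ m) {w : G} (hw : w ∉ center G) (hwr : El r w)
    {y : G} (hy : y ∈ KK r w) : (C y).relIndex (KK r w) = (C y).relIndex (C w) := by
  have hs := h.split hr hrm hw hwr
  have hs' : Split r (C w ⊓ C y) (RR r w) (KK r w ⊓ C y) := by
    refine ⟨le_inf hs.hR (RR_le_C h hr hrm hw hwr hy), inf_le_inf_right _ hs.hK, hs.pR, ?_, ?_, ?_⟩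
    · exact Nat.Coprime.coprime_dvd_left (Subgroup.card_dvd_of_le inf_le_left) hs.cK
    · intro a ha b hb
      exact hs.comm a ha b hb.1
    · rintro x ⟨hx1, hx2⟩
      obtain ⟨a, ha, b, hb, rfl⟩ := hs.exists_mul hx1
      refine mul_mem (mem_sup_left ha) (mem_sup_right ⟨hb, ?_⟩)
      have h1 := RR_le_C h hr hrm hw hwr hy ha
      have h2 : a⁻¹ * (a * b) ∈ C y := mul_mem (inv_mem h1) hx2
      rwa [inv_mul_cancel_left] at h2
  have h1 := hs.card hr
  have h2 := hs'.card hr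
  have h3 : (C y).relIndex (C w) * Nat.card (C w ⊓ C y : Subgroup G) = Nat.card (C w) := by
    rw [inf_comm, ← Subgroup.inf_relIndex_right, mul_comm]
    exact Cores.card_mul_relIndex inf_le_right
  have h4 : (C y).relIndex (KK r w) * Nat.card (KK r w ⊓ C y : Subgroup G) = Nat.card (KK r w) := by
    rw [inf_comm, ← Subgroup.inf_relIndex_right, mul_comm]
    exact Cores.card_mul_relIndex inf_le_right
  rw [h1, h2] at h3
  have hR : 0 < Nat.card (RR r w) := Nat.card_pos
  have hK : 0 < Nat.card (KK r w ⊓ C y : Subgroup G) := Nat.card_pos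
  have h5 : (C y).relIndex (C w) * Nat.card (KK r w ⊓ C y : Subgroup G) = Nat.card (KK r w) := by
    apply Nat.eq_of_mul_eq_mul_left hR
    rw [← h3]; ring
  rw [← h4] at h5
  exact (Nat.eq_of_mul_eq_mul_right hK h5).symm

/-- two primes: commuting noncentral `r`-element `w` and `s`-element `v` -/
theorem le_of_commute (h : Hyp G m n) (hr : r.Prime) (hs : s.Prime) (hrs : r ≠ s) (hrm : r ∣ m) (hsm : s ∣ m)
    {w v : G} (hw : w ∉ center G) (hwr : El r w) (hvs : El s v) (hc : Commute w v) :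
    C w ≤ C v := by
  have hvr : (orderOf v).Coprime r := by
    obtain ⟨k, hk⟩ := hvs
    rw [hk]
    exact Nat.Coprime.pow_left k ((Nat.coprime_primes hs hr).2 hrs.symm)
  have hvK : v ∈ KK r w := (mem_KK h hr hrm hw hwr).2 ⟨hc.symm, hvr⟩
  have hsp := h.split hr hrm hw hwr
  have key : ∀ y ∈ KK r w, Commute v y := by
    have hsize : ∀ x : KK r w, (centralizer ({x} : Set (KK r w))).index = 1 ∨
        (centralizer ({x} : Set (KK r w))).index = n := by
      intro x
      rw [ClassPow.index_centralizer_subgroup]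
      have h1 := KK_relIndex h hr hrm hw hwr x.2
      rw [show (centralizer ({(x : G)} : Set G)).relIndex (KK r w) = _ from h1]
      rcases KK_rel h hr hrm hw hwr x.2 with h2 | ⟨-, h2⟩
      · exact Or.inl (Subgroup.relIndex_eq_one.2 h2)
      · exact Or.inr h2
    by_cases hex : ∃ x : KK r w, (centralizer ({x} : Set (KK r w))).index = n
    · obtain ⟨p, hp, a, hna, hall⟩ := Cfsg.Agent.S4134.result n h.hn hsize hex
      obtain ⟨P⟩ : Nonempty (Sylow p (KK r w)) := inferInstance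
      obtain ⟨hPn, ⟨N, hN, hcompl, hNc, hNP⟩, -⟩ := hall P
      have hpn : p ∣ n := by
        rw [hna]
        refine dvd_pow_self p fun ha => ?_
        rw [ha, pow_zero] at hna
        have := h.hn
        omega
      have hps : s ≠ p := by
        rintro rfl
        exact h.not_dvd hs hsm hpn
      have hcN : (Nat.card N).Coprime p := by
        have h1 : (P : Subgroup (KK r w)).index = Nat.card N := hcompl.index_eq_card
        rw [← h1]
        exact ((Nat.Prime.coprime_iff_not_dvd hp.out).2 P.not_dvd_index).symm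
      have hS : Split p (⊤ : Subgroup (KK r w)) (P : Subgroup (KK r w)) N := by
        refine ⟨le_top, le_top, P.2, hcN, ?_, ?_⟩
        · intro x hx y hy
          exact (hNP y hy x hx).symm
        · rw [sup_comm, hcompl.sup_eq_top]
      have hv : (⟨v, hvK⟩ : KK r w) ∈ N := by
        rw [hS.mem_K hp.out]
        refine ⟨trivial, ?_⟩
        obtain ⟨k, hk⟩ := hvs
        rw [Subgroup.orderOf_mk, hk]
        exact Nat.Coprime.pow_left k ((Nat.coprime_primes hs hp.out).2 hps)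
      intro y hy
      obtain ⟨a, ha, b, hb, hab⟩ := hS.exists_mul (x := ⟨y, hy⟩) trivial
      have h1 : Commute (⟨v, hvK⟩ : KK r w) a := hNP _ hv a ha
      have h2 : Commute (⟨v, hvK⟩ : KK r w) b := isMulCommutative_iff_of_setLike.mp hNc _ hv _ hb
      have h3 := h1.mul_right h2
      rw [← hab] at h3
      exact h3.map (KK r w).subtype
    · push Not at hex
      have h1 := (hsize ⟨v, hvK⟩).resolve_right (hex _)
      have h2 := (index_eq_one_iff (g := (⟨v, hvK⟩ : KK r w))).1 h1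
      intro y hy
      have h3 : Commute (⟨v, hvK⟩ : KK r w) ⟨y, hy⟩ := (Subgroup.mem_center_iff.1 h2 ⟨y, hy⟩).symm
      exact h3.map (KK r w).subtype
  intro x hx
  obtain ⟨a, ha, b, hb, rfl⟩ := hsp.exists_mul hx
  exact memC.2 (((commRK h hr hrm hw hwr ha hvK)).mul_left (key b hb).symm)

end two

/-- a configuration: `A` is the set of `ρ`-elements of `C0`, central in `C0`, and each noncentral element of `A` has
centralizer `C0` -/
structure Cfg {G : Type*} [Group G] (ρ : ℕ) (C0 A : Subgroup G) : Prop where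
  hp : ρ.Prime
  hA : A ≤ C0
  mem : ∀ x, x ∈ A ↔ x ∈ C0 ∧ El ρ x
  cent : ∀ x ∈ A, x ∉ center G → C x = C0
  cent' : ∀ x ∈ A, ∀ y ∈ C0, Commute x y
  nz : ¬ A ≤ center G
  pA : IsPGroup ρ A
  idx : ¬ ρ ∣ A.relIndex C0
  lt : ∀ R : Sylow ρ G, A ≤ (R : Subgroup G) → A ≠ (R : Subgroup G)
  zC : center G ≤ C0

namespace Cfg

variable {G : Type*} [Group G] [Finite G] {ρ σ : ℕ} {C0 A B : Subgroup G}

theorem b (c : Cfg ρ C0 A) {g x : G} (hg : g ∉ C0) (hx : x ∈ A) (hc : Commute g x) : x ∈ center G := by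
  by_contra hcon
  apply hg
  rw [← c.cent x hx hcon]
  exact memC.2 hc

theorem normA (c : Cfg ρ C0 A) {g : G} (hg : g ∈ normalizer (C0 : Set G)) : g ∈ normalizer (A : Set G) := by
  rw [Subgroup.mem_normalizer_iff] at hg ⊢
  intro x
  rw [c.mem, c.mem, ← hg x]
  unfold El
  have : orderOf (g * x * g⁻¹) = orderOf x := by
    rw [← MulAut.conj_apply]; exact MulEquiv.orderOf_eq _ _
  rw [this]

theorem exists_t (c : Cfg ρ C0 A) : ∃ t : G, t ∈ normalizer (C0 : Set G) ∧ t ∉ C0 ∧ El ρ t := by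
  have : Fact ρ.Prime := ⟨c.hp⟩
  obtain ⟨R, hR⟩ := c.pA.exists_le_sylow
  have hlt : A.subgroupOf (R : Subgroup G) < ⊤ := by
    rw [lt_top_iff_ne_top]
    intro heq
    rw [Subgroup.subgroupOf_eq_top] at heq
    exact c.lt R hR (le_antisymm hR heq)
  have hnil : Group.IsNilpotent (R : Subgroup G) := R.2.isNilpotent
  have hnc := Group.normalizerCondition_of_isNilpotent (G := (R : Subgroup G)) _ hlt
  obtain ⟨t, ht, htA⟩ := SetLike.exists_of_lt hnc
  have htA' : (t : G) ∉ A := fun hcon => htA (Subgroup.mem_subgroupOf.2 hcon)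
  obtain ⟨w, hwA, hwZ⟩ := SetLike.not_le_iff_exists.1 c.nz
  have h1 : (t : G) * w * (t : G)⁻¹ ∈ A := by
    rw [Subgroup.mem_normalizer_iff] at ht
    have h2 := (ht ⟨w, hR hwA⟩).1 (Subgroup.mem_subgroupOf.2 hwA)
    exact Subgroup.mem_subgroupOf.1 h2
  have h2 : (t : G) * w * (t : G)⁻¹ ∉ center G := by
    intro hcon
    apply hwZ
    have h3 := (inferInstance : (center G).Normal).conj_mem _ hcon (t : G)⁻¹
    have h4 : (t : G)⁻¹ * ((t : G) * w * (t : G)⁻¹) * (t : G)⁻¹⁻¹ = w := by group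
    rwa [h4] at h3
  have h3 := c.cent _ h1 h2
  have h4 := c.cent _ hwA hwZ
  refine ⟨t, ?_, ?_, El.of_mem c.hp R.2 t.2⟩
  · rw [Subgroup.mem_normalizer_iff]
    intro x
    constructor
    · intro hx
      rw [← h3, memC]
      rw [← h4, memC] at hx
      have h5 := hx.map (MulAut.conj (t : G))
      exact h5
    · intro hx
      rw [← h3, memC] at hx
      rw [← h4, memC]
      have h5 := hx.map (MulAut.conj (t : G)⁻¹)
      simpa [mul_assoc] using h5
  · intro hcon
    exact htA' ((c.mem _).2 ⟨hcon, El.of_mem c.hp R.2 t.2⟩)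

/-- no nontrivial normal `ρ'`-subgroup of `N(C)/C` -/
theorem d (c : Cfg ρ C0 A) {Y : Subgroup G} (hCY : C0 ≤ Y) (hYN : Y ≤ normalizer (C0 : Set G))
    (hY : normalizer (C0 : Set G) ≤ normalizer (Y : Set G)) (hi : ¬ ρ ∣ C0.relIndex Y) : Y ≤ C0 := by
  have : Fact ρ.Prime := ⟨c.hp⟩
  by_contra hcon
  obtain ⟨y0, hy0, hy0C⟩ := SetLike.not_le_iff_exists.1 hcon
  have hAY : A ≤ Y := c.hA.trans hCY
  have hYA : Y ≤ normalizer (A : Set G) := fun y hy => c.normA (hYN hy)
  have hidx : ¬ ρ ∣ A.relIndex Y := by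
    rw [← Subgroup.relIndex_mul_relIndex A C0 Y c.hA hCY]
    exact c.hp.not_dvd_mul c.idx hi
  have hAcomm : IsMulCommutative A := isMulCommutative_iff_of_setLike.mpr fun a ha b hb => c.cent' a ha b (c.hA hb)
  obtain ⟨k, hk⟩ := IsPGroup.iff_card.1 c.pA
  obtain ⟨Y0, hY0, hY0c, hY0i, hY0s⟩ := CoprimeAction.exists_complement_rel hYA (by
    rw [inf_eq_left.2 hAY, hk]
    exact Nat.Coprime.pow_left k ((Nat.Prime.coprime_iff_not_dvd c.hp).2 hidx))
  rw [inf_eq_left.2 hAY] at hY0s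
  have hcop : (Nat.card Y0).Coprime (Nat.card A) := by
    rw [hY0c, hk]
    exact (Nat.Coprime.pow_left k ((Nat.Prime.coprime_iff_not_dvd c.hp).2 hidx)).symm
  have h1 := CoprimeAction2.inf_commutator_eq_bot_of_abelian (A := Y0) (V := A) (hY0.trans hYA) hcop
  set B : Subgroup G := ⁅A, Y⁆ with hB
  have hAA : ⁅A, A⁆ = ⊥ := by
    rw [Subgroup.commutator_eq_bot_iff_le_centralizer]
    intro a ha
    rw [Subgroup.mem_centralizer_iff]
    intro b hb
    exact (c.cent' b hb a (c.hA ha)).eq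
  have hBeq : B ≤ ⁅A, Y0⁆ := by
    rw [hB, Subgroup.commutator_le]
    intro a ha y hy
    have hy' : y ∈ A ⊔ Y0 := by rw [hY0s]; exact hy
    rw [sup_comm] at hy'
    have hn : Y0 ≤ normalizer (A : Set G) := hY0.trans hYA
    rw [← SetLike.mem_coe, Subgroup.coe_mul_of_left_le_normalizer_right Y0 A hn] at hy'
    obtain ⟨y1, hy1, a1, ha1, rfl⟩ := hy'
    have h2 : Commute a a1 := c.cent' a ha a1 (c.hA ha1)
    have h3 : ⁅a, y1 * a1⁆ = ⁅a, y1⁆ := by
      rw [commutatorElement_def, commutatorElement_def]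
      have h4 : Commute (y1 * a1 * y1⁻¹) (a⁻¹) := by
        have h5 : y1 * a1 * y1⁻¹ ∈ A := (Subgroup.mem_normalizer_iff.1 (hn hy1) a1).1 ha1
        exact (c.cent' _ h5 a (c.hA ha)).inv_right
      have h6 : y1 * a1 * a⁻¹ * (y1 * a1)⁻¹ = y1 * a⁻¹ * y1⁻¹ := by
        rw [mul_assoc y1 a1 a⁻¹, (h2.inv_left.eq : a⁻¹ * a1 = a1 * a⁻¹).symm]
        group
      calc a * (y1 * a1) * a⁻¹ * (y1 * a1)⁻¹ = a * (y1 * a1 * a⁻¹ * (y1 * a1)⁻¹) := by group
        _ = a * (y1 * a⁻¹ * y1⁻¹) := by rw [h6]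
        _ = a * y1 * a⁻¹ * y1⁻¹ := by group
    rw [h3]
    exact Subgroup.commutator_mem_commutator ha hy1
  have hBA : B ≤ A := by
    rw [hB]
    exact LocBase.commutator_le_left_of_le hYA
  have hBZ : ∀ b ∈ B, b ∈ center G → b = 1 := by
    intro b hb hbz
    have h2 : b ∈ (A ⊓ centralizer (Y0 : Set G)) ⊓ ⁅A, Y0⁆ := by
      refine ⟨⟨hBA hb, ?_⟩, hBeq hb⟩
      exact Subgroup.center_le_centralizer _ hbz
    rw [h1] at h2
    exact Subgroup.mem_bot.1 h2
  have hB1 : B ≠ ⊥ := by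
    intro hbot
    rw [hB, Subgroup.commutator_eq_bot_iff_le_centralizer] at hbot
    obtain ⟨w, hwA, hwZ⟩ := SetLike.not_le_iff_exists.1 c.nz
    apply hwZ
    have h2 := hbot hwA
    rw [Subgroup.mem_centralizer_iff] at h2
    exact c.b hy0C hwA (h2 y0 hy0)
  obtain ⟨t, htN, htC, htρ⟩ := c.exists_t
  have htB : zpowers t ≤ normalizer (B : Set G) := by
    rw [Subgroup.zpowers_le]
    have h2 : normalizer (C0 : Set G) ≤ normalizer (A : Set G) := fun g hg => c.normA hg
    exact LocBase.le_normalizer_commutator h2 hY htN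
  have hdvd : ρ ∣ Nat.card B := by
    have h2 : IsPGroup ρ B := c.pA.to_le hBA
    obtain ⟨j, hj⟩ := IsPGroup.iff_card.1 h2
    rw [hj]
    refine dvd_pow_self ρ fun hj0 => hB1 ?_
    rw [hj0, pow_zero] at hj
    exact Subgroup.card_eq_one.1 hj
  obtain ⟨v, hvB, hv1, hvt⟩ := exists_fixed htρ.zpowers htB hdvd
  have h3 := hvt t (Subgroup.mem_zpowers t)
  have h4 : Commute t v := mul_inv_eq_iff_eq_mul.1 h3
  exact hv1 (hBZ v hvB (c.b htC (hBA hvB) h4))

end Cfg

end Cfsg.Agent.Lib.H64CSc
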