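import Mathlib
import Cfsg.Agent.Lib.H64CSc

/-!
(helper64) Class sizes `{1, m, m n}`: `m` is a prime power, end of the proof.
-/

set_option autoImplicit false
set_option linter.unusedSectionVars false

namespace Cfsg.Agent.Lib.H64CSd

open Subgroup Cfsg.Agent.Lib Cfsg.Agent.Lib.H64CSa Cfsg.Agent.Lib.H64CSb Cfsg.Agent.Lib.H64CSc
open scoped commutatorElement

variable {G : Type*} [Group G] [Finite G] {ρ σ : ℕ} {C0 A B : Subgroup G}

theorem no_normal (c : Cfg ρ C0 A)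
    (Yb : Subgroup (↥(normalizer (C0 : Set G)) ⧸ C0.subgroupOf (normalizer (C0 : Set G)))) (hn : Yb.Normal)
    (hi : ¬ ρ ∣ Nat.card Yb) : Yb = ⊥ := by
  set N : Subgroup G := normalizer (C0 : Set G) with hN
  have hC0N : C0 ≤ N := Subgroup.le_normalizer
  set Y1 : Subgroup N := Yb.comap (QuotientGroup.mk' (C0.subgroupOf N)) with hY1
  set Y : Subgroup G := Y1.map N.subtype with hY
  have hYs : Y.subgroupOf N = Y1 := by
    rw [hY, Subgroup.subgroupOf, Subgroup.comap_map_eq_self_of_injective N.subtype_injective]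
  have hYN : Y ≤ N := Subgroup.map_subtype_le _
  have hCY1 : C0.subgroupOf N ≤ Y1 := by
    intro x hx
    rw [hY1, Subgroup.mem_comap]
    have : (QuotientGroup.mk' (C0.subgroupOf N)) x = 1 := (QuotientGroup.eq_one_iff x).2 hx
    rw [this]; exact one_mem _
  have hCY : C0 ≤ Y := by
    intro x hx
    exact ⟨⟨x, hC0N hx⟩, hCY1 (Subgroup.mem_subgroupOf.2 hx), rfl⟩
  have hYn : Y1.Normal := hn.comap _
  have hNY : N ≤ normalizer (Y : Set G) := by
    intro g hg
    rw [Subgroup.mem_normalizer_iff]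
    have aux : ∀ (g : G), g ∈ N → ∀ x, x ∈ Y → g * x * g⁻¹ ∈ Y := by
      rintro g hg _ ⟨x, hx, rfl⟩
      exact ⟨⟨g, hg⟩ * x * ⟨g, hg⟩⁻¹, hYn.conj_mem x hx ⟨g, hg⟩, rfl⟩
    intro x
    refine ⟨aux g hg x, fun hx => ?_⟩
    have := aux g⁻¹ (inv_mem hg) _ hx
    simpa [mul_assoc] using this
  have hcard : C0.relIndex Y = Nat.card Yb := by
    rw [← Subgroup.relIndex_subgroupOf (H := C0) (K := Y) (L := N) hYN, hYs]
    have h1 := Subgroup.relIndex_ker (QuotientGroup.mk' (C0.subgroupOf N)) (K := Y1)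
    rw [QuotientGroup.ker_mk'] at h1
    rw [h1, hY1, Subgroup.map_comap_eq_self_of_surjective (QuotientGroup.mk'_surjective _)]
  have h2 := c.d hCY hYN hNY (by rw [hcard]; exact hi)
  rw [eq_bot_iff]
  intro y hy
  obtain ⟨g, rfl⟩ := QuotientGroup.mk'_surjective _ y
  have h3 : (g : G) ∈ C0 := h2 ⟨g, hy, rfl⟩
  exact Subgroup.mem_bot.2 ((QuotientGroup.eq_one_iff g).2 (Subgroup.mem_subgroupOf.2 h3))

/-- elements of `N(C)` acting trivially on `A` modulo the center are in `C` -/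
theorem mem_of_central (c : Cfg ρ C0 A) (c' : Cfg σ C0 B) (hne : ρ ≠ σ) {g : G} (hg : g ∈ normalizer (C0 : Set G))
    (h : ∀ a ∈ A, g * a * g⁻¹ * a⁻¹ ∈ center G) : g ∈ C0 := by
  have : Fact ρ.Prime := ⟨c.hp⟩
  have : Fact σ.Prime := ⟨c'.hp⟩
  set π := QuotientGroup.mk' (center G) with hπ
  set D1 : Subgroup G := (centralizer ((A.map π : Subgroup (G ⧸ center G)) : Set (G ⧸ center G))).comap π with hD1
  have memD1 : ∀ x : G, x ∈ D1 ↔ ∀ a ∈ A, x * a * x⁻¹ * a⁻¹ ∈ center G := by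
    intro x
    rw [hD1, Subgroup.mem_comap, Subgroup.mem_centralizer_iff]
    constructor
    · intro h1 a ha
      have h2 := h1 (π a) ⟨a, ha, rfl⟩
      rw [← QuotientGroup.eq_one_iff]
      change π (x * a * x⁻¹ * a⁻¹) = 1
      rw [map_mul, map_mul, map_mul, ← h2, map_inv, map_inv]
      group
    · rintro h1 _ ⟨a, ha, rfl⟩
      have h2 : π (x * a * x⁻¹ * a⁻¹) = 1 := (QuotientGroup.eq_one_iff _).2 (h1 a ha)
      rw [map_mul, map_mul, map_mul, map_inv, map_inv, mul_inv_eq_one, mul_inv_eq_iff_eq_mul] at h2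
      exact h2.symm
  set N : Subgroup G := normalizer (C0 : Set G) with hN
  have hNA : N ≤ normalizer (A : Set G) := fun g hg => c.normA hg
  have hND1 : N ≤ normalizer (D1 : Set G) := by
    have aux : ∀ g ∈ N, ∀ x ∈ D1, g * x * g⁻¹ ∈ D1 := by
      intro g hg x hx
      rw [memD1] at hx ⊢
      intro a ha
      have h1 : g⁻¹ * a * g ∈ A := LocBase.conj_mem_of_le_normalizer' hNA hg ha
      have h2 := (inferInstance : (center G).Normal).conj_mem _ (hx _ h1) g
      have h3 : g * (x * (g⁻¹ * a * g) * x⁻¹ * (g⁻¹ * a * g)⁻¹) * g⁻¹ = g * x * g⁻¹ * a * (g * x * g⁻¹)⁻¹ * a⁻¹ := by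
        group
      rwa [h3] at h2
    intro g hg
    rw [Subgroup.mem_normalizer_iff]
    intro x
    refine ⟨aux g hg x, fun hx => ?_⟩
    have := aux g⁻¹ (inv_mem hg) _ hx
    simpa [mul_assoc] using this
  set Y : Subgroup G := D1 ⊓ N with hY
  have hYN : Y ≤ N := inf_le_right
  have hCY : C0 ≤ Y := by
    refine le_inf (fun x hx => (memD1 x).2 fun a ha => ?_) Subgroup.le_normalizer
    have h1 : x * a * x⁻¹ * a⁻¹ = 1 := by
      rw [(c.cent' a ha x hx).symm.eq]; group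
    rw [h1]; exact one_mem _
  have hNY : N ≤ normalizer (Y : Set G) := LocBase.le_normalizer_inf hND1 (Subgroup.le_normalizer)
  have hpow : ∀ x ∈ Y, x ^ Nat.card A ∈ C0 := by
    intro x hx
    obtain ⟨w, hwA, hwZ⟩ := SetLike.not_le_iff_exists.1 c.nz
    rw [← c.cent w hwA hwZ, memC]
    have hz := (memD1 x).1 hx.1 w hwA
    set z := x * w * x⁻¹ * w⁻¹ with hzdef
    have hzA : z ∈ A := A.mul_mem (LocBase.conj_mem_of_le_normalizer hNA hx.2 hwA) (A.inv_mem hwA)
    have hz1 : ∀ k : ℕ, x ^ k * w * (x ^ k)⁻¹ = z ^ k * w := by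
      intro k
      induction k with
      | zero => simp
      | succ k ih =>
        have h1 : x * w * x⁻¹ = z * w := by rw [hzdef]; group
        have h2 : x ^ (k + 1) * w * (x ^ (k + 1))⁻¹ = x * (x ^ k * w * (x ^ k)⁻¹) * x⁻¹ := by
          rw [pow_succ']; group
        rw [h2, ih]
        have h3 : x * (z ^ k * w) * x⁻¹ = z ^ k * (x * w * x⁻¹) := by
          have h4 : x * z ^ k = z ^ k * x := (Subgroup.mem_center_iff.1 (pow_mem hz k) x)
          rw [← mul_assoc, h4]; group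
        rw [h3, h1, pow_succ]; group
    have h1 := hz1 (Nat.card A)
    have h2 : z ^ Nat.card A = 1 := by
      have h3 : (⟨z, hzA⟩ : A) ^ Nat.card A = 1 := pow_card_eq_one'
      exact congrArg Subtype.val h3
    rw [h2, one_mul, mul_inv_eq_iff_eq_mul] at h1
    exact h1
  have hcard : ¬ σ ∣ C0.relIndex Y := by
    intro hdvd
    have hn : (C0.subgroupOf Y).Normal := Subgroup.normal_subgroupOf_of_le_normalizer hYN
    have hdvd' : σ ∣ Nat.card (Y ⧸ C0.subgroupOf Y) := hdvd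
    obtain ⟨y, hy⟩ := exists_prime_orderOf_dvd_card' σ hdvd'
    obtain ⟨g, rfl⟩ := QuotientGroup.mk'_surjective _ y
    have h1 : (QuotientGroup.mk' (C0.subgroupOf Y) g) ^ Nat.card A = 1 := by
      rw [← map_pow]
      refine (QuotientGroup.eq_one_iff _).2 (Subgroup.mem_subgroupOf.2 ?_)
      exact hpow g g.2
    have h2 := orderOf_dvd_of_pow_eq_one h1
    rw [hy] at h2
    obtain ⟨k, hk⟩ := IsPGroup.iff_card.1 c.pA
    rw [hk] at h2
    exact hne.symm ((Nat.prime_dvd_prime_iff_eq c'.hp c.hp).1 (c'.hp.dvd_of_dvd_pow h2))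
  have h2 := c'.d hCY hYN hNY hcard
  exact h2 ⟨(memD1 g).2 h, hg⟩

theorem even_case (c : Cfg ρ C0 A) (c' : Cfg σ C0 B) (hne : ρ ≠ σ) (h2 : ρ ≠ 2)
    (heven : 2 ∣ Nat.card (↥(normalizer (C0 : Set G)) ⧸ C0.subgroupOf (normalizer (C0 : Set G)))) : False := by
  set N : Subgroup G := normalizer (C0 : Set G) with hN
  have hNA : N ≤ normalizer (A : Set G) := fun g hg => c.normA hg
  have : Fact (Nat.Prime 2) := ⟨Nat.prime_two⟩
  obtain ⟨eb, heb⟩ := exists_prime_orderOf_dvd_card' 2 heven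
  obtain ⟨e, rfl⟩ := QuotientGroup.mk'_surjective _ eb
  have he2 : (e : G) * e ∈ C0 := by
    have h1 : (QuotientGroup.mk' (C0.subgroupOf N) e) ^ 2 = 1 := by rw [← heb]; exact pow_orderOf_eq_one _
    rw [← map_pow] at h1
    have h3 := Subgroup.mem_subgroupOf.1 ((QuotientGroup.eq_one_iff _).1 h1)
    rw [pow_two] at h3
    exact h3
  have heC : (e : G) ∉ C0 := by
    intro hcon
    have h1 : QuotientGroup.mk' (C0.subgroupOf N) e = 1 := (QuotientGroup.eq_one_iff _).2 (Subgroup.mem_subgroupOf.2 hcon)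
    rw [h1, orderOf_one] at heb
    omega
  -- `e` inverts `A` modulo the centre
  have hinv : ∀ a ∈ A, a * ((e : G) * a * (e : G)⁻¹) ∈ center G := by
    intro a ha
    have h1 : (e : G) * a * (e : G)⁻¹ ∈ A := LocBase.conj_mem_of_le_normalizer hNA e.2 ha
    have h3 : (e : G) * (e : G) * a = a * ((e : G) * (e : G)) := (c.cent' a ha _ he2).symm.eq
    have h4 : Commute a ((e : G) * a * (e : G)⁻¹) := c.cent' a ha _ (c.hA h1)
    refine c.b heC (A.mul_mem ha h1) ?_
    show (e : G) * (a * ((e : G) * a * (e : G)⁻¹)) = a * ((e : G) * a * (e : G)⁻¹) * e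
    have h5 : (e : G) * (a * ((e : G) * a * (e : G)⁻¹)) =
        ((e : G) * a * (e : G)⁻¹) * ((e : G) * (e : G) * a) * (e : G)⁻¹ := by group
    rw [h5, h3, h4.eq]
    have h6 : (e : G) * a * (e : G)⁻¹ * (a * ((e : G) * (e : G))) * (e : G)⁻¹ =
      ((e : G) * a * (e : G)⁻¹) * a * e := by group
    rw [h6]
  set π := QuotientGroup.mk' (center G) with hπ
  have hinv' : ∀ a ∈ A, π e * π a * (π e)⁻¹ = (π a)⁻¹ := by
    intro a ha
    have h1 : π (a * ((e : G) * a * (e : G)⁻¹)) = 1 := (QuotientGroup.eq_one_iff _).2 (hinv a ha)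
    rw [map_mul, map_mul, map_mul, map_inv] at h1
    exact (inv_eq_of_mul_eq_one_right h1).symm
  have hcomm : ∀ g : N, (g : G) * e * (g : G)⁻¹ * (e : G)⁻¹ ∈ C0 := by
    intro g
    refine mem_of_central c c' hne ?_ ?_
    · exact N.mul_mem (N.mul_mem (N.mul_mem g.2 e.2) (N.inv_mem g.2)) (N.inv_mem e.2)
    intro a ha
    rw [← QuotientGroup.eq_one_iff]
    change π _ = 1
    have hb : (g : G)⁻¹ * a * g ∈ A := LocBase.conj_mem_of_le_normalizer' hNA g.2 ha
    have h1 := hinv' a ha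
    have h3 := hinv' _ hb
    have h4 : (π e)⁻¹ * π a * π e = (π a)⁻¹ := by
      have h5 : π a = (π e) * (π a)⁻¹ * (π e)⁻¹ := by
        have h6 : (π e) * (π a)⁻¹ * (π e)⁻¹ = (π e * π a * (π e)⁻¹)⁻¹ := by group
        rw [h6, h1, inv_inv]
      have h7 : (π e)⁻¹ * π a * π e = (π e)⁻¹ * ((π e) * (π a)⁻¹ * (π e)⁻¹) * π e := by rw [← h5]
      rw [h7]; group
    simp only [map_mul, map_inv] at h3 ⊢
    have h5 : π g * π e * (π g)⁻¹ * (π e)⁻¹ * π a * (π g * π e * (π g)⁻¹ * (π e)⁻¹)⁻¹ * (π a)⁻¹ =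
        π g * (π e * ((π g)⁻¹ * ((π e)⁻¹ * π a * π e) * π g) * (π e)⁻¹) * (π g)⁻¹ * (π a)⁻¹ := by group
    rw [h5, h4]
    have h6 : π e * ((π g)⁻¹ * (π a)⁻¹ * π g) * (π e)⁻¹ = (π g)⁻¹ * π a * π g := by
      have h7 : π e * ((π g)⁻¹ * (π a)⁻¹ * π g) * (π e)⁻¹ = (π e * ((π g)⁻¹ * π a * π g) * (π e)⁻¹)⁻¹ := by group
      rw [h7, h3, inv_inv]
    rw [h6]
    group
  -- `e` is central in `N / C0`
  have hcen : (QuotientGroup.mk' (C0.subgroupOf N) e) ∈ center (N ⧸ C0.subgroupOf N) := by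
    rw [Subgroup.mem_center_iff]
    intro y
    obtain ⟨g, rfl⟩ := QuotientGroup.mk'_surjective _ y
    have h1 : QuotientGroup.mk' (C0.subgroupOf N) (g * e * g⁻¹ * e⁻¹) = 1 :=
      (QuotientGroup.eq_one_iff _).2 (Subgroup.mem_subgroupOf.2 (hcomm g))
    rw [map_mul, map_mul, map_mul, map_inv, map_inv, mul_inv_eq_one, mul_inv_eq_iff_eq_mul] at h1
    exact h1
  have hnorm : (zpowers (QuotientGroup.mk' (C0.subgroupOf N) e)).Normal := by
    refine ⟨fun x hx g => ?_⟩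
    have h1 : x ∈ center (N ⧸ C0.subgroupOf N) := (Subgroup.zpowers_le.2 hcen) hx
    rw [Subgroup.mem_center_iff.1 h1 g, mul_inv_cancel_right]
    exact hx
  have h3 := no_normal c _ hnorm (by
    rw [Nat.card_zpowers, heb]
    intro hdvd
    exact h2 ((Nat.prime_dvd_prime_iff_eq c.hp Nat.prime_two).1 hdvd))
  rw [Subgroup.zpowers_eq_bot] at h3
  rw [h3, orderOf_one] at heb
  omega

theorem two_cfg (c : Cfg ρ C0 A) (c' : Cfg σ C0 B) (hne : ρ ≠ σ) : False := by
  set N : Subgroup G := normalizer (C0 : Set G) with hN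
  by_cases heven : 2 ∣ Nat.card (N ⧸ C0.subgroupOf N)
  · by_cases h2 : ρ = 2
    · exact even_case c' c hne.symm (by rw [← h2]; exact hne.symm) heven
    · exact even_case c c' hne h2 heven
  · have hodd : Odd (Nat.card (N ⧸ C0.subgroupOf N)) := by
      rw [← Nat.not_even_iff_odd, even_iff_two_dvd]; exact heven
    have hsol : Group.IsSolvable (N ⧸ C0.subgroupOf N) := Cfsg.Agent.S0205.result hodd
    have hnt : Nontrivial (N ⧸ C0.subgroupOf N) := by
      obtain ⟨t, htN, htC, -⟩ := c.exists_t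
      refine ⟨⟨QuotientGroup.mk' (C0.subgroupOf N) ⟨t, htN⟩, 1, fun heq => htC ?_⟩⟩
      exact Subgroup.mem_subgroupOf.1 ((QuotientGroup.eq_one_iff _).1 heq)
    have h1 : Cfsg.fittingSubgroup (N ⧸ C0.subgroupOf N) ≠ ⊥ := Cores.fittingSubgroup_ne_bot
    apply h1
    rw [Cores.fittingSubgroup_eq_iSup, eq_bot_iff]
    apply iSup_le
    rintro ⟨p, hp⟩
    have : Fact p.Prime := ⟨hp⟩
    have hpc : IsPGroup p (pCore p (N ⧸ C0.subgroupOf N)) := LocBase.isPGroup_pCore p _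
    obtain ⟨k, hk⟩ := IsPGroup.iff_card.1 hpc
    have hpn : (pCore p (N ⧸ C0.subgroupOf N)).Normal := pCore_normal p _
    have key : ∀ q : ℕ, q.Prime → p ≠ q → ¬ q ∣ Nat.card (pCore p (N ⧸ C0.subgroupOf N)) := by
      intro q hq hpq hdvd
      rw [hk] at hdvd
      exact hpq ((Nat.prime_dvd_prime_iff_eq hq hp).1 (hq.dvd_of_dvd_pow hdvd)).symm
    by_cases hpr : p = ρ
    · exact (no_normal c' _ hpn (key σ c'.hp (by rw [hpr]; exact hne))).le
    · exact (no_normal c _ hpn (key ρ c.hp hpr)).le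

section main

variable {m n r s : ℕ}

theorem mkCfg (h : Hyp G m n) (hr : r.Prime) (hs : s.Prime) (hrs : r ≠ s) (hrm : r ∣ m) (hsm : s ∣ m) {w v : G}
    (hw : w ∉ center G) (hv : v ∉ center G) (hwr : El r w) (hvs : El s v) (hc : Commute w v) :
    Cfg r (C w) (RR r w) := by
  have : Fact r.Prime := ⟨hr⟩
  have hsp := h.split hr hrm hw hwr
  have hwv : C w = C v := le_antisymm (le_of_commute h hr hs hrs hrm hsm hw hwr hvs hc)
    (le_of_commute h hs hr hrs.symm hsm hrm hv hvs hwr hc.symm)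
  have hvr : (orderOf v).Coprime r := by
    obtain ⟨k, hk⟩ := hvs
    rw [hk]
    exact Nat.Coprime.pow_left k ((Nat.coprime_primes hs hr).2 hrs.symm)
  have hvK : v ∈ KK r w := (mem_KK h hr hrm hw hwr).2 ⟨hc.symm, hvr⟩
  have hcent' : ∀ x ∈ RR r w, C w ≤ C x := by
    intro x hx
    have h1 := (mem_RR h hr hrm hw hwr).1 hx
    have h2 : Commute x v := commRK h hr hrm hw hwr hx hvK
    rw [hwv]
    exact le_of_commute h hs hr hrs.symm hsm hrm hv hvs h1.2 h2.symm
  refine ⟨hr, hsp.hR, fun x => hsp.mem_R hr, ?_, ?_, ?_, hsp.pR, ?_, ?_, center_le w⟩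
  · intro x hx hxZ
    exact (C_eq h hr hrm hw hwr hxZ hx fun y hy => memC.1 (hcent' x hx (hsp.hR hy))).1
  · intro x hx y hy
    exact (memC.1 (hcent' x hx hy)).symm
  · intro hcon
    exact hw (hcon (self_mem h hr hrm hw hwr))
  · have h1 := Cores.card_mul_relIndex hsp.hR
    rw [hsp.card hr] at h1
    have h2 : (RR r w).relIndex (C w) = Nat.card (KK r w) := Nat.eq_of_mul_eq_mul_left Nat.card_pos h1
    rw [h2]
    exact (Nat.Prime.coprime_iff_not_dvd hr).1 hsp.cK.symm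
  · intro R hR heq
    have h1 := R.card_eq_multiplicity
    rw [← heq, h.card_RR hr hrm hw hwr, h.fact_G hr hrm] at h1
    have h2 := Nat.pow_right_injective hr.two_le h1
    have h3 : 0 < m.factorization r := hr.factorization_pos_of_dvd (by have := h.hm; omega) hrm
    omega

/-- `m` is a prime power -/
theorem prime_unique (h : Hyp G m n) (hr : r.Prime) (hs : s.Prime) (hrm : r ∣ m) (hsm : s ∣ m) : r = s := by
  by_contra hrs
  obtain ⟨g, hg⟩ := exists_noncentral h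
  obtain ⟨w, hw, hwr, -⟩ := h.exists_r hr hrm hg
  obtain ⟨v, hv, hvs, hc⟩ := h.exists_r hs hsm hw
  have c1 := mkCfg h hr hs hrs hrm hsm hw hv hwr hvs hc.symm
  have c2 := mkCfg h hs hr (Ne.symm hrs) hsm hrm hv hw hvs hwr hc
  have hwv : C w = C v := le_antisymm (le_of_commute h hr hs hrs hrm hsm hw hwr hvs hc.symm)
    (le_of_commute h hs hr (Ne.symm hrs) hsm hrm hv hvs hwr hc)
  rw [← hwv] at c2
  exact two_cfg c1 c2 hrs

theorem exists_pow (h : Hyp G m n) : ∃ r a : ℕ, r.Prime ∧ r ∣ m ∧ m = r ^ a := by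
  have hm := h.hm
  obtain ⟨r, hr, hrm⟩ := Nat.exists_prime_and_dvd (by omega : m ≠ 1)
  refine ⟨r, m.factorization r, hr, hrm, ?_⟩
  refine Nat.eq_of_factorization_eq (by omega) (pow_ne_zero _ hr.ne_zero) fun p => ?_
  rw [hr.factorization_pow]
  by_cases hp : p = r
  · rw [hp, Finsupp.single_eq_same]
  · rw [Finsupp.single_eq_of_ne hp]
    by_cases hpp : p.Prime
    · exact Nat.factorization_eq_zero_of_not_dvd fun hpm => hp (prime_unique h hpp hr hpm hrm)
    · exact Nat.factorization_eq_zero_of_not_prime _ hpp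

end main

end Cfsg.Agent.Lib.H64CSd
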