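import Mathlib
import Cfsg.Agent.Lib.H64CSc
import Cfsg.Agent.Lib.H64CSe
import Cfsg.Agent.Lib.H64CSh
import Cfsg.Agent.Lib.PGroupOdd

/-!
(helper64) Two `p`-regular class sizes: the case of two noncentral primes.
-/

set_option autoImplicit false
set_option linter.unusedSectionVars false

namespace Cfsg.Agent.Lib.H64CTa

open Subgroup Cfsg.Agent.Lib Cfsg.Agent.Lib.H64CSa Cfsg.Agent.Lib.H64CSb
open Cfsg.Agent.Lib.H64CSe (central_comm conj_pow eq_one_of_coprime Z2)

/-- `q ≠ p` is a prime with a noncentral `q`-element -/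
structure Pi (G : Type*) [Group G] (p q : ℕ) : Prop where
  pr : q.Prime
  ne : q ≠ p
  ex : ∃ w : G, w ∉ center G ∧ El q w

/-- all noncentral `p`-regular classes have size `m` and there are at least two primes in play -/
structure HH (G : Type*) [Group G] (p m : ℕ) : Prop where
  hp : p.Prime
  ix : ∀ x : G, (orderOf x).Coprime p → x ∉ center G → (C x).index = m
  two : ∀ t : ℕ, ∃ q, q ≠ t ∧ Pi G p q

section basic

variable {G : Type*} [Group G] [Finite G]

theorem el_coprime {q t : ℕ} (hq : q.Prime) (ht : t.Prime) (hqt : q ≠ t) {x : G} (hx : El q x) :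
    (orderOf x).Coprime t := by
  obtain ⟨k, hk⟩ := hx
  rw [hk]
  exact Nat.Coprime.pow_left k ((Nat.coprime_primes hq ht).2 hqt)

theorem El.inv {q : ℕ} {x : G} (hx : El q x) : El q x⁻¹ := by
  obtain ⟨k, hk⟩ := hx
  exact ⟨k, by rw [orderOf_inv, hk]⟩

theorem El.mul {q : ℕ} (hq : q.Prime) {x y : G} (hx : El q x) (hy : El q y) (hc : Commute x y) : El q (x * y) := by
  obtain ⟨j, hj⟩ := hx.pow_eq
  obtain ⟨k, hk⟩ := hy.pow_eq
  refine El.of_pow hq (k := j + k) ?_
  rw [hc.mul_pow, pow_add, pow_mul, hj, one_pow, one_mul, mul_comm, pow_mul, hk, one_pow]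

theorem El.conj {q : ℕ} {x : G} (hx : El q x) (g : G) : El q (g * x * g⁻¹) := by
  obtain ⟨k, hk⟩ := hx
  refine ⟨k, ?_⟩
  rw [← hk, ← MulAut.conj_apply]
  exact MulEquiv.orderOf_eq _ _

theorem coprime_conj {q : ℕ} {x : G} (hx : (orderOf x).Coprime q) (g : G) : (orderOf (g * x * g⁻¹)).Coprime q := by
  have : orderOf (g * x * g⁻¹) = orderOf x := by
    rw [← MulAut.conj_apply]
    exact MulEquiv.orderOf_eq _ _
  rw [this]; exact hx

theorem nc_conj {x : G} (hx : x ∉ center G) (g : G) : g * x * g⁻¹ ∉ center G := by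
  intro hcon
  apply hx
  have h3 := (inferInstance : (center G).Normal).conj_mem _ hcon g⁻¹
  have h4 : g⁻¹ * (g * x * g⁻¹) * g⁻¹⁻¹ = x := by group
  rwa [h4] at h3

theorem mem_C_conj {x y g : G} : y ∈ C (g * x * g⁻¹) ↔ g⁻¹ * y * g ∈ C x := by
  rw [memC, memC]
  constructor
  · intro h
    have h1 := h.map (MulAut.conj g⁻¹)
    simpa [mul_assoc] using h1
  · intro h
    have h1 := h.map (MulAut.conj g)
    simpa [mul_assoc] using h1

/-- `C(x) = C(g)` and `C(g x g⁻¹) = C(g)` implies that `g` normalizes `C(g)` -/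
theorem mem_norm {a b y : G} (h1 : C a = C b) (h2 : C (y * a * y⁻¹) = C b) : y ∈ normalizer (C b : Set G) := by
  rw [Subgroup.mem_normalizer_iff]
  intro z
  constructor
  · intro hz
    rw [← h2, mem_C_conj, h1]
    have : y⁻¹ * (y * z * y⁻¹) * y = z := by group
    rw [this]; exact hz
  · intro hz
    rw [← h2, mem_C_conj, h1] at hz
    have : y⁻¹ * (y * z * y⁻¹) * y = z := by group
    rw [this] at hz; exact hz

theorem C_mul_central {x z : G} (hz : z ∈ center G) : C (z * x) = C x := by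
  ext y
  rw [memC, memC]
  constructor
  · intro h
    have h1 : Commute y z := (central_comm hz).symm
    have h2 := h1.inv_right.mul_right h
    rwa [inv_mul_cancel_left] at h2
  · intro h
    exact ((central_comm hz).symm).mul_right h

/-- `[y, x]` central implies that `y` normalizes `C(x)` -/
theorem norm_of_central {x y : G} (h : y * x * y⁻¹ * x⁻¹ ∈ center G) : y ∈ normalizer (C x : Set G) := by
  refine mem_norm rfl ?_
  have h1 : y * x * y⁻¹ = (y * x * y⁻¹ * x⁻¹) * x := by group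
  rw [h1, C_mul_central h]

theorem central_swap {x y : G} (h : y * x * y⁻¹ * x⁻¹ ∈ center G) : x * y * x⁻¹ * y⁻¹ ∈ center G := by
  have h1 := inv_mem h
  have h2 : (y * x * y⁻¹ * x⁻¹)⁻¹ = x * y * x⁻¹ * y⁻¹ := by group
  rwa [h2] at h1

/-- the projection to `G / Z(G)` -/
abbrev pz (G : Type*) [Group G] : G →* G ⧸ center G := QuotientGroup.mk' (center G)

theorem pz_eq_one {x : G} : pz G x = 1 ↔ x ∈ center G := QuotientGroup.eq_one_iff x

theorem pz_commute {x y : G} : Commute (pz G x) (pz G y) ↔ x * y * x⁻¹ * y⁻¹ ∈ center G := by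
  rw [← pz_eq_one, map_mul, map_mul, map_mul, map_inv, map_inv, mul_inv_eq_one, mul_inv_eq_iff_eq_mul]
  exact Iff.rfl

end basic

section main

variable {G : Type*} [Group G] [Finite G] {p m : ℕ}

theorem HH.C_eq_of_le (h : HH G p m) {x y : G} (hx : x ∉ center G) (hxp : (orderOf x).Coprime p)
    (hy : y ∉ center G) (hyp : (orderOf y).Coprime p) (hle : C x ≤ C y) : C x = C y := by
  refine Subgroup.eq_of_le_of_card_ge hle ?_
  have h3 := Subgroup.card_mul_index (C x)
  have h4 := Subgroup.card_mul_index (C y)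
  rw [h.ix x hxp hx] at h3
  rw [h.ix y hyp hy, ← h3] at h4
  have hm : 0 < m := by
    rw [← h.ix x hxp hx]; exact Nat.pos_of_ne_zero Subgroup.index_ne_zero_of_finite
  exact (Nat.eq_of_mul_eq_mul_right hm h4).le

theorem HH.step1 (h : HH G p m) {q : ℕ} (hq : q.Prime) (hqp : q ≠ p) {w y : G} (hw : w ∉ center G) (hwq : El q w)
    (hy : Commute y w) (hyq : (orderOf y).Coprime q) (hyp : (orderOf y).Coprime p) : C w ≤ C y := by
  have hwp := el_coprime hq h.hp hqp hwq
  have hcop := hwq.coprime hyq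
  have hC := H70Basic.centralizer_mul_of_coprime hy.symm hcop
  have hle : C (w * y) ≤ C w := by
    rw [show C (w * y) = C w ⊓ C y from hC]; exact inf_le_left
  have hwy : w * y ∉ center G := by
    intro hcon
    apply hw
    apply mem_center_of_C_eq_top
    rw [eq_top_iff, ← C_eq_top hcon]
    exact hle
  have hord : (orderOf (w * y)).Coprime p := by
    rw [hy.symm.orderOf_mul_eq_mul_orderOf_of_coprime hcop]
    exact Nat.Coprime.mul_left hwp hyp
  have h1 := h.C_eq_of_le hwy hord hw hwp hle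
  rw [← h1, show C (w * y) = C w ⊓ C y from hC]
  exact inf_le_right

/-- every centralizer contains noncentral `q`-elements -/
theorem HH.exists_el (h : HH G p m) {q : ℕ} (hq : Pi G p q) {g : G} (hg : g ∉ center G) (hgp : (orderOf g).Coprime p) :
    ∃ y : G, y ∉ center G ∧ El q y ∧ Commute y g := by
  have : Fact q.Prime := ⟨hq.pr⟩
  obtain ⟨w, hw, hwq⟩ := hq.ex
  have hwp := el_coprime hq.pr h.hp hq.ne hwq
  have hcard : Nat.card (C g) = Nat.card (C w) := by
    have h3 := Subgroup.card_mul_index (C g)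
    have h4 := Subgroup.card_mul_index (C w)
    rw [h.ix g hgp hg] at h3
    rw [h.ix w hwp hw, ← h3] at h4
    have hm : 0 < m := by
      rw [← h.ix g hgp hg]; exact Nat.pos_of_ne_zero Subgroup.index_ne_zero_of_finite
    exact (Nat.eq_of_mul_eq_mul_right hm h4).symm
  by_contra hcon
  push Not at hcon
  -- Sylow subgroups
  obtain ⟨S⟩ : Nonempty (Sylow q (C g)) := inferInstance
  set S1 : Subgroup G := (S : Subgroup (C g)).map (C g).subtype with hS1
  have hS1c : Nat.card S1 = q ^ (Nat.card (C g)).factorization q := H70Basic.card_sylow_map _ _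
  have hS1p : IsPGroup q S1 := S.2.map _
  have hS1z : S1 ≤ center G := by
    rintro _ ⟨s, hs, rfl⟩
    by_contra hsz
    exact hcon _ hsz (El.of_mem hq.pr hS1p ⟨s, hs, rfl⟩) (memC.1 s.2)
  have hwz : IsPGroup q (zpowers (⟨w, memC.2 (Commute.refl w)⟩ : C w)) := by
    apply El.zpowers
    obtain ⟨k, hk⟩ := hwq
    exact ⟨k, by rw [Subgroup.orderOf_mk, hk]⟩
  obtain ⟨T, hT⟩ := hwz.exists_le_sylow
  set T1 : Subgroup G := (T : Subgroup (C w)).map (C w).subtype with hT1
  have hT1c : Nat.card T1 = q ^ (Nat.card (C w)).factorization q := H70Basic.card_sylow_map _ _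
  have hT1p : IsPGroup q T1 := T.2.map _
  have hwT : w ∈ T1 := ⟨⟨w, _⟩, hT (mem_zpowers _), rfl⟩
  have hsup : IsPGroup q (T1 ⊔ S1 : Subgroup G) :=
    LocBase.isPGroup_sup hT1p hS1p fun x hx => center_normalizes _ (hS1z hx)
  have hle : T1 ⊔ S1 ≤ C w := sup_le (Subgroup.map_subtype_le _) (hS1z.trans (center_le w))
  have hdvd : Nat.card (T1 ⊔ S1 : Subgroup G) ≤ Nat.card T1 := by
    obtain ⟨k, hk⟩ := IsPGroup.iff_card.1 hsup
    rw [hk, hT1c]
    refine Nat.pow_le_pow_right hq.pr.pos ?_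
    rw [← hq.pr.pow_dvd_iff_le_factorization Nat.card_pos.ne', ← hk]
    exact Subgroup.card_dvd_of_le hle
  have heq : T1 = T1 ⊔ S1 := Subgroup.eq_of_le_of_card_ge le_sup_left hdvd
  have hST : S1 ≤ T1 := by rw [heq]; exact le_sup_right
  have heq2 : S1 = T1 := Subgroup.eq_of_le_of_card_ge hST (by rw [hS1c, hT1c, hcard])
  rw [← heq2] at hwT
  exact hw (hS1z hwT)

/-- all `p'`-elements of `C(g)` are central in `C(g)` -/
theorem HH.cen_el (h : HH G p m) {t : ℕ} (ht : t.Prime) (htp : t ≠ p) {v y : G} (hv : v ∉ center G) (hvt : El t v)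
    (hy : Commute y v) (hyp : (orderOf y).Coprime p) : C v ≤ C y := by
  have hvp := el_coprime ht h.hp htp hvt
  obtain ⟨q, hqt, hq⟩ := h.two t
  obtain ⟨w, hw, hwq, hwv⟩ := h.exists_el hq hv hvp
  have hwp := el_coprime hq.pr h.hp hq.ne hwq
  have h1 : C w ≤ C v := h.step1 hq.pr hq.ne hw hwq hwv.symm (el_coprime ht hq.pr hqt.symm hvt) hvp
  have h2 : C w = C v := h.C_eq_of_le hw hwp hv hvp h1
  obtain ⟨a, b, ha, hb, hab, hcomm, ⟨i, hai⟩, ⟨j, hbj⟩⟩ := exists_parts' ht y
  have hap : (orderOf a).Coprime p := by rw [hai]; exact coprime_pow hyp i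
  have hbp : (orderOf b).Coprime p := by rw [hbj]; exact coprime_pow hyp j
  have hav : Commute a v := by rw [hai]; exact hy.pow_left i
  have hbv : Commute b v := by rw [hbj]; exact hy.pow_left j
  have h3 : C v ≤ C b := h.step1 ht htp hv hvt hbv hb hbp
  have h4 : C w ≤ C a := by
    refine h.step1 hq.pr hq.ne hw hwq ?_ (el_coprime ht hq.pr hqt.symm ha) hap
    have h5 : a ∈ C v := memC.2 hav
    rw [← h2] at h5
    exact memC.1 h5
  rw [h2] at h4
  intro x hx
  rw [memC, hab]
  exact (memC.1 (h4 hx)).mul_right (memC.1 (h3 hx))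

theorem HH.cen (h : HH G p m) {g y : G} (hg : g ∉ center G) (hgp : (orderOf g).Coprime p)
    (hy : Commute y g) (hyp : (orderOf y).Coprime p) : C g ≤ C y := by
  obtain ⟨t, ht, i, hti, hnc⟩ := H64CSh.exists_prime_part (orderOf g) g rfl hg
  have htp : t ≠ p := by
    rintro rfl
    have h1 := hti.eq_one (coprime_pow hgp i)
    rw [h1] at hnc
    exact hnc (one_mem _)
  have hle : C g ≤ C (g ^ i) := fun x hx => memC.2 ((memC.1 hx).pow_right i)
  exact hle.trans (h.cen_el ht htp hnc hti (hy.pow_right i) hyp)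

theorem HH.eqC (h : HH G p m) {g y : G} (hg : g ∉ center G) (hgp : (orderOf g).Coprime p)
    (hy : Commute y g) (hyn : y ∉ center G) (hyp : (orderOf y).Coprime p) : C y = C g :=
  (h.C_eq_of_le hg hgp hyn hyp (h.cen hg hgp hy hyp)).symm

/-- the `s`-part of `C(g)` -/
def TT (s : ℕ) (g : G) : Subgroup G := Subgroup.closure {x | x ∈ C g ∧ El s x}

theorem HH.mem_TT (h : HH G p m) {g : G} (hg : g ∉ center G) (hgp : (orderOf g).Coprime p) {s : ℕ} (hs : s.Prime)
    (hsp : s ≠ p) {x : G} : x ∈ TT s g ↔ Commute x g ∧ El s x := by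
  constructor
  · intro hx
    rw [← memC]
    unfold TT at hx
    induction hx using Subgroup.closure_induction with
    | mem x hx => exact hx
    | one => exact ⟨one_mem _, ⟨0, by rw [orderOf_one, pow_zero]⟩⟩
    | mul x y _ _ hx hy =>
      refine ⟨mul_mem hx.1 hy.1, El.mul hs hx.2 hy.2 ?_⟩
      exact (memC.1 (h.cen hg hgp (memC.1 hx.1) (el_coprime hs h.hp hsp hx.2) hy.1)).symm
    | inv x _ hx => exact ⟨inv_mem hx.1, El.inv hx.2⟩
  · rintro ⟨hx1, hx2⟩
    exact Subgroup.subset_closure ⟨memC.2 hx1, hx2⟩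

theorem HH.TT_comm (h : HH G p m) {g : G} (hg : g ∉ center G) (hgp : (orderOf g).Coprime p) {s : ℕ} (hs : s.Prime)
    (hsp : s ≠ p) {x y : G} (hx : x ∈ TT s g) (hy : y ∈ C g) : Commute x y := by
  have h1 := (h.mem_TT hg hgp hs hsp).1 hx
  exact (memC.1 (h.cen hg hgp h1.1 (el_coprime hs h.hp hsp h1.2) hy)).symm

theorem HH.TT_pgroup (h : HH G p m) {g : G} (hg : g ∉ center G) (hgp : (orderOf g).Coprime p) {s : ℕ} (hs : s.Prime)
    (hsp : s ≠ p) : IsPGroup s (TT s g) := by
  intro x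
  obtain ⟨k, hk⟩ := ((h.mem_TT hg hgp hs hsp).1 x.2).2.pow_eq
  exact ⟨k, Subtype.ext (by simpa using hk)⟩

theorem HH.TT_norm (h : HH G p m) {g : G} (hg : g ∉ center G) (hgp : (orderOf g).Coprime p) {s : ℕ} (hs : s.Prime)
    (hsp : s ≠ p) : normalizer (C g : Set G) ≤ normalizer (TT s g : Set G) := by
  intro x hx
  rw [Subgroup.mem_normalizer_iff] at hx ⊢
  intro y
  rw [h.mem_TT hg hgp hs hsp, h.mem_TT hg hgp hs hsp, ← memC, ← memC, ← hx y]
  unfold El
  have : orderOf (x * y * x⁻¹) = orderOf y := by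
    rw [← MulAut.conj_apply]; exact MulEquiv.orderOf_eq _ _
  rw [this]

theorem HH.TT_eqC (h : HH G p m) {g : G} (hg : g ∉ center G) (hgp : (orderOf g).Coprime p) {s : ℕ} (hs : s.Prime)
    (hsp : s ≠ p) {x : G} (hx : x ∈ TT s g) (hxn : x ∉ center G) : C x = C g := by
  have h1 := (h.mem_TT hg hgp hs hsp).1 hx
  exact h.eqC hg hgp h1.1 hxn (el_coprime hs h.hp hsp h1.2)

theorem HH.card_TT (h : HH G p m) {g : G} (hg : g ∉ center G) (hgp : (orderOf g).Coprime p) {s : ℕ} (hs : s.Prime)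
    (hsp : s ≠ p) : Nat.card (TT s g) = s ^ (Nat.card (C g)).factorization s := by
  have : Fact s.Prime := ⟨hs⟩
  obtain ⟨S⟩ : Nonempty (Sylow s (C g)) := inferInstance
  have hS1c := H70Basic.card_sylow_map (C g) S
  rw [← hS1c]
  have heq : TT s g = (S : Subgroup (C g)).map (C g).subtype := by
    have hle : (S : Subgroup (C g)).map (C g).subtype ≤ TT s g := by
      intro x hx
      exact (h.mem_TT hg hgp hs hsp).2 ⟨memC.1 ((Subgroup.map_subtype_le _) hx), El.of_mem hs (S.2.map _) hx⟩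
    symm
    refine Subgroup.eq_of_le_of_card_ge hle ?_
    rw [hS1c]
    obtain ⟨k, hk⟩ := IsPGroup.iff_card.1 (h.TT_pgroup hg hgp hs hsp)
    rw [hk]
    refine Nat.pow_le_pow_right hs.pos ?_
    rw [← hs.pow_dvd_iff_le_factorization Nat.card_pos.ne', ← hk]
    exact Subgroup.card_dvd_of_le fun x hx => memC.2 ((h.mem_TT hg hgp hs hsp).1 hx).1
  rw [heq]

end main

end Cfsg.Agent.Lib.H64CTa
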