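import Mathlib
import Cfsg.Agent.Lib.H64CTa

/-!
(helper64) Two `p`-regular class sizes: `m_q = q` for `q ∣ m`, `q ≠ p`, and `|G : N(C(g))|` is a power of `p`.
-/

set_option autoImplicit false
set_option linter.unusedSectionVars false

namespace Cfsg.Agent.Lib.H64CTb

open Subgroup Cfsg.Agent.Lib Cfsg.Agent.Lib.H64CSa Cfsg.Agent.Lib.H64CSb Cfsg.Agent.Lib.H64CTa
open Cfsg.Agent.Lib.H64CSe (central_comm conj_pow eq_one_of_coprime Z2)

/-- in a `q`-group, a normal noncentral subgroup contains an element of `Z_2 ∖ Z` -/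
theorem exists_second {P : Type*} [Group P] [Finite P] {q : ℕ} [hq : Fact q.Prime] (hP : IsPGroup q P)
    {D : Subgroup P} (hD : D.Normal) (hDZ : ¬ D ≤ center P) :
    ∃ w ∈ D, w ∉ center P ∧ ∀ g : P, g * w * g⁻¹ * w⁻¹ ∈ center P := by
  set f := QuotientGroup.mk' (center P) with hf
  have hN : (D.map f).Normal := hD.map _ (QuotientGroup.mk'_surjective _)
  have hN1 : D.map f ≠ ⊥ := by
    obtain ⟨d, hd, hdZ⟩ := SetLike.not_le_iff_exists.1 hDZ
    intro hbot
    apply hdZ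
    rw [← QuotientGroup.eq_one_iff]
    have h1 : f d ∈ D.map f := ⟨_, hd, rfl⟩
    rw [hbot] at h1
    exact Subgroup.mem_bot.1 h1
  obtain ⟨x, hxN, hxc, hxo⟩ := PGroupOdd.exists_central_mem (R := P ⧸ center P) (p := q) (hP.to_quotient _) hN hN1
  obtain ⟨w, hwD, rfl⟩ := hxN
  refine ⟨w, hwD, ?_, ?_⟩
  · intro hcon
    have h1 : f w = 1 := (QuotientGroup.eq_one_iff _).2 hcon
    rw [h1, orderOf_one] at hxo
    exact hq.out.one_lt.ne hxo
  · intro g
    have h1 : f (g * w * g⁻¹ * w⁻¹) = 1 := by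
      rw [map_mul, map_mul, map_mul, map_inv, map_inv, Subgroup.mem_center_iff.1 hxc]
      group
    exact (QuotientGroup.eq_one_iff _).1 h1

section act

variable {G : Type*} [Group G] [Finite G]

/-- conjugation action of `N ≤ N(A)` on `A Z / Z`, `Z = Z(G)` -/
noncomputable def act {A N : Subgroup G} (hN : N ≤ normalizer (A : Set G)) : N →* MulAut (A.map (pz G)) :=
  ((A.map (pz G)).normalizerMonoidHom).comp
    (((pz G).comp N.subtype).codRestrict (normalizer ((A.map (pz G) : Subgroup (G ⧸ center G)) : Set (G ⧸ center G)))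
      fun u => Subgroup.le_normalizer_map (H := A) (pz G) ⟨u, hN u.2, rfl⟩)

theorem act_apply {A N : Subgroup G} (hN : N ≤ normalizer (A : Set G)) (u : N) (v : A.map (pz G)) :
    ((act hN u v : A.map (pz G)) : G ⧸ center G) = pz G u * v * (pz G u)⁻¹ := rfl

theorem act_fix {A N : Subgroup G} (hN : N ≤ normalizer (A : Set G)) {u : N} {a : G} (ha : a ∈ A) :
    act hN u ⟨pz G a, a, ha, rfl⟩ = ⟨pz G a, a, ha, rfl⟩ ↔ (u : G) * a * (u : G)⁻¹ * a⁻¹ ∈ center G := by
  rw [← pz_commute, Subtype.ext_iff, act_apply]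
  show pz G u * pz G a * (pz G u)⁻¹ = pz G a ↔ _
  rw [mul_inv_eq_iff_eq_mul]
  exact Iff.rfl

theorem act_eq_one {A N : Subgroup G} (hN : N ≤ normalizer (A : Set G)) {u : N} :
    act hN u = 1 ↔ ∀ a ∈ A, (u : G) * a * (u : G)⁻¹ * a⁻¹ ∈ center G := by
  constructor
  · intro h a ha
    rw [← act_fix hN ha, h]; rfl
  · intro h
    ext v
    obtain ⟨_, a, ha, rfl⟩ := v
    have h1 := (act_fix hN ha).2 (h a ha)
    exact congrArg Subtype.val h1

theorem map_comm {A : Subgroup G} (hA : ∀ x ∈ A, ∀ y ∈ A, Commute x y) : ∀ a b : A.map (pz G), a * b = b * a := by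
  rintro ⟨_, x, hx, rfl⟩ ⟨_, y, hy, rfl⟩
  apply Subtype.ext
  show pz G x * pz G y = pz G y * pz G x
  rw [← map_mul, (hA x hx y hy).eq, map_mul]

theorem map_nontrivial {A : Subgroup G} {y : G} (hy : y ∈ A) (hyc : y ∉ center G) : Nontrivial (A.map (pz G)) :=
  ⟨⟨⟨pz G y, y, hy, rfl⟩, 1, fun heq => hyc (pz_eq_one.1 (congrArg Subtype.val heq))⟩⟩

end act

section main

variable {G : Type*} [Group G] [Finite G] {p m q : ℕ}

theorem exists_nc (h : HH G p m) : ∃ g : G, g ∉ center G ∧ (orderOf g).Coprime p := by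
  obtain ⟨q, -, hq⟩ := h.two 0
  obtain ⟨w, hw, hwq⟩ := hq.ex
  exact ⟨w, hw, el_coprime hq.pr h.hp hq.ne hwq⟩

theorem center_of_sylow (h : HH G p m) (hq : q.Prime) (hqm : q ∣ m) (Q : Sylow q G) {z : G}
    (hz : (orderOf z).Coprime p) (hc : ∀ x ∈ (Q : Subgroup G), Commute x z) : z ∈ center G := by
  have : Fact q.Prime := ⟨hq⟩
  by_contra hcon
  have h2 : (Q : Subgroup G) ≤ C z := fun x hx => memC.2 (hc x hx)
  refine Q.not_dvd_index (Dvd.dvd.trans ?_ (Subgroup.index_dvd_of_le h2))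
  rw [h.ix z hz hcon]; exact hqm

theorem sylow_not_le (h : HH G p m) (hq : q.Prime) (hqm : q ∣ m) (Q : Sylow q G) : ¬ (Q : Subgroup G) ≤ center G := by
  have : Fact q.Prime := ⟨hq⟩
  intro hcon
  obtain ⟨g, hg, hgp⟩ := exists_nc h
  refine Q.not_dvd_index (Dvd.dvd.trans ?_ (Subgroup.index_dvd_of_le (hcon.trans (center_le g))))
  rw [h.ix g hgp hg]; exact hqm

theorem pi_of_dvd (h : HH G p m) (hq : q.Prime) (hqp : q ≠ p) (hqm : q ∣ m) : Pi G p q := by
  have : Fact q.Prime := ⟨hq⟩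
  obtain ⟨Q⟩ : Nonempty (Sylow q G) := inferInstance
  obtain ⟨w, hwQ, hwZ⟩ := SetLike.not_le_iff_exists.1 (sylow_not_le h hq hqm Q)
  exact ⟨hq, hqp, w, hwZ, El.of_mem hq Q.2 hwQ⟩

theorem exists_Z2 (h : HH G p m) (hq : q.Prime) (hqp : q ≠ p) (hqm : q ∣ m) (Q : Sylow q G) : ∃ w, Z2 Q w := by
  have : Fact q.Prime := ⟨hq⟩
  have hel : ∀ x : (Q : Subgroup G), (orderOf (x : G)).Coprime p := fun x =>
    el_coprime hq h.hp hqp (El.of_mem hq Q.2 x.2)
  have hcen : ∀ x : (Q : Subgroup G), x ∈ center (Q : Subgroup G) → (x : G) ∈ center G := by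
    intro x hx
    refine center_of_sylow h hq hqm Q (hel x) fun y hy => ?_
    exact congrArg Subtype.val (Subgroup.mem_center_iff.1 hx ⟨y, hy⟩)
  obtain ⟨w, -, hw1, hw2⟩ := exists_second (P := (Q : Subgroup G)) (q := q) Q.2 (D := ⊤) inferInstance (by
    intro hcon
    apply sylow_not_le h hq hqm Q
    intro x hx
    exact hcen ⟨x, hx⟩ (hcon trivial))
  refine ⟨w, w.2, fun hcon => hw1 ?_, fun g hg => hcen _ (hw2 ⟨g, hg⟩)⟩
  rw [Subgroup.mem_center_iff]
  intro y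
  exact Subtype.ext (Subgroup.mem_center_iff.1 hcon y)

section Z

variable (h : HH G p m) (hq : q.Prime) (hqp : q ≠ p) (hqm : q ∣ m) {Q : Sylow q G} {w : G} (c : Z2 Q w)

include h hq hqp c

theorem wel : El q w := El.of_mem hq Q.2 c.mem

theorem wcop : (orderOf w).Coprime p := el_coprime hq h.hp hqp (wel h hq hqp c)

include hqm

theorem pow_central : w ^ q ∈ center G := by
  have : Fact q.Prime := ⟨hq⟩
  by_contra hcon
  have hC : C (w ^ q) = C w := h.eqC c.nc (wcop h hq hqp c) ((Commute.refl w).pow_left q) hcon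
    (coprime_pow (wcop h hq hqp c) q)
  have key : ∀ g ∈ (Q : Subgroup G), (g * w * g⁻¹ * w⁻¹) ^ q = 1 → g * w * g⁻¹ * w⁻¹ = 1 := by
    intro g hg h1
    have hz := c.z g hg
    set z := g * w * g⁻¹ * w⁻¹ with hzd
    have h2 : g * w * g⁻¹ = z * w := by rw [hzd]; group
    have h3 : g * w ^ q * g⁻¹ = w ^ q := by
      have h4 : g * w ^ q * g⁻¹ = (g * w * g⁻¹) ^ q := by
        rw [← MulAut.conj_apply, map_pow, MulAut.conj_apply]
      rw [h4, h2, (central_comm hz).mul_pow, h1, one_mul]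
    have h5 : g ∈ C (w ^ q) := memC.2 (mul_inv_eq_iff_eq_mul.1 h3)
    rw [hC] at h5
    have h6 : g * w = w * g := memC.1 h5
    rw [hzd, h6]; group
  have key2 : ∀ k : ℕ, ∀ g ∈ (Q : Subgroup G), (g * w * g⁻¹ * w⁻¹) ^ q ^ k = 1 → g * w * g⁻¹ * w⁻¹ = 1 := by
    intro k
    induction k with
    | zero => intro g _ h1; simpa using h1
    | succ k ih =>
      intro g hg h1
      have hz := c.z g hg
      have h2 := conj_pow hz c.conj_eq (q ^ k)
      have h3 : (g ^ q ^ k) * w * (g ^ q ^ k)⁻¹ * w⁻¹ = (g * w * g⁻¹ * w⁻¹) ^ q ^ k := by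
        rw [h2]; group
      have h4 := key (g ^ q ^ k) (pow_mem hg _) (by rw [h3, ← pow_mul, ← pow_succ]; exact h1)
      rw [h3] at h4
      exact ih g hg h4
  apply c.nc
  refine center_of_sylow h hq hqm Q (wcop h hq hqp c) fun g hg => ?_
  have hzR : g * w * g⁻¹ * w⁻¹ ∈ (Q : Subgroup G) :=
    mul_mem (mul_mem (mul_mem hg c.mem) (inv_mem hg)) (inv_mem c.mem)
  obtain ⟨k, hk⟩ := (El.of_mem hq Q.2 hzR).pow_eq
  have h1 := key2 k g hg hk
  rw [mul_inv_eq_one, mul_inv_eq_iff_eq_mul] at h1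
  exact h1

theorem pow_mem_C {g : G} (hg : g ∈ (Q : Subgroup G)) : g ^ q ∈ C w := by
  have hz := c.z g hg
  have h1 : (g * w * g⁻¹ * w⁻¹) ^ q = 1 := by
    have h2 : g * w ^ q * g⁻¹ = (g * w * g⁻¹) ^ q := by
      rw [← MulAut.conj_apply, map_pow, MulAut.conj_apply]
    rw [c.conj_eq (g := g), (central_comm hz).mul_pow] at h2
    have h3 : g * w ^ q * g⁻¹ = w ^ q := by
      rw [(Subgroup.mem_center_iff.1 (pow_central h hq hqp hqm c) g), mul_inv_cancel_right]
    rw [h3] at h2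
    have h4 : 1 * w ^ q = (g * w * g⁻¹ * w⁻¹) ^ q * w ^ q := by rw [one_mul]; exact h2
    exact (mul_right_cancel h4).symm
  have h5 := conj_pow hz c.conj_eq q
  rw [h1, one_mul, mul_inv_eq_iff_eq_mul] at h5
  exact memC.2 h5

omit hqm in
theorem comm_mem_C {g k : G} (hg : g ∈ (Q : Subgroup G)) (hk : k ∈ (Q : Subgroup G)) :
    g * k * g⁻¹ * k⁻¹ ∈ C w := by
  have hzg := c.z g hg
  have hzk := c.z k hk
  have hn : C w ≤ C w := le_rfl
  have h1 : (g * k) * w * (g * k)⁻¹ = (k * g) * w * (k * g)⁻¹ := by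
    have h2 : ∀ a b : G, a * w * a⁻¹ * w⁻¹ ∈ center G → b * w * b⁻¹ * w⁻¹ ∈ center G →
        (a * b) * w * (a * b)⁻¹ = (b * w * b⁻¹ * w⁻¹) * (a * w * a⁻¹ * w⁻¹) * w := by
      intro a b ha hb
      have h3 : (a * b) * w * (a * b)⁻¹ = a * (b * w * b⁻¹ * w⁻¹) * w * a⁻¹ := by group
      rw [h3, (Subgroup.mem_center_iff.1 hb a)]
      group
    rw [h2 g k hzg hzk, h2 k g hzk hzg, (Subgroup.mem_center_iff.1 hzg _)]
  have h5 : (k * g)⁻¹ * (g * k) ∈ C w := by
    rw [memC]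
    show (k * g)⁻¹ * (g * k) * w = w * ((k * g)⁻¹ * (g * k))
    have h4 : (k * g)⁻¹ * ((g * k) * w * (g * k)⁻¹) * (g * k) =
        (k * g)⁻¹ * ((k * g) * w * (k * g)⁻¹) * (g * k) := by rw [h1]
    calc (k * g)⁻¹ * (g * k) * w = (k * g)⁻¹ * ((g * k) * w * (g * k)⁻¹) * (g * k) := by group
      _ = (k * g)⁻¹ * ((k * g) * w * (k * g)⁻¹) * (g * k) := h4
      _ = w * ((k * g)⁻¹ * (g * k)) := by group
  have h6 := (Subgroup.mem_normalizer_iff.1 (c.norm_C (mul_mem hk hg)) _).1 h5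
  have h7 : k * g * ((k * g)⁻¹ * (g * k)) * (k * g)⁻¹ = g * k * g⁻¹ * k⁻¹ := by group
  rwa [h7] at h6

/-- `|Q : Q ∩ C(w)| = q` -/
theorem relIndex_eq : (C w).relIndex (Q : Subgroup G) = q := by
  have : Fact q.Prime := ⟨hq⟩
  obtain ⟨s, hsq, hs⟩ := h.two q
  have hwp := wcop h hq hqp c
  obtain ⟨y0, hy0c, hy0s, hy0w⟩ := h.exists_el hs c.nc hwp
  have hy0 : y0 ∈ TT s w := (h.mem_TT c.nc hwp hs.pr hs.ne).2 ⟨hy0w, hy0s⟩
  have hQn : (Q : Subgroup G) ≤ normalizer (TT s w : Set G) := c.norm_C.trans (h.TT_norm c.nc hwp hs.pr hs.ne)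
  have hfix : ∀ (u : (Q : Subgroup G)), (u : G) ∉ C w → ∀ v, act hQn u v = v → v = 1 := by
    rintro u hu ⟨_, y, hy, rfl⟩ hv
    have h1 := (act_fix hQn hy).1 hv
    have h2 : (u : G) * y * (u : G)⁻¹ * y⁻¹ ∈ TT s w :=
      mul_mem (LocBase.conj_mem_of_le_normalizer hQn u.2 hy) (inv_mem hy)
    have h3 := ((h.mem_TT c.nc hwp hs.pr hs.ne).1 h2).2
    have h4 := eq_one_of_coprime (r := q) h1 (El.of_mem hq Q.2 u.2) (el_coprime hs.pr hq hsq h3)
      (show (u : G) * y * (u : G)⁻¹ = ((u : G) * y * (u : G)⁻¹ * y⁻¹) * y by group)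
    by_contra hyc
    have hyc' : y ∉ center G := fun hcon => hyc (Subtype.ext (pz_eq_one.2 hcon))
    apply hu
    rw [← h.TT_eqC c.nc hwp hs.pr hs.ne hy hyc', memC]
    rw [mul_inv_eq_one, mul_inv_eq_iff_eq_mul] at h4
    exact h4
  have htriv : ∀ (u : (Q : Subgroup G)), (u : G) ∈ C w → act hQn u = 1 := by
    intro u hu
    rw [act_eq_one]
    intro a ha
    have h1 := h.TT_comm c.nc hwp hs.pr hs.ne ha hu
    have h2 : (u : G) * a * (u : G)⁻¹ * a⁻¹ = 1 := by
      rw [← h1.eq]; group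
    rw [h2]; exact one_mem _
  have hntV := map_nontrivial hy0 hy0c
  have hker : ∀ u : (Q : Subgroup G), act hQn u = 1 → (u : G) ∈ C w := by
    intro u hu
    by_contra hcon
    obtain ⟨v, hv⟩ := exists_ne (1 : (TT s w).map (pz G))
    exact hv (hfix u hcon v (by rw [hu]; rfl))
  let _ : CommGroup ((TT s w).map (pz G)) := { (inferInstance : Group ((TT s w).map (pz G))) with
    mul_comm := map_comm fun x hx y hy => h.TT_comm c.nc hwp hs.pr hs.ne hx
      (memC.2 ((h.mem_TT c.nc hwp hs.pr hs.ne).1 hy).1) }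
  have hf : FrobAction.IsFPF ((act hQn).range.subtype) := by
    rintro ⟨_, u, rfl⟩ hne v hv
    refine hfix u (fun hu => hne ?_) v hv
    exact Subtype.ext (htriv u hu)
  have hcomm : ∀ a b : (act hQn).range, a * b = b * a := by
    rintro ⟨_, g, rfl⟩ ⟨_, k, rfl⟩
    apply Subtype.ext
    show act hQn g * act hQn k = act hQn k * act hQn g
    have h1 : act hQn (g * k * g⁻¹ * k⁻¹) = 1 := htriv _ (comm_mem_C h hq hqp c g.2 k.2)
    rw [map_mul, map_mul, map_mul, map_inv, map_inv, mul_inv_eq_one, mul_inv_eq_iff_eq_mul] at h1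
    exact h1
  have hcyc : IsCyclic (act hQn).range := FrobAction.isCyclic_of_comm hf hcomm
  obtain ⟨γ, hγ⟩ := hcyc.exists_generator
  have hγr : γ ^ q = 1 := by
    obtain ⟨_, u, rfl⟩ := γ
    apply Subtype.ext
    show (act hQn u) ^ q = 1
    rw [← map_pow]
    exact htriv _ (pow_mem_C h hq hqp hqm c u.2)
  have hcard : Nat.card (act hQn).range ∣ q := by
    rw [← orderOf_eq_card_of_forall_mem_zpowers hγ]
    exact orderOf_dvd_of_pow_eq_one hγr
  have hkereq : (act hQn).ker = (C w).subgroupOf (Q : Subgroup G) := by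
    ext u
    rw [MonoidHom.mem_ker, Subgroup.mem_subgroupOf]
    exact ⟨hker u, htriv u⟩
  have hidx : (C w).relIndex (Q : Subgroup G) = Nat.card (act hQn).range := by
    rw [← Subgroup.index_ker, hkereq]; rfl
  rcases (Nat.dvd_prime hq).1 hcard with h1 | h1
  · exfalso
    rw [← hidx, Subgroup.relIndex_eq_one] at h1
    exact c.nc (center_of_sylow h hq hqm Q hwp fun x hx => memC.1 (h1 hx))
  · rw [hidx]; exact h1

end Z

/-- `m_q = q` -/
theorem fact_eq_one (h : HH G p m) (hq : q.Prime) (hqp : q ≠ p) (hqm : q ∣ m) : m.factorization q = 1 := by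
  have : Fact q.Prime := ⟨hq⟩
  obtain ⟨Q⟩ : Nonempty (Sylow q G) := inferInstance
  obtain ⟨w, c⟩ := exists_Z2 h hq hqp hqm Q
  have h1 := relIndex_eq h hq hqp hqm c
  have hwp := wcop h hq hqp c
  have hm0 : m ≠ 0 := by
    rw [← h.ix w hwp c.nc]; exact Subgroup.index_ne_zero_of_finite
  have h2 : 1 ≤ m.factorization q := (hq.dvd_iff_one_le_factorization hm0).1 hqm
  have h3 := Subgroup.card_mul_index (C w)
  rw [h.ix w hwp c.nc] at h3
  have h4 : (Nat.card G).factorization q = (Nat.card (C w)).factorization q + m.factorization q := by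
    rw [← h3, Nat.factorization_mul Nat.card_pos.ne' hm0, Finsupp.add_apply]
  have h5 := Cores.card_mul_relIndex (K := C w ⊓ (Q : Subgroup G)) (L := (Q : Subgroup G)) inf_le_right
  rw [Subgroup.inf_relIndex_right, h1, Q.card_eq_multiplicity] at h5
  have h6 : IsPGroup q (C w ⊓ (Q : Subgroup G) : Subgroup G) := Q.2.to_le inf_le_right
  obtain ⟨k, hk⟩ := IsPGroup.iff_card.1 h6
  rw [hk, ← pow_succ] at h5
  have h7 := Nat.pow_right_injective hq.two_le h5
  have h8 : k ≤ (Nat.card (C w)).factorization q := by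
    rw [← hq.pow_dvd_iff_le_factorization Nat.card_pos.ne', ← hk]
    exact Subgroup.card_dvd_of_le inf_le_left
  omega

/-- a Sylow `q`-subgroup of `G` normalizes `C(g)` -/
theorem sylow_norm (h : HH G p m) (hq : q.Prime) (hqp : q ≠ p) (hqm : q ∣ m) {g : G} (hg : g ∉ center G)
    (hgp : (orderOf g).Coprime p) : ∃ Q : Sylow q G, (Q : Subgroup G) ≤ normalizer (C g : Set G) := by
  have : Fact q.Prime := ⟨hq⟩
  have hTp := h.TT_pgroup hg hgp hq hqp
  obtain ⟨Q, hQ⟩ := hTp.exists_le_sylow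
  refine ⟨Q, ?_⟩
  have hm0 : m ≠ 0 := by
    rw [← h.ix g hgp hg]; exact Subgroup.index_ne_zero_of_finite
  have h3 := Subgroup.card_mul_index (C g)
  rw [h.ix g hgp hg] at h3
  have h4 : (Nat.card G).factorization q = (Nat.card (C g)).factorization q + m.factorization q := by
    rw [← h3, Nat.factorization_mul Nat.card_pos.ne' hm0, Finsupp.add_apply]
  rw [fact_eq_one h hq hqp hqm] at h4
  have h5 := Cores.card_mul_relIndex hQ
  rw [h.card_TT hg hgp hq hqp, Q.card_eq_multiplicity, h4, pow_succ] at h5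
  have h6 : (TT q g).relIndex (Q : Subgroup G) = q := Nat.eq_of_mul_eq_mul_left (pow_pos hq.pos _) h5
  have h7 : ((TT q g).subgroupOf (Q : Subgroup G)).Normal :=
    H64CSh.normal_of_index_eq_prime Q.2 (A := (TT q g).subgroupOf (Q : Subgroup G)) h6
  have h8 : (Q : Subgroup G) ≤ normalizer (TT q g : Set G) := normal_subgroupOf_iff_le_normalizer hQ |>.1 h7
  obtain ⟨y, hyc, hyq, hyg⟩ := h.exists_el (pi_of_dvd h hq hqp hqm) hg hgp
  have hyT : y ∈ TT q g := (h.mem_TT hg hgp hq hqp).2 ⟨hyg, hyq⟩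
  intro x hx
  refine mem_norm (a := y) (h.TT_eqC hg hgp hq hqp hyT hyc) ?_
  exact h.TT_eqC hg hgp hq hqp (LocBase.conj_mem_of_le_normalizer h8 hx hyT) (nc_conj hyc x)

/-- `|G : N(C(g))|` is a power of `p` -/
theorem index_norm (h : HH G p m) {g : G} (hg : g ∉ center G)
    (hgp : (orderOf g).Coprime p) : ∃ e, (normalizer (C g : Set G)).index = p ^ e := by
  have h1 : (normalizer (C g : Set G)).index ∣ m := by
    rw [← h.ix g hgp hg]; exact Subgroup.index_dvd_of_le Subgroup.le_normalizer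
  refine ⟨(normalizer (C g : Set G)).index.primeFactorsList.length, ?_⟩
  refine Nat.eq_prime_pow_of_unique_prime_dvd Subgroup.index_ne_zero_of_finite fun {d} hd hdd => ?_
  by_contra hdp
  have : Fact d.Prime := ⟨hd⟩
  obtain ⟨Q, hQ⟩ := sylow_norm h hd hdp (hdd.trans h1) hg hgp
  exact Q.not_dvd_index (hdd.trans (Subgroup.index_dvd_of_le hQ))

/-- a `q`-element in `N(C(g))` outside `C(g)` -/
theorem exists_u (h : HH G p m) (hq : q.Prime) (hqp : q ≠ p) (hqm : q ∣ m) {g : G} (hg : g ∉ center G)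
    (hgp : (orderOf g).Coprime p) : ∃ u ∈ normalizer (C g : Set G), El q u ∧ u ∉ C g := by
  have : Fact q.Prime := ⟨hq⟩
  obtain ⟨Q, hQ⟩ := sylow_norm h hq hqp hqm hg hgp
  by_contra hcon
  push Not at hcon
  have h1 : (Q : Subgroup G) ≤ C g := fun x hx => hcon x (hQ hx) (El.of_mem hq Q.2 hx)
  refine Q.not_dvd_index (Dvd.dvd.trans ?_ (Subgroup.index_dvd_of_le h1))
  rw [h.ix g hgp hg]; exact hqm

end main

end Cfsg.Agent.Lib.H64CTb
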