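import Mathlib
import Cfsg.Agent.Lib.H64CTb

/-!
(helper64) Two `p`-regular class sizes: the structure of `N(C(g)) / C(g)`, part 1.
-/

set_option autoImplicit false
set_option linter.unusedSectionVars false

namespace Cfsg.Agent.Lib.H64CTc

open Subgroup Cfsg.Agent.Lib Cfsg.Agent.Lib.H64CSa Cfsg.Agent.Lib.H64CSb Cfsg.Agent.Lib.H64CTa
open Cfsg.Agent.Lib.H64CTb
open Cfsg.Agent.Lib.H64CSe (central_comm conj_pow eq_one_of_coprime Z2)

/-- `N(C(g))` -/
abbrev NN {G : Type*} [Group G] (g : G) : Subgroup G := normalizer (C g : Set G)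

/-- `N(C(g)) / C(g)` -/
abbrev EE {G : Type*} [Group G] (g : G) : Type _ := ↥(NN g) ⧸ (C g).subgroupOf (NN g)

/-- the projection -/
abbrev pe {G : Type*} [Group G] (g : G) : NN g →* EE g := QuotientGroup.mk' ((C g).subgroupOf (NN g))

theorem pe_eq_one {G : Type*} [Group G] {g : G} {x : NN g} : pe g x = 1 ↔ (x : G) ∈ C g :=
  (QuotientGroup.eq_one_iff x).trans Subgroup.mem_subgroupOf

section main

variable {G : Type*} [Group G] [Finite G] {p m q : ℕ}

theorem relIndex_sup_of_norm {N H : Subgroup G} (hH : H ≤ normalizer (N : Set G)) :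
    N.relIndex H = N.relIndex (N ⊔ H) := by
  have h1 := SubgroupTools.card_sup_mul_card_inf hH
  have h2 := SubgroupTools.card_mul_relIndex N H
  have h3 := SubgroupTools.card_mul_relIndex_of_le (le_sup_left : N ≤ N ⊔ H)
  rw [← h3, ← h2] at h1
  have h4 : 0 < Nat.card (N ⊓ H : Subgroup G) * Nat.card N := Nat.mul_pos Nat.card_pos Nat.card_pos
  apply Nat.eq_of_mul_eq_mul_left h4
  calc Nat.card (N ⊓ H : Subgroup G) * Nat.card N * N.relIndex H
      = Nat.card N * (Nat.card (N ⊓ H : Subgroup G) * N.relIndex H) := by ring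
    _ = Nat.card N * N.relIndex (N ⊔ H) * Nat.card (N ⊓ H : Subgroup G) := h1.symm
    _ = _ := by ring

theorem m_ne (h : HH G p m) : m ≠ 0 := by
  obtain ⟨g, hg, hgp⟩ := exists_nc h
  rw [← h.ix g hgp hg]; exact Subgroup.index_ne_zero_of_finite

theorem card_E (h : HH G p m) {g : G} (hg : g ∉ center G) (hgp : (orderOf g).Coprime p) :
    Nat.card (EE g) * (NN g).index = m := by
  rw [← h.ix g hgp hg]
  exact Subgroup.relIndex_mul_index Subgroup.le_normalizer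

theorem card_E_dvd (h : HH G p m) {g : G} (hg : g ∉ center G) (hgp : (orderOf g).Coprime p) :
    Nat.card (EE g) ∣ m := ⟨_, (card_E h hg hgp).symm⟩

theorem fact_E (h : HH G p m) (hq : q.Prime) (hqp : q ≠ p) (hqm : q ∣ m) {g : G} (hg : g ∉ center G)
    (hgp : (orderOf g).Coprime p) : (Nat.card (EE g)).factorization q ≤ 1 := by
  rw [← fact_eq_one h hq hqp hqm]
  exact (Nat.factorization_le_iff_dvd Nat.card_pos.ne' (m_ne h)).2 (card_E_dvd h hg hgp) q

/-- a `q`-subgroup of `E` has order at most `q` -/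
theorem card_le_of_pgroup (h : HH G p m) (hq : q.Prime) (hqp : q ≠ p) (hqm : q ∣ m) {g : G} (hg : g ∉ center G)
    (hgp : (orderOf g).Coprime p) {P : Subgroup (EE g)} (hP : IsPGroup q P) : Nat.card P ≤ q := by
  have : Fact q.Prime := ⟨hq⟩
  obtain ⟨k, hk⟩ := IsPGroup.iff_card.1 hP
  have h1 : q ^ k ∣ Nat.card (EE g) := by rw [← hk]; exact Subgroup.card_subgroup_dvd_card P
  have h2 := (hq.pow_dvd_iff_le_factorization Nat.card_pos.ne').1 h1
  have h3 := fact_E h hq hqp hqm hg hgp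
  rw [hk]
  calc q ^ k ≤ q ^ 1 := Nat.pow_le_pow_right hq.pos (h2.trans h3)
    _ = q := pow_one q

section U

variable (h : HH G p m) (hq : q.Prime) (hqp : q ≠ p) (hqm : q ∣ m) {g : G} (hg : g ∉ center G)
  (hgp : (orderOf g).Coprime p) {u : G} (hu : u ∈ NN g) (huq : El q u) (huC : u ∉ C g)

include h hq hqp hqm hg hgp hu huq huC

theorem orderOf_ubar : orderOf (pe g ⟨u, hu⟩) = q := by
  have : Fact q.Prime := ⟨hq⟩
  have h1 : IsPGroup q (zpowers (pe g ⟨u, hu⟩)) := by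
    apply El.zpowers
    obtain ⟨k, hk⟩ := huq.pow_eq
    refine El.of_pow hq (k := k) ?_
    rw [← map_pow]
    have : (⟨u, hu⟩ : NN g) ^ q ^ k = 1 := Subtype.ext (by simpa using hk)
    rw [this, map_one]
  have h2 := card_le_of_pgroup h hq hqp hqm hg hgp h1
  rw [Nat.card_zpowers] at h2
  have h3 : orderOf (pe g ⟨u, hu⟩) ≠ 1 := by
    rw [Ne, orderOf_eq_one_iff, pe_eq_one]; exact huC
  obtain ⟨k, hk⟩ := IsPGroup.iff_card.1 h1
  rw [Nat.card_zpowers] at hk
  rw [hk] at h2 h3 ⊢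
  have h4 : k ≤ 1 := (Nat.pow_le_pow_iff_right hq.one_lt).1 (by rw [pow_one]; exact h2)
  have h5 : k ≠ 0 := by rintro rfl; exact h3 (pow_zero q)
  have h6 : k = 1 := by omega
  rw [h6, pow_one]

theorem u_pow_mem : u ^ q ∈ C g := by
  have h1 := pow_orderOf_eq_one (pe g ⟨u, hu⟩)
  rw [orderOf_ubar h hq hqp hqm hg hgp hu huq huC, ← map_pow, pe_eq_one] at h1
  exact h1

theorem u_coprime : (orderOf u).Coprime p := el_coprime hq h.hp hqp huq

/-- elements of `TT q g` commuting with `u` are central -/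
theorem central_of_comm {s : ℕ} (hs : s.Prime) (hsp : s ≠ p) {a : G} (ha : a ∈ TT s g) (hau : Commute a u) :
    a ∈ center G := by
  by_contra hac
  apply huC
  rw [← h.TT_eqC hg hgp hs hsp ha hac]
  exact memC.2 hau.symm

theorem u_pow_central : u ^ q ∈ center G := by
  have h1 := u_pow_mem h hq hqp hqm hg hgp hu huq huC
  refine central_of_comm h hq hqp hqm hg hgp hu huq huC hq hqp (a := u ^ q) ?_ ((Commute.refl u).pow_left q)
  rw [h.mem_TT hg hgp hq hqp]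
  exact ⟨memC.1 h1, huq.pow hq q⟩

/-- `[a, u]` for `a ∈ TT` -/
theorem comm_mem_TT {s : ℕ} (hs : s.Prime) (hsp : s ≠ p) {x a : G} (hx : x ∈ NN g) (ha : a ∈ TT s g) :
    x * a * x⁻¹ * a⁻¹ ∈ TT s g :=
  mul_mem (LocBase.conj_mem_of_le_normalizer (h.TT_norm hg hgp hs hsp) hx ha) (inv_mem ha)

/-- the fixed points of `u` on `TT q g Z / Z` -/
def FF (q : ℕ) (g u : G) : Subgroup (G ⧸ center G) := (TT q g).map (pz G) ⊓ C (pz G u)

theorem FF_ne_bot : FF q g u ≠ ⊥ := by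
  have : Fact q.Prime := ⟨hq⟩
  have hpi := pi_of_dvd h hq hqp hqm
  obtain ⟨y, hyc, hyq, hyg⟩ := h.exists_el hpi hg hgp
  have hyT : y ∈ TT q g := (h.mem_TT hg hgp hq hqp).2 ⟨hyg, hyq⟩
  have hVp : IsPGroup q ((TT q g).map (pz G)) := (h.TT_pgroup hg hgp hq hqp).map _
  have hV1 : (TT q g).map (pz G) ≠ ⊥ := by
    intro hbot
    have h1 : pz G y ∈ (TT q g).map (pz G) := ⟨y, hyT, rfl⟩
    rw [hbot, Subgroup.mem_bot, pz_eq_one] at h1
    exact hyc h1
  have hdvd : q ∣ Nat.card ((TT q g).map (pz G)) := by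
    obtain ⟨j, hj⟩ := IsPGroup.iff_card.1 hVp
    rw [hj]
    refine dvd_pow_self q fun hj0 => hV1 ?_
    rw [hj0, pow_zero] at hj
    exact Subgroup.card_eq_one.1 hj
  have hn : zpowers (pz G u) ≤ normalizer ((TT q g).map (pz G) : Set (G ⧸ center G)) := by
    rw [Subgroup.zpowers_le]
    exact Subgroup.le_normalizer_map (H := TT q g) (pz G) ⟨u, h.TT_norm hg hgp hq hqp hu, rfl⟩
  have hz : IsPGroup q (zpowers (pz G u)) := by
    rw [← MonoidHom.map_zpowers]
    exact huq.zpowers.map _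
  obtain ⟨v, hv, hv1, hvu⟩ := H64CSc.exists_fixed hz hn hdvd
  intro hbot
  apply hv1
  have h1 : v ∈ FF q g u := by
    refine ⟨hv, memC.2 ?_⟩
    have h2 := hvu _ (mem_zpowers _)
    exact ((mul_inv_eq_iff_eq_mul.1 h2 : Commute (pz G u) v)).symm
  rw [hbot] at h1
  exact Subgroup.mem_bot.1 h1

theorem card_FF : Nat.card (FF q g u) = q := by
  have : Fact q.Prime := ⟨hq⟩
  set W : Subgroup G := TT q g ⊓ (C (pz G u)).comap (pz G) with hW
  have hWF : W.map (pz G) = FF q g u := by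
    apply le_antisymm
    · rintro _ ⟨a, ⟨ha1, ha2⟩, rfl⟩
      exact ⟨⟨a, ha1, rfl⟩, ha2⟩
    · rintro _ ⟨⟨a, ha1, rfl⟩, ha2⟩
      exact ⟨a, ⟨ha1, ha2⟩, rfl⟩
  have hWn : W ≤ normalizer (C u : Set G) := by
    rintro a ⟨ha1, ha2⟩
    exact norm_of_central (pz_commute.1 (memC.1 ha2))
  have huc : u ∉ center G := fun hcon => huC (memC.2 (central_comm hcon))
  have hup := u_coprime h hq hqp hqm hg hgp hu huq huC
  have h1 : (C u).relIndex W ∣ m := by
    rw [relIndex_sup_of_norm hWn, ← h.ix u hup huc]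
    exact Subgroup.relIndex_dvd_index_of_le le_sup_left
  have h2 : (C u).relIndex W = (center G).relIndex W := by
    rw [← Subgroup.inf_relIndex_right, ← Subgroup.inf_relIndex_right (center G)]
    congr 1
    apply le_antisymm
    · rintro a ⟨ha1, ha2⟩
      exact ⟨central_of_comm h hq hqp hqm hg hgp hu huq huC hq hqp ha2.1 (memC.1 ha1), ha2⟩
    · rintro a ⟨ha1, ha2⟩
      exact ⟨center_le u ha1, ha2⟩
  have h3 : (center G).relIndex W = Nat.card (FF q g u) := by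
    have h5 := Subgroup.relIndex_ker (pz G) (K := W)
    rw [QuotientGroup.ker_mk', hWF] at h5
    exact h5
  rw [h2, h3] at h1
  have hFp : IsPGroup q (FF q g u) := ((h.TT_pgroup hg hgp hq hqp).map (pz G)).to_le inf_le_left
  obtain ⟨k, hk⟩ := IsPGroup.iff_card.1 hFp
  have h4 : k ≤ 1 := by
    rw [← fact_eq_one h hq hqp hqm, ← hq.pow_dvd_iff_le_factorization (m_ne h), ← hk]
    exact h1
  have h5 : k ≠ 0 := by
    rintro rfl
    rw [pow_zero] at hk
    exact FF_ne_bot h hq hqp hqm hg hgp hu huq huC (Subgroup.card_eq_one.1 hk)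
  have h6 : k = 1 := by omega
  rw [hk, h6, pow_one]

/-- there is a noncentral `a ∈ TT q g` with `[a, u]` central; it generates `FF` -/
theorem exists_a : ∃ a ∈ TT q g, a ∉ center G ∧ a * u * a⁻¹ * u⁻¹ ∈ center G := by
  have h1 := FF_ne_bot h hq hqp hqm hg hgp hu huq huC
  obtain ⟨v, hv, hv1⟩ := (Subgroup.ne_bot_iff_exists_ne_one).1 h1 |> fun ⟨x, hx⟩ => (⟨x.1, x.2, fun h => hx (Subtype.ext h)⟩ : ∃ v, v ∈ FF q g u ∧ v ≠ 1)
  obtain ⟨⟨a, ha, rfl⟩, hau⟩ := hv
  exact ⟨a, ha, fun hcon => hv1 (pz_eq_one.2 hcon), pz_commute.1 (memC.1 hau)⟩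

theorem FF_gen {v w : G ⧸ center G} (hv : v ∈ FF q g u) (hv1 : v ≠ 1) (hw : w ∈ FF q g u) : ∃ i : ℕ, w = v ^ i := by
  have : Fact q.Prime := ⟨hq⟩
  have h1 := card_FF h hq hqp hqm hg hgp hu huq huC
  have h2 : (zpowers v) = FF q g u := by
    refine Subgroup.eq_of_le_of_card_ge (Subgroup.zpowers_le.2 hv) ?_
    rw [h1]
    have h3 : Nat.card (zpowers v) ∣ q := by
      rw [← h1]; exact Subgroup.card_dvd_of_le (Subgroup.zpowers_le.2 hv)
    rcases (Nat.dvd_prime hq).1 h3 with h4 | h4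
    · exfalso
      rw [Subgroup.card_eq_one, Subgroup.zpowers_eq_bot] at h4
      exact hv1 h4
    · exact h4.ge
  rw [← h2] at hw
  obtain ⟨i, hi⟩ := mem_powers_iff_mem_zpowers.2 hw
  exact ⟨i, hi.symm⟩

/-- `C_E(ū)` has no `q'`-elements -/
theorem L3 {x : G} (hx : x ∈ NN g) (hxu : x * u * x⁻¹ * u⁻¹ ∈ C g) {n : ℕ} (hn : n.Coprime q) (hxn : x ^ n ∈ C g) :
    x ∈ C g := by
  have : Fact q.Prime := ⟨hq⟩
  obtain ⟨a, haT, hac, hau⟩ := exists_a h hq hqp hqm hg hgp hu huq huC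
  have haF : pz G a ∈ FF q g u := ⟨⟨a, haT, rfl⟩, memC.2 (pz_commute.2 hau)⟩
  have ha1 : pz G a ≠ 1 := fun hcon => hac (pz_eq_one.1 hcon)
  have haq := h.mem_TT hg hgp hq hqp |>.1 haT
  set c := x * u * x⁻¹ * u⁻¹ with hc
  have hxu' : x * u * x⁻¹ = c * u := by rw [hc]; group
  have hb : x * a * x⁻¹ ∈ TT q g := LocBase.conj_mem_of_le_normalizer (h.TT_norm hg hgp hq hqp) hx haT
  have hbc : Commute (x * a * x⁻¹) c := h.TT_comm hg hgp hq hqp hb hxu
  have hac' : Commute a c := h.TT_comm hg hgp hq hqp haT hxu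
  have hbF : pz G (x * a * x⁻¹) ∈ FF q g u := by
    refine ⟨⟨_, hb, rfl⟩, memC.2 ?_⟩
    have h1 : Commute (pz G (x * a * x⁻¹)) (pz G (x * u * x⁻¹)) := by
      have h2 : Commute (pz G a) (pz G u) := pz_commute.2 hau
      have h3 := h2.map (MulAut.conj (pz G x))
      have e : ∀ y, MulAut.conj (pz G x) (pz G y) = pz G (x * y * x⁻¹) := fun y => by
        rw [MulAut.conj_apply, map_mul, map_mul, map_inv]
      rw [e, e] at h3
      exact h3
    have h4 : Commute (pz G (x * a * x⁻¹)) (pz G c) := hbc.map (pz G)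
    have e2 : pz G (x * u * x⁻¹) = pz G c * pz G u := by rw [hxu', map_mul]
    rw [e2] at h1
    have h5 := h4.inv_right.mul_right h1
    rwa [inv_mul_cancel_left] at h5
  obtain ⟨i, hi⟩ := FF_gen h hq hqp hqm hg hgp hu huq huC haF ha1 hbF
  -- `x a x⁻¹ = z * a ^ i`
  have hz : x * a * x⁻¹ * (a ^ i)⁻¹ ∈ center G := by
    rw [← pz_eq_one, map_mul, hi, map_inv, map_pow, mul_inv_cancel]
  set z := x * a * x⁻¹ * (a ^ i)⁻¹ with hzd
  have hxa : x * a * x⁻¹ = z * a ^ i := by rw [hzd]; group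
  set ζ := a * u * a⁻¹ * u⁻¹ with hζ
  have hζ1 : ζ ≠ 1 := by
    intro hcon
    apply hac
    refine central_of_comm h hq hqp hqm hg hgp hu huq huC hq hqp haT ?_
    rw [hζ, mul_inv_eq_one, mul_inv_eq_iff_eq_mul] at hcon
    exact hcon
  have haui : ∀ k : ℕ, a ^ k * u * (a ^ k)⁻¹ = ζ ^ k * u := by
    intro k
    exact conj_pow hau (show a * u * a⁻¹ = ζ * u by rw [hζ]; group) k
  have hζi : ζ ^ i = ζ := by
    have h1 : x * ζ * x⁻¹ = ζ := by
      rw [(Subgroup.mem_center_iff.1 hau x : x * ζ = ζ * x), mul_inv_cancel_right]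
    have h2 : x * ζ * x⁻¹ = (x * a * x⁻¹) * (x * u * x⁻¹) * (x * a * x⁻¹)⁻¹ * (x * u * x⁻¹)⁻¹ := by
      rw [hζ]; group
    rw [h2, hxa, hxu'] at h1
    have h3 : z * a ^ i * (c * u) * (z * a ^ i)⁻¹ * (c * u)⁻¹ = a ^ i * c * u * (a ^ i)⁻¹ * (c * u)⁻¹ := by
      have h4 : Commute z (a ^ i * (c * u) * (a ^ i)⁻¹) := central_comm hz
      calc z * a ^ i * (c * u) * (z * a ^ i)⁻¹ * (c * u)⁻¹
          = z * (a ^ i * (c * u) * (a ^ i)⁻¹) * z⁻¹ * (c * u)⁻¹ := by group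
        _ = a ^ i * c * u * (a ^ i)⁻¹ * (c * u)⁻¹ := by rw [h4.eq]; group
    rw [h3, (hac'.pow_left i).eq] at h1
    have h5 : c * a ^ i * u * (a ^ i)⁻¹ * (c * u)⁻¹ = c * (a ^ i * u * (a ^ i)⁻¹) * u⁻¹ * c⁻¹ := by group
    rw [h5, haui] at h1
    have h6 : Commute c (ζ ^ i) := (central_comm (pow_mem hau i)).symm
    have h7 : c * (ζ ^ i * u) * u⁻¹ * c⁻¹ = ζ ^ i := by
      calc c * (ζ ^ i * u) * u⁻¹ * c⁻¹ = c * ζ ^ i * c⁻¹ := by group
        _ = ζ ^ i := by rw [h6.eq]; group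
    rw [h7] at h1
    exact h1
  have hζq : ζ ^ q = 1 := by
    have h1 : a ^ q ∈ center G := by
      rw [← pz_eq_one, map_pow]
      have h2 : (⟨pz G a, haF⟩ : FF q g u) ^ Nat.card (FF q g u) = 1 := pow_card_eq_one'
      rw [card_FF h hq hqp hqm hg hgp hu huq huC] at h2
      exact congrArg Subtype.val h2
    have h2 := haui q
    rw [(central_comm h1).eq, mul_inv_cancel_right] at h2
    have h3 : 1 * u = ζ ^ q * u := by rw [one_mul]; exact h2
    exact (mul_right_cancel h3).symm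
  have hζo : orderOf ζ = q := orderOf_eq_prime hζq hζ1
  have hai : pz G (a ^ i) = pz G a := by
    have h1 : ζ ^ i = ζ ^ 1 := by rw [pow_one]; exact hζi
    rw [pow_eq_pow_iff_modEq, hζo] at h1
    rw [map_pow]
    conv_rhs => rw [← pow_one (pz G a)]
    rw [pow_eq_pow_iff_modEq]
    have h2 : orderOf (pz G a) ∣ q := by
      apply orderOf_dvd_of_pow_eq_one
      have h2 : (⟨pz G a, haF⟩ : FF q g u) ^ Nat.card (FF q g u) = 1 := pow_card_eq_one'
      rw [card_FF h hq hqp hqm hg hgp hu huq huC] at h2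
      exact congrArg Subtype.val h2
    exact h1.of_dvd h2
  have hxa2 : x * a * x⁻¹ * a⁻¹ ∈ center G := by
    rw [← pz_eq_one, map_mul, hi, map_inv, ← map_pow, hai, mul_inv_cancel]
  have hz2 : (x * a * x⁻¹ * a⁻¹) ^ n = 1 := by
    have h1 := conj_pow hxa2 (show x * a * x⁻¹ = (x * a * x⁻¹ * a⁻¹) * a by group) n
    have h2 : Commute (x ^ n) a := (h.TT_comm hg hgp hq hqp haT hxn).symm
    rw [h2.eq, mul_inv_cancel_right] at h1
    have h3 : 1 * a = (x * a * x⁻¹ * a⁻¹) ^ n * a := by rw [one_mul]; exact h1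
    exact (mul_right_cancel h3).symm
  have hzT := comm_mem_TT h hq hqp hqm hg hgp hu huq huC hq hqp hx haT
  have hzel := ((h.mem_TT hg hgp hq hqp).1 hzT).2
  have hz3 : x * a * x⁻¹ * a⁻¹ = 1 := by
    refine El.eq_one hzel ?_
    exact Nat.Coprime.coprime_dvd_left (orderOf_dvd_of_pow_eq_one hz2) hn
  rw [← h.TT_eqC hg hgp hq hqp haT hac, memC]
  rw [mul_inv_eq_one, mul_inv_eq_iff_eq_mul] at hz3
  exact hz3

/-- `q'`-elements of `E` commuting with `ū` are trivial -/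
theorem L4 {x : EE g} (hxu : Commute x (pe g ⟨u, hu⟩)) (hx : (orderOf x).Coprime q) : x = 1 := by
  obtain ⟨y, rfl⟩ := QuotientGroup.mk'_surjective _ x
  have h1 : pe g (y * ⟨u, hu⟩ * y⁻¹ * (⟨u, hu⟩ : NN g)⁻¹) = 1 := by
    rw [map_mul, map_mul, map_mul, map_inv, map_inv, mul_inv_eq_one, mul_inv_eq_iff_eq_mul]
    exact hxu
  rw [pe_eq_one] at h1
  have h2 : pe g (y ^ orderOf (pe g y)) = 1 := by rw [map_pow]; exact pow_orderOf_eq_one _
  rw [pe_eq_one] at h2
  have h3 := L3 h hq hqp hqm hg hgp hu huq huC y.2 h1 hx h2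
  exact pe_eq_one.2 h3

/-- `C_E(ū) = ⟨ū⟩` -/
theorem centralizer_ubar : C (pe g ⟨u, hu⟩) = zpowers (pe g ⟨u, hu⟩) := by
  have : Fact q.Prime := ⟨hq⟩
  have hP : IsPGroup q (C (pe g ⟨u, hu⟩)) := by
    rw [IsPGroup.iff_card]
    refine ⟨(Nat.card (C (pe g ⟨u, hu⟩))).primeFactorsList.length,
      Nat.eq_prime_pow_of_unique_prime_dvd Nat.card_pos.ne' fun {d} hd hdd => ?_⟩
    by_contra hdq
    have : Fact d.Prime := ⟨hd⟩
    obtain ⟨x, hx⟩ := exists_prime_orderOf_dvd_card' d hdd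
    have h1 := L4 h hq hqp hqm hg hgp hu huq huC (x := (x : EE g)) (memC.1 x.2) (by
      rw [Subgroup.orderOf_coe, hx]; exact (Nat.coprime_primes hd hq).2 hdq)
    rw [← Subgroup.orderOf_coe, h1, orderOf_one] at hx
    exact hd.one_lt.ne hx
  symm
  refine Subgroup.eq_of_le_of_card_ge (Subgroup.zpowers_le.2 (memC.2 (Commute.refl _))) ?_
  rw [Nat.card_zpowers, orderOf_ubar h hq hqp hqm hg hgp hu huq huC]
  exact card_le_of_pgroup h hq hqp hqm hg hgp hP

end U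

end main

end Cfsg.Agent.Lib.H64CTc
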