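import Mathlib
import Cfsg.Agent.Lib.H64CTc

/-!
(helper64) Two `p`-regular class sizes: the structure of `N(C(g)) / C(g)`, part 2.
-/

set_option autoImplicit false
set_option linter.unusedSectionVars false

namespace Cfsg.Agent.Lib.H64CTd

open Subgroup Cfsg.Agent.Lib Cfsg.Agent.Lib.H64CSa Cfsg.Agent.Lib.H64CSb Cfsg.Agent.Lib.H64CTa
open Cfsg.Agent.Lib.H64CTb Cfsg.Agent.Lib.H64CTc
open Cfsg.Agent.Lib.H64CSe (central_comm conj_pow eq_one_of_coprime Z2)

section main

variable {G : Type*} [Group G] [Finite G] {p m q : ℕ}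

section G1

variable (h : HH G p m) {g : G} (hg : g ∉ center G) (hgp : (orderOf g).Coprime p) {s : ℕ} (hs : s.Prime) (hsp : s ≠ p)

include h hg hgp hs hsp in
theorem act_triv : ∀ x ∈ (C g).subgroupOf (NN g), act (h.TT_norm hg hgp hs hsp) x = 1 := by
  intro x hx
  rw [act_eq_one]
  intro a ha
  have h1 := h.TT_comm hg hgp hs hsp ha (Subgroup.mem_subgroupOf.1 hx)
  have h2 : (x : G) * a * (x : G)⁻¹ * a⁻¹ = 1 := by
    rw [← h1.eq]; group
  rw [h2]; exact one_mem _

/-- the action of `E` on `TT s g Z / Z` -/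
noncomputable def actE : EE g →* MulAut ((TT s g).map (pz G)) :=
  QuotientGroup.lift _ (act (h.TT_norm hg hgp hs hsp)) (act_triv h hg hgp hs hsp)

theorem actE_mk (x : NN g) : actE h hg hgp hs hsp (pe g x) = act (h.TT_norm hg hgp hs hsp) x := rfl

/-- fixed-point-freeness -/
theorem L5 {x : EE g} (hx : (orderOf x).Coprime s) (hx1 : x ≠ 1) {v : (TT s g).map (pz G)}
    (hv : actE h hg hgp hs hsp x v = v) : v = 1 := by
  obtain ⟨y, rfl⟩ := QuotientGroup.mk'_surjective _ x
  rw [actE_mk] at hv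
  obtain ⟨_, a, ha, rfl⟩ := v
  have h1 := (act_fix _ ha).1 hv
  by_contra hac
  have hac' : a ∉ center G := fun hcon => hac (Subtype.ext (pz_eq_one.2 hcon))
  have h2 : pe g (y ^ orderOf (pe g y)) = 1 := by rw [map_pow]; exact pow_orderOf_eq_one _
  rw [pe_eq_one] at h2
  have hzT : (y : G) * a * (y : G)⁻¹ * a⁻¹ ∈ TT s g :=
    mul_mem (LocBase.conj_mem_of_le_normalizer (h.TT_norm hg hgp hs hsp) y.2 ha) (inv_mem ha)
  have hzel := ((h.mem_TT hg hgp hs hsp).1 hzT).2
  have hz2 : ((y : G) * a * (y : G)⁻¹ * a⁻¹) ^ orderOf (pe g y) = 1 := by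
    have h3 := conj_pow h1 (show (y : G) * a * (y : G)⁻¹ = ((y : G) * a * (y : G)⁻¹ * a⁻¹) * a by group)
      (orderOf (pe g y))
    have h4 : Commute ((y : G) ^ orderOf (pe g y)) a := (h.TT_comm hg hgp hs hsp ha h2).symm
    rw [h4.eq, mul_inv_cancel_right] at h3
    have h5 : 1 * a = ((y : G) * a * (y : G)⁻¹ * a⁻¹) ^ orderOf (pe g y) * a := by rw [one_mul]; exact h3
    exact (mul_right_cancel h5).symm
  have hz3 : (y : G) * a * (y : G)⁻¹ * a⁻¹ = 1 := by
    refine El.eq_one hzel ?_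
    exact Nat.Coprime.coprime_dvd_left (orderOf_dvd_of_pow_eq_one hz2) hx
  apply hx1
  rw [pe_eq_one, ← h.TT_eqC hg hgp hs hsp ha hac', memC]
  rw [mul_inv_eq_one, mul_inv_eq_iff_eq_mul] at hz3
  exact hz3

end G1

section U

variable (h : HH G p m) (hq : q.Prime) (hqp : q ≠ p) (hqm : q ∣ m)
  (hmin : ∀ r : ℕ, r.Prime → r ≠ p → r ∣ m → q ≤ r) {g : G} (hg : g ∉ center G)
  (hgp : (orderOf g).Coprime p) {u : G} (hu : u ∈ NN g) (huq : El q u) (huC : u ∉ C g)

include h hq hqp hqm hg hgp huq huC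

/-- `r ∣ q - 1` for a prime `r ≠ q` and `x` of order `r` normalizing `⟨ū⟩` -/
theorem modEq_of_norm {r : ℕ} (hr : r.Prime) (hrq : r ≠ q) {x : EE g} (hx : orderOf x = r)
    (hxn : x ∈ normalizer (zpowers (pe g ⟨u, hu⟩) : Set (EE g))) : q ≡ 1 [MOD r] := by
  have : Fact r.Prime := ⟨hr⟩
  have : Fact q.Prime := ⟨hq⟩
  have hxr : IsPGroup r (zpowers x) := IsPGroup.of_card (n := 1) (by rw [Nat.card_zpowers, hx, pow_one])
  set U := zpowers (pe g ⟨u, hu⟩) with hU
  have hcU : Nat.card U = q := by rw [hU, Nat.card_zpowers, orderOf_ubar h hq hqp hqm hg hgp hu huq huC]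
  let _ : MulAction (zpowers x) U :=
    MulAction.compHom U ((U.normalizerMonoidHom).comp (inclusion (Subgroup.zpowers_le.2 hxn)))
  have h1 := hxr.card_modEq_card_fixedPoints U
  have h2 : MulAction.fixedPoints (zpowers x) U = {1} := by
    ext v
    rw [Set.mem_singleton_iff]
    constructor
    · intro hv
      by_contra hv1
      have h3 := congrArg Subtype.val (hv ⟨x, mem_zpowers x⟩)
      have h4 : x * (v : EE g) * x⁻¹ = v := h3
      have h5 : Commute x (v : EE g) := mul_inv_eq_iff_eq_mul.1 h4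
      have h6 : zpowers (v : EE g) = U := by
        refine Subgroup.eq_of_le_of_card_ge (Subgroup.zpowers_le.2 v.2) ?_
        rw [hcU]
        have h7 : Nat.card (zpowers (v : EE g)) ∣ q := by
          rw [← hcU]; exact Subgroup.card_dvd_of_le (Subgroup.zpowers_le.2 v.2)
        rcases (Nat.dvd_prime hq).1 h7 with h8 | h8
        · exfalso
          rw [Subgroup.card_eq_one, Subgroup.zpowers_eq_bot] at h8
          exact hv1 (Subtype.ext h8)
        · exact h8.ge
      have h7 : pe g ⟨u, hu⟩ ∈ zpowers (v : EE g) := by rw [h6]; exact mem_zpowers _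
      obtain ⟨i, hi⟩ := h7
      have h8 : Commute x (pe g ⟨u, hu⟩) := by
        rw [← hi]
        exact h5.zpow_right i
      have h9 := L4 h hq hqp hqm hg hgp hu huq huC h8 (by rw [hx]; exact (Nat.coprime_primes hr hq).2 hrq)
      rw [h9, orderOf_one] at hx
      exact hr.one_lt.ne hx
    · rintro rfl y
      exact map_one ((U.normalizerMonoidHom).comp (inclusion (Subgroup.zpowers_le.2 hxn)) y)
  rw [h2, hcU] at h1
  simpa using h1

include hmin

/-- `N_E(⟨ū⟩) = ⟨ū⟩` -/
theorem normalizer_ubar :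
    normalizer (zpowers (pe g ⟨u, hu⟩) : Set (EE g)) = zpowers (pe g ⟨u, hu⟩) := by
  have : Fact q.Prime := ⟨hq⟩
  set U := zpowers (pe g ⟨u, hu⟩) with hU
  have hcU : Nat.card U = q := by rw [hU, Nat.card_zpowers, orderOf_ubar h hq hqp hqm hg hgp hu huq huC]
  by_contra hne
  set X := normalizer (U : Set (EE g)) with hX
  have hUX : U ≤ X := Subgroup.le_normalizer
  have h1 := Cores.card_mul_relIndex hUX
  rw [hcU] at h1
  have h2 : U.relIndex X ≠ 1 := by
    intro h3
    exact hne (le_antisymm (Subgroup.relIndex_eq_one.1 h3) hUX)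
  obtain ⟨r, hr, hrk⟩ := Nat.exists_prime_and_dvd h2
  have : Fact r.Prime := ⟨hr⟩
  have hrX : r ∣ Nat.card X := by rw [← h1]; exact hrk.mul_left q
  have hXm : Nat.card X ∣ m := (Subgroup.card_subgroup_dvd_card X).trans (card_E_dvd h hg hgp)
  have hrm : r ∣ m := hrX.trans hXm
  have hrq : r ≠ q := by
    rintro rfl
    have h3 : r ^ 2 ∣ m := by
      refine Dvd.dvd.trans ?_ hXm
      rw [← h1, pow_two]
      exact Nat.mul_dvd_mul_left r hrk
    have h4 := (hr.pow_dvd_iff_le_factorization (m_ne h)).1 h3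
    rw [fact_eq_one h hq hqp hqm] at h4
    omega
  obtain ⟨x, hx⟩ := exists_prime_orderOf_dvd_card' r hrX
  have hxr : orderOf (x : EE g) = r := by rw [Subgroup.orderOf_coe]; exact hx
  have h3 := modEq_of_norm h hq hqp hqm hg hgp hu huq huC hr hrq hxr x.2
  have h4 : r < q := by
    have h5 : r ∣ q - 1 := (Nat.modEq_iff_dvd' hq.one_lt.le).1 h3.symm
    have h6 := Nat.le_of_dvd (by have := hq.two_le; omega) h5
    have := hq.two_le
    omega
  have hrp : r = p := by
    by_contra hrp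
    have := hmin r hr hrp hrm
    omega
  obtain ⟨s, hsq, hs⟩ := h.two q
  have hsr : s ≠ r := by rw [hrp]; exact hs.ne
  obtain ⟨y0, hy0c, hy0s, hy0g⟩ := h.exists_el hs hg hgp
  have hy0 : y0 ∈ TT s g := (h.mem_TT hg hgp hs.pr hs.ne).2 ⟨hy0g, hy0s⟩
  have : Fact s.Prime := ⟨hs.pr⟩
  let _ : CommGroup ((TT s g).map (pz G)) := { (inferInstance : Group ((TT s g).map (pz G))) with
    mul_comm := map_comm fun a ha b hb => h.TT_comm hg hgp hs.pr hs.ne ha
      (memC.2 ((h.mem_TT hg hgp hs.pr hs.ne).1 hb).1) }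
  have hKn : (U.subgroupOf X).Normal := Subgroup.normal_subgroupOf_of_le_normalizer le_rfl
  have hubar : pe g ⟨u, hu⟩ ≠ 1 := by rw [Ne, pe_eq_one]; exact huC
  have hord := orderOf_ubar h hq hqp hqm hg hgp hu huq huC
  have key := FrobAction.pow_card_kernel_eq_one (A := X) (V := (TT s g).map (pz G))
    ((actE h hg hgp hs.pr hs.ne).comp X.subtype) (U.subgroupOf X) (zpowers x) ?_ ?_ ?_
    ⟨pz G y0, y0, hy0, rfl⟩
  · have h5 : Nat.card (U.subgroupOf X) = q := by
      rw [Nat.card_congr (Subgroup.subgroupOfEquivOfLe hUX).toEquiv, hcU]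
    rw [h5] at key
    have h6 : (pz G y0) ^ q = 1 := congrArg Subtype.val key
    obtain ⟨k, hk⟩ := hy0s.pow_eq
    have h7 : (pz G y0) ^ s ^ k = 1 := by rw [← map_pow, hk, map_one]
    have h8 : (q : ℕ).Coprime (s ^ k) := ((Nat.coprime_primes hq hs.pr).2 hsq.symm).pow_right k
    have h9 : orderOf (pz G y0) = 1 := Nat.eq_one_of_dvd_coprimes h8 (orderOf_dvd_of_pow_eq_one h6)
      (orderOf_dvd_of_pow_eq_one h7)
    rw [orderOf_eq_one_iff, pz_eq_one] at h9
    exact hy0c h9
  · intro y hy hy1 k hk hyk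
    -- `y` generates `⟨x⟩`, `k` generates `⟨ū⟩`
    by_contra hk1
    have hk' : (k : EE g) ∈ U := Subgroup.mem_subgroupOf.1 hk
    have h6 : zpowers (k : EE g) = U := by
      refine Subgroup.eq_of_le_of_card_ge (Subgroup.zpowers_le.2 hk') ?_
      rw [hcU]
      have h7 : Nat.card (zpowers (k : EE g)) ∣ q := by
        rw [← hcU]; exact Subgroup.card_dvd_of_le (Subgroup.zpowers_le.2 hk')
      rcases (Nat.dvd_prime hq).1 h7 with h8 | h8
      · exfalso
        rw [Subgroup.card_eq_one, Subgroup.zpowers_eq_bot] at h8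
        exact hk1 (Subtype.ext h8)
      · exact h8.ge
    have h7 : pe g ⟨u, hu⟩ ∈ zpowers (k : EE g) := by rw [h6]; exact mem_zpowers _
    obtain ⟨i, hi⟩ := h7
    have h8 : Commute (y : EE g) (pe g ⟨u, hu⟩) := by
      rw [← hi]
      have h9 : Commute (y : EE g) (k : EE g) := congrArg Subtype.val hyk
      exact h9.zpow_right i
    have h9 : (orderOf (y : EE g)).Coprime q := by
      rw [Subgroup.orderOf_coe]
      refine Nat.Coprime.coprime_dvd_left (orderOf_dvd_of_mem_zpowers hy) ?_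
      rw [hx]; exact (Nat.coprime_primes hr hq).2 hrq
    have h10 := L4 h hq hqp hqm hg hgp hu huq huC h8 h9
    exact hy1 (Subtype.ext h10)
  · intro v hv
    have h5 := hv ⟨pe g ⟨u, hu⟩, hUX (mem_zpowers _)⟩ (Subgroup.mem_subgroupOf.2 (mem_zpowers _))
    exact L5 h hg hgp hs.pr hs.ne (x := pe g ⟨u, hu⟩) (by rw [hord]; exact (Nat.coprime_primes hq hs.pr).2 hsq.symm)
      hubar h5
  · intro v hv
    have h5 := hv x (mem_zpowers x)
    refine L5 h hg hgp hs.pr hs.ne (x := (x : EE g)) (by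
      rw [hxr]; exact (Nat.coprime_primes hr hs.pr).2 hsr.symm) ?_ h5
    intro h6
    rw [h6, orderOf_one] at hxr
    exact hr.one_lt.ne hxr

end U

end main

end Cfsg.Agent.Lib.H64CTd
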