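import Mathlib
import Cfsg.Agent.Lib.H64CTd

/-!
(helper64) Two `p`-regular class sizes: `|N(C(g)) : C(g)| = q`.
-/

set_option autoImplicit false
set_option linter.unusedSectionVars false

namespace Cfsg.Agent.Lib.H64CTe

open Subgroup Cfsg.Agent.Lib Cfsg.Agent.Lib.H64CSa Cfsg.Agent.Lib.H64CSb Cfsg.Agent.Lib.H64CTa
open Cfsg.Agent.Lib.H64CTb Cfsg.Agent.Lib.H64CTc Cfsg.Agent.Lib.H64CTd
open Cfsg.Agent.Lib.H64CSe (central_comm conj_pow eq_one_of_coprime Z2)

theorem conj_pow' {X : Type*} [Group X] {v f w : X} (hc : Commute v f) (h : v * w * v⁻¹ = f * w) (k : ℕ) :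
    v ^ k * w * (v ^ k)⁻¹ = f ^ k * w := by
  induction k with
  | zero => simp
  | succ k ih =>
    have h2 : v ^ (k + 1) * w * (v ^ (k + 1))⁻¹ = v * (v ^ k * w * (v ^ k)⁻¹) * v⁻¹ := by
      rw [pow_succ']; group
    rw [h2, ih]
    have h3 : v * (f ^ k * w) * v⁻¹ = f ^ k * (v * w * v⁻¹) := by
      rw [← mul_assoc, (hc.pow_right k).eq]; group
    rw [h3, h, pow_succ]; group

/-- the `SL₂` computation -/
theorem sl2 {X : Type*} [Group X] {a b u w : X} (h1 : a * u * a⁻¹ = w * u) (h2 : Commute a w) (h3 : Commute b u)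
    (h4 : b * w * b⁻¹ = u⁻¹ * w) (h5 : Commute u w) :
    ((a * b * a) * (a * b * a)) * w * ((a * b * a) * (a * b * a))⁻¹ = w⁻¹ ∧
    ((a * b * a) * (a * b * a)) * u * ((a * b * a) * (a * b * a))⁻¹ = u⁻¹ := by
  have e1 : (a * b * a) * w * (a * b * a)⁻¹ = u⁻¹ := by
    have s1 : (a * b * a) * w * (a * b * a)⁻¹ = a * (b * (a * w * a⁻¹) * b⁻¹) * a⁻¹ := by group
    have s2 : a * w * a⁻¹ = w := by rw [h2.eq, mul_inv_cancel_right]
    have s3 : a * (u⁻¹ * w) * a⁻¹ = (a * u * a⁻¹)⁻¹ * (a * w * a⁻¹) := by group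
    rw [s1, s2, h4, s3, h1, s2]
    have s4 : (w * u)⁻¹ = u⁻¹ * w⁻¹ := mul_inv_rev w u
    rw [s4, inv_mul_cancel_right]
  have e2 : (a * b * a) * u * (a * b * a)⁻¹ = w := by
    have s1 : (a * b * a) * u * (a * b * a)⁻¹ = a * (b * (a * u * a⁻¹) * b⁻¹) * a⁻¹ := by group
    have s2 : a * w * a⁻¹ = w := by rw [h2.eq, mul_inv_cancel_right]
    have s3 : b * (w * u) * b⁻¹ = (b * w * b⁻¹) * (b * u * b⁻¹) := by group
    have s4 : b * u * b⁻¹ = u := by rw [h3.eq, mul_inv_cancel_right]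
    have s5 : u⁻¹ * w * u = w := by rw [mul_assoc, h5.symm.eq, inv_mul_cancel_left]
    rw [s1, h1, s3, h4, s4, s5, s2]
  constructor
  · have s1 : ((a * b * a) * (a * b * a)) * w * ((a * b * a) * (a * b * a))⁻¹ =
        (a * b * a) * ((a * b * a) * w * (a * b * a)⁻¹) * (a * b * a)⁻¹ := by group
    rw [s1, e1]
    have s2 : (a * b * a) * u⁻¹ * (a * b * a)⁻¹ = ((a * b * a) * u * (a * b * a)⁻¹)⁻¹ := by group
    rw [s2, e2]
  · have s1 : ((a * b * a) * (a * b * a)) * u * ((a * b * a) * (a * b * a))⁻¹ =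
        (a * b * a) * ((a * b * a) * u * (a * b * a)⁻¹) * (a * b * a)⁻¹ := by group
    rw [s1, e2, e1]

section main

variable {G : Type*} [Group G] [Finite G] {p m q : ℕ}

theorem card_V (h : HH G p m) (hq : q.Prime) (hqp : q ≠ p) {g g' : G} (hg : g ∉ center G)
    (hgp : (orderOf g).Coprime p) (hg' : g' ∉ center G) (hgp' : (orderOf g').Coprime p) :
    Nat.card ((TT q g).map (pz G)) = Nat.card ((TT q g').map (pz G)) := by
  have key : ∀ x : G, x ∉ center G → (orderOf x).Coprime p →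
      Nat.card (TT q x ⊓ center G : Subgroup G) * Nat.card ((TT q x).map (pz G)) = Nat.card (TT q x) := by
    intro x _ _
    have h1 := Subgroup.relIndex_ker (pz G) (K := TT q x)
    rw [QuotientGroup.ker_mk'] at h1
    rw [← h1, ← Subgroup.inf_relIndex_right, inf_comm]
    exact Cores.card_mul_relIndex inf_le_right
  have hz : TT q g ⊓ center G = TT q g' ⊓ center G := by
    ext x
    constructor
    · rintro ⟨h1, h2⟩
      exact ⟨(h.mem_TT hg' hgp' hq hqp).2 ⟨central_comm h2, ((h.mem_TT hg hgp hq hqp).1 h1).2⟩, h2⟩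
    · rintro ⟨h1, h2⟩
      exact ⟨(h.mem_TT hg hgp hq hqp).2 ⟨central_comm h2, ((h.mem_TT hg' hgp' hq hqp).1 h1).2⟩, h2⟩
  have hc : Nat.card (TT q g) = Nat.card (TT q g') := by
    rw [h.card_TT hg hgp hq hqp, h.card_TT hg' hgp' hq hqp]
    have h3 := Subgroup.card_mul_index (C g)
    have h4 := Subgroup.card_mul_index (C g')
    rw [h.ix g hgp hg] at h3
    rw [h.ix g' hgp' hg', ← h3] at h4
    rw [Nat.eq_of_mul_eq_mul_right (Nat.pos_of_ne_zero (m_ne h)) h4]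
  have h1 := key g hg hgp
  have h2 := key g' hg' hgp'
  rw [hz, hc, ← h2] at h1
  exact Nat.eq_of_mul_eq_mul_left Nat.card_pos h1

section U

variable (h : HH G p m) (hq : q.Prime) (hqp : q ≠ p) (hqm : q ∣ m) {g : G} (hg : g ∉ center G)
  (hgp : (orderOf g).Coprime p) {u : G} (hu : u ∈ NN g) (huq : El q u) (huC : u ∉ C g)

include h hq hqp hqm hg hgp hu huq huC

theorem V_comm : ∀ v ∈ (TT q g).map (pz G), ∀ w ∈ (TT q g).map (pz G), Commute v w := by
  rintro _ ⟨a, ha, rfl⟩ _ ⟨b, hb, rfl⟩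
  exact (h.TT_comm hg hgp hq hqp ha (memC.2 ((h.mem_TT hg hgp hq hqp).1 hb).1)).map (pz G)

theorem stepA (hV : ¬ (TT q g).map (pz G) ≤ C (pz G u)) :
    ∃ v ∈ (TT q g).map (pz G), v * pz G u * v⁻¹ * (pz G u)⁻¹ ≠ 1 ∧
      v * pz G u * v⁻¹ * (pz G u)⁻¹ ∈ (TT q g).map (pz G) ∧
      Commute (v * pz G u * v⁻¹ * (pz G u)⁻¹) (pz G u) := by
  have : Fact q.Prime := ⟨hq⟩
  set V := (TT q g).map (pz G) with hVdef
  have hVp : IsPGroup q V := (h.TT_pgroup hg hgp hq hqp).map _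
  have hn : zpowers (pz G u) ≤ normalizer (V : Set (G ⧸ center G)) := by
    rw [Subgroup.zpowers_le]
    exact Subgroup.le_normalizer_map (H := TT q g) (pz G) ⟨u, h.TT_norm hg hgp hq hqp hu, rfl⟩
  have hz : IsPGroup q (zpowers (pz G u)) := by
    rw [← MonoidHom.map_zpowers]
    exact huq.zpowers.map _
  set P := V ⊔ zpowers (pz G u) with hP
  have hPp : IsPGroup q P := LocBase.isPGroup_sup hVp hz hn
  have hPn : P ≤ normalizer (V : Set (G ⧸ center G)) := sup_le Subgroup.le_normalizer hn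
  have hDn : (V.subgroupOf P).Normal := Subgroup.normal_subgroupOf_of_le_normalizer hPn
  have huP : pz G u ∈ P := mem_sup_right (mem_zpowers _)
  have hDZ : ¬ V.subgroupOf P ≤ center P := by
    intro hcon
    apply hV
    intro v hv
    have h1 := hcon (show (⟨v, mem_sup_left hv⟩ : P) ∈ V.subgroupOf P from Subgroup.mem_subgroupOf.2 hv)
    rw [Subgroup.mem_center_iff] at h1
    have h2 := congrArg Subtype.val (h1 ⟨pz G u, huP⟩)
    exact memC.2 (show Commute v (pz G u) from h2.symm)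
  obtain ⟨w, hw, hwc, hwz⟩ := exists_second hPp hDn hDZ
  have hwV : (w : G ⧸ center G) ∈ V := Subgroup.mem_subgroupOf.1 hw
  have hf : (w : G ⧸ center G) * pz G u * (w : G ⧸ center G)⁻¹ * (pz G u)⁻¹ =
      (((⟨pz G u, huP⟩ * w * (⟨pz G u, huP⟩ : P)⁻¹ * w⁻¹)⁻¹ : P) : G ⧸ center G) := by
    show _ = (pz G u * (w : G ⧸ center G) * (pz G u)⁻¹ * (w : G ⧸ center G)⁻¹)⁻¹
    group
  have hfc : (⟨pz G u, huP⟩ * w * (⟨pz G u, huP⟩ : P)⁻¹ * w⁻¹)⁻¹ ∈ center P := inv_mem (hwz ⟨pz G u, huP⟩)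
  refine ⟨w, hwV, ?_, ?_, ?_⟩
  · intro hcon
    apply hwc
    have hwu : Commute (w : G ⧸ center G) (pz G u) := by
      rw [mul_inv_eq_one, mul_inv_eq_iff_eq_mul] at hcon
      exact hcon
    have hle : P ≤ C (w : G ⧸ center G) := by
      refine sup_le (fun v hv => memC.2 ?_) (Subgroup.zpowers_le.2 (memC.2 hwu.symm))
      exact V_comm h hq hqp hqm hg hgp hu huq huC v hv _ hwV
    rw [Subgroup.mem_center_iff]
    intro y
    exact Subtype.ext (memC.1 (hle y.2))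
  · have h1 : pz G u * (w : G ⧸ center G)⁻¹ * (pz G u)⁻¹ ∈ V :=
      LocBase.conj_mem_of_le_normalizer hn (mem_zpowers _) (inv_mem hwV)
    have h2 := mul_mem hwV h1
    have h3 : (w : G ⧸ center G) * pz G u * (w : G ⧸ center G)⁻¹ * (pz G u)⁻¹ =
        (w : G ⧸ center G) * (pz G u * (w : G ⧸ center G)⁻¹ * (pz G u)⁻¹) := by group
    rw [h3]; exact h2
  · rw [hf]
    have h1 := Subgroup.mem_center_iff.1 hfc ⟨pz G u, huP⟩
    exact (congrArg Subtype.val h1 : _).symm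

variable (hmin : ∀ r : ℕ, r.Prime → r ≠ p → r ∣ m → q ≤ r)

include hmin

/-- for `q` odd, `u` centralizes `TT q g` modulo the centre -/
theorem L7 (hq2 : q ≠ 2) : (TT q g).map (pz G) ≤ C (pz G u) := by
  have : Fact q.Prime := ⟨hq⟩
  by_contra hV
  obtain ⟨v, hv, hf1, hfV, hfu⟩ := stepA h hq hqp hqm hg hgp hu huq huC hV
  obtain ⟨a, ha, rfl⟩ := hv
  set w : G := a * u * a⁻¹ * u⁻¹ with hw
  have hπw : pz G a * pz G u * (pz G a)⁻¹ * (pz G u)⁻¹ = pz G w := by
    rw [hw, map_mul, map_mul, map_mul, map_inv, map_inv]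
  rw [hπw] at hf1 hfV hfu
  have hwc : w ∉ center G := fun hcon => hf1 (pz_eq_one.2 hcon)
  have hwT : w ∈ TT q g := by
    have h1 : u * a⁻¹ * u⁻¹ ∈ TT q g :=
      LocBase.conj_mem_of_le_normalizer (h.TT_norm hg hgp hq hqp) hu (inv_mem ha)
    have h2 := mul_mem ha h1
    have h3 : w = a * (u * a⁻¹ * u⁻¹) := by rw [hw]; group
    rw [h3]; exact h2
  have hwel := ((h.mem_TT hg hgp hq hqp).1 hwT).2
  have hwu : w * u * w⁻¹ * u⁻¹ ∈ center G := pz_commute.1 hfu
  have hwN : w ∈ NN u := norm_of_central hwu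
  have hwCu : w ∉ C u := fun hcon =>
    hwc (central_of_comm h hq hqp hqm hg hgp hu huq huC hq hqp hwT (memC.1 hcon))
  have huc : u ∉ center G := fun hcon => huC (memC.2 (central_comm hcon))
  have hup := u_coprime h hq hqp hqm hg hgp hu huq huC
  have huT : u ∈ TT q u := (h.mem_TT huc hup hq hqp).2 ⟨Commute.refl u, huq⟩
  -- swap the roles
  have hV' : ¬ (TT q u).map (pz G) ≤ C (pz G w) := by
    intro hcon
    have h1 := card_FF h hq hqp hqm huc hup hwN hwel hwCu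
    have h2 : FF q u w = (TT q u).map (pz G) := inf_eq_left.2 hcon
    rw [h2, ← card_V h hq hqp hg hgp huc hup] at h1
    have h3 := card_FF h hq hqp hqm hg hgp hu huq huC
    apply hV
    have h4 : FF q g u = (TT q g).map (pz G) :=
      Subgroup.eq_of_le_of_card_ge inf_le_left (by rw [h1, h3])
    rw [← h4]
    exact inf_le_right
  obtain ⟨v', hv', hf1', hfV', hfw'⟩ := stepA h hq hqp hqm huc hup hwN hwel hwCu hV'
  set f' := v' * pz G w * v'⁻¹ * (pz G w)⁻¹ with hf'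
  have hf'F : f' ∈ FF q u w := ⟨hfV', memC.2 hfw'⟩
  have huF : pz G u ∈ FF q u w := ⟨⟨u, huT, rfl⟩, memC.2 hfu.symm⟩
  obtain ⟨k, hk⟩ := FF_gen h hq hqp hqm huc hup hwN hwel hwCu hf'F hf1' (inv_mem huF)
  have hb : v' ^ k * pz G w * (v' ^ k)⁻¹ = (pz G u)⁻¹ * pz G w := by
    rw [hk]
    exact conj_pow' (V_comm h hq hqp hqm huc hup hwN hwel hwCu v' hv' f' hfV') (by rw [hf']; group) k
  have hbu : Commute (v' ^ k) (pz G u) :=
    (V_comm h hq hqp hqm huc hup hwN hwel hwCu v' hv' _ ⟨u, huT, rfl⟩).pow_left k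
  have hau : pz G a * pz G u * (pz G a)⁻¹ = pz G w * pz G u := by rw [← hπw]; group
  have haw : Commute (pz G a) (pz G w) :=
    V_comm h hq hqp hqm hg hgp hu huq huC _ ⟨a, ha, rfl⟩ _ hfV
  obtain ⟨hxw, hxu⟩ := sl2 hau haw hbu hb hfu.symm
  obtain ⟨x, hx⟩ := QuotientGroup.mk'_surjective (center G) ((pz G a * v' ^ k * pz G a) * (pz G a * v' ^ k * pz G a))
  rw [← hx] at hxw hxu
  have hxw' : x * w * x⁻¹ * w ∈ center G := by
    rw [← pz_eq_one, map_mul, map_mul, map_mul, map_inv, hxw, inv_mul_cancel]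
  have hxu' : x * u * x⁻¹ * u ∈ center G := by
    rw [← pz_eq_one, map_mul, map_mul, map_mul, map_inv, hxu, inv_mul_cancel]
  have hCw : C w = C g := h.TT_eqC hg hgp hq hqp hwT hwc
  have hxN : x ∈ NN g := by
    refine mem_norm (a := w) hCw ?_
    have h1 : x * w * x⁻¹ = (x * w * x⁻¹ * w) * w⁻¹ := by group
    rw [h1, C_mul_central hxw', ← hCw]
    ext y
    rw [memC, memC]
    exact ⟨fun h => by simpa using h.inv_right, fun h => h.inv_right⟩
  have hE : pe g ⟨x, hxN⟩ * pe g ⟨u, hu⟩ * (pe g ⟨x, hxN⟩)⁻¹ = (pe g ⟨u, hu⟩)⁻¹ := by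
    rw [← mul_eq_one_iff_eq_inv, ← map_mul, ← map_inv, ← map_mul, ← map_mul, pe_eq_one]
    exact memC.2 (central_comm hxu')
  have hxn : pe g ⟨x, hxN⟩ ∈ normalizer (zpowers (pe g ⟨u, hu⟩) : Set (EE g)) := by
    apply LocBase.mem_normalizer_of_map_conj_le
    rw [MonoidHom.map_zpowers, Subgroup.zpowers_le]
    show pe g ⟨x, hxN⟩ * pe g ⟨u, hu⟩ * (pe g ⟨x, hxN⟩)⁻¹ ∈ _
    rw [hE]
    exact inv_mem (mem_zpowers _)
  rw [normalizer_ubar h hq hqp hqm hmin hg hgp hu huq huC] at hxn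
  obtain ⟨i, hi⟩ := hxn
  have hcm : Commute (pe g ⟨x, hxN⟩) (pe g ⟨u, hu⟩) := by
    rw [← hi]; exact (Commute.refl _).zpow_left i
  rw [hcm.eq, mul_inv_cancel_right] at hE
  have h2 : (pe g ⟨u, hu⟩) ^ 2 = 1 := by
    rw [pow_two]
    nth_rewrite 1 [hE]
    exact inv_mul_cancel _
  have h3 := orderOf_dvd_of_pow_eq_one h2
  rw [orderOf_ubar h hq hqp hqm hg hgp hu huq huC] at h3
  exact hq2 ((Nat.prime_dvd_prime_iff_eq hq Nat.prime_two).1 h3)

/-- for `q = 2`, `u` inverts `TT 2 g` modulo the centre -/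
theorem inverts (hq2 : q = 2) {a : G} (ha : a ∈ TT q g) : a * (u * a * u⁻¹) ∈ center G := by
  have h1 : u * a * u⁻¹ ∈ TT q g := LocBase.conj_mem_of_le_normalizer (h.TT_norm hg hgp hq hqp) hu ha
  have h2 : Commute a (u * a * u⁻¹) := h.TT_comm hg hgp hq hqp ha (memC.2 ((h.mem_TT hg hgp hq hqp).1 h1).1)
  have h3 := u_pow_central h hq hqp hqm hg hgp hu huq huC
  rw [hq2, pow_two] at h3
  refine central_of_comm h hq hqp hqm hg hgp hu huq huC hq hqp (mul_mem ha h1) ?_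
  show a * (u * a * u⁻¹) * u = u * (a * (u * a * u⁻¹))
  have h4 : u * (a * (u * a * u⁻¹)) = (u * a * u⁻¹) * ((u * u) * a * (u * u)⁻¹) * u := by group
  rw [h4, (central_comm h3 : Commute (u * u) a).eq, mul_inv_cancel_right, h2.eq]

/-- `|E| = q` -/
theorem card_E_eq : Nat.card (EE g) = q := by
  have : Fact q.Prime := ⟨hq⟩
  have hpi := pi_of_dvd h hq hqp hqm
  obtain ⟨y0, hy0c, hy0s, hy0g⟩ := h.exists_el hpi hg hgp
  have hy0 : y0 ∈ TT q g := (h.mem_TT hg hgp hq hqp).2 ⟨hy0g, hy0s⟩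
  set Kr := (actE h hg hgp hq hqp).ker with hKr
  set ub := pe g ⟨u, hu⟩ with hub
  have hKrp : IsPGroup q Kr := by
    rw [IsPGroup.iff_card]
    refine ⟨(Nat.card Kr).primeFactorsList.length,
      Nat.eq_prime_pow_of_unique_prime_dvd Nat.card_pos.ne' fun {d} hd hdd => ?_⟩
    by_contra hdq
    have : Fact d.Prime := ⟨hd⟩
    obtain ⟨x, hx⟩ := exists_prime_orderOf_dvd_card' d hdd
    have hxo : orderOf (x : EE g) = d := by rw [Subgroup.orderOf_coe]; exact hx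
    have h1 := L5 h hg hgp hq hqp (x := (x : EE g)) (by rw [hxo]; exact (Nat.coprime_primes hd hq).2 hdq)
      (by rintro h2; rw [h2, orderOf_one] at hxo; exact hd.one_lt.ne hxo) (v := ⟨pz G y0, y0, hy0, rfl⟩)
      (by rw [(MonoidHom.mem_ker.1 x.2 : actE h hg hgp hq hqp (x : EE g) = 1)]; rfl)
    exact hy0c (pz_eq_one.1 (congrArg Subtype.val h1))
  have hcomm : ∀ x : EE g, x * ub * x⁻¹ * ub⁻¹ ∈ Kr := by
    intro x
    by_cases hq2 : q = 2
    · have hinv : ∀ v, actE h hg hgp hq hqp ub v = v⁻¹ := by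
        rintro ⟨_, a, ha, rfl⟩
        apply Subtype.ext
        show pz G u * pz G a * (pz G u)⁻¹ = (pz G a)⁻¹
        have h1 := inverts h hq hqp hqm hg hgp hu huq huC hmin hq2 ha
        rw [← pz_eq_one, map_mul, map_mul, map_mul, map_inv] at h1
        exact (inv_eq_of_mul_eq_one_right h1).symm
      rw [hKr, MonoidHom.mem_ker, map_mul, map_mul, map_mul, map_inv, map_inv, mul_inv_eq_one]
      ext v
      rw [MulAut.mul_apply, MulAut.mul_apply, hinv, hinv]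
      rw [map_inv, ← MulAut.mul_apply, mul_inv_cancel]
      rfl
    · have hle := L7 h hq hqp hqm hg hgp hu huq huC hmin hq2
      have hubK : ub ∈ Kr := by
        rw [hKr, MonoidHom.mem_ker]
        ext v
        obtain ⟨_, a, ha, rfl⟩ := v
        show pz G u * pz G a * (pz G u)⁻¹ = pz G a
        have h1 : Commute (pz G a) (pz G u) := memC.1 (hle ⟨a, ha, rfl⟩)
        rw [h1.symm.eq, mul_inv_cancel_right]
      exact mul_mem ((inferInstance : Kr.Normal).conj_mem _ hubK x) (inv_mem hubK)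
  have hub_p : IsPGroup q (zpowers ub) :=
    IsPGroup.of_card (n := 1) (by rw [Nat.card_zpowers, orderOf_ubar h hq hqp hqm hg hgp hu huq huC, pow_one])
  have hP : IsPGroup q (Kr ⊔ zpowers ub : Subgroup (EE g)) :=
    LocBase.isPGroup_sup hKrp hub_p (by rw [Subgroup.normalizer_eq_top]; exact le_top)
  have hPc := card_le_of_pgroup h hq hqp hqm hg hgp hP
  have hPe : zpowers ub = Kr ⊔ zpowers ub := by
    refine Subgroup.eq_of_le_of_card_ge le_sup_right ?_
    rw [Nat.card_zpowers, orderOf_ubar h hq hqp hqm hg hgp hu huq huC]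
    exact hPc
  have hKz : Kr ≤ zpowers ub := by rw [hPe]; exact le_sup_left
  have htop : normalizer (zpowers ub : Set (EE g)) = ⊤ := by
    rw [eq_top_iff]
    intro x _
    apply LocBase.mem_normalizer_of_map_conj_le
    rw [MonoidHom.map_zpowers, Subgroup.zpowers_le]
    show x * ub * x⁻¹ ∈ _
    have h1 := mul_mem (hKz (hcomm x)) (mem_zpowers ub)
    rwa [inv_mul_cancel_right] at h1
  have h1 := normalizer_ubar h hq hqp hqm hmin hg hgp hu huq huC
  rw [htop] at h1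
  rw [← Subgroup.card_top, h1, Nat.card_zpowers, orderOf_ubar h hq hqp hqm hg hgp hu huq huC]

end U

end main

end Cfsg.Agent.Lib.H64CTe
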