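import Cfsg.Agent.Lib.Burnside
import Cfsg.Agent.Lib.CharBasic2
import Cfsg.Agent.Lib.BlockOsima
import Cfsg.Agent.Lib.H76Char
import Cfsg.Agent.Lib.H23Nilp
import Cfsg.Agent.Lib.Fitting
import Cfsg.Agent.Lib.ClassPow
import Cfsg.Agent.Lib.HallConverse
import Cfsg.Prelude.Def_Blocks

/-!
# Kazarin's theorem on classes of prime power size

If the class of `x` has `p`-power size, then the conjugates of `x` commute modulo `O_p(G)`.
-/

set_option autoImplicit false
set_option linter.all false

namespace Cfsg.Agent.Lib.Kazarin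

open Cfsg Cfsg.Agent.Lib.BlockRing Module
open scoped ComplexConjugate commutatorElement

universe u

/-- If all the conjugates of `x` generate `G` and `x` acts as a scalar, then the degree is one. -/
theorem degree_eq_one_of_scalar {G : Type*} [Group G] [Finite G] {n : ℕ}
    (ρ : Representation ℂ G (Fin n → ℂ)) (hρ : ρ.IsIrreducible) (x : G)
    (hx : Subgroup.normalClosure ({x} : Set G) = ⊤)
    (hs : ∃ ω : ℂ, ρ x = ω • (LinearMap.id : (Fin n → ℂ) →ₗ[ℂ] (Fin n → ℂ))) : n = 1 := by
  classical
  have := Fintype.ofFinite G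
  let Z : Subgroup G :=
    { carrier := {g | ∀ h : G, ρ g * ρ h = ρ h * ρ g}
      mul_mem' := by
        intro a b ha hb h
        rw [map_mul, mul_assoc, hb h, ← mul_assoc, ha h, mul_assoc]
      one_mem' := by intro h; rw [map_one, one_mul, mul_one]
      inv_mem' := by
        intro a ha h
        have h1 : ρ a⁻¹ * (ρ a * ρ h) * ρ a⁻¹ = ρ a⁻¹ * (ρ h * ρ a) * ρ a⁻¹ := by rw [ha h]
        have e1 : ρ a⁻¹ * ρ a = 1 := by rw [← map_mul, inv_mul_cancel, map_one]
        have e2 : ρ a * ρ a⁻¹ = 1 := by rw [← map_mul, mul_inv_cancel, map_one]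
        rw [← mul_assoc, e1, one_mul, mul_assoc (ρ a⁻¹), mul_assoc (ρ h), e2, mul_one] at h1
        exact h1.symm }
  have hZn : Z.Normal := by
    refine ⟨fun a ha g h => ?_⟩
    have e1 : ρ g * ρ g⁻¹ = 1 := by rw [← map_mul, mul_inv_cancel, map_one]
    have h1 := ha g
    have h2 : ρ (g * a * g⁻¹) = ρ a := by
      rw [map_mul, map_mul, ← h1, mul_assoc, e1, mul_one]
    rw [h2]; exact ha h
  have hxZ : x ∈ Z := by
    obtain ⟨ω, hω⟩ := hs
    intro h
    rw [hω]
    ext v
    simp
  have hZ : Z = ⊤ := by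
    rw [eq_top_iff, ← hx]
    exact Subgroup.normalClosure_le_normal (Set.singleton_subset_iff.2 hxZ)
  have hall : ∀ g : G, ‖ρ.character g‖ = (finrank ℂ (Fin n → ℂ) : ℝ) := by
    intro g
    rw [CharValues.norm_character_eq_iff]
    have hg : g ∈ Z := by rw [hZ]; trivial
    obtain ⟨c, hc⟩ := CharCentral.exists_scalar_of_commute ρ (ρ g) (fun h v => by
      have := congrArg (fun f : Module.End ℂ (Fin n → ℂ) => f v) (hg h)
      simpa using this)
    exact ⟨c, hc⟩
  have h1 := CharCentral.sum_character_mul_conj ρ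
  have h2 : ∀ g : G, ρ.character g * conj (ρ.character g) = ((finrank ℂ (Fin n → ℂ) : ℝ) : ℂ) ^ 2 := by
    intro g
    rw [Complex.mul_conj, Complex.normSq_eq_norm_sq, hall g]
    push_cast
    rfl
  simp only [h2, Finset.sum_const, Finset.card_univ, nsmul_eq_mul] at h1
  rw [Nat.card_eq_fintype_card] at h1
  have h3 : (Fintype.card G : ℂ) ≠ 0 := by exact_mod_cast Fintype.card_ne_zero
  have h4 : ((finrank ℂ (Fin n → ℂ) : ℝ) : ℂ) ^ 2 = 1 :=
    mul_left_cancel₀ h3 (by rw [h1, mul_one])
  rw [Module.finrank_fin_fun] at h4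
  have h5 : (n : ℂ) ^ 2 = 1 := by exact_mod_cast h4
  have h6 : n ^ 2 = 1 := by exact_mod_cast h5
  nlinarith [h6]

/-- The character-theoretic core of Kazarin's theorem. -/
theorem core {G : Type u} [Group G] [Finite G] {p : ℕ} (hp : p.Prime) (x : G)
    (hgen : Subgroup.normalClosure ({x} : Set G) = ⊤) {a : ℕ}
    (hx : (Subgroup.centralizer ({x} : Set G)).index = p ^ a)
    (hind : ¬ p ∣ (commutator G).index) {r : ℕ} (hr : r.Prime) (hrp : r ≠ p) {y : G}
    (hy : y ∈ commutator G) (hry : r ∣ orderOf y) : False := by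
  classical
  have := Fintype.ofFinite G
  have hrF : Fact r.Prime := ⟨hr⟩
  obtain ⟨M, hM⟩ := H76Char.exists_isPModular r
  have hMp := isPrime hM
  set B := principalBlock M G with hBdef
  have hone : (⟨fun _ => 1, CharBasic.isIrrCharacter_fun_one⟩ : IrrCharacter G) ∈ B := by
    intro g
    show MemLocalIdeal M (centralChar (fun _ => (1:ℂ)) g - centralChar (fun _ => (1:ℂ)) g)
    rw [sub_self]; exact idl_zero
  have hB : IsPBlock M B := ⟨⟨fun _ => 1, CharBasic.isIrrCharacter_fun_one⟩, rfl⟩
  -- degrees in `B`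
  have hdeg : ∀ χ ∈ B, (χ : G → ℂ) 1 ≠ 1 → ∃ z : ℂ, IsIntegral ℤ z ∧
      (χ : G → ℂ) 1 * conj ((χ : G → ℂ) y) = p * z := by
    intro χ hχ hne
    have h1 := hχ x
    have h2 : centralChar (fun _ => (1:ℂ)) x = ((p ^ a : ℕ) : ℂ) := by
      rw [centralChar, hx]; simp
    rw [h2] at h1
    have h3 : ¬ MemLocalIdeal M ((p ^ a : ℕ) : ℂ) := by
      rw [idl_natCast_iff hM]
      intro h4
      exact hrp ((Nat.prime_dvd_prime_iff_eq hr hp).1 (hr.dvd_of_dvd_pow h4))
    have h4 : ¬ MemLocalIdeal M (centralChar (χ : G → ℂ) x) := by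
      rw [← idl_congr h1]; exact h3
    have h5 : (χ : G → ℂ) x ≠ 0 := by
      intro h6
      apply h4
      rw [centralChar, h6, mul_zero, zero_div]
      exact idl_zero
    obtain ⟨n, ρ, hρ, hρχ⟩ := χ.2
    rw [← hρχ] at h5 hne ⊢
    by_cases hd : p ∣ n
    · obtain ⟨m, rfl⟩ := hd
      refine ⟨(m : ℂ) * conj (ρ.character y), ?_, ?_⟩
      · refine IsIntegral.mul ?_ ?_
        · have := isIntegral_algebraMap (R := ℤ) (A := ℂ) (x := (m : ℤ))
          simpa using this
        · exact (CharValues.isIntegral_character ρ y).map (Complex.conjAe.toAlgHom.restrictScalars ℤ)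
      · rw [Representation.char_one]
        simp only [Module.finrank_fin_fun]
        push_cast
        ring
    · exfalso
      have hcop : Nat.Coprime (finrank ℂ (Fin n → ℂ)) (Subgroup.centralizer ({x} : Set G)).index := by
        rw [hx, Module.finrank_fin_fun]
        exact Nat.Coprime.pow_right a ((Nat.Prime.coprime_iff_not_dvd hp).mpr hd).symm
      have h6 := (CharCentral.zero_or_norm_eq_of_coprime ρ x hcop).resolve_left h5
      have h7 := degree_eq_one_of_scalar ρ hρ x hgen ((CharValues.norm_character_eq_iff ρ x).mp h6)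
      apply hne
      rw [Representation.char_one, Module.finrank_fin_fun, h7, Nat.cast_one]
  -- the linear characters in the block
  have hws := BlockOsima.weak_orthogonality (G := G) hM hB (x := 1) (y := y) (by
    rw [orderOf_one]; exact fun h => hr.one_lt.not_ge (Nat.le_of_dvd one_pos h)) hry
  rw [finsum_mem_eq_finite_toFinset_sum _ (Set.toFinite _)] at hws
  set s := (Set.toFinite B).toFinset with hs
  rw [← Finset.sum_filter_add_sum_filter_not s (fun χ => (χ : G → ℂ) 1 = 1)] at hws
  have hl : ∑ χ ∈ s.filter (fun χ : IrrCharacter G => (χ : G → ℂ) 1 = 1), (χ : G → ℂ) 1 * conj ((χ : G → ℂ) y) =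
      ((s.filter (fun χ : IrrCharacter G => (χ : G → ℂ) 1 = 1)).card : ℂ) := by
    rw [Finset.card_eq_sum_ones, Nat.cast_sum]
    refine Finset.sum_congr rfl fun χ hχ => ?_
    have h1 := (Finset.mem_filter.1 hχ).2
    rw [h1, χ.2.isCharacter.eq_one_on_commutator h1 hy]
    simp
  have hnl : ∃ z : ℂ, IsIntegral ℤ z ∧
      ∑ χ ∈ s.filter (fun χ : IrrCharacter G => ¬ (χ : G → ℂ) 1 = 1), (χ : G → ℂ) 1 * conj ((χ : G → ℂ) y) = p * z := by
    have h1 : ∀ χ ∈ s.filter (fun χ : IrrCharacter G => ¬ (χ : G → ℂ) 1 = 1), ∃ z : ℂ, IsIntegral ℤ z ∧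
      (χ : G → ℂ) 1 * conj ((χ : G → ℂ) y) = p * z := by
      intro χ hχ
      have h2 := Finset.mem_filter.1 hχ
      exact hdeg χ (by simpa [hs] using h2.1) h2.2
    choose! z hz1 hz2 using h1
    refine ⟨_, IsIntegral.sum _ hz1, ?_⟩
    rw [Finset.mul_sum]
    exact Finset.sum_congr rfl hz2
  obtain ⟨z, hz1, hz2⟩ := hnl
  rw [hl, hz2] at hws
  set m := (s.filter (fun χ : IrrCharacter G => (χ : G → ℂ) 1 = 1)).card with hm
  have hpm : p ∣ m := by
    have hp0 : (p : ℂ) ≠ 0 := by exact_mod_cast hp.ne_zero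
    apply CharCentral.nat_dvd_of_isIntegral_div hp.ne_zero
    have : (m : ℂ) / (p : ℂ) = -z := by
      rw [div_eq_iff hp0]; linear_combination hws
    rw [this]
    exact hz1.neg
  -- they form a group
  let L : Subgroup (G →* ℂˣ) :=
    { carrier := {f | ∀ g : G, MemLocalIdeal M
        (((Subgroup.centralizer ({g} : Set G)).index : ℂ) * (1 - (f g : ℂ)))}
      mul_mem' := by
        intro f f' hf hf' g
        have h1 : ((Subgroup.centralizer ({g} : Set G)).index : ℂ) * (1 - ((f * f') g : ℂ)) =
            ((Subgroup.centralizer ({g} : Set G)).index : ℂ) * (1 - (f g : ℂ)) +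
            (f g : ℂ) * (((Subgroup.centralizer ({g} : Set G)).index : ℂ) * (1 - (f' g : ℂ))) := by
          rw [MonoidHom.mul_apply, Units.val_mul]; ring
        rw [h1]
        refine idl_add (hf g) (idl_mul_left ?_ (hf' g))
        apply loc_of_isIntegral
        have h2 : ((f g : ℂˣ) : ℂ) ^ orderOf g = 1 := by
          rw [← Units.val_pow_eq_pow_val, ← map_pow, pow_orderOf_eq_one, map_one, Units.val_one]
        exact IsIntegral.of_pow (orderOf_pos g) (by rw [h2]; exact isIntegral_one)
      one_mem' := by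
        intro g
        simpa using idl_zero (M := M)
      inv_mem' := by
        intro f hf g
        have h1 : ((Subgroup.centralizer ({g} : Set G)).index : ℂ) * (1 - ((f⁻¹) g : ℂ)) =
            (-((f g)⁻¹ : ℂˣ) : ℂ) * (((Subgroup.centralizer ({g} : Set G)).index : ℂ) * (1 - (f g : ℂ))) := by
          have h0 : ((f g)⁻¹ : ℂˣ) * (f g : ℂ) = (1 : ℂ) := by simp
          rw [MonoidHom.inv_apply]
          linear_combination (-((Subgroup.centralizer ({g} : Set G)).index : ℂ)) * h0
        rw [h1]
        refine idl_mul_left (loc_neg (loc_of_isIntegral ?_)) (hf g)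
        have h2 : (((f g)⁻¹ : ℂˣ) : ℂ) ^ orderOf g = 1 := by
          rw [← Units.val_pow_eq_pow_val, inv_pow, ← map_pow, pow_orderOf_eq_one, map_one]
          simp
        exact IsIntegral.of_pow (orderOf_pos g) (by rw [h2]; exact isIntegral_one) }
  have hmL : m = Nat.card L := by
    rw [hm]
    have h1 : (s.filter (fun χ : IrrCharacter G => (χ : G → ℂ) 1 = 1)).card =
        Nat.card {χ : IrrCharacter G // χ ∈ B ∧ (χ : G → ℂ) 1 = 1} := by
      rw [Nat.card_eq_fintype_card, Fintype.card_subtype]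
      congr 1
      ext χ
      simp [hs]
    rw [h1]
    refine Nat.card_congr ?_
    symm
    refine
      { toFun := fun f => ⟨(CharBasic.linEquiv G f.1).1, ?_, (CharBasic.linEquiv G f.1).2⟩
        invFun := fun χ => ⟨(CharBasic.linEquiv G).symm ⟨χ.1, χ.2.2⟩, ?_⟩
        left_inv := ?_
        right_inv := ?_ }
    · intro g
      have h2 := f.2 g
      show MemLocalIdeal M (centralChar (fun _ => (1:ℂ)) g - centralChar _ g)
      rw [centralChar, centralChar, CharBasic.linEquiv_apply, CharBasic.linEquiv_apply]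
      convert h2 using 1
      rw [map_one, Units.val_one]; ring
    · intro g
      have h2 := χ.2.1 g
      set f := (CharBasic.linEquiv G).symm ⟨χ.1, χ.2.2⟩ with hf
      have h3 : CharBasic.linEquiv G f = ⟨χ.1, χ.2.2⟩ := by rw [hf, Equiv.apply_symm_apply]
      have h4 : ∀ g, (χ.1 : G → ℂ) g = (f g : ℂ) := by
        intro g
        rw [← CharBasic.linEquiv_apply, h3]
      have h5 : MemLocalIdeal M (centralChar (fun _ => (1:ℂ)) g - centralChar (χ.1 : G → ℂ) g) := h2
      rw [centralChar, centralChar, h4, h4] at h5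
      convert h5 using 1
      rw [map_one, Units.val_one]; ring
    · intro f
      apply Subtype.ext
      simp
    · intro χ
      apply Subtype.ext
      simp
  have h1 : m ∣ (commutator G).index := by
    rw [hmL, ← CharBasic.card_hom_units]
    exact Subgroup.card_subgroup_dvd_card L
  exact hind (hpm.trans h1)

/-! ### group theory -/

open Subgroup Cfsg.Agent.Lib.ClassPow

theorem mem_pCore_of_isPElement {G : Type*} [Group G] [Finite G] {p : ℕ} [hp : Fact p.Prime] (u : G)
    {k : ℕ} (hu : orderOf u = p ^ k) {a : ℕ} (hx : (Subgroup.centralizer ({u} : Set G)).index = p ^ a) :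
    u ∈ pCore p G := by
  have hpg : IsPGroup p (zpowers u) := by
    apply IsPGroup.of_card (n := k)
    rw [Nat.card_zpowers, hu]
  obtain ⟨P, hP⟩ := hpg.exists_le_sylow
  have hcop : (P : Subgroup G).index.Coprime (Subgroup.centralizer ({u} : Set G)).index := by
    rw [hx]
    apply Nat.Coprime.pow_right
    rw [Nat.coprime_comm, Nat.Prime.coprime_iff_not_dvd hp.out]
    exact P.not_dvd_index
  have huP : u ∈ (P : Subgroup G) := hP (mem_zpowers u)
  have hle : Subgroup.normalClosure ({u} : Set G) ≤ P := by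
    rw [Subgroup.normalClosure, Subgroup.closure_le]
    intro y hy
    rw [Group.mem_conjugatesOfSet_iff] at hy
    obtain ⟨a, ha, hay⟩ := hy
    rw [Set.mem_singleton_iff] at ha
    subst ha
    obtain ⟨g, rfl⟩ := isConj_iff.1 hay
    obtain ⟨b, hb, c, hc, rfl⟩ := HallConverse.exists_mul_of_coprime_index hcop g
    rw [Subgroup.mem_centralizer_singleton_iff] at hc
    have : b * c * a * (b * c)⁻¹ = b * a * b⁻¹ := by
      calc b * c * a * (b * c)⁻¹ = b * (c * a) * c⁻¹ * b⁻¹ := by group
        _ = b * a * b⁻¹ := by rw [hc]; group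
    rw [this]
    exact mul_mem (mul_mem hb huP) (inv_mem hb)
  exact Fitting.le_pCore p normalClosure_normal (P.isPGroup'.to_le hle)
    (subset_normalClosure (Set.mem_singleton u))

theorem not_dvd_index_commutator {G : Type*} [Group G] [Finite G] {p : ℕ} (x : G)
    (hgen : Subgroup.normalClosure ({x} : Set G) = ⊤) (hx : ¬ p ∣ orderOf x) :
    ¬ p ∣ (commutator G).index := by
  intro h
  apply hx
  refine h.trans ?_
  have h1 : (commutator G).index = Nat.card (zpowers (QuotientGroup.mk x : G ⧸ commutator G)) := by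
    have h2 : zpowers (QuotientGroup.mk x : G ⧸ commutator G) = ⊤ := by
      have hK : ((zpowers (QuotientGroup.mk x : G ⧸ commutator G)).comap
          (QuotientGroup.mk' (commutator G))) = ⊤ := by
        have hn : ((zpowers (QuotientGroup.mk x : G ⧸ commutator G)).comap
          (QuotientGroup.mk' (commutator G))).Normal := by
          have : (zpowers (QuotientGroup.mk x : G ⧸ commutator G)).Normal := by
            refine ⟨fun a ha g => ?_⟩
            have hc : g * a = a * g := mul_comm (G := Abelianization G) g a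
            rw [hc, mul_inv_cancel_right]
            exact ha
          infer_instance
        rw [eq_top_iff, ← hgen]
        apply Subgroup.normalClosure_le_normal
        rw [Set.singleton_subset_iff]
        exact mem_zpowers _
      rw [eq_top_iff]
      intro y _
      obtain ⟨z, rfl⟩ := QuotientGroup.mk_surjective y
      have : z ∈ ((zpowers (QuotientGroup.mk x : G ⧸ commutator G)).comap
          (QuotientGroup.mk' (commutator G))) := by rw [hK]; trivial
      exact this
    rw [h2, Nat.card_congr Subgroup.topEquiv.toEquiv]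
    rfl
  rw [h1, Nat.card_zpowers]
  exact orderOf_map_dvd (QuotientGroup.mk' (commutator G)) x

theorem commutator_le_pCore_of_generates {G : Type u} [Group G] [Finite G] {p : ℕ} [hp : Fact p.Prime]
    (x : G) (hgen : Subgroup.normalClosure ({x} : Set G) = ⊤) (hx : ¬ p ∣ orderOf x) {a : ℕ}
    (hxa : (Subgroup.centralizer ({x} : Set G)).index = p ^ a) : commutator G ≤ pCore p G := by
  apply Fitting.le_pCore p inferInstance
  have h1 : ∀ r : ℕ, r.Prime → r ∣ Nat.card (commutator G) → r = p := by
    intro r hr hrd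
    by_contra hne
    have : Fact r.Prime := ⟨hr⟩
    obtain ⟨y, hy⟩ := exists_prime_orderOf_dvd_card' r hrd
    exact core hp.out x hgen hxa (not_dvd_index_commutator x hgen hx) hr hne y.2
      (by rw [Subgroup.orderOf_coe, hy])
  apply IsPGroup.of_card (n := (Nat.card (commutator G)).primeFactorsList.length)
  exact Nat.eq_prime_pow_of_unique_prime_dvd Nat.card_pos.ne' (fun {d} hd hdd => h1 d hd hdd)

theorem commutator_le_pCore (n : ℕ) : ∀ (G : Type u) [Group G] [Finite G], Nat.card G = n →
    ∀ (p : ℕ) [Fact p.Prime] (x : G), ¬ p ∣ orderOf x →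
    (∃ a : ℕ, (Subgroup.centralizer ({x} : Set G)).index = p ^ a) →
    ⁅Subgroup.normalClosure ({x} : Set G), Subgroup.normalClosure ({x} : Set G)⁆ ≤ pCore p G := by
  induction n using Nat.strong_induction_on with
  | _ n ih =>
  intro G _ _ hn p hp x hxp hxa
  set N := Subgroup.normalClosure ({x} : Set G) with hN
  have hNn : N.Normal := normalClosure_normal
  by_cases htop : N = ⊤
  · obtain ⟨a, ha⟩ := hxa
    rw [htop]
    exact commutator_le_pCore_of_generates x htop hxp ha
  have hlt : Nat.card N < n := by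
    rw [← hn]
    apply lt_of_le_of_ne (Subgroup.card_le_card_group N)
    intro h
    exact htop ((Subgroup.card_eq_iff_eq_top N).1 h)
  have hxN : ∀ g : G, g * x * g⁻¹ ∈ N := fun g =>
    hNn.conj_mem x (subset_normalClosure (Set.mem_singleton x)) g
  let R : Subgroup N := pCore p N
  have hR : R.Normal := Fitting.normal_pCore p
  -- generation
  have hgenN : ∀ K : Subgroup N, (∀ g : G, (⟨g * x * g⁻¹, hxN g⟩ : N) ∈ K) → K = ⊤ := by
    intro K hK
    rw [eq_top_iff]
    rintro ⟨y, hy⟩ -
    have h1 : Subgroup.normalClosure ({x} : Set G) ≤ K.map N.subtype := by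
      rw [Subgroup.normalClosure, Subgroup.closure_le]
      intro z hz
      rw [Group.mem_conjugatesOfSet_iff] at hz
      obtain ⟨b, hb, hbz⟩ := hz
      rw [Set.mem_singleton_iff] at hb
      subst hb
      obtain ⟨g, rfl⟩ := isConj_iff.1 hbz
      exact ⟨_, hK g, rfl⟩
    obtain ⟨⟨z, hz⟩, hzK, hzy⟩ := h1 hy
    have : z = y := hzy
    subst this
    exact hzK
  have hord : ∀ g : G, ¬ p ∣ orderOf (⟨g * x * g⁻¹, hxN g⟩ : N) := by
    intro g
    rw [Subgroup.orderOf_mk]
    have : orderOf (g * x * g⁻¹) = orderOf x := by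
      rw [← MulAut.conj_apply]
      exact orderOf_injective (MulAut.conj g).toMonoidHom (MulAut.conj g).injective x
    rw [this]; exact hxp
  have hidx : ∀ g : G, ∃ a : ℕ, (Subgroup.centralizer ({(⟨g * x * g⁻¹, hxN g⟩ : N)} : Set N)).index = p ^ a := by
    intro g
    obtain ⟨a, ha⟩ := hxa
    have h1 : (Subgroup.centralizer ({(⟨g * x * g⁻¹, hxN g⟩ : N)} : Set N)).index ∣ p ^ a := by
      rw [index_centralizer_subgroup, ← ha, ← index_centralizer_conj x g]
      exact relIndex_dvd_index _ _
    obtain ⟨b, -, hb⟩ := (Nat.dvd_prime_pow hp.out).1 h1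
    exact ⟨b, hb⟩
  -- the quotient is nilpotent
  have hF : ∀ g : G, (QuotientGroup.mk (⟨g * x * g⁻¹, hxN g⟩ : N) : N ⧸ R) ∈ fittingSubgroup (N ⧸ R) := by
    intro g
    have h1 := ih (Nat.card N) hlt N rfl p (⟨g * x * g⁻¹, hxN g⟩ : N) (hord g) (hidx g)
    set M := Subgroup.normalClosure ({(⟨g * x * g⁻¹, hxN g⟩ : N)} : Set N) with hM
    have hMn : M.Normal := normalClosure_normal
    have h2 : ⁅M.map (QuotientGroup.mk' R), M.map (QuotientGroup.mk' R)⁆ = ⊥ := by
      rw [← Subgroup.map_commutator, Subgroup.map_eq_bot_iff, QuotientGroup.ker_mk']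
      exact h1
    have h3 : (M.map (QuotientGroup.mk' R)).Normal := hMn.map _ (QuotientGroup.mk'_surjective R)
    have h4 : Group.IsNilpotent (M.map (QuotientGroup.mk' R)) := by
      rw [Subgroup.commutator_eq_bot_iff_le_centralizer] at h2
      let _ : CommGroup (M.map (QuotientGroup.mk' R)) :=
        { (inferInstance : Group (M.map (QuotientGroup.mk' R))) with
          mul_comm := fun a b => Subtype.ext (h2 b.2 a a.2) }
      infer_instance
    exact Fitting.le_fittingSubgroup h3 h4 ⟨_, subset_normalClosure (Set.mem_singleton _), rfl⟩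
  have hFtop : fittingSubgroup (N ⧸ R) = ⊤ := by
    have h1 := hgenN ((fittingSubgroup (N ⧸ R)).comap (QuotientGroup.mk' R)) hF
    rw [eq_top_iff]
    intro y _
    obtain ⟨z, rfl⟩ := QuotientGroup.mk_surjective y
    have : z ∈ ((fittingSubgroup (N ⧸ R)).comap (QuotientGroup.mk' R)) := by rw [h1]; trivial
    exact this
  have hnil : Group.IsNilpotent (N ⧸ R) := by
    have h1 : Group.IsNilpotent (fittingSubgroup (N ⧸ R)) := Fitting.isNilpotent_fittingSubgroup
    rw [hFtop] at h1
    exact Group.nilpotent_of_surjective (Subgroup.topEquiv (G := N ⧸ R)).toMonoidHom (MulEquiv.surjective _)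
  -- the conjugates are central
  have hZ : ∀ g : G, (QuotientGroup.mk (⟨g * x * g⁻¹, hxN g⟩ : N) : N ⧸ R) ∈ Subgroup.center (N ⧸ R) := by
    intro g
    set w := (QuotientGroup.mk (⟨g * x * g⁻¹, hxN g⟩ : N) : N ⧸ R) with hw
    have hwo : ¬ p ∣ orderOf w := fun h => hord g (h.trans (orderOf_map_dvd (QuotientGroup.mk' R) _))
    obtain ⟨a, ha⟩ := hidx g
    have h1 : (Subgroup.centralizer ({w} : Set (N ⧸ R))).index ∣ p ^ a := by
      rw [← ha]
      exact index_centralizer_quotient_dvd R _
    obtain ⟨b, -, hb⟩ := (Nat.dvd_prime_pow hp.out).1 h1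
    obtain ⟨P⟩ : Nonempty (Sylow p (N ⧸ R)) := inferInstance
    have hPle : (P : Subgroup (N ⧸ R)) ≤ Subgroup.centralizer ({w} : Set (N ⧸ R)) := by
      intro y hy
      rw [Subgroup.mem_centralizer_singleton_iff]
      apply H23Nilp.commute_of_coprime_orderOf
      obtain ⟨k, hk⟩ := (IsPGroup.iff_orderOf.1 P.isPGroup') ⟨y, hy⟩
      rw [Subgroup.orderOf_mk] at hk
      rw [hk]
      apply Nat.Coprime.pow_left
      rw [Nat.Prime.coprime_iff_not_dvd hp.out]
      exact hwo
    have h2 : ¬ p ∣ (Subgroup.centralizer ({w} : Set (N ⧸ R))).index := fun h =>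
      P.not_dvd_index (h.trans (Subgroup.index_dvd_of_le hPle))
    have h3 : (Subgroup.centralizer ({w} : Set (N ⧸ R))).index = 1 := by
      rcases Nat.eq_zero_or_pos b with h | h
      · rw [hb, h, pow_zero]
      · exact absurd (by rw [hb]; exact dvd_pow_self p h.ne') h2
    rw [Subgroup.index_eq_one] at h3
    rw [Subgroup.mem_center_iff]
    intro y
    have : y ∈ Subgroup.centralizer ({w} : Set (N ⧸ R)) := by rw [h3]; trivial
    exact Subgroup.mem_centralizer_singleton_iff.1 this
  have hZtop : Subgroup.center (N ⧸ R) = ⊤ := by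
    have h1 := hgenN ((Subgroup.center (N ⧸ R)).comap (QuotientGroup.mk' R)) hZ
    rw [eq_top_iff]
    intro y _
    obtain ⟨z, rfl⟩ := QuotientGroup.mk_surjective y
    have : z ∈ ((Subgroup.center (N ⧸ R)).comap (QuotientGroup.mk' R)) := by rw [h1]; trivial
    exact this
  rw [Subgroup.commutator_le]
  intro g hg h hh
  have h1 : (⁅(⟨g, hg⟩ : N), (⟨h, hh⟩ : N)⁆ : N) ∈ R := by
    rw [← QuotientGroup.eq_one_iff]
    have h2 : (QuotientGroup.mk (⟨g, hg⟩ : N) : N ⧸ R) ∈ Subgroup.center (N ⧸ R) := by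
      rw [hZtop]; trivial
    rw [Subgroup.mem_center_iff] at h2
    show (QuotientGroup.mk' R) ⁅(⟨g, hg⟩ : N), (⟨h, hh⟩ : N)⁆ = 1
    rw [map_commutatorElement, commutatorElement_eq_one_iff_mul_comm]
    exact (h2 _).symm
  exact Fitting.pCore_map_subtype_le p ⟨_, h1, rfl⟩

/-- Kazarin: if the class of `x` has `p`-power size then the conjugates of `x` commute modulo `O_p(G)`. -/
theorem conj_commute_mod {G : Type u} [Group G] [Finite G] (p : ℕ) [hp : Fact p.Prime] (x : G)
    (hx : ∃ a : ℕ, (Subgroup.centralizer ({x} : Set G)).index = p ^ a) (g h : G) :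
    (g * x * g⁻¹) * (h * x * h⁻¹) * (g * x * g⁻¹)⁻¹ * (h * x * h⁻¹)⁻¹ ∈ pCore p G := by
  obtain ⟨u, s, hus, hcomm, hu, hs, huz, hsz⟩ := BlockOsima.exists_p_decomp hp.out (orderOf_pos x).ne'
  have hle : ∀ t ∈ zpowers x, Subgroup.centralizer ({x} : Set G) ≤ Subgroup.centralizer ({t} : Set G) := by
    intro t ht y hy
    rw [Subgroup.mem_centralizer_singleton_iff] at hy ⊢
    obtain ⟨k, rfl⟩ := ht
    exact (Commute.zpow_right (show Commute y x from hy) k).eq
  have hpow : ∀ t ∈ zpowers x, ∃ b : ℕ, (Subgroup.centralizer ({t} : Set G)).index = p ^ b := by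
    intro t ht
    obtain ⟨a, ha⟩ := hx
    obtain ⟨b, -, hb⟩ := (Nat.dvd_prime_pow hp.out).1 (ha ▸ Subgroup.index_dvd_of_le (hle t ht))
    exact ⟨b, hb⟩
  obtain ⟨b, hb⟩ := hpow u huz
  have huO := mem_pCore_of_isPElement u hu hb
  have hsO := commutator_le_pCore (Nat.card G) G rfl p s hs (hpow s hsz)
  have hO : (pCore p G).Normal := Fitting.normal_pCore p
  have hsc : ∀ g : G, g * s * g⁻¹ ∈ Subgroup.normalClosure ({s} : Set G) := fun g =>
    normalClosure_normal.conj_mem s (subset_normalClosure (Set.mem_singleton s)) g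
  have h1 := hsO (Subgroup.commutator_mem_commutator (hsc g) (hsc h))
  have h2 : ∀ g : G, (QuotientGroup.mk (g * x * g⁻¹) : G ⧸ pCore p G) = QuotientGroup.mk (g * s * g⁻¹) := by
    intro g
    have h3 : (QuotientGroup.mk u : G ⧸ pCore p G) = 1 := (QuotientGroup.eq_one_iff u).2 huO
    rw [← hus]
    simp only [QuotientGroup.mk_mul, h3, one_mul]
  rw [← QuotientGroup.eq_one_iff]
  rw [← QuotientGroup.eq_one_iff, commutatorElement_def] at h1
  rw [← h1]
  simp only [QuotientGroup.mk_mul (pCore p G) _ _, QuotientGroup.mk_inv] at h2 ⊢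
  rw [h2 g, h2 h]

theorem isSolvable_normalClosure {G : Type u} [Group G] [Finite G] (p : ℕ) [hp : Fact p.Prime] (x : G)
    (hx : ∃ a : ℕ, (Subgroup.centralizer ({x} : Set G)).index = p ^ a) :
    Group.IsSolvable (Subgroup.normalClosure ({x} : Set G)) := by
  have hO : (pCore p G).Normal := Fitting.normal_pCore p
  set N := Subgroup.normalClosure ({x} : Set G) with hN
  set f : N →* G ⧸ pCore p G := (QuotientGroup.mk' (pCore p G)).comp N.subtype with hf
  have h0 : Group.IsSolvable f.ker := by
    have h1 : IsPGroup p f.ker := by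
      intro y
      have h2 : ((y : N) : G) ∈ pCore p G := by
        rw [← QuotientGroup.eq_one_iff]
        exact y.2
      obtain ⟨k, hk⟩ := Fitting.isPGroup_pCore p (G := G) ⟨_, h2⟩
      refine ⟨k, ?_⟩
      apply Subtype.ext
      apply Subtype.ext
      have := congrArg Subtype.val hk
      simpa using this
    have := h1.isNilpotent
    infer_instance
  have h1 : Group.IsSolvable f.range := by
    have h2 : f.range = Subgroup.closure ((QuotientGroup.mk' (pCore p G)) '' Group.conjugatesOfSet {x}) := by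
      rw [hf, MonoidHom.range_comp, Subgroup.range_subtype, hN, Subgroup.normalClosure, MonoidHom.map_closure]
    have h3 : ∀ a ∈ ((QuotientGroup.mk' (pCore p G)) '' Group.conjugatesOfSet {x}),
        ∀ b ∈ ((QuotientGroup.mk' (pCore p G)) '' Group.conjugatesOfSet {x}), a * b = b * a := by
      rintro _ ⟨a, ha, rfl⟩ _ ⟨b, hb, rfl⟩
      rw [Group.mem_conjugatesOfSet_iff] at ha hb
      obtain ⟨a', ha', hac⟩ := ha
      obtain ⟨b', hb', hbc⟩ := hb
      rw [Set.mem_singleton_iff] at ha' hb'
      subst ha'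
      subst hb'
      obtain ⟨g, rfl⟩ := isConj_iff.1 hac
      obtain ⟨h, rfl⟩ := isConj_iff.1 hbc
      have h4 := conj_commute_mod p b' hx g h
      rw [← QuotientGroup.eq_one_iff] at h4
      rw [← commutatorElement_eq_one_iff_mul_comm, ← map_commutatorElement]
      exact h4
    have h5 : ∀ a ∈ f.range, ∀ b ∈ f.range, a * b = b * a := by
      rw [h2]
      intro a ha b hb
      have := Subgroup.isMulCommutative_closure h3
      have h6 := mul_comm' (⟨a, ha⟩ : Subgroup.closure ((QuotientGroup.mk' (pCore p G)) '' Group.conjugatesOfSet {x})) ⟨b, hb⟩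
      exact congrArg Subtype.val h6
    let _ : CommGroup f.range :=
      { (inferInstance : Group f.range) with
        mul_comm := fun a b => Subtype.ext (h5 a a.2 b b.2) }
    infer_instance
  exact Group.isSolvable_of_ker_le_range f.ker.subtype f.rangeRestrict (by
    rw [Subgroup.range_subtype, MonoidHom.ker_rangeRestrict])

end Cfsg.Agent.Lib.Kazarin
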