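import Mathlib
import Cfsg.Agent.Lib.H64CTe
import Cfsg.Agent.Lib.Kazarin

/-!
(helper64) Two `p`-regular class sizes: the final contradiction via Kazarin's theorem.
-/

set_option autoImplicit false
set_option linter.unusedSectionVars false

namespace Cfsg.Agent.Lib.H64CTf

open Subgroup Cfsg.Agent.Lib Cfsg.Agent.Lib.H64CSa Cfsg.Agent.Lib.H64CSb Cfsg.Agent.Lib.H64CTa
open Cfsg.Agent.Lib.H64CTb Cfsg.Agent.Lib.H64CTc Cfsg.Agent.Lib.H64CTd Cfsg.Agent.Lib.H64CTe
open Cfsg.Agent.Lib.H64CSe (central_comm conj_pow eq_one_of_coprime Z2)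

universe v

theorem inf_eq_bot_of_el {X : Type*} [Group X] [Finite X] {s t : ℕ} (hs : s.Prime) (ht : t.Prime) (hst : s ≠ t)
    {x : X} (h1 : El s x) (h2 : El t x) : x = 1 :=
  h1.eq_one (el_coprime ht hs hst.symm h2)

/-- the normal closure of a `q`-element whose conjugates commute is a `q`-group -/
theorem el_normalClosure {X : Type*} [Group X] [Finite X] {q : ℕ} (hq : q.Prime) {x : X} (hx : El q x)
    (hc : ∀ g k : X, Commute (g * x * g⁻¹) (k * x * k⁻¹)) : ∀ y ∈ normalClosure ({x} : Set X), El q y := by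
  have hS : ∀ y ∈ Group.conjugatesOfSet ({x} : Set X), ∃ g, y = g * x * g⁻¹ := by
    intro y hy
    rw [Group.mem_conjugatesOfSet_iff] at hy
    obtain ⟨z, hz, hzy⟩ := hy
    rw [Set.mem_singleton_iff] at hz
    rw [hz, isConj_iff] at hzy
    obtain ⟨c, hc⟩ := hzy
    exact ⟨c, hc.symm⟩
  have hcomm : ∀ a ∈ Group.conjugatesOfSet ({x} : Set X), ∀ b ∈ Group.conjugatesOfSet ({x} : Set X), a * b = b * a := by
    intro a ha b hb
    obtain ⟨g, rfl⟩ := hS a ha
    obtain ⟨k, rfl⟩ := hS b hb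
    exact hc g k
  have hcl : ∀ a ∈ normalClosure ({x} : Set X), ∀ b ∈ normalClosure ({x} : Set X), Commute a b := by
    intro a ha b hb
    exact congrArg Subtype.val ((Subgroup.closureCommGroupOfComm hcomm).mul_comm ⟨a, ha⟩ ⟨b, hb⟩)
  intro y hy
  have hy' := hy
  unfold normalClosure at hy'
  induction hy' using Subgroup.closure_induction with
  | mem y h1 =>
    obtain ⟨g, rfl⟩ := hS y h1
    exact El.conj hx g
  | one => exact ⟨0, by rw [orderOf_one, pow_zero]⟩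
  | mul a b ha hb h1 h2 => exact El.mul hq (h1 ha) (h2 hb) (hcl a ha b hb)
  | inv a ha h1 => exact El.inv (h1 ha)

section main

variable {G : Type v} [Group G] [Finite G] {p m q : ℕ}

/-- the preimage of `O_p(G / Z(G))` -/
def LL (G : Type v) [Group G] (p : ℕ) : Subgroup G := (pCore p (G ⧸ center G)).comap (pz G)

instance LL_normal (G : Type v) [Group G] (p : ℕ) : (LL G p).Normal :=
  (pCore_normal p (G ⧸ center G)).comap _

theorem center_le_LL : center G ≤ LL G p := by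
  intro x hx
  show pz G x ∈ (pCore p (G ⧸ center G) : Subgroup (G ⧸ center G))
  rw [pz_eq_one.2 hx]
  exact one_mem _

theorem central_of_LL {x : G} (hx : x ∈ LL G p) (hxp : (orderOf x).Coprime p) : x ∈ center G := by
  rw [← pz_eq_one]
  refine LocBase.eq_one_of_isPGroup_of_pow (LocBase.isPGroup_pCore p (G ⧸ center G)) hx hxp ?_
  rw [← map_pow, pow_orderOf_eq_one, map_one]

theorem pow_central_of_LL {x : G} (hx : x ∈ LL G p) : ∃ k, x ^ p ^ k ∈ center G := by
  obtain ⟨k, hk⟩ := LocBase.isPGroup_pCore p (G ⧸ center G) ⟨pz G x, hx⟩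
  refine ⟨k, ?_⟩
  rw [← pz_eq_one, map_pow]
  exact congrArg Subtype.val hk

/-- coprime lifting -/
theorem coprime_lift (hp : p.Prime) {q t : ℕ} (hq : q.Prime) (ht : t.Prime) (hqp : q ≠ p) (htp : t ≠ p) (hqt : q ≠ t)
    {x y : G} (hx : El q x) (hy : El t y) (hc : x * y * x⁻¹ * y⁻¹ ∈ LL G p) :
    ∃ l ∈ LL G p, Commute x (l * y * l⁻¹) := by
  have : Fact p.Prime := ⟨hp⟩
  have : Fact q.Prime := ⟨hq⟩
  have : Fact t.Prime := ⟨ht⟩
  set O := pCore p (G ⧸ center G) with hO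
  have hOn : O.Normal := pCore_normal p _
  have hOp : IsPGroup p O := LocBase.isPGroup_pCore p _
  set x' := pz G x with hx'
  set y' := pz G y with hy'
  have hxp : IsPGroup q (zpowers x') := by
    rw [hx', ← MonoidHom.map_zpowers]; exact hx.zpowers.map _
  have hyp : IsPGroup t (zpowers y') := by
    rw [hy', ← MonoidHom.map_zpowers]; exact hy.zpowers.map _
  have hc' : x' * y' * x'⁻¹ * y'⁻¹ ∈ O := by
    have h1 : pz G (x * y * x⁻¹ * y⁻¹) ∈ O := hc
    rwa [map_mul, map_mul, map_mul, map_inv, map_inv] at h1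
  set K := O ⊔ zpowers y' with hK
  obtain ⟨i, hi⟩ := IsPGroup.iff_card.1 hOp
  obtain ⟨j, hj⟩ := IsPGroup.iff_card.1 hyp
  obtain ⟨k, hk⟩ := IsPGroup.iff_card.1 hxp
  have hOy : O ⊓ zpowers y' = ⊥ := by
    rw [eq_bot_iff]
    rintro z ⟨hz1, hz2⟩
    exact Subgroup.mem_bot.2 (inf_eq_bot_of_el hp ht htp.symm (El.of_mem hp hOp hz1) (El.of_mem ht hyp hz2))
  have hKc : Nat.card K = p ^ i * t ^ j := by
    have h1 := SubgroupTools.card_sup_mul_card_inf (N := O) (H := zpowers y')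
      (by rw [Subgroup.normalizer_eq_top]; exact le_top)
    rw [hOy, Subgroup.card_bot, mul_one, hi, hj] at h1
    exact h1
  have hAK : zpowers x' ≤ normalizer (K : Set (G ⧸ center G)) := by
    rw [Subgroup.zpowers_le]
    apply LocBase.mem_normalizer_of_map_conj_le
    rw [hK, Subgroup.map_sup]
    refine sup_le ?_ ?_
    · rintro _ ⟨o, ho, rfl⟩
      exact mem_sup_left (hOn.conj_mem o ho x')
    · rw [MonoidHom.map_zpowers, Subgroup.zpowers_le]
      show x' * y' * x'⁻¹ ∈ _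
      have h1 : x' * y' * x'⁻¹ = (x' * y' * x'⁻¹ * y'⁻¹) * y' := by group
      rw [h1]
      exact mul_mem (mem_sup_left hc') (mem_sup_right (mem_zpowers _))
  have hcop : (Nat.card (zpowers x')).Coprime (Nat.card K) := by
    rw [hk, hKc]
    refine Nat.Coprime.mul_right ?_ ?_
    · exact Nat.Coprime.pow _ _ ((Nat.coprime_primes hq hp).2 hqp)
    · exact Nat.Coprime.pow _ _ ((Nat.coprime_primes hq ht).2 hqt)
  have hsol : Group.IsSolvable (zpowers x') := by
    have : IsCyclic (zpowers x') := inferInstance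
    let _ : CommGroup (zpowers x') := IsCyclic.commGroup
    infer_instance
  obtain ⟨S, hSK, hSp, hSi, hSA⟩ := CoprimeAction.exists_invariant_sylow hAK hcop (Or.inl hsol) t
  have hKf : (Nat.card K).factorization t = j := by
    rw [hKc, Nat.factorization_mul (pow_ne_zero _ hp.ne_zero) (pow_ne_zero _ ht.ne_zero), Finsupp.add_apply,
      hp.factorization_pow, ht.factorization_pow, Finsupp.single_eq_same, Finsupp.single_eq_of_ne htp, zero_add]
  have hSc : Nat.card S = t ^ (Nat.card K).factorization t := by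
    obtain ⟨b, hb⟩ := IsPGroup.iff_card.1 hSp
    have h1 := Cores.card_mul_relIndex hSK
    have h2 : S.relIndex K ≠ 0 := fun h0 => hSi (by rw [h0]; exact dvd_zero t)
    rw [← h1, hb, Nat.factorization_mul (pow_ne_zero _ ht.ne_zero) h2, Finsupp.add_apply,
      ht.factorization_pow, Finsupp.single_eq_same, Nat.factorization_eq_zero_of_not_dvd hSi, add_zero]
  have hyc : Nat.card (zpowers y') = t ^ (Nat.card K).factorization t := by rw [hKf, hj]
  obtain ⟨s, hsK, hs⟩ := H70Basic.sylow_conj_of_card K (zpowers y') S le_sup_right hSK hyc hSc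
  -- write `s = o * y' ^ b`
  have hs' : s ∈ (O : Subgroup (G ⧸ center G)) ⊔ zpowers y' := hsK
  rw [← SetLike.mem_coe, Subgroup.coe_mul_of_right_le_normalizer_left O (zpowers y')
    (by rw [Subgroup.normalizer_eq_top]; exact le_top)] at hs'
  obtain ⟨o, ho, b, hb, hob⟩ := hs'
  have hbc : b * y' * b⁻¹ = y' := by
    obtain ⟨e, he⟩ := hb
    rw [← he]
    have h1 : Commute (y' ^ e) y' := (Commute.refl y').zpow_left e
    show y' ^ e * y' * (y' ^ e)⁻¹ = y'
    rw [h1.eq, mul_inv_cancel_right]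
  have hoS : o * y' * o⁻¹ ∈ S := by
    rw [← hs]
    refine ⟨y', mem_zpowers _, ?_⟩
    show s * y' * s⁻¹ = o * y' * o⁻¹
    rw [← hob]
    have h1 : o * b * y' * (o * b)⁻¹ = o * (b * y' * b⁻¹) * o⁻¹ := by group
    show o * b * y' * (o * b)⁻¹ = _
    rw [h1, hbc]
  have ho' : o ∈ O := ho
  obtain ⟨l, rfl⟩ := QuotientGroup.mk'_surjective (center G) o
  refine ⟨l, ho', ?_⟩
  -- `x'` commutes with `o y' o⁻¹`
  set y1 := pz G l * y' * (pz G l)⁻¹ with hy1
  have h1 : x' * y1 * x'⁻¹ * y1⁻¹ ∈ S :=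
    mul_mem (LocBase.conj_mem_of_le_normalizer hSA (mem_zpowers _) hoS) (inv_mem hoS)
  have h2 : x' * y1 * x'⁻¹ * y1⁻¹ ∈ O := by
    rw [← QuotientGroup.eq_one_iff]
    have e1 : ((y1 : G ⧸ center G) : (G ⧸ center G) ⧸ O) = (y' : (G ⧸ center G) ⧸ O) := by
      have e0 : ((pz G l : G ⧸ center G) : (G ⧸ center G) ⧸ O) = 1 := (QuotientGroup.eq_one_iff _).2 ho'
      rw [hy1, QuotientGroup.mk_mul, QuotientGroup.mk_mul, QuotientGroup.mk_inv, e0]
      group
    have e2 := (QuotientGroup.eq_one_iff (x' * y' * x'⁻¹ * y'⁻¹)).2 hc'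
    rw [QuotientGroup.mk_mul, QuotientGroup.mk_mul, QuotientGroup.mk_mul, QuotientGroup.mk_inv,
      QuotientGroup.mk_inv] at e2 ⊢
    rw [e1]; exact e2
  have h3 : x' * y1 * x'⁻¹ * y1⁻¹ = 1 :=
    inf_eq_bot_of_el hp ht htp.symm (El.of_mem hp hOp h2) (El.of_mem ht hSp h1)
  have h4 : x * (l * y * l⁻¹) * x⁻¹ * (l * y * l⁻¹)⁻¹ ∈ center G := by
    rw [← pz_eq_one, map_mul, map_mul, map_mul, map_inv, map_inv]
    have e1 : pz G (l * y * l⁻¹) = y1 := by rw [map_mul, map_mul, map_inv]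
    rw [e1]; exact h3
  have hy2 : El t (l * y * l⁻¹) := El.conj hy l
  have h5 : (orderOf (x * (l * y * l⁻¹) * x⁻¹ * (l * y * l⁻¹)⁻¹)).Coprime q := by
    refine Nat.Coprime.coprime_dvd_left (orderOf_dvd_of_pow_eq_one (n := orderOf (l * y * l⁻¹)) ?_)
      (el_coprime ht hq hqt.symm hy2)
    have h6 : (x * (l * y * l⁻¹) * x⁻¹) ^ orderOf (l * y * l⁻¹) = 1 := by
      rw [← MulAut.conj_apply, ← map_pow, pow_orderOf_eq_one, map_one]
    have h7 : x * (l * y * l⁻¹) * x⁻¹ = (x * (l * y * l⁻¹) * x⁻¹ * (l * y * l⁻¹)⁻¹) * (l * y * l⁻¹) := by group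
    rw [h7, (central_comm h4).mul_pow, pow_orderOf_eq_one, mul_one] at h6
    exact h6
  have h6 := eq_one_of_coprime (r := q) h4 hx h5
    (show x * (l * y * l⁻¹) * x⁻¹ = (x * (l * y * l⁻¹) * x⁻¹ * (l * y * l⁻¹)⁻¹) * (l * y * l⁻¹) by group)
  rw [mul_inv_eq_one, mul_inv_eq_iff_eq_mul] at h6
  exact h6

variable (h : HH G p m) (hq : q.Prime) (hqp : q ≠ p) (hqm : q ∣ m)
  (hmin : ∀ r : ℕ, r.Prime → r ≠ p → r ∣ m → q ≤ r)

include h hq hqp hqm hmin

theorem final : False := by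
  have hpF : Fact p.Prime := ⟨h.hp⟩
  have hqF : Fact q.Prime := ⟨hq⟩
  obtain ⟨g, hg, hgp⟩ := exists_nc h
  obtain ⟨u, hu, huq, huC⟩ := exists_u h hq hqp hqm hg hgp
  obtain ⟨a, haT, hac, hau⟩ := exists_a h hq hqp hqm hg hgp hu huq huC
  have hCa := h.TT_eqC hg hgp hq hqp haT hac
  have haq := ((h.mem_TT hg hgp hq hqp).1 haT).2
  have hap := el_coprime hq h.hp hqp haq
  -- replace `g` by `a`
  have huN : u ∈ NN a := by show u ∈ normalizer (C a : Set G); rw [hCa]; exact hu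
  have huC' : u ∉ C a := by rw [hCa]; exact huC
  clear huC hu hCa haT hg hgp
  have hE := card_E_eq h hq hqp hqm hac hap huN huq huC' hmin
  have huc : u ∉ center G := fun hcon => huC' (memC.2 (central_comm hcon))
  have hup := el_coprime hq h.hp hqp huq
  -- (F1)
  have hF1 : ∀ x ∈ NN a, x * a * x⁻¹ * a⁻¹ ∈ center G := by
    intro x hx
    have h1 : zpowers (pe a ⟨u, huN⟩) = ⊤ := by
      refine Subgroup.eq_top_of_card_eq _ ?_
      rw [Nat.card_zpowers, orderOf_ubar h hq hqp hqm hac hap huN huq huC', hE]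
    have h2 : pe a ⟨x, hx⟩ ∈ zpowers (pe a ⟨u, huN⟩) := by rw [h1]; trivial
    obtain ⟨i, hi⟩ := h2
    have h3 : pe a (⟨x, hx⟩ * ((⟨u, huN⟩ : NN a) ^ i)⁻¹) = 1 := by
      rw [map_mul, map_inv, map_zpow]
      have hi' : pe a ⟨u, huN⟩ ^ i = pe a ⟨x, hx⟩ := hi
      rw [hi', mul_inv_cancel]
    rw [pe_eq_one] at h3
    have h4 : x * (u ^ i)⁻¹ ∈ C a := by simpa using h3
    rw [← pz_commute]
    have h5 : Commute (pz G (x * (u ^ i)⁻¹)) (pz G a) := (memC.1 h4).map (pz G)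
    have h6 : Commute (pz G (u ^ i)) (pz G a) := by
      rw [map_zpow]; exact ((pz_commute.2 hau).symm).zpow_left i
    have h7 := h5.mul_left h6
    rw [← map_mul, inv_mul_cancel_right] at h7
    exact h7
  -- (F2)
  have hF2 : ∃ e, (C (pz G a)).index = p ^ e := by
    obtain ⟨e, he⟩ := index_norm h hac hap
    refine ⟨e, ?_⟩
    have h1 : C (pz G a) = (NN a).map (pz G) := by
      apply le_antisymm
      · intro y hy
        obtain ⟨x, rfl⟩ := QuotientGroup.mk'_surjective (center G) y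
        exact ⟨x, norm_of_central (pz_commute.1 (memC.1 hy)), rfl⟩
      · rintro _ ⟨x, hx, rfl⟩
        exact memC.2 (pz_commute.2 (hF1 x hx))
    rw [h1, Subgroup.index_map_eq _ (QuotientGroup.mk'_surjective _)
      (by rw [QuotientGroup.ker_mk']; exact (center_le a).trans Subgroup.le_normalizer)]
    exact he
  -- (F3)
  have hkaz := Kazarin.conj_commute_mod p (pz G a) hF2
  set L := LL G p with hL
  set σ := QuotientGroup.mk' L with hσ
  have hσ1 : ∀ x, σ x = 1 ↔ x ∈ L := fun x => QuotientGroup.eq_one_iff x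
  have hkaz' : ∀ x y : G ⧸ L, Commute (x * σ a * x⁻¹) (y * σ a * y⁻¹) := by
    intro x y
    obtain ⟨x, rfl⟩ := QuotientGroup.mk'_surjective L x
    obtain ⟨y, rfl⟩ := QuotientGroup.mk'_surjective L y
    have h1 : (x * a * x⁻¹) * (y * a * y⁻¹) * (x * a * x⁻¹)⁻¹ * (y * a * y⁻¹)⁻¹ ∈ L := by
      have h2 := hkaz (pz G x) (pz G y)
      show pz G ((x * a * x⁻¹) * (y * a * y⁻¹) * (x * a * x⁻¹)⁻¹ * (y * a * y⁻¹)⁻¹) ∈
        (pCore p (G ⧸ center G) : Subgroup (G ⧸ center G))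
      simpa only [map_mul, map_inv] using h2
    rw [← hσ1, map_mul, map_mul, map_mul, map_inv, map_inv, mul_inv_eq_one, mul_inv_eq_iff_eq_mul] at h1
    simp only [map_mul, map_inv] at h1
    exact h1
  have hσa : El q (σ a) := by
    obtain ⟨k, hk⟩ := haq.pow_eq
    exact El.of_pow hq (k := k) (by rw [← map_pow, hk, map_one])
  set M := normalClosure ({σ a} : Set (G ⧸ L)) with hM
  have hMel := el_normalClosure hq hσa hkaz'
  have hMn : M.Normal := normalClosure_normal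
  have hMp : IsPGroup q M := by
    intro y
    obtain ⟨k, hk⟩ := (hMel y y.2).pow_eq
    exact ⟨k, Subtype.ext (by simpa using hk)⟩
  -- (F5)
  set N' := (NN a).map σ with hN'
  have hMN : M ≤ N' := by
    rw [← Subgroup.relIndex_eq_one]
    obtain ⟨e, he⟩ := index_norm h hac hap
    have h1 : N'.relIndex M ∣ p ^ e := by
      refine (ClassPow.relIndex_dvd_index N' M).trans ?_
      have h2 : N'.index ∣ (NN a).index := by
        rw [hN']
        exact Subgroup.index_map_dvd _ (QuotientGroup.mk'_surjective _)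
      rw [← he]; exact h2
    have h2 : N'.relIndex M ∣ Nat.card M := Subgroup.relIndex_dvd_card _ _
    obtain ⟨k, hk⟩ := IsPGroup.iff_card.1 hMp
    rw [hk] at h2
    exact Nat.eq_one_of_dvd_coprimes (Nat.Coprime.pow _ _ ((Nat.coprime_primes h.hp hq).2 hqp.symm)) h1 h2
  -- (F6)
  obtain ⟨t, htq, ht⟩ := h.two q
  have htF : Fact t.Prime := ⟨ht.pr⟩
  have htN := h.TT_norm hac hap ht.pr ht.ne
  set Y := (TT t a).map σ with hY
  have hYp : IsPGroup t Y := (h.TT_pgroup hac hap ht.pr ht.ne).map _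
  have hNY : N' ≤ normalizer (Y : Set (G ⧸ L)) := by
    rintro _ ⟨x, hx, rfl⟩
    exact Subgroup.le_normalizer_map (H := TT t a) σ ⟨x, htN hx, rfl⟩
  have hMY : ∀ v ∈ M, ∀ y ∈ Y, Commute v y := by
    intro v hv y hy
    have h1 : v * y * v⁻¹ * y⁻¹ ∈ Y :=
      mul_mem (LocBase.conj_mem_of_le_normalizer hNY (hMN hv) hy) (inv_mem hy)
    have h2 : v * y * v⁻¹ * y⁻¹ ∈ M := by
      have h3 := hMn.conj_mem _ (inv_mem hv) y
      have h4 : v * y * v⁻¹ * y⁻¹ = v * (y * v⁻¹ * y⁻¹) := by group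
      rw [h4]; exact mul_mem hv h3
    have h3 := inf_eq_bot_of_el hq ht.pr htq.symm (hMel _ h2) (El.of_mem ht.pr hYp h1)
    rw [mul_inv_eq_one, mul_inv_eq_iff_eq_mul] at h3
    exact h3
  -- (F8)
  obtain ⟨y, hyc, hyt, hya⟩ := h.exists_el ht hac hap
  have hyT : y ∈ TT t a := (h.mem_TT hac hap ht.pr ht.ne).2 ⟨hya, hyt⟩
  have hyp := el_coprime ht.pr h.hp ht.ne hyt
  have hCy : C y = C a := h.TT_eqC hac hap ht.pr ht.ne hyT hyc
  have hF8 : ∀ x : G, ∃ l ∈ L, l⁻¹ * x ∈ NN a := by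
    intro x
    have h1 : Commute (σ (x * a * x⁻¹)) (σ y) := by
      refine hMY _ ?_ _ ⟨y, hyT, rfl⟩
      rw [map_mul, map_mul, map_inv]
      exact hMn.conj_mem _ (subset_normalClosure rfl) _
    have h2 : (x * a * x⁻¹) * y * (x * a * x⁻¹)⁻¹ * y⁻¹ ∈ L := by
      rw [← hσ1, map_mul, map_mul _ _ (x * a * x⁻¹)⁻¹, map_mul _ _ y, map_inv, map_inv, mul_inv_eq_one,
        mul_inv_eq_iff_eq_mul]
      exact h1
    obtain ⟨l, hl, hlc⟩ := coprime_lift h.hp hq ht.pr hqp ht.ne htq.symm (El.conj haq x) hyt h2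
    refine ⟨l, hl, ?_⟩
    have h3 : C (l * y * l⁻¹) = C (x * a * x⁻¹) := h.eqC (nc_conj hac x) (coprime_conj hap x) hlc.symm (nc_conj hyc l)
      (coprime_conj hyp l)
    refine mem_norm (a := a) rfl ?_
    ext z
    rw [mem_C_conj]
    have h4 : (l⁻¹ * x)⁻¹ * z * (l⁻¹ * x) = x⁻¹ * (l * z * l⁻¹) * x := by group
    rw [h4, ← mem_C_conj, ← h3, mem_C_conj]
    have h5 : l⁻¹ * (l * z * l⁻¹) * l = z := by group
    rw [h5, hCy]
  -- (F9)
  have hF9 : ∀ l ∈ L, l ∈ NN a → l ∈ C a := by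
    intro l hl hlN
    have h1 : l * y * l⁻¹ * y⁻¹ ∈ TT t a :=
      mul_mem (LocBase.conj_mem_of_le_normalizer htN hlN hyT) (inv_mem hyT)
    have h2 : l * y * l⁻¹ * y⁻¹ ∈ L := by
      have h3 := (LL_normal G p).conj_mem _ (inv_mem hl) y
      have h4 : l * y * l⁻¹ * y⁻¹ = l * (y * l⁻¹ * y⁻¹) := by group
      rw [h4]; exact mul_mem hl h3
    have h1' := ((h.mem_TT hac hap ht.pr ht.ne).1 h1).2
    have h3 : l * y * l⁻¹ * y⁻¹ ∈ center G := central_of_LL h2 (el_coprime ht.pr h.hp ht.ne h1')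
    obtain ⟨k, hk⟩ := pow_central_of_LL hl
    have h4 := conj_pow h3 (show l * y * l⁻¹ = (l * y * l⁻¹ * y⁻¹) * y by group) (p ^ k)
    rw [(central_comm hk).eq, mul_inv_cancel_right] at h4
    have h5 : (l * y * l⁻¹ * y⁻¹) ^ p ^ k = 1 := by
      have h6 : 1 * y = (l * y * l⁻¹ * y⁻¹) ^ p ^ k * y := by rw [one_mul]; exact h4
      exact (mul_right_cancel h6).symm
    have h6 := inf_eq_bot_of_el h.hp ht.pr ht.ne.symm (El.of_pow h.hp h5) h1'
    rw [← hCy, memC]
    rw [mul_inv_eq_one, mul_inv_eq_iff_eq_mul] at h6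
    exact h6
  -- (F10)
  have htm : ¬ t ∣ m := by
    obtain ⟨e, he⟩ := index_norm h hac hap
    have h1 := card_E h hac hap
    rw [hE, he] at h1
    rw [← h1]
    intro hd
    rcases (Nat.Prime.dvd_mul ht.pr).1 hd with h2 | h2
    · exact htq ((Nat.prime_dvd_prime_iff_eq ht.pr hq).1 h2)
    · exact ht.ne ((Nat.prime_dvd_prime_iff_eq ht.pr h.hp).1 (ht.pr.dvd_of_dvd_pow h2))
  have hYn : Y.Normal := by
    apply H64CSg.normal_of_norm
    intro x
    obtain ⟨x, rfl⟩ := QuotientGroup.mk'_surjective L x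
    obtain ⟨l, hl, hlx⟩ := hF8 x
    apply hNY
    refine ⟨l⁻¹ * x, hlx, ?_⟩
    rw [map_mul, map_inv, (hσ1 l).2 hl, inv_one, one_mul]
  have hYi : ¬ t ∣ Y.index := by
    have h1 : Y.index ∣ (TT t a).index := Subgroup.index_map_dvd _ (QuotientGroup.mk'_surjective _)
    intro hd
    have h2 := hd.trans h1
    have h3 := Subgroup.card_mul_index (TT t a)
    have h4 := Subgroup.card_mul_index (C a)
    rw [h.card_TT hac hap ht.pr ht.ne] at h3
    rw [h.ix a hap hac] at h4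
    have h5 : (Nat.card G).factorization t = (Nat.card (C a)).factorization t := by
      rw [← h4, Nat.factorization_mul Nat.card_pos.ne' (m_ne h), Finsupp.add_apply,
        Nat.factorization_eq_zero_of_not_dvd htm, add_zero]
    have h6 : (Nat.card G).factorization t = (Nat.card (C a)).factorization t + ((TT t a).index).factorization t := by
      rw [← h3, Nat.factorization_mul (pow_ne_zero _ ht.pr.ne_zero) Subgroup.index_ne_zero_of_finite,
        Finsupp.add_apply, ht.pr.factorization_pow, Finsupp.single_eq_same]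
    have h7 := (ht.pr.dvd_iff_one_le_factorization Subgroup.index_ne_zero_of_finite).1 h2
    omega
  obtain ⟨y2, hy2c, hy2t, hy2u⟩ := h.exists_el ht huc hup
  have hy2p := el_coprime ht.pr h.hp ht.ne hy2t
  have hCy2 : C y2 = C u := h.eqC huc hup hy2u hy2c hy2p
  have hy2Y : σ y2 ∈ Y := by
    have h1 : (σ y2) ^ Y.index ∈ Y := Subgroup.pow_index_mem _ _
    have h2 : Y.index.Coprime (orderOf (σ y2)) := by
      have h3 : El t (σ y2) := by
        obtain ⟨k, hk⟩ := hy2t.pow_eq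
        exact El.of_pow ht.pr (k := k) (by rw [← map_pow, hk, map_one])
      obtain ⟨k, hk⟩ := h3
      rw [hk]
      exact ((Nat.Prime.coprime_iff_not_dvd ht.pr).2 hYi).symm.pow_right k
    obtain ⟨k, hk⟩ := exists_pow_eq_self_of_coprime h2
    rw [← hk]
    exact pow_mem h1 k
  obtain ⟨y1, hy1, hy12⟩ := hy2Y
  have h1 : Commute (σ a) (σ y2) := by
    rw [← hy12]
    exact ((h.TT_comm hac hap ht.pr ht.ne hy1 (memC.2 (Commute.refl a))).symm).map σ
  have h2 : a * y2 * a⁻¹ * y2⁻¹ ∈ L := by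
    rw [← hσ1, map_mul, map_mul, map_mul, map_inv, map_inv, mul_inv_eq_one, mul_inv_eq_iff_eq_mul]
    exact h1
  obtain ⟨l, hl, hlc⟩ := coprime_lift h.hp hq ht.pr hqp ht.ne htq.symm haq hy2t h2
  have h3 : C (l * y2 * l⁻¹) = C a := h.eqC hac hap hlc.symm (nc_conj hy2c l) (coprime_conj hy2p l)
  have h4 : l * u * l⁻¹ ∈ C a := by
    rw [← h3, mem_C_conj, hCy2]
    have h5 : l⁻¹ * (l * u * l⁻¹) * l = u := by group
    rw [h5]
    exact memC.2 (Commute.refl u)
  have h5 : (l * u * l⁻¹)⁻¹ * u ∈ L := by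
    have h6 := (LL_normal G p).conj_mem _ hl u⁻¹
    have h7 : (l * u * l⁻¹)⁻¹ * u = l * (u⁻¹ * l⁻¹ * u⁻¹⁻¹) := by group
    rw [h7]
    exact mul_mem hl ((LL_normal G p).conj_mem _ (inv_mem hl) u⁻¹)
  have h6 : (l * u * l⁻¹)⁻¹ * u ∈ NN a :=
    mul_mem (inv_mem (Subgroup.le_normalizer h4)) huN
  have h7 := mul_mem h4 (hF9 _ h5 h6)
  rw [mul_inv_cancel_left] at h7
  exact huC' h7

end main

/-- **main theorem**: two noncentral primes `≠ p` force `m` to be a power of `p` -/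
theorem main_pow {G : Type v} [Group G] [Finite G] {p m : ℕ} (h : HH G p m) : ∀ r : ℕ, r.Prime → r ∣ m → r = p := by
  intro r hr hrm
  by_contra hrp
  have hex : ∃ r : ℕ, r.Prime ∧ r ≠ p ∧ r ∣ m := ⟨r, hr, hrp, hrm⟩
  classical
  have h1 := Nat.find_spec hex
  exact final h h1.1 h1.2.1 h1.2.2 fun s hs hsp hsm => Nat.find_min' hex ⟨hs, hsp, hsm⟩

end Cfsg.Agent.Lib.H64CTf
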