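import Cfsg.Prelude
import Cfsg.Agent.Lib.LocBase
import Cfsg.Agent.Lib.Cores2
import Cfsg.Agent.Lib.PNilp
import Cfsg.Agent.Lib.TateApps
import Cfsg.Agent.Lib.FrobAction2
import Cfsg.Agent.Lib.H70Frattini
import Cfsg.Agent.Lib.H31FPFNilp2
import Cfsg.Agent.Lib.PGroupOdd
import Cfsg.Agent.Lib.HallComplement

/-!
Camina pairs `(G, N)`.
-/
set_option autoImplicit false

namespace Cfsg.Agent.Lib.H64Cam

open scoped Pointwise commutatorElement
open Subgroup

universe u
variable {G : Type u} [Group G] [Finite G] {N : Subgroup G} [hNn : N.Normal]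

theorem mem_of_commute (hcam : ∀ g : G, g ∉ N → ∀ n ∈ N, ∃ x : G, x * g * x⁻¹ = g * n)
    {p : ℕ} {x h : G} (hx : x ∈ N) (hx1 : x ≠ 1) {m : ℕ} (hxp : x ^ p ^ m = 1) (hc : Commute h x)
    (hh : (orderOf h).Coprime p) : h ∈ N := by
  by_contra hN
  obtain ⟨z, hz⟩ := hcam h hN x hx
  have hcop : (orderOf h).Coprime (orderOf x) :=
    Nat.Coprime.coprime_dvd_right (orderOf_dvd_of_pow_eq_one hxp) (Nat.Coprime.pow_right m hh)
  have h1 := hc.orderOf_mul_eq_mul_orderOf_of_coprime hcop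
  have h2 : orderOf (z * h * z⁻¹) = orderOf h := MulEquiv.orderOf_eq (MulAut.conj z) h
  rw [hz, h1] at h2
  have h3 : orderOf x = 1 := Nat.eq_of_mul_eq_mul_left (orderOf_pos h) (by rw [h2, mul_one])
  exact hx1 (orderOf_eq_one_iff.1 h3)

theorem card_centralizer (hcam : ∀ g : G, g ∉ N → ∀ n ∈ N, ∃ x : G, x * g * x⁻¹ = g * n) {g : G}
    (hg : g ∉ N) : Nat.card (centralizer ({g} : Set G)) =
      Nat.card (centralizer ({QuotientGroup.mk' N g} : Set (G ⧸ N))) := by
  let π := QuotientGroup.mk' N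
  let T : Subgroup G := (centralizer ({π g} : Set (G ⧸ N))).comap π
  have hmemT : ∀ x : G, x ∈ T ↔ g⁻¹ * (x * g * x⁻¹) ∈ N := by
    intro x
    rw [mem_comap, mem_centralizer_singleton_iff, ← QuotientGroup.eq_one_iff]
    change _ ↔ π (g⁻¹ * (x * g * x⁻¹)) = 1
    rw [map_mul, map_mul, map_mul, map_inv, map_inv, inv_mul_eq_one, eq_mul_inv_iff_mul_eq]
    exact ⟨fun h => h.symm, fun h => h.symm⟩
  have hCT : centralizer ({g} : Set G) ≤ T := by
    intro x hx
    rw [hmemT]
    have h1 : x * g = g * x := mem_centralizer_singleton_iff.1 hx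
    rw [h1, mul_inv_cancel_right, inv_mul_cancel]
    exact one_mem _
  have hrel : (centralizer ({g} : Set G)).relIndex T = Nat.card N := by
    unfold relIndex Subgroup.index
    let f : T → N := fun x => ⟨g⁻¹ * ((x : G) * g * (x : G)⁻¹), (hmemT x).1 x.2⟩
    have hf : ∀ x y : T, f x = f y ↔
        (x : T ⧸ (centralizer ({g} : Set G)).subgroupOf T) = (y : T ⧸ (centralizer ({g} : Set G)).subgroupOf T) := by
      intro x y
      rw [QuotientGroup.eq, mem_subgroupOf, mem_centralizer_singleton_iff, Subtype.ext_iff]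
      change g⁻¹ * ((x : G) * g * (x : G)⁻¹) = g⁻¹ * ((y : G) * g * (y : G)⁻¹) ↔
        (x : G)⁻¹ * (y : G) * g = g * ((x : G)⁻¹ * (y : G))
      constructor
      · intro h
        have h1 := mul_left_cancel h
        calc (x : G)⁻¹ * (y : G) * g = (x : G)⁻¹ * ((y : G) * g * (y : G)⁻¹) * y := by group
          _ = g * ((x : G)⁻¹ * (y : G)) := by rw [← h1]; group
      · intro h
        congr 1
        have h1 : (y : G) * g = x * (g * ((x : G)⁻¹ * (y : G))) := by rw [← h]; group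
        rw [h1]; group
    refine Nat.card_congr (Equiv.ofBijective (Quotient.lift f fun x y h => ?_) ⟨?_, ?_⟩)
    · rw [hf]; exact Quotient.sound h
    · intro a b
      induction a using Quotient.inductionOn with | _ a => ?_
      induction b using Quotient.inductionOn with | _ b => ?_
      intro h
      exact (hf a b).1 h
    · rintro ⟨n, hn⟩
      obtain ⟨x, hx⟩ := hcam g hg n hn
      have hxT : x ∈ T := by rw [hmemT, hx, inv_mul_cancel_left]; exact hn
      refine ⟨Quotient.mk _ ⟨x, hxT⟩, ?_⟩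
      apply Subtype.ext
      change g⁻¹ * (x * g * x⁻¹) = n
      rw [hx, inv_mul_cancel_left]
  have h1 := Cores.card_mul_relIndex hCT
  have h2 := Cores.card_comap_mk N (centralizer ({π g} : Set (G ⧸ N)))
  rw [hrel] at h1
  have h3 : Nat.card (centralizer ({g} : Set G)) * Nat.card N =
      Nat.card N * Nat.card (centralizer ({π g} : Set (G ⧸ N))) := by rw [h1, ← h2]
  rw [mul_comm] at h3
  exact Nat.eq_of_mul_eq_mul_left Nat.card_pos h3

/-- a `q`-power dividing `|G/N|` divides `|P : P ∩ N|` -/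
theorem dvd_relIndex {q : ℕ} [hq : Fact q.Prime] (P : Sylow q G) {d : ℕ} (hd : ∃ m, d = q ^ m)
    (h : d ∣ N.index) : d ∣ N.relIndex (P : Subgroup G) := by
  have h1 := relIndex_mul_index (le_sup_right : N ≤ (P : Subgroup G) ⊔ N)
  rw [relIndex_sup_right] at h1
  rw [← h1] at h
  refine Nat.Coprime.dvd_of_dvd_mul_right ?_ h
  obtain ⟨m, rfl⟩ := hd
  apply Nat.Coprime.pow_left
  rw [hq.out.coprime_iff_not_dvd]
  exact fun h2 => P.not_dvd_index (h2.trans (index_dvd_of_le le_sup_left))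

theorem le_derived (hcam : ∀ g : G, g ∉ N → ∀ n ∈ N, ∃ x : G, x * g * x⁻¹ = g * n)
    {q : ℕ} [hq : Fact q.Prime] (P : Sylow q G) (hPN : ¬ (P : Subgroup G) ≤ N) :
    N ⊓ (P : Subgroup G) ≤ (commutator P).map (P : Subgroup G).subtype := by
  let π := QuotientGroup.mk' N
  -- a central element of `P̄`
  obtain ⟨g, hgP, hgN, hgc⟩ : ∃ g ∈ (P : Subgroup G), g ∉ N ∧ ∀ x ∈ (P : Subgroup G), Commute (π x) (π g) := by
    have hPbar : IsPGroup q ((P : Subgroup G).map π) := P.isPGroup'.map π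
    have hne : Nontrivial ((P : Subgroup G).map π) := by
      rw [nontrivial_iff_ne_bot]
      intro h
      apply hPN
      rw [Subgroup.map_eq_bot_iff, QuotientGroup.ker_mk'] at h
      exact h
    have h1 := hPbar.center_nontrivial
    obtain ⟨⟨⟨z, hz⟩, hzc⟩, hz1⟩ := exists_ne (1 : center ((P : Subgroup G).map π))
    obtain ⟨g, hg, rfl⟩ := hz
    refine ⟨g, hg, ?_, ?_⟩
    · intro h
      apply hz1
      apply Subtype.ext
      apply Subtype.ext
      exact (QuotientGroup.eq_one_iff g).2 h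
    · intro x hx
      exact congrArg Subtype.val (mem_center_iff.1 hzc ⟨π x, mem_map_of_mem π hx⟩)
  set C : Subgroup G := (P : Subgroup G) ⊓ centralizer ({g} : Set G) with hC
  have hCP : IsPGroup q C := P.isPGroup'.to_le inf_le_left
  have h1 : Nat.card C ∣ N.index := by
    have h2 : Nat.card C ∣ Nat.card (centralizer ({g} : Set G)) := card_dvd_of_le inf_le_right
    rw [card_centralizer hcam hgN] at h2
    exact h2.trans ((card_subgroup_dvd_card _).trans (by rw [Subgroup.index]))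
  have h3 : Nat.card C ∣ N.relIndex (P : Subgroup G) := dvd_relIndex P (IsPGroup.iff_card.1 hCP) h1
  have h4 : Nat.card (N ⊓ (P : Subgroup G) : Subgroup G) * N.relIndex (P : Subgroup G) = Nat.card P := by
    rw [← inf_relIndex_right]
    exact Cores.card_mul_relIndex inf_le_right
  have h5 : Nat.card C * C.relIndex (P : Subgroup G) = Nat.card P := Cores.card_mul_relIndex inf_le_left
  have h6 : Nat.card (N ⊓ (P : Subgroup G) : Subgroup G) ≤ C.relIndex (P : Subgroup G) := by
    have h7 : Nat.card C ≤ N.relIndex (P : Subgroup G) :=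
      Nat.le_of_dvd (Nat.pos_of_ne_zero (index_ne_zero_of_finite (H := N.subgroupOf (P : Subgroup G)))) h3
    have h8 : Nat.card (N ⊓ (P : Subgroup G) : Subgroup G) * Nat.card C ≤ Nat.card C * C.relIndex (P : Subgroup G) := by
      rw [h5, ← h4]; exact Nat.mul_le_mul_left _ h7
    rw [mul_comm] at h8
    exact Nat.le_of_mul_le_mul_left h8 Nat.card_pos
  -- the map
  have hmem : ∀ x : (P : Subgroup G), g⁻¹ * ((x : G) * g * (x : G)⁻¹) ∈ N ⊓ (P : Subgroup G) := by
    intro x
    refine ⟨?_, (P : Subgroup G).mul_mem ((P : Subgroup G).inv_mem hgP) ((P : Subgroup G).mul_mem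
      ((P : Subgroup G).mul_mem x.2 hgP) ((P : Subgroup G).inv_mem x.2))⟩
    show _ ∈ N
    rw [← QuotientGroup.eq_one_iff]
    change π (g⁻¹ * (x * g * (x : G)⁻¹)) = 1
    rw [map_mul, map_mul, map_mul, map_inv, map_inv, inv_mul_eq_one, eq_mul_inv_iff_mul_eq]
    exact (hgc x x.2).eq.symm
  let f : ↥(P : Subgroup G) → ↥(N ⊓ (P : Subgroup G) : Subgroup G) := fun x => ⟨_, hmem x⟩
  have hf : ∀ x y : (P : Subgroup G), f x = f y →
      (x : (P : Subgroup G) ⧸ C.subgroupOf P) = (y : (P : Subgroup G) ⧸ C.subgroupOf P) := by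
    intro x y h
    rw [QuotientGroup.eq, mem_subgroupOf]
    refine ⟨(x⁻¹ * y).2, ?_⟩
    show ((x⁻¹ * y : (P : Subgroup G)) : G) ∈ centralizer ({g} : Set G)
    rw [mem_centralizer_singleton_iff]
    change (x : G)⁻¹ * (y : G) * g = g * ((x : G)⁻¹ * (y : G))
    have h0 : g⁻¹ * ((x : G) * g * (x : G)⁻¹) = g⁻¹ * ((y : G) * g * (y : G)⁻¹) := congrArg Subtype.val h
    have h1 := mul_left_cancel h0
    calc (x : G)⁻¹ * (y : G) * g = (x : G)⁻¹ * ((y : G) * g * (y : G)⁻¹) * y := by group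
      _ = g * ((x : G)⁻¹ * (y : G)) := by rw [← h1]; group
  have hf' : ∀ x y : (P : Subgroup G), 
      (x : (P : Subgroup G) ⧸ C.subgroupOf P) = (y : (P : Subgroup G) ⧸ C.subgroupOf P) → f x = f y := by
    intro x y h
    rw [QuotientGroup.eq, mem_subgroupOf] at h
    have h2 : ((x⁻¹ * y : (P : Subgroup G)) : G) ∈ centralizer ({g} : Set G) := h.2
    rw [mem_centralizer_singleton_iff] at h2
    change (x : G)⁻¹ * (y : G) * g = g * ((x : G)⁻¹ * (y : G)) at h2
    apply Subtype.ext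
    change g⁻¹ * ((x : G) * g * (x : G)⁻¹) = g⁻¹ * ((y : G) * g * (y : G)⁻¹)
    congr 1
    have h1 : (y : G) * g = x * (g * ((x : G)⁻¹ * (y : G))) := by rw [← h2]; group
    rw [h1]; group
  let F : (↥(P : Subgroup G) ⧸ C.subgroupOf P) → ↥(N ⊓ (P : Subgroup G) : Subgroup G) :=
    Quotient.lift f fun x y h => hf' x y (Quotient.sound h)
  have hFi : Function.Injective F := by
    intro a b
    induction a using Quotient.inductionOn with | _ a => ?_
    induction b using Quotient.inductionOn with | _ b => ?_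
    intro h
    exact hf a b h
  have hFb : Function.Bijective F := hFi.bijective_of_nat_card_le h6
  intro y hy
  obtain ⟨a, ha⟩ := hFb.2 ⟨y, hy⟩
  induction a using Quotient.inductionOn with | _ a => ?_
  have h9 : g⁻¹ * ((a : G) * g * (a : G)⁻¹) = y := congrArg Subtype.val ha
  refine ⟨⁅(⟨g, hgP⟩ : (P : Subgroup G))⁻¹, a⁆, ?_, ?_⟩
  · exact commutator_mem_commutator (mem_top _) (mem_top _)
  · rw [← h9]
    simp [commutatorElement_def, mul_assoc]

/-- elements of `p`-power order outside `N` have centralizers of large order modulo `N` -/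
theorem dvd_card_centralizer (hcam : ∀ g : G, g ∉ N → ∀ n ∈ N, ∃ x : G, x * g * x⁻¹ = g * n)
    {p : ℕ} [hp : Fact p.Prime] (P : Sylow p G) (hpN : p ∣ Nat.card N) {x : G} (hxP : x ∈ (P : Subgroup G))
    (hxN : x ∉ N) : p * orderOf (QuotientGroup.mk' N x) ∣
      Nat.card (centralizer ({QuotientGroup.mk' N x} : Set (G ⧸ N))) := by
  rw [← card_centralizer hcam hxN]
  let π := QuotientGroup.mk' N
  -- a central element of `P` in `N`
  have hne : N.subgroupOf (P : Subgroup G) ≠ ⊥ := by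
    intro h
    rw [subgroupOf_eq_bot] at h
    have h1 : LocBase.IsSyl p ((P : Subgroup G) ⊓ N) N :=
      (LocBase.isSyl_top P).inf_normal le_top (by rw [normalizer_eq_top_iff.2 inferInstance])
    have h2 := h1.ndvd
    rw [inf_comm, disjoint_iff.1 h, relIndex_bot_left] at h2
    exact h2 hpN
  obtain ⟨z, hzN, hzc, hzo⟩ := PGroupOdd.exists_central_mem P.isPGroup' (inferInstance : (N.subgroupOf (P : Subgroup G)).Normal) hne
  set C : Subgroup G := (P : Subgroup G) ⊓ centralizer ({x} : Set G) with hC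
  have h1 : p ∣ Nat.card (N ⊓ C : Subgroup G) := by
    have h2 : (z : G) ∈ N ⊓ C := by
      refine ⟨hzN, z.2, ?_⟩
      show (z : G) ∈ centralizer ({x} : Set G)
      rw [mem_centralizer_singleton_iff]
      exact congrArg Subtype.val (mem_center_iff.1 hzc ⟨x, hxP⟩).symm
    have h3 := orderOf_dvd_natCard (⟨z, h2⟩ : (N ⊓ C : Subgroup G))
    rwa [Subgroup.orderOf_mk, orderOf_coe, hzo] at h3
  have h2 : orderOf (π x) ∣ N.relIndex C := by
    have h3 : N.relIndex C = Nat.card (C.map π) := by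
      rw [← Subgroup.relIndex_ker, QuotientGroup.ker_mk']
    rw [h3]
    have h4 : π x ∈ C.map π := mem_map_of_mem π ⟨hxP, mem_centralizer_singleton_iff.2 rfl⟩
    have h5 := orderOf_dvd_natCard (⟨π x, h4⟩ : C.map π)
    rwa [Subgroup.orderOf_mk] at h5
  have h3 : Nat.card (N ⊓ C : Subgroup G) * N.relIndex C = Nat.card C := by
    rw [← inf_relIndex_right]
    exact Cores.card_mul_relIndex inf_le_right
  exact (mul_dvd_mul h1 h2).trans (by rw [h3]; exact card_dvd_of_le inf_le_right)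

omit [Finite G] hNn in
theorem quat_center {m : ℕ} (hm : 2 ≤ m) {z : QuaternionGroup m} (hz : ∀ y, y * z = z * y) : z ^ 2 = 1 := by
  have : NeZero m := ⟨by omega⟩
  cases z with
  | a i =>
    have h := hz (QuaternionGroup.xa 0)
    rw [QuaternionGroup.xa_mul_a, QuaternionGroup.a_mul_xa] at h
    have h1 : (0 : ZMod (2 * m)) + i = 0 - i := by simpa using h
    have h2 : i + i = 0 := by
      have : i = -i := by simpa using h1
      nth_rw 1 [this]; simp
    rw [pow_two, QuaternionGroup.a_mul_a, h2]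
    rfl
  | xa i =>
    exfalso
    have h := hz (QuaternionGroup.a 1)
    rw [QuaternionGroup.xa_mul_a, QuaternionGroup.a_mul_xa] at h
    have h1 : i - 1 = i + 1 := by simpa using h
    have h2 : (2 : ZMod (2 * m)) = 0 := by
      have h3 : (i + 1) - (i - 1) = 0 := by rw [h1]; ring
      have h4 : (i + 1) - (i - 1) = (2 : ZMod (2 * m)) := by ring
      rw [← h4, h3]
    have h3 : ((2 : ℕ) : ZMod (2 * m)) = 0 := by exact_mod_cast h2
    rw [ZMod.natCast_eq_zero_iff] at h3
    have := Nat.le_of_dvd (by norm_num) h3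
    omega

/-- the Sylow `p`-subgroups of `G/N` are not cyclic and not quaternion, if `p` divides `|N|` -/
theorem not_cyclic (hcam : ∀ g : G, g ∉ N → ∀ n ∈ N, ∃ x : G, x * g * x⁻¹ = g * n)
    {p : ℕ} [hp : Fact p.Prime] (P : Sylow p G) (hpN : p ∣ Nat.card N) (hPN : ¬ (P : Subgroup G) ≤ N) :
    ¬ (IsCyclic ((P : Subgroup G).map (QuotientGroup.mk' N)) ∨
      (p = 2 ∧ ∃ n : ℕ, 1 ≤ n ∧ Nonempty (((P : Subgroup G).map (QuotientGroup.mk' N)) ≃* QuaternionGroup (2 ^ n)))) := by
  set π := QuotientGroup.mk' N with hπ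
  have hπs : Function.Surjective π := QuotientGroup.mk'_surjective N
  obtain ⟨Pb, hPb⟩ : ∃ Pb : Sylow p (G ⧸ N), (Pb : Subgroup (G ⧸ N)) = (P : Subgroup G).map π :=
    ⟨P.mapSurjective hπs, Sylow.coe_mapSurjective _ _⟩
  have hsylcard : ∀ d : ℕ, (∃ m, d = p ^ m) → d ∣ Nat.card (G ⧸ N) → d ∣ Nat.card Pb := by
    rintro d ⟨m, rfl⟩ h
    rw [← (Pb : Subgroup (G ⧸ N)).card_mul_index] at h
    exact (Nat.Coprime.pow_left m ((hp.out.coprime_iff_not_dvd).2 Pb.not_dvd_index)).dvd_of_dvd_mul_right h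
  rintro (hcyc | ⟨rfl, n, hn, ⟨e⟩⟩)
  · obtain ⟨⟨x', hx'⟩, hgen⟩ := hcyc.exists_generator
    obtain ⟨x, hx, rfl⟩ := hx'
    have hcard : orderOf (π x) = Nat.card ((P : Subgroup G).map π) := by
      rw [← orderOf_eq_card_of_forall_mem_zpowers hgen]
      exact Subgroup.orderOf_coe (⟨π x, ⟨x, hx, rfl⟩⟩ : (P : Subgroup G).map π)
    have hxN : x ∉ N := by
      intro h
      apply hPN
      have h1 : π x = 1 := (QuotientGroup.eq_one_iff x).2 h
      rw [h1, orderOf_one] at hcard
      have h2 := Subgroup.card_eq_one.1 hcard.symm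
      rwa [Subgroup.map_eq_bot_iff, hπ, QuotientGroup.ker_mk'] at h2
    have h1 := dvd_card_centralizer hcam P hpN hx hxN
    rw [← hπ, hcard] at h1
    have h2 := hsylcard (p * Nat.card ((P : Subgroup G).map π)) (by
      obtain ⟨m, hm⟩ := IsPGroup.iff_card.1 (P.isPGroup'.map π)
      exact ⟨m + 1, by rw [hm, pow_succ, mul_comm]⟩) (h1.trans (card_subgroup_dvd_card _))
    have h3 : Nat.card Pb = Nat.card ((P : Subgroup G).map π) := by rw [← hPb]
    rw [h3] at h2
    have h4 := Nat.le_of_dvd Nat.card_pos h2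
    have h5 : 0 < Nat.card ((P : Subgroup G).map π) := Nat.card_pos
    have h6 := hp.out.two_le
    nlinarith
  · -- the element of order `2 ^ (n + 1)`
    have : NeZero (2 ^ n) := ⟨by positivity⟩
    have h2n : 2 ≤ 2 ^ n := by
      calc 2 = 2 ^ 1 := by norm_num
        _ ≤ 2 ^ n := Nat.pow_le_pow_right (by norm_num) hn
    obtain ⟨x', hx'⟩ : ∃ x', x' = e.symm (QuaternionGroup.a 1) := ⟨_, rfl⟩
    have hxo : orderOf x' = 2 * 2 ^ n := by
      rw [hx', MulEquiv.orderOf_eq, QuaternionGroup.orderOf_a_one]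
    obtain ⟨x, hx, hxx⟩ := x'.2
    have hco : orderOf (π x) = 2 * 2 ^ n := by rw [hxx, orderOf_coe, hxo]
    have hxN : x ∉ N := by
      intro h
      have h1 : π x = 1 := (QuotientGroup.eq_one_iff x).2 h
      rw [h1, orderOf_one] at hco
      omega
    have h1 := dvd_card_centralizer hcam P hpN hx hxN
    rw [← hπ, hco] at h1
    have hPc : Nat.card Pb = 2 * (2 * 2 ^ n) := by
      have h3 : Nat.card Pb = Nat.card ((P : Subgroup G).map π) := by rw [← hPb]
      rw [h3, Nat.card_congr e.toEquiv, Nat.card_eq_fintype_card, QuaternionGroup.card]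
      ring
    rw [← hPc] at h1
    set c := π x with hc
    obtain ⟨S, hS⟩ := LocBase.exists_isSyl 2 (centralizer ({c} : Set (G ⧸ N)))
    have hSc : Nat.card Pb ∣ Nat.card S := by
      rw [← Cores.card_mul_relIndex hS.le] at h1
      refine Nat.Coprime.dvd_of_dvd_mul_right ?_ h1
      obtain ⟨m, hm⟩ := IsPGroup.iff_card.1 Pb.isPGroup'
      rw [hm]
      exact Nat.Coprime.pow_left m ((Nat.prime_two.coprime_iff_not_dvd).2 hS.ndvd)
    have hcS : c ∈ S := by
      have hcz : IsPGroup 2 (zpowers c) := IsPGroup.of_card (n := n + 1) (by rw [Nat.card_zpowers, hco, pow_succ, mul_comm])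
      have h2 : zpowers c ≤ normalizer (S : Set (G ⧸ N)) := by
        rw [zpowers_le]
        have h3 : S ≤ centralizer ({c} : Set (G ⧸ N)) := hS.le
        rw [mem_normalizer_iff]
        intro y
        constructor
        · intro hy
          have h4 := mem_centralizer_singleton_iff.1 (h3 hy)
          rw [← h4, mul_inv_cancel_right]
          exact hy
        · intro hy
          have h4 := mem_centralizer_singleton_iff.1 (h3 hy)
          have h5 : c * y * c⁻¹ = y := by
            have h6 : c * (c * y * c⁻¹) = c * y := by rw [← h4]; group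
            exact mul_left_cancel h6
          rwa [h5] at hy
      have h3 := LocBase.isPGroup_sup hS.pgroup hcz h2
      have h4 := hS.eq_of_le h3 (sup_le hS.le (by rw [zpowers_le]; exact mem_centralizer_singleton_iff.2 rfl)) le_sup_left
      rw [h4]
      exact (le_sup_right : zpowers c ≤ S ⊔ zpowers c) (mem_zpowers c)
    obtain ⟨g, -, hg⟩ := (LocBase.isSyl_top Pb).exists_conj_le hS.pgroup le_top
    have hge : S.map (MulAut.conj g).toMonoidHom = (Pb : Subgroup (G ⧸ N)) := by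
      apply Subgroup.eq_of_le_of_card_ge hg
      rw [LocBase.card_map_conj]
      exact Nat.le_of_dvd Nat.card_pos hSc
    -- `g c g⁻¹` is central in `Pb`
    have hcP : g * c * g⁻¹ ∈ (P : Subgroup G).map π := by
      rw [← hPb, ← hge]
      exact ⟨c, hcS, rfl⟩
    have hz : (e ⟨g * c * g⁻¹, hcP⟩) ^ 2 = 1 := by
      apply quat_center h2n
      intro y
      obtain ⟨y, rfl⟩ := e.surjective y
      rw [← map_mul, ← map_mul]
      congr 1
      apply Subtype.ext
      have hy : (y : G ⧸ N) ∈ S.map (MulAut.conj g).toMonoidHom := by rw [hge, hPb]; exact y.2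
      obtain ⟨s, hs, hsy⟩ := hy
      have h4 := mem_centralizer_singleton_iff.1 (hS.le hs)
      change (y : G ⧸ N) * (g * c * g⁻¹) = (g * c * g⁻¹) * y
      rw [← hsy]
      change (g * s * g⁻¹) * (g * c * g⁻¹) = (g * c * g⁻¹) * (g * s * g⁻¹)
      calc (g * s * g⁻¹) * (g * c * g⁻¹) = g * (s * c) * g⁻¹ := by group
        _ = (g * c * g⁻¹) * (g * s * g⁻¹) := by rw [h4]; group
    have hz2 : (g * c * g⁻¹) ^ 2 = 1 := by
      have h5 : e ((⟨g * c * g⁻¹, hcP⟩ : (P : Subgroup G).map π) ^ 2) = e 1 := by rw [map_pow, hz, map_one]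
      exact congrArg Subtype.val (e.injective h5)
    have h6 : orderOf (g * c * g⁻¹) = 2 * 2 ^ n := by
      rw [← hco]; exact MulEquiv.orderOf_eq (MulAut.conj g) c
    have h7 := Nat.le_of_dvd (by norm_num) (orderOf_dvd_of_pow_eq_one hz2)
    rw [h6] at h7
    omega

/-- If `N` has a normal `q`-complement, the Sylow `p`-subgroups of `G/N` are cyclic or quaternion. -/
theorem cyclic_or_quat (hcam : ∀ g : G, g ∉ N → ∀ n ∈ N, ∃ x : G, x * g * x⁻¹ = g * n)
    {p q : ℕ} [hp : Fact p.Prime] [hq : Fact q.Prime] (hpq : p ≠ q) (P : Sylow p G) (hqN : q ∣ Nat.card N)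
    (hc : HasNormalPComplement q N) :
    IsCyclic ((P : Subgroup G).map (QuotientGroup.mk' N)) ∨
      (p = 2 ∧ ∃ n : ℕ, 1 ≤ n ∧ Nonempty (((P : Subgroup G).map (QuotientGroup.mk' N)) ≃* QuaternionGroup (2 ^ n))) := by
  let π := QuotientGroup.mk' N
  have hπs : Function.Surjective π := QuotientGroup.mk'_surjective N
  obtain ⟨K, hK, hqK, k, hk⟩ := PNilp.hasNormalPComplement_iff.1 hc
  obtain ⟨Q, hQ⟩ := LocBase.exists_isSyl q N
  let H := normalizer (Q : Set G)
  -- `G = N H`
  have hNH : ∀ g : G, ∃ n ∈ N, ∃ y ∈ H, g = n * y := by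
    intro g
    obtain ⟨n, hn, y, hy, e⟩ := hQ.frattini le_top (by rw [normalizer_eq_top_iff.2 hNn]) (mem_top g)
    exact ⟨n, hn, y, hy.2, e⟩
  let f : H →* G ⧸ N := π.comp H.subtype
  have hf : Function.Surjective f := by
    intro z
    obtain ⟨g, rfl⟩ := hπs z
    obtain ⟨n, hn, y, hy, rfl⟩ := hNH g
    refine ⟨⟨y, hy⟩, ?_⟩
    show π y = π (n * y)
    rw [map_mul, show π n = 1 from (QuotientGroup.eq_one_iff n).2 hn, one_mul]
  obtain ⟨R⟩ : Nonempty (Sylow p H) := inferInstance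
  let P1 : Subgroup G := (R : Subgroup H).map H.subtype
  have hP1H : P1 ≤ H := map_subtype_le _
  have hP1p : IsPGroup p P1 := R.isPGroup'.map _
  have hP1map : P1.map π = (R : Subgroup H).map f := by rw [Subgroup.map_map]
  -- the abelian group `V`
  let V : Subgroup G := Q ⊓ centralizer (Q : Set G)
  have hVQ : V ≤ Q := inf_le_left
  have hVN : V ≤ N := hVQ.trans hQ.le
  have hVc : ∀ a ∈ V, ∀ b ∈ V, a * b = b * a := fun a ha b hb => mem_centralizer_iff.1 hb.2 a ha.1
  have hQ1 : Nontrivial Q := by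
    rw [nontrivial_iff_ne_bot]
    intro h
    apply hQ.ndvd
    rw [h, relIndex_bot_left]
    exact hqN
  have hVne : Nontrivial V := by
    have h2 := hQ.pgroup.center_nontrivial
    obtain ⟨⟨z, hz⟩, hz1⟩ := exists_ne (1 : Subgroup.center Q)
    have hzV : (z : G) ∈ V := by
      refine ⟨z.2, mem_centralizer_iff.2 ?_⟩
      intro g hg
      exact congrArg Subtype.val (Subgroup.mem_center_iff.1 hz ⟨g, hg⟩)
    refine ⟨⟨z, hzV⟩, 1, fun h => hz1 ?_⟩
    have h0 : (z : G) = 1 := congrArg (fun v : V => (v : G)) h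
    exact Subtype.ext (Subtype.ext h0)
  have hHV : H ≤ normalizer (V : Set G) := by
    exact LocBase.le_normalizer_inf le_rfl (LocBase.le_normalizer_centralizer le_rfl)
  have hP1V : P1 ≤ normalizer (V : Set G) := hP1H.trans hHV
  -- elements of `P1 ∩ N` centralize `Q`
  have hcent : ∀ a ∈ P1, a ∈ N → ∀ x ∈ Q, a * x = x * a := by
    intro a ha haN x hx
    have haK : (⟨a, haN⟩ : N) ∈ K := by
      obtain ⟨m, hm⟩ := hP1p ⟨a, ha⟩
      have h0 : a ^ p ^ m = 1 := congrArg (fun v : P1 => (v : G)) hm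
      have h1 : (⟨a, haN⟩ : N) ^ p ^ m = 1 := Subtype.ext h0
      have h2 : (⟨a, haN⟩ : N) ^ q ^ k ∈ K := by
        rw [← hk]
        exact Subgroup.pow_index_mem K _
      have hcop : Nat.Coprime (q ^ k) (p ^ m) := Nat.Coprime.pow _ _ ((Nat.coprime_primes hq.out hp.out).2 hpq.symm)
      have h3 : Nat.Coprime (q ^ k) (orderOf (⟨a, haN⟩ : N)) := hcop.coprime_dvd_right (orderOf_dvd_of_pow_eq_one h1)
      obtain ⟨j, hj⟩ := exists_pow_eq_self_of_coprime h3
      rw [← hj]
      exact pow_mem h2 j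
    have h1 : a * x * a⁻¹ * x⁻¹ ∈ Q := mul_mem ((mem_normalizer_iff.1 (hP1H ha) x).1 hx) (inv_mem hx)
    have h2 : (⟨a, haN⟩ : N) * (⟨x, hQ.le hx⟩ * (⟨a, haN⟩ : N)⁻¹ * ⟨x, hQ.le hx⟩⁻¹) ∈ K :=
      mul_mem haK (hK.conj_mem _ (inv_mem haK) _)
    have h3 : a * x * a⁻¹ * x⁻¹ = 1 := by
      obtain ⟨m, hm⟩ := hQ.pgroup ⟨_, h1⟩
      have h4 : (a * x * a⁻¹ * x⁻¹) ^ q ^ m = 1 := congrArg Subtype.val hm
      have h5 := orderOf_dvd_natCard (⟨_, h2⟩ : K)
      rw [Subgroup.orderOf_mk] at h5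
      have h6 : orderOf (a * x * a⁻¹ * x⁻¹) ∣ Nat.card K := by
        have h7 : orderOf (((⟨a, haN⟩ : N) * (⟨x, hQ.le hx⟩ * (⟨a, haN⟩ : N)⁻¹ * ⟨x, hQ.le hx⟩⁻¹) : N) : G) =
            orderOf ((⟨a, haN⟩ : N) * (⟨x, hQ.le hx⟩ * (⟨a, haN⟩ : N)⁻¹ * ⟨x, hQ.le hx⟩⁻¹)) := orderOf_coe _
        have h8 : (((⟨a, haN⟩ : N) * (⟨x, hQ.le hx⟩ * (⟨a, haN⟩ : N)⁻¹ * ⟨x, hQ.le hx⟩⁻¹) : N) : G) =
            a * x * a⁻¹ * x⁻¹ := by simp [mul_assoc]
        rw [h8] at h7
        rw [h7]; exact h5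
      have h9 : Nat.Coprime (Nat.card K) (q ^ m) :=
        Nat.Coprime.pow_right _ ((hq.out.coprime_iff_not_dvd).2 hqK).symm
      have h10 := Nat.dvd_gcd h6 (orderOf_dvd_of_pow_eq_one h4)
      rw [h9] at h10
      exact orderOf_eq_one_iff.1 (Nat.dvd_one.1 h10)
    rw [mul_inv_eq_one, mul_inv_eq_iff_eq_mul] at h3
    exact h3
  -- other elements act fixed-point-freely
  have hfpf : ∀ a ∈ P1, a ∉ N → ∀ v ∈ V, a * v = v * a → v = 1 := by
    intro a ha haN v hv h
    by_contra hv1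
    obtain ⟨m, hm⟩ := hQ.pgroup ⟨v, hVQ hv⟩
    obtain ⟨m', hm'⟩ := hP1p ⟨a, ha⟩
    have h1 : a ^ p ^ m' = 1 := congrArg Subtype.val hm'
    refine haN (mem_of_commute hcam (hVN hv) hv1 (p := q) (m := m) (congrArg Subtype.val hm) h ?_)
    exact Nat.Coprime.coprime_dvd_left (orderOf_dvd_of_pow_eq_one h1)
      (Nat.Coprime.pow_left _ ((Nat.coprime_primes hp.out hq.out).2 hpq))
  let act := FrobAction2.conjAct hP1V
  let f2 : P1 →* G ⧸ N := π.comp P1.subtype
  have hker : act.ker = f2.ker := by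
    ext a
    rw [MonoidHom.mem_ker, MonoidHom.mem_ker]
    constructor
    · intro h
      by_contra hne
      have haN : (a : G) ∉ N := fun h => hne ((QuotientGroup.eq_one_iff (a : G)).2 h)
      obtain ⟨v, hv⟩ := exists_ne (1 : V)
      apply hv
      apply Subtype.ext
      apply hfpf a a.2 haN v v.2
      exact (FrobAction2.conjAct_fixed hP1V a v).1 (by change act a v = v; rw [h]; rfl)
    · intro h
      have haN : (a : G) ∈ N := (QuotientGroup.eq_one_iff (a : G)).1 h
      ext v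
      change ((FrobAction2.conjAct hP1V a v : V) : G) = v
      rw [FrobAction2.conjAct_apply, hcent a a.2 haN v (hVQ v.2), mul_inv_cancel_right]
  let _ : CommGroup V := { (inferInstance : Group V) with mul_comm := fun a b => Subtype.ext (hVc a a.2 b b.2) }
  have hFPF : FrobAction.IsFPF (V := V) (act.range.subtype) := by
    rintro ⟨_, ⟨a, rfl⟩⟩ ha v hv
    have haN : (a : G) ∉ N := by
      intro h
      apply ha
      apply Subtype.ext
      show act a = 1
      rw [← MonoidHom.mem_ker, hker, MonoidHom.mem_ker]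
      exact (QuotientGroup.eq_one_iff (a : G)).2 h
    apply Subtype.ext
    apply hfpf a a.2 haN v v.2
    exact (FrobAction2.conjAct_fixed hP1V a v).1 hv
  have hfin : Finite act.range := Finite.of_surjective act.rangeRestrict act.rangeRestrict_surjective
  have hAp : IsPGroup p act.range := hP1p.of_surjective act.rangeRestrict act.rangeRestrict_surjective
  have key := FrobAction.pgroup_cyclic_or_quaternion hFPF hAp
  -- transport
  have e1 : act.range ≃* f2.range :=
    (QuotientGroup.quotientKerEquivRange act).symm.trans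
      ((QuotientGroup.quotientMulEquivOfEq hker).trans (QuotientGroup.quotientKerEquivRange f2))
  have h2r : f2.range = (R.mapSurjective hf : Subgroup (G ⧸ N)) := by
    rw [Sylow.coe_mapSurjective, ← hP1map]
    show (π.comp P1.subtype).range = _
    rw [MonoidHom.range_comp, Subgroup.range_subtype]
  have e2 : f2.range ≃* (R.mapSurjective hf : Subgroup (G ⧸ N)) := MulEquiv.subgroupCongr h2r
  have e3 : (R.mapSurjective hf : Subgroup (G ⧸ N)) ≃* (P.mapSurjective hπs : Subgroup (G ⧸ N)) :=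
    Sylow.equiv _ _
  have e4 : (P.mapSurjective hπs : Subgroup (G ⧸ N)) ≃* (P : Subgroup G).map π :=
    MulEquiv.subgroupCongr (Sylow.coe_mapSurjective _ _)
  have e := ((e1.trans e2).trans e3).trans e4
  rcases key with h | ⟨h, n, hn, ⟨e'⟩⟩
  · left
    exact e.isCyclic.1 h
  · right
    exact ⟨h, n, hn, ⟨e.symm.trans e'⟩⟩

/-- a prime dividing `|G/N|` but not `|N|` forces `N` to be nilpotent -/
theorem nilpotent_of_not_dvd (hcam : ∀ g : G, g ∉ N → ∀ n ∈ N, ∃ x : G, x * g * x⁻¹ = g * n)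
    {q : ℕ} (hq : q.Prime) (h1 : q ∣ N.index) (h2 : ¬ q ∣ Nat.card N) : Group.IsNilpotent N := by
  have := Fact.mk hq
  obtain ⟨g, hg⟩ := exists_prime_orderOf_dvd_card' (G := G) q (h1.trans N.index_dvd_card)
  have hgN : g ∉ N := by
    intro h
    apply h2
    have h3 := orderOf_dvd_natCard (⟨g, h⟩ : N)
    rwa [Subgroup.orderOf_mk, hg] at h3
  apply H31FPFNilp2.isNilpotent hq (MulAut.conjNormal g : MulAut N)
  · intro n hn
    by_contra hn1
    have hc : Commute g (n : G) := by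
      have h3 := congrArg Subtype.val hn
      change ((MulAut.conjNormal g n : N) : G) = n at h3
      rw [MulAut.conjNormal_apply, mul_inv_eq_iff_eq_mul] at h3
      exact h3
    have hno : orderOf n ≠ 1 := fun h => hn1 (orderOf_eq_one_iff.1 h)
    obtain ⟨r, hr, hrd⟩ := Nat.exists_prime_and_dvd hno
    have hrN : r ∣ Nat.card N := hrd.trans (orderOf_dvd_natCard n)
    have hrq : r ≠ q := by rintro rfl; exact h2 hrN
    have hxo : orderOf (n ^ (orderOf n / r)) = r := orderOf_pow_orderOf_div (orderOf_pos n).ne' hrd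
    refine hgN (mem_of_commute hcam (p := r) (m := 1) (x := (n : G) ^ (orderOf n / r)) (pow_mem n.2 _) ?_ ?_
      (hc.pow_right _) ?_)
    · intro h
      have h3 : n ^ (orderOf n / r) = 1 := Subtype.ext h
      rw [h3, orderOf_one] at hxo
      exact hr.one_lt.ne hxo
    · have h3 : (n ^ (orderOf n / r)) ^ r = 1 := by
        have h4 := pow_orderOf_eq_one (n ^ (orderOf n / r))
        rwa [hxo] at h4
      rw [pow_one]
      exact congrArg Subtype.val h3
    · rw [hg]
      exact (Nat.coprime_primes hq hr).2 hrq.symm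
  · rw [← map_pow, ← hg, pow_orderOf_eq_one, map_one]

theorem not_le_of_dvd {p : ℕ} [hp : Fact p.Prime] (P : Sylow p G) (h : p ∣ N.index) :
    ¬ (P : Subgroup G) ≤ N := fun hle => P.not_dvd_index (h.trans (index_dvd_of_le hle))

theorem npc_of_dvd (hcam : ∀ g : G, g ∉ N → ∀ n ∈ N, ∃ x : G, x * g * x⁻¹ = g * n)
    {q : ℕ} [hq : Fact q.Prime] (h1 : q ∣ N.index) : HasNormalPComplement q N := by
  obtain ⟨P⟩ : Nonempty (Sylow q G) := inferInstance
  apply TateApps.tate_frattini P N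
  refine (le_derived hcam P (not_le_of_dvd P h1)).trans ?_
  exact Subgroup.map_mono (H70Frattini.commutator_le_frattini P.isPGroup')

theorem trichotomy (hN1 : N ≠ ⊥) (hN2 : N ≠ ⊤)
    (hcam : ∀ g : G, g ∉ N → ∀ n ∈ N, ∃ x : G, x * g * x⁻¹ = g * n) :
    (∀ x ∈ N, x ≠ 1 → centralizer ({x} : Set G) ≤ N) ∨ IsPrimePow (Nat.card N) ∨ IsPrimePow N.index := by
  by_contra hcon
  push Not at hcon
  obtain ⟨⟨x, hxN, hx1, hxc⟩, hpp1, hpp2⟩ := hcon
  obtain ⟨g, hgc, hgN⟩ := SetLike.not_le_iff_exists.1 hxc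
  have hcomm : Commute g x := mem_centralizer_singleton_iff.1 hgc
  obtain ⟨p, hp, hpd⟩ := Nat.exists_prime_and_dvd (fun h => hx1 (orderOf_eq_one_iff.1 h) : orderOf x ≠ 1)
  have := Fact.mk hp
  have hpN : p ∣ Nat.card N := by
    have h3 := orderOf_dvd_natCard (⟨x, hxN⟩ : N)
    rw [Subgroup.orderOf_mk] at h3
    exact hpd.trans h3
  have hxo : orderOf (x ^ (orderOf x / p)) = p := orderOf_pow_orderOf_div (orderOf_pos x).ne' hpd
  obtain ⟨m, hm⟩ := PNilp.exists_pow_coprime p g
  have hgm : g ^ p ^ m ∈ N := by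
    refine mem_of_commute hcam (p := p) (m := 1) (x := x ^ (orderOf x / p)) (pow_mem hxN _) ?_ ?_
      ((hcomm.pow_right _).pow_left _) hm
    · intro h
      rw [h, orderOf_one] at hxo
      exact hp.one_lt.ne hxo
    · have h4 := pow_orderOf_eq_one (x ^ (orderOf x / p))
      rw [pow_one]
      rwa [hxo] at h4
  have hpI : p ∣ N.index := by
    have h1 : (QuotientGroup.mk' N g) ^ p ^ m = 1 := by
      rw [← map_pow]; exact (QuotientGroup.eq_one_iff _).2 hgm
    have h2 : QuotientGroup.mk' N g ≠ 1 := fun h => hgN ((QuotientGroup.eq_one_iff g).1 h)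
    obtain ⟨j, -, hj⟩ := (Nat.dvd_prime_pow hp).1 (orderOf_dvd_of_pow_eq_one h1)
    have hj0 : j ≠ 0 := by
      rintro rfl
      rw [pow_zero, orderOf_eq_one_iff] at hj
      exact h2 hj
    have h3 : p ∣ orderOf (QuotientGroup.mk' N g) := by rw [hj]; exact dvd_pow_self p hj0
    exact h3.trans (orderOf_dvd_natCard _)
  -- other primes
  have other : ∀ n : ℕ, n ≠ 0 → n ≠ 1 → ¬ IsPrimePow n → ∃ r : ℕ, r.Prime ∧ r ∣ n ∧ p ≠ r := by
    intro n hn0 hn1 hn
    by_contra h
    push Not at h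
    have h1 : n = p ^ n.primeFactorsList.length :=
      Nat.eq_prime_pow_of_unique_prime_dvd hn0 (fun {d} hd hdn => (h d hd hdn).symm)
    apply hn
    rw [h1]
    apply hp.isPrimePow.pow
    intro h2
    rw [h2, pow_zero] at h1
    exact hn1 h1
  obtain ⟨r, hr, hrN, hpr⟩ := other _ Nat.card_pos.ne' (fun h => hN1 (Subgroup.card_eq_one.1 h)) hpp1
  obtain ⟨q, hq, hqI, hpq⟩ := other _ index_ne_zero_of_finite (fun h => hN2 (index_eq_one.1 h)) hpp2
  have := Fact.mk hr
  have := Fact.mk hq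
  obtain ⟨P⟩ : Nonempty (Sylow p G) := inferInstance
  apply not_cyclic hcam P hpN (not_le_of_dvd P hpI)
  by_cases hqN : q ∣ Nat.card N
  · exact cyclic_or_quat hcam hpq P hqN (npc_of_dvd hcam hqI)
  · have hnil := nilpotent_of_not_dvd hcam hq hqI hqN
    exact cyclic_or_quat hcam hpr P hrN (HallComplement.hasNormalPComplement_of_isNilpotent r)

end Cfsg.Agent.Lib.H64Cam
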