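import Mathlib
import Cfsg.Agent.Lib.CentMaximal
import Cfsg.Agent.Lib.RelSylow
import Cfsg.Agent.Lib.Transfer
import Cfsg.Agent.Lib.PNilp
import Cfsg.Agent.Lib.ActNilp
import Cfsg.Agent.S0659

/-!
# A fusion lemma for groups in which centralizers of noncentral `p`-elements are large (helper64)
-/

set_option autoImplicit false
set_option linter.unusedSectionVars false

namespace Cfsg.Agent.Lib.H64CentMaxF

open Subgroup Cfsg.Agent.Lib.CentMaximal Cfsg.Agent.Lib.RelSylow
open scoped commutatorElement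

variable {H : Type*} [Group H] [Finite H] {p : ℕ} [hp : Fact p.Prime]

omit hp in
theorem pel_of_pow {x : H} {k : ℕ} (h : x ^ p ^ k = 1) (hpp : p.Prime) : PEl p x := by
  intro r hr hrd
  have h1 : orderOf x ∣ p ^ k := orderOf_dvd_of_pow_eq_one h
  exact (Nat.prime_dvd_prime_iff_eq hr hpp).1 (hr.dvd_of_dvd_pow (hrd.trans h1))

theorem pel_of_mem {S : Subgroup H} (hS : IsPGroup p S) {x : H} (hx : x ∈ S) : PEl p x := by
  obtain ⟨k, hk⟩ := hS ⟨x, hx⟩
  exact pel_of_pow (k := k) (by simpa using congrArg Subtype.val hk) hp.out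

theorem isPGroup_zpowers {x : H} (hx : PEl p x) : IsPGroup p (zpowers x) := by
  obtain ⟨k, hk⟩ := hx.pow
  exact IsPGroup.of_card (n := k) (by rw [Nat.card_zpowers]; exact hk)

theorem mem_syl_of_nilp {M S : Subgroup H} (hM : Group.IsNilpotent M) (hS : IsSyl p S M) {u : H}
    (hu : u ∈ M) (hup : PEl p u) : u ∈ S := by
  obtain ⟨Q, hQ, -⟩ := hS.exists_sylow
  have hn : (Q : Subgroup M).Normal :=
    Sylow.normal_of_normalizerCondition (Group.normalizerCondition_of_isNilpotent) Q
  have h1 : IsPGroup p (zpowers (⟨u, hu⟩ : M)) := by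
    apply isPGroup_zpowers
    intro r hr hrd
    rw [Subgroup.orderOf_mk] at hrd
    exact hup r hr hrd
  obtain ⟨R, hR⟩ := h1.exists_le_sylow
  have h2 : R = Q := by
    have := Sylow.unique_of_normal Q hn
    exact Subsingleton.elim _ _
  rw [← hQ]
  exact ⟨⟨u, hu⟩, by rw [← h2]; exact hR (mem_zpowers _), rfl⟩

/-- conjugation and centralizers of elements -/
theorem conj_mem_C {x y : H} (g : H) : y ∈ C (g * x * g⁻¹) ↔ g⁻¹ * y * g ∈ C x := by
  rw [mem_C, mem_C]
  constructor
  · intro h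
    calc g⁻¹ * y * g * x = g⁻¹ * (y * (g * x * g⁻¹)) * g := by group
      _ = g⁻¹ * (g * x * g⁻¹ * y) * g := by rw [h]
      _ = _ := by group
  · intro h
    calc y * (g * x * g⁻¹) = g * (g⁻¹ * y * g * x) * g⁻¹ := by group
      _ = g * (x * (g⁻¹ * y * g)) * g⁻¹ := by rw [h]
      _ = _ := by group

/-- the data of the fusion lemma -/
structure Data (p : ℕ) (H : Type*) [Group H] : Prop where
  /-- `p'`-elements commuting with noncentral `p`-elements are central -/
  cent : ∀ y : H, y ∉ center H → PEl p y → ∀ v ∈ C y, PEl' p v → v ∈ center H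
  /-- centralizers are nonabelian -/
  nonab : ∀ y : H, y ∉ center H → PEl p y → ¬ IsMulCommutative (C y)
  /-- centralizers are self-normalizing -/
  self : ∀ y : H, y ∉ center H → PEl p y → normalizer (C y : Set H) = C y

theorem pow_mem' {y : H} (hcent : ∀ v ∈ C y, PEl' p v → v ∈ center H) :
    ∀ m ∈ C y, ∃ k : ℕ, m ^ p ^ k ∈ center H := by
  intro m hm
  obtain ⟨u, v, hu, hv, huv, hup, hvp, -, -⟩ := split p m
  have hvZ := hcent v ((zpowers_le.2 hm) hv) hvp
  obtain ⟨k, hk⟩ := hup.pow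
  refine ⟨k, ?_⟩
  have hcomm : Commute u v := (mem_center_iff.1 hvZ u)
  rw [← huv, hcomm.mul_pow, ← hk, pow_orderOf_eq_one, one_mul]
  exact Subgroup.pow_mem _ hvZ _

theorem nilp' {y : H} (hcent : ∀ v ∈ C y, PEl' p v → v ∈ center H) : Group.IsNilpotent (C y) :=
  (nilp_of_pow (pow_mem' hcent)).2

/-- the Sylow subgroup of a centralizer -/
theorem syl' {y : H} (hyp : PEl p y) (hcent : ∀ v ∈ C y, PEl' p v → v ∈ center H)
    (hself : normalizer (C y : Set H) = C y) {S : Subgroup H} (hS : IsSyl p S (C y)) :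
    IsSyl p S ⊤ ∧ C y = S ⊔ center H ∧ y ∈ S ∧ normalizer (S : Set H) ≤ C y := by
  have hn := nilp' hcent
  have hsup : C y = S ⊔ center H := by
    apply le_antisymm
    · intro c hc
      obtain ⟨u, v, hu, hv, huv, hup, hvp, -, -⟩ := split p c
      rw [← huv]
      exact mul_mem_sup (mem_syl_of_nilp hn hS ((zpowers_le.2 hc) hu) hup)
        (hcent v ((zpowers_le.2 hc) hv) hvp)
    · exact sup_le hS.1 (center_le_C y)
  have hnor : normalizer (S : Set H) ≤ C y := by
    intro t ht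
    rw [← hself, mem_normalizer_iff_map, hsup, Subgroup.map_sup, mem_normalizer_iff_map.1 ht]
    congr 1
    exact characteristic_iff_map_eq.1 inferInstance (MulAut.conj t)
  refine ⟨?_, hsup, mem_syl_of_nilp hn hS (self_mem_C y) hyp, hnor⟩
  obtain ⟨T, hST, hT⟩ := exists_isSyl_ge hS.2.1 (le_top : S ≤ ⊤)
  rcases eq_or_lt_of_le hST with h1 | h1
  · rwa [h1]
  · exfalso
    have h2 := H64Basic.lt_inf_normalizer hT.2.1 h1
    have h3 := hS.eq_of_le (hT.2.1.to_le (inf_le_left : T ⊓ normalizer (S : Set H) ≤ T))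
      (inf_le_right.trans hnor) h2.le
    exact h2.ne h3

variable (d : Data p H)
include d

theorem nilp {y : H} (hy : y ∉ center H) (hyp : PEl p y) : Group.IsNilpotent (C y) :=
  nilp' (d.cent y hy hyp)

theorem syl {y : H} (hy : y ∉ center H) (hyp : PEl p y) {S : Subgroup H} (hS : IsSyl p S (C y)) :
    IsSyl p S ⊤ ∧ C y = S ⊔ center H ∧ y ∈ S ∧ normalizer (S : Set H) ≤ C y :=
  syl' hyp (d.cent y hy hyp) (d.self y hy hyp) hS

theorem card_C {y z : H} (hy : y ∉ center H) (hyp : PEl p y) (hz : z ∉ center H) (hzp : PEl p z) :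
    Nat.card (C y) = Nat.card (C z) := by
  obtain ⟨S, hS⟩ := exists_syl p (C y)
  obtain ⟨T, hT⟩ := exists_syl p (C z)
  obtain ⟨hS1, hS2, -, -⟩ := syl d hy hyp hS
  obtain ⟨hT1, hT2, -, -⟩ := syl d hz hzp hT
  obtain ⟨h, -, hh⟩ := hS1.conj hT1
  have h1 : (C y).map (MulAut.conj h).toMonoidHom = C z := by
    rw [hS2, hT2, Subgroup.map_sup, hh]
    congr 1
    exact characteristic_iff_map_eq.1 inferInstance (MulAut.conj h)
  rw [← h1, card_conj]

theorem C_eq_of_le {y z : H} (hy : y ∉ center H) (hyp : PEl p y) (hz : z ∉ center H) (hzp : PEl p z)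
    (hle : C y ≤ C z) : C y = C z :=
  Subgroup.eq_of_le_of_card_ge hle (card_C d hy hyp hz hzp).ge

/-- no normal `p`-complement -/
theorem not_hasNormalPComplement {a : H} (ha : a ∉ center H) (hap : PEl p a) :
    ¬ Cfsg.HasNormalPComplement p H := by
  intro hc
  obtain ⟨S, hS⟩ := exists_syl p (C a)
  obtain ⟨hS1, hS2, haS, -⟩ := syl d ha hap hS
  obtain ⟨Q, hQ⟩ := hS1.toSylow
  apply d.nonab a ha hap
  have hcentral : ∀ y ∈ S, ∀ s ∈ S, y * s = s * y := by
    intro y hyS
    by_cases hyZ : y ∈ center H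
    · intro s _
      exact ((mem_center_iff.1 hyZ) s).symm
    have hyp : PEl p y := pel_of_mem hS1.2.1 hyS
    obtain ⟨T, hT⟩ := exists_syl p (C y)
    obtain ⟨hT1, hT2, hyT, -⟩ := syl d hyZ hyp hT
    obtain ⟨g, -, hg⟩ := hS1.conj hT1
    -- `y' = g⁻¹ y g` centralizes `S`
    have hy'S : g⁻¹ * y * g ∈ S := by
      rw [← mem_conj_iff, hg]; exact hyT
    have hy'c : ∀ s ∈ S, s * (g⁻¹ * y * g) = (g⁻¹ * y * g) * s := by
      intro s hs
      have h1 : g * s * g⁻¹ ∈ T := by
        rw [← hg]; exact ⟨s, hs, rfl⟩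
      have h2 := mem_C.1 (hT.1 h1)
      calc s * (g⁻¹ * y * g) = g⁻¹ * (g * s * g⁻¹ * y) * g := by group
        _ = g⁻¹ * (y * (g * s * g⁻¹)) * g := by rw [h2]
        _ = _ := by group
    obtain ⟨z, hz, hzx⟩ := Cfsg.Agent.Lib.Transfer.ownFusion_of_hasNormalPComplement Q hc g
    have hz' : z ∈ S := by rw [← hQ]; exact hz
    have h3 := hzx (g⁻¹ * y * g) (by
      show _ ∈ (Q : Subgroup H)
      rw [hQ]; exact hy'S) (by
      show _ ∈ (Q : Subgroup H)
      rw [hQ]
      have : g * (g⁻¹ * y * g) * g⁻¹ = y := by group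
      rw [this]; exact hyS)
    have h4 : y = g⁻¹ * y * g := by
      have e1 : g * (g⁻¹ * y * g) * g⁻¹ = y := by group
      rw [e1] at h3
      rw [← h3]
      have := hy'c z hz'
      calc z * (g⁻¹ * y * g) * z⁻¹ = (g⁻¹ * y * g) * z * z⁻¹ := by rw [this]
        _ = g⁻¹ * y * g := by group
        _ = _ := by rw [h3]
    intro s hs
    rw [h4]
    exact (hy'c s hs).symm
  rw [comm_iff_le]
  intro u hu v hv
  rw [hS2, mem_sup_of_normal_right] at hu hv
  obtain ⟨s, hs, z, hz, rfl⟩ := hu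
  obtain ⟨t, ht, w, hw, rfl⟩ := hv
  have h1 := hcentral s hs t ht
  have h2 : Commute z (t * w) := ((mem_center_iff.1 hz) (t * w)).symm
  have h3 : Commute s w := (mem_center_iff.1 hw) s
  have h4 : Commute s (t * w) := Commute.mul_right h1 h3
  exact (Commute.mul_left h4 h2).eq

/-- `p`-th powers of elements of the Sylow subgroup are central. -/
theorem pow_p_mem {a : H} (ha : a ∉ center H) (hap : a ^ p ∈ center H) (hap' : PEl p a) {S : Subgroup H}
    (hS : IsSyl p S (C a)) {y : H} (hy : y ∈ S) : y ^ p ∈ center H := by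
  obtain ⟨hS1, hS2, haS, -⟩ := syl d ha hap' hS
  -- elements with noncentral `p`-th power are central in `C a`
  have key : ∀ y ∈ S, y ^ p ∉ center H → C y = C a := by
    intro y hyS hyp
    have hya : Commute a y := (mem_C.1 (hS.1 hyS)).symm
    have hyZ : y ∉ center H := fun h => hyp (Subgroup.pow_mem _ h _)
    have hyP : PEl p y := pel_of_mem hS1.2.1 hyS
    have hypP : PEl p (y ^ p) := pel_of_mem hS1.2.1 (Subgroup.pow_mem _ hyS _)
    have hayP : PEl p (a * y) := pel_of_mem hS1.2.1 (mul_mem haS hyS)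
    have h1 : C (y ^ p) = C ((a * y) ^ p) := by
      ext c
      rw [mem_C, mem_C, hya.mul_pow]
      have h2 : Commute c (a ^ p) := (mem_center_iff.1 hap) c
      constructor
      · intro h
        exact (h2.mul_right h).eq
      · intro h
        have h3 : Commute c (a ^ p * y ^ p) := h
        have h4 : Commute c ((a ^ p)⁻¹ * (a ^ p * y ^ p)) := (h2.inv_right).mul_right h3
        rw [inv_mul_cancel_left] at h4
        exact h4.eq
    have hayZ : a * y ∉ center H := by
      intro h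
      apply hyp
      rw [← C_eq_top_iff, h1, C_eq_top_iff]
      exact Subgroup.pow_mem _ h _
    have h2 : C y = C (y ^ p) := C_eq_of_le d hyZ hyP hyp hypP
      (C_le_of_mem_zpowers (npow_mem_zpowers _ _))
    have h3 : C (a * y) = C (y ^ p) := C_eq_of_le d hayZ hayP hyp hypP (by
      rw [h1]
      exact C_le_of_mem_zpowers (npow_mem_zpowers _ _))
    apply C_eq_of_le d hyZ hyP ha hap'
    intro c hc
    have h4 : c ∈ C (a * y) := by rw [h3, ← h2]; exact hc
    rw [mem_C] at hc h4 ⊢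
    have h5 : Commute c (a * y * y⁻¹) := Commute.mul_right h4 (Commute.inv_right hc)
    rw [mul_inv_cancel_right] at h5
    exact h5.eq
  -- `S` is nonabelian
  obtain ⟨s, hs, t, ht, hst⟩ : ∃ s ∈ S, ∃ t ∈ S, s * t ≠ t * s := by
    by_contra hcon
    push Not at hcon
    apply d.nonab a ha hap'
    rw [comm_iff_le]
    intro u hu v hv
    rw [hS2, mem_sup_of_normal_right] at hu hv
    obtain ⟨s, hs, z, hz, rfl⟩ := hu
    obtain ⟨t, ht, w, hw, rfl⟩ := hv
    have h1 := hcon s hs t ht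
    have h2 : Commute z (t * w) := ((mem_center_iff.1 hz) (t * w)).symm
    have h3 : Commute s w := (mem_center_iff.1 hw) s
    have h4 : Commute s (t * w) := Commute.mul_right h1 h3
    exact (Commute.mul_left h4 h2).eq
  by_contra hyp
  have hyc : C y = C a := key y hy hyp
  have hys : Commute s y := mem_C.1 (by rw [hyc]; exact hS.1 hs)
  have hyt : Commute t y := mem_C.1 (by rw [hyc]; exact hS.1 ht)
  have hsp : s ^ p ∈ center H := by
    by_contra hsp
    apply hst
    have : t ∈ C s := by rw [key s hs hsp]; exact hS.1 ht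
    exact (mem_C.1 this).symm
  have hsyp : (s * y) ^ p ∈ center H := by
    by_contra hsp
    apply hst
    have : t ∈ C (s * y) := by rw [key _ (mul_mem hs hy) hsp]; exact hS.1 ht
    have h5 : Commute t (s * y * y⁻¹) := Commute.mul_right (mem_C.1 this) (Commute.inv_right hyt)
    rw [mul_inv_cancel_right] at h5
    exact h5.symm.eq
  apply hyp
  rw [hys.mul_pow] at hsyp
  have := mul_mem (inv_mem hsp) hsyp
  rwa [inv_mul_cancel_left] at this

/-- the case `p = 2` -/
theorem false_of_two (h2 : p = 2) {a : H} (ha : a ∉ center H) (hap : a ^ p ∈ center H) (hap' : PEl p a) :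
    False := by
  obtain ⟨S, hS⟩ := exists_syl p (C a)
  obtain ⟨hS1, hS2, haS, hSn⟩ := syl d ha hap' hS
  apply not_hasNormalPComplement d ha hap'
  obtain ⟨Q, hQ⟩ := hS1.toSylow
  -- commutators are central
  have hcomm : ∀ s ∈ S, ∀ t ∈ S, s * t * s⁻¹ * t⁻¹ ∈ center H := by
    intro s hs t ht
    have h3 := pow_p_mem d ha hap hap' hS hs
    have h4 := pow_p_mem d ha hap hap' hS ht
    have h5 := pow_p_mem d ha hap hap' hS (mul_mem hs ht)
    rw [h2] at h3 h4 h5
    have h6 : s * t * s⁻¹ * t⁻¹ = (s * t) ^ 2 * (s ^ 2)⁻¹ * (t ^ 2)⁻¹ := by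
      have h7 : t⁻¹ * (s ^ 2)⁻¹ = (s ^ 2)⁻¹ * t⁻¹ := (mem_center_iff.1 (inv_mem h3)) t⁻¹
      calc s * t * s⁻¹ * t⁻¹ = s * t * s * t * (t⁻¹ * (s ^ 2)⁻¹) * t⁻¹ := by rw [pow_two]; group
        _ = s * t * s * t * ((s ^ 2)⁻¹ * t⁻¹) * t⁻¹ := by rw [h7]
        _ = _ := by rw [pow_two, pow_two]; group
    rw [h6]
    exact mul_mem (mul_mem h5 (inv_mem h3)) (inv_mem h4)
  apply Cfsg.Agent.Lib.Transfer.hasNormalPComplement_of_ownFusion Q
  rintro y hyQ z hzQ ⟨h, hyz⟩
  have hy : y ∈ S := by rw [← hQ]; exact hyQ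
  have hz : z ∈ S := by rw [← hQ]; exact hzQ
  by_cases hyZ : y ∈ center H
  · refine ⟨1, Q.one_mem, ?_⟩
    have := (mem_center_iff.1 hyZ) h
    rw [← hyz, this]; group
  have hzZ : z ∉ center H := by
    intro hzc
    apply hyZ
    have := (inferInstance : (center H).Normal).conj_mem _ hzc h⁻¹
    rw [← hyz] at this
    have e : h⁻¹ * (h * y * h⁻¹) * h⁻¹⁻¹ = y := by group
    rwa [e] at this
  have hzP : PEl p z := pel_of_mem hS1.2.1 hz
  set R : Subgroup H := zpowers z ⊔ center H with hR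
  have hzR : z ∈ R := mem_sup_left (mem_zpowers z)
  have hnorm : ∀ g : H, g * z * g⁻¹ * z⁻¹ ∈ center H → g ∈ normalizer (R : Set H) := by
    have hle : ∀ g : H, g * z * g⁻¹ * z⁻¹ ∈ center H → R.map (MulAut.conj g).toMonoidHom ≤ R := by
      intro g hg
      have hcm : (center H).map (MulAut.conj g).toMonoidHom = center H :=
        characteristic_iff_map_eq.1 inferInstance (MulAut.conj g)
      rw [hR, Subgroup.map_sup, hcm]
      refine sup_le ?_ le_sup_right
      rw [MonoidHom.map_zpowers, zpowers_le]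
      show g * z * g⁻¹ ∈ R
      have := mul_mem ((le_sup_right : center H ≤ R) hg) hzR
      rwa [inv_mul_cancel_right] at this
    intro g hg
    rw [mem_normalizer_iff_map]
    exact Subgroup.eq_of_le_of_card_ge (hle g hg) (by rw [card_conj])
  have hSR : S ≤ normalizer (R : Set H) := fun s hs => hnorm s (hcomm s hs z hz)
  have hSR' : S.map (MulAut.conj h).toMonoidHom ≤ normalizer (R : Set H) := by
    rintro _ ⟨s, hs, rfl⟩
    apply hnorm
    show h * s * h⁻¹ * z * (h * s * h⁻¹)⁻¹ * z⁻¹ ∈ center H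
    have h3 := (inferInstance : (center H).Normal).conj_mem _ (hcomm s hs y hy) h
    have e : h * s * h⁻¹ * z * (h * s * h⁻¹)⁻¹ * z⁻¹ = h * (s * y * s⁻¹ * y⁻¹) * h⁻¹ := by
      rw [← hyz]; group
    rw [e]; exact h3
  have hS3 : IsSyl p S (normalizer (R : Set H)) := hS1.of_le hSR le_top
  have hS4 : IsSyl p (S.map (MulAut.conj h).toMonoidHom) (normalizer (R : Set H)) :=
    (hS1.conj_isSyl' (g := h) (by
      rw [normalizer_eq_top_iff.2 (inferInstance : (⊤ : Subgroup H).Normal)]; trivial)).of_le hSR' le_top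
  obtain ⟨k, hk, hkS⟩ := hS4.conj hS3
  rw [conj_conj] at hkS
  have hkh : k * h ∈ C a := hSn (mem_normalizer_iff_map.2 hkS)
  -- `k` centralizes `z`
  have hkz : k ∈ C z := by
    rw [← d.self z hzZ hzP]
    have hCR : C z = centralizer (R : Set H) := by
      apply le_antisymm
      · intro c hc
        rw [mem_centralizer_iff]
        intro r hr
        have h3 : R ≤ C c := by
          rw [hR]
          exact sup_le (zpowers_le.2 (mem_C_comm.1 hc)) (center_le_C c)
        exact mem_C.1 (h3 hr)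
      · intro c hc
        rw [mem_C]
        exact (mem_centralizer_iff.1 hc z hzR).symm
    rw [hCR]
    have h3 := mem_normalizer_iff_map.1 hk
    rw [mem_normalizer_iff_map]
    apply Subgroup.eq_of_le_of_card_ge _ (by rw [card_conj])
    rintro _ ⟨c, hc, rfl⟩
    show k * c * k⁻¹ ∈ centralizer (R : Set H)
    rw [mem_centralizer_iff]
    intro r hr
    have h4 : k⁻¹ * r * k ∈ R := by
      rw [← mem_conj_iff, h3]; exact hr
    have h5 := mem_centralizer_iff.1 hc _ h4
    calc r * (k * c * k⁻¹) = k * ((k⁻¹ * r * k) * c) * k⁻¹ := by group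
      _ = k * (c * (k⁻¹ * r * k)) * k⁻¹ := by rw [h5]
      _ = _ := by group
  rw [hS2, mem_sup_of_normal_right] at hkh
  obtain ⟨s, hs, w, hw, hsw⟩ := hkh
  refine ⟨s, by show s ∈ (Q : Subgroup H); rw [hQ]; exact hs, ?_⟩
  have h3 : (k * h) * y * (k * h)⁻¹ = z := by
    have : k * z * k⁻¹ = z := by rw [mem_C.1 hkz]; group
    calc (k * h) * y * (k * h)⁻¹ = k * (h * y * h⁻¹) * k⁻¹ := by group
      _ = k * z * k⁻¹ := by rw [hyz]
      _ = z := this
  rw [← hsw] at h3
  have h4 : w * y = y * w := ((mem_center_iff.1 hw) y).symm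
  calc s * y * s⁻¹ = s * (y * w) * w⁻¹ * s⁻¹ := by group
    _ = s * (w * y) * w⁻¹ * s⁻¹ := by rw [h4]
    _ = s * w * y * (s * w)⁻¹ := by group
    _ = z := h3

/-- the case `p` odd -/
theorem false_of_odd (h2 : p ≠ 2) {a : H} (ha : a ∉ center H) (hap' : PEl p a)
    (hD : ∀ S D : Subgroup H, IsSyl p S (C a) → a ∈ D → D ≤ S →
      (∀ φ : MulAut H, S.map φ.toMonoidHom = S → D.map φ.toMonoidHom = D) → normalizer (D : Set H) ≤ C a) :
    False := by
  obtain ⟨S, hS⟩ := exists_syl p (C a)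
  obtain ⟨hS1, hS2, haS, hSn⟩ := syl d ha hap' hS
  apply not_hasNormalPComplement d ha hap'
  obtain ⟨Q, hQ⟩ := hS1.toSylow
  apply Cfsg.Agent.S0659.result h2 Q
  rw [hQ]
  have h1 : normalizer (centerThompsonAOf S : Set H) ≤ C a := by
    apply hD S _ hS
    · rw [ZJThm.centerThompsonAOf_eq]
      show a ∈ (sInf (ThompsonJ.maxIn (fun A => IsMulCommutative A) S) : Subgroup H)
      rw [mem_sInf]
      intro A hA
      apply ThompsonJ.mem_of_centralizes_ab hA haS
      rw [mem_centralizer_iff]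
      intro x hx
      exact mem_C.1 (hS.1 (hA.1 hx))
    · rw [ZJThm.centerThompsonAOf_eq]
      exact (ZJThm.fam_ab (p := 2)).ZJ_le_self S
    · intro φ hφ
      rw [ZJThm.centerThompsonAOf_eq]
      conv_rhs => rw [← hφ]
      exact ((ZJThm.fam_ab (p := 2)).ZJ_map φ S).symm
  exact PNilp.HasNormalPComplement.mono h1
    (ActNilp.hasNormalPComplement_of_isNilpotent (nilp d ha hap') p)

theorem main {a : H} (ha : a ∉ center H) (hap : a ^ p ∈ center H) (hap' : PEl p a)
    (hD : ∀ S D : Subgroup H, IsSyl p S (C a) → a ∈ D → D ≤ S →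
      (∀ φ : MulAut H, S.map φ.toMonoidHom = S → D.map φ.toMonoidHom = D) → normalizer (D : Set H) ≤ C a) :
    False := by
  by_cases h2 : p = 2
  · exact false_of_two d h2 ha hap hap'
  · exact false_of_odd d h2 ha hap' hD

end Cfsg.Agent.Lib.H64CentMaxF
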