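import Mathlib
import Cfsg.Agent.Lib.H64CentMaxF

/-!
# Normal subgroups in which the centralizers of noncentral elements are maximal (helper64)
-/

set_option autoImplicit false
set_option linter.unusedSectionVars false

namespace Cfsg.Agent.Lib.H64CentMax

open Subgroup Cfsg.Agent.Lib.CentMaximal Cfsg.Agent.Lib.RelSylow Cfsg.Agent.Lib.H64CentMaxF
open scoped commutatorElement

variable {G : Type*} [Group G] {N : Subgroup G}

/-- noncentral element of `N` -/
def NC (N : Subgroup G) (x : G) : Prop := x ∈ N ∧ x ∉ centralizer (N : Set G)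

/-- the hypothesis -/
def HypN (N : Subgroup G) : Prop := ∀ x : G, x ∈ N → x ∉ centralizer (N : Set G) → IsCoatom (C x)

theorem mem_cent_iff {x : G} : x ∈ centralizer (N : Set G) ↔ N ≤ C x := by
  rw [mem_centralizer_iff]
  constructor
  · intro h n hn
    exact mem_C.2 (h n hn)
  · intro h n hn
    exact mem_C.1 (h hn)

theorem eq_of_le (h : HypN N) {x y : G} (hx : NC N x) (hy : NC N y) (hle : C x ≤ C y) : C x = C y := by
  rcases (h x hx.1 hx.2).le_iff.1 hle with h1 | h1
  · exact absurd h1 (h y hy.1 hy.2).1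
  · exact h1.symm

theorem eq_of_mem_zpowers (h : HypN N) {x y : G} (hxN : x ∈ N) (hy : y ∈ zpowers x)
    (hyZ : y ∉ centralizer (N : Set G)) : C x = C y := by
  have hx : x ∉ centralizer (N : Set G) := by
    intro hx
    apply hyZ
    have h1 : zpowers x ≤ centralizer (N : Set G) := zpowers_le.2 hx
    exact h1 hy
  have hyN : y ∈ N := (zpowers_le.2 hxN) hy
  exact eq_of_le h ⟨hxN, hx⟩ ⟨hyN, hyZ⟩ (C_le_of_mem_zpowers hy)

theorem eq_of_coprime (h : HypN N) {x y : G} (hx : NC N x) (hy : NC N y) (hc : Commute x y)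
    (hco : (orderOf x).Coprime (orderOf y)) : C x = C y := by
  have hxy : x * y ∈ N := mul_mem hx.1 hy.1
  have h1 := eq_of_mem_zpowers h hxy (mem_zpowers_mul hc hco) hx.2
  have h2 := eq_of_mem_zpowers h (hc.eq ▸ hxy) (mem_zpowers_mul hc.symm hco.symm) hy.2
  rw [hc.eq] at h1
  exact h1.symm.trans h2

variable [hN : N.Normal]

theorem cent_conj {x : G} (hx : x ∈ centralizer (N : Set G)) (g : G) : g * x * g⁻¹ ∈ centralizer (N : Set G) := by
  have h1 : (centralizer (N : Set G)).Normal := inferInstance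
  exact h1.conj_mem x hx g

theorem NC.conj {x : G} (hx : NC N x) (g : G) : NC N (g * x * g⁻¹) := by
  refine ⟨hN.conj_mem x hx.1 g, fun h => hx.2 ?_⟩
  have := cent_conj h g⁻¹
  have e : g⁻¹ * (g * x * g⁻¹) * g⁻¹⁻¹ = x := by group
  rwa [e] at this

theorem C_le_normalizer (x : G) : C x ≤ normalizer ((N ⊓ C x : Subgroup G) : Set G) := by
  have key : ∀ g ∈ C x, ∀ y ∈ N ⊓ C x, g * y * g⁻¹ ∈ N ⊓ C x := fun g hg y hy =>
    ⟨hN.conj_mem y hy.1 g, (C x).mul_mem ((C x).mul_mem hg hy.2) ((C x).inv_mem hg)⟩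
  intro g hg
  rw [mem_normalizer_iff]
  intro y
  constructor
  · exact key g hg y
  · intro hy
    have := key g⁻¹ (inv_mem hg) _ hy
    have e : g⁻¹ * (g * y * g⁻¹) * g⁻¹⁻¹ = y := by group
    rwa [e] at this

theorem normalizer_eq (h : HypN N) {x : G} (hx : NC N x) (hn : ¬ (N ⊓ C x).Normal) :
    normalizer ((N ⊓ C x : Subgroup G) : Set G) = C x := by
  rcases (h x hx.1 hx.2).le_iff.1 (C_le_normalizer (N := N) x) with h2 | h2
  · exact absurd (normalizer_eq_top_iff.1 h2) hn
  · exact h2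

/-- a normal subgroup not contained in `C g` -/
theorem exists_factor (h : HypN N) {g : G} (hg : NC N g) {D : Subgroup G} [hD : D.Normal] (hDg : ¬ D ≤ C g)
    (m : G) : ∃ d ∈ D, ∃ c ∈ C g, d * c = m := by
  have hsup : D ⊔ C g = ⊤ := by
    rcases (h g hg.1 hg.2).le_iff.1 (le_sup_right : C g ≤ D ⊔ C g) with h1 | h1
    · exact h1
    · exact absurd (h1 ▸ le_sup_left) hDg
  have h1 : m ∈ D ⊔ C g := by rw [hsup]; trivial
  rw [mem_sup_of_normal_left] at h1
  obtain ⟨d, hd, c, hc, hdc⟩ := h1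
  exact ⟨d, hd, c, hc, hdc⟩

variable [Finite G]

/-- If `N ∩ C x` is nonabelian, then for some prime `p` all `p'`-elements of `N ∩ C x` are central in `N`. -/
theorem nonabelian_prime (h : HypN N) {x : G} (hx : NC N x) (hM : ¬ IsMulCommutative (N ⊓ C x : Subgroup G)) :
    ∃ p : ℕ, p.Prime ∧ (∃ a ∈ zpowers x, a ∉ centralizer (N : Set G) ∧ PEl p a) ∧
      ∀ g ∈ N ⊓ C x, PEl' p g → g ∈ centralizer (N : Set G) := by
  obtain ⟨p, hp, a, ha, haZ, hap⟩ := exists_primary (centralizer (N : Set G)) _ x le_rfl hx.2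
  refine ⟨p, hp, ⟨a, ha, haZ, hap⟩, ?_⟩
  have haN : a ∈ N := (zpowers_le.2 hx.1) ha
  have hCa : C x = C a := eq_of_mem_zpowers h hx.1 ha haZ
  intro g hg hgp
  by_contra hgZ
  have hga : C g = C a := by
    symm
    apply eq_of_coprime h ⟨haN, haZ⟩ ⟨hg.1, hgZ⟩ _ (hap.coprime hgp)
    have := hg.2
    rw [hCa] at this
    exact (mem_C.1 this).symm
  apply hM
  have key : ∀ m ∈ N ⊓ C x, N ⊓ C x ≤ C m := by
    intro m hm
    obtain ⟨u, v, hu, hv, huv, hup, hvp, -, -⟩ := split p m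
    have hu' : u ∈ N ⊓ C x := (zpowers_le.2 hm) hu
    have hv' : v ∈ N ⊓ C x := (zpowers_le.2 hm) hv
    have h1 : N ⊓ C x ≤ C u := by
      by_cases huZ : u ∈ centralizer (N : Set G)
      · exact inf_le_left.trans (mem_cent_iff.1 huZ)
      · have : C u = C g := by
          apply eq_of_coprime h ⟨hu'.1, huZ⟩ ⟨hg.1, hgZ⟩ _ (hup.coprime hgp)
          have := hu'.2
          rw [hCa, ← hga] at this
          exact mem_C.1 this
        rw [this, hga, hCa]
        exact inf_le_right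
    have h2 : N ⊓ C x ≤ C v := by
      by_cases hvZ : v ∈ centralizer (N : Set G)
      · exact inf_le_left.trans (mem_cent_iff.1 hvZ)
      · have : C a = C v := by
          apply eq_of_coprime h ⟨haN, haZ⟩ ⟨hv'.1, hvZ⟩ _ (hap.coprime hvp)
          have := hv'.2
          rw [hCa] at this
          exact (mem_C.1 this).symm
        rw [← this, hCa]
        exact inf_le_right
    intro c hc
    rw [← huv, mem_C]
    exact (Commute.mul_right (mem_C.1 (h1 hc)) (mem_C.1 (h2 hc)))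
  rw [comm_iff_le]
  intro m hm c hc
  exact (mem_C.1 (key m hm hc)).symm

section Case1

variable {p : ℕ} [hp : Fact p.Prime]

theorem cent_of_nonabelian (h : HypN N) {y : G} (hy : NC N y) (hyp : PEl p y)
    (hM : ¬ IsMulCommutative (N ⊓ C y : Subgroup G)) :
    ∀ g ∈ N ⊓ C y, PEl' p g → g ∈ centralizer (N : Set G) := by
  obtain ⟨q, hq, ⟨a, ha, haZ, haq⟩, hall⟩ := nonabelian_prime h hy hM
  have hqp : q = p := by
    have h1 : a ≠ 1 := by
      rintro rfl; exact haZ (one_mem _)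
    have h2 : orderOf a ≠ 1 := by rwa [Ne, orderOf_eq_one_iff]
    obtain ⟨r, hr, hra⟩ := Nat.exists_prime_and_dvd h2
    rw [← haq r hr hra]
    exact hyp r hr (hra.trans (orderOf_dvd_of_mem_zpowers ha))
  rw [hqp] at hall
  exact hall

/-- (1.1) -/
theorem not_normal (h : HypN N) {y : G} (hy : NC N y) (hyp : PEl p y)
    (hM : ¬ IsMulCommutative (N ⊓ C y : Subgroup G)) {g : G} (hg : NC N g) (hgp : PEl' p g) :
    ¬ (N ⊓ C y).Normal := by
  intro hn
  have hall := cent_of_nonabelian h hy hyp hM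
  have hyg : y ∉ C g := by
    intro hyg
    exact hg.2 (hall g ⟨hg.1, mem_C_comm.1 hyg⟩ hgp)
  set P := N ⊓ C y with hP
  have hX : (P ⊓ centralizer (P : Set G)).Normal := by
    have h1 : (centralizer (P : Set G)).Normal := inferInstance
    infer_instance
  have hyX : y ∈ P ⊓ centralizer (P : Set G) := by
    refine ⟨⟨hy.1, self_mem_C y⟩, ?_⟩
    show y ∈ centralizer (P : Set G)
    rw [mem_cent_iff]
    exact inf_le_right
  have hXg : ¬ (P ⊓ centralizer (P : Set G)) ≤ C g := fun hle => hyg (hle hyX)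
  apply hM
  rw [comm_iff_le]
  intro m hm n hn'
  obtain ⟨χ, hχ, c, hc, hχc⟩ := exists_factor h hg hXg m
  have hcP : c ∈ P := by
    have : c = χ⁻¹ * m := by rw [← hχc]; group
    rw [this]
    exact mul_mem (inv_mem hχ.1) hm
  have hcZ : c ∈ centralizer (N : Set G) := by
    obtain ⟨u, v, hu, hv, huv, hup, hvp, -, -⟩ := split p c
    have huP : u ∈ P := (zpowers_le.2 hcP) hu
    have hvP : v ∈ P := (zpowers_le.2 hcP) hv
    rw [← huv]
    refine mul_mem ?_ (hall v hvP hvp)
    by_contra huZ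
    have h1 : C u = C g := eq_of_coprime h ⟨huP.1, huZ⟩ hg (mem_C.1 ((zpowers_le.2 hc) hu)) (hup.coprime hgp)
    apply hyg
    rw [← h1]
    exact mem_C_comm.1 huP.2
  have h1 : Commute χ n := (mem_centralizer_iff.1 hχ.2 n hn').symm
  have h2 : Commute c n := (mem_centralizer_iff.1 hcZ n hn'.1).symm
  rw [← hχc]
  exact (Commute.mul_left h1 h2).eq

/-! ### Translation to `↥N` -/

theorem mem_center_iff' {y : N} : y ∈ center N ↔ (y : G) ∈ centralizer (N : Set G) := by
  rw [mem_center_iff, mem_centralizer_iff]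
  constructor
  · intro h n hn
    exact congrArg Subtype.val (h ⟨n, hn⟩)
  · intro h n
    exact Subtype.ext (h n n.2)

theorem mem_C' {x y : N} : y ∈ C x ↔ (y : G) ∈ C (x : G) := by
  rw [mem_C, mem_C]
  exact Subtype.ext_iff

theorem map_C (x : N) : (C x).map N.subtype = N ⊓ C (x : G) := by
  ext y
  constructor
  · rintro ⟨z, hz, rfl⟩
    exact ⟨z.2, mem_C'.1 hz⟩
  · rintro ⟨hy, hy'⟩
    exact ⟨⟨y, hy⟩, mem_C'.2 hy', rfl⟩

theorem pel_iff {x : N} : PEl p x ↔ PEl p (x : G) := by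
  unfold PEl
  rw [Subgroup.orderOf_coe]

theorem pel'_iff {x : N} : PEl' p x ↔ PEl' p (x : G) := by
  unfold PEl'
  rw [Subgroup.orderOf_coe]

theorem comm_iff {x : N} : IsMulCommutative (C x) ↔ IsMulCommutative (N ⊓ C (x : G) : Subgroup G) := by
  rw [comm_iff_le, comm_iff_le]
  constructor
  · intro h a ha b hb
    exact congrArg Subtype.val (h ⟨a, ha.1⟩ (mem_C'.2 ha.2) ⟨b, hb.1⟩ (mem_C'.2 hb.2))
  · intro h a ha b hb
    exact Subtype.ext (h a ⟨a.2, mem_C'.1 ha⟩ b ⟨b.2, mem_C'.1 hb⟩)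

/-- normalizers in `N` of centralizers -/
theorem self_normalizing (h : HypN N) {x : N} (hx : x ∉ center N) (hn : ¬ (N ⊓ C (x : G)).Normal) :
    normalizer (C x : Set N) = C x := by
  apply le_antisymm _ le_normalizer
  intro t ht
  rw [mem_C', ← normalizer_eq h ⟨x.2, fun h => hx (mem_center_iff'.2 h)⟩ hn, ← map_C]
  rw [mem_normalizer_iff_map] at ht ⊢
  rw [Subgroup.map_map]
  conv_rhs => rw [← ht, Subgroup.map_map]
  rfl

theorem nc_of {x : N} (hx : x ∉ center N) : NC N (x : G) := ⟨x.2, fun h => hx (mem_center_iff'.2 h)⟩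

/-- data for one element -/
theorem one_data (h : HypN N) {x : N} (hx : x ∉ center N) (hxp : PEl p x) (hM : ¬ IsMulCommutative (C x))
    {g : G} (hg : NC N g) (hgp : PEl' p g) :
    (∀ v ∈ C x, PEl' p v → v ∈ center N) ∧ normalizer (C x : Set N) = C x := by
  have hM' : ¬ IsMulCommutative (N ⊓ C (x : G) : Subgroup G) := fun h1 => hM (comm_iff.2 h1)
  constructor
  · intro v hv hvp
    rw [mem_center_iff']
    exact cent_of_nonabelian h (nc_of hx) (pel_iff.1 hxp) hM' v ⟨v.2, mem_C'.1 hv⟩ (pel'_iff.1 hvp)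
  · exact self_normalizing h hx (not_normal h (nc_of hx) (pel_iff.1 hxp) hM' hg hgp)

/-- (1.3) -/
theorem not_comm (h : HypN N) {x : N} (hx : x ∉ center N) (hxp : PEl p x) (hM : ¬ IsMulCommutative (C x))
    {d : N} (hd : d ∉ center N) (hdp : PEl p d) {g : N} (hg : g ∉ center N) (hgp : PEl' p g)
    (hc : Commute d g) : False := by
  obtain ⟨hcent, hself⟩ := one_data h hx hxp hM (nc_of hg) (pel'_iff.1 hgp)
  obtain ⟨S, hS⟩ := exists_syl p (C x)
  obtain ⟨hS1, hS2, hxS, -⟩ := syl' hxp hcent hself hS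
  obtain ⟨k, -, hk⟩ := hS1.exists_conj_le (isPGroup_zpowers hdp) le_top
  have h1 : k⁻¹ * d * k ∈ C x := by
    have := hk (mem_zpowers d)
    rw [mem_conj_iff] at this
    exact hS.1 this
  have h2 : k * x * k⁻¹ ∈ C d := by
    rw [mem_C_comm, conj_mem_C]
    exact h1
  have h3 : C (d : G) = C (g : G) := by
    apply eq_of_coprime h (nc_of hd) (nc_of hg) (congrArg Subtype.val hc.eq)
    exact (pel_iff.1 hdp).coprime (pel'_iff.1 hgp)
  have h4 : k * x * k⁻¹ ∈ C g := by
    rw [mem_C', ← h3, ← mem_C']; exact h2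
  rw [mem_C_comm, conj_mem_C] at h4
  have h5 : PEl' p (k⁻¹ * g * k) := by
    have := hgp.conj k⁻¹
    rwa [inv_inv] at this
  have h6 := hcent _ h4 h5
  apply hg
  have h7 := (inferInstance : (center N).Normal).conj_mem _ h6 k
  have e : k * (k⁻¹ * g * k) * k⁻¹ = g := by group
  rwa [e] at h7

/-- factorization -/
theorem factor (h : HypN N) {x : N} (hx : x ∉ center N) (hxp : PEl p x) (hM : ¬ IsMulCommutative (C x))
    {g : N} (hg : g ∉ center N) (hgp : PEl' p g) {D : Subgroup G} [hD : D.Normal] {d : N} (hdD : (d : G) ∈ D)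
    (hd : d ∉ center N) (hdp : PEl p d) {y : N} (hy : y ∉ center N) (hyp : PEl p y) (hMy : ¬ IsMulCommutative (C y))
    {m : N} (hm : m ∈ C y) (hDy : D ≤ (C y).map N.subtype) :
    ∃ e : N, (e : G) ∈ D ∧ ∃ c ∈ center N, m = e * c := by
  have hDg : ¬ D ≤ C (g : G) := by
    intro hle
    have h1 := mem_C.1 (hle hdD)
    exact not_comm h hx hxp hM hd hdp hg hgp (Subtype.ext h1)
  obtain ⟨e, he, c, hc, hec⟩ := exists_factor h (nc_of hg) hDg (m : G)
  obtain ⟨e', he', rfl⟩ := hDy he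
  have hcN : c ∈ N := by
    have : c = (e' : G)⁻¹ * m := by rw [← hec]; simp
    rw [this]
    exact mul_mem (inv_mem e'.2) m.2
  refine ⟨e', he, ⟨c, hcN⟩, ?_, Subtype.ext hec.symm⟩
  set c' : N := ⟨c, hcN⟩ with hc'
  have hcg : c' ∈ C g := mem_C'.2 hc
  have hcy : c' ∈ C y := by
    have : c' = e'⁻¹ * m := Subtype.ext (by
      show c = (e' : G)⁻¹ * m
      rw [← hec]; simp)
    rw [this]
    exact mul_mem (inv_mem he') hm
  obtain ⟨hcent, -⟩ := one_data h hy hyp hMy (nc_of hg) (pel'_iff.1 hgp)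
  obtain ⟨u, v, hu, hv, huv, hup, hvp, -, -⟩ := split p c'
  rw [← huv]
  refine mul_mem ?_ (hcent v ((zpowers_le.2 hcy) hv) hvp)
  by_contra huZ
  exact not_comm h hx hxp hM huZ hup hg hgp (mem_C.1 ((zpowers_le.2 hcg) hu))

/-- (1.4) -/
theorem nonab (h : HypN N) {x : N} (hx : x ∉ center N) (hxp : PEl p x) (hM : ¬ IsMulCommutative (C x))
    {g : N} (hg : g ∉ center N) (hgp : PEl' p g) {y : N} (hy : y ∉ center N) (hyp : PEl p y) :
    ¬ IsMulCommutative (C y) := by
  obtain ⟨hcent, hself⟩ := one_data h hx hxp hM (nc_of hg) (pel'_iff.1 hgp)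
  have hnil := nilp' hcent
  -- reduce to `y ∈ C x`
  have key : ∀ y : N, y ∉ center N → PEl p y → y ∈ C x → ¬ IsMulCommutative (C y) := by
    intro y hy hyp hyx hab
    have hxy : x ∈ C y := mem_C_comm.1 hyx
    have hle : C y ≤ C x := by
      intro w hw
      rw [mem_C]
      exact (comm_iff_le.1 hab) w hw x hxy
    have hlt : C y < C x := by
      refine lt_of_le_of_ne hle ?_
      intro heq
      exact hM (heq ▸ hab)
    have h2 := H64Basic.lt_inf_normalizer_of_nilpotent hnil hlt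
    obtain ⟨t, ht, htC⟩ := SetLike.exists_of_lt h2
    set D := N ⊓ C (y : G) with hD
    have hDn : D.Normal := by
      rw [← normalizer_eq_top_iff]
      rcases (h y y.2 (nc_of hy).2).le_iff.1 (C_le_normalizer (N := N) (y : G)) with h3 | h3
      · exact h3
      · exfalso
        apply htC
        rw [mem_C', ← h3, ← map_C, mem_normalizer_iff_map]
        have h4 := mem_normalizer_iff_map.1 ht.2
        rw [Subgroup.map_map]
        conv_rhs => rw [← h4, Subgroup.map_map]
        rfl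
    have h3 : C x ≤ C y := by
      intro m hm
      obtain ⟨e, he, c, hc, rfl⟩ := factor h hx hxp hM hg hgp (D := D) (d := y) ⟨y.2, self_mem_C _⟩ hy hyp
        hx hxp hM hm (by
          rw [hD, ← map_C]
          exact map_mono hle)
      exact mul_mem (mem_C'.2 he.2) (center_le_C y hc)
    exact hlt.not_ge h3
  obtain ⟨S, hS⟩ := exists_syl p (C x)
  obtain ⟨hS1, hS2, hxS, -⟩ := syl' hxp hcent hself hS
  obtain ⟨k, -, hk⟩ := hS1.exists_conj_le (isPGroup_zpowers hyp) le_top
  have h1 : k⁻¹ * y * k ∈ C x := by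
    have := hk (mem_zpowers y)
    rw [mem_conj_iff] at this
    exact hS.1 this
  have h5 : PEl p (k⁻¹ * y * k) := by
    have := hyp.conj k⁻¹
    rwa [inv_inv] at this
  have h6 : k⁻¹ * y * k ∉ center N := by
    intro h6
    apply hy
    have h7 := (inferInstance : (center N).Normal).conj_mem _ h6 k
    have e : k * (k⁻¹ * y * k) * k⁻¹ = y := by group
    rwa [e] at h7
  intro hab
  apply key _ h6 h5 h1
  rw [comm_iff_le] at hab ⊢
  intro a ha b hb
  have e : k⁻¹ * y * k = k⁻¹ * y * k⁻¹⁻¹ := by group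
  rw [e, conj_mem_C] at ha hb
  have := hab _ ha _ hb
  rw [inv_inv] at this
  calc a * b = k⁻¹ * ((k * a * k⁻¹) * (k * b * k⁻¹)) * k := by group
    _ = k⁻¹ * ((k * b * k⁻¹) * (k * a * k⁻¹)) * k := by rw [this]
    _ = _ := by group

/-- Case 1 -/
theorem case1_aux (h : HypN N) {x : N} (hx : x ∉ center N) (hxp : PEl p x) (hM : ¬ IsMulCommutative (C x))
    {g : N} (hg : g ∉ center N) (hgp : PEl' p g) : False := by
  have hd : Data p N := by
    refine ⟨?_, ?_, ?_⟩
    · intro y hy hyp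
      exact (one_data h hy hyp (nonab h hx hxp hM hg hgp hy hyp) (nc_of hg) (pel'_iff.1 hgp)).1
    · intro y hy hyp
      exact nonab h hx hxp hM hg hgp hy hyp
    · intro y hy hyp
      exact (one_data h hy hyp (nonab h hx hxp hM hg hgp hy hyp) (nc_of hg) (pel'_iff.1 hgp)).2
  -- an element whose `p`-th power is central
  obtain ⟨a, ha, hap, hapc⟩ : ∃ a : N, a ∉ center N ∧ PEl p a ∧ a ^ p ∈ center N := by
    obtain ⟨k, hk⟩ := hxp.pow
    have h1 : ∃ j : ℕ, x ^ p ^ j ∈ center N := ⟨k, by rw [← hk, pow_orderOf_eq_one]; exact one_mem _⟩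
    classical
    have h2 := Nat.find_spec h1
    set j := Nat.find h1 with hj
    have hj0 : j ≠ 0 := by
      intro h0
      rw [h0, pow_zero, pow_one] at h2
      exact hx h2
    obtain ⟨i, hi⟩ := Nat.exists_eq_succ_of_ne_zero hj0
    refine ⟨x ^ p ^ i, Nat.find_min h1 (by rw [← hj, hi]; exact Nat.lt_succ_self i), ?_, ?_⟩
    · intro r hr hrd
      exact hxp r hr (hrd.trans (orderOf_pow_dvd _))
    · rw [← pow_mul, ← pow_succ, ← Nat.succ_eq_add_one, ← hi]; exact h2
  have hMa := nonab h hx hxp hM hg hgp ha hap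
  have hMa' : ¬ IsMulCommutative (N ⊓ C (a : G) : Subgroup G) := fun h1 => hMa (comm_iff.2 h1)
  have hnn := not_normal h (nc_of ha) (pel_iff.1 hap) hMa' (nc_of hg) (pel'_iff.1 hgp)
  apply H64CentMaxF.main hd ha hapc hap
  intro S D hS haD hDS hchar
  have hnil := nilp hd ha hap
  have hle : C (a : G) ≤ normalizer ((D.map N.subtype : Subgroup G) : Set G) := by
    intro c hc
    have h1 : ∀ y : N, y ∈ C a → MulAut.conjNormal c y ∈ C a := by
      intro y hy
      rw [mem_C', MulAut.conjNormal_apply]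
      exact mul_mem (mul_mem hc (mem_C'.1 hy)) (inv_mem hc)
    have h2 : S.map (MulAut.conjNormal c : MulAut N).toMonoidHom = S := by
      apply Subgroup.eq_of_le_of_card_ge
      · rintro _ ⟨s, hs, rfl⟩
        apply mem_syl_of_nilp hnil hS (h1 s (hS.1 hs))
        have h3 : PEl p s := pel_of_mem hS.2.1 hs
        intro r hr hrd
        apply h3 r hr
        have h4 : orderOf ((MulAut.conjNormal c : MulAut N) s) = orderOf s := MulEquiv.orderOf_eq _ _
        exact h4 ▸ hrd
      · exact (Subgroup.card_map_of_injective (f := (MulAut.conjNormal c : MulAut N).toMonoidHom)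
          (MulAut.conjNormal c : MulAut N).injective).ge
    have h3 := hchar _ h2
    rw [mem_normalizer_iff_map, Subgroup.map_map]
    conv_rhs => rw [← h3, Subgroup.map_map]
    congr 1
  rcases (h a a.2 (nc_of ha).2).le_iff.1 hle with h3 | h3
  · exfalso
    have hDn : (D.map N.subtype).Normal := normalizer_eq_top_iff.1 h3
    apply hnn
    have h4 : N ⊓ C (a : G) = D.map N.subtype ⊔ (N ⊓ centralizer (N : Set G)) := by
      apply le_antisymm
      · rw [← map_C]
        rintro _ ⟨m, hm, rfl⟩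
        obtain ⟨e, he, c, hc, rfl⟩ := factor h hx hxp hM hg hgp (D := D.map N.subtype) (d := a) ⟨a, haD, rfl⟩ ha hap
          ha hap hMa hm (map_mono (hDS.trans hS.1))
        rw [map_mul]
        exact mul_mem_sup he ⟨c.2, mem_center_iff'.1 hc⟩
      · refine sup_le ?_ ?_
        · rw [← map_C]; exact map_mono (hDS.trans hS.1)
        · intro z hz
          refine ⟨hz.1, ?_⟩
          exact mem_C_comm.1 ((mem_cent_iff.1 hz.2) a.2)
    rw [h4]
    have h5 : (centralizer (N : Set G)).Normal := inferInstance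
    infer_instance
  · intro t ht
    rw [mem_C', ← h3, mem_normalizer_iff_map, Subgroup.map_map]
    conv_rhs => rw [← mem_normalizer_iff_map.1 ht, Subgroup.map_map]
    rfl

end Case1

/-- Case 1: some centralizer is nonabelian. -/
theorem case1 (h : HypN N) {x : G} (hx : NC N x) (hM : ¬ IsMulCommutative (N ⊓ C x : Subgroup G)) :
    ∃ p : ℕ, p.Prime ∧ ∀ g : G, g ∈ N → PEl' p g → g ∈ centralizer (N : Set G) := by
  obtain ⟨p, hp, ⟨a, ha, haZ, hap⟩, -⟩ := nonabelian_prime h hx hM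
  refine ⟨p, hp, fun g hgN hgp => ?_⟩
  by_contra hgZ
  have hfp : Fact p.Prime := ⟨hp⟩
  have haN : a ∈ N := (zpowers_le.2 hx.1) ha
  have hCa : C x = C a := eq_of_mem_zpowers h hx.1 ha haZ
  rw [hCa] at hM
  refine case1_aux (p := p) h (x := ⟨a, haN⟩) (g := ⟨g, hgN⟩) (fun h1 => haZ (mem_center_iff'.1 h1))
    (pel_iff.2 hap) (fun h1 => hM (comm_iff.1 h1)) (fun h1 => hgZ (mem_center_iff'.1 h1)) (pel'_iff.2 hgp)

end Cfsg.Agent.Lib.H64CentMax
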