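import Cfsg.Agent.Lib.FrobThm
import Cfsg.Agent.Lib.FrobAction2
import Cfsg.Agent.Lib.FrobAction3
import Cfsg.Agent.Lib.FrobOrderType2
import Cfsg.Agent.S0042

set_option autoImplicit false

/-!
2-Frobenius groups.
-/

namespace Cfsg.Agent.Lib.TwoFrob

open Cfsg Subgroup Cfsg.Agent.Lib.FrobAction

universe u

/-- The Frobenius kernel contains the centralizers of its nontrivial elements. -/
theorem kernel_of_commute {X : Type u} [Group X] {C : Subgroup X} (hC : IsFrobeniusComplement C) {x y : X}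
    (hx : x ∈ frobeniusKernel C) (hx1 : x ≠ 1) (hxy : x * y = y * x) : y ∈ frobeniusKernel C := by
  by_contra hy
  have h1 : y ∈ (frobeniusKernel C)ᶜ := hy
  rw [FrobGroup.compl_kernel] at h1
  obtain ⟨hy1, g, hg⟩ := h1
  rw [FrobGroup.mem_kernel_iff] at hx
  rcases hx with hx | hx
  · exact hx1 hx
  · apply hx g
    refine FrobGroup.mem_of_commute hC hg ?_ ?_
    · intro h
      apply hy1
      have : y = g * (g⁻¹ * y * g) * g⁻¹ := by group
      rw [this, h]; group
    · calc g⁻¹ * x * g * (g⁻¹ * y * g) = g⁻¹ * (x * y) * g := by group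
        _ = g⁻¹ * (y * x) * g := by rw [hxy]
        _ = _ := by group

/-- A nilpotent Frobenius complement of odd order is cyclic. -/
theorem isCyclic_complement {X : Type u} [Group X] [Finite X] {C N : Subgroup X} [N.Normal] (hC : IsFrobeniusComplement C)
    (hN : (N : Set X) = frobeniusKernel C) (hNC : IsComplement' N C) (hodd : ¬ 2 ∣ Nat.card C)
    (hnil : Group.IsNilpotent C) : IsCyclic C := by
  have hN1 : N ≠ ⊥ := by
    rintro rfl
    obtain ⟨x, hx, hx1⟩ := FrobGroup.exists_kernel_ne_one hC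
    rw [← hN] at hx
    exact hx1 (Subgroup.mem_bot.1 hx)
  have hf := (FrobGroup.isFrobeniusComplement_iff hNC hN1 hC.1).1 hC
  obtain ⟨V, act, hVN, hV1, hVc, hVf⟩ := FrobAction2.exists_fpf_action hNC hN1 hf
  let _ : CommGroup V := { (inferInstance : Group V) with mul_comm := fun a b => Subtype.ext (hVc a a.2 b b.2) }
  have : Nontrivial V := (Subgroup.nontrivial_iff_ne_bot V).2 hV1
  have hZ : IsZGroup C := FrobAction3.isZGroup_of_odd (act := act) (fun a ha v hv => hVf a ha v hv) hodd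
  infer_instance

/-- An abelian Frobenius complement is cyclic. -/
theorem isCyclic_complement_of_comm {X : Type u} [Group X] [Finite X] {C N : Subgroup X} [N.Normal] (hC : IsFrobeniusComplement C)
    (hN : (N : Set X) = frobeniusKernel C) (hNC : IsComplement' N C)
    (hcomm : ∀ a b : C, a * b = b * a) : IsCyclic C := by
  have hN1 : N ≠ ⊥ := by
    rintro rfl
    obtain ⟨x, hx, hx1⟩ := FrobGroup.exists_kernel_ne_one hC
    rw [← hN] at hx
    exact hx1 (Subgroup.mem_bot.1 hx)
  have hf := (FrobGroup.isFrobeniusComplement_iff hNC hN1 hC.1).1 hC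
  obtain ⟨V, act, hVN, hV1, hVc, hVf⟩ := FrobAction2.exists_fpf_action hNC hN1 hf
  let _ : CommGroup V := { (inferInstance : Group V) with mul_comm := fun a b => Subtype.ext (hVc a a.2 b b.2) }
  have : Nontrivial V := (Subgroup.nontrivial_iff_ne_bot V).2 hV1
  exact isCyclic_of_comm (act := act) (fun a ha v hv => hVf a ha v hv) hcomm

/-- A Frobenius complement acting on a cyclic kernel is cyclic. -/
theorem isCyclic_complement_of_cyclic {X : Type u} [Group X] [Finite X] {C N : Subgroup X} [N.Normal]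
    (hC : IsFrobeniusComplement C) (hN : (N : Set X) = frobeniusKernel C) (hNC : IsComplement' N C)
    (hcyc : IsCyclic N) : IsCyclic C := by
  apply isCyclic_complement_of_comm hC hN hNC
  obtain ⟨x, hx, hx1⟩ := FrobGroup.exists_kernel_ne_one hC
  rw [← hN] at hx
  obtain ⟨g, hg⟩ := hcyc.exists_generator
  have hconj : ∀ c : X, ∃ k : ℤ, c * g * c⁻¹ = (g : X) ^ k := by
    intro c
    obtain ⟨k, hk⟩ := Subgroup.mem_zpowers_iff.1 (hg ⟨c * g * c⁻¹, ‹N.Normal›.conj_mem g g.2 c⟩)
    exact ⟨k, by have := congrArg Subtype.val hk; rw [Subgroup.coe_zpow] at this; exact this.symm⟩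
  have hg1 : (g : X) ≠ 1 := by
    intro h
    obtain ⟨k, hk⟩ := Subgroup.mem_zpowers_iff.1 (hg ⟨x, hx⟩)
    apply hx1
    have := congrArg Subtype.val hk
    rw [Subgroup.coe_zpow, h, one_zpow] at this
    exact this.symm
  intro a b
  obtain ⟨k, hk⟩ := hconj a
  obtain ⟨l, hl⟩ := hconj b
  have hk' : ∀ j : ℤ, (a : X) * (g : X) ^ j * (a : X)⁻¹ = (g : X) ^ (k * j) := by
    intro j
    rw [← conj_zpow, hk, ← zpow_mul]
  have hl' : ∀ j : ℤ, (b : X) * (g : X) ^ j * (b : X)⁻¹ = (g : X) ^ (l * j) := by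
    intro j
    rw [← conj_zpow, hl, ← zpow_mul]
  have h1 : (a * b : X) * g * (a * b : X)⁻¹ = (b * a : X) * g * (b * a : X)⁻¹ := by
    calc (a * b : X) * g * (a * b : X)⁻¹ = a * (b * g * (b : X)⁻¹) * (a : X)⁻¹ := by group
      _ = (g : X) ^ (k * l) := by rw [hl, hk']
      _ = b * (a * g * (a : X)⁻¹) * (b : X)⁻¹ := by rw [hk, hl', mul_comm]
      _ = _ := by group
  have h2 : (b * a : X)⁻¹ * (a * b) ∈ C := mul_mem (inv_mem (mul_mem b.2 a.2)) (mul_mem a.2 b.2)
  have h3 : ((b * a : X)⁻¹ * (a * b)) * g = g * ((b * a : X)⁻¹ * (a * b)) := by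
    have h4 : (a * b : X) * g = (b * a : X) * g * (b * a : X)⁻¹ * (a * b) := by rw [← h1]; group
    rw [mul_assoc, h4]; group
  have hgK : (g : X) ∈ frobeniusKernel C := by rw [← hN]; exact g.2
  have h4 := kernel_of_commute hC hgK hg1 h3.symm
  by_cases h5 : (b * a : X)⁻¹ * (a * b) = 1
  · apply Subtype.ext
    show (a * b : X) = b * a
    exact (inv_mul_eq_one.1 h5).symm
  · exact absurd h2 (FrobGroup.not_mem_of_mem_kernel h4 h5)

end Cfsg.Agent.Lib.TwoFrob
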