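import Mathlib
import Cfsg.Agent.Lib.H64CentMax
import Cfsg.Agent.Lib.TwoFrob
import Cfsg.Agent.Lib.H23Nilp

/-!
# Normal subgroups in which the centralizers of noncentral elements are maximal, part 2 (helper64)
-/

set_option autoImplicit false
set_option linter.unusedSectionVars false

namespace Cfsg.Agent.Lib.H64CentMax

open Subgroup Cfsg.Agent.Lib.CentMaximal
open scoped commutatorElement

section Count

variable {G : Type*} [Group G]

theorem conj_C (x g : G) (y : G) : y ∈ C (g * x * g⁻¹) ↔ g⁻¹ * y * g ∈ C x := by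
  rw [mem_C, mem_C]
  constructor
  · intro h
    calc g⁻¹ * y * g * x = g⁻¹ * (y * (g * x * g⁻¹)) * g := by group
      _ = g⁻¹ * (g * x * g⁻¹ * y) * g := by rw [h]
      _ = _ := by group
  · intro h
    calc y * (g * x * g⁻¹) = g * (g⁻¹ * y * g * x) * g⁻¹ := by group
      _ = g * (x * (g⁻¹ * y * g)) * g⁻¹ := by rw [h]
      _ = _ := by group

/-- the partition property in the abelian case -/
theorem eq_of_mem (hab : ∀ x : G, x ∉ center G → IsMulCommutative (C x)) {x y w : G}
    (hx : x ∉ center G) (hy : y ∉ center G) (hw : w ∉ center G) (hwx : w ∈ C x) (hwy : w ∈ C y) : C x = C y := by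
  have key : ∀ z : G, z ∉ center G → w ∈ C z → C z = C w := by
    intro z hz hwz
    apply le_antisymm
    · intro g hg
      rw [mem_C]
      exact (comm_iff_le.1 (hab z hz)) g hg w hwz
    · intro g hg
      rw [mem_C]
      exact (comm_iff_le.1 (hab w hw)) g hg z (mem_C_comm.1 hwz)
  rw [key x hx hwx, key y hy hwy]

/-- self-normalizing abelian centralizers: counting -/
theorem count [Finite G] (hab : ∀ x : G, x ∉ center G → IsMulCommutative (C x))
    (hself : ∀ x : G, x ∉ center G → normalizer (C x : Set G) = C x)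
    (hna : ∃ x : G, x ∉ center G) : False := by
  classical
  have hnorm : ∀ x : G, x ∉ center G → ∀ r : G, (∃ w ∈ C x, w ∉ center G ∧ r * w * r⁻¹ ∈ C x) → r ∈ C x := by
    rintro x hx r ⟨w, hw, hwZ, hrw⟩
    have h1 : normalizer (C x : Set G) = C x := hself x hx
    have hrZ : r * w * r⁻¹ ∉ center G := by
      intro h2
      apply hwZ
      have h3 := (inferInstance : (center G).Normal).conj_mem _ h2 r⁻¹
      have h4 : w = r⁻¹ * (r * w * r⁻¹) * r⁻¹⁻¹ := by group
      rw [h4]; exact h3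
    have hrx : r * x * r⁻¹ ∉ center G := by
      intro h2
      apply hx
      have h3 := (inferInstance : (center G).Normal).conj_mem _ h2 r⁻¹
      have h4 : x = r⁻¹ * (r * x * r⁻¹) * r⁻¹⁻¹ := by group
      rw [h4]; exact h3
    have h2 : C x = C (r * x * r⁻¹) := by
      apply eq_of_mem hab hx hrx hrZ hrw
      rw [conj_C]
      have : r⁻¹ * (r * w * r⁻¹) * r = w := by group
      rw [this]; exact hw
    rw [← h1, mem_normalizer_iff]
    intro y
    constructor
    · intro hy
      rw [h2, conj_C]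
      have : r⁻¹ * (r * y * r⁻¹) * r = y := by group
      rw [this]; exact hy
    · intro hy
      rw [h2, conj_C] at hy
      have : r⁻¹ * (r * y * r⁻¹) * r = y := by group
      rwa [this] at hy
  -- the map covering the conjugates of `C x`
  let A : G → Type _ := fun x => (G ⧸ C x) × {m : G // m ∈ C x ∧ m ∉ center G}
  let f : ∀ x : G, A x → {g : G // g ∉ center G} := fun x q => ⟨q.1.out * q.2.1 * q.1.out⁻¹, by
    intro h2
    apply q.2.2.2
    have h3 := (inferInstance : (center G).Normal).conj_mem _ h2 q.1.out⁻¹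
    have h4 : q.2.1 = q.1.out⁻¹ * (q.1.out * q.2.1 * q.1.out⁻¹) * q.1.out⁻¹⁻¹ := by group
    rw [h4]; exact h3⟩
  have hfv : ∀ x q, ((f x q : {g : G // g ∉ center G}) : G) = q.1.out * q.2.1 * q.1.out⁻¹ := fun _ _ => rfl
  have hinj : ∀ x, x ∉ center G → Function.Injective (f x) := by
    rintro x hx ⟨q, m⟩ ⟨q', m'⟩ he
    have he' : q.out * m.1 * q.out⁻¹ = q'.out * m'.1 * q'.out⁻¹ := congrArg Subtype.val he
    have h1 : (q'.out)⁻¹ * q.out ∈ C x := by
      apply hnorm x hx _ ⟨m.1, m.2.1, m.2.2, ?_⟩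
      have : q'.out⁻¹ * q.out * m.1 * (q'.out⁻¹ * q.out)⁻¹ = m'.1 := by
        calc _ = q'.out⁻¹ * (q.out * m.1 * q.out⁻¹) * q'.out := by group
          _ = q'.out⁻¹ * (q'.out * m'.1 * q'.out⁻¹) * q'.out := by rw [he']
          _ = _ := by group
      rw [this]; exact m'.2.1
    have h2 : q' = q := by
      rw [← QuotientGroup.out_eq' q', ← QuotientGroup.out_eq' q]
      exact QuotientGroup.eq.2 h1
    subst h2
    have h3 : m.1 = m'.1 := by
      have := mul_right_cancel he'
      exact mul_left_cancel this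
    rw [Prod.mk.injEq]
    exact ⟨rfl, Subtype.ext h3⟩
  have hcard : ∀ x, x ∉ center G → Nat.card (A x) + (C x).index * Nat.card (center G) = Nat.card G ∧
      (C x).index * Nat.card (center G) * 2 ≤ Nat.card G := by
    intro x hx
    have h1 : Nat.card {m : G // m ∈ C x ∧ m ∉ center G} + Nat.card (center G) = Nat.card (C x) := by
      have h2 : Nat.card {m : G // m ∈ C x ∧ m ∉ center G} = ((C x : Set G) \ (center G : Set G)).ncard := rfl
      have h3 : Nat.card (center G) = (center G : Set G).ncard := rfl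
      have h4 : Nat.card (C x) = (C x : Set G).ncard := rfl
      rw [h2, h3, h4]
      exact Set.ncard_sdiff_add_ncard_of_subset (SetLike.coe_subset_coe.2 (center_le_C x)) (Set.toFinite _)
    have h5 := Subgroup.card_mul_index (C x)
    have h6 : Nat.card (A x) = (C x).index * Nat.card {m : G // m ∈ C x ∧ m ∉ center G} := Nat.card_prod _ _
    have h7 : 2 * Nat.card (center G) ≤ Nat.card (C x) := by
      obtain ⟨c, hc⟩ := Subgroup.card_dvd_of_le (center_le_C x)
      have hc2 : 2 ≤ c := by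
        by_contra hlt
        push Not at hlt
        interval_cases c
        · have := Nat.card_pos (α := C x)
          omega
        · have h8 : center G = C x := Subgroup.eq_of_le_of_card_ge (center_le_C x) (by rw [hc]; simp)
          exact hx (h8 ▸ self_mem_C x)
      rw [hc, mul_comm]
      exact Nat.mul_le_mul_left _ hc2
    constructor
    · rw [h6, ← mul_add, h1, mul_comm, h5]
    · calc (C x).index * Nat.card (center G) * 2 = (C x).index * (2 * Nat.card (center G)) := by ring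
        _ ≤ (C x).index * Nat.card (C x) := Nat.mul_le_mul_left _ h7
        _ = _ := by rw [mul_comm, h5]
  have htot : Nat.card {g : G // g ∉ center G} + Nat.card (center G) = Nat.card G := by
    have h2 : Nat.card {g : G // g ∉ center G} = ((Set.univ : Set G) \ (center G : Set G)).ncard := by
      rw [← Set.compl_eq_univ_sdiff]; rfl
    have h3 : Nat.card (center G) = (center G : Set G).ncard := rfl
    rw [h2, h3, Set.ncard_sdiff_add_ncard_of_subset (Set.subset_univ _) (Set.toFinite _), Set.ncard_univ]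
  obtain ⟨x, hx⟩ := hna
  -- surjectivity of `f x` fails
  have hns : ¬ Function.Surjective (f x) := by
    intro hs
    have h1 : Nat.card (A x) = Nat.card {g : G // g ∉ center G} :=
      Nat.card_congr (Equiv.ofBijective (f x) ⟨hinj x hx, hs⟩)
    have h2 := (hcard x hx).1
    have h3 : (C x).index * Nat.card (center G) = 1 * Nat.card (center G) := by omega
    have h4 := Nat.eq_of_mul_eq_mul_right Nat.card_pos h3
    exact hx (C_eq_top_iff.1 (Subgroup.index_eq_one.1 h4))
  rw [Function.Surjective] at hns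
  push Not at hns
  obtain ⟨⟨y, hy⟩, hyf⟩ := hns
  have hconj : ∀ r m : G, m ∈ C x → m ∉ center G → ∃ q : A x, (f x q : G) = r * m * r⁻¹ := by
    intro r m hm hmZ
    have h1 : ((QuotientGroup.mk r : G ⧸ C x).out)⁻¹ * r ∈ C x := by
      rw [← QuotientGroup.eq, QuotientGroup.out_eq']
    set o := (QuotientGroup.mk r : G ⧸ C x).out with ho
    refine ⟨(QuotientGroup.mk r, ⟨(o⁻¹ * r) * m * (o⁻¹ * r)⁻¹, mul_mem (mul_mem h1 hm) (inv_mem h1), ?_⟩), ?_⟩
    · intro h2
      apply hmZ
      have h3 := (inferInstance : (center G).Normal).conj_mem _ h2 (o⁻¹ * r)⁻¹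
      have h4 : m = (o⁻¹ * r)⁻¹ * ((o⁻¹ * r) * m * (o⁻¹ * r)⁻¹) * (o⁻¹ * r)⁻¹⁻¹ := by group
      rw [h4]; exact h3
    · rw [hfv]
      show o * ((o⁻¹ * r) * m * (o⁻¹ * r)⁻¹) * o⁻¹ = _
      group
  -- the combined map
  let F : A x ⊕ A y → {g : G // g ∉ center G} := Sum.elim (f x) (f y)
  have hF : Function.Injective F := by
    apply Function.Injective.sumElim (hinj x hx) (hinj y hy)
    rintro ⟨q, m⟩ ⟨q', m'⟩ he
    have he' : q.out * m.1 * q.out⁻¹ = q'.out * m'.1 * q'.out⁻¹ := congrArg Subtype.val he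
    set r := q'.out⁻¹ * q.out with hr
    have hm' : m'.1 = r * m.1 * r⁻¹ := by
      calc m'.1 = q'.out⁻¹ * (q'.out * m'.1 * q'.out⁻¹) * q'.out := by group
        _ = q'.out⁻¹ * (q.out * m.1 * q.out⁻¹) * q'.out := by rw [he']
        _ = _ := by rw [hr]; group
    have hrx : r * x * r⁻¹ ∉ center G := by
      intro h2
      apply hx
      have h3 := (inferInstance : (center G).Normal).conj_mem _ h2 r⁻¹
      have h4 : x = r⁻¹ * (r * x * r⁻¹) * r⁻¹⁻¹ := by group
      rw [h4]; exact h3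
    have h1 : C y = C (r * x * r⁻¹) := by
      apply eq_of_mem hab hy hrx m'.2.2 m'.2.1
      rw [conj_C, hm']
      have : r⁻¹ * (r * m.1 * r⁻¹) * r = m.1 := by group
      rw [this]; exact m.2.1
    have h2 : y ∈ C (r * x * r⁻¹) := h1 ▸ self_mem_C y
    rw [conj_C] at h2
    have h3 : r⁻¹ * y * r ∉ center G := by
      intro h2
      apply hy
      have h3 := (inferInstance : (center G).Normal).conj_mem _ h2 r
      have h4 : y = r * (r⁻¹ * y * r) * r⁻¹ := by group
      rw [h4]; exact h3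
    obtain ⟨Q, hQ⟩ := hconj r _ h2 h3
    apply hyf Q
    apply Subtype.ext
    rw [hQ]; group
  have h1 := Nat.card_le_card_of_injective F hF
  rw [Nat.card_sum] at h1
  have h2 := hcard x hx
  have h3 := hcard y hy
  have h4 : 0 < Nat.card (center G) := Nat.card_pos
  omega


end Count


variable {G : Type*} [Group G] [Finite G] {N : Subgroup G} [hN : N.Normal]

/-- If all `p'`-elements of `N` are central in `N` then `N/Z(N)` is elementary abelian. -/
theorem elementary (h : HypN N) {p : ℕ} [hp : Fact p.Prime]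
    (hall : ∀ g : G, g ∈ N → PEl' p g → g ∈ centralizer (N : Set G)) :
    Cfsg.IsElementaryAbelian p (⊤ : Subgroup (N ⧸ center N)) := by
  have hQ : IsPGroup p (N ⧸ center N) := by
    intro q
    obtain ⟨m, rfl⟩ := QuotientGroup.mk_surjective q
    obtain ⟨u, v, hu, hv, huv, hup, hvp, -, -⟩ := split p m
    have hvZ : v ∈ center N := mem_center_iff'.2 (hall v v.2 (pel'_iff.1 hvp))
    obtain ⟨k, hk⟩ := hup.pow
    refine ⟨k, ?_⟩
    rw [← QuotientGroup.mk_pow]
    apply (QuotientGroup.eq_one_iff _).2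
    have hcomm : Commute u v := (mem_center_iff.1 hvZ u)
    rw [← huv, hcomm.mul_pow, ← hk, pow_orderOf_eq_one, one_mul]
    exact pow_mem hvZ _
  set F0 : Subgroup N := (frattini (N ⧸ center N)).comap (QuotientGroup.mk' (center N)) with hF0
  have hinv : ∀ c : G, ∀ y ∈ F0, MulAut.conjNormal c y ∈ F0 := by
    have h1 : ActNilp.Inv (MulAut.conjNormal : G →* MulAut N) (center N) := ActNilp.inv_of_characteristic _
    have h2 : ActNilp.Inv (ActNilp.quot (center N) h1) (frattini (N ⧸ center N)) :=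
      ActNilp.inv_of_characteristic _
    exact ActNilp.Inv.comap h2
  have hFn : (F0.map N.subtype).Normal := by
    constructor
    rintro _ ⟨y, hy, rfl⟩ c
    exact ⟨MulAut.conjNormal c y, hinv c y hy, MulAut.conjNormal_apply c y⟩
  have hfr : frattini (N ⧸ center N) = ⊥ := by
    rw [eq_bot_iff]
    intro g' hg'
    obtain ⟨g, rfl⟩ := QuotientGroup.mk'_surjective _ g'
    rw [mem_bot]
    apply (QuotientGroup.eq_one_iff g).2
    rw [mem_center_iff]
    intro x
    by_cases hx : x ∈ center N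
    · exact ((mem_center_iff.1 hx) g).symm
    by_cases hle : F0.map N.subtype ≤ C (x : G)
    · have h3 : (g : G) ∈ C (x : G) := hle ⟨g, hg', rfl⟩
      exact (Subtype.ext (mem_C.1 h3)).symm
    · exfalso
      have h1 : (C x).map (QuotientGroup.mk' (center N)) = ⊤ := by
        apply frattini_nongenerating
        rw [eq_top_iff]
        intro m' _
        obtain ⟨m, rfl⟩ := QuotientGroup.mk'_surjective _ m'
        obtain ⟨d, hd, c, hc, hdc⟩ := exists_factor h (nc_of hx) hle (m : G)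
        obtain ⟨d', hd', rfl⟩ := hd
        have hc' : d'⁻¹ * m ∈ C x := by
          rw [mem_C']
          have : ((d'⁻¹ * m : N) : G) = c := by
            show (d' : G)⁻¹ * m = c
            rw [← hdc]; simp
          rw [this]; exact hc
        have e : m = d' * (d'⁻¹ * m) := by group
        rw [e, map_mul, sup_comm]
        exact mul_mem_sup hd' ⟨_, hc', rfl⟩
      apply hx
      rw [← C_eq_top_iff, eq_top_iff]
      intro m _
      rw [← mem_map_mk (center_le_C x), h1]
      trivial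
  constructor
  · have h1 := Cfsg.Agent.Lib.H70Frattini.commutator_le_frattini hQ
    rw [hfr] at h1
    have h2 : ∀ a b : N ⧸ center N, a * b = b * a := by
      intro a b
      have h3 : ⁅a, b⁆ ∈ _root_.commutator (N ⧸ center N) := commutator_mem_commutator (mem_top a) (mem_top b)
      have h4 := h1 h3
      rwa [mem_bot, commutatorElement_eq_one_iff_mul_comm] at h4
    exact ⟨⟨fun a b => Subtype.ext (h2 a b)⟩⟩
  · intro a _
    have h1 := Cfsg.Agent.Lib.H70Frattini.pow_mem_frattini hQ a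
    rwa [hfr, mem_bot] at h1

/-- If `N/Z(N)` is abelian then it is a `p`-group. -/
theorem prime_of_comm (h : HypN N) (hna : ∃ x : N, x ∉ center N)
    (hcomm : ∀ a b : N ⧸ center N, a * b = b * a) :
    ∃ p : ℕ, p.Prime ∧ ∀ g : G, g ∈ N → PEl' p g → g ∈ centralizer (N : Set G) := by
  have hnil : Group.IsNilpotent N := by
    apply Group.of_quotient_center_nilpotent
    let _ : CommGroup (N ⧸ center N) := { (inferInstance : Group (N ⧸ center N)) with mul_comm := hcomm }
    exact CommGroup.isNilpotent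
  obtain ⟨x, hx⟩ := hna
  obtain ⟨p, hp, u, hu, huZ, hup⟩ := exists_primary (center N) _ x le_rfl hx
  have hfp : Fact p.Prime := ⟨hp⟩
  refine ⟨p, hp, fun g hgN hgp => ?_⟩
  by_contra hgZ
  set g' : N := ⟨g, hgN⟩ with hg'
  have hgp' : PEl' p g' := pel'_iff.2 hgp
  have hgZ' : g' ∉ center N := fun h1 => hgZ (mem_center_iff'.1 h1)
  have hco := hup.coprime hgp'
  have hc1 : Commute u g' := H23Nilp.commute_of_coprime_orderOf N u g' hco
  have hC : C (u : G) = C (g' : G) :=
    eq_of_coprime h (nc_of huZ) (nc_of hgZ') (congrArg Subtype.val hc1.eq) ((pel_iff.1 hup).coprime hgp)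
  apply huZ
  rw [← C_eq_top_iff, eq_top_iff]
  intro n _
  obtain ⟨a, b, ha, hb, hab, hap, hbp, -, -⟩ := split p n
  rw [← hab]
  apply mul_mem
  · have h1 : Commute a g' := H23Nilp.commute_of_coprime_orderOf N a g' (hap.coprime hgp')
    have h2 : a ∈ C g' := mem_C.2 h1.eq
    rw [mem_C'] at h2 ⊢
    rw [hC]; exact h2
  · have h1 : Commute u b := H23Nilp.commute_of_coprime_orderOf N u b (hup.coprime hbp)
    exact mem_C.2 h1.symm.eq


/-- Case 2: all centralizers are abelian. -/
theorem case2 (h : HypN N) (hna : ∃ x : N, x ∉ center N)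
    (hab : ∀ x : N, x ∉ center N → IsMulCommutative (C x)) :
    (∃ p : ℕ, p.Prime ∧ ∀ g : G, g ∈ N → PEl' p g → g ∈ centralizer (N : Set G)) ∨
    (∃ (Q K : Subgroup (N ⧸ center N)) (p : ℕ), p.Prime ∧ Cfsg.IsFrobeniusComplement Q ∧ (Nat.card Q).Prime ∧
      K.Normal ∧ (K : Set (N ⧸ center N)) = Cfsg.frobeniusKernel Q ∧ Cfsg.IsElementaryAbelian p K) := by
  obtain ⟨x, hx, hxn⟩ : ∃ x : N, x ∉ center N ∧ (N ⊓ C (x : G)).Normal := by
    by_contra hcon
    push Not at hcon
    exact count hab (fun x hx => self_normalizing h hx (hcon x hx)) hna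
  obtain ⟨y, hy⟩ : ∃ y : N, y ∉ C x := by
    by_contra hcon
    push Not at hcon
    exact hx (C_eq_top_iff.1 (eq_top_iff.2 (fun g _ => hcon g)))
  have hyZ' : ∀ y : N, y ∉ C x → y ∉ center N := fun y hy h1 => hy (center_le_C x h1)
  have hinf : ∀ y : N, y ∉ C x → ∀ w : N, w ∈ C x → w ∈ C y → w ∈ center N := by
    intro y hy w h1 h2
    by_contra hw
    exact hy ((eq_of_mem hab hx (hyZ' y hy) hw h1 h2) ▸ self_mem_C y)
  have hfac : ∀ y : N, y ∉ C x → ∀ D : Subgroup G, D.Normal → (∃ d : N, (d : G) ∈ D ∧ d ∈ C x ∧ d ∉ center N) →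
      ∀ m : G, ∃ e ∈ D, ∃ c ∈ C (y : G), e * c = m := by
    rintro y hy D hD ⟨d, hd, hdx, hdZ⟩ m
    refine exists_factor h (nc_of (hyZ' y hy)) ?_ m
    intro hle
    exact hdZ (hinf y hy d hdx (mem_C'.2 (hle hd)))
  have hmemA : ∀ w : N, w ∈ C x ↔ (w : G) ∈ N ⊓ C (x : G) := by
    intro w
    rw [mem_C']
    exact ⟨fun h1 => ⟨w.2, h1⟩, fun h1 => h1.2⟩
  have hAcomm : ∀ a ∈ N ⊓ C (x : G), ∀ b ∈ N ⊓ C (x : G), a * b = b * a :=
    comm_iff_le.1 (comm_iff.1 (hab x hx))
  have hxA : (x : G) ∈ N ⊓ C (x : G) := ⟨x.2, self_mem_C _⟩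
  have hCxn : (C x).Normal := by
    constructor
    intro a ha n
    rw [hmemA] at ha ⊢
    exact hxn.conj_mem _ ha (n : G)
  set π := QuotientGroup.mk' (center N) with hπ
  have hπ1 : ∀ g, π g = 1 ↔ g ∈ center N := fun g => QuotientGroup.eq_one_iff g
  -- factorization in `N`
  have hfacN : ∀ y : N, y ∉ C x → ∀ m : N, ∃ a ∈ C x, ∃ c ∈ C y, a * c = m := by
    intro y hy m
    obtain ⟨e, he, c, hc, hec⟩ := hfac y hy (N ⊓ C (x : G)) hxn ⟨x, hxA, self_mem_C x, hx⟩ (m : G)
    have hcN : c ∈ N := by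
      have : c = e⁻¹ * m := by rw [← hec]; group
      rw [this]
      exact mul_mem (inv_mem he.1) m.2
    exact ⟨⟨e, he.1⟩, mem_C'.2 he.2, ⟨c, hcN⟩, mem_C'.2 hc, Subtype.ext hec⟩
  by_cases hcase : ∃ y : N, y ∉ C x ∧ ∃ a ∈ C x, a ∉ center N ∧ a * y * a⁻¹ * y⁻¹ ∈ center N
  · left
    apply prime_of_comm h hna
    obtain ⟨y, hy, a, ha, haZ, hay⟩ := hcase
    have hZn : (centralizer (N : Set G)).Normal := inferInstance
    let B0 : Subgroup G :=
      { carrier := {b | b ∈ N ⊓ C (x : G) ∧ b * y * b⁻¹ * (y : G)⁻¹ ∈ centralizer (N : Set G)}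
        one_mem' := ⟨one_mem _, by
          have : (1 : G) * y * 1⁻¹ * (y : G)⁻¹ = 1 := by group
          rw [this]; exact one_mem _⟩
        mul_mem' := by
          rintro b b' ⟨h1, h2⟩ ⟨h3, h4⟩
          refine ⟨mul_mem h1 h3, ?_⟩
          have e : b * b' * y * (b * b')⁻¹ * (y : G)⁻¹ =
              (b * (b' * y * b'⁻¹ * (y : G)⁻¹) * b⁻¹) * (b * y * b⁻¹ * (y : G)⁻¹) := by group
          rw [e]
          exact mul_mem (hZn.conj_mem _ h4 b) h2
        inv_mem' := by
          rintro b ⟨h1, h2⟩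
          refine ⟨inv_mem h1, ?_⟩
          have e : b⁻¹ * y * b⁻¹⁻¹ * (y : G)⁻¹ = b⁻¹ * (b * y * b⁻¹ * (y : G)⁻¹)⁻¹ * b⁻¹⁻¹ := by group
          rw [e]
          exact hZn.conj_mem _ (inv_mem h2) b⁻¹ }
    have hB0 : ∀ b, b ∈ B0 ↔ b ∈ N ⊓ C (x : G) ∧ b * y * b⁻¹ * (y : G)⁻¹ ∈ centralizer (N : Set G) :=
      fun _ => Iff.rfl
    have hB0n : B0.Normal := by
      constructor
      intro b hb g
      rw [hB0] at hb ⊢
      refine ⟨hxn.conj_mem b hb.1 g, ?_⟩
      obtain ⟨α, hα, c, hc, rfl⟩ := hfac y hy (N ⊓ C (x : G)) hxn ⟨x, hxA, self_mem_C x, hx⟩ g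
      have h1 : c * b * c⁻¹ ∈ N ⊓ C (x : G) := hxn.conj_mem b hb.1 c
      have h2 : α * c * b * (α * c)⁻¹ = c * b * c⁻¹ := by
        calc α * c * b * (α * c)⁻¹ = (α * (c * b * c⁻¹)) * α⁻¹ := by group
          _ = ((c * b * c⁻¹) * α) * α⁻¹ := by rw [hAcomm α hα _ h1]
          _ = _ := by group
      rw [h2]
      have h3 : c * (y : G) = y * c := mem_C.1 hc
      have h4 : c⁻¹ * (y : G) * c = y := by rw [mul_assoc, ← h3]; group
      have h5 : c * b * c⁻¹ * y * (c * b * c⁻¹)⁻¹ * (y : G)⁻¹ = c * (b * y * b⁻¹ * (y : G)⁻¹) * c⁻¹ := by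
        calc c * b * c⁻¹ * y * (c * b * c⁻¹)⁻¹ * (y : G)⁻¹
            = c * b * (c⁻¹ * y * c) * b⁻¹ * (c⁻¹ * y * c)⁻¹ * c⁻¹ := by group
          _ = c * b * y * b⁻¹ * (y : G)⁻¹ * c⁻¹ := by rw [h4]
          _ = _ := by group
      rw [h5]
      exact hZn.conj_mem _ hb.2 c
    -- `[A, y] ≤ Z`
    have hAy : ∀ m ∈ C x, m * y * m⁻¹ * y⁻¹ ∈ center N := by
      intro m hm
      obtain ⟨e, he, c, hc, hec⟩ := hfac y hy B0 hB0n ⟨a, ⟨(hmemA a).1 ha, mem_center_iff'.1 hay⟩, ha, haZ⟩ (m : G)
      have hcN : c ∈ N := by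
        have : c = e⁻¹ * m := by rw [← hec]; group
        rw [this]
        exact mul_mem (inv_mem he.1.1) m.2
      have hcA : (⟨c, hcN⟩ : N) ∈ C x := by
        rw [hmemA]
        have : c = e⁻¹ * m := by rw [← hec]; group
        show c ∈ _
        rw [this]
        exact mul_mem (inv_mem he.1) ((hmemA m).1 hm)
      have hcZ := hinf y hy ⟨c, hcN⟩ hcA (mem_C'.2 hc)
      rw [mem_center_iff']
      have hcB : c ∈ B0 := by
        refine ⟨(hmemA _).1 hcA, ?_⟩
        have : c * y * c⁻¹ * (y : G)⁻¹ = 1 := by rw [mem_C.1 hc]; group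
        rw [this]; exact one_mem _
      have hmB : (m : G) ∈ B0 := hec ▸ mul_mem he hcB
      exact hmB.2
    have hAc : ∀ b ∈ C x, ∀ c ∈ C y, π b * π c = π c * π b := by
      intro b hb c hc
      have hz := hAy b hb
      set z := b * y * b⁻¹ * y⁻¹ with hzdef
      have hzc : ∀ t : N, t * z = z * t := mem_center_iff.1 hz
      have hzc' : ∀ t : N, t * z⁻¹ = z⁻¹ * t := mem_center_iff.1 (inv_mem hz)
      have h1 : b * y = z * (y * b) := by rw [hzdef]; group
      have h1' : b⁻¹ * y = z⁻¹ * (y * b⁻¹) := by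
        have : y * b⁻¹ = b⁻¹ * (b * y) * b⁻¹ := by group
        rw [this, h1]
        calc b⁻¹ * y = (z⁻¹ * z) * (b⁻¹ * y) := by group
          _ = z⁻¹ * ((z * b⁻¹) * y) := by group
          _ = z⁻¹ * ((b⁻¹ * z) * y) := by rw [hzc]
          _ = _ := by group
      have hcy : c * y = y * c := mem_C.1 hc
      have hcy' : c⁻¹ * y = y * c⁻¹ := by
        have : Commute c⁻¹ y := Commute.inv_left hcy
        exact this.eq
      have h2 : c * b * c⁻¹ * y = z * (y * (c * b * c⁻¹)) := by
        calc c * b * c⁻¹ * y = c * b * (c⁻¹ * y) := by group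
          _ = c * b * (y * c⁻¹) := by rw [hcy']
          _ = c * (b * y) * c⁻¹ := by group
          _ = c * (z * (y * b)) * c⁻¹ := by rw [h1]
          _ = (c * z) * y * b * c⁻¹ := by group
          _ = (z * c) * y * b * c⁻¹ := by rw [hzc]
          _ = z * (c * y) * b * c⁻¹ := by group
          _ = z * (y * c) * b * c⁻¹ := by rw [hcy]
          _ = _ := by group
      have h3 : c * b * c⁻¹ * b⁻¹ ∈ C y := by
        rw [mem_C]
        calc c * b * c⁻¹ * b⁻¹ * y = c * b * c⁻¹ * (b⁻¹ * y) := by group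
          _ = c * b * c⁻¹ * (z⁻¹ * (y * b⁻¹)) := by rw [h1']
          _ = (c * b * c⁻¹ * z⁻¹) * (y * b⁻¹) := by group
          _ = (z⁻¹ * (c * b * c⁻¹)) * (y * b⁻¹) := by rw [hzc']
          _ = z⁻¹ * (c * b * c⁻¹ * y) * b⁻¹ := by group
          _ = z⁻¹ * (z * (y * (c * b * c⁻¹))) * b⁻¹ := by rw [h2]
          _ = _ := by group
      have h4 : c * b * c⁻¹ * b⁻¹ ∈ C x := mul_mem (hCxn.conj_mem b hb c) (inv_mem hb)
      have h5 := (hπ1 _).2 (hinf y hy _ h4 h3)
      rw [map_mul, map_mul, map_mul, map_inv, map_inv] at h5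
      have h6 : π c * π b = π b * π c := by
        calc π c * π b = (π c * π b * (π c)⁻¹ * (π b)⁻¹) * (π b * π c) := by group
          _ = _ := by rw [h5, one_mul]
      exact h6.symm
    intro n' m'
    obtain ⟨n, rfl⟩ := QuotientGroup.mk'_surjective _ n'
    obtain ⟨m, rfl⟩ := QuotientGroup.mk'_surjective _ m'
    obtain ⟨α, hα, c, hc, rfl⟩ := hfacN y hy n
    obtain ⟨β, hβ, d, hd, rfl⟩ := hfacN y hy m
    have e1 : Commute (π α) (π β) := by
      show π α * π β = π β * π α
      rw [← map_mul, ← map_mul, (comm_iff_le.1 (hab x hx)) α hα β hβ]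
    have e2 : Commute (π c) (π d) := by
      show π c * π d = π d * π c
      rw [← map_mul, ← map_mul, (comm_iff_le.1 (hab y (hyZ' y hy))) c hc d hd]
    have e3 : Commute (π α) (π d) := hAc α hα d hd
    have e4 : Commute (π c) (π β) := (hAc β hβ c hc).symm
    show π (α * c) * π (β * d) = π (β * d) * π (α * c)
    rw [map_mul, map_mul]
    exact ((e1.mul_right e3).mul_left (e4.mul_right e2)).eq
  · right
    push Not at hcase
    have hyZ := hyZ' y hy
    set K := (C x).map π with hK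
    set Q := (C y).map π with hQ
    have hKn : K.Normal := hCxn.map π (QuotientGroup.mk'_surjective _)
    have hxK : π x ∈ K := ⟨x, self_mem_C x, rfl⟩
    have hyQ : π y ∈ Q := ⟨y, self_mem_C y, rfl⟩
    have hK1 : K ≠ ⊥ := by
      intro h1
      rw [h1, mem_bot, hπ1] at hxK
      exact hx hxK
    have hQ1 : Q ≠ ⊥ := by
      intro h1
      rw [h1, mem_bot, hπ1] at hyQ
      exact hyZ hyQ
    have hKQ : K ⊓ Q = ⊥ := by
      rw [eq_bot_iff]
      rintro _ ⟨⟨w, hw, rfl⟩, hw2⟩
      have hw2' : w ∈ C y := (mem_map_mk (center_le_C y)).1 hw2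
      rw [mem_bot, hπ1]
      exact hinf y hy w hw hw2'
    have hcompl : IsComplement' K Q := by
      apply isComplement'_of_disjoint_and_mul_eq_univ (disjoint_iff.2 hKQ)
      rw [Set.eq_univ_iff_forall]
      intro b
      obtain ⟨m, rfl⟩ := QuotientGroup.mk'_surjective _ b
      obtain ⟨α, hα, c, hc, rfl⟩ := hfacN y hy m
      exact ⟨π α, ⟨α, hα, rfl⟩, π c, ⟨c, hc, rfl⟩, (map_mul π α c).symm⟩
    have hF : Cfsg.IsFrobeniusComplement Q := by
      rw [FrobGroup.isFrobeniusComplement_iff hcompl hK1 hQ1]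
      rintro _ ⟨w, hw, rfl⟩ hw1
      have hwZ : w ∉ center N := fun h1 => hw1 ((hπ1 w).2 h1)
      have hwx : w ∉ C x := fun h1 => hwZ (hinf y hy w h1 hw)
      rw [eq_bot_iff]
      rintro _ ⟨⟨a, ha, rfl⟩, hc⟩
      rw [mem_bot, hπ1]
      by_contra haZ
      apply hcase w hwx a ha haZ
      rw [← hπ1, map_mul, map_mul, map_mul, map_inv, map_inv]
      have : π a * π w = π w * π a := mem_centralizer_singleton_iff.1 hc
      rw [this]; group
    have hker := FrobGroup.kernel_eq_of_complement hcompl hF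
    -- `K` is elementary abelian
    obtain ⟨p, hp, hpK⟩ : ∃ p : ℕ, p.Prime ∧ p ∣ Nat.card K :=
      Nat.exists_prime_and_dvd (by rwa [Ne, Subgroup.card_eq_one])
    have hfp : Fact p.Prime := ⟨hp⟩
    have hKp : ∀ k ∈ K, k ^ p = 1 := by
      obtain ⟨k, hk⟩ := exists_prime_orderOf_dvd_card' (G := K) p hpK
      obtain ⟨w, hw, hwk⟩ := k.2
      rw [← Subgroup.orderOf_coe, ← hwk] at hk
      have hwZ : w ∉ center N := by
        intro h1
        rw [(hπ1 w).2 h1, orderOf_one] at hk
        exact hp.one_lt.ne hk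
      have hwp : w ^ p ∈ center N := by
        rw [← hπ1, map_pow, ← hk]; exact pow_orderOf_eq_one _
      have hZn : (centralizer (N : Set G)).Normal := inferInstance
      let L : Subgroup G :=
        { carrier := {b | b ∈ N ⊓ C (x : G) ∧ b ^ p ∈ centralizer (N : Set G)}
          one_mem' := ⟨one_mem _, by rw [one_pow]; exact one_mem _⟩
          mul_mem' := by
            rintro b b' ⟨h1, h2⟩ ⟨h3, h4⟩
            refine ⟨mul_mem h1 h3, ?_⟩
            rw [(show Commute b b' from hAcomm b h1 b' h3).mul_pow]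
            exact mul_mem h2 h4
          inv_mem' := by
            rintro b ⟨h1, h2⟩
            refine ⟨inv_mem h1, ?_⟩
            rw [inv_pow]; exact inv_mem h2 }
      have hLn : L.Normal := by
        constructor
        rintro b ⟨hb, hb'⟩ g
        refine ⟨hxn.conj_mem b hb g, ?_⟩
        rw [conj_pow]
        exact hZn.conj_mem _ hb' g
      rintro _ ⟨m, hm, rfl⟩
      obtain ⟨e, he, c, hc, hec⟩ := hfac y hy L hLn ⟨w, ⟨(hmemA w).1 hw, mem_center_iff'.1 hwp⟩, hw, hwZ⟩ (m : G)
      have hcA' : c ∈ N ⊓ C (x : G) := by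
        have : c = e⁻¹ * m := by rw [← hec]; group
        rw [this]
        exact mul_mem (inv_mem he.1) ((hmemA m).1 hm)
      have hcZ := hinf y hy ⟨c, hcA'.1⟩ (mem_C'.2 hcA'.2) (mem_C'.2 hc)
      have hcL : c ∈ L := ⟨hcA', pow_mem (mem_center_iff'.1 hcZ) _⟩
      have hmL : (m : G) ∈ L := hec ▸ mul_mem he hcL
      rw [← map_pow, hπ1, mem_center_iff']
      exact hmL.2
    have hKab : IsMulCommutative K := by
      rw [comm_iff_le]
      rintro _ ⟨a, ha, rfl⟩ _ ⟨b, hb, rfl⟩
      rw [← map_mul, ← map_mul, comm_iff_le.1 (hab x hx) a ha b hb]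
    have hQab : ∀ a b : Q, a * b = b * a := by
      rintro ⟨_, a, ha, rfl⟩ ⟨_, b, hb, rfl⟩
      apply Subtype.ext
      show π a * π b = π b * π a
      rw [← map_mul, ← map_mul, comm_iff_le.1 (hab y hyZ) a ha b hb]
    have hcyc : IsCyclic Q := TwoFrob.isCyclic_complement_of_comm hF hker.symm hcompl hQab
    -- `|Q|` is a prime
    obtain ⟨r, hr, hrQ⟩ : ∃ r : ℕ, r.Prime ∧ r ∣ Nat.card Q :=
      Nat.exists_prime_and_dvd (by rwa [Ne, Subgroup.card_eq_one])
    have hfr : Fact r.Prime := ⟨hr⟩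
    have hQr : ∀ q ∈ Q, q ^ r = 1 := by
      obtain ⟨k, hk⟩ := exists_prime_orderOf_dvd_card' (G := Q) r hrQ
      obtain ⟨w, hw, hwk⟩ := k.2
      rw [← Subgroup.orderOf_coe, ← hwk] at hk
      have hwZ : w ∉ center N := by
        intro h1
        rw [(hπ1 w).2 h1, orderOf_one] at hk
        exact hr.one_lt.ne hk
      have hwp : w ^ r ∈ center N := by
        rw [← hπ1, map_pow, ← hk]; exact pow_orderOf_eq_one _
      have hwx : w ∉ C x := fun h1 => hwZ (hinf y hy w h1 hw)
      have hqcomm : ∀ a b : N ⧸ C x, a * b = b * a := by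
        intro a' b'
        obtain ⟨a, rfl⟩ := QuotientGroup.mk'_surjective _ a'
        obtain ⟨b, rfl⟩ := QuotientGroup.mk'_surjective _ b'
        obtain ⟨α, hα, c, hc, rfl⟩ := hfacN y hy a
        obtain ⟨β, hβ, d, hd, rfl⟩ := hfacN y hy b
        have e1 : QuotientGroup.mk' (C x) α = 1 := (QuotientGroup.eq_one_iff _).2 hα
        have e2 : QuotientGroup.mk' (C x) β = 1 := (QuotientGroup.eq_one_iff _).2 hβ
        rw [map_mul, map_mul, e1, e2, one_mul, one_mul, ← map_mul, ← map_mul,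
          (comm_iff_le.1 (hab y hyZ)) c hc d hd]
      have hqpow : ∀ a b : N, a ^ r ∈ C x → b ^ r ∈ C x → (a * b) ^ r ∈ C x := by
        intro a b ha hb
        rw [← QuotientGroup.eq_one_iff, QuotientGroup.mk_pow] at ha hb ⊢
        rw [QuotientGroup.mk_mul, (show Commute (a : N ⧸ C x) (b : N ⧸ C x) from hqcomm _ _).mul_pow, ha, hb,
          one_mul]
      let R : Subgroup G :=
        { carrier := {b | b ∈ N ∧ b ^ r ∈ N ⊓ C (x : G)}
          one_mem' := ⟨one_mem _, by rw [one_pow]; exact one_mem _⟩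
          mul_mem' := by
            rintro b b' ⟨h1, h2⟩ ⟨h3, h4⟩
            refine ⟨mul_mem h1 h3, ?_⟩
            have := hqpow ⟨b, h1⟩ ⟨b', h3⟩ ((hmemA _).2 h2) ((hmemA _).2 h4)
            exact (hmemA _).1 this
          inv_mem' := by
            rintro b ⟨h1, h2⟩
            refine ⟨inv_mem h1, ?_⟩
            rw [inv_pow]; exact inv_mem h2 }
      have hRn : R.Normal := by
        constructor
        rintro b ⟨hb, hb'⟩ g
        refine ⟨hN.conj_mem b hb g, ?_⟩
        rw [conj_pow]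
        exact hxn.conj_mem _ hb' g
      have hRx : ¬ R ≤ C (x : G) := by
        intro hle
        apply hwx
        rw [mem_C']
        exact hle ⟨w.2, (hmemA _).1 (center_le_C x hwp)⟩
      rintro _ ⟨m, hm, rfl⟩
      obtain ⟨e, he, c, hc, hec⟩ := exists_factor h (nc_of hx) hRx (m : G)
      have hcN : c ∈ N := by
        have : c = e⁻¹ * m := by rw [← hec]; group
        rw [this]
        exact mul_mem (inv_mem he.1) m.2
      have hcR : c ∈ R := ⟨hcN, pow_mem (⟨hcN, hc⟩ : c ∈ N ⊓ C (x : G)) _⟩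
      have hmR : (m : G) ∈ R := hec ▸ mul_mem he hcR
      rw [← map_pow, hπ1]
      exact hinf y hy _ ((hmemA _).2 hmR.2) (pow_mem hm _)
    have hQcard : Nat.card Q = r := by
      obtain ⟨g, hg⟩ := hcyc.exists_generator
      have h1 : orderOf g = Nat.card Q := orderOf_eq_card_of_forall_mem_zpowers hg
      have h2 : orderOf g ∣ r := orderOf_dvd_of_pow_eq_one (Subtype.ext (hQr g g.2))
      rw [h1] at h2
      exact Nat.dvd_antisymm h2 hrQ
    exact ⟨Q, K, p, hp, hF, by rw [hQcard]; exact hr, hKn, hker.symm, hKab, hKp⟩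

end Cfsg.Agent.Lib.H64CentMax
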