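import Mathlib
import Cfsg.Prelude.Def_Transfer

/-! Irreducible action of an element of prime order on an elementary abelian group (helper64):
`|A| = q ^ orderOf (q : ZMod p)`. -/

set_option autoImplicit false

namespace Cfsg.Agent.Lib.H64Irr

open Polynomial in
theorem card_le_of_forall_pow_eq {R : Type*} [CommRing R] [IsDomain R] [Finite R] {n : ℕ} (hn : 1 < n)
    (h : ∀ r : R, r ^ n = r) : Nat.card R ≤ n := by
  classical
  have : Fintype R := Fintype.ofFinite _
  have hdeg : (X ^ n - X : R[X]).natDegree = n := by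
    compute_degree!
    · rw [if_neg (by omega)]; simp
    · omega
  have hne : (X ^ n - X : R[X]) ≠ 0 := by
    intro h0
    rw [h0, natDegree_zero] at hdeg
    omega
  have h1 : (Finset.univ : Finset R) ⊆ (X ^ n - X : R[X]).roots.toFinset := by
    intro r _
    rw [Multiset.mem_toFinset, mem_roots hne, IsRoot.def, eval_sub, eval_pow, eval_X, h r, sub_self]
  calc Nat.card R = Finset.card (Finset.univ : Finset R) := by rw [Nat.card_eq_fintype_card]; rfl
    _ ≤ (X ^ n - X : R[X]).roots.toFinset.card := Finset.card_le_card h1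
    _ ≤ Multiset.card (X ^ n - X : R[X]).roots := Multiset.toFinset_card_le _
    _ ≤ (X ^ n - X : R[X]).natDegree := card_roots' _
    _ = n := hdeg

/-- If `T` acts irreducibly on the `ZMod q`-module `V` and `T ^ (q ^ e) = T` then `|V| ≤ q ^ e`. -/
theorem card_le_of_irreducible {q e : ℕ} [hq : Fact q.Prime] (he : e ≠ 0) {V : Type*} [AddCommGroup V] [Finite V]
    [Module (ZMod q) V] (T : Module.End (ZMod q) V) (hT : T ^ (q ^ e) = T)
    (hirr : ∀ W : Submodule (ZMod q) V, (∀ w ∈ W, T w ∈ W) → W = ⊥ ∨ W = ⊤) : Nat.card V ≤ q ^ e := by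
  rcases subsingleton_or_nontrivial V with hsub | hnt
  · rw [Nat.card_of_subsingleton (0 : V)]
    exact Nat.one_le_pow _ _ hq.out.pos
  obtain ⟨v, hv⟩ := exists_ne (0 : V)
  have : Finite (Module.End (ZMod q) V) := Finite.of_injective (fun f => (f : V → V)) DFunLike.coe_injective
  let R := Algebra.adjoin (ZMod q) ({T} : Set (Module.End (ZMod q) V))
  have hmc : IsMulCommutative R := Algebra.isMulCommutative_adjoin (ZMod q) (by
    intro a ha b hb
    rw [Set.mem_singleton_iff] at ha hb
    rw [ha, hb])
  let _ : CommRing R := { (inferInstance : Ring R) with mul_comm := hmc.is_comm.comm }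
  have hTR : T ∈ R := Algebra.subset_adjoin rfl
  have hcomm : ∀ r : R, (r : Module.End (ZMod q) V) * T = T * r := by
    intro r
    have := mul_comm r ⟨T, hTR⟩
    exact congrArg Subtype.val this
  have hinj : ∀ r : R, r ≠ 0 → ∀ w : V, (r : Module.End (ZMod q) V) w = 0 → w = 0 := by
    intro r hr w hw
    have h1 := hirr (LinearMap.ker (r : Module.End (ZMod q) V)) (by
      intro w hw
      rw [LinearMap.mem_ker] at hw ⊢
      have h2 : ((r : Module.End (ZMod q) V) * T) w = (T * r) w := by rw [hcomm r]
      rw [Module.End.mul_apply, Module.End.mul_apply, hw, map_zero] at h2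
      exact h2)
    rcases h1 with h1 | h1
    · have : w ∈ LinearMap.ker (r : Module.End (ZMod q) V) := hw
      rw [h1] at this
      simpa using this
    · exfalso
      apply hr
      apply Subtype.ext
      rw [LinearMap.ker_eq_top] at h1
      exact h1
  have hnzd : NoZeroDivisors R := ⟨by
    intro a b hab
    by_contra hcon
    push Not at hcon
    apply hcon.2
    apply Subtype.ext
    ext w
    have h1 : (a : Module.End (ZMod q) V) ((b : Module.End (ZMod q) V) w) = 0 := by
      have := congrArg (fun r : R => (r : Module.End (ZMod q) V) w) hab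
      exact this
    exact hinj a hcon.1 _ h1⟩
  have hnontriv : Nontrivial R := ⟨⟨0, 1, by
    intro h
    have := congrArg (fun r : R => (r : Module.End (ZMod q) V) v) h
    apply hv
    exact this.symm⟩⟩
  have hdom : IsDomain R := NoZeroDivisors.to_isDomain R
  have hchar : CharP R q := by
    have : CharP (ZMod q) q := inferInstance
    exact charP_of_injective_algebraMap (FaithfulSMul.algebraMap_injective (ZMod q) R) q
  -- all elements are fixed by the e-fold Frobenius
  have hfrob : ∀ r : R, r ^ (q ^ e) = r := by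
    have hexp : ExpChar R q := ExpChar.prime hq.out
    have key : ∀ x : Module.End (ZMod q) V, ∀ hx : x ∈ R, (⟨x, hx⟩ : R) ^ (q ^ e) = ⟨x, hx⟩ := by
      intro x hx
      induction hx using Algebra.adjoin_induction with
      | mem x hx =>
        rw [Set.mem_singleton_iff] at hx
        subst hx
        apply Subtype.ext
        exact hT
      | algebraMap r =>
        have h1 : (⟨algebraMap (ZMod q) (Module.End (ZMod q) V) r, Subalgebra.algebraMap_mem R r⟩ : R)
            = algebraMap (ZMod q) R r := rfl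
        rw [h1, ← map_pow]
        congr 1
        have h2 : ∀ n : ℕ, r ^ (q ^ n) = r := by
          intro n
          induction n with
          | zero => simp
          | succ n ih => rw [pow_succ, pow_mul, ih, ZMod.pow_card]
        exact h2 e
      | add x y hx hy ihx ihy =>
        have h1 : (⟨x + y, add_mem hx hy⟩ : R) = ⟨x, hx⟩ + ⟨y, hy⟩ := rfl
        rw [h1, add_pow_expChar_pow, ihx, ihy]
      | mul x y hx hy ihx ihy =>
        have h1 : (⟨x * y, mul_mem hx hy⟩ : R) = ⟨x, hx⟩ * ⟨y, hy⟩ := rfl
        rw [h1, mul_pow, ihx, ihy]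
    intro r
    exact key r r.2
  have hq1 : 1 < q ^ e := Nat.one_lt_pow he hq.out.one_lt
  have hR : Nat.card R ≤ q ^ e := by
    exact card_le_of_forall_pow_eq hq1 hfrob
  have hsurj : Function.Surjective (fun r : R => (r : Module.End (ZMod q) V) v) := by
    let W : Submodule (ZMod q) V :=
      { carrier := {w | ∃ r : R, (r : Module.End (ZMod q) V) v = w}
        add_mem' := by
          rintro _ _ ⟨r, rfl⟩ ⟨s, rfl⟩
          exact ⟨⟨(r : Module.End (ZMod q) V) + s, add_mem r.2 s.2⟩, by simp⟩
        zero_mem' := ⟨⟨0, zero_mem R⟩, by simp⟩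
        smul_mem' := by
          rintro c _ ⟨r, rfl⟩
          exact ⟨⟨c • (r : Module.End (ZMod q) V), Subalgebra.smul_mem R r.2 c⟩, by simp⟩ }
    have hW := hirr W (by
      rintro _ ⟨r, rfl⟩
      exact ⟨⟨T * r, mul_mem hTR r.2⟩, by simp⟩)
    have hvW : v ∈ W := ⟨⟨1, one_mem R⟩, by simp⟩
    rcases hW with hW | hW
    · rw [hW] at hvW
      exact absurd (by simpa using hvW) hv
    · intro w
      have : w ∈ W := by rw [hW]; trivial
      obtain ⟨r, hrw⟩ := this
      exact ⟨r, hrw⟩
  exact (Nat.card_le_card_of_surjective _ hsurj).trans hR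

theorem card_le_of_irreducible_addHom_aux {V : Type*} [AddCommGroup V] [Finite V] {p q e : ℕ} [Fact q.Prime]
    [Module (ZMod q) V] (he0 : e ≠ 0) (hpe : p ∣ q ^ e - 1) (c : V →+ V) (hcp : ∀ a, c^[p] a = a)
    (hirr : ∀ B : AddSubgroup V, (∀ b ∈ B, c b ∈ B) → B = ⊥ ∨ B = ⊤) : Nat.card V ≤ q ^ e := by
  have hq := (Fact.out : q.Prime)
  let T : Module.End (ZMod q) V := c.toZModLinearMap q
  have hTn : ∀ (n : ℕ) (a : V), (T ^ n : Module.End (ZMod q) V) a = c^[n] a := by
    intro n
    induction n with
    | zero => intro a; rfl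
    | succ n ih =>
      intro a
      rw [pow_succ', Module.End.mul_apply, ih, Function.iterate_succ_apply']
      rfl
  have hTp : T ^ p = 1 := by
    ext a
    rw [hTn, hcp]; rfl
  have hT : T ^ (q ^ e) = T := by
    obtain ⟨k, hk⟩ : ∃ k, q ^ e = p * k + 1 := by
      obtain ⟨k, hk⟩ := hpe
      have := Nat.one_le_pow e q hq.pos
      exact ⟨k, by omega⟩
    rw [hk, pow_succ, pow_mul, hTp, one_pow, one_mul]
  apply card_le_of_irreducible he0 T hT
  intro W hW
  rcases hirr W.toAddSubgroup (fun b hb => hW b hb) with hB | hB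
  · left
    rw [eq_bot_iff]
    intro w hw
    have : w ∈ W.toAddSubgroup := hw
    rw [hB, AddSubgroup.mem_bot] at this
    exact this
  · right
    rw [eq_top_iff]
    intro w _
    have : w ∈ W.toAddSubgroup := by rw [hB]; trivial
    exact this

theorem card_le_of_irreducible_addHom {V : Type*} [AddCommGroup V] [Finite V] {p q e : ℕ} [Fact q.Prime]
    (he0 : e ≠ 0) (hpe : p ∣ q ^ e - 1) (c : V →+ V) (hcp : ∀ a, c^[p] a = a) (hsmul : ∀ a : V, q • a = 0)
    (hirr : ∀ B : AddSubgroup V, (∀ b ∈ B, c b ∈ B) → B = ⊥ ∨ B = ⊤) : Nat.card V ≤ q ^ e :=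
  @card_le_of_irreducible_addHom_aux V _ _ p q e _ (AddCommGroup.zmodModule hsmul) he0 hpe c hcp hirr

theorem card_le_of_irreducible_hom {A : Type*} [CommGroup A] [Finite A] {p q e : ℕ} [Fact q.Prime]
    (he0 : e ≠ 0) (hpe : p ∣ q ^ e - 1) (c : A →* A) (hcp : ∀ a, c^[p] a = a) (hA : ∀ a : A, a ^ q = 1)
    (hirr : ∀ B : Subgroup A, (∀ b ∈ B, c b ∈ B) → B = ⊥ ∨ B = ⊤) : Nat.card A ≤ q ^ e := by
  refine card_le_of_irreducible_addHom (V := Additive A) (p := p) (q := q) he0 hpe (MonoidHom.toAdditive c) ?_ ?_ ?_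
  · intro a
    exact congrArg Additive.ofMul (hcp (Additive.toMul a))
  · intro a
    exact congrArg Additive.ofMul (hA (Additive.toMul a))
  · intro B hB
    rcases hirr (AddSubgroup.toSubgroup' B) (fun b hb => hB (Additive.ofMul b) hb) with h | h
    · left
      rw [eq_bot_iff]
      intro w hw
      have : (Additive.toMul w : A) ∈ (AddSubgroup.toSubgroup' B) := hw
      rw [h, Subgroup.mem_bot] at this
      exact congrArg Additive.ofMul this
    · right
      rw [eq_top_iff]
      intro w _
      have : (Additive.toMul w : A) ∈ (AddSubgroup.toSubgroup' B) := by rw [h]; trivial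
      exact this

open scoped IsMulCommutative in
theorem card_eq_of_irreducible_conj {G : Type*} [Group G] [Finite G] {p q : ℕ} [Fact p.Prime] [Fact q.Prime]
    (hpq : q ≠ p) (A : Subgroup G) (hA : Cfsg.IsElementaryAbelian q A) (x : G) (hxA : ∀ a ∈ A, x * a * x⁻¹ ∈ A)
    (hxp : ∀ a ∈ A, x ^ p * a * (x ^ p)⁻¹ = a) (hx : ∃ a ∈ A, x * a * x⁻¹ ≠ a)
    (hirr : ∀ B : Subgroup G, B ≤ A → (∀ b ∈ B, x * b * x⁻¹ ∈ B) → B = ⊥ ∨ B = A) :
    Nat.card A = q ^ orderOf (q : ZMod p) := by
  have hp := (Fact.out : p.Prime)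
  have hq := (Fact.out : q.Prime)
  have hAc : IsMulCommutative A := hA.1
  -- the conjugation endomorphism
  let c : A →* A :=
    { toFun := fun a => ⟨x * a * x⁻¹, hxA a a.2⟩
      map_one' := by simp
      map_mul' := by intro a b; apply Subtype.ext; simp }
  have hciter : ∀ (n : ℕ) (a : A), ((c^[n] a : A) : G) = x ^ n * a * (x ^ n)⁻¹ := by
    intro n
    induction n with
    | zero => intro a; simp
    | succ n ih =>
      intro a
      rw [Function.iterate_succ_apply', pow_succ']
      show x * (c^[n] a : A) * x⁻¹ = _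
      rw [ih]; group
  -- |A| is a power of q
  have hAq : IsPGroup q A := by
    intro a
    exact ⟨1, by apply Subtype.ext; simpa using hA.2 a a.2⟩
  obtain ⟨d, hd⟩ := hAq.exists_card_eq
  -- fixed points are trivial
  have hfix : ∀ a ∈ A, x * a * x⁻¹ = a → a = 1 := by
    have hC := hirr (A ⊓ Subgroup.centralizer ({x} : Set G)) inf_le_left (by
      intro b hb
      have h2 : b * x = x * b := Subgroup.mem_centralizer_singleton_iff.1 (Subgroup.mem_inf.1 hb).2
      have h3 : x * b * x⁻¹ = b := by rw [← h2]; group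
      rw [h3]; exact hb)
    intro a ha hax
    have haC : a ∈ A ⊓ Subgroup.centralizer ({x} : Set G) := by
      refine ⟨ha, ?_⟩
      apply Subgroup.mem_centralizer_singleton_iff.2
      rw [mul_inv_eq_iff_eq_mul] at hax
      exact hax.symm
    rcases hC with hC | hC
    · rw [hC] at haC; exact haC
    · exfalso
      obtain ⟨b, hb, hbx⟩ := hx
      apply hbx
      rw [← hC] at hb
      have h2 : b * x = x * b := Subgroup.mem_centralizer_singleton_iff.1 (Subgroup.mem_inf.1 hb).2
      rw [← h2]; group
  have hmod : Nat.card A ≡ 1 [MOD p] := by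
    classical
    have : Fintype A := Fintype.ofFinite _
    let f : Function.End A := fun a => c a
    have hfn : ∀ (n : ℕ) (a : A), (f ^ n : Function.End A) a = c^[n] a := by
      intro n
      induction n with
      | zero => intro a; rfl
      | succ n ih =>
        intro a
        rw [pow_succ', Function.iterate_succ_apply', ← ih]
        rfl
    have h1 : f ^ p ^ 1 = 1 := by
      rw [pow_one]
      funext a
      rw [hfn]
      apply Subtype.ext
      rw [hciter, hxp a a.2]; rfl
    have h3 := Equiv.Perm.card_fixedPoints_modEq h1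
    rw [← Nat.card_eq_fintype_card, ← Nat.card_eq_fintype_card] at h3
    have h4 : Nat.card (Function.fixedPoints (c : A → A)) = 1 := by
      rw [Nat.card_eq_one_iff_unique]
      refine ⟨⟨fun a b => ?_⟩, ⟨⟨1, map_one c⟩⟩⟩
      have ha : a.1 = 1 := Subtype.ext (hfix _ a.1.2 (congrArg Subtype.val a.2))
      have hb : b.1 = 1 := Subtype.ext (hfix _ b.1.2 (congrArg Subtype.val b.2))
      exact Subtype.ext (ha.trans hb.symm)
    exact h4 ▸ h3
  have hd0 : d ≠ 0 := by
    rintro rfl
    rw [pow_zero] at hd
    obtain ⟨b, hb, hbx⟩ := hx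
    have : Subsingleton A := (Nat.card_eq_one_iff_unique.1 hd).1
    have hb1 : b = 1 := congrArg Subtype.val (Subsingleton.elim (⟨b, hb⟩ : A) 1)
    apply hbx; rw [hb1]; simp
  have hunit : IsUnit (q : ZMod p) := by
    rw [ZMod.isUnit_iff_coprime]
    exact (Nat.coprime_primes hq hp).2 hpq
  have heq : ((q : ZMod p)) ^ d = 1 := by
    have := (ZMod.natCast_eq_natCast_iff _ _ _).2 hmod
    rw [hd] at this
    push_cast at this
    exact this
  have hed : orderOf (q : ZMod p) ∣ d := orderOf_dvd_of_pow_eq_one heq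
  have he0 : orderOf (q : ZMod p) ≠ 0 := by
    intro h0
    rw [h0] at hed
    exact hd0 (Nat.eq_zero_of_zero_dvd hed)
  have hpe : p ∣ q ^ orderOf (q : ZMod p) - 1 := by
    rw [← ZMod.natCast_eq_zero_iff, Nat.cast_sub (Nat.one_le_pow _ _ hq.pos)]
    push_cast
    rw [pow_orderOf_eq_one, sub_self]
  have hle : Nat.card A ≤ q ^ orderOf (q : ZMod p) := by
    refine card_le_of_irreducible_hom he0 hpe c ?_ ?_ ?_
    · intro a
      apply Subtype.ext
      rw [hciter, hxp a a.2]
    · intro a
      exact Subtype.ext (by simpa using hA.2 a a.2)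
    · intro B hB
      rcases hirr (B.map A.subtype) (Subgroup.map_subtype_le _) (by
        rintro _ ⟨b, hb, rfl⟩
        exact ⟨c b, hB b hb, rfl⟩) with h | h
      · left
        rwa [Subgroup.map_eq_bot_iff_of_injective _ A.subtype_injective] at h
      · right
        rw [eq_top_iff]
        intro w _
        have : (w : G) ∈ B.map A.subtype := by rw [h]; exact w.2
        obtain ⟨b, hb, hbw⟩ := this
        have h2 : b = w := Subtype.ext hbw
        rwa [h2] at hb
  refine le_antisymm hle ?_
  rw [hd]
  exact Nat.pow_le_pow_right hq.pos (Nat.le_of_dvd (Nat.pos_of_ne_zero hd0) hed)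

end Cfsg.Agent.Lib.H64Irr
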