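import Mathlib
import Cfsg.Agent.Lib.RelSylow
import Cfsg.Agent.Lib.SubgroupTools
import Cfsg.Agent.Lib.H64Basic

/-! Metacyclic `p`-groups, `p` odd (helper64): orders of derived subgroups of subgroups. -/

set_option autoImplicit false

namespace Cfsg.Agent.Lib.H64Metacyclic

open Subgroup Cfsg.Agent.Lib.RelSylow Cfsg.Agent.Lib.SubgroupTools

variable {G : Type*} [Group G] [Finite G]

/-- If `A` is abelian and normalized by `x` then `|[A⟨x⟩, A⟨x⟩]| * |C_A(x)| = |A|`. -/
theorem card_commutator_mul (A : Subgroup G) (hA : ∀ a ∈ A, ∀ b ∈ A, a * b = b * a) (x : G)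
    (hx : x ∈ normalizer (A : Set G)) :
    Nat.card ↥⁅A ⊔ zpowers x, A ⊔ zpowers x⁆ * Nat.card ↥(A ⊓ centralizer ({x} : Set G)) = Nat.card A := by
  have hxA : ∀ a ∈ A, x * a * x⁻¹ ∈ A := fun a ha => (mem_normalizer_iff.1 hx a).1 ha
  have hxa : ∀ a ∈ A, x * a * x⁻¹ * a⁻¹ ∈ A := fun a ha => mul_mem (hxA a ha) (inv_mem ha)
  have h3 : ∀ a ∈ A, ∀ b ∈ A, x * (a * b) * x⁻¹ * (a * b)⁻¹ = (x * a * x⁻¹ * a⁻¹) * (x * b * x⁻¹ * b⁻¹) := by
    intro a ha b hb
    have := hA a⁻¹ (inv_mem ha) _ (hxa b hb)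
    calc x * (a * b) * x⁻¹ * (a * b)⁻¹ = (x * a * x⁻¹) * ((x * b * x⁻¹ * b⁻¹) * a⁻¹) := by group
      _ = (x * a * x⁻¹) * (a⁻¹ * (x * b * x⁻¹ * b⁻¹)) := by rw [this]
      _ = _ := by group
  let φ : A →* G :=
    { toFun := fun a => x * a * x⁻¹ * (a : G)⁻¹
      map_one' := by simp
      map_mul' := by
        intro a b
        exact h3 a a.2 b b.2 }
  set H : Subgroup G := A ⊔ zpowers x with hH
  have hxH : x ∈ H := mem_sup_right (mem_zpowers x)
  have hAH : A ≤ H := le_sup_left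
  have hKA : φ.range ≤ A := by
    rintro _ ⟨a, rfl⟩
    exact hxa a a.2
  have hKn : H ≤ normalizer (φ.range : Set G) := by
    refine sup_le ?_ ?_
    · intro a ha
      rw [mem_normalizer_iff_map]
      apply eq_of_le_of_card_ge
      · rintro _ ⟨h, hh, rfl⟩
        have : (MulAut.conj a).toMonoidHom h = h := by
          show a * h * a⁻¹ = h
          rw [hA a ha h (hKA hh)]; group
        rw [this]; exact hh
      · rw [card_conj]
    · rw [zpowers_le, mem_normalizer_iff_map]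
      apply eq_of_le_of_card_ge
      · rintro _ ⟨_, ⟨a, rfl⟩, rfl⟩
        refine ⟨⟨x * a * x⁻¹, hxA a a.2⟩, ?_⟩
        simp only [φ, MonoidHom.coe_mk, OneHom.coe_mk, MulEquiv.coe_toMonoidHom, MulAut.conj_apply]
        group
      · rw [card_conj]
  have hrange : ⁅H, H⁆ = φ.range := by
    apply le_antisymm
    · -- use closure description
      have hgenK : ∀ g ∈ H, ∀ h ∈ H, g * h * g⁻¹ * h⁻¹ ∈ φ.range := by
        -- Z(h) = {g ∈ H | [g,h] ∈ K}
        have hS : ∀ h ∈ H, ∃ S : Subgroup G, ∀ g : G, g ∈ S ↔ g ∈ H ∧ g * h * g⁻¹ * h⁻¹ ∈ φ.range := by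
          intro h hh
          refine ⟨{ carrier := {g | g ∈ H ∧ g * h * g⁻¹ * h⁻¹ ∈ φ.range}, mul_mem' := ?_, one_mem' := ?_, inv_mem' := ?_ }, fun g => Iff.rfl⟩
          · rintro g g' ⟨hg, hg2⟩ ⟨hg', hg2'⟩
            refine ⟨mul_mem hg hg', ?_⟩
            have e : (g * g') * h * (g * g')⁻¹ * h⁻¹ = g * (g' * h * g'⁻¹ * h⁻¹) * g⁻¹ * (g * h * g⁻¹ * h⁻¹) := by group
            rw [e]
            exact mul_mem ((mem_normalizer_iff.1 (hKn hg) _).1 hg2') hg2
          · exact ⟨one_mem H, by simp⟩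
          · rintro g ⟨hg, hg2⟩
            refine ⟨inv_mem hg, ?_⟩
            have e : g⁻¹ * h * g⁻¹⁻¹ * h⁻¹ = g⁻¹ * (g * h * g⁻¹ * h⁻¹)⁻¹ * g⁻¹⁻¹ := by group
            rw [e]
            exact (mem_normalizer_iff.1 (hKn (inv_mem hg)) _).1 (inv_mem hg2)
        have hsymm : ∀ g h : G, g * h * g⁻¹ * h⁻¹ ∈ φ.range → h * g * h⁻¹ * g⁻¹ ∈ φ.range := by
          intro g h hgh
          have e : h * g * h⁻¹ * g⁻¹ = (g * h * g⁻¹ * h⁻¹)⁻¹ := by group
          rw [e]; exact inv_mem hgh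
        -- x against everything
        have hx1 : ∀ g ∈ H, g * x * g⁻¹ * x⁻¹ ∈ φ.range := by
          obtain ⟨S, hS'⟩ := hS x hxH
          intro g hg
          have hle : H ≤ S := by
            refine sup_le ?_ ?_
            · intro a ha
              rw [hS']
              exact ⟨hAH ha, hsymm _ _ ⟨⟨a, ha⟩, rfl⟩⟩
            · rw [zpowers_le, hS']
              exact ⟨hxH, by simp⟩
          exact ((hS' g).1 (hle hg)).2
        have ha1 : ∀ a ∈ A, ∀ g ∈ H, g * a * g⁻¹ * a⁻¹ ∈ φ.range := by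
          intro a ha
          obtain ⟨S, hS'⟩ := hS a (hAH ha)
          intro g hg
          have hle : H ≤ S := by
            refine sup_le ?_ ?_
            · intro b hb
              rw [hS']
              refine ⟨hAH hb, ?_⟩
              rw [hA b hb a ha]; simp
            · rw [zpowers_le, hS']
              exact ⟨hxH, ⟨⟨a, ha⟩, rfl⟩⟩
          exact ((hS' g).1 (hle hg)).2
        intro g hg h hh
        obtain ⟨S, hS'⟩ := hS h hh
        have hle : H ≤ S := by
          refine sup_le ?_ ?_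
          · intro b hb
            rw [hS']
            exact ⟨hAH hb, hsymm _ _ (ha1 b hb h hh)⟩
          · rw [zpowers_le, hS']
            exact ⟨hxH, hsymm _ _ (hx1 h hh)⟩
        exact ((hS' g).1 (hle hg)).2
      rw [commutator_le]
      intro g hg h hh
      exact hgenK g hg h hh
    · rintro _ ⟨a, rfl⟩
      exact commutator_mem_commutator hxH (hAH a.2)
  rw [hrange]
  have hk : Nat.card φ.ker = Nat.card ↥(A ⊓ centralizer ({x} : Set G)) := by
    have : φ.ker.map A.subtype = A ⊓ centralizer ({x} : Set G) := by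
      ext y
      constructor
      · rintro ⟨a, ha, rfl⟩
        refine mem_inf.mpr ⟨a.2, ?_⟩
        rw [mem_centralizer_singleton_iff]
        have : x * a * x⁻¹ * (a : G)⁻¹ = 1 := ha
        rw [mul_inv_eq_one, mul_inv_eq_iff_eq_mul] at this
        exact this.symm
      · intro hyc
        obtain ⟨hy, hc⟩ := mem_inf.mp hyc
        refine ⟨⟨y, hy⟩, ?_, rfl⟩
        rw [mem_centralizer_singleton_iff] at hc
        show x * y * x⁻¹ * y⁻¹ = 1
        rw [mul_inv_eq_one, mul_inv_eq_iff_eq_mul]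
        exact hc.symm
    rw [← this]
    exact (card_map_of_injective A.subtype_injective).symm
  rw [← hk, card_eq_card_quotient_mul_card_subgroup φ.ker]
  congr 1
  exact Nat.card_congr (QuotientGroup.quotientKerEquivRange φ).symm.toEquiv

/-- number theory: for odd `p`, `k ≡ 1 (mod p)`, `p ^ n ∤ k - 1`: `gcd(p^n, k^p - 1) = p * gcd(p^n, k - 1)`. -/
theorem gcd_pow_sub_one {p n k : ℕ} (hp : p.Prime) (hp2 : p ≠ 2) (hk : 1 ≤ k) (hkp : p ∣ k - 1) (hn : ¬ p ^ n ∣ k - 1) :
    Nat.gcd (p ^ n) (k ^ p - 1) = p * Nat.gcd (p ^ n) (k - 1) := by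
  have : Fact p.Prime := ⟨hp⟩
  have hk1 : k - 1 ≠ 0 := by
    intro h0
    rw [h0] at hn
    exact hn (dvd_zero _)
  have hkk : 1 < k := by omega
  have hpk : ¬ p ∣ k := by
    intro h
    have h1 : p ∣ k - (k - 1) := Nat.dvd_sub h hkp
    have h2 : k - (k - 1) = 1 := by omega
    rw [h2] at h1
    exact hp.one_lt.ne' (Nat.dvd_one.1 h1)
  have hodd : Odd p := hp.odd_of_ne_two hp2
  have hv := padicValNat.pow_sub_pow (p := p) hodd (x := k) (y := 1) hkk (by simpa using hkp) hpk (n := p) hp.ne_zero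
  rw [one_pow, padicValNat_self] at hv
  have hkp1 : k ^ p - 1 ≠ 0 := by
    have : 1 < k ^ p := Nat.one_lt_pow hp.ne_zero hkk
    omega
  have hgcd : ∀ m : ℕ, m ≠ 0 → padicValNat p m ≤ n → Nat.gcd (p ^ n) m = p ^ padicValNat p m := by
    intro m hm hle
    apply Nat.dvd_antisymm
    · obtain ⟨j, hj, hje⟩ := (Nat.dvd_prime_pow hp).1 (Nat.gcd_dvd_left (p ^ n) m)
      rw [hje]
      apply pow_dvd_pow
      have : p ^ j ∣ m := by rw [← hje]; exact Nat.gcd_dvd_right _ _
      exact (padicValNat_dvd_iff_le hm).1 this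
    · exact Nat.dvd_gcd (pow_dvd_pow p hle) pow_padicValNat_dvd
  have hlt : padicValNat p (k - 1) < n := by
    by_contra hcon
    push Not at hcon
    exact hn ((padicValNat_dvd_iff_le hk1).2 hcon)
  rw [hgcd _ hkp1 (by omega), hgcd _ hk1 (by omega), hv, pow_succ, mul_comm]

/-- An element normalizing a cyclic subgroup acts as a power map. -/
theorem exists_exponent (a x : G) (hx : x ∈ normalizer (zpowers a : Set G)) :
    ∃ k : ℕ, 1 ≤ k ∧ ∀ (j : ℕ), ∀ y ∈ zpowers a, x ^ j * y * (x ^ j)⁻¹ = y ^ (k ^ j) := by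
  have h1 : x * a * x⁻¹ ∈ zpowers a := (mem_normalizer_iff.1 hx a).1 (mem_zpowers a)
  obtain ⟨k₀, hk₀⟩ := mem_powers_iff_mem_zpowers.2 h1
  have hk₀ : a ^ k₀ = x * a * x⁻¹ := hk₀
  refine ⟨k₀ + orderOf a, by have := orderOf_pos a; omega, ?_⟩
  have hk : x * a * x⁻¹ = a ^ (k₀ + orderOf a) := by
    rw [pow_add, pow_orderOf_eq_one, mul_one, hk₀]
  have h2 : ∀ y ∈ zpowers a, x * y * x⁻¹ = y ^ (k₀ + orderOf a) := by
    intro y hy
    obtain ⟨i, rfl⟩ := mem_zpowers_iff.1 hy
    rw [← conj_zpow, hk, ← zpow_natCast, ← zpow_natCast, ← zpow_mul, ← zpow_mul, mul_comm]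
  intro j
  induction j with
  | zero => intro y _; simp
  | succ j ih =>
    intro y hy
    have e : x ^ (j + 1) * y * (x ^ (j + 1))⁻¹ = x * (x ^ j * y * (x ^ j)⁻¹) * x⁻¹ := by
      rw [pow_succ']; group
    rw [e, ih y hy, h2 _ (pow_mem hy _), ← pow_mul, pow_succ]

open scoped IsMulCommutative in
theorem card_inf_centralizer (a x : G) {m : ℕ} (h : ∀ y ∈ zpowers a, x * y * x⁻¹ = y ^ (m + 1)) :
    Nat.card ↥(zpowers a ⊓ centralizer ({x} : Set G)) = Nat.gcd (orderOf a) m := by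
  have h1 := IsCyclic.card_powMonoidHom_ker (G := zpowers a) m
  rw [Nat.card_zpowers] at h1
  rw [← h1]
  have h2 : (powMonoidHom m : zpowers a →* zpowers a).ker.map (zpowers a).subtype = zpowers a ⊓ centralizer ({x} : Set G) := by
    ext y
    constructor
    · rintro ⟨z, hz, rfl⟩
      refine mem_inf.2 ⟨z.2, mem_centralizer_singleton_iff.2 ?_⟩
      have hz1 : z ^ m = 1 := hz
      have hz2 : (z : G) ^ m = 1 := by rw [← Subgroup.coe_pow, hz1]; rfl
      have h3 := h z z.2
      rw [pow_succ, hz2, one_mul, mul_inv_eq_iff_eq_mul] at h3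
      exact h3.symm
    · intro hy
      obtain ⟨hy1, hy2⟩ := mem_inf.1 hy
      rw [mem_centralizer_singleton_iff] at hy2
      refine ⟨⟨y, hy1⟩, ?_, rfl⟩
      have h3 := h y hy1
      rw [← hy2, pow_succ] at h3
      have h4 : y ^ m = 1 := by
        have : y * x * x⁻¹ = y := by group
        rw [this] at h3
        exact mul_eq_right.1 h3.symm
      exact Subtype.ext h4
  rw [← h2]
  exact card_map_of_injective (zpowers a).subtype_injective

theorem gcd_pow_pred {p n m : ℕ} (hp : p.Prime) (h : ¬ p ^ (n + 1) ∣ m) :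
    Nat.gcd (p ^ n) m = Nat.gcd (p ^ (n + 1)) m := by
  apply Nat.dvd_antisymm
  · exact Nat.gcd_dvd_gcd_of_dvd_left _ (pow_dvd_pow p (Nat.le_succ n))
  · apply Nat.dvd_gcd _ (Nat.gcd_dvd_right _ _)
    obtain ⟨j, hj, hje⟩ := (Nat.dvd_prime_pow hp).1 (Nat.gcd_dvd_left (p ^ (n + 1)) m)
    rw [hje]
    apply pow_dvd_pow
    have h2 : p ^ j ∣ m := by rw [← hje]; exact Nat.gcd_dvd_right _ _
    rcases Nat.lt_or_ge j (n + 1) with h3 | h3
    · omega
    · exact absurd ((pow_dvd_pow p h3).trans h2) h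

theorem mem_of_zpow_mem {p : ℕ} (hp : p.Prime) {x : G} {M : Subgroup G} {i : ℤ} (h1 : x ^ p ∈ M) (h2 : x ^ i ∈ M)
    (hi : ¬ (p : ℤ) ∣ i) : x ∈ M := by
  have hcop : IsCoprime (p : ℤ) i := (Nat.prime_iff_prime_int.1 hp).coprime_iff_not_dvd.2 hi
  obtain ⟨u, v, huv⟩ := hcop
  have : x = (x ^ p) ^ u * (x ^ i) ^ v := by
    rw [← zpow_natCast, ← zpow_mul, ← zpow_mul, ← zpow_add, mul_comm (p : ℤ) u, mul_comm i v, huv, zpow_one]
  rw [this]
  exact mul_mem (zpow_mem h1 u) (zpow_mem h2 v)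

theorem mem_zpowers_pow {p : ℕ} {x : G} {i : ℤ} (hi : (p : ℤ) ∣ i) : x ^ i ∈ zpowers (x ^ p) := by
  obtain ⟨j, rfl⟩ := hi
  rw [zpow_mul, zpow_natCast]
  exact zpow_mem (mem_zpowers _) j

/-- data of the action -/
theorem action_data {p : ℕ} [hp : Fact p.Prime] (hG : IsPGroup p G) (a x : G)
    (hx : x ∈ normalizer (zpowers a : Set G)) (hnab : x * a ≠ a * x) :
    ∃ n k : ℕ, orderOf a = p ^ (n + 1) ∧ 1 ≤ k ∧ p ∣ k - 1 ∧ ¬ p ^ (n + 1) ∣ k - 1 ∧
      ∀ (j : ℕ), ∀ y ∈ zpowers a, x ^ j * y * (x ^ j)⁻¹ = y ^ (k ^ j) := by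
  obtain ⟨k, hk, hact⟩ := exists_exponent a x hx
  obtain ⟨n, hn⟩ := (IsPGroup.iff_orderOf.1 hG) a
  have hn0 : n ≠ 0 := by
    rintro rfl
    rw [pow_zero, orderOf_eq_one_iff] at hn
    apply hnab; rw [hn]; simp
  obtain ⟨n, rfl⟩ := Nat.exists_eq_succ_of_ne_zero hn0
  refine ⟨n, k, hn, hk, ?_, ?_, hact⟩
  · obtain ⟨m, hm⟩ := (IsPGroup.iff_orderOf.1 hG) x
    have h1 := hact (p ^ m) a (mem_zpowers a)
    rw [← hm, pow_orderOf_eq_one, one_mul, inv_one, mul_one] at h1
    have h2 : a ^ (k ^ orderOf x - 1) = 1 := by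
      have h3 : a * a ^ (k ^ orderOf x - 1) = a * 1 := by
        rw [← pow_succ', Nat.sub_add_cancel (Nat.one_le_pow _ _ (by omega)), mul_one]
        exact h1.symm
      exact mul_left_cancel h3
    have h3 : p ∣ k ^ orderOf x - 1 := by
      have := orderOf_dvd_of_pow_eq_one h2
      rw [hn] at this
      exact (dvd_pow_self p (Nat.succ_ne_zero n)).trans this
    rw [hm] at h3
    rw [← ZMod.natCast_eq_zero_iff, Nat.cast_sub (Nat.one_le_pow _ _ (by omega))] at h3
    rw [← ZMod.natCast_eq_zero_iff, Nat.cast_sub hk]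
    push_cast at h3 ⊢
    have h4 : ∀ i : ℕ, ((k : ZMod p)) ^ p ^ i = k := by
      intro i
      induction i with
      | zero => simp
      | succ i ih => rw [pow_succ, pow_mul, ih, ZMod.pow_card]
    rw [h4] at h3
    exact h3
  · intro hdvd
    apply hnab
    have h1 := hact 1 a (mem_zpowers a)
    rw [pow_one, pow_one] at h1
    have h2 : a ^ (k - 1) = 1 := orderOf_dvd_iff_pow_eq_one.1 (by rw [hn]; exact hdvd)
    have h3 : a ^ k = a := by
      have : k = (k - 1) + 1 := by omega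
      rw [this, pow_succ, h2, one_mul]
    rw [h3, mul_inv_eq_iff_eq_mul] at h1
    exact h1

theorem mem_zpowers_sup {a x : G} (hx : x ∈ normalizer (zpowers a : Set G)) {g : G} :
    g ∈ zpowers a ⊔ zpowers x ↔ ∃ y ∈ zpowers a, ∃ i : ℤ, y * x ^ i = g := by
  rw [mem_sup_of_le_normalizer (by rwa [zpowers_le])]
  constructor
  · rintro ⟨y, hy, z, hz, rfl⟩
    obtain ⟨i, rfl⟩ := mem_zpowers_iff.1 hz
    exact ⟨y, hy, i, rfl⟩
  · rintro ⟨y, hy, i, rfl⟩
    exact ⟨y, hy, x ^ i, zpow_mem (mem_zpowers x) i, rfl⟩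

theorem zpowers_comm (a : G) : ∀ y ∈ zpowers a, ∀ z ∈ zpowers a, y * z = z * y := by
  intro y hy z hz
  obtain ⟨i, rfl⟩ := mem_zpowers_iff.1 hy
  obtain ⟨j, rfl⟩ := mem_zpowers_iff.1 hz
  rw [← zpow_add, ← zpow_add, add_comm]

/-- Case `A ≤ M`: the derived subgroup of `A⟨x^p⟩`. -/
theorem card_commutator_pow {p : ℕ} [hp : Fact p.Prime] (hp2 : p ≠ 2) (hG : IsPGroup p G) (a x : G)
    (hx : x ∈ normalizer (zpowers a : Set G)) (hnab : x * a ≠ a * x) :
    Nat.card ↥⁅zpowers a ⊔ zpowers (x ^ p), zpowers a ⊔ zpowers (x ^ p)⁆ * p =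
      Nat.card ↥⁅zpowers a ⊔ zpowers x, zpowers a ⊔ zpowers x⁆ := by
  obtain ⟨n, k, hn, hk, hkp, hkn, hact⟩ := action_data hG a x hx hnab
  have h1 := card_commutator_mul (zpowers a) (zpowers_comm a) x hx
  have h2 := card_commutator_mul (zpowers a) (zpowers_comm a) (x ^ p) (pow_mem hx p)
  have h3 := card_inf_centralizer a x (m := k - 1) (by
    intro y hy
    have := hact 1 y hy
    rw [pow_one, pow_one] at this
    rw [this, Nat.sub_add_cancel hk])
  have h4 := card_inf_centralizer a (x ^ p) (m := k ^ p - 1) (by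
    intro y hy
    have := hact p y hy
    rw [this, Nat.sub_add_cancel (Nat.one_le_pow _ _ (by omega))])
  rw [hn, gcd_pow_sub_one hp.out hp2 hk hkp hkn, ← hn] at h4
  rw [h3] at h1
  rw [h4] at h2
  have hg : 0 < Nat.gcd (orderOf a) (k - 1) := Nat.gcd_pos_of_pos_left _ (orderOf_pos a)
  apply Nat.eq_of_mul_eq_mul_right hg
  rw [h1, ← h2]; ring

theorem key {p : ℕ} [hp : Fact p.Prime] (hp2 : p ≠ 2) (hG : IsPGroup p G) (a x : G)
    (hx : x ∈ normalizer (zpowers a : Set G)) (hnab : x * a ≠ a * x) {M : Subgroup G}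
    (hM : M ≤ zpowers a ⊔ zpowers x) (hidx : M.relIndex (zpowers a ⊔ zpowers x) = p) :
    ∃ a' x' : G, x' ∈ normalizer (zpowers a' : Set G) ∧ M = zpowers a' ⊔ zpowers x' ∧
      Nat.card ↥⁅M, M⁆ * p = Nat.card ↥⁅zpowers a ⊔ zpowers x, zpowers a ⊔ zpowers x⁆ := by
  set H := zpowers a ⊔ zpowers x with hH
  have hMH : M ≠ H := by
    rintro rfl
    rw [relIndex_self] at hidx
    exact hp.out.one_lt.ne hidx
  have hHp : IsPGroup p H := hG.to_subgroup H
  have hcardMH : Nat.card M * p = Nat.card H := by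
    rw [← hidx]; exact card_mul_relIndex_of_le hM
  -- maximality
  have hmax : ∀ K : Subgroup G, M ≤ K → K ≤ H → K = M ∨ K = H := by
    intro K hMK hKH
    have h1 : M.relIndex K * K.relIndex H = M.relIndex H := relIndex_mul_relIndex M K H hMK hKH
    rw [hidx] at h1
    rcases (Nat.dvd_prime hp.out).1 (Dvd.intro _ h1) with h | h
    · left
      rw [relIndex_eq_one] at h
      exact le_antisymm h hMK
    · right
      rw [h] at h1
      have h2 : K.relIndex H = 1 := Nat.eq_of_mul_eq_mul_left hp.out.pos (by rw [h1, mul_one])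
      rw [relIndex_eq_one] at h2
      exact le_antisymm hKH h2
  have hnorm : H ≤ normalizer (M : Set G) := by
    have h1 := Cfsg.Agent.Lib.H64Basic.lt_inf_normalizer hHp (lt_of_le_of_ne hM hMH)
    rcases hmax _ h1.le inf_le_left with h | h
    · exact absurd h h1.ne'
    · exact inf_eq_left.1 h
  have hpow : ∀ h ∈ H, h ^ p ∈ M := by
    intro h hh
    have hn : (M.subgroupOf H).Normal := (normal_subgroupOf_iff_le_normalizer hM).2 hnorm
    have h1 := pow_card_eq_one' (x := (QuotientGroup.mk' (M.subgroupOf H) ⟨h, hh⟩))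
    have h2 : Nat.card (H ⧸ M.subgroupOf H) = p := hidx
    rw [h2, ← map_pow, ← MonoidHom.mem_ker, QuotientGroup.ker_mk', mem_subgroupOf] at h1
    exact h1
  have haH : a ∈ H := mem_sup_left (mem_zpowers a)
  have hxH : x ∈ H := mem_sup_right (mem_zpowers x)
  by_cases hAM : zpowers a ≤ M
  · have hxM : x ∉ M := by
      intro h
      apply hMH
      apply le_antisymm hM
      exact sup_le hAM (by rwa [zpowers_le])
    have hMe : M = zpowers a ⊔ zpowers (x ^ p) := by
      apply le_antisymm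
      · intro m hm
        obtain ⟨y, hy, i, rfl⟩ := (mem_zpowers_sup hx).1 (hM hm)
        have h1 : x ^ i ∈ M := (mul_mem_cancel_left (H := M) (hAM hy)).1 hm
        have h2 : (p : ℤ) ∣ i := by
          by_contra hcon
          exact hxM (mem_of_zpow_mem hp.out (hpow x hxH) h1 hcon)
        exact mul_mem (mem_sup_left hy) (mem_sup_right (mem_zpowers_pow h2))
      · refine sup_le hAM ?_
        rw [zpowers_le]; exact hpow x hxH
    refine ⟨a, x ^ p, pow_mem hx p, hMe, ?_⟩
    rw [hMe]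
    exact card_commutator_pow hp2 hG a x hx hnab
  · have haM : a ∉ M := by
      intro h
      apply hAM; rwa [zpowers_le]
    have hAM2 : zpowers a ⊔ M = H := by
      rcases hmax (zpowers a ⊔ M) le_sup_right (sup_le le_sup_left hM) with h | h
      · exact absurd (le_sup_left.trans h.le) hAM
      · exact h
    have hx2 : x ∈ M ⊔ zpowers a := by rw [sup_comm, hAM2]; exact hxH
    rw [mem_sup_of_le_normalizer' (le_sup_left.trans hnorm)] at hx2
    obtain ⟨y, hy, x', hx', hyx⟩ := hx2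
    -- x = y * x'
    have hact' : ∀ z ∈ zpowers a, x' * z * x'⁻¹ = x * z * x⁻¹ := by
      intro z hz
      have h1 : x * z * x⁻¹ ∈ zpowers a := (mem_normalizer_iff.1 hx z).1 hz
      have h2 : x' = y⁻¹ * x := by rw [← hyx]; group
      have h3 : x' * z * x'⁻¹ = y⁻¹ * (x * z * x⁻¹) * y := by rw [h2]; group
      rw [h3, zpowers_comm a y⁻¹ (inv_mem hy) _ h1]; group
    obtain ⟨n, k, hn, hk, hkp, hkn, hact⟩ := action_data hG a x hx hnab
    have hact1 : ∀ z ∈ zpowers a, x' * z * x'⁻¹ = z ^ (k - 1 + 1) := by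
      intro z hz
      rw [hact' z hz, Nat.sub_add_cancel hk]
      have := hact 1 z hz
      rwa [pow_one, pow_one] at this
    have hxn : x' ∈ normalizer (zpowers a : Set G) := by
      rw [mem_normalizer_iff_map]
      apply eq_of_le_of_card_ge
      · rintro _ ⟨z, hz, rfl⟩
        show x' * z * x'⁻¹ ∈ zpowers a
        rw [hact1 z hz]; exact pow_mem hz _
      · rw [card_conj]
    have hle : zpowers (a ^ p) ≤ zpowers a := by
      rw [zpowers_le]; exact npow_mem_zpowers a p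
    have hxn1 : x' ∈ normalizer (zpowers (a ^ p) : Set G) := by
      rw [mem_normalizer_iff_map]
      apply eq_of_le_of_card_ge
      · rintro _ ⟨z, hz, rfl⟩
        show x' * z * x'⁻¹ ∈ zpowers (a ^ p)
        rw [hact1 z (hle hz)]; exact pow_mem hz _
      · rw [card_conj]
    have hH2 : zpowers a ⊔ zpowers x' = H := by
      apply le_antisymm
      · refine sup_le le_sup_left ?_
        rw [zpowers_le]; exact hM hx'
      · refine sup_le le_sup_left ?_
        rw [zpowers_le, ← hyx]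
        exact mul_mem (mem_sup_left hy) (mem_sup_right (mem_zpowers x'))
    have hMe : M = zpowers (a ^ p) ⊔ zpowers x' := by
      apply le_antisymm
      · intro m hm
        have h0 := hM hm
        rw [← hH2] at h0
        obtain ⟨z, hz, i, rfl⟩ := (mem_zpowers_sup hxn).1 h0
        have h1 : z ∈ M := (mul_mem_cancel_right (H := M) (zpow_mem hx' i)).1 hm
        obtain ⟨j, rfl⟩ := mem_zpowers_iff.1 hz
        have h2 : (p : ℤ) ∣ j := by
          by_contra hcon
          exact haM (mem_of_zpow_mem hp.out (hpow a haH) h1 hcon)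
        exact mul_mem (mem_sup_left (mem_zpowers_pow h2)) (mem_sup_right (zpow_mem (mem_zpowers x') i))
      · refine sup_le ?_ ?_
        · rw [zpowers_le]; exact hpow a haH
        · rwa [zpowers_le]
    refine ⟨a ^ p, x', hxn1, hMe, ?_⟩
    have h1 := card_commutator_mul (zpowers a) (zpowers_comm a) x' hxn
    have h2 := card_commutator_mul (zpowers (a ^ p)) (zpowers_comm (a ^ p)) x' hxn1
    rw [hH2] at h1
    rw [← hMe] at h2
    rw [card_inf_centralizer a x' hact1, Nat.card_zpowers] at h1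
    rw [card_inf_centralizer (a ^ p) x' (fun z hz => hact1 z (hle hz)), Nat.card_zpowers] at h2
    have hn2 : orderOf (a ^ p) = p ^ n := by
      rw [orderOf_pow, hn, Nat.gcd_eq_right (dvd_pow_self p (Nat.succ_ne_zero n)), pow_succ, Nat.mul_div_cancel _ hp.out.pos]
    rw [hn2, gcd_pow_pred hp.out hkn] at h2
    rw [hn] at h1
    have hg : 0 < Nat.gcd (p ^ (n + 1)) (k - 1) := Nat.gcd_pos_of_pos_left _ (pow_pos hp.out.pos _)
    apply Nat.eq_of_mul_eq_mul_right hg
    rw [h1]
    calc Nat.card ↥⁅M, M⁆ * p * (p ^ (n + 1)).gcd (k - 1) = Nat.card ↥⁅M, M⁆ * (p ^ (n + 1)).gcd (k - 1) * p := by ring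
      _ = p ^ (n + 1) := by rw [h2, pow_succ]

/-- Metacyclic subgroup. -/
def Met (H : Subgroup G) : Prop := ∃ a x : G, x ∈ normalizer (zpowers a : Set G) ∧ H = zpowers a ⊔ zpowers x

theorem comm_iff {a x : G} (hx : x ∈ normalizer (zpowers a : Set G)) :
    (⁅zpowers a ⊔ zpowers x, zpowers a ⊔ zpowers x⁆ = ⊥) ↔ x * a = a * x := by
  constructor
  · intro h
    have h1 : x * a * x⁻¹ * a⁻¹ ∈ ⁅zpowers a ⊔ zpowers x, zpowers a ⊔ zpowers x⁆ :=
      commutator_mem_commutator (mem_sup_right (mem_zpowers x)) (mem_sup_left (mem_zpowers a))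
    rw [h, mem_bot, mul_inv_eq_one, mul_inv_eq_iff_eq_mul] at h1
    exact h1
  · intro h
    have h1 := card_commutator_mul (zpowers a) (zpowers_comm a) x hx
    have h2 : zpowers a ⊓ centralizer ({x} : Set G) = zpowers a := by
      rw [inf_eq_left, zpowers_le, mem_centralizer_singleton_iff]
      exact h.symm
    rw [h2] at h1
    have h3 : Nat.card ↥⁅zpowers a ⊔ zpowers x, zpowers a ⊔ zpowers x⁆ = 1 :=
      Nat.eq_of_mul_eq_mul_right Nat.card_pos (by rw [h1, one_mul])
    exact card_eq_one.1 h3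

theorem exists_max {p : ℕ} [hp : Fact p.Prime] (hG : IsPGroup p G) {L H : Subgroup G} (hLH : L ≤ H) (hne : L ≠ H) :
    ∃ M : Subgroup G, L ≤ M ∧ M ≤ H ∧ M.relIndex H = p := by
  -- choose M maximal among proper subgroups of H containing L
  have hfin : {M : Subgroup G | L ≤ M ∧ M < H}.Finite := Set.toFinite _
  obtain ⟨M, hM⟩ := hfin.exists_maximal ⟨L, le_rfl, lt_of_le_of_ne hLH hne⟩
  obtain ⟨⟨hLM, hMH⟩, hmax⟩ := hM
  refine ⟨M, hLM, hMH.le, ?_⟩
  have hHp : IsPGroup p H := hG.to_subgroup H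
  have h1 := Cfsg.Agent.Lib.H64Basic.lt_inf_normalizer hHp hMH
  have hnorm : H ≤ normalizer (M : Set G) := by
    by_contra hcon
    have h2 : H ⊓ normalizer (M : Set G) < H := lt_of_le_of_ne inf_le_left (fun h => hcon (inf_eq_left.1 h))
    exact not_le_of_gt h1 (hmax ⟨hLM.trans h1.le, h2⟩ h1.le)
  have hn : (M.subgroupOf H).Normal := (normal_subgroupOf_iff_le_normalizer hMH.le).2 hnorm
  have hQ : IsPGroup p (H ⧸ M.subgroupOf H) := hHp.to_quotient _
  obtain ⟨m, hm⟩ := hQ.exists_card_eq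
  have hidx : M.relIndex H = p ^ m := hm
  have hm0 : m ≠ 0 := by
    rintro rfl
    rw [pow_zero, relIndex_eq_one] at hidx
    exact not_le_of_gt hMH hidx
  -- a subgroup of order p of the quotient
  obtain ⟨z, hz⟩ := exists_prime_orderOf_dvd_card' (G := H ⧸ M.subgroupOf H) p (by rw [hm]; exact dvd_pow_self p hm0)
  set K : Subgroup G := ((zpowers z).comap (QuotientGroup.mk' (M.subgroupOf H))).map H.subtype with hK
  have hMK : M ≤ K := by
    intro y hy
    refine ⟨⟨y, hMH.le hy⟩, ?_, rfl⟩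
    show QuotientGroup.mk' (M.subgroupOf H) ⟨y, hMH.le hy⟩ ∈ zpowers z
    have : QuotientGroup.mk' (M.subgroupOf H) ⟨y, hMH.le hy⟩ = 1 := by
      rw [← MonoidHom.mem_ker, QuotientGroup.ker_mk', mem_subgroupOf]; exact hy
    rw [this]; exact one_mem _
  have hKH : K ≤ H := map_subtype_le _
  have hKM : ¬ K ≤ M := by
    intro hle
    obtain ⟨y, rfl⟩ := QuotientGroup.mk'_surjective (M.subgroupOf H) z
    have h3 : (y : G) ∈ K := ⟨y, mem_zpowers _, rfl⟩
    have h4 : QuotientGroup.mk' (M.subgroupOf H) y = 1 := by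
      rw [← MonoidHom.mem_ker, QuotientGroup.ker_mk', mem_subgroupOf]; exact hle h3
    rw [h4, orderOf_one] at hz
    exact hp.out.one_lt.ne hz
  have hKeq : K = H := by
    by_contra hne
    exact hKM (hmax ⟨hLM.trans hMK, lt_of_le_of_ne hKH hne⟩ hMK)
  have htop : zpowers z = ⊤ := by
    rw [eq_top_iff]
    intro w _
    obtain ⟨y, rfl⟩ := QuotientGroup.mk'_surjective (M.subgroupOf H) w
    have h3 : (y : G) ∈ K := by rw [hKeq]; exact y.2
    obtain ⟨y', hy', he⟩ := h3
    have : y' = y := Subtype.ext he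
    rw [this] at hy'
    exact hy'
  have h5 : Nat.card (zpowers z) = p := by rw [Nat.card_zpowers, hz]
  rw [htop, card_top] at h5
  exact h5

/-- Nonabelian subgroups `L` of a metacyclic `p`-group `H` (`p` odd) satisfy `|L:L'| = |H:H'|`. -/
theorem nonabelian_subgroup {p : ℕ} [hp : Fact p.Prime] (hp2 : p ≠ 2) (hG : IsPGroup p G) (L : Subgroup G)
    (hL : ⁅L, L⁆ ≠ ⊥) (n : ℕ) : ∀ H : Subgroup G, Nat.card H = n → Met H → L ≤ H →
      Nat.card L * Nat.card ↥⁅H, H⁆ = Nat.card H * Nat.card ↥⁅L, L⁆ := by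
  induction n using Nat.strong_induction_on with
  | _ n ih =>
  intro H hn hmet hLH
  by_cases hne : L = H
  · rw [hne]
  obtain ⟨M, hLM, hMH, hidx⟩ := exists_max hG hLH hne
  obtain ⟨a, x, hx, rfl⟩ := hmet
  have hnab : x * a ≠ a * x := by
    intro h
    rw [← comm_iff hx] at h
    apply hL
    rw [eq_bot_iff, ← h]
    exact commutator_mono hLH hLH
  obtain ⟨a', x', hx', hM, hcard⟩ := key hp2 hG a x hx hnab hMH hidx
  have h1 : Nat.card M * p = Nat.card ↥(zpowers a ⊔ zpowers x) := by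
    rw [← hidx]; exact card_mul_relIndex_of_le hMH
  have hlt : Nat.card M < n := by
    rw [← hn, ← h1]
    exact lt_mul_of_one_lt_right Nat.card_pos hp.out.one_lt
  have h2 := ih _ hlt M rfl ⟨a', x', hx', hM⟩ hLM
  rw [← hcard, ← h1]
  calc Nat.card ↥L * (Nat.card ↥⁅M, M⁆ * p) = (Nat.card L * Nat.card ↥⁅M, M⁆) * p := by ring
    _ = Nat.card M * Nat.card ↥⁅L, L⁆ * p := by rw [h2]
    _ = _ := by ring

/-- Abelian subgroups lie in abelian subgroups of order `|H:H'|`. -/
theorem abelian_subgroup {p : ℕ} [hp : Fact p.Prime] (hp2 : p ≠ 2) (hG : IsPGroup p G) (L : Subgroup G)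
    (hL : ⁅L, L⁆ = ⊥) (n : ℕ) : ∀ H : Subgroup G, Nat.card H = n → Met H → L ≤ H →
      ∃ K : Subgroup G, L ≤ K ∧ K ≤ H ∧ ⁅K, K⁆ = ⊥ ∧ Nat.card K * Nat.card ↥⁅H, H⁆ = Nat.card H := by
  induction n using Nat.strong_induction_on with
  | _ n ih =>
  intro H hn hmet hLH
  by_cases hHab : ⁅H, H⁆ = ⊥
  · exact ⟨H, hLH, le_rfl, hHab, by rw [hHab, card_bot, mul_one]⟩
  have hne : L ≠ H := by
    rintro rfl
    exact hHab hL
  obtain ⟨M, hLM, hMH, hidx⟩ := exists_max hG hLH hne
  obtain ⟨a, x, hx, rfl⟩ := hmet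
  have hnab : x * a ≠ a * x := by
    intro h
    rw [← comm_iff hx] at h
    exact hHab h
  obtain ⟨a', x', hx', hM, hcard⟩ := key hp2 hG a x hx hnab hMH hidx
  have h1 : Nat.card M * p = Nat.card ↥(zpowers a ⊔ zpowers x) := by
    rw [← hidx]; exact card_mul_relIndex_of_le hMH
  have hlt : Nat.card M < n := by
    rw [← hn, ← h1]
    exact lt_mul_of_one_lt_right Nat.card_pos hp.out.one_lt
  obtain ⟨K, hLK, hKM, hK, hcK⟩ := ih _ hlt M rfl ⟨a', x', hx', hM⟩ hLM
  refine ⟨K, hLK, hKM.trans hMH, hK, ?_⟩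
  rw [← hcard, ← h1]
  calc Nat.card ↥K * (Nat.card ↥⁅M, M⁆ * p) = (Nat.card K * Nat.card ↥⁅M, M⁆) * p := by ring
    _ = _ := by rw [hcK]

theorem eq_sup_pow {p : ℕ} [hp : Fact p.Prime] (hG : IsPGroup p G) (a x : G)
    (hx : x ∈ normalizer (zpowers a : Set G)) {M : Subgroup G} (hAM : zpowers a ≤ M)
    (hM : M ≤ zpowers a ⊔ zpowers x) (hidx : M.relIndex (zpowers a ⊔ zpowers x) = p) :
    M = zpowers a ⊔ zpowers (x ^ p) := by
  set H := zpowers a ⊔ zpowers x with hH
  have hMH : M ≠ H := by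
    rintro rfl
    rw [relIndex_self] at hidx
    exact hp.out.one_lt.ne hidx
  have hHp : IsPGroup p H := hG.to_subgroup H
  have hmax : ∀ K : Subgroup G, M ≤ K → K ≤ H → K = M ∨ K = H := by
    intro K hMK hKH
    have h1 : M.relIndex K * K.relIndex H = M.relIndex H := relIndex_mul_relIndex M K H hMK hKH
    rw [hidx] at h1
    rcases (Nat.dvd_prime hp.out).1 (Dvd.intro _ h1) with h | h
    · left
      rw [relIndex_eq_one] at h
      exact le_antisymm h hMK
    · right
      rw [h] at h1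
      have h2 : K.relIndex H = 1 := Nat.eq_of_mul_eq_mul_left hp.out.pos (by rw [h1, mul_one])
      rw [relIndex_eq_one] at h2
      exact le_antisymm hKH h2
  have hnorm : H ≤ normalizer (M : Set G) := by
    have h1 := Cfsg.Agent.Lib.H64Basic.lt_inf_normalizer hHp (lt_of_le_of_ne hM hMH)
    rcases hmax _ h1.le inf_le_left with h | h
    · exact absurd h h1.ne'
    · exact inf_eq_left.1 h
  have hpow : ∀ h ∈ H, h ^ p ∈ M := by
    intro h hh
    have hn : (M.subgroupOf H).Normal := (normal_subgroupOf_iff_le_normalizer hM).2 hnorm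
    have h1 := pow_card_eq_one' (x := (QuotientGroup.mk' (M.subgroupOf H) ⟨h, hh⟩))
    have h2 : Nat.card (H ⧸ M.subgroupOf H) = p := hidx
    rw [h2, ← map_pow, ← MonoidHom.mem_ker, QuotientGroup.ker_mk', mem_subgroupOf] at h1
    exact h1
  have hxH : x ∈ H := mem_sup_right (mem_zpowers x)
  have hxM : x ∉ M := by
    intro h
    apply hMH
    apply le_antisymm hM
    exact sup_le hAM (by rwa [zpowers_le])
  apply le_antisymm
  · intro m hm
    obtain ⟨y, hy, i, rfl⟩ := (mem_zpowers_sup hx).1 (hM hm)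
    have h1 : x ^ i ∈ M := (mul_mem_cancel_left (H := M) (hAM hy)).1 hm
    have h2 : (p : ℤ) ∣ i := by
      by_contra hcon
      exact hxM (mem_of_zpow_mem hp.out (hpow x hxH) h1 hcon)
    exact mul_mem (mem_sup_left hy) (mem_sup_right (mem_zpowers_pow h2))
  · refine sup_le hAM ?_
    rw [zpowers_le]; exact hpow x hxH

/-- `|H : C_H(A)| = |H'|`. -/
theorem relIndex_centralizer {p : ℕ} [hp : Fact p.Prime] (hp2 : p ≠ 2) (hG : IsPGroup p G) (a : G) (n : ℕ) :
    ∀ x : G, x ∈ normalizer (zpowers a : Set G) → Nat.card ↥(zpowers a ⊔ zpowers x) = n →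
      ((zpowers a ⊔ zpowers x) ⊓ centralizer (zpowers a : Set G)).relIndex (zpowers a ⊔ zpowers x) =
        Nat.card ↥⁅zpowers a ⊔ zpowers x, zpowers a ⊔ zpowers x⁆ := by
  induction n using Nat.strong_induction_on with
  | _ n ih =>
  intro x hx hn
  by_cases hab : x * a = a * x
  · rw [(comm_iff hx).2 hab, card_bot, relIndex_eq_one, le_inf_iff]
    refine ⟨le_rfl, sup_le (fun y hy => ?_) ?_⟩
    · rw [mem_centralizer_iff]
      intro z hz
      exact (zpowers_comm a y hy z hz).symm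
    · rw [zpowers_le, mem_centralizer_iff]
      intro z hz
      obtain ⟨i, rfl⟩ := mem_zpowers_iff.1 hz
      have : Commute x a := hab
      exact ((this.zpow_right i)).symm.eq
  · have hAH : zpowers a ≠ zpowers a ⊔ zpowers x := by
      intro h
      apply hab
      have : x ∈ zpowers a := by rw [h]; exact mem_sup_right (mem_zpowers x)
      exact zpowers_comm a x this a (mem_zpowers a)
    obtain ⟨M, hAM, hMH, hidx⟩ := exists_max hG (le_sup_left : zpowers a ≤ zpowers a ⊔ zpowers x) hAH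
    have hMe := eq_sup_pow hG a x hx hAM hMH hidx
    subst hMe
    have hcard := card_commutator_pow hp2 hG a x hx hab
    have h1 : Nat.card ↥(zpowers a ⊔ zpowers (x ^ p)) * p = Nat.card ↥(zpowers a ⊔ zpowers x) := by
      have := card_mul_relIndex_of_le hMH
      rwa [hidx] at this
    have hlt : Nat.card ↥(zpowers a ⊔ zpowers (x ^ p)) < n := by
      rw [← hn, ← h1]
      exact lt_mul_of_one_lt_right Nat.card_pos hp.out.one_lt
    have h2 := ih (Nat.card ↥(zpowers a ⊔ zpowers (x ^ p))) hlt (x ^ p) (pow_mem hx p) rfl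
    have hC : (zpowers a ⊔ zpowers x) ⊓ centralizer (zpowers a : Set G) =
        (zpowers a ⊔ zpowers (x ^ p)) ⊓ centralizer (zpowers a : Set G) := by
      apply le_antisymm
      · intro c hc
        obtain ⟨hc1, hc2⟩ := mem_inf.1 hc
        refine mem_inf.2 ⟨?_, hc2⟩
        obtain ⟨y, hy, i, rfl⟩ := (mem_zpowers_sup hx).1 hc1
        have hyc : y ∈ centralizer (zpowers a : Set G) := by
          rw [mem_centralizer_iff]
          intro z hz
          exact (zpowers_comm a y hy z hz).symm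
        have hxi : x ^ i ∈ centralizer (zpowers a : Set G) := (mul_mem_cancel_left (H := centralizer (zpowers a : Set G)) hyc).1 hc2
        have hdi : (p : ℤ) ∣ i := by
          by_contra hcon
          apply hab
          -- x is a p-element and x^i centralizes a
          obtain ⟨m, hm⟩ := (IsPGroup.iff_orderOf.1 hG) x
          have hcop : IsCoprime ((p : ℤ) ^ m) i :=
            ((Nat.prime_iff_prime_int.1 hp.out).coprime_iff_not_dvd.2 hcon).pow_left
          obtain ⟨u, v, huv⟩ := hcop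
          have hxe : x = (x ^ i) ^ v := by
            have h3 : x ^ ((p : ℤ) ^ m) = 1 := by
              have := pow_orderOf_eq_one x
              rw [hm] at this
              rw [← this, ← zpow_natCast]; push_cast; rfl
            calc x = x ^ (u * (p : ℤ) ^ m + v * i) := by rw [huv, zpow_one]
              _ = (x ^ i) ^ v := by
                rw [zpow_add, mul_comm u, zpow_mul, h3, one_zpow, one_mul, mul_comm v, zpow_mul]
          have h4 : x ∈ centralizer (zpowers a : Set G) := by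
            rw [hxe]; exact zpow_mem hxi v
          exact (mem_centralizer_iff.1 h4 a (mem_zpowers a)).symm
        exact mul_mem (mem_sup_left hy) (mem_sup_right (mem_zpowers_pow hdi))
      · exact inf_le_inf_right _ hMH
    rw [hC, ← relIndex_mul_relIndex _ _ _ inf_le_left hMH, h2, hidx, hcard]

theorem isMulComm_iff_commutator (L : Subgroup G) : IsMulCommutative L ↔ ⁅L, L⁆ = ⊥ := by
  rw [commutator_eq_bot_iff_le_centralizer, le_centralizer_iff_isMulCommutative]

theorem met_top {N : Subgroup G} [N.Normal] (h1 : IsCyclic N) (h2 : IsCyclic (G ⧸ N)) :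
    ∃ a x : G, x ∈ normalizer (zpowers a : Set G) ∧ (⊤ : Subgroup G) = zpowers a ⊔ zpowers x ∧ N = zpowers a := by
  obtain ⟨a, ha⟩ := h1.exists_generator
  obtain ⟨x', hx'⟩ := h2.exists_generator
  obtain ⟨x, rfl⟩ := QuotientGroup.mk'_surjective N x'
  have hN : N = zpowers (a : G) := by
    apply le_antisymm
    · intro y hy
      obtain ⟨i, hi⟩ := mem_zpowers_iff.1 (ha ⟨y, hy⟩)
      exact mem_zpowers_iff.2 ⟨i, congrArg Subtype.val hi⟩
    · rw [zpowers_le]; exact a.2
  refine ⟨a, x, ?_, ?_, hN⟩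
  · rw [← hN, normalizer_eq_top]; trivial
  · symm
    rw [eq_top_iff]
    intro g _
    obtain ⟨i, hi⟩ := mem_zpowers_iff.1 (hx' (QuotientGroup.mk' N g))
    rw [← map_zpow] at hi
    have h3 : g * (x ^ i)⁻¹ ∈ N := by
      rw [← QuotientGroup.ker_mk' N, MonoidHom.mem_ker, map_mul, map_inv, hi, mul_inv_cancel]
    have h4 : g = (g * (x ^ i)⁻¹) * x ^ i := by group
    rw [h4, ← hN]
    exact mul_mem (mem_sup_left h3) (mem_sup_right (zpow_mem (mem_zpowers x) i))

end Cfsg.Agent.Lib.H64Metacyclic
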