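import Mathlib
import Cfsg.Prelude.Def_Transfer
import Cfsg.Agent.Lib.H64Irr
import Cfsg.Agent.Lib.H64Basic
import Cfsg.Agent.Lib.RelSylow
import Cfsg.Agent.Lib.SubgroupTools

/-! Core of the structure theorem for nonsimple minimal non-`p`-closed groups (helper64). -/

set_option autoImplicit false

namespace Cfsg.Agent.Lib.H64MinNonPClosed

open Subgroup Cfsg Cfsg.Agent.Lib.RelSylow Cfsg.Agent.Lib.SubgroupTools

variable {G : Type*} [Group G] [Finite G]

theorem coprime_card {p : ℕ} [Fact p.Prime] {N P : Subgroup G} (hN : ¬ p ∣ Nat.card N) (hP : IsPGroup p P) :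
    (Nat.card N).Coprime (Nat.card P) := by
  obtain ⟨n, hn⟩ := hP.exists_card_eq
  rw [hn]
  exact Nat.Coprime.pow_right n (((Fact.out : p.Prime).coprime_iff_not_dvd.2 hN).symm)

theorem core {p : ℕ} [hp : Fact p.Prime] (N P : Subgroup G) (hN : N.Normal) (hpN : ¬ p ∣ Nat.card N)
    (hP : IsPGroup p P) (hsup : N ⊔ P = ⊤) (hPn : ¬ P.Normal)
    (hA : ∀ P₀ ≤ P, ∀ N₀ ≤ N, P₀ ≤ normalizer (N₀ : Set G) → N₀ ⊔ P₀ ≠ ⊤ → ∀ x ∈ P₀, ∀ y ∈ N₀, x * y = y * x)
    (hB : ∀ M : Subgroup G, M.Normal → M ≠ ⊥ → (M ⊔ P).Normal) :
    ∃ q : ℕ, q.Prime ∧ q ≠ p ∧ Nat.card P = p ∧ Nat.card G = p * q ^ orderOf (q : ZMod p) ∧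
      Nat.card N = q ^ orderOf (q : ZMod p) ∧ IsElementaryAbelian q N ∧
        ∀ B : Subgroup G, B.Normal → B ≤ N → B = ⊥ ∨ B = N := by
  have hcardG : Nat.card G = Nat.card N * Nat.card P := by
    have := card_sup_of_coprime (N := N) (H := P) (by rw [normalizer_eq_top]; exact le_top) (coprime_card hpN hP)
    rwa [hsup, card_top] at this
  have hNtop : normalizer (N : Set G) = ⊤ := normalizer_eq_top N
  -- P does not centralize N
  have hnc : ¬ P ≤ centralizer (N : Set G) := by
    intro h
    apply hPn
    rw [← normalizer_eq_top_iff, eq_top_iff, ← hsup]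
    refine sup_le ?_ le_normalizer
    intro x hx
    have : x ∈ centralizer (P : Set G) := by
      rw [mem_centralizer_iff]
      intro y hy
      exact ((mem_centralizer_iff.1 (h hy)) x hx).symm
    exact centralizer_le_normalizer _ this
  obtain ⟨x, hxP, hxN⟩ := SetLike.not_le_iff_exists.1 hnc
  -- proper subgroups of P centralize N
  have hprop : ∀ P₀ ≤ P, P₀ ≠ P → P₀ ≤ centralizer (N : Set G) := by
    intro P₀ hP₀ hne y hy
    rw [mem_centralizer_iff]
    intro z hz
    refine (hA P₀ hP₀ N le_rfl (by rw [hNtop]; exact le_top) ?_ y hy z hz).symm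
    intro htop
    have h1 := card_sup_of_coprime (N := N) (H := P₀) (by rw [hNtop]; exact le_top) (coprime_card hpN (hP.to_le hP₀))
    rw [htop, card_top, hcardG] at h1
    apply hne
    apply eq_of_le_of_card_ge hP₀
    exact (Nat.eq_of_mul_eq_mul_left Nat.card_pos h1).le
  -- P is generated by x
  have hPx : zpowers x = P := by
    by_contra hne
    exact hxN (hprop _ (by simpa using hxP) hne (mem_zpowers x))
  -- x ^ p = 1
  have hxp : x ^ p = 1 := by
    by_contra hne
    have hle : zpowers (x ^ p) ≤ P := by
      rw [← hPx, zpowers_le]; exact npow_mem_zpowers x p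
    have hne' : zpowers (x ^ p) ≠ P := by
      intro h
      rw [← hPx] at h
      have h1 : Nat.card (zpowers (x ^ p)) = Nat.card (zpowers x) := by rw [h]
      rw [Nat.card_zpowers, Nat.card_zpowers, orderOf_pow] at h1
      obtain ⟨n, hn⟩ := hP.exists_card_eq
      rw [← hPx, Nat.card_zpowers] at hn
      have hn0 : n ≠ 0 := by
        rintro rfl
        rw [pow_zero, orderOf_eq_one_iff] at hn
        rw [hn, one_pow] at hne
        exact hne rfl
      have h2 : (orderOf x).gcd p = p := by
        rw [hn]
        exact Nat.gcd_eq_right (dvd_pow_self p hn0)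
      rw [h2] at h1
      have h3 := Nat.div_lt_self (orderOf_pos x) hp.out.one_lt
      omega
    have hcen : zpowers (x ^ p) ≤ center G := by
      intro y hy
      rw [mem_center_iff]
      have h1 := hprop _ hle hne' hy
      have : (⊤ : Subgroup G) ≤ centralizer ({y} : Set G) := by
        rw [← hsup]
        refine sup_le ?_ ?_
        · intro z hz
          rw [mem_centralizer_singleton_iff]
          exact mem_centralizer_iff.1 h1 z hz
        · intro z hz
          rw [mem_centralizer_singleton_iff]
          rw [← hPx] at hz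
          have hy' : y ∈ zpowers x := by
            rw [hPx]; exact hle hy
          obtain ⟨a, rfl⟩ := mem_zpowers_iff.1 hz
          obtain ⟨b, rfl⟩ := mem_zpowers_iff.1 hy'
          rw [← zpow_add, ← zpow_add, add_comm]
      intro g
      exact mem_centralizer_singleton_iff.1 (this (mem_top g))
    have hnorm : (zpowers (x ^ p)).Normal := by
      constructor
      intro n hn g
      have := mem_center_iff.1 (hcen hn) g
      rw [this]; simpa using hn
    have := hB _ hnorm (by
      rw [Ne, zpowers_eq_bot]; exact hne)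
    rw [sup_eq_right.2 hle] at this
    exact hPn this
  have hx1 : x ≠ 1 := by
    rintro rfl
    exact hxN (one_mem _)
  have hox : orderOf x = p := orderOf_eq_prime hxp hx1
  have hcardP : Nat.card P = p := by rw [← hPx, Nat.card_zpowers, hox]
  -- N is a q-group
  have hqex : ∃ q : ℕ, q.Prime ∧ IsPGroup q N := by
    by_contra hcon
    push Not at hcon
    apply hxN
    -- the centralizer of x in N has full order
    have hall : ∀ q : ℕ, q.Prime → (Nat.card N).factorization q ≤ (Nat.card ↥(N ⊓ centralizer ({x} : Set G))).factorization q := by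
      intro q hq
      have : Fact q.Prime := ⟨hq⟩
      obtain ⟨Q, hQ⟩ := exists_syl q N
      -- a conjugate of P normalizes Q
      have hfr := hQ.frattini_sup (H := ⊤) le_top (by rw [hNtop])
      rw [top_inf_eq] at hfr
      have hpdvd : p ∣ Nat.card (normalizer (Q : Set G)) := by
        have h1 := card_sup_mul_card_inf (N := N) (H := normalizer (Q : Set G)) (by rw [hNtop]; exact le_top)
        rw [hfr, card_top, hcardG, hcardP] at h1
        have h2 : p ∣ Nat.card N * Nat.card (normalizer (Q : Set G)) := by
          rw [← h1]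
          exact ⟨Nat.card N * Nat.card ↥(N ⊓ normalizer (Q : Set G)), by ring⟩
        exact (hp.out.dvd_mul.1 h2).resolve_left hpN
      obtain ⟨y, hy⟩ := exists_prime_orderOf_dvd_card' (G := normalizer (Q : Set G)) p hpdvd
      have hyo : orderOf (y : G) = p := by rw [orderOf_submonoid, hy]
      have hyp : IsPGroup p (zpowers (y : G)) := IsPGroup.of_card (n := 1) (by rw [Nat.card_zpowers, hyo, pow_one])
      have hPsyl : IsSyl p P (⊤ : Subgroup G) := by
        refine ⟨le_top, hP, ?_⟩
        rw [relIndex_top_right]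
        have h1 := P.card_mul_index
        rw [hcardG, mul_comm (Nat.card N)] at h1
        have h2 := Nat.eq_of_mul_eq_mul_left Nat.card_pos h1
        rw [h2]; exact hpN
      obtain ⟨g, -, hg⟩ := hPsyl.exists_conj_le hyp le_top
      have hg' : zpowers (y : G) = P.map (MulAut.conj g).toMonoidHom := by
        apply eq_of_le_of_card_ge hg
        rw [card_conj, Nat.card_zpowers, hyo, hcardP]
      -- Q₁ = g⁻¹ Q g is normalized by P
      have hQ1 : IsSyl q (Q.map (MulAut.conj g⁻¹).toMonoidHom) N := hQ.conj_isSyl' (by rw [hNtop]; trivial)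
      have hPQ1 : P ≤ normalizer ((Q.map (MulAut.conj g⁻¹).toMonoidHom : Subgroup G) : Set G) := by
        rw [← normalizer_conj]
        have h1 : P = (zpowers (y : G)).map (MulAut.conj g⁻¹).toMonoidHom := by
          rw [hg', conj_conj, inv_mul_cancel, conj_one]
        rw [h1]
        apply map_mono
        rw [zpowers_le]
        exact y.2
      have hne : Q.map (MulAut.conj g⁻¹).toMonoidHom ≠ N := by
        intro h
        apply hcon q hq
        rw [← h]; exact hQ1.2.1
      have hlt : Q.map (MulAut.conj g⁻¹).toMonoidHom ⊔ P ≠ ⊤ := by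
        intro htop
        have h1 := card_sup_of_coprime (N := Q.map (MulAut.conj g⁻¹).toMonoidHom) (H := P) hPQ1
          (coprime_card (fun h => hpN (h.trans (card_dvd_of_le hQ1.1))) hP)
        rw [htop, card_top, hcardG] at h1
        apply hne
        apply eq_of_le_of_card_ge hQ1.1
        exact (Nat.eq_of_mul_eq_mul_right Nat.card_pos h1).le
      have hcomm := hA P le_rfl _ hQ1.1 hPQ1 hlt
      have hQle : Q.map (MulAut.conj g⁻¹).toMonoidHom ≤ N ⊓ centralizer ({x} : Set G) := by
        refine le_inf hQ1.1 ?_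
        intro z hz
        rw [mem_centralizer_singleton_iff]
        exact (hcomm x hxP z hz).symm
      have h1 : (Nat.card N).factorization q = (Nat.card ↥(Q.map (MulAut.conj g⁻¹).toMonoidHom)).factorization q := by
        have h2 := card_mul_relIndex_of_le hQ1.1
        rw [← h2, Nat.factorization_mul Nat.card_pos.ne' (by
            have := hQ1.2.2
            intro h0; rw [h0] at this; exact this (dvd_zero _))]
        rw [Finsupp.add_apply, Nat.factorization_eq_zero_of_not_dvd hQ1.2.2, add_zero]
      rw [h1]
      exact (Nat.factorization_le_iff_dvd Nat.card_pos.ne' Nat.card_pos.ne').2 (card_dvd_of_le hQle) q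
    have hdvd : Nat.card N ∣ Nat.card ↥(N ⊓ centralizer ({x} : Set G)) := by
      rw [← Nat.factorization_le_iff_dvd Nat.card_pos.ne' Nat.card_pos.ne']
      intro q
      by_cases hq : q.Prime
      · exact hall q hq
      · rw [Nat.factorization_eq_zero_of_not_prime _ hq]; exact Nat.zero_le _
    have heq : N ⊓ centralizer ({x} : Set G) = N :=
      eq_of_le_of_card_ge inf_le_left (Nat.le_of_dvd Nat.card_pos hdvd)
    rw [mem_centralizer_iff]
    intro z hz
    have : z ∈ N ⊓ centralizer ({x} : Set G) := by rw [heq]; exact hz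
    exact mem_centralizer_singleton_iff.1 this.2
  obtain ⟨q, hq, hNq⟩ := hqex
  have : Fact q.Prime := ⟨hq⟩
  have hNne : N ≠ ⊥ := by
    rintro rfl
    apply hxN
    rw [mem_centralizer_iff]
    intro z hz
    have : z = 1 := by simpa using hz
    rw [this]; simp
  have hqp : q ≠ p := by
    rintro rfl
    obtain ⟨n, hn⟩ := hNq.exists_card_eq
    apply hpN
    rw [hn]
    apply dvd_pow_self
    rintro rfl
    apply hNne
    rw [← card_eq_one, hn, pow_zero]
  -- invariant proper subgroups are centralized
  have hinv : ∀ B ≤ N, (∀ b ∈ B, x * b * x⁻¹ ∈ B) → B ≠ N → ∀ b ∈ B, x * b = b * x := by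
    intro B hBN hBx hne
    have hxn : x ∈ normalizer (B : Set G) := by
      rw [mem_normalizer_iff_map]
      apply eq_of_le_of_card_ge
      · rintro _ ⟨b, hb, rfl⟩
        exact hBx b hb
      · rw [card_conj]
    have hPn : P ≤ normalizer (B : Set G) := by
      rw [← hPx, zpowers_le]; exact hxn
    refine hA P le_rfl B hBN hPn ?_ x hxP
    intro htop
    have h1 := card_sup_of_coprime (N := B) (H := P) hPn
      (coprime_card (fun h => hpN (h.trans (card_dvd_of_le hBN))) hP)
    rw [htop, card_top, hcardG] at h1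
    apply hne
    apply eq_of_le_of_card_ge hBN
    exact (Nat.eq_of_mul_eq_mul_right Nat.card_pos h1).le
  -- centralizer of x in N
  set C : Subgroup G := N ⊓ centralizer ({x} : Set G) with hC
  have hxC : ∀ b ∈ C, x * b * x⁻¹ = b := by
    intro b hb
    have := mem_centralizer_singleton_iff.1 (mem_inf.1 hb).2
    rw [← this]; group
  have hCne : C ≠ N := by
    intro h
    apply hxN
    rw [mem_centralizer_iff]
    intro z hz
    rw [SetLike.mem_coe, ← h] at hz
    exact mem_centralizer_singleton_iff.1 (mem_inf.1 hz).2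
  have hCbot : C = ⊥ := by
    by_contra hCb
    have hlt : C < N := lt_of_le_of_ne inf_le_left hCne
    have hgrow := Cfsg.Agent.Lib.H64Basic.lt_inf_normalizer hNq hlt
    have hCx : C.map (MulAut.conj x).toMonoidHom = C := by
      apply eq_of_le_of_card_ge
      · rintro _ ⟨b, hb, rfl⟩
        show x * b * x⁻¹ ∈ C
        rw [hxC b hb]; exact hb
      · rw [card_conj]
    have hxnC : x ∈ normalizer (C : Set G) := mem_normalizer_iff_map.2 hCx
    have hNC : N ⊓ normalizer (C : Set G) = N := by
      by_contra hne
      have h1 := hinv (N ⊓ normalizer (C : Set G)) inf_le_left (by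
        intro b hb
        refine mem_inf.2 ⟨hN.conj_mem b (mem_inf.1 hb).1 x, ?_⟩
        exact mul_mem (mul_mem hxnC (mem_inf.1 hb).2) (inv_mem hxnC)) hne
      apply not_le_of_gt hgrow
      intro b hb
      refine mem_inf.2 ⟨(mem_inf.1 hb).1, mem_centralizer_singleton_iff.2 ?_⟩
      exact (h1 b hb).symm
    have hCn : C.Normal := by
      rw [← normalizer_eq_top_iff, eq_top_iff, ← hsup]
      refine sup_le (inf_eq_left.1 hNC) ?_
      rw [← hPx, zpowers_le]; exact hxnC
    have hCP := hB C hCn hCb
    -- P is the unique Sylow p-subgroup of C ⊔ P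
    have hPC : C ≤ centralizer (P : Set G) := by
      intro b hb
      rw [mem_centralizer_iff]
      intro z hz
      rw [SetLike.mem_coe, ← hPx] at hz
      have h2 : x ∈ centralizer ({b} : Set G) := mem_centralizer_singleton_iff.2 (mem_centralizer_singleton_iff.1 (mem_inf.1 hb).2).symm
      have h3 : zpowers x ≤ centralizer ({b} : Set G) := by rwa [zpowers_le]
      exact mem_centralizer_singleton_iff.1 (h3 hz)
    have hpC : ¬ p ∣ Nat.card C := fun h => hpN (h.trans (card_dvd_of_le inf_le_left))
    have hsyl : IsSyl p P (C ⊔ P) := isSyl_sup hpC hP (by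
      rw [normalizer_eq_top]; exact le_top)
    apply hPn
    rw [← normalizer_eq_top_iff, eq_top_iff]
    intro g _
    rw [mem_normalizer_iff_map]
    have hs2 : IsSyl p (P.map (MulAut.conj g).toMonoidHom) (C ⊔ P) := hsyl.conj_isSyl' (by
      rw [normalizer_eq_top]; trivial)
    obtain ⟨h, hh, he⟩ := hsyl.conj hs2
    rw [← he]
    apply conj_eq_of_mem_normalizer
    refine (sup_le ?_ le_normalizer : C ⊔ P ≤ normalizer (P : Set G)) hh
    exact hPC.trans (centralizer_le_normalizer _)
  have hirr : ∀ B : Subgroup G, B ≤ N → (∀ b ∈ B, x * b * x⁻¹ ∈ B) → B = ⊥ ∨ B = N := by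
    intro B hBN hBx
    by_cases h : B = N
    · exact Or.inr h
    · left
      rw [eq_bot_iff, ← hCbot]
      intro b hb
      exact mem_inf.2 ⟨hBN hb, mem_centralizer_singleton_iff.2 (hinv B hBN hBx h b hb).symm⟩
  -- N is elementary abelian
  have hNnt : Nontrivial N := (nontrivial_iff_ne_bot N).2 hNne
  have hab : ∀ a ∈ N, ∀ b ∈ N, a * b = b * a := by
    have hc : Nontrivial (center N) := hNq.center_nontrivial
    have h1 : ((center N).map N.subtype) ≤ N := map_subtype_le _
    have hnorm : ((center N).map N.subtype).Normal := inferInstance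
    rcases hirr _ h1 (fun b hb => hnorm.conj_mem b hb x) with h2 | h2
    · exfalso
      rw [map_eq_bot_iff_of_injective _ N.subtype_injective] at h2
      exact (nontrivial_iff_ne_bot _).1 hc h2
    · intro a ha b hb
      rw [← h2] at ha
      obtain ⟨z, hz, rfl⟩ := ha
      exact (congrArg Subtype.val (mem_center_iff.1 hz ⟨b, hb⟩)).symm
  have hexp : ∀ a ∈ N, a ^ q = 1 := by
    let E : Subgroup G :=
      { carrier := {a | a ∈ N ∧ a ^ q = 1}
        mul_mem' := by
          rintro a b ⟨ha, ha'⟩ ⟨hb, hb'⟩
          refine ⟨mul_mem ha hb, ?_⟩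
          have : Commute a b := hab a ha b hb
          rw [this.mul_pow, ha', hb', one_mul]
        one_mem' := ⟨one_mem N, one_pow q⟩
        inv_mem' := by
          rintro a ⟨ha, ha'⟩
          exact ⟨inv_mem ha, by rw [inv_pow, ha', inv_one]⟩ }
    have hEN : E ≤ N := fun a ha => ha.1
    rcases hirr E hEN (by
      rintro b ⟨hb, hb'⟩
      exact ⟨hN.conj_mem b hb x, by rw [conj_pow, hb']; simp⟩) with h | h
    · exfalso
      have hdvd : q ∣ Nat.card N := by
        obtain ⟨n, hn⟩ := hNq.exists_card_eq
        rw [hn]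
        apply dvd_pow_self
        rintro rfl
        rw [pow_zero, card_eq_one] at hn
        exact hNne hn
      obtain ⟨z, hz⟩ := exists_prime_orderOf_dvd_card' (G := N) q hdvd
      have : (z : G) ∈ E := ⟨z.2, by
        have := pow_orderOf_eq_one z
        rw [hz] at this
        exact congrArg Subtype.val this⟩
      rw [h, mem_bot] at this
      have hz1 : z = 1 := Subtype.ext this
      rw [hz1, orderOf_one] at hz
      exact hq.one_lt.ne hz
    · intro a ha
      rw [← h] at ha
      exact ha.2
  have hEl : IsElementaryAbelian q N := ⟨⟨⟨fun a b => Subtype.ext (hab a a.2 b b.2)⟩⟩, hexp⟩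
  have hcardN : Nat.card N = q ^ orderOf (q : ZMod p) := by
    apply Cfsg.Agent.Lib.H64Irr.card_eq_of_irreducible_conj hqp N hEl x
    · intro a ha; exact hN.conj_mem a ha x
    · intro a ha; rw [hxp]; simp
    · by_contra hcon
      push Not at hcon
      apply hCne
      apply le_antisymm inf_le_left
      intro a ha
      refine mem_inf.2 ⟨ha, mem_centralizer_singleton_iff.2 ?_⟩
      have := hcon a ha
      rw [mul_inv_eq_iff_eq_mul] at this
      exact this.symm
    · exact hirr
  refine ⟨q, hq, hqp, hcardP, ?_, hcardN, hEl, ?_⟩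
  · rw [hcardG, hcardP, hcardN, mul_comm]
  · intro B hBn hBN
    exact hirr B hBN (fun b hb => hBn.conj_mem b hb x)

end Cfsg.Agent.Lib.H64MinNonPClosed
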