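import Mathlib

/-!
Sylow subgroups and overgroups: a combinatorial inequality for families of closed sets of Sylow subgroups.
-/
set_option autoImplicit false

namespace Cfsg.Agent.Lib.H64SylFix

open scoped Pointwise
open MulAction

variable {G : Type*} [Group G] {p : ℕ}

/-- the subgroup generated by a set of Sylow subgroups -/
def KA (A : Set (Sylow p G)) : Subgroup G := ⨆ P ∈ A, (P : Subgroup G)

theorem le_KA {A : Set (Sylow p G)} {P : Sylow p G} (hP : P ∈ A) : (P : Subgroup G) ≤ KA A :=
  le_iSup₂_of_le P hP le_rfl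

theorem KA_mono {A B : Set (Sylow p G)} (h : A ⊆ B) : KA A ≤ KA B :=
  iSup₂_le fun _ hP => le_KA (h hP)

/-- closed sets of Sylow subgroups -/
def Closed (A : Set (Sylow p G)) : Prop := ∀ P ∈ A, ∀ x ∈ (P : Subgroup G), x • A = A

theorem Closed.smul_eq {A : Set (Sylow p G)} (hA : Closed A) {g : G} (hg : g ∈ KA A) : g • A = A := by
  have h : KA A ≤ stabilizer G A := iSup₂_le fun P hP x hx => hA P hP x hx
  exact h hg

theorem closed_sInter {S : Set (Set (Sylow p G))} (hS : ∀ T ∈ S, Closed T) : Closed (⋂₀ S) := by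
  intro P hP x hx
  ext R
  rw [Set.mem_smul_set_iff_inv_smul_mem, Set.mem_sInter, Set.mem_sInter]
  refine forall₂_congr fun T hT => ?_
  rw [← Set.mem_smul_set_iff_inv_smul_mem, hS T hT P (hP T hT) x hx]

theorem closed_inter {S T : Set (Sylow p G)} (hS : Closed S) (hT : Closed T) : Closed (S ∩ T) := by
  intro P hP x hx
  rw [Set.smul_set_inter, hS P hP.1 x hx, hT P hP.2 x hx]

theorem closed_smul {T : Set (Sylow p G)} (hT : Closed T) (g : G) : Closed (g • T) := by
  intro P hP x hx
  obtain ⟨R, hR, rfl⟩ := hP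
  have hx' : g⁻¹ * x * g ∈ (R : Subgroup G) := by
    have h1 : x ∈ MulAut.conj g • (R : Subgroup G) := hx
    rw [Subgroup.mem_pointwise_smul_iff_inv_smul_mem] at h1
    have h2 : (MulAut.conj g)⁻¹ • x = g⁻¹ * x * g := by
      rw [← map_inv, MulAut.smul_def, MulAut.conj_apply, inv_inv]
    rwa [h2] at h1
  have h := hT R hR _ hx'
  calc x • g • T = g • ((g⁻¹ * x * g) • T) := by rw [smul_smul, smul_smul]; congr 1; group
    _ = g • T := by rw [h]

variable [Finite G] [Fact p.Prime]

theorem card_modEq_one {T : Set (Sylow p G)} (hT : Closed T) (hne : T.Nonempty) :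
    Nat.card T ≡ 1 [MOD p] := by
  obtain ⟨R, hR⟩ := hne
  let S : SubMulAction (R : Subgroup G) (Sylow p G) :=
    { carrier := T
      smul_mem' := by
        intro c x hx
        have h := hT R hR c c.2
        have : (c : G) • x ∈ (c : G) • T := Set.smul_mem_smul_set hx
        rw [h] at this
        exact this }
  have h1 := (R.2).card_modEq_card_fixedPoints S
  have h2 : Nat.card (fixedPoints (R : Subgroup G) S) = 1 := by
    rw [Nat.card_eq_one_iff_unique]
    constructor
    · constructor
      intro a b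
      have key : ∀ a : fixedPoints (R : Subgroup G) S, ((a : S) : Sylow p G) = R := by
        intro a
        have h3 : ((a : S) : Sylow p G) ∈ fixedPoints (R : Subgroup G) (Sylow p G) := by
          intro r
          have := a.2 r
          exact congrArg Subtype.val this
        have h4 := (R.2.sylow_mem_fixedPoints_iff).1 h3
        exact (Sylow.ext (R.3 (a : S).1.2 h4)) 
      exact Subtype.ext (Subtype.ext ((key a).trans (key b).symm))
    · refine ⟨⟨⟨R, hR⟩, ?_⟩⟩
      intro r
      apply Subtype.ext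
      have h3 : R ∈ fixedPoints (R : Subgroup G) (Sylow p G) :=
        (R.2.sylow_mem_fixedPoints_iff).2 le_rfl
      exact h3 r
  rw [h2] at h1
  exact h1

theorem exists_le_of_stab {T : Set (Sylow p G)} (hT : Closed T) (hne : T.Nonempty)
    {Q : Subgroup G} (hQ : IsPGroup p Q) (hst : ∀ x ∈ Q, x • T = T) : ∃ R ∈ T, Q ≤ (R : Subgroup G) := by
  let S : SubMulAction Q (Sylow p G) :=
    { carrier := T
      smul_mem' := by
        intro c x hx
        have h := hst c c.2
        have : (c : G) • x ∈ (c : G) • T := Set.smul_mem_smul_set hx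
        rw [h] at this
        exact this }
  have h1 := hQ.card_modEq_card_fixedPoints S
  have h2 : Nat.card S ≡ 1 [MOD p] := card_modEq_one hT hne
  have h3 : Nat.card (fixedPoints Q S) ≡ 1 [MOD p] := h1.symm.trans h2
  have h4 : Nat.card (fixedPoints Q S) ≠ 0 := by
    intro h0
    rw [h0] at h3
    have h5 := (Nat.modEq_iff_dvd' (Nat.zero_le 1)).1 h3
    exact (Fact.out : p.Prime).one_lt.ne' (Nat.dvd_one.1 (by simpa using h5))
  obtain ⟨a⟩ : Nonempty (fixedPoints Q S) := by
    by_contra hn
    rw [not_nonempty_iff] at hn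
    exact h4 (Nat.card_of_isEmpty)
  refine ⟨((a : S) : Sylow p G), (a : S).2, ?_⟩
  have h6 : ((a : S) : Sylow p G) ∈ fixedPoints Q (Sylow p G) := by
    intro r
    exact congrArg Subtype.val (a.2 r)
  exact (hQ.sylow_mem_fixedPoints_iff).1 h6

theorem mem_of_stab {T : Set (Sylow p G)} (hT : Closed T) (hne : T.Nonempty)
    {P : Sylow p G} (hst : ∀ x ∈ (P : Subgroup G), x • T = T) : P ∈ T := by
  obtain ⟨R, hR, hle⟩ := exists_le_of_stab hT hne P.2 hst
  have : R = P := Sylow.ext (P.3 R.2 hle)
  rwa [← this]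

theorem exists_smul_eq {A : Set (Sylow p G)} {P P' : Sylow p G} (hP : P ∈ A) (hP' : P' ∈ A) :
    ∃ g ∈ KA A, g • P = P' := by
  obtain ⟨g, hg⟩ := MulAction.exists_smul_eq (KA A) (P.subtype (le_KA hP)) (P'.subtype (le_KA hP'))
  refine ⟨g, g.2, ?_⟩
  rw [Sylow.smul_subtype] at hg
  exact Sylow.subtype_injective hg

/-- invariant families -/
def Inv (A : Set (Sylow p G)) (F : Finset (Set (Sylow p G))) : Prop :=
  ∀ g ∈ KA A, ∀ T ∈ F, g • T ∈ F

open Classical in
/-- the contribution of a point -/
noncomputable def gg (P : Sylow p G) (T : Set (Sylow p G)) : ℤ :=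
  ((p : ℤ) - 1) - (2 * (p : ℤ) - 1) * (if P ∈ T then 1 else 0)

/-- the defect of a family -/
noncomputable def EE (P : Sylow p G) (F : Finset (Set (Sylow p G))) : ℤ := ∑ T ∈ F, gg P T

theorem gg_smul (P : Sylow p G) (T : Set (Sylow p G)) (g : G) : gg (g • P) (g • T) = gg P T := by
  unfold gg
  have h : (g • P ∈ g • T) ↔ P ∈ T := Set.smul_mem_smul_set_iff
  by_cases hP : P ∈ T
  · rw [if_pos hP, if_pos (h.2 hP)]
  · rw [if_neg hP, if_neg (fun h' => hP (h.1 h'))]

theorem EE_const {A : Set (Sylow p G)} {F : Finset (Set (Sylow p G))} (hF : Inv A F)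
    {P P' : Sylow p G} (hP : P ∈ A) (hP' : P' ∈ A) : EE P F = EE P' F := by
  obtain ⟨g, hg, rfl⟩ := exists_smul_eq hP hP'
  unfold EE
  refine Finset.sum_nbij' (fun T => g • T) (fun T => g⁻¹ • T) (fun T hT => hF g hg T hT)
    (fun T hT => hF g⁻¹ (inv_mem hg) T hT) (fun T _ => inv_smul_smul g T)
    (fun T _ => smul_inv_smul g T) (fun T _ => (gg_smul P T g).symm)

/-- existence of bad sets of size at most p -/
theorem exists_bad {A : Set (Sylow p G)} {F : Finset (Set (Sylow p G))} (hF : Inv A F)
    {T : Set (Sylow p G)} (hTF : T ∈ F) (hT : Closed T) (hne : T.Nonempty) (hAT : ¬ A ⊆ T) :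
    ∃ B ⊆ F, B.card ≤ p ∧ ∀ R : Sylow p G, ∃ T' ∈ B, R ∉ T' := by
  classical
  obtain ⟨P, hPA, hPT⟩ := Set.not_subset.1 hAT
  have hp : p.Prime := Fact.out
  set S : Subgroup G := stabilizer G T with hS
  have hnle : ¬ (P : Subgroup G) ≤ S := fun h => hPT (mem_of_stab hT hne fun x hx => h hx)
  -- work in P
  set S' : Subgroup (P : Subgroup G) := S.subgroupOf P with hS'
  have hS'top : S' ≠ ⊤ := fun h => hnle (Subgroup.subgroupOf_eq_top.1 h)
  obtain ⟨n, hn⟩ := IsPGroup.iff_card.1 (P.2.to_subgroup S')
  obtain ⟨m, hm⟩ := IsPGroup.iff_card.1 P.2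
  have hnm : n + 1 ≤ m := by
    by_contra hc
    apply hS'top
    apply Subgroup.eq_top_of_card_eq
    have h1 : Nat.card S' ∣ Nat.card (P : Subgroup G) := Subgroup.card_subgroup_dvd_card S'
    rw [hn, hm] at h1 ⊢
    have h2 := (Nat.pow_dvd_pow_iff_le_right hp.one_lt).1 h1
    congr 1
    omega
  obtain ⟨K', hK', hle⟩ := Sylow.exists_subgroup_card_pow_succ (G := (P : Subgroup G)) (p := p)
    (n := n) (by rw [hm]; exact pow_dvd_pow p hnm) hn
  set Q : Subgroup G := K'.map (P : Subgroup G).subtype with hQ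
  have hQP : Q ≤ (P : Subgroup G) := Subgroup.map_subtype_le K'
  have hQp : IsPGroup p Q := P.2.to_le hQP
  have hQS : ¬ Q ≤ S := by
    intro h
    have h1 : K' ≤ S' := by
      intro x hx
      rw [hS', Subgroup.mem_subgroupOf]
      exact h ⟨x, hx, rfl⟩
    have h2 := Subgroup.card_le_of_le h1
    rw [hK', hn] at h2
    exact absurd h2 (not_le.2 (Nat.pow_lt_pow_right hp.one_lt (Nat.lt_succ_self n)))
  have hfin : (orbit Q T).Finite := Set.toFinite _
  refine ⟨hfin.toFinset, ?_, ?_, ?_⟩
  · intro T' hT'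
    rw [Set.Finite.mem_toFinset] at hT'
    obtain ⟨q, rfl⟩ := hT'
    exact hF q (le_KA hPA (hQP q.2)) T hTF
  · have h1 : hfin.toFinset.card = (orbit Q T).ncard := (Set.ncard_eq_toFinset_card _ hfin).symm
    rw [h1, ← MulAction.index_stabilizer]
    have h2 : stabilizer Q T = S.subgroupOf Q := by
      ext x
      rw [Subgroup.mem_subgroupOf, mem_stabilizer_iff, hS, mem_stabilizer_iff]
      rfl
    rw [h2]
    have h3 : S'.map (P : Subgroup G).subtype ≤ S := by
      rw [hS', Subgroup.subgroupOf_map_subtype]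
      exact inf_le_left
    have h4 : (S.relIndex Q) ∣ (S'.map (P : Subgroup G).subtype).relIndex Q :=
      Subgroup.relIndex_dvd_of_le_left Q h3
    have h5 : (S'.map (P : Subgroup G).subtype).relIndex Q = S'.relIndex K' := by
      rw [hQ]
      exact Subgroup.relIndex_map_map_of_injective _ _ (Subgroup.subtype_injective _)
    have h6 : S'.relIndex K' = p := by
      have h7 := Subgroup.card_mul_index (S'.subgroupOf K')
      rw [Nat.card_congr (Subgroup.subgroupOfEquivOfLe hle).toEquiv, hn, hK', pow_succ] at h7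
      exact Nat.eq_of_mul_eq_mul_left (pow_pos hp.pos n) h7
    have h8 : S.relIndex Q ∣ p := by rwa [h5, h6] at h4
    exact Nat.le_of_dvd hp.pos h8
  · intro R
    by_contra hcon
    push Not at hcon
    have hmem : ∀ q : Q, R ∈ (q : G) • T := by
      intro q
      exact hcon _ (by rw [Set.Finite.mem_toFinset]; exact ⟨q, rfl⟩)
    set Ts : Set (Sylow p G) := ⋂₀ {U | ∃ q : Q, U = (q : G) • T} with hTs
    have hTsc : Closed Ts := by
      apply closed_sInter
      rintro U ⟨q, rfl⟩
      exact closed_smul hT q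
    have hTsne : Ts.Nonempty := ⟨R, by rintro U ⟨q, rfl⟩; exact hmem q⟩
    have hst : ∀ x ∈ Q, x • Ts = Ts := by
      intro x hx
      ext U
      rw [Set.mem_smul_set_iff_inv_smul_mem, hTs, Set.mem_sInter, Set.mem_sInter]
      constructor
      · rintro h V ⟨q, rfl⟩
        have := h (((x⁻¹ * q : G)) • T) ⟨⟨x⁻¹ * q, Q.mul_mem (Q.inv_mem hx) q.2⟩, rfl⟩
        rw [← Set.mem_smul_set_iff_inv_smul_mem, smul_smul, mul_inv_cancel_left] at this
        exact this
      · rintro h V ⟨q, rfl⟩
        rw [← Set.mem_smul_set_iff_inv_smul_mem, smul_smul]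
        exact h _ ⟨⟨x * q, Q.mul_mem hx q.2⟩, rfl⟩
    obtain ⟨R', hR', hQR'⟩ := exists_le_of_stab hTsc hTsne hQp hst
    have hR'T : R' ∈ T := by
      have := hR' ((1 : G) • T) ⟨1, rfl⟩
      rwa [one_smul] at this
    exact hQS fun x hx => hT R' hR'T x (hQR' hx)


/-- the conditions on a family -/
structure Good (A : Set (Sylow p G)) (F : Finset (Set (Sylow p G))) : Prop where
  closed : ∀ T ∈ F, Closed T
  nonempty : ∀ T ∈ F, T.Nonempty
  notle : ∀ T ∈ F, ¬ A ⊆ T
  inv : Inv A F

theorem Good.filter {A : Set (Sylow p G)} {F : Finset (Set (Sylow p G))} (hF : Good A F)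
    (q : Set (Sylow p G) → Prop) [DecidablePred q] (hq : ∀ g ∈ KA A, ∀ T ∈ F, q T → q (g • T)) :
    Good A (F.filter q) where
  closed T hT := hF.closed T (Finset.mem_filter.1 hT).1
  nonempty T hT := hF.nonempty T (Finset.mem_filter.1 hT).1
  notle T hT := hF.notle T (Finset.mem_filter.1 hT).1
  inv := by
    intro g hg T hT
    rw [Finset.mem_filter] at hT ⊢
    exact ⟨hF.inv g hg T hT.1, hq g hg T hT.1 hT.2⟩

/-- the statement of the main inequality for families of size at most n -/
def Main (G : Type*) [Group G] (p n : ℕ) : Prop :=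
  ∀ (A : Set (Sylow p G)) (F B : Finset (Set (Sylow p G))), F.card ≤ n → Closed A → Good A F →
    B ⊆ F → (∀ P ∈ A, ∃ T ∈ B, P ∉ T) → ∀ P ∈ A, (p : ℤ) * ((p : ℤ) - B.card) ≤ EE P F

theorem Main.nonneg {n : ℕ} (h : Main G p n) {A : Set (Sylow p G)} {F : Finset (Set (Sylow p G))}
    (hn : F.card ≤ n) (hA : Closed A) (hF : Good A F) {P : Sylow p G} (hP : P ∈ A) :
    0 ≤ EE P F := by
  rcases F.eq_empty_or_nonempty with rfl | ⟨T, hT⟩
  · simp [EE]
  obtain ⟨B, hBF, hBc, hB⟩ := exists_bad hF.inv hT (hF.closed T hT) (hF.nonempty T hT)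
    (hF.notle T hT)
  have h1 := h A F B hn hA hF hBF (fun P _ => hB P) P hP
  refine le_trans ?_ h1
  have : (B.card : ℤ) ≤ p := by exact_mod_cast hBc
  exact mul_nonneg (by positivity) (by linarith)

/-- weighted version of the nonnegativity -/
theorem Main.weighted {n : ℕ} (h : Main G p n) {A : Set (Sylow p G)} {F : Finset (Set (Sylow p G))}
    (hA : Closed A) (hF : Good A F) {P : Sylow p G} (hP : P ∈ A) :
    ∀ (N : ℕ) (c : Set (Sylow p G) → ℕ), ∑ T ∈ F, c T ≤ N →
      (∀ g ∈ KA A, ∀ T ∈ F, c (g • T) = c T) → (F.filter (fun T => 0 < c T)).card ≤ n →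
      0 ≤ ∑ T ∈ F, (c T : ℤ) * gg P T := by
  intro N
  induction N with
  | zero =>
    intro c hc _ _
    refine le_of_eq (Eq.symm (Finset.sum_eq_zero fun T hT => ?_))
    have h1 : c T = 0 := by
      have := Finset.single_le_sum (f := c) (fun T _ => Nat.zero_le _) hT
      omega
    rw [h1]; simp
  | succ N ih =>
    intro c hc hinv hcard
    by_cases h0 : ∀ T ∈ F, c T = 0
    · refine le_of_eq (Eq.symm (Finset.sum_eq_zero fun T hT => ?_))
      rw [h0 T hT]; simp
    push Not at h0
    obtain ⟨T0, hT0, hc0⟩ := h0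
    set S := F.filter (fun T => 0 < c T) with hS
    have hSgood : Good A S := hF.filter _ (fun g hg T hT hq => by rw [hinv g hg T hT]; exact hq)
    have h1 : 0 ≤ EE P S := h.nonneg hcard hA hSgood hP
    set c' : Set (Sylow p G) → ℕ := fun T => c T - 1 with hc'
    have h2 : ∑ T ∈ F, (c T : ℤ) * gg P T = EE P S + ∑ T ∈ F, (c' T : ℤ) * gg P T := by
      unfold EE
      rw [hS, Finset.sum_filter, ← Finset.sum_add_distrib]
      refine Finset.sum_congr rfl fun T _ => ?_
      by_cases hT : 0 < c T
      · rw [if_pos hT]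
        have : (c T : ℤ) = (c' T : ℤ) + 1 := by
          simp only [hc']; omega
        rw [this]; ring
      · rw [if_neg hT]
        have h3 : c T = 0 := by omega
        simp [hc', h3]
    rw [h2]
    refine add_nonneg h1 (ih c' ?_ ?_ ?_)
    · have h3 : ∑ T ∈ F, c' T < ∑ T ∈ F, c T := by
        refine Finset.sum_lt_sum (fun T _ => Nat.sub_le _ _) ⟨T0, hT0, ?_⟩
        simp only [hc']; omega
      omega
    · intro g hg T hT
      simp only [hc', hinv g hg T hT]
    · refine le_trans (Finset.card_le_card ?_) hcard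
      intro T hT
      rw [Finset.mem_filter] at hT ⊢
      refine ⟨hT.1, ?_⟩
      have := hT.2
      simp only [hc'] at this
      omega

/-- the reduced case -/
theorem Main.reduced {n : ℕ} (h : Main G p n) {A : Set (Sylow p G)} {F B : Finset (Set (Sylow p G))}
    (hn : F.card ≤ n + 1) (hF : Good A F) (hFA : ∀ T ∈ F, T ⊆ A)
    (hanti : ∀ T ∈ F, ∀ T' ∈ F, T ⊆ T' → T = T') (hBF : B ⊆ F)
    (hB : ∀ P ∈ A, ∃ T ∈ B, P ∉ T) {P : Sylow p G} (hP : P ∈ A) :
    (p : ℤ) * ((p : ℤ) - B.card) ≤ EE P F := by
  classical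
  obtain ⟨T0, hT0B, -⟩ := hB P hP
  have hT0F := hBF hT0B
  obtain ⟨P0, hP0⟩ := hF.nonempty T0 hT0F
  have hP0A : P0 ∈ A := hFA T0 hT0F hP0
  rw [EE_const hF.inv hP hP0A]
  have hcl0 := hF.closed T0 hT0F
  have hKle : KA T0 ≤ KA A := KA_mono (hFA T0 hT0F)
  have hgood : Good T0 (F.erase T0) :=
    { closed := fun T hT => hF.closed T (Finset.mem_of_mem_erase hT)
      nonempty := fun T hT => hF.nonempty T (Finset.mem_of_mem_erase hT)
      notle := fun T hT hle =>
        Finset.ne_of_mem_erase hT (hanti T0 hT0F T (Finset.mem_of_mem_erase hT) hle).symm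
      inv := by
        intro g hg T hT
        refine Finset.mem_erase.2 ⟨?_, hF.inv g (hKle hg) T (Finset.mem_of_mem_erase hT)⟩
        intro heq
        apply Finset.ne_of_mem_erase hT
        have h1 : g • T = g • T0 := by rw [heq, hcl0.smul_eq hg]
        exact smul_left_cancel g h1 }
  have h1 := h T0 (F.erase T0) (B.erase T0) (by
      have := Finset.card_erase_of_mem hT0F
      omega) hcl0 hgood (Finset.erase_subset_erase _ hBF) (by
      intro R hR
      obtain ⟨T, hTB, hRT⟩ := hB R (hFA T0 hT0F hR)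
      exact ⟨T, Finset.mem_erase.2 ⟨fun h' => hRT (h' ▸ hR), hTB⟩, hRT⟩) P0 hP0
  have h2 : EE P0 F = gg P0 T0 + EE P0 (F.erase T0) := by
    unfold EE
    rw [Finset.add_sum_erase _ _ hT0F]
  have h3 : gg P0 T0 = -(p : ℤ) := by
    unfold gg
    rw [if_pos hP0]; ring
  have h4 : ((B.erase T0).card : ℤ) = B.card - 1 := by
    rw [Finset.card_erase_of_mem hT0B]
    have : 0 < B.card := Finset.card_pos.2 ⟨T0, hT0B⟩
    omega
  rw [h2, h3]
  rw [h4] at h1
  linarith [h1]

theorem smul_inter_A {A T : Set (Sylow p G)} (hA : Closed A) {g : G} (hg : g ∈ KA A) :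
    g • (T ∩ A) = g • T ∩ A := by
  rw [Set.smul_set_inter, hA.smul_eq hg]

theorem main_all (n : ℕ) : Main G p n := by
  classical
  have hp : p.Prime := Fact.out
  have hp2 : (2 : ℤ) ≤ p := by exact_mod_cast hp.two_le
  induction n with
  | zero =>
    intro A F B hn _ _ hBF hB P hP
    obtain ⟨T, hT, -⟩ := hB P hP
    have h1 : 0 < F.card := Finset.card_pos.2 ⟨T, hBF hT⟩
    omega
  | succ n ih =>
    intro A F B hn hA hF hBF hB P hP
    obtain ⟨T1, hT1B, -⟩ := hB P hP
    have hBpos : (1 : ℤ) ≤ B.card := by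
      have : 0 < B.card := Finset.card_pos.2 ⟨T1, hT1B⟩
      exact_mod_cast this
    by_cases hcase : ∃ T ∈ B, T ∩ A = ∅
    · obtain ⟨T, hTB, hTA⟩ := hcase
      set Z := F.filter (fun T => T ∩ A = ∅) with hZ
      have hsplit : EE P F = EE P Z + EE P (F.filter (fun T => ¬ T ∩ A = ∅)) := by
        unfold EE
        rw [hZ, Finset.sum_filter_add_sum_filter_not]
      have hgood : Good A (F.filter (fun T => ¬ T ∩ A = ∅)) := by
        refine hF.filter _ fun g hg T hT hq => ?_
        rw [← smul_inter_A hA hg]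
        intro h0
        exact hq (Set.smul_set_eq_empty.1 h0)
      have hTZ : T ∈ Z := Finset.mem_filter.2 ⟨hBF hTB, hTA⟩
      have hcards : Z.card + (F.filter (fun T => ¬ T ∩ A = ∅)).card = F.card :=
        Finset.card_filter_add_card_filter_not _
      have hZpos : 0 < Z.card := Finset.card_pos.2 ⟨T, hTZ⟩
      have h1 : 0 ≤ EE P (F.filter (fun T => ¬ T ∩ A = ∅)) :=
        ih.nonneg (by omega) hA hgood hP
      have hPZ : ∀ U ∈ Z, P ∉ U := by
        intro U hU hPU
        have := (Finset.mem_filter.1 hU).2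
        have h2 : P ∈ U ∩ A := ⟨hPU, hP⟩
        rw [this] at h2
        exact h2
      have h2 : EE P Z = ((p : ℤ) - 1) * Z.card := by
        unfold EE
        rw [Finset.sum_congr rfl (g := fun _ => (p : ℤ) - 1), Finset.sum_const, nsmul_eq_mul,
          mul_comm]
        intro U hU
        unfold gg
        rw [if_neg (hPZ U hU)]; ring
      have h3 : p ∣ Z.card := by
        let S : SubMulAction (P : Subgroup G) (Set (Sylow p G)) :=
          { carrier := {U | U ∈ Z}
            smul_mem' := by
              intro c U hU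
              have hU' := Finset.mem_filter.1 hU
              have hc : (c : G) ∈ KA A := le_KA hP c.2
              refine Finset.mem_filter.2 ⟨hF.inv c hc U hU'.1, ?_⟩
              have h4 : (c • U) ∩ A = (c : G) • (U ∩ A) := (smul_inter_A hA hc).symm
              rw [h4, hU'.2, Set.smul_set_empty] }
        have h4 := (P.2).card_modEq_card_fixedPoints S
        have h5 : Nat.card (fixedPoints (P : Subgroup G) S) = 0 := by
          haveI : IsEmpty (fixedPoints (P : Subgroup G) S) := by
            constructor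
            intro a
            have hU : ((a : S) : Set (Sylow p G)) ∈ Z := (a : S).2
            have hU' := Finset.mem_filter.1 hU
            apply hPZ _ hU
            apply mem_of_stab (hF.closed _ hU'.1) (hF.nonempty _ hU'.1)
            intro x hx
            exact congrArg Subtype.val (a.2 ⟨x, hx⟩)
          exact Nat.card_of_isEmpty
        rw [h5] at h4
        have h6 : Nat.card S = Z.card := by
          have : Nat.card S = Nat.card Z := rfl
          rw [this, Nat.card_eq_fintype_card, Fintype.card_coe]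
        rw [h6] at h4
        exact (Nat.modEq_zero_iff_dvd).1 h4
      have h7 : (p : ℤ) ≤ Z.card := by exact_mod_cast Nat.le_of_dvd hZpos h3
      rw [hsplit, h2]
      have h8 : ((p : ℤ) - 1) * p ≤ ((p : ℤ) - 1) * Z.card :=
        mul_le_mul_of_nonneg_left h7 (by linarith)
      have h9 : (p : ℤ) * 1 ≤ (p : ℤ) * B.card := mul_le_mul_of_nonneg_left hBpos (by linarith)
      nlinarith [h8, h9, h1]
    · push Not at hcase
      -- the traces
      set M : Finset (Set (Sylow p G)) := (F.image (fun T => T ∩ A)).filter (fun T => T.Nonempty)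
        with hM
      have hMmem : ∀ {U}, U ∈ M ↔ (∃ T ∈ F, T ∩ A = U) ∧ U.Nonempty := by
        intro U
        rw [hM, Finset.mem_filter, Finset.mem_image]
      have hMinv : ∀ g ∈ KA A, ∀ U ∈ M, g • U ∈ M := by
        intro g hg U hU
        obtain ⟨⟨T, hT, rfl⟩, hne⟩ := hMmem.1 hU
        exact hMmem.2 ⟨⟨g • T, hF.inv g hg T hT, (smul_inter_A hA hg).symm⟩, hne.smul_set⟩
      have hex : ∀ T : Set (Sylow p G), T ∈ B → ∃ m, m ≤ T ∩ A ∧ Minimal (· ∈ M) m := by
        intro T hT
        exact M.exists_le_minimal (hMmem.2 ⟨⟨T, hBF hT, rfl⟩, hcase T hT⟩)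
      choose! m hm1 hm2 using hex
      set B1 := B.image m with hB1
      set O := M.filter (fun U => ∃ k ∈ KA A, ∃ T ∈ B, U = k • m T) with hO
      have hOM : O ⊆ M := Finset.filter_subset _ _
      have hOinv : ∀ g ∈ KA A, ∀ U ∈ O, g • U ∈ O := by
        intro g hg U hU
        obtain ⟨hUM, k, hk, T, hT, rfl⟩ := Finset.mem_filter.1 hU
        refine Finset.mem_filter.2 ⟨hMinv g hg _ hUM, g * k, mul_mem hg hk, T, hT, ?_⟩
        rw [smul_smul]
      have hOmin : ∀ U ∈ O, ∀ V ∈ M, V ⊆ U → V = U := by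
        intro U hU V hV hVU
        obtain ⟨hUM, k, hk, T, hT, rfl⟩ := Finset.mem_filter.1 hU
        have h1 : k⁻¹ • V ⊆ m T := by
          rw [Set.smul_set_subset_iff_subset_inv_smul_set, inv_inv]
          exact hVU
        have h2 : m T ⊆ k⁻¹ • V := (hm2 T hT).2 (hMinv _ (inv_mem hk) V hV) h1
        have h3 : k⁻¹ • V = m T := Set.Subset.antisymm h1 h2
        rw [← h3, smul_inv_smul]
      have hOgood : Good A O :=
        { closed := by
            intro U hU
            obtain ⟨⟨T, hT, rfl⟩, -⟩ := hMmem.1 (hOM hU)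
            exact closed_inter (hF.closed T hT) hA
          nonempty := fun U hU => (hMmem.1 (hOM hU)).2
          notle := by
            intro U hU hAU
            obtain ⟨⟨T, hT, rfl⟩, -⟩ := hMmem.1 (hOM hU)
            exact hF.notle T hT (hAU.trans Set.inter_subset_left)
          inv := hOinv }
      have hOA : ∀ U ∈ O, U ⊆ A := by
        intro U hU
        obtain ⟨⟨T, hT, rfl⟩, -⟩ := hMmem.1 (hOM hU)
        exact Set.inter_subset_right
      have hB1O : B1 ⊆ O := by
        intro U hU
        obtain ⟨T, hT, rfl⟩ := Finset.mem_image.1 hU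
        exact Finset.mem_filter.2 ⟨(hm2 T hT).1, 1, one_mem _, T, hT, (one_smul _ _).symm⟩
      have hOne : O.Nonempty := ⟨m T1, hB1O (Finset.mem_image_of_mem m hT1B)⟩
      -- splitting of the family
      set F' := F.filter (fun T => T ∩ A ∈ O) with hF'
      have hsplit : EE P F = EE P F' + EE P (F.filter (fun T => ¬ T ∩ A ∈ O)) := by
        unfold EE
        rw [hF', Finset.sum_filter_add_sum_filter_not]
      have hcards : F'.card + (F.filter (fun T => ¬ T ∩ A ∈ O)).card = F.card :=
        Finset.card_filter_add_card_filter_not _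
      set b : Set (Sylow p G) → ℕ := fun U => (F'.filter (fun T => T ∩ A = U)).card with hb
      have hbpos : ∀ U ∈ O, 1 ≤ b U := by
        intro U hU
        obtain ⟨⟨T, hT, rfl⟩, -⟩ := hMmem.1 (hOM hU)
        exact Finset.card_pos.2 ⟨T, Finset.mem_filter.2 ⟨Finset.mem_filter.2 ⟨hT, hU⟩, rfl⟩⟩
      have hmaps : ∀ T ∈ F', T ∩ A ∈ O := fun T hT => (Finset.mem_filter.1 hT).2
      have hbsum : ∑ U ∈ O, b U = F'.card := (Finset.card_eq_sum_card_fiberwise hmaps).symm
      have hEsum : EE P F' = ∑ U ∈ O, (b U : ℤ) * gg P U := by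
        unfold EE
        rw [← Finset.sum_fiberwise_of_maps_to hmaps]
        refine Finset.sum_congr rfl fun U _ => ?_
        rw [Finset.sum_congr rfl (g := fun _ => gg P U), Finset.sum_const, nsmul_eq_mul]
        intro T hT
        have hTU := (Finset.mem_filter.1 hT).2
        have hiff : P ∈ T ↔ P ∈ U := by
          rw [← hTU]
          exact ⟨fun h => ⟨h, hP⟩, fun h => h.1⟩
        unfold gg
        by_cases hPT : P ∈ T
        · rw [if_pos hPT, if_pos (hiff.1 hPT)]
        · rw [if_neg hPT, if_neg (fun h => hPT (hiff.2 h))]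
      have hF'pos : 1 ≤ F'.card := by
        obtain ⟨U, hU⟩ := hOne
        have h1 := hbpos U hU
        have h2 : b U ≤ F'.card := Finset.card_le_card (Finset.filter_subset _ _)
        omega
      have hgood2 : Good A (F.filter (fun T => ¬ T ∩ A ∈ O)) := by
        refine hF.filter _ fun g hg T hT hq => ?_
        rw [← smul_inter_A hA hg]
        intro h0
        apply hq
        have := hOinv g⁻¹ (inv_mem hg) _ h0
        rwa [inv_smul_smul] at this
      have h1 : 0 ≤ EE P (F.filter (fun T => ¬ T ∩ A ∈ O)) :=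
        ih.nonneg (by omega) hA hgood2 hP
      have hOcard : O.card ≤ F'.card := by
        rw [← hbsum, Finset.card_eq_sum_ones]
        exact Finset.sum_le_sum hbpos
      -- weights
      set c : Set (Sylow p G) → ℕ := fun U => b U - 1 with hc
      have hcinv : ∀ g ∈ KA A, ∀ U ∈ O, c (g • U) = c U := by
        intro g hg U _
        have : b (g • U) = b U := by
          refine Finset.card_nbij' (fun T => g⁻¹ • T) (fun T => g • T) ?_ ?_ ?_ ?_
          · intro T hT
            simp only [Finset.coe_filter, Set.mem_setOf_eq, Finset.mem_filter, hF'] at hT ⊢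
            have h5 : g⁻¹ • T ∩ A = U := by
              rw [← smul_inter_A hA (inv_mem hg), hT.2, inv_smul_smul]
            refine ⟨⟨hF.inv _ (inv_mem hg) T hT.1.1, ?_⟩, h5⟩
            rw [← smul_inter_A hA (inv_mem hg)]
            exact hOinv _ (inv_mem hg) _ hT.1.2
          · intro T hT
            simp only [Finset.coe_filter, Set.mem_setOf_eq, Finset.mem_filter, hF'] at hT ⊢
            have h5 : g • T ∩ A = g • U := by
              rw [← smul_inter_A hA hg, hT.2]
            refine ⟨⟨hF.inv _ hg T hT.1.1, ?_⟩, h5⟩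
            rw [← smul_inter_A hA hg]
            exact hOinv _ hg _ hT.1.2
          · intro T _
            exact smul_inv_smul g T
          · intro T _
            exact inv_smul_smul g T
        simp only [hc, this]
      have hsupp : (O.filter (fun U => 0 < c U)).card ≤ n := by
        have h5 : O.card + (O.filter (fun U => 0 < c U)).card ≤ ∑ U ∈ O, b U := by
          rw [Finset.card_eq_sum_ones O, Finset.card_filter, ← Finset.sum_add_distrib]
          refine Finset.sum_le_sum fun U hU => ?_
          have h6 := hbpos U hU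
          by_cases h7 : 0 < c U
          · rw [if_pos h7]
            simp only [hc] at h7
            omega
          · rw [if_neg h7]
            omega
        have h6 : 0 < O.card := Finset.card_pos.2 hOne
        omega
      have h2 : 0 ≤ ∑ U ∈ O, (c U : ℤ) * gg P U :=
        ih.weighted hA hOgood hP _ c le_rfl hcinv hsupp
      have h3 : EE P F' = EE P O + ∑ U ∈ O, (c U : ℤ) * gg P U := by
        rw [hEsum]
        unfold EE
        rw [← Finset.sum_add_distrib]
        refine Finset.sum_congr rfl fun U hU => ?_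
        have h6 := hbpos U hU
        have h7 : (b U : ℤ) = (c U : ℤ) + 1 := by
          simp only [hc]; omega
        rw [h7]; ring
      have h4 : (p : ℤ) * ((p : ℤ) - B1.card) ≤ EE P O := by
        refine ih.reduced (by omega) hOgood hOA ?_ hB1O ?_ hP
        · intro T hT T' hT' hle
          exact hOmin T' hT' T (hOM hT) hle
        · intro R hR
          obtain ⟨T, hTB, hRT⟩ := hB R hR
          exact ⟨m T, Finset.mem_image_of_mem m hTB, fun h => hRT (hm1 T hTB h).1⟩
      have h5 : (B1.card : ℤ) ≤ B.card := by exact_mod_cast Finset.card_image_le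
      have h6 : (p : ℤ) * ((p : ℤ) - B.card) ≤ (p : ℤ) * ((p : ℤ) - B1.card) :=
        mul_le_mul_of_nonneg_left (by linarith) (by linarith)
      rw [hsplit, h3]
      linarith

/-- `2p-1` times the number of Sylow `p`-subgroups contained in a subgroup `H` which contains one but
not all Sylow `p`-subgroups is at most `p-1` times the number of all Sylow `p`-subgroups -/
theorem card_le (H : Subgroup G) (hne : ∃ P : Sylow p G, (P : Subgroup G) ≤ H)
    (hnot : ¬ ∀ P : Sylow p G, (P : Subgroup G) ≤ H) :
    (2 * p - 1) * Nat.card {P : Sylow p G // (P : Subgroup G) ≤ H} ≤ (p - 1) * Nat.card (Sylow p G) := by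
  classical
  have hp : p.Prime := Fact.out
  set S : Set (Sylow p G) := {P | (P : Subgroup G) ≤ H} with hS
  have hScl : Closed S := by
    intro P hP x hx
    have hxH : x ∈ H := hP hx
    ext R
    rw [Set.mem_smul_set_iff_inv_smul_mem]
    constructor
    · intro h
      have h1 := Sylow.smul_le h ⟨x, hxH⟩
      have h2 : ((⟨x, hxH⟩ : H) • (x⁻¹ • R) : Sylow p G) = R := smul_inv_smul x R
      rw [h2] at h1
      exact h1
    · intro h
      exact Sylow.smul_le h (⟨x⁻¹, inv_mem hxH⟩ : H)
  have hfin : (orbit G S).Finite := Set.toFinite _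
  set F := hfin.toFinset with hF
  have hFmem : ∀ {T}, T ∈ F ↔ ∃ g : G, g • S = T := by
    intro T
    rw [hF, Set.Finite.mem_toFinset]
    exact Iff.rfl
  have hSne : S.Nonempty := hne
  have hSu : ¬ (Set.univ : Set (Sylow p G)) ⊆ S := fun h => hnot fun P => h (Set.mem_univ P)
  have hgood : Good (Set.univ : Set (Sylow p G)) F :=
    { closed := by
        intro T hT
        obtain ⟨g, rfl⟩ := hFmem.1 hT
        exact closed_smul hScl g
      nonempty := by
        intro T hT
        obtain ⟨g, rfl⟩ := hFmem.1 hT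
        exact hSne.smul_set
      notle := by
        intro T hT hle
        obtain ⟨g, rfl⟩ := hFmem.1 hT
        apply hSu
        intro P _
        have := hle (Set.mem_univ (g • P))
        rwa [Set.smul_mem_smul_set_iff] at this
      inv := by
        intro g _ T hT
        obtain ⟨k, rfl⟩ := hFmem.1 hT
        exact hFmem.2 ⟨g * k, by rw [smul_smul]⟩ }
  have huniv : Closed (Set.univ : Set (Sylow p G)) := by
    intro P _ x _
    exact Set.smul_set_univ
  have hE : ∀ P : Sylow p G, 0 ≤ EE P F := fun P =>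
    (main_all F.card).nonneg le_rfl huniv hgood (Set.mem_univ P)
  haveI : Fintype (Sylow p G) := Fintype.ofFinite _
  have h1 : 0 ≤ ∑ P : Sylow p G, EE P F := Finset.sum_nonneg fun P _ => hE P
  have h2 : ∑ P : Sylow p G, EE P F =
      F.card * (((p : ℤ) - 1) * Nat.card (Sylow p G) - (2 * (p : ℤ) - 1) * Nat.card S) := by
    unfold EE
    rw [Finset.sum_comm, Finset.sum_congr rfl (g := fun _ =>
      (((p : ℤ) - 1) * Nat.card (Sylow p G) - (2 * (p : ℤ) - 1) * Nat.card S)), Finset.sum_const,
      nsmul_eq_mul]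
    intro T hT
    obtain ⟨g, rfl⟩ := hFmem.1 hT
    unfold gg
    rw [Finset.sum_sub_distrib, Finset.sum_const, ← Finset.mul_sum, Finset.sum_boole,
      Finset.card_univ, ← Nat.card_eq_fintype_card, nsmul_eq_mul, mul_comm]
    congr 2
    have h3 : (Finset.univ.filter (fun P : Sylow p G => P ∈ g • S)).card = Nat.card ↥(g • S) := by
      rw [Nat.card_eq_fintype_card, Fintype.card_subtype]
    have h4 : Nat.card ↥(g • S) = Nat.card S :=
      Nat.card_congr ((MulAction.toPerm g).image S).symm
    rw [h3, h4]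
  rw [h2] at h1
  have hFpos : (0 : ℤ) < F.card := by
    have : 0 < F.card := Finset.card_pos.2 ⟨S, hFmem.2 ⟨1, one_smul _ _⟩⟩
    exact_mod_cast this
  have h3 := nonneg_of_mul_nonneg_right h1 hFpos
  have h4 : Nat.card {P : Sylow p G // (P : Subgroup G) ≤ H} = Nat.card S := rfl
  rw [h4]
  have h5 : (((2 * p - 1 : ℕ) : ℤ)) = 2 * (p : ℤ) - 1 := by
    have := hp.pos
    omega
  have h6 : (((p - 1 : ℕ) : ℤ)) = (p : ℤ) - 1 := by
    have := hp.pos
    omega
  zify
  rw [h5, h6]
  linarith

end Cfsg.Agent.Lib.H64SylFix
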