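import Cfsg.Agent.Lib.H64SylFix

/-!
Overgroups of Sylow subgroups: a `p`-element normalizing a subgroup which contains a Sylow
`p`-subgroup lies in it.
-/
set_option autoImplicit false

namespace Cfsg.Agent.Lib.H64SylFix

open scoped Pointwise
open MulAction

variable {G : Type*} [Group G] {p : ℕ} [Finite G] [Fact p.Prime]

theorem closed_le (H : Subgroup G) : Closed {P : Sylow p G | (P : Subgroup G) ≤ H} := by
  intro P hP x hx
  have hxH : x ∈ H := hP hx
  ext R
  rw [Set.mem_smul_set_iff_inv_smul_mem]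
  constructor
  · intro h
    have h1 := Sylow.smul_le h ⟨x, hxH⟩
    have h2 : ((⟨x, hxH⟩ : H) • (x⁻¹ • R) : Sylow p G) = R := smul_inv_smul x R
    rw [h2] at h1
    exact h1
  · intro h
    exact Sylow.smul_le h (⟨x⁻¹, inv_mem hxH⟩ : H)

/-- a `p`-subgroup normalizing a subgroup which contains a Sylow `p`-subgroup lies in it -/
theorem le_of_normalizes (H Q : Subgroup G) (hH : ∃ P : Sylow p G, (P : Subgroup G) ≤ H)
    (hQ : IsPGroup p Q) (hn : ∀ x ∈ Q, ∀ h ∈ H, x * h * x⁻¹ ∈ H) : Q ≤ H := by
  have key : ∀ x ∈ Q, ∀ R : Sylow p G, (R : Subgroup G) ≤ H → ((x • R : Sylow p G) : Subgroup G) ≤ H := by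
    intro x hx R hR y hy
    have h1 : y ∈ MulAut.conj x • (R : Subgroup G) := hy
    obtain ⟨r, hr, rfl⟩ := h1
    exact hn x hx r (hR hr)
  obtain ⟨R, hR, hle⟩ := exists_le_of_stab (closed_le (p := p) H) hH hQ (by
    intro x hx
    ext R
    rw [Set.mem_smul_set_iff_inv_smul_mem]
    constructor
    · intro h
      have h1 := key x hx _ h
      rw [smul_inv_smul] at h1
      exact h1
    · intro h
      exact key x⁻¹ (Q.inv_mem hx) R h)
  exact hle.trans hR

/-- a subgroup of index prime to `p` contains a Sylow `p`-subgroup -/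
theorem exists_sylow_le (H : Subgroup G) (h : ¬ p ∣ H.index) : ∃ P : Sylow p G, (P : Subgroup G) ≤ H := by
  have hp : p.Prime := Fact.out
  obtain ⟨Q⟩ : Nonempty (Sylow p H) := inferInstance
  have h1 : Nat.card ((Q : Subgroup H).map H.subtype) = p ^ (Nat.card G).factorization p := by
    rw [Subgroup.card_map_of_injective H.subtype_injective, Q.card_eq_multiplicity]
    congr 1
    rw [← Subgroup.card_mul_index H, Nat.factorization_mul Nat.card_pos.ne'
      (Nat.pos_of_ne_zero Subgroup.index_ne_zero_of_finite).ne', Finsupp.add_apply,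
      Nat.factorization_eq_zero_of_not_dvd h, add_zero]
  refine ⟨Sylow.ofCard _ h1, ?_⟩
  exact Subgroup.map_subtype_le _

end Cfsg.Agent.Lib.H64SylFix
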