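import Cfsg.Agent.Lib.SSF2Main
import Cfsg.Agent.Lib.Balance
import Cfsg.Agent.S0205
import Cfsg.Agent.Lib.H55Invol
import Cfsg.Agent.Lib.ThompsonJ

/-!
# Signalizer functors for the prime 2 are complete; the functor `O(C_G(a))` of a balanced group (helper46)
-/

set_option autoImplicit false
set_option linter.unusedSectionVars false

namespace Cfsg.Agent.Lib.SSF2

open Subgroup Cfsg
open Cfsg.Agent.Lib.LocBase (le_normalizer_inf)
open Cfsg.Agent.Lib.Signalizer Cfsg.Agent.Lib.CoprimeHyper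
open Cfsg.Agent.Lib.Balance (cpc_le cpc_normalizer cpc_not_dvd cpc_conj)
open scoped commutatorElement Pointwise

universe u

variable {G : Type u} [Group G] [Finite G]

attribute [local instance] fact2

/-- **signalizer functors for the prime 2 are complete (strong form)** -/
theorem functor_two {A : Subgroup G} {θ : G → Subgroup G}
    (hA : IsElementaryAbelian 2 A) (hA3 : 2 ^ 3 ≤ Nat.card A) (hθ : IsSignalizerFunctor 2 A θ) :
    ∃ W ∈ signalizerFamily 2 A θ, ∀ a ∈ A, a ≠ 1 → θ a ≤ W := by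
  apply solvable_two hA hA3
  refine ⟨hθ, ?_⟩
  intro a ha ha1
  exact Cfsg.Agent.S0205.result (odd_of_not_dvd (hθ.2.1 a ha ha1))

theorem complete_of_family {p : ℕ} {A : Subgroup G} {θ : G → Subgroup G} (hθ : IsSignalizerFunctor p A θ)
    (h : ∃ W ∈ signalizerFamily p A θ, ∀ a ∈ A, a ≠ 1 → θ a ≤ W) : IsCompleteSignalizerFunctor p A θ := by
  obtain ⟨W, hW, hWa⟩ := h
  refine ⟨hθ, W, hW.2.2.1, hW.2.1, ?_⟩
  intro a ha ha1
  exact le_antisymm (hW.2.2.2 a ha ha1) (le_inf (hWa a ha ha1) (hθ.1 a ha ha1))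

theorem complete_two {A : Subgroup G} {θ : G → Subgroup G}
    (hA : IsElementaryAbelian 2 A) (hA3 : 2 ^ 3 ≤ Nat.card A) (hθ : IsSignalizerFunctor 2 A θ) :
    IsCompleteSignalizerFunctor 2 A θ :=
  complete_of_family hθ (functor_two hA hA3 hθ)

/-- the closure of the functor `O(C_G(a))` -/
def Wof (A : Subgroup G) : Subgroup G := ⨆ a : {a : G // a ∈ A ∧ a ≠ 1}, centralizerPPrimeCore 2 (a : G)

theorem le_Wof {A : Subgroup G} {a : G} (ha : a ∈ A) (ha1 : a ≠ 1) : centralizerPPrimeCore 2 a ≤ Wof A :=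
  le_iSup (fun a : {a : G // a ∈ A ∧ a ≠ 1} => centralizerPPrimeCore 2 (a : G)) ⟨a, ha, ha1⟩

theorem Wof_mono {A B : Subgroup G} (h : A ≤ B) : Wof A ≤ Wof B :=
  iSup_le fun ⟨_, ha, ha1⟩ => le_Wof (h ha) ha1

/-- `W_{A^g} = W_A^g` -/
theorem Wof_conj (A : Subgroup G) (g : G) :
    Wof (A.map (MulAut.conj g).toMonoidHom) = (Wof A).map (MulAut.conj g).toMonoidHom := by
  apply le_antisymm
  · apply iSup_le
    rintro ⟨_, ⟨a, ha, rfl⟩, ha1⟩
    change centralizerPPrimeCore 2 (g * a * g⁻¹) ≤ _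
    rw [cpc_conj]
    apply Subgroup.map_mono
    apply le_Wof ha
    rintro rfl
    apply ha1
    rw [map_one]
  · unfold Wof
    rw [Subgroup.map_iSup]
    apply iSup_le
    rintro ⟨a, ha, ha1⟩
    change (centralizerPPrimeCore 2 a).map (MulAut.conj g).toMonoidHom ≤ _
    rw [← cpc_conj]
    apply le_Wof (A := A.map (MulAut.conj g).toMonoidHom) ⟨a, ha, rfl⟩
    intro h1
    apply ha1
    have h1' : g * a * g⁻¹ = 1 := h1
    have h2 : a = g⁻¹ * (g * a * g⁻¹) * g := by group
    rw [h2, h1']; group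

theorem normalizer_le_normalizer_Wof (A : Subgroup G) :
    normalizer (A : Set G) ≤ normalizer (Wof A : Set G) := by
  intro g hg
  rw [mem_normalizer_iff_map_conj_eq]
  change (Wof A).map (MulAut.conj g).toMonoidHom = Wof A
  rw [← Wof_conj, LocBase.map_conj_eq_of_mem hg]

/-- balance for the involutions of `G` -/
def Bal2 (G : Type u) [Group G] : Prop :=
  ∀ x y : G, orderOf x = 2 → orderOf y = 2 → x * y = y * x →
    centralizerPPrimeCore 2 x ⊓ centralizer ({y} : Set G) ≤ centralizerPPrimeCore 2 y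

theorem bal2_of_isBalanced (h : IsBalanced G) : Bal2 G := by
  intro x y hx hy hxy
  rw [h x y hx hy hxy]
  exact inf_le_left

theorem elem_orderOf {A : Subgroup G} (hA : IsElementaryAbelian 2 A) {a : G} (ha : a ∈ A) (ha1 : a ≠ 1) :
    orderOf a = 2 := orderOf_eq_of_ne_one hA ha ha1

theorem functor_of_bal (hb : Bal2 G) {A : Subgroup G} (hA : IsElementaryAbelian 2 A) :
    IsSignalizerFunctor 2 A (centralizerPPrimeCore 2) := by
  refine ⟨fun a _ _ => cpc_le a, fun a _ _ => cpc_not_dvd a, ?_, ?_⟩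
  · intro a ha ha1 b hb x hx
    have hbc : b ∈ centralizer ({a} : Set G) := by
      rw [mem_centralizer_singleton_iff]
      exact elemAb_comm hA hb ha
    exact conj_mem_of_mem_normalizer (cpc_normalizer a hbc) x hx
  · intro a ha ha1 b hb' hb1
    exact hb a b (elem_orderOf hA ha ha1) (elem_orderOf hA hb' hb1) (elemAb_comm hA ha hb')

/-- completeness of `a ↦ O(C_G(a))` -/
theorem Wof_mem (hb : Bal2 G) {A : Subgroup G} (hA : IsElementaryAbelian 2 A) (hA3 : 2 ^ 3 ≤ Nat.card A) :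
    Wof A ∈ signalizerFamily 2 A (centralizerPPrimeCore 2) := by
  obtain ⟨W, hW, hWa⟩ := functor_two hA hA3 (functor_of_bal hb hA)
  have h1 : W = Wof A := by
    apply le_antisymm
    · refine gen hA (by omega) hW.2.1 (fam_normalizer hW) ?_
      intro b hb hb1
      exact (hW.2.2.2 b hb hb1).trans (le_Wof hb hb1)
    · exact iSup_le fun ⟨b, hb, hb1⟩ => hWa b hb hb1
  rw [← h1]; exact hW

theorem Wof_inf (hb : Bal2 G) {A : Subgroup G} (hA : IsElementaryAbelian 2 A) (hA3 : 2 ^ 3 ≤ Nat.card A)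
    {a : G} (ha : a ∈ A) (ha1 : a ≠ 1) :
    Wof A ⊓ centralizer ({a} : Set G) = centralizerPPrimeCore 2 a :=
  le_antisymm ((Wof_mem hb hA hA3).2.2.2 a ha ha1) (le_inf (le_Wof ha ha1) (cpc_le a))

/-- `W_A = W_F` for `F ≤ A` noncyclic -/
theorem Wof_eq_of_le (hb : Bal2 G) {A F : Subgroup G} (hA : IsElementaryAbelian 2 A) (hA3 : 2 ^ 3 ≤ Nat.card A)
    (hFA : F ≤ A) (hF : 2 < Nat.card F) : Wof A = Wof F := by
  apply le_antisymm
  · have hW := Wof_mem hb hA hA3
    refine gen (elemAb_mono hA hFA) hF hW.2.1 (hFA.trans (fam_normalizer hW)) ?_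
    intro f hf hf1
    exact (hW.2.2.2 f (hFA hf) hf1).trans (le_Wof hf hf1)
  · exact Wof_mono hFA

theorem odd_Wof (hb : Bal2 G) {A : Subgroup G} (hA : IsElementaryAbelian 2 A) (hA3 : 2 ^ 3 ≤ Nat.card A) :
    Odd (Nat.card (Wof A)) := odd_of_not_dvd (Wof_mem hb hA hA3).2.1

/-- In a balanced group, for a normal elementary abelian subgroup `A₁` of order at least 8 of a 2-group `S`:
`C_W(x) = O(C_G(x))` for every involution `x ∈ S`. -/
theorem Wof_inf_of_normal (hb : Bal2 G) {A S : Subgroup G} (hA : IsElementaryAbelian 2 A)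
    (hA3 : 2 ^ 3 ≤ Nat.card A) (hSA : S ≤ normalizer (A : Set G)) {x : G} (hx : x ∈ S) (hxo : orderOf x = 2) :
    Wof A ⊓ centralizer ({x} : Set G) = centralizerPPrimeCore 2 x := by
  have hx1 : x ≠ 1 := by
    rintro rfl
    rw [orderOf_one] at hxo
    omega
  by_cases hxA : x ∈ A
  · exact Wof_inf hb hA hA3 hxA hx1
  have hxx : x * x = 1 := by
    have := pow_orderOf_eq_one x
    rwa [hxo, pow_two] at this
  set F := A ⊓ centralizer ({x} : Set G) with hF
  have hFA : F ≤ A := inf_le_left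
  have hcard : Nat.card A ≤ (Nat.card F) ^ 2 := by
    apply H55Invol.card_le_sq_of_involution_action A (fun a ha b hb => elemAb_comm hA ha hb)
      (fun a ha => by have := hA.2 a ha; rwa [pow_two] at this) hxx
    exact conj_mem_of_mem_normalizer (hSA hx)
  have hF2 : 2 < Nat.card F := by
    by_contra hlt
    have h1 : Nat.card F ≤ 2 := by omega
    have h2 : (Nat.card F) ^ 2 ≤ 2 ^ 2 := Nat.pow_le_pow_left h1 2
    omega
  have hFe := elemAb_mono hA hFA
  have hxe : IsElementaryAbelian 2 (zpowers x) := elemAb_zpowers (by rw [pow_two]; exact hxx)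
  set E := F ⊔ zpowers x with hE
  have hFx : F ≤ centralizer (zpowers x : Set G) := by
    rw [← centralizer_singleton_eq]; exact inf_le_right
  have hEe : IsElementaryAbelian 2 E := ThompsonJ.elemAb_sup hFe hxe hFx
  have hxE : x ∈ E := (le_sup_right : zpowers x ≤ E) (mem_zpowers x)
  have hFE : F ≤ E := le_sup_left
  have hE3 : 2 ^ 3 ≤ Nat.card E := by
    obtain ⟨m, hm⟩ := IsPGroup.iff_card.mp (elemAb_isPGroup hFe)
    obtain ⟨n, hn⟩ := IsPGroup.iff_card.mp (elemAb_isPGroup hEe)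
    have hlt : Nat.card F < Nat.card E := by
      rcases (Subgroup.card_le_of_le hFE).lt_or_eq with h' | h'
      · exact h'
      · have := Subgroup.eq_of_le_of_card_ge hFE h'.ge
        exfalso
        rw [← this] at hxE
        exact hxA (hFA hxE)
    rw [hm, hn] at hlt
    rw [hm] at hF2
    have h1 : m < n := (Nat.pow_lt_pow_iff_right (by norm_num)).1 hlt
    have h2 : 1 < m := by
      by_contra h3
      have h4 : m ≤ 1 := by omega
      have h5 : 2 ^ m ≤ 2 ^ 1 := Nat.pow_le_pow_right (by norm_num) h4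
      omega
    rw [hn]
    exact Nat.pow_le_pow_right (by norm_num) (by omega)
  rw [Wof_eq_of_le hb hA hA3 hFA hF2, ← Wof_eq_of_le hb hEe hE3 hFE hF2]
  exact Wof_inf hb hEe hE3 hxE hx1

/-- and `W = ⟨O(C_G(u)) : u ∈ U#⟩` for every noncyclic elementary abelian `U ≤ S`. -/
theorem Wof_eq_of_normal (hb : Bal2 G) {A S : Subgroup G} (hA : IsElementaryAbelian 2 A)
    (hA3 : 2 ^ 3 ≤ Nat.card A) (hSA : S ≤ normalizer (A : Set G)) {U : Subgroup G} (hUS : U ≤ S)
    (hU : IsElementaryAbelian 2 U) (hU2 : 2 < Nat.card U) : Wof U = Wof A := by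
  apply le_antisymm
  · apply iSup_le
    rintro ⟨u, hu, hu1⟩
    rw [← Wof_inf_of_normal hb hA hA3 hSA (hUS hu) (elem_orderOf hU hu hu1)]
    exact inf_le_left
  · refine gen hU hU2 (Wof_mem hb hA hA3).2.1
      ((hUS.trans hSA).trans (normalizer_le_normalizer_Wof A)) ?_
    intro u hu hu1
    rw [Wof_inf_of_normal hb hA hA3 hSA (hUS hu) (elem_orderOf hU hu hu1)]
    exact le_Wof hu hu1

/-! ### 2-constrained 2-local subgroups -/

theorem bal2_of_constrained
    (h2c : ∀ x : G, orderOf x = 2 → IsPConstrained 2 ↥(centralizer ({x} : Set G))) : Bal2 G := by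
  intro x y hx hy hxy
  have hxp : IsPGroup 2 (zpowers x) := IsPGroup.of_card (n := 1) (by rw [Nat.card_zpowers, hx, pow_one])
  have hxC : zpowers x ≤ centralizer ({y} : Set G) := by
    rw [zpowers_le, mem_centralizer_singleton_iff]; exact hxy
  refine SigCon.le_oOf_of_le_oOf_centralizer (h2c y hy) hxp hxC inf_le_right ?_
  rw [← centralizer_singleton_eq]
  exact inf_le_left

/-- `O(C_G(b)) ≤ O(C_G(x))` for an involution `x ∈ ⟨b⟩` with 2-constrained centralizer -/
theorem cpc_le_of_mem {b x : G} (hb : IsPGroup 2 (zpowers b)) (hx : x ∈ zpowers b)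
    (hc : IsPConstrained 2 ↥(centralizer ({x} : Set G))) :
    centralizerPPrimeCore 2 b ≤ centralizerPPrimeCore 2 x := by
  have hbC : zpowers b ≤ centralizer ({x} : Set G) := by
    rw [zpowers_le, mem_centralizer_singleton_iff]
    obtain ⟨n, rfl⟩ := mem_zpowers_iff.1 hx
    exact ((Commute.refl b).zpow_right n).eq
  have h1 : centralizer ({b} : Set G) ≤ centralizer ({x} : Set G) := by
    rw [centralizer_singleton_eq b]
    apply centralizer_le
    intro y hy
    rw [Set.mem_singleton_iff] at hy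
    rw [hy]; exact hx
  refine SigCon.le_oOf_of_le_oOf_centralizer hc hb hbC ((cpc_le b).trans h1) ?_
  rw [← centralizer_singleton_eq]
  exact le_rfl

end Cfsg.Agent.Lib.SSF2
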