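import Mathlib
import Cfsg.Agent.Lib.H70AbD
import Cfsg.Agent.Lib.SSF2Bal

/-!
# Abelian Sylow 2-subgroups with semiregular automizer: the signalizer functor (helper70)
-/

set_option autoImplicit false
set_option maxHeartbeats 400000

open Subgroup

namespace Cfsg.Agent.Lib.H70AbE

open Cfsg Cfsg.Agent.Lib.SSF2
open Cfsg.Agent.Lib.Balance (cpc_le cpc_normalizer cpc_not_dvd cpc_conj)
open Cfsg.Agent.Lib.Subsec (Cz mem_Cz)

universe u
variable {G : Type u} [Group G] [Finite G]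

/-- relative indices and normalizers -/
theorem relIndex_sup_of_le {W K : Subgroup G} (h : K ≤ normalizer (W : Set G)) : W.relIndex (W ⊔ K) = W.relIndex K := by
  have hW : W ≤ normalizer (W : Set G) := le_normalizer
  haveI : (W.subgroupOf (normalizer (W : Set G))).Normal := Subgroup.normal_subgroupOf_of_le_normalizer le_rfl
  have h1 := Subgroup.relIndex_sup_left (K.subgroupOf (normalizer (W : Set G))) (W.subgroupOf (normalizer (W : Set G)))
  rw [← Subgroup.subgroupOf_sup hW h, Subgroup.relIndex_subgroupOf (sup_le hW h), Subgroup.relIndex_subgroupOf h] at h1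
  exact h1

theorem card_eq_relIndex {A B : Subgroup G} (h : A ≤ B) : Nat.card B = Nat.card A * A.relIndex B := by
  have h1 := (A.subgroupOf B).card_mul_index
  rw [Nat.card_congr (Subgroup.subgroupOfEquivOfLe h).toEquiv] at h1
  exact h1.symm

theorem mem_sup_iff {W K : Subgroup G} (h : K ≤ normalizer (W : Set G)) {g : G} :
    g ∈ W ⊔ K ↔ ∃ w ∈ W, ∃ k ∈ K, w * k = g := by
  have := Subgroup.coe_mul_of_right_le_normalizer_left W K h
  rw [← SetLike.mem_coe, this, Set.mem_mul]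
  rfl

structure AS (P : Sylow 2 G) : Prop where
  hab : ∀ a ∈ (P : Subgroup G), ∀ b ∈ (P : Subgroup G), a * b = b * a
  sr : ∀ x ∈ (P : Subgroup G), x ≠ 1 → ∀ n ∈ normalizer ((P : Subgroup G) : Set G), n * x * n⁻¹ = x →
    ∀ y ∈ (P : Subgroup G), n * y * n⁻¹ = y

theorem conj_into (P : Sylow 2 G) {t : G} (ht : ∃ k : ℕ, orderOf t = 2 ^ k) : ∃ c : G, c⁻¹ * t * c ∈ (P : Subgroup G) := by
  haveI : Fact (Nat.Prime 2) := ⟨Nat.prime_two⟩
  obtain ⟨k, hk⟩ := ht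
  have hgp : IsPGroup 2 (Subgroup.zpowers t) := by
    apply IsPGroup.of_card (n := k)
    rw [Nat.card_zpowers, hk]
  obtain ⟨Q, hQ⟩ := hgp.exists_le_sylow
  obtain ⟨c, hc⟩ := MulAction.exists_smul_eq G Q P
  refine ⟨c⁻¹, ?_⟩
  rw [← hc, Sylow.coe_subgroup_smul, Subgroup.mem_pointwise_smul_iff_inv_smul_mem]
  simp only [← map_inv, MulAut.smul_def, MulAut.conj_apply, inv_inv]
  have h1 : c⁻¹ * (c * t * c⁻¹) * c = t := by group
  rw [h1]
  exact hQ (Subgroup.mem_zpowers t)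

theorem orderOf_mem (P : Sylow 2 G) {x : G} (hx : x ∈ (P : Subgroup G)) : ∃ k : ℕ, orderOf x = 2 ^ k := by
  haveI : Fact (Nat.Prime 2) := ⟨Nat.prime_two⟩
  obtain ⟨k, hk⟩ := (IsPGroup.iff_orderOf.mp P.isPGroup') ⟨x, hx⟩
  rw [Subgroup.orderOf_mk] at hk
  exact ⟨k, hk⟩

variable {P : Sylow 2 G}

/-- the complement in a centralizer -/
theorem AS.exists_N (h : AS P) {u : G} (hu : u ∈ (P : Subgroup G)) (hu1 : u ≠ 1) :
    ∃ N : Subgroup (Cz u), N.Normal ∧ ¬ 2 ∣ Nat.card N ∧ N.index = Nat.card P ∧ N ≤ pPrimeCore 2 (Cz u) := by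
  haveI : Fact (Nat.Prime 2) := ⟨Nat.prime_two⟩
  obtain ⟨N, h1, h2, h3⟩ := H52E16d.complement P h.hab hu (h.sr u hu hu1)
  refine ⟨N, h1, h2, h3, H23Basic.le_pPrimeCore h1 ?_⟩
  exact ((Nat.prime_two.coprime_iff_not_dvd).mpr h2).symm

theorem card_pow (P : Sylow 2 G) : ∃ k : ℕ, Nat.card P = 2 ^ k := by
  haveI : Fact (Nat.Prime 2) := ⟨Nat.prime_two⟩
  exact (IsPGroup.iff_card).1 P.isPGroup'

theorem AS.odd_mem (h : AS P) {u : G} (hu : u ∈ (P : Subgroup G)) (hu1 : u ≠ 1) {g : G}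
    (hg : g ∈ centralizer ({u} : Set G)) (ho : ¬ 2 ∣ orderOf g) : g ∈ centralizerPPrimeCore 2 u := by
  obtain ⟨N, h1, h2, h3, h4⟩ := h.exists_N hu hu1
  obtain ⟨k, hk⟩ := card_pow P
  haveI := h1
  have h5 : (⟨g, hg⟩ : Cz u) ∈ N := by
    apply BlockCore.mem_of_regular Nat.prime_two (h3.trans hk)
    rwa [Subgroup.orderOf_mk]
  exact ⟨⟨g, hg⟩, h4 h5, rfl⟩

theorem AS.decomp (h : AS P) {u : G} (hu : u ∈ (P : Subgroup G)) (hu1 : u ≠ 1) {g : G}
    (hg : g ∈ centralizer ({u} : Set G)) :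
    ∃ m ∈ centralizerPPrimeCore 2 u, ∃ b ∈ (P : Subgroup G), m * b = g := by
  haveI : Fact (Nat.Prime 2) := ⟨Nat.prime_two⟩
  obtain ⟨N, h1, h2, h3, h4⟩ := h.exists_N hu hu1
  obtain ⟨k, hk⟩ := card_pow P
  haveI := h1
  have hPC : (P : Subgroup G) ≤ Cz u := fun y hy => by rw [mem_Cz]; exact h.hab u hu y hy
  set Q : Subgroup (Cz u) := (P : Subgroup G).subgroupOf (Cz u) with hQ
  have hQo : ¬ 2 ∣ Q.index := by
    have h5 : Q = (P.subtype hPC : Subgroup (Cz u)) := by rw [Sylow.coe_subtype]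
    rw [h5]; exact (P.subtype hPC).not_dvd_index
  have htop : N ⊔ Q = ⊤ := by
    rw [← Subgroup.index_eq_one]
    have h5 : (N ⊔ Q).index ∣ 2 ^ k := by rw [← hk, ← h3]; exact Subgroup.index_dvd_of_le le_sup_left
    have h6 : (N ⊔ Q).index ∣ Q.index := Subgroup.index_dvd_of_le le_sup_right
    obtain ⟨j, hj, hj2⟩ := (Nat.dvd_prime_pow Nat.prime_two).1 h5
    rcases Nat.eq_zero_or_pos j with h0 | h0
    · rw [hj2, h0, pow_zero]
    · exfalso; apply hQo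
      exact (dvd_pow_self 2 h0.ne').trans (hj2 ▸ h6)
  have hgt : (⟨g, hg⟩ : Cz u) ∈ N ⊔ Q := by rw [htop]; trivial
  obtain ⟨m, hm, b, hb, hmb⟩ := (mem_sup_iff (Subgroup.le_normalizer_of_normal)).1 hgt
  refine ⟨m, ⟨m, h4 hm, rfl⟩, b, ?_, congrArg Subtype.val hmb⟩
  rw [hQ, mem_subgroupOf] at hb
  exact hb

/-- `Ω₁(P)` -/
def AS.Om (h : AS P) : Subgroup G where
  carrier := {x | x ∈ (P : Subgroup G) ∧ x * x = 1}
  mul_mem' := by
    rintro a b ⟨ha, ha2⟩ ⟨hb, hb2⟩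
    refine ⟨mul_mem ha hb, ?_⟩
    calc a * b * (a * b) = a * (b * a) * b := by group
      _ = (a * a) * (b * b) := by rw [← h.hab a ha b hb]; group
      _ = 1 := by rw [ha2, hb2, mul_one]
  one_mem' := ⟨one_mem _, mul_one 1⟩
  inv_mem' := by
    rintro a ⟨ha, ha2⟩
    refine ⟨inv_mem ha, ?_⟩
    rw [← mul_inv_rev, ha2, inv_one]

theorem AS.mem_Om (h : AS P) {x : G} : x ∈ h.Om ↔ x ∈ (P : Subgroup G) ∧ x * x = 1 := Iff.rfl

theorem AS.Om_le (h : AS P) : h.Om ≤ (P : Subgroup G) := fun _ hx => hx.1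

theorem AS.Om_ea (h : AS P) : IsElementaryAbelian 2 h.Om :=
  ⟨⟨⟨fun a b => Subtype.ext (h.hab a a.2.1 b b.2.1)⟩⟩, fun a ha => by rw [sq]; exact ha.2⟩

theorem AS.bal2 (h : AS P) : Bal2 G := by
  haveI : Fact (Nat.Prime 2) := ⟨Nat.prime_two⟩
  intro x y _ hy hxy g hg
  obtain ⟨c, hc⟩ := conj_into P (t := y) ⟨1, by rw [hy]; norm_num⟩
  set b := c⁻¹ * y * c with hb
  have hyb : y = c * b * c⁻¹ := by rw [hb]; group
  have hb1 : b ≠ 1 := by
    intro h1
    rw [h1] at hyb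
    have : y = 1 := by rw [hyb]; group
    rw [this, orderOf_one] at hy
    omega
  have h1 : ¬ 2 ∣ orderOf g := by
    have h2 := cpc_not_dvd (p := 2) x
    intro h3
    apply h2
    have := orderOf_dvd_natCard (⟨g, hg.1⟩ : centralizerPPrimeCore 2 x)
    rw [Subgroup.orderOf_mk] at this
    exact h3.trans this
  have h2 : c⁻¹ * g * c ∈ centralizerPPrimeCore 2 b := by
    refine h.odd_mem hc hb1 ?_ ?_
    · rw [mem_centralizer_singleton_iff]
      have h3 : g * y = y * g := mem_centralizer_singleton_iff.1 hg.2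
      rw [hb]
      calc c⁻¹ * g * c * (c⁻¹ * y * c) = c⁻¹ * (g * y) * c := by group
        _ = c⁻¹ * y * c * (c⁻¹ * g * c) := by rw [h3]; group
    · have := BlockThird.orderOf_conj g c⁻¹
      rw [inv_inv] at this
      rwa [this]
  rw [hyb, cpc_conj]
  exact ⟨c⁻¹ * g * c, h2, by simp [MulAut.conj_apply, mul_assoc]⟩

end Cfsg.Agent.Lib.H70AbE
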