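import Mathlib
import Cfsg.Agent.Lib.H70AbE
import Cfsg.Agent.Lib.Involutions

/-!
# Abelian Sylow 2-subgroups with semiregular automizer: the subgroup `H` (helper70)
-/

set_option autoImplicit false
set_option maxHeartbeats 400000

open Subgroup

namespace Cfsg.Agent.Lib.H70AbF

open Cfsg Cfsg.Agent.Lib.SSF2 Cfsg.Agent.Lib.H70AbE Cfsg.Agent.Lib.H70AbB Cfsg.Agent.Lib.H70AbC
open Cfsg.Agent.Lib.Balance (cpc_le cpc_normalizer cpc_not_dvd cpc_conj)
open scoped Classical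

universe u
variable {G : Type u} [Group G] [Finite G] {P : Sylow 2 G}

/-- the hypotheses -/
structure BS (P : Sylow 2 G) : Prop extends AS P where
  h8 : 8 ≤ Nat.card toAS.Om

variable (h : BS P)

def BS.W (h : BS P) : Subgroup G := Wof h.toAS.Om

def BS.Y (h : BS P) : Subgroup G := h.W ⊔ (P : Subgroup G)

def BS.H (h : BS P) : Subgroup G := h.W ⊔ normalizer ((P : Subgroup G) : Set G)

include h

theorem BS.W_odd : ¬ 2 ∣ Nat.card h.W :=
  (Wof_mem h.toAS.bal2 h.toAS.Om_ea (by have := h.h8; norm_num; exact this)).2.1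

theorem BS.N_le_NW : normalizer ((P : Subgroup G) : Set G) ≤ normalizer (h.W : Set G) := by
  have h1 : normalizer ((P : Subgroup G) : Set G) ≤ normalizer (h.toAS.Om : Set G) := by
    intro n hn
    have key : ∀ n ∈ normalizer ((P : Subgroup G) : Set G), ∀ x ∈ h.toAS.Om, n * x * n⁻¹ ∈ h.toAS.Om := by
      intro n hn x hx
      refine ⟨(mem_normalizer_iff.1 hn x).1 hx.1, ?_⟩
      calc n * x * n⁻¹ * (n * x * n⁻¹) = n * (x * x) * n⁻¹ := by group
        _ = 1 := by rw [hx.2]; group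
    rw [mem_normalizer_iff]
    intro x
    constructor
    · exact key n hn x
    · intro hx
      have := key n⁻¹ (inv_mem hn) _ hx
      have e1 : n⁻¹ * (n * x * n⁻¹) * n⁻¹⁻¹ = x := by group
      rwa [e1] at this
  exact h1.trans (normalizer_le_normalizer_Wof _)

theorem BS.P_le_NW : (P : Subgroup G) ≤ normalizer (h.W : Set G) := le_normalizer.trans h.N_le_NW

theorem BS.mem_Y {g : G} : g ∈ h.Y ↔ ∃ w ∈ h.W, ∃ b ∈ (P : Subgroup G), w * b = g := mem_sup_iff h.P_le_NW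

theorem BS.mem_H {g : G} : g ∈ h.H ↔ ∃ w ∈ h.W, ∃ b ∈ normalizer ((P : Subgroup G) : Set G), w * b = g :=
  mem_sup_iff h.N_le_NW

theorem BS.P_le_Y : (P : Subgroup G) ≤ h.Y := le_sup_right
theorem BS.W_le_Y : h.W ≤ h.Y := le_sup_left
theorem BS.N_le_H : normalizer ((P : Subgroup G) : Set G) ≤ h.H := le_sup_right
theorem BS.Y_le_H : h.Y ≤ h.H := sup_le le_sup_left (le_normalizer.trans le_sup_right)
theorem BS.P_le_H : (P : Subgroup G) ≤ h.H := h.P_le_Y.trans h.Y_le_H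

theorem BS.cpc_le_W {a : G} (ha : a ∈ (P : Subgroup G)) (ha2 : a * a = 1) (ha1 : a ≠ 1) :
    centralizerPPrimeCore 2 a ≤ h.W := le_Wof (A := h.toAS.Om) ⟨ha, ha2⟩ ha1

theorem exists_invol_pow {g : G} (hg : 2 ∣ orderOf g) : ∃ k : ℕ, orderOf (g ^ k) = 2 := by
  obtain ⟨m, hm⟩ := hg
  have hm0 : 0 < m := by
    have := orderOf_pos g
    omega
  exact ⟨m, by rw [orderOf_pow' _ hm0.ne', hm, Nat.gcd_mul_left_left, Nat.mul_div_cancel _ hm0]⟩

theorem two_dvd_of_mem {x : G} (hx : x ∈ (P : Subgroup G)) (hx1 : x ≠ 1) : 2 ∣ orderOf x := by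
  obtain ⟨k, hk⟩ := orderOf_mem P hx
  rcases Nat.eq_zero_or_pos k with h0 | h0
  · exfalso; apply hx1; rw [h0, pow_zero] at hk; exact orderOf_eq_one_iff.1 hk
  · rw [hk]; exact dvd_pow_self 2 h0.ne'

theorem BS.cent_le_Y {u : G} (hu : u ∈ (P : Subgroup G)) (hu1 : u ≠ 1) : centralizer ({u} : Set G) ≤ h.Y := by
  obtain ⟨k, hk⟩ := exists_invol_pow h (two_dvd_of_mem h hu hu1)
  have hkP : u ^ k ∈ (P : Subgroup G) := pow_mem hu k
  have hk1 : u ^ k ≠ 1 := by intro e; rw [e, orderOf_one] at hk; omega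
  have hk2 : u ^ k * u ^ k = 1 := by rw [← sq, ← hk, pow_orderOf_eq_one]
  intro g hg
  have hg' : g ∈ centralizer ({u ^ k} : Set G) := by
    rw [mem_centralizer_singleton_iff] at hg ⊢
    exact (Commute.pow_right (show Commute g u from hg) k).eq
  obtain ⟨m, hm, b, hb, rfl⟩ := h.toAS.decomp hkP hk1 hg'
  exact mul_mem (h.W_le_Y (h.cpc_le_W hkP hk2 hk1 hm)) (h.P_le_Y hb)

theorem BS.odd_of_mem_W {g : G} (hg : g ∈ h.W) : ¬ 2 ∣ orderOf g := by
  intro h1
  apply h.W_odd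
  have := orderOf_dvd_natCard (⟨g, hg⟩ : h.W)
  rw [Subgroup.orderOf_mk] at this
  exact h1.trans this

theorem BS.inf : (P : Subgroup G) ⊓ h.W = ⊥ := by
  rw [eq_bot_iff]
  rintro x ⟨hx1, hx2⟩
  by_contra hne
  exact h.odd_of_mem_W hx2 (two_dvd_of_mem h hx1 (fun e => hne (by rw [e]; exact one_mem _)))

theorem BS.H_le_NW : h.H ≤ normalizer (h.W : Set G) := sup_le le_normalizer h.N_le_NW

theorem BS.conj_W {g x : G} (hg : g ∈ h.H) (hx : x ∈ h.W) : g * x * g⁻¹ ∈ h.W :=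
  (mem_normalizer_iff.1 (h.H_le_NW hg) x).1 hx

theorem BS.conj_Y {g x : G} (hg : g ∈ h.H) (hx : x ∈ h.Y) : g * x * g⁻¹ ∈ h.Y := by
  obtain ⟨w, hw, n, hn, rfl⟩ := h.mem_H.1 hg
  obtain ⟨v, hv, b, hb, rfl⟩ := h.mem_Y.1 hx
  have e1 : w * n * (v * b) * (w * n)⁻¹ = w * (n * v * n⁻¹) * (n * b * n⁻¹) * w⁻¹ := by group
  rw [e1]
  have h1 : n * v * n⁻¹ ∈ h.Y := h.W_le_Y (h.conj_W (h.N_le_H hn) hv)
  have h2 : n * b * n⁻¹ ∈ h.Y := h.P_le_Y ((mem_normalizer_iff.1 hn b).1 hb)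
  exact mul_mem (mul_mem (mul_mem (h.W_le_Y hw) h1) h2) (inv_mem (h.W_le_Y hw))

theorem BS.YN : h.Y ⊓ normalizer ((P : Subgroup G) : Set G) = centralizer ((P : Subgroup G) : Set G) := by
  apply le_antisymm
  · intro n hn0
    obtain ⟨hn, hnN⟩ := Subgroup.mem_inf.1 hn0
    obtain ⟨w, hw, b, hb, rfl⟩ := h.mem_Y.1 hn
    have hwN : w ∈ normalizer ((P : Subgroup G) : Set G) := by
      have hbN : b ∈ normalizer ((P : Subgroup G) : Set G) := le_normalizer hb
      have : w = w * b * b⁻¹ := by group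
      rw [this]; exact Subgroup.mul_mem _ hnN (Subgroup.inv_mem _ hbN)
    rw [mem_centralizer_iff]
    intro y hy
    have h1 : w * y * w⁻¹ * y⁻¹ ∈ (P : Subgroup G) ⊓ h.W := by
      refine Subgroup.mem_inf.2 ⟨Subgroup.mul_mem _ ((mem_normalizer_iff.1 hwN y).1 hy) (Subgroup.inv_mem _ hy), ?_⟩
      have e1 : w * y * w⁻¹ * y⁻¹ = w * (y * w⁻¹ * y⁻¹) := by group
      rw [e1]
      exact mul_mem hw (h.conj_W (h.P_le_H hy) (inv_mem hw))
    rw [h.inf, mem_bot] at h1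
    have h2 : w * y = y * w := by
      have := mul_inv_eq_one.1 h1
      exact mul_inv_eq_iff_eq_mul.1 this
    have h3 : b * y = y * b := h.hab b hb y hy
    calc y * (w * b) = y * w * b := by group
      _ = w * (y * b) := by rw [← h2]; group
      _ = w * b * y := by rw [← h3]; group
  · intro n hn
    rw [mem_centralizer_iff] at hn
    have hOm : ∃ a ∈ (P : Subgroup G), a ≠ 1 := by
      by_contra hcon
      push Not at hcon
      have h1 : h.toAS.Om = ⊥ := by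
        rw [eq_bot_iff]
        intro x hx
        exact hcon x hx.1
      have h2 := h.h8
      rw [h1] at h2
      simp at h2
    obtain ⟨a, ha, ha1⟩ := hOm
    refine Subgroup.mem_inf.2 ⟨h.cent_le_Y ha ha1 ?_, ?_⟩
    · rw [mem_centralizer_singleton_iff]
      exact (hn a ha).symm
    · rw [mem_normalizer_iff]
      intro x
      constructor
      · intro hx
        have : n * x * n⁻¹ = x := by rw [← hn x hx]; group
        rw [this]; exact hx
      · intro hx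
        have h1 := hn _ hx
        have : x = n * x * n⁻¹ := by
          have h2 : n * x * n⁻¹ * n = n * (n * x * n⁻¹) := h1
          have h3 : n * x = n * (n * x * n⁻¹) := by
            rw [← h2]; group
          exact mul_left_cancel h3
        rw [this]; exact hx

theorem BS.card_Y : Nat.card h.Y = Nat.card h.W * Nat.card P := by
  rw [card_eq_relIndex h.W_le_Y]
  congr 1
  unfold BS.Y
  rw [relIndex_sup_of_le h.P_le_NW, ← inf_relIndex_left, h.inf, relIndex_bot_left]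

theorem BS.card_H : Nat.card h.H = Nat.card h.Y *
    (centralizer ((P : Subgroup G) : Set G)).relIndex (normalizer ((P : Subgroup G) : Set G)) := by
  rw [card_eq_relIndex h.Y_le_H]
  congr 1
  have h1 : h.H = h.Y ⊔ normalizer ((P : Subgroup G) : Set G) := by
    unfold BS.H BS.Y
    rw [sup_assoc, sup_eq_right.2 (le_normalizer : (P : Subgroup G) ≤ normalizer ((P : Subgroup G) : Set G))]
  have h2 : normalizer ((P : Subgroup G) : Set G) ≤ normalizer (h.Y : Set G) := by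
    intro n hn
    rw [mem_normalizer_iff]
    intro x
    constructor
    · exact fun hx => h.conj_Y (h.N_le_H hn) hx
    · intro hx
      have := h.conj_Y (inv_mem (h.N_le_H hn)) hx
      have e1 : n⁻¹ * (n * x * n⁻¹) * n⁻¹⁻¹ = x := by group
      rwa [e1] at this
  rw [h1, relIndex_sup_of_le h2, ← inf_relIndex_right, h.YN]

/-- 2-elements of `H` are `H`-conjugate into `P` -/
theorem BS.conj_into_H {t : G} (ht : t ∈ h.H) (ht2 : ∃ k : ℕ, orderOf t = 2 ^ k) :
    ∃ c ∈ h.H, c⁻¹ * t * c ∈ (P : Subgroup G) := by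
  obtain ⟨k, hk⟩ := ht2
  obtain ⟨c, hc⟩ := conj_into (P.subtype h.P_le_H) (t := ⟨t, ht⟩) ⟨k, by rw [Subgroup.orderOf_mk]; exact hk⟩
  refine ⟨c, c.2, ?_⟩
  rw [Sylow.coe_subtype, mem_subgroupOf] at hc
  exact hc

theorem BS.un {g y : G} (hg : 2 ∣ orderOf g) (hgH : g ∈ h.H) (hy : y⁻¹ * g * y ∈ h.H) : y ∈ h.H := by
  haveI : Fact (Nat.Prime 2) := ⟨Nat.prime_two⟩
  obtain ⟨k, hk⟩ := exists_invol_pow h hg
  set t := g ^ k with ht
  have htH : t ∈ h.H := pow_mem hgH k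
  have hty : y⁻¹ * t * y ∈ h.H := by
    have : y⁻¹ * t * y = (y⁻¹ * g * y) ^ k := by
      have := conj_pow (i := k) (a := y⁻¹) (b := g)
      rw [inv_inv] at this
      rw [this]
    rw [this]; exact pow_mem hy k
  have ho : orderOf (y⁻¹ * t * y) = 2 := by
    have := BlockThird.orderOf_conj t y⁻¹
    rw [inv_inv] at this
    rw [this, hk]
  obtain ⟨c, hc, hcP⟩ := h.conj_into_H htH ⟨1, by rw [hk]; norm_num⟩
  obtain ⟨d, hd, hdP⟩ := h.conj_into_H hty ⟨1, by rw [ho]; norm_num⟩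
  have hconj : IsConj (c⁻¹ * t * c) (d⁻¹ * (y⁻¹ * t * y) * d) := by
    rw [isConj_iff]
    exact ⟨d⁻¹ * y⁻¹ * c, by group⟩
  obtain ⟨n, hn, hn'⟩ := H52E16e.mem_of_conj P h.hab hcP hdP hconj
  have ha1 : c⁻¹ * t * c ≠ 1 := by
    intro e
    have : t = 1 := by
      have := congrArg (fun z => c * z * c⁻¹) e
      simpa [mul_assoc] using this
    rw [this, orderOf_one] at hk
    omega
  have h1 : n⁻¹ * (d⁻¹ * y⁻¹ * c) ∈ centralizer ({c⁻¹ * t * c} : Set G) := by
    rw [mem_centralizer_singleton_iff]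
    have e1 : n * (c⁻¹ * t * c) = d⁻¹ * (y⁻¹ * t * y) * d * n := by
      rw [← hn']; group
    calc n⁻¹ * (d⁻¹ * y⁻¹ * c) * (c⁻¹ * t * c) = n⁻¹ * (d⁻¹ * (y⁻¹ * t * y) * d) * (d⁻¹ * y⁻¹ * c) := by group
      _ = n⁻¹ * (d⁻¹ * (y⁻¹ * t * y) * d * n) * (n⁻¹ * (d⁻¹ * y⁻¹ * c)) := by group
      _ = c⁻¹ * t * c * (n⁻¹ * (d⁻¹ * y⁻¹ * c)) := by rw [← e1]; group
  have h2 : n⁻¹ * (d⁻¹ * y⁻¹ * c) ∈ h.H := h.Y_le_H (h.cent_le_Y hcP ha1 h1)
  have h3 : y⁻¹ ∈ h.H := by
    have e1 : y⁻¹ = d * (n * (n⁻¹ * (d⁻¹ * y⁻¹ * c))) * c⁻¹ := by group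
    rw [e1]
    exact mul_mem (mul_mem hd (mul_mem (h.N_le_H hn) h2)) (inv_mem hc)
  have := inv_mem h3
  rwa [inv_inv] at this

theorem BS.ex {g : G} (hg : 2 ∣ orderOf g) : ∃ y, y⁻¹ * g * y ∈ h.H := by
  haveI : Fact (Nat.Prime 2) := ⟨Nat.prime_two⟩
  obtain ⟨k, hk⟩ := exists_invol_pow h hg
  obtain ⟨c, hc⟩ := conj_into P (t := g ^ k) ⟨1, by rw [hk]; norm_num⟩
  have ha1 : c⁻¹ * g ^ k * c ≠ 1 := by
    intro e
    have : g ^ k = 1 := by
      have := congrArg (fun z => c * z * c⁻¹) e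
      simpa [mul_assoc] using this
    rw [this, orderOf_one] at hk
    omega
  refine ⟨c, h.Y_le_H (h.cent_le_Y hc ha1 ?_)⟩
  rw [mem_centralizer_singleton_iff]
  have : g * g ^ k = g ^ k * g := by rw [← pow_succ, ← pow_succ']
  calc c⁻¹ * g * c * (c⁻¹ * g ^ k * c) = c⁻¹ * (g * g ^ k) * c := by group
    _ = c⁻¹ * g ^ k * c * (c⁻¹ * g * c) := by rw [this]; group

theorem BS.sing {g : G} (hg : g ∈ h.H) : 2 ∣ orderOf g ↔ (g ∈ h.Y ∧ g ∉ h.W) := by
  haveI : Fact (Nat.Prime 2) := ⟨Nat.prime_two⟩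
  constructor
  · intro h2
    refine ⟨?_, fun hW => h.odd_of_mem_W hW h2⟩
    obtain ⟨k, hk⟩ := exists_invol_pow h h2
    obtain ⟨c, hc, hcP⟩ := h.conj_into_H (pow_mem hg k) ⟨1, by rw [hk]; norm_num⟩
    have ha1 : c⁻¹ * g ^ k * c ≠ 1 := by
      intro e
      have : g ^ k = 1 := by
        have := congrArg (fun z => c * z * c⁻¹) e
        simpa [mul_assoc] using this
      rw [this, orderOf_one] at hk
      omega
    have h3 : c⁻¹ * g * c ∈ h.Y := by
      refine h.cent_le_Y hcP ha1 ?_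
      rw [mem_centralizer_singleton_iff]
      have : g * g ^ k = g ^ k * g := by rw [← pow_succ, ← pow_succ']
      calc c⁻¹ * g * c * (c⁻¹ * g ^ k * c) = c⁻¹ * (g * g ^ k) * c := by group
        _ = c⁻¹ * g ^ k * c * (c⁻¹ * g * c) := by rw [this]; group
    have h4 := h.conj_Y hc h3
    have e1 : c * (c⁻¹ * g * c) * c⁻¹ = g := by group
    rwa [e1] at h4
  · rintro ⟨hY, hW⟩
    by_contra h2
    apply hW
    obtain ⟨k, hk⟩ := card_pow P
    haveI : (h.W.subgroupOf h.Y).Normal :=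
      Subgroup.normal_subgroupOf_of_le_normalizer (h.Y_le_H.trans h.H_le_NW)
    have hi : (h.W.subgroupOf h.Y).index = 2 ^ k := by
      have h5 := card_eq_relIndex h.W_le_Y
      rw [h.card_Y, hk] at h5
      exact (Nat.eq_of_mul_eq_mul_left Nat.card_pos h5).symm
    have h6 : (⟨g, hY⟩ : h.Y) ∈ h.W.subgroupOf h.Y := by
      apply BlockCore.mem_of_regular Nat.prime_two hi
      rwa [Subgroup.orderOf_mk]
    exact mem_subgroupOf.1 h6

theorem BS.cc [Fintype G] : CC h.H h.Y h.W (Nat.card P)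
    ((centralizer ((P : Subgroup G) : Set G)).relIndex (normalizer ((P : Subgroup G) : Set G))) where
  hXY := h.W_le_Y
  hYH := h.Y_le_H
  cY := h.card_Y
  cH := h.card_H
  hr := by
    have h1 : Nat.card h.toAS.Om ≤ Nat.card P := Nat.card_mono (Set.toFinite _) h.toAS.Om_le
    have := h.h8
    omega
  sing := fun g hg => h.sing hg
  ex := fun g hg => h.ex hg
  un := fun g y hg hgH hy => h.un hg hgH hy

/-- `H = G` -/
theorem BS.normal_of_top (ht : h.H = ⊤) (hO : ∀ N : Subgroup G, N.Normal → ¬ 2 ∣ Nat.card N → N = ⊥) :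
    (P : Subgroup G).Normal := by
  have h1 : h.W.Normal := by
    rw [← normalizer_eq_top_iff, eq_top_iff, ← ht]
    exact h.H_le_NW
  have h2 := hO _ h1 h.W_odd
  have h3 : h.H = normalizer ((P : Subgroup G) : Set G) := by
    unfold BS.H
    rw [h2, bot_sup_eq]
  rw [← normalizer_eq_top_iff, ← h3, ht]

/-- one class of involutions if `H ≠ G` -/
theorem BS.conj_of_ne (ht : h.H ≠ ⊤) {a b : G} (ha : orderOf a = 2) (hb : orderOf b = 2)
    (haP : a ∈ h.H) (hbP : b ∈ h.H) : IsConj a b := by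
  have := Fintype.ofFinite G
  obtain ⟨g, hg⟩ : ∃ g, g ∉ h.H := by
    by_contra hcon
    push Not at hcon
    exact ht (eq_top_iff.2 fun x _ => hcon x)
  set s := g * a * g⁻¹ with hs
  have hs2 : orderOf s = 2 := by rw [hs, BlockThird.orderOf_conj, ha]
  have hsH : s ∉ h.H := by
    intro hsH
    have := h.un (g := a) (y := g⁻¹) (by rw [ha]) haP (by rw [inv_inv]; exact hsH)
    exact hg (by simpa using inv_mem this)
  have key : ∀ a : G, orderOf a = 2 → a ∈ h.H → IsConj a s := by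
    intro a ha haH
    have h1 : ¬ 2 ∣ orderOf (s⁻¹ * a) := fun h2 => hsH (dihedral_mem h.cc ha haH hs2 h2)
    have h3 : s⁻¹ = s := inv_eq_of_mul_eq_one_left (by rw [← sq, ← hs2, pow_orderOf_eq_one])
    rw [h3] at h1
    refine (Involutions.isConj_of_odd hs2 ha ?_).symm
    rw [← Nat.not_even_iff_odd, even_iff_two_dvd]
    exact h1
  exact (key a ha haP).trans (key b hb hbP).symm

end Cfsg.Agent.Lib.H70AbF
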