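import Mathlib
import Cfsg.Agent.Lib.H70AbF

/-!
# The elementary abelian case (helper70)
-/

set_option autoImplicit false
set_option maxHeartbeats 400000

open Subgroup

namespace Cfsg.Agent.Lib.H70AbG

open Cfsg Cfsg.Agent.Lib.BlockRing Cfsg.Agent.Lib.BlockThird Cfsg.Agent.Lib.SSF2 Cfsg.Agent.Lib.H70AbE Cfsg.Agent.Lib.H70AbB Cfsg.Agent.Lib.H70AbC
open Cfsg.Agent.Lib.H70AbA Cfsg.Agent.Lib.H70AbD Cfsg.Agent.Lib.H70AbF Cfsg.Agent.Lib.H52Dih5
open Cfsg.Agent.Lib.H25BpF (pp pq pp_eq pp_conj pp_order pp_comm pq_order pp_mul_pq)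
open Cfsg.Agent.Lib.Subsec (Cz mem_Cz)
open scoped Classical

universe u
variable {G : Type u} [Group G] [Finite G] {P : Sylow 2 G} {M : Ideal AlgInt}

/-- `N(P)/C(P)` has order `|Ω| - 1` if it is transitive on the involutions -/
theorem relIndex_eq (h : AS P) {a : G} (ha : a ∈ h.Om) (ha1 : a ≠ 1)
    (htr : ∀ b ∈ h.Om, b ≠ 1 → ∃ n ∈ normalizer ((P : Subgroup G) : Set G), n * a * n⁻¹ = b) :
    (centralizer ((P : Subgroup G) : Set G)).relIndex (normalizer ((P : Subgroup G) : Set G)) = Nat.card h.Om - 1 := by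
  have := Fintype.ofFinite G
  set N := normalizer ((P : Subgroup G) : Set G) with hN
  set C := centralizer ((P : Subgroup G) : Set G) with hC
  have hCN : C ≤ N := Subgroup.centralizer_le_normalizer _
  have h1 : (Finset.univ.filter (fun g : G => g ∈ N)).card = (Nat.card h.Om - 1) * Nat.card C := by
    rw [Finset.card_eq_sum_card_fiberwise (f := fun n => n * a * n⁻¹)
      (t := (Finset.univ.filter (fun g : G => g ∈ h.Om)).erase 1)]
    · rw [Finset.sum_congr rfl (g := fun _ => Nat.card C)]
      · rw [Finset.sum_const, smul_eq_mul, Finset.card_erase_of_mem (by simp), card_filter_mem]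
      · intro b hb
        rw [Finset.mem_erase] at hb
        simp only [Finset.mem_filter, Finset.mem_univ, true_and] at hb
        obtain ⟨n0, hn0, hn0'⟩ := htr b hb.2 hb.1
        rw [← card_filter_mem C]
        symm
        refine Finset.card_bij (fun c _ => n0 * c) ?_ ?_ ?_
        · intro c hc
          simp only [Finset.mem_filter, Finset.mem_univ, true_and] at hc ⊢
          refine ⟨Subgroup.mul_mem _ hn0 (hCN hc), ?_⟩
          have h2 : a * c = c * a := (mem_centralizer_iff.1 hc a ha.1)
          calc n0 * c * a * (n0 * c)⁻¹ = n0 * (c * a) * c⁻¹ * n0⁻¹ := by group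
            _ = n0 * a * n0⁻¹ := by rw [← h2]; group
            _ = b := hn0'
        · intro c _ c' _ hcc
          exact mul_left_cancel hcc
        · intro n hn
          simp only [Finset.mem_filter, Finset.mem_univ, true_and] at hn
          refine ⟨n0⁻¹ * n, ?_, by group⟩
          simp only [Finset.mem_filter, Finset.mem_univ, true_and]
          have h3 : n0⁻¹ * n ∈ N := Subgroup.mul_mem _ (Subgroup.inv_mem _ hn0) hn.1
          have h4 : n0⁻¹ * n * a * (n0⁻¹ * n)⁻¹ = a := by
            calc n0⁻¹ * n * a * (n0⁻¹ * n)⁻¹ = n0⁻¹ * (n * a * n⁻¹) * n0 := by group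
              _ = n0⁻¹ * (n0 * a * n0⁻¹) * n0 := by rw [hn.2, hn0']
              _ = a := by group
          have h5 := h.sr a ha.1 ha1 _ h3 h4
          rw [hC, mem_centralizer_iff]
          intro y hy
          have := h5 y hy
          exact (mul_inv_eq_iff_eq_mul.1 this).symm
    · intro n hn
      simp only [Finset.coe_filter, Finset.mem_univ, true_and, Set.mem_setOf_eq] at hn
      simp only [Finset.coe_erase, Finset.coe_filter, Finset.mem_univ, true_and, Set.mem_diff, Set.mem_setOf_eq,
        Set.mem_singleton_iff]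
      refine ⟨⟨(mem_normalizer_iff.1 hn a).1 ha.1, ?_⟩, ?_⟩
      · calc n * a * n⁻¹ * (n * a * n⁻¹) = n * (a * a) * n⁻¹ := by group
          _ = 1 := by rw [ha.2]; group
      · intro e
        apply ha1
        have := congrArg (fun z => n⁻¹ * z * n) e
        simpa [mul_assoc] using this
  rw [card_filter_mem, card_eq_relIndex hCN, mul_comm] at h1
  exact Nat.eq_of_mul_eq_mul_right Nat.card_pos h1

/-- `k(B₀)` -/
theorem k_eq (hM : IsPModular 2 M) (X : Finset G) (hX : ∀ x ∈ X, ∃ k : ℕ, orderOf x = 2 ^ k)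
    (hXrep : ∀ g : G, (∃ k : ℕ, orderOf g = 2 ^ k) → ∃! x, x ∈ X ∧ IsConj g x) :
    Nat.card (principalBlock M G) = blockRank 2 (principalBlock M G) +
      ∑ x ∈ X.erase 1, blockRank 2 (principalBlock M (Cz x)) := by
  have hcount := BlockTop.card_eq_add hM (isPBlock_principal (G := G) (M := M)) X hX hXrep
  have hind : ∀ y ∈ X, (∑ᶠ b ∈ {b : Set (IrrCharacter ↥(Subgroup.centralizer ({y} : Set G))) |
      IsInducedBlock M (Subgroup.centralizer ({y} : Set G)) b (principalBlock M G)}, blockRank 2 b) =
      blockRank 2 (principalBlock M (Cz y)) := by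
    intro y hy
    obtain ⟨k, hk⟩ := hX y hy
    rw [BlockTop.induced_principal_set hM hk, finsum_mem_singleton]
  rw [hcount, Finset.sum_congr rfl (fun y hy => hind y (Finset.mem_of_mem_erase hy))]

theorem card_PB_eq : Nat.card (principalBlock M G) = (PB M G).card := by
  rw [PB, Nat.card_coe_set_eq, Set.ncard_eq_toFinset_card (principalBlock M G) (Set.toFinite _)]

/-- rank one for centralizers of nontrivial elements -/
theorem rank_one (hM : IsPModular 2 M) (h : AS P) {u : G} (hu : u ∈ (P : Subgroup G)) (hu1 : u ≠ 1) :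
    blockRank 2 (principalBlock M (Cz u)) = 1 := by
  obtain ⟨N, h1, h2, h3, -⟩ := h.exists_N hu hu1
  obtain ⟨k, hk⟩ := card_pow P
  haveI := h1
  exact BlockTop.blockRank_principal_of_complement hM h2 (h3.trans hk)

/-- the main theorem in the elementary abelian case -/
theorem main_elem (hM : IsPModular 2 M) (h : BS P) (hel : ∀ x ∈ (P : Subgroup G), x * x = 1)
    (hO : ∀ N : Subgroup G, N.Normal → ¬ 2 ∣ Nat.card N → N = ⊥) (hH : h.H ≠ ⊤) :
    blockRank 2 (principalBlock M G) + 1 = Nat.card P ∧
    (centralizer ((P : Subgroup G) : Set G)).relIndex (normalizer ((P : Subgroup G) : Set G)) + 1 = Nat.card P := by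
  haveI : Fact (Nat.Prime 2) := ⟨Nat.prime_two⟩
  have := Fintype.ofFinite G
  have hOm : h.toAS.Om = (P : Subgroup G) := le_antisymm h.toAS.Om_le (fun x hx => ⟨hx, hel x hx⟩)
  have h8 : 8 ≤ Nat.card P := by have := h.h8; rwa [hOm] at this
  have hord : ∀ y ∈ (P : Subgroup G), y ≠ 1 → orderOf y = 2 := fun y hy hy1 =>
    orderOf_eq_prime (by rw [sq]; exact hel y hy) hy1
  -- transitivity
  have htr : ∀ a ∈ (P : Subgroup G), a ≠ 1 → ∀ b ∈ (P : Subgroup G), b ≠ 1 →
      ∃ n ∈ normalizer ((P : Subgroup G) : Set G), n * a * n⁻¹ = b := by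
    intro a ha ha1 b hb hb1
    exact H52E16e.mem_of_conj P h.hab ha hb
      (h.conj_of_ne hH (hord a ha ha1) (hord b hb hb1) (h.P_le_H ha) (h.P_le_H hb))
  obtain ⟨a, haP, ha1⟩ : ∃ a ∈ (P : Subgroup G), a ≠ 1 := by
    by_contra hcon
    push Not at hcon
    have h1 : (P : Subgroup G) = ⊥ := by
      rw [eq_bot_iff]
      exact fun x hx => hcon x hx
    have h2 : Nat.card (P : Subgroup G) = 1 := by rw [h1]; simp
    have h3 : Nat.card (P : Subgroup G) = Nat.card P := rfl
    omega
  have ha2 := hord a haP ha1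
  have he : (centralizer ((P : Subgroup G) : Set G)).relIndex (normalizer ((P : Subgroup G) : Set G)) =
      Nat.card P - 1 := by
    rw [relIndex_eq h.toAS (a := a) ⟨haP, hel a haP⟩ ha1 (fun b hb hb1 => htr a haP ha1 b hb.1 hb1), hOm]
  refine ⟨?_, by omega⟩
  have hcc := h.cc
  rw [he] at hcc
  -- the 2-part
  have hpp : ∀ g : G, 2 ∣ orderOf g → IsConj (pp 2 g) a := by
    intro g hg
    obtain ⟨c, hc⟩ := conj_into P (pp_order 2 g)
    have h1 : IsConj (pp 2 g) (c⁻¹ * pp 2 g * c) := isConj_iff.2 ⟨c⁻¹, by group⟩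
    have hne : c⁻¹ * pp 2 g * c ≠ 1 := by
      intro e
      have e1 : pp 2 g = 1 := by
        have := congrArg (fun z => c * z * c⁻¹) e
        simpa [mul_assoc] using this
      have e2 := pp_mul_pq 2 g
      rw [e1, one_mul] at e2
      have e3 := pq_order 2 g
      rw [e2] at e3
      exact e3 hg
    obtain ⟨n, _, hn⟩ := htr _ hc hne a haP ha1
    exact h1.trans (isConj_iff.2 ⟨n, hn⟩)
  have hconst : ∀ χ ∈ PB M G, ∀ g : G, 2 ∣ orderOf g → (χ : G → ℂ) g = (χ : G → ℂ) a := by
    intro χ hχ g hg
    obtain ⟨N, h1, h2, h3, -⟩ := h.toAS.exists_N haP ha1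
    obtain ⟨k, hk⟩ := card_pow P
    exact H52E16g.const_section hM (x := a) (k := 1) (by rw [ha2]; norm_num) h1 h2 (h3.trans hk) (hpp g hg) hχ
  obtain ⟨hc, hodd⟩ := odd_closure hM hcc ha2 h.P_le_Y h.inf rfl haP
    (fun b hb hb1 => by
      obtain ⟨n, hn, hn'⟩ := htr a haP ha1 b hb hb1
      exact ⟨n, h.N_le_H hn, hn'⟩)
    (fun g hg x hx => h.conj_W hg hx) hconst
  -- `W = 1`
  have hW : h.W = ⊥ := by
    have h1 := hO _ (Subgroup.normalClosure_normal) hodd
    rw [eq_bot_iff, ← h1]
    exact Subgroup.subset_normalClosure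
  have hY : h.Y = (P : Subgroup G) := by unfold BS.Y; rw [hW, bot_sup_eq]
  rw [hY, hW] at hcc
  rw [hW] at hc
  have hcent : ∀ b ∈ (P : Subgroup G), b ≠ 1 → centralizer ({b} : Set G) = (P : Subgroup G) := by
    intro b hb hb1
    apply le_antisymm
    · rw [← hY]; exact h.cent_le_Y hb hb1
    · intro x hx
      rw [mem_centralizer_singleton_iff]
      exact h.hab x hx b hb
  have hinto : ∀ g : G, 2 ∣ orderOf g → ∃ y, y⁻¹ * g * y ∈ (P : Subgroup G) ∧ y⁻¹ * g * y ≠ 1 := by
    intro g hg
    obtain ⟨y, hy⟩ := hcc.ex g hg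
    have h1 : 2 ∣ orderOf (y⁻¹ * g * y) := by
      have := BlockThird.orderOf_conj g y⁻¹
      rw [inv_inv] at this
      rw [this]; exact hg
    have h2 := (hcc.sing _ hy).1 h1
    exact ⟨y, h2.1, fun e => h2.2 (by rw [e]; exact one_mem _)⟩
  have hSI : Sg G = Iv G := by
    ext g
    rw [mem_Sg, mem_Iv]
    constructor
    · intro hg
      obtain ⟨y, hy, hy1⟩ := hinto g hg
      have := BlockThird.orderOf_conj g y⁻¹
      rw [inv_inv] at this
      rw [← this]
      exact hord _ hy hy1
    · intro hg; rw [hg]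
  have hconjall : ∀ s : G, orderOf s = 2 → IsConj s a := by
    intro s hs
    obtain ⟨y, hy, hy1⟩ := hinto s (by rw [hs])
    obtain ⟨n, _, hn⟩ := htr _ hy hy1 a haP ha1
    exact (isConj_iff.2 ⟨y⁻¹, by group⟩ : IsConj s (y⁻¹ * s * y)).trans (isConj_iff.2 ⟨n, hn⟩)
  have hidx : 1 < h.H.index := by
    have h0 := h.H.index_ne_zero_of_finite
    have h1 : h.H.index ≠ 1 := fun h => hH (Subgroup.index_eq_one.mp h)
    omega
  have hL4 : L4 (P : Subgroup G) h.H (Nat.card P) := {
    hq := by omega
    hPH := h.P_le_H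
    cP := rfl
    cH := by
      have := hcc.cH
      exact this
    hHI := fun g hg hg2 => ((hcc.sing g hg).1 (by rw [hg2])).1
    hP2 := hord
    hsing := fun g hg => by rw [← mem_Iv, ← hSI, mem_Sg]; exact hg
    hconj := fun s t hs ht => (hconjall s hs).trans (hconjall t ht).symm
    hcent := by
      intro s hs
      have h1 := CharBasic.card_isConj_mul_card_centralizer s
      have h2 := CharBasic.card_isConj_mul_card_centralizer a
      have h3 := hconjall s hs
      have h4 : Nat.card {x : G // IsConj s x} = Nat.card {x : G // IsConj a x} := by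
        apply Nat.card_congr
        refine Equiv.subtypeEquivRight fun x => ⟨fun h => h3.symm.trans h, fun h => h3.trans h⟩
      rw [h4] at h1
      have h5 : Nat.card (centralizer ({a} : Set G)) = Nat.card P := by rw [hcent a haP ha1]
      rw [← h5]
      have h6 : 0 < Nat.card {x : G // IsConj a x} := by
        haveI : Nonempty {x : G // IsConj a x} := ⟨⟨a, IsConj.refl a⟩⟩
        exact Nat.card_pos
      exact Nat.eq_of_mul_eq_mul_left h6 (h1.trans h2.symm)
    hcos := by
      intro g hg
      have h1 := hcc.card_fib hc ((mk_mem_T hcc.hYH).2 hg)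
      have h2 : Nat.card (⊥ : Subgroup G) = 1 := by simp
      rw [h2] at h1
      rw [← h1]
      congr 1
      unfold fib
      rw [hSI]
      ext s
      simp only [Finset.mem_filter]
      refine and_congr_right fun _ => ?_
      rw [← QuotientGroup.eq]
    hn := by
      obtain ⟨g, hg⟩ : ∃ g, g ∉ h.H := by
        by_contra hcon
        push Not at hcon
        exact hH (eq_top_iff.2 fun x _ => hcon x)
      have hinj : Function.Injective (fun b : Option P => (match b with
        | none => (QuotientGroup.mk 1 : G ⧸ h.H)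
        | some b => (QuotientGroup.mk ((b : G) * g) : G ⧸ h.H))) := by
        have hnone : ∀ b : P, (QuotientGroup.mk 1 : G ⧸ h.H) ≠ QuotientGroup.mk ((b : G) * g) := by
          intro b hb
          rw [QuotientGroup.eq, inv_one, one_mul] at hb
          apply hg
          have : g = (b : G)⁻¹ * ((b : G) * g) := by group
          rw [this]; exact mul_mem (inv_mem (h.P_le_H b.2)) hb
        rintro (_ | b) (_ | b') hbb
        · rfl
        · exact absurd hbb (hnone b')
        · exact absurd hbb.symm (hnone b)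
        · simp only at hbb
          rw [QuotientGroup.eq] at hbb
          have e1 : ((b : G) * g)⁻¹ * ((b' : G) * g) = g⁻¹ * ((b : G)⁻¹ * b') * g := by group
          rw [e1] at hbb
          by_contra hne
          have h3 : (b : G)⁻¹ * b' ≠ 1 := by
            intro e
            apply hne
            rw [Subtype.ext (inv_mul_eq_one.1 e)]
          have h4 : (b : G)⁻¹ * b' ∈ (P : Subgroup G) := mul_mem (inv_mem b.2) b'.2
          exact hg (hcc.un _ g (by rw [hord _ h4 h3]) (h.P_le_H h4) hbb)
      have h3 := Nat.card_le_card_of_injective _ hinj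
      rw [Finite.card_option, ← Subgroup.index_eq_card] at h3
      exact h3 }
  have hcard := hL4.card_PB hM ha2 (by rw [hcent a haP ha1]; exact P.not_dvd_index)
  -- the formula
  have hk := k_eq hM {1, a} (by
      intro x hx
      simp only [Finset.mem_insert, Finset.mem_singleton] at hx
      rcases hx with rfl | rfl
      · exact ⟨0, by simp⟩
      · exact ⟨1, by rw [ha2]; norm_num⟩) (by
      rintro g ⟨k, hk⟩
      rcases Nat.eq_zero_or_pos k with h0 | h0
      · have hg1 : g = 1 := by rw [h0, pow_zero] at hk; exact orderOf_eq_one_iff.1 hk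
        refine ⟨1, ⟨by simp, by rw [hg1]⟩, ?_⟩
        rintro y ⟨_, hy⟩
        rw [hg1] at hy
        exact isConj_one_right.mp hy
      · have hg2 : orderOf g = 2 := by
          rw [← mem_Iv, ← hSI, mem_Sg, hk]; exact dvd_pow_self 2 h0.ne'
        refine ⟨a, ⟨by simp, hconjall g hg2⟩, ?_⟩
        rintro y ⟨hy, hy'⟩
        simp only [Finset.mem_insert, Finset.mem_singleton] at hy
        rcases hy with rfl | rfl
        · exfalso
          have := isConj_one_left.mp hy'
          rw [this, orderOf_one] at hg2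
          omega
        · rfl)
  rw [card_PB_eq, hcard] at hk
  have he2 : ({1, a} : Finset G).erase 1 = {a} := by
    rw [Finset.erase_insert (by simp; exact fun e => ha1 e.symm)]
  rw [he2, Finset.sum_singleton, rank_one hM h.toAS haP ha1] at hk
  exact hk.symm

end Cfsg.Agent.Lib.H70AbG
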