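import Mathlib
import Cfsg.Agent.Lib.H70AbG
import Cfsg.Agent.Lib.InducedPair
import Cfsg.Agent.Lib.PrincNilp
import Cfsg.Agent.S4571
import Cfsg.Agent.S4639
import Cfsg.Agent.S4644

/-!
# Principal 2-blocks with abelian Sylow subgroup: general tools (helper70)
-/

set_option autoImplicit false
set_option maxHeartbeats 400000

open Subgroup

namespace Cfsg.Agent.Lib.H70AbH

open Cfsg Cfsg.Agent.Lib.BlockRing Cfsg.Agent.Lib.BlockThird Cfsg.Agent.Lib.H70AbE
open Cfsg.Agent.Lib.BlockAlg (charP_Kf)
open Cfsg.Agent.Lib.PairAlg (normalizer_le_normalizer_centralizer)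
open Cfsg.Agent.Lib.BrauerPairs Cfsg.Agent.Lib.InducedPair
open Cfsg.Agent.Lib.Subsec (Cz mem_Cz)

universe u
variable {G : Type u} [Group G] [Finite G] {M : Ideal AlgInt}

theorem ind_principal {p : ℕ} [Fact p.Prime] (hM : IsPModular p M) {Q K : Subgroup G} (hQ : IsPGroup p Q) (hQK : Q ≤ K)
    (hCK : centralizer (Q : Set G) ≤ K) (hKN : K ≤ normalizer (Q : Set G)) :
    IsInducedBlock M K (principalBlock M K) (principalBlock M G) := by
  haveI := isPrime hM
  obtain ⟨B, hB⟩ := BlockHom.inducedBlockDefined hM hQ hQK hCK hKN (BlockThird.isPBlock_principal (M := M))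
  rw [← (BlockThird.induced_principal_iff hM hB).1 rfl]
  exact hB

theorem irrMap_principal [M.IsPrime] {H K : Type u} [Group H] [Group K] [Finite H] [Finite K] (φ : H ≃* K) :
    irrMap φ '' (principalBlock M H) = principalBlock M K := by
  apply BlockIdem.block_eq_of_mem (isPBlock_irrMap φ isPBlock_principal) isPBlock_principal (χ := triv K) _ triv_mem
  exact ⟨triv H, triv_mem, Subtype.ext rfl⟩

theorem indIn_principal {p : ℕ} [Fact p.Prime] (hM : IsPModular p M) {Q K H : Subgroup G} (hQ : IsPGroup p Q)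
    (hK : K = centralizer (Q : Set G)) (hQK : Q ≤ K) (hKH : K ≤ H) :
    IsInducedBlockIn M H K (principalBlock M K) (principalBlock M H) := by
  haveI := isPrime hM
  have h0 : IsPBlock M (principalBlock M K) := isPBlock_principal
  rw [isInducedBlockIn_iff' hKH h0, irrMap_principal]
  have e : K.subgroupOf H = centralizer ((Q.subgroupOf H : Subgroup H) : Set H) := by
    ext g
    rw [mem_centralizer_subgroupOf (hQK.trans hKH), mem_subgroupOf, hK]
  refine ind_principal hM (Q := Q.subgroupOf H) (hQ.comap_of_injective H.subtype H.subtype_injective) ?_ (le_of_eq e.symm) ?_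
  · intro x hx
    exact mem_subgroupOf.2 (hQK (mem_subgroupOf.1 hx))
  · rw [e]; exact Subgroup.centralizer_le_normalizer _

variable {P : Sylow 2 G}

theorem hT_iff (hM : IsPModular 2 M) (P : Sylow 2 G) (g : G) : g ∈ normalizer ((P : Subgroup G) : Set G) ↔
    (g ∈ normalizer ((P : Subgroup G) : Set G) ∧
      StabilizesBlock (centralizer ((P : Subgroup G) : Set G)) (principalBlock M (centralizer ((P : Subgroup G) : Set G))) g) := by
  haveI : Fact (Nat.Prime 2) := ⟨Nat.prime_two⟩
  haveI : M.IsMaximal := hM.2.1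
  haveI := charP_Kf hM
  refine ⟨fun h => ⟨h, ?_⟩, fun h => h.1⟩
  apply PrincNilp.stabilizes_principal
  exact normalizer_le_normalizer_centralizer _ h

theorem normalizer_le_normalizer_centralizer' (P : Sylow 2 G) :
    normalizer ((P : Subgroup G) : Set G) ≤ normalizer ((centralizer ((P : Subgroup G) : Set G) : Subgroup G) : Set G) :=
  normalizer_le_normalizer_centralizer _

theorem le_cent (hab : ∀ a ∈ (P : Subgroup G), ∀ b ∈ (P : Subgroup G), a * b = b * a) :
    (P : Subgroup G) ≤ centralizer ((P : Subgroup G) : Set G) := by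
  intro x hx
  rw [mem_centralizer_iff]
  intro y hy
  exact hab y hy x hx

/-- S4639 for the principal block -/
theorem ub (hM : IsPModular 2 M) (h : AS P) (hP1 : (P : Subgroup G) ≠ ⊥)
    (hE : ∀ g ∈ normalizer ((P : Subgroup G) : Set G), ∀ k ∈ normalizer ((P : Subgroup G) : Set G),
      g * k * g⁻¹ * k⁻¹ ∈ centralizer ((P : Subgroup G) : Set G)) :
    blockRank 2 (principalBlock M G) ≤ (centralizer ((P : Subgroup G) : Set G)).relIndex (normalizer ((P : Subgroup G) : Set G)) ∧
    ((centralizer ((P : Subgroup G) : Set G)).relIndex (normalizer ((P : Subgroup G) : Set G)) ≤ 3 →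
      blockRank 2 (principalBlock M G) =
        (centralizer ((P : Subgroup G) : Set G)).relIndex (normalizer ((P : Subgroup G) : Set G))) := by
  haveI : Fact (Nat.Prime 2) := ⟨Nat.prime_two⟩
  haveI := isPrime hM
  have := Fintype.ofFinite G
  have hS := S4639.result 2 M hM (principalBlock M G) isPBlock_principal (P : Subgroup G)
    ((S4652.result 2 M hM _).mpr ⟨P, rfl⟩) hP1 h.hab (principalBlock M _)
    (ind_principal hM P.isPGroup' (le_cent h.hab) le_rfl (Subgroup.centralizer_le_normalizer _))
    (normalizer ((P : Subgroup G) : Set G)) (hT_iff hM P) _ rfl hE ?_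
  · exact ⟨hS.2.1, fun h3 => (hS.2.2.2 h3).2⟩
  · intro g hg x hx hx1 hgx
    rw [mem_centralizer_iff]
    intro y hy
    have := h.sr x hx hx1 g hg hgx y hy
    exact (mul_inv_eq_iff_eq_mul.1 this).symm

/-- S4644 for the principal block -/
theorem wat (hM : IsPModular 2 M) (hab : ∀ a ∈ (P : Subgroup G), ∀ b ∈ (P : Subgroup G), a * b = b * a)
    {u : G} (hu : u ∈ (P : Subgroup G)) (hfix : ∀ n ∈ normalizer ((P : Subgroup G) : Set G), n * u * n⁻¹ = u) :
    blockRank 2 (principalBlock M G) = blockRank 2 (principalBlock M (centralizer ({u} : Set G))) ∧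
    Nat.card (principalBlock M G) = Nat.card (principalBlock M (centralizer ({u} : Set G))) := by
  haveI : Fact (Nat.Prime 2) := ⟨Nat.prime_two⟩
  haveI := isPrime hM
  have := Fintype.ofFinite G
  refine S4644.result 2 M hM (principalBlock M G) isPBlock_principal (P : Subgroup G)
    ((S4652.result 2 M hM _).mpr ⟨P, rfl⟩) hab (principalBlock M _)
    (ind_principal hM P.isPGroup' (le_cent hab) le_rfl (Subgroup.centralizer_le_normalizer _))
    (normalizer ((P : Subgroup G) : Set G)) (hT_iff hM P) u hu hfix _ rfl _ ?_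
  apply indIn_principal hM P.isPGroup' rfl (le_cent hab)
  intro g hg
  rw [mem_centralizer_singleton_iff]
  exact (mem_centralizer_iff.1 hg u hu).symm

/-- central elements -/
theorem quot (hM : IsPModular 2 M) {u : G} (hu : u ∈ (P : Subgroup G)) (hc : ∀ g : G, g * u = u * g) [(zpowers u).Normal] :
    blockRank 2 (principalBlock M G) = blockRank 2 (principalBlock M (G ⧸ zpowers u)) := by
  haveI : Fact (Nat.Prime 2) := ⟨Nat.prime_two⟩
  refine S4571.result 2 M hM (zpowers u) (P.isPGroup'.to_le (by rwa [zpowers_le])) ?_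
  rw [eq_top_iff]
  intro g _
  apply le_sup_right (a := zpowers u)
  rw [mem_centralizer_iff]
  intro y hy
  obtain ⟨k, rfl⟩ := mem_zpowers_iff.1 hy
  exact ((show Commute g u from hc g).zpow_right k).eq.symm

end Cfsg.Agent.Lib.H70AbH
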