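import Mathlib
import Cfsg.Agent.Lib.H70AbH
import Cfsg.Agent.Lib.BlockInfl

/-!
# Principal 2-blocks with abelian Sylow subgroup: quotients (helper70)
-/

set_option autoImplicit false
set_option maxHeartbeats 400000

open Subgroup

namespace Cfsg.Agent.Lib.H70AbI

open Cfsg Cfsg.Agent.Lib.BlockRing Cfsg.Agent.Lib.BlockThird Cfsg.Agent.Lib.H70AbE
open Cfsg.Agent.Lib.BlockCount Cfsg.Agent.Lib.H76Blk2 Cfsg.Agent.Lib.BlockOsima Cfsg.Agent.Lib.BlockPair
open Cfsg.Agent.Lib.Subsec (Cz mem_Cz)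

universe u v
variable {G : Type u} [Group G] [Finite G] {M : Ideal AlgInt}

theorem rank_quot_odd {p : ℕ} [Fact p.Prime] (hM : IsPModular p M) (N : Subgroup G) [N.Normal] (hN : ¬ p ∣ Nat.card N) :
    blockRank p (principalBlock M G) = blockRank p (principalBlock M (G ⧸ N)) := by
  classical
  have := isPrime hM
  have h1 : rsp p (principalBlock M G) = (rsp p (principalBlock M (G ⧸ N))).map (T p N) := by
    rw [rsp, rsp, Submodule.map_span]
    congr 1
    ext v
    constructor
    · rintro ⟨χ, hχ, rfl⟩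
      obtain ⟨ψ, hψ, h⟩ := Cfsg.Agent.Lib.BlockInfl.exists_deflate hM N hN hχ
      refine ⟨preg p (ψ : G ⧸ N → ℂ), ⟨ψ, hψ, rfl⟩, ?_⟩
      rw [T_preg]
      show preg p (infl N ψ : G → ℂ) = preg p (χ : G → ℂ)
      congr 1
      funext g
      exact (h g).symm
    · rintro ⟨_, ⟨ψ, hψ, rfl⟩, rfl⟩
      exact ⟨infl N ψ, Cfsg.Agent.Lib.BlockInfl.inflate_mem_principal N hψ, (T_preg p N ψ).symm⟩
  rw [blockRank_eq, blockRank_eq, h1]
  have hinj : Function.Injective ((T p N).domRestrict (rsp p (principalBlock M (G ⧸ N)))) := by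
    rw [← LinearMap.ker_eq_bot, LinearMap.ker_eq_bot']
    rintro ⟨f, hf⟩ h
    apply Subtype.ext
    funext y
    show f y = 0
    by_cases hy : p ∣ orderOf y
    · exact rsp_reg hf hy
    · obtain ⟨x, hx, rfl⟩ := exists_regular_lift hM.1 N hy
      have h1 := congrFun h x
      have h2 : T p N f x = 0 := h1
      rw [T_apply, if_neg hx] at h2
      exact h2
  have h2 := LinearMap.finrank_range_of_inj hinj
  rw [← h2, LinearMap.range_domRestrict]

variable {P : Sylow 2 G} {Q : Type v} [Group Q] [Finite Q]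

/-- Frattini -/
theorem frattini {f : G →* Q} [Fact (Nat.Prime 2)] (hf : Function.Surjective f) (P : Sylow 2 G) {q : Q}
    (hq : q ∈ normalizer ((P.mapSurjective hf : Subgroup Q) : Set Q)) :
    ∃ n ∈ normalizer ((P : Subgroup G) : Set G), f n = q := by
  obtain ⟨g, rfl⟩ := hf q
  have hmem : ∀ {y : G}, y ∈ (P : Subgroup G) → f y ∈ (P.mapSurjective hf : Subgroup Q) := by
    intro y hy
    rw [Sylow.coe_mapSurjective]
    exact mem_map_of_mem f hy
  set L : Subgroup G := (P.mapSurjective hf : Subgroup Q).comap f with hL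
  have hPL : (P : Subgroup G) ≤ L := fun y hy => mem_comap.2 (hmem hy)
  have hQL : ((g • P : Sylow 2 G) : Subgroup G) ≤ L := by
    intro y hy
    rw [Sylow.coe_subgroup_smul, Subgroup.mem_pointwise_smul_iff_inv_smul_mem] at hy
    simp only [← map_inv, MulAut.smul_def, MulAut.conj_apply, inv_inv] at hy
    rw [hL, mem_comap]
    have h1 := (mem_normalizer_iff.1 hq _).1 (hmem hy)
    have h2 : f g * f (g⁻¹ * y * g) * (f g)⁻¹ = f y := by
      rw [map_mul, map_mul, map_inv]; group
    rwa [h2] at h1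
  obtain ⟨l, hl⟩ := MulAction.exists_smul_eq L ((g • P : Sylow 2 G).subtype hQL) (P.subtype hPL)
  have hn : (l : G) * g ∈ normalizer ((P : Subgroup G) : Set G) := by
    apply mem_normalizer_fintype
    intro x hx
    have hgx : g * x * g⁻¹ ∈ ((g • P : Sylow 2 G) : Subgroup G) := by
      rw [Sylow.coe_subgroup_smul, Subgroup.mem_pointwise_smul_iff_inv_smul_mem]
      simp only [← map_inv, MulAut.smul_def, MulAut.conj_apply, inv_inv]
      have : g⁻¹ * (g * x * g⁻¹) * g = x := by group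
      rw [this]; exact hx
    have h1 : l * ⟨g * x * g⁻¹, hQL hgx⟩ * l⁻¹ ∈ ((P.subtype hPL : Sylow 2 L) : Subgroup L) := by
      rw [← hl, Sylow.coe_subgroup_smul, Subgroup.mem_pointwise_smul_iff_inv_smul_mem]
      simp only [← map_inv, MulAut.smul_def, MulAut.conj_apply, inv_inv]
      have : l⁻¹ * (l * ⟨g * x * g⁻¹, hQL hgx⟩ * l⁻¹) * l = ⟨g * x * g⁻¹, hQL hgx⟩ := by group
      rw [this, Sylow.coe_subtype, mem_subgroupOf]
      exact hgx
    rw [Sylow.coe_subtype, mem_subgroupOf] at h1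
    have h2 : (((l * ⟨g * x * g⁻¹, hQL hgx⟩ * l⁻¹ : L) : G)) = l * g * x * (l * g)⁻¹ := by
      simp only [Subgroup.coe_mul, Subgroup.coe_inv, mul_inv_rev]
      group
    rw [h2] at h1
    exact h1
  have hlP : f l ∈ (P.mapSurjective hf : Subgroup Q) := mem_comap.1 l.2
  rw [Sylow.coe_mapSurjective, mem_map] at hlP
  obtain ⟨p, hp, hpl⟩ := hlP
  refine ⟨p⁻¹ * (l * g), Subgroup.mul_mem _ (Subgroup.inv_mem _ (le_normalizer hp)) hn, ?_⟩
  rw [map_mul, map_mul, map_inv, ← hpl]
  group

/-- a surjection which is good for `P` -/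
structure Gd (P : Sylow 2 G) (f : G →* Q) : Prop where
  hf : Function.Surjective f
  star : ∀ n ∈ normalizer ((P : Subgroup G) : Set G), ∀ y ∈ (P : Subgroup G), f (n * y * n⁻¹) = f y → n * y * n⁻¹ = y

structure GS (P : Sylow 2 G) : Prop where
  hab : ∀ a ∈ (P : Subgroup G), ∀ b ∈ (P : Subgroup G), a * b = b * a
  sr : ∀ x ∈ (P : Subgroup G), ∀ n ∈ normalizer ((P : Subgroup G) : Set G), n * x * n⁻¹ = x →
    (∀ y ∈ (P : Subgroup G), n * y * n⁻¹ = y) ∨ (∀ m ∈ normalizer ((P : Subgroup G) : Set G), m * x * m⁻¹ = x)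
  hE : ∀ g ∈ normalizer ((P : Subgroup G) : Set G), ∀ k ∈ normalizer ((P : Subgroup G) : Set G),
      g * k * g⁻¹ * k⁻¹ ∈ centralizer ((P : Subgroup G) : Set G)

theorem mem_cent_iff {A : Subgroup G} {g : G} : g ∈ centralizer (A : Set G) ↔ ∀ y ∈ A, g * y * g⁻¹ = y := by
  rw [mem_centralizer_iff]
  constructor
  · intro h y hy
    rw [← h y hy]; group
  · intro h y hy
    exact (mul_inv_eq_iff_eq_mul.1 (h y hy)).symm

variable {f : G →* Q} [hp2 : Fact (Nat.Prime 2)]

theorem Gd.mem_N (h : Gd P f) {n : G} (hn : n ∈ normalizer ((P : Subgroup G) : Set G)) :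
    f n ∈ normalizer ((P.mapSurjective h.hf : Subgroup Q) : Set Q) := by
  apply mem_normalizer_fintype
  intro x hx
  rw [SetLike.mem_coe, Sylow.coe_mapSurjective, mem_map] at hx ⊢
  obtain ⟨y, hy, rfl⟩ := hx
  exact ⟨n * y * n⁻¹, (mem_normalizer_iff.1 hn y).1 hy, by simp⟩

theorem Gd.mem_P (h : Gd P f) {q : Q} : q ∈ (P.mapSurjective h.hf : Subgroup Q) ↔ ∃ y ∈ (P : Subgroup G), f y = q := by
  rw [Sylow.coe_mapSurjective, mem_map]

theorem Gd.mem_C (h : Gd P f) {n : G} (hn : n ∈ normalizer ((P : Subgroup G) : Set G)) :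
    f n ∈ centralizer ((P.mapSurjective h.hf : Subgroup Q) : Set Q) ↔ n ∈ centralizer ((P : Subgroup G) : Set G) := by
  rw [mem_cent_iff, mem_cent_iff]
  constructor
  · intro h1 y hy
    apply h.star n hn y hy
    have := h1 (f y) (h.mem_P.2 ⟨y, hy, rfl⟩)
    rw [map_mul, map_mul, map_inv]; exact this
  · intro h1 q hq
    obtain ⟨y, hy, rfl⟩ := h.mem_P.1 hq
    rw [← map_inv, ← map_mul, ← map_mul, h1 y hy]

theorem Gd.relIndex (h : Gd P f) :
    (centralizer ((P.mapSurjective h.hf : Subgroup Q) : Set Q)).relIndex (normalizer ((P.mapSurjective h.hf : Subgroup Q) : Set Q)) =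
    (centralizer ((P : Subgroup G) : Set G)).relIndex (normalizer ((P : Subgroup G) : Set G)) := by
  have h1 : normalizer ((P.mapSurjective h.hf : Subgroup Q) : Set Q) = (normalizer ((P : Subgroup G) : Set G)).map f := by
    ext q
    constructor
    · intro hq
      obtain ⟨n, hn, rfl⟩ := frattini h.hf P hq
      exact mem_map_of_mem f hn
    · intro hq
      obtain ⟨n, hn, rfl⟩ := mem_map.1 hq
      exact h.mem_N hn
  rw [h1, ← relIndex_comap, ← inf_relIndex_right]
  conv_rhs => rw [← inf_relIndex_right]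
  congr 1
  ext n
  rw [Subgroup.mem_inf, Subgroup.mem_inf, mem_comap]
  constructor
  · rintro ⟨h2, h3⟩
    exact ⟨(h.mem_C h3).1 h2, h3⟩
  · rintro ⟨h2, h3⟩
    exact ⟨(h.mem_C h3).2 h2, h3⟩

theorem Gd.gs (h : Gd P f) (hG : GS P) : GS (P.mapSurjective h.hf) where
  hab := by
    intro a ha b hb
    obtain ⟨x, hx, rfl⟩ := h.mem_P.1 ha
    obtain ⟨y, hy, rfl⟩ := h.mem_P.1 hb
    rw [← map_mul, hG.hab x hx y hy, map_mul]
  sr := by
    intro a ha q hq haq
    obtain ⟨x, hx, rfl⟩ := h.mem_P.1 ha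
    obtain ⟨n, hn, rfl⟩ := frattini h.hf P hq
    have h1 : n * x * n⁻¹ = x := h.star n hn x hx (by rw [map_mul, map_mul, map_inv]; exact haq)
    rcases hG.sr x hx n hn h1 with h2 | h2
    · left
      intro b hb
      obtain ⟨y, hy, rfl⟩ := h.mem_P.1 hb
      rw [← map_inv, ← map_mul, ← map_mul, h2 y hy]
    · right
      intro r hr
      obtain ⟨m, hm, rfl⟩ := frattini h.hf P hr
      rw [← map_inv, ← map_mul, ← map_mul, h2 m hm]
  hE := by
    intro a ha b hb
    obtain ⟨x, hx, rfl⟩ := frattini h.hf P ha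
    obtain ⟨y, hy, rfl⟩ := frattini h.hf P hb
    rw [← map_inv, ← map_inv, ← map_mul, ← map_mul, ← map_mul]
    refine (h.mem_C ?_).2 (hG.hE x hx y hy)
    exact Subgroup.mul_mem _ (Subgroup.mul_mem _ (Subgroup.mul_mem _ hx hy) (Subgroup.inv_mem _ hx)) (Subgroup.inv_mem _ hy)

theorem Gd.as (h : Gd P f) (hG : AS P) : AS (P.mapSurjective h.hf) where
  hab := by
    intro a ha b hb
    obtain ⟨x, hx, rfl⟩ := h.mem_P.1 ha
    obtain ⟨y, hy, rfl⟩ := h.mem_P.1 hb
    rw [← map_mul, hG.hab x hx y hy, map_mul]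
  sr := by
    intro a ha ha1 q hq haq b hb
    obtain ⟨x, hx, rfl⟩ := h.mem_P.1 ha
    obtain ⟨n, hn, rfl⟩ := frattini h.hf P hq
    obtain ⟨y, hy, rfl⟩ := h.mem_P.1 hb
    have h1 : n * x * n⁻¹ = x := h.star n hn x hx (by rw [map_mul, map_mul, map_inv]; exact haq)
    rw [← map_inv, ← map_mul, ← map_mul, hG.sr x hx (fun e => ha1 (by rw [e, map_one])) n hn h1 y hy]

omit hp2 in
theorem inf_odd (P : Sylow 2 G) {N : Subgroup G} (hN : ¬ 2 ∣ Nat.card N) {x : G} (hx : x ∈ (P : Subgroup G)) (hxN : x ∈ N) : x = 1 := by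
  obtain ⟨k, hk⟩ := orderOf_mem P hx
  have h1 := orderOf_dvd_natCard (⟨x, hxN⟩ : N)
  rw [Subgroup.orderOf_mk, hk] at h1
  rcases Nat.eq_zero_or_pos k with h0 | h0
  · rw [h0, pow_zero] at hk; exact orderOf_eq_one_iff.1 hk
  · exact absurd ((dvd_pow_self 2 h0.ne').trans h1) hN

omit hp2 in
theorem gd_odd (P : Sylow 2 G) (N : Subgroup G) [N.Normal] (hN : ¬ 2 ∣ Nat.card N) : Gd P (QuotientGroup.mk' N) where
  hf := QuotientGroup.mk'_surjective N
  star := by
    intro n hn y hy he
    have h1 : (n * y * n⁻¹)⁻¹ * y ∈ N := QuotientGroup.eq.1 he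
    have h2 : (n * y * n⁻¹)⁻¹ * y ∈ (P : Subgroup G) :=
      mul_mem (inv_mem ((mem_normalizer_iff.1 hn y).1 hy)) hy
    exact inv_mul_eq_one.1 (inf_odd P hN h2 h1)

/-- `N(P)/C(P)` has odd order -/
theorem odd_relIndex (hab : ∀ a ∈ (P : Subgroup G), ∀ b ∈ (P : Subgroup G), a * b = b * a) :
    ¬ 2 ∣ (centralizer ((P : Subgroup G) : Set G)).relIndex (normalizer ((P : Subgroup G) : Set G)) := by
  intro h
  apply P.not_dvd_index
  have h1 : (P : Subgroup G).relIndex (normalizer ((P : Subgroup G) : Set G)) ∣ (P : Subgroup G).index :=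
    relIndex_dvd_index_of_le le_normalizer
  have h2 : (centralizer ((P : Subgroup G) : Set G)).relIndex (normalizer ((P : Subgroup G) : Set G)) ∣
      (P : Subgroup G).relIndex (normalizer ((P : Subgroup G) : Set G)) :=
    relIndex_dvd_of_le_left _ (H70AbH.le_cent hab)
  exact h.trans (h2.trans h1)

theorem pow_mem_cent {n : G} (hn : n ∈ normalizer ((P : Subgroup G) : Set G)) :
    n ^ (centralizer ((P : Subgroup G) : Set G)).relIndex (normalizer ((P : Subgroup G) : Set G)) ∈
      centralizer ((P : Subgroup G) : Set G) := by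
  haveI : ((centralizer ((P : Subgroup G) : Set G)).subgroupOf (normalizer ((P : Subgroup G) : Set G))).Normal :=
    Subgroup.normal_subgroupOf_of_le_normalizer (H70AbH.normalizer_le_normalizer_centralizer' P)
  have := Subgroup.pow_index_mem ((centralizer ((P : Subgroup G) : Set G)).subgroupOf (normalizer ((P : Subgroup G) : Set G))) ⟨n, hn⟩
  exact mem_subgroupOf.1 this

theorem gd_central (hab : ∀ a ∈ (P : Subgroup G), ∀ b ∈ (P : Subgroup G), a * b = b * a) {u : G}
    (hu : u ∈ (P : Subgroup G)) (hc : ∀ g : G, g * u = u * g) [(zpowers u).Normal] :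
    Gd P (QuotientGroup.mk' (zpowers u)) where
  hf := QuotientGroup.mk'_surjective _
  star := by
    intro n hn y hy he
    have h1 : (n * y * n⁻¹)⁻¹ * y ∈ zpowers u := QuotientGroup.eq.1 he
    set z := (n * y * n⁻¹)⁻¹ * y with hz
    have hzc : ∀ g : G, g * z = z * g := by
      obtain ⟨k, hk⟩ := mem_zpowers_iff.1 h1
      intro g
      rw [← hk]
      exact ((show Commute g u from hc g).zpow_right k).eq
    have hzP : z ∈ (P : Subgroup G) := by
      have : zpowers u ≤ (P : Subgroup G) := by rwa [zpowers_le]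
      exact this h1
    have h2 : ∀ k : ℕ, n ^ k * y * (n ^ k)⁻¹ = y * (z⁻¹) ^ k := by
      intro k
      induction k with
      | zero => simp
      | succ k ih =>
        have h3 : n * y * n⁻¹ = y * z⁻¹ := by rw [hz]; group
        have hzc' : n * (z⁻¹) ^ k * n⁻¹ = (z⁻¹) ^ k := by
          have := ((show Commute n z from hzc n).inv_right.pow_right k).eq
          rw [this]; group
        calc n ^ (k + 1) * y * (n ^ (k + 1))⁻¹ = n * (n ^ k * y * (n ^ k)⁻¹) * n⁻¹ := by
              rw [pow_succ']; group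
          _ = n * (y * (z⁻¹) ^ k) * n⁻¹ := by rw [ih]
          _ = (n * y * n⁻¹) * (n * (z⁻¹) ^ k * n⁻¹) := by group
          _ = y * z⁻¹ * (z⁻¹) ^ k := by rw [h3, hzc']
          _ = y * (z⁻¹) ^ (k + 1) := by rw [pow_succ', mul_assoc]
    have h4 := h2 ((centralizer ((P : Subgroup G) : Set G)).relIndex (normalizer ((P : Subgroup G) : Set G)))
    rw [(mem_cent_iff.1 (pow_mem_cent hn)) y hy] at h4
    have h5 : z ^ ((centralizer ((P : Subgroup G) : Set G)).relIndex (normalizer ((P : Subgroup G) : Set G))) = 1 := by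
      have := (left_eq_mul.1 h4)
      rw [inv_pow, inv_eq_one] at this
      exact this
    have h6 := orderOf_dvd_of_pow_eq_one h5
    obtain ⟨k, hk⟩ := orderOf_mem P hzP
    have h7 : z = 1 := by
      rcases Nat.eq_zero_or_pos k with h0 | h0
      · rw [h0, pow_zero] at hk; exact orderOf_eq_one_iff.1 hk
      · rw [hk] at h6
        exact absurd ((dvd_pow_self 2 h0.ne').trans h6) (odd_relIndex hab)
    exact inv_mul_eq_one.1 h7

/-- `GS` in centralizers of fixed elements -/
theorem gs_cent (hG : GS P) {u : G} (hu : u ∈ (P : Subgroup G))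
    (hfix : ∀ n ∈ normalizer ((P : Subgroup G) : Set G), n * u * n⁻¹ = u) :
    ∃ P' : Sylow 2 (centralizer ({u} : Set G)), (P' : Subgroup (centralizer ({u} : Set G))) =
        (P : Subgroup G).subgroupOf (centralizer ({u} : Set G)) ∧ GS P' ∧
      (centralizer ((P' : Subgroup (centralizer ({u} : Set G))) : Set (centralizer ({u} : Set G)))).relIndex
        (normalizer ((P' : Subgroup (centralizer ({u} : Set G))) : Set (centralizer ({u} : Set G)))) =
      (centralizer ((P : Subgroup G) : Set G)).relIndex (normalizer ((P : Subgroup G) : Set G)) := by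
  set H := centralizer ({u} : Set G) with hH
  have hNH : normalizer ((P : Subgroup G) : Set G) ≤ H := by
    intro n hn
    rw [mem_centralizer_singleton_iff]
    exact mul_inv_eq_iff_eq_mul.1 (hfix n hn)
  have hPH : (P : Subgroup G) ≤ H := le_normalizer.trans hNH
  have e1 : ((P.subtype hPH : Sylow 2 H) : Subgroup H) = (P : Subgroup G).subgroupOf H := Sylow.coe_subtype _ _
  have hP' : ∀ x : H, x ∈ ((P.subtype hPH : Sylow 2 H) : Subgroup H) ↔ (x : G) ∈ (P : Subgroup G) := by
    intro x; rw [e1, mem_subgroupOf]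
  have hN' : ∀ x : H, x ∈ normalizer (((P.subtype hPH : Sylow 2 H) : Subgroup H) : Set H) ↔
      (x : G) ∈ normalizer ((P : Subgroup G) : Set G) := by
    intro x
    constructor
    · intro hx
      apply mem_normalizer_fintype
      intro y hy
      exact (hP' _).1 ((mem_normalizer_iff.1 hx ⟨y, hPH hy⟩).1 ((hP' _).2 hy))
    · intro hx
      apply mem_normalizer_fintype
      intro y hy
      exact (hP' _).2 ((mem_normalizer_iff.1 hx y).1 ((hP' _).1 hy))
  have hC' : ∀ x : H, x ∈ centralizer (((P.subtype hPH : Sylow 2 H) : Subgroup H) : Set H) ↔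
      (x : G) ∈ centralizer ((P : Subgroup G) : Set G) := by
    intro x
    rw [mem_cent_iff, mem_cent_iff]
    constructor
    · intro hx y hy
      exact congrArg Subtype.val (hx ⟨y, hPH hy⟩ ((hP' _).2 hy))
    · intro hx y hy
      exact Subtype.ext (hx y ((hP' _).1 hy))
  refine ⟨P.subtype hPH, e1, ⟨?_, ?_, ?_⟩, ?_⟩
  · intro a ha b hb
    exact Subtype.ext (hG.hab a ((hP' _).1 ha) b ((hP' _).1 hb))
  · intro x hx n hn hnx
    rcases hG.sr x ((hP' _).1 hx) n ((hN' _).1 hn) (congrArg Subtype.val hnx) with h2 | h2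
    · left
      intro y hy
      exact Subtype.ext (h2 y ((hP' _).1 hy))
    · right
      intro m hm
      exact Subtype.ext (h2 m ((hN' _).1 hm))
  · intro g hg k hk
    exact (hC' _).2 (hG.hE g ((hN' _).1 hg) k ((hN' _).1 hk))
  · have e2 : centralizer (((P.subtype hPH : Sylow 2 H) : Subgroup H) : Set H) = (centralizer ((P : Subgroup G) : Set G)).subgroupOf H := by
      ext x; rw [hC', mem_subgroupOf]
    have e3 : normalizer (((P.subtype hPH : Sylow 2 H) : Subgroup H) : Set H) = (normalizer ((P : Subgroup G) : Set G)).subgroupOf H := by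
      ext x; rw [hN', mem_subgroupOf]
    rw [e2, e3, relIndex_subgroupOf hNH]

end Cfsg.Agent.Lib.H70AbI
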