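import Mathlib
import Cfsg.Agent.Lib.H70AbI
import Cfsg.Agent.Lib.Cores

/-!
# Principal 2-blocks with abelian Sylow subgroup: the rank (helper70)
-/

set_option autoImplicit false
set_option maxHeartbeats 400000

open Subgroup

namespace Cfsg.Agent.Lib.H70AbJ

open Cfsg Cfsg.Agent.Lib.BlockRing Cfsg.Agent.Lib.BlockGA Cfsg.Agent.Lib.BlockThird Cfsg.Agent.Lib.H70AbE
open Cfsg.Agent.Lib.H70AbF Cfsg.Agent.Lib.H70AbG Cfsg.Agent.Lib.H70AbH Cfsg.Agent.Lib.H70AbI Cfsg.Agent.Lib.H70AbB
open Cfsg.Agent.Lib.BlockCount Cfsg.Agent.Lib.H76Blk2 Cfsg.Agent.Lib.BlockOsima Cfsg.Agent.Lib.BlockPair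
open Cfsg.Agent.Lib.Subsec (Cz mem_Cz)
open scoped Classical

universe u
variable {G : Type u} [Group G] [Finite G] {M : Ideal AlgInt} {P : Sylow 2 G}

/-- lower bound for the rank -/
theorem lower (hM : IsPModular 2 M) {Y : Subgroup G} [Y.Normal]
    (hcl : ∀ g : G, g ∉ Y → 2 ∣ (centralizer ({g} : Set G)).index)
    (hodd : ¬ 2 ∣ Y.index) (hcomm : ∀ a b : G ⧸ Y, a * b = b * a) : Y.index ≤ blockRank 2 (principalBlock M G) := by
  haveI : Fact (Nat.Prime 2) := ⟨Nat.prime_two⟩
  have := isPrime hM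
  have := Fintype.ofFinite G
  have := Fintype.ofFinite (G ⧸ Y)
  have hin : ∀ ψ : IrrCharacter (G ⧸ Y), infl Y ψ ∈ principalBlock M G := by
    intro ψ
    show SameBlock M (fun _ : G => (1 : ℂ)) (infl Y ψ : G → ℂ)
    intro g
    unfold centralChar
    have e0 : (infl Y ψ : G → ℂ) g = (ψ : G ⧸ Y → ℂ) (g : G ⧸ Y) := rfl
    have e1 : (infl Y ψ : G → ℂ) 1 = (ψ : G ⧸ Y → ℂ) 1 := rfl
    rw [e0, e1]
    have h10 := ψ.2.one_ne_zero
    by_cases hg : g ∈ Y
    · rw [(QuotientGroup.eq_one_iff g).2 hg, mul_one, div_one, mul_div_assoc, div_self h10, mul_one, sub_self]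
      exact idl_zero
    · obtain ⟨k, hk⟩ := hcl g hg
      have h1 := loc_centralChar (M := M) ψ.2 (g : G ⧸ Y)
      unfold centralChar at h1
      have h2 : (centralizer ({(g : G ⧸ Y)} : Set (G ⧸ Y))).index = 1 := by
        rw [Subgroup.index_eq_one, eq_top_iff]
        intro x _
        rw [mem_centralizer_singleton_iff]
        exact hcomm _ _
      rw [h2, Nat.cast_one, one_mul] at h1
      have h3 : MemLocalIdeal M (((2 : ℕ) : ℂ) * ((k : ℂ) * (1 - (ψ : G ⧸ Y → ℂ) (g : G ⧸ Y) / (ψ : G ⧸ Y → ℂ) 1))) :=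
        idl_mul_right (idl_p hM) (loc_mul (loc_natCast k) (loc_sub loc_one h1))
      have h4 : ((2 : ℕ) : ℂ) * ((k : ℂ) * (1 - (ψ : G ⧸ Y → ℂ) (g : G ⧸ Y) / (ψ : G ⧸ Y → ℂ) 1)) =
          ((centralizer ({g} : Set G)).index : ℂ) * 1 / 1 -
          ((centralizer ({g} : Set G)).index : ℂ) * (ψ : G ⧸ Y → ℂ) (g : G ⧸ Y) / (ψ : G ⧸ Y → ℂ) 1 := by
        rw [hk]; push_cast; ring
      rwa [h4] at h3
  have hle : ∀ f : G ⧸ Y → ℂ, T 2 Y f ∈ rsp 2 (principalBlock M G) := by
    intro f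
    have hf : IsClassFunction (G ⧸ Y) f := by
      intro g h
      rw [hcomm h g, mul_inv_cancel_right]
    rw [hf.expansion, map_sum]
    apply Submodule.sum_mem
    intro ψ _
    rw [map_smul]
    apply Submodule.smul_mem
    exact Submodule.subset_span ⟨infl Y ψ, hin ψ, rfl⟩
  have hinj : Function.Injective (T 2 Y) := by
    intro f g h
    funext y
    have hy : ¬ 2 ∣ orderOf y := fun h => hodd (h.trans (by
      rw [Subgroup.index_eq_card]; exact orderOf_dvd_natCard y))
    obtain ⟨x, hx, rfl⟩ := exists_regular_lift hM.1 Y hy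
    have h1 := congrFun h x
    rwa [T_apply, T_apply, if_neg hx, if_neg hx] at h1
  have h1 : Module.finrank ℂ (G ⧸ Y → ℂ) ≤ Module.finrank ℂ (rsp 2 (principalBlock M G)) :=
    LinearMap.finrank_le_finrank_of_injective (f := (T 2 Y).codRestrict _ hle) (by
      intro f g h
      exact hinj (congrArg Subtype.val h))
  rw [Module.finrank_fintype_fun_eq_card] at h1
  rw [blockRank_eq, Subgroup.index_eq_card, Nat.card_eq_fintype_card]
  exact h1

/-- odd class: some conjugate centralizes `P` -/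
theorem exists_conj_cent (P : Sylow 2 G) {g : G} (h : ¬ 2 ∣ (centralizer ({g} : Set G)).index) :
    ∃ c : G, c⁻¹ * g * c ∈ centralizer ((P : Subgroup G) : Set G) := by
  haveI : Fact (Nat.Prime 2) := ⟨Nat.prime_two⟩
  obtain ⟨q, hq⟩ := P.isPGroup'.nonempty_fixed_point_of_prime_not_dvd_card (G ⧸ centralizer ({g} : Set G))
    (by rwa [← Subgroup.index_eq_card])
  obtain ⟨c, rfl⟩ := QuotientGroup.mk_surjective q
  refine ⟨c⁻¹, ?_⟩
  rw [inv_inv, mem_centralizer_iff]
  intro x hx
  have h1 := hq ⟨x, hx⟩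
  have h2 : (QuotientGroup.mk (x * c) : G ⧸ centralizer ({g} : Set G)) = QuotientGroup.mk c := h1
  rw [QuotientGroup.eq, mem_centralizer_singleton_iff] at h2
  have h3 : x⁻¹ * (c * g * c⁻¹) = c * g * c⁻¹ * x⁻¹ := by
    have := congrArg (fun z => c * z * c⁻¹) h2
    simpa [mul_assoc] using this
  have h4 : c * g * c⁻¹ = x * (c * g * c⁻¹) * x⁻¹ := by
    have := congrArg (fun z => x * z) h3
    simpa [mul_assoc] using this
  exact (eq_mul_inv_iff_mul_eq.1 h4).symm

theorem top_case (hM : IsPModular 2 M) (h : BS P) (hH : h.H = ⊤)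
    (hE : ∀ g ∈ normalizer ((P : Subgroup G) : Set G), ∀ k ∈ normalizer ((P : Subgroup G) : Set G),
      g * k * g⁻¹ * k⁻¹ ∈ centralizer ((P : Subgroup G) : Set G)) :
    (centralizer ((P : Subgroup G) : Set G)).relIndex (normalizer ((P : Subgroup G) : Set G)) ≤ blockRank 2 (principalBlock M G) := by
  have hCY : centralizer ((P : Subgroup G) : Set G) ≤ h.Y := by
    rw [← h.YN]; exact inf_le_left
  haveI hYn : h.Y.Normal := ⟨fun x hx g => h.conj_Y (by rw [hH]; trivial) hx⟩
  have hidx : h.Y.index = (centralizer ((P : Subgroup G) : Set G)).relIndex (normalizer ((P : Subgroup G) : Set G)) := by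
    have h1 := h.card_H
    rw [hH] at h1
    have h2 := h.Y.card_mul_index
    rw [Subgroup.card_top] at h1
    rw [h1] at h2
    exact Nat.eq_of_mul_eq_mul_left Nat.card_pos h2
  rw [← hidx]
  apply lower hM
  · intro g hg
    by_contra hcon
    obtain ⟨c, hc⟩ := exists_conj_cent P hcon
    apply hg
    have h1 := hYn.conj_mem _ (hCY hc) c
    have : c * (c⁻¹ * g * c) * c⁻¹ = g := by group
    rwa [this] at h1
  · rw [hidx]; exact odd_relIndex h.hab
  · have key : ∀ a : G ⧸ h.Y, ∃ n ∈ normalizer ((P : Subgroup G) : Set G), (n : G ⧸ h.Y) = a := by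
      intro a
      obtain ⟨g, rfl⟩ := QuotientGroup.mk_surjective a
      have hg : g ∈ h.H := by rw [hH]; trivial
      obtain ⟨w, hw, n, hn, rfl⟩ := h.mem_H.1 hg
      refine ⟨n, hn, ?_⟩
      rw [QuotientGroup.mk_mul, (QuotientGroup.eq_one_iff w).2 (h.W_le_Y hw), one_mul]
    intro a b
    obtain ⟨n, hn, rfl⟩ := key a
    obtain ⟨k, hk, rfl⟩ := key b
    have h1 : ((n * k * n⁻¹ * k⁻¹ : G) : G ⧸ h.Y) = 1 := (QuotientGroup.eq_one_iff _).2 (hCY (hE n hn k hk))
    simp only [QuotientGroup.mk_mul, QuotientGroup.mk_inv] at h1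
    have h2 := mul_inv_eq_one.1 h1
    exact mul_inv_eq_iff_eq_mul.1 h2

/-- orbits of `N(P)` on `P` -/
theorem orbit_card {x : G}
    (hx : ∀ n ∈ normalizer ((P : Subgroup G) : Set G), n * x * n⁻¹ = x → n ∈ centralizer ((P : Subgroup G) : Set G))
    (hxP : x ∈ (P : Subgroup G)) (O : Finset G) (hO : ∀ y, y ∈ O ↔ ∃ n ∈ normalizer ((P : Subgroup G) : Set G), n * x * n⁻¹ = y) :
    O.card = (centralizer ((P : Subgroup G) : Set G)).relIndex (normalizer ((P : Subgroup G) : Set G)) := by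
  have := Fintype.ofFinite G
  set N := normalizer ((P : Subgroup G) : Set G) with hN
  set C := centralizer ((P : Subgroup G) : Set G) with hC
  have hCN : C ≤ N := Subgroup.centralizer_le_normalizer _
  have h1 : (Finset.univ.filter (fun g : G => g ∈ N)).card = O.card * Nat.card C := by
    rw [Finset.card_eq_sum_card_fiberwise (f := fun n => n * x * n⁻¹) (t := O)]
    · rw [Finset.sum_congr rfl (g := fun _ => Nat.card C)]
      · rw [Finset.sum_const, smul_eq_mul]
      · intro b hb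
        obtain ⟨n0, hn0, hn0'⟩ := (hO b).1 hb
        rw [← card_filter_mem C]
        symm
        refine Finset.card_bij (fun c _ => n0 * c) ?_ ?_ ?_
        · intro c hc
          simp only [Finset.mem_filter, Finset.mem_univ, true_and] at hc ⊢
          refine ⟨Subgroup.mul_mem _ hn0 (hCN hc), ?_⟩
          have h2 : x * c = c * x := (mem_centralizer_iff.1 hc x hxP)
          calc n0 * c * x * (n0 * c)⁻¹ = n0 * (c * x) * c⁻¹ * n0⁻¹ := by group
            _ = n0 * x * n0⁻¹ := by rw [← h2]; group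
            _ = b := hn0'
        · intro c _ c' _ hcc
          exact mul_left_cancel hcc
        · intro n hn
          simp only [Finset.mem_filter, Finset.mem_univ, true_and] at hn
          refine ⟨n0⁻¹ * n, ?_, by group⟩
          simp only [Finset.mem_filter, Finset.mem_univ, true_and]
          refine hx _ (Subgroup.mul_mem _ (Subgroup.inv_mem _ hn0) hn.1) ?_
          calc n0⁻¹ * n * x * (n0⁻¹ * n)⁻¹ = n0⁻¹ * (n * x * n⁻¹) * n0 := by group
            _ = n0⁻¹ * (n0 * x * n0⁻¹) * n0 := by rw [hn.2, hn0']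
            _ = x := by group
    · intro n hn
      simp only [Finset.coe_filter, Finset.mem_univ, true_and, Set.mem_setOf_eq] at hn
      exact (hO _).2 ⟨n, hn, rfl⟩
  rw [card_filter_mem, card_eq_relIndex hCN, mul_comm] at h1
  exact (Nat.eq_of_mul_eq_mul_right Nat.card_pos h1).symm

/-- an involution of `P` -/
theorem exists_invol (hP : (P : Subgroup G) ≠ ⊥) : ∃ a ∈ (P : Subgroup G), orderOf a = 2 := by
  obtain ⟨x, hx, hx1⟩ : ∃ x ∈ (P : Subgroup G), x ≠ 1 := by
    by_contra hcon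
    push Not at hcon
    exact hP (by rw [eq_bot_iff]; exact fun x hx => hcon x hx)
  obtain ⟨k, hk⟩ := orderOf_mem P hx
  have hk0 : 0 < k := by
    rcases Nat.eq_zero_or_pos k with h0 | h0
    · exfalso; apply hx1; rw [h0, pow_zero] at hk; exact orderOf_eq_one_iff.1 hk
    · exact h0
  refine ⟨x ^ 2 ^ (k - 1), pow_mem hx _, ?_⟩
  rw [orderOf_pow' x (by positivity), hk]
  have h1 : 2 ^ k = 2 ^ (k - 1) * 2 := by rw [← pow_succ]; congr 1; omega
  rw [h1, Nat.gcd_mul_right_left, Nat.mul_div_cancel_left _ (by positivity)]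

/-- `e < |Ω|` -/
theorem relIndex_lt (h : AS P) {a : G} (ha : a ∈ (P : Subgroup G)) (ha2 : orderOf a = 2)
    (hfree : ∀ n ∈ normalizer ((P : Subgroup G) : Set G), n * a * n⁻¹ = a → n ∈ centralizer ((P : Subgroup G) : Set G)) :
    (centralizer ((P : Subgroup G) : Set G)).relIndex (normalizer ((P : Subgroup G) : Set G)) < Nat.card h.Om := by
  have := Fintype.ofFinite G
  have h1 := orbit_card hfree ha (Finset.univ.filter (fun y => ∃ n ∈ normalizer ((P : Subgroup G) : Set G), n * a * n⁻¹ = y))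
    (by simp)
  rw [← h1, ← card_filter_mem h.Om]
  apply Finset.card_lt_card
  rw [Finset.ssubset_iff_of_subset]
  · refine ⟨1, by simp, ?_⟩
    simp only [Finset.mem_filter, Finset.mem_univ, true_and]
    rintro ⟨n, hn, hn'⟩
    have : a = 1 := by
      have := congrArg (fun z => n⁻¹ * z * n) hn'
      simpa [mul_assoc] using this
    rw [this, orderOf_one] at ha2
    omega
  · intro y hy
    simp only [Finset.mem_filter, Finset.mem_univ, true_and] at hy ⊢
    obtain ⟨n, hn, rfl⟩ := hy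
    refine ⟨(mem_normalizer_iff.1 hn a).1 ha, ?_⟩
    have haa : a * a = 1 := by rw [← sq, ← ha2, pow_orderOf_eq_one]
    calc n * a * n⁻¹ * (n * a * n⁻¹) = n * (a * a) * n⁻¹ := by group
      _ = 1 := by rw [haa]; group

theorem Om_pow (h : AS P) : ∃ k : ℕ, Nat.card h.Om = 2 ^ k := by
  obtain ⟨k, hk⟩ := card_pow P
  have h1 : Nat.card h.Om ∣ 2 ^ k := by rw [← hk]; exact Subgroup.card_dvd_of_le h.Om_le
  obtain ⟨j, _, hj⟩ := (Nat.dvd_prime_pow Nat.prime_two).1 h1
  exact ⟨j, hj⟩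

def Good (n : ℕ) : Prop := ∀ (G : Type u) [Group G] [Finite G] (P : Sylow 2 G) (h : BS P), Nat.card P ≤ n →
  h.H ≠ ⊤ → ∀ x ∈ (P : Subgroup G), x * x = 1

theorem odd_le_W (h : BS P) {N : Subgroup G} [N.Normal] (hN : ¬ 2 ∣ Nat.card N) : N ≤ h.W := by
  apply SSF2.gen h.toAS.Om_ea (by have := h.h8; omega) hN (by rw [Subgroup.normalizer_eq_top]; exact le_top)
  intro b hb hb1 g hg
  obtain ⟨hg1, hg2⟩ := Subgroup.mem_inf.1 hg
  apply h.cpc_le_W hb.1 hb.2 hb1
  apply h.toAS.odd_mem hb.1 hb1 hg2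
  intro h2
  apply hN
  have := orderOf_dvd_natCard (⟨g, hg1⟩ : N)
  rw [Subgroup.orderOf_mk] at this
  exact h2.trans this

/-- the rank in the semiregular case -/
theorem as_case (hM : IsPModular 2 M) {n : ℕ} (hgood : Good.{u} n) (h : AS P) (hP : (P : Subgroup G) ≠ ⊥)
    (hn : Nat.card P ≤ n)
    (hE : ∀ g ∈ normalizer ((P : Subgroup G) : Set G), ∀ k ∈ normalizer ((P : Subgroup G) : Set G),
      g * k * g⁻¹ * k⁻¹ ∈ centralizer ((P : Subgroup G) : Set G)) :
    blockRank 2 (principalBlock M G) =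
      (centralizer ((P : Subgroup G) : Set G)).relIndex (normalizer ((P : Subgroup G) : Set G)) := by
  haveI : Fact (Nat.Prime 2) := ⟨Nat.prime_two⟩
  have hub := ub hM h hP hE
  by_cases he : (centralizer ((P : Subgroup G) : Set G)).relIndex (normalizer ((P : Subgroup G) : Set G)) ≤ 3
  · exact hub.2 he
  push Not at he
  have h8 : 8 ≤ Nat.card h.Om := by
    obtain ⟨a, ha, ha2⟩ := exists_invol hP
    have h1 := relIndex_lt h ha ha2 (by
      intro n hn hna
      rw [mem_cent_iff]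
      exact h.sr a ha (by rintro rfl; rw [orderOf_one] at ha2; omega) n hn hna)
    obtain ⟨k, hk⟩ := Om_pow h
    rw [hk] at h1 ⊢
    have hk3 : 3 ≤ k := by
      by_contra hcon
      have : k ≤ 2 := by omega
      have := Nat.pow_le_pow_right (n := 2) (by norm_num) this
      omega
    calc 8 = 2 ^ 3 := by norm_num
      _ ≤ 2 ^ k := Nat.pow_le_pow_right (by norm_num) hk3
  let hb : BS P := ⟨h, h8⟩
  apply le_antisymm hub.1
  by_cases hH : hb.H = ⊤
  · exact top_case hM hb hH hE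
  have hel := hgood G P hb hn hH
  -- pass to the quotient modulo the odd core
  set O := pPrimeCore 2 G with hO
  haveI hOn : O.Normal := Cfsg.pPrimeCore_normal 2 G
  have hOodd : ¬ 2 ∣ Nat.card O := by
    have := Cores.coprime_card_pPrimeCore 2 G
    exact (Nat.Prime.coprime_iff_not_dvd Nat.prime_two).1 this.symm
  have hgd : Gd P (QuotientGroup.mk' O) := gd_odd P O hOodd
  have has := hgd.as h
  set R := P.mapSurjective hgd.hf with hR
  have hcardR : Nat.card R = Nat.card P := by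
    have h1 : Nat.card (R : Subgroup (G ⧸ O)) = Nat.card (P : Subgroup G) := by
      rw [hR, Sylow.coe_mapSurjective]
      have hinj : Set.InjOn (QuotientGroup.mk' O) ((P : Subgroup G) : Set G) := by
        intro x hx y hy hxy
        have h2 : x⁻¹ * y ∈ O := QuotientGroup.eq.1 hxy
        exact inv_mul_eq_one.1 (inf_odd P hOodd (mul_mem (inv_mem hx) hy) h2)
      exact Nat.card_image_of_injOn hinj
    exact h1
  have helR : ∀ x ∈ (R : Subgroup (G ⧸ O)), x * x = 1 := by
    intro x hx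
    obtain ⟨y, hy, rfl⟩ := hgd.mem_P.1 hx
    rw [← map_mul, hel y hy, map_one]
  have hOmR : has.Om = (R : Subgroup (G ⧸ O)) := le_antisymm has.Om_le (fun x hx => ⟨hx, helR x hx⟩)
  have hOm : h.Om = (P : Subgroup G) := le_antisymm h.Om_le (fun x hx => ⟨hx, hel x hx⟩)
  have h8R : 8 ≤ Nat.card has.Om := by
    rw [hOmR]
    have h1 : Nat.card (R : Subgroup (G ⧸ O)) = Nat.card P := hcardR
    rw [h1]
    rw [hOm] at h8
    exact h8
  let hbR : BS R := ⟨has, h8R⟩
  have hOR : ∀ N : Subgroup (G ⧸ O), N.Normal → ¬ 2 ∣ Nat.card N → N = ⊥ := by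
    intro N hN hN2
    rw [eq_bot_iff, ← Cores.pPrimeCore_quotient_pPrimeCore 2 G]
    exact Cores.le_pPrimeCore hN ((Nat.Prime.coprime_iff_not_dvd Nat.prime_two).2 hN2).symm
  have hHR : hbR.H ≠ ⊤ := by
    intro ht
    have hn' := hbR.normal_of_top ht hOR
    apply hH
    rw [eq_top_iff]
    intro g _
    have hg : QuotientGroup.mk' O g ∈ normalizer ((R : Subgroup (G ⧸ O)) : Set (G ⧸ O)) := by
      rw [Subgroup.normalizer_eq_top]; trivial
    obtain ⟨n, hn, hng⟩ := frattini hgd.hf P hg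
    have h1 : g * n⁻¹ ∈ O := by
      have h2 : QuotientGroup.mk' O (g * n⁻¹) = 1 := by rw [map_mul, map_inv, hng, mul_inv_cancel]
      exact (QuotientGroup.eq_one_iff _).1 h2
    have h3 : g = g * n⁻¹ * n := by group
    rw [h3]
    exact mul_mem (hb.Y_le_H (hb.W_le_Y (odd_le_W hb hOodd h1))) (hb.N_le_H hn)
  obtain ⟨h1, h2⟩ := main_elem hM hbR helR hOR hHR
  rw [rank_quot_odd hM O hOodd]
  have h3 := hgd.relIndex
  rw [← hR] at h3
  rw [← h3]
  omega

end Cfsg.Agent.Lib.H70AbJ
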