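import Mathlib
import Cfsg.Agent.Lib.H70AbJ

/-!
# Principal 2-blocks with abelian Sylow subgroup: the number of characters (helper70)
-/

set_option autoImplicit false
set_option maxHeartbeats 400000

open Subgroup

namespace Cfsg.Agent.Lib.H70AbK

open Cfsg Cfsg.Agent.Lib.BlockRing Cfsg.Agent.Lib.BlockGA Cfsg.Agent.Lib.BlockThird Cfsg.Agent.Lib.H70AbE
open Cfsg.Agent.Lib.H70AbF Cfsg.Agent.Lib.H70AbG Cfsg.Agent.Lib.H70AbH Cfsg.Agent.Lib.H70AbI Cfsg.Agent.Lib.H70AbB
open Cfsg.Agent.Lib.H70AbJ
open Cfsg.Agent.Lib.Subsec (Cz mem_Cz)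
open scoped Classical

universe u

/-- **Theorem T** -/
theorem rank_eq {M : Ideal AlgInt} (hM : IsPModular 2 M) {n : ℕ} (hgood : Good.{u} n) :
    ∀ (m : ℕ) (G : Type u) [Group G] [Finite G] (P : Sylow 2 G), Nat.card G ≤ m → GS P → Nat.card P ≤ n →
    blockRank 2 (principalBlock M G) =
      (centralizer ((P : Subgroup G) : Set G)).relIndex (normalizer ((P : Subgroup G) : Set G)) := by
  intro m
  induction m with
  | zero =>
    intro G _ _ P hG
    exfalso
    have := Nat.card_pos (α := G)
    omega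
  | succ m ih =>
    intro G _ _ P hG hgs hn
    haveI : Fact (Nat.Prime 2) := ⟨Nat.prime_two⟩
    by_cases hP : (P : Subgroup G) = ⊥
    · have h1 : blockRank 2 (principalBlock M G) = 1 := by
        apply BlockTop.blockRank_principal_of_complement hM (N := ⊤) (k := 0)
        · have := P.not_dvd_index
          rw [hP, Subgroup.index_bot] at this
          rwa [Subgroup.card_top]
        · simp
      rw [h1]
      have h2 : centralizer ((P : Subgroup G) : Set G) = ⊤ := by
        rw [hP, eq_top_iff]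
        intro g _
        rw [mem_cent_iff]
        intro y hy
        rw [mem_bot] at hy
        rw [hy]; group
      rw [h2, Subgroup.relIndex_top_left]
    by_cases h0 : ∃ u ∈ (P : Subgroup G), u ≠ 1 ∧ ∀ n ∈ normalizer ((P : Subgroup G) : Set G), n * u * n⁻¹ = u
    · obtain ⟨u, hu, hu1, hfix⟩ := h0
      obtain ⟨P', hP', hgs', he'⟩ := gs_cent hgs hu hfix
      rw [(wat hM hgs.hab hu hfix).1, ← he']
      have huH : u ∈ centralizer ({u} : Set G) := mem_centralizer_singleton_iff.2 rfl
      set v : centralizer ({u} : Set G) := ⟨u, huH⟩ with hv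
      have hvP : v ∈ (P' : Subgroup (centralizer ({u} : Set G))) := by rw [hP', mem_subgroupOf]; exact hu
      have hvc : ∀ g : centralizer ({u} : Set G), g * v = v * g := fun g => Subtype.ext (mem_centralizer_singleton_iff.1 g.2)
      haveI : (zpowers v).Normal := ⟨fun x hx g => by
        obtain ⟨k, rfl⟩ := mem_zpowers_iff.1 hx
        have h1 := ((show Commute g v from hvc g).zpow_right k).eq
        rw [h1, mul_inv_cancel_right]
        exact hx⟩
      rw [quot hM hvP hvc]
      have hgd := gd_central hgs'.hab hvP hvc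
      have h1 := ih (centralizer ({u} : Set G) ⧸ zpowers v) (P'.mapSurjective hgd.hf) ?_ (hgd.gs hgs') ?_
      · rw [h1, hgd.relIndex]
      · have h2 := (zpowers v).card_mul_index
        rw [Subgroup.index_eq_card] at h2
        have h3 : 2 ≤ Nat.card (zpowers v) := by
          have h4 : Nat.card (zpowers v) ≠ 1 := by
            rw [Nat.card_zpowers]
            intro h5
            rw [orderOf_eq_one_iff] at h5
            exact hu1 (congrArg Subtype.val h5)
          have h5 : 0 < Nat.card (zpowers v) := Nat.card_pos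
          omega
        have h6 : Nat.card (centralizer ({u} : Set G)) ≤ Nat.card G := Nat.le_of_dvd Nat.card_pos (Subgroup.card_subgroup_dvd_card _)
        have h7 : 0 < Nat.card (centralizer ({u} : Set G) ⧸ zpowers v) := Nat.card_pos
        have h8 : 2 * Nat.card (centralizer ({u} : Set G) ⧸ zpowers v) ≤ Nat.card (zpowers v) * Nat.card (centralizer ({u} : Set G) ⧸ zpowers v) :=
          Nat.mul_le_mul_right _ h3
        omega
      · have h2 : Nat.card ((P'.mapSurjective hgd.hf : Subgroup (centralizer ({u} : Set G) ⧸ zpowers v))) ∣ Nat.card (P' : Subgroup (centralizer ({u} : Set G))) := by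
          rw [Sylow.coe_mapSurjective]
          exact Subgroup.card_map_dvd _ _
        have h3 : Nat.card (P' : Subgroup (centralizer ({u} : Set G))) = Nat.card (P : Subgroup G) := by
          rw [hP']
          apply Nat.card_congr (Subgroup.subgroupOfEquivOfLe _).toEquiv
          intro y hy
          rw [mem_centralizer_singleton_iff]
          exact hgs.hab y hy u hu
        have h4 := Nat.le_of_dvd Nat.card_pos h2
        exact (h4.trans h3.le).trans hn
    · have has : AS P := by
        refine ⟨hgs.hab, ?_⟩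
        intro x hx hx1 n hn hnx
        rcases hgs.sr x hx n hn hnx with h1 | h1
        · exact h1
        · exact absurd ⟨x, hx, hx1, h1⟩ h0
      exact as_case hM hgood has hP hn hgs.hE

variable {G : Type u} [Group G] [Finite G] {M : Ideal AlgInt} {P : Sylow 2 G}

/-- fixed points of `N(P)` on `P` -/
def P0 (P : Sylow 2 G) : Subgroup G where
  carrier := {x | x ∈ (P : Subgroup G) ∧ ∀ n ∈ normalizer ((P : Subgroup G) : Set G), n * x * n⁻¹ = x}
  mul_mem' := by
    rintro a b ⟨ha, ha2⟩ ⟨hb, hb2⟩
    refine ⟨mul_mem ha hb, fun n hn => ?_⟩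
    calc n * (a * b) * n⁻¹ = (n * a * n⁻¹) * (n * b * n⁻¹) := by group
      _ = a * b := by rw [ha2 n hn, hb2 n hn]
  one_mem' := ⟨one_mem _, fun n _ => by group⟩
  inv_mem' := by
    rintro a ⟨ha, ha2⟩
    refine ⟨inv_mem ha, fun n hn => ?_⟩
    calc n * a⁻¹ * n⁻¹ = (n * a * n⁻¹)⁻¹ := by group
      _ = a⁻¹ := by rw [ha2 n hn]

theorem mem_P0 {x : G} : x ∈ P0 P ↔ x ∈ (P : Subgroup G) ∧ ∀ n ∈ normalizer ((P : Subgroup G) : Set G), n * x * n⁻¹ = x := Iff.rfl

/-- representatives -/
theorem reps (hab : ∀ a ∈ (P : Subgroup G), ∀ b ∈ (P : Subgroup G), a * b = b * a)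
    (sr : ∀ x ∈ (P : Subgroup G), ∀ n ∈ normalizer ((P : Subgroup G) : Set G), n * x * n⁻¹ = x →
      (∀ y ∈ (P : Subgroup G), n * y * n⁻¹ = y) ∨ (∀ m ∈ normalizer ((P : Subgroup G) : Set G), m * x * m⁻¹ = x)) :
    ∃ X : Finset G, (∀ x ∈ X, x ∈ (P : Subgroup G)) ∧
      (∀ g : G, (∃ k : ℕ, orderOf g = 2 ^ k) → ∃! x, x ∈ X ∧ IsConj g x) ∧
      (∀ x ∈ P0 P, x ∈ X) ∧
      Nat.card P = Nat.card (P0 P) +
        (centralizer ((P : Subgroup G) : Set G)).relIndex (normalizer ((P : Subgroup G) : Set G)) *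
          (X.filter (fun x => ¬ x ∈ P0 P)).card := by
  haveI : Fact (Nat.Prime 2) := ⟨Nat.prime_two⟩
  have := Fintype.ofFinite G
  set e := (centralizer ((P : Subgroup G) : Set G)).relIndex (normalizer ((P : Subgroup G) : Set G)) with he
  let r : G → G := fun y => Classical.epsilon (fun z => z ∈ (P : Subgroup G) ∧ IsConj y z)
  have hr : ∀ y : G, (∃ k : ℕ, orderOf y = 2 ^ k) → r y ∈ (P : Subgroup G) ∧ IsConj y (r y) := by
    intro y hy
    obtain ⟨c, hc⟩ := conj_into P hy
    exact Classical.epsilon_spec (p := fun z => z ∈ (P : Subgroup G) ∧ IsConj y z) ⟨_, hc, isConj_iff.2 ⟨c⁻¹, by group⟩⟩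
  have hreq : ∀ y y' : G, IsConj y y' → r y = r y' := by
    intro y y' hyy
    have : (fun z => z ∈ (P : Subgroup G) ∧ IsConj y z) = (fun z => z ∈ (P : Subgroup G) ∧ IsConj y' z) := by
      funext z
      apply propext
      exact ⟨fun h => ⟨h.1, hyy.symm.trans h.2⟩, fun h => ⟨h.1, hyy.trans h.2⟩⟩
    show Classical.epsilon _ = Classical.epsilon _
    rw [this]
  have hpw : ∀ y ∈ (P : Subgroup G), ∃ k : ℕ, orderOf y = 2 ^ k := fun y hy => orderOf_mem P hy
  set X : Finset G := (Finset.univ.filter (fun y : G => y ∈ (P : Subgroup G))).image r with hX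
  have hXmem : ∀ x, x ∈ X ↔ ∃ y ∈ (P : Subgroup G), r y = x := by
    intro x
    rw [hX, Finset.mem_image]
    simp only [Finset.mem_filter, Finset.mem_univ, true_and]
  have hXP : ∀ x ∈ X, x ∈ (P : Subgroup G) ∧ r x = x := by
    intro x hx
    obtain ⟨y, hy, rfl⟩ := (hXmem x).1 hx
    have h1 := hr y (hpw y hy)
    exact ⟨h1.1, (hreq _ _ h1.2).symm⟩
  -- fixed points are in `X`
  have hfixX : ∀ x ∈ P0 P, r x = x := by
    intro x hx
    obtain ⟨h1, h2⟩ := hr x (hpw x hx.1)
    obtain ⟨n, hn, hn'⟩ := H52E16e.mem_of_conj P hab hx.1 h1 h2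
    rw [← hn', hx.2 n hn]
  have hX0 : X.filter (fun x => x ∈ P0 P) = Finset.univ.filter (fun x => x ∈ P0 P) := by
    ext x
    simp only [Finset.mem_filter, Finset.mem_univ, true_and, and_iff_right_iff_imp]
    intro hx
    exact (hXmem x).2 ⟨x, hx.1, hfixX x hx⟩
  have hfree : ∀ x ∈ (P : Subgroup G), x ∉ P0 P → ∀ n ∈ normalizer ((P : Subgroup G) : Set G), n * x * n⁻¹ = x →
      ∀ y ∈ (P : Subgroup G), n * y * n⁻¹ = y := by
    intro x hx hx0 n hn hnx
    rcases sr x hx n hn hnx with h2 | h2
    · exact h2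
    · exact absurd ⟨hx, h2⟩ hx0
  refine ⟨X, fun x hx => (hXP x hx).1, ?_, ?_, ?_⟩
  · intro g hg
    obtain ⟨h1, h2⟩ := hr g hg
    refine ⟨r g, ⟨(hXmem _).2 ⟨r g, h1, (hreq _ _ h2).symm⟩, h2⟩, ?_⟩
    rintro y ⟨hy, hgy⟩
    rw [← (hXP y hy).2]
    exact (hreq _ _ hgy).symm
  · intro x hx
    exact (hXmem x).2 ⟨x, hx.1, hfixX x hx⟩
  · -- counting `P`
    have c1 : (Finset.univ.filter (fun x : G => x ∈ (P : Subgroup G) ∧ x ∉ P0 P)).card =
        (X.filter (fun x => ¬ x ∈ P0 P)).card * e := by
      rw [Finset.card_eq_sum_card_fiberwise (f := r) (t := X.filter (fun x => ¬ x ∈ P0 P))]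
      · rw [Finset.sum_congr rfl (g := fun _ => e)]
        · rw [Finset.sum_const, smul_eq_mul]
        · intro x hx
          simp only [Finset.mem_filter] at hx
          obtain ⟨hxP, hrx⟩ := hXP x hx.1
          apply orbit_card (P := P) (x := x) ?_ hxP
          · intro y
            simp only [Finset.mem_filter, Finset.mem_univ, true_and]
            constructor
            · rintro ⟨⟨hy, hy0⟩, hyx⟩
              have h1 := (hr y (hpw y hy)).2
              rw [hyx] at h1
              exact H52E16e.mem_of_conj P hab hxP hy h1.symm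
            · rintro ⟨n, hn, rfl⟩
              have hyP := (mem_normalizer_iff.1 hn x).1 hxP
              refine ⟨⟨hyP, ?_⟩, ?_⟩
              · intro hy0
                apply hx.2
                have h3 := hy0.2 n⁻¹ (Subgroup.inv_mem _ hn)
                have h4 : n⁻¹ * (n * x * n⁻¹) * n⁻¹⁻¹ = x := by group
                rw [h4] at h3
                rw [h3]; exact hy0
              · have h5 : IsConj (n * x * n⁻¹) x := isConj_iff.2 ⟨n⁻¹, by group⟩
                rw [hreq _ _ h5, hrx]
          · intro n hn hnx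
            rw [mem_cent_iff]
            exact hfree x hxP hx.2 n hn hnx
      · intro y hy
        simp only [Finset.coe_filter, Finset.mem_univ, true_and, Set.mem_setOf_eq] at hy ⊢
        refine ⟨(hXmem _).2 ⟨y, hy.1, rfl⟩, ?_⟩
        intro h0
        apply hy.2
        obtain ⟨h1, h2⟩ := hr y (hpw y hy.1)
        obtain ⟨n, hn, hn'⟩ := H52E16e.mem_of_conj P hab h1 hy.1 h2.symm
        rw [← hn', h0.2 n hn]
        exact h0
    have c2 : Nat.card (P : Subgroup G) = Nat.card (P0 P) +
        (Finset.univ.filter (fun x : G => x ∈ (P : Subgroup G) ∧ x ∉ P0 P)).card := by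
      rw [← card_filter_mem (P : Subgroup G), ← card_filter_mem (P0 P), ← Finset.card_union_of_disjoint]
      · congr 1
        ext x
        simp only [Finset.mem_filter, Finset.mem_univ, true_and, Finset.mem_union]
        constructor
        · intro hx
          by_cases h0 : x ∈ P0 P
          · left; exact h0
          · right; exact ⟨hx, h0⟩
        · rintro (h0 | h0)
          · exact h0.1
          · exact h0.1
      · rw [Finset.disjoint_filter]
        rintro x _ h1 ⟨_, h2⟩
        exact h2 h1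
    have c3 : Nat.card P = Nat.card (P : Subgroup G) := rfl
    rw [c3, c2, c1, mul_comm]

/-- the number of characters -/
theorem k_formula (hM : IsPModular 2 M) (h : GS P) :
    ∃ m : ℕ, Nat.card P = Nat.card (P0 P) +
        (centralizer ((P : Subgroup G) : Set G)).relIndex (normalizer ((P : Subgroup G) : Set G)) * m ∧
      Nat.card (principalBlock M G) = Nat.card (P0 P) * blockRank 2 (principalBlock M G) + m := by
  haveI : Fact (Nat.Prime 2) := ⟨Nat.prime_two⟩
  have := Fintype.ofFinite G
  obtain ⟨X, hXP, hXrep, hX0, hc⟩ := reps h.hab h.sr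
  refine ⟨_, hc, ?_⟩
  have hk := k_eq hM X (fun x hx => orderOf_mem P (hXP x hx)) hXrep
  have h1r : ∀ x ∈ (X.erase 1).filter (fun x => x ∈ P0 P), blockRank 2 (principalBlock M (Cz x)) =
      blockRank 2 (principalBlock M G) := by
    intro x hx
    simp only [Finset.mem_filter] at hx
    exact (wat hM h.hab hx.2.1 hx.2.2).1.symm
  have hfree : ∀ x ∈ (P : Subgroup G), x ∉ P0 P → ∀ n ∈ normalizer ((P : Subgroup G) : Set G), n * x * n⁻¹ = x →
      ∀ y ∈ (P : Subgroup G), n * y * n⁻¹ = y := by
    intro x hx hx0 n hn hnx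
    rcases h.sr x hx n hn hnx with h2 | h2
    · exact h2
    · exact absurd ⟨hx, h2⟩ hx0
  have h2r : ∀ x ∈ (X.erase 1).filter (fun x => ¬ x ∈ P0 P), blockRank 2 (principalBlock M (Cz x)) = 1 := by
    intro x hx
    simp only [Finset.mem_filter, Finset.mem_erase] at hx
    have hxP := hXP x hx.1.2
    obtain ⟨N, a1, a2, a3⟩ := H52E16d.complement P h.hab hxP (hfree x hxP hx.2)
    obtain ⟨k, hk⟩ := card_pow P
    haveI := a1
    exact BlockTop.blockRank_principal_of_complement hM a2 (a3.trans hk)
  rw [← Finset.sum_filter_add_sum_filter_not (X.erase 1) (fun x => x ∈ P0 P), Finset.sum_congr rfl h1r,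
    Finset.sum_congr rfl h2r, Finset.sum_const, Finset.sum_const, smul_eq_mul, smul_eq_mul, mul_one] at hk
  have e1 : ((X.erase 1).filter (fun x => x ∈ P0 P)).card + 1 = Nat.card (P0 P) := by
    have hX0' : X.filter (fun x => x ∈ P0 P) = Finset.univ.filter (fun x => x ∈ P0 P) := by
      ext x
      simp only [Finset.mem_filter, Finset.mem_univ, true_and, and_iff_right_iff_imp]
      exact hX0 x
    rw [← card_filter_mem (P0 P), ← hX0', Finset.filter_erase]
    apply Finset.card_erase_add_one
    rw [hX0']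
    simp only [Finset.mem_filter, Finset.mem_univ, true_and]
    exact one_mem _
  have e2 : (X.erase 1).filter (fun x => ¬ x ∈ P0 P) = X.filter (fun x => ¬ x ∈ P0 P) := by
    ext x
    simp only [Finset.mem_filter, Finset.mem_erase]
    constructor
    · rintro ⟨⟨_, a⟩, b⟩; exact ⟨a, b⟩
    · rintro ⟨a, b⟩
      exact ⟨⟨fun h => b (by rw [h]; exact one_mem _), a⟩, b⟩
  rw [hk, e2, ← e1]
  ring

end Cfsg.Agent.Lib.H70AbK
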