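import Cfsg.Agent.Lib.SquarefreeClasses3

set_option autoImplicit false

/-!
Finite groups with square-free class sizes, conclusion.
-/

namespace Cfsg.Agent.Lib.SquarefreeClasses

open Subgroup Cfsg.Agent.Lib.ClassPow
open scoped commutatorElement

universe u

theorem isCyclic_of_squarefree_nilpotent {G : Type u} [Group G] [Finite G] (h : Squarefree (Nat.card G))
    (hn : Group.IsNilpotent G) : IsCyclic G := by
  have := IsZGroup.of_squarefree h
  infer_instance

theorem commutator_le_fitting {G : Type u} [Group G] [Finite G] [hs : Group.IsSolvable G] (h : SF G) :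
    commutator G ≤ Cfsg.fittingSubgroup G :=
  Cores.le_fittingSubgroup inferInstance (Supersolvable.isNilpotent_commutator (isSupersolvable h))

theorem card_commutator_dvd_of_core {G : Type u} [Group G] [Finite G] [hs : Group.IsSolvable G] (h : SF G)
    {p : ℕ} [hp : Fact p.Prime] (hcore : Cfsg.pPrimeCore p G = ⊥) : Nat.card (commutator G) ∣ p := by
  classical
  rcases subsingleton_or_nontrivial G with hs | hs
  · have : commutator G = ⊥ := Subsingleton.elim _ _
    rw [this, Subgroup.card_bot]; exact one_dvd _
  have hss := isSupersolvable h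
  have hcard : 1 < Nat.card G := Finite.one_lt_card
  -- the largest prime divisor
  obtain ⟨q, hq, hqmax⟩ : ∃ q, (q.Prime ∧ q ∣ Nat.card G) ∧ ∀ r : ℕ, r.Prime → r ∣ Nat.card G → r ≤ q := by
    have hne : (Nat.card G).primeFactors.Nonempty := by
      rw [Nat.nonempty_primeFactors]; exact hcard
    refine ⟨(Nat.card G).primeFactors.max' hne, ?_, ?_⟩
    · have := Finset.max'_mem _ hne
      exact ⟨Nat.prime_of_mem_primeFactors this, Nat.dvd_of_mem_primeFactors this⟩
    · intro r hr hrd
      exact Finset.le_max' _ _ (Nat.mem_primeFactors.2 ⟨hr, hrd, by omega⟩)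
  have hFq := Fact.mk hq.1
  obtain ⟨Q⟩ : Nonempty (Sylow q G) := inferInstance
  have hQn := Supersolvable.sylow_normal_of_largest hss q hqmax Q
  have hqp : q = p := by
    by_contra hne
    have h1 : (Q : Subgroup G) ≤ Cfsg.pPrimeCore p G := by
      apply Cores.le_pPrimeCore hQn
      obtain ⟨k, hk⟩ := IsPGroup.iff_card.1 Q.isPGroup'
      rw [hk]
      exact Nat.Coprime.pow_left k ((Nat.coprime_primes hq.1 hp.out).2 hne)
    rw [hcore, le_bot_iff] at h1
    exact Q.ne_bot_of_dvd_card hq.2 h1
  subst hqp
  have hPcore : (Q : Subgroup G) = Cfsg.pCore q G :=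
    le_antisymm (Cores.le_pCore hQn Q.isPGroup') (Cores.pCore_le_sylow Q)
  have hF : Cfsg.fittingSubgroup G = Q := by rw [hPcore]; exact Cores.fittingSubgroup_eq_pCore hcore
  have hC : centralizer ((Q : Subgroup G) : Set G) ≤ Q := by
    rw [hPcore]; exact Cores.centralizer_pCore_le hcore
  have hG' : commutator G ≤ Q := by rw [← hF]; exact commutator_le_fitting h
  have hcop : Nat.Coprime (Nat.card (Q : Subgroup G)) (Q : Subgroup G).index := by
    obtain ⟨k, hk⟩ := IsPGroup.iff_card.1 Q.isPGroup'
    rw [hk]
    exact Nat.Coprime.pow_left k ((Nat.Prime.coprime_iff_not_dvd hq.1).2 Q.not_dvd_index)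
  obtain ⟨H, hH⟩ := Subgroup.exists_right_complement'_of_coprime hcop
  have hidx : (Q : Subgroup G).index = Nat.card H := hH.symm.index_eq_card
  have hHab : ∀ x ∈ H, ∀ y ∈ H, x * y = y * x := by
    intro x hx y hy
    have h1 : ⁅x, y⁆ ∈ (Q : Subgroup G) ⊓ H := by
      refine Subgroup.mem_inf.2 ⟨hG' ?_, ?_⟩
      · exact Subgroup.commutator_mem_commutator (mem_top x) (mem_top y)
      · rw [commutatorElement_def]
        exact H.mul_mem (H.mul_mem (H.mul_mem hx hy) (H.inv_mem hx)) (H.inv_mem hy)
    have h2 : (Q : Subgroup G) ⊓ H = ⊥ := by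
      have := hH.disjoint
      rwa [disjoint_iff] at this
    rw [h2, mem_bot] at h1
    exact commutatorElement_eq_one_iff_mul_comm.1 h1
  have hHsf : Squarefree (Nat.card H) := by
    rw [← hidx, ← hF]; exact squarefree_index_fitting h
  have hHn : Group.IsNilpotent H := by
    let _ : CommGroup H := { (inferInstance : Group H) with
      mul_comm := fun a b => Subtype.ext (hHab a a.2 b b.2) }
    infer_instance
  have hHcyc := isCyclic_of_squarefree_nilpotent hHsf hHn
  rw [Subgroup.isCyclic_iff_exists_zpowers_eq_top] at hHcyc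
  obtain ⟨t, ht⟩ := hHcyc
  by_cases hHbot : H = ⊥
  · have h1 : (Q : Subgroup G) = ⊤ := by
      have := hH.sup_eq_top
      rwa [hHbot, sup_bot_eq] at this
    have h2 : IsPGroup q G := by
      have h3 := Q.isPGroup'
      rw [h1] at h3
      exact h3.of_equiv Subgroup.topEquiv
    exact card_commutator_dvd h2 h
  · exact card_commutator_aux h Q hC hH ht.symm hHbot

theorem squarefree_card_commutator {G : Type u} [Group G] [Finite G] [hs : Group.IsSolvable G] (h : SF G) :
    Squarefree (Nat.card (commutator G)) := by
  rw [Nat.squarefree_iff_prime_squarefree]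
  intro p hp hdvd
  have hFp := Fact.mk hp
  set K := Cfsg.pPrimeCore p G with hK
  have h1 := card_commutator_dvd_of_core (h.quotient K) (p := p) (Cores.pPrimeCore_quotient_pPrimeCore p G)
  have h2 : (commutator G).map (QuotientGroup.mk' K) = commutator (G ⧸ K) := by
    rw [_root_.commutator_def, _root_.commutator_def, Subgroup.map_commutator,
      Subgroup.map_top_of_surjective _ (QuotientGroup.mk'_surjective K)]
  have h3 := Subgroup.relIndex_ker (QuotientGroup.mk' K) (K := commutator G)
  rw [QuotientGroup.ker_mk', h2] at h3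
  -- |G'| = |G' ∩ K| * |G' : G' ∩ K|
  have h4 : Nat.card (K ⊓ commutator G : Subgroup G) * K.relIndex (commutator G) = Nat.card (commutator G) := by
    rw [← Subgroup.inf_relIndex_right, SubgroupTools.card_mul_relIndex_of_le inf_le_right]
  rw [h3] at h4
  have h5 : (Nat.card (K ⊓ commutator G : Subgroup G)).Coprime p :=
    Nat.Coprime.coprime_dvd_left (Subgroup.card_dvd_of_le inf_le_left) (Cores.coprime_card_pPrimeCore p G)
  rw [← h4] at hdvd
  have h6 : p * p ∣ Nat.card (commutator (G ⧸ K)) :=
    (Nat.Coprime.mul_left h5.symm h5.symm).dvd_of_dvd_mul_left hdvd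
  have h7 := h6.trans h1
  have h8 := Nat.le_of_dvd hp.pos h7
  nlinarith [hp.two_le]

theorem isCyclic_commutator {G : Type u} [Group G] [Finite G] [hs : Group.IsSolvable G] (h : SF G) :
    IsCyclic (commutator G) :=
  isCyclic_of_squarefree_nilpotent (squarefree_card_commutator h)
    (Supersolvable.isNilpotent_commutator (isSupersolvable h))

/-- a nilpotent normal subgroup with derived subgroup inside a cyclic group of square-free order has class ≤ 2 -/
theorem upperCentralSeries_fitting {G : Type u} [Group G] [Finite G] [hs : Group.IsSolvable G] (h : SF G) :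
    Subgroup.upperCentralSeries ↥(Cfsg.fittingSubgroup G) 2 = ⊤ := by
  classical
  set F := Cfsg.fittingSubgroup G with hF
  have hFnil : Group.IsNilpotent F := Cores.isNilpotent_fittingSubgroup G
  have hcyc := isCyclic_commutator h
  have hsf := squarefree_card_commutator h
  have hG'n : (commutator G).Normal := inferInstance
  -- elements of prime order in G' are centralized by F
  have hprime : ∀ x ∈ commutator G, (orderOf x).Prime → x ∈ centralizer (F : Set G) := by
    intro x hx hxp
    have hn : (zpowers x).Normal := by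
      rw [Subgroup.isCyclic_iff_exists_zpowers_eq_top] at hcyc
      obtain ⟨c, hc⟩ := hcyc
      have hcn : (zpowers c).Normal := by rw [hc]; exact hG'n
      rw [← hc] at hx
      obtain ⟨i, hi⟩ := (mem_powers_iff_mem_zpowers (x := c) (y := x)).2 hx
      rw [← hi]
      exact Supersolvable.zpowers_pow_normal hcn i
    have hmin : ∀ M : Subgroup G, M.Normal → M ≤ zpowers x → M = ⊥ ∨ M = zpowers x := by
      intro M _ hM
      have h1 := Subgroup.card_dvd_of_le hM
      rw [Nat.card_zpowers] at h1
      rcases (Nat.dvd_prime hxp).1 h1 with h2 | h2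
      · left; exact Subgroup.card_eq_one.1 h2
      · right
        apply Subgroup.eq_of_le_of_card_ge hM
        rw [h2, Nat.card_zpowers]
    have h3 := FratFit.nilpotent_le_centralizer_minimal (M := zpowers x) (N := F) hFnil hmin
    rw [Subgroup.le_centralizer_iff] at h3
    exact h3 (mem_zpowers x)
  have hall : commutator G ≤ centralizer (F : Set G) := by
    intro x hx
    by_contra hcon
    obtain ⟨r, k, m, hr, hk, hm⟩ := MinNonNilp.exists_prime_power_order (centralizer (F : Set G)) hcon
    have hxm : x ^ m ∈ commutator G := pow_mem hx m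
    have h1 : r ^ k ∣ Nat.card (commutator G) := by
      rw [← hk, ← Subgroup.orderOf_mk (x ^ m) hxm]
      exact orderOf_dvd_natCard _
    have h2 : r ^ k ∣ r := dvd_of_squarefree hr (hsf.squarefree_of_dvd h1) (dvd_refl _)
    rcases (Nat.dvd_prime hr).1 h2 with h3 | h3
    · rw [h3, orderOf_eq_one_iff] at hk
      rw [hk] at hm
      exact hm (one_mem _)
    · exact hm (hprime _ hxm (by rw [hk, h3]; exact hr))
  rw [eq_top_iff]
  intro y _
  rw [Subgroup.mem_upperCentralSeries_succ_iff]
  intro z
  rw [Subgroup.upperCentralSeries_one, mem_center_iff]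
  intro w
  apply Subtype.ext
  have h1 : ((⁅y, z⁆ : F) : G) ∈ commutator G :=
    Subgroup.commutator_mem_commutator (mem_top (y : G)) (mem_top (z : G))
  exact (mem_centralizer_iff.1 (hall h1)) w w.2

theorem main {G : Type u} [Group G] [Finite G] [hs : Group.IsSolvable G] (h : SF G) :
    Cfsg.IsSupersolvable G ∧ (Cfsg.fittingSubgroup G).Normal ∧
    (∀ _h : (Cfsg.fittingSubgroup G).Normal, IsCyclic (G ⧸ Cfsg.fittingSubgroup G) ∧ Squarefree (Cfsg.fittingSubgroup G).index) ∧
    IsCyclic (commutator G) ∧ Squarefree (Nat.card (commutator G)) ∧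
    Subgroup.upperCentralSeries ↥(Cfsg.fittingSubgroup G) 2 = ⊤ ∧ commutator ↥(commutator G) = ⊥ := by
  have hcyc := isCyclic_commutator h
  refine ⟨isSupersolvable h, inferInstance, ?_, hcyc, squarefree_card_commutator h,
    upperCentralSeries_fitting h, ?_⟩
  · intro _
    have hsf := squarefree_index_fitting h
    refine ⟨?_, hsf⟩
    apply isCyclic_of_squarefree_nilpotent
    · rw [← Subgroup.index_eq_card]; exact hsf
    · have hab : ∀ a b : G ⧸ Cfsg.fittingSubgroup G, a * b = b * a := by
        have h1 := (Subgroup.Normal.quotient_commutative_iff_commutator_le (N := Cfsg.fittingSubgroup G)).2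
          (commutator_le_fitting h)
        exact fun a b => h1.is_comm.comm a b
      let _ : CommGroup (G ⧸ Cfsg.fittingSubgroup G) := { (inferInstance : Group (G ⧸ Cfsg.fittingSubgroup G)) with
        mul_comm := hab }
      infer_instance
  · rw [eq_bot_iff, _root_.commutator_def ↥(commutator G), Subgroup.commutator_le]
    intro a _ b _
    rw [mem_bot, commutatorElement_eq_one_iff_mul_comm]
    have := IsCyclic.commGroup (α := commutator G)
    exact hcyc.isMulCommutative.is_comm.comm a b

end Cfsg.Agent.Lib.SquarefreeClasses
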