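import Mathlib
import Cfsg.Agent.Lib.H70AbK
import Cfsg.Agent.Lib.SquarefreeClasses4
import Cfsg.Agent.S4569

/-!
# Abelian Sylow 2-subgroups of order 8 and 16 (helper70)
-/

set_option autoImplicit false
set_option maxHeartbeats 400000

open Subgroup

namespace Cfsg.Agent.Lib.H70AbL

open Cfsg Cfsg.Agent.Lib.BlockRing Cfsg.Agent.Lib.BlockGA Cfsg.Agent.Lib.BlockThird Cfsg.Agent.Lib.H70AbE
open Cfsg.Agent.Lib.H70AbF Cfsg.Agent.Lib.H70AbG Cfsg.Agent.Lib.H70AbH Cfsg.Agent.Lib.H70AbI Cfsg.Agent.Lib.H70AbB
open Cfsg.Agent.Lib.H70AbJ Cfsg.Agent.Lib.H70AbK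
open Cfsg.Agent.Lib.Subsec (Cz mem_Cz)
open scoped Classical

universe u

/-- groups of order 15 are commutative -/
theorem comm_fifteen {E : Type u} [Group E] [Finite E] (h : Nat.card E = 15) (a b : E) : a * b = b * a := by
  have hnorm : ∀ (p : ℕ) (_ : Fact p.Prime) (P : Sylow p E), (P : Subgroup E).Normal := by
    intro p hp P
    haveI := hp
    have h1 := (P : Subgroup E).card_mul_index
    have h2 := P.card_eq_multiplicity
    have h3 := P.card_dvd_index
    have h4 := card_sylow_modEq_one p E
    by_cases hpo : p ≠ 3 ∧ p ≠ 5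
    · obtain ⟨hp3, hp5⟩ := hpo
      rw [h] at h1 h2
      have e1 : Nat.factorization 15 p = 0 := by
        apply Nat.factorization_eq_zero_of_not_dvd
        intro hd
        rw [show (15 : ℕ) = 3 * 5 by norm_num] at hd
        rcases (hp.out.dvd_mul).1 hd with h8 | h8
        · exact hp3 ((Nat.prime_dvd_prime_iff_eq hp.out (by norm_num)).1 h8)
        · exact hp5 ((Nat.prime_dvd_prime_iff_eq hp.out (by norm_num)).1 h8)
      rw [e1, pow_zero] at h2
      have h6 : (P : Subgroup E) = ⊥ := Subgroup.eq_bot_of_card_eq _ h2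
      rw [h6]; infer_instance
    have h5 : Nat.card (Sylow p E) = 1 := by
      rw [h] at h1 h2
      by_cases hp3 : p = 3
      · subst hp3
        have e1 : Nat.factorization 15 3 = 1 := by
          rw [show (15 : ℕ) = 3 * 5 by norm_num, Nat.factorization_mul (by norm_num) (by norm_num),
            Finsupp.add_apply, Nat.Prime.factorization_self (by norm_num),
            Nat.factorization_eq_zero_of_not_dvd (by norm_num)]
        rw [e1, pow_one] at h2
        have h6 : Nat.card (P : Subgroup E) = 3 := h2
        rw [h6] at h1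
        have h7 : (P : Subgroup E).index = 5 := by omega
        rw [h7] at h3
        rcases (Nat.dvd_prime (by norm_num)).1 h3 with h8 | h8
        · exact h8
        · rw [h8] at h4; exact absurd h4 (by decide)
      by_cases hp5 : p = 5
      · subst hp5
        have e1 : Nat.factorization 15 5 = 1 := by
          rw [show (15 : ℕ) = 3 * 5 by norm_num, Nat.factorization_mul (by norm_num) (by norm_num),
            Finsupp.add_apply, Nat.Prime.factorization_self (by norm_num),
            Nat.factorization_eq_zero_of_not_dvd (by norm_num)]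
        rw [e1, pow_one] at h2
        have h6 : Nat.card (P : Subgroup E) = 5 := h2
        rw [h6] at h1
        have h7 : (P : Subgroup E).index = 3 := by omega
        rw [h7] at h3
        rcases (Nat.dvd_prime (by norm_num)).1 h3 with h8 | h8
        · exact h8
        · rw [h8] at h4; exact absurd h4 (by decide)
      · exact absurd ⟨hp3, hp5⟩ hpo
    have h6 := P.card_eq_index_normalizer
    rw [h5] at h6
    rw [← normalizer_eq_top_iff, ← Subgroup.index_eq_one]
    exact h6.symm
  have hnil : Group.IsNilpotent E := ((Group.isNilpotent_of_finite_tfae (G := E)).out 0 3).2 hnorm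
  have hcyc := SquarefreeClasses.isCyclic_of_squarefree_nilpotent (G := E) (by
    rw [h, show (15 : ℕ) = 3 * 5 by norm_num]
    rw [Nat.squarefree_mul (by norm_num)]
    exact ⟨(by norm_num : Nat.Prime 3).squarefree, (by norm_num : Nat.Prime 5).squarefree⟩) hnil
  letI := hcyc.commGroup
  exact mul_comm a b

variable {G : Type u} [Group G] [Finite G] {M : Ideal AlgInt} {P : Sylow 2 G}

theorem comm_of_quot (P : Sylow 2 G) (hc : ∀ [((centralizer ((P : Subgroup G) : Set G)).subgroupOf (normalizer ((P : Subgroup G) : Set G))).Normal],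
      ∀ a b : (normalizer ((P : Subgroup G) : Set G)) ⧸ (centralizer ((P : Subgroup G) : Set G)).subgroupOf (normalizer ((P : Subgroup G) : Set G)), a * b = b * a) :
    ∀ g ∈ normalizer ((P : Subgroup G) : Set G), ∀ k ∈ normalizer ((P : Subgroup G) : Set G),
      g * k * g⁻¹ * k⁻¹ ∈ centralizer ((P : Subgroup G) : Set G) := by
  haveI hn : ((centralizer ((P : Subgroup G) : Set G)).subgroupOf (normalizer ((P : Subgroup G) : Set G))).Normal :=
    Subgroup.normal_subgroupOf_of_le_normalizer (H70AbH.normalizer_le_normalizer_centralizer' P)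
  intro g hg k hk
  set x : normalizer ((P : Subgroup G) : Set G) := ⟨g, hg⟩
  set y : normalizer ((P : Subgroup G) : Set G) := ⟨k, hk⟩
  have h1 : x * y * x⁻¹ * y⁻¹ ∈ (centralizer ((P : Subgroup G) : Set G)).subgroupOf (normalizer ((P : Subgroup G) : Set G)) := by
    rw [← QuotientGroup.eq_one_iff]
    simp only [QuotientGroup.mk_mul, QuotientGroup.mk_inv]
    rw [hc (x : _ ⧸ _) y, mul_inv_cancel_right, mul_inv_cancel]
  exact mem_subgroupOf.1 h1

theorem gs_of_one (hab : ∀ a ∈ (P : Subgroup G), ∀ b ∈ (P : Subgroup G), a * b = b * a)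
    (he : (centralizer ((P : Subgroup G) : Set G)).relIndex (normalizer ((P : Subgroup G) : Set G)) = 1) : GS P := by
  rw [relIndex_eq_one] at he
  exact ⟨hab, fun x hx n hn _ => Or.inl (mem_cent_iff.1 (he hn)), fun g hg k hk =>
    Subgroup.mul_mem _ (Subgroup.mul_mem _ (Subgroup.mul_mem _ (he hg) (he hk)) (Subgroup.inv_mem _ (he hg))) (Subgroup.inv_mem _ (he hk))⟩

theorem gs_of_prime (hab : ∀ a ∈ (P : Subgroup G), ∀ b ∈ (P : Subgroup G), a * b = b * a)
    (he : ((centralizer ((P : Subgroup G) : Set G)).relIndex (normalizer ((P : Subgroup G) : Set G))).Prime) : GS P := by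
  refine ⟨hab, ?_, ?_⟩
  · intro x hx n hn hnx
    by_cases hnC : n ∈ centralizer ((P : Subgroup G) : Set G)
    · left; exact mem_cent_iff.1 hnC
    · right
      let S : Subgroup G := normalizer ((P : Subgroup G) : Set G) ⊓ centralizer ({x} : Set G)
      have hCS : centralizer ((P : Subgroup G) : Set G) ≤ S :=
        le_inf (Subgroup.centralizer_le_normalizer _) (by
          intro g hg
          rw [mem_centralizer_singleton_iff]
          exact (mem_centralizer_iff.1 hg x hx).symm)
      have hSN : S ≤ normalizer ((P : Subgroup G) : Set G) := inf_le_left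
      have h1 := Subgroup.relIndex_mul_relIndex _ S _ hCS hSN
      have h2 : (centralizer ((P : Subgroup G) : Set G)).relIndex S ≠ 1 := by
        rw [Ne, relIndex_eq_one]
        intro h3
        apply hnC
        apply h3
        exact Subgroup.mem_inf.2 ⟨hn, by
          rw [mem_centralizer_singleton_iff]; exact mul_inv_eq_iff_eq_mul.1 hnx⟩
      have h3 : (centralizer ((P : Subgroup G) : Set G)).relIndex S ∣
          (centralizer ((P : Subgroup G) : Set G)).relIndex (normalizer ((P : Subgroup G) : Set G)) := ⟨_, h1.symm⟩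
      have h4 := ((Nat.dvd_prime he).1 h3).resolve_left h2
      rw [h4] at h1
      have h5 : S.relIndex (normalizer ((P : Subgroup G) : Set G)) = 1 := by
        have h6 := he.pos
        exact Nat.eq_of_mul_eq_mul_left h6 (by rw [h1, mul_one])
      rw [relIndex_eq_one] at h5
      intro m hm
      have h7 := (Subgroup.mem_inf.1 (h5 hm)).2
      rw [mem_centralizer_singleton_iff] at h7
      rw [h7, mul_inv_cancel_right]
  · apply comm_of_quot
    intro _ a b
    haveI : Fact (Nat.Prime ((centralizer ((P : Subgroup G) : Set G)).relIndex (normalizer ((P : Subgroup G) : Set G)))) := ⟨he⟩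
    have hcyc := isCyclic_of_prime_card (α := (normalizer ((P : Subgroup G) : Set G)) ⧸ (centralizer ((P : Subgroup G) : Set G)).subgroupOf (normalizer ((P : Subgroup G) : Set G)))
      (p := (centralizer ((P : Subgroup G) : Set G)).relIndex (normalizer ((P : Subgroup G) : Set G))) (by
        rw [← Subgroup.index_eq_card]; rfl)
    letI := hcyc.commGroup
    exact mul_comm a b

/-- general bound -/
theorem relIndex_lt' (A : Subgroup G) (hA : ∀ n ∈ normalizer ((P : Subgroup G) : Set G), ∀ y ∈ A, n * y * n⁻¹ ∈ A)
    {a : G} (ha : a ∈ (P : Subgroup G)) (haA : a ∈ A) (ha1 : a ≠ 1)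
    (hfree : ∀ n ∈ normalizer ((P : Subgroup G) : Set G), n * a * n⁻¹ = a → n ∈ centralizer ((P : Subgroup G) : Set G)) :
    (centralizer ((P : Subgroup G) : Set G)).relIndex (normalizer ((P : Subgroup G) : Set G)) < Nat.card A := by
  have := Fintype.ofFinite G
  have h1 := orbit_card hfree ha (Finset.univ.filter (fun y => ∃ n ∈ normalizer ((P : Subgroup G) : Set G), n * a * n⁻¹ = y))
    (by simp)
  rw [← h1, ← card_filter_mem A]
  apply Finset.card_lt_card
  rw [Finset.ssubset_iff_of_subset]
  · refine ⟨1, by simp, ?_⟩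
    simp only [Finset.mem_filter, Finset.mem_univ, true_and]
    rintro ⟨n, hn, hn'⟩
    apply ha1
    have := congrArg (fun z => n⁻¹ * z * n) hn'
    simpa [mul_assoc] using this
  · intro y hy
    simp only [Finset.mem_filter, Finset.mem_univ, true_and] at hy ⊢
    obtain ⟨n, hn, rfl⟩ := hy
    exact hA n hn a haA

theorem pow_two_cases {x k : ℕ} (h : x ∣ 2 ^ k) : ∃ j ≤ k, x = 2 ^ j := (Nat.dvd_prime_pow Nat.prime_two).1 h

/-- the elementary abelian condition is automatic for orders `≤ 16` -/
theorem good16 : Good.{u} 16 := by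
  intro G _ _ P h hn hH x hx
  haveI : Fact (Nat.Prime 2) := ⟨Nat.prime_two⟩
  have hP : (P : Subgroup G) ≠ ⊥ := by
    intro hP
    have h1 := h.h8
    have h2 : Nat.card h.toAS.Om ≤ Nat.card (P : Subgroup G) := Nat.card_mono (Set.toFinite _) h.toAS.Om_le
    rw [hP] at h2
    simp at h2
    omega
  obtain ⟨a, ha, ha2⟩ := exists_invol hP
  have ha1 : a ≠ 1 := by rintro rfl; rw [orderOf_one] at ha2; omega
  have haa : a * a = 1 := by rw [← sq, ← ha2, pow_orderOf_eq_one]
  have he := relIndex_eq h.toAS (a := a) ⟨ha, haa⟩ ha1 (fun b hb hb1 =>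
    H52E16e.mem_of_conj P h.hab ha hb.1 (h.conj_of_ne hH ha2
      (orderOf_eq_prime (by rw [sq]; exact hb.2) hb1) (h.P_le_H ha) (h.P_le_H hb.1)))
  obtain ⟨X, -, -, -, hc⟩ := reps h.hab (fun x hx n hn hnx => by
    by_cases hx1 : x = 1
    · right; intro m _; rw [hx1]; group
    · left; exact h.sr x hx hx1 n hn hnx)
  have h8 := h.h8
  have hP0 : Nat.card (P0 P) = 1 := by
    rw [Subgroup.card_eq_one, eq_bot_iff]
    intro y hy
    by_contra hy1
    have h1 : normalizer ((P : Subgroup G) : Set G) ≤ centralizer ((P : Subgroup G) : Set G) := by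
      intro n hn
      rw [mem_cent_iff]
      exact h.sr y hy.1 hy1 n hn (hy.2 n hn)
    rw [← relIndex_eq_one] at h1
    omega
  rw [hP0, he] at hc
  obtain ⟨k, hk⟩ := card_pow P
  obtain ⟨j, hj⟩ := Om_pow h.toAS
  have hle : Nat.card h.toAS.Om ≤ Nat.card P := Nat.card_mono (Set.toFinite _) h.toAS.Om_le
  have hOm : h.toAS.Om = (P : Subgroup G) := by
    apply Subgroup.eq_of_le_of_card_ge h.toAS.Om_le
    show Nat.card P ≤ _
    generalize (X.filter (fun x => ¬ x ∈ P0 P)).card = mm at hc
    rw [hk] at hc hn hle
    rw [hj] at hc h8 hle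
    rw [hk, hj]
    have k4 : k ≤ 4 := by
      by_contra hcon
      have := Nat.pow_le_pow_right (n := 2) (by norm_num) (show 5 ≤ k by omega)
      omega
    have j3 : 3 ≤ j := by
      by_contra hcon
      have := Nat.pow_le_pow_right (n := 2) (by norm_num) (show j ≤ 2 by omega)
      omega
    have j4 : j ≤ 4 := by
      by_contra hcon
      have := Nat.pow_le_pow_right (n := 2) (by norm_num) (show 5 ≤ j by omega)
      omega
    interval_cases k <;> interval_cases j <;> omega
  have hx' : x ∈ h.toAS.Om := by rw [hOm]; exact hx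
  exact hx'.2

/-- the main computation for S4570 -/
theorem main (hM : IsPModular 2 M) (hab : ∀ a ∈ (P : Subgroup G), ∀ b ∈ (P : Subgroup G), a * b = b * a)
    {x : G} (hx : x ∈ (P : Subgroup G)) (hx2 : orderOf x = 2)
    (hfree : ∀ n ∈ normalizer ((P : Subgroup G) : Set G), n * x * n⁻¹ = x → n ∈ centralizer ((P : Subgroup G) : Set G)) :
    (Nat.card P = 8 → Nat.card (principalBlock M G) = 8) ∧
    (Nat.card P = 16 → Nat.card (principalBlock M G) = 8 ∨ Nat.card (principalBlock M G) = 16) := by
  haveI : Fact (Nat.Prime 2) := ⟨Nat.prime_two⟩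
  have hx1 : x ≠ 1 := by rintro rfl; rw [orderOf_one] at hx2; omega
  have hlt := relIndex_lt' (P : Subgroup G) (fun n hn y hy => (mem_normalizer_iff.1 hn y).1 hy) hx hx hx1 hfree
  have hodd := odd_relIndex hab
  have hT : ∀ h : GS P, Nat.card P ≤ 16 → ∃ m : ℕ, Nat.card P = Nat.card (P0 P) +
        (centralizer ((P : Subgroup G) : Set G)).relIndex (normalizer ((P : Subgroup G) : Set G)) * m ∧
      Nat.card (principalBlock M G) = Nat.card (P0 P) *
        (centralizer ((P : Subgroup G) : Set G)).relIndex (normalizer ((P : Subgroup G) : Set G)) + m := by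
    intro h h16
    have h1 := k_formula hM h
    rwa [rank_eq hM good16 _ G P le_rfl h h16] at h1
  set e := (centralizer ((P : Subgroup G) : Set G)).relIndex (normalizer ((P : Subgroup G) : Set G)) with he
  have h0 : Nat.card (P0 P) = Nat.card P → e = 1 := by
    intro h1
    have h2 : P0 P = (P : Subgroup G) := Subgroup.eq_of_le_of_card_ge (fun y hy => hy.1) h1.ge
    rw [he, relIndex_eq_one]
    intro n hn
    rw [mem_cent_iff]
    intro y hy
    rw [← h2] at hy
    exact hy.2 n hn
  have hlt' : e < Nat.card P := hlt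
  have hdvd : Nat.card (P0 P) ∣ Nat.card P := Subgroup.card_dvd_of_le (fun y hy => hy.1)
  constructor
  · intro h8
    rw [h8] at hlt' hdvd h0
    obtain ⟨j, hj, hj2⟩ := pow_two_cases (k := 3) (by norm_num; exact hdvd)
    have hgs : GS P := by
      have : e = 1 ∨ e = 3 ∨ e = 5 ∨ e = 7 := by omega
      rcases this with h1 | h1 | h1 | h1
      · exact gs_of_one hab h1
      all_goals exact gs_of_prime hab (by rw [← he, h1]; norm_num)
    obtain ⟨m, h1, h2⟩ := hT hgs (by rw [h8]; norm_num)
    rw [h8] at h1
    rw [h2]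
    rw [hj2] at h0 h1 ⊢
    have : e = 1 ∨ e = 3 ∨ e = 5 ∨ e = 7 := by omega
    rcases this with h3 | h3 | h3 | h3 <;> rw [h3] at h0 h1 ⊢ <;> interval_cases j <;> omega
  · intro h16
    by_cases he9 : e = 9
    · right
      let A : Subgroup G := {
        carrier := {y | y ∈ (P : Subgroup G) ∧ y * y = 1}
        mul_mem' := by
          rintro a b ⟨ha, ha2⟩ ⟨hb, hb2⟩
          refine ⟨mul_mem ha hb, ?_⟩
          calc a * b * (a * b) = a * (b * a) * b := by group
            _ = (a * a) * (b * b) := by rw [← hab a ha b hb]; group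
            _ = 1 := by rw [ha2, hb2, mul_one]
        one_mem' := ⟨one_mem _, mul_one 1⟩
        inv_mem' := by
          rintro a ⟨ha, ha2⟩
          refine ⟨inv_mem ha, ?_⟩
          rw [← mul_inv_rev, ha2, inv_one] }
      have hAP : A ≤ (P : Subgroup G) := fun y hy => hy.1
      have h1 := relIndex_lt' A (fun n hn y hy => ⟨(mem_normalizer_iff.1 hn y).1 hy.1, by
        calc n * y * n⁻¹ * (n * y * n⁻¹) = n * (y * y) * n⁻¹ := by group
          _ = 1 := by rw [hy.2]; group⟩) hx (⟨hx, by rw [← sq, ← hx2, pow_orderOf_eq_one]⟩ : x ∈ A) hx1 hfree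
      rw [← he, he9] at h1
      have h2 : Nat.card A ∣ 2 ^ 4 := by
        have := Subgroup.card_dvd_of_le hAP
        have h3 : Nat.card (P : Subgroup G) = 16 := h16
        rw [h3] at this
        norm_num
        exact this
      obtain ⟨j, hj, hj2⟩ := pow_two_cases h2
      have h4 : Nat.card A = 16 := by
        rw [hj2] at h1 ⊢
        interval_cases j <;> omega
      have h5 : A = (P : Subgroup G) := Subgroup.eq_of_le_of_card_ge hAP (by rw [h4]; exact h16.le)
      refine (S4569.result M hM P h16 ?_ (by rw [← he9])).1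
      rintro ⟨y, hy⟩
      have hyA : y ∈ A := by rw [h5]; exact hy
      apply Subtype.ext
      show y ^ 2 = 1
      rw [sq]
      exact hyA.2
    by_cases he15 : e = 15
    · have hgs : GS P := by
        refine ⟨hab, ?_, ?_⟩
        · intro y hy n hn hny
          by_cases hy1 : y = 1
          · right; intro m _; rw [hy1]; group
          left
          have := Fintype.ofFinite G
          have h1 := orbit_card hfree hx (Finset.univ.filter (fun y => ∃ n ∈ normalizer ((P : Subgroup G) : Set G), n * x * n⁻¹ = y))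
            (by simp)
          rw [← he, he15] at h1
          have h2 : Finset.univ.filter (fun y => ∃ n ∈ normalizer ((P : Subgroup G) : Set G), n * x * n⁻¹ = y) =
              (Finset.univ.filter (fun y => y ∈ (P : Subgroup G))).erase 1 := by
            apply Finset.eq_of_subset_of_card_le
            · intro z hz
              simp only [Finset.mem_filter, Finset.mem_univ, true_and, Finset.mem_erase] at hz ⊢
              obtain ⟨m, hm, rfl⟩ := hz
              refine ⟨?_, (mem_normalizer_iff.1 hm x).1 hx⟩
              intro h3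
              apply hx1
              have := congrArg (fun z => m⁻¹ * z * m) h3
              simpa [mul_assoc] using this
            · rw [h1, Finset.card_erase_of_mem (by simp), card_filter_mem]
              have h3 : Nat.card (P : Subgroup G) = 16 := h16
              rw [h3]
          have h3 : y ∈ Finset.univ.filter (fun y => ∃ n ∈ normalizer ((P : Subgroup G) : Set G), n * x * n⁻¹ = y) := by
            rw [h2]
            simp only [Finset.mem_filter, Finset.mem_univ, true_and, Finset.mem_erase]
            exact ⟨hy1, hy⟩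
          simp only [Finset.mem_filter, Finset.mem_univ, true_and] at h3
          obtain ⟨m, hm, rfl⟩ := h3
          have h4 : m⁻¹ * n * m ∈ centralizer ((P : Subgroup G) : Set G) := by
            apply hfree
            · exact Subgroup.mul_mem _ (Subgroup.mul_mem _ (Subgroup.inv_mem _ hm) hn) hm
            · calc m⁻¹ * n * m * x * (m⁻¹ * n * m)⁻¹ = m⁻¹ * (n * (m * x * m⁻¹) * n⁻¹) * m := by group
                _ = m⁻¹ * (m * x * m⁻¹) * m := by rw [hny]
                _ = x := by group
          rw [mem_cent_iff] at h4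
          intro z hz
          have h5 := h4 (m⁻¹ * z * m) (by
            have := (mem_normalizer_iff.1 (Subgroup.inv_mem _ hm) z).1 hz
            rwa [inv_inv] at this)
          have h6 : m * (m⁻¹ * n * m * (m⁻¹ * z * m) * (m⁻¹ * n * m)⁻¹) * m⁻¹ = m * (m⁻¹ * z * m) * m⁻¹ := by rw [h5]
          calc n * z * n⁻¹ = m * (m⁻¹ * n * m * (m⁻¹ * z * m) * (m⁻¹ * n * m)⁻¹) * m⁻¹ := by group
            _ = m * (m⁻¹ * z * m) * m⁻¹ := h6
            _ = z := by group
        · apply comm_of_quot
          intro _ a b
          apply comm_fifteen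
          rw [← Subgroup.index_eq_card]
          exact he15
      obtain ⟨m, h1, h2⟩ := hT hgs h16.le
      rw [h16] at h1 h0
      have h3 : 0 < Nat.card (P0 P) := Nat.card_pos
      rw [he15] at h1 h2 h0
      rw [h2]
      have h4 : Nat.card (P0 P) ≠ 16 := fun h => absurd (h0 h) (by norm_num)
      omega
    rw [h16] at hlt' hdvd h0
    obtain ⟨j, hj, hj2⟩ := pow_two_cases (k := 4) (by norm_num; exact hdvd)
    have hcases : e = 1 ∨ e = 3 ∨ e = 5 ∨ e = 7 ∨ e = 11 ∨ e = 13 := by omega
    have hgs : GS P := by
      rcases hcases with h1 | h1 | h1 | h1 | h1 | h1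
      · exact gs_of_one hab h1
      all_goals exact gs_of_prime hab (by rw [← he, h1]; norm_num)
    obtain ⟨m, h1, h2⟩ := hT hgs h16.le
    rw [h16] at h1
    rw [h2]
    rw [hj2] at h0 h1 ⊢
    rcases hcases with h3 | h3 | h3 | h3 | h3 | h3 <;> rw [h3] at h0 h1 ⊢ <;> interval_cases j <;> omega

end Cfsg.Agent.Lib.H70AbL
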