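import Mathlib
import Cfsg.Agent.Lib.H70AbJ

/-!
# Elements whose 2-part is an involution (helper70)
-/

set_option autoImplicit false
set_option maxHeartbeats 400000

open Subgroup

namespace Cfsg.Agent.Lib.H70AbM

open Cfsg Cfsg.Agent.Lib.BlockRing Cfsg.Agent.Lib.BlockThird Cfsg.Agent.Lib.SSF2 Cfsg.Agent.Lib.H70AbE Cfsg.Agent.Lib.H70AbB Cfsg.Agent.Lib.H70AbC
open Cfsg.Agent.Lib.H70AbA Cfsg.Agent.Lib.H70AbF Cfsg.Agent.Lib.H70AbG Cfsg.Agent.Lib.H52Dih5
open Cfsg.Agent.Lib.H25BpF (pp pq pp_eq pp_conj pp_order pp_comm pq_order pp_mul_pq)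
open scoped Classical

universe u

section Z

variable {G : Type u} [Group G] [Fintype G]
variable {H Y X : Subgroup G} {r e : ℕ}

/-- a set of 2-singular elements containing the involutions -/
structure ZZ (H Y X : Subgroup G) (r e : ℕ) (Z : Finset G) : Prop extends CC H Y X r e where
  sub : ∀ g ∈ Z, 2 ∣ orderOf g
  cj : ∀ g c : G, c⁻¹ * g * c ∈ Z ↔ g ∈ Z
  inv : ∀ g : G, orderOf g = 2 → g ∈ Z
  cZ : (Z.filter (fun g => g ∈ H)).card = e * Nat.card X
  st3 : ∀ w s : G, w ∈ Z → w ∈ H → s ∈ Z → 2 ∣ orderOf (s⁻¹ * w) → s ∈ H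
  ml : ∀ s ∈ Z, s ∈ H → ∀ x ∈ X, s * x ∈ Z

variable {Z : Finset G} (h : ZZ H Y X r e Z)
include h

theorem ZZ.step4 {g b : G} (hg : g ∈ Z) (hgH : g ∉ H) (hb : 2 ∣ orderOf b) (hbH : b ∈ H) : g * b ∉ Z := by
  intro hw
  obtain ⟨y, hy⟩ := h.ex _ (h.sub _ hw)
  have e1 : (y⁻¹ * g * y)⁻¹ * (y⁻¹ * (g * b) * y) = y⁻¹ * b * y := by group
  have h1 : y⁻¹ * g * y ∈ H := by
    refine h.st3 _ _ ((h.cj _ y).2 hw) hy ((h.cj _ y).2 hg) ?_
    rw [e1]; exact conj_Sg y hb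
  have h2 : y⁻¹ * b * y ∈ H := by
    rw [← e1]; exact H.mul_mem (H.inv_mem h1) hy
  have h3 : y ∈ H := h.un b y hb hbH h2
  apply hgH
  have : g = y * (y⁻¹ * g * y) * y⁻¹ := by group
  rw [this]
  exact H.mul_mem (H.mul_mem h3 h1) (H.inv_mem h3)

theorem ZZ.fiber_le {s : G} (hs : s ∈ Z) (hsH : s ∉ H) {s' : G} (hs' : s' ∈ Z) (hb : s⁻¹ * s' ∈ Y) :
    s⁻¹ * s' ∈ X := by
  by_contra hX
  have h1 : 2 ∣ orderOf (s⁻¹ * s') := (h.sing _ (h.hYH hb)).2 ⟨hb, hX⟩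
  have h2 := h.step4 hs hsH h1 (h.hYH hb)
  rw [mul_inv_cancel_left] at h2
  exact h2 hs'

theorem ZZ.card_ZnH : (Z.filter (fun g => g ∉ H)).card = (H.index - 1) * (e * Nat.card X) := by
  have h1 : (Z.filter (fun g => g ∈ H)).card + (Z.filter (fun g => g ∉ H)).card = Z.card :=
    Finset.card_filter_add_card_filter_not _
  rw [card_conj h.toCC Z h.sub h.cj, h.cZ] at h1
  have hi : 0 < H.index := Nat.pos_of_ne_zero H.index_ne_zero_of_finite
  obtain ⟨n, hn⟩ : ∃ n, H.index = n + 1 := ⟨H.index - 1, by omega⟩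
  rw [hn] at h1 ⊢
  rw [Nat.add_sub_cancel]
  nlinarith

omit h in
noncomputable def zfib (Y : Subgroup G) (Z : Finset G) (c : G ⧸ Y) : Finset G :=
  Z.filter (fun s => (QuotientGroup.mk s : G ⧸ Y) = c)

theorem ZZ.sum_fib : ∑ c ∈ T H Y, (zfib Y Z c).card = (H.index - 1) * (e * Nat.card X) := by
  rw [← h.card_ZnH]
  rw [Finset.card_eq_sum_card_fiberwise (f := fun g => (QuotientGroup.mk g : G ⧸ Y)) (t := T H Y)]
  · refine Finset.sum_congr rfl fun c hc => ?_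
    congr 1
    ext s
    unfold zfib
    simp only [Finset.mem_filter]
    constructor
    · rintro ⟨h1, h2⟩
      refine ⟨⟨h1, ?_⟩, h2⟩
      rw [← mk_mem_T h.hYH, h2]; exact hc
    · rintro ⟨⟨h1, _⟩, h2⟩
      exact ⟨h1, h2⟩
  · intro g hg
    simp only [Finset.coe_filter, Set.mem_setOf_eq] at hg
    exact (mk_mem_T h.hYH).2 hg.2

theorem ZZ.card_fib_le {c : G ⧸ Y} (hcT : c ∈ T H Y) : (zfib Y Z c).card ≤ Nat.card X := by
  rcases (zfib Y Z c).eq_empty_or_nonempty with h0 | ⟨s, hs⟩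
  · rw [h0]; simp
  unfold zfib at hs
  rw [Finset.mem_filter] at hs
  have hsH : s ∉ H := by rw [← mk_mem_T h.hYH, hs.2]; exact hcT
  rw [← card_filter_mem X]
  refine Finset.card_le_card_of_injOn (fun s' => s⁻¹ * s') ?_ (fun a _ b _ hab => mul_left_cancel hab)
  intro s' hs'
  have hs'' : s' ∈ zfib Y Z c := hs'
  unfold zfib at hs''
  rw [Finset.mem_filter] at hs''
  simp only [Finset.coe_filter, Finset.mem_univ, true_and, Set.mem_setOf_eq]
  refine h.fiber_le hs.1 hsH hs''.1 ?_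
  rw [← QuotientGroup.eq, hs.2, hs''.2]

theorem ZZ.card_fib {c : G ⧸ Y} (hcT : c ∈ T H Y) : (zfib Y Z c).card = Nat.card X := by
  have h1 := h.sum_fib
  have h2 : ∑ c ∈ T H Y, (zfib Y Z c).card = ∑ c ∈ T H Y, Nat.card X := by
    rw [h1, Finset.sum_const, smul_eq_mul, h.toCC.card_T]
    ring
  exact (Finset.sum_eq_sum_iff_of_le (fun c hcT => h.card_fib_le hcT)).1 h2 c hcT

theorem ZZ.mul_mem {s x : G} (hs : s ∈ Z) (hx : x ∈ X) : s * x ∈ Z := by
  by_cases hsH : s ∈ H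
  · exact h.ml s hs hsH x hx
  · set c : G ⧸ Y := QuotientGroup.mk s with hcdef
    have hcT : c ∈ T H Y := (mk_mem_T h.hYH).2 hsH
    have h1 := h.card_fib hcT
    rw [← card_filter_mem X] at h1
    have hmaps : ∀ s' ∈ zfib Y Z c, (fun s' => s⁻¹ * s') s' ∈ Finset.univ.filter (fun g : G => g ∈ X) := by
      intro s' hs'
      unfold zfib at hs'
      rw [Finset.mem_filter] at hs'
      simp only [Finset.mem_filter, Finset.mem_univ, true_and]
      refine h.fiber_le hs hsH hs'.1 ?_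
      rw [← QuotientGroup.eq, hs'.2]
    have hsurj := Finset.surj_on_of_inj_on_of_card_le (s := zfib Y Z c) (t := Finset.univ.filter (fun g : G => g ∈ X))
      (fun s' _ => s⁻¹ * s') hmaps (fun a b _ _ hab => mul_left_cancel hab) (by rw [h1]) x (by simpa using hx)
    obtain ⟨s', hs', hxs⟩ := hsurj
    unfold zfib at hs'
    rw [Finset.mem_filter] at hs'
    rw [hxs, mul_inv_cancel_left]
    exact hs'.1

theorem ZZ.odd_normalClosure : ¬ 2 ∣ Nat.card (Subgroup.normalClosure (X : Set G)) := by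
  intro hd
  haveI : Fact (Nat.Prime 2) := ⟨Nat.prime_two⟩
  obtain ⟨t, ht⟩ := exists_prime_orderOf_dvd_card' 2 hd
  have ht' : orderOf (t : G) = 2 := by rw [Subgroup.orderOf_coe]; exact ht
  have key : ∀ n ∈ Subgroup.normalClosure (X : Set G), ∀ s : G, s ∈ Z → s * n ∈ Z := by
    intro n hn
    unfold Subgroup.normalClosure at hn
    induction hn using Subgroup.closure_induction with
    | mem y hy =>
      intro s hs
      rw [Group.mem_conjugatesOfSet_iff] at hy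
      obtain ⟨x, hx, hxy⟩ := hy
      obtain ⟨c, rfl⟩ := isConj_iff.mp hxy
      have h1 := h.mul_mem (s := c⁻¹ * s * c) (x := x) ((h.cj s c).2 hs) hx
      have e1 : c⁻¹ * (s * (c * x * c⁻¹)) * c = c⁻¹ * s * c * x := by group
      rw [← h.cj _ c, e1]
      exact h1
    | one => intro s hs; rw [mul_one]; exact hs
    | mul a b _ _ iha ihb => intro s hs; rw [← mul_assoc]; exact ihb _ (iha s hs)
    | inv a ha iha =>
      intro s hs
      have h2 : ∀ k : ℕ, ∀ s : G, s ∈ Z → s * a ^ k ∈ Z := by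
        intro k
        induction k with
        | zero => intro s hs; rw [pow_zero, mul_one]; exact hs
        | succ k ih => intro s hs; rw [pow_succ, ← mul_assoc]; exact iha _ (ih s hs)
      have h3 : a⁻¹ = a ^ (orderOf a - 1) := by
        have h4 : a * a ^ (orderOf a - 1) = 1 := by
          rw [← pow_succ', Nat.sub_add_cancel (orderOf_pos a), pow_orderOf_eq_one]
        exact (eq_inv_of_mul_eq_one_right h4).symm
      rw [h3]; exact h2 _ s hs
  have h1 := h.sub _ (key (t : G)⁻¹ ((Subgroup.normalClosure (X : Set G)).inv_mem t.2) t (h.inv _ ht'))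
  rw [mul_inv_cancel, orderOf_one] at h1
  omega

end Z

section SA

variable {G : Type u} [Group G] [Fintype G] {P : Sylow 2 G}

/-- elements whose 2-part is an involution -/
noncomputable def Sa (G : Type u) [Group G] [Fintype G] : Finset G :=
  Finset.univ.filter (fun g : G => 2 ∣ orderOf g ∧ ¬ 4 ∣ orderOf g)

theorem mem_Sa {g : G} : g ∈ Sa G ↔ 2 ∣ orderOf g ∧ ¬ 4 ∣ orderOf g := by simp [Sa]

theorem Iv_sub_Sa {g : G} (hg : g ∈ Iv G) : g ∈ Sa G := by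
  rw [mem_Iv] at hg
  rw [mem_Sa, hg]
  exact ⟨dvd_refl 2, by norm_num⟩

theorem ind_cf_Sa : IsClassFunction G (ind (Sa G)) := by
  intro g h
  apply ind_congr
  rw [mem_Sa, mem_Sa, orderOf_conj']

theorem ind_inv_Sa (g : G) : ind (Sa G) g⁻¹ = ind (Sa G) g := by
  apply ind_congr
  rw [mem_Sa, mem_Sa, orderOf_inv]

theorem cj_Sa (g c : G) : c⁻¹ * g * c ∈ Sa G ↔ g ∈ Sa G := by
  have := orderOf_conj' c⁻¹ g
  rw [inv_inv] at this
  rw [mem_Sa, mem_Sa, this]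

theorem pp_invol {g : G} (hg : g ∈ Sa G) : orderOf (pp 2 g) = 2 := by
  haveI : Fact (Nat.Prime 2) := ⟨Nat.prime_two⟩
  rw [mem_Sa] at hg
  obtain ⟨k, hk⟩ := pp_order 2 g
  have h1 : orderOf g = orderOf (pp 2 g) * orderOf (pq 2 g) := by
    conv_lhs => rw [← pp_mul_pq 2 g]
    apply Commute.orderOf_mul_eq_mul_orderOf_of_coprime
    · exact pp_comm 2 g
    · rw [hk]
      exact Nat.Coprime.pow_left k ((Nat.prime_two.coprime_iff_not_dvd).2 (pq_order 2 g))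
  have hq := pq_order 2 g
  rw [hk] at h1 ⊢
  rcases Nat.lt_trichotomy k 1 with h2 | h2 | h2
  · have : k = 0 := by omega
    rw [this, pow_zero, one_mul] at h1
    exact absurd (h1 ▸ hg.1) hq
  · rw [h2, pow_one]
  · exfalso
    apply hg.2
    rw [h1]
    apply Dvd.dvd.mul_right
    exact (pow_dvd_pow 2 (show 2 ≤ k by omega) : 2 ^ 2 ∣ 2 ^ k)

variable {M : Ideal AlgInt}

section

variable (hM : IsPModular 2 M) {a : G}
  (hconst : ∀ χ ∈ PB M G, ∀ g ∈ Sa G, (χ : G → ℂ) g = (χ : G → ℂ) a)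

include hM hconst

/-- (C2) -/
theorem conv_eq' {w : G} :
    (Sa G).card * ((Iv G).filter (fun t => t⁻¹ * w ∈ Sg G)).card =
      (Iv G).card * ((Sa G).filter (fun s => s⁻¹ * w ∈ Sg G)).card := by
  have h1 := conv hM sec_Sg ind_cf_Sa ind_inv_Sa w
  have h2 := conv hM sec_Sg ind_cf_Iv ind_inv_Iv w
  rw [conv_ind] at h1 h2
  have h3 : ((Sa G).card : ℂ) * (((Iv G).filter (fun t => t⁻¹ * w ∈ Sg G)).card : ℂ) =
      ((Iv G).card : ℂ) * (((Sa G).filter (fun s => s⁻¹ * w ∈ Sg G)).card : ℂ) := by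
    rw [h1, h2, Finset.mul_sum, Finset.mul_sum]
    refine Finset.sum_congr rfl fun χ hχ => ?_
    rw [sum_ind_mul (Sa G) (χ : G → ℂ) (d := (χ : G → ℂ) a) (fun t ht => hconst χ hχ t ht),
      sum_ind_mul (Iv G) (χ : G → ℂ) (d := (χ : G → ℂ) a) (fun t ht => hconst χ hχ t (Iv_sub_Sa ht))]
    ring
  exact_mod_cast h3

/-- (C1) -/
theorem conv_const' {w w' : G} (hw : w ∈ Sa G) (hw' : w' ∈ Sa G) :
    ((Sa G).filter (fun s => s⁻¹ * w ∈ Sg G)).card = ((Sa G).filter (fun s => s⁻¹ * w' ∈ Sg G)).card := by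
  have h1 := conv hM sec_Sg ind_cf_Sa ind_inv_Sa w
  have h2 := conv hM sec_Sg ind_cf_Sa ind_inv_Sa w'
  rw [conv_ind] at h1 h2
  have h3 : (((Sa G).filter (fun s => s⁻¹ * w ∈ Sg G)).card : ℂ) =
      (((Sa G).filter (fun s => s⁻¹ * w' ∈ Sg G)).card : ℂ) := by
    rw [h1, h2]
    refine Finset.sum_congr rfl fun χ hχ => ?_
    rw [hconst χ hχ w hw, hconst χ hχ w' hw']
  exact_mod_cast h3

end

/-- the subgroup `W Ω` -/
def V (h : BS P) : Subgroup G := h.W ⊔ h.toAS.Om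

variable (h : BS P)
include h

theorem Om_le_NW : h.toAS.Om ≤ normalizer (h.W : Set G) := h.toAS.Om_le.trans h.P_le_NW

theorem mem_V {g : G} : g ∈ V h ↔ g ∈ h.Y ∧ g * g ∈ h.W := by
  have hc : ∀ w ∈ h.W, ∀ b ∈ (P : Subgroup G), w * b * (w * b) = w * (b * w * b⁻¹) * (b * b) := by
    intro w _ b _; group
  constructor
  · intro hg
    obtain ⟨w, hw, b, hb, rfl⟩ := (mem_sup_iff (Om_le_NW h)).1 hg
    refine ⟨mul_mem (h.W_le_Y hw) (h.P_le_Y hb.1), ?_⟩
    rw [hc w hw b hb.1, hb.2, mul_one]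
    exact mul_mem hw (h.conj_W (h.P_le_H hb.1) hw)
  · rintro ⟨hgY, hgg⟩
    obtain ⟨w, hw, b, hb, rfl⟩ := h.mem_Y.1 hgY
    rw [hc w hw b hb] at hgg
    have h1 : b * b ∈ h.W := by
      have h2 : w * (b * w * b⁻¹) ∈ h.W := mul_mem hw (h.conj_W (h.P_le_H hb) hw)
      have h3 : b * b = (w * (b * w * b⁻¹))⁻¹ * (w * (b * w * b⁻¹) * (b * b)) := by group
      rw [h3]; exact mul_mem (inv_mem h2) hgg
    have h2 : b * b ∈ (P : Subgroup G) ⊓ h.W := Subgroup.mem_inf.2 ⟨mul_mem hb hb, h1⟩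
    rw [h.inf, mem_bot] at h2
    exact (mem_sup_iff (Om_le_NW h)).2 ⟨w, hw, b, ⟨hb, h2⟩, rfl⟩

theorem V_le_Y : V h ≤ h.Y := fun _ hg => ((mem_V h).1 hg).1
theorem W_le_V : h.W ≤ V h := le_sup_left

theorem card_V : Nat.card (V h) = Nat.card h.W * Nat.card h.toAS.Om := by
  rw [card_eq_relIndex (W_le_V h)]
  congr 1
  unfold V
  rw [relIndex_sup_of_le (Om_le_NW h), ← inf_relIndex_left]
  have : h.W ⊓ h.toAS.Om = ⊥ := by
    rw [eq_bot_iff, ← h.inf]
    intro x hx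
    obtain ⟨h1, h2⟩ := Subgroup.mem_inf.1 hx
    exact Subgroup.mem_inf.2 ⟨h2.1, h1⟩
  rw [inf_comm] at this
  first
  | rw [this, relIndex_bot_left]
  | (rw [inf_comm, this, relIndex_bot_left])

theorem Sa_H {g : G} (hg : g ∈ h.H) : g ∈ Sa G ↔ (g ∈ V h ∧ g ∉ h.W) := by
  rw [mem_Sa, h.sing hg, mem_V]
  constructor
  · rintro ⟨⟨h1, h2⟩, h3⟩
    refine ⟨⟨h1, ?_⟩, h2⟩
    by_contra h4
    have h5 : g * g ∈ h.Y := mul_mem h1 h1
    have h6 := (h.sing (h.Y_le_H h5)).2 ⟨h5, h4⟩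
    have h7 := (h.sing hg).2 ⟨h1, h2⟩
    apply h3
    rw [← sq, orderOf_pow_of_dvd (by norm_num) h7] at h6
    obtain ⟨k, hk⟩ := h6
    have h8 := Nat.div_mul_cancel h7
    exact ⟨k, by omega⟩
  · rintro ⟨⟨h1, h2⟩, h3⟩
    refine ⟨⟨h1, h3⟩, ?_⟩
    intro h4
    have h5 := h.odd_of_mem_W h2
    have h7 : 2 ∣ orderOf g := Dvd.dvd.trans (by norm_num) h4
    rw [← sq, orderOf_pow_of_dvd (by norm_num) h7] at h5
    apply h5
    obtain ⟨k, hk⟩ := h4
    exact ⟨k, by omega⟩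

theorem card_SaH : ((Sa G).filter (fun g => g ∈ h.H)).card = (Nat.card h.toAS.Om - 1) * Nat.card h.W := by
  have h1 : (Sa G).filter (fun g => g ∈ h.H) =
      (Finset.univ.filter (fun g : G => g ∈ V h)) \ (Finset.univ.filter (fun g : G => g ∈ h.W)) := by
    ext g
    simp only [Finset.mem_filter, Finset.mem_sdiff, Finset.mem_univ, true_and]
    constructor
    · rintro ⟨h1, h2⟩
      exact (Sa_H h h2).1 h1
    · rintro ⟨h1, h2⟩
      have h3 := h.Y_le_H (V_le_Y h h1)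
      exact ⟨(Sa_H h h3).2 ⟨h1, h2⟩, h3⟩
  rw [h1, Finset.card_sdiff_of_subset, card_filter_mem, card_filter_mem, card_V, Nat.sub_mul, mul_comm, one_mul]
  intro g hg
  simp only [Finset.mem_filter, Finset.mem_univ, true_and] at hg ⊢
  exact W_le_V h hg

end SA

end Cfsg.Agent.Lib.H70AbM
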