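import Mathlib
import Cfsg.Agent.Lib.H70AbM
import Cfsg.Agent.Lib.AbTI
import Cfsg.Agent.Lib.H70AbK

/-!
# The Sylow 2-subgroup is elementary abelian (helper70)
-/

set_option autoImplicit false
set_option maxHeartbeats 400000

open Subgroup

namespace Cfsg.Agent.Lib.H70AbN

open Cfsg Cfsg.Agent.Lib.BlockRing Cfsg.Agent.Lib.BlockThird Cfsg.Agent.Lib.SSF2 Cfsg.Agent.Lib.H70AbE Cfsg.Agent.Lib.H70AbB Cfsg.Agent.Lib.H70AbC
open Cfsg.Agent.Lib.H70AbA Cfsg.Agent.Lib.H70AbF Cfsg.Agent.Lib.H70AbG Cfsg.Agent.Lib.H52Dih5 Cfsg.Agent.Lib.H70AbM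
open Cfsg.Agent.Lib.H70AbI Cfsg.Agent.Lib.H70AbJ
open Cfsg.Agent.Lib.H25BpF (pp pq pp_eq pp_conj pp_order pp_comm pq_order pp_mul_pq)
open scoped Classical

universe u

section

variable {G : Type u} [Group G] [Fintype G] {P : Sylow 2 G}

theorem countSa (h : BS P) {a : G} (ha : orderOf a = 2) (haP : a ∈ (P : Subgroup G))
    (htr : ∀ b ∈ h.toAS.Om, b ≠ 1 → ∃ g ∈ h.H, g * a * g⁻¹ = b)
    (h1 : (Sa G).card * ((Iv G).filter (fun t => t⁻¹ * a ∈ Sg G)).card =
      (Iv G).card * ((Sa G).filter (fun s => s⁻¹ * a ∈ Sg G)).card) :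
    ((Sa G).filter (fun s => s⁻¹ * a ∈ Sg G)).card = (Nat.card h.toAS.Om - 2) * Nat.card h.W := by
  have hcc := h.cc
  have haH : a ∈ h.H := h.P_le_H haP
  -- decomposition of `V`
  have hdec : ∀ y ∈ V h, ∃ b ∈ h.toAS.Om, b⁻¹ * y ∈ h.W := by
    intro y hy
    obtain ⟨w, hw, b, hb, rfl⟩ := (mem_sup_iff (Om_le_NW h)).1 hy
    refine ⟨b, hb, ?_⟩
    have e1 : b⁻¹ * (w * b) = b⁻¹ * w * b⁻¹⁻¹ := by group
    rw [e1]
    exact h.conj_W (inv_mem (h.P_le_H hb.1)) hw
  have huni : ∀ b ∈ h.toAS.Om, ∀ b' ∈ h.toAS.Om, ∀ y, b⁻¹ * y ∈ h.W → b'⁻¹ * y ∈ h.W → b = b' := by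
    intro b hb b' hb' y h1 h2
    have h3 : b'⁻¹ * b ∈ (P : Subgroup G) ⊓ h.W := by
      refine Subgroup.mem_inf.2 ⟨mul_mem (inv_mem hb'.1) hb.1, ?_⟩
      have : b'⁻¹ * b = (b'⁻¹ * y) * (b⁻¹ * y)⁻¹ := by group
      rw [this]; exact mul_mem h2 (inv_mem h1)
    rw [h.inf, mem_bot] at h3
    exact (inv_mul_eq_one.mp h3).symm
  set i := ((Iv G).filter (fun t => a⁻¹ * t ∈ h.W)).card with hi
  set IH := ((Iv G).filter (fun t => t ∈ h.H)).card with hIH
  -- `i_b = i`
  have hib : ∀ b ∈ h.toAS.Om, b ≠ 1 → ((Iv G).filter (fun t => b⁻¹ * t ∈ h.W)).card = i := by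
    intro b hb hb1
    obtain ⟨g, hg, rfl⟩ := htr b hb hb1
    rw [hi]
    refine Finset.card_bij (fun t _ => g⁻¹ * t * g) ?_ ?_ ?_
    · intro t ht
      rw [Finset.mem_filter, mem_Iv] at ht
      rw [Finset.mem_filter, mem_Iv]
      refine ⟨?_, ?_⟩
      · have := orderOf_conj' g⁻¹ t
        rw [inv_inv] at this
        rw [this]; exact ht.1
      · have h2 := h.conj_W (inv_mem hg) ht.2
        have e1 : g⁻¹ * ((g * a * g⁻¹)⁻¹ * t) * g⁻¹⁻¹ = a⁻¹ * (g⁻¹ * t * g) := by group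
        rw [← e1]; exact h2
    · intro t _ t' _ htt
      exact mul_left_cancel (mul_right_cancel htt)
    · intro t ht
      rw [Finset.mem_filter, mem_Iv] at ht
      refine ⟨g * t * g⁻¹, ?_, by group⟩
      rw [Finset.mem_filter, mem_Iv]
      refine ⟨by rw [orderOf_conj']; exact ht.1, ?_⟩
      have h2 := h.conj_W hg ht.2
      have e1 : g * (a⁻¹ * t) * g⁻¹ = (g * a * g⁻¹)⁻¹ * (g * t * g⁻¹) := by group
      rw [← e1]; exact h2
  have hIHi : IH = (Nat.card h.toAS.Om - 1) * i := by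
    choose! f hf using hdec
    rw [hIH, Finset.card_eq_sum_card_fiberwise (f := f)
      (t := (Finset.univ.filter (fun g : G => g ∈ h.toAS.Om)).erase 1)]
    · rw [Finset.sum_congr rfl (g := fun _ => i)]
      · rw [Finset.sum_const, smul_eq_mul, Finset.card_erase_of_mem (by simp), card_filter_mem]
      · intro b hb
        rw [Finset.mem_erase] at hb
        simp only [Finset.mem_filter, Finset.mem_univ, true_and] at hb
        rw [← hib b hb.2 hb.1]
        congr 1
        ext t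
        simp only [Finset.mem_filter, mem_Iv]
        constructor
        · rintro ⟨⟨h2, h3⟩, h4⟩
          have h5 := (Sa_H h h3).1 (Iv_sub_Sa (mem_Iv.2 h2))
          refine ⟨h2, ?_⟩
          rw [← h4]; exact (hf t h5.1).2
        · rintro ⟨h2, h3⟩
          have h4 : t ∈ V h := by
            have : t = b * (b⁻¹ * t) := by group
            rw [this]
            exact mul_mem ((le_sup_right : h.toAS.Om ≤ V h) hb.2) (W_le_V h h3)
          exact ⟨⟨h2, h.Y_le_H (V_le_Y h h4)⟩, huni _ (hf t h4).1 _ hb.2 t (hf t h4).2 h3⟩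
    · intro t ht
      simp only [Finset.coe_filter, Set.mem_setOf_eq, mem_Iv] at ht
      have h5 := (Sa_H h ht.2).1 (Iv_sub_Sa (mem_Iv.2 ht.1))
      have h6 := hf t h5.1
      simp only [Finset.coe_erase, Finset.coe_filter, Finset.mem_univ, true_and, Set.mem_diff, Set.mem_setOf_eq,
        Set.mem_singleton_iff]
      refine ⟨h6.1, fun h7 => h5.2 ?_⟩
      rw [h7, inv_one, one_mul] at h6
      exact h6.2
  have hI : (Iv G).card = h.H.index * IH := by
    refine card_conj hcc (Iv G) (fun g hg => by rw [mem_Iv.1 hg]) ?_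
    intro g c
    rw [mem_Iv, mem_Iv]
    have := orderOf_conj' c⁻¹ g
    rw [inv_inv] at this
    rw [this]
  have hS : (Sa G).card = h.H.index * ((Nat.card h.toAS.Om - 1) * Nat.card h.W) := by
    rw [← card_SaH h]
    exact card_conj hcc (Sa G) (fun g hg => (mem_Sa.1 hg).1) cj_Sa
  have hcnt : ((Iv G).filter (fun t => t⁻¹ * a ∈ Sg G)).card + i = IH := by
    rw [hIH, ← Finset.card_filter_add_card_filter_not (s := (Iv G).filter (fun t => t ∈ h.H))
      (fun t => t⁻¹ * a ∈ Sg G)]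
    congr 1
    · congr 1
      ext t
      simp only [Finset.mem_filter, mem_Iv, mem_Sg]
      constructor
      · rintro ⟨h2, h3⟩
        exact ⟨⟨h2, dihedral_mem hcc ha haH h2 h3⟩, h3⟩
      · rintro ⟨⟨h2, _⟩, h3⟩
        exact ⟨h2, h3⟩
    · rw [hi]
      congr 1
      ext t
      simp only [Finset.mem_filter, mem_Iv, mem_Sg]
      constructor
      · rintro ⟨h2, h3⟩
        have h4 : t ∈ h.H := by
          have : t = a * (a⁻¹ * t) := by group
          rw [this]; exact mul_mem haH (h.Y_le_H (h.W_le_Y h3))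
        refine ⟨⟨h2, h4⟩, fun h5 => ?_⟩
        have h6 : t⁻¹ * a ∈ h.W := by
          have : t⁻¹ * a = (a⁻¹ * t)⁻¹ := by group
          rw [this]; exact inv_mem h3
        exact ((h.sing (h.Y_le_H (h.W_le_Y h6))).1 h5).2 h6
      · rintro ⟨⟨h2, h4⟩, h5⟩
        refine ⟨h2, ?_⟩
        have h6 : t ∈ h.Y := ((h.sing h4).1 (by rw [h2])).1
        have h7 : t⁻¹ * a ∈ h.Y := mul_mem (inv_mem h6) (h.P_le_Y haP)
        have h8 : t⁻¹ * a ∈ h.W := by
          by_contra h9
          exact h5 ((h.sing (h.Y_le_H h7)).2 ⟨h7, h9⟩)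
        have : a⁻¹ * t = (t⁻¹ * a)⁻¹ := by group
        rw [this]; exact inv_mem h8
  have hi0 : 0 < i := by
    rw [hi, Finset.card_pos]
    exact ⟨a, by rw [Finset.mem_filter, mem_Iv, inv_mul_cancel]; exact ⟨ha, one_mem _⟩⟩
  have hn0 : 0 < h.H.index := Nat.pos_of_ne_zero h.H.index_ne_zero_of_finite
  rw [hS, hI] at h1
  have hr := h.h8
  obtain ⟨k, hk⟩ : ∃ k, Nat.card h.toAS.Om = k + 2 := ⟨Nat.card h.toAS.Om - 2, by omega⟩
  set N := ((Iv G).filter (fun t => t⁻¹ * a ∈ Sg G)).card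
  set c := ((Sa G).filter (fun s => s⁻¹ * a ∈ Sg G)).card
  rw [hIHi] at h1 hcnt
  rw [hk] at h1 hcnt ⊢
  have e1 : k + 2 - 1 = k + 1 := rfl
  have e2 : k + 2 - 2 = k := rfl
  rw [e1] at h1 hcnt
  rw [e2]
  have hN : N = k * i := by
    have : N + i = k * i + i := by rw [hcnt]; ring
    omega
  rw [hN] at h1
  have h2 : (h.H.index * (k + 1) * i) * (Nat.card h.W * k) = (h.H.index * (k + 1) * i) * c := by
    calc _ = h.H.index * ((k + 1) * Nat.card h.W) * (k * i) := by ring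
      _ = _ := by rw [h1]; ring
  have h3 : 0 < h.H.index * (k + 1) * i := by positivity
  have := Nat.eq_of_mul_eq_mul_left h3 h2
  rw [← this]; ring

theorem st3 (h : BS P)
    (hc : ∀ w ∈ Sa G, ((Sa G).filter (fun s => s⁻¹ * w ∈ Sg G)).card = (Nat.card h.toAS.Om - 2) * Nat.card h.W)
    {w s : G} (hw : w ∈ Sa G) (hwH : w ∈ h.H) (hs : s ∈ Sa G) (hsw : 2 ∣ orderOf (s⁻¹ * w)) : s ∈ h.H := by
  obtain ⟨hwY, hwX⟩ := (Sa_H h hwH).1 hw
  set A : Finset G := ((Finset.univ.filter (fun g : G => g ∈ V h)) \ (Finset.univ.filter (fun g : G => g ∈ h.W))) \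
    (Finset.univ.filter (fun g : G => g⁻¹ * w ∈ h.W)) with hA
  have hcwX : (Finset.univ.filter (fun g : G => g⁻¹ * w ∈ h.W)).card = Nat.card h.W := by
    rw [← card_filter_mem]
    refine Finset.card_bij (fun g _ => g⁻¹ * w) ?_ ?_ ?_
    · intro g hg
      simpa using hg
    · intro g _ g' _ hgg
      exact inv_injective (mul_right_cancel hgg)
    · intro b hb
      refine ⟨w * b⁻¹, ?_, by group⟩
      simp only [Finset.mem_filter, Finset.mem_univ, true_and] at hb ⊢
      have : (w * b⁻¹)⁻¹ * w = b := by group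
      rw [this]; exact hb
  have hcA : A.card = (Nat.card h.toAS.Om - 2) * Nat.card h.W := by
    rw [hA, Finset.card_sdiff_of_subset, Finset.card_sdiff_of_subset, card_filter_mem, card_filter_mem, hcwX, card_V, Nat.sub_mul,
      mul_comm (Nat.card h.toAS.Om), Nat.sub_sub]
    · congr 1; ring
    · intro g hg
      simp only [Finset.mem_filter, Finset.mem_univ, true_and] at hg ⊢
      exact W_le_V h hg
    · intro g hg
      simp only [Finset.mem_sdiff, Finset.mem_filter, Finset.mem_univ, true_and] at hg ⊢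
      have h1 : g ∈ V h := by
        have : g = w * (g⁻¹ * w)⁻¹ := by group
        rw [this]; exact mul_mem hwY (inv_mem (W_le_V h hg))
      refine ⟨h1, fun h2 => hwX ?_⟩
      have : w = g * (g⁻¹ * w) := by group
      rw [this]; exact mul_mem h2 hg
  have hsub : A ⊆ (Sa G).filter (fun s => s⁻¹ * w ∈ Sg G) := by
    intro g hg
    rw [hA] at hg
    simp only [Finset.mem_sdiff, Finset.mem_filter, Finset.mem_univ, true_and] at hg
    rw [Finset.mem_filter, mem_Sg]
    have h2 : g⁻¹ * w ∈ V h := mul_mem (inv_mem hg.1.1) hwY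
    exact ⟨(Sa_H h (h.Y_le_H (V_le_Y h hg.1.1))).2 hg.1, (h.sing (h.Y_le_H (V_le_Y h h2))).2 ⟨V_le_Y h h2, hg.2⟩⟩
  have heq := Finset.eq_of_subset_of_card_le hsub (by rw [hc w hw, hcA])
  have hs' : s ∈ A := by
    rw [heq, Finset.mem_filter, mem_Sg]
    exact ⟨hs, hsw⟩
  rw [hA] at hs'
  simp only [Finset.mem_sdiff, Finset.mem_filter, Finset.mem_univ, true_and] at hs'
  exact h.Y_le_H (V_le_Y h hs'.1.1)

end

section

variable {G : Type u} [Group G] [Finite G] {P : Sylow 2 G} {M : Ideal AlgInt}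

theorem ne_bot (h : BS P) : (P : Subgroup G) ≠ ⊥ := by
  intro hP
  have h1 := h.h8
  have h2 : Nat.card h.toAS.Om ≤ Nat.card (P : Subgroup G) := Nat.card_mono (Set.toFinite _) h.toAS.Om_le
  rw [hP] at h2
  simp at h2
  omega

/-- **the normal closure of `W` has odd order** -/
theorem odd_W (hM : IsPModular 2 M) (h : BS P) (hH : h.H ≠ ⊤) :
    ¬ 2 ∣ Nat.card (Subgroup.normalClosure (h.W : Set G)) := by
  haveI : Fact (Nat.Prime 2) := ⟨Nat.prime_two⟩
  have := Fintype.ofFinite G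
  obtain ⟨a, haP, ha⟩ := exists_invol (ne_bot h)
  have ha1 : a ≠ 1 := by rintro rfl; rw [orderOf_one] at ha; omega
  have haa : a * a = 1 := by rw [← sq, ← ha, pow_orderOf_eq_one]
  have htrN : ∀ b ∈ h.toAS.Om, b ≠ 1 → ∃ g ∈ normalizer ((P : Subgroup G) : Set G), g * a * g⁻¹ = b := fun b hb hb1 =>
    H52E16e.mem_of_conj P h.hab haP hb.1 (h.conj_of_ne hH ha
      (orderOf_eq_prime (by rw [sq]; exact hb.2) hb1) (h.P_le_H haP) (h.P_le_H hb.1))
  have htr : ∀ b ∈ h.toAS.Om, b ≠ 1 → ∃ g ∈ h.H, g * a * g⁻¹ = b := fun b hb hb1 => by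
    obtain ⟨g, hg, hg'⟩ := htrN b hb hb1
    exact ⟨g, h.N_le_H hg, hg'⟩
  have he : (centralizer ((P : Subgroup G) : Set G)).relIndex (normalizer ((P : Subgroup G) : Set G)) =
      Nat.card h.toAS.Om - 1 := relIndex_eq h.toAS (a := a) ⟨haP, haa⟩ ha1 htrN
  have hconst : ∀ χ ∈ PB M G, ∀ g ∈ Sa G, (χ : G → ℂ) g = (χ : G → ℂ) a := by
    intro χ hχ g hg
    obtain ⟨N, h1, h2, h3, -⟩ := h.toAS.exists_N haP ha1
    obtain ⟨k, hk⟩ := card_pow P
    refine H52E16g.const_section hM (x := a) (k := 1) (by rw [ha]; norm_num) h1 h2 (h3.trans hk) ?_ hχ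
    have hp2 := pp_invol hg
    obtain ⟨c, hc⟩ := conj_into P (pp_order 2 g)
    have ho : orderOf (c⁻¹ * pp 2 g * c) = 2 := by
      have := BlockThird.orderOf_conj (pp 2 g) c⁻¹
      rw [inv_inv] at this
      rw [this, hp2]
    have h4 : IsConj (pp 2 g) (c⁻¹ * pp 2 g * c) := isConj_iff.2 ⟨c⁻¹, by group⟩
    exact h4.trans (h.conj_of_ne hH ho ha (h.P_le_H hc) (h.P_le_H haP))
  have hcnt := countSa h ha haP htr (conv_eq' hM hconst)
  have hc : ∀ w ∈ Sa G, ((Sa G).filter (fun s => s⁻¹ * w ∈ Sg G)).card = (Nat.card h.toAS.Om - 2) * Nat.card h.W := by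
    intro w hw
    rw [← hcnt]
    exact conv_const' hM hconst hw (Iv_sub_Sa (mem_Iv.2 ha))
  have hcc := h.cc
  have hZ : ZZ h.H h.Y h.W (Nat.card P) ((centralizer ((P : Subgroup G) : Set G)).relIndex (normalizer ((P : Subgroup G) : Set G))) (Sa G) := {
    toCC := hcc
    sub := fun g hg => (mem_Sa.1 hg).1
    cj := cj_Sa
    inv := fun g hg => Iv_sub_Sa (mem_Iv.2 hg)
    cZ := by rw [card_SaH h, he]
    st3 := fun w s hw hwH hs hsw => st3 h hc hw hwH hs hsw
    ml := by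
      intro s hs hsH x hx
      obtain ⟨h1, h2⟩ := (Sa_H h hsH).1 hs
      have h3 : s * x ∈ V h := mul_mem h1 (W_le_V h hx)
      refine (Sa_H h (h.Y_le_H (V_le_Y h h3))).2 ⟨h3, fun h4 => h2 ?_⟩
      have : s = s * x * x⁻¹ := by group
      rw [this]; exact mul_mem h4 (inv_mem hx) }
  exact hZ.odd_normalClosure

/-- the case `O(G) = 1` -/
theorem elem_of_core (hM : IsPModular 2 M) (h : BS P) (hH : h.H ≠ ⊤)
    (hO : ∀ N : Subgroup G, N.Normal → ¬ 2 ∣ Nat.card N → N = ⊥) : ∀ x ∈ (P : Subgroup G), x * x = 1 := by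
  haveI : Fact (Nat.Prime 2) := ⟨Nat.prime_two⟩
  have := Fintype.ofFinite G
  have hW : h.W = ⊥ := by
    have h1 := hO _ (Subgroup.normalClosure_normal) (odd_W hM h hH)
    rw [eq_bot_iff, ← h1]
    exact Subgroup.subset_normalClosure
  have hY : h.Y = (P : Subgroup G) := by unfold BS.Y; rw [hW, bot_sup_eq]
  have hHN : h.H = normalizer ((P : Subgroup G) : Set G) := by unfold BS.H; rw [hW, bot_sup_eq]
  obtain ⟨a, haP, ha⟩ := exists_invol (ne_bot h)
  have ha1 : a ≠ 1 := by rintro rfl; rw [orderOf_one] at ha; omega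
  have haa : a * a = 1 := by rw [← sq, ← ha, pow_orderOf_eq_one]
  have htrN : ∀ b ∈ h.toAS.Om, b ≠ 1 → ∃ g ∈ normalizer ((P : Subgroup G) : Set G), g * a * g⁻¹ = b := fun b hb hb1 =>
    H52E16e.mem_of_conj P h.hab haP hb.1 (h.conj_of_ne hH ha
      (orderOf_eq_prime (by rw [sq]; exact hb.2) hb1) (h.P_le_H haP) (h.P_le_H hb.1))
  obtain ⟨s, hsP, hs2, hsa⟩ : ∃ s ∈ (P : Subgroup G), orderOf s = 2 ∧ s ≠ a := by
    by_contra hcon
    push Not at hcon
    have h1 : (h.toAS.Om : Set G) ⊆ {1, a} := by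
      intro y hy
      by_cases hy1 : y = 1
      · left; exact hy1
      · right
        exact hcon y hy.1 (orderOf_eq_prime (by rw [sq]; exact hy.2) hy1)
    have h2 := Set.ncard_le_ncard h1 (Set.toFinite _)
    have h3 : (h.toAS.Om : Set G).ncard = Nat.card h.toAS.Om := rfl
    have h4 := Set.ncard_pair (a := (1 : G)) (b := a) (fun h => ha1 h.symm)
    have := h.h8
    omega
  have hun : ∀ g : G, g ∉ h.H → ∀ k ∈ (P : Subgroup G), g * k * g⁻¹ ∈ (P : Subgroup G) → k = 1 := by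
    intro g hg k hk hgk
    by_contra hk1
    have h1 := h.un (g := k) (y := g⁻¹) (two_dvd_of_mem h hk hk1) (h.P_le_H hk) (by rw [inv_inv]; exact h.P_le_H hgk)
    exact hg (by simpa using inv_mem h1)
  refine AbTI.sq_eq_one (P : Subgroup G) (fun g hg k hk hgk => hun g (by rw [hHN]; exact hg) k hk hgk)
    (fun k hk hk1 => by rw [← hY]; exact h.cent_le_Y hk hk1) h.hab haP ha ?_ hsP hs2 hsa ?_
  · intro s hs hs2
    have hs1 : s ≠ 1 := by rintro rfl; rw [orderOf_one] at hs2; omega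
    exact htrN s ⟨hs, by rw [← sq, ← hs2, pow_orderOf_eq_one]⟩ hs1
  · -- `|P|² < |G|`
    obtain ⟨g, hg⟩ : ∃ g, g ∉ h.H := by
      by_contra hcon
      push Not at hcon
      exact hH (eq_top_iff.2 fun x _ => hcon x)
    have hinj : Function.Injective (fun b : Option P => (match b with
      | none => (QuotientGroup.mk 1 : G ⧸ h.H)
      | some b => (QuotientGroup.mk ((b : G) * g) : G ⧸ h.H))) := by
      have hnone : ∀ b : P, (QuotientGroup.mk 1 : G ⧸ h.H) ≠ QuotientGroup.mk ((b : G) * g) := by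
        intro b hb
        rw [QuotientGroup.eq, inv_one, one_mul] at hb
        apply hg
        have : g = (b : G)⁻¹ * ((b : G) * g) := by group
        rw [this]; exact mul_mem (inv_mem (h.P_le_H b.2)) hb
      rintro (_ | b) (_ | b') hbb
      · rfl
      · exact absurd hbb (hnone b')
      · exact absurd hbb.symm (hnone b)
      · simp only at hbb
        rw [QuotientGroup.eq] at hbb
        have e1 : ((b : G) * g)⁻¹ * ((b' : G) * g) = g⁻¹ * ((b : G)⁻¹ * b') * g := by group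
        rw [e1] at hbb
        by_contra hne
        have h3 : (b : G)⁻¹ * b' ≠ 1 := by
          intro e
          apply hne
          rw [Subtype.ext (inv_mul_eq_one.1 e)]
        have h4 : (b : G)⁻¹ * b' ∈ (P : Subgroup G) := mul_mem (inv_mem b.2) b'.2
        exact hg (h.un (two_dvd_of_mem h h4 h3) (h.P_le_H h4) hbb)
    have h3 := Nat.card_le_card_of_injective _ hinj
    rw [Finite.card_option, ← Subgroup.index_eq_card] at h3
    have h4 : Nat.card (P : Subgroup G) ≤ Nat.card h.H := Nat.card_mono (Set.toFinite _) h.P_le_H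
    have h5 := h.H.card_mul_index
    have h6 : Nat.card P = Nat.card (P : Subgroup G) := rfl
    rw [h6] at h3
    rw [← h5, sq]
    have h7 : 0 < Nat.card (P : Subgroup G) := Nat.card_pos
    calc Nat.card (P : Subgroup G) * Nat.card (P : Subgroup G) < Nat.card (P : Subgroup G) * (Nat.card (P : Subgroup G) + 1) := by nlinarith
      _ ≤ Nat.card h.H * h.H.index := Nat.mul_le_mul h4 h3

end

end Cfsg.Agent.Lib.H70AbN
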