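import Mathlib
import Cfsg.Agent.Lib.H70AbN
import Cfsg.Agent.Lib.H70AbL
import Cfsg.Agent.Lib.MetaSolv
import Cfsg.Agent.Lib.TwoE6
import Cfsg.Agent.Lib.IsolatedZ
import Cfsg.Agent.S0205

/-!
# Prime inertial index (helper70)
-/

set_option autoImplicit false
set_option maxHeartbeats 400000

open Subgroup

namespace Cfsg.Agent.Lib.H70AbO

open Cfsg Cfsg.Agent.Lib.BlockRing Cfsg.Agent.Lib.BlockThird Cfsg.Agent.Lib.SSF2 Cfsg.Agent.Lib.H70AbE Cfsg.Agent.Lib.H70AbB
open Cfsg.Agent.Lib.H70AbF Cfsg.Agent.Lib.H70AbG Cfsg.Agent.Lib.H70AbH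
open Cfsg.Agent.Lib.H70AbI Cfsg.Agent.Lib.H70AbJ Cfsg.Agent.Lib.H70AbK Cfsg.Agent.Lib.H70AbL Cfsg.Agent.Lib.H70AbN
open scoped Classical

universe u

/-- no exceptions -/
theorem good_all {M : Ideal AlgInt} (hM : IsPModular 2 M) (n : ℕ) : Good.{u} n := by
  intro G _ _ P hb _ hH x hx
  haveI : Fact (Nat.Prime 2) := ⟨Nat.prime_two⟩
  set O := pPrimeCore 2 G with hO
  haveI hOn : O.Normal := Cfsg.pPrimeCore_normal 2 G
  have hOodd : ¬ 2 ∣ Nat.card O := by
    have := Cores.coprime_card_pPrimeCore 2 G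
    exact (Nat.Prime.coprime_iff_not_dvd Nat.prime_two).1 this.symm
  have hgd : Gd P (QuotientGroup.mk' O) := gd_odd P O hOodd
  have has := hgd.as hb.toAS
  set R := P.mapSurjective hgd.hf with hR
  have h8R : 8 ≤ Nat.card has.Om := by
    refine hb.h8.trans ?_
    refine Nat.card_le_card_of_injective (fun y : hb.toAS.Om => (⟨QuotientGroup.mk' O (y : G),
      hgd.mem_P.2 ⟨y, y.2.1, rfl⟩, by
        have h1 : QuotientGroup.mk' O (y : G) * QuotientGroup.mk' O (y : G) = 1 := by
          rw [← map_mul, y.2.2, map_one]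
        exact h1⟩ : has.Om)) ?_
    intro y z hyz
    have h1 : QuotientGroup.mk' O (y : G) = QuotientGroup.mk' O (z : G) := congrArg Subtype.val hyz
    have h2 : (y : G)⁻¹ * z ∈ O := QuotientGroup.eq.1 h1
    exact Subtype.ext (inv_mul_eq_one.1 (inf_odd P hOodd (mul_mem (inv_mem y.2.1) z.2.1) h2))
  let hbR : BS R := ⟨has, h8R⟩
  have hOR : ∀ N : Subgroup (G ⧸ O), N.Normal → ¬ 2 ∣ Nat.card N → N = ⊥ := by
    intro N hN hN2
    rw [eq_bot_iff, ← Cores.pPrimeCore_quotient_pPrimeCore 2 G]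
    exact Cores.le_pPrimeCore hN ((Nat.Prime.coprime_iff_not_dvd Nat.prime_two).2 hN2).symm
  have hHR : hbR.H ≠ ⊤ := by
    intro ht
    have hn' := hbR.normal_of_top ht hOR
    apply hH
    rw [eq_top_iff]
    intro g _
    have hg : QuotientGroup.mk' O g ∈ normalizer ((R : Subgroup (G ⧸ O)) : Set (G ⧸ O)) := by
      rw [Subgroup.normalizer_eq_top]; trivial
    obtain ⟨n, hn, hng⟩ := frattini hgd.hf P hg
    have h1 : g * n⁻¹ ∈ O := by
      have h2 : QuotientGroup.mk' O (g * n⁻¹) = 1 := by rw [map_mul, map_inv, hng, mul_inv_cancel]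
      exact (QuotientGroup.eq_one_iff _).1 h2
    have h3 : g = g * n⁻¹ * n := by group
    rw [h3]
    exact mul_mem (hb.Y_le_H (hb.W_le_Y (odd_le_W hb hOodd h1))) (hb.N_le_H hn)
  have h1 := elem_of_core hM hbR hHR hOR (QuotientGroup.mk' O x) (hgd.mem_P.2 ⟨x, hx, rfl⟩)
  rw [← map_mul] at h1
  exact inf_odd P hOodd (mul_mem hx hx) ((QuotientGroup.eq_one_iff _).1 h1)

variable {G : Type u} [Group G] [Finite G] {P : Sylow 2 G}

theorem odd_solvable {H : Type u} [Group H] [Finite H] (h : ¬ 2 ∣ Nat.card H) : Group.IsSolvable H := by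
  apply S0205.result
  rw [← Nat.not_even_iff_odd, even_iff_two_dvd]
  exact h

/-- the case `H = G` -/
theorem solvable_of_top (h : BS P) (hH : h.H = ⊤)
    (hE : ∀ g ∈ normalizer ((P : Subgroup G) : Set G), ∀ k ∈ normalizer ((P : Subgroup G) : Set G),
      g * k * g⁻¹ * k⁻¹ ∈ centralizer ((P : Subgroup G) : Set G)) : Group.IsSolvable G := by
  haveI hWn : h.W.Normal := ⟨fun x hx g => h.conj_W (by rw [hH]; trivial) hx⟩
  have hWs : Group.IsSolvable h.W := odd_solvable h.W_odd
  rw [Group.isSolvable_iff_subgroup_quotient h.W]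
  refine ⟨hWs, ?_⟩
  -- the image of `Y` is commutative, and the quotient is commutative
  have hCY : centralizer ((P : Subgroup G) : Set G) ≤ h.Y := by
    rw [← h.YN]; exact inf_le_left
  haveI hYn : h.Y.Normal := ⟨fun x hx g => h.conj_Y (by rw [hH]; trivial) hx⟩
  set f := QuotientGroup.mk' h.W with hf
  haveI hYbn : (h.Y.map f).Normal := hYn.map f (QuotientGroup.mk'_surjective _)
  rw [Group.isSolvable_iff_subgroup_quotient (h.Y.map f)]
  constructor
  · apply Group.isSolvable_of_comm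
    rintro ⟨a, ha⟩ ⟨b, hb⟩
    apply Subtype.ext
    show a * b = b * a
    have key : ∀ a ∈ h.Y.map f, ∃ p ∈ (P : Subgroup G), f p = a := by
      intro a ha
      obtain ⟨y, hy, rfl⟩ := mem_map.1 ha
      obtain ⟨w, hw, p, hp, rfl⟩ := h.mem_Y.1 hy
      refine ⟨p, hp, ?_⟩
      have : f w = 1 := (QuotientGroup.eq_one_iff _).2 hw
      rw [map_mul, this, one_mul]
    obtain ⟨p, hp, rfl⟩ := key a ha
    obtain ⟨q, hq, rfl⟩ := key b hb
    rw [← map_mul, ← map_mul, h.hab p hp q hq]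
  · apply Group.isSolvable_of_comm
    have key : ∀ a : (G ⧸ h.W) ⧸ h.Y.map f, ∃ n ∈ normalizer ((P : Subgroup G) : Set G), QuotientGroup.mk' (h.Y.map f) (f n) = a := by
      intro a
      obtain ⟨b, rfl⟩ := QuotientGroup.mk'_surjective _ a
      obtain ⟨g, rfl⟩ := QuotientGroup.mk'_surjective _ b
      have hg : g ∈ h.H := by rw [hH]; trivial
      obtain ⟨w, hw, n, hn, rfl⟩ := h.mem_H.1 hg
      refine ⟨n, hn, ?_⟩
      have : f w = 1 := (QuotientGroup.eq_one_iff _).2 hw
      rw [← hf, map_mul f, this, one_mul]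
    intro a b
    obtain ⟨n, hn, rfl⟩ := key a
    obtain ⟨k, hk, rfl⟩ := key b
    have h1 : QuotientGroup.mk' (h.Y.map f) (f (n * k * n⁻¹ * k⁻¹)) = 1 :=
      (QuotientGroup.eq_one_iff _).2 (mem_map_of_mem f (hCY (hE n hn k hk)))
    simp only [map_mul, map_inv] at h1
    exact mul_inv_eq_iff_eq_mul.1 (mul_inv_eq_one.1 h1)

/-- the four-group case -/
theorem four_case (hns : ¬ Group.IsSolvable G) (h : AS P) (h4 : Nat.card h.Om = 4)
    (he : (centralizer ((P : Subgroup G) : Set G)).relIndex (normalizer ((P : Subgroup G) : Set G)) = 3) :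
    Nat.card P = 4 := by
  haveI : Fact (Nat.Prime 2) := ⟨Nat.prime_two⟩
  obtain ⟨n, hn, hnC⟩ : ∃ n ∈ normalizer ((P : Subgroup G) : Set G), n ∉ centralizer ((P : Subgroup G) : Set G) := by
    by_contra hcon
    push Not at hcon
    have h1 : (centralizer ((P : Subgroup G) : Set G)).relIndex (normalizer ((P : Subgroup G) : Set G)) = 1 := by
      rw [relIndex_eq_one]; exact hcon
    omega
  have hmem : ∀ x ∈ (P : Subgroup G), n * x * n⁻¹ ∈ (P : Subgroup G) := fun x hx => (mem_normalizer_iff.1 hn x).1 hx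
  have hmem' : ∀ x ∈ (P : Subgroup G), n⁻¹ * x * n ∈ (P : Subgroup G) := fun x hx => by
    have := (mem_normalizer_iff.1 (Subgroup.inv_mem _ hn) x).1 hx
    rwa [inv_inv] at this
  let a : MulAut P := {
    toFun := fun x => ⟨n * x * n⁻¹, hmem x x.2⟩
    invFun := fun x => ⟨n⁻¹ * x * n, hmem' x x.2⟩
    left_inv := fun x => Subtype.ext (by show n⁻¹ * (n * x * n⁻¹) * n = x; group)
    right_inv := fun x => Subtype.ext (by show n * (n⁻¹ * x * n) * n⁻¹ = x; group)
    map_mul' := fun x y => Subtype.ext (by show n * (x * y) * n⁻¹ = (n * x * n⁻¹) * (n * y * n⁻¹); group) }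
  have ha : ∀ x : P, ((a x : P) : G) = n * x * n⁻¹ := fun x => rfl
  have hE : TwoE.IsE (h.Om.subgroupOf (P : Subgroup G)) := {
    card := by rw [← h4]; exact Nat.card_congr (Subgroup.subgroupOfEquivOfLe h.Om_le).toEquiv
    central := fun e _ x => Subtype.ext (h.hab e e.2 x x.2)
    sq_iff := fun x => by
      rw [mem_subgroupOf, h.mem_Om]
      constructor
      · intro hx
        refine ⟨x.2, ?_⟩
        rw [← sq]
        exact congrArg Subtype.val hx
      · rintro ⟨_, hx⟩
        apply Subtype.ext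
        show (x : G) ^ 2 = 1
        rw [sq]; exact hx }
  have htri : TwoE.Tri (h.Om.subgroupOf (P : Subgroup G)) a := {
    two := P.isPGroup'
    isE := hE
    cube := by
      ext x
      have h1 : ((a ^ 3) x : P) = a (a (a x)) := rfl
      rw [h1, ha, ha, ha]
      have h2 := pow_mem_cent hn
      rw [he] at h2
      have h3 := mem_cent_iff.1 h2 x x.2
      show n * (n * (n * x * n⁻¹) * n⁻¹) * n⁻¹ = ((1 : MulAut P) x : G)
      rw [MulAut.one_apply]
      conv_rhs => rw [← h3]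
      simp only [pow_succ, pow_zero, one_mul, mul_inv_rev]
      group
    move := by
      by_contra hcon
      push Not at hcon
      obtain ⟨x, hx, hx1⟩ : ∃ x ∈ h.Om, x ≠ 1 := by
        by_contra hc
        push Not at hc
        have : h.Om = ⊥ := by rw [eq_bot_iff]; exact fun y hy => hc y hy
        rw [this] at h4
        simp at h4
      have h1 := hcon ⟨x, hx.1⟩ (mem_subgroupOf.2 hx)
      have h2 : n * x * n⁻¹ = x := congrArg Subtype.val h1
      exact hnC (mem_cent_iff.2 (h.sr x hx.1 hx1 n hn h2)) }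
  obtain ⟨m, hm, ⟨e⟩⟩ := htri.homocyclic (fun x y => Subtype.ext (h.hab x x.2 y y.2))
  rcases hm.eq_or_lt with hm1 | hm2
  · rw [← hm1] at e
    have h1 := Nat.card_congr e.toEquiv
    rw [Nat.card_congr Multiplicative.toAdd, Nat.card_prod, Nat.card_zmod] at h1
    exact h1
  · exact absurd (MetaSolv.solvable_of_homocyclic (fun H hH => S0205.result hH) P m hm2 e) hns

end Cfsg.Agent.Lib.H70AbO
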