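import Mathlib
import Cfsg.Agent.Lib.H70AbO

/-!
# Prime inertial index: the order of the Sylow 2-subgroup (helper70)
-/

set_option autoImplicit false
set_option maxHeartbeats 400000

open Subgroup

namespace Cfsg.Agent.Lib.H70AbP

open Cfsg Cfsg.Agent.Lib.BlockRing Cfsg.Agent.Lib.BlockThird Cfsg.Agent.Lib.SSF2 Cfsg.Agent.Lib.H70AbE Cfsg.Agent.Lib.H70AbB
open Cfsg.Agent.Lib.H70AbF Cfsg.Agent.Lib.H70AbG Cfsg.Agent.Lib.H70AbH
open Cfsg.Agent.Lib.H70AbI Cfsg.Agent.Lib.H70AbJ Cfsg.Agent.Lib.H70AbK Cfsg.Agent.Lib.H70AbL Cfsg.Agent.Lib.H70AbN Cfsg.Agent.Lib.H70AbO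
open scoped Classical

universe u v

theorem card_map_mul {G : Type u} [Group G] [Finite G] {Q : Type v} [Group Q] (f : G →* Q) (A : Subgroup G) (hA : f.ker ≤ A) :
    Nat.card (A.map f) * Nat.card f.ker = Nat.card A := by
  have h1 := (f.comp A.subtype).ker.card_mul_index
  rw [Subgroup.index_ker, MonoidHom.range_comp, Subgroup.range_subtype] at h1
  have h2 : Nat.card (f.comp A.subtype).ker = Nat.card f.ker :=
    Nat.card_congr (Subgroup.subgroupOfEquivOfLe hA).toEquiv
  rw [← h1, h2, mul_comm]

variable {G : Type u} [Group G] [Finite G] {P : Sylow 2 G}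

theorem P0_map {Q : Type v} [Group Q] [Finite Q] {f : G →* Q} [Fact (Nat.Prime 2)] (h : Gd P f) :
    P0 (P.mapSurjective h.hf) = (P0 P).map f := by
  ext q
  constructor
  · rintro ⟨hq, hq2⟩
    obtain ⟨y, hy, rfl⟩ := h.mem_P.1 hq
    refine mem_map_of_mem f ⟨hy, fun n hn => h.star n hn y hy ?_⟩
    have := hq2 (f n) (h.mem_N hn)
    rw [map_mul, map_mul, map_inv]; exact this
  · intro hq
    obtain ⟨y, hy, rfl⟩ := mem_map.1 hq
    refine ⟨h.mem_P.2 ⟨y, hy.1, rfl⟩, fun r hr => ?_⟩
    obtain ⟨n, hn, rfl⟩ := frattini h.hf P hr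
    rw [← map_inv, ← map_mul, ← map_mul, hy.2 n hn]

theorem P0_cent {u : G} (hu : u ∈ P0 P) {P' : Sylow 2 (centralizer ({u} : Set G))}
    (hP' : (P' : Subgroup (centralizer ({u} : Set G))) = (P : Subgroup G).subgroupOf (centralizer ({u} : Set G))) 
    (hPH : (P : Subgroup G) ≤ centralizer ({u} : Set G)) :
    Nat.card (P0 P') = Nat.card (P0 P) := by
  have hm : ∀ x : centralizer ({u} : Set G), x ∈ (P' : Subgroup (centralizer ({u} : Set G))) ↔ (x : G) ∈ (P : Subgroup G) := by
    intro x; rw [hP', mem_subgroupOf]
  have hN : ∀ x : centralizer ({u} : Set G), x ∈ normalizer ((P' : Subgroup (centralizer ({u} : Set G))) : Set (centralizer ({u} : Set G))) ↔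
      (x : G) ∈ normalizer ((P : Subgroup G) : Set G) := by
    intro x
    constructor
    · intro hx
      apply mem_normalizer_fintype
      intro y hy
      exact (hm _).1 ((mem_normalizer_iff.1 hx ⟨y, hPH hy⟩).1 ((hm _).2 hy))
    · intro hx
      apply mem_normalizer_fintype
      intro y hy
      exact (hm _).2 ((mem_normalizer_iff.1 hx y).1 ((hm _).1 hy))
  have e : P0 P' = (P0 P).subgroupOf (centralizer ({u} : Set G)) := by
    ext x
    rw [mem_subgroupOf, mem_P0, mem_P0, hm]
    refine and_congr_right fun hx => ?_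
    constructor
    · intro h n hn
      have hnu : n ∈ centralizer ({u} : Set G) := by
        rw [mem_centralizer_singleton_iff]
        exact mul_inv_eq_iff_eq_mul.1 (hu.2 n hn)
      exact congrArg Subtype.val (h ⟨n, hnu⟩ ((hN _).2 hn))
    · intro h n hn
      exact Subtype.ext (h n ((hN _).1 hn))
  have hle : P0 P ≤ centralizer ({u} : Set G) := fun x hx => hPH (mem_P0.1 hx).1
  rw [e]
  exact Nat.card_congr (Subgroup.subgroupOfEquivOfLe hle).toEquiv

/-- involutions in `P0` are isolated -/
theorem isolated (hab : ∀ a ∈ (P : Subgroup G), ∀ b ∈ (P : Subgroup G), a * b = b * a) {u : G} (hu : u ∈ P0 P)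
    (hu2 : orderOf u = 2) : IsIsolatedInvolution u := by
  haveI : Fact (Nat.Prime 2) := ⟨Nat.prime_two⟩
  refine ⟨hu2, fun g hg => ?_⟩
  set w := g * u * g⁻¹ with hw
  have hw2 : orderOf w = 2 := by rw [hw, BlockThird.orderOf_conj, hu2]
  have huu : u * u = 1 := by rw [← sq, ← hu2, pow_orderOf_eq_one]
  have hww : w * w = 1 := by rw [← sq, ← hw2, pow_orderOf_eq_one]
  let D : Subgroup G := {
    carrier := {x | x = 1 ∨ x = u ∨ x = w ∨ x = u * w}
    mul_mem' := by
      have hc : u * w = w * u := hg.eq
      have e1 : u * (u * w) = w := by rw [← mul_assoc, huu, one_mul]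
      have e2 : w * (u * w) = u := by rw [hc, ← mul_assoc, hww, one_mul]
      have e3 : u * w * u = w := by rw [hc, mul_assoc, huu, mul_one]
      have e4 : u * w * w = u := by rw [mul_assoc, hww, mul_one]
      have e5 : u * w * (u * w) = 1 := by rw [← mul_assoc, e3, hww]
      rintro a b (rfl | rfl | rfl | rfl) (rfl | rfl | rfl | rfl)
      all_goals simp only [one_mul, mul_one, Set.mem_setOf_eq]
      all_goals first
        | tauto
        | (rw [huu]; tauto)
        | (rw [hww]; tauto)
        | (rw [e1]; tauto)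
        | (rw [e2]; tauto)
        | (rw [e3]; tauto)
        | (rw [e4]; tauto)
        | (rw [e5]; tauto)
        | (rw [← hc]; tauto)
    one_mem' := Or.inl rfl
    inv_mem' := by
      have hc : u * w = w * u := hg.eq
      have hui : u⁻¹ = u := inv_eq_of_mul_eq_one_left huu
      have hwi : w⁻¹ = w := inv_eq_of_mul_eq_one_left hww
      rintro a (rfl | rfl | rfl | rfl)
      · left; exact inv_one
      · right; left; exact hui
      · right; right; left; exact hwi
      · right; right; right; rw [mul_inv_rev, hui, hwi, hc] }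
  have hD : IsPGroup 2 D := by
    rw [IsPGroup.iff_orderOf]
    rintro ⟨x, hx⟩
    have hc : u * w = w * u := hg.eq
    have h1 : x * x = 1 := by
      rcases hx with rfl | rfl | rfl | rfl
      · exact mul_one 1
      · exact huu
      · exact hww
      · calc u * w * (u * w) = u * (w * u) * w := by group
          _ = (u * u) * (w * w) := by rw [← hc]; group
          _ = 1 := by rw [huu, hww, mul_one]
    have h2 : orderOf (⟨x, hx⟩ : D) ∣ 2 ^ 1 := by
      rw [Subgroup.orderOf_mk, pow_one]
      exact orderOf_dvd_of_pow_eq_one (by rw [sq]; exact h1)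
    obtain ⟨j, _, hj⟩ := (Nat.dvd_prime_pow Nat.prime_two).1 h2
    exact ⟨j, hj⟩
  obtain ⟨R, hR⟩ := hD.exists_le_sylow
  obtain ⟨c, hc⟩ := MulAction.exists_smul_eq G R P
  have hcR : ∀ y ∈ (R : Subgroup G), c * y * c⁻¹ ∈ (P : Subgroup G) := by
    intro y hy
    rw [← hc, Sylow.coe_subgroup_smul, Subgroup.mem_pointwise_smul_iff_inv_smul_mem]
    simp only [← map_inv, MulAut.smul_def, MulAut.conj_apply, inv_inv]
    have h1 : c⁻¹ * (c * y * c⁻¹) * c = y := by group
    rw [h1]; exact hy
  have hfix : ∀ y ∈ (P : Subgroup G), IsConj u y → y = u := by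
    intro y hy huy
    obtain ⟨n, hn, hn'⟩ := H52E16e.mem_of_conj P hab hu.1 hy huy
    rw [← hn', hu.2 n hn]
  have h1 : c * u * c⁻¹ = u := hfix _ (hcR u (hR (Or.inr (Or.inl rfl)))) (isConj_iff.2 ⟨c, rfl⟩)
  have h2 : c * w * c⁻¹ = u := hfix _ (hcR w (hR (Or.inr (Or.inr (Or.inl rfl))))) (isConj_iff.2 ⟨c * g, by rw [hw]; group⟩)
  have h3 : c * w * c⁻¹ = c * u * c⁻¹ := by rw [h1, h2]
  exact mul_left_cancel (mul_right_cancel h3)

/-- `|P| = |P0| (e + 1)` in nonsolvable groups -/
theorem card_eq {M : Ideal AlgInt} (hM : IsPModular 2 M) :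
    ∀ (m : ℕ) (G : Type u) [Group G] [Finite G] (P : Sylow 2 G), Nat.card G ≤ m →
      (∀ a ∈ (P : Subgroup G), ∀ b ∈ (P : Subgroup G), a * b = b * a) →
      ((centralizer ((P : Subgroup G) : Set G)).relIndex (normalizer ((P : Subgroup G) : Set G))).Prime →
      ¬ Group.IsSolvable G →
      Nat.card P = Nat.card (P0 P) *
        ((centralizer ((P : Subgroup G) : Set G)).relIndex (normalizer ((P : Subgroup G) : Set G)) + 1) := by
  intro m
  induction m with
  | zero =>
    intro G _ _ P hG
    exfalso
    have := Nat.card_pos (α := G)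
    omega
  | succ m ih =>
    intro G _ _ P hG hab he hns
    haveI : Fact (Nat.Prime 2) := ⟨Nat.prime_two⟩
    have hgs := gs_of_prime hab he
    by_cases hP0 : P0 P = ⊥
    · have has : AS P := by
        refine ⟨hab, ?_⟩
        intro x hx hx1 n hn hnx
        rcases hgs.sr x hx n hn hnx with h1 | h1
        · exact h1
        · exfalso
          have h2 : x ∈ P0 P := ⟨hx, h1⟩
          rw [hP0, mem_bot] at h2
          exact hx1 h2
      have hodd := odd_relIndex hab
      rw [hP0, Subgroup.card_bot, one_mul]
      have hP : (P : Subgroup G) ≠ ⊥ := by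
        intro hP
        have h2 : centralizer ((P : Subgroup G) : Set G) = ⊤ := by
          rw [hP, eq_top_iff]
          intro g _
          rw [mem_cent_iff]
          intro y hy
          rw [mem_bot] at hy
          rw [hy]; group
        rw [h2, Subgroup.relIndex_top_left] at he
        exact Nat.not_prime_one he
      obtain ⟨a, ha, ha2⟩ := exists_invol hP
      have ha1 : a ≠ 1 := by rintro rfl; rw [orderOf_one] at ha2; omega
      have haa : a * a = 1 := by rw [← sq, ← ha2, pow_orderOf_eq_one]
      have hlt := relIndex_lt has ha ha2 (fun n hn hna => mem_cent_iff.2 (has.sr a ha ha1 n hn hna))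
      obtain ⟨k, hk⟩ := Om_pow has
      have h2 := he.two_le
      by_cases h8 : 8 ≤ Nat.card has.Om
      · let hb : BS P := ⟨has, h8⟩
        by_cases hH : hb.H = ⊤
        · exact absurd (solvable_of_top hb hH hgs.hE) hns
        · have hel := good_all hM (Nat.card P) G P hb le_rfl hH
          have hOm : has.Om = (P : Subgroup G) := le_antisymm has.Om_le (fun x hx => ⟨hx, hel x hx⟩)
          have h3 := relIndex_eq has (a := a) ⟨ha, haa⟩ ha1 (fun b hb' hb1 =>
            H52E16e.mem_of_conj P hab ha hb'.1 (hb.conj_of_ne hH ha2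
              (orderOf_eq_prime (by rw [sq]; exact hb'.2) hb1) (hb.P_le_H ha) (hb.P_le_H hb'.1)))
          rw [h3]
          rw [hOm] at h8 ⊢
          have h4 : Nat.card (P : Subgroup G) = Nat.card P := rfl
          omega
      · have hk2 : k ≤ 2 := by
          by_contra hcon
          have := Nat.pow_le_pow_right (n := 2) (by norm_num) (show 3 ≤ k by omega)
          omega
        have h3 : Nat.card has.Om = 4 ∧
            (centralizer ((P : Subgroup G) : Set G)).relIndex (normalizer ((P : Subgroup G) : Set G)) = 3 := by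
          rw [hk] at hlt ⊢
          interval_cases k <;> omega
        rw [four_case hns has h3.1 h3.2, h3.2]
    · -- an involution in `P0`
      obtain ⟨u, hu, hu2⟩ : ∃ u ∈ P0 P, orderOf u = 2 := by
        obtain ⟨x, hx, hx1⟩ : ∃ x ∈ P0 P, x ≠ 1 := by
          by_contra hcon
          push Not at hcon
          exact hP0 (by rw [eq_bot_iff]; exact fun x hx => hcon x hx)
        obtain ⟨k, hk⟩ := orderOf_mem P hx.1
        have hk0 : 0 < k := by
          rcases Nat.eq_zero_or_pos k with h0 | h0
          · exfalso; apply hx1; rw [h0, pow_zero] at hk; exact orderOf_eq_one_iff.1 hk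
          · exact h0
        refine ⟨x ^ 2 ^ (k - 1), pow_mem hx _, ?_⟩
        rw [orderOf_pow' x (by positivity), hk]
        have h1 : 2 ^ k = 2 ^ (k - 1) * 2 := by rw [← pow_succ]; congr 1; omega
        rw [h1, Nat.gcd_mul_right_left, Nat.mul_div_cancel_left _ (by positivity)]
      have hiso := isolated hab hu hu2
      have hPH : (P : Subgroup G) ≤ centralizer ({u} : Set G) := by
        intro y hy
        rw [mem_centralizer_singleton_iff]
        exact hab y hy u hu.1
      obtain ⟨P', hP', hgs', he'⟩ := gs_cent hgs hu.1 hu.2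
      -- the centralizer is not solvable
      have hCns : ¬ Group.IsSolvable (centralizer ({u} : Set G)) := by
        intro hs
        apply hns
        haveI hOn : (oddCore G).Normal := Cfsg.pPrimeCore_normal 2 G
        rw [Group.isSolvable_iff_subgroup_quotient (oddCore G)]
        refine ⟨S0205.result IsolatedZ.odd_card_oddCore, ?_⟩
        let φ : centralizer ({u} : Set G) →* G ⧸ oddCore G := (QuotientGroup.mk' (oddCore G)).comp (centralizer ({u} : Set G)).subtype
        have hφ : Function.Surjective φ := by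
          intro q
          obtain ⟨g, rfl⟩ := QuotientGroup.mk'_surjective _ q
          obtain ⟨n, hn, c, hc, hgn⟩ := IsolatedZ.exists_mul hiso g
          refine ⟨⟨c, hc⟩, ?_⟩
          show QuotientGroup.mk' (oddCore G) c = QuotientGroup.mk' (oddCore G) g
          rw [hgn, map_mul]
          have : QuotientGroup.mk' (oddCore G) n = 1 := (QuotientGroup.eq_one_iff _).2 hn
          rw [this, one_mul]
        exact Group.isSolvable_of_surjective hφ
      have huH : u ∈ centralizer ({u} : Set G) := mem_centralizer_singleton_iff.2 rfl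
      set v : centralizer ({u} : Set G) := ⟨u, huH⟩ with hv
      have hvP : v ∈ (P' : Subgroup (centralizer ({u} : Set G))) := by rw [hP', mem_subgroupOf]; exact hu.1
      have hvc : ∀ g : centralizer ({u} : Set G), g * v = v * g := fun g => Subtype.ext (mem_centralizer_singleton_iff.1 g.2)
      haveI hzn : (zpowers v).Normal := ⟨fun x hx g => by
        obtain ⟨k, rfl⟩ := mem_zpowers_iff.1 hx
        have h1 := ((show Commute g v from hvc g).zpow_right k).eq
        rw [h1, mul_inv_cancel_right]
        exact hx⟩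
      have hvo : Nat.card (zpowers v) = 2 := by
        rw [Nat.card_zpowers, hv, Subgroup.orderOf_mk, hu2]
      have hgd := gd_central hgs'.hab hvP hvc
      have hCbns : ¬ Group.IsSolvable (centralizer ({u} : Set G) ⧸ zpowers v) := by
        intro hs
        apply hCns
        rw [Group.isSolvable_iff_subgroup_quotient (zpowers v)]
        refine ⟨?_, hs⟩
        apply Group.isSolvable_of_comm
        rintro ⟨a, ha⟩ ⟨b, hb⟩
        obtain ⟨i, rfl⟩ := mem_zpowers_iff.1 ha
        obtain ⟨j, rfl⟩ := mem_zpowers_iff.1 hb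
        apply Subtype.ext
        show v ^ i * v ^ j = v ^ j * v ^ i
        rw [← zpow_add, ← zpow_add, add_comm]
      have h1 := ih (centralizer ({u} : Set G) ⧸ zpowers v) (P'.mapSurjective hgd.hf) ?_ (hgd.gs hgs').hab ?_ hCbns
      · rw [hgd.relIndex, he'] at h1
        have hker : (QuotientGroup.mk' (zpowers v)).ker = zpowers v := QuotientGroup.ker_mk' _
        have c1 := card_map_mul (QuotientGroup.mk' (zpowers v)) (P' : Subgroup (centralizer ({u} : Set G)))
          (by rw [hker, zpowers_le]; exact hvP)
        have hv0 : v ∈ P0 P' := ⟨hvP, fun n _ => by rw [hvc n, mul_inv_cancel_right]⟩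
        have c2 := card_map_mul (QuotientGroup.mk' (zpowers v)) (P0 P')
          (by rw [hker, zpowers_le]; exact hv0)
        rw [hker, hvo] at c1 c2
        rw [← P0_map hgd, P0_cent hu hP' hPH] at c2
        have c3 : Nat.card (P' : Subgroup (centralizer ({u} : Set G))) = Nat.card (P : Subgroup G) := by
          rw [hP']
          exact Nat.card_congr (Subgroup.subgroupOfEquivOfLe hPH).toEquiv
        have c4 : Nat.card (P'.mapSurjective hgd.hf) = Nat.card ((P' : Subgroup (centralizer ({u} : Set G))).map (QuotientGroup.mk' (zpowers v))) := by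
          have : ((P'.mapSurjective hgd.hf : Sylow 2 _) : Subgroup (centralizer ({u} : Set G) ⧸ zpowers v)) =
            (P' : Subgroup (centralizer ({u} : Set G))).map (QuotientGroup.mk' (zpowers v)) := Sylow.coe_mapSurjective _ _
          rw [← this]
        rw [← c4, h1, c3] at c1
        have c5 : Nat.card P = Nat.card (P : Subgroup G) := rfl
        rw [c5, ← c1, ← c2]
        ring
      · have h2 := (zpowers v).card_mul_index
        rw [Subgroup.index_eq_card, hvo] at h2
        have h6 : Nat.card (centralizer ({u} : Set G)) ≤ Nat.card G := Nat.le_of_dvd Nat.card_pos (Subgroup.card_subgroup_dvd_card _)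
        have h7 : 0 < Nat.card (centralizer ({u} : Set G) ⧸ zpowers v) := Nat.card_pos
        omega
      · rw [hgd.relIndex, he']; exact he

/-- the final result -/
theorem main {M : Ideal AlgInt} (hM : IsPModular 2 M) (hab : ∀ a ∈ (P : Subgroup G), ∀ b ∈ (P : Subgroup G), a * b = b * a)
    (he : ((centralizer ((P : Subgroup G) : Set G)).relIndex (normalizer ((P : Subgroup G) : Set G))).Prime) :
    blockRank 2 (principalBlock M G) =
      (centralizer ((P : Subgroup G) : Set G)).relIndex (normalizer ((P : Subgroup G) : Set G)) ∧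
    (¬ Group.IsSolvable G → Nat.card (principalBlock M G) = Nat.card P) := by
  have hgs := gs_of_prime hab he
  have h1 := rank_eq hM (good_all hM (Nat.card P)) _ G P le_rfl hgs le_rfl
  refine ⟨h1, fun hns => ?_⟩
  have h2 := card_eq hM _ G P le_rfl hab he hns
  obtain ⟨m, h3, h4⟩ := k_formula hM hgs
  rw [h1] at h4
  have h5 : (centralizer ((P : Subgroup G) : Set G)).relIndex (normalizer ((P : Subgroup G) : Set G)) * m =
      (centralizer ((P : Subgroup G) : Set G)).relIndex (normalizer ((P : Subgroup G) : Set G)) * Nat.card (P0 P) := by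
    have : Nat.card (P0 P) + (centralizer ((P : Subgroup G) : Set G)).relIndex (normalizer ((P : Subgroup G) : Set G)) * m =
        Nat.card (P0 P) + (centralizer ((P : Subgroup G) : Set G)).relIndex (normalizer ((P : Subgroup G) : Set G)) * Nat.card (P0 P) := by
      rw [← h3, h2]; ring
    exact Nat.add_left_cancel this
  have h6 := Nat.eq_of_mul_eq_mul_left he.pos h5
  rw [h4, h6, h2]
  ring

end Cfsg.Agent.Lib.H70AbP
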