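import Mathlib
import Cfsg.Agent.Lib.AutAlt
import Cfsg.Agent.Lib.HBBasic

/-!
# Prime graph of groups of automorphisms of alternating groups (helper70)
-/

set_option autoImplicit false
open Equiv Subgroup
open scoped commutatorElement

namespace Cfsg.Agent.Lib.H70AltPrime

section Small

variable {α : Type*} [Fintype α] [DecidableEq α]

theorem injective_conjNormal (h4 : 4 ≤ Fintype.card α) :
    Function.Injective (MulAut.conjNormal : Perm α →* MulAut ↥(alternatingGroup α)) := by
  rw [injective_iff_map_eq_one]
  intro π hπ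
  ext a
  by_contra ha
  simp only [Perm.one_apply] at ha
  obtain ⟨c, hc⟩ : ∃ c, c ∉ ({a, π a} : Finset α) := by
    by_contra h
    push Not at h
    have : Fintype.card α ≤ ({a, π a} : Finset α).card := by
      rw [← Finset.card_univ]
      exact Finset.card_le_card (fun x _ => h x)
    have := Finset.card_le_two (a := a) (b := π a)
    omega
  obtain ⟨d, hd⟩ : ∃ d, d ∉ ({a, π a, c} : Finset α) := by
    by_contra h
    push Not at h
    have : Fintype.card α ≤ ({a, π a, c} : Finset α).card := by
      rw [← Finset.card_univ]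
      exact Finset.card_le_card (fun x _ => h x)
    have := Finset.card_le_three (a := a) (b := π a) (c := c)
    omega
  simp only [Finset.mem_insert, Finset.mem_singleton, not_or] at hc hd
  have h3 := AutAlt.base_isThreeCycle (u := a) (v := c) (i := d) (Ne.symm hc.1) hd.1 hd.2.2
  let g : alternatingGroup α := ⟨_, h3.mem_alternatingGroup⟩
  have h1 : MulAut.conjNormal π g = g := by rw [hπ]; rfl
  have h2 := congrArg (fun z : alternatingGroup α => (z : Perm α) (π a)) h1
  simp only [MulAut.conjNormal_apply, g] at h2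
  rw [Perm.mul_apply, Perm.mul_apply, show π⁻¹ (π a) = a from π.symm_apply_apply a,
    AutAlt.base_apply_u (Ne.symm hc.1) hd.1 hd.2.2, Perm.mul_apply,
    swap_apply_of_ne_of_ne ha (Ne.symm hc.2), swap_apply_of_ne_of_ne ha (Ne.symm hd.2.1)] at h2
  exact hc.1 (π.injective h2)

/-- A `q`-group acting faithfully on fewer than `q²` points is commutative. -/
theorem comm_of_small {q : ℕ} [hq : Fact q.Prime] (hn : Fintype.card α < q ^ 2) (P : Subgroup (Perm α))
    (hP : IsPGroup q P) : IsMulCommutative P := by
  have key : ∀ a : α, commutator P ≤ MulAction.stabilizer P a := by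
    intro a
    have h1 : (MulAction.stabilizer P a).index = Nat.card (MulAction.orbit P a) := MulAction.index_stabilizer P a
    obtain ⟨k, hk⟩ := IsPGroup.index hP (MulAction.stabilizer P a)
    have h2 : Nat.card (MulAction.orbit P a) < q ^ 2 := by
      refine lt_of_le_of_lt ?_ hn
      rw [← Nat.card_eq_fintype_card]
      exact Nat.card_le_card_of_injective (fun x => (x : α)) Subtype.val_injective
    rw [← h1, hk] at h2
    have hk2 : k < 2 := (Nat.pow_lt_pow_iff_right hq.out.one_lt).1 h2
    interval_cases k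
    · rw [pow_zero] at hk
      rw [index_eq_one.1 hk]; exact le_top
    · rw [pow_one] at hk
      have hco : IsCoatom (MulAction.stabilizer P a) := HBBasic.isCoatom_of_index_prime (hk ▸ hq.out)
      have hno := HBBasic.normal_of_isCoatom hP hco
      have hcyc : IsCyclic (P ⧸ MulAction.stabilizer P a) := isCyclic_of_prime_card (p := q) (by
        rw [← index_eq_card, hk])
      rw [← Normal.quotient_commutative_iff_commutator_le]
      exact ⟨⟨fun u v => by
        let _ := IsCyclic.commGroup (α := P ⧸ MulAction.stabilizer P a)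
        exact mul_comm u v⟩⟩
  constructor
  constructor
  intro x y
  have hxy : ∀ a : α, ⁅x, y⁆ • a = a := fun a =>
    key a (commutator_mem_commutator (mem_top x) (mem_top y))
  have h1 : ⁅x, y⁆ = 1 := by
    apply Subtype.ext
    ext a
    exact congrArg id (hxy a)
  exact commutatorElement_eq_one_iff_mul_comm.1 h1

end Small

open Equiv.Perm

theorem card_T : Fintype.card {g : Perm (Fin 6) // g.cycleType = {3}} = 40 := by
  rw [Fintype.card_subtype, card_of_cycleType]
  decide

theorem card_D : Fintype.card {g : Perm (Fin 6) // g.cycleType = {3, 3}} = 40 := by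
  rw [Fintype.card_subtype, card_of_cycleType]
  decide

theorem mem_alt_T {g : Perm (Fin 6)} (hg : g.cycleType = {3}) : g ∈ alternatingGroup (Fin 6) := by
  rw [mem_alternatingGroup, sign_of_cycleType, hg]; decide

theorem mem_alt_D {g : Perm (Fin 6)} (hg : g.cycleType = {3, 3}) : g ∈ alternatingGroup (Fin 6) := by
  rw [mem_alternatingGroup, sign_of_cycleType, hg]; decide

theorem type_of_order_three {x : Perm (Fin 6)} (hx : orderOf x = 3) : x.cycleType = {3} ∨ x.cycleType = {3, 3} := by
  obtain ⟨k, hk⟩ := cycleType_prime_order (σ := x) (by rw [hx]; exact Nat.prime_three)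
  rw [hx] at hk
  have h1 : x.cycleType.sum ≤ 6 := by
    have := Finset.card_le_univ x.support
    rw [← sum_cycleType] at this
    simpa using this
  rw [hk, Multiset.sum_replicate, smul_eq_mul] at h1
  have hk2 : k < 2 := by omega
  interval_cases k
  · left; rw [hk]; rfl
  · right; rw [hk]; rfl

theorem exists_perm_six (φ : MulAut (alternatingGroup (Fin 6))) (hodd : Odd (orderOf φ)) :
    ∃ π : Perm (Fin 6), MulAut.conjNormal π = φ := by
  apply AutAlt.exists_conj_of_threeCycle φ (by simp)
  -- orders
  have hord : ∀ x : alternatingGroup (Fin 6), orderOf (x : Perm (Fin 6)) = 3 → orderOf (φ x : Perm (Fin 6)) = 3 := by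
    intro x hx
    rw [Subgroup.orderOf_coe, MulEquiv.orderOf_eq, ← Subgroup.orderOf_coe, hx]
  by_contra hcon
  push Not at hcon
  obtain ⟨x₀, hx₀, hφx₀⟩ := hcon
  -- all three cycles go to `D`
  have hTD : ∀ x : alternatingGroup (Fin 6), (x : Perm (Fin 6)).cycleType = {3} →
      (φ x : Perm (Fin 6)).cycleType = {3, 3} := by
    intro x hx
    rcases type_of_order_three (hord x (IsThreeCycle.orderOf hx)) with h | h
    · exfalso
      apply hφx₀
      have h1 := alternatingGroup.isThreeCycle_isConj (by simp) hx hx₀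
      obtain ⟨c, hc⟩ := isConj_iff.1 h1
      have h2 : (φ x₀ : Perm (Fin 6)) = (φ c : Perm (Fin 6)) * (φ x : Perm (Fin 6)) * (φ c : Perm (Fin 6))⁻¹ := by
        rw [← hc, map_mul, map_mul, map_inv]; rfl
      have h3 : (φ x₀ : Perm (Fin 6)).cycleType = {3} := by
        rw [h2, cycleType_conj, h]
      exact h3
    · exact h
  let f : {g : Perm (Fin 6) // g.cycleType = {3}} → {g : Perm (Fin 6) // g.cycleType = {3, 3}} := fun g =>
    ⟨(φ ⟨g.1, mem_alt_T g.2⟩ : Perm (Fin 6)), hTD _ g.2⟩
  have hf : Function.Injective f := by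
    intro g h hgh
    have h1 : (φ ⟨g.1, mem_alt_T g.2⟩ : Perm (Fin 6)) = (φ ⟨h.1, mem_alt_T h.2⟩ : Perm (Fin 6)) :=
      congrArg (fun z : {g : Perm (Fin 6) // g.cycleType = {3, 3}} => (z : Perm (Fin 6))) hgh
    have h2 := φ.injective (Subtype.ext h1)
    exact Subtype.ext (congrArg (fun z : alternatingGroup (Fin 6) => (z : Perm (Fin 6))) h2)
  have hsurj : Function.Surjective f :=
    ((Fintype.bijective_iff_injective_and_card f).2 ⟨hf, by rw [card_T, card_D]⟩).2
  have hDT : ∀ x : alternatingGroup (Fin 6), (x : Perm (Fin 6)).cycleType = {3, 3} →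
      (φ x : Perm (Fin 6)).cycleType = {3} := by
    intro x hx
    have hx3 : orderOf (x : Perm (Fin 6)) = 3 := by
      rw [← lcm_cycleType, hx]; decide
    rcases type_of_order_three (hord x hx3) with h | h
    · exact h
    · exfalso
      obtain ⟨g, hg⟩ := hsurj ⟨(φ x : Perm (Fin 6)), h⟩
      have h1 : (φ ⟨g.1, mem_alt_T g.2⟩ : Perm (Fin 6)) = (φ x : Perm (Fin 6)) :=
        congrArg (fun z : {g : Perm (Fin 6) // g.cycleType = {3, 3}} => (z : Perm (Fin 6))) hg
      have h2 := φ.injective (Subtype.ext h1)
      have h3 : g.1 = (x : Perm (Fin 6)) := congrArg Subtype.val h2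
      have h4 := g.2
      rw [h3, hx] at h4
      exact absurd h4 (by decide)
  have hk : ∀ k : ℕ, (((φ ^ k) x₀ : alternatingGroup (Fin 6)) : Perm (Fin 6)).cycleType = if Even k then {3} else {3, 3} := by
    intro k
    induction k with
    | zero =>
      rw [if_pos (by decide), pow_zero, MulAut.one_apply]; exact hx₀
    | succ k ih =>
      rw [pow_succ', MulAut.mul_apply]
      by_cases hev : Even k
      · rw [if_pos hev] at ih
        rw [if_neg (by rw [Nat.even_add_one]; exact not_not.2 hev)]
        exact hTD _ ih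
      · rw [if_neg hev] at ih
        rw [if_pos (by rw [Nat.even_add_one]; exact hev)]
        exact hDT _ ih
  have h1 := hk (orderOf φ)
  rw [pow_orderOf_eq_one, if_neg (Nat.not_even_iff_odd.2 hodd), MulAut.one_apply] at h1
  have h2 : (x₀ : Perm (Fin 6)).cycleType = {3} := hx₀
  rw [h2] at h1
  exact absurd h1 (by decide)

theorem exists_perm {n : ℕ} (hn : 5 ≤ n) (φ : MulAut (alternatingGroup (Fin n))) (hodd : Odd (orderOf φ)) :
    ∃ π : Perm (Fin n), MulAut.conjNormal π = φ := by
  by_cases h6 : n = 6
  · subst h6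
    exact exists_perm_six φ hodd
  · exact (AutAlt.bijective_conjNormal (by simp; omega) (by simpa using h6)).2 φ

theorem sylow_comm {n : ℕ} (hn : 5 ≤ n) {q : ℕ} [hq : Fact q.Prime] (hq2 : q ≠ 2) (hnq : n < q ^ 2)
    (G : Subgroup (MulAut (alternatingGroup (Fin n)))) (Q : Subgroup G) (hQ : IsPGroup q Q) : IsMulCommutative Q := by
  set R : Subgroup (MulAut (alternatingGroup (Fin n))) := Q.map G.subtype with hR
  have hRp : IsPGroup q R := hQ.map _
  set T : Subgroup (Perm (Fin n)) := R.comap MulAut.conjNormal with hT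
  have hTp : IsPGroup q T := hRp.comap_of_injective _ (injective_conjNormal (by simp; omega))
  have hTc := comm_of_small (by simpa using hnq) T hTp
  constructor
  constructor
  intro x y
  have hodd : ∀ x : Q, Odd (orderOf ((x : G) : MulAut (alternatingGroup (Fin n)))) := by
    intro x
    obtain ⟨k, hk⟩ := (IsPGroup.iff_orderOf.1 hQ) x
    rw [Subgroup.orderOf_coe, Subgroup.orderOf_coe, hk]
    exact (hq.out.odd_of_ne_two hq2).pow
  obtain ⟨π, hπ⟩ := exists_perm hn _ (hodd x)
  obtain ⟨σ, hσ⟩ := exists_perm hn _ (hodd y)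
  have hπT : π ∈ T := by
    rw [hT, mem_comap, hπ]
    exact ⟨_, x.2, rfl⟩
  have hσT : σ ∈ T := by
    rw [hT, mem_comap, hσ]
    exact ⟨_, y.2, rfl⟩
  have h1 : π * σ = σ * π := congrArg Subtype.val (hTc.is_comm.comm (⟨π, hπT⟩ : T) ⟨σ, hσT⟩)
  apply Subtype.ext
  apply Subtype.ext
  change ((x : G) : MulAut (alternatingGroup (Fin n))) * ((y : G) : MulAut (alternatingGroup (Fin n))) =
    ((y : G) : MulAut (alternatingGroup (Fin n))) * ((x : G) : MulAut (alternatingGroup (Fin n)))
  rw [← hπ, ← hσ, ← map_mul, ← map_mul, h1]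

theorem exists_order {n : ℕ} {p q : ℕ} (hp : p.Prime) (hq : q.Prime) (hpq : p < q) (hn : q ^ 2 ≤ n) :
    ∃ g : alternatingGroup (Fin n), orderOf g = p * q := by
  have hq3 : 3 ≤ q := by have := hp.two_le; omega
  have hqodd : Odd q := hq.odd_of_ne_two (by omega)
  have hcop : Nat.Coprime p q := (Nat.coprime_primes hp hq).2 hpq.ne
  by_cases hp2 : p = 2
  · obtain ⟨g, hg⟩ := (exists_with_cycleType_iff (Fin n) (m := {2, 2, q})).2 (by
      constructor
      · simp only [Multiset.insert_eq_cons, Multiset.sum_cons, Multiset.sum_singleton, Fintype.card_fin]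
        nlinarith
      · intro a ha
        simp only [Multiset.insert_eq_cons, Multiset.mem_cons, Multiset.mem_singleton] at ha
        omega)
    refine ⟨⟨g, ?_⟩, ?_⟩
    · rw [mem_alternatingGroup, sign_of_cycleType, hg]
      simp only [Multiset.insert_eq_cons, Multiset.sum_cons, Multiset.sum_singleton, Multiset.card_cons,
        Multiset.card_singleton]
      apply Even.neg_one_pow
      obtain ⟨k, hk⟩ := hqodd
      exact ⟨k + 4, by omega⟩
    · rw [← Subgroup.orderOf_coe]
      change orderOf g = _
      rw [← lcm_cycleType, hg]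
      simp only [Multiset.insert_eq_cons, Multiset.lcm_cons, Multiset.lcm_singleton, normalize_eq]
      rw [hp2] at hcop ⊢
      change Nat.lcm 2 (Nat.lcm 2 q) = 2 * q
      rw [hcop.lcm_eq_mul]
      exact Nat.lcm_eq_right (Dvd.intro _ rfl)
  · obtain ⟨g, hg⟩ := (exists_with_cycleType_iff (Fin n) (m := {p, q})).2 (by
      constructor
      · simp only [Multiset.insert_eq_cons, Multiset.sum_cons, Multiset.sum_singleton, Fintype.card_fin]
        nlinarith
      · intro a ha
        simp only [Multiset.insert_eq_cons, Multiset.mem_cons, Multiset.mem_singleton] at ha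
        have := hp.two_le
        omega)
    refine ⟨⟨g, ?_⟩, ?_⟩
    · rw [mem_alternatingGroup, sign_of_cycleType, hg]
      simp only [Multiset.insert_eq_cons, Multiset.sum_cons, Multiset.sum_singleton, Multiset.card_cons,
        Multiset.card_singleton]
      apply Even.neg_one_pow
      obtain ⟨k, hk⟩ := hqodd
      obtain ⟨l, hl⟩ := hp.odd_of_ne_two hp2
      exact ⟨k + l + 2, by omega⟩
    · rw [← Subgroup.orderOf_coe]
      change orderOf g = _
      rw [← lcm_cycleType, hg]
      simp only [Multiset.insert_eq_cons, Multiset.lcm_cons, Multiset.lcm_singleton, normalize_eq]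
      exact hcop.lcm_eq_mul

theorem main {n : ℕ} (hn : 5 ≤ n) (G : Subgroup (MulAut (alternatingGroup (Fin n))))
    (hG : (MulAut.conj : alternatingGroup (Fin n) →* MulAut (alternatingGroup (Fin n))).range ≤ G)
    {p q : ℕ} (hp : p.Prime) [hq : Fact q.Prime] (hpq : p < q) (h : ∀ g : G, orderOf g ≠ p * q) (Q : Sylow q G) :
    IsMulCommutative (Q : Subgroup G) := by
  have hq2 : q ≠ 2 := by have := hp.two_le; omega
  rcases Nat.lt_or_ge n (q ^ 2) with h1 | h1
  · exact sylow_comm hn hq2 h1 G _ Q.isPGroup'
  · exfalso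
    obtain ⟨g, hg⟩ := exists_order hp hq.out hpq h1
    have hinj : Function.Injective (MulAut.conj : alternatingGroup (Fin n) →* MulAut (alternatingGroup (Fin n))) := by
      intro x y hxy
      apply Subtype.ext
      apply injective_conjNormal (α := Fin n) (by simp; omega)
      refine MulEquiv.ext fun z => Subtype.ext ?_
      have := congrArg (fun f => ((f z : alternatingGroup (Fin n)) : Perm (Fin n))) hxy
      rw [MulAut.conjNormal_apply, MulAut.conjNormal_apply]
      simpa [MulAut.conj_apply] using this
    refine h ⟨MulAut.conj g, hG ⟨g, rfl⟩⟩ ?_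
    rw [Subgroup.orderOf_mk, orderOf_injective _ hinj, hg]

end Cfsg.Agent.Lib.H70AltPrime
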