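import Cfsg.Agent.Lib.WielandtCount2

set_option autoImplicit false

/-!
# The number of subgroups of order `p ^ b` modulo `p²` (helper70)
-/

namespace Cfsg.Agent.Lib.H70Kulakoff

open MulAction
open scoped Pointwise

universe u

theorem ncard_sets {α : Type u} [Finite α] (j : ℕ) : Nat.card {u : Set α // u.ncard = j} = (Nat.card α).choose j := by
  have h5 := Set.ncard_powerset_ncard (Set.finite_univ (α := α)) j
  rw [Set.ncard_univ] at h5
  rw [← h5]
  have h6 : {t : Set α | t ⊆ Set.univ ∧ t.ncard = j} = {s : Set α | s.ncard = j} := by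
    ext t; simp
  rw [h6]; rfl

theorem ncard_preimage_mk {G : Type u} [Group G] [Finite G] (H : Subgroup G) (u : Set (G ⧸ H)) :
    ((QuotientGroup.mk : G → G ⧸ H) ⁻¹' u).ncard = Nat.card H * u.ncard := by
  have h1 := Nat.card_congr (QuotientGroup.preimageMkEquivSubgroupProdSet H u)
  rw [Nat.card_prod] at h1
  exact h1

/-- the sets of size `|H| j` invariant under `H` -/
theorem card_fix {G : Type u} [Group G] [Finite G] (H : Subgroup G) (j : ℕ) :
    Nat.card {s : Set G // s.ncard = Nat.card H * j ∧ H ≤ stabilizer G s} = H.index.choose j := by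
  have hH : 0 < Nat.card H := Nat.card_pos
  rw [Subgroup.index, ← ncard_sets]
  symm
  refine Nat.card_congr (Equiv.ofBijective
    (fun u : {u : Set (G ⧸ H) // u.ncard = j} => (⟨((QuotientGroup.mk : G → G ⧸ H) ⁻¹' u.1)⁻¹, ?_, ?_⟩ :
      {s : Set G // s.ncard = Nat.card H * j ∧ H ≤ stabilizer G s})) ⟨?_, ?_⟩)
  · rw [Set.ncard_inv, ncard_preimage_mk, u.2]
  · intro h hh
    rw [mem_stabilizer_iff]
    ext x
    rw [Set.mem_smul_set_iff_inv_smul_mem, smul_eq_mul, Set.mem_inv, Set.mem_inv, Set.mem_preimage, Set.mem_preimage]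
    have : ((h⁻¹ * x)⁻¹ : G) = x⁻¹ * h := by group
    rw [this, QuotientGroup.mk_mul_of_mem _ hh]
  · intro u v huv
    have h1 : ((QuotientGroup.mk : G → G ⧸ H) ⁻¹' u.1)⁻¹ = ((QuotientGroup.mk : G → G ⧸ H) ⁻¹' v.1)⁻¹ :=
      congrArg Subtype.val huv
    have h2 := inv_injective h1
    exact Subtype.ext (Set.preimage_injective.2 (QuotientGroup.mk_surjective) h2)
  · rintro ⟨s, hs, hst⟩
    have hinv : ∀ y ∈ s⁻¹, ∀ h ∈ H, y * h ∈ s⁻¹ := by
      intro y hy h hh
      rw [Set.mem_inv] at hy ⊢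
      have h1 : h⁻¹ • s = s := hst (H.inv_mem hh)
      rw [← h1, mul_inv_rev]
      exact ⟨y⁻¹, hy, rfl⟩
    have hpre : ((QuotientGroup.mk : G → G ⧸ H) ⁻¹' ((QuotientGroup.mk : G → G ⧸ H) '' s⁻¹)) = s⁻¹ := by
      ext x
      constructor
      · rintro ⟨y, hy, hxy⟩
        have h1 := QuotientGroup.eq.1 hxy
        have h2 := hinv y hy _ h1
        rwa [mul_inv_cancel_left] at h2
      · intro hx; exact ⟨x, hx, rfl⟩
    refine ⟨⟨(QuotientGroup.mk : G → G ⧸ H) '' s⁻¹, ?_⟩, ?_⟩
    · have h1 := ncard_preimage_mk H ((QuotientGroup.mk : G → G ⧸ H) '' s⁻¹)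
      rw [hpre, Set.ncard_inv, hs] at h1
      exact (Nat.eq_of_mul_eq_mul_left hH h1).symm
    · apply Subtype.ext
      simp only
      rw [hpre, inv_inv]

theorem card_ne {α : Type u} [Finite α] (a : α) : Nat.card α = Nat.card {b : α // b ≠ a} + 1 := by
  classical
  rw [← Nat.card_congr (Equiv.optionSubtypeNe a), Finite.card_option]

theorem index_of_card {K : Type u} [Group K] [Finite K] {p b : ℕ} (hp : p.Prime) (hK : Nat.card K = p ^ (b + 1))
    {H : Subgroup K} (hH : Nat.card H = p ^ b) : H.index = p := by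
  have h1 := H.card_mul_index
  rw [hH, hK, pow_succ] at h1
  exact Nat.eq_of_mul_eq_mul_left (pow_pos hp.pos b) h1

theorem card_of_index {K : Type u} [Group K] [Finite K] {p b : ℕ} (hp : p.Prime) (hK : Nat.card K = p ^ (b + 1))
    {H : Subgroup K} (hH : H.index = p) : Nat.card H = p ^ b := by
  have h2 := H.card_mul_index
  rw [hH, hK, pow_succ] at h2
  exact Nat.eq_of_mul_eq_mul_right hp.pos h2

theorem eq_top_of_lt {K : Type u} [Group K] {p : ℕ} (hp : p.Prime) {H E : Subgroup K} (hH : H.index = p)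
    (hle : H ≤ E) {x : K} (hx : x ∈ E) (hxH : x ∉ H) : E = ⊤ := by
  have h1 := Subgroup.relIndex_mul_index hle
  rw [hH] at h1
  rcases (Nat.dvd_prime hp).1 (Dvd.intro _ h1) with h2 | h2
  · rw [Subgroup.relIndex_eq_one] at h2
    exact absurd (h2 hx) hxH
  · rw [h2] at h1
    have h3 : E.index = 1 := by
      have := hp.pos
      exact Nat.eq_of_mul_eq_mul_left this (by rw [h1, mul_one])
    exact Subgroup.index_eq_one.1 h3

theorem finite_hom (K : Type u) [Group K] [Finite K] {p : ℕ} (hp : p.Prime) : Finite (K →* Multiplicative (ZMod p)) := by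
  haveI := Fact.mk hp
  haveI : Finite (Multiplicative (ZMod p)) := Nat.finite_of_card_ne_zero (by
    have : Nat.card (Multiplicative (ZMod p)) = p := Nat.card_zmod p
    rw [this]; exact hp.pos.ne')
  exact DFunLike.finite _

/-- homomorphisms to `ℤ_p` and subgroups of index `p` -/
theorem card_hom {K : Type u} [Group K] [Finite K] {p b : ℕ} (hp : p.Prime) (hK : Nat.card K = p ^ (b + 1)) :
    Nat.card (K →* Multiplicative (ZMod p)) = Nat.card {H : Subgroup K // Nat.card H = p ^ b} * (p - 1) + 1 := by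
  classical
  haveI hfact := Fact.mk hp
  haveI := finite_hom K hp
  have hCc : Nat.card (Multiplicative (ZMod p)) = p := Nat.card_zmod p
  have hker : ∀ φ : K →* Multiplicative (ZMod p), φ ≠ 1 → Nat.card φ.ker = p ^ b := by
    intro φ hφ
    apply card_of_index hp hK
    rw [Subgroup.index_ker]
    have h2 : Nat.card φ.range ∣ p := by
      have := Subgroup.card_subgroup_dvd_card φ.range
      rwa [hCc] at this
    rcases (Nat.dvd_prime hp).1 h2 with h3 | h3
    · exfalso
      apply hφ
      ext x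
      have h4 : φ.range = ⊥ := Subgroup.card_eq_one.1 h3
      have h5 : φ x ∈ φ.range := ⟨x, rfl⟩
      rw [h4, Subgroup.mem_bot] at h5
      rw [h5]; rfl
    · exact h3
  let F : {φ : K →* Multiplicative (ZMod p) // φ ≠ 1} → {H : Subgroup K // Nat.card H = p ^ b} :=
    fun φ => ⟨φ.1.ker, hker φ.1 φ.2⟩
  have hfib : ∀ H : {H : Subgroup K // Nat.card H = p ^ b}, Nat.card {φ // F φ = H} = p - 1 := by
    intro H
    have hidx := index_of_card hp hK H.2
    have hn : H.1.Normal := Subgroup.normal_of_index_eq_minFac_card (by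
      rw [hidx, hK, hp.pow_minFac (Nat.succ_ne_zero b)])
    obtain ⟨x, hx⟩ : ∃ x, x ∉ H.1 := by
      by_contra hcon
      push Not at hcon
      have h1 : H.1 = ⊤ := (Subgroup.eq_top_iff' _).2 hcon
      rw [h1, Subgroup.index_top] at hidx
      exact hp.one_lt.ne hidx
    have hq : Nat.card (K ⧸ H.1) = p := hidx
    let e : (K ⧸ H.1) ≃* Multiplicative (ZMod p) := mulEquivOfPrimeCardEq hq hCc
    let φ0 : K →* Multiplicative (ZMod p) := e.toMonoidHom.comp (QuotientGroup.mk' H.1)
    have hφ0 : ∀ y, φ0 y = 1 ↔ y ∈ H.1 := by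
      intro y
      change e (QuotientGroup.mk y) = 1 ↔ _
      rw [map_eq_one_iff e e.injective, QuotientGroup.eq_one_iff]
    have h1 := card_ne (1 : Multiplicative (ZMod p))
    rw [hCc] at h1
    have h2 : Nat.card {φ // F φ = H} = Nat.card {c : Multiplicative (ZMod p) // c ≠ 1} := by
      refine Nat.card_congr (Equiv.ofBijective (fun φ => ⟨φ.1.1 x, ?_⟩) ⟨?_, ?_⟩)
      · intro h3
        apply hx
        have h4 : φ.1.1.ker = H.1 := congrArg Subtype.val φ.2
        rw [← h4]
        exact h3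
      · rintro ⟨⟨φ, hφ1⟩, hφ⟩ ⟨⟨ψ, hψ1⟩, hψ⟩ h3
        have h3' : φ x = ψ x := congrArg Subtype.val h3
        have h4 : φ.ker = H.1 := congrArg Subtype.val hφ
        have h5 : ψ.ker = H.1 := congrArg Subtype.val hψ
        have h6 : MonoidHom.eqLocus φ ψ = ⊤ := by
          refine eq_top_of_lt hp hidx ?_ h3' hx
          intro y hy
          have h7 : φ y = 1 := by rw [← MonoidHom.mem_ker, h4]; exact hy
          have h8 : ψ y = 1 := by rw [← MonoidHom.mem_ker, h5]; exact hy
          exact h7.trans h8.symm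
        have h7 : φ = ψ := by
          ext y
          have : y ∈ MonoidHom.eqLocus φ ψ := by rw [h6]; trivial
          rw [show φ y = ψ y from this]
        subst h7
        rfl
      · rintro ⟨c, hc⟩
        have h3 : φ0 x ≠ 1 := fun h => hx ((hφ0 x).1 h)
        have h4 : c ∈ Subgroup.zpowers (φ0 x) := by
          have h5 : Subgroup.zpowers (φ0 x) = ⊤ := by
            apply Subgroup.eq_top_of_card_eq
            have h6 : Nat.card (Subgroup.zpowers (φ0 x)) ∣ p := by
              have := Subgroup.card_subgroup_dvd_card (Subgroup.zpowers (φ0 x))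
              rwa [hCc] at this
            rw [hCc]
            refine ((Nat.dvd_prime hp).1 h6).resolve_left (fun h7 => ?_)
            exact h3 (Subgroup.zpowers_eq_bot.1 (Subgroup.card_eq_one.1 h7))
          rw [h5]; trivial
        obtain ⟨i, hi⟩ := Subgroup.mem_zpowers_iff.1 h4
        have h5 : (φ0 ^ i) x = c := hi
        have h6 : φ0 ^ i ≠ 1 := by
          intro h7
          apply hc
          rw [← h5, h7]; rfl
        have h7 : (φ0 ^ i).ker = H.1 := by
          symm
          apply Subgroup.eq_of_le_of_card_ge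
          · intro y hy
            rw [MonoidHom.mem_ker]
            change (φ0 y) ^ i = 1
            rw [(hφ0 y).2 hy, one_zpow]
          · rw [hker _ h6, H.2]
        exact ⟨⟨⟨φ0 ^ i, h6⟩, Subtype.ext h7⟩, Subtype.ext h5⟩
    rw [h2]
    omega
  rw [card_ne (1 : K →* Multiplicative (ZMod p)), Nat.card_congr (Equiv.sigmaFiberEquiv F).symm]
  haveI := Fintype.ofFinite {H : Subgroup K // Nat.card H = p ^ b}
  rw [Nat.card_sigma, Finset.sum_congr rfl (fun H _ => hfib H), Finset.sum_const, Finset.card_univ, smul_eq_mul,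
    Nat.card_eq_fintype_card]

/-- the number of subgroups of index `p` of a `p`-group is `1 + p` modulo `p²` if it is not cyclic -/
theorem card_index_p {K : Type u} [Group K] [Finite K] {p b : ℕ} (hp : p.Prime) (hK : Nat.card K = p ^ (b + 1))
    (hnc : ¬ IsCyclic K) : Nat.card {H : Subgroup K // Nat.card H = p ^ b} ≡ 1 + p [MOD p ^ 2] := by
  classical
  haveI hfact := Fact.mk hp
  haveI := finite_hom K hp
  set n := Nat.card {H : Subgroup K // Nat.card H = p ^ b} with hn
  have h1 := card_hom hp hK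
  rw [← hn] at h1
  -- at least two
  have h2 : 2 ≤ n := by
    by_contra hcon
    push Not at hcon
    obtain ⟨H, hH⟩ := Sylow.exists_subgroup_card_pow_prime (G := K) p (n := b) (by rw [hK]; exact pow_dvd_pow p (by omega))
    have hidx := index_of_card hp hK hH
    have huniq : ∀ L : Subgroup K, Nat.card L = p ^ b → L = H := by
      intro L hL
      have : Subsingleton {H : Subgroup K // Nat.card H = p ^ b} := by
        rw [← Finite.card_le_one_iff_subsingleton]; omega
      exact congrArg Subtype.val (Subsingleton.elim (⟨L, hL⟩ : {H : Subgroup K // Nat.card H = p ^ b}) ⟨H, hH⟩)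
    obtain ⟨x, hx⟩ : ∃ x, x ∉ H := by
      by_contra hcon
      push Not at hcon
      have h1 : H = ⊤ := (Subgroup.eq_top_iff' _).2 hcon
      rw [h1, Subgroup.index_top] at hidx
      exact hp.one_lt.ne hidx
    apply hnc
    obtain ⟨k, hk⟩ := IsPGroup.iff_orderOf.1 (IsPGroup.of_card hK) x
    have hkb : b < k := by
      by_contra hkb
      push Not at hkb
      obtain ⟨L, hL, hxL⟩ := Sylow.exists_subgroup_card_pow_prime_le (G := K) (n := k) (m := b) p
        (by rw [hK]; exact pow_dvd_pow p (by omega)) (Subgroup.zpowers x) (by rw [Nat.card_zpowers, hk]) hkb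
      rw [huniq L hL] at hxL
      exact hx (hxL (Subgroup.mem_zpowers x))
    apply isCyclic_of_orderOf_eq_card x
    apply le_antisymm
    · exact Nat.le_of_dvd Nat.card_pos (orderOf_dvd_natCard x)
    · rw [hk, hK]; exact Nat.pow_le_pow_right hp.pos hkb
  -- the group of homomorphisms is a `p`-group
  have h3 : IsPGroup p (K →* Multiplicative (ZMod p)) := by
    intro φ
    refine ⟨1, ?_⟩
    ext x
    have h4 : (φ x) ^ p = 1 := by
      have : Nat.card (Multiplicative (ZMod p)) = p := Nat.card_zmod p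
      have h5 := pow_card_eq_one' (x := φ x)
      rwa [this] at h5
    rw [pow_one]
    change Multiplicative.toAdd ((φ x) ^ p) = _
    rw [h4]; rfl
  obtain ⟨d, hd⟩ := IsPGroup.iff_card.1 h3
  rw [hd] at h1
  have hp2 := hp.two_le
  have hd2 : 2 ≤ d := by
    by_contra hcon
    push Not at hcon
    have : p ^ d ≤ p ^ 1 := Nat.pow_le_pow_right hp.pos (by omega)
    rw [h1, pow_one] at this
    have h5 : 2 * (p - 1) ≤ n * (p - 1) := Nat.mul_le_mul_right _ h2
    omega
  have h4 : p ^ 2 ∣ n * (p - 1) + 1 := by rw [← h1]; exact pow_dvd_pow p hd2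
  -- conclude
  obtain ⟨q, rfl⟩ : ∃ q, p = q + 1 := ⟨p - 1, by omega⟩
  rw [Nat.add_sub_cancel] at h4
  obtain ⟨c, hc⟩ := h4
  rw [← Int.natCast_modEq_iff, Int.modEq_iff_dvd]
  push_cast
  refine ⟨(q + 2) * c - n, ?_⟩
  have hc' : (n : ℤ) * q + 1 = (q + 1) ^ 2 * c := by exact_mod_cast hc
  linear_combination ((q : ℤ) + 2) * hc'

open Finset in
/-- the basic congruence -/
theorem count {G : Type u} [Group G] [Finite G] {p b m : ℕ} (hp : p.Prime) (hG : Nat.card G = p ^ (b + 1) * m) :
    (Nat.card G).choose (p ^ (b + 1)) +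
      m * Nat.card (Σ K : {K : Subgroup G // Nat.card K = p ^ (b + 1)}, {H : Subgroup K.1 // Nat.card H = p ^ b}) ≡
    m * Nat.card {K : Subgroup G // Nat.card K = p ^ (b + 1)} +
      Nat.card {H : Subgroup G // Nat.card H = p ^ b} * (p * m).choose p [MOD p ^ 2 * m] := by
  classical
  haveI := Fintype.ofFinite (Set G)
  haveI := Fintype.ofFinite (Subgroup G)
  have hG0 : 0 < Nat.card G := Nat.card_pos
  have hp0 := hp.pos
  obtain ⟨T, hT⟩ : ∃ X : Finset (Set G), X = univ.filter (fun s => s.ncard = p ^ (b + 1)) := ⟨_, rfl⟩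
  obtain ⟨HH, hHH⟩ : ∃ X : Finset (Subgroup G), X = univ.filter (fun H : Subgroup G => Nat.card H = p ^ b) := ⟨_, rfl⟩
  obtain ⟨KK, hKK⟩ : ∃ X : Finset (Subgroup G), X = univ.filter (fun K : Subgroup G => Nat.card K = p ^ (b + 1)) := ⟨_, rfl⟩
  have hcH : Nat.card {H : Subgroup G // Nat.card H = p ^ b} = #HH := by
    rw [Nat.card_eq_fintype_card, Fintype.card_subtype, hHH]
  have hcK : Nat.card {H : Subgroup G // Nat.card H = p ^ (b + 1)} = #KK := by
    rw [Nat.card_eq_fintype_card, Fintype.card_subtype, hKK]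
  have hcT : (Nat.card G).choose (p ^ (b + 1)) = #T := by
    rw [← ncard_sets, Nat.card_eq_fintype_card, Fintype.card_subtype, hT]
  -- fixed sets
  have hfixH : ∀ H ∈ HH, #(T.filter (fun s => H ≤ stabilizer G s)) = (p * m).choose p := by
    intro H hH
    rw [hHH, mem_filter] at hH
    have h1 := card_fix H p
    have h2 : H.index = p * m := by
      have h3 := H.card_mul_index
      rw [hH.2, hG, pow_succ, mul_assoc] at h3
      exact Nat.eq_of_mul_eq_mul_left (pow_pos hp0 b) h3
    rw [h2] at h1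
    rw [← h1, hT, filter_filter, Nat.card_eq_fintype_card, Fintype.card_subtype, hH.2, pow_succ]
  have hfixK : ∀ K ∈ KK, #(T.filter (fun s => K ≤ stabilizer G s)) = m := by
    intro K hK
    rw [hKK, mem_filter] at hK
    have h1 := card_fix K 1
    have h2 : K.index = m := by
      have h3 := K.card_mul_index
      rw [hK.2, hG] at h3
      exact Nat.eq_of_mul_eq_mul_left (pow_pos hp0 _) h3
    rw [h2, Nat.choose_one_right] at h1
    conv_rhs => rw [← h1]
    rw [hT, filter_filter, Nat.card_eq_fintype_card, Fintype.card_subtype, hK.2, mul_one]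
  -- order of the stabilizers
  have hstab : ∀ s ∈ T, ∃ j ≤ b + 1, Nat.card (stabilizer G s) = p ^ j := by
    intro s hs
    rw [hT, mem_filter] at hs
    have h4 := WielandtCount.card_stabilizer_dvd s
    rw [hs.2] at h4
    exact (Nat.dvd_prime_pow hp).1 h4
  have hpinj : ∀ {i j : ℕ}, p ^ i = p ^ j → i = j := fun h => Nat.pow_right_injective hp.two_le h
  obtain ⟨T1, hT1⟩ : ∃ X : Finset (Set G), X = T.filter (fun s => Nat.card (stabilizer G s) = p ^ (b + 1)) := ⟨_, rfl⟩
  obtain ⟨T0, hT0⟩ : ∃ X : Finset (Set G), X = T.filter (fun s => Nat.card (stabilizer G s) = p ^ b) := ⟨_, rfl⟩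
  obtain ⟨T', hT'⟩ : ∃ X : Finset (Set G), X = T.filter (fun s => Nat.card (stabilizer G s) ≠ p ^ (b + 1) ∧ Nat.card (stabilizer G s) ≠ p ^ b) := ⟨_, rfl⟩
  have hsplit : ∀ g : Set G → ℕ, ∑ s ∈ T, g s = ∑ s ∈ T1, g s + ∑ s ∈ T0, g s + ∑ s ∈ T', g s := by
    intro g
    rw [hT1, hT0, hT', ← sum_filter_add_sum_filter_not T (fun s => Nat.card (stabilizer G s) = p ^ (b + 1)), add_assoc]
    congr 1
    rw [← sum_filter_add_sum_filter_not (T.filter (fun s => ¬ Nat.card (stabilizer G s) = p ^ (b + 1)))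
      (fun s => Nat.card (stabilizer G s) = p ^ b), filter_filter, filter_filter]
    congr 1
    · apply sum_congr _ (fun _ _ => rfl)
      ext s
      rw [mem_filter, mem_filter]
      constructor
      · rintro ⟨h1, h2, h3⟩; exact ⟨h1, h3⟩
      · rintro ⟨h1, h3⟩
        refine ⟨h1, ?_, h3⟩
        rw [h3]
        intro h4
        have := hpinj h4
        omega
  -- the sum over `T1`
  have hsum1 : ∀ g : Subgroup G → ℕ, ∑ s ∈ T1, g (stabilizer G s) = m * ∑ K ∈ KK, g K := by
    intro g
    rw [← sum_fiberwise_of_maps_to (s := T1) (t := KK) (g := fun s => stabilizer G s) (by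
      intro s hs
      rw [hT1, mem_filter] at hs
      rw [hKK, mem_filter]
      exact ⟨mem_univ _, hs.2⟩), mul_sum]
    apply sum_congr rfl
    intro K hK
    have hK' := hK
    rw [hKK, mem_filter] at hK'
    rw [sum_congr rfl (fun s hs => by rw [(mem_filter.1 hs).2] : ∀ s ∈ T1.filter (fun s => stabilizer G s = K),
      g (stabilizer G s) = g K), sum_const, smul_eq_mul]
    congr 1
    rw [← hfixK K hK]
    congr 1
    ext s
    rw [mem_filter, hT1, mem_filter, mem_filter]
    constructor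
    · rintro ⟨⟨h1, h2⟩, h3⟩
      exact ⟨h1, h3.ge⟩
    · rintro ⟨h1, h2⟩
      obtain ⟨j, hj, hjs⟩ := hstab s h1
      have h3 : p ^ (b + 1) ≤ p ^ j := by
        rw [← hjs, ← hK'.2]
        exact Nat.le_of_dvd Nat.card_pos (Subgroup.card_dvd_of_le h2)
      have h4 : j = b + 1 := le_antisymm hj ((Nat.pow_le_pow_iff_right hp.one_lt).1 h3)
      rw [h4] at hjs
      exact ⟨⟨h1, hjs⟩, (Subgroup.eq_of_le_of_card_ge h2 (by rw [hjs, hK'.2])).symm⟩
  -- double counting
  have hdouble : ∑ s ∈ T, #(HH.filter (fun H => H ≤ stabilizer G s)) = #HH * (p * m).choose p := by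
    have h1 := sum_card_bipartiteAbove_eq_sum_card_bipartiteBelow (s := T) (t := HH) (fun s H => H ≤ stabilizer G s)
    unfold bipartiteAbove bipartiteBelow at h1
    rw [h1, sum_congr rfl hfixH, sum_const, smul_eq_mul]
  rw [hsplit, hsum1 (fun K => #(HH.filter (fun H => H ≤ K)))] at hdouble
  have h0 : ∑ s ∈ T0, #(HH.filter (fun H => H ≤ stabilizer G s)) = #T0 := by
    rw [sum_congr rfl (g := fun _ => 1), sum_const, smul_eq_mul, mul_one]
    intro s hs
    rw [hT0, mem_filter] at hs
    rw [card_eq_one]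
    refine ⟨stabilizer G s, ?_⟩
    ext H
    rw [mem_filter, mem_singleton, hHH, mem_filter]
    constructor
    · rintro ⟨⟨-, h1⟩, h2⟩
      exact Subgroup.eq_of_le_of_card_ge h2 (by rw [h1, hs.2])
    · rintro rfl
      exact ⟨⟨mem_univ _, hs.2⟩, le_rfl⟩
  have h' : ∑ s ∈ T', #(HH.filter (fun H => H ≤ stabilizer G s)) = 0 := by
    apply sum_eq_zero
    intro s hs
    rw [hT', mem_filter] at hs
    rw [card_eq_zero, filter_eq_empty_iff]
    intro H hH hle
    rw [hHH, mem_filter] at hH
    obtain ⟨j, hj, hjs⟩ := hstab s hs.1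
    have h3 : p ^ b ≤ p ^ j := by
      rw [← hjs, ← hH.2]
      exact Nat.le_of_dvd Nat.card_pos (Subgroup.card_dvd_of_le hle)
    have h4 := (Nat.pow_le_pow_iff_right hp.one_lt).1 h3
    rw [hjs] at hs
    have h5 : j ≠ b + 1 := fun h => hs.2.1 (by rw [h])
    have h6 : j ≠ b := fun h => hs.2.2 (by rw [h])
    omega
  rw [h0, h', add_zero] at hdouble
  -- cardinalities
  have hcT2 := hsplit (fun _ => 1)
  simp only [sum_const, smul_eq_mul, mul_one] at hcT2
  have hcT1 := hsum1 (fun _ => 1)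
  simp only [sum_const, smul_eq_mul, mul_one] at hcT1
  have hdvd : p ^ 2 * m ∣ #T' := by
    have h1 := WielandtCount.dvd_card_of_orbits (G := G) (α := Set G)
      (fun s => s.ncard = p ^ (b + 1) ∧ (Nat.card (stabilizer G s) ≠ p ^ (b + 1) ∧ Nat.card (stabilizer G s) ≠ p ^ b)) ?_ (p ^ 2 * m) ?_
    · rw [Nat.card_eq_fintype_card, Fintype.card_subtype] at h1
      rw [hT', hT, filter_filter]
      exact h1
    · rintro g s ⟨hs1, hs2⟩
      refine ⟨?_, ?_⟩
      · rw [← hs1]
        exact Set.ncard_image_of_injective _ (MulAction.injective g)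
      · rwa [MulAction.stabilizer_smul_eq_stabilizer_map_conj,
          Subgroup.card_map_of_injective (MulAut.conj g).injective]
    · rintro s ⟨hs1, hs2, hs3⟩
      obtain ⟨j, hj, hjs⟩ := hstab s (by rw [hT, mem_filter]; exact ⟨mem_univ _, hs1⟩)
      have h5 : j ≠ b + 1 := fun h => hs2 (by rw [hjs, h])
      have h6 : j ≠ b := fun h => hs3 (by rw [hjs, h])
      have h7 : Nat.card (orbit G s) * Nat.card (stabilizer G s) = Nat.card G := by
        rw [← Nat.card_prod]
        exact Nat.card_congr (orbitProdStabilizerEquivGroup G s)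
      rw [hjs, hG] at h7
      have h8 : Nat.card (orbit G s) = p ^ (b + 1 - j) * m := by
        have h9 : p ^ (b + 1) = p ^ (b + 1 - j) * p ^ j := by rw [← pow_add]; congr 1; omega
        rw [h9] at h7
        have h10 : Nat.card (orbit G s) * p ^ j = (p ^ (b + 1 - j) * m) * p ^ j := by rw [h7]; ring
        exact Nat.eq_of_mul_eq_mul_right (pow_pos hp.pos _) h10
      rw [h8]
      exact Nat.mul_dvd_mul_right (pow_dvd_pow p (by omega)) m
  -- pairs
  have hpairs : Nat.card (Σ K : {K : Subgroup G // Nat.card K = p ^ (b + 1)}, {H : Subgroup K.1 // Nat.card H = p ^ b}) =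
      ∑ K ∈ KK, #(HH.filter (fun H => H ≤ K)) := by
    rw [Nat.card_sigma]
    have h1 : ∀ K : Subgroup G, Nat.card {H : Subgroup K // Nat.card H = p ^ b} = #(HH.filter (fun H => H ≤ K)) := by
      intro K
      have h2 : Nat.card {H : Subgroup G // Nat.card H = p ^ b ∧ H ≤ K} = #(HH.filter (fun H => H ≤ K)) := by
        rw [Nat.card_eq_fintype_card, Fintype.card_subtype, hHH, filter_filter]
      rw [← h2]
      refine Nat.card_congr ⟨fun H => ⟨H.1.map K.subtype, ?_, ?_⟩, fun H => ⟨H.1.subgroupOf K, ?_⟩, ?_, ?_⟩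
      · rw [Subgroup.card_map_of_injective K.subtype_injective, H.2]
      · exact Subgroup.map_subtype_le _
      · rw [Nat.card_congr (Subgroup.subgroupOfEquivOfLe H.2.2).toEquiv, H.2.1]
      · intro H
        apply Subtype.ext
        simp only
        exact Subgroup.comap_map_eq_self_of_injective K.subtype_injective _
      · intro H
        apply Subtype.ext
        simp only
        exact Subgroup.map_subgroupOf_eq_of_le H.2.2
    rw [sum_congr rfl (fun K _ => h1 K.1)]
    rw [← sum_coe_sort KK (fun K => #(HH.filter (fun H => H ≤ K)))]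
    refine Fintype.sum_equiv (Equiv.subtypeEquivRight (fun K => by rw [hKK, mem_filter]; simp)) _ _ (fun K => rfl)
  rw [hpairs, hcT, hcK, hcH, hcT2, hcT1, ← hdouble]
  have h9 : m * #KK + #T0 + #T' + m * ∑ K ∈ KK, #(HH.filter (fun H => H ≤ K)) =
      (m * #KK + (m * ∑ K ∈ KK, #(HH.filter (fun H => H ≤ K)) + #T0)) + #T' := by ring
  rw [h9]
  exact (Nat.modEq_iff_dvd' (Nat.le_add_right _ _)).2 (by simpa using hdvd) |>.symm

/-- the number of subgroups of index `p` in the subgroups of order `p ^ (b + 1)` -/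
theorem pairs_modEq {G : Type u} [Group G] [Finite G] {p b : ℕ} (hp : p.Prime) :
    Nat.card (Σ K : {K : Subgroup G // Nat.card K = p ^ (b + 1)}, {H : Subgroup K.1 // Nat.card H = p ^ b}) ≡
    Nat.card {K : Subgroup G // Nat.card K = p ^ (b + 1)} +
      p * Nat.card {K : Subgroup G // Nat.card K = p ^ (b + 1) ∧ ¬ IsCyclic K} [MOD p ^ 2] := by
  classical
  haveI := Fintype.ofFinite (Subgroup G)
  haveI := Fintype.ofFinite {K : Subgroup G // Nat.card K = p ^ (b + 1)}
  rw [Nat.card_sigma]
  have h1 : ∀ K : {K : Subgroup G // Nat.card K = p ^ (b + 1)},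
      Nat.card {H : Subgroup K.1 // Nat.card H = p ^ b} ≡ 1 + (if IsCyclic K.1 then 0 else p) [MOD p ^ 2] := by
    intro K
    split_ifs with h
    · rw [WielandtCount.card_cyclic]
      rw [K.2, pow_succ]; exact dvd_mul_right _ _
    · exact card_index_p hp K.2 h
  have h2 : (∑ K : {K : Subgroup G // Nat.card K = p ^ (b + 1)}, Nat.card {H : Subgroup K.1 // Nat.card H = p ^ b}) ≡
      ∑ K : {K : Subgroup G // Nat.card K = p ^ (b + 1)}, (1 + (if IsCyclic K.1 then 0 else p)) [MOD p ^ 2] :=
    Nat.ModEq.sum (fun K _ => h1 K)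
  have h3 : ∑ K : {K : Subgroup G // Nat.card K = p ^ (b + 1)}, (1 + (if IsCyclic K.1 then 0 else p)) =
      Nat.card {K : Subgroup G // Nat.card K = p ^ (b + 1)} +
      p * Nat.card {K : Subgroup G // Nat.card K = p ^ (b + 1) ∧ ¬ IsCyclic K} := by
    rw [Finset.sum_add_distrib, Finset.sum_const, Finset.card_univ, smul_eq_mul, mul_one, Nat.card_eq_fintype_card]
    congr 1
    rw [Finset.sum_ite, Finset.sum_const_zero, zero_add, Finset.sum_const, smul_eq_mul, mul_comm]
    congr 1
    rw [← Fintype.card_subtype, ← Nat.card_eq_fintype_card]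
    exact Nat.card_congr (Equiv.subtypeSubtypeEquivSubtypeInter (fun K : Subgroup G => Nat.card K = p ^ (b + 1))
      (fun K : Subgroup G => ¬ IsCyclic K))
  rw [h3] at h2
  exact h2

/-- `N_b ≡ 1 + p n_{b+1} (mod p²)`, `n_{b+1}` the number of non-cyclic subgroups of order `p ^ (b + 1)`. -/
theorem main {G : Type u} [Group G] [Finite G] {p b : ℕ} (hp : p.Prime) (hd : p ^ (b + 1) ∣ Nat.card G) :
    Nat.card {H : Subgroup G // Nat.card H = p ^ b} ≡
      1 + p * Nat.card {K : Subgroup G // Nat.card K = p ^ (b + 1) ∧ ¬ IsCyclic K} [MOD p ^ 2] := by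
  obtain ⟨m, hm⟩ := hd
  have hpos : 0 < Nat.card G := Nat.card_pos
  have hm0 : 0 < m := Nat.pos_of_ne_zero (by rintro rfl; simp at hm; omega)
  have h1 := count hp hm
  have : NeZero (Nat.card G) := ⟨hpos.ne'⟩
  have hc : Nat.card (Multiplicative (ZMod (Nat.card G))) = Nat.card G := Nat.card_zmod _
  have h2 := count (G := Multiplicative (ZMod (Nat.card G))) (b := b) hp (hc.trans hm)
  have hdb : p ^ b ∣ p ^ (b + 1) := pow_dvd_pow p (Nat.le_succ b)
  rw [hc, WielandtCount.card_cyclic (k := p ^ (b + 1)) (by rw [hc, hm]; exact Dvd.intro m rfl),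
    WielandtCount.card_cyclic (k := p ^ b) (by rw [hc, hm]; exact hdb.trans (Dvd.intro m rfl))] at h2
  have hP : Nat.card (Σ K : {K : Subgroup (Multiplicative (ZMod (Nat.card G))) // Nat.card K = p ^ (b + 1)},
      {H : Subgroup K.1 // Nat.card H = p ^ b}) = 1 := by
    haveI := Fintype.ofFinite {K : Subgroup (Multiplicative (ZMod (Nat.card G))) // Nat.card K = p ^ (b + 1)}
    rw [Nat.card_sigma, Finset.sum_congr rfl (fun K _ => WielandtCount.card_cyclic (k := p ^ b) (by rw [K.2]; exact hdb)),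
      Finset.sum_const, Finset.card_univ, ← Nat.card_eq_fintype_card,
      WielandtCount.card_cyclic (k := p ^ (b + 1)) (by rw [hc, hm]; exact Dvd.intro m rfl), one_smul]
  rw [hP, mul_one, one_mul] at h2
  have h3 := pairs_modEq (G := G) (b := b) hp
  have h4 := WielandtCount.card_subgroups_modEq (G := G) p b hp (by rw [hm]; exact hdb.trans (Dvd.intro m rfl))
  set N1 := Nat.card {K : Subgroup G // Nat.card K = p ^ (b + 1)}
  set N := Nat.card {H : Subgroup G // Nat.card H = p ^ b}
  set c := Nat.card {K : Subgroup G // Nat.card K = p ^ (b + 1) ∧ ¬ IsCyclic K}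
  set P := Nat.card (Σ K : {K : Subgroup G // Nat.card K = p ^ (b + 1)}, {H : Subgroup K.1 // Nat.card H = p ^ b})
  -- the binomial coefficient
  obtain ⟨q, rfl⟩ : ∃ q, p = q + 1 := ⟨p - 1, by have := hp.pos; omega⟩
  obtain ⟨r, hr⟩ : ∃ r, (q + 1) * m = r + 1 := ⟨(q + 1) * m - 1, by
    have : 0 < (q + 1) * m := by positivity
    omega⟩
  have hu : ((q + 1) * m).choose (q + 1) = m * r.choose q := by
    have h5 := Nat.add_one_mul_choose_eq r q
    rw [← hr, mul_assoc, mul_comm _ (q + 1)] at h5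
    exact (Nat.eq_of_mul_eq_mul_left (Nat.succ_pos q) h5).symm
  have hu1 : r.choose q ≡ 1 [MOD q + 1] := by
    haveI := Fact.mk hp
    have h5 := Choose.choose_modEq_choose_mod_mul_choose_div_nat (n := r) (k := q) (p := q + 1)
    have h6 : r = q + (q + 1) * (m - 1) := by
      obtain ⟨n, rfl⟩ : ∃ n, m = n + 1 := ⟨m - 1, by omega⟩
      rw [Nat.add_sub_cancel]
      have : (q + 1) * (n + 1) = q + (q + 1) * n + 1 := by ring
      omega
    have h7 : r % (q + 1) = q := by
      rw [h6, Nat.add_mul_mod_self_left, Nat.mod_eq_of_lt (Nat.lt_succ_self q)]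
    have h8 : q % (q + 1) = q := Nat.mod_eq_of_lt (Nat.lt_succ_self q)
    have h9 : q / (q + 1) = 0 := Nat.div_eq_of_lt (Nat.lt_succ_self q)
    rwa [h7, h8, h9, Nat.choose_self, Nat.choose_zero_right, one_mul] at h5
  rw [hu] at h1 h2
  set u := r.choose q
  have h5 : m * u + m * P ≡ m * N1 + N * (m * u) [MOD (q + 1) ^ 2 * m] := by
    have h6 : (Nat.card G).choose ((q + 1) ^ (b + 1)) ≡ m * u [MOD (q + 1) ^ 2 * m] := by
      have h7 : (Nat.card G).choose ((q + 1) ^ (b + 1)) + m ≡ m * u + m [MOD (q + 1) ^ 2 * m] := by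
        rw [add_comm (m * u) m]; exact h2
      exact Nat.ModEq.add_right_cancel' m h7
    exact (h6.symm.add_right _).trans h1
  have h6 : u + P ≡ N1 + N * u [MOD (q + 1) ^ 2] := by
    have h7 : (u + P) * m ≡ (N1 + N * u) * m [MOD (q + 1) ^ 2 * m] := by
      convert h5 using 1 <;> ring
    exact Nat.ModEq.mul_right_cancel' hm0.ne' h7
  have h7 : u + (q + 1) * c ≡ N * u [MOD (q + 1) ^ 2] := by
    have h8 : N1 + (u + (q + 1) * c) ≡ N1 + N * u [MOD (q + 1) ^ 2] := by
      refine Nat.ModEq.trans ?_ h6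
      have := (h3.add_left u).symm
      convert this using 1; ring
    exact Nat.ModEq.add_left_cancel' N1 h8
  rw [← Int.natCast_modEq_iff, Int.modEq_iff_dvd] at h7 h4 hu1 ⊢
  obtain ⟨w, hw⟩ := h4
  obtain ⟨v, hv⟩ := hu1
  obtain ⟨z, hz⟩ := h7
  push_cast at hw hv hz ⊢
  refine ⟨w * v - z, ?_⟩
  have e1 : (N : ℤ) = 1 - (q + 1) * w := by linear_combination -hw
  have e2 : (u : ℤ) = 1 - (q + 1) * v := by linear_combination -hv
  rw [e1, e2] at hz
  rw [e1]
  linear_combination -hz

end Cfsg.Agent.Lib.H70Kulakoff
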