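import Mathlib

/-! # S4220: base definitions (helper70) -/

set_option autoImplicit false

namespace Cfsg.Agent.Lib.H70MT

open Equiv

variable {α : Type*} [Fintype α] [DecidableEq α]

/-- the setting: `P` Sylow `p`-subgroup of the pointwise stabilizer of the `r`-set `D` -/
structure Dt (G P : Subgroup (Perm α)) (D : Finset α) (k p r : ℕ) : Prop where
  pr : p.Prime
  k1 : 1 ≤ k
  kp : k < p
  kr : k < r
  card : Fintype.card α = k * p + r
  tr : MulAction.IsMultiplyPretransitive G α (r + 1)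
  PG : P ≤ G
  hP : IsPGroup p P
  hD : D.card = r
  fix : ∀ g ∈ P, ∀ x ∈ D, g x = x
  orb : ∀ x ∉ D, (MulAction.orbit P x).ncard = p
  wit : ∀ σ : Perm α, (∀ x ∉ D, σ x = x) → ∃ g ∈ G, g ∈ Subgroup.normalizer (P : Set (Perm α)) ∧
    ∀ x ∈ D, g x = σ x

/-- the normalizer of `P` in `G` -/
def NN (G P : Subgroup (Perm α)) : Subgroup (Perm α) := G ⊓ Subgroup.normalizer (P : Set (Perm α))

/-- elements of `N` fixing every `P`-orbit outside `D` -/
def KK (G P : Subgroup (Perm α)) (D : Finset α) : Subgroup (Perm α) where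
  carrier := {g | g ∈ NN G P ∧ ∀ x ∉ D, ∃ h ∈ P, g x = h x}
  one_mem' := ⟨Subgroup.one_mem _, fun x _ => ⟨1, P.one_mem, rfl⟩⟩
  mul_mem' := by
    rintro a b ⟨ha, ha'⟩ ⟨hb, hb'⟩
    refine ⟨Subgroup.mul_mem _ ha hb, fun x hx => ?_⟩
    obtain ⟨h, hh, e⟩ := hb' x hx
    obtain ⟨h', hh', e'⟩ := ha' x hx
    refine ⟨(a * h * a⁻¹) * h', P.mul_mem ((Subgroup.mem_normalizer_iff.1 ha.2 h).1 hh) hh', ?_⟩
    rw [Perm.mul_apply, e, Perm.mul_apply (a * h * a⁻¹), ← e']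
    simp
  inv_mem' := by
    rintro a ⟨ha, ha'⟩
    refine ⟨Subgroup.inv_mem _ ha, fun x hx => ?_⟩
    obtain ⟨h, hh, e⟩ := ha' x hx
    refine ⟨(a⁻¹ * h * a)⁻¹, P.inv_mem ?_, ?_⟩
    · have := (Subgroup.mem_normalizer_iff.1 (Subgroup.inv_mem _ ha.2) h).1 hh
      rwa [inv_inv] at this
    · have h1 : (a⁻¹ * h * a)⁻¹ = a⁻¹ * h⁻¹ * a := by simp [mul_assoc]
      rw [h1, Perm.mul_apply, Perm.mul_apply, e]
      exact congrArg (a⁻¹ : Perm α) (h.symm_apply_apply x).symm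

theorem mem_KK {G P : Subgroup (Perm α)} {D : Finset α} {g : Perm α} :
    g ∈ KK G P D ↔ g ∈ NN G P ∧ ∀ x ∉ D, ∃ h ∈ P, g x = h x := Iff.rfl

/-- elements of `K` centralizing `P` (translations on every orbit) -/
def TT (G P : Subgroup (Perm α)) (D : Finset α) : Subgroup (Perm α) := KK G P D ⊓ Subgroup.centralizer (P : Set (Perm α))

end Cfsg.Agent.Lib.H70MT
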