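import Cfsg.Agent.Lib.H70MT0

/-! # S4220, piece MT-42 (helper13) -/

set_option autoImplicit false
set_option linter.all false

namespace Cfsg.Agent.Lib.H70MT_42

open Equiv Cfsg.Agent.Lib.H70MT

variable {α : Type*} [Fintype α] [DecidableEq α] {G P : Subgroup (Perm α)} {D : Finset α} {k p r : ℕ}

theorem cyc {a b c : α} (hab : a ≠ b) (hac : a ≠ c) (hbc : b ≠ c) :
    (swap a c * swap a b : Perm α) ^ 3 = 1 ∧ (swap a c * swap a b : Perm α) a = b ∧
      (swap a c * swap a b : Perm α) b = c ∧ (swap a c * swap a b : Perm α) c = a ∧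
      ∀ x, x ≠ a → x ≠ b → x ≠ c → (swap a c * swap a b : Perm α) x = x := by
  refine ⟨?_, ?_, ?_, ?_, ?_⟩
  · have h := (Perm.isThreeCycle_swap_mul_swap_same hac hab hbc.symm).orderOf
    rw [← h, pow_orderOf_eq_one]
  · rw [Perm.mul_apply, swap_apply_left, swap_apply_of_ne_of_ne hab.symm hbc]
  · rw [Perm.mul_apply, swap_apply_right, swap_apply_left]
  · rw [Perm.mul_apply, swap_apply_of_ne_of_ne hac.symm hbc.symm, swap_apply_right]
  · intro x h1 h2 h3
    rw [Perm.mul_apply, swap_apply_of_ne_of_ne h1 h2, swap_apply_of_ne_of_ne h1 h3]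

theorem final_42 (h : Dt G P D 2 p 4)
    (hK : ∀ σ : Perm α, (∀ x ∉ D, σ x = x) → σ ^ 3 = 1 → ∃ g ∈ KK G P D, ∀ x ∈ D, g x = σ x)
    (hC : ∀ u ∈ KK G P D, ∀ v ∈ KK G P D, u * v * u⁻¹ * v⁻¹ ∈ TT G P D)
    (hA : ∀ u ∈ TT G P D, ∀ x ∉ D, (u ^ p) x = x)
    (hdbl : ∀ a b c d : α, a ≠ b → a ≠ c → a ≠ d → b ≠ c → b ≠ d → c ≠ d → swap a b * swap c d ∈ G → alternatingGroup α ≤ G) :
    alternatingGroup α ≤ G := by
  obtain ⟨a, b, c, d, hab, hac, had, hbc, hbd, hcd, hD⟩ :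
      ∃ a b c d : α, a ≠ b ∧ a ≠ c ∧ a ≠ d ∧ b ≠ c ∧ b ≠ d ∧ c ≠ d ∧ D = {a, b, c, d} := by
    obtain ⟨a, D1, ha, hD1, h1⟩ := Finset.card_eq_succ.1 h.hD
    obtain ⟨b, c, d, hbc, hbd, hcd, h2⟩ := Finset.card_eq_three.1 h1
    rw [h2] at ha
    simp only [Finset.mem_insert, Finset.mem_singleton, not_or] at ha
    exact ⟨a, b, c, d, ha.1, ha.2.1, ha.2.2, hbc, hbd, hcd, by rw [← hD1, h2]⟩
  have haD : a ∈ D := by rw [hD]; simp
  have hbD : b ∈ D := by rw [hD]; simp
  have hcD : c ∈ D := by rw [hD]; simp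
  have hdD : d ∈ D := by rw [hD]; simp
  have hout : ∀ x ∉ D, x ≠ a ∧ x ≠ b ∧ x ≠ c ∧ x ≠ d := by
    intro x hx
    refine ⟨?_, ?_, ?_, ?_⟩ <;> rintro rfl
    · exact hx haD
    · exact hx hbD
    · exact hx hcD
    · exact hx hdD
  obtain ⟨s3, sa, sb, sc, so⟩ := cyc hab hac hbc
  obtain ⟨t3, ta, tb, td, tt⟩ := cyc hab had hbd
  obtain ⟨g, hg, hgD⟩ := hK _ (fun x hx => so x (hout x hx).1 (hout x hx).2.1 (hout x hx).2.2.1) s3
  obtain ⟨g', hg', hgD'⟩ := hK _ (fun x hx => tt x (hout x hx).1 (hout x hx).2.1 (hout x hx).2.2.2) t3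
  have ga : g a = b := by rw [hgD a haD, sa]
  have gb : g b = c := by rw [hgD b hbD, sb]
  have gc : g c = a := by rw [hgD c hcD, sc]
  have gd : g d = d := by rw [hgD d hdD, so d had.symm hbd.symm hcd.symm]
  have ga' : g' a = b := by rw [hgD' a haD, ta]
  have gb' : g' b = d := by rw [hgD' b hbD, tb]
  have gd' : g' d = a := by rw [hgD' d hdD, td]
  have gc' : g' c = c := by rw [hgD' c hcD, tt c hac.symm hbc.symm hcd]
  have hu := hC g hg g' hg'
  set u := g * g' * g⁻¹ * g'⁻¹ with hu0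
  have key : ∀ x y z w : α, g' y = x → g z = y → g' z = w → u x = g w := by
    intro x y z w h1 h2 h3
    have e1 : g'⁻¹ x = y := by rw [Perm.inv_eq_iff_eq, h1]
    have e2 : g⁻¹ y = z := by rw [Perm.inv_eq_iff_eq, h2]
    rw [hu0, Perm.mul_apply, Perm.mul_apply, Perm.mul_apply, e1, e2, h3]
  have ua : u a = b := by rw [key a d d a gd' gd gd', ga]
  have ub : u b = a := by rw [key b a c c ga' gc gc', gc]
  have uc : u c = d := by rw [key c c b d gc' gb gb', gd]
  have ud : u d = c := by rw [key d b a b gb' ga ga', gb]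
  -- the `p`-th power
  have hpodd : ∃ m, p = 2 * m + 1 := by
    have h1 := h.pr.eq_two_or_odd'
    have h2 := h.kp
    rcases h1 with h1 | h1
    · omega
    · exact h1
  obtain ⟨m, hm⟩ := hpodd
  have hpow : ∀ x, (u ^ 2) x = x → u (u x) = x → (u ^ p) x = u x := by
    intro x h1 h2
    have h3 : ∀ j : ℕ, ((u ^ 2) ^ j) (u x) = u x := by
      intro j
      induction j with
      | zero => rfl
      | succ j ih =>
        rw [pow_succ, Perm.mul_apply]
        have : (u ^ 2) (u x) = u x := by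
          rw [pow_two, Perm.mul_apply, h2]
        rw [this, ih]
    rw [hm, pow_succ, pow_mul, Perm.mul_apply, h3]
  have hsq : ∀ x, u (u x) = x → (u ^ p) x = u x := fun x hx => hpow x (by rw [pow_two, Perm.mul_apply, hx]) hx
  have hup : u ^ p = swap a b * swap c d := by
    ext x
    by_cases hx : x ∈ D
    · rw [hD] at hx
      simp only [Finset.mem_insert, Finset.mem_singleton] at hx
      rcases hx with rfl | rfl | rfl | rfl
      · rw [hsq x (by rw [ua, ub]), ua, Perm.mul_apply, swap_apply_of_ne_of_ne hac had, swap_apply_left]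
      · rw [hsq x (by rw [ub, ua]), ub, Perm.mul_apply, swap_apply_of_ne_of_ne hbc hbd, swap_apply_right]
      · rw [hsq x (by rw [uc, ud]), uc, Perm.mul_apply, swap_apply_left, swap_apply_of_ne_of_ne had.symm hbd.symm]
      · rw [hsq x (by rw [ud, uc]), ud, Perm.mul_apply, swap_apply_right, swap_apply_of_ne_of_ne hac.symm hbc.symm]
    · obtain ⟨h1, h2, h3, h4⟩ := hout x hx
      rw [hA u hu x hx, Perm.mul_apply, swap_apply_of_ne_of_ne h3 h4, swap_apply_of_ne_of_ne h1 h2]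
  apply hdbl a b c d hab hac had hbc hbd hcd
  rw [← hup]
  exact pow_mem (show u ∈ G from hu.1.1.1) p

end Cfsg.Agent.Lib.H70MT_42
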