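import Cfsg.Agent.Lib.H70MT0

/-! S4220, piece MT-9r (helper85). -/

set_option autoImplicit false
set_option linter.all false
open Equiv Cfsg.Agent.Lib.H70MT

namespace Cfsg.Agent.Lib.H70MT_9r

variable {α : Type*} [Fintype α] [DecidableEq α] {G P : Subgroup (Perm α)} {D : Finset α} {k p r : ℕ}

theorem cube (h : Dt G P D 2 3 3) {g : Perm α} (hg : g ∈ P) : g ^ 3 = 1 := by
  classical
  ext y
  rw [Perm.one_apply]
  by_cases hy : y ∈ D
  · have h1 : g y = y := h.fix g hg y hy
    simp [pow_succ, Perm.mul_apply, h1]
  · obtain ⟨n, hn⟩ := h.hP ⟨g, hg⟩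
    have hn' : g ^ 3 ^ n = 1 := by
      have := congrArg Subtype.val hn
      simpa using this
    have hm : Function.minimalPeriod (fun x => g • x) y = Nat.card (MulAction.orbit (Subgroup.zpowers g) y) := by
      rw [MulAction.minimalPeriod_eq_card, Nat.card_eq_fintype_card]
    have hle : Nat.card (MulAction.orbit (Subgroup.zpowers g) y) ≤ 3 := by
      have h2 := h.orb y hy
      rw [← h2]
      show (MulAction.orbit (Subgroup.zpowers g) y).ncard ≤ _
      apply Set.ncard_le_ncard _ (Set.toFinite _)
      rintro _ ⟨⟨z, hz⟩, rfl⟩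
      exact ⟨⟨z, (Subgroup.zpowers_le.2 hg) hz⟩, rfl⟩
    rw [← hm] at hle
    have hd : Function.minimalPeriod (fun x => g • x) y ∣ 3 ^ n := by
      apply Function.IsPeriodicPt.minimalPeriod_dvd
      show ((fun x => g • x)^[3 ^ n]) y = y
      rw [smul_iterate, hn']
      exact one_smul _ _
    obtain ⟨j, -, hj⟩ := (Nat.dvd_prime_pow Nat.prime_three).1 hd
    have hj1 : j ≤ 1 := by
      by_contra hcon
      push Not at hcon
      have : 3 ^ 2 ≤ 3 ^ j := Nat.pow_le_pow_right (by norm_num) hcon
      omega
    have h3 : Function.minimalPeriod (fun x => g • x) y ∣ 3 := by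
      rw [hj]
      calc 3 ^ j ∣ 3 ^ 1 := pow_dvd_pow 3 hj1
        _ = 3 := by norm_num
    have h4 : Function.IsPeriodicPt (fun x => g • x) 3 y :=
      (Function.isPeriodicPt_minimalPeriod _ _).trans_dvd h3
    have h5 : ((fun x => g • x)^[3]) y = y := h4
    rw [smul_iterate] at h5
    exact h5

/-- the standard permutation -/
def s0 : Perm (Fin 9) := swap (0 : Fin 9) 1 * swap 1 2 * (swap 3 4 * swap 4 5)

theorem s0_type : s0.cycleType = Multiset.replicate 2 3 := by
  have h3 : s0 ^ 3 = 1 := by unfold s0; decide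
  have h1 : s0 ≠ 1 := by unfold s0; decide
  have ho : orderOf s0 = 3 := orderOf_eq_prime h3 h1
  obtain ⟨n, hn⟩ := Perm.cycleType_prime_order (σ := s0) (by rw [ho]; exact Nat.prime_three)
  have hs : s0.support.card = 6 := by unfold s0; decide
  rw [ho] at hn
  have h2 := Perm.sum_cycleType s0
  rw [hn, hs, Multiset.sum_replicate, smul_eq_mul] at h2
  have : n = 1 := by omega
  rw [hn, this]

-- MT-9r : reduction to degree 9
theorem final_323 (h : Dt G P D 2 3 3)
    (h9 : ∀ G : Subgroup (Perm (Fin 9)), MulAction.IsMultiplyPretransitive G (Fin 9) 4 →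
      swap (0 : Fin 9) 1 * swap 1 2 * (swap 3 4 * swap 4 5) ∈ G → alternatingGroup (Fin 9) ≤ G) : alternatingGroup α ≤ G := by
  classical
  have hc : Fintype.card α = 9 := by rw [h.card]
  have htr : MulAction.IsMultiplyPretransitive G α 4 := h.tr
  -- an element of order 3
  obtain ⟨x, hx⟩ : ∃ x, x ∉ D := by
    by_contra hcon
    push Not at hcon
    have : D = Finset.univ := Finset.eq_univ_of_forall hcon
    have h1 := h.hD
    rw [this, Finset.card_univ, hc] at h1
    omega
  obtain ⟨g, hg, hgx⟩ : ∃ g ∈ P, g x ≠ x := by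
    by_contra hcon
    push Not at hcon
    have h1 := h.orb x hx
    have h2 : MulAction.orbit P x = {x} := by
      ext y
      constructor
      · rintro ⟨⟨z, hz⟩, rfl⟩
        exact hcon z hz
      · rintro rfl
        exact MulAction.mem_orbit_self _
    rw [h2, Set.ncard_singleton] at h1
    omega
  have hg1 : g ≠ 1 := by
    rintro rfl
    exact hgx rfl
  have ho : orderOf g = 3 := orderOf_eq_prime (cube h hg) hg1
  obtain ⟨n, hn⟩ := Perm.cycleType_prime_order (σ := g) (by rw [ho]; exact Nat.prime_three)
  rw [ho] at hn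
  have hs : g.support.card ≤ 6 := by
    have h1 : g.support ⊆ Dᶜ := by
      intro y hy
      rw [Finset.mem_compl]
      intro hyD
      exact (Perm.mem_support.1 hy) (h.fix g hg y hyD)
    have h2 := Finset.card_le_card h1
    rw [Finset.card_compl, hc, h.hD] at h2
    exact h2
  have h2 := Perm.sum_cycleType g
  rw [hn, Multiset.sum_replicate, smul_eq_mul] at h2
  have hn1 : n = 0 ∨ n = 1 := by omega
  rcases hn1 with rfl | rfl
  · -- a three-cycle
    have h3 : g.IsThreeCycle := by
      show g.cycleType = {3}
      rw [hn]; rfl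
    have h4 : MulAction.IsMultiplyPretransitive G α 2 :=
      MulAction.isMultiplyPretransitive_of_le' (n := 4) (by norm_num) (by
        rw [ENat.card_eq_coe_fintype_card, hc]; norm_num)
    have h5 : MulAction.IsPreprimitive G α := MulAction.isPreprimitive_of_is_two_pretransitive h4
    exact Perm.alternatingGroup_le_of_isPreprimitive_of_isThreeCycle_mem h5 h3 (h.PG hg)
  · -- two three-cycles
    let e0 : α ≃ Fin 9 := Fintype.equivFinOfCardEq hc
    have hct : (e0.permCongr g).cycleType = s0.cycleType := by
      rw [s0_type]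
      have hord : orderOf (e0.permCongr g) = 3 := by
        rw [← ho]
        exact MulEquiv.orderOf_eq e0.permCongrHom g
      obtain ⟨m, hm⟩ := Perm.cycleType_prime_order (σ := e0.permCongr g) (by rw [hord]; exact Nat.prime_three)
      have hsup : (e0.permCongr g).support = g.support.map e0.toEmbedding := by
        ext y
        rw [Perm.mem_support, Finset.mem_map_equiv, Perm.mem_support, Equiv.permCongr_apply, Ne, Ne,
          ← Equiv.eq_symm_apply]
      have h5 := Perm.sum_cycleType (e0.permCongr g)
      rw [hm, hord, Multiset.sum_replicate, smul_eq_mul, hsup, Finset.card_map, ← h2] at h5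
      have : m = 1 := by omega
      rw [hm, hord, this]
    have hconj : IsConj (e0.permCongr g) s0 := Perm.isConj_iff_cycleType_eq.2 hct
    obtain ⟨π, hπ⟩ := isConj_iff.1 hconj
    let e : α ≃ Fin 9 := e0.trans π
    have heg : e.permCongr g = s0 := by
      rw [← hπ]
      ext y
      simp [e, Equiv.permCongr_apply]
    let G' : Subgroup (Perm (Fin 9)) := G.map (e.permCongrHom.toMonoidHom)
    have hG' : MulAction.IsMultiplyPretransitive G' (Fin 9) 4 := by
      constructor
      intro x y
      obtain ⟨t, ht⟩ := MulAction.exists_smul_eq G (x.trans e.symm.toEmbedding) (y.trans e.symm.toEmbedding)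
      refine ⟨⟨e.permCongr t, t, t.2, rfl⟩, ?_⟩
      ext i
      have h3 := DFunLike.congr_fun ht i
      have h4 : (t : Perm α) (e.symm (x i)) = e.symm (y i) := h3
      show ((e.permCongr t) (x i) : ℕ) = (y i : ℕ)
      rw [Equiv.permCongr_apply, h4, Equiv.apply_symm_apply]
    have h10 := h9 G' hG' ⟨g, h.PG hg, heg⟩
    intro t ht
    have h11 : e.permCongr t ∈ alternatingGroup (Fin 9) := by
      rw [Perm.mem_alternatingGroup, Perm.sign_permCongr]
      exact Perm.mem_alternatingGroup.1 ht
    obtain ⟨t', ht', htt⟩ := h10 h11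
    have h12 : t' = t := e.permCongr.injective htt
    rw [← h12]
    exact ht'

end Cfsg.Agent.Lib.H70MT_9r
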