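import Mathlib
import Cfsg.Agent.Lib.H70MT0

set_option autoImplicit false
set_option linter.all false

namespace Cfsg.Agent.Lib.H70MT_A

open Equiv Cfsg.Agent.Lib.H70MT

variable {α : Type*} [Fintype α] [DecidableEq α] {G P : Subgroup (Perm α)} {D : Finset α} {k p r : ℕ}

theorem mem_D (h : Dt G P D k p r) (x : α) : x ∈ D ↔ ∀ u ∈ P, u x = x := by
  constructor
  · intro hx u hu; exact h.fix u hu x hx
  · intro hx
    by_contra hD
    have h1 := h.orb x hD
    have h2 : MulAction.orbit P x = {x} := by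
      ext y
      rw [Set.mem_singleton_iff]
      constructor
      · rintro ⟨u, rfl⟩
        exact hx u.1 u.2
      · rintro rfl
        exact MulAction.mem_orbit_self y
    rw [h2, Set.ncard_singleton] at h1
    exact h.pr.one_lt.ne h1

theorem inv_D (h : Dt G P D k p r) {g : Perm α} (hg : g ∈ NN G P) (x : α) : g x ∈ D ↔ x ∈ D := by
  have hn := hg.2
  rw [mem_D h, mem_D h]
  constructor
  · intro hx u hu
    have h1 := hx (g * u * g⁻¹) ((Subgroup.mem_normalizer_iff.1 hn u).1 hu)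
    have h2 : (g * u * g⁻¹) (g x) = g (u x) := by simp
    rw [h2] at h1
    exact g.injective h1
  · intro hx v hv
    have h1 := hx (g⁻¹ * v * g) ((Subgroup.mem_normalizer_iff''.1 hn v).1 hv)
    have h2 : g ((g⁻¹ * v * g) x) = v (g x) := by simp
    rw [← h2, h1]

theorem pow_P (h : Dt G P D k p r) {a : Perm α} (ha : a ∈ P) (x : α) (hx : x ∉ D) : (a ^ p) x = x := by
  obtain ⟨m, hm⟩ := h.hP ⟨a, ha⟩
  have hm' : a ^ p ^ m = 1 := congrArg Subtype.val hm
  have h1 : Function.minimalPeriod (fun y : α => a • y) x ∣ p ^ m := by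
    rw [← MulAction.pow_smul_eq_iff_minimalPeriod_dvd, hm', one_smul]
  obtain ⟨j, hj, hj'⟩ := (Nat.dvd_prime_pow h.pr).1 h1
  have h2 : Function.minimalPeriod (fun y : α => a • y) x ≤ p := by
    classical
    rw [MulAction.minimalPeriod_eq_card]
    rw [← h.orb x hx]
    rw [← Nat.card_eq_fintype_card, Nat.card_coe_set_eq]
    apply Set.ncard_le_ncard _ (Set.toFinite _)
    rintro _ ⟨u, rfl⟩
    obtain ⟨u, hu⟩ := u
    exact ⟨⟨u, (Subgroup.zpowers_le.2 ha) hu⟩, rfl⟩
  have h3 : Function.minimalPeriod (fun y : α => a • y) x ∣ p := by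
    rw [hj']
    rw [hj'] at h2
    have : j ≤ 1 := by
      by_contra hlt
      push Not at hlt
      have h4 : p ^ 2 ≤ p ^ j := Nat.pow_le_pow_right h.pr.pos hlt
      have h5 := h.pr.one_lt
      nlinarith
    exact (pow_dvd_pow p this).trans (by rw [pow_one])
  exact MulAction.pow_smul_eq_iff_minimalPeriod_dvd.2 h3

theorem pow_out (h : Dt G P D k p r) {u : Perm α} (hu : u ∈ TT G P D) (x : α) (hx : x ∉ D) : (u ^ p) x = x := by
  obtain ⟨a, ha, hax⟩ := hu.1.2 x hx
  have hc : ∀ v ∈ P, v * u = u * v := fun v hv => Subgroup.mem_centralizer_iff.1 hu.2 v hv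
  have key : ∀ i : ℕ, (u ^ i) x = (a ^ i) x := by
    intro i
    induction i with
    | zero => simp
    | succ i ih =>
      rw [pow_succ', pow_succ, Perm.mul_apply, Perm.mul_apply, ih, ← hax]
      have := hc (a ^ i) (P.pow_mem ha i)
      exact (congrArg (fun f : Perm α => f x) this).symm
  rw [key p]
  exact pow_P h ha x hx

theorem comm_P (h : Dt G P D k p r) {a b : Perm α} (ha : a ∈ P) (hb : b ∈ P) (x : α) (hx : x ∉ D) :
    (a * b) x = (b * a) x := by
  haveI : Fact p.Prime := ⟨h.pr⟩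
  have h1 : (MulAction.stabilizer P x).index = p := by
    rw [MulAction.index_stabilizer, h.orb x hx]
  obtain ⟨m, hm⟩ := (IsPGroup.iff_card).1 h.hP
  have hm0 : m ≠ 0 := by
    rintro rfl
    rw [pow_zero] at hm
    have h2 := Subgroup.index_dvd_card (MulAction.stabilizer P x)
    rw [h1, hm] at h2
    exact h.pr.one_lt.ne' (Nat.dvd_one.1 h2)
  have hnorm : (MulAction.stabilizer P x).Normal := by
    apply Subgroup.normal_of_index_eq_minFac_card
    rw [h1, hm, h.pr.pow_minFac hm0]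
  have hcard : Nat.card (P ⧸ MulAction.stabilizer P x) = p := h1
  haveI : IsCyclic (P ⧸ MulAction.stabilizer P x) := isCyclic_of_prime_card hcard
  have hcomm : ((⟨a, ha⟩ : P) : P ⧸ MulAction.stabilizer P x) * ((⟨b, hb⟩ : P) : P ⧸ MulAction.stabilizer P x) =
      ((⟨b, hb⟩ : P) : P ⧸ MulAction.stabilizer P x) * ((⟨a, ha⟩ : P) : P ⧸ MulAction.stabilizer P x) :=
    (IsCyclic.commGroup (α := P ⧸ MulAction.stabilizer P x)).mul_comm _ _
  have h3 : ((⟨b, hb⟩ * ⟨a, ha⟩ : P)⁻¹ * (⟨a, ha⟩ * ⟨b, hb⟩ : P)) ∈ MulAction.stabilizer P x := by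
    rw [← QuotientGroup.eq]
    exact hcomm.symm
  have h4 : ((b * a)⁻¹ * (a * b)) x = x := h3
  have h4' : ((b * a)⁻¹ : Perm α) ((a * b) x) = x := h4
  have h5 := congrArg (b * a) h4'
  have h6 : (b * a) (((b * a)⁻¹ : Perm α) ((a * b) x)) = (a * b) x := (b * a).apply_symm_apply ((a * b) x)
  exact h6.symm.trans h5

theorem comm_out (h : Dt G P D k p r) {u v : Perm α} (hu : u ∈ TT G P D) (hv : v ∈ TT G P D) (x : α) (hx : x ∉ D) :
    (u * v) x = (v * u) x := by
  obtain ⟨a, ha, hax⟩ := hu.1.2 x hx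
  obtain ⟨b, hb, hbx⟩ := hv.1.2 x hx
  have hcu : ∀ w ∈ P, w * u = u * w := fun w hw => Subgroup.mem_centralizer_iff.1 hu.2 w hw
  have hcv : ∀ w ∈ P, w * v = v * w := fun w hw => Subgroup.mem_centralizer_iff.1 hv.2 w hw
  have e1 : (u * v) x = (b * a) x := by
    rw [Perm.mul_apply, Perm.mul_apply, hbx, ← hax]
    exact (congrArg (fun f : Perm α => f x) (hcu b hb)).symm
  have e2 : (v * u) x = (a * b) x := by
    rw [Perm.mul_apply, Perm.mul_apply, hax, ← hbx]
    exact (congrArg (fun f : Perm α => f x) (hcv a ha)).symm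
  rw [e1, e2]
  exact (comm_P h ha hb x hx).symm

end Cfsg.Agent.Lib.H70MT_A
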