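import Cfsg.Agent.Lib.H70MT0

set_option autoImplicit false

namespace Cfsg.Agent.Lib.H70MT_B

open Equiv Cfsg.Agent.Lib.H70MT

variable {α : Type*} [Fintype α] [DecidableEq α] {G P : Subgroup (Perm α)} {D : Finset α} {k p r : ℕ}

theorem inv_D' (h : Dt G P D k p r) (hkp : 1 < p) {g : Perm α}
    (hg : g ∈ NN G P) (x : α) : g x ∈ D ↔ x ∈ D := by
  have fixD : ∀ y : α, y ∈ D ↔ ∀ u ∈ P, u y = y := by
    intro y
    constructor
    · intro hy u hu
      exact h.fix u hu y hy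
    · intro hy
      by_contra hyD
      have h1 := h.orb y hyD
      have h2 : MulAction.orbit P y = {y} := by
        ext z
        constructor
        · rintro ⟨u, rfl⟩
          exact hy u.1 u.2
        · intro hz
          rw [Set.mem_singleton_iff.mp hz]
          exact MulAction.mem_orbit_self y
      rw [h2, Set.ncard_singleton] at h1
      omega
  rw [fixD, fixD]
  have hn := hg.2
  constructor
  · intro h1 u hu
    have h2 : g * u * g⁻¹ ∈ P := (Subgroup.mem_normalizer_iff.1 hn u).1 hu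
    have h3 := h1 _ h2
    have h4 : (g * u * g⁻¹) (g x) = g (u x) := by simp [Perm.mul_apply]
    rw [h4] at h3
    exact g.injective h3
  · intro h1 u hu
    have h2 : g⁻¹ * u * g ∈ P := by
      have := (Subgroup.mem_normalizer_iff.1 (Subgroup.inv_mem _ hn) u).1 hu
      rwa [inv_inv] at this
    have h3 := h1 _ h2
    have h4 : u (g x) = g ((g⁻¹ * u * g) x) := by simp [Perm.mul_apply]
    rw [h4, h3]

open scoped Classical in
theorem cyc_aux' {β : Type*} [Fintype β] (e : Perm (Fin 5)) (ι : Fin 5 ↪ β) :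
    (Perm.viaEmbedding e ι).cycleType = e.cycleType := by
  unfold Perm.viaEmbedding
  convert Perm.cycleType_extendDomain (Equiv.ofInjective ι.1 ι.2) (g := e)

theorem cyc_aux {β : Type*} [Fintype β] [DecidableEq β] (e : Perm (Fin 5)) (ι : Fin 5 ↪ β) :
    (Perm.viaEmbedding e ι).cycleType = e.cycleType := by
  rw [← cyc_aux' e ι]
  congr

theorem five_aux : ((swap 0 1 * swap 0 2) * (swap 0 3 * swap 0 4) * (swap 0 1 * swap 0 2)⁻¹ *
    (swap 0 3 * swap 0 4)⁻¹) * ((swap 0 1 * swap 0 2) * (swap 0 3 * swap 0 1) *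
    (swap 0 1 * swap 0 2)⁻¹ * (swap 0 3 * swap 0 1)⁻¹) *
    ((swap 0 1 * swap 0 2) * (swap 0 3 * swap 0 4) * (swap 0 1 * swap 0 2)⁻¹ *
    (swap 0 3 * swap 0 4)⁻¹)⁻¹ * ((swap 0 1 * swap 0 2) * (swap 0 3 * swap 0 1) *
    (swap 0 1 * swap 0 2)⁻¹ * (swap 0 3 * swap 0 1)⁻¹)⁻¹ = (swap 0 2 * swap 0 4 : Perm (Fin 5)) := by
  decide +kernel

theorem final_big (h : Dt G P D k p r) (hr : 5 ≤ r)
    (hK : ∀ σ : Perm α, (∀ x ∉ D, σ x = x) → σ.IsThreeCycle → ∃ g ∈ KK G P D, ∀ x ∈ D, g x = σ x)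
    (hC : ∀ u ∈ KK G P D, ∀ v ∈ KK G P D, u * v * u⁻¹ * v⁻¹ ∈ TT G P D)
    (hA : ∀ u ∈ TT G P D, ∀ v ∈ TT G P D, ∀ x ∉ D, (u * v) x = (v * u) x) : alternatingGroup α ≤ G := by
  classical
  -- five points
  have hcard : Fintype.card (Fin 5) ≤ Fintype.card D := by
    rw [Fintype.card_fin, Fintype.card_coe, h.hD]; exact hr
  obtain ⟨ι0⟩ := Function.Embedding.nonempty_of_card_le hcard
  let ι : Fin 5 ↪ α := ι0.trans (Function.Embedding.subtype _)
  have hιD : ∀ i, ι i ∈ D := fun i => (ι0 i).2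
  let φ : Perm (Fin 5) →* Perm α := Perm.viaEmbeddingHom ι
  have hφout : ∀ (e : Perm (Fin 5)) (x : α), x ∉ D → φ e x = x := by
    intro e x hx
    apply Perm.viaEmbedding_apply_of_notMem
    rintro ⟨i, rfl⟩
    exact hx (hιD i)
  have hφD : ∀ (e : Perm (Fin 5)) (x : α), x ∈ D → φ e x ∈ D := by
    intro e x hx
    by_contra hcon
    have h1 := hφout e _ hcon
    have h2 := (φ e).injective h1
    rw [h2] at hcon
    exact hcon hx
  have hφ3 : ∀ e : Perm (Fin 5), e.IsThreeCycle → (φ e).IsThreeCycle := by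
    intro e he
    have h1 : (φ e).cycleType = e.cycleType := by
      exact cyc_aux e ι
    change (φ e).cycleType = {3}
    rw [h1]
    exact he
  have h1p : 1 < p := h.pr.one_lt
  have hKN : ∀ g ∈ KK G P D, ∀ x : α, g x ∈ D ↔ x ∈ D := fun g hg x => inv_D' h h1p hg.1 x
  -- a commutator computed on D
  have hcomm : ∀ (g g' : Perm α) (e e' : Perm (Fin 5)), (∀ x : α, g x ∈ D ↔ x ∈ D) →
      (∀ x : α, g' x ∈ D ↔ x ∈ D) → (∀ x ∈ D, g x = φ e x) → (∀ x ∈ D, g' x = φ e' x) →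
      ∀ x ∈ D, (g * g' * g⁻¹ * g'⁻¹) x = φ (e * e' * e⁻¹ * e'⁻¹) x := by
    intro g g' e e' hg hg' h1 h2 x hx
    -- inverses
    have inv1 : ∀ (u : Perm α) (a : Perm (Fin 5)), (∀ x : α, u x ∈ D ↔ x ∈ D) →
        (∀ x ∈ D, u x = φ a x) → ∀ x ∈ D, u⁻¹ x = φ a⁻¹ x := by
      intro u a hu hua x hx
      have hy : φ a⁻¹ x ∈ D := hφD _ _ hx
      rw [Perm.inv_eq_iff_eq, hua _ hy, ← Perm.mul_apply, ← map_mul]
      simp
    have a1 := inv1 g' e' hg' h2 x hx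
    have m1 : φ e'⁻¹ x ∈ D := hφD _ _ hx
    have a2 := inv1 g e hg h1 _ m1
    have m2 : φ e⁻¹ (φ e'⁻¹ x) ∈ D := hφD _ _ m1
    have a3 := h2 _ m2
    have m3 : φ e' (φ e⁻¹ (φ e'⁻¹ x)) ∈ D := hφD _ _ m2
    have a4 := h1 _ m3
    simp only [Perm.mul_apply, map_mul]
    rw [a1, a2, a3, a4]
  let tc : Fin 5 → Fin 5 → Fin 5 → Perm (Fin 5) := fun a b c => swap a b * swap a c
  have htc : ∀ a b c : Fin 5, a ≠ b → a ≠ c → b ≠ c → (tc a b c).IsThreeCycle :=
    fun a b c h1 h2 h3 => Perm.isThreeCycle_swap_mul_swap_same h1 h2 h3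
  have getT : ∀ e e' : Perm (Fin 5), e.IsThreeCycle → e'.IsThreeCycle →
      ∃ t ∈ TT G P D, ∀ x ∈ D, t x = φ (e * e' * e⁻¹ * e'⁻¹) x := by
    intro e e' he he'
    obtain ⟨g, hg, h1⟩ := hK (φ e) (hφout e) (hφ3 e he)
    obtain ⟨g', hg', h2⟩ := hK (φ e') (hφout e') (hφ3 e' he')
    exact ⟨_, hC g hg g' hg', hcomm g g' e e' (hKN g hg) (hKN g' hg') h1 h2⟩
  obtain ⟨t, ht, ht1⟩ := getT (tc 0 1 2) (tc 0 3 4) (htc _ _ _ (by decide) (by decide) (by decide))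
    (htc _ _ _ (by decide) (by decide) (by decide))
  obtain ⟨t', ht', ht1'⟩ := getT (tc 0 1 2) (tc 0 3 1) (htc _ _ _ (by decide) (by decide) (by decide))
    (htc _ _ _ (by decide) (by decide) (by decide))
  set e1 := tc 0 1 2 * tc 0 3 4 * (tc 0 1 2)⁻¹ * (tc 0 3 4)⁻¹ with he1
  set e2 := tc 0 1 2 * tc 0 3 1 * (tc 0 1 2)⁻¹ * (tc 0 3 1)⁻¹ with he2
  have hfin : e1 * e2 * e1⁻¹ * e2⁻¹ = swap 0 2 * swap 0 4 := by
    rw [he1, he2]
    exact five_aux
  have hu : t * t' * t⁻¹ * t'⁻¹ = φ (e1 * e2 * e1⁻¹ * e2⁻¹) := by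
    ext x
    by_cases hx : x ∈ D
    · exact hcomm t t' e1 e2 (hKN t ht.1) (hKN t' ht'.1) ht1 ht1' x hx
    · rw [hφout _ x hx]
      have hz : (t⁻¹ * t'⁻¹) x ∉ D := by
        intro hz
        apply hx
        have h1 := (hKN t ht.1 _).mpr hz
        have h2 := (hKN t' ht'.1 _).mpr h1
        simpa [Perm.mul_apply] using h2
      have h3 := hA t ht t' ht' _ hz
      calc (t * t' * t⁻¹ * t'⁻¹) x = (t * t') ((t⁻¹ * t'⁻¹) x) := by simp [Perm.mul_apply]
        _ = (t' * t) ((t⁻¹ * t'⁻¹) x) := h3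
        _ = x := by simp [Perm.mul_apply]
  have h3c : (t * t' * t⁻¹ * t'⁻¹).IsThreeCycle := by
    rw [hu, hfin]
    apply hφ3
    exact Perm.isThreeCycle_swap_mul_swap_same (by decide) (by decide) (by decide)
  have hG1 : t ∈ G := ht.1.1.1
  have hG2 : t' ∈ G := ht'.1.1.1
  have hmem : t * t' * t⁻¹ * t'⁻¹ ∈ G :=
    G.mul_mem (G.mul_mem (G.mul_mem hG1 hG2) (G.inv_mem hG1)) (G.inv_mem hG2)
  have h2t : MulAction.IsMultiplyPretransitive G α 2 := by
    have := h.tr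
    refine MulAction.isMultiplyPretransitive_of_le (n := r + 1) (by omega) ?_
    rw [Nat.card_eq_fintype_card, h.card]
    have h1 : 1 ≤ k * p := Nat.mul_pos h.k1 h.pr.pos
    omega
  have hprim := MulAction.isPreprimitive_of_is_two_pretransitive h2t
  exact Perm.alternatingGroup_le_of_isPreprimitive_of_isThreeCycle_mem hprim h3c hmem

end Cfsg.Agent.Lib.H70MT_B
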