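import Cfsg.Agent.Lib.H70MT0

/-! Piece MT-C of S4220 (helper30). -/

set_option autoImplicit false
open Equiv Cfsg.Agent.Lib.H70MT

namespace Cfsg.Agent.Lib.H70MT_C

variable {α : Type*} [Fintype α] [DecidableEq α] {G P : Subgroup (Perm α)} {D : Finset α} {k p r : ℕ}

theorem orb_notMem (h : Dt G P D k p r) {x y : α} (hx : x ∉ D) (hy : y ∈ MulAction.orbit P x) : y ∉ D := by
  obtain ⟨g, rfl⟩ := hy
  intro hD
  have h1 : (g : Perm α)⁻¹ ((g : Perm α) x) = (g : Perm α) x := h.fix _ (P.inv_mem g.2) _ hD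
  have h0 : (g : Perm α)⁻¹ ((g : Perm α) x) = x := (g : Perm α).symm_apply_apply x
  rw [h0] at h1
  apply hx
  rw [h1]
  exact hD

theorem kk_orb (h : Dt G P D k p r) {g : Perm α} (hg : g ∈ KK G P D) {x y : α} (hx : x ∉ D)
    (hy : y ∈ MulAction.orbit P x) : g y ∈ MulAction.orbit P x := by
  obtain ⟨t, ht, hty⟩ := (mem_KK.1 hg).2 y (orb_notMem h hx hy)
  rw [hty]
  obtain ⟨s, rfl⟩ := hy
  exact ⟨⟨t, ht⟩ * s, rfl⟩

/-- elements of `P` fixing `x` fix its orbit -/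
theorem fix_orb (h : Dt G P D k p r) {x : α} (hx : x ∉ D) {t : Perm α} (ht : t ∈ P) (htx : t x = x) {y : α}
    (hy : y ∈ MulAction.orbit P x) : t y = y := by
  classical
  have hpr : Fact p.Prime := ⟨h.pr⟩
  by_cases hyx : y = x
  · rw [hyx, htx]
  have hS : IsPGroup p (Subgroup.zpowers (⟨t, ht⟩ : P)) := h.hP.to_subgroup _
  obtain ⟨n, hn⟩ := hS.card_orbit y
  have hsub : MulAction.orbit (Subgroup.zpowers (⟨t, ht⟩ : P)) y ⊆ MulAction.orbit P x \ {x} := by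
    rintro _ ⟨⟨s, hs⟩, rfl⟩
    refine ⟨?_, ?_⟩
    · obtain ⟨s', rfl⟩ := hy
      exact ⟨s * s', rfl⟩
    · intro hxx
      apply hyx
      have hsx : (s : Perm α) x = x := by
        obtain ⟨i, rfl⟩ := hs
        have hst : (⟨t, ht⟩ : P) ∈ MulAction.stabilizer P x := htx
        exact (MulAction.stabilizer P x).zpow_mem hst i
      have h1 : (s : Perm α) y = x := hxx
      exact (s : Perm α).injective (h1.trans hsx.symm)
  have hlt : Nat.card (MulAction.orbit (Subgroup.zpowers (⟨t, ht⟩ : P)) y) < p := by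
    rw [Nat.card_coe_set_eq]
    refine lt_of_le_of_lt (Set.ncard_le_ncard hsub (Set.toFinite _)) ?_
    rw [← h.orb x hx]
    apply Set.ncard_lt_ncard _ (Set.toFinite _)
    refine ⟨Set.diff_subset, fun hh => ?_⟩
    exact (hh (MulAction.mem_orbit_self x)).2 rfl
  have hn0 : n = 0 := by
    by_contra hne
    rw [hn] at hlt
    have := Nat.le_self_pow hne p
    omega
  rw [hn0, pow_zero, Nat.card_coe_set_eq, Set.ncard_eq_one] at hn
  obtain ⟨z, hz⟩ := hn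
  have h1 : y ∈ MulAction.orbit (Subgroup.zpowers (⟨t, ht⟩ : P)) y := MulAction.mem_orbit_self y
  have h2 : t y ∈ MulAction.orbit (Subgroup.zpowers (⟨t, ht⟩ : P)) y :=
    ⟨⟨⟨t, ht⟩, Subgroup.mem_zpowers _⟩, rfl⟩
  rw [hz, Set.mem_singleton_iff] at h1 h2
  rw [h2, h1]

theorem agree (h : Dt G P D k p r) {x : α} (hx : x ∉ D) {s t : Perm α} (hs : s ∈ P) (ht : t ∈ P) (hst : s x = t x) {y : α}
    (hy : y ∈ MulAction.orbit P x) : s y = t y := by
  have h1 := fix_orb h hx (P.mul_mem (P.inv_mem ht) hs) (by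
    rw [Perm.mul_apply, hst]; exact t.symm_apply_apply x) hy
  rw [Perm.mul_apply] at h1
  have h2 := congrArg t h1
  rw [show t (t⁻¹ (s y)) = s y from t.apply_symm_apply (s y)] at h2
  exact h2

/-- `P` acts on an orbit through powers of one element -/
theorem exists_gen (h : Dt G P D k p r) {x : α} (hx : x ∉ D) :
    ∃ a ∈ P, ∀ t ∈ P, ∃ i : ℕ, ∀ y ∈ MulAction.orbit P x, t y = (a ^ i) y := by
  classical
  have hpr : Fact p.Prime := ⟨h.pr⟩
  obtain ⟨a, ha, hax⟩ : ∃ a ∈ P, a x ≠ x := by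
    by_contra hcon
    push Not at hcon
    have h1 : MulAction.orbit P x = {x} := by
      ext y
      rw [Set.mem_singleton_iff]
      constructor
      · rintro ⟨g, rfl⟩
        exact hcon _ g.2
      · rintro rfl
        exact MulAction.mem_orbit_self _
    have h2 := h.orb x hx
    rw [h1, Set.ncard_singleton] at h2
    exact h.pr.one_lt.ne h2
  refine ⟨a, ha, fun t ht => ?_⟩
  have hS : IsPGroup p (Subgroup.zpowers (⟨a, ha⟩ : P)) := h.hP.to_subgroup _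
  obtain ⟨n, hn⟩ := hS.card_orbit x
  have hsub : MulAction.orbit (Subgroup.zpowers (⟨a, ha⟩ : P)) x ⊆ MulAction.orbit P x := by
    rintro _ ⟨⟨s, hs⟩, rfl⟩
    exact ⟨s, rfl⟩
  have hn0 : n ≠ 0 := by
    rintro rfl
    rw [pow_zero, Nat.card_coe_set_eq, Set.ncard_eq_one] at hn
    obtain ⟨z, hz⟩ := hn
    have h1 : x ∈ MulAction.orbit (Subgroup.zpowers (⟨a, ha⟩ : P)) x := MulAction.mem_orbit_self x
    have h2 : a x ∈ MulAction.orbit (Subgroup.zpowers (⟨a, ha⟩ : P)) x :=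
      ⟨⟨⟨a, ha⟩, Subgroup.mem_zpowers _⟩, rfl⟩
    rw [hz, Set.mem_singleton_iff] at h1 h2
    exact hax (by rw [h2, ← h1])
  have heq : MulAction.orbit (Subgroup.zpowers (⟨a, ha⟩ : P)) x = MulAction.orbit P x := by
    apply Set.eq_of_subset_of_ncard_le hsub _ (Set.toFinite _)
    rw [h.orb x hx, ← Nat.card_coe_set_eq, hn]
    exact Nat.le_self_pow hn0 p
  have h3 : t x ∈ MulAction.orbit (Subgroup.zpowers (⟨a, ha⟩ : P)) x := by
    rw [heq]
    exact ⟨⟨t, ht⟩, rfl⟩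
  obtain ⟨⟨s, hs⟩, hst⟩ := h3
  rw [← mem_powers_iff_mem_zpowers] at hs
  obtain ⟨i, rfl⟩ := hs
  refine ⟨i, fun y hy => agree h hx ht (P.pow_mem ha i) ?_ hy⟩
  exact hst.symm

theorem pow_agree (O : Set α) {f g : Perm α} (hfg : ∀ y ∈ O, f y = g y) (hO : ∀ y ∈ O, f y ∈ O) (n : ℕ) :
    ∀ y ∈ O, (f ^ n) y = (g ^ n) y ∧ (f ^ n) y ∈ O := by
  induction n with
  | zero => intro y hy; simpa using hy
  | succ n ih =>
    intro y hy
    obtain ⟨h1, h2⟩ := ih y hy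
    rw [pow_succ', pow_succ', Perm.mul_apply, Perm.mul_apply]
    exact ⟨by rw [hfg _ h2, h1], hO _ h2⟩

theorem conj_mem (h : Dt G P D k p r) {g t : Perm α} (hg : g ∈ KK G P D) (ht : t ∈ P) : g * t * g⁻¹ ∈ P :=
  (Subgroup.mem_normalizer_iff.1 (mem_KK.1 hg).1.2 t).1 ht

theorem conj_pow_agree (h : Dt G P D k p r) {x : α} (hx : x ∉ D) {a g : Perm α} (ha : a ∈ P)
    (hgen : ∀ t ∈ P, ∃ i : ℕ, ∀ y ∈ MulAction.orbit P x, t y = (a ^ i) y) (hg : g ∈ KK G P D) :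
    ∃ m : ℕ, ∀ i : ℕ, ∀ y ∈ MulAction.orbit P x, (g * a ^ i * g⁻¹) y = (a ^ (m * i)) y := by
  obtain ⟨m, hm⟩ := hgen _ (conj_mem h hg ha)
  refine ⟨m, fun i y hy => ?_⟩
  have h1 : g * a ^ i * g⁻¹ = (g * a * g⁻¹) ^ i := by rw [conj_pow]
  rw [h1, pow_mul]
  refine (pow_agree (MulAction.orbit P x) hm (fun z hz => ?_) i y hy).1
  obtain ⟨s, rfl⟩ := hz
  exact ⟨⟨_, conj_mem h hg ha⟩ * s, rfl⟩

-- MT-C
theorem comm_KK (h : Dt G P D k p r) {u v : Perm α} (hu : u ∈ KK G P D) (hv : v ∈ KK G P D) :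
    u * v * u⁻¹ * v⁻¹ ∈ TT G P D := by
  have hc : u * v * u⁻¹ * v⁻¹ ∈ KK G P D :=
    mul_mem (mul_mem (mul_mem hu hv) (inv_mem hu)) (inv_mem hv)
  refine ⟨hc, ?_⟩
  refine Subgroup.mem_centralizer_iff.2 ?_
  intro t ht
  have key : (u * v * u⁻¹ * v⁻¹) * t * (u * v * u⁻¹ * v⁻¹)⁻¹ = t := by
    ext x
    by_cases hx : x ∈ D
    · rw [h.fix _ (conj_mem h hc ht) x hx, h.fix t ht x hx]
    obtain ⟨a, ha, hgen⟩ := exists_gen h hx
    obtain ⟨m, hm⟩ := conj_pow_agree h hx ha hgen hu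
    obtain ⟨n, hn⟩ := conj_pow_agree h hx ha hgen hv
    have hself : x ∈ MulAction.orbit P x := MulAction.mem_orbit_self x
    have e1 : ∀ i : ℕ, ∀ y ∈ MulAction.orbit P x, ((u * v) * a ^ i * (u * v)⁻¹) y = (a ^ (m * (n * i))) y := by
      intro i y hy
      rw [← hm (n * i) y hy]
      have h1 : (u * v) * a ^ i * (u * v)⁻¹ = u * (v * a ^ i * v⁻¹) * u⁻¹ := by group
      rw [h1, Perm.mul_apply, Perm.mul_apply, hn i _ (kk_orb h (inv_mem hu) hx hy), Perm.mul_apply, Perm.mul_apply]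
    have e2 : ∀ i : ℕ, ∀ y ∈ MulAction.orbit P x, ((v * u) * a ^ i * (v * u)⁻¹) y = (a ^ (n * (m * i))) y := by
      intro i y hy
      rw [← hn (m * i) y hy]
      have h1 : (v * u) * a ^ i * (v * u)⁻¹ = v * (u * a ^ i * u⁻¹) * v⁻¹ := by group
      rw [h1, Perm.mul_apply, Perm.mul_apply, hm i _ (kk_orb h (inv_mem hv) hx hy), Perm.mul_apply, Perm.mul_apply]
    have hvu : v * u ∈ KK G P D := mul_mem hv hu
    have huv : u * v ∈ KK G P D := mul_mem hu hv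
    obtain ⟨s, hs⟩ : ∃ s, s = (v * u)⁻¹ * t * (v * u) := ⟨_, rfl⟩
    have hsP : s ∈ P := by
      have := conj_mem h (inv_mem hvu) ht
      rw [inv_inv] at this
      rw [hs]; exact this
    obtain ⟨i, hi⟩ := hgen s hsP
    have h1 : (u * v * u⁻¹ * v⁻¹) * t * (u * v * u⁻¹ * v⁻¹)⁻¹ = (u * v) * s * (u * v)⁻¹ := by
      rw [hs]; simp only [mul_inv_rev, inv_inv, mul_assoc]
    have h2 : (v * u) * s * (v * u)⁻¹ = t := by
      rw [hs]; simp only [mul_inv_rev, inv_inv, mul_assoc, mul_inv_cancel_left, inv_mul_cancel_left, mul_inv_cancel, mul_one]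
    have h3 : ((u * v) * s * (u * v)⁻¹) x = ((u * v) * a ^ i * (u * v)⁻¹) x :=
      congrArg (u * v) (hi _ (kk_orb h (inv_mem huv) hx hself))
    have h4 : ((v * u) * s * (v * u)⁻¹) x = ((v * u) * a ^ i * (v * u)⁻¹) x :=
      congrArg (v * u) (hi _ (kk_orb h (inv_mem hvu) hx hself))
    rw [h1, h3, e1 i x hself, ← h2, h4, e2 i x hself]
    congr 2
    ring
  have h5 := mul_inv_eq_iff_eq_mul.1 key
  exact h5.symm

end Cfsg.Agent.Lib.H70MT_C
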