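import Mathlib

/-!
# S4220, piece MT-D: a 4-transitive group containing a double transposition (helper22)
-/

set_option autoImplicit false
set_option linter.all false

namespace Cfsg.Agent.Lib.H70MT_D

open Equiv Equiv.Perm MulAction

variable {α : Type*} [Fintype α] [DecidableEq α]

theorem emb4 {a b c d : α} (hab : a ≠ b) (hac : a ≠ c) (had : a ≠ d) (hbc : b ≠ c) (hbd : b ≠ d) (hcd : c ≠ d) :
    Function.Injective (![a, b, c, d] : Fin 4 → α) := by
  intro i j hij
  fin_cases i <;> fin_cases j <;> simp_all

/-- MT-D : double transposition -/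
theorem dbl (G : Subgroup (Perm α)) (hG : MulAction.IsMultiplyPretransitive G α 4) (hn : 5 ≤ Fintype.card α) (a b c d : α)
    (hab : a ≠ b) (hac : a ≠ c) (had : a ≠ d) (hbc : b ≠ c) (hbd : b ≠ d) (hcd : c ≠ d) (h : swap a b * swap c d ∈ G) :
    alternatingGroup α ≤ G := by
  obtain ⟨e, he⟩ : ∃ e, e ∉ ({a, b, c, d} : Finset α) := by
    by_contra hcon
    push Not at hcon
    have h1 : (Finset.univ : Finset α) ⊆ {a, b, c, d} := fun x _ => hcon x
    have h2 := Finset.card_le_card h1
    have h3 : ({a, b, c, d} : Finset α).card ≤ 4 := Finset.card_le_four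
    rw [Finset.card_univ] at h2
    omega
  simp only [Finset.mem_insert, Finset.mem_singleton, not_or] at he
  obtain ⟨hea, heb, hec, hed⟩ := he
  let x : Fin 4 ↪ α := ⟨![a, b, c, d], emb4 hab hac had hbc hbd hcd⟩
  let y : Fin 4 ↪ α := ⟨![a, b, c, e], emb4 hab hac (Ne.symm hea) hbc (Ne.symm heb) (Ne.symm hec)⟩
  obtain ⟨g, hg⟩ := hG.exists_smul_eq x y
  have hgx : ∀ i, (g : Perm α) (x i) = y i := fun i => by rw [← hg]; rfl
  have ga : (g : Perm α) a = a := hgx 0
  have gb : (g : Perm α) b = b := hgx 1
  have gc : (g : Perm α) c = c := hgx 2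
  have gd : (g : Perm α) d = e := hgx 3
  have h1 : (g : Perm α) * (swap a b * swap c d) * (g : Perm α)⁻¹ = swap a b * swap c e := by
    have e1 : (g : Perm α) * (swap a b * swap c d) * (g : Perm α)⁻¹ =
        ((g : Perm α) * swap a b * (g : Perm α)⁻¹) * ((g : Perm α) * swap c d * (g : Perm α)⁻¹) := by group
    have e2 : ∀ u v : α, (g : Perm α) * swap u v * (g : Perm α)⁻¹ = swap ((g : Perm α) u) ((g : Perm α) v) := by
      intro u v
      rw [Equiv.mul_swap_eq_swap_mul, mul_inv_cancel_right]
    rw [e1, e2, e2, ga, gb, gc, gd]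
  have h2 : (swap c d * swap c e : Perm α) ∈ G := by
    have h3 := G.mul_mem h (G.mul_mem (G.mul_mem g.2 h) (G.inv_mem g.2))
    rw [h1] at h3
    have h4 : swap a b * swap c d * (swap a b * swap c e) = swap c d * swap c e := by
      have hdis : Perm.Disjoint (swap a b) (swap c d) := by
        rw [Perm.disjoint_iff_disjoint_support, Perm.support_swap hab, Perm.support_swap hcd]
        simp [hac, had, hbc, hbd, hac.symm, had.symm, hbc.symm, hbd.symm]
      have hcomm : swap a b * swap c d = swap c d * swap a b := hdis.commute.eq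
      calc swap a b * swap c d * (swap a b * swap c e) = swap c d * (swap a b * swap a b) * swap c e := by
            rw [hcomm]; simp only [mul_assoc]
        _ = swap c d * swap c e := by rw [Equiv.swap_mul_self, mul_one]
    rwa [h4] at h3
  have h3 : (swap c d * swap c e).IsThreeCycle := Perm.isThreeCycle_swap_mul_swap_same hcd (Ne.symm hec) (Ne.symm hed)
  have hc : 4 ≤ Nat.card α := by rw [Nat.card_eq_fintype_card]; omega
  haveI : IsMultiplyPretransitive G α 4 := hG
  have h2t : IsMultiplyPretransitive G α 2 := isMultiplyPretransitive_of_le (n := 4) (by norm_num) hc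
  have hpre : IsPreprimitive G α := isPreprimitive_of_is_two_pretransitive h2t
  exact alternatingGroup_le_of_isPreprimitive_of_isThreeCycle_mem hpre h3 h2

end Cfsg.Agent.Lib.H70MT_D
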