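import Cfsg.Agent.Lib.H70MT0

set_option autoImplicit false
set_option linter.all false

/-! S4220, piece MT-K2 -/

namespace Cfsg.Agent.Lib.H70MT_K2

open Equiv Cfsg.Agent.Lib.H70MT

variable {α : Type*} [Fintype α] [DecidableEq α] {G P : Subgroup (Perm α)} {D : Finset α} {k p r : ℕ}

theorem kk_two (h : Dt G P D k p r) (hk : k ≤ 2) (σ : Perm α) (hσ : ∀ x ∉ D, σ x = x) (h3 : σ ^ 3 = 1) :
    ∃ g ∈ KK G P D, ∀ x ∈ D, g x = σ x := by
  classical
  have hσD : ∀ x ∈ D, σ x ∈ D := by
    intro x hx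
    by_contra hc
    have h1 := hσ _ hc
    have h2 : σ x = x := σ.injective h1
    rw [h2] at hc
    exact hc hx
  obtain ⟨g, hgG, hgN, hg⟩ := h.wit (σ * σ) (fun x hx => by rw [Perm.mul_apply, hσ x hx, hσ x hx])
  have hgD : ∀ x ∈ D, g x = σ (σ x) := fun x hx => hg x hx
  have hgD' : ∀ x ∈ D, g x ∈ D := fun x hx => by rw [hgD x hx]; exact hσD _ (hσD _ hx)
  have hgout : ∀ x, x ∉ D → g x ∉ D := by
    intro x hx hgx
    set y := (σ * σ)⁻¹ (g x) with hy
    have h1 : σ (σ y) = g x := by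
      have : (σ * σ) y = g x := by rw [hy]; simp
      exact this
    have hyD : y ∈ D := by
      by_contra hc
      rw [hσ y hc, hσ y hc] at h1
      rw [← h1] at hgx
      exact hc hgx
    have h2 : g y = g x := by rw [hgD y hyD, h1]
    have h4 : y = x := g.injective h2
    rw [h4] at hyD
    exact hx hyD
  have horb : ∀ x y, y ∈ MulAction.orbit P x ↔ ∃ a ∈ P, y = a x := by
    intro x y
    constructor
    · rintro ⟨⟨a, ha⟩, rfl⟩
      exact ⟨a, ha, rfl⟩
    · rintro ⟨a, ha, rfl⟩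
      exact ⟨⟨a, ha⟩, rfl⟩
  have hconj : ∀ a ∈ P, g * a * g⁻¹ ∈ P := fun a ha => (Subgroup.mem_normalizer_iff.1 hgN a).1 ha
  have hconj' : ∀ a ∈ P, g⁻¹ * a * g ∈ P := by
    intro a ha
    have := (Subgroup.mem_normalizer_iff.1 (Subgroup.inv_mem _ hgN) a).1 ha
    rwa [inv_inv] at this
  have hdisjD : ∀ x, x ∉ D → ∀ y ∈ MulAction.orbit P x, y ∉ D := by
    intro x hx y hy hyD
    obtain ⟨a, ha, rfl⟩ := (horb x y).1 hy
    have h1 := h.fix a ha _ hyD
    have h2 : a x = x := a.injective h1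
    rw [h2] at hyD
    exact hx hyD
  have hmain : ∀ x, x ∉ D → ∃ a ∈ P, (g * g) x = a x := by
    intro x hx
    by_contra hcon
    have hnot : (g * g) x ∉ MulAction.orbit P x := by
      intro hc
      obtain ⟨a, ha, e⟩ := (horb _ _).1 hc
      exact hcon ⟨a, ha, e⟩
    -- `g x` not in the orbit of `x`
    have hn1 : g x ∉ MulAction.orbit P x := by
      intro hc
      obtain ⟨a, ha, e⟩ := (horb _ _).1 hc
      apply hnot
      rw [horb]
      refine ⟨(g * a * g⁻¹) * a, P.mul_mem (hconj a ha) ha, ?_⟩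
      have hh : g⁻¹ (g x) = x := by simp
      show g (g x) = g (a (g⁻¹ (a x)))
      rw [← e, hh, ← e]
    -- `g (g x)` not in the orbit of `g x`
    have hn2 : g (g x) ∉ MulAction.orbit P (g x) := by
      intro hc
      obtain ⟨a, ha, e⟩ := (horb _ _).1 hc
      apply hn1
      rw [horb]
      refine ⟨g⁻¹ * a * g, hconj' a ha, ?_⟩
      have hh : g⁻¹ (g (g x)) = g x := by simp
      show g x = g⁻¹ (a (g x))
      rw [← e, hh]
    have hd1 : Disjoint (MulAction.orbit P x) (MulAction.orbit P (g x)) := by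
      rcases MulAction.orbit.eq_or_disjoint (G := P) x (g x) with h1 | h1
      · exact absurd (h1 ▸ MulAction.mem_orbit_self (M := P) (g x)) hn1
      · exact h1
    have hd2 : Disjoint (MulAction.orbit P (g x)) (MulAction.orbit P (g (g x))) := by
      rcases MulAction.orbit.eq_or_disjoint (G := P) (g x) (g (g x)) with h1 | h1
      · exact absurd (h1 ▸ MulAction.mem_orbit_self (M := P) (g (g x))) hn2
      · exact h1
    have hd3 : Disjoint (MulAction.orbit P x) (MulAction.orbit P (g (g x))) := by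
      rcases MulAction.orbit.eq_or_disjoint (G := P) x (g (g x)) with h1 | h1
      · exact absurd (h1 ▸ MulAction.mem_orbit_self (M := P) (g (g x))) hnot
      · exact h1
    have hgx := hgout x hx
    have hggx := hgout _ hgx
    have e1 := h.orb x hx
    have e2 := h.orb _ hgx
    have e3 := h.orb _ hggx
    have hD1 : ∀ w, w ∉ D → Disjoint (MulAction.orbit P w) (D : Set α) := by
      intro w hw
      rw [Set.disjoint_left]
      intro y hy hyD
      exact hdisjD w hw y hy hyD
    have hu : (MulAction.orbit P x ∪ MulAction.orbit P (g x) ∪ MulAction.orbit P (g (g x)) ∪ (D : Set α)).ncard = p + p + p + r := by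
      rw [Set.ncard_union_eq, Set.ncard_union_eq, Set.ncard_union_eq, e1, e2, e3, Set.ncard_coe_finset, h.hD]
      · exact hd1
      · rw [Set.disjoint_union_left]; exact ⟨hd3, hd2⟩
      · rw [Set.disjoint_union_left, Set.disjoint_union_left]
        exact ⟨⟨hD1 _ hx, hD1 _ hgx⟩, hD1 _ hggx⟩
    have hle := Set.ncard_le_card (MulAction.orbit P x ∪ MulAction.orbit P (g x) ∪ MulAction.orbit P (g (g x)) ∪ (D : Set α))
    rw [hu, Nat.card_eq_fintype_card, h.card] at hle
    have hp := h.pr.pos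
    have : k * p ≤ 2 * p := Nat.mul_le_mul_right _ hk
    omega
  refine ⟨g * g, ⟨Subgroup.mul_mem _ ⟨hgG, hgN⟩ ⟨hgG, hgN⟩, fun x hx => hmain x hx⟩, ?_⟩
  intro x hx
  rw [Perm.mul_apply, hgD x hx, hgD _ (hσD _ (hσD _ hx))]
  have h4 : (σ ^ 3) (σ x) = σ x := by rw [h3]; rfl
  exact h4

end Cfsg.Agent.Lib.H70MT_K2
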