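import Cfsg.Agent.Lib.H70MT0

/-! S4220, piece MT-K43 (helper59) -/

set_option autoImplicit false
set_option linter.all false

open Equiv Cfsg.Agent.Lib.H70MT

namespace Cfsg.Agent.Lib.H70MT_K43

variable {α : Type*} [Fintype α] [DecidableEq α] {G P : Subgroup (Perm α)} {D : Finset α} {k p r : ℕ}

theorem inv_D1 (h : Dt G P D k p r) {g : Perm α} (hg : g ∈ NN G P) {x : α} (hx : x ∈ D) : g x ∈ D := by
  by_contra hgx
  have h1 := h.orb _ hgx
  have h2 : MulAction.orbit P (g x) = {g x} := by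
    ext y
    constructor
    · rintro ⟨⟨u, hu⟩, rfl⟩
      show u (g x) = g x
      have h3 := (Subgroup.mem_normalizer_iff.1 (Subgroup.inv_mem _ hg.2) u).1 hu
      have h4 := h.fix _ h3 x hx
      rw [inv_inv, Perm.mul_apply, Perm.mul_apply] at h4
      exact Perm.inv_eq_iff_eq.1 h4
    · rintro rfl
      exact MulAction.mem_orbit_self _
  rw [h2, Set.ncard_singleton] at h1
  exact h.pr.one_lt.ne h1

theorem inv_D (h : Dt G P D k p r) {g : Perm α} (hg : g ∈ NN G P) (x : α) : g x ∈ D ↔ x ∈ D := by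
  refine ⟨fun hx => ?_, inv_D1 h hg⟩
  have := inv_D1 h (Subgroup.inv_mem _ hg) hx
  simpa using this

theorem x_fib {α β : Type*} [Finite α] (f : α → β) (hf : Function.Surjective f) (m : ℕ)
    (h : ∀ b, Nat.card {x // f x = b} = m) : Nat.card α = Nat.card β * m := by
  classical
  have : Finite β := Finite.of_surjective f hf
  have := Fintype.ofFinite β
  rw [← Nat.card_congr (Equiv.sigmaFiberEquiv f), Nat.card_sigma]
  simp only [h, Finset.sum_const, Finset.card_univ, smul_eq_mul, Nat.card_eq_fintype_card]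

theorem s3 : ∀ A B : Perm (Fin 3), A * B * A⁻¹ * B⁻¹ = 1 ∨ A * B * A⁻¹ * B⁻¹ = swap 0 1 * swap 1 2 ∨
    A * B * A⁻¹ * B⁻¹ = swap 1 2 * swap 0 1 := by decide

theorem s3' (A B C E : Perm (Fin 3)) : (A * B * A⁻¹ * B⁻¹) * (C * E * C⁻¹ * E⁻¹) * (A * B * A⁻¹ * B⁻¹)⁻¹ * (C * E * C⁻¹ * E⁻¹)⁻¹ = 1 := by
  rcases s3 A B with h | h | h <;> rcases s3 C E with h' | h' | h' <;> rw [h, h'] <;> decide

/-- orbit relation outside `D` -/
def st (P : Subgroup (Perm α)) (D : Finset α) : Setoid {x : α // x ∉ D} where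
  r x y := ∃ h ∈ P, h x.1 = y.1
  iseqv := ⟨fun x => ⟨1, P.one_mem, rfl⟩, fun {x y} ⟨h, hh, e⟩ => ⟨h⁻¹, P.inv_mem hh, by rw [← e]; simp⟩,
    fun {x y z} ⟨h, hh, e⟩ ⟨h', hh', e'⟩ => ⟨h' * h, P.mul_mem hh' hh, by rw [Perm.mul_apply, e, e']⟩⟩

theorem card_st (h : Dt G P D k p r) : Nat.card (Quotient (st P D)) = k := by
  have h1 := x_fib (Quotient.mk (st P D)) Quotient.mk_surjective p ?_
  · have h2 : Nat.card {x : α // x ∉ D} = k * p := by
      rw [Nat.card_eq_fintype_card, Fintype.card_subtype_compl, Fintype.card_coe, h.hD, h.card]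
      omega
    rw [h2] at h1
    exact (Nat.eq_of_mul_eq_mul_right h.pr.pos h1).symm
  · intro b
    induction b using Quotient.inductionOn with
    | h x =>
      rw [← h.orb x.1 x.2, ← Nat.card_coe_set_eq]
      refine Nat.card_congr ⟨fun y => ⟨y.1.1, ?_⟩, fun y => ⟨⟨y.1, ?_⟩, ?_⟩, fun y => rfl, fun y => rfl⟩
      · obtain ⟨u, hu, e⟩ := Quotient.exact y.2.symm
        exact ⟨⟨u, hu⟩, e⟩
      · intro hy
        obtain ⟨y, ⟨⟨u, hu⟩, e⟩⟩ := y
        have h3 : u x.1 = y := e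
        have h4 := h.fix _ (P.inv_mem hu) y hy
        rw [← h3] at h4
        simp at h4
        apply x.2
        rw [h4, h3]; exact hy
      · obtain ⟨y, ⟨⟨u, hu⟩, e⟩⟩ := y
        exact Eq.symm (Quotient.sound (s := st P D) (show (st P D).r x _ from ⟨u, hu, e⟩))

/-- the permutation of the orbits -/
def fq (h : Dt G P D k p r) (g : NN G P) : Quotient (st P D) → Quotient (st P D) :=
  Quotient.map (fun x => ⟨g.1 x.1, fun hx => x.2 ((inv_D h g.2 x.1).1 hx)⟩) (by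
    rintro x y ⟨u, hu, e⟩
    refine ⟨g.1 * u * g.1⁻¹, (Subgroup.mem_normalizer_iff.1 g.2.2 u).1 hu, ?_⟩
    show (g.1 * u * g.1⁻¹) (g.1 x.1) = g.1 y.1
    rw [← e]
    simp)

theorem fq_mul (h : Dt G P D k p r) (g g' : NN G P) (q : Quotient (st P D)) : fq h (g * g') q = fq h g (fq h g' q) := by
  induction q using Quotient.inductionOn with
  | h x => rfl

theorem fq_one (h : Dt G P D k p r) (q : Quotient (st P D)) : fq h 1 q = q := by
  induction q using Quotient.inductionOn with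
  | h x => rfl

/-- action on the orbits -/
def psi (h : Dt G P D k p r) : NN G P →* Perm (Quotient (st P D)) :=
  MonoidHom.mk' (fun g => ⟨fq h g, fq h g⁻¹, fun q => by rw [← fq_mul, inv_mul_cancel, fq_one],
    fun q => by rw [← fq_mul, mul_inv_cancel, fq_one]⟩) (fun g g' => Equiv.ext fun q => fq_mul h g g' q)

theorem mem_of_psi (h : Dt G P D k p r) (g : NN G P) (hg : psi h g = 1) : g.1 ∈ KK G P D := by
  rw [mem_KK]
  refine ⟨g.2, fun x hx => ?_⟩
  have h1 : fq h g (Quotient.mk (st P D) ⟨x, hx⟩) = Quotient.mk (st P D) ⟨x, hx⟩ := congrArg (fun e : Perm _ => e (Quotient.mk (st P D) ⟨x, hx⟩)) hg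
  obtain ⟨u, hu, e⟩ := Quotient.exact h1
  refine ⟨u⁻¹, P.inv_mem hu, ?_⟩
  have e' : u (g.1 x) = x := e
  rw [Perm.eq_inv_iff_eq]; exact e'

/-- pairs -/
def Ga (G P : Subgroup (Perm α)) (D : Finset α) : Subgroup (Perm α × Perm α) where
  carrier := {w | w.1 ∈ NN G P ∧ (∀ x, x ∈ D ↔ w.2 x ∈ D) ∧ ∀ x ∈ D, w.1 x = w.2 x}
  one_mem' := ⟨Subgroup.one_mem _, fun x => Iff.rfl, fun x _ => rfl⟩
  mul_mem' := by
    rintro a b ⟨ha, ha', ha''⟩ ⟨hb, hb', hb''⟩
    refine ⟨Subgroup.mul_mem _ ha hb, fun x => (hb' x).trans (ha' _), fun x hx => ?_⟩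
    show a.1 (b.1 x) = a.2 (b.2 x)
    rw [hb'' x hx, ha'' _ ((hb' x).1 hx)]
  inv_mem' := by
    rintro a ⟨ha, ha', ha''⟩
    refine ⟨Subgroup.inv_mem _ ha, fun x => ?_, fun x hx => ?_⟩
    · rw [ha' (a⁻¹.2 x)]
      show _ ↔ a.2 (a.2⁻¹ x) ∈ D
      simp
    · show a.1⁻¹ x = a.2⁻¹ x
      rw [Perm.inv_eq_iff_eq]
      have h1 : a.2⁻¹ x ∈ D := by
        rw [ha' (a.2⁻¹ x)]; simpa using hx
      rw [ha'' _ h1]; simp

theorem word {a b c d : α} (hab : a ≠ b) (hac : a ≠ c) (had : a ≠ d) (hbc : b ≠ c) (hbd : b ≠ d) (hcd : c ≠ d) :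
    (swap a b * swap a c * (swap a b)⁻¹ * (swap a c)⁻¹) * (swap a b * swap a d * (swap a b)⁻¹ * (swap a d)⁻¹) *
      (swap a b * swap a c * (swap a b)⁻¹ * (swap a c)⁻¹)⁻¹ * (swap a b * swap a d * (swap a b)⁻¹ * (swap a d)⁻¹)⁻¹ =
      swap a b * swap c d := by
  ext x
  simp only [mul_inv_rev, inv_inv, swap_inv, Perm.mul_apply]
  by_cases h1 : x = a
  · subst h1; simp [swap_apply_of_ne_of_ne, hab, hac, had, hbc, hbd, hcd, hab.symm, hac.symm, had.symm, hbc.symm, hbd.symm, hcd.symm]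
  by_cases h2 : x = b
  · subst h2; simp [swap_apply_of_ne_of_ne, hab, hac, had, hbc, hbd, hcd, hab.symm, hac.symm, had.symm, hbc.symm, hbd.symm, hcd.symm]
  by_cases h3 : x = c
  · subst h3; simp [swap_apply_of_ne_of_ne, hab, hac, had, hbc, hbd, hcd, hab.symm, hac.symm, had.symm, hbc.symm, hbd.symm, hcd.symm]
  by_cases h4 : x = d
  · subst h4; simp [swap_apply_of_ne_of_ne, hab, hac, had, hbc, hbd, hcd, hab.symm, hac.symm, had.symm, hbc.symm, hbd.symm, hcd.symm]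
  simp [swap_apply_of_ne_of_ne, h1, h2, h3, h4]

theorem kk_43 (h : Dt G P D 3 p 4) (σ : Perm α) (hσ : ∀ x ∉ D, σ x = x) (h2 : ∃ a b c d : α, [a, b, c, d].Nodup ∧ σ = swap a b * swap c d) :
    ∃ g ∈ KK G P D, ∀ x ∈ D, g x = σ x := by
  obtain ⟨a, b, c, d, hnd, rfl⟩ := h2
  simp only [List.nodup_cons, List.mem_cons, List.not_mem_nil, or_false, not_or, not_false_eq_true, List.nodup_nil,
    and_true] at hnd
  obtain ⟨⟨hab, hac, had⟩, ⟨hbc, hbd⟩, hcd⟩ := hnd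
  have haD : a ∈ D := by
    by_contra hx
    have h3 := hσ a hx
    rw [Perm.mul_apply, swap_apply_of_ne_of_ne hac had, swap_apply_left] at h3
    exact hab h3.symm
  have hbD : b ∈ D := by
    by_contra hx
    have h3 := hσ b hx
    rw [Perm.mul_apply, swap_apply_of_ne_of_ne hbc hbd, swap_apply_right] at h3
    exact hab h3
  have hcD : c ∈ D := by
    by_contra hx
    have h3 := hσ c hx
    rw [Perm.mul_apply, swap_apply_left, swap_apply_of_ne_of_ne (Ne.symm had) (Ne.symm hbd)] at h3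
    exact hcd h3.symm
  have hdD : d ∈ D := by
    by_contra hx
    have h3 := hσ d hx
    rw [Perm.mul_apply, swap_apply_right, swap_apply_of_ne_of_ne (Ne.symm hac) (Ne.symm hbc)] at h3
    exact hcd h3
  have hl : ∀ u ∈ D, ∀ v ∈ D, ∃ g : Perm α, (g, swap u v) ∈ Ga G P D := by
    intro u hu v hv
    have hout : ∀ x ∉ D, swap u v x = x := fun x hx =>
      swap_apply_of_ne_of_ne (fun e => hx (e ▸ hu)) (fun e => hx (e ▸ hv))
    obtain ⟨g, hgG, hgN, hg⟩ := h.wit (swap u v) hout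
    refine ⟨g, ⟨hgG, hgN⟩, fun x => ?_, hg⟩
    show x ∈ D ↔ swap u v x ∈ D
    by_cases hx : x ∈ D
    · simp only [hx, true_iff]
      by_contra h5
      have h6 := hout _ h5
      rw [swap_apply_self] at h6
      rw [← h6] at h5
      exact h5 hx
    · rw [hout x hx]
  obtain ⟨ga, hga⟩ := hl a haD b hbD
  obtain ⟨gb, hgb⟩ := hl a haD c hcD
  obtain ⟨gc, hgc⟩ := hl a haD d hdD
  have cm : ∀ x ∈ Ga G P D, ∀ y ∈ Ga G P D, x * y * x⁻¹ * y⁻¹ ∈ Ga G P D := fun x hx y hy =>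
    mul_mem (mul_mem (mul_mem hx hy) (inv_mem hx)) (inv_mem hy)
  have h1 := cm _ (cm _ hga _ hgb) _ (cm _ hga _ hgc)
  have h2 := h1.2.2
  refine ⟨_, ?_, fun x hx => (h2 x hx).trans ?_⟩
  · have h3 := mem_of_psi h (((⟨ga, hga.1⟩ : NN G P) * ⟨gb, hgb.1⟩ * (⟨ga, hga.1⟩)⁻¹ * (⟨gb, hgb.1⟩)⁻¹) *
      ((⟨ga, hga.1⟩ : NN G P) * ⟨gc, hgc.1⟩ * (⟨ga, hga.1⟩)⁻¹ * (⟨gc, hgc.1⟩)⁻¹) *
      ((⟨ga, hga.1⟩ : NN G P) * ⟨gb, hgb.1⟩ * (⟨ga, hga.1⟩)⁻¹ * (⟨gb, hgb.1⟩)⁻¹)⁻¹ *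
      ((⟨ga, hga.1⟩ : NN G P) * ⟨gc, hgc.1⟩ * (⟨ga, hga.1⟩)⁻¹ * (⟨gc, hgc.1⟩)⁻¹)⁻¹) ?_
    · exact h3
    · simp only [map_mul, map_inv]
      have e : Quotient (st P D) ≃ Fin 3 := by
        have h4 := card_st h
        have : Finite (Quotient (st P D)) := inferInstance
        exact (Finite.equivFin _).trans (finCongr h4)
      apply e.permCongrHom.injective
      simp only [map_mul, map_inv, map_one]
      exact s3' _ _ _ _
  · have := word hab hac had hbc hbd hcd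
    exact congrArg (fun e : Perm α => e x) this

end Cfsg.Agent.Lib.H70MT_K43
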