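import Mathlib
import Cfsg.Agent.Lib.H70MT0

set_option autoImplicit false
set_option linter.all false

/-! S4220, piece K5 (helper82) -/

namespace Cfsg.Agent.Lib.H70MT_K5

open Equiv Cfsg.Agent.Lib.H70MT

variable {α : Type*} [Fintype α] [DecidableEq α] {G P : Subgroup (Perm α)} {D : Finset α} {k p r : ℕ}

theorem memD_iff (h : Dt G P D k p r) (x : α) : x ∈ D ↔ ∀ g ∈ P, g x = x := by
  constructor
  · intro hx g hg; exact h.fix g hg x hx
  · intro hx
    by_contra hD
    have h1 := h.orb x hD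
    have h2 : MulAction.orbit P x = {x} := by
      ext y
      constructor
      · rintro ⟨g, rfl⟩; exact hx g g.2
      · intro hy
        rw [Set.mem_singleton_iff] at hy
        rw [hy]; exact MulAction.mem_orbit_self x
    rw [h2, Set.ncard_singleton] at h1
    exact h.pr.one_lt.ne h1

theorem nD (h : Dt G P D k p r) {g : Perm α} (hg : g ∈ NN G P) (x : α) : x ∈ D ↔ g x ∈ D := by
  rw [memD_iff h, memD_iff h]
  constructor
  · intro hx a ha
    have h1 : g⁻¹ * a * g ∈ P := by
      have := (Subgroup.mem_normalizer_iff.1 (Subgroup.inv_mem _ hg.2) a).1 ha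
      rwa [inv_inv] at this
    have h2 := hx _ h1
    rw [Perm.mul_apply, Perm.mul_apply] at h2
    have h3 := congrArg g h2
    simpa using h3
  · intro hx a ha
    have h1 : g * a * g⁻¹ ∈ P := (Subgroup.mem_normalizer_iff.1 hg.2 a).1 ha
    have h2 := hx _ h1
    have h3 : (g * a * g⁻¹) (g x) = g (a x) := by simp
    rw [h3] at h2
    exact g.injective h2

/-- restriction to `D` -/
def rho (h : Dt G P D k p r) : NN G P →* Perm {x // x ∈ D} where
  toFun g := (g : Perm α).subtypePerm (fun x => (nD h g.2 x).symm)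
  map_one' := by ext x; rfl
  map_mul' a b := by ext x; rfl

theorem rho_apply (h : Dt G P D k p r) (g : NN G P) (x : {x // x ∈ D}) : ((rho h g x : {x // x ∈ D}) : α) = (g : Perm α) x := rfl

/-- the orbits outside `D` -/
def Ob (P : Subgroup (Perm α)) (D : Finset α) : Type _ := {O : Set α // ∃ x ∉ D, O = MulAction.orbit P x}

theorem orb_im {g : Perm α} (hg : g ∈ NN G P) (x : α) : g '' MulAction.orbit P x = MulAction.orbit P (g x) := by
  ext y
  constructor
  · rintro ⟨z, ⟨a, rfl⟩, rfl⟩
    refine ⟨⟨g * a * g⁻¹, (Subgroup.mem_normalizer_iff.1 hg.2 a).1 a.2⟩, ?_⟩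
    show (g * (a : Perm α) * g⁻¹) (g x) = g ((a : Perm α) x)
    simp
  · rintro ⟨a, rfl⟩
    have h1 : g⁻¹ * (a : Perm α) * g ∈ P := by
      have := (Subgroup.mem_normalizer_iff.1 (Subgroup.inv_mem _ hg.2) a).1 a.2
      rwa [inv_inv] at this
    refine ⟨(g⁻¹ * (a : Perm α) * g) x, ⟨⟨_, h1⟩, rfl⟩, ?_⟩
    show g ((g⁻¹ * (a : Perm α) * g) x) = (a : Perm α) (g x)
    simp

def psi (h : Dt G P D k p r) : NN G P →* Perm (Ob P D) where
  toFun g :=
    { toFun := fun O => ⟨(g : Perm α) '' O.1, by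
        obtain ⟨x, hx, hO⟩ := O.2
        exact ⟨(g : Perm α) x, fun hc => hx ((nD h g.2 x).2 hc), by rw [hO, orb_im g.2]⟩⟩
      invFun := fun O => ⟨((g⁻¹ : NN G P) : Perm α) '' O.1, by
        obtain ⟨x, hx, hO⟩ := O.2
        exact ⟨((g⁻¹ : NN G P) : Perm α) x, fun hc => hx ((nD h (g⁻¹).2 x).2 hc), by rw [hO, orb_im (g⁻¹).2]⟩⟩
      left_inv := fun O => Subtype.ext (by
        show ((g⁻¹ : NN G P) : Perm α) '' ((g : Perm α) '' O.1) = O.1
        rw [← Set.image_comp]
        have h0 : (⇑((g⁻¹ : NN G P) : Perm α) ∘ ⇑(g : Perm α)) = id := by funext x; simp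
        rw [h0, Set.image_id])
      right_inv := fun O => Subtype.ext (by
        show (g : Perm α) '' (((g⁻¹ : NN G P) : Perm α) '' O.1) = O.1
        rw [← Set.image_comp]
        have h0 : (⇑(g : Perm α) ∘ ⇑((g⁻¹ : NN G P) : Perm α)) = id := by funext x; simp
        rw [h0, Set.image_id]) }
  map_one' := by
    ext O
    apply Subtype.ext
    show (1 : Perm α) '' O.1 = O.1
    simp
  map_mul' a b := by
    ext O
    apply Subtype.ext
    show ((a * b : NN G P) : Perm α) '' O.1 = (a : Perm α) '' ((b : Perm α) '' O.1)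
    rw [← Set.image_comp]
    rfl

theorem ker_psi (h : Dt G P D k p r) (g : NN G P) (hg : psi h g = 1) : (g : Perm α) ∈ KK G P D := by
  refine ⟨g.2, fun x hx => ?_⟩
  have h1 : (psi h g ⟨MulAction.orbit P x, x, hx, rfl⟩).1 = MulAction.orbit P x := by rw [hg]; rfl
  have h2 : (g : Perm α) '' MulAction.orbit P x = MulAction.orbit P x := h1
  have h3 : (g : Perm α) x ∈ MulAction.orbit P x := by
    rw [← h2]; exact ⟨x, MulAction.mem_orbit_self x, rfl⟩
  obtain ⟨a, ha⟩ := h3
  exact ⟨a, a.2, ha.symm⟩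

theorem card_Ob (h : Dt G P D k p r) : Nat.card (Ob P D) = k := by
  classical
  haveI : Finite (Ob P D) := Subtype.finite
  haveI := Fintype.ofFinite (Ob P D)
  let f : {x : α // x ∉ D} → Ob P D := fun x => ⟨MulAction.orbit P (x : α), x, x.2, rfl⟩
  have hfib : ∀ O : Ob P D, Nat.card {x // f x = O} = p := by
    rintro ⟨O, x0, hx0, rfl⟩
    rw [← h.orb x0 hx0, ← Nat.card_coe_set_eq]
    refine Nat.card_congr
      { toFun := fun y => ⟨(y.1 : α), ?_⟩
        invFun := fun y => ⟨⟨(y : α), ?_⟩, ?_⟩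
        left_inv := fun y => rfl
        right_inv := fun y => rfl }
    · have h1 : MulAction.orbit P (y.1 : α) = MulAction.orbit P x0 := congrArg Subtype.val y.2
      exact (congrArg (fun s : Set α => (y.1 : α) ∈ s) h1).mp (MulAction.mem_orbit_self _)
    · obtain ⟨a, ha⟩ := y.2
      intro hc
      apply hx0
      have h2 := (memD_iff h _).1 hc
      have h3 : x0 = (y : α) := by
        have h4 := h2 (a⁻¹ : P) (a⁻¹ : P).2
        rw [← h4, ← ha]
        show x0 = ((a⁻¹ : P) : Perm α) ((a : Perm α) x0)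
        simp
      rw [h3]; exact hc
    · exact Subtype.ext (MulAction.orbit_eq_iff.2 y.2)
  have h1 : Nat.card {x : α // x ∉ D} = Nat.card (Ob P D) * p := by
    rw [← Nat.card_congr (Equiv.sigmaFiberEquiv f), Nat.card_sigma]
    simp only [hfib, Finset.sum_const, Finset.card_univ, smul_eq_mul, Nat.card_eq_fintype_card]
  have h2 : Nat.card {x : α // x ∉ D} = k * p := by
    rw [Nat.card_eq_fintype_card, Fintype.card_subtype_compl, h.card, Fintype.card_coe, h.hD, Nat.add_sub_cancel]
  rw [h2] at h1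
  exact (Nat.eq_of_mul_eq_mul_right h.pr.pos h1).symm

theorem rho_surj (h : Dt G P D k p r) : Function.Surjective (rho h) := by
  intro τ
  obtain ⟨g, hg, hgn, hx⟩ := h.wit (Perm.ofSubtype τ) (fun x hx => Perm.ofSubtype_apply_of_not_mem τ hx)
  refine ⟨⟨g, hg, hgn⟩, ?_⟩
  ext x
  rw [rho_apply]
  show g (x : α) = (τ x : α)
  rw [hx x x.2, Perm.ofSubtype_apply_coe]

theorem kk_big (h : Dt G P D k p r) (hr : 5 ≤ r) (σ : Perm α) (hσ : ∀ x ∉ D, σ x = x) (h3 : σ.IsThreeCycle) :
    ∃ g ∈ KK G P D, ∀ x ∈ D, g x = σ x := by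
  classical
  have hcD : Nat.card {x // x ∈ D} = r := by rw [Nat.card_eq_fintype_card, Fintype.card_coe, h.hD]
  let I : Subgroup (Perm {x // x ∈ D}) := (psi h).ker.map (rho h)
  haveI hIn : I.Normal := Subgroup.Normal.map inferInstance (rho h) (rho_surj h)
  have hidx : I.index ≤ k.factorial := by
    have h1 : I.index ∣ (psi h).ker.index := Subgroup.index_map_dvd _ (rho_surj h)
    have h2 : (psi h).ker.index ≤ k.factorial := by
      rw [Subgroup.index_ker]
      have h4 : Nat.card (Perm (Ob P D)) = k.factorial := by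
        haveI : Finite (Ob P D) := Subtype.finite
        rw [Nat.card_perm, card_Ob h]
      rw [← h4]
      haveI : Finite (Ob P D) := Subtype.finite
      exact Nat.card_le_card_of_injective _ Subtype.val_injective
    exact (Nat.le_of_dvd (Nat.pos_of_ne_zero Subgroup.index_ne_zero_of_finite) h1).trans h2
  have hne : I ≠ ⊥ := by
    intro hb
    rw [hb, Subgroup.index_bot, Nat.card_perm, hcD] at hidx
    have := (Nat.factorial_lt (by have := h.k1; omega : 0 < k)).2 h.kr
    omega
  have hA : alternatingGroup {x // x ∈ D} ≤ I := by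
    haveI : Nontrivial I := (Subgroup.nontrivial_iff_ne_bot I).2 hne
    exact Equiv.Perm.alternatingGroup_le_of_normal (by rw [hcD]; exact hr) ‹Nontrivial I›
  have hσD : ∀ x, x ∈ D ↔ σ x ∈ D := by
    intro x
    constructor
    · intro hx
      by_contra hc
      have h1 := hσ _ hc
      exact hc (by rw [σ.injective h1]; exact hx)
    · intro hx
      by_contra hc
      exact hc (by rw [hσ x hc] at hx; exact hx)
  have hmem : σ.subtypePerm (fun x => (hσD x).symm) ∈ alternatingGroup {x // x ∈ D} := by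
    rw [Perm.mem_alternatingGroup, ← h3.sign]
    have hs := Perm.sign_subtypePerm σ (p := fun x => x ∈ D) (fun x => (hσD x).symm) (fun x hx => by
      by_contra hc; exact hx (hσ x hc))
    rw [← hs]
    congr!
  obtain ⟨g, hg, he⟩ := hA hmem
  refine ⟨g, ker_psi h g hg, fun x hx => ?_⟩
  have h1 := congrArg (fun τ : Perm {x // x ∈ D} => ((τ ⟨x, hx⟩ : {x // x ∈ D}) : α)) he
  exact h1

end Cfsg.Agent.Lib.H70MT_K5
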