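import Cfsg.Agent.Lib.H70Kulakoff
import Cfsg.Agent.Lib.NormalRankTwo
import Cfsg.Agent.Lib.NormalFour
import Cfsg.Agent.Lib.FrobDvd
import Cfsg.Agent.Lib.MaxClassCrit
import Cfsg.Agent.S3761

set_option autoImplicit false

/-!
# The number of cyclic subgroups of order `p ^ k` (G. A. Miller; helper70)
-/

namespace Cfsg.Agent.Lib.H70Miller

open MulAction Subgroup
open scoped Pointwise

universe u

theorem card_closed {G : Type u} [Group G] [Finite G] (n : ℕ) (S : Set G)
    (hS : ∀ x ∈ S, orderOf x = n) (hc : ∀ x ∈ S, ∀ y, zpowers y = zpowers x → y ∈ S) :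
    S.ncard = Nat.card {K : Subgroup G // ∃ x ∈ S, zpowers x = K} * n.totient := by
  classical
  let f : S → {K : Subgroup G // ∃ x ∈ S, zpowers x = K} := fun x => ⟨zpowers x.1, x.1, x.2, rfl⟩
  have hfib : ∀ K : {K : Subgroup G // ∃ x ∈ S, zpowers x = K}, Nat.card {x // f x = K} = n.totient := by
    rintro ⟨K, x0, hx0, rfl⟩
    have h1 : Nat.card (zpowers x0) = n := by rw [Nat.card_zpowers, hS x0 hx0]
    haveI := Fintype.ofFinite (zpowers x0)
    have h2 := IsCyclic.card_orderOf_eq_totient (α := zpowers x0) (d := n) (by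
      rw [← Nat.card_eq_fintype_card, h1])
    rw [← h2, ← Fintype.card_subtype, ← Nat.card_eq_fintype_card]
    symm
    have key : ∀ a : zpowers x0, orderOf a = n → zpowers (a : G) = zpowers x0 := by
      intro a ha
      apply Subgroup.eq_of_le_of_card_ge
      · rw [zpowers_le]; exact a.2
      · rw [h1, Nat.card_zpowers, Subgroup.orderOf_coe, ha]
    refine Nat.card_congr (Equiv.ofBijective
      (fun a => (⟨⟨(a.1 : G), hc x0 hx0 _ (key a.1 a.2)⟩, Subtype.ext (key a.1 a.2)⟩ :
        {x // f x = ⟨zpowers x0, x0, hx0, rfl⟩})) ⟨?_, ?_⟩)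
    · intro a b hab
      apply Subtype.ext
      apply Subtype.ext
      exact congrArg (fun z => (z.1.1 : G)) hab
    · rintro ⟨⟨y, hy⟩, hy2⟩
      have h3 : zpowers y = zpowers x0 := congrArg Subtype.val hy2
      have h4 : y ∈ zpowers x0 := by rw [← h3]; exact mem_zpowers y
      refine ⟨⟨⟨y, h4⟩, ?_⟩, rfl⟩
      rw [← Subgroup.orderOf_coe]
      exact hS y hy
  have h1 : S.ncard = Nat.card S := rfl
  haveI := Fintype.ofFinite {K : Subgroup G // ∃ x ∈ S, zpowers x = K}
  rw [h1, Nat.card_congr (Equiv.sigmaFiberEquiv f).symm, Nat.card_sigma, Finset.sum_congr rfl (fun K _ => hfib K),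
    Finset.sum_const, Finset.card_univ, smul_eq_mul, Nat.card_eq_fintype_card]

theorem card_cyclic {G : Type u} [Group G] [Finite G] (n : ℕ) :
    ({x : G | orderOf x = n}).ncard = Nat.card {K : Subgroup G // Nat.card K = n ∧ IsCyclic K} * n.totient := by
  rw [card_closed n {x : G | orderOf x = n} (fun x hx => hx) (fun x hx y hy => by
    change orderOf y = n
    rw [← Nat.card_zpowers, hy, Nat.card_zpowers]; exact hx)]
  congr 1
  apply Nat.card_congr
  apply Equiv.subtypeEquivRight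
  intro K
  constructor
  · rintro ⟨x, hx, rfl⟩
    exact ⟨by rw [Nat.card_zpowers]; exact hx, inferInstance⟩
  · rintro ⟨h1, h2⟩
    obtain ⟨g, hg⟩ := h2.exists_generator
    refine ⟨g, ?_, ?_⟩
    · change orderOf (g : G) = n
      rw [Subgroup.orderOf_coe, orderOf_eq_card_of_forall_mem_zpowers hg, h1]
    · ext x
      constructor
      · intro hx
        exact (zpowers_le.2 g.2) hx
      · intro hx
        obtain ⟨i, hi⟩ := mem_zpowers_iff.1 (hg ⟨x, hx⟩)
        exact mem_zpowers_iff.2 ⟨i, congrArg Subtype.val hi⟩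

structure Rk (p : ℕ) {P : Type u} [Group P] (R : Subgroup P) (z : P) : Prop where
  nor : R.Normal
  zc : z ∈ center P
  zo : orderOf z = p
  zR : z ∈ R
  card : Nat.card R = p ^ 2
  exp : ∀ x ∈ R, x ^ p = 1
  com : ∀ x ∈ R, ∀ g : P, g * x * g⁻¹ * x⁻¹ ∈ zpowers z

theorem Rk.mul_pow {p : ℕ} {P : Type u} [Group P] {R : Subgroup P} {z : P} (h : Rk p R z) {r : P} (hr : r ∈ R) (x : P)
    {n : ℕ} (hn : p ∣ n) (hn2 : p ∣ n * (n - 1) / 2) : (r * x) ^ n = x ^ n := by
  set c := x⁻¹ * r⁻¹ * x * r with hc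
  have hcz : c ∈ zpowers z := by
    have h1 := h.com r⁻¹ (R.inv_mem hr) x⁻¹
    rw [inv_inv, inv_inv] at h1
    exact h1
  have hzc : zpowers z ≤ center P := by rw [zpowers_le]; exact h.zc
  have hcc := mem_center_iff.1 (hzc hcz)
  have hcp : c ^ p = 1 := by
    have h2 : orderOf c ∣ orderOf z := by
      rw [← Nat.card_zpowers z]; exact Subgroup.orderOf_dvd_natCard _ hcz
    rw [h.zo] at h2
    exact orderOf_dvd_iff_pow_eq_one.1 h2
  have h3 := NormalRankTwo.mul_pow_class_two (x := r) (y := x) (c := c) (fun g => (hcc g).symm) (by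
    have : r * x * c = r * x * (x⁻¹ * r⁻¹ * x * r) := rfl
    rw [this]; group) n
  rw [h3]
  obtain ⟨k, hk⟩ := hn
  obtain ⟨l, hl⟩ := hn2
  rw [hl, pow_mul c, hcp, one_pow, mul_one]
  have : r ^ n = 1 := by rw [hk, pow_mul, h.exp r hr, one_pow]
  rw [this, one_mul]

/-- **Miller**: the number of cyclic subgroups of order `p ^ (j + 2)` is divisible by `p`. -/
theorem Rk.miller {p j : ℕ} (hp : p.Prime) {P : Type u} [Group P] [Finite P] {R : Subgroup P} {z : P} (h : Rk p R z)
    (h3 : 3 ≤ p ^ (j + 1)) : p ∣ Nat.card {K : Subgroup P // Nat.card K = p ^ (j + 2) ∧ IsCyclic K} := by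
  classical
  haveI hfact := Fact.mk hp
  haveI := h.nor
  set E : Set P := {x | orderOf x = p ^ (j + 2)} with hE
  set Y : Set (P ⧸ R) := (QuotientGroup.mk : P → P ⧸ R) '' E with hY
  have hd1 : p ∣ p ^ (j + 1) := dvd_pow_self p (Nat.succ_ne_zero j)
  have hd2 : p ∣ p ^ (j + 1) * (p ^ (j + 1) - 1) / 2 := by
    rcases hp.eq_two_or_odd' with rfl | hodd
    · have hj : 1 ≤ j := by
        by_contra hj
        have : j = 0 := by omega
        subst this
        norm_num at h3
      obtain ⟨i, rfl⟩ : ∃ i, j = i + 1 := ⟨j - 1, by omega⟩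
      have : 2 ^ (i + 1 + 1) * (2 ^ (i + 1 + 1) - 1) = 2 * (2 * (2 ^ i * (2 ^ (i + 1 + 1) - 1))) := by ring
      rw [this, Nat.mul_div_cancel_left _ (by norm_num)]
      exact dvd_mul_right _ _
    · have h5 : Odd (p ^ (j + 1)) := hodd.pow
      obtain ⟨l, hl⟩ := h5
      have h6 : p ^ (j + 1) - 1 = 2 * l := by omega
      rw [h6]
      have : p ^ (j + 1) * (2 * l) = 2 * (p ^ (j + 1) * l) := by ring
      rw [this, Nat.mul_div_cancel_left _ (by norm_num)]
      exact hd1.mul_right _
  have hpre : (QuotientGroup.mk : P → P ⧸ R) ⁻¹' Y = E := by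
    ext x
    constructor
    · rintro ⟨y, hy, hxy⟩
      have h5 : orderOf y = p ^ (j + 2) := hy
      have h6 : y⁻¹ * x ∈ R := QuotientGroup.eq.1 hxy
      have h7 : x * y⁻¹ ∈ R := by
        have := h.nor.conj_mem _ h6 y
        have e : y * (y⁻¹ * x) * y⁻¹ = x * y⁻¹ := by group
        rwa [e] at this
      have h8 : x ^ p ^ (j + 1) = y ^ p ^ (j + 1) := by
        have := h.mul_pow h7 y hd1 hd2
        rwa [inv_mul_cancel_right] at this
      change orderOf x = p ^ (j + 2)
      apply orderOf_eq_prime_pow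
      · rw [h8]
        intro h9
        have := orderOf_dvd_of_pow_eq_one h9
        rw [h5] at this
        have := (Nat.pow_dvd_pow_iff_le_right hp.one_lt).1 this
        omega
      · rw [pow_succ, pow_mul, h8, ← pow_mul, ← pow_succ, ← h5]
        exact pow_orderOf_eq_one y
    · intro hx; exact ⟨x, hx, rfl⟩
  have hEc : E.ncard = p ^ 2 * Y.ncard := by
    have := H70Kulakoff.ncard_preimage_mk R Y
    rw [hpre, h.card] at this
    exact this
  -- closure
  have hclosed : ∀ x ∈ Y, (∃ i, orderOf x = p ^ (i + 1)) → ∀ y, zpowers y = zpowers x → y ∈ Y := by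
    rintro _ ⟨x, hx, rfl⟩ ⟨i, hi⟩ y hy
    have h5 : y ∈ zpowers (QuotientGroup.mk x : P ⧸ R) := by rw [← hy]; exact mem_zpowers y
    rw [← mem_powers_iff_mem_zpowers] at h5
    obtain ⟨n, hn⟩ := h5
    have hn' : (QuotientGroup.mk x : P ⧸ R) ^ n = y := hn
    have h6 : ¬ p ∣ n := by
      intro h7
      have h8 : orderOf y = orderOf (QuotientGroup.mk x : P ⧸ R) := by
        rw [← Nat.card_zpowers, hy, Nat.card_zpowers]
      have h9 : y ^ p ^ i = 1 := by
        obtain ⟨l, rfl⟩ := h7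
        rw [← hn', ← pow_mul, mul_assoc, mul_comm l, ← mul_assoc, ← pow_succ', pow_mul, ← hi, pow_orderOf_eq_one, one_pow]
      have h10 := orderOf_dvd_of_pow_eq_one h9
      rw [h8, hi] at h10
      have := (Nat.pow_dvd_pow_iff_le_right hp.one_lt).1 h10
      omega
    refine ⟨x ^ n, ?_, by rw [QuotientGroup.mk_pow]; exact hn'⟩
    change orderOf (x ^ n) = p ^ (j + 2)
    have hx' : orderOf x = p ^ (j + 2) := hx
    rw [Nat.Coprime.orderOf_pow, hx']
    rw [hx']
    exact Nat.Coprime.pow_left _ ((Nat.Prime.coprime_iff_not_dvd hp).2 h6)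
  set Y1 : Set (P ⧸ R) := {y | y ∈ Y ∧ orderOf y = p ^ (j + 1)} with hY1
  set Y2 : Set (P ⧸ R) := {y | y ∈ Y ∧ orderOf y = p ^ (j + 2)} with hY2
  have hunion : Y = Y1 ∪ Y2 := by
    ext y
    constructor
    · intro hy
      obtain ⟨x, hx, rfl⟩ := hy
      have hx' : orderOf x = p ^ (j + 2) := hx
      have h5 : orderOf (QuotientGroup.mk x : P ⧸ R) ∣ p ^ (j + 2) := by
        rw [← hx']; exact orderOf_map_dvd (QuotientGroup.mk' R) x
      obtain ⟨i, hi, hi2⟩ := (Nat.dvd_prime_pow hp).1 h5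
      have h6 : j + 1 ≤ i := by
        by_contra hlt
        have h7 : (QuotientGroup.mk x : P ⧸ R) ^ p ^ i = 1 := by rw [← hi2]; exact pow_orderOf_eq_one _
        rw [← QuotientGroup.mk_pow, QuotientGroup.eq_one_iff] at h7
        have h8 := h.exp _ h7
        rw [← pow_mul, ← pow_succ] at h8
        have h9 := orderOf_dvd_of_pow_eq_one h8
        rw [hx'] at h9
        have := (Nat.pow_dvd_pow_iff_le_right hp.one_lt).1 h9
        omega
      rcases Nat.lt_or_ge i (j + 2) with h7 | h7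
      · have h8 : i = j + 1 := by omega
        left; exact ⟨⟨x, hx, rfl⟩, by rw [hi2, h8]⟩
      · have h8 : i = j + 2 := by omega
        right; exact ⟨⟨x, hx, rfl⟩, by rw [hi2, h8]⟩
    · rintro (hy | hy)
      · exact hy.1
      · exact hy.1
  have hdisj : Disjoint Y1 Y2 := by
    rw [Set.disjoint_left]
    rintro y ⟨_, h5⟩ ⟨_, h6⟩
    rw [h5] at h6
    have := Nat.pow_right_injective hp.two_le h6
    omega
  have hc1 := card_closed (p ^ (j + 1)) Y1 (fun x hx => hx.2) (fun x hx y hy =>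
    ⟨hclosed x hx.1 ⟨j, hx.2⟩ y hy, by rw [← Nat.card_zpowers, hy, Nat.card_zpowers]; exact hx.2⟩)
  have hc2 := card_closed (p ^ (j + 2)) Y2 (fun x hx => hx.2) (fun x hx y hy =>
    ⟨hclosed x hx.1 ⟨j + 1, hx.2⟩ y hy, by rw [← Nat.card_zpowers, hy, Nat.card_zpowers]; exact hx.2⟩)
  have hYc : Y.ncard = Y1.ncard + Y2.ncard := by
    conv_lhs => rw [hunion]
    exact Set.ncard_union_eq hdisj
  have hmain := card_cyclic (G := P) (p ^ (j + 2))
  rw [← hE] at hmain
  have ht1 : (p ^ (j + 1)).totient = p ^ j * (p - 1) := by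
    rw [Nat.totient_prime_pow hp (Nat.succ_pos j)]; rfl
  have ht2 : (p ^ (j + 2)).totient = p * (p ^ j * (p - 1)) := by
    rw [Nat.totient_prime_pow hp (by omega), show j + 2 - 1 = j + 1 by omega, pow_succ]; ring
  rw [ht1] at hc1
  rw [ht2] at hc2 hmain
  set φ := p ^ j * (p - 1) with hφ
  have hφ0 : 0 < φ := by
    have := hp.two_le
    exact Nat.mul_pos (pow_pos hp.pos j) (by omega)
  rw [hEc, hYc, hc1, hc2] at hmain
  set a := Nat.card {K : Subgroup (P ⧸ R) // ∃ x ∈ Y1, zpowers x = K}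
  set b := Nat.card {K : Subgroup (P ⧸ R) // ∃ x ∈ Y2, zpowers x = K}
  set c := Nat.card {K : Subgroup P // Nat.card K = p ^ (j + 2) ∧ IsCyclic K}
  refine ⟨a + p * b, ?_⟩
  have h10 : (p * φ) * c = (p * φ) * (p * (a + p * b)) := by
    rw [mul_comm (p * φ) c, ← hmain]; ring
  exact Nat.eq_of_mul_eq_mul_left (Nat.mul_pos hp.pos hφ0) h10

theorem exists_rk_odd {p : ℕ} [hp : Fact p.Prime] (hp2 : p ≠ 2) {P : Type u} [Group P] [Finite P] (hP : IsPGroup p P)
    (hc : ¬ IsCyclic P) : ∃ (R : Subgroup P) (z : P), Rk p R z := by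
  obtain ⟨z, hz, hzo, N, hN, hzN, hNc, hNe, hNcom⟩ := NormalRankTwo.exists_normal_rank_two hp2 (Nat.card P) P rfl hP hc
  exact ⟨N, z, hN, hz, hzo, hzN, hNc, hNe, hNcom⟩

theorem mem_normalizer_of_smul {G : Type u} [Group G] {K : Subgroup G} {g : G} (h : MulAut.conj g • K = K) :
    g ∈ normalizer (K : Set G) := by
  rw [mem_normalizer_iff]
  intro x
  have h1 : x ∈ K ↔ MulAut.conj g x ∈ MulAut.conj g • K := (Subgroup.smul_mem_pointwise_smul_iff).symm
  rw [h] at h1
  exact h1

/-- counting modulo `p` with a `p`-subgroup acting by conjugation -/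
theorem card_modEq_normalized {G : Type u} [Group G] [Finite G] {p : ℕ} [hp : Fact p.Prime] (Q : Subgroup G)
    (hQ : IsPGroup p Q) (F : Subgroup G → Prop) (hF : ∀ (g : G) (K : Subgroup G), F K → F (MulAut.conj g • K)) :
    Nat.card {K : Subgroup G // F K} ≡ Nat.card {K : Subgroup G // F K ∧ Q ≤ normalizer (K : Set G)} [MOD p] := by
  classical
  letI : MulAction Q (Subgroup G) := MulAction.compHom (Subgroup G) (MulAut.conj.comp Q.subtype)
  have hsmul : ∀ (g : Q) (K : Subgroup G), g • K = MulAut.conj (g : G) • K := fun g K => rfl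
  have h1 : p ∣ Nat.card {K : Subgroup G // F K ∧ ¬ Q ≤ normalizer (K : Set G)} := by
    refine WielandtCount.dvd_card_of_orbits (G := Q) _ ?_ _ ?_
    · rintro g K ⟨h4, h5⟩
      refine ⟨hF _ _ h4, ?_⟩
      intro h6
      apply h5
      intro x hx
      have h7 : MulAut.conj (g : G) • K = K := by
        have h8 : (g : G) ∈ normalizer ((g • K : Subgroup G) : Set G) := h6 g.2
        rw [mem_normalizer_iff] at h8
        ext y
        rw [hsmul] at h8
        constructor
        · intro hy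
          have := (h8 y).1 hy
          have h9 : MulAut.conj (g : G) y ∈ MulAut.conj (g : G) • K := this
          exact (Subgroup.smul_mem_pointwise_smul_iff).1 h9
        · intro hy
          have h9 : MulAut.conj (g : G) y ∈ MulAut.conj (g : G) • K := Subgroup.smul_mem_pointwise_smul _ _ _ hy
          exact (h8 y).2 h9
      have h8 : g • K = K := h7
      rw [h8] at h6
      exact h6 hx
    · rintro K ⟨h4, h5⟩
      obtain ⟨n, hn⟩ := hQ.card_orbit K
      rw [hn]
      refine dvd_pow_self p ?_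
      rintro rfl
      rw [pow_zero] at hn
      apply h5
      intro g hg
      apply mem_normalizer_of_smul
      have h6 : Subsingleton (orbit Q K) := (Nat.card_eq_one_iff_unique.1 hn).1
      have h7 := h6.elim ⟨(⟨g, hg⟩ : Q) • K, ⟨⟨g, hg⟩, rfl⟩⟩ ⟨K, mem_orbit_self K⟩
      exact congrArg Subtype.val h7
  have h4 : Nat.card {K : Subgroup G // F K} =
      Nat.card {K : Subgroup G // F K ∧ Q ≤ normalizer (K : Set G)} +
      Nat.card {K : Subgroup G // F K ∧ ¬ Q ≤ normalizer (K : Set G)} := by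
    have h6 : {K : Subgroup G | F K} =
        {K : Subgroup G | F K ∧ Q ≤ normalizer (K : Set G)} ∪
        {K : Subgroup G | F K ∧ ¬ Q ≤ normalizer (K : Set G)} := by
      ext t
      simp only [Set.mem_setOf_eq, Set.mem_union]
      tauto
    have h7 : ({K : Subgroup G | F K}).ncard =
        ({K : Subgroup G | F K ∧ Q ≤ normalizer (K : Set G)}).ncard +
        ({K : Subgroup G | F K ∧ ¬ Q ≤ normalizer (K : Set G)}).ncard := by
      rw [h6, Set.ncard_union_eq]
      rw [Set.disjoint_left]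
      rintro s ⟨_, h1⟩ ⟨_, h2⟩
      exact h2 h1
    exact h7
  rw [h4]
  have h5 := Nat.ModEq.add_left (Nat.card {K : Subgroup G // F K ∧ Q ≤ normalizer (K : Set G)})
    ((Nat.modEq_zero_iff_dvd).2 h1)
  rwa [add_zero] at h5

theorem card_cyclic_modEq {G : Type u} [Group G] [Finite G] {p : ℕ} [hp : Fact p.Prime] (P : Sylow p G) (k : ℕ) :
    Nat.card {K : Subgroup G // Nat.card K = p ^ k ∧ IsCyclic K} ≡
      Nat.card {K : Subgroup P // Nat.card K = p ^ k ∧ IsCyclic K} [MOD p] := by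
  classical
  have hinv : ∀ (X : Type u) [Group X] [Finite X] (g : X) (K : Subgroup X), (Nat.card K = p ^ k ∧ IsCyclic K) →
      (Nat.card (MulAut.conj g • K : Subgroup X) = p ^ k ∧ IsCyclic (MulAut.conj g • K : Subgroup X)) := by
    intro X _ _ g K ⟨h1, h2⟩
    let e := Subgroup.equivSMul (MulAut.conj g) K
    exact ⟨by rw [← h1]; exact (Nat.card_congr e.toEquiv).symm, (e.isCyclic).1 h2⟩
  have h1 := card_modEq_normalized (P : Subgroup G) P.isPGroup' (fun K => Nat.card K = p ^ k ∧ IsCyclic K)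
    (hinv G)
  have h2 := card_modEq_normalized (G := (P : Subgroup G)) ⊤ (P.isPGroup'.to_subgroup _)
    (fun K => Nat.card K = p ^ k ∧ IsCyclic K) (hinv _)
  refine h1.trans (Nat.ModEq.trans ?_ h2.symm)
  have h3 : Nat.card {K : Subgroup G // (Nat.card K = p ^ k ∧ IsCyclic K) ∧ (P : Subgroup G) ≤ normalizer (K : Set G)} =
      Nat.card {K : Subgroup (P : Subgroup G) // (Nat.card K = p ^ k ∧ IsCyclic K) ∧ ⊤ ≤ normalizer (K : Set (P : Subgroup G))} := by
    have hle : ∀ K : Subgroup G, (Nat.card K = p ^ k ∧ IsCyclic K) → (P : Subgroup G) ≤ normalizer (K : Set G) →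
        K ≤ (P : Subgroup G) := by
      intro K hK hP
      have h5 : IsPGroup p ((P : Subgroup G) ⊔ K : Subgroup G) :=
        IsPGroup.to_sup_of_normal_right' P.isPGroup' (IsPGroup.of_card hK.1) hP
      have h6 := P.is_maximal' h5 le_sup_left
      rw [← h6]
      exact le_sup_right
    refine Nat.card_congr ⟨fun K => ⟨K.1.subgroupOf (P : Subgroup G), ?_, ?_⟩,
      fun K => ⟨K.1.map (P : Subgroup G).subtype, ?_, ?_⟩, ?_, ?_⟩
    · have e := Subgroup.subgroupOfEquivOfLe (hle K.1 K.2.1 K.2.2)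
      exact ⟨by rw [Nat.card_congr e.toEquiv, K.2.1.1], (e.isCyclic).2 K.2.1.2⟩
    · intro g _
      rw [mem_normalizer_iff]
      intro x
      exact (mem_normalizer_iff.1 (K.2.2 g.2)) x
    · have e := K.1.equivMapOfInjective (P : Subgroup G).subtype (Subgroup.subtype_injective _)
      exact ⟨by rw [← Nat.card_congr e.toEquiv, K.2.1.1], (e.isCyclic).1 K.2.1.2⟩
    · intro g hg
      have h5 : (⟨g, hg⟩ : (P : Subgroup G)) ∈ normalizer (K.1 : Set (P : Subgroup G)) := K.2.2 (mem_top _)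
      rw [mem_normalizer_iff] at h5 ⊢
      intro x
      constructor
      · rintro ⟨y, hy, rfl⟩
        exact ⟨⟨g, hg⟩ * y * ⟨g, hg⟩⁻¹, (h5 y).1 hy, rfl⟩
      · rintro ⟨y, hy, hy2⟩
        refine ⟨⟨g, hg⟩⁻¹ * y * ⟨g, hg⟩, ?_, ?_⟩
        · apply (h5 _).2
          have : (⟨g, hg⟩ : (P : Subgroup G)) * (⟨g, hg⟩⁻¹ * y * ⟨g, hg⟩) * ⟨g, hg⟩⁻¹ = y := by group
          rw [this]; exact hy
        · change g⁻¹ * (y : G) * g = x
          have h6 : (y : G) = g * x * g⁻¹ := hy2
          rw [h6]; group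
    · intro K
      apply Subtype.ext
      exact Subgroup.map_subgroupOf_eq_of_le (hle K.1 K.2.1 K.2.2)
    · intro K
      apply Subtype.ext
      exact Subgroup.comap_map_eq_self_of_injective (Subgroup.subtype_injective _) _
  rw [h3]

theorem card_split {G : Type u} [Group G] [Finite G] (n : ℕ) :
    Nat.card {K : Subgroup G // Nat.card K = n} =
      Nat.card {K : Subgroup G // Nat.card K = n ∧ IsCyclic K} +
      Nat.card {K : Subgroup G // Nat.card K = n ∧ ¬ IsCyclic K} := by
  have h6 : {K : Subgroup G | Nat.card K = n} =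
      {K : Subgroup G | Nat.card K = n ∧ IsCyclic K} ∪ {K : Subgroup G | Nat.card K = n ∧ ¬ IsCyclic K} := by
    ext t
    simp only [Set.mem_setOf_eq, Set.mem_union]
    tauto
  have h7 : ({K : Subgroup G | Nat.card K = n}).ncard =
      ({K : Subgroup G | Nat.card K = n ∧ IsCyclic K}).ncard +
      ({K : Subgroup G | Nat.card K = n ∧ ¬ IsCyclic K}).ncard := by
    rw [h6, Set.ncard_union_eq]
    rw [Set.disjoint_left]
    rintro s ⟨_, h1⟩ ⟨_, h2⟩
    exact h2 h1
  exact h7

theorem mul_modEq {p a b : ℕ} (h : a ≡ b [MOD p]) : p * a ≡ p * b [MOD p ^ 2] := by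
  rw [pow_two]
  exact Nat.ModEq.mul_left' p h

/-- `p` divides the number of cyclic subgroups implies the count is `1 + p` -/
theorem of_cyclic_zero {G : Type u} [Group G] [Finite G] {p b : ℕ} (hp : p.Prime) (hd : p ^ (b + 1) ∣ Nat.card G)
    (h : Nat.card {K : Subgroup G // Nat.card K = p ^ (b + 1) ∧ IsCyclic K} ≡ 0 [MOD p]) :
    Nat.card {H : Subgroup G // Nat.card H = p ^ b} ≡ 1 + p [MOD p ^ 2] := by
  refine (H70Kulakoff.main hp hd).trans ?_
  have h1 := WielandtCount.card_subgroups_modEq p (b + 1) hp hd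
  rw [card_split] at h1
  have h2 : Nat.card {K : Subgroup G // Nat.card K = p ^ (b + 1) ∧ ¬ IsCyclic K} ≡ 1 [MOD p] := by
    have h3 := (h.add_right (Nat.card {K : Subgroup G // Nat.card K = p ^ (b + 1) ∧ ¬ IsCyclic K}))
    rw [zero_add] at h3
    exact h3.symm.trans h1
  have h3 := (mul_modEq h2).add_left 1
  rwa [mul_one] at h3

theorem of_cyclic_one {G : Type u} [Group G] [Finite G] {p b : ℕ} (hp : p.Prime) (hd : p ^ (b + 1) ∣ Nat.card G)
    (h : Nat.card {K : Subgroup G // Nat.card K = p ^ (b + 1) ∧ IsCyclic K} ≡ 1 [MOD p]) :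
    Nat.card {H : Subgroup G // Nat.card H = p ^ b} ≡ 1 [MOD p ^ 2] := by
  refine (H70Kulakoff.main hp hd).trans ?_
  have h1 := WielandtCount.card_subgroups_modEq p (b + 1) hp hd
  rw [card_split] at h1
  have h2 : Nat.card {K : Subgroup G // Nat.card K = p ^ (b + 1) ∧ ¬ IsCyclic K} ≡ 0 [MOD p] := by
    have h3 := (h.add_right (Nat.card {K : Subgroup G // Nat.card K = p ^ (b + 1) ∧ ¬ IsCyclic K}))
    have h4 := h3.symm.trans h1
    exact Nat.ModEq.add_left_cancel' 1 (by rw [add_zero]; exact h4)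
  have h3 := (mul_modEq h2).add_left 1
  rwa [mul_zero, add_zero] at h3

theorem kulakoff {G : Type u} [Group G] [Finite G] (p a : ℕ) (hp : p.Prime) (hdvd : p ^ (a + 1) ∣ Nat.card G) :
    Nat.card {H : Subgroup G // Nat.card H = p ^ a} ≡ 1 [MOD p ^ 2] ∨
      Nat.card {H : Subgroup G // Nat.card H = p ^ a} ≡ 1 + p [MOD p ^ 2] := by
  classical
  haveI := Fact.mk hp
  by_cases hp2 : p = 2
  · subst hp2
    have h1 := H70Kulakoff.main hp hdvd
    rcases Nat.mod_two_eq_zero_or_one (Nat.card {K : Subgroup G // Nat.card K = 2 ^ (a + 1) ∧ ¬ IsCyclic K}) with h2 | h2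
    · left
      refine h1.trans ?_
      have h3 := (mul_modEq (p := 2) (a := _) (b := 0) h2).add_left 1
      rwa [mul_zero, add_zero] at h3
    · right
      refine h1.trans ?_
      have h3 := (mul_modEq (p := 2) (a := _) (b := 1) h2).add_left 1
      rwa [mul_one] at h3
  rcases Nat.eq_zero_or_pos a with rfl | ha
  · left
    apply of_cyclic_one hp hdvd
    have h1 := WielandtCount.card_subgroups_modEq p (0 + 1) hp hdvd
    rw [card_split] at h1
    have h2 : Nat.card {K : Subgroup G // Nat.card K = p ^ (0 + 1) ∧ ¬ IsCyclic K} = 0 := by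
      rw [Nat.card_eq_zero]
      left
      refine ⟨fun K => K.2.2 ?_⟩
      have h3 : Nat.card K.1 = p := K.2.1.trans (by rw [zero_add, pow_one])
      exact isCyclic_of_prime_card h3
    rwa [h2, add_zero] at h1
  · let P : Sylow p G := default
    have hPd : p ^ (a + 1) ∣ Nat.card (P : Subgroup G) := P.pow_dvd_card_of_pow_dvd_card hdvd
    have h1 := card_cyclic_modEq P (a + 1)
    by_cases hPc : IsCyclic (P : Subgroup G)
    · left
      apply of_cyclic_one hp hdvd
      refine h1.trans ?_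
      have h2 := WielandtCount.card_subgroups_modEq (G := (P : Subgroup G)) p (a + 1) hp hPd
      rw [card_split] at h2
      have h3 : Nat.card {K : Subgroup (P : Subgroup G) // Nat.card K = p ^ (a + 1) ∧ ¬ IsCyclic K} = 0 := by
        rw [Nat.card_eq_zero]
        left
        exact ⟨fun K => K.2.2 inferInstance⟩
      rwa [h3, add_zero] at h2
    · right
      apply of_cyclic_zero hp hdvd
      refine h1.trans ?_
      obtain ⟨R, z, h⟩ := exists_rk_odd hp2 P.isPGroup' hPc
      obtain ⟨j, rfl⟩ : ∃ j, a = j + 1 := ⟨a - 1, by omega⟩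
      rw [Nat.modEq_zero_iff_dvd]
      apply h.miller hp
      have h3 : 3 ≤ p := lt_of_le_of_ne hp.two_le (Ne.symm hp2)
      calc 3 ≤ p := h3
        _ = p ^ 1 := (pow_one p).symm
        _ ≤ p ^ (j + 1) := Nat.pow_le_pow_right hp.pos (by omega)

end Cfsg.Agent.Lib.H70Miller
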