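import Mathlib
import Cfsg.Agent.Lib.OmegaFix

/-!
# Odd order groups acting on 2-groups and fixing the elements of order dividing 4 (helper70)
-/

set_option autoImplicit false

namespace Cfsg.Agent.Lib.H70OmegaTwo

open Subgroup Cfsg
open scoped commutatorElement
open Cfsg.Agent.Lib.PGroupOdd Cfsg.Agent.Lib.PGroupRank Cfsg.Agent.Lib.CopElem Cfsg.Agent.Lib.OmegaFix

variable {G : Type*} [Group G]

theorem le_centralizer_of_pow_four_aux [Finite G] :
    ∀ (n : ℕ) (K A : Subgroup G), Nat.card K = n → IsPGroup 2 K → A ≤ normalizer (K : Set G) →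
      (Nat.card A).Coprime 2 → (∀ x ∈ K, x ^ 4 = 1 → ∀ a ∈ A, a * x = x * a) →
      A ≤ centralizer (K : Set G) := by
  have hp2 : Fact (Nat.Prime 2) := ⟨Nat.prime_two⟩
  intro n
  induction n using Nat.strong_induction_on with
  | _ n ih =>
  intro K A hn hK hAK hcop hfix
  obtain ⟨k, hk⟩ := IsPGroup.iff_card.mp hK
  have hcop' : (Nat.card A).Coprime (Nat.card K) := by
    rw [hk]; exact Nat.Coprime.pow_right k hcop
  by_cases hK1 : K = ⊥
  · rw [hK1]
    intro a _
    rw [mem_centralizer_iff]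
    intro x hx
    rw [mem_bot.mp hx]; simp
  have hLK : ⁅K, A⁆ ≤ K := le_normalizer_iff_commutator_le_left.mp hAK
  by_cases hL : ⁅K, A⁆ = K
  swap
  · have hLc : Nat.card (⁅K, A⁆ : Subgroup G) < n := by
      rw [← hn]
      exact Set.ncard_lt_ncard (SetLike.coe_ssubset_coe.mpr (lt_of_le_of_ne hLK hL))
    have h1 : A ≤ centralizer ((⁅K, A⁆ : Subgroup G) : Set G) :=
      ih _ hLc _ _ rfl (hK.to_le hLK) (normalizer_commutator_ge_right K A) hcop
        (fun x hx => hfix x (hLK hx))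
    exact le_centralizer_of_commutator_commutator_eq_bot hcop' hAK (by
      rw [commutator_eq_bot_iff_le_centralizer, le_centralizer_iff]; exact h1)
  set M : Subgroup G := (frattini K).map K.subtype with hM
  have hMK : M < K := frattini_map_lt hK1
  have hMA : A ≤ centralizer (M : Set G) :=
    ih _ (by rw [← hn]; exact Set.ncard_lt_ncard hMK) _ _ rfl (hK.to_le hMK.le)
      (hAK.trans normalizer_le_frattini_map) hcop (fun x hx => hfix x (hMK.le hx))
  have hMA' : ⁅M, A⁆ = ⊥ := by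
    rw [commutator_eq_bot_iff_le_centralizer, le_centralizer_iff]; exact hMA
  have hKM : ⁅K, M⁆ ≤ M := by
    rw [commutator_comm, ← le_normalizer_iff_commutator_le_left]
    exact le_normalizer.trans normalizer_le_frattini_map
  have h1 : ⁅⁅A, K⁆, M⁆ = ⊥ := by
    apply commutator_commutator_eq_bot_of_rotate
    · rw [eq_bot_iff, ← hMA']
      exact commutator_mono hKM le_rfl
    · rw [hMA', commutator_bot_left]
  rw [commutator_comm A K, hL, commutator_eq_bot_iff_le_centralizer] at h1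
  have hpow : ∀ x ∈ K, x ^ 2 ∈ M := by
    intro x hx
    exact ⟨⟨x, hx⟩ ^ 2, HBBasic.pow_mem_frattini hK _, rfl⟩
  have hcomm : ∀ x ∈ K, ∀ y ∈ K, ⁅x, y⁆ ∈ M := by
    intro x hx y hy
    refine ⟨⁅(⟨x, hx⟩ : K), ⟨y, hy⟩⁆, HBBasic.commutator_le_frattini hK ?_, rfl⟩
    exact commutator_mem_commutator (mem_top _) (mem_top _)
  have hcen : ∀ x ∈ K, ∀ m ∈ M, Commute m x := fun x hx m hm => mem_centralizer_iff.mp (h1 hx) m hm
  have hall : K ≤ centralizer (A : Set G) := by
    conv_lhs => rw [← hL]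
    rw [commutator_le]
    intro x hx a ha
    set y := a * x⁻¹ * a⁻¹ with hy
    have hyK : y ∈ K := ((mem_normalizer_iff.mp (hAK ha)) _).mp (K.inv_mem hx)
    have h4 : ⁅x, a⁆ = x * y := by rw [commutatorElement_def, hy]; group
    have hc : ⁅y⁻¹, x⁻¹⁆ ∈ M := hcomm _ (K.inv_mem hyK) _ (K.inv_mem hx)
    set c := ⁅y⁻¹, x⁻¹⁆ with hcdef
    have h2 : y * x = x * y * c := by rw [hcdef, commutatorElement_def]; group
    have h5 : (x * y) ^ 2 = x ^ 2 * y ^ 2 * c := by
      have := mul_pow_of_comm h2 (hcen x hx _ hc) (hcen y hyK _ hc) (n := 2)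
      simpa using this
    have h6 : c ^ 2 = 1 :=
      pow_eq_one_of_comm' h2 (hcen y hyK _ hc) (hcen x hx _ (hpow y hyK))
    have h7 : x ^ 2 * y ^ 2 = 1 := by
      have h8 : a * (x ^ 2) = x ^ 2 * a := (mem_centralizer_iff.mp (hMA ha) _ (hpow x hx)).symm
      have h9 : a * (x ^ 2)⁻¹ = (x ^ 2)⁻¹ * a := by
        rw [eq_inv_mul_iff_mul_eq, ← mul_assoc, ← h8]; group
      rw [hy, conj_pow, inv_pow, h9]; group
    have h10 : ⁅x, a⁆ ^ 4 = 1 := by
      rw [h4, show 4 = 2 * 2 from rfl, pow_mul, h5, h7, one_mul, h6]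
    rw [mem_centralizer_iff]
    intro b hb
    exact hfix _ (hLK (commutator_mem_commutator hx ha)) h10 b hb
  exact le_centralizer_iff.1 hall

/-- An odd order group normalizing the 2-group `K` and centralizing all elements of order dividing `4` of `K`
centralizes `K`. -/
theorem le_centralizer_of_pow_four [Finite G] (K A : Subgroup G) (hK : IsPGroup 2 K)
    (hA : A ≤ normalizer (K : Set G)) (hcop : (Nat.card A).Coprime 2)
    (hfix : ∀ x ∈ K, x ^ 4 = 1 → ∀ a ∈ A, a * x = x * a) : A ≤ centralizer (K : Set G) :=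
  le_centralizer_of_pow_four_aux _ K A rfl hK hA hcop hfix

end Cfsg.Agent.Lib.H70OmegaTwo
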