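import Mathlib
import Cfsg.Prelude.Def_PLocal
import Cfsg.Agent.Lib.H70Frattini
import Cfsg.Agent.Lib.H70HallPetrescu

/-!
# Regular `p`-groups (helper70)

`RegAt p n G` : the regularity condition for the exponent `p ^ n`.
-/

set_option autoImplicit false
open scoped commutatorElement
open Cfsg Subgroup

namespace Cfsg.Agent.Lib.H70Regular

/-- regularity at one exponent -/
def RegAt (p n : ℕ) (G : Type*) [Group G] : Prop :=
  ∀ a b : G, ∃ c ∈ powerClosure p n ⁅closure ({a, b} : Set G), closure ({a, b} : Set G)⁆,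
      (a * b) ^ (p ^ n) = a ^ (p ^ n) * b ^ (p ^ n) * c

variable {G : Type*} [Group G] {p n : ℕ}

theorem powerClosure_mono {H K : Subgroup G} (h : H ≤ K) : powerClosure p n H ≤ powerClosure p n K := by
  apply Subgroup.closure_mono
  rintro _ ⟨x, hx, rfl⟩
  exact ⟨x, h hx, rfl⟩

theorem pow_mem_powerClosure {H : Subgroup G} {x : G} (hx : x ∈ H) : x ^ p ^ n ∈ powerClosure p n H :=
  Subgroup.subset_closure ⟨x, hx, rfl⟩

theorem powerClosure_le {H : Subgroup G} : powerClosure p n H ≤ H := by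
  rw [powerClosure, Subgroup.closure_le]
  rintro _ ⟨x, hx, rfl⟩
  exact H.pow_mem hx _

theorem powerClosure_eq_bot {H : Subgroup G} (h : ∀ x ∈ H, x ^ p ^ n = 1) : powerClosure p n H = ⊥ := by
  rw [powerClosure, Subgroup.closure_eq_bot_iff]
  rintro _ ⟨x, hx, rfl⟩
  exact h x hx

theorem powerClosure_map {K : Type*} [Group K] (H : Subgroup G) (f : G →* K) :
    (powerClosure p n H).map f = powerClosure p n (H.map f) := by
  unfold powerClosure
  rw [MonoidHom.map_closure]
  congr 1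
  ext y
  constructor
  · rintro ⟨_, ⟨x, hx, rfl⟩, rfl⟩
    exact ⟨f x, ⟨x, hx, rfl⟩, by simp⟩
  · rintro ⟨_, ⟨x, hx, rfl⟩, rfl⟩
    exact ⟨x ^ p ^ n, ⟨x, hx, rfl⟩, by simp⟩

theorem conj_mem_powerClosure {H : Subgroup G} {g x : G} (hg : ∀ y ∈ H, g * y * g⁻¹ ∈ H)
    (hx : x ∈ powerClosure p n H) : g * x * g⁻¹ ∈ powerClosure p n H := by
  induction hx using Subgroup.closure_induction with
  | mem x hx =>
    obtain ⟨y, hy, rfl⟩ := hx
    rw [← conj_pow]
    exact pow_mem_powerClosure (hg y hy)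
  | one => simp [one_mem]
  | mul a b _ _ ha hb =>
    have : g * (a * b) * g⁻¹ = (g * a * g⁻¹) * (g * b * g⁻¹) := by group
    rw [this]; exact mul_mem ha hb
  | inv a _ ha =>
    have : g * a⁻¹ * g⁻¹ = (g * a * g⁻¹)⁻¹ := by group
    rw [this]; exact inv_mem ha

/-- a group generated by two elements: the commutator subgroup is the normal closure of `⁅a,b⁆` -/
theorem commutator_le_of_gen {K : Type*} [Group K] {a b : K} (h : closure ({a, b} : Set K) = ⊤)
    (N : Subgroup K) [N.Normal] (hN : ⁅a, b⁆ ∈ N) : commutator K ≤ N := by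
  rw [← Subgroup.Normal.quotient_commutative_iff_commutator_le]
  have hab : ((a : K) : K ⧸ N) * (b : K ⧸ N) = (b : K ⧸ N) * (a : K ⧸ N) := by
    rw [← QuotientGroup.eq_one_iff] at hN
    change (QuotientGroup.mk' N) ⁅a, b⁆ = 1 at hN
    rw [map_commutatorElement, commutatorElement_eq_one_iff_mul_comm] at hN
    exact hN
  have htop : closure ({(a : K ⧸ N), (b : K ⧸ N)} : Set (K ⧸ N)) = ⊤ := by
    have h1 := congrArg (Subgroup.map (QuotientGroup.mk' N)) h
    rw [MonoidHom.map_closure, Set.image_pair, ← MonoidHom.range_eq_map,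
      MonoidHom.range_eq_top.2 (QuotientGroup.mk'_surjective N)] at h1
    exact h1
  have key : ∀ z : K ⧸ N, Commute (a : K ⧸ N) z → Commute (b : K ⧸ N) z → ∀ y, Commute y z := by
    intro z h1 h2 y
    have h3 : closure ({(a : K ⧸ N), (b : K ⧸ N)} : Set (K ⧸ N)) ≤ centralizer {z} := by
      rw [closure_le]
      rintro x (rfl | rfl)
      · exact mem_centralizer_singleton_iff.2 h1
      · exact mem_centralizer_singleton_iff.2 h2
    rw [htop] at h3
    exact mem_centralizer_singleton_iff.1 (h3 (mem_top y))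
  have ha := key (a : K ⧸ N) (Commute.refl _) hab.symm
  have hb := key (b : K ⧸ N) hab (Commute.refl _)
  refine ⟨⟨fun x y => ?_⟩⟩
  exact (key y (ha y).symm (hb y).symm x)

theorem commutator_closure_pair_le (a b : G) (N : Subgroup G)
    (hN : ∀ k ∈ closure ({a, b} : Set G), ∀ x ∈ N, k * x * k⁻¹ ∈ N) (hab : ⁅a, b⁆ ∈ N) :
    ⁅closure ({a, b} : Set G), closure ({a, b} : Set G)⁆ ≤ N := by
  set K := closure ({a, b} : Set G) with hK
  have ha : a ∈ K := subset_closure (by simp)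
  have hb : b ∈ K := subset_closure (by simp)
  have hn : (N.subgroupOf K).Normal := by
    constructor
    intro x hx k
    exact hN k k.2 x hx
  have hgen : closure ({(⟨a, ha⟩ : K), ⟨b, hb⟩} : Set K) = ⊤ := by
    have h1 := closure_closure_coe_preimage (k := ({a, b} : Set G))
    rw [← h1]
    congr 1
    ext x
    simp only [Set.mem_insert_iff, Set.mem_singleton_iff, Set.mem_preimage, Subtype.ext_iff]
  have h2 := commutator_le_of_gen hgen (N.subgroupOf K) hab
  rw [← map_subtype_commutator]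
  rintro _ ⟨x, hx, rfl⟩
  exact h2 hx

/-- in a finite `p`-group, `⟨a⟩K'` is a proper subgroup of `K` unless `K` is commutative -/
theorem lt_of_not_comm [Finite G] [Fact p.Prime] (hG : IsPGroup p G) {K : Subgroup G} {a : G} (ha : a ∈ K)
    (hK : ¬ ∀ x ∈ K, ∀ y ∈ K, x * y = y * x) : closure {a} ⊔ ⁅K, K⁆ < K := by
  refine lt_of_le_of_ne (sup_le ?_ (commutator_le_self K)) ?_
  · rw [closure_le]; simpa using ha
  · intro h
    apply hK
    have h1 : closure {(⟨a, ha⟩ : K)} ⊔ frattini K = ⊤ := by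
      rw [eq_top_iff]
      have h2 : closure {(⟨a, ha⟩ : K)} ⊔ commutator K = ⊤ := by
        apply map_injective K.subtype_injective
        rw [Subgroup.map_sup, MonoidHom.map_closure, map_subtype_commutator, ← MonoidHom.range_eq_map, range_subtype]
        simpa using h
      rw [← h2]
      exact sup_le_sup le_rfl (Cfsg.Agent.Lib.H70Frattini.commutator_le_frattini (hG.to_subgroup K))
    have h2 := frattini_nongenerating h1
    intro x hx y hy
    have hx' : (⟨x, hx⟩ : K) ∈ closure {(⟨a, ha⟩ : K)} := by rw [h2]; trivial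
    have hy' : (⟨y, hy⟩ : K) ∈ closure {(⟨a, ha⟩ : K)} := by rw [h2]; trivial
    rw [mem_closure_singleton] at hx' hy'
    obtain ⟨i, hi⟩ := hx'
    obtain ⟨j, hj⟩ := hy'
    have h3 : (⟨x, hx⟩ : K) * ⟨y, hy⟩ = ⟨y, hy⟩ * ⟨x, hx⟩ := by
      rw [← hi, ← hj, ← zpow_add, ← zpow_add, add_comm]
    exact congrArg Subtype.val h3

theorem closure_pair_comm {a b : G} (h : a * b = b * a) :
    ⁅closure ({a, b} : Set G), closure ({a, b} : Set G)⁆ = ⊥ := by
  rw [eq_bot_iff]
  apply commutator_closure_pair_le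
  · intro k _ x hx
    rw [mem_bot] at hx ⊢
    rw [hx]; simp
  · rw [mem_bot, commutatorElement_eq_one_iff_mul_comm]; exact h

/-- **(B)**: elements with `x ^ q = 1` form a subgroup -/
theorem mul_pow_eq_one [Finite G] [Fact p.Prime] (hG : IsPGroup p G) (h : RegAt p n G) (m : ℕ) :
    ∀ K : Subgroup G, Nat.card K = m → ∀ a ∈ K, ∀ b ∈ K, a ^ p ^ n = 1 → b ^ p ^ n = 1 →
      (a * b) ^ p ^ n = 1 := by
  induction m using Nat.strong_induction_on with
  | _ m ih =>
  intro K hm a ha b hb ha1 hb1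
  by_cases hK : ∀ x ∈ K, ∀ y ∈ K, x * y = y * x
  · rw [(show Commute a b from hK a ha b hb).mul_pow, ha1, hb1, one_mul]
  have hlt := lt_of_not_comm hG ha hK
  set M := closure {a} ⊔ ⁅K, K⁆ with hM
  have hcM : Nat.card M < m := by
    rw [← hm]
    exact Set.ncard_lt_ncard hlt (Set.toFinite _)
  have haM : a ∈ M := mem_sup_left (subset_closure (Set.mem_singleton a))
  have hKM : ⁅K, K⁆ ≤ M := le_sup_right
  have hcomM : ∀ x ∈ K, ∀ y ∈ K, ⁅x, y⁆ ∈ M := fun x hx y hy => hKM (commutator_mem_commutator hx hy)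
  -- `⁅a,b⁆` has order dividing `q`
  have h1 : ⁅a, b⁆ ^ p ^ n = 1 := by
    have h2 : ⁅a, b⁆ = a * (b * a⁻¹ * b⁻¹) := by rw [commutatorElement_def]; group
    rw [h2]
    refine ih _ hcM M rfl a haM _ ?_ ha1 ?_
    · have h3 : b * a⁻¹ * b⁻¹ = a⁻¹ * ⁅a, b⁆ := by rw [commutatorElement_def]; group
      rw [h3]
      exact mul_mem (inv_mem haM) (hcomM a ha b hb)
    · rw [conj_pow, inv_pow, ha1]; simp
  -- all elements of `⁅⟨a,b⟩, ⟨a,b⟩⁆` have order dividing `q`
  let W : Subgroup G :=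
    { carrier := {x | x ∈ ⁅K, K⁆ ∧ x ^ p ^ n = 1}
      one_mem' := ⟨one_mem _, one_pow _⟩
      mul_mem' := by
        rintro x y ⟨hx, hx1⟩ ⟨hy, hy1⟩
        exact ⟨mul_mem hx hy, ih _ hcM M rfl x (hKM hx) y (hKM hy) hx1 hy1⟩
      inv_mem' := by
        rintro x ⟨hx, hx1⟩
        exact ⟨inv_mem hx, by rw [inv_pow, hx1, inv_one]⟩ }
  have hle : closure ({a, b} : Set G) ≤ K := by
    rw [closure_le]
    rintro x (rfl | rfl)
    · exact ha
    · exact hb
  have hW : ⁅closure ({a, b} : Set G), closure ({a, b} : Set G)⁆ ≤ W := by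
    apply commutator_closure_pair_le
    · rintro k hk x ⟨hx, hx1⟩
      refine ⟨?_, by rw [conj_pow, hx1]; simp⟩
      have h3 : k * x * k⁻¹ = ⁅k, x⁆ * x := by rw [commutatorElement_def]; group
      rw [h3]
      exact mul_mem (commutator_mem_commutator (hle hk) (commutator_le_self K hx)) hx
    · exact ⟨commutator_mem_commutator ha hb, h1⟩
  obtain ⟨c, hc, hab⟩ := h a b
  rw [powerClosure_eq_bot (fun x hx => (hW hx).2), mem_bot] at hc
  rw [hab, hc, ha1, hb1]; simp

/-- if `⁅a,b⁆ ^ q = 1` then `(ab)^q = a^q b^q` -/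
theorem mul_pow_of_commutator [Finite G] [Fact p.Prime] (hG : IsPGroup p G) (h : RegAt p n G) {a b : G}
    (hab : ⁅a, b⁆ ^ p ^ n = 1) : (a * b) ^ p ^ n = a ^ p ^ n * b ^ p ^ n := by
  let W : Subgroup G :=
    { carrier := {x | x ^ p ^ n = 1}
      one_mem' := one_pow _
      mul_mem' := by
        intro x y hx hy
        exact mul_pow_eq_one hG h _ ⊤ rfl x (mem_top _) y (mem_top _) hx hy
      inv_mem' := by
        intro x hx
        change x⁻¹ ^ p ^ n = 1
        rw [inv_pow, (show x ^ p ^ n = 1 from hx), inv_one] }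
  have hW : ⁅closure ({a, b} : Set G), closure ({a, b} : Set G)⁆ ≤ W := by
    apply commutator_closure_pair_le
    · intro k _ x hx
      change (k * x * k⁻¹) ^ p ^ n = 1
      rw [conj_pow, (show x ^ p ^ n = 1 from hx)]; simp
    · exact hab
  obtain ⟨c, hc, h1⟩ := h a b
  rw [powerClosure_eq_bot (fun x hx => hW hx), mem_bot] at hc
  rw [h1, hc, mul_one]

/-- **(A)**, first half -/
theorem pow_eq_of_mul_inv_pow [Finite G] [Fact p.Prime] (hG : IsPGroup p G) (h : RegAt p n G) {a b : G}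
    (hab : (a * b⁻¹) ^ p ^ n = 1) : a ^ p ^ n = b ^ p ^ n := by
  have h1 : ⁅a * b⁻¹, b⁆ ^ p ^ n = 1 := by
    have h2 : ⁅a * b⁻¹, b⁆ = (a * b⁻¹) * (b * (a * b⁻¹)⁻¹ * b⁻¹) := by
      rw [commutatorElement_def]; group
    rw [h2]
    apply mul_pow_eq_one hG h _ ⊤ rfl _ (mem_top _) _ (mem_top _) hab
    rw [conj_pow, inv_pow, hab]; simp
  have h2 := mul_pow_of_commutator hG h h1
  rw [hab, one_mul, inv_mul_cancel_right] at h2
  exact h2

/-- **(A)**, second half -/
theorem mul_inv_pow_of_pow_eq [Finite G] [Fact p.Prime] (hG : IsPGroup p G) (h : RegAt p n G) (m : ℕ) :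
    ∀ K : Subgroup G, Nat.card K = m → ∀ a ∈ K, ∀ b ∈ K, a ^ p ^ n = b ^ p ^ n →
      (a * b⁻¹) ^ p ^ n = 1 := by
  induction m using Nat.strong_induction_on with
  | _ m ih =>
  intro K hm a ha b hb hab
  by_cases hK : ∀ x ∈ K, ∀ y ∈ K, x * y = y * x
  · rw [(show Commute a b⁻¹ from hK a ha b⁻¹ (inv_mem hb)).mul_pow, hab, inv_pow, mul_inv_cancel]
  have hlt := lt_of_not_comm hG ha hK
  set M := closure {a} ⊔ ⁅K, K⁆ with hM
  have hcM : Nat.card M < m := by
    rw [← hm]
    exact Set.ncard_lt_ncard hlt (Set.toFinite _)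
  have haM : a ∈ M := mem_sup_left (subset_closure (Set.mem_singleton a))
  have h1 : (b⁻¹ * a * b⁻¹⁻¹) ^ p ^ n = a ^ p ^ n := by
    rw [conj_pow, hab, inv_inv]
    rw [mul_assoc, ← pow_succ, pow_succ', inv_mul_cancel_left]
  have h2 : (a * (b⁻¹ * a * b⁻¹⁻¹)⁻¹) ^ p ^ n = 1 := by
    refine ih _ hcM M rfl a haM _ ?_ h1.symm
    have h3 : b⁻¹ * a * b⁻¹⁻¹ = ⁅b⁻¹, a⁆ * a := by rw [commutatorElement_def]; group
    rw [h3]
    exact mul_mem ((le_sup_right : ⁅K, K⁆ ≤ M) (commutator_mem_commutator (inv_mem hb) ha)) haM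
  have h3 : ⁅a, b⁻¹⁆ ^ p ^ n = 1 := by
    have h4 : ⁅a, b⁻¹⁆ = a * (b⁻¹ * a * b⁻¹⁻¹)⁻¹ := by rw [commutatorElement_def]; group
    rw [h4]; exact h2
  rw [mul_pow_of_commutator hG h h3, hab, inv_pow, mul_inv_cancel]

theorem pow_eq_iff [Finite G] [Fact p.Prime] (hG : IsPGroup p G) (h : RegAt p n G) (a b : G) :
    a ^ p ^ n = b ^ p ^ n ↔ (a * b⁻¹) ^ p ^ n = 1 :=
  ⟨fun hab => mul_inv_pow_of_pow_eq hG h _ ⊤ rfl a (mem_top _) b (mem_top _) hab,
    fun hab => pow_eq_of_mul_inv_pow hG h hab⟩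

/-- **(P)**: the `q`-th powers form a subgroup -/
theorem exists_pow_eq [Finite G] [Fact p.Prime] (hG : IsPGroup p G) (h : RegAt p n G) (m : ℕ) :
    ∀ K : Subgroup G, Nat.card K = m → ∀ x ∈ powerClosure p n K, ∃ y ∈ K, x = y ^ p ^ n := by
  induction m using Nat.strong_induction_on with
  | _ m ih =>
  intro K hm
  have hmul : ∀ a ∈ K, ∀ b ∈ K, ∃ y ∈ K, a ^ p ^ n * b ^ p ^ n = y ^ p ^ n := by
    intro a ha b hb
    by_cases hK : ∀ x ∈ K, ∀ y ∈ K, x * y = y * x
    · exact ⟨a * b, mul_mem ha hb, ((show Commute a b from hK a ha b hb).mul_pow _).symm⟩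
    have hlt := lt_of_not_comm hG (mul_mem ha hb) hK
    set M := closure {a * b} ⊔ ⁅K, K⁆ with hM
    have hcM : Nat.card M < m := by
      rw [← hm]
      exact Set.ncard_lt_ncard hlt (Set.toFinite _)
    have habM : a * b ∈ M := mem_sup_left (subset_closure (Set.mem_singleton _))
    obtain ⟨c, hc, h1⟩ := h a b
    have hle : closure ({a, b} : Set G) ≤ K := by
      rw [closure_le]
      rintro x (rfl | rfl)
      · exact ha
      · exact hb
    have hcM' : c ∈ powerClosure p n M :=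
      powerClosure_mono ((commutator_mono hle hle).trans le_sup_right) hc
    have h2 : a ^ p ^ n * b ^ p ^ n = (a * b) ^ p ^ n * c⁻¹ := by rw [h1]; group
    obtain ⟨y, hy, hy2⟩ := ih _ hcM M rfl (a ^ p ^ n * b ^ p ^ n) (by
      rw [h2]
      exact mul_mem (pow_mem_powerClosure habM) (inv_mem hcM'))
    exact ⟨y, hlt.le hy, hy2⟩
  intro x hx
  induction hx using Subgroup.closure_induction with
  | mem x hx => exact hx
  | one => exact ⟨1, one_mem _, (one_pow _).symm⟩
  | mul a b _ _ ha hb =>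
    obtain ⟨y, hy, rfl⟩ := ha
    obtain ⟨z, hz, rfl⟩ := hb
    exact hmul y hy z hz
  | inv a _ ha =>
    obtain ⟨y, hy, rfl⟩ := ha
    exact ⟨y⁻¹, inv_mem hy, (inv_pow _ _).symm⟩

/-- **(D)** -/
theorem commutator_powerClosure_le [Finite G] [Fact p.Prime] (hG : IsPGroup p G) (h : RegAt p n G)
    (K : Subgroup G) : ⁅powerClosure p n K, powerClosure p n K⁆ ≤ powerClosure p n ⁅K, K⁆ := by
  rw [commutator_le]
  intro x hx z hz
  obtain ⟨u, hu, rfl⟩ := exists_pow_eq hG h _ K rfl x hx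
  have hzK : z ∈ K := powerClosure_le hz
  have h1 : ⁅u ^ p ^ n, z⁆ = u ^ p ^ n * (z * u⁻¹ * z⁻¹) ^ p ^ n := by
    rw [commutatorElement_def, conj_pow, inv_pow]; group
  obtain ⟨c, hc, h2⟩ := h u (z * u⁻¹ * z⁻¹)
  have hvK : z * u⁻¹ * z⁻¹ ∈ K := mul_mem (mul_mem hzK (inv_mem hu)) (inv_mem hzK)
  have hle : closure ({u, z * u⁻¹ * z⁻¹} : Set G) ≤ K := by
    rw [closure_le]
    rintro x (rfl | rfl)
    · exact hu
    · exact hvK
  have h3 : u * (z * u⁻¹ * z⁻¹) = ⁅u, z⁆ := by rw [commutatorElement_def]; group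
  have h4 : ⁅u ^ p ^ n, z⁆ = ⁅u, z⁆ ^ p ^ n * c⁻¹ := by
    rw [h1, ← h3, h2]; group
  rw [h4]
  exact mul_mem (pow_mem_powerClosure (commutator_mem_commutator hu hzK))
    (inv_mem (powerClosure_mono (commutator_mono hle hle) hc))

/-- regularity at exponent `p` implies regularity at all exponents -/
theorem regAt_of_one [Finite G] [Fact p.Prime] (hG : IsPGroup p G) (h : RegAt p 1 G) (n : ℕ) : RegAt p n G := by
  induction n with
  | zero =>
    intro a b
    exact ⟨1, one_mem _, by simp⟩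
  | succ n ih =>
    intro a b
    obtain ⟨c, hc, hab⟩ := h a b
    set K := closure ({a, b} : Set G) with hK
    obtain ⟨d, hd, hcd⟩ := exists_pow_eq hG h _ _ rfl c hc
    have ha : a ∈ K := subset_closure (by simp)
    have hb : b ∈ K := subset_closure (by simp)
    have hdK : d ∈ K := commutator_le_self K hd
    rw [pow_one] at hab hcd
    set U := powerClosure p 1 K with hU
    have haU : a ^ p ∈ U := by simpa using (pow_mem_powerClosure (p := p) (n := 1) ha)
    have hbU : b ^ p ∈ U := by simpa using (pow_mem_powerClosure (p := p) (n := 1) hb)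
    have hdU : d ^ p ∈ U := by simpa using (pow_mem_powerClosure (p := p) (n := 1) hdK)
    obtain ⟨c1, hc1, h1⟩ := ih (a ^ p * b ^ p) (d ^ p)
    obtain ⟨c2, hc2, h2⟩ := ih (a ^ p) (b ^ p)
    have hUU : powerClosure p n ⁅U, U⁆ ≤ powerClosure p (n + 1) ⁅K, K⁆ := by
      rw [powerClosure, closure_le]
      rintro _ ⟨x, hx, rfl⟩
      obtain ⟨y, hy, rfl⟩ := exists_pow_eq hG h _ _ rfl x (commutator_powerClosure_le hG h K hx)
      rw [← pow_mul, ← pow_add, add_comm]
      exact pow_mem_powerClosure hy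
    have hle : ∀ x ∈ U, ∀ y ∈ U, closure ({x, y} : Set G) ≤ U := by
      intro x hx y hy
      rw [closure_le]
      rintro z (rfl | rfl)
      · exact hx
      · exact hy
    have hc1' : c1 ∈ powerClosure p (n + 1) ⁅K, K⁆ :=
      hUU (powerClosure_mono (commutator_mono (hle _ (mul_mem haU hbU) _ hdU) (hle _ (mul_mem haU hbU) _ hdU)) hc1)
    have hc2' : c2 ∈ powerClosure p (n + 1) ⁅K, K⁆ :=
      hUU (powerClosure_mono (commutator_mono (hle _ haU _ hbU) (hle _ haU _ hbU)) hc2)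
    have hexp : p ^ (n + 1) = p * p ^ n := by rw [pow_succ, mul_comm]
    refine ⟨c2 * d ^ p ^ (n + 1) * c1, mul_mem (mul_mem hc2' (pow_mem_powerClosure hd)) hc1', ?_⟩
    rw [hexp, pow_mul, pow_mul, pow_mul, pow_mul, hab, hcd, h1, h2]
    simp only [mul_assoc]

/-- a finite `p`-group of class less than `p` is regular at `p` -/
theorem regAt_of_class [Fact p.Prime] (hcl : (⊤ : Subgroup G).lowerCentralSeries (p - 1) = ⊥) :
    RegAt p 1 G := by
  have hp : p.Prime := Fact.out
  intro a b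
  set K := closure ({a, b} : Set G) with hK
  have ha : a ∈ K := subset_closure (by simp)
  have hb : b ∈ K := subset_closure (by simp)
  obtain ⟨c, hc, hc0, hc1, hab⟩ := Cfsg.Agent.Lib.H70HallPetrescu.hall_petrescu (⟨a, ha⟩ : K) ⟨b, hb⟩ p
  set d := ((List.range (p + 1)).map (fun i => c i ^ p.choose i)).prod with hd
  have hdm : d ∈ powerClosure p 1 (commutator K) := by
    rw [hd]
    apply Subgroup.list_prod_mem
    intro x hx
    rw [List.mem_map] at hx
    obtain ⟨i, hi, rfl⟩ := hx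
    rw [List.mem_range] at hi
    rcases Nat.lt_or_ge i 2 with h2 | h2
    · interval_cases i
      · rw [hc0, one_pow]; exact one_mem _
      · rw [hc1, one_pow]; exact one_mem _
    rcases Nat.lt_or_ge i p with h3 | h3
    · obtain ⟨k, hk⟩ := hp.dvd_choose_self (by omega) h3
      have h4 : c i ∈ commutator K := by
        have h5 := hc i hi
        obtain ⟨j, rfl⟩ : ∃ j, i = j + 1 + 1 := ⟨i - 2, by omega⟩
        exact Subgroup.lowerCentralSeries_antitone _ (by omega : 1 ≤ j + 1) h5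
      rw [hk, mul_comm, pow_mul]
      have h5 := pow_mem_powerClosure (p := p) (n := 1) (Subgroup.pow_mem _ h4 k)
      rwa [pow_one] at h5
    · have h4 : i = p := by omega
      subst h4
      have h5 := hc i hi
      obtain ⟨j, hj⟩ : ∃ j, i = j + 1 := ⟨i - 1, by omega⟩
      rw [hj] at h5 hcl
      have h6 : (c (j + 1) : G) ∈ (⊤ : Subgroup G).lowerCentralSeries j := by
        have h7 : ((⊤ : Subgroup K).lowerCentralSeries j).map K.subtype ≤ (⊤ : Subgroup G).lowerCentralSeries j :=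
          Subgroup.lowerCentralSeries_map_subtype_le K j
        exact h7 ⟨_, h5, rfl⟩
      rw [Nat.add_sub_cancel] at hcl
      rw [hcl, mem_bot] at h6
      have h8 : c i = 1 := by
        rw [hj]; exact Subtype.ext h6
      rw [h8, one_pow]; exact one_mem _
  refine ⟨(d : G), ?_, ?_⟩
  · rw [← map_subtype_commutator, ← powerClosure_map]
    exact ⟨d, hdm, rfl⟩
  · rw [pow_one]
    exact congrArg Subtype.val hab

end Cfsg.Agent.Lib.H70Regular
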