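import Cfsg.Agent.Lib.KgNorm3

set_option autoImplicit false
set_option linter.unusedSectionVars false

/-!
Kegel's theorem: the main theorem.
-/

namespace Cfsg.Agent.Lib.KgNorm

open Cfsg Subgroup

universe u

variable {p : ℕ} {Γ : Type u} [Group Γ] [Finite Γ] {G : Subgroup Γ} [hGn : G.Normal] {a : Γ}

theorem solvable (h : Spl p G a) (ih : IH.{u} p (Nat.card G)) : Group.IsSolvable G := by
  by_cases hG : Group.IsNilpotent G
  · infer_instance
  obtain ⟨N, hN, hNG, hN1, hNG'⟩ := exists_proper h ih hG
  have h1 := nilp_normal h ih hNG hNG'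
  have h2 := nilp_quot h ih hNG hN1
  have h3 : Group.IsSolvable N := inferInstance
  have h4 : Group.IsSolvable (G.map (QuotientGroup.mk' N) : Subgroup (Γ ⧸ N)) := inferInstance
  refine Group.isSolvable_of_ker_le_range (Subgroup.inclusion hNG) ((QuotientGroup.mk' N).subgroupMap G) ?_
  intro x hx
  have e1 : QuotientGroup.mk' N (x : Γ) = 1 := congrArg Subtype.val hx
  exact ⟨⟨x, (QuotientGroup.eq_one_iff _).1 e1⟩, rfl⟩

/-- a nontrivial normal `p`-group-like argument: in a nilpotent normal subgroup the `s`-part is normal -/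
theorem isPGroup_of_nilpotent {C : Subgroup Γ} [C.Normal] (hC : Group.IsNilpotent C) {r : ℕ}
    (hW : ∀ (s : ℕ) (W : Subgroup Γ), s.Prime → s ≠ r → W.Normal → W ≤ C → IsPGroup s W → W = ⊥) : IsPGroup r C := by
  refine IsPGroup.of_card (n := (Nat.card C).primeFactorsList.length) ?_
  refine Nat.eq_prime_pow_of_unique_prime_dvd Nat.card_pos.ne' (fun {s} hs hsC => ?_)
  by_contra hsr
  have := Fact.mk hs
  obtain ⟨S⟩ : Nonempty (Sylow s C) := inferInstance
  have hS : (S : Subgroup C).Normal := (Group.isNilpotent_of_finite_tfae (G := C)).out 0 3 rfl rfl |>.mp hC s ‹_› S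
  have hSc : (S : Subgroup C).Characteristic := Sylow.characteristic_of_normal S hS
  have h1 := hW s ((S : Subgroup C).map C.subtype) hs hsr inferInstance (map_subtype_le _) (S.2.map _)
  rw [map_eq_bot_iff_of_injective _ C.subtype_injective] at h1
  have h2 := Sylow.dvd_card_of_dvd_card S hsC
  have h3 : Nat.card S = 1 := by
    have : Nat.card (S : Subgroup C) = 1 := by rw [h1, Subgroup.card_bot]
    exact this
  rw [h3] at h2
  exact hs.one_lt.ne' (Nat.dvd_one.1 h2)

theorem step (hp : p.Prime) (h : Spl p G a) (ih : IH.{u} p (Nat.card G)) : Group.IsNilpotent G := by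
  by_contra hG
  have hsol := solvable h ih
  have hG1 : G ≠ ⊥ := by
    rintro rfl
    exact hG inferInstance
  have ha : a ^ p = 1 := by simpa using h.pow 1 (one_mem G)
  obtain ⟨V, hV, hV1, hVG, hVmin⟩ := Cores.exists_minNormal_le hGn hG1
  have hVs : Group.IsSolvable V :=
    Group.isSolvable_of_isSolvable_injective (f := Subgroup.inclusion hVG) (Subgroup.inclusion_injective hVG)
  obtain ⟨hVc, r, hr, hVr⟩ := Fitting.minimal_normal_solvable hV1 hVs hVmin
  have hVc' : ∀ x ∈ V, ∀ y ∈ V, x * y = y * x := fun x hx y hy =>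
    congrArg Subtype.val (hVc.is_comm.comm ⟨x, hx⟩ ⟨y, hy⟩)
  have hVp : IsPGroup r V := fun x => ⟨1, by rw [pow_one]; exact Subtype.ext (hVr x x.2)⟩
  have := Fact.mk hr
  have := Fact.mk hp
  have hqV := nilp_quot h ih hVG hV1
  -- the centralizer
  set C : Subgroup Γ := G ⊓ centralizer (V : Set Γ) with hC
  have hCn : C.Normal := inferInstance
  have hCG : C ≤ G := inf_le_left
  have hVC : V ≤ C := le_inf hVG (fun x hx => mem_centralizer_iff.2 (fun y hy => hVc' y hy x hx))
  have hC1 : C ≠ ⊥ := fun e => hV1 (le_bot_iff.1 (e ▸ hVC))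
  have hCG' : C ≠ G := by
    intro he
    apply hG
    refine nilp_of_central (V := V) ?_ hqV
    intro v hv g hg
    rw [← he] at hg
    exact (mem_centralizer_iff.1 (Subgroup.mem_inf.1 hg).2 v hv).symm
  have hCnil := nilp_normal h ih hCG hCG'
  have hCr : IsPGroup r C := by
    refine isPGroup_of_nilpotent hCnil ?_
    intro s W hs hsr hW hWC hWs
    by_contra hW1
    apply hG
    refine nilp_of_two (V := V) (W := W) ?_ hqV (nilp_quot h ih (hWC.trans hCG) hW1)
    have := Fact.mk hs
    exact (IsPGroup.disjoint_of_ne r s (fun e => hsr e.symm) V W hVp hWs).eq_bot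
  letI : CommGroup V := cg hVc'
  have hnorm : ∀ g ∈ G, ∀ v : V, ∏ i ∈ Finset.range p, MulAut.conjNormal ((g * a) ^ i) v = 1 := by
    intro g hg v
    refine norm_eq_one hVc' (h.pow g hg) v ?_
    rw [← mul_assoc]
    exact h.pow _ (mul_mem (hVG v.2) hg)
  by_cases hrp : r = p
  · -- the case `r = p`
    subst hrp
    -- `G / C` is a `p'`-group
    have hqC := nilp_quot h ih hCG hC1
    have hGbn : (G.map (QuotientGroup.mk' C)).Normal := hGn.map _ (QuotientGroup.mk'_surjective C)
    have hpC : ¬ r ∣ Nat.card (G.map (QuotientGroup.mk' C) : Subgroup (Γ ⧸ C)) := by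
      intro hd
      obtain ⟨S⟩ : Nonempty (Sylow r (G.map (QuotientGroup.mk' C) : Subgroup (Γ ⧸ C))) := inferInstance
      have hS : (S : Subgroup (G.map (QuotientGroup.mk' C) : Subgroup (Γ ⧸ C))).Normal :=
        (Group.isNilpotent_of_finite_tfae (G := (G.map (QuotientGroup.mk' C) : Subgroup (Γ ⧸ C)))).out 0 3 rfl rfl |>.mp hqC r ‹_› S
      have hSc : (S : Subgroup (G.map (QuotientGroup.mk' C) : Subgroup (Γ ⧸ C))).Characteristic :=
        Sylow.characteristic_of_normal S hS
      set S' : Subgroup (Γ ⧸ C) := (S : Subgroup (G.map (QuotientGroup.mk' C) : Subgroup (Γ ⧸ C))).map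
        (G.map (QuotientGroup.mk' C) : Subgroup (Γ ⧸ C)).subtype with hS'
      have hS'n : S'.Normal := inferInstance
      have hS'p : IsPGroup r S' := S.2.map _
      set Q : Subgroup Γ := S'.comap (QuotientGroup.mk' C) with hQ
      have hQn : Q.Normal := inferInstance
      have hCQ : C ≤ Q := by
        intro x hx
        have : QuotientGroup.mk' C x = 1 := (QuotientGroup.eq_one_iff x).2 hx
        rw [hQ, mem_comap, this]
        exact one_mem _
      have hQG : Q ≤ G := by
        have h1 : S' ≤ G.map (QuotientGroup.mk' C) := map_subtype_le _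
        have h2 := Subgroup.comap_mono (f := QuotientGroup.mk' C) h1
        rwa [Subgroup.comap_map_eq_self (by rw [QuotientGroup.ker_mk']; exact hCG)] at h2
      have hQp : IsPGroup r Q := by
        obtain ⟨k, hk⟩ := IsPGroup.iff_card.1 hCr
        obtain ⟨l, hl⟩ := IsPGroup.iff_card.1 hS'p
        refine IsPGroup.of_card (n := k + l) ?_
        rw [hQ, Cores.card_comap_mk, hk, hl, pow_add]
      have hQnil : Group.IsNilpotent Q := hQp.isNilpotent
      have hVQ : V ≤ Q := hVC.trans hCQ
      obtain ⟨x, hxV, hxc, hx1⟩ := Cores.exists_mem_center_of_normal (K := V.subgroupOf Q) inferInstance (by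
        rw [Ne, Subgroup.subgroupOf_eq_bot, disjoint_iff, inf_eq_left.2 hVQ]
        exact hV1)
      have h3 : V ⊓ centralizer (Q : Set Γ) = V := by
        refine (hVmin _ inferInstance inf_le_left).resolve_left ?_
        intro h4
        have h5 : (x : Γ) ∈ V ⊓ centralizer (Q : Set Γ) := by
          refine Subgroup.mem_inf.2 ⟨hxV, mem_centralizer_iff.2 (fun y hy => ?_)⟩
          exact congrArg Subtype.val (mem_center_iff.1 hxc ⟨y, hy⟩)
        rw [h4, mem_bot] at h5
        exact hx1 (Subtype.ext h5)
      have h4 : Q ≤ C := by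
        refine le_inf hQG (fun y hy => mem_centralizer_iff.2 (fun v hv => ?_))
        have h5 : v ∈ V ⊓ centralizer (Q : Set Γ) := by rw [h3]; exact hv
        exact (mem_centralizer_iff.1 (Subgroup.mem_inf.1 h5).2 y hy).symm
      have h5 : S' = ⊥ := by
        have h6 : S' = Q.map (QuotientGroup.mk' C) := by
          rw [hQ, Subgroup.map_comap_eq_self_of_surjective (QuotientGroup.mk'_surjective C)]
        rw [h6, Subgroup.map_eq_bot_iff, QuotientGroup.ker_mk']
        exact h4
      rw [hS', map_eq_bot_iff_of_injective _ (Subgroup.subtype_injective _)] at h5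
      have h6 := Sylow.dvd_card_of_dvd_card S hd
      have h7 : Nat.card S = 1 := by
        have : Nat.card (S : Subgroup (G.map (QuotientGroup.mk' C) : Subgroup (Γ ⧸ C))) = 1 := by rw [h5, Subgroup.card_bot]
        exact this
      rw [h7] at h6
      exact hr.one_lt.ne' (Nat.dvd_one.1 h6)
    -- the action
    let act : Γ ⧸ C →* MulAut V := QuotientGroup.lift C (MulAut.conjNormal : Γ →* MulAut V) (by
      intro x hx
      ext v
      rw [MulAut.conjNormal_apply]
      show x * (v : Γ) * x⁻¹ = v
      rw [← (mem_centralizer_iff.1 (Subgroup.mem_inf.1 hx).2 v v.2), mul_inv_cancel_right])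
    have hact : ∀ (x : Γ) (v : V), act (QuotientGroup.mk' C x) v = MulAut.conjNormal x v := fun x v => rfl
    have habar : orderOf (QuotientGroup.mk' C a) = r := by
      refine orderOf_eq_prime (by rw [← map_pow, ha, map_one]) ?_
      intro h1
      have h2 : a ∈ G := hCG ((QuotientGroup.eq_one_iff a).1 h1)
      apply hG
      refine isNilpotent_of_pgroup hr ?_
      intro g
      refine ⟨1, Subtype.ext ?_⟩
      have h3 := h.pow ((g : Γ) * a⁻¹) (mul_mem g.2 (inv_mem h2))
      rw [inv_mul_cancel_right] at h3
      rw [pow_one]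
      exact h3
    have := Fintype.ofFinite (zpowers (QuotientGroup.mk' C a))
    have hfin : ∀ v : V, v = 1 := by
      intro v
      have h1 := pow_card_kernel' act (G.map (QuotientGroup.mk' C)) (zpowers (QuotientGroup.mk' C a)) ?_ ?_ v ?_
      · have h2 : v ^ r = 1 := Subtype.ext (hVr v v.2)
        rw [← orderOf_dvd_iff_pow_eq_one] at h1 h2
        rcases (Nat.dvd_prime hr).1 h2 with h3 | h3
        · exact orderOf_eq_one_iff.1 h3
        · rw [h3] at h1; exact absurd h1 hpC
      · intro x hx hx1 k hk hxk
        have hxo : orderOf x = r := by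
          have h2 : orderOf x ∣ r := by
            rw [← habar]
            exact orderOf_dvd_of_mem_zpowers hx
          rcases (Nat.dvd_prime hr).1 h2 with h3 | h3
          · exact absurd (orderOf_eq_one_iff.1 h3) hx1
          · exact h3
        have h2 : zpowers x = zpowers (QuotientGroup.mk' C a) := by
          refine Subgroup.eq_of_le_of_card_ge (zpowers_le.2 hx) ?_
          rw [Nat.card_zpowers, Nat.card_zpowers, hxo, habar]
        have h3 : QuotientGroup.mk' C a ∈ zpowers x := by rw [h2]; exact mem_zpowers _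
        obtain ⟨j, hj⟩ := h3
        have h4 : Commute (QuotientGroup.mk' C a) k := by
          rw [← hj]; exact (show Commute x k from hxk).zpow_left j
        obtain ⟨g, hg, rfl⟩ := hk
        have h5 : (QuotientGroup.mk' C g) ^ r = 1 := by
          have h6 := congrArg (QuotientGroup.mk' C) (h.pow g hg)
          rw [map_pow, map_mul, h4.symm.mul_pow, map_one, ← map_pow _ a, ha, map_one, mul_one] at h6
          exact h6
        have h6 : orderOf (QuotientGroup.mk' C g) ∣ Nat.card (G.map (QuotientGroup.mk' C) : Subgroup (Γ ⧸ C)) :=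
          Subgroup.orderOf_dvd_natCard _ ⟨g, hg, rfl⟩
        rcases (Nat.dvd_prime hr).1 (orderOf_dvd_of_pow_eq_one h5) with h7 | h7
        · exact orderOf_eq_one_iff.1 h7
        · rw [h7] at h6; exact absurd h6 hpC
      · intro w hw
        have h2 : V ⊓ centralizer (G : Set Γ) = ⊥ := by
          refine (hVmin _ inferInstance inf_le_left).resolve_right ?_
          intro h3
          apply hG
          refine nilp_of_central (V := V) ?_ hqV
          intro v hv g hg
          rw [← h3] at hv
          exact mem_centralizer_iff.1 (Subgroup.mem_inf.1 hv).2 g hg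
        have h3 : (w : Γ) ∈ V ⊓ centralizer (G : Set Γ) := by
          refine Subgroup.mem_inf.2 ⟨w.2, mem_centralizer_iff.2 (fun g hg => ?_)⟩
          have h4 := congrArg Subtype.val (hw (QuotientGroup.mk' C g) ⟨g, hg, rfl⟩)
          rw [hact, MulAut.conjNormal_apply] at h4
          exact mul_inv_eq_iff_eq_mul.1 h4
        rw [h2, mem_bot] at h3
        exact Subtype.ext h3
      · rintro ⟨_, g, hg, rfl⟩
        have h2 := prod_zpowers_eq (V := V) (QuotientGroup.mk' C a) habar
          (fun x => act ((QuotientGroup.mk' C g) * x * (QuotientGroup.mk' C g)⁻¹) v)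
        have h3 : ∏ x : zpowers (QuotientGroup.mk' C a), act ((QuotientGroup.mk' C g) * (x : Γ ⧸ C) * (QuotientGroup.mk' C g)⁻¹) v =
            ∏ i ∈ Finset.range r, MulAut.conjNormal (((g * (a * g⁻¹ * a⁻¹)) * a) ^ i) v := by
          rw [h2]
          refine Finset.prod_congr rfl (fun i _ => ?_)
          rw [← hact]
          congr 2
          have h4 : (g * (a * g⁻¹ * a⁻¹)) * a = g * a * g⁻¹ := by group
          rw [h4, conj_pow, map_mul, map_mul, map_pow, map_inv]
        rw [h3]
        exact hnorm _ (mul_mem hg (hGn.conj_mem _ (inv_mem hg) a)) v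
    apply hV1
    rw [eq_bot_iff]
    intro v hv
    rw [mem_bot]
    exact congrArg Subtype.val (hfin ⟨v, hv⟩)
  · by_cases hpG : p ∣ Nat.card G
    · -- an element of order `p` in `G` commuting with `a`
      obtain ⟨z, hzG, hzo, hza⟩ : ∃ z ∈ G, orderOf z = p ∧ Commute z a := by
        have h1 : IsPGroup p (zpowers a) := by
          intro x
          refine ⟨1, ?_⟩
          obtain ⟨i, hi⟩ := x.2
          apply Subtype.ext
          rw [pow_one, Subgroup.coe_pow, ← hi]
          show (a ^ i) ^ p = 1
          rw [← zpow_natCast, ← zpow_mul, mul_comm, zpow_mul, zpow_natCast, ha, one_zpow]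
        obtain ⟨P, hP⟩ := h1.exists_le_sylow
        obtain ⟨x, hx⟩ := exists_prime_orderOf_dvd_card' p hpG
        have hxo : orderOf (x : Γ) = p := by rw [Subgroup.orderOf_coe, hx]
        have h2 : IsPGroup p (zpowers (x : Γ)) := by
          refine IsPGroup.of_card (n := 1) ?_
          rw [Nat.card_zpowers, hxo, pow_one]
        obtain ⟨P', hP'⟩ := h2.exists_le_sylow
        obtain ⟨g, hg⟩ := MulAction.exists_smul_eq Γ P' P
        have h3 : g * x * g⁻¹ ∈ (P : Subgroup Γ) := by
          rw [← hg, Sylow.coe_subgroup_smul]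
          exact ⟨x, hP' (mem_zpowers _), rfl⟩
        have h4 : G.subgroupOf (P : Subgroup Γ) ≠ ⊥ := by
          intro h5
          have h6 : (⟨g * x * g⁻¹, h3⟩ : (P : Subgroup Γ)) ∈ G.subgroupOf (P : Subgroup Γ) := hGn.conj_mem _ x.2 g
          rw [h5, mem_bot] at h6
          have h7 : g * x * g⁻¹ = 1 := congrArg Subtype.val h6
          have h8 : (x : Γ) = 1 := by
            have : (x : Γ) = g⁻¹ * (g * x * g⁻¹) * g := by group
            rw [this, h7]; group
          rw [h8, orderOf_one] at hxo
          exact hp.one_lt.ne hxo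
        have hPnil : Group.IsNilpotent (P : Subgroup Γ) := P.2.isNilpotent
        obtain ⟨y, hyG, hyc, hy1⟩ := Cores.exists_mem_center_of_normal (K := G.subgroupOf (P : Subgroup Γ)) inferInstance h4
        obtain ⟨k, hk⟩ := IsPGroup.iff_orderOf.1 P.2 y
        have hk0 : k ≠ 0 := by
          rintro rfl
          rw [pow_zero, orderOf_eq_one_iff] at hk
          exact hy1 hk
        have hzo : orderOf ((y : Γ) ^ (p ^ (k - 1))) = p := by
          rw [orderOf_pow_of_dvd (pow_pos hp.pos _).ne' (by rw [Subgroup.orderOf_coe, hk]; exact pow_dvd_pow _ (by omega)),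
            Subgroup.orderOf_coe, hk, Nat.pow_div (by omega) hp.pos]
          have : k - (k - 1) = 1 := by omega
          rw [this, pow_one]
        refine ⟨(y : Γ) ^ (p ^ (k - 1)), pow_mem hyG _, hzo, ?_⟩
        have h5 := mem_center_iff.1 hyc ⟨a, hP (mem_zpowers a)⟩
        have h6 : a * (y : Γ) = y * a := congrArg Subtype.val h5
        exact (show Commute (y : Γ) a from h6.symm).pow_left _
      have hzp : z ^ p = 1 := by rw [← hzo]; exact pow_orderOf_eq_one z
      have h1 : ∀ v : V, MulAut.conjNormal z v = v := by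
        intro v
        have h2 := fixed_of_norms (V := V) (MulAut.conjNormal : Γ →* MulAut V) hp hza hzp v
          (fun j => hnorm (z ^ j) (pow_mem hzG j) v)
        have h3 : Nat.Coprime p (orderOf v) := by
          have h4 : orderOf v ∣ r := orderOf_dvd_of_pow_eq_one (Subtype.ext (hVr v v.2))
          exact Nat.Coprime.coprime_dvd_right h4 ((Nat.coprime_primes hp hr).2 (fun e => hrp e.symm))
        obtain ⟨m, hm⟩ := exists_pow_eq_self_of_coprime h3
        rw [← hm, map_pow, h2]
      have hzC : z ∈ C := by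
        refine Subgroup.mem_inf.2 ⟨hzG, mem_centralizer_iff.2 (fun v hv => ?_)⟩
        have h2 := congrArg Subtype.val (h1 ⟨v, hv⟩)
        rw [MulAut.conjNormal_apply] at h2
        exact (mul_inv_eq_iff_eq_mul.1 h2).symm
      obtain ⟨k, hk⟩ := IsPGroup.iff_orderOf.1 hCr ⟨z, hzC⟩
      rw [Subgroup.orderOf_mk, hzo] at hk
      have h2 : p ∣ r ^ k := by rw [← hk]
      exact hrp ((Nat.prime_dvd_prime_iff_eq hp hr).1 (hp.dvd_of_dvd_pow h2)).symm
    · -- `p'`-group
      apply hG
      have hfix : ∀ x : G, (MulAut.conjNormal a : MulAut G) x = x → x = 1 := by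
        intro x hx
        have h1 := congrArg Subtype.val hx
        rw [MulAut.conjNormal_apply] at h1
        have h2 : Commute a (x : Γ) := mul_inv_eq_iff_eq_mul.1 h1
        have h3 := h.pow x x.2
        rw [h2.symm.mul_pow, ha, mul_one] at h3
        have h4 : orderOf (x : Γ) ∣ Nat.card G := Subgroup.orderOf_dvd_natCard _ x.2
        rcases (Nat.dvd_prime hp).1 (orderOf_dvd_of_pow_eq_one h3) with h7 | h7
        · exact Subtype.ext (orderOf_eq_one_iff.1 h7)
        · rw [h7] at h4; exact absurd h4 hpG
      refine Cfsg.Agent.S0033.result (G := G) (MulAut.conjNormal a : MulAut G) ?_ p hp ?_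
      · intro x hx
        exact hfix x hx
      · refine orderOf_eq_prime (by rw [← map_pow, ha, map_one]) ?_
        intro h1
        apply hG1
        rw [eq_bot_iff]
        intro x hx
        rw [mem_bot]
        have h2 := hfix ⟨x, hx⟩ (by rw [h1]; rfl)
        exact congrArg Subtype.val h2

theorem main (hp : p.Prime) (n : ℕ) : ∀ (Δ : Type u) [Group Δ] [Finite Δ] (L : Subgroup Δ) (b : Δ), Spl p L b →
    Nat.card L = n → Group.IsNilpotent L := by
  induction n using Nat.strong_induction_on with
  | _ n ih =>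
    intro Δ _ _ L b h hn
    have hL : L ≤ normalizer (L : Set Δ) := le_normalizer
    have h1 := h.equiv hL h.norm
    have hcard : Nat.card (L.subgroupOf (normalizer (L : Set Δ))) = n := by
      rw [Nat.card_congr (subgroupOfEquivOfLe hL).toEquiv, hn]
    have hnorm : (L.subgroupOf (normalizer (L : Set Δ))).Normal := inferInstance
    have h2 := step hp h1 (by
      intro Δ' _ _ L' b' h' hlt
      rw [hcard] at hlt
      exact ih _ hlt Δ' L' b' h' rfl)
    exact Group.nilpotent_of_mulEquiv (subgroupOfEquivOfLe hL)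

end Cfsg.Agent.Lib.KgNorm
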