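import Mathlib
import Cfsg.Prelude.Def_Solvable
import Cfsg.Agent.S3995
import Cfsg.Agent.S3946
import Cfsg.Agent.S0041
import Cfsg.Agent.S0144
import Cfsg.Agent.Lib.Cores
import Cfsg.Agent.Lib.Cores2
import Cfsg.Agent.Lib.H23Nilp
import Cfsg.Agent.Lib.H70Basic2

/-! Odd order groups with three same-order class sizes (helper70). -/

set_option autoImplicit false
open Cfsg

namespace Cfsg.Agent.Lib.H70SameOrd

open Cfsg.Agent.S3995 (f S_eq dvd_S f_one f_even f_eq_zero exists_orderOf exponent_eq)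

variable {G : Type*} [Group G] [Finite G]

theorem exists_of_ne_zero {m : ℕ} (h : f G m ≠ 0) : ∃ g : G, orderOf g = m := by
  by_contra hcon
  push Not at hcon
  exact h (f_eq_zero hcon)

theorem ne_zero_of {m : ℕ} {g : G} (h : orderOf g = m) : f G m ≠ 0 := by
  have : Nonempty {g : G // orderOf g = m} := ⟨⟨g, h⟩⟩
  exact Nat.card_pos.ne'

theorem f_prime_ne_zero {p : ℕ} (hp : p.Prime) (hd : p ∣ Nat.card G) : f G p ≠ 0 := by
  haveI := Fact.mk hp
  obtain ⟨g, hg⟩ := exists_prime_orderOf_dvd_card' (G := G) p hd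
  exact ne_zero_of hg

/-- mod `p`: `1 + f p = 0`. -/
theorem m1 {p : ℕ} (hp : p.Prime) (hd : p ∣ Nat.card G) : (1 : ZMod p) + (f G p : ZMod p) = 0 := by
  have h := dvd_S (G := G) p hd
  rw [Nat.Prime.divisors hp, Finset.sum_pair hp.one_lt.ne, f_one] at h
  have := (ZMod.natCast_eq_zero_iff _ _).2 h
  push_cast at this
  exact this

theorem sum2 {p q : ℕ} (hp : p.Prime) (hq : q.Prime) (hpq : p ≠ q) :
    ∑ d ∈ (p * q).divisors, f G d = 1 + f G p + f G q + f G (p * q) := by
  have h1 : (p * q).divisors = {1, p, q, p * q} := by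
    rw [Nat.divisors_mul, Nat.Prime.divisors hp, Nat.Prime.divisors hq]
    ext x
    simp only [Finset.mem_mul, Finset.mem_insert, Finset.mem_singleton]
    constructor
    · rintro ⟨a, rfl | rfl, b, rfl | rfl, rfl⟩ <;> simp
    · rintro (rfl | rfl | rfl | rfl)
      · exact ⟨1, Or.inl rfl, 1, Or.inl rfl, rfl⟩
      · exact ⟨x, Or.inr rfl, 1, Or.inl rfl, mul_one _⟩
      · exact ⟨1, Or.inl rfl, x, Or.inr rfl, one_mul _⟩
      · exact ⟨p, Or.inr rfl, q, Or.inr rfl, rfl⟩
  have hp1 := hp.one_lt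
  have hq1 := hq.one_lt
  have e1 : p * q ≠ 1 := by nlinarith
  have e2 : p * q ≠ p := by nlinarith
  have e3 : p * q ≠ q := by nlinarith
  rw [h1, Finset.sum_insert (by simp only [Finset.mem_insert, Finset.mem_singleton, not_or]; exact ⟨hp1.ne, hq1.ne, e1.symm⟩),
    Finset.sum_insert (by simp only [Finset.mem_insert, Finset.mem_singleton, not_or]; exact ⟨hpq, e2.symm⟩),
    Finset.sum_pair e3.symm, f_one]
  ring

theorem m2 {p q : ℕ} (hp : p.Prime) (hq : q.Prime) (hpq : p ≠ q) (hd : p ∣ Nat.card G) (hd2 : q ∣ Nat.card G) :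
    (1 : ZMod p) + f G p + f G q + f G (p * q) = 0 := by
  have hc : p.Coprime q := (Nat.coprime_primes hp hq).2 hpq
  have h := dvd_S (G := G) (p * q) (hc.mul_dvd_of_dvd_of_dvd hd hd2)
  rw [sum2 hp hq hpq] at h
  have := (ZMod.natCast_eq_zero_iff _ _).2 ((dvd_mul_right p q).trans h)
  push_cast at this
  linear_combination this

theorem m2' {p q : ℕ} (hp : p.Prime) (hq : q.Prime) (hpq : p ≠ q) (hd : p ∣ Nat.card G) (hd2 : q ∣ Nat.card G) :
    (1 : ZMod q) + f G p + f G q + f G (p * q) = 0 := by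
  have := m2 (G := G) hq hp hpq.symm hd2 hd
  rw [mul_comm q p] at this
  linear_combination this

theorem msq {p : ℕ} (hp : p.Prime) (hd : p ∣ Nat.card G) : (f G (p ^ 2) : ZMod p) = 0 := by
  by_cases h2 : p ^ 2 ∣ Nat.card G
  · have h := dvd_S (G := G) (p ^ 2) h2
    rw [Nat.divisors_prime_pow hp, Finset.sum_map] at h
    simp only [Finset.sum_range_succ, Finset.sum_range_zero, zero_add, Function.Embedding.coeFn_mk, pow_zero, pow_one,
      f_one] at h
    have h3 := (ZMod.natCast_eq_zero_iff _ _).2 ((dvd_pow_self p (by norm_num)).trans h)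
    have h4 := m1 (G := G) hp hd
    push_cast at h3
    linear_combination h3 - h4
  · have : f G (p ^ 2) = 0 := f_eq_zero (fun g hg => h2 (hg ▸ orderOf_dvd_natCard g))
    rw [this]; simp

theorem m3 {p q s : ℕ} (hp : p.Prime) (hq : q.Prime) (hs : s.Prime) (hpq : p ≠ q) (hps : p ≠ s) (hqs : q ≠ s)
    (hd : p ∣ Nat.card G) (hd2 : q ∣ Nat.card G) (hd3 : s ∣ Nat.card G) :
    p * q * s ∣ 1 + f G p + f G q + f G s + f G (p * q) + f G (p * s) + f G (q * s) + f G (p * q * s) := by
  have hc : p.Coprime q := (Nat.coprime_primes hp hq).2 hpq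
  have hc2 : (p * q).Coprime s := Nat.Coprime.mul_left ((Nat.coprime_primes hp hs).2 hps) ((Nat.coprime_primes hq hs).2 hqs)
  have h := dvd_S (G := G) (p * q * s) (hc2.mul_dvd_of_dvd_of_dvd (hc.mul_dvd_of_dvd_of_dvd hd hd2) hd3)
  have h1 : (p * q * s).divisors = {1, p, q, s, p * q, p * s, q * s, p * q * s} := by
    rw [Nat.divisors_mul, Nat.divisors_mul, Nat.Prime.divisors hp, Nat.Prime.divisors hq, Nat.Prime.divisors hs]
    ext x
    simp only [Finset.mem_mul, Finset.mem_insert, Finset.mem_singleton]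
    constructor
    · rintro ⟨ab, ⟨a, rfl | rfl, b, rfl | rfl, rfl⟩, c, rfl | rfl, rfl⟩ <;> simp
    · rintro (rfl | rfl | rfl | rfl | rfl | rfl | rfl | rfl)
      · exact ⟨1, ⟨1, Or.inl rfl, 1, Or.inl rfl, rfl⟩, 1, Or.inl rfl, rfl⟩
      · exact ⟨x, ⟨x, Or.inr rfl, 1, Or.inl rfl, mul_one _⟩, 1, Or.inl rfl, mul_one _⟩
      · exact ⟨x, ⟨1, Or.inl rfl, x, Or.inr rfl, one_mul _⟩, 1, Or.inl rfl, mul_one _⟩
      · exact ⟨1, ⟨1, Or.inl rfl, 1, Or.inl rfl, one_mul _⟩, x, Or.inr rfl, one_mul _⟩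
      · exact ⟨p * q, ⟨p, Or.inr rfl, q, Or.inr rfl, rfl⟩, 1, Or.inl rfl, mul_one _⟩
      · exact ⟨p, ⟨p, Or.inr rfl, 1, Or.inl rfl, mul_one _⟩, s, Or.inr rfl, rfl⟩
      · exact ⟨q, ⟨1, Or.inl rfl, q, Or.inr rfl, one_mul _⟩, s, Or.inr rfl, rfl⟩
      · exact ⟨p * q, ⟨p, Or.inr rfl, q, Or.inr rfl, rfl⟩, s, Or.inr rfl, rfl⟩
  have hp1 := hp.one_lt
  have hq1 := hq.one_lt
  have hs1 := hs.one_lt
  -- distinctness through divisibility
  have k1 : ¬ p ∣ q := fun h => hpq ((Nat.prime_dvd_prime_iff_eq hp hq).1 h)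
  have k2 : ¬ p ∣ s := fun h => hps ((Nat.prime_dvd_prime_iff_eq hp hs).1 h)
  have k3 : ¬ q ∣ p := fun h => hpq ((Nat.prime_dvd_prime_iff_eq hq hp).1 h).symm
  have k4 : ¬ q ∣ s := fun h => hqs ((Nat.prime_dvd_prime_iff_eq hq hs).1 h)
  have k5 : ¬ s ∣ p := fun h => hps ((Nat.prime_dvd_prime_iff_eq hs hp).1 h).symm
  have k6 : ¬ s ∣ q := fun h => hqs ((Nat.prime_dvd_prime_iff_eq hs hq).1 h).symm
  have k7 : ¬ p ∣ 1 := hp.one_lt.ne' ∘ Nat.dvd_one.1
  have k8 : ¬ q ∣ 1 := hq.one_lt.ne' ∘ Nat.dvd_one.1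
  have k9 : ¬ s ∣ 1 := hs.one_lt.ne' ∘ Nat.dvd_one.1
  have k10 : ¬ p ∣ q * s := fun h => (hp.dvd_mul.1 h).elim k1 k2
  have k11 : ¬ q ∣ p * s := fun h => (hq.dvd_mul.1 h).elim k3 k4
  have k12 : ¬ s ∣ p * q := fun h => (hs.dvd_mul.1 h).elim k5 k6
  have d1 : p ∣ p * q := dvd_mul_right _ _
  have d2 : q ∣ p * q := dvd_mul_left _ _
  have d3 : p ∣ p * s := dvd_mul_right _ _
  have d4 : s ∣ p * s := dvd_mul_left _ _
  have d5 : q ∣ q * s := dvd_mul_right _ _
  have d6 : s ∣ q * s := dvd_mul_left _ _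
  have d7 : p ∣ p * q * s := d1.trans (dvd_mul_right _ _)
  have d8 : q ∣ p * q * s := d2.trans (dvd_mul_right _ _)
  have d9 : s ∣ p * q * s := dvd_mul_left _ _
  have ne : ∀ {a b r : ℕ}, ¬ r ∣ a → r ∣ b → a ≠ b := fun h1 h2 h => h1 (h ▸ h2)
  have ne' : ∀ {a b r : ℕ}, r ∣ a → ¬ r ∣ b → a ≠ b := fun h1 h2 h => h2 (h ▸ h1)
  rw [h1, Finset.sum_insert, Finset.sum_insert, Finset.sum_insert, Finset.sum_insert, Finset.sum_insert,
    Finset.sum_insert, Finset.sum_pair, f_one] at h
  · convert h using 1; ring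
  · exact ne k10 d7
  · simp only [Finset.mem_insert, Finset.mem_singleton, not_or]
    exact ⟨ne k11 d5, ne k11 d8⟩
  · simp only [Finset.mem_insert, Finset.mem_singleton, not_or]
    exact ⟨ne k12 d4, ne k12 d6, ne k12 d9⟩
  · simp only [Finset.mem_insert, Finset.mem_singleton, not_or]
    exact ⟨ne k2 d1, ne k2 d3, ne k4 d5, ne k2 d7⟩
  · simp only [Finset.mem_insert, Finset.mem_singleton, not_or]
    exact ⟨hqs, ne k1 d1, ne k1 d3, ne k6 d6, ne k1 d7⟩
  · simp only [Finset.mem_insert, Finset.mem_singleton, not_or]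
    exact ⟨hpq, hps, ne k3 d2, ne k5 d4, ne k3 d5, ne k3 d8⟩
  · simp only [Finset.mem_insert, Finset.mem_singleton, not_or]
    exact ⟨hp1.ne, hq1.ne, hs1.ne, ne k7 d1, ne k7 d3, ne k8 d5, ne k7 d7⟩

/-- `f` takes only the values `x, y` (and `0`) away from `1`. -/
structure Vals (G : Type*) [Group G] [Finite G] (x y : ℕ) : Prop where
  odd : Odd (Nat.card G)
  val : ∀ m, m ≠ 1 → f G m = 0 ∨ f G m = x ∨ f G m = y

theorem two_ne {p : ℕ} (hp : p.Prime) (hodd : Odd (Nat.card G)) (hd : p ∣ Nat.card G) : (2 : ZMod p) ≠ 0 := by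
  intro h
  have h1 : ((2 : ℕ) : ZMod p) = 0 := by exact_mod_cast h
  rw [ZMod.natCast_eq_zero_iff] at h1
  have h2 : p = 2 := (Nat.prime_dvd_prime_iff_eq hp Nat.prime_two).1 h1
  rw [h2] at hd
  exact (Nat.not_even_iff_odd.2 hodd) (even_iff_two_dvd.2 hd)

theorem one_ne {p : ℕ} (hp : p.Prime) : (1 : ZMod p) ≠ 0 := by
  haveI := Fact.mk hp
  exact one_ne_zero

theorem f_pow_zero {s : ℕ} (hs : s.Prime) (h : f G (s ^ 2) = 0) {k : ℕ} (hk : 2 ≤ k) : f G (s ^ k) = 0 := by
  by_contra hne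
  obtain ⟨g, hg⟩ := exists_of_ne_zero hne
  obtain ⟨x, hx⟩ := exists_orderOf hs hg hk
  exact ne_zero_of hx h

theorem ne_of_ne {x y : ℕ} (hV : Vals G x y) {p q : ℕ} (hp : p.Prime) (hq : q.Prime) (hpq : p ≠ q)
    (hd : p ∣ Nat.card G) (hd2 : q ∣ Nat.card G) : f G p ≠ f G q := by
  intro heq
  set a := f G p with ha
  set b := f G (p * q) with hb
  -- partner computation
  have part : ∀ s t : ℕ, s.Prime → t.Prime → s ≠ t → s ∣ Nat.card G → t ∣ Nat.card G → f G s = a → f G t = a →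
      (a : ZMod s) = -1 ∧ (f G (s * t) : ZMod s) = 1 := by
    intro s t hs ht hst hds hdt h1 h2
    have e1 := m1 hs hds
    have e2 := m2 hs ht hst hds hdt
    rw [h1] at e1 e2
    rw [h2] at e2
    refine ⟨by linear_combination e1, by linear_combination e2 - 2 * e1⟩
  have hne_of : ∀ s : ℕ, s.Prime → s ∣ Nat.card G → (1 : ZMod s) ≠ -1 := by
    intro s hs hds h
    apply two_ne hs hV.odd hds
    linear_combination h
  have hm1 : ∀ m : ℕ, ∀ s : ℕ, s.Prime → s ∣ Nat.card G → (a : ZMod s) = -1 → (f G m : ZMod s) = 1 → f G m ≠ 0 ∧ f G m ≠ a := by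
    intro m s hs hds h1 h2
    constructor
    · intro h; rw [h] at h2; apply one_ne hs; rw [← h2]; simp
    · intro h; rw [h, h1] at h2; exact hne_of s hs hds h2.symm
  have hpqb := part p q hp hq hpq hd hd2 rfl heq.symm
  have hb1 : b ≠ 0 ∧ b ≠ a := hm1 _ p hp hd hpqb.1 hpqb.2
  have ha0 : a ≠ 0 := f_prime_ne_zero hp hd
  have hne1 : ∀ {s t : ℕ}, s.Prime → t.Prime → s * t ≠ 1 := fun hs ht h => by
    have := hs.one_lt; have := ht.one_lt; nlinarith
  have hval : ∀ m, m ≠ 1 → f G m = 0 ∨ f G m = a ∨ f G m = b := by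
    intro m hm
    have h1 := hV.val m hm
    have h2 := hV.val p hp.one_lt.ne'
    have h3 := hV.val (p * q) (hne1 hp hq)
    rw [← ha] at h2
    rw [← hb] at h3
    rcases h2 with h2 | h2 | h2
    · exact absurd h2 ha0
    · rcases h3 with h3 | h3 | h3
      · exact absurd h3 hb1.1
      · exact absurd (h3.trans h2.symm) hb1.2
      · rw [h2, h3]; exact h1
    · rcases h3 with h3 | h3 | h3
      · exact absurd h3 hb1.1
      · rw [h2, h3]; tauto
      · exact absurd (h3.trans h2.symm) hb1.2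
  -- product value
  have hprod : ∀ s t : ℕ, s.Prime → t.Prime → s ≠ t → s ∣ Nat.card G → t ∣ Nat.card G → f G s = a → f G t = a →
      f G (s * t) = b := by
    intro s t hs ht hst hds hdt h1 h2
    have h3 := part s t hs ht hst hds hdt h1 h2
    have h4 := hm1 _ s hs hds h3.1 h3.2
    rcases hval _ (hne1 hs ht) with h5 | h5 | h5
    · exact absurd h5 h4.1
    · exact absurd h5 h4.2
    · exact h5
  -- every prime has value a
  have hall : ∀ s : ℕ, s.Prime → s ∣ Nat.card G → f G s = a := by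
    intro s hs hds
    by_cases hsp : s = p
    · rw [hsp]
    by_cases hsq : s = q
    · rw [hsq]; exact heq.symm
    rcases hval s hs.one_lt.ne' with h | h | h
    · exact absurd h (f_prime_ne_zero hs hds)
    · exact h
    exfalso
    have hps : p ≠ s := Ne.symm hsp
    have hqs : q ≠ s := Ne.symm hsq
    -- mod p
    have e1 : (1 : ZMod p) + a = 0 := m1 hp hd
    have e2 : (b : ZMod p) = 1 := hpqb.2
    have e1q : (1 : ZMod q) + a = 0 := by have := m1 (G := G) hq hd2; rwa [← heq] at this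
    have e2q : (b : ZMod q) = 1 := by
      have := (part q p hq hp hpq.symm hd2 hd heq.symm rfl).2
      rwa [mul_comm q p] at this
    have e3 : (1 : ZMod s) + b = 0 := by have := m1 (G := G) hs hds; rwa [h] at this
    have key : ∀ r : ℕ, r.Prime → r ≠ s → r ∣ Nat.card G → f G r = a → (1 : ZMod r) + a = 0 → (b : ZMod r) = 1 →
        f G (r * s) = a := by
      intro r hr hrs hdr hra er1 er2
      have h1 := m2 hr hs hrs hdr hds
      rw [hra, h] at h1
      have h2 : (f G (r * s) : ZMod r) = -1 := by linear_combination h1 - er1 - er2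
      rcases hval _ (hne1 hr hs) with h5 | h5 | h5
      · exfalso
        rw [h5] at h2
        apply one_ne hr
        have : ((0 : ℕ) : ZMod r) = 0 := by simp
        rw [this] at h2
        linear_combination h2
      · exact h5
      · exfalso
        rw [h5, er2] at h2
        exact hne_of r hr hdr h2
    have hfps := key p hp hps hd rfl e1 e2
    have hfqs := key q hq hqs hd2 heq.symm e1q e2q
    have e4 : (2 : ZMod s) * a = 0 := by
      have h1 := m2' hp hs hps hd hds
      rw [← ha, h, hfps] at h1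
      linear_combination h1 - e3
    have e5 : (a : ZMod s) = 0 := by
      haveI := Fact.mk hs
      rcases mul_eq_zero.1 e4 with h5 | h5
      · exact absurd h5 (two_ne hs hV.odd hds)
      · exact h5
    have h6 := m3 hp hq hs hpq hps hqs hd hd2 hds
    rw [← ha, ← heq, h, ← hb, hfps, hfqs] at h6
    set c := f G (p * q * s) with hc
    have e6 : (c : ZMod p) = 1 := by
      have h7 := (ZMod.natCast_eq_zero_iff _ _).2
        (((dvd_mul_right p q).trans (dvd_mul_right (p * q) s)).trans h6)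
      push_cast at h7
      linear_combination h7 - 4 * e1 - 2 * e2
    have h8 := hm1 (p * q * s) p hp hd hpqb.1 e6
    have h9 : c = b := by
      have hne : p * q * s ≠ 1 := by
        intro h
        exact hs.one_lt.ne' (Nat.dvd_one.1 (h ▸ dvd_mul_left s (p * q)))
      rcases hval _ hne with h5 | h5 | h5
      · exact absurd h5 h8.1
      · exact absurd h5 h8.2
      · exact h5
    have h7 := (ZMod.natCast_eq_zero_iff _ _).2 ((dvd_mul_left s (p * q)).trans h6)
    rw [h9] at h7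
    push_cast at h7
    apply two_ne hs hV.odd hds
    linear_combination -h7 + 4 * e5 + 3 * e3
  have hdiv : Nat.card G ∣ 1 + a := by
    rw [Nat.dvd_iff_prime_pow_dvd_dvd]
    intro s k hs hk
    rcases Nat.eq_zero_or_pos k with rfl | hk0
    · simp
    have hds : s ∣ Nat.card G := (dvd_pow_self s hk0.ne').trans hk
    obtain ⟨t, ht, hst, hdt⟩ : ∃ t : ℕ, t.Prime ∧ s ≠ t ∧ t ∣ Nat.card G := by
      by_cases hsp : s = p
      · exact ⟨q, hq, hsp ▸ hpq, hd2⟩
      · exact ⟨p, hp, hsp, hd⟩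
    have h1 := part s t hs ht hst hds hdt (hall s hs hds) (hall t ht hdt)
    rw [hprod s t hs ht hst hds hdt (hall s hs hds) (hall t ht hdt)] at h1
    have h2 : f G (s ^ 2) = 0 := by
      have h3 := msq hs hds
      rcases hval (s ^ 2) (by have := hs.one_lt; nlinarith) with h5 | h5 | h5
      · exact h5
      · exfalso
        rw [h5, h1.1] at h3
        apply one_ne hs
        linear_combination -h3
      · exfalso
        rw [h5, h1.2] at h3
        exact one_ne hs h3
    have h4 := dvd_S (G := G) (s ^ k) hk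
    rw [Nat.divisors_prime_pow hs, Finset.sum_map] at h4
    obtain ⟨j, rfl⟩ : ∃ j, k = j + 1 := ⟨k - 1, by omega⟩
    rw [Finset.sum_range_succ', Finset.sum_range_succ'] at h4
    simp only [Function.Embedding.coeFn_mk, pow_zero, f_one, zero_add, pow_one] at h4
    rw [Finset.sum_eq_zero (fun i _ => f_pow_zero hs h2 (by omega)), hall s hs hds, zero_add] at h4
    rw [add_comm 1 a]
    exact h4
  have hle : 1 + a + a + b ≤ Nat.card G := by
    have h1 := S_eq (G := G) (p * q) (by have := hp.pos; have := hq.pos; positivity)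
    rw [sum2 hp hq hpq, ← ha, ← heq, ← hb] at h1
    rw [← h1]
    exact Finite.card_subtype_le _
  have := Nat.le_of_dvd (by omega) hdiv
  omega

/-- an element acting without fixed points on the elements of order `m`. -/
theorem dvd_of_no_commute {p m : ℕ} (hp : p.Prime) {y : G} (hy : y ^ p = 1)
    (h : ∀ x : G, orderOf x = m → ¬ Commute y x) : p ∣ f G m := by
  classical
  have := Fact.mk hp
  have := Fintype.ofFinite {g : G // orderOf g = m}
  let e : Function.End {g : G // orderOf g = m} := fun g => ⟨y * (g : G) * y⁻¹, by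
    have h1 : y * (g : G) * y⁻¹ = (MulAut.conj y) g := by simp
    rw [h1]
    exact (orderOf_injective (MulAut.conj y).toMonoidHom (MulAut.conj y).injective _).trans g.2⟩
  have he' : ∀ k : ℕ, ∀ g : {g : G // orderOf g = m}, (((e ^ k : Function.End _) g : {g : G // orderOf g = m}) : G) = y ^ k * g * (y ^ k)⁻¹ := by
    intro k
    induction k with
    | zero => intro g; simp; rfl
    | succ k ih =>
      intro g
      rw [pow_succ]
      change (((e ^ k : Function.End _) (e g) : {g : G // orderOf g = m}) : G) = _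
      rw [ih]
      change y ^ k * (y * (g : G) * y⁻¹) * (y ^ k)⁻¹ = _
      rw [pow_succ]; group
  have he : e ^ p ^ 1 = 1 := by
    rw [pow_one]
    funext g
    apply Subtype.ext
    rw [he', hy]
    simp; rfl
  have h1 := Equiv.Perm.card_fixedPoints_modEq he
  have h2 : IsEmpty (Function.fixedPoints e) := by
    refine ⟨fun g => ?_⟩
    have h3 : y * (g.1 : G) * y⁻¹ = g.1 := congrArg Subtype.val g.2
    apply h g.1 g.1.2
    exact mul_inv_eq_iff_eq_mul.1 h3
  rw [Fintype.card_eq_zero (α := Function.fixedPoints e)] at h1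
  rw [f, Nat.card_eq_fintype_card]
  exact (Nat.modEq_zero_iff_dvd).1 h1

/-- if every element of order `p` commutes with an element of order `q` then there are many of order `pq`. -/
theorem two_mul_le {p q : ℕ} (hp : p.Prime) (hq : q.Prime) (hpq : p ≠ q) (hq2 : q ≠ 2)
    (h : ∀ y : G, orderOf y = p → ∃ x : G, orderOf x = q ∧ Commute y x) : 2 * f G p ≤ f G (p * q) := by
  classical
  have hc : p.Coprime q := (Nat.coprime_primes hp hq).2 hpq
  choose X hX using fun y : {g : G // orderOf g = p} => h y.1 y.2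
  let F : {g : G // orderOf g = p} × Fin 2 → {g : G // orderOf g = p * q} := fun z =>
    ⟨z.1.1 * (X z.1) ^ ((z.2 : ℕ) + 1), by
      have h1 : orderOf ((X z.1) ^ ((z.2 : ℕ) + 1)) = q := by
        rw [orderOf_pow, (hX z.1).1]
        have h2 : Nat.gcd q ((z.2 : ℕ) + 1) = 1 := by
          rw [← Nat.Coprime, Nat.Prime.coprime_iff_not_dvd hq]
          intro hd
          have := Nat.le_of_dvd (by omega) hd
          have := z.2.2
          have := hq.two_le
          omega
        rw [h2, Nat.div_one]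
      rw [((hX z.1).2.pow_right _).orderOf_mul_eq_mul_orderOf_of_coprime, h1, z.1.2]
      rw [h1, z.1.2]; exact hc⟩
  obtain ⟨k, hk1, hk2⟩ : ∃ k : ℕ, k ≡ 1 [MOD p] ∧ k ≡ 0 [MOD q] := ⟨_, (Nat.chineseRemainder hc 1 0).2⟩
  have hF : Function.Injective F := by
    have hpow : ∀ z, ((F z).1 : G) ^ k = z.1.1 := by
      intro z
      change (z.1.1 * (X z.1) ^ ((z.2 : ℕ) + 1)) ^ k = z.1.1
      rw [((hX z.1).2.pow_right _).mul_pow]
      have h1 : z.1.1 ^ k = z.1.1 := by
        conv_rhs => rw [← pow_one z.1.1]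
        rw [pow_eq_pow_iff_modEq, z.1.2]; exact hk1
      have h2 : ((X z.1) ^ ((z.2 : ℕ) + 1)) ^ k = 1 := by
        rw [← pow_mul, mul_comm, pow_mul]
        have : (X z.1) ^ k = 1 := by
          rw [← orderOf_dvd_iff_pow_eq_one, (hX z.1).1]
          exact (Nat.modEq_zero_iff_dvd).1 hk2
        rw [this, one_pow]
      rw [h1, h2, mul_one]
    intro z w hzw
    have h1 : z.1 = w.1 := by
      apply Subtype.ext
      rw [← hpow z, ← hpow w, hzw]
    obtain ⟨y, i⟩ := z
    obtain ⟨y', j⟩ := w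
    simp only at h1
    subst h1
    have h2 : y.1 * (X y) ^ ((i : ℕ) + 1) = y.1 * (X y) ^ ((j : ℕ) + 1) := congrArg Subtype.val hzw
    have h3 := mul_left_cancel h2
    rw [pow_eq_pow_iff_modEq, (hX y).1] at h3
    have h4 : (i : ℕ) ≡ j [MOD q] := Nat.ModEq.add_right_cancel' 1 h3
    have hi := i.2
    have hj := j.2
    have hq3 := hq.two_le
    have h5 : (i : ℕ) = j := Nat.ModEq.eq_of_lt_of_lt h4 (by omega) (by omega)
    have h6 : i = j := Fin.ext h5
    rw [h6]
  have h1 := Nat.card_le_card_of_injective F hF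
  rw [Nat.card_prod, Nat.card_fin] at h1
  rw [mul_comm]
  exact h1

theorem ne_left {x y : ℕ} (hV : Vals G x y) {p q : ℕ} (hp : p.Prime) (hq : q.Prime) (hpq : p ≠ q)
    (hd : p ∣ Nat.card G) (hd2 : q ∣ Nat.card G) : f G (p * q) ≠ f G p := by
  intro heq
  have e1 := m1 hp hd
  have e2 := m2 hp hq hpq hd hd2
  rw [heq] at e2
  have e3 : (f G q : ZMod p) = 1 := by linear_combination e2 - 2 * e1
  have hq2 : q ≠ 2 := by
    rintro rfl
    exact (Nat.not_even_iff_odd.2 hV.odd) (even_iff_two_dvd.2 hd2)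
  by_cases hall : ∀ y : G, orderOf y = p → ∃ x : G, orderOf x = q ∧ Commute y x
  · have h1 := two_mul_le hp hq hpq hq2 hall
    have h2 := f_prime_ne_zero (G := G) hp hd
    omega
  · push Not at hall
    obtain ⟨y, hy, hno⟩ := hall
    have h1 := dvd_of_no_commute hp (by rw [← hy]; exact pow_orderOf_eq_one y) hno
    have h2 := (ZMod.natCast_eq_zero_iff _ _).2 h1
    rw [e3] at h2
    exact one_ne hp h2

theorem mul_zero_of {x y : ℕ} (hV : Vals G x y) {p q : ℕ} (hp : p.Prime) (hq : q.Prime) (hpq : p ≠ q)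
    (hd : p ∣ Nat.card G) (hd2 : q ∣ Nat.card G) : f G (p * q) = 0 := by
  have h1 := ne_left hV hp hq hpq hd hd2
  have h2 := ne_left hV hq hp hpq.symm hd2 hd
  rw [mul_comm q p] at h2
  have h3 := ne_of_ne hV hp hq hpq hd hd2
  have h4 := f_prime_ne_zero (G := G) hp hd
  have h5 := f_prime_ne_zero (G := G) hq hd2
  have h6 := hV.val p hp.one_lt.ne'
  have h7 := hV.val q hq.one_lt.ne'
  have h8 := hV.val (p * q) (by have := hp.one_lt; have := hq.one_lt; nlinarith)
  omega

theorem no_commute {p q i j : ℕ} (hp : p.Prime) (hq : q.Prime) (hpq : p ≠ q) (h0 : f G (p * q) = 0) (hi : 1 ≤ i) (hj : 1 ≤ j)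
    {x y : G} (hx : orderOf x = p ^ i) (hy : orderOf y = q ^ j) : ¬ Commute x y := by
  intro hc
  have h1 : orderOf (x ^ p ^ (i - 1)) = p := by
    rw [orderOf_pow, hx]
    have h1 : p ^ i = p * p ^ (i - 1) := by rw [← pow_succ', Nat.sub_add_cancel hi]
    rw [Nat.gcd_eq_right (h1 ▸ Dvd.intro_left _ rfl), h1, Nat.mul_div_cancel _ (pow_pos hp.pos _)]
  have h2 : orderOf (y ^ q ^ (j - 1)) = q := by
    rw [orderOf_pow, hy]
    have h1 : q ^ j = q * q ^ (j - 1) := by rw [← pow_succ', Nat.sub_add_cancel hj]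
    rw [Nat.gcd_eq_right (h1 ▸ Dvd.intro_left _ rfl), h1, Nat.mul_div_cancel _ (pow_pos hq.pos _)]
  have h3 : Commute (x ^ p ^ (i - 1)) (y ^ q ^ (j - 1)) := (hc.pow_left _).pow_right _
  have h4 : orderOf (x ^ p ^ (i - 1) * y ^ q ^ (j - 1)) = p * q := by
    rw [h3.orderOf_mul_eq_mul_orderOf_of_coprime, h1, h2]
    rw [h1, h2]; exact (Nat.coprime_primes hp hq).2 hpq
  exact ne_zero_of h4 h0

theorem sq_zero_of {x y : ℕ} (hV : Vals G x y) {p q : ℕ} (hp : p.Prime) (hq : q.Prime) (hpq : p ≠ q)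
    (hd : p ∣ Nat.card G) (hd2 : q ∣ Nat.card G) : f G (p ^ 2) = 0 := by
  have h0 := mul_zero_of hV hp hq hpq hd hd2
  have h3 := ne_of_ne hV hp hq hpq hd hd2
  have h4 := f_prime_ne_zero (G := G) hp hd
  have h5 := f_prime_ne_zero (G := G) hq hd2
  have h6 := hV.val p hp.one_lt.ne'
  have h7 := hV.val q hq.one_lt.ne'
  have h8 := hV.val (p ^ 2) (by have := hp.one_lt; nlinarith)
  have e1 := m1 (G := G) hp hd
  have e2 := m1 (G := G) hq hd2
  have e3 := msq (G := G) hp hd
  have h9 : f G (p ^ 2) ≠ f G p := by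
    intro h
    rw [h] at e3
    rw [e3] at e1
    exact one_ne hp (by linear_combination e1)
  have h10 : f G (p ^ 2) ≠ f G q := by
    intro h
    haveI := Fact.mk hq
    obtain ⟨z, hz⟩ := exists_prime_orderOf_dvd_card' (G := G) q hd2
    have h11 : q ∣ f G (p ^ 2) := by
      refine dvd_of_no_commute hq (y := z) (by rw [← hz]; exact pow_orderOf_eq_one z) ?_
      intro w hw hc
      exact no_commute hp hq hpq h0 (i := 2) (j := 1) (by norm_num) le_rfl hw (by rw [hz, pow_one]) hc.symm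
    have h12 := (ZMod.natCast_eq_zero_iff _ _).2 h11
    rw [h] at h12
    rw [h12] at e2
    exact one_ne hq (by linear_combination e2)
  omega

/-! ### the group structure -/

open scoped Pointwise

structure PQ (G : Type*) [Group G] (p q : ℕ) : Prop where
  hp : p.Prime
  hq : q.Prime
  ne : p ≠ q
  pd : p ∣ Nat.card G
  qd : q ∣ Nat.card G
  ord : ∀ g : G, orderOf g = 1 ∨ orderOf g = p ∨ orderOf g = q

theorem PQ.symm {p q : ℕ} (h : PQ G p q) : PQ G q p :=
  ⟨h.hq, h.hp, h.ne.symm, h.qd, h.pd, fun g => by have := h.ord g; tauto⟩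

theorem PQ.no_comm {p q : ℕ} (h : PQ G p q) {x y : G} (hx : orderOf x = p) (hy : orderOf y = q) : ¬ Commute x y := by
  intro hc
  have h4 : orderOf (x * y) = p * q := by
    rw [hc.orderOf_mul_eq_mul_orderOf_of_coprime, hx, hy]
    rw [hx, hy]; exact (Nat.coprime_primes h.hp h.hq).2 h.ne
  have h1 := h.hp.one_lt
  have h2 := h.hq.one_lt
  rcases h.ord (x * y) with h5 | h5 | h5 <;> rw [h4] at h5 <;> nlinarith

theorem PQ.card {p q : ℕ} (h : PQ G p q) : ∃ a b : ℕ, Nat.card G = p ^ a * q ^ b := by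
  have hn : Nat.card G ≠ 0 := Nat.card_pos.ne'
  have h1 : (Nat.card G).primeFactors = {p, q} := by
    ext r
    rw [Nat.mem_primeFactors]
    simp only [Finset.mem_insert, Finset.mem_singleton]
    constructor
    · rintro ⟨hr, hd, -⟩
      haveI := Fact.mk hr
      obtain ⟨g, hg⟩ := exists_prime_orderOf_dvd_card' (G := G) r hd
      rcases h.ord g with h5 | h5 | h5
      · rw [hg] at h5; exact absurd h5 hr.one_lt.ne'
      · exact Or.inl (hg.symm.trans h5)
      · exact Or.inr (hg.symm.trans h5)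
    · rintro (rfl | rfl)
      · exact ⟨h.hp, h.pd, hn⟩
      · exact ⟨h.hq, h.qd, hn⟩
  refine ⟨(Nat.card G).factorization p, (Nat.card G).factorization q, ?_⟩
  conv_lhs => rw [← Nat.prod_factorization_pow_eq_self hn]
  rw [Finsupp.prod, Nat.support_factorization, h1, Finset.prod_pair h.ne]

theorem PQ.solvable {p q : ℕ} (h : PQ G p q) : Group.IsSolvable G := by
  obtain ⟨a, b, hab⟩ := h.card
  exact Cfsg.Agent.S0144.result p q a b h.hp h.hq hab

theorem PQ.orderOf_of_pgroup {p q : ℕ} (h : PQ G p q) {A : Subgroup G} (hA : IsPGroup p A) {x : G} (hx : x ∈ A) (hx1 : x ≠ 1) :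
    orderOf x = p := by
  haveI := Fact.mk h.hp
  obtain ⟨k, hk⟩ := IsPGroup.iff_orderOf.1 hA ⟨x, hx⟩
  rw [← Subgroup.orderOf_coe] at hk
  change orderOf x = p ^ k at hk
  rcases h.ord x with h5 | h5 | h5
  · exact absurd (orderOf_eq_one_iff.1 h5) hx1
  · exact h5
  · exfalso
    rw [h5] at hk
    have : q ∣ p ^ k := by rw [← hk]
    exact h.ne ((Nat.prime_dvd_prime_iff_eq h.hq h.hp).1 (h.hq.dvd_of_dvd_pow this)).symm

theorem PQ.sq_not_dvd {p q : ℕ} (h : PQ G p q) {A : Subgroup G} [hAn : A.Normal] (hA : IsPGroup p A) (hA1 : A ≠ ⊥) :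
    ¬ q ^ 2 ∣ Nat.card G := by
  intro hd
  haveI := Fact.mk h.hp
  haveI := Fact.mk h.hq
  obtain ⟨K, hK⟩ := Sylow.exists_subgroup_card_pow_prime (G := G) q (n := 2) hd
  have hKp : IsPGroup q K := IsPGroup.of_card hK
  haveI : Nontrivial A := (Subgroup.nontrivial_iff_ne_bot A).2 hA1
  set V : Subgroup G := (Subgroup.center A).map A.subtype with hV
  haveI hVn : V.Normal := Cores.normal_map_subtype_of_characteristic _
  have hV1 : V ≠ ⊥ := by
    intro h1
    have h2 := hA.center_nontrivial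
    rw [hV, Subgroup.map_eq_bot_iff_of_injective _ A.subtype_injective] at h1
    rw [h1] at h2
    exact not_nontrivial _ h2
  have hVA : V ≤ A := Subgroup.map_subtype_le _
  haveI : IsMulCommutative V := by
    refine ⟨⟨?_⟩⟩
    rintro ⟨_, ⟨a, ha, rfl⟩⟩ ⟨_, ⟨b, hb, rfl⟩⟩
    apply Subtype.ext
    change (a : G) * b = b * a
    have := Subgroup.mem_center_iff.1 hb a
    exact congrArg Subtype.val this
  have hcyc := Cfsg.Agent.S0041.result K V hV1 (by rw [Subgroup.normalizer_eq_top]; exact le_top) (by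
    intro a ha ha1
    rw [eq_bot_iff]
    rintro x ⟨hx1, hx2⟩
    rw [Subgroup.mem_bot]
    by_contra hx
    have hx3 : x ∈ Subgroup.centralizer {a} := hx2
    rw [Subgroup.mem_centralizer_singleton_iff] at hx3
    exact h.no_comm (h.orderOf_of_pgroup hA (hVA hx1) hx) (h.symm.orderOf_of_pgroup hKp ha ha1) hx3)
    (Or.inr ⟨q, q, h.hq, h.hq, by rw [hK, pow_two]⟩)
  obtain ⟨g, hg⟩ := hcyc.exists_generator
  have h1 : orderOf g = q ^ 2 := by
    rw [← hK]; exact orderOf_eq_card_of_forall_mem_zpowers hg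
  rw [← Subgroup.orderOf_coe] at h1
  have h2 : (g : G) ≠ 1 := by
    intro h3
    rw [h3, orderOf_one] at h1
    have := h.hq.one_lt
    nlinarith
  rw [h.symm.orderOf_of_pgroup hKp g.2 h2] at h1
  have := h.hq.one_lt
  nlinarith

/-- the Frobenius complement -/
theorem PQ.comp {p q : ℕ} (h : PQ G p q) {A : Subgroup G} [hAn : A.Normal] (hA : IsPGroup p A) (hA1 : A ≠ ⊥) :
    ∃ C : Subgroup G, IsFrobeniusComplement C ∧ (Nat.card C).Prime := by
  haveI := Fact.mk h.hp
  haveI := Fact.mk h.hq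
  haveI := h.solvable
  have hsq := h.sq_not_dvd hA hA1
  set B := pCore p G with hB
  have hBp : IsPGroup p B := Cores.isPGroup_pCore p G
  have hAB : A ≤ B := Cores.le_pCore hAn hA
  have hB1 : B ≠ ⊥ := fun h1 => hA1 (le_bot_iff.1 (h1 ▸ hAB))
  -- the quotient
  have hBne : B ≠ ⊤ := by
    intro h1
    obtain ⟨y, hy⟩ := exists_prime_orderOf_dvd_card' (G := G) q h.qd
    have h2 : y ≠ 1 := by
      intro h3; rw [h3, orderOf_one] at hy; exact h.hq.one_lt.ne hy
    have h3 := h.orderOf_of_pgroup hBp (h1 ▸ Subgroup.mem_top y) h2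
    exact h.ne (h3.symm.trans hy)
  haveI : Nontrivial (G ⧸ B) := by
    rw [QuotientGroup.nontrivial_iff]; exact hBne
  obtain ⟨N, hNn, hN1, hNmin⟩ := H70Basic2.exists_minimal_normal (G := G ⧸ B)
  haveI : Group.IsSolvable (G ⧸ B) := inferInstance
  obtain ⟨r, hr, hrN⟩ := Cores.minNormal_elementary hN1 hNmin (Cores.minNormal_abelian hN1 hNmin)
  haveI := Fact.mk hr
  have hNr : IsPGroup r N := by
    intro x
    exact ⟨1, by rw [pow_one]; exact Subtype.ext (hrN x.1 x.2)⟩
  have hrp : r ≠ p := by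
    rintro rfl
    have h1 := Cores.le_pCore hNn hNr
    have h2 : pCore r (G ⧸ B) = ⊥ := Cores.pCore_quotient_pCore r G
    rw [h2] at h1
    exact hN1 (le_bot_iff.1 h1)
  have hrN' : r ∣ Nat.card N := by
    obtain ⟨n, hn⟩ := IsPGroup.iff_card.1 hNr
    have hn0 : n ≠ 0 := by
      rintro rfl
      rw [pow_zero] at hn
      exact hN1 (Subgroup.card_eq_one.1 hn)
    rw [hn]
    exact dvd_pow_self r hn0
  have hrG : r ∣ Nat.card G :=
    (hrN'.trans (Subgroup.card_subgroup_dvd_card N)).trans (Subgroup.card_quotient_dvd_card B)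
  have hrq : r = q := by
    obtain ⟨x, hx⟩ := exists_prime_orderOf_dvd_card' (G := G) r hrG
    rcases h.ord x with h5 | h5 | h5
    · rw [hx] at h5; exact absurd h5 hr.one_lt.ne'
    · exact absurd (hx.symm.trans h5) hrp
    · exact hx.symm.trans h5
  subst hrq
  set L : Subgroup G := N.comap (QuotientGroup.mk' B) with hL
  have hLn : L.Normal := inferInstance
  have hBL : B ≤ L := by
    intro x hx
    rw [hL, Subgroup.mem_comap]
    have : (QuotientGroup.mk' B) x = 1 := (QuotientGroup.eq_one_iff x).2 hx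
    rw [this]; exact N.one_mem
  have hcL : Nat.card L = Nat.card B * Nat.card N := by rw [hL, Cores.card_comap_mk]
  have hrL : r ∣ Nat.card L := by rw [hcL]; exact hrN'.trans (dvd_mul_left _ _)
  have hcN : Nat.card N = r := by
    obtain ⟨n, hn⟩ := IsPGroup.iff_card.1 hNr
    rw [hn] at hrN' ⊢
    have hn2 : n < 2 := by
      by_contra hn2
      push Not at hn2
      apply hsq
      have h1 : r ^ 2 ∣ Nat.card L := by
        rw [hcL, hn]; exact (pow_dvd_pow r hn2).trans (dvd_mul_left _ _)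
      exact h1.trans (Subgroup.card_subgroup_dvd_card L)
    have hn0 : n ≠ 0 := by
      rintro rfl
      rw [pow_zero] at hn
      exact hN1 (Subgroup.card_eq_one.1 hn)
    obtain rfl : n = 1 := by omega
    exact pow_one r
  obtain ⟨x, hx⟩ : ∃ x ∈ B, x ≠ 1 := by
    by_contra hcon
    push Not at hcon
    exact hB1 ((Subgroup.eq_bot_iff_forall B).2 hcon)
  have hxo := h.orderOf_of_pgroup hBp hx.1 hx.2
  obtain ⟨y, hy⟩ := exists_prime_orderOf_dvd_card' (G := L) r hrL
  rw [← Subgroup.orderOf_coe] at hy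
  have hLnil : ¬ Group.IsNilpotent L := by
    intro hnil
    exact h.no_comm hxo hy (H23Nilp.commute_of_coprime_of_mem hnil (hBL hx.1) y.2
      (by rw [hxo, hy]; exact (Nat.coprime_primes h.hp h.hq).2 h.ne))
  have hLtop : L = ⊤ := by
    by_contra hLtop
    -- the quotient by `L` has an element of order `p`
    have hpd : p ∣ Nat.card (G ⧸ L) := by
      obtain ⟨s, hs, hsd⟩ := Nat.exists_prime_and_dvd (n := Nat.card (G ⧸ L)) (by
        intro h1
        exact hLtop (Subgroup.index_eq_one.1 h1))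
      have hsG : s ∣ Nat.card G := hsd.trans (Subgroup.card_quotient_dvd_card L)
      haveI := Fact.mk hs
      obtain ⟨z, hz⟩ := exists_prime_orderOf_dvd_card' (G := G) s hsG
      rcases h.ord z with h5 | h5 | h5
      · rw [hz] at h5; exact absurd h5 hs.one_lt.ne'
      · rw [← h5, hz]; exact hsd
      · exfalso
        apply hsq
        rw [hz] at h5
        rw [h5] at hsd
        rw [← Subgroup.card_mul_index L, pow_two]
        exact Nat.mul_dvd_mul hrL hsd
    obtain ⟨c', hc'⟩ := exists_prime_orderOf_dvd_card' (G := G ⧸ L) p hpd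
    obtain ⟨c, rfl⟩ := QuotientGroup.mk_surjective c'
    apply hLnil
    refine KgNorm.main h.hp _ G L c ⟨by rw [Subgroup.normalizer_eq_top]; trivial, ?_⟩ rfl
    intro l hl
    have h1 : ((l * c : G) : G ⧸ L) = (c : G ⧸ L) := by
      rw [QuotientGroup.mk_mul, (QuotientGroup.eq_one_iff l).2 hl, one_mul]
    have h2 : p ∣ orderOf (l * c) := by
      rw [← hc', ← h1]
      exact orderOf_map_dvd (QuotientGroup.mk' L) (l * c)
    rcases h.ord (l * c) with h5 | h5 | h5
    · rw [h5] at h2; exact absurd (Nat.dvd_one.1 h2) h.hp.one_lt.ne'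
    · rw [← h5]; exact pow_orderOf_eq_one _
    · rw [h5] at h2
      exact absurd ((Nat.prime_dvd_prime_iff_eq h.hp h.hq).1 h2) h.ne
  -- now `|G| = |B| r`
  have hcG : Nat.card G = Nat.card B * r := by
    rw [← hcN, ← hcL, hLtop, Subgroup.card_top]
  have hquo : Nat.card (G ⧸ B) = r := by
    have h1 := Subgroup.card_mul_index B
    rw [hcG] at h1
    exact Nat.eq_of_mul_eq_mul_left Nat.card_pos h1
  refine ⟨Subgroup.zpowers (y : G), ⟨?_, ?_, ?_⟩, ?_⟩
  · intro h1
    rw [Subgroup.zpowers_eq_bot] at h1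
    rw [h1, orderOf_one] at hy
    exact hr.one_lt.ne hy
  · intro h1
    have h2 : x ∈ Subgroup.zpowers (y : G) := h1 ▸ Subgroup.mem_top x
    obtain ⟨k, hk⟩ := Subgroup.mem_zpowers_iff.1 h2
    apply h.no_comm hxo hy
    rw [← hk]
    exact (Commute.refl _).zpow_left k
  · intro g hg
    by_contra hne
    obtain ⟨z, hz, hz1⟩ : ∃ z ∈ Subgroup.zpowers (y : G) ⊓ (MulAut.conj g • Subgroup.zpowers (y : G)), z ≠ 1 := by
      by_contra hcon
      push Not at hcon
      exact hne ((Subgroup.eq_bot_iff_forall _).2 hcon)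
    rw [Subgroup.mem_inf] at hz
    obtain ⟨hz2, hz3⟩ := hz
    have hcy : Nat.card (Subgroup.zpowers (y : G)) = r := by rw [Nat.card_zpowers, hy]
    have hzr : orderOf z = r := by
      have h1 : orderOf z ∣ r := by
        rw [← hcy]; exact Subgroup.orderOf_dvd_natCard _ hz2
      exact ((Nat.dvd_prime hr).1 h1).resolve_left (fun h3 => hz1 (orderOf_eq_one_iff.1 h3))
    have hzy : Subgroup.zpowers z = Subgroup.zpowers (y : G) :=
      Subgroup.eq_of_le_of_card_ge (by rwa [Subgroup.zpowers_le]) (by rw [hcy, Nat.card_zpowers, hzr])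
    have h1 : Subgroup.zpowers (y : G) = MulAut.conj g • Subgroup.zpowers (y : G) := by
      apply Subgroup.eq_of_le_of_card_ge
      · rw [← hzy, Subgroup.zpowers_le, hzy]; exact hz3
      · have : Nat.card (MulAut.conj g • Subgroup.zpowers (y : G) : Subgroup G) = Nat.card (Subgroup.zpowers (y : G)) :=
          (Nat.card_congr (Subgroup.equivSMul (MulAut.conj g) (Subgroup.zpowers (y : G))).toEquiv).symm
        rw [this]
    -- `g = b y^k`
    obtain ⟨b, hb, k, hbk⟩ : ∃ b ∈ B, ∃ k : ℤ, g = b * (y : G) ^ k := by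
      have h2 : orderOf ((y : G) : G ⧸ B) = r := by
        have h3 : orderOf ((y : G) : G ⧸ B) ∣ r := by
          rw [← hquo]; exact orderOf_dvd_natCard _
        refine ((Nat.dvd_prime hr).1 h3).resolve_left (fun h4 => ?_)
        have h5 : (y : G) ∈ B := (QuotientGroup.eq_one_iff _).1 (orderOf_eq_one_iff.1 h4)
        have h6 := h.orderOf_of_pgroup hBp h5 (by
          intro h7; rw [h7, orderOf_one] at hy; exact hr.one_lt.ne hy)
        exact h.ne (h6.symm.trans hy)
      have h3 : (g : G ⧸ B) ∈ Subgroup.zpowers ((y : G) : G ⧸ B) := by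
        have : Subgroup.zpowers ((y : G) : G ⧸ B) = ⊤ := by
          apply Subgroup.eq_top_of_card_eq
          rw [Nat.card_zpowers, h2, hquo]
        rw [this]; exact Subgroup.mem_top _
      obtain ⟨k, hk⟩ := Subgroup.mem_zpowers_iff.1 h3
      refine ⟨g * ((y : G) ^ k)⁻¹, ?_, k, by group⟩
      rw [← QuotientGroup.eq_one_iff, QuotientGroup.mk_mul, QuotientGroup.mk_inv, QuotientGroup.mk_zpow, hk,
        mul_inv_cancel]
    have hb1 : b ≠ 1 := by
      rintro rfl
      apply hg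
      rw [hbk, one_mul]
      exact Subgroup.zpow_mem_zpowers _ _
    have h2 : b * y * b⁻¹ ∈ Subgroup.zpowers (y : G) := by
      have h3 : MulAut.conj g (y : G) ∈ MulAut.conj g • Subgroup.zpowers (y : G) :=
        Subgroup.smul_mem_pointwise_smul _ _ _ (Subgroup.mem_zpowers _)
      rw [← h1] at h3
      have h4 : MulAut.conj g (y : G) = b * y * b⁻¹ := by
        rw [MulAut.conj_apply, hbk]; group
      rwa [h4] at h3
    have h3 : b * y * b⁻¹ * (y : G)⁻¹ = 1 := by
      by_contra h4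
      have h5 : b * y * b⁻¹ * (y : G)⁻¹ ∈ Subgroup.zpowers (y : G) :=
        Subgroup.mul_mem _ h2 (Subgroup.inv_mem _ (Subgroup.mem_zpowers _))
      have h6 : b * y * b⁻¹ * (y : G)⁻¹ ∈ B := by
        have h7 : (y : G) * b⁻¹ * (y : G)⁻¹ ∈ B := (inferInstance : B.Normal).conj_mem _ (B.inv_mem hb) _
        have h8 : b * y * b⁻¹ * (y : G)⁻¹ = b * ((y : G) * b⁻¹ * (y : G)⁻¹) := by group
        rw [h8]; exact B.mul_mem hb h7
      have h7 := h.orderOf_of_pgroup hBp h6 h4
      have h8 : orderOf (b * y * b⁻¹ * (y : G)⁻¹) ∣ r := by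
        rw [← hcy]; exact Subgroup.orderOf_dvd_natCard _ h5
      rw [h7] at h8
      exact h.ne ((Nat.prime_dvd_prime_iff_eq h.hp h.hq).1 h8)
    apply h.no_comm (h.orderOf_of_pgroup hBp hb hb1) hy
    have h4 : b * y * b⁻¹ = y := mul_inv_eq_one.1 h3
    exact mul_inv_eq_iff_eq_mul.1 h4
  · rw [Nat.card_zpowers, hy]; exact hr

theorem PQ.comp' {p q : ℕ} (h : PQ G p q) : ∃ C : Subgroup G, IsFrobeniusComplement C ∧ (Nat.card C).Prime := by
  have hs := h.solvable
  haveI : Nontrivial G := by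
    by_contra hn
    rw [not_nontrivial_iff_subsingleton] at hn
    have h1 := h.pd
    rw [Nat.card_unique] at h1
    exact h.hp.one_lt.ne' (Nat.dvd_one.1 h1)
  obtain ⟨N, hNn, hN1, hNmin⟩ := H70Basic2.exists_minimal_normal (G := G)
  obtain ⟨r, hr, hrN⟩ := Cores.minNormal_elementary hN1 hNmin (Cores.minNormal_abelian hN1 hNmin)
  have hNr : IsPGroup r N := by
    intro x
    exact ⟨1, by rw [pow_one]; exact Subtype.ext (hrN x.1 x.2)⟩
  obtain ⟨x, hx, hx1⟩ : ∃ x ∈ N, x ≠ 1 := by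
    by_contra hcon
    push Not at hcon
    exact hN1 ((Subgroup.eq_bot_iff_forall _).2 hcon)
  have h1 : orderOf x = r := ((Nat.dvd_prime hr).1 (orderOf_dvd_of_pow_eq_one (hrN x hx))).resolve_left
    (fun h3 => hx1 (orderOf_eq_one_iff.1 h3))
  rcases h.ord x with h5 | h5 | h5
  · exact absurd (orderOf_eq_one_iff.1 h5) hx1
  · rw [h1] at h5; subst h5
    exact h.comp hNr hN1
  · rw [h1] at h5; subst h5
    exact h.symm.comp hNr hN1

theorem exists_vals (hodd : Odd (Nat.card G))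
    (h : (((fun m : ℕ => Nat.card {g : G // orderOf g = m}) '' Set.range (orderOf : G → ℕ))).ncard = 3) :
    ∃ x y, Vals G x y := by
  set S := ((fun m : ℕ => Nat.card {g : G // orderOf g = m}) '' Set.range (orderOf : G → ℕ)) with hS
  have h1 : (1 : ℕ) ∈ S := ⟨1, ⟨1, orderOf_one⟩, f_one⟩
  have hval : ∀ m, m ≠ 1 → f G m ≠ 0 → f G m ∈ S ∧ f G m ≠ 1 := by
    intro m hm h0
    obtain ⟨g, hg⟩ := exists_of_ne_zero h0
    refine ⟨⟨m, ⟨g, hg⟩, rfl⟩, ?_⟩
    have h2 : Odd m := by
      rw [← hg]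
      exact Odd.of_dvd_nat hodd (orderOf_dvd_natCard g)
    have h3 : 2 < m := by
      rcases h2 with ⟨k, rfl⟩
      omega
    have := f_even (G := G) h3
    omega
  obtain ⟨a, b, c, hab, hac, hbc, habc⟩ := Set.ncard_eq_three.1 h
  have key : ∀ x y : ℕ, (∀ z ∈ S, z = 1 ∨ z = x ∨ z = y) → Vals G x y := by
    intro x y hxy
    refine ⟨hodd, fun m hm => ?_⟩
    by_cases h0 : f G m = 0
    · exact Or.inl h0
    · have h2 := hval m hm h0
      rcases hxy _ h2.1 with h3 | h3
      · exact absurd h3 h2.2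
      · exact Or.inr h3
  rw [habc] at h1 key
  simp only [Set.mem_insert_iff, Set.mem_singleton_iff] at h1 key
  rcases h1 with rfl | rfl | rfl
  · exact ⟨b, c, key b c (fun z hz => hz)⟩
  · exact ⟨a, c, key a c (fun z hz => by tauto)⟩
  · exact ⟨a, b, key a b (fun z hz => by tauto)⟩

theorem Vals.pq {x y : ℕ} (hV : Vals G x y) {p q : ℕ} (hpq : p ≠ q) (h : (Nat.card G).primeFactors = {p, q}) :
    PQ G p q := by
  have hp' : p ∈ (Nat.card G).primeFactors := by rw [h]; simp
  have hq' : q ∈ (Nat.card G).primeFactors := by rw [h]; simp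
  rw [Nat.mem_primeFactors] at hp' hq'
  obtain ⟨hp, hd, hn⟩ := hp'
  obtain ⟨hq, hd2, -⟩ := hq'
  have h0 := mul_zero_of hV hp hq hpq hd hd2
  have hp2 := sq_zero_of hV hp hq hpq hd hd2
  have hq2 := sq_zero_of hV hq hp hpq.symm hd2 hd
  refine ⟨hp, hq, hpq, hd, hd2, fun g => ?_⟩
  -- a divisor of `orderOf g` is an order of a power
  have key : ∀ m : ℕ, m ∣ orderOf g → f G m ≠ 0 := by
    intro m hm
    exact ne_zero_of (orderOf_pow_orderOf_div (orderOf_pos g).ne' hm)
  have h1 : ¬ p ^ 2 ∣ orderOf g := fun h2 => key _ h2 hp2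
  have h2 : ¬ q ^ 2 ∣ orderOf g := fun h2 => key _ h2 hq2
  have h3 : ¬ p * q ∣ orderOf g := fun h2 => key _ h2 h0
  have h4 : ∀ r : ℕ, r.Prime → r ∣ orderOf g → r = p ∨ r = q := by
    intro r hr hrd
    have : r ∈ (Nat.card G).primeFactors := Nat.mem_primeFactors.2 ⟨hr, hrd.trans (orderOf_dvd_natCard g), hn⟩
    rw [h] at this
    simpa using this
  by_cases h5 : orderOf g = 1
  · exact Or.inl h5
  right
  obtain ⟨r, hr, s, hs⟩ := Nat.exists_prime_and_dvd h5
  have hs1 : s = 1 := by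
    by_contra hs1
    obtain ⟨t, ht, u, hu⟩ := Nat.exists_prime_and_dvd hs1
    rw [hu, ← mul_assoc] at hs
    have h6 : r * t ∣ orderOf g := ⟨u, hs⟩
    rcases h4 r hr ((dvd_mul_right r t).trans h6) with rfl | rfl <;>
    rcases h4 t ht ((dvd_mul_left t _).trans h6) with rfl | rfl
    · exact h1 (by rwa [pow_two])
    · exact h3 h6
    · exact h3 (by rwa [mul_comm])
    · exact h2 (by rwa [pow_two])
  rw [hs1, mul_one] at hs
  rw [hs]
  exact h4 r hr ⟨1, by rw [hs, mul_one]⟩

theorem Vals.two_primes {x y : ℕ} (hV : Vals G x y) : (Nat.card G).primeFactors.card ≤ 2 := by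
  by_contra hcon
  push Not at hcon
  obtain ⟨p, hp, q, hq, r, hr, hpq, hpr, hqr⟩ := Finset.two_lt_card.1 hcon
  rw [Nat.mem_primeFactors] at hp hq hr
  have h1 := ne_of_ne hV hp.1 hq.1 hpq hp.2.1 hq.2.1
  have h2 := ne_of_ne hV hp.1 hr.1 hpr hp.2.1 hr.2.1
  have h3 := ne_of_ne hV hq.1 hr.1 hqr hq.2.1 hr.2.1
  have h4 := hV.val p hp.1.one_lt.ne'
  have h5 := hV.val q hq.1.one_lt.ne'
  have h6 := hV.val r hr.1.one_lt.ne'
  have h7 := f_prime_ne_zero (G := G) hp.1 hp.2.1
  have h8 := f_prime_ne_zero (G := G) hq.1 hq.2.1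
  have h9 := f_prime_ne_zero (G := G) hr.1 hr.2.1
  omega

theorem main (hodd : Odd (Nat.card G)) (h : (((fun m : ℕ => Nat.card {g : G // orderOf g = m}) '' Set.range (orderOf : G → ℕ))).ncard = 3) :
    (Nat.card G).primeFactors.card ≤ 2 ∧
      ((Nat.card G).primeFactors.card = 2 →
        (∀ (p : ℕ) [Fact p.Prime] (P : Sylow p G), p ∣ Nat.card G → Monoid.exponent ↥(P : Subgroup G) = p) ∧
        ∃ C : Subgroup G, Cfsg.IsFrobeniusComplement C ∧ (Nat.card ↥C).Prime) := by
  obtain ⟨x, y, hV⟩ := exists_vals hodd h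
  refine ⟨hV.two_primes, fun h2 => ?_⟩
  obtain ⟨p, q, hpq, hpq2⟩ := Finset.card_eq_two.1 h2
  have hPQ := hV.pq hpq hpq2
  refine ⟨?_, hPQ.comp'⟩
  intro r hr P hd
  have hr' : r = p ∨ r = q := by
    have : r ∈ (Nat.card G).primeFactors := Nat.mem_primeFactors.2 ⟨hr.out, hd, Nat.card_pos.ne'⟩
    rw [hpq2] at this
    simpa using this
  have hnt : Nontrivial (P : Subgroup G) := by
    rw [Subgroup.nontrivial_iff_ne_bot]
    exact P.ne_bot_of_dvd_card hd
  refine Cfsg.Agent.S3995.exponent_eq r hr.out P.isPGroup' ?_ hnt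
  intro g hg
  have h5 := hPQ.ord (g : G)
  rw [Subgroup.orderOf_coe, hg] at h5
  have h6 := hr.out.one_lt
  have h7 : r < r ^ 2 := by nlinarith
  rcases h5 with h5 | h5 | h5
  · omega
  · rcases hr' with rfl | rfl
    · omega
    · have : r ∣ p := by rw [← h5]; exact dvd_pow_self _ (by norm_num)
      exact hpq ((Nat.prime_dvd_prime_iff_eq hr.out hPQ.hp).1 this).symm
  · rcases hr' with rfl | rfl
    · have : r ∣ q := by rw [← h5]; exact dvd_pow_self _ (by norm_num)
      exact hpq ((Nat.prime_dvd_prime_iff_eq hr.out hPQ.hq).1 this)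
    · omega

end Cfsg.Agent.Lib.H70SameOrd
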