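import Mathlib

set_option autoImplicit false

/-!
# 2-elements of symmetric groups lying in a unique Sylow 2-subgroup (helper70)
-/

namespace Cfsg.Agent.Lib.H70SylSym

open Equiv Equiv.Perm Subgroup MulAction

universe u

section fpf

variable {α : Type u} [Fintype α] [DecidableEq α]

open scoped Nat in
theorem card_type (m : ℕ) (hm : Fintype.card α = 2 * m) (hm0 : 0 < m) :
    Odd (Nat.card {σ : Perm α // σ.cycleType = Multiset.replicate m 2}) := by
  rw [Nat.card_eq_fintype_card, Fintype.card_subtype, card_of_cycleType, if_pos, hm]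
  · have h1 : (Multiset.replicate m 2).toFinset = {2} := by
      rw [Multiset.toFinset_replicate, if_neg hm0.ne']
    rw [Multiset.sum_replicate, Multiset.prod_replicate, h1, Finset.prod_singleton, Multiset.count_replicate_self]
    have h2 : 2 * m - m • 2 = 0 := by rw [smul_eq_mul, mul_comm]; omega
    rw [h2, Nat.factorial_zero, one_mul]
    obtain ⟨k, rfl⟩ : ∃ k, m = k + 1 := ⟨m - 1, by omega⟩
    have h3 : (2 * (k + 1))! = (2 * (k + 1))‼ * (2 * k + 1)‼ := Nat.factorial_eq_mul_doubleFactorial (2 * k + 1)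
    rw [h3, Nat.doubleFactorial_two_mul, Nat.mul_div_cancel_left _ (by positivity)]
    clear h3 h2 h1 hm hm0
    induction k with
    | zero => decide
    | succ k ih =>
      have : 2 * (k + 1) + 1 = 2 * k + 1 + 2 := by ring
      rw [this, Nat.doubleFactorial_add_two]
      exact Odd.mul ⟨k + 1, by ring⟩ ih
  · constructor
    · rw [Multiset.sum_replicate, hm, smul_eq_mul, mul_comm]
    · intro a ha
      rw [Multiset.eq_of_mem_replicate ha]

theorem exists_fpf (m : ℕ) (hm : Fintype.card α = 2 * m) (P : Subgroup (Perm α)) (hP : IsPGroup 2 P) :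
    ∃ σ : Perm α, (∀ a, σ (σ a) = a) ∧ (∀ a, σ a ≠ a) ∧ ∀ g ∈ P, g * σ = σ * g := by
  haveI : Fact (Nat.Prime 2) := ⟨Nat.prime_two⟩
  rcases Nat.eq_zero_or_pos m with rfl | hm0
  · haveI : IsEmpty α := Fintype.card_eq_zero_iff.1 (by rw [hm])
    exact ⟨1, fun a => isEmptyElim a, fun a => isEmptyElim a, fun g _ => by rw [mul_one, one_mul]⟩
  letI : MulAction P {σ : Perm α // σ.cycleType = Multiset.replicate m 2} :=
    { smul := fun g σ => ⟨(g : Perm α) * σ.1 * (g : Perm α)⁻¹, by rw [cycleType_conj]; exact σ.2⟩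
      one_smul := fun σ => Subtype.ext (by
        change (1 : Perm α) * σ.1 * (1 : Perm α)⁻¹ = σ.1
        simp)
      mul_smul := fun g h σ => Subtype.ext (by
        change ((g : Perm α) * h) * σ.1 * ((g : Perm α) * h)⁻¹ = g * (h * σ.1 * (h : Perm α)⁻¹) * (g : Perm α)⁻¹
        group) }
  obtain ⟨σ, hσ⟩ := hP.nonempty_fixed_point_of_prime_not_dvd_card {σ : Perm α // σ.cycleType = Multiset.replicate m 2} (by
    have := card_type (α := α) m hm hm0
    rw [← Nat.not_even_iff_odd, even_iff_two_dvd] at this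
    exact this)
  have hord : orderOf σ.1 = 2 := by
    rw [← lcm_cycleType, σ.2]
    obtain ⟨k, rfl⟩ : ∃ k, m = k + 1 := ⟨m - 1, by omega⟩
    clear hm hm0 hσ σ
    induction k with
    | zero => simp
    | succ k ih => rw [Multiset.replicate_succ, Multiset.lcm_cons, ih]; rfl
  have hsupp : σ.1.support = Finset.univ := by
    rw [← Finset.card_eq_iff_eq_univ, hm, ← sum_cycleType, σ.2, Multiset.sum_replicate, smul_eq_mul, mul_comm]
  refine ⟨σ.1, ?_, ?_, ?_⟩
  · intro a
    have h1 : σ.1 ^ 2 = 1 := by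
      have := pow_orderOf_eq_one σ.1
      rwa [hord] at this
    rw [pow_two] at h1
    exact congrArg (fun τ : Perm α => τ a) h1
  · intro a
    rw [← mem_support, hsupp]; exact Finset.mem_univ a
  · intro g hg
    have h1 := hσ ⟨g, hg⟩
    have h2 : g * σ.1 * g⁻¹ = σ.1 := congrArg Subtype.val h1
    exact mul_inv_eq_iff_eq_mul.1 h2

end fpf

structure Good {α : Type u} (x : Perm α) : Prop where
  cyc : ∀ (j : ℕ) (a b : α), (x ^ 2 ^ (j + 1)) a = a → (x ^ 2 ^ (j + 1)) b = b → (x ^ 2 ^ j) a ≠ a →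
    (x ^ 2 ^ j) b ≠ b → x.SameCycle a b
  fix : ∀ a b c, x a = a → x b = b → x c = c → a = b ∨ a = c ∨ b = c

theorem zpow_apply_of_dvd {α : Type u} {x : Perm α} {a : α} {n : ℕ} (h : (x ^ n) a = a) {i : ℤ} (hi : (n : ℤ) ∣ i) :
    (x ^ i) a = a := by
  obtain ⟨c, rfl⟩ := hi
  rw [zpow_mul, zpow_natCast]
  exact Equiv.Perm.zpow_apply_eq_self_of_apply_eq_self h c

theorem per {α : Type u} {x : Perm α} {a : α} {j : ℕ} (h1 : (x ^ 2 ^ (j + 1)) a = a) (h2 : (x ^ 2 ^ j) a ≠ a) (i : ℤ) :
    (x ^ i) a = a ↔ ((2 ^ (j + 1) : ℕ) : ℤ) ∣ i := by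
  constructor
  · intro h
    by_contra hnd
    apply h2
    -- `gcd i (2^(j+1))` divides `2^j`
    have hg : Int.gcd i (2 ^ (j + 1) : ℕ) ∣ 2 ^ j := by
      have h3 : Int.gcd i (2 ^ (j + 1) : ℕ) ∣ 2 ^ (j + 1) := by
        have := Int.gcd_dvd_right i ((2 ^ (j + 1) : ℕ) : ℤ)
        exact_mod_cast this
      obtain ⟨l, hl, hl2⟩ := (Nat.dvd_prime_pow Nat.prime_two).1 h3
      have h4 : l ≠ j + 1 := by
        rintro rfl
        apply hnd
        rw [← hl2]
        exact Int.gcd_dvd_left i _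
      rw [hl2]
      exact pow_dvd_pow 2 (by omega)
    have h5 : (x ^ (Int.gcd i (2 ^ (j + 1) : ℕ) : ℤ)) a = a := by
      rw [Int.gcd_eq_gcd_ab, zpow_add, zpow_mul, zpow_mul]
      change ((x ^ i) ^ (i.gcdA (2 ^ (j + 1) : ℕ))) (((x ^ ((2 ^ (j + 1) : ℕ) : ℤ)) ^ (i.gcdB (2 ^ (j + 1) : ℕ))) a) = a
      have e1 : ((x ^ ((2 ^ (j + 1) : ℕ) : ℤ)) ^ (i.gcdB (2 ^ (j + 1) : ℕ))) a = a :=
        Equiv.Perm.zpow_apply_eq_self_of_apply_eq_self (by rw [zpow_natCast]; exact h1) _
      rw [e1]
      exact Equiv.Perm.zpow_apply_eq_self_of_apply_eq_self h _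
    rw [zpow_natCast] at h5
    have h6 := zpow_apply_of_dvd h5 (i := ((2 ^ j : ℕ) : ℤ)) (by exact_mod_cast hg)
    rwa [zpow_natCast] at h6
  · intro h
    exact zpow_apply_of_dvd h1 h

theorem exists_level {α : Type u} {x : Perm α} {k : ℕ} (hx : x ^ 2 ^ k = 1) {a : α} (ha : x a ≠ a) :
    ∃ j, (x ^ 2 ^ (j + 1)) a = a ∧ (x ^ 2 ^ j) a ≠ a := by
  classical
  have hex : ∃ k, (x ^ 2 ^ k) a = a := ⟨k, by rw [hx]; rfl⟩
  have h1 := Nat.find_spec hex
  have h0 : Nat.find hex ≠ 0 := by
    intro h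
    rw [h, pow_zero, pow_one] at h1
    exact ha h1
  obtain ⟨j, hj⟩ : ∃ j, Nat.find hex = j + 1 := ⟨Nat.find hex - 1, by omega⟩
  rw [hj] at h1
  exact ⟨j, h1, fun h => Nat.find_min hex (m := j) (by omega) h⟩

/-- the data of a fixed-point-free involution commuting with `x` -/
structure Fpf {α : Type u} (x σ : Perm α) : Prop where
  inv : ∀ a, σ (σ a) = a
  ne : ∀ a, σ a ≠ a
  comm : x * σ = σ * x

theorem Fpf.pow {α : Type u} {x σ : Perm α} (h : Fpf x σ) (n : ℕ) (a : α) : (x ^ n) (σ a) = σ ((x ^ n) a) := by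
  have h1 : Commute x σ := h.comm
  exact congrArg (fun τ : Perm α => τ a) (h1.pow_left n).eq

theorem Fpf.zpow {α : Type u} {x σ : Perm α} (h : Fpf x σ) (n : ℤ) (a : α) : (x ^ n) (σ a) = σ ((x ^ n) a) := by
  have h1 : Commute x σ := h.comm
  exact congrArg (fun τ : Perm α => τ a) (h1.zpow_left n).eq

theorem Good.sigma {α : Type u} {x σ : Perm α} (hG : Good x) (h : Fpf x σ) {a : α} {j : ℕ}
    (h1 : (x ^ 2 ^ (j + 1)) a = a) (h2 : (x ^ 2 ^ j) a ≠ a) : σ a = (x ^ 2 ^ j) a := by
  obtain ⟨i, hi⟩ := hG.cyc j a (σ a) h1 (by rw [h.pow, h1]) h2 (by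
    rw [h.pow]
    intro h3
    exact h2 (σ.injective h3))
  have h3 : (x ^ (2 * i)) a = a := by
    rw [two_mul, zpow_add, mul_apply, hi, h.zpow, hi, h.inv]
  rw [per h1 h2] at h3
  have h4 : ((2 ^ j : ℕ) : ℤ) ∣ i := by
    obtain ⟨c, hc⟩ := h3
    refine ⟨c, ?_⟩
    push_cast at hc ⊢
    rw [pow_succ] at hc
    linarith
  obtain ⟨c, hc⟩ := h4
  rcases Int.even_or_odd' c with ⟨d, rfl | rfl⟩
  · exfalso
    have h5 : ((2 ^ (j + 1) : ℕ) : ℤ) ∣ i := ⟨d, by rw [hc]; push_cast; ring⟩
    rw [← per h1 h2, hi] at h5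
    exact h.ne a h5
  · have h5 : i = ((2 ^ j : ℕ) : ℤ) + ((2 ^ (j + 1) : ℕ) : ℤ) * d := by rw [hc]; push_cast; ring
    rw [← hi, h5, zpow_add, mul_apply, zpow_natCast, zpow_apply_of_dvd h1 (dvd_mul_right _ _)]

theorem Good.unique {α : Type u} {x σ τ : Perm α} {k : ℕ} (hx : x ^ 2 ^ k = 1) (hG : Good x) (h : Fpf x σ)
    (h' : Fpf x τ) : σ = τ := by
  ext a
  by_cases ha : x a = a
  · have h1 : x (σ a) = σ a := by
      have := h.pow 1 a
      rwa [pow_one, ha] at this
    have h2 : x (τ a) = τ a := by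
      have := h'.pow 1 a
      rwa [pow_one, ha] at this
    rcases hG.fix a (σ a) (τ a) ha h1 h2 with h3 | h3 | h3
    · exact absurd h3.symm (h.ne a)
    · exact absurd h3.symm (h'.ne a)
    · exact h3
  · obtain ⟨j, h1, h2⟩ := exists_level hx ha
    rw [hG.sigma h h1 h2, hG.sigma h' h1 h2]

section quot

variable {α : Type u} {σ : Perm α}

/-- the relation `a ~ σ a` -/
def rel (hσ : ∀ a, σ (σ a) = a) : Setoid α where
  r a b := a = b ∨ a = σ b
  iseqv := ⟨fun a => Or.inl rfl, by
    rintro a b (rfl | rfl)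
    · exact Or.inl rfl
    · right; rw [hσ], by
    rintro a b c (rfl | rfl) (rfl | rfl)
    · exact Or.inl rfl
    · exact Or.inr rfl
    · exact Or.inr rfl
    · left; rw [hσ]⟩

/-- the action on the quotient -/
def act (hσ : ∀ a, σ (σ a) = a) : MulAction (centralizer {σ} : Subgroup (Perm α)) (Quotient (rel hσ)) where
  smul g := Quotient.map (fun a => (g : Perm α) a) (by
    rintro a b (rfl | rfl)
    · exact Or.inl rfl
    · right
      have h1 : (g : Perm α) * σ = σ * g := (mem_centralizer_singleton_iff.1 g.2).symm ▸ rfl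
      exact congrArg (fun τ : Perm α => τ b) h1)
  one_smul := by
    intro q
    induction q using Quotient.inductionOn with
    | _ a => rfl
  mul_smul := by
    intro g h q
    induction q using Quotient.inductionOn with
    | _ a => rfl

theorem card_quot [Fintype α] [DecidableEq α] (hσ : ∀ a, σ (σ a) = a) (hne : ∀ a, σ a ≠ a) :
    Fintype.card α = 2 * Nat.card (Quotient (rel hσ)) := by
  classical
  haveI := Fintype.ofFinite (Quotient (rel hσ))
  have h1 : Nat.card α = Nat.card (Σ q : Quotient (rel hσ), {a : α // (Quotient.mk (rel hσ) a) = q}) :=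
    Nat.card_congr (Equiv.sigmaFiberEquiv (fun a : α => Quotient.mk (rel hσ) a)).symm
  rw [Nat.card_sigma] at h1
  rw [← Nat.card_eq_fintype_card, h1]
  have h2 : ∀ q : Quotient (rel hσ), Nat.card {a : α // (Quotient.mk (rel hσ) a) = q} = 2 := by
    intro q
    induction q using Quotient.inductionOn with
    | _ b =>
      have h3 : Nat.card {a : α // (Quotient.mk (rel hσ) a) = Quotient.mk (rel hσ) b} = ({b, σ b} : Set α).ncard := by
        rw [Set.ncard]
        apply Nat.card_congr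
        apply Equiv.subtypeEquivRight
        intro a
        rw [Quotient.eq]
        exact Iff.rfl
      rw [h3, Set.ncard_pair (hne b).symm]
  rw [Finset.sum_congr rfl (fun q _ => h2 q), Finset.sum_const, Finset.card_univ, smul_eq_mul, mul_comm,
    Nat.card_eq_fintype_card]

end quot

/-- the statement proved by induction -/
def St (α : Type u) : Prop := ∀ (x : Perm α) (k : ℕ), x ^ 2 ^ k = 1 → Good x → ∀ P₁ P₂ : Subgroup (Perm α),
  IsPGroup 2 P₁ → IsPGroup 2 P₂ → x ∈ P₁ → x ∈ P₂ → IsPGroup 2 (P₁ ⊔ P₂ : Subgroup (Perm α))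

/-- `Good` passes to the quotient -/
theorem Good.quot {α : Type u} {x σ : Perm α} {k : ℕ} (hx : x ^ 2 ^ k = 1) (hG : Good x) (h : Fpf x σ)
    (hxσ : x ∈ (centralizer {σ} : Subgroup (Perm α))) :
    letI := act h.inv
    Good (MulAction.toPermHom (centralizer {σ} : Subgroup (Perm α)) (Quotient (rel h.inv)) ⟨x, hxσ⟩) := by
  letI := act h.inv
  set y := MulAction.toPermHom (centralizer {σ} : Subgroup (Perm α)) (Quotient (rel h.inv)) ⟨x, hxσ⟩ with hy
  have hpow : ∀ (n : ℕ) (a : α), (y ^ n) (Quotient.mk (rel h.inv) a) = Quotient.mk (rel h.inv) ((x ^ n) a) := by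
    intro n a
    rw [hy, ← map_pow]
    rfl
  have hzpow : ∀ (n : ℤ) (a : α), (y ^ n) (Quotient.mk (rel h.inv) a) = Quotient.mk (rel h.inv) ((x ^ n) a) := by
    intro n a
    rw [hy, ← map_zpow]
    rfl
  have heq : ∀ a b : α, Quotient.mk (rel h.inv) a = Quotient.mk (rel h.inv) b ↔ a = b ∨ a = σ b := by
    intro a b
    rw [Quotient.eq]
    exact Iff.rfl
  -- the level in the quotient
  have key : ∀ (j : ℕ) (a : α), (y ^ 2 ^ (j + 1)) (Quotient.mk (rel h.inv) a) = Quotient.mk (rel h.inv) a →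
      (y ^ 2 ^ j) (Quotient.mk (rel h.inv) a) ≠ Quotient.mk (rel h.inv) a →
      (x ^ 2 ^ (j + 1 + 1)) a = a ∧ (x ^ 2 ^ (j + 1)) a ≠ a := by
    intro j a h1 h2
    rw [hpow, heq] at h1
    rw [hpow, Ne, heq] at h2
    push Not at h2
    have h3 : (x ^ 2 ^ (j + 1)) a ≠ a := by
      intro h4
      exact h2.2 (hG.sigma h h4 h2.1).symm
    have h4 : (x ^ 2 ^ (j + 1)) a = σ a := h1.resolve_left h3
    refine ⟨?_, h3⟩
    rw [pow_succ 2 (j + 1), mul_two, pow_add, mul_apply, h4, h.pow, h4, h.inv]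
  constructor
  · intro j a b
    induction a using Quotient.inductionOn with
    | _ a =>
    induction b using Quotient.inductionOn with
    | _ b =>
    intro h1 h2 h3 h4
    obtain ⟨h5, h6⟩ := key j a h1 h3
    obtain ⟨h7, h8⟩ := key j b h2 h4
    obtain ⟨i, hi⟩ := hG.cyc (j + 1) a b h5 h7 h6 h8
    exact ⟨i, by rw [hzpow, hi]⟩
  · intro a b c
    induction a using Quotient.inductionOn with
    | _ a =>
    induction b using Quotient.inductionOn with
    | _ b =>
    induction c using Quotient.inductionOn with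
    | _ c =>
    have hone : ∀ a : α, y (Quotient.mk (rel h.inv) a) = Quotient.mk (rel h.inv) a → x a = a ∨ x a = σ a := by
      intro a ha
      have := hpow 1 a
      rw [pow_one, pow_one, ha] at this
      exact (heq _ _).1 this.symm
    have hff : ∀ a b : α, x a = a → x b = b → Quotient.mk (rel h.inv) a = Quotient.mk (rel h.inv) b := by
      intro a b ha hb
      rw [heq]
      have h1 : x (σ b) = σ b := by
        have := h.pow 1 b
        rwa [pow_one, hb] at this
      rcases hG.fix a b (σ b) ha hb h1 with h2 | h2 | h2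
      · exact Or.inl h2
      · exact Or.inr h2
      · exact absurd h2.symm (h.ne b)
    have hss : ∀ a b : α, x a = σ a → x b = σ b → Quotient.mk (rel h.inv) a = Quotient.mk (rel h.inv) b := by
      intro a b ha hb
      have hlev : ∀ a : α, x a = σ a → (x ^ 2 ^ (0 + 1)) a = a ∧ (x ^ 2 ^ 0) a ≠ a := by
        intro a ha
        constructor
        · rw [zero_add, pow_one, pow_two, mul_apply, ha]
          have := h.pow 1 a
          rw [pow_one] at this
          rw [this, ha, h.inv]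
        · rw [pow_zero, pow_one, ha]; exact h.ne a
      obtain ⟨h1, h2⟩ := hlev a ha
      obtain ⟨h3, h4⟩ := hlev b hb
      obtain ⟨i, hi⟩ := hG.cyc 0 a b h1 h3 h2 h4
      rw [heq]
      rcases Int.even_or_odd' i with ⟨d, rfl | rfl⟩
      · left
        rw [← hi]
        exact (zpow_apply_of_dvd h1 (by norm_num)).symm
      · right
        rw [← hi, add_comm, zpow_add, zpow_one, mul_apply]
        rw [show (x ^ (2 * d)) a = a from zpow_apply_of_dvd h1 (by norm_num), ha, h.inv]
    intro h1 h2 h3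
    rcases hone a h1 with h4 | h4 <;> rcases hone b h2 with h5 | h5 <;> rcases hone c h3 with h6 | h6
    · exact Or.inl (hff a b h4 h5)
    · exact Or.inl (hff a b h4 h5)
    · exact Or.inr (Or.inl (hff a c h4 h6))
    · exact Or.inr (Or.inr (hss b c h5 h6))
    · exact Or.inr (Or.inr (hff b c h5 h6))
    · exact Or.inr (Or.inl (hss a c h4 h6))
    · exact Or.inl (hss a b h4 h5)
    · exact Or.inl (hss a b h4 h5)

theorem step {α : Type u} [Fintype α] [DecidableEq α] (m : ℕ) (hm : Fintype.card α = 2 * m)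
    (ih : ∀ (β : Type u) [Finite β], Nat.card β = m → St β) : St α := by
  intro x k hx hG P₁ P₂ hP₁ hP₂ hx₁ hx₂
  obtain ⟨σ, hσ1, hσ2, hσ3⟩ := exists_fpf m hm P₁ hP₁
  obtain ⟨τ, hτ1, hτ2, hτ3⟩ := exists_fpf m hm P₂ hP₂
  have h : Fpf x σ := ⟨hσ1, hσ2, hσ3 x hx₁⟩
  have h' : Fpf x τ := ⟨hτ1, hτ2, hτ3 x hx₂⟩
  obtain rfl := hG.unique hx h h'
  set C := (centralizer {σ} : Subgroup (Perm α)) with hC
  have hle₁ : P₁ ≤ C := fun g hg => mem_centralizer_singleton_iff.2 (hσ3 g hg)
  have hle₂ : P₂ ≤ C := fun g hg => mem_centralizer_singleton_iff.2 (hτ3 g hg)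
  letI := act h.inv
  set φ : C →* Perm (Quotient (rel h.inv)) := MulAction.toPermHom C (Quotient (rel h.inv)) with hφ
  have hQ : Nat.card (Quotient (rel h.inv)) = m := by
    have := card_quot h.inv h.ne
    omega
  have hxC : x ∈ C := hle₁ hx₁
  have h1 := ih (Quotient (rel h.inv)) hQ (φ ⟨x, hxC⟩) k (by
    rw [← map_pow]
    have : (⟨x, hxC⟩ : C) ^ 2 ^ k = 1 := Subtype.ext hx
    rw [this, map_one]) (hG.quot hx h hxC) ((P₁.subgroupOf C).map φ) ((P₂.subgroupOf C).map φ)
    ((hP₁.comap_subtype).map φ) ((hP₂.comap_subtype).map φ) ⟨⟨x, hxC⟩, hx₁, rfl⟩ ⟨⟨x, hxC⟩, hx₂, rfl⟩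
  rw [← Subgroup.map_sup] at h1
  have hker : ∀ g : C, φ g = 1 → g ^ 2 = 1 := by
    intro g hg
    apply Subtype.ext
    ext a
    have h2 : ∀ a, (g : Perm α) a = a ∨ (g : Perm α) a = σ a := by
      intro a
      have h3 : φ g (Quotient.mk (rel h.inv) a) = Quotient.mk (rel h.inv) a := by rw [hg]; rfl
      have h4 : Quotient.mk (rel h.inv) ((g : Perm α) a) = Quotient.mk (rel h.inv) a := h3
      rw [Quotient.eq] at h4
      exact h4
    have h5 : (g : Perm α) (σ a) = σ ((g : Perm α) a) := by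
      have h6 := mem_centralizer_singleton_iff.1 g.2
      exact congrArg (fun τ : Perm α => τ a) h6
    change ((g : Perm α) ^ 2) a = a
    rw [pow_two, mul_apply]
    rcases h2 a with h3 | h3
    · rw [h3, h3]
    · rw [h3, h5, h3, h.inv]
  have h2 : IsPGroup 2 (P₁.subgroupOf C ⊔ P₂.subgroupOf C : Subgroup C) := by
    rintro ⟨g, hg⟩
    obtain ⟨n, hn⟩ := h1 ⟨φ g, ⟨g, hg, rfl⟩⟩
    have h3 : φ (g ^ 2 ^ n) = 1 := by
      rw [map_pow]; exact congrArg Subtype.val hn
    refine ⟨n + 1, Subtype.ext ?_⟩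
    change g ^ 2 ^ (n + 1) = 1
    rw [pow_succ, pow_mul]
    exact hker _ h3
  have h3 := h2.map C.subtype
  rwa [Subgroup.map_sup, Subgroup.map_subgroupOf_eq_of_le hle₁, Subgroup.map_subgroupOf_eq_of_le hle₂] at h3

theorem main_ind (n : ℕ) : ∀ (α : Type u) [Finite α], Nat.card α = n → St α := by
  classical
  induction n using Nat.strong_induction_on with
  | _ n ih =>
  intro α _ hα
  haveI := Fintype.ofFinite α
  rw [Nat.card_eq_fintype_card] at hα
  by_cases hn : n ≤ 1
  · intro x k hx hG P₁ P₂ _ _ _ _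
    haveI : Subsingleton α := Fintype.card_le_one_iff_subsingleton.1 (by omega)
    rintro ⟨g, hg⟩
    exact ⟨0, Subtype.ext (Equiv.ext (fun a => Subsingleton.elim _ _))⟩
  rcases Nat.even_or_odd' n with ⟨m, rfl | rfl⟩
  · exact step m hα (fun β _ hβ => ih m (by omega) β hβ)
  · have h0 : St (α ⊕ PUnit.{u + 1}) := by
      apply step (m + 1)
      · rw [Fintype.card_sum, hα, Fintype.card_punit]; ring
      · exact fun β _ hβ => ih (m + 1) (by omega) β hβ
    intro x k hx hG P₁ P₂ hP₁ hP₂ hx₁ hx₂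
    let ι : Perm α →* Perm (α ⊕ PUnit.{u + 1}) := (sumCongrHom α PUnit.{u + 1}).comp (MonoidHom.inl _ _)
    have hι : ∀ (g : Perm α) (a : α), ι g (Sum.inl a) = Sum.inl (g a) := fun g a => rfl
    have hι2 : ∀ (g : Perm α) (a : PUnit.{u + 1}), ι g (Sum.inr a) = Sum.inr a := fun g a => rfl
    have hinj : Function.Injective ι := by
      intro g g' hgg'
      ext a
      have := congrArg (fun τ : Perm (α ⊕ PUnit.{u + 1}) => τ (Sum.inl a)) hgg'
      exact Sum.inl_injective this
    have hfix : ∀ a b : α, x a = a → x b = b → a = b := by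
      intro a b ha hb
      by_contra hab
      haveI : Fact (Nat.Prime 2) := ⟨Nat.prime_two⟩
      have h1 := Equiv.Perm.card_compl_support_modEq (p := 2) hx
      rw [hα] at h1
      have h2 : x.supportᶜ = {a, b} := by
        ext c
        simp only [Finset.mem_compl, mem_support, not_not, Finset.mem_insert, Finset.mem_singleton]
        constructor
        · intro hc
          rcases hG.fix a b c ha hb hc with h3 | h3 | h3
          · exact absurd h3 hab
          · left; exact h3.symm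
          · right; exact h3.symm
        · rintro (rfl | rfl)
          · exact ha
          · exact hb
      rw [h2, Finset.card_pair hab] at h1
      have h3 : 2 % 2 = (2 * m + 1) % 2 := h1
      omega
    have hG' : Good (ι x) := by
      constructor
      · rintro j (a | a) (b | b) h1 h2 h3 h4
        · rw [← map_pow, hι] at h1 h2 h3 h4
          obtain ⟨i, hi⟩ := hG.cyc j a b (Sum.inl_injective h1) (Sum.inl_injective h2)
            (fun h => h3 (by rw [h])) (fun h => h4 (by rw [h]))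
          exact ⟨i, by rw [← map_zpow, hι, hi]⟩
        · exact absurd (by rw [← map_pow, hι2]) h4
        · exact absurd (by rw [← map_pow, hι2]) h3
        · exact absurd (by rw [← map_pow, hι2]) h3
      · rintro (a | a) (b | b) (c | c) h1 h2 h3
        · rw [hι] at h1 h2
          left; rw [hfix a b (Sum.inl_injective h1) (Sum.inl_injective h2)]
        · rw [hι] at h1 h2
          left; rw [hfix a b (Sum.inl_injective h1) (Sum.inl_injective h2)]
        · rw [hι] at h1 h3
          right; left; rw [hfix a c (Sum.inl_injective h1) (Sum.inl_injective h3)]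
        · right; right; rfl
        · rw [hι] at h2 h3
          right; right; rw [hfix b c (Sum.inl_injective h2) (Sum.inl_injective h3)]
        · right; left; rfl
        · left; rfl
        · left; rfl
    have h1 := h0 (ι x) k (by rw [← map_pow, hx, map_one]) hG' (P₁.map ι) (P₂.map ι) (hP₁.map ι) (hP₂.map ι)
      ⟨x, hx₁, rfl⟩ ⟨x, hx₂, rfl⟩
    rw [← Subgroup.map_sup] at h1
    have h2 := h1.comap_of_injective ι hinj
    rwa [Subgroup.comap_map_eq_self_of_injective hinj] at h2

section converse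

variable {α : Type u} [Fintype α] [DecidableEq α]

theorem swap_mem {x : Perm α} {k : ℕ} (hx : x ^ 2 ^ k = 1) {P : Sylow 2 (Perm α)}
    (huniq : ∀ Q : Sylow 2 (Perm α), x ∈ Q → Q = P) {a b : α}
    (h : ∀ i : ℤ, ((x ^ i) a = a ∨ (x ^ i) a = b ∨ (x ^ i) b = a ∨ (x ^ i) b = b) →
      swap ((x ^ i) a) ((x ^ i) b) = swap a b) : swap a b ∈ P := by
  haveI : Fact (Nat.Prime 2) := ⟨Nat.prime_two⟩
  set s : ℤ → Perm α := fun i => swap ((x ^ i) a) ((x ^ i) b) with hs
  have hs0 : s 0 = swap a b := by simp [hs]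
  have hconj : ∀ k i : ℤ, x ^ k * s i * (x ^ k)⁻¹ = s (k + i) := by
    intro k i
    rw [mul_inv_eq_iff_eq_mul, Equiv.mul_swap_eq_swap_mul]
    simp only [hs, zpow_add, mul_apply]
  have hcomm0 : ∀ i, Commute (s i) (s 0) := by
    intro i
    by_cases hi : (x ^ i) a = a ∨ (x ^ i) a = b ∨ (x ^ i) b = a ∨ (x ^ i) b = b
    · have : s i = s 0 := by rw [hs0]; exact h i hi
      rw [this]
    · push Not at hi
      rw [hs0]
      change s i * swap a b = swap a b * s i
      rw [Equiv.mul_swap_eq_swap_mul]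
      have e1 : s i a = a := swap_apply_of_ne_of_ne hi.1.symm hi.2.2.1.symm
      have e2 : s i b = b := swap_apply_of_ne_of_ne hi.2.1.symm hi.2.2.2.symm
      rw [e1, e2]
  have hcomm : ∀ i j, Commute (s i) (s j) := by
    intro i j
    have h1 : s i = x ^ j * s (i - j) * (x ^ j)⁻¹ := by rw [hconj]; congr 1; ring
    have h2 : s j = x ^ j * s 0 * (x ^ j)⁻¹ := by rw [hconj]; congr 1; ring
    rw [h1, h2]
    exact (hcomm0 (i - j)).map (MulAut.conj (x ^ j))
  set E := closure (Set.range s) with hE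
  have hEc : IsMulCommutative E := by
    apply Subgroup.isMulCommutative_closure
    rintro _ ⟨i, rfl⟩ _ ⟨j, rfl⟩
    exact (hcomm i j).eq
  have hE2 : ∀ g ∈ E, g ^ 2 = 1 := by
    intro g hg
    induction hg using Subgroup.closure_induction with
    | mem g hg =>
      obtain ⟨i, rfl⟩ := hg
      rw [pow_two]; exact swap_mul_self _ _
    | one => exact one_pow 2
    | mul g g' hg hg' h1 h2 =>
      have h3 : Commute g g' := congrArg Subtype.val (mul_comm' (⟨g, hg⟩ : E) ⟨g', hg'⟩)
      rw [h3.mul_pow, h1, h2, one_mul]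
    | inv g hg h1 => rw [inv_pow, h1, inv_one]
  have hEp : IsPGroup 2 E := fun g => ⟨1, Subtype.ext (by rw [pow_one]; exact hE2 g g.2)⟩
  have hEmap : ∀ (k : ℤ) (g : Perm α), g ∈ E → x ^ k * g * (x ^ k)⁻¹ ∈ E := by
    intro k g hg
    have h1 : E.map (MulAut.conj (x ^ k)).toMonoidHom ≤ E := by
      rw [hE, MonoidHom.map_closure, closure_le]
      rintro _ ⟨_, ⟨i, rfl⟩, rfl⟩
      apply Subgroup.subset_closure
      exact ⟨k + i, (hconj k i).symm⟩
    exact h1 ⟨g, hg, rfl⟩
  have hnorm : zpowers x ≤ normalizer (E : Set (Perm α)) := by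
    rw [zpowers_le, mem_normalizer_iff]
    intro g
    constructor
    · intro hg
      have := hEmap 1 g hg
      rwa [zpow_one] at this
    · intro hg
      have := hEmap (-1) _ hg
      rw [zpow_neg, zpow_one, inv_inv] at this
      have e : x⁻¹ * (x * g * x⁻¹) * x = g := by group
      rwa [e] at this
  have hzp : IsPGroup 2 (zpowers x) := by
    rintro ⟨g, hg⟩
    obtain ⟨i, rfl⟩ := mem_zpowers_iff.1 hg
    refine ⟨k, Subtype.ext ?_⟩
    change (x ^ i) ^ 2 ^ k = 1
    rw [← zpow_natCast, ← zpow_mul, mul_comm, zpow_mul, zpow_natCast, hx, one_zpow]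
  have hT : IsPGroup 2 (zpowers x ⊔ E : Subgroup (Perm α)) := IsPGroup.to_sup_of_normal_right' hzp hEp hnorm
  obtain ⟨Q, hQ⟩ := hT.exists_le_sylow
  have hQP : Q = P := huniq Q (hQ ((le_sup_left : zpowers x ≤ _) (mem_zpowers x)))
  rw [← hQP, ← hs0]
  exact hQ ((le_sup_right : E ≤ _) (Subgroup.subset_closure ⟨0, rfl⟩))

theorem not_three {P : Sylow 2 (Perm α)} {a b c : α} (hab : a ≠ b) (hac : a ≠ c) (hbc : b ≠ c) (h1 : swap a b ∈ P)
    (h2 : swap a c ∈ P) : False := by
  have h3 := isThreeCycle_swap_mul_swap_same hab hac hbc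
  have h4 : swap a b * swap a c ∈ (P : Subgroup (Perm α)) := mul_mem h1 h2
  obtain ⟨n, hn⟩ := IsPGroup.iff_orderOf.1 P.isPGroup' ⟨_, h4⟩
  rw [← Subgroup.orderOf_coe] at hn
  change orderOf (swap a b * swap a c) = 2 ^ n at hn
  rw [h3.orderOf] at hn
  have h5 : 3 ∣ 2 ^ n := by rw [← hn]
  have := Nat.Prime.dvd_of_dvd_pow Nat.prime_three h5
  omega

theorem good_of_unique {x : Perm α} {k : ℕ} (hx : x ^ 2 ^ k = 1) {P : Sylow 2 (Perm α)}
    (huniq : ∀ Q : Sylow 2 (Perm α), x ∈ Q → Q = P) : Good x := by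
  constructor
  · intro j a b ha hb ha' hb'
    by_contra hS
    have hS' : ∀ i : ℤ, (x ^ i) a ≠ b := fun i hi => hS ⟨i, hi⟩
    have hS'' : ∀ i : ℤ, (x ^ i) b ≠ a := fun i hi => hS (SameCycle.symm ⟨i, hi⟩)
    have hper : ∀ i : ℤ, (x ^ i) a = a ↔ (x ^ i) b = b := fun i => by rw [per ha ha' i, per hb hb' i]
    have h1 : swap a b ∈ P := by
      apply swap_mem hx huniq
      rintro i (h | h | h | h)
      · rw [h, (hper i).1 h]
      · exact absurd h (hS' i)
      · exact absurd h (hS'' i)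
      · rw [h, (hper i).2 h]
    have hshift : ∀ i : ℤ, (x ^ i) ((x ^ 2 ^ j) a) = (x ^ 2 ^ j) ((x ^ i) a) := by
      intro i
      have : Commute (x ^ i) (x ^ 2 ^ j) := ((Commute.refl x).zpow_left i).pow_right _
      exact congrArg (fun τ : Perm α => τ a) this.eq
    have hdouble : (x ^ 2 ^ j) ((x ^ 2 ^ j) a) = a := by
      rw [← mul_apply, ← pow_add, ← two_mul, ← pow_succ']; exact ha
    have h2 : swap a ((x ^ 2 ^ j) a) ∈ P := by
      apply swap_mem hx huniq
      rintro i (h | h | h | h)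
      · rw [hshift, h]
      · rw [hshift, h, hdouble, swap_comm]
      · have h3 : (x ^ i) a = (x ^ 2 ^ j) a := by
          rw [hshift] at h
          apply (x ^ 2 ^ j).injective
          rw [h, hdouble]
        rw [h, h3, swap_comm]
      · have h3 : (x ^ i) a = a := by
          rw [hshift] at h
          exact (x ^ 2 ^ j).injective h
        rw [h, h3]
    refine not_three (fun h => hS' 0 (by rw [zpow_zero]; exact h)) ha'.symm ?_ h1 h2
    intro h
    exact hS' ((2 ^ j : ℕ) : ℤ) (by rw [zpow_natCast]; exact h.symm)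
  · intro a b c ha hb hc
    by_contra hcon
    push Not at hcon
    have hfix : ∀ a, x a = a → ∀ i : ℤ, (x ^ i) a = a := fun a ha i => Equiv.Perm.zpow_apply_eq_self_of_apply_eq_self ha i
    refine not_three hcon.1 hcon.2.1 hcon.2.2 (swap_mem hx huniq ?_) (swap_mem hx huniq ?_)
    · intro i _; rw [hfix a ha, hfix b hb]
    · intro i _; rw [hfix a ha, hfix c hc]

theorem unique_of_good {x : Perm α} {k : ℕ} (hx : x ^ 2 ^ k = 1) (hG : Good x) : ∃! P : Sylow 2 (Perm α), x ∈ P := by
  haveI : Fact (Nat.Prime 2) := ⟨Nat.prime_two⟩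
  have hzp : IsPGroup 2 (zpowers x) := by
    rintro ⟨g, hg⟩
    obtain ⟨i, rfl⟩ := mem_zpowers_iff.1 hg
    refine ⟨k, Subtype.ext ?_⟩
    change (x ^ i) ^ 2 ^ k = 1
    rw [← zpow_natCast, ← zpow_mul, mul_comm, zpow_mul, zpow_natCast, hx, one_zpow]
  obtain ⟨Q, hQ⟩ := hzp.exists_le_sylow
  refine ⟨Q, hQ (mem_zpowers x), ?_⟩
  intro P hP
  have h1 := main_ind (Nat.card α) α rfl x k hx hG P Q P.isPGroup' Q.isPGroup' hP (hQ (mem_zpowers x))
  have h2 := P.is_maximal' h1 le_sup_left
  have h3 := Q.is_maximal' h1 le_sup_right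
  exact Sylow.ext (h2.symm.trans h3)

theorem good_iff {x : Perm α} {k : ℕ} (hx : x ^ 2 ^ k = 1) :
    Good x ↔ (Fintype.card α ≤ x.support.card + 2 ∧ x.cycleType.Nodup) := by
  have hcyc : ∀ a : α, ∀ j, (x ^ 2 ^ (j + 1)) a = a → (x ^ 2 ^ j) a ≠ a → x a ≠ a ∧ (x.cycleOf a).support.card = 2 ^ (j + 1) := by
    intro a j h1 h2
    have h3 : x a ≠ a := fun h => h2 (Equiv.Perm.pow_apply_eq_self_of_apply_eq_self h _)
    refine ⟨h3, ?_⟩
    have h4 : (x.cycleOf a).IsCycle := isCycle_cycleOf x h3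
    rw [← h4.orderOf]
    haveI : Fact (Nat.Prime 2) := ⟨Nat.prime_two⟩
    have h5 : ∀ n, (x.cycleOf a) ^ n = 1 ↔ (x ^ n) a = a := by
      intro n
      rw [h4.pow_eq_one_iff' (x := a) (by rw [cycleOf_apply_self]; exact h3), cycleOf_pow_apply_self]
    apply orderOf_eq_prime_pow
    · rw [h5]; exact h2
    · rw [h5]; exact h1
  constructor
  · intro hG
    constructor
    · have h1 : x.supportᶜ.card ≤ 2 := by
        by_contra hcon
        push Not at hcon
        obtain ⟨a, ha, b, hb, c, hc, hab, hac, hbc⟩ := Finset.two_lt_card.1 hcon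
        simp only [Finset.mem_compl, mem_support, not_not] at ha hb hc
        rcases hG.fix a b c ha hb hc with h | h | h
        · exact hab h
        · exact hac h
        · exact hbc h
      rw [Finset.card_compl] at h1
      omega
    · rw [cycleType_def]
      apply Multiset.Nodup.map_on _ x.cycleFactorsFinset.nodup
      intro c hc d hd hcd
      have hc' : c ∈ x.cycleFactorsFinset := hc
      have hd' : d ∈ x.cycleFactorsFinset := hd
      have hcc := (mem_cycleFactorsFinset_iff.1 hc').1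
      have hdc := (mem_cycleFactorsFinset_iff.1 hd').1
      obtain ⟨a, ha⟩ := hcc.nonempty_support
      obtain ⟨b, hb⟩ := hdc.nonempty_support
      have hca := cycle_is_cycleOf ha hc'
      have hdb := cycle_is_cycleOf hb hd'
      have hxa : x a ≠ a := by
        have := mem_cycleFactorsFinset_support_le hc' ha
        exact mem_support.1 this
      have hxb : x b ≠ b := by
        have := mem_cycleFactorsFinset_support_le hd' hb
        exact mem_support.1 this
      obtain ⟨j, h1, h2⟩ := exists_level hx hxa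
      obtain ⟨l, h3, h4⟩ := exists_level hx hxb
      have h5 := (hcyc a j h1 h2).2
      have h6 := (hcyc b l h3 h4).2
      simp only [Function.comp] at hcd
      rw [← hca] at h5
      rw [← hdb] at h6
      rw [h5, h6] at hcd
      have h7 : j = l := by
        have := Nat.pow_right_injective (le_refl 2) hcd
        simpa using this
      subst h7
      rw [hca, hdb]
      exact (hG.cyc j a b h1 h3 h2 h4).cycleOf_eq
  · rintro ⟨h1, h2⟩
    constructor
    · intro j a b ha hb ha' hb'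
      obtain ⟨h3, h4⟩ := hcyc a j ha ha'
      obtain ⟨h5, h6⟩ := hcyc b j hb hb'
      rw [cycleType_def] at h2
      have h7 := Multiset.inj_on_of_nodup_map h2 _ (cycleOf_mem_cycleFactorsFinset_iff.2 (mem_support.2 h3)) _
        (cycleOf_mem_cycleFactorsFinset_iff.2 (mem_support.2 h5)) (by
          simp only [Function.comp]; rw [h4, h6])
      have h8 : b ∈ (x.cycleOf b).support := by
        rw [mem_support, cycleOf_apply_self]; exact h5
      rw [← h7, mem_support_cycleOf_iff] at h8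
      exact h8.1
    · intro a b c ha hb hc
      by_contra hcon
      push Not at hcon
      have h3 : 2 < x.supportᶜ.card := by
        rw [Finset.two_lt_card]
        refine ⟨a, ?_, b, ?_, c, ?_, hcon.1, hcon.2.1, hcon.2.2⟩ <;>
          simp only [Finset.mem_compl, mem_support, not_not] <;> assumption
      rw [Finset.card_compl] at h3
      omega

end converse

end Cfsg.Agent.Lib.H70SylSym
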