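import Cfsg.Agent.Lib.Kazarin
import Cfsg.Agent.Lib.HallConverse
import Cfsg.Agent.Lib.CharBasic

/-!
# Groups in which every `q`-element has a class of prime power size
-/

set_option autoImplicit false

namespace Cfsg.Agent.Lib.H72Baer

open Subgroup Cfsg.Agent.Lib

universe u

variable {G : Type u} [Group G]

theorem mem_cent {x y : G} : y ∈ centralizer ({x} : Set G) ↔ y * x * y⁻¹ = x := by
  rw [mem_centralizer_singleton_iff]
  constructor
  · intro h; rw [h]; group
  · intro h; calc y * x = y * x * y⁻¹ * y := by group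
      _ = x * y := by rw [h]

/-- index of the centralizer of a conjugate. -/
theorem index_conj (x g : G) :
    (centralizer ({g * x * g⁻¹} : Set G)).index = (centralizer ({x} : Set G)).index := by
  have : centralizer ({g * x * g⁻¹} : Set G) = (centralizer ({x} : Set G)).map (MulAut.conj g).toMonoidHom := by
    ext y
    rw [Subgroup.mem_map_equiv, mem_cent, mem_cent]
    simp only [MulAut.conj_symm_apply]
    constructor
    · intro h
      calc g⁻¹ * y * g * x * (g⁻¹ * y * g)⁻¹ = g⁻¹ * (y * (g * x * g⁻¹) * y⁻¹) * g := by group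
        _ = x := by rw [h]; group
    · intro h
      calc y * (g * x * g⁻¹) * y⁻¹ = g * (g⁻¹ * y * g * x * (g⁻¹ * y * g)⁻¹) * g⁻¹ := by group
        _ = _ := by rw [h]
  rw [this]
  exact Subgroup.index_map_equiv _ (MulAut.conj g)

/-- The conjugacy class of `x` has as many elements as the index of the centralizer. -/
theorem card_class [Finite G] (x : G) :
    Nat.card {y : G | ∃ g : G, g * x * g⁻¹ = y} = (centralizer ({x} : Set G)).index := by
  rw [← CharBasic.card_isConj x]
  apply Nat.card_congr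
  apply Equiv.subtypeEquivRight
  intro y
  exact isConj_iff.symm

/-- The product of the classes of `u`, `v` (coprime sizes) is the class of `u v`; if the latter has `s`-power size and
`s` does not divide the class size of `v`, then `u^G` is closed under right multiplication by `v' v⁻¹`. -/
theorem translate [Finite G] {s : ℕ} [hs : Fact s.Prime] (u v : G)
    (hcop : (centralizer ({u} : Set G)).index.Coprime (centralizer ({v} : Set G)).index)
    {c : ℕ} (huv : (centralizer ({u * v} : Set G)).index = s ^ c)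
    (hv : ¬ s ∣ (centralizer ({v} : Set G)).index) (g h : G) :
    ∃ k : G, k * u * k⁻¹ = (g * u * g⁻¹) * ((h * v * h⁻¹) * v⁻¹) := by
  obtain ⟨a, ha, b, hb, hab⟩ := HallConverse.exists_mul_of_coprime_index hcop (g⁻¹ * h)
  -- k0 = g a = h b⁻¹
  rw [mem_cent] at ha hb
  have hk : g * a = h * b⁻¹ := by
    calc g * a = g * (a * b) * b⁻¹ := by group
      _ = h * b⁻¹ := by rw [hab]; group
  have hb' : b⁻¹ * v * b⁻¹⁻¹ = v := by
    calc b⁻¹ * v * b⁻¹⁻¹ = b⁻¹ * (b * v * b⁻¹) * b := by rw [hb]; group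
      _ = v := by group
  have h1 : (g * a) * u * (g * a)⁻¹ = g * u * g⁻¹ := by
    calc (g * a) * u * (g * a)⁻¹ = g * (a * u * a⁻¹) * g⁻¹ := by group
      _ = _ := by rw [ha]
  have h2 : (g * a) * v * (g * a)⁻¹ = h * v * h⁻¹ := by
    rw [hk]
    calc (h * b⁻¹) * v * (h * b⁻¹)⁻¹ = h * (b⁻¹ * v * b⁻¹⁻¹) * h⁻¹ := by group
      _ = _ := by rw [hb']
  -- Sylow s-subgroup of the centralizer of v
  obtain ⟨S⟩ : Nonempty (Sylow s (centralizer ({v} : Set G))) := inferInstance
  have hSle : (S : Subgroup (centralizer ({v} : Set G))).map (centralizer ({v} : Set G)).subtype ≤ centralizer ({v} : Set G) :=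
    map_subtype_le _
  set T : Subgroup G := (S : Subgroup (centralizer ({v} : Set G))).map (centralizer ({v} : Set G)).subtype with hT
  have hTidx : T.index = (S : Subgroup (centralizer ({v} : Set G))).index * (centralizer ({v} : Set G)).index := by
    rw [hT, Subgroup.index_map_subtype]
  have hTc : (centralizer ({u * v} : Set G)).index.Coprime T.index := by
    rw [huv]
    apply Nat.Coprime.pow_left
    rw [Nat.Prime.coprime_iff_not_dvd hs.out, hTidx, hs.out.dvd_mul, not_or]
    exact ⟨S.not_dvd_index, hv⟩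
  obtain ⟨ρ, hρ, d, hd, hρd⟩ := HallConverse.exists_mul_of_coprime_index hTc.symm (g * a)
  have hρv := hSle hρ
  rw [mem_cent] at hρv hd
  refine ⟨ρ, ?_⟩
  have h3 : (g * a) * (u * v) * (g * a)⁻¹ = ρ * (u * v) * ρ⁻¹ := by
    rw [← hρd]
    calc (ρ * d) * (u * v) * (ρ * d)⁻¹ = ρ * (d * (u * v) * d⁻¹) * ρ⁻¹ := by group
      _ = _ := by rw [hd]
  calc ρ * u * ρ⁻¹ = (ρ * (u * v) * ρ⁻¹) * (ρ * v * ρ⁻¹)⁻¹ := by group
    _ = (g * a) * (u * v) * (g * a)⁻¹ * v⁻¹ := by rw [← h3, hρv]
    _ = ((g * a) * u * (g * a)⁻¹) * ((g * a) * v * (g * a)⁻¹) * v⁻¹ := by group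
    _ = _ := by rw [h1, h2]; group

/-- The subgroup `[G, v]` generated by the `v' v⁻¹`. -/
def K (v : G) : Subgroup G := closure {y : G | ∃ h : G, y = (h * v * h⁻¹) * v⁻¹}

theorem mem_K (v h : G) : (h * v * h⁻¹) * v⁻¹ ∈ K v := subset_closure ⟨h, rfl⟩

theorem K_normal (v : G) : (K v).Normal := by
  refine ⟨fun x hx g => ?_⟩
  induction hx using closure_induction with
  | mem x hx =>
    obtain ⟨h, rfl⟩ := hx
    have : g * (h * v * h⁻¹ * v⁻¹) * g⁻¹ = ((g * h) * v * (g * h)⁻¹ * v⁻¹) * ((g * v * g⁻¹) * v⁻¹)⁻¹ := by group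
    rw [this]
    exact mul_mem (mem_K _ _) (inv_mem (mem_K _ _))
  | one => simp
  | mul x y _ _ hx hy =>
    have : g * (x * y) * g⁻¹ = (g * x * g⁻¹) * (g * y * g⁻¹) := by group
    rw [this]; exact mul_mem hx hy
  | inv x _ hx =>
    have : g * x⁻¹ * g⁻¹ = (g * x * g⁻¹)⁻¹ := by group
    rw [this]; exact inv_mem hx

theorem card_K_dvd [Finite G] {s : ℕ} [hs : Fact s.Prime] (u v : G)
    (hcop : (centralizer ({u} : Set G)).index.Coprime (centralizer ({v} : Set G)).index)
    {c : ℕ} (huv : (centralizer ({u * v} : Set G)).index = s ^ c)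
    (hv : ¬ s ∣ (centralizer ({v} : Set G)).index) :
    Nat.card (K v) ∣ (centralizer ({u} : Set G)).index := by
  have hgen : ∀ x : G, x ∈ {y : G | ∃ g : G, g * u * g⁻¹ = y} → ∀ k ∈ K v, x * k ∈ {y : G | ∃ g : G, g * u * g⁻¹ = y} := by
    intro x hx k hk
    induction hk using closure_induction generalizing x with
    | mem k hk =>
      obtain ⟨h, rfl⟩ := hk
      obtain ⟨g, rfl⟩ := hx
      exact translate u v hcop huv hv g h
    | one => simpa using hx
    | mul a b _ _ ha hb =>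
      rw [← mul_assoc]
      exact hb _ (ha _ hx)
    | inv a _ ha =>
      -- right multiplication by `a` is injective on a finite set, so surjective
      let X := {y : G | ∃ g : G, g * u * g⁻¹ = y}
      let f : X → X := fun y => ⟨y * a, ha y y.2⟩
      have hf : Function.Injective f := by
        intro y z hyz
        have := congrArg Subtype.val hyz
        exact Subtype.ext (mul_right_cancel this)
      obtain ⟨y, hy⟩ := (Finite.injective_iff_surjective.1 hf) ⟨x, hx⟩
      have h1 : (y : G) * a = x := congrArg Subtype.val hy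
      have h2 : x * a⁻¹ = y := by rw [← h1]; group
      rw [h2]
      exact y.2
  rw [← card_class u]
  set X := {y : G | ∃ g : G, g * u * g⁻¹ = y} with hX
  have h1 : (QuotientGroup.mk : G → G ⧸ K v) ⁻¹' (QuotientGroup.mk '' X) = X := by
    ext y
    constructor
    · rintro ⟨x, hx, hxy⟩
      rw [QuotientGroup.eq] at hxy
      have := hgen x hx _ hxy
      simpa using this
    · intro hy
      exact ⟨y, hy, rfl⟩
  have h2 := QuotientGroup.card_preimage_mk (K v) ((QuotientGroup.mk : G → G ⧸ K v) '' X)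
  rw [h1] at h2
  exact ⟨_, h2⟩

/-- a normal `r`-subgroup is contained in every subgroup of index prime to `r`. -/
theorem normal_le_of_index [Finite G] {r : ℕ} [hr : Fact r.Prime] {N C : Subgroup G} (hN : N.Normal) (hNp : IsPGroup r N)
    (hC : ¬ r ∣ C.index) : N ≤ C := by
  obtain ⟨S⟩ : Nonempty (Sylow r C) := inferInstance
  set T : Subgroup G := (S : Subgroup C).map C.subtype with hT
  have hTi : ¬ r ∣ T.index := by
    rw [hT, Subgroup.index_map_subtype, hr.out.dvd_mul, not_or]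
    exact ⟨S.not_dvd_index, hC⟩
  have hTp : IsPGroup r T := S.isPGroup'.map _
  have h1 : pCore r G ≤ T := Fitting.pCore_le_sylow r (hTp.toSylow hTi)
  exact (Fitting.le_pCore r hN hNp).trans (h1.trans (map_subtype_le _))

theorem central_of_index_one [Finite G] {v : G} (h : (centralizer ({v} : Set G)).index = 1) (g : G) : g * v * g⁻¹ = v := by
  rw [Subgroup.index_eq_one] at h
  have : g ∈ centralizer ({v} : Set G) := by rw [h]; trivial
  exact mem_cent.1 this

/-- If `[G, v]` is an `r`-group and `v` has a class of size prime to `r` and order prime to `r` then `v` is central. -/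
theorem central_of_K [Finite G] {r : ℕ} [hr : Fact r.Prime] {v : G} (hK : IsPGroup r (K v))
    (hv : ¬ r ∣ (centralizer ({v} : Set G)).index) (ho : (orderOf v).Coprime r) (g : G) : g * v * g⁻¹ = v := by
  have h1 : K v ≤ centralizer ({v} : Set G) := normal_le_of_index (K_normal v) hK hv
  have h2 := h1 (mem_K v g)
  set k := (g * v * g⁻¹) * v⁻¹ with hk
  have h3 : g * v * g⁻¹ = k * v := by rw [hk]; group
  have hc : Commute k v := by
    rw [mem_centralizer_singleton_iff] at h2
    exact h2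
  have h4 : k ^ orderOf v = 1 := by
    have h5 : (g * v * g⁻¹) ^ orderOf v = 1 := by
      rw [conj_pow, pow_orderOf_eq_one]; group
    rw [h3, hc.mul_pow, pow_orderOf_eq_one, mul_one] at h5
    exact h5
  obtain ⟨j, hj⟩ := hK ⟨k, mem_K v g⟩
  have hj' : k ^ r ^ j = 1 := congrArg Subtype.val hj
  have h6 : orderOf k ∣ 1 := by
    have := Nat.dvd_gcd (orderOf_dvd_of_pow_eq_one h4) (orderOf_dvd_of_pow_eq_one hj')
    rwa [Nat.Coprime.gcd_eq_one (ho.pow_right j)] at this
  rw [Nat.dvd_one, orderOf_eq_one_iff] at h6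
  rw [h3, h6, one_mul]

/-- `x` has order a power of `q`. -/
def QEl (q : ℕ) (x : G) : Prop := ∃ k : ℕ, orderOf x = q ^ k

/-- the hypothesis of the theorem. -/
def Baer (q : ℕ) (G : Type u) [Group G] : Prop :=
  ∀ x : G, QEl q x → ∃ (r : ℕ) (a : ℕ), r.Prime ∧ (centralizer ({x} : Set G)).index = r ^ a

theorem qEl_of_isPGroup {q : ℕ} [Fact q.Prime] {P : Subgroup G} (hP : IsPGroup q P) {x : G} (hx : x ∈ P) : QEl q x := by
  obtain ⟨k, hk⟩ := (IsPGroup.iff_orderOf.1 hP) ⟨x, hx⟩
  exact ⟨k, by rw [← hk, Subgroup.orderOf_mk]⟩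

theorem exists_sylow_of_qEl [Finite G] {q : ℕ} [Fact q.Prime] {x : G} (hx : QEl q x) : ∃ P : Sylow q G, x ∈ (P : Subgroup G) := by
  obtain ⟨k, hk⟩ := hx
  have h : IsPGroup q (zpowers x) := by
    apply IsPGroup.of_card (n := k)
    rw [Nat.card_zpowers, hk]
  obtain ⟨P, hP⟩ := h.exists_le_sylow
  exact ⟨P, hP (mem_zpowers x)⟩

theorem common_sylow [Finite G] {q : ℕ} [Fact q.Prime] {x y : G} (hx : QEl q x) (hy : QEl q y) :
    ∃ (P : Sylow q G) (g : G), x ∈ (P : Subgroup G) ∧ g * y * g⁻¹ ∈ (P : Subgroup G) := by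
  obtain ⟨P, hP⟩ := exists_sylow_of_qEl hx
  obtain ⟨P', hP'⟩ := exists_sylow_of_qEl hy
  obtain ⟨g, hg⟩ := MulAction.exists_smul_eq G P' P
  refine ⟨P, g, hP, ?_⟩
  rw [← hg, Sylow.coe_subgroup_smul, Subgroup.mem_pointwise_smul_iff_inv_smul_mem]
  simpa [MulAut.smul_def, mul_assoc] using hP'

theorem prime_not_dvd_pow {p r : ℕ} (hp : p.Prime) (hr : r.Prime) (h : p ≠ r) (a : ℕ) : ¬ p ∣ r ^ a := by
  intro hd
  exact h ((Nat.prime_dvd_prime_iff_eq hp hr).1 (hp.dvd_of_dvd_pow hd))

theorem isPGroup_of_dvd [Finite G] {p a : ℕ} (hp : p.Prime) {H : Subgroup G} (h : Nat.card H ∣ p ^ a) : IsPGroup p H := by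
  obtain ⟨j, -, hj⟩ := (Nat.dvd_prime_pow hp).1 h
  exact IsPGroup.of_card hj

theorem index_one_of_central {v : G} (h : ∀ g : G, g * v * g⁻¹ = v) : (centralizer ({v} : Set G)).index = 1 := by
  rw [Subgroup.index_eq_one, eq_top_iff]
  intro g _
  exact mem_cent.2 (h g)

/-- The main dichotomy. -/
theorem key [Finite G] {q : ℕ} [hq : Fact q.Prime] (hB : Baer q G) {u v : G} (hu : QEl q u) (hv : QEl q v)
    {r s a b : ℕ} (hr : r.Prime) (hs : s.Prime) (hrq : r ≠ q) (hrs : r ≠ s) (ha : a ≠ 0) (hb : b ≠ 0)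
    (hua : (centralizer ({u} : Set G)).index = r ^ a) (hvb : (centralizer ({v} : Set G)).index = s ^ b) :
    s = q ∧ IsPGroup q (K u) := by
  have : Fact r.Prime := ⟨hr⟩
  have : Fact s.Prime := ⟨hs⟩
  obtain ⟨P, g, hPu, hPv⟩ := common_sylow hu hv
  set v' := g * v * g⁻¹ with hv'
  have hvb' : (centralizer ({v'} : Set G)).index = s ^ b := by rw [hv', index_conj, hvb]
  have hv'q : QEl q v' := qEl_of_isPGroup P.isPGroup' hPv
  obtain ⟨t, c, ht, htc⟩ := hB (u * v') (qEl_of_isPGroup P.isPGroup' (mul_mem hPu hPv))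
  have : Fact t.Prime := ⟨ht⟩
  have hcop : (r ^ a).Coprime (s ^ b) := Nat.Coprime.pow _ _ ((Nat.coprime_primes hr hs).2 hrs)
  have hoc : ∀ {x : G} {ℓ : ℕ}, QEl q x → ℓ.Prime → ℓ ≠ q → (orderOf x).Coprime ℓ := by
    intro x ℓ hx hℓ hne
    obtain ⟨k, hk⟩ := hx
    rw [hk]
    exact Nat.Coprime.pow_left _ ((Nat.coprime_primes hq.out hℓ).2 hne.symm)
  by_cases hts : t = s
  · have htr : t ≠ r := fun h => hrs (h.symm.trans hts)
    have h1 : (centralizer ({v' * u} : Set G)).index = t ^ c := by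
      rw [← htc]
      have : v' * u = u⁻¹ * (u * v') * u⁻¹⁻¹ := by group
      rw [this, index_conj]
    have h2 := card_K_dvd (s := t) v' u (by rw [hvb', hua]; exact hcop.symm) h1 (by rw [hua]; exact prime_not_dvd_pow ht hr htr a)
    rw [hvb'] at h2
    have h3 := isPGroup_of_dvd hs h2
    by_cases hsq : s = q
    · refine ⟨hsq, ?_⟩
      rw [← hsq]; exact h3
    · exfalso
      have h4 := index_one_of_central (central_of_K h3 (by rw [hua]; exact prime_not_dvd_pow hs hr (Ne.symm hrs) a) (hoc hu hs hsq))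
      rw [h4] at hua
      exact absurd hua.symm (Nat.one_lt_pow ha hr.one_lt).ne'
  · exfalso
    have h2 := card_K_dvd (s := t) u v' (by rw [hvb', hua]; exact hcop) htc (by rw [hvb']; exact prime_not_dvd_pow ht hs hts b)
    rw [hua] at h2
    have h3 := isPGroup_of_dvd hr h2
    have h4 := index_one_of_central (central_of_K h3 (by rw [hvb']; exact prime_not_dvd_pow hr hs hrs b) (hoc hv'q hr hrq))
    rw [h4] at hvb'
    exact absurd hvb'.symm (Nat.one_lt_pow hb hs.one_lt).ne'

theorem mem_pCore_of_K [Finite G] {q : ℕ} [hq : Fact q.Prime] {u : G} (hu : QEl q u) (hK : IsPGroup q (K u)) :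
    u ∈ pCore q G := by
  have hKn := K_normal u
  have hz : IsPGroup q (zpowers u) := by
    obtain ⟨k, hk⟩ := hu
    apply IsPGroup.of_card (n := k)
    rw [Nat.card_zpowers, hk]
  have h1 : IsPGroup q (K u ⊔ zpowers u : Subgroup G) := hK.to_sup_of_normal_left hz
  have h2 : (K u ⊔ zpowers u : Subgroup G).Normal := by
    have h3 : (K u ⊔ zpowers u : Subgroup G) = K u ⊔ normalClosure ({u} : Set G) := by
      apply le_antisymm
      · exact sup_le_sup_left (by rw [zpowers_le]; exact subset_normalClosure rfl) _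
      · apply sup_le le_sup_left
        rw [normalClosure, closure_le]
        intro y hy
        rw [Group.mem_conjugatesOfSet_iff] at hy
        obtain ⟨x, hx, hxy⟩ := hy
        rw [Set.mem_singleton_iff] at hx
        subst hx
        obtain ⟨g, rfl⟩ := isConj_iff.1 hxy
        have h5 : g * x * g⁻¹ = (g * x * g⁻¹ * x⁻¹) * x := by group
        rw [SetLike.mem_coe, h5]
        exact mul_mem (mem_sup_left (mem_K x g)) (mem_sup_right (mem_zpowers x))
    rw [h3]
    exact Subgroup.sup_normal _ _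
  exact Fitting.le_pCore q h2 h1 (mem_sup_right (mem_zpowers u))

theorem mem_pCore_of_central [Finite G] {q : ℕ} [hq : Fact q.Prime] {u : G} (hu : QEl q u)
    (hc : (centralizer ({u} : Set G)).index = 1) : u ∈ pCore q G := by
  obtain ⟨k, hk⟩ := hu
  exact Kazarin.mem_pCore_of_isPElement u hk (a := 0) (by rw [hc, pow_zero])

/-- conjugates by elements of a group of coprime index. -/
theorem conj_in [Finite G] {q : ℕ} [hq : Fact q.Prime] {Q : Subgroup G} (hQi : ¬ q ∣ Q.index) {x : G} {c : ℕ}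
    (hx : (centralizer ({x} : Set G)).index = q ^ c) (g : G) : ∃ k ∈ Q, g * x * g⁻¹ = k * x * k⁻¹ := by
  have hcop : Q.index.Coprime (centralizer ({x} : Set G)).index := by
    rw [hx]
    exact Nat.Coprime.pow_right _ ((Nat.Prime.coprime_iff_not_dvd hq.out).2 hQi).symm
  obtain ⟨k, hk, d, hd, rfl⟩ := HallConverse.exists_mul_of_coprime_index hcop g
  refine ⟨k, hk, ?_⟩
  rw [mem_cent] at hd
  calc k * d * x * (k * d)⁻¹ = k * (d * x * d⁻¹) * k⁻¹ := by group
    _ = _ := by rw [hd]

/-- a Sylow `r`-subgroup inside a subgroup of index prime to `r`. -/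
theorem exists_sylow_le [Finite G] {r : ℕ} [hr : Fact r.Prime] {C : Subgroup G} (hC : ¬ r ∣ C.index) :
    ∃ T : Sylow r G, (T : Subgroup G) ≤ C := by
  obtain ⟨S⟩ : Nonempty (Sylow r C) := inferInstance
  set T : Subgroup G := (S : Subgroup C).map C.subtype with hT
  have hTi : ¬ r ∣ T.index := by
    rw [hT, Subgroup.index_map_subtype, hr.out.dvd_mul, not_or]
    exact ⟨S.not_dvd_index, hC⟩
  have hTp : IsPGroup r T := S.isPGroup'.map _
  exact ⟨hTp.toSylow hTi, map_subtype_le _⟩

/-- an element of the second centre of a nonabelian `q`-group, outside the centre. -/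
theorem exists_second_center {Q : Type*} [Group Q] [Finite Q] {q : ℕ} [Fact q.Prime] (hQ : IsPGroup q Q) (h : center Q ≠ ⊤) :
    ∃ w : Q, w ∉ center Q ∧ ∀ k : Q, w⁻¹ * (k⁻¹ * w * k) ∈ center Q := by
  have h1 : Nontrivial (Q ⧸ center Q) := QuotientGroup.nontrivial_iff.2 h
  have h2 : IsPGroup q (Q ⧸ center Q) := hQ.to_quotient _
  have h3 := h2.center_nontrivial
  obtain ⟨⟨w', hw'⟩, hw'1⟩ := exists_ne (1 : center (Q ⧸ center Q))
  obtain ⟨w, rfl⟩ := QuotientGroup.mk_surjective w'
  refine ⟨w, ?_, ?_⟩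
  · intro hw
    apply hw'1
    apply Subtype.ext
    exact (QuotientGroup.eq_one_iff w).2 hw
  · intro k
    rw [← QuotientGroup.eq_one_iff]
    rw [mem_center_iff] at hw'
    have := hw' (QuotientGroup.mk k)
    rw [QuotientGroup.mk_mul, QuotientGroup.mk_mul, QuotientGroup.mk_mul, QuotientGroup.mk_inv, QuotientGroup.mk_inv,
      mul_assoc _ (QuotientGroup.mk w) (QuotientGroup.mk k), ← this]
    group

theorem last_case [Finite G] {q : ℕ} [hq : Fact q.Prime] (hB : Baer q G) (hQ : ∀ x : G, QEl q x → x ∈ pCore q G)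
    {u v : G} (hu : QEl q u) (hv : QEl q v) {r a b : ℕ} (hr : r.Prime) (hrq : r ≠ q) (ha : a ≠ 0) (hb : b ≠ 0)
    (hua : (centralizer ({u} : Set G)).index = r ^ a) (hvb : (centralizer ({v} : Set G)).index = q ^ b) : False := by
  have hrf : Fact r.Prime := ⟨hr⟩
  set Q := pCore q G with hQdef
  have hQn : Q.Normal := Fitting.normal_pCore q
  have hQp : IsPGroup q Q := Fitting.isPGroup_pCore q
  have hQi : ¬ q ∣ Q.index := by
    obtain ⟨S⟩ : Nonempty (Sylow q G) := inferInstance
    have h1 : (S : Subgroup G) ≤ Q := fun x hx => hQ x (qEl_of_isPGroup S.isPGroup' hx)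
    intro h
    exact S.not_dvd_index (h.trans (index_dvd_of_le h1))
  have hQel : ∀ x ∈ Q, QEl q x := fun x hx => qEl_of_isPGroup hQp hx
  -- F1
  have F1 : ∀ x : G, ¬ q ∣ (centralizer ({x} : Set G)).index → Q ≤ centralizer ({x} : Set G) :=
    fun x hx => normal_le_of_index hQn hQp hx
  have F2 : ∀ x ∈ Q, ∀ h ∈ Q, h * x ≠ x * h → ∃ c : ℕ, (centralizer ({x} : Set G)).index = q ^ c := by
    intro x hx h hh hne
    obtain ⟨t, c, ht, htc⟩ := hB x (hQel x hx)
    have h1 : q ∣ (centralizer ({x} : Set G)).index := by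
      by_contra hcon
      exact hne (mem_centralizer_singleton_iff.1 (F1 x hcon hh))
    rw [htc] at h1
    have := (Nat.prime_dvd_prime_iff_eq hq.out ht).1 (hq.out.dvd_of_dvd_pow h1)
    exact ⟨c, by rw [htc, this]⟩
  have huQ : u ∈ Q := hQ u hu
  have hvQ : v ∈ Q := hQ v hv
  have hq1 : ∀ c : ℕ, ¬ r ∣ q ^ c := fun c => prime_not_dvd_pow hr hq.out hrq c
  -- u centralizes Q
  have huc : ∀ x ∈ Q, x * u = u * x := by
    intro x hx
    exact mem_centralizer_singleton_iff.1 (F1 u (by rw [hua]; exact prime_not_dvd_pow hq.out hr (Ne.symm hrq) a) hx)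
  -- Q is not abelian
  have hQc : center Q ≠ ⊤ := by
    intro hcon
    have h1 : Q ≤ centralizer ({v} : Set G) := by
      intro x hx
      rw [mem_centralizer_singleton_iff]
      have : (⟨x, hx⟩ : Q) ∈ center Q := by rw [hcon]; trivial
      rw [mem_center_iff] at this
      exact (congrArg Subtype.val (this ⟨v, hvQ⟩)).symm
    have h2 := index_dvd_of_le h1
    rw [hvb] at h2
    exact hQi ((dvd_pow_self q hb).trans h2)
  obtain ⟨⟨w, hwQ⟩, hwc, hw2⟩ := exists_second_center hQp hQc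
  have hw2' : ∀ k ∈ Q, ∀ x ∈ Q, x * (w⁻¹ * (k⁻¹ * w * k)) = (w⁻¹ * (k⁻¹ * w * k)) * x := by
    intro k hk x hx
    have := mem_center_iff.1 (hw2 ⟨k, hk⟩) ⟨x, hx⟩
    exact congrArg Subtype.val this
  obtain ⟨h0, hh0, hh0w⟩ : ∃ h0 ∈ Q, h0 * w ≠ w * h0 := by
    by_contra hcon
    push Not at hcon
    apply hwc
    rw [mem_center_iff]
    rintro ⟨x, hx⟩
    exact Subtype.ext (hcon x hx)
  obtain ⟨c, hwcx⟩ := F2 w hwQ h0 hh0 hh0w
  obtain ⟨c', hwuc⟩ := F2 (w * u) (mul_mem hwQ huQ) h0 hh0 (by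
    intro h
    apply hh0w
    have h1 := huc h0 hh0
    have : h0 * w * u = w * h0 * u := by
      calc h0 * w * u = h0 * (w * u) := by group
        _ = w * (u * h0) := by rw [h]; group
        _ = w * h0 * u := by rw [← h1]; group
    exact mul_right_cancel this)
  -- Sylow r-subgroup centralizing w
  obtain ⟨T, hT⟩ := exists_sylow_le (r := r) (C := centralizer ({w} : Set G)) (by rw [hwcx]; exact hq1 c)
  -- T centralizes all u' u⁻¹
  have claim : ∀ h : G, ∀ ρ ∈ (T : Subgroup G), ρ * ((h * u * h⁻¹) * u⁻¹) * ρ⁻¹ = (h * u * h⁻¹) * u⁻¹ := by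
    intro h ρ hρ
    set d := (h * u * h⁻¹) * u⁻¹ with hd
    have hdQ : d ∈ Q := mul_mem (hQn.conj_mem u huQ h) (inv_mem huQ)
    have hdc : ∀ x ∈ Q, x * d = d * x := by
      intro x hx
      have h1 : x * (h * u * h⁻¹) = (h * u * h⁻¹) * x := by
        have h2 := huc (h⁻¹ * x * h) (by simpa using hQn.conj_mem x hx h⁻¹)
        calc x * (h * u * h⁻¹) = h * ((h⁻¹ * x * h) * u) * h⁻¹ := by group
          _ = (h * u * h⁻¹) * x := by rw [h2]; group
      have h2 : x * u⁻¹ = u⁻¹ * x := by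
        have h3 := huc x hx
        calc x * u⁻¹ = u⁻¹ * (u * x) * u⁻¹ := by group
          _ = u⁻¹ * x := by rw [← h3]; group
      calc x * d = (x * (h * u * h⁻¹)) * u⁻¹ := by rw [hd]; group
        _ = (h * u * h⁻¹) * (x * u⁻¹) := by rw [h1]; group
        _ = d * x := by rw [h2, hd]; group
    obtain ⟨k, hk⟩ := translate (s := q) w u (by
      rw [hwcx, hua]
      exact Nat.Coprime.pow _ _ ((Nat.coprime_primes hq.out hr).2 (Ne.symm hrq))) hwuc (by
      rw [hua]; exact prime_not_dvd_pow hq.out hr (Ne.symm hrq) a) 1 h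
    rw [← hd] at hk
    obtain ⟨k', hk'Q, hk'⟩ := conj_in hQi hwcx k
    have hk1 : k' * w * k'⁻¹ = w * d := by
      rw [← hk', hk]; group
    by_cases hd1 : d = 1
    · rw [hd1]; group
    have hne : w * k' ≠ k' * w := by
      intro hcon
      apply hd1
      have : w * d = w := by
        rw [← hk1, ← hcon]; group
      simpa using this
    obtain ⟨c'', hc''⟩ := F2 k' hk'Q w hwQ hne
    obtain ⟨T', hT'⟩ := exists_sylow_le (r := r) (C := centralizer ({k'} : Set G)) (by rw [hc'']; exact hq1 _)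
    obtain ⟨g, hg⟩ := MulAction.exists_smul_eq G T' T
    obtain ⟨m, hmQ, hm⟩ := conj_in hQi hc'' g
    have hρ' : ρ * (m * k' * m⁻¹) = (m * k' * m⁻¹) * ρ := by
      rw [← hm]
      have h1 : g⁻¹ * ρ * g ∈ (T' : Subgroup G) := by
        rw [← hg, Sylow.coe_subgroup_smul, Subgroup.mem_pointwise_smul_iff_inv_smul_mem] at hρ
        simpa [MulAut.smul_def, mul_assoc] using hρ
      have h2 := mem_centralizer_singleton_iff.1 (hT' h1)
      calc ρ * (g * k' * g⁻¹) = g * ((g⁻¹ * ρ * g) * k') * g⁻¹ := by group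
        _ = (g * k' * g⁻¹) * ρ := by rw [h2]; group
    have hρw := mem_centralizer_singleton_iff.1 (hT hρ)
    -- (m k' m⁻¹) w (m k' m⁻¹)⁻¹ = w d
    set z := w⁻¹ * (m⁻¹ * w * m) with hz
    have hzc := hw2' m hmQ
    have hzQ : z ∈ Q := mul_mem (inv_mem hwQ) (mul_mem (mul_mem (inv_mem hmQ) hwQ) hmQ)
    have hmw : m⁻¹ * w * m = w * z := by rw [hz]; group
    have hmw' : m * w * m⁻¹ = w * z⁻¹ := by
      have h1 : w = m * (w * z) * m⁻¹ := by rw [← hmw]; group
      have h2 : m * z * m⁻¹ = z := by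
        have := hzc m hmQ
        rw [← hz] at this
        rw [this]; group
      have h3 : w = (m * w * m⁻¹) * z := by
        calc w = m * (w * z) * m⁻¹ := h1
          _ = (m * w * m⁻¹) * (m * z * m⁻¹) := by group
          _ = _ := by rw [h2]
      calc m * w * m⁻¹ = ((m * w * m⁻¹) * z) * z⁻¹ := by group
        _ = w * z⁻¹ := by rw [← h3]
    have hkey : (m * k' * m⁻¹) * w * (m * k' * m⁻¹)⁻¹ = w * d := by
      have h4 : k' * z = z * k' := by
        have := hzc k' hk'Q
        rw [← hz] at this; exact this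
      have h5 : m * z = z * m := by
        have := hzc m hmQ
        rw [← hz] at this; exact this
      have h6 : m * d = d * m := hdc m hmQ
      have h7 : z * d = d * z := hdc z hzQ
      calc (m * k' * m⁻¹) * w * (m * k' * m⁻¹)⁻¹ = m * k' * (m⁻¹ * w * m) * k'⁻¹ * m⁻¹ := by group
        _ = m * k' * w * (z * k'⁻¹) * m⁻¹ := by rw [hmw]; group
        _ = m * k' * w * (k'⁻¹ * z) * m⁻¹ := by
            congr 2
            calc z * k'⁻¹ = k'⁻¹ * (k' * z) * k'⁻¹ := by group
              _ = k'⁻¹ * z := by rw [h4]; group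
        _ = m * (k' * w * k'⁻¹) * z * m⁻¹ := by group
        _ = m * w * (d * z) * m⁻¹ := by rw [hk1]; group
        _ = (m * w * m⁻¹) * (m * (d * z) * m⁻¹) := by group
        _ = (w * z⁻¹) * (d * z) := by
            rw [hmw']
            congr 1
            calc m * (d * z) * m⁻¹ = (m * d) * z * m⁻¹ := by group
              _ = d * (m * z) * m⁻¹ := by rw [h6]; group
              _ = d * z := by rw [h5]; group
        _ = w * (z⁻¹ * (z * d)) := by rw [h7]; group
        _ = w * d := by group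
    have h8 : ρ * (w * d) = (w * d) * ρ := by
      rw [← hkey]
      set y := m * k' * m⁻¹ with hy
      have h9 : ρ * y⁻¹ = y⁻¹ * ρ := by
        calc ρ * y⁻¹ = y⁻¹ * (y * ρ) * y⁻¹ := by group
          _ = y⁻¹ * ρ := by rw [← hρ']; group
      calc ρ * (y * w * y⁻¹) = (ρ * y) * w * y⁻¹ := by group
        _ = y * (ρ * w) * y⁻¹ := by rw [hρ']; group
        _ = y * w * (ρ * y⁻¹) := by rw [hρw]; group
        _ = (y * w * y⁻¹) * ρ := by rw [h9]; group
    have h10 : ρ * d = d * ρ := by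
      calc ρ * d = w⁻¹ * (w * ρ) * d := by group
        _ = w⁻¹ * (ρ * (w * d)) := by rw [← hρw]; group
        _ = d * ρ := by rw [h8]; group
    rw [h10]; group
  -- T centralizes u
  have hTu : (T : Subgroup G) ≤ centralizer ({u} : Set G) := by
    intro ρ hρ
    set d := (ρ * u * ρ⁻¹) * u⁻¹ with hd
    have hcl := claim ρ ρ hρ
    rw [← hd] at hcl
    have h1 : ρ * u * ρ⁻¹ = d * u := by rw [hd]; group
    have h2 : ∀ n : ℕ, ρ ^ n * u * (ρ ^ n)⁻¹ = d ^ n * u := by
      intro n
      induction n with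
      | zero => simp
      | succ n ih =>
        have h3 : ρ * d ^ n * ρ⁻¹ = d ^ n := by
          rw [← conj_pow, hcl]
        calc ρ ^ (n + 1) * u * (ρ ^ (n + 1))⁻¹ = ρ * (ρ ^ n * u * (ρ ^ n)⁻¹) * ρ⁻¹ := by
              rw [pow_succ']; group
          _ = (ρ * d ^ n * ρ⁻¹) * (ρ * u * ρ⁻¹) := by rw [ih]; group
          _ = d ^ (n + 1) * u := by rw [h3, h1, pow_succ]; group
    obtain ⟨j, hj⟩ := T.isPGroup' ⟨ρ, hρ⟩
    have hj' : ρ ^ r ^ j = 1 := congrArg Subtype.val hj
    have h4 := h2 (r ^ j)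
    rw [hj'] at h4
    have h5 : d ^ r ^ j = 1 := by
      have : d ^ r ^ j * u = u := by rw [← h4]; group
      simpa using this
    have hdQ : d ∈ Q := mul_mem (hQn.conj_mem u huQ ρ) (inv_mem huQ)
    obtain ⟨i, hi⟩ := hQp ⟨d, hdQ⟩
    have hi' : d ^ q ^ i = 1 := congrArg Subtype.val hi
    have h6 : orderOf d ∣ 1 := by
      have := Nat.dvd_gcd (orderOf_dvd_of_pow_eq_one h5) (orderOf_dvd_of_pow_eq_one hi')
      rwa [Nat.Coprime.gcd_eq_one (Nat.Coprime.pow _ _ ((Nat.coprime_primes hr hq.out).2 hrq))] at this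
    rw [Nat.dvd_one, orderOf_eq_one_iff] at h6
    rw [mem_cent, h1, h6, one_mul]
  have h7 := index_dvd_of_le hTu
  rw [hua] at h7
  exact T.not_dvd_index ((dvd_pow_self r ha).trans h7)

/-- One prime serves for all `q`-elements. -/
theorem same_prime_aux [Finite G] {q : ℕ} [hq : Fact q.Prime] (hB : Baer q G) {u v : G} (hu : QEl q u) (hv : QEl q v)
    {r s a b : ℕ} (hr : r.Prime) (hs : s.Prime) (hrq : r ≠ q) (hrs : r ≠ s) (ha : a ≠ 0) (hb : b ≠ 0)
    (hua : (centralizer ({u} : Set G)).index = r ^ a) (hvb : (centralizer ({v} : Set G)).index = s ^ b) : False := by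
  obtain ⟨hsq, -⟩ := key hB hu hv hr hs hrq hrs ha hb hua hvb
  subst hsq
  refine last_case hB ?_ hu hv hr hrq ha hb hua hvb
  intro z hz
  obtain ⟨t, c, ht, htc⟩ := hB z hz
  by_cases hc : c = 0
  · rw [hc, pow_zero] at htc
    exact mem_pCore_of_central hz htc
  by_cases htq : t = s
  · obtain ⟨k, hk⟩ := hz
    exact Kazarin.mem_pCore_of_isPElement z hk (a := c) (by rw [htc, htq])
  · exact mem_pCore_of_K hz (key hB hz hv ht hs htq htq hc hb htc hvb).2

theorem same_prime [Finite G] {q : ℕ} [hq : Fact q.Prime] (hB : Baer q G) {u v : G} (hu : QEl q u) (hv : QEl q v)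
    {r s a b : ℕ} (hr : r.Prime) (hs : s.Prime) (ha : a ≠ 0) (hb : b ≠ 0)
    (hua : (centralizer ({u} : Set G)).index = r ^ a) (hvb : (centralizer ({v} : Set G)).index = s ^ b) : r = s := by
  by_contra hrs
  by_cases hrq : r = q
  · exact same_prime_aux hB hv hu hs hr (fun h => hrs (hrq.trans h.symm)) (Ne.symm hrs) hb ha hvb hua
  · exact same_prime_aux hB hu hv hr hs hrq hrs ha hb hua hvb

/-- there is one prime for all `q`-elements. -/
theorem exists_prime [Finite G] {q : ℕ} [hq : Fact q.Prime] (hB : Baer q G) :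
    ∃ p : ℕ, p.Prime ∧ ∀ x : G, QEl q x → ∃ a : ℕ, (centralizer ({x} : Set G)).index = p ^ a := by
  by_cases h : ∃ x : G, QEl q x ∧ (centralizer ({x} : Set G)).index ≠ 1
  · obtain ⟨x, hx, hx1⟩ := h
    obtain ⟨r, a, hr, hra⟩ := hB x hx
    have ha : a ≠ 0 := by
      rintro rfl
      exact hx1 (by rw [hra, pow_zero])
    refine ⟨r, hr, ?_⟩
    intro y hy
    obtain ⟨s, b, hs, hsb⟩ := hB y hy
    by_cases hb : b = 0
    · exact ⟨0, by rw [hsb, hb, pow_zero, pow_zero]⟩
    · exact ⟨b, by rw [hsb, same_prime hB hx hy hr hs ha hb hra hsb]⟩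
  · push Not at h
    exact ⟨q, hq.out, fun x hx => ⟨0, by rw [h x hx, pow_zero]⟩⟩

end Cfsg.Agent.Lib.H72Baer
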