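import Cfsg.Agent.Lib.H72OddComp
import Cfsg.Agent.Lib.H72Baer
import Cfsg.Agent.Lib.ConjCover

/-!
# Groups with abelian Sylow subgroups and an element whose class size is the largest `2`-part
-/

set_option autoImplicit false

namespace Cfsg.Agent.Lib.H72AGrp

open Subgroup Cfsg.Agent.Lib

universe u

/-- all `p`-subgroups are abelian. -/
def AGrp (G : Type*) [Group G] : Prop := ∀ (p : ℕ) [Fact p.Prime] (P : Subgroup G), IsPGroup p P → ∀ a ∈ P, ∀ b ∈ P, a * b = b * a

variable {G : Type u} [Group G]

theorem AGrp.sub (h : AGrp G) (M : Subgroup G) : AGrp M := by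
  intro p _ P hP a ha b hb
  apply Subtype.ext
  exact h p (P.map M.subtype) (hP.map _) a ⟨a, ha, rfl⟩ b ⟨b, hb, rfl⟩

/-- a perfect group with abelian Sylow subgroups has trivial centre. -/
theorem center_perfect [Finite G] (hA : AGrp G) (hp : commutator G = ⊤) : center G = ⊥ := by
  rw [eq_bot_iff]
  intro z hz
  rw [mem_bot]
  by_contra hz1
  obtain ⟨p, hpp, hpd⟩ := Nat.exists_prime_and_dvd (n := orderOf z) (fun h => hz1 (orderOf_eq_one_iff.1 h))
  have hpf : Fact p.Prime := ⟨hpp⟩
  set w := z ^ (orderOf z / p) with hw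
  have hwo : orderOf w = p := orderOf_pow_orderOf_div (orderOf_pos z).ne' hpd
  have hwc : w ∈ center G := pow_mem hz _
  have h1 : IsPGroup p (zpowers w) := by
    apply IsPGroup.of_card (n := 1)
    rw [Nat.card_zpowers, hwo, pow_one]
  obtain ⟨P, hP⟩ := h1.exists_le_sylow
  have hwP : w ∈ (P : Subgroup G) := hP (mem_zpowers w)
  let cg : CommGroup (P : Subgroup G) := { (inferInstance : Group (P : Subgroup G)) with
    mul_comm := fun a b => Subtype.ext (hA p P P.isPGroup' a a.2 b b.2) }
  let ϕ : (P : Subgroup G) →* (P : Subgroup G) := MonoidHom.id _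
  have hconst : ∀ (k : ℕ) (g₀ : G), g₀⁻¹ * w ^ k * g₀ = w ^ k := by
    intro k g₀
    have h2 := mem_center_iff.1 (pow_mem hwc k) g₀
    rw [mul_assoc, ← h2]; group
  have h2 := MonoidHom.transfer_eq_pow ϕ w (fun k g₀ _ => hconst k g₀)
  have h3 : commutator G ≤ (MonoidHom.transfer ϕ).ker := by
    rw [_root_.commutator_def, Subgroup.commutator_le]
    intro a _ b _
    rw [MonoidHom.mem_ker, map_commutatorElement, commutatorElement_eq_one_iff_mul_comm]
    exact cg.mul_comm _ _
  rw [hp] at h3
  have h4 := h3 (mem_top w)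
  rw [MonoidHom.mem_ker, h2] at h4
  have h5 : w ^ (P : Subgroup G).index = 1 := congrArg Subtype.val h4
  have h6 := orderOf_dvd_of_pow_eq_one h5
  rw [hwo] at h6
  exact P.not_dvd_index h6

/-- a perfect nonsolvable normal subgroup inside `C`. -/
theorem exists_perfect_le [Finite G] {C : Subgroup G} (hC : C.Normal) (h : ¬ Group.IsSolvable C) :
    ∃ D : Subgroup G, D.Normal ∧ D ≤ C ∧ ⁅D, D⁆ = D ∧ ¬ Group.IsSolvable D := by
  obtain ⟨D, ⟨hDn, hDC, hDs⟩, hmin⟩ : ∃ D : Subgroup G, (D.Normal ∧ D ≤ C ∧ ¬ Group.IsSolvable D) ∧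
      ∀ B : Subgroup G, (B.Normal ∧ B ≤ C ∧ ¬ Group.IsSolvable B) → B ≤ D → B = D := by
    have hfin : (Set.Finite {W : Subgroup G | W.Normal ∧ W ≤ C ∧ ¬ Group.IsSolvable W}) := Set.toFinite _
    obtain ⟨A, hA⟩ := hfin.exists_minimal ⟨C, hC, le_rfl, h⟩
    exact ⟨A, hA.1, fun B hB hle => le_antisymm hle (hA.2 hB hle)⟩
  refine ⟨D, hDn, hDC, ?_, hDs⟩
  have := hDn
  apply hmin _ _ (Subgroup.commutator_le_left D D)
  refine ⟨inferInstance, (Subgroup.commutator_le_left D D).trans hDC, fun hs => hDs ?_⟩
  have h1 : (commutator D).map D.subtype = ⁅D, D⁆ := by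
    rw [_root_.commutator_def, map_commutator, ← MonoidHom.range_eq_map, range_subtype]
  have h2 : Group.IsSolvable (commutator D) := by
    let e := (commutator D).equivMapOfInjective D.subtype D.subtype_injective
    rw [h1] at e
    have := hs
    exact Group.isSolvable_of_surjective (f := e.symm.toMonoidHom) e.symm.surjective
  have h3 : Group.IsSolvable (D ⧸ commutator D) :=
    Group.isSolvable_of_comm (fun a b => (inferInstance : CommGroup (Abelianization D)).mul_comm a b)
  exact Group.isSolvable_of_ker_le_range (commutator D).subtype (QuotientGroup.mk' (commutator D)) (by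
    rw [QuotientGroup.ker_mk', range_subtype])

theorem main [Finite G] (hA : AGrp G) (a : ℕ)
    (hmax : ∀ y : G, ¬ 2 ^ (a + 1) ∣ (centralizer ({y} : Set G)).index) {x : G}
    (hx : (centralizer ({x} : Set G)).index = 2 ^ a) : Group.IsSolvable G := by
  classical
  have hf2 : Fact (Nat.Prime 2) := ⟨Nat.prime_two⟩
  obtain ⟨S⟩ : Nonempty (Sylow 2 G) := inferInstance
  have hab : H72OddComp.Ab2 G := fun P hP => hA 2 P hP
  have hSab := hab S S.isPGroup'
  set K := centralizer ({x} : Set G) with hK
  set N := normalClosure ({x} : Set G) with hN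
  have hNn : N.Normal := normalClosure_normal
  set C := centralizer (N : Set G) with hC
  have hCn : C.Normal := inferInstance
  have hCK : C ≤ K := by
    intro c hc
    rw [hK, mem_centralizer_singleton_iff]
    exact (mem_centralizer_iff.1 hc x (subset_normalClosure (Set.mem_singleton x))).symm
  have hSodd : Odd (S : Subgroup G).index := by
    rw [← Nat.not_even_iff_odd, even_iff_two_dvd]
    exact S.not_dvd_index
  have hcop : (S : Subgroup G).index.Coprime K.index := by
    rw [hx]
    exact Nat.Coprime.pow_right _ (Nat.coprime_two_right.2 hSodd)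
  have hSC : (S : Subgroup G) ⊓ K ≤ C := by
    rintro s ⟨hs, hsK⟩
    have h1 : N ≤ centralizer ({s} : Set G) := by
      rw [hN, normalClosure, closure_le]
      intro y hy
      rw [Group.mem_conjugatesOfSet_iff] at hy
      obtain ⟨b, hb, hby⟩ := hy
      rw [Set.mem_singleton_iff] at hb
      subst hb
      obtain ⟨g, rfl⟩ := isConj_iff.1 hby
      obtain ⟨s', hs', c, hc, rfl⟩ := HallConverse.exists_mul_of_coprime_index hcop g
      replace hc := mem_centralizer_singleton_iff.1 hc
      replace hsK := mem_centralizer_singleton_iff.1 (show s ∈ centralizer ({b} : Set G) from hsK)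
      rw [SetLike.mem_coe, mem_centralizer_singleton_iff]
      have h2 : s' * c * b * (s' * c)⁻¹ = s' * b * s'⁻¹ := by
        calc s' * c * b * (s' * c)⁻¹ = s' * (c * b) * c⁻¹ * s'⁻¹ := by group
          _ = _ := by rw [hc]; group
      rw [h2]
      have h3 := hSab s hs s' hs'
      have h4 : s'⁻¹ * s = s * s'⁻¹ := by
        rw [inv_mul_eq_iff_eq_mul, ← mul_assoc, ← h3]; group
      calc s' * b * s'⁻¹ * s = s' * b * (s'⁻¹ * s) := by group
        _ = s' * (b * s) * s'⁻¹ := by rw [h4]; group
        _ = (s' * s) * b * s'⁻¹ := by rw [← hsK]; group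
        _ = s * (s' * b * s'⁻¹) := by rw [← h3]; group
    rw [hC, mem_centralizer_iff]
    intro n hn
    have := h1 hn
    rw [mem_centralizer_singleton_iff] at this
    exact this
  -- `G ⧸ C`
  have hodd : Odd (C.relIndex K) := by
    have h1 : C.relIndex K * 2 ^ a = C.index := by rw [← hx]; exact relIndex_mul_index hCK
    have h2 : C.relIndex ((S : Subgroup G) ⊔ C) * ((S : Subgroup G) ⊔ C).index = C.index := relIndex_mul_index le_sup_right
    rw [relIndex_sup_right] at h2
    have h3 : C.relIndex (S : Subgroup G) ≤ 2 ^ a := by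
      have h4 : C.relIndex (S : Subgroup G) = K.relIndex (S : Subgroup G) := by
        rw [← inf_relIndex_right, ← inf_relIndex_right (H := K)]
        congr 1
        apply le_antisymm
        · exact le_inf (inf_le_left.trans hCK) inf_le_right
        · exact le_inf ((le_inf inf_le_right inf_le_left).trans hSC) inf_le_right
      rw [h4, ← hx, ← relIndex_top_right (H := K)]
      exact Subgroup.relIndex_le_of_le_right le_top (by rw [relIndex_top_right]; exact Subgroup.index_ne_zero_of_finite)
    have h5 : Odd ((S : Subgroup G) ⊔ C).index := Odd.of_dvd_nat hSodd (index_dvd_of_le le_sup_left)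
    have h6 : 2 ^ a ∣ C.relIndex (S : Subgroup G) := by
      have h7 : 2 ^ a ∣ C.relIndex (S : Subgroup G) * ((S : Subgroup G) ⊔ C).index := by
        rw [h2, ← h1]; exact Dvd.intro_left _ rfl
      exact ((Nat.coprime_two_left.2 h5).pow_left a).dvd_of_dvd_mul_right h7
    have h8 : 0 < C.relIndex (S : Subgroup G) := Nat.pos_of_ne_zero Subgroup.index_ne_zero_of_finite
    have h9 : C.relIndex (S : Subgroup G) = 2 ^ a := le_antisymm h3 (Nat.le_of_dvd h8 h6)
    have h10 : C.relIndex K = ((S : Subgroup G) ⊔ C).index := by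
      rw [h9, ← h1, mul_comm] at h2
      exact (Nat.eq_of_mul_eq_mul_right (by positivity) h2).symm
    rw [h10]; exact h5
  have hcomp : H72OddComp.Comp (K.map (QuotientGroup.mk' C)) := by
    have h1 : (K.map (QuotientGroup.mk' C)).index = K.index :=
      Subgroup.index_map_eq K (QuotientGroup.mk'_surjective C) (by rw [QuotientGroup.ker_mk']; exact hCK)
    refine ⟨?_, a, by rw [h1, hx]⟩
    have h2 := (K.map (QuotientGroup.mk' C)).card_mul_index
    rw [h1, ← Subgroup.index_eq_card, ← relIndex_mul_index hCK] at h2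
    have h3 := Nat.eq_of_mul_eq_mul_right (Nat.pos_of_ne_zero Subgroup.index_ne_zero_of_finite) h2
    rw [h3]; exact hodd
  have hquot : Group.IsSolvable (G ⧸ C) := H72OddComp.solvable hcomp (hab.quot C)
  -- `C` is solvable
  have hCs : Group.IsSolvable C := by
    by_contra hns
    obtain ⟨D, hDn, hDC, hDp, hDs⟩ := exists_perfect_le hCn hns
    have hDA : AGrp D := hA.sub D
    have hDc : commutator D = ⊤ := by
      have h2 : (commutator D).map D.subtype = D := by
        rw [_root_.commutator_def, map_commutator, ← MonoidHom.range_eq_map, range_subtype, hDp]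
      rw [eq_top_iff]
      intro d _
      have h3 : (d : G) ∈ (commutator D).map D.subtype := by rw [h2]; exact d.2
      obtain ⟨e, he, hed⟩ := h3
      rwa [← Subtype.ext hed]
    have hZ := center_perfect hDA hDc
    have hDN : ∀ d ∈ D, d ∈ N → d = 1 := by
      intro d hd hdN
      have h1 : (⟨d, hd⟩ : D) ∈ center D := by
        rw [mem_center_iff]
        intro e
        have h2 := mem_centralizer_iff.1 (hDC e.2) d hdN
        exact Subtype.ext h2.symm
      rw [hZ, mem_bot] at h1
      exact congrArg Subtype.val h1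
    have hcxy : ∀ y ∈ D, centralizer ({x * y} : Set G) = K ⊓ centralizer ({y} : Set G) := by
      intro y hy
      apply le_antisymm
      · intro g hg
        rw [mem_centralizer_singleton_iff] at hg
        have h1 : x⁻¹ * (g * x * g⁻¹) = y * (g * y * g⁻¹)⁻¹ := by
          have : g * x * g⁻¹ * (g * y * g⁻¹) = x * y := by
            calc g * x * g⁻¹ * (g * y * g⁻¹) = g * (x * y) * g⁻¹ := by group
              _ = x * y := by rw [hg]; group
          rw [eq_mul_inv_iff_mul_eq, mul_assoc, this]; group
        have h2 : x⁻¹ * (g * x * g⁻¹) ∈ N :=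
          mul_mem (inv_mem (subset_normalClosure (Set.mem_singleton x))) (hNn.conj_mem x (subset_normalClosure (Set.mem_singleton x)) g)
        have h3 : y * (g * y * g⁻¹)⁻¹ ∈ D := mul_mem hy (inv_mem (hDn.conj_mem y hy g))
        have h4 : x⁻¹ * (g * x * g⁻¹) = 1 := hDN _ (by rw [h1]; exact h3) h2
        have h5 : y * (g * y * g⁻¹)⁻¹ = 1 := by rw [← h1, h4]
        refine ⟨?_, ?_⟩
        · apply mem_centralizer_singleton_iff.2
          rw [inv_mul_eq_one] at h4
          calc g * x = (g * x * g⁻¹) * g := by group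
            _ = x * g := by rw [← h4]
        · apply mem_centralizer_singleton_iff.2
          rw [mul_inv_eq_one] at h5
          calc g * y = (g * y * g⁻¹) * g := by group
            _ = y * g := by rw [← h5]
      · rintro g ⟨h1, h2⟩
        replace h1 := mem_centralizer_singleton_iff.1 (show g ∈ centralizer ({x} : Set G) from h1)
        replace h2 := mem_centralizer_singleton_iff.1 (show g ∈ centralizer ({y} : Set G) from h2)
        rw [mem_centralizer_singleton_iff]
        calc g * (x * y) = (g * x) * y := by group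
          _ = x * (g * y) := by rw [h1]; group
          _ = x * y * g := by rw [h2]; group
    have hoddy : ∀ y ∈ D, ¬ 2 ∣ (centralizer ({y} : Set G)).relIndex D := by
      intro y hy h2
      have h3 : (centralizer ({y} : Set G)).relIndex D ∣ (centralizer ({y} : Set G)).relIndex K := by
        have h4 : (D.subgroupOf K).Normal := inferInstance
        have h5 := OmegaCent.relIndex_dvd_index_normal ((centralizer ({y} : Set G)).subgroupOf K) (D.subgroupOf K)
        rw [Subgroup.relIndex_subgroupOf (hDC.trans hCK)] at h5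
        exact h5
      apply hmax (x * y)
      rw [hcxy y hy, ← relIndex_mul_index (inf_le_left : K ⊓ centralizer ({y} : Set G) ≤ K), inf_relIndex_left, hx, pow_succ, mul_comm]
      exact Nat.mul_dvd_mul (h2.trans h3) dvd_rfl
    obtain ⟨T⟩ : Nonempty (Sylow 2 D) := inferInstance
    have hT : centralizer ((T : Subgroup D) : Set D) = ⊤ := by
      apply ConjCover.eq_top_of_forall_conj
      intro y
      have h1 : centralizer ({y} : Set D) = (centralizer ({(y : G)} : Set G)).subgroupOf D := by
        ext d
        rw [mem_subgroupOf, mem_centralizer_singleton_iff, mem_centralizer_singleton_iff, Subtype.ext_iff]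
        rfl
      have h2 : ¬ 2 ∣ (centralizer ({y} : Set D)).index := by
        rw [h1]; exact hoddy y y.2
      obtain ⟨T', hT'⟩ := H72Baer.exists_sylow_le h2
      obtain ⟨c, hc⟩ := MulAction.exists_smul_eq D T T'
      refine ⟨c, ?_⟩
      rw [mem_centralizer_iff]
      intro t ht
      have h3 : c * t * c⁻¹ ∈ (T' : Subgroup D) := by
        rw [← hc, Sylow.coe_subgroup_smul, Subgroup.mem_pointwise_smul_iff_inv_smul_mem, ← map_inv, MulAut.smul_def,
          MulAut.conj_apply, inv_inv]
        have h4 : c⁻¹ * (c * t * c⁻¹) * c = t := by group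
        rw [h4]; exact ht
      have h4 := mem_centralizer_singleton_iff.1 (hT' h3)
      calc t * (c⁻¹ * y * c) = c⁻¹ * ((c * t * c⁻¹) * y) * c := by group
        _ = c⁻¹ * y * c * t := by rw [h4]; group
    have hTc : (T : Subgroup D) ≤ center D := by
      intro t ht
      rw [mem_center_iff]
      intro g
      have h1 : g ∈ centralizer ((T : Subgroup D) : Set D) := by rw [hT]; exact mem_top g
      exact (mem_centralizer_iff.1 h1 t ht).symm
    rw [hZ, le_bot_iff] at hTc
    apply hDs
    apply S0205.result
    rw [← Nat.not_even_iff_odd, even_iff_two_dvd]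
    intro h2
    have h3 := T.not_dvd_index
    rw [hTc, index_bot] at h3
    exact h3 h2
  exact Group.isSolvable_of_ker_le_range C.subtype (QuotientGroup.mk' C) (by
    rw [QuotientGroup.ker_mk', range_subtype])

end Cfsg.Agent.Lib.H72AGrp
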