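import Cfsg.Agent.Lib.H72AvgChief

set_option autoImplicit false

/-!
# Centralizer orders along a chief factor, with an explicit class function (helper72)
-/

namespace Cfsg.Agent.Lib.H72AvgChiefC

open Module Cfsg.Agent.Lib.H72AvgFix Cfsg.Agent.Lib.H72AvgSolv Cfsg.Agent.Lib.H72AvgChief
open scoped commutatorElement

universe u v

variable {G : Type v} [Group G] [Finite G]

theorem chief_c_core [Fintype G] (hs : Group.IsSolvable G) {p : ℕ} [hp : Fact p.Prime]
    {N M : Subgroup G} [hN : N.Normal] [hM : M.Normal] (hNM : N ≤ M)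
    (hchief : ∀ K : Subgroup G, K.Normal → N ≤ K → K ≤ M → K = N ∨ K = M)
    (hD : 2 ≤ (N.relIndex M).factorization p)
    (π : G →* G ⧸ N) (hπ : π = QuotientGroup.mk' N) (Mb : Subgroup (G ⧸ N)) (hMb : Mb = M.map π)
    [hMbn : Mb.Normal]
    {V : Type v} [AddCommGroup V] [Module (ZMod p) V] [Finite V] (e : V ≃ Mb)
    (he : ∀ a b : V, e (a + b) = e a * e b) :
    ∃ c : G → ℕ, (∀ g, (Nat.card (Subgroup.centralizer ({g} : Set G) ⊓ M :
      Subgroup G)).factorization p ≤ (Nat.card (Subgroup.centralizer ({g} : Set G) ⊓ N :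
      Subgroup G)).factorization p + c g) ∧
      (∀ g k : G, (∀ m ∈ M, k * m * k⁻¹ * m⁻¹ ∈ N) → c (g * k) = c g) ∧
      2 * ∑ g : G, c g ≤ Nat.card G * (N.relIndex M).factorization p := by
  classical
  have hπ1 : ∀ x : G, π x = 1 ↔ x ∈ N := by
    intro x; rw [hπ]; exact QuotientGroup.eq_one_iff x
  have hπM : ∀ v : V, ∃ x ∈ M, π x = (e v : G ⧸ N) := by
    intro v
    have h1 : ((e v : Mb) : G ⧸ N) ∈ M.map π := hMb ▸ (e v).2
    exact h1
  set ρ : Representation (ZMod p) G V := rep π Mb e he with hρdef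
  have hρ : ∀ (g : G) (v : V), ((e (ρ g v) : Mb) : G ⧸ N) =
      π g * (e v : Mb) * (π g)⁻¹ := fun g v => rep_apply π Mb e he g v
  have he0 : e 0 = 1 := by
    have h1 := he 0 0
    rw [add_zero] at h1
    exact (mul_eq_left.mp h1.symm)
  have heneg : ∀ a, e (-a) = (e a)⁻¹ := by
    intro a
    rw [eq_inv_iff_mul_eq_one, ← he, neg_add_cancel, he0]
  have hcardV : Nat.card V = N.relIndex M := by
    have h1 := Subgroup.relIndex_ker M π
    rw [← hMb, hπ, QuotientGroup.ker_mk'] at h1
    rw [h1]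
    exact Nat.card_congr e
  have hfin : finrank (ZMod p) V = (N.relIndex M).factorization p := by
    rw [← hcardV, Module.natCard_eq_pow_finrank (K := ZMod p) (V := V), Nat.card_zmod,
      Nat.factorization_pow]
    simp [hp.out.factorization_self]
  -- irreducibility
  have hirr : ∀ W : Submodule (ZMod p) V, (∀ g, W ≤ W.comap (ρ g)) → W = ⊥ ∨ W = ⊤ := by
    intro W hW
    let K : Subgroup G :=
      { carrier := {x : G | ∃ v ∈ W, ((e v : Mb) : G ⧸ N) = π x}
        mul_mem' := by
          rintro a b ⟨v, hv, hva⟩ ⟨w, hw, hwb⟩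
          refine ⟨v + w, W.add_mem hv hw, ?_⟩
          rw [he, Subgroup.coe_mul, hva, hwb, map_mul]
        one_mem' := ⟨0, W.zero_mem, by rw [he0, map_one]; rfl⟩
        inv_mem' := by
          rintro a ⟨v, hv, hva⟩
          exact ⟨-v, W.neg_mem hv, by rw [heneg, Subgroup.coe_inv, hva, map_inv]⟩ }
    have hKn : K.Normal := by
      refine ⟨?_⟩
      rintro x ⟨v, hv, hvx⟩ g
      exact ⟨ρ g v, hW g hv, by rw [hρ, hvx, map_mul, map_mul, map_inv]⟩
    have hNK : N ≤ K := by
      intro x hx
      have h1 : π x = 1 := (hπ1 x).mpr hx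
      exact ⟨0, W.zero_mem, by rw [he0, h1]; rfl⟩
    have hKM : K ≤ M := by
      rintro x ⟨v, hv, hvx⟩
      obtain ⟨y, hy, hxy⟩ := hπM v
      rw [hvx] at hxy
      have h1 : y⁻¹ * x ∈ N := by
        rw [← hπ1, map_mul, map_inv, hxy, inv_mul_cancel]
      have h2 := M.mul_mem hy (hNM h1)
      rwa [mul_inv_cancel_left] at h2
    rcases hchief K hKn hNK hKM with h | h
    · left
      rw [eq_bot_iff]
      intro v hv
      obtain ⟨x, hx, hxv⟩ := hπM v
      have hxK : x ∈ K := ⟨v, hv, hxv.symm⟩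
      rw [h] at hxK
      have h1 : π x = 1 := (hπ1 x).mpr hxK
      have h2 : e v = 1 := Subtype.ext (by rw [← hxv]; exact h1)
      rw [← he0] at h2
      exact e.injective h2
    · right
      rw [eq_top_iff]
      intro v _
      obtain ⟨x, hx, hxv⟩ := hπM v
      have hxK : x ∈ K := by rw [h]; exact hx
      obtain ⟨w, hw, hwx⟩ := hxK
      have : e v = e w := Subtype.ext (by rw [← hxv, hwx])
      rw [e.injective this]
      exact hw
  -- nontriviality of the action
  have hnt : ∃ (g : G) (v : V), ρ g v ≠ v := by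
    by_contra hno
    push Not at hno
    have hpos : 0 < finrank (ZMod p) V := by omega
    have : Nontrivial V := Module.nontrivial_of_finrank_pos hpos
    obtain ⟨v, hv⟩ := exists_ne (0 : V)
    rcases hirr (Submodule.span (ZMod p) {v}) (fun g w hw => by
      rw [Submodule.mem_comap, hno g w]; exact hw) with h | h
    · exact hv (Submodule.span_singleton_eq_bot.mp h)
    · have h1 := finrank_span_singleton (K := ZMod p) hv
      rw [h, finrank_top] at h1
      omega
  have key := avg_solvable hs ρ hirr hnt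
  have hfx : ∀ g : G, Nat.card (fx ρ g) =
      Nat.card (Mb ⊓ Subgroup.centralizer ({π g} : Set (G ⧸ N)) : Subgroup (G ⧸ N)) := by
    intro g
    refine Nat.card_congr
      { toFun := fun v => ⟨((e (v : V) : Mb) : G ⧸ N), (e (v : V)).2, ?_⟩
        invFun := fun x => ⟨e.symm ⟨(x : G ⧸ N), x.2.1⟩, ?_⟩
        left_inv := fun v => by
          apply Subtype.ext
          exact e.symm_apply_apply _
        right_inv := fun x => by
          apply Subtype.ext
          show ((e (e.symm ⟨(x : G ⧸ N), x.2.1⟩) : Mb) : G ⧸ N) = x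
          rw [e.apply_symm_apply] }
    · refine Subgroup.mem_centralizer_singleton_iff.mpr ?_
      have h1 : ρ g (v : V) = v := mem_fx.mp v.2
      have h2 := hρ g (v : V)
      rw [h1] at h2
      have h3 : ((e (v : V) : Mb) : G ⧸ N) * π g = π g * ((e (v : V) : Mb) : G ⧸ N) := by
        conv_lhs => rw [h2]
        group
      exact h3
    · rw [mem_fx]
      have h1 := Subgroup.mem_centralizer_singleton_iff.mp x.2.2
      apply e.injective
      apply Subtype.ext
      rw [hρ, e.apply_symm_apply]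
      have h1' : (x : G ⧸ N) * π g = π g * x := h1
      show π g * (x : G ⧸ N) * (π g)⁻¹ = x
      rw [← h1']; group
  have hle : ∀ g : G, (Nat.card (Subgroup.centralizer ({g} : Set G) ⊓ M :
      Subgroup G)).factorization p ≤ (Nat.card (Subgroup.centralizer ({g} : Set G) ⊓ N :
      Subgroup G)).factorization p + finrank (ZMod p) (fx ρ g) := by
    intro g
    rw [fact_inf_map p N (_ ⊓ M), inf_inf_eq hNM, ← hπ]
    apply Nat.add_le_add_left
    have h1 : finrank (ZMod p) (fx ρ g) = (Nat.card (fx ρ g)).factorization p := by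
      rw [Module.natCard_eq_pow_finrank (K := ZMod p) (V := fx ρ g), Nat.card_zmod,
        Nat.factorization_pow]
      simp [hp.out.factorization_self]
    rw [h1, hfx g]
    apply (Nat.factorization_le_iff_dvd Nat.card_pos.ne' Nat.card_pos.ne').mpr
    apply Subgroup.card_dvd_of_le
    rintro _ ⟨x, ⟨hx1, hx2⟩, rfl⟩
    refine ⟨by rw [hMb]; exact ⟨x, hx2, rfl⟩, ?_⟩
    refine Subgroup.mem_centralizer_singleton_iff.mpr ?_
    have h2 : x * g = g * x := Subgroup.mem_centralizer_singleton_iff.mp hx1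
    show π x * π g = π g * π x
    rw [← map_mul, h2, map_mul]
  refine ⟨fun g => finrank (ZMod p) (fx ρ g), hle, ?_, ?_⟩
  · intro g k hk
    have h1 : ρ k = 1 := by
      ext v
      show ρ k v = v
      apply e.injective
      apply Subtype.ext
      rw [hρ]
      obtain ⟨x, hx, hxv⟩ := hπM v
      rw [← hxv, ← map_mul, ← map_inv, ← map_mul, ← mul_inv_eq_one, ← map_inv, ← map_mul, hπ1]
      exact hk x hx
    show finrank (ZMod p) (fx ρ (g * k)) = finrank (ZMod p) (fx ρ g)
    rw [fx, fx, map_mul, h1, mul_one]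
  · rw [hfin] at key
    exact key

theorem chief_c [Fintype G] (hs : Group.IsSolvable G) {p : ℕ} [hp : Fact p.Prime]
    {N M : Subgroup G} [hN : N.Normal] [hM : M.Normal] (hNM : N ≤ M)
    (hchief : ∀ K : Subgroup G, K.Normal → N ≤ K → K ≤ M → K = N ∨ K = M)
    (hab : ⁅M, M⁆ ≤ N) (hpow : ∀ m ∈ M, m ^ p ∈ N)
    (hD : 2 ≤ (N.relIndex M).factorization p) :
    ∃ c : G → ℕ, (∀ g, (Nat.card (Subgroup.centralizer ({g} : Set G) ⊓ M :
      Subgroup G)).factorization p ≤ (Nat.card (Subgroup.centralizer ({g} : Set G) ⊓ N :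
      Subgroup G)).factorization p + c g) ∧
      (∀ g k : G, (∀ m ∈ M, k * m * k⁻¹ * m⁻¹ ∈ N) → c (g * k) = c g) ∧
      2 * ∑ g : G, c g ≤ Nat.card G * (N.relIndex M).factorization p := by
  classical
  have hMbn : (M.map (QuotientGroup.mk' N)).Normal := hM.map _ (QuotientGroup.mk'_surjective N)
  have habb : ∀ a ∈ M.map (QuotientGroup.mk' N), ∀ b ∈ M.map (QuotientGroup.mk' N),
      a * b = b * a := by
    rintro _ ⟨a, ha, rfl⟩ _ ⟨b, hb, rfl⟩
    have h1 : ⁅a, b⁆ ∈ N := hab (Subgroup.commutator_mem_commutator ha hb)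
    have h2 : (QuotientGroup.mk' N) ⁅a, b⁆ = 1 := (QuotientGroup.eq_one_iff _).mpr h1
    rw [map_commutatorElement, commutatorElement_eq_one_iff_mul_comm] at h2
    exact h2
  let i1 : CommGroup (M.map (QuotientGroup.mk' N)) := addInst _ habb
  let V := Additive (M.map (QuotientGroup.mk' N))
  let i2 : AddCommGroup V := Additive.addCommGroup
  let i3 : Module (ZMod p) V := AddCommGroup.zmodModule (n := p) (by
    intro x
    have h1 : (Additive.toMul x : (M.map (QuotientGroup.mk' N))) ^ p = 1 := by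
      obtain ⟨y, hy⟩ := (Additive.toMul x : (M.map (QuotientGroup.mk' N))).2
      apply Subtype.ext
      show ((Additive.toMul x : (M.map (QuotientGroup.mk' N))) : G ⧸ N) ^ p = 1
      rw [← hy.2, ← map_pow]
      exact (QuotientGroup.eq_one_iff _).mpr (hpow y hy.1)
    exact h1)
  have : Finite V := inferInstanceAs (Finite (M.map (QuotientGroup.mk' N)))
  exact chief_c_core hs hNM hchief hD _ rfl _ rfl (V := V) Additive.toMul (fun a b => rfl)

end Cfsg.Agent.Lib.H72AvgChiefC
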