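import Cfsg.Agent.Lib.H72BaerSolv
import Cfsg.Agent.S4126

/-!
# Structure of `q`-Baer groups
-/

set_option autoImplicit false

namespace Cfsg.Agent.Lib.H72BaerFin

open Subgroup Cfsg.Agent.Lib Cfsg.Agent.Lib.H72Baer

universe u

variable {G : Type u} [Group G] [Finite G]

theorem image_mem {p q : ℕ} [hp : Fact p.Prime] [hq : Fact q.Prime] {x : G} (hx : QEl q x)
    (hcl : ∃ a : ℕ, (centralizer ({x} : Set G)).index = p ^ a) :
    (QuotientGroup.mk x : G ⧸ Cfsg.pCore p G) ∈ Cfsg.pCore q (G ⧸ Cfsg.pCore p G) := by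
  have hO : (Cfsg.pCore p G).Normal := Fitting.normal_pCore p
  set T := Subgroup.normalClosure ({(QuotientGroup.mk x : G ⧸ Cfsg.pCore p G)} : Set (G ⧸ Cfsg.pCore p G)) with hT
  have hconj : ∀ a ∈ Group.conjugatesOfSet ({(QuotientGroup.mk x : G ⧸ Cfsg.pCore p G)} : Set (G ⧸ Cfsg.pCore p G)),
      ∃ g : G, a = QuotientGroup.mk (g * x * g⁻¹) := by
    intro a ha
    rw [Group.mem_conjugatesOfSet_iff] at ha
    obtain ⟨b, hb, hab⟩ := ha
    rw [Set.mem_singleton_iff] at hb
    subst hb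
    obtain ⟨g, rfl⟩ := isConj_iff.1 hab
    induction g using QuotientGroup.induction_on with
    | H g => exact ⟨g, rfl⟩
  have hcomm : ∀ a ∈ Group.conjugatesOfSet ({(QuotientGroup.mk x : G ⧸ Cfsg.pCore p G)} : Set (G ⧸ Cfsg.pCore p G)),
      ∀ b ∈ Group.conjugatesOfSet ({(QuotientGroup.mk x : G ⧸ Cfsg.pCore p G)} : Set (G ⧸ Cfsg.pCore p G)), a * b = b * a := by
    intro a ha b hb
    obtain ⟨g, rfl⟩ := hconj a ha
    obtain ⟨h, rfl⟩ := hconj b hb
    have h1 := Kazarin.conj_commute_mod p x hcl g h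
    rw [← QuotientGroup.eq_one_iff] at h1
    rw [← commutatorElement_eq_one_iff_mul_comm, commutatorElement_def]
    exact h1
  have hTc := Subgroup.isMulCommutative_closure hcomm
  have hTp : IsPGroup q T := by
    have h1 : ∀ y ∈ T, ∃ k : ℕ, y ^ q ^ k = 1 := by
      intro y hy
      rw [hT, Subgroup.normalClosure] at hy
      induction hy using Subgroup.closure_induction with
      | mem y hy =>
        obtain ⟨g, rfl⟩ := hconj y hy
        obtain ⟨k, hk⟩ := hx
        refine ⟨k, ?_⟩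
        rw [← QuotientGroup.mk_pow, conj_pow, ← hk, pow_orderOf_eq_one]
        simp
      | one => exact ⟨0, one_pow _⟩
      | mul a b ha hb iha ihb =>
        obtain ⟨k, hk⟩ := iha
        obtain ⟨l, hl⟩ := ihb
        have hab : Commute a b := isMulCommutative_iff_of_setLike.mp hTc a ha b hb
        refine ⟨k + l, ?_⟩
        rw [hab.mul_pow, pow_add, pow_mul, hk, one_pow, one_mul, mul_comm, pow_mul, hl, one_pow]
      | inv a ha iha =>
        obtain ⟨k, hk⟩ := iha
        exact ⟨k, by rw [inv_pow, hk, inv_one]⟩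
    intro y
    obtain ⟨k, hk⟩ := h1 y y.2
    exact ⟨k, Subtype.ext hk⟩
  exact Fitting.le_pCore q normalClosure_normal hTp (subset_normalClosure (Set.mem_singleton _))

theorem map_sylow {p q : ℕ} [hp : Fact p.Prime] [hq : Fact q.Prime]
    (hcl : ∀ x : G, QEl q x → ∃ a : ℕ, (centralizer ({x} : Set G)).index = p ^ a) (Q : Sylow q G) :
    (Q : Subgroup G).map (@QuotientGroup.mk' G _ (Cfsg.pCore p G) (Fitting.normal_pCore p)) =
      @Cfsg.pCore q (G ⧸ Cfsg.pCore p G) (@QuotientGroup.Quotient.group G _ (Cfsg.pCore p G) (Fitting.normal_pCore p)) := by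
  have hO : (Cfsg.pCore p G).Normal := Fitting.normal_pCore p
  have h1 : IsPGroup q ((Q : Subgroup G).map (QuotientGroup.mk' (Cfsg.pCore p G))) := Q.isPGroup'.map _
  have h2 : ¬ q ∣ ((Q : Subgroup G).map (QuotientGroup.mk' (Cfsg.pCore p G))).index := fun h =>
    Q.not_dvd_index (h.trans (Subgroup.index_map_dvd _ (QuotientGroup.mk'_surjective _)))
  let S := h1.toSylow h2
  have h3 : (S : Subgroup (G ⧸ Cfsg.pCore p G)) ≤ Cfsg.pCore q (G ⧸ Cfsg.pCore p G) := by
    rintro _ ⟨x, hx, rfl⟩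
    have hxq := qEl_of_isPGroup Q.isPGroup' hx
    exact image_mem hxq (hcl x hxq)
  exact (S.is_maximal' (Fitting.isPGroup_pCore q) h3).symm

theorem inf_core {p q : ℕ} [hp : Fact p.Prime] [hq : Fact q.Prime] (hpq : p ≠ q) {y : G} (h1 : y ∈ Cfsg.pCore p G)
    {Q : Subgroup G} (hQ : IsPGroup q Q) (h2 : y ∈ Q) : y = 1 := by
  obtain ⟨k, hk⟩ := Fitting.isPGroup_pCore p (G := G) ⟨y, h1⟩
  obtain ⟨l, hl⟩ := hQ ⟨y, h2⟩
  have e1 : y ^ p ^ k = 1 := congrArg Subtype.val hk
  have e2 : y ^ q ^ l = 1 := congrArg Subtype.val hl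
  have h3 := Nat.dvd_gcd (orderOf_dvd_of_pow_eq_one e1) (orderOf_dvd_of_pow_eq_one e2)
  have h4 : (p ^ k).Coprime (q ^ l) := Nat.Coprime.pow _ _ ((Nat.coprime_primes hp.out hq.out).2 hpq)
  rw [h4.gcd_eq_one, Nat.dvd_one, orderOf_eq_one_iff] at h3
  exact h3

theorem sylow_comm {p q : ℕ} [hp : Fact p.Prime] [hq : Fact q.Prime] (hpq : p ≠ q)
    (hcl : ∀ x : G, QEl q x → ∃ a : ℕ, (centralizer ({x} : Set G)).index = p ^ a) (Q : Sylow q G) :
    IsMulCommutative (Q : Subgroup G) := by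
  have hO : (Cfsg.pCore p G).Normal := Fitting.normal_pCore p
  rw [isMulCommutative_iff_of_setLike]
  intro x hx y hy
  obtain ⟨a, ha⟩ := hcl x (qEl_of_isPGroup Q.isPGroup' hx)
  obtain ⟨T, hT⟩ := exists_sylow_le (r := q) (C := centralizer ({x} : Set G)) (by
    rw [ha]; exact prime_not_dvd_pow hq.out hp.out hpq.symm a)
  have h1 : (QuotientGroup.mk y : G ⧸ Cfsg.pCore p G) ∈ (T : Subgroup G).map (QuotientGroup.mk' (Cfsg.pCore p G)) := by
    rw [map_sylow hcl T, ← map_sylow hcl Q]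
    exact ⟨y, hy, rfl⟩
  obtain ⟨t, ht, hty⟩ := h1
  have htx : t * x * t⁻¹ = x := mem_cent.1 (hT ht)
  have h2 : x * y * x⁻¹ * y⁻¹ ∈ Cfsg.pCore p G := by
    rw [← QuotientGroup.eq_one_iff]
    have hty' : (QuotientGroup.mk y : G ⧸ Cfsg.pCore p G) = QuotientGroup.mk t := hty.symm
    have h3 : (QuotientGroup.mk (x * y * x⁻¹ * y⁻¹) : G ⧸ Cfsg.pCore p G) = QuotientGroup.mk (x * t * x⁻¹ * t⁻¹) := by
      simp only [QuotientGroup.mk_mul, QuotientGroup.mk_inv, hty']
    rw [h3, ← QuotientGroup.mk_one]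
    congr 1
    calc x * t * x⁻¹ * t⁻¹ = x * (t * x * t⁻¹)⁻¹ := by group
      _ = 1 := by rw [htx, mul_inv_cancel]
  have h3 := inf_core hpq h2 Q.isPGroup' (mul_mem (mul_mem (mul_mem hx hy) (inv_mem hx)) (inv_mem hy))
  calc x * y = (x * y * x⁻¹ * y⁻¹) * (y * x) := by group
    _ = y * x := by rw [h3, one_mul]

theorem sup_normal {p q : ℕ} [hp : Fact p.Prime] [hq : Fact q.Prime]
    (hcl : ∀ x : G, QEl q x → ∃ a : ℕ, (centralizer ({x} : Set G)).index = p ^ a) (Q : Sylow q G) :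
    (Cfsg.pCore p G ⊔ (Q : Subgroup G)).Normal := by
  have hO : (Cfsg.pCore p G).Normal := Fitting.normal_pCore p
  have h1 : Cfsg.pCore p G ⊔ (Q : Subgroup G) = (Cfsg.pCore q (G ⧸ Cfsg.pCore p G)).comap (QuotientGroup.mk' (Cfsg.pCore p G)) := by
    rw [← map_sylow hcl Q, comap_map_eq, QuotientGroup.ker_mk', sup_comm]
  rw [h1]
  have := Fitting.normal_pCore q (G := G ⧸ Cfsg.pCore p G)
  infer_instance

theorem eq_core {q : ℕ} [hq : Fact q.Prime]
    (hcl : ∀ x : G, QEl q x → ∃ a : ℕ, (centralizer ({x} : Set G)).index = q ^ a) (Q : Sylow q G) :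
    (Q : Subgroup G) = Cfsg.pCore q G := by
  have h3 : (Q : Subgroup G) ≤ Cfsg.pCore q G := by
    intro x hx
    have hxq := qEl_of_isPGroup Q.isPGroup' hx
    obtain ⟨a, ha⟩ := hcl x hxq
    obtain ⟨k, hk⟩ := hxq
    exact Kazarin.mem_pCore_of_isPElement x hk ha
  exact (Q.is_maximal' (Fitting.isPGroup_pCore q) h3).symm

theorem solv_clause {p q : ℕ} [hp : Fact p.Prime] [hq : Fact q.Prime] (hpq : p ≠ q)
    (hcl : ∀ x : G, QEl q x → ∃ a : ℕ, (centralizer ({x} : Set G)).index = p ^ a) (Q : Sylow q G)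
    (hn : (Cfsg.pPrimeCore q G).Normal) : Group.IsSolvable (G ⧸ Cfsg.pPrimeCore q G) := by
  have hO : (Cfsg.pCore p G).Normal := Fitting.normal_pCore p
  set X := G ⧸ Cfsg.pPrimeCore q G with hX
  set π : G →* X := QuotientGroup.mk' (Cfsg.pPrimeCore q G) with hπ
  have hπs : Function.Surjective π := QuotientGroup.mk'_surjective _
  set V : Subgroup X := (Q : Subgroup G).map π with hV
  have hOle : Cfsg.pCore p G ≤ Cfsg.pPrimeCore q G := by
    apply Cores.le_pPrimeCore hO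
    obtain ⟨n, hn⟩ := IsPGroup.iff_card.1 (Fitting.isPGroup_pCore p (G := G))
    rw [hn]
    exact Nat.Coprime.pow_left _ ((Nat.coprime_primes hp.out hq.out).2 hpq)
  have hVn : V.Normal := by
    have h1 : V = (Cfsg.pCore p G ⊔ (Q : Subgroup G)).map π := by
      rw [Subgroup.map_sup]
      have h2 : (Cfsg.pCore p G).map π = ⊥ := by
        rw [Subgroup.map_eq_bot_iff, hπ, QuotientGroup.ker_mk']
        exact hOle
      rw [h2, bot_sup_eq]
    rw [h1]
    exact Subgroup.Normal.map (sup_normal hcl Q) _ hπs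
  have hVc : IsMulCommutative V := by
    have h1 := sylow_comm hpq hcl Q
    rw [isMulCommutative_iff_of_setLike]
    rintro _ ⟨x, hx, rfl⟩ _ ⟨y, hy, rfl⟩
    rw [← map_mul, ← map_mul, isMulCommutative_iff_of_setLike.mp h1 x hx y hy]
  have hVq : IsPGroup q V := Q.isPGroup'.map _
  have hVi : ¬ q ∣ V.index := fun h => Q.not_dvd_index (h.trans (Subgroup.index_map_dvd _ hπs))
  let S := hVq.toSylow hVi
  have hSn : (S : Subgroup X).Normal := hVn
  -- all q-subgroups are in V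
  have hall : ∀ R : Subgroup X, IsPGroup q R → R ≤ V := by
    intro R hR
    obtain ⟨T, hT⟩ := hR.exists_le_sylow
    have h1 : T = S := by
      have := Sylow.unique_of_normal S hSn
      exact Subsingleton.elim T S
    rw [h1] at hT
    exact hT
  have hself : centralizer (V : Set X) ≤ V := by
    set C := centralizer (V : Set X) with hC
    have hCn : C.Normal := inferInstance
    obtain ⟨P, N, hN, hcompl⟩ := S4126.result (G := C) q (by
      intro x hx
      have hxq : IsPGroup q (zpowers (x : X)) := by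
        rcases hx with h1 | ⟨h1, h2⟩
        · apply IsPGroup.of_card (n := 1)
          rw [Nat.card_zpowers, Subgroup.orderOf_coe, h1, pow_one]
        · apply IsPGroup.of_card (n := 2)
          rw [Nat.card_zpowers, Subgroup.orderOf_coe, h2, h1]; norm_num
      have hxV := hall _ hxq (mem_zpowers (x : X))
      refine ⟨0, ?_⟩
      rw [pow_zero]
      apply index_one_of_central
      intro g
      apply Subtype.ext
      have h1 := mem_centralizer_iff.1 g.2 x hxV
      change (g : X) * x * (g : X)⁻¹ = x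
      rw [← h1]; group)
    have hN1 : N = ⊥ := by
      have hNc : (Nat.card N).Coprime q := by
        rw [← hcompl.index_eq_card, Nat.coprime_comm]
        exact (Nat.Prime.coprime_iff_not_dvd hq.out).2 P.not_dvd_index
      have h1 := Cores.le_pPrimeCore hN hNc
      have h2 := Cores.map_pPrimeCore_subtype_le q C
      have h3 : Cfsg.pPrimeCore q X = ⊥ := Cores.pPrimeCore_quotient_pPrimeCore q G
      rw [h3] at h2
      have h4 : N.map C.subtype ≤ ⊥ := (map_mono h1).trans h2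
      rw [le_bot_iff, Subgroup.map_eq_bot_iff_of_injective _ C.subtype_injective] at h4
      exact h4
    have hCq : IsPGroup q C := by
      have h1 := hcompl.card_mul_card
      rw [hN1, card_bot, one_mul] at h1
      obtain ⟨n, hn⟩ := IsPGroup.iff_card.1 P.isPGroup'
      exact IsPGroup.of_card (n := n) (by rw [← h1, hn])
    exact hall C hCq
  apply H72BaerSolv.solv (p := p) (q := q) hVn hVc hVq hVi hself
  rintro _ ⟨x, hx, rfl⟩
  obtain ⟨a, ha⟩ := hcl x (qEl_of_isPGroup Q.isPGroup' hx)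
  have h1 : (centralizer ({x} : Set G)).map π ≤ centralizer ({π x} : Set X) := by
    rintro _ ⟨y, hy, rfl⟩
    rw [mem_cent]
    have := mem_cent.1 hy
    rw [← map_mul, ← map_inv, ← map_mul, this]
  have h2 := (index_dvd_of_le h1).trans (Subgroup.index_map_dvd _ hπs)
  rw [ha] at h2
  obtain ⟨b, -, hb⟩ := (Nat.dvd_prime_pow hp.out).1 h2
  exact ⟨b, hb⟩

theorem main (q : ℕ) [hq : Fact q.Prime]
    (hBaer : ∀ x : G, (∃ k : ℕ, orderOf x = q ^ k) → ∃ (r : ℕ) (a : ℕ), r.Prime ∧ (Subgroup.centralizer ({x} : Set G)).index = r ^ a) (Q : Sylow q G) :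
    (∃ K L : Subgroup G, K.Normal ∧ L.Normal ∧ K ≤ L ∧ (Nat.card K).Coprime q ∧ (∃ m : ℕ, K.relIndex L = q ^ m) ∧ L.index.Coprime q) ∧
    ∃ p : ℕ, p.Prime ∧ (∀ x : G, (∃ k : ℕ, orderOf x = q ^ k) → ∃ a : ℕ, (Subgroup.centralizer ({x} : Set G)).index = p ^ a) ∧
      (p = q → (Q : Subgroup G).Normal ∧ ∃ N : Subgroup G, N.Normal ∧ N.IsComplement' (Q : Subgroup G)) ∧
      (p ≠ q → IsMulCommutative (Q : Subgroup G) ∧ (Cfsg.pCore p G ⊔ (Q : Subgroup G)).Normal ∧
        ∀ _h : (Cfsg.pPrimeCore q G).Normal, Group.IsSolvable (G ⧸ Cfsg.pPrimeCore q G)) := by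
  obtain ⟨p, hp, hcl⟩ := exists_prime (q := q) (G := G) hBaer
  have hpf : Fact p.Prime := ⟨hp⟩
  by_cases hpq : p = q
  · subst hpq
    have hQ := eq_core hcl Q
    have hQn : (Q : Subgroup G).Normal := by rw [hQ]; exact Fitting.normal_pCore p
    obtain ⟨P, N, hN, hcompl⟩ := S4126.result (G := G) p (by
      intro x hx
      apply hcl x
      rcases hx with h1 | ⟨h1, h2⟩
      · exact ⟨1, by rw [h1, pow_one]⟩
      · exact ⟨2, by rw [h2, h1]; norm_num⟩)
    have hPQ : (P : Subgroup G) = Q := by rw [hQ, eq_core hcl P]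
    rw [hPQ] at hcompl
    refine ⟨⟨N, ⊤, hN, inferInstance, le_top, ?_, ?_, ?_⟩, p, hp, hcl, fun _ => ⟨hQn, N, hN, hcompl⟩, fun h => absurd rfl h⟩
    · rw [← hcompl.index_eq_card, Nat.coprime_comm]
      exact (Nat.Prime.coprime_iff_not_dvd hp).2 Q.not_dvd_index
    · rw [relIndex_top_right, hcompl.symm.index_eq_card]
      exact IsPGroup.iff_card.1 Q.isPGroup'
    · rw [index_top]; exact Nat.coprime_one_left p
  · have hO : (Cfsg.pCore p G).Normal := Fitting.normal_pCore p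
    have hLn := sup_normal hcl Q
    refine ⟨⟨Cfsg.pCore p G, Cfsg.pCore p G ⊔ (Q : Subgroup G), hO, hLn, le_sup_left, ?_, ?_, ?_⟩, p, hp, hcl, fun h => absurd h hpq,
      fun _ => ⟨sylow_comm hpq hcl Q, hLn, fun hn => solv_clause hpq hcl Q hn⟩⟩
    · obtain ⟨n, hn⟩ := IsPGroup.iff_card.1 (Fitting.isPGroup_pCore p (G := G))
      rw [hn]
      exact Nat.Coprime.pow_left _ ((Nat.coprime_primes hp hq.out).2 hpq)
    · rw [sup_comm, relIndex_sup_right]
      obtain ⟨n, hn⟩ := IsPGroup.iff_card.1 Q.isPGroup'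
      have h1 : (Cfsg.pCore p G).relIndex (Q : Subgroup G) ∣ q ^ n := by
        rw [← hn]; exact relIndex_dvd_card _ _
      obtain ⟨b, -, hb⟩ := (Nat.dvd_prime_pow hq.out).1 h1
      exact ⟨b, hb⟩
    · rw [Nat.coprime_comm]
      apply (Nat.Prime.coprime_iff_not_dvd hq.out).2
      intro h
      exact Q.not_dvd_index (h.trans (index_dvd_of_le le_sup_right))

end Cfsg.Agent.Lib.H72BaerFin
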