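import Cfsg.Agent.Lib.H70Frattini
import Cfsg.Agent.Lib.ClassTwo67
import Cfsg.Agent.Lib.CoprimeAction2

set_option autoImplicit false

/-!
Actions of groups generated by `p'`-elements on `p`-groups:
* `le_centralizer_of_orbits`: if all the orbits have `p`-power size then the action is trivial;
* `le_centralizer_of_omega`: it is enough to look at the elements of order `p` (and `4` if `p = 2`).
-/

namespace Cfsg.Agent.Lib.OmegaCent

open Subgroup
open scoped commutatorElement

variable {G : Type*} [Group G]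

/-- relative index in a normal subgroup divides the index -/
theorem relIndex_dvd_index_normal [Finite G] (H K : Subgroup G) [K.Normal] : H.relIndex K ∣ H.index := by
  have h1 : (K ⊓ H).relIndex H * H.relIndex (H ⊔ K) = (K ⊓ H).relIndex (H ⊔ K) :=
    Subgroup.relIndex_mul_relIndex _ _ _ inf_le_right le_sup_left
  have h2 : (K ⊓ H).relIndex K * K.relIndex (H ⊔ K) = (K ⊓ H).relIndex (H ⊔ K) :=
    Subgroup.relIndex_mul_relIndex _ _ _ inf_le_left le_sup_right
  rw [Subgroup.relIndex_sup_right, Subgroup.inf_relIndex_left] at h2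
  rw [Subgroup.inf_relIndex_right] at h1
  have h3 : K.relIndex H ≠ 0 := (Subgroup.index_ne_zero_of_finite : (K.subgroupOf H).index ≠ 0)
  have h4 : H.relIndex (H ⊔ K) = H.relIndex K := by
    apply Nat.eq_of_mul_eq_mul_left (Nat.pos_of_ne_zero h3)
    rw [h1, ← h2, mul_comm]
  rw [← h4]
  exact Subgroup.relIndex_dvd_index_of_le le_sup_left

theorem eq_one_of_conj {a u c : G} {p k : ℕ} (hp : p.Prime) (h1 : a * u * a⁻¹ = u * c) (h2 : a * c = c * a)
    (hcop : (orderOf a).Coprime p) (hc : c ^ p ^ k = 1) : c = 1 := by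
  have h3 : ∀ m : ℕ, a ^ m * u * (a ^ m)⁻¹ = u * c ^ m := by
    intro m
    induction m with
    | zero => simp
    | succ m ih =>
      have h4 : a ^ m * c = c * a ^ m := (((show Commute a c from h2).pow_left m)).eq
      calc a ^ (m + 1) * u * (a ^ (m + 1))⁻¹ = a ^ m * (a * u * a⁻¹) * (a ^ m)⁻¹ := by
            rw [pow_succ]; group
        _ = a ^ m * (u * c) * (a ^ m)⁻¹ := by rw [h1]
        _ = a ^ m * u * (a ^ m)⁻¹ * (a ^ m * c * (a ^ m)⁻¹) := by group
        _ = u * c ^ m * (c * a ^ m * (a ^ m)⁻¹) := by rw [ih, h4]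
        _ = u * c ^ (m + 1) := by rw [pow_succ]; group
  have h5 := h3 (orderOf a)
  rw [pow_orderOf_eq_one] at h5
  have h6 : c ^ orderOf a = 1 := by
    have : u * c ^ orderOf a = u * 1 := by rw [← h5]; group
    exact mul_left_cancel this
  have h7 : orderOf c ∣ orderOf a := orderOf_dvd_of_pow_eq_one h6
  have h8 : orderOf c ∣ p ^ k := orderOf_dvd_of_pow_eq_one hc
  have h9 : orderOf c ∣ 1 := by
    have : (orderOf a).Coprime (p ^ k) := hcop.pow_right k
    rw [← Nat.Coprime.gcd_eq_one this]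
    exact Nat.dvd_gcd h7 h8
  exact orderOf_eq_one_iff.1 (Nat.dvd_one.1 h9)

/-- conjugation action of a subgroup of the normaliser on the cosets of a centralised subgroup -/
theorem exists_fixed_coset [Finite G] {p : ℕ} [Fact p.Prime] (S U C : Subgroup G) (hS : IsPGroup p S)
    (hU : IsPGroup p U) (hSU : S ≤ normalizer (U : Set G)) (hCU : C < U) (hSC : S ≤ centralizer (C : Set G)) :
    ∃ u ∈ U, u ∉ C ∧ ∀ s ∈ S, u⁻¹ * (s * u * s⁻¹) ∈ C := by
  classical
  let X := U ⧸ C.subgroupOf U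
  have hmem : ∀ s : S, ∀ u : U, (s : G) * u * (s : G)⁻¹ ∈ U := fun s u =>
    (Subgroup.mem_normalizer_iff.1 (hSU s.2) u).1 u.2
  let f : S → U → U := fun s u => ⟨(s : G) * u * (s : G)⁻¹, hmem s u⟩
  have hf : ∀ s : S, ∀ u v : U, QuotientGroup.leftRel (C.subgroupOf U) u v →
      QuotientGroup.leftRel (C.subgroupOf U) (f s u) (f s v) := by
    intro s u v h
    rw [QuotientGroup.leftRel_apply, Subgroup.mem_subgroupOf] at h ⊢
    have h1 : (s : G) * ((u : G)⁻¹ * v) = ((u : G)⁻¹ * v) * s := by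
      have := Subgroup.mem_centralizer_iff.1 (hSC s.2) ((u : G)⁻¹ * v) (by simpa using h)
      exact this.symm
    have h2 : (((f s u)⁻¹ * f s v : U) : G) = (u : G)⁻¹ * v := by
      show ((s : G) * u * (s : G)⁻¹)⁻¹ * ((s : G) * v * (s : G)⁻¹) = _
      calc ((s : G) * u * (s : G)⁻¹)⁻¹ * ((s : G) * v * (s : G)⁻¹) = (s : G) * ((u : G)⁻¹ * v) * (s : G)⁻¹ := by group
        _ = (u : G)⁻¹ * v := by rw [h1]; group
    rw [h2]
    simpa using h
  let act : MulAction S X :=
    { smul := fun s q => Quotient.map' (f s) (hf s) q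
      one_smul := by
        intro q
        refine Quotient.inductionOn' q ?_
        intro u
        have h : f 1 u = u := by
          apply Subtype.ext
          show ((1 : S) : G) * u * ((1 : S) : G)⁻¹ = u
          simp
        show (Quotient.mk'' (f 1 u) : X) = Quotient.mk'' u
        rw [h]
      mul_smul := by
        intro s t q
        refine Quotient.inductionOn' q ?_
        intro u
        have h : f (s * t) u = f s (f t u) := by
          apply Subtype.ext
          show ((s * t : S) : G) * u * ((s * t : S) : G)⁻¹ = (s : G) * ((t : G) * u * (t : G)⁻¹) * (s : G)⁻¹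
          rw [Subgroup.coe_mul]; group
        show (Quotient.mk'' (f (s * t) u) : X) = Quotient.mk'' (f s (f t u))
        rw [h] }
  have hsmul : ∀ (s : S) (u : U), (s • (QuotientGroup.mk u : X)) = QuotientGroup.mk (f s u) := fun s u => rfl
  have hdvd : p ∣ Nat.card X := by
    have hX : Nat.card X = C.relIndex U := rfl
    obtain ⟨k, hk⟩ := (hU.index (C.subgroupOf U))
    have hX' : Nat.card X = p ^ k := hk
    rw [hX']
    rcases Nat.eq_zero_or_pos k with rfl | hpos
    · exfalso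
      rw [hX, pow_zero, Subgroup.relIndex_eq_one] at hX'
      exact absurd hX' (not_le_of_gt hCU)
    · exact dvd_pow_self p hpos.ne'
  have hfix : (QuotientGroup.mk 1 : X) ∈ MulAction.fixedPoints S X := by
    intro s
    rw [hsmul]
    have : f s 1 = 1 := by
      apply Subtype.ext
      show (s : G) * ((1 : U) : G) * (s : G)⁻¹ = ((1 : U) : G)
      simp
    rw [this]
  obtain ⟨b, hb, hne⟩ := hS.exists_fixed_point_of_prime_dvd_card_of_fixed_point X hdvd hfix
  obtain ⟨u, rfl⟩ := QuotientGroup.mk_surjective b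
  refine ⟨u, u.2, ?_, ?_⟩
  · intro hu
    apply hne
    rw [QuotientGroup.eq, Subgroup.mem_subgroupOf]
    simpa using hu
  · intro s hs
    have h1 := hb ⟨s, hs⟩
    rw [hsmul] at h1
    have h2 := QuotientGroup.eq.1 h1.symm
    rw [Subgroup.mem_subgroupOf] at h2
    exact h2

/-- **Lemma A** -/
theorem le_centralizer_of_orbits [Finite G] {p : ℕ} [Fact p.Prime] (N U : Subgroup G) (hU : IsPGroup p U)
    (hNU : N ≤ normalizer (U : Set G))
    (hgen : ∀ H : Subgroup G, (∀ g ∈ N, (orderOf g).Coprime p → g ∈ H) → N ≤ H)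
    (hind : ∀ u ∈ U, ∃ k, (centralizer ({u} : Set G)).relIndex N = p ^ k) : N ≤ centralizer (U : Set G) := by
  have hp : p.Prime := Fact.out
  by_contra hcon
  set C := U ⊓ centralizer (N : Set G) with hC
  have hCU : C < U := by
    refine lt_of_le_of_ne inf_le_left ?_
    intro h
    apply hcon
    have h1 : U ≤ centralizer (N : Set G) := by rw [← h, hC]; exact inf_le_right
    exact Subgroup.le_centralizer_iff.1 h1
  obtain ⟨S⟩ : Nonempty (Sylow p N) := inferInstance
  obtain ⟨u, huU, huC, hu⟩ := exists_fixed_coset ((S : Subgroup N).map N.subtype) U C (S.2.map _) hU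
    ((Subgroup.map_subtype_le _).trans hNU) hCU (by
      refine (Subgroup.map_subtype_le _).trans ?_
      rw [Subgroup.le_centralizer_iff]
      exact inf_le_right)
  let T : Subgroup N :=
    { carrier := {n | u⁻¹ * ((n : G) * u * (n : G)⁻¹) ∈ C}
      mul_mem' := by
        intro m n hm hn
        show u⁻¹ * ((m * n : N) * u * ((m * n : N) : G)⁻¹) ∈ C
        have hm' : u⁻¹ * ((m : G) * u * (m : G)⁻¹) ∈ C := hm
        have hn' : u⁻¹ * ((n : G) * u * (n : G)⁻¹) ∈ C := hn
        have h1 : (m : G) * (u⁻¹ * ((n : G) * u * (n : G)⁻¹)) = (u⁻¹ * ((n : G) * u * (n : G)⁻¹)) * m :=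
          Subgroup.mem_centralizer_iff.1 hn'.2 m m.2
        have h2 : u⁻¹ * (((m * n : N) : G) * u * ((m * n : N) : G)⁻¹) =
            (u⁻¹ * ((m : G) * u * (m : G)⁻¹)) * (u⁻¹ * ((n : G) * u * (n : G)⁻¹)) := by
          rw [Subgroup.coe_mul]
          calc u⁻¹ * (((m : G) * n) * u * ((m : G) * n)⁻¹)
              = (u⁻¹ * (m : G) * u) * ((u⁻¹ * ((n : G) * u * (n : G)⁻¹)) * (m : G)⁻¹) := by group
            _ = (u⁻¹ * (m : G) * u) * ((m : G)⁻¹ * ((m : G) * (u⁻¹ * ((n : G) * u * (n : G)⁻¹))) * (m : G)⁻¹) := by group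
            _ = (u⁻¹ * (m : G) * u) * ((m : G)⁻¹ * ((u⁻¹ * ((n : G) * u * (n : G)⁻¹)) * m) * (m : G)⁻¹) := by rw [h1]
            _ = _ := by group
        rw [h2]
        exact mul_mem hm' hn'
      one_mem' := by
        show u⁻¹ * (((1 : N) : G) * u * ((1 : N) : G)⁻¹) ∈ C
        simp [one_mem]
      inv_mem' := by
        intro n hn
        show u⁻¹ * (((n⁻¹ : N) : G) * u * ((n⁻¹ : N) : G)⁻¹) ∈ C
        have hn' : u⁻¹ * ((n : G) * u * (n : G)⁻¹) ∈ C := hn
        have h1 : (n : G) * (u⁻¹ * ((n : G) * u * (n : G)⁻¹)) = (u⁻¹ * ((n : G) * u * (n : G)⁻¹)) * n :=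
          Subgroup.mem_centralizer_iff.1 hn'.2 n n.2
        have h3 : (n : G) * (u⁻¹ * ((n : G) * u * (n : G)⁻¹))⁻¹ = (u⁻¹ * ((n : G) * u * (n : G)⁻¹))⁻¹ * n :=
          Subgroup.mem_centralizer_iff.1 (inv_mem hn'.2) n n.2
        have h2 : u⁻¹ * (((n⁻¹ : N) : G) * u * ((n⁻¹ : N) : G)⁻¹) = (u⁻¹ * ((n : G) * u * (n : G)⁻¹))⁻¹ := by
          rw [Subgroup.coe_inv, inv_inv]
          calc u⁻¹ * ((n : G)⁻¹ * u * n) = (n : G)⁻¹ * ((u⁻¹ * ((n : G) * u * (n : G)⁻¹))⁻¹ * n) := by group
            _ = (n : G)⁻¹ * ((n : G) * (u⁻¹ * ((n : G) * u * (n : G)⁻¹))⁻¹) := by rw [h3]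
            _ = _ := by group
        rw [h2]
        exact inv_mem hn' }
  have hT1 : (S : Subgroup N) ≤ T := by
    intro s hs
    show u⁻¹ * ((s : G) * u * (s : G)⁻¹) ∈ C
    exact hu s (Subgroup.mem_map.2 ⟨s, hs, rfl⟩)
  have hT2 : (centralizer ({u} : Set G)).subgroupOf N ≤ T := by
    intro n hn
    rw [Subgroup.mem_subgroupOf, mem_centralizer_singleton_iff] at hn
    show u⁻¹ * ((n : G) * u * (n : G)⁻¹) ∈ C
    rw [hn]
    simp [one_mem]
  obtain ⟨k, hk⟩ := hind u huU
  have h1 : T.index ∣ p ^ k := by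
    rw [← hk]
    exact Subgroup.index_dvd_of_le hT2
  have h2 : T.index ∣ (S : Subgroup N).index := Subgroup.index_dvd_of_le hT1
  have h3 : T = ⊤ := by
    rw [← Subgroup.index_eq_one]
    obtain ⟨j, hj, hTj⟩ := (Nat.dvd_prime_pow hp).1 h1
    rcases Nat.eq_zero_or_pos j with rfl | hpos
    · rw [hTj, pow_zero]
    · exfalso
      apply S.not_dvd_index
      exact (dvd_pow_self p hpos.ne').trans (hTj ▸ h2)
  apply huC
  refine ⟨huU, ?_⟩
  show u ∈ centralizer (N : Set G)
  have h4 : N ≤ centralizer ({u} : Set G) := by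
    apply hgen
    intro a ha hao
    have h5 : (⟨a, ha⟩ : N) ∈ T := by rw [h3]; trivial
    have h6 : u⁻¹ * (a * u * a⁻¹) ∈ C := h5
    have h7 : a * (u⁻¹ * (a * u * a⁻¹)) = (u⁻¹ * (a * u * a⁻¹)) * a := Subgroup.mem_centralizer_iff.1 h6.2 a ha
    obtain ⟨j, hj⟩ := hU ⟨_, h6.1⟩
    have hj' : (u⁻¹ * (a * u * a⁻¹)) ^ p ^ j = 1 := by simpa using congrArg Subtype.val hj
    have h8 : u⁻¹ * (a * u * a⁻¹) = 1 := eq_one_of_conj (u := u) hp (by group) h7 hao hj'
    rw [mem_centralizer_singleton_iff]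
    have h9 : a * u * a⁻¹ = u := (inv_mul_eq_one.1 h8).symm
    calc a * u = a * u * a⁻¹ * a := by group
      _ = u * a := by rw [h9]
  rw [Subgroup.mem_centralizer_iff]
  intro n hn
  exact mem_centralizer_singleton_iff.1 (h4 hn)

theorem le_normalizer_closure {N : Subgroup G} {S : Set G} (h : ∀ n ∈ N, ∀ s ∈ S, n * s * n⁻¹ ∈ closure S) :
    N ≤ normalizer ((closure S : Subgroup G) : Set G) := by
  have key : ∀ n ∈ N, ∀ s ∈ closure S, n * s * n⁻¹ ∈ closure S := by
    intro n hn s hs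
    have : closure S ≤ (closure S).comap (MulAut.conj n).toMonoidHom := by
      rw [closure_le]
      intro t ht
      exact h n hn t ht
    exact this hs
  intro n hn
  rw [Subgroup.mem_normalizer_iff]
  intro s
  refine ⟨fun hs => key n hn s hs, fun hs => ?_⟩
  have := key n⁻¹ (inv_mem hn) _ hs
  simpa [mul_assoc] using this

/-- **Lemma B** -/
theorem le_centralizer_of_omega [Finite G] {p : ℕ} [Fact p.Prime] (N : Subgroup G)
    (hgen : ∀ H : Subgroup G, (∀ g ∈ N, (orderOf g).Coprime p → g ∈ H) → N ≤ H) (U : Subgroup G) (hU : IsPGroup p U)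
    (hNU : N ≤ normalizer (U : Set G))
    (hind : ∀ u ∈ U, (orderOf u = p ∨ (p = 2 ∧ orderOf u = 4)) →
      ∃ k, (centralizer ({u} : Set G)).relIndex N = p ^ k) : N ≤ centralizer (U : Set G) := by
  have hp : p.Prime := Fact.out
  induction' hn : Nat.card U using Nat.strong_induction_on with n ih generalizing U
  by_contra hcon
  have hIH : ∀ V : Subgroup G, V < U → N ≤ normalizer (V : Set G) → N ≤ centralizer (V : Set G) := by
    intro V hV hNV
    refine ih (Nat.card V) ?_ V (hU.to_le hV.le) hNV (fun u hu => hind u (hV.le hu)) rfl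
    rw [← hn]
    exact Set.Finite.card_lt_card (Set.toFinite _) hV
  -- [U, N] = U
  have hUN : ⁅U, N⁆ = U := by
    by_contra hne
    have hle : ⁅U, N⁆ ≤ U := le_normalizer_iff_commutator_le_left.mp hNU
    have h1 := hIH ⁅U, N⁆ (lt_of_le_of_ne hle hne) (normalizer_commutator_ge_right U N)
    apply hcon
    rw [Subgroup.le_centralizer_iff]
    intro u hu
    have h4 : N ≤ centralizer ({u} : Set G) := by
      apply hgen
      intro a ha hao
      have h6 : u⁻¹ * (a * u * a⁻¹) ∈ ⁅U, N⁆ := by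
        have := commutator_mem_commutator (inv_mem hu) ha
        have h7 : ⁅u⁻¹, a⁆ = u⁻¹ * (a * u * a⁻¹) := by rw [commutatorElement_def]; group
        rwa [h7] at this
      have h7 : a * (u⁻¹ * (a * u * a⁻¹)) = (u⁻¹ * (a * u * a⁻¹)) * a :=
        (Subgroup.mem_centralizer_iff.1 (h1 ha) _ h6).symm
      obtain ⟨j, hj⟩ := hU ⟨_, hle h6⟩
      have hj' : (u⁻¹ * (a * u * a⁻¹)) ^ p ^ j = 1 := by simpa using congrArg Subtype.val hj
      have h8 : u⁻¹ * (a * u * a⁻¹) = 1 := eq_one_of_conj (u := u) hp (by group) h7 hao hj'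
      rw [mem_centralizer_singleton_iff]
      have h9 : a * u * a⁻¹ = u := (inv_mul_eq_one.1 h8).symm
      calc a * u = a * u * a⁻¹ * a := by group
        _ = u * a := by rw [h9]
    rw [Subgroup.mem_centralizer_iff]
    intro n hn
    exact mem_centralizer_singleton_iff.1 (h4 hn)
  -- the subgroup W
  set S : Set G := {w | ∃ x ∈ U, w = x ^ p} ∪ {w | ∃ x ∈ U, ∃ y ∈ U, w = ⁅x, y⁆} with hS
  set W := closure S with hW
  have hnorm : ∀ M : Subgroup G, M ≤ normalizer (U : Set G) → M ≤ normalizer (W : Set G) := by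
    intro M hM
    apply le_normalizer_closure
    intro m hm s hs
    apply Subgroup.subset_closure
    have hc : ∀ x ∈ U, m * x * m⁻¹ ∈ U := fun x hx => (Subgroup.mem_normalizer_iff.1 (hM hm) x).1 hx
    rcases hs with ⟨x, hx, rfl⟩ | ⟨x, hx, y, hy, rfl⟩
    · left
      exact ⟨m * x * m⁻¹, hc x hx, by rw [conj_pow]⟩
    · right
      refine ⟨m * x * m⁻¹, hc x hx, m * y * m⁻¹, hc y hy, ?_⟩
      rw [commutatorElement_def, commutatorElement_def]; group
  have hWU : W < U := by
    have hne : Nontrivial U := by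
      rw [Subgroup.nontrivial_iff_ne_bot]
      rintro rfl
      apply hcon
      intro n _
      rw [Subgroup.mem_centralizer_iff]
      intro x hx
      rw [SetLike.mem_coe, Subgroup.mem_bot] at hx
      rw [hx]; simp
    obtain ⟨M, hM⟩ : ∃ M : Subgroup U, IsCoatom M := by
      rcases IsCoatomic.eq_top_or_exists_le_coatom (⊥ : Subgroup U) with h | ⟨M, hM, -⟩
      · exact absurd h bot_ne_top
      · exact ⟨M, hM⟩
    have h1 : W ≤ M.map U.subtype := by
      rw [hW, closure_le]
      rintro w (⟨x, hx, rfl⟩ | ⟨x, hx, y, hy, rfl⟩)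
      · exact ⟨(⟨x, hx⟩ : U) ^ p, frattini_le_coatom hM (H70Frattini.pow_mem_frattini hU _), rfl⟩
      · refine ⟨⁅(⟨x, hx⟩ : U), ⟨y, hy⟩⁆, frattini_le_coatom hM (H70Frattini.commutator_le_frattini hU ?_), rfl⟩
        exact commutator_mem_commutator (mem_top _) (mem_top _)
    refine lt_of_le_of_lt h1 (lt_of_le_of_ne (Subgroup.map_subtype_le _) ?_)
    intro h2
    apply hM.1
    rw [eq_top_iff]
    intro u _
    have : (u : G) ∈ M.map U.subtype := by rw [h2]; exact u.2
    obtain ⟨v, hv, hvu⟩ := this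
    rwa [← Subtype.ext hvu]
  have hNW := hIH W hWU (hnorm N hNU)
  have hUW : U ≤ centralizer (W : Set G) := by
    have h1 : ⁅W, N⁆ = ⊥ := by
      rw [commutator_eq_bot_iff_le_centralizer, Subgroup.le_centralizer_iff]; exact hNW
    have h2 : ⁅U, W⁆ ≤ W := le_normalizer_iff_commutator_le_right.mp (hnorm U le_normalizer)
    have h3 : ⁅⁅U, W⁆, N⁆ = ⊥ := by
      rw [eq_bot_iff, ← h1]; exact commutator_mono h2 le_rfl
    have h4 : ⁅⁅W, N⁆, U⁆ = ⊥ := by rw [h1]; exact commutator_bot_left _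
    have h5 := CoprimeAction2.commutator_commutator_eq_bot h3 h4
    rw [commutator_comm N U, hUN, commutator_eq_bot_iff_le_centralizer] at h5
    exact h5
  have hW1 : ∀ x ∈ U, x ^ p ∈ W := fun x hx => Subgroup.subset_closure (Or.inl ⟨x, hx, rfl⟩)
  have hW2 : ∀ x ∈ U, ∀ y ∈ U, ⁅x, y⁆ ∈ W := fun x hx y hy => Subgroup.subset_closure (Or.inr ⟨x, hx, y, hy, rfl⟩)
  have hcen : ∀ w ∈ W, ∀ hw : w ∈ U, (⟨w, hw⟩ : U) ∈ center U := by
    intro w hw hwU
    rw [Subgroup.mem_center_iff]
    intro g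
    apply Subtype.ext
    show (g : G) * w = w * g
    exact (Subgroup.mem_centralizer_iff.1 (hUW g.2) w hw).symm
  have hc : ∀ a b : U, ⁅a, b⁆ ∈ center U := by
    intro a b
    have := hcen ⁅(a : G), b⁆ (hW2 a a.2 b b.2) (⁅a, b⁆).2
    exact this
  have hcp : ∀ a b : U, ⁅a, b⁆ ^ p = 1 := by
    intro a b
    rw [← ClassTwo67.comm_pow_left hc]
    have h1 : a ^ p ∈ center U := hcen _ (hW1 a a.2) (a ^ p).2
    rw [commutatorElement_eq_one_iff_mul_comm]
    exact (Subgroup.mem_center_iff.1 h1 b).symm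
  -- the exponent e
  obtain ⟨e, he1, he2, he3⟩ : ∃ e : ℕ, (∀ x ∈ U, x ^ e ∈ W) ∧ (∀ a b : U, (a * b) ^ e = a ^ e * b ^ e) ∧
      (∀ u : G, u ^ e = 1 → u = 1 ∨ (orderOf u = p ∨ (p = 2 ∧ orderOf u = 4))) := by
    rcases eq_or_ne p 2 with hp2 | hp2
    · refine ⟨4, ?_, ?_, ?_⟩
      · intro x hx
        have := pow_mem (hW1 x hx) 2
        rw [← pow_mul, hp2] at this
        exact this
      · intro a b
        rw [ClassTwo67.mul_pow_formula hc]
        have h1 : ⁅b⁻¹, a⁻¹⁆ ^ (4 * (4 - 1) / 2) = 1 := by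
          have h2 : 4 * (4 - 1) / 2 = p * 3 := by rw [hp2]
          rw [h2, pow_mul, hcp, one_pow]
        rw [h1, mul_one]
      · intro u hu
        have h1 : orderOf u ∣ 2 ^ 2 := orderOf_dvd_of_pow_eq_one hu
        obtain ⟨j, hj, hj'⟩ := (Nat.dvd_prime_pow Nat.prime_two).1 h1
        interval_cases j
        · left; exact orderOf_eq_one_iff.1 hj'
        · right; left; rw [hj', hp2]; rfl
        · right; right; exact ⟨hp2, hj'⟩
    · refine ⟨p, hW1, ?_, ?_⟩
      · intro a b
        rw [ClassTwo67.mul_pow_formula hc]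
        have h1 : ⁅b⁻¹, a⁻¹⁆ ^ (p * (p - 1) / 2) = 1 := by
          have hodd : Odd p := hp.odd_of_ne_two hp2
          obtain ⟨m, hm⟩ := hodd
          have h2 : p * (p - 1) / 2 = p * m := by
            have : p - 1 = 2 * m := by omega
            rw [this]
            have : p * (2 * m) = p * m * 2 := by ring
            rw [this, Nat.mul_div_cancel _ (by norm_num)]
          rw [h2, pow_mul, hcp, one_pow]
        rw [h1, mul_one]
      · intro u hu
        rcases (Nat.dvd_prime hp).1 (orderOf_dvd_of_pow_eq_one hu) with h | h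
        · left; exact orderOf_eq_one_iff.1 h
        · right; left; exact h
  let K : Subgroup G :=
    { carrier := {x | x ∈ U ∧ x ^ e = 1}
      mul_mem' := by
        rintro a b ⟨ha, ha'⟩ ⟨hb, hb'⟩
        refine ⟨mul_mem ha hb, ?_⟩
        have := congrArg Subtype.val (he2 ⟨a, ha⟩ ⟨b, hb⟩)
        simp only [Subgroup.coe_pow, Subgroup.coe_mul] at this
        rw [this, ha', hb', one_mul]
      one_mem' := ⟨one_mem _, one_pow _⟩
      inv_mem' := by
        rintro a ⟨ha, ha'⟩
        refine ⟨inv_mem ha, ?_⟩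
        rw [inv_pow, ha', inv_one] }
  have hK : ⁅U, N⁆ ≤ K := by
    rw [commutator_le]
    intro u hu n hn
    have h1 : n * u⁻¹ * n⁻¹ ∈ U := (Subgroup.mem_normalizer_iff.1 (hNU hn) _).1 (inv_mem hu)
    have h2 : ⁅u, n⁆ = u * (n * u⁻¹ * n⁻¹) := by rw [commutatorElement_def]; group
    refine ⟨?_, ?_⟩
    · rw [h2]; exact mul_mem hu h1
    · rw [h2]
      have := congrArg Subtype.val (he2 ⟨u, hu⟩ ⟨_, h1⟩)
      simp only [Subgroup.coe_pow, Subgroup.coe_mul] at this
      rw [this, conj_pow]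
      have h3 : n * (u⁻¹) ^ e = (u⁻¹) ^ e * n := (Subgroup.mem_centralizer_iff.1 (hNW hn) _ (he1 _ (inv_mem hu))).symm
      rw [h3, inv_pow]
      group
  apply hcon
  apply le_centralizer_of_orbits N U hU hNU hgen
  intro u hu
  rw [← hUN] at hu
  obtain ⟨huU, hue⟩ := hK hu
  rcases he3 u hue with rfl | h
  · refine ⟨0, ?_⟩
    rw [pow_zero, Subgroup.relIndex_eq_one]
    intro g _
    rw [mem_centralizer_singleton_iff]; simp
  · exact hind u huU h

end Cfsg.Agent.Lib.OmegaCent
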