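import Cfsg.Agent.Lib.H72Orbit2
import Cfsg.Agent.Lib.CoprimeAction2
import Cfsg.Agent.Lib.Cores
import Cfsg.Agent.Lib.OmegaCent
import Cfsg.Agent.S0205

/-!
# Perfect coprime groups of operators with orbits of `2`-power size act trivially
-/

set_option autoImplicit false

namespace Cfsg.Agent.Lib.H72BaerSolv

open Subgroup Cfsg.Agent.Lib

universe u

theorem ambient {X : Type u} [Group X] [Finite X] {q : ℕ} [hqf : Fact q.Prime] (hq2 : q ≠ 2) {V D : Subgroup X}
    (hVc : IsMulCommutative V)
    (hVq : IsPGroup q V) (hDV : D ≤ normalizer (V : Set X)) (hD : ⁅D, D⁆ = D) (hcop : ¬ q ∣ Nat.card D)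
    (horb : ∀ v ∈ V, ∃ a : ℕ, (centralizer ({v} : Set X)).relIndex D = 2 ^ a) : D ≤ centralizer (V : Set X) := by
  classical
  have hcomm : ∀ a ∈ V, ∀ b ∈ V, a * b = b * a := fun a ha b hb =>
    isMulCommutative_iff_of_setLike.mp hVc a ha b hb
  have hcopV : (Nat.card D).Coprime (Nat.card V) := by
    obtain ⟨n, hn⟩ := IsPGroup.iff_card.1 hVq
    rw [hn]
    exact Nat.Coprime.pow_right _ (Nat.Coprime.symm ((Nat.Prime.coprime_iff_not_dvd hqf.out).2 hcop))
  rw [← commutator_eq_bot_iff_le_centralizer, commutator_comm]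
  by_contra hne
  set U := ⁅V, D⁆ with hU
  have hUV : U ≤ V := le_normalizer_iff_commutator_le_left.mp hDV
  obtain ⟨W, ⟨hWU, hW1, hDW⟩, hWmin⟩ : ∃ W : Subgroup X, (W ≤ U ∧ W ≠ ⊥ ∧ D ≤ normalizer (W : Set X)) ∧
      ∀ B : Subgroup X, (B ≤ U ∧ B ≠ ⊥ ∧ D ≤ normalizer (B : Set X)) → B ≤ W → B = W := by
    have hfin : (Set.Finite {W : Subgroup X | W ≤ U ∧ W ≠ ⊥ ∧ D ≤ normalizer (W : Set X)}) := Set.toFinite _
    obtain ⟨A, hA⟩ := hfin.exists_minimal ⟨U, le_rfl, hne, normalizer_commutator_ge_right V D⟩
    exact ⟨A, hA.1, fun B hB hle => le_antisymm hle (hA.2 hB hle)⟩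
  have hWV := hWU.trans hUV
  have hDWm : ∀ d ∈ D, ∀ w ∈ W, d * w * d⁻¹ ∈ W := fun d hd w hw => le_normalizer_iff.mp hDW d hd w hw
  -- exponent `q`
  have hexp : ∀ w ∈ W, w ^ q = 1 := by
    let W1 : Subgroup X :=
      { carrier := {a | a ∈ W ∧ a ^ q = 1}
        one_mem' := ⟨one_mem _, one_pow _⟩
        mul_mem' := by
          rintro a b ⟨ha, ha2⟩ ⟨hb, hb2⟩
          refine ⟨mul_mem ha hb, ?_⟩
          have : Commute a b := hcomm a (hWV ha) b (hWV hb)
          rw [this.mul_pow, ha2, hb2, one_mul]
        inv_mem' := by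
          rintro a ⟨ha, ha2⟩
          exact ⟨inv_mem ha, by rw [inv_pow, ha2, inv_one]⟩ }
    have h1 : W1 = W := by
      apply hWmin
      · refine ⟨fun x hx => hWU hx.1, ?_, ?_⟩
        · intro h0
          have hWq : IsPGroup q W := hVq.to_le hWV
          have hWn : Nontrivial W := by rwa [Subgroup.nontrivial_iff_ne_bot]
          have h3 : q ∣ Nat.card W := by
            obtain ⟨n, hn, hc⟩ := hWq.nontrivial_iff_card.1 hWn
            rw [hc]
            exact dvd_pow_self q hn.ne'
          obtain ⟨y, hy⟩ := exists_prime_orderOf_dvd_card' q h3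
          have h4 : (y : X) ∈ W1 := by
            refine ⟨y.2, ?_⟩
            have : y ^ q = 1 := by rw [← hy]; exact pow_orderOf_eq_one y
            exact congrArg Subtype.val this
          rw [h0, mem_bot] at h4
          have h5 : y = 1 := Subtype.ext h4
          rw [h5, orderOf_one] at hy
          exact hqf.out.one_lt.ne hy
        · rw [le_normalizer_iff]
          rintro d hd w ⟨hw, hwq⟩
          refine ⟨hDWm d hd w hw, ?_⟩
          rw [conj_pow, hwq, mul_one, mul_inv_cancel]
      · exact fun x hx => hx.1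
    intro w hw
    rw [← h1] at hw
    exact hw.2
  let cg : CommGroup W := { (inferInstance : Group W) with
    mul_comm := fun a b => Subtype.ext (hcomm a (hWV a.2) b (hWV b.2)) }
  let φ : D →* MulAut W :=
    { toFun := fun d =>
        { toFun := fun w => ⟨d * w * (d : X)⁻¹, hDWm d d.2 w w.2⟩
          invFun := fun w => ⟨(d : X)⁻¹ * w * d, by
            have := hDWm (d : X)⁻¹ (inv_mem d.2) w w.2
            rwa [inv_inv] at this⟩
          left_inv := fun w => Subtype.ext (by
            change (d : X)⁻¹ * (d * w * (d : X)⁻¹) * d = w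
            group)
          right_inv := fun w => Subtype.ext (by
            change (d : X) * ((d : X)⁻¹ * w * d) * (d : X)⁻¹ = w
            group)
          map_mul' := fun a b => Subtype.ext (by
            change (d : X) * (a * b) * (d : X)⁻¹ = d * a * (d : X)⁻¹ * (d * b * (d : X)⁻¹)
            group) }
      map_one' := by
        ext w
        change (1 : X) * w * (1 : X)⁻¹ = w
        group
      map_mul' := fun a b => by
        ext w
        change (a * b : X) * w * (a * b : X)⁻¹ = a * (b * w * (b : X)⁻¹) * (a : X)⁻¹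
        group }
  have hφ : ∀ (d : D) (w : W), ((φ d w : W) : X) = d * w * (d : X)⁻¹ := fun d w => rfl
  let act : DistribMulAction φ.range (Additive W) :=
    { smul := fun f v => Additive.ofMul ((f : MulAut W) (Additive.toMul v))
      one_smul := fun v => rfl
      mul_smul := fun f g v => rfl
      smul_zero := fun f => by
        change Additive.ofMul ((f : MulAut W) 1) = _
        rw [map_one]; rfl
      smul_add := fun f a b => by
        change Additive.ofMul ((f : MulAut W) (Additive.toMul a * Additive.toMul b)) = _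
        rw [map_mul]; rfl }
  have hact : ∀ (f : φ.range) (v : Additive W), f • v = Additive.ofMul ((f : MulAut W) (Additive.toMul v)) := fun f v => rfl
  have hfin : Finite (Additive W) := inferInstanceAs (Finite W)
  have hyp : H72Orbit2.Hyp q φ.range (Additive W) := by
    refine ⟨hqf.out, hq2, ?_, ?_, ?_, ?_, ?_, ?_⟩
    · intro v
      apply Additive.toMul.injective
      rw [toMul_nsmul, toMul_zero]
      exact Subtype.ext (hexp _ (Additive.toMul v).2)
    · intro h1
      exact hcop (h1.trans (Subgroup.card_range_dvd φ))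
    · intro v
      obtain ⟨a, ha⟩ := horb (Additive.toMul v : W) (hWV (Additive.toMul v).2)
      refine ⟨a, ?_⟩
      rw [← ha, Subgroup.relIndex, ← index_comap_of_surjective (f := φ.rangeRestrict) _ φ.rangeRestrict_surjective]
      congr 1
      ext d
      rw [mem_comap, MulAction.mem_stabilizer_iff, mem_subgroupOf, H72Baer.mem_cent, hact]
      constructor
      · intro h1
        have h2 := congrArg (fun t => ((Additive.toMul t : W) : X)) h1
        exact h2
      · intro h1
        apply Additive.toMul.injective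
        exact Subtype.ext h1
    · intro S hS
      by_cases h1 : (AddSubgroup.toSubgroup' S).map W.subtype = ⊥
      · left
        rw [eq_bot_iff]
        intro v hv
        rw [AddSubgroup.mem_bot]
        apply Additive.toMul.injective
        apply Subtype.ext
        have h2 : ((Additive.toMul v : W) : X) ∈ (AddSubgroup.toSubgroup' S).map W.subtype := ⟨Additive.toMul v, hv, rfl⟩
        rw [h1, mem_bot] at h2
        exact h2
      · right
        have h2 : (AddSubgroup.toSubgroup' S).map W.subtype = W := by
          apply hWmin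
          · refine ⟨(map_subtype_le _).trans hWU, h1, ?_⟩
            rw [le_normalizer_iff]
            rintro d hd _ ⟨w, hw, rfl⟩
            refine ⟨φ ⟨d, hd⟩ w, ?_, rfl⟩
            exact hS ⟨φ ⟨d, hd⟩, ⟨_, rfl⟩⟩ (Additive.ofMul w) hw
          · exact map_subtype_le _
        rw [eq_top_iff]
        intro v _
        have h3 : ((Additive.toMul v : W) : X) ∈ (AddSubgroup.toSubgroup' S).map W.subtype := by
          rw [h2]; exact (Additive.toMul v).2
        obtain ⟨w, hw, hwv⟩ := h3
        have h4 : w = Additive.toMul v := Subtype.ext hwv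
        rw [h4] at hw
        exact hw
    · rintro ⟨f, hf⟩ h1
      apply Subtype.ext
      apply MulEquiv.ext
      intro w
      have h2 := h1 (Additive.ofMul w)
      exact congrArg Additive.toMul h2
    · have h1 : commutator D = ⊤ := by
        have h2 : (commutator D).map D.subtype = D := by
          rw [_root_.commutator_def, map_commutator, ← MonoidHom.range_eq_map, range_subtype, hD]
        rw [eq_top_iff]
        intro d _
        have h3 : (d : X) ∈ (commutator D).map D.subtype := by rw [h2]; exact d.2
        obtain ⟨e, he, hed⟩ := h3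
        rwa [← Subtype.ext hed]
      have h2 : (commutator D).map φ.rangeRestrict = commutator φ.range := by
        rw [_root_.commutator_def, _root_.commutator_def, map_commutator, map_top_of_surjective _ φ.rangeRestrict_surjective]
      rw [← h2, h1, map_top_of_surjective _ φ.rangeRestrict_surjective]
  have hone := hyp.eq_one
  have hWc : W ≤ centralizer (D : Set X) := by
    intro w hw
    rw [mem_centralizer_iff]
    intro d hd
    have h1 := hone ⟨φ ⟨d, hd⟩, ⟨_, rfl⟩⟩
    have h2 : φ ⟨d, hd⟩ = 1 := congrArg Subtype.val h1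
    have h3 : d * w * d⁻¹ = w := by
      have h4 := hφ ⟨d, hd⟩ ⟨w, hw⟩
      rw [h2] at h4
      exact h4.symm
    calc d * w = d * w * d⁻¹ * d := by group
      _ = w * d := by rw [h3]
  apply hW1
  rw [eq_bot_iff, ← CoprimeAction2.inf_commutator_eq_bot_of_abelian hDV hcopV]
  exact le_inf (le_inf hWV hWc) hWU

/-- a perfect nonsolvable normal subgroup. -/
theorem exists_perfect {X : Type u} [Group X] [Finite X] (h : ¬ Group.IsSolvable X) :
    ∃ D : Subgroup X, D.Normal ∧ ⁅D, D⁆ = D ∧ ¬ Group.IsSolvable D := by
  obtain ⟨D, ⟨hDn, hDs⟩, hmin⟩ : ∃ D : Subgroup X, (D.Normal ∧ ¬ Group.IsSolvable D) ∧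
      ∀ B : Subgroup X, (B.Normal ∧ ¬ Group.IsSolvable B) → B ≤ D → B = D := by
    have hfin : (Set.Finite {W : Subgroup X | W.Normal ∧ ¬ Group.IsSolvable W}) := Set.toFinite _
    obtain ⟨A, hA⟩ := hfin.exists_minimal ⟨⊤, inferInstance, fun hs => h (by
      have := hs
      exact Group.isSolvable_of_surjective (f := (Subgroup.topEquiv : (⊤ : Subgroup X) ≃* X).toMonoidHom)
        (Subgroup.topEquiv : (⊤ : Subgroup X) ≃* X).surjective)⟩
    exact ⟨A, hA.1, fun B hB hle => le_antisymm hle (hA.2 hB hle)⟩
  refine ⟨D, hDn, ?_, hDs⟩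
  have := hDn
  apply hmin _ _ (Subgroup.commutator_le_left D D)
  refine ⟨inferInstance, fun hs => hDs ?_⟩
  have h1 : (commutator D).map D.subtype = ⁅D, D⁆ := by
    rw [_root_.commutator_def, map_commutator, ← MonoidHom.range_eq_map, range_subtype]
  have h2 : Group.IsSolvable (commutator D) := by
    let e := (commutator D).equivMapOfInjective D.subtype D.subtype_injective
    rw [h1] at e
    have := hs
    exact Group.isSolvable_of_surjective (f := e.symm.toMonoidHom) e.symm.surjective
  have h3 : Group.IsSolvable (D ⧸ commutator D) :=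
    Group.isSolvable_of_comm (fun a b => (inferInstance : CommGroup (Abelianization D)).mul_comm a b)
  exact Group.isSolvable_of_ker_le_range (commutator D).subtype (QuotientGroup.mk' (commutator D)) (by
    rw [QuotientGroup.ker_mk', range_subtype])

theorem solv {X : Type u} [Group X] [Finite X] {p q : ℕ} [hq : Fact q.Prime] [hp : Fact p.Prime] {V : Subgroup X}
    (hVn : V.Normal) (hVc : IsMulCommutative V) (hVq : IsPGroup q V) (hVi : ¬ q ∣ V.index)
    (hself : centralizer (V : Set X) ≤ V)
    (hcl : ∀ v ∈ V, ∃ a : ℕ, (centralizer ({v} : Set X)).index = p ^ a) : Group.IsSolvable X := by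
  classical
  have hVs : Group.IsSolvable V := Group.isSolvable_of_comm fun a b => (isMulCommutative_iff.mp hVc) a b
  by_cases hq2 : q = 2
  · subst hq2
    have h1 : Group.IsSolvable (X ⧸ V) := by
      apply S0205.result
      rw [← index_eq_card]
      rw [← Nat.not_even_iff_odd, even_iff_two_dvd]
      exact hVi
    exact Group.isSolvable_of_ker_le_range V.subtype (QuotientGroup.mk' V) (by
      rw [QuotientGroup.ker_mk', range_subtype])
  have hVodd : ∀ v ∈ V, v * v = 1 → v = 1 := by
    intro v hv h2
    obtain ⟨k, hk⟩ := hVq ⟨v, hv⟩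
    have h1 : v ^ q ^ k = 1 := congrArg Subtype.val hk
    have h3 : orderOf v ∣ 2 := orderOf_dvd_of_pow_eq_one (by rw [pow_two]; exact h2)
    have h4 := orderOf_dvd_of_pow_eq_one h1
    have h5 : Nat.Coprime 2 (q ^ k) := Nat.Coprime.pow_right _ ((Nat.coprime_primes Nat.prime_two hq.out).2 (Ne.symm hq2))
    have h6 := Nat.dvd_gcd h3 h4
    rw [h5.gcd_eq_one, Nat.dvd_one, orderOf_eq_one_iff] at h6
    exact h6
  by_cases hp2 : p = 2
  swap
  · -- `X` has odd order
    apply S0205.result
    rw [← Nat.not_even_iff_odd, even_iff_two_dvd]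
    intro h2
    have hf2 : Fact (Nat.Prime 2) := ⟨Nat.prime_two⟩
    obtain ⟨t, ht⟩ := exists_prime_orderOf_dvd_card' 2 h2
    have ht2 : t * t = 1 := by rw [← pow_two, ← ht]; exact pow_orderOf_eq_one t
    have ht1 : t ≠ 1 := by
      rintro rfl
      rw [orderOf_one] at ht
      norm_num at ht
    have htV : t ∉ V := fun h => ht1 (hVodd t h ht2)
    obtain ⟨v, hv, hvt⟩ : ∃ v ∈ V, t * v * t⁻¹ ≠ v := by
      by_contra hcon
      push Not at hcon
      apply htV
      apply hself
      rw [mem_centralizer_iff]
      intro v hv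
      have := hcon v hv
      calc v * t = (t * v * t⁻¹) * t := by rw [this]
        _ = t * v := by group
    set w := v⁻¹ * (t * v * t⁻¹) with hw
    have hwV : w ∈ V := mul_mem (inv_mem hv) (hVn.conj_mem v hv t)
    have hw1 : w ≠ 1 := by
      intro h
      rw [hw, inv_mul_eq_one] at h
      exact hvt h.symm
    have htw : t * w * t⁻¹ = w⁻¹ := by
      have ht' : t⁻¹ = t := by rw [inv_eq_iff_mul_eq_one]; exact ht2
      rw [hw]
      calc t * (v⁻¹ * (t * v * t⁻¹)) * t⁻¹ = (t * v * t⁻¹)⁻¹ * (t * t) * v * (t * t)⁻¹ := by group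
        _ = (v⁻¹ * (t * v * t⁻¹))⁻¹ := by rw [ht2]; group
    obtain ⟨a, ha⟩ := hcl w hwV
    -- the class of w is closed under inversion
    let C := {y : X // ∃ g : X, g * w * g⁻¹ = y}
    have hC : Nat.card C = p ^ a := by
      rw [← ha, ← H72Baer.card_class w]
      rfl
    let f : C → C := fun y => ⟨(y : X)⁻¹, by
      obtain ⟨g, hg⟩ := y.2
      refine ⟨g * t, ?_⟩
      rw [← hg]
      calc g * t * w * (g * t)⁻¹ = g * (t * w * t⁻¹) * g⁻¹ := by group
        _ = (g * w * g⁻¹)⁻¹ := by rw [htw]; group⟩
    have hf : Function.Involutive f := fun y => Subtype.ext (inv_inv _)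
    have hfne : ∀ y, f y ≠ y := by
      intro y hy
      obtain ⟨g, hg⟩ := y.2
      have h3 : (y : X)⁻¹ = y := congrArg Subtype.val hy
      have h4 : (y : X) * y = 1 := by
        nth_rw 1 [← h3]
        exact inv_mul_cancel _
      apply hw1
      apply hVodd w hwV
      rw [← hg] at h4
      calc w * w = g⁻¹ * (g * w * g⁻¹ * (g * w * g⁻¹)) * g := by group
        _ = 1 := by rw [h4]; group
    have hfin : Finite C := inferInstance
    have hft := Fintype.ofFinite C
    have heven : 2 ∣ Nat.card C := by
      have h5 := Equiv.Perm.two_dvd_card_support (σ := hf.toPerm f) (by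
        ext y
        simp [pow_two, hf y])
      have h6 : (hf.toPerm f).support = Finset.univ := by
        ext y
        simp [hfne y]
      rw [h6, Finset.card_univ, ← Nat.card_eq_fintype_card] at h5
      exact h5
    rw [hC] at heven
    have := (Nat.prime_dvd_prime_iff_eq Nat.prime_two hp.out).1 (Nat.prime_two.dvd_of_dvd_pow heven)
    exact hp2 this.symm
  · subst hp2
    by_contra hns
    obtain ⟨D, hDn, hDp, hDs⟩ := exists_perfect hns
    -- Schur-Zassenhaus in `D`
    have hNn : (V.subgroupOf D).Normal := inferInstance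
    have hNq : IsPGroup q (V.subgroupOf D) := hVq.comap_of_injective D.subtype D.subtype_injective
    have hNi : ¬ q ∣ (V.subgroupOf D).index := fun h => hVi (h.trans (OmegaCent.relIndex_dvd_index_normal V D))
    have hcop : Nat.Coprime (Nat.card (V.subgroupOf D)) (V.subgroupOf D).index := by
      obtain ⟨n, hn⟩ := IsPGroup.iff_card.1 hNq
      rw [hn]
      exact Nat.Coprime.pow_left _ ((Nat.Prime.coprime_iff_not_dvd hq.out).2 hNi)
    obtain ⟨E, hE⟩ := exists_left_complement'_of_coprime hcop
    let f : D →* E := hE.QuotientMulEquiv.toMonoidHom.comp (QuotientGroup.mk' (V.subgroupOf D))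
    have hfs : Function.Surjective f := hE.QuotientMulEquiv.surjective.comp (QuotientGroup.mk'_surjective _)
    have hf : ∀ d : D, (f d : D)⁻¹ * d ∈ V.subgroupOf D := by
      intro d
      rw [← QuotientGroup.eq]
      have h1 := hE.QuotientMulEquiv.symm_apply_apply (QuotientGroup.mk d)
      exact h1
    have hDc : commutator D = ⊤ := by
      have h2 : (commutator D).map D.subtype = D := by
        rw [_root_.commutator_def, map_commutator, ← MonoidHom.range_eq_map, range_subtype, hDp]
      rw [eq_top_iff]
      intro d _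
      have h3 : (d : X) ∈ (commutator D).map D.subtype := by rw [h2]; exact d.2
      obtain ⟨e, he, hed⟩ := h3
      rwa [← Subtype.ext hed]
    have hEc : commutator E = ⊤ := by
      have h2 : (commutator D).map f = commutator E := by
        rw [_root_.commutator_def, _root_.commutator_def, map_commutator, map_top_of_surjective _ hfs]
      rw [← h2, hDc, map_top_of_surjective _ hfs]
    set E' : Subgroup X := E.map D.subtype with hE'
    have hE'p : ⁅E', E'⁆ = E' := by
      have h1 : E' = (⊤ : Subgroup E).map (D.subtype.comp E.subtype) := by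
        rw [← Subgroup.map_map, ← MonoidHom.range_eq_map, range_subtype]
      have h2 : (commutator E).map (D.subtype.comp E.subtype) = ⁅E', E'⁆ := by
        rw [_root_.commutator_def, map_commutator, ← h1]
      rw [← h2, hEc, ← h1]
    have hE'D : E' ≤ D := map_subtype_le _
    have hE'q : ¬ q ∣ Nat.card E' := by
      rw [hE', Subgroup.card_map_of_injective D.subtype_injective]
      have h1 := hE.index_eq_card
      rw [← h1]
      exact hNi
    have hcent := ambient (q := q) hq2 hVc hVq (D := E') (by rw [normalizer_eq_top]; exact le_top) hE'p hE'q (by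
      intro v hv
      obtain ⟨a, ha⟩ := hcl v hv
      have h1 := OmegaCent.relIndex_dvd_index_normal (centralizer ({v} : Set X)) D
      rw [ha] at h1
      obtain ⟨b, -, hb⟩ := (Nat.dvd_prime_pow Nat.prime_two).1 h1
      refine ⟨b, ?_⟩
      rw [← hb]
      have h2 : (centralizer ({v} : Set X)).relIndex E' = (((centralizer ({v} : Set X)).subgroupOf D).subgroupOf E).index := by
        have h3 := Subgroup.relIndex_comap (centralizer ({v} : Set X)) D.subtype E
        rw [hE', ← h3]
        rfl
      rw [h2, Subgroup.relIndex, ← index_comap_of_surjective (f := f) _ hfs]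
      congr 1
      ext d
      rw [mem_comap, mem_subgroupOf, mem_subgroupOf, mem_subgroupOf, H72Baer.mem_cent, H72Baer.mem_cent]
      have h4 := hf d
      rw [mem_subgroupOf] at h4
      have h5 : (((f d : D)⁻¹ * d : D) : X) * v = v * (((f d : D)⁻¹ * d : D) : X) :=
        isMulCommutative_iff_of_setLike.mp hVc _ h4 v hv
      set n : X := (((f d : D)⁻¹ * d : D) : X) with hn
      have h6 : (d : X) = ((f d : D) : X) * n := by
        rw [hn]; push_cast; group
      rw [h6]
      have h7 : ((f d : D) : X) * n * v * (((f d : D) : X) * n)⁻¹ = ((f d : D) : X) * v * ((f d : D) : X)⁻¹ := by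
        calc ((f d : D) : X) * n * v * (((f d : D) : X) * n)⁻¹ = ((f d : D) : X) * (n * v) * n⁻¹ * ((f d : D) : X)⁻¹ := by group
          _ = _ := by rw [h5]; group
      rw [h7])
    have hE'V : E' ≤ V := hcent.trans hself
    have hDV : D ≤ V := by
      intro d hd
      have h4 := hf ⟨d, hd⟩
      rw [mem_subgroupOf] at h4
      have h5 : ((f ⟨d, hd⟩ : D) : X) ∈ V := hE'V ⟨_, (f ⟨d, hd⟩).2, rfl⟩
      have h6 : d = ((f ⟨d, hd⟩ : D) : X) * ((((f ⟨d, hd⟩ : D)⁻¹ * ⟨d, hd⟩ : D)) : X) := by
        push_cast; group
      rw [h6]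
      exact mul_mem h5 h4
    apply hDs
    exact Group.isSolvable_of_comm fun a b => Subtype.ext (isMulCommutative_iff_of_setLike.mp hVc _ (hDV a.2) _ (hDV b.2))

end Cfsg.Agent.Lib.H72BaerSolv
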