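import Mathlib
import Cfsg.Agent.Lib.H15S0

set_option autoImplicit false
set_option linter.unusedSectionVars false
set_option linter.unusedVariables false

/-! S2220: the amalgam lemma (helper72). -/

namespace Cfsg.Agent.Lib.H72Gam

open Subgroup Cfsg.Agent.Lib.H15S

variable {G : Type*} [Group G] [Finite G]

/-- a side with a chosen element of order 3 -/
structure Sd (S H U : Subgroup G) (k : G) : Prop where
  US : U ≤ S
  SH : S ≤ H
  nor : ∀ g ∈ H, ∀ u ∈ U, g * u * g⁻¹ ∈ U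
  kH : k ∈ H
  k3 : k * k * k = 1
  fpf : ∀ u ∈ U, k * u = u * k → u = 1
  cos : ∀ h ∈ H, ∃ s ∈ S, h = s ∨ h = k * s ∨ h = k⁻¹ * s
  two : ∀ b ∈ S, b ∉ U → ∀ s ∈ S, s ∈ U ∨ s * b⁻¹ ∈ U
  nk : ∃ s ∈ S, k * s * k⁻¹ ∉ S
  cS : Nat.card S = 2 * Nat.card U

theorem exists_Sd {S H U : Subgroup G} (hS : IsPGroup 2 S) (h : Side S H U) : ∃ k, Sd S H U k := by
  obtain ⟨k, hkH, hk3, hfp⟩ := h.k
  have hk3' : k * k * k = 1 := by
    have := pow_orderOf_eq_one k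
    rw [hk3, pow_succ, pow_two] at this
    exact this
  have hkS : k ∉ S := by
    intro hkS
    obtain ⟨n, hn⟩ := hS ⟨k, hkS⟩
    have h1 : k ^ 2 ^ n = 1 := by simpa using congrArg Subtype.val hn
    have h2 := orderOf_dvd_of_pow_eq_one h1
    rw [hk3] at h2
    have h4 := Nat.Prime.dvd_of_dvd_pow Nat.prime_three h2
    omega
  have hkS' : k⁻¹ ∉ S := fun h1 => hkS (by simpa using S.inv_mem h1)
  have hU0 : 0 < Nat.card U := Nat.card_pos
  have hcos : ∀ h ∈ H, ∃ s ∈ S, h = s ∨ h = k * s ∨ h = k⁻¹ * s := by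
    have hidx : (S.subgroupOf H).index = 3 := by
      have h1 := (S.subgroupOf H).card_mul_index
      have h2 : Nat.card (S.subgroupOf H) = Nat.card S := Nat.card_congr (Subgroup.subgroupOfEquivOfLe h.SH).toEquiv
      rw [h2, h.cS, h.cH] at h1
      have h3 : 2 * Nat.card U * (S.subgroupOf H).index = 2 * Nat.card U * 3 := by rw [h1]; ring
      exact Nat.eq_of_mul_eq_mul_left (by omega) h3
    have hQ : Nat.card (H ⧸ S.subgroupOf H) = 3 := hidx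
    classical
    haveI := Fintype.ofFinite (H ⧸ S.subgroupOf H)
    rw [Nat.card_eq_fintype_card] at hQ
    intro g hg
    let q : H → H ⧸ S.subgroupOf H := fun x => QuotientGroup.mk x
    have hne1 : q 1 ≠ q ⟨k, hkH⟩ := by
      intro h1
      have h2 := QuotientGroup.eq.1 h1
      rw [mem_subgroupOf] at h2
      apply hkS
      simpa using h2
    have hne2 : q 1 ≠ q ⟨k⁻¹, H.inv_mem hkH⟩ := by
      intro h1
      have h2 := QuotientGroup.eq.1 h1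
      rw [mem_subgroupOf] at h2
      apply hkS'
      simpa using h2
    have hne3 : q ⟨k, hkH⟩ ≠ q ⟨k⁻¹, H.inv_mem hkH⟩ := by
      intro h1
      have h2 := QuotientGroup.eq.1 h1
      rw [mem_subgroupOf] at h2
      apply hkS
      have h3 : k = k⁻¹ * k⁻¹ := by
        calc k = (k * k * k) * (k⁻¹ * k⁻¹) := by group
          _ = k⁻¹ * k⁻¹ := by rw [hk3', one_mul]
      rw [h3]
      exact h2
    have hfin : ({q 1, q ⟨k, hkH⟩, q ⟨k⁻¹, H.inv_mem hkH⟩} : Finset (H ⧸ S.subgroupOf H)) = Finset.univ := by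
      apply Finset.eq_univ_of_card
      rw [hQ, Finset.card_insert_of_notMem, Finset.card_insert_of_notMem, Finset.card_singleton]
      · simpa using hne3
      · simp only [Finset.mem_insert, Finset.mem_singleton, not_or]
        exact ⟨hne1, hne2⟩
    have hmem : q ⟨g, hg⟩ ∈ ({q 1, q ⟨k, hkH⟩, q ⟨k⁻¹, H.inv_mem hkH⟩} : Finset (H ⧸ S.subgroupOf H)) := by
      rw [hfin]; exact Finset.mem_univ _
    simp only [Finset.mem_insert, Finset.mem_singleton] at hmem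
    rcases hmem with h1 | h1 | h1
    · have h2 := QuotientGroup.eq.1 h1.symm
      rw [mem_subgroupOf] at h2
      exact ⟨g, by simpa using h2, Or.inl rfl⟩
    · have h2 := QuotientGroup.eq.1 h1.symm
      rw [mem_subgroupOf] at h2
      exact ⟨k⁻¹ * g, h2, Or.inr (Or.inl (by group))⟩
    · have h2 := QuotientGroup.eq.1 h1.symm
      rw [mem_subgroupOf] at h2
      refine ⟨k * g, ?_, Or.inr (Or.inr (by group))⟩
      have h3 : ((⟨k⁻¹, H.inv_mem hkH⟩ : H)⁻¹ * ⟨g, hg⟩ : H) = ⟨k * g, H.mul_mem hkH hg⟩ := by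
        apply Subtype.ext; show (k⁻¹)⁻¹ * g = k * g; rw [inv_inv]
      rw [h3] at h2
      exact h2
  have hidx2 : (U.subgroupOf S).index = 2 := by
    have h1 := (U.subgroupOf S).card_mul_index
    have h2 : Nat.card (U.subgroupOf S) = Nat.card U := Nat.card_congr (Subgroup.subgroupOfEquivOfLe h.US).toEquiv
    rw [h2, h.cS] at h1
    have h3 : Nat.card U * (U.subgroupOf S).index = Nat.card U * 2 := by rw [h1]; ring
    exact Nat.eq_of_mul_eq_mul_left hU0 h3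
  refine ⟨k, h.US, h.SH, h.nor, hkH, hk3', fun u hu h1 => hfp u hu h1.symm, hcos, ?_, ?_, h.cS⟩
  · intro b hb hbU s hs
    by_cases hsU : s ∈ U
    · exact Or.inl hsU
    · right
      have h1 := Subgroup.mul_mem_iff_of_index_two hidx2 (a := ⟨s, hs⟩) (b := (⟨b, hb⟩ : S)⁻¹)
      have h2 : (⟨s, hs⟩ : S) * (⟨b, hb⟩ : S)⁻¹ ∈ U.subgroupOf S := by
        rw [h1, inv_mem_iff, mem_subgroupOf, mem_subgroupOf]
        exact iff_of_false hsU hbU
      exact h2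
  · by_contra hcon
    push Not at hcon
    obtain ⟨g, hg, s, hs, hgs⟩ := h.nS
    have hcon2 : ∀ s ∈ S, k⁻¹ * s * k ∈ S := by
      intro s hs
      have h1 := hcon _ (hcon s hs)
      have h2 : k * (k * s * k⁻¹) * k⁻¹ = k⁻¹ * s * k := by
        have h3 : k * k = k⁻¹ := by
          calc k * k = k * k * k * k⁻¹ := by group
            _ = k⁻¹ := by rw [hk3', one_mul]
        have h4 : k⁻¹ * k⁻¹ = k := by rw [← mul_inv_rev, h3, inv_inv]
        calc k * (k * s * k⁻¹) * k⁻¹ = (k * k) * s * (k⁻¹ * k⁻¹) := by group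
          _ = _ := by rw [h3, h4]
      rw [h2] at h1
      exact h1
    apply hgs
    obtain ⟨t, ht, h1⟩ := hcos g hg
    have hts : t * s * t⁻¹ ∈ S := S.mul_mem (S.mul_mem ht hs) (S.inv_mem ht)
    rcases h1 with rfl | rfl | rfl
    · exact hts
    · have := hcon _ hts
      have e : k * (t * s * t⁻¹) * k⁻¹ = k * t * s * (k * t)⁻¹ := by group
      rwa [e] at this
    · have := hcon2 _ hts
      have e : k⁻¹ * (t * s * t⁻¹) * k = k⁻¹ * t * s * (k⁻¹ * t)⁻¹ := by group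
      rwa [e] at this

namespace Sd
variable {S H U : Subgroup G} {k : G} (sd : Sd S H U k)
include sd

theorem c_mem {u : G} (hu : u ∈ U) : k * u * k⁻¹ ∈ U := sd.nor k sd.kH u hu

theorem c_mem' {u : G} (hu : u ∈ U) : k⁻¹ * u * k ∈ U := by
  have := sd.nor k⁻¹ (H.inv_mem sd.kH) u hu
  rwa [inv_inv] at this

theorem ccc (x : G) : k * (k * (k * x * k⁻¹) * k⁻¹) * k⁻¹ = x := by
  calc k * (k * (k * x * k⁻¹) * k⁻¹) * k⁻¹ = (k * k * k) * x * (k * k * k)⁻¹ := by group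
    _ = x := by rw [sd.k3]; group

/-- the product relation -/
theorem rel {u : G} (hu : u ∈ U) : u * (k * u * k⁻¹) * (k * (k * u * k⁻¹) * k⁻¹) = 1 := by
  have hinj : Function.Injective (fun x : U => (⟨(x : G)⁻¹ * (k * x * k⁻¹), U.mul_mem (U.inv_mem x.2) (sd.c_mem x.2)⟩ : U)) := by
    intro x y hxy
    have h1 : (x : G)⁻¹ * (k * x * k⁻¹) = (y : G)⁻¹ * (k * y * k⁻¹) := congrArg Subtype.val hxy
    have h2 : (y : G) * (x : G)⁻¹ = 1 := by
      apply sd.fpf _ (U.mul_mem y.2 (U.inv_mem x.2))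
      calc k * ((y : G) * (x : G)⁻¹) = (y : G) * ((y : G)⁻¹ * (k * y * k⁻¹)) * (k * (x : G)⁻¹ * k⁻¹) * k := by group
        _ = (y : G) * ((x : G)⁻¹ * (k * x * k⁻¹)) * (k * (x : G)⁻¹ * k⁻¹) * k := by rw [← h1]
        _ = (y : G) * (x : G)⁻¹ * k := by group
    apply Subtype.ext
    exact (mul_inv_eq_one.1 h2).symm
  have hsurj := Finite.surjective_of_injective hinj
  obtain ⟨⟨x, hx⟩, hxu⟩ := hsurj ⟨u, hu⟩
  have h1 : x⁻¹ * (k * x * k⁻¹) = u := congrArg Subtype.val hxu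
  rw [← h1]
  have h2 := sd.ccc x
  calc x⁻¹ * (k * x * k⁻¹) * (k * (x⁻¹ * (k * x * k⁻¹)) * k⁻¹) * (k * (k * (x⁻¹ * (k * x * k⁻¹)) * k⁻¹) * k⁻¹)
      = x⁻¹ * (k * (k * (k * x * k⁻¹) * k⁻¹) * k⁻¹) := by group
    _ = 1 := by rw [h2]; group

/-- commuting elements: the conjugates commute -/
theorem comm_c {a b : G} (ha : a ∈ U) (hb : b ∈ U) (hab : a * b = b * a) :
    b * (k * a * k⁻¹) = (k * a * k⁻¹) * b := by
  obtain ⟨a', ha'⟩ : ∃ a', a' = k * a * k⁻¹ := ⟨_, rfl⟩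
  obtain ⟨b', hb'⟩ : ∃ b', b' = k * b * k⁻¹ := ⟨_, rfl⟩
  obtain ⟨a'', ha''⟩ : ∃ a'', a'' = k * a' * k⁻¹ := ⟨_, rfl⟩
  obtain ⟨b'', hb''⟩ : ∃ b'', b'' = k * b' * k⁻¹ := ⟨_, rfl⟩
  have r1 : a * a' * a'' = 1 := by rw [ha'', ha']; exact sd.rel ha
  have r2 : b * b' * b'' = 1 := by rw [hb'', hb']; exact sd.rel hb
  have r3 : (a * b') * (a' * b'') * (a'' * b) = 1 := by
    have h1 := sd.rel (U.mul_mem ha (sd.c_mem hb))
    have h2 : k * (a * (k * b * k⁻¹)) * k⁻¹ = a' * b'' := by rw [ha', hb'', hb']; group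
    have h3 : k * (a' * b'') * k⁻¹ = a'' * b := by
      have h4 := sd.ccc b
      rw [← hb', ← hb''] at h4
      calc k * (a' * b'') * k⁻¹ = (k * a' * k⁻¹) * (k * b'' * k⁻¹) := by group
        _ = a'' * b := by rw [h4, ← ha'']
    rw [h2, h3, ← hb'] at h1
    exact h1
  have r4 : b' * a' = a' * b' := by
    rw [ha', hb']
    calc k * b * k⁻¹ * (k * a * k⁻¹) = k * (b * a) * k⁻¹ := by group
      _ = k * (a * b) * k⁻¹ := by rw [hab]
      _ = _ := by group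
  rw [← ha']
  have e1 : a'' = (a * a')⁻¹ := eq_inv_of_mul_eq_one_right r1
  have e2 : b'' = (b * b')⁻¹ := eq_inv_of_mul_eq_one_right r2
  have h5 : a * a' * b⁻¹ * (a * a')⁻¹ * b = 1 := by
    rw [← r3, e1, e2]
    calc a * a' * b⁻¹ * (a * a')⁻¹ * b = a * (a' * b') * (b'⁻¹ * b⁻¹) * ((a * a')⁻¹ * b) := by group
      _ = a * (b' * a') * (b'⁻¹ * b⁻¹) * ((a * a')⁻¹ * b) := by rw [r4]
      _ = _ := by group
  have h6 : b * (a * a') = (a * a') * b := by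
    calc b * (a * a') = b * 1 * (a * a') := by group
      _ = b * (a * a' * b⁻¹ * (a * a')⁻¹ * b) * (a * a') := by rw [h5]
      _ = b * (a * a') * (b⁻¹ * (a * a')⁻¹ * b * (a * a')) := by group
      _ = b * (a * a') * ((a * a')⁻¹ * ((a * a') * b⁻¹ * (a * a')⁻¹ * b) * (a * a')) := by group
      _ = b * (a * a') := by rw [h5]; group
      _ = b * (a * a') * (a * a' * b⁻¹ * (a * a')⁻¹ * b)⁻¹ := by rw [h5]; group
      _ = (a * a') * b := by
        have h7 : (a * a') * b⁻¹ = b⁻¹ * (a * a') := by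
          calc (a * a') * b⁻¹ = (a * a' * b⁻¹ * (a * a')⁻¹ * b) * (b⁻¹ * (a * a')) := by group
            _ = b⁻¹ * (a * a') := by rw [h5, one_mul]
        calc b * (a * a') * (a * a' * b⁻¹ * (a * a')⁻¹ * b)⁻¹ = b * (a * a') := by rw [h5]; group
          _ = b * ((a * a') * b⁻¹) * b := by group
          _ = b * (b⁻¹ * (a * a')) * b := by rw [h7]
          _ = (a * a') * b := by group
  have h8 : a * (b * a') = a * (a' * b) := by
    calc a * (b * a') = (a * b) * a' := by group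
      _ = b * (a * a') := by rw [hab]; group
      _ = (a * a') * b := h6
      _ = a * (a' * b) := by group
  exact mul_left_cancel h8

/-- the closure of an abelian subgroup -/
theorem clos {A : Subgroup G} (hAU : A ≤ U) (hAS : ∀ s ∈ S, ∀ a ∈ A, s * a * s⁻¹ ∈ A)
    (hab : ∀ a ∈ A, ∀ b ∈ A, a * b = b * a) :
    ∃ B : Subgroup G, A ≤ B ∧ B ≤ U ∧ (∀ h ∈ H, ∀ x ∈ B, h * x * h⁻¹ ∈ B) ∧ ∀ x ∈ B, ∀ y ∈ B, x * y = y * x := by
  have hc : ∀ h ∈ H, ∀ a ∈ A, ∀ b ∈ A, a * (h * b * h⁻¹) = (h * b * h⁻¹) * a := by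
    intro h hh a ha b hb
    obtain ⟨s, hs, h1⟩ := sd.cos h hh
    have hb' := hAS s hs b hb
    rcases h1 with rfl | rfl | rfl
    · exact hab _ ha _ hb'
    · have h2 := sd.comm_c (hAU hb') (hAU ha) (hab _ hb' _ ha)
      have e : k * (s * b * s⁻¹) * k⁻¹ = k * s * b * (k * s)⁻¹ := by group
      rwa [e] at h2
    · have h2 := sd.comm_c (hAU ha) (hAU hb') (hab _ ha _ hb')
      have e : k⁻¹ * s * b * (k⁻¹ * s)⁻¹ = k⁻¹ * (s * b * s⁻¹) * k := by group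
      rw [e]
      calc a * (k⁻¹ * (s * b * s⁻¹) * k) = k⁻¹ * ((k * a * k⁻¹) * (s * b * s⁻¹)) * k := by group
        _ = k⁻¹ * ((s * b * s⁻¹) * (k * a * k⁻¹)) * k := by rw [h2]
        _ = k⁻¹ * (s * b * s⁻¹) * k * a := by group
  obtain ⟨X, hX⟩ : ∃ X : Set G, X = {x | ∃ h ∈ H, ∃ a ∈ A, x = h * a * h⁻¹} := ⟨_, rfl⟩
  have hcc : ∀ x ∈ X, ∀ y ∈ X, x * y = y * x := by
    intro x hx y hy
    rw [hX] at hx hy
    obtain ⟨h, hh, a, ha, rfl⟩ := hx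
    obtain ⟨h', hh', b, hb, rfl⟩ := hy
    have h1 := hc (h⁻¹ * h') (H.mul_mem (H.inv_mem hh) hh') a ha b hb
    calc h * a * h⁻¹ * (h' * b * h'⁻¹) = h * (a * (h⁻¹ * h' * b * (h⁻¹ * h')⁻¹)) * h⁻¹ := by group
      _ = h * ((h⁻¹ * h' * b * (h⁻¹ * h')⁻¹) * a) * h⁻¹ := by rw [h1]
      _ = _ := by group
  refine ⟨closure X, ?_, ?_, ?_, ?_⟩
  · intro a ha
    apply Subgroup.subset_closure
    rw [hX]
    exact ⟨1, H.one_mem, a, ha, by group⟩
  · rw [closure_le]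
    intro x hx
    rw [hX] at hx
    obtain ⟨h, hh, a, ha, rfl⟩ := hx
    exact sd.nor h hh a (hAU ha)
  · intro h hh x hx
    induction hx using closure_induction with
    | mem x hx =>
      apply Subgroup.subset_closure
      rw [hX] at hx ⊢
      obtain ⟨h', hh', a, ha, rfl⟩ := hx
      exact ⟨h * h', H.mul_mem hh hh', a, ha, by group⟩
    | one => rw [mul_one, mul_inv_cancel]; exact one_mem _
    | mul x y _ _ hx hy =>
      have e : h * (x * y) * h⁻¹ = (h * x * h⁻¹) * (h * y * h⁻¹) := by group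
      rw [e]; exact mul_mem hx hy
    | inv x _ hx =>
      have e : h * x⁻¹ * h⁻¹ = (h * x * h⁻¹)⁻¹ := by group
      rw [e]; exact inv_mem hx
  · have h1 : closure X ≤ centralizer X := by
      rw [closure_le]
      intro x hx
      exact mem_centralizer_iff.2 fun y hy => hcc y hy x hx
    have h2 : closure X ≤ centralizer ((closure X : Subgroup G) : Set G) := by
      rw [closure_le]
      intro x hx
      exact mem_centralizer_iff.2 fun y hy => ((mem_centralizer_iff.1 (h1 hy)) x hx).symm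
    intro x hx y hy
    exact (mem_centralizer_iff.1 (h2 hy)) x hx

/-- normal subgroups containing an element outside `U` -/
theorem L {C : Subgroup G} (hC : ∀ h ∈ H, ∀ c ∈ C, h * c * h⁻¹ ∈ C) {b : G} (hbC : b ∈ C) (hbS : b ∈ S) (hbU : b ∉ U) :
    ∃ u ∈ U, k * u ∈ C := by
  have h1 : k * b * k⁻¹ ∉ S := by
    intro h1
    obtain ⟨s, hs, hks⟩ := sd.nk
    apply hks
    rcases sd.two b hbS hbU s hs with h2 | h2
    · exact sd.US (sd.c_mem h2)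
    · have h3 := S.mul_mem (sd.US (sd.c_mem h2)) h1
      have e : k * (s * b⁻¹) * k⁻¹ * (k * b * k⁻¹) = k * s * k⁻¹ := by group
      rwa [e] at h3
  have hcC : k * b * k⁻¹ ∈ C := hC k sd.kH b hbC
  have key : ∀ s, s ∈ S → k⁻¹ * s ∈ C → s ∈ U → ∃ u ∈ U, k * u ∈ C := by
    intro s hs h2 h3
    refine ⟨k⁻¹ * s⁻¹ * k, sd.c_mem' (U.inv_mem h3), ?_⟩
    have h4 := C.inv_mem h2
    have e : (k⁻¹ * s)⁻¹ = k * (k⁻¹ * s⁻¹ * k) := by group
    rwa [e] at h4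
  obtain ⟨s, hs, h2⟩ := sd.cos (k * b * k⁻¹) (H.mul_mem (H.mul_mem sd.kH (sd.SH hbS)) (H.inv_mem sd.kH))
  rcases h2 with h2 | h2 | h2
  · rw [h2] at h1; exact absurd hs h1
  · rcases sd.two b hbS hbU s hs with h3 | h3
    · exact ⟨s, h3, by rw [← h2]; exact hcC⟩
    · refine ⟨_, h3, ?_⟩
      have h4 := C.mul_mem hcC (C.inv_mem hbC)
      rwa [h2, mul_assoc] at h4
  · rcases sd.two b hbS hbU s hs with h3 | h3
    · exact key s hs (by rw [← h2]; exact hcC) h3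
    · refine key _ (sd.US h3) ?_ h3
      have h4 := C.mul_mem hcC (C.inv_mem hbC)
      rwa [h2, mul_assoc] at h4

theorem N {C : Subgroup G} (hSC : S ≤ C) {x : G} (hxC : x ∈ C) (hxH : x ∈ H) (hxS : x ∉ S) : k ∈ C := by
  obtain ⟨s, hs, h1⟩ := sd.cos x hxH
  rcases h1 with rfl | rfl | rfl
  · exact absurd hs hxS
  · have := C.mul_mem hxC (C.inv_mem (hSC hs))
    simpa using this
  · have := C.mul_mem hxC (C.inv_mem (hSC hs))
    simpa using this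

/-- elements centralized by `S` and `S^k` -/
theorem P {x : G} (h1 : ∀ s ∈ S, s * x = x * s) (h2 : ∀ s ∈ S, (k * s * k⁻¹) * x = x * (k * s * k⁻¹)) :
    k * x = x * k := by
  obtain ⟨s, hs, hks⟩ := sd.nk
  have h3 := sd.N (C := centralizer {x}) (fun t ht => mem_centralizer_singleton_iff.2 (h1 t ht))
    (x := k * s * k⁻¹) (mem_centralizer_singleton_iff.2 (h2 s hs))
    (H.mul_mem (H.mul_mem sd.kH (sd.SH hs)) (H.inv_mem sd.kH)) hks
  exact mem_centralizer_singleton_iff.1 h3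

theorem exists_center (hU : IsPGroup 2 U) (hU1 : U ≠ ⊥) : ∃ w ∈ U, w ≠ 1 ∧ ∀ v ∈ U, w * v = v * w := by
  haveI : Fact (Nat.Prime 2) := ⟨Nat.prime_two⟩
  haveI : Nontrivial U := (Subgroup.nontrivial_iff_ne_bot _).2 hU1
  haveI := hU.center_nontrivial
  obtain ⟨w, hw⟩ := exists_ne (1 : center U)
  refine ⟨((w : U) : G), (w : U).2, fun h => hw (Subtype.ext (Subtype.ext h)), fun v hv => ?_⟩
  have := mem_center_iff.1 w.2 ⟨v, hv⟩
  exact (congrArg Subtype.val this).symm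

theorem Z (hU : IsPGroup 2 U) (hU1 : U ≠ ⊥) {z : G} (hz : z ∈ S) (hzc : ∀ s ∈ S, z * s = s * z) : z ∈ U := by
  by_contra hzU
  obtain ⟨u, hu, hku⟩ := sd.L (C := centralizer (U : Set G)) (b := z) (by
    intro h hh c hc
    rw [mem_centralizer_iff] at hc ⊢
    intro v hv
    have h1 : h⁻¹ * v * h ∈ U := by
      have := sd.nor h⁻¹ (H.inv_mem hh) v hv
      rwa [inv_inv] at this
    have h2 := hc _ h1
    calc v * (h * c * h⁻¹) = h * ((h⁻¹ * v * h) * c) * h⁻¹ := by group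
      _ = h * (c * (h⁻¹ * v * h)) * h⁻¹ := by rw [h2]
      _ = _ := by group) (mem_centralizer_iff.2 fun v hv => (hzc v (sd.US hv)).symm) hz hzU
  obtain ⟨w, hw, hw1, hwc⟩ := sd.exists_center hU hU1
  apply hw1
  apply sd.fpf w hw
  have h1 := (mem_centralizer_iff.1 hku) w hw
  calc k * w = (k * u) * (u⁻¹ * w) := by group
    _ = (k * u) * (w * u⁻¹) := by rw [hwc _ (U.inv_mem hu)]
    _ = ((k * u) * w) * u⁻¹ := by group
    _ = (w * (k * u)) * u⁻¹ := by rw [h1]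
    _ = w * k := by group

end Sd

theorem three_pow {W : Subgroup G} {w : G} (n : ℕ) (hn : w ^ 2 ^ n = 1) (h3 : w * w * w ∈ W) : w ∈ W := by
  have hcop : IsCoprime (3 : ℤ) ((2 ^ n : ℕ) : ℤ) := by
    exact_mod_cast Nat.isCoprime_iff_coprime.2 (Nat.Coprime.pow_right n (show Nat.Coprime 3 2 by norm_num))
  obtain ⟨a, b, hab⟩ := hcop
  have h1 : w = (w * w * w) ^ a * (w ^ 2 ^ n) ^ b := by
    have h2 : w * w * w = w ^ (3 : ℤ) := by
      rw [show (3 : ℤ) = ((3 : ℕ) : ℤ) by norm_num, zpow_natCast, pow_succ, pow_two]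
    rw [h2, ← zpow_natCast w (2 ^ n), ← zpow_mul, ← zpow_mul, ← zpow_add]
    have h3 : (3 : ℤ) * a + ((2 ^ n : ℕ) : ℤ) * b = 1 := by linarith [mul_comm a 3, mul_comm b (((2 ^ n : ℕ) : ℤ))]
    rw [h3, zpow_one]
  rw [h1, hn, one_zpow, mul_one]
  exact W.zpow_mem h3 a

theorem M {S H₁ H₂ U₁ U₂ B : Subgroup G} {k₁ k₂ : G} (hS : IsPGroup 2 S) (sd1 : Sd S H₁ U₁ k₁) (sd2 : Sd S H₂ U₂ k₂)
    (hBU : B ≤ U₂) (hBn : ∀ h ∈ H₂, ∀ x ∈ B, h * x * h⁻¹ ∈ B) (hBa : ∀ x ∈ B, ∀ y ∈ B, x * y = y * x)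
    {b : G} (hb : b ∈ B) (hbU : b ∉ U₁) : Nat.card S ≤ 8 := by
  have hbS : b ∈ S := sd2.US (hBU hb)
  obtain ⟨D, hD⟩ : ∃ D : Subgroup G, D = B ⊓ U₁ := ⟨_, rfl⟩
  have mD : ∀ x, x ∈ D ↔ x ∈ B ∧ x ∈ U₁ := fun x => by rw [hD]; exact Iff.rfl
  obtain ⟨W, hDW, hWU, hWn, hWa⟩ := sd1.clos (A := D) (fun x hx => ((mD x).1 hx).2)
    (fun s hs x hx => (mD _).2 ⟨hBn s (sd2.SH hs) x ((mD x).1 hx).1, sd1.nor s (sd1.SH hs) x ((mD x).1 hx).2⟩)
    (fun x hx y hy => hBa x ((mD x).1 hx).1 y ((mD y).1 hy).1)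
  have hbc : ∀ u ∈ U₁, b * u * b⁻¹ * u⁻¹ ∈ D := by
    intro u hu
    rw [mD]
    constructor
    · have h1 := B.mul_mem hb (hBn u (sd2.SH (sd1.US hu)) b⁻¹ (B.inv_mem hb))
      have e : b * (u * b⁻¹ * u⁻¹) = b * u * b⁻¹ * u⁻¹ := by group
      rwa [e] at h1
    · exact U₁.mul_mem (sd1.nor b (sd1.SH hbS) u hu) (U₁.inv_mem hu)
  -- the centralizer of `U₁ / W`
  let C : Subgroup G :=
    { carrier := {h | h ∈ H₁ ∧ ∀ u ∈ U₁, h * u * h⁻¹ * u⁻¹ ∈ W}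
      mul_mem' := by
        rintro g h ⟨hg, hgu⟩ ⟨hh, hhu⟩
        refine ⟨H₁.mul_mem hg hh, fun u hu => ?_⟩
        have h1 := hWn g hg _ (hhu u hu)
        have h2 := W.mul_mem h1 (hgu u hu)
        have e : g * (h * u * h⁻¹ * u⁻¹) * g⁻¹ * (g * u * g⁻¹ * u⁻¹) = g * h * u * (g * h)⁻¹ * u⁻¹ := by group
        rwa [e] at h2
      one_mem' := ⟨H₁.one_mem, fun u hu => by
        have e : (1 : G) * u * 1⁻¹ * u⁻¹ = 1 := by group
        rw [e]; exact W.one_mem⟩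
      inv_mem' := by
        rintro h ⟨hh, hhu⟩
        refine ⟨H₁.inv_mem hh, fun u hu => ?_⟩
        have h1 : h⁻¹ * u * h ∈ U₁ := by
          have := sd1.nor h⁻¹ (H₁.inv_mem hh) u hu
          rwa [inv_inv] at this
        have h2 := W.inv_mem (hhu _ h1)
        have e : (h * (h⁻¹ * u * h) * h⁻¹ * (h⁻¹ * u * h)⁻¹)⁻¹ = h⁻¹ * u * h⁻¹⁻¹ * u⁻¹ := by group
        rwa [e] at h2 }
  have mC : ∀ h, h ∈ C ↔ h ∈ H₁ ∧ ∀ u ∈ U₁, h * u * h⁻¹ * u⁻¹ ∈ W := fun h => Iff.rfl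
  obtain ⟨u₀, hu₀, hku⟩ := sd1.L (C := C) (by
    intro h hh c hc
    rw [mC] at hc ⊢
    refine ⟨H₁.mul_mem (H₁.mul_mem hh hc.1) (H₁.inv_mem hh), fun u hu => ?_⟩
    have h1 : h⁻¹ * u * h ∈ U₁ := by
      have := sd1.nor h⁻¹ (H₁.inv_mem hh) u hu
      rwa [inv_inv] at this
    have h2 := hWn h hh _ (hc.2 _ h1)
    have e : h * (c * (h⁻¹ * u * h) * c⁻¹ * (h⁻¹ * u * h)⁻¹) * h⁻¹ = h * c * h⁻¹ * u * (h * c * h⁻¹)⁻¹ * u⁻¹ := by group
    rwa [e] at h2) ((mC b).2 ⟨sd1.SH hbS, fun u hu => hDW (hbc u hu)⟩) hbS hbU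
  have hku' := ((mC _).1 hku).2
  have hUW : U₁ ≤ W := by
    by_contra hcon
    obtain ⟨x, hx, hxW⟩ := SetLike.not_le_iff_exists.1 hcon
    haveI : Fact (Nat.Prime 2) := ⟨Nat.prime_two⟩
    haveI hn : (W.subgroupOf U₁).Normal := ⟨fun y hy g => by
      rw [mem_subgroupOf] at hy ⊢
      exact hWn g (sd1.SH (sd1.US g.2)) y hy⟩
    have hQ : IsPGroup 2 (U₁ ⧸ W.subgroupOf U₁) := (hS.to_le sd1.US).to_quotient _
    haveI : Nontrivial (U₁ ⧸ W.subgroupOf U₁) := ⟨QuotientGroup.mk ⟨x, hx⟩, QuotientGroup.mk 1, fun h => by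
      have h1 := QuotientGroup.eq.1 h.symm
      rw [mem_subgroupOf] at h1
      apply hxW
      simpa using h1⟩
    haveI := hQ.center_nontrivial
    obtain ⟨⟨q, hq⟩, hq1⟩ := exists_ne (1 : center (U₁ ⧸ W.subgroupOf U₁))
    obtain ⟨⟨w, hw⟩, rfl⟩ := QuotientGroup.mk_surjective q
    have hwW : w ∉ W := by
      intro h1
      apply hq1
      apply Subtype.ext
      show (QuotientGroup.mk (⟨w, hw⟩ : U₁) : U₁ ⧸ W.subgroupOf U₁) = 1
      rw [QuotientGroup.eq_one_iff, mem_subgroupOf]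
      exact h1
    have hwc : ∀ v ∈ U₁, v * w * v⁻¹ * w⁻¹ ∈ W := by
      intro v hv
      have h1 := mem_center_iff.1 hq (QuotientGroup.mk (⟨v, hv⟩ : U₁))
      have h2 : (QuotientGroup.mk (⟨w, hw⟩ * ⟨v, hv⟩ : U₁) : U₁ ⧸ W.subgroupOf U₁) = QuotientGroup.mk (⟨v, hv⟩ * ⟨w, hw⟩ : U₁) := h1.symm
      have h3 := QuotientGroup.eq.1 h2
      rw [mem_subgroupOf] at h3
      have h4 : (w * v)⁻¹ * (v * w) ∈ W := h3
      have h5 := hWn (w * v) (sd1.SH (sd1.US (U₁.mul_mem hw hv))) _ h4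
      have h6 := hWn (v * w)⁻¹ (H₁.inv_mem (sd1.SH (sd1.US (U₁.mul_mem hv hw)))) _ h5
      have h7 := hWn (v * w) (sd1.SH (sd1.US (U₁.mul_mem hv hw))) _ h6
      have e : (v * w) * ((v * w)⁻¹ * ((w * v) * ((w * v)⁻¹ * (v * w)) * (w * v)⁻¹) * (v * w)⁻¹⁻¹) * (v * w)⁻¹ = v * w * v⁻¹ * w⁻¹ := by
        group
      rwa [e] at h7
    have hkw : k₁ * w * k₁⁻¹ * w⁻¹ ∈ W := by
      have h1 := hku' w hw
      have h2 := hWn k₁ sd1.kH _ (hwc u₀ hu₀)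
      have h3 := W.mul_mem (W.inv_mem h2) h1
      have e : (k₁ * (u₀ * w * u₀⁻¹ * w⁻¹) * k₁⁻¹)⁻¹ * (k₁ * u₀ * w * (k₁ * u₀)⁻¹ * w⁻¹) = k₁ * w * k₁⁻¹ * w⁻¹ := by group
      rwa [e] at h3
    obtain ⟨ω, hω⟩ : ∃ ω, ω = k₁ * w * k₁⁻¹ * w⁻¹ := ⟨_, rfl⟩
    rw [← hω] at hkw
    have h1 := sd1.rel hw
    have h2 : k₁ * w * k₁⁻¹ = ω * w := by rw [hω]; group
    have h3 : k₁ * (ω * w) * k₁⁻¹ = (k₁ * ω * k₁⁻¹) * (ω * w) := by
      calc k₁ * (ω * w) * k₁⁻¹ = (k₁ * ω * k₁⁻¹) * (k₁ * w * k₁⁻¹) := by group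
        _ = _ := by rw [h2]
    rw [h2, h3] at h1
    have h4 := hWn k₁ sd1.kH ω hkw
    have h5 : w * w * w ∈ W := by
      have h6 := hWn w (sd1.SH (sd1.US hw)) ω hkw
      have h7 := hWn (w * w) (sd1.SH (sd1.US (U₁.mul_mem hw hw))) _ (W.mul_mem h4 hkw)
      have h8 := W.inv_mem (W.mul_mem h6 h7)
      have e : (w * ω * w⁻¹ * (w * w * (k₁ * ω * k₁⁻¹ * ω) * (w * w)⁻¹))⁻¹ = w * w * w := by
        have h9 : w * ω * w⁻¹ * (w * w * (k₁ * ω * k₁⁻¹ * ω) * (w * w)⁻¹) * (w * w * w) = 1 := by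
          calc _ = w * (ω * w) * (k₁ * ω * k₁⁻¹ * (ω * w)) := by group
            _ = 1 := h1
        exact inv_eq_of_mul_eq_one_right h9
      rwa [e] at h8
    obtain ⟨n, hn2⟩ := hS ⟨w, sd1.US hw⟩
    exact hwW (three_pow n (by simpa using congrArg Subtype.val hn2) h5)
  have hUa : ∀ x ∈ U₁, ∀ y ∈ U₁, x * y = y * x := fun x hx y hy => hWa x (hUW hx) y (hUW hy)
  have hScen : ∀ x ∈ U₁, x * b = b * x → ∀ s ∈ S, s * x = x * s := by
    intro x hx hxb s hs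
    rcases sd1.two b hbS hbU s hs with h1 | h1
    · exact hUa _ h1 _ hx
    · calc s * x = (s * b⁻¹) * (b * x) := by group
        _ = (s * b⁻¹) * (x * b) := by rw [hxb]
        _ = ((s * b⁻¹) * x) * b := by group
        _ = (x * (s * b⁻¹)) * b := by rw [hUa _ h1 _ hx]
        _ = x * s := by group
  have hDb : ∀ x ∈ D, x * b = b * x := fun x hx => hBa x ((mD x).1 hx).1 b hb
  -- `D` is small
  have hD2 : Nat.card D * Nat.card D ≤ Nat.card B := by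
    rw [← Nat.card_prod]
    apply Nat.card_le_card_of_injective (fun p : D × D => (⟨(p.1 : G) * (k₂ * p.2 * k₂⁻¹),
      B.mul_mem ((mD _).1 p.1.2).1 (hBn k₂ sd2.kH _ ((mD _).1 p.2.2).1)⟩ : B))
    rintro ⟨x, y⟩ ⟨x', y'⟩ hxy
    have h1 : (x : G) * (k₂ * y * k₂⁻¹) = x' * (k₂ * y' * k₂⁻¹) := congrArg Subtype.val hxy
    have h2 : (x' : G)⁻¹ * x = k₂ * ((y' : G) * (y : G)⁻¹) * k₂⁻¹ := by
      calc (x' : G)⁻¹ * x = (x' : G)⁻¹ * (x * (k₂ * y * k₂⁻¹)) * (k₂ * (y : G)⁻¹ * k₂⁻¹) := by group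
        _ = (x' : G)⁻¹ * (x' * (k₂ * y' * k₂⁻¹)) * (k₂ * (y : G)⁻¹ * k₂⁻¹) := by rw [h1]
        _ = _ := by group
    have hxD : (x' : G)⁻¹ * x ∈ D := D.mul_mem (D.inv_mem x'.2) x.2
    have hyD : (y' : G) * (y : G)⁻¹ ∈ D := D.mul_mem y'.2 (D.inv_mem y.2)
    have h3 := sd2.P (x := (x' : G)⁻¹ * x) (hScen _ ((mD _).1 hxD).2 (hDb _ hxD)) (by
      intro s hs
      have h4 := hScen _ ((mD _).1 hyD).2 (hDb _ hyD) s hs
      rw [h2]
      calc k₂ * s * k₂⁻¹ * (k₂ * ((y' : G) * (y : G)⁻¹) * k₂⁻¹) = k₂ * (s * ((y' : G) * (y : G)⁻¹)) * k₂⁻¹ := by group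
        _ = k₂ * ((y' : G) * (y : G)⁻¹ * s) * k₂⁻¹ := by rw [h4]
        _ = _ := by group)
    have h5 := sd2.fpf _ (hBU ((mD _).1 hxD).1) h3
    have h6 : x = x' := Subtype.ext (inv_mul_eq_one.1 h5).symm
    rw [h5] at h2
    have h7 : (y' : G) * (y : G)⁻¹ = 1 := by
      calc (y' : G) * (y : G)⁻¹ = k₂⁻¹ * (k₂ * ((y' : G) * (y : G)⁻¹) * k₂⁻¹) * k₂ := by group
        _ = 1 := by rw [← h2]; group
    have h8 : y = y' := Subtype.ext (mul_inv_eq_one.1 h7).symm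
    rw [h6, h8]
  have hB2 : Nat.card B ≤ 2 * Nat.card D := by
    classical
    have h1 : Nat.card B ≤ Nat.card (D × Bool) := by
      apply Nat.card_le_card_of_injective (fun x : B =>
        if hx : (x : G) ∈ U₁ then ((⟨x, (mD _).2 ⟨x.2, hx⟩⟩ : D), true)
        else ((⟨(x : G) * b⁻¹, (mD _).2 ⟨B.mul_mem x.2 (B.inv_mem hb), by
          rcases sd1.two b hbS hbU x (sd2.US (hBU x.2)) with h | h
          · exact absurd h hx
          · exact h⟩⟩ : D), false))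
      intro x y hxy
      by_cases hx : (x : G) ∈ U₁ <;> by_cases hy : (y : G) ∈ U₁
      · simp only [hx, hy, dif_pos, Prod.mk.injEq, Subtype.mk.injEq] at hxy
        exact Subtype.ext hxy.1
      · simp [hx, hy] at hxy
      · simp [hx, hy] at hxy
      · simp only [hx, hy, dif_neg, not_false_eq_true, Prod.mk.injEq, Subtype.mk.injEq] at hxy
        exact Subtype.ext (mul_right_cancel hxy.1)
    rw [Nat.card_prod, Nat.card_eq_fintype_card (α := Bool), Fintype.card_bool] at h1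
    linarith
  have hDpos : 0 < Nat.card D := Nat.card_pos
  have hDle : Nat.card D ≤ 2 := by
    by_contra h
    push Not at h
    have : Nat.card D * Nat.card D ≤ 2 * Nat.card D := hD2.trans hB2
    have h2 := Nat.le_of_mul_le_mul_right this hDpos
    omega
  -- `U₁` is small
  obtain ⟨E, hE⟩ : ∃ E : Subgroup G, E = U₁ ⊓ centralizer {b} := ⟨_, rfl⟩
  have mE : ∀ x, x ∈ E ↔ x ∈ U₁ ∧ x * b = b * x := fun x => by
    rw [hE, mem_inf, mem_centralizer_singleton_iff]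
  have hE2 : Nat.card E * Nat.card E ≤ Nat.card U₁ := by
    rw [← Nat.card_prod]
    apply Nat.card_le_card_of_injective (fun p : E × E => (⟨(p.1 : G) * (k₁ * p.2 * k₁⁻¹),
      U₁.mul_mem ((mE _).1 p.1.2).1 (sd1.c_mem ((mE _).1 p.2.2).1)⟩ : U₁))
    rintro ⟨x, y⟩ ⟨x', y'⟩ hxy
    have h1 : (x : G) * (k₁ * y * k₁⁻¹) = x' * (k₁ * y' * k₁⁻¹) := congrArg Subtype.val hxy
    have h2 : (x' : G)⁻¹ * x = k₁ * ((y' : G) * (y : G)⁻¹) * k₁⁻¹ := by
      calc (x' : G)⁻¹ * x = (x' : G)⁻¹ * (x * (k₁ * y * k₁⁻¹)) * (k₁ * (y : G)⁻¹ * k₁⁻¹) := by group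
        _ = (x' : G)⁻¹ * (x' * (k₁ * y' * k₁⁻¹)) * (k₁ * (y : G)⁻¹ * k₁⁻¹) := by rw [h1]
        _ = _ := by group
    have hxD : (x' : G)⁻¹ * x ∈ E := E.mul_mem (E.inv_mem x'.2) x.2
    have hyD : (y' : G) * (y : G)⁻¹ ∈ E := E.mul_mem y'.2 (E.inv_mem y.2)
    have h3 := sd1.P (x := (x' : G)⁻¹ * x) (hScen _ ((mE _).1 hxD).1 ((mE _).1 hxD).2) (by
      intro s hs
      have h4 := hScen _ ((mE _).1 hyD).1 ((mE _).1 hyD).2 s hs
      rw [h2]
      calc k₁ * s * k₁⁻¹ * (k₁ * ((y' : G) * (y : G)⁻¹) * k₁⁻¹) = k₁ * (s * ((y' : G) * (y : G)⁻¹)) * k₁⁻¹ := by group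
        _ = k₁ * ((y' : G) * (y : G)⁻¹ * s) * k₁⁻¹ := by rw [h4]
        _ = _ := by group)
    have h5 := sd1.fpf _ ((mE _).1 hxD).1 h3
    have h6 : x = x' := Subtype.ext (inv_mul_eq_one.1 h5).symm
    rw [h5] at h2
    have h7 : (y' : G) * (y : G)⁻¹ = 1 := by
      calc (y' : G) * (y : G)⁻¹ = k₁⁻¹ * (k₁ * ((y' : G) * (y : G)⁻¹) * k₁⁻¹) * k₁ := by group
        _ = 1 := by rw [← h2]; group
    have h8 : y = y' := Subtype.ext (mul_inv_eq_one.1 h7).symm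
    rw [h6, h8]
  have hUE : Nat.card U₁ ≤ Nat.card E * Nat.card D := by
    let φ : U₁ →* U₁ := MonoidHom.mk' (fun u => ⟨b * u * b⁻¹ * (u : G)⁻¹, ((mD _).1 (hbc u u.2)).2⟩) (by
      intro u v
      apply Subtype.ext
      show b * ((u : G) * v) * b⁻¹ * ((u : G) * v)⁻¹ = (b * u * b⁻¹ * (u : G)⁻¹) * (b * v * b⁻¹ * (v : G)⁻¹)
      have h1 := hUa _ (((mD _).1 (hbc v v.2)).2) _ (U₁.inv_mem u.2)
      calc b * ((u : G) * v) * b⁻¹ * ((u : G) * v)⁻¹ = (b * u * b⁻¹) * ((b * v * b⁻¹ * (v : G)⁻¹) * (u : G)⁻¹) := by group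
        _ = (b * u * b⁻¹) * ((u : G)⁻¹ * (b * v * b⁻¹ * (v : G)⁻¹)) := by rw [h1]
        _ = _ := by group)
    have h1 := φ.ker.card_mul_index
    rw [Subgroup.index_ker] at h1
    rw [← h1]
    apply Nat.mul_le_mul
    · apply Nat.card_le_card_of_injective (fun x : φ.ker => (⟨((x : U₁) : G), (mE _).2 ⟨(x : U₁).2, by
        have h2 : φ x = 1 := x.2
        have h3 : b * ((x : U₁) : G) * b⁻¹ * ((x : U₁) : G)⁻¹ = 1 := congrArg Subtype.val h2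
        calc ((x : U₁) : G) * b = 1 * ((x : U₁) : G) * b := by group
          _ = (b * ((x : U₁) : G) * b⁻¹ * ((x : U₁) : G)⁻¹) * ((x : U₁) : G) * b := by rw [h3]
          _ = b * ((x : U₁) : G) := by group⟩⟩ : E))
      intro x y hxy
      exact Subtype.ext (Subtype.ext (congrArg (fun t : E => (t : G)) hxy))
    · apply Nat.card_le_card_of_injective (fun x : φ.range => (⟨((x : U₁) : G), by
        obtain ⟨u, hu⟩ := x.2
        rw [← hu]
        exact hbc u u.2⟩ : D))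
      intro x y hxy
      exact Subtype.ext (Subtype.ext (congrArg (fun t : D => (t : G)) hxy))
  have hEpos : 0 < Nat.card E := Nat.card_pos
  have h1 : Nat.card E * Nat.card E ≤ 2 * Nat.card E := by
    calc Nat.card E * Nat.card E ≤ Nat.card U₁ := hE2
      _ ≤ Nat.card E * Nat.card D := hUE
      _ ≤ Nat.card E * 2 := Nat.mul_le_mul_left _ hDle
      _ = 2 * Nat.card E := mul_comm _ _
  have h2 := Nat.le_of_mul_le_mul_right h1 hEpos
  have h3 : Nat.card U₁ ≤ 2 * 2 := hUE.trans (Nat.mul_le_mul h2 hDle)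
  rw [sd1.cS]
  omega

/-- the amalgam lemma -/
theorem Gam {S H₁ H₂ U₁ U₂ : Subgroup G} (hS : IsPGroup 2 S) (h1 : Side S H₁ U₁)
    (h2 : Side S H₂ U₂)
    (hNC : ∀ T : Subgroup G, T ≠ ⊥ → T ≤ S → (∀ g ∈ H₁, ∀ t ∈ T, g * t * g⁻¹ ∈ T) →
      (∀ g ∈ H₂, ∀ t ∈ T, g * t * g⁻¹ ∈ T) → False) : Nat.card S ≤ 8 := by
  obtain ⟨k₁, sd1⟩ := exists_Sd hS h1
  obtain ⟨k₂, sd2⟩ := exists_Sd hS h2
  by_cases hU1 : U₁ = ⊥
  · rw [sd1.cS, hU1, Subgroup.card_bot]; norm_num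
  by_cases hU2 : U₂ = ⊥
  · rw [sd2.cS, hU2, Subgroup.card_bot]; norm_num
  obtain ⟨P, hP⟩ : ∃ P : Subgroup G → Prop, ∀ A, P A ↔ (A ≤ U₁ ∧ A ≤ U₂ ∧ (∀ s ∈ S, ∀ a ∈ A, s * a * s⁻¹ ∈ A) ∧
    ∀ a ∈ A, ∀ b ∈ A, a * b = b * a) := ⟨_, fun A => Iff.rfl⟩
  -- a nontrivial candidate
  obtain ⟨z, hz, hz1, hzc⟩ : ∃ z ∈ S, z ≠ 1 ∧ ∀ s ∈ S, z * s = s * z := by
    haveI : Fact (Nat.Prime 2) := ⟨Nat.prime_two⟩
    haveI : Nontrivial S := by
      rw [Subgroup.nontrivial_iff_ne_bot]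
      rintro rfl
      exact hU1 (le_bot_iff.1 sd1.US)
    haveI := hS.center_nontrivial
    obtain ⟨w, hw⟩ := exists_ne (1 : center S)
    refine ⟨((w : S) : G), (w : S).2, fun h => hw (Subtype.ext (Subtype.ext h)), fun v hv => ?_⟩
    have := mem_center_iff.1 w.2 ⟨v, hv⟩
    exact (congrArg Subtype.val this).symm
  have hzU1 := sd1.Z (hS.to_le sd1.US) hU1 hz hzc
  have hzU2 := sd2.Z (hS.to_le sd2.US) hU2 hz hzc
  have hPz : P (zpowers z) := by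
    rw [hP]
    refine ⟨by rwa [zpowers_le], by rwa [zpowers_le], ?_, ?_⟩
    · rintro s hs a ⟨n, rfl⟩
      have h3 : Commute z s := hzc s hs
      have h4 : Commute (z ^ n) s := h3.zpow_left n
      refine ⟨n, ?_⟩
      show z ^ n = s * z ^ n * s⁻¹
      rw [← h4.eq]; group
    · rintro a ⟨n, rfl⟩ b ⟨m, rfl⟩
      exact (Commute.zpow_zpow_self z n m).eq
  haveI : Nonempty {A // P A} := ⟨⟨_, hPz⟩⟩
  obtain ⟨⟨A, hA⟩, hmax⟩ := Finite.exists_max (fun A : {A // P A} => Nat.card (A : Subgroup G))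
  have hmax' : ∀ B, P B → A ≤ B → B = A := by
    intro B hB hAB
    have h3 : Nat.card B ≤ Nat.card A := hmax ⟨B, hB⟩
    exact (Subgroup.eq_of_le_of_card_ge hAB h3).symm
  have hA1 : A ≠ ⊥ := by
    intro h0
    have h3 : Nat.card (zpowers z) ≤ Nat.card A := hmax ⟨_, hPz⟩
    rw [h0, Subgroup.card_bot] at h3
    have h4 : zpowers z = ⊥ := (Subgroup.card_le_one_iff_eq_bot _).1 h3
    exact hz1 (zpowers_eq_bot.1 h4)
  obtain ⟨hAU1, hAU2, hAS, hAa⟩ := (hP A).1 hA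
  obtain ⟨B₁, hAB1, hB1U, hB1n, hB1a⟩ := sd1.clos hAU1 hAS hAa
  obtain ⟨B₂, hAB2, hB2U, hB2n, hB2a⟩ := sd2.clos hAU2 hAS hAa
  by_cases hc1 : B₁ ≤ U₂
  · by_cases hc2 : B₂ ≤ U₁
    · exfalso
      have e1 : B₁ = A := hmax' B₁ ((hP B₁).2 ⟨hB1U, hc1, fun s hs a ha => hB1n s (sd1.SH hs) a ha, hB1a⟩) hAB1
      have e2 : B₂ = A := hmax' B₂ ((hP B₂).2 ⟨hc2, hB2U, fun s hs a ha => hB2n s (sd2.SH hs) a ha, hB2a⟩) hAB2
      rw [e1] at hB1n
      rw [e2] at hB2n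
      exact hNC A hA1 (hAU1.trans sd1.US) hB1n hB2n
    · obtain ⟨b, hb, hbU⟩ := SetLike.not_le_iff_exists.1 hc2
      exact M hS sd1 sd2 hB2U hB2n hB2a hb hbU
  · obtain ⟨b, hb, hbU⟩ := SetLike.not_le_iff_exists.1 hc1
    exact M hS sd2 sd1 hB1U hB1n hB1a hb hbU

end Cfsg.Agent.Lib.H72Gam
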