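import Mathlib
import Cfsg.Prelude.Def_KGroupFacts

/-!
# An abstract criterion for the automorphisms of the Thompson group to be inner (helper72)

`s, x` generate a Sylow 7-subgroup of order 49.
-/

set_option autoImplicit false

namespace Cfsg.Agent.Lib.H72ThAbs

/-- vectors -/
abbrev V2 : Type := ZMod 7 × ZMod 7

/-- two by two matrices, rows -/
abbrev M2 : Type := (ZMod 7 × ZMod 7) × (ZMod 7 × ZMod 7)

/-- row vector times matrix -/
def vm (v : V2) (M : M2) : V2 := (v.1 * M.1.1 + v.2 * M.2.1, v.1 * M.1.2 + v.2 * M.2.2)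

/-- matrix product -/
def mm (A B : M2) : M2 := (vm A.1 B, vm A.2 B)

/-- identity -/
def one2 : M2 := ((1, 0), (0, 1))

/-- inverse (for invertible matrices) -/
def inv2 (A : M2) : M2 :=
  let e := (A.1.1 * A.2.2 - A.1.2 * A.2.1)⁻¹
  ((e * A.2.2, - (e * A.1.2)), (- (e * A.2.1), e * A.1.1))

theorem vm_mm (v : V2) (A B : M2) : vm v (mm A B) = vm (vm v A) B := by
  unfold mm vm
  ext <;> simp <;> ring

section
variable {G : Type*} [Group G] (s x : G)

/-- the elements of the abelian subgroup -/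
def F (v : V2) : G := s ^ v.1.val * x ^ v.2.val

variable {s x}

theorem pow_val_add {y : G} (hy : y ^ 7 = 1) (a b : ZMod 7) : y ^ (a + b).val = y ^ a.val * y ^ b.val := by
  rw [← pow_add, ZMod.val_add]
  exact pow_mod_seven hy _
where
  pow_mod_seven {y : G} (hy : y ^ 7 = 1) (n : ℕ) : y ^ (n % 7) = y ^ n := by
    conv_rhs => rw [← Nat.mod_add_div n 7, pow_add, pow_mul, hy, one_pow, mul_one]

theorem pow_mod7 {y : G} (hy : y ^ 7 = 1) (n : ℕ) : y ^ (n % 7) = y ^ n := by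
  conv_rhs => rw [← Nat.mod_add_div n 7, pow_add, pow_mul, hy, one_pow, mul_one]

theorem F_add (hs : s ^ 7 = 1) (hx : x ^ 7 = 1) (hc : s * x = x * s) (v w : V2) : F s x (v + w) = F s x v * F s x w := by
  have hC : Commute (x ^ v.2.val) (s ^ w.1.val) := ((Commute.pow_pow (show Commute s x from hc) _ _)).symm
  show s ^ (v.1 + w.1).val * x ^ (v.2 + w.2).val = s ^ v.1.val * x ^ v.2.val * (s ^ w.1.val * x ^ w.2.val)
  rw [pow_val_add hs, pow_val_add hx]
  calc s ^ v.1.val * s ^ w.1.val * (x ^ v.2.val * x ^ w.2.val)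
      = s ^ v.1.val * (s ^ w.1.val * x ^ v.2.val) * x ^ w.2.val := by simp only [mul_assoc]
    _ = s ^ v.1.val * (x ^ v.2.val * s ^ w.1.val) * x ^ w.2.val := by rw [hC.eq]
    _ = _ := by simp only [mul_assoc]

theorem F_zero : F s x 0 = 1 := by
  show s ^ (0 : ZMod 7).val * x ^ (0 : ZMod 7).val = 1
  simp

theorem F_s : F s x (1, 0) = s := by
  show s ^ (1 : ZMod 7).val * x ^ (0 : ZMod 7).val = s
  rw [ZMod.val_zero, pow_zero, mul_one]
  show s ^ 1 = s
  rw [pow_one]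

theorem F_x : F s x (0, 1) = x := by
  show s ^ (0 : ZMod 7).val * x ^ (1 : ZMod 7).val = x
  rw [ZMod.val_zero, pow_zero, one_mul]
  show x ^ 1 = x
  rw [pow_one]

theorem F_neg (hs : s ^ 7 = 1) (hx : x ^ 7 = 1) (hc : s * x = x * s) (v : V2) : F s x (-v) = (F s x v)⁻¹ := by
  rw [eq_inv_iff_mul_eq_one, ← F_add hs hx hc, neg_add_cancel, F_zero]

theorem F_smul (hs : s ^ 7 = 1) (hx : x ^ 7 = 1) (hc : s * x = x * s) (n : ℕ) (v : V2) : F s x (n • v) = F s x v ^ n := by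
  induction n with
  | zero => rw [zero_smul, F_zero, pow_zero]
  | succ n ih => rw [succ_nsmul, F_add hs hx hc, ih, pow_succ]

theorem nsmul_val (a : ZMod 7) (v : V2) : a.val • v = (a * v.1, a * v.2) := by
  ext
  · show a.val • v.1 = a * v.1
    rw [nsmul_eq_mul, ZMod.natCast_zmod_val]
  · show a.val • v.2 = a * v.2
    rw [nsmul_eq_mul, ZMod.natCast_zmod_val]

theorem F_pow (hs : s ^ 7 = 1) (hx : x ^ 7 = 1) (hc : s * x = x * s) (a : ZMod 7) (v : V2) :
    F s x v ^ a.val = F s x (a * v.1, a * v.2) := by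
  rw [← F_smul hs hx hc, nsmul_val]

theorem vec_eq (v : V2) (M : M2) : vm v M = (v.1 * M.1.1, v.1 * M.1.2) + (v.2 * M.2.1, v.2 * M.2.2) := rfl

/-- a homomorphism given on `s` and `x` -/
theorem hom_F (hs : s ^ 7 = 1) (hx : x ^ 7 = 1) (hc : s * x = x * s) (f : G →* G) (M : M2)
    (h1 : f s = F s x M.1) (h2 : f x = F s x M.2) (v : V2) : f (F s x v) = F s x (vm v M) := by
  rw [vec_eq, F_add hs hx hc, ← F_pow hs hx hc, ← F_pow hs hx hc, ← h1, ← h2]
  show f (s ^ v.1.val * x ^ v.2.val) = _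
  rw [map_mul, map_pow, map_pow]

variable (s x) in
/-- `g` acts on the subgroup by the matrix `M` (right conjugation) -/
def Acts (g : G) (M : M2) : Prop := ∀ v, g⁻¹ * F s x v * g = F s x (vm v M)

theorem Acts.mk (hs : s ^ 7 = 1) (hx : x ^ 7 = 1) (hc : s * x = x * s) {g : G} {M : M2}
    (h1 : g⁻¹ * s * g = F s x M.1) (h2 : g⁻¹ * x * g = F s x M.2) : Acts s x g M := by
  intro v
  have h := hom_F hs hx hc (MulAut.conj g⁻¹).toMonoidHom M
    (by show g⁻¹ * s * (g⁻¹)⁻¹ = _; rw [inv_inv]; exact h1) (by show g⁻¹ * x * (g⁻¹)⁻¹ = _; rw [inv_inv]; exact h2) v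
  have h3 : (MulAut.conj g⁻¹).toMonoidHom (F s x v) = g⁻¹ * F s x v * g := by
    show g⁻¹ * F s x v * (g⁻¹)⁻¹ = _
    rw [inv_inv]
  rw [← h3, h]

theorem Acts.mul {g g' : G} {M M' : M2} (h : Acts s x g M) (h' : Acts s x g' M') : Acts s x (g * g') (mm M M') := by
  intro v
  rw [vm_mm, ← h', ← h]
  group

theorem vm_one (v : V2) : vm v one2 = v := by
  unfold vm one2
  ext <;> simp

theorem Acts.one : Acts s x (1 : G) one2 := by
  intro v
  rw [vm_one]
  simp

end


/-- matrices of the five generators n, w, t, h, d of the normalizer -/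
def gm (c : ℕ) : M2 :=
  match c with
  | 0 => ((2, 4), (4, 3))
  | 1 => ((0, 3), (1, 0))
  | 2 => ((2, 0), (0, 1))
  | 3 => ((1, 0), (0, 2))
  | _ => ((6, 0), (0, 6))

/-- words moving a vector to `(1, 0)` -/
def wl : List (List ℕ) := [[],[1],[1,2,2],[1,2,4],[1,2],[1,1,1],[1,4],[],[0,4],[0,0,2],[0,1,4],[2,0,0],[1,0,0,4],[1,3,0],[2,2],[0,2,0,0],[0,1,1],[1,2,0],[0,0],[0,0,1,2],[1,0],[2,4],[1,0,0,2],[0,1,2],[0,2],[2,0,1],[3,0,2],[2,0],[2],[2,0,4],[2,0,0,2],[0,0,1],[0,2,4],[0,1,2,4],[1,3,3,0],[1,1],[1,0,4],[2,0,1,2],[0,0,4],[1,2,0,4],[0,2,2],[0,3,0],[4],[0,1,0],[1,0,0],[3,0],[0,1],[3,3,0],[0]]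

/-- the word for a vector -/
def wv (v : V2) : List ℕ := wl.getD (7 * v.1.val + v.2.val) []

/-- matrix of a word -/
def wm : List ℕ → M2
  | [] => one2
  | c :: w => mm (gm c) (wm w)

/-- matrices in the normalizer -/
def Wp (B : M2) : Bool :=
  let C := mm B (wm (wv B.1))
  decide (C = ((1, 0), (0, 1))) || (decide (C = ((1, 0), (0, 2))) || decide (C = ((1, 0), (0, 4))))

/-- the type of a vector -/
def ty (v : V2) : Bool :=
  decide (v.1 ≠ 0) && (decide (v.2 = 0) || (decide (v.2 = v.1) || (decide (v.2 = 2 * v.1) || decide (v.2 = 4 * v.1))))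

theorem wv_ok : ∀ a b : ZMod 7, (a, b) ≠ (0, 0) → vm (a, b) (wm (wv (a, b))) = (1, 0) := by
  decide +kernel

theorem ty_ok : ∀ k l : ZMod 7, l ≠ 0 → (∀ a b : ZMod 7, (a, b) ≠ (0, 0) → ty (vm (a, b) ((1, 0), (k, l))) = ty (a, b)) →
    k = 0 ∧ (l = 1 ∨ l = 2 ∨ l = 4) := by
  decide +kernel

/-- conjugated matrix -/
def cj2 (M A : M2) : M2 := mm (mm (inv2 M) A) M

theorem main_ok : ∀ k l : ZMod 7, l ≠ 0 → Wp (cj2 ((1, 0), (k, l)) (gm 0)) = true → Wp (cj2 ((1, 0), (k, l)) (gm 1)) = true →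
    k = 0 ∧ (l = 1 ∨ l = 2 ∨ l = 4) := by
  decide +kernel

theorem inv_ok : ∀ k l : ZMod 7, l ≠ 0 → mm ((1, 0), (k, l)) (inv2 ((1, 0), (k, l))) = one2 ∧
    mm (inv2 ((1, 0), (k, l))) ((1, 0), (k, l)) = one2 := by
  decide +kernel

/-- the data needed -/
structure Data (G : Type*) [Group G] (P : Subgroup G) (Ty : G → Prop) (s x d t h n w b : G) : Prop where
  hs : s ^ 7 = 1
  hx : x ^ 7 = 1
  hc : s * x = x * s
  hF : ∀ v, F s x v = 1 → v = 0
  card : ∃ m, Nat.card G = 49 * m ∧ ¬ 7 ∣ m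
  hTy : ∀ p ∈ P, ∀ y, Ty (p⁻¹ * y * p) ↔ Ty y
  hTyF : ∀ v, v ≠ 0 → (Ty (F s x v) ↔ ty v = true)
  K1 : ∀ g, g * s = s * g → g ∈ P
  Z1 : ∀ g ∈ P, g * s = s * g → g * x = x * g → ∃ v, g = F s x v
  Z2 : ∀ g ∈ P, g * s = s * g → g * h = h * g → ∃ i j : ℕ, g = s ^ i * h ^ j
  aN : Acts s x n (gm 0)
  aW : Acts s x w (gm 1)
  aT : Acts s x t (gm 2)
  aH : Acts s x h (gm 3)
  aD : Acts s x d (gm 4)
  dN : n * d = d * n
  dW : w * d = d * w
  dT : t * d = d * t
  dH : h * d = d * h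
  h3 : h ^ 3 = 1
  bs : b * s = s * b
  bh : b * h * b⁻¹ = h⁻¹
  bd : b * d = d * b
  xb : (x * b) ^ 4 = 1
  xb1 : (x * (h * b)) ^ 4 ≠ 1
  xb2 : (x * (h ^ 2 * b)) ^ 4 ≠ 1
  gen : Subgroup.closure {s, x, d, t, h, n, w, b} = ⊤

section
variable {G : Type*} [Group G] {P : Subgroup G} {Ty : G → Prop} {s x d t h n w b : G}

/-- the five generators -/
def gn (n w t h d : G) (c : ℕ) : G :=
  match c with
  | 0 => n
  | 1 => w
  | 2 => t
  | 3 => h
  | _ => d

/-- product of a word -/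
def pw (n w t h d : G) : List ℕ → G
  | [] => 1
  | c :: l => gn n w t h d c * pw n w t h d l

theorem Data.acts (D : Data G P Ty s x d t h n w b) (c : ℕ) : Acts s x (gn n w t h d c) (gm c) := by
  match c with
  | 0 => exact D.aN
  | 1 => exact D.aW
  | 2 => exact D.aT
  | 3 => exact D.aH
  | c + 4 => exact D.aD

theorem Data.acts_w (D : Data G P Ty s x d t h n w b) (l : List ℕ) : Acts s x (pw n w t h d l) (wm l) := by
  induction l with
  | nil => exact Acts.one
  | cons c l ih => exact (D.acts c).mul ih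

/-- an element acting trivially -/
theorem Data.triv (D : Data G P Ty s x d t h n w b) {g : G} (h1 : g * s = s * g) (h2 : g * x = x * g) :
    ∃ v, g = F s x v := D.Z1 g (D.K1 g h1) h1 h2

theorem F_inj (D : Data G P Ty s x d t h n w b) {v v' : V2} (h1 : F s x v = F s x v') : v = v' := by
  have h2 : F s x (v + -v') = 1 := by rw [F_add D.hs D.hx D.hc, F_neg D.hs D.hx D.hc, h1, mul_inv_cancel]
  have h3 := D.hF _ h2
  exact add_neg_eq_zero.1 h3

/-- the matrices that occur -/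
theorem Data.wp (D : Data G P Ty s x d t h n w b) {g : G} {B : M2} (hg : Acts s x g B) : Wp B = true := by
  have hB : B.1 ≠ 0 := by
    intro h0
    have h1 := hg (1, 0)
    have h2 : vm (1, 0) B = 0 := by
      show (1 * B.1.1 + 0 * B.2.1, 1 * B.1.2 + 0 * B.2.2) = 0
      rw [one_mul, zero_mul, add_zero, one_mul, zero_mul, add_zero]
      exact h0
    rw [h2, F_zero, F_s] at h1
    have h3 : s = 1 := by
      calc s = g * (g⁻¹ * s * g) * g⁻¹ := by group
        _ = 1 := by rw [h1]; group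
    have h4 := D.hF (1, 0) (by rw [F_s, h3])
    exact absurd h4 (by decide)
  have hv := wv_ok B.1.1 B.1.2 hB
  have h1 := hg.mul (D.acts_w (wv B.1))
  set C := mm B (wm (wv B.1)) with hC
  have hC1 : C.1 = (1, 0) := hv
  obtain ⟨k, l, hkl⟩ : ∃ k l, C = ((1, 0), (k, l)) := ⟨C.2.1, C.2.2, by rw [← hC1]⟩
  set y := g * pw n w t h d (wv B.1) with hy
  have hys : y * s = s * y := by
    have h2 := h1 (1, 0)
    have h3 : vm (1, 0) C = (1, 0) := by rw [hkl]; unfold vm; ext <;> simp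
    rw [h3, F_s] at h2
    calc y * s = y * (y⁻¹ * s * y) := by rw [h2]
      _ = s * y := by group
  have hyP := D.K1 y hys
  have hl : l ≠ 0 := by
    intro h0
    have h2 := h1 (-k, 1)
    have h3 : vm (-k, 1) C = 0 := by rw [hkl, h0]; unfold vm; ext <;> simp
    rw [h3, F_zero] at h2
    have h4 : F s x (-k, 1) = 1 := by
      calc F s x (-k, 1) = y * (y⁻¹ * F s x (-k, 1) * y) * y⁻¹ := by group
        _ = 1 := by rw [h2]; group
    have h5 := D.hF _ h4
    exact absurd (congrArg Prod.snd h5) (show (1 : ZMod 7) ≠ 0 by decide)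
  have h5 := ty_ok k l hl (by
    intro a b hab
    have h2 := h1 (a, b)
    rw [hkl] at h2
    have hne : vm (a, b) ((1, 0), (k, l)) ≠ 0 := by
      intro h0
      rw [h0, F_zero] at h2
      have h4 : F s x (a, b) = 1 := by
        calc F s x (a, b) = y * (y⁻¹ * F s x (a, b) * y) * y⁻¹ := by group
          _ = 1 := by rw [h2]; group
      exact hab (D.hF _ h4)
    have h6 := D.hTyF _ hne
    have h7 := D.hTyF (a, b) hab
    rw [← h2, D.hTy y hyP, h7] at h6
    cases h8 : ty (vm (a, b) ((1, 0), (k, l))) <;> cases h9 : ty (a, b) <;> simp_all)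
  obtain ⟨hk, hl'⟩ := h5
  have h6 : C = ((1, 0), (0, 1)) ∨ C = ((1, 0), (0, 2)) ∨ C = ((1, 0), (0, 4)) := by
    rw [hkl, hk]
    rcases hl' with h | h | h
    · left; rw [h]
    · right; left; rw [h]
    · right; right; rw [h]
  unfold Wp
  rw [← hC]
  simp only [Bool.or_eq_true, decide_eq_true_eq]
  exact h6

/-- inner automorphisms -/
def IsInn (φ : G ≃* G) : Prop := ∃ g, ∀ y, φ y = g * y * g⁻¹

theorem inn_conj {φ ψ : G ≃* G} (g : G) (hψ : ∀ y, ψ y = g * φ y * g⁻¹) (h : IsInn ψ) : IsInn φ := by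
  obtain ⟨k, hk⟩ := h
  refine ⟨g⁻¹ * k, fun y => ?_⟩
  have h1 := hk y
  rw [hψ] at h1
  calc φ y = g⁻¹ * (g * φ y * g⁻¹) * g := by group
    _ = g⁻¹ * k * y * (g⁻¹ * k)⁻¹ := by rw [h1]; group

theorem exists_conj (φ : G ≃* G) (g : G) : ∃ ψ : G ≃* G, ∀ y, ψ y = g * φ y * g⁻¹ :=
  ⟨φ.trans (MulAut.conj g), fun y => by rw [MulEquiv.trans_apply, MulAut.conj_apply]⟩

theorem F_ne (D : Data G P Ty s x d t h n w b) {v : V2} (hv : v ≠ 0) : F s x v ≠ 1 := fun h1 => hv (D.hF v h1)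

/-- `φ g = g` for `g` acting on the subgroup and commuting with `d` -/
theorem Data.fix_of (D : Data G P Ty s x d t h n w b) (φ : G ≃* G) (h1 : φ s = s) (h2 : φ x = x) (h3 : φ d = d)
    {g : G} {A : M2} (hg : Acts s x g A) (hd : g * d = d * g) : φ g = g := by
  have hF : ∀ v, φ (F s x v) = F s x v := by
    intro v
    show φ (s ^ v.1.val * x ^ v.2.val) = s ^ v.1.val * x ^ v.2.val
    rw [map_mul, map_pow, map_pow, h1, h2]
  have hφ : ∀ v, (φ g)⁻¹ * F s x v * φ g = g⁻¹ * F s x v * g := by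
    intro v
    rw [hg v, ← hF (vm v A), ← hg v, map_mul, map_mul, map_inv, hF]
  have hcom : ∀ v, (φ g * g⁻¹) * F s x v = F s x v * (φ g * g⁻¹) := by
    intro v
    have h4 := hφ v
    calc (φ g * g⁻¹) * F s x v = φ g * (g⁻¹ * F s x v * g) * g⁻¹ := by group
      _ = φ g * ((φ g)⁻¹ * F s x v * φ g) * g⁻¹ := by rw [h4]
      _ = F s x v * (φ g * g⁻¹) := by group
  obtain ⟨v, hv⟩ := D.triv (g := φ g * g⁻¹) (by have := hcom (1, 0); rwa [F_s] at this) (by have := hcom (0, 1); rwa [F_x] at this)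
  have hg2 : φ g = F s x v * g := by rw [← hv]; group
  have h4 : φ g * d = d * φ g := by
    calc φ g * d = φ (g * d) := by rw [map_mul, h3]
      _ = φ (d * g) := by rw [hd]
      _ = d * φ g := by rw [map_mul, h3]
  rw [hg2] at h4
  have h5 : d⁻¹ * F s x v * d = F s x v := by
    have h6 : F s x v * (g * d) = d * F s x v * g := by rw [← mul_assoc, h4, mul_assoc]
    rw [hd, ← mul_assoc] at h6
    have h7 := mul_right_cancel h6
    calc d⁻¹ * F s x v * d = d⁻¹ * (F s x v * d) := by group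
      _ = d⁻¹ * (d * F s x v) := by rw [h7]
      _ = F s x v := by group
  rw [D.aD v] at h5
  have h6 := F_inj D h5
  have h7 : v = 0 := by
    have h8 : ∀ a b : ZMod 7, vm (a, b) (gm 4) = (a, b) → (a, b) = (0, 0) := by decide +kernel
    exact h8 v.1 v.2 h6
  rw [hg2, h7, F_zero, one_mul]

theorem Data.final (D : Data G P Ty s x d t h n w b) (φ : G ≃* G) (h1 : φ s = s) (h2 : φ x = x) (h3 : φ d = d) :
    ∀ y, φ y = y := by
  have eN := D.fix_of φ h1 h2 h3 D.aN D.dN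
  have eW := D.fix_of φ h1 h2 h3 D.aW D.dW
  have eT := D.fix_of φ h1 h2 h3 D.aT D.dT
  have eH := D.fix_of φ h1 h2 h3 D.aH D.dH
  have eB : φ b = b := by
    have c1 : (φ b * b⁻¹) * s = s * (φ b * b⁻¹) := by
      have e1 : b⁻¹ * s = s * b⁻¹ := by
        calc b⁻¹ * s = b⁻¹ * (s * b) * b⁻¹ := by group
          _ = b⁻¹ * (b * s) * b⁻¹ := by rw [D.bs]
          _ = s * b⁻¹ := by group
      have e2 : φ b * s = s * φ b := by
        calc φ b * s = φ (b * s) := by rw [map_mul, h1]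
          _ = φ (s * b) := by rw [D.bs]
          _ = s * φ b := by rw [map_mul, h1]
      rw [mul_assoc, e1, ← mul_assoc, e2, mul_assoc]
    have c2 : (φ b * b⁻¹) * h = h * (φ b * b⁻¹) := by
      have e1 : b⁻¹ * h * b = h⁻¹ := by
        have e0 : h = b⁻¹ * h⁻¹ * b := by rw [← D.bh]; group
        calc b⁻¹ * h * b = (b⁻¹ * h⁻¹ * b)⁻¹ := by group
          _ = h⁻¹ := by rw [← e0]
      have e2 : φ b * h⁻¹ * (φ b)⁻¹ = h := by
        have e3 : b * h⁻¹ * b⁻¹ = h := by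
          calc b * h⁻¹ * b⁻¹ = (b * h * b⁻¹)⁻¹ := by group
            _ = h := by rw [D.bh, inv_inv]
        calc φ b * h⁻¹ * (φ b)⁻¹ = φ (b * h⁻¹ * b⁻¹) := by rw [map_mul, map_mul, map_inv, map_inv, eH]
          _ = h := by rw [e3, eH]
      calc (φ b * b⁻¹) * h = φ b * (b⁻¹ * h * b) * (φ b)⁻¹ * (φ b * b⁻¹) := by group
        _ = h * (φ b * b⁻¹) := by rw [e1, e2]
    obtain ⟨i, j, hij⟩ := D.Z2 _ (D.K1 _ c1) c1 c2
    have hb : φ b = s ^ i * h ^ j * b := by rw [← hij]; group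
    have h4 : φ b * d = d * φ b := by
      calc φ b * d = φ (b * d) := by rw [map_mul, h3]
        _ = φ (d * b) := by rw [D.bd]
        _ = d * φ b := by rw [map_mul, h3]
    have hsi : s ^ i = 1 := by
      have e1 : s ^ i * (h ^ j * b * d) = d * s ^ i * (h ^ j * b) := by
        rw [hb] at h4
        calc s ^ i * (h ^ j * b * d) = s ^ i * h ^ j * b * d := by simp only [mul_assoc]
          _ = d * (s ^ i * h ^ j * b) := h4
          _ = _ := by simp only [mul_assoc]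
      have e2 : h ^ j * b * d = d * (h ^ j * b) := by
        have e3 : h ^ j * d = d * h ^ j := (Commute.pow_left (show Commute h d from D.dH) j).eq
        rw [mul_assoc, D.bd, ← mul_assoc, e3, mul_assoc]
      rw [e2, ← mul_assoc] at e1
      have e4 := mul_right_cancel e1
      have e5 : d⁻¹ * s ^ i * d = s ^ i := by
        calc d⁻¹ * s ^ i * d = d⁻¹ * (s ^ i * d) := by group
          _ = d⁻¹ * (d * s ^ i) := by rw [e4]
          _ = s ^ i := by group
      have e6 : d⁻¹ * s * d = s⁻¹ := by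
        have e7 := D.aD (1, 0)
        rw [F_s] at e7
        have e7' : F s x (vm (1, 0) (gm 4)) = (F s x (1, 0))⁻¹ := by
          rw [← F_neg D.hs D.hx D.hc]
          exact congrArg (F s x) (by decide)
        rw [e7, e7', F_s]
      have e8 : (s ^ i)⁻¹ = s ^ i := by
        rw [← inv_pow, ← e6]
        calc (d⁻¹ * s * d) ^ i = d⁻¹ * s ^ i * d := by
              have := conj_pow (i := i) (a := d⁻¹) (b := s)
              rw [inv_inv] at this
              exact this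
          _ = s ^ i := e5
      have e9 : (s ^ i) ^ 2 = 1 := by
        rw [pow_two]
        nth_rw 1 [← e8]
        exact inv_mul_cancel _
      have e10 : (s ^ i) ^ 7 = 1 := by rw [← pow_mul, mul_comm, pow_mul, D.hs, one_pow]
      have e11 : orderOf (s ^ i) ∣ Nat.gcd 2 7 := Nat.dvd_gcd (orderOf_dvd_of_pow_eq_one e9) (orderOf_dvd_of_pow_eq_one e10)
      rw [show Nat.gcd 2 7 = 1 from rfl, Nat.dvd_one, orderOf_eq_one_iff] at e11
      exact e11
    rw [hsi, one_mul] at hb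
    have hj : h ^ j = h ^ (j % 3) := by
      conv_lhs => rw [← Nat.mod_add_div j 3, pow_add, pow_mul, D.h3, one_pow, mul_one]
    rw [hj] at hb
    have hj3 : j % 3 < 3 := Nat.mod_lt _ (by norm_num)
    have hx4 : (x * φ b) ^ 4 = 1 := by
      calc (x * φ b) ^ 4 = φ ((x * b) ^ 4) := by rw [map_pow, map_mul, h2]
        _ = 1 := by rw [D.xb, map_one]
    generalize j % 3 = k at hb hj3
    interval_cases k
    · rw [hb, pow_zero, one_mul]
    · rw [hb, pow_one] at hx4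
      exact absurd hx4 D.xb1
    · rw [hb] at hx4
      exact absurd hx4 D.xb2
  have hK : (⊤ : Subgroup G) ≤ φ.toMonoidHom.eqLocus (MonoidHom.id G) := by
    rw [← D.gen, Subgroup.closure_le]
    rintro y (rfl | rfl | rfl | rfl | rfl | rfl | rfl | rfl)
    · exact h1
    · exact h2
    · exact h3
    · exact eT
    · exact eH
    · exact eN
    · exact eW
    · exact eB
  intro y
  exact hK (Subgroup.mem_top y)

/-- the automorphism fixes `s` and `x` -/
theorem Data.stepB (D : Data G P Ty s x d t h n w b) (φ : G ≃* G) (h1 : φ s = s) (h2 : φ x = x) : IsInn φ := by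
  have hF : ∀ v, φ (F s x v) = F s x v := by
    intro v
    show φ (s ^ v.1.val * x ^ v.2.val) = s ^ v.1.val * x ^ v.2.val
    rw [map_mul, map_pow, map_pow, h1, h2]
  have hφ : ∀ v, (φ d)⁻¹ * F s x v * φ d = d⁻¹ * F s x v * d := by
    intro v
    rw [D.aD v, ← hF (vm v (gm 4)), ← D.aD v, map_mul, map_mul, map_inv, hF]
  have hcom : ∀ v, (φ d * d⁻¹) * F s x v = F s x v * (φ d * d⁻¹) := by
    intro v
    calc (φ d * d⁻¹) * F s x v = φ d * (d⁻¹ * F s x v * d) * d⁻¹ := by group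
      _ = φ d * ((φ d)⁻¹ * F s x v * φ d) * d⁻¹ := by rw [hφ v]
      _ = F s x v * (φ d * d⁻¹) := by group
  obtain ⟨v, hv⟩ := D.triv (g := φ d * d⁻¹) (by have := hcom (1, 0); rwa [F_s] at this) (by have := hcom (0, 1); rwa [F_x] at this)
  have hd2 : φ d = F s x v * d := by rw [← hv]; group
  set u : V2 := (4 * v.1, 4 * v.2) with hu
  have huu : u + u = v := by
    have h8 : ∀ a b : ZMod 7, ((4 * a, 4 * b) : V2) + (4 * a, 4 * b) = (a, b) := by decide +kernel
    exact h8 v.1 v.2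
  have hFu : F s x u * F s x u = F s x v := by rw [← F_add D.hs D.hx D.hc, huu]
  have hdu : d * (F s x u)⁻¹ * d⁻¹ = F s x u := by
    have e1 := D.aD u
    have e2 : vm u (gm 4) = -u := by
      have h8 : ∀ a b : ZMod 7, vm (a, b) (gm 4) = -(a, b) := by decide +kernel
      exact h8 u.1 u.2
    rw [e2, F_neg D.hs D.hx D.hc] at e1
    rw [← e1]
    group
  obtain ⟨ψ, hψ⟩ := exists_conj φ (F s x u)⁻¹
  have hab : ∀ v', (F s x u)⁻¹ * F s x v' * (F s x u)⁻¹⁻¹ = F s x v' := by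
    intro v'
    rw [inv_inv, mul_assoc, ← F_add D.hs D.hx D.hc, add_comm, F_add D.hs D.hx D.hc]
    group
  have k1 : ψ s = s := by
    rw [hψ, h1]
    have := hab (1, 0)
    rwa [F_s] at this
  have k2 : ψ x = x := by
    rw [hψ, h2]
    have := hab (0, 1)
    rwa [F_x] at this
  have k3 : ψ d = d := by
    rw [hψ, hd2, inv_inv, ← hFu]
    calc (F s x u)⁻¹ * (F s x u * F s x u * d) * F s x u = F s x u * d * F s x u := by group
      _ = (d * (F s x u)⁻¹ * d⁻¹) * d * F s x u := by rw [hdu]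
      _ = d := by group
  exact inn_conj _ hψ ⟨1, fun y => by rw [D.final ψ k1 k2 k3 y]; group⟩

theorem Data.stepC (D : Data G P Ty s x d t h n w b) (φ : G ≃* G) (h1 : φ s = s) {l : ZMod 7} (hl : l = 1 ∨ l = 2 ∨ l = 4)
    (h2 : φ x = F s x (0, l)) : IsInn φ := by
  -- conjugate by a power of h
  have key : ∀ (g : G) (B : M2), Acts s x g B → vm (1, 0) B = (1, 0) → vm (0, l) B = (0, 1) → IsInn φ := by
    intro g B hg e1 e2
    obtain ⟨ψ, hψ⟩ := exists_conj φ g⁻¹
    have k1 : ψ s = s := by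
      have := hg (1, 0)
      rw [e1, F_s] at this
      rw [hψ, h1, inv_inv, this]
    have k2 : ψ x = x := by
      have := hg (0, l)
      rw [e2, F_x] at this
      rw [hψ, h2, inv_inv, this]
    exact inn_conj _ hψ (D.stepB ψ k1 k2)
  rcases hl with rfl | rfl | rfl
  · exact key 1 one2 Acts.one (by decide) (by decide)
  · exact key _ _ (D.acts_w [3, 3]) (by decide +kernel) (by decide +kernel)
  · exact key _ _ (D.acts_w [3]) (by decide +kernel) (by decide +kernel)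

theorem Data.stepD (D : Data G P Ty s x d t h n w b) (φ : G ≃* G) (h1 : φ s = s) {k l : ZMod 7}
    (h2 : φ x = F s x (k, l)) : IsInn φ := by
  have hs1 : F s x (1, 0) ≠ 1 := F_ne D (by decide)
  have hl : l ≠ 0 := by
    rintro rfl
    have e1 : φ (F s x (-k, 1)) = 1 := by
      have := hom_F D.hs D.hx D.hc φ.toMonoidHom ((1, 0), (k, 0)) (by rw [F_s]; exact h1) h2 (-k, 1)
      rw [show φ (F s x (-k, 1)) = φ.toMonoidHom (F s x (-k, 1)) from rfl, this]
      rw [show vm (-k, 1) ((1, 0), (k, 0)) = 0 from by unfold vm; ext <;> simp, F_zero]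
    have e2 : F s x (-k, 1) = 1 := by
      rw [← map_one φ] at e1
      exact φ.injective e1
    exact absurd (congrArg Prod.snd (D.hF _ e2)) (show (1 : ZMod 7) ≠ 0 by decide)
  obtain ⟨i1, i2⟩ := inv_ok k l hl
  have hφ : ∀ v, φ (F s x v) = F s x (vm v ((1, 0), (k, l))) := fun v =>
    hom_F D.hs D.hx D.hc φ.toMonoidHom ((1, 0), (k, l)) (by rw [F_s]; exact h1) h2 v
  have hA : ∀ (g : G) (A : M2), Acts s x g A → Acts s x (φ g) (cj2 ((1, 0), (k, l)) A) := by
    intro g A hg v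
    unfold cj2
    rw [vm_mm, vm_mm, ← hφ, ← hg, map_mul, map_mul, map_inv, hφ, ← vm_mm, i2, vm_one]
  obtain ⟨hk, hl'⟩ := main_ok k l hl (D.wp (hA _ _ (D.acts 0))) (D.wp (hA _ _ (D.acts 1)))
  rw [hk] at h2
  exact D.stepC φ h1 hl' h2

theorem Data.stepE (D : Data G P Ty s x d t h n w b) (φ : G ≃* G) {v v' : V2} (h1 : φ s = F s x v)
    (h2 : φ x = F s x v') : IsInn φ := by
  have hv : v ≠ 0 := by
    rintro rfl
    rw [F_zero, ← map_one φ] at h1
    have h3 := φ.injective h1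
    exact F_ne D (v := (1, 0)) (by decide) (by rw [F_s, h3])
  have hg := D.acts_w (wv v)
  have e1 : vm v (wm (wv v)) = (1, 0) := wv_ok v.1 v.2 hv
  obtain ⟨ψ, hψ⟩ := exists_conj φ (pw n w t h d (wv v))⁻¹
  have k1 : ψ s = s := by
    have := hg v
    rw [e1, F_s] at this
    rw [hψ, h1, inv_inv, this]
  have k2 : ψ x = F s x (vm v' (wm (wv v))) := by
    rw [hψ, h2, inv_inv, hg v']
  exact inn_conj _ hψ (D.stepD ψ k1 (k := (vm v' (wm (wv v))).1) (l := (vm v' (wm (wv v))).2) k2)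

/-- the abelian subgroup -/
def SS (hs : s ^ 7 = 1) (hx : x ^ 7 = 1) (hc : s * x = x * s) : Subgroup G where
  carrier := {g | ∃ v, g = F s x v}
  mul_mem' := by
    rintro _ _ ⟨v, rfl⟩ ⟨w, rfl⟩
    exact ⟨v + w, (F_add hs hx hc v w).symm⟩
  one_mem' := ⟨0, F_zero.symm⟩
  inv_mem' := by
    rintro _ ⟨v, rfl⟩
    exact ⟨-v, (F_neg hs hx hc v).symm⟩

theorem Data.card_SS (D : Data G P Ty s x d t h n w b) : Nat.card (SS D.hs D.hx D.hc) = 49 := by
  have e : V2 ≃ SS D.hs D.hx D.hc := Equiv.ofBijective (fun v => ⟨F s x v, v, rfl⟩) (by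
    constructor
    · intro v w hvw
      exact F_inj D (congrArg Subtype.val hvw)
    · rintro ⟨_, v, rfl⟩
      exact ⟨v, rfl⟩)
  rw [← Nat.card_congr e, Nat.card_prod, Nat.card_zmod]

/-- all automorphisms are inner -/
theorem Data.inn [Finite G] (D : Data G P Ty s x d t h n w b) (φ : G ≃* G) : IsInn φ := by
  haveI : Fact (Nat.Prime 7) := ⟨by norm_num⟩
  obtain ⟨m, hm, h7⟩ := D.card
  have hfac : (Nat.card G).factorization 7 = 2 := by
    have hm0 : m ≠ 0 := by
      rintro rfl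
      exact h7 (dvd_zero _)
    rw [hm, show (49 : ℕ) = 7 ^ 2 from rfl, Nat.factorization_mul (by norm_num) hm0, Nat.Prime.factorization_pow (by norm_num)]
    simp [Nat.factorization_eq_zero_of_not_dvd h7]
  set S1 := SS D.hs D.hx D.hc with hS1
  have hc1 : Nat.card S1 = 7 ^ (Nat.card G).factorization 7 := by rw [hfac, D.card_SS]; norm_num
  let Q : Sylow 7 G := Sylow.ofCard S1 hc1
  have hc2 : Nat.card (S1.map φ.toMonoidHom) = 7 ^ (Nat.card G).factorization 7 := by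
    rw [← hc1]
    exact (Nat.card_congr (S1.equivMapOfInjective φ.toMonoidHom φ.injective).toEquiv).symm
  let Q' : Sylow 7 G := Sylow.ofCard _ hc2
  obtain ⟨g, hg⟩ := MulAction.exists_smul_eq G Q' Q
  obtain ⟨ψ, hψ⟩ := exists_conj φ g
  have hmem : ∀ y ∈ S1, ψ y ∈ S1 := by
    intro y hy
    have h1 : φ y ∈ (Q' : Subgroup G) := ⟨y, hy, rfl⟩
    have h2 : g * φ y * g⁻¹ ∈ ((g • Q' : Sylow 7 G) : Subgroup G) := by
      rw [Sylow.coe_subgroup_smul]
      exact Subgroup.smul_mem_pointwise_smul _ (MulAut.conj g) _ h1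
    rw [hg] at h2
    rw [hψ]
    exact h2
  obtain ⟨v, hv⟩ := hmem s ⟨(1, 0), F_s.symm⟩
  obtain ⟨v', hv'⟩ := hmem x ⟨(0, 1), F_x.symm⟩
  exact inn_conj _ hψ (D.stepE ψ hv hv')

theorem Data.card_out [Finite G] (D : Data G P Ty s x d t h n w b) : Nat.card (Cfsg.Out G) = 1 := by
  rw [Nat.card_eq_one_iff_unique]
  refine ⟨⟨fun a b => ?_⟩, ⟨1⟩⟩
  induction a using QuotientGroup.induction_on with | _ φ => ?_
  induction b using QuotientGroup.induction_on with | _ ψ => ?_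
  rw [QuotientGroup.eq]
  obtain ⟨g, hg⟩ := D.inn (φ⁻¹ * ψ : MulAut G)
  refine ⟨g, ?_⟩
  ext y
  rw [MulAut.conj_apply]
  exact (hg y).symm

end

end Cfsg.Agent.Lib.H72ThAbs
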