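import Mathlib
import Cfsg.Prelude.Def_KGroupFacts
import Cfsg.Agent.Lib.H72ThAbs

/-!
# An abstract criterion for the automorphisms of the fourth Janko group to be inner (helper72)
-/

set_option autoImplicit false

namespace Cfsg.Agent.Lib.H72J4A

open Cfsg.Agent.Lib.H72ThAbs (IsInn inn_conj exists_conj)

/-- elements of prime order `q` exactly dividing the order of a subgroup -/
theorem sylq {G : Type*} [Group G] {S : Subgroup G} {q m : ℕ} [hq : Fact q.Prime] (hS : Nat.card S = q * m) (hm : ¬ q ∣ m)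
    {r1 r2 : G} (h1 : r1 ∈ S) (h2 : r2 ∈ S) (o1 : orderOf r1 = q) (o2 : orderOf r2 = q) :
    ∃ s ∈ S, ∃ n : ℕ, s * r1 * s⁻¹ = r2 ^ n := by
  have hm0 : m ≠ 0 := fun h => hm (h ▸ dvd_zero q)
  have hc0 : Nat.card S ≠ 0 := by rw [hS]; exact mul_ne_zero hq.out.ne_zero hm0
  haveI : Finite S := Nat.finite_of_card_ne_zero hc0
  have hfac : (Nat.card S).factorization q = 1 := by
    rw [hS, Nat.factorization_mul hq.out.ne_zero hm0]
    simp [hq.out.factorization_self, Nat.factorization_eq_zero_of_not_dvd hm]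
  have e1 : Nat.card (Subgroup.zpowers (⟨r1, h1⟩ : S)) = q ^ (Nat.card S).factorization q := by
    rw [hfac, pow_one, Nat.card_zpowers, ← o1]
    exact (Subgroup.orderOf_coe (⟨r1, h1⟩ : S)).symm
  have e2 : Nat.card (Subgroup.zpowers (⟨r2, h2⟩ : S)) = q ^ (Nat.card S).factorization q := by
    rw [hfac, pow_one, Nat.card_zpowers, ← o2]
    exact (Subgroup.orderOf_coe (⟨r2, h2⟩ : S)).symm
  let Q1 : Sylow q S := Sylow.ofCard _ e1
  let Q2 : Sylow q S := Sylow.ofCard _ e2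
  obtain ⟨s, hs⟩ := MulAction.exists_smul_eq S Q1 Q2
  have h3 : s * ⟨r1, h1⟩ * s⁻¹ ∈ ((s • Q1 : Sylow q S) : Subgroup S) := by
    rw [Sylow.coe_subgroup_smul]
    exact Subgroup.smul_mem_pointwise_smul _ (MulAut.conj s) _ (Subgroup.mem_zpowers _)
  rw [hs] at h3
  have h4 : s * ⟨r1, h1⟩ * s⁻¹ ∈ Subgroup.zpowers (⟨r2, h2⟩ : S) := h3
  obtain ⟨n, hn⟩ := mem_powers_iff_mem_zpowers.2 h4
  refine ⟨s, s.2, n, ?_⟩
  have h5 := congrArg Subtype.val hn
  exact h5.symm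

/-- the stabilizer of the coset `i K` in `P` -/
def St {G : Type*} [Group G] (P K : Subgroup G) (i : G) : Subgroup G where
  carrier := {p | p ∈ P ∧ i⁻¹ * p * i ∈ K}
  mul_mem' := by
    rintro a b ⟨ha, ha'⟩ ⟨hb, hb'⟩
    refine ⟨P.mul_mem ha hb, ?_⟩
    have := K.mul_mem ha' hb'
    rwa [show i⁻¹ * a * i * (i⁻¹ * b * i) = i⁻¹ * (a * b) * i by group] at this
  one_mem' := ⟨P.one_mem, by rw [mul_one, inv_mul_cancel]; exact K.one_mem⟩
  inv_mem' := by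
    rintro a ⟨ha, ha'⟩
    refine ⟨P.inv_mem ha, ?_⟩
    have := K.inv_mem ha'
    rwa [show (i⁻¹ * a * i)⁻¹ = i⁻¹ * a⁻¹ * i by group] at this

/-- the data needed -/
structure Dat (G : Type*) [Group G] (P V K : Subgroup G) (g b i v q f : G) : Prop where
  kv : ∀ k ∈ K, ∃ x ∈ V, ∃ p ∈ P, k = x * p
  vp : ∀ x ∈ V, x ∈ P → x = 1
  nV : ∀ p ∈ P, ∀ x ∈ V, p * x * p⁻¹ ∈ V
  VK : V ≤ K
  PK : P ≤ K
  gP : g ∈ P
  bP : b ∈ P
  vV : v ∈ V
  v1 : v ≠ 1
  A : ∀ p ∈ P, ∀ k : ℕ, k < 23 → p * g = g ^ k * p → ∃ a c : ℕ, c < 11 ∧ p = g ^ a * b ^ c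
  B : ∀ p ∈ P, p * b = b * p → ∃ c : ℕ, p = b ^ c
  Cg : ∀ x ∈ V, x * g = g * x → x = 1
  Cb : ∀ x ∈ V, x * b = b * x → x = 1 ∨ x = v
  g23 : g ^ 23 = 1
  g1 : g ≠ 1
  b11 : b ^ 11 = 1
  b1 : b ≠ 1
  i2 : i * i = 1
  bg : b * g = g ^ 13 * b
  ig : i * g = g⁻¹ * i
  ib : i * b = b * i
  vb : v * b = b * v
  orb : ∀ a : G, a ∉ K → ∀ r ∈ P, r ≠ 1 → (r ^ 11 = 1 ∨ r ^ 23 = 1) → a⁻¹ * r * a ∈ K → ∃ p ∈ P, ∃ k ∈ K, a = p * i * k
  card : Nat.card (St P K i) = 253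
  ivi : i * v * i ∉ K
  qb : q * b = b * q
  qv : q * v = i * q
  fb : f * b = b ^ 2 * f
  fi : f * i = i * f
  fg : (f ^ 5 * g) ^ 3 = 1
  fg' : ∀ k l : ℕ, k < 11 → l < 2 → ((b ^ k * i ^ l * f) ^ 5 * g) ^ 3 = 1 → k = 0 ∧ l = 0
  gen : Subgroup.closure {g, b, i, f} = ⊤
  cardG : ∃ m, Nat.card G = 23 * m ∧ ¬ 23 ∣ m

section
variable {G : Type*} [Group G] {P V K : Subgroup G} {g b i v q f : G} (D : Dat G P V K g b i v q f)
include D

theorem Dat.ordg : orderOf g = 23 := by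
  haveI : Fact (Nat.Prime 23) := ⟨by norm_num⟩
  exact orderOf_eq_prime D.g23 D.g1

theorem Dat.ordb : orderOf b = 11 := by
  haveI : Fact (Nat.Prime 11) := ⟨by norm_num⟩
  exact orderOf_eq_prime D.b11 D.b1

theorem Dat.gmod (n : ℕ) : g ^ n = g ^ (n % 23) := by
  rw [← D.ordg, pow_mod_orderOf]

theorem Dat.ginj {m n : ℕ} (h : g ^ m = g ^ n) : m % 23 = n % 23 := by
  have := pow_inj_mod.1 h
  rwa [D.ordg] at this

theorem Dat.bmod (n : ℕ) : b ^ n = b ^ (n % 11) := by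
  rw [← D.ordb, pow_mod_orderOf]

theorem Dat.bgn (n : ℕ) : b * g ^ n = g ^ (13 * n) * b := by
  have h1 : b * g * b⁻¹ = g ^ 13 := by rw [D.bg]; group
  have h2 : b * g ^ n * b⁻¹ = g ^ (13 * n) := by
    rw [pow_mul, ← h1, conj_pow]
  rw [← h2]; group

theorem Dat.bcg (c : ℕ) : b ^ c * g = g ^ (13 ^ c) * b ^ c := by
  induction c with
  | zero => rw [pow_zero, one_mul, pow_zero, pow_one, mul_one]
  | succ c ih =>
    rw [pow_succ', mul_assoc, ih, ← mul_assoc, D.bgn, mul_assoc, pow_succ']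

/-- normal form of an element of `P` normalizing `g` -/
theorem Dat.A' {p : G} (hp : p ∈ P) {k : ℕ} (h : p * g = g ^ k * p) :
    ∃ a c : ℕ, c < 11 ∧ p = g ^ a * b ^ c ∧ k % 23 = 13 ^ c % 23 := by
  rw [D.gmod k] at h
  obtain ⟨a, c, hc, he⟩ := D.A p hp (k % 23) (Nat.mod_lt _ (by norm_num)) h
  refine ⟨a, c, hc, he, ?_⟩
  rw [he] at h
  have h1 : g ^ a * b ^ c * g = g ^ a * (g ^ (13 ^ c) * b ^ c) := by rw [mul_assoc, D.bcg]
  have h2 : g ^ (k % 23) * (g ^ a * b ^ c) = g ^ a * (g ^ (k % 23) * b ^ c) := by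
    rw [← mul_assoc, ← mul_assoc, ← pow_add, ← pow_add, add_comm]
  rw [h1, h2] at h
  have h3 := D.ginj (mul_right_cancel (mul_left_cancel h))
  rw [h3, Nat.mod_mod]

/-- elements of `K`: splitting a relation -/
theorem Dat.split {x p r r' : G} (hx : x ∈ V) (hp : p ∈ P) (hr : r ∈ P) (hr' : r' ∈ P)
    (h : x * p * r = r' * (x * p)) : p * r = r' * p ∧ x * r' = r' * x := by
  have h1 : r'⁻¹ * x⁻¹ * r' * x = p * r⁻¹ * p⁻¹ * r' := by
    have h2 : r'⁻¹ * x * p * r = x * p := by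
      calc r'⁻¹ * x * p * r = r'⁻¹ * (x * p * r) := by group
        _ = r'⁻¹ * (r' * (x * p)) := by rw [h]
        _ = x * p := by group
    have h3 : x⁻¹ * r' * x = p * r * p⁻¹ := by
      calc x⁻¹ * r' * x = x⁻¹ * (r' * (x * p)) * p⁻¹ := by group
        _ = x⁻¹ * (x * p * r) * p⁻¹ := by rw [h]
        _ = p * r * p⁻¹ := by group
    have h4 : r'⁻¹ * x⁻¹ * r' * x = r'⁻¹ * (p * r * p⁻¹) := by rw [← h3]; group
    have h5 : r'⁻¹ * (p * r * p⁻¹) ∈ P := P.mul_mem (P.inv_mem hr') (P.mul_mem (P.mul_mem hp hr) (P.inv_mem hp))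
    have h6 : r'⁻¹ * x⁻¹ * r' * x ∈ V := by
      have h7 := D.nV r'⁻¹ (P.inv_mem hr') x⁻¹ (V.inv_mem hx)
      rw [inv_inv] at h7
      exact V.mul_mem h7 hx
    have h8 := D.vp _ h6 (by rw [h4]; exact h5)
    rw [h8]
    rw [h8] at h4
    have h9 : r' = p * r * p⁻¹ := by
      calc r' = r' * 1 := by group
        _ = r' * (r'⁻¹ * (p * r * p⁻¹)) := by rw [← h4]
        _ = p * r * p⁻¹ := by group
    rw [h9]; group
  have h6 : r'⁻¹ * x⁻¹ * r' * x ∈ V := by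
    have h7 := D.nV r'⁻¹ (P.inv_mem hr') x⁻¹ (V.inv_mem hx)
    rw [inv_inv] at h7
    exact V.mul_mem h7 hx
  have h8 := D.vp _ h6 (by
    rw [h1]
    exact P.mul_mem (P.mul_mem (P.mul_mem hp (P.inv_mem hr)) (P.inv_mem hp)) hr')
  have h9 : x * r' = r' * x := by
    calc x * r' = x * r' * (r'⁻¹ * x⁻¹ * r' * x) := by rw [h8, mul_one]
      _ = r' * x := by group
  refine ⟨?_, h9⟩
  have h10 : x * (p * r) = x * (r' * p) := by
    calc x * (p * r) = x * p * r := by group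
      _ = r' * (x * p) := h
      _ = (r' * x) * p := by group
      _ = (x * r') * p := by rw [h9]
      _ = x * (r' * p) := by group
  exact mul_left_cancel h10

omit D in
theorem orderp {p r : G} {n : ℕ} (h : orderOf r = n) : orderOf (p⁻¹ * r * p) = n := by
  have h1 : p⁻¹ * r * p = MulAut.conj p⁻¹ r := by rw [MulAut.conj_apply, inv_inv]
  rw [h1, MulEquiv.orderOf_eq, h]

/-- a coset `c K` fixed by `r` -/
theorem Dat.cosetK {c r : G} (hc : c ∉ K) (hr : r ∈ P) {n m : ℕ} (hn : n.Prime) (hor : orderOf r = n) (hn' : n = 11 ∨ n = 23)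
    (hm : 253 = n * m) (hm' : ¬ n ∣ m) (hrc : c⁻¹ * r * c ∈ K) (hri : i⁻¹ * r * i ∈ K) :
    ∃ m1 ∈ P, (∃ k : ℕ, m1 * r = r ^ k * m1) ∧ i⁻¹ * m1⁻¹ * c ∈ K := by
  haveI : Fact n.Prime := ⟨hn⟩
  have hr1 : r ≠ 1 := by
    intro h
    rw [h, orderOf_one] at hor
    exact hn.one_lt.ne hor
  have hrn : r ^ n = 1 := by rw [← hor, pow_orderOf_eq_one]
  obtain ⟨p, hp, k, hk, he⟩ := D.orb c hc r hr hr1 (by rcases hn' with h | h <;> rw [h] at hrn <;> tauto) hrc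
  have h1 : r ∈ St P K i := ⟨hr, hri⟩
  have h2 : p⁻¹ * r * p ∈ St P K i := by
    refine ⟨P.mul_mem (P.mul_mem (P.inv_mem hp) hr) hp, ?_⟩
    have h3 := K.mul_mem (K.mul_mem hk hrc) (K.inv_mem hk)
    rwa [he, show k * ((p * i * k)⁻¹ * r * (p * i * k)) * k⁻¹ = i⁻¹ * (p⁻¹ * r * p) * i by group] at h3
  obtain ⟨s, hs, N, hN⟩ := sylq (S := St P K i) (q := n) (m := m) (by rw [D.card, hm]) hm' h1 h2 hor (orderp hor)
  refine ⟨p * s, P.mul_mem hp hs.1, ⟨N, ?_⟩, ?_⟩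
  · have h3 : p * (s * r * s⁻¹) * p⁻¹ = r ^ N := by
      rw [hN]
      have h4 : (p⁻¹ * r * p) ^ N = p⁻¹ * r ^ N * p := by
        have := conj_pow (i := N) (a := p⁻¹) (b := r)
        rw [inv_inv] at this
        exact this
      rw [h4]; group
    rw [← h3]; group
  · have h3 := K.mul_mem (K.inv_mem hs.2) hk
    rwa [show (i⁻¹ * s * i)⁻¹ * k = i⁻¹ * (p * s)⁻¹ * (p * i * k) by group, ← he] at h3

theorem Dat.iinv : i⁻¹ = i := inv_eq_of_mul_eq_one_left D.i2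

theorem Dat.gi : i⁻¹ * g * i = g⁻¹ := by
  have h1 : g * i = i * g⁻¹ := by
    calc g * i = i * (i * g) * i := by rw [← mul_assoc, D.i2, one_mul]
      _ = i * (g⁻¹ * i) * i := by rw [D.ig]
      _ = i * g⁻¹ * (i * i) := by group
      _ = i * g⁻¹ := by rw [D.i2, mul_one]
  rw [mul_assoc, h1]; group

theorem Dat.bi : i⁻¹ * b * i = b := by
  rw [mul_assoc, ← D.ib]; group

/-- the centralizer of `g` -/
theorem Dat.CG {c : G} (h : c * g = g * c) : ∃ n : ℕ, c = g ^ n := by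
  by_cases hc : c ∈ K
  · obtain ⟨x, hx, p, hp, he⟩ := D.kv c hc
    rw [he] at h
    obtain ⟨h1, h2⟩ := D.split hx hp D.gP D.gP h
    have h3 := D.Cg x hx h2
    obtain ⟨a, c', hc', h4, h5⟩ := D.A' hp (k := 1) (by rw [pow_one]; exact h1)
    have h6 : c' = 0 := by
      have : ∀ c' < 11, 1 % 23 = 13 ^ c' % 23 → c' = 0 := by decide
      exact this c' hc' h5
    exact ⟨a, by rw [he, h3, h4, h6, pow_zero, mul_one, one_mul]⟩
  · exfalso
    have h0 : c⁻¹ * g * c = g := by rw [mul_assoc, ← h]; group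
    obtain ⟨m1, hm1, ⟨k, hk⟩, hK⟩ := D.cosetK hc D.gP (n := 23) (m := 11) (by norm_num) D.ordg (Or.inr rfl) (by norm_num)
      (by norm_num) (by rw [h0]; exact D.PK D.gP) (by rw [D.gi]; exact K.inv_mem (D.PK D.gP))
    obtain ⟨a, c', _, h1, _⟩ := D.A' hm1 hk
    have h2 : i⁻¹ * m1 * i ∈ K := by
      have h3 : i⁻¹ * m1 * i = (i⁻¹ * g * i) ^ a * (i⁻¹ * b * i) ^ c' := by
        have e1 : (i⁻¹ * g * i) ^ a = i⁻¹ * g ^ a * i := by
          have := conj_pow (i := a) (a := i⁻¹) (b := g)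
          rwa [inv_inv] at this
        have e2 : (i⁻¹ * b * i) ^ c' = i⁻¹ * b ^ c' * i := by
          have := conj_pow (i := c') (a := i⁻¹) (b := b)
          rwa [inv_inv] at this
        rw [e1, e2, h1]; group
      rw [h3, D.gi, D.bi]
      exact D.PK (P.mul_mem (P.pow_mem (P.inv_mem D.gP) _) (P.pow_mem D.bP _))
    have h3 : i⁻¹ * c ∈ K := by
      have h4 := K.mul_mem h2 hK
      rwa [show i⁻¹ * m1 * i * (i⁻¹ * m1⁻¹ * c) = i⁻¹ * c by group] at h4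
    obtain ⟨x, hx, p, hp, he⟩ := D.kv _ h3
    have h4 : i⁻¹ * c * g = g⁻¹ * (i⁻¹ * c) := by
      calc i⁻¹ * c * g = i⁻¹ * (c * g) := by group
        _ = i⁻¹ * (g * c) := by rw [h]
        _ = (i⁻¹ * g * i) * (i⁻¹ * c) := by group
        _ = g⁻¹ * (i⁻¹ * c) := by rw [D.gi]
    rw [he] at h4
    obtain ⟨h5, _⟩ := D.split hx hp D.gP (P.inv_mem D.gP) h4
    have h6 : g⁻¹ = g ^ 22 := by
      rw [inv_eq_iff_mul_eq_one, ← pow_succ']
      exact D.g23
    rw [h6] at h5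
    obtain ⟨_, c'', hc'', _, h7⟩ := D.A' hp h5
    have : ∀ c' < 11, 22 % 23 = 13 ^ c' % 23 → False := by decide
    exact this c'' hc'' h7

/-- the centralizer of `b` and `v` -/
theorem Dat.CBV {c : G} (h : c * b = b * c) (hv : c * v = v * c) : ∃ n : ℕ, c = b ^ n ∨ c = v * b ^ n := by
  by_cases hc : c ∈ K
  · obtain ⟨x, hx, p, hp, he⟩ := D.kv c hc
    rw [he] at h
    obtain ⟨h1, h2⟩ := D.split hx hp D.bP D.bP h
    obtain ⟨n, hn⟩ := D.B p hp h1
    refine ⟨n, ?_⟩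
    rcases D.Cb x hx h2 with h3 | h3
    · left; rw [he, h3, hn, one_mul]
    · right; rw [he, h3, hn]
  · exfalso
    have h0 : c⁻¹ * b * c = b := by rw [mul_assoc, ← h]; group
    obtain ⟨m1, hm1, ⟨k, hk⟩, hK⟩ := D.cosetK hc D.bP (n := 11) (m := 23) (by norm_num) D.ordb (Or.inl rfl) (by norm_num)
      (by norm_num) (by rw [h0]; exact D.PK D.bP) (by rw [D.bi]; exact D.PK D.bP)
    have h1 : m1⁻¹ * v * m1 ∈ V := by
      have := D.nV m1⁻¹ (P.inv_mem hm1) v D.vV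
      rwa [inv_inv] at this
    have hvk : v * b ^ k = b ^ k * v := ((show Commute v b from D.vb).pow_right k).eq
    have h2 : m1⁻¹ * v * m1 * b = b * (m1⁻¹ * v * m1) := by
      calc m1⁻¹ * v * m1 * b = m1⁻¹ * v * (m1 * b) := by group
        _ = m1⁻¹ * v * (b ^ k * m1) := by rw [hk]
        _ = m1⁻¹ * (v * b ^ k) * m1 := by group
        _ = m1⁻¹ * (b ^ k * v) * m1 := by rw [hvk]
        _ = m1⁻¹ * (b ^ k * m1) * m1⁻¹ * v * m1 := by group
        _ = m1⁻¹ * (m1 * b) * m1⁻¹ * v * m1 := by rw [hk]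
        _ = b * (m1⁻¹ * v * m1) := by group
    have h3 : m1⁻¹ * v * m1 = v := by
      rcases D.Cb _ h1 h2 with h4 | h4
      · exfalso
        apply D.v1
        calc v = m1 * (m1⁻¹ * v * m1) * m1⁻¹ := by group
          _ = 1 := by rw [h4]; group
      · exact h4
    have h4 : i⁻¹ * v * i ∈ K := by
      have h5 := K.mul_mem (K.mul_mem hK (D.VK D.vV)) (K.inv_mem hK)
      have h6 : i⁻¹ * m1⁻¹ * c * v * (i⁻¹ * m1⁻¹ * c)⁻¹ = i⁻¹ * v * i := by
        calc i⁻¹ * m1⁻¹ * c * v * (i⁻¹ * m1⁻¹ * c)⁻¹ = i⁻¹ * m1⁻¹ * (c * v) * c⁻¹ * m1 * i := by group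
          _ = i⁻¹ * m1⁻¹ * (v * c) * c⁻¹ * m1 * i := by rw [hv]
          _ = i⁻¹ * (m1⁻¹ * v * m1) * i := by group
          _ = i⁻¹ * v * i := by rw [h3]
      rwa [h6] at h5
    rw [D.iinv] at h4
    exact D.ivi h4

/-- the centralizer of `b` and `i` -/
theorem Dat.CBI {c : G} (h : c * b = b * c) (hi : c * i = i * c) : ∃ n l : ℕ, n < 11 ∧ l < 2 ∧ c = b ^ n * i ^ l := by
  have qb' : q⁻¹ * b * q = b := by rw [mul_assoc, ← D.qb]; group
  have qv' : q⁻¹ * i * q = v := by rw [mul_assoc, ← D.qv]; group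
  have h1 : (q⁻¹ * c * q) * b = b * (q⁻¹ * c * q) := by
    calc (q⁻¹ * c * q) * b = q⁻¹ * c * (q * b) := by group
      _ = q⁻¹ * c * (b * q) := by rw [D.qb]
      _ = q⁻¹ * (c * b) * q := by group
      _ = q⁻¹ * (b * c) * q := by rw [h]
      _ = (q⁻¹ * b * q) * (q⁻¹ * c * q) := by group
      _ = b * (q⁻¹ * c * q) := by rw [qb']
  have h2 : (q⁻¹ * c * q) * v = v * (q⁻¹ * c * q) := by
    calc (q⁻¹ * c * q) * v = q⁻¹ * c * (q * v) := by group
      _ = q⁻¹ * c * (i * q) := by rw [D.qv]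
      _ = q⁻¹ * (c * i) * q := by group
      _ = q⁻¹ * (i * c) * q := by rw [hi]
      _ = (q⁻¹ * i * q) * (q⁻¹ * c * q) := by group
      _ = v * (q⁻¹ * c * q) := by rw [qv']
  obtain ⟨n, hn⟩ := D.CBV h1 h2
  have hqn : q * b ^ n = b ^ n * q := ((show Commute q b from D.qb).pow_right n).eq
  rcases hn with hn | hn
  · refine ⟨n % 11, 0, Nat.mod_lt _ (by norm_num), by norm_num, ?_⟩
    rw [← D.bmod, pow_zero, mul_one]
    calc c = q * (q⁻¹ * c * q) * q⁻¹ := by group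
      _ = q * b ^ n * q⁻¹ := by rw [hn]
      _ = b ^ n := by rw [hqn]; group
  · refine ⟨n % 11, 1, Nat.mod_lt _ (by norm_num), by norm_num, ?_⟩
    rw [← D.bmod, pow_one]
    have hin : i * b ^ n = b ^ n * i := ((show Commute i b from D.ib).pow_right n).eq
    calc c = q * (q⁻¹ * c * q) * q⁻¹ := by group
      _ = (q * v) * b ^ n * q⁻¹ := by rw [hn]; group
      _ = i * (q * b ^ n) * q⁻¹ := by rw [D.qv]; group
      _ = i * b ^ n := by rw [hqn]; group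
      _ = b ^ n * i := hin

/-! ### automorphisms -/

theorem Dat.gfix {n : ℕ} (h : g ^ n = 1) : n % 23 = 0 := by
  have := D.ginj (m := n) (n := 0) (by rw [h, pow_zero])
  simpa using this

theorem Dat.ugn (k n : ℕ) : (b * i) ^ k * g ^ n * ((b * i) ^ k)⁻¹ = g ^ (10 ^ k * n) := by
  have h1 : ∀ n : ℕ, (b * i) * g ^ n * (b * i)⁻¹ = g ^ (10 * n) := by
    intro n
    have h2 : (b * i) * g * (b * i)⁻¹ = g ^ 10 := by
      calc (b * i) * g * (b * i)⁻¹ = b * (i * g) * (b * i)⁻¹ := by group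
        _ = b * (g⁻¹ * i) * (b * i)⁻¹ := by rw [D.ig]
        _ = (b * g * b⁻¹)⁻¹ := by group
        _ = (g ^ 13)⁻¹ := by rw [D.bg]; group
        _ = g ^ 10 := by
          rw [inv_eq_iff_mul_eq_one, ← pow_add]
          exact D.g23
    rw [pow_mul, ← h2, conj_pow]
  induction k with
  | zero => rw [pow_zero, one_mul, inv_one, mul_one, pow_zero, one_mul]
  | succ k ih =>
    have aux : ∀ u : G, u ^ (k + 1) * g ^ n * (u ^ (k + 1))⁻¹ = u * (u ^ k * g ^ n * (u ^ k)⁻¹) * u⁻¹ := fun u => by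
      rw [pow_succ']; group
    calc (b * i) ^ (k + 1) * g ^ n * ((b * i) ^ (k + 1))⁻¹
        = (b * i) * ((b * i) ^ k * g ^ n * ((b * i) ^ k)⁻¹) * (b * i)⁻¹ := aux (b * i)
      _ = g ^ (10 ^ (k + 1) * n) := by rw [ih, h1, pow_succ', mul_assoc]

/-- an automorphism fixing `g` and `b` -/
theorem Dat.step3 (φ : G ≃* G) (hg : φ g = g) (hb : φ b = b) : ∀ y, φ y = y := by
  have hi : φ i = i := by
    have h1 : φ i * g = g⁻¹ * φ i := by
      calc φ i * g = φ (i * g) := by rw [map_mul, hg]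
        _ = φ (g⁻¹ * i) := by rw [D.ig]
        _ = g⁻¹ * φ i := by rw [map_mul, map_inv, hg]
    have h2 : (φ i * i⁻¹) * g = g * (φ i * i⁻¹) := by
      have h3 : i⁻¹ * g = g⁻¹ * i⁻¹ := by
        calc i⁻¹ * g = (i⁻¹ * g * i) * i⁻¹ := by group
          _ = g⁻¹ * i⁻¹ := by rw [D.gi]
      have h4 : φ i * g⁻¹ = g * φ i := by
        calc φ i * g⁻¹ = g * (g⁻¹ * φ i) * g⁻¹ := by group
          _ = g * (φ i * g) * g⁻¹ := by rw [h1]
          _ = g * φ i := by group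
      rw [mul_assoc, h3, ← mul_assoc, h4, mul_assoc]
    obtain ⟨n, hn⟩ := D.CG h2
    have h5 : φ i = g ^ n * i := by rw [← hn]; group
    have h6 : φ i * b = b * φ i := by
      calc φ i * b = φ (i * b) := by rw [map_mul, hb]
        _ = φ (b * i) := by rw [D.ib]
        _ = b * φ i := by rw [map_mul, hb]
    rw [h5] at h6
    have h7 : g ^ n * (b * i) = g ^ (13 * n) * (b * i) := by
      calc g ^ n * (b * i) = g ^ n * (i * b) := by rw [D.ib]
        _ = g ^ n * i * b := by group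
        _ = b * (g ^ n * i) := h6
        _ = (b * g ^ n) * i := by group
        _ = g ^ (13 * n) * (b * i) := by rw [D.bgn]; group
    have h8 := D.ginj (mul_right_cancel h7)
    have h9 : n % 23 = 0 := by omega
    rw [h5, D.gmod n, h9, pow_zero, one_mul]
  have hf : φ f = f := by
    have h1 : φ f * b = b ^ 2 * φ f := by
      calc φ f * b = φ (f * b) := by rw [map_mul, hb]
        _ = φ (b ^ 2 * f) := by rw [D.fb]
        _ = b ^ 2 * φ f := by rw [map_mul, map_pow, hb]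
    have h2 : φ f * i = i * φ f := by
      calc φ f * i = φ (f * i) := by rw [map_mul, hi]
        _ = φ (i * f) := by rw [D.fi]
        _ = i * φ f := by rw [map_mul, hi]
    have h3 : (φ f * f⁻¹) * b ^ 2 = b ^ 2 * (φ f * f⁻¹) := by
      have h4 : f⁻¹ * b ^ 2 = b * f⁻¹ := by
        calc f⁻¹ * b ^ 2 = f⁻¹ * (b ^ 2 * f) * f⁻¹ := by group
          _ = f⁻¹ * (f * b) * f⁻¹ := by rw [D.fb]
          _ = b * f⁻¹ := by group
      rw [mul_assoc, h4, ← mul_assoc, h1, mul_assoc]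
    have h4 : (φ f * f⁻¹) * b = b * (φ f * f⁻¹) := by
      have h5 : b = (b ^ 2) ^ 6 := by
        rw [← pow_mul, show 2 * 6 = 11 + 1 from rfl, pow_add, D.b11, one_mul, pow_one]
      have h6 := (show Commute (φ f * f⁻¹) (b ^ 2) from h3).pow_right 6
      rw [← h5] at h6
      exact h6.eq
    have h5 : (φ f * f⁻¹) * i = i * (φ f * f⁻¹) := by
      have h6 : f⁻¹ * i = i * f⁻¹ := by
        calc f⁻¹ * i = f⁻¹ * (i * f) * f⁻¹ := by group
          _ = f⁻¹ * (f * i) * f⁻¹ := by rw [D.fi]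
          _ = i * f⁻¹ := by group
      rw [mul_assoc, h6, ← mul_assoc, h2, mul_assoc]
    obtain ⟨n, l, hn, hl, he⟩ := D.CBI h4 h5
    have h6 : φ f = b ^ n * i ^ l * f := by rw [← he]; group
    have h7 : ((b ^ n * i ^ l * f) ^ 5 * g) ^ 3 = 1 := by
      rw [← h6, ← map_pow]
      have h8 : φ (f ^ 5) * g = φ (f ^ 5 * g) := by rw [map_mul, hg]
      rw [h8, ← map_pow, D.fg, map_one]
    obtain ⟨h8, h9⟩ := D.fg' n l hn hl h7
    rw [h6, h8, h9, pow_zero, pow_zero, one_mul, one_mul]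
  have h1 : ∀ y ∈ Subgroup.closure {g, b, i, f}, φ y = y := by
    intro y hy
    induction hy using Subgroup.closure_induction with
    | mem x hx =>
      rcases hx with rfl | rfl | rfl | rfl
      · exact hg
      · exact hb
      · exact hi
      · exact hf
    | one => exact map_one φ
    | mul a b _ _ ha hb => rw [map_mul, ha, hb]
    | inv a _ ha => rw [map_inv, ha]
  intro y
  exact h1 y (by rw [D.gen]; trivial)

theorem Dat.isInn (φ : G ≃* G) : IsInn φ := by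
  obtain ⟨m, hm, hm'⟩ := D.cardG
  haveI : Fact (Nat.Prime 23) := ⟨by norm_num⟩
  have ho : orderOf (φ g) = 23 := by rw [MulEquiv.orderOf_eq, D.ordg]
  obtain ⟨s, _, n, hn⟩ := sylq (S := (⊤ : Subgroup G)) (q := 23) (m := m)
    (by rw [Nat.card_congr (Subgroup.topEquiv : (⊤ : Subgroup G) ≃* G).toEquiv, hm]) hm' (r1 := φ g) (r2 := g) trivial trivial ho D.ordg
  obtain ⟨ψ, hψ⟩ := exists_conj φ s
  refine inn_conj s hψ ?_
  have h1 : ψ g = g ^ (n % 23) := by rw [hψ, hn, D.gmod]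
  clear hψ hn ho
  have hn0 : n % 23 ≠ 0 := by
    intro h0
    rw [h0, pow_zero] at h1
    exact D.g1 (ψ.injective (by rw [h1, map_one]))
  obtain ⟨k, hk⟩ : ∃ k, (10 ^ k * (n % 23)) % 23 = 1 := by
    have : ∀ n < 23, n ≠ 0 → ∃ k < 22, (10 ^ k * n) % 23 = 1 := by decide +kernel
    obtain ⟨k, _, hk⟩ := this (n % 23) (Nat.mod_lt _ (by norm_num)) hn0
    exact ⟨k, hk⟩
  obtain ⟨χ, hχ⟩ := exists_conj ψ ((b * i) ^ k)
  refine inn_conj _ hχ ?_
  have h2 : χ g = g := by rw [hχ, h1, D.ugn, D.gmod, hk, pow_one]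
  clear hχ h1 hk
  have h3 : (b⁻¹ * χ b) * g = g * (b⁻¹ * χ b) := by
    have h4 : χ b * g = g ^ 13 * χ b := by
      calc χ b * g = χ (b * g) := by rw [map_mul, h2]
        _ = χ (g ^ 13 * b) := by rw [D.bg]
        _ = g ^ 13 * χ b := by rw [map_mul, map_pow, h2]
    have h5 : b⁻¹ * g ^ 13 = g * b⁻¹ := by
      calc b⁻¹ * g ^ 13 = b⁻¹ * (g ^ 13 * b) * b⁻¹ := by group
        _ = b⁻¹ * (b * g) * b⁻¹ := by rw [D.bg]
        _ = g * b⁻¹ := by group
    rw [mul_assoc, h4, ← mul_assoc, h5, mul_assoc]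
  obtain ⟨m', hm''⟩ := D.CG h3
  have h4 : χ b = b * g ^ m' := by rw [← hm'']; group
  obtain ⟨l, hl⟩ : ∃ l, (13 * (m' % 23 + 22 * l) + l) % 23 = 0 := by
    have : ∀ n < 23, ∃ l < 23, (13 * (n + 22 * l) + l) % 23 = 0 := by decide +kernel
    obtain ⟨l, _, hl⟩ := this (m' % 23) (Nat.mod_lt _ (by norm_num))
    exact ⟨l, hl⟩
  obtain ⟨θ, hθ⟩ := exists_conj χ (g ^ l)
  refine inn_conj _ hθ ?_
  have h5 : θ g = g := by
    rw [hθ, h2]
    group
  have h6 : θ b = b := by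
    rw [hθ, h4]
    have h7 : (g ^ l)⁻¹ = g ^ (22 * l) := by
      rw [inv_eq_iff_mul_eq_one, ← pow_add, show l + 22 * l = 23 * l by ring, pow_mul, D.g23, one_pow]
    rw [h7, D.gmod m']
    calc g ^ l * (b * g ^ (m' % 23)) * g ^ (22 * l) = g ^ l * (b * g ^ (m' % 23 + 22 * l)) := by
          rw [pow_add]; group
      _ = g ^ (13 * (m' % 23 + 22 * l) + l) * b := by
          rw [D.bgn, ← mul_assoc, ← pow_add, add_comm]
      _ = b := by rw [D.gmod, hl, pow_zero, one_mul]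
  exact ⟨1, fun y => by rw [D.step3 θ h5 h6]; group⟩

theorem Dat.card_out : Nat.card (Cfsg.Out G) = 1 := by
  rw [Nat.card_eq_one_iff_unique]
  refine ⟨⟨fun a b => ?_⟩, ⟨1⟩⟩
  induction a using QuotientGroup.induction_on with | _ φ => ?_
  induction b using QuotientGroup.induction_on with | _ ψ => ?_
  rw [QuotientGroup.eq]
  obtain ⟨g, hg⟩ := D.isInn (φ⁻¹ * ψ : MulAut G)
  refine ⟨g, ?_⟩
  ext y
  rw [MulAut.conj_apply]
  exact (hg y).symm

end

end Cfsg.Agent.Lib.H72J4A
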