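import Cfsg.Agent.Lib.H3J4P

/-!
Permutations of 24 points for the subgroup `<x, y>` of the presented group `J4`: normalizer of an element of order 23
and centralizer of an element of order 11 (helper72).
-/

set_option autoImplicit false
set_option linter.all false
set_option maxRecDepth 100000

namespace Cfsg.Agent.Lib.H72J4M

open Cfsg Cfsg.Agent.Lib.Golay Cfsg.Agent.Lib.H3M24 Cfsg.Agent.Lib.H3TC Cfsg.Agent.Lib.J4RhoHom Cfsg.Agent.Lib.J4Main
open Cfsg.Agent.Lib.J4Words Cfsg.Agent.Lib.H3J4P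

theorem inM_of_mem {c : ℕ} (hv : valid c = true) (h : toPerm c ∈ M24) : inM c = true := by
  have h1 : ∀ m, m < 2 ^ 24 → isCode m = true → isCode (imgM c m) = true := by
    intro m hm hc
    have h2 := (smul_mem_supports_iff h (mset m)).2 ((mset_mem_supports_iff hm).2 hc)
    rw [toPerm_smul_mset hv, mset_mem_supports_iff (imgM_lt hv _)] at h2
    exact h2
  unfold inM
  simp only [cond_false_eq]
  exact ⟨hv, h1 _ (by norm_num) (by decide +kernel), h1 _ (by norm_num) (by decide +kernel),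
    h1 _ (by norm_num) (by decide +kernel), h1 _ (by norm_num) (by decide +kernel),
    h1 _ (by norm_num) (by decide +kernel), h1 _ (by norm_num) (by decide +kernel),
    h1 _ (by norm_num) (by decide +kernel), h1 _ (by norm_num) (by decide +kernel),
    h1 _ (by norm_num) (by decide +kernel), h1 _ (by norm_num) (by decide +kernel),
    h1 _ (by norm_num) (by decide +kernel), h1 _ (by norm_num) (by decide +kernel)⟩

theorem pack_congr {f g : ℕ → ℕ} (k : ℕ) (h : ∀ i < k, f i = g i) : pack f k = pack g k := by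
  induction k with
  | zero => rfl
  | succ k ih =>
    show Nat.lor (Nat.shiftLeft (f k) (Nat.mul 5 k)) (pack f k) = Nat.lor (Nat.shiftLeft (g k) (Nat.mul 5 k)) (pack g k)
    rw [h k (Nat.lt_succ_self k), ih (fun i hi => h i (Nat.lt_succ_of_lt hi))]

theorem code_of (σ : Equiv.Perm GolayPt) : valid (pack (fun n => ix (σ (pt n))) 24) = true ∧
    σ = toPerm (pack (fun n => ix (σ (pt n))) 24) := by
  have hf : ∀ i, ix (σ (pt i)) < 32 := fun i => lt_trans (ix_lt _) (by norm_num)
  have hi := img_pack (fun n => ix (σ (pt n))) hf 24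
  have hv : valid (pack (fun n => ix (σ (pt n))) 24) = true := by
    apply valid_of_surj
    · intro i h
      rw [hi i h]
      exact ix_lt _
    · intro j hj
      refine ⟨ix (σ⁻¹ (pt j)), ix_lt _, ?_⟩
      rw [hi _ (ix_lt _), pt_ix, perm_apply_inv, ix_pt hj]
  refine ⟨hv, perm_eq_toPerm hv (fun p => ?_)⟩
  rw [hi _ (ix_lt p), pt_ix, pt_ix]

/-- powers of codes -/
def cpw (c n : ℕ) : ℕ := Nat.rec (motive := fun _ => ℕ) cId (fun _ r => mulC c r) n

theorem cpw_spec {c : ℕ} (hc : valid c = true) (n : ℕ) : valid (cpw c n) = true ∧ toPerm (cpw c n) = toPerm c ^ n := by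
  induction n with
  | zero => exact ⟨valid_of_inM inM_cId, by rw [pow_zero]; exact toPerm_cId⟩
  | succ n ih =>
    refine ⟨valid_mulC hc ih.1, ?_⟩
    show toPerm (mulC c (cpw c n)) = _
    rw [toPerm_mulC hc ih.1, ih.2, ← pow_succ']

/-- letters to codes -/
def lcd (c : ℕ) : ℕ := cond (Nat.beq c 0) cs (cond (Nat.beq c 1) ct ct2)

/-- the code of a word -/
def cw (l : List ℕ) : ℕ := l.foldr (fun c r => mulC (lcd c) r) cId

theorem valid_lcd (c : ℕ) : valid (lcd c) = true := by
  unfold lcd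
  cases Nat.beq c 0
  · cases Nat.beq c 1
    · exact valid_ct2
    · exact valid_ct
  · exact valid_cs

theorem valid_cw (l : List ℕ) : valid (cw l) = true := by
  induction l with
  | nil => exact valid_of_inM inM_cId
  | cons c l ih => exact valid_mulC (valid_lcd c) ih

theorem toPerm_cw_cons (c : ℕ) (l : List ℕ) : toPerm (cw (c :: l)) = toPerm (lcd c) * toPerm (cw l) :=
  toPerm_mulC (valid_lcd c) (valid_cw l)

/-- the element of order 11 as a word -/
def bW : List ℕ := [1, 0, 3, 0, 3, 0, 3, 0, 1, 0, 1, 0, 3, 0, 3, 0, 3, 0, 1, 0, 1, 0, 3, 0, 3, 0, 3, 0, 3, 0, 3, 0, 1, 0, 1, 0, 1, 0, 1, 0, 1, 0, 3, 0, 3, 0, 3]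

/-- code of the element of order 23 -/
def cg : ℕ := 603141048731193510827035828954044519
/-- code of the element of order 11 -/
def cb : ℕ := 760808475472297729142450426639549809

theorem cg_eq : cw [0, 1] = cg := by decide +kernel
theorem cb_eq : cw bW = cb := by decide +kernel
theorem valid_cg : valid cg = true := by decide +kernel
theorem valid_cb : valid cb = true := by decide +kernel

/-- tables -/
def orbT : ℕ := 597184158656257626955240890148167
def posT : ℕ := 851747440785126938716263914657133142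
def AT : ℕ := 21091124224595488
def BT : ℕ := 2927267686011233
def clT : ℕ := 87056026368702309758785258969435234
def poT : ℕ := 381798982632608731602967458208720896

/-- the image of `n` -/
def FA (k a n : ℕ) : ℕ := cond (Nat.beq n 13) 13 (img orbT ((a + k * img posT n) % 23))

/-- the cycle -/
def cyT (u : Bool) : ℕ := cond u BT AT

/-- the image of `n` -/
def FB (s u : Bool) (a : ℕ) (u' : Bool) (a' n : ℕ) : ℕ :=
  cond (Nat.beq n 13) (cond s 7 13) (cond (Nat.beq n 7) (cond s 13 7)
    (cond (Nat.beq (img clT n) 2) (img (cyT u) ((a + img poT n) % 11)) (img (cyT u') ((a' + img poT n) % 11))))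

theorem beqF {a b : ℕ} (h : a ≠ b) : Nat.beq a b = false := by
  cases h' : Nat.beq a b
  · rfl
  · exact absurd (Nat.eq_of_beq_eq_true h') h

/-- exists a number -/
def anyLt (k : ℕ) (f : ℕ → Bool) : Bool := Nat.rec (motive := fun _ => Bool) false (fun i ih => cond (f i) true ih) k

theorem anyLt_iff {k : ℕ} {f : ℕ → Bool} (h : anyLt k f = true) : ∃ i < k, f i = true := by
  induction k with
  | zero => exact absurd (show false = true from h) (by decide)
  | succ k ih =>
    have h1 : cond (f k) true (anyLt k f) = true := h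
    cases h2 : f k
    · rw [h2] at h1
      obtain ⟨i, hi, h3⟩ := ih h1
      exact ⟨i, Nat.lt_succ_of_lt hi, h3⟩
    · exact ⟨k, Nat.lt_succ_self k, h2⟩

def chA (k a : ℕ) : Bool := cond (inM (pack (FA k a) 24))
  (anyLt 11 fun c => Nat.beq (pack (FA k a) 24) (mulC (cpw cg a) (cpw cb c))) true

def chB (s u : Bool) (a : ℕ) (u' : Bool) (a' : ℕ) : Bool := cond (inM (pack (FB s u a u' a') 24))
  (anyLt 11 fun c => Nat.beq (pack (FB s u a u' a') 24) (cpw cb c)) true

theorem okA : allLt 23 (fun k => allLt 23 fun a => chA k a) = true := by decide +kernel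

def bl (n : ℕ) : Bool := Nat.beq n 1

theorem okB : allLt 2 (fun s => allLt 2 fun u => allLt 11 fun a => allLt 2 fun u' => allLt 11 fun a' =>
  chB (bl s) (bl u) a (bl u') a') = true := by decide +kernel

theorem okB' (s u : Bool) (a : ℕ) (ha : a < 11) (u' : Bool) (a' : ℕ) (ha' : a' < 11) : chB s u a u' a' = true := by
  have h := okB
  rw [allLt_iff] at h
  have h1 := h (cond s 1 0) (by cases s <;> decide)
  rw [allLt_iff] at h1
  have h2 := h1 (cond u 1 0) (by cases u <;> decide)
  rw [allLt_iff] at h2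
  have h3 := h2 a ha
  rw [allLt_iff] at h3
  have h4 := h3 (cond u' 1 0) (by cases u' <;> decide)
  rw [allLt_iff] at h4
  have h5 := h4 a' ha'
  have e : ∀ s : Bool, bl (cond s 1 0) = s := by decide
  rwa [e, e, e] at h5

theorem okA' (k a : ℕ) (hk : k < 23) (ha : a < 23) : chA k a = true := by
  have h := okA
  rw [allLt_iff] at h
  have h1 := h k hk
  rw [allLt_iff] at h1
  exact h1 a ha

theorem orb_lt : ∀ j < 23, img orbT j < 24 := by decide +kernel
theorem orb_step : ∀ j < 23, img cg (img orbT j) = img orbT ((j + 1) % 23) := by decide +kernel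
theorem orb_all : ∀ n < 24, n = 13 ∨ (img posT n < 23 ∧ img orbT (img posT n) = n) := by decide +kernel
theorem orb_inj : ∀ j < 23, img orbT j ≠ 13 ∧ img posT (img orbT j) = j := by decide +kernel
theorem g13 : img cg 13 = 13 := by decide +kernel

theorem cyc_lt : ∀ u : Bool, ∀ j < 11, img (cyT u) j < 24 := by decide +kernel
theorem cyc_step : ∀ u : Bool, ∀ j < 11, img cb (img (cyT u) j) = img (cyT u) ((j + 1) % 11) := by decide +kernel
theorem cyc_all : ∀ n < 24, n = 13 ∨ n = 7 ∨ (n ≠ 13 ∧ n ≠ 7 ∧ img clT n = 2 ∧ img poT n < 11 ∧ img AT (img poT n) = n) ∨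
    (n ≠ 13 ∧ n ≠ 7 ∧ img clT n ≠ 2 ∧ img poT n < 11 ∧ img BT (img poT n) = n) := by decide +kernel
theorem cyc_ne : ∀ u : Bool, ∀ j < 11, img (cyT u) ((j + 1) % 11) ≠ img (cyT u) j := by decide +kernel
theorem b13 : img cb 13 = 13 ∧ img cb 7 = 7 := by decide +kernel

theorem ga (j : ℕ) (hj : j < 23) : toPerm cg (pt (img orbT j)) = pt (img orbT ((j + 1) % 23)) := by
  rw [toPerm_pt valid_cg (orb_lt j hj), orb_step j hj]

theorem gpow (n j : ℕ) (hj : j < 23) : (toPerm cg ^ n) (pt (img orbT j)) = pt (img orbT ((j + n) % 23)) := by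
  induction n with
  | zero => rw [pow_zero, Equiv.Perm.one_apply, Nat.add_zero, Nat.mod_eq_of_lt hj]
  | succ n ih =>
    rw [pow_succ', Equiv.Perm.mul_apply, ih, ga _ (Nat.mod_lt _ (by norm_num))]
    congr 2
    omega

theorem ba (u : Bool) (j : ℕ) (hj : j < 11) : toPerm cb (pt (img (cyT u) j)) = pt (img (cyT u) ((j + 1) % 11)) := by
  rw [toPerm_pt valid_cb (cyc_lt u j hj), cyc_step u j hj]

theorem bpow (u : Bool) (n j : ℕ) (hj : j < 11) : (toPerm cb ^ n) (pt (img (cyT u) j)) = pt (img (cyT u) ((j + n) % 11)) := by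
  induction n with
  | zero => rw [pow_zero, Equiv.Perm.one_apply, Nat.add_zero, Nat.mod_eq_of_lt hj]
  | succ n ih =>
    rw [pow_succ', Equiv.Perm.mul_apply, ih, ba u _ (Nat.mod_lt _ (by norm_num))]
    congr 2
    omega

theorem pt_inj {i j : ℕ} (hi : i < 24) (hj : j < 24) (h : pt i = pt j) : i = j := by
  have := congrArg ix h
  rwa [ix_pt hi, ix_pt hj] at this

theorem g_fix {q : GolayPt} {k : ℕ} (hk : k < 23) (hk0 : k ≠ 0) (h : (toPerm cg ^ k) q = q) : q = pt 13 := by
  rcases orb_all (ix q) (ix_lt q) with h1 | ⟨h1, h2⟩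
  · rw [← pt_ix q, h1]
  · exfalso
    have h3 : q = pt (img orbT (img posT (ix q))) := by rw [h2, pt_ix]
    rw [h3, gpow _ _ h1] at h
    have h4 := pt_inj (orb_lt _ (Nat.mod_lt _ (by norm_num))) (orb_lt _ h1) h
    have h5 := congrArg (img posT) h4
    rw [(orb_inj _ (Nat.mod_lt _ (by norm_num))).2, (orb_inj _ h1).2] at h5
    omega

theorem lemA {σ : Equiv.Perm GolayPt} (hσ : σ ∈ M24) {k : ℕ} (hk : k < 23) (h : σ * toPerm cg = toPerm cg ^ k * σ) :
    ∃ a c : ℕ, a < 23 ∧ c < 11 ∧ σ = toPerm cg ^ a * toPerm cb ^ c := by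
  have h0 : ∀ q, σ (toPerm cg q) = (toPerm cg ^ k) (σ q) := fun q => by
    have := congrArg (fun τ : Equiv.Perm GolayPt => τ q) h
    exact this
  have e7 : img orbT 0 = 7 := by decide +kernel
  have hk0 : k ≠ 0 := by
    intro hk0
    subst hk0
    have h1 := h0 (pt (img orbT 0))
    rw [pow_zero, Equiv.Perm.one_apply, ga 0 (by norm_num)] at h1
    have h2 := pt_inj (orb_lt _ (by norm_num)) (orb_lt _ (by norm_num)) (σ.injective h1)
    exact absurd h2 (by decide +kernel)
  have h13 : σ (pt 13) = pt 13 := by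
    have h1 := h0 (pt 13)
    rw [toPerm_pt valid_cg (by norm_num), g13] at h1
    exact g_fix hk hk0 h1.symm
  obtain ⟨a, ha, h7⟩ : ∃ a < 23, σ (pt (img orbT 0)) = pt (img orbT a) := by
    rcases orb_all (ix (σ (pt (img orbT 0)))) (ix_lt _) with h1 | ⟨h1, h2⟩
    · exfalso
      have h2 : σ (pt (img orbT 0)) = σ (pt 13) := by rw [h13, ← h1, pt_ix]
      have h3 := pt_inj (orb_lt _ (by norm_num)) (by norm_num) (σ.injective h2)
      exact absurd h3 (by decide +kernel)
    · exact ⟨_, h1, by rw [h2, pt_ix]⟩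
  have hj : ∀ j, σ ((toPerm cg ^ j) (pt (img orbT 0))) = pt (img orbT ((a + k * j) % 23)) := by
    intro j
    induction j with
    | zero => rw [pow_zero, Equiv.Perm.one_apply, h7, Nat.mul_zero, Nat.add_zero, Nat.mod_eq_of_lt ha]
    | succ j ih =>
      rw [pow_succ', Equiv.Perm.mul_apply, h0, ih, gpow _ _ (Nat.mod_lt _ (by norm_num))]
      congr 2
      rw [Nat.mod_add_mod]
      congr 1
      ring
  have hF : ∀ n < 24, ix (σ (pt n)) = FA k a n := by
    intro n hn
    unfold FA
    rcases orb_all n hn with h1 | ⟨h1, h2⟩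
    · subst h1
      rw [h13, ix_pt (by norm_num)]
      rfl
    · have h3 : Nat.beq n 13 = false := by
        rw [← h2]
        exact beqF (orb_inj _ h1).1 
      rw [h3]
      have h4 : pt n = (toPerm cg ^ (img posT n)) (pt (img orbT 0)) := by
        rw [gpow _ _ (by norm_num), Nat.zero_add, Nat.mod_eq_of_lt h1, h2]
      rw [h4, hj, ix_pt (orb_lt _ (Nat.mod_lt _ (by norm_num)))]
      rfl
  obtain ⟨hv, hc⟩ := code_of σ
  rw [pack_congr 24 hF] at hv hc
  have hM : inM (pack (FA k a) 24) = true := inM_of_mem hv (by rw [← hc]; exact hσ)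
  have hch := okA' k a hk ha
  unfold chA at hch
  rw [hM, cond_true] at hch
  obtain ⟨c, hc1, hc2⟩ := anyLt_iff hch
  refine ⟨a, c, ha, hc1, ?_⟩
  rw [hc, Nat.eq_of_beq_eq_true hc2, toPerm_mulC (cpw_spec valid_cg a).1 (cpw_spec valid_cb c).1,
    (cpw_spec valid_cg a).2, (cpw_spec valid_cb c).2]

theorem lemB {σ : Equiv.Perm GolayPt} (hσ : σ ∈ M24) (h : σ * toPerm cb = toPerm cb * σ) :
    ∃ c : ℕ, c < 11 ∧ σ = toPerm cb ^ c := by
  have h0 : ∀ q, σ (toPerm cb q) = (toPerm cb) (σ q) := fun q => by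
    have := congrArg (fun τ : Equiv.Perm GolayPt => τ q) h
    exact this
  have hfx : ∀ q, toPerm cb q = q → q = pt 13 ∨ q = pt 7 := by
    intro q hq
    rcases cyc_all (ix q) (ix_lt q) with h1 | h1 | ⟨_, _, _, h1, h2⟩ | ⟨_, _, _, h1, h2⟩
    · left; rw [← h1, pt_ix]
    · right; rw [← h1, pt_ix]
    · exfalso
      have h3 : q = pt (img (cyT false) (img poT (ix q))) := by
        show q = pt (img AT (img poT (ix q)))
        rw [h2, pt_ix]
      rw [h3, ba false _ h1] at hq
      exact cyc_ne false _ h1 (pt_inj (cyc_lt _ _ (Nat.mod_lt _ (by norm_num))) (cyc_lt _ _ h1) hq)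
    · exfalso
      have h3 : q = pt (img (cyT true) (img poT (ix q))) := by
        show q = pt (img BT (img poT (ix q)))
        rw [h2, pt_ix]
      rw [h3, ba true _ h1] at hq
      exact cyc_ne true _ h1 (pt_inj (cyc_lt _ _ (Nat.mod_lt _ (by norm_num))) (cyc_lt _ _ h1) hq)
  have hb13 : toPerm cb (pt 13) = pt 13 := by rw [toPerm_pt valid_cb (by norm_num), b13.1]
  have hb7 : toPerm cb (pt 7) = pt 7 := by rw [toPerm_pt valid_cb (by norm_num), b13.2]
  have hne : pt 13 ≠ pt 7 := fun h1 => absurd (pt_inj (by norm_num) (by norm_num) h1) (by norm_num)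
  obtain ⟨s, h13, h7⟩ : ∃ s : Bool, σ (pt 13) = pt (cond s 7 13) ∧ σ (pt 7) = pt (cond s 13 7) := by
    have a1 := hfx (σ (pt 13)) (by rw [← h0, hb13])
    have a2 := hfx (σ (pt 7)) (by rw [← h0, hb7])
    rcases a1 with a1 | a1 <;> rcases a2 with a2 | a2
    · exact absurd (σ.injective (a1.trans a2.symm)) hne
    · exact ⟨false, a1, a2⟩
    · exact ⟨true, a1, a2⟩
    · exact absurd (σ.injective (a1.trans a2.symm)) hne
  have hcy : ∀ w : Bool, ∃ u : Bool, ∃ a < 11, σ (pt (img (cyT w) 0)) = pt (img (cyT u) a) := by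
    intro w
    have hnf : ∀ m, toPerm cb (pt m) = pt m → σ (pt (img (cyT w) 0)) ≠ pt m := by
      intro m hm h1
      have h2 : toPerm cb (σ (pt (img (cyT w) 0))) = σ (pt (img (cyT w) 0)) := by rw [h1, hm]
      rw [← h0, ba w 0 (by norm_num)] at h2
      exact cyc_ne w 0 (by norm_num) (pt_inj (cyc_lt _ _ (by norm_num)) (cyc_lt _ _ (by norm_num)) (σ.injective h2))
    rcases cyc_all (ix (σ (pt (img (cyT w) 0)))) (ix_lt _) with h1 | h1 | ⟨_, _, _, h1, h2⟩ | ⟨_, _, _, h1, h2⟩
    · exact absurd (by rw [← h1, pt_ix]) (hnf 13 hb13)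
    · exact absurd (by rw [← h1, pt_ix]) (hnf 7 hb7)
    · refine ⟨false, _, h1, ?_⟩
      show _ = pt (img AT _)
      rw [h2, pt_ix]
    · refine ⟨true, _, h1, ?_⟩
      show _ = pt (img BT _)
      rw [h2, pt_ix]
  obtain ⟨u, a, ha, hA⟩ := hcy false
  obtain ⟨u', a', ha', hB⟩ := hcy true
  have hj : ∀ (w u : Bool) (a : ℕ), a < 11 → σ (pt (img (cyT w) 0)) = pt (img (cyT u) a) →
      ∀ j, σ ((toPerm cb ^ j) (pt (img (cyT w) 0))) = pt (img (cyT u) ((a + j) % 11)) := by
    intro w u a ha hw j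
    induction j with
    | zero => rw [pow_zero, Equiv.Perm.one_apply, hw, Nat.add_zero, Nat.mod_eq_of_lt ha]
    | succ j ih =>
      rw [pow_succ', Equiv.Perm.mul_apply, h0, ih, ba _ _ (Nat.mod_lt _ (by norm_num))]
      congr 2
      omega
  have hF : ∀ n < 24, ix (σ (pt n)) = FB s u a u' a' n := by
    intro n hn
    unfold FB
    rcases cyc_all n hn with h1 | h1 | ⟨g1, g2, g3, h1, h2⟩ | ⟨g1, g2, g3, h1, h2⟩
    · subst h1
      rw [h13, ix_pt (by cases s <;> decide)]
      rfl
    · subst h1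
      rw [h7, ix_pt (by cases s <;> decide)]
      rfl
    · rw [beqF g1, beqF g2, g3]
      have h4 : pt n = (toPerm cb ^ (img poT n)) (pt (img (cyT false) 0)) := by
        rw [bpow _ _ _ (by norm_num), Nat.zero_add, Nat.mod_eq_of_lt h1]
        show _ = pt (img AT _)
        rw [h2]
      rw [h4, hj false u a ha hA, ix_pt (cyc_lt _ _ (Nat.mod_lt _ (by norm_num)))]
      rfl
    · rw [beqF g1, beqF g2, beqF g3]
      have h4 : pt n = (toPerm cb ^ (img poT n)) (pt (img (cyT true) 0)) := by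
        rw [bpow _ _ _ (by norm_num), Nat.zero_add, Nat.mod_eq_of_lt h1]
        show _ = pt (img BT _)
        rw [h2]
      rw [h4, hj true u' a' ha' hB, ix_pt (cyc_lt _ _ (Nat.mod_lt _ (by norm_num)))]
      rfl
  obtain ⟨hv, hc⟩ := code_of σ
  rw [pack_congr 24 hF] at hv hc
  have hM : inM (pack (FB s u a u' a') 24) = true := inM_of_mem hv (by rw [← hc]; exact hσ)
  have hch := okB' s u a ha u' a' ha'
  unfold chB at hch
  rw [hM, cond_true] at hch
  obtain ⟨c, hc1, hc2⟩ := anyLt_iff hch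
  refine ⟨c, hc1, ?_⟩
  rw [hc, Nat.eq_of_beq_eq_true hc2, (cpw_spec valid_cb c).2]

end Cfsg.Agent.Lib.H72J4M
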