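import Cfsg.Agent.Lib.H72J4A

/-!
# Cosets fixed by elements of order 11 and 23 (helper72)
-/

set_option autoImplicit false

namespace Cfsg.Agent.Lib.H72J4O

open Cfsg.Agent.Lib.H72J4A

section
variable {G : Type*} [Group G] [Finite G] {P K : Subgroup G}

theorem dvd_stab {S : Subgroup G} {g : G} (hSP : S ≤ P) (hSg : ∀ z ∈ S, g⁻¹ * z * g ∈ K) :
    Nat.card S ∣ Nat.card (MulAction.stabilizer P ((g : G) : G ⧸ K)) := by
  set R := (MulAction.stabilizer P ((g : G) : G ⧸ K)).map P.subtype with hR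
  have hcard : Nat.card R = Nat.card (MulAction.stabilizer P ((g : G) : G ⧸ K)) :=
    (Nat.card_congr (Subgroup.equivMapOfInjective _ P.subtype P.subtype_injective).toEquiv).symm
  rw [← hcard]
  apply Subgroup.card_dvd_of_le
  intro z hz
  refine ⟨⟨z, hSP hz⟩, ?_, rfl⟩
  show ((z * g : G) : G ⧸ K) = ((g : G) : G ⧸ K)
  rw [eq_comm, QuotientGroup.eq]
  have := hSg z hz
  rwa [mul_assoc] at this

theorem card_St (i : G) : Nat.card (St P K i) = Nat.card (MulAction.stabilizer P ((i : G) : G ⧸ K)) := by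
  rw [Nat.card_congr (Subgroup.equivMapOfInjective (MulAction.stabilizer P ((i : G) : G ⧸ K)) P.subtype P.subtype_injective).toEquiv]
  have h : St P K i = (MulAction.stabilizer P ((i : G) : G ⧸ K)).map P.subtype := by
    ext z
    constructor
    · rintro ⟨h1, h2⟩
      refine ⟨⟨z, h1⟩, ?_, rfl⟩
      show ((z * i : G) : G ⧸ K) = ((i : G) : G ⧸ K)
      rw [eq_comm, QuotientGroup.eq]
      rwa [mul_assoc] at h2
    · rintro ⟨⟨w, hw⟩, h1, rfl⟩
      refine ⟨hw, ?_⟩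
      have h2 : ((w * i : G) : G ⧸ K) = ((i : G) : G ⧸ K) := h1
      rw [eq_comm, QuotientGroup.eq] at h2
      show i⁻¹ * w * i ∈ K
      rwa [mul_assoc]
  rw [h]

theorem stab_card {y : G ⧸ K} {k N : ℕ} (hP : Nat.card P = N) (hk : Nat.card (MulAction.orbit P y) = k) :
    k * Nat.card (MulAction.stabilizer P y) = N := by
  rw [← hk, ← Nat.card_prod, Nat.card_congr (MulAction.orbitProdStabilizerEquivGroup P y), hP]

variable (y : ℕ → G) (n : ℕ → ℕ)

theorem ocard (hidx : K.index = 173067389) (cov : ∀ a : G, ∃ j < 20, ∃ p ∈ P, ∃ k ∈ K, a = p * y j * k)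
    (ho : ∀ j < 20, Nat.card (MulAction.orbit P ((y j : G) : G ⧸ K)) ≤ n j) (hsum : ∑ j : Fin 20, n j = 173067389) :
    ∀ j < 20, Nat.card (MulAction.orbit P ((y j : G) : G ⧸ K)) = n j := by
  have h1 : Nat.card (G ⧸ K) = 173067389 := hidx
  have h2 : Nat.card (G ⧸ K) ≤ Nat.card (Σ j : Fin 20, MulAction.orbit P ((y j : G) : G ⧸ K)) := by
    refine Nat.card_le_card_of_surjective (fun z : (Σ j : Fin 20, MulAction.orbit P ((y j : G) : G ⧸ K)) => (z.2 : G ⧸ K)) ?_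
    intro z
    induction z using QuotientGroup.induction_on with | _ a => ?_
    obtain ⟨j, hj, p, hp, k, hk, rfl⟩ := cov a
    refine ⟨⟨⟨j, hj⟩, ⟨((p * y j * k : G) : G ⧸ K), ⟨⟨p, hp⟩, ?_⟩⟩⟩, rfl⟩
    show ((p * y j : G) : G ⧸ K) = _
    rw [QuotientGroup.eq, show (p * y j)⁻¹ * (p * y j * k) = k by group]
    exact hk
  rw [Nat.card_sigma, h1, ← hsum] at h2
  intro j hj
  by_contra hne
  have h3 : ∑ j : Fin 20, Nat.card (MulAction.orbit P ((y j : G) : G ⧸ K)) < ∑ j : Fin 20, n j := by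
    refine Finset.sum_lt_sum (fun j _ => ho j j.2) ⟨⟨j, hj⟩, Finset.mem_univ _, lt_of_le_of_ne (ho j hj) hne⟩
  exact absurd h2 (not_le.2 h3)

theorem main (hP : Nat.card P = 244823040) (hidx : K.index = 173067389) (h0 : y 0 = 1) (hPK : P ≤ K)
    (cov : ∀ a : G, ∃ j < 20, ∃ p ∈ P, ∃ k ∈ K, a = p * y j * k)
    (ho : ∀ j < 20, Nat.card (MulAction.orbit P ((y j : G) : G ⧸ K)) ≤ n j) (hsum : ∑ j : Fin 20, n j = 173067389)
    (h11 : ∀ j < 20, ∀ m, n j * m = 244823040 → (11 ∣ m ∨ 23 ∣ m) → j = 0 ∨ j = 10) (h10 : n 10 = 967680)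
    {i g : G} (hi : i ∉ K) (gP : g ∈ P) (g1 : g ≠ 1) (g23 : g ^ 23 = 1) (hig : i⁻¹ * g * i ∈ K) :
    (∀ a : G, a ∉ K → ∀ r ∈ P, r ≠ 1 → (r ^ 11 = 1 ∨ r ^ 23 = 1) → a⁻¹ * r * a ∈ K → ∃ p ∈ P, ∃ k ∈ K, a = p * i * k) ∧
      Nat.card (St P K i) = 253 := by
  have hoc := ocard y n hidx cov ho hsum
  have key : ∀ a : G, a ∉ K → ∀ r ∈ P, r ≠ 1 → (r ^ 11 = 1 ∨ r ^ 23 = 1) → a⁻¹ * r * a ∈ K →
      ∃ p ∈ P, ∃ k ∈ K, a = p * y 10 * k := by
    intro a ha r hr hr1 hr2 hra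
    obtain ⟨j, hj, p, hp, k, hk, he⟩ := cov a
    have hor : orderOf r = 11 ∨ orderOf r = 23 := by
      haveI : Fact (Nat.Prime 11) := ⟨by norm_num⟩
      haveI : Fact (Nat.Prime 23) := ⟨by norm_num⟩
      rcases hr2 with h | h
      · exact Or.inl (orderOf_eq_prime h hr1)
      · exact Or.inr (orderOf_eq_prime h hr1)
    have hS : Nat.card (Subgroup.zpowers r) ∣ Nat.card (MulAction.stabilizer P ((a : G) : G ⧸ K)) := by
      apply dvd_stab
      · rwa [Subgroup.zpowers_le]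
      · intro z hz
        obtain ⟨m, rfl⟩ := Subgroup.mem_zpowers_iff.1 hz
        have h1 := K.zpow_mem hra m
        have h2 : (a⁻¹ * r * a) ^ m = a⁻¹ * r ^ m * a := by
          have := conj_zpow (i := m) (a := a⁻¹) (b := r)
          rwa [inv_inv] at this
        rwa [h2] at h1
    rw [Nat.card_zpowers] at hS
    have horb : ((a : G) : G ⧸ K) ∈ MulAction.orbit P ((y j : G) : G ⧸ K) := by
      refine ⟨⟨p, hp⟩, ?_⟩
      show ((p * y j : G) : G ⧸ K) = _
      rw [he, QuotientGroup.eq, show (p * y j)⁻¹ * (p * y j * k) = k by group]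
      exact hk
    have hc : n j * Nat.card (MulAction.stabilizer P ((a : G) : G ⧸ K)) = 244823040 :=
      stab_card hP (by rw [MulAction.orbit_eq_iff.2 horb]; exact hoc j hj)
    have hd : 11 ∣ Nat.card (MulAction.stabilizer P ((a : G) : G ⧸ K)) ∨
        23 ∣ Nat.card (MulAction.stabilizer P ((a : G) : G ⧸ K)) := by
      rcases hor with h | h
      · left; rwa [h] at hS
      · right; rwa [h] at hS
    rcases h11 j hj _ hc hd with hj' | hj'
    · exfalso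
      apply ha
      rw [he, hj', h0, mul_one]
      exact K.mul_mem (hPK hp) hk
    · rw [hj'] at he
      exact ⟨p, hp, k, hk, he⟩
  obtain ⟨p1, hp1, k1, hk1, h1⟩ := key i hi g gP g1 (Or.inr g23) hig
  refine ⟨?_, ?_⟩
  · intro a ha r hr hr1 hr2 hra
    obtain ⟨p, hp, k, hk, he⟩ := key a ha r hr hr1 hr2 hra
    refine ⟨p * p1⁻¹, P.mul_mem hp (P.inv_mem hp1), k1⁻¹ * k, K.mul_mem (K.inv_mem hk1) hk, ?_⟩
    rw [he, h1]
    group
  · rw [card_St]
    have horb : ((i : G) : G ⧸ K) ∈ MulAction.orbit P ((y 10 : G) : G ⧸ K) := by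
      refine ⟨⟨p1, hp1⟩, ?_⟩
      show ((p1 * y 10 : G) : G ⧸ K) = _
      rw [h1, QuotientGroup.eq, show (p1 * y 10)⁻¹ * (p1 * y 10 * k1) = k1 by group]
      exact hk1
    have hc : 967680 * Nat.card (MulAction.stabilizer P ((i : G) : G ⧸ K)) = 244823040 :=
      stab_card hP (by rw [MulAction.orbit_eq_iff.2 horb, hoc 10 (by norm_num), h10])
    omega

end

end Cfsg.Agent.Lib.H72J4O
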