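import Cfsg.Agent.Lib.H72J4M

/-!
# The subgroup `<x, y>` of the presented group `J4` on 24 points (helper72)
-/

set_option autoImplicit false
set_option linter.all false
set_option maxRecDepth 100000

namespace Cfsg.Agent.Lib.H72J4P

open Cfsg Cfsg.Agent.Lib.Golay Cfsg.Agent.Lib.H3M24 Cfsg.Agent.Lib.H3TC Cfsg.Agent.Lib.J4RhoHom Cfsg.Agent.Lib.J4Main
open Cfsg.Agent.Lib.J4Words Cfsg.Agent.Lib.H3J4P Cfsg.Agent.Lib.H72J4M

theorem mem0 : X 0 ∈ PP := Subgroup.subset_closure (by simp)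
theorem mem1 : X 1 ∈ PP := Subgroup.subset_closure (by simp)

theorem exists_pi : ∃ π : PP →* Equiv.Perm GolayPt, Function.Injective π ∧ (∀ p, π p ∈ M24) ∧
    π ⟨X 0, mem0⟩ = toPerm cs ∧ π ⟨X 1, mem1⟩ = toPerm ct := by
  obtain ⟨π, h0, h1⟩ := exists_hom (Rels.map rels_perm tr)
  rw [tr_sx] at h0
  rw [tr_sy] at h1
  have hr : π.range = M24 := by
    rw [← closure_st, MonoidHom.range_eq_map, ← top_P24, MonoidHom.map_closure, Set.image_pair, h0, h1]
  haveI := card_P24.1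
  have hc : Nat.card π.range = 244823040 := by rw [hr]; exact natCard_M24
  have hb : Function.Bijective π.rangeRestrict := by
    haveI : Finite π.range := Nat.finite_of_card_ne_zero (by rw [hc]; norm_num)
    refine (Nat.bijective_iff_surjective_and_card _).mpr ⟨π.rangeRestrict_surjective, ?_⟩
    refine le_antisymm (by rw [hc]; exact card_P24.2) ?_
    exact Nat.card_le_card_of_surjective _ π.rangeRestrict_surjective
  have hπ : Function.Injective π := fun a b h => hb.1 (Subtype.ext h)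
  obtain ⟨e⟩ := iso_P24
  obtain ⟨φ, k0, k1⟩ := exists_hom rels_J4
  haveI := isSimpleGroup_of_mulEquiv e.symm M24_simple
  have hr' : φ.range = PP := by
    show _ = Subgroup.closure {X 0, X 1}
    rw [MonoidHom.range_eq_map, ← top_P24, MonoidHom.map_closure, Set.image_pair, k0, k1]
  have hk : φ.ker = ⊥ := by
    rcases (IsSimpleGroup.eq_bot_or_eq_top_of_normal φ.ker inferInstance) with h | h
    · exact h
    · exfalso
      have h2 : gg ∈ φ.range := by rw [hr']; exact gg_mem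
      obtain ⟨v, hv⟩ := h2
      have h3 : v ∈ φ.ker := by rw [h]; trivial
      have h4 : gg = 1 := by rw [← hv]; exact h3
      apply gh_ne
      rw [pr_append, pr_append, ← rho_gg, h4, map_one, one_mul, mul_one]
  have hi : Function.Injective φ := (MonoidHom.ker_eq_bot_iff φ).mp hk
  let E : P24 ≃* PP := (MonoidHom.ofInjective hi).trans (MulEquiv.subgroupCongr hr')
  have hE : ∀ z, ((E z : PP) : Cfsg.Spor.J4) = φ z := fun z => rfl
  refine ⟨π.comp E.symm.toMonoidHom, hπ.comp E.symm.injective, fun p => ?_, ?_, ?_⟩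
  · rw [← hr]
    exact ⟨_, rfl⟩
  · show π (E.symm ⟨X 0, mem0⟩) = _
    have : E.symm ⟨X 0, mem0⟩ = PresentedGroup.of 0 := by
      rw [MulEquiv.symm_apply_eq]
      exact Subtype.ext (by rw [hE, k0])
    rw [this, h0]
  · show π (E.symm ⟨X 1, mem1⟩) = _
    have : E.symm ⟨X 1, mem1⟩ = PresentedGroup.of 1 := by
      rw [MulEquiv.symm_apply_eq]
      exact Subtype.ext (by rw [hE, k1])
    rw [this, h1]

/-- the permutations -/
noncomputable def π : PP →* Equiv.Perm GolayPt := exists_pi.choose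
theorem π_inj : Function.Injective π := exists_pi.choose_spec.1
theorem π_mem (p : PP) : π p ∈ M24 := exists_pi.choose_spec.2.1 p
theorem π0 : π ⟨X 0, mem0⟩ = toPerm cs := exists_pi.choose_spec.2.2.1
theorem π1 : π ⟨X 1, mem1⟩ = toPerm ct := exists_pi.choose_spec.2.2.2

/-- letters -/
def okc (c : ℕ) : Bool := Nat.beq c 0 || (Nat.beq c 1 || Nat.beq c 3)

/-- words in `x, y` -/
def okP (l : List ℕ) : Bool := l.all okc

theorem okc_iff {c : ℕ} (h : okc c = true) : c = 0 ∨ c = 1 ∨ c = 3 := by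
  unfold okc at h
  simp only [Bool.or_eq_true] at h
  rcases h with h | h | h
  · exact Or.inl (Nat.eq_of_beq_eq_true h)
  · exact Or.inr (Or.inl (Nat.eq_of_beq_eq_true h))
  · exact Or.inr (Or.inr (Nat.eq_of_beq_eq_true h))

theorem XX_mem {c : ℕ} (h : okc c = true) : XX c ∈ PP := by
  rcases okc_iff h with rfl | rfl | rfl
  · exact mem0
  · exact mem1
  · exact PP.inv_mem mem1

theorem okP_cons {c : ℕ} {l : List ℕ} (h : okP (c :: l) = true) : okc c = true ∧ okP l = true := by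
  unfold okP at h ⊢
  rw [List.all_cons, Bool.and_eq_true] at h
  exact h

theorem pJ_mem {l : List ℕ} (h : okP l = true) : pJ l ∈ PP := by
  induction l with
  | nil => exact PP.one_mem
  | cons c l ih =>
    have h1 := okP_cons h
    exact PP.mul_mem (XX_mem h1.1) (ih h1.2)

theorem π_XX {c : ℕ} (h : okc c = true) : π ⟨XX c, XX_mem h⟩ = toPerm (lcd c) := by
  rcases okc_iff h with rfl | rfl | rfl
  · exact π0
  · exact π1
  · have h1 : (⟨XX 3, XX_mem h⟩ : PP) = (⟨X 1, mem1⟩ : PP)⁻¹ := Subtype.ext rfl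
    rw [h1, map_inv, π1]
    show (toPerm ct)⁻¹ = toPerm ct2
    rw [inv_eq_iff_mul_eq_one, ← toPerm_mulC valid_ct valid_ct2, ← toPerm_cId]
    exact congrArg toPerm (by decide +kernel)

theorem π_pJ {l : List ℕ} (h : okP l = true) : π ⟨pJ l, pJ_mem h⟩ = toPerm (cw l) := by
  induction l with
  | nil =>
    have h1 : (⟨pJ [], pJ_mem h⟩ : PP) = 1 := Subtype.ext rfl
    rw [h1, map_one]
    exact toPerm_cId.symm
  | cons c l ih =>
    have h1 := okP_cons h
    have h2 : (⟨pJ (c :: l), pJ_mem h⟩ : PP) = ⟨XX c, XX_mem h1.1⟩ * ⟨pJ l, pJ_mem h1.2⟩ := Subtype.ext rfl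
    rw [h2, map_mul, π_XX h1.1, ih h1.2, toPerm_cw_cons]

/-- the element of order 11 -/
noncomputable def bb : Cfsg.Spor.J4 := pJ bW

theorem ok_b : okP bW = true := by decide +kernel
theorem ok_g : okP [0, 1] = true := by decide +kernel
theorem bb_mem : bb ∈ PP := pJ_mem ok_b

theorem gg_eq : gg = pJ [0, 1] := by
  show X 0 * X 1 = X 0 * (X 1 * 1)
  rw [mul_one]

theorem π_g : π ⟨gg, gg_mem⟩ = toPerm cg := by
  have h1 : (⟨gg, gg_mem⟩ : PP) = ⟨pJ [0, 1], pJ_mem ok_g⟩ := Subtype.ext gg_eq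
  rw [h1, π_pJ ok_g, cg_eq]

theorem π_b : π ⟨bb, bb_mem⟩ = toPerm cb := by
  show π ⟨pJ bW, pJ_mem ok_b⟩ = _
  rw [π_pJ ok_b, cb_eq]

theorem factA (p : Cfsg.Spor.J4) (hp : p ∈ PP) (k : ℕ) (hk : k < 23) (h : p * gg = gg ^ k * p) :
    ∃ a c : ℕ, c < 11 ∧ p = gg ^ a * bb ^ c := by
  have h1 : (⟨p, hp⟩ : PP) * ⟨gg, gg_mem⟩ = (⟨gg, gg_mem⟩ : PP) ^ k * ⟨p, hp⟩ := Subtype.ext h
  have h2 := congrArg π h1
  rw [map_mul, map_mul, map_pow, π_g] at h2
  obtain ⟨a, c, _, hc, h3⟩ := lemA (π_mem _) hk h2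
  refine ⟨a, c, hc, ?_⟩
  rw [← π_g, ← π_b, ← map_pow, ← map_pow, ← map_mul] at h3
  exact congrArg Subtype.val (π_inj h3)

theorem factB (p : Cfsg.Spor.J4) (hp : p ∈ PP) (h : p * bb = bb * p) : ∃ c : ℕ, p = bb ^ c := by
  have h1 : (⟨p, hp⟩ : PP) * ⟨bb, bb_mem⟩ = (⟨bb, bb_mem⟩ : PP) * ⟨p, hp⟩ := Subtype.ext h
  have h2 := congrArg π h1
  rw [map_mul, map_mul, π_b] at h2
  obtain ⟨c, _, h3⟩ := lemB (π_mem _) h2
  refine ⟨c, ?_⟩
  rw [← π_b, ← map_pow] at h3
  exact congrArg Subtype.val (π_inj h3)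

end Cfsg.Agent.Lib.H72J4P
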