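import Cfsg.Agent.Lib.H3J4P

/-!
The subgroup `<x, y>` of the presented group `J4` is `M24` (alias).
-/

set_option autoImplicit false

namespace Cfsg.Agent.Lib.J4M24

theorem hP : Nonempty (Cfsg.Agent.Lib.J4Main.PP ≃* Cfsg.M24) := Cfsg.Agent.Lib.H3J4P.hP

end Cfsg.Agent.Lib.J4M24
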