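import Cfsg.Agent.Lib.J4DatH

set_option autoImplicit false
set_option linter.all false
set_option maxRecDepth 100000
set_option exponentiation.threshold 100000

namespace Cfsg.Agent.Lib.J4E

theorem kH0 : chkR (LI LTH) (dlI 520) FTH base7 relsH 7 krelH 0 0 FIH 0 100 = true := by decide +kernel
theorem kH1 : chkR (LI LTH) (dlI 520) FTH base7 relsH 7 krelH 0 0 FIH 100 100 = true := by decide +kernel
theorem kH2 : chkR (LI LTH) (dlI 520) FTH base7 relsH 7 krelH 0 0 FIH 200 88 = true := by decide +kernel

end Cfsg.Agent.Lib.J4E
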