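import Cfsg.Agent.Lib.J4Ins

/-! data (generated) -/

set_option autoImplicit false
set_option linter.all false
set_option maxRecDepth 100000

namespace Cfsg.Agent.Lib.J4E

def LTH_0 : Tr ℕ := Tr.n (Tr.n (Tr.n (Tr.n (Tr.n (Tr.l (0xbdab49ca307b9ac5a928398a418820)) (Tr.l (0x614237c012aae293914ea21a2b5e66))) (Tr.n (Tr.l (0x4a221331d279ec46aaeba947098a80)) (Tr.l (0x54da6b5d02a84643a6455d0107b1d1)))) (Tr.n (Tr.n (Tr.l (0x5b0e98bdc150e54836c42d4c09a2e2)) (Tr.l (0x795874845675e2baa00324a14534d3))) (Tr.n (Tr.l (0x216830c00c9a0e2349357d9aa5ddd1)) (Tr.l (0xbdab49ca307b9ac5a928398a418820))))) (Tr.n (Tr.n (Tr.n (Tr.l (0xa2d0e23c1115c6c525a79c255306c5)) (Tr.l (0x61ac569170185c2ac951450177a4f3))) (Tr.n (Tr.l (0xa0a243a0b681aeb5002974c6dabe4c)) (Tr.l (0xbdab49ca307b9ac5a928398a418820))))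 (Tr.n (Tr.n (Tr.l (0xb30aa9d0cfbb8808357288ea13a049)) (Tr.l (0x20e2644a1bcde6255d090d4d4da8b))) (Tr.n (Tr.l (0x1814f4b8955b2d169ca185e4614d14)) (Tr.l (0xbdab49ca307b9ac5a928398a418820)))))) (Tr.n (Tr.n (Tr.n (Tr.n (Tr.l (0x8dd16839957cc8191c40694ca1d12b)) (Tr.l (0x4d2af290d268eca5dd813ce2274100))) (Tr.n (Tr.l (0x602ad9a877b38297921431ca28c90b)) (Tr.l (0xbdab49ca307b9ac5a928398a418820)))) (Tr.n (Tr.n (Tr.l (0x7a46c32ead91d48b84029ba362d204)) (Tr.l (0x7102a78ec6482079166c436915d457))) (Tr.n (Tr.l (0x8b02ab4de71520ebd4a94016668c92)) (Tr.l (0xbdab49ca307b9ac5a928398a418820))))) (Tr.n (Tr.n (Tr.n (Tr.l (0x72517a1ec583d93546b20056369844)) (Tr.l (0x4862b98aac7b9b0a12e83986a2cac0))) (Tr.n (Tr.l (0x20628309d7b1de9a4240a946a9b1ab)) (Tr.l (0xbdab49ca307b9ac5a928398a418820)))) (Tr.n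 (Tr.n (Tr.l (0x43069352a051e4f859a49ba212aee2)) (Tr.l (0x8acd410d497c1b205dc8396b361036))) (Tr.n (Tr.l (0x44526604569c0ab1bdb524af4500ee)) (Tr.l (0xbdab49ca307b9ac5a928398a418820))))))
def LTH_1 : Tr ℕ := Tr.n (Tr.n (Tr.n (Tr.n (Tr.n (Tr.l (0x4a2235aad49e08205ec74c6b2d157)) (Tr.l (0x24d6e0402a2b6b23a45143e97b30c3))) (Tr.n (Tr.l (0x6c077306af11c8062d129ba342d92a)) (Tr.l (0x4d236392ac699f008ae09b8722a968)))) (Tr.n (Tr.n (Tr.l (0x534f41c8ac04570424569b8c4adc2f)) (Tr.l (0x2dda9a0d6e83d9511a72006c744544))) (Tr.n (Tr.l (0x155e643029380b019251b51b75aa6e)) (Tr.l (0xbdab49ca307b9ac5a928398a418820))))) (Tr.n (Tr.n (Tr.n (Tr.l (0x50eae25a4803614624cf9ac51b84e5)) (Tr.l (0xaa2c2a0c080c4d92ec499eaf75137))) (Tr.n (Tr.l (0xba0f41b2b2046c46892b74cd02a82f)) (Tr.l (0xbdab49ca307b9ac5a928398a418820))))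 (Tr.n (Tr.n (Tr.l (0xb4a692d22f156002356c31dc11a2ea)) (Tr.l (0x3ad8121a43b268e046ad82845bcd0f))) (Tr.n (Tr.l (0x255e7009aa8866974a0542e97b3066)) (Tr.l (0xbdab49ca307b9ac5a928398a418820)))))) (Tr.n (Tr.n (Tr.n (Tr.n (Tr.l (0x436a75ba91b4c8113c12316ec82923)) (Tr.l (0x92ccf2a870a45090dc4071e64ab1b6))) (Tr.n (Tr.l (0x12e61ab0e401512b254d88dd035e8f)) (Tr.l (0xbdab49ca307b9ac5a928398a418820)))) (Tr.n (Tr.n (Tr.l (0x788c41ae6d846e850409a94f67524c)) (Tr.l (0x9d14d23a470b11101ab6126e580d6f))) (Tr.n (Tr.l (0x480af8926a59ed7a404830dccac82d)) (Tr.l (0xbdab49ca307b9ac5a928398a418820))))) (Tr.n (Tr.n (Tr.n (Tr.l (0x426433ced65641122c97446b2d2ea)) (Tr.l (0xa848d90c515b1e6015d452607bcec8))) (Tr.n (Tr.l (0x200cb88ab768e897c24174cea2b2c8)) (Tr.l (0xbdab49ca307b9ac5a928398a418820)))) (Tr.n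 (Tr.n (Tr.l (0x410c21d260bc60f959aca94e172d49)) (Tr.l (0x4bca899230b382c02af431eb2189ab))) (Tr.n (Tr.l (0x9b11758de755886815d2a05b105522)) (Tr.l (0xbdab49ca307b9ac5a928398a418820))))))
def LTH_2 : Tr ℕ := Tr.n (Tr.n (Tr.n (Tr.n (Tr.n (Tr.l (0x69e2a9890bb38d41b1357dca480032)) (Tr.l (0xa28c2ad86023a414a1ec9962d3aef0))) (Tr.n (Tr.l (0x6c8ca1866f4c58022d10a94f475857)) (Tr.l (0x2a56c43ad51008384e2a6bc27a1af2)))) (Tr.n (Tr.n (Tr.l (0x5c86a33ea149d94236d09ba202a057)) (Tr.l (0x85aa09aa37795626c88838dc933034))) (Tr.n (Tr.l (0x6b1c93ae2120c4093ed72cea835150)) (Tr.l (0xbdab49ca307b9ac5a928398a418820))))) (Tr.n (Tr.n (Tr.n (Tr.l (0xb96b19c1e9a2eca4124e099ac18807)) (Tr.l (0x11ed5011b79a22c742450ae8a7a466))) (Tr.n (Tr.l (0x8e48d9c880eed551e92d4cb9864c)) (Tr.l (0xbdab49ca307b9ac5a928398a418820))))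 (Tr.n (Tr.n (Tr.l (0x850b6728776cde90c98031ea289168)) (Tr.l (0x9bd40bc647b316e6d4c18248510d14))) (Tr.n (Tr.l (0xc0a43a2b454520935e230dd69ad97)) (Tr.l (0xbdab49ca307b9ac5a928398a418820)))))) (Tr.n (Tr.n (Tr.n (Tr.n (Tr.l (0x4d5637da270aa0d3518413a53ba005)) (Tr.l (0x62c763ddc2096907c948a9a648a40d))) (Tr.n (Tr.l (0x26722a22b85456b85ea31dcd1d08c)) (Tr.l (0xbdab49ca307b9ac5a928398a418820)))) (Tr.n (Tr.n (Tr.l (0xbac6f3b1d2099a4b0928a96309a814)) (Tr.l (0x6984553c809de341a16794121659d5))) (Tr.n (Tr.l (0x2aad7a4de64ac4e94464680274560c)) (Tr.l (0xbdab49ca307b9ac5a928398a418820))))) (Tr.n (Tr.n (Tr.n (Tr.l (0x53cf48c272b39a95dd81a98a219100)) (Tr.l (0x7aaa43522849e0d12c0c74ca11da57))) (Tr.n (Tr.l (0xaa323b4ab6193613e9774c68a8090)) (Tr.l (0xbdab49ca307b9ac5a928398a418820)))) (Tr.n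 (Tr.n (Tr.l (0x850683a5cab18020918fa96379c9ab)) (Tr.l (0x8a0ef939220dc0c6c27629aa322974))) (Tr.n (Tr.l (0xb3a53bd18d3a8cb2bd0312600206b1)) (Tr.l (0xbdab49ca307b9ac5a928398a418820))))))
def LTH_3 : Tr ℕ := Tr.n (Tr.n (Tr.n (Tr.n (Tr.n (Tr.l (0x33d0c982a33baea85131b34a45c822)) (Tr.l (0x11d710aa8432069ac98eb3c106de65))) (Tr.n (Tr.l (0x24f08ae6d20d48bd1e2a94d670592)) (Tr.l (0x59615521219c9d61828620aef63627)))) (Tr.n (Tr.n (Tr.l (0x5c0d71be6114494636d2a94e07212a)) (Tr.l (0x7b847205962c22daa2864aae092c73))) (Tr.n (Tr.l (0xab6e090c4e7a51109cd462893816cb)) (Tr.l (0xbdab49ca307b9ac5a928398a418820))))) (Tr.n (Tr.n (Tr.n (Tr.l (0xbb6af9a6928a0a47320b01aca188e1)) (Tr.l (0x25566029101b6778a4470da927b1c5))) (Tr.n (Tr.l (0x5b237382b411a41836c49b86f2a12a)) (Tr.l (0xbdab49ca307b9ac5a928398a418820))))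 (Tr.n (Tr.n (Tr.l (0x6c8a99bcd413a012590c88ea03aeea)) (Tr.l (0xd0b7518e010d7183aa44cd969350f))) (Tr.n (Tr.l (0x10df50b104750f28a546b2c106dcb3)) (Tr.l (0xbdab49ca307b9ac5a928398a418820)))))) (Tr.n (Tr.n (Tr.n (Tr.n (Tr.l (0x4c470b1d0f0b166baa84038536d645)) (Tr.l (0x2a90cb55731060793877681f1a1924))) (Tr.n (Tr.l (0x120a0730640cd726a55631eb08ddf4)) (Tr.l (0xbdab49ca307b9ac5a928398a418820)))) (Tr.n (Tr.n (Tr.l (0x8864336ab81ef653e899ba282824c)) (Tr.l (0x858cf1b2245d40aa49283ba77289a1))) (Tr.n (Tr.l (0x58c85bb541325d48bed364248102a7)) (Tr.l (0xbdab49ca307b9ac5a928398a418820))))) (Tr.n (Tr.n (Tr.n (Tr.l (0xad92023a036b02641e6f55c459468b)) (Tr.l (0x788d2182345388d606c93d4ab9a2f0))) (Tr.n (Tr.l (0x2506d38a77598090c24f2d62a73116)) (Tr.l (0xbdab49ca307b9ac5a928398a418820)))) (Tr.n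 (Tr.n (Tr.l (0xb1062302b4b9e019216c9ba2f2b549)) (Tr.l (0x8d04b4ba4545df509c608315321acd))) (Tr.n (Tr.l (0x1a50cb5693836e5518e20056e7c644)) (Tr.l (0xbdab49ca307b9ac5a928398a418820))))))
def LTH_4 : Tr ℕ := Tr.n (Tr.n (Tr.n (Tr.n (Tr.n (Tr.l (0x90900b9e264bd75206d474e032a98d)) (Tr.l (0x256910a5173826274a056d9ea5b0c3))) (Tr.n (Tr.l (0x52e20349cca1db0b2448a94649dde1)) (Tr.l (0x48e42866d6460f159091d5cb35157)))) (Tr.n (Tr.n (Tr.l (0x23c6b3a9c96983704254a96229b2c8)) (Tr.l (0xb15934a04f742ad8868322ae092cc7))) (Tr.n (Tr.l (0x21db5049ea304a918a1342ecca5dd1)) (Tr.l (0xbdab49ca307b9ac5a928398a418820))))) (Tr.n (Tr.n (Tr.n (Tr.l (0xc0cda146a645277ceb713a4bb1008)) (Tr.l (0x48e956896c32270892ee03c2ab48a7))) (Tr.n (Tr.l (0x262c3d8a89194dbd1e274c6ba8604)) (Tr.l (0xbdab49ca307b9ac5a928398a418820))))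 (Tr.n (Tr.n (Tr.l (0x83e6daa8f7b16890498188dc23110b)) (Tr.l (0x7204f4c647a5d66696768314325401))) (Tr.n (Tr.l (0x8d28d0ef4d608205b7195cb9d94c)) (Tr.l (0xbdab49ca307b9ac5a928398a418820)))))) (Tr.n (Tr.n (Tr.n (Tr.n (Tr.l (0x102637da8aab6072218572572bc426)) (Tr.l (0x3897278e93b818e514d0436d10d489))) (Tr.n (Tr.l (0x159d42b0c47d5b25a5481c6703dc20)) (Tr.l (0xbdab49ca307b9ac5a928398a418820)))) (Tr.n (Tr.n (Tr.l (0xbb4c18b0b278d64409369b8f0aaa80)) (Tr.l (0x100cb1aa377d6cc426543ba642c02d))) (Tr.n (Tr.l (0x906b6708f75968a7b20019a698910d)) (Tr.l (0xbdab49ca307b9ac5a928398a418820))))) (Tr.n (Tr.n (Tr.n (Tr.l (0x534cb8b1d20cdf7a2616a9ca219008)) (Tr.l (0xa10a97066f91eed502cca8e2b32202))) (Tr.n (Tr.l (0x4a0af74a30a4d6c68af639aa41a801)) (Tr.l (0xbdab49ca307b9ac5a928398a418820)))) (Tr.n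 (Tr.n (Tr.l (0x800d68a4aa40e82791819b8f7ac96d)) (Tr.l (0xbd9419a5c57c5a6056481320419e8b))) (Tr.n (Tr.l (0xa1af383c888c8b61ac0e12541636a7)) (Tr.l (0xbdab49ca307b9ac5a928398a418820))))))
def LTH_5 : Tr ℕ := Tr.n (Tr.n (Tr.n (Tr.n (Tr.n (Tr.l (0x102b26bd174d871204ea74d702b286)) (Tr.l (0x40a48b6afb9c4192289199cb9d98a))) (Tr.n (Tr.l (0x88d21a1d6646eb53e892d4ed98090)) (Tr.l (0xb846b728b07cdaca492831e22a92c0)))) (Tr.n (Tr.n (Tr.l (0x6ca7728061556142590c399cf8ad22)) (Tr.l (0x945ee0dd0a9806934187b3682592a5))) (Tr.n (Tr.l (0x939a70dd041daa232551a2c107b265)) (Tr.l (0xbdab49ca307b9ac5a928398a418820))))) (Tr.n (Tr.n (Tr.n (Tr.l (0x40d33515d659a8f241a06564289ee1)) (Tr.l (0x2d92184c866c803445d455c5561deb))) (Tr.n (Tr.l (0x590ea8827448e01936cca94cf72057)) (Tr.l (0xbdab49ca307b9ac5a928398a418820))))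 (Tr.n (Tr.n (Tr.l (0x12eb49c0727b904b254d31cac8dc20)) (Tr.l (0xbacd48ca6c00db0b09282d4e47282f))) (Tr.n (Tr.l (0x139756900c33e373a645a582a44073)) (Tr.l (0xbdab49ca307b9ac5a928398a418820)))))) (Tr.n (Tr.n (Tr.n (Tr.n (Tr.l (0x4a70b1d4c8996f25685724626a037)) (Tr.l (0x5522f391ccb4da95de4028ea234101))) (Tr.n (Tr.l (0xdea472ce864d4d482821c4b633e50)) (Tr.l (0xbdab49ca307b9ac5a928398a418820)))) (Tr.n (Tr.n (Tr.l (0xbda2033272a1d045892d2d470729e1)) (Tr.l (0x3d156846530310e0d4cdba4432156f))) (Tr.n (Tr.l (0x9c80a7969565927bba240a16668e02)) (Tr.l (0xbdab49ca307b9ac5a928398a418820))))) (Tr.n (Tr.n (Tr.n (Tr.l (0x431c43b4cf85656100379c4742ad2a)) (Tr.l (0x8aee025446a29b30b8af8258391d16))) (Tr.n (Tr.l (0x4d9c12c8f0055ac58ae888e6432a8f)) (Tr.l (0xbdab49ca307b9ac5a928398a418820)))) (Tr.n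 (Tr.n (Tr.l (0x8062d3266a59de2a11802d47774916)) (Tr.l (0x60e857c0048daa9748470a1aa5dcd3))) (Tr.n (Tr.l (0x551d61c8b75cc244418d356293880f)) (Tr.l (0xbdab49ca307b9ac5a928398a418820))))))
def LTH_6 : Tr ℕ := Tr.n (Tr.n (Tr.n (Tr.n (Tr.n (Tr.l (0x3aa8d93a33b24881b0407dcc5806ab)) (Tr.l (0x3bc8d49ae50090e0d6369418354d74))) (Tr.n (Tr.l (0xa470320b621d4bbbe8274e2da8192)) (Tr.l (0x9a08f495465de876c5c18325510c16)))) (Tr.n (Tr.n (Tr.l (0x6b0a2980e14b894859121c6af32d57)) (Tr.l (0x12274a922c795706a556399d21dc20))) (Tr.n (Tr.l (0x820ef712aa59697b264019a2c9882d)) (Tr.l (0xbdab49ca307b9ac5a928398a418820))))) (Tr.n (Tr.n (Tr.n (Tr.l (0x1d24d219870296eb46a182453b95e8)) (Tr.l (0x244066b1693bc7028955a59170ca6e))) (Tr.n (Tr.l (0x4b4e11c2a47c57242af674ccc28a80)) (Tr.l (0xbdab49ca307b9ac5a928398a418820))))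 (Tr.n (Tr.n (Tr.l (0x44262282214d65462da431dcf1d957)) (Tr.l (0xb5dcc33ca895454204101ce2b3b549))) (Tr.n (Tr.l (0x7c8a2ad1c161aed4816498ce88da0a)) (Tr.l (0xbdab49ca307b9ac5a928398a418820)))))) (Tr.n (Tr.n (Tr.n (Tr.n (Tr.l (0x4d5d0b28045be6c34517106433b685)) (Tr.l (0xa902cb180ebad53944a26a28778e09))) (Tr.n (Tr.l (0x89d0aac689152d5029739a768bd84)) (Tr.l (0xbdab49ca307b9ac5a928398a418820)))) (Tr.n (Tr.n (Tr.l (0x430d7185cf14640859a42d4f49ad2a)) (Tr.l (0x6bae362c812c0d49bd075093690235))) (Tr.n (Tr.l (0xb44935064bab0ef75005142ed4a066)) (Tr.l (0xbdab49ca307b9ac5a928398a418820))))) (Tr.n (Tr.n (Tr.n (Tr.l (0x9c2ca5d5a5906f14b8cc4028379c82)) (Tr.l (0x65860ac0a95b9ea6de54898e498828))) (Tr.n (Tr.l (0x60268a88e9594377921488dca349b6)) (Tr.l (0xbdab49ca307b9ac5a928398a418820)))) (Tr.n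 (Tr.n (Tr.l (0x7a4d01d9c82454db84022d4eb9d192)) (Tr.l (0x694439052b3de6033e9182988259d5))) (Tr.n (Tr.l (0x620ad8c8c25bad0a5d4098ce9a902f)) (Tr.l (0xbdab49ca307b9ac5a928398a418820))))))
def LTH_7 : Tr ℕ := Tr.n (Tr.n (Tr.n (Tr.n (Tr.n (Tr.l (0x7b146139133a49585012b36e558623)) (Tr.l (0x146c76c9ec281c9adc86a2c2a44263))) (Tr.n (Tr.l (0x520c18caac78ed06a44b74ce42de80)) (Tr.l (0xb1615901343a8cb1a02e112ed63e33)))) (Tr.n (Tr.n (Tr.l (0x2026dadccab14227b2541c5c93c10b)) (Tr.l (0x94d0eb5dea8d064340550ac0c6a4e5))) (Tr.n (Tr.l (0x8c017b16874bd9553a624056668e44)) (Tr.l (0xbdab49ca307b9ac5a928398a418820))))) (Tr.n (Tr.n (Tr.n (Tr.l (0x1ad36255470b2916b8c084853b950f)) (Tr.l (0x792ac1d9d44c4419340a398ab9a217))) (Tr.n (Tr.l (0x5c069300b451c81636d274e2faa2e2)) (Tr.l (0xbdab49ca307b9ac5a928398a418820))))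 (Tr.n (Tr.n (Tr.l (0x4ae74ac8d07950cb0aed1c5c43a820)) (Tr.l (0x7220f24e456a4060d46b60951b9ed4))) (Tr.n (Tr.l (0x7c8c41a0b654c4048570746b43b6ec)) (Tr.l (0xbdab49ca307b9ac5a928398a418820)))))) (Tr.n (Tr.n (Tr.n (Tr.n (Tr.l (0x4c5cb3b2441da74ba2ad0045079945)) (Tr.l (0xa545392d418b0e0759e3242e84b4a6))) (Tr.n (Tr.l (0x4aea19922c03910b0aed398b21aa8f)) (Tr.l (0xbdab49ca307b9ac5a928398a418820)))) (Tr.n (Tr.n (Tr.l (0xa4cc1b66b94556bbe82a94e870204)) (Tr.l (0x88acaa4da660203494f2785155bae4))) (Tr.n (Tr.l (0x4159355ae0742ab350272244f93623)) (Tr.l (0xbdab49ca307b9ac5a928398a418820))))) (Tr.n (Tr.n (Tr.n (Tr.l (0x44a22386afb9980259b09b8742ad49)) (Tr.l (0x83825b08048acf29dd866a28a7a6a3))) (Tr.n (Tr.l (0x8aac758cd24d285029788cab3be12)) (Tr.l (0xbdab49ca307b9ac5a928398a418820)))) (Tr.n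 (Tr.n (Tr.l (0xb30c9182745464182164a94ef736e2)) (Tr.l (0x3860b21a51a5ece68ca0628554cde8))) (Tr.n (Tr.l (0x7280c6cd0712e11b98b278695b0c89)) (Tr.l (0xbdab49ca307b9ac5a928398a418820))))))
def LTH_8 : Tr ℕ := Tr.n (Tr.n (Tr.n (Tr.n (Tr.n (Tr.l (0x535075a692b08b11b1c17dc8685413)) (Tr.l (0x32c8f14e470b1b5038b454131b8ec8))) (Tr.n (Tr.l (0xbace01c0a4a45b2b09289b8ccaa9e1)) (Tr.l (0x6c8c4885c0496e8159eca8e6b3d150)))) (Tr.n (Tr.n (Tr.l (0xb3262284604d48f83572399d48a157)) (Tr.l (0x4daad9b0e40980aa0a0889477749eb))) (Tr.n (Tr.l (0x7cc51ba20b3a6b6750052494d60466)) (Tr.l (0xbdab49ca307b9ac5a928398a418820))))) (Tr.n (Tr.n (Tr.n (Tr.l (0xb34a95b8e244df180cc0554940c997)) (Tr.l (0x68a24722745164048570198f6abd97))) (Tr.n (Tr.l (0x5c8c2181d4bc581236d02d4ef9a149)) (Tr.l (0xbdab49ca307b9ac5a928398a418820))))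 (Tr.n (Tr.n (Tr.l (0x202a89a6225b82a7b254398b71c1b6)) (Tr.l (0xb968eb2570abe6a332510a1a400867))) (Tr.n (Tr.l (0xabe004cc4609285b0ced95d5163968)) (Tr.l (0xbdab49ca307b9ac5a928398a418820)))))) (Tr.n (Tr.n (Tr.n (Tr.n (Tr.l (0x10130b34259be4c252377556351d06)) (Tr.l (0x63c74992b70c412b284b315c93c1a8))) (Tr.n (Tr.l (0xab0720eb94d36505f71c4ad35184)) (Tr.l (0xbdab49ca307b9ac5a928398a418820)))) (Tr.n (Tr.n (Tr.l (0x53461391d07996c42456a96329de80)) (Tr.l (0x78da98881455a64642f2706a832ce5))) (Tr.n (Tr.l (0x804e8990a20396aa5d961c4d2aa5af)) (Tr.l (0xbdab49ca307b9ac5a928398a418820))))) (Tr.n (Tr.n (Tr.n (Tr.l (0x5ba5353d888dc762d1a648a01202a7)) (Tr.l (0x2b58820c4605df50b8eb4c95384696))) (Tr.n (Tr.l (0x951d62dcca6d5e20c0801c6693b168)) (Tr.l (0xbdab49ca307b9ac5a928398a418820)))) (Tr.n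 (Tr.n (Tr.l (0x90076389d741a897b081a962a9c16d)) (Tr.l (0xbd1cbac8ec694100892f1c66432ac8))) (Tr.n (Tr.l (0x904a87126ca1db75c04fa8e2a32416)) (Tr.l (0xbdab49ca307b9ac5a928398a418820))))))
def LTH_9 : Tr ℕ := Tr.n (Tr.n (Tr.n (Tr.n (Tr.n (Tr.l (0x61aaf1a542380a8851c1b34975c653)) (Tr.l (0x9ae0f23a55b2803094c865d27145b4))) (Tr.n (Tr.l (0xba0613c26479ad26892b2d62c72a80)) (Tr.l (0x8dd7003ac32205564cb27b427a192a)))) (Tr.n (Tr.n (Tr.l (0x204b675e2a6cc02a324f39aa91c168)) (Tr.l (0x9226dadcea08e8404056894cc725eb))) (Tr.n (Tr.l (0x5ba11bd9219a86f2d1a661248100f5)) (Tr.l (0xbdab49ca307b9ac5a928398a418820))))) (Tr.n (Tr.n (Tr.n (Tr.l (0x5cc47098b6cac199e8f8a6a554068)) (Tr.l (0x3b60049651092d3a3aaf13146b8d68))) (Tr.n (Tr.l (0x522343127001ecc6a44b2d47275c2f)) (Tr.l (0xbdab49ca307b9ac5a928398a418820))))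 (Tr.n (Tr.n (Tr.l (0x4b6a09c8700bacc40aeb31ca48a9f4)) (Tr.l (0x8dc0a6b826221874d470b2df3a1452))) (Tr.n (Tr.l (0x1b6f6915460102743a348313514d6f)) (Tr.l (0xbdab49ca307b9ac5a928398a418820)))))) (Tr.n (Tr.n (Tr.n (Tr.n (Tr.l (0x492b398259d8542290d7447063eb7)) (Tr.l (0xbd9c8312a201e8a5c12188e722b1af))) (Tr.n (Tr.l (0x4a1c0290cc0d57068af61c6723a9f4)) (Tr.l (0xbdab49ca307b9ac5a928398a418820)))) (Tr.n (Tr.n (Tr.l (0x558e0192b0a450c5a44d74cd22dde1)) (Tr.l (0x60de6b416a8d0e4a8aee021a90ca65))) (Tr.n (Tr.l (0x309ac5d5f382145b8e29082cea1e44)) (Tr.l (0xbdab49ca307b9ac5a928398a418820))))) (Tr.n (Tr.n (Tr.n (Tr.l (0x4c6c705de41b4c2ac98e5d03042a65)) (Tr.l (0x55a681a4f26b9777b20029a24a8834))) (Tr.n (Tr.l (0x900a875c6a5cc227c09431ea98b1b6)) (Tr.l (0xbdab49ca307b9ac5a928398a418820)))) (Tr.n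 (Tr.n (Tr.l (0x904ed18ab75c5e9a308074cca2c116)) (Tr.l (0x32909796c380091138f20d1b55ceec))) (Tr.n (Tr.l (0x79553636e18c0d4aac07248484d9c3)) (Tr.l (0xbdab49ca307b9ac5a928398a418820))))))
def LTH_10 : Tr ℕ := Tr.n (Tr.n (Tr.n (Tr.n (Tr.n (Tr.l (0x7040b3be37158742d54d4ca7033104)) (Tr.l (0x4cd030a8102bcf2a90515b6d7a30ce))) (Tr.n (Tr.l (0xbd8cf8c2a408d125892d74cec2a814)) (Tr.l (0x6046b9c8a903917a2a0d39a24a8acf)))) (Tr.n (Tr.n (Tr.l (0x23dc82dcea5d6820324188e69341b6)) (Tr.l (0x91c257decaad0c91c19142c026926e))) (Tr.n (Tr.l (0xb1e0e5018b2ca349bc35112ed4a0c3)) (Tr.l (0xbdab49ca307b9ac5a928398a418820))))) (Tr.n (Tr.n (Tr.n (Tr.l (0xa8da92a96f0b271352c813a12b8087)) (Tr.l (0xa48a9abdc060d48106c499a2d3ae17))) (Tr.n (Tr.l (0x52ccf890b008dacb24489b8f2adc14)) (Tr.l (0xbdab49ca307b9ac5a928398a418820))))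 (Tr.n (Tr.n (Tr.l (0x25276aa4e2695ea0b24088dd734168)) (Tr.l (0x7c6152592d9c8e81d0065098bb84ae))) (Tr.n (Tr.l (0x48e874103775aaa348536ac0c7c225)) (Tr.l (0xbdab49ca307b9ac5a928398a418820)))))) (Tr.n (Tr.n (Tr.n (Tr.n (Tr.l (0x152b2659a74aa00bac8f08dd32a226)) (Tr.l (0x34017414315524e14ea95bec768c8c))) (Tr.n (Tr.l (0x4d8b47106c7cdb058ae831eb28a820)) (Tr.l (0xbdab49ca307b9ac5a928398a418820)))) (Tr.n (Tr.n (Tr.l (0x4106a304af49e00959ac74e34aac57)) (Tr.l (0xa1eca8c00b90462612e9335c8abe65))) (Tr.n (Tr.l (0xb1925ba14d1b1cf9ae8714a0020635)) (Tr.l (0xbdab49ca307b9ac5a928398a418820))))) (Tr.n (Tr.n (Tr.n (Tr.l (0x58c45536e8331d49d9f14ca01200f5)) (Tr.l (0xbbac67b1a23ae708c883a200a0a6a5))) (Tr.n (Tr.l (0xddd2ada2d815484828231e6b1bc8c)) (Tr.l (0xbdab49ca307b9ac5a928398a418820)))) (Tr.n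 (Tr.n (Tr.l (0x78872358a861eed5040974e2bad090)) (Tr.l (0x9dde268c3522205499cc5d811a1d52))) (Tr.n (Tr.l (0x800ef990a20c68c5dd4d1baa934ac8)) (Tr.l (0xbdab49ca307b9ac5a928398a418820))))))
def LTH_11 : Tr ℕ := Tr.n (Tr.n (Tr.n (Tr.n (Tr.n (Tr.l (0x706437d90d01e0a2c58648a6bbd2a4)) (Tr.l (0x78a291ae76816412010a71ab43b597))) (Tr.n (Tr.l (0xbb634341c401d7240936a946c9a82f)) (Tr.l (0x54d060b1a21daa43c251a2de905dc5)))) (Tr.n (Tr.n (Tr.l (0xa5ca49d8cd639484bc2288eab38250)) (Tr.l (0x956c545c2a380c41c0537b68c5a62e))) (Tr.n (Tr.l (0x82e349b1c2b14374288019cd2aa5ed)) (Tr.l (0xbdab49ca307b9ac5a928398a418820))))) (Tr.n (Tr.n (Tr.n (Tr.l (0x1a6ea6918581aae8ca8802e61b1de2)) (Tr.l (0x431c28d8e0219219516a2cead1bef0))) (Tr.n (Tr.l (0x6922a3d2a049a0f92d0c9b8612d857)) (Tr.l (0xbdab49ca307b9ac5a928398a418820))))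 (Tr.n (Tr.n (Tr.l (0x6b26a2be34bd4818591231dc01ac49)) (Tr.l (0x2ddea455b14d04e20cf0059660cd92))) (Tr.n (Tr.l (0xb0a693b460bb948906842c4cfaae0c)) (Tr.l (0xbdab49ca307b9ac5a928398a418820)))))) (Tr.n (Tr.n (Tr.n (Tr.n (Tr.l (0x2a22a1ccf4b17268c960c1d32d517)) (Tr.l (0x1c02c7cd7512151b98b2682c7a3924))) (Tr.n (Tr.l (0x691c9a8221115949591031e6f1aeea)) (Tr.l (0xbdab49ca307b9ac5a928398a418820)))) (Tr.n (Tr.n (Tr.l (0x4d8603c1c4a19125aaeda962c989e1)) (Tr.l (0x802af3ca37a382c4292b99862291b6))) (Tr.n (Tr.l (0x650f6288d068df75a928ac66474820)) (Tr.l (0xbdab49ca307b9ac5a928398a418820))))) (Tr.n (Tr.n (Tr.n (Tr.l (0x49a95031a473e3238ae35d830428b3)) (Tr.l (0x2ddb2055f14848610e7042ecea1d8a))) (Tr.n (Tr.l (0x78a6c2a06b2553655017399cd88612)) (Tr.l (0xbdab49ca307b9ac5a928398a418820)))) (Tr.n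 (Tr.n (Tr.l (0x6046d3ddc2599eaa4a00a962999116)) (Tr.l (0x790aa758684ce0d9040c31eab8d057))) (Tr.n (Tr.l (0x6346b88a6aa14047c2e871eb232436)) (Tr.l (0xbdab49ca307b9ac5a928398a418820))))))
def LTH_12 : Tr ℕ := Tr.n (Tr.n (Tr.n (Tr.n (Tr.n (Tr.l (0x4d43353e9775868301a712e5023225)) (Tr.l (0xb1269184ad1558f502973b8cb8a212))) (Tr.n (Tr.l (0x120e1190b07c6cc6dd4b9b8d2aa680)) (Tr.l (0x238070b1f22da2a34055a2da945e63)))) (Tr.n (Tr.n (Tr.l (0xb48b7984e053a0f2356c1c6b432122)) (Tr.l (0x256c5409e98d072332f30b4105a8ee))) (Tr.n (Tr.l (0x63e2b2a47041a8ab5c4da9e6474801)) (Tr.l (0xbdab49ca307b9ac5a928398a418820))))) (Tr.n (Tr.n (Tr.n (Tr.l (0x7da71749303556c4028d55ca410467)) (Tr.l (0x91db145c29a827071046a59ec5a8a3))) (Tr.n (Tr.l (0x4ae2f3426409db2b2ae82d46c70814)) (Tr.l (0xbdab49ca307b9ac5a928398a418820))))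 (Tr.n (Tr.n (Tr.l (0x23cad72462b4e8a0324131eb78c10b)) (Tr.l (0x5dcec9bc68245419501029ab673449))) (Tr.n (Tr.l (0x33d804d65158ac70b86855c938168d)) (Tr.l (0xbdab49ca307b9ac5a928398a418820)))))) (Tr.n (Tr.n (Tr.n (Tr.n (Tr.l (0x7200b658ea13601bccafa8d3234684)) (Tr.l (0x4164363616a8a2f32c33226f4501c7))) (Tr.n (Tr.l (0x5dc4aa06b61556485e239a6d8d250)) (Tr.l (0xbdab49ca307b9ac5a928398a418820)))) (Tr.n (Tr.n (Tr.l (0x440e98866f50c80659b2a94d472ee2)) (Tr.l (0xb5e9594de18ac8570ce64a18d50202))) (Tr.n (Tr.l (0x99010b39719518550cd77b5070d522)) (Tr.l (0xbdab49ca307b9ac5a928398a418820))))) (Tr.n (Tr.n (Tr.n (Tr.l (0x9b1aab1a91bac83815d2781070d449)) (Tr.l (0x53eab9c232b140ca5d2138dc43090d))) (Tr.n (Tr.l (0x7dcb29a0eb839564d0021c6ad3048c)) (Tr.l (0xbdab49ca307b9ac5a928398a418820)))) (Tr.n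 (Tr.n (Tr.l (0x7dcec8da6890c4d4840aa94cb75204)) (Tr.l (0x23e2d35ea259c2a0425474c692b116))) (Tr.n (Tr.l (0x52ced28ab0b0d17a324f33a648a401)) (Tr.l (0xbdab49ca307b9ac5a928398a418820))))))
def LTH_13 : Tr ℕ := Tr.n (Tr.n (Tr.n (Tr.n (Tr.n (Tr.l (0x4c4336594d71e15bc8cf00c4b25105)) (Tr.l (0xad2f649c86689e301661941516390b))) (Tr.n (Tr.l (0x15a2f311d009d0c5dd4da94729a414)) (Tr.l (0xbdab49ca307b9ac5a928398a418820)))) (Tr.n (Tr.n (Tr.l (0x80676a88c969417a498f1c5ca39168)) (Tr.l (0x656c3425e28acb771253081aaa40e6))) (Tr.n (Tr.l (0x41931b86542c26b735e720996502a3)) (Tr.l (0xbdab49ca307b9ac5a928398a418820))))) (Tr.n (Tr.n (Tr.n (Tr.l (0x359c9aca90bcd0c69e2b03ca408c4a)) (Tr.l (0x616867a969386a274893458176c071))) (Tr.n (Tr.l (0x6c0c91d1c05448f62d122d4e19dae2)) (Tr.l (0xbdab49ca307b9ac5a928398a418820))))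 (Tr.n (Tr.n (Tr.l (0x205cb2a4c24540aa324f1c6773c2cd)) (Tr.l (0x440a4185d65452b63db731eb498242))) (Tr.n (Tr.l (0x45c72352a0245211596a994ef73590)) (Tr.l (0xbdab49ca307b9ac5a928398a418820)))))) (Tr.n (Tr.n (Tr.n (Tr.n (Tr.l (0x75643a1dec019616ccb68c122ba144)) (Tr.l (0x990305bac793d85b986aa21b105449))) (Tr.n (Tr.l (0x522a09c2320b9646dc56398ac1a5f4)) (Tr.l (0xbdab49ca307b9ac5a928398a418820)))) (Tr.n (Tr.n (Tr.l (0xa6642d86d65448b828a399cb8be50)) (Tr.l (0x7a4e48b4ab80d56b840274cc8ad24c))) (Tr.n (Tr.l (0x7403769567921466466278295b0d24)) (Tr.l (0xbdab49ca307b9ac5a928398a418820))))) (Tr.n (Tr.n (Tr.n (Tr.l (0x7dc69aacc123a401368c994e88d950)) (Tr.l (0x70181218436aad5414f44c2f39456f))) (Tr.n (Tr.l (0x7a9d0aa22b916f61500931e6d18584)) (Tr.l (0xbdab49ca307b9ac5a928398a418820)))) (Tr.n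 (Tr.n (Tr.l (0x592223bca1b9a14936cc74c60aa149)) (Tr.l (0x25a28adcd00168c58a4174c693a9af))) (Tr.n (Tr.l (0x852ad2dc695cc0a7b081899c23cac8)) (Tr.l (0xbdab49ca307b9ac5a928398a418820))))))
def LTH_14 : Tr ℕ := Tr.n (Tr.n (Tr.n (Tr.n (Tr.n (Tr.l (0xae8e2580712a112d5ec4c873321b7)) (Tr.l (0x24683b41a9300f272ae57ad020b275))) (Tr.n (Tr.l (0x134d4892b000d6c45d5674cf22a42f)) (Tr.l (0xbdab49ca307b9ac5a928398a418820)))) (Tr.n (Tr.n (Tr.l (0x83ea8988695ba970498131caa891b6)) (Tr.l (0xbcd06b49f08acac729350d1a4008e3))) (Tr.n (Tr.l (0x2dd0c5b9b55509184c62b05e601d32)) (Tr.l (0xbdab49ca307b9ac5a928398a418820))))) (Tr.n (Tr.n (Tr.n (Tr.l (0x7051129db7132b47a6cb1ce1232880)) (Tr.l (0x8e92b46125594559f09b8c88aef2))) (Tr.n (Tr.l (0x6c862350a0b9d8f22d1074e21ad949)) (Tr.l (0xbdab49ca307b9ac5a928398a418820))))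 (Tr.n (Tr.n (Tr.l (0xb42a2750ef4ce40635641c4a132157)) (Tr.l (0x7044f94c86a5c0541c6b541914d6cd))) (Tr.n (Tr.l (0x59c85836568a9cfaa00360934b84d3)) (Tr.l (0xbdab49ca307b9ac5a928398a418820)))))) (Tr.n (Tr.n (Tr.n (Tr.n (Tr.l (0x146b2429844be743baf65c0232b406)) (Tr.l (0x2aa9779d636588e84cc9405b504642))) (Tr.n (Tr.l (0x55a74ac0f2795a45dc4888dcc32420)) (Tr.l (0xbdab49ca307b9ac5a928398a418820)))) (Tr.n (Tr.n (Tr.l (0x158a17423204da45a54839aac1de8f)) (Tr.l (0x8b67044866214091299779e8e5d6c1))) (Tr.n (Tr.l (0x44c4ebbe143c8cd8ac252259650075)) (Tr.l (0xbdab49ca307b9ac5a928398a418820))))) (Tr.n (Tr.n (Tr.n (Tr.l (0x82cd62dc72a4c2c42880756223a5af)) (Tr.l (0x515e3b30023d2728c086585b7426ae))) (Tr.n (Tr.l (0x7a6a4720cb64c56bd00a88cad38650)) (Tr.l (0xbdab49ca307b9ac5a928398a418820))))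 (Tr.n (Tr.n (Tr.l (0x83ceb1a6aa6c4220119474cd72cac8)) (Tr.l (0x408c48866060d2f52db72d4f475a50))) (Tr.n (Tr.l (0x990306c68e4ad4560eb7459e701a42)) (Tr.l (0xbdab49ca307b9ac5a928398a418820))))))
def LTH_15 : Tr ℕ := Tr.n (Tr.n (Tr.n (Tr.n (Tr.n (Tr.l (0x8d4e21e4f031682c6d448a13bd4cd)) (Tr.l (0x410b2700f450c4d4d82c8cccbabef0))) (Tr.n (Tr.l (0x800ad70a29b4c377c99439aaa1910b)) (Tr.l (0xbdab49ca307b9ac5a928398a418820)))) (Tr.n (Tr.n (Tr.l (0xa0a702da2d9552853c3731dcb18184)) (Tr.l (0x4be2b3b26441a9200ae1a947072acd))) (Tr.n (Tr.l (0xa0c4565aefaaa2b9b50e92600204e6)) (Tr.l (0xbdab49ca307b9ac5a928398a418820))))) (Tr.n (Tr.n (Tr.n (Tr.l (0x825ac312855de2e4095590e613bec0)) (Tr.l (0x5ca41be2849a5653690acdc13ad82))) (Tr.n (Tr.l (0x650cd8a6aa58c020ca0f74cf729116)) (Tr.l (0xbdab49ca307b9ac5a928398a418820))))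 (Tr.n (Tr.n (Tr.l (0xb11d7ad06f515809357039a618a122)) (Tr.l (0x20d07b5c0a9bcb073126a343258ab1))) (Tr.n (Tr.l (0x2dc2979d71222558386a682d3a1982)) (Tr.l (0xbdab49ca307b9ac5a928398a418820)))))) (Tr.n (Tr.n (Tr.n (Tr.n (Tr.l (0x2222ab2844da6a7b9a71ac3029a57)) (Tr.l (0x69c436012b9c0b6351152494fb862e))) (Tr.n (Tr.l (0x6c2aa700c1bce546590488caf3ac49)) (Tr.l (0xbdab49ca307b9ac5a928398a418820)))) (Tr.n (Tr.n (Tr.l (0x121cf2c0f2a55646a55688e6c35c01)) (Tr.l (0x89d2d7918e0a877b40405c906a5665))) (Tr.n (Tr.l (0x851cb9aa22694177b08119ea934916)) (Tr.l (0xbdab49ca307b9ac5a928398a418820))))) (Tr.n (Tr.n (Tr.n (Tr.l (0x7518f4cee7090156986b82851916c8)) (Tr.l (0x3bd5424c46431630ba2d942f549416))) (Tr.n (Tr.l (0xa5e722ac688554d4bc22399d68808c)) (Tr.l (0xbdab49ca307b9ac5a928398a418820)))) (Tr.n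 (Tr.n (Tr.l (0x690e2885cfb8e0092d0c2d4d49d949)) (Tr.l (0x55220ab0c9416d70c84b74c70391ed))) (Tr.n (Tr.l (0x9b64111c8e032c3a1a2f542f54950b)) (Tr.l (0xbdab49ca307b9ac5a928398a418820))))))
def LTH_16 : Tr ℕ := Tr.n (Tr.n (Tr.n (Tr.n (Tr.n (Tr.l (0xacd092d82a73614301ec12c72244f7)) (Tr.l (0x1858894486a29aeb1ca085d3514deb))) (Tr.n (Tr.l (0x851cb288e9455f70c98088e6a312cd)) (Tr.l (0xbdab49ca307b9ac5a928398a418820)))) (Tr.n (Tr.n (Tr.l (0x93e68aa4c25968a040811c5d73b1b6)) (Tr.l (0xcae08444f2146831eaa62dd36d934))) (Tr.n (Tr.l (0x692a2320f490d40605772ba768bd30)) (Tr.l (0xbdab49ca307b9ac5a928398a418820))))) (Tr.n (Tr.n (Tr.n (Tr.l (0x5cb15a0921c1936d02ead84a49de6)) (Tr.l (0x7021651a456903140cebbb1331568f))) (Tr.n (Tr.l (0x4a0d48c0a400ed26aaeb9b8eca882f)) (Tr.l (0xbdab49ca307b9ac5a928398a418820))))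 (Tr.n (Tr.n (Tr.l (0x652b698a296b9f709200398aa1c968)) (Tr.l (0x5c8cc1be614b948bb410a9cb68d044))) (Tr.n (Tr.l (0x5c52ebd201aa8cf3d9a361040920b3)) (Tr.l (0xbdab49ca307b9ac5a928398a418820)))))) (Tr.n (Tr.n (Tr.n (Tr.n (Tr.l (0x7500b8b58513e48526f69c2a331c24)) (Tr.l (0x1dc2ab1db315126616b00216e7c492))) (Tr.n (Tr.l (0x63ca872a375ce890120139aa21c9b6)) (Tr.l (0xbdab49ca307b9ac5a928398a418820)))) (Tr.n (Tr.n (Tr.l (0x5c0a2984c04ba4f622c488eb43b557)) (Tr.l (0x5b6038aae8388299b245312af75016))) (Tr.n (Tr.l (0x2903058e95136f3645cab21e601e49)) (Tr.l (0xbdab49ca307b9ac5a928398a418820))))) (Tr.n (Tr.n (Tr.n (Tr.l (0x806a82927200d6ab32f471a223a5ed)) (Tr.l (0x81df1b080c2b5d21a8955a2970a4d3))) (Tr.n (Tr.l (0xa2ab072cc894eed13c2988cb638184)) (Tr.l (0xbdab49ca307b9ac5a928398a418820))))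 (Tr.n (Tr.n (Tr.l (0xa26303b6ab21956b80229b8682bd92)) (Tr.l (0x900cd8de6258e8a7b0812d4e974116))) (Tr.n (Tr.l (0x645f30a9b770062312475a289b40b5)) (Tr.l (0xbdab49ca307b9ac5a928398a418820))))))
def LTH_17 : Tr ℕ := Tr.n (Tr.n (Tr.n (Tr.n (Tr.n (Tr.l (0x8cea929c2c7196abcad400e02221ed)) (Tr.l (0x750964944605d0708e6d642555456f))) (Tr.n (Tr.l (0x788b09b4d69392b5501788ea838584)) (Tr.l (0xbdab49ca307b9ac5a928398a418820)))) (Tr.n (Tr.n (Tr.l (0xa26b2758ed84c48bbc2a1c4ab3008c)) (Tr.l (0x484ed8b2a4b0c12a0aef9b8d02a90b))) (Tr.n (Tr.l (0x426a41bcad64c41902908b8cb3daea)) (Tr.l (0xbdab49ca307b9ac5a928398a418820))))) (Tr.n (Tr.n (Tr.n (Tr.l (0x25df6082123a1c66d142616a958e33)) (Tr.l (0xbcdaeb3292300e9188857ac2a44235))) (Tr.n (Tr.l (0xb42293bea151894621729b8602b6e2)) (Tr.l (0xbdab49ca307b9ac5a928398a418820))))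 (Tr.n (Tr.n (Tr.l (0x692b773cf454d81959101c4a032d22)) (Tr.l (0x204c09dc6c6bad0a2a4ba94e9889e8))) (Tr.n (Tr.l (0x5346b732220d5f7b4134994f231100)) (Tr.l (0xbdab49ca307b9ac5a928398a418820)))))) (Tr.n (Tr.n (Tr.n (Tr.n (Tr.l (0x72a4341a8505855625a79ae30bbc24)) (Tr.l (0x44e4382c8d2a8f48d83560ae04bdc6))) (Tr.n (Tr.l (0x605d62a8f76d409a120f88e6234968)) (Tr.l (0xbdab49ca307b9ac5a928398a418820)))) (Tr.n (Tr.n (Tr.l (0xa8b09d8ed93ae8102891c6ab33d84)) (Tr.l (0xbd0323bad0635664d62a28062991e8))) (Tr.n (Tr.l (0x521d42c8707d56c6dc5631e648a420)) (Tr.l (0xbdab49ca307b9ac5a928398a418820))))) (Tr.n (Tr.n (Tr.n (Tr.l (0x7014d48c875de867d6618305191516)) (Tr.l (0x915a7b0a978adc9ab0937810a0c0c3))) (Tr.n (Tr.l (0xa25c4aae286144dbbc2a31e7618250)) (Tr.l (0xbdab49ca307b9ac5a928398a418820)))) (Tr.n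 (Tr.n (Tr.l (0x6b229384af51a4082d0474c74adae2)) (Tr.l (0x5927033eadb9c48906ca1c5c02d189))) (Tr.n (Tr.l (0x11d6605c321b62a9b09543e90b25c5)) (Tr.l (0xbdab49ca307b9ac5a928398a418820))))))
def LTH_18 : Tr ℕ := Tr.n (Tr.n (Tr.n (Tr.n (Tr.n (Tr.l (0x7b1a472632508a08202bb1ee69d683)) (Tr.l (0x8aa972ce891a0f202d7196349b58a))) (Tr.n (Tr.l (0x950ab7262244dea0c08039ab71b2cd)) (Tr.l (0xbdab49ca307b9ac5a928398a418820)))) (Tr.n (Tr.n (Tr.l (0xa29ccad86d216e813c2939a6b88212)) (Tr.l (0x9040646ef9387631e69834b55a154))) (Tr.n (Tr.l (0x3220194c550116568cf64dd8e5468f)) (Tr.l (0xbdab49ca307b9ac5a928398a418820))))) (Tr.n (Tr.n (Tr.n (Tr.l (0xc4f2dccb0c6d549213539076b292)) (Tr.l (0x2196e049f7386628a605b350ca2aa3))) (Tr.n (Tr.l (0xb48e28be61b8d9422170a94c073549)) (Tr.l (0xbdab49ca307b9ac5a928398a418820))))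 (Tr.n (Tr.n (Tr.l (0x63dcd288c9b5697012011c66a3c90b)) (Tr.l (0x91d02b4ebb98404bd0c8cc74ad952))) (Tr.n (Tr.l (0xa15315218b389d6abc33912ed80066)) (Tr.l (0xbdab49ca307b9ac5a928398a418820)))))) (Tr.n (Tr.n (Tr.n (Tr.n (Tr.l (0xa8da92a96f0b271352c813a12b8087)) (Tr.l (0x506a81b27769690b124b33a29389e0))) (Tr.n (Tr.l (0x4b66fa90eca16d040aeb88dd232801)) (Tr.l (0xbdab49ca307b9ac5a928398a418820)))) (Tr.n (Tr.n (Tr.l (0xbda61a90cc015b05a9281c5d238a8f)) (Tr.l (0x59db2a8808658a4542e93063473c73))) (Tr.n (Tr.l (0x9aacc6d56ebd08381629405e701852)) (Tr.l (0xbdab49ca307b9ac5a928398a418820))))) (Tr.n (Tr.n (Tr.n (Tr.l (0xb0c85601549c0e18a166ba64f136ae)) (Tr.l (0x4c565b090a3bdd09dc836d00c0c8d5))) (Tr.n (Tr.l (0x55aa19b064039b25dc4831cb08a68f)) (Tr.l (0xbdab49ca307b9ac5a928398a418820)))) (Tr.n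 (Tr.n (Tr.l (0xa08f28b66b60ef650029a94c873c90)) (Tr.l (0x5caac8826db8c48252ca398af70609))) (Tr.n (Tr.l (0x321802152e0c97368cf612a15bc5f4)) (Tr.l (0xbdab49ca307b9ac5a928398a418820))))))
def LTH_19 : Tr ℕ := Tr.n (Tr.n (Tr.n (Tr.n (Tr.n (Tr.l (0xb50c472502600b25d4233bdb79c550)) (Tr.l (0x8ad4894ee701026b54748304e495af))) (Tr.n (Tr.l (0x7a5d2ab4768144bbd00a39a688848c)) (Tr.l (0xbdab49ca307b9ac5a928398a418820)))) (Tr.n (Tr.n (Tr.l (0x6006b3a66a69a827ca012d637712c8)) (Tr.l (0x3a58613e1153693006c4bb9682d643))) (Tr.n (Tr.l (0x64df502ac21b4c43c12e5d1120de25)) (Tr.l (0xbdab49ca307b9ac5a928398a418820))))) (Tr.n (Tr.n (Tr.n (Tr.l (0x93581401c9a186281d652466ab55f7)) (Tr.l (0x3a096956e5089f1019cd4c14364e8b))) (Tr.n (Tr.l (0x63e36325ca41c2204a14a94779916d)) (Tr.l (0xbdab49ca307b9ac5a928398a418820))))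 (Tr.n (Tr.n (Tr.l (0x604ab7086944c17a120f31eaa8cacd)) (Tr.l (0x819f3a0917a8469391915d80a6c9c5))) (Tr.n (Tr.l (0xbd276a89c97c5ac5aa0028ce434828)) (Tr.l (0xbdab49ca307b9ac5a928398a418820)))))) (Tr.n (Tr.n (Tr.n (Tr.n (Tr.l (0x8c0c92b0760d268ba8f5039626c88f)) (Tr.l (0xa3a51bae00332a83b6c3510414bcb3))) (Tr.n (Tr.l (0xb12a9704c014d8f9357088cb43a2ea)) (Tr.l (0xbdab49ca307b9ac5a928398a418820)))) (Tr.n (Tr.n (Tr.l (0xba2af9906ca39706a93631cb288801)) (Tr.l (0x1d58115253b2a2b6a1e0226e7814ce))) (Tr.n (Tr.l (0x60d060c8173b6249894e5be89b42a5)) (Tr.l (0xbdab49ca307b9ac5a928398a418820))))) (Tr.n (Tr.n (Tr.n (Tr.l (0xbcc2e6c0023acc9a9143b21f2a30b1)) (Tr.l (0x8d14d254435dc13415d69258681c2f))) (Tr.n (Tr.l (0xa08ac9ace82392d53c371c6b630212)) (Tr.l (0xbdab49ca307b9ac5a928398a418820))))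 (Tr.n (Tr.n (Tr.l (0x600f61dea24468a7ca0174cc92916d)) (Tr.l (0x49ca2d8e84d58d251f088e6b30457))) (Tr.n (Tr.l (0x91ec600910706641a585a3db75aa35)) (Tr.l (0xbdab49ca307b9ac5a928398a418820))))))
def LTH_20 : Tr ℕ := Tr.n (Tr.n (Tr.n (Tr.n (Tr.n (Tr.l (0x7b0e548a8b6b8c1846b3b2ae490103)) (Tr.l (0x14686b102aaa1d73c9255b40c7c073))) (Tr.n (Tr.l (0x7aaac734f624eeb150091c4a830612)) (Tr.l (0xbdab49ca307b9ac5a928398a418820)))) (Tr.n (Tr.n (Tr.l (0xa24ec8a1d690d4bb80222d4cd9be04)) (Tr.l (0x64d06b24223b5d7292557d16a04223))) (Tr.n (Tr.l (0x1818821e1108975698b492933bb9f6)) (Tr.l (0xbdab49ca307b9ac5a928398a418820))))) (Tr.n (Tr.n (Tr.n (Tr.l (0x59dc4806c2530b51a28f8c809bcccd)) (Tr.l (0x1586f8a4f74142ca2a4b34eb0711a0))) (Tr.n (Tr.l (0x5c7035aa821c4d4d1ea9ba2b28592)) (Tr.l (0xbdab49ca307b9ac5a928398a418820))))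 (Tr.n (Tr.n (Tr.l (0x9ccab6362152b505f731e681d212)) (Tr.l (0x53676388c445569a4a0070e2c2dde1))) (Tr.n (Tr.l (0xa1c9182ee89a6a073ec314941634a6)) (Tr.l (0xbdab49ca307b9ac5a928398a418820)))))) (Tr.n (Tr.n (Tr.n (Tr.n (Tr.l (0xce23366fab254222d17260bb84aa)) (Tr.l (0x389f245431652ee84ca4b016668d2a))) (Tr.n (Tr.l (0x52dc12c0d205504b5c4d1c66c3a68f)) (Tr.l (0xbdab49ca307b9ac5a928398a418820)))) (Tr.n (Tr.n (Tr.l (0x59277286205558f922d031dd41b522)) (Tr.l (0x7b0647026b81e41bd9a2896a835149))) (Tr.n (Tr.l (0x6a9cc32c74b9c81101122d6768be09)) (Tr.l (0xbdab49ca307b9ac5a928398a418820))))) (Tr.n (Tr.n (Tr.n (Tr.l (0x8c00c44c2655843914e95b6957b897)) (Tr.l (0x834e82c9c958ecc00ae18d66a311f4))) (Tr.n (Tr.l (0xb4a2a380b4499812217074c6fab457)) (Tr.l (0xbdab49ca307b9ac5a928398a418820)))) (Tr.n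 (Tr.n (Tr.l (0xa5c6c334ab91c564802a74e28abe04)) (Tr.l (0x504cf9c22943ad7a104b2d4ec1c80d))) (Tr.n (Tr.l (0x2bd88944466c0030cdd4ba8874d6cb)) (Tr.l (0xbdab49ca307b9ac5a928398a418820))))))
def LTH_21 : Tr ℕ := Tr.n (Tr.n (Tr.n (Tr.n (Tr.n (Tr.l (0xb51e54814333ae15a2333b1a414ab0)) (Tr.l (0x424a232e20556f69068498cef7360c))) (Tr.n (Tr.l (0xbb5cf2c8d0a56cc4292b1c66438801)) (Tr.l (0xbdab49ca307b9ac5a928398a418820)))) (Tr.n (Tr.n (Tr.l (0x900eb1a8a96c6977b0819b8c2ac2c8)) (Tr.l (0xc14b9448f119c829eb748073a598d))) (Tr.n (Tr.l (0x1168344809886a434187b3db75a9d3)) (Tr.l (0xbdab49ca307b9ac5a928398a418820))))) (Tr.n (Tr.n (Tr.n (Tr.l (0x1c589118f34540ebbc8ab05b45c245)) (Tr.l (0x620f4ac9d75cdeab088119a302a40d))) (Tr.n (Tr.l (0x28d21da686452d151f7a94eb70490)) (Tr.l (0xbdab49ca307b9ac5a928398a418820))))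 (Tr.n (Tr.n (Tr.l (0x6c1c2abc74496416590439a608ad57)) (Tr.l (0x71290b4d6690195b9e2a0b50379449))) (Tr.n (Tr.l (0x4d874888ea44c107dc8b315ccac9a1)) (Tr.l (0xbdab49ca307b9ac5a928398a418820)))))) (Tr.n (Tr.n (Tr.n (Tr.n (Tr.l (0x941e0b9a768d04a254e872563684ac)) (Tr.l (0x9346b708ec7cc3045c94a962a326c0))) (Tr.n (Tr.l (0x534af74072a4ec445c4b31eac8a401)) (Tr.l (0xbdab49ca307b9ac5a928398a418820)))) (Tr.n (Tr.n (Tr.l (0x5226fab0c4a15726dc561c5d03a401)) (Tr.l (0xb86282a9c47d6d2a312b398629c1a0))) (Tr.n (Tr.l (0x9d208245266b023016af55e4713acb)) (Tr.l (0xbdab49ca307b9ac5a928398a418820))))) (Tr.n (Tr.n (Tr.n (Tr.l (0x5a87775a6f11d2d20030896b432192)) (Tr.l (0x3daeb24c430b28641620849554b9af))) (Tr.n (Tr.l (0x12c6039270a19acb5d482d632725e1)) (Tr.l (0xbdab49ca307b9ac5a928398a418820))))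 (Tr.n (Tr.n (Tr.l (0xa28c41b5cb84536100372d4e89be4c)) (Tr.l (0x7dca21d9c1945944a01031eab9b544))) (Tr.n (Tr.l (0x14c066a56cad872292e7a3c2a4422e)) (Tr.l (0xbdab49ca307b9ac5a928398a418820))))))
def LTH_22 : Tr ℕ := Tr.n (Tr.n (Tr.n (Tr.n (Tr.n (Tr.l (0xb21970a412788b49b56e510e61d630)) (Tr.l (0x40d454b6f6892af72c2713214900d3))) (Tr.n (Tr.l (0x901cd2a4e2b542a7c09488e773310b)) (Tr.l (0xbdab49ca307b9ac5a928398a418820)))) (Tr.n (Tr.n (Tr.l (0xa2872322b661d2b100379ba2d2bc90)) (Tr.l (0xab12e22153851b15d8229180f19ee5))) (Tr.n (Tr.l (0x1daed49595090077c5cb82a4614e88)) (Tr.l (0xbdab49ca307b9ac5a928398a418820))))) (Tr.n (Tr.n (Tr.n (Tr.l (0x392850a5aaa825760e305d9e2419d3)) (Tr.l (0xb3a156014f8dccd3ae931492820465))) (Tr.n (Tr.l (0x6b0f78d26010e4f82d04a94c17592a)) (Tr.l (0xbdab49ca307b9ac5a928398a418820))))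 (Tr.n (Tr.n (Tr.l (0x93ead9de2ab3a8204081398a91b10b)) (Tr.l (0x8d92854e057b027019cd25e431568b))) (Tr.n (Tr.l (0x4da6b2b07209a977a88d3d62274008)) (Tr.l (0xbdab49ca307b9ac5a928398a418820)))))) (Tr.n (Tr.n (Tr.n (Tr.n (Tr.l (0xac1892bdd65a0603454d106723d2e4)) (Tr.l (0xac1ac5c687bbd2514cd20582e40d44))) (Tr.n (Tr.l (0xb41caa8620b964f6356431e741a049)) (Tr.l (0xbdab49ca307b9ac5a928398a418820)))) (Tr.n (Tr.n (Tr.l (0x5b2aa704e0bcc8f822d21c4b433449)) (Tr.l (0x7cec974008604a2912eaab62b350e3))) (Tr.n (Tr.l (0x94de3030302a0e93104ea59b75aab1)) (Tr.l (0xbdab49ca307b9ac5a928398a418820))))) (Tr.n (Tr.n (Tr.n (Tr.l (0x889b241ec64860560e6a582957bae4)) (Tr.l (0x8a12fb9d46b1035a0dcd1424564d60))) (Tr.n (Tr.l (0xbb4cb9a5d0446caa324f3d4a418801)) (Tr.l (0xbdab49ca307b9ac5a928398a418820))))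 (Tr.n (Tr.n (Tr.l (0x93e2b30a7769c29030942d46a742c8)) (Tr.l (0x480742c8eab55027b2ed9ba243402b))) (Tr.n (Tr.l (0x88f22d8602194b635109c6af752e9)) (Tr.l (0xbdab49ca307b9ac5a928398a418820))))))
def LTH_23 : Tr ℕ := Tr.n (Tr.n (Tr.n (Tr.n (Tr.n (Tr.l (0x3d68d0a642b00aa9986e611f78450b)) (Tr.l (0x106748c8b759eca7b12830eb07100d))) (Tr.n (Tr.l (0xa4b29acc88384db828a88eb63bc8c)) (Tr.l (0xbdab49ca307b9ac5a928398a418820)))) (Tr.n (Tr.n (Tr.l (0xa5cd01a2762444b4802aa94ed73d92)) (Tr.l (0x9aa03bd85522e9102032639af29d26))) (Tr.n (Tr.l (0xa4723be341560d2010a315d69aeec)) (Tr.l (0xbdab49ca307b9ac5a928398a418820))))) (Tr.n (Tr.n (Tr.n (Tr.l (0x3a59385828acaeb51a2203c8da0dc5)) (Tr.l (0x40c534848f72a343d96664ae0834b5))) (Tr.n (Tr.l (0x9522d329c959c170b08fa94629c116)) (Tr.l (0xbdab49ca307b9ac5a928398a418820))))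 (Tr.n (Tr.n (Tr.l (0x9066badcea41402a408f88dc9332cd)) (Tr.l (0xa12b09b62b48d4fb810c394c175852))) (Tr.n (Tr.l (0x8a5b779a9352c43915d0b003541c8c)) (Tr.l (0xbdab49ca307b9ac5a928398a418820)))))) (Tr.n (Tr.n (Tr.n (Tr.n (Tr.l (0x8ae892d9c71d612ba186006627a9a4)) (Tr.l (0x79a55602013dcab9d1b1228484d86e))) (Tr.n (Tr.l (0x412692bc741558192db0399c08daea)) (Tr.l (0xbdab49ca307b9ac5a928398a418820)))) (Tr.n (Tr.n (Tr.l (0x5c9c9a84601160f222cc39a748b6ea)) (Tr.l (0x90e86691098bcf0adc4e0aeca03265))) (Tr.n (Tr.l (0x409d21d26d81520205ec8d4cb3d957)) (Tr.l (0xbdab49ca307b9ac5a928398a418820))))) (Tr.n (Tr.n (Tr.n (Tr.l (0x5a4a4704ef84d40bb6c288eb43224c)) (Tr.l (0x5e6c2d8ed25548485e21c5cb35212))) (Tr.n (Tr.l (0x21ec60a50ca80b218a137d1aa5de2e)) (Tr.l (0xbdab49ca307b9ac5a928398a418820)))) (Tr.n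 (Tr.n (Tr.l (0x950c8888b7b0c090b08f9b8eaac1ab)) (Tr.l (0x828c9aa2320b8041598f2cc6d3aef4))) (Tr.n (Tr.l (0x43070ada7421e4d10037315cf8ad49)) (Tr.l (0xbdab49ca307b9ac5a928398a418820))))))
def LTH_24 : Tr ℕ := Tr.n (Tr.n (Tr.n (Tr.n (Tr.n (Tr.l (0xb4597a882b7b8c891e696954418290)) (Tr.l (0xa38955044b9b0af8d907926ed800c3))) (Tr.n (Tr.l (0xaa6c2ae28256ed1028931dd61be12)) (Tr.l (0xbdab49ca307b9ac5a928398a418820)))) (Tr.n (Tr.n (Tr.l (0x120743c9cc01ad06dd4ba96249a42f)) (Tr.l (0x51c2e7c2d2a806435c514368c5a665))) (Tr.n (Tr.l (0xaa1419192ea09a70446f65c9381576)) (Tr.l (0xbdab49ca307b9ac5a928398a418820))))) (Tr.n (Tr.n (Tr.n (Tr.l (0x33c6d60828b1dcb2c640ace09a12ea)) (Tr.l (0x1a07920569ddcf2d16349141636b1))) (Tr.n (Tr.l (0xb10ca1bdc14c6149216c2d4e09b457)) (Tr.l (0xbdab49ca307b9ac5a928398a418820))))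 (Tr.n (Tr.n (Tr.l (0x5eb2734d684d4b485e288ca83d08c)) (Tr.l (0x3360091c91425ee08eab62845bced4))) (Tr.n (Tr.l (0x2c012b0c33bad4e61ea26a1f1a1889)) (Tr.l (0xbdab49ca307b9ac5a928398a418820)))))) (Tr.n (Tr.n (Tr.n (Tr.n (Tr.l (0x418233d369c461251a77564b522e5)) (Tr.l (0x5c493b858d2c0c0abe8e548564a0e3))) (Tr.n (Tr.l (0x440aa9bcf4bba4162da41c6a035849)) (Tr.l (0xbdab49ca307b9ac5a928398a418820)))) (Tr.n (Tr.n (Tr.l (0xbb4a07122c0ced04292b39ab2189f4)) (Tr.l (0xb5070638e1bcd06146a449640535eb))) (Tr.n (Tr.l (0x32eed91c95b0903096604c18e545f4)) (Tr.l (0xbdab49ca307b9ac5a928398a418820))))) (Tr.n (Tr.n (Tr.n (Tr.l (0x604e81a4aab45e2a4a009b8d7a91ab)) (Tr.l (0x83e203aab7b396c6c921998a418914))) (Tr.n (Tr.l (0xa5c2ab4d691e0f2010a8cc742ad97)) (Tr.l (0xbdab49ca307b9ac5a928398a418820)))) (Tr.n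 (Tr.n (Tr.l (0xa323aead61ae8551e99b87628490)) (Tr.l (0x259cd3dcac018305aa5488e69a890f))) (Tr.n (Tr.l (0x386e88198ea11b504c764a8519156f)) (Tr.l (0xbdab49ca307b9ac5a928398a418820))))))
def LTH_25 : Tr ℕ := Tr.n (Tr.n (Tr.n (Tr.n (Tr.n (Tr.l (0x3a28d88023b3af513e69315848494b)) (Tr.l (0x5c45553d8075cd43d9a38492122265))) (Tr.n (Tr.l (0xbaca17487004d0cb292d31ea488a8f)) (Tr.l (0xbdab49ca307b9ac5a928398a418820)))) (Tr.n (Tr.n (Tr.l (0x904683aa69b19f7a30802d622741ab)) (Tr.l (0x7c877a80a824d368342289cd472d4c))) (Tr.n (Tr.l (0x186401193379287b54ab85d4e645a8)) (Tr.l (0xbdab49ca307b9ac5a928398a418820))))) (Tr.n (Tr.n (Tr.n (Tr.l (0x260d55a47b98710950c255ee5d053)) (Tr.l (0x5cc87bd920728d4abda39418810625))) (Tr.n (Tr.l (0xb307733ca111e548216474e20ab52a)) (Tr.l (0xbdab49ca307b9ac5a928398a418820))))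 (Tr.n (Tr.n (Tr.l (0x5586f3ca6c099105a44d2d62475c14)) (Tr.l (0x391aa59ac39004e4c6ac406857ce17))) (Tr.n (Tr.l (0x7944e62d403ca219da86812e84b6a3)) (Tr.l (0xbdab49ca307b9ac5a928398a418820)))))) (Tr.n (Tr.n (Tr.n (Tr.n (Tr.l (0x92e80bd9279a201228cf74443655a5)) (Tr.l (0x79451850889b0cdaac07ba5419586e))) (Tr.n (Tr.l (0x449d7abe345160122dac31e601d922)) (Tr.l (0xbdab49ca307b9ac5a928398a418820)))) (Tr.n (Tr.n (Tr.l (0xbadd4290ec7d510b292d88e7230820)) (Tr.l (0x915150896c8bc6475e06052c96aa67))) (Tr.n (Tr.l (0x3b54080c8eb3033454d44dc51915eb)) (Tr.l (0xbdab49ca307b9ac5a928398a418820))))) (Tr.n (Tr.n (Tr.n (Tr.l (0x806ab9aa3743809a498f398a2192cd)) (Tr.l (0x2c16900daebd991118eaa21f30d644))) (Tr.n (Tr.l (0x3a14114523b49f5019cdbb08584d74)) (Tr.l (0xbdab49ca307b9ac5a928398a418820))))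 (Tr.n (Tr.n (Tr.l (0x6522835e62b1c0a0ca0f2d469711ab)) (Tr.l (0x80a379b4d20940452d8f754e81d934))) (Tr.n (Tr.l (0xb286c3acc813a0023689896a19bef2)) (Tr.l (0xbdab49ca307b9ac5a928398a418820))))))
def LTH_26 : Tr ℕ := Tr.n (Tr.n (Tr.n (Tr.n (Tr.n (Tr.l (0x6100f189ae504d182135b1cb79d172)) (Tr.l (0xbb46bac22903a8ab304f2cce434901))) (Tr.n (Tr.l (0x28ac9a0cb23af6105e988ead3d212)) (Tr.l (0xbdab49ca307b9ac5a928398a418820)))) (Tr.n (Tr.n (Tr.l (0x7a8f28adcd60d28104172d4d69d090)) (Tr.l (0x6c61392096189d42ade765d20504d5))) (Tr.n (Tr.l (0x215630402a9bce2aa646436cca5e2e)) (Tr.l (0xbdab49ca307b9ac5a928398a418820))))) (Tr.n (Tr.n (Tr.n (Tr.l (0x619f5035282862b3c243b8a965126e)) (Tr.l (0x73172b440355135bccf07b42541844))) (Tr.n (Tr.l (0x93cd68aaa940c370309474ce22c16d)) (Tr.l (0xbdab49ca307b9ac5a928398a418820))))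 (Tr.n (Tr.n (Tr.l (0x448ea8d1c048d8f259b02d4c19ac57)) (Tr.l (0x58912358e36152e844176d02facc8a))) (Tr.n (Tr.l (0x950cf740b701c2cb284b1d669891a8)) (Tr.l (0xbdab49ca307b9ac5a928398a418820)))))) (Tr.n (Tr.n (Tr.n (Tr.n (Tr.l (0xa480232aac4926dbaec808e0e2c5e7)) (Tr.l (0x1c9ea6997385ae5654e20829143924))) (Tr.n (Tr.l (0x432a273cd44cc8182db288ca03d957)) (Tr.l (0xbdab49ca307b9ac5a928398a418820)))) (Tr.n (Tr.n (Tr.l (0x410b7980c15399492db088eaf3d922)) (Tr.l (0xa264954edb956683a2248d40659f4))) (Tr.n (Tr.l (0x61a87025a275a70a91435bd120dcb1)) (Tr.l (0xbdab49ca307b9ac5a928398a418820))))) (Tr.n (Tr.n (Tr.n (Tr.l (0x2a702b476956eb105e9399c88d184)) (Tr.l (0x49c257b1049807230af1b2e906aaae))) (Tr.n (Tr.l (0x7d64eb812b2c2748d9072094d604c3)) (Tr.l (0xbdab49ca307b9ac5a928398a418820)))) (Tr.n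 (Tr.n (Tr.l (0x5ccc1adcd944484d1ea2d4f698604)) (Tr.l (0x92ced75c6c04e90b0881a94c98a90f))) (Tr.n (Tr.l (0x6ddc932c74554482003029e2f9da4c)) (Tr.l (0xbdab49ca307b9ac5a928398a418820))))))
def LTH_27 : Tr ℕ := Tr.n (Tr.n (Tr.n (Tr.n (Tr.n (Tr.l (0xa1256800ce606e85d5313bcad9a862)) (Tr.l (0x725707cc03bd187546b2b350509882))) (Tr.n (Tr.l (0xba260ac8f00956c6a93688dc4309f4)) (Tr.l (0xbdab49ca307b9ac5a928398a418820)))) (Tr.n (Tr.n (Tr.l (0x7de303acad218484840a74c76ad192)) (Tr.l (0x8dec94140e6060391e6aa35e65d482))) (Tr.n (Tr.l (0xb2a323d1c020c414a1b72cccfaad90)) (Tr.l (0xbdab49ca307b9ac5a928398a418820))))) (Tr.n (Tr.n (Tr.n (Tr.l (0x6c9e3a39333049562ed0ba80512227)) (Tr.l (0x3a437446d310146855c47b565a0d92))) (Tr.n (Tr.l (0x850ed1dca25c40a0918f9b8c9ac916)) (Tr.l (0xbdab49ca307b9ac5a928398a418820))))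 (Tr.n (Tr.n (Tr.l (0x442373d0a01188f659b274c61aad2a)) (Tr.l (0xa5c021b5c54c6152182a5d9e899d92))) (Tr.n (Tr.l (0x9a5177c6d52524e51cac0816668c50)) (Tr.l (0xbdab49ca307b9ac5a928398a418820)))))) (Tr.n (Tr.n (Tr.n (Tr.n (Tr.l (0x50a40bb2344926668cf50c16e2a2cf)) (Tr.l (0x7cee562d411c0f47340624936122b1))) (Tr.n (Tr.l (0x5c26a2d06fbd640622c4399c18b449)) (Tr.l (0xbdab49ca307b9ac5a928398a418820)))) (Tr.n (Tr.n (Tr.l (0x52cb4732247cd12b5c4d39ab01a420)) (Tr.l (0x101cb9c8c44542ca292f3c4b01ddb6))) (Tr.n (Tr.l (0x688e4306b480ee04a16a2ba2f9d992)) (Tr.l (0xbdab49ca307b9ac5a928398a418820))))) (Tr.n (Tr.n (Tr.n (Tr.l (0x24a49b4f66384bb85ea1c6a835250)) (Tr.l (0x4cd05b30243d06a30a157b4175ca2e))) (Tr.n (Tr.l (0x7302aa55e595931bccf00216369882)) (Tr.l (0xbdab49ca307b9ac5a928398a418820)))) (Tr.n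 (Tr.n (Tr.l (0x286432cad81d28151f774e36a864c)) (Tr.l (0xb81c1390aab19a27b12888e72ac28b))) (Tr.n (Tr.l (0x440a4ad0c110eeb4b40c3ba369bd52)) (Tr.l (0xbdab49ca307b9ac5a928398a418820))))))
def LTH_28 : Tr ℕ := Tr.n (Tr.n (Tr.n (Tr.n (Tr.n (Tr.l (0x6142f1b8e96d49484440b28d79226b)) (Tr.l (0xa564e859281dcef8817311141634c5))) (Tr.n (Tr.l (0x252ab9dc6a439e20b24031ca98c2cd)) (Tr.l (0xbdab49ca307b9ac5a928398a418820)))) (Tr.n (Tr.n (Tr.l (0x12cef1caac0c5b0b5d4874cc42a414)) (Tr.l (0x892cc5cc0e4844750cb27b686456f0))) (Tr.n (Tr.l (0x35ae148c51449ee01eab53093815b4)) (Tr.l (0xbdab49ca307b9ac5a928398a418820))))) (Tr.n (Tr.n (Tr.n (Tr.l (0xbce332545b36936009075d62aca28)) (Tr.l (0x10668190b7b55ec5c24d3b8ca8a414))) (Tr.n (Tr.l (0x83c763de624182a011942d6297496d)) (Tr.l (0xbdab49ca307b9ac5a928398a418820))))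 (Tr.n (Tr.n (Tr.l (0x250e81aaa9b44170c24f74cc22b1ab)) (Tr.l (0x79853482f4391cd286c35418b92235))) (Tr.n (Tr.l (0x600b698a375d5eaa488130dc93c10d)) (Tr.l (0xbdab49ca307b9ac5a928398a418820)))))) (Tr.n (Tr.n (Tr.n (Tr.n (Tr.l (0x42c2e2340c11647bced1a8e09351ea)) (Tr.l (0x5d6f38208f724ad1d03114980558c7))) (Tr.n (Tr.l (0x5cab7750cf54e00222cc88ca13b522)) (Tr.l (0xbdab49ca307b9ac5a928398a418820)))) (Tr.n (Tr.n (Tr.l (0x431caa8061b949482db239a6f8d849)) (Tr.l (0x8c02c795ae4dae351e7258106a5444))) (Tr.n (Tr.l (0x1ad4d21451a4006454e193133bbacf)) (Tr.l (0xbdab49ca307b9ac5a928398a418820))))) (Tr.n (Tr.n (Tr.n (Tr.l (0x13660ac0d2096c44254b1c5cc3ddf4)) (Tr.l (0x24d0eb0829380d21b2f57ae906aa25))) (Tr.n (Tr.l (0x2ddeaa46c662c8e84c626811509e49)) (Tr.l (0xbdab49ca307b9ac5a928398a418820))))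 (Tr.n (Tr.n (Tr.l (0x4acc08b2b2a0da4b2ae874cf0289e1)) (Tr.l (0x7ae6d8deb421d81b0810198a972912))) (Tr.n (Tr.l (0x91d01d22d91580122c999ccbabeea)) (Tr.l (0xbdab49ca307b9ac5a928398a418820))))))
def LTH_29 : Tr ℕ := Tr.n (Tr.n (Tr.n (Tr.n (Tr.n (Tr.l (0xa1436839e93448a5a0123b2ed15663)) (Tr.l (0x99169a1ace52211b9c620b5f50164c))) (Tr.n (Tr.l (0x7de642b6366554b4d00231dc818650)) (Tr.l (0xbdab49ca307b9ac5a928398a418820)))) (Tr.n (Tr.n (Tr.l (0xdcf08b5cb20c564be8a2d4c898192)) (Tr.l (0xb3a03652e1392af2ad1348a40534d1))) (Tr.n (Tr.l (0x955660aac48a1c938ae3a34107b0b3)) (Tr.l (0xbdab49ca307b9ac5a928398a418820))))) (Tr.n (Tr.n (Tr.n (Tr.l (0x7c8c204595292881cec98394768577)) (Tr.l (0x8a970b169522133b8ce20bdae01a4c))) (Tr.n (Tr.l (0x804c88dea2b0deaa118074ce92c9ab)) (Tr.l (0xbdab49ca307b9ac5a928398a418820))))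 (Tr.n (Tr.n (Tr.l (0xb40f7881d410c81621722d4cf9b52a)) (Tr.l (0x4457510592740a91de86059ed510f3))) (Tr.n (Tr.l (0x342caa3967ba24514ea90b41178d84)) (Tr.l (0xbdab49ca307b9ac5a928398a418820)))))) (Tr.n (Tr.n (Tr.n (Tr.n (Tr.l (0xa8c2e21a540144f6cce88c169baacc)) (Tr.l (0x32d4d21e4eb250304ca113215bc68f))) (Tr.n (Tr.l (0x5b1c2ad22f49480822d231e611b557)) (Tr.l (0xbdab49ca307b9ac5a928398a418820)))) (Tr.n (Tr.n (Tr.l (0x44aa9700e114e1422dac1c4af35aea)) (Tr.l (0xb20f051861b968e1562494d206356f))) (Tr.n (Tr.l (0xb0e21d8ad4c488802929b8cbabd57)) (Tr.l (0xbdab49ca307b9ac5a928398a418820))))) (Tr.n (Tr.n (Tr.n (Tr.l (0x7aa243daa88192d104179b86b2d24c)) (Tr.l (0xbbe343cab0b15a25a88198dc933100))) (Tr.n (Tr.l (0x8c9f759da582153638c908283b5444)) (Tr.l (0xbdab49ca307b9ac5a928398a418820)))) (Tr.n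 (Tr.n (Tr.l (0x63ccb8dca268c2a04a149b8e9a92c8)) (Tr.l (0xb26343126c78d50ba162754f22b420))) (Tr.n (Tr.l (0x68a30180af21ae14a16aaccf475a4c)) (Tr.l (0xbdab49ca307b9ac5a928398a418820))))))
def LTH_30 : Tr ℕ := Tr.n (Tr.n (Tr.n (Tr.n (Tr.n (Tr.l (0x45e96809817acc09b535510a71c5d2)) (Tr.l (0x311a959ed1906e550e6c401eea5602))) (Tr.n (Tr.l (0x6526baa8d7415e9092001c5c23cacd)) (Tr.l (0xbdab49ca307b9ac5a928398a418820)))) (Tr.n (Tr.n (Tr.l (0x1362134a6c79d7045d562d46472680)) (Tr.l (0xb85cb1a624a1acc7c9489d4a23c1a0))) (Tr.n (Tr.l (0x2c81078d1152eee4d4e4686d3a184c)) (Tr.l (0xbdab49ca307b9ac5a928398a418820))))) (Tr.n (Tr.n (Tr.n (Tr.l (0x4a2235aad49e08205ec74c6b2d157)) (Tr.l (0x992925d5b163e0eb9c62059060952a))) (Tr.n (Tr.l (0x8022b35dc269e8a79181a94699cac8)) (Tr.l (0xbdab49ca307b9ac5a928398a418820))))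 (Tr.n (Tr.n (Tr.l (0x2023632a6941e977c2412d4627316d)) (Tr.l (0x418936360b389c02d82395d3453e35))) (Tr.n (Tr.l (0x45526506003dcb49aece2304f93471)) (Tr.l (0xbdab49ca307b9ac5a928398a418820)))))) (Tr.n (Tr.n (Tr.n (Tr.n (Tr.l (0x8ca8233ea84dc6c3b94d5c261282c4)) (Tr.l (0x184404b8854496769a6f62a11bd6d4))) (Tr.n (Tr.l (0x906b69a4626b80aa408f31cb78b168)) (Tr.l (0xbdab49ca307b9ac5a928398a418820)))) (Tr.n (Tr.n (Tr.l (0x801c82a8d75d4297c9941c662391b6)) (Tr.l (0x91506011eaad0f770a116aecc0a473))) (Tr.n (Tr.l (0x30648844870096568eaf6292ebce96)) (Tr.l (0xbdab49ca307b9ac5a928398a418820))))) (Tr.n (Tr.n (Tr.n (Tr.l (0x4d8ef1b0b20c5045aaed9b8d0a8814)) (Tr.l (0x75da4a19658585160cf2021f30d549))) (Tr.n (Tr.l (0xa45336214f75c6d2aed590a00204c7)) (Tr.l (0xbdab49ca307b9ac5a928398a418820))))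 (Tr.n (Tr.n (Tr.l (0xde2c3a2b69184b4be8a9b86d28204)) (Tr.l (0x258e8724707cc2c5aa54a94d7889a0))) (Tr.n (Tr.l (0x32d4d8544779023416206492ebced4)) (Tr.l (0xbdab49ca307b9ac5a928398a418820))))))
def LTH_31 : Tr ℕ := Tr.n (Tr.n (Tr.n (Tr.n (Tr.n (Tr.l (0xab54758281b0ef299931610af821c2)) (Tr.l (0x79985506ed1a5d68ae952424012267))) (Tr.n (Tr.l (0x136af9b224a3ad24254b398b01dc01)) (Tr.l (0xbdab49ca307b9ac5a928398a418820)))) (Tr.n (Tr.n (Tr.l (0x158c08c8aca0d105dd4d9b8e4aa5e1)) (Tr.l (0x1ae392041992b43ade56412d55a2e))) (Tr.n (Tr.l (0x53cb6726a2a45b05dd8198cf231008)) (Tr.l (0xbdab49ca307b9ac5a928398a418820))))) (Tr.n (Tr.n (Tr.n (Tr.l (0x3bd8013a436a5060d636ba88584e8b)) (Tr.l (0xbb62fa90c209d6ca424070e692aac8))) (Tr.n (Tr.l (0x23cf6188b744429042549b8caab16d)) (Tr.l (0xbdab49ca307b9ac5a928398a418820))))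 (Tr.n (Tr.n (Tr.l (0x204cd8a8a958df7a42409b8e2ab116)) (Tr.l (0x92dc83a4b079a8cb088188e77aa9a0))) (Tr.n (Tr.l (0xa3893b81562c2a1321716244d93ce3)) (Tr.l (0xbdab49ca307b9ac5a928398a418820)))))) (Tr.n (Tr.n (Tr.n (Tr.n (Tr.l (0x40940bda354b6147b9861ae612c8e4)) (Tr.l (0x2814193a06a09f340e2dbb0874d576))) (Tr.n (Tr.l (0x590a99d0ef13980922d01c6a1336ea)) (Tr.l (0xbdab49ca307b9ac5a928398a418820)))) (Tr.n (Tr.n (Tr.l (0x535c02b0e40d6d245c4b88e70325f4)) (Tr.l (0x545393c8d2ddd43a1635419648626))) (Tr.n (Tr.l (0x239636c2d2a84e98b2e5451e202a66)) (Tr.l (0xbdab49ca307b9ac5a928398a418820))))) (Tr.n (Tr.n (Tr.n (Tr.l (0x4b4743b2720196442af62d6307082f)) (Tr.l (0x21c2e789099d0ca1b211b34175caa5))) (Tr.n (Tr.l (0x181211565341167698b485d9153acf)) (Tr.l (0xbdab49ca307b9ac5a928398a418820)))) (Tr.n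 (Tr.n (Tr.l (0xa8e48a27680d2b13e97a94cd7024c)) (Tr.l (0x7c8623aca849a0d2500c9ba36a8557))) (Tr.n (Tr.l (0x8860d65525b100e78cf4baa5311968)) (Tr.l (0xbdab49ca307b9ac5a928398a418820))))))
def LTH : Tr ℕ := Tr.n (Tr.n (Tr.n (Tr.n (Tr.n (LTH_0) (LTH_16)) (Tr.n (LTH_8) (LTH_24))) (Tr.n (Tr.n (LTH_4) (LTH_20)) (Tr.n (LTH_12) (LTH_28)))) (Tr.n (Tr.n (Tr.n (LTH_2) (LTH_18)) (Tr.n (LTH_10) (LTH_26))) (Tr.n (Tr.n (LTH_6) (LTH_22)) (Tr.n (LTH_14) (LTH_30))))) (Tr.n (Tr.n (Tr.n (Tr.n (LTH_1) (LTH_17)) (Tr.n (LTH_9) (LTH_25))) (Tr.n (Tr.n (LTH_5) (LTH_21)) (Tr.n (LTH_13) (LTH_29)))) (Tr.n (Tr.n (Tr.n (LTH_3) (LTH_19)) (Tr.n (LTH_11) (LTH_27))) (Tr.n (Tr.n (LTH_7) (LTH_23)) (Tr.n (LTH_15) (LTH_31)))))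
def WTH_0 : Tr ℕ := Tr.n (Tr.n (Tr.n (Tr.n (Tr.n (Tr.l (0x0)) (Tr.l (0x1df05f))) (Tr.n (Tr.l (0xc4078)) (Tr.l (0x2b02403803500e)))) (Tr.n (Tr.n (Tr.l (0x7a078)) (Tr.l (0x2b02203c02d02e036))) (Tr.n (Tr.l (0x17a05f)) (Tr.l (0))))) (Tr.n (Tr.n (Tr.n (Tr.l (0x20005)) (Tr.l (0x21d05e))) (Tr.n (Tr.l (0x10f067)) (Tr.l (0)))) (Tr.n (Tr.n (Tr.l (0x9d078)) (Tr.l (0x3402903402f02200f))) (Tr.n (Tr.l (0x1a805f)) (Tr.l (0)))))) (Tr.n (Tr.n (Tr.n (Tr.n (Tr.l (0x10005)) (Tr.l (0x1f805f))) (Tr.n (Tr.l (0xe3067)) (Tr.l (0)))) (Tr.n (Tr.n (Tr.l (0x8c078)) (Tr.l (0x2d02b03b03103a005))) (Tr.n (Tr.l (0x19105f)) (Tr.l (0))))) (Tr.n (Tr.n (Tr.n (Tr.l (0x5e05f)) (Tr.l (0x25305f))) (Tr.n (Tr.l (0x12e078)) (Tr.l (0)))) (Tr.n (Tr.n (Tr.l (0xb1078)) (Tr.l (0x2a02f027022041005))) (Tr.n (Tr.l (0x1c105f))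 (Tr.l (0))))))
def WTH_1 : Tr ℕ := Tr.n (Tr.n (Tr.n (Tr.n (Tr.n (Tr.l (0x1)) (Tr.l (0x1e005f))) (Tr.n (Tr.l (0xc5067)) (Tr.l (0x3803b03b022023016)))) (Tr.n (Tr.n (Tr.l (0x7b067)) (Tr.l (0x2a02502302a027004))) (Tr.n (Tr.l (0x17b05e)) (Tr.l (0))))) (Tr.n (Tr.n (Tr.n (Tr.l (0x21005)) (Tr.l (0x21d05f))) (Tr.n (Tr.l (0x10f078)) (Tr.l (0)))) (Tr.n (Tr.n (Tr.l (0x9e067)) (Tr.l (0x2803302902203b021))) (Tr.n (Tr.l (0x1a905e)) (Tr.l (0)))))) (Tr.n (Tr.n (Tr.n (Tr.n (Tr.l (0x11005)) (Tr.l (0x1f905e))) (Tr.n (Tr.l (0xe4078)) (Tr.l (0)))) (Tr.n (Tr.n (Tr.l (0x8d067)) (Tr.l (0x2702c03003600f))) (Tr.n (Tr.l (0x19205f)) (Tr.l (0))))) (Tr.n (Tr.n (Tr.n (Tr.l (0x6005f)) (Tr.l (0x25705e))) (Tr.n (Tr.l (0x12f067)) (Tr.l (0)))) (Tr.n (Tr.n (Tr.l (0xb2067)) (Tr.l (0x3103a02802203700d))) (Tr.n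 (Tr.l (0x1c305e)) (Tr.l (0))))))
def WTH_2 : Tr ℕ := Tr.n (Tr.n (Tr.n (Tr.n (Tr.n (Tr.l (0x2)) (Tr.l (0x1e105f))) (Tr.n (Tr.l (0xc7067)) (Tr.l (0x3402403002a02b004)))) (Tr.n (Tr.n (Tr.l (0x7b078)) (Tr.l (0x2b02e02903303c018))) (Tr.n (Tr.l (0x17c05f)) (Tr.l (0))))) (Tr.n (Tr.n (Tr.n (Tr.l (0x2001003001002001003001003001002001003001002001003)) (Tr.l (0x21e05e))) (Tr.n (Tr.l (0x110067)) (Tr.l (0)))) (Tr.n (Tr.n (Tr.l (0x9e078)) (Tr.l (0x2303502702303b014))) (Tr.n (Tr.l (0x1a905f)) (Tr.l (0)))))) (Tr.n (Tr.n (Tr.n (Tr.n (Tr.l (0x12004)) (Tr.l (0x1fa05e))) (Tr.n (Tr.l (0xe5067)) (Tr.l (0)))) (Tr.n (Tr.n (Tr.l (0x8d078)) (Tr.l (0x2c038034031028009))) (Tr.n (Tr.l (0x19305e)) (Tr.l (0))))) (Tr.n (Tr.n (Tr.n (Tr.l (0x6105e)) (Tr.l (0x25a05f))) (Tr.n (Tr.l (0x130067)) (Tr.l (0))))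 (Tr.n (Tr.n (Tr.l (0xb2078)) (Tr.l (0x24025026025029009))) (Tr.n (Tr.l (0x1c305f)) (Tr.l (0))))))
def WTH_3 : Tr ℕ := Tr.n (Tr.n (Tr.n (Tr.n (Tr.n (Tr.l (0x3)) (Tr.l (0x1e205f))) (Tr.n (Tr.l (0xca067)) (Tr.l (0x2d03803e02602c)))) (Tr.n (Tr.n (Tr.l (0x7c067)) (Tr.l (0x3003103202d02300d))) (Tr.n (Tr.l (0x6a05e)) (Tr.l (0))))) (Tr.n (Tr.n (Tr.n (Tr.l (0x2001003001002001003001002001002001003001002001003)) (Tr.l (0x22305e))) (Tr.n (Tr.l (0x111078)) (Tr.l (0)))) (Tr.n (Tr.n (Tr.l (0x9f067)) (Tr.l (0x2f03c02703a027018))) (Tr.n (Tr.l (0x1aa05f)) (Tr.l (0)))))) (Tr.n (Tr.n (Tr.n (Tr.n (Tr.l (0x13004)) (Tr.l (0x1fa05f))) (Tr.n (Tr.l (0xe5078)) (Tr.l (0)))) (Tr.n (Tr.n (Tr.l (0x8e067)) (Tr.l (0x2502303a026036020))) (Tr.n (Tr.l (0x19305f)) (Tr.l (0))))) (Tr.n (Tr.n (Tr.n (Tr.l (0x6205f))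 (Tr.l (0x25b05f))) (Tr.n (Tr.l (0x134078)) (Tr.l (0)))) (Tr.n (Tr.n (Tr.l (0xb3067)) (Tr.l (0x2f035035035033006))) (Tr.n (Tr.l (0x1c405f)) (Tr.l (0))))))
def WTH_4 : Tr ℕ := Tr.n (Tr.n (Tr.n (Tr.n (Tr.n (Tr.l (0x2001)) (Tr.l (0x1e305e))) (Tr.n (Tr.l (0xca078)) (Tr.l (0x3402804003e036008)))) (Tr.n (Tr.n (Tr.l (0x7c078)) (Tr.l (0x2402c02d024037004))) (Tr.n (Tr.l (0x17d05e)) (Tr.l (0))))) (Tr.n (Tr.n (Tr.n (Tr.l (0x1002001002001002002001002001002001002001002001002001002002)) (Tr.l (0x22405e))) (Tr.n (Tr.l (0x112067)) (Tr.l (0)))) (Tr.n (Tr.n (Tr.l (0x9f078)) (Tr.l (0x40031025026028006))) (Tr.n (Tr.l (0x1ab05e)) (Tr.l (0)))))) (Tr.n (Tr.n (Tr.n (Tr.n (Tr.l (0x14004)) (Tr.l (0x1fb05f))) (Tr.n (Tr.l (0xe6067)) (Tr.l (0)))) (Tr.n (Tr.n (Tr.l (0x8e078)) (Tr.l (0x2b02e040033025018)))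 (Tr.n (Tr.l (0x19405f)) (Tr.l (0))))) (Tr.n (Tr.n (Tr.n (Tr.l (0x6305f)) (Tr.l (0x25c05e))) (Tr.n (Tr.l (0x140067)) (Tr.l (0)))) (Tr.n (Tr.n (Tr.l (0xb3078)) (Tr.l (0x2403604003603500b))) (Tr.n (Tr.l (0x1c505f)) (Tr.l (0))))))
def WTH_5 : Tr ℕ := Tr.n (Tr.n (Tr.n (Tr.n (Tr.n (Tr.l (0x3001)) (Tr.l (0x1e305f))) (Tr.n (Tr.l (0xcb078)) (Tr.l (0x28035035032025005)))) (Tr.n (Tr.n (Tr.l (0x7d078)) (Tr.l (0x2f03103a03c03400a))) (Tr.n (Tr.l (0x17e05f)) (Tr.l (0))))) (Tr.n (Tr.n (Tr.n (Tr.l (0x3003001003001003001003001003001003001003003001003001003001)) (Tr.l (0x22505f))) (Tr.n (Tr.l (0x113078)) (Tr.l (0)))) (Tr.n (Tr.n (Tr.l (0xa0067)) (Tr.l (0x3403a02d04102e01a))) (Tr.n (Tr.l (0x1ac05e)) (Tr.l (0)))))) (Tr.n (Tr.n (Tr.n (Tr.n (Tr.l (0x15004)) (Tr.l (0x1fc05e))) (Tr.n (Tr.l (0xe7078))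 (Tr.l (0)))) (Tr.n (Tr.n (Tr.l (0x8f067)) (Tr.l (0x3e02a03f03604000b))) (Tr.n (Tr.l (0x19505e)) (Tr.l (0))))) (Tr.n (Tr.n (Tr.n (Tr.l (0x6405e)) (Tr.l (0x3703002a033023019))) (Tr.n (Tr.l (0x142067)) (Tr.l (0)))) (Tr.n (Tr.n (Tr.l (0xb4067)) (Tr.l (0x2a02e03702b03b00c))) (Tr.n (Tr.l (0x1c605e)) (Tr.l (0))))))
def WTH_6 : Tr ℕ := Tr.n (Tr.n (Tr.n (Tr.n (Tr.n (Tr.l (0x4004)) (Tr.l (0x1e405e))) (Tr.n (Tr.l (0xcc067)) (Tr.l (0x2d036022034033011)))) (Tr.n (Tr.n (Tr.l (0x7e067)) (Tr.l (0x4103d03c02c023014))) (Tr.n (Tr.l (0x17f05f)) (Tr.l (0))))) (Tr.n (Tr.n (Tr.n (Tr.l (0x2001002001002001002002001002001002001002002001002001002001002)) (Tr.l (0x22705f))) (Tr.n (Tr.l (0x114067)) (Tr.l (0)))) (Tr.n (Tr.n (Tr.l (0xa0078)) (Tr.l (0x2e04002f032022009))) (Tr.n (Tr.l (0x1ac05f)) (Tr.l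 (0)))))) (Tr.n (Tr.n (Tr.n (Tr.n (Tr.l (0x16004)) (Tr.l (0x1fd05f))) (Tr.n (Tr.l (0xe8067)) (Tr.l (0)))) (Tr.n (Tr.n (Tr.l (0x8f078)) (Tr.l (0x3602702503d006))) (Tr.n (Tr.l (0x19505f)) (Tr.l (0))))) (Tr.n (Tr.n (Tr.n (Tr.l (0x6505f)) (Tr.l (0x3602f04102303f005))) (Tr.n (Tr.l (0x145067)) (Tr.l (0)))) (Tr.n (Tr.n (Tr.l (0xb4078)) (Tr.l (0x3703a033025027005))) (Tr.n (Tr.l (0x1c705e)) (Tr.l (0))))))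
def WTH_7 : Tr ℕ := Tr.n (Tr.n (Tr.n (Tr.n (Tr.n (Tr.l (0x5004)) (Tr.l (0x1e405f))) (Tr.n (Tr.l (0xcc078)) (Tr.l (0x4002c02d02c03100c)))) (Tr.n (Tr.n (Tr.l (0x7e078)) (Tr.l (0x3803f02b008))) (Tr.n (Tr.l (0x18005e)) (Tr.l (0))))) (Tr.n (Tr.n (Tr.n (Tr.l (0x3001003001003001003003001003001003001003003001003001003001003)) (Tr.l (0x22905e))) (Tr.n (Tr.l (0x114078)) (Tr.l (0)))) (Tr.n (Tr.n (Tr.l (0xa1067)) (Tr.l (0x38023026022036009))) (Tr.n (Tr.l (0x1ad05f)) (Tr.l (0)))))) (Tr.n (Tr.n (Tr.n (Tr.n (Tr.l (0x17004)) (Tr.l (0x1fe05e))) (Tr.n (Tr.l (0xe8078)) (Tr.l (0)))) (Tr.n (Tr.n (Tr.l (0x90067)) (Tr.l (0x2304103902802800f))) (Tr.n (Tr.l (0x19605e)) (Tr.l (0))))) (Tr.n (Tr.n (Tr.n (Tr.l (0x6605f)) (Tr.l (0x3603f02903b035005))) (Tr.n (Tr.l (0x145078)) (Tr.l (0)))) (Tr.n (Tr.n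 (Tr.l (0xb5067)) (Tr.l (0x3c03902703a02c009))) (Tr.n (Tr.l (0x1c705f)) (Tr.l (0))))))
def WTH_8 : Tr ℕ := Tr.n (Tr.n (Tr.n (Tr.n (Tr.n (Tr.l (0x4005)) (Tr.l (0x1e505f))) (Tr.n (Tr.l (0xd0078)) (Tr.l (0x3303202202d03e011)))) (Tr.n (Tr.n (Tr.l (0x7f067)) (Tr.l (0x2203c033023033019))) (Tr.n (Tr.l (0x18005f)) (Tr.l (0))))) (Tr.n (Tr.n (Tr.n (Tr.l (0x44046)) (Tr.l (0x22b05f))) (Tr.n (Tr.l (0x115067)) (Tr.l (0)))) (Tr.n (Tr.n (Tr.l (0xa2078)) (Tr.l (0x2c02b02e03f037004))) (Tr.n (Tr.l (0x1ae05e)) (Tr.l (0)))))) (Tr.n (Tr.n (Tr.n (Tr.n (Tr.l (0x18004)) (Tr.l (0x1fe05f))) (Tr.n (Tr.l (0xe9067)) (Tr.l (0)))) (Tr.n (Tr.n (Tr.l (0x90078)) (Tr.l (0x2c03703202b026009))) (Tr.n (Tr.l (0x19605f)) (Tr.l (0))))) (Tr.n (Tr.n (Tr.n (Tr.l (0x5f05e)) (Tr.l (0x41026034032024008))) (Tr.n (Tr.l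 (0x146078)) (Tr.l (0)))) (Tr.n (Tr.n (Tr.l (0xb5078)) (Tr.l (0x3a03203203a03b031004))) (Tr.n (Tr.l (0x1c805f)) (Tr.l (0))))))
def WTH_9 : Tr ℕ := Tr.n (Tr.n (Tr.n (Tr.n (Tr.n (Tr.l (0x5005)) (Tr.l (0x1e605f))) (Tr.n (Tr.l (0xd2078)) (Tr.l (0x3503d02a02b03f034)))) (Tr.n (Tr.n (Tr.l (0x7f078)) (Tr.l (0x2d024039027008))) (Tr.n (Tr.l (0x6305e)) (Tr.l (0))))) (Tr.n (Tr.n (Tr.n (Tr.l (0x47045)) (Tr.l (0x22c05e))) (Tr.n (Tr.l (0x116078)) (Tr.l (0)))) (Tr.n (Tr.n (Tr.l (0xa3067)) (Tr.l (0x3003f024027008))) (Tr.n (Tr.l (0x1af05f)) (Tr.l (0)))))) (Tr.n (Tr.n (Tr.n (Tr.n (Tr.l (0x19004)) (Tr.l (0x1ff05f))) (Tr.n (Tr.l (0xe9078)) (Tr.l (0)))) (Tr.n (Tr.n (Tr.l (0x91067)) (Tr.l (0x3903903902e03202f))) (Tr.n (Tr.l (0x19705f)) (Tr.l (0))))) (Tr.n (Tr.n (Tr.n (Tr.l (0x6805f)) (Tr.l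 (0x2a03902c037))) (Tr.n (Tr.l (0x147067)) (Tr.l (0)))) (Tr.n (Tr.n (Tr.l (0xb6067)) (Tr.l (0x2702403b03202901e))) (Tr.n (Tr.l (0x1c905e)) (Tr.l (0))))))
def WTH_10 : Tr ℕ := Tr.n (Tr.n (Tr.n (Tr.n (Tr.n (Tr.l (0x6004)) (Tr.l (0x1e705e))) (Tr.n (Tr.l (0xd3078)) (Tr.l (0x3004102903a03d005)))) (Tr.n (Tr.n (Tr.l (0x80067)) (Tr.l (0x3302902d02c03a))) (Tr.n (Tr.l (0x18105f)) (Tr.l (0))))) (Tr.n (Tr.n (Tr.n (Tr.l (0x2001002001002001002001003001)) (Tr.l (0x22d05f))) (Tr.n (Tr.l (0x117067)) (Tr.l (0)))) (Tr.n (Tr.n (Tr.l (0xa4078)) (Tr.l (0x3e02b03602a02e01f))) (Tr.n (Tr.l (0x1b005e)) (Tr.l (0)))))) (Tr.n (Tr.n (Tr.n (Tr.n (Tr.l (0x1a004)) (Tr.l (0x20005e))) (Tr.n (Tr.l (0xea067)) (Tr.l (0)))) (Tr.n (Tr.n (Tr.l (0x91078)) (Tr.l (0x3603403d02702c034))) (Tr.n (Tr.l (0x19805e))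 (Tr.l (0))))) (Tr.n (Tr.n (Tr.n (Tr.l (0x6905f)) (Tr.l (0x3d02503803103a00f))) (Tr.n (Tr.l (0x147078)) (Tr.l (0)))) (Tr.n (Tr.n (Tr.l (0xb6078)) (Tr.l (0x2b03802303203e020))) (Tr.n (Tr.l (0x1c905f)) (Tr.l (0))))))
def WTH_11 : Tr ℕ := Tr.n (Tr.n (Tr.n (Tr.n (Tr.n (Tr.l (0x7004)) (Tr.l (0x1e705f))) (Tr.n (Tr.l (0xd4067)) (Tr.l (0x3d02202403603d)))) (Tr.n (Tr.n (Tr.l (0x80078)) (Tr.l (0x3302c02e034006))) (Tr.n (Tr.l (0x18205e)) (Tr.l (0))))) (Tr.n (Tr.n (Tr.n (Tr.l (0x1002001003001003001003001003)) (Tr.l (0x22e05f))) (Tr.n (Tr.l (0x117078)) (Tr.l (0)))) (Tr.n (Tr.n (Tr.l (0xa5067)) (Tr.l (0x2b024029026028009))) (Tr.n (Tr.l (0x1b005f)) (Tr.l (0)))))) (Tr.n (Tr.n (Tr.n (Tr.n (Tr.l (0x1b004)) (Tr.l (0x20105e))) (Tr.n (Tr.l (0xea078)) (Tr.l (0)))) (Tr.n (Tr.n (Tr.l (0x92067))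 (Tr.l (0x23037029029037))) (Tr.n (Tr.l (0x19805f)) (Tr.l (0))))) (Tr.n (Tr.n (Tr.n (Tr.l (0x6a05f)) (Tr.l (0x3e03002602902201e))) (Tr.n (Tr.l (0x14b078)) (Tr.l (0)))) (Tr.n (Tr.n (Tr.l (0xb7067)) (Tr.l (0x2a02202e03a04003f004))) (Tr.n (Tr.l (0x1cb05e)) (Tr.l (0))))))
def WTH_12 : Tr ℕ := Tr.n (Tr.n (Tr.n (Tr.n (Tr.n (Tr.l (0x8004)) (Tr.l (0x1e805e))) (Tr.n (Tr.l (0xd6078)) (Tr.l (0x2803102504101d)))) (Tr.n (Tr.n (Tr.l (0x81067)) (Tr.l (0x3302702403803e00a))) (Tr.n (Tr.l (0x18305f)) (Tr.l (0))))) (Tr.n (Tr.n (Tr.n (Tr.l (0x4a00204b)) (Tr.l (0x23005e))) (Tr.n (Tr.l (0x118067)) (Tr.l (0)))) (Tr.n (Tr.n (Tr.l (0xa5078)) (Tr.l (0x3703d024033014))) (Tr.n (Tr.l (0x1b105f)) (Tr.l (0)))))) (Tr.n (Tr.n (Tr.n (Tr.n (Tr.l (0x1c004)) (Tr.l (0x20105f))) (Tr.n (Tr.l (0xeb067)) (Tr.l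 (0)))) (Tr.n (Tr.n (Tr.l (0x92078)) (Tr.l (0x2c02402a040008))) (Tr.n (Tr.l (0x6d05f)) (Tr.l (0))))) (Tr.n (Tr.n (Tr.n (Tr.l (0x6b05e)) (Tr.l (0x2603202503f03d004))) (Tr.n (Tr.l (0x14d078)) (Tr.l (0)))) (Tr.n (Tr.n (Tr.l (0xb7078)) (Tr.l (0x38030029032034006))) (Tr.n (Tr.l (0x1cc05f)) (Tr.l (0))))))
def WTH_13 : Tr ℕ := Tr.n (Tr.n (Tr.n (Tr.n (Tr.n (Tr.l (0x9004)) (Tr.l (0x1e805f))) (Tr.n (Tr.l (0xd7078)) (Tr.l (0)))) (Tr.n (Tr.n (Tr.l (0x81078)) (Tr.l (0x2b03b03402303700e))) (Tr.n (Tr.l (0x18405f)) (Tr.l (0))))) (Tr.n (Tr.n (Tr.n (Tr.l (0x4a00304b)) (Tr.l (0x23105f))) (Tr.n (Tr.l (0x118078)) (Tr.l (0)))) (Tr.n (Tr.n (Tr.l (0xa6067)) (Tr.l (0x2e02c025025038004))) (Tr.n (Tr.l (0x1b205f)) (Tr.l (0)))))) (Tr.n (Tr.n (Tr.n (Tr.n (Tr.l (0x1d004)) (Tr.l (0x20205f))) (Tr.n (Tr.l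 (0xeb078)) (Tr.l (0)))) (Tr.n (Tr.n (Tr.l (0x93067)) (Tr.l (0x2603804002f015))) (Tr.n (Tr.l (0x19a05e)) (Tr.l (0))))) (Tr.n (Tr.n (Tr.n (Tr.l (0x6c05f)) (Tr.l (0x4103302302a038))) (Tr.n (Tr.l (0x14e078)) (Tr.l (0)))) (Tr.n (Tr.n (Tr.l (0xb8067)) (Tr.l (0x2502502e02902400a))) (Tr.n (Tr.l (0x1cd05e)) (Tr.l (0))))))
def WTH_14 : Tr ℕ := Tr.n (Tr.n (Tr.n (Tr.n (Tr.n (Tr.l (0x6005)) (Tr.l (0x1e905f))) (Tr.n (Tr.l (0xd8067)) (Tr.l (0)))) (Tr.n (Tr.n (Tr.l (0x82067)) (Tr.l (0x2f02a02402a029005))) (Tr.n (Tr.l (0x18505e)) (Tr.l (0))))) (Tr.n (Tr.n (Tr.n (Tr.l (0x4a003)) (Tr.l (0x23505e))) (Tr.n (Tr.l (0x119067)) (Tr.l (0)))) (Tr.n (Tr.n (Tr.l (0xa7078)) (Tr.l (0x3902d022027027006))) (Tr.n (Tr.l (0x1b305f)) (Tr.l (0)))))) (Tr.n (Tr.n (Tr.n (Tr.n (Tr.l (0x1e004)) (Tr.l (0x20305e)))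 (Tr.n (Tr.l (0xec067)) (Tr.l (0)))) (Tr.n (Tr.n (Tr.l (0x93078)) (Tr.l (0x2603903002503100d))) (Tr.n (Tr.l (0x19a05f)) (Tr.l (0))))) (Tr.n (Tr.n (Tr.n (Tr.l (0x6d05e)) (Tr.l (0x3802803e03a024007))) (Tr.n (Tr.l (0x14f067)) (Tr.l (0)))) (Tr.n (Tr.n (Tr.l (0xb8078)) (Tr.l (0x2b03e02302f013))) (Tr.n (Tr.l (0x1cd05f)) (Tr.l (0))))))
def WTH_15 : Tr ℕ := Tr.n (Tr.n (Tr.n (Tr.n (Tr.n (Tr.l (0x7005)) (Tr.l (0x1ea05e))) (Tr.n (Tr.l (0xd9078)) (Tr.l (0)))) (Tr.n (Tr.n (Tr.l (0x82078)) (Tr.l (0x3d03e03f03903301e))) (Tr.n (Tr.l (0x18505f)) (Tr.l (0))))) (Tr.n (Tr.n (Tr.n (Tr.l (0x204b)) (Tr.l (0x23605f))) (Tr.n (Tr.l (0x119078)) (Tr.l (0)))) (Tr.n (Tr.n (Tr.l (0xa8067)) (Tr.l (0x3303e03102d036004))) (Tr.n (Tr.l (0x1b405f)) (Tr.l (0)))))) (Tr.n (Tr.n (Tr.n (Tr.n (Tr.l (0x1f004))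 (Tr.l (0x20405f))) (Tr.n (Tr.l (0xec078)) (Tr.l (0)))) (Tr.n (Tr.n (Tr.l (0x94067)) (Tr.l (0x3e03503c02a025019))) (Tr.n (Tr.l (0x19b05e)) (Tr.l (0))))) (Tr.n (Tr.n (Tr.n (Tr.l (0x6e05f)) (Tr.l (0x2202402302e03200f))) (Tr.n (Tr.l (0x151078)) (Tr.l (0)))) (Tr.n (Tr.n (Tr.l (0xb9067)) (Tr.l (0x3203103a03f025007))) (Tr.n (Tr.l (0x1ce05e)) (Tr.l (0))))))
def WTH_16 : Tr ℕ := Tr.n (Tr.n (Tr.n (Tr.n (Tr.n (Tr.l (0x8005)) (Tr.l (0x1ea05f))) (Tr.n (Tr.l (0xda067)) (Tr.l (0)))) (Tr.n (Tr.n (Tr.l (0x83067)) (Tr.l (0x26024027023025018))) (Tr.n (Tr.l (0x18605e)) (Tr.l (0))))) (Tr.n (Tr.n (Tr.n (Tr.l (0x2b04102302a03700a)) (Tr.l (0x23705e))) (Tr.n (Tr.l (0x11a067)) (Tr.l (0)))) (Tr.n (Tr.n (Tr.l (0xa8078)) (Tr.l (0x3f030040029023011))) (Tr.n (Tr.l (0x1b505e)) (Tr.l (0)))))) (Tr.n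 (Tr.n (Tr.n (Tr.n (Tr.l (0x20004)) (Tr.l (0x20505f))) (Tr.n (Tr.l (0xed067)) (Tr.l (0)))) (Tr.n (Tr.n (Tr.l (0x94078)) (Tr.l (0x32036024022031027))) (Tr.n (Tr.l (0x19b05f)) (Tr.l (0))))) (Tr.n (Tr.n (Tr.n (Tr.l (0x6f05f)) (Tr.l (0x2503802702c04001a))) (Tr.n (Tr.l (0x152078)) (Tr.l (0)))) (Tr.n (Tr.n (Tr.l (0xba078)) (Tr.l (0x39027029038026004))) (Tr.n (Tr.l (0x1ce05f)) (Tr.l (0))))))
def WTH_17 : Tr ℕ := Tr.n (Tr.n (Tr.n (Tr.n (Tr.n (Tr.l (0x9005)) (Tr.l (0x1eb05f))) (Tr.n (Tr.l (0xda078)) (Tr.l (0)))) (Tr.n (Tr.n (Tr.l (0x83078)) (Tr.l (0x3f02602a023034))) (Tr.n (Tr.l (0x18705f)) (Tr.l (0))))) (Tr.n (Tr.n (Tr.n (Tr.l (0x2f03902602c007)) (Tr.l (0x23905f))) (Tr.n (Tr.l (0x11a078)) (Tr.l (0)))) (Tr.n (Tr.n (Tr.l (0xa9067)) (Tr.l (0x3303f03002203000e))) (Tr.n (Tr.l (0x1b505f))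 (Tr.l (0)))))) (Tr.n (Tr.n (Tr.n (Tr.n (Tr.l (0x21004)) (Tr.l (0x20805e))) (Tr.n (Tr.l (0xef067)) (Tr.l (0)))) (Tr.n (Tr.n (Tr.l (0x95067)) (Tr.l (0x2f02703a02704100f))) (Tr.n (Tr.l (0x19c05f)) (Tr.l (0))))) (Tr.n (Tr.n (Tr.n (Tr.l (0x7005f)) (Tr.l (0x2202303603601f))) (Tr.n (Tr.l (0x153067)) (Tr.l (0)))) (Tr.n (Tr.n (Tr.l (0xbb067)) (Tr.l (0x3303003a02b037007))) (Tr.n (Tr.l (0x1cf05e)) (Tr.l (0))))))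
def WTH_18 : Tr ℕ := Tr.n (Tr.n (Tr.n (Tr.n (Tr.n (Tr.l (0xa004)) (Tr.l (0x1ec05e))) (Tr.n (Tr.l (0xdb067)) (Tr.l (0)))) (Tr.n (Tr.n (Tr.l (0x84067)) (Tr.l (0x3602502403b02f007))) (Tr.n (Tr.l (0x18805e)) (Tr.l (0))))) (Tr.n (Tr.n (Tr.n (Tr.l (0x2602304103504000b)) (Tr.l (0x23a05e))) (Tr.n (Tr.l (0x11b067)) (Tr.l (0)))) (Tr.n (Tr.n (Tr.l (0xa9078)) (Tr.l (0x2a02a04104000c))) (Tr.n (Tr.l (0x1b605f)) (Tr.l (0)))))) (Tr.n (Tr.n (Tr.n (Tr.n (Tr.l (0x12005)) (Tr.l (0x20805f))) (Tr.n (Tr.l (0xf2067)) (Tr.l (0)))) (Tr.n (Tr.n (Tr.l (0x95078)) (Tr.l (0x3a02b03e02a03f00f))) (Tr.n (Tr.l (0x19d05e)) (Tr.l (0))))) (Tr.n (Tr.n (Tr.n (Tr.l (0x7105e)) (Tr.l (0x3b02a025023027034))) (Tr.n (Tr.l (0x154067)) (Tr.l (0)))) (Tr.n (Tr.n (Tr.l (0xbc078)) (Tr.l (0x2d03003203602e00f))) (Tr.n (Tr.l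 (0x1d205e)) (Tr.l (0))))))
def WTH_19 : Tr ℕ := Tr.n (Tr.n (Tr.n (Tr.n (Tr.n (Tr.l (0xb004)) (Tr.l (0x1ed05f))) (Tr.n (Tr.l (0xdb078)) (Tr.l (0)))) (Tr.n (Tr.n (Tr.l (0x85067)) (Tr.l (0x3603303e031023010))) (Tr.n (Tr.l (0x18905f)) (Tr.l (0))))) (Tr.n (Tr.n (Tr.n (Tr.l (0x2903002e02c029008)) (Tr.l (0x23c05e))) (Tr.n (Tr.l (0x11b078)) (Tr.l (0)))) (Tr.n (Tr.n (Tr.l (0xaa067)) (Tr.l (0x3b03d03403302b008))) (Tr.n (Tr.l (0x1b705e)) (Tr.l (0)))))) (Tr.n (Tr.n (Tr.n (Tr.n (Tr.l (0x13005)) (Tr.l (0x20905e))) (Tr.n (Tr.l (0xf2078)) (Tr.l (0)))) (Tr.n (Tr.n (Tr.l (0x96067)) (Tr.l (0x2903202402503e00d))) (Tr.n (Tr.l (0x19e05e)) (Tr.l (0))))) (Tr.n (Tr.n (Tr.n (Tr.l (0x7205f)) (Tr.l (0x3803e025022037))) (Tr.n (Tr.l (0x158078)) (Tr.l (0)))) (Tr.n (Tr.n (Tr.l (0xbd067)) (Tr.l (0x3503102503b03901b)))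 (Tr.n (Tr.l (0x1d205f)) (Tr.l (0))))))
def WTH_20 : Tr ℕ := Tr.n (Tr.n (Tr.n (Tr.n (Tr.n (Tr.l (0xc004)) (Tr.l (0x1ee05e))) (Tr.n (Tr.l (0xdc067)) (Tr.l (0)))) (Tr.n (Tr.n (Tr.l (0x85078)) (Tr.l (0x2602c025024007))) (Tr.n (Tr.l (0x18a05e)) (Tr.l (0))))) (Tr.n (Tr.n (Tr.n (Tr.l (0x3402e02404102c)) (Tr.l (0x23d05f))) (Tr.n (Tr.l (0x11c067)) (Tr.l (0)))) (Tr.n (Tr.n (Tr.l (0xaa078)) (Tr.l (0x2203002403202a035))) (Tr.n (Tr.l (0x1b805e)) (Tr.l (0)))))) (Tr.n (Tr.n (Tr.n (Tr.n (Tr.l (0x14005)) (Tr.l (0x20c05f))) (Tr.n (Tr.l (0xf3078)) (Tr.l (0)))) (Tr.n (Tr.n (Tr.l (0x96078)) (Tr.l (0x2d03104004003a024))) (Tr.n (Tr.l (0x19e05f)) (Tr.l (0))))) (Tr.n (Tr.n (Tr.n (Tr.l (0x7305e)) (Tr.l (0x2d03e03a03e035021))) (Tr.n (Tr.l (0x164067)) (Tr.l (0)))) (Tr.n (Tr.n (Tr.l (0xbd078)) (Tr.l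 (0x3c02f02e03a007))) (Tr.n (Tr.l (0x1d305f)) (Tr.l (0))))))
def WTH_21 : Tr ℕ := Tr.n (Tr.n (Tr.n (Tr.n (Tr.n (Tr.l (0xd004)) (Tr.l (0x1ee05f))) (Tr.n (Tr.l (0xdc078)) (Tr.l (0)))) (Tr.n (Tr.n (Tr.l (0x86067)) (Tr.l (0x2d02302f027039009))) (Tr.n (Tr.l (0x18a05f)) (Tr.l (0))))) (Tr.n (Tr.n (Tr.n (Tr.l (0x3b025031025040010)) (Tr.l (0x23e05f))) (Tr.n (Tr.l (0x11e067)) (Tr.l (0)))) (Tr.n (Tr.n (Tr.l (0xab067)) (Tr.l (0x2c02402d023027))) (Tr.n (Tr.l (0x1b805f)) (Tr.l (0)))))) (Tr.n (Tr.n (Tr.n (Tr.n (Tr.l (0x15005)) (Tr.l (0x20d05f))) (Tr.n (Tr.l (0xf4067)) (Tr.l (0)))) (Tr.n (Tr.n (Tr.l (0x97067)) (Tr.l (0x38040029036021))) (Tr.n (Tr.l (0x19f05f)) (Tr.l (0))))) (Tr.n (Tr.n (Tr.n (Tr.l (0x7405f)) (Tr.l (0x2a03103803104100d))) (Tr.n (Tr.l (0x168078)) (Tr.l (0)))) (Tr.n (Tr.n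 (Tr.l (0xbe067)) (Tr.l (0x3603c02503202f00b))) (Tr.n (Tr.l (0x1d405f)) (Tr.l (0))))))
def WTH_22 : Tr ℕ := Tr.n (Tr.n (Tr.n (Tr.n (Tr.n (Tr.l (0xe004)) (Tr.l (0x1f105f))) (Tr.n (Tr.l (0xdd067)) (Tr.l (0)))) (Tr.n (Tr.n (Tr.l (0x86078)) (Tr.l (0x2702c03a02a027005))) (Tr.n (Tr.l (0x18b05f)) (Tr.l (0))))) (Tr.n (Tr.n (Tr.n (Tr.l (0x4e05004f)) (Tr.l (0x23f05e))) (Tr.n (Tr.l (0x121067)) (Tr.l (0)))) (Tr.n (Tr.n (Tr.l (0xab078)) (Tr.l (0x2802302902403e00f))) (Tr.n (Tr.l (0x1b905f)) (Tr.l (0)))))) (Tr.n (Tr.n (Tr.n (Tr.n (Tr.l (0x16005)) (Tr.l (0x20e05e))) (Tr.n (Tr.l (0xf4078)) (Tr.l (0)))) (Tr.n (Tr.n (Tr.l (0x97078)) (Tr.l (0x2802502602e02b00c))) (Tr.n (Tr.l (0x1a005e)) (Tr.l (0))))) (Tr.n (Tr.n (Tr.n (Tr.l (0x7505f)) (Tr.l (0x3403c02502202c009))) (Tr.n (Tr.l (0x5f05f))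 (Tr.l (0)))) (Tr.n (Tr.n (Tr.l (0xbf078)) (Tr.l (0x36035035040024041))) (Tr.n (Tr.l (0x1d505e)) (Tr.l (0))))))
def WTH_23 : Tr ℕ := Tr.n (Tr.n (Tr.n (Tr.n (Tr.n (Tr.l (0xf004)) (Tr.l (0x1f205f))) (Tr.n (Tr.l (0xdd078)) (Tr.l (0)))) (Tr.n (Tr.n (Tr.l (0x87067)) (Tr.l (0x3902902703c035006))) (Tr.n (Tr.l (0x18c05e)) (Tr.l (0))))) (Tr.n (Tr.n (Tr.n (Tr.l (0x4e05104f)) (Tr.l (0x24005f))) (Tr.n (Tr.l (0x121078)) (Tr.l (0)))) (Tr.n (Tr.n (Tr.l (0xac067)) (Tr.l (0x3a02502a040009))) (Tr.n (Tr.l (0x1ba05e)) (Tr.l (0)))))) (Tr.n (Tr.n (Tr.n (Tr.n (Tr.l (0x17005)) (Tr.l (0x20e05f))) (Tr.n (Tr.l (0xf8078)) (Tr.l (0)))) (Tr.n (Tr.n (Tr.l (0x98067)) (Tr.l (0x2203903e03f02c004))) (Tr.n (Tr.l (0x1a005f)) (Tr.l (0))))) (Tr.n (Tr.n (Tr.n (Tr.l (0x7605f)) (Tr.l (0x41027040033034013))) (Tr.n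 (Tr.l (0x6005e)) (Tr.l (0)))) (Tr.n (Tr.n (Tr.l (0xc0067)) (Tr.l (0x3003e02d026025016))) (Tr.n (Tr.l (0x1d605e)) (Tr.l (0))))))
def WTH_24 : Tr ℕ := Tr.n (Tr.n (Tr.n (Tr.n (Tr.n (Tr.l (0x10004)) (Tr.l (0x1f305f))) (Tr.n (Tr.l (0xde067)) (Tr.l (0)))) (Tr.n (Tr.n (Tr.l (0x87078)) (Tr.l (0x2602f02a03b03b012))) (Tr.n (Tr.l (0x18c05f)) (Tr.l (0))))) (Tr.n (Tr.n (Tr.n (Tr.l (0x4a05204f)) (Tr.l (0x24405f))) (Tr.n (Tr.l (0x122078)) (Tr.l (0)))) (Tr.n (Tr.n (Tr.l (0xac078)) (Tr.l (0x3302a03e03a032017))) (Tr.n (Tr.l (0x1bb05f)) (Tr.l (0)))))) (Tr.n (Tr.n (Tr.n (Tr.n (Tr.l (0x18005)) (Tr.l (0x21005e))) (Tr.n (Tr.l (0xfa078)) (Tr.l (0)))) (Tr.n (Tr.n (Tr.l (0x99078)) (Tr.l (0x26027032025008))) (Tr.n (Tr.l (0x1a105f)) (Tr.l (0))))) (Tr.n (Tr.n (Tr.n (Tr.l (0x7705e)) (Tr.l (0x2f03603003202603c)))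 (Tr.n (Tr.l (0x17605e)) (Tr.l (0)))) (Tr.n (Tr.n (Tr.l (0xc0078)) (Tr.l (0x40031028036006))) (Tr.n (Tr.l (0x1d605f)) (Tr.l (0))))))
def WTH_25 : Tr ℕ := Tr.n (Tr.n (Tr.n (Tr.n (Tr.n (Tr.l (0x11004)) (Tr.l (0x1f405e))) (Tr.n (Tr.l (0xde078)) (Tr.l (0)))) (Tr.n (Tr.n (Tr.l (0x88067)) (Tr.l (0x3803503a03f035004))) (Tr.n (Tr.l (0x18d05e)) (Tr.l (0))))) (Tr.n (Tr.n (Tr.n (Tr.l (0x4a05404f)) (Tr.l (0x24505e))) (Tr.n (Tr.l (0x123067)) (Tr.l (0)))) (Tr.n (Tr.n (Tr.l (0xad067)) (Tr.l (0x3b02d02d030037005))) (Tr.n (Tr.l (0x1bc05e)) (Tr.l (0)))))) (Tr.n (Tr.n (Tr.n (Tr.n (Tr.l (0x19005)) (Tr.l (0x21105e))) (Tr.n (Tr.l (0xfb078)) (Tr.l (0)))) (Tr.n (Tr.n (Tr.l (0x9a067)) (Tr.l (0x3d03b023027039006))) (Tr.n (Tr.l (0x1a305e)) (Tr.l (0))))) (Tr.n (Tr.n (Tr.n (Tr.l (0x67067)) (Tr.l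 (0x3103e032041027005))) (Tr.n (Tr.l (0x17605f)) (Tr.l (0)))) (Tr.n (Tr.n (Tr.l (0xc1067)) (Tr.l (0x2d031028027033009))) (Tr.n (Tr.l (0x1d705f)) (Tr.l (0))))))
def WTH_26 : Tr ℕ := Tr.n (Tr.n (Tr.n (Tr.n (Tr.n (Tr.l (0xa005)) (Tr.l (0x1f405f))) (Tr.n (Tr.l (0xdf067)) (Tr.l (0)))) (Tr.n (Tr.n (Tr.l (0x88078)) (Tr.l (0x3103e03603b031009))) (Tr.n (Tr.l (0x18d05f)) (Tr.l (0))))) (Tr.n (Tr.n (Tr.n (Tr.l (0x2b04103702203c00c)) (Tr.l (0x24605e))) (Tr.n (Tr.l (0x123078)) (Tr.l (0)))) (Tr.n (Tr.n (Tr.l (0xad078)) (Tr.l (0x3f02702403b031006))) (Tr.n (Tr.l (0x1bc05f)) (Tr.l (0)))))) (Tr.n (Tr.n (Tr.n (Tr.n (Tr.l (0x1a005)) (Tr.l (0x21205f))) (Tr.n (Tr.l (0xfc067)) (Tr.l (0)))) (Tr.n (Tr.n (Tr.l (0x9a078)) (Tr.l (0x3603c032029031))) (Tr.n (Tr.l (0x1a305f)) (Tr.l (0))))) (Tr.n (Tr.n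 (Tr.n (Tr.l (0x67078)) (Tr.l (0x3a03b041022040006))) (Tr.n (Tr.l (0x17705f)) (Tr.l (0)))) (Tr.n (Tr.n (Tr.l (0xc1078)) (Tr.l (0x3a02404102a032007))) (Tr.n (Tr.l (0x1d805f)) (Tr.l (0))))))
def WTH_27 : Tr ℕ := Tr.n (Tr.n (Tr.n (Tr.n (Tr.n (Tr.l (0xb005)) (Tr.l (0x1f505e))) (Tr.n (Tr.l (0xdf078)) (Tr.l (0)))) (Tr.n (Tr.n (Tr.l (0x89067)) (Tr.l (0x3802302403603400a))) (Tr.n (Tr.l (0x18e05f)) (Tr.l (0))))) (Tr.n (Tr.n (Tr.n (Tr.l (0x30038032026034004)) (Tr.l (0x24705f))) (Tr.n (Tr.l (0x127078)) (Tr.l (0)))) (Tr.n (Tr.n (Tr.l (0xae067)) (Tr.l (0x3102c03b03c041008))) (Tr.n (Tr.l (0x1bd05f)) (Tr.l (0)))))) (Tr.n (Tr.n (Tr.n (Tr.n (Tr.l (0x1b005)) (Tr.l (0x21305e))) (Tr.n (Tr.l (0xfe078)) (Tr.l (0)))) (Tr.n (Tr.n (Tr.l (0x9b067)) (Tr.l (0x4003502302703400e))) (Tr.n (Tr.l (0x1a405e))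 (Tr.l (0))))) (Tr.n (Tr.n (Tr.n (Tr.l (0x78067)) (Tr.l (0x2f022028024041006))) (Tr.n (Tr.l (0x6105f)) (Tr.l (0)))) (Tr.n (Tr.n (Tr.l (0xc2067)) (Tr.l (0x29022037029004))) (Tr.n (Tr.l (0x1da05e)) (Tr.l (0))))))
def WTH_28 : Tr ℕ := Tr.n (Tr.n (Tr.n (Tr.n (Tr.n (Tr.l (0xc005)) (Tr.l (0x1f505f))) (Tr.n (Tr.l (0xe0067)) (Tr.l (0)))) (Tr.n (Tr.n (Tr.l (0x89078)) (Tr.l (0x2b03103a02a03c004))) (Tr.n (Tr.l (0x18f05e)) (Tr.l (0))))) (Tr.n (Tr.n (Tr.n (Tr.l (0x3f027022030039)) (Tr.l (0x24905f))) (Tr.n (Tr.l (0x129078)) (Tr.l (0)))) (Tr.n (Tr.n (Tr.l (0xae078)) (Tr.l (0x3f041024023040021))) (Tr.n (Tr.l (0x1be05f)) (Tr.l (0)))))) (Tr.n (Tr.n (Tr.n (Tr.n (Tr.l (0x1c005)) (Tr.l (0x21405f))) (Tr.n (Tr.l (0xff078)) (Tr.l (0)))) (Tr.n (Tr.n (Tr.l (0x9b078)) (Tr.l (0x3903e03403902d00b)))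 (Tr.n (Tr.l (0x1a405f)) (Tr.l (0))))) (Tr.n (Tr.n (Tr.n (Tr.l (0x78078)) (Tr.l (0x3702a03602a03101c))) (Tr.n (Tr.l (0x6905e)) (Tr.l (0)))) (Tr.n (Tr.n (Tr.l (0xc2078)) (Tr.l (0x3402e02602603000b))) (Tr.n (Tr.l (0x1db05f)) (Tr.l (0))))))
def WTH_29 : Tr ℕ := Tr.n (Tr.n (Tr.n (Tr.n (Tr.n (Tr.l (0xd005)) (Tr.l (0x1f605f))) (Tr.n (Tr.l (0xe0078)) (Tr.l (0)))) (Tr.n (Tr.n (Tr.l (0x8a067)) (Tr.l (0x3603b02b02f010))) (Tr.n (Tr.l (0x18f05f)) (Tr.l (0))))) (Tr.n (Tr.n (Tr.n (Tr.l (0x3602502702702900f)) (Tr.l (0x24d05e))) (Tr.n (Tr.l (0x12a078)) (Tr.l (0)))) (Tr.n (Tr.n (Tr.l (0xaf067)) (Tr.l (0x2803b04103302d033))) (Tr.n (Tr.l (0x1bf05e)) (Tr.l (0)))))) (Tr.n (Tr.n (Tr.n (Tr.n (Tr.l (0x1d005)) (Tr.l (0x21705f))) (Tr.n (Tr.l (0x100067)) (Tr.l (0)))) (Tr.n (Tr.n (Tr.l (0x9c067))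 (Tr.l (0x3403903703e030))) (Tr.n (Tr.l (0x1a505f)) (Tr.l (0))))) (Tr.n (Tr.n (Tr.n (Tr.l (0x79067)) (Tr.l (0x3302902d02a02b00d))) (Tr.n (Tr.l (0x17805f)) (Tr.l (0)))) (Tr.n (Tr.n (Tr.l (0xc3067)) (Tr.l (0x2602e02b02b02602a))) (Tr.n (Tr.l (0x1dc05e)) (Tr.l (0))))))
def WTH_30 : Tr ℕ := Tr.n (Tr.n (Tr.n (Tr.n (Tr.n (Tr.l (0xe005)) (Tr.l (0x1f705f))) (Tr.n (Tr.l (0xe1067)) (Tr.l (0)))) (Tr.n (Tr.n (Tr.l (0x8a078)) (Tr.l (0x2a03303303c03b))) (Tr.n (Tr.l (0x19005f)) (Tr.l (0))))) (Tr.n (Tr.n (Tr.n (Tr.l (0x1)) (Tr.l (0x24e05f))) (Tr.n (Tr.l (0x12b067)) (Tr.l (0)))) (Tr.n (Tr.n (Tr.l (0xaf078)) (Tr.l (0x3102503f02e03900c))) (Tr.n (Tr.l (0x1bf05f)) (Tr.l (0)))))) (Tr.n (Tr.n (Tr.n (Tr.n (Tr.l (0x1e005)) (Tr.l (0x21805e))) (Tr.n (Tr.l (0x101067)) (Tr.l (0)))) (Tr.n (Tr.n (Tr.l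 (0x9c078)) (Tr.l (0x3a02703303d02f00e))) (Tr.n (Tr.l (0x1a605e)) (Tr.l (0))))) (Tr.n (Tr.n (Tr.n (Tr.l (0x79078)) (Tr.l (0x28031032022040012))) (Tr.n (Tr.l (0x17905e)) (Tr.l (0)))) (Tr.n (Tr.n (Tr.l (0xc3078)) (Tr.l (0x2503802302402e004))) (Tr.n (Tr.l (0x1dc05f)) (Tr.l (0))))))
def WTH_31 : Tr ℕ := Tr.n (Tr.n (Tr.n (Tr.n (Tr.n (Tr.l (0xf005)) (Tr.l (0x1f805e))) (Tr.n (Tr.l (0xe2078)) (Tr.l (0)))) (Tr.n (Tr.n (Tr.l (0x8b067)) (Tr.l (0x3602302703b03f))) (Tr.n (Tr.l (0x19105e)) (Tr.l (0))))) (Tr.n (Tr.n (Tr.n (Tr.l (0x2001002001003001003001002001002001002)) (Tr.l (0x25005f))) (Tr.n (Tr.l (0x12d078)) (Tr.l (0)))) (Tr.n (Tr.n (Tr.l (0xb0067)) (Tr.l (0x29036040029004))) (Tr.n (Tr.l (0x1c005e)) (Tr.l (0)))))) (Tr.n (Tr.n (Tr.n (Tr.n (Tr.l (0x1f005)) (Tr.l (0x21a05f))) (Tr.n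 (Tr.l (0x105078)) (Tr.l (0)))) (Tr.n (Tr.n (Tr.l (0x9d067)) (Tr.l (0x2c02203303703100c))) (Tr.n (Tr.l (0x1a705f)) (Tr.l (0))))) (Tr.n (Tr.n (Tr.n (Tr.l (0x7a067)) (Tr.l (0x2e02703d02c008))) (Tr.n (Tr.l (0x17a05e)) (Tr.l (0)))) (Tr.n (Tr.n (Tr.l (0xc4067)) (Tr.l (0x3a03102902a02d009))) (Tr.n (Tr.l (0x1de05e)) (Tr.l (0))))))
def WTH : Tr ℕ := Tr.n (Tr.n (Tr.n (Tr.n (Tr.n (WTH_0) (WTH_16)) (Tr.n (WTH_8) (WTH_24))) (Tr.n (Tr.n (WTH_4) (WTH_20)) (Tr.n (WTH_12) (WTH_28)))) (Tr.n (Tr.n (Tr.n (WTH_2) (WTH_18)) (Tr.n (WTH_10) (WTH_26))) (Tr.n (Tr.n (WTH_6) (WTH_22)) (Tr.n (WTH_14) (WTH_30))))) (Tr.n (Tr.n (Tr.n (Tr.n (WTH_1) (WTH_17)) (Tr.n (WTH_9) (WTH_25))) (Tr.n (Tr.n (WTH_5) (WTH_21)) (Tr.n (WTH_13) (WTH_29)))) (Tr.n (Tr.n (Tr.n (WTH_3) (WTH_19)) (Tr.n (WTH_11) (WTH_27)))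 (Tr.n (Tr.n (WTH_7) (WTH_23)) (Tr.n (WTH_15) (WTH_31)))))
def FTH_0 : Tr Fact := Tr.n (Tr.n (Tr.n (Tr.n (Tr.n (Tr.l (Fact.e 0 0x30005 1 0)) (Tr.l (Fact.s 6 709))) (Tr.n (Tr.l (Fact.s 3 642)) (Tr.l (Fact.z)))) (Tr.n (Tr.n (Tr.l (Fact.s 0 57)) (Tr.l (Fact.z))) (Tr.n (Tr.l (Fact.s 4 706)) (Tr.l (Fact.z))))) (Tr.n (Tr.n (Tr.n (Tr.l (Fact.s 0 25)) (Tr.l (Fact.z))) (Tr.n (Tr.l (Fact.s 4 677)) (Tr.l (Fact.z)))) (Tr.n (Tr.n (Tr.l (Fact.s 2 635)) (Tr.l (Fact.z))) (Tr.n (Tr.l (Fact.s 5 736)) (Tr.l (Fact.z)))))) (Tr.n (Tr.n (Tr.n (Tr.n (Tr.l (Fact.s 0 9)) (Tr.l (Fact.s 7 773))) (Tr.n (Tr.l (Fact.e 3 0x2c03802b00c 3 0x2504102f03202c01e)) (Tr.l (Fact.z)))) (Tr.n (Tr.n (Tr.l (Fact.s 1 620)) (Tr.l (Fact.z))) (Tr.n (Tr.l (Fact.s 5 721)) (Tr.l (Fact.z))))) (Tr.n (Tr.n (Tr.n (Tr.l (Fact.s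 0 41)) (Tr.l (Fact.z))) (Tr.n (Tr.l (Fact.e 4 0x3c02a02d03d04101b 1 0x3a026024004)) (Tr.l (Fact.z)))) (Tr.n (Tr.n (Tr.l (Fact.e 2 0x2202a02a026027006 2 0x3c02f02303103b026)) (Tr.l (Fact.z))) (Tr.n (Tr.l (Fact.s 6 752)) (Tr.l (Fact.z))))))
def FTH_1 : Tr Fact := Tr.n (Tr.n (Tr.n (Tr.n (Tr.n (Tr.l (Fact.e 1 0x30005 2 0)) (Tr.l (Fact.s 6 761))) (Tr.n (Tr.l (Fact.s 3 655)) (Tr.l (Fact.z)))) (Tr.n (Tr.n (Tr.l (Fact.s 0 58)) (Tr.l (Fact.z))) (Tr.n (Tr.l (Fact.s 4 707)) (Tr.l (Fact.z))))) (Tr.n (Tr.n (Tr.n (Tr.l (Fact.s 0 26)) (Tr.l (Fact.z))) (Tr.n (Tr.l (Fact.s 4 678)) (Tr.l (Fact.z)))) (Tr.n (Tr.n (Tr.l (Fact.s 2 636)) (Tr.l (Fact.z))) (Tr.n (Tr.l (Fact.s 5 737)) (Tr.l (Fact.z)))))) (Tr.n (Tr.n (Tr.n (Tr.n (Tr.l (Fact.s 0 10)) (Tr.l (Fact.s 7 774))) (Tr.n (Tr.l (Fact.e 3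 0x3c04003e03d028007 3 0x2302302702602202c)) (Tr.l (Fact.z)))) (Tr.n (Tr.n (Tr.l (Fact.s 1 621)) (Tr.l (Fact.z))) (Tr.n (Tr.l (Fact.s 5 722)) (Tr.l (Fact.z))))) (Tr.n (Tr.n (Tr.n (Tr.l (Fact.s 0 42)) (Tr.l (Fact.z))) (Tr.n (Tr.l (Fact.s 4 691)) (Tr.l (Fact.z)))) (Tr.n (Tr.n (Tr.l (Fact.e 2 0x2f04103203202502a 2 0x3804002402202c006)) (Tr.l (Fact.z))) (Tr.n (Tr.l (Fact.s 6 753)) (Tr.l (Fact.z))))))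
def FTH_2 : Tr Fact := Tr.n (Tr.n (Tr.n (Tr.n (Tr.n (Tr.l (Fact.e 1 0x30006 3 0)) (Tr.l (Fact.s 6 762))) (Tr.n (Tr.l (Fact.e 3 0x2203202d02d031004 1 0x2e02a03702a02e018)) (Tr.l (Fact.z)))) (Tr.n (Tr.n (Tr.l (Fact.s 0 59)) (Tr.l (Fact.z))) (Tr.n (Tr.l (Fact.e 4 0x3c02c028004 4 0x28041038040022008)) (Tr.l (Fact.z))))) (Tr.n (Tr.n (Tr.n (Tr.l (Fact.s 0 27)) (Tr.l (Fact.z))) (Tr.n (Tr.l (Fact.s 4 679)) (Tr.l (Fact.z)))) (Tr.n (Tr.n (Tr.l (Fact.s 2 637)) (Tr.l (Fact.z))) (Tr.n (Tr.l (Fact.s 5 738)) (Tr.l (Fact.z)))))) (Tr.n (Tr.n (Tr.n (Tr.n (Tr.l (Fact.s 0 11)) (Tr.l (Fact.s 7 775))) (Tr.n (Tr.l (Fact.e 3 0x3c02c028004 3 0x3c034032035014)) (Tr.l (Fact.z)))) (Tr.n (Tr.n (Tr.l (Fact.s 1 622)) (Tr.l (Fact.z))) (Tr.n (Tr.l (Fact.s 5 723)) (Tr.l (Fact.z))))) (Tr.n (Tr.n (Tr.n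 (Tr.l (Fact.s 0 43)) (Tr.l (Fact.z))) (Tr.n (Tr.l (Fact.s 4 692)) (Tr.l (Fact.z)))) (Tr.n (Tr.n (Tr.l (Fact.e 2 0x3c03502502b037010 2 0x32025026041025005)) (Tr.l (Fact.z))) (Tr.n (Tr.l (Fact.s 6 178)) (Tr.l (Fact.z))))))
def FTH_3 : Tr Fact := Tr.n (Tr.n (Tr.n (Tr.n (Tr.n (Tr.l (Fact.e 1 0x3800c 4 0)) (Tr.l (Fact.s 6 763))) (Tr.n (Tr.l (Fact.s 3 656)) (Tr.l (Fact.z)))) (Tr.n (Tr.n (Tr.l (Fact.s 0 60)) (Tr.l (Fact.z))) (Tr.n (Tr.l (Fact.s 5 708)) (Tr.l (Fact.z))))) (Tr.n (Tr.n (Tr.n (Tr.l (Fact.s 0 28)) (Tr.l (Fact.z))) (Tr.n (Tr.l (Fact.e 3 0x37023034004 4 0x30026027041034011)) (Tr.l (Fact.z)))) (Tr.n (Tr.n (Tr.l (Fact.s 2 638)) (Tr.l (Fact.z))) (Tr.n (Tr.l (Fact.s 5 739)) (Tr.l (Fact.z)))))) (Tr.n (Tr.n (Tr.n (Tr.n (Tr.l (Fact.s 0 12)) (Tr.l (Fact.s 7 776))) (Tr.n (Tr.l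 (Fact.e 3 0x2903804003302200b 3 0x2c02902503202c005)) (Tr.l (Fact.z)))) (Tr.n (Tr.n (Tr.l (Fact.s 1 623)) (Tr.l (Fact.z))) (Tr.n (Tr.l (Fact.s 5 724)) (Tr.l (Fact.z))))) (Tr.n (Tr.n (Tr.n (Tr.l (Fact.s 0 44)) (Tr.l (Fact.z))) (Tr.n (Tr.l (Fact.s 4 693)) (Tr.l (Fact.z)))) (Tr.n (Tr.n (Tr.l (Fact.e 2 0x3004002503a039018 2 0x2702802803c027005)) (Tr.l (Fact.z))) (Tr.n (Tr.l (Fact.s 6 754)) (Tr.l (Fact.z))))))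
def FTH_4 : Tr Fact := Tr.n (Tr.n (Tr.n (Tr.n (Tr.n (Tr.l (Fact.e 4 0x3803a02602b 5 0)) (Tr.l (Fact.s 6 764))) (Tr.n (Tr.l (Fact.s 3 657)) (Tr.l (Fact.z)))) (Tr.n (Tr.n (Tr.l (Fact.s 0 61)) (Tr.l (Fact.z))) (Tr.n (Tr.l (Fact.s 5 709)) (Tr.l (Fact.z))))) (Tr.n (Tr.n (Tr.n (Tr.l (Fact.s 0 29)) (Tr.l (Fact.z))) (Tr.n (Tr.l (Fact.e 4 0x3c03a03203902a 1 0x2c03303403202e004)) (Tr.l (Fact.z)))) (Tr.n (Tr.n (Tr.l (Fact.s 2 639)) (Tr.l (Fact.z))) (Tr.n (Tr.l (Fact.s 5 740)) (Tr.l (Fact.z)))))) (Tr.n (Tr.n (Tr.n (Tr.n (Tr.l (Fact.s 0 13)) (Tr.l (Fact.s 7 777))) (Tr.n (Tr.l (Fact.s 4 665)) (Tr.l (Fact.z)))) (Tr.n (Tr.n (Tr.l (Fact.s 1 624)) (Tr.l (Fact.z))) (Tr.n (Tr.l (Fact.s 5 725)) (Tr.l (Fact.z))))) (Tr.n (Tr.n (Tr.n (Tr.l (Fact.s 0 45)) (Tr.l (Fact.z))) (Tr.n (Tr.l (Fact.s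 4 694)) (Tr.l (Fact.z)))) (Tr.n (Tr.n (Tr.l (Fact.s 3 645)) (Tr.l (Fact.z))) (Tr.n (Tr.l (Fact.s 6 755)) (Tr.l (Fact.z))))))
def FTH_5 : Tr Fact := Tr.n (Tr.n (Tr.n (Tr.n (Tr.n (Tr.l (Fact.e 4 0x30 6 0)) (Tr.l (Fact.s 6 765))) (Tr.n (Tr.l (Fact.s 3 632)) (Tr.l (Fact.z)))) (Tr.n (Tr.n (Tr.l (Fact.s 0 62)) (Tr.l (Fact.z))) (Tr.n (Tr.l (Fact.s 5 710)) (Tr.l (Fact.z))))) (Tr.n (Tr.n (Tr.n (Tr.l (Fact.s 0 30)) (Tr.l (Fact.z))) (Tr.n (Tr.l (Fact.s 4 680)) (Tr.l (Fact.z)))) (Tr.n (Tr.n (Tr.l (Fact.s 2 640)) (Tr.l (Fact.z))) (Tr.n (Tr.l (Fact.s 5 741)) (Tr.l (Fact.z)))))) (Tr.n (Tr.n (Tr.n (Tr.n (Tr.l (Fact.s 0 14)) (Tr.l (Fact.s 7 778))) (Tr.n (Tr.l (Fact.s 4 666)) (Tr.l (Fact.z)))) (Tr.n (Tr.n (Tr.l (Fact.s 1 625)) (Tr.l (Fact.z))) (Tr.n (Tr.l (Fact.s 5 726)) (Tr.l (Fact.z)))))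 (Tr.n (Tr.n (Tr.n (Tr.l (Fact.s 0 46)) (Tr.l (Fact.z))) (Tr.n (Tr.l (Fact.s 4 695)) (Tr.l (Fact.z)))) (Tr.n (Tr.n (Tr.l (Fact.s 3 646)) (Tr.l (Fact.z))) (Tr.n (Tr.l (Fact.s 6 735)) (Tr.l (Fact.z))))))
def FTH_6 : Tr Fact := Tr.n (Tr.n (Tr.n (Tr.n (Tr.n (Tr.l (Fact.e 4 0x3d013 7 0)) (Tr.l (Fact.s 6 766))) (Tr.n (Tr.l (Fact.s 3 658)) (Tr.l (Fact.z)))) (Tr.n (Tr.n (Tr.l (Fact.s 0 63)) (Tr.l (Fact.z))) (Tr.n (Tr.l (Fact.s 5 711)) (Tr.l (Fact.z))))) (Tr.n (Tr.n (Tr.n (Tr.l (Fact.s 0 31)) (Tr.l (Fact.z))) (Tr.n (Tr.l (Fact.s 4 681)) (Tr.l (Fact.z)))) (Tr.n (Tr.n (Tr.l (Fact.s 2 641)) (Tr.l (Fact.z))) (Tr.n (Tr.l (Fact.s 5 742)) (Tr.l (Fact.z)))))) (Tr.n (Tr.n (Tr.n (Tr.n (Tr.l (Fact.s 0 15)) (Tr.l (Fact.s 7 779))) (Tr.n (Tr.l (Fact.s 4 667)) (Tr.l (Fact.z)))) (Tr.n (Tr.n (Tr.l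 (Fact.s 1 626)) (Tr.l (Fact.z))) (Tr.n (Tr.l (Fact.s 5 727)) (Tr.l (Fact.z))))) (Tr.n (Tr.n (Tr.n (Tr.l (Fact.s 0 47)) (Tr.l (Fact.z))) (Tr.n (Tr.l (Fact.s 4 696)) (Tr.l (Fact.z)))) (Tr.n (Tr.n (Tr.l (Fact.s 3 647)) (Tr.l (Fact.z))) (Tr.n (Tr.l (Fact.s 6 199)) (Tr.l (Fact.z))))))
def FTH_7 : Tr Fact := Tr.n (Tr.n (Tr.n (Tr.n (Tr.n (Tr.l (Fact.s 0 0)) (Tr.l (Fact.s 6 767))) (Tr.n (Tr.l (Fact.s 3 659)) (Tr.l (Fact.z)))) (Tr.n (Tr.n (Tr.l (Fact.s 0 64)) (Tr.l (Fact.z))) (Tr.n (Tr.l (Fact.s 5 712)) (Tr.l (Fact.z))))) (Tr.n (Tr.n (Tr.n (Tr.l (Fact.s 0 32)) (Tr.l (Fact.z))) (Tr.n (Tr.l (Fact.s 4 682)) (Tr.l (Fact.z)))) (Tr.n (Tr.n (Tr.l (Fact.s 2 642)) (Tr.l (Fact.z))) (Tr.n (Tr.l (Fact.s 5 743)) (Tr.l (Fact.z)))))) (Tr.n (Tr.n (Tr.n (Tr.n (Tr.l (Fact.s 0 16)) (Tr.l (Fact.s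 7 780))) (Tr.n (Tr.l (Fact.s 4 668)) (Tr.l (Fact.z)))) (Tr.n (Tr.n (Tr.l (Fact.s 1 627)) (Tr.l (Fact.z))) (Tr.n (Tr.l (Fact.s 5 728)) (Tr.l (Fact.z))))) (Tr.n (Tr.n (Tr.n (Tr.l (Fact.s 0 48)) (Tr.l (Fact.z))) (Tr.n (Tr.l (Fact.s 4 697)) (Tr.l (Fact.z)))) (Tr.n (Tr.n (Tr.l (Fact.s 3 648)) (Tr.l (Fact.z))) (Tr.n (Tr.l (Fact.s 6 756)) (Tr.l (Fact.z))))))
def FTH_8 : Tr Fact := Tr.n (Tr.n (Tr.n (Tr.n (Tr.n (Tr.l (Fact.s 0 1)) (Tr.l (Fact.e 5 0x3302702602802c01e 6 0x28041038038016))) (Tr.n (Tr.l (Fact.s 3 660)) (Tr.l (Fact.z)))) (Tr.n (Tr.n (Tr.l (Fact.s 0 65)) (Tr.l (Fact.z))) (Tr.n (Tr.l (Fact.s 5 713)) (Tr.l (Fact.z))))) (Tr.n (Tr.n (Tr.n (Tr.l (Fact.s 0 33)) (Tr.l (Fact.z))) (Tr.n (Tr.l (Fact.s 4 683)) (Tr.l (Fact.z)))) (Tr.n (Tr.n (Tr.l (Fact.s 2 643)) (Tr.l (Fact.z)))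 (Tr.n (Tr.l (Fact.s 5 744)) (Tr.l (Fact.z)))))) (Tr.n (Tr.n (Tr.n (Tr.n (Tr.l (Fact.s 0 17)) (Tr.l (Fact.s 7 389))) (Tr.n (Tr.l (Fact.s 4 669)) (Tr.l (Fact.z)))) (Tr.n (Tr.n (Tr.l (Fact.s 1 628)) (Tr.l (Fact.z))) (Tr.n (Tr.l (Fact.s 5 729)) (Tr.l (Fact.z))))) (Tr.n (Tr.n (Tr.n (Tr.l (Fact.s 0 49)) (Tr.l (Fact.z))) (Tr.n (Tr.l (Fact.s 4 698)) (Tr.l (Fact.z)))) (Tr.n (Tr.n (Tr.l (Fact.s 3 649)) (Tr.l (Fact.z))) (Tr.n (Tr.l (Fact.s 6 757)) (Tr.l (Fact.z))))))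
def FTH_9 : Tr Fact := Tr.n (Tr.n (Tr.n (Tr.n (Tr.n (Tr.l (Fact.s 0 2)) (Tr.l (Fact.e 6 0x2404003202702900c 6 0x2703104103403901e))) (Tr.n (Tr.l (Fact.s 3 661)) (Tr.l (Fact.z)))) (Tr.n (Tr.n (Tr.l (Fact.s 1 613)) (Tr.l (Fact.z))) (Tr.n (Tr.l (Fact.s 5 714)) (Tr.l (Fact.z))))) (Tr.n (Tr.n (Tr.n (Tr.l (Fact.s 0 34)) (Tr.l (Fact.z))) (Tr.n (Tr.l (Fact.s 4 684)) (Tr.l (Fact.z)))) (Tr.n (Tr.n (Tr.l (Fact.s 2 644)) (Tr.l (Fact.z))) (Tr.n (Tr.l (Fact.s 5 745)) (Tr.l (Fact.z)))))) (Tr.n (Tr.n (Tr.n (Tr.n (Tr.l (Fact.s 0 18)) (Tr.l (Fact.e 6 0x2f03e041028034009 7 0x2804102e03b01c))) (Tr.n (Tr.l (Fact.s 4 670)) (Tr.l (Fact.z)))) (Tr.n (Tr.n (Tr.l (Fact.s 1 629)) (Tr.l (Fact.z))) (Tr.n (Tr.l (Fact.e 5 0x3c04102f032033009 4 0x2c040036033035017)) (Tr.l (Fact.z))))) (Tr.n (Tr.n (Tr.n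 (Tr.l (Fact.s 0 50)) (Tr.l (Fact.z))) (Tr.n (Tr.l (Fact.s 4 699)) (Tr.l (Fact.z)))) (Tr.n (Tr.n (Tr.l (Fact.s 3 283)) (Tr.l (Fact.z))) (Tr.n (Tr.l (Fact.s 6 758)) (Tr.l (Fact.z))))))
def FTH_10 : Tr Fact := Tr.n (Tr.n (Tr.n (Tr.n (Tr.n (Tr.l (Fact.s 0 3)) (Tr.l (Fact.e 6 0x3a03002a030025004 6 0x2f03903703b03b03b))) (Tr.n (Tr.l (Fact.s 3 639)) (Tr.l (Fact.z)))) (Tr.n (Tr.n (Tr.l (Fact.s 1 614)) (Tr.l (Fact.z))) (Tr.n (Tr.l (Fact.s 5 715)) (Tr.l (Fact.z))))) (Tr.n (Tr.n (Tr.n (Tr.l (Fact.s 0 35)) (Tr.l (Fact.z))) (Tr.n (Tr.l (Fact.s 4 685)) (Tr.l (Fact.z)))) (Tr.n (Tr.n (Tr.l (Fact.e 2 0x3c01c 2 0x3c04002702304001a)) (Tr.l (Fact.z))) (Tr.n (Tr.l (Fact.s 5 746)) (Tr.l (Fact.z)))))) (Tr.n (Tr.n (Tr.n (Tr.n (Tr.l (Fact.s 0 19)) (Tr.l (Fact.e 7 0x3c03c035005 7 0x2a02d03702203301e)))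 (Tr.n (Tr.l (Fact.s 4 671)) (Tr.l (Fact.z)))) (Tr.n (Tr.n (Tr.l (Fact.s 1 630)) (Tr.l (Fact.z))) (Tr.n (Tr.l (Fact.s 5 730)) (Tr.l (Fact.z))))) (Tr.n (Tr.n (Tr.n (Tr.l (Fact.s 0 51)) (Tr.l (Fact.z))) (Tr.n (Tr.l (Fact.s 4 700)) (Tr.l (Fact.z)))) (Tr.n (Tr.n (Tr.l (Fact.s 3 650)) (Tr.l (Fact.z))) (Tr.n (Tr.l (Fact.e 3 0x2c03b02203f03700d 6 0x2703102f02f036039)) (Tr.l (Fact.z))))))
def FTH_11 : Tr Fact := Tr.n (Tr.n (Tr.n (Tr.n (Tr.n (Tr.l (Fact.s 0 4)) (Tr.l (Fact.s 7 768))) (Tr.n (Tr.l (Fact.s 3 662)) (Tr.l (Fact.z)))) (Tr.n (Tr.n (Tr.l (Fact.s 1 615)) (Tr.l (Fact.z))) (Tr.n (Tr.l (Fact.s 5 716)) (Tr.l (Fact.z))))) (Tr.n (Tr.n (Tr.n (Tr.l (Fact.s 0 36)) (Tr.l (Fact.z))) (Tr.n (Tr.l (Fact.s 4 686)) (Tr.l (Fact.z)))) (Tr.n (Tr.n (Tr.l (Fact.e 2 0x4003f03203a007 2 0x2b03102e03202e017))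 (Tr.l (Fact.z))) (Tr.n (Tr.l (Fact.s 6 747)) (Tr.l (Fact.z)))))) (Tr.n (Tr.n (Tr.n (Tr.n (Tr.l (Fact.s 0 20)) (Tr.l (Fact.e 7 0x4102702203c025018 6 0x3a02603c02f034004))) (Tr.n (Tr.l (Fact.s 4 672)) (Tr.l (Fact.z)))) (Tr.n (Tr.n (Tr.l (Fact.s 1 631)) (Tr.l (Fact.z))) (Tr.n (Tr.l (Fact.s 5 731)) (Tr.l (Fact.z))))) (Tr.n (Tr.n (Tr.n (Tr.l (Fact.s 0 52)) (Tr.l (Fact.z))) (Tr.n (Tr.l (Fact.s 4 701)) (Tr.l (Fact.z)))) (Tr.n (Tr.n (Tr.l (Fact.s 3 651)) (Tr.l (Fact.z))) (Tr.n (Tr.l (Fact.e 6 0x3503302d03a04100c 6 0x3402702d004)) (Tr.l (Fact.z))))))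
def FTH_12 : Tr Fact := Tr.n (Tr.n (Tr.n (Tr.n (Tr.n (Tr.l (Fact.s 0 5)) (Tr.l (Fact.s 7 769))) (Tr.n (Tr.l (Fact.s 3 663)) (Tr.l (Fact.z)))) (Tr.n (Tr.n (Tr.l (Fact.s 1 616)) (Tr.l (Fact.z))) (Tr.n (Tr.l (Fact.s 5 717)) (Tr.l (Fact.z))))) (Tr.n (Tr.n (Tr.n (Tr.l (Fact.s 0 37)) (Tr.l (Fact.z))) (Tr.n (Tr.l (Fact.s 4 687)) (Tr.l (Fact.z)))) (Tr.n (Tr.n (Tr.l (Fact.e 2 0x3c02903a034027009 2 0x3f03c03e03a024009)) (Tr.l (Fact.z))) (Tr.n (Tr.l (Fact.s 6 748)) (Tr.l (Fact.z)))))) (Tr.n (Tr.n (Tr.n (Tr.n (Tr.l (Fact.s 0 21)) (Tr.l (Fact.e 7 0x3302203d02a033020 7 0x2f04002303a02301a))) (Tr.n (Tr.l (Fact.s 4 673)) (Tr.l (Fact.z)))) (Tr.n (Tr.n (Tr.l (Fact.e 1 0x2c03802b00c 1 0x2703602d036038)) (Tr.l (Fact.z))) (Tr.n (Tr.l (Fact.s 5 732)) (Tr.l (Fact.z))))) (Tr.n (Tr.n (Tr.n (Tr.l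 (Fact.s 0 53)) (Tr.l (Fact.z))) (Tr.n (Tr.l (Fact.s 4 702)) (Tr.l (Fact.z)))) (Tr.n (Tr.n (Tr.l (Fact.s 3 652)) (Tr.l (Fact.z))) (Tr.n (Tr.l (Fact.e 6 0x4003a04103a023 3 0x3003a03d03b02f00b)) (Tr.l (Fact.z))))))
def FTH_13 : Tr Fact := Tr.n (Tr.n (Tr.n (Tr.n (Tr.n (Tr.l (Fact.s 0 6)) (Tr.l (Fact.s 7 770))) (Tr.n (Tr.l (Fact.s 3 664)) (Tr.l (Fact.z)))) (Tr.n (Tr.n (Tr.l (Fact.s 1 617)) (Tr.l (Fact.z))) (Tr.n (Tr.l (Fact.s 5 718)) (Tr.l (Fact.z))))) (Tr.n (Tr.n (Tr.n (Tr.l (Fact.s 0 38)) (Tr.l (Fact.z))) (Tr.n (Tr.l (Fact.s 4 688)) (Tr.l (Fact.z)))) (Tr.n (Tr.n (Tr.l (Fact.e 2 0x2e03002202302700f 2 0x3d03602503f041020)) (Tr.l (Fact.z))) (Tr.n (Tr.l (Fact.s 6 749)) (Tr.l (Fact.z)))))) (Tr.n (Tr.n (Tr.n (Tr.n (Tr.l (Fact.s 0 22)) (Tr.l (Fact.e 5 0x2a03a03c02b03600b 7 0x31025039022037011)))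 (Tr.n (Tr.l (Fact.s 4 674)) (Tr.l (Fact.z)))) (Tr.n (Tr.n (Tr.l (Fact.s 2 632)) (Tr.l (Fact.z))) (Tr.n (Tr.l (Fact.s 5 733)) (Tr.l (Fact.z))))) (Tr.n (Tr.n (Tr.n (Tr.l (Fact.s 0 54)) (Tr.l (Fact.z))) (Tr.n (Tr.l (Fact.s 4 703)) (Tr.l (Fact.z)))) (Tr.n (Tr.n (Tr.l (Fact.s 3 653)) (Tr.l (Fact.z))) (Tr.n (Tr.l (Fact.s 6 759)) (Tr.l (Fact.z))))))
def FTH_14 : Tr Fact := Tr.n (Tr.n (Tr.n (Tr.n (Tr.n (Tr.l (Fact.s 0 7)) (Tr.l (Fact.s 7 771))) (Tr.n (Tr.l (Fact.e 2 0x2c03802b00c 3 0x3603002d03303f004)) (Tr.l (Fact.z)))) (Tr.n (Tr.n (Tr.l (Fact.s 1 618)) (Tr.l (Fact.z))) (Tr.n (Tr.l (Fact.s 5 719)) (Tr.l (Fact.z))))) (Tr.n (Tr.n (Tr.n (Tr.l (Fact.s 0 39)) (Tr.l (Fact.z))) (Tr.n (Tr.l (Fact.s 4 689)) (Tr.l (Fact.z)))) (Tr.n (Tr.n (Tr.l (Fact.e 2 0x3c02203503a039010 2 0x3403703402303300a))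 (Tr.l (Fact.z))) (Tr.n (Tr.l (Fact.s 6 750)) (Tr.l (Fact.z)))))) (Tr.n (Tr.n (Tr.n (Tr.n (Tr.l (Fact.s 0 23)) (Tr.l (Fact.e 7 0x3602202a03803c004 7 0x3c03503703b017))) (Tr.n (Tr.l (Fact.s 4 675)) (Tr.l (Fact.z)))) (Tr.n (Tr.n (Tr.l (Fact.s 2 633)) (Tr.l (Fact.z))) (Tr.n (Tr.l (Fact.s 5 734)) (Tr.l (Fact.z))))) (Tr.n (Tr.n (Tr.n (Tr.l (Fact.s 0 55)) (Tr.l (Fact.z))) (Tr.n (Tr.l (Fact.s 4 704)) (Tr.l (Fact.z)))) (Tr.n (Tr.n (Tr.l (Fact.s 3 637)) (Tr.l (Fact.z))) (Tr.n (Tr.l (Fact.s 6 272)) (Tr.l (Fact.z))))))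
def FTH_15 : Tr Fact := Tr.n (Tr.n (Tr.n (Tr.n (Tr.n (Tr.l (Fact.s 0 8)) (Tr.l (Fact.s 7 772))) (Tr.n (Tr.l (Fact.e 2 0x3c04003e03d028007 3 0x3202302702e028005)) (Tr.l (Fact.z)))) (Tr.n (Tr.n (Tr.l (Fact.s 1 619)) (Tr.l (Fact.z))) (Tr.n (Tr.l (Fact.s 5 720)) (Tr.l (Fact.z))))) (Tr.n (Tr.n (Tr.n (Tr.l (Fact.s 0 40)) (Tr.l (Fact.z))) (Tr.n (Tr.l (Fact.s 4 690)) (Tr.l (Fact.z)))) (Tr.n (Tr.n (Tr.l (Fact.e 2 0x3102c03a03a02f009 2 0x3103e03903b029004)) (Tr.l (Fact.z))) (Tr.n (Tr.l (Fact.s 6 751)) (Tr.l (Fact.z)))))) (Tr.n (Tr.n (Tr.n (Tr.n (Tr.l (Fact.s 0 24)) (Tr.l (Fact.e 7 0x3604003902e02202d 7 0x3e04002302903500b))) (Tr.n (Tr.l (Fact.s 4 676)) (Tr.l (Fact.z)))) (Tr.n (Tr.n (Tr.l (Fact.s 2 634)) (Tr.l (Fact.z))) (Tr.n (Tr.l (Fact.s 5 735)) (Tr.l (Fact.z))))) (Tr.n (Tr.n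 (Tr.n (Tr.l (Fact.s 0 56)) (Tr.l (Fact.z))) (Tr.n (Tr.l (Fact.s 4 705)) (Tr.l (Fact.z)))) (Tr.n (Tr.n (Tr.l (Fact.s 3 654)) (Tr.l (Fact.z))) (Tr.n (Tr.l (Fact.s 6 760)) (Tr.l (Fact.z))))))
def FTH : Tr Fact := Tr.n (Tr.n (Tr.n (Tr.n (FTH_0) (FTH_8)) (Tr.n (FTH_4) (FTH_12))) (Tr.n (Tr.n (FTH_2) (FTH_10)) (Tr.n (FTH_6) (FTH_14)))) (Tr.n (Tr.n (Tr.n (FTH_1) (FTH_9)) (Tr.n (FTH_5) (FTH_13))) (Tr.n (Tr.n (FTH_3) (FTH_11)) (Tr.n (FTH_7) (FTH_15))))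
def FIH_0 : Tr Item := Tr.n (Tr.n (Tr.n (Tr.n (Tr.n (Tr.l (Item.df)) (Tr.l (Item.pr 255 245))) (Tr.n (Tr.l (Item.pr 124 124)) (Tr.l (Item.no)))) (Tr.n (Tr.n (Tr.l (Item.pr 32 12)) (Tr.l (Item.no))) (Tr.n (Tr.l (Item.pr 191 159)) (Tr.l (Item.no))))) (Tr.n (Tr.n (Tr.n (Tr.l (Item.pr 24 11)) (Tr.l (Item.no))) (Tr.n (Tr.l (Item.pr 152 148)) (Tr.l (Item.no)))) (Tr.n (Tr.n (Tr.l (Item.pr 93 95)) (Tr.l (Item.no))) (Tr.n (Tr.l (Item.pr 199 221)) (Tr.l (Item.no)))))) (Tr.n (Tr.n (Tr.n (Tr.n (Tr.l (Item.pr 12 12)) (Tr.l (Item.pr 271 271))) (Tr.n (Tr.l (Item.rl 0 1 1 0x30006 (SL.c 4 0 0 SL.z) (SL.c 4 0x58054 0x3b1f0 SL.z))) (Tr.l (Item.no)))) (Tr.n (Tr.n (Tr.l (Item.pr 76 76)) (Tr.l (Item.no))) (Tr.n (Tr.l (Item.pr 200 201)) (Tr.l (Item.no))))) (Tr.n (Tr.n (Tr.n (Tr.l (Item.pr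 32 11)) (Tr.l (Item.no))) (Tr.n (Tr.l (Item.rl 0 2 1 0x2b03c038022 (SL.c 184 0x54049 0xa812f (SL.c 6 0x4c 0x5f146 SL.z)) SL.z)) (Tr.l (Item.no)))) (Tr.n (Tr.n (Tr.l (Item.rl 1 2 1 0x2e028041022035007 (SL.c 184 0x54049 0xcc154 (SL.c 2 0x5905404d 0x3d1a0 SL.z)) (SL.c 2 0x4d05904d 0x8a1c0 SL.z))) (Tr.l (Item.no))) (Tr.n (Tr.l (Item.pr 239 239)) (Tr.l (Item.no))))))
def FIH_1 : Tr Item := Tr.n (Tr.n (Tr.n (Tr.n (Tr.n (Tr.l (Item.df)) (Tr.l (Item.pr 246 253))) (Tr.n (Tr.l (Item.pr 116 125)) (Tr.l (Item.no)))) (Tr.n (Tr.n (Tr.l (Item.pr 33 12)) (Tr.l (Item.no))) (Tr.n (Tr.l (Item.pr 182 158)) (Tr.l (Item.no))))) (Tr.n (Tr.n (Tr.n (Tr.l (Item.pr 17 12)) (Tr.l (Item.no))) (Tr.n (Tr.l (Item.pr 157 153)) (Tr.l (Item.no)))) (Tr.n (Tr.n (Tr.l (Item.pr 95 93)) (Tr.l (Item.no))) (Tr.n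 (Tr.l (Item.pr 208 208)) (Tr.l (Item.no)))))) (Tr.n (Tr.n (Tr.n (Tr.n (Tr.l (Item.pr 13 11)) (Tr.l (Item.pr 269 267))) (Tr.n (Tr.l (Item.rl 0 1 1 0x2e028027004 (SL.c 4 0 0x3 SL.z) (SL.c 4 0x5a04f04a 0x1041d1 SL.z))) (Tr.l (Item.no)))) (Tr.n (Tr.n (Tr.l (Item.pr 76 80)) (Tr.l (Item.no))) (Tr.n (Tr.l (Item.pr 208 197)) (Tr.l (Item.no))))) (Tr.n (Tr.n (Tr.n (Tr.l (Item.pr 33 11)) (Tr.l (Item.no))) (Tr.n (Tr.l (Item.rl 99 2 4 0x3c02a02d03d04101b (SL.c 352 0 0 (SL.c 6 0x5804e 0xff11c SL.z)) SL.z)) (Tr.l (Item.no)))) (Tr.n (Tr.n (Tr.l (Item.rl 1 2 2 0x4102b02a03602201d (SL.c 224 0x65 0x331a7 (SL.c 222 0x60 0x8411c SL.z)) (SL.c 222 0 0x1081f6 SL.z))) (Tr.l (Item.no))) (Tr.n (Tr.l (Item.pr 238 239)) (Tr.l (Item.no))))))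
def FIH_2 : Tr Item := Tr.n (Tr.n (Tr.n (Tr.n (Tr.n (Tr.l (Item.df)) (Tr.l (Item.pr 255 246))) (Tr.n (Tr.l (Item.rl 1 2 0 0x30005 (SL.c 0 0 0 (SL.c 4 0x5105b 0x2518a SL.z)) (SL.c 0 0x43033 0x10f SL.z))) (Tr.l (Item.no)))) (Tr.n (Tr.n (Tr.l (Item.pr 34 12)) (Tr.l (Item.no))) (Tr.n (Tr.l (Item.rl 0 1 1 0x3e03403403b007 (SL.c 6 0 0x11a SL.z) (SL.c 6 0x5a04d 0x9d1f5 SL.z))) (Tr.l (Item.no))))) (Tr.n (Tr.n (Tr.n (Tr.l (Item.pr 18 12)) (Tr.l (Item.no))) (Tr.n (Tr.l (Item.pr 149 152)) (Tr.l (Item.no)))) (Tr.n (Tr.n (Tr.l (Item.pr 95 96)) (Tr.l (Item.no))) (Tr.n (Tr.l (Item.pr 210 221)) (Tr.l (Item.no)))))) (Tr.n (Tr.n (Tr.n (Tr.n (Tr.l (Item.pr 14 11)) (Tr.l (Item.pr 271 267))) (Tr.n (Tr.l (Item.rl 0 1 1 0x2e02802d029004 (SL.c 4 0 0x11a SL.z) (SL.c 4 0x5805404d 0xb01e6 SL.z)))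 (Tr.l (Item.no)))) (Tr.n (Tr.n (Tr.l (Item.pr 76 79)) (Tr.l (Item.no))) (Tr.n (Tr.l (Item.pr 200 204)) (Tr.l (Item.no))))) (Tr.n (Tr.n (Tr.n (Tr.l (Item.pr 34 11)) (Tr.l (Item.no))) (Tr.n (Tr.l (Item.pr 151 160)) (Tr.l (Item.no)))) (Tr.n (Tr.n (Tr.l (Item.rl 1 1 2 0x3b03602503703500c (SL.c 218 0x5e 0x10611d SL.z) (SL.c 218 0 0x4a18d (SL.c 220 0x5e 0xcc13f SL.z)))) (Tr.l (Item.no))) (Tr.n (Tr.l (Item.pr 236 240)) (Tr.l (Item.no))))))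
def FIH_3 : Tr Item := Tr.n (Tr.n (Tr.n (Tr.n (Tr.n (Tr.l (Item.df)) (Tr.l (Item.pr 236 258))) (Tr.n (Tr.l (Item.rl 99 2 3 0x2203202d02d031004 (SL.c 260 0 0 (SL.c 4 0x4905804e 0x2119d SL.z)) SL.z)) (Tr.l (Item.no)))) (Tr.n (Tr.n (Tr.l (Item.pr 35 12)) (Tr.l (Item.no))) (Tr.n (Tr.l (Item.rl 99 2 5 0 (SL.c 9 0 0 (SL.c 8 0xa0 0x3400f SL.z)) SL.z)) (Tr.l (Item.no))))) (Tr.n (Tr.n (Tr.n (Tr.l (Item.pr 19 12)) (Tr.l (Item.no))) (Tr.n (Tr.l (Item.rl 0 1 1 0x3702b02f006 (SL.c 4 0 0x119 SL.z) (SL.c 6 0x4f 0xb91c1 SL.z))) (Tr.l (Item.no)))) (Tr.n (Tr.n (Tr.l (Item.pr 94 93)) (Tr.l (Item.no))) (Tr.n (Tr.l (Item.pr 222 209)) (Tr.l (Item.no)))))) (Tr.n (Tr.n (Tr.n (Tr.n (Tr.l (Item.pr 15 11)) (Tr.l (Item.pr 273 270))) (Tr.n (Tr.l (Item.rl 0 1 1 0x3803f03c022031006 (SL.c 4 0 0x20146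 SL.z) (SL.c 4 0x5904c04a 0xe9129 SL.z))) (Tr.l (Item.no)))) (Tr.n (Tr.n (Tr.l (Item.pr 74 76)) (Tr.l (Item.no))) (Tr.n (Tr.l (Item.pr 206 210)) (Tr.l (Item.no))))) (Tr.n (Tr.n (Tr.n (Tr.l (Item.pr 35 11)) (Tr.l (Item.no))) (Tr.n (Tr.l (Item.pr 173 171)) (Tr.l (Item.no)))) (Tr.n (Tr.n (Tr.l (Item.rl 1 3 2 0x2d03202d02202d021 (SL.c 216 0x5e 0x2319b (SL.c 226 0x5e 0xa5142 (SL.c 216 0x5f 0x321b0 SL.z))) SL.z)) (Tr.l (Item.no))) (Tr.n (Tr.l (Item.pr 242 241)) (Tr.l (Item.no))))))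
def FIH_4 : Tr Item := Tr.n (Tr.n (Tr.n (Tr.n (Tr.n (Tr.l (Item.df)) (Tr.l (Item.pr 253 238))) (Tr.n (Tr.l (Item.pr 125 122)) (Tr.l (Item.no)))) (Tr.n (Tr.n (Tr.l (Item.pr 36 12)) (Tr.l (Item.no))) (Tr.n (Tr.l (Item.rl 99 2 5 0 (SL.c 9 0 0 (SL.c 8 0xb9 0x3b154 SL.z)) SL.z)) (Tr.l (Item.no))))) (Tr.n (Tr.n (Tr.n (Tr.l (Item.pr 20 12)) (Tr.l (Item.no))) (Tr.n (Tr.l (Item.rl 1 3 1 0x2a03803e03a02403e004 (SL.c 4 0 0x146 (SL.c 290 0x83 0xaa1ad (SL.c 326 0x83 0x9e159 SL.z))) SL.z)) (Tr.l (Item.no)))) (Tr.n (Tr.n (Tr.l (Item.pr 98 96)) (Tr.l (Item.no))) (Tr.n (Tr.l (Item.pr 226 195)) (Tr.l (Item.no)))))) (Tr.n (Tr.n (Tr.n (Tr.n (Tr.l (Item.pr 16 11)) (Tr.l (Item.pr 267 271))) (Tr.n (Tr.l (Item.rl 99 2 4 0 (SL.c 7 0 0 (SL.c 6 0x5604c04d05604a 0x7212e SL.z)) SL.z)) (Tr.l (Item.no))))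 (Tr.n (Tr.n (Tr.l (Item.pr 82 80)) (Tr.l (Item.no))) (Tr.n (Tr.l (Item.pr 206 203)) (Tr.l (Item.no))))) (Tr.n (Tr.n (Tr.n (Tr.l (Item.pr 36 11)) (Tr.l (Item.no))) (Tr.n (Tr.l (Item.pr 153 175)) (Tr.l (Item.no)))) (Tr.n (Tr.n (Tr.l (Item.rl 99 2 3 0 (SL.c 5 0 0 (SL.c 4 0x4c05905304f050 0x5e193 SL.z)) SL.z)) (Tr.l (Item.no))) (Tr.n (Tr.l (Item.pr 242 235)) (Tr.l (Item.no))))))
def FIH_5 : Tr Item := Tr.n (Tr.n (Tr.n (Tr.n (Tr.n (Tr.l (Item.df)) (Tr.l (Item.pr 260 241))) (Tr.n (Tr.l (Item.pr 128 126)) (Tr.l (Item.no)))) (Tr.n (Tr.n (Tr.l (Item.pr 37 12)) (Tr.l (Item.no))) (Tr.n (Tr.l (Item.rl 99 2 5 0 (SL.c 9 0 0 (SL.c 8 0x980950b2 0x601ff SL.z)) SL.z)) (Tr.l (Item.no))))) (Tr.n (Tr.n (Tr.n (Tr.l (Item.pr 21 12)) (Tr.l (Item.no))) (Tr.n (Tr.l (Item.rl 99 2 4 0x3c03a03203902a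 (SL.c 328 0 0 (SL.c 6 0x49049 0x7b1df SL.z)) SL.z)) (Tr.l (Item.no)))) (Tr.n (Tr.n (Tr.l (Item.pr 99 94)) (Tr.l (Item.no))) (Tr.n (Tr.l (Item.pr 216 204)) (Tr.l (Item.no)))))) (Tr.n (Tr.n (Tr.n (Tr.n (Tr.l (Item.pr 13 12)) (Tr.l (Item.pr 276 270))) (Tr.n (Tr.l (Item.rl 99 2 4 0 (SL.c 7 0 0 (SL.c 6 0x4905505104b 0x4e1cf SL.z)) SL.z)) (Tr.l (Item.no)))) (Tr.n (Tr.n (Tr.l (Item.pr 77 84)) (Tr.l (Item.no))) (Tr.n (Tr.l (Item.pr 202 210)) (Tr.l (Item.no))))) (Tr.n (Tr.n (Tr.n (Tr.l (Item.pr 37 11)) (Tr.l (Item.no))) (Tr.n (Tr.l (Item.pr 156 162)) (Tr.l (Item.no)))) (Tr.n (Tr.n (Tr.l (Item.rl 99 2 3 0 (SL.c 5 0 0 (SL.c 4 0x5a04905a049 0xcd154 SL.z)) SL.z)) (Tr.l (Item.no))) (Tr.n (Tr.l (Item.pr 235 241)) (Tr.l (Item.no))))))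
def FIH_6 : Tr Item := Tr.n (Tr.n (Tr.n (Tr.n (Tr.n (Tr.l (Item.df)) (Tr.l (Item.pr 245 246))) (Tr.n (Tr.l (Item.pr 131 126)) (Tr.l (Item.no)))) (Tr.n (Tr.n (Tr.l (Item.pr 38 12)) (Tr.l (Item.no))) (Tr.n (Tr.l (Item.rl 99 2 5 0 (SL.c 9 0 0 (SL.c 8 0xbe0bc0a5 0x571c6 SL.z)) SL.z)) (Tr.l (Item.no))))) (Tr.n (Tr.n (Tr.n (Tr.l (Item.pr 22 12)) (Tr.l (Item.no))) (Tr.n (Tr.l (Item.pr 161 156)) (Tr.l (Item.no)))) (Tr.n (Tr.n (Tr.l (Item.pr 94 98)) (Tr.l (Item.no))) (Tr.n (Tr.l (Item.pr 222 223)) (Tr.l (Item.no)))))) (Tr.n (Tr.n (Tr.n (Tr.n (Tr.l (Item.pr 14 12)) (Tr.l (Item.pr 277 267))) (Tr.n (Tr.l (Item.rl 99 2 4 0 (SL.c 7 0 0 (SL.c 6 0x4d05a05504a 0x78163 SL.z)) SL.z)) (Tr.l (Item.no)))) (Tr.n (Tr.n (Tr.l (Item.pr 74 84)) (Tr.l (Item.no))) (Tr.n (Tr.l (Item.pr 208 203))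 (Tr.l (Item.no))))) (Tr.n (Tr.n (Tr.n (Tr.l (Item.pr 38 11)) (Tr.l (Item.no))) (Tr.n (Tr.l (Item.pr 175 155)) (Tr.l (Item.no)))) (Tr.n (Tr.n (Tr.l (Item.rl 99 2 3 0 (SL.c 5 0 0 (SL.c 4 0x5905704904f05704c 0x63151 SL.z)) SL.z)) (Tr.l (Item.no))) (Tr.n (Tr.l (Item.pr 240 236)) (Tr.l (Item.no))))))
def FIH_7 : Tr Item := Tr.n (Tr.n (Tr.n (Tr.n (Tr.n (Tr.l (Item.ini)) (Tr.l (Item.pr 243 255))) (Tr.n (Tr.l (Item.pr 125 131)) (Tr.l (Item.no)))) (Tr.n (Tr.n (Tr.l (Item.pr 39 12)) (Tr.l (Item.no))) (Tr.n (Tr.l (Item.rl 99 2 5 0 (SL.c 9 0 0 (SL.c 8 0xad09e 0x6311d SL.z)) SL.z)) (Tr.l (Item.no))))) (Tr.n (Tr.n (Tr.n (Tr.l (Item.pr 23 12)) (Tr.l (Item.no))) (Tr.n (Tr.l (Item.pr 153 165)) (Tr.l (Item.no)))) (Tr.n (Tr.n (Tr.l (Item.pr 102 101)) (Tr.l (Item.no))) (Tr.n (Tr.l (Item.pr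 225 215)) (Tr.l (Item.no)))))) (Tr.n (Tr.n (Tr.n (Tr.n (Tr.l (Item.pr 15 12)) (Tr.l (Item.pr 278 277))) (Tr.n (Tr.l (Item.rl 99 2 4 0 (SL.c 7 0 0 (SL.c 6 0x4904a05405a049 0x72139 SL.z)) SL.z)) (Tr.l (Item.no)))) (Tr.n (Tr.n (Tr.l (Item.pr 80 73)) (Tr.l (Item.no))) (Tr.n (Tr.l (Item.pr 211 213)) (Tr.l (Item.no))))) (Tr.n (Tr.n (Tr.n (Tr.l (Item.pr 39 11)) (Tr.l (Item.no))) (Tr.n (Tr.l (Item.pr 166 159)) (Tr.l (Item.no)))) (Tr.n (Tr.n (Tr.l (Item.rl 99 2 3 0 (SL.c 5 0 0 (SL.c 4 0x5b05604b05504c04d 0x5711b SL.z)) SL.z)) (Tr.l (Item.no))) (Tr.n (Tr.l (Item.pr 238 243)) (Tr.l (Item.no))))))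
def FIH_8 : Tr Item := Tr.n (Tr.n (Tr.n (Tr.n (Tr.n (Tr.l (Item.ini)) (Tr.l (Item.rl 1 2 3 0x37041035033022017 (SL.c 326 0x83 0x1021fc (SL.c 8 0 0x111166 SL.z)) (SL.c 500 0x83 0x10e157 SL.z)))) (Tr.n (Tr.l (Item.pr 132 122)) (Tr.l (Item.no)))) (Tr.n (Tr.n (Tr.l (Item.pr 40 12)) (Tr.l (Item.no))) (Tr.n (Tr.l (Item.rl 99 2 5 0 (SL.c 9 0 0 (SL.c 8 0xb10a90af 0x1d16c SL.z)) SL.z)) (Tr.l (Item.no))))) (Tr.n (Tr.n (Tr.n (Tr.l (Item.pr 24 12)) (Tr.l (Item.no))) (Tr.n (Tr.l (Item.pr 153 159)) (Tr.l (Item.no)))) (Tr.n (Tr.n (Tr.l (Item.pr 101 98)) (Tr.l (Item.no))) (Tr.n (Tr.l (Item.pr 208 223)) (Tr.l (Item.no)))))) (Tr.n (Tr.n (Tr.n (Tr.n (Tr.l (Item.pr 16 12)) (Tr.l (Item.pr 271 274))) (Tr.n (Tr.l (Item.rl 99 2 4 0 (SL.c 7 0 0 (SL.c 6 0x4a05b05b055051 0xc91a7 SL.z)) SL.z))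 (Tr.l (Item.no)))) (Tr.n (Tr.n (Tr.l (Item.pr 82 82)) (Tr.l (Item.no))) (Tr.n (Tr.l (Item.pr 208 202)) (Tr.l (Item.no))))) (Tr.n (Tr.n (Tr.n (Tr.l (Item.pr 40 11)) (Tr.l (Item.no))) (Tr.n (Tr.l (Item.pr 179 182)) (Tr.l (Item.no)))) (Tr.n (Tr.n (Tr.l (Item.pr 119 117)) (Tr.l (Item.no))) (Tr.n (Tr.l (Item.pr 237 244)) (Tr.l (Item.no))))))
def FIH_9 : Tr Item := Tr.n (Tr.n (Tr.n (Tr.n (Tr.n (Tr.l (Item.ini)) (Tr.l (Item.rl 0 1 3 0x2903a03403b02d009 (SL.c 500 0 0xd91c6 SL.z) (SL.c 500 0x76 0x331b9 SL.z)))) (Tr.n (Tr.l (Item.pr 131 127)) (Tr.l (Item.no)))) (Tr.n (Tr.n (Tr.l (Item.rl 99 2 1 0 (SL.c 1 0 0 (SL.c 0 0x3900b01903a040018 0xd21d7 SL.z)) SL.z)) (Tr.l (Item.no))) (Tr.n (Tr.l (Item.pr 199 198)) (Tr.l (Item.no))))) (Tr.n (Tr.n (Tr.n (Tr.l (Item.pr 25 11)) (Tr.l (Item.no)))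 (Tr.n (Tr.l (Item.pr 160 167)) (Tr.l (Item.no)))) (Tr.n (Tr.n (Tr.l (Item.pr 94 99)) (Tr.l (Item.no))) (Tr.n (Tr.l (Item.pr 203 215)) (Tr.l (Item.no)))))) (Tr.n (Tr.n (Tr.n (Tr.n (Tr.l (Item.pr 17 11)) (Tr.l (Item.rl 0 1 4 0x39035035030039004 (SL.c 10 0 0xa11c SL.z) (SL.c 12 0xba 0xe1123 SL.z)))) (Tr.n (Tr.l (Item.pr 150 152)) (Tr.l (Item.no)))) (Tr.n (Tr.n (Tr.l (Item.pr 80 83)) (Tr.l (Item.no))) (Tr.n (Tr.l (Item.rl 0 2 4 0x2a03503c03b00c (SL.c 388 0x94 0xe31a3 (SL.c 8 0 0xd51f7 SL.z)) SL.z)) (Tr.l (Item.no))))) (Tr.n (Tr.n (Tr.n (Tr.l (Item.pr 25 12)) (Tr.l (Item.no))) (Tr.n (Tr.l (Item.pr 151 149)) (Tr.l (Item.no)))) (Tr.n (Tr.n (Tr.l (Item.pr 116 116)) (Tr.l (Item.no))) (Tr.n (Tr.l (Item.pr 245 240)) (Tr.l (Item.no))))))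
def FIH_10 : Tr Item := Tr.n (Tr.n (Tr.n (Tr.n (Tr.n (Tr.l (Item.ini)) (Tr.l (Item.rl 1 1 3 0x2d02d024033026004 (SL.c 500 0 0xcb158 SL.z) (SL.c 500 0 0xf0132 (SL.c 292 0x81 0x551f6 SL.z))))) (Tr.n (Tr.l (Item.pr 117 122)) (Tr.l (Item.no)))) (Tr.n (Tr.n (Tr.l (Item.rl 99 2 1 0 (SL.c 1 0 0 (SL.c 0 0x1b016008 0xda1eb SL.z)) SL.z)) (Tr.l (Item.no))) (Tr.n (Tr.l (Item.pr 199 197)) (Tr.l (Item.no))))) (Tr.n (Tr.n (Tr.n (Tr.l (Item.pr 26 11)) (Tr.l (Item.no))) (Tr.n (Tr.l (Item.pr 160 154)) (Tr.l (Item.no)))) (Tr.n (Tr.n (Tr.l (Item.rl 0 1 1 0x2602f02d008 (SL.c 2 0 0x1 SL.z) (SL.c 2 0x4c05804b 0xcd1fa SL.z))) (Tr.l (Item.no))) (Tr.n (Tr.l (Item.pr 196 200)) (Tr.l (Item.no)))))) (Tr.n (Tr.n (Tr.n (Tr.n (Tr.l (Item.pr 18 11)) (Tr.l (Item.rl 0 1 4 0x2b03c03803a03d013 (SL.c 12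 0 0x124 SL.z) (SL.c 12 0x9e094 0x114132 SL.z)))) (Tr.n (Tr.l (Item.pr 150 151)) (Tr.l (Item.no)))) (Tr.n (Tr.n (Tr.l (Item.pr 79 84)) (Tr.l (Item.no))) (Tr.n (Tr.l (Item.rl 99 2 5 0x3c04102f032033009 (SL.c 434 0 0 (SL.c 8 0 0xff170 SL.z)) SL.z)) (Tr.l (Item.no))))) (Tr.n (Tr.n (Tr.n (Tr.l (Item.pr 26 12)) (Tr.l (Item.no))) (Tr.n (Tr.l (Item.pr 166 148)) (Tr.l (Item.no)))) (Tr.n (Tr.n (Tr.l (Item.pr 116 121)) (Tr.l (Item.no))) (Tr.n (Tr.l (Item.rl 1 1 1 0x2803502d03302201d (SL.c 4 0 0x27010 SL.z) (SL.c 10 0xa5 0xd51f4 (SL.c 6 0x5804a 0x116153 SL.z)))) (Tr.l (Item.no))))))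
def FIH_11 : Tr Item := Tr.n (Tr.n (Tr.n (Tr.n (Tr.n (Tr.l (Item.pr 9 8)) (Tr.l (Item.rl 99 2 7 0 (SL.c 13 0 0 (SL.c 12 0xbb0c109e0b8094 0x1e1d4 SL.z)) SL.z))) (Tr.n (Tr.l (Item.pr 137 132)) (Tr.l (Item.no)))) (Tr.n (Tr.n (Tr.l (Item.rl 99 2 1 0 (SL.c 1 0 0 (SL.c 0 0x17039030020 0xc518c SL.z)) SL.z)) (Tr.l (Item.no))) (Tr.n (Tr.l (Item.pr 199 200)) (Tr.l (Item.no))))) (Tr.n (Tr.n (Tr.n (Tr.l (Item.pr 27 11)) (Tr.l (Item.no))) (Tr.n (Tr.l (Item.pr 149 169)) (Tr.l (Item.no)))) (Tr.n (Tr.n (Tr.l (Item.rl 0 1 1 0x2e040008 (SL.c 2 0 0x2 SL.z) (SL.c 2 0x5a05304d 0x4d1aa SL.z))) (Tr.l (Item.no))) (Tr.n (Tr.l (Item.rl 99 2 6 0 (SL.c 11 0 0 (SL.c 10 0xbb0960be099094 0x48160 SL.z)) SL.z)) (Tr.l (Item.no)))))) (Tr.n (Tr.n (Tr.n (Tr.n (Tr.l (Item.pr 19 11)) (Tr.l (Item.rl 0 2 6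 0x3f02c02703c013 (SL.c 502 0xf0 0x6c189 (SL.c 562 0xed0fd 0x8318b SL.z)) SL.z))) (Tr.n (Tr.l (Item.pr 152 152)) (Tr.l (Item.no)))) (Tr.n (Tr.n (Tr.l (Item.pr 78 79)) (Tr.l (Item.no))) (Tr.n (Tr.l (Item.pr 211 218)) (Tr.l (Item.no))))) (Tr.n (Tr.n (Tr.n (Tr.l (Item.pr 27 12)) (Tr.l (Item.no))) (Tr.n (Tr.l (Item.pr 165 155)) (Tr.l (Item.no)))) (Tr.n (Tr.n (Tr.l (Item.pr 121 118)) (Tr.l (Item.no))) (Tr.n (Tr.l (Item.rl 1 2 3 0x2203703503100b (SL.c 326 0x83 0x731fa (SL.c 10 0xc0 0x3714e SL.z)) (SL.c 500 0 0x2b157 SL.z))) (Tr.l (Item.no))))))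
def FIH_12 : Tr Item := Tr.n (Tr.n (Tr.n (Tr.n (Tr.n (Tr.l (Item.pr 10 8)) (Tr.l (Item.rl 99 2 7 0 (SL.c 13 0 0 (SL.c 12 0xae09e09c 0x5d160 SL.z)) SL.z))) (Tr.n (Tr.l (Item.pr 137 124)) (Tr.l (Item.no)))) (Tr.n (Tr.n (Tr.l (Item.pr 74 73)) (Tr.l (Item.no))) (Tr.n (Tr.l (Item.pr 200 195)) (Tr.l (Item.no))))) (Tr.n (Tr.n (Tr.n (Tr.l (Item.pr 28 11)) (Tr.l (Item.no))) (Tr.n (Tr.l (Item.pr 169 170)) (Tr.l (Item.no)))) (Tr.n (Tr.n (Tr.l (Item.rl 0 1 1 0x2902a00f (SL.c 2 0 0x120 SL.z) (SL.c 2 0x4a04b04e 0x411b5 SL.z))) (Tr.l (Item.no))) (Tr.n (Tr.l (Item.rl 99 2 6 0 (SL.c 11 0 0 (SL.c 10 0xbe0990a5 0xfe154 SL.z)) SL.z)) (Tr.l (Item.no)))))) (Tr.n (Tr.n (Tr.n (Tr.n (Tr.l (Item.pr 20 11)) (Tr.l (Item.rl 0 1 6 0x3503b02a02f (SL.c 562 0x101 0x401f5 SL.z) (SL.c 567 0xeb 0x771ab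 SL.z)))) (Tr.n (Tr.l (Item.pr 148 155)) (Tr.l (Item.no)))) (Tr.n (Tr.n (Tr.l (Item.rl 0 1 0 0x30005 (SL.c 0 0 0 SL.z) (SL.c 0 0x3f03900c 0xd91b7 SL.z))) (Tr.l (Item.no))) (Tr.n (Tr.l (Item.pr 206 195)) (Tr.l (Item.no))))) (Tr.n (Tr.n (Tr.n (Tr.l (Item.pr 28 12)) (Tr.l (Item.no))) (Tr.n (Tr.l (Item.pr 157 160)) (Tr.l (Item.no)))) (Tr.n (Tr.n (Tr.l (Item.pr 117 118)) (Tr.l (Item.no))) (Tr.n (Tr.l (Item.rl 1 3 3 0x2803d029022036006 (SL.c 326 0x83 0x431ff (SL.c 388 0xad 0xe21ed (SL.c 10 0xae 0x841ab SL.z))) SL.z)) (Tr.l (Item.no))))))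
def FIH_13 : Tr Item := Tr.n (Tr.n (Tr.n (Tr.n (Tr.n (Tr.l (Item.pr 11 11)) (Tr.l (Item.rl 99 2 7 0 (SL.c 13 0 0 (SL.c 12 0x97097 0x6c131 SL.z)) SL.z))) (Tr.n (Tr.l (Item.pr 123 133)) (Tr.l (Item.no)))) (Tr.n (Tr.n (Tr.l (Item.pr 74 74)) (Tr.l (Item.no))) (Tr.n (Tr.l (Item.pr 198 196)) (Tr.l (Item.no))))) (Tr.n (Tr.n (Tr.n (Tr.l (Item.pr 29 11)) (Tr.l (Item.no))) (Tr.n (Tr.l (Item.pr 169 155)) (Tr.l (Item.no)))) (Tr.n (Tr.n (Tr.l (Item.rl 1 1 1 0x3b03c035032032005 (SL.c 2 0 0x193 SL.z) (SL.c 2 0x5b04d04b 0xef134 (SL.c 184 0x54 0xff18b SL.z)))) (Tr.l (Item.no))) (Tr.n (Tr.l (Item.rl 99 2 6 0 (SL.c 11 0 0 (SL.c 10 0xba0b1094 0x3e1ea SL.z)) SL.z)) (Tr.l (Item.no)))))) (Tr.n (Tr.n (Tr.n (Tr.n (Tr.l (Item.pr 21 11)) (Tr.l (Item.rl 0 1 6 0x3002903703201f (SL.c 529 0 0xf31a2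 SL.z) (SL.c 567 0xfd 0x5e161 SL.z)))) (Tr.n (Tr.l (Item.pr 149 153)) (Tr.l (Item.no)))) (Tr.n (Tr.n (Tr.l (Item.rl 99 2 2 0 (SL.c 3 0 0 (SL.c 2 0x4e05704a05b049 0xa0179 SL.z)) SL.z)) (Tr.l (Item.no))) (Tr.n (Tr.l (Item.pr 213 219)) (Tr.l (Item.no))))) (Tr.n (Tr.n (Tr.n (Tr.l (Item.pr 29 12)) (Tr.l (Item.no))) (Tr.n (Tr.l (Item.pr 161 159)) (Tr.l (Item.no)))) (Tr.n (Tr.n (Tr.l (Item.pr 119 123)) (Tr.l (Item.no))) (Tr.n (Tr.l (Item.rl 99 2 6 0x4003a04103a023 (SL.c 504 0 0 (SL.c 500 0x86 0xca203 SL.z)) SL.z)) (Tr.l (Item.no))))))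
def FIH_14 : Tr Item := Tr.n (Tr.n (Tr.n (Tr.n (Tr.n (Tr.l (Item.pr 12 11)) (Tr.l (Item.rl 99 2 7 0 (SL.c 13 0 0 (SL.c 12 0x9c0b1097 0x49194 SL.z)) SL.z))) (Tr.n (Tr.l (Item.rl 0 1 1 0x30005 (SL.c 2 0 0 SL.z) (SL.c 4 0x4a05b056 0xda1ba SL.z))) (Tr.l (Item.no)))) (Tr.n (Tr.n (Tr.l (Item.pr 75 77)) (Tr.l (Item.no))) (Tr.n (Tr.l (Item.pr 203 201)) (Tr.l (Item.no))))) (Tr.n (Tr.n (Tr.n (Tr.l (Item.pr 30 11)) (Tr.l (Item.no))) (Tr.n (Tr.l (Item.pr 172 166)) (Tr.l (Item.no)))) (Tr.n (Tr.n (Tr.l (Item.rl 1 1 1 0x30041031037040 (SL.c 2 0 0x36203 SL.z) (SL.c 2 0x4b058050 0xb9185 (SL.c 184 0x4c 0x4b134 SL.z)))) (Tr.l (Item.no))) (Tr.n (Tr.l (Item.rl 99 2 6 0 (SL.c 11 0 0 (SL.c 10 0x9b098 0x30001 SL.z)) SL.z)) (Tr.l (Item.no)))))) (Tr.n (Tr.n (Tr.n (Tr.n (Tr.l (Item.pr 22 11))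 (Tr.l (Item.rl 0 1 7 0x3e03403402b (SL.c 564 0x10e 0x3f16c SL.z) (SL.c 568 0 0x3316e SL.z)))) (Tr.n (Tr.l (Item.pr 155 149)) (Tr.l (Item.no)))) (Tr.n (Tr.n (Tr.l (Item.rl 99 2 2 0 (SL.c 3 0 0 (SL.c 2 0x4f04d05205105b049 0x5d13b SL.z)) SL.z)) (Tr.l (Item.no))) (Tr.n (Tr.l (Item.pr 211 201)) (Tr.l (Item.no))))) (Tr.n (Tr.n (Tr.n (Tr.l (Item.pr 30 12)) (Tr.l (Item.no))) (Tr.n (Tr.l (Item.pr 167 151)) (Tr.l (Item.no)))) (Tr.n (Tr.n (Tr.l (Item.pr 118 116)) (Tr.l (Item.no))) (Tr.n (Tr.l (Item.pr 247 245)) (Tr.l (Item.no))))))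
def FIH_15 : Tr Item := Tr.n (Tr.n (Tr.n (Tr.n (Tr.n (Tr.l (Item.pr 11 12)) (Tr.l (Item.pr 267 269))) (Tr.n (Tr.l (Item.rl 0 1 1 0x2e028037 (SL.c 2 0 0x3 SL.z) (SL.c 4 0x5304a04b 0x8a14c SL.z))) (Tr.l (Item.no)))) (Tr.n (Tr.n (Tr.l (Item.pr 76 78)) (Tr.l (Item.no))) (Tr.n (Tr.l (Item.pr 203 196)) (Tr.l (Item.no))))) (Tr.n (Tr.n (Tr.n (Tr.l (Item.pr 31 11)) (Tr.l (Item.no))) (Tr.n (Tr.l (Item.pr 167 158)) (Tr.l (Item.no)))) (Tr.n (Tr.n (Tr.l (Item.rl 1 2 1 0xc (SL.c 184 0x54049 0x4111c (SL.c 2 0x5905a 0xa21a4 SL.z)) (SL.c 2 0x5705a04d 0x331d3 SL.z))) (Tr.l (Item.no))) (Tr.n (Tr.l (Item.rl 99 2 6 0 (SL.c 11 0 0 (SL.c 10 0xac0a5094 0x941ea SL.z)) SL.z)) (Tr.l (Item.no)))))) (Tr.n (Tr.n (Tr.n (Tr.n (Tr.l (Item.pr 23 11)) (Tr.l (Item.rl 0 2 7 0x2302c02d040041014 (SL.c 566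 0 0x1171b7 (SL.c 567 0x105 0xb6201 SL.z)) SL.z))) (Tr.n (Tr.l (Item.pr 149 155)) (Tr.l (Item.no)))) (Tr.n (Tr.n (Tr.l (Item.rl 99 2 2 0 (SL.c 3 0 0 (SL.c 2 0x4f05305204a05b 0xbc00e SL.z)) SL.z)) (Tr.l (Item.no))) (Tr.n (Tr.l (Item.pr 207 197)) (Tr.l (Item.no))))) (Tr.n (Tr.n (Tr.n (Tr.l (Item.pr 31 12)) (Tr.l (Item.no))) (Tr.n (Tr.l (Item.pr 160 153)) (Tr.l (Item.no)))) (Tr.n (Tr.n (Tr.l (Item.pr 123 120)) (Tr.l (Item.no))) (Tr.n (Tr.l (Item.pr 240 249)) (Tr.l (Item.no))))))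
def FIH : Tr Item := Tr.n (Tr.n (Tr.n (Tr.n (FIH_0) (FIH_8)) (Tr.n (FIH_4) (FIH_12))) (Tr.n (Tr.n (FIH_2) (FIH_10)) (Tr.n (FIH_6) (FIH_14)))) (Tr.n (Tr.n (Tr.n (FIH_1) (FIH_9)) (Tr.n (FIH_5) (FIH_13))) (Tr.n (Tr.n (FIH_3) (FIH_11)) (Tr.n (FIH_7) (FIH_15))))
def relsH : List (List (ℕ × ℕ)) := [[(66, 67), (66, 67), (66, 67)], [(68, 69), (73, 72), (68, 69), (73, 72)]]
def krelH : List (ℕ × ℕ) := []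
def DCH : List Stage := [⟨0, [(0x1, 0x1), (0x2, 0x13301), (0x1, 0xa890c), (0x2, 0x6caca1ade5), (0x1, 0x9b546), (0x2, 0x204)]⟩, ⟨1, [(0x5, 0x2), (0x1d8, 0xadd22), (0xd31b0, 0x15)]⟩, ⟨2, [(0x14e, 0x3), (0xc714e, 0x263), (0xcb15a, 0x2c5b3), (0xd31b0, 0x5a8b1c3663)]⟩, ⟨3, [(0x8c190, 0x4), (0x4c1ff, 0x1e4), (0xcb15a, 0xa1acf)]⟩, ⟨4, [(0xcb15a, 0x165)]⟩]
def WVc1 : List (ℕ × ℕ) := [(76, 77), (76, 77), (86, 90), (77, 76), (77, 76), (75, 74)]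
def WSc1 : SL := (SL.c 1 0 0x3b14e (SL.c 7 0 0x1c0 (SL.c 9 0xda 0x8c127 (SL.c 8 0 0xa41ad (SL.c 6 0x49 0x5a12f (SL.c 0 0x3f036008 0 SL.z))))))
def WVc2 : List (ℕ × ℕ) := [(76, 77), (76, 77), (87, 91), (77, 76), (77, 76), (75, 74)]
def WSc2 : SL := (SL.c 1 0 0xbc149 (SL.c 7 0xab 0xc3188 (SL.c 9 0xe00dd 0x6b146 (SL.c 8 0 0xa41ad (SL.c 6 0x49 0x5a12f (SL.c 0 0x3f036008 0 SL.z))))))
def WVhh : List (ℕ × ℕ) := [(76, 77), (76, 77), (76, 77), (76, 77), (76, 77), (79, 78)]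
def WShh : SL := (SL.c 1 0 0x2a128 (SL.c 7 0xb10ab 0x72143 (SL.c 9 0xe00c70da 0x7f1f8 (SL.c 8 0 0xad150 (SL.c 6 0x5304d 0x61124 (SL.c 0 0x35024 0 SL.z))))))
def WVhg : List (ℕ × ℕ) := [(76, 77), (76, 77), (88, 92), (76, 77), (76, 77), (88, 92), (76, 77), (76, 77), (79, 78)]
def WShg : SL := (SL.c 1 0 0x45126 (SL.c 7 0xb1 0xbe1e4 (SL.c 9 0xc70da 0xba12c (SL.c 571 0 0x1011bf (SL.c 572 0 0x95168 (SL.c 570 0xda0db0c7 0x71139 (SL.c 8 0 0xad150 (SL.c 6 0x5304d 0x61124 (SL.c 0 0x35024 0 SL.z)))))))))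

end Cfsg.Agent.Lib.J4E
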