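import Cfsg.Agent.Lib.J4Gen
import Cfsg.Agent.Lib.J4DatH

set_option autoImplicit false
set_option linter.all false
set_option maxRecDepth 100000
set_option exponentiation.threshold 100000

namespace Cfsg.Agent.Lib.J4E

theorem lH0 : chkL (LI LTH) (fun c => WTH.get c) 24 4 512 = true := by decide +kernel
theorem lH1 : chkL (LI LTH) (fun c => WTH.get c) 24 516 512 = true := by decide +kernel
theorem lH2 : chkL (LI LTH) (fun c => WTH.get c) 24 1028 512 = true := by decide +kernel
theorem lH3 : chkL (LI LTH) (fun c => WTH.get c) 24 1540 512 = true := by decide +kernel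
theorem lH4 : chkL (LI LTH) (fun c => WTH.get c) 24 2052 512 = true := by decide +kernel
theorem lH5 : chkL (LI LTH) (fun c => WTH.get c) 24 2564 512 = true := by decide +kernel
theorem lH6 : chkL (LI LTH) (fun c => WTH.get c) 24 3076 512 = true := by decide +kernel
theorem lH7 : chkL (LI LTH) (fun c => WTH.get c) 24 3588 508 = true := by decide +kernel
theorem insH : Ins LTH WTH FTH 520 where
  e4 := by decide +kernel
  cl := by
    intro c h4 hc
    have h : c < 516 ∨ (516 ≤ c ∧ c < 1028) ∨ (1028 ≤ c ∧ c < 1540) ∨ (1540 ≤ c ∧ c < 2052) ∨ (2052 ≤ c ∧ c < 2564) ∨ (2564 ≤ c ∧ c < 3076) ∨ (3076 ≤ c ∧ c < 3588) ∨ 3588 ≤ c := by omega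
    rcases h with h | h | h | h | h | h | h | h
    · exact chkL_spec lH0 c h4 (by omega)
    · exact chkL_spec lH1 c (by omega) (by omega)
    · exact chkL_spec lH2 c (by omega) (by omega)
    · exact chkL_spec lH3 c (by omega) (by omega)
    · exact chkL_spec lH4 c (by omega) (by omega)
    · exact chkL_spec lH5 c (by omega) (by omega)
    · exact chkL_spec lH6 c (by omega) (by omega)
    · exact chkL_spec lH7 c (by omega) (by omega)
  eu := by decide +kernel
  cd := by decide +kernel
  dn := by norm_num
  fc := by decide +kernel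
theorem dcH : chain (fun w => ap (fun c => LI LTH (dlI 520 c)) 24 w) (fun _ => true) 24 [] DCH = some 64512 := by decide +kernel
theorem hvH : chkVs (LI LTH) base7 relsH = true := by decide +kernel
theorem hkvH : chkV (LI LTH) base7 krelH = true := by decide +kernel
theorem dfH : defOk FTH 7 = true := by decide +kernel
theorem wv_c1 : chkV (LI LTH) base7 WVc1 = true := by decide +kernel
theorem ww_c1 : isR0 (bwd (LI LTH) (dlI 520) FTH base7 288 WVc1 WSc1 0 EX.nil) = true := by decide +kernel
theorem wv_c2 : chkV (LI LTH) base7 WVc2 = true := by decide +kernel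
theorem ww_c2 : isR0 (bwd (LI LTH) (dlI 520) FTH base7 288 WVc2 WSc2 0 EX.nil) = true := by decide +kernel
theorem wv_hh : chkV (LI LTH) base7 WVhh = true := by decide +kernel
theorem ww_hh : isR0 (bwd (LI LTH) (dlI 520) FTH base7 288 WVhh WShh 0 EX.nil) = true := by decide +kernel
theorem wv_hg : chkV (LI LTH) base7 WVhg = true := by decide +kernel
theorem ww_hg : isR0 (bwd (LI LTH) (dlI 520) FTH base7 288 WVhg WShg 0 EX.nil) = true := by decide +kernel

end Cfsg.Agent.Lib.J4E
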