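import Cfsg.Agent.Lib.J4Cmn
import Cfsg.Agent.Lib.J4ChkH0
import Cfsg.Agent.Lib.J4LetH

/-!
# Relations between the involution `hh` and `P`
-/

set_option autoImplicit false
set_option linter.all false
set_option maxRecDepth 100000

namespace Cfsg.Agent.Lib.J4E

open Cfsg.Spor Cfsg.Agent.Lib.J4Main Cfsg.Agent.Lib.J4RhoHom Cfsg.Agent.Lib.J4HRel

theorem hchkH : ∀ k < 288, ∃ It, chk1 (LI LTH) (dlI 520) FTH base7 relsH 7 krelH 0 0 k (FTH.get k) It = true := by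
  intro k hk
  by_cases h0 : k < 100
  · exact chkR_spec kH0 k (by omega) (by omega)
  by_cases h1 : k < 200
  · exact chkR_spec kH1 k (by omega) (by omega)
  · exact chkR_spec kH2 k (by omega) (by omega)

theorem rcH : RelC LTH WTH where
  x94 := by decide +kernel
  x95 := by decide +kernel
  x67 := by decide +kernel
  x68 := by decide +kernel
  x72 := by decide +kernel
  pr := by decide +kernel

/-- closed walks -/
theorem walkH (vs : List (ℕ × ℕ)) (t : SL) (hvs : chkV (LI LTH) base7 vs = true)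
    (h : isR0 (bwd (LI LTH) (dlI 520) FTH base7 288 vs t 0 EX.nil) = true) : opG psi (X 2) (xv bP (fun c => WTH.get c)) vs ∈ PP := by
  apply mem_of_fix PP
  rw [← Op_eq]
  refine insH.walk Pg_le hvH hkvH dfH hchkH (AK psi PP) (TK (X 2) PP) _ (TK_sq (X 2) PP t_sq) (TK_comm psi (X 2) PP (t94 insH rcH))
    (TK_comm psi (X 2) PP (t95 insH rcH)) ?_ ?_ (AK_y0 psi PP psi_mem) vs t hvs h
  · intro a ha
    have e : relsH = [[(66, 67), (66, 67), (66, 67)], [(68, 69), (73, 72), (68, 69), (73, 72)]] := rfl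
    rw [e] at ha
    simp only [List.mem_cons, List.not_mem_nil, or_false] at ha
    rcases ha with rfl | rfl
    · exact Op_one psi (X 2) PP _ (op1 insH rcH)
    · exact Op_one psi (X 2) PP _ (op2 insH rcH)
  · rfl

theorem y74 : chkX WTH 74 lw = true := by decide +kernel
theorem y75 : chkX WTH 75 lwi = true := by decide +kernel
theorem y76 : chkX WTH 76 (lw ++ ([1] ++ lwi)) = true := by decide +kernel
theorem y77 : chkX WTH 77 (lw ++ ([3] ++ lwi)) = true := by decide +kernel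
theorem y79 : chkX WTH 79 ([1] ++ lwi) = true := by decide +kernel
theorem y86 : chkX WTH 86 ((lw ++ [3]) ++ (lc1 ++ ([1] ++ lwi))) = true := by decide +kernel
theorem y87 : chkX WTH 87 ((lw ++ [3]) ++ (lc2 ++ ([1] ++ lwi))) = true := by decide +kernel
theorem y88 : chkX WTH 88 (lw ++ (lgt ++ ([1] ++ lwi))) = true := by decide +kernel

/-- the letters -/
theorem p1J : pJ [1] = X 1 := by show X 1 * 1 = X 1; rw [mul_one]
theorem p3J : pJ [3] = (X 1)⁻¹ := by show (X 1)⁻¹ * 1 = (X 1)⁻¹; rw [mul_one]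

theorem z75 : psi (xv bP (fun c => WTH.get c) 75) = WW⁻¹ := by rw [insH.psi_letter 75 _ y75, pJ_lwi]
theorem z76 : psi (xv bP (fun c => WTH.get c) 76) = WW * X 1 * WW⁻¹ := by
  rw [insH.psi_letter 76 _ y76, pJ_append, pJ_append, pJ_lw, pJ_lwi, p1J, mul_assoc]
theorem z77 : psi (xv bP (fun c => WTH.get c) 77) = WW * (X 1)⁻¹ * WW⁻¹ := by
  rw [insH.psi_letter 77 _ y77, pJ_append, pJ_append, pJ_lw, pJ_lwi, p3J, mul_assoc]
theorem z79 : psi (xv bP (fun c => WTH.get c) 79) = X 1 * WW⁻¹ := by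
  rw [insH.psi_letter 79 _ y79, pJ_append, pJ_lwi, p1J]
theorem z86 : psi (xv bP (fun c => WTH.get c) 86) = WW * (X 1)⁻¹ * (pJ lc1 * (X 1 * WW⁻¹)) := by
  rw [insH.psi_letter 86 _ y86, pJ_append, pJ_append, pJ_append, pJ_append, pJ_lw, pJ_lwi, p3J, p1J]
theorem z87 : psi (xv bP (fun c => WTH.get c) 87) = WW * (X 1)⁻¹ * (pJ lc2 * (X 1 * WW⁻¹)) := by
  rw [insH.psi_letter 87 _ y87, pJ_append, pJ_append, pJ_append, pJ_append, pJ_lw, pJ_lwi, p3J, p1J]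
theorem z88 : psi (xv bP (fun c => WTH.get c) 88) = WW * (pJ lgt * (X 1 * WW⁻¹)) := by
  rw [insH.psi_letter 88 _ y88, pJ_append, pJ_append, pJ_append, pJ_lw, pJ_lwi, p1J]

theorem o (a : ℕ) (ha : 0 < a) (ha' : a < 4096) : evw (xv bP (fun c => WTH.get c)) 24 a = xv bP (fun c => WTH.get c) a :=
  evw_one _ a 22 ha ha'

theorem WW_mem : WW ∈ PP := by
  rw [← pJ_lw, ← insH.psi_letter 74 _ y74]; exact psi_mem _

theorem mem_c1 : hh⁻¹ * pJ lc1 * hh ∈ PP := by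
  have h := walkH WVc1 WSc1 wv_c1 ww_c1
  have e : WVc1 = [(76, 77), (76, 77), (86, 90), (77, 76), (77, 76), (75, 74)] := rfl
  rw [e] at h
  simp only [opG] at h
  rw [o 75 (by norm_num) (by norm_num), o 76 (by norm_num) (by norm_num), o 77 (by norm_num) (by norm_num),
    o 86 (by norm_num) (by norm_num), z75, z76, z77, z86] at h
  have h2 := PP.mul_mem h WW_mem
  have e2 : hh⁻¹ * pJ lc1 * hh = ((X 1 * WW⁻¹ * (X 2)⁻¹ * WW) ^ 3)⁻¹ * pJ lc1 * (X 1 * WW⁻¹ * X 2 * WW) ^ 3 := by rw [t_inv]; rfl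
  rw [e2]
  convert h2 using 1
  have e3 : (X 1 * WW⁻¹ * (X 2)⁻¹ * WW) ^ 3 = (X 1 * WW⁻¹ * (X 2)⁻¹ * WW) * (X 1 * WW⁻¹ * (X 2)⁻¹ * WW) * (X 1 * WW⁻¹ * (X 2)⁻¹ * WW) := by
    rw [pow_succ, pow_two]
  have e4 : (X 1 * WW⁻¹ * X 2 * WW) ^ 3 = (X 1 * WW⁻¹ * X 2 * WW) * (X 1 * WW⁻¹ * X 2 * WW) * (X 1 * WW⁻¹ * X 2 * WW) := by
    rw [pow_succ, pow_two]
  rw [e3, e4]
  group

theorem mem_c2 : hh⁻¹ * pJ lc2 * hh ∈ PP := by
  have h := walkH WVc2 WSc2 wv_c2 ww_c2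
  have e : WVc2 = [(76, 77), (76, 77), (87, 91), (77, 76), (77, 76), (75, 74)] := rfl
  rw [e] at h
  simp only [opG] at h
  rw [o 75 (by norm_num) (by norm_num), o 76 (by norm_num) (by norm_num), o 77 (by norm_num) (by norm_num),
    o 87 (by norm_num) (by norm_num), z75, z76, z77, z87] at h
  have h2 := PP.mul_mem h WW_mem
  have e2 : hh⁻¹ * pJ lc2 * hh = ((X 1 * WW⁻¹ * (X 2)⁻¹ * WW) ^ 3)⁻¹ * pJ lc2 * (X 1 * WW⁻¹ * X 2 * WW) ^ 3 := by rw [t_inv]; rfl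
  rw [e2]
  convert h2 using 1
  have e3 : (X 1 * WW⁻¹ * (X 2)⁻¹ * WW) ^ 3 = (X 1 * WW⁻¹ * (X 2)⁻¹ * WW) * (X 1 * WW⁻¹ * (X 2)⁻¹ * WW) * (X 1 * WW⁻¹ * (X 2)⁻¹ * WW) := by
    rw [pow_succ, pow_two]
  have e4 : (X 1 * WW⁻¹ * X 2 * WW) ^ 3 = (X 1 * WW⁻¹ * X 2 * WW) * (X 1 * WW⁻¹ * X 2 * WW) * (X 1 * WW⁻¹ * X 2 * WW) := by
    rw [pow_succ, pow_two]
  rw [e3, e4]
  group

theorem mem_hh : hh * hh ∈ PP := by
  have h := walkH WVhh WShh wv_hh ww_hh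
  have e : WVhh = [(76, 77), (76, 77), (76, 77), (76, 77), (76, 77), (79, 78)] := rfl
  rw [e] at h
  simp only [opG] at h
  rw [o 76 (by norm_num) (by norm_num), o 79 (by norm_num) (by norm_num), z76, z79] at h
  have h2 := PP.mul_mem h WW_mem
  have e2 : hh = (X 1 * WW⁻¹ * X 2 * WW) * (X 1 * WW⁻¹ * X 2 * WW) * (X 1 * WW⁻¹ * X 2 * WW) := by
    show (X 1 * WW⁻¹ * X 2 * WW) ^ 3 = _
    rw [pow_succ, pow_two]
  rw [e2]
  convert h2 using 1
  group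

theorem mem_hg : hh * pJ lgt * hh * pJ lgt * hh ∈ PP := by
  have h := walkH WVhg WShg wv_hg ww_hg
  have e : WVhg = [(76, 77), (76, 77), (88, 92), (76, 77), (76, 77), (88, 92), (76, 77), (76, 77), (79, 78)] := rfl
  rw [e] at h
  simp only [opG] at h
  rw [o 76 (by norm_num) (by norm_num), o 79 (by norm_num) (by norm_num), o 88 (by norm_num) (by norm_num), z76, z79, z88] at h
  have h2 := PP.mul_mem h WW_mem
  have e2 : hh = (X 1 * WW⁻¹ * X 2 * WW) * (X 1 * WW⁻¹ * X 2 * WW) * (X 1 * WW⁻¹ * X 2 * WW) := by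
    show (X 1 * WW⁻¹ * X 2 * WW) ^ 3 = _
    rw [pow_succ, pow_two]
  rw [e2]
  convert h2 using 1
  group

end Cfsg.Agent.Lib.J4E
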