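import Cfsg.Agent.Lib.J4OutM
import Cfsg.Agent.Lib.J4OutH
import Cfsg.Agent.Lib.J4M24

/-!
# J4: the structure
-/

set_option autoImplicit false
set_option linter.all false

namespace Cfsg.Agent.Lib.J4E

open Cfsg.Spor Cfsg.Agent.Lib.J4Main

open Cfsg.Agent.Lib.J4HRel in
theorem hrels : pJ lc1 * hh = hh * pJ lc1 ∧ pJ lc2 * hh = hh * pJ lc2 ∧ hh * hh = 1 ∧ (hh * pJ lgt) ^ 3 = 1 :=
  J4HRel.rels J4M24.hP mem_c1 mem_c2 mem_hh mem_hg

theorem ppi : (PP.subgroupOf KK).index ≠ 0 ∧ (PP.subgroupOf KK).index ≤ 2048 :=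
  pp_index hrels.1 hrels.2.1 hrels.2.2.1 hrels.2.2.2

/-- the structure of J4 -/
noncomputable def hyp : J4Main.Hyp := J4VGlue.hyp J4M24.hP ppi.1 ppi.2 main_index.1 main_index.2

end Cfsg.Agent.Lib.J4E
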