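import Cfsg.Agent.Lib.J4OutM
import Cfsg.Agent.Lib.J4Final

/-!
# Representatives of the double cosets of `PP` and `KK` in J4
-/

set_option autoImplicit false
set_option linter.all false
set_option maxRecDepth 100000

namespace Cfsg.Agent.Lib.J4E

open Cfsg.Spor Cfsg.Agent.Lib.J4Main Cfsg.Agent.Lib.J4RhoHom

/-- the representatives -/
def yw (j : ℕ) : List ℕ := match j with
  | 1 => [2,1,0,3,0,3,0,3,0,1,0,3,0]
  | 2 => [2,1,0,3,0,3,0,3,0,1,0,3,0,2,1,0,3,0,3,0,3,0,1,0,3,0]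
  | 3 => [2,1,0,3,0,3,0,3,0,3,0,3,0,3,0,1,0,3,0,3,0,1,0,1,0,3,0,1,0,1,0,3,0,1,0,1,0,3,0,1,0,2,1,0,3,0,3,0,3,0,1,0,3,0,2,1,0,3,0,3,0,3,0,1,0,3,0]
  | 4 => [2,1,0,3,0,3,0,3,0,1,0,1,0,1,0,1,0,2,1,0,3,0,3,0,3,0,1,0,3,0,2,1,0,3,0,3,0,3,0,1,0,3,0]
  | 5 => [2,1,0,1,0,3,0,1,0,1,0,1,0,3,0,3,0,1,0,2,1,0,3,0,3,0,3,0,1,0,3,0,2,1,0,3,0,3,0,3,0,1,0,3,0]
  | 6 => [2,1,0,1,0,1,0,1,0,3,0,1,0,1,0,3,0,1,0,3,0,3,0,1,0,3,0,3,0,1,0,2,1,0,3,0,3,0,3,0,1,0,3,0,2,1,0,3,0,3,0,3,0,1,0,3,0]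
  | 7 => [2,1,0,3,0,3,0,3,0,1,0,3,0,3,0,1,0,3,0,2,1,0,3,0,3,0,3,0,1,0,3,0,2,1,0,3,0,3,0,3,0,1,0,3,0]
  | 8 => [2,3,0,1,0,1,0,1,0,1,0,1,0,1,0,3,0,1,0,1,0,3,0,1,0,3,0,3,0,1,0,3,0,3,0,1,0,2,1,0,3,0,3,0,3,0,1,0,3,0,2,1,0,3,0,3,0,3,0,1,0,3,0]
  | 9 => [2,1,0,3,0,3,0,3,0,1,0,1,0,1,0,3,0,3,0,1,0,3,0,3,0,1,0,1,0,3,0,1,0,1,0,3,0,1,0,1,0,2,1,0,3,0,3,0,3,0,3,0,3,0,3,0,1,0,3,0,3,0,1,0,1,0,3,0,1,0,1,0,3,0,1,0,1,0,3,0,1,0,2,1,0,3,0,3,0,3,0,1,0,3,0,2,1,0,3,0,3,0,3,0,1,0,3,0]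
  | 10 => [2,1,0,3,0,1,0,1,0,1,0,3,0,1,0,3,0,3,0,1,0,3,0,1,0,1,0,1,0,3,0,3,0,1,0,1,0,3,0,2,1,0,3,0,3,0,3,0,3,0,3,0,3,0,1,0,3,0,3,0,1,0,1,0,3,0,1,0,1,0,3,0,1,0,1,0,3,0,1,0,2,1,0,3,0,3,0,3,0,1,0,3,0,2,1,0,3,0,3,0,3,0,1,0,3,0]
  | 11 => [2,1,0,3,0,3,0,1,0,3,0,1,0,1,0,1,0,3,0,3,0,1,0,1,0,3,0,1,0,1,0,3,0,1,0,1,0,3,0,1,0,2,1,0,3,0,3,0,3,0,3,0,3,0,3,0,1,0,3,0,3,0,1,0,1,0,3,0,1,0,1,0,3,0,1,0,1,0,3,0,1,0,2,1,0,3,0,3,0,3,0,1,0,3,0,2,1,0,3,0,3,0,3,0,1,0,3,0]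
  | 12 => [2,1,0,3,0,3,0,3,0,1,0,3,0,1,0,3,0,3,0,2,1,0,3,0,3,0,3,0,3,0,3,0,3,0,1,0,3,0,3,0,1,0,1,0,3,0,1,0,1,0,3,0,1,0,1,0,3,0,1,0,2,1,0,3,0,3,0,3,0,1,0,3,0,2,1,0,3,0,3,0,3,0,1,0,3,0]
  | 13 => [2,1,0,1,0,3,0,1,0,3,0,3,0,1,0,3,0,3,0,1,0,1,0,3,0,1,0,1,0,3,0,1,0,1,0,3,0,2,1,0,3,0,3,0,3,0,3,0,3,0,3,0,1,0,3,0,3,0,1,0,1,0,3,0,1,0,1,0,3,0,1,0,1,0,3,0,1,0,2,1,0,3,0,3,0,3,0,1,0,3,0,2,1,0,3,0,3,0,3,0,1,0,3,0]
  | 14 => [2,1,0,3,0,3,0,3,0,1,0,1,0,1,0,3,0,1,0,3,0,1,0,2,1,0,3,0,3,0,3,0,3,0,3,0,3,0,1,0,3,0,3,0,1,0,1,0,3,0,1,0,1,0,3,0,1,0,1,0,3,0,1,0,2,1,0,3,0,3,0,3,0,1,0,3,0,2,1,0,3,0,3,0,3,0,1,0,3,0]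
  | 15 => [2,3,0,1,0,1,0,1,0,3,0,3,0,2,1,0,1,0,1,0,1,0,3,0,1,0,1,0,3,0,1,0,3,0,3,0,1,0,3,0,3,0,1,0,2,1,0,3,0,3,0,3,0,1,0,3,0,2,1,0,3,0,3,0,3,0,1,0,3,0]
  | 16 => [2,1,0,3,0,3,0,3,0,3,0,1,0,1,0,1,0,1,0,3,0,2,1,0,1,0,1,0,1,0,3,0,1,0,1,0,3,0,1,0,3,0,3,0,1,0,3,0,3,0,1,0,2,1,0,3,0,3,0,3,0,1,0,3,0,2,1,0,3,0,3,0,3,0,1,0,3,0]
  | 17 => [2,1,0,1,0,1,0,1,0,3,0,3,0,3,0,3,0,3,0,3,0,2,1,0,3,0,3,0,3,0,3,0,3,0,3,0,1,0,3,0,3,0,1,0,1,0,3,0,1,0,1,0,3,0,1,0,1,0,3,0,1,0,2,1,0,3,0,3,0,3,0,1,0,3,0,2,1,0,3,0,3,0,3,0,1,0,3,0]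
  | 18 => [2,1,0,3,0,3,0,3,0,1,0,1,0,3,0,3,0,3,0,3,0,3,0,1,0,3,0,3,0,1,0,3,0,3,0,1,0,1,0,3,0,1,0,2,1,0,1,0,3,0,1,0,1,0,1,0,3,0,3,0,1,0,2,1,0,3,0,3,0,3,0,1,0,3,0,2,1,0,3,0,3,0,3,0,1,0,3,0]
  | 19 => [2,1,0,3,0,3,0,1,0,1,0,3,0,3,0,3,0,1,0,1,0,3,0,3,0,2,1,0,3,0,3,0,3,0,1,0,3,0,3,0,1,0,3,0,2,1,0,3,0,3,0,3,0,1,0,3,0,2,1,0,3,0,3,0,3,0,1,0,3,0]
  | _ => []

/-- the orders of the stabilizers -/
def st (j : ℕ) : ℕ := RRM.get j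

theorem st_val : st 0 = 244823040 ∧ st 1 = 64512 ∧ st 2 = 48 ∧ st 3 = 6 ∧ st 4 = 32 ∧ st 5 = 16 ∧ st 6 = 3 ∧ st 7 = 96 ∧ st 8 = 20 ∧ st 9 = 192 ∧ st 10 = 253 ∧ st 11 = 96 ∧ st 12 = 512 ∧ st 13 = 768 ∧ st 14 = 128 ∧ st 15 = 1152 ∧ st 16 = 4608 ∧ st 17 = 9216 ∧ st 18 = 21504 ∧ st 19 = 138240 := by
  refine ⟨?_, ?_, ?_, ?_, ?_, ?_, ?_, ?_, ?_, ?_, ?_, ?_, ?_, ?_, ?_, ?_, ?_, ?_, ?_, ?_⟩ <;> decide +kernel

theorem st_sum : ∑ j : Fin 20, 244823040 / st j = 173067389 := by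
  have h := sumM_eq 20
  rw [sM] at h
  exact h

/-- the points -/
noncomputable def cM (j : ℕ) : J4 ⧸ KK := cpt (xv bP (fun c => WTM.get c)) (AK psi KK) (TK (X 2) KK) ((1 : J4) : J4 ⧸ KK) FTM j

theorem hrelsM : ∀ a ∈ relsM, Op (xv bP (fun c => WTM.get c)) (AK psi KK) (TK (X 2) KK) a = 1 := by
  intro a ha
  have e : relsM = [[(66, 67), (66, 67), (66, 67)], [(68, 69), (73, 72), (68, 69), (73, 72)]] := rfl
  rw [e] at ha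
  simp only [List.mem_cons, List.not_mem_nil, or_false] at ha
  rcases ha with rfl | rfl
  · exact Op_one psi (X 2) KK _ (op1 insM rcM)
  · exact Op_one psi (X 2) KK _ (op2 insM rcM)

theorem factsM : ∀ k < 2316, Holds (xv bP (fun c => WTM.get c)) (AK psi KK) (TK (X 2) KK) cM (FTM.get k) :=
  insM.facts Pg_le hvM hkvM dfM hchkM (AK psi KK) (TK (X 2) KK) ((1 : J4) : J4 ⧸ KK)
    (TK_sq (X 2) KK t_sq) (TK_comm psi (X 2) KK (t94 insM rcM)) (TK_comm psi (X 2) KK (t95 insM rcM)) hrelsM krM (AK_y0 psi KK KK_psi)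

/-- check of an edge -/
def isE (F : Fact) (i h j a : ℕ) : Bool := match F with
  | Fact.e i' h' j' a' => (Nat.beq i i' && Nat.beq h h') && (Nat.beq j j' && Nat.beq a a')
  | _ => false

theorem isE_spec {F : Fact} {i h j a : ℕ} (hh : isE F i h j a = true) : F = Fact.e i h j a := by
  cases F with
  | z => simp [isE] at hh
  | s _ _ => simp [isE] at hh
  | e i' h' j' a' =>
    simp only [isE, Bool.and_eq_true] at hh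
    rw [Nat.eq_of_beq_eq_true hh.1.1, Nat.eq_of_beq_eq_true hh.1.2, Nat.eq_of_beq_eq_true hh.2.1, Nat.eq_of_beq_eq_true hh.2.2]

/-- expansion of a word -/
def chkXw (WT : Tr ℕ) (w : ℕ) (l : List ℕ) : Bool :=
  match expls (expl WT 12) (dgl 24 w) with
  | none => false
  | some l' => decide (l'.map nm = l) && l'.all (fun c => Nat.blt c 4)

theorem Ins.psi_word {LT WT : Tr ℕ} {FT : Tr Fact} {nD : ℕ} (I : Ins LT WT FT nD) (w : ℕ) (l : List ℕ) (h : chkXw WT w l = true) :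
    psi (evw (xv bP (fun c => WT.get c)) 24 w) = pJ l := by
  unfold chkXw at h
  cases he : expls (expl WT 12) (dgl 24 w) with
  | none => rw [he] at h; simp at h
  | some l' =>
    rw [he] at h
    simp only [Bool.and_eq_true, decide_eq_true_eq, List.all_eq_true] at h
    rw [evw_dgl, expls_spec (fun c l hl => I.expl_spec 12 c hl) _ he, psi_list l' (fun c hc => Nat.blt_eq.mp (h.2 c hc)), h.1]

theorem stepM (n i h : ℕ) (w : List ℕ) (hn : n < 2316) (hF : isE (FTM.get n) i h (n + 1) 0 = true) (hw : chkXw WTM h w = true) (g : J4)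
    (hi : cM i = ((g : J4) : J4 ⧸ KK)) : cM (n + 1) = ((X 2 * (pJ w * g) : J4) : J4 ⧸ KK) := by
  have h1 := factsM n hn
  rw [isE_spec hF] at h1
  have h2 : TK (X 2) KK (AK psi KK (evw (xv bP (fun c => WTM.get c)) 24 h) (cM i)) =
    AK psi KK (evw (xv bP (fun c => WTM.get c)) 24 0) (cM (n + 1)) := h1
  rw [xv0, map_one, Equiv.Perm.one_apply, hi] at h2
  rw [← h2]
  show X 2 • (psi (evw (xv bP (fun c => WTM.get c)) 24 h) • ((g : J4) : J4 ⧸ KK)) = _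
  rw [insM.psi_word h w hw]
  rfl

theorem y0_eq : cM 0 = ((pJ (yw 0) : J4) : J4 ⧸ KK) := by
  show cpt (xv bP (fun c => WTM.get c)) (AK psi KK) (TK (X 2) KK) ((1 : J4) : J4 ⧸ KK) FTM 0 = _
  rw [cpt]; rfl

theorem pJ_step (w l : List ℕ) : pJ (2 :: (w ++ l)) = X 2 * (pJ w * pJ l) := by
  rw [pJ_cons, pJ_append]; rfl

theorem y1_eq : cM 1 = ((pJ (yw 1) : J4) : J4 ⧸ KK) := by
  have h := stepM 0 0 0x30005 [1,0,3,0,3,0,3,0,1,0,3,0] (by norm_num) (by decide +kernel) (by decide +kernel) _ y0_eq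
  have e : yw 1 = 2 :: ([1,0,3,0,3,0,3,0,1,0,3,0] ++ yw 0) := rfl
  rw [e, pJ_step]; exact h

theorem y2_eq : cM 2 = ((pJ (yw 2) : J4) : J4 ⧸ KK) := by
  have h := stepM 1 1 0x30005 [1,0,3,0,3,0,3,0,1,0,3,0] (by norm_num) (by decide +kernel) (by decide +kernel) _ y1_eq
  have e : yw 2 = 2 :: ([1,0,3,0,3,0,3,0,1,0,3,0] ++ yw 1) := rfl
  rw [e, pJ_step]; exact h

theorem y3_eq : cM 3 = ((pJ (yw 3) : J4) : J4 ⧸ KK) := by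
  have h := stepM 2 2 0x4003d02602b [1,0,3,0,3,0,3,0,3,0,3,0,3,0,1,0,3,0,3,0,1,0,1,0,3,0,1,0,1,0,3,0,1,0,1,0,3,0,1,0] (by norm_num) (by decide +kernel) (by decide +kernel) _ y2_eq
  have e : yw 3 = 2 :: ([1,0,3,0,3,0,3,0,3,0,3,0,3,0,1,0,3,0,3,0,1,0,1,0,3,0,1,0,1,0,3,0,1,0,1,0,3,0,1,0] ++ yw 2) := rfl
  rw [e, pJ_step]; exact h

theorem y4_eq : cM 4 = ((pJ (yw 4) : J4) : J4 ⧸ KK) := by
  have h := stepM 3 2 0x3000a [1,0,3,0,3,0,3,0,1,0,1,0,1,0,1,0] (by norm_num) (by decide +kernel) (by decide +kernel) _ y2_eq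
  have e : yw 4 = 2 :: ([1,0,3,0,3,0,3,0,1,0,1,0,1,0,1,0] ++ yw 2) := rfl
  rw [e, pJ_step]; exact h

theorem y5_eq : cM 5 = ((pJ (yw 5) : J4) : J4 ⧸ KK) := by
  have h := stepM 4 2 0x26018 [1,0,1,0,3,0,1,0,1,0,1,0,3,0,3,0,1,0] (by norm_num) (by decide +kernel) (by decide +kernel) _ y2_eq
  have e : yw 5 = 2 :: ([1,0,1,0,3,0,1,0,1,0,1,0,3,0,3,0,1,0] ++ yw 2) := rfl
  rw [e, pJ_step]; exact h

theorem y6_eq : cM 6 = ((pJ (yw 6) : J4) : J4 ⧸ KK) := by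
  have h := stepM 5 2 0x3203602f [1,0,1,0,1,0,1,0,3,0,1,0,1,0,3,0,1,0,3,0,3,0,1,0,3,0,3,0,1,0] (by norm_num) (by decide +kernel) (by decide +kernel) _ y2_eq
  have e : yw 6 = 2 :: ([1,0,1,0,1,0,1,0,3,0,1,0,1,0,3,0,1,0,3,0,3,0,1,0,3,0,3,0,1,0] ++ yw 2) := rfl
  rw [e, pJ_step]; exact h

theorem y7_eq : cM 7 = ((pJ (yw 7) : J4) : J4 ⧸ KK) := by
  have h := stepM 6 2 0x3001d [1,0,3,0,3,0,3,0,1,0,3,0,3,0,1,0,3,0] (by norm_num) (by decide +kernel) (by decide +kernel) _ y2_eq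
  have e : yw 7 = 2 :: ([1,0,3,0,3,0,3,0,1,0,3,0,3,0,1,0,3,0] ++ yw 2) := rfl
  rw [e, pJ_step]; exact h

theorem y8_eq : cM 8 = ((pJ (yw 8) : J4) : J4 ⧸ KK) := by
  have h := stepM 7 2 0x2302602f00d [3,0,1,0,1,0,1,0,1,0,1,0,1,0,3,0,1,0,1,0,3,0,1,0,3,0,3,0,1,0,3,0,3,0,1,0] (by norm_num) (by decide +kernel) (by decide +kernel) _ y2_eq
  have e : yw 8 = 2 :: ([3,0,1,0,1,0,1,0,1,0,1,0,1,0,3,0,1,0,1,0,3,0,1,0,3,0,3,0,1,0,3,0,3,0,1,0] ++ yw 2) := rfl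
  rw [e, pJ_step]; exact h

theorem y9_eq : cM 9 = ((pJ (yw 9) : J4) : J4 ⧸ KK) := by
  have h := stepM 8 3 0x3002e035026 [1,0,3,0,3,0,3,0,1,0,1,0,1,0,3,0,3,0,1,0,3,0,3,0,1,0,1,0,3,0,1,0,1,0,3,0,1,0,1,0] (by norm_num) (by decide +kernel) (by decide +kernel) _ y3_eq
  have e : yw 9 = 2 :: ([1,0,3,0,3,0,3,0,1,0,1,0,1,0,3,0,3,0,1,0,3,0,3,0,1,0,1,0,3,0,1,0,1,0,3,0,1,0,1,0] ++ yw 3) := rfl
  rw [e, pJ_step]; exact h

theorem y10_eq : cM 10 = ((pJ (yw 10) : J4) : J4 ⧸ KK) := by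
  have h := stepM 9 3 0x2402f03301b [1,0,3,0,1,0,1,0,1,0,3,0,1,0,3,0,3,0,1,0,3,0,1,0,1,0,1,0,3,0,3,0,1,0,1,0,3,0] (by norm_num) (by decide +kernel) (by decide +kernel) _ y3_eq
  have e : yw 10 = 2 :: ([1,0,3,0,1,0,1,0,1,0,3,0,1,0,3,0,3,0,1,0,3,0,1,0,1,0,1,0,3,0,3,0,1,0,1,0,3,0] ++ yw 3) := rfl
  rw [e, pJ_step]; exact h

theorem y11_eq : cM 11 = ((pJ (yw 11) : J4) : J4 ⧸ KK) := by
  have h := stepM 10 3 0x3803a02602b [1,0,3,0,3,0,1,0,3,0,1,0,1,0,1,0,3,0,3,0,1,0,1,0,3,0,1,0,1,0,3,0,1,0,1,0,3,0,1,0] (by norm_num) (by decide +kernel) (by decide +kernel) _ y3_eq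
  have e : yw 11 = 2 :: ([1,0,3,0,3,0,1,0,3,0,1,0,1,0,1,0,3,0,3,0,1,0,1,0,3,0,1,0,1,0,3,0,1,0,1,0,3,0,1,0] ++ yw 3) := rfl
  rw [e, pJ_step]; exact h

theorem y12_eq : cM 12 = ((pJ (yw 12) : J4) : J4 ⧸ KK) := by
  have h := stepM 11 3 0x3001f [1,0,3,0,3,0,3,0,1,0,3,0,1,0,3,0,3,0] (by norm_num) (by decide +kernel) (by decide +kernel) _ y3_eq
  have e : yw 12 = 2 :: ([1,0,3,0,3,0,3,0,1,0,3,0,1,0,3,0,3,0] ++ yw 3) := rfl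
  rw [e, pJ_step]; exact h

theorem y13_eq : cM 13 = ((pJ (yw 13) : J4) : J4 ⧸ KK) := by
  have h := stepM 12 3 0x3602f03400e [1,0,1,0,3,0,1,0,3,0,3,0,1,0,3,0,3,0,1,0,1,0,3,0,1,0,1,0,3,0,1,0,1,0,3,0] (by norm_num) (by decide +kernel) (by decide +kernel) _ y3_eq
  have e : yw 13 = 2 :: ([1,0,1,0,3,0,1,0,3,0,3,0,1,0,3,0,3,0,1,0,1,0,3,0,1,0,1,0,3,0,1,0,1,0,3,0] ++ yw 3) := rfl
  rw [e, pJ_step]; exact h

theorem y14_eq : cM 14 = ((pJ (yw 14) : J4) : J4 ⧸ KK) := by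
  have h := stepM 13 3 0x30036004 [1,0,3,0,3,0,3,0,1,0,1,0,1,0,3,0,1,0,3,0,1,0] (by norm_num) (by decide +kernel) (by decide +kernel) _ y3_eq
  have e : yw 14 = 2 :: ([1,0,3,0,3,0,3,0,1,0,1,0,1,0,3,0,1,0,3,0,1,0] ++ yw 3) := rfl
  rw [e, pJ_step]; exact h

theorem y15_eq : cM 15 = ((pJ (yw 15) : J4) : J4 ⧸ KK) := by
  have h := stepM 14 6 0x33005 [3,0,1,0,1,0,1,0,3,0,3,0] (by norm_num) (by decide +kernel) (by decide +kernel) _ y6_eq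
  have e : yw 15 = 2 :: ([3,0,1,0,1,0,1,0,3,0,3,0] ++ yw 6) := rfl
  rw [e, pJ_step]; exact h

theorem y16_eq : cM 16 = ((pJ (yw 16) : J4) : J4 ⧸ KK) := by
  have h := stepM 15 6 0x40032 [1,0,3,0,3,0,3,0,3,0,1,0,1,0,1,0,1,0,3,0] (by norm_num) (by decide +kernel) (by decide +kernel) _ y6_eq
  have e : yw 16 = 2 :: ([1,0,3,0,3,0,3,0,3,0,1,0,1,0,1,0,1,0,3,0] ++ yw 6) := rfl
  rw [e, pJ_step]; exact h

theorem y17_eq : cM 17 = ((pJ (yw 17) : J4) : J4 ⧸ KK) := by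
  have h := stepM 16 3 0x32041 [1,0,1,0,1,0,1,0,3,0,3,0,3,0,3,0,3,0,3,0] (by norm_num) (by decide +kernel) (by decide +kernel) _ y3_eq
  have e : yw 17 = 2 :: ([1,0,1,0,1,0,1,0,3,0,3,0,3,0,3,0,3,0,3,0] ++ yw 3) := rfl
  rw [e, pJ_step]; exact h

theorem y18_eq : cM 18 = ((pJ (yw 18) : J4) : J4 ⧸ KK) := by
  have h := stepM 17 5 0x3004002f035004 [1,0,3,0,3,0,3,0,1,0,1,0,3,0,3,0,3,0,3,0,3,0,1,0,3,0,3,0,1,0,3,0,3,0,1,0,1,0,3,0,1,0] (by norm_num) (by decide +kernel) (by decide +kernel) _ y5_eq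
  have e : yw 18 = 2 :: ([1,0,3,0,3,0,3,0,1,0,1,0,3,0,3,0,3,0,3,0,3,0,1,0,3,0,3,0,1,0,3,0,3,0,1,0,1,0,3,0,1,0] ++ yw 5) := rfl
  rw [e, pJ_step]; exact h

theorem y19_eq : cM 19 = ((pJ (yw 19) : J4) : J4 ⧸ KK) := by
  have h := stepM 18 7 0x28029009 [1,0,3,0,3,0,1,0,1,0,3,0,3,0,3,0,1,0,1,0,3,0,3,0] (by norm_num) (by decide +kernel) (by decide +kernel) _ y7_eq
  have e : yw 19 = 2 :: ([1,0,3,0,3,0,1,0,1,0,3,0,3,0,3,0,1,0,1,0,3,0,3,0] ++ yw 7) := rfl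
  rw [e, pJ_step]; exact h

theorem cM_eq : ∀ j < 20, cM j = ((pJ (yw j) : J4) : J4 ⧸ KK) := by
  intro j hj
  interval_cases j
  · exact y0_eq
  · exact y1_eq
  · exact y2_eq
  · exact y3_eq
  · exact y4_eq
  · exact y5_eq
  · exact y6_eq
  · exact y7_eq
  · exact y8_eq
  · exact y9_eq
  · exact y10_eq
  · exact y11_eq
  · exact y12_eq
  · exact y13_eq
  · exact y14_eq
  · exact y15_eq
  · exact y16_eq
  · exact y17_eq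
  · exact y18_eq
  · exact y19_eq

theorem reachM : ∀ y : J4 ⧸ KK, ∃ (p : Pg) (j : ℕ), j < 20 ∧ y = AK psi KK p (cM j) := by
  have hf := (faith Pg_le).2
  have hT : TK (X 2) KK * TK (X 2) KK = 1 := TK_sq (X 2) KK t_sq
  have hcov : ∀ i < 20, ∀ q < 3795, Good (AK psi KK) (TK (X 2) KK) cM φ3 20 388 i q := fun i hi q hq =>
    cover_sound (φ := φ1) (φ2 := φ3) (L := LI LTM) (L3 := U3) (m := 24) (nU := 66) insM.hL insM.hL3 (by decide) hf insM.hFc factsM hT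
      (covM_all i hi) q hq
  have hst := insM.stab_mem φ3 388 64512 (stab3 Pg_le) DCM dcM
    (fixpt insM φ3 U3 3795 388 insM.hL3 94 (by norm_num) (by norm_num) g94M f94M (by norm_num))
    (fixpt insM φ3 U3 3795 388 insM.hL3 95 (by norm_num) (by norm_num) g95M f95M (by norm_num))
  have hB : ∀ g, φ3 g 388 = 388 → TK (X 2) KK * AK psi KK g = AK psi KK g * TK (X 2) KK := by
    intro g hg
    have hg' := hst g hg
    let K : Subgroup Pg :=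
      { carrier := {g | TK (X 2) KK * AK psi KK g = AK psi KK g * TK (X 2) KK}
        one_mem' := by simp
        mul_mem' := by
          intro a b ha hb
          show TK (X 2) KK * AK psi KK (a * b) = AK psi KK (a * b) * TK (X 2) KK
          rw [map_mul, ← mul_assoc, show TK (X 2) KK * AK psi KK a = AK psi KK a * TK (X 2) KK from ha, mul_assoc,
            show TK (X 2) KK * AK psi KK b = AK psi KK b * TK (X 2) KK from hb, mul_assoc]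
        inv_mem' := by
          intro a ha
          show TK (X 2) KK * AK psi KK a⁻¹ = AK psi KK a⁻¹ * TK (X 2) KK
          rw [map_inv]
          exact (Commute.inv_right (show Commute (TK (X 2) KK) (AK psi KK a) from ha)) }
    have hK : Subgroup.closure {xv bP (fun c => WTM.get c) 94, xv bP (fun c => WTM.get c) 95} ≤ K := by
      rw [Subgroup.closure_le]
      rintro z (rfl | rfl)
      · exact TK_comm psi (X 2) KK (t94 insM rcM)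
      · exact TK_comm psi (X 2) KK (t95 insM rcM)
    exact hK hg'
  have e0 : cM 0 = ((1 : J4) : J4 ⧸ KK) := by rw [y0_eq]; rfl
  refine fun y => act_trans psi (X 2) KK t_sq J4_gen {y | ∃ (p : Pg) (j : ℕ), j < 20 ∧ y = AK psi KK p (cM j)} ⟨1, 0, by norm_num, by
    rw [map_one, Equiv.Perm.one_apply, e0]⟩ ?_ ?_ y
  · rintro p y ⟨p', i, hi, rfl⟩
    exact ⟨p * p', i, hi, by rw [map_mul, Equiv.Perm.mul_apply]⟩
  · rintro y ⟨p, i, hi, rfl⟩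
    obtain ⟨g, a, j, hj, h1, q0, h2, s, h3, h4⟩ := hcov i hi (φ3 p⁻¹ 388) (supp3 _ _ (by norm_num))
    have h5 : φ3 (p * s * g⁻¹) 388 = 388 := by
      rw [map_mul, map_mul, Equiv.Perm.mul_apply, Equiv.Perm.mul_apply, map_inv]
      have : (φ3 g)⁻¹ 388 = q0 := by rw [Equiv.Perm.inv_eq_iff_eq, h2]
      rw [this, h4, map_inv]
      exact (φ3 p).apply_symm_apply _
    have h6 := hB _ h5
    refine ⟨p * s * g⁻¹ * a, j, hj, ?_⟩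
    have h7 : AK psi KK p (cM i) = AK psi KK (p * s * g⁻¹) (AK psi KK g (cM i)) := by
      rw [← Equiv.Perm.mul_apply, ← map_mul, inv_mul_cancel_right, map_mul, Equiv.Perm.mul_apply, h3]
    rw [h7, ← Equiv.Perm.mul_apply (TK (X 2) KK), h6, Equiv.Perm.mul_apply, h1, map_mul (AK psi KK) _ a, Equiv.Perm.mul_apply]

/-- the double cosets cover the group -/
theorem cov (a : J4) : ∃ j < 20, ∃ p ∈ PP, ∃ k ∈ KK, a = p * pJ (yw j) * k := by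
  obtain ⟨p, j, hj, h⟩ := reachM ((a : J4) : J4 ⧸ KK)
  rw [cM_eq j hj] at h
  have h2 : ((a : J4) : J4 ⧸ KK) = ((psi p * pJ (yw j) : J4) : J4 ⧸ KK) := h
  refine ⟨j, hj, psi p, psi_mem p, (psi p * pJ (yw j))⁻¹ * a, ?_, by group⟩
  exact QuotientGroup.eq.mp h2.symm

/-- stabilizers -/
noncomputable def SM (j : ℕ) : Subgroup Pg where
  carrier := {s | AK psi KK s (cM j) = cM j}
  one_mem' := by simp
  mul_mem' := by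
    intro a b ha hb
    show AK psi KK (a * b) (cM j) = cM j
    rw [map_mul, Equiv.Perm.mul_apply, show AK psi KK b (cM j) = cM j from hb, show AK psi KK a (cM j) = cM j from ha]
  inv_mem' := by
    intro a ha
    show AK psi KK a⁻¹ (cM j) = cM j
    rw [map_inv, Equiv.Perm.inv_eq_iff_eq]; exact (show AK psi KK a (cM j) = cM j from ha).symm

theorem SM_ge (j : ℕ) (hj : j < 20) : st j ≤ Nat.card (SM j) := by
  refine chain_ge (φ := φ1) (K := SM j) (el := fun w => evw (fun f => xv bP (fun c => WTM.get c) (FTM.get f).c) 24 w) (V := okS FTM 2316 j 24)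
    (E := apS (LI LTM) FTM) (m := 24) (fun w hw => ⟨okS_sound factsM 24 w hw, fun i hi => ?_⟩) (CHM.get j) (chkCh_spec chM j hj)
  exact ap_sound (xs := fun f => xv bP (fun c => WTM.get c) (FTM.get f).c) (L := fun f => LI LTM (FTM.get f).c)
    (fun f _ i hi => insM.hL _ (insM.hFc f) i hi) 24 w i hi

theorem psi_inj : Function.Injective psi := by
  have h : Function.Bijective (psi.codRestrict PP psi_mem) := by
    haveI : Finite PP := Nat.finite_of_card_ne_zero (by rw [hyp.card_PP]; norm_num)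
    rw [Nat.bijective_iff_surjective_and_card]
    refine ⟨?_, by rw [(faith Pg_le).1, hyp.card_PP]⟩
    rintro ⟨z, hz⟩
    rw [← psi_range] at hz
    obtain ⟨p, rfl⟩ := hz
    exact ⟨p, rfl⟩
  intro a b hab
  exact h.1 (Subtype.ext hab)

/-- lower bound for the stabilizers in `PP` -/
theorem stab (j : ℕ) (hj : j < 20) : st j ≤ Nat.card {p : PP // (pJ (yw j))⁻¹ * (p : J4) * pJ (yw j) ∈ KK} := by
  haveI : Finite PP := Nat.finite_of_card_ne_zero (by rw [hyp.card_PP]; norm_num)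
  refine le_trans (SM_ge j hj) ?_
  have hm : ∀ s : SM j, (pJ (yw j))⁻¹ * psi s * pJ (yw j) ∈ KK := by
    intro s
    have h : AK psi KK s (cM j) = cM j := s.2
    rw [cM_eq j hj] at h
    have h2 : ((psi s * pJ (yw j) : J4) : J4 ⧸ KK) = ((pJ (yw j) : J4) : J4 ⧸ KK) := h
    have h3 := QuotientGroup.eq.mp h2.symm
    rwa [← mul_assoc] at h3
  refine Nat.card_le_card_of_injective (fun s : SM j => (⟨⟨psi s, psi_mem _⟩, hm s⟩ : {p : PP // (pJ (yw j))⁻¹ * (p : J4) * pJ (yw j) ∈ KK})) ?_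
  intro a b hab
  simp only [Subtype.mk.injEq] at hab
  exact Subtype.ext (psi_inj hab)

/-- upper bound for the orbits of `PP` -/
theorem orbit_le (j : ℕ) (hj : j < 20) : Nat.card (MulAction.orbit PP ((pJ (yw j) : J4) : J4 ⧸ KK)) ≤ 244823040 / st j := by
  have h0 : 0 < st j := rM j hj
  have h1 : (SM j).index ≤ 244823040 / st j := by
    rw [Nat.le_div_iff_mul_le h0]
    calc (SM j).index * st j ≤ (SM j).index * Nat.card (SM j) := Nat.mul_le_mul_left _ (SM_ge j hj)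
      _ = 244823040 := by rw [Subgroup.index_mul_card, (faith Pg_le).1]
  refine le_trans ?_ h1
  haveI : Finite (Pg ⧸ SM j) := inferInstance
  show _ ≤ Nat.card (Pg ⧸ SM j)
  have key : ∀ a b : Pg, QuotientGroup.leftRel (SM j) a b → AK psi KK a (cM j) = AK psi KK b (cM j) := by
    intro a b hab
    rw [QuotientGroup.leftRel_apply] at hab
    have h1 : AK psi KK (a⁻¹ * b) (cM j) = cM j := hab
    rw [map_mul, map_inv, Equiv.Perm.mul_apply, Equiv.Perm.inv_eq_iff_eq] at h1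
    exact h1.symm
  have hmem : ∀ p : Pg, AK psi KK p (cM j) ∈ MulAction.orbit PP ((pJ (yw j) : J4) : J4 ⧸ KK) := by
    intro p
    rw [cM_eq j hj]
    exact ⟨⟨psi p, psi_mem p⟩, rfl⟩
  refine Nat.card_le_card_of_surjective (fun z : Pg ⧸ SM j => Quotient.liftOn' z
    (fun p => (⟨AK psi KK p (cM j), hmem p⟩ : MulAction.orbit PP ((pJ (yw j) : J4) : J4 ⧸ KK))) (fun a b hab => Subtype.ext (key a b hab))) ?_
  rintro ⟨y, ⟨z, hz⟩, rfl⟩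
  rw [← psi_range] at hz
  obtain ⟨p, rfl⟩ := hz
  refine ⟨(p : Pg ⧸ SM j), Subtype.ext ?_⟩
  show AK psi KK p (cM j) = _
  rw [cM_eq j hj]
  rfl

end Cfsg.Agent.Lib.J4E
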