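import Cfsg.Agent.Lib.H72J4W
import Cfsg.Agent.Lib.H72J4O
import Cfsg.Agent.Lib.J4Cov

/-!
# All automorphisms of the presented fourth Janko group are inner (helper72)
-/

set_option autoImplicit false
set_option linter.all false
set_option maxRecDepth 100000

namespace Cfsg.Agent.Lib.H72J4Z

open Cfsg.Spor Cfsg.Agent.Lib.J4RhoHom Cfsg.Agent.Lib.J4Words Cfsg.Agent.Lib.J4Main Cfsg.Agent.Lib.ChainCard
open Cfsg.Agent.Lib.J4E (hyp yw st st_val st_sum cov orbit_le)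
open Cfsg.Agent.Lib.H72J4A Cfsg.Agent.Lib.H72J4W
open Cfsg.Agent.Lib.H72J4P (bb bb_mem factA factB pJ_mem mem0 mem1 okP)

noncomputable abbrev D : Hyp := hyp

instance : Finite J4 := D.finite

theorem PP_le : PP ≤ KK := by
  apply (Subgroup.closure_le _).2
  rintro y (rfl | rfl)
  · exact Subgroup.subset_closure (by simp)
  · exact Subgroup.subset_closure (by simp)

theorem kv (k : J4) (hk : k ∈ KK) : ∃ x ∈ D.V, ∃ p ∈ PP, k = x * p := by
  have h1 : KK ≤ D.V ⊔ PP := by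
    apply (Subgroup.closure_le _).2
    rintro y (rfl | rfl | rfl)
    · exact Subgroup.mem_sup_right mem0
    · exact Subgroup.mem_sup_right mem1
    · exact Subgroup.mem_sup_left D.hhV
  obtain ⟨v, hv, p, hp, h⟩ := D.data.mem_VP (n := k) (h1 hk)
  exact ⟨v, hv, p, hp, h.symm⟩

theorem vp (x : J4) (hx : x ∈ D.V) (hp : x ∈ PP) : x = 1 := by
  have h1 := D.data.card_V_P
  have h2 : x ∈ D.data.V ⊓ D.data.P := ⟨hx, hp⟩
  rw [h1] at h2
  exact h2

theorem nV (p : J4) (hp : p ∈ PP) (x : J4) (hx : x ∈ D.V) : p * x * p⁻¹ ∈ D.V :=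
  (Subgroup.mem_normalizer_iff.1 (D.hV hp) x).1 hx

theorem conj_mem {l : List ℕ} (hl : okP l = true) (h1 : ok l = true) (h2 : ok (iw l) = true) :
    pJ (iw l ++ lh ++ l) ∈ D.V := by
  rw [pJ_append, pJ_append, D.pJ_iw h1 h2, ← D.hh_pJ]
  have h3 := nV (pJ l)⁻¹ (PP.inv_mem (pJ_mem hl)) hh D.hhV
  rwa [inv_inv] at h3

theorem vV : vJ ∈ D.V := by
  show pJ (iw q1 ++ lh ++ q1 ++ (iw q2 ++ lh ++ q2)) ∈ D.V
  rw [pJ_append]
  exact D.V.mul_mem (conj_mem (by decide +kernel) (by decide +kernel) (by decide +kernel))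
    (conj_mem (by decide +kernel) (by decide +kernel) (by decide +kernel))

theorem ghne : gg * hh ≠ hh * gg := by
  intro h
  apply Hyp.gh D
  rw [← map_mul, ← map_mul, h]

theorem Cg (x : J4) (hx : x ∈ D.V) (h : x * gg = gg * x) : x = 1 := by
  obtain ⟨b, hb, hb2⟩ := fix_23 (H72J4W.g23 D) (D.hV gg_mem) D.card_V D.hhV ghne
  have hb0 : b = 0 := by omega
  rw [hb0, pow_zero] at hb
  have h1 : x ∈ (D.V ⊓ Subgroup.centralizer {gg} : Subgroup J4) := ⟨hx, Subgroup.mem_centralizer_singleton_iff.2 (by first | exact h | exact h.symm)⟩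
  rw [Subgroup.card_eq_one.1 hb] at h1
  exact h1

theorem two_11 : ∀ k, k ≤ 11 → 2 ^ 11 ≡ 2 ^ k [MOD 11] → k = 1 ∨ k = 11 := by decide

theorem card_C : Nat.card (D.V ⊓ Subgroup.centralizer {bb} : Subgroup J4) = 2 := by
  haveI : Fact (Nat.Prime 11) := ⟨by norm_num⟩
  have h1 := fix_mod (q := 11) D.V bb (b11 D) (D.hV bb_mem)
  have h2 : Nat.card (D.V ⊓ Subgroup.centralizer {bb} : Subgroup J4) ∣ Nat.card D.V := Subgroup.card_dvd_of_le inf_le_left
  rw [D.card_V] at h1 h2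
  obtain ⟨b, hb, hb2⟩ := (Nat.dvd_prime_pow Nat.prime_two).1 h2
  rw [hb2] at h1
  rcases two_11 b hb h1 with h3 | h3
  · rw [hb2, h3, pow_one]
  · exfalso
    have h4 : (D.V ⊓ Subgroup.centralizer {bb} : Subgroup J4) = D.V := by
      apply Subgroup.eq_of_le_of_card_ge inf_le_left
      rw [D.card_V, hb2, h3]
    have h5 : hh ∈ (D.V ⊓ Subgroup.centralizer {bb} : Subgroup J4) := by rw [h4]; exact D.hhV
    have h6 := Subgroup.mem_centralizer_singleton_iff.1 h5.2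
    first | exact bh D h6 | exact bh D h6.symm

theorem Cb (x : J4) (hx : x ∈ D.V) (h : x * bb = bb * x) : x = 1 ∨ x = vJ := by
  obtain ⟨a, b, hab, hu⟩ := Nat.card_eq_two_iff.1 card_C
  have hm : ∀ z : J4, z ∈ D.V → z * bb = bb * z → z = a ∨ z = b := by
    intro z hz hzb
    have h1 : (⟨z, ⟨hz, Subgroup.mem_centralizer_singleton_iff.2 (by first | exact hzb | exact hzb.symm)⟩⟩ :
        (D.V ⊓ Subgroup.centralizer {bb} : Subgroup J4)) ∈ ({a, b} : Set _) := by rw [hu]; trivial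
    rcases h1 with h1 | h1
    · exact Or.inl (congrArg Subtype.val h1)
    · exact Or.inr (congrArg Subtype.val h1)
  have h1 := hm 1 D.V.one_mem (by rw [one_mul, mul_one])
  have h2 := hm vJ vV (vb D)
  have h3 := hm x hx h
  have h4 := v1
  rcases h1 with h1 | h1 <;> rcases h2 with h2 | h2 <;> rcases h3 with h3 | h3
  · exact absurd (h2.trans h1.symm) h4
  · exact absurd (h2.trans h1.symm) h4
  · exact Or.inl (h3.trans h1.symm)
  · exact Or.inr (h3.trans h2.symm)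
  · exact Or.inr (h3.trans h2.symm)
  · exact Or.inl (h3.trans h1.symm)
  · exact absurd (h2.trans h1.symm) h4
  · exact absurd (h2.trans h1.symm) h4

theorem ginv : gg⁻¹ = gg ^ 22 := by
  rw [inv_eq_iff_mul_eq_one, ← pow_succ']
  exact H72J4W.g23 D

theorem ig : iJ * gg = gg⁻¹ * iJ := by rw [ginv]; exact ig' D

theorem iinv : iJ⁻¹ = iJ := inv_eq_of_mul_eq_one_left (i2 D)

theorem igi : iJ⁻¹ * gg * iJ ∈ KK := by
  rw [iinv, ig, mul_assoc, i2 D, mul_one]
  exact KK.inv_mem (PP_le gg_mem)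

theorem h11 : ∀ j < 20, ∀ m : ℕ, 244823040 / st j * m = 244823040 → (11 ∣ m ∨ 23 ∣ m) → j = 0 ∨ j = 10 := by
  obtain ⟨s0, s1, s2, s3, s4, s5, s6, s7, s8, s9, s10, s11, s12, s13, s14, s15, s16, s17, s18, s19⟩ := st_val
  intro j hj m hm hd
  interval_cases j
  · exact Or.inl rfl
  · rw [s1] at hm; omega
  · rw [s2] at hm; omega
  · rw [s3] at hm; omega
  · rw [s4] at hm; omega
  · rw [s5] at hm; omega
  · rw [s6] at hm; omega
  · rw [s7] at hm; omega
  · rw [s8] at hm; omega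
  · rw [s9] at hm; omega
  · exact Or.inr rfl
  · rw [s11] at hm; omega
  · rw [s12] at hm; omega
  · rw [s13] at hm; omega
  · rw [s14] at hm; omega
  · rw [s15] at hm; omega
  · rw [s16] at hm; omega
  · rw [s17] at hm; omega
  · rw [s18] at hm; omega
  · rw [s19] at hm; omega

theorem h10 : 244823040 / st 10 = 967680 := by
  rw [st_val.2.2.2.2.2.2.2.2.2.2.1]

theorem orbs : (∀ a : J4, a ∉ KK → ∀ r ∈ PP, r ≠ 1 → (r ^ 11 = 1 ∨ r ^ 23 = 1) → a⁻¹ * r * a ∈ KK →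
    ∃ p ∈ PP, ∃ k ∈ KK, a = p * iJ * k) ∧ Nat.card (St PP KK iJ) = 253 := H72J4O.main (P := PP) (K := KK) (fun j => pJ (yw j)) (fun j => 244823040 / st j) D.card_PP D.card_KK.2 rfl PP_le
  cov orbit_le st_sum h11 h10 (i_nmem D) gg_mem g1 (H72J4W.g23 D) igi

theorem data : Dat J4 PP D.V KK gg bb iJ vJ qJ fJ where
  kv := kv
  vp := vp
  nV := nV
  VK := D.hVK
  PK := PP_le
  gP := gg_mem
  bP := bb_mem
  vV := vV
  v1 := v1
  A := factA
  B := factB
  Cg := Cg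
  Cb := Cb
  g23 := H72J4W.g23 D
  g1 := g1
  b11 := b11 D
  b1 := b1
  i2 := i2 D
  bg := bg D
  ig := ig
  ib := ib D
  vb := vb D
  orb := orbs.1
  card := orbs.2
  ivi := ivi_nmem D
  qb := qb D
  qv := qv D
  fb := fb D
  fi := fi D
  fg := fg D
  fg' := fg'
  gen := gen D
  cardG := ⟨3772850915046850560, by rw [D.card_J4], by norm_num⟩

theorem card_out : Nat.card (Cfsg.Out Cfsg.Spor.J4) = 1 := data.card_out

end Cfsg.Agent.Lib.H72J4Z
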