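import Mathlib
import Cfsg.Agent.S0223
import Cfsg.Agent.S1225
import Cfsg.Agent.Lib.Cores2
import Cfsg.Agent.Lib.HallPi
import Cfsg.Agent.Lib.OmegaCent
import Cfsg.Agent.Lib.QDFusion3
import Cfsg.Agent.Lib.CoprimeGen
import Cfsg.Agent.Lib.HallConverse
import Cfsg.Agent.S0205

/-!
# Groups with abelian Sylow `2`-subgroups and a `2`-complement are solvable
-/

set_option autoImplicit false

namespace Cfsg.Agent.Lib.H72OddComp

open Subgroup Cfsg.Agent.Lib

universe u

/-- `A` is a subgroup of odd order and `2`-power index. -/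
def Comp {G : Type*} [Group G] (A : Subgroup G) : Prop := Odd (Nat.card A) ∧ ∃ k : ℕ, A.index = 2 ^ k

/-- all `2`-subgroups are abelian. -/
def Ab2 (G : Type*) [Group G] : Prop := ∀ P : Subgroup G, IsPGroup 2 P → ∀ a ∈ P, ∀ b ∈ P, a * b = b * a

variable {G : Type u} [Group G]

theorem Ab2.sub (h : Ab2 G) (M : Subgroup G) : Ab2 M := by
  intro P hP a ha b hb
  apply Subtype.ext
  exact h (P.map M.subtype) (hP.map _) a ⟨a, ha, rfl⟩ b ⟨b, hb, rfl⟩

theorem Ab2.quot [Finite G] (h : Ab2 G) (M : Subgroup G) [M.Normal] : Ab2 (G ⧸ M) := by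
  have : Fact (Nat.Prime 2) := ⟨Nat.prime_two⟩
  intro P hP a ha b hb
  obtain ⟨T, hT⟩ := hP.exists_le_sylow
  obtain ⟨S⟩ : Nonempty (Sylow 2 G) := inferInstance
  obtain ⟨g, hg⟩ := MulAction.exists_smul_eq (G ⧸ M) (S.mapSurjective (QuotientGroup.mk'_surjective M)) T
  obtain ⟨x, rfl⟩ := QuotientGroup.mk'_surjective M g
  have key : ∀ c ∈ P, ∃ s ∈ (S : Subgroup G), c = QuotientGroup.mk' M (x * s * x⁻¹) := by
    intro c hc
    have h1 : c ∈ (T : Subgroup (G ⧸ M)) := hT hc
    rw [← hg, Sylow.coe_subgroup_smul, Subgroup.mem_pointwise_smul_iff_inv_smul_mem, ← map_inv, MulAut.smul_def,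
      MulAut.conj_apply, inv_inv] at h1
    obtain ⟨s, hs, hs2⟩ := h1
    refine ⟨s, hs, ?_⟩
    rw [map_mul, map_mul, map_inv, hs2]
    group
  obtain ⟨s, hs, rfl⟩ := key a ha
  obtain ⟨t, ht, rfl⟩ := key b hb
  rw [← map_mul, ← map_mul]
  congr 1
  have := h S S.isPGroup' s hs t ht
  calc x * s * x⁻¹ * (x * t * x⁻¹) = x * (s * t) * x⁻¹ := by group
    _ = x * t * x⁻¹ * (x * s * x⁻¹) := by rw [this]; group

theorem odd_of_dvd {a b : ℕ} (h : a ∣ b) (hb : Odd b) : Odd a := Odd.of_dvd_nat hb h

theorem Comp.normal [Finite G] {A : Subgroup G} (h : Comp A) (M : Subgroup G) [M.Normal] : Comp (A.subgroupOf M) := by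
  obtain ⟨k, hk⟩ := h.2
  refine ⟨odd_of_dvd ?_ h.1, ?_⟩
  · have h1 : Nat.card (A.subgroupOf M) = Nat.card ((A.subgroupOf M).map M.subtype) :=
      (Subgroup.card_map_of_injective M.subtype_injective).symm
    rw [h1, Subgroup.subgroupOf_map_subtype]
    exact Subgroup.card_dvd_of_le inf_le_left
  · have h1 := OmegaCent.relIndex_dvd_index_normal A M
    rw [hk] at h1
    obtain ⟨j, -, hj⟩ := (Nat.dvd_prime_pow Nat.prime_two).1 h1
    exact ⟨j, hj⟩

theorem Comp.quot [Finite G] {A : Subgroup G} (h : Comp A) (M : Subgroup G) [M.Normal] :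
    Comp (A.map (QuotientGroup.mk' M)) := by
  obtain ⟨k, hk⟩ := h.2
  refine ⟨odd_of_dvd (Subgroup.card_map_dvd A _) h.1, ?_⟩
  have h1 := Subgroup.index_map_dvd A (QuotientGroup.mk'_surjective M)
  rw [hk] at h1
  obtain ⟨j, -, hj⟩ := (Nat.dvd_prime_pow Nat.prime_two).1 h1
  exact ⟨j, hj⟩

/-- the index of `A` is the order of a Sylow `2`-subgroup. -/
theorem Comp.index_eq [Finite G] {A : Subgroup G} (h : Comp A) (S : Sylow 2 G) : A.index = Nat.card (S : Subgroup G) := by
  have : Fact (Nat.Prime 2) := ⟨Nat.prime_two⟩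
  obtain ⟨k, hk⟩ := h.2
  obtain ⟨m, hm⟩ := IsPGroup.iff_card.1 S.isPGroup'
  have h1 := A.card_mul_index
  have h2 := (S : Subgroup G).card_mul_index
  rw [hm] at h2 ⊢
  rw [hk] at h1 ⊢
  have hodd1 := h.1
  have hodd2 : Odd (S : Subgroup G).index := by
    rw [← Nat.not_even_iff_odd, even_iff_two_dvd]
    exact S.not_dvd_index
  have e : Nat.card A * 2 ^ k = 2 ^ m * (S : Subgroup G).index := by rw [h1, h2]
  have d1 : 2 ^ k ∣ 2 ^ m := by
    have : 2 ^ k ∣ 2 ^ m * (S : Subgroup G).index := Dvd.intro_left _ e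
    exact ((Nat.coprime_two_left.2 hodd2).pow_left k).dvd_of_dvd_mul_right this
  have d2 : 2 ^ m ∣ 2 ^ k := by
    have : 2 ^ m ∣ Nat.card A * 2 ^ k := Dvd.intro _ e.symm
    exact ((Nat.coprime_two_left.2 hodd1).pow_left m).dvd_of_dvd_mul_left this
  exact Nat.dvd_antisymm d1 d2

theorem Comp.inf_sylow [Finite G] {A : Subgroup G} (h : Comp A) {P : Subgroup G} (hP : IsPGroup 2 P) : A ⊓ P = ⊥ := by
  have : Fact (Nat.Prime 2) := ⟨Nat.prime_two⟩
  obtain ⟨m, hm⟩ := IsPGroup.iff_card.1 hP
  apply Subgroup.inf_eq_bot_of_coprime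
  rw [hm]
  exact (Nat.coprime_two_right.2 h.1).pow_right m

/-- over a Sylow `2`-subgroup. -/
theorem Comp.over [Finite G] {A : Subgroup G} (h : Comp A) (S : Sylow 2 G) {K : Subgroup G} (hS : (S : Subgroup G) ≤ K) :
    Comp (A.subgroupOf K) := by
  have hidx : A.relIndex K = A.index := by
    apply le_antisymm
    · have := Subgroup.relIndex_le_of_le_right (H := A) (le_top : K ≤ ⊤) (by
        rw [relIndex_top_right]; exact Subgroup.index_ne_zero_of_finite)
      rwa [relIndex_top_right] at this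
    · have h1 := Subgroup.relIndex_le_of_le_right (H := A) hS (Subgroup.index_ne_zero_of_finite)
      refine le_trans ?_ h1
      rw [h.index_eq S, ← Subgroup.inf_relIndex_right, h.inf_sylow S.isPGroup', Subgroup.relIndex_bot_left]
  refine ⟨odd_of_dvd ?_ h.1, ?_⟩
  · have h1 : Nat.card (A.subgroupOf K) = Nat.card ((A.subgroupOf K).map K.subtype) :=
      (Subgroup.card_map_of_injective K.subtype_injective).symm
    rw [h1, Subgroup.subgroupOf_map_subtype]
    exact Subgroup.card_dvd_of_le inf_le_left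
  · obtain ⟨k, hk⟩ := h.2
    exact ⟨k, by rw [← hk]; exact hidx⟩

/-- a normal subgroup of odd order is in every `2`-complement. -/
theorem Comp.odd_normal_le [Finite G] {A : Subgroup G} (h : Comp A) {X : Subgroup G} [X.Normal] (hX : Odd (Nat.card X)) :
    X ≤ A := by
  obtain ⟨k, hk⟩ := h.2
  have h1 : Odd (Nat.card (A ⊔ X : Subgroup G)) := by
    have h2 := Subgroup.relIndex_sup_right (H := A) (K := X)
    have h3 : X.relIndex (A ⊔ X) ∣ Nat.card A := by
      rw [h2]; exact relIndex_dvd_card X A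
    have h4 : Nat.card X * X.relIndex (A ⊔ X) = Nat.card (A ⊔ X : Subgroup G) := by
      have := Subgroup.relIndex_mul_relIndex ⊥ X (A ⊔ X) bot_le le_sup_right
      rwa [relIndex_bot_left, relIndex_bot_left] at this
    rw [← h4]
    exact hX.mul (odd_of_dvd h3 h.1)
  have h2 : A.relIndex (A ⊔ X) = 1 := by
    have h3 : A.relIndex (A ⊔ X) ∣ 2 ^ k := by
      rw [← hk]; exact relIndex_dvd_index_of_le le_sup_left
    obtain ⟨j, -, hj⟩ := (Nat.dvd_prime_pow Nat.prime_two).1 h3
    have h4 : Odd (A.relIndex (A ⊔ X)) := odd_of_dvd (relIndex_dvd_card _ _) h1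
    rcases Nat.eq_zero_or_pos j with h5 | h5
    · rw [hj, h5, pow_zero]
    · exfalso
      rw [hj] at h4
      have : Even (2 ^ j) := (Nat.even_pow.2 ⟨even_two, h5.ne'⟩)
      exact (Nat.not_even_iff_odd.2 h4) this
  rw [relIndex_eq_one] at h2
  exact le_sup_right.trans h2

theorem Comp.conj [Finite G] {A : Subgroup G} (h : Comp A) (g : G) : Comp (A.map (MulAut.conj g).toMonoidHom) := by
  refine ⟨?_, ?_⟩
  · rw [Subgroup.card_map_of_injective (MulAut.conj g).injective]
    exact h.1
  · obtain ⟨k, hk⟩ := h.2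
    exact ⟨k, by rw [← hk]; exact Subgroup.index_map_equiv _ (MulAut.conj g)⟩

/-- A subgroup of odd order normalized by a Sylow `2`-subgroup is in every `2`-complement. -/
theorem Comp.le_of_normalized [Finite G] {A : Subgroup G} (h : Comp A) (S : Sylow 2 G) {X : Subgroup G}
    (hX : Odd (Nat.card X)) (hS : (S : Subgroup G) ≤ normalizer (X : Set G)) : X ≤ A := by
  have h1 := h.over S hS
  have h2 : (X.subgroupOf (normalizer (X : Set G))).Normal := Subgroup.normal_in_normalizer
  have h3 : Odd (Nat.card (X.subgroupOf (normalizer (X : Set G)))) := by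
    have h4 : Nat.card (X.subgroupOf (normalizer (X : Set G))) = Nat.card ((X.subgroupOf (normalizer (X : Set G))).map (normalizer (X : Set G)).subtype) :=
      (Subgroup.card_map_of_injective (Subgroup.subtype_injective _)).symm
    rw [h4, Subgroup.subgroupOf_map_subtype, inf_eq_left.2 le_normalizer]
    exact hX
  have h4 := h1.odd_normal_le h3
  intro x hx
  have h5 := h4 (show (⟨x, le_normalizer hx⟩ : normalizer (X : Set G)) ∈ X.subgroupOf (normalizer (X : Set G)) from hx)
  exact h5

theorem isSolvable_of_comm' (h : ∀ a b : G, a * b = b * a) : Group.IsSolvable G := Group.isSolvable_of_comm h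

/-- **Theorem.** A finite group with abelian Sylow `2`-subgroups and a `2`-complement is solvable. -/
theorem solvable_aux (n : ℕ) : ∀ (G : Type u) [Group G] [Finite G], Nat.card G = n → ∀ A : Subgroup G, Comp A → Ab2 G →
    Group.IsSolvable G := by
  induction n using Nat.strong_induction_on with
  | _ n ih =>
  intro G _ _ hn A hA hab
  classical
  have hf2 : Fact (Nat.Prime 2) := ⟨Nat.prime_two⟩
  by_contra hns
  have hsub : ∀ K : Subgroup G, K ≠ ⊤ → Comp (A.subgroupOf K) → Group.IsSolvable K := by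
    intro K hK hc
    refine ih (Nat.card K) ?_ K rfl _ hc (hab.sub K)
    rw [← hn]
    rw [← Subgroup.card_top (G := G)]
    exact Set.Finite.card_lt_card (Set.toFinite _) (SetLike.coe_ssubset_coe.2 (lt_of_le_of_ne le_top hK))
  have hsimple : ∀ M : Subgroup G, M.Normal → M = ⊥ ∨ M = ⊤ := by
    intro M hM
    by_contra hcon
    push Not at hcon
    have h1 : Group.IsSolvable M := hsub M hcon.2 (hA.normal M)
    have h2 : Group.IsSolvable (G ⧸ M) := by
      refine ih (Nat.card (G ⧸ M)) ?_ (G ⧸ M) rfl _ (hA.quot M) (hab.quot M)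
      rw [← hn, ← Subgroup.index_eq_card]
      have h3 := M.card_mul_index
      have h4 : 1 < Nat.card M := by
        rw [Subgroup.one_lt_card_iff_ne_bot]; exact hcon.1
      have h5 : 0 < M.index := Nat.pos_of_ne_zero Subgroup.index_ne_zero_of_finite
      rw [← h3]
      nlinarith
    exact hns (Group.isSolvable_of_ker_le_range M.subtype (QuotientGroup.mk' M) (by
      rw [QuotientGroup.ker_mk', range_subtype]))
  have hncomm : ∃ a b : G, a * b ≠ b * a := by
    by_contra hcon
    push Not at hcon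
    exact hns (isSolvable_of_comm' hcon)
  have hnodd : ¬ Odd (Nat.card G) := fun h => hns (S0205.result h)
  have hcent : center G = ⊥ := by
    rcases hsimple (center G) inferInstance with h | h
    · exact h
    · exfalso
      obtain ⟨a, b, hne⟩ := hncomm
      have : a ∈ center G := by rw [h]; exact mem_top a
      exact hne (mem_center_iff.1 this b).symm
  have hC : ∀ t : G, t ≠ 1 → centralizer ({t} : Set G) ≠ ⊤ := by
    intro t ht h
    apply ht
    have : t ∈ center G := by
      rw [mem_center_iff]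
      intro g
      have h1 : g ∈ centralizer ({t} : Set G) := by rw [h]; exact mem_top g
      exact mem_centralizer_singleton_iff.1 h1
    rwa [hcent, mem_bot] at this
  have hcore : A.normalCore = ⊥ := by
    rcases hsimple A.normalCore inferInstance with h | h
    · exact h
    · exfalso
      have : A = ⊤ := by
        rw [eq_top_iff, ← h]; exact A.normalCore_le
      apply hnodd
      have h1 := hA.1
      rwa [this, Subgroup.card_top] at h1
  obtain ⟨S⟩ : Nonempty (Sylow 2 G) := inferInstance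
  have hSab := hab S S.isPGroup'
  have hS1 : (S : Subgroup G) ≠ ⊥ := by
    intro h
    apply hnodd
    have h1 := hA.index_eq S
    rw [h, card_bot, index_eq_one] at h1
    have h2 := hA.1
    rwa [h1, Subgroup.card_top] at h2
  have hStop : (S : Subgroup G) ≠ ⊤ := by
    intro h
    obtain ⟨a, b, hne⟩ := hncomm
    exact hne (hSab a (by rw [h]; exact mem_top a) b (by rw [h]; exact mem_top b))
  have hSn : ¬ (S : Subgroup G).Normal := by
    intro h
    rcases hsimple _ h with h1 | h1
    · exact hS1 h1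
    · exact hStop h1
  set N := normalizer ((S : Subgroup G) : Set G) with hN
  have hSN : (S : Subgroup G) ≤ N := le_normalizer
  have hNtop : N ≠ ⊤ := by
    intro h
    exact hSn (normalizer_eq_top_iff.1 h)
  -- `2`-subgroups normalizing `S` are in `S`
  have habs : ∀ P : Subgroup G, IsPGroup 2 P → P ≤ N → P ≤ (S : Subgroup G) := by
    intro P hP hPN
    have h1 : IsPGroup 2 ((S : Subgroup G) ⊔ P : Subgroup G) := IsPGroup.to_sup_of_normal_left' S.isPGroup' hP hPN
    have h2 := S.is_maximal' h1 le_sup_left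
    rw [← h2]
    exact le_sup_right
  have hinvN : ∀ t ∈ N, orderOf t = 2 → t ∈ (S : Subgroup G) := by
    intro t ht h2
    have h1 : IsPGroup 2 (zpowers t) := by
      apply IsPGroup.of_card (n := 1)
      rw [Nat.card_zpowers, h2, pow_one]
    exact habs _ h1 (zpowers_le.2 ht) (mem_zpowers t)
  -- centralizers of involutions
  have hCN : ∀ t ∈ (S : Subgroup G), orderOf t = 2 → centralizer ({t} : Set G) ≤ N := by
    intro t ht h2
    set K := centralizer ({t} : Set G) with hK
    have hSK : (S : Subgroup G) ≤ K := by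
      intro s hs
      rw [hK, mem_centralizer_singleton_iff]
      exact hSab s hs t ht
    have ht1 : t ≠ 1 := by
      rintro rfl
      rw [orderOf_one] at h2
      norm_num at h2
    have hKtop : K ≠ ⊤ := hC t ht1
    have hKs : Group.IsSolvable K := hsub K hKtop (hA.over S hSK)
    have hcoreK : Cfsg.pPrimeCore 2 K = ⊥ := by
      set X := (Cfsg.pPrimeCore 2 K).map K.subtype with hX
      have hXodd : Odd (Nat.card X) := by
        rw [hX, Subgroup.card_map_of_injective K.subtype_injective]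
        exact Nat.coprime_two_right.1 (Cores.coprime_card_pPrimeCore 2 K)
      have hXn : K ≤ normalizer (X : Set G) := by
        rw [le_normalizer_iff]
        rintro k hk _ ⟨x, hx, rfl⟩
        exact ⟨⟨k, hk⟩ * x * ⟨k, hk⟩⁻¹, (inferInstance : (Cfsg.pPrimeCore 2 K).Normal).conj_mem x hx ⟨k, hk⟩, rfl⟩
      have hXA : X ≤ A.normalCore := by
        intro x hx g
        have h3 := (hA.conj g⁻¹).le_of_normalized S hXodd (hSK.trans hXn) hx
        obtain ⟨a, ha, hax⟩ := h3
        have h4 : g⁻¹ * a * g = x := by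
          have h5 : g⁻¹ * a * (g⁻¹)⁻¹ = x := hax
          rwa [inv_inv] at h5
        have h5 : g * x * g⁻¹ = a := by rw [← h4]; group
        rw [h5]; exact ha
      rw [hcore, le_bot_iff, hX, Subgroup.map_eq_bot_iff_of_injective _ K.subtype_injective] at hXA
      exact hXA
    have h3 := Cores.sylow_eq_pCore_of_abelian hcoreK (S.subtype hSK) (by
      intro a ha b hb
      exact Subtype.ext (hSab a ha b hb))
    have h4 : ((S : Subgroup G).subgroupOf K).Normal := by
      have h5 : ((S.subtype hSK : Sylow 2 K) : Subgroup K) = (S : Subgroup G).subgroupOf K := rfl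
      rw [← h5, h3]
      infer_instance
    rw [le_normalizer_iff]
    intro k hk s hs
    exact h4.conj_mem ⟨s, hSK hs⟩ hs ⟨k, hk⟩
  -- an involution of `S`
  obtain ⟨t0, ht0S, ht0⟩ : ∃ t ∈ (S : Subgroup G), orderOf t = 2 := by
    have h1 : 2 ∣ Nat.card (S : Subgroup G) := by
      have hnt : Nontrivial (S : Subgroup G) := by rwa [Subgroup.nontrivial_iff_ne_bot]
      obtain ⟨m, hm, hc⟩ := S.isPGroup'.nontrivial_iff_card.1 hnt
      rw [hc]
      exact dvd_pow_self 2 hm.ne'
    obtain ⟨t, ht⟩ := exists_prime_orderOf_dvd_card' 2 h1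
    exact ⟨t, t.2, by rw [Subgroup.orderOf_coe, ht]⟩
  have hNeven : Even (Nat.card N) := by
    rw [even_iff_two_dvd, ← ht0]
    exact Subgroup.orderOf_dvd_natCard N (hSN ht0S)
  have hSE : Cfsg.IsStronglyEmbedded N := by
    rw [S0223.result N hNtop hNeven]
    refine ⟨fun t ht h2 => hCN t (hinvN t ht h2) h2, ?_⟩
    intro t ht s hs ht2 hs2 hts
    obtain ⟨c, hc⟩ := isConj_iff.1 hts
    refine ⟨c, ?_, hc⟩
    have htS := hinvN t ht ht2
    have hsS := hinvN s hs hs2
    have h1 : (S : Subgroup G).map (MulAut.conj c).toMonoidHom ≤ centralizer ({s} : Set G) := by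
      rintro _ ⟨x, hx, rfl⟩
      rw [mem_centralizer_singleton_iff]
      change c * x * c⁻¹ * s = s * (c * x * c⁻¹)
      rw [← hc]
      calc c * x * c⁻¹ * (c * t * c⁻¹) = c * (x * t) * c⁻¹ := by group
        _ = c * t * c⁻¹ * (c * x * c⁻¹) := by rw [hSab x hx t htS]; group
    have h2 : (S : Subgroup G).map (MulAut.conj c).toMonoidHom ≤ (S : Subgroup G) :=
      habs _ (S.isPGroup'.map _) (h1.trans (hCN s hsS hs2))
    have h3 : (S : Subgroup G).map (MulAut.conj c).toMonoidHom = (S : Subgroup G) := by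
      apply Subgroup.eq_of_le_of_card_ge h2
      rw [Subgroup.card_map_of_injective (MulAut.conj c).injective]
    rw [hN, mem_normalizer_iff]
    intro x
    constructor
    · intro hx
      rw [← h3]
      exact ⟨x, hx, rfl⟩
    · intro hx
      rw [← h3] at hx
      obtain ⟨y, hy, hyx⟩ := hx
      have h4 : c * y * c⁻¹ = c * x * c⁻¹ := hyx
      have h5 : y = x := by
        have := congrArg (fun z => c⁻¹ * z * c) h4
        simpa [mul_assoc] using this
      rw [← h5]; exact hy
  -- an involution outside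
  obtain ⟨u, hu2, huN⟩ : ∃ u : G, orderOf u = 2 ∧ u ∉ N := by
    by_contra hcon
    push Not at hcon
    have h1 : normalClosure ({t0} : Set G) ≤ (S : Subgroup G) := by
      rw [normalClosure, closure_le]
      intro y hy
      rw [Group.mem_conjugatesOfSet_iff] at hy
      obtain ⟨a, ha, hay⟩ := hy
      rw [Set.mem_singleton_iff] at ha
      subst ha
      obtain ⟨g, rfl⟩ := isConj_iff.1 hay
      have h2 : orderOf (g * a * g⁻¹) = 2 := by rw [← MulAut.conj_apply, MulEquiv.orderOf_eq, ht0]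
      exact hinvN _ (hcon _ h2) h2
    rcases hsimple _ (normalClosure_normal (s := ({t0} : Set G))) with h2 | h2
    · have h3 : t0 ∈ normalClosure ({t0} : Set G) := subset_normalClosure (Set.mem_singleton _)
      rw [h2, mem_bot] at h3
      rw [h3, orderOf_one] at ht0
      norm_num at ht0
    · rw [h2, top_le_iff] at h1
      exact hStop h1
  have huu : u * u = 1 := by rw [← pow_two, ← hu2]; exact pow_orderOf_eq_one u
  have hui : u⁻¹ = u := by rw [inv_eq_iff_mul_eq_one]; exact huu
  set D := N ⊓ N.map (MulAut.conj u).toMonoidHom with hD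
  have hDodd : Odd (Nat.card D) := hSE.2.2 u huN
  have hDt : ∀ s t : G, orderOf s = 2 → s ∈ N → orderOf t = 2 → t ∈ N → ∃ d ∈ D, d * s * d⁻¹ = t := by
    intro s t hs hsN ht htN
    exact (S1225.result N hSE u hu2 huN s t hs hsN ht htN).1
  have hDu : ∀ d ∈ D, u⁻¹ * d * u ∈ D := by
    rintro d ⟨hd1, ⟨n, hn1, hn2⟩⟩
    have h1 : u * n * u⁻¹ = d := hn2
    refine ⟨?_, ⟨d, hd1, ?_⟩⟩
    · rw [← h1]
      have : u⁻¹ * (u * n * u⁻¹) * u = n := by group
      rw [this]; exact hn1
    · change u * d * u⁻¹ = u⁻¹ * d * u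
      rw [hui]
  -- `D` is in a `2`-complement
  have hNs : Group.IsSolvable N := hsub N hNtop (hA.over S hSN)
  obtain ⟨B, hB, hDB⟩ : ∃ B : Subgroup G, Comp B ∧ D ≤ B := by
    have hcN := hA.over S hSN
    have h1 : Cfsg.IsPiHall {p : ℕ | p ≠ 2} (A.subgroupOf N) := by
      refine ⟨?_, ?_⟩
      · intro p hp hpd h2
        subst h2
        exact (Nat.not_even_iff_odd.2 hcN.1) (even_iff_two_dvd.2 hpd)
      · intro p hp hp2 hpd
        obtain ⟨k, hk⟩ := hcN.2
        rw [hk] at hpd
        exact hp2 ((Nat.prime_dvd_prime_iff_eq hp Nat.prime_two).1 (hp.dvd_of_dvd_pow hpd))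
    have h2 : HallPi.PiNum {p : ℕ | p ≠ 2} (Nat.card (D.subgroupOf N)) := by
      intro p hp hpd h2
      subst h2
      have h3 : Nat.card (D.subgroupOf N) = Nat.card D := by
        have h4 : Nat.card (D.subgroupOf N) = Nat.card ((D.subgroupOf N).map N.subtype) :=
          (Subgroup.card_map_of_injective N.subtype_injective).symm
        rw [h4, Subgroup.subgroupOf_map_subtype, inf_eq_left.2 inf_le_left]
      rw [h3] at hpd
      exact (Nat.not_even_iff_odd.2 hDodd) (even_iff_two_dvd.2 hpd)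
    obtain ⟨g, hg⟩ := HallPi.exists_conj_le _ _ h1 h2
    refine ⟨A.map (MulAut.conj (g : G)).toMonoidHom, hA.conj g, ?_⟩
    intro d hd
    have h3 := hg (show (⟨d, hd.1⟩ : N) ∈ D.subgroupOf N from hd)
    rw [Subgroup.mem_pointwise_smul_iff_inv_smul_mem, ← map_inv, MulAut.smul_def, MulAut.conj_apply, inv_inv, mem_subgroupOf] at h3
    refine ⟨_, h3, ?_⟩
    change (g : G) * ((g⁻¹ * ⟨d, hd.1⟩ * g : N) : G) * (g : G)⁻¹ = d
    push_cast
    group
  have hBS := hB.inf_sylow S.isPGroup'
  obtain ⟨s, hs, b, hb, hsb⟩ := HallConverse.exists_mul_of_coprime_index (H := (S : Subgroup G)) (K := B) (by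
    obtain ⟨k, hk⟩ := hB.2
    rw [hk]
    apply Nat.Coprime.pow_right
    rw [Nat.coprime_two_right, ← Nat.not_even_iff_odd, even_iff_two_dvd]
    exact S.not_dvd_index) u
  have hsd : ∀ d ∈ D, d * s = s * d := by
    intro d hd
    have h1 : s⁻¹ * d * s ∈ B := by
      have h2 := hDB (hDu d hd)
      have h3 : s⁻¹ * d * s = b * (u⁻¹ * d * u) * b⁻¹ := by rw [← hsb]; group
      rw [h3]
      exact mul_mem (mul_mem hb h2) (inv_mem hb)
    have h2 : d⁻¹ * (s⁻¹ * d * s) ∈ B := mul_mem (inv_mem (hDB hd)) h1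
    have h3 : d⁻¹ * (s⁻¹ * d * s) ∈ (S : Subgroup G) := by
      have h4 : d⁻¹ * (s⁻¹ * d * s) = (d⁻¹ * s⁻¹ * d) * s := by group
      rw [h4]
      refine mul_mem ?_ hs
      have h5 : d⁻¹ ∈ N := inv_mem hd.1
      have := (le_normalizer_iff.1 (le_refl N)) d⁻¹ h5 s⁻¹ (inv_mem hs)
      rwa [inv_inv] at this
    have h4 : d⁻¹ * (s⁻¹ * d * s) ∈ B ⊓ (S : Subgroup G) := ⟨h2, h3⟩
    rw [hBS, mem_bot] at h4
    calc d * s = s * d * (d⁻¹ * (s⁻¹ * d * s)) := by group
      _ = s * d := by rw [h4, mul_one]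
  by_cases hs1 : s = 1
  · -- `u ∈ B` has odd order
    rw [hs1, one_mul] at hsb
    have h1 : 2 ∣ Nat.card B := by
      rw [← hu2, ← hsb]
      exact Subgroup.orderOf_dvd_natCard B hb
    exact (Nat.not_even_iff_odd.2 hB.1) (even_iff_two_dvd.2 h1)
  · -- unique involution
    obtain ⟨m, hm⟩ : ∃ m, orderOf s = 2 ^ m := by
      obtain ⟨m, hm⟩ := IsPGroup.iff_orderOf.1 S.isPGroup' ⟨s, hs⟩
      exact ⟨m, by rw [← hm, Subgroup.orderOf_mk]⟩
    have hm1 : m ≠ 0 := by
      rintro rfl
      rw [pow_zero, orderOf_eq_one_iff] at hm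
      exact hs1 hm
    obtain ⟨j, rfl⟩ := Nat.exists_eq_succ_of_ne_zero hm1
    set t1 := s ^ 2 ^ j with ht1
    have ht1o : orderOf t1 = 2 := by
      rw [ht1, orderOf_pow' _ (by positivity), hm, Nat.gcd_eq_right (pow_dvd_pow 2 (Nat.le_succ j)), pow_succ,
        Nat.mul_div_cancel_left _ (by positivity)]
    have ht1S : t1 ∈ (S : Subgroup G) := pow_mem hs _
    have huniq : ∀ t ∈ (S : Subgroup G), orderOf t = 2 → t = t1 := by
      intro t ht h2
      obtain ⟨d, hd, hdt⟩ := hDt t1 t ht1o (hSN ht1S) h2 (hSN ht)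
      have h3 : Commute d t1 := Commute.pow_right (hsd d hd) _
      rw [h3.eq] at hdt
      rw [← hdt]; group
    have hcyc : IsCyclic (S : Subgroup G) := by
      by_contra hnc
      have hc : IsMulCommutative (S : Subgroup G) := isMulCommutative_iff_of_setLike.mpr hSab
      obtain ⟨r, x, y, hr, hx, hy, hx1, hxr, hyr, hyx⟩ := CoprimeGen.exists_rank_two hc hnc
      have hrf : Fact r.Prime := ⟨hr⟩
      have hr2 : r = 2 := by
        obtain ⟨k, hk⟩ := S.isPGroup' ⟨x, hx⟩
        have h1 : orderOf x = r := orderOf_eq_prime hxr hx1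
        have h2 : x ^ 2 ^ k = 1 := congrArg Subtype.val hk
        have h3 : r ∣ 2 ^ k := h1 ▸ orderOf_dvd_of_pow_eq_one h2
        exact (Nat.prime_dvd_prime_iff_eq hr Nat.prime_two).1 (hr.dvd_of_dvd_pow h3)
      subst hr2
      have hy1 : y ≠ 1 := by
        rintro rfl
        exact hyx (one_mem _)
      have h1 := huniq x hx (orderOf_eq_prime hxr hx1)
      have h2 := huniq y hy (orderOf_eq_prime hyr hy1)
      rw [h2, ← h1] at hyx
      exact hyx (mem_zpowers x)
    obtain ⟨P, M, hM, hcompl⟩ := QDFusion.npc_of_cyclic S hcyc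
    rcases hsimple M hM with h1 | h1
    · rw [h1] at hcompl
      have h2 : (P : Subgroup G) = ⊤ := isComplement'_bot_left.1 hcompl
      obtain ⟨a, b, hne⟩ := hncomm
      exact hne (hab P P.isPGroup' a (by rw [h2]; exact mem_top a) b (by rw [h2]; exact mem_top b))
    · rw [h1] at hcompl
      have h2 : (P : Subgroup G) = ⊥ := isComplement'_top_left.1 hcompl
      apply hnodd
      have h3 := hA.index_eq P
      rw [h2, card_bot, index_eq_one] at h3
      have h4 := hA.1
      rwa [h3, Subgroup.card_top] at h4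

theorem solvable [Finite G] {A : Subgroup G} (hA : Comp A) (hab : Ab2 G) : Group.IsSolvable G :=
  solvable_aux (Nat.card G) G rfl A hA hab

end Cfsg.Agent.Lib.H72OddComp
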