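import Mathlib

/-!
# Simplicity of a group from eleven suborbit lengths (Thompson group on 143127000 points)
-/

set_option autoImplicit false
set_option maxHeartbeats 400000

namespace Cfsg.Agent.Lib.ThSimple

open Subgroup MulAction

/-- suborbit lengths -/
def n : Fin 11 → ℕ := ![1, 17199, 45864, 2201472, 1304576, 11741184, 105670656, 5031936, 8128512, 179712, 8805888]

theorem sum_n : ∑ i, n i = 143127000 := by decide +kernel

theorem dec1 : ∀ A : Finset (Fin 11), 0 ∈ A → (∑ i ∈ A, n i) ∣ 143127000 → A = {0} ∨ A = Finset.univ := by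
  decide +kernel

theorem dec2 : ∀ A : Finset (Fin 11), ∀ k ∈ [1, 125, 342, 900, 42750, 307800], ∑ i ∈ A, n i ≠ 30 * k := by
  decide +kernel

theorem dec3 : ∀ a : Fin 4, ∀ b : Fin 6, ∀ c : Fin 4, ∀ d : Fin 2,
    (2 ^ (a : ℕ) * 3 ^ (b : ℕ) * 5 ^ (c : ℕ) * 19 ^ (d : ℕ)) % 31 = 1 →
    (2 ^ (a : ℕ) * 3 ^ (b : ℕ) * 5 ^ (c : ℕ) * 19 ^ (d : ℕ)) ∈ [1, 125, 342, 900, 42750, 307800] := by
  decide +kernel

theorem mem_of_dvd {k : ℕ} (h : k ∣ 4617000) (h1 : k % 31 = 1) : k ∈ [1, 125, 342, 900, 42750, 307800] := by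
  have e : 4617000 = 2 ^ 3 * 3 ^ 5 * 5 ^ 3 * 19 ^ 1 := by norm_num
  rw [e] at h
  obtain ⟨y1, z1, hy1, hz1, e1⟩ := (Nat.dvd_mul).1 h
  obtain ⟨y2, z2, hy2, hz2, e2⟩ := (Nat.dvd_mul).1 hy1
  obtain ⟨y3, z3, hy3, hz3, e3⟩ := (Nat.dvd_mul).1 hy2
  obtain ⟨a, ha, ea⟩ := (Nat.dvd_prime_pow Nat.prime_two).1 hy3
  obtain ⟨b, hb, eb⟩ := (Nat.dvd_prime_pow Nat.prime_three).1 hz3
  obtain ⟨c, hc, ec⟩ := (Nat.dvd_prime_pow Nat.prime_five).1 hz2
  obtain ⟨d, hd, ed⟩ := (Nat.dvd_prime_pow (by norm_num : Nat.Prime 19)).1 hz1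
  have ek : k = 2 ^ a * 3 ^ b * 5 ^ c * 19 ^ d := by
    rw [← e1, ← e2, ← e3, ea, eb, ec, ed]
  rw [ek] at h1 ⊢
  exact dec3 ⟨a, by omega⟩ ⟨b, by omega⟩ ⟨c, by omega⟩ ⟨d, by omega⟩ h1

section Count

variable {X : Type*} [Finite X]

theorem exists_fiber (O : Fin 11 → Set X) (hcov : ∀ y, ∃ i, y ∈ O i) (hle : ∀ i, Nat.card (O i) ≤ n i)
    (hX : Nat.card X = 143127000) :
    ∃ f : X → Fin 11, (∀ i y, y ∈ O i ↔ f y = i) ∧ ∀ i, Nat.card {y // f y = i} = n i := by
  classical
  choose f hf using hcov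
  have hsum : Nat.card X = ∑ i, Nat.card {y // f y = i} := by
    rw [← Nat.card_sigma]
    exact (Nat.card_congr (Equiv.sigmaFiberEquiv f)).symm
  have hsub : ∀ i, {y | f y = i} ⊆ O i := by
    rintro i y rfl
    exact hf y
  have h1 : ∀ i, Nat.card {y // f y = i} ≤ Nat.card (O i) := fun i =>
    Nat.card_mono (Set.toFinite _) (hsub i)
  have h2 : ∀ i ∈ Finset.univ, Nat.card {y // f y = i} = n i := by
    rw [← Finset.sum_eq_sum_iff_of_le (fun i _ => (h1 i).trans (hle i)), ← hsum, hX, sum_n]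
  refine ⟨f, ?_, fun i => h2 i (Finset.mem_univ i)⟩
  intro i y
  have h3 : {y | f y = i} = O i := by
    apply Set.eq_of_subset_of_ncard_le (hsub i) _ (Set.toFinite _)
    have h4 : Nat.card (O i) ≤ Nat.card {y // f y = i} := (hle i).trans (h2 i (Finset.mem_univ i)).ge
    exact h4
  rw [← h3]; rfl

theorem card_of_fiber (f : X → Fin 11) (hf : ∀ i, Nat.card {y // f y = i} = n i) (Y : Set X)
    (A : Finset (Fin 11)) (hY : ∀ y, y ∈ Y ↔ f y ∈ A) : Nat.card Y = ∑ i ∈ A, n i := by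
  classical
  have := Fintype.ofFinite X
  have h1 : Nat.card Y = (Finset.univ.filter fun y => f y ∈ A).card := by
    rw [Nat.card_eq_fintype_card, Fintype.card_subtype]
    congr 1
    ext y
    simp [hY]
  rw [h1, Finset.card_eq_sum_card_fiberwise (f := f) (t := A)]
  · apply Finset.sum_congr rfl
    intro i hi
    rw [← hf i, Nat.card_eq_fintype_card, Fintype.card_subtype]
    congr 1
    ext y
    simp only [Finset.mem_filter, Finset.mem_univ, true_and]
    constructor
    · exact fun h => h.2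
    · intro h
      exact ⟨by rw [h]; exact hi, h⟩
  · intro y hy
    simpa using hy

end Count

section Main

variable {G : Type*} [Group G] [Finite G]

/-- data -/
structure Dat (P : Subgroup G) (c : Fin 11 → G ⧸ P) : Prop where
  hidx : P.index = 143127000
  hc0 : c 0 = ((1 : G) : G ⧸ P)
  hcov : ∀ y : G ⧸ P, ∃ i, ∃ p ∈ P, y = p • c i
  hle : ∀ i, Nat.card (MulAction.orbit P (c i)) ≤ n i

variable {P : Subgroup G} {c : Fin 11 → G ⧸ P}

theorem Dat.fib (h : Dat P c) : ∃ f : G ⧸ P → Fin 11, (∀ i y, y ∈ MulAction.orbit P (c i) ↔ f y = i) ∧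
    ∀ i, Nat.card {y // f y = i} = n i := by
  apply exists_fiber (fun i => MulAction.orbit P (c i))
  · intro y
    obtain ⟨i, p, hp, rfl⟩ := h.hcov y
    exact ⟨i, ⟨p, hp⟩, rfl⟩
  · exact h.hle
  · exact h.hidx

/-- suborbit lengths are exact -/
theorem Dat.card_orbit (h : Dat P c) (i : Fin 11) : Nat.card (MulAction.orbit P (c i)) = n i := by
  obtain ⟨f, hf, hn⟩ := h.fib
  rw [← hn i]
  exact Nat.card_congr (Equiv.setCongr (by ext y; exact hf i y))

/-- invariant sets have subset sums as sizes -/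
theorem Dat.card_inv (h : Dat P c) (Y : Set (G ⧸ P)) (hY : ∀ p ∈ P, ∀ y ∈ Y, p • y ∈ Y) :
    ∃ A : Finset (Fin 11), Nat.card Y = ∑ i ∈ A, n i ∧ (((1 : G) : G ⧸ P) ∈ Y → 0 ∈ A) := by
  classical
  obtain ⟨f, hf, hn⟩ := h.fib
  refine ⟨Finset.univ.filter fun i => c i ∈ Y, ?_, ?_⟩
  · apply card_of_fiber f hn
    intro y
    have h1 : y ∈ MulAction.orbit P (c (f y)) := (hf _ _).2 rfl
    obtain ⟨⟨p, hp⟩, hpy⟩ := h1
    have hpy' : p • c (f y) = y := hpy
    simp only [Finset.mem_filter, Finset.mem_univ, true_and]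
    constructor
    · intro hy
      have := hY p⁻¹ (P.inv_mem hp) y hy
      rwa [← hpy', smul_smul, inv_mul_cancel, one_smul] at this
    · intro hy
      rw [← hpy']
      exact hY p hp _ hy
  · intro h1
    simp only [Finset.mem_filter, Finset.mem_univ, true_and]
    rw [h.hc0]; exact h1

/-- `P` is a maximal subgroup -/
theorem Dat.isCoatom (h : Dat P c) : IsCoatom P := by
  constructor
  · rintro hP
    have := h.hidx
    rw [hP, Subgroup.index_top] at this
    norm_num at this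
  · intro K hPK
    set Y : Set (G ⧸ P) := (QuotientGroup.mk : G → G ⧸ P) '' (K : Set G) with hYdef
    have hpre : (QuotientGroup.mk : G → G ⧸ P) ⁻¹' Y = (K : Set G) := by
      ext x
      constructor
      · rintro ⟨k, hk, hkx⟩
        have h1 : k⁻¹ * x ∈ P := QuotientGroup.eq.1 hkx
        have h2 : k * (k⁻¹ * x) ∈ K := K.mul_mem hk (hPK.le h1)
        simpa using h2
      · intro hx
        exact ⟨x, hx, rfl⟩
    have hcard : Nat.card K = Nat.card P * Nat.card Y := by
      have h1 := QuotientGroup.card_preimage_mk P Y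
      rw [hpre] at h1
      exact h1
    have hG : Nat.card P * 143127000 = Nat.card G := by
      rw [← h.hidx, mul_comm]; exact P.index_mul_card
    have hdvd : Nat.card Y ∣ 143127000 := by
      have h1 : Nat.card P * Nat.card Y ∣ Nat.card P * 143127000 := by
        rw [← hcard, hG]; exact Subgroup.card_subgroup_dvd_card K
      exact Nat.dvd_of_mul_dvd_mul_left Nat.card_pos h1
    obtain ⟨A, hA, hA0⟩ := h.card_inv Y (by
      rintro p hp _ ⟨k, hk, rfl⟩
      exact ⟨p * k, K.mul_mem (hPK.le hp) hk, rfl⟩)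
    rw [hA] at hdvd
    rcases dec1 A (hA0 ⟨1, K.one_mem, rfl⟩) hdvd with hAA | hAA
    · exfalso
      have h1 : Nat.card Y = 1 := by
        rw [hA, hAA]; decide
      rw [h1, mul_one] at hcard
      exact hPK.ne (Subgroup.eq_of_le_of_card_ge hPK.le hcard.le)
    · have h1 : Nat.card Y = 143127000 := by
        rw [hA, hAA, sum_n]
      rw [h1, hG] at hcard
      exact Subgroup.eq_top_of_card_eq K hcard

/-- number of elements of order `31` in a group with Sylow `31`-subgroups of order `31` -/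
theorem card_order31 {N : Type*} [Group N] [Finite N] (hN : Nat.card N = 143127000) :
    ∃ k : ℕ, k ∣ 4617000 ∧ k % 31 = 1 ∧ Nat.card {x : N // orderOf x = 31} = 30 * k := by
  classical
  have hp : Fact (Nat.Prime 31) := ⟨by norm_num⟩
  have hS : ∀ S : Sylow 31 N, Nat.card S = 31 := by
    intro S
    have h1 := S.card_eq_multiplicity
    rw [h1, hN]
    have h2 : (143127000 : ℕ).factorization 31 = 1 := by
      have e : (143127000 : ℕ) = 31 ^ 1 * 4617000 := by norm_num
      rw [e, Nat.factorization_mul (by norm_num) (by norm_num), Finsupp.add_apply,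
        Nat.Prime.factorization_pow hp.out, Finsupp.single_eq_same,
        Nat.factorization_eq_zero_of_not_dvd (by norm_num : ¬ 31 ∣ 4617000)]
    rw [h2, pow_one]
  refine ⟨Nat.card (Sylow 31 N), ?_, ?_, ?_⟩
  · obtain ⟨S⟩ := (inferInstance : Nonempty (Sylow 31 N))
    have h1 := S.card_dvd_index
    have h2 := S.toSubgroup.card_mul_index
    rw [hN] at h2
    have h3 : Nat.card (S : Subgroup N) = 31 := hS S
    rw [h3] at h2
    have h4 : (S : Subgroup N).index = 4617000 := by omega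
    rwa [h4] at h1
  · have := card_sylow_modEq_one 31 N
    exact this
  · -- the elements of order 31 are the nonidentity elements of the Sylow subgroups
    have hz : ∀ x : N, orderOf x = 31 → Nat.card (zpowers x) = 31 := by
      intro x hx; rw [Nat.card_zpowers, hx]
    have hex : ∀ x : {x : N // orderOf x = 31}, ∃ S : Sylow 31 N, (x : N) ∈ (S : Subgroup N) := by
      rintro ⟨x, hx⟩
      have h1 : IsPGroup 31 (zpowers x) := IsPGroup.of_card (n := 1) (by rw [hz x hx, pow_one])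
      obtain ⟨S, hS'⟩ := h1.exists_le_sylow
      exact ⟨S, hS' (mem_zpowers x)⟩
    choose g hg using hex
    have hord : ∀ (S : Sylow 31 N) (x : N), x ∈ (S : Subgroup N) → x ≠ 1 → orderOf x = 31 := by
      intro S x hx hx1
      have h1 : orderOf x ∣ 31 := by
        rw [← hS S]
        exact Subgroup.orderOf_dvd_natCard _ hx
      rcases (Nat.dvd_prime hp.out).1 h1 with h2 | h2
      · exact absurd (orderOf_eq_one_iff.1 h2) hx1
      · exact h2
    have huniq : ∀ (S : Sylow 31 N) (x : {x : N // orderOf x = 31}), (x : N) ∈ (S : Subgroup N) → g x = S := by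
      intro S x hx
      have h1 : zpowers (x : N) = (S : Subgroup N) := by
        apply Subgroup.eq_of_le_of_card_ge (by rw [zpowers_le]; exact hx)
        rw [hz x x.2]; exact (hS S).le
      have h2 : zpowers (x : N) = (g x : Subgroup N) := by
        apply Subgroup.eq_of_le_of_card_ge (by rw [zpowers_le]; exact hg x)
        rw [hz x x.2]; exact (hS (g x)).le
      apply Sylow.ext
      rw [← h2, h1]
    have h1 : Nat.card {x : N // orderOf x = 31} = Nat.card (Σ S : Sylow 31 N, {x // g x = S}) :=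
      (Nat.card_congr (Equiv.sigmaFiberEquiv g)).symm
    have := Fintype.ofFinite (Sylow 31 N)
    rw [h1, Nat.card_sigma]
    have h2 : ∀ S : Sylow 31 N, Nat.card {x // g x = S} = 30 := by
      intro S
      have h3 : Nat.card {x // g x = S} = Nat.card {x : (S : Subgroup N) // x ≠ 1} := by
        apply Nat.card_congr
        refine ⟨fun x => ⟨⟨x.1.1, by have := hg x.1; rw [x.2] at this; exact this⟩, ?_⟩,
          fun x => ⟨⟨x.1.1, hord S _ x.1.2 (fun h => x.2 (Subtype.ext h))⟩, huniq S _ x.1.2⟩, ?_, ?_⟩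
        · intro h
          have h4 : (x.1.1 : N) = 1 := congrArg Subtype.val h
          have h5 := x.1.2
          rw [h4, orderOf_one] at h5
          norm_num at h5
        · rintro ⟨⟨x, hx⟩, hx'⟩; rfl
        · rintro ⟨⟨x, hx⟩, hx'⟩; rfl
      rw [h3]
      have := Fintype.ofFinite (S : Subgroup N)
      have h6 := hS S
      rw [Nat.card_eq_fintype_card] at h6
      rw [Nat.card_eq_fintype_card]
      have h7 : Fintype.card {x : (S : Subgroup N) // x ≠ 1} = Fintype.card (S : Subgroup N) - 1 := by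
        rw [Fintype.card_subtype_compl, Fintype.card_subtype_eq]
      have h8 : Fintype.card (S : Subgroup N) = 31 := h6
      rw [h7, h8]
    rw [Finset.sum_congr rfl (fun S _ => h2 S), Finset.sum_const, Finset.card_univ, smul_eq_mul,
      Nat.card_eq_fintype_card]
    ring

theorem Dat.simple (h : Dat P c) (L : Subgroup G) (hLP : L ≤ P) (hL : L ≠ ⊥)
    (hP : ∀ M : Subgroup G, M ≤ P → (∀ p ∈ P, ∀ m ∈ M, p * m * p⁻¹ ∈ M) → M = ⊥ ∨ L ≤ M)
    (hgen : ∀ N : Subgroup G, N.Normal → L ≤ N → N = ⊤) : IsSimpleGroup G := by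
  classical
  have hco := h.isCoatom
  have : Nontrivial G := by
    obtain ⟨x, hx⟩ := Subgroup.ne_bot_iff_exists_ne_one.1 hL
    exact ⟨x, 1, fun h => hx (Subtype.ext h)⟩
  refine ⟨fun N hN => ?_⟩
  by_contra hcon
  push Not at hcon
  obtain ⟨hN1, hN2⟩ := hcon
  have hinf : N ⊓ P = ⊥ := by
    rcases hP (N ⊓ P) inf_le_right (by
      rintro p hp m ⟨hm1, hm2⟩
      exact ⟨hN.conj_mem m hm1 p, P.mul_mem (P.mul_mem hp hm2) (P.inv_mem hp)⟩) with h1 | h1
    · exact h1
    · exact absurd (hgen N hN (h1.trans inf_le_left)) hN2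
  have hnle : ¬ N ≤ P := by
    intro h1
    apply hN1
    rw [← hinf]
    exact (inf_eq_left.2 h1).symm
  have hsup : N ⊔ P = ⊤ := by
    apply hco.2
    refine lt_of_le_of_ne le_sup_right ?_
    intro h1
    apply hnle
    rw [h1]; exact le_sup_left
  have hcompl : Subgroup.IsComplement' N P := by
    apply Subgroup.isComplement'_of_disjoint_and_mul_eq_univ (disjoint_iff.2 hinf)
    rw [← Subgroup.normal_mul, hsup]; rfl
  have hcN : Nat.card N = 143127000 := by
    have h1 := hcompl.card_mul_card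
    have h2 := P.index_mul_card
    rw [h.hidx, ← h1] at h2
    exact (Nat.eq_of_mul_eq_mul_right Nat.card_pos h2).symm
  obtain ⟨k, hk, hk1, hk2⟩ := card_order31 hcN
  have hkmem := mem_of_dvd hk hk1
  set Y : Set (G ⧸ P) := (fun x : {x : N // orderOf x = 31} => ((x.1 : G) : G ⧸ P)) '' Set.univ with hY
  have hYc : Nat.card Y = 30 * k := by
    rw [← hk2, hY]
    rw [Nat.card_image_of_injective, Nat.card_coe_set_eq, Set.ncard_univ]
    intro x y hxy
    have h1 : ((x.1 : G))⁻¹ * (y.1 : G) ∈ P := QuotientGroup.eq.1 hxy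
    have h2 : ((x.1 : G))⁻¹ * (y.1 : G) ∈ N ⊓ P := ⟨N.mul_mem (N.inv_mem x.1.2) y.1.2, h1⟩
    rw [hinf, Subgroup.mem_bot, inv_mul_eq_one] at h2
    exact Subtype.ext (Subtype.ext h2)
  obtain ⟨A, hA, -⟩ := h.card_inv Y (by
    rintro p hp _ ⟨x, -, rfl⟩
    have hmem : p * (x.1 : G) * p⁻¹ ∈ N := hN.conj_mem _ x.1.2 p
    refine ⟨⟨⟨p * (x.1 : G) * p⁻¹, hmem⟩, ?_⟩, Set.mem_univ _, ?_⟩
    · rw [← Subgroup.orderOf_coe]
      show orderOf (p * (x.1 : G) * p⁻¹) = 31
      have h1 : p * (x.1 : G) * p⁻¹ = MulAut.conj p (x.1 : G) := rfl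
      rw [h1, MulEquiv.orderOf_eq, Subgroup.orderOf_coe]
      exact x.2
    · show ((p * (x.1 : G) * p⁻¹ : G) : G ⧸ P) = p • (((x.1 : G)) : G ⧸ P)
      have h1 : p • (((x.1 : G)) : G ⧸ P) = ((p * (x.1 : G) : G) : G ⧸ P) := rfl
      rw [h1, QuotientGroup.eq]
      have : (p * (x.1 : G) * p⁻¹)⁻¹ * (p * (x.1 : G)) = p := by group
      rw [this]; exact hp)
  rw [hYc] at hA
  exact dec2 A k hkmem hA.symm

theorem simple_of_suborbits (P L : Subgroup G) (hLP : L ≤ P) (hL : L ≠ ⊥)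
    (hP : ∀ M : Subgroup G, M ≤ P → (∀ p ∈ P, ∀ m ∈ M, p * m * p⁻¹ ∈ M) → M = ⊥ ∨ L ≤ M)
    (hgen : ∀ N : Subgroup G, N.Normal → L ≤ N → N = ⊤)
    (hidx : P.index = 143127000)
    (c : Fin 11 → G ⧸ P) (hc0 : c 0 = ((1 : G) : G ⧸ P))
    (hcov : ∀ y : G ⧸ P, ∃ i, ∃ p ∈ P, y = p • c i)
    (hle : ∀ i, Nat.card (MulAction.orbit P (c i)) ≤ n i) : IsSimpleGroup G :=
  (Dat.mk hidx hc0 hcov hle).simple L hLP hL hP hgen

/-- exact suborbit lengths and maximality -/
theorem suborbits (P : Subgroup G) (hidx : P.index = 143127000)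
    (c : Fin 11 → G ⧸ P) (hc0 : c 0 = ((1 : G) : G ⧸ P))
    (hcov : ∀ y : G ⧸ P, ∃ i, ∃ p ∈ P, y = p • c i)
    (hle : ∀ i, Nat.card (MulAction.orbit P (c i)) ≤ n i) :
    IsCoatom P ∧ ∀ i, Nat.card (MulAction.orbit P (c i)) = n i :=
  ⟨(Dat.mk hidx hc0 hcov hle).isCoatom, (Dat.mk hidx hc0 hcov hle).card_orbit⟩

end Main

end Cfsg.Agent.Lib.ThSimple
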