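import Cfsg.Agent.Lib.H72ThMain
import Cfsg.Agent.Lib.ThSimple

/-!
# The centralizer of `s` in Th lies in `³D₄(2):3` (helper72)
-/

set_option autoImplicit false
set_option linter.all false
set_option maxRecDepth 100000

namespace Cfsg.Agent.Lib.H72ThK

/-! ### Sylow -/

section syl
variable {G : Type*} [Group G] [Finite G]

theorem syl7 (S : Subgroup G) {k : ℕ} (hS : Nat.card S = 7 ^ k) (hk : ¬ 7 ^ (k + 1) ∣ Nat.card G) {y : G} (hy : y ^ 7 = 1) :
    ∃ r : G, r⁻¹ * y * r ∈ S := by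
  haveI : Fact (Nat.Prime 7) := ⟨by norm_num⟩
  have hf : (Nat.card G).factorization 7 = k := by
    apply le_antisymm
    · by_contra hlt
      push_neg at hlt
      apply hk
      exact (pow_dvd_pow 7 hlt).trans (Nat.ordProj_dvd _ _)
    · rw [← Nat.Prime.pow_dvd_iff_le_factorization (by norm_num) Nat.card_pos.ne', ← hS]
      exact Subgroup.card_subgroup_dvd_card S
  have hS' : Nat.card S = 7 ^ (Nat.card G).factorization 7 := by rw [hf, hS]
  let Q : Sylow 7 G := Sylow.ofCard S hS'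
  have hp : IsPGroup 7 (Subgroup.zpowers y) := by
    rw [IsPGroup.iff_card]
    have h1 : orderOf y ∣ 7 := orderOf_dvd_of_pow_eq_one hy
    rcases (Nat.dvd_prime (by norm_num)).1 h1 with h2 | h2
    · exact ⟨0, by rw [Nat.card_zpowers, h2, pow_zero]⟩
    · exact ⟨1, by rw [Nat.card_zpowers, h2, pow_one]⟩
  obtain ⟨Q', hQ'⟩ := hp.exists_le_sylow
  obtain ⟨g, hg⟩ := MulAction.exists_smul_eq G Q' Q
  refine ⟨g⁻¹, ?_⟩
  have h1 : g * y * g⁻¹ ∈ ((g • Q' : Sylow 7 G) : Subgroup G) := by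
    rw [Sylow.coe_subgroup_smul]
    exact Subgroup.smul_mem_pointwise_smul _ (MulAut.conj g) _ (hQ' (Subgroup.mem_zpowers y))
  rw [hg] at h1
  rw [inv_inv]
  exact h1

theorem syl7' {R S : Subgroup G} (hSR : S ≤ R) {k : ℕ} (hS : Nat.card S = 7 ^ k) (hk : ¬ 7 ^ (k + 1) ∣ Nat.card R) {y : G}
    (hyR : y ∈ R) (hy : y ^ 7 = 1) : ∃ r ∈ R, r⁻¹ * y * r ∈ S := by
  have h1 : Nat.card (S.subgroupOf R) = 7 ^ k := by
    rw [← hS]
    exact Nat.card_congr (Subgroup.subgroupOfEquivOfLe hSR).toEquiv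
  obtain ⟨r, hr⟩ := syl7 (S.subgroupOf R) h1 hk (y := ⟨y, hyR⟩) (Subtype.ext hy)
  exact ⟨r, r.2, hr⟩

/-- fixed points on cosets and conjugation into a subgroup -/
theorem fix_conj {P S : Subgroup G} {g τ : G} (hSP : S ≤ P) (hSg : ∀ z ∈ S, g⁻¹ * z * g ∈ P) {k : ℕ} (hS : Nat.card S = 7 ^ k)
    (hk : ¬ 7 ^ (k + 1) ∣ Nat.card (MulAction.stabilizer P ((g : G) : G ⧸ P))) (hτ : τ ∈ P) (h7 : τ ^ 7 = 1)
    {x : G ⧸ P} (hx : x ∈ MulAction.orbit P ((g : G) : G ⧸ P)) (hfix : τ • x = x) :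
    ∃ p ∈ P, p⁻¹ * τ * p ∈ S ∧ x = ((p * g : G) : G ⧸ P) := by
  obtain ⟨⟨p, hp⟩, rfl⟩ := hx
  set R := (MulAction.stabilizer P ((g : G) : G ⧸ P)).map P.subtype with hR
  have hmem : ∀ z ∈ P, z • ((g : G) : G ⧸ P) = ((g : G) : G ⧸ P) → z ∈ R := by
    intro z hz h1
    exact ⟨⟨z, hz⟩, h1, rfl⟩
  have hcard : Nat.card R = Nat.card (MulAction.stabilizer P ((g : G) : G ⧸ P)) :=
    (Nat.card_congr (Subgroup.equivMapOfInjective _ P.subtype P.subtype_injective).toEquiv).symm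
  have hSR : S ≤ R := by
    intro z hz
    apply hmem z (hSP hz)
    show ((z * g : G) : G ⧸ P) = ((g : G) : G ⧸ P)
    rw [eq_comm, QuotientGroup.eq]
    have := hSg z hz
    rwa [mul_assoc] at this
  have hy : p⁻¹ * τ * p ∈ R := by
    apply hmem _ (P.mul_mem (P.mul_mem (P.inv_mem hp) hτ) hp)
    have h1 : τ • (p • ((g : G) : G ⧸ P)) = p • ((g : G) : G ⧸ P) := hfix
    rw [mul_smul, mul_smul, h1, inv_smul_smul]
  have hy7 : (p⁻¹ * τ * p) ^ 7 = 1 := by
    have := conj_pow (i := 7) (a := p⁻¹) (b := τ)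
    rw [inv_inv] at this
    rw [this, h7]
    group
  obtain ⟨r, hr, h2⟩ := syl7' hSR hS (by rw [hcard]; exact hk) hy hy7
  obtain ⟨⟨r', hr'⟩, h3, rfl⟩ := hr
  refine ⟨p * r', P.mul_mem hp hr', ?_, ?_⟩
  · have e : (p * r')⁻¹ * τ * (p * r') = r'⁻¹ * (p⁻¹ * τ * p) * r' := by group
    rw [e]
    exact h2
  · have h4 : r' • ((g : G) : G ⧸ P) = ((g : G) : G ⧸ P) := h3
    show p • ((g : G) : G ⧸ P) = ((p * r' * g : G) : G ⧸ P)
    have e : ((p * r' * g : G) : G ⧸ P) = p • (r' • ((g : G) : G ⧸ P)) := by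
      rw [mul_assoc]
      rfl
    rw [e, h4]

end syl

/-! ### a block condition for `P` -/

open Cfsg.Spor Cfsg.Agent.Lib.H72ThAbs Cfsg.Agent.Lib.ThP Cfsg.Agent.Lib.ThPT Cfsg.Agent.Lib.H72ThZ Cfsg.Agent.Lib.H72ThR
open Cfsg.Agent.Lib.H72ThMain
open Cfsg.Agent.Lib.Dce (ev xb eqB lets actw ev_append ev_cons ev_nil look)

abbrev Mx := Matrix (Fin 248) (Fin 248) (ZMod 3)

/-- the block condition -/
def Bz (M : Mx) : Prop := ∀ i j : Fin 248, i.val < 52 → 52 ≤ j.val → M i j = 0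

theorem Bz.mul {M N : Mx} (hM : Bz M) (hN : Bz N) : Bz (M * N) := by
  intro i j hi hj
  rw [Matrix.mul_apply]
  apply Finset.sum_eq_zero
  intro k _
  by_cases hk : k.val < 52
  · rw [hN k j hk hj, mul_zero]
  · rw [hM i k hi (by omega), zero_mul]

/-- the subgroup -/
def KB : Subgroup Th where
  carrier := {g | Bz ((ThRho.rho g : ThRho.GM) : Mx) ∧ Bz ((ThRho.rho g⁻¹ : ThRho.GM) : Mx)}
  mul_mem' := by
    rintro a b ⟨h1, h2⟩ ⟨h3, h4⟩
    constructor
    · rw [map_mul, Units.val_mul]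
      exact h1.mul h3
    · rw [mul_inv_rev, map_mul, Units.val_mul]
      exact h4.mul h2
  one_mem' := by
    have h : Bz (1 : Mx) := by
      intro i j hi hj
      apply Matrix.one_apply_ne
      intro h
      rw [h] at hi
      omega
    constructor
    · rw [map_one, Units.val_one]; exact h
    · rw [inv_one, map_one, Units.val_one]; exact h
  inv_mem' := by
    rintro a ⟨h1, h2⟩
    exact ⟨h2, by rw [inv_inv]; exact h1⟩

/-- rows of the block vanish -/
def rowz (A : ℕ) : ℕ → Bool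
  | 0 => true
  | n + 1 => Nat.beq (Nat.mod (Nat.shiftRight A (248 * n + 52)) (2 ^ 196)) 0 &&
      (Nat.beq (Nat.mod (Nat.shiftRight A (61504 + (248 * n + 52))) (2 ^ 196)) 0 && rowz A n)

theorem rowz_spec {A n : ℕ} (h : rowz A n = true) : ∀ i < n, ∀ k < 196, A.testBit (248 * i + 52 + k) = false ∧
    A.testBit (61504 + (248 * i + 52 + k)) = false := by
  have key : ∀ a k, k < 196 → Nat.beq (Nat.mod (Nat.shiftRight A a) (2 ^ 196)) 0 = true → A.testBit (a + k) = false := by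
    intro a k hk h
    have h1 := Nat.eq_of_beq_eq_true h
    have h2 : (A >>> a % 2 ^ 196).testBit k = false := by
      have h3 : A >>> a % 2 ^ 196 = 0 := h1
      rw [h3, Nat.zero_testBit]
    rw [Nat.testBit_mod_two_pow, Nat.testBit_shiftRight] at h2
    simpa [hk] using h2
  induction n with
  | zero => intro i hi; omega
  | succ n ih =>
    simp only [rowz, Bool.and_eq_true] at h
    intro i hi k hk
    rcases Nat.lt_succ_iff_lt_or_eq.mp hi with hi | rfl
    · exact ih h.2.2 i hi k hk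
    · refine ⟨key _ k hk h.1, ?_⟩
      have := key _ k hk h.2.1
      rwa [Nat.add_assoc] at this

theorem Bz_of {A : ℕ} (h : rowz A 52 = true) : Bz (ThRho.MT A) := by
  intro i j hi hj
  obtain ⟨i, hi'⟩ := i
  obtain ⟨j, hj'⟩ := j
  simp only at hi hj
  have h1 := rowz_spec h i hi (j - 52) (by omega)
  have e : 248 * i + 52 + (j - 52) = 248 * i + j := by omega
  rw [e] at h1
  show MatF3.e3 (A.testBit (248 * i + j)) (A.testBit (ThTab.S + (248 * i + j))) = 0
  rw [h1.1, show ThTab.S = 61504 from rfl, h1.2]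
  rfl

theorem z0 : rowz (ThTab.TB 0) 52 = true := by decide +kernel
theorem z1 : rowz (ThTab.TB 1) 52 = true := by decide +kernel
theorem z2 : rowz (ThTab.TB 2) 52 = true := by decide +kernel
theorem z3 : rowz (ThTab.TB 3) 52 = true := by decide +kernel
theorem z4 : rowz (ThTab.TB 4) 52 = true := by decide +kernel
theorem z5 : rowz (ThTab.TB 5) 52 = true := by decide +kernel
theorem z6 : rowz (ThTab.TB 6) 52 = true := by decide +kernel
theorem z8 : rowz (ThTab.TB 8) 52 = true := by decide +kernel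
theorem z9 : rowz (ThTab.TB 9) 52 = true := by decide +kernel

theorem gen_KB {c c' : ℕ} (hc : c < 8) (hc' : c' < 11) (hi : ThTab.iv c = c') (h : rowz (ThTab.TB c) 52 = true)
    (h' : rowz (ThTab.TB c') 52 = true) : Y c ∈ KB := by
  have e : ThRho.rho (Y c) = ThRho.x c := ThRho.rho_of c hc
  constructor
  · rw [e, ThRho.x_val c (by omega)]
    exact Bz_of h
  · rw [map_inv, e, ← ThRho.x_iv, hi, ThRho.x_val c' hc']
    exact Bz_of h'

theorem P_le_KB : Psub ≤ KB := by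
  show Subgroup.closure _ ≤ _
  rw [Subgroup.closure_le]
  rintro y (rfl | rfl | rfl | rfl | rfl | rfl | rfl)
  · exact gen_KB (c := 0) (c' := 0) (by norm_num) (by norm_num) (by decide) z0 z0
  · exact gen_KB (c := 1) (c' := 1) (by norm_num) (by norm_num) (by decide) z1 z1
  · exact gen_KB (c := 2) (c' := 2) (by norm_num) (by norm_num) (by decide) z2 z2
  · exact gen_KB (c := 3) (c' := 3) (by norm_num) (by norm_num) (by decide) z3 z3
  · exact gen_KB (c := 4) (c' := 4) (by norm_num) (by norm_num) (by decide) z4 z4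
  · exact gen_KB (c := 5) (c' := 8) (by norm_num) (by norm_num) (by decide) z5 z8
  · exact gen_KB (c := 6) (c' := 9) (by norm_num) (by norm_num) (by decide) z6 z9

/-! ### the element of the orbit with stabilizer of order 126 -/

/-- words of `P` as words of Th -/
def lc (c : ℕ) : BenesWord.Wd :=
  match c with
  | 0 => BenesWord.Wd.g 0
  | 1 => BenesWord.Wd.g 1
  | 2 => BenesWord.Wd.g 2
  | 3 => BenesWord.Wd.g 3
  | 4 => BenesWord.Wd.g 4
  | 5 => BenesWord.Wd.g 5
  | 6 => BenesWord.Wd.inv (BenesWord.Wd.g 5)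
  | 7 => BenesWord.Wd.g 6
  | _ => BenesWord.Wd.inv (BenesWord.Wd.g 6)

def toW : List ℕ → BenesWord.Wd
  | [] => BenesWord.Wd.one
  | c :: l => BenesWord.Wd.mul (lc c) (toW l)

theorem E_lc {c : ℕ} (hc : c < 9) : E [c] = (lc c).eval ThRho.X := by
  interval_cases c
  · exact E0
  · exact E1
  · exact E2
  · exact E3
  · exact E4
  · exact E5
  · rw [E6, E5]; rfl
  · exact E7
  · rw [E8, E7]; rfl

theorem E_toW {l : List ℕ} (hl : lets 9 l = true) : E l = (toW l).eval ThRho.X := by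
  induction l with
  | nil => exact E_nil
  | cons c l ih =>
    simp only [lets, Bool.and_eq_true, Nat.blt_eq] at hl
    rw [E_cons, E_lc hl.1, ih hl.2]
    rfl

def sW : List ℕ := [0, 1, 0, 3, 2, 3, 4, 3, 4, 2, 3, 1, 2]
def sW' : List ℕ := [1, 2, 1, 3, 4, 3, 2, 3, 0, 1, 2, 0, 1]

def iu : BenesWord.Wd := BenesWord.Wd.inv (BenesWord.Wd.g 7)
def gW : BenesWord.Wd := BenesWord.Wd.mul iu (BenesWord.Wd.mul (BenesWord.Wd.g 1) (BenesWord.Wd.mul iu
  (BenesWord.Wd.mul (BenesWord.Wd.g 3) iu)))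

/-- the representative -/
noncomputable def g7 : Th := gW.eval ThRho.X

theorem rel7 : Nat.beq (ThTab.ev (BenesWord.Wd.mul (toW sW) gW)) (ThTab.ev (BenesWord.Wd.mul gW (toW sW'))) = true := by
  decide +kernel

theorem ent7 : Nat.beq (MatF3.ent 248 ThTab.S (ThTab.ev gW) 0 53) 0 = false := by
  decide +kernel

theorem rel7' (hinj : Function.Injective ThRho.rho) : E sW * g7 = g7 * E sW' := by
  have h := hinj (ThRho.rho_eq (by decide) (by decide) rel7)
  rw [E_toW (by decide), E_toW (by decide)]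
  exact h

theorem g7_nmem : g7 ∉ Psub := by
  intro h
  have h1 := (P_le_KB h).1 ⟨0, by norm_num⟩ ⟨53, by norm_num⟩ (by norm_num) (by norm_num)
  have h2 : ((ThRho.rho g7 : ThRho.GM) : Mx) = ThRho.MT (ThTab.ev gW) := ThRho.rho_val (by decide)
  rw [h2, ThRho.ent_spec (by norm_num) (by norm_num) (ThRho.rho_ok (by decide))] at h1
  have h3 := ent7
  have h4 : ∀ a b : Bool, ((cond a 1 (cond b 2 0) : ℕ) : ZMod 3) = 0 → Nat.beq (cond a 1 (cond b 2 0)) 0 = true := by decide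
  have h5 := h4 _ _ h1
  unfold MatF3.ent at h3
  rw [h5] at h3
  exact Bool.noConfusion h3

theorem nf1 : nofix sW 819 = true := by decide +kernel
theorem nf2 : nofix sW' 819 = true := by decide +kernel
theorem s7 : eqB tab (rep sW 7) [] base = true := by decide +kernel

theorem nTy {w : List ℕ} (hw : lets 9 w = true) (h : nofix w 819 = true) : ¬ Ty (E w) := by
  rintro ⟨q, hq, i, hi, hqi⟩
  have h1 : q = evp w := ψ_inj hq
  rw [h1, ac_ev hw hi] at hqi
  exact nofix_spec h i hi hqi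

/-! ### the action of `w` on the types -/

theorem aW (hinj : Function.Injective ThRho.rho) : Acts s x H72ThW.w0 (gm 1) := by
  apply acts_of
  · rw [show (gm 1).1 = (((0 : ℕ) : ZMod 7), ((3 : ℕ) : ZMod 7)) from rfl, Fp]
    have e := hinj H72ThW.e2
    rw [← x_eq] at e
    show E [5] * _ = _
    rw [E5, E_append, E_rep, E_rep, pow_zero, one_mul]
    rw [show Y 5 * H72ThW.w0 = H72ThW.w0 * (x * (x * x)) from e]
    show _ = H72ThW.w0 * x ^ 3
    rw [pow_succ', pow_succ', pow_one]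
  · rw [show (gm 1).2 = (((1 : ℕ) : ZMod 7), ((0 : ℕ) : ZMod 7)) from rfl, Fp]
    have e := hinj H72ThW.e3
    rw [← x_eq] at e
    rw [E_append, E_rep, E_rep, pow_zero, mul_one, pow_one, E5]
    exact e

theorem swap : ∀ i j : ZMod 7, (i, j) ≠ (0, 0) → ty (vm (i, j) (gm 1)) = !ty (i, j) ∧ vm (i, j) (gm 1) ≠ 0 := by
  decide +kernel

theorem F_mem (v : V2) : F s x v ∈ Psub := Subgroup.mul_mem _ (Subgroup.pow_mem _ (E_mem _) _) (Subgroup.pow_mem _ (E_mem _) _)

theorem s_ne : s ≠ 1 := by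
  intro h
  have := hF (1, 0) (by rw [F_s, h])
  exact absurd this (by decide)

theorem Ty_s' : Ty (Y 5) := by rw [← E5]; exact Ty_s

theorem Ty_pow {z : Th} (h : Ty z) (m : ℕ) : Ty (z ^ m) := by
  obtain ⟨q, hq, i, hi, hqi⟩ := h
  refine ⟨q ^ m, by rw [map_pow, hq], i, hi, ?_⟩
  induction m with
  | zero => rw [pow_zero]; rfl
  | succ m ih => rw [pow_succ, ac_mul, hqi, ih]

theorem sg7 : E sW ^ 7 = 1 := by
  have h : Dce.eqP tab 9 base (rep sW 7) [] = true := by decide +kernel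
  have := E_eq (pe h)
  rwa [E_rep, E_nil] at this

theorem sg_ne : E sW ≠ 1 := by
  intro h
  apply nTy (w := sW) (by decide) nf1
  rw [h]
  exact ⟨1, map_one _, 0, by norm_num, rfl⟩

theorem sg_nTy {z : Th} (hz : z ∈ Subgroup.zpowers (E sW)) (h1 : z ≠ 1) : ¬ Ty z := by
  intro h
  haveI : Fact (Nat.Prime 7) := ⟨by norm_num⟩
  have ho : orderOf (E sW) = 7 := orderOf_eq_prime sg7 sg_ne
  have hcard : Nat.card (Subgroup.zpowers (E sW)) = 7 := by rw [Nat.card_zpowers, ho]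
  have h2 : E sW ∈ Subgroup.zpowers z := by
    have h3 : Nat.card (Subgroup.zpowers z) ∣ 7 := by
      rw [← hcard]
      exact Subgroup.card_dvd_of_le (by rw [Subgroup.zpowers_le]; exact hz)
    rcases (Nat.dvd_prime (by norm_num)).1 h3 with h4 | h4
    · rw [Nat.card_zpowers, orderOf_eq_one_iff] at h4
      exact absurd h4 h1
    · have hfin : Finite (Subgroup.zpowers (E sW)) := Nat.finite_of_card_ne_zero (by rw [hcard]; norm_num)
      have h5 : Subgroup.zpowers z = Subgroup.zpowers (E sW) :=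
        Subgroup.eq_of_le_of_card_ge (by rw [Subgroup.zpowers_le]; exact hz) (by rw [hcard, h4])
      rw [h5]
      exact Subgroup.mem_zpowers _
  have hz7 : z ^ 7 = 1 := by
    obtain ⟨k, rfl⟩ := Subgroup.mem_zpowers_iff.1 hz
    rw [← zpow_natCast, ← zpow_mul, mul_comm, zpow_mul, zpow_natCast, sg7, one_zpow]
  obtain ⟨k, hk⟩ := Subgroup.mem_zpowers_iff.1 h2
  have h6 : E sW = z ^ (k % 7).toNat := by
    rw [← hk]
    conv_lhs => rw [← Int.emod_add_mul_ediv k 7, zpow_add, zpow_mul, show (z ^ (7 : ℤ) : Th) = 1 from by exact_mod_cast hz7, one_zpow, mul_one]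
    rw [← zpow_natCast, Int.toNat_of_nonneg (Int.emod_nonneg _ (by norm_num))]
  exact nTy (w := sW) (by decide) nf1 (h6 ▸ Ty_pow h _)

/-! ### the centralizer of `s` -/

section main
variable [Finite Th]

theorem dvd_stab {S : Subgroup Th} {g : Th} (hSP : S ≤ Psub) (hSg : ∀ z ∈ S, g⁻¹ * z * g ∈ Psub) :
    Nat.card S ∣ Nat.card (MulAction.stabilizer Psub ((g : Th) : Th ⧸ Psub)) := by
  set R := (MulAction.stabilizer Psub ((g : Th) : Th ⧸ Psub)).map Psub.subtype with hR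
  have hcard : Nat.card R = Nat.card (MulAction.stabilizer Psub ((g : Th) : Th ⧸ Psub)) :=
    (Nat.card_congr (Subgroup.equivMapOfInjective _ Psub.subtype Psub.subtype_injective).toEquiv).symm
  rw [← hcard]
  apply Subgroup.card_dvd_of_le
  intro z hz
  refine ⟨⟨z, hSP hz⟩, ?_, rfl⟩
  show ((z * g : Th) : Th ⧸ Psub) = ((g : Th) : Th ⧸ Psub)
  rw [eq_comm, QuotientGroup.eq]
  have := hSg z hz
  rwa [mul_assoc] at this

theorem card_P : Nat.card Psub = 634023936 := relTh.card_eq a_ne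

theorem stab_card {y : Th ⧸ Psub} {k : ℕ} (hk : Nat.card (MulAction.orbit Psub y) = k) :
    k * Nat.card (MulAction.stabilizer Psub y) = 634023936 := by
  rw [← hk, ← Nat.card_prod, Nat.card_congr (MulAction.orbitProdStabilizerEquivGroup Psub y), card_P]

theorem dec7 : ∀ i : Fin 11, ∀ m : ℕ, ThSimple.n i * m = 634023936 → 7 ∣ m → i = 0 ∨ i = 7 ∨ i = 9 := by
  intro i m h1 h2
  fin_cases i <;> simp [ThSimple.n] at h1 ⊢ <;> omega

theorem dec49 : ∀ i : Fin 11, ∀ m : ℕ, ThSimple.n i * m = 634023936 → 49 ∣ m → i = 0 ∨ i = 9 := by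
  intro i m h1 h2
  fin_cases i <;> simp [ThSimple.n] at h1 ⊢ <;> omega

variable (hinj : Function.Injective ThRho.rho) (hidx : Psub.index = 143127000) (c : Fin 11 → Th ⧸ Psub)
  (hc0 : c 0 = ((1 : Th) : Th ⧸ Psub)) (hcov : ∀ y : Th ⧸ Psub, ∃ i, ∃ p ∈ Psub, y = p • c i)
  (hle : ∀ i, Nat.card (MulAction.orbit Psub (c i)) ≤ ThSimple.n i)

include hidx hc0 hcov hle in
theorem orb_card {i : Fin 11} {y : Th ⧸ Psub} (hy : y ∈ MulAction.orbit Psub (c i)) :
    ThSimple.n i * Nat.card (MulAction.stabilizer Psub y) = 634023936 := by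
  apply stab_card
  rw [MulAction.orbit_eq_iff.2 hy]
  exact (ThSimple.suborbits Psub hidx c hc0 hcov hle).2 i

include hcov in
theorem exists_orb (y : Th ⧸ Psub) : ∃ i, y ∈ MulAction.orbit Psub (c i) := by
  obtain ⟨i, p, hp, h⟩ := hcov y
  exact ⟨i, ⟨p, hp⟩, h.symm⟩

include hc0 in
theorem mem_of_orb0 {g : Th} (h : ((g : Th) : Th ⧸ Psub) ∈ MulAction.orbit Psub (c 0)) : g ∈ Psub := by
  obtain ⟨⟨p, hp⟩, h⟩ := h
  rw [hc0] at h
  have h1 : ((p * 1 : Th) : Th ⧸ Psub) = ((g : Th) : Th ⧸ Psub) := h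
  rw [mul_one, QuotientGroup.eq] at h1
  have := Psub.mul_mem hp h1
  rwa [mul_inv_cancel_left] at this

include hinj in
theorem w0_nmem : H72ThW.w0 ∉ Psub := by
  intro h
  have h1 := Ty_conj h s
  have h2 := aW hinj (1, 0)
  rw [F_s] at h2
  rw [h2] at h1
  have h3 := hTyF (vm (1, 0) (gm 1)) (swap 1 0 (by decide)).2
  have h4 := h3.1 (h1.2 Ty_s)
  exact absurd h4 (by decide +kernel)

/-- the abelian group of order 49 -/
noncomputable def S7 : Subgroup Th := SS hs hx hc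

theorem S7_le : S7 ≤ Psub := by
  rintro _ ⟨v, rfl⟩
  exact F_mem v

theorem card_S7 : Nat.card S7 = 7 ^ 2 := by
  have e : V2 ≃ S7 := Equiv.ofBijective (fun v => ⟨F s x v, v, rfl⟩) (by
    constructor
    · intro v w hvw
      have h1 : F s x v = F s x w := congrArg Subtype.val hvw
      have h2 : F s x (v + -w) = 1 := by rw [F_add hs hx hc, F_neg hs hx hc, h1, mul_inv_cancel]
      exact add_neg_eq_zero.1 (hF _ h2)
    · rintro ⟨_, v, rfl⟩
      exact ⟨v, rfl⟩)
  rw [← Nat.card_congr e, Nat.card_prod, Nat.card_zmod]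
  norm_num

include hinj in
theorem S7_conj : ∀ z ∈ S7, H72ThW.w0⁻¹ * z * H72ThW.w0 ∈ Psub := by
  rintro _ ⟨v, rfl⟩
  rw [aW hinj v]
  exact F_mem _

include hinj hidx hc0 hcov hle in
theorem w0_orb : ((H72ThW.w0 : Th) : Th ⧸ Psub) ∈ MulAction.orbit Psub (c 9) := by
  obtain ⟨i, hi⟩ := exists_orb c hcov ((H72ThW.w0 : Th) : Th ⧸ Psub)
  have h1 := orb_card hidx c hc0 hcov hle hi
  have h2 := dvd_stab S7_le (S7_conj hinj)
  rw [card_S7] at h2
  rcases dec49 i _ h1 h2 with rfl | rfl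
  · exact absurd (mem_of_orb0 c hc0 hi) (w0_nmem hinj)
  · exact hi

include hinj hidx hc0 hcov hle in
/-- points of the orbit number 9 -/
theorem orb9 {τ : Th} (hτ : τ ∈ Psub) (h7 : τ ^ 7 = 1) {y : Th} (hy : ((y : Th) : Th ⧸ Psub) ∈ MulAction.orbit Psub (c 9))
    (hfix : y⁻¹ * τ * y ∈ Psub) (hne : τ ≠ 1) : (Ty τ ↔ ¬ Ty (y⁻¹ * τ * y)) := by
  have hw := w0_orb hinj hidx c hc0 hcov hle
  have h1 : ((y : Th) : Th ⧸ Psub) ∈ MulAction.orbit Psub ((H72ThW.w0 : Th) : Th ⧸ Psub) := by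
    rw [MulAction.orbit_eq_iff.2 hw]
    exact hy
  have h2 := orb_card hidx c hc0 hcov hle hw
  have h3 : ¬ 7 ^ (2 + 1) ∣ Nat.card (MulAction.stabilizer Psub ((H72ThW.w0 : Th) : Th ⧸ Psub)) := by
    have e : ThSimple.n 9 = 179712 := rfl
    rw [e] at h2
    omega
  have h4 : τ • ((y : Th) : Th ⧸ Psub) = ((y : Th) : Th ⧸ Psub) := by
    show ((τ * y : Th) : Th ⧸ Psub) = _
    rw [eq_comm, QuotientGroup.eq, ← mul_assoc]
    exact hfix
  obtain ⟨p, hp, ⟨v, hv⟩, h5⟩ := fix_conj S7_le (S7_conj hinj) card_S7 h3 hτ h7 h1 h4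
  rw [eq_comm, QuotientGroup.eq] at h5
  set q := (p * H72ThW.w0)⁻¹ * y with hq
  have hv0 : v ≠ 0 := by
    rintro rfl
    rw [F_zero] at hv
    apply hne
    calc τ = p * (p⁻¹ * τ * p) * p⁻¹ := by group
      _ = 1 := by rw [hv]; group
  have hy2 : y⁻¹ * τ * y = q⁻¹ * F s x (vm v (gm 1)) * q := by
    rw [← aW hinj v, ← hv, hq]
    group
  obtain ⟨sw1, sw2⟩ := swap v.1 v.2 hv0
  have t1 : Ty τ ↔ ty v = true := by
    rw [← Ty_conj hp τ, hv]
    exact hTyF v hv0
  have t2 : Ty (y⁻¹ * τ * y) ↔ ty (vm v (gm 1)) = true := by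
    rw [hy2, Ty_conj h5]
    exact hTyF _ sw2
  have sw3 : ty (vm v (gm 1)) = !ty v := sw1
  rw [t1, t2, sw3]
  cases ty v <;> simp

include hinj hidx hc0 hcov hle in
theorem g7_orb : ((g7 : Th) : Th ⧸ Psub) ∈ MulAction.orbit Psub (c 7) := by
  obtain ⟨i, hi⟩ := exists_orb c hcov ((g7 : Th) : Th ⧸ Psub)
  have h1 := orb_card hidx c hc0 hcov hle hi
  have hrel := rel7' hinj
  have hcj : g7⁻¹ * E sW * g7 = E sW' := by rw [mul_assoc, hrel]; group
  have h2 : 7 ∣ Nat.card (MulAction.stabilizer Psub ((g7 : Th) : Th ⧸ Psub)) := by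
    haveI : Fact (Nat.Prime 7) := ⟨by norm_num⟩
    have h3 := dvd_stab (S := Subgroup.zpowers (E sW)) (g := g7) (by rw [Subgroup.zpowers_le]; exact E_mem _) (by
      intro z hz
      obtain ⟨k, rfl⟩ := Subgroup.mem_zpowers_iff.1 hz
      have e : g7⁻¹ * E sW ^ k * g7 = (g7⁻¹ * E sW * g7) ^ k := by
        have := conj_zpow (i := k) (a := g7⁻¹) (b := E sW)
        rw [inv_inv] at this
        exact this.symm
      rw [e, hcj]
      exact Subgroup.zpow_mem _ (E_mem _) _)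
    rw [Nat.card_zpowers, orderOf_eq_prime sg7 sg_ne] at h3
    exact h3
  rcases dec7 i _ h1 h2 with rfl | rfl | rfl
  · exact absurd (mem_of_orb0 c hc0 hi) g7_nmem
  · exact hi
  · exfalso
    have h3 := orb9 hinj hidx c hc0 hcov hle (E_mem sW) sg7 hi (by rw [hcj]; exact E_mem _) sg_ne
    rw [hcj] at h3
    exact nTy (w := sW) (by decide) nf1 (h3.2 (nTy (w := sW') (by decide) nf2))

include hinj hidx hc0 hcov hle in
/-- the centralizer of `s` -/
theorem K1 (y : Th) (hy : y * Y 5 = Y 5 * y) : y ∈ Psub := by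
  haveI : Fact (Nat.Prime 7) := ⟨by norm_num⟩
  have hsP : Y 5 ∈ Psub := by rw [← E5]; exact E_mem _
  have hs7 : (Y 5) ^ 7 = 1 := by rw [← E5]; exact hs
  have hsne : Y 5 ≠ 1 := by rw [← E5]; exact s_ne
  have hcj : y⁻¹ * Y 5 * y = Y 5 := by rw [mul_assoc, ← hy]; group
  obtain ⟨i, hi⟩ := exists_orb c hcov ((y : Th) : Th ⧸ Psub)
  have h1 := orb_card hidx c hc0 hcov hle hi
  have h2 : 7 ∣ Nat.card (MulAction.stabilizer Psub ((y : Th) : Th ⧸ Psub)) := by
    have h3 := dvd_stab (S := Subgroup.zpowers (Y 5)) (g := y) (by rw [Subgroup.zpowers_le]; exact hsP) (by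
      intro z hz
      obtain ⟨k, rfl⟩ := Subgroup.mem_zpowers_iff.1 hz
      have e : y⁻¹ * Y 5 ^ k * y = (y⁻¹ * Y 5 * y) ^ k := by
        have := conj_zpow (i := k) (a := y⁻¹) (b := Y 5)
        rw [inv_inv] at this
        exact this.symm
      rw [e, hcj]
      exact Subgroup.zpow_mem _ hsP _)
    rw [Nat.card_zpowers, orderOf_eq_prime hs7 hsne] at h3
    exact h3
  rcases dec7 i _ h1 h2 with rfl | rfl | rfl
  · exact mem_of_orb0 c hc0 hi
  · exfalso
    have hg := g7_orb hinj hidx c hc0 hcov hle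
    have h3 : ((y : Th) : Th ⧸ Psub) ∈ MulAction.orbit Psub ((g7 : Th) : Th ⧸ Psub) := by
      rw [MulAction.orbit_eq_iff.2 hg]
      exact hi
    have h4 := orb_card hidx c hc0 hcov hle hg
    have h5 : ¬ 7 ^ (1 + 1) ∣ Nat.card (MulAction.stabilizer Psub ((g7 : Th) : Th ⧸ Psub)) := by
      have e : ThSimple.n 7 = 5031936 := rfl
      rw [e] at h4
      omega
    have hrel := rel7' hinj
    have hcj' : g7⁻¹ * E sW * g7 = E sW' := by rw [mul_assoc, hrel]; group
    have h6 : Y 5 • ((y : Th) : Th ⧸ Psub) = ((y : Th) : Th ⧸ Psub) := by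
      show ((Y 5 * y : Th) : Th ⧸ Psub) = _
      rw [eq_comm, QuotientGroup.eq, ← mul_assoc, hcj]
      exact hsP
    obtain ⟨p, hp, h7, _⟩ := fix_conj (S := Subgroup.zpowers (E sW)) (g := g7) (k := 1)
      (by rw [Subgroup.zpowers_le]; exact E_mem _) (by
        intro z hz
        obtain ⟨k, rfl⟩ := Subgroup.mem_zpowers_iff.1 hz
        have e : g7⁻¹ * E sW ^ k * g7 = (g7⁻¹ * E sW * g7) ^ k := by
          have := conj_zpow (i := k) (a := g7⁻¹) (b := E sW)
          rw [inv_inv] at this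
          exact this.symm
        rw [e, hcj']
        exact Subgroup.zpow_mem _ (E_mem _) _)
      (by rw [Nat.card_zpowers, orderOf_eq_prime sg7 sg_ne, pow_one]) h5 hsP hs7 h3 h6
    refine sg_nTy h7 ?_ ((Ty_conj hp _).2 Ty_s')
    intro h8
    apply hsne
    calc Y 5 = p * (p⁻¹ * Y 5 * p) * p⁻¹ := by group
      _ = 1 := by rw [h8]; group
  · exfalso
    have h3 := orb9 hinj hidx c hc0 hcov hle hsP hs7 hi (by rw [hcj]; exact hsP) hsne
    rw [hcj] at h3
    exact (h3.1 Ty_s') Ty_s'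

include hinj hidx hc0 hcov hle in
/-- all automorphisms of Th are inner -/
theorem card_out : Nat.card (Cfsg.Out Th) = 1 := by
  have hcard : Nat.card Th = 143127000 * 634023936 := by
    rw [← hidx, ← card_P, Subgroup.index_mul_card]
  exact (data hinj ⟨1851958038528000, by rw [hcard], by norm_num⟩ (K1 hinj hidx c hc0 hcov hle)).card_out

end main

end Cfsg.Agent.Lib.H72ThK
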