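import Cfsg.Agent.Lib.H72ThZ

/-!
# Relations in `³D₄(2):3` used for the automorphisms of Th (helper72)
-/

set_option autoImplicit false
set_option linter.all false
set_option maxRecDepth 100000

namespace Cfsg.Agent.Lib.H72ThR

open Cfsg.Agent.Lib.Dce hiding rep
open Cfsg.Agent.Lib.ThPT Cfsg.Agent.Lib.ThP Cfsg.Agent.Lib.H72ThZ

/-- equality of words from the base points -/
theorem pe {u v : List ℕ} (h : eqP tab 9 base u v = true) : evp u = evp v := by
  obtain ⟨_, _, hf, _⟩ := pp_main
  exact eqP_sound (φ := PP.subtype) (fun c hc i hi => xb_act c_all hc hi) (fun c hc i hi => base_lt c_all hc hi)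
    (by decide) hf h

/-- the word of `n` -/
def nW : List ℕ := [3, 2, 3, 2, 4, 3, 6, 4, 3, 2, 3, 5, 4, 8, 5, 1, 2, 3, 4, 5, 2, 3, 0, 1, 2, 3, 4, 1, 2, 1]
/-- the inverse word -/
def nI : List ℕ := [1, 2, 1, 4, 3, 2, 1, 0, 3, 2, 6, 4, 3, 2, 1, 6, 7, 4, 6, 3, 2, 3, 4, 5, 3, 4, 2, 3, 2, 3]
/-- the word of `x` -/
def xW : List ℕ := [2, 1, 3, 2, 3]

theorem q1 : eqP tab 9 base (rep [5] 7) [] = true := by decide +kernel
theorem q2 : eqP tab 9 base (rep xW 7) [] = true := by decide +kernel
theorem q3 : eqP tab 9 base ([5] ++ xW) (xW ++ [5]) = true := by decide +kernel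
theorem q4 : eqP tab 9 base ([5] ++ nW) (nW ++ (rep [5] 2 ++ rep xW 4)) = true := by decide +kernel
theorem q5 : eqP tab 9 base (xW ++ nW) (nW ++ (rep [5] 4 ++ rep xW 3)) = true := by decide +kernel
theorem q6 : eqP tab 9 base (nW ++ [3]) ([3] ++ nW) = true := by decide +kernel
theorem q7 : eqP tab 9 base ([5] ++ [7]) ([7] ++ rep [5] 2) = true := by decide +kernel
theorem q8 : eqP tab 9 base (xW ++ [7]) ([7] ++ xW) = true := by decide +kernel
theorem q9 : eqP tab 9 base ([7] ++ [3]) ([3] ++ [7]) = true := by decide +kernel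
theorem q10 : eqP tab 9 base ([5] ++ [0, 1]) ([0, 1] ++ [5]) = true := by decide +kernel
theorem q11 : eqP tab 9 base (xW ++ [0, 1]) ([0, 1] ++ rep xW 2) = true := by decide +kernel
theorem q12 : eqP tab 9 base ([0, 1] ++ [3]) ([3] ++ [0, 1]) = true := by decide +kernel
theorem q13 : eqP tab 9 base (rep [0, 1] 3) [] = true := by decide +kernel
theorem q14 : eqP tab 9 base ([5] ++ [3]) ([3] ++ rep [5] 6) = true := by decide +kernel
theorem q15 : eqP tab 9 base (xW ++ [3]) ([3] ++ rep xW 6) = true := by decide +kernel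
theorem q16 : eqP tab 9 base ([1] ++ [5]) ([5] ++ [1]) = true := by decide +kernel
theorem q17 : eqP tab 9 base ([0, 1] ++ ([1] ++ [0, 1])) [1] = true := by decide +kernel
theorem q18 : eqP tab 9 base ([1] ++ [3]) ([3] ++ [1]) = true := by decide +kernel
theorem q19 : eqP tab 9 base (rep (xW ++ [1]) 4) [] = true := by decide +kernel
theorem q20 : eqB tab (rep (xW ++ ([0, 1] ++ [1])) 4) [] base = false := by decide +kernel
theorem q21 : eqB tab (rep (xW ++ (rep [0, 1] 2 ++ [1])) 4) [] base = false := by decide +kernel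
theorem q22 : eqP tab 9 base [2] (xW ++ ([1] ++ (rep xW 3 ++ ([1] ++ rep xW 4)))) = true := by decide +kernel
theorem q23 : eqP tab 9 base [4] ([6] ++ (nI ++ ([0] ++ (nW ++ ([2] ++ (nW ++ ([0, 8] ++ (nW ++ ([2, 0] ++ (nW ++ ([0] ++
    (nI ++ [6, 0])))))))))))) = true := by decide +kernel
theorem q24 : eqP tab 9 base (nW ++ nI) [] = true := by decide +kernel
theorem q25 : eqP tab 9 base ([5] ++ [6]) [] = true := by decide +kernel
theorem q26 : eqP tab 9 base ([7] ++ [8]) [] = true := by decide +kernel

/-- words of the elements of the group of order 49 are not trivial -/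
theorem q30 : ((List.range 49).tail.all fun k => not (eqB tab (W1 k) [] base)) = true := by decide +kernel

theorem ne_of {u : List ℕ} (hu : lets 9 u = true) (h : eqB tab u [] base = false) : evp u ≠ 1 := by
  intro h1
  have h2 : eqB tab u [] base = true := by
    rw [eqB_iff]
    intro b hb
    have hb' : b < 819 := by
      have : ∀ b ∈ base, b < 819 := by decide
      exact this b hb
    have h3 := ac_ev hu hb'
    rw [h1, ac_one] at h3
    rw [← h3]
    rfl
  rw [h] at h2
  exact Bool.noConfusion h2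

/-- no fixed point of `x` -/
def nofix (w : List ℕ) : ℕ → Bool
  | 0 => true
  | n + 1 => not (Nat.beq (actw tab w n) n) && nofix w n

theorem nofix_spec {w : List ℕ} {n : ℕ} (h : nofix w n = true) : ∀ i < n, actw tab w i ≠ i := by
  induction n with
  | zero => intro i hi; omega
  | succ n ih =>
    simp only [nofix, Bool.and_eq_true] at h
    intro i hi
    rcases Nat.lt_succ_iff_lt_or_eq.mp hi with hi | rfl
    · exact ih h.2 i hi
    · intro h2
      have h3 := h.1
      have h4 : Nat.beq (actw tab w i) i = true := by rw [h2]; exact Nat.beq_refl i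
      rw [h4] at h3
      exact Bool.noConfusion h3

theorem q31 : nofix xW 819 = true := by decide +kernel
theorem q32 : look (tab 5) 0 = 0 := by decide +kernel

end Cfsg.Agent.Lib.H72ThR
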