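import Cfsg.Agent.Lib.H72ThAbs
import Cfsg.Agent.Lib.H72ThR
import Cfsg.Agent.Lib.H72ThW

/-!
# The data for the automorphisms of Th (helper72)
-/

set_option autoImplicit false
set_option linter.all false
set_option maxRecDepth 100000

namespace Cfsg.Agent.Lib.H72ThMain

open Cfsg.Spor Cfsg.Agent.Lib.H72ThAbs Cfsg.Agent.Lib.ThP Cfsg.Agent.Lib.ThPT Cfsg.Agent.Lib.H72ThZ Cfsg.Agent.Lib.H72ThR
open Cfsg.Agent.Lib.Dce (ev xb eqB lets actw ev_append ev_cons ev_nil look)

/-- generators of Th -/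
noncomputable abbrev Y (c : ℕ) : Th := Cfsg.Agent.Lib.ThRho.X c

theorem a_ne : (PresentedGroup.of Th.Gen.a : Th) ≠ 1 := by
  have h1 : Nat.beq (MatF3.ent 248 ThTab.S (ThTab.ev (BenesWord.Wd.g 0)) 9 0) (MatF3.ent 248 ThTab.S ThTab.one 9 0) = false := by
    decide +kernel
  exact ThRho.ne_one (W := BenesWord.Wd.g 0) (by decide) (i := 9) (j := 0) (by norm_num) (by norm_num) h1

/-- the subgroup `³D₄(2):3` -/
noncomputable def Psub : Subgroup Th := Subgroup.closure {(PresentedGroup.of Th.Gen.a : Th), PresentedGroup.of Th.Gen.b,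
  PresentedGroup.of Th.Gen.c, PresentedGroup.of Th.Gen.d, PresentedGroup.of Th.Gen.e, PresentedGroup.of Th.Gen.s,
  PresentedGroup.of Th.Gen.t}

theorem exists_psi : ∃ ψ : PP →* Th, Function.Injective ψ ∧ ψ.range = Psub ∧ ψ (evp [0]) = Y 0 ∧ ψ (evp [1]) = Y 1 ∧
    ψ (evp [2]) = Y 2 ∧ ψ (evp [3]) = Y 3 ∧ ψ (evp [4]) = Y 4 ∧ ψ (evp [5]) = Y 5 ∧ ψ (evp [7]) = Y 6 := by
  obtain ⟨f, hf, h1, _, f0, f1, f2, f3, f4, f5, f6⟩ := relTh.iso a_ne
  obtain ⟨e, _, e0, e1, e2, e3, e4, e5, e6⟩ := iso_PP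
  have k : ∀ (c : ℕ) (y : GP) (z : Th), e y = xb tab iv 819 9 c → f y = z → (f.comp e.symm.toMonoidHom) (evp [c]) = z := by
    intro c y z hy hz
    show f (e.symm (ev (xb tab iv 819 9) [c])) = z
    rw [ev_cons, ev_nil, mul_one, ← hy, MulEquiv.symm_apply_apply, hz]
  refine ⟨f.comp e.symm.toMonoidHom, hf.comp e.symm.injective, ?_, k 0 _ _ e0 f0, k 1 _ _ e1 f1, k 2 _ _ e2 f2, k 3 _ _ e3 f3,
    k 4 _ _ e4 f4, k 5 _ _ e5 f5, k 7 _ _ e6 f6⟩
  show _ = Subgroup.closure _
  rw [← h1]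
  ext y
  constructor
  · rintro ⟨q, rfl⟩
    exact ⟨e.symm q, rfl⟩
  · rintro ⟨q, rfl⟩
    refine ⟨e q, ?_⟩
    show f (e.symm (e q)) = f q
    rw [MulEquiv.symm_apply_apply]

/-- the embedding -/
noncomputable def ψ : PP →* Th := exists_psi.choose
theorem ψ_inj : Function.Injective ψ := exists_psi.choose_spec.1
theorem ψ_range : ψ.range = Psub := exists_psi.choose_spec.2.1
theorem ψ0 : ψ (evp [0]) = Y 0 := exists_psi.choose_spec.2.2.1
theorem ψ1 : ψ (evp [1]) = Y 1 := exists_psi.choose_spec.2.2.2.1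
theorem ψ2 : ψ (evp [2]) = Y 2 := exists_psi.choose_spec.2.2.2.2.1
theorem ψ3 : ψ (evp [3]) = Y 3 := exists_psi.choose_spec.2.2.2.2.2.1
theorem ψ4 : ψ (evp [4]) = Y 4 := exists_psi.choose_spec.2.2.2.2.2.2.1
theorem ψ5 : ψ (evp [5]) = Y 5 := exists_psi.choose_spec.2.2.2.2.2.2.2.1
theorem ψ7 : ψ (evp [7]) = Y 6 := exists_psi.choose_spec.2.2.2.2.2.2.2.2

theorem ψ_mem (q : PP) : ψ q ∈ Psub := ψ_range ▸ ⟨q, rfl⟩

/-- value of a word in Th -/
noncomputable def E (w : List ℕ) : Th := ψ (evp w)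

theorem E_append (u v : List ℕ) : E (u ++ v) = E u * E v := by
  show ψ (ev _ _) = _
  rw [ev_append, map_mul]
  rfl

theorem E_nil : E [] = 1 := by
  show ψ (ev _ []) = 1
  rw [ev_nil, map_one]

theorem E_cons (c : ℕ) (v : List ℕ) : E (c :: v) = E [c] * E v := E_append [c] v

theorem E_rep (w : List ℕ) (n : ℕ) : E (rep w n) = E w ^ n := by
  show ψ (ev _ _) = _
  rw [ev_rep, map_pow]
  rfl

theorem E_eq {u v : List ℕ} (h : evp u = evp v) : E u = E v := congrArg ψ h

theorem E_mem (w : List ℕ) : E w ∈ Psub := ψ_mem _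

/-- type predicate: a fixed point on the 819 points -/
def Ty (g : Th) : Prop := ∃ q : PP, ψ q = g ∧ ∃ i < 819, ac q i = i

theorem Ty_conj {p : Th} (hp : p ∈ Psub) (y : Th) : Ty (p⁻¹ * y * p) ↔ Ty y := by
  rw [← ψ_range] at hp
  obtain ⟨r, rfl⟩ := hp
  constructor
  · rintro ⟨q, hq, i, hi, hqi⟩
    refine ⟨r * q * r⁻¹, ?_, ac r i, ac_lt r hi, ?_⟩
    · rw [map_mul, map_mul, map_inv, hq]; group
    · rw [ac_mul, ac_mul, ← ac_mul r⁻¹ r, inv_mul_cancel, ac_one, hqi]
  · rintro ⟨q, hq, i, hi, hqi⟩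
    refine ⟨r⁻¹ * q * r, ?_, ac r⁻¹ i, ac_lt _ hi, ?_⟩
    · rw [map_mul, map_mul, map_inv, hq]
    · rw [ac_mul, ac_mul, ← ac_mul r r⁻¹, mul_inv_cancel, ac_one, hqi]

/-- the elements -/
noncomputable def s : Th := E [5]
noncomputable def x : Th := E xW
noncomputable def d : Th := E [3]
noncomputable def t : Th := E [7]
noncomputable def h : Th := E [0, 1]
noncomputable def n : Th := E nW
noncomputable def b : Th := E [1]

theorem hs : s ^ 7 = 1 := by
  have := E_eq (pe q1)
  rwa [E_rep, E_nil] at this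
theorem hx : x ^ 7 = 1 := by
  have := E_eq (pe q2)
  rwa [E_rep, E_nil] at this
theorem hc : s * x = x * s := by
  have := E_eq (pe q3)
  rwa [E_append, E_append] at this

theorem F_E (i j : ZMod 7) : F s x (i, j) = E (W1 (7 * i.val + j.val)) := by
  show s ^ i.val * x ^ j.val = E (rep [5] ((7 * i.val + j.val) / 7) ++ rep [2, 1, 3, 2, 3] ((7 * i.val + j.val) % 7))
  have hj : j.val < 7 := ZMod.val_lt j
  rw [show (7 * i.val + j.val) / 7 = i.val by omega, show (7 * i.val + j.val) % 7 = j.val by omega, E_append, E_rep, E_rep]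
  rfl

theorem hF (v : V2) (hv : F s x v = 1) : v = 0 := by
  by_contra h0
  obtain ⟨i, j⟩ := v
  rw [F_E] at hv
  have hi : i.val < 7 := ZMod.val_lt i
  have hj : j.val < 7 := ZMod.val_lt j
  have hk : 7 * i.val + j.val ∈ (List.range 49).tail := by
    have h1 : 7 * i.val + j.val ≠ 0 := by
      intro h2
      apply h0
      have h3 : i.val = 0 := by omega
      have h4 : j.val = 0 := by omega
      rw [(ZMod.val_eq_zero i).1 h3, (ZMod.val_eq_zero j).1 h4]
      rfl
    have h5 : (List.range 49).tail = List.range' 1 48 := by decide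
    rw [h5, List.mem_range'_1]
    omega
  have h1 := List.all_eq_true.1 q30 _ hk
  have h2 : eqB tab (W1 (7 * i.val + j.val)) [] base = false := by
    cases h3 : eqB tab (W1 (7 * i.val + j.val)) [] base with
    | false => rfl
    | true => rw [h3] at h1; exact Bool.noConfusion h1
  have h3 : lets 9 (W1 (7 * i.val + j.val)) = true :=
    List.all_eq_true.1 k1 _ (List.mem_range.2 (by omega))
  have h4 := ne_of h3 h2
  apply h4
  apply ψ_inj
  rw [map_one]
  exact hv

theorem acts_of {g : Th} {M : M2} (h1 : s * g = g * F s x M.1) (h2 : x * g = g * F s x M.2) : Acts s x g M := by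
  apply Acts.mk hs hx hc
  · rw [mul_assoc, h1]; group
  · rw [mul_assoc, h2]; group

theorem Fp (i j : ℕ) : F s x ((i : ZMod 7), (j : ZMod 7)) = E (rep [5] i ++ rep xW j) := by
  show s ^ (i : ZMod 7).val * x ^ (j : ZMod 7).val = _
  rw [ZMod.val_natCast, ZMod.val_natCast, pow_mod7 hs, pow_mod7 hx, E_append, E_rep, E_rep]
  rfl

theorem aN : Acts s x n (gm 0) := by
  apply acts_of
  · rw [show (gm 0).1 = (((2 : ℕ) : ZMod 7), ((4 : ℕ) : ZMod 7)) from rfl, Fp]
    have := E_eq (pe q4)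
    rwa [E_append, E_append] at this
  · rw [show (gm 0).2 = (((4 : ℕ) : ZMod 7), ((3 : ℕ) : ZMod 7)) from rfl, Fp]
    have := E_eq (pe q5)
    rwa [E_append, E_append] at this

theorem aT : Acts s x t (gm 2) := by
  apply acts_of
  · rw [show (gm 2).1 = (((2 : ℕ) : ZMod 7), ((0 : ℕ) : ZMod 7)) from rfl, Fp]
    have := E_eq (pe q7)
    rw [E_append, E_append] at this
    rw [show rep xW 0 = [] from rfl, List.append_nil]
    exact this
  · rw [show (gm 2).2 = (((0 : ℕ) : ZMod 7), ((1 : ℕ) : ZMod 7)) from rfl, Fp]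
    have := E_eq (pe q8)
    rw [E_append, E_append] at this
    exact this

theorem aH : Acts s x h (gm 3) := by
  apply acts_of
  · rw [show (gm 3).1 = (((1 : ℕ) : ZMod 7), ((0 : ℕ) : ZMod 7)) from rfl, Fp]
    have := E_eq (pe q10)
    rw [E_append, E_append] at this
    exact this
  · rw [show (gm 3).2 = (((0 : ℕ) : ZMod 7), ((2 : ℕ) : ZMod 7)) from rfl, Fp]
    have := E_eq (pe q11)
    rw [E_append, E_append] at this
    exact this

theorem aD : Acts s x d (gm 4) := by
  apply acts_of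
  · rw [show (gm 4).1 = (((6 : ℕ) : ZMod 7), ((0 : ℕ) : ZMod 7)) from rfl, Fp]
    have := E_eq (pe q14)
    rw [E_append, E_append] at this
    rw [show rep xW 0 = [] from rfl, List.append_nil]
    exact this
  · rw [show (gm 4).2 = (((0 : ℕ) : ZMod 7), ((6 : ℕ) : ZMod 7)) from rfl, Fp]
    have := E_eq (pe q15)
    rw [E_append, E_append] at this
    exact this

theorem dN : n * d = d * n := by have := E_eq (pe q6); rwa [E_append, E_append] at this
theorem dT : t * d = d * t := by have := E_eq (pe q9); rwa [E_append, E_append] at this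
theorem dH : h * d = d * h := by have := E_eq (pe q12); rwa [E_append, E_append] at this
theorem h3 : h ^ 3 = 1 := by have := E_eq (pe q13); rwa [E_rep, E_nil] at this
theorem bs : b * s = s * b := by have := E_eq (pe q16); rwa [E_append, E_append] at this
theorem bd : b * d = d * b := by have := E_eq (pe q18); rwa [E_append, E_append] at this
theorem bh : b * h * b⁻¹ = h⁻¹ := by
  have := E_eq (pe q17)
  rw [E_append, E_append] at this
  have e1 : h * (b * h) = b := this
  calc b * h * b⁻¹ = h⁻¹ * (h * (b * h)) * b⁻¹ := by group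
    _ = h⁻¹ := by rw [e1]; group
theorem xb4 : (x * b) ^ 4 = 1 := by have := E_eq (pe q19); rwa [E_rep, E_append, E_nil] at this

theorem E_ne {u : List ℕ} (hu : lets 9 u = true) (h : eqB tab u [] base = false) : E u ≠ 1 := by
  intro h1
  apply ne_of hu h
  apply ψ_inj
  rw [map_one]
  exact h1

theorem xb1 : (x * (h * b)) ^ 4 ≠ 1 := by
  have := E_ne (by decide) q20
  rwa [E_rep, E_append, E_append] at this
theorem xb2 : (x * (h ^ 2 * b)) ^ 4 ≠ 1 := by
  have := E_ne (by decide) q21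
  rwa [E_rep, E_append, E_append, E_rep] at this

/-! ### the types -/

/-- words for the type -/
def wl2 : List (List ℕ) := [[],[],[3,3],[3,4],[3],[3,3,4],[4],[],[0,4],[0,0,2],[0,4],[2,0,0],[3,0,4],[0,0,3,3],[2,2],[0,2,0,0],[3,0,0],[2,0,0],[0,0],[0,0,3],[0,3,3,4],[2,4],[3,0,3],[0,3],[0,2],[2,0],[3,0,2],[2,0],[2],[2,0,4],[2,0,0,2],[0,0],[0,2,4],[0,3,4],[3,0,3,4],[0,2,0],[0,3,3],[2,0,3],[0,0,4],[2,2,0],[0,2,2],[0,3,0],[4],[3,3,0],[3,0],[3,0],[0],[3,3,0],[0]]

def wv2 (v : V2) : List ℕ := wl2.getD (7 * v.1.val + v.2.val) []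

theorem wv2_ok : ∀ i j : ZMod 7, (i, j) ≠ (0, 0) → vm (i, j) (wm (wv2 (i, j))) = if ty (i, j) = true then (1, 0) else (0, 1) := by
  decide +kernel

theorem wv2_ne : ∀ i j : ZMod 7, (wv2 (i, j)).all (fun c => !(c == 1)) = true := by
  decide +kernel

theorem pw_mem {w : Th} (l : List ℕ) (hl : l.all (fun c => !(c == 1)) = true) : pw n w t h d l ∈ Psub := by
  induction l with
  | nil => exact Subgroup.one_mem _
  | cons c l ih =>
    simp only [List.all_cons, Bool.and_eq_true] at hl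
    refine Subgroup.mul_mem _ ?_ (ih hl.2)
    match c with
    | 0 => exact E_mem _
    | 1 => exact absurd hl.1 (by decide)
    | 2 => exact E_mem _
    | 3 => exact E_mem _
    | c + 4 => exact E_mem _

theorem acts_pw (l : List ℕ) (hl : l.all (fun c => !(c == 1)) = true) (w : Th) : Acts s x (pw n w t h d l) (wm l) := by
  induction l with
  | nil => exact Acts.one
  | cons c l ih =>
    simp only [List.all_cons, Bool.and_eq_true] at hl
    refine Acts.mul ?_ (ih hl.2)
    match c with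
    | 0 => exact aN
    | 1 => exact absurd hl.1 (by decide)
    | 2 => exact aT
    | 3 => exact aH
    | c + 4 => exact aD

theorem Ty_s : Ty s := by
  refine ⟨evp [5], rfl, 0, by norm_num, ?_⟩
  rw [ac_ev (by decide) (by norm_num)]
  show look (tab 5) 0 = 0
  exact q32

theorem Ty_x : ¬ Ty x := by
  rintro ⟨q, hq, i, hi, hqi⟩
  have h1 : q = evp xW := ψ_inj hq
  rw [h1, ac_ev (by decide) hi] at hqi
  exact nofix_spec q31 i hi hqi

theorem hTyF (v : V2) (hv : v ≠ 0) : Ty (F s x v) ↔ ty v = true := by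
  obtain ⟨i, j⟩ := v
  have h1 := wv2_ok i j hv
  have h2 := acts_pw (wv2 (i, j)) (wv2_ne i j) 1 (i, j)
  rw [← Ty_conj (pw_mem (w := 1) (wv2 (i, j)) (wv2_ne i j)) (F s x (i, j)), h2, h1]
  by_cases h3 : ty (i, j) = true
  · rw [if_pos h3, F_s]
    exact ⟨fun _ => h3, fun _ => Ty_s⟩
  · rw [if_neg h3, F_x]
    exact ⟨fun h4 => absurd h4 Ty_x, fun h4 => absurd h4 h3⟩

/-! ### centralizers in P -/

theorem comm_of {q : PP} {w : List ℕ} (h : ψ q * E w = E w * ψ q) : q * evp w = evp w * q := by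
  apply ψ_inj
  rw [map_mul, map_mul]
  exact h

theorem Z1 (g : Th) (hg : g ∈ Psub) (h1 : g * s = s * g) (h2 : g * x = x * g) : ∃ v, g = F s x v := by
  rw [← ψ_range] at hg
  obtain ⟨q, rfl⟩ := hg
  obtain ⟨i, j, hij⟩ := Z1P (comm_of h1) (comm_of h2) (comm_of (q := evp [5]) hc)
  refine ⟨((i : ZMod 7), (j : ZMod 7)), ?_⟩
  rw [Fp, hij, E_append, E_rep, E_rep, map_mul, map_pow, map_pow]
  rfl

theorem Z2 (g : Th) (hg : g ∈ Psub) (h1 : g * s = s * g) (h2 : g * h = h * g) : ∃ i j : ℕ, g = s ^ i * h ^ j := by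
  rw [← ψ_range] at hg
  obtain ⟨q, rfl⟩ := hg
  have hsh : E [5] * E [0, 1] = E [0, 1] * E [5] := by
    have := E_eq (pe q10)
    rwa [E_append, E_append] at this
  obtain ⟨i, j, hij⟩ := Z2P (comm_of h1) (comm_of h2) (comm_of (q := evp [5]) hsh)
  refine ⟨i, j, ?_⟩
  rw [hij, map_mul, map_pow, map_pow]
  rfl

/-! ### generation and the final theorem -/

theorem E5 : E [5] = Y 5 := ψ5
theorem E0 : E [0] = Y 0 := ψ0
theorem E1 : E [1] = Y 1 := ψ1
theorem E2 : E [2] = Y 2 := ψ2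
theorem E3 : E [3] = Y 3 := ψ3
theorem E4 : E [4] = Y 4 := ψ4
theorem E7 : E [7] = Y 6 := ψ7

theorem x_eq : x = H72ThW.x0 := by
  show E ([2] ++ ([1] ++ ([3] ++ ([2] ++ [3])))) = _
  rw [E_append, E_append, E_append, E_append, E2, E1, E3]
  unfold H72ThW.x0 H72ThW.wX
  simp only [BenesWord.Wd.eval, mul_assoc]

theorem E6 : E [6] = (E [5])⁻¹ := by
  have := E_eq (pe q25)
  rw [E_append, E_nil] at this
  exact (inv_eq_of_mul_eq_one_right this).symm
theorem E8 : E [8] = (E [7])⁻¹ := by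
  have := E_eq (pe q26)
  rw [E_append, E_nil] at this
  exact (inv_eq_of_mul_eq_one_right this).symm
theorem EnI : E nI = (E nW)⁻¹ := by
  have := E_eq (pe q24)
  rw [E_append, E_nil] at this
  exact (inv_eq_of_mul_eq_one_right this).symm

theorem eval_mem {K : Subgroup Th} {m : ℕ} (hK : ∀ c < m, Y c ∈ K) (W : BenesWord.Wd) (hW : CoxBridge.lets m W = true) :
    W.eval ThRho.X ∈ K := by
  induction W with
  | one => exact Subgroup.one_mem _
  | g c => exact hK c (by simpa [CoxBridge.lets] using hW)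
  | inv u ih => exact Subgroup.inv_mem _ (ih hW)
  | mul u v ihu ihv =>
    simp only [CoxBridge.lets, Bool.and_eq_true] at hW
    exact Subgroup.mul_mem _ (ihu hW.1) (ihv hW.2)
  | pow u k ih => exact Subgroup.pow_mem _ (ih hW) k

theorem closure_Y (K : Subgroup Th) (h : ∀ c < 8, Y c ∈ K) : K = ⊤ := by
  rw [eq_top_iff, ← PresentedGroup.closure_range_of, Subgroup.closure_le]
  rintro _ ⟨a, rfl⟩
  cases a
  · exact h 0 (by norm_num)
  · exact h 1 (by norm_num)
  · exact h 2 (by norm_num)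
  · exact h 3 (by norm_num)
  · exact h 4 (by norm_num)
  · exact h 5 (by norm_num)
  · exact h 6 (by norm_num)
  · exact h 7 (by norm_num)

theorem gen (hinj : Function.Injective ThRho.rho) : Subgroup.closure {s, x, d, t, h, n, H72ThW.w0, b} = ⊤ := by
  set K := Subgroup.closure ({s, x, d, t, h, n, H72ThW.w0, b} : Set Th) with hK
  have m : ∀ {y : Th}, y ∈ ({s, x, d, t, h, n, H72ThW.w0, b} : Set Th) → y ∈ K := fun hy => Subgroup.subset_closure hy
  have ms : E [5] ∈ K := m (by left; rfl)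
  have mx : E xW ∈ K := m (by right; left; rfl)
  have md : E [3] ∈ K := m (by right; right; left; rfl)
  have mt : E [7] ∈ K := m (by right; right; right; left; rfl)
  have mh : E [0, 1] ∈ K := m (by right; right; right; right; left; rfl)
  have mn : E nW ∈ K := m (by right; right; right; right; right; left; rfl)
  have mw : H72ThW.w0 ∈ K := m (by right; right; right; right; right; right; left; rfl)
  have mb : E [1] ∈ K := m (by right; right; right; right; right; right; right; rfl)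
  have ma : E [0] ∈ K := by
    have e1 : E [0, 1] = E [0] * E [1] := E_cons 0 [1]
    have e2 : E [0] = E [0, 1] * (E [1])⁻¹ := by rw [e1]; group
    rw [e2]
    exact Subgroup.mul_mem _ mh (Subgroup.inv_mem _ mb)
  have mc : E [2] ∈ K := by
    rw [E_eq (pe q22), E_append, E_append, E_append, E_append, E_rep, E_rep]
    exact Subgroup.mul_mem _ mx (Subgroup.mul_mem _ mb (Subgroup.mul_mem _ (Subgroup.pow_mem _ mx _)
      (Subgroup.mul_mem _ mb (Subgroup.pow_mem _ mx _))))
  have m6 : E [6] ∈ K := by rw [E6]; exact Subgroup.inv_mem _ ms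
  have m8 : E [8] ∈ K := by rw [E8]; exact Subgroup.inv_mem _ mt
  have mI : E nI ∈ K := by rw [EnI]; exact Subgroup.inv_mem _ mn
  have me : E [4] ∈ K := by
    rw [E_eq (pe q23)]
    have c2 : ∀ i j : ℕ, E [i] ∈ K → E [j] ∈ K → E [i, j] ∈ K := by
      intro i j hi hj
      rw [E_cons]
      exact Subgroup.mul_mem _ hi hj
    repeat rw [E_append]
    exact Subgroup.mul_mem _ m6 (Subgroup.mul_mem _ mI (Subgroup.mul_mem _ ma (Subgroup.mul_mem _ mn
      (Subgroup.mul_mem _ mc (Subgroup.mul_mem _ mn (Subgroup.mul_mem _ (c2 _ _ ma m8) (Subgroup.mul_mem _ mn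
      (Subgroup.mul_mem _ (c2 _ _ mc ma) (Subgroup.mul_mem _ mn (Subgroup.mul_mem _ ma (Subgroup.mul_mem _ mI
      (c2 _ _ m6 ma))))))))))))
  rw [E5] at ms
  rw [E3] at md
  rw [E7] at mt
  rw [E1] at mb
  rw [E0] at ma
  rw [E2] at mc
  rw [E4] at me
  have m7 : ∀ c < 7, Y c ∈ K := by
    intro c hc
    interval_cases c
    · exact ma
    · exact mb
    · exact mc
    · exact md
    · exact me
    · exact ms
    · exact mt
  have e4 := hinj H72ThW.e4
  have mu : Y 7 ∈ K := by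
    have hP := eval_mem m7 H72ThW.wP (by decide)
    have hQ := eval_mem m7 H72ThW.wQ (by decide)
    have hM := eval_mem m7 H72ThW.wM (by decide)
    have e5 : Y 7 = (H72ThW.wP.eval ThRho.X)⁻¹ * (H72ThW.w0 * (H72ThW.wM.eval ThRho.X * H72ThW.w0)) * (H72ThW.wQ.eval ThRho.X)⁻¹ := by
      rw [← e4]; group
    rw [e5]
    exact Subgroup.mul_mem _ (Subgroup.mul_mem _ (Subgroup.inv_mem _ hP) (Subgroup.mul_mem _ mw (Subgroup.mul_mem _ hM mw)))
      (Subgroup.inv_mem _ hQ)
  apply closure_Y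
  intro c hc
  rcases Nat.lt_succ_iff_lt_or_eq.mp hc with hc | rfl
  · exact m7 c hc
  · exact mu

/-- the data, from injectivity of the representation, the order and the centralizer of `s` -/
theorem data (hinj : Function.Injective ThRho.rho) (hcard : ∃ m, Nat.card Th = 49 * m ∧ ¬ 7 ∣ m)
    (hK1 : ∀ g : Th, g * Y 5 = Y 5 * g → g ∈ Psub) : Data Th Psub Ty s x d t h n H72ThW.w0 b where
  hs := hs
  hx := hx
  hc := hc
  hF := hF
  card := hcard
  hTy := fun p hp y => Ty_conj hp y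
  hTyF := hTyF
  K1 := fun g hg => hK1 g (by rw [← E5]; exact hg)
  Z1 := Z1
  Z2 := Z2
  aN := aN
  aW := by
    apply acts_of
    · rw [show (gm 1).1 = (((0 : ℕ) : ZMod 7), ((3 : ℕ) : ZMod 7)) from rfl, Fp]
      have e := hinj H72ThW.e2
      rw [← x_eq] at e
      show E [5] * _ = _
      rw [E5, E_append, E_rep, E_rep, pow_zero, one_mul]
      rw [show Y 5 * H72ThW.w0 = H72ThW.w0 * (x * (x * x)) from e]
      show _ = H72ThW.w0 * x ^ 3
      rw [pow_succ', pow_succ', pow_one]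
    · rw [show (gm 1).2 = (((1 : ℕ) : ZMod 7), ((0 : ℕ) : ZMod 7)) from rfl, Fp]
      have e := hinj H72ThW.e3
      rw [← x_eq] at e
      rw [E_append, E_rep, E_rep, pow_zero, mul_one, pow_one, E5]
      exact e
  aT := aT
  aH := aH
  aD := aD
  dN := dN
  dW := by
    have e := hinj H72ThW.e1
    show _ * E [3] = E [3] * _
    rw [E3]
    exact e
  dT := dT
  dH := dH
  h3 := h3
  bs := bs
  bh := bh
  bd := bd
  xb := xb4
  xb1 := xb1
  xb2 := xb2
  gen := gen hinj

end Cfsg.Agent.Lib.H72ThMain
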