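import Cfsg.Agent.Lib.H72ThZD

/-!
# Two centralizers in `³D₄(2):3` (helper72)
-/

set_option autoImplicit false
set_option linter.all false
set_option maxRecDepth 100000

namespace Cfsg.Agent.Lib.H72ThZ

open Cfsg.Agent.Lib.Dce Cfsg.Agent.Lib.ThPT Cfsg.Agent.Lib.ThP

/-- neighbours of a point as a mask -/
def mask (i : ℕ) : ℕ := mt.get i

/-- adjacency -/
def adj (i j : ℕ) : Bool := Nat.testBit (mask i) j

/-- mask of a list -/
def bitsL : List ℕ → ℕ
  | [] => 0
  | j :: l => Nat.lor (Nat.shiftLeft 1 j) (bitsL l)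

/-- all images adjacent -/
def allAdj (T M : ℕ) : List ℕ → Bool
  | [] => true
  | j :: l => Nat.blt j 819 && (Nat.testBit M (look T j) && allAdj T M l)

/-- invariance check -/
def chkR (T : ℕ) : ℕ → List (List ℕ) → Bool
  | _, [] => true
  | i, l :: r => Nat.beq (mask i) (bitsL l) && (allAdj T (mask (look T i)) l && chkR T (i + 1) r)

theorem testBit_bitsL (l : List ℕ) (j : ℕ) : (bitsL l).testBit j = true ↔ j ∈ l := by
  induction l with
  | nil => simp [bitsL]
  | cons a l ih =>
    show (Nat.testBit (Nat.shiftLeft 1 a ||| bitsL l) j) = true ↔ _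
    rw [Nat.testBit_or, Bool.or_eq_true, ih, List.mem_cons]
    have : Nat.testBit (Nat.shiftLeft 1 a) j = true ↔ j = a := by
      show Nat.testBit (1 <<< a) j = true ↔ j = a
      rw [Nat.shiftLeft_eq, one_mul, Nat.testBit_two_pow]
      simp [eq_comm]
    rw [this]

theorem allAdj_spec {T M : ℕ} {l : List ℕ} (h : allAdj T M l = true) : ∀ j ∈ l, j < 819 ∧ M.testBit (look T j) = true := by
  induction l with
  | nil => intro j hj; exact absurd hj List.not_mem_nil
  | cons a l ih =>
    simp only [allAdj, Bool.and_eq_true, Nat.blt_eq] at h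
    intro j hj
    rcases List.mem_cons.1 hj with rfl | hj
    · exact ⟨h.1, h.2.1⟩
    · exact ih h.2.2 j hj

theorem chkR_spec {T : ℕ} {r : List (List ℕ)} : ∀ {i0 : ℕ}, chkR T i0 r = true → ∀ i, i0 ≤ i → i < i0 + r.length → ∀ j,
    adj i j = true → j < 819 ∧ adj (look T i) (look T j) = true := by
  induction r with
  | nil => intro i0 _ i h1 h2; simp at h2; omega
  | cons l r ih =>
    intro i0 h i h1 h2 j hj
    simp only [chkR, Bool.and_eq_true, Nat.beq_eq] at h
    rcases Nat.eq_or_lt_of_le h1 with rfl | h1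
    · unfold adj at hj
      rw [h.1, testBit_bitsL] at hj
      exact allAdj_spec h.2.1 j hj
    · exact ih h.2.2 i h1 (by simp at h2; omega) j hj

theorem len_NB : NB.length = 819 := by decide +kernel

theorem r0 : chkR (tab 0) 0 NB = true := by decide +kernel
theorem r1 : chkR (tab 1) 0 NB = true := by decide +kernel
theorem r2 : chkR (tab 2) 0 NB = true := by decide +kernel
theorem r3 : chkR (tab 3) 0 NB = true := by decide +kernel
theorem r4 : chkR (tab 4) 0 NB = true := by decide +kernel
theorem r5 : chkR (tab 5) 0 NB = true := by decide +kernel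
theorem r6 : chkR (tab 6) 0 NB = true := by decide +kernel
theorem r7 : chkR (tab 7) 0 NB = true := by decide +kernel
theorem r8 : chkR (tab 8) 0 NB = true := by decide +kernel

theorem rr {c : ℕ} (hc : c < 9) : chkR (tab c) 0 NB = true := by
  interval_cases c
  · exact r0
  · exact r1
  · exact r2
  · exact r3
  · exact r4
  · exact r5
  · exact r6
  · exact r7
  · exact r8

theorem adj_lt {i j : ℕ} (hi : i < 819) (h : adj i j = true) : j < 819 :=
  (chkR_spec r0 i (Nat.zero_le _) (by rw [len_NB]; omega) j h).1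

theorem adj_tab {c i j : ℕ} (hc : c < 9) (hi : i < 819) (h : adj i j = true) : adj (look (tab c) i) (look (tab c) j) = true :=
  (chkR_spec (rr hc) i (Nat.zero_le _) (by rw [len_NB]; omega) j h).2

/-- the action -/
abbrev ac (g : PP) (i : ℕ) : ℕ := PP.subtype g i

theorem ac_lt (g : PP) {i : ℕ} (hi : i < 819) : ac g i < 819 := PG_lt c_all g hi

theorem ac_mul (g g' : PP) (i : ℕ) : ac (g * g') i = ac g (ac g' i) := by
  show (PP.subtype (g * g')) i = _
  rw [map_mul]
  rfl

theorem ac_one (i : ℕ) : ac 1 i = i := rfl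

theorem ac_xb {c : ℕ} (hc : c < 9) {i : ℕ} (hi : i < 819) : ac (xb tab iv 819 9 c) i = look (tab c) i := xb_act c_all hc hi

/-- the adjacency is invariant -/
theorem adj_inv (g : PP) {i j : ℕ} (hi : i < 819) (hj : j < 819) : adj (ac g i) (ac g j) = adj i j := by
  let K : Subgroup PP :=
    { carrier := {g | ∀ i < 819, ∀ j < 819, adj (ac g i) (ac g j) = adj i j}
      mul_mem' := by
        intro a b ha hb i hi j hj
        rw [ac_mul, ac_mul, ha _ (ac_lt b hi) _ (ac_lt b hj), hb i hi j hj]
      one_mem' := by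
        intro i _ j _
        rfl
      inv_mem' := by
        intro a ha i hi j hj
        have h1 := ha (ac a⁻¹ i) (ac_lt _ hi) (ac a⁻¹ j) (ac_lt _ hj)
        rw [← ac_mul, ← ac_mul, mul_inv_cancel, ac_one, ac_one] at h1
        exact h1.symm }
  have hK : K = ⊤ := by
    apply PG_top c_all
    intro c hc i hi j hj
    have hivc := (allI_spec c_all c hc).2.1
    have key : ∀ c < 9, ∀ i < 819, ∀ j < 819, adj i j = true → adj (ac (xb tab iv 819 9 c) i) (ac (xb tab iv 819 9 c) j) = true := by
      intro c hc i hi j hj h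
      rw [ac_xb hc hi, ac_xb hc hj]
      exact adj_tab hc hi h
    rw [Bool.eq_iff_iff]
    constructor
    · intro h
      have h2 := key (iv c) hivc _ (ac_lt (xb tab iv 819 9 c) hi) _ (ac_lt (xb tab iv 819 9 c) hj) h
      rw [xb_iv c_all hc, ← ac_mul, ← ac_mul, inv_mul_cancel, ac_one, ac_one] at h2
      exact h2
    · exact key c hc i hi j hj
  have hg : g ∈ K := hK ▸ Subgroup.mem_top g
  exact hg i hi j hj

/-- relation code of two points -/
def relc (p q : ℕ) : ℕ :=
  bif Nat.beq p q then 0 else bif adj p q then 1 else bif Nat.beq (Nat.land (mask p) (mask q)) 0 then 3 else 2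

theorem land_ne (p q : ℕ) : Nat.land (mask p) (mask q) ≠ 0 ↔ ∃ w, adj p w = true ∧ adj q w = true := by
  constructor
  · intro h
    obtain ⟨w, hw⟩ := Nat.exists_testBit_of_ne_zero h
    have h2 : (mask p &&& mask q).testBit w = true := hw
    rw [Nat.testBit_and, Bool.and_eq_true] at h2
    exact ⟨w, h2⟩
  · rintro ⟨w, h1, h2⟩ h0
    have h3 : (mask p &&& mask q).testBit w = true := by
      rw [Nat.testBit_and, Bool.and_eq_true]
      exact ⟨h1, h2⟩
    have h4 : mask p &&& mask q = 0 := h0
    rw [h4, Nat.zero_testBit] at h3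
    exact Bool.noConfusion h3

theorem relc_inv (g : PP) {p q : ℕ} (hp : p < 819) (hq : q < 819) : relc (ac g p) (ac g q) = relc p q := by
  unfold relc
  have e1 : Nat.beq (ac g p) (ac g q) = Nat.beq p q := by
    rw [Bool.eq_iff_iff, Nat.beq_eq, Nat.beq_eq]
    exact (PP.subtype g).injective.eq_iff
  have e2 := adj_inv g hp hq
  have e3 : Nat.beq (Nat.land (mask (ac g p)) (mask (ac g q))) 0 = Nat.beq (Nat.land (mask p) (mask q)) 0 := by
    rw [Bool.eq_iff_iff, Nat.beq_eq, Nat.beq_eq, ← not_iff_not, ← ne_eq, ← ne_eq, land_ne, land_ne]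
    constructor
    · rintro ⟨w, h1, h2⟩
      have hw := adj_lt (ac_lt g hp) h1
      refine ⟨ac g⁻¹ w, ?_, ?_⟩
      · rw [← adj_inv g hp (ac_lt _ hw), ← ac_mul, mul_inv_cancel, ac_one]
        exact h1
      · rw [← adj_inv g hq (ac_lt _ hw), ← ac_mul, mul_inv_cancel, ac_one]
        exact h2
    · rintro ⟨w, h1, h2⟩
      have hw := adj_lt hp h1
      exact ⟨ac g w, by rw [adj_inv g hp hw]; exact h1, by rw [adj_inv g hq hw]; exact h2⟩
  rw [e1, e2, e3]

/-- certificate: a point is in the orbit or has a different relation -/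
def chkZ (W : ℕ → List ℕ) (β : ℕ) : ℕ → List ℕ → Bool
  | _, [] => true
  | z, k :: r => (bif Nat.beq (actw tab (W k) β) z then true else
      not (Nat.beq (relc β (actw tab (W k) β)) (relc z (actw tab (W k) z)))) && (lets 9 (W k) && chkZ W β (z + 1) r)

theorem chkZ_spec {W : ℕ → List ℕ} {β : ℕ} {r : List ℕ} : ∀ {z0 : ℕ}, chkZ W β z0 r = true → ∀ z, z0 ≤ z →
    z < z0 + r.length → ∃ k ∈ r, lets 9 (W k) = true ∧
      (actw tab (W k) β = z ∨ relc β (actw tab (W k) β) ≠ relc z (actw tab (W k) z)) := by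
  induction r with
  | nil => intro i0 _ i h1 h2; simp at h2; omega
  | cons l r ih =>
    intro z0 h z h1 h2
    simp only [chkZ, Bool.and_eq_true] at h
    rcases Nat.eq_or_lt_of_le h1 with rfl | h1
    · refine ⟨l, by simp, h.2.1, ?_⟩
      have h3 := h.1
      cases h4 : Nat.beq (actw tab (W l) β) z0 with
      | true => left; exact Nat.eq_of_beq_eq_true h4
      | false =>
        right
        rw [h4] at h3
        intro h5
        rw [h5] at h3
        have h6 : Nat.beq (relc z0 (actw tab (W l) z0)) (relc z0 (actw tab (W l) z0)) = true := Nat.beq_refl _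
        rw [h6] at h3
        exact Bool.noConfusion h3
    · obtain ⟨k, hk, h3⟩ := ih h.2.2 z h1 (by simp at h2; omega)
      exact ⟨k, List.mem_cons_of_mem _ hk, h3⟩

/-- closure of fixed points -/
def chkC : ℕ → List (ℕ × ℕ × ℕ) → Bool
  | FM, [] => Nat.testBit FM 0 && (Nat.testBit FM 1 && (Nat.testBit FM 42 && Nat.testBit FM 24))
  | FM, (p, q, w) :: r => Nat.testBit FM p && (Nat.testBit FM q && (Nat.beq (Nat.land (mask p) (mask q)) (Nat.shiftLeft 1 w) &&
      chkC (Nat.lor FM (Nat.shiftLeft 1 w)) r))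

theorem one_shift (w j : ℕ) : Nat.testBit (Nat.shiftLeft 1 w) j = true ↔ j = w := by
  show Nat.testBit (1 <<< w) j = true ↔ j = w
  rw [Nat.shiftLeft_eq, one_mul, Nat.testBit_two_pow]
  simp [eq_comm]

theorem chkC_spec (g : PP) {r : List (ℕ × ℕ × ℕ)} : ∀ {FM : ℕ}, chkC FM r = true →
    (∀ i, FM.testBit i = true → i < 819 ∧ ac g i = i) → g = 1 := by
  induction r with
  | nil =>
    intro FM h hF
    simp only [chkC, Bool.and_eq_true] at h
    obtain ⟨_, _, hf, _⟩ := pp_main
    apply hf
    intro b hb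
    have hb' : b = 0 ∨ b = 1 ∨ b = 42 ∨ b = 24 := by
      simpa [base] using hb
    rcases hb' with rfl | rfl | rfl | rfl
    · exact (hF _ h.1).2
    · exact (hF _ h.2.1).2
    · exact (hF _ h.2.2.1).2
    · exact (hF _ h.2.2.2).2
  | cons a r ih =>
    obtain ⟨p, q, w⟩ := a
    intro FM h hF
    simp only [chkC, Bool.and_eq_true] at h
    obtain ⟨h1, h2, h3, h4⟩ := h
    apply ih h4
    intro i hi
    have hi' : (FM ||| Nat.shiftLeft 1 w).testBit i = true := hi
    rw [Nat.testBit_or, Bool.or_eq_true, one_shift] at hi'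
    rcases hi' with hi' | rfl
    · exact hF i hi'
    · obtain ⟨hp, ep⟩ := hF _ h1
      obtain ⟨hq, eq⟩ := hF _ h2
      have h5 := Nat.eq_of_beq_eq_true h3
      have h6 : ∀ j, (adj p j = true ∧ adj q j = true) ↔ j = i := by
        intro j
        rw [← one_shift i j, ← h5]
        show _ ↔ (mask p &&& mask q).testBit j = true
        rw [Nat.testBit_and, Bool.and_eq_true]
        rfl
      obtain ⟨a1, a2⟩ := (h6 i).2 rfl
      have hi8 := adj_lt hp a1
      refine ⟨hi8, ?_⟩
      apply (h6 _).1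
      constructor
      · have := adj_inv g hp hi8
        rw [ep] at this
        rw [this, a1]
      · have := adj_inv g hq hi8
        rw [eq] at this
        rw [this, a2]

/-- value of a word -/
noncomputable abbrev evp (w : List ℕ) : PP := ev (xb tab iv 819 9) w

theorem ac_ev {w : List ℕ} (hw : lets 9 w = true) {i : ℕ} (hi : i < 819) : ac (evp w) i = actw tab w i :=
  (actw_eq (φ := PP.subtype) (fun c hc i hi => xb_act c_all hc hi) (fun c hc i hi => base_lt c_all hc hi) w hw i hi).1

/-- the fixed points mask -/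
def FM (W : ℕ → List ℕ) (β : ℕ) (ks : List ℕ) : ℕ := bitsL (ks.map fun k => actw tab (W k) β)

/-- general criterion: an element commuting with an abelian group given by words -/
theorem centr_main {W : ℕ → List ℕ} {β : ℕ} (hβ : β < 819) {C ks : List ℕ} {S : List (ℕ × ℕ × ℕ)}
    (h1 : chkZ W β 0 C = true) (hC : C.length = 819) (h2 : chkC (FM W β ks) S = true)
    (hk : (ks.all fun k => lets 9 (W k)) = true) {q : PP} (hq : ∀ k, q * evp (W k) = evp (W k) * q)
    (hab : ∀ k k', evp (W k) * evp (W k') = evp (W k') * evp (W k)) : ∃ k ∈ C, q = evp (W k) := by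
  have hqβ := ac_lt q hβ
  obtain ⟨k, hkC, hl, h3⟩ := chkZ_spec h1 (ac q β) (Nat.zero_le _) (by rw [hC]; omega)
  refine ⟨k, hkC, ?_⟩
  have h4 : ac (evp (W k)) β = ac q β := by
    rcases h3 with h3 | h3
    · rw [ac_ev hl hβ, h3]
    · exfalso
      apply h3
      rw [← ac_ev hl hβ, ← ac_ev hl hqβ, ← ac_mul, ← hq k, ac_mul]
      exact (relc_inv q hβ (ac_lt _ hβ)).symm
  have h5 : (evp (W k))⁻¹ * q = 1 := by
    apply chkC_spec _ h2
    intro i hi
    unfold FM at hi
    rw [testBit_bitsL, List.mem_map] at hi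
    obtain ⟨k', hk', rfl⟩ := hi
    have hl' := List.all_eq_true.1 hk k' hk'
    rw [← ac_ev hl' hβ]
    refine ⟨ac_lt _ hβ, ?_⟩
    have hcom : ((evp (W k))⁻¹ * q) * evp (W k') = evp (W k') * ((evp (W k))⁻¹ * q) := by
      have e1 : (evp (W k))⁻¹ * evp (W k') = evp (W k') * (evp (W k))⁻¹ := by
        have e2 := hab k k'
        calc (evp (W k))⁻¹ * evp (W k') = (evp (W k))⁻¹ * (evp (W k') * evp (W k)) * (evp (W k))⁻¹ := by group
          _ = (evp (W k))⁻¹ * (evp (W k) * evp (W k')) * (evp (W k))⁻¹ := by rw [e2]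
          _ = _ := by group
      rw [mul_assoc, hq k', ← mul_assoc, e1, mul_assoc]
    rw [← ac_mul, hcom, ac_mul]
    congr 1
    rw [ac_mul, ← h4, ← ac_mul, inv_mul_cancel, ac_one]
  exact (inv_mul_eq_one.1 h5).symm

/-- repetition -/
def rep (w : List ℕ) : ℕ → List ℕ
  | 0 => []
  | n + 1 => w ++ rep w n

theorem ev_rep {P : Type*} [Group P] (xs : ℕ → P) (w : List ℕ) (n : ℕ) : ev xs (rep w n) = ev xs w ^ n := by
  induction n with
  | zero => rw [pow_zero]; rfl
  | succ n ih => rw [rep, ev_append, ih, pow_succ']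

/-- words of the group of order 49 -/
def W1 (k : ℕ) : List ℕ := rep [5] (k / 7) ++ rep [2, 1, 3, 2, 3] (k % 7)

/-- words of the group of order 21 -/
def W2 (k : ℕ) : List ℕ := rep [5] (k / 3) ++ rep [0, 1] (k % 3)

theorem z1 : chkZ W1 9 0 C1 = true := by decide +kernel
theorem z2 : chkZ W2 9 0 C2 = true := by decide +kernel
theorem l1 : C1.length = 819 := by decide +kernel
theorem l2 : C2.length = 819 := by decide +kernel
theorem f1 : chkC (FM W1 9 (List.range 49)) S1 = true := by decide +kernel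
theorem f2 : chkC (FM W2 9 (List.range 21)) S2 = true := by decide +kernel
theorem k1 : ((List.range 49).all fun k => lets 9 (W1 k)) = true := by decide +kernel
theorem k2 : ((List.range 21).all fun k => lets 9 (W2 k)) = true := by decide +kernel

/-- the centralizer of the group of order 49 -/
theorem Z1P {q : PP} (hs : q * evp [5] = evp [5] * q) (hx : q * evp [2, 1, 3, 2, 3] = evp [2, 1, 3, 2, 3] * q)
    (hsx : evp [5] * evp [2, 1, 3, 2, 3] = evp [2, 1, 3, 2, 3] * evp [5]) :
    ∃ i j : ℕ, q = evp [5] ^ i * evp [2, 1, 3, 2, 3] ^ j := by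
  have e : ∀ k, evp (W1 k) = evp [5] ^ (k / 7) * evp [2, 1, 3, 2, 3] ^ (k % 7) := by
    intro k
    show ev _ _ = _
    unfold W1
    rw [ev_append, ev_rep, ev_rep]
  obtain ⟨k, _, hk⟩ := centr_main (W := W1) (by norm_num) z1 l1 f1 k1 (q := q)
    (fun k => by
      rw [e]
      have c1 : Commute q (evp [5]) := hs
      have c2 : Commute q (evp [2, 1, 3, 2, 3]) := hx
      exact ((c1.pow_right _).mul_right (c2.pow_right _)).eq)
    (fun k k' => by
      rw [e, e]
      have c1 : Commute (evp [5]) (evp [2, 1, 3, 2, 3]) := hsx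
      have c2 : Commute (evp [5]) (evp [5]) := Commute.refl _
      have c3 : Commute (evp [2, 1, 3, 2, 3]) (evp [2, 1, 3, 2, 3]) := Commute.refl _
      exact (((c2.pow_pow _ _).mul_right (c1.pow_pow _ _)).mul_left ((c1.symm.pow_pow _ _).mul_right (c3.pow_pow _ _))).eq)
  exact ⟨k / 7, k % 7, by rw [hk, e]⟩

/-- the centralizer of the group of order 21 -/
theorem Z2P {q : PP} (hs : q * evp [5] = evp [5] * q) (hx : q * evp [0, 1] = evp [0, 1] * q)
    (hsx : evp [5] * evp [0, 1] = evp [0, 1] * evp [5]) :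
    ∃ i j : ℕ, q = evp [5] ^ i * evp [0, 1] ^ j := by
  have e : ∀ k, evp (W2 k) = evp [5] ^ (k / 3) * evp [0, 1] ^ (k % 3) := by
    intro k
    show ev _ _ = _
    unfold W2
    rw [ev_append, ev_rep, ev_rep]
  obtain ⟨k, _, hk⟩ := centr_main (W := W2) (by norm_num) z2 l2 f2 k2 (q := q)
    (fun k => by
      rw [e]
      have c1 : Commute q (evp [5]) := hs
      have c2 : Commute q (evp [0, 1]) := hx
      exact ((c1.pow_right _).mul_right (c2.pow_right _)).eq)
    (fun k k' => by
      rw [e, e]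
      have c1 : Commute (evp [5]) (evp [0, 1]) := hsx
      have c2 : Commute (evp [5]) (evp [5]) := Commute.refl _
      have c3 : Commute (evp [0, 1]) (evp [0, 1]) := Commute.refl _
      exact (((c2.pow_pow _ _).mul_right (c1.pow_pow _ _)).mul_left ((c1.symm.pow_pow _ _).mul_right (c3.pow_pow _ _))).eq)
  exact ⟨k / 3, k % 3, by rw [hk, e]⟩

end Cfsg.Agent.Lib.H72ThZ
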