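import Mathlib

/-!
# Finite dimensional algebras: corners, matrix units, trace forms
-/

set_option autoImplicit false
set_option linter.all false

namespace Cfsg.Agent.Lib.H76Alg

universe u v

/-! ### corners -/

section corner

/-- bundled idempotents -/
structure Idem (A : Type u) [Ring A] where
  /-- the element -/
  e : A
  he : e * e = e

variable {k : Type v} [Field k] {A : Type u} [Ring A] [Algebra k A]

/-- the corner `eAe` as a subspace -/
def cor (k : Type v) [Field k] {A : Type u} [Ring A] [Algebra k A] (e : Idem A) : Submodule k A where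
  carrier := {x | e.e * x = x ∧ x * e.e = x}
  add_mem' := by
    rintro a b ⟨h1, h2⟩ ⟨h3, h4⟩
    exact ⟨by rw [mul_add, h1, h3], by rw [add_mul, h2, h4]⟩
  zero_mem' := ⟨mul_zero _, zero_mul _⟩
  smul_mem' := by
    rintro c a ⟨h1, h2⟩
    exact ⟨by rw [mul_smul_comm, h1], by rw [smul_mul_assoc, h2]⟩

theorem mem_cor {e : Idem A} {x : A} : x ∈ cor k e ↔ e.e * x = x ∧ x * e.e = x := Iff.rfl

theorem e_mem (e : Idem A) : e.e ∈ cor k e := ⟨e.he, e.he⟩

theorem mul_mem' {e : Idem A} {x y : A} (hx : x ∈ cor k e) (hy : y ∈ cor k e) : x * y ∈ cor k e :=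
  ⟨by rw [← mul_assoc, hx.1], by rw [mul_assoc, hy.2]⟩

theorem mid_mem (e : Idem A) (x : A) : e.e * x * e.e ∈ cor k e :=
  ⟨by rw [← mul_assoc, ← mul_assoc, e.he], by rw [mul_assoc, e.he]⟩

theorem mid_eq {e : Idem A} {x : A} (hx : x ∈ cor k e) : e.e * x * e.e = x := by
  rw [hx.1, hx.2]

/-- the corner algebra -/
def Cor (k : Type v) [Field k] {A : Type u} [Ring A] [Algebra k A] (e : Idem A) : Type u := cor k e

instance (e : Idem A) : AddCommGroup (Cor k e) := inferInstanceAs (AddCommGroup (cor k e))
instance (e : Idem A) : Module k (Cor k e) := inferInstanceAs (Module k (cor k e))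

instance [FiniteDimensional k A] (e : Idem A) : FiniteDimensional k (Cor k e) :=
  inferInstanceAs (FiniteDimensional k (cor k e))

/-- the inclusion -/
def inc {e : Idem A} : Cor k e →ₗ[k] A := (cor k e).subtype

theorem inc_inj {e : Idem A} : Function.Injective (inc : Cor k e →ₗ[k] A) :=
  (cor k e).injective_subtype

/-- constructor -/
def mkC {e : Idem A} (x : A) (hx : x ∈ cor k e) : Cor k e := ⟨x, hx⟩

@[simp] theorem inc_mkC {e : Idem A} (x : A) (hx : x ∈ cor k e) : inc (mkC x hx : Cor k e) = x := rfl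

theorem inc_mem {e : Idem A} (x : Cor k e) : (inc x : A) ∈ cor k e := x.2

theorem range_inc (e : Idem A) : LinearMap.range (inc : Cor k e →ₗ[k] A) = cor k e :=
  Submodule.range_subtype _

instance (e : Idem A) : Ring (Cor k e) :=
  { (inferInstance : AddCommGroup (Cor k e)) with
    mul := fun x y => mkC (inc x * inc y) (mul_mem' (inc_mem x) (inc_mem y))
    one := mkC e.e (e_mem e)
    mul_assoc := fun x y z => inc_inj (mul_assoc (inc x) (inc y) (inc z))
    one_mul := fun x => inc_inj (inc_mem x).1
    mul_one := fun x => inc_inj (inc_mem x).2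
    left_distrib := fun x y z => inc_inj (mul_add (inc x) (inc y) (inc z))
    right_distrib := fun x y z => inc_inj (add_mul (inc x) (inc y) (inc z))
    zero_mul := fun x => inc_inj (zero_mul (inc x))
    mul_zero := fun x => inc_inj (mul_zero (inc x)) }

@[simp] theorem inc_mul {e : Idem A} (x y : Cor k e) : inc (x * y) = inc x * inc y := rfl

@[simp] theorem inc_one {e : Idem A} : inc (1 : Cor k e) = e.e := rfl

instance (e : Idem A) : Algebra k (Cor k e) :=
  Algebra.ofModule
    (fun c x y => inc_inj (smul_mul_assoc c (inc x) (inc y)))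
    (fun c x y => inc_inj (mul_smul_comm c (inc x) (inc y)))

theorem inc_pow {e : Idem A} (x : Cor k e) (n : ℕ) : inc (x ^ (n + 1)) = inc x ^ (n + 1) := by
  induction n with
  | zero => simp
  | succ n ih => rw [pow_succ, inc_mul, ih, ← pow_succ]

theorem isNilpotent_of_inc {e : Idem A} {x : Cor k e} (h : IsNilpotent (inc x)) : IsNilpotent x := by
  obtain ⟨n, hn⟩ := h
  refine ⟨n + 1, inc_inj ?_⟩
  rw [inc_pow, pow_succ, hn, zero_mul, map_zero]

theorem inc_isNilpotent {e : Idem A} {x : Cor k e} (h : IsNilpotent x) : IsNilpotent (inc x) := by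
  obtain ⟨n, hn⟩ := h
  refine ⟨n + 1, ?_⟩
  rw [← inc_pow, pow_succ, hn, zero_mul, map_zero]

theorem finrank_cor (e : Idem A) : Module.finrank k (Cor k e) = Module.finrank k (cor k e) := rfl

/-- the projection to the corner -/
def prj {e : Idem A} : A →ₗ[k] Cor k e where
  toFun x := mkC (e.e * x * e.e) (mid_mem e x)
  map_add' x y := inc_inj (by simp [mul_add, add_mul])
  map_smul' c x := inc_inj (by simp)

@[simp] theorem inc_prj {e : Idem A} (x : A) : inc (prj x : Cor k e) = e.e * x * e.e := rfl

theorem prj_inc {e : Idem A} (x : Cor k e) : prj (inc x) = x := inc_inj (mid_eq (inc_mem x))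

end corner

/-! ### trace functionals -/

section trace

variable {k : Type v} [Field k] {A : Type u} [Ring A] [Algebra k A]

/-- the space of trace functionals -/
def Tr (k : Type v) [Field k] (A : Type u) [Ring A] [Algebra k A] : Submodule k (A →ₗ[k] k) where
  carrier := {f | ∀ a b, f (a * b) = f (b * a)}
  add_mem' := by
    intro f g hf hg a b
    simp only [LinearMap.add_apply, hf a b, hg a b]
  zero_mem' := fun a b => rfl
  smul_mem' := by
    intro c f hf a b
    simp only [LinearMap.smul_apply, hf a b]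

theorem mem_Tr {f : A →ₗ[k] k} : f ∈ Tr k A ↔ ∀ a b, f (a * b) = f (b * a) := Iff.rfl

theorem finrank_Tr_of_comm [FiniteDimensional k A] (h : ∀ a b : A, a * b = b * a) :
    Module.finrank k (Tr k A) = Module.finrank k A := by
  have h1 : Tr k A = ⊤ := by
    rw [eq_top_iff]
    intro f _ a b
    rw [h]
  rw [h1, finrank_top]
  exact Subspace.dual_finrank_eq

end trace

/-! ### matrix units -/

section units

variable {k : Type v} [Field k] {A : Type u} [Ring A] [Algebra k A]

theorem isUnit_one_add_nil {x : A} (hx : IsNilpotent x) : IsUnit (1 + x) := hx.isUnit_one_add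

/-- lifting of matrix units along a nil kernel -/
theorem exists_matrix_units {f : ℕ} [NeZero f] (φ : A →ₐ[k] Matrix (Fin f) (Fin f) k)
    (hs : Function.Surjective φ) (hn : ∀ a, φ a = 0 → IsNilpotent a) :
    ∃ E : Fin f → Fin f → A, (∀ i j i' j', E i j * E i' j' = if j = i' then E i j' else 0) ∧
      ∑ i, E i i = 1 ∧ ∀ i j, φ (E i j) = Matrix.single i j 1 := by
  classical
  set m : Fin f → Fin f → Matrix (Fin f) (Fin f) k := fun i j => Matrix.single i j 1 with hm
  have hmm : ∀ i j i' j', m i j * m i' j' = if j = i' then m i j' else 0 := by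
    intro i j i' j'
    split_ifs with h
    · subst h
      simp [hm]
    · simp [hm, h]
  have hco : CompleteOrthogonalIdempotents (fun i => m i i) := by
    refine ⟨⟨fun i => ?_, fun i j hij => ?_⟩, ?_⟩
    · show m i i * m i i = m i i
      rw [hmm, if_pos rfl]
    · show m i i * m j j = 0
      rw [hmm, if_neg hij]
    · ext i j
      rw [Matrix.sum_apply]
      simp only [hm, Matrix.single_apply, Matrix.one_apply]
      rcases eq_or_ne i j with rfl | h
      · simp
      · rw [if_neg h]
        apply Finset.sum_eq_zero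
        intro x _
        rw [if_neg]
        rintro ⟨rfl, rfl⟩
        exact h rfl
  obtain ⟨e, he, hφe⟩ := CompleteOrthogonalIdempotents.lift_of_isNilpotent_ker φ.toRingHom
    (fun x hx => hn x (RingHom.mem_ker.mp hx)) hco (fun i => ⟨(hs (m i i)).choose, (hs (m i i)).choose_spec⟩)
  have hφ : ∀ i, φ (e i) = m i i := fun i => congrFun hφe i
  have hid : ∀ i, e i * e i = e i := fun i => he.idem i
  have hor : ∀ i j, i ≠ j → e i * e j = 0 := fun i j h => he.ortho h
  -- the units `a j : e 0 A e j`, `b j : e j A e 0`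
  have key : ∀ j, ∃ a b : A, e 0 * a = a ∧ a * e j = a ∧ e j * b = b ∧ b * e 0 = b ∧
      a * b = e 0 ∧ b * a = e j ∧ φ a = m 0 j ∧ φ b = m j 0 ∧ (j = 0 → a = e 0 ∧ b = e 0) := by
    intro j
    rcases eq_or_ne j 0 with rfl | hj
    · exact ⟨e 0, e 0, hid 0, hid 0, hid 0, hid 0, hid 0, hid 0, hφ 0, hφ 0, fun _ => ⟨rfl, rfl⟩⟩
    obtain ⟨a', ha'⟩ := hs (m 0 j)
    obtain ⟨b', hb'⟩ := hs (m j 0)
    obtain ⟨a, ha⟩ : ∃ a, a = e 0 * a' * e j := ⟨_, rfl⟩
    obtain ⟨b, hb⟩ : ∃ b, b = e j * b' * e 0 := ⟨_, rfl⟩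
    have ha1 : e 0 * a = a := by rw [ha, ← mul_assoc, ← mul_assoc, hid]
    have ha2 : a * e j = a := by rw [ha, mul_assoc, hid]
    have hb1 : e j * b = b := by rw [hb, ← mul_assoc, ← mul_assoc, hid]
    have hb2 : b * e 0 = b := by rw [hb, mul_assoc, hid]
    have hφa : φ a = m 0 j := by
      rw [ha, map_mul, map_mul, hφ, hφ, ha', hmm, if_pos rfl, hmm, if_pos rfl]
    have hφb : φ b = m j 0 := by
      rw [hb, map_mul, map_mul, hφ, hφ, hb', hmm, if_pos rfl, hmm, if_pos rfl]
    -- `a b = e 0 - n`
    obtain ⟨n, hn'⟩ : ∃ n, n = a * b - e 0 := ⟨_, rfl⟩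
    have hφn : φ n = 0 := by
      rw [hn', map_sub, map_mul, hφa, hφb, hφ, hmm, if_pos rfl, sub_self]
    have hnn : IsNilpotent n := hn n hφn
    obtain ⟨u, hu⟩ := hnn.isUnit_one_add
    have h0n : e 0 * n = n := by rw [hn', mul_sub, ← mul_assoc, ha1, hid]
    have hn0 : n * e 0 = n := by rw [hn', sub_mul, mul_assoc, hb2, hid]
    have hcomm : (↑u⁻¹ : A) * e 0 = e 0 * ↑u⁻¹ := by
      have h1 : (u : A) * e 0 = e 0 * u := by
        rw [hu, add_mul, mul_add, one_mul, mul_one, h0n, hn0]
      calc (↑u⁻¹ : A) * e 0 = ↑u⁻¹ * (e 0 * u) * ↑u⁻¹ := by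
            rw [mul_assoc, mul_assoc, Units.mul_inv, mul_one]
        _ = ↑u⁻¹ * (u * e 0) * ↑u⁻¹ := by rw [h1]
        _ = e 0 * ↑u⁻¹ := by rw [← mul_assoc, Units.inv_mul, one_mul]
    have hab : a * b = u * e 0 := by
      rw [hu, add_mul, one_mul, hn0, hn']
      abel
    have hφu : φ (↑u⁻¹ : A) * φ (u : A) = 1 := by rw [← map_mul, Units.inv_mul, map_one]
    have hφu1 : φ (u : A) = 1 := by rw [hu, map_add, map_one, hφn, add_zero]
    have hφu2 : φ (↑u⁻¹ : A) = 1 := by rw [hφu1, mul_one] at hφu; exact hφu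
    have hab1 : (↑u⁻¹ * a) * b = e 0 := by
      rw [mul_assoc, hab, ← mul_assoc, Units.inv_mul, one_mul]
    have hA1 : e 0 * (↑u⁻¹ * a) = ↑u⁻¹ * a := by
      rw [← mul_assoc, ← hcomm, mul_assoc, ha1]
    have hA2 : (↑u⁻¹ * a) * e j = ↑u⁻¹ * a := by rw [mul_assoc, ha2]
    refine ⟨↑u⁻¹ * a, b, hA1, hA2, hb1, hb2, hab1, ?_, ?_, hφb, fun h => absurd h hj⟩
    · -- `b a` is an idempotent congruent to `e j`
      obtain ⟨c, hc⟩ : ∃ c, c = b * (↑u⁻¹ * a) := ⟨_, rfl⟩
      rw [← hc]
      have hcc : c * c = c := by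
        calc c * c = b * ((↑u⁻¹ * a) * b) * (↑u⁻¹ * a) := by simp only [hc, mul_assoc]
          _ = c := by rw [hab1, hb2, ← hc]
      have hjc : e j * c = c := by rw [hc, ← mul_assoc, hb1]
      have hcj : c * e j = c := by rw [hc, mul_assoc, hA2]
      have hid' : (e j - c) * (e j - c) = e j - c := by
        rw [sub_mul, mul_sub, mul_sub, hid, hjc, hcj, hcc, sub_self, sub_zero]
      have hφc : φ (e j - c) = 0 := by
        rw [map_sub, hc, map_mul, map_mul, hφu2, one_mul, hφa, hφb, hφ, hmm, if_pos rfl, sub_self]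
      obtain ⟨N, hN⟩ := hn _ hφc
      have hp : ∀ N : ℕ, (e j - c) ^ (N + 1) = e j - c := by
        intro N
        induction N with
        | zero => simp
        | succ N ih => rw [pow_succ, ih, hid']
      have := hp N
      rw [pow_succ, hN, zero_mul] at this
      exact (sub_eq_zero.mp this.symm).symm
    · rw [map_mul, hφu2, one_mul, hφa]
  choose a b h1 h2 h3 h4 h5 h6 h7 h8 h9 using key
  refine ⟨fun i j => b i * a j, ?_, ?_, ?_⟩
  · intro i j i' j'
    show b i * a j * (b i' * a j') = _
    split_ifs with h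
    · subst h
      calc b i * a j * (b j * a j') = b i * (a j * b j) * a j' := by simp only [mul_assoc]
        _ = b i * a j' := by rw [h5, h4]
    · calc b i * a j * (b i' * a j') = b i * (a j * e j * (e i' * b i')) * a j' := by
            rw [h2, h3]; simp only [mul_assoc]
        _ = b i * (a j * (e j * e i') * b i') * a j' := by simp only [mul_assoc]
        _ = 0 := by rw [hor j i' h]; simp
  · rw [← he.complete]
    exact Finset.sum_congr rfl fun i _ => h6 i
  · intro i j
    rw [map_mul, h7, h8, hmm, if_pos rfl]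

/-- matrix units -/
structure MU {A : Type u} [Ring A] (f : ℕ) [NeZero f] (E : Fin f → Fin f → A) : Prop where
  mul : ∀ i j i' j', E i j * E i' j' = if j = i' then E i j' else 0
  one : ∑ i, E i i = 1

variable {f : ℕ} [NeZero f] {E : Fin f → Fin f → A}

theorem MU.mul_self (hE : MU f E) (i j l : Fin f) : E i j * E j l = E i l := by
  rw [hE.mul, if_pos rfl]

theorem MU.mul_ne (hE : MU f E) {i j i' j' : Fin f} (h : j ≠ i') : E i j * E i' j' = 0 := by
  rw [hE.mul, if_neg h]

/-- the idempotent `E 0 0` -/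
def MU.idem (hE : MU f E) : Idem A := ⟨E 0 0, hE.mul_self 0 0 0⟩

@[simp] theorem MU.idem_e (hE : MU f E) : hE.idem.e = E 0 0 := rfl

theorem MU.mem_corner (hE : MU f E) (a : A) (i j : Fin f) : E 0 i * a * E j 0 ∈ cor k hE.idem := by
  refine ⟨?_, ?_⟩
  · rw [MU.idem_e, ← mul_assoc, ← mul_assoc, hE.mul_self]
  · rw [MU.idem_e, mul_assoc, hE.mul_self]

/-- the `(i,j)` entry -/
def MU.entry (k : Type v) [Field k] {A : Type u} [Ring A] [Algebra k A] {f : ℕ} [NeZero f]
    {E : Fin f → Fin f → A} (hE : MU f E) (i j : Fin f) : A →ₗ[k] Cor k hE.idem where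
  toFun a := mkC (E 0 i * a * E j 0) (hE.mem_corner a i j)
  map_add' x y := inc_inj (by simp [mul_add, add_mul])
  map_smul' c x := inc_inj (by simp)

@[simp] theorem MU.inc_entry (hE : MU f E) (i j : Fin f) (a : A) :
    inc (hE.entry k i j a) = E 0 i * a * E j 0 := rfl

theorem MU.sum_entry (hE : MU f E) (a : A) :
    ∑ i, ∑ j, E i 0 * (inc (hE.entry k i j a)) * E 0 j = a := by
  have h1 : ∀ i j, E i 0 * (inc (hE.entry k i j a)) * E 0 j = E i i * a * E j j := by
    intro i j
    rw [MU.inc_entry]
    calc E i 0 * (E 0 i * a * E j 0) * E 0 j = (E i 0 * E 0 i) * a * (E j 0 * E 0 j) := by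
          simp only [mul_assoc]
      _ = _ := by rw [hE.mul_self, hE.mul_self]
  simp only [h1, ← Finset.mul_sum, hE.one, mul_one, ← Finset.sum_mul, one_mul]

/-- the algebra is a matrix algebra over the corner, as a vector space -/
noncomputable def MU.equiv (k : Type v) [Field k] {A : Type u} [Ring A] [Algebra k A] {f : ℕ} [NeZero f]
    {E : Fin f → Fin f → A} (hE : MU f E) : A ≃ₗ[k] (Fin f → Fin f → Cor k hE.idem) where
  toFun a := fun i j => hE.entry k i j a
  map_add' x y := by
    funext i j
    simp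
  map_smul' c x := by
    funext i j
    simp
  invFun r := ∑ i, ∑ j, E i 0 * inc (r i j) * E 0 j
  left_inv a := hE.sum_entry a
  right_inv r := by
    funext i j
    apply inc_inj
    rw [MU.inc_entry, Finset.mul_sum, Finset.sum_mul]
    rw [Finset.sum_eq_single i]
    · rw [Finset.mul_sum, Finset.sum_mul, Finset.sum_eq_single j]
      · calc E 0 i * (E i 0 * inc (r i j) * E 0 j) * E j 0
            = (E 0 i * E i 0) * inc (r i j) * (E 0 j * E j 0) := by simp only [mul_assoc]
          _ = inc (r i j) := by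
            rw [hE.mul_self, hE.mul_self]
            exact mid_eq (inc_mem (r i j))
      · intro b _ hb
        calc E 0 i * (E i 0 * inc (r i b) * E 0 b) * E j 0
            = (E 0 i * E i 0) * inc (r i b) * (E 0 b * E j 0) := by simp only [mul_assoc]
          _ = 0 := by rw [hE.mul_ne hb, mul_zero]
      · intro h; exact absurd (Finset.mem_univ _) h
    · intro b _ hb
      rw [Finset.mul_sum, Finset.sum_mul]
      apply Finset.sum_eq_zero
      intro j' _
      calc E 0 i * (E b 0 * inc (r b j') * E 0 j') * E j 0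
            = (E 0 i * E b 0) * inc (r b j') * (E 0 j' * E j 0) := by simp only [mul_assoc]
          _ = 0 := by rw [hE.mul_ne (Ne.symm hb), zero_mul, zero_mul]
    · intro h; exact absurd (Finset.mem_univ _) h

theorem MU.finrank_eq [FiniteDimensional k A] (hE : MU f E) :
    Module.finrank k A = f ^ 2 * Module.finrank k (Cor k hE.idem) := by
  rw [(hE.equiv k).finrank_eq, Module.finrank_pi_fintype]
  simp only [Module.finrank_pi_fintype, Finset.sum_const, Finset.card_univ, Fintype.card_fin,
    smul_eq_mul]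
  ring

/-- extension of trace functionals from the corner -/
noncomputable def MU.ext (k : Type v) [Field k] {A : Type u} [Ring A] [Algebra k A] {f : ℕ} [NeZero f]
    {E : Fin f → Fin f → A} (hE : MU f E) : (Cor k hE.idem →ₗ[k] k) →ₗ[k] (A →ₗ[k] k) where
  toFun g := ∑ i, g ∘ₗ hE.entry k i i
  map_add' x y := by
    ext a
    simp [Finset.sum_add_distrib]
  map_smul' c x := by
    ext a
    simp [Finset.mul_sum]

theorem MU.ext_apply (hE : MU f E) (g : Cor k hE.idem →ₗ[k] k) (a : A) :
    hE.ext k g a = ∑ i, g (hE.entry k i i a) := by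
  show (∑ i, g ∘ₗ hE.entry k i i) a = _
  rw [LinearMap.sum_apply]
  rfl

theorem MU.entry_mul (hE : MU f E) (i j : Fin f) (a b : A) :
    hE.entry k i j (a * b) = ∑ l, hE.entry k i l a * hE.entry k l j b := by
  apply inc_inj
  rw [map_sum]
  simp only [inc_mul, MU.inc_entry]
  calc E 0 i * (a * b) * E j 0 = E 0 i * (a * (∑ l, E l l) * b) * E j 0 := by rw [hE.one, mul_one]
    _ = ∑ l, E 0 i * (a * E l l * b) * E j 0 := by
      rw [Finset.mul_sum, Finset.sum_mul, Finset.mul_sum, Finset.sum_mul]
    _ = _ := by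
      apply Finset.sum_congr rfl
      intro l _
      rw [← hE.mul_self l 0 l]
      simp only [mul_assoc]

theorem MU.ext_mem (hE : MU f E) {g : Cor k hE.idem →ₗ[k] k} (hg : g ∈ Tr k (Cor k hE.idem)) :
    hE.ext k g ∈ Tr k A := by
  intro a b
  rw [MU.ext_apply, MU.ext_apply]
  simp only [MU.entry_mul, map_sum]
  rw [Finset.sum_comm]
  refine Finset.sum_congr rfl fun i _ => Finset.sum_congr rfl fun j _ => ?_
  exact hg _ _

theorem MU.ext_inc (hE : MU f E) (g : Cor k hE.idem →ₗ[k] k) (r : Cor k hE.idem) :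
    hE.ext k g (inc r) = g r := by
  rw [MU.ext_apply, Finset.sum_eq_single (0 : Fin f)]
  · congr 1
    apply inc_inj
    rw [MU.inc_entry]
    exact mid_eq (inc_mem r)
  · intro i _ hi
    have : hE.entry k i i (inc r) = 0 := by
      apply inc_inj
      rw [MU.inc_entry, map_zero, ← (inc_mem r).1, MU.idem_e, ← mul_assoc, hE.mul_ne hi, zero_mul,
        zero_mul]
    rw [this, map_zero]
  · intro h; exact absurd (Finset.mem_univ _) h

/-- trace functionals of the algebra and of the corner correspond -/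
theorem MU.finrank_Tr [FiniteDimensional k A] (hE : MU f E) :
    Module.finrank k (Tr k (Cor k hE.idem)) = Module.finrank k (Tr k A) := by
  apply le_antisymm
  · let F : Tr k (Cor k hE.idem) →ₗ[k] Tr k A :=
      (hE.ext k).restrict (fun g hg => hE.ext_mem hg)
    have hF : Function.Injective F := by
      rw [injective_iff_map_eq_zero]
      intro g hg
      apply Subtype.ext
      ext r
      have h1 : hE.ext k (g : Cor k hE.idem →ₗ[k] k) = 0 := congrArg Subtype.val hg
      rw [← hE.ext_inc, h1]
      rfl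
    exact LinearMap.finrank_le_finrank_of_injective hF
  · let F : Tr k A →ₗ[k] Tr k (Cor k hE.idem) :=
      { toFun := fun g => ⟨(g : A →ₗ[k] k) ∘ₗ inc, fun a b => by
          show (g : A →ₗ[k] k) (inc (a * b)) = (g : A →ₗ[k] k) (inc (b * a))
          rw [inc_mul, inc_mul]
          exact g.2 _ _⟩
        map_add' := fun x y => rfl
        map_smul' := fun c x => rfl }
    have hF : Function.Injective F := by
      rw [injective_iff_map_eq_zero]
      intro g hg
      apply Subtype.ext
      ext a
      have h1 : ∀ r : Cor k hE.idem, (g : A →ₗ[k] k) (inc r) = 0 := by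
        intro r
        have := congrArg Subtype.val hg
        exact LinearMap.congr_fun this r
      have h2 := hE.sum_entry (k := k) a
      rw [← h2, map_sum]
      show _ = (0 : k)
      apply Finset.sum_eq_zero
      intro i _
      rw [map_sum]
      apply Finset.sum_eq_zero
      intro j _
      have h3 : (g : A →ₗ[k] k) (E i 0 * inc (hE.entry k i j a) * E 0 j) =
          (g : A →ₗ[k] k) (E 0 j * (E i 0 * inc (hE.entry k i j a))) := g.2 _ _
      rw [h3, ← mul_assoc, hE.mul]
      split_ifs with h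
      · subst h
        have h4 : E 0 0 * inc (hE.entry k j j a) = inc (hE.entry k j j a) :=
          (inc_mem (hE.entry k j j a)).1
        rw [h4]
        exact h1 _
      · rw [zero_mul, map_zero]
    exact LinearMap.finrank_le_finrank_of_injective hF

end units

end Cfsg.Agent.Lib.H76Alg
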