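import Cfsg.Agent.Lib.H76BDim2

/-!
# The block algebra as a symmetric algebra with local centre
-/

set_option autoImplicit false
set_option linter.all false
set_option synthInstance.maxHeartbeats 400000

namespace Cfsg.Agent.Lib.H76BDim

open Cfsg Cfsg.Agent.Lib.BlockRing Cfsg.Agent.Lib.BlockGA Cfsg.Agent.Lib.BlockIdem
open Cfsg.Agent.Lib.BlockAlg Cfsg.Agent.Lib.CharBasic Cfsg.Agent.Lib.H76Alg
open scoped ComplexConjugate

universe u

section abs

variable {K : Type*} [Field K] {G : Type u} [Group G] [Finite G]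

/-- the coefficient at one -/
noncomputable def c1 (K : Type*) [Field K] (G : Type u) [Group G] : MonoidAlgebra K G →ₗ[K] K where
  toFun x := x.coeff 1
  map_add' _ _ := rfl
  map_smul' _ _ := rfl

theorem c1_apply (x : MonoidAlgebra K G) : c1 K G x = x.coeff 1 := rfl

theorem c1_comm (x y : MonoidAlgebra K G) : c1 K G (x * y) = c1 K G (y * x) := by
  classical
  have := Fintype.ofFinite G
  rw [c1_apply, c1_apply, BrauerMap.mul_coeff, BrauerMap.mul_coeff', ]
  refine Finset.sum_congr rfl fun g _ => ?_
  rw [mul_one, one_mul, mul_comm]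

theorem c1_single_mul (g : G) (x : MonoidAlgebra K G) :
    c1 K G (MonoidAlgebra.single g⁻¹ 1 * x) = x.coeff g := by
  rw [c1_apply, MonoidAlgebra.coeff_single_mul_apply, one_mul, inv_inv, mul_one]

theorem c1_nd {x : MonoidAlgebra K G} (h : ∀ y, c1 K G (x * y) = 0) : x = 0 := by
  apply BrauerMap.ext_coeff
  intro g
  rw [← c1_single_mul, c1_comm, h]
  rfl

variable {e : Idem (MonoidAlgebra K G)} (hc : ∀ a, a * e.e = e.e * a)
include hc

theorem inc_mul_right (a : Cor K e) (x : MonoidAlgebra K G) :
    inc a * x = inc (a * prj x) := by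
  rw [inc_mul, inc_prj]
  have h1 : inc a * e.e = inc a := (inc_mem a).2
  rw [← hc, mul_assoc, e.he, hc, ← mul_assoc, h1]

theorem mid_eq' (z : MonoidAlgebra K G) : e.e * z * e.e = z * e.e := by
  rw [← hc z, mul_assoc, e.he]

theorem prj_mul (x y : MonoidAlgebra K G) :
    (prj (x * y) : Cor K e) = prj x * prj y := by
  apply inc_inj
  rw [inc_mul, inc_prj, inc_prj, inc_prj, mid_eq' hc, mid_eq' hc, mid_eq' hc]
  calc x * y * e.e = x * (y * e.e) := mul_assoc _ _ _
    _ = x * (y * (e.e * e.e)) := by rw [e.he]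
    _ = x * (y * e.e * e.e) := by rw [mul_assoc y]
    _ = x * (e.e * (y * e.e)) := by rw [hc (y * e.e)]
    _ = _ := by rw [mul_assoc]

omit hc in
/-- the symmetrizing form -/
noncomputable def lamB (e : Idem (MonoidAlgebra K G)) : Cor K e →ₗ[K] K := (c1 K G) ∘ₗ inc

theorem lamB_symF [IsAlgClosed K] : SymF (lamB e) := by
  constructor
  · intro a b
    show c1 K G (inc (a * b)) = c1 K G (inc (b * a))
    rw [inc_mul, inc_mul, c1_comm]
  · intro a h
    apply inc_inj
    rw [map_zero]
    apply c1_nd
    intro y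
    rw [inc_mul_right hc]
    exact h (prj y)

theorem central_inc {z : Cor K e} (hz : ∀ a, z * a = a * z) (x : MonoidAlgebra K G) :
    x * inc z = inc z * x := by
  have h2 := congrArg inc (hz (prj x))
  rw [inc_mul, inc_mul, inc_prj] at h2
  have h3 : e.e * inc z = inc z := (inc_mem z).1
  have h4 : inc z * e.e = inc z := (inc_mem z).2
  calc x * inc z = x * (e.e * inc z) := by rw [h3]
    _ = (e.e * x * e.e) * inc z := by
      rw [← mul_assoc, ← hc x, mul_assoc x e.e e.e, e.he]
    _ = inc z * (e.e * x * e.e) := h2.symm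
    _ = inc z * x := by
      rw [← hc x, mul_assoc x e.e e.e, e.he, hc x, ← mul_assoc, h4]

omit hc in
/-- the central element of a trace functional -/
noncomputable def psi (e : Idem (MonoidAlgebra K G)) : Tr K (Cor K e) →ₗ[K] MonoidAlgebra K G where
  toFun f := BrauerMap.ofFun fun g => (f : Cor K e →ₗ[K] K) (prj (MonoidAlgebra.single g⁻¹ 1))
  map_add' _ _ := BrauerMap.ext_coeff fun g => rfl
  map_smul' _ _ := BrauerMap.ext_coeff fun g => rfl

omit hc in
theorem c1_mul_psi (f : Tr K (Cor K e)) (x : MonoidAlgebra K G) :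
    c1 K G (x * psi e f) = (f : Cor K e →ₗ[K] K) (prj x) := by
  classical
  have := Fintype.ofFinite G
  induction x using MonoidAlgebra.induction_linear with
  | zero => rw [zero_mul, map_zero, map_zero, map_zero]
  | add a b ha hb => rw [add_mul, map_add, ha, hb, map_add, map_add]
  | single g c =>
    have h1 : (MonoidAlgebra.single g c : MonoidAlgebra K G) = c • MonoidAlgebra.single (g⁻¹)⁻¹ 1 := by
      rw [MonoidAlgebra.smul_single, smul_eq_mul, mul_one, inv_inv]
    rw [h1, smul_mul_assoc, map_smul, map_smul, map_smul, c1_single_mul]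
    show c • (f : Cor K e →ₗ[K] K) (prj (MonoidAlgebra.single g⁻¹⁻¹ 1)) = _
    rfl

theorem psi_mem (f : Tr K (Cor K e)) : psi e f ∈ ZW K e.e := by
  constructor
  · rw [central_iff]
    intro g x
    show (f : Cor K e →ₗ[K] K) (prj (MonoidAlgebra.single (x * g * x⁻¹)⁻¹ 1)) =
      (f : Cor K e →ₗ[K] K) (prj (MonoidAlgebra.single g⁻¹ 1))
    have h1 : (MonoidAlgebra.single (x * g * x⁻¹)⁻¹ (1 : K)) =
        MonoidAlgebra.single x 1 * MonoidAlgebra.single (g⁻¹ * x⁻¹) 1 := by
      rw [MonoidAlgebra.single_mul_single, mul_one]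
      congr 1
      group
    have h2 : (MonoidAlgebra.single g⁻¹ (1 : K)) =
        MonoidAlgebra.single (g⁻¹ * x⁻¹) 1 * MonoidAlgebra.single x 1 := by
      rw [MonoidAlgebra.single_mul_single, mul_one]
      congr 1
      group
    rw [h1, h2, prj_mul hc, prj_mul hc]
    exact f.2 _ _
  · apply BrauerMap.ext_coeff
    intro g
    rw [← c1_single_mul, ← c1_single_mul, ← mul_assoc, c1_mul_psi, c1_mul_psi]
    congr 1
    apply inc_inj
    rw [inc_prj, inc_prj]
    rw [← mul_assoc, mul_assoc _ e.e e.e, e.he]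

/-- **the space of trace forms of a block algebra** -/
theorem finrank_Tr_cor : Module.finrank K (Tr K (Cor K e)) = Module.finrank K (ZW K e.e) := by
  apply le_antisymm
  · let F : Tr K (Cor K e) →ₗ[K] ZW K e.e :=
      LinearMap.codRestrict _ (psi e) (psi_mem hc)
    have hF : Function.Injective F := by
      rw [injective_iff_map_eq_zero]
      intro f hf
      have h1 : psi e f = 0 := congrArg Subtype.val hf
      apply Subtype.ext
      ext a
      have h2 := c1_mul_psi f (inc a)
      rw [h1, mul_zero, map_zero, prj_inc] at h2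
      exact h2.symm
    exact LinearMap.finrank_le_finrank_of_injective hF
  · let F : ZW K e.e →ₗ[K] Tr K (Cor K e) :=
      { toFun := fun z => ⟨(c1 K G) ∘ₗ (LinearMap.mulRight K (z : MonoidAlgebra K G)) ∘ₗ inc, by
          intro a b
          show c1 K G (inc (a * b) * z) = c1 K G (inc (b * a) * z)
          rw [inc_mul, inc_mul, mul_assoc, c1_comm, mul_assoc, ← z.2.1, ← mul_assoc]⟩
        map_add' := fun x y => Subtype.ext (LinearMap.ext fun a => by
          show c1 K G (inc a * (x + y : MonoidAlgebra K G)) = _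
          rw [mul_add, map_add]
          rfl)
        map_smul' := fun c x => Subtype.ext (LinearMap.ext fun a => by
          show c1 K G (inc a * (c • x : MonoidAlgebra K G)) = _
          rw [mul_smul_comm, map_smul]
          rfl) }
    have hF : Function.Injective F := by
      rw [injective_iff_map_eq_zero]
      intro z hz
      apply Subtype.ext
      apply c1_nd
      intro y
      have h1 : ∀ a : Cor K e, c1 K G (inc a * z) = 0 := by
        intro a
        have := congrArg Subtype.val hz
        exact LinearMap.congr_fun this a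
      have h2 := h1 (prj y)
      rw [inc_prj] at h2
      have h3 : e.e * (z : MonoidAlgebra K G) = z := z.2.2
      have h4 : e.e * y * e.e * (z : MonoidAlgebra K G) = y * z := by
        rw [mul_assoc, h3, ← hc y, mul_assoc, h3]
      rw [h4] at h2
      rw [c1_comm]
      exact h2
    exact LinearMap.finrank_le_finrank_of_injective hF

end abs

section block

variable {M : Ideal AlgInt} [hMm : M.IsMaximal] {G : Type u} [Group G] [Finite G]

/-- the block idempotent over the residue field -/
noncomputable def bI {B : Set (IrrCharacter G)} (hB : IsPBlock M B) : Idem (MonoidAlgebra (Kf M) G) :=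
  ⟨redA M (eB B), red_idem (locA_eB hB) (eB_mul_self B)⟩

variable {B : Set (IrrCharacter G)} (hB : IsPBlock M B)

@[simp] theorem bI_e : (bI hB).e = redA M (eB B) := rfl

theorem bI_central (a : MonoidAlgebra (Kf M) G) : a * (bI hB).e = (bI hB).e * a :=
  redA_central (eB_mem_center B) a

theorem nontrivial_BA : Nontrivial (Cor (Kf M) (bI hB)) := by
  refine ⟨1, 0, fun h => ?_⟩
  have h1 := congrArg inc h
  rw [inc_one, map_zero] at h1
  exact redA_eB_ne_zero hB h1

theorem centre_local (z : Cor (Kf M) (bI hB)) (hz : ∀ a, z * a = a * z) :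
    ∃ c : Kf M, IsNilpotent (z - c • (1 : Cor (Kf M) (bI hB))) := by
  haveI := hMm.isPrime
  obtain ⟨ξ, hξ⟩ := isPBlock_nonempty hB
  have h2 := central_iff.mp (central_inc (bI_central hB) hz)
  obtain ⟨n, hn⟩ := nilp_key hB hξ (lftA_center (fun g h => h2 g h)) (locA_lftA (inc z))
  refine ⟨red M (omega (ξ : G → ℂ) (lftA (inc z))), isNilpotent_of_inc ⟨n, ?_⟩⟩
  rw [redA_lftA] at hn
  rw [map_sub, map_smul, inc_one, bI_e, ← hn]
  congr 1
  congr 1
  exact ((inc_mem z).2).symm

theorem finrank_Tr_BA : Module.finrank (Kf M) (Tr (Kf M) (Cor (Kf M) (bI hB))) = Nat.card B := by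
  rw [finrank_Tr_cor (bI_central hB)]
  exact finrank_ZW_block hB

open scoped Classical in
/-- **the dimension of a block algebra** -/
theorem finrank_BA : (Module.finrank (Kf M) (Cor (Kf M) (bI hB)) : ℂ) =
    ∑ χ : IrrCharacter G, if χ ∈ B then (χ : G → ℂ) 1 ^ 2 else 0 := by
  haveI := hMm.isPrime
  have h1 : cor (Kf M) (bI hB) = PW (Kf M) (redA M (eB B)) (redA M (eB B)) := rfl
  rw [finrank_cor, h1, finrank_PW (locA_eB hB) (locA_eB hB) (eB_mul_self B) (eB_mul_self B),
    finrank_PW_complex (eB_mul_self B) (eB_mul_self B)]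
  refine Finset.sum_congr rfl fun χ _ => ?_
  have h2 := omega_eB B χ
  rw [omega] at h2
  have h3 := χ.2.one_ne_zero
  split_ifs at h2 ⊢ with h
  · rw [div_eq_one_iff_eq h3] at h2
    rw [h2, pow_two]
  · rw [div_eq_zero_iff, or_iff_left h3] at h2
    rw [h2, mul_zero]

include hB in
/-- **blocks with two characters**: the sum of the squares of the degrees is twice a square -/
theorem two_characters (h2 : Nat.card B = 2) :
    ∃ f : ℕ, (∑ᶠ χ ∈ B, (χ : G → ℂ) 1 ^ 2) = (f : ℂ) ^ 2 * 2 := by
  classical
  haveI : IsAlgClosed (Kf M) := isAlgClosed_Kf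
  haveI := nontrivial_BA hB
  obtain ⟨f, hf⟩ := finrank_eq_two_mul_sq (lamB_symF (bI_central hB)) (centre_local hB)
    (by rw [finrank_Tr_BA hB, h2])
  refine ⟨f, ?_⟩
  have h3 := finrank_BA hB
  rw [hf] at h3
  push_cast at h3
  rw [h3, finsum_mem_eq_finite_toFinset_sum _ (Set.toFinite _), ← Finset.sum_filter]
  refine Finset.sum_congr ?_ fun _ _ => rfl
  ext; simp

end block

end Cfsg.Agent.Lib.H76BDim
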