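import Cfsg.Agent.Lib.H76FullRam

set_option autoImplicit false

/-!
Coset sums for an extension of an irreducible character of a normal subgroup with abelian quotient.
-/

namespace Cfsg.Agent.Lib.H76Coset

open scoped ComplexConjugate
open Cfsg Cfsg.Agent.Lib.CharBasic Cfsg.Agent.Lib.Clifford Cfsg.Agent.Lib.CliffordCorr

universe u

variable {D : Type u} [Group D]

/-- inflation of a character of `D ⧸ N` -/
def infl (N : Subgroup D) [N.Normal] (lam : D ⧸ N → ℂ) : D → ℂ := fun x => lam (x : D ⧸ N)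

theorem isIrr_infl (N : Subgroup D) [N.Normal] {lam : D ⧸ N → ℂ} (h : IsIrrCharacter (D ⧸ N) lam) :
    IsIrrCharacter D (infl N lam) := h.inflate N

/-- the function `x ↦ ∑_λ conj λ(g) λ(x)` on `D`, for `λ` running over `Irr (D ⧸ N)` -/
noncomputable def cosetInd (N : Subgroup D) [N.Normal] [Finite D] (g : D) : D → ℂ := fun x =>
  ∑ lam : IrrCharacter (D ⧸ N), conj ((lam : D ⧸ N → ℂ) (g : D ⧸ N)) * (lam : D ⧸ N → ℂ) (x : D ⧸ N)

open scoped Classical in
theorem cosetInd_apply (N : Subgroup D) [N.Normal] [Finite D] (hab : ∀ a b : D ⧸ N, a * b = b * a) (g x : D) :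
    cosetInd N g x = if (x : D ⧸ N) = (g : D ⧸ N) then (N.index : ℂ) else 0 := by
  have h := column_orthogonality (G := D ⧸ N) (x : D ⧸ N) (g : D ⧸ N)
  have h1 : cosetInd N g x = ∑ χ : IrrCharacter (D ⧸ N), (χ : D ⧸ N → ℂ) (x : D ⧸ N) * conj ((χ : D ⧸ N → ℂ) (g : D ⧸ N)) := by
    unfold cosetInd
    exact Finset.sum_congr rfl fun _ _ => mul_comm _ _
  rw [h1, h]
  have h2 : IsConj (x : D ⧸ N) (g : D ⧸ N) ↔ (x : D ⧸ N) = (g : D ⧸ N) := by
    rw [isConj_iff]
    constructor
    · rintro ⟨c, hc⟩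
      rw [← hc, hab c, mul_inv_cancel_right]
    · intro h
      exact ⟨1, by simp [h]⟩
  simp only [h2]
  split_ifs
  · have : Subgroup.centralizer ({(x : D ⧸ N)} : Set (D ⧸ N)) = ⊤ := by
      rw [eq_top_iff]
      intro y _
      rw [Subgroup.mem_centralizer_iff]
      intro z _
      exact hab _ _
    rw [this, Subgroup.card_top]
    rfl
  · rfl

open scoped Classical in
/-- Gallagher: products of an extension with inflated irreducible characters. -/
theorem infl_mul_ext [Fintype D] (N : Subgroup D) [N.Normal] {ϑ : N → ℂ} (hϑ : IsIrrCharacter N ϑ)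
    {χ : D → ℂ} (hχ : IsIrrCharacter D χ) (hext : ∀ n : N, χ n = ϑ n)
    (lam : IrrCharacter (D ⧸ N)) :
    IsIrrCharacter D (infl N (lam : D ⧸ N → ℂ) * χ) ∧
    (classInner (infl N (lam : D ⧸ N → ℂ) * χ) χ = if (lam : D ⧸ N → ℂ) = 1 then 1 else 0) := by
  have := Fintype.ofFinite N
  have hinvϑ : ∀ g : D, cj N g ϑ = ϑ := by
    intro g
    have := cj_res (N := N) hχ.isClassFunction g
    have e : (fun n : N => χ n) = ϑ := funext hext
    rwa [e] at this
  have hinv1 : ∀ g : D, cj N g (1 : N → ℂ) = 1 := fun g => rfl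
  have hG := gallagher (N := N) (φ := 1) (ϑ := ϑ) isIrrCharacter_one hinv1 hinvϑ (by rw [one_mul]; exact hϑ) hχ hext
  have hmem : ∀ lam : IrrCharacter (D ⧸ N), IsIrrCharacter D (infl N (lam : D ⧸ N → ℂ)) ∧
      classInner (indFun N (1 : N → ℂ)) (infl N (lam : D ⧸ N → ℂ)) ≠ 0 := by
    intro lam
    have hi := isIrr_infl N lam.2
    refine ⟨hi, ?_⟩
    rw [IndFun.frobenius_reciprocity N _ _ hi.isClassFunction]
    have : (fun n : N => infl N (lam : D ⧸ N → ℂ) n) = ((lam : D ⧸ N → ℂ) 1) • (1 : N → ℂ) := by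
      funext n
      simp only [infl, Pi.smul_apply, Pi.one_apply, smul_eq_mul, mul_one]
      rw [(QuotientGroup.eq_one_iff (n : D)).2 n.2]
    rw [this, classInner_smul_right]
    apply mul_ne_zero
    · exact (map_ne_zero _).2 lam.2.one_ne_zero
    · rw [isIrrCharacter_one.classInner_self]; exact one_ne_zero
  have h1 := hG.mapsTo (hmem lam)
  refine ⟨h1.1, ?_⟩
  have h1' : IsIrrCharacter D (infl N (lam : D ⧸ N → ℂ) * χ) := h1.1
  rw [h1'.classInner_eq hχ]
  have hone : IsIrrCharacter (D ⧸ N) (1 : D ⧸ N → ℂ) := isIrrCharacter_one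
  have h2 : infl N (1 : D ⧸ N → ℂ) * χ = χ := by funext x; simp [infl]
  by_cases h : (lam : D ⧸ N → ℂ) = 1
  · rw [if_pos h, if_pos (by rw [h, h2])]
  · rw [if_neg h, if_neg]
    intro hcon
    apply h
    have h3 : infl N (lam : D ⧸ N → ℂ) = infl N (1 : D ⧸ N → ℂ) := by
      apply hG.injOn (hmem lam) (hmem ⟨1, hone⟩)
      show infl N (lam : D ⧸ N → ℂ) * χ = infl N (1 : D ⧸ N → ℂ) * χ
      rw [hcon, h2]
    funext q
    obtain ⟨x, rfl⟩ := QuotientGroup.mk_surjective q
    exact congrFun h3 x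

/-- An extension `χ` of an irreducible `ϑ` does not vanish identically on any coset. -/
theorem sum_coset [Fintype D] (N : Subgroup D) [N.Normal] 
    {ϑ : N → ℂ} (hϑ : IsIrrCharacter N ϑ)
    {χ : D → ℂ} (hχ : IsIrrCharacter D χ) (hext : ∀ n : N, χ n = ϑ n) (g : D) :
    classInner (fun x => cosetInd N g x * χ x) χ = 1 := by
  classical
  have h1 : (fun x => cosetInd N g x * χ x) = ∑ lam : IrrCharacter (D ⧸ N),
      conj ((lam : D ⧸ N → ℂ) (g : D ⧸ N)) • (infl N (lam : D ⧸ N → ℂ) * χ) := by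
    funext x
    simp only [cosetInd, Finset.sum_mul, Finset.sum_apply, Pi.smul_apply, Pi.mul_apply, smul_eq_mul, infl]
    exact Finset.sum_congr rfl fun _ _ => by ring
  rw [h1, classInner_sum_left]
  have hone : IsIrrCharacter (D ⧸ N) (1 : D ⧸ N → ℂ) := isIrrCharacter_one
  rw [Finset.sum_eq_single (⟨1, hone⟩ : IrrCharacter (D ⧸ N))]
  · rw [classInner_smul_left, (infl_mul_ext N hϑ hχ hext _).2, if_pos rfl]
    simp
  · intro lam _ hne
    rw [classInner_smul_left, (infl_mul_ext N hϑ hχ hext _).2, if_neg, mul_zero]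
    intro h
    exact hne (Subtype.ext h)
  · intro h
    exact absurd (Finset.mem_univ _) h

end Cfsg.Agent.Lib.H76Coset
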