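import Cfsg.Agent.Lib.H76Blk3

set_option autoImplicit false

/-!
Isomorphic principal blocks (Alperin, Dade) (helper76), used by S4551 and S4583.
-/

namespace Cfsg.Agent.Lib.H76Dade

open scoped ComplexConjugate
open Cfsg Cfsg.Agent.Lib Cfsg.Agent.Lib.CharBasic Cfsg.Agent.Lib.BlockRing Cfsg.Agent.Lib.BlockIdem
open Cfsg.Agent.Lib.BlockGA Cfsg.Agent.Lib.BlockCover Cfsg.Agent.Lib.Clifford Cfsg.Agent.Lib.BlockRes
open Cfsg.Agent.Lib.BlockSecond hiding resH coeff_resH
open Cfsg.Agent.Lib.BlockOsima Cfsg.Agent.Lib.BlockDeg Cfsg.Agent.Lib.H76Blk Cfsg.Agent.Lib.H76Blk2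
open Cfsg.Agent.Lib.H76Blk3

universe u v

section mat

variable {M : Ideal AlgInt} {n : Type*} [Fintype n] [DecidableEq n] [hMp : M.IsPrime]

/-- congruent idempotent matrices have the same trace -/
theorem trace_eq_of_idem {P Q : Matrix n n ℂ} (hP : P * P = P) (hQ : Q * Q = Q) (hlQ : LocMat M Q)
    (h : IdlMat M (P - Q)) : P.trace = Q.trace := by
  have h1 : IdlMat M ((P * Q + (1 - P) * (1 - Q)) - 1) := by
    have e : (P * Q + (1 - P) * (1 - Q)) - 1 = ((P - Q) * Q + (P - Q) * Q) - (P - Q) := by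
      have e1 : (P - Q) * Q = P * Q - Q := by rw [sub_mul, hQ]
      rw [e1]
      noncomm_ring
    rw [e]
    intro i j
    have h2 : ∀ i j, MemLocalIdeal M (((P - Q) * Q) i j) := by
      intro i j
      rw [Matrix.mul_apply]
      exact idl_sum fun k _ => idl_mul_right (h i k) (hlQ k j)
    rw [Matrix.sub_apply, Matrix.add_apply]
    exact idl_sub (idl_add (h2 i j) (h2 i j)) (h i j)
  obtain ⟨U, hU⟩ := isUnit_of_sub_one_idlMat h1
  have h3 : P * (U : Matrix n n ℂ) = (U : Matrix n n ℂ) * Q := by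
    rw [hU]
    have e1 : P * (P * Q + (1 - P) * (1 - Q)) = P * P * Q + (P - P * P) * (1 - Q) := by noncomm_ring
    have e2 : (P * Q + (1 - P) * (1 - Q)) * Q = P * (Q * Q) + (1 - P) * (Q - Q * Q) := by noncomm_ring
    rw [e1, e2, hP, hQ, sub_self, sub_self, zero_mul, mul_zero]
  have h4 : P = (U : Matrix n n ℂ) * Q * ((U⁻¹ : (Matrix n n ℂ)ˣ) : Matrix n n ℂ) := by
    rw [← h3, mul_assoc, Units.mul_inv, mul_one]
  rw [h4, Matrix.trace_units_conj]

end mat

variable {G : Type u} [Group G]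

section supp

variable {N : Subgroup G} [hN : N.Normal]

/-- support in a coset -/
def SuppIn (z : GA G) (γ : G ⧸ N) : Prop := ∀ g : G, (g : G ⧸ N) ≠ γ → z.coeff g = 0

variable [Fintype G]

omit hN in
theorem suppIn_add {z w : GA G} {γ : G ⧸ N} (hz : SuppIn z γ) (hw : SuppIn w γ) : SuppIn (z + w) γ := by
  intro g hg
  have h1 : (z + w).coeff g = z.coeff g + w.coeff g := rfl
  rw [h1, hz g hg, hw g hg, add_zero]

theorem suppIn_mul {z w : GA G} {γ δ : G ⧸ N} (hz : SuppIn z γ) (hw : SuppIn w δ) : SuppIn (z * w) (γ * δ) := by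
  intro g hg
  rw [coeff_mul_fintype]
  apply Finset.sum_eq_zero
  intro h _
  by_cases h1 : (h : G ⧸ N) = γ
  · have h2 : ((h⁻¹ * g : G) : G ⧸ N) ≠ δ := by
      intro h3
      apply hg
      rw [← h1, ← h3, QuotientGroup.mk_mul, QuotientGroup.mk_inv, mul_inv_cancel_left]
    rw [hw _ h2, mul_zero]
  · rw [hz _ h1, zero_mul]

open scoped Classical in
/-- the component in a coset -/
noncomputable def cp (γ : G ⧸ N) (z : GA G) : GA G := ofFun (fun g => if (g : G ⧸ N) = γ then z.coeff g else 0)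

omit hN in
open scoped Classical in
theorem coeff_cp (γ : G ⧸ N) (z : GA G) (g : G) : (cp γ z).coeff g = if (g : G ⧸ N) = γ then z.coeff g else 0 := rfl

omit hN in
theorem suppIn_cp (γ : G ⧸ N) (z : GA G) : SuppIn (cp γ z) γ := by
  intro g hg
  rw [coeff_cp, if_neg hg]

omit hN in
theorem sum_cp [Fintype (G ⧸ N)] (z : GA G) : ∑ γ : G ⧸ N, cp γ z = z := by
  classical
  ext g
  rw [coeff_finset_sum, Finset.sum_eq_single ((g : G ⧸ N))]
  · rw [coeff_cp, if_pos rfl]
  · intro γ _ hγ
    rw [coeff_cp, if_neg (fun h => hγ h.symm)]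
  · intro h; exact absurd (Finset.mem_univ _) h

theorem resH_eq_zero {z : GA G} {γ : G ⧸ N} (hz : SuppIn z γ) (hγ : γ ≠ 1) : resH N z = 0 := by
  ext n
  rw [coeff_resH]
  apply hz
  rw [(QuotientGroup.eq_one_iff (n : G)).2 n.2]
  exact fun h => hγ h.symm

theorem incH_resH_eq {z : GA G} (hz : SuppIn z (1 : G ⧸ N)) : incH N (resH N z) = z := by
  apply incH_resH_of_support
  intro g hg
  apply hz
  rwa [ne_eq, QuotientGroup.eq_one_iff]

theorem suppIn_incH (z : GA N) : SuppIn (incH N z) (1 : G ⧸ N) := by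
  intro g hg
  apply coeff_incH_of_not_mem
  rwa [ne_eq, QuotientGroup.eq_one_iff] at hg

theorem resH_mul_right [Fintype (G ⧸ N)] {x u : GA G} {η : G ⧸ N} (hu : SuppIn u η) :
    resH N (x * u) = resH N (cp η⁻¹ x * u) := by
  classical
  conv_lhs => rw [← sum_cp (N := N) x, Finset.sum_mul, map_sum]
  rw [Finset.sum_eq_single η⁻¹]
  · intro γ _ hγ
    apply resH_eq_zero (suppIn_mul (suppIn_cp γ x) hu)
    intro h
    exact hγ (eq_inv_of_mul_eq_one_left h)
  · intro h; exact absurd (Finset.mem_univ _) h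

theorem resH_mul_left [Fintype (G ⧸ N)] {y v : GA G} {η : G ⧸ N} (hv : SuppIn v η⁻¹) :
    resH N (v * y) = resH N (v * cp η y) := by
  classical
  conv_lhs => rw [← sum_cp (N := N) y, Finset.mul_sum, map_sum]
  rw [Finset.sum_eq_single η]
  · intro γ _ hγ
    apply resH_eq_zero (suppIn_mul hv (suppIn_cp γ y))
    intro h
    exact hγ (inv_mul_eq_one.1 h).symm
  · intro h; exact absurd (Finset.mem_univ _) h

/-- the key identity -/
theorem sum_resH_mul [Fintype (G ⧸ N)] {x y e : GA G} (he : SuppIn e (1 : G ⧸ N)) (u v : G ⧸ N → GA G)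
    (hu : ∀ η, SuppIn (u η) η) (hv : ∀ η, SuppIn (v η) η⁻¹) (huv : ∀ η, u η * v η = e) :
    ∑ η : G ⧸ N, resH N (x * u η) * resH N (v η * y) = resH N (x * e * y) := by
  classical
  apply incH_injective N
  rw [map_sum]
  have h1 : ∀ η : G ⧸ N, incH N (resH N (x * u η) * resH N (v η * y)) = cp η⁻¹ x * e * cp η y := by
    intro η
    rw [map_mul, resH_mul_right (hu η), resH_mul_left (hv η), incH_resH_eq, incH_resH_eq]
    · rw [mul_assoc, ← mul_assoc (u η), huv, mul_assoc]
    · have := suppIn_mul (hv η) (suppIn_cp η y)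
      rwa [inv_mul_cancel] at this
    · have := suppIn_mul (suppIn_cp η⁻¹ x) (hu η)
      rwa [inv_mul_cancel] at this
  rw [Finset.sum_congr rfl (fun η _ => h1 η)]
  have h2 : resH N (x * e * y) = ∑ η : G ⧸ N, resH N (cp η⁻¹ x * e * cp η y) := by
    conv_lhs => rw [← sum_cp (N := N) y, Finset.mul_sum, map_sum]
    apply Finset.sum_congr rfl
    intro η _
    conv_lhs => rw [← sum_cp (N := N) x, Finset.sum_mul, Finset.sum_mul, map_sum]
    rw [Finset.sum_eq_single η⁻¹]
    · intro γ _ hγ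
      apply resH_eq_zero (suppIn_mul (suppIn_mul (suppIn_cp γ x) he) (suppIn_cp η y))
      intro h
      rw [mul_one] at h
      exact hγ (eq_inv_of_mul_eq_one_left h)
    · intro h; exact absurd (Finset.mem_univ _) h
  rw [h2, map_sum]
  apply Finset.sum_congr rfl
  intro η _
  symm
  apply incH_resH_eq
  have := suppIn_mul (suppIn_mul (suppIn_cp η⁻¹ x) he) (suppIn_cp η y)
  rwa [mul_one, inv_mul_cancel] at this

end supp

section kappa

variable [Fintype G] {N : Subgroup G} [hN : N.Normal]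

/-- invariance under conjugation by `N` -/
def NInv (N : Subgroup G) (z : GA G) : Prop := ∀ n : N, MonoidAlgebra.single (n : G) (1 : ℂ) * z = z * MonoidAlgebra.single (n : G) (1 : ℂ)

omit [Fintype G] hN in
theorem nInv_mul {z w : GA G} (hz : NInv N z) (hw : NInv N w) : NInv N (z * w) := by
  intro n
  rw [← mul_assoc, hz n, mul_assoc, hw n, mul_assoc]

omit [Fintype G] hN in
theorem nInv_of_center {z : GA G} (hz : z ∈ Subalgebra.center ℂ (GA G)) : NInv N z := by
  intro n
  rw [Subalgebra.mem_center_iff] at hz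
  exact hz _

omit hN in
theorem nInv_coeff {z : GA G} (hz : NInv N z) (n : N) (g : G) : z.coeff ((n : G) * g * (n : G)⁻¹) = z.coeff g := by
  have h := congrArg (fun w : GA G => w.coeff ((n : G) * g)) (hz n)
  rw [MonoidAlgebra.coeff_single_mul_apply, MonoidAlgebra.coeff_mul_single_apply] at h
  simp only [one_mul, mul_one, inv_mul_cancel_left] at h
  exact h.symm

theorem nInv_iff {z : GA G} : NInv N z ↔ ∀ (n : N) (g : G), z.coeff ((n : G) * g * (n : G)⁻¹) = z.coeff g := by
  constructor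
  · intro h n g
    exact nInv_coeff h n g
  · intro h n
    ext g
    rw [MonoidAlgebra.coeff_single_mul_apply, MonoidAlgebra.coeff_mul_single_apply]
    simp only [one_mul, mul_one]
    have := h n ((n : G)⁻¹ * g)
    rw [mul_inv_cancel_left] at this
    exact this.symm

theorem resH_center_of_nInv {z : GA G} (hz : NInv N z) : resH N z ∈ Subalgebra.center ℂ (GA N) := by
  rw [mem_center_iff]
  intro g h
  exact nInv_coeff hz h g

theorem nInv_incH {z : GA N} (hz : z ∈ Subalgebra.center ℂ (GA N)) : NInv N (incH N z) := by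
  intro n
  rw [← incH_single, ← map_mul, ← map_mul]
  congr 1
  rw [Subalgebra.mem_center_iff] at hz
  exact hz _

open scoped Classical in
/-- the sum of the `N`-conjugates of `x` -/
noncomputable def kap (N : Subgroup G) (x : G) : GA G := ofFun (fun g => if ∃ n ∈ N, n * x * n⁻¹ = g then 1 else 0)

open scoped Classical in
theorem coeff_kap (x g : G) : (kap N x).coeff g = if ∃ n ∈ N, n * x * n⁻¹ = g then 1 else 0 := rfl

theorem locA_kap {M : Ideal AlgInt} [M.IsPrime] (x : G) : LocA M (kap N x) := by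
  classical
  intro g
  rw [coeff_kap]
  split_ifs
  · exact loc_one
  · exact loc_zero

theorem nInv_kap (x : G) : NInv N (kap N x) := by
  classical
  rw [nInv_iff]
  intro n g
  rw [coeff_kap, coeff_kap]
  congr 1
  apply propext
  constructor
  · rintro ⟨m, hm, h⟩
    refine ⟨(n : G)⁻¹ * m, N.mul_mem (N.inv_mem n.2) hm, ?_⟩
    calc (n : G)⁻¹ * m * x * ((n : G)⁻¹ * m)⁻¹ = (n : G)⁻¹ * (m * x * m⁻¹) * n := by group
      _ = (n : G)⁻¹ * ((n : G) * g * (n : G)⁻¹) * n := by rw [h]
      _ = g := by group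
  · rintro ⟨m, hm, h⟩
    refine ⟨(n : G) * m, N.mul_mem n.2 hm, ?_⟩
    rw [← h]; group

theorem suppIn_kap (x : G) : SuppIn (kap N x) (x : G ⧸ N) := by
  classical
  intro g hg
  rw [coeff_kap, if_neg]
  rintro ⟨n, hn, rfl⟩
  apply hg
  rw [QuotientGroup.mk_mul, QuotientGroup.mk_mul, QuotientGroup.mk_inv, (QuotientGroup.eq_one_iff n).2 hn]
  simp

/-- the augmentation is multiplicative -/
theorem aug_mul (z w : GA G) : lin (fun _ : G => (1 : ℂ)) (z * w) = lin (fun _ : G => (1 : ℂ)) z * lin (fun _ : G => (1 : ℂ)) w := by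
  rw [lin_apply, lin_apply, lin_apply]
  simp only [mul_one, coeff_mul_fintype]
  rw [Finset.sum_comm, Finset.sum_mul]
  apply Finset.sum_congr rfl
  intro h _
  rw [← Finset.mul_sum]
  congr 1
  exact Fintype.sum_equiv (Equiv.mulLeft h⁻¹) _ _ (fun g => rfl)

theorem aug_kap (x : G) : ∃ m : ℕ, lin (fun _ : G => (1 : ℂ)) (kap N x) = m ∧
    ∀ (P : Subgroup G), P ≤ N → x ∈ Subgroup.centralizer (P : Set G) → m ∣ P.index := by
  classical
  let _ : MulAction N G := MulAction.compHom G ((MulAut.conj : G →* MulAut G).comp N.subtype)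
  have hsm : ∀ (n : N) (g : G), n • g = (n : G) * g * (n : G)⁻¹ := fun n g => rfl
  refine ⟨Nat.card (MulAction.orbit N x), ?_, ?_⟩
  · rw [lin_apply, Nat.card_eq_fintype_card]
    simp only [mul_one, coeff_kap]
    rw [Finset.sum_boole, ← Fintype.card_subtype]
    congr 1
    apply Fintype.card_congr
    apply Equiv.subtypeEquivRight
    intro g
    constructor
    · rintro ⟨n, hn, rfl⟩
      exact ⟨⟨n, hn⟩, rfl⟩
    · rintro ⟨n, rfl⟩
      exact ⟨n, n.2, rfl⟩
  · intro P hPN hx
    have h1 : Nat.card (MulAction.orbit N x) = (MulAction.stabilizer N x).index :=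
      (MulAction.index_stabilizer N x).symm
    have h2 : P.subgroupOf N ≤ MulAction.stabilizer N x := by
      intro n hn
      rw [MulAction.mem_stabilizer_iff, hsm]
      have := Subgroup.mem_centralizer_iff.1 hx n (Subgroup.mem_subgroupOf.1 hn)
      rw [this, mul_inv_cancel_right]
    rw [h1]
    apply (Subgroup.index_dvd_of_le h2).trans
    exact Subgroup.relIndex_dvd_index_of_le hPN

end kappa

end Cfsg.Agent.Lib.H76Dade
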