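import Cfsg.Agent.Lib.H76Dade

set_option autoImplicit false

/-!
Isomorphic principal blocks (Alperin, Dade), part 2 (helper76), used by S4551 and S4583.
-/

namespace Cfsg.Agent.Lib.H76Dade

open scoped ComplexConjugate
open Cfsg Cfsg.Agent.Lib Cfsg.Agent.Lib.CharBasic Cfsg.Agent.Lib.BlockRing Cfsg.Agent.Lib.BlockIdem
open Cfsg.Agent.Lib.BlockGA Cfsg.Agent.Lib.BlockCover Cfsg.Agent.Lib.Clifford Cfsg.Agent.Lib.BlockRes
open Cfsg.Agent.Lib.BlockSecond hiding resH coeff_resH locA_resH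
open Cfsg.Agent.Lib.BlockOsima Cfsg.Agent.Lib.BlockDeg Cfsg.Agent.Lib.H76Blk Cfsg.Agent.Lib.H76Blk2
open Cfsg.Agent.Lib.H76Blk3

universe u

variable {G : Type u} [Group G] [Fintype G] {p : ℕ} {M : Ideal AlgInt} {N : Subgroup G} [hN : N.Normal]

/-- `ω_θ(κκ')` is a unit for `θ` in the principal block -/
theorem not_idl_kap (hM : IsPModular p M) {P : Subgroup G} (hPN : P ≤ N) (hPi : ¬ p ∣ P.index) {x y : G}
    (hx : x ∈ Subgroup.centralizer (P : Set G)) (hy : y ∈ Subgroup.centralizer (P : Set G))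
    (hxy : (x : G ⧸ N) * (y : G ⧸ N) = 1) {θ : IrrCharacter N} (hθ : θ ∈ principalBlock M N) :
    ¬ MemLocalIdeal M (omega (θ : N → ℂ) (resH N (kap N x * kap N y))) := by
  have := isPrime hM
  have := Fintype.ofFinite N
  have hz : resH N (kap N x * kap N y) ∈ Subalgebra.center ℂ (GA N) :=
    resH_center_of_nInv (nInv_mul (nInv_kap x) (nInv_kap y))
  have hl : LocA M (resH N (kap N x * kap N y)) := locA_resH (locA_mul (locA_kap x) (locA_kap y))
  have h1 : MemLocalIdeal M (omega (tr N : N → ℂ) (resH N (kap N x * kap N y)) -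
      omega (θ : N → ℂ) (resH N (kap N x * kap N y))) :=
    sameBlock_omega (tr N).2.isClassFunction θ.2.isClassFunction hθ hz hl
  have h2 : omega (tr N : N → ℂ) (resH N (kap N x * kap N y)) =
      lin (fun _ : G => (1 : ℂ)) (kap N x) * lin (fun _ : G => (1 : ℂ)) (kap N y) := by
    have hs : SuppIn (kap N x * kap N y) (1 : G ⧸ N) := by
      have := suppIn_mul (suppIn_kap (N := N) x) (suppIn_kap (N := N) y)
      rwa [hxy] at this
    rw [← aug_mul, ← incH_resH_eq hs, lin_incH, incH_resH_eq hs, omega, tr_apply, div_one]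
    rfl
  obtain ⟨m, hm, hmP⟩ := aug_kap (N := N) x
  obtain ⟨m', hm', hmP'⟩ := aug_kap (N := N) y
  rw [h2, hm, hm', ← Nat.cast_mul] at h1
  intro hcon
  have h3 := idl_add h1 hcon
  rw [sub_add_cancel, idl_natCast_iff hM] at h3
  rcases (hM.1.dvd_mul).1 h3 with h | h
  · exact hPi (h.trans (hmP P hPN hx))
  · exact hPi (h.trans (hmP' P hPN hy))

theorem unit_kap (hM : IsPModular p M) {P : Subgroup G} (hPN : P ≤ N) (hPi : ¬ p ∣ P.index) {x : G}
    (hx : x ∈ Subgroup.centralizer (P : Set G)) :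
    ∃ v : GA G, LocA M v ∧ NInv N v ∧ SuppIn v ((x : G ⧸ N)⁻¹) ∧
      kap N x * v = incH N (eB (principalBlock M N)) ∧ v * kap N x = incH N (eB (principalBlock M N)) := by
  have := isPrime hM
  have := Fintype.ofFinite N
  have hx' : x⁻¹ ∈ Subgroup.centralizer (P : Set G) := inv_mem hx
  have hxx : (x : G ⧸ N) * ((x⁻¹ : G) : G ⧸ N) = 1 := by
    rw [← QuotientGroup.mk_mul, mul_inv_cancel]; rfl
  have hxx' : ((x⁻¹ : G) : G ⧸ N) * (x : G ⧸ N) = 1 := by
    rw [← QuotientGroup.mk_mul, inv_mul_cancel]; rfl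
  have hU : UnionOfBlocks M (principalBlock M N) := unionOfBlocks_of_isPBlock isPBlock_principal
  set e : GA G := incH N (eB (principalBlock M N)) with he
  have hec : e ∈ Subalgebra.center ℂ (GA G) := incH_eB_mem_center (stable_principal hM)
  obtain ⟨w, hw, hwl, hzw, hwe⟩ := exists_mul_eq_eB hU
    (resH_center_of_nInv (nInv_mul (nInv_kap (N := N) x) (nInv_kap (N := N) x⁻¹)))
    (locA_resH (locA_mul (locA_kap x) (locA_kap x⁻¹)))
    (fun θ hθ => not_idl_kap hM hPN hPi hx hx' hxx hθ)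
  obtain ⟨w', hw', hwl', hzw', hwe'⟩ := exists_mul_eq_eB hU
    (resH_center_of_nInv (nInv_mul (nInv_kap (N := N) x⁻¹) (nInv_kap (N := N) x)))
    (locA_resH (locA_mul (locA_kap x⁻¹) (locA_kap x)))
    (fun θ hθ => not_idl_kap hM hPN hPi hx' hx hxx' hθ)
  have hs : SuppIn (kap N x * kap N x⁻¹) (1 : G ⧸ N) := by
    have := suppIn_mul (suppIn_kap (N := N) x) (suppIn_kap (N := N) x⁻¹)
    rwa [hxx] at this
  have hs' : SuppIn (kap N x⁻¹ * kap N x) (1 : G ⧸ N) := by
    have := suppIn_mul (suppIn_kap (N := N) x⁻¹) (suppIn_kap (N := N) x)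
    rwa [hxx'] at this
  have h1 : kap N x * (kap N x⁻¹ * incH N w) = e := by
    rw [← mul_assoc, ← incH_resH_eq hs, ← map_mul, hzw]
  have h2 : (incH N w' * kap N x⁻¹) * kap N x = e := by
    rw [mul_assoc, ← incH_resH_eq hs', ← map_mul]
    have hc : w' * resH N (kap N x⁻¹ * kap N x) = resH N (kap N x⁻¹ * kap N x) * w' := by
      rw [Subalgebra.mem_center_iff] at hw'
      exact (hw' _).symm
    rw [hc, hzw']
  have hecomm : ∀ a : GA G, a * e = e * a := by
    rw [Subalgebra.mem_center_iff] at hec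
    exact hec
  have h3 : (kap N x⁻¹ * incH N w) * e = kap N x⁻¹ * incH N w := by
    rw [mul_assoc, he, ← map_mul, hwe]
  have h4 : e * (incH N w' * kap N x⁻¹) = incH N w' * kap N x⁻¹ := by
    rw [← mul_assoc, ← hecomm, he, ← map_mul, hwe']
  have h5 : incH N w' * kap N x⁻¹ = kap N x⁻¹ * incH N w := by
    calc incH N w' * kap N x⁻¹ = (incH N w' * kap N x⁻¹) * e := by rw [hecomm, h4]
      _ = (incH N w' * kap N x⁻¹) * (kap N x * (kap N x⁻¹ * incH N w)) := by rw [h1]
      _ = ((incH N w' * kap N x⁻¹) * kap N x) * (kap N x⁻¹ * incH N w) := by simp only [mul_assoc]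
      _ = e * (kap N x⁻¹ * incH N w) := by rw [h2]
      _ = kap N x⁻¹ * incH N w := by rw [← hecomm, h3]
  refine ⟨kap N x⁻¹ * incH N w, locA_mul (locA_kap _) (locA_incH hwl), nInv_mul (nInv_kap _) (nInv_incH hw), ?_, h1, ?_⟩
  · have := suppIn_mul (suppIn_kap (N := N) x⁻¹) (suppIn_incH w)
    rw [mul_one, QuotientGroup.mk_inv] at this
    exact this
  · rw [← h5]; exact h2

open scoped Classical in
/-- the degree sum -/
noncomputable def dsum (M : Ideal AlgInt) (N : Subgroup G) [Fintype N] (θ : N → ℂ) : ℂ :=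
  ∑ χ : IrrCharacter G, if χ ∈ principalBlock M G then
    (χ : G → ℂ) 1 * classInner θ (fun n : N => (χ : G → ℂ) n) else 0

omit hN in
theorem card_mul_omega [Fintype N] (θ : IrrCharacter N) :
    (N.index : ℂ) * omega (θ : N → ℂ) (resH N (eB (principalBlock M G))) = dsum M N (θ : N → ℂ) / (θ : N → ℂ) 1 := by
  classical
  rw [omega, ← mul_div_assoc]
  congr 1
  rw [lin_apply, dsum]
  have hG : (Nat.card G : ℂ) ≠ 0 := by exact_mod_cast Nat.card_pos.ne'
  have h1 : ∀ n : N, (resH N (eB (principalBlock M G))).coeff n * (θ : N → ℂ) n =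
      ∑ χ : IrrCharacter G, (Nat.card G : ℂ)⁻¹ * (if χ ∈ principalBlock M G then
        (χ : G → ℂ) 1 * ((θ : N → ℂ) n * conj ((χ : G → ℂ) n)) else 0) := by
    intro n
    have h2 : (resH N (eB (principalBlock M G))).coeff n = blockCoeff (principalBlock M G) (n : G) := rfl
    rw [h2, blockCoeff_eq_sum', mul_assoc, Finset.sum_mul, Finset.mul_sum]
    apply Finset.sum_congr rfl
    intro χ _
    congr 1
    split_ifs
    · ring
    · ring
  rw [Finset.sum_congr rfl (fun n _ => h1 n), Finset.sum_comm, Finset.mul_sum]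
  apply Finset.sum_congr rfl
  intro χ _
  by_cases hχ : χ ∈ principalBlock M G
  · simp only [if_pos hχ]
    rw [classInner_def, ← Finset.mul_sum, ← Finset.mul_sum]
    have h3 : (Nat.card G : ℂ) = (Nat.card N : ℂ) * (N.index : ℂ) := by
      exact_mod_cast (Subgroup.card_mul_index N).symm
    have hN0 : (Nat.card N : ℂ) ≠ 0 := by exact_mod_cast Nat.card_pos.ne'
    have hi0 : (N.index : ℂ) ≠ 0 := by exact_mod_cast Subgroup.index_ne_zero_of_finite
    rw [h3]
    field_simp
  · simp only [if_neg hχ]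
    simp

theorem dsum_congr (hM : IsPModular p M) {P : Subgroup G} (hPN : P ≤ N) (hPi : ¬ p ∣ P.index) [Fintype N]
    (hsup : N ⊔ Subgroup.centralizer (P : Set G) = ⊤) {θ : IrrCharacter N} (hθ : θ ∈ principalBlock M N) :
    dsum M N (θ : N → ℂ) / (θ : N → ℂ) 1 = dsum M N (tr N : N → ℂ) := by
  classical
  have := isPrime hM
  have := Fintype.ofFinite (G ⧸ N)
  -- representatives
  have hrep : ∀ γ : G ⧸ N, ∃ c ∈ Subgroup.centralizer (P : Set G), (c : G ⧸ N) = γ := by
    intro γ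
    obtain ⟨g, rfl⟩ := QuotientGroup.mk_surjective γ
    have hg : g ∈ N ⊔ Subgroup.centralizer (P : Set G) := by rw [hsup]; trivial
    obtain ⟨n, hn, c, hc, rfl⟩ := Subgroup.mem_sup_of_normal_left.1 hg
    refine ⟨c, hc, ?_⟩
    rw [QuotientGroup.mk_mul, (QuotientGroup.eq_one_iff n).2 hn, one_mul]
  choose c hcP hcγ using hrep
  set e : GA G := incH N (eB (principalBlock M N)) with he
  have hec : e ∈ Subalgebra.center ℂ (GA G) := incH_eB_mem_center (stable_principal hM)
  have hv : ∀ γ : G ⧸ N, ∃ v : GA G, LocA M v ∧ NInv N v ∧ SuppIn v γ⁻¹ ∧ kap N (c γ) * v = e ∧ v * kap N (c γ) = e := by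
    intro γ
    have h := unit_kap (N := N) hM hPN hPi (hcP γ)
    rw [hcγ] at h
    exact h
  choose v hvl hvN hvs huv hvu using hv
  have hus : ∀ γ : G ⧸ N, SuppIn (kap N (c γ)) γ := by
    intro γ
    have := suppIn_kap (N := N) (c γ)
    rwa [hcγ] at this
  set f : GA G := eB (principalBlock M G) with hf
  have hfc : f ∈ Subalgebra.center ℂ (GA G) := eB_mem_center _
  have hfl : LocA M f := locA_eB isPBlock_principal
  have hff : f * f = f := by
    rw [hf, eB_mul_eB, Set.inter_self]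
  have hfe : f * e = f := by
    apply center_ext (Subalgebra.mul_mem _ hfc hec) hfc
    intro χ
    rw [omega_mul χ.2 hfc]
    by_cases hχ : χ ∈ principalBlock M G
    · obtain ⟨ψ, hψ⟩ := exists_constituent_res N χ
      rw [omega_incH_eB_mem hψ (stable_principal hM) (mem_principal_of_constituent hM hχ hψ), mul_one]
    · rw [omega_eB_not_mem hχ, zero_mul]
  have hfcomm : ∀ a : GA G, a * f = f * a := by
    rw [Subalgebra.mem_center_iff] at hfc
    exact hfc
  let W : G ⧸ N → G ⧸ N → GA N := fun ε δ => resH N (v ε * f * kap N (c δ))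
  have hWc : ∀ ε δ, W ε δ ∈ Subalgebra.center ℂ (GA N) := fun ε δ =>
    resH_center_of_nInv (nInv_mul (nInv_mul (hvN ε) (nInv_of_center hfc)) (nInv_kap _))
  have hWl : ∀ ε δ, LocA M (W ε δ) := fun ε δ =>
    locA_resH (locA_mul (locA_mul (hvl ε) hfl) (locA_kap _))
  have hWW : ∀ ε δ, ∑ η, W ε η * W η δ = W ε δ := by
    intro ε δ
    have h1 := sum_resH_mul (N := N) (x := v ε * f) (y := f * kap N (c δ)) (e := e) (suppIn_incH _)
      (fun η => kap N (c η)) v hus hvs huv
    have h2 : v ε * f * e * (f * kap N (c δ)) = v ε * f * kap N (c δ) := by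
      calc v ε * f * e * (f * kap N (c δ)) = v ε * ((f * e) * f) * kap N (c δ) := by simp only [mul_assoc]
        _ = v ε * f * kap N (c δ) := by rw [hfe, hff]
    rw [h2] at h1
    show _ = resH N (v ε * f * kap N (c δ))
    rw [← h1]
    apply Finset.sum_congr rfl
    intro η _
    simp only [W, mul_assoc]
  let F : IrrCharacter N → Matrix (G ⧸ N) (G ⧸ N) ℂ := fun ϑ => Matrix.of (fun ε δ => omega (ϑ : N → ℂ) (W ε δ))
  have hFF : ∀ ϑ, F ϑ * F ϑ = F ϑ := by
    intro ϑ
    ext ε δ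
    rw [Matrix.mul_apply]
    simp only [F, Matrix.of_apply]
    rw [← hWW ε δ, omega_sum]
    apply Finset.sum_congr rfl
    intro η _
    rw [omega_mul ϑ.2 (hWc ε η)]
  have hFl : ∀ ϑ, LocMat M (F ϑ) := fun ϑ ε δ => loc_omega ϑ.2 (hWc ε δ) (hWl ε δ)
  have hFt : ∀ ϑ, (F ϑ).trace = dsum M N (ϑ : N → ℂ) / (ϑ : N → ℂ) 1 := by
    intro ϑ
    rw [Matrix.trace, ← card_mul_omega]
    have h1 : ∀ δ, (F ϑ).diag δ = omega (ϑ : N → ℂ) (resH N f) := by
      intro δ
      simp only [F, W, Matrix.diag_apply, Matrix.of_apply]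
      rw [hfcomm (v δ), mul_assoc, hvu, hfe]
    rw [Finset.sum_congr rfl (fun δ _ => h1 δ), Finset.sum_const, Finset.card_univ, nsmul_eq_mul, Subgroup.index,
      Nat.card_eq_fintype_card]
  have hsub : IdlMat M (F θ - F (tr N)) := by
    intro ε δ
    rw [Matrix.sub_apply]
    have h1 : MemLocalIdeal M (omega (tr N : N → ℂ) (W ε δ) - omega (θ : N → ℂ) (W ε δ)) :=
      sameBlock_omega (tr N).2.isClassFunction θ.2.isClassFunction hθ (hWc ε δ) (hWl ε δ)
    exact idl_sub_symm h1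
  have h1 := trace_eq_of_idem (hFF θ) (hFF (tr N)) (hFl (tr N)) hsub
  rw [hFt, hFt, tr_apply, div_one] at h1
  exact h1

/-- characters of `G ⧸ N` in the principal block -/
theorem eq_tr_of_principal (hM : IsPModular p M) {P : Subgroup G} (hPN : P ≤ N) (hPi : ¬ p ∣ P.index)
    (hsup : N ⊔ Subgroup.centralizer (P : Set G) = ⊤) {χ : IrrCharacter G} (hχ : χ ∈ principalBlock M G)
    (hker : ∀ n : N, (χ : G → ℂ) n = (χ : G → ℂ) 1) : χ = tr G := by
  classical
  have := isPrime hM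
  have := Fintype.ofFinite (G ⧸ N)
  obtain ⟨ψ, hψ, hψχ⟩ := χ.2.deflate N (fun n hn => hker ⟨n, hn⟩)
  have hval : ∀ γ : G ⧸ N, MemLocalIdeal M (1 - ψ γ / ψ 1) := by
    intro γ
    obtain ⟨g, rfl⟩ := QuotientGroup.mk_surjective γ
    have hg : g ∈ N ⊔ Subgroup.centralizer (P : Set G) := by rw [hsup]; trivial
    obtain ⟨n, hn, c, hc, rfl⟩ := Subgroup.mem_sup_of_normal_left.1 hg
    have h1 : (((n * c : G)) : G ⧸ N) = (c : G ⧸ N) := by
      rw [QuotientGroup.mk_mul, (QuotientGroup.eq_one_iff n).2 hn, one_mul]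
    have h2 : ψ 1 = (χ : G → ℂ) 1 := by
      rw [← hψχ 1]; rfl
    rw [h1, hψχ, h2]
    have h3 : MemLocalIdeal M (centralChar (fun _ : G => (1 : ℂ)) c - centralChar (χ : G → ℂ) c) := hχ c
    rw [centralChar, centralChar, mul_one, div_one, mul_div_assoc] at h3
    have h4 : ¬ p ∣ (Subgroup.centralizer ({c} : Set G)).index := by
      intro h
      apply hPi
      apply h.trans
      apply Subgroup.index_dvd_of_le
      intro x hx
      rw [Subgroup.mem_centralizer_singleton_iff]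
      exact Subgroup.mem_centralizer_iff.1 hc x hx
    have h5 : MemLocalIdeal M (((Subgroup.centralizer ({c} : Set G)).index : ℂ) * (1 - (χ : G → ℂ) c / (χ : G → ℂ) 1)) := by
      have e : ((Subgroup.centralizer ({c} : Set G)).index : ℂ) * (1 - (χ : G → ℂ) c / (χ : G → ℂ) 1) =
        ((Subgroup.centralizer ({c} : Set G)).index : ℂ) - ((Subgroup.centralizer ({c} : Set G)).index : ℂ) * ((χ : G → ℂ) c / (χ : G → ℂ) 1) := by ring
      rw [e]; exact h3
    exact idl_of_mul_left (loc_natCast _) (fun h => h4 ((idl_natCast_iff hM _).1 h)) h5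
  have hidx : ¬ p ∣ Nat.card (G ⧸ N) := fun h => hPi (h.trans (Subgroup.index_dvd_of_le hPN))
  have h1 : MemLocalIdeal M (∑ γ : G ⧸ N, (1 - ψ γ / ψ 1)) := idl_sum fun γ _ => hval γ
  by_cases hψ1 : ψ = fun _ => 1
  · apply Subtype.ext
    funext g
    rw [← hψχ, hψ1]
    rfl
  · exfalso
    have h2 : ∑ γ : G ⧸ N, ψ γ = 0 := by
      have h3 := hψ.classInner_eq_zero (isIrrCharacter_fun_one (G := G ⧸ N)) hψ1
      rw [classInner_def] at h3
      simp only [map_one, mul_one] at h3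
      rcases mul_eq_zero.1 h3 with h4 | h4
      · exfalso
        rw [inv_eq_zero, Nat.cast_eq_zero] at h4
        exact Nat.card_pos.ne' h4
      · exact h4
    have h4 : ∑ γ : G ⧸ N, (1 - ψ γ / ψ 1) = (Nat.card (G ⧸ N) : ℂ) := by
      rw [Finset.sum_sub_distrib, ← Finset.sum_div, h2, zero_div, sub_zero, Finset.sum_const, Finset.card_univ,
        nsmul_eq_mul, mul_one, Nat.card_eq_fintype_card]
    rw [h4, idl_natCast_iff hM] at h1
    exact hidx h1

theorem dsum_tr (hM : IsPModular p M) {P : Subgroup G} (hPN : P ≤ N) (hPi : ¬ p ∣ P.index) [Fintype N]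
    (hsup : N ⊔ Subgroup.centralizer (P : Set G) = ⊤) : dsum M N (tr N : N → ℂ) = 1 := by
  classical
  have := isPrime hM
  rw [dsum, Finset.sum_eq_single (tr G)]
  · rw [if_pos (tr_mem M), tr_apply, one_mul]
    exact (isIrrCharacter_fun_one (G := N)).classInner_self
  · intro χ _ hχ
    by_cases hB : χ ∈ principalBlock M G
    · rw [if_pos hB]
      by_cases h0 : classInner (tr N : N → ℂ) (fun n : N => (χ : G → ℂ) n) = 0
      · rw [h0, mul_zero]
      · exfalso
        apply hχ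
        apply eq_tr_of_principal hM hPN hPi hsup hB
        intro n
        apply CanonExt.const_of_classInner_ne χ.2 _ n
        rw [IndFun.frobenius_reciprocity N _ (χ : G → ℂ) χ.2.isClassFunction]
        exact h0
    · rw [if_neg hB]
  · intro h; exact absurd (Finset.mem_univ _) h

/-- **Alperin, Dade**: the sum of the degrees. -/
theorem dsum_eq (hM : IsPModular p M) {P : Subgroup G} (hPN : P ≤ N) (hPi : ¬ p ∣ P.index) [Fintype N]
    (hsup : N ⊔ Subgroup.centralizer (P : Set G) = ⊤) {θ : IrrCharacter N} (hθ : θ ∈ principalBlock M N) :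
    dsum M N (θ : N → ℂ) = (θ : N → ℂ) 1 := by
  have h1 := dsum_congr hM hPN hPi hsup hθ
  rw [dsum_tr hM hPN hPi hsup, div_eq_one_iff_eq θ.2.one_ne_zero] at h1
  exact h1

end Cfsg.Agent.Lib.H76Dade
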