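import Cfsg.Agent.Lib.H76Dade2

set_option autoImplicit false

/-!
Isomorphic principal blocks (Alperin, Dade), part 3 (helper76), used by S4551 and S4583.
-/

namespace Cfsg.Agent.Lib.H76Dade

open scoped ComplexConjugate
open Cfsg Cfsg.Agent.Lib Cfsg.Agent.Lib.CharBasic Cfsg.Agent.Lib.BlockRing Cfsg.Agent.Lib.BlockIdem
open Cfsg.Agent.Lib.BlockGA Cfsg.Agent.Lib.BlockCover Cfsg.Agent.Lib.Clifford Cfsg.Agent.Lib.BlockRes
open Cfsg.Agent.Lib.BlockDeg Cfsg.Agent.Lib.H76Blk Cfsg.Agent.Lib.H76Blk2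
open Cfsg.Agent.Lib.H76Blk3

universe u

variable {G : Type u} [Group G] [Finite G] {p : ℕ} {M : Ideal AlgInt} {N : Subgroup G} [hN : N.Normal]

omit hN in
theorem nat_terms [Fintype N] (θ : IrrCharacter N) : ∃ m : IrrCharacter G → ℕ, ∀ χ : IrrCharacter G,
    classInner (θ : N → ℂ) (fun n : N => (χ : G → ℂ) n) = m χ := by
  have h : ∀ χ : IrrCharacter G, ∃ m : ℕ, classInner (θ : N → ℂ) (fun n : N => (χ : G → ℂ) n) = m := fun χ =>
    θ.2.isCharacter.classInner_nat (χ.2.isCharacter.restrict N)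
  choose m hm using h
  exact ⟨m, hm⟩

theorem nat_sum_eq (hM : IsPModular p M) {P : Subgroup G} (hPN : P ≤ N) (hPi : ¬ p ∣ P.index) [Fintype G] [Fintype N]
    (hsup : N ⊔ Subgroup.centralizer (P : Set G) = ⊤) {θ : IrrCharacter N} (hθ : θ ∈ principalBlock M N)
    (m : IrrCharacter G → ℕ) (hm : ∀ χ : IrrCharacter G, classInner (θ : N → ℂ) (fun n : N => (χ : G → ℂ) n) = m χ)
    [DecidablePred (· ∈ principalBlock M G)] :
    ∑ χ : IrrCharacter G with χ ∈ principalBlock M G, charDegree (χ : G → ℂ) * m χ = charDegree (θ : N → ℂ) := by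
  have h1 := dsum_eq hM hPN hPi hsup hθ
  have h2 : ((∑ χ : IrrCharacter G with χ ∈ principalBlock M G, charDegree (χ : G → ℂ) * m χ : ℕ) : ℂ) =
      dsum M N (θ : N → ℂ) := by
    rw [dsum, Finset.sum_filter]
    push_cast
    apply Finset.sum_congr rfl
    intro χ _
    by_cases h : χ ∈ principalBlock M G
    · rw [if_pos h, if_pos h, hm, charDegree_cast_irr]
    · rw [if_neg h, if_neg h]
  rw [h1, ← charDegree_cast_irr] at h2
  exact_mod_cast h2

omit hN in
theorem res_const [Fintype N] (χ : IrrCharacter G) (θ : IrrCharacter N)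
    (h : classInner (fun n : N => (χ : G → ℂ) n) (θ : N → ℂ) ≠ 0) :
    charDegree (θ : N → ℂ) ≤ charDegree (χ : G → ℂ) ∧
      (charDegree (χ : G → ℂ) ≤ charDegree (θ : N → ℂ) → ∀ n : N, (χ : G → ℂ) n = (θ : N → ℂ) n) := by
  have h1 : (fun n : N => (χ : G → ℂ) n) 1 = (charDegree (χ : G → ℂ) : ℂ) := by
    rw [charDegree_cast_irr]; rfl
  have h2 : (θ : N → ℂ) 1 = (charDegree (θ : N → ℂ) : ℂ) := (charDegree_cast_irr θ).symm
  obtain ⟨h3, h4⟩ := Clifford.degree_le_of_constituent' (χ.2.isCharacter.restrict N) θ.2 h h1 h2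
  exact ⟨h3, fun h5 n => congrFun (h4 h5) n⟩

/-- members of the principal block restrict irreducibly -/
theorem restrict_principal (hM : IsPModular p M) {P : Subgroup G} (hPN : P ≤ N) (hPi : ¬ p ∣ P.index) [Fintype N]
    (hsup : N ⊔ Subgroup.centralizer (P : Set G) = ⊤) {χ : IrrCharacter G} (hχ : χ ∈ principalBlock M G)
    {θ : IrrCharacter N} (h : classInner (fun n : N => (χ : G → ℂ) n) (θ : N → ℂ) ≠ 0) (n : N) :
    (χ : G → ℂ) n = (θ : N → ℂ) n := by
  classical
  have := isPrime hM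
  have := Fintype.ofFinite G
  have hθ := mem_principal_of_constituent hM hχ h
  obtain ⟨m, hm⟩ := nat_terms (G := G) θ
  have h1 := nat_sum_eq hM hPN hPi hsup hθ m hm
  have h2 : m χ ≠ 0 := by
    intro h0
    have h3 := hm χ
    rw [h0, Nat.cast_zero, ← conj_classInner, map_eq_zero] at h3
    exact h h3
  have h3 : charDegree (χ : G → ℂ) * m χ ≤ charDegree (θ : N → ℂ) := by
    rw [← h1]
    exact Finset.single_le_sum (f := fun χ : IrrCharacter G => charDegree (χ : G → ℂ) * m χ) (fun _ _ => Nat.zero_le _)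
      (Finset.mem_filter.2 ⟨Finset.mem_univ _, hχ⟩)
  have h4 : charDegree (χ : G → ℂ) ≤ charDegree (θ : N → ℂ) :=
    (Nat.le_mul_of_pos_right _ (Nat.pos_of_ne_zero h2)).trans h3
  exact (res_const χ θ h).2 h4 n

/-- members of the principal block of `N` extend uniquely to members of the principal block of `G` -/
theorem existsUnique_ext (hM : IsPModular p M) {P : Subgroup G} (hPN : P ≤ N) (hPi : ¬ p ∣ P.index)
    (hsup : N ⊔ Subgroup.centralizer (P : Set G) = ⊤) {θ : IrrCharacter N} (hθ : θ ∈ principalBlock M N) :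
    ∃! χ : IrrCharacter G, χ ∈ principalBlock M G ∧ ∀ n : N, (χ : G → ℂ) n = (θ : N → ℂ) n := by
  classical
  have := isPrime hM
  have := Fintype.ofFinite G
  have := Fintype.ofFinite N
  obtain ⟨m, hm⟩ := nat_terms (G := G) θ
  have h1 := nat_sum_eq hM hPN hPi hsup hθ m hm
  have hpos : 0 < charDegree (θ : N → ℂ) := charDegree_pos θ.2
  have hex : ∃ χ ∈ Finset.univ.filter (fun χ : IrrCharacter G => χ ∈ principalBlock M G),
      charDegree (χ : G → ℂ) * m χ ≠ 0 := by
    by_contra hcon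
    push Not at hcon
    rw [Finset.sum_eq_zero hcon] at h1
    omega
  obtain ⟨χ, hχ, hχm⟩ := hex
  have hχB := (Finset.mem_filter.1 hχ).2
  have hin : classInner (fun n : N => (χ : G → ℂ) n) (θ : N → ℂ) ≠ 0 := by
    intro h0
    have h3 := hm χ
    rw [← conj_classInner, h0, map_zero] at h3
    apply hχm
    have : m χ = 0 := by exact_mod_cast h3.symm
    rw [this, mul_zero]
  refine ⟨χ, ⟨hχB, fun n => restrict_principal hM hPN hPi hsup hχB hin n⟩, ?_⟩
  rintro χ' ⟨hχ'B, hχ'⟩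
  by_contra hne
  have hin' : classInner (fun n : N => (χ' : G → ℂ) n) (θ : N → ℂ) ≠ 0 := by
    have : (fun n : N => (χ' : G → ℂ) n) = (θ : N → ℂ) := funext hχ'
    rw [this, θ.2.classInner_self]; exact one_ne_zero
  have hm' : m χ' ≠ 0 := by
    intro h0
    have h3 := hm χ'
    rw [h0, Nat.cast_zero, ← conj_classInner, map_eq_zero] at h3
    exact hin' h3
  have hm0 : m χ ≠ 0 := fun h0 => hχm (by rw [h0, mul_zero])
  have h2 : charDegree (χ' : G → ℂ) * m χ' + charDegree (χ : G → ℂ) * m χ ≤ charDegree (θ : N → ℂ) := by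
    rw [← h1]
    have h3 := Finset.add_le_sum (s := Finset.univ.filter (fun χ : IrrCharacter G => χ ∈ principalBlock M G))
      (f := fun χ : IrrCharacter G => charDegree (χ : G → ℂ) * m χ)
      (fun _ _ => Nat.zero_le _) (Finset.mem_filter.2 ⟨Finset.mem_univ _, hχ'B⟩) hχ hne
    exact h3
  have h3 := (res_const χ θ hin).1
  have h4 := (res_const χ' θ hin').1
  have h5 : charDegree (χ : G → ℂ) ≤ charDegree (χ : G → ℂ) * m χ := Nat.le_mul_of_pos_right _ (Nat.pos_of_ne_zero hm0)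
  have h6 : charDegree (χ' : G → ℂ) ≤ charDegree (χ' : G → ℂ) * m χ' := Nat.le_mul_of_pos_right _ (Nat.pos_of_ne_zero hm')
  omega

end Cfsg.Agent.Lib.H76Dade
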