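import Cfsg.Agent.Lib.CharGalois
import Cfsg.Agent.Lib.H76Char

set_option autoImplicit false

/-!
Galois averages of `|χ|²` (helper76), used by S4574.
-/

namespace Cfsg.Agent.Lib.H76GalAvg

open scoped ComplexConjugate
open Cfsg Cfsg.Agent.Lib Cfsg.Agent.Lib.CharBasic Cfsg.Agent.Lib.CharGalois

universe u v

variable {G : Type u} [Group G]

/-- the power map by a unit modulo `|G|` -/
noncomputable def pw (g : G) (u : (ZMod (Nat.card G))ˣ) : G := g ^ (u : ZMod (Nat.card G)).val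

theorem pw_pw [Finite G] (g : G) (u v : (ZMod (Nat.card G))ˣ) : pw (pw g u) v = pw g (u * v) := by
  unfold pw
  have : NeZero (Nat.card G) := ⟨Nat.card_pos.ne'⟩
  rw [← pow_mul, Units.val_mul, ZMod.val_mul, pow_mod_natCard]

theorem pw_one [Finite G] (g : G) : pw g 1 = g := by
  unfold pw
  have : NeZero (Nat.card G) := ⟨Nat.card_pos.ne'⟩
  rw [Units.val_one]
  have h1 : (1 : ZMod (Nat.card G)).val = 1 % Nat.card G := ZMod.val_one_eq_one_mod _
  rw [h1, pow_mod_natCard, pow_one]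

theorem pw_inv_cancel [Finite G] (g : G) (u : (ZMod (Nat.card G))ˣ) : pw (pw g u) u⁻¹ = g := by
  rw [pw_pw, mul_inv_cancel, pw_one]

theorem pw_inv_cancel' [Finite G] (g : G) (u : (ZMod (Nat.card G))ˣ) : pw (pw g u⁻¹) u = g := by
  rw [pw_pw, inv_mul_cancel, pw_one]

theorem pow_eq_pw [Finite G] (g : G) {k : ℕ} (hk : k.Coprime (Nat.card G)) :
    g ^ k = pw g (ZMod.unitOfCoprime k hk) := by
  unfold pw
  have : NeZero (Nat.card G) := ⟨Nat.card_pos.ne'⟩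
  rw [ZMod.coe_unitOfCoprime, ZMod.val_natCast, pow_mod_natCard]

/-- the power map as a permutation -/
noncomputable def pwEquiv [Finite G] (u : (ZMod (Nat.card G))ˣ) : G ≃ G where
  toFun g := pw g u
  invFun g := pw g u⁻¹
  left_inv g := pw_inv_cancel g u
  right_inv g := pw_inv_cancel' g u

theorem exists_ringHom_pw [Finite G] (u : (ZMod (Nat.card G))ˣ) :
    ∃ σ : ℂ →+* ℂ, ∀ (χ : G → ℂ), IsCharacter G χ → ∀ g : G, σ (χ g) = χ (pw g u) := by
  have hne : NeZero (Nat.card G) := ⟨Nat.card_pos.ne'⟩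
  have hco : (u : ZMod (Nat.card G)).val.Coprime (Nat.card G) := ZMod.val_coe_unit_coprime u
  obtain ⟨σ, hσ⟩ := exists_ringHom_pow (n := Nat.card G) Nat.card_pos hco
  refine ⟨σ, fun χ hχ g => ?_⟩
  rw [map_apply_eq hχ σ _ g]
  · rfl
  · intro μ hμ
    apply hσ
    obtain ⟨c, hc⟩ := orderOf_dvd_natCard g
    rw [hc, pow_mul, hμ, one_pow]

theorem exists_pw_of_ringHom [Finite G] (σ : ℂ →+* ℂ) :
    ∃ u : (ZMod (Nat.card G))ˣ, ∀ (χ : G → ℂ), IsCharacter G χ → ∀ g : G, σ (χ g) = χ (pw g u) := by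
  obtain ⟨k, hk, hσ⟩ := exists_pow_of_ringHom (n := Nat.card G) Nat.card_pos σ
  refine ⟨ZMod.unitOfCoprime k hk, fun χ hχ g => ?_⟩
  rw [map_apply_eq hχ σ k g, pow_eq_pw g hk]
  intro μ hμ
  apply hσ
  obtain ⟨c, hc⟩ := orderOf_dvd_natCard g
  rw [hc, pow_mul, hμ, one_pow]

theorem eq_zero_iff [Finite G] {χ : G → ℂ} (hχ : IsCharacter G χ) (g : G) (u : (ZMod (Nat.card G))ˣ) :
    χ (pw g u) = 0 ↔ χ g = 0 := by
  obtain ⟨σ, hσ⟩ := exists_ringHom_pw u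
  rw [← hσ χ hχ g, map_eq_zero]

/-- The sum of `|χ|²` over a Galois orbit is at least its length. -/
theorem key [Finite G] {χ : G → ℂ} (hχ : IsCharacter G χ) (g : G) (hg : χ g ≠ 0)
    [Fintype (ZMod (Nat.card G))ˣ] :
    (Fintype.card (ZMod (Nat.card G))ˣ : ℝ) ≤ ∑ u : (ZMod (Nat.card G))ˣ, ‖χ (pw g u)‖ ^ 2 := by
  classical
  -- the norm
  set N : ℂ := ∏ u : (ZMod (Nat.card G))ˣ, χ (pw g u) * χ (pw g u)⁻¹ with hN
  have hpinv : ∀ u, (pw g u)⁻¹ = pw g⁻¹ u := by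
    intro u
    unfold pw
    rw [inv_pow]
  have hNi : IsIntegral ℤ N := by
    apply IsIntegral.prod
    intro u _
    exact (H76Char.isIntegral_of_isCharacter hχ _).mul (H76Char.isIntegral_of_isCharacter hχ _)
  have hfix : ∀ σ : ℂ →+* ℂ, σ N = N := by
    intro σ
    obtain ⟨v, hv⟩ := exists_pw_of_ringHom (G := G) σ
    rw [hN, map_prod]
    refine Fintype.prod_equiv (Equiv.mulRight v) _ _ ?_
    intro u
    rw [map_mul, hv χ hχ, hv χ hχ, hpinv, hpinv, pw_pw, pw_pw]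
    rfl
  obtain ⟨q, hq⟩ := exists_rat_of_fixed (hNi.tower_top) hfix
  have hNr : N = ((∏ u : (ZMod (Nat.card G))ˣ, ‖χ (pw g u)‖ ^ 2 : ℝ) : ℂ) := by
    rw [hN]
    push_cast
    apply Finset.prod_congr rfl
    intro u _
    rw [hχ.inv]
    have := Complex.mul_conj (χ (pw g u))
    rw [this, Complex.normSq_eq_norm_sq]
    push_cast; rfl
  have hpos : (0 : ℝ) < ∏ u : (ZMod (Nat.card G))ˣ, ‖χ (pw g u)‖ ^ 2 := by
    apply Finset.prod_pos
    intro u _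
    have : χ (pw g u) ≠ 0 := fun h => hg ((eq_zero_iff hχ g u).1 h)
    positivity
  have hge : (1 : ℝ) ≤ ∏ u : (ZMod (Nat.card G))ˣ, ‖χ (pw g u)‖ ^ 2 := by
    have h1 : IsIntegral ℤ (q : ℚ) := by
      rw [← isIntegral_algebraMap_iff (B := ℂ) (algebraMap ℚ ℂ).injective]
      rw [hq] at hNi
      exact hNi
    obtain ⟨m, hm⟩ := IsIntegrallyClosed.isIntegral_iff.1 h1
    have h2 : (∏ u : (ZMod (Nat.card G))ˣ, ‖χ (pw g u)‖ ^ 2) = (m : ℝ) := by
      have h3 : (((∏ u : (ZMod (Nat.card G))ˣ, ‖χ (pw g u)‖ ^ 2 : ℝ)) : ℂ) = ((m : ℝ) : ℂ) := by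
        rw [← hNr, hq, ← hm]; simp
      exact_mod_cast h3
    rw [h2] at hpos ⊢
    have h4 : 0 < m := by exact_mod_cast hpos
    exact_mod_cast h4
  have hlog : 0 ≤ ∑ u : (ZMod (Nat.card G))ˣ, Real.log (‖χ (pw g u)‖ ^ 2) := by
    rw [← Real.log_prod]
    · exact Real.log_nonneg hge
    · intro u _
      have : χ (pw g u) ≠ 0 := fun h => hg ((eq_zero_iff hχ g u).1 h)
      positivity
  have hsum : ∑ u : (ZMod (Nat.card G))ˣ, Real.log (‖χ (pw g u)‖ ^ 2) ≤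
      ∑ u : (ZMod (Nat.card G))ˣ, (‖χ (pw g u)‖ ^ 2 - 1) := by
    apply Finset.sum_le_sum
    intro u _
    have : χ (pw g u) ≠ 0 := fun h => hg ((eq_zero_iff hχ g u).1 h)
    exact Real.log_le_sub_one_of_pos (by positivity)
  rw [Finset.sum_sub_distrib, Finset.sum_const, Finset.card_univ, nsmul_eq_mul, mul_one] at hsum
  linarith

/-- The sum of `|χ|²` over an invariant set where `χ` does not vanish is at least its cardinality. -/
theorem card_le_sum [Fintype G] {χ : G → ℂ} (hχ : IsCharacter G χ) (R : Finset G) (hR : ∀ g ∈ R, χ g ≠ 0)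
    (hinv : ∀ (g : G) (u : (ZMod (Nat.card G))ˣ), g ∈ R → pw g u ∈ R) : (R.card : ℝ) ≤ ∑ g ∈ R, ‖χ g‖ ^ 2 := by
  classical
  have hne : NeZero (Nat.card G) := ⟨Nat.card_pos.ne'⟩
  have hU : (0 : ℝ) < Fintype.card (ZMod (Nat.card G))ˣ := by exact_mod_cast Fintype.card_pos
  have h1 : ∀ u : (ZMod (Nat.card G))ˣ, ∑ g ∈ R, ‖χ (pw g u)‖ ^ 2 = ∑ g ∈ R, ‖χ g‖ ^ 2 := by
    intro u
    refine Finset.sum_bij (fun g _ => pw g u) (fun g hg => hinv g u hg) ?_ ?_ ?_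
    · intro a _ b _ hab
      exact (pwEquiv u).injective hab
    · intro b hb
      exact ⟨pw b u⁻¹, hinv b u⁻¹ hb, pw_inv_cancel' b u⟩
    · intro a _
      rfl
  have h2 : (Fintype.card (ZMod (Nat.card G))ˣ : ℝ) * ∑ g ∈ R, ‖χ g‖ ^ 2 =
      ∑ g ∈ R, ∑ u : (ZMod (Nat.card G))ˣ, ‖χ (pw g u)‖ ^ 2 := by
    rw [Finset.sum_comm, Finset.sum_congr rfl (fun u _ => h1 u), Finset.sum_const, Finset.card_univ, nsmul_eq_mul]
  have h3 : (Fintype.card (ZMod (Nat.card G))ˣ : ℝ) * R.card ≤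
      ∑ g ∈ R, ∑ u : (ZMod (Nat.card G))ˣ, ‖χ (pw g u)‖ ^ 2 := by
    have h4 : (Fintype.card (ZMod (Nat.card G))ˣ : ℝ) * R.card =
        ∑ _g ∈ R, (Fintype.card (ZMod (Nat.card G))ˣ : ℝ) := by
      rw [Finset.sum_const, nsmul_eq_mul, mul_comm]
    rw [h4]
    apply Finset.sum_le_sum
    intro g hg
    exact key hχ g (hR g hg)
  rw [← h2] at h3
  exact le_of_mul_le_mul_left h3 hU

end Cfsg.Agent.Lib.H76GalAvg
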