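import Cfsg.Agent.Lib.H76Loc2

/-!
# Blocks of rank one: the basic algebra is local of dimension `p ^ d` (end)
-/

set_option autoImplicit false
set_option linter.all false
set_option synthInstance.maxHeartbeats 400000

namespace Cfsg.Agent.Lib.H76BDim

open Cfsg Cfsg.Agent.Lib.BlockRing Cfsg.Agent.Lib.BlockGA Cfsg.Agent.Lib.BlockIdem
open Cfsg.Agent.Lib.BlockAlg Cfsg.Agent.Lib.CharBasic Cfsg.Agent.Lib.H76Alg
open Cfsg.Agent.Lib.BlockPair Cfsg.Agent.Lib.BlockCount
open scoped ComplexConjugate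

universe u

variable {G : Type u} [Group G] [Finite G] {p : ℕ} {M : Ideal AlgInt} [hMm : M.IsMaximal]
variable {B : Set (IrrCharacter G)} (hB : IsPBlock M B)

/-- the element of the group algebra of a function on a subgroup -/
noncomputable def zF (C : Subgroup G) (F : C → ℂ) : GA G :=
  letI := Fintype.ofFinite C
  ∑ c : C, MonoidAlgebra.single (c : G) (F c)

theorem locA_zF {C : Subgroup G} {F : C → ℂ} (hF : ∀ c, MemLocalRing M (F c)) : LocA M (zF C F) := by
  haveI := hMm.isPrime
  letI := Fintype.ofFinite C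
  exact locA_sum fun c _ => locA_single (hF c)

theorem redA_single {g : G} : redA M (MonoidAlgebra.single g (1 : ℂ)) = MonoidAlgebra.single g 1 := by
  classical
  apply BrauerMap.ext_coeff
  intro h
  rw [redA_coeff, MonoidAlgebra.coeff_single, MonoidAlgebra.coeff_single, Finsupp.single_apply,
    Finsupp.single_apply]
  split_ifs
  · exact red_one
  · exact red_zero

/-- the trace functional -/
noncomputable def trB {n : ℕ} (φ : Cor (Kf M) (bI hB) →ₐ[Kf M] Matrix (Fin n) (Fin n) (Kf M)) :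
    MonoidAlgebra (Kf M) G →ₗ[Kf M] Kf M :=
  (Matrix.traceLinearMap (Fin n) (Kf M) (Kf M)) ∘ₗ φ.toLinearMap ∘ₗ prj

theorem trB_apply {n : ℕ} (φ : Cor (Kf M) (bI hB) →ₐ[Kf M] Matrix (Fin n) (Fin n) (Kf M))
    (x : MonoidAlgebra (Kf M) G) : trB hB φ x = (φ (prj x)).trace := rfl

theorem red_natCast_ne_zero (hM : IsPModular p M) {n : ℕ} (hn : ¬ p ∣ n) : red M (n : ℂ) ≠ 0 := by
  haveI := hMm.isPrime
  rw [Ne, red_eq_zero_iff (loc_natCast n)]
  intro h
  exact hn ((idl_natCast_iff hM n).1 h)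

theorem trB_zF (hM : IsPModular p M) {n : ℕ}
    (φ : Cor (Kf M) (bI hB) →ₐ[Kf M] Matrix (Fin n) (Fin n) (Kf M))
    (h : ∀ (K : Subgroup G) (lam : K →* ℂˣ), ¬ p ∣ Nat.card K → (φ (eC hB K lam)).trace = 0)
    {C : Subgroup G} (hC : ¬ p ∣ Nat.card C) {F : C → ℂ}
    (hF : F ∈ Submodule.span AlgInt {f : C → ℂ | ∃ lam : C →* ℂˣ, f = fun c => (lam c : ℂ)}) :
    (∀ c, MemLocalRing M (F c)) ∧ trB hB φ (redA M (zF C F)) = 0 := by
  haveI := hMm.isPrime
  letI := Fintype.ofFinite C
  have hC0 : (Nat.card C : ℂ) ≠ 0 := by exact_mod_cast Nat.card_pos.ne'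
  induction hF using Submodule.span_induction with
  | mem F hF =>
    obtain ⟨lam, rfl⟩ := hF
    refine ⟨fun c => loc_of_isIntegral (BrauerInd.isIntegral_hom_apply lam c), ?_⟩
    have h1 : zF C (fun c => (lam c : ℂ)) = (Nat.card C : ℂ) • eL C lam⁻¹ := by
      unfold zF eL
      rw [smul_smul, mul_inv_cancel₀ hC0, one_smul]
      refine Finset.sum_congr rfl fun c _ => ?_
      congr 1
      rw [MonoidHom.inv_apply, map_inv, inv_inv]
    rw [h1, redA_smul (loc_natCast _) (locA_eL hM hC _), map_smul]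
    have h2 : trB hB φ (redA M (eL C lam⁻¹)) = 0 := h C lam⁻¹ hC
    rw [h2, smul_zero]
  | zero =>
    refine ⟨fun c => loc_zero, ?_⟩
    have h1 : zF C (0 : C → ℂ) = 0 := by
      unfold zF
      simp
    rw [h1, redA_zero, map_zero]
  | add x y _ _ hx hy =>
    refine ⟨fun c => loc_add (hx.1 c) (hy.1 c), ?_⟩
    have h1 : zF C (x + y) = zF C x + zF C y := by
      unfold zF
      rw [← Finset.sum_add_distrib]
      refine Finset.sum_congr rfl fun c _ => ?_
      rw [Pi.add_apply, MonoidAlgebra.single_add]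
    rw [h1, redA_add (locA_zF hx.1) (locA_zF hy.1), map_add, hx.2, hy.2, add_zero]
  | smul α x _ hx =>
    have hα : MemLocalRing M (α : ℂ) := loc_algInt α
    have h0 : ∀ c, (α • x) c = (α : ℂ) * x c := fun c => rfl
    refine ⟨fun c => by rw [h0]; exact loc_mul hα (hx.1 c), ?_⟩
    have h1 : zF C (α • x) = (α : ℂ) • zF C x := by
      unfold zF
      rw [Finset.smul_sum]
      refine Finset.sum_congr rfl fun c _ => ?_
      rw [MonoidAlgebra.smul_single, h0, smul_eq_mul]
    rw [h1, redA_smul hα (locA_zF hx.1), map_smul, hx.2, smul_zero]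

theorem trB_single (hM : IsPModular p M) {n : ℕ}
    (φ : Cor (Kf M) (bI hB) →ₐ[Kf M] Matrix (Fin n) (Fin n) (Kf M))
    (h : ∀ (K : Subgroup G) (lam : K →* ℂˣ), ¬ p ∣ Nat.card K → (φ (eC hB K lam)).trace = 0)
    {g : G} (hg : ¬ p ∣ orderOf g) : trB hB φ (MonoidAlgebra.single g 1) = 0 := by
  classical
  haveI := hMm.isPrime
  set C := Subgroup.zpowers g with hC
  letI := Fintype.ofFinite C
  have hCc : ¬ p ∣ Nat.card C := by rw [hC, Nat.card_zpowers]; exact hg
  have hcomm : ∀ a b : C, a * b = b * a := by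
    rintro ⟨a, ha⟩ ⟨b, hb⟩
    obtain ⟨i, rfl⟩ := Subgroup.mem_zpowers_iff.mp ha
    obtain ⟨j, rfl⟩ := Subgroup.mem_zpowers_iff.mp hb
    apply Subtype.ext
    show g ^ i * g ^ j = g ^ j * g ^ i
    rw [← zpow_add, ← zpow_add, add_comm]
  set g' : C := ⟨g, Subgroup.mem_zpowers g⟩ with hg'
  have h1 := BrauerInd.card_smul_mem_span hcomm (fun c => if c = g' then (1 : ℂ) else 0) (by
    intro c
    split_ifs
    · exact AlgInt.one_mem
    · exact AlgInt.zero_mem)
  have h2 := (trB_zF hB hM φ h hCc h1).2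
  have h3 : zF C ((Nat.card C : ℂ) • fun c => if c = g' then (1 : ℂ) else 0) =
      (Nat.card C : ℂ) • MonoidAlgebra.single g 1 := by
    unfold zF
    rw [Finset.sum_eq_single g']
    · rw [Pi.smul_apply, if_pos rfl, MonoidAlgebra.smul_single]
    · intro c _ hc
      rw [Pi.smul_apply, if_neg hc, smul_zero, MonoidAlgebra.single_zero]
    · intro h; exact absurd (Finset.mem_univ _) h
  rw [h3, redA_smul (loc_natCast _) (locA_single loc_one), map_smul, redA_single, smul_eq_zero] at h2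
  exact h2.resolve_left (red_natCast_ne_zero hM hCc)

theorem trB_eq_zero (hM : IsPModular p M) {n : ℕ}
    (φ : Cor (Kf M) (bI hB) →ₐ[Kf M] Matrix (Fin n) (Fin n) (Kf M))
    (h : ∀ (K : Subgroup G) (lam : K →* ℂˣ), ¬ p ∣ Nat.card K → (φ (eC hB K lam)).trace = 0)
    (x : MonoidAlgebra (Kf M) G) : trB hB φ x = 0 := by
  induction x using MonoidAlgebra.induction_linear with
  | zero => rw [map_zero]
  | add a b ha hb => rw [map_add, ha, hb, add_zero]
  | single g r =>
    have h1 : (MonoidAlgebra.single g r : MonoidAlgebra (Kf M) G) = r • MonoidAlgebra.single g 1 := by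
      rw [MonoidAlgebra.smul_single, smul_eq_mul, mul_one]
    obtain ⟨w, s, hws, hc, ho, hs', -, -⟩ := BlockOsima.exists_p_decomp hM.1 (orderOf_pos g).ne'
    have h2 : trB hB φ (MonoidAlgebra.single g 1) = trB hB φ (MonoidAlgebra.single s 1) := by
      rw [trB_apply, trB_apply, ← hws, hc.eq]
      exact val_section hB hM φ hc.symm (m := (orderOf g).factorization p)
        (by rw [← ho, pow_orderOf_eq_one])
    rw [h1, map_smul, h2, trB_single hB hM φ h hs', smul_zero]

/-- arithmetic -/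
theorem arith_aux {p d f g r f₁ : ℕ} (hp : p.Prime) (hf : 0 < f) (hf₁ : 0 < f₁) (hr : 0 < r)
    (h1 : p ^ d * f₁ ^ 2 = f * g) (h2 : g = f * r) (h3 : g ∣ p ^ d * f₁) :
    ∃ u : ℕ, f = u * f₁ ∧ p ^ d = u ^ 2 * r := by
  obtain ⟨u, hu⟩ := h3
  have hg : 0 < g := by rw [h2]; positivity
  have h4 : f = u * f₁ := by
    have : g * f = g * (u * f₁) := by
      calc g * f = f * g := mul_comm _ _
        _ = p ^ d * f₁ ^ 2 := h1.symm
        _ = (p ^ d * f₁) * f₁ := by ring
        _ = g * (u * f₁) := by rw [hu]; ring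
    exact Nat.eq_of_mul_eq_mul_left hg this
  refine ⟨u, h4, ?_⟩
  have : p ^ d * f₁ = u ^ 2 * r * f₁ := by
    rw [hu, h2, h4]
    ring
  exact Nat.eq_of_mul_eq_mul_right hf₁ this

include hB in
set_option maxHeartbeats 1000000 in
/-- **blocks of rank one**: existence of a symmetric local algebra of dimension `p ^ d` whose space
of trace forms has dimension `|B|` -/
theorem local_data (hM : IsPModular p M) (hl : blockRank p B = 1) :
    ∃ (k : Type) (_ : Field k) (_ : IsAlgClosed k) (_ : CharP k p) (R : Type u) (_ : Ring R)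
      (_ : Algebra k R) (_ : FiniteDimensional k R) (_ : Nontrivial R) (N : Submodule k R)
      (lamR : R →ₗ[k] k), LocD k N ∧ SymF lamR ∧ Module.finrank k (Tr k R) = Nat.card B ∧
      Module.finrank k R = p ^ blockDefect p B := by
  classical
  letI := Fintype.ofFinite G
  haveI : IsAlgClosed (Kf M) := isAlgClosed_Kf
  haveI := nontrivial_BA hB
  haveI := charP_Kf hM
  have hp := hM.1
  obtain ⟨f₁, a, h⟩ := exists_RD hM hB hl
  obtain ⟨f, hf, φ, R, iR1, iR2, iR3, iR4, N, lamR, g, hN, hS, hT, hs, hA1, hA2, hrk⟩ :=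
    struct_one (lamB_symF (bI_central hB)) (by
      intro n d hd φ hs
      rw [← hl]
      exact card_le_blockRank hB hM hs)
  refine ⟨Kf M, inferInstance, inferInstance, inferInstance, R, iR1, iR2, iR3, iR4, N, lamR, hN, hS, ?_, ?_⟩
  · rw [hT, finrank_Tr_BA hB]
  · rw [finrank_BA' hB h] at hA1
    have hr0 : 0 < Module.finrank (Kf M) R := Module.finrank_pos
    have hfpos : 0 < f := Nat.pos_of_ne_zero hf.out
    have key : ∀ (K : Subgroup G) (lam : K →* ℂˣ) (s : ℤ), ¬ p ∣ Nat.card K →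
        (∀ χ ∈ B, lin (χ : G → ℂ) (eL K lam) = s * a χ) →
        ∃ r : ℕ, ((p : ℤ) ^ blockDefect p B * f₁) * s = r * g ∧ (φ (eC hB K lam)).trace = (r : Kf M) := by
      intro K lam s hK hs
      obtain ⟨r, hr1, hr2⟩ := hrk (eC hB K lam) (eC_idem hB hM hK lam)
      refine ⟨r, ?_, hr2⟩
      rw [← finrank_eC hB hM h hK lam hs, hr1]
      push_cast
      ring
    have hdvd : g ∣ p ^ blockDefect p B * f₁ := by
      have h1 := h.brauer hM hB hl (g : ℤ) ((p : ℤ) ^ blockDefect p B * f₁) (by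
        intro K lam s hK hs
        obtain ⟨r, hr, -⟩ := key K lam s hK hs
        rw [hr]
        exact dvd_mul_left _ _)
      exact_mod_cast h1
    obtain ⟨u, hu1, hu2⟩ := arith_aux hp hfpos h.fpos hr0 hA1 hA2 hdvd
    have hup : ¬ p ∣ u := by
      intro hpu
      have h0 : ∀ (K : Subgroup G) (lam : K →* ℂˣ), ¬ p ∣ Nat.card K → (φ (eC hB K lam)).trace = 0 := by
        intro K lam hK
        obtain ⟨s, hs⟩ := h.exists_s hM hB hl hK lam
        obtain ⟨r, hr1, hr2⟩ := key K lam s hK hs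
        have hg0 : (g : ℤ) ≠ 0 := by
          rw [hA2]
          exact_mod_cast (Nat.mul_pos hfpos hr0).ne'
        have h5 : (r : ℤ) = u * s := by
          apply mul_right_cancel₀ hg0
          rw [← hr1]
          have h6 : (p : ℤ) ^ blockDefect p B = (u : ℤ) ^ 2 * Module.finrank (Kf M) R := by exact_mod_cast hu2
          have h7 : (g : ℤ) = f * Module.finrank (Kf M) R := by exact_mod_cast hA2
          have h8 : (f : ℤ) = u * f₁ := by exact_mod_cast hu1
          rw [h6, h7, h8]
          ring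
        have h9 : (p : ℤ) ∣ (r : ℤ) := by
          rw [h5]
          exact Dvd.dvd.mul_right (by exact_mod_cast hpu) _
        have h10 : p ∣ r := by exact_mod_cast h9
        rw [hr2]
        exact (CharP.cast_eq_zero_iff (Kf M) p r).mpr h10
      obtain ⟨b, hb⟩ := hs (Matrix.single 0 0 1)
      have h1 := trB_eq_zero hB hM φ h0 (inc b)
      rw [trB_apply, prj_inc, hb, Matrix.trace_single_eq_same] at h1
      exact one_ne_zero h1
    have hu1' : u = 1 := by
      have h1 : u ∣ p ^ blockDefect p B := by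
        rw [hu2, pow_two, mul_assoc]
        exact dvd_mul_right _ _
      obtain ⟨j, -, hj⟩ := (Nat.dvd_prime_pow hp).mp h1
      have hj0 : j = 0 := by
        by_contra hj0
        exact hup (by rw [hj]; exact dvd_pow_self p hj0)
      rw [hj, hj0, pow_zero]
    rw [hu2, hu1', one_pow, one_mul]

end Cfsg.Agent.Lib.H76BDim
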