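import Cfsg.Agent.Lib.H76K3J
import Cfsg.Agent.Lib.H76Nil
import Cfsg.Agent.Lib.H10Twist
import Cfsg.Agent.S0972
import Cfsg.Agent.S4434
import Cfsg.Agent.S4607
import Cfsg.Agent.S4648
import Cfsg.Agent.S4733

set_option autoImplicit false
set_option linter.all false

/-!
# Blocks with at most three characters: assembly (helper76), used by S4609
-/

namespace Cfsg.Agent.Lib.H76K3K

open Cfsg Cfsg.Agent.Lib.BlockRing Cfsg.Agent.Lib.BlockGA Cfsg.Agent.Lib.BlockIdem Cfsg.Agent.Lib.BlockAlg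
open Cfsg.Agent.Lib.BlockDeg Cfsg.Agent.Lib.BlockDefect Cfsg.Agent.Lib.AbCount Cfsg.Agent.Lib.H76Blk2

universe u

variable {G : Type u} [Group G] [Finite G] {p : ℕ} [hp : Fact p.Prime] {M : Ideal AlgInt}

/-- a trivial defect group -/
theorem card_eq_one (hM : IsPModular p M) {B : Set (IrrCharacter G)} (hB : IsPBlock M B) {D : Subgroup G}
    (hD : IsDefectGroup p M B D) (h : Nat.card D = 1) : Nat.card B = 1 := by
  have h1 := defectGroup_card hM hB hD
  rw [h] at h1
  have h2 : blockDefect p B = 0 := by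
    by_contra h0
    have := Nat.one_lt_pow h0 hp.out.one_lt
    omega
  exact (((S4733.result p M hM B hB).2.1).1 h2).1

/-- a normal abelian defect group of a block with at most three characters -/
theorem card_normal (hM : IsPModular p M) {B : Set (IrrCharacter G)} (hB : IsPBlock M B) {P : Subgroup G}
    [hPn : P.Normal] (hD : IsDefectGroup p M B P) (hab : ∀ x ∈ P, ∀ y ∈ P, x * y = y * x)
    (hk : Nat.card B ≤ 3) : Nat.card P ≤ 3 := by
  haveI := isPrime hM
  haveI : M.IsMaximal := hM.2.1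
  haveI : CharP (Kf M) p := charP_Kf hM
  by_cases hP1 : Nat.card P = 1
  · omega
  have hk1 : Nat.card B ≠ 1 := by
    intro h1
    have h2 := S4733.result p M hM B hB
    have h3 := BlockSmall.blockRank_pos (p := p) hp.out (isPBlock_nonempty hB)
    have h4 : blockRank p B = 1 := by
      have := h2.1
      omega
    have h5 := h2.2.1.2 ⟨h1, h4⟩
    have h6 := defectGroup_card hM hB hD
    rw [h5, pow_zero] at h6
    exact hP1 h6
  have hk0 : 0 < Nat.card B := by
    have := isPBlock_nonempty hB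
    haveI : Nonempty B := this.to_subtype
    exact Nat.card_pos
  by_cases hk2 : Nat.card B = 2
  · have := (S4607.result p M hM B hB P hD).1 hk2
    omega
  have hk3 : Nat.card B = 3 := by omega
  have hPb : P ≠ ⊥ := by
    rintro rfl
    exact hP1 (by simp)
  have h2 := S4733.result p M hM B hB
  have h3 := BlockSmall.blockRank_pos (p := p) hp.out (isPBlock_nonempty hB)
  have h4 : blockRank p B = 1 ∨ blockRank p B = 2 ∨ blockRank p B = 3 := by
    have := h2.1
    omega
  rcases h4 with h4 | h4 | h4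
  · have := (S4648.result p M hM B hB P hD hPb h4 (by omega)).2.1
    omega
  · obtain ⟨c, hc⟩ := H76Nil.exists_abMax hB hD hab
    exact (H76K3J.card_three hM hc hk3 h4).le
  · have h5 := h2.2.2.2 (by omega)
    have h6 := defectGroup_card hM hB hD
    rw [h5, pow_zero] at h6
    exact absurd h6 hP1

omit hp in
/-- a `p`-group is cyclic if its commutator quotient is -/
theorem cyc [hp : Fact p.Prime] (D Q : Subgroup G) (hQ : Q = ⁅D, D⁆) [hQn : Q.Normal] (hD : IsPGroup p D)
    (h : IsCyclic (D.map (QuotientGroup.mk' Q))) : IsCyclic D := by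
  obtain ⟨⟨y, hy⟩, hgen⟩ := h.exists_generator
  obtain ⟨x, hx, rfl⟩ := hy
  have h1 : Subgroup.zpowers (⟨x, hx⟩ : D) ⊔ frattini D = ⊤ := by
    rw [eq_top_iff]
    intro w _
    obtain ⟨k, hk⟩ := Subgroup.mem_zpowers_iff.1 (hgen ⟨QuotientGroup.mk' Q (w : G), ⟨w, w.2, rfl⟩⟩)
    have hk' : ((x ^ k : G) : G ⧸ Q) = ((w : G) : G ⧸ Q) := by
      have := congrArg Subtype.val hk
      simpa using this
    have h2 : (x ^ k)⁻¹ * (w : G) ∈ Q := QuotientGroup.eq.1 hk'
    have h3 : ((⟨x, hx⟩ : D) ^ k)⁻¹ * w ∈ commutator D := by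
      rw [hQ, ← Subgroup.map_subtype_commutator] at h2
      obtain ⟨v, hv, hv'⟩ := h2
      have e : v = ((⟨x, hx⟩ : D) ^ k)⁻¹ * w := Subtype.ext hv'
      rw [← e]; exact hv
    have h4 := H70Frattini.commutator_le_frattini hD h3
    have h5 : (⟨x, hx⟩ : D) ^ k * (((⟨x, hx⟩ : D) ^ k)⁻¹ * w) = w := by group
    rw [← h5]
    exact Subgroup.mul_mem _ (Subgroup.mem_sup_left (Subgroup.zpow_mem_zpowers _ k)) (Subgroup.mem_sup_right h4)
  have h2 := frattini_nongenerating h1
  exact ⟨⟨x, hx⟩, fun w => (h2 ▸ Subgroup.mem_top w : w ∈ Subgroup.zpowers (⟨x, hx⟩ : D))⟩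

/-- a normal defect group of a block with at most three characters of height zero -/
theorem card_height_zero (hM : IsPModular p M) {B : Set (IrrCharacter G)} (hB : IsPBlock M B) {D : Subgroup G}
    [hDn : D.Normal] (hD : IsDefectGroup p M B D)
    (hk : Nat.card {ψ : IrrCharacter G // ψ ∈ B ∧ blockHeight p B (ψ : G → ℂ) = 0} ≤ 3) : Nat.card D ≤ 3 := by
  haveI := isPrime hM
  have hDp : IsPGroup p D := defectGroup_isPGroup hD
  obtain ⟨Q, hQ⟩ : ∃ Q : Subgroup G, Q = ⁅D, D⁆ := ⟨_, rfl⟩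
  have hQn : Q.Normal := by rw [hQ]; infer_instance
  have hQD : Q ≤ D := by rw [hQ]; exact Subgroup.commutator_le_right D D
  have hQp : IsPGroup p Q := hDp.to_le hQD
  obtain ⟨Bb, hBb, hinf, hdef⟩ := S4434.result p M hM Q hQp B hB
  have hDb : IsDefectGroup p M Bb (D.map (QuotientGroup.mk' Q)) := (hdef _).2 ⟨D, hD, rfl⟩
  have hDbn : (D.map (QuotientGroup.mk' Q)).Normal := hDn.map _ (QuotientGroup.mk'_surjective Q)
  have hab : ∀ x ∈ D.map (QuotientGroup.mk' Q), ∀ y ∈ D.map (QuotientGroup.mk' Q), x * y = y * x := by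
    rintro _ ⟨x, hx, rfl⟩ _ ⟨y, hy, rfl⟩
    rw [← map_mul, ← map_mul]
    show ((x * y : G) : G ⧸ Q) = ((y * x : G) : G ⧸ Q)
    rw [QuotientGroup.eq, hQ]
    have h1 := Subgroup.commutator_mem_commutator (H₁ := D) (H₂ := D) (inv_mem hy) (inv_mem hx)
    have h2 : (x * y)⁻¹ * (y * x) = y⁻¹ * x⁻¹ * y⁻¹⁻¹ * x⁻¹⁻¹ := by group
    rw [h2]; exact h1
  have h0 := (S0972.result p M hM Bb hBb _ hDb).1 hab
  have hcardD : Nat.card (D.map (QuotientGroup.mk' Q)) * Nat.card Q = Nat.card D := by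
    rw [mul_comm]; exact Cores.card_map_mk hQD
  have hmemB : ∀ ψ ∈ Bb, infl Q ψ ∈ B := fun ψ hψ => hinf ψ hψ (infl Q ψ) rfl
  have hdeg : ∀ ψ : IrrCharacter (G ⧸ Q), nuDeg p (infl Q ψ : G → ℂ) = nuDeg p (ψ : G ⧸ Q → ℂ) := by
    intro ψ
    have h2 : charDegree (infl Q ψ : G → ℂ) = charDegree (ψ : G ⧸ Q → ℂ) := by
      have e1 := charDegree_cast_irr (infl Q ψ)
      have e2 := charDegree_cast_irr ψ
      have e3 : (infl Q ψ : G → ℂ) 1 = (ψ : G ⧸ Q → ℂ) 1 := rfl
      rw [← e2] at e3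
      rw [e3] at e1
      exact_mod_cast e1
    rw [nuDeg, nuDeg, h2]
  have hh : ∀ ψ ∈ Bb, blockHeight p B (infl Q ψ : G → ℂ) = 0 := by
    intro ψ hψ
    rw [blockHeight_eq_zero_iff (hmemB ψ hψ)]
    intro χ hχ
    rw [hdeg]
    have h1 := blockDefect_add hψ (h0 ψ hψ)
    have h2 := card_le_blockDefect_add (p := p) hχ
    have h3 := defectGroup_card hM hB hD
    have h4 := defectGroup_card hM hBb hDb
    rw [h3, h4] at hcardD
    obtain ⟨a, ha⟩ := IsPGroup.iff_card.1 hQp
    rw [ha, ← pow_add] at hcardD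
    have h5 : blockDefect p Bb + a = blockDefect p B := Nat.pow_right_injective hp.out.two_le hcardD
    rw [Subgroup.card_eq_card_quotient_mul_card_subgroup Q, Nat.factorization_mul Nat.card_pos.ne' Nat.card_pos.ne',
      Finsupp.add_apply, ha, Nat.Prime.factorization_pow hp.out, Finsupp.single_eq_same] at h2
    omega
  have hle : Nat.card Bb ≤ Nat.card {ψ : IrrCharacter G // ψ ∈ B ∧ blockHeight p B (ψ : G → ℂ) = 0} := by
    refine Nat.card_le_card_of_injective
      (fun ψ : Bb => (⟨infl Q (ψ : IrrCharacter (G ⧸ Q)), hmemB _ ψ.2, hh _ ψ.2⟩ :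
        {ψ : IrrCharacter G // ψ ∈ B ∧ blockHeight p B (ψ : G → ℂ) = 0})) ?_
    intro ψ θ h
    exact Subtype.ext (H76K3G.infl_injective (congrArg Subtype.val h))
  have hb3 := card_normal hM hBb hDb hab (hle.trans hk)
  have hcyc : IsCyclic (D.map (QuotientGroup.mk' Q)) := by
    have hpos : 0 < Nat.card (D.map (QuotientGroup.mk' Q)) := Nat.card_pos
    have h1 : Nat.card (D.map (QuotientGroup.mk' Q)) = 1 ∨ Nat.card (D.map (QuotientGroup.mk' Q)) = 2 ∨
        Nat.card (D.map (QuotientGroup.mk' Q)) = 3 := by omega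
    rcases h1 with h1 | h1 | h1
    · have : Subsingleton (D.map (QuotientGroup.mk' Q)) := (Nat.card_eq_one_iff_unique.1 h1).1
      exact isCyclic_of_subsingleton
    · haveI : Fact (Nat.Prime 2) := ⟨Nat.prime_two⟩
      exact isCyclic_of_prime_card h1
    · haveI : Fact (Nat.Prime 3) := ⟨Nat.prime_three⟩
      exact isCyclic_of_prime_card h1
  have hDc := cyc D Q hQ hDp hcyc
  have hQ1 : Q = ⊥ := by
    letI := hDc.commGroup
    rw [hQ, Subgroup.commutator_eq_bot_iff_le_centralizer]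
    intro x hx
    rw [Subgroup.mem_centralizer_iff]
    intro y hy
    exact congrArg Subtype.val (mul_comm (⟨y, hy⟩ : D) ⟨x, hx⟩)
  have hQc : Nat.card Q = 1 := by rw [hQ1, Subgroup.card_bot]
  rw [hQc, mul_one] at hcardD
  omega

end Cfsg.Agent.Lib.H76K3K
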