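import Mathlib.GroupTheory.FixedPointFree
import Mathlib.GroupTheory.Sylow
import Cfsg.Prelude.Def_Transfer

set_option autoImplicit false
set_option linter.all false

/-!
Groups with one class of nontrivial `p`-elements with `p`-nilpotent centralizers (helper76), used by S4606.
-/

namespace Cfsg.Agent.Lib.H76KL

open Cfsg
open scoped Pointwise

universe u

variable {G : Type u} [Group G]

theorem exists_conj_le [Finite G] {p : ℕ} [Fact p.Prime] {R Q : Subgroup G} (hR : IsPGroup p R) (hQ : IsPGroup p Q)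
    (hQi : ¬ p ∣ Q.index) : ∃ g : G, ∀ r ∈ R, g * r * g⁻¹ ∈ Q := by
  obtain ⟨S, hS⟩ := hR.exists_le_sylow
  let Q' : Sylow p G := hQ.toSylow hQi
  obtain ⟨g, hg⟩ := MulAction.exists_smul_eq G S Q'
  refine ⟨g, fun r hr => ?_⟩
  have h1 : g * r * g⁻¹ ∈ (g • S : Sylow p G) := by
    have h2 : MulAut.conj g • r ∈ MulAut.conj g • (S : Subgroup G) := Subgroup.smul_mem_pointwise_smul r _ _ (hS hr)
    exact h2
  rw [hg] at h1
  exact h1

theorem eq_one_of_mem [Finite G] {p : ℕ} (hp : p.Prime) {N : Subgroup G} (hN : ¬ p ∣ Nat.card N) {x : G} (hx : x ∈ N)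
    {k : ℕ} (hk : orderOf x = p ^ k) : x = 1 := by
  have h1 : orderOf x ∣ Nat.card N := Subgroup.orderOf_dvd_natCard N hx
  rcases Nat.eq_zero_or_pos k with rfl | h0
  · rw [pow_zero] at hk; exact orderOf_eq_one_iff.1 hk
  · exact absurd ((dvd_pow_self p h0.ne').trans (hk ▸ h1)) hN

theorem order_pow_of_mem [Finite G] {p : ℕ} {P : Subgroup G} (hP : IsPGroup p P) {x : G} (hx : x ∈ P) [Fact p.Prime] :
    ∃ k : ℕ, orderOf x = p ^ k := by
  obtain ⟨k, hk⟩ := (IsPGroup.iff_orderOf.1 hP) ⟨x, hx⟩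
  exact ⟨k, by rw [← hk, Subgroup.orderOf_mk]⟩

theorem elementary_of_conj [Finite G] {p : ℕ} [hp : Fact p.Prime] (P : Sylow p G)
    (hconj : ∀ x y : G, (∃ k : ℕ, orderOf x = p ^ k) → x ≠ 1 → (∃ k : ℕ, orderOf y = p ^ k) → y ≠ 1 → IsConj x y)
    (hnil : ∀ x : G, (∃ k : ℕ, orderOf x = p ^ k) → x ≠ 1 → ∃ N : Subgroup (Subgroup.centralizer ({x} : Set G)),
      N.Normal ∧ ¬ p ∣ Nat.card N ∧ ∀ g, ¬ p ∣ orderOf g → g ∈ N) :
    IsElementaryAbelian p (P : Subgroup G) := by
  have hP : IsPGroup p (P : Subgroup G) := P.isPGroup'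
  -- exponent
  have hexp : ∀ x ∈ (P : Subgroup G), x ^ p = 1 := by
    intro x hx
    by_cases hx1 : x = 1
    · rw [hx1, one_pow]
    obtain ⟨k, hk⟩ := order_pow_of_mem hP hx
    have hd : p ∣ Nat.card G := by
      have h1 : p ∣ orderOf x := by
        rcases Nat.eq_zero_or_pos k with rfl | h0
        · rw [pow_zero] at hk; exact absurd (orderOf_eq_one_iff.1 hk) hx1
        · rw [hk]; exact dvd_pow_self p h0.ne'
      exact h1.trans (orderOf_dvd_natCard x)
    obtain ⟨y, hy⟩ := exists_prime_orderOf_dvd_card' p hd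
    have hy1 : y ≠ 1 := by
      rintro rfl
      rw [orderOf_one] at hy
      exact hp.out.one_lt.ne hy
    obtain ⟨c, hc⟩ := isConj_iff.1 (hconj x y ⟨k, hk⟩ hx1 ⟨1, by rw [hy, pow_one]⟩ hy1)
    have h2 : (c * x * c⁻¹) ^ p = 1 := by rw [hc, ← hy, pow_orderOf_eq_one]
    rw [conj_pow] at h2
    have h3 : x ^ p = c⁻¹ * (c * x ^ p * c⁻¹) * c := by group
    rw [h3, h2]; group
  refine ⟨?_, hexp⟩
  rcases hp.out.eq_two_or_odd' with rfl | hodd
  · -- `p = 2`
    refine ⟨⟨fun a b => ?_⟩⟩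
    have key : ∀ x : (P : Subgroup G), x * x = 1 := fun x => Subtype.ext (by
      have := hexp x x.2
      rwa [sq] at this)
    have hinv : ∀ x : (P : Subgroup G), x⁻¹ = x := fun x => inv_eq_of_mul_eq_one_left (key x)
    calc a * b = (a * b)⁻¹ := (hinv _).symm
      _ = b⁻¹ * a⁻¹ := mul_inv_rev a b
      _ = b * a := by rw [hinv, hinv]
  · -- `p` odd
    rcases subsingleton_or_nontrivial (P : Subgroup G) with hs | hnt
    · exact ⟨⟨fun a b => Subsingleton.elim _ _⟩⟩
    have hcent : Nontrivial (Subgroup.center (P : Subgroup G)) := hP.center_nontrivial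
    obtain ⟨⟨⟨u, huP⟩, huc⟩, hu1⟩ := exists_ne (1 : Subgroup.center (P : Subgroup G))
    have hu1' : u ≠ 1 := fun h => hu1 (Subtype.ext (Subtype.ext h))
    rw [Subgroup.mem_center_iff] at huc
    have huc' : ∀ x ∈ (P : Subgroup G), x * u = u * x := fun x hx => congrArg Subtype.val (huc ⟨x, hx⟩)
    have hup := order_pow_of_mem hP huP
    have hup' := order_pow_of_mem hP ((P : Subgroup G).inv_mem huP)
    obtain ⟨g, hg⟩ := isConj_iff.1 (hconj u u⁻¹ hup hu1' hup' (inv_ne_one.2 hu1'))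
    set C := Subgroup.centralizer ({u} : Set G) with hC
    have hPC : (P : Subgroup G) ≤ C := by
      intro x hx
      rw [hC, Subgroup.mem_centralizer_singleton_iff]
      exact huc' x hx
    -- conjugate into `C`
    have hgP : ∀ x ∈ (P : Subgroup G), g * x * g⁻¹ ∈ C := by
      intro x hx
      rw [hC, Subgroup.mem_centralizer_singleton_iff]
      have h1 : g * x * g⁻¹ * u⁻¹ = u⁻¹ * (g * x * g⁻¹) := by
        rw [← hg]
        have := huc' x hx
        calc g * x * g⁻¹ * (g * u * g⁻¹) = g * (x * u) * g⁻¹ := by group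
          _ = g * (u * x) * g⁻¹ := by rw [this]
          _ = g * u * g⁻¹ * (g * x * g⁻¹) := by group
      have h2 : Commute (g * x * g⁻¹) u⁻¹ := h1
      exact (Commute.inv_right_iff.1 h2).eq
    obtain ⟨n, hnP, hnu⟩ : ∃ n : G, (∀ x ∈ (P : Subgroup G), n * x * n⁻¹ ∈ (P : Subgroup G)) ∧ n * u * n⁻¹ = u⁻¹ := by
      obtain ⟨c, hc⟩ := exists_conj_le (G := C) (p := p)
        (R := ((P : Subgroup G).map (MulAut.conj g).toMonoidHom).subgroupOf C) (Q := (P : Subgroup G).subgroupOf C)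
        ((hP.map _).comap_of_injective C.subtype (Subgroup.subtype_injective _))
        (hP.comap_of_injective C.subtype (Subgroup.subtype_injective _))
        (fun hd => P.not_dvd_index (hd.trans (Subgroup.relIndex_dvd_index_of_le hPC)))
      refine ⟨c * g, fun x hx => ?_, ?_⟩
      · have h1 := hc ⟨g * x * g⁻¹, hgP x hx⟩ (Subgroup.mem_subgroupOf.2 ⟨x, hx, rfl⟩)
        rw [Subgroup.mem_subgroupOf] at h1
        have h2 : (c : G) * (g * x * g⁻¹) * (c : G)⁻¹ ∈ (P : Subgroup G) := h1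
        have h3 : (c : G) * g * x * ((c : G) * g)⁻¹ = (c : G) * (g * x * g⁻¹) * (c : G)⁻¹ := by group
        rw [h3]; exact h2
      · have h3 : (c : G) * g * u * ((c : G) * g)⁻¹ = (c : G) * (g * u * g⁻¹) * (c : G)⁻¹ := by group
        rw [h3, hg]
        have h4 : (c : G) * u = u * c := Subgroup.mem_centralizer_singleton_iff.1 c.2
        have h5 : Commute (c : G) u⁻¹ := Commute.inv_right (show Commute (c : G) u from h4)
        rw [h5.eq, mul_inv_cancel_right]
    -- powers of `n`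
    have hpowP : ∀ (k : ℕ), ∀ x ∈ (P : Subgroup G), n ^ k * x * (n ^ k)⁻¹ ∈ (P : Subgroup G) := by
      intro k
      induction k with
      | zero => intro x hx; simpa using hx
      | succ k ih =>
        intro x hx
        have h1 := ih _ (hnP x hx)
        have h2 : n ^ (k + 1) * x * (n ^ (k + 1))⁻¹ = n ^ k * (n * x * n⁻¹) * (n ^ k)⁻¹ := by
          rw [pow_succ]; group
        rw [h2]; exact h1
    have hn2 : Commute (n ^ 2) u := by
      have h1 : n ^ 2 * u * (n ^ 2)⁻¹ = u := by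
        have h2 : n ^ 2 * u * (n ^ 2)⁻¹ = n * (n * u * n⁻¹) * n⁻¹ := by rw [pow_two]; group
        rw [h2, hnu]
        have h3 : n * u⁻¹ * n⁻¹ = (n * u * n⁻¹)⁻¹ := by group
        rw [h3, hnu, inv_inv]
      exact mul_inv_eq_iff_eq_mul.1 h1
    have hodd_pow : ∀ j : ℕ, n ^ (2 * j + 1) * u * (n ^ (2 * j + 1))⁻¹ = u⁻¹ := by
      intro j
      have h1 : n ^ (2 * j + 1) * u * (n ^ (2 * j + 1))⁻¹ = (n ^ 2) ^ j * (n * u * n⁻¹) * ((n ^ 2) ^ j)⁻¹ := by
        rw [pow_succ, pow_mul]; group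
      rw [h1, hnu]
      have h2 : Commute ((n ^ 2) ^ j) u⁻¹ := (hn2.pow_left j).inv_right
      rw [h2.eq, mul_inv_cancel_right]
    obtain ⟨a, m, hm, hnm⟩ := Nat.exists_eq_two_pow_mul_odd (orderOf_pos n).ne'
    set t := n ^ m with ht
    have hto : orderOf t ∣ 2 ^ a := by
      rw [orderOf_dvd_iff_pow_eq_one, ht, ← pow_mul, mul_comm m, ← hnm, pow_orderOf_eq_one]
    have hpt : ¬ p ∣ orderOf t := by
      intro h
      have h1 := hp.out.dvd_of_dvd_pow (h.trans hto)
      have h2 := (Nat.prime_dvd_prime_iff_eq hp.out Nat.prime_two).1 h1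
      rw [h2] at hodd
      exact absurd hodd (by decide)
    have htu : t * u * t⁻¹ = u⁻¹ := by
      obtain ⟨j, hj⟩ := hm
      rw [ht, hj]; exact hodd_pow j
    have htP : ∀ x ∈ (P : Subgroup G), t * x * t⁻¹ ∈ (P : Subgroup G) := hpowP m
    -- `t ^ 2` centralises `P`
    have ht2u : Commute (t * t) u := by
      have h1 : t * t * u * (t * t)⁻¹ = u := by
        have h2 : t * t * u * (t * t)⁻¹ = t * (t * u * t⁻¹) * t⁻¹ := by group
        rw [h2, htu]
        have h3 : t * u⁻¹ * t⁻¹ = (t * u * t⁻¹)⁻¹ := by group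
        rw [h3, htu, inv_inv]
      exact mul_inv_eq_iff_eq_mul.1 h1
    have ht2C : t * t ∈ C := by
      rw [hC, Subgroup.mem_centralizer_singleton_iff]; exact ht2u.eq
    obtain ⟨N, hNn, hNp, hNreg⟩ := hnil u hup hu1'
    have ht2N : (⟨t * t, ht2C⟩ : C) ∈ N := by
      apply hNreg
      intro h
      rw [Subgroup.orderOf_mk] at h
      apply hpt
      apply h.trans
      have : t * t = t ^ 2 := (sq t).symm
      rw [this]
      exact orderOf_pow_dvd 2
    have ht2 : ∀ x ∈ (P : Subgroup G), t * (t * x * t⁻¹) * t⁻¹ = x := by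
      intro x hx
      have h1 : t * t * x * (t * t)⁻¹ * x⁻¹ ∈ (P : Subgroup G) := by
        have h2 : t * t * x * (t * t)⁻¹ * x⁻¹ = t * (t * x * t⁻¹) * t⁻¹ * x⁻¹ := by group
        rw [h2]
        exact (P : Subgroup G).mul_mem (htP _ (htP x hx)) ((P : Subgroup G).inv_mem hx)
      have h3 : (⟨t * t, ht2C⟩ : C) * (⟨x, hPC hx⟩ * (⟨t * t, ht2C⟩ : C)⁻¹ * ⟨x, hPC hx⟩⁻¹) ∈ N :=
        N.mul_mem ht2N (hNn.conj_mem _ (N.inv_mem ht2N) _)
      obtain ⟨k, hk⟩ := order_pow_of_mem hP h1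
      have h4 : (⟨t * t, ht2C⟩ : C) * (⟨x, hPC hx⟩ * (⟨t * t, ht2C⟩ : C)⁻¹ * ⟨x, hPC hx⟩⁻¹) = 1 := by
        apply eq_one_of_mem hp.out hNp h3 (k := k)
        rw [← hk, ← Subgroup.orderOf_coe]
        congr 1
        show t * t * (x * (t * t)⁻¹ * x⁻¹) = _
        group
      have h5 : t * t * (x * (t * t)⁻¹ * x⁻¹) = 1 := congrArg Subtype.val h4
      have h6 : t * (t * x * t⁻¹) * t⁻¹ = (t * t * (x * (t * t)⁻¹ * x⁻¹)) * x := by group
      rw [h6, h5, one_mul]
    -- `t` acts fixed point freely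
    have hfix : ∀ w ∈ (P : Subgroup G), t * w * t⁻¹ = w → w = 1 := by
      intro w hw htw
      by_contra hw1
      obtain ⟨N', hNn', hNp', hNreg'⟩ := hnil w (order_pow_of_mem hP hw) hw1
      have htC : t ∈ Subgroup.centralizer ({w} : Set G) := by
        rw [Subgroup.mem_centralizer_singleton_iff]
        exact mul_inv_eq_iff_eq_mul.1 htw
      have huC : u ∈ Subgroup.centralizer ({w} : Set G) := by
        rw [Subgroup.mem_centralizer_singleton_iff]
        exact (huc' w hw).symm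
      have htN : (⟨t, htC⟩ : Subgroup.centralizer ({w} : Set G)) ∈ N' := hNreg' _ (by rwa [Subgroup.orderOf_mk])
      have h3 : (⟨t, htC⟩ : Subgroup.centralizer ({w} : Set G)) * (⟨u, huC⟩ * (⟨t, htC⟩ : Subgroup.centralizer ({w} : Set G))⁻¹ * ⟨u, huC⟩⁻¹) ∈ N' :=
        N'.mul_mem htN (hNn'.conj_mem _ (N'.inv_mem htN) _)
      have h4 : ((⟨t, htC⟩ * (⟨u, huC⟩ * (⟨t, htC⟩ : Subgroup.centralizer ({w} : Set G))⁻¹ * ⟨u, huC⟩⁻¹) :
          Subgroup.centralizer ({w} : Set G)) : G) = u⁻¹ * u⁻¹ := by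
        show t * (u * t⁻¹ * u⁻¹) = _
        rw [← htu]; group
      have h5 : u⁻¹ * u⁻¹ ∈ (P : Subgroup G) := (P : Subgroup G).mul_mem ((P : Subgroup G).inv_mem huP) ((P : Subgroup G).inv_mem huP)
      obtain ⟨k, hk⟩ := order_pow_of_mem hP h5
      have h6 := eq_one_of_mem hp.out hNp' h3 (k := k) (by rw [← hk, ← Subgroup.orderOf_coe, h4])
      have h7 : u⁻¹ * u⁻¹ = 1 := by rw [← h4, h6]; rfl
      have h8 : u ^ 2 = 1 := by
        have := congrArg (fun z => z⁻¹) h7
        simp only [mul_inv_rev, inv_inv, inv_one] at this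
        rw [sq]; exact this
      have h9 := hexp u huP
      have h10 : orderOf u ∣ Nat.gcd 2 p := Nat.dvd_gcd (orderOf_dvd_of_pow_eq_one h8) (orderOf_dvd_of_pow_eq_one h9)
      have h11 : Nat.gcd 2 p = 1 := Nat.coprime_two_left.2 hodd
      rw [h11] at h10
      exact hu1' (orderOf_eq_one_iff.1 (Nat.dvd_one.1 h10))
    let σ : (P : Subgroup G) →* (P : Subgroup G) :=
      { toFun := fun x => ⟨t * x * t⁻¹, htP x x.2⟩
        map_one' := Subtype.ext (by simp)
        map_mul' := fun x y => Subtype.ext (by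
          show t * (x * y : G) * t⁻¹ = t * x * t⁻¹ * (t * y * t⁻¹)
          group) }
    have hσ1 : MonoidHom.FixedPointFree σ := fun x hx => Subtype.ext (hfix x x.2 (congrArg Subtype.val hx))
    have hσ2 : Function.Involutive σ := fun x => Subtype.ext (ht2 x x.2)
    exact ⟨⟨fun a b => (hσ1.commute_all_of_involutive hσ2 a b).eq⟩⟩

end Cfsg.Agent.Lib.H76KL
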