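import Cfsg.Agent.Lib.H76KL
import Cfsg.Agent.Lib.H76KL2
import Cfsg.Agent.Lib.H32PSolv
import Cfsg.Agent.Lib.BlockDefZero
import Cfsg.Agent.S4435
import Cfsg.Agent.S4436

set_option autoImplicit false
set_option linter.all false

/-!
Blocks with `k(B) = l(B) + 1` (helper76), used by S4606: `p`-solvable groups
-/

namespace Cfsg.Agent.Lib.H76KL

open Cfsg Cfsg.Agent.Lib Cfsg.Agent.Lib.BlockRing Cfsg.Agent.Lib.BlockGA Cfsg.Agent.Lib.BlockIdem
open Cfsg.Agent.Lib.BlockOsima Cfsg.Agent.Lib.BlockPair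
open Cfsg.Agent.Lib.CharBasic Cfsg.Agent.Lib.BlockCount Cfsg.Agent.Lib.BlockSecond Cfsg.Agent.Lib.Clifford
open Cfsg.Agent.Lib.CliffordCorr
open scoped ComplexConjugate Classical

universe u

variable {G : Type u} [Group G] {p : ℕ} {M : Ideal AlgInt}

theorem preg_indFun [Fintype G] (T : Subgroup G) (f : T → ℂ) : preg p (indFun T f) = indFun T (preg p f) := by
  funext g
  unfold preg
  rw [IndFun.indFun_apply, IndFun.indFun_apply]
  have h1 : ∀ x : G, extendByZero T (fun t : T => if p ∣ orderOf t then 0 else f t) (x⁻¹ * g * x) =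
      if p ∣ orderOf g then 0 else extendByZero T f (x⁻¹ * g * x) := by
    intro x
    have ho : orderOf (x⁻¹ * g * x) = orderOf g := by
      have := orderOf_injective (MulAut.conj x⁻¹).toMonoidHom (MulAut.conj x⁻¹).injective g
      have e : (MulAut.conj x⁻¹).toMonoidHom g = x⁻¹ * g * x := by
        show x⁻¹ * g * x⁻¹⁻¹ = _
        rw [inv_inv]
      rwa [e] at this
    by_cases hx : x⁻¹ * g * x ∈ T
    · rw [IndFun.extendByZero_mem T _ hx, IndFun.extendByZero_mem T _ hx]
      have : orderOf (⟨x⁻¹ * g * x, hx⟩ : T) = orderOf g := by rw [Subgroup.orderOf_mk, ho]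
      rw [this]
    · rw [IndFun.extendByZero_not_mem T _ hx, IndFun.extendByZero_not_mem T _ hx]
      simp
  rw [Finset.sum_congr rfl (fun x _ => h1 x)]
  split_ifs
  · simp
  · rfl

theorem rsp_orth' [Fintype G] (hM : IsPModular p M) {B : Set (IrrCharacter G)} (hB : IsPBlock M B)
    {v : G → ℂ} (hv : v ∈ rsp p B) {ξ : IrrCharacter G} (hξ : ξ ∉ B) : classInner v (ξ : G → ℂ) = 0 := by
  haveI := isPrime hM
  induction hv using Submodule.span_induction with
  | mem x hx =>
    obtain ⟨χ, hχ, rfl⟩ := hx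
    show classInner (preg p (χ : G → ℂ)) (ξ : G → ℂ) = 0
    rw [← Contrib.contrib_eq_classInner]
    apply Contrib.contrib_eq_zero hM
    intro h
    exact hξ (mem_of_sameBlock hB hχ h)
  | zero => exact classInner_zero_left _
  | add x y _ _ hx hy => rw [classInner_add_left, hx, hy, add_zero]
  | smul a x _ hx => rw [classInner_smul_left, hx, mul_zero]

/-- the rank of a block consisting of induced characters -/
theorem rank_ind [Fintype G] (hM : IsPModular p M) (T : Subgroup G) [Fintype T] {B' : Set (IrrCharacter T)}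
    {B : Set (IrrCharacter G)} (hB' : IsPBlock M B')
    (hmem : ∀ χ : IrrCharacter G, χ ∈ B ↔ ∃ ψ ∈ B', (χ : G → ℂ) = indFun T (ψ : T → ℂ))
    (hirr : ∀ ψ ∈ B', IsIrrCharacter G (indFun T (ψ : T → ℂ)))
    (hinj : ∀ ψ ∈ B', ∀ ψ' ∈ B', indFun T (ψ : T → ℂ) = indFun T (ψ' : T → ℂ) → ψ = ψ') :
    blockRank p B = blockRank p B' := by
  rw [blockRank_eq, blockRank_eq]
  let F : (T → ℂ) →ₗ[ℂ] (G → ℂ) := IndFun.indLin T
  have hF : ∀ f, F f = indFun T f := fun _ => rfl
  have h1 : rsp p B = (rsp p B').map F := by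
    unfold rsp
    rw [Submodule.map_span, ← Set.image_comp]
    congr 1
    ext v
    constructor
    · rintro ⟨χ, hχ, rfl⟩
      obtain ⟨ψ, hψ, h⟩ := (hmem χ).1 hχ
      refine ⟨ψ, hψ, ?_⟩
      show indFun T (preg p (ψ : T → ℂ)) = preg p (χ : G → ℂ)
      rw [h, preg_indFun]
    · rintro ⟨ψ, hψ, rfl⟩
      refine ⟨⟨_, hirr ψ hψ⟩, (hmem _).2 ⟨ψ, hψ, rfl⟩, ?_⟩
      show preg p (indFun T (ψ : T → ℂ)) = indFun T (preg p (ψ : T → ℂ))
      rw [preg_indFun]
  rw [h1]
  have hinjF : Function.Injective (F.domRestrict (rsp p B')) := by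
    rw [← LinearMap.ker_eq_bot, LinearMap.ker_eq_bot']
    rintro ⟨v, hv⟩ hv0
    have hv0' : indFun T v = 0 := hv0
    apply Subtype.ext
    show v = 0
    have hcf : IsClassFunction T v := rsp_classFunction hv
    have hexp := hcf.expansion
    have h2 : ∀ ξ : IrrCharacter T, classInner v (ξ : T → ℂ) = 0 := by
      intro ξ
      by_cases hξ : ξ ∈ B'
      · have h3 : classInner (indFun T v) (indFun T (ξ : T → ℂ)) = classInner v (ξ : T → ℂ) := by
          conv_lhs => rw [hexp]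
          have h4 : indFun T (∑ χ : IrrCharacter T, classInner v (χ : T → ℂ) • (χ : T → ℂ)) =
              ∑ χ : IrrCharacter T, classInner v (χ : T → ℂ) • indFun T (χ : T → ℂ) := by
            rw [← hF, map_sum]
            apply Finset.sum_congr rfl
            intro χ _
            rw [map_smul, hF]
          rw [h4, classInner_sum_left, Finset.sum_eq_single ξ]
          · rw [classInner_smul_left, (hirr ξ hξ).classInner_self, mul_one]
          · intro χ _ hne
            rw [classInner_smul_left]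
            by_cases hχ : χ ∈ B'
            · rw [(hirr χ hχ).classInner_eq_zero (hirr ξ hξ) (fun h => hne (hinj χ hχ ξ hξ h)), mul_zero]
            · rw [rsp_orth' hM hB' hv hχ, zero_mul]
          · intro h; exact absurd (Finset.mem_univ _) h
        rw [← h3, hv0', classInner_zero_left]
      · exact rsp_orth' hM hB' hv hξ
    rw [hexp]
    exact Finset.sum_eq_zero fun ξ _ => by rw [h2, zero_smul]
  have h3 := LinearMap.finrank_range_of_inj hinjF
  rw [← h3, LinearMap.range_domRestrict]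

theorem isElementaryAbelian_map {H : Subgroup G} {D : Subgroup H} (h : IsElementaryAbelian p D) :
    IsElementaryAbelian p (D.map H.subtype) := by
  obtain ⟨h1, h2⟩ := h
  refine ⟨⟨⟨?_⟩⟩, ?_⟩
  · rintro ⟨_, ⟨a, ha, rfl⟩⟩ ⟨_, ⟨b, hb, rfl⟩⟩
    apply Subtype.ext
    have := h1.is_comm.comm ⟨a, ha⟩ ⟨b, hb⟩
    exact congrArg (fun x : D => ((x : H) : G)) this
  · rintro _ ⟨a, ha, rfl⟩
    exact congrArg Subtype.val (h2 a ha)

theorem isElementaryAbelian_conj {D : Subgroup G} (h : IsElementaryAbelian p D) (x : G) :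
    IsElementaryAbelian p (D.map (MulAut.conj x).toMonoidHom) := by
  obtain ⟨h1, h2⟩ := h
  refine ⟨⟨⟨?_⟩⟩, ?_⟩
  · rintro ⟨_, ⟨a, ha, rfl⟩⟩ ⟨_, ⟨b, hb, rfl⟩⟩
    apply Subtype.ext
    have := congrArg Subtype.val (h1.is_comm.comm ⟨a, ha⟩ ⟨b, hb⟩)
    have h3 : a * b = b * a := this
    show (MulAut.conj x) a * (MulAut.conj x) b = (MulAut.conj x) b * (MulAut.conj x) a
    rw [← map_mul, ← map_mul, h3]
  · rintro _ ⟨a, ha, rfl⟩
    show ((MulAut.conj x) a) ^ p = 1
    rw [← map_pow, h2 a ha, map_one]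

/-- group theory: one class of `p`-elements in a `p`-solvable group -/
theorem elementary_of_psolvable [Finite G] [hp : Fact p.Prime] (hS : IsPSolvable p G) (P : Subgroup G) (hP : IsPGroup p P)
    (hconj : ∀ x y : G, (∃ k : ℕ, orderOf x = p ^ k) → x ≠ 1 → (∃ k : ℕ, orderOf y = p ^ k) → y ≠ 1 → IsConj x y) :
    IsElementaryAbelian p P := by
  by_cases hP1 : P = ⊥
  · subst hP1
    refine ⟨⟨⟨fun a b => Subsingleton.elim _ _⟩⟩, fun a ha => ?_⟩
    rw [Subgroup.mem_bot.1 ha, one_pow]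
  obtain ⟨x₀, hx₀, hx₀1⟩ : ∃ x ∈ P, x ≠ 1 := by
    obtain ⟨a, ha⟩ := Subgroup.ne_bot_iff_exists_ne_one.1 hP1
    exact ⟨(a : G), a.2, fun h => ha (Subtype.ext h)⟩
  obtain ⟨k₀, hk₀⟩ := order_pow_of_mem hP hx₀
  have hpd : p ∣ Nat.card G := by
    have h1 : p ∣ orderOf x₀ := by
      rcases Nat.eq_zero_or_pos k₀ with rfl | h0
      · rw [pow_zero] at hk₀; exact absurd (orderOf_eq_one_iff.1 hk₀) hx₀1
      · rw [hk₀]; exact dvd_pow_self p h0.ne'
    exact h1.trans (orderOf_dvd_natCard x₀)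
  have hexp : ∀ x ∈ P, x ^ p = 1 := by
    intro x hx
    by_cases hx1 : x = 1
    · rw [hx1, one_pow]
    obtain ⟨y, hy⟩ := exists_prime_orderOf_dvd_card' p hpd
    have hy1 : y ≠ 1 := by
      rintro rfl
      rw [orderOf_one] at hy
      exact hp.out.one_lt.ne hy
    obtain ⟨c, hc⟩ := isConj_iff.1 (hconj x y (order_pow_of_mem hP hx) hx1 ⟨1, by rw [hy, pow_one]⟩ hy1)
    have h2 : (c * x * c⁻¹) ^ p = 1 := by rw [hc, ← hy, pow_orderOf_eq_one]
    rw [conj_pow] at h2
    have h3 : x ^ p = c⁻¹ * (c * x ^ p * c⁻¹) * c := by group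
    rw [h3, h2]; group
  refine ⟨?_, hexp⟩
  set N := pPrimeCore p G with hN
  have hNn : N.Normal := inferInstance
  have hNp : (Nat.card N).Coprime p := Cores.coprime_card_pPrimeCore p G
  have hNp' : ¬ p ∣ Nat.card N := fun h => by
    have := Nat.dvd_gcd h (dvd_refl p)
    rw [hNp] at this
    exact hp.out.one_lt.ne' (Nat.dvd_one.1 this)
  have hcore := Cores.pPrimeCore_quotient_pPrimeCore p G
  have hS' : IsPSolvable p (G ⧸ N) := H32PSolv.isPSolvable_quotient hS N
  set K := pCore p (G ⧸ N) with hK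
  have hKn : K.Normal := inferInstance
  have hKp : IsPGroup p K := Cores.isPGroup_pCore p _
  have hK1 : K ≠ ⊥ := by
    intro h
    have h1 := H32PSolv.centralizer_pCore_le hS' hcore
    rw [← hK, h] at h1
    have h2 : Subgroup.centralizer (((⊥ : Subgroup (G ⧸ N))) : Set (G ⧸ N)) = ⊤ := by
      rw [Subgroup.centralizer_eq_top_iff_subset]
      intro x hx
      rw [Subgroup.coe_bot, Set.mem_singleton_iff] at hx
      rw [hx]
      exact (Subgroup.center _).one_mem
    rw [h2, top_le_iff] at h1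
    -- the quotient is trivial
    have h3 : (x₀ : G ⧸ N) = 1 := by
      have h4 : (x₀ : G ⧸ N) ∈ (⊤ : Subgroup (G ⧸ N)) := Subgroup.mem_top _
      rw [← h1] at h4
      exact Subgroup.mem_bot.1 h4
    rw [QuotientGroup.eq_one_iff] at h3
    exact hx₀1 (eq_one_of_mem hp.out hNp' h3 hk₀)
  have hKnt : Nontrivial K := (Subgroup.nontrivial_iff_ne_bot K).2 hK1
  have hcent : Nontrivial (Subgroup.center K) := hKp.center_nontrivial
  set Z : Subgroup (G ⧸ N) := (Subgroup.center K).map K.subtype with hZ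
  have hZn : Z.Normal := by
    rw [hZ]
    exact ConjAct.normal_of_characteristic_of_normal
  have hZ1 : Z ≠ ⊥ := by
    rw [hZ]
    intro h
    rw [Subgroup.map_eq_bot_iff_of_injective _ (Subgroup.subtype_injective _)] at h
    exact (Subgroup.nontrivial_iff_ne_bot _).1 hcent h
  have hZp : IsPGroup p Z := (hKp.to_subgroup _).map _
  set L := Z.comap (QuotientGroup.mk' N) with hL
  have hLn : L.Normal := inferInstance
  have hpL : p ∣ Nat.card L := by
    have h1 : Nat.card L = Nat.card Z * Nat.card N ∨ Nat.card L = Nat.card N * Nat.card Z := by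
      have := Cores.card_comap_mk (N := N) Z
      first
        | exact Or.inl this
        | exact Or.inr this
    have h2 : p ∣ Nat.card Z := by
      obtain ⟨k, hk⟩ := hZp.exists_card_eq
      rcases Nat.eq_zero_or_pos k with rfl | h0
      · rw [pow_zero] at hk
        exact absurd (Subgroup.card_eq_one.1 hk) hZ1
      · rw [hk]; exact dvd_pow_self p h0.ne'
    rcases h1 with h1 | h1 <;> rw [h1]
    · exact Dvd.dvd.mul_right h2 _
    · exact Dvd.dvd.mul_left h2 _
  obtain ⟨⟨y, hyL⟩, hy⟩ := exists_prime_orderOf_dvd_card' p hpL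
  rw [Subgroup.orderOf_mk] at hy
  have hy1 : y ≠ 1 := by
    rintro rfl
    rw [orderOf_one] at hy
    exact hp.out.one_lt.ne hy
  have hPL : P ≤ L := by
    intro x hx
    by_cases hx1 : x = 1
    · rw [hx1]; exact L.one_mem
    obtain ⟨c, hc⟩ := isConj_iff.1 (hconj y x ⟨1, by rw [hy, pow_one]⟩ hy1 (order_pow_of_mem hP hx) hx1)
    rw [← hc]
    exact hLn.conj_mem y hyL c
  refine ⟨⟨?_⟩⟩
  rintro ⟨a, ha⟩ ⟨b, hb⟩
  apply Subtype.ext
  show a * b = b * a
  have ha' : (a : G ⧸ N) ∈ Z := hPL ha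
  have hb' : (b : G ⧸ N) ∈ Z := hPL hb
  obtain ⟨a', ha'', ha3⟩ := ha'
  obtain ⟨b', hb'', hb3⟩ := hb'
  have h1 : (a : G ⧸ N) * b = b * a := by
    rw [← ha3, ← hb3]
    have := (Subgroup.mem_center_iff.1 ha'') b'
    exact (congrArg Subtype.val this).symm
  have h2 : (a * b) * (b * a)⁻¹ ∈ N := by
    rw [← QuotientGroup.eq_one_iff, QuotientGroup.mk_mul, QuotientGroup.mk_inv, QuotientGroup.mk_mul,
      QuotientGroup.mk_mul, h1, mul_inv_cancel]
  have h3 : (a * b) * (b * a)⁻¹ ∈ P := P.mul_mem (P.mul_mem ha hb) (P.inv_mem (P.mul_mem hb ha))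
  obtain ⟨k, hk⟩ := order_pow_of_mem hP h3
  exact mul_inv_eq_one.1 (eq_one_of_mem hp.out hNp' h2 hk)

end Cfsg.Agent.Lib.H76KL
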