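import Cfsg.Agent.Lib.H76BRk
import Cfsg.Agent.Lib.H76Vreg
import Cfsg.Agent.Lib.ContribApps

/-!
# Blocks of rank one: the basic algebra is local of dimension `p ^ d`
-/

set_option autoImplicit false
set_option linter.all false
set_option synthInstance.maxHeartbeats 400000

namespace Cfsg.Agent.Lib.H76BDim

open Cfsg Cfsg.Agent.Lib.BlockRing Cfsg.Agent.Lib.BlockGA Cfsg.Agent.Lib.BlockIdem
open Cfsg.Agent.Lib.BlockAlg Cfsg.Agent.Lib.CharBasic Cfsg.Agent.Lib.H76Alg
open Cfsg.Agent.Lib.BlockPair Cfsg.Agent.Lib.BlockCount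
open scoped ComplexConjugate

universe u

section lin

variable {G : Type u} [Group G] [Finite G] {p : ℕ} {M : Ideal AlgInt}

/-- the idempotent of a linear character of a subgroup -/
noncomputable def eL (K : Subgroup G) (lam : K →* ℂˣ) : GA G :=
  letI := Fintype.ofFinite K
  (Nat.card K : ℂ)⁻¹ • ∑ k : K, MonoidAlgebra.single (k : G) ((lam k⁻¹ : ℂˣ) : ℂ)

theorem eL_mul_single (K : Subgroup G) (lam : K →* ℂˣ) (k : K) :
    eL K lam * MonoidAlgebra.single (k : G) 1 = ((lam k : ℂˣ) : ℂ) • eL K lam := by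
  letI := Fintype.ofFinite K
  unfold eL
  rw [smul_mul_assoc, smul_comm ((lam k : ℂˣ) : ℂ) ((Nat.card K : ℂ)⁻¹)]
  congr 1
  rw [Finset.sum_mul, Finset.smul_sum]
  rw [← Equiv.sum_comp (Equiv.mulRight k) (fun x : K => ((lam k : ℂˣ) : ℂ) •
    MonoidAlgebra.single (x : G) ((lam x⁻¹ : ℂˣ) : ℂ))]
  refine Finset.sum_congr rfl fun x _ => ?_
  rw [MonoidAlgebra.single_mul_single, MonoidAlgebra.smul_single, mul_one, smul_eq_mul]
  show MonoidAlgebra.single ((x : G) * k) _ = MonoidAlgebra.single (((x * k : K)) : G) _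
  rw [Subgroup.coe_mul]
  congr 1
  show ((lam x⁻¹ : ℂˣ) : ℂ) = ((lam k : ℂˣ) : ℂ) * ((lam (x * k)⁻¹ : ℂˣ) : ℂ)
  rw [mul_inv_rev, map_mul, Units.val_mul, ← mul_assoc, ← Units.val_mul, ← map_mul, mul_inv_cancel,
    map_one, Units.val_one, one_mul]

theorem eL_idem (K : Subgroup G) (lam : K →* ℂˣ) : eL K lam * eL K lam = eL K lam := by
  letI := Fintype.ofFinite K
  have hK : (Nat.card K : ℂ) ≠ 0 := by exact_mod_cast Nat.card_pos.ne'
  conv_lhs => rw [show eL K lam * eL K lam = eL K lam * ((Nat.card K : ℂ)⁻¹ •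
    ∑ k : K, MonoidAlgebra.single (k : G) ((lam k⁻¹ : ℂˣ) : ℂ)) from rfl]
  rw [mul_smul_comm, Finset.mul_sum]
  have h1 : ∀ k : K, eL K lam * MonoidAlgebra.single (k : G) ((lam k⁻¹ : ℂˣ) : ℂ) = eL K lam := by
    intro k
    have h2 : (MonoidAlgebra.single (k : G) ((lam k⁻¹ : ℂˣ) : ℂ) : GA G) =
        ((lam k⁻¹ : ℂˣ) : ℂ) • MonoidAlgebra.single (k : G) 1 := by
      rw [MonoidAlgebra.smul_single, smul_eq_mul, mul_one]
    rw [h2, mul_smul_comm, eL_mul_single, smul_smul, ← Units.val_mul, ← map_mul, inv_mul_cancel,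
      map_one, Units.val_one, one_smul]
  rw [Finset.sum_congr rfl (fun k _ => h1 k), Finset.sum_const, Finset.card_univ,
    ← Nat.card_eq_fintype_card, ← Nat.cast_smul_eq_nsmul ℂ, smul_smul, inv_mul_cancel₀ hK, one_smul]

theorem locA_eL (hM : IsPModular p M) {K : Subgroup G} (hK : ¬ p ∣ Nat.card K) (lam : K →* ℂˣ) :
    LocA M (eL K lam) := by
  haveI := isPrime hM
  letI := Fintype.ofFinite K
  unfold eL
  apply locA_smul (loc_inv_natCast hM hK)
  apply locA_sum
  intro k _
  apply locA_single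
  exact loc_of_isIntegral (BrauerInd.isIntegral_hom_apply lam _)

theorem lin_eL [Fintype G] (K : Subgroup G) (lam : K →* ℂˣ) (χ : IrrCharacter G) :
    lin (χ : G → ℂ) (eL K lam) = classInner (indFun K (fun c => (lam c : ℂ))) (χ : G → ℂ) := by
  letI := Fintype.ofFinite K
  rw [IndFun.frobenius_reciprocity K _ _ χ.2.isClassFunction, classInner]
  unfold eL
  rw [lin_smul, lin_sum]
  congr 1
  rw [← Equiv.sum_comp (Equiv.inv K)]
  refine Finset.sum_congr rfl fun k _ => ?_
  rw [lin_single]
  show ((lam k⁻¹⁻¹ : ℂˣ) : ℂ) * (χ : G → ℂ) ((k⁻¹ : K) : G) = _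
  rw [inv_inv, Subgroup.coe_inv, χ.2.inv]

end lin

section cor

variable {k : Type*} [Field k] {A : Type*} [Ring A] [Algebra k A]

theorem finrank_PW_cor {e : Idem A} (x y : Cor k e) :
    Module.finrank k (PW k x y) = Module.finrank k (PW k (inc x) (inc y)) := by
  let F : PW k x y →ₗ[k] PW k (inc x) (inc y) :=
    { toFun := fun z => ⟨inc (z : Cor k e), by
        refine ⟨?_, ?_⟩
        · rw [← inc_mul, z.2.1]
        · rw [← inc_mul, z.2.2]⟩
      map_add' := fun a b => rfl
      map_smul' := fun c a => rfl }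
  have hF : Function.Bijective F := by
    constructor
    · intro a b h
      apply Subtype.ext
      apply inc_inj
      have h1 := congrArg Subtype.val h
      exact h1
    · rintro ⟨z, hz1, hz2⟩
      have hz : z ∈ cor k e := by
        refine ⟨?_, ?_⟩
        · rw [← hz1, ← mul_assoc, (inc_mem x).1]
        · rw [← hz2, mul_assoc, (inc_mem y).2]
      refine ⟨⟨mkC z hz, inc_inj ?_, inc_inj ?_⟩, rfl⟩
      · rw [inc_mul]; exact hz1
      · rw [inc_mul]; exact hz2
  exact (LinearEquiv.ofBijective F hF).finrank_eq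

theorem finrank_PW_E00 [FiniteDimensional k A] {f : ℕ} [NeZero f] {E : Fin f → Fin f → A} (hE : MU f E) :
    Module.finrank k (PW k (1 : A) (E 0 0)) = f * Module.finrank k (Cor k hE.idem) := by
  let F : PW k (1 : A) (E 0 0) →ₗ[k] (Fin f → Cor k hE.idem) :=
    { toFun := fun y i => hE.entry k i 0 y
      map_add' := fun a b => funext fun i => map_add _ _ _
      map_smul' := fun c a => funext fun i => map_smul _ _ _ }
  have hF : Function.Bijective F := by
    constructor
    · rw [injective_iff_map_eq_zero]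
      intro y hy
      apply Subtype.ext
      have h1 := hE.sum_entry (k := k) (y : A)
      rw [← h1]
      show _ = (0 : A)
      apply Finset.sum_eq_zero
      intro i _
      apply Finset.sum_eq_zero
      intro j _
      by_cases hj : j = 0
      · subst hj
        have h2 : hE.entry k i 0 (y : A) = 0 := congrFun hy i
        rw [h2, map_zero, mul_zero, zero_mul]
      · rw [MU.inc_entry]
        have h3 : (y : A) * E j 0 = 0 := by
          rw [← y.2.2, mul_assoc, hE.mul_ne (Ne.symm hj), mul_zero]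
        rw [mul_assoc (E 0 i), h3, mul_zero, mul_zero, zero_mul]
    · intro r
      refine ⟨⟨∑ i, E i 0 * inc (r i), one_mul _, ?_⟩, ?_⟩
      · rw [Finset.sum_mul]
        refine Finset.sum_congr rfl fun i _ => ?_
        rw [mul_assoc]
        congr 1
        exact (inc_mem (r i)).2
      · funext i
        apply inc_inj
        show E 0 i * (∑ i, E i 0 * inc (r i)) * E 0 0 = inc (r i)
        rw [Finset.mul_sum, Finset.sum_mul, Finset.sum_eq_single i]
        · rw [← mul_assoc, hE.mul_self]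
          exact mid_eq (inc_mem (r i))
        · intro j _ hj
          rw [← mul_assoc, hE.mul_ne (Ne.symm hj), zero_mul, zero_mul]
        · intro h; exact absurd (Finset.mem_univ _) h
  rw [(LinearEquiv.ofBijective F hF).finrank_eq, Module.finrank_pi_fintype]
  simp

end cor

end Cfsg.Agent.Lib.H76BDim
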