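import Cfsg.Agent.Lib.H76Loc1

/-!
# Blocks of rank one: the basic algebra is local of dimension `p ^ d` (continued)
-/

set_option autoImplicit false
set_option linter.all false
set_option synthInstance.maxHeartbeats 400000

namespace Cfsg.Agent.Lib.H76BDim

open Cfsg Cfsg.Agent.Lib.BlockRing Cfsg.Agent.Lib.BlockGA Cfsg.Agent.Lib.BlockIdem
open Cfsg.Agent.Lib.BlockAlg Cfsg.Agent.Lib.CharBasic Cfsg.Agent.Lib.H76Alg
open Cfsg.Agent.Lib.BlockPair Cfsg.Agent.Lib.BlockCount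
open scoped ComplexConjugate

universe u

section rk1

variable {G : Type u} [Group G] [Finite G] {p : ℕ} {M : Ideal AlgInt}

/-- the data of a block of rank one -/
structure RD (p : ℕ) (B : Set (IrrCharacter G)) (f : ℕ) (a : IrrCharacter G → ℕ) : Prop where
  fpos : 0 < f
  apos : ∀ χ ∈ B, 0 < a χ
  deg : ∀ χ ∈ B, (χ : G → ℂ) 1 = (a χ : ℂ) * f
  sum : ∑ᶠ χ ∈ B, a χ ^ 2 = p ^ blockDefect p B
  con : ∀ χ ∈ B, ∀ ψ ∈ B,
    (p : ℂ) ^ blockDefect p B * Contrib.contrib p (χ : G → ℂ) (ψ : G → ℂ) = a χ * a ψ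
  ht : ∀ χ ∈ B, blockHeight p B (χ : G → ℂ) = 0 → ¬ p ∣ a χ

theorem exists_RD (hM : IsPModular p M) {B : Set (IrrCharacter G)} (hB : IsPBlock M B)
    (hl : blockRank p B = 1) : ∃ f a, RD p B f a := by
  obtain ⟨f, a, h1, h2, h3, h4, h5, h6⟩ := H76Rank1.rank_one hM hB hl
  exact ⟨f, a, h1, h2, h3, h4, h5, h6⟩

open scoped Classical in
theorem sum_B {V : Type*} [AddCommMonoid V] (B : Set (IrrCharacter G)) (F : IrrCharacter G → V) :
    ∑ᶠ χ ∈ B, F χ = ∑ χ : IrrCharacter G, if χ ∈ B then F χ else 0 := by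
  rw [finsum_mem_eq_finite_toFinset_sum _ (Set.toFinite _), ← Finset.sum_filter]
  refine Finset.sum_congr ?_ fun _ _ => rfl
  ext; simp

open scoped Classical in
theorem RD.sum' {B : Set (IrrCharacter G)} {f : ℕ} {a : IrrCharacter G → ℕ} (h : RD p B f a) :
    ∑ χ : IrrCharacter G, (if χ ∈ B then a χ ^ 2 else 0) = p ^ blockDefect p B := by
  rw [← h.sum, sum_B]

/-- integrality of the ratio -/
theorem RD.exists_int (hM : IsPModular p M) {B : Set (IrrCharacter G)} (hB : IsPBlock M B) {f : ℕ}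
    {a : IrrCharacter G → ℕ} (h : RD p B f a) (n : IrrCharacter G → ℤ)
    (hn : ∀ χ ∈ B, ∀ ψ ∈ B, n χ * a ψ = n ψ * a χ) : ∃ s : ℤ, ∀ χ ∈ B, n χ = s * a χ := by
  classical
  haveI := isPrime hM
  obtain ⟨χ0, hχ0, h0⟩ := BlockDeg.exists_height_zero (p := p) (isPBlock_nonempty hB)
  have h1 := h.ht χ0 hχ0 h0
  have hcop : IsCoprime ((p ^ blockDefect p B : ℕ) : ℤ) (a χ0 : ℤ) := by
    rw [Nat.isCoprime_iff_coprime]
    exact Nat.Coprime.pow_left _ ((Nat.Prime.coprime_iff_not_dvd hM.1).mpr h1)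
  obtain ⟨u, v, huv⟩ := hcop
  -- `Σ n χ a χ * a χ0 = p ^ d * n χ0`
  set T : ℤ := ∑ χ : IrrCharacter G, if χ ∈ B then n χ * a χ else 0 with hT
  have h2 : T * a χ0 = (p ^ blockDefect p B : ℕ) * n χ0 := by
    rw [hT, ← h.sum', Finset.sum_mul]
    push_cast
    rw [Finset.sum_mul]
    refine Finset.sum_congr rfl fun χ _ => ?_
    split_ifs with hχ
    · have := hn χ hχ χ0 hχ0
      calc n χ * a χ * a χ0 = (n χ * a χ0) * a χ := by ring
        _ = (n χ0 * a χ) * a χ := by rw [this]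
        _ = _ := by ring
    · simp
  refine ⟨u * T + v * n χ0, fun χ hχ => ?_⟩
  have h3 : n χ0 = (u * T + v * n χ0) * a χ0 := by
    linear_combination (-1 : ℤ) * n χ0 * huv - u * h2
  have h4 := hn χ hχ χ0 hχ0
  have h5 : (a χ0 : ℤ) ≠ 0 := by exact_mod_cast (h.apos χ0 hχ0).ne'
  apply mul_right_cancel₀ h5
  rw [h4]
  nth_rewrite 1 [h3]
  ring

theorem lin_eL_prop (hp : p.Prime) {B : Set (IrrCharacter G)} (hl : blockRank p B = 1)
    {K : Subgroup G} (hK : ¬ p ∣ Nat.card K) (lam : K →* ℂˣ) {χ ψ : IrrCharacter G} (hχ : χ ∈ B)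
    (hψ : ψ ∈ B) :
    lin (χ : G → ℂ) (eL K lam) * (ψ : G → ℂ) 1 = lin (ψ : G → ℂ) (eL K lam) * (χ : G → ℂ) 1 := by
  letI := Fintype.ofFinite K
  have h1 := H76Rank1.preg_prop hp hl hχ hψ
  have h2 : ∀ k : K, (χ : G → ℂ) k * (ψ : G → ℂ) 1 = (ψ : G → ℂ) k * (χ : G → ℂ) 1 := by
    intro k
    have h3 := congrFun h1 k
    have h4 : ¬ p ∣ orderOf (k : G) := by
      intro h
      rw [Subgroup.orderOf_coe] at h
      exact hK (h.trans (orderOf_dvd_natCard k))
    rw [Pi.smul_apply, smul_eq_mul] at h3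
    unfold preg at h3
    rw [if_neg h4, if_neg h4] at h3
    have h5 := ψ.2.one_ne_zero
    rw [h3]
    field_simp
  unfold eL
  rw [lin_smul, lin_smul, lin_sum, lin_sum, mul_assoc, mul_assoc, Finset.sum_mul, Finset.sum_mul]
  congr 1
  refine Finset.sum_congr rfl fun k _ => ?_
  rw [lin_single, lin_single, mul_assoc, mul_assoc, h2]

theorem RD.exists_s [Fintype G] (hM : IsPModular p M) {B : Set (IrrCharacter G)} (hB : IsPBlock M B)
    (hl : blockRank p B = 1) {f : ℕ} {a : IrrCharacter G → ℕ} (h : RD p B f a)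
    {K : Subgroup G} (hK : ¬ p ∣ Nat.card K) (lam : K →* ℂˣ) :
    ∃ s : ℤ, ∀ χ ∈ B, lin (χ : G → ℂ) (eL K lam) = s * a χ := by
  letI := Fintype.ofFinite K
  have h1 : ∀ χ : IrrCharacter G, ∃ n : ℤ, lin (χ : G → ℂ) (eL K lam) = n := by
    intro χ
    have h2 : IsCharacter G (indFun K (fun c => (lam c : ℂ))) :=
      BrauerInd.isCharacter_indFun K (BrauerInd.isCharacter_hom lam)
    obtain ⟨n, hn⟩ := BrauerInd.char_classInner_int h2 χ
    exact ⟨n, by rw [lin_eL, hn]⟩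
  choose n hn using h1
  obtain ⟨s, hs⟩ := h.exists_int hM hB n (by
    intro χ hχ ψ hψ
    have h2 := lin_eL_prop hM.1 hl hK lam hχ hψ
    rw [hn, hn, h.deg χ hχ, h.deg ψ hψ] at h2
    have hf0 : (f : ℂ) ≠ 0 := by exact_mod_cast h.fpos.ne'
    have h3 : (n χ : ℂ) * a ψ * f = (n ψ : ℂ) * a χ * f := by linear_combination h2
    have h4 := mul_right_cancel₀ hf0 h3
    exact_mod_cast h4)
  exact ⟨s, fun χ hχ => by rw [hn, hs χ hχ]; push_cast; ring⟩

/-- a consequence of Brauer's theorem -/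
theorem RD.brauer [Fintype G] (hM : IsPModular p M) {B : Set (IrrCharacter G)} (hB : IsPBlock M B)
    (hl : blockRank p B = 1) {f : ℕ} {a : IrrCharacter G → ℕ} (h : RD p B f a) (g c : ℤ)
    (hg : ∀ (K : Subgroup G) (lam : K →* ℂˣ) (s : ℤ), ¬ p ∣ Nat.card K →
      (∀ χ ∈ B, lin (χ : G → ℂ) (eL K lam) = s * a χ) → g ∣ c * s) : g ∣ c := by
  classical
  haveI := isPrime hM
  have hp := hM.1
  have hp0 : (p : ℂ) ^ blockDefect p B ≠ 0 := pow_ne_zero _ (by exact_mod_cast hp.ne_zero)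
  obtain ⟨χ0, hχ0⟩ := isPBlock_nonempty hB
  -- the class function `Σ a χ χ`
  set θ : G → ℂ := ∑ χ : IrrCharacter G, (if χ ∈ B then (a χ : ℂ) else 0) • (χ : G → ℂ) with hθ
  have hθg : IsGeneralizedCharacter G θ := by
    rw [hθ]
    apply isGeneralized_sum
    intro χ _
    split_ifs
    · exact (χ.2.isGeneralized).natCast_smul (a χ)
    · rw [zero_smul]; exact isGeneralized_zero
  have hθ0 : ∀ g, p ∣ orderOf g → θ g = 0 := by
    intro g hg
    have h1 := ContribApps.preg_expansion_block hM hB hχ0 g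
    have h2 : preg p (χ0 : G → ℂ) g = 0 := by unfold preg; rw [if_pos hg]
    rw [h2, sum_B] at h1
    have h3 : (a χ0 : ℂ) * θ g = 0 := by
      have h4 : (a χ0 : ℂ) * θ g = (p : ℂ) ^ blockDefect p B * ∑ χ : IrrCharacter G,
          (if χ ∈ B then Contrib.contrib p (χ0 : G → ℂ) (χ : G → ℂ) * (χ : G → ℂ) g else 0) := by
        rw [hθ, Finset.sum_apply, Finset.mul_sum, Finset.mul_sum]
        refine Finset.sum_congr rfl fun χ _ => ?_
        rw [Pi.smul_apply, smul_eq_mul]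
        split_ifs with hχ
        · rw [← mul_assoc, ← mul_assoc, h.con χ0 hχ0 χ hχ]
        · simp
      rw [h4, ← h1, mul_zero]
    exact (mul_eq_zero.mp h3).resolve_left (by exact_mod_cast (h.apos χ0 hχ0).ne')
  have hcl := H76Vreg.mem_closure hp hθg hθ0
  have key : ∀ F ∈ AddSubgroup.closure (H76Vreg.linReg p G),
      ∃ s : ℤ, (∀ χ ∈ B, classInner F (χ : G → ℂ) = s * a χ) ∧ g ∣ c * s := by
    intro F hF
    induction hF using AddSubgroup.closure_induction with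
    | mem F hF =>
      obtain ⟨K, hK, lam, rfl⟩ := hF
      obtain ⟨s, hs⟩ := h.exists_s hM hB hl hK lam
      exact ⟨s, fun χ hχ => by rw [← lin_eL, hs χ hχ], hg K lam s hK hs⟩
    | zero => exact ⟨0, fun χ _ => by simp, by simp⟩
    | add x y _ _ hx hy =>
      obtain ⟨s, hs1, hs2⟩ := hx
      obtain ⟨t, ht1, ht2⟩ := hy
      refine ⟨s + t, fun χ hχ => ?_, by rw [mul_add]; exact dvd_add hs2 ht2⟩
      rw [classInner_add_left, hs1 χ hχ, ht1 χ hχ]
      push_cast
      ring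
    | neg x _ hx =>
      obtain ⟨s, hs1, hs2⟩ := hx
      refine ⟨-s, fun χ hχ => ?_, by rw [mul_neg]; exact (dvd_neg).mpr hs2⟩
      rw [classInner_neg_left, hs1 χ hχ]
      push_cast
      ring
  obtain ⟨s, hs1, hs2⟩ := key θ hcl
  have h5 := hs1 χ0 hχ0
  rw [hθ, classInner_coeff_sum, if_pos hχ0] at h5
  have h6 : (a χ0 : ℂ) ≠ 0 := by exact_mod_cast (h.apos χ0 hχ0).ne'
  have h7 : (s : ℂ) = 1 := by
    apply mul_right_cancel₀ h6
    rw [← h5, one_mul]
  have h8 : s = 1 := by exact_mod_cast h7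
  rwa [h8, mul_one] at hs2

end rk1

section generic

variable {k : Type} [Field k] [IsAlgClosed k] {A : Type u} [Ring A] [Algebra k A]

/-- structure of an algebra with one simple component -/
theorem struct_one [Nontrivial A] [FiniteDimensional k A] {lam : A →ₗ[k] k} (hl : SymF lam)
    (h1 : ∀ (n : ℕ) (d : Fin n → ℕ) (_ : ∀ i, NeZero (d i))
      (φ : A →ₐ[k] (∀ i, Matrix (Fin (d i)) (Fin (d i)) k)), Function.Surjective φ → n ≤ 1) :
    ∃ (f : ℕ) (_ : NeZero f) (φ : A →ₐ[k] Matrix (Fin f) (Fin f) k) (R : Type u) (_ : Ring R)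
      (_ : Algebra k R) (_ : FiniteDimensional k R) (_ : Nontrivial R) (N : Submodule k R)
      (lamR : R →ₗ[k] k) (g : ℕ), LocD k N ∧ SymF lamR ∧
      Module.finrank k (Tr k R) = Module.finrank k (Tr k A) ∧ Function.Surjective φ ∧
      Module.finrank k A = f * g ∧ g = f * Module.finrank k R ∧
      ∀ e : A, e * e = e → ∃ r : ℕ, Module.finrank k (PW k (1 : A) e) = r * g ∧ (φ e).trace = (r : k) := by
  obtain ⟨n, d, hd, φ, hs, m, hm⟩ := exists_wedderburn (k := k) (A := A)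
  have h0 := ne_zero_of_wedderburn hm
  have h2 := h1 n d hd φ hs
  obtain ⟨f, hf, φ, hs, m, hm⟩ := component_of_one hs hm (by omega)
  obtain ⟨E, hE, N, hN, hN1, hN2⟩ := exists_local hs hm
  refine ⟨f, hf, φ, Cor k hE.idem, inferInstance, inferInstance, inferInstance,
    hE.corner_nontrivial (k := k), N, lam ∘ₗ inc, Module.finrank k (PW k (1 : A) (E 0 0)), hN,
    symF_corner hl _, hE.finrank_Tr, hs, ?_, finrank_PW_E00 hE, ?_⟩
  · rw [finrank_PW_E00 hE, hE.finrank_eq (k := k)]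
    ring
  · intro e he
    obtain ⟨r, hr1, -, hr3⟩ := exists_rank (fun a ha => isNilpotent_of_ker hm ha) hE hN2 1 _ e he le_rfl
    exact ⟨r, hr1, hr3⟩

end generic

section main

variable {G : Type u} [Group G] [Finite G] {p : ℕ} {M : Ideal AlgInt} [hMm : M.IsMaximal]
variable {B : Set (IrrCharacter G)} (hB : IsPBlock M B)

open scoped Classical in
theorem RD.sum_c {f : ℕ} {a : IrrCharacter G → ℕ} (h : RD p B f a) :
    ∑ χ : IrrCharacter G, (if χ ∈ B then (a χ : ℂ) ^ 2 else 0) = (p : ℂ) ^ blockDefect p B := by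
  have h1 := h.sum'
  have h2 : ((∑ χ : IrrCharacter G, (if χ ∈ B then a χ ^ 2 else 0) : ℕ) : ℂ) =
      ((p ^ blockDefect p B : ℕ) : ℂ) := by rw [h1]
  push_cast at h2
  rw [← h2]

/-- the idempotent of a linear character in the block algebra -/
noncomputable def eC (K : Subgroup G) (lam : K →* ℂˣ) : Cor (Kf M) (bI hB) := prj (redA M (eL K lam))

theorem inc_eC (hM : IsPModular p M) {K : Subgroup G} (hK : ¬ p ∣ Nat.card K) (lam : K →* ℂˣ) :
    inc (eC hB K lam) = redA M (eL K lam * eB B) := by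
  haveI := hMm.isPrime
  unfold eC
  rw [inc_prj, mid_eq' (bI_central hB), redA_mul (locA_eL hM hK lam) (locA_eB hB)]
  rfl

theorem eL_eB_idem (K : Subgroup G) (lam : K →* ℂˣ) :
    (eL K lam * eB B) * (eL K lam * eB B) = eL K lam * eB B := by
  calc (eL K lam * eB B) * (eL K lam * eB B) = eL K lam * (eB B * eL K lam) * eB B := by
        simp only [mul_assoc]
    _ = eL K lam * (eL K lam * eB B) * eB B := by rw [center_comm (eB_mem_center B)]
    _ = (eL K lam * eL K lam) * (eB B * eB B) := by simp only [mul_assoc]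
    _ = _ := by rw [eL_idem, eB_mul_self]

theorem eC_idem (hM : IsPModular p M) {K : Subgroup G} (hK : ¬ p ∣ Nat.card K) (lam : K →* ℂˣ) :
    eC hB K lam * eC hB K lam = eC hB K lam := by
  haveI := hMm.isPrime
  apply inc_inj
  have hl := locA_mul (locA_eL hM hK lam) (locA_eB hB)
  rw [inc_mul, inc_eC hB hM hK, ← redA_mul hl hl, eL_eB_idem]

open scoped Classical in
theorem lin_eB' (χ : IrrCharacter G) : lin (χ : G → ℂ) (eB B) = if χ ∈ B then (χ : G → ℂ) 1 else 0 := by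
  have h2 := omega_eB B χ
  rw [omega] at h2
  have h3 := χ.2.one_ne_zero
  split_ifs at h2 ⊢ with h
  · rw [div_eq_one_iff_eq h3] at h2
    rw [h2]
  · rw [div_eq_zero_iff, or_iff_left h3] at h2
    rw [h2]

theorem finrank_eC (hM : IsPModular p M) {f : ℕ} {a : IrrCharacter G → ℕ} (h : RD p B f a)
    {K : Subgroup G} (hK : ¬ p ∣ Nat.card K) (lam : K →* ℂˣ) {s : ℤ}
    (hs : ∀ χ ∈ B, lin (χ : G → ℂ) (eL K lam) = s * a χ) :
    ((Module.finrank (Kf M) (PW (Kf M) (1 : Cor (Kf M) (bI hB)) (eC hB K lam)) : ℕ) : ℤ) =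
      (p : ℤ) ^ blockDefect p B * f * s := by
  classical
  haveI := hMm.isPrime
  have hl := locA_mul (locA_eL hM hK lam) (locA_eB hB)
  have h1 : Module.finrank (Kf M) (PW (Kf M) (1 : Cor (Kf M) (bI hB)) (eC hB K lam)) =
      Module.finrank ℂ (PW ℂ (eB B) (eL K lam * eB B)) := by
    rw [finrank_PW_cor, inc_eC hB hM hK, inc_one]
    exact finrank_PW (locA_eB hB) hl (eB_mul_self B) (eL_eB_idem K lam)
  rw [h1]
  have h2 := finrank_PW_complex (eB_mul_self B) (eL_eB_idem (B := B) K lam)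
  have h3 : ((Module.finrank ℂ (PW ℂ (eB B) (eL K lam * eB B)) : ℕ) : ℂ) =
      (((p : ℤ) ^ blockDefect p B * f * s : ℤ) : ℂ) := by
    rw [h2]
    push_cast
    rw [← h.sum_c, Finset.sum_mul, Finset.sum_mul]
    refine Finset.sum_congr rfl fun χ _ => ?_
    rw [lin_eB', lin_mul' χ.2 (eB_mem_center B), omega_eB]
    split_ifs with hχ
    · rw [one_mul, hs χ hχ, h.deg χ hχ]
      ring
    · simp
  exact_mod_cast h3

theorem finrank_BA' {f : ℕ} {a : IrrCharacter G → ℕ} (h : RD p B f a) :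
    Module.finrank (Kf M) (Cor (Kf M) (bI hB)) = p ^ blockDefect p B * f ^ 2 := by
  classical
  have h1 := finrank_BA hB
  have h2 : ((Module.finrank (Kf M) (Cor (Kf M) (bI hB)) : ℕ) : ℂ) =
      ((p ^ blockDefect p B * f ^ 2 : ℕ) : ℂ) := by
    rw [h1]
    push_cast
    rw [← h.sum_c, Finset.sum_mul]
    refine Finset.sum_congr rfl fun χ _ => ?_
    split_ifs with hχ
    · rw [h.deg χ hχ]
      ring
    · simp
  exact_mod_cast h2

end main

end Cfsg.Agent.Lib.H76BDim
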