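import Cfsg.Agent.Lib.MGroups
import Cfsg.Agent.Lib.CliffordCorr
import Cfsg.Agent.Lib.H76Ker

set_option autoImplicit false

/-!
M-groups: extension by a group of prime order (helper76), used by S4573.
-/

namespace Cfsg.Agent.Lib.H76Mono

open scoped ComplexConjugate
open Cfsg Cfsg.Agent.Lib Cfsg.Agent.Lib.CharBasic Cfsg.Agent.Lib.Clifford Cfsg.Agent.Lib.CliffordCorr

universe u v

/-- monomial functions -/
def Mono {G : Type u} [Group G] [Fintype G] (χ : G → ℂ) : Prop :=
  ∃ (H : Subgroup G) (lam : H →* ℂˣ), χ = indFun H (fun h => (lam h : ℂ))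

/-- M-groups -/
def MGroup (G : Type u) [Group G] [Fintype G] : Prop := ∀ χ : G → ℂ, IsIrrCharacter G χ → Mono χ

variable {G : Type u} [Group G] [Fintype G]

theorem Mono.mul_linear {χ : G → ℂ} (h : Mono χ) (β : G →* ℂˣ) : Mono (fun g => (β g : ℂ) * χ g) := by
  obtain ⟨H, lam, rfl⟩ := h
  refine ⟨H, lam * β.comp H.subtype, ?_⟩
  have h1 := IndFun.indFun_mul_res H (fun h => (lam h : ℂ)) (fun g => (β g : ℂ))
    (isCharacter_of_unitsHom β).isClassFunction
  have h2 : (fun h : H => (((lam * β.comp H.subtype) h : ℂˣ) : ℂ)) = fun h : H => (lam h : ℂ) * (β h : ℂ) := by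
    funext h
    simp
  rw [h2, h1]
  funext g
  ring

theorem Mono.indFun (K : Subgroup G) [Fintype K] {ψ : K → ℂ} (h : Mono ψ) : Mono (Cfsg.indFun K ψ) := by
  obtain ⟨H, lam, rfl⟩ := h
  obtain ⟨lam', h1⟩ := MGroups.indFun_indFun_hom K H lam
  exact ⟨_, lam', h1⟩

/-- a characters of `G` trivial on a normal subgroup with commutative quotient is linear -/
theorem linear_of_trivial (B : Subgroup G) [B.Normal] (hcomm : ∀ a b : G ⧸ B, a * b = b * a) {β : G → ℂ}
    (hβ : IsIrrCharacter G β) (h : ∀ b ∈ B, β b = β 1) : β 1 = 1 := by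
  obtain ⟨ψ, hψ, h1⟩ := hβ.deflate B h
  rw [← h1, QuotientGroup.mk_one]
  exact hψ.one_eq_one_of_comm hcomm

/-- Extension of M-groups by a group of prime order. -/
theorem mgroup_of_prime_index (B : Subgroup G) [hBn : B.Normal] [Fintype B] (hp : B.index.Prime) (hB : MGroup B)
    (hext : ∀ θ : B → ℂ, IsIrrCharacter B θ → (∀ g, cj B g θ = θ) →
      ∃ χ : G → ℂ, IsIrrCharacter G χ ∧ Mono χ ∧ ∀ b : B, χ b = θ b) : MGroup G := by
  classical
  intro χ hχ
  have hne : (fun b : B => χ b) ≠ 0 := by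
    intro h
    exact hχ.one_ne_zero (congrFun h 1)
  obtain ⟨θ, hθ, h1⟩ := (hχ.isCharacter.restrict B).exists_constituent hne
  have hBT : B ≤ inertia B θ := le_inertia hθ.isClassFunction
  have hdvd : (inertia B θ).index ∣ B.index := Subgroup.index_dvd_of_le hBT
  rcases (Nat.dvd_prime hp).1 hdvd with h2 | h2
  · -- invariant case
    rw [Subgroup.index_eq_one] at h2
    have hinv : ∀ g, cj B g θ = θ := fun g => by
      have : g ∈ inertia B θ := by rw [h2]; trivial
      exact this
    obtain ⟨χ₀, hχ₀, hm, hres⟩ := hext θ hθ hinv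
    have hg := gallagher (φ := (1 : B → ℂ)) (ϑ := θ) isIrrCharacter_one (fun g => rfl) hinv
      (by rw [one_mul]; exact hθ) hχ₀ hres
    have h3 : χ ∈ {ψ : G → ℂ | IsIrrCharacter G ψ ∧ classInner (Cfsg.indFun B ((1 : B → ℂ) * θ)) ψ ≠ 0} := by
      refine ⟨hχ, ?_⟩
      rw [one_mul, IndFun.frobenius_reciprocity B θ χ hχ.isClassFunction]
      exact classInner_res_ne_zero_comm h1
    obtain ⟨β, ⟨hβ, hβ1⟩, hβ2⟩ := hg.surjOn h3
    have h4 : classInner (fun b : B => β b) (1 : B → ℂ) ≠ 0 := by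
      rw [IndFun.frobenius_reciprocity B (1 : B → ℂ) β hβ.isClassFunction] at hβ1
      exact classInner_res_ne_zero_comm hβ1
    have h5 : ∀ b ∈ B, β b = β 1 := fun b hb => H76Ker.eq_one_of_trivial_constituent hβ B h4 hb
    have hcyc : IsCyclic (G ⧸ B) := by
      have := Fact.mk hp
      exact isCyclic_of_prime_card (p := B.index) rfl
    have h6 : β 1 = 1 := linear_of_trivial B (fun a b => by
      have : IsMulCommutative (G ⧸ B) := IsCyclic.isMulCommutative
      exact mul_comm' a b) hβ h5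
    obtain ⟨f, hf⟩ := hβ.isCharacter.exists_hom h6
    have h7 : χ = fun g => (f g : ℂ) * χ₀ g := by
      rw [← hβ2]
      funext g
      show β g * χ₀ g = _
      rw [hf]
    rw [h7]
    exact hm.mul_linear f
  · -- induced case
    have hBeq : inertia B θ = B := by
      have h3 := Subgroup.relIndex_mul_index hBT
      rw [h2] at h3
      have h4 : B.relIndex (inertia B θ) = 1 := by
        have : B.relIndex (inertia B θ) * B.index = 1 * B.index := by rw [h3, one_mul]
        exact Nat.eq_of_mul_eq_mul_right hp.pos this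
      exact le_antisymm (Subgroup.relIndex_eq_one.1 h4) hBT
    obtain ⟨ψ, hψ, h3, -⟩ := corr_surj (N := B) (T := B) le_rfl hθ (fun g => by
      have : g ∈ inertia B θ ↔ cj B g θ = θ := Iff.rfl
      rw [hBeq] at this
      exact this) hχ h1
    rw [← h3]
    exact (hB ψ hψ).indFun B

end Cfsg.Agent.Lib.H76Mono
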