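import Mathlib.GroupTheory.Abelianization.Defs
import Mathlib.GroupTheory.Index
import Mathlib.GroupTheory.PGroup
import Mathlib.GroupTheory.Nilpotent
import Mathlib.GroupTheory.Coset.Card
import Mathlib.Algebra.Group.Subgroup.Finite

set_option autoImplicit false

/-!
Small facts on `p`-groups with an abelian (or arbitrary) normal subgroup and cyclic quotient.
-/

namespace Cfsg.Agent.Lib.H76PGroup

/-- If `A` is an abelian normal subgroup and `Q = A⟨x⟩` then `|Q'| * |C_A(x)| = |A|`. -/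
theorem card_commutator_mul {Q : Type*} [Group Q] [Finite Q] (A : Subgroup Q) [hA : A.Normal]
    (hab : ∀ a ∈ A, ∀ b ∈ A, a * b = b * a) (x : Q)
    (hx : ∀ g : Q, ∃ a ∈ A, ∃ k : ℤ, g = a * x ^ k) :
    Nat.card (commutator Q) * Nat.card {a : A // x * (a : Q) * x⁻¹ * (a : Q)⁻¹ = 1} = Nat.card A := by
  have hconj : ∀ a ∈ A, x * a * x⁻¹ ∈ A := fun a ha => hA.conj_mem a ha x
  let f : A →* Q :=
    { toFun := fun a => x * (a : Q) * x⁻¹ * (a : Q)⁻¹
      map_one' := by simp
      map_mul' := by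
        intro a b
        have h1 : (a : Q)⁻¹ * (x * (b : Q) * x⁻¹) = (x * (b : Q) * x⁻¹) * (a : Q)⁻¹ :=
          hab _ (A.inv_mem a.2) _ (hconj _ b.2)
        have h2 : (a : Q)⁻¹ * (b : Q)⁻¹ = (b : Q)⁻¹ * (a : Q)⁻¹ :=
          hab _ (A.inv_mem a.2) _ (A.inv_mem b.2)
        calc x * ((a * b : A) : Q) * x⁻¹ * ((a * b : A) : Q)⁻¹
            = (x * a * x⁻¹) * (x * b * x⁻¹) * ((b : Q)⁻¹ * (a : Q)⁻¹) := by
              simp only [Subgroup.coe_mul]; group
          _ = (x * a * x⁻¹) * ((x * b * x⁻¹) * (a : Q)⁻¹) * (b : Q)⁻¹ := by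
              rw [← h2]; group
          _ = x * a * x⁻¹ * (a : Q)⁻¹ * (x * b * x⁻¹ * (b : Q)⁻¹) := by
              rw [← h1]; group }
  have hf : ∀ a : A, f a = x * (a : Q) * x⁻¹ * (a : Q)⁻¹ := fun a => rfl
  have hfA : ∀ a : A, f a ∈ A := fun a => A.mul_mem (hconj _ a.2) (A.inv_mem a.2)
  -- the range is normal
  have hxr : ∀ y ∈ f.range, x * y * x⁻¹ ∈ f.range := by
    rintro _ ⟨a, rfl⟩
    refine ⟨⟨x * a * x⁻¹, hconj _ a.2⟩, ?_⟩
    rw [hf, hf]; group
  have hxr' : ∀ y ∈ f.range, x⁻¹ * y * x ∈ f.range := by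
    rintro _ ⟨a, rfl⟩
    have : x⁻¹ * a * x ∈ A := by
      have := hA.conj_mem (a : Q) a.2 x⁻¹
      simpa using this
    refine ⟨⟨x⁻¹ * a * x, this⟩, ?_⟩
    rw [hf, hf]; group
  have hAr : ∀ a ∈ A, ∀ y ∈ f.range, a * y * a⁻¹ ∈ f.range := by
    rintro a ha _ ⟨b, rfl⟩
    rw [hab a ha _ (hfA b)]
    simp
  have hnorm : ∀ g : Q, ∀ y ∈ f.range, g * y * g⁻¹ ∈ f.range := by
    have hx_in : x ∈ Subgroup.normalizer (f.range : Set Q) := by
      rw [Subgroup.mem_normalizer_iff]
      intro h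
      refine ⟨fun hh => hxr h hh, fun hh => ?_⟩
      have := hxr' _ hh
      simpa [mul_assoc] using this
    intro g y hy
    obtain ⟨a, ha, k, rfl⟩ := hx g
    have h1 : x ^ k ∈ Subgroup.normalizer (f.range : Set Q) := Subgroup.zpow_mem _ hx_in k
    rw [Subgroup.mem_normalizer_iff] at h1
    have h2 := (h1 y).1 hy
    have h3 := hAr a ha _ h2
    simpa [mul_assoc] using h3
  haveI hN : f.range.Normal := ⟨fun y hy g => hnorm g y hy⟩
  have hrange : f.range = commutator Q := by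
    apply le_antisymm
    · rintro _ ⟨a, rfl⟩
      rw [hf]
      exact Subgroup.commutator_mem_commutator (Subgroup.mem_top x) (Subgroup.mem_top (a : Q))
    · -- the quotient is abelian
      have hcomm : ∀ a b : Q ⧸ f.range, a * b = b * a := by
        have hAx : ∀ a ∈ A, ((a : Q) : Q ⧸ f.range) * (x : Q ⧸ f.range) = x * a := by
          intro a ha
          have : (x * a * x⁻¹ * a⁻¹ : Q) ∈ f.range := ⟨⟨a, ha⟩, rfl⟩
          have h0 : ((x * a * x⁻¹ * a⁻¹ : Q) : Q ⧸ f.range) = 1 :=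
            (QuotientGroup.eq_one_iff _).2 this
          have h1 : (x : Q ⧸ f.range) * a * (x : Q ⧸ f.range)⁻¹ * (a : Q ⧸ f.range)⁻¹ = 1 := by
            simpa using h0
          rw [mul_inv_eq_one, mul_inv_eq_iff_eq_mul] at h1
          exact h1.symm
        have hAxk : ∀ a ∈ A, ∀ k : ℤ, Commute ((a : Q) : Q ⧸ f.range) ((x : Q ⧸ f.range) ^ k) :=
          fun a ha k => (show Commute _ _ from hAx a ha).zpow_right k
        intro a b
        obtain ⟨a, rfl⟩ := QuotientGroup.mk_surjective a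
        obtain ⟨b, rfl⟩ := QuotientGroup.mk_surjective b
        obtain ⟨a, ha, k, rfl⟩ := hx a
        obtain ⟨b, hb, l, rfl⟩ := hx b
        have e1 : Commute ((a : Q) : Q ⧸ f.range) ((b : Q) : Q ⧸ f.range) := by
          show _ * _ = _ * _
          rw [← QuotientGroup.mk_mul, ← QuotientGroup.mk_mul, hab a ha b hb]
        have e2 := hAxk a ha l
        have e3 := hAxk b hb k
        have e4 : Commute ((x : Q ⧸ f.range) ^ k) ((x : Q ⧸ f.range) ^ l) :=
          Commute.zpow_zpow_self _ _ _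
        simp only [QuotientGroup.mk_mul, QuotientGroup.mk_zpow]
        exact ((e1.mul_right e2).mul_left (e3.symm.mul_right e4)).eq
      rw [commutator_def, Subgroup.commutator_le]
      intro a _ b _
      rw [← QuotientGroup.eq_one_iff]
      rw [commutatorElement_def]
      simp only [QuotientGroup.mk_mul, QuotientGroup.mk_inv]
      rw [hcomm (a : Q ⧸ f.range) b]
      simp
  rw [← hrange]
  have e : {a : A // x * (a : Q) * x⁻¹ * (a : Q)⁻¹ = 1} = f.ker := by
    rfl
  have : Nat.card A = Nat.card f.ker * f.ker.index := (Subgroup.card_mul_index _).symm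
  rw [this, Subgroup.index_ker, mul_comm]
  rfl

end Cfsg.Agent.Lib.H76PGroup
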