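import Cfsg.Agent.Lib.H76PGroup
import Mathlib.GroupTheory.SpecificGroups.Cyclic.Basic
import Mathlib.GroupTheory.IndexNormal
import Mathlib.GroupTheory.Subgroup.Centralizer

set_option autoImplicit false

/-!
More small facts on finite `p`-groups.
-/

namespace Cfsg.Agent.Lib.H76PGroup

open scoped commutatorElement

/-- normal form of the elements relative to a normal subgroup of prime index -/
theorem exists_mul_zpow_of_index {P : Type*} [Group P] (p : ℕ) [Fact p.Prime] (N : Subgroup P) [N.Normal]
    (hN : N.index = p) (x : P) (hx : x ∉ N) (g : P) : ∃ a ∈ N, ∃ k : ℤ, g = a * x ^ k := by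
  have hc : Nat.card (P ⧸ N) = p := by rw [← hN]; rfl
  have hx1 : (x : P ⧸ N) ≠ 1 := by
    rw [Ne, QuotientGroup.eq_one_iff]; exact hx
  have := mem_zpowers_of_prime_card hc hx1 (g' := (g : P ⧸ N))
  obtain ⟨k, hk⟩ := Subgroup.mem_zpowers_iff.1 this
  refine ⟨g * (x ^ k)⁻¹, ?_, k, by group⟩
  rw [← QuotientGroup.eq_one_iff]
  simp [hk]

/-- the subgroup generated by two commuting pieces -/
theorem lt_card_of_lt {P : Type*} [Group P] [Finite P] {p : ℕ} [Fact p.Prime] (hP : IsPGroup p P)
    {H K : Subgroup P} (h : H < K) : p * Nat.card H ≤ Nat.card K := by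
  have hp : p.Prime := Fact.out
  obtain ⟨a, ha⟩ := IsPGroup.iff_card.1 (hP.to_subgroup H)
  obtain ⟨b, hb⟩ := IsPGroup.iff_card.1 (hP.to_subgroup K)
  have hlt : Nat.card H < Nat.card K := by
    have hle : Nat.card H ≤ Nat.card K := Subgroup.card_le_of_le h.le
    refine lt_of_le_of_ne hle fun he => h.ne ?_
    exact Subgroup.eq_of_le_of_card_ge h.le he.ge
  rw [ha, hb] at hlt ⊢
  have hab : a < b := (Nat.pow_lt_pow_iff_right hp.one_lt).1 hlt
  rw [← pow_succ']
  exact Nat.pow_le_pow_right hp.pos hab

/-- if the derived subgroup is central then centralizers have index dividing its order -/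
theorem index_centralizer_dvd {P : Type*} [Group P] [Finite P] (hc : commutator P ≤ Subgroup.center P) (x : P) :
    (Subgroup.centralizer ({x} : Set P)).index ∣ Nat.card (commutator P) := by
  have hcen : ∀ y z : P, x * y * x⁻¹ * y⁻¹ * z = z * (x * y * x⁻¹ * y⁻¹) := by
    intro y z
    have h1 : ⁅x, y⁆ ∈ commutator P :=
      Subgroup.commutator_mem_commutator (Subgroup.mem_top x) (Subgroup.mem_top y)
    exact (Subgroup.mem_center_iff.1 (hc h1) z).symm
  let f : P →* commutator P :=
    { toFun := fun y => ⟨x * y * x⁻¹ * y⁻¹,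
        Subgroup.commutator_mem_commutator (Subgroup.mem_top x) (Subgroup.mem_top y)⟩
      map_one' := by ext; simp
      map_mul' := by
        intro y z
        ext
        show x * (y * z) * x⁻¹ * (y * z)⁻¹ = x * y * x⁻¹ * y⁻¹ * (x * z * x⁻¹ * z⁻¹)
        have h := hcen z (y⁻¹)
        calc x * (y * z) * x⁻¹ * (y * z)⁻¹ = x * y * x⁻¹ * ((x * z * x⁻¹ * z⁻¹) * y⁻¹) := by group
          _ = x * y * x⁻¹ * (y⁻¹ * (x * z * x⁻¹ * z⁻¹)) := by rw [h]
          _ = _ := by group }
  have hker : f.ker = Subgroup.centralizer ({x} : Set P) := by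
    ext y
    rw [MonoidHom.mem_ker, Subgroup.mem_centralizer_iff]
    constructor
    · intro h z hz
      rw [Set.mem_singleton_iff] at hz
      subst hz
      have h' : z * y * z⁻¹ * y⁻¹ = 1 := congrArg Subtype.val h
      rw [mul_inv_eq_one, mul_inv_eq_iff_eq_mul] at h'
      exact h'
    · intro h
      have := h x rfl
      apply Subtype.ext
      show x * y * x⁻¹ * y⁻¹ = 1
      rw [this]; group
  rw [← hker, Subgroup.index_ker]
  exact Subgroup.card_subgroup_dvd_card _

/-- A normal subgroup of order `p` of a `p`-group is central. -/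
theorem le_center_of_card_prime {P : Type*} [Group P] [Finite P] {p : ℕ} [Fact p.Prime] (hP : IsPGroup p P)
    (N : Subgroup P) [hN : N.Normal] (hc : Nat.card N = p) : N ≤ Subgroup.center P := by
  have hp : p.Prime := Fact.out
  have hPc : IsPGroup p (ConjAct P) := hP.of_equiv (ConjAct.toConjAct)
  have h1fix : (1 : N) ∈ MulAction.fixedPoints (ConjAct P) N := by
    intro g
    exact smul_one g
  obtain ⟨n, hn, hn1⟩ := hPc.exists_fixed_point_of_prime_dvd_card_of_fixed_point (α := N)
    (by rw [hc]) h1fix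
  have hncen : (n : P) ∈ Subgroup.center P := by
    rw [Subgroup.mem_center_iff]
    intro g
    have h := hn (ConjAct.toConjAct g)
    have h' := congrArg Subtype.val h
    have h2 : g * (n : P) * g⁻¹ = n := h'
    rw [mul_inv_eq_iff_eq_mul] at h2
    exact h2
  intro m hm
  have hne : n ≠ 1 := fun h => hn1 h.symm
  obtain ⟨k, hk⟩ := Subgroup.mem_zpowers_iff.1 (mem_zpowers_of_prime_card hc hne (g' := (⟨m, hm⟩ : N)))
  have : m = (n : P) ^ k := by
    have := congrArg Subtype.val hk
    simpa using this.symm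
  rw [this]
  exact Subgroup.zpow_mem _ hncen k

end Cfsg.Agent.Lib.H76PGroup
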