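import Cfsg.Agent.Lib.H76FullRam
import Mathlib.GroupTheory.GroupAction.Quotient

set_option autoImplicit false

/-!
Ramification over Sylow subgroups (helper76), used by S4563, S4564.
-/

namespace Cfsg.Agent.Lib.H76Ram

open scoped ComplexConjugate
open Cfsg Cfsg.Agent.Lib.CharBasic Cfsg.Agent.Lib.Clifford Cfsg.Agent.Lib.CliffordCorr

universe u

variable {L : Type u} [Group L] [Fintype L]

theorem sum_eq_of_support {Z P : Subgroup L} [Fintype Z] [Fintype P] (hZP : Z ≤ P) (F : P → ℂ)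
    (h : ∀ x : P, (x : L) ∉ Z → F x = 0) : ∑ x : P, F x = ∑ z : Z, F ⟨z, hZP z.2⟩ := by
  classical
  rw [← Finset.sum_subset (Finset.subset_univ (Finset.univ.filter (fun x : P => (x : L) ∈ Z)))
    (fun x _ hx => h x (by simpa using hx))]
  symm
  refine Finset.sum_bij (fun (z : Z) _ => (⟨z, hZP z.2⟩ : P)) ?_ ?_ ?_ ?_
  · intro z _; simp
  · intro a _ b _ hab
    exact Subtype.ext (congrArg (fun x : P => (x : L)) hab)
  · intro x hx
    exact ⟨⟨(x : L), by simpa using hx⟩, Finset.mem_univ _, rfl⟩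
  · intro z _; rfl

theorem classInner_eq_of_support {Z P : Subgroup L} [Fintype Z] [Fintype P] (hZP : Z ≤ P)
    (A B : P → ℂ) (h : ∀ x : P, (x : L) ∉ Z → A x = 0) :
    (Nat.card P : ℂ) * classInner A B = (Nat.card Z : ℂ) * classInner (resTo Z P hZP A) (resTo Z P hZP B) := by
  have h1 : (Nat.card P : ℂ) ≠ 0 := by exact_mod_cast Nat.card_pos.ne'
  have h2 : (Nat.card Z : ℂ) ≠ 0 := by exact_mod_cast Nat.card_pos.ne'
  rw [classInner_def, classInner_def, mul_inv_cancel_left₀ h1, mul_inv_cancel_left₀ h2,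
    sum_eq_of_support hZP _ (fun x hx => by rw [h x hx, zero_mul])]
  rfl

/-- the multiplicity over a Sylow-like subgroup is forced -/
theorem mult_eq {Z P : Subgroup L} [Z.Normal] [Fintype Z] (hZP : Z ≤ P) {θ : Z → ℂ}
    (hθ : IsIrrCharacter Z θ) (hinv : ∀ g : L, cj Z g θ = θ) {X : L → ℂ} (hX : IsCharacter L X)
    (hoff : ∀ g, g ∉ Z → X g = 0) (e : ℕ) (hres : ∀ z : Z, X z = e * θ z) (p a k : ℕ) [hp : Fact p.Prime]
    (hPZ : Z.relIndex P = (p ^ a) ^ 2) (he : e = p ^ a * k) (hk : ¬ p ∣ k)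
    {ψ : P → ℂ} (hψ : IsIrrCharacter P ψ) (hover : classInner (resTo Z P hZP ψ) θ ≠ 0) :
    classInner (resTo Z P hZP ψ) θ = ((p ^ a : ℕ) : ℂ) := by
  classical
  have := Fintype.ofFinite P
  obtain ⟨n, hn⟩ := (isCharacter_resTo hZP hψ.isCharacter).classInner_nat hθ.isCharacter
  have hn0 : n ≠ 0 := by rintro rfl; exact hover (by rw [hn]; simp)
  have hresψ : resTo Z P hZP ψ = (n : ℂ) • θ := by
    rw [← hn]
    exact resTo_eq_smul hZP hψ hθ (fun g _ => hinv g) hover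
  have hcardP : (Nat.card P : ℂ) = (Nat.card Z : ℂ) * ((p ^ a) ^ 2 : ℕ) := by
    rw [← hPZ]
    have := Subgroup.relIndex_mul_relIndex (⊥ : Subgroup L) Z P bot_le hZP
    rw [Subgroup.relIndex_bot_left, Subgroup.relIndex_bot_left] at this
    exact_mod_cast this.symm
  have hZ0 : (Nat.card Z : ℂ) ≠ 0 := by exact_mod_cast Nat.card_pos.ne'
  have hXres : resTo Z P hZP (fun x : P => X x) = (e : ℂ) • θ := by
    funext z; exact hres z
  -- [X_P, ψ]
  obtain ⟨m, hm⟩ := (hX.restrict P).classInner_nat hψ.isCharacter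
  have h1 := classInner_eq_of_support hZP (fun x : P => X x) ψ (fun x hx => hoff _ hx)
  rw [hm, hXres, hresψ, classInner_smul_left, classInner_smul_right, hθ.classInner_self, hcardP] at h1
  have h2 : ((p ^ a) ^ 2 * m : ℕ) = e * n := by
    have h3 : (((p ^ a) ^ 2 * m : ℕ) : ℂ) = ((e * n : ℕ) : ℂ) := by
      apply mul_left_cancel₀ hZ0
      push_cast at h1 ⊢
      rw [← mul_assoc, h1]
      simp
    exact_mod_cast h3
  have hpa : 0 < p ^ a := pow_pos hp.out.pos a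
  have h3 : p ^ a * m = k * n := by
    rw [he] at h2
    apply Nat.eq_of_mul_eq_mul_left hpa
    calc p ^ a * (p ^ a * m) = (p ^ a) ^ 2 * m := by ring
      _ = p ^ a * k * n := h2
      _ = _ := by ring
  have h4 : p ^ a ∣ n := by
    have : p ^ a ∣ k * n := ⟨m, h3.symm⟩
    exact Nat.Coprime.dvd_of_dvd_mul_left (Nat.Coprime.pow_left a ((Nat.Prime.coprime_iff_not_dvd hp.out).2 hk)) this
  -- n ^ 2 ≤ index
  have h5 : n ^ 2 ≤ (p ^ a) ^ 2 := by
    have h6 : (1 : ℂ) = classInner ψ ψ := hψ.classInner_self.symm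
    rw [classInner_self] at h6
    have h7 : (1 : ℝ) = (Nat.card P : ℝ)⁻¹ * ∑ g : P, ‖ψ g‖ ^ 2 := by exact_mod_cast h6
    have hP0 : (0 : ℝ) < Nat.card P := by exact_mod_cast Nat.card_pos
    have h8 : (Nat.card P : ℝ) = ∑ g : P, ‖ψ g‖ ^ 2 := by
      field_simp at h7
      exact h7
    have h9 : ∑ z : Z, ‖ψ ⟨z, hZP z.2⟩‖ ^ 2 ≤ ∑ g : P, ‖ψ g‖ ^ 2 := by
      rw [← Finset.sum_image (s := Finset.univ) (g := fun z : Z => (⟨z, hZP z.2⟩ : P)) (f := fun g : P => ‖ψ g‖ ^ 2)]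
      · exact Finset.sum_le_sum_of_subset_of_nonneg (Finset.subset_univ _) (fun _ _ _ => by positivity)
      · intro a _ b _ hab
        exact Subtype.ext (congrArg (fun x : P => (x : L)) hab)
    have h10 : ∑ z : Z, ‖ψ ⟨z, hZP z.2⟩‖ ^ 2 = (n : ℝ) ^ 2 * Nat.card Z := by
      have h11 : ∀ z : Z, ψ ⟨z, hZP z.2⟩ = (n : ℂ) * θ z := fun z => congrFun hresψ z
      have h12 : (1 : ℂ) = classInner θ θ := hθ.classInner_self.symm
      rw [classInner_self] at h12
      have h13 : (1 : ℝ) = (Nat.card Z : ℝ)⁻¹ * ∑ g : Z, ‖θ g‖ ^ 2 := by exact_mod_cast h12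
      have hZp : (0 : ℝ) < Nat.card Z := by exact_mod_cast Nat.card_pos
      have h14 : (Nat.card Z : ℝ) = ∑ g : Z, ‖θ g‖ ^ 2 := by
        field_simp at h13
        exact h13
      rw [h14, Finset.mul_sum]
      apply Finset.sum_congr rfl
      intro z _
      rw [h11 z, norm_mul, mul_pow]
      simp
    rw [h10, ← h8] at h9
    have h15 : (Nat.card P : ℝ) = (Nat.card Z : ℝ) * ((p ^ a) ^ 2 : ℕ) := by exact_mod_cast hcardP
    rw [h15, mul_comm] at h9
    have hZp : (0 : ℝ) < Nat.card Z := by exact_mod_cast Nat.card_pos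
    have h16 := le_of_mul_le_mul_left h9 hZp
    exact_mod_cast h16
  have h6 : n ≤ p ^ a := by
    by_contra hcon
    push Not at hcon
    have := Nat.pow_lt_pow_left hcon (n := 2) (by norm_num)
    omega
  have h7 : p ^ a ≤ n := Nat.le_of_dvd (Nat.pos_of_ne_zero hn0) h4
  rw [hn]
  congr 1
  omega

/-- There is at most one irreducible character of `P` over `θ`. -/
theorem uniq {Z P : Subgroup L} [Z.Normal] [Fintype Z] (hZP : Z ≤ P) {θ : Z → ℂ}
    (hθ : IsIrrCharacter Z θ) (hinv : ∀ g : L, cj Z g θ = θ) {X : L → ℂ} (hX : IsCharacter L X)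
    (hoff : ∀ g, g ∉ Z → X g = 0) (e : ℕ) (hres : ∀ z : Z, X z = e * θ z) (p a k : ℕ) [hp : Fact p.Prime]
    (hPZ : Z.relIndex P = (p ^ a) ^ 2) (he : e = p ^ a * k) (hk : ¬ p ∣ k)
    {ψ ψ' : P → ℂ} (hψ : IsIrrCharacter P ψ) (hover : classInner (resTo Z P hZP ψ) θ ≠ 0)
    (hψ' : IsIrrCharacter P ψ') (hover' : classInner (resTo Z P hZP ψ') θ ≠ 0) : ψ' = ψ := by
  classical
  have := Fintype.ofFinite P
  have := Fintype.ofFinite (Z.subgroupOf P)
  have hm := mult_eq hZP hθ hinv hX hoff e hres p a k hPZ he hk hψ hover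
  have hresψ : resTo Z P hZP ψ = ((p ^ a : ℕ) : ℂ) • θ := by
    rw [← hm]
    exact resTo_eq_smul hZP hψ hθ (fun g _ => hinv g) hover
  let θ' : Z.subgroupOf P → ℂ := fun n => θ (subEquiv Z P hZP n)
  have hθ' : IsIrrCharacter (Z.subgroupOf P) θ' := (isIrrCharacter_comp_mulEquiv_iff (subEquiv Z P hZP)).2 hθ
  have hc1 := classInner_resTo P hZP ψ θ
  have hcon : classInner (fun n : Z.subgroupOf P => ψ n) θ' ≠ 0 := by
    rw [hc1]; exact hover
  have hfr := fully_ramified_iff (N := Z.subgroupOf P) hψ hθ' hcon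
  have hex : ∃ e : ℕ, (fun n : Z.subgroupOf P => ψ n) = (e : ℂ) • θ' ∧ e ^ 2 = (Z.subgroupOf P).index := by
    refine ⟨p ^ a, ?_, ?_⟩
    · funext n
      exact congrFun hresψ (subEquiv Z P hZP n)
    · exact hPZ.symm
  refine (hfr.2.1 hex).2 ψ' hψ' ?_
  rw [IndFun.frobenius_reciprocity (Z.subgroupOf P) θ' ψ' hψ'.isClassFunction, ← conj_classInner]
  refine (map_ne_zero _).mpr ?_
  have := classInner_resTo P hZP ψ' θ
  rw [this]
  exact hover'

end Cfsg.Agent.Lib.H76Ram
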