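import Cfsg.Agent.Lib.H76Ram

set_option autoImplicit false

/-!
Ramification over Sylow subgroups (helper76), part 2.
-/

namespace Cfsg.Agent.Lib.H76Ram

open scoped ComplexConjugate
open Cfsg Cfsg.Agent.Lib.CharBasic Cfsg.Agent.Lib.Clifford Cfsg.Agent.Lib.CliffordCorr

universe u

variable {L : Type u} [Group L] [Fintype L]

/-- transport of an irreducible character of `S` to `S.subgroupOf P` -/
theorem isIrr_sub {S P : Subgroup L} (hSP : S ≤ P) {η : S → ℂ} (hη : IsIrrCharacter S η) :
    IsIrrCharacter (S.subgroupOf P) (fun n => η (subEquiv S P hSP n)) :=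
  (isIrrCharacter_comp_mulEquiv_iff (subEquiv S P hSP)).2 hη

/-- every irreducible character of `S ≤ P` over `θ` lies under an irreducible character of `P` over `θ` -/
theorem exists_over {Z S P : Subgroup L} [Z.Normal] [S.Normal] [Fintype Z] [Fintype S] (hZS : Z ≤ S) (hSP : S ≤ P)
    {θ : Z → ℂ} (hθ : IsIrrCharacter Z θ) {η : S → ℂ} (hη : IsIrrCharacter S η)
    (hover : classInner (resTo Z S hZS η) θ ≠ 0) :
    ∃ ψ : P → ℂ, IsIrrCharacter P ψ ∧ classInner (resTo S P hSP ψ) η ≠ 0 ∧
      classInner (resTo Z P (hZS.trans hSP) ψ) θ ≠ 0 := by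
  classical
  have := Fintype.ofFinite P
  have := Fintype.ofFinite (S.subgroupOf P)
  let η' : S.subgroupOf P → ℂ := fun n => η (subEquiv S P hSP n)
  have hη' : IsIrrCharacter (S.subgroupOf P) η' := isIrr_sub hSP hη
  have h0 : indFun (S.subgroupOf P) η' ≠ 0 := by
    intro h
    have h1 := IndFun.indFun_one (S.subgroupOf P) η'
    rw [h, Pi.zero_apply] at h1
    have h2 : ((S.subgroupOf P).index : ℂ) ≠ 0 := by exact_mod_cast Subgroup.index_ne_zero_of_finite
    rcases mul_eq_zero.1 h1.symm with h3 | h3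
    · exact h2 h3
    · exact hη'.one_ne_zero h3
  obtain ⟨ψ, hψ, hne⟩ := (hη'.isCharacter.indFun (S.subgroupOf P)).exists_constituent h0
  have hne' : classInner (resTo S P hSP ψ) η ≠ 0 := by
    rw [← classInner_resTo P hSP ψ η]
    rw [IndFun.frobenius_reciprocity (S.subgroupOf P) η' ψ hψ.isClassFunction] at hne
    rw [← conj_classInner]
    exact (map_ne_zero _).mpr hne
  refine ⟨ψ, hψ, hne', ?_⟩
  have hb := (isCharacter_resTo hSP hψ.isCharacter).sub_constituent hη hne'
  obtain ⟨n, hn⟩ := (isCharacter_resTo hZS hη.isCharacter).classInner_nat hθ.isCharacter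
  obtain ⟨m, hm⟩ := (isCharacter_resTo hZS hb).classInner_nat hθ.isCharacter
  have hsum : resTo Z P (hZS.trans hSP) ψ = resTo Z S hZS η + resTo Z S hZS (resTo S P hSP ψ - η) := by
    funext z
    simp [resTo]
  rw [hsum, classInner_add_left, hn, hm]
  have hn0 : n ≠ 0 := by
    rintro rfl; exact hover (by rw [hn]; simp)
  have : ((n : ℂ) + (m : ℂ)) = ((n + m : ℕ) : ℂ) := by push_cast; ring
  rw [this]
  exact_mod_cast (by omega : n + m ≠ 0)

/-- If `P` has at most one irreducible character over `θ` then `P` permutes transitively the irreducible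
characters of the normal subgroup `S` over `θ`. -/
theorem transitive {Z S P : Subgroup L} [Z.Normal] [S.Normal] [Fintype Z] [Fintype S] (hZS : Z ≤ S) (hSP : S ≤ P)
    {θ : Z → ℂ} (hθ : IsIrrCharacter Z θ)
    (huniq : ∀ ψ ψ' : P → ℂ, IsIrrCharacter P ψ → IsIrrCharacter P ψ' →
      classInner (resTo Z P (hZS.trans hSP) ψ) θ ≠ 0 → classInner (resTo Z P (hZS.trans hSP) ψ') θ ≠ 0 → ψ' = ψ)
    {η η' : S → ℂ} (hη : IsIrrCharacter S η) (hη' : IsIrrCharacter S η')
    (hover : classInner (resTo Z S hZS η) θ ≠ 0) (hover' : classInner (resTo Z S hZS η') θ ≠ 0) :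
    ∃ x ∈ P, η' = cj S x η := by
  classical
  have := Fintype.ofFinite P
  have := Fintype.ofFinite (S.subgroupOf P)
  obtain ⟨ψ, hψ, h1, h2⟩ := exists_over hZS hSP hθ hη hover
  obtain ⟨ψ', hψ', h1', h2'⟩ := exists_over hZS hSP hθ hη' hover'
  have he := huniq ψ ψ' hψ hψ' h2 h2'
  subst he
  rw [← classInner_resTo P hSP ψ' η] at h1
  rw [← classInner_resTo P hSP ψ' η'] at h1'
  obtain ⟨x, hx⟩ := exists_cj_eq (N := S.subgroupOf P) hψ (isIrr_sub hSP hη) (isIrr_sub hSP hη') h1 h1'
  refine ⟨x, x.2, ?_⟩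
  funext s
  have h3 := congrFun hx ⟨⟨(s : L), hSP s.2⟩, by rw [Subgroup.mem_subgroupOf]; exact s.2⟩
  rw [cj_apply] at h3
  exact h3

/-- The norm of `ψ_S` for the unique character `ψ` over `θ`, in terms of the inertia group. -/
theorem inertia_card {Z S P : Subgroup L} [Z.Normal] [S.Normal] [Fintype Z] [Fintype S] (hZS : Z ≤ S)
    (hSP : S ≤ P) {η : S → ℂ} (hη : IsIrrCharacter S η) {ψ : P → ℂ} (hψ : IsIrrCharacter P ψ)
    (hover : classInner (resTo S P hSP ψ) η ≠ 0) (hoffψ : ∀ x : P, (x : L) ∉ Z → ψ x = 0) :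
    classInner (resTo S P hSP ψ) η * conj (classInner (resTo S P hSP ψ) η) =
      (S.relIndex (inertia S η ⊓ P) : ℂ) := by
  classical
  have := Fintype.ofFinite P
  have := Fintype.ofFinite (S.subgroupOf P)
  set N : Subgroup P := S.subgroupOf P with hN
  let η' : N → ℂ := fun n => η (subEquiv S P hSP n)
  have hη' : IsIrrCharacter N η' := isIrr_sub hSP hη
  have hc := classInner_resTo P hSP ψ η
  set c := classInner (resTo S P hSP ψ) η with hcdef
  have hc' : classInner (fun n : N => ψ n) η' = c := hc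
  have hcne : classInner (fun n : N => ψ n) η' ≠ 0 := by rw [hc']; exact hover
  have hcl := clifford (N := N) hψ hη' hcne
  -- norm of the restriction
  have h1 : classInner (fun n : N => ψ n) (fun n : N => ψ n) = (N.index : ℂ) := by
    rw [classInner_res_eq_index_iff hψ.classInner_self]
    intro x hx
    apply hoffψ x
    intro hz
    apply hx
    rw [hN, Subgroup.mem_subgroupOf]
    exact hZS hz
  -- from Clifford
  set Sset : Set (N → ℂ) := {φ : N → ℂ | ∃ g : P, φ = cj N g η'} with hSset
  have hSfin : Sset.Finite := by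
    have : Sset = Set.range (fun g : P => cj N g η') := by
      ext φ; simp [hSset, eq_comm]
    rw [this]
    exact Set.finite_range _
  have hSirr : ∀ φ ∈ Sset, IsIrrCharacter N φ := by
    rintro _ ⟨g, rfl⟩
    exact isIrrCharacter_cj hη' g
  set Sg0 : N → ℂ := ∑ᶠ φ ∈ Sset, φ with hSg0
  have hSg : classInner Sg0 Sg0 = (hSfin.toFinset.card : ℂ) := by
    rw [hSg0, finsum_mem_eq_finite_toFinset_sum _ hSfin, classInner_sum_left]
    have : ∀ φ ∈ hSfin.toFinset, classInner φ (∑ φ' ∈ hSfin.toFinset, φ') = 1 := by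
      intro φ hφ
      have hφ' : φ ∈ Sset := by simpa using hφ
      rw [classInner_sum_right, Finset.sum_eq_single φ]
      · exact (hSirr φ hφ').classInner_self
      · intro b hb hne
        have hb' : b ∈ Sset := by simpa using hb
        exact (hSirr φ hφ').classInner_eq_zero (hSirr b hb') (Ne.symm hne)
      · intro h; exact absurd hφ h
    rw [Finset.sum_congr rfl this]
    simp
  have h2 : classInner (fun n : N => ψ n) (fun n : N => ψ n) = c * conj c * (hSfin.toFinset.card : ℂ) := by
    rw [hcl, hc', classInner_smul_left, classInner_smul_right, ← hSg, mul_assoc]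
  -- number of conjugates
  have h3 : (hSfin.toFinset.card : ℂ) = ((inertia N η').index : ℂ) := by
    have h4 := finsum_conj_one (N := N) η'
    have h5 : (∑ᶠ φ ∈ Sset, φ) 1 = (hSfin.toFinset.card : ℂ) * η' 1 := by
      rw [finsum_mem_eq_finite_toFinset_sum _ hSfin, Finset.sum_apply]
      have : ∀ φ ∈ hSfin.toFinset, φ 1 = η' 1 := by
        intro φ hφ
        have hφ' : φ ∈ Sset := by simpa using hφ
        obtain ⟨g, rfl⟩ := hφ'
        rw [cj_apply]
        congr 1
        ext; simp
      rw [Finset.sum_congr rfl this]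
      simp
    rw [h5] at h4
    exact mul_right_cancel₀ hη'.one_ne_zero h4
  rw [h1, h3] at h2
  -- index computation
  have hle : N ≤ inertia N η' := le_inertia hη'.isClassFunction
  have h6 : N.relIndex (inertia N η') * (inertia N η').index = N.index :=
    Subgroup.relIndex_mul_index hle
  have h7 : ((inertia N η').index : ℂ) ≠ 0 := by exact_mod_cast Subgroup.index_ne_zero_of_finite
  have h8 : c * conj c = (N.relIndex (inertia N η') : ℂ) := by
    apply mul_right_cancel₀ h7
    rw [← h2, ← h6]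
    push_cast
    ring
  rw [h8]
  congr 1
  -- inertia N η' = (inertia S η).subgroupOf P
  have h9 : inertia N η' = (inertia S η ⊓ P).subgroupOf P := by
    ext x
    rw [Subgroup.mem_subgroupOf, Subgroup.mem_inf]
    constructor
    · intro hx
      refine ⟨?_, x.2⟩
      rw [mem_inertia] at hx ⊢
      funext s
      have h10 := congrFun hx ⟨⟨(s : L), hSP s.2⟩, by rw [hN, Subgroup.mem_subgroupOf]; exact s.2⟩
      rw [cj_apply] at h10 ⊢
      exact h10
    · rintro ⟨hx, -⟩
      rw [mem_inertia] at hx ⊢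
      funext n
      have h10 := congrFun hx (subEquiv S P hSP n)
      rw [cj_apply] at h10 ⊢
      exact h10
  rw [h9, hN]
  rw [Subgroup.relIndex_subgroupOf (inf_le_right : inertia S η ⊓ P ≤ P)]

end Cfsg.Agent.Lib.H76Ram
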