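import Cfsg.Agent.Lib.H76Ram2

set_option autoImplicit false

/-!
Ramification over Sylow subgroups (helper76), part 3: group theoretic assembly.
-/

namespace Cfsg.Agent.Lib.H76Ram

open scoped ComplexConjugate
open Cfsg Cfsg.Agent.Lib.CharBasic Cfsg.Agent.Lib.Clifford Cfsg.Agent.Lib.CliffordCorr

universe u

section GroupTheory

variable {L : Type*} [Group L]

/-- if `L = I P` then `[L : I] = [P : I ⊓ P]`. -/
theorem index_eq_relIndex_of_mul (I P : Subgroup L) (h : ∀ l : L, ∃ x ∈ P, ∃ i ∈ I, l = x * i) :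
    I.index = I.relIndex P := by
  have htr : MulAction.IsPretransitive P (L ⧸ I) := by
    refine ⟨?_⟩
    have key : ∀ q : L ⧸ I, ∃ x : P, x • ((1 : L) : L ⧸ I) = q := by
      intro q
      obtain ⟨l, rfl⟩ := QuotientGroup.mk_surjective q
      obtain ⟨x, hx, i, hi, rfl⟩ := h l
      refine ⟨⟨x, hx⟩, ?_⟩
      show ((x * 1 : L) : L ⧸ I) = ((x * i : L) : L ⧸ I)
      rw [QuotientGroup.eq]
      simpa using hi
    intro a b
    obtain ⟨x, rfl⟩ := key a
    obtain ⟨y, rfl⟩ := key b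
    exact ⟨y * x⁻¹, by rw [smul_smul]; simp⟩
  have h1 := MulAction.index_stabilizer_of_transitive (G := P) (X := L ⧸ I) ((1 : L) : L ⧸ I)
  have h2 : MulAction.stabilizer P ((1 : L) : L ⧸ I) = I.subgroupOf P := by
    ext x
    rw [MulAction.mem_stabilizer_iff, Subgroup.mem_subgroupOf]
    show ((x * 1 : L) : L ⧸ I) = ((1 : L) : L ⧸ I) ↔ _
    rw [QuotientGroup.eq]
    simp
  rw [h2] at h1
  exact h1.symm

theorem relIndex_dvd_index_of_normal' [Finite L] (I Y : Subgroup L) [Y.Normal] : I.relIndex Y ∣ I.index := by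
  -- [Y ⊔ I : I] = [Y : Y ⊓ I]
  have h1 : (Y ⊓ I).relIndex I * I.relIndex (I ⊔ Y) = (Y ⊓ I).relIndex (I ⊔ Y) :=
    Subgroup.relIndex_mul_relIndex _ _ _ inf_le_right le_sup_left
  have h2 : (Y ⊓ I).relIndex Y * Y.relIndex (I ⊔ Y) = (Y ⊓ I).relIndex (I ⊔ Y) :=
    Subgroup.relIndex_mul_relIndex _ _ _ inf_le_left le_sup_right
  rw [Subgroup.relIndex_sup_right, Subgroup.inf_relIndex_left] at h2
  rw [Subgroup.inf_relIndex_right] at h1
  have h3 : Y.relIndex I ≠ 0 := (Subgroup.index_ne_zero_of_finite : (Y.subgroupOf I).index ≠ 0)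
  have h4 : I.relIndex (I ⊔ Y) = I.relIndex Y := by
    apply Nat.eq_of_mul_eq_mul_left (Nat.pos_of_ne_zero h3)
    rw [h1, ← h2, mul_comm]
  rw [← h4]
  exact Subgroup.relIndex_dvd_index_of_le le_sup_left

end GroupTheory

variable {L : Type u} [Group L] [Fintype L]

/-- the key step -/
theorem inertia_of_transitive {Z S Y P : Subgroup L} [Z.Normal] [S.Normal] [Y.Normal] [Fintype Z] [Fintype S]
    (hZS : Z ≤ S) (hSY : S ≤ Y) {θ : Z → ℂ} (hinv : ∀ g : L, cj Z g θ = θ)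
    (p n : ℕ) [hp : Fact p.Prime] (hYS : ¬ p ∣ S.relIndex Y) (hPS : S.relIndex P = p ^ n)
    {η : S → ℂ} (hη : IsIrrCharacter S η) (hover : classInner (resTo Z S hZS η) θ ≠ 0)
    (htr : ∀ η' : S → ℂ, IsIrrCharacter S η' → classInner (resTo Z S hZS η') θ ≠ 0 → ∃ x ∈ P, η' = cj S x η) :
    Y ≤ inertia S η ∧ (inertia S η).index = (inertia S η).relIndex P := by
  set I := inertia S η with hI
  have hSI : S ≤ I := le_inertia hη.isClassFunction
  have hidx : I.index = I.relIndex P := by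
    apply index_eq_relIndex_of_mul
    intro l
    -- cj S l⁻¹ η = cj S x η
    have h1 : IsIrrCharacter S (cj S l⁻¹ η) := isIrrCharacter_cj hη _
    have h2 : classInner (resTo Z S hZS (cj S l⁻¹ η)) θ ≠ 0 := by
      have h3 : resTo Z S hZS (cj S l⁻¹ η) = cj Z l⁻¹ (resTo Z S hZS η) := rfl
      rw [h3, ← hinv l⁻¹, classInner_cj_cj]
      exact hover
    obtain ⟨x, hx, hxe⟩ := htr _ h1 h2
    refine ⟨x⁻¹, P.inv_mem hx, x * l, ?_, by group⟩
    -- cj (x * l) η = η
    rw [hI, mem_inertia, ← cj_cj, ← hxe, cj_cj_inv]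
  refine ⟨?_, hidx⟩
  have h1 : I.relIndex Y ∣ I.index := relIndex_dvd_index_of_normal' I Y
  have h2 : I.relIndex P ∣ S.relIndex P := Subgroup.relIndex_dvd_of_le_left P hSI
  have h3 : I.relIndex Y ∣ S.relIndex Y := Subgroup.relIndex_dvd_of_le_left Y hSI
  rw [hidx] at h1
  rw [hPS] at h2
  have h4 : I.relIndex Y ∣ p ^ n := h1.trans h2
  have h5 : I.relIndex Y = 1 := by
    obtain ⟨j, -, hj⟩ := (Nat.dvd_prime_pow hp.out).1 h4
    rcases Nat.eq_zero_or_pos j with h | h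
    · rw [hj, h, pow_zero]
    · exfalso
      apply hYS
      apply dvd_trans _ h3
      rw [hj]
      exact dvd_pow_self p h.ne'
  exact Subgroup.relIndex_eq_one.1 h5

end Cfsg.Agent.Lib.H76Ram
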