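import Cfsg.Agent.Lib.H76Ram3
import Cfsg.Agent.Lib.Subnormal

set_option autoImplicit false

/-!
Sylow set-up relative to two normal subgroups `Z ≤ K` (helper76), used by S4563, S4564.
-/

namespace Cfsg.Agent.Lib.H76Setup

variable {H : Type*} [Group H] [Finite H]

theorem mem_sup_left {Z P : Subgroup H} [Z.Normal] {x : H} : x ∈ Z ⊔ P ↔ ∃ z ∈ Z, ∃ y ∈ P, x = z * y := by
  constructor
  · intro hx
    rw [← SetLike.mem_coe, Subgroup.normal_mul] at hx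
    obtain ⟨z, hz, y, hy, rfl⟩ := Set.mem_mul.1 hx
    exact ⟨z, hz, y, hy, rfl⟩
  · rintro ⟨z, hz, y, hy, rfl⟩
    exact Subgroup.mul_mem_sup hz hy

theorem dedekind {Z K P : Subgroup H} [Z.Normal] (hZK : Z ≤ K) : (Z ⊔ P) ⊓ K = Z ⊔ (P ⊓ K) := by
  ext x
  rw [Subgroup.mem_inf, mem_sup_left, mem_sup_left]
  constructor
  · rintro ⟨⟨z, hz, y, hy, rfl⟩, hK⟩
    refine ⟨z, hz, y, ⟨hy, ?_⟩, rfl⟩
    have := K.mul_mem (K.inv_mem (hZK hz)) hK
    simpa using this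
  · rintro ⟨z, hz, y, hy, rfl⟩
    exact ⟨⟨z, hz, y, hy.1, rfl⟩, K.mul_mem (hZK hz) hy.2⟩

theorem normalizer_le {Z Q : Subgroup H} [hZ : Z.Normal] :
    Subgroup.normalizer (Q : Set H) ≤ Subgroup.normalizer ((Z ⊔ Q : Subgroup H) : Set H) := by
  intro g hg
  rw [Subgroup.mem_normalizer_iff] at hg ⊢
  have key : ∀ g : H, (∀ h, h ∈ Q ↔ g * h * g⁻¹ ∈ Q) →
      ∀ x ∈ Z ⊔ Q, g * x * g⁻¹ ∈ Z ⊔ Q := by
    intro g hg x hx
    rw [mem_sup_left] at hx ⊢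
    obtain ⟨z, hz, y, hy, rfl⟩ := hx
    exact ⟨g * z * g⁻¹, hZ.conj_mem z hz g, g * y * g⁻¹, (hg y).1 hy, by group⟩
  intro h
  refine ⟨key g hg h, fun hh => ?_⟩
  have h1 : ∀ h, h ∈ Q ↔ g⁻¹ * h * g⁻¹⁻¹ ∈ Q := by
    intro h
    have := hg (g⁻¹ * h * g⁻¹⁻¹)
    rw [this]
    have e : g * (g⁻¹ * h * g⁻¹⁻¹) * g⁻¹ = h := by group
    rw [e]
  have h2 := key g⁻¹ h1 _ hh
  have e : g⁻¹ * (g * h * g⁻¹) * g⁻¹⁻¹ = h := by group
  rwa [e] at h2

theorem setup (Z K : Subgroup H) [hZ : Z.Normal] [hK : K.Normal] (hZK : Z ≤ K) (p : ℕ) [hp : Fact p.Prime]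
    (P₀ : Sylow p H) :
    K ⊔ Subgroup.normalizer (((Z ⊔ (P₀ : Subgroup H)) ⊓ K : Subgroup H) : Set H) = ⊤ ∧
    ¬ p ∣ ((Z ⊔ (P₀ : Subgroup H)) ⊓ K).relIndex K ∧
    (∃ n m, ((Z ⊔ (P₀ : Subgroup H)) ⊓ K).relIndex (Z ⊔ (P₀ : Subgroup H)) = p ^ n ∧ K.index = p ^ n * m ∧ ¬ p ∣ m) ∧
    (∃ b m, Z.relIndex (Z ⊔ (P₀ : Subgroup H)) = p ^ b ∧ Z.index = p ^ b * m ∧ ¬ p ∣ m) := by
  set P : Subgroup H := Z ⊔ (P₀ : Subgroup H) with hP
  have hZP : Z ≤ P := le_sup_left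
  have hPi : ¬ p ∣ P.index := fun h =>
    P₀.not_dvd_index (h.trans (Subgroup.index_dvd_of_le le_sup_right))
  have hS : P ⊓ K = Z ⊔ ((P₀ : Subgroup H) ⊓ K) := dedekind hZK
  have hsub : K.IsSubnormal := hK.isSubnormal
  have hrelp : ∃ b, Z.relIndex P = p ^ b := by
    have h1 : Z.relIndex P = Z.relIndex (P₀ : Subgroup H) := by
      rw [hP]; exact Subgroup.relIndex_sup_left _ _
    rw [h1]
    obtain ⟨k, hk⟩ := (IsPGroup.iff_card (p := p)).1 P₀.2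
    have h2 : Z.relIndex (P₀ : Subgroup H) ∣ p ^ k := by
      rw [← hk]; exact Subgroup.relIndex_dvd_card _ _
    obtain ⟨b, -, hb⟩ := (Nat.dvd_prime_pow hp.out).1 h2
    exact ⟨b, hb⟩
  refine ⟨?_, ?_, ?_, ?_⟩
  · obtain ⟨Q, hQ⟩ := Subnormal.exists_sylow_eq_subgroupOf p hsub P₀
    have h1 := Q.normalizer_sup_eq_top
    have h2 : (Q : Subgroup K).map K.subtype = (P₀ : Subgroup H) ⊓ K := by
      rw [hQ, Subgroup.subgroupOf_map_subtype]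
    rw [h2] at h1
    rw [hS, sup_comm, eq_top_iff, ← h1]
    exact sup_le_sup_right normalizer_le K
  · intro h
    apply Subnormal.not_dvd_relIndex_sylow p hsub P₀
    apply h.trans
    apply Subgroup.relIndex_dvd_of_le_left
    exact inf_le_inf_right K le_sup_right
  · obtain ⟨b, hb⟩ := hrelp
    have h1 : (P ⊓ K).relIndex P ∣ p ^ b := by
      rw [← hb]; exact Subgroup.relIndex_dvd_of_le_left P (le_inf hZP hZK)
    obtain ⟨n, -, hn⟩ := (Nat.dvd_prime_pow hp.out).1 h1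
    refine ⟨n, (K ⊔ P).index, hn, ?_, ?_⟩
    · rw [← hn, ← Subgroup.relIndex_mul_index (le_sup_left : K ≤ K ⊔ P), Subgroup.relIndex_sup_left,
        Subgroup.inf_relIndex_left]
    · exact fun h => hPi (h.trans (Subgroup.index_dvd_of_le le_sup_right))
  · obtain ⟨b, hb⟩ := hrelp
    exact ⟨b, P.index, hb, by rw [← hb, Subgroup.relIndex_mul_index hZP], hPi⟩

/-- pushing a subgroup of `L` to `H ⧸ K` when `H = K L`. -/
theorem push (K L : Subgroup H) [hK : K.Normal] (hKL : K ⊔ L = ⊤) (I : Subgroup L) (hI : K.subgroupOf L ≤ I) :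
    ∃ M : Subgroup (H ⧸ K), M.index = I.index := by
  let f : L →* H ⧸ K := (QuotientGroup.mk' K).comp L.subtype
  have hker : f.ker = K.subgroupOf L := by
    ext x
    rw [MonoidHom.mem_ker, Subgroup.mem_subgroupOf]
    exact QuotientGroup.eq_one_iff _
  have hsurj : Function.Surjective f := by
    intro q
    obtain ⟨x, rfl⟩ := QuotientGroup.mk_surjective q
    have hx : x ∈ K ⊔ L := by rw [hKL]; trivial
    rw [mem_sup_left] at hx
    obtain ⟨k, hk, l, hl, rfl⟩ := hx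
    refine ⟨⟨l, hl⟩, ?_⟩
    show ((l : H) : H ⧸ K) = ((k * l : H) : H ⧸ K)
    rw [QuotientGroup.mk_mul, (QuotientGroup.eq_one_iff k).2 hk, one_mul]
  exact ⟨I.map f, Subgroup.index_map_eq I hsurj (by rw [hker]; exact hI)⟩

end Cfsg.Agent.Lib.H76Setup
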