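import Cfsg.Agent.Lib.H32PSolv
import Cfsg.Agent.Lib.PSolvDual
import Cfsg.Agent.Lib.Cores
import Cfsg.Agent.Lib.CoprimeAction
import Cfsg.Agent.Lib.Subnormal

set_option autoImplicit false

/-!
A Sylow `p`-subgroup normalizing a Sylow `q`-subgroup (helper76), used by S4601, S4602.
-/

namespace Cfsg.Agent.Lib.H76SylNorm

open Subgroup Cfsg
open scoped Pointwise
open Cfsg.Agent.Lib Cfsg.Agent.Lib.SubgroupTools

universe u

variable {G : Type u} [Group G] [Finite G]

theorem index_not_dvd_of_le {p : ℕ} {H K : Subgroup G} (hHK : H ≤ K) (h1 : ¬ p ∣ H.relIndex K) (h2 : ¬ p ∣ K.index)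
    (hp : p.Prime) : ¬ p ∣ H.index := by
  rw [← Subgroup.relIndex_mul_index hHK]
  intro h
  rcases hp.dvd_mul.1 h with h | h
  · exact h1 h
  · exact h2 h

/-- if `q ∤ |G : O_{p'}(G)|` then some Sylow `p`-subgroup normalises some Sylow `q`-subgroup -/
theorem exists_of_not_dvd (p q : ℕ) [hp : Fact p.Prime] [hq : Fact q.Prime] (K : Subgroup G) [K.Normal]
    (hK : (Nat.card K).Coprime p) (hq' : ¬ q ∣ K.index) (P : Sylow p G) :
    ∃ Q : Sylow q G, (P : Subgroup G) ≤ normalizer ((Q : Subgroup G) : Set G) := by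
  have hcop : (Nat.card P).Coprime (Nat.card K) := by
    obtain ⟨k, hk⟩ := (IsPGroup.iff_card (p := p)).1 P.2
    rw [hk]
    exact Nat.Coprime.pow_left k hK.symm
  obtain ⟨Q, hQK, hQ, hQi, hPQ⟩ := CoprimeAction.exists_invariant_sylow (A := (P : Subgroup G)) (K := K)
    (le_normalizer_of_normal) hcop (Or.inl (by
      have := P.2.isNilpotent
      infer_instance)) q
  have h1 : ¬ q ∣ Q.index := index_not_dvd_of_le hQK hQi hq' hq.out
  exact ⟨hQ.toSylow h1, hPQ⟩

/-- If `O_{p'}(G) = 1`, `G` is `p`-solvable, a `q`-subgroup normalised by a Sylow `p`-subgroup is trivial. -/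
theorem eq_bot_of_normalized {p q : ℕ} [hp : Fact p.Prime] [hq : Fact q.Prime] (hpq : p ≠ q) (hS : IsPSolvable p G)
    (h : pPrimeCore p G = ⊥) (P : Sylow p G) (Q : Subgroup G) (hQ : IsPGroup q Q)
    (hPQ : (P : Subgroup G) ≤ normalizer (Q : Set G)) : Q = ⊥ := by
  have h1 : pCore p G ≤ P := Cores.pCore_le_sylow P
  have hd : Disjoint (pCore p G) Q := IsPGroup.disjoint_of_ne p q hpq _ _ (Cores.isPGroup_pCore p G) hQ
  have hn : (pCore p G).Normal := inferInstance
  have h2 : Q ≤ centralizer (pCore p G : Set G) := by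
    intro y hy
    rw [mem_centralizer_iff]
    intro u hu
    have h3 : u * y * u⁻¹ * y⁻¹ = 1 := by
      have h4 : u * y * u⁻¹ * y⁻¹ ∈ pCore p G := by
        have := hn.conj_mem _ ((pCore p G).inv_mem hu) y
        have e : u * y * u⁻¹ * y⁻¹ = u * (y * u⁻¹ * y⁻¹) := by group
        rw [e]
        exact (pCore p G).mul_mem hu this
      have h5 : u * y * u⁻¹ * y⁻¹ ∈ Q := by
        have h6 := (mem_normalizer_iff.1 (hPQ (h1 hu)) y).1 hy
        exact Q.mul_mem h6 (Q.inv_mem hy)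
      exact Subgroup.disjoint_def.1 hd h4 h5
    have h7 := mul_inv_eq_one.1 h3
    exact mul_inv_eq_iff_eq_mul.1 h7
  have h3 : Q ≤ pCore p G := h2.trans (H32PSolv.centralizer_pCore_le hS h)
  rw [eq_bot_iff]
  intro x hx
  rw [Subgroup.mem_bot]
  exact Subgroup.disjoint_def.1 hd (h3 hx) hx

theorem iff_not_dvd (p q : ℕ) [hp : Fact p.Prime] [hq : Fact q.Prime] (hpq : p ≠ q) (hS : IsPSolvable p G) :
    (∃ (P : Sylow p G) (Q : Sylow q G), (P : Subgroup G) ≤ normalizer ((Q : Subgroup G) : Set G)) ↔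
      ¬ q ∣ (pPrimeCore p G).index := by
  constructor
  · rintro ⟨P, Q, h⟩
    set π := QuotientGroup.mk' (pPrimeCore p G) with hπ
    have hπs : Function.Surjective π := QuotientGroup.mk'_surjective _
    have h1 : ((P.mapSurjective hπs : Sylow p (G ⧸ pPrimeCore p G)) : Subgroup (G ⧸ pPrimeCore p G)) ≤
        normalizer (((Q : Subgroup G).map π : Subgroup (G ⧸ pPrimeCore p G)) : Set (G ⧸ pPrimeCore p G)) := by
      rw [Sylow.coe_mapSurjective]
      rw [Subgroup.coe_map]
      exact (Subgroup.map_mono h).trans (Subgroup.le_normalizer_map _)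
    have h2 := eq_bot_of_normalized hpq (H32PSolv.isPSolvable_quotient hS (pPrimeCore p G))
      (Cores.pPrimeCore_quotient_pPrimeCore p G) _ _ (Q.2.map π) h1
    rw [Subgroup.map_eq_bot_iff, QuotientGroup.ker_mk'] at h2
    intro h3
    exact Q.not_dvd_index (h3.trans (Subgroup.index_dvd_of_le h2))
  · intro h
    obtain ⟨P⟩ : Nonempty (Sylow p G) := inferInstance
    obtain ⟨Q, hQ⟩ := exists_of_not_dvd p q (pPrimeCore p G) (Cores.coprime_card_pPrimeCore p G) h P
    exact ⟨P, Q, hQ⟩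

end Cfsg.Agent.Lib.H76SylNorm
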