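import Cfsg.Agent.Lib.H76Mono
import Mathlib.GroupTheory.RegularWreathProduct

set_option autoImplicit false

/-!
Characters of finite direct powers and wreath products (helper76), used by S4573.
-/

namespace Cfsg.Agent.Lib.H76Wreath

open scoped ComplexConjugate
open Cfsg Cfsg.Agent.Lib Cfsg.Agent.Lib.CharBasic Cfsg.Agent.Lib.Clifford Cfsg.Agent.Lib.CliffordCorr
open Cfsg.Agent.Lib.H76Mono

universe u v

variable {M : Type u} [Group M] {ι : Type v} [Fintype ι]

/-- outer product -/
def opr (φ : ι → M → ℂ) : (ι → M) → ℂ := fun x => ∏ i, φ i (x i)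

theorem isCharacter_prod {G : Type u} [Group G] {κ : Type v} (s : Finset κ) (f : κ → G → ℂ)
    (h : ∀ i ∈ s, IsCharacter G (f i)) : IsCharacter G (fun g => ∏ i ∈ s, f i g) := by
  classical
  induction s using Finset.induction_on with
  | empty =>
    simp only [Finset.prod_empty]
    exact isIrrCharacter_fun_one.isCharacter
  | insert a s ha ih =>
    have h1 : (fun g => ∏ i ∈ insert a s, f i g) = f a * fun g => ∏ i ∈ s, f i g := by
      funext g
      rw [Finset.prod_insert ha]
      rfl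
    rw [h1]
    exact (h a (Finset.mem_insert_self a s)).mul (ih fun i hi => h i (Finset.mem_insert_of_mem hi))

theorem isCharacter_opr {φ : ι → M → ℂ} (h : ∀ i, IsCharacter M (φ i)) : IsCharacter (ι → M) (opr φ) := by
  have h1 := isCharacter_prod (G := ι → M) Finset.univ (fun i x => φ i (x i)) (fun i _ =>
    (h i).comp (Pi.evalMonoidHom (fun _ : ι => M) i))
  exact h1

theorem sum_opr [Fintype M] [DecidableEq ι] (φ : ι → M → ℂ) : ∑ x : ι → M, ∏ i, φ i (x i) = ∏ i, ∑ m, φ i m := by
  rw [Finset.prod_univ_sum]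
  rw [Fintype.piFinset_univ]

theorem classInner_opr [Fintype M] [DecidableEq ι] (φ ψ : ι → M → ℂ) :
    classInner (opr φ) (opr ψ) = ∏ i, classInner (φ i) (ψ i) := by
  simp only [classInner_def, opr]
  rw [Finset.prod_mul_distrib, Finset.prod_const, Finset.card_univ]
  have h1 : ∀ x : ι → M, (∏ i, φ i (x i)) * conj (∏ i, ψ i (x i)) = ∏ i, (φ i (x i) * conj (ψ i (x i))) := by
    intro x
    rw [map_prod, Finset.prod_mul_distrib]
  rw [Finset.sum_congr rfl (fun x _ => h1 x), sum_opr (fun i m => φ i m * conj (ψ i m))]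
  congr 1
  rw [Nat.card_fun, Nat.card_eq_fintype_card (α := ι), inv_pow]
  push_cast
  rfl

theorem isIrr_opr [Fintype M] [DecidableEq ι] {φ : ι → M → ℂ} (h : ∀ i, IsIrrCharacter M (φ i)) :
    IsIrrCharacter (ι → M) (opr φ) := by
  apply (isCharacter_opr fun i => (h i).isCharacter).isIrr_of_norm_one
  rw [classInner_opr]
  exact Finset.prod_eq_one fun i _ => (h i).classInner_self

/-- every irreducible character of a direct power is an outer product -/
theorem exists_opr [Fintype M] [DecidableEq ι] {χ : (ι → M) → ℂ} (hχ : IsIrrCharacter (ι → M) χ) :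
    ∃ φ : ι → M → ℂ, (∀ i, IsIrrCharacter M (φ i)) ∧ χ = opr φ := by
  classical
  by_contra hcon
  push Not at hcon
  -- the regular character
  have h1 : ∀ x : ι → M, ∏ i, (∑ φ : IrrCharacter M, (φ : M → ℂ) (x i) * conj ((φ : M → ℂ) 1)) =
      ∑ φ : ι → IrrCharacter M, ∏ i, ((φ i : M → ℂ) (x i) * conj ((φ i : M → ℂ) 1)) := by
    intro x
    rw [Finset.prod_univ_sum, Fintype.piFinset_univ]
  have h2 : ∀ x : ι → M, x ≠ 1 →
      ∑ φ : ι → IrrCharacter M, ∏ i, ((φ i : M → ℂ) (x i) * conj ((φ i : M → ℂ) 1)) = 0 := by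
    intro x hx
    rw [← h1]
    obtain ⟨i, hi⟩ : ∃ i, x i ≠ 1 := by
      by_contra hc
      push Not at hc
      exact hx (funext hc)
    apply Finset.prod_eq_zero (Finset.mem_univ i)
    have h3 := column_orthogonality (x i) (1 : M)
    rw [if_neg (fun h => hi (isConj_one_left.1 h))] at h3
    exact h3
  have h3 : ∑ x : ι → M, (∑ φ : ι → IrrCharacter M, ∏ i, ((φ i : M → ℂ) (x i) * conj ((φ i : M → ℂ) 1))) *
      conj (χ x) = 0 := by
    have h4 : ∀ x : ι → M, (∑ φ : ι → IrrCharacter M, ∏ i, ((φ i : M → ℂ) (x i) * conj ((φ i : M → ℂ) 1))) * conj (χ x) =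
        ∑ φ : ι → IrrCharacter M, (∏ i, conj ((φ i : M → ℂ) 1)) * (opr (fun i => (φ i : M → ℂ)) x * conj (χ x)) := by
      intro x
      rw [Finset.sum_mul]
      apply Finset.sum_congr rfl
      intro φ _
      rw [Finset.prod_mul_distrib, opr]
      ring
    rw [Finset.sum_congr rfl (fun x _ => h4 x), Finset.sum_comm]
    apply Finset.sum_eq_zero
    intro φ _
    rw [← Finset.mul_sum]
    have h5 := (isIrr_opr (fun i => (φ i).2)).classInner_eq_zero hχ (fun h => hcon (fun i => (φ i : M → ℂ)) (fun i => (φ i).2) h.symm)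
    rw [classInner_def] at h5
    have h6 : (Nat.card (ι → M) : ℂ)⁻¹ ≠ 0 := inv_ne_zero (by exact_mod_cast Nat.card_pos.ne')
    rw [(mul_eq_zero.1 h5).resolve_left h6, mul_zero]
  rw [Finset.sum_eq_single (1 : ι → M)] at h3
  · rw [← h1] at h3
    have h4 : (∏ i : ι, (∑ φ : IrrCharacter M, (φ : M → ℂ) ((1 : ι → M) i) * conj ((φ : M → ℂ) 1))) ≠ 0 := by
      apply Finset.prod_ne_zero_iff.2
      intro i _
      have h5 := column_orthogonality (1 : M) (1 : M)
      rw [if_pos (IsConj.refl _)] at h5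
      rw [Pi.one_apply, h5]
      exact_mod_cast Nat.card_pos.ne'
    rcases mul_eq_zero.1 h3 with h | h
    · exact h4 h
    · exact hχ.one_ne_zero ((map_eq_zero _).1 h)
  · intro x _ hx
    rw [h2 x hx, zero_mul]
  · intro h; exact absurd (Finset.mem_univ _) h

theorem extendByZero_pi [Fintype M] (H : ι → Subgroup M) (f : ∀ i, H i → ℂ) (x : ι → M) :
    extendByZero (Subgroup.pi Set.univ H) (fun y => ∏ i, f i ⟨(y : ι → M) i, y.2 i (Set.mem_univ i)⟩) x =
      ∏ i, extendByZero (H i) (f i) (x i) := by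
  classical
  by_cases hx : x ∈ Subgroup.pi Set.univ H
  · rw [IndFun.extendByZero_mem _ _ hx]
    apply Finset.prod_congr rfl
    intro i _
    rw [IndFun.extendByZero_mem _ _ (hx i (Set.mem_univ i))]
  · rw [IndFun.extendByZero_not_mem _ _ hx]
    have : ∃ i, x i ∉ H i := by
      by_contra hc
      push Not at hc
      exact hx (fun i _ => hc i)
    obtain ⟨i, hi⟩ := this
    symm
    apply Finset.prod_eq_zero (Finset.mem_univ i)
    exact IndFun.extendByZero_not_mem _ _ hi

theorem card_pi' [Fintype M] (H : ι → Subgroup M) : Nat.card (Subgroup.pi Set.univ H) = ∏ i, Nat.card (H i) := by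
  classical
  have e : (Subgroup.pi Set.univ H) ≃ ∀ i, H i :=
    { toFun := fun y i => ⟨(y : ι → M) i, y.2 i (Set.mem_univ i)⟩
      invFun := fun y => ⟨fun i => (y i : M), fun i _ => (y i).2⟩
      left_inv := fun _ => rfl
      right_inv := fun _ => rfl }
  rw [Nat.card_congr e, Nat.card_pi]

theorem indFun_pi [Fintype M] [DecidableEq ι] (H : ι → Subgroup M) (f : ∀ i, H i → ℂ) :
    indFun (Subgroup.pi Set.univ H) (fun y => ∏ i, f i ⟨(y : ι → M) i, y.2 i (Set.mem_univ i)⟩) =
      opr (fun i => indFun (H i) (f i)) := by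
  funext x
  rw [IndFun.indFun_apply, opr]
  simp only [IndFun.indFun_apply]
  rw [Finset.prod_mul_distrib, card_pi']
  congr 1
  · push_cast
    rw [Finset.prod_inv_distrib]
  · rw [← sum_opr (fun i m => extendByZero (H i) (f i) (m⁻¹ * x i * m))]
    apply Finset.sum_congr rfl
    intro y _
    rw [extendByZero_pi]
    rfl

/-- a finite direct power of an M-group is an M-group -/
theorem mgroup_pi [Fintype M] [DecidableEq ι] (hM : MGroup M) : MGroup (ι → M) := by
  intro χ hχ
  obtain ⟨φ, hφ, rfl⟩ := exists_opr hχ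
  choose H lam hlam using fun i => hM (φ i) (hφ i)
  let Λ : Subgroup.pi Set.univ H →* ℂˣ :=
    { toFun := fun y => ∏ i, lam i ⟨(y : ι → M) i, y.2 i (Set.mem_univ i)⟩
      map_one' := by
        apply Finset.prod_eq_one
        intro i _
        exact map_one (lam i)
      map_mul' := fun a b => by
        rw [← Finset.prod_mul_distrib]
        apply Finset.prod_congr rfl
        intro i _
        rw [← map_mul]
        rfl }
  refine ⟨Subgroup.pi Set.univ H, Λ, ?_⟩
  have h1 := indFun_pi H (fun i y => (lam i y : ℂ))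
  have h2 : (fun y : Subgroup.pi Set.univ H => ((Λ y : ℂˣ) : ℂ)) =
      fun y : Subgroup.pi Set.univ H => ∏ i, (lam i ⟨(y : ι → M) i, y.2 i (Set.mem_univ i)⟩ : ℂ) := by
    funext y
    simp [Λ]
  rw [h2, h1]
  congr 1
  funext i
  exact hlam i

/-! ### the wreath product -/

section Wreath

variable {Q : Type v} [Group Q] [Fintype Q] [Fintype M]

open RegularWreathProduct

noncomputable instance : Fintype (M ≀ᵣ Q) := Fintype.ofFinite _

/-- the base group -/
abbrev base (M : Type u) [Group M] (Q : Type v) [Group Q] : Subgroup (M ≀ᵣ Q) := (rightHom : M ≀ᵣ Q →* Q).ker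

/-- the base group is a direct power -/
def baseEquiv (M : Type u) [Group M] (Q : Type v) [Group Q] : base M Q ≃* (Q → M) where
  toFun b := (b : M ≀ᵣ Q).left
  invFun f := ⟨⟨f, 1⟩, rfl⟩
  left_inv b := by
    apply Subtype.ext
    apply RegularWreathProduct.ext
    · rfl
    · exact (MonoidHom.mem_ker.1 b.2).symm
  right_inv f := rfl
  map_mul' a b := by
    have ha : (a : M ≀ᵣ Q).right = 1 := MonoidHom.mem_ker.1 a.2
    show ((a : M ≀ᵣ Q) * b).left = _
    rw [mul_left, ha]
    simp only [inv_one, one_mul]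

theorem index_base : (base M Q).index = Nat.card Q := by
  rw [Subgroup.index_ker]
  have h : (rightHom : M ≀ᵣ Q →* Q).range = ⊤ := by
    rw [MonoidHom.range_eq_top]
    intro q
    exact ⟨inl q, rfl⟩
  rw [h]
  exact Subgroup.card_top

/-- the subgroup of the wreath product with coordinates in `H` -/
def topSub (H : Subgroup M) (Q : Type v) [Group Q] : Subgroup (M ≀ᵣ Q) where
  carrier := {w | ∀ q, w.left q ∈ H}
  mul_mem' := fun {a b} ha hb q => by
    rw [mul_left]
    exact H.mul_mem (ha q) (hb _)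
  one_mem' := fun q => H.one_mem
  inv_mem' := fun {a} ha q => by
    rw [inv_left]
    exact H.inv_mem (ha _)

/-- the linear character of `topSub` -/
def topLam (H : Subgroup M) (lam : H →* ℂˣ) : topSub H Q →* ℂˣ where
  toFun w := ∏ q, lam ⟨(w : M ≀ᵣ Q).left q, w.2 q⟩
  map_one' := by
    apply Finset.prod_eq_one
    intro i _
    exact map_one lam
  map_mul' a b := by
    have h1 : ∏ q, lam ⟨(b : M ≀ᵣ Q).left q, b.2 q⟩ =
        ∏ q, lam ⟨(b : M ≀ᵣ Q).left ((a : M ≀ᵣ Q).right⁻¹ * q), b.2 _⟩ :=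
      (Equiv.sum_comp (M := Additive ℂˣ) (Equiv.mulLeft ((a : M ≀ᵣ Q).right⁻¹))
        (fun q => Additive.ofMul (lam ⟨(b : M ≀ᵣ Q).left q, b.2 q⟩))).symm
    rw [h1, ← Finset.prod_mul_distrib]
    apply Finset.prod_congr rfl
    intro q _
    rw [← map_mul]
    rfl

theorem card_topSub (H : Subgroup M) : Nat.card (topSub H Q) = Nat.card Q * Nat.card H ^ (Nat.card Q) := by
  have e : topSub H Q ≃ Q × (Q → H) :=
    { toFun := fun w => ((w : M ≀ᵣ Q).right, fun q => ⟨(w : M ≀ᵣ Q).left q, w.2 q⟩)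
      invFun := fun y => ⟨⟨fun q => (y.2 q : M), y.1⟩, fun q => (y.2 q).2⟩
      left_inv := fun _ => rfl
      right_inv := fun _ => rfl }
  rw [Nat.card_congr e, Nat.card_prod, Nat.card_fun]

/-- the extension of the diagonal character -/
theorem ind_topLam [DecidableEq Q] (H : Subgroup M) (lam : H →* ℂˣ) (b : base M Q) :
    indFun (topSub H Q) (fun w => (topLam H lam w : ℂ)) b =
      opr (fun _ : Q => indFun H (fun h => (lam h : ℂ))) (baseEquiv M Q b) := by
  classical
  rw [IndFun.indFun_apply]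
  set f : Q → M := (b : M ≀ᵣ Q).left with hf
  have hb : (b : M ≀ᵣ Q) = ⟨f, 1⟩ := by
    apply RegularWreathProduct.ext
    · rfl
    · exact MonoidHom.mem_ker.1 b.2
  have hval : ∀ w : M ≀ᵣ Q, extendByZero (topSub H Q) (fun w => (topLam H lam w : ℂ)) (w⁻¹ * b * w) =
      ∏ q, extendByZero H (fun h => (lam h : ℂ)) ((w.left q)⁻¹ * f q * w.left q) := by
    intro w
    have hleft : ∀ q, (w⁻¹ * (b : M ≀ᵣ Q) * w).left q =
        (w.left (w.right * q))⁻¹ * f (w.right * q) * w.left (w.right * q) := by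
      intro q
      rw [hb]
      simp [mul_assoc]
    have h1 : ∏ q, extendByZero H (fun h => (lam h : ℂ)) ((w.left q)⁻¹ * f q * w.left q) =
        ∏ q, extendByZero H (fun h => (lam h : ℂ)) ((w⁻¹ * (b : M ≀ᵣ Q) * w).left q) := by
      rw [← Equiv.prod_comp (Equiv.mulLeft w.right)]
      apply Finset.prod_congr rfl
      intro q _
      rw [hleft]
      rfl
    rw [h1]
    by_cases h : w⁻¹ * (b : M ≀ᵣ Q) * w ∈ topSub H Q
    · rw [IndFun.extendByZero_mem _ _ h]
      have h2 : ((topLam H lam ⟨w⁻¹ * (b : M ≀ᵣ Q) * w, h⟩ : ℂˣ) : ℂ) =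
          ∏ q, ((lam ⟨(w⁻¹ * (b : M ≀ᵣ Q) * w).left q, h q⟩ : ℂˣ) : ℂ) := by
        simp [topLam]
      rw [h2]
      apply Finset.prod_congr rfl
      intro q _
      rw [IndFun.extendByZero_mem _ _ (h q)]
    · rw [IndFun.extendByZero_not_mem _ _ h]
      have : ∃ q, (w⁻¹ * (b : M ≀ᵣ Q) * w).left q ∉ H := by
        by_contra hc
        push Not at hc
        exact h hc
      obtain ⟨q, hq⟩ := this
      symm
      apply Finset.prod_eq_zero (Finset.mem_univ q)
      exact IndFun.extendByZero_not_mem _ _ hq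
  rw [Finset.sum_congr rfl (fun w _ => hval w)]
  have hsum : ∑ w : M ≀ᵣ Q, ∏ q, extendByZero H (fun h => (lam h : ℂ)) ((w.left q)⁻¹ * f q * w.left q) =
      (Nat.card Q : ℂ) * ∏ q : Q, ∑ m : M, extendByZero H (fun h => (lam h : ℂ)) (m⁻¹ * f q * m) := by
    rw [← (RegularWreathProduct.equivProd M Q).symm.sum_comp, Fintype.sum_prod_type_right]
    have h1 : ∀ y : Q, ∑ x : Q → M, ∏ q, extendByZero H (fun h => (lam h : ℂ))
        ((((RegularWreathProduct.equivProd M Q).symm (x, y)).left q)⁻¹ * f q *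
          ((RegularWreathProduct.equivProd M Q).symm (x, y)).left q) =
        ∏ q : Q, ∑ m : M, extendByZero H (fun h => (lam h : ℂ)) (m⁻¹ * f q * m) := by
      intro y
      exact sum_opr (fun q m => extendByZero H (fun h => (lam h : ℂ)) (m⁻¹ * f q * m))
    rw [Finset.sum_congr rfl (fun y _ => h1 y), Finset.sum_const, Finset.card_univ, nsmul_eq_mul,
      Nat.card_eq_fintype_card]
  rw [hsum, card_topSub, opr]
  have h2 : ∀ q : Q, indFun H (fun h => (lam h : ℂ)) (baseEquiv M Q b q) =
      (Nat.card H : ℂ)⁻¹ * ∑ m : M, extendByZero H (fun h => (lam h : ℂ)) (m⁻¹ * f q * m) := by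
    intro q
    rw [IndFun.indFun_apply]
    rfl
  rw [Finset.prod_congr rfl (fun q _ => h2 q), Finset.prod_mul_distrib, Finset.prod_const, Finset.card_univ,
    Nat.card_eq_fintype_card (α := Q)]
  push_cast
  have h3 : (Fintype.card Q : ℂ) ≠ 0 := by exact_mod_cast Fintype.card_ne_zero
  have h4 : (Nat.card H : ℂ) ≠ 0 := by exact_mod_cast Nat.card_pos.ne'
  rw [mul_inv, inv_pow]
  field_simp

theorem opr_injective [DecidableEq Q] {φ ψ : Q → M → ℂ} (hφ : ∀ q, IsIrrCharacter M (φ q)) (hψ : ∀ q, IsIrrCharacter M (ψ q))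
    (h : opr φ = opr ψ) : φ = ψ := by
  have h1 := classInner_opr φ ψ
  rw [h, (isIrr_opr hψ).classInner_self] at h1
  funext q
  by_contra hne
  have h2 := (hφ q).classInner_eq_zero (hψ q) hne
  rw [Finset.prod_eq_zero (Finset.mem_univ q) h2] at h1
  exact one_ne_zero h1

end Wreath

end Cfsg.Agent.Lib.H76Wreath
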