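import Cfsg.Agent.Lib.H76Wreath

set_option autoImplicit false

/-!
Wreath products of M-groups with groups of prime order, Kaluzhnin-Krasner embedding (helper76), used by S4573.
-/

namespace Cfsg.Agent.Lib.H76Wreath

open scoped ComplexConjugate
open Cfsg Cfsg.Agent.Lib Cfsg.Agent.Lib.CharBasic Cfsg.Agent.Lib.Clifford Cfsg.Agent.Lib.CliffordCorr
open Cfsg.Agent.Lib.H76Mono
open RegularWreathProduct

universe u v

theorem indFun_equiv {G : Type u} [Group G] [Fintype G] {G' : Type v} [Group G'] [Fintype G'] (e : G ≃* G')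
    (H : Subgroup G') (θ : H → ℂ) (g : G) :
    indFun H θ (e g) = indFun (H.comap e.toMonoidHom) (fun h => θ ⟨e h, h.2⟩) g := by
  classical
  rw [IndFun.indFun_apply, IndFun.indFun_apply]
  have hcard : Nat.card (H.comap e.toMonoidHom) = Nat.card H :=
    Nat.card_congr
      { toFun := fun h => ⟨e h, h.2⟩
        invFun := fun h => ⟨e.symm h, by rw [Subgroup.mem_comap]; simp⟩
        left_inv := fun h => Subtype.ext (by simp)
        right_inv := fun h => Subtype.ext (by simp) }
  rw [hcard]
  congr 1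
  rw [← e.toEquiv.sum_comp]
  apply Finset.sum_congr rfl
  intro x _
  have h1 : (e.toEquiv x)⁻¹ * e g * e.toEquiv x = e (x⁻¹ * g * x) := by
    rw [map_mul, map_mul, map_inv]; rfl
  rw [h1]
  by_cases h : e (x⁻¹ * g * x) ∈ H
  · have h' : x⁻¹ * g * x ∈ H.comap e.toMonoidHom := h
    rw [IndFun.extendByZero_mem _ _ h, IndFun.extendByZero_mem _ _ h']
  · have h' : x⁻¹ * g * x ∉ H.comap e.toMonoidHom := h
    rw [IndFun.extendByZero_not_mem _ _ h, IndFun.extendByZero_not_mem _ _ h']

theorem MGroup.equiv {G : Type u} [Group G] [Fintype G] {G' : Type v} [Group G'] [Fintype G'] (e : G ≃* G')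
    (h : MGroup G') : MGroup G := by
  intro χ hχ
  have h1 : IsIrrCharacter G' (fun g => χ (e.symm g)) := (isIrrCharacter_comp_mulEquiv_iff e.symm).2 hχ
  obtain ⟨H, lam, hlam⟩ := h _ h1
  refine ⟨H.comap e.toMonoidHom, lam.comp
    { toFun := fun h => ⟨e h, h.2⟩
      map_one' := Subtype.ext (map_one e)
      map_mul' := fun a b => Subtype.ext (map_mul e _ _) }, ?_⟩
  funext g
  have h2 := indFun_equiv e H (fun h => (lam h : ℂ)) g
  rw [← hlam] at h2
  simp only [MulEquiv.symm_apply_apply] at h2
  exact h2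

theorem mgroup_wreath {M : Type u} [Group M] [Fintype M] {Q : Type v} [Group Q] [Fintype Q] (hM : MGroup M)
    (hQ : (Nat.card Q).Prime) : MGroup (M ≀ᵣ Q) := by
  classical
  have : Fintype (base M Q) := Fintype.ofFinite _
  apply mgroup_of_prime_index (base M Q) (by rw [index_base]; exact hQ)
  · exact MGroup.equiv (baseEquiv M Q) (mgroup_pi hM)
  · intro θ hθ hinv
    have h1 : IsIrrCharacter (Q → M) (fun f => θ ((baseEquiv M Q).symm f)) :=
      (isIrrCharacter_comp_mulEquiv_iff (baseEquiv M Q).symm).2 hθ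
    obtain ⟨φ, hφ, hθφ⟩ := exists_opr h1
    have hθ' : ∀ b : base M Q, θ b = opr φ (baseEquiv M Q b) := by
      intro b
      rw [← hθφ]
      simp
    -- invariance
    have hshift : ∀ r : Q, (fun q => φ (r * q)) = φ := by
      intro r
      apply opr_injective (fun q => hφ _) hφ
      funext f
      let b : base M Q := (baseEquiv M Q).symm f
      have h2 := congrFun (hinv (inl r)) b
      rw [cj_apply, hθ', hθ'] at h2
      have h3 : baseEquiv M Q b = f := by simp [b]
      have h4 : ∀ q, baseEquiv M Q ⟨(inl r : M ≀ᵣ Q) * b * (inl r : M ≀ᵣ Q)⁻¹,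
          (inferInstance : (base M Q).Normal).conj_mem _ b.2 _⟩ q = f (r⁻¹ * q) := by
        intro q
        show ((inl r : M ≀ᵣ Q) * b * (inl r : M ≀ᵣ Q)⁻¹).left q = _
        have h5 : (b : M ≀ᵣ Q) = ⟨f, 1⟩ := rfl
        rw [h5]
        simp
      rw [h3] at h2
      rw [← h2]
      simp only [opr]
      conv_rhs => rw [← Equiv.prod_comp (Equiv.mulLeft r)]
      apply Finset.prod_congr rfl
      intro q _
      rw [h4]
      simp
    have hφ1 : ∀ q, φ q = φ 1 := by
      intro q
      have := congrFun (hshift q) 1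
      simpa using this
    obtain ⟨H, lam, hlam⟩ := hM (φ 1) (hφ 1)
    have hres : ∀ b : base M Q, indFun (topSub H Q) (fun w => (topLam H lam w : ℂ)) b = θ b := by
      intro b
      rw [ind_topLam, hθ', ← hlam]
      congr 1
      funext q
      exact (hφ1 q).symm
    have hc : IsCharacter (M ≀ᵣ Q) (indFun (topSub H Q) (fun w => (topLam H lam w : ℂ))) :=
      (isCharacter_of_unitsHom (topLam H lam)).indFun _
    refine ⟨_, hc.isIrr_of_restrict (base M Q) ?_, ⟨topSub H Q, topLam H lam, rfl⟩, hres⟩
    have : (fun b : base M Q => indFun (topSub H Q) (fun w => (topLam H lam w : ℂ)) b) = θ := funext hres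
    rw [this]
    exact hθ

/-- Kaluzhnin--Krasner -/
theorem krasner {G : Type u} [Group G] (N : Subgroup G) [hN : N.Normal] :
    ∃ f : G →* N ≀ᵣ (G ⧸ N), Function.Injective f := by
  let s : G ⧸ N → G := Quotient.out
  have hs : ∀ x : G ⧸ N, ((s x : G) : G ⧸ N) = x := fun x => QuotientGroup.out_eq' x
  have hmem : ∀ (g : G) (x : G ⧸ N), (s x)⁻¹ * g * s ((g : G ⧸ N)⁻¹ * x) ∈ N := by
    intro g x
    rw [← QuotientGroup.eq_one_iff, QuotientGroup.mk_mul, QuotientGroup.mk_mul, QuotientGroup.mk_inv, hs, hs]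
    group
  let f : G →* N ≀ᵣ (G ⧸ N) :=
    { toFun := fun g => ⟨fun x => ⟨(s x)⁻¹ * g * s ((g : G ⧸ N)⁻¹ * x), hmem g x⟩, (g : G ⧸ N)⟩
      map_one' := by
        apply RegularWreathProduct.ext
        · funext x
          apply Subtype.ext
          simp
        · rfl
      map_mul' := fun a b => by
        apply RegularWreathProduct.ext
        · funext x
          apply Subtype.ext
          rw [mul_left]
          simp only [Pi.mul_apply, Subgroup.coe_mul]
          have h1 : (((a * b : G)) : G ⧸ N)⁻¹ * x = (b : G ⧸ N)⁻¹ * ((a : G ⧸ N)⁻¹ * x) := by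
            rw [QuotientGroup.mk_mul]; group
          rw [h1]
          group
        · rfl }
  refine ⟨f, ?_⟩
  rw [injective_iff_map_eq_one]
  intro g hg
  have h1 : (g : G ⧸ N) = 1 := congrArg RegularWreathProduct.right hg
  have h2 : ((f g).left 1 : G) = 1 := by rw [hg]; rfl
  have h3 : (s 1)⁻¹ * g * s ((g : G ⧸ N)⁻¹ * 1) = 1 := h2
  rw [h1, inv_one, one_mul] at h3
  have h4 : g = s 1 * ((s 1)⁻¹ * g * s 1) * (s 1)⁻¹ := by group
  rw [h4, h3]
  group

/-- functoriality of the wreath product in the base -/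
theorem wreath_map {M N : Type u} [Group M] [Group N] {Q : Type v} [Group Q] (j : N →* M) (hj : Function.Injective j) :
    ∃ f : N ≀ᵣ Q →* M ≀ᵣ Q, Function.Injective f := by
  let f : N ≀ᵣ Q →* M ≀ᵣ Q :=
    { toFun := fun w => ⟨fun q => j (w.left q), w.right⟩
      map_one' := by
        apply RegularWreathProduct.ext
        · funext q; simp
        · rfl
      map_mul' := fun a b => by
        apply RegularWreathProduct.ext
        · funext q; simp
        · rfl }
  refine ⟨f, fun a b hab => ?_⟩
  apply RegularWreathProduct.ext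
  · funext q
    apply hj
    exact congrFun (congrArg RegularWreathProduct.left hab) q
  · show (f a).right = (f b).right
    rw [hab]

end Cfsg.Agent.Lib.H76Wreath
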