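import Mathlib
import Cfsg.Agent.Lib.H70MT_D

/-! S4220, piece MT-9 (helper77, backup) -/

set_option autoImplicit false
set_option linter.all false
set_option maxRecDepth 100000
set_option maxHeartbeats 4000000

namespace Cfsg.Agent.Lib.H77MT9

open Equiv Equiv.Perm MulAction

/-- three-cycle or double transposition -/
def bad (w : Perm (Fin 9)) : Prop := w.support.card = 3 ∨ (w * w = 1 ∧ w.support.card = 4)

instance (w : Perm (Fin 9)) : Decidable (bad w) := by unfold bad; infer_instance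

theorem bad_mem (G : Subgroup (Perm (Fin 9))) (hG : IsMultiplyPretransitive G (Fin 9) 4) {w : Perm (Fin 9)} (hw : w ∈ G)
    (h : bad w) : alternatingGroup (Fin 9) ≤ G := by
  rcases h with h | ⟨h1, h2⟩
  · haveI : IsMultiplyPretransitive G (Fin 9) 4 := hG
    have h2t : IsMultiplyPretransitive G (Fin 9) 2 := isMultiplyPretransitive_of_le (n := 4) (by norm_num) (by simp)
    have hpre : IsPreprimitive G (Fin 9) := isPreprimitive_of_is_two_pretransitive h2t
    exact alternatingGroup_le_of_isPreprimitive_of_isThreeCycle_mem hpre (card_support_eq_three_iff.1 h) hw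
  · have hww : ∀ z, w (w z) = z := fun z => by
      have := congrArg (fun f : Perm (Fin 9) => f z) h1
      simpa using this
    obtain ⟨a, ha⟩ : w.support.Nonempty := by rw [← Finset.card_pos, h2]; norm_num
    have hwa : w a ≠ a := Perm.mem_support.1 ha
    have hwas : w a ∈ w.support := Perm.apply_mem_support.2 ha
    obtain ⟨c, hc⟩ : ((w.support.erase a).erase (w a)).Nonempty := by
      rw [← Finset.card_pos, Finset.card_erase_of_mem (Finset.mem_erase.2 ⟨hwa, hwas⟩), Finset.card_erase_of_mem ha, h2]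
      norm_num
    rw [Finset.mem_erase, Finset.mem_erase] at hc
    obtain ⟨hca', hca, hcs⟩ := hc
    have hwc : w c ≠ c := Perm.mem_support.1 hcs
    have hwcs : w c ∈ w.support := Perm.apply_mem_support.2 hcs
    have hwca : w c ≠ a := fun h => hca' (by rw [← h, hww])
    have hwcwa : w c ≠ w a := fun h => hca (w.injective h)
    have hS : w.support = {a, w a, c, w c} := by
      symm
      apply Finset.eq_of_subset_of_card_le
      · intro z hz
        simp only [Finset.mem_insert, Finset.mem_singleton] at hz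
        rcases hz with rfl | rfl | rfl | rfl
        · exact ha
        · exact hwas
        · exact hcs
        · exact hwcs
      · rw [h2, Finset.card_insert_of_notMem, Finset.card_insert_of_notMem, Finset.card_pair (Ne.symm hwc)]
        · simp only [Finset.mem_insert, Finset.mem_singleton, not_or]
          exact ⟨Ne.symm hca', Ne.symm hwcwa⟩
        · simp only [Finset.mem_insert, Finset.mem_singleton, not_or]
          exact ⟨Ne.symm hwa, Ne.symm hca, Ne.symm hwca⟩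
    have hweq : w = swap a (w a) * swap c (w c) := by
      apply Equiv.ext
      intro z
      rw [Perm.mul_apply]
      by_cases hz : z ∈ w.support
      · rw [hS] at hz
        simp only [Finset.mem_insert, Finset.mem_singleton] at hz
        rcases hz with h | h | h | h
        · rw [h, swap_apply_of_ne_of_ne (Ne.symm hca) (Ne.symm hwca), swap_apply_left]
        · rw [h, swap_apply_of_ne_of_ne (Ne.symm hca') (Ne.symm hwcwa), swap_apply_right, hww]
        · rw [h, swap_apply_left, swap_apply_of_ne_of_ne hwca hwcwa]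
        · rw [h, swap_apply_right, swap_apply_of_ne_of_ne hca hca', hww]
      · have hz' : w z = z := Perm.notMem_support.1 hz
        rw [hS] at hz
        simp only [Finset.mem_insert, Finset.mem_singleton, not_or] at hz
        rw [hz', swap_apply_of_ne_of_ne hz.2.2.1 hz.2.2.2, swap_apply_of_ne_of_ne hz.1 hz.2.1]
    exact Cfsg.Agent.Lib.H70MT_D.dbl G hG (by simp) a (w a) c (w c) (Ne.symm hwa) (Ne.symm hca) (Ne.symm hwca)
      (Ne.symm hca') (Ne.symm hwcwa) (Ne.symm hwc) (by rw [← hweq]; exact hw)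

def X : Perm (Fin 9) := swap 0 1 * swap 1 2 * (swap 3 4 * swap 4 5)
/-- `(0 1 3)(2 a b)` -/
def Vv (a b : Fin 9) : Perm (Fin 9) := swap 0 1 * swap 1 3 * (swap 2 a * swap a b)
/-- `(1 0 3)(2 a b)` -/
def Wv (a b : Fin 9) : Perm (Fin 9) := swap 1 0 * swap 0 3 * (swap 2 a * swap a b)
/-- `(1 0 2)(3 c d)` -/
def Yv (c d : Fin 9) : Perm (Fin 9) := swap 1 0 * swap 0 2 * (swap 3 c * swap c d)
/-- `(0 2 1)(3 c d)` -/
def Yv' (c d : Fin 9) : Perm (Fin 9) := swap 0 2 * swap 2 1 * (swap 3 c * swap c d)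
/-- `(0 2 3)(1 a b)` -/
def Zv (a b : Fin 9) : Perm (Fin 9) := swap 0 2 * swap 2 3 * (swap 1 a * swap a b)

/-- the value is not in `{0,1,2,3}` -/
def Ou (a : Fin 9) : Prop := 4 ≤ a.val
instance (a : Fin 9) : Decidable (Ou a) := by unfold Ou; infer_instance

theorem c2 : ∀ c d : Fin 9, Ou c → Ou d → c ≠ d → bad (X * Yv c d) ∨ bad ((X * (X * Yv c d)) ^ 5) ∨ (c = 5 ∧ d = 4) := by
  decide +kernel

theorem c2' : ∀ c d : Fin 9, Ou c → Ou d → c ≠ d → bad (X * Yv' c d) ∨ bad ((X * (X * Yv' c d)) ^ 5) ∨ (c = 5 ∧ d = 4) := by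
  decide +kernel

theorem c3 : ∀ a b a' b' : Fin 9, Ou a → Ou b → a ≠ b → Ou a' → Ou b' → a' ≠ b' → (a = 4 ↔ a' = 5) → (a = 5 ↔ a' = 4) →
    (b = 4 ↔ b' = 5) → (b = 5 ↔ b' = 4) →
    bad (X * Wv a' b') ∨ bad ((X * Wv a' b') ^ 2) ∨ bad (X * Vv a b * X * Wv a' b') ∨ bad (Vv a b * Wv a' b') ∨
      bad ((Wv a' b' * (Vv a b)⁻¹) ^ 5) ∨ (6 ≤ a.val ∧ 6 ≤ b.val) := by
  decide +kernel

theorem c4 : ∀ a b a' b' : Fin 9, 6 ≤ a.val → 6 ≤ b.val → a ≠ b → 6 ≤ a'.val → 6 ≤ b'.val → a' ≠ b' →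
    bad ((X * Vv a b * (Zv a' b')⁻¹) ^ 5) ∨ bad ((Vv a b * (Zv a' b')⁻¹) ^ 2) ∨ bad (Vv a b * (Zv a' b')⁻¹) ∨
      bad ((X * (Vv a b)⁻¹ * Zv a' b') ^ 2) := by
  decide +kernel

theorem conjswap (g : Perm (Fin 9)) (u v : Fin 9) : g * swap u v * g⁻¹ = swap (g u) (g v) := by
  rw [Equiv.mul_swap_eq_swap_mul, mul_inv_cancel_right]

theorem conj4 (g : Perm (Fin 9)) (a b c d e f : Fin 9) :
    g * (swap a b * swap b c * (swap d e * swap e f)) * g⁻¹ =
      swap (g a) (g b) * swap (g b) (g c) * (swap (g d) (g e) * swap (g e) (g f)) := by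
  rw [← conjswap g a b, ← conjswap g b c, ← conjswap g d e, ← conjswap g e f]
  group

theorem ou_of {g : Perm (Fin 9)} {a b c d z : Fin 9} (ha : g a = 0 ∨ g b = 0 ∨ g c = 0 ∨ g d = 0)
    (hb : g a = 1 ∨ g b = 1 ∨ g c = 1 ∨ g d = 1) (hc : g a = 2 ∨ g b = 2 ∨ g c = 2 ∨ g d = 2)
    (hd : g a = 3 ∨ g b = 3 ∨ g c = 3 ∨ g d = 3) (h1 : z ≠ a) (h2 : z ≠ b) (h3 : z ≠ c) (h4 : z ≠ d) : Ou (g z) := by
  have key : ∀ w : Fin 9, (g a = w ∨ g b = w ∨ g c = w ∨ g d = w) → g z ≠ w := by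
    rintro w (h | h | h | h) hz
    · exact h1 (g.injective (hz.trans h.symm))
    · exact h2 (g.injective (hz.trans h.symm))
    · exact h3 (g.injective (hz.trans h.symm))
    · exact h4 (g.injective (hz.trans h.symm))
  have k0 := key 0 ha
  have k1 := key 1 hb
  have k2 := key 2 hc
  have k3 := key 3 hd
  have : ∀ w : Fin 9, w ≠ 0 → w ≠ 1 → w ≠ 2 → w ≠ 3 → Ou w := by decide
  exact this _ k0 k1 k2 k3

theorem nine (G : Subgroup (Perm (Fin 9))) (hG : MulAction.IsMultiplyPretransitive G (Fin 9) 4)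
    (h : swap (0 : Fin 9) 1 * swap 1 2 * (swap 3 4 * swap 4 5) ∈ G) : alternatingGroup (Fin 9) ≤ G := by
  have B : ∀ {w : Perm (Fin 9)}, w ∈ G → bad w → alternatingGroup (Fin 9) ≤ G := fun hw hb => bad_mem G hG hw hb
  have ex : ∀ (a b c d : Fin 9), Function.Injective (![a, b, c, d] : Fin 4 → Fin 9) →
      ∃ g ∈ G, g 0 = a ∧ g 1 = b ∧ g 2 = c ∧ g 3 = d := by
    intro a b c d hi
    obtain ⟨g, hg⟩ := hG.exists_smul_eq (⟨![0, 1, 2, 3], by decide⟩ : Fin 4 ↪ Fin 9) ⟨![a, b, c, d], hi⟩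
    have hgx : ∀ i, (g : Perm (Fin 9)) (![0, 1, 2, 3] i) = ![a, b, c, d] i := fun i => by
      have := congrArg (fun f : Fin 4 ↪ Fin 9 => f i) hg
      exact this
    exact ⟨g, g.2, hgx 0, hgx 1, hgx 2, hgx 3⟩
  have hX : X ∈ G := h
  -- g
  obtain ⟨g, hgG, g0, g1, g2, g3⟩ := ex 1 0 2 3 (by decide)
  have ouG : ∀ z : Fin 9, z ≠ 0 → z ≠ 1 → z ≠ 2 → z ≠ 3 → Ou (g z) := fun z h0 h1 h2 h3 =>
    ou_of (a := 0) (b := 1) (c := 2) (d := 3) (Or.inr (Or.inl g1)) (Or.inl g0) (Or.inr (Or.inr (Or.inl g2))) (Or.inr (Or.inr (Or.inr g3)))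
      h0 h1 h2 h3
  have hY : Yv (g 4) (g 5) ∈ G := by
    have h1 := G.mul_mem (G.mul_mem hgG h) (G.inv_mem hgG)
    rw [conj4, g0, g1, g2, g3] at h1
    exact h1
  rcases c2 (g 4) (g 5) (ouG 4 (by decide) (by decide) (by decide) (by decide)) (ouG 5 (by decide) (by decide) (by decide) (by decide))
      (fun h1 => absurd (g.injective h1) (by decide)) with h1 | h1 | ⟨g4, g5⟩
  · exact B (G.mul_mem hX hY) h1
  · exact B (G.pow_mem (G.mul_mem hX (G.mul_mem hX hY)) 5) h1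
  -- h
  obtain ⟨k, hkG, k0, k1, k2, k3⟩ := ex 0 2 1 3 (by decide)
  have ouK : ∀ z : Fin 9, z ≠ 0 → z ≠ 1 → z ≠ 2 → z ≠ 3 → Ou (k z) := fun z h0 h1 h2 h3 =>
    ou_of (a := 0) (b := 1) (c := 2) (d := 3) (Or.inl k0) (Or.inr (Or.inr (Or.inl k2))) (Or.inr (Or.inl k1)) (Or.inr (Or.inr (Or.inr k3)))
      h0 h1 h2 h3
  have hY' : Yv' (k 4) (k 5) ∈ G := by
    have h1 := G.mul_mem (G.mul_mem hkG h) (G.inv_mem hkG)
    rw [conj4, k0, k1, k2, k3] at h1
    exact h1
  rcases c2' (k 4) (k 5) (ouK 4 (by decide) (by decide) (by decide) (by decide)) (ouK 5 (by decide) (by decide) (by decide) (by decide))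
      (fun h1 => absurd (k.injective h1) (by decide)) with h1 | h1 | ⟨k4, k5⟩
  · exact B (G.mul_mem hX hY') h1
  · exact B (G.pow_mem (G.mul_mem hX (G.mul_mem hX hY')) 5) h1
  -- v
  obtain ⟨l, hlG, l0, l1, l2, l3⟩ := ex 0 1 3 2 (by decide)
  have ouL : ∀ z : Fin 9, z ≠ 0 → z ≠ 1 → z ≠ 2 → z ≠ 3 → Ou (l z) := fun z h0 h1 h2 h3 =>
    ou_of (a := 0) (b := 1) (c := 2) (d := 3) (Or.inl l0) (Or.inr (Or.inl l1)) (Or.inr (Or.inr (Or.inr l3))) (Or.inr (Or.inr (Or.inl l2)))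
      h0 h1 h2 h3
  have hV : Vv (l 4) (l 5) ∈ G := by
    have h1 := G.mul_mem (G.mul_mem hlG h) (G.inv_mem hlG)
    rw [conj4, l0, l1, l2, l3] at h1
    exact h1
  obtain ⟨a, ha⟩ : ∃ a, a = l 4 := ⟨_, rfl⟩
  obtain ⟨b, hb⟩ : ∃ b, b = l 5 := ⟨_, rfl⟩
  have oa : Ou a := by rw [ha]; exact ouL 4 (by decide) (by decide) (by decide) (by decide)
  have ob : Ou b := by rw [hb]; exact ouL 5 (by decide) (by decide) (by decide) (by decide)
  have hab : a ≠ b := by
    rw [ha, hb]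
    exact fun h1 => absurd (l.injective h1) (by decide)
  rw [← ha, ← hb] at hV
  have ou0 : ∀ w : Fin 9, Ou w → w ≠ 0 ∧ w ≠ 1 ∧ w ≠ 2 ∧ w ≠ 3 := by decide
  have oga : ∀ z, Ou z → Ou (g z) := fun z hz => ouG z (ou0 z hz).1 (ou0 z hz).2.1 (ou0 z hz).2.2.1 (ou0 z hz).2.2.2
  have oka : ∀ z, Ou z → Ou (k z) := fun z hz => ouK z (ou0 z hz).1 (ou0 z hz).2.1 (ou0 z hz).2.2.1 (ou0 z hz).2.2.2
  have iff4 : ∀ (g : Perm (Fin 9)), g 4 = 5 → ∀ z, (z = 4 ↔ g z = 5) := by
    intro g g4 z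
    constructor
    · rintro rfl; exact g4
    · intro h1; exact g.injective (h1.trans g4.symm)
  have iff5 : ∀ (g : Perm (Fin 9)), g 5 = 4 → ∀ z, (z = 5 ↔ g z = 4) := by
    intro g g4 z
    constructor
    · rintro rfl; exact g4
    · intro h1; exact g.injective (h1.trans g4.symm)
  have hW : Wv (g a) (g b) ∈ G := by
    have h1 := G.mul_mem (G.mul_mem hgG hV) (G.inv_mem hgG)
    rw [Vv, conj4, g0, g1, g2, g3] at h1
    exact h1
  rcases c3 a b (g a) (g b) oa ob hab (oga a oa) (oga b ob) (fun h1 => hab (g.injective h1)) (iff4 g g4 a) (iff5 g g5 a)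
    (iff4 g g4 b) (iff5 g g5 b) with h1 | h1 | h1 | h1 | h1 | ⟨a6, b6⟩
  · exact B (G.mul_mem hX hW) h1
  · exact B (G.pow_mem (G.mul_mem hX hW) 2) h1
  · exact B (G.mul_mem (G.mul_mem (G.mul_mem hX hV) hX) hW) h1
  · exact B (G.mul_mem hV hW) h1
  · exact B (G.pow_mem (G.mul_mem hW (G.inv_mem hV)) 5) h1
  · have hZ : Zv (k a) (k b) ∈ G := by
      have h1 := G.mul_mem (G.mul_mem hkG hV) (G.inv_mem hkG)
      rw [Vv, conj4, k0, k1, k2, k3] at h1
      exact h1
    have six : ∀ w : Fin 9, Ou w → w ≠ 5 → w ≠ 4 → 6 ≤ w.val := by decide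
    have ka6 : ∀ z : Fin 9, 6 ≤ z.val → Ou z → 6 ≤ (k z).val := by
      intro z hz hz'
      apply six _ (oka z hz')
      · intro h1
        have := (iff4 k k4 z).2 h1
        rw [this] at hz
        revert hz; decide
      · intro h1
        have := (iff5 k k5 z).2 h1
        rw [this] at hz
        revert hz; decide
    rcases c4 a b (k a) (k b) a6 b6 hab (ka6 a a6 oa) (ka6 b b6 ob) (fun h1 => hab (k.injective h1)) with h1 | h1 | h1 | h1
    · exact B (G.pow_mem (G.mul_mem (G.mul_mem hX hV) (G.inv_mem hZ)) 5) h1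
    · exact B (G.pow_mem (G.mul_mem hV (G.inv_mem hZ)) 2) h1
    · exact B (G.mul_mem hV (G.inv_mem hZ)) h1
    · exact B (G.pow_mem (G.mul_mem (G.mul_mem hX (G.inv_mem hV)) hZ) 2) h1

end Cfsg.Agent.Lib.H77MT9
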