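import Cfsg.Agent.Lib.RealOdd
import Cfsg.Agent.Lib.CliffordCorr
import Cfsg.Agent.Lib.LinChar
import Cfsg.Agent.Lib.RelSylow
import Cfsg.Agent.Lib.AbelianCoprime
import Cfsg.Agent.Lib.BlockDeg

/-!
# Real characters over inverted linear characters (helper81)
-/

set_option autoImplicit false
set_option linter.unusedSectionVars false

namespace Cfsg.Agent.Lib.H81Real1

open scoped ComplexConjugate
open Cfsg Cfsg.Agent.Lib.CharBasic Cfsg.Agent.Lib.Clifford Cfsg.Agent.Lib.CliffordCorr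
open Cfsg.Agent.Lib.FrobSchur Cfsg.Agent.Lib.RealOdd Cfsg.Agent.Lib.RelSylow
open Cfsg.Agent.Lib.PermLemma
open Subgroup

universe u

variable {G : Type u} [Group G]

section Hom

variable (M : Subgroup G) [hM : M.Normal]

/-- conjugate of a linear character -/
def cjh (g : G) (lam : M →* ℂˣ) : M →* ℂˣ := lam.comp (MulAut.conjNormal g).toMonoidHom

variable {M}

theorem cjh_apply (g : G) (lam : M →* ℂˣ) (m : M) :
    cjh M g lam m = lam ⟨g * m * g⁻¹, hM.conj_mem (m : G) m.2 g⟩ := by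
  have : MulAut.conjNormal g m = (⟨g * m * g⁻¹, hM.conj_mem (m : G) m.2 g⟩ : M) :=
    Subtype.ext (MulAut.conjNormal_apply g m)
  show lam (MulAut.conjNormal g m) = _
  rw [this]

theorem cjh_cjh (g h : G) (lam : M →* ℂˣ) : cjh M g (cjh M h lam) = cjh M (h * g) lam := by
  ext m
  rw [cjh_apply, cjh_apply, cjh_apply]
  congr 3
  rw [mul_inv_rev]
  simp only [mul_assoc]

theorem cjh_inv (g : G) (lam : M →* ℂˣ) : cjh M g lam⁻¹ = (cjh M g lam)⁻¹ := by
  ext m
  rfl

theorem cjh_mul (g : G) (lam mu : M →* ℂˣ) : cjh M g (lam * mu) = cjh M g lam * cjh M g mu := by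
  ext m
  rfl

theorem cjh_one' (g : G) : cjh M g 1 = 1 := by
  ext m
  rfl

theorem cjh_id (lam : M →* ℂˣ) : cjh M 1 lam = lam := by
  ext m
  rw [cjh_apply]
  congr 2
  apply Subtype.ext
  simp

/-- the complex-valued function of a linear character -/
def fn (lam : M →* ℂˣ) : M → ℂ := fun m => (lam m : ℂ)

theorem fn_inj {lam mu : M →* ℂˣ} (h : fn lam = fn mu) : lam = mu := by
  ext m
  exact congrFun h m

theorem isIrr_fn (lam : M →* ℂˣ) : IsIrrCharacter M (fn lam) := isIrrCharacter_of_unitsHom lam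

theorem fn_cjh (g : G) (lam : M →* ℂˣ) : fn (cjh M g lam) = cj M g (fn lam) := by
  funext m
  rw [cj_apply]
  show ((cjh M g lam m : ℂˣ) : ℂ) = ((lam _ : ℂˣ) : ℂ)
  rw [cjh_apply]

theorem fn_one (lam : M →* ℂˣ) : fn lam 1 = 1 := by
  show ((lam 1 : ℂˣ) : ℂ) = 1
  rw [map_one, Units.val_one]

theorem mem_inertia_fn {lam : M →* ℂˣ} {g : G} : g ∈ inertia M (fn lam) ↔ cjh M g lam = lam := by
  rw [mem_inertia, ← fn_cjh]
  exact ⟨fun h => fn_inj h, fun h => by rw [h]⟩

theorem fn_inv [Finite G] (lam : M →* ℂˣ) : fn lam⁻¹ = fun m => conj (fn lam m) := by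
  funext m
  show ((lam⁻¹ m : ℂˣ) : ℂ) = conj ((lam m : ℂˣ) : ℂ)
  rw [LinChar.conj_coe]
  rfl

/-- A `2`-element acting non-trivially on an abelian normal subgroup inverts some non-trivial
linear character. -/
theorem exists_inverted [Finite G] (hab : ∀ a b : M, a * b = b * a) (k : ℕ) :
    ∀ t : G, t ^ 2 ^ k ∈ centralizer (M : Set G) → t ∉ centralizer (M : Set G) →
      ∃ (s : G) (lam : M →* ℂˣ), lam ≠ 1 ∧ cjh M s lam = lam⁻¹ := by
  induction k with
  | zero =>
    intro t h1 h2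
    rw [pow_zero, pow_one] at h1
    exact absurd h1 h2
  | succ k ih =>
    intro t h1 h2
    by_cases h3 : t ^ 2 ∈ centralizer (M : Set G)
    · have h4 : ∃ m : M, (t * m * t⁻¹ : G) ≠ m := by
        by_contra hcon
        push Not at hcon
        apply h2
        rw [mem_centralizer_iff]
        intro m hm
        have := hcon ⟨m, hm⟩
        have h5 : t * m = m * t := by
          have := congrArg (· * t) this
          simpa [mul_assoc] using this
        exact h5.symm
      obtain ⟨m, hm⟩ := h4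
      have h5 : (⟨t * m * t⁻¹, hM.conj_mem (m : G) m.2 t⟩ : M) * m⁻¹ ≠ 1 := by
        intro h6
        apply hm
        have := congrArg (Subtype.val) (mul_inv_eq_one.mp h6)
        exact this
      obtain ⟨lam, hlam⟩ := LinChar.exists_ne_one hab h5
      refine ⟨t, cjh M t lam * lam⁻¹, ?_, ?_⟩
      · intro h6
        apply hlam
        have h7 := DFunLike.congr_fun h6 m
        rw [MonoidHom.mul_apply, MonoidHom.inv_apply, cjh_apply, MonoidHom.one_apply] at h7
        rw [map_mul, map_inv]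
        exact h7
      · have h6 : cjh M (t * t) lam = lam := by
          ext x
          rw [cjh_apply]
          congr 2
          apply Subtype.ext
          show t * t * (x : G) * (t * t)⁻¹ = x
          rw [← pow_two, ← (mem_centralizer_iff.mp h3) x x.2, mul_assoc, mul_inv_cancel, mul_one]
        rw [cjh_mul, cjh_cjh, cjh_inv, h6]
        ext x
        simp [mul_comm]
    · apply ih (t ^ 2) _ h3
      rw [← pow_mul, ← pow_succ']
      exact h1

theorem inv_inv_hom (lam : M →* ℂˣ) : (lam⁻¹)⁻¹ = lam := by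
  ext m
  simp

theorem cjh_inv_of_inverted {lam : M →* ℂˣ} {s : G} (hs : cjh M s lam = lam⁻¹) :
    cjh M s⁻¹ lam = lam⁻¹ := by
  have h1 : cjh M s⁻¹ (cjh M s lam) = lam := by
    rw [cjh_cjh, mul_inv_cancel, cjh_id]
  rw [hs, cjh_inv] at h1
  rw [← inv_inv_hom (cjh M s⁻¹ lam), h1]

theorem conj_mem_inertia {lam : M →* ℂˣ} {s : G} (hs : cjh M s lam = lam⁻¹) {g : G}
    (hg : g ∈ inertia M (fn lam)) : s * g * s⁻¹ ∈ inertia M (fn lam) := by
  rw [mem_inertia_fn] at hg ⊢
  rw [← cjh_cjh, ← cjh_cjh, hs, cjh_inv, hg, cjh_inv, cjh_inv_of_inverted hs, inv_inv_hom]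

theorem mem_normalizer_inertia {lam : M →* ℂˣ} {s : G} (hs : cjh M s lam = lam⁻¹) :
    s ∈ normalizer (inertia M (fn lam) : Set G) := by
  rw [mem_normalizer_iff]
  intro g
  constructor
  · exact fun h => conj_mem_inertia hs h
  · intro h
    have := conj_mem_inertia (cjh_inv_of_inverted hs) h
    have h2 : s⁻¹ * (s * g * s⁻¹) * s⁻¹⁻¹ = g := by group
    rwa [h2] at this

/-- Extension of a linear character to a semidirect product with a stabilizing subgroup. -/
theorem exists_ext (R : Subgroup G) (hMR : M ⊓ R = ⊥) {lam : M →* ℂˣ}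
    (hR : R ≤ inertia M (fn lam)) :
    ∃ mu : ↥(M ⊔ R) →* ℂˣ, ∀ (x : ↥(M ⊔ R)) (m : M) (r : G), r ∈ R → (x : G) = m * r →
      mu x = lam m := by
  classical
  have hex : ∀ x : ↥(M ⊔ R), ∃ m : M, ∃ r ∈ R, (x : G) = m * r := by
    intro x
    obtain ⟨m, hm, r, hr, h⟩ := mem_sup_of_normal_left.mp x.2
    exact ⟨⟨m, hm⟩, r, hr, h.symm⟩
  have huniq : ∀ (m m' : M) (r r' : G), r ∈ R → r' ∈ R → (m : G) * r = m' * r' → m = m' := by
    intro m m' r r' hr hr' h
    have h1 : (m' : G)⁻¹ * m = r' * r⁻¹ := by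
      have : (m' : G)⁻¹ * (m * r) * r⁻¹ = (m' : G)⁻¹ * (m' * r') * r⁻¹ := by rw [h]
      simpa [mul_assoc] using this
    have h2 : (m' : G)⁻¹ * m ∈ M ⊓ R :=
      ⟨M.mul_mem (M.inv_mem m'.2) m.2, by rw [h1]; exact R.mul_mem hr' (R.inv_mem hr)⟩
    rw [hMR, mem_bot] at h2
    exact Subtype.ext (inv_mul_eq_one.mp h2).symm
  choose c r hr hcr using hex
  have hlam : ∀ (r : G), r ∈ R → ∀ m : M,
      lam ⟨r * m * r⁻¹, hM.conj_mem (m : G) m.2 r⟩ = lam m := by
    intro r hr m
    have := DFunLike.congr_fun (mem_inertia_fn.mp (hR hr)) m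
    rw [cjh_apply] at this
    exact this
  refine ⟨MonoidHom.mk' (fun x => lam (c x)) ?_, ?_⟩
  · intro x y
    show lam (c (x * y)) = lam (c x) * lam (c y)
    have h1 : c (x * y) = c x * ⟨r x * c y * (r x)⁻¹, hM.conj_mem (c y : G) (c y).2 (r x)⟩ := by
      apply huniq _ _ (r (x * y)) (r x * r y) (hr _) (R.mul_mem (hr _) (hr _))
      rw [← hcr (x * y)]
      show (x : G) * y = (c x : G) * (r x * c y * (r x)⁻¹) * (r x * r y)
      conv_lhs => rw [hcr x, hcr y]
      group
    rw [h1, map_mul, hlam _ (hr x)]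
  · intro x m s hs hx
    show lam (c x) = lam m
    congr 1
    exact huniq _ _ _ _ (hr x) hs (by rw [← hcr x, hx])

end Hom

section Ind

theorem indFun_conj_normalizer [Fintype G] (D : Subgroup G) (theta : D → ℂ) (x : G)
    (theta' : D → ℂ) (h : ∀ (d d' : D), (d' : G) = x * d * x⁻¹ → theta' d = theta d')
    (hx : x ∈ normalizer (D : Set G)) : indFun D theta' = indFun D theta := by
  classical
  funext g
  rw [IndFun.indFun_apply, IndFun.indFun_apply]
  congr 1
  have key : ∀ z : G, extendByZero D theta' z = extendByZero D theta (x * z * x⁻¹) := by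
    intro z
    by_cases hz : z ∈ D
    · have hz' : x * z * x⁻¹ ∈ D := (mem_normalizer_iff.mp hx z).mp hz
      rw [IndFun.extendByZero_mem D theta' hz, IndFun.extendByZero_mem D theta hz']
      exact h ⟨z, hz⟩ ⟨x * z * x⁻¹, hz'⟩ rfl
    · have hz' : x * z * x⁻¹ ∉ D := fun h' => hz ((mem_normalizer_iff.mp hx z).mpr h')
      rw [IndFun.extendByZero_not_mem D theta' hz, IndFun.extendByZero_not_mem D theta hz']
  apply Fintype.sum_equiv (Equiv.mulRight x⁻¹)
  intro y
  rw [key]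
  congr 1
  simp only [Equiv.coe_mulRight]
  group

/-- the restriction of a character to a smaller subgroup pairs non-trivially with the restriction
of a constituent -/
theorem inner_fn_ne_zero [Fintype G] (M : Subgroup G) [hM : M.Normal] [Fintype M] {D : Subgroup G}
    [Fintype D] (hMD : M ≤ D)
    {lam : M →* ℂˣ} {mu : D →* ℂˣ} (hmu : ∀ (m : M), mu ⟨m, hMD m.2⟩ = lam m)
    {χ : G → ℂ} (hχ : IsCharacter G χ)
    (h : classInner (fun d : D => χ d) (fn mu) ≠ 0) :
    classInner (fun n : M => χ n) (fn lam) ≠ 0 := by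
  obtain ⟨b, hb, hab⟩ := Clifford.degree_le_of_constituent (hχ.restrict D)
    (isIrrCharacter_of_unitsHom mu) h
  have h1 : (fun n : M => χ n) = fn lam + fun n : M => b ⟨n, hMD n.2⟩ := by
    funext n
    have := congrFun hab ⟨n, hMD n.2⟩
    rw [Pi.add_apply] at this ⊢
    rw [show fn lam n = ((lam n : ℂˣ) : ℂ) from rfl, ← hmu n]
    exact this
  have hb' : IsCharacter M (fun n : M => b ⟨n, hMD n.2⟩) :=
    hb.comp (Subgroup.inclusion hMD)
  obtain ⟨k, hk⟩ := hb'.classInner_nat (isIrr_fn lam).isCharacter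
  rw [h1, CharBasic.classInner_add_left, (isIrr_fn lam).classInner_self, hk]
  norm_cast
  omega

/-- **Lemma R.** A linear character of an abelian normal subgroup of odd order which is inverted
by some element lies under a real irreducible character. -/
theorem exists_real_over_inverted [Fintype G] (M : Subgroup G) [hM : M.Normal] [Fintype M]
    (hodd : Odd (Nat.card M)) (lam : M →* ℂˣ) (s : G) (hs : cjh M s lam = lam⁻¹) :
    ∃ χ : IrrCharacter G, (∀ g : G, ((χ : G → ℂ) g).im = 0) ∧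
      classInner (fun n : M => (χ : G → ℂ) n) (fn lam) ≠ 0 := by
  classical
  set T := inertia M (fn lam) with hT
  have hMT : M ≤ T := le_inertia (isIrr_fn lam).isClassFunction
  obtain ⟨R, hR⟩ := exists_syl 2 T
  obtain ⟨n, hn, x, hx, hsx⟩ := hR.frattini (H := normalizer (T : Set G)) le_rfl
    (mem_normalizer_inertia hs)
  have hxs : x = n⁻¹ * s := by rw [hsx]; group
  have hxinv : cjh M x lam = lam⁻¹ := by
    have h1 : cjh M n⁻¹ lam = lam := mem_inertia_fn.mp (T.inv_mem hn)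
    rw [hxs, ← cjh_cjh, h1, hs]
  have hMR : M ⊓ R = ⊥ := by
    rw [eq_bot_iff]
    intro y hy
    apply RelSylow.eq_one_of_mem (p := 2) (N := M) (P := R) _ hR.2.1 hy.1 hy.2
    intro h2
    exact (Nat.not_even_iff_odd.mpr hodd) (even_iff_two_dvd.mpr h2)
  obtain ⟨D, hD⟩ : ∃ D : Subgroup G, D = M ⊔ R := ⟨_, rfl⟩
  obtain ⟨mu, hmu⟩ : ∃ mu : D →* ℂˣ, ∀ (x : D) (m : M) (r : G), r ∈ R → (x : G) = m * r →
      mu x = lam m := by
    rw [hD]
    exact exists_ext R hMR hR.1
  have hMD : M ≤ D := by rw [hD]; exact le_sup_left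
  have hRD : R ≤ D := by rw [hD]; exact le_sup_right
  have hDT : D ≤ T := by rw [hD]; exact sup_le hMT hR.1
  have hmem : ∀ d ∈ D, ∃ m ∈ M, ∃ r ∈ R, m * r = d := by
    intro d hd
    rw [hD] at hd
    exact mem_sup_of_normal_left.mp hd
  have hmuM : ∀ m : M, mu ⟨m, hMD m.2⟩ = lam m := fun m =>
    hmu _ m 1 R.one_mem (by simp)
  -- `x` normalizes `D`
  have hxD : ∀ d ∈ D, ∀ y ∈ normalizer (R : Set G), y * d * y⁻¹ ∈ D := by
    intro d hd y hy
    obtain ⟨m, hm, r, hr, rfl⟩ := hmem d hd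
    have : y * (m * r) * y⁻¹ = (y * m * y⁻¹) * (y * r * y⁻¹) := by group
    rw [this]
    exact D.mul_mem (hMD (hM.conj_mem m hm y)) (hRD ((mem_normalizer_iff.mp hy r).mp hr))
  have hxN : x ∈ normalizer (D : Set G) := by
    rw [mem_normalizer_iff]
    intro g
    refine ⟨fun h => hxD g h x hx, fun h => ?_⟩
    have h2 := hxD _ h x⁻¹ (inv_mem hx)
    have h3 : x⁻¹ * (x * g * x⁻¹) * x⁻¹⁻¹ = g := by group
    rwa [h3] at h2
  set Θ : G → ℂ := indFun D (fn mu) with hΘ
  have hΘc : IsCharacter G Θ := (isIrrCharacter_of_unitsHom mu).isCharacter.indFun D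
  have hΘreal : (fun g => conj (Θ g)) = Θ := by
    rw [hΘ, ← IndFun.indFun_conj]
    apply indFun_conj_normalizer D _ x _ _ hxN
    intro d d' hd
    obtain ⟨m, hm, r, hr, hmr⟩ := hmem d d.2
    have h1 : mu d = lam ⟨m, hm⟩ := hmu d ⟨m, hm⟩ r hr hmr.symm
    have h2 : mu d' = lam ⟨x * m * x⁻¹, hM.conj_mem m hm x⟩ := by
      apply hmu d' ⟨x * m * x⁻¹, hM.conj_mem m hm x⟩ (x * r * x⁻¹)
        ((mem_normalizer_iff.mp hx r).mp hr)
      rw [hd, ← hmr]
      group
    have h3 := DFunLike.congr_fun hxinv ⟨m, hm⟩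
    rw [cjh_apply] at h3
    show conj ((mu d : ℂˣ) : ℂ) = ((mu d' : ℂˣ) : ℂ)
    rw [LinChar.conj_coe, h1, h2, h3]
    rfl
  -- coefficients
  obtain ⟨a, ha, hΘa⟩ := hΘc.exists_coeff
  have he : ∀ χ : IrrCharacter G, ∃ e : ℕ, classInner (fun n : M => (χ : G → ℂ) n) (fn lam) = e :=
    fun χ => (χ.2.isCharacter.restrict M).classInner_nat (isIrr_fn lam).isCharacter
  choose e he using he
  have hae : ∀ χ, a χ ≠ 0 → e χ ≠ 0 := by
    intro χ hχ h0
    apply inner_fn_ne_zero M hMD hmuM χ.2.isCharacter _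
    · rw [he χ, h0]; norm_num
    · intro h1
      apply hχ
      have h2 : classInner Θ (χ : G → ℂ) = classInner (fn mu) (fun d : D => (χ : G → ℂ) d) :=
        IndFun.frobenius_reciprocity D _ _ χ.2.isClassFunction
      rw [← CharBasic.conj_classInner (fun d : D => (χ : G → ℂ) d) (fn mu), h1, map_zero, ha] at h2
      exact_mod_cast h2
  have hdeg : ∀ χ : IrrCharacter G, e χ ≠ 0 → (χ : G → ℂ) 1 = e χ * (T.index : ℂ) := by
    intro χ hχ
    have := degree_clifford χ.2 (isIrr_fn lam) (by rw [he]; exact_mod_cast hχ)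
    rw [this, he, fn_one, mul_one]
  have hsum : (∑ χ : IrrCharacter G, a χ * e χ) * T.index = D.index := by
    have h1 : Θ 1 = (D.index : ℂ) := by
      rw [hΘ, IndFun.indFun_one]
      show (D.index : ℂ) * ((mu 1 : ℂˣ) : ℂ) = _
      rw [map_one, Units.val_one, mul_one]
    have h2 : Θ 1 = ∑ χ : IrrCharacter G, (a χ : ℂ) * (χ : G → ℂ) 1 := by
      conv_lhs => rw [hΘa]
      rw [Finset.sum_apply]
      rfl
    rw [h1] at h2
    have h3 : (D.index : ℂ) = ((∑ χ : IrrCharacter G, a χ * e χ : ℕ) : ℂ) * (T.index : ℂ) := by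
      rw [h2, Nat.cast_sum, Finset.sum_mul]
      apply Finset.sum_congr rfl
      intro χ _
      by_cases h4 : a χ = 0
      · rw [h4]; simp
      · rw [hdeg χ (hae χ h4)]
        push_cast
        ring
    exact_mod_cast h3.symm
  have hDR : Odd (D.relIndex T) := by
    have h1 : R.relIndex D * D.relIndex T = R.relIndex T :=
      Subgroup.relIndex_mul_relIndex R D T hRD hDT
    rw [← Nat.not_even_iff_odd, even_iff_two_dvd]
    intro h2
    apply hR.2.2
    rw [← h1]
    exact dvd_mul_of_dvd_right h2 _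
  have hsum' : (∑ χ : IrrCharacter G, a χ * e χ) = D.relIndex T := by
    have h1 : D.relIndex T * T.index = D.index := Subgroup.relIndex_mul_index hDT
    have h2 : 0 < T.index := Nat.pos_of_ne_zero (Subgroup.index_ne_zero_of_finite)
    exact Nat.eq_of_mul_eq_mul_right h2 (by rw [hsum, h1])
  have hconj_a : ∀ χ, a (irrConj G χ) = a χ := by
    intro χ
    have h1 : classInner Θ (irrConj G χ : G → ℂ) = conj (classInner Θ (χ : G → ℂ)) := by
      have h2 : classInner (fun g => conj (Θ g)) (fun g => conj ((χ : G → ℂ) g)) =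
        classInner (χ : G → ℂ) Θ := CharBasic.classInner_conj_conj _ _
      rw [hΘreal] at h2
      rw [CharBasic.conj_classInner]
      exact h2
    rw [ha, ha, Complex.conj_natCast] at h1
    exact_mod_cast h1
  have hconj_e : ∀ χ, e (irrConj G χ) = e χ := by
    intro χ
    have h1 : classInner (fun n : M => (irrConj G χ : G → ℂ) n) (fn lam) =
        conj (classInner (fun n : M => (χ : G → ℂ) n) (fn lam⁻¹)) := by
      have h2 : classInner (fun n : M => conj ((χ : G → ℂ) n)) (fun n : M => conj (fn lam⁻¹ n)) =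
        classInner (fn lam⁻¹) (fun n : M => (χ : G → ℂ) n) := CharBasic.classInner_conj_conj _ _
      rw [CharBasic.conj_classInner, ← h2, ← fn_inv, inv_inv_hom]
      rfl
    rw [← hs, fn_cjh, classInner_cj_res χ.2.isClassFunction, he, he, Complex.conj_natCast] at h1
    exact_mod_cast h1
  obtain ⟨χ, hχr, hχo⟩ := exists_real_of_odd_sum (fun χ => a χ * e χ)
    (fun χ => by rw [hconj_a, hconj_e]) (by rw [hsum']; exact hDR)
  refine ⟨χ, hχr, ?_⟩
  rw [he]
  have : e χ ≠ 0 := by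
    intro h0
    rw [h0, mul_zero] at hχo
    exact absurd hχo (by decide)
  exact_mod_cast this

/-- **Lemma R2.** A real linear character of a complemented normal subgroup lies under a real
irreducible character. -/
theorem exists_real_over_complement [Fintype G] (M H : Subgroup G) [hM : M.Normal] [Fintype M]
    (h1 : M ⊔ H = ⊤) (h2 : M ⊓ H = ⊥) (lam : M →* ℂˣ) (hlam : lam⁻¹ = lam) :
    ∃ χ : IrrCharacter G, (∀ g : G, ((χ : G → ℂ) g).im = 0) ∧
      classInner (fun n : M => (χ : G → ℂ) n) (fn lam) ≠ 0 := by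
  classical
  set I := inertia M (fn lam) with hI
  have hMI : M ≤ I := le_inertia (isIrr_fn lam).isClassFunction
  have hMR : M ⊓ (I ⊓ H) = ⊥ := by
    rw [eq_bot_iff, ← h2]
    exact inf_le_inf_left _ inf_le_right
  obtain ⟨D, hD⟩ : ∃ D : Subgroup G, D = M ⊔ (I ⊓ H) := ⟨_, rfl⟩
  obtain ⟨mu, hmu⟩ : ∃ mu : D →* ℂˣ, ∀ (x : D) (m : M) (r : G), r ∈ I ⊓ H → (x : G) = m * r →
      mu x = lam m := by
    rw [hD]
    exact exists_ext (I ⊓ H) hMR inf_le_left
  have hMD : M ≤ D := by rw [hD]; exact le_sup_left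
  have hmem : ∀ d ∈ D, ∃ m ∈ M, ∃ r ∈ I ⊓ H, m * r = d := by
    intro d hd
    rw [hD] at hd
    exact mem_sup_of_normal_left.mp hd
  have hDI : D = I := by
    apply le_antisymm
    · rw [hD]; exact sup_le hMI inf_le_left
    · intro x hx
      obtain ⟨m, hm, r, hr, rfl⟩ := mem_sup_of_normal_left.mp (show x ∈ M ⊔ H by rw [h1]; trivial)
      have hr' : r ∈ I := by
        have := I.mul_mem (I.inv_mem (hMI hm)) hx
        simpa using this
      exact D.mul_mem (hMD hm) (by rw [hD]; exact mem_sup_right ⟨hr', hr⟩)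
  have hT : ∀ g : G, g ∈ D ↔ cj M g (fn lam) = fn lam := by
    intro g
    rw [hDI]
    exact mem_inertia
  have hres : resTo M D hMD (fn mu) = fn lam := by
    funext m
    show ((mu _ : ℂˣ) : ℂ) = ((lam m : ℂˣ) : ℂ)
    rw [hmu _ m 1 (one_mem _) (by simp)]
  have hne : classInner (resTo M D hMD (fn mu)) (fn lam) ≠ 0 := by
    rw [hres, (isIrr_fn lam).classInner_self]
    exact one_ne_zero
  obtain ⟨hirr, hin⟩ := corr_irr hMD (isIrr_fn lam) hT (isIrrCharacter_of_unitsHom mu) hne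
  refine ⟨⟨indFun D (fn mu), hirr⟩, ?_, ?_⟩
  · rw [← conj_eq_iff_real]
    show (fun g => conj (indFun D (fn mu) g)) = indFun D (fn mu)
    rw [← IndFun.indFun_conj]
    congr 1
    funext d
    obtain ⟨m, hm, r, hr, hmr⟩ := hmem d d.2
    show conj ((mu d : ℂˣ) : ℂ) = ((mu d : ℂˣ) : ℂ)
    have h4 := DFunLike.congr_fun hlam ⟨m, hm⟩
    rw [LinChar.conj_coe, hmu d ⟨m, hm⟩ r hr hmr.symm]
    exact congrArg _ h4
  · show classInner (fun n : M => indFun D (fn mu) n) (fn lam) ≠ 0
    have hin' : classInner (fun n : M => indFun D (fn mu) n) (fn lam) =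
      classInner (resTo M D hMD (fn mu)) (fn lam) := hin
    rw [hin']
    exact hne

/-- **Lemma C.** If `χ` lies over the linear character `lam` and has degree prime to `p`, then
every `p`-subgroup fixes a conjugate of `lam`. -/
theorem exists_fixed_conj [Fintype G] {p : ℕ} [Fact p.Prime] (M : Subgroup G) [hM : M.Normal]
    [Fintype M] (lam : M →* ℂˣ) (χ : IrrCharacter G)
    (hχ : classInner (fun n : M => (χ : G → ℂ) n) (fn lam) ≠ 0)
    (hp : ¬ p ∣ charDegree (χ : G → ℂ)) (S : Subgroup G) (hS : IsPGroup p S) :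
    ∃ g : G, ∀ x ∈ S, cjh M x (cjh M g lam) = cjh M g lam := by
  classical
  set I := inertia M (fn lam) with hI
  obtain ⟨e, he⟩ : ∃ e : ℕ, classInner (fun n : M => (χ : G → ℂ) n) (fn lam) = e :=
    (χ.2.isCharacter.restrict M).classInner_nat (isIrr_fn lam).isCharacter
  have hdeg : charDegree (χ : G → ℂ) = e * I.index := by
    have h1 := degree_clifford χ.2 (isIrr_fn lam) hχ
    rw [he, fn_one, mul_one] at h1
    have h2 : ((charDegree (χ : G → ℂ) : ℕ) : ℂ) = (χ : G → ℂ) 1 := BlockDeg.charDegree_cast_irr χ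
    rw [h1] at h2
    exact_mod_cast h2
  have hpI : ¬ p ∣ I.index := fun h => hp (by rw [hdeg]; exact dvd_mul_of_dvd_right h _)
  obtain ⟨Q, hQ⟩ := exists_syl p I
  have hQtop : IsSyl p Q ⊤ := by
    refine ⟨le_top, hQ.2.1, ?_⟩
    rw [relIndex_top_right]
    have h1 : Q.relIndex I * I.index = Q.index := Subgroup.relIndex_mul_index hQ.1
    rw [← h1, (Fact.out : p.Prime).dvd_mul]
    push Not
    exact ⟨hQ.2.2, hpI⟩
  obtain ⟨h, -, hh⟩ := hQtop.exists_conj_le hS le_top
  refine ⟨h⁻¹, fun x hx => ?_⟩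
  have h1 : h⁻¹ * x * h ∈ I := hQ.1 (mem_conj_iff.mp (hh hx))
  rw [hI, mem_inertia_fn] at h1
  calc cjh M x (cjh M h⁻¹ lam) = cjh M ((h⁻¹ * x * h) * h⁻¹) lam := by
        rw [cjh_cjh]
        congr 1
        group
    _ = cjh M h⁻¹ (cjh M (h⁻¹ * x * h) lam) := (cjh_cjh _ _ _).symm
    _ = cjh M h⁻¹ lam := by rw [h1]

/-- **Lemma D.** No non-trivial linear character of `M` is fixed by `S` if `C_M(S) = 1`. -/
theorem eq_one_of_fixed [Finite G] (M : Subgroup G) [hM : M.Normal] (hab : IsMulCommutative M)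
    (S : Subgroup G) (hcop : (Nat.card M).Coprime (Nat.card S))
    (hfix : M ⊓ centralizer (S : Set G) = ⊥) (lam : M →* ℂˣ)
    (hlam : ∀ x ∈ S, cjh M x lam = lam) : lam = 1 := by
  have h1 : ⁅M, S⁆ = M := by
    have := AbelianCoprime.abelian_sup (A := M) (K := S) hab
      (by rw [normalizer_eq_top]; exact le_top) hcop
    rwa [hfix, bot_sup_eq] at this
  have h2 : ⁅M, S⁆ ≤ lam.ker.map M.subtype := by
    rw [commutator_le]
    intro m hm x hx
    rw [commutatorElement_def]
    refine ⟨⟨m, hm⟩ * ⟨x * m⁻¹ * x⁻¹, hM.conj_mem _ (M.inv_mem hm) x⟩, ?_, ?_⟩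
    · show _ ∈ lam.ker
      rw [MonoidHom.mem_ker, map_mul]
      have h3 := DFunLike.congr_fun (hlam x hx) (⟨m, hm⟩ : M)⁻¹
      rw [cjh_apply, map_inv] at h3
      have h4 : lam ⟨x * m⁻¹ * x⁻¹, hM.conj_mem _ (M.inv_mem hm) x⟩ = (lam ⟨m, hm⟩)⁻¹ := h3
      rw [h4, mul_inv_cancel]
    · show m * (x * m⁻¹ * x⁻¹) = _
      group
  ext m
  have h3 : (m : G) ∈ lam.ker.map M.subtype := h2 (by rw [h1]; exact m.2)
  obtain ⟨m', hm', h4⟩ := h3
  have h5 : m' = m := Subtype.ext h4
  rw [h5] at hm'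
  have : lam m = 1 := hm'
  rw [this]
  rfl

end Ind

end Cfsg.Agent.Lib.H81Real1
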