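import Cfsg.Agent.Lib.H81TI2
import Cfsg.Agent.Lib.StrongEmb
import Cfsg.Agent.Lib.StrongEmbPt
import Cfsg.Agent.Lib.InvAct
import Cfsg.Agent.S0042

/-!
# Groups with TI element centralizers: the strongly embedded subgroup (helper81)
-/

set_option autoImplicit false
open Cfsg

namespace Cfsg.Agent.Lib.H81TI3

open Subgroup Cfsg.Agent.Lib Cfsg.Agent.Lib.CN H81TI1 MulAction InvAct

universe u

/-- the configuration -/
structure Cfg (G : Type u) [Group G] [Finite G] (H : Subgroup G) : Prop where
  ct : CT G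
  max : IsMaxNilp H
  nn : ∀ N : Subgroup G, N.Normal → Group.IsNilpotent N → N = ⊥
  syl : ∃ T : Sylow 2 G, (T : Subgroup G) ≤ H
  even : Even (Nat.card G)

variable {G : Type u} [Group G] [Finite G] {H : Subgroup G} (C : Cfg G H)

include C

theorem Cfg.two_dvd : 2 ∣ Nat.card H := by
  obtain ⟨T, hT⟩ := C.syl
  have h1 : 2 ∣ Nat.card (T : Subgroup G) := T.dvd_card_of_dvd_card C.even.two_dvd
  exact h1.trans (Subgroup.card_dvd_of_le hT)

theorem Cfg.odd_index : Odd H.index := by
  obtain ⟨T, hT⟩ := C.syl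
  rw [← Nat.not_even_iff_odd]
  intro h
  exact T.not_dvd_index (h.two_dvd.trans (Subgroup.index_dvd_of_le hT))

theorem Cfg.exists_central : ∃ t ∈ H, orderOf t = 2 ∧ ∀ h ∈ H, h * t = t * h :=
  exists_central_of_dvd C.max.1 C.two_dvd

theorem Cfg.ne_bot : H ≠ ⊥ := by
  rintro rfl
  have h := C.two_dvd
  rw [Subgroup.card_bot] at h
  norm_num at h

theorem Cfg.ne_top : normalizer (H : Set G) ≠ ⊤ := by
  intro h
  exact C.ne_bot (C.nn H (Subgroup.normalizer_eq_top_iff.mp h) C.max.1)

theorem Cfg.mem_H {x : G} (hx : orderOf x = 2) (hxM : x ∈ normalizer (H : Set G)) : x ∈ H := by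
  have h1 : (H.subgroupOf (normalizer (H : Set G))).Normal := inferInstance
  have h2 := Subgroup.pow_index_mem (H.subgroupOf (normalizer (H : Set G))) ⟨x, hxM⟩
  have h3 : Odd (H.subgroupOf (normalizer (H : Set G))).index := by
    have h4 : (H.subgroupOf (normalizer (H : Set G))).index ∣ H.index :=
      Subgroup.relIndex_dvd_index_of_le Subgroup.le_normalizer
    exact Odd.of_dvd_nat C.odd_index h4
  obtain ⟨k, hk⟩ := h3
  rw [Subgroup.mem_subgroupOf] at h2
  have h5 : x ^ (H.subgroupOf (normalizer (H : Set G))).index = x := by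
    rw [hk, pow_succ, pow_mul, ← hx, pow_orderOf_eq_one, one_pow, one_mul]
  have h6 : x ^ (H.subgroupOf (normalizer (H : Set G))).index ∈ H := h2
  rwa [h5] at h6

theorem Cfg.strong : Cfsg.IsStronglyEmbedded (normalizer (H : Set G)) := by
  obtain ⟨t, htH, ht, -⟩ := C.exists_central
  refine StrongEmbPt.of_fix C.ne_top (StrongEmb.even_card_of_mem (Subgroup.le_normalizer htH) ht) ?_
  intro x g hx hxM hg
  have hx1 : x ≠ 1 := by
    rintro rfl
    rw [orderOf_one] at hx
    norm_num at hx
  refine C.ct.ti C.max (C.mem_H hx hxM) hx1 (C.mem_H ?_ hg)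
  have h1 : orderOf (g * x * g⁻¹) = orderOf x := by
    have := orderOf_injective (MulAut.conj g).toMonoidHom (MulAut.conj g).injective x
    exact this
  rw [h1, hx]

theorem Cfg.uniqueFix : UniqueFix G (G ⧸ normalizer (H : Set G)) :=
  StrongEmbPt.uniqueFix C.strong

/-- two distinct involutions in `H` -/
theorem Cfg.exists_two {t : G} (htH : t ∈ H) (ht : orderOf t = 2) :
    ∃ s ∈ H, orderOf s = 2 ∧ s ≠ t := by
  classical
  by_contra hcon
  push Not at hcon
  obtain ⟨t', ht'H, ht', hc⟩ := C.exists_central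
  have htt : t' = t := hcon t' ht'H ht'
  subst htt
  have ht1 : t' ≠ 1 := by
    rintro rfl
    rw [orderOf_one] at ht'
    norm_num at ht'
  have hCt : centralizer ({t'} : Set G) = H := C.max.centralizer_eq C.ct.isCN ht1 hc
  have hMH : normalizer (H : Set G) = H := by
    apply le_antisymm _ Subgroup.le_normalizer
    intro m hm
    rw [← hCt, mem_centralizer_singleton_iff]
    have h1 : m * t' * m⁻¹ = t' := by
      apply hcon
      · exact (Subgroup.mem_normalizer_iff.mp hm t').mp htH
      · have := orderOf_injective (MulAut.conj m).toMonoidHom (MulAut.conj m).injective t'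
        exact this.trans ht'
    calc m * t' = m * t' * m⁻¹ * m := by group
      _ = t' * m := by rw [h1]
  have hF : Cfsg.IsFrobeniusComplement H := by
    refine ⟨C.ne_bot, ?_, ?_⟩
    · intro h
      apply C.ne_top
      rw [hMH, h]
    · intro g hg
      rw [eq_bot_iff]
      rintro x ⟨hx, hxg⟩
      rw [Subgroup.mem_bot]
      by_contra hx1
      obtain ⟨y, hy, hyx⟩ := hxg
      have hyx' : g * y * g⁻¹ = x := hyx
      apply hg
      rw [← hMH]
      apply C.ct.ti C.max (y := y) hy
      · rintro rfl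
        apply hx1
        rw [← hyx']; group
      · rw [hyx']; exact hx
  obtain ⟨N, hN, hNn, hNnil⟩ := Cfsg.Agent.S0042.result H hF
  obtain ⟨x, hx, hx1⟩ := Cfsg.Agent.Lib.FrobGroup.exists_kernel_ne_one hF
  rw [← hN] at hx
  have h2 := C.nn N hNn hNnil
  rw [h2] at hx
  exact hx1 ((Subgroup.mem_bot).mp hx)

end Cfsg.Agent.Lib.H81TI3
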