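import Cfsg.Agent.Lib.H81TI3

/-!
# Groups with TI element centralizers: two point stabilizers (helper81)
-/

set_option autoImplicit false
open Cfsg

namespace Cfsg.Agent.Lib.H81TI3

open Subgroup Cfsg.Agent.Lib Cfsg.Agent.Lib.CN H81TI1 MulAction InvAct

universe u

variable {G : Type u} [Group G] [Finite G] {H : Subgroup G} (C : Cfg G H)

/-- the base point -/
abbrev pt (H : Subgroup G) : G ⧸ normalizer (H : Set G) := QuotientGroup.mk 1

omit [Finite G] in
theorem smul_pt_iff {g : G} : g • pt H = pt H ↔ g ∈ normalizer (H : Set G) :=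
  StrongEmbPt.smul_one_eq_iff g

include C

theorem Cfg.exists_swap {y : G ⧸ normalizer (H : Set G)} (hy : y ≠ pt H) :
    ∃ u : G, u ∈ invSwap G (pt H) y := by
  obtain ⟨t, htH, ht, -⟩ := C.exists_central
  obtain ⟨g, rfl⟩ := QuotientGroup.mk_surjective y
  have h1 : orderOf (g * t * g⁻¹) = 2 := by
    have := orderOf_injective (MulAut.conj g).toMonoidHom (MulAut.conj g).injective t
    exact this.trans ht
  have h2 : t • pt H = pt H := smul_pt_iff.mpr (Subgroup.le_normalizer htH)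
  have h3 : (g * t * g⁻¹) • (QuotientGroup.mk g : G ⧸ normalizer (H : Set G)) = QuotientGroup.mk g := by
    rw [StrongEmbPt.smul_mk_eq_iff]
    have : g⁻¹ * (g * t * g⁻¹) * g = t := by group
    rw [this]
    exact Subgroup.le_normalizer htH
  obtain ⟨w, hw, -, hw2⟩ := InvAct.exists_swap C.uniqueFix ht h1 h2 h3 (Ne.symm hy)
  exact ⟨w, hw, hw2⟩

theorem Cfg.not_mem_of_swap {y : G ⧸ normalizer (H : Set G)} (hy : y ≠ pt H) {u : G}
    (hu : u ∈ invSwap G (pt H) y) : u ∉ normalizer (H : Set G) := by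
  intro h
  apply hy
  rw [← hu.2, smul_pt_iff.mpr h]

theorem Cfg.inf_eq_one {y : G ⧸ normalizer (H : Set G)} (hy : y ≠ pt H) {d : G} (hd : d ∈ H)
    (hdy : d • y = y) : d = 1 := by
  obtain ⟨u, hu⟩ := C.exists_swap hy
  have huM := C.not_mem_of_swap hy hu
  have hu2 : u • y = pt H := InvAct.smul_of_swap hu.1 hu.2
  have huu : u * u = 1 := (InvAct.orderOf_two_iff.1 hu.1).1
  have hui : u⁻¹ = u := inv_eq_of_mul_eq_one_left huu
  by_contra hd1
  have heM : u * d * u⁻¹ ∈ normalizer (H : Set G) := by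
    rw [← smul_pt_iff, hui, mul_smul, mul_smul, hu.2, hdy, hu2]
  have hdM' : u⁻¹ * d * u ∈ normalizer (H : Set G) := by
    rw [← smul_pt_iff, hui, mul_smul, mul_smul, hu.2, hdy, hu2]
  have hc1 : (u * d * u⁻¹) * d * (u * d * u⁻¹)⁻¹ * d⁻¹ ∈ H := by
    apply H.mul_mem _ (H.inv_mem hd)
    exact (Subgroup.mem_normalizer_iff.mp heM d).mp hd
  have hc2 : u⁻¹ * ((u * d * u⁻¹) * d * (u * d * u⁻¹)⁻¹ * d⁻¹) * u ∈ H := by
    have h1 : u⁻¹ * ((u * d * u⁻¹) * d * (u * d * u⁻¹)⁻¹ * d⁻¹) * u =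
        d * ((u⁻¹ * d * u) * d⁻¹ * (u⁻¹ * d * u)⁻¹) := by group
    rw [h1]
    apply H.mul_mem hd
    exact (Subgroup.mem_normalizer_iff.mp hdM' d⁻¹).mp (H.inv_mem hd)
  have hc : (u * d * u⁻¹) * d * (u * d * u⁻¹)⁻¹ * d⁻¹ = 1 := by
    by_contra hne
    apply huM
    have h2 := C.ct.ti C.max (g := u⁻¹) hc1 hne (by rw [inv_inv]; exact hc2)
    rwa [hui] at h2
  have hcom : (u * d * u⁻¹) * d = d * (u * d * u⁻¹) := by
    calc (u * d * u⁻¹) * d = ((u * d * u⁻¹) * d * (u * d * u⁻¹)⁻¹ * d⁻¹) * (d * (u * d * u⁻¹)) := by group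
      _ = d * (u * d * u⁻¹) := by rw [hc, one_mul]
  have he : u * d * u⁻¹ ∈ H := C.ct.cent_le C.max hd hd1 (mem_centralizer_singleton_iff.mpr hcom)
  exact huM (C.ct.ti C.max hd hd1 he)

theorem Cfg.card_pair {y : G ⧸ normalizer (H : Set G)} (hy : y ≠ pt H) :
    Nat.card ↥(stabilizer G (pt H) ⊓ stabilizer G y : Subgroup G) = (invSwap G (pt H) (pt H)).ncard := by
  obtain ⟨t, htH, ht, -⟩ := C.exists_central
  have ht' : t ∈ invSwap G (pt H) (pt H) := ⟨ht, smul_pt_iff.mpr (Subgroup.le_normalizer htH)⟩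
  rw [InvAct.card_two_point_fix C.uniqueFix (Ne.symm hy) ht']
  have h1 : (stabilizer G y ⊓ centralizer ({t} : Set G) : Subgroup G) = ⊥ := by
    rw [eq_bot_iff]
    rintro d ⟨hd1, hd2⟩
    rw [Subgroup.mem_bot]
    apply C.inf_eq_one hy _ hd1
    refine C.ct.cent_le C.max htH ?_ hd2
    rintro rfl
    rw [orderOf_one] at ht
    norm_num at ht
  rw [h1, Subgroup.card_bot, mul_one]

theorem Cfg.inverts {y : G ⧸ normalizer (H : Set G)} (hy : y ≠ pt H) {u : G}
    (hu : u ∈ invSwap G (pt H) y) {d : G} (hd : d ∈ (stabilizer G (pt H) ⊓ stabilizer G y : Subgroup G)) :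
    u * d * u⁻¹ = d⁻¹ := by
  have hu2 : u • y = pt H := InvAct.smul_of_swap hu.1 hu.2
  have huu : u * u = 1 := (InvAct.orderOf_two_iff.1 hu.1).1
  have hui : u⁻¹ = u := inv_eq_of_mul_eq_one_left huu
  have h1 := InvAct.card_two_point' C.uniqueFix (Ne.symm hy) hu
  rw [C.card_pair hy] at h1
  have hpos : 0 < (invSwap G (pt H) (pt H)).ncard := by
    rw [← C.card_pair hy]; exact Nat.card_pos
  have h2 : Nat.card ↥(stabilizer G (pt H) ⊓ centralizer ({u} : Set G) : Subgroup G) = 1 :=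
    (Nat.mul_eq_left hpos.ne').mp h1.symm
  have h3 : (stabilizer G (pt H) ⊓ centralizer ({u} : Set G) : Subgroup G) = ⊥ :=
    Subgroup.card_eq_one.mp h2
  set D : Subgroup G := stabilizer G (pt H) ⊓ stabilizer G y with hD
  have huD : ∀ x ∈ D, u * x * u⁻¹ ∈ D := by
    intro x hx
    have hx1 : x • pt H = pt H := hx.1
    have hx2 : x • y = y := hx.2
    refine ⟨?_, ?_⟩
    · show (u * x * u⁻¹) • pt H = pt H
      rw [hui, mul_smul, mul_smul, hu.2, hx2, hu2]
    · show (u * x * u⁻¹) • y = y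
      rw [hui, mul_smul, mul_smul, hu2, hx1, hu.2]
  let φ : D → D := fun x => ⟨(x : G)⁻¹ * (u * x * u⁻¹), D.mul_mem (D.inv_mem x.2) (huD x x.2)⟩
  have hφi : Function.Injective φ := by
    intro a b hab
    have h4 : (a : G)⁻¹ * (u * a * u⁻¹) = (b : G)⁻¹ * (u * b * u⁻¹) := congrArg Subtype.val hab
    have h5 : (b : G) * (a : G)⁻¹ ∈ (stabilizer G (pt H) ⊓ centralizer ({u} : Set G) : Subgroup G) := by
      refine ⟨(D.mul_mem b.2 (D.inv_mem a.2)).1, ?_⟩
      apply mem_centralizer_singleton_iff.mpr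
      calc (b : G) * (a : G)⁻¹ * u = b * ((a : G)⁻¹ * (u * a * u⁻¹)) * (u * (a : G)⁻¹) := by group
        _ = b * ((b : G)⁻¹ * (u * b * u⁻¹)) * (u * (a : G)⁻¹) := by rw [h4]
        _ = u * ((b : G) * (a : G)⁻¹) := by group
    rw [h3, Subgroup.mem_bot] at h5
    exact Subtype.ext (mul_inv_eq_one.mp h5).symm
  have hφs : Function.Surjective φ := Finite.surjective_of_injective hφi
  obtain ⟨x, hx⟩ := hφs ⟨d, hd⟩
  have hx' : (x : G)⁻¹ * (u * x * u⁻¹) = d := congrArg Subtype.val hx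
  rw [← hx']
  calc u * ((x : G)⁻¹ * (u * x * u⁻¹)) * u⁻¹ = u * (x : G)⁻¹ * u * x * (u⁻¹ * u⁻¹) := by group
    _ = u * (x : G)⁻¹ * u⁻¹ * x * (u⁻¹ * u⁻¹) := by nth_rewrite 2 [← hui]; rfl
    _ = u * (x : G)⁻¹ * u⁻¹ * x := by rw [hui, huu, mul_one]
    _ = ((x : G)⁻¹ * (u * x * u⁻¹))⁻¹ := by group

theorem Cfg.card_M {y : G ⧸ normalizer (H : Set G)} (hy : y ≠ pt H) :
    Nat.card (normalizer (H : Set G)) =
      Nat.card ↥(stabilizer G (pt H) ⊓ stabilizer G y : Subgroup G) * Nat.card H := by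
  obtain ⟨t, htH, ht, hc⟩ := C.exists_central
  have ht1 : t ≠ 1 := by
    rintro rfl
    rw [orderOf_one] at ht
    norm_num at ht
  have ht' : t ∈ invSwap G (pt H) (pt H) := ⟨ht, smul_pt_iff.mpr (Subgroup.le_normalizer htH)⟩
  rw [InvAct.card_conj_orbit (normalizer (H : Set G)) t, C.card_pair hy]
  congr 1
  · congr 1
    ext v
    constructor
    · rintro ⟨k, hk, rfl⟩
      refine ⟨?_, ?_⟩
      · have := orderOf_injective (MulAut.conj k).toMonoidHom (MulAut.conj k).injective t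
        exact this.trans ht
      · rw [smul_pt_iff]
        exact Subgroup.mul_mem _ (Subgroup.mul_mem _ hk (Subgroup.le_normalizer htH)) (Subgroup.inv_mem _ hk)
    · intro hv
      obtain ⟨k, hk1, -, hk3⟩ := InvAct.exists_conj_fix C.uniqueFix (Ne.symm hy) ht' hv
      exact ⟨k, smul_pt_iff.mp hk1, hk3⟩
  · have h1 : centralizer ({t} : Set G) = H := C.max.centralizer_eq C.ct.isCN ht1 hc
    rw [h1]
    have h2 : normalizer (H : Set G) ⊓ H = H := inf_eq_right.mpr Subgroup.le_normalizer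
    rw [h2]

/-- all involutions of `H` are central in `H`. -/
theorem Cfg.cent_invol {s : G} (hs : s ∈ H) (os : orderOf s = 2) : centralizer ({s} : Set G) = H := by
  obtain ⟨t, htH, ht, hc⟩ := C.exists_central
  have hs1 : s ≠ 1 := by
    rintro rfl
    rw [orderOf_one] at os
    norm_num at os
  obtain ⟨y, hy⟩ : ∃ y : G ⧸ normalizer (H : Set G), y ≠ pt H := by
    by_contra hcon
    push Not at hcon
    apply C.ne_top
    rw [Subgroup.eq_top_iff']
    intro g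
    rw [← smul_pt_iff]
    exact hcon _
  have ht' : t ∈ invSwap G (pt H) (pt H) := ⟨ht, smul_pt_iff.mpr (Subgroup.le_normalizer htH)⟩
  have hs' : s ∈ invSwap G (pt H) (pt H) := ⟨os, smul_pt_iff.mpr (Subgroup.le_normalizer hs)⟩
  obtain ⟨k, hk1, -, hk3⟩ := InvAct.exists_conj_fix C.uniqueFix (Ne.symm hy) ht' hs'
  apply C.max.centralizer_eq C.ct.isCN hs1
  intro h hh
  have hkM : k⁻¹ ∈ normalizer (H : Set G) := Subgroup.inv_mem _ (smul_pt_iff.mp hk1)
  have h2 : k⁻¹ * h * k ∈ H := by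
    have := (Subgroup.mem_normalizer_iff.mp hkM h).mp hh
    rwa [inv_inv] at this
  have h3 := hc _ h2
  rw [← hk3]
  calc h * (k * t * k⁻¹) = k * (k⁻¹ * h * k * t) * k⁻¹ := by group
    _ = k * (t * (k⁻¹ * h * k)) * k⁻¹ := by rw [h3]
    _ = k * t * k⁻¹ * h := by group

end Cfsg.Agent.Lib.H81TI3
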